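/-
The length-24 code `Cfsg.golayCode` as a list of 4096 bit masks, for evaluation by `decide`.
A point is numbered `0..22` for a residue and `23` for the extra point; a set of points is encoded by the
natural number with those bits.
-/
import Cfsg.Prelude.Def_Sporadic_a

set_option autoImplicit false
set_option maxRecDepth 100000

namespace Cfsg.Agent.Spor

open scoped Pointwise

/-- number of a point -/
def idx : GolayPt → ℕ
  | none => 23
  | some x => x.val

/-- point with a given number -/
def pt (i : ℕ) : GolayPt := if i = 23 then none else some (i : ZMod 23)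

theorem idx_lt : ∀ p : GolayPt, idx p < 24 := by decide +kernel

theorem pt_idx : ∀ p : GolayPt, pt (idx p) = p := by decide +kernel

theorem idx_pt : ∀ i, i < 24 → idx (pt i) = i := by decide +kernel

theorem idx_injective : Function.Injective idx := fun p q h => by
  rw [← pt_idx p, h, pt_idx q]

/-- mask of a set of points -/
def mask (s : Finset GolayPt) : ℕ := ∑ i ∈ s.image idx, 2 ^ i

theorem testBit_sum_pow (t : Finset ℕ) (j : ℕ) :
    Nat.testBit (∑ i ∈ t, 2 ^ i) j = true ↔ j ∈ t := by
  rw [← Nat.mem_bitIndices, ← List.mem_toFinset, Finset.toFinset_bitIndices_sum_two_pow]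

theorem testBit_mask {s : Finset GolayPt} {j : ℕ} :
    Nat.testBit (mask s) j = true ↔ ∃ p ∈ s, idx p = j := by
  rw [mask, testBit_sum_pow, Finset.mem_image]

theorem testBit_mask_idx {s : Finset GolayPt} {p : GolayPt} :
    Nat.testBit (mask s) (idx p) = true ↔ p ∈ s := by
  rw [testBit_mask]
  exact ⟨fun ⟨q, hq, h⟩ => idx_injective h ▸ hq, fun h => ⟨p, h, rfl⟩⟩

theorem testBit_mask_ge {s : Finset GolayPt} {j : ℕ} (hj : 24 ≤ j) :
    Nat.testBit (mask s) j = false := by
  by_contra h
  rw [Bool.not_eq_false, testBit_mask] at h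
  obtain ⟨p, _, rfl⟩ := h
  exact absurd (idx_lt p) (not_lt.2 hj)

/-- equality of masks can be checked at the 24 bits -/
theorem mask_eq_iff {s : Finset GolayPt} {m : ℕ} :
    mask s = m ↔ (∀ p, (Nat.testBit m (idx p) = true ↔ p ∈ s)) ∧ ∀ j, 24 ≤ j → Nat.testBit m j = false := by
  constructor
  · rintro rfl
    exact ⟨fun p => testBit_mask_idx, fun j hj => testBit_mask_ge hj⟩
  · rintro ⟨h1, h2⟩
    apply Nat.eq_of_testBit_eq
    intro j
    by_cases hj : j < 24
    · have h := (testBit_mask_idx (s := s) (p := pt j)).trans (h1 (pt j)).symm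
      rw [idx_pt j hj] at h
      exact Bool.eq_iff_iff.2 h
    · rw [testBit_mask_ge (not_lt.1 hj), h2 j (not_lt.1 hj)]

/-- set of points of a mask -/
def ofMask (m : ℕ) : Finset GolayPt := Finset.univ.filter fun p => Nat.testBit m (idx p)

theorem mem_ofMask {m : ℕ} {p : GolayPt} : p ∈ ofMask m ↔ Nat.testBit m (idx p) = true := by
  simp [ofMask]

theorem ofMask_mask (s : Finset GolayPt) : ofMask (mask s) = s := by
  ext p; rw [mem_ofMask, testBit_mask_idx]

theorem mask_injective : Function.Injective mask := fun s t h => by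
  rw [← ofMask_mask s, h, ofMask_mask t]

theorem mask_ofMask {m : ℕ} (h : m < 2 ^ 24) : mask (ofMask m) = m := by
  refine mask_eq_iff.2 ⟨fun p => mem_ofMask.symm, fun j hj => ?_⟩
  exact Nat.testBit_lt_two_pow (lt_of_lt_of_le h (Nat.pow_le_pow_right (by norm_num) hj))

theorem mask_lt (s : Finset GolayPt) : mask s < 2 ^ 24 := by
  apply Nat.lt_pow_two_of_testBit
  intro j hj
  exact testBit_mask_ge hj

/-- number of bits of a byte that are set -/
def pc8 (b : ℕ) : ℕ :=
  let x := b - ((b >>> 1) &&& 85)
  let y := (x &&& 51) + ((x >>> 2) &&& 51)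
  (y + (y >>> 4)) &&& 15

theorem pc8_eq : ∀ b, b < 256 → pc8 b = ((List.range 8).filter fun i => Nat.testBit b i).length := by
  decide +kernel

/-- number of the first 24 bits that are set -/
def pc (m : ℕ) : ℕ := pc8 (m &&& 255) + pc8 ((m >>> 8) &&& 255) + pc8 ((m >>> 16) &&& 255)

theorem pc8_shift (m k : ℕ) :
    pc8 ((m >>> k) &&& 255) = ((List.range' k 8).filter fun i => Nat.testBit m i).length := by
  rw [pc8_eq _ (Nat.lt_succ_of_le Nat.and_le_right), List.range'_eq_map_range, List.filter_map,
    List.length_map]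
  congr 1
  apply List.filter_congr
  intro i hi
  have hi : i < 8 := List.mem_range.1 hi
  have h255 : Nat.testBit 255 i = true := by revert i hi; decide
  simp [Nat.testBit_and, Nat.testBit_shiftRight, h255]

theorem pc_eq (m : ℕ) : pc m = ((List.range 24).filter fun i => Nat.testBit m i).length := by
  have e : List.range 24 = List.range' 0 8 ++ List.range' 8 8 ++ List.range' 16 8 := by decide
  rw [e, List.filter_append, List.filter_append, List.length_append, List.length_append, ← pc8_shift,
    ← pc8_shift, ← pc8_shift, Nat.shiftRight_zero]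
  rfl

theorem pc_mask (s : Finset GolayPt) : pc (mask s) = s.card := by
  rw [← Finset.card_image_of_injective s idx_injective, pc_eq,
    ← List.toFinset_card_of_nodup (List.nodup_range.filter _)]
  congr 1
  ext j
  simp only [List.toFinset_filter, List.toFinset_range, Finset.mem_filter, Finset.mem_range,
    testBit_mask, Finset.mem_image]
  exact ⟨fun h => h.2, fun h => ⟨by obtain ⟨p, _, rfl⟩ := h; exact idx_lt p, h⟩⟩

theorem mask_inter (s t : Finset GolayPt) : mask (s ∩ t) = mask s &&& mask t := by
  refine mask_eq_iff.2 ⟨fun p => ?_, fun j hj => ?_⟩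
  · simp [testBit_mask_idx]
  · simp [testBit_mask_ge hj]

theorem mask_union (s t : Finset GolayPt) : mask (s ∪ t) = mask s ||| mask t := by
  refine mask_eq_iff.2 ⟨fun p => ?_, fun j hj => ?_⟩
  · simp [testBit_mask_idx]
  · simp [testBit_mask_ge hj]

theorem card_inter_eq (s t : Finset GolayPt) : (s ∩ t).card = pc (mask s &&& mask t) := by
  rw [← mask_inter, pc_mask]

theorem mask_symmDiff (s t : Finset GolayPt) : mask (symmDiff s t) = mask s ^^^ mask t := by
  refine mask_eq_iff.2 ⟨fun p => ?_, fun j hj => ?_⟩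
  · rw [Nat.testBit_xor, Finset.mem_symmDiff]
    have h1 := testBit_mask_idx (s := s) (p := p)
    have h2 := testBit_mask_idx (s := t) (p := p)
    cases hs : Nat.testBit (mask s) (idx p) <;> cases ht : Nat.testBit (mask t) (idx p) <;>
      simp_all
  · simp [testBit_mask_ge hj]

/-- mask of a binary word -/
def wmask (w : GolayPt → ZMod 2) : ℕ := mask (support₂ w)

theorem mem_support₂ {w : GolayPt → ZMod 2} {p : GolayPt} : p ∈ support₂ w ↔ w p ≠ 0 := by
  simp [support₂]

theorem support₂_injective : Function.Injective (support₂ : (GolayPt → ZMod 2) → Finset GolayPt) := by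
  intro v w h
  funext p
  have h' : v p ≠ 0 ↔ w p ≠ 0 := by rw [← mem_support₂, ← mem_support₂, h]
  revert h'
  generalize v p = a
  generalize w p = b
  revert a b
  decide

theorem wmask_injective : Function.Injective wmask := mask_injective.comp support₂_injective

theorem support₂_add (v w : GolayPt → ZMod 2) :
    support₂ (v + w) = symmDiff (support₂ v) (support₂ w) := by
  ext p
  rw [mem_support₂, Finset.mem_symmDiff, mem_support₂, mem_support₂, Pi.add_apply]
  generalize v p = a
  generalize w p = b
  revert a b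
  decide

theorem wmask_add (v w : GolayPt → ZMod 2) : wmask (v + w) = wmask v ^^^ wmask w := by
  rw [wmask, support₂_add, mask_symmDiff]; rfl

theorem wmask_zero : wmask 0 = 0 := by decide +kernel

/-- the word with a given mask -/
def ofMaskW (m : ℕ) : GolayPt → ZMod 2 := fun p => if Nat.testBit m (idx p) then 1 else 0

theorem support₂_ofMaskW (m : ℕ) : support₂ (ofMaskW m) = ofMask m := by
  ext p
  rw [mem_support₂, mem_ofMask, ofMaskW]
  by_cases h : Nat.testBit m (idx p) = true <;> simp [h]

/-- all sums of subsets of a list of masks -/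
def xorSpan : List ℕ → List ℕ
  | [] => [0]
  | g :: gs => xorSpan gs ++ (xorSpan gs).map (· ^^^ g)

theorem xorSpan_zero : ∀ gs : List ℕ, 0 ∈ xorSpan gs
  | [] => by simp [xorSpan]
  | g :: gs => List.mem_append_left _ (xorSpan_zero gs)

theorem xorSpan_xor : ∀ {gs : List ℕ} {a b : ℕ}, a ∈ xorSpan gs → b ∈ xorSpan gs →
    a ^^^ b ∈ xorSpan gs
  | [], a, b, ha, hb => by
      simp [xorSpan] at ha hb ⊢; simp [ha, hb]
  | g :: gs, a, b, ha, hb => by
      simp only [xorSpan, List.mem_append, List.mem_map] at ha hb ⊢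
      rcases ha with ha | ⟨a, ha, rfl⟩ <;> rcases hb with hb | ⟨b, hb, rfl⟩
      · exact .inl (xorSpan_xor ha hb)
      · exact .inr ⟨a ^^^ b, xorSpan_xor ha hb, Nat.xor_assoc ..⟩
      · refine .inr ⟨a ^^^ b, xorSpan_xor ha hb, ?_⟩
        rw [Nat.xor_assoc, Nat.xor_assoc, Nat.xor_comm b g]
      · refine .inl ?_
        have : (a ^^^ g) ^^^ (b ^^^ g) = a ^^^ b := by
          apply Nat.eq_of_testBit_eq; intro i; simp only [Nat.testBit_xor]
          cases Nat.testBit a i <;> cases Nat.testBit b i <;> cases Nat.testBit g i <;> rfl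
        rw [this]; exact xorSpan_xor ha hb

theorem xorSpan_induction {P : ℕ → Prop} (h0 : P 0) (hx : ∀ a b, P a → P b → P (a ^^^ b)) :
    ∀ {gs : List ℕ}, (∀ g ∈ gs, P g) → ∀ m ∈ xorSpan gs, P m
  | [], _, m, hm => by simp [xorSpan] at hm; exact hm ▸ h0
  | g :: gs, h, m, hm => by
      simp only [xorSpan, List.mem_append, List.mem_map] at hm
      rcases hm with hm | ⟨a, ha, rfl⟩
      · exact xorSpan_induction h0 hx (fun k hk => h k (List.mem_cons_of_mem _ hk)) m hm
      · exact hx _ _ (xorSpan_induction h0 hx (fun k hk => h k (List.mem_cons_of_mem _ hk)) a ha)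
          (h g List.mem_cons_self)

theorem xorSpan_nodup : ∀ {gs : List ℕ},
    (∀ (pre : List ℕ) (g : ℕ) (post : List ℕ), gs = pre ++ g :: post → g ∉ xorSpan post) →
    (xorSpan gs).Nodup
  | [], _ => by simp [xorSpan]
  | g :: gs, h => by
      have ih : (xorSpan gs).Nodup := xorSpan_nodup fun pre k post e => h (g :: pre) k post (by simp [e])
      refine List.nodup_append.2 ⟨ih, ih.map (fun a b e => Nat.xor_left_inj.1 e), ?_⟩
      · intro a ha b hb hab
        obtain ⟨c, hc, rfl⟩ := List.mem_map.1 hb
        apply h [] g gs rfl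
        have : g = c ^^^ a := by rw [hab, ← Nat.xor_assoc, Nat.xor_self, Nat.zero_xor]
        rw [this]; exact xorSpan_xor hc ha

/-- masks of a basis of the code -/
def codeBasis : List ℕ :=
  [340831, 681662, 1363324, 2726648, 5453296, 2517985, 5035970, 1683333, 3366666, 6733332, 5078057, 16777215]

/-- masks of all code words -/
def codeMasks : List ℕ := xorSpan codeBasis

theorem codeMasks_xor {a b : ℕ} (ha : a ∈ codeMasks) (hb : b ∈ codeMasks) : a ^^^ b ∈ codeMasks :=
  xorSpan_xor ha hb

theorem qrWord_mem_codeMasks : ∀ t : ZMod 23, wmask (qrWord t) ∈ codeMasks := by decide +kernel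

theorem one_mem_codeMasks : wmask 1 ∈ codeMasks := by decide +kernel

theorem codeBasis_mem_gens : ∀ g ∈ codeBasis, g ∈ (List.range 23).map (fun t : ℕ => wmask (qrWord (t : ZMod 23))) ++ [wmask 1] := by
  decide +kernel

theorem codeMasks_lt : ∀ m ∈ codeMasks, m < 2 ^ 24 := by decide +kernel

theorem mem_code {w : GolayPt → ZMod 2} : w ∈ golayCode ↔ wmask w ∈ codeMasks := by
  constructor
  · intro hw
    induction hw using Submodule.span_induction with
    | mem x hx =>
        rcases hx with ⟨t, rfl⟩ | rfl
        · exact qrWord_mem_codeMasks t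
        · exact one_mem_codeMasks
    | zero => rw [wmask_zero]; exact xorSpan_zero _
    | add x y _ _ hx hy => rw [wmask_add]; exact codeMasks_xor hx hy
    | smul r x _ hx =>
        have hr : r = 0 ∨ r = 1 := by revert r; decide
        rcases hr with rfl | rfl
        · rw [zero_smul, wmask_zero]; exact xorSpan_zero _
        · rwa [one_smul]
  · intro hw
    have key : ∀ m ∈ codeMasks, ∃ v ∈ golayCode, wmask v = m := by
      apply xorSpan_induction
      · exact ⟨0, zero_mem _, wmask_zero⟩
      · rintro a b ⟨v, hv, rfl⟩ ⟨u, hu, rfl⟩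
        exact ⟨v + u, add_mem hv hu, wmask_add v u⟩
      · intro g hg
        have := codeBasis_mem_gens g hg
        rw [List.mem_append, List.mem_map, List.mem_singleton] at this
        rcases this with ⟨t, _, rfl⟩ | rfl
        · exact ⟨_, Submodule.subset_span (Or.inl ⟨_, rfl⟩), rfl⟩
        · exact ⟨1, Submodule.subset_span (Or.inr rfl), rfl⟩
    obtain ⟨v, hv, he⟩ := key _ hw
    exact wmask_injective he ▸ hv

theorem mem_supports {s : Finset GolayPt} :
    s ∈ supports (golayCode : Set (GolayPt → ZMod 2)) ↔ mask s ∈ codeMasks := by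
  constructor
  · rintro ⟨w, hw, rfl⟩; exact mem_code.1 hw
  · intro h
    refine ⟨ofMaskW (mask s), ?_, by rw [support₂_ofMaskW, ofMask_mask]⟩
    rw [SetLike.mem_coe, mem_code, wmask, support₂_ofMaskW, ofMask_mask]
    exact h

/-- masks of the octads -/
def octMasks : List ℕ := codeMasks.filter fun m => pc m == 8

/-- masks of the dodecads -/
def dodMasks : List ℕ := codeMasks.filter fun m => pc m == 12

theorem mem_octads {s : Finset GolayPt} : s ∈ octads ↔ mask s ∈ octMasks := by
  show s ∈ supports _ ∧ s.card = 8 ↔ _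
  rw [mem_supports, octMasks, List.mem_filter, beq_iff_eq, pc_mask]

theorem mem_dodecads {s : Finset GolayPt} : s ∈ dodecads ↔ mask s ∈ dodMasks := by
  show s ∈ supports _ ∧ s.card = 12 ↔ _
  rw [mem_supports, dodMasks, List.mem_filter, beq_iff_eq, pc_mask]

theorem codeMasks_nodup : codeMasks.Nodup := by
  apply xorSpan_nodup
  have key : ∀ k, k < codeBasis.length → codeBasis[k]! ∉ xorSpan (codeBasis.drop (k + 1)) := by
    decide +kernel
  intro pre g post e
  have hk : pre.length < codeBasis.length := by rw [e]; simp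
  have h := key _ hk
  rw [e] at h
  have e1 : (pre ++ g :: post)[pre.length]! = g := by simp
  have e2 : List.drop (pre.length + 1) (pre ++ g :: post) = post := by simp [List.drop_append]
  rwa [e1, e2] at h

/-- counting a family of sets of points by its list of masks -/
theorem ncard_of_masks {S : Set (Finset GolayPt)} {l : List ℕ} (hl : l.Nodup)
    (hlt : ∀ m ∈ l, m < 2 ^ 24) (h : ∀ s, s ∈ S ↔ mask s ∈ l) : S.ncard = l.length := by
  have : S = (l.toFinset.image ofMask : Finset (Finset GolayPt)) := by
    ext s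
    simp only [Finset.coe_image, Set.mem_image, SetLike.mem_coe, List.mem_toFinset, h]
    exact ⟨fun hs => ⟨mask s, hs, ofMask_mask s⟩,
      fun ⟨m, hm, e⟩ => by rw [← e, mask_ofMask (hlt m hm)]; exact hm⟩
  rw [this, Set.ncard_coe_finset, Finset.card_image_of_injOn, List.toFinset_card_of_nodup hl]
  intro a ha b hb e
  rw [SetLike.mem_coe, List.mem_toFinset] at ha hb
  rw [← mask_ofMask (hlt a ha), e, mask_ofMask (hlt b hb)]

theorem octMasks_nodup : octMasks.Nodup := codeMasks_nodup.filter _

theorem dodMasks_nodup : dodMasks.Nodup := codeMasks_nodup.filter _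

theorem octMasks_lt {m : ℕ} (h : m ∈ octMasks) : m < 2 ^ 24 := codeMasks_lt m (List.mem_filter.1 h).1

theorem dodMasks_lt {m : ℕ} (h : m ∈ dodMasks) : m < 2 ^ 24 := codeMasks_lt m (List.mem_filter.1 h).1

theorem octMasks_length : octMasks.length = 759 := by decide +kernel

theorem dodMasks_length : dodMasks.length = 2576 := by decide +kernel

theorem ncard_octads : octads.ncard = 759 :=
  (ncard_of_masks octMasks_nodup (fun _ => octMasks_lt) fun _ => mem_octads).trans octMasks_length

theorem ncard_dodecads : dodecads.ncard = 2576 :=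
  (ncard_of_masks dodMasks_nodup (fun _ => dodMasks_lt) fun _ => mem_dodecads).trans dodMasks_length

/-- possible weights -/
theorem codeMasks_weight : ∀ m ∈ codeMasks, pc m = 0 ∨ pc m = 8 ∨ pc m = 12 ∨ pc m = 16 ∨ pc m = 24 := by
  decide +kernel

theorem hammingNorm_eq_pc (w : GolayPt → ZMod 2) : hammingNorm w = pc (wmask w) := by
  rw [wmask, pc_mask]; rfl

theorem weight_mem_code {w : GolayPt → ZMod 2} (hw : w ∈ golayCode) :
    hammingNorm w = 0 ∨ hammingNorm w = 8 ∨ hammingNorm w = 12 ∨ hammingNorm w = 16 ∨ hammingNorm w = 24 := by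
  rw [hammingNorm_eq_pc]; exact codeMasks_weight _ (mem_code.1 hw)

end Cfsg.Agent.Spor
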