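/-
Permutations of the 24 points as lists of images of point numbers, straight-line programs over the three
generators of `M24`, and the action on masks.
-/
import Cfsg.Agent.Lib.Spor.GolayBasic

set_option autoImplicit false
set_option maxRecDepth 100000

namespace Cfsg.Agent.Spor

open scoped Pointwise

/-- `l` lists the images of the point numbers under `σ` -/
def Rep (σ : Equiv.Perm GolayPt) (l : List ℕ) : Prop := ∀ p, l.getD (idx p) 0 = idx (σ p)

theorem Rep.apply {σ : Equiv.Perm GolayPt} {l : List ℕ} (h : Rep σ l) (p : GolayPt) :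
    σ p = pt (l.getD (idx p) 0) := by rw [h p, pt_idx]

/-- composition of image lists: first `q`, then `p` -/
def lmul (p q : List ℕ) : List ℕ := (List.range 24).map fun i => p.getD (q.getD i 0) 0

theorem getD_lmul (p q : List ℕ) {i : ℕ} (hi : i < 24) :
    (lmul p q).getD i 0 = p.getD (q.getD i 0) 0 := by
  rw [lmul, List.getD_eq_getElem _ _ (by simpa using hi)]
  simp

theorem Rep.mul {σ τ : Equiv.Perm GolayPt} {p q : List ℕ} (hσ : Rep σ p) (hτ : Rep τ q) :
    Rep (σ * τ) (lmul p q) := fun x => by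
  rw [getD_lmul _ _ (idx_lt x), hτ x, hσ (τ x)]; rfl

/-- image of a mask -/
def pmask (l : List ℕ) (m : ℕ) : ℕ :=
  (List.range 24).foldl (fun r i => if Nat.testBit m i then r ||| (1 <<< l.getD i 0) else r) 0

theorem testBit_pmask (l : List ℕ) (m j : ℕ) :
    Nat.testBit (pmask l m) j = true ↔ ∃ i, i < 24 ∧ Nat.testBit m i = true ∧ l.getD i 0 = j := by
  suffices H : ∀ (k : List ℕ) (r : ℕ),
      Nat.testBit (k.foldl (fun r i => if Nat.testBit m i then r ||| (1 <<< l.getD i 0) else r) r) j = true ↔
        Nat.testBit r j = true ∨ ∃ i ∈ k, Nat.testBit m i = true ∧ l.getD i 0 = j by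
    rw [pmask, H]
    simp
  intro k
  induction k with
  | nil => simp
  | cons a k ih =>
      intro r
      rw [List.foldl_cons, ih]
      by_cases h : Nat.testBit m a = true
      · simp [h, Nat.testBit_or, Nat.one_shiftLeft, Nat.testBit_two_pow, or_assoc]
      · simp [h]

theorem Rep.mask_image {σ : Equiv.Perm GolayPt} {l : List ℕ} (h : Rep σ l) (s : Finset GolayPt) :
    mask (s.image σ) = pmask l (mask s) := by
  apply Nat.eq_of_testBit_eq
  intro j
  apply Bool.eq_iff_iff.2
  rw [testBit_mask, testBit_pmask]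
  constructor
  · rintro ⟨p, hp, rfl⟩
    obtain ⟨q, hq, rfl⟩ := Finset.mem_image.1 hp
    exact ⟨idx q, idx_lt q, testBit_mask_idx.2 hq, h q⟩
  · rintro ⟨i, hi, hm, rfl⟩
    refine ⟨σ (pt i), Finset.mem_image.2 ⟨pt i, ?_, rfl⟩, ?_⟩
    · rwa [← testBit_mask_idx (s := s), idx_pt i hi]
    · rw [← h, idx_pt i hi]

theorem smul_finset_eq_image (σ : Equiv.Perm GolayPt) (s : Finset GolayPt) : σ • s = s.image σ := by
  rfl

theorem Rep.mask_smul {σ : Equiv.Perm GolayPt} {l : List ℕ} (h : Rep σ l) (s : Finset GolayPt) :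
    mask (σ • s) = pmask l (mask s) := h.mask_image s

theorem smul_symmDiff' (σ : Equiv.Perm GolayPt) (s t : Finset GolayPt) :
    σ • symmDiff s t = symmDiff (σ • s) (σ • t) := by
  simp only [smul_finset_eq_image]
  exact Finset.image_symmDiff _ _ σ.injective

theorem mem_M24 {σ : Equiv.Perm GolayPt} :
    σ ∈ M24 ↔ ∀ g ∈ codeBasis, mask (σ • ofMask g) ∈ codeMasks := by
  constructor
  · intro hσ g hg
    rw [← mem_supports]
    have hm : mask (ofMask g) = g := mask_ofMask (by revert g hg; decide +kernel)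
    have : ofMask g ∈ supports (golayCode : Set (GolayPt → ZMod 2)) := by
      rw [mem_supports, hm]
      revert g hg; decide +kernel
    have h2 := Set.smul_mem_smul_set (a := σ) this
    rwa [MulAction.mem_stabilizer_iff.1 hσ] at h2
  · intro h
    have key : ∀ m ∈ codeMasks, ∀ s : Finset GolayPt, mask s = m → mask (σ • s) ∈ codeMasks := by
      have aux : ∀ m ∈ codeMasks, m < 2 ^ 24 ∧ mask (σ • ofMask m) ∈ codeMasks := by
        apply xorSpan_induction
        · refine ⟨by norm_num, ?_⟩
          have : σ • ofMask 0 = ∅ := by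
            rw [smul_finset_eq_image, show ofMask 0 = ∅ from by decide +kernel]; rfl
          rw [this]; exact xorSpan_zero _
        · rintro a b ⟨ha, ha'⟩ ⟨hb, hb'⟩
          refine ⟨Nat.xor_lt_two_pow ha hb, ?_⟩
          have : ofMask (a ^^^ b) = symmDiff (ofMask a) (ofMask b) := by
            apply mask_injective
            rw [mask_symmDiff, mask_ofMask ha, mask_ofMask hb, mask_ofMask (Nat.xor_lt_two_pow ha hb)]
          rw [this, smul_symmDiff', mask_symmDiff]
          exact codeMasks_xor ha' hb'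
        · intro g hg
          exact ⟨by revert g hg; decide +kernel, h g hg⟩
      intro m hm s hs
      have h2 := (aux m hm).2
      rwa [← hs, ofMask_mask] at h2
    have hsub : σ • supports (golayCode : Set (GolayPt → ZMod 2)) ⊆ supports (golayCode : Set (GolayPt → ZMod 2)) := by
      rintro _ ⟨s, hs, rfl⟩
      exact mem_supports.2 (key _ (mem_supports.1 hs) s rfl)
    rw [M24, setSystemAut, MulAction.mem_stabilizer_iff]
    refine Set.eq_of_subset_of_ncard_le hsub ?_ (Set.toFinite _)
    rw [Set.ncard_smul_set]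

/-- image lists of the generators, their inverses and two spare slots -/
def baseLists : List (List ℕ) :=
  [[1, 2, 3, 4, 5, 6, 7, 8, 9, 10, 11, 12, 13, 14, 15, 16, 17, 18, 19, 20, 21, 22, 0, 23], [22, 0, 1, 2, 3, 4, 5, 6, 7, 8, 9, 10, 11, 12, 13, 14, 15, 16, 17, 18, 19, 20, 21, 23], [23, 22, 11, 15, 17, 9, 19, 13, 20, 5, 16, 2, 21, 7, 18, 3, 10, 4, 14, 6, 8, 12, 1, 0], [0, 18, 6, 3, 2, 21, 1, 5, 16, 12, 7, 19, 8, 9, 17, 15, 13, 11, 4, 22, 10, 20, 14, 23], [0, 6, 4, 3, 18, 7, 2, 10, 12, 13, 20, 17, 9, 16, 22, 15, 8, 14, 1, 11, 21, 5, 19, 23]]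

/-- evaluate a straight-line program -/
def slpRun (acc : List (List ℕ)) : List (ℕ × ℕ) → List (List ℕ)
  | [] => acc
  | e :: es => slpRun (acc ++ [lmul (acc.getD e.1 []) (acc.getD e.2 [])]) es

/-- translation x ↦ x + 1 -/
abbrev genA : Equiv.Perm GolayPt := Equiv.optionCongr (Equiv.addRight (1 : ZMod 23))

/-- the group generated by translation, inversion and the cube twist -/
def genH : Subgroup (Equiv.Perm GolayPt) := Subgroup.closure {genA, projInv, cubeTwist}

theorem genA_mem_genH : genA ∈ genH := Subgroup.subset_closure (by simp)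
theorem projInv_mem_genH : projInv ∈ genH := Subgroup.subset_closure (by simp)
theorem cubeTwist_mem_genH : cubeTwist ∈ genH := Subgroup.subset_closure (by simp)

theorem rep_genA : Rep genA (baseLists.getD 0 []) := by unfold Rep; decide +kernel

theorem rep_projInv : Rep projInv (baseLists.getD 2 []) := by
  show ∀ p, (baseLists.getD 2 []).getD (idx p) 0 = idx (projInvFun p)
  decide +kernel

theorem rep_cubeTwist : Rep cubeTwist (baseLists.getD 3 []) := by
  show ∀ p, (baseLists.getD 3 []).getD (idx p) 0 = idx (cubeTwistFun p)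
  decide +kernel

theorem Rep.inv {σ : Equiv.Perm GolayPt} {l k : List ℕ} (h : Rep σ l)
    (hk : ∀ p, k.getD (l.getD (idx p) 0) 0 = idx p) : Rep σ⁻¹ k := fun x => by
  have := hk (σ⁻¹ x)
  rw [h] at this
  rwa [show σ (σ⁻¹ x) = x from σ.apply_symm_apply x] at this

/-- lists of permutations lying in `genH` -/
def InH (l : List ℕ) : Prop := ∃ σ ∈ genH, Rep σ l

theorem InH.mul {p q : List ℕ} (hp : InH p) (hq : InH q) : InH (lmul p q) := by
  obtain ⟨σ, hσ, hp⟩ := hp; obtain ⟨τ, hτ, hq⟩ := hq
  exact ⟨σ * τ, mul_mem hσ hτ, hp.mul hq⟩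

theorem baseLists_inH : ∀ i, i < 5 → InH (baseLists.getD i []) := by
  intro i hi
  interval_cases i
  · exact ⟨_, genA_mem_genH, rep_genA⟩
  · exact ⟨_, inv_mem genA_mem_genH, rep_genA.inv (by decide +kernel)⟩
  · exact ⟨_, projInv_mem_genH, rep_projInv⟩
  · exact ⟨_, cubeTwist_mem_genH, rep_cubeTwist⟩
  · exact ⟨_, inv_mem cubeTwist_mem_genH, rep_cubeTwist.inv (by decide +kernel)⟩

/-- programs whose references all point backwards -/
def slpWf : ℕ → List (ℕ × ℕ) → Bool
  | _, [] => true
  | n, e :: es => (decide (e.1 < n)) && (decide (e.2 < n)) && slpWf (n + 1) es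

theorem slpRun_inH : ∀ (es : List (ℕ × ℕ)) (acc : List (List ℕ)), (∀ l ∈ acc, InH l) →
    slpWf acc.length es = true → ∀ l ∈ slpRun acc es, InH l
  | [], _, h, _ => h
  | e :: es, acc, h, hw => by
      simp only [slpWf, Bool.and_eq_true, decide_eq_true_eq] at hw
      refine slpRun_inH es _ ?_ (by simpa using hw.2)
      intro l hl
      rcases List.mem_append.1 hl with hl | hl
      · exact h l hl
      · rw [List.mem_singleton] at hl
        subst hl
        refine (h _ ?_).mul (h _ ?_)
        · rw [List.getD_eq_getElem _ _ hw.1.1]; exact List.getElem_mem _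
        · rw [List.getD_eq_getElem _ _ hw.1.2]; exact List.getElem_mem _

theorem genA_mem : genA ∈ M24 := mem_M24.2 (by decide +kernel)

theorem projInv_mem : projInv ∈ M24 := mem_M24.2 (by decide +kernel)

theorem cubeTwist_mem : cubeTwist ∈ M24 := by
  rw [mem_M24]
  intro g hg
  rw [rep_cubeTwist.mask_smul, mask_ofMask (by revert g hg; decide +kernel)]
  revert g hg
  decide +kernel

theorem genH_le : genH ≤ M24 := by
  rw [genH, Subgroup.closure_le]
  rintro x (rfl | rfl | rfl)
  exacts [genA_mem, projInv_mem, cubeTwist_mem]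

end Cfsg.Agent.Spor
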