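/-
The stabiliser chain of `M24` on the base 0 1 2 3 4 7 5: orders, equality with the generated group,
and transitivity.
-/
import Cfsg.Agent.Lib.Spor.GolayPerm
import Cfsg.Agent.Lib.Spor.GolayData

set_option autoImplicit false
set_option maxRecDepth 100000

namespace Cfsg.Agent.Spor

open scoped Pointwise

/-- all permutations of the program -/
def slpEls : List (List ℕ) := slpRun baseLists slpData

theorem slpEls_inH {l : List ℕ} (h : l ∈ slpEls) : InH l := by
  refine slpRun_inH slpData baseLists ?_ (by decide +kernel) l h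
  intro k hk
  obtain ⟨i, hi, rfl⟩ := List.getElem_of_mem hk
  have := baseLists_inH i hi
  rwa [List.getD_eq_getElem _ _ hi] at this

theorem code_weight_ge {s : Finset GolayPt} (hs : s ∈ supports (golayCode : Set (GolayPt → ZMod 2)))
    (hne : s ≠ ∅) : 8 ≤ s.card := by
  have := codeMasks_weight _ (mem_supports.1 hs)
  rw [pc_mask] at this
  have : s.card ≠ 0 := by simpa using hne
  omega

theorem supports_symmDiff {s t : Finset GolayPt}
    (hs : s ∈ supports (golayCode : Set (GolayPt → ZMod 2)))
    (ht : t ∈ supports (golayCode : Set (GolayPt → ZMod 2))) :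
    symmDiff s t ∈ supports (golayCode : Set (GolayPt → ZMod 2)) := by
  rw [mem_supports, mask_symmDiff]; exact codeMasks_xor (mem_supports.1 hs) (mem_supports.1 ht)

theorem card_symmDiff_add {α : Type*} [DecidableEq α] (s t : Finset α) :
    (symmDiff s t).card + 2 * (s ∩ t).card = s.card + t.card := by
  have h1 := Finset.card_sdiff_add_card_inter s t
  have h2 := Finset.card_sdiff_add_card_inter t s
  have h3 : (symmDiff s t).card = (s \ t).card + (t \ s).card := by
    rw [symmDiff_def]; exact Finset.card_union_of_disjoint disjoint_sdiff_sdiff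
  rw [Finset.inter_comm t s] at h2
  omega

/-- two octads with five common points are equal -/
theorem octad_eq_of_five {s t : Finset GolayPt} (hs : s ∈ octads) (ht : t ∈ octads)
    (h : 5 ≤ (s ∩ t).card) : s = t := by
  by_contra hne
  have h8 := code_weight_ge (supports_symmDiff hs.1 ht.1) (by simpa [← Finset.bot_eq_empty] using hne)
  have := card_symmDiff_add s t
  have := hs.2
  have := ht.2
  omega

theorem smul_supports {σ : Equiv.Perm GolayPt} (hσ : σ ∈ M24) {s : Finset GolayPt}
    (hs : s ∈ supports (golayCode : Set (GolayPt → ZMod 2))) :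
    σ • s ∈ supports (golayCode : Set (GolayPt → ZMod 2)) := by
  have h2 := Set.smul_mem_smul_set (a := σ) hs
  rwa [MulAction.mem_stabilizer_iff.1 hσ] at h2

theorem smul_octad {σ : Equiv.Perm GolayPt} (hσ : σ ∈ M24) {s : Finset GolayPt} (hs : s ∈ octads) :
    σ • s ∈ octads :=
  ⟨smul_supports hσ hs.1, by rw [Finset.card_smul_finset]; exact hs.2⟩

/-- an element fixing five points of an octad maps it to itself -/
theorem smul_octad_eq {σ : Equiv.Perm GolayPt} (hσ : σ ∈ M24) {s : Finset GolayPt} (hs : s ∈ octads)
    {t : Finset GolayPt} (hts : t ⊆ s) (h5 : 5 ≤ t.card) (hfix : ∀ p ∈ t, σ p = p) : σ • s = s := by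
  apply octad_eq_of_five (smul_octad hσ hs) hs
  refine h5.trans (Finset.card_le_card fun p hp => Finset.mem_inter.2 ⟨?_, hts hp⟩)
  rw [← hfix p hp]
  exact Finset.smul_mem_smul_finset (hts hp)

/-- mask of the points with the given numbers -/
def listMask (l : List ℕ) : ℕ := l.foldl (fun r i => r ||| (1 <<< i)) 0

theorem testBit_listMask (l : List ℕ) (j : ℕ) : Nat.testBit (listMask l) j = true ↔ j ∈ l := by
  suffices H : ∀ (k : List ℕ) (r : ℕ),
      Nat.testBit (k.foldl (fun r i => r ||| (1 <<< i)) r) j = true ↔ Nat.testBit r j = true ∨ j ∈ k by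
    rw [listMask, H]; simp
  intro k
  induction k with
  | nil => simp
  | cons a k ih =>
      intro r
      rw [List.foldl_cons, ih, Nat.testBit_or, Nat.one_shiftLeft, Nat.testBit_two_pow]
      simp only [Bool.or_eq_true, decide_eq_true_eq, List.mem_cons]
      tauto

/-- the elements of `K` fixing the points numbered by `l` -/
def fixL (K : Subgroup (Equiv.Perm GolayPt)) (l : List ℕ) : Subgroup (Equiv.Perm GolayPt) :=
  K ⊓ fixingSubgroup (Equiv.Perm GolayPt) {p | idx p ∈ l}

theorem mem_fixL {K : Subgroup (Equiv.Perm GolayPt)} {l : List ℕ} {σ : Equiv.Perm GolayPt} :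
    σ ∈ fixL K l ↔ σ ∈ K ∧ ∀ p, idx p ∈ l → σ p = p := by
  rw [fixL, Subgroup.mem_inf, mem_fixingSubgroup_iff]
  rfl

/-- one step of closing a set of points under permutations -/
def reachStep (gs : List (List ℕ)) (R : ℕ) : ℕ := gs.foldl (fun r g => r ||| pmask g r) R

/-- repeated closing -/
def reach (gs : List (List ℕ)) : ℕ → ℕ → ℕ
  | 0, R => R
  | n + 1, R => reach gs n (reachStep gs R)

theorem reach_sound {L : Subgroup (Equiv.Perm GolayPt)} {gs : List (List ℕ)}
    (hgs : ∀ g ∈ gs, ∃ σ ∈ L, Rep σ g) {b : GolayPt} :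
    ∀ (n R : ℕ), (∀ j, Nat.testBit R j = true → ∃ σ ∈ L, idx (σ b) = j) →
      ∀ j, Nat.testBit (reach gs n R) j = true → ∃ σ ∈ L, idx (σ b) = j := by
  intro n
  induction n with
  | zero => exact fun R h => h
  | succ n ih =>
      intro R hR
      apply ih
      suffices H : ∀ (k : List (List ℕ)), (∀ g ∈ k, ∃ σ ∈ L, Rep σ g) → ∀ r,
          (∀ j, Nat.testBit r j = true → ∃ σ ∈ L, idx (σ b) = j) →
          ∀ j, Nat.testBit (k.foldl (fun r g => r ||| pmask g r) r) j = true → ∃ σ ∈ L, idx (σ b) = j from
        H gs hgs R hR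
      intro k
      induction k with
      | nil => exact fun _ r h => h
      | cons g k ihk =>
          intro hk r hr
          refine ihk (fun x hx => hk x (List.mem_cons_of_mem _ hx)) _ ?_
          intro j hj
          rw [Nat.testBit_or, Bool.or_eq_true] at hj
          rcases hj with hj | hj
          · exact hr j hj
          · obtain ⟨i, hi, hri, rfl⟩ := (testBit_pmask _ _ _).1 hj
            obtain ⟨σ, hσ, rfl⟩ := hr i hri
            obtain ⟨τ, hτ, hrep⟩ := hk g List.mem_cons_self
            exact ⟨τ * σ, mul_mem hτ hσ, (hrep (σ b)).symm⟩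

/-- certificate: the program elements with indices `gi` fix `l` and move `b` over the mask `R` -/
def orbitCert (gi : List ℕ) (l : List ℕ) (b R : ℕ) : Bool :=
  (gi.all fun i => decide (i < slpEls.length) && l.all fun j => (slpEls.getD i []).getD j 0 == j) &&
    (reach (gi.map fun i => slpEls.getD i []) 8 (1 <<< b) == R)

theorem orbitCert_sound {gi l : List ℕ} {b R : ℕ} (hb : b < 24) (h : orbitCert gi l b R = true) :
    ∀ p, Nat.testBit R (idx p) = true → ∃ σ ∈ fixL genH l, σ (pt b) = p := by
  simp only [orbitCert, Bool.and_eq_true, List.all_eq_true, decide_eq_true_eq, beq_iff_eq] at h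
  intro p hp
  have hgs : ∀ g ∈ gi.map (fun i => slpEls.getD i []), ∃ σ ∈ fixL genH l, Rep σ g := by
    intro g hg
    obtain ⟨i, hi, rfl⟩ := List.mem_map.1 hg
    obtain ⟨hlen, hfix⟩ := h.1 i hi
    obtain ⟨σ, hσ, hrep⟩ := slpEls_inH (l := slpEls.getD i [])
      (by rw [List.getD_eq_getElem _ _ hlen]; exact List.getElem_mem _)
    refine ⟨σ, mem_fixL.2 ⟨hσ, fun q hq => idx_injective ?_⟩, hrep⟩
    rw [← hrep q]; exact hfix _ hq
  rw [← h.2] at hp
  obtain ⟨σ, hσ, e⟩ := reach_sound hgs (b := pt b) 8 (1 <<< b)
    (fun j hj => ⟨1, one_mem _, by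
      rw [Nat.one_shiftLeft, Nat.testBit_two_pow, decide_eq_true_eq] at hj
      rw [← hj]; exact idx_pt b hb⟩) _ hp
  exact ⟨σ, hσ, idx_injective e⟩

/-- orbit masks of the chain -/
def chainOrbit : List ℕ :=
  [16777215, 16777214, 16777212, 16777208, 16777200, 5248, 16771936]

theorem chain_lower : ∀ k, k < 7 → ∀ p, Nat.testBit (chainOrbit.getD k 0) (idx p) = true →
    ∃ σ ∈ fixL genH (chainBase.take k), σ (pt (chainBase.getD k 0)) = p := by
  intro k hk
  apply orbitCert_sound (gi := chainGens.getD k [])
  · revert k hk; decide +kernel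
  · revert k hk; decide +kernel

theorem chainBase_lt : ∀ k, k < 7 → chainBase.getD k 0 < 24 := by decide +kernel

theorem chainBase_fresh : ∀ k, k < 7 → chainBase.getD k 0 ∉ chainBase.take k := by decide +kernel

theorem chainOrbit_lt : ∀ k, k < 7 → chainOrbit.getD k 0 < 2 ^ 24 := by decide +kernel

theorem chainBase_take : ∀ k, k < 7 →
    chainBase.take (k + 1) = chainBase.take k ++ [chainBase.getD k 0] := by decide +kernel

theorem baseOctad_mem : ofMask 5279 ∈ octads := by
  rw [mem_octads, mask_ofMask (by norm_num)]; decide +kernel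

theorem chain_upper {σ : Equiv.Perm GolayPt} {k : ℕ} (hk : k < 7)
    (hσ : σ ∈ fixL M24 (chainBase.take k)) :
    Nat.testBit (chainOrbit.getD k 0) (idx (σ (pt (chainBase.getD k 0)))) = true := by
  obtain ⟨hσM, hfix⟩ := mem_fixL.1 hσ
  set l := chainBase.take k with hl
  set b := chainBase.getD k 0 with hb
  set q := σ (pt b)
  have hnot : idx q ∉ l := fun hq => by
    have h2 : q = pt b := σ.injective (hfix q hq)
    have h3 : idx q = b := by
      rw [h2, idx_pt _ (chainBase_lt k hk)]
    rw [h3] at hq
    exact chainBase_fresh k hk hq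
  by_cases h5 : k < 5
  · have key : ∀ p : GolayPt, idx p ∉ chainBase.take k →
        Nat.testBit (chainOrbit.getD k 0) (idx p) = true := by
      interval_cases k <;> decide +kernel
    exact key q hnot
  · have ho : σ • ofMask 5279 = ofMask 5279 := by
      refine smul_octad_eq hσM baseOctad_mem (t := ofMask 31) (by decide +kernel) (by decide +kernel) ?_
      intro p hp
      refine hfix p ?_
      rw [hl]
      revert hp
      generalize p = r
      revert r
      interval_cases k <;> decide +kernel
    have hiff : q ∈ ofMask 5279 ↔ pt b ∈ ofMask 5279 := by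
      constructor
      · intro h
        rw [← ho] at h
        obtain ⟨x, hx, e⟩ := Finset.mem_smul_finset.1 h
        exact σ.injective e ▸ hx
      · intro h
        rw [← ho]; exact Finset.smul_mem_smul_finset h
    revert hiff hnot
    rw [hl, hb]
    generalize q = r
    revert r
    interval_cases k <;> decide +kernel

/-- each step of `propData` is justified by the points already fixed -/
def propCheck : ℕ → List (ℕ × ℕ × ℕ) → Bool
  | F, [] => F == 16777215
  | F, (p, x, y) :: es =>
      decide (x ∈ octMasks) && decide (y ∈ octMasks) && decide (5 ≤ pc (x &&& F)) &&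
        decide (5 ≤ pc (y &&& F)) && ((x &&& y) ||| F == F ||| (1 <<< p)) && Nat.testBit (x &&& y) p &&
        decide (p < 24) && propCheck (F ||| (1 <<< p)) es

theorem propCheck_sound {σ : Equiv.Perm GolayPt} (hσ : σ ∈ M24) :
    ∀ (es : List (ℕ × ℕ × ℕ)) (F : ℕ), propCheck F es = true →
      (∀ q, Nat.testBit F (idx q) = true → σ q = q) → σ = 1
  | [], F, h, hF => by
      simp only [propCheck, beq_iff_eq] at h
      subst h
      exact Equiv.ext fun q => hF q (by revert q; decide +kernel)
  | (p, x, y) :: es, F, h, hF => by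
      simp only [propCheck, Bool.and_eq_true, decide_eq_true_eq, beq_iff_eq] at h
      obtain ⟨⟨⟨⟨⟨⟨⟨hx, hy⟩, hx5⟩, hy5⟩, hunion⟩, hp⟩, hp24⟩, hrest⟩ := h
      refine propCheck_sound hσ es _ hrest fun q hq => ?_
      rw [Nat.testBit_or, Bool.or_eq_true] at hq
      rcases hq with hq | hq
      · exact hF q hq
      · rw [Nat.one_shiftLeft, Nat.testBit_two_pow, decide_eq_true_eq] at hq
        have hfixoct : ∀ z, z ∈ octMasks → 5 ≤ pc (z &&& F) → σ • ofMask z = ofMask z := by
          intro z hz h5
          have hzlt := octMasks_lt hz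
          refine smul_octad_eq hσ (by rwa [mem_octads, mask_ofMask hzlt]) (t := ofMask (z &&& F))
            ?_ ?_ ?_
          · intro r hr
            simp only [mem_ofMask, Nat.testBit_and, Bool.and_eq_true] at hr ⊢
            exact hr.1
          · rwa [← pc_mask, mask_ofMask (lt_of_le_of_lt Nat.and_le_left hzlt)]
          · intro r hr
            simp only [mem_ofMask, Nat.testBit_and, Bool.and_eq_true] at hr
            exact hF r hr.2
        have hinter : σ • (ofMask x ∩ ofMask y) = ofMask x ∩ ofMask y := by
          rw [Finset.smul_finset_inter, hfixoct x hx hx5, hfixoct y hy hy5]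
        have hqmem : q ∈ ofMask x ∩ ofMask y := by
          rw [Nat.testBit_and, Bool.and_eq_true, hq] at hp
          simp [Finset.mem_inter, mem_ofMask, hp.1, hp.2]
        have himg : σ q ∈ ofMask x ∩ ofMask y := by
          rw [← hinter]; exact Finset.smul_mem_smul_finset hqmem
        have himg' : Nat.testBit ((x &&& y) ||| F) (idx (σ q)) = true := by
          simp only [Finset.mem_inter, mem_ofMask] at himg
          simp [Nat.testBit_or, Nat.testBit_and, himg.1, himg.2]
        rw [hunion, Nat.testBit_or, Bool.or_eq_true, Nat.one_shiftLeft, Nat.testBit_two_pow,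
          decide_eq_true_eq] at himg'
        rcases himg' with h1 | h1
        · exact σ.injective (hF (σ q) h1)
        · exact idx_injective (h1.symm.trans hq)

theorem fix_seven {σ : Equiv.Perm GolayPt} (hσ : σ ∈ fixL M24 chainBase) : σ = 1 := by
  obtain ⟨hσM, hfix⟩ := mem_fixL.1 hσ
  refine propCheck_sound hσM propData (listMask chainBase) (by decide +kernel) fun q hq => hfix q ?_
  exact (testBit_listMask _ _).1 hq

theorem fixL_mono {K K' : Subgroup (Equiv.Perm GolayPt)} (h : K ≤ K') (l : List ℕ) :
    fixL K l ≤ fixL K' l := inf_le_inf_right _ h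

theorem fixL_nil (K : Subgroup (Equiv.Perm GolayPt)) : fixL K [] = K := by
  ext σ; simp [mem_fixL]

theorem card_fixL_step {K : Subgroup (Equiv.Perm GolayPt)} (h1 : genH ≤ K) (h2 : K ≤ M24) {k : ℕ}
    (hk : k < 7) :
    Nat.card (fixL K (chainBase.take k)) =
      pc (chainOrbit.getD k 0) * Nat.card (fixL K (chainBase.take (k + 1))) := by
  set L := fixL K (chainBase.take k) with hL
  set b := chainBase.getD k 0 with hb
  set R := chainOrbit.getD k 0 with hR
  have hbl : b < 24 := chainBase_lt k hk
  have horb : MulAction.orbit L (pt b) = (ofMask R : Set GolayPt) := by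
    ext p
    rw [Finset.mem_coe, mem_ofMask, MulAction.mem_orbit_iff]
    constructor
    · rintro ⟨⟨σ, hσ⟩, rfl⟩
      exact chain_upper hk (fixL_mono h2 _ hσ)
    · intro h
      obtain ⟨σ, hσ, e⟩ := chain_lower k hk p h
      exact ⟨⟨σ, fixL_mono h1 _ hσ⟩, e⟩
  have hstab : Nat.card (MulAction.stabilizer L (pt b)) = Nat.card (fixL K (chainBase.take (k + 1))) := by
    have htake : chainBase.take (k + 1) = chainBase.take k ++ [b] := chainBase_take k hk
    refine Nat.card_congr
      { toFun := fun σ => ⟨σ.1.1, ?_⟩
        invFun := fun σ => ⟨⟨σ.1, ?_⟩, ?_⟩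
        left_inv := fun _ => rfl
        right_inv := fun _ => rfl }
    · obtain ⟨hK, hfix⟩ := mem_fixL.1 σ.1.2
      refine mem_fixL.2 ⟨hK, fun p hp => ?_⟩
      rw [htake, List.mem_append, List.mem_singleton] at hp
      rcases hp with hp | hp
      · exact hfix p hp
      · rw [← pt_idx p, hp]; exact σ.2
    · obtain ⟨hK, hfix⟩ := mem_fixL.1 σ.2
      exact mem_fixL.2 ⟨hK, fun p hp => hfix p (by rw [htake]; exact List.mem_append_left _ hp)⟩
    · obtain ⟨hK, hfix⟩ := mem_fixL.1 σ.2
      exact hfix _ (by rw [htake, idx_pt b hbl]; simp)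
  have hpc : (MulAction.orbit L (pt b)).ncard = pc R := by
    rw [horb, Set.ncard_coe_finset, ← pc_mask, mask_ofMask]
    exact chainOrbit_lt k hk
  rw [← hpc, ← hstab, ← MulAction.index_stabilizer, mul_comm, Subgroup.card_mul_index]

theorem card_fixL {K : Subgroup (Equiv.Perm GolayPt)} (h1 : genH ≤ K) (h2 : K ≤ M24) :
    ∀ k, k ≤ 7 → Nat.card (fixL K (chainBase.take k)) =
      [244823040, 10200960, 443520, 20160, 960, 48, 16, 1].getD k 0 := by
  have h7 : Nat.card (fixL K (chainBase.take 7)) = 1 := by
    rw [show chainBase.take 7 = chainBase from rfl]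
    have : fixL K chainBase = ⊥ := (Subgroup.eq_bot_iff_forall _).2 fun σ hσ =>
      fix_seven (fixL_mono h2 _ hσ)
    rw [this, Subgroup.card_bot]
  suffices H : ∀ d, ∀ k, k + d = 7 → Nat.card (fixL K (chainBase.take k)) =
      [244823040, 10200960, 443520, 20160, 960, 48, 16, 1].getD k 0 from
    fun k hk => H (7 - k) k (by omega)
  intro d
  induction d with
  | zero => intro k hk; rw [show k = 7 by omega]; exact h7
  | succ d ih =>
      intro k hk
      rw [card_fixL_step h1 h2 (show k < 7 by omega), ih (k + 1) (by omega)]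
      have : k < 7 := by omega
      revert this
      generalize k = j
      intro hj
      revert j
      decide +kernel

theorem card_M24 : Nat.card M24 = 244823040 := by
  have := card_fixL genH_le le_rfl 0 (by norm_num)
  rwa [List.take_zero, fixL_nil] at this

theorem genH_eq : genH = M24 := by
  refine Subgroup.eq_of_le_of_card_ge genH_le ?_
  have := card_fixL le_rfl genH_le 0 (by norm_num)
  rw [List.take_zero, fixL_nil] at this
  rw [card_M24, this]
  norm_num

theorem chain_lower' {k : ℕ} (hk : k < 7) {p : GolayPt}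
    (hp : Nat.testBit (chainOrbit.getD k 0) (idx p) = true) :
    ∃ σ ∈ fixL M24 (chainBase.take k), σ (pt (chainBase.getD k 0)) = p := by
  obtain ⟨σ, hσ, e⟩ := chain_lower k hk p hp
  exact ⟨σ, fixL_mono genH_le _ hσ, e⟩

/-- `M24` carries the first five base points to any five distinct points -/
theorem exists_map_base : ∀ k, k ≤ 5 → ∀ x : ℕ → GolayPt,
    (∀ i j, i < k → j < k → x i = x j → i = j) →
    ∃ σ ∈ M24, ∀ i, i < k → σ (pt i) = x i := by
  intro k
  induction k with
  | zero => exact fun _ x _ => ⟨1, one_mem _, fun i hi => absurd hi (by omega)⟩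
  | succ k ih =>
      intro hk x hx
      obtain ⟨σ, hσ, hσx⟩ := ih (by omega) x fun i j hi hj => hx i j (by omega) (by omega)
      set p := σ⁻¹ (x k) with hp
      have hne : ∀ i, i < k → idx p ≠ i := fun i hi h => by
        have h2 : p = pt i := by rw [← pt_idx p, h]
        have h3 : x k = x i := by
          rw [← hσx i hi, ← h2, hp]; exact (σ.apply_symm_apply (x k)).symm
        exact absurd (hx k i (by omega) (by omega) h3) (by omega)
      have htake : chainBase.take k = List.range k ∧ chainBase.getD k 0 = k := by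
        have : k < 5 := by omega
        revert this
        generalize k = j
        intro hj
        revert j
        decide +kernel
      have hp2 : Nat.testBit (chainOrbit.getD k 0) (idx p) = true := by
        have : k < 5 := by omega
        revert hne
        generalize p = q
        revert q
        interval_cases k <;> decide +kernel
      obtain ⟨τ, hτ, hτp⟩ := chain_lower' (show k < 7 by omega) hp2
      rw [htake.2] at hτp
      obtain ⟨hτM, hτfix⟩ := mem_fixL.1 hτ
      refine ⟨σ * τ, mul_mem hσ hτM, fun i hi => ?_⟩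
      rcases Nat.lt_succ_iff_lt_or_eq.1 hi with hi | rfl
      · rw [Equiv.Perm.mul_apply, hτfix (pt i) (by
          rw [htake.1, idx_pt i (by omega)]; exact List.mem_range.2 hi), hσx i hi]
      · rw [Equiv.Perm.mul_apply, hτp, hp]
        exact σ.apply_symm_apply _

end Cfsg.Agent.Spor
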