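/-
Transitivity of `M24` on five-point sequences and octads; the octads form a Steiner system.
-/
import Cfsg.Agent.Lib.Spor.GolayChain

set_option autoImplicit false
set_option maxRecDepth 100000

namespace Cfsg.Agent.Spor

open scoped Pointwise

/-- any two sequences of at most five distinct points are conjugate under `M24` -/
theorem M24_trans {k : ℕ} (hk : k ≤ 5) (x y : Fin k ↪ GolayPt) :
    ∃ σ ∈ M24, ∀ i, σ (x i) = y i := by
  have mk : ∀ z : Fin k ↪ GolayPt, ∃ σ ∈ M24, ∀ i : Fin k, σ (pt i) = z i := by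
    intro z
    rcases Nat.eq_zero_or_pos k with rfl | hk0
    · exact ⟨1, one_mem _, fun i => i.elim0⟩
    obtain ⟨σ, hσ, h⟩ := exists_map_base k hk (fun i => z ⟨min i (k - 1), by omega⟩) (by
      intro i j hi hj e
      have := z.injective e
      rw [Fin.ext_iff] at this
      simp only at this
      omega)
    refine ⟨σ, hσ, fun i => ?_⟩
    rw [h i i.isLt]
    congr 1
    ext
    simp only
    omega
  obtain ⟨σ, hσ, hx⟩ := mk x
  obtain ⟨τ, hτ, hy⟩ := mk y
  refine ⟨τ * σ⁻¹, mul_mem hτ (inv_mem hσ), fun i => ?_⟩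
  rw [Equiv.Perm.mul_apply, ← hx i, ← hy i]
  simp

theorem M24_isMultiplyPretransitive {k : ℕ} (hk : k ≤ 5) :
    MulAction.IsMultiplyPretransitive M24 GolayPt k := by
  refine ⟨fun x y => ?_⟩
  obtain ⟨σ, hσ, h⟩ := M24_trans hk x y
  exact ⟨⟨σ, hσ⟩, DFunLike.ext _ _ h⟩

/-- any set of at most five points is the image of a standard one -/
theorem exists_map_set {s : Finset GolayPt} (hs : s.card ≤ 5) :
    ∃ σ ∈ M24, σ • ofMask (2 ^ s.card - 1) = s := by
  obtain ⟨e⟩ : Nonempty (Fin s.card ≃ s) := ⟨s.equivFin.symm⟩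
  obtain ⟨σ, hσ, h⟩ := M24_trans hs
    (⟨fun i => pt i, fun i j hij => Fin.ext (by
      have := congrArg idx hij
      simp only at this
      rwa [idx_pt _ (by omega), idx_pt _ (by omega)] at this)⟩)
    ⟨fun i => (e i : GolayPt), fun i j hij => e.injective (Subtype.ext hij)⟩
  refine ⟨σ, hσ, ?_⟩
  have hsub : s ⊆ σ • ofMask (2 ^ s.card - 1) := by
    intro p hp
    obtain ⟨i, hi⟩ := e.surjective ⟨p, hp⟩
    have h2 : σ (pt i) = p := by
      refine (h i).trans ?_
      show (e i : GolayPt) = p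
      rw [hi]
    rw [← h2]
    refine Finset.smul_mem_smul_finset ?_
    rw [mem_ofMask, idx_pt _ (by omega), Nat.testBit_two_pow_sub_one]
    simp [i.isLt]
  refine (Finset.eq_of_subset_of_card_le hsub ?_).symm
  rw [Finset.card_smul_finset, ← pc_mask, mask_ofMask]
  · have : s.card ≤ 5 := hs
    generalize s.card = n at this
    revert n
    decide +kernel
  · calc 2 ^ s.card - 1 < 2 ^ s.card := Nat.sub_lt (by positivity) one_pos
      _ ≤ 2 ^ 24 := Nat.pow_le_pow_right (by norm_num) (by omega)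

theorem smul_octad_iff {σ : Equiv.Perm GolayPt} (hσ : σ ∈ M24) {s : Finset GolayPt} :
    σ • s ∈ octads ↔ s ∈ octads :=
  ⟨fun h => by simpa using smul_octad (inv_mem hσ) h, smul_octad hσ⟩

theorem smul_dodecad {σ : Equiv.Perm GolayPt} (hσ : σ ∈ M24) {s : Finset GolayPt} (hs : s ∈ dodecads) :
    σ • s ∈ dodecads :=
  ⟨smul_supports hσ hs.1, by rw [Finset.card_smul_finset]; exact hs.2⟩

theorem smul_dodecad_iff {σ : Equiv.Perm GolayPt} (hσ : σ ∈ M24) {s : Finset GolayPt} :
    σ • s ∈ dodecads ↔ s ∈ dodecads :=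
  ⟨fun h => by simpa using smul_dodecad (inv_mem hσ) h, smul_dodecad hσ⟩

theorem exists_octad_of_five {s : Finset GolayPt} (hs : s.card = 5) : ∃ o ∈ octads, s ⊆ o := by
  obtain ⟨σ, hσ, e⟩ := exists_map_set hs.le
  refine ⟨σ • ofMask 5279, smul_octad hσ baseOctad_mem, ?_⟩
  rw [← e, hs]
  exact Finset.smul_finset_subset_smul_finset (by decide +kernel)

theorem octads_steiner : IsSteinerSystem 5 8 octads := by
  refine ⟨fun b hb => hb.2, fun s hs => ?_⟩
  obtain ⟨o, ho, hso⟩ := exists_octad_of_five hs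
  exact ⟨o, ⟨ho, hso⟩, fun o' ho' => octad_eq_of_five ho'.1 ho
    (hs ▸ Finset.card_le_card (Finset.subset_inter ho'.2 hso))⟩

theorem octad_map (o : Finset GolayPt) (ho : o ∈ octads) : ∃ σ ∈ M24, σ • ofMask 5279 = o := by
  obtain ⟨t, ht, hc⟩ := Finset.exists_subset_card_eq (n := 5) (by rw [ho.2]; norm_num : 5 ≤ o.card)
  obtain ⟨σ, hσ, e⟩ := exists_map_set hc.le
  refine ⟨σ, hσ, octad_eq_of_five (smul_octad hσ baseOctad_mem) ho ?_⟩
  refine hc ▸ Finset.card_le_card (Finset.subset_inter ?_ ht)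
  rw [← e, hc]
  exact Finset.smul_finset_subset_smul_finset (by decide +kernel)

theorem octad_trans {o o' : Finset GolayPt} (ho : o ∈ octads) (ho' : o' ∈ octads) :
    ∃ σ ∈ M24, σ • o = o' := by
  obtain ⟨σ, hσ, rfl⟩ := octad_map o ho
  obtain ⟨τ, hτ, rfl⟩ := octad_map o' ho'
  exact ⟨τ * σ⁻¹, mul_mem hτ (inv_mem hσ), by rw [mul_smul, inv_smul_smul]⟩

/-- membership of a permutation in `M24`, given its list of images -/
theorem Rep.mem_M24 {σ : Equiv.Perm GolayPt} {l : List ℕ} (h : Rep σ l)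
    (hl : codeBasis.all (fun g => codeMasks.elem (pmask l g)) = true) : σ ∈ M24 := by
  rw [Spor.mem_M24]
  intro g hg
  rw [h.mask_smul, mask_ofMask (by revert g hg; decide +kernel)]
  exact List.elem_iff.1 (List.all_eq_true.1 hl g hg)

theorem code_orth {v w : GolayPt → ZMod 2} (hv : v ∈ golayCode) (hw : w ∈ golayCode) :
    ∑ i, v i * w i = 0 := by
  have hterm : ∀ i, v i * w i = if i ∈ support₂ v ∩ support₂ w then 1 else 0 := by
    intro i
    simp only [Finset.mem_inter, mem_support₂]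
    generalize v i = a
    generalize w i = b
    revert a b
    decide
  simp only [hterm, Finset.sum_boole, Finset.filter_univ_mem]
  have hwt := codeMasks_weight _ (mem_code.1 (add_mem hv hw))
  have hv' := codeMasks_weight _ (mem_code.1 hv)
  have hw' := codeMasks_weight _ (mem_code.1 hw)
  simp only [wmask, support₂_add, pc_mask] at hwt hv' hw'
  have := card_symmDiff_add (support₂ v) (support₂ w)
  obtain ⟨k, hk⟩ : 2 ∣ (support₂ v ∩ support₂ w).card := by omega
  rw [hk, Nat.cast_mul]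
  exact zero_mul _

end Cfsg.Agent.Spor
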