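/-
Cardinalities: the code, point stabilisers in `M24`; `M24` as the automorphism group of the octads.
-/
import Cfsg.Agent.Lib.Spor.GolayTrans

set_option autoImplicit false
set_option maxRecDepth 100000

namespace Cfsg.Agent.Spor

open scoped Pointwise

theorem codeMasks_length : codeMasks.length = 4096 := by decide +kernel

theorem card_golayCode : Nat.card golayCode = 4096 := by
  rw [← codeMasks_length, ← List.toFinset_card_of_nodup codeMasks_nodup, ← Nat.card_eq_finsetCard]
  refine Nat.card_congr (Equiv.ofBijective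
    (fun w : golayCode => (⟨wmask w, List.mem_toFinset.2 (mem_code.1 w.2)⟩ : codeMasks.toFinset)) ⟨?_, ?_⟩)
  · intro v w h
    exact Subtype.ext (wmask_injective (congrArg Subtype.val h))
  · rintro ⟨m, hm⟩
    have e : wmask (ofMaskW m) = m := by
      rw [wmask, support₂_ofMaskW, mask_ofMask (codeMasks_lt m (List.mem_toFinset.1 hm))]
    refine ⟨⟨ofMaskW m, ?_⟩, Subtype.ext e⟩
    rw [mem_code, e]
    exact List.mem_toFinset.1 hm

theorem finrank_golayCode : Module.finrank (ZMod 2) golayCode = 12 := by
  have h := Module.natCard_eq_pow_finrank (K := ZMod 2) (V := golayCode)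
  rw [card_golayCode, Nat.card_zmod] at h
  exact (Nat.pow_right_injective (le_refl 2) (h.symm.trans (by norm_num : (4096:ℕ) = 2 ^ 12)))

/-- masks of twelve octads spanning the code -/
def octBasis : List ℕ :=
  [5279, 10558, 18147, 36294, 69395, 133817, 262637, 525274, 1050548, 2101096, 4196943, 8391797]

theorem setSystemAut_octads : M24 = setSystemAut octads := by
  ext σ
  constructor
  · intro hσ
    refine MulAction.mem_stabilizer_iff.2 (Set.ext fun s => ?_)
    constructor
    · rintro ⟨t, ht, rfl⟩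
      exact smul_octad hσ ht
    · intro hs
      exact ⟨σ⁻¹ • s, smul_octad (inv_mem hσ) hs, smul_inv_smul σ s⟩
  · intro hσ
    rw [MulAction.mem_stabilizer_iff] at hσ
    rw [mem_M24]
    have key : ∀ m ∈ xorSpan octBasis, m < 2 ^ 24 ∧ mask (σ • ofMask m) ∈ codeMasks := by
      apply xorSpan_induction
      · refine ⟨by norm_num, ?_⟩
        rw [show ofMask 0 = ∅ from by decide +kernel, Finset.smul_finset_empty]
        exact xorSpan_zero _
      · rintro a b ⟨ha, ha'⟩ ⟨hb, hb'⟩
        refine ⟨Nat.xor_lt_two_pow ha hb, ?_⟩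
        have : ofMask (a ^^^ b) = symmDiff (ofMask a) (ofMask b) := by
          apply mask_injective
          rw [mask_symmDiff, mask_ofMask ha, mask_ofMask hb, mask_ofMask (Nat.xor_lt_two_pow ha hb)]
        rw [this, smul_symmDiff', mask_symmDiff]
        exact codeMasks_xor ha' hb'
      · intro g hg
        have hlt : g < 2 ^ 24 := by revert g hg; decide +kernel
        refine ⟨hlt, ?_⟩
        have ho : ofMask g ∈ octads := by
          rw [mem_octads, mask_ofMask hlt]
          revert g hg
          decide +kernel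
        have h2 := Set.smul_mem_smul_set (a := σ) ho
        rw [hσ] at h2
        exact mem_supports.1 h2.1
    intro g hg
    refine (key g ?_).2
    revert g hg
    decide +kernel

/-- the subgroup of `M24` fixing `k ≤ 5` given distinct points pointwise is conjugate to a chain member -/
theorem card_fix {k : ℕ} (hk : k ≤ 5) (x : Fin k ↪ GolayPt) :
    Nat.card (M24 ⊓ fixingSubgroup (Equiv.Perm GolayPt) (Set.range x) : Subgroup _) =
      [244823040, 10200960, 443520, 20160, 960, 48].getD k 0 := by
  obtain ⟨σ, hσ, hx⟩ := M24_trans hk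
    (⟨fun i => pt i, fun i j hij => Fin.ext (by
      have := congrArg idx hij
      simp only at this
      rwa [idx_pt _ (by omega), idx_pt _ (by omega)] at this)⟩) x
  have hcard : Nat.card (fixL M24 (chainBase.take k)) = [244823040, 10200960, 443520, 20160, 960, 48].getD k 0 := by
    rw [card_fixL genH_le le_rfl k (by omega)]
    interval_cases k <;> rfl
  rw [← hcard]
  have hmem : ∀ p : GolayPt, idx p ∈ chainBase.take k ↔ ∃ i : Fin k, pt i = p := by
    intro p
    have ht : ∀ n, n ≤ 5 → chainBase.take n = List.range n := by decide +kernel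
    rw [ht k hk, List.mem_range]
    exact ⟨fun h => ⟨⟨idx p, h⟩, pt_idx p⟩, fun ⟨i, hi⟩ => by
      rw [← hi, idx_pt _ (by omega)]; exact i.isLt⟩
  symm
  refine Nat.card_congr ((MulAut.conj σ).toEquiv.subtypeEquiv fun τ => ?_)
  simp only [mem_fixL, Subgroup.mem_inf, mem_fixingSubgroup_iff, Set.forall_mem_range,
    MulEquiv.toEquiv_eq_coe, MulEquiv.coe_toEquiv, MulAut.conj_apply, Equiv.Perm.smul_def]
  constructor
  · rintro ⟨hτ, hfix⟩
    refine ⟨mul_mem (mul_mem hσ hτ) (inv_mem hσ), fun i => ?_⟩
    rw [← hx i]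
    show σ (τ (σ⁻¹ (σ (pt i)))) = σ (pt i)
    rw [show σ⁻¹ (σ (pt i)) = pt i from σ.symm_apply_apply _, hfix (pt i) ((hmem _).2 ⟨i, rfl⟩)]
  · rintro ⟨hτ, hfix⟩
    refine ⟨?_, fun p hp => ?_⟩
    · have := mul_mem (mul_mem (inv_mem hσ) hτ) hσ
      simpa [mul_assoc] using this
    · obtain ⟨i, rfl⟩ := (hmem _).1 hp
      have h := hfix i
      rw [← hx i] at h
      have h2 : σ (τ (σ⁻¹ (σ (pt i)))) = σ (pt i) := h
      rw [show σ⁻¹ (σ (pt i)) = pt i from σ.symm_apply_apply _] at h2
      exact σ.injective h2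

theorem card_stabilizer_point (p : GolayPt) : Nat.card (MulAction.stabilizer M24 p) = 10200960 := by
  have h := card_fix (show (1:ℕ) ≤ 5 by norm_num) ⟨fun _ => p, fun i j _ => Subsingleton.elim i j⟩
  refine (Nat.card_congr ?_).trans h
  refine
    { toFun := fun g => ⟨g.1.1, g.1.2, (mem_fixingSubgroup_iff _).2 (by rintro y ⟨i, rfl⟩; exact g.2)⟩
      invFun := fun g => ⟨⟨g.1, g.2.1⟩, (mem_fixingSubgroup_iff _).1 g.2.2 p ⟨0, rfl⟩⟩
      left_inv := fun _ => rfl
      right_inv := fun _ => rfl }

theorem card_stabilizer_two {p q : GolayPt} (hpq : p ≠ q) :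
    Nat.card ↥(MulAction.stabilizer M24 p ⊓ MulAction.stabilizer M24 q) = 443520 := by
  have hinj : Function.Injective ![p, q] := by
    intro i j h
    fin_cases i <;> fin_cases j <;> first | rfl | (exfalso; simp at h; exact hpq (by first | exact h | exact h.symm))
  have h := card_fix (show (2:ℕ) ≤ 5 by norm_num) ⟨_, hinj⟩
  refine (Nat.card_congr ?_).trans h
  refine
    { toFun := fun g => ⟨g.1.1, g.1.2, (mem_fixingSubgroup_iff _).2 (by
        rintro y ⟨i, rfl⟩
        fin_cases i
        exacts [g.2.1, g.2.2])⟩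
      invFun := fun g => ⟨⟨g.1, g.2.1⟩, (mem_fixingSubgroup_iff _).1 g.2.2 p ⟨0, rfl⟩,
        (mem_fixingSubgroup_iff _).1 g.2.2 q ⟨1, rfl⟩⟩
      left_inv := fun _ => rfl
      right_inv := fun _ => rfl }

end Cfsg.Agent.Spor
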