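/-
Permutations of the points given by image lists, membership of such a list in `M24`, and the
images of masks under words in a list of such permutations.
-/
import Cfsg.Agent.Lib.Spor.GolayTrans

set_option autoImplicit false
set_option maxRecDepth 100000

namespace Cfsg.Agent.Spor

open scoped Pointwise

/-- Image of a mask, by recursion on the image list. -/
def pm : List ℕ → ℕ → ℕ → ℕ
  | [], _, r => r
  | a :: l, m, r => pm l (m / 2) (if m % 2 = 1 then r ||| (1 <<< a) else r)

theorem testBit_pm : ∀ (l : List ℕ) (m r j : ℕ), Nat.testBit (pm l m r) j = true ↔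
    Nat.testBit r j = true ∨ ∃ i, i < l.length ∧ Nat.testBit m i = true ∧ l.getD i 0 = j
  | [], m, r, j => by simp [pm]
  | a :: l, m, r, j => by
      rw [pm, testBit_pm l]
      constructor
      · rintro (h | ⟨i, hi, hm, he⟩)
        · by_cases h0 : m % 2 = 1
          · rw [if_pos h0, Nat.testBit_or, Bool.or_eq_true, Nat.one_shiftLeft, Nat.testBit_two_pow,
              decide_eq_true_eq] at h
            rcases h with h | h
            · exact Or.inl h
            · exact Or.inr ⟨0, by simp, by simp [h0], by simpa using h⟩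
          · rw [if_neg h0] at h; exact Or.inl h
        · exact Or.inr ⟨i + 1, by simpa using hi, by rwa [Nat.testBit_succ], by simpa using he⟩
      · rintro (h | ⟨i, hi, hm, he⟩)
        · left; split <;> simp [Nat.testBit_or, h]
        · cases i with
          | zero =>
              left
              have h0 : m % 2 = 1 := by simpa using hm
              rw [if_pos h0, Nat.testBit_or, Nat.one_shiftLeft, Nat.testBit_two_pow]
              simp only [List.getD_cons_zero] at he
              simp [he]
          | succ i =>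
              exact Or.inr ⟨i, by simpa using hi, by rwa [Nat.testBit_succ] at hm, by simpa using he⟩

theorem pm_eq_pmask {l : List ℕ} (hl : l.length = 24) (m : ℕ) : pm l m 0 = pmask l m := by
  apply Nat.eq_of_testBit_eq
  intro j
  apply Bool.eq_iff_iff.2
  rw [testBit_pm, testBit_pmask, hl]
  simp

/-- the list is a bijection of the numbers below 24 -/
def lok (l : List ℕ) : Bool :=
  (l.length == 24) && l.all (fun a => decide (a < 24)) && (List.range 24).all (fun i => l.elem i)

theorem lok_bijective {l : List ℕ} (h : lok l = true) :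
    Function.Bijective (fun p : GolayPt => pt (l.getD (idx p) 0)) := by
  simp only [lok, Bool.and_eq_true, beq_iff_eq, List.all_eq_true, List.elem_iff, List.mem_range] at h
  refine Finite.surjective_iff_bijective.1 fun q => ?_
  obtain ⟨i, hi, e⟩ := List.getElem_of_mem (h.2 _ (idx_lt q))
  refine ⟨pt i, ?_⟩
  show pt (l.getD (idx (pt i)) 0) = q
  rw [idx_pt i (by omega), List.getD_eq_getElem _ _ hi, e, pt_idx]

/-- the permutation listed by `l` (the identity if `l` lists no permutation) -/
noncomputable def lperm (l : List ℕ) : Equiv.Perm GolayPt :=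
  if h : lok l = true then Equiv.ofBijective _ (lok_bijective h) else 1

theorem rep_lperm {l : List ℕ} (h : lok l = true) : Rep (lperm l) l := by
  intro p
  have h2 : lperm l p = pt (l.getD (idx p) 0) := by rw [lperm, dif_pos h]; rfl
  rw [h2, idx_pt]
  simp only [lok, Bool.and_eq_true, beq_iff_eq, List.all_eq_true, decide_eq_true_eq] at h
  rw [List.getD_eq_getElem _ _ (by rw [h.1.1]; exact idx_lt p)]
  exact h.1.2 _ (List.getElem_mem _)

theorem lperm_apply {l : List ℕ} (h : lok l = true) (p : GolayPt) :
    lperm l p = pt (l.getD (idx p) 0) := (rep_lperm h).apply p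

theorem mask_smul_lperm {l : List ℕ} (h : lok l = true) (s : Finset GolayPt) :
    mask (lperm l • s) = pm l (mask s) 0 := by
  rw [(rep_lperm h).mask_smul, pm_eq_pmask]
  simp only [lok, Bool.and_eq_true, beq_iff_eq] at h
  exact h.1.1

/-- elimination with pivots at the listed bits -/
def codeReduce : List ℕ → List ℕ → ℕ → ℕ
  | g :: gs, p :: ps, m => codeReduce gs ps (if Nat.testBit m p then m ^^^ g else m)
  | _, _, m => m

theorem codeReduce_mem : ∀ (gs ps : List ℕ) (m : ℕ), (∀ g ∈ gs, g ∈ codeMasks) →
    codeReduce gs ps m ∈ codeMasks → m ∈ codeMasks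
  | [], _, m, _, h => by simpa [codeReduce] using h
  | g :: gs, [], m, _, h => by simpa [codeReduce] using h
  | g :: gs, p :: ps, m, hg, h => by
      rw [codeReduce] at h
      have h2 := codeReduce_mem gs ps _ (fun x hx => hg x (List.mem_cons_of_mem _ hx)) h
      split at h2
      · simpa [Nat.xor_assoc] using codeMasks_xor h2 (hg g List.mem_cons_self)
      · exact h2

/-- the code basis in echelon form -/
def echBasis : List ℕ :=
  [16777215, 5453296, 2726648, 1363324, 681662, 340831, 145176, 84464, 42232, 18147, 10558, 5279]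

/-- highest bit of each member of `echBasis` -/
def codePivots : List ℕ := [23, 22, 21, 20, 19, 18, 17, 16, 15, 14, 13, 12]

/-- membership test for the code -/
def inCode (m : ℕ) : Bool := codeReduce echBasis codePivots m == 0

theorem inCode_mem {m : ℕ} (h : inCode m = true) : m ∈ codeMasks := by
  simp only [inCode, beq_iff_eq] at h
  refine codeReduce_mem echBasis codePivots m ?_ ?_
  · decide +kernel
  · rw [h]; exact xorSpan_zero _

/-- the list is that of an element of `M24` -/
def m24ok (l : List ℕ) : Bool := lok l && codeBasis.all (fun g => inCode (pm l g 0))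

theorem lperm_mem {l : List ℕ} (h : m24ok l = true) : lperm l ∈ M24 := by
  simp only [m24ok, Bool.and_eq_true, List.all_eq_true] at h
  rw [mem_M24]
  intro g hg
  rw [mask_smul_lperm h.1, mask_ofMask (by revert g hg; decide +kernel)]
  exact inCode_mem (h.2 g hg)

/-- Image of a mask under the permutation whose images are given as powers of two. -/
noncomputable def pmBit (l : List ℕ) : ℕ → ℕ :=
  List.rec (fun _ => 0) (fun a _ ih m => Nat.lor (Nat.mul (Nat.mod m 2) a) (ih (Nat.div m 2))) l

theorem pmBit_cons (a : ℕ) (l : List ℕ) (m : ℕ) :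
    pmBit (a :: l) m = (m % 2 * a) ||| pmBit l (m / 2) := rfl

theorem pm_eq_pmBit : ∀ (l : List ℕ) (m r : ℕ), pm l m r = r ||| pmBit (l.map (2 ^ ·)) m
  | [], m, r => by simp [pm, pmBit]
  | a :: l, m, r => by
      rw [pm, List.map_cons, pmBit_cons, pm_eq_pmBit l]
      rcases Nat.mod_two_eq_zero_or_one m with h | h
      · simp [h]
      · rw [h, one_mul, if_pos rfl, Nat.one_shiftLeft, Nat.lor_assoc]

/-- image of a mask under a word, given as digits one less than the base -/
noncomputable def wimgB (gs : List (List ℕ)) (b : ℕ) (fuel : ℕ) : ℕ → ℕ → ℕ :=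
  Nat.rec (fun _ m => m) (fun _ ih w m => cond (Nat.beq w 0) m
    (ih (Nat.div w b) (pmBit (gs.getD (Nat.sub (Nat.mod w b) 1) []) m))) fuel

theorem wimgB_succ (gs : List (List ℕ)) (b fuel w m : ℕ) :
    wimgB gs b (fuel + 1) w m = cond (Nat.beq w 0) m
      (wimgB gs b fuel (w / b) (pmBit (gs.getD (w % b - 1) []) m)) := rfl

/-- image of a mask under a word in `gs` -/
noncomputable def wimg (gs : List (List ℕ)) (fuel : ℕ) : ℕ → ℕ → ℕ :=
  wimgB (gs.map fun g => g.map (2 ^ ·)) (gs.length + 1) fuel

/-- number of letters allowed in a word -/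
def wfuel : ℕ := 32

theorem wimg_sound {L : Subgroup (Equiv.Perm GolayPt)} {gs : List (List ℕ)}
    (hne : gs ≠ []) (hok : gs.all lok = true) (hL : ∀ g ∈ gs, lperm g ∈ L) :
    ∀ (fuel w : ℕ), ∃ σ ∈ L, ∀ s : Finset GolayPt, mask (σ • s) = wimg gs fuel w (mask s)
  | 0, w => ⟨1, one_mem _, fun s => by rw [one_smul]; rfl⟩
  | fuel + 1, w => by
      by_cases hw : w = 0
      · exact ⟨1, one_mem _, fun s => by rw [one_smul, wimg, wimgB_succ, hw]; rfl⟩
      obtain ⟨σ, hσ, h⟩ := wimg_sound hne hok hL fuel (w / (gs.length + 1))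
      have hlt : w % (gs.length + 1) - 1 < gs.length := by
        have := Nat.mod_lt w (show gs.length + 1 > 0 by omega)
        have := List.length_pos_iff.2 hne
        omega
      set g := gs.getD (w % (gs.length + 1) - 1) [] with hg
      have hmem : g ∈ gs := by rw [hg, List.getD_eq_getElem _ _ hlt]; exact List.getElem_mem _
      refine ⟨σ * lperm g, mul_mem hσ (hL g hmem), fun s => ?_⟩
      have hw' : Nat.beq w 0 = false := by
        cases hb : Nat.beq w 0
        · rfl
        · exact absurd (Nat.eq_of_beq_eq_true hb) hw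
      have hi : w % (gs.length + 1) - 1 < (gs.map fun g => g.map (2 ^ ·)).length := by
        rw [List.length_map]; exact hlt
      rw [mul_smul, h, mask_smul_lperm (List.all_eq_true.1 hok g hmem), wimg, wimg, wimgB_succ, hw',
        cond_false, List.getD_eq_getElem _ _ hi, List.getElem_map, ← List.getD_eq_getElem _ [] hlt, ← hg,
        pm_eq_pmBit, Nat.zero_or]

/-- every target satisfies the test against some word -/
noncomputable def cover {β : Type*} (test : (ℕ → ℕ) → β → Bool) (gs : List (List ℕ)) :
    List β → List ℕ → Bool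
  | [], _ => true
  | _ :: _, [] => false
  | t :: ts, w :: ws => test (fun m => wimg gs wfuel w m) t && cover test gs ts ws

theorem cover_sound {β : Type*} {test : (ℕ → ℕ) → β → Bool} {gs : List (List ℕ)}
    {L : Subgroup (Equiv.Perm GolayPt)} (hne : gs ≠ []) (hok : gs.all lok = true)
    (hL : ∀ g ∈ gs, lperm g ∈ L) : ∀ {ts : List β} {ws : List ℕ}, cover test gs ts ws = true →
      ∀ t ∈ ts, ∃ σ ∈ L, ∃ f : ℕ → ℕ, (∀ s : Finset GolayPt, mask (σ • s) = f (mask s)) ∧ test f t = true
  | [], _, _, t, ht => by simp at ht
  | _ :: _, [], h, _, _ => by simp [cover] at h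
  | t₀ :: ts, w :: ws, h, t, ht => by
      simp only [cover, Bool.and_eq_true] at h
      rcases List.mem_cons.1 ht with rfl | ht
      · obtain ⟨σ, hσ, hs⟩ := wimg_sound hne hok hL wfuel w
        exact ⟨σ, hσ, _, hs, h.1⟩
      · exact cover_sound hne hok hL h.2 t ht

/-- the test for a single set -/
def setTest (root : ℕ) (f : ℕ → ℕ) (t : ℕ) : Bool := f root == t

/-- transitivity from a cover -/
theorem setCover_sound {gs : List (List ℕ)} {L : Subgroup (Equiv.Perm GolayPt)} {root : ℕ}
    (hroot : root < 2 ^ 24) (hne : gs ≠ []) (hok : gs.all lok = true)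
    (hL : ∀ g ∈ gs, lperm g ∈ L) {ts ws : List ℕ} (h : cover (setTest root) gs ts ws = true)
    {s : Finset GolayPt} (hs : mask s ∈ ts) : ∃ σ ∈ L, σ • ofMask root = s := by
  obtain ⟨σ, hσ, f, hf, ht⟩ := cover_sound hne hok hL h _ hs
  refine ⟨σ, hσ, mask_injective ?_⟩
  rw [hf, mask_ofMask hroot]
  exact beq_iff_eq.1 ht

/-- the elements of `M24` listed in `gs` that fix the set with mask `root` -/
theorem lperm_mem_stab {g : List ℕ} {root : ℕ} (hroot : root < 2 ^ 24) (hg : m24ok g = true)
    (hfix : pm g root 0 = root) :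
    lperm g ∈ M24 ⊓ MulAction.stabilizer (Equiv.Perm GolayPt) (ofMask root) := by
  refine ⟨lperm_mem hg, MulAction.mem_stabilizer_iff.2 (mask_injective ?_)⟩
  rw [mask_smul_lperm (by simp only [m24ok, Bool.and_eq_true] at hg; exact hg.1), mask_ofMask hroot, hfix]

/-- the checked generators of a set stabiliser -/
def stabGens (root : ℕ) (gs : List (List ℕ)) : Bool :=
  !gs.isEmpty && gs.all (fun g => m24ok g && (pm g root 0 == root))

theorem stabGens_sound {root : ℕ} (hroot : root < 2 ^ 24) {gs : List (List ℕ)}
    (h : stabGens root gs = true) : gs ≠ [] ∧ gs.all lok = true ∧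
      ∀ g ∈ gs, lperm g ∈ M24 ⊓ MulAction.stabilizer (Equiv.Perm GolayPt) (ofMask root) := by
  simp only [stabGens, Bool.and_eq_true, Bool.not_eq_true', List.all_eq_true, beq_iff_eq,
    List.isEmpty_eq_false_iff] at h
  refine ⟨h.1, List.all_eq_true.2 fun g hg => ?_, fun g hg => lperm_mem_stab hroot (h.2 g hg).1 (h.2 g hg).2⟩
  have := (h.2 g hg).1
  simp only [m24ok, Bool.and_eq_true] at this
  exact this.1

end Cfsg.Agent.Spor
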