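/-
Orbit decompositions of a stabiliser in `M24` from tagged word certificates.
-/
import Cfsg.Agent.Lib.Spor.GolayWords

set_option autoImplicit false
set_option maxRecDepth 100000

namespace Cfsg.Agent.Spor

open scoped Pointwise

/-- Orbits from a tagged list: each listed code is reached from the representative of its tag,
and an invariant separates the representatives. -/
theorem orbit_classes {K Y X ι β : Type*} [Group K] [MulAction K Y] [DecidableEq ι]
    {S : Set Y} (hSinv : ∀ k : K, ∀ y ∈ S, k • y ∈ S)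
    {code : Y → X} (hcode : Set.InjOn code S) {L : List (X × ι)} (hL : (L.map Prod.fst).Nodup)
    (hmem : ∀ y ∈ S, code y ∈ L.map Prod.fst) {cs : List ι} (hcs : ∀ p ∈ L, p.2 ∈ cs)
    {r : ι → Y} (hr : ∀ c ∈ cs, r c ∈ S) (hcov : ∀ p ∈ L, ∃ k : K, code (k • r p.2) = p.1)
    (inv : Y → β) (hinv : ∀ (k : K) (y : Y), inv (k • y) = inv y)
    (hsep : ∀ c ∈ cs, ∀ c' ∈ cs, inv (r c) = inv (r c') → c = c') :
    (∀ c ∈ cs, (MulAction.orbit K (r c)).ncard = (L.filter fun p => decide (p.2 = c)).length) ∧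
      (∀ y ∈ S, ∃ c ∈ cs, y ∈ MulAction.orbit K (r c)) ∧
      ∀ y ∈ S, ∀ y' ∈ S, inv y = inv y' → ∃ k : K, k • y = y' := by
  classical
  have hfind : ∀ y ∈ S, ∃ p ∈ L, code y = p.1 ∧ y ∈ MulAction.orbit K (r p.2) := by
    intro y hy
    obtain ⟨p, hp, e⟩ := List.mem_map.1 (hmem y hy)
    obtain ⟨k, hk⟩ := hcov p hp
    exact ⟨p, hp, e.symm, ⟨k, hcode (hSinv k _ (hr _ (hcs p hp))) hy (hk.trans e)⟩⟩
  have htag : ∀ p ∈ L, ∀ c ∈ cs, ∀ y ∈ MulAction.orbit K (r c), code y = p.1 → p.2 = c := by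
    rintro p hp c hc _ ⟨k, rfl⟩ e
    obtain ⟨k', hk'⟩ := hcov p hp
    have h := hcode (hSinv k' _ (hr _ (hcs p hp))) (hSinv k _ (hr c hc)) (hk'.trans e.symm)
    apply hsep _ (hcs p hp) c hc
    rw [← hinv k' (r p.2), h, hinv]
  refine ⟨fun c hc => ?_, fun y hy => ?_, fun y hy y' hy' h => ?_⟩
  · have himg : code '' MulAction.orbit K (r c) =
        (((L.filter fun p => decide (p.2 = c)).map Prod.fst).toFinset : Set X) := by
      ext x
      rw [SetLike.mem_coe, List.mem_toFinset, List.mem_map]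
      constructor
      · rintro ⟨y, hy, rfl⟩
        have hyS : y ∈ S := by obtain ⟨k, rfl⟩ := hy; exact hSinv k _ (hr c hc)
        obtain ⟨p, hp, e⟩ := List.mem_map.1 (hmem y hyS)
        exact ⟨p, List.mem_filter.2 ⟨hp, by simpa using htag p hp c hc y hy e.symm⟩, e⟩
      · rintro ⟨p, hp, rfl⟩
        obtain ⟨hp, hpc⟩ := List.mem_filter.1 hp
        obtain ⟨k, hk⟩ := hcov p hp
        rw [decide_eq_true_eq] at hpc
        exact ⟨_, ⟨k, rfl⟩, hpc ▸ hk⟩
    have hsub : MulAction.orbit K (r c) ⊆ S := by rintro _ ⟨k, rfl⟩; exact hSinv k _ (hr c hc)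
    rw [← Set.InjOn.ncard_image (hcode.mono hsub), himg, Set.ncard_coe_finset,
      List.toFinset_card_of_nodup (hL.sublist ((List.filter_sublist ..).map _)), List.length_map]
  · obtain ⟨p, hp, -, hy'⟩ := hfind y hy
    exact ⟨_, hcs p hp, hy'⟩
  · obtain ⟨p, hp, -, ⟨k, hk⟩⟩ := hfind y hy
    obtain ⟨q, hq, -, ⟨k', hk'⟩⟩ := hfind y' hy'
    have hpq : p.2 = q.2 := hsep _ (hcs p hp) _ (hcs q hq) (by
      rw [← hinv k (r p.2), ← hinv k' (r q.2), show k • r p.2 = y from hk, show k' • r q.2 = y' from hk', h])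
    refine ⟨k' * k⁻¹, ?_⟩
    rw [← hk, mul_smul, ← hk', hpq]
    simp

/-- A stabiliser is maximal if, with any representative mover, it is transitive. -/
theorem coatom_classes {G Y ι : Type*} [Group G] [MulAction G Y] {a : Y} {cs : List ι}
    {r : ι → Y} {g : ι → G} (hne : ∃ x : G, x • a ≠ a)
    (hS : ∀ x : G, x • a = a ∨ ∃ c ∈ cs, ∃ k ∈ MulAction.stabilizer G a, k • r c = x • a)
    (hg : ∀ c ∈ cs, g c • a = r c)
    (hgen : ∀ c ∈ cs, ∀ L : Subgroup G, MulAction.stabilizer G a ≤ L → g c ∈ L →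
      ∀ x : G, ∃ l ∈ L, l • a = x • a) :
    IsCoatom (MulAction.stabilizer G a) := by
  refine ⟨fun e => ?_, fun L hL => ?_⟩
  · obtain ⟨x, hx⟩ := hne
    exact hx (by rw [← MulAction.mem_stabilizer_iff, e]; trivial)
  obtain ⟨y, hy, hya⟩ := SetLike.exists_of_lt hL
  rcases hS y with h | ⟨c, hc, k, hk, e⟩
  · exact absurd h hya
  have hgL : g c ∈ L := by
    have h1 : y⁻¹ * (k * g c) ∈ L := hL.le (by
      rw [MulAction.mem_stabilizer_iff, mul_smul, mul_smul, hg c hc, e, inv_smul_smul])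
    have h2 := mul_mem hy h1
    rw [mul_inv_cancel_left] at h2
    have h3 := mul_mem (inv_mem (hL.le hk)) h2
    rwa [inv_mul_cancel_left] at h3
  refine eq_top_iff.2 fun x _ => ?_
  obtain ⟨l, hl, e'⟩ := hgen c hc L hL.le hgL x
  have h : l⁻¹ * x ∈ L := hL.le (by rw [MulAction.mem_stabilizer_iff, mul_smul, ← e', inv_smul_smul])
  simpa using mul_mem hl h

/-- checked generators lying in a subgroup of `M24` -/
def GensIn (K : Subgroup M24) (gs : List (List ℕ)) : Prop :=
  gs ≠ [] ∧ gs.all lok = true ∧ ∀ g ∈ gs, lperm g ∈ K.map M24.subtype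

theorem coverK_sound {β : Type*} {test : (ℕ → ℕ) → β → Bool} {gs : List (List ℕ)} {K : Subgroup M24}
    (hgs : GensIn K gs) {ts : List β} {ws : List ℕ} (h : cover test gs ts ws = true) {t : β} (ht : t ∈ ts) :
    ∃ k : K, ∃ f : ℕ → ℕ,
      (∀ s : Finset GolayPt, mask (((k : M24) : Equiv.Perm GolayPt) • s) = f (mask s)) ∧ test f t = true := by
  obtain ⟨σ, ⟨k, hk, rfl⟩, f, hf, htest⟩ := cover_sound hgs.1 hgs.2.1 hgs.2.2 h t ht
  exact ⟨⟨k, hk⟩, f, hf, htest⟩

theorem GensIn.mk' {K : Subgroup M24} {gs : List (List ℕ)} {P : List ℕ → Bool}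
    (h : (!gs.isEmpty && gs.all fun g => m24ok g && P g) = true)
    (hK : ∀ g, ∀ hg : m24ok g = true, P g = true → (⟨lperm g, lperm_mem hg⟩ : M24) ∈ K) :
    GensIn K gs := by
  simp only [Bool.and_eq_true, Bool.not_eq_true', List.all_eq_true, List.isEmpty_eq_false_iff] at h
  refine ⟨h.1, List.all_eq_true.2 fun g hg => ?_, fun g hg => ⟨_, hK g (h.2 g hg).1 (h.2 g hg).2, rfl⟩⟩
  have := (h.2 g hg).1
  simp only [m24ok, Bool.and_eq_true] at this
  exact this.1

theorem GensIn.cons {K L : Subgroup M24} {gs : List (List ℕ)} {g : List ℕ} (h : GensIn K gs)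
    (hle : K ≤ L) (hg : m24ok g = true) (hmem : (⟨lperm g, lperm_mem hg⟩ : M24) ∈ L) :
    GensIn L (gs ++ [g]) := by
  have hg' : lok g = true := by simp only [m24ok, Bool.and_eq_true] at hg; exact hg.1
  refine ⟨by simp, by simp [h.2.1, hg'], fun x hx => ?_⟩
  rcases List.mem_append.1 hx with hx | hx
  · exact Subgroup.map_mono hle (h.2.2 x hx)
  · rw [List.mem_singleton] at hx; subst hx; exact ⟨_, hmem, rfl⟩

/-- a configuration: the sets with the given masks -/
def confOf (l : List ℕ) : Finset (Finset GolayPt) := (l.map ofMask).toFinset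

theorem mem_confOf {l : List ℕ} {s : Finset GolayPt} : s ∈ confOf l ↔ ∃ m ∈ l, ofMask m = s := by
  simp [confOf]

theorem ofMask_eq_smul {g : List ℕ} (hg : lok g = true) {m m' : ℕ} (hm : m < 2 ^ 24)
    (h : pm g m 0 = m') : lperm g • ofMask m = ofMask m' := by
  rw [← h, ← ofMask_mask (lperm g • ofMask m), mask_smul_lperm hg, mask_ofMask hm]

/-- the permutation `g` carries the configuration `A` to itself -/
def fixesConf (A : List ℕ) (g : List ℕ) : Bool :=
  A.all fun m => decide (m < 2 ^ 24) && A.elem (pm g m 0)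

theorem fixesConf_sound {A : List ℕ} {g : List ℕ} (hg : lok g = true) (h : fixesConf A g = true) :
    lperm g • confOf A = confOf A := by
  simp only [fixesConf, List.all_eq_true, Bool.and_eq_true, decide_eq_true_eq, List.elem_iff] at h
  refine Finset.eq_of_subset_of_card_le ?_ (by rw [Finset.card_smul_finset])
  intro s hs
  obtain ⟨t, ht, rfl⟩ := Finset.mem_smul_finset.1 hs
  obtain ⟨m, hm, rfl⟩ := mem_confOf.1 ht
  obtain ⟨hlt, hmem⟩ := h m hm
  exact mem_confOf.2 ⟨_, hmem, (ofMask_eq_smul hg hlt rfl).symm⟩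

/-- the images of all members of a configuration are given by the mask map -/
theorem smul_confOf {σ : Equiv.Perm GolayPt} {f : ℕ → ℕ}
    (hf : ∀ s : Finset GolayPt, mask (σ • s) = f (mask s)) {A : List ℕ} (hA : ∀ m ∈ A, m < 2 ^ 24) :
    σ • confOf A = confOf (A.map f) := by
  ext s
  simp only [Finset.mem_smul_finset, mem_confOf, List.mem_map]
  constructor
  · rintro ⟨_, ⟨m, hm, rfl⟩, rfl⟩
    refine ⟨_, ⟨m, hm, rfl⟩, ?_⟩
    rw [show f m = mask (σ • ofMask m) by rw [hf, mask_ofMask (hA m hm)], ofMask_mask]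
  · rintro ⟨_, ⟨m, hm, rfl⟩, rfl⟩
    refine ⟨_, ⟨m, hm, rfl⟩, ?_⟩
    rw [show f m = mask (σ • ofMask m) by rw [hf, mask_ofMask (hA m hm)], ofMask_mask]

/-- an invariant of a pair of configurations -/
def pinv (A B : Finset (Finset GolayPt)) : ℕ := ∑ a ∈ A, ∑ b ∈ B, ((a ∩ b).card + 1) ^ 5

theorem pinv_smul {σ : Equiv.Perm GolayPt} {A : Finset (Finset GolayPt)} (h : σ • A = A)
    (B : Finset (Finset GolayPt)) : pinv A (σ • B) = pinv A B := by
  have hs : ∀ (A : Finset (Finset GolayPt)) (F : Finset GolayPt → ℕ),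
      ∑ a ∈ σ • A, F a = ∑ a ∈ A, F (σ • a) := fun A F => by
    rw [Finset.smul_finset_def, Finset.sum_image fun x _ y _ e => MulAction.injective σ e]
  unfold pinv
  conv_lhs => rw [← h]
  rw [hs]
  refine Finset.sum_congr rfl fun a _ => ?_
  rw [hs]
  refine Finset.sum_congr rfl fun b _ => ?_
  rw [← Finset.smul_finset_inter, Finset.card_smul_finset]

end Cfsg.Agent.Spor
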