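/-
Sextets, and the masks of the subsets of a given size.
-/
import Cfsg.Agent.Lib.Spor.GolayClasses
import Cfsg.Agent.Lib.Spor.GolayCount
import Cfsg.Prelude.Def_SporadicCombinatorics

set_option autoImplicit false
set_option maxRecDepth 100000

namespace Cfsg.Agent.Spor

open scoped Pointwise

/-- masks of the `k`-subsets of the 24 points -/
def subMasks (k : ℕ) : List ℕ := ((List.range 24).sublistsLen k).map listMask

theorem mem_subMasks {k : ℕ} {s : Finset GolayPt} (h : s.card = k) : mask s ∈ subMasks k := by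
  refine List.mem_map.2 ⟨(List.range 24).filter fun i => Nat.testBit (mask s) i,
    List.mem_sublistsLen.2 ⟨List.filter_sublist .., ?_⟩, ?_⟩
  · rw [← pc_eq, pc_mask, h]
  · apply Nat.eq_of_testBit_eq
    intro j
    apply Bool.eq_iff_iff.2
    rw [testBit_listMask, List.mem_filter, List.mem_range]
    refine ⟨fun h => h.2, fun h => ⟨?_, h⟩⟩
    by_contra hj
    rw [testBit_mask_ge (not_lt.1 hj)] at h
    exact Bool.false_ne_true h

theorem subMasks_card {k : ℕ} {m : ℕ} (hm : m ∈ subMasks k) :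
    m < 2 ^ 24 ∧ (ofMask m).card = k := by
  obtain ⟨l, hl, rfl⟩ := List.mem_map.1 hm
  obtain ⟨hsub, hlen⟩ := List.mem_sublistsLen.1 hl
  have hmem : ∀ i ∈ l, i < 24 := fun i hi => List.mem_range.1 (hsub.subset hi)
  refine ⟨Nat.lt_pow_two_of_testBit _ fun j hj => ?_, ?_⟩
  · by_contra h
    rw [Bool.not_eq_false, testBit_listMask] at h
    exact absurd (hmem j h) (not_lt.2 hj)
  · have : ofMask (listMask l) = l.toFinset.image pt := by
      ext p
      simp only [mem_ofMask, testBit_listMask, Finset.mem_image, List.mem_toFinset]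
      exact ⟨fun h => ⟨_, h, pt_idx p⟩, fun ⟨i, hi, e⟩ => by rw [← e, idx_pt i (hmem i hi)]; exact hi⟩
    rw [this, Finset.card_image_of_injOn, List.toFinset_card_of_nodup (hsub.nodup List.nodup_range), hlen]
    intro a ha b hb e
    rw [Finset.mem_coe, List.mem_toFinset] at ha hb
    simpa [idx_pt a (hmem a ha), idx_pt b (hmem b hb)] using congrArg idx e

/-- the five other tetrads of the sextet of the tetrad 15 -/
def sxOther : List ℕ := (octMasks.filter fun m => m &&& 15 == 15).map (· ^^^ 15)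

/-- the base sextet -/
def sxBase : List ℕ := [15, 5264, 622848, 3416064, 4196928, 8536096]

theorem sxBase_facts : (∀ m ∈ sxBase, m < 2 ^ 24 ∧ pc m = 4) ∧ sxBase.Nodup ∧
    (∀ a ∈ sxBase, ∀ b ∈ sxBase, a ≠ b → a ||| b ∈ octMasks ∧ a &&& b = 0) ∧
    (∀ m ∈ sxOther, m ∈ sxBase) := by decide +kernel

theorem confOf_card {A : List ℕ} (hnd : A.Nodup) (hA : ∀ m ∈ A, m < 2 ^ 24) :
    (confOf A).card = A.length := by
  rw [confOf, List.toFinset_card_of_nodup, List.length_map]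
  refine hnd.map_on fun a ha b hb e => ?_
  rw [← mask_ofMask (hA a ha), e, mask_ofMask (hA b hb)]

theorem confOf_sxBase : confOf sxBase ∈ sextets ∧ ofMask 15 ∈ confOf sxBase := by
  obtain ⟨h1, h2, h3, -⟩ := sxBase_facts
  refine ⟨⟨confOf_card h2 fun m hm => (h1 m hm).1, ?_, ?_⟩, mem_confOf.2 ⟨15, by simp [sxBase], rfl⟩⟩
  · intro t ht
    obtain ⟨m, hm, rfl⟩ := mem_confOf.1 ht
    rw [← pc_mask, mask_ofMask (h1 m hm).1, (h1 m hm).2]
  · intro t ht u hu hne
    obtain ⟨m, hm, rfl⟩ := mem_confOf.1 ht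
    obtain ⟨n, hn, rfl⟩ := mem_confOf.1 hu
    rw [mem_octads, mask_union, mask_ofMask (h1 m hm).1, mask_ofMask (h1 n hn).1]
    exact (h3 m hm n hn fun e => hne (by rw [e])).1

theorem smul_sextet {σ : Equiv.Perm GolayPt} (hσ : σ ∈ M24) {S : Finset (Finset GolayPt)}
    (hS : S ∈ sextets) : σ • S ∈ sextets := by
  obtain ⟨h6, h4, hu⟩ := hS
  refine ⟨by rw [Finset.card_smul_finset, h6], ?_, ?_⟩
  · intro t' ht'
    obtain ⟨t, ht, rfl⟩ := Finset.mem_smul_finset.1 ht'
    rw [Finset.card_smul_finset, h4 t ht]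
  · intro t' ht' u' hu' hne
    obtain ⟨t, ht, rfl⟩ := Finset.mem_smul_finset.1 ht'
    obtain ⟨u, huS, rfl⟩ := Finset.mem_smul_finset.1 hu'
    rw [← Finset.smul_finset_union]
    exact smul_octad hσ (hu t ht u huS fun e => hne (by rw [e]))

theorem sextet_base_unique {S : Finset (Finset GolayPt)} (hS : S ∈ sextets) (h : ofMask 15 ∈ S) :
    S = confOf sxBase := by
  obtain ⟨h6, h4, hu⟩ := hS
  obtain ⟨h1, h2, -, hother⟩ := sxBase_facts
  have h15 : mask (ofMask 15) = 15 := mask_ofMask (by norm_num)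
  refine Finset.eq_of_subset_of_card_le (fun u huS => ?_)
    (by rw [confOf_card h2 fun m hm => (h1 m hm).1, h6]; rfl)
  by_cases he : u = ofMask 15
  · exact he ▸ confOf_sxBase.2
  have ho := hu _ h u huS (fun e => he e.symm)
  have hd : Disjoint (ofMask 15) u := by
    rw [← Finset.card_union_eq_card_add_card, ho.2, h4 u huS, h4 _ h]
  refine mem_confOf.2 ⟨mask u, hother _ ?_, ofMask_mask u⟩
  refine List.mem_map.2 ⟨mask (ofMask 15 ∪ u), List.mem_filter.2 ⟨mem_octads.1 ho, beq_iff_eq.2 ?_⟩, ?_⟩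
  · have e : (ofMask 15 ∪ u) ∩ ofMask 15 = ofMask 15 := Finset.inter_eq_right.2 Finset.subset_union_left
    have e2 := congrArg mask e
    rwa [mask_inter, h15] at e2
  · rw [← Finset.sup_eq_union, ← hd.symmDiff_eq_sup, mask_symmDiff, h15, Nat.xor_comm, ← Nat.xor_assoc,
      Nat.xor_self, Nat.zero_xor]

theorem exists_sextet_map {S : Finset (Finset GolayPt)} (hS : S ∈ sextets) {t : Finset GolayPt}
    (ht : t ∈ S) : ∃ σ ∈ M24, σ • confOf sxBase = S ∧ σ • ofMask 15 = t := by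
  have hc := hS.2.1 t ht
  obtain ⟨σ, hσ, e⟩ := exists_map_set (show t.card ≤ 5 by omega)
  rw [hc] at e
  refine ⟨σ, hσ, ?_, e⟩
  rw [← sextet_base_unique (smul_sextet (inv_mem hσ) hS), smul_inv_smul]
  have h2 := Finset.smul_mem_smul_finset (a := σ⁻¹) ht
  rwa [← e, inv_smul_smul] at h2

theorem sextet_unique {S S' : Finset (Finset GolayPt)} (hS : S ∈ sextets) (hS' : S' ∈ sextets)
    {t : Finset GolayPt} (ht : t ∈ S) (ht' : t ∈ S') : S = S' := by
  obtain ⟨σ, hσ, e, e'⟩ := exists_sextet_map hS ht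
  rw [← e, ← sextet_base_unique (smul_sextet (inv_mem hσ) hS'), smul_inv_smul]
  have h2 := Finset.smul_mem_smul_finset (a := σ⁻¹) ht'
  rwa [← e', inv_smul_smul] at h2

theorem existsUnique_sextet {t : Finset GolayPt} (ht : t.card = 4) : ∃! S, S ∈ sextets ∧ t ∈ S := by
  obtain ⟨σ, hσ, e⟩ := exists_map_set (show t.card ≤ 5 by omega)
  rw [ht] at e
  refine ⟨σ • confOf sxBase, ⟨smul_sextet hσ confOf_sxBase.1, ?_⟩, fun S hS => ?_⟩
  · rw [← e]; exact Finset.smul_mem_smul_finset confOf_sxBase.2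
  · refine sextet_unique hS.1 (smul_sextet hσ confOf_sxBase.1) hS.2 ?_
    rw [← e]; exact Finset.smul_mem_smul_finset confOf_sxBase.2

theorem sextet_trans {S S' : Finset (Finset GolayPt)} (hS : S ∈ sextets) (hS' : S' ∈ sextets) :
    ∃ σ ∈ M24, σ • S = S' := by
  obtain ⟨t, ht⟩ := Finset.card_pos.1 (show 0 < S.card by rw [hS.1]; norm_num)
  obtain ⟨u, hu⟩ := Finset.card_pos.1 (show 0 < S'.card by rw [hS'.1]; norm_num)
  obtain ⟨σ, hσ, rfl, -⟩ := exists_sextet_map hS ht
  obtain ⟨τ, hτ, rfl, -⟩ := exists_sextet_map hS' hu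
  exact ⟨τ * σ⁻¹, mul_mem hτ (inv_mem hσ), by rw [mul_smul, inv_smul_smul]⟩

theorem sextet_mem_unique {S : Finset (Finset GolayPt)} (hS : S ∈ sextets) (p : GolayPt) :
    ∃! t, t ∈ S ∧ p ∈ t := by
  obtain ⟨u, hu⟩ := Finset.card_pos.1 (show 0 < S.card by rw [hS.1]; norm_num)
  obtain ⟨σ, hσ, rfl, -⟩ := exists_sextet_map hS hu
  have base : ∀ q : GolayPt, ∃ m ∈ sxBase, Nat.testBit m (idx q) = true ∧
      ∀ n ∈ sxBase, Nat.testBit n (idx q) = true → n = m := by decide +kernel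
  obtain ⟨m, hm, hq, huniq⟩ := base (σ⁻¹ p)
  refine ⟨σ • ofMask m, ⟨Finset.smul_mem_smul_finset (mem_confOf.2 ⟨m, hm, rfl⟩), ?_⟩, ?_⟩
  · rw [← Finset.inv_smul_mem_iff]; exact mem_ofMask.2 hq
  · rintro t' ⟨ht', hp⟩
    obtain ⟨t, ht, rfl⟩ := Finset.mem_smul_finset.1 ht'
    obtain ⟨n, hn, rfl⟩ := mem_confOf.1 ht
    rw [← Finset.inv_smul_mem_iff, mem_ofMask] at hp
    rw [huniq n hn hp]

/-- code of a sextet: the mask of its tetrad through the point numbered 0 -/
def sxKey (S : Finset (Finset GolayPt)) : ℕ := ∑ t ∈ S.filter (fun t => pt 0 ∈ t), mask t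

theorem sxKey_eq {S : Finset (Finset GolayPt)} (hS : S ∈ sextets) {t : Finset GolayPt} (ht : t ∈ S)
    (h0 : pt 0 ∈ t) : sxKey S = mask t := by
  have : S.filter (fun t => pt 0 ∈ t) = {t} := by
    ext u
    rw [Finset.mem_filter, Finset.mem_singleton]
    exact ⟨fun h => (sextet_mem_unique hS (pt 0)).unique h ⟨ht, h0⟩, fun h => h ▸ ⟨ht, h0⟩⟩
  rw [sxKey, this, Finset.sum_singleton]

/-- masks of the tetrads through the point numbered 0 -/
def sxKeys : List ℕ := (subMasks 4).filter fun m => Nat.testBit m 0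

theorem sxKey_mem {S : Finset (Finset GolayPt)} (hS : S ∈ sextets) : sxKey S ∈ sxKeys := by
  obtain ⟨t, ⟨ht, h0⟩, -⟩ := sextet_mem_unique hS (pt 0)
  rw [sxKey_eq hS ht h0]
  refine List.mem_filter.2 ⟨mem_subMasks (hS.2.1 t ht), ?_⟩
  rw [show (0 : ℕ) = idx (pt 0) from (idx_pt 0 (by norm_num)).symm]
  exact testBit_mask_idx.2 h0

theorem sxKey_injOn : Set.InjOn sxKey sextets := by
  intro S hS S' hS' e
  obtain ⟨t, ⟨ht, h0⟩, -⟩ := sextet_mem_unique hS (pt 0)
  obtain ⟨t', ⟨ht', h0'⟩, -⟩ := sextet_mem_unique hS' (pt 0)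
  rw [sxKey_eq hS ht h0, sxKey_eq hS' ht' h0'] at e
  exact sextet_unique hS hS' ht (mask_injective e ▸ ht')

theorem sxKeys_nodup : sxKeys.Nodup := by
  refine List.Nodup.filter _ ((List.nodup_sublistsLen 4 List.nodup_range).map_on ?_)
  intro a ha b hb e
  refine List.Perm.eq_of_pairwise (le := (· < ·)) (fun x y _ _ h1 h2 => absurd h1 (lt_asymm h2))
    (List.pairwise_lt_range.sublist (List.mem_sublistsLen.1 ha).1)
    (List.pairwise_lt_range.sublist (List.mem_sublistsLen.1 hb).1) ?_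
  rw [List.perm_ext_iff_of_nodup ((List.mem_sublistsLen.1 ha).1.nodup List.nodup_range)
    ((List.mem_sublistsLen.1 hb).1.nodup List.nodup_range)]
  intro x
  rw [← testBit_listMask, ← testBit_listMask, e]

theorem ncard_sextets : sextets.ncard = 1771 := by
  have himg : sxKey '' sextets = (sxKeys.toFinset : Set ℕ) := by
    ext m
    rw [SetLike.mem_coe, List.mem_toFinset]
    constructor
    · rintro ⟨S, hS, rfl⟩; exact sxKey_mem hS
    · intro hm
      obtain ⟨hm4, h0⟩ := List.mem_filter.1 hm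
      obtain ⟨hlt, hc⟩ := subMasks_card hm4
      obtain ⟨S, ⟨hS, ht⟩, -⟩ := existsUnique_sextet hc
      refine ⟨S, hS, ?_⟩
      rw [sxKey_eq hS ht (by rw [mem_ofMask, idx_pt 0 (by norm_num)]; exact h0), mask_ofMask hlt]
  rw [← Set.InjOn.ncard_image sxKey_injOn, himg, Set.ncard_coe_finset,
    List.toFinset_card_of_nodup sxKeys_nodup]
  decide +kernel

theorem orbit_sextet {S : Finset (Finset GolayPt)} (hS : S ∈ sextets) :
    MulAction.orbit M24 S = sextets := by
  ext S'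
  constructor
  · rintro ⟨⟨σ, hσ⟩, rfl⟩; exact smul_sextet hσ hS
  · intro hS'
    obtain ⟨σ, hσ, rfl⟩ := sextet_trans hS hS'
    exact ⟨⟨σ, hσ⟩, rfl⟩

theorem card_stab_sextet {S : Finset (Finset GolayPt)} (hS : S ∈ sextets) :
    Nat.card (MulAction.stabilizer M24 S) = 138240 := by
  have h := Subgroup.card_mul_index (MulAction.stabilizer M24 S)
  rw [MulAction.index_stabilizer, orbit_sextet hS, ncard_sextets, card_M24] at h
  omega

end Cfsg.Agent.Spor
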