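/-
Dodecads: transitivity, the order of the stabiliser, its sharp transitivity on five points.
-/
import Cfsg.Agent.Lib.Spor.GolayWords
import Cfsg.Agent.Lib.Spor.GolayStabData
import Cfsg.Agent.Lib.Spor.GolayCount

set_option autoImplicit false
set_option maxRecDepth 100000

namespace Cfsg.Agent.Spor

open scoped Pointwise

/-- the standard dodecad -/
def baseDod : ℕ := 165759

theorem baseDod_lt : baseDod < 2 ^ 24 := by norm_num [baseDod]

theorem baseDod_mem : ofMask baseDod ∈ dodecads := by
  rw [mem_dodecads, mask_ofMask baseDod_lt]; decide +kernel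

theorem fix5_gens : fix5Gens ≠ [] ∧ fix5Gens.all lok = true ∧
    ∀ g ∈ fix5Gens, lperm g ∈ fixL M24 (chainBase.take 5) := by
  have h : (fix5Gens.all fun g => m24ok g && (List.range 5).all fun i => g.getD i 0 == i) = true := by
    decide +kernel
  simp only [List.all_eq_true, Bool.and_eq_true, beq_iff_eq, List.mem_range] at h
  have hlok : ∀ g ∈ fix5Gens, lok g = true := fun g hg => by
    have := (h g hg).1; simp only [m24ok, Bool.and_eq_true] at this; exact this.1
  refine ⟨by decide, List.all_eq_true.2 hlok, fun g hg => mem_fixL.2 ⟨lperm_mem (h g hg).1, ?_⟩⟩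
  intro p hp
  apply idx_injective
  rw [← rep_lperm (hlok g hg) p]
  refine (h g hg).2 _ ?_
  rwa [show chainBase.take 5 = List.range 5 by decide +kernel, List.mem_range] at hp

/-- dodecads through the first five base points -/
def dodFive : List ℕ := dodMasks.filter fun m => m &&& 31 == 31

theorem dodFive_orbit {d : Finset GolayPt} (hd : mask d ∈ dodFive) :
    ∃ σ ∈ fixL M24 (chainBase.take 5), σ • ofMask baseDod = d := by
  obtain ⟨hne, hok, hL⟩ := fix5_gens
  exact setCover_sound baseDod_lt hne hok hL (ws := dod5Words) (ts := dodFive) (by decide +kernel) hd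

/-- elements of `M24` fixing five points and a dodecad through them are trivial (standard position) -/
theorem fix5_dodecad_eq_one {d : Finset GolayPt} (hd : mask d ∈ dodFive) {σ : Equiv.Perm GolayPt}
    (hσ : σ ∈ fixL M24 (chainBase.take 5)) (h : σ • d = d) : σ = 1 := by
  set F := fixL M24 (chainBase.take 5) with hF
  have horb : MulAction.orbit F (ofMask baseDod) = {s | mask s ∈ dodFive} := by
    ext s
    constructor
    · rintro ⟨⟨τ, hτ⟩, rfl⟩
      obtain ⟨hM, hfix⟩ := mem_fixL.1 hτ
      have h5 : τ • ofMask 31 = ofMask 31 := by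
        rw [smul_finset_eq_image]
        refine (Finset.image_congr ?_).trans Finset.image_id
        intro p hp
        refine hfix p ?_
        rw [Finset.mem_coe] at hp
        revert hp
        revert p
        decide +kernel
      have hsub : ofMask 31 ⊆ τ • ofMask baseDod :=
        h5 ▸ Finset.smul_finset_subset_smul_finset (by decide +kernel)
      refine List.mem_filter.2 ⟨mem_dodecads.1 (smul_dodecad hM baseDod_mem), beq_iff_eq.2 ?_⟩
      show mask (τ • ofMask baseDod) &&& 31 = 31
      have h31 : mask (ofMask 31) = 31 := mask_ofMask (by norm_num)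
      conv_lhs => rw [← h31, ← mask_inter, Finset.inter_eq_right.2 hsub, h31]
    · intro hs
      obtain ⟨τ, hτ, rfl⟩ := dodFive_orbit hs
      exact ⟨⟨τ, hτ⟩, rfl⟩
  have hcard : Nat.card F = 48 := by
    rw [hF, card_fixL genH_le le_rfl 5 (by norm_num)]; rfl
  have hn : (MulAction.orbit F (ofMask baseDod)).ncard = 48 := by
    rw [horb]
    refine (ncard_of_masks (S := {s | mask s ∈ dodFive}) (l := dodFive) (dodMasks_nodup.filter _)
      (fun m hm => dodMasks_lt (List.mem_filter.1 hm).1) (fun s => Iff.rfl)).trans ?_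
    decide +kernel
  have hd' : d ∈ MulAction.orbit F (ofMask baseDod) := by rw [horb]; exact hd
  have h1 : Nat.card (MulAction.stabilizer F d) = 1 := by
    have hh := Subgroup.card_mul_index (MulAction.stabilizer F d)
    rw [MulAction.index_stabilizer, MulAction.orbit_eq_iff.2 hd', hn, hcard] at hh
    omega
  have h2 := Subgroup.eq_bot_of_card_eq _ h1
  have : (⟨σ, hσ⟩ : F) ∈ MulAction.stabilizer F d := h
  rw [h2, Subgroup.mem_bot] at this
  exact congrArg Subtype.val this

theorem mem_dodFive {d : Finset GolayPt} (hd : d ∈ dodecads) (h : ofMask 31 ⊆ d) :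
    mask d ∈ dodFive := by
  refine List.mem_filter.2 ⟨mem_dodecads.1 hd, beq_iff_eq.2 ?_⟩
  have h31 : mask (ofMask 31) = 31 := mask_ofMask (by norm_num)
  conv_lhs => rw [← h31, ← mask_inter, Finset.inter_eq_right.2 h, h31]

theorem exists_base_dodecad {d : Finset GolayPt} (hd : d ∈ dodecads) :
    ∃ σ ∈ M24, σ • ofMask baseDod = d := by
  obtain ⟨t, ht, hc⟩ := Finset.exists_subset_card_eq (n := 5) (by rw [hd.2]; norm_num : 5 ≤ d.card)
  obtain ⟨σ, hσ, e⟩ := exists_map_set hc.le
  rw [hc] at e
  have hd' : mask (σ⁻¹ • d) ∈ dodFive := by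
    refine mem_dodFive (smul_dodecad (inv_mem hσ) hd) ?_
    rw [← Finset.smul_finset_subset_smul_finset_iff (a := σ), smul_inv_smul]
    exact e ▸ ht
  obtain ⟨τ, hτ, e'⟩ := dodFive_orbit hd'
  exact ⟨σ * τ, mul_mem hσ (mem_fixL.1 hτ).1, by rw [mul_smul, e', smul_inv_smul]⟩

theorem dodecad_trans {d d' : Finset GolayPt} (hd : d ∈ dodecads) (hd' : d' ∈ dodecads) :
    ∃ σ ∈ M24, σ • d = d' := by
  obtain ⟨σ, hσ, rfl⟩ := exists_base_dodecad hd
  obtain ⟨τ, hτ, rfl⟩ := exists_base_dodecad hd'
  exact ⟨τ * σ⁻¹, mul_mem hτ (inv_mem hσ), by rw [mul_smul, inv_smul_smul]⟩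

theorem orbit_dodecad {d : Finset GolayPt} (hd : d ∈ dodecads) :
    MulAction.orbit M24 d = dodecads := by
  ext s
  constructor
  · rintro ⟨⟨σ, hσ⟩, rfl⟩; exact smul_dodecad hσ hd
  · intro hs
    obtain ⟨σ, hσ, rfl⟩ := dodecad_trans hd hs
    exact ⟨⟨σ, hσ⟩, rfl⟩

theorem card_stab_dodecad {d : Finset GolayPt} (hd : d ∈ dodecads) :
    Nat.card (MulAction.stabilizer M24 d) = 95040 := by
  have h := Subgroup.card_mul_index (MulAction.stabilizer M24 d)
  rw [MulAction.index_stabilizer, orbit_dodecad hd, ncard_dodecads, card_M24] at h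
  omega

/-- an element of `M24` fixing a dodecad and five of its points is trivial -/
theorem dodecad_fix_five {d : Finset GolayPt} (hd : d ∈ dodecads) {g : Equiv.Perm GolayPt}
    (hg : g ∈ M24) (hgd : g • d = d) (x : Fin 5 ↪ GolayPt) (hx : ∀ i, x i ∈ d)
    (hgx : ∀ i, g (x i) = x i) : g = 1 := by
  obtain ⟨σ, hσ, hσx⟩ := M24_trans (le_refl 5)
    (⟨fun i : Fin 5 => pt i, fun i j hij => Fin.ext (by
      have := congrArg idx hij
      simp only at this
      rwa [idx_pt _ (by omega), idx_pt _ (by omega)] at this)⟩) x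
  have hσx' : ∀ i : Fin 5, σ (pt i) = x i := hσx
  have key : σ⁻¹ * g * σ = 1 := by
    refine fix5_dodecad_eq_one (d := σ⁻¹ • d) ?_ ?_ ?_
    · refine mem_dodFive (smul_dodecad (inv_mem hσ) hd) fun p hp => ?_
      have h5 : idx p < 5 := by revert hp; revert p; decide +kernel
      refine Finset.mem_smul_finset.2 ⟨x ⟨idx p, h5⟩, hx _, ?_⟩
      rw [← hσx' ⟨idx p, h5⟩, pt_idx]
      exact σ.symm_apply_apply p
    · refine mem_fixL.2 ⟨mul_mem (mul_mem (inv_mem hσ) hg) hσ, fun p hp => ?_⟩
      rw [show chainBase.take 5 = List.range 5 by decide +kernel, List.mem_range] at hp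
      have : σ p = x ⟨idx p, hp⟩ := by rw [← hσx' ⟨idx p, hp⟩, pt_idx]
      rw [Equiv.Perm.mul_apply, Equiv.Perm.mul_apply, this, hgx, ← this]
      exact σ.symm_apply_apply p
    · rw [mul_smul, mul_smul, smul_inv_smul, hgd]
  rwa [mul_assoc, inv_mul_eq_one, eq_comm, mul_eq_right] at key

/-- the stabiliser of a dodecad is sharply transitive on five distinct points of it -/
theorem dodecad_five_trans {d : Finset GolayPt} (hd : d ∈ dodecads) (x y : Fin 5 ↪ GolayPt)
    (hx : ∀ i, x i ∈ d) (hy : ∀ i, y i ∈ d) :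
    ∃! g : MulAction.stabilizer M24 d, ∀ i, ((g : M24) : Equiv.Perm GolayPt) (x i) = y i := by
  set S := MulAction.stabilizer M24 d
  have mem : ∀ (g : S) (i : Fin 5), ((g : M24) : Equiv.Perm GolayPt) (x i) ∈ d := fun g i => by
    have h : ((g : M24) : Equiv.Perm GolayPt) • d = d := g.2
    rw [← h]; exact Finset.smul_mem_smul_finset (hx i)
  let φ : S → (Fin 5 ↪ d) := fun g =>
    ⟨fun i => ⟨_, mem g i⟩, fun i j h => x.injective (Equiv.injective _ (congrArg Subtype.val h))⟩
  have hinj : Function.Injective φ := by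
    intro a b h
    have h' : ∀ i, ((a : M24) : Equiv.Perm GolayPt) (x i) = ((b : M24) : Equiv.Perm GolayPt) (x i) :=
      fun i => congrArg Subtype.val (DFunLike.congr_fun h i)
    have h1 := dodecad_fix_five hd ((b⁻¹ * a : S) : M24).2 (b⁻¹ * a : S).2 x hx fun i => by
      show ((b : M24) : Equiv.Perm GolayPt).symm (((a : M24) : Equiv.Perm GolayPt) (x i)) = x i
      rw [h' i, Equiv.symm_apply_apply]
    have h2 : b⁻¹ * a = 1 := Subtype.ext (Subtype.ext h1)
    exact (inv_mul_eq_one.1 h2).symm
  have hbij : Function.Bijective φ := by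
    rw [Fintype.bijective_iff_injective_and_card]
    refine ⟨hinj, ?_⟩
    rw [← Nat.card_eq_fintype_card, card_stab_dodecad hd, Fintype.card_embedding_eq,
      Fintype.card_coe, hd.2, Fintype.card_fin]
    rfl
  obtain ⟨g, hg⟩ := hbij.2 ⟨fun i => ⟨y i, hy i⟩, fun i j h => y.injective (congrArg Subtype.val h)⟩
  refine ⟨g, fun i => congrArg Subtype.val (DFunLike.congr_fun hg i), fun g' hg' => hinj ?_⟩
  rw [hg]
  exact DFunLike.ext _ _ fun i => Subtype.ext (hg' i)

end Cfsg.Agent.Spor
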