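/-
Orbits of set stabilisers in `M24` from word certificates, and maximality of such stabilisers.
-/
import Cfsg.Agent.Lib.Spor.GolayDodecad

set_option autoImplicit false
set_option maxRecDepth 100000

namespace Cfsg.Agent.Spor

open scoped Pointwise

/-- the stabiliser in `M24` as a subgroup of all permutations -/
abbrev stabM (s : Finset GolayPt) : Subgroup (Equiv.Perm GolayPt) :=
  M24 ⊓ MulAction.stabilizer (Equiv.Perm GolayPt) s

theorem mem_stabM {s : Finset GolayPt} {σ : Equiv.Perm GolayPt} :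
    σ ∈ stabM s ↔ σ ∈ M24 ∧ σ • s = s := Iff.rfl

/-- the stabiliser inside `M24` and the one inside all permutations -/
def stabMEquiv (s : Finset GolayPt) : MulAction.stabilizer M24 s ≃* stabM s where
  toFun g := ⟨g.1.1, g.1.2, g.2⟩
  invFun g := ⟨⟨g.1, g.2.1⟩, g.2.2⟩
  left_inv _ := rfl
  right_inv _ := rfl
  map_mul' _ _ := rfl

theorem card_stabM (s : Finset GolayPt) :
    Nat.card (stabM s) = Nat.card (MulAction.stabilizer M24 s) :=
  (Nat.card_congr (stabMEquiv s).toEquiv).symm

/-- the test for a set whose root is chosen by the size of its intersection with `base` -/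
def classTest (base : ℕ) (roots : List ℕ) (f : ℕ → ℕ) (t : ℕ) : Bool :=
  f (roots.getD (pc (base &&& t)) 0) == t

theorem classCover_sound {base : ℕ} {roots ts ws : List ℕ} {gs : List (List ℕ)}
    (hbase : base < 2 ^ 24) (hroots : roots.all (fun r => decide (r < 2 ^ 24)) = true)
    (hgs : stabGens base gs = true) (h : cover (classTest base roots) gs ts ws = true)
    {s : Finset GolayPt} (hs : mask s ∈ ts) :
    ∃ σ ∈ stabM (ofMask base), σ • ofMask (roots.getD (ofMask base ∩ s).card 0) = s := by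
  obtain ⟨hne, hok, hL⟩ := stabGens_sound hbase hgs
  obtain ⟨σ, hσ, f, hf, ht⟩ := cover_sound hne hok hL h _ hs
  refine ⟨σ, hσ, mask_injective ?_⟩
  rw [← pc_mask, mask_inter, mask_ofMask hbase, hf, mask_ofMask]
  · exact beq_iff_eq.1 ht
  · set k := pc (base &&& mask s)
    by_cases hk : k < roots.length
    · rw [List.getD_eq_getElem _ _ hk]
      exact of_decide_eq_true (List.all_eq_true.1 hroots _ (List.getElem_mem _))
    · rw [List.getD_eq_default _ _ (not_lt.1 hk)]; norm_num

/-- the stabiliser of `base` has one orbit on `T` for each size of intersection with `base` -/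
theorem class_trans {base : ℕ} {roots ts ws : List ℕ} {gs : List (List ℕ)} {T : Set (Finset GolayPt)}
    (hbase : base < 2 ^ 24) (hroots : roots.all (fun r => decide (r < 2 ^ 24)) = true)
    (hgs : stabGens base gs = true) (h : cover (classTest base roots) gs ts ws = true)
    (hT : ∀ s, s ∈ T → mask s ∈ ts) (htrans : ∀ b ∈ T, ∃ σ ∈ M24, σ • ofMask base = b)
    (hinv : ∀ σ ∈ M24, ∀ s ∈ T, σ • s ∈ T)
    {b s s' : Finset GolayPt} (hb : b ∈ T) (hs : s ∈ T) (hs' : s' ∈ T)
    (hc : (b ∩ s).card = (b ∩ s').card) : ∃ g ∈ M24, g • b = b ∧ g • s = s' := by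
  obtain ⟨σ, hσ, rfl⟩ := htrans b hb
  have key : ∀ u ∈ T, ∃ τ ∈ stabM (ofMask base),
      τ • ofMask (roots.getD (σ • ofMask base ∩ u).card 0) = σ⁻¹ • u := by
    intro u hu
    obtain ⟨τ, hτ, e⟩ := classCover_sound hbase hroots hgs h (hT _ (hinv _ (inv_mem hσ) u hu))
    refine ⟨τ, hτ, ?_⟩
    have hcard : (ofMask base ∩ σ⁻¹ • u).card = (σ • ofMask base ∩ u).card := by
      rw [← Finset.card_smul_finset σ (ofMask base ∩ σ⁻¹ • u), Finset.smul_finset_inter, smul_inv_smul]
    rwa [hcard] at e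
  obtain ⟨τ, hτ, e⟩ := key s hs
  obtain ⟨τ', hτ', e'⟩ := key s' hs'
  rw [hc] at e
  obtain ⟨hτM, hτf⟩ := hτ
  obtain ⟨hτ'M, hτ'f⟩ := hτ'
  refine ⟨σ * τ' * τ⁻¹ * σ⁻¹, mul_mem (mul_mem (mul_mem hσ hτ'M) (inv_mem hτM)) (inv_mem hσ), ?_, ?_⟩
  · simp only [mul_smul, inv_smul_smul]
    rw [(inv_smul_eq_iff.2 (MulAction.mem_stabilizer_iff.1 hτf).symm), MulAction.mem_stabilizer_iff.1 hτ'f]
  · simp only [mul_smul]
    rw [← e, inv_smul_smul, e', smul_inv_smul]

/-- a conjugate of a coatom is a coatom -/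
theorem isCoatom_stabilizer_smul {G α : Type*} [Group G] [MulAction G α] (g : G) {a : α}
    (h : IsCoatom (MulAction.stabilizer G a)) : IsCoatom (MulAction.stabilizer G (g • a)) := by
  rw [MulAction.stabilizer_smul_eq_stabilizer_map_conj]
  exact (OrderIso.isCoatom_iff (MulEquiv.mapSubgroup (MulAut.conj g)) _).2 h

/-- maximality of a stabiliser from generation by it and each other kind of element -/
theorem isCoatom_of_reach {G α : Type*} [Group G] [MulAction G α] {a : α}
    (hne : ∃ g : G, g • a ≠ a)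
    (h : ∀ L : Subgroup G, MulAction.stabilizer G a ≤ L → (∃ g ∈ L, g • a ≠ a) →
      ∀ x : G, ∃ l ∈ L, l • a = x • a) : IsCoatom (MulAction.stabilizer G a) := by
  refine ⟨fun e => ?_, fun L hL => ?_⟩
  · obtain ⟨g, hg⟩ := hne
    exact hg (by rw [← MulAction.mem_stabilizer_iff, e]; trivial)
  · obtain ⟨g, hg, hga⟩ := SetLike.exists_of_lt hL
    refine eq_top_iff.2 fun x _ => ?_
    obtain ⟨l, hl, e⟩ := h L hL.le ⟨g, hg, hga⟩ x
    have : l⁻¹ * x ∈ L := hL.le (by rw [MulAction.mem_stabilizer_iff, mul_smul, ← e, inv_smul_smul])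
    simpa using mul_mem hl this

/-- a subgroup containing the stabiliser and the permutation `g` contains all their words -/
theorem mover_sound {base : ℕ} {gs : List (List ℕ)} {g : List ℕ} (hbase : base < 2 ^ 24)
    (hgs : stabGens base gs = true) (hg : m24ok g = true) {L : Subgroup M24}
    (hle : MulAction.stabilizer M24 (ofMask base) ≤ L) (hmem : (⟨lperm g, lperm_mem hg⟩ : M24) ∈ L) :
    gs ++ [g] ≠ [] ∧ (gs ++ [g]).all lok = true ∧ ∀ x ∈ gs ++ [g], lperm x ∈ L.map M24.subtype := by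
  obtain ⟨_, hok, hK⟩ := stabGens_sound hbase hgs
  have hg' : lok g = true := by simp only [m24ok, Bool.and_eq_true] at hg; exact hg.1
  refine ⟨by simp, by simp [hok, hg'], fun x hx => ?_⟩
  rcases List.mem_append.1 hx with hx | hx
  · exact ⟨⟨lperm x, (hK x hx).1⟩, hle (hK x hx).2, rfl⟩
  · rw [List.mem_singleton] at hx; subst hx; exact ⟨_, hmem, rfl⟩

end Cfsg.Agent.Spor
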