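/-
Kernel-checked word certificates for octad and dodecad stabilisers.
-/
import Cfsg.Agent.Lib.Spor.GolayOrbits

set_option autoImplicit false
set_option maxRecDepth 100000

namespace Cfsg.Agent.Spor

theorem octStabGens_ok : stabGens 5279 octStabGens = true := by decide +kernel

theorem dodStabGens_ok : stabGens baseDod dodStabGens = true := by decide +kernel

theorem octOrbit_cover : cover (classTest 5279 octRoots) octStabGens octMasks octOrbitWords = true := by
  decide +kernel

theorem dodOrbit_cover : cover (classTest baseDod dodRoots) dodStabGens dodMasks dodOrbitWords = true := by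
  decide +kernel

theorem octMovers_ok : ∀ i, i < 3 → m24ok (octMovers.getD i []) = true ∧
    pm (octMovers.getD i []) 5279 0 = octRoots.getD (2 * i) 0 := by decide +kernel

theorem octMove_cover : ∀ i, i < 3 → cover (setTest 5279) (octStabGens ++ [octMovers.getD i []])
    octMasks (octMoveWords.getD i []) = true := by decide +kernel

theorem octMasks_class : ∀ t ∈ octMasks, t = 5279 ∨
    pc (5279 &&& t) = 0 ∨ pc (5279 &&& t) = 2 ∨ pc (5279 &&& t) = 4 := by decide +kernel

theorem baseDod_compl : mask (ofMask baseDod)ᶜ = baseDod ^^^ 16777215 := by decide +kernel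

theorem dodMovers_ok : ∀ i, i < 2 → m24ok (dodMovers.getD i []) = true ∧
    pm (dodMovers.getD i []) baseDod 0 = dodRoots.getD (4 + 2 * i) 0 := by decide +kernel

theorem dodMove_cover : ∀ i, i < 2 → cover (setTest baseDod) (dodStabGens ++ [dodMovers.getD i []])
    dodMasks (dodMoveWords.getD i []) = true := by decide +kernel

theorem dodMasks_class : ∀ t ∈ dodMasks, t = baseDod ∨ t = baseDod ^^^ 16777215 ∨
    pc (baseDod &&& t) = 4 ∨ pc (baseDod &&& t) = 6 ∨
      pc (baseDod &&& (t ^^^ 16777215)) = 4 := by decide +kernel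

theorem octRoots_lt : ∀ k, k < 9 → octRoots.getD k 0 < 2 ^ 24 := by decide +kernel

theorem dodRoots_lt : ∀ k, k < 13 → dodRoots.getD k 0 < 2 ^ 24 := by decide +kernel

theorem dodMasks_compl : ∀ t ∈ dodMasks, pc (16777215 ^^^ t) = 12 := by decide +kernel

theorem dodRoots_ne : ∀ i, i < 2 → dodRoots.getD (4 + 2 * i) 0 ≠ baseDod ∧
    dodRoots.getD (4 + 2 * i) 0 ≠ baseDod ^^^ 16777215 := by decide +kernel

end Cfsg.Agent.Spor
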