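/-
Trios of octads, and the punctured code.
-/
import Cfsg.Agent.Lib.Spor.GolayCount
import Cfsg.Prelude.Def_SporadicCombinatorics

set_option autoImplicit false
set_option maxRecDepth 100000

namespace Cfsg.Agent.Spor

open scoped Pointwise

theorem compl_union_octad {o o' : Finset GolayPt} (ho : o ∈ octads) (ho' : o' ∈ octads)
    (h : Disjoint o o') : (o ∪ o')ᶜ ∈ octads := by
  have he : (o ∪ o')ᶜ = symmDiff (support₂ (1 : GolayPt → ZMod 2)) (symmDiff o o') := by
    rw [h.symmDiff_eq_sup, Finset.sup_eq_union]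
    ext p
    simp [Finset.mem_symmDiff, mem_support₂]
  refine ⟨?_, ?_⟩
  · rw [he]
    exact supports_symmDiff ⟨1, Submodule.subset_span (Or.inr rfl), rfl⟩ (supports_symmDiff ho.1 ho'.1)
  · rw [Finset.card_compl, Finset.card_union_of_disjoint h, ho.2, ho'.2]
    rfl

/-- trios as ascending triples of masks -/
def trioList : List (ℕ × ℕ × ℕ) :=
  octMasks.flatMap fun a =>
    ((octMasks.filter fun b => decide (a < b) && (a &&& b == 0)).filter
      fun b => decide (b < 16777215 ^^^ (a ^^^ b))).map fun b => (a, b, 16777215 ^^^ (a ^^^ b))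

theorem trioList_length : trioList.length = 3795 := by decide +kernel

theorem trioList_nodup : trioList.Nodup := by
  rw [trioList, List.nodup_flatMap]
  refine ⟨fun a _ => ((octMasks_nodup.filter _).filter _).map fun b b' h => congrArg (fun t => t.2.1) h, ?_⟩
  exact octMasks_nodup.imp fun {a a'} hne => List.disjoint_left.2 fun t ht ht' => hne (by
    obtain ⟨b, _, rfl⟩ := List.mem_map.1 ht
    obtain ⟨b', _, e⟩ := List.mem_map.1 ht'
    exact (congrArg Prod.fst e).symm)

/-- the trio of a triple of masks -/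
def trioOf (t : ℕ × ℕ × ℕ) : Finset (Finset GolayPt) := {ofMask t.1, ofMask t.2.1, ofMask t.2.2}

theorem mask_and_eq_zero {s t : Finset GolayPt} : Disjoint s t ↔ mask s &&& mask t = 0 := by
  rw [Finset.disjoint_iff_inter_eq_empty, ← mask_inter]
  exact ⟨fun h => by rw [h]; rfl, fun h => mask_injective (h.trans rfl)⟩

theorem mask_univ : mask (Finset.univ : Finset GolayPt) = 16777215 := by decide +kernel

theorem mask_compl (s : Finset GolayPt) : mask sᶜ = 16777215 ^^^ mask s := by
  rw [← mask_univ, ← mask_symmDiff]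
  congr 1
  ext p
  simp [Finset.mem_symmDiff]

theorem trio_third {o o' : Finset GolayPt} (h : Disjoint o o') :
    mask (o ∪ o')ᶜ = 16777215 ^^^ (mask o ^^^ mask o') := by
  rw [mask_compl, ← mask_symmDiff, h.symmDiff_eq_sup, Finset.sup_eq_union]

theorem mem_trioList {a b c : ℕ} :
    (a, b, c) ∈ trioList ↔ a ∈ octMasks ∧ b ∈ octMasks ∧ a < b ∧ b < c ∧ a &&& b = 0 ∧
      c = 16777215 ^^^ (a ^^^ b) := by
  simp only [trioList, List.mem_flatMap, List.mem_map, List.mem_filter, Bool.and_eq_true,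
    decide_eq_true_eq, beq_iff_eq, Prod.mk.injEq]
  constructor
  · rintro ⟨a', ha, b', ⟨⟨hb, hab, h0⟩, hbc⟩, rfl, rfl, rfl⟩
    exact ⟨ha, hb, hab, hbc, h0, rfl⟩
  · rintro ⟨ha, hb, hab, hbc, h0, rfl⟩
    exact ⟨a, ha, b, ⟨⟨hb, hab, h0⟩, hbc⟩, rfl, rfl, rfl⟩

theorem trioOf_mem {t : ℕ × ℕ × ℕ} (h : t ∈ trioList) :
    trioOf t ∈ trios ∧ ((trioOf t).image mask) = {t.1, t.2.1, t.2.2} := by
  obtain ⟨a, b, c⟩ := t
  obtain ⟨ha, hb, hab, hbc, h0, hc⟩ := mem_trioList.1 h
  have hoa : ofMask a ∈ octads := by rw [mem_octads, mask_ofMask (octMasks_lt ha)]; exact ha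
  have hob : ofMask b ∈ octads := by rw [mem_octads, mask_ofMask (octMasks_lt hb)]; exact hb
  have hd : Disjoint (ofMask a) (ofMask b) := by
    rw [mask_and_eq_zero, mask_ofMask (octMasks_lt ha), mask_ofMask (octMasks_lt hb)]; exact h0
  have hmc : mask (ofMask a ∪ ofMask b)ᶜ = c := by
    rw [trio_third hd, mask_ofMask (octMasks_lt ha), mask_ofMask (octMasks_lt hb), hc]
  have hoc : (ofMask a ∪ ofMask b)ᶜ = ofMask c := by rw [← hmc, ofMask_mask]
  have hocm : ofMask c ∈ octads := hoc ▸ compl_union_octad hoa hob hd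
  have hdac : Disjoint (ofMask a) (ofMask c) := by
    rw [← hoc]; exact disjoint_compl_right.mono_left Finset.subset_union_left
  have hdbc : Disjoint (ofMask b) (ofMask c) := by
    rw [← hoc]; exact disjoint_compl_right.mono_left Finset.subset_union_right
  have hcm : c ∈ octMasks := hmc ▸ mem_octads.1 (compl_union_octad hoa hob hd)
  have hne : ∀ {x y : Finset GolayPt}, x ∈ octads → Disjoint x y → x ≠ y := by
    intro x y hx hxy e
    subst e
    have h8 := hx.2
    rw [Disjoint.eq_bot_of_self hxy] at h8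
    simp at h8
  refine ⟨⟨?_, ?_, ?_⟩, ?_⟩
  · exact Finset.card_eq_three.2 ⟨_, _, _, hne hoa hd, hne hoa hdac, hne hob hdbc, rfl⟩
  · simp only [trioOf, Finset.mem_insert, Finset.mem_singleton]
    rintro o (rfl | rfl | rfl) <;> assumption
  · simp only [trioOf, Finset.mem_insert, Finset.mem_singleton]
    rintro o (rfl | rfl | rfl) o' (rfl | rfl | rfl) hne' <;>
      first
        | exact absurd rfl hne'
        | assumption
        | exact Disjoint.symm (by assumption)
  · simp only [trioOf, Finset.image_insert, Finset.image_singleton]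
    rw [mask_ofMask (octMasks_lt ha), mask_ofMask (octMasks_lt hb),
      mask_ofMask (octMasks_lt hcm)]

theorem trioOf_surj {T : Finset (Finset GolayPt)} (hT : T ∈ trios) : ∃ t ∈ trioList, trioOf t = T := by
  obtain ⟨h3, hoct, hdisj⟩ := hT
  obtain ⟨x, y, z, hxy, hxz, hyz, rfl⟩ := Finset.card_eq_three.1 h3
  have hx := hoct x (by simp); have hy := hoct y (by simp); have hz := hoct z (by simp)
  have dxy := hdisj x (by simp) y (by simp) hxy
  have dxz := hdisj x (by simp) z (by simp) hxz
  have dyz := hdisj y (by simp) z (by simp) hyz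
  suffices H : ∀ p q r : Finset GolayPt, p ∈ octads → q ∈ octads → r ∈ octads →
      Disjoint p q → Disjoint p r → Disjoint q r → mask p < mask q → mask q < mask r →
      ∃ t ∈ trioList, trioOf t = {p, q, r} by
    have n1 : mask x ≠ mask y := fun h => hxy (mask_injective h)
    have n2 : mask x ≠ mask z := fun h => hxz (mask_injective h)
    have n3 : mask y ≠ mask z := fun h => hyz (mask_injective h)
    rcases lt_trichotomy (mask x) (mask y) with h1 | h1 | h1
    · rcases lt_trichotomy (mask y) (mask z) with h2 | h2 | h2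
      · exact H x y z hx hy hz dxy dxz dyz h1 h2
      · exact absurd h2 n3
      · rcases lt_trichotomy (mask x) (mask z) with h4 | h4 | h4
        · obtain ⟨t, ht, e⟩ := H x z y hx hz hy dxz dxy dyz.symm h4 h2
          exact ⟨t, ht, e.trans (by ext w; simp; tauto)⟩
        · exact absurd h4 n2
        · obtain ⟨t, ht, e⟩ := H z x y hz hx hy dxz.symm dyz.symm dxy h4 h1
          exact ⟨t, ht, e.trans (by ext w; simp; tauto)⟩
    · exact absurd h1 n1
    · rcases lt_trichotomy (mask x) (mask z) with h2 | h2 | h2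
      · obtain ⟨t, ht, e⟩ := H y x z hy hx hz dxy.symm dyz dxz h1 h2
        exact ⟨t, ht, e.trans (by ext w; simp; tauto)⟩
      · exact absurd h2 n2
      · rcases lt_trichotomy (mask y) (mask z) with h4 | h4 | h4
        · obtain ⟨t, ht, e⟩ := H y z x hy hz hx dyz dxy.symm dxz.symm h4 h2
          exact ⟨t, ht, e.trans (by ext w; simp; tauto)⟩
        · exact absurd h4 n3
        · obtain ⟨t, ht, e⟩ := H z y x hz hy hx dyz.symm dxz.symm dxy.symm h4 h1
          exact ⟨t, ht, e.trans (by ext w; simp; tauto)⟩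
  intro p q r hp hq hr dpq dpr dqr h1 h2
  have hr' : r = (p ∪ q)ᶜ := by
    refine Finset.eq_of_subset_of_card_le ?_ ?_
    · intro w hw
      simp only [Finset.mem_compl, Finset.mem_union, not_or]
      exact ⟨fun h => Finset.disjoint_left.1 dpr h hw, fun h => Finset.disjoint_left.1 dqr h hw⟩
    · rw [(compl_union_octad hp hq dpq).2, hr.2]
  refine ⟨(mask p, mask q, mask r), mem_trioList.2 ⟨mem_octads.1 hp, mem_octads.1 hq, h1, h2,
    mask_and_eq_zero.1 dpq, by rw [hr', trio_third dpq]⟩, ?_⟩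
  simp [trioOf, ofMask_mask]

theorem trio_sorted_inj {a b c a' b' c' : ℕ} (h1 : a < b) (h2 : b < c) (h1' : a' < b') (h2' : b' < c')
    (h : ({a, b, c} : Finset ℕ) = {a', b', c'}) : a = a' ∧ b = b' ∧ c = c' := by
  have e : ∀ w, w = a ∨ w = b ∨ w = c ↔ w = a' ∨ w = b' ∨ w = c' := fun w => by
    have := Finset.ext_iff.1 h w
    simpa using this
  have := (e a).1 (Or.inl rfl); have := (e b).1 (Or.inr (Or.inl rfl)); have := (e c).1 (Or.inr (Or.inr rfl))
  have := (e a').2 (Or.inl rfl); have := (e c').2 (Or.inr (Or.inr rfl))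
  omega

theorem ncard_trios : trios.ncard = 3795 := by
  have : trios = (trioList.toFinset.image trioOf : Finset (Finset (Finset GolayPt))) := by
    ext T
    simp only [Finset.coe_image, Set.mem_image, SetLike.mem_coe, List.mem_toFinset]
    exact ⟨fun hT => trioOf_surj hT, fun ⟨t, ht, e⟩ => e ▸ (trioOf_mem ht).1⟩
  rw [this, Set.ncard_coe_finset, Finset.card_image_of_injOn, List.toFinset_card_of_nodup trioList_nodup,
    trioList_length]
  rintro ⟨a, b, c⟩ ht ⟨a', b', c'⟩ ht' e
  rw [SetLike.mem_coe, List.mem_toFinset] at ht ht'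
  have hh := congrArg (Finset.image mask) e
  rw [(trioOf_mem ht).2, (trioOf_mem ht').2] at hh
  obtain ⟨_, _, h1, h2, _, _⟩ := mem_trioList.1 ht
  obtain ⟨_, _, h1', h2', _, _⟩ := mem_trioList.1 ht'
  obtain ⟨rfl, rfl, rfl⟩ := trio_sorted_inj h1 h2 h1' h2' hh
  rfl

/-! ### punctured code -/

/-- the word with the extra coordinate dropped -/
def punct (w : GolayPt → ZMod 2) : ZMod 23 → ZMod 2 := fun x => w (some x)

theorem pc_wmask_punct (w : GolayPt → ZMod 2) :
    hammingNorm (punct w) = pc (wmask w &&& 8388607) := by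
  have hm : (8388607 : ℕ) = mask (Finset.univ.image (some : ZMod 23 → GolayPt)) := by decide +kernel
  rw [wmask, hm, ← mask_inter, pc_mask]
  show (Finset.univ.filter fun x => punct w x ≠ 0).card = _
  rw [← Finset.card_image_of_injective _ (Option.some_injective _)]
  congr 1
  ext p
  simp only [Finset.mem_image, Finset.mem_filter, Finset.mem_univ, true_and, Finset.mem_inter, mem_support₂]
  constructor
  · rintro ⟨x, hx, rfl⟩; exact ⟨hx, x, rfl⟩
  · rintro ⟨h, x, rfl⟩; exact ⟨x, h, rfl⟩

theorem punct_injOn : Set.InjOn punct (golayCode : Set (GolayPt → ZMod 2)) := by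
  intro v hv w hw h
  rw [← sub_eq_zero, ← hammingNorm_eq_zero]
  have hwt := weight_mem_code (sub_mem (SetLike.mem_coe.1 hv) (SetLike.mem_coe.1 hw))
  have hle : hammingNorm (v - w) ≤ 1 := by
    refine Finset.card_le_one.2 fun p hp q hq => ?_
    simp only [Finset.mem_filter, Finset.mem_univ, true_and] at hp hq
    have hpn : ∀ r, (v - w) r ≠ 0 → r = none := by
      intro r hr
      cases r with
      | none => rfl
      | some x => exact absurd (sub_eq_zero.2 (congrFun h x)) hr
    rw [hpn p hp, hpn q hq]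
  omega

theorem punct_set : {u : ZMod 23 → ZMod 2 | ∃ w ∈ golayCode, ∀ x : ZMod 23, u x = w (some x)} =
    punct '' (golayCode : Set (GolayPt → ZMod 2)) := by
  ext u
  exact ⟨fun ⟨w, hw, h⟩ => ⟨w, hw, (funext h).symm⟩, fun ⟨w, hw, h⟩ => ⟨w, hw, fun x => by rw [← h]; rfl⟩⟩

theorem punct_count (n : ℕ) :
    {u : ZMod 23 → ZMod 2 | u ∈ {u : ZMod 23 → ZMod 2 | ∃ w ∈ golayCode, ∀ x : ZMod 23, u x = w (some x)} ∧
      hammingNorm u = n}.ncard = (codeMasks.filter fun m => pc (m &&& 8388607) == n).length := by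
  have he : {u : ZMod 23 → ZMod 2 | u ∈ {u : ZMod 23 → ZMod 2 | ∃ w ∈ golayCode, ∀ x : ZMod 23, u x = w (some x)} ∧
      hammingNorm u = n} = punct '' {w | w ∈ golayCode ∧ hammingNorm (punct w) = n} := by
    rw [punct_set]
    ext u
    constructor
    · rintro ⟨⟨w, hw, rfl⟩, h⟩; exact ⟨w, ⟨hw, h⟩, rfl⟩
    · rintro ⟨w, ⟨hw, h⟩, rfl⟩; exact ⟨⟨w, hw, rfl⟩, h⟩
  rw [he, Set.InjOn.ncard_image (punct_injOn.mono fun w hw => hw.1),
    ← List.toFinset_card_of_nodup (codeMasks_nodup.filter _), ← Set.ncard_coe_finset]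
  refine Set.ncard_congr (fun w _ => wmask w) ?_ (fun v w _ _ h => wmask_injective h) ?_
  · rintro w ⟨hw, h⟩
    simp only [List.coe_toFinset, Set.mem_setOf_eq, List.mem_filter, beq_iff_eq]
    exact ⟨mem_code.1 hw, by rw [← pc_wmask_punct, h]⟩
  · intro m hm
    simp only [List.coe_toFinset, Set.mem_setOf_eq, List.mem_filter, beq_iff_eq] at hm
    have e : wmask (ofMaskW m) = m := by rw [wmask, support₂_ofMaskW, mask_ofMask (codeMasks_lt m hm.1)]
    exact ⟨ofMaskW m, ⟨by rw [mem_code, e]; exact hm.1, by rw [pc_wmask_punct, e]; exact hm.2⟩, e⟩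

theorem punct_summary :
    [7, 8, 11, 12, 15, 16].map (fun n => (codeMasks.filter fun m => pc (m &&& 8388607) == n).length) =
      [253, 506, 1288, 1288, 506, 253] ∧
    ∀ m ∈ codeMasks, m = 0 ∨ 7 ≤ pc (m &&& 8388607) := by
  refine ⟨by decide +kernel, by decide +kernel⟩

end Cfsg.Agent.Spor
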