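/-
Stabilisers of octads and dodecads: orbits on octads and dodecads, maximality.
-/
import Cfsg.Agent.Lib.Spor.GolayStabCerts
import Cfsg.Agent.Lib.Spor.GolayTrios

set_option autoImplicit false
set_option maxRecDepth 100000

namespace Cfsg.Agent.Spor

open scoped Pointwise

theorem octad_orbit_trans {o o' o'' : Finset GolayPt} (ho : o ∈ octads) (ho' : o' ∈ octads)
    (ho'' : o'' ∈ octads) (h : (o ∩ o').card = (o ∩ o'').card) :
    ∃ g ∈ M24, g • o = o ∧ g • o' = o'' :=
  class_trans (T := octads) (by norm_num) (by decide +kernel) octStabGens_ok octOrbit_cover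
    (fun _ => mem_octads.1) (fun b hb => octad_map b hb) (fun _ hσ _ hs => smul_octad hσ hs) ho ho' ho'' h

theorem dodecad_orbit_trans {d d' d'' : Finset GolayPt} (hd : d ∈ dodecads) (hd' : d' ∈ dodecads)
    (hd'' : d'' ∈ dodecads) (h : (d ∩ d').card = (d ∩ d'').card) :
    ∃ g ∈ M24, g • d = d ∧ g • d' = d'' :=
  class_trans (T := dodecads) baseDod_lt (by decide +kernel) dodStabGens_ok dodOrbit_cover
    (fun _ => mem_dodecads.1) (fun _ hb => exists_base_dodecad hb) (fun _ hσ _ hs => smul_dodecad hσ hs)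
    hd hd' hd'' h

/-- the index of an intersection size among the sizes 0, 2, 4 -/
def octMoverIdx (k : ℕ) : ℕ := k / 2

theorem octad_coatom_base : IsCoatom (MulAction.stabilizer M24 (ofMask 5279)) := by
  refine isCoatom_of_reach ?_ ?_
  · have hmem : ofMask 10558 ∈ octads := by rw [mem_octads, mask_ofMask (by norm_num)]; decide +kernel
    obtain ⟨σ, hσ, e⟩ := octad_map _ hmem
    refine ⟨⟨σ, hσ⟩, fun h => ?_⟩
    have : ofMask 10558 = ofMask 5279 := e.symm.trans h
    revert this
    decide +kernel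
  intro L hle hL x
  obtain ⟨g, hg, hga⟩ := hL
  set o := (g : Equiv.Perm GolayPt) • ofMask 5279 with ho
  have hoct : o ∈ octads := smul_octad g.2 baseOctad_mem
  have hk : ∃ i, i < 3 ∧ (ofMask 5279 ∩ o).card = 2 * i := by
    rcases octMasks_class _ (mem_octads.1 hoct) with h | h | h | h
    · exact absurd (mask_injective (h.trans (mask_ofMask (by norm_num)).symm)) hga
    all_goals rw [← pc_mask, mask_inter, mask_ofMask (by norm_num), h]
    exacts [⟨0, by omega, rfl⟩, ⟨1, by omega, rfl⟩, ⟨2, by omega, rfl⟩]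
  obtain ⟨i, hi, hcard⟩ := hk
  obtain ⟨k, hk, e⟩ := classCover_sound (base := 5279) (roots := octRoots) (by norm_num)
    (by decide +kernel) octStabGens_ok octOrbit_cover (s := o) (mem_octads.1 hoct)
  obtain ⟨hm, hroot⟩ := octMovers_ok i hi
  have hm' : lok (octMovers.getD i []) = true := by simp only [m24ok, Bool.and_eq_true] at hm; exact hm.1
  set τ := lperm (octMovers.getD i [])
  have hτ : τ • ofMask 5279 = ofMask (octRoots.getD (2 * i) 0) := by
    apply mask_injective
    rw [mask_smul_lperm hm', mask_ofMask (show (5279 : ℕ) < 2 ^ 24 by norm_num), hroot,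
      mask_ofMask (octRoots_lt _ (by omega))]
  rw [hcard, ← hτ] at e
  have hτL : (⟨τ, lperm_mem hm⟩ : M24) ∈ L := by
    have h1 : g⁻¹ * (⟨k, hk.1⟩ * ⟨τ, lperm_mem hm⟩) ∈ L := hle (by
      rw [MulAction.mem_stabilizer_iff, mul_smul, mul_smul, inv_smul_eq_iff]
      exact e)
    have h2 := mul_mem hg h1
    rw [mul_inv_cancel_left] at h2
    have h3 := mul_mem (inv_mem (hle (x := (⟨k, hk.1⟩ : M24)) hk.2)) h2
    rwa [inv_mul_cancel_left] at h3
  obtain ⟨hne, hok, hL'⟩ := mover_sound (by norm_num) octStabGens_ok hm hle hτL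
  obtain ⟨σ, hσ, e'⟩ := setCover_sound (by norm_num) hne hok hL' (octMove_cover i hi)
    (mem_octads.1 (smul_octad x.2 baseOctad_mem))
  obtain ⟨l, hl, rfl⟩ := hσ
  exact ⟨l, hl, e'⟩

/-- maximality of the stabiliser of an octad -/
theorem octad_coatom {o : Finset GolayPt} (ho : o ∈ octads) :
    IsCoatom (MulAction.stabilizer M24 o) := by
  obtain ⟨σ, hσ, rfl⟩ := octad_map o ho
  exact isCoatom_stabilizer_smul (⟨σ, hσ⟩ : M24) octad_coatom_base

theorem smul_compl' (σ : Equiv.Perm GolayPt) (s : Finset GolayPt) : σ • sᶜ = (σ • s)ᶜ := by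
  ext p
  simp only [← Finset.inv_smul_mem_iff, Finset.mem_compl]

theorem smul_pair (g : M24) (d : Finset GolayPt) :
    g • ({d, dᶜ} : Finset (Finset GolayPt)) = {g • d, (g • d)ᶜ} := by
  rw [Finset.smul_finset_insert, Finset.smul_finset_singleton]
  congr 2
  exact smul_compl' _ _

theorem stab_le_pair (d : Finset GolayPt) :
    MulAction.stabilizer M24 d ≤ MulAction.stabilizer M24 ({d, dᶜ} : Finset (Finset GolayPt)) := fun g hg => by
  rw [MulAction.mem_stabilizer_iff, smul_pair, MulAction.mem_stabilizer_iff.1 hg]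

theorem dodecad_pair_coatom_base :
    IsCoatom (MulAction.stabilizer M24 ({ofMask baseDod, (ofMask baseDod)ᶜ} : Finset (Finset GolayPt))) := by
  set d := ofMask baseDod with hd
  have hd' : mask d = baseDod := mask_ofMask baseDod_lt
  have hdc : mask dᶜ = baseDod ^^^ 16777215 := by rw [mask_compl, hd', Nat.xor_comm]
  have hmove : ∀ i, ∀ hi : i < 2, mask ((⟨_, lperm_mem (dodMovers_ok i hi).1⟩ : M24) • d) =
      dodRoots.getD (4 + 2 * i) 0 := by
    intro i hi
    obtain ⟨hm, hroot⟩ := dodMovers_ok i hi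
    simp only [m24ok, Bool.and_eq_true] at hm
    exact (mask_smul_lperm hm.1 d).trans ((congrArg (fun m => pm (dodMovers.getD i []) m 0) hd').trans hroot)
  refine isCoatom_of_reach ?_ ?_
  · refine ⟨⟨_, lperm_mem (dodMovers_ok 0 (by norm_num)).1⟩, fun h => ?_⟩
    rw [smul_pair] at h
    have h2 := hmove 0 (by norm_num)
    obtain ⟨n1, n2⟩ := dodRoots_ne 0 (by norm_num)
    rcases Finset.mem_insert.1 (h.le (Finset.mem_insert_self _ _)) with h1 | h1
    · exact n1 (h2.symm.trans ((congrArg mask h1).trans hd'))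
    · exact n2 (h2.symm.trans ((congrArg mask (Finset.mem_singleton.1 h1)).trans hdc))
  intro L hle hL x
  obtain ⟨g, hg, hga⟩ := hL
  rw [smul_pair] at hga
  have hdL := (stab_le_pair d).trans hle
  set u := g • d with hu
  have hu_mem : u ∈ dodecads := smul_dodecad g.2 baseDod_mem
  have hc : mask uᶜ = mask u ^^^ 16777215 := by rw [mask_compl, Nat.xor_comm]
  have hk : ∃ v, (v = u ∨ v = uᶜ) ∧ ∃ i, i < 2 ∧ (d ∩ v).card = 4 + 2 * i := by
    rcases dodMasks_class _ (mem_dodecads.1 hu_mem) with h | h | h | h | h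
    · have he : u = d := mask_injective (h.trans hd'.symm)
      exact absurd (by rw [he]) hga
    · have he : u = dᶜ := mask_injective (h.trans hdc.symm)
      refine absurd ?_ hga
      rw [he, compl_compl, Finset.pair_comm]
    · exact ⟨u, Or.inl rfl, 0, by omega, by rw [← pc_mask, mask_inter, hd', h]⟩
    · exact ⟨u, Or.inl rfl, 1, by omega, by rw [← pc_mask, mask_inter, hd', h]⟩
    · exact ⟨uᶜ, Or.inr rfl, 0, by omega, by rw [← pc_mask, mask_inter, hd', hc, h]⟩
  obtain ⟨v, hv, i, hi, hcard⟩ := hk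
  have hv_mem : v ∈ dodecads := by
    rcases hv with rfl | rfl
    · exact hu_mem
    · have ht := mem_dodecads.1 hu_mem
      rw [mem_dodecads]
      refine List.mem_filter.2 ⟨?_, ?_⟩
      · rw [mask_compl]
        refine codeMasks_xor ?_ (List.mem_filter.1 ht).1
        decide +kernel
      · rw [mask_compl, beq_iff_eq]
        exact dodMasks_compl _ ht
  obtain ⟨k, hk, e⟩ := classCover_sound (base := baseDod) (roots := dodRoots) baseDod_lt
    (by decide +kernel) dodStabGens_ok dodOrbit_cover (s := v) (mem_dodecads.1 hv_mem)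
  obtain ⟨hm, hroot⟩ := dodMovers_ok i hi
  have hm' : lok (dodMovers.getD i []) = true := by simp only [m24ok, Bool.and_eq_true] at hm; exact hm.1
  set τ := lperm (dodMovers.getD i []) with hτdef
  have hτ : τ • d = ofMask (dodRoots.getD (4 + 2 * i) 0) := by
    apply mask_injective
    rw [hτdef, mask_smul_lperm hm', hd', hroot, mask_ofMask (dodRoots_lt _ (by omega))]
  rw [← hd, hcard, ← hτ] at e
  have hτL : (⟨τ, lperm_mem hm⟩ : M24) ∈ L := by
    have h1 : g⁻¹ * (⟨k, hk.1⟩ * ⟨τ, lperm_mem hm⟩) ∈ L := hle (by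
      rw [MulAction.mem_stabilizer_iff, smul_pair, mul_smul, mul_smul]
      have e2 : (⟨k, hk.1⟩ : M24) • (⟨τ, lperm_mem hm⟩ : M24) • d = v := e
      rw [e2]
      rcases hv with rfl | rfl
      · rw [hu, inv_smul_smul]
      · have : g⁻¹ • uᶜ = dᶜ := by
          rw [show g⁻¹ • uᶜ = (g⁻¹ • u)ᶜ from smul_compl' _ _, hu, inv_smul_smul]
        rw [this, compl_compl, Finset.pair_comm])
    have h2 := mul_mem hg h1
    rw [mul_inv_cancel_left] at h2
    have h3 := mul_mem (inv_mem (hdL (x := (⟨k, hk.1⟩ : M24)) hk.2)) h2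
    rwa [inv_mul_cancel_left] at h3
  obtain ⟨hne, hok, hL'⟩ := mover_sound baseDod_lt dodStabGens_ok hm hdL hτL
  obtain ⟨σ, hσ, e'⟩ := setCover_sound baseDod_lt hne hok hL' (dodMove_cover i hi)
    (mem_dodecads.1 (smul_dodecad x.2 baseDod_mem))
  obtain ⟨l, hl, rfl⟩ := hσ
  refine ⟨l, hl, ?_⟩
  rw [smul_pair, smul_pair, show l • d = x • d from e']

theorem dodecad_pair_coatom {d : Finset GolayPt} (hd : d ∈ dodecads) :
    IsCoatom (MulAction.stabilizer M24 ({d, dᶜ} : Finset (Finset GolayPt))) := by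
  obtain ⟨σ, hσ, rfl⟩ := exists_base_dodecad hd
  have h := isCoatom_stabilizer_smul (⟨σ, hσ⟩ : M24) dodecad_pair_coatom_base
  rw [smul_pair] at h
  exact h

end Cfsg.Agent.Spor
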