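/-
The pointwise and setwise stabilisers of an octad.
-/
import Cfsg.Agent.Lib.Spor.GolayStab

set_option autoImplicit false
set_option maxRecDepth 100000

namespace Cfsg.Agent.Spor

open scoped Pointwise

/-- the elements of `M24` fixing a set pointwise -/
abbrev fixM (o : Finset GolayPt) : Subgroup (Equiv.Perm GolayPt) :=
  M24 ⊓ fixingSubgroup (Equiv.Perm GolayPt) (o : Set GolayPt)

theorem mem_fixM {o : Finset GolayPt} {σ : Equiv.Perm GolayPt} :
    σ ∈ fixM o ↔ σ ∈ M24 ∧ ∀ p ∈ o, σ p = p := by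
  rw [Subgroup.mem_inf, mem_fixingSubgroup_iff]; rfl

theorem octFix_ok : ∀ l ∈ octFixElems, m24ok l = true ∧ lmul l l = List.range 24 ∧
    ∀ i, i < 24 → Nat.testBit 5279 i = true → l.getD i 0 = i := by decide +kernel

theorem octFix_reg : ∀ p : GolayPt, p ∉ ofMask 5279 →
    ∃ l ∈ octFixElems, l.getD 5 0 = idx p := by decide +kernel

theorem fixSix_le : fixM (ofMask 5279) ≤ fixL M24 (chainBase.take 6) := fun σ hσ => by
  obtain ⟨hM, hfix⟩ := mem_fixM.1 hσ
  refine mem_fixL.2 ⟨hM, fun p hp => hfix p ?_⟩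
  revert hp
  generalize p = q
  revert q
  decide +kernel

theorem fixSix_elem {σ : Equiv.Perm GolayPt} (hσ : σ ∈ fixL M24 (chainBase.take 6)) :
    ∃ l ∈ octFixElems, σ = lperm l := by
  have h := chain_upper (k := 6) (by norm_num) hσ
  have hout : σ (pt (chainBase.getD 6 0)) ∉ ofMask 5279 := by
    revert h
    generalize σ (pt (chainBase.getD 6 0)) = q
    revert q
    decide +kernel
  obtain ⟨l, hl, hl5⟩ := octFix_reg _ hout
  obtain ⟨hm, -, hfix⟩ := octFix_ok l hl
  have hlok : lok l = true := by simp only [m24ok, Bool.and_eq_true] at hm; exact hm.1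
  refine ⟨l, hl, ?_⟩
  have h1 : (lperm l)⁻¹ * σ ∈ fixL M24 chainBase := by
    refine mem_fixL.2 ⟨mul_mem (inv_mem (lperm_mem hm)) (mem_fixL.1 hσ).1, fun p hp => ?_⟩
    rw [Equiv.Perm.mul_apply, Equiv.Perm.inv_eq_iff_eq]
    rw [show chainBase = chainBase.take 6 ++ [5] by decide +kernel, List.mem_append,
      List.mem_singleton] at hp
    rcases hp with hp | hp
    · rw [(mem_fixL.1 hσ).2 p hp]
      apply idx_injective
      rw [← rep_lperm hlok p]
      refine (hfix _ (idx_lt p) ?_).symm
      have key : ∀ q : GolayPt, idx q ∈ chainBase.take 6 → Nat.testBit 5279 (idx q) = true := by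
        decide +kernel
      exact key p hp
    · have hp' : p = pt (chainBase.getD 6 0) := by rw [← pt_idx p, hp]; decide +kernel
      apply idx_injective
      rw [← rep_lperm hlok p, hp, hl5, hp']
  exact (inv_mul_eq_one.1 (fix_seven h1)).symm

theorem fixM_base : fixM (ofMask 5279) = fixL M24 (chainBase.take 6) := by
  refine le_antisymm fixSix_le fun σ hσ => ?_
  obtain ⟨l, hl, rfl⟩ := fixSix_elem hσ
  obtain ⟨hm, -, hfix⟩ := octFix_ok l hl
  have hlok : lok l = true := by simp only [m24ok, Bool.and_eq_true] at hm; exact hm.1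
  refine mem_fixM.2 ⟨lperm_mem hm, fun p hp => idx_injective ?_⟩
  rw [← rep_lperm hlok p]
  exact hfix _ (idx_lt p) (mem_ofMask.1 hp)

theorem fixM_smul {σ : Equiv.Perm GolayPt} (hσ : σ ∈ M24) (o : Finset GolayPt) {g : Equiv.Perm GolayPt} :
    g ∈ fixM (σ • o) ↔ σ⁻¹ * g * σ ∈ fixM o := by
  rw [mem_fixM, mem_fixM]
  refine and_congr ⟨fun h => mul_mem (mul_mem (inv_mem hσ) h) hσ, fun h => ?_⟩ ⟨fun h p hp => ?_, fun h p hp => ?_⟩
  · simpa [mul_assoc] using mul_mem (mul_mem hσ h) (inv_mem hσ)
  · have h2 : g (σ p) = σ p := h _ (Finset.smul_mem_smul_finset hp)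
    rw [Equiv.Perm.mul_apply, Equiv.Perm.mul_apply, h2]
    exact σ.symm_apply_apply p
  · obtain ⟨q, hq, rfl⟩ := Finset.mem_smul_finset.1 hp
    have := congrArg σ (h q hq)
    simpa using this

theorem card_fixM_octad {o : Finset GolayPt} (ho : o ∈ octads) :
    Nat.card (fixM o) = 16 ∧ ∀ g ∈ fixM o, g * g = 1 := by
  obtain ⟨σ, hσ, rfl⟩ := octad_map o ho
  have e : fixM (σ • ofMask 5279) = (fixM (ofMask 5279)).map (MulAut.conj σ).toMonoidHom := by
    ext g
    rw [fixM_smul hσ, Subgroup.mem_map_equiv]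
    simp [MulAut.conj_symm_apply]
  constructor
  · rw [e, Nat.card_congr (Subgroup.equivMapOfInjective _ _ (MulAut.conj σ).injective).toEquiv.symm,
      fixM_base, card_fixL genH_le le_rfl 6 (by norm_num)]
    rfl
  · intro g hg
    obtain ⟨l, hl, hgl⟩ := fixSix_elem (fixSix_le ((fixM_smul hσ _).1 hg))
    obtain ⟨hm, hsq, -⟩ := octFix_ok l hl
    have hlok : lok l = true := by simp only [m24ok, Bool.and_eq_true] at hm; exact hm.1
    have h2 : lperm l * lperm l = 1 := Equiv.ext fun p => idx_injective (by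
      rw [← ((rep_lperm hlok).mul (rep_lperm hlok)) p, hsq,
        List.getD_eq_getElem _ _ (by simpa using idx_lt p)]
      simp)
    rw [← hgl] at h2
    have : σ⁻¹ * (g * g) * σ = 1 := by rw [← h2]; group
    simpa [mul_assoc, inv_mul_eq_one, eq_comm] using congrArg (fun x => σ * x * σ⁻¹) this

theorem fixM_octad_regular {o : Finset GolayPt} (ho : o ∈ octads) {g : Equiv.Perm GolayPt}
    (hg : g ∈ fixM o) {p : GolayPt} (hp : p ∉ o) (hgp : g p = p) : g = 1 := by
  obtain ⟨σ, hσ, rfl⟩ := octad_map o ho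
  set h := σ⁻¹ * g * σ with hh
  set q := σ⁻¹ p
  have hq : q ∉ ofMask 5279 := fun hq => hp (by
    have := Finset.smul_mem_smul_finset (a := σ) hq
    simpa [q] using this)
  have hmem : h ∈ fixL M24 (chainBase.take 6) := fixSix_le ((fixM_smul hσ _).1 hg)
  obtain ⟨l, hl, e⟩ := fixSix_elem hmem
  have hhq : h q = q := by simp [h, q, hgp]
  obtain ⟨hm, -, -⟩ := octFix_ok l hl
  have hlok : lok l = true := by simp only [m24ok, Bool.and_eq_true] at hm; exact hm.1
  have hreg : ∀ l ∈ octFixElems, ∀ q : GolayPt, q ∉ ofMask 5279 → l.getD (idx q) 0 = idx q →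
      l = List.range 24 := by decide +kernel
  have hl' := hreg l hl q hq (by rw [rep_lperm hlok q, ← e, hhq])
  have h1 : h = 1 := Equiv.ext fun r => idx_injective (by
    rw [e, ← rep_lperm hlok r, hl', List.getD_eq_getElem _ _ (by simpa using idx_lt r)]
    simp)
  rw [hh] at h1
  simpa [mul_assoc, inv_mul_eq_one, eq_comm] using congrArg (fun x => σ * x * σ⁻¹) h1

theorem card_stabM_octad {o : Finset GolayPt} (ho : o ∈ octads) : Nat.card (stabM o) = 322560 := by
  have h := Subgroup.card_mul_index (MulAction.stabilizer M24 o)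
  have horb : MulAction.orbit M24 o = octads := by
    ext s
    constructor
    · rintro ⟨⟨σ, hσ⟩, rfl⟩; exact smul_octad hσ ho
    · intro hs
      obtain ⟨σ, hσ, rfl⟩ := octad_trans ho hs
      exact ⟨⟨σ, hσ⟩, rfl⟩
  rw [MulAction.index_stabilizer, horb, ncard_octads, card_M24, ← card_stabM] at h
  omega

/-- restriction of the stabiliser of `o` to `o` -/
def octRestrict (o : Finset GolayPt) : stabM o →* Equiv.Perm o where
  toFun g := (g : Equiv.Perm GolayPt).subtypePerm fun x => by
    have h : (g : Equiv.Perm GolayPt) • o = o := g.2.2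
    exact (Finset.ext_iff.1 h _).symm.trans (Finset.smul_mem_smul_finset_iff _)
  map_one' := rfl
  map_mul' _ _ := rfl

theorem octRestrict_ker {o : Finset GolayPt} {g : stabM o} :
    g ∈ (octRestrict o).ker ↔ (g : Equiv.Perm GolayPt) ∈ fixM o := by
  rw [MonoidHom.mem_ker, mem_fixM, Equiv.ext_iff]
  exact ⟨fun h => ⟨g.2.1, fun p hp => congrArg Subtype.val (h ⟨p, hp⟩)⟩,
    fun h q => Subtype.ext (h.2 _ q.2)⟩

theorem fixM_le_stabM (o : Finset GolayPt) : fixM o ≤ stabM o := fun g hg => by
  obtain ⟨hM, hfix⟩ := mem_fixM.1 hg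
  refine ⟨hM, ?_⟩
  show g • o = o
  rw [smul_finset_eq_image]
  exact (Finset.image_congr hfix).trans Finset.image_id

theorem octRestrict_range {o : Finset GolayPt} (ho : o ∈ octads) :
    (octRestrict o).range = alternatingGroup o := by
  have hker : Nat.card (octRestrict o).ker = 16 := by
    rw [← (card_fixM_octad ho).1]
    exact Nat.card_congr
      { toFun := fun g => ⟨g.1.1, octRestrict_ker.1 g.2⟩
        invFun := fun g => ⟨⟨g.1, fixM_le_stabM o g.2⟩, octRestrict_ker.2 g.2⟩
        left_inv := fun _ => rfl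
        right_inv := fun _ => rfl }
  have hr : Nat.card (octRestrict o).range = 20160 := by
    have h := Subgroup.card_mul_index (octRestrict o).ker
    rw [Subgroup.index_ker, hker, card_stabM_octad ho] at h
    omega
  apply Equiv.Perm.eq_alternatingGroup_of_index_eq_two
  have h := Subgroup.card_mul_index (octRestrict o).range
  have hperm : Nat.card (Equiv.Perm o) = 40320 := by
    rw [Nat.card_eq_fintype_card, Fintype.card_perm, Fintype.card_coe, ho.2]
    rfl
  rw [hr, hperm] at h
  omega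

/-- the stabiliser of an octad is a split extension of its pointwise stabiliser -/
theorem octad_split {o : Finset GolayPt} (ho : o ∈ octads) {p : GolayPt} (hp : p ∉ o) :
    fixM o ⊓ (stabM o ⊓ MulAction.stabilizer (Equiv.Perm GolayPt) p) = ⊥ ∧
      fixM o ⊔ (stabM o ⊓ MulAction.stabilizer (Equiv.Perm GolayPt) p) = stabM o ∧
      Nonempty (↥(stabM o ⊓ MulAction.stabilizer (Equiv.Perm GolayPt) p) ≃* alternatingGroup (Fin 8)) := by
  have hbot : ∀ g ∈ fixM o, g p = p → g = 1 := fun g hg h => fixM_octad_regular ho hg hp h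
  have hdec : ∀ g ∈ stabM o, ∃ e ∈ fixM o, e⁻¹ * g ∈ stabM o ⊓ MulAction.stabilizer (Equiv.Perm GolayPt) p := by
    intro g hg
    have hgp : g p ∉ o := by
      intro hin
      have h : g⁻¹ • o = o := inv_smul_eq_iff.2 hg.2.symm
      have h2 := Finset.smul_mem_smul_finset (a := g⁻¹) hin
      rw [h] at h2
      exact hp (by simpa using h2)
    let φ : fixM o → {q : GolayPt // q ∉ o} := fun e => ⟨e.1 p, fun hin => hp (by
      have := (mem_fixM.1 e.2).2 _ hin
      rw [e.1.injective this] at hin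
      exact hin)⟩
    have hinj : Function.Injective φ := fun a b h => by
      have h1 := hbot _ (mul_mem (inv_mem b.2) a.2) (by
        show b.1.symm (a.1 p) = p
        rw [show a.1 p = b.1 p from congrArg Subtype.val h, Equiv.symm_apply_apply])
      exact Subtype.ext (inv_mul_eq_one.1 h1).symm
    have hbij : Function.Bijective φ := by
      rw [Nat.bijective_iff_injective_and_card]
      refine ⟨hinj, ?_⟩
      rw [(card_fixM_octad ho).1, Nat.card_eq_fintype_card, Fintype.card_subtype_compl, Fintype.card_coe,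
        ho.2]
      rfl
    obtain ⟨e, he⟩ := hbij.2 ⟨g p, hgp⟩
    refine ⟨e.1, e.2, Subgroup.mem_inf.2 ⟨mul_mem (inv_mem (fixM_le_stabM o e.2)) hg, ?_⟩⟩
    show e.1.symm (g p) = p
    rw [← show e.1 p = g p from congrArg Subtype.val he, Equiv.symm_apply_apply]
  refine ⟨(Subgroup.eq_bot_iff_forall _).2 fun g hg => hbot g hg.1 hg.2.2, ?_, ?_⟩
  · refine le_antisymm (sup_le (fixM_le_stabM o) inf_le_left) fun g hg => ?_
    obtain ⟨e, he, hk⟩ := hdec g hg
    rw [← mul_inv_cancel_left e g]
    exact Subgroup.mul_mem_sup he hk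
  · let K := stabM o ⊓ MulAction.stabilizer (Equiv.Perm GolayPt) p
    let f : K →* Equiv.Perm o := (octRestrict o).comp (Subgroup.inclusion inf_le_left)
    have hinj : Function.Injective f := (injective_iff_map_eq_one f).2 fun g hg => Subtype.ext
      (hbot g.1 (octRestrict_ker.1 (MonoidHom.mem_ker.2 hg : Subgroup.inclusion inf_le_left g ∈ _)) g.2.2)
    have hrange : f.range = alternatingGroup o := by
      rw [← octRestrict_range ho]
      refine le_antisymm (fun x ⟨k, hk⟩ => ⟨_, hk⟩) ?_
      rintro x ⟨g, rfl⟩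
      obtain ⟨e, he, hk⟩ := hdec g.1 g.2
      refine ⟨⟨e⁻¹ * g.1, hk⟩, ?_⟩
      show octRestrict o _ = octRestrict o g
      have hx : Subgroup.inclusion inf_le_left (⟨e⁻¹ * g.1, hk⟩ : K) =
          (⟨e, fixM_le_stabM o he⟩ : stabM o)⁻¹ * g := rfl
      rw [hx, map_mul, map_inv,
        MonoidHom.mem_ker.1 (octRestrict_ker.2 he : (⟨e, fixM_le_stabM o he⟩ : stabM o) ∈ _), inv_one,
        one_mul]
    refine ⟨(MonoidHom.ofInjective hinj).trans ((MulEquiv.subgroupCongr hrange).trans
      (Equiv.altCongrHom (o.equivFinOfCardEq ho.2)))⟩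

end Cfsg.Agent.Spor
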