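/-
Orbit decompositions on octads, trios, sextets and small sets from tagged certificates.
-/
import Cfsg.Agent.Lib.Spor.GolaySextet
import Cfsg.Agent.Lib.Spor.GolayTrios
import Cfsg.Agent.Lib.Spor.GolayTrioData

set_option autoImplicit false
set_option maxRecDepth 100000

namespace Cfsg.Agent.Spor

open scoped Pointwise

theorem smul_confOf_eq {σ : Equiv.Perm GolayPt} {f : ℕ → ℕ}
    (hf : ∀ s : Finset GolayPt, mask (σ • s) = f (mask s)) {A B : List ℕ} (hA : ∀ m ∈ A, m < 2 ^ 24)
    (hB : ∀ m ∈ B, m < 2 ^ 24) (hAn : A.Nodup) (hBn : B.Nodup) (hlen : A.length = B.length)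
    (h : ∀ m ∈ A, f m ∈ B) : σ • confOf A = confOf B := by
  refine Finset.eq_of_subset_of_card_le ?_
    (by rw [Finset.card_smul_finset, confOf_card hAn hA, confOf_card hBn hB, hlen])
  rw [smul_confOf hf hA]
  intro s hs
  obtain ⟨m, hm, rfl⟩ := mem_confOf.1 hs
  obtain ⟨n, hn, rfl⟩ := List.mem_map.1 hm
  exact mem_confOf.2 ⟨_, h n hn, rfl⟩

/-- a list of distinct masks -/
def confOk (A : List ℕ) : Bool := A.all (fun m => decide (m < 2 ^ 24)) && decide A.Nodup

theorem confOk_sound {A : List ℕ} (h : confOk A = true) : (∀ m ∈ A, m < 2 ^ 24) ∧ A.Nodup := by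
  simpa [confOk] using h

/-- generators of the stabiliser of a configuration -/
def confStab (A : List ℕ) (gs : List (List ℕ)) : Bool :=
  !gs.isEmpty && gs.all fun g => m24ok g && fixesConf A g

theorem confStab_sound {A : List ℕ} {gs : List (List ℕ)} (h : confStab A gs = true) :
    GensIn (MulAction.stabilizer M24 (confOf A)) gs :=
  GensIn.mk' h fun g hg hP => by
    have hl : lok g = true := by simp only [m24ok, Bool.and_eq_true] at hg; exact hg.1
    exact fixesConf_sound hl hP

theorem smul_confSingleton {σ : Equiv.Perm GolayPt} (m : ℕ) :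
    σ • confOf [m] = {σ • ofMask m} := by
  simp [confOf, Finset.smul_finset_singleton]

theorem confOf_singleton (m : ℕ) : confOf [m] = {ofMask m} := rfl

/-- the stabiliser of a set is the stabiliser of the configuration it forms -/
theorem stabilizer_singleton_conf (s : Finset GolayPt) :
    MulAction.stabilizer M24 ({s} : Finset (Finset GolayPt)) = MulAction.stabilizer M24 s := by
  ext g
  simp [MulAction.mem_stabilizer_iff, Finset.smul_finset_singleton]

/-- the test comparing the image of one member of the tagged root with the target -/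
def keyTest (k : ℕ) (R : List (List ℕ)) (f : ℕ → ℕ) (p : ℕ × ℕ) : Bool :=
  f ((R.getD (p.2 / k) []).getD (p.2 % k) 0) == p.1

/-- targets with their classes -/
def classList (keys tags : List ℕ) (k : ℕ) : List (ℕ × ℕ) := keys.zip (tags.map (· / k))

theorem getD_mem_all {α : Type*} {d : α} {l : List α} {i : ℕ} (h : i < l.length) : l.getD i d ∈ l := by
  rw [List.getD_eq_getElem _ _ h]; exact List.getElem_mem _

theorem classList_facts {keys tags : List ℕ} {k n : ℕ} (hlen : keys.length = tags.length)
    (htags : tags.all (fun c => decide (c / k < n)) = true) :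
    (classList keys tags k).map Prod.fst = keys ∧
      (∀ p ∈ classList keys tags k, p.2 ∈ List.range n) ∧
      ∀ p ∈ classList keys tags k, ∃ c, (p.1, c) ∈ keys.zip tags ∧ c / k = p.2 ∧ c / k < n := by
  have hmem : ∀ p ∈ classList keys tags k, ∃ c, (p.1, c) ∈ keys.zip tags ∧ c / k = p.2 ∧ c / k < n := by
    rintro ⟨a, b⟩ hp
    rw [classList, List.zip_map_right, List.mem_map] at hp
    obtain ⟨⟨a', c⟩, hac, e⟩ := hp
    simp only [Prod.map, id_eq, Prod.mk.injEq] at e
    obtain ⟨rfl, rfl⟩ := e
    exact ⟨c, hac, rfl, of_decide_eq_true (List.all_eq_true.1 htags c (List.of_mem_zip hac).2)⟩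
  refine ⟨List.map_fst_zip (by simp [hlen]), fun p hp => ?_, hmem⟩
  obtain ⟨c, -, e, hc⟩ := hmem p hp
  exact List.mem_range.2 (e ▸ hc)

/-- the set forming a one-member configuration -/
def single (c : Finset GolayPt) : Finset (Finset GolayPt) := {c}

/-- Orbits of a configuration stabiliser on a family of sets. -/
theorem set_orbits {A : List ℕ} {gs : List (List ℕ)} {keys : List ℕ} {S : Set (Finset GolayPt)}
    {R : List (List ℕ)} {tags ws : List ℕ} (hkeys : ∀ s, s ∈ S ↔ mask s ∈ keys) (hnd : keys.Nodup)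
    (hinvS : ∀ σ ∈ M24, ∀ s ∈ S, σ • s ∈ S) (hgs : confStab A gs = true)
    (hR : R.all (fun r => r.length == 1 && decide (r.getD 0 0 < 2 ^ 24) && keys.elem (r.getD 0 0)) = true)
    (hlen : keys.length = tags.length) (htags : tags.all (fun c => decide (c / 1 < R.length)) = true)
    (hc : cover (keyTest 1 R) gs (keys.zip tags) ws = true)
    {β : Type*} (inv : Finset GolayPt → β)
    (hinv : ∀ k ∈ MulAction.stabilizer M24 (confOf A), ∀ s, inv (k • s) = inv s)
    (hsep : ∀ c ∈ List.range R.length, ∀ c' ∈ List.range R.length,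
      inv (ofMask ((R.getD c []).getD 0 0)) = inv (ofMask ((R.getD c' []).getD 0 0)) → c = c') :
    (∀ c, c < R.length → ofMask ((R.getD c []).getD 0 0) ∈ S ∧
        (MulAction.orbit (MulAction.stabilizer M24 (confOf A)) (ofMask ((R.getD c []).getD 0 0))).ncard =
          ((classList keys tags 1).filter fun p => decide (p.2 = c)).length) ∧
      (∀ s ∈ S, ∃ c, c < R.length ∧
        s ∈ MulAction.orbit (MulAction.stabilizer M24 (confOf A)) (ofMask ((R.getD c []).getD 0 0))) ∧
      ∀ s ∈ S, ∀ s' ∈ S, inv s = inv s' → ∃ k ∈ MulAction.stabilizer M24 (confOf A), k • s = s' := by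
  simp only [List.all_eq_true, Bool.and_eq_true, decide_eq_true_eq, List.elem_iff, beq_iff_eq] at hR
  obtain ⟨hfst, hcs, hmem⟩ := classList_facts (n := R.length) hlen htags
  set r : ℕ → Finset GolayPt := fun c => ofMask ((R.getD c []).getD 0 0) with hrdef
  have hr : ∀ c ∈ List.range R.length, r c ∈ S := fun c hc => by
    obtain ⟨⟨-, h1⟩, h2⟩ := hR _ (getD_mem_all (List.mem_range.1 hc))
    rw [hrdef, hkeys, mask_ofMask h1]; exact h2
  obtain ⟨h1, h2, h3⟩ := orbit_classes (K := MulAction.stabilizer M24 (confOf A)) (S := S)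
    (fun k s hs => hinvS _ (k : M24).2 s hs) (code := mask) (mask_injective.injOn)
    (L := classList keys tags 1) (hfst.symm ▸ hnd) (fun s hs => hfst.symm ▸ (hkeys s).1 hs)
    hcs (r := r) hr
    (fun p hp => by
      obtain ⟨c, hpc, e, hlt⟩ := hmem p hp
      obtain ⟨k, f, hf, ht⟩ := coverK_sound (confStab_sound hgs) hc hpc
      refine ⟨k, ?_⟩
      rw [keyTest, beq_iff_eq, Nat.mod_one, e] at ht
      obtain ⟨⟨-, h1⟩, -⟩ := hR _ (getD_mem_all (e ▸ hlt))
      refine (hf _).trans ?_
      rw [hrdef, mask_ofMask h1, ht])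
    inv (fun k s => hinv k k.2 s) hsep
  refine ⟨fun c hc => ⟨hr c (List.mem_range.2 hc), h1 c (List.mem_range.2 hc)⟩, fun s hs => ?_, fun s hs s' hs' h => ?_⟩
  · obtain ⟨c, hc, h⟩ := h2 s hs
    exact ⟨c, List.mem_range.1 hc, h⟩
  · obtain ⟨k, hk⟩ := h3 s hs s' hs' h
    exact ⟨k, k.2, hk⟩

/-- the list forms a sextet -/
def sxOk (r : List ℕ) : Bool :=
  (r.length == 6) && confOk r && r.all (fun a => (pc a == 4) && r.all fun b => (a == b) || octMasks.elem (a ||| b))

theorem sxOk_sound {r : List ℕ} (h : sxOk r = true) : confOf r ∈ sextets := by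
  simp only [sxOk, Bool.and_eq_true, beq_iff_eq, List.all_eq_true, Bool.or_eq_true, List.elem_iff] at h
  obtain ⟨⟨hlen, hok⟩, hall⟩ := h
  obtain ⟨hlt, hnd⟩ := confOk_sound hok
  refine ⟨(confOf_card hnd hlt).trans hlen, fun t ht => ?_, fun t ht u hu hne => ?_⟩
  · obtain ⟨m, hm, rfl⟩ := mem_confOf.1 ht
    rw [← pc_mask, mask_ofMask (hlt m hm)]; exact (hall m hm).1
  · obtain ⟨m, hm, rfl⟩ := mem_confOf.1 ht
    obtain ⟨n, hn, rfl⟩ := mem_confOf.1 hu
    rw [mem_octads, mask_union, mask_ofMask (hlt m hm), mask_ofMask (hlt n hn)]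
    exact ((hall m hm).2 n hn).resolve_left fun e => hne (by rw [e])

/-- Orbits of a configuration stabiliser on the sextets. -/
theorem sextet_orbits {A : List ℕ} {gs : List (List ℕ)} {R : List (List ℕ)} {tags ws : List ℕ}
    (hgs : confStab A gs = true) (hR : R.all sxOk = true) (hlen : sxKeys.length = tags.length)
    (htags : tags.all (fun c => decide (c / 6 < R.length)) = true)
    (hc : cover (keyTest 6 R) gs (sxKeys.zip tags) ws = true)
    {β : Type*} (inv : Finset (Finset GolayPt) → β)
    (hinv : ∀ k ∈ MulAction.stabilizer M24 (confOf A), ∀ S, inv (k • S) = inv S)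
    (hsep : ∀ c ∈ List.range R.length, ∀ c' ∈ List.range R.length,
      inv (confOf (R.getD c [])) = inv (confOf (R.getD c' [])) → c = c') :
    (∀ c, c < R.length → confOf (R.getD c []) ∈ sextets ∧
        (MulAction.orbit (MulAction.stabilizer M24 (confOf A)) (confOf (R.getD c []))).ncard =
          ((classList sxKeys tags 6).filter fun p => decide (p.2 = c)).length) ∧
      (∀ S ∈ sextets, ∃ c, c < R.length ∧
        S ∈ MulAction.orbit (MulAction.stabilizer M24 (confOf A)) (confOf (R.getD c []))) ∧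
      ∀ S ∈ sextets, ∀ S' ∈ sextets, inv S = inv S' →
        ∃ k ∈ MulAction.stabilizer M24 (confOf A), k • S = S' := by
  rw [List.all_eq_true] at hR
  obtain ⟨hfst, hcs, hmem⟩ := classList_facts (n := R.length) hlen htags
  have hr : ∀ c ∈ List.range R.length, confOf (R.getD c []) ∈ sextets := fun c hc =>
    sxOk_sound (hR _ (getD_mem_all (List.mem_range.1 hc)))
  obtain ⟨h1, h2, h3⟩ := orbit_classes (K := MulAction.stabilizer M24 (confOf A)) (S := sextets)
    (fun k S hS => smul_sextet (k : M24).2 hS) (code := sxKey) sxKey_injOn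
    (L := classList sxKeys tags 6) (hfst.symm ▸ sxKeys_nodup) (fun S hS => hfst.symm ▸ sxKey_mem hS)
    hcs (r := fun c => confOf (R.getD c [])) hr
    (fun p hp => by
      obtain ⟨c, hpc, e, hlt⟩ := hmem p hp
      obtain ⟨k, f, hf, ht⟩ := coverK_sound (confStab_sound hgs) hc hpc
      refine ⟨k, ?_⟩
      rw [keyTest, beq_iff_eq, e] at ht
      have hRc := hR _ (getD_mem_all (d := []) (e ▸ hlt : p.2 < R.length))
      set r := R.getD p.2 [] with hr'
      have hsx := sxOk_sound hRc
      simp only [sxOk, Bool.and_eq_true, beq_iff_eq] at hRc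
      set m := r.getD (c % 6) 0
      have hm : m ∈ r := getD_mem_all (by rw [hRc.1.1]; omega)
      have hkey : mask (((k : M24) : Equiv.Perm GolayPt) • ofMask m) = p.1 := by
        rw [hf, mask_ofMask ((confOk_sound hRc.1.2).1 m hm), ht]
      have h0 : pt 0 ∈ ((k : M24) : Equiv.Perm GolayPt) • ofMask m := by
        rw [← testBit_mask_idx, hkey, idx_pt 0 (by norm_num)]
        exact (List.mem_filter.1 (List.of_mem_zip hpc).1).2
      refine (sxKey_eq (smul_sextet (k : M24).2 hsx) ?_ h0).trans hkey
      exact Finset.smul_mem_smul_finset (mem_confOf.2 ⟨m, hm, rfl⟩))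
    inv (fun k S => hinv k k.2 S) hsep
  refine ⟨fun c hc => ⟨hr c (List.mem_range.2 hc), h1 c (List.mem_range.2 hc)⟩, fun S hS => ?_, fun S hS S' hS' h => ?_⟩
  · obtain ⟨c, hc, h⟩ := h2 S hS
    exact ⟨c, List.mem_range.1 hc, h⟩
  · obtain ⟨k, hk⟩ := h3 S hS S' hS' h
    exact ⟨k, k.2, hk⟩

/-- the masks of a trio from its triple -/
def trioSet (t : ℕ × ℕ × ℕ) : Finset ℕ := {t.1, t.2.1, t.2.2}

/-- the list forms a trio -/
def trioOk (r : List ℕ) : Bool :=
  (r.length == 3) && confOk r && r.all (fun a => octMasks.elem a && r.all fun b => (a == b) || (a &&& b == 0))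

theorem trioOk_sound {r : List ℕ} (h : trioOk r = true) : confOf r ∈ trios := by
  simp only [trioOk, Bool.and_eq_true, beq_iff_eq, List.all_eq_true, Bool.or_eq_true, List.elem_iff] at h
  obtain ⟨⟨hlen, hok⟩, hall⟩ := h
  obtain ⟨hlt, hnd⟩ := confOk_sound hok
  refine ⟨(confOf_card hnd hlt).trans hlen, fun t ht => ?_, fun t ht u hu hne => ?_⟩
  · obtain ⟨m, hm, rfl⟩ := mem_confOf.1 ht
    rw [mem_octads, mask_ofMask (hlt m hm)]; exact (hall m hm).1
  · obtain ⟨m, hm, rfl⟩ := mem_confOf.1 ht
    obtain ⟨n, hn, rfl⟩ := mem_confOf.1 hu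
    rw [mask_and_eq_zero, mask_ofMask (hlt m hm), mask_ofMask (hlt n hn)]
    exact ((hall m hm).2 n hn).resolve_left fun e => hne (by rw [e])

theorem smul_trio {σ : Equiv.Perm GolayPt} (hσ : σ ∈ M24) {T : Finset (Finset GolayPt)}
    (hT : T ∈ trios) : σ • T ∈ trios := by
  obtain ⟨h3, ho, hd⟩ := hT
  refine ⟨by rw [Finset.card_smul_finset, h3], ?_, ?_⟩
  · intro t' ht'
    obtain ⟨t, ht, rfl⟩ := Finset.mem_smul_finset.1 ht'
    exact smul_octad hσ (ho t ht)
  · intro t' ht' u' hu' hne
    obtain ⟨t, ht, rfl⟩ := Finset.mem_smul_finset.1 ht'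
    obtain ⟨u, hu, rfl⟩ := Finset.mem_smul_finset.1 hu'
    rw [Finset.disjoint_iff_inter_eq_empty, ← Finset.smul_finset_inter,
      Finset.disjoint_iff_inter_eq_empty.1 (hd t ht u hu fun e => hne (by rw [e])), Finset.smul_finset_empty]

/-- the first `n` numbers of the list increase -/
def increasing : List ℕ → Bool
  | a :: b :: l => decide (a < b) && increasing (b :: l)
  | _ => true

theorem increasing_pairwise : ∀ {l : List ℕ}, increasing l = true → l.Pairwise (· < ·)
  | [], _ => List.Pairwise.nil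
  | [a], _ => List.pairwise_singleton _ a
  | a :: b :: l, h => by
      simp only [increasing, Bool.and_eq_true, decide_eq_true_eq] at h
      have ih := increasing_pairwise h.2
      refine List.pairwise_cons.2 ⟨fun x hx => ?_, ih⟩
      rcases List.mem_cons.1 hx with rfl | hx
      · exact h.1
      · exact h.1.trans ((List.pairwise_cons.1 ih).1 x hx)

/-- the packed number encodes an ascending trio -/
def packedOk (v : ℕ) : Bool :=
  let a := v % 16777216
  let b := v / 16777216
  inCode a && (pc a == 8) && inCode b && (pc b == 8) && decide (a < b) &&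
    decide (b < Nat.xor 16777215 (Nat.xor a b)) && (a &&& b == 0)

theorem trioDec_checks : trioPacked.all packedOk = true ∧ increasing trioPacked = true ∧
    trioPacked.length = 3795 := by decide +kernel

theorem trioDec_subset : trioDec ⊆ trioList := by
  intro t ht
  obtain ⟨v, hv, rfl⟩ := List.mem_map.1 ht
  have h := List.all_eq_true.1 trioDec_checks.1 v hv
  simp only [packedOk, Bool.and_eq_true, beq_iff_eq, decide_eq_true_eq] at h
  obtain ⟨⟨⟨⟨⟨⟨ha, ha8⟩, hb⟩, hb8⟩, hab⟩, hbc⟩, h0⟩ := h
  exact mem_trioList.2 ⟨List.mem_filter.2 ⟨inCode_mem ha, by simp [ha8]⟩,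
    List.mem_filter.2 ⟨inCode_mem hb, by simp [hb8]⟩, hab, hbc, h0, rfl⟩

theorem trioDec_nodup : trioDec.Nodup := by
  refine List.Nodup.map_on ?_ ((increasing_pairwise trioDec_checks.2.1).imp fun h => Nat.ne_of_lt h)
  intro x _ y _ e
  simp only [Prod.mk.injEq] at e
  rw [← Nat.div_add_mod x 16777216, ← Nat.div_add_mod y 16777216, e.1, e.2.1]

theorem mem_trioDec {t : ℕ × ℕ × ℕ} : t ∈ trioDec ↔ t ∈ trioList :=
  ⟨fun h => trioDec_subset h, fun h => ((List.subperm_of_subset trioDec_nodup trioDec_subset).perm_of_length_le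
    (by rw [trioList_length, trioDec, List.length_map, trioDec_checks.2.2])).mem_iff.2 h⟩

theorem trioSets_nodup : (trioDec.map trioSet).Nodup := by
  refine trioDec_nodup.map_on ?_
  intro t ht t' ht' e
  obtain ⟨a, b, c⟩ := t
  obtain ⟨a', b', c'⟩ := t'
  obtain ⟨-, -, hab, hbc, -, -⟩ := mem_trioList.1 (trioDec_subset ht)
  obtain ⟨-, -, hab', hbc', -, -⟩ := mem_trioList.1 (trioDec_subset ht')
  simp only [trioSet] at e
  have h : ∀ x, x ∈ ({a, b, c} : Finset ℕ) ↔ x ∈ ({a', b', c'} : Finset ℕ) := fun x => by rw [e]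
  simp only [Finset.mem_insert, Finset.mem_singleton] at h
  have := h a; have := h b; have := h c; have := h a'; have := h b'; have := h c'
  have : a = a' ∧ b = b' ∧ c = c' := by omega
  obtain ⟨rfl, rfl, rfl⟩ := this
  rfl

theorem trio_code_mem {T : Finset (Finset GolayPt)} (hT : T ∈ trios) :
    T.image mask ∈ trioDec.map trioSet := by
  obtain ⟨t, ht, rfl⟩ := trioOf_surj hT
  exact List.mem_map.2 ⟨t, mem_trioDec.2 ht, (trioOf_mem ht).2.symm⟩

/-- the test comparing all members of the tagged root with the target trio -/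
def trioTest (R : List (List ℕ)) (f : ℕ → ℕ) (p : (ℕ × ℕ × ℕ) × ℕ) : Bool :=
  (R.getD p.2 []).all fun m => (f m == p.1.1) || (f m == p.1.2.1) || (f m == p.1.2.2)

/-- trios with their classes -/
def trioClassList (tags : List ℕ) : List (Finset ℕ × ℕ) := (trioDec.map trioSet).zip tags

/-- Orbits of a configuration stabiliser on the trios. -/
theorem trio_orbits {A : List ℕ} {gs : List (List ℕ)} {R : List (List ℕ)} {tags ws : List ℕ}
    (hgs : confStab A gs = true) (hR : R.all trioOk = true) (hlen : trioDec.length = tags.length)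
    (htags : tags.all (fun c => decide (c < R.length)) = true)
    (hc : cover (trioTest R) gs (trioDec.zip tags) ws = true)
    {β : Type*} (inv : Finset (Finset GolayPt) → β)
    (hinv : ∀ k ∈ MulAction.stabilizer M24 (confOf A), ∀ T, inv (k • T) = inv T)
    (hsep : ∀ c ∈ List.range R.length, ∀ c' ∈ List.range R.length,
      inv (confOf (R.getD c [])) = inv (confOf (R.getD c' [])) → c = c') :
    (∀ c, c < R.length → confOf (R.getD c []) ∈ trios ∧
        (MulAction.orbit (MulAction.stabilizer M24 (confOf A)) (confOf (R.getD c []))).ncard =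
          ((trioClassList tags).filter fun p => decide (p.2 = c)).length) ∧
      (∀ T ∈ trios, ∃ c, c < R.length ∧
        T ∈ MulAction.orbit (MulAction.stabilizer M24 (confOf A)) (confOf (R.getD c []))) ∧
      ∀ T ∈ trios, ∀ T' ∈ trios, inv T = inv T' →
        ∃ k ∈ MulAction.stabilizer M24 (confOf A), k • T = T' := by
  rw [List.all_eq_true] at hR
  have hfst : (trioClassList tags).map Prod.fst = trioDec.map trioSet :=
    List.map_fst_zip (by simp [hlen])
  have hmem : ∀ p ∈ trioClassList tags, ∃ t, (t, p.2) ∈ trioDec.zip tags ∧ trioSet t = p.1 := by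
    rintro ⟨a, b⟩ hp
    rw [trioClassList, List.zip_map_left, List.mem_map] at hp
    obtain ⟨⟨t, c⟩, htc, e⟩ := hp
    simp only [Prod.map, id_eq, Prod.mk.injEq] at e
    obtain ⟨rfl, rfl⟩ := e
    exact ⟨t, htc, rfl⟩
  have hcs : ∀ p ∈ trioClassList tags, p.2 ∈ List.range R.length := fun p hp => by
    obtain ⟨t, ht, -⟩ := hmem p hp
    exact List.mem_range.2 (of_decide_eq_true (List.all_eq_true.1 htags _ (List.of_mem_zip ht).2))
  have hr : ∀ c ∈ List.range R.length, confOf (R.getD c []) ∈ trios := fun c hc =>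
    trioOk_sound (hR _ (getD_mem_all (List.mem_range.1 hc)))
  obtain ⟨h1, h2, h3⟩ := orbit_classes (K := MulAction.stabilizer M24 (confOf A)) (S := trios)
    (fun k T hT => smul_trio (k : M24).2 hT) (code := fun T => T.image mask)
    (fun _ _ _ _ e => Finset.image_injective mask_injective e)
    (L := trioClassList tags) (hfst.symm ▸ trioSets_nodup) (fun T hT => hfst.symm ▸ trio_code_mem hT)
    hcs (r := fun c => confOf (R.getD c [])) hr
    (fun p hp => by
      obtain ⟨⟨a, b, c⟩, hpc, e⟩ := hmem p hp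
      obtain ⟨k, f, hf, ht⟩ := coverK_sound (confStab_sound hgs) hc hpc
      refine ⟨k, ?_⟩
      simp only [trioTest, List.all_eq_true, Bool.or_eq_true, beq_iff_eq] at ht
      have hr' := getD_mem_all (d := []) (List.mem_range.1 (hcs p hp))
      have hT := trioOk_sound (hR _ hr')
      have hRc := hR _ hr'
      simp only [trioOk, Bool.and_eq_true, beq_iff_eq] at hRc
      set r := R.getD p.2 [] with hr''
      rw [← e]
      refine Finset.eq_of_subset_of_card_le ?_ ?_
      · intro x hx
        obtain ⟨s, hs, rfl⟩ := Finset.mem_image.1 hx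
        obtain ⟨s', hs', rfl⟩ := Finset.mem_smul_finset.1 hs
        obtain ⟨m, hm, rfl⟩ := mem_confOf.1 hs'
        rw [show mask (k • ofMask m) = f m from
          (hf _).trans (by rw [mask_ofMask ((confOk_sound hRc.1.2).1 m hm)])]
        simp only [trioSet, Finset.mem_insert, Finset.mem_singleton]
        rcases ht m hm with (h | h) | h <;> simp [h]
      · rw [Finset.card_image_of_injective _ mask_injective, Finset.card_smul_finset, hT.1]
        exact Finset.card_le_three)
    inv (fun k T => hinv k k.2 T) hsep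
  refine ⟨fun c hc => ⟨hr c (List.mem_range.2 hc), h1 c (List.mem_range.2 hc)⟩, fun S hS => ?_, fun S hS S' hS' h => ?_⟩
  · obtain ⟨c, hc, h⟩ := h2 S hS
    exact ⟨c, List.mem_range.1 hc, h⟩
  · obtain ⟨k, hk⟩ := h3 S hS S' hS' h
    exact ⟨k, k.2, hk⟩

/-- the test comparing the whole configuration with a root -/
def confTest (A : List ℕ) (R : List (List ℕ)) (f : ℕ → ℕ) (c : ℕ) : Bool :=
  A.all fun m => (R.getD c []).elem (f m)

/-- for each root: a mover, and words reaching every root with its help -/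
noncomputable def moversOk (A : List ℕ) (gs R : List (List ℕ)) (movers : List (List ℕ)) (ws : List (List ℕ)) : Bool :=
  (List.range R.length).all fun c =>
    ((R.getD c []).length == A.length) && confOk (R.getD c []) && m24ok (movers.getD c []) &&
      A.all (fun m => (R.getD c []).elem (pm (movers.getD c []) m 0)) &&
      cover (confTest A R) (gs ++ [movers.getD c []]) (List.range R.length) (ws.getD c [])

/-- Maximality of a configuration stabiliser. -/
theorem conf_coatom {A : List ℕ} {gs R movers : List (List ℕ)} {ws : List (List ℕ)}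
    (hA : confOk A = true) (hgs : confStab A gs = true) (hne : ∃ x : M24, x • confOf A ≠ confOf A)
    (hcov : ∀ x : M24, x • confOf A = confOf A ∨ ∃ c, c < R.length ∧
      x • confOf A ∈ MulAction.orbit (MulAction.stabilizer M24 (confOf A)) (confOf (R.getD c [])))
    (hm : moversOk A gs R movers ws = true) : IsCoatom (MulAction.stabilizer M24 (confOf A)) := by
  obtain ⟨hAlt, hAnd⟩ := confOk_sound hA
  simp only [moversOk, List.all_eq_true, List.mem_range, Bool.and_eq_true, beq_iff_eq, List.elem_iff] at hm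
  have hg : ∀ c, ∀ hc : c < R.length,
      (⟨_, lperm_mem (hm c hc).1.1.2⟩ : M24) • confOf A = confOf (R.getD c []) := fun c hc => by
    obtain ⟨⟨⟨⟨hlen, hok⟩, hmv⟩, himg⟩, -⟩ := hm c hc
    obtain ⟨hlt, hnd⟩ := confOk_sound hok
    have hl : lok (movers.getD c []) = true := by simp only [m24ok, Bool.and_eq_true] at hmv; exact hmv.1
    exact smul_confOf_eq (fun s => mask_smul_lperm hl s) hAlt hlt hAnd hnd hlen.symm himg
  refine coatom_classes (cs := List.range R.length) (r := fun c => confOf (R.getD c []))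
    (g := fun c => if h : c < R.length then ⟨_, lperm_mem (hm c h).1.1.2⟩ else 1) hne ?_ ?_ ?_
  · intro x
    rcases hcov x with h | ⟨c, hc, k, hk⟩
    · exact Or.inl h
    · exact Or.inr ⟨c, List.mem_range.2 hc, k, k.2, hk⟩
  · intro c hc
    rw [List.mem_range] at hc
    simp only [dif_pos hc]
    exact hg c hc
  · intro c hc L hle hgL x
    rw [List.mem_range] at hc
    simp only [dif_pos hc] at hgL
    obtain ⟨-, hcover⟩ := hm c hc
    rcases hcov x with h | ⟨d, hd, k, hk⟩
    · exact ⟨1, one_mem _, by rw [one_smul, h]⟩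
    obtain ⟨l, f, hf, ht⟩ := coverK_sound
      ((confStab_sound hgs).cons hle (hm c hc).1.1.2 hgL) hcover (List.mem_range.2 hd)
    simp only [confTest, List.all_eq_true, List.elem_iff] at ht
    obtain ⟨⟨⟨⟨hlen, hok⟩, -⟩, -⟩, -⟩ := hm d hd
    obtain ⟨hlt, hnd⟩ := confOk_sound hok
    have hl : (l : M24) • confOf A = confOf (R.getD d []) :=
      smul_confOf_eq hf hAlt hlt hAnd hnd hlen.symm ht
    exact ⟨k * l, mul_mem (hle k.2) l.2, by rw [mul_smul, hl]; exact hk⟩

end Cfsg.Agent.Spor
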