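/-
Standard configurations and generators of their stabilisers.
-/
import Cfsg.Agent.Lib.Spor.GolayDomains

set_option autoImplicit false
set_option maxRecDepth 100000

namespace Cfsg.Agent.Spor

/-- standard configuration -/
def confSx : List ℕ := [15, 5264, 622848, 3416064, 4196928, 8536096]

/-- generators of the stabiliser of `confSx` -/
def gensSx : List (List ℕ) :=
  [[12, 4, 10, 7, 15, 9, 20, 16, 17, 21, 8, 18, 19, 1, 6, 14, 23, 22, 0, 5, 2, 3, 13, 11],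
  [4, 10, 7, 12, 14, 2, 8, 23, 13, 19, 17, 15, 5, 9, 1, 20, 21, 0, 6, 18, 22, 11, 16, 3],
  [4, 12, 7, 10, 17, 2, 15, 23, 22, 19, 14, 8, 5, 18, 0, 11, 6, 1, 21, 9, 13, 20, 16, 3],
  [12, 7, 4, 10, 3, 23, 22, 0, 8, 9, 2, 11, 1, 18, 5, 19, 16, 14, 20, 15, 21, 13, 6, 17],
  [0, 2, 3, 1, 20, 10, 9, 21, 19, 11, 18, 6, 13, 5, 7, 16, 15, 12, 17, 8, 14, 23, 22, 4]]

theorem gensSx_ok : confStab confSx gensSx = true := by decide +kernel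

/-- standard configuration -/
def confTr : List ℕ := [5279, 1009728, 15762208]

/-- generators of the stabiliser of `confTr` -/
def gensTr : List (List ℕ) :=
  [[6, 19, 16, 17, 18, 5, 12, 14, 20, 15, 11, 0, 13, 3, 10, 8, 2, 4, 1, 7, 22, 23, 21, 9],
  [8, 15, 9, 20, 5, 11, 7, 23, 6, 14, 22, 1, 21, 4, 12, 13, 3, 10, 0, 2, 17, 19, 16, 18],
  [0, 2, 4, 1, 7, 8, 13, 12, 21, 22, 3, 16, 10, 18, 14, 15, 17, 6, 19, 11, 5, 9, 23, 20],
  [13, 6, 16, 18, 19, 7, 20, 17, 1, 4, 14, 5, 11, 15, 9, 12, 23, 8, 22, 21, 0, 3, 2, 10],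
  [15, 22, 8, 20, 21, 16, 2, 23, 11, 14, 9, 10, 5, 7, 3, 13, 1, 12, 4, 0, 18, 6, 19, 17]]

theorem gensTr_ok : confStab confTr gensTr = true := by decide +kernel

/-- standard configuration -/
def confOc : List ℕ := [5279]

/-- generators of the stabiliser of `confOc` -/
def gensOc : List (List ℕ) :=
  [[12, 4, 2, 0, 3, 21, 14, 1, 9, 15, 7, 23, 10, 8, 6, 11, 20, 22, 16, 13, 5, 17, 19, 18],
  [10, 4, 3, 1, 2, 5, 16, 7, 8, 18, 0, 13, 12, 11, 22, 20, 15, 23, 17, 21, 6, 14, 19, 9],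
  [7, 1, 0, 12, 4, 6, 21, 3, 9, 18, 10, 17, 2, 23, 22, 19, 15, 16, 13, 11, 20, 14, 5, 8],
  [1, 4, 2, 0, 10, 17, 13, 7, 9, 23, 3, 22, 12, 14, 21, 18, 5, 11, 8, 19, 6, 20, 16, 15],
  [10, 4, 3, 12, 7, 14, 17, 2, 19, 9, 0, 13, 1, 11, 22, 6, 23, 15, 16, 21, 20, 5, 8, 18]]

theorem gensOc_ok : confStab confOc gensOc = true := by decide +kernel

/-- standard configuration -/
def confDp : List ℕ := [165759, 16611456]

/-- generators of the stabiliser of `confDp` -/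
def gensDp : List (List ℕ) :=
  [[12, 18, 7, 19, 11, 23, 16, 6, 14, 13, 21, 0, 8, 5, 1, 20, 15, 22, 9, 17, 10, 3, 2, 4],
  [12, 13, 16, 19, 7, 14, 11, 0, 20, 21, 18, 10, 2, 5, 15, 23, 4, 22, 8, 17, 6, 3, 9, 1],
  [14, 21, 7, 19, 13, 23, 16, 9, 12, 11, 18, 15, 1, 5, 8, 22, 0, 20, 6, 10, 17, 3, 2, 4],
  [23, 22, 18, 13, 20, 21, 19, 2, 11, 16, 12, 9, 15, 6, 8, 14, 1, 7, 4, 3, 17, 10, 5, 0],
  [4, 1, 9, 10, 8, 6, 5, 16, 17, 3, 0, 22, 11, 20, 21, 15, 18, 2, 19, 7, 14, 12, 23, 13]]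

theorem gensDp_ok : confStab confDp gensDp = true := by decide +kernel

/-- standard configuration -/
def confT3 : List ℕ := [7]

/-- generators of the stabiliser of `confT3` -/
def gensT3 : List (List ℕ) :=
  [[2, 0, 1, 6, 20, 9, 21, 4, 13, 23, 8, 19, 14, 16, 3, 12, 5, 22, 10, 15, 18, 17, 7, 11],
  [1, 0, 2, 10, 7, 16, 15, 4, 14, 20, 12, 23, 3, 8, 18, 19, 13, 6, 5, 11, 22, 21, 9, 17],
  [0, 1, 2, 12, 13, 9, 22, 5, 23, 17, 15, 19, 6, 3, 16, 11, 18, 14, 7, 8, 4, 10, 20, 21],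
  [1, 0, 2, 22, 6, 23, 20, 3, 8, 19, 11, 17, 9, 15, 4, 10, 5, 16, 7, 21, 14, 18, 12, 13],
  [0, 1, 2, 7, 8, 11, 3, 13, 15, 12, 17, 10, 9, 6, 16, 22, 14, 5, 23, 18, 19, 21, 4, 20]]

theorem gensT3_ok : confStab confT3 gensT3 = true := by decide +kernel

/-- standard configuration -/
def confP2 : List ℕ := [3]

/-- generators of the stabiliser of `confP2` -/
def gensP2 : List (List ℕ) :=
  [[1, 0, 16, 13, 12, 8, 21, 3, 9, 7, 11, 15, 17, 23, 14, 20, 19, 18, 22, 6, 2, 4, 10, 5],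
  [0, 1, 12, 9, 15, 20, 2, 11, 13, 16, 7, 21, 19, 17, 5, 22, 10, 3, 4, 18, 6, 23, 14, 8],
  [0, 1, 3, 6, 20, 18, 22, 15, 16, 2, 7, 11, 17, 8, 14, 4, 5, 19, 13, 21, 10, 23, 9, 12],
  [1, 0, 23, 21, 9, 10, 19, 13, 22, 2, 11, 6, 5, 16, 14, 12, 3, 4, 20, 15, 8, 17, 7, 18],
  [1, 0, 23, 5, 6, 17, 8, 22, 13, 4, 18, 7, 20, 16, 3, 21, 11, 2, 12, 9, 10, 19, 15, 14]]

theorem gensP2_ok : confStab confP2 gensP2 = true := by decide +kernel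

end Cfsg.Agent.Spor
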