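/-
Certificate: orbits of the stabiliser of confP2 (Pair).
-/
import Cfsg.Agent.Lib.Spor.GolayDomains
import Cfsg.Agent.Lib.Spor.GolayConfs

set_option autoImplicit false
set_option maxRecDepth 100000

namespace Cfsg.Agent.Spor

/-- orbit representatives -/
def orbP2PairR : List (List ℕ) :=
  [[3],
  [5],
  [12]]

/-- tags of the targets -/
def orbP2PairT : List ℕ :=
  [2, 2, 2, 2, 2, 2, 2, 2, 2, 2, 2, 2, 2, 2, 2, 2, 2, 2, 2, 2, 2, 2, 2, 2, 2, 2, 2, 2, 2, 2, 2, 2, 2, 2, 2, 2, 2, 2, 2, 2, 2, 2, 2, 2, 2, 2, 2, 2, 2, 2, 2, 2, 2, 2, 2, 2, 2, 2, 2, 2, 2, 2, 2, 2, 2, 2, 2, 2, 2, 2, 2, 2, 2, 2, 2, 2, 2, 2, 2, 2, 2, 2, 2, 2, 2, 2, 2, 2, 2, 2, 2, 2, 2, 2, 2, 2, 2, 2, 2, 2, 2, 2, 2, 2, 2, 2, 2, 2, 2, 2, 2, 2, 2, 2, 2, 2, 2, 2, 2, 2, 2, 2, 2, 2, 2, 2, 2, 2, 2, 2, 2, 2, 2, 2, 2, 2, 2, 2, 2, 2, 2, 2, 2, 2, 2, 2, 2, 2, 2, 2, 2, 2,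 2, 2, 2, 2, 2, 2, 2, 2, 2, 2, 2, 2, 2, 2, 2, 2, 2, 2, 2, 2, 2, 2, 2, 2, 2, 2, 2, 2, 2, 2, 2, 2, 2, 2, 2, 2, 2, 2, 2, 2, 2, 2, 2, 2, 2, 2, 2, 2, 2, 2, 2, 2, 2, 2, 2, 2, 2, 2, 2, 2, 2, 2, 2, 2, 2, 2, 2, 2, 2, 2, 2, 2, 2, 2, 2, 2, 2, 2, 2, 1, 1, 1, 1, 1, 1, 1, 1, 1, 1, 1, 1, 1, 1, 1, 1, 1, 1, 1, 1, 1, 1, 1, 1, 1, 1, 1, 1, 1, 1, 1, 1, 1, 1, 1, 1, 1, 1, 1, 1, 1, 1, 1, 1, 0]

/-- words of the targets -/
def orbP2PairW : List ℕ :=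
  [3361, 4, 698, 1057, 943, 637, 7, 343, 27, 1195, 99, 160, 406, 118, 1183, 206, 59, 1033, 1669, 1202, 28, 4147, 409, 626, 484, 14, 127, 153, 1268, 265, 769, 82, 67, 151, 171, 925, 1280, 718, 142, 202, 34, 71, 35, 309, 178, 2851, 260, 9, 91, 61, 526, 199, 1, 985, 196, 22, 1065, 115, 98, 854, 23, 130, 87, 373, 620, 1159, 413, 65, 643, 173, 1076, 49, 967, 31, 859, 3883, 697, 1207, 170, 163, 103, 140, 907, 29, 13, 125, 281, 850, 197, 1198, 379, 601, 129, 1147, 417, 207, 560, 262, 1141, 532, 187, 808, 2, 194, 97, 16, 161, 259, 17, 94, 79, 1123, 62, 201, 844, 88, 46, 1004, 739, 55, 535, 1291, 4795, 1024, 121, 3499, 8, 51, 410, 403, 137, 1129, 211, 788, 271, 602, 277, 21, 944, 913, 50, 755, 190, 1232, 104, 70, 89, 311, 728, 212, 1021, 1143, 1237, 5, 1165, 122, 167, 1249, 166, 58, 619, 699, 5804, 775, 1124, 205, 7471, 52, 19,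 1160, 43, 164, 583, 481, 32, 95, 1177, 331, 1063, 1209, 179, 152, 625, 157, 559, 476, 338, 101, 63, 10, 1173, 926, 169, 991, 128, 44, 631, 25, 158, 741, 301, 92, 80, 585, 214, 638, 85, 3, 107, 100, 200, 188, 1251, 475, 6205, 193, 20, 703, 495, 93, 7603, 68, 961, 916, 15, 1270, 745, 1058, 26, 1933, 0, 4, 64, 27, 32, 116, 127, 8, 1, 151, 70, 9, 22, 517, 13, 187, 16, 85, 43, 19, 164, 80, 200, 45, 129, 115, 82, 7, 28, 20, 153, 980, 34, 196, 2, 31, 163, 15, 55, 403, 21, 10, 152, 3, 0, 0]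

theorem orbP2Pair_cover : cover (keyTest 1 orbP2PairR) gensP2 ((subMasks 2).zip orbP2PairT) orbP2PairW = true := by decide +kernel

/-- representatives of the other orbits -/
def orbP2PairR1 : List (List ℕ) :=
  [[5],
  [12]]

/-- movers -/
def orbP2PairM : List (List ℕ) :=
  [[0, 2, 18, 3, 1, 10, 4, 20, 9, 16, 21, 14, 13, 8, 19, 15, 12, 22, 6, 17, 5, 7, 11, 23],
  [2, 3, 4, 5, 6, 7, 8, 9, 10, 11, 12, 13, 14, 15, 16, 17, 18, 19, 20, 21, 22, 0, 1, 23]]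

/-- words after adjoining a mover -/
def orbP2PairMW : List (List ℕ) :=
  [[6, 15161],
  [16687, 6]]

theorem orbP2Pair_movers : moversOk confP2 gensP2 orbP2PairR1 orbP2PairM orbP2PairMW = true := by decide +kernel

end Cfsg.Agent.Spor
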