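/-
Transport of orbit decompositions along the action of `M24`.
-/
import Cfsg.Agent.Lib.Spor.GolayClasses

set_option autoImplicit false
set_option maxRecDepth 100000

namespace Cfsg.Agent.Spor

open scoped Pointwise

theorem orbit_stabilizer_smul {G Z Y : Type*} [Group G] [MulAction G Z] [MulAction G Y] (σ : G) (a : Z)
    (y : Y) :
    MulAction.orbit (MulAction.stabilizer G (σ • a)) (σ • y) =
      (fun u => σ • u) '' MulAction.orbit (MulAction.stabilizer G a) y := by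
  ext u
  constructor
  · rintro ⟨⟨k, hk⟩, rfl⟩
    refine ⟨(σ⁻¹ * k * σ) • y, ⟨⟨σ⁻¹ * k * σ, ?_⟩, rfl⟩, ?_⟩
    · rw [MulAction.mem_stabilizer_iff, mul_smul, mul_smul, MulAction.mem_stabilizer_iff.1 hk,
        inv_smul_smul]
    · show σ • (σ⁻¹ * k * σ) • y = k • σ • y
      rw [mul_smul, mul_smul, smul_inv_smul]
  · rintro ⟨v, ⟨⟨k, hk⟩, rfl⟩, rfl⟩
    refine ⟨⟨σ * k * σ⁻¹, ?_⟩, ?_⟩
    · rw [MulAction.mem_stabilizer_iff, mul_smul, mul_smul, inv_smul_smul, MulAction.mem_stabilizer_iff.1 hk]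
    · show (σ * k * σ⁻¹) • σ • y = σ • k • y
      rw [mul_smul, mul_smul, inv_smul_smul]

/-- Orbit decompositions move with the configuration. -/
theorem orbits_transfer {G Z Y : Type*} [Group G] [MulAction G Z] [MulAction G Y] (σ : G) {a : Z}
    {S : Set Y} (hS : ∀ g : G, ∀ y ∈ S, g • y ∈ S) {n : ℕ} {r : ℕ → Y} {N : ℕ → ℕ}
    (h1 : ∀ c, c < n → r c ∈ S ∧ (MulAction.orbit (MulAction.stabilizer G a) (r c)).ncard = N c)
    (h2 : ∀ y ∈ S, ∃ c, c < n ∧ y ∈ MulAction.orbit (MulAction.stabilizer G a) (r c)) :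
    (∀ c, c < n → σ • r c ∈ S ∧
        (MulAction.orbit (MulAction.stabilizer G (σ • a)) (σ • r c)).ncard = N c) ∧
      (∀ c, c < n → MulAction.orbit (MulAction.stabilizer G (σ • a)) (σ • r c) ⊆ S) ∧
      ∀ y ∈ S, ∃ c, c < n ∧ y ∈ MulAction.orbit (MulAction.stabilizer G (σ • a)) (σ • r c) := by
  refine ⟨fun c hc => ⟨hS σ _ (h1 c hc).1, ?_⟩, fun c hc => ?_, fun y hy => ?_⟩
  · rw [orbit_stabilizer_smul, Set.ncard_image_of_injective _ (MulAction.injective σ)]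
    exact (h1 c hc).2
  · rintro _ ⟨k, rfl⟩
    exact hS (k : G) _ (hS σ _ (h1 c hc).1)
  · obtain ⟨c, hc, h⟩ := h2 _ (hS σ⁻¹ y hy)
    refine ⟨c, hc, ?_⟩
    rw [orbit_stabilizer_smul]
    exact ⟨_, h, smul_inv_smul σ y⟩

/-- A same-class criterion moves with the configuration. -/
theorem criterion_transfer {G Z Y β : Type*} [Group G] [MulAction G Z] [MulAction G Y] (σ : G) {a : Z}
    {S : Set Y} (hS : ∀ g : G, ∀ y ∈ S, g • y ∈ S) {inv inv' : Y → β} (hinv : ∀ y, inv' (σ • y) = inv y)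
    (h3 : ∀ y ∈ S, ∀ y' ∈ S, inv y = inv y' → ∃ k ∈ MulAction.stabilizer G a, k • y = y') :
    ∀ y ∈ S, ∀ y' ∈ S, inv' y = inv' y' → ∃ k : G, k • (σ • a) = σ • a ∧ k • y = y' := by
  intro y hy y' hy' h
  have e : ∀ z, inv' z = inv (σ⁻¹ • z) := fun z => by rw [← hinv, smul_inv_smul]
  rw [e, e] at h
  obtain ⟨k, hk, hky⟩ := h3 _ (hS σ⁻¹ y hy) _ (hS σ⁻¹ y' hy') h
  refine ⟨σ * k * σ⁻¹, ?_, ?_⟩
  · rw [mul_smul, mul_smul, inv_smul_smul, MulAction.mem_stabilizer_iff.1 hk]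
  · rw [mul_smul, mul_smul, hky, smul_inv_smul]

end Cfsg.Agent.Spor
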