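/-
Orbits of the stabilisers of a pair and of a triple of points on pairs and triples; maximality.
-/
import Cfsg.Agent.Lib.Spor.GolayOrbT3Triple
import Cfsg.Agent.Lib.Spor.GolayOrbP2Pair
import Cfsg.Agent.Lib.Spor.GolayTransfer
import Cfsg.Agent.Lib.Spor.GolayOrbits

set_option autoImplicit false
set_option maxRecDepth 100000
set_option Elab.async false

namespace Cfsg.Agent.Spor

open scoped Pointwise

theorem card_iff_subMasks {k : ℕ} (s : Finset GolayPt) : s.card = k ↔ mask s ∈ subMasks k :=
  ⟨mem_subMasks, fun h => by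
    have := (subMasks_card h).2
    rwa [ofMask_mask] at this⟩

theorem subMasks_nodup (k : ℕ) : (subMasks k).Nodup := by
  refine (List.nodup_sublistsLen k List.nodup_range).map_on ?_
  intro a ha b hb e
  refine List.Perm.eq_of_pairwise (le := (· < ·)) (fun x y _ _ h1 h2 => absurd h1 (lt_asymm h2))
    (List.pairwise_lt_range.sublist (List.mem_sublistsLen.1 ha).1)
    (List.pairwise_lt_range.sublist (List.mem_sublistsLen.1 hb).1) ?_
  rw [List.perm_ext_iff_of_nodup ((List.mem_sublistsLen.1 ha).1.nodup List.nodup_range)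
    ((List.mem_sublistsLen.1 hb).1.nodup List.nodup_range)]
  intro x
  rw [← testBit_listMask, ← testBit_listMask, e]

/-- some octad contains the set -/
def inSomeOctad (s : Finset GolayPt) : Bool := octMasks.any fun o => o &&& mask s == mask s

theorem inSomeOctad_iff {s : Finset GolayPt} : inSomeOctad s = true ↔ ∃ o ∈ octads, s ⊆ o := by
  simp only [inSomeOctad, List.any_eq_true, beq_iff_eq]
  constructor
  · rintro ⟨m, hm, he⟩
    refine ⟨ofMask m, by rw [mem_octads, mask_ofMask (octMasks_lt hm)]; exact hm, fun p hp => ?_⟩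
    rw [← testBit_mask_idx, ← he, Nat.testBit_and, Bool.and_eq_true] at hp
    exact mem_ofMask.2 hp.1
  · rintro ⟨o, ho, hso⟩
    exact ⟨mask o, mem_octads.1 ho, by rw [← mask_inter, Finset.inter_eq_right.2 hso]⟩

theorem inSomeOctad_smul {σ : Equiv.Perm GolayPt} (hσ : σ ∈ M24) (s : Finset GolayPt) :
    inSomeOctad (σ • s) = inSomeOctad s := by
  apply Bool.eq_iff_iff.2
  rw [inSomeOctad_iff, inSomeOctad_iff]
  constructor
  · rintro ⟨o, ho, h⟩
    refine ⟨σ⁻¹ • o, smul_octad (inv_mem hσ) ho, ?_⟩
    rw [← Finset.smul_finset_subset_smul_finset_iff (a := σ), smul_inv_smul]; exact h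
  · rintro ⟨o, ho, h⟩
    exact ⟨σ • o, smul_octad hσ ho, Finset.smul_finset_subset_smul_finset h⟩

theorem mem_stab_single {k : M24} {A : List ℕ} {m : ℕ} (hA : A = [m])
    (hk : k ∈ MulAction.stabilizer M24 (confOf A)) : (k : Equiv.Perm GolayPt) • ofMask m = ofMask m := by
  subst hA
  rw [confOf_singleton, stabilizer_singleton_conf] at hk
  exact hk

/-- invariant of a triple relative to the base triple -/
def tripleInv (U : Finset GolayPt) : ℕ × Bool := ((ofMask 7 ∩ U).card, inSomeOctad (ofMask 7 ∪ U))

theorem orbT3Triple_count : ∀ c, c < 5 →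
    ((orbT3TripleT.map (· / 1)).filter fun x => decide (x = c)).length = [1, 63, 630, 1120, 210].getD c 0 := by
  decide +kernel

theorem orbP2Pair_count : ∀ c, c < 3 →
    ((orbP2PairT.map (· / 1)).filter fun x => decide (x = c)).length = [1, 44, 231].getD c 0 := by
  decide +kernel

theorem classCount_eq {ks ts : List ℕ} {k c : ℕ} (h : ks.length = ts.length) :
    ((classList ks ts k).filter fun p => decide (p.2 = c)).length =
      ((ts.map (· / k)).filter fun x => decide (x = c)).length := by
  conv_rhs => rw [← List.map_snd_zip (l₁ := ks) (l₂ := ts.map (· / k)) (by simp [h])]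
  rw [List.filter_map, List.length_map]
  rfl

theorem triple_orbits :
    (∀ c, c < 5 → ofMask ((orbT3TripleR.getD c []).getD 0 0) ∈ {s : Finset GolayPt | s.card = 3} ∧
        (MulAction.orbit (MulAction.stabilizer M24 (confOf confT3))
          (ofMask ((orbT3TripleR.getD c []).getD 0 0))).ncard = [1, 63, 630, 1120, 210].getD c 0) ∧
      (∀ s ∈ {s : Finset GolayPt | s.card = 3}, ∃ c, c < 5 ∧
        s ∈ MulAction.orbit (MulAction.stabilizer M24 (confOf confT3))
          (ofMask ((orbT3TripleR.getD c []).getD 0 0))) ∧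
      ∀ s ∈ {s : Finset GolayPt | s.card = 3}, ∀ s' ∈ {s : Finset GolayPt | s.card = 3},
        tripleInv s = tripleInv s' → ∃ k ∈ MulAction.stabilizer M24 (confOf confT3), k • s = s' := by
  obtain ⟨h1, h2, h3⟩ := set_orbits (R := orbT3TripleR) (tags := orbT3TripleT)
    (S := {s : Finset GolayPt | s.card = 3}) (keys := subMasks 3) card_iff_subMasks (subMasks_nodup 3)
    (fun σ _ s hs => (Finset.card_smul_finset σ s).trans hs) gensT3_ok (by decide +kernel)
    (by decide +kernel) (by decide +kernel) orbT3Triple_cover tripleInv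
    (fun k hk s => by
      have hf := mem_stab_single (A := confT3) rfl hk
      have e1 : ofMask 7 ∩ (k • s) = (k : Equiv.Perm GolayPt) • (ofMask 7 ∩ s) := by
        rw [Finset.smul_finset_inter, hf]; rfl
      have e2 : ofMask 7 ∪ (k • s) = (k : Equiv.Perm GolayPt) • (ofMask 7 ∪ s) := by
        rw [Finset.smul_finset_union, hf]; rfl
      rw [tripleInv, tripleInv, e1, e2, Finset.card_smul_finset, inSomeOctad_smul k.2])
    (by decide +kernel)
  refine ⟨fun c hc => ⟨(h1 c hc).1, (h1 c hc).2.trans ?_⟩, h2, h3⟩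
  rw [classCount_eq (by decide +kernel)]
  exact orbT3Triple_count c hc

theorem pair_orbits :
    (∀ c, c < 3 → ofMask ((orbP2PairR.getD c []).getD 0 0) ∈ {s : Finset GolayPt | s.card = 2} ∧
        (MulAction.orbit (MulAction.stabilizer M24 (confOf confP2))
          (ofMask ((orbP2PairR.getD c []).getD 0 0))).ncard = [1, 44, 231].getD c 0) ∧
      (∀ s ∈ {s : Finset GolayPt | s.card = 2}, ∃ c, c < 3 ∧
        s ∈ MulAction.orbit (MulAction.stabilizer M24 (confOf confP2))
          (ofMask ((orbP2PairR.getD c []).getD 0 0))) ∧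
      ∀ s ∈ {s : Finset GolayPt | s.card = 2}, ∀ s' ∈ {s : Finset GolayPt | s.card = 2},
        (ofMask 3 ∩ s).card = (ofMask 3 ∩ s').card →
          ∃ k ∈ MulAction.stabilizer M24 (confOf confP2), k • s = s' := by
  obtain ⟨h1, h2, h3⟩ := set_orbits (R := orbP2PairR) (tags := orbP2PairT)
    (S := {s : Finset GolayPt | s.card = 2}) (keys := subMasks 2) card_iff_subMasks (subMasks_nodup 2)
    (fun σ _ s hs => (Finset.card_smul_finset σ s).trans hs) gensP2_ok (by decide +kernel)
    (by decide +kernel) (by decide +kernel) orbP2Pair_cover (fun s => (ofMask 3 ∩ s).card)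
    (fun k hk s => by
      have hf := mem_stab_single (A := confP2) rfl hk
      have e1 : ofMask 3 ∩ (k • s) = (k : Equiv.Perm GolayPt) • (ofMask 3 ∩ s) := by
        rw [Finset.smul_finset_inter, hf]; rfl
      rw [e1, Finset.card_smul_finset])
    (by decide +kernel)
  refine ⟨fun c hc => ⟨(h1 c hc).1, (h1 c hc).2.trans ?_⟩, h2, h3⟩
  rw [classCount_eq (by decide +kernel)]
  exact orbP2Pair_count c hc

theorem set_coatom_base {m : ℕ} {n : ℕ} {R : List (List ℕ)} {gs movers : List (List ℕ)} {ws : List (List ℕ)}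
    {T : Set (Finset GolayPt)} (hm : m < 2 ^ 24) (hT : ofMask m ∈ T) (hTinv : ∀ σ ∈ M24, ∀ s ∈ T, σ • s ∈ T)
    (hR : R.head? = some [m] ∧ R.all (fun r => r.length == 1) = true ∧ R.length = n)
    (hcov : ∀ s ∈ T, ∃ c, c < n ∧
      s ∈ MulAction.orbit (MulAction.stabilizer M24 (confOf [m])) (ofMask ((R.getD c []).getD 0 0)))
    (hgs : confStab [m] gs = true) (hmv : moversOk [m] gs R.tail movers ws = true)
    (hne : ∃ x : M24, x • ofMask m ≠ ofMask m) :
    IsCoatom (MulAction.stabilizer M24 (ofMask m)) := by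
  have key : IsCoatom (MulAction.stabilizer M24 (confOf [m])) := by
    refine conf_coatom (by simp [confOk]; simpa using hm) hgs ?_ ?_ hmv
    · obtain ⟨x, hx⟩ := hne
      refine ⟨x, fun h => hx ?_⟩
      simpa [confOf_singleton, Finset.smul_finset_singleton] using h
    intro x
    obtain ⟨c, hc, k, hk⟩ := hcov _ (hTinv _ x.2 _ hT)
    obtain ⟨r, rs, rfl⟩ : ∃ r rs, R = r :: rs := by
      cases R with
      | nil => simp at hR
      | cons r rs => exact ⟨r, rs, rfl⟩
    simp only [List.head?_cons, Option.some.injEq] at hR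
    obtain ⟨rfl, hlen1, hlen⟩ := hR
    have hx : x • confOf [m] = {x • ofMask m} := by
      rw [confOf_singleton, Finset.smul_finset_singleton]
    have hk' : k • ofMask (((([m] :: rs).getD c []).getD 0 0)) = x • ofMask m := hk
    cases c with
    | zero =>
        left
        rw [hx, confOf_singleton, ← hk']
        have h2 : (k : M24) • ({ofMask m} : Finset (Finset GolayPt)) = {ofMask m} := k.2
        rw [Finset.smul_finset_singleton] at h2
        exact h2
    | succ c =>
        right
        simp only [List.length_cons] at hlen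
        refine ⟨c, by simp only [List.tail_cons]; omega, k, ?_⟩
        obtain ⟨a, ha⟩ : ∃ a, rs.getD c [] = [a] := by
          have h := List.all_eq_true.1 hlen1 (rs.getD c [])
            (List.mem_cons_of_mem _ (getD_mem_all (by omega)))
          exact List.length_eq_one_iff.1 (beq_iff_eq.1 h)
        rw [List.getD_cons_succ, ha, List.getD_cons_zero] at hk'
        rw [hx, List.tail_cons, ha]
        show k • ({ofMask a} : Finset (Finset GolayPt)) = _
        rw [Finset.smul_finset_singleton, hk']
  rwa [confOf_singleton, stabilizer_singleton_conf] at key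

theorem exists_moved_two : ∃ x : M24, x • ofMask 3 ≠ ofMask 3 := by
  obtain ⟨σ, hσ, h⟩ := exists_map_set (s := ofMask 12) (by decide +kernel)
  refine ⟨⟨σ, hσ⟩, fun e => ?_⟩
  have h3 : ofMask (2 ^ (ofMask 12).card - 1) = ofMask 3 := by decide +kernel
  rw [h3] at h
  have : ofMask 3 = ofMask 12 := e.symm.trans h
  revert this
  decide +kernel

theorem exists_moved_three : ∃ x : M24, x • ofMask 7 ≠ ofMask 7 := by
  obtain ⟨σ, hσ, h⟩ := exists_map_set (s := ofMask 56) (by decide +kernel)
  refine ⟨⟨σ, hσ⟩, fun e => ?_⟩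
  have h3 : ofMask (2 ^ (ofMask 56).card - 1) = ofMask 7 := by decide +kernel
  rw [h3] at h
  have : ofMask 7 = ofMask 56 := e.symm.trans h
  revert this
  decide +kernel

theorem pair_coatom {s : Finset GolayPt} (hs : s.card = 2) : IsCoatom (MulAction.stabilizer M24 s) := by
  obtain ⟨σ, hσ, e⟩ := exists_map_set (show s.card ≤ 5 by omega)
  rw [hs] at e
  rw [← e]
  refine isCoatom_stabilizer_smul (⟨σ, hσ⟩ : M24) ?_
  exact set_coatom_base (T := {s : Finset GolayPt | s.card = 2}) (n := 3) (R := orbP2PairR)
    (movers := orbP2PairM) (ws := orbP2PairMW) (m := 2 ^ 2 - 1) (by norm_num) (by decide +kernel)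
    (fun τ _ u hu => (Finset.card_smul_finset τ u).trans hu) (by decide +kernel) pair_orbits.2.1
    gensP2_ok orbP2Pair_movers exists_moved_two

theorem triple_coatom {s : Finset GolayPt} (hs : s.card = 3) : IsCoatom (MulAction.stabilizer M24 s) := by
  obtain ⟨σ, hσ, e⟩ := exists_map_set (show s.card ≤ 5 by omega)
  rw [hs] at e
  rw [← e]
  refine isCoatom_stabilizer_smul (⟨σ, hσ⟩ : M24) ?_
  exact set_coatom_base (T := {s : Finset GolayPt | s.card = 3}) (n := 5) (R := orbT3TripleR)
    (movers := orbT3TripleM) (ws := orbT3TripleMW) (m := 2 ^ 3 - 1) (by norm_num) (by decide +kernel)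
    (fun τ _ u hu => (Finset.card_smul_finset τ u).trans hu) (by decide +kernel) triple_orbits.2.1
    gensT3_ok orbT3Triple_movers exists_moved_three

end Cfsg.Agent.Spor
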