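/-
Six-point sets under `M24`: two classes of ordered six-tuples, and their pointwise stabilisers.
-/
import Cfsg.Agent.Lib.Spor.GolayOctadFix
import Cfsg.Agent.Lib.Spor.GolaySmallSets

set_option autoImplicit false
set_option maxRecDepth 100000

namespace Cfsg.Agent.Spor

open scoped Pointwise

/-- point numbers of the standard six-tuple inside (`true`) or outside (`false`) an octad -/
def sixBase (b : Bool) : List ℕ := if b then [0, 1, 2, 3, 4, 7] else [0, 1, 2, 3, 4, 5]

theorem octad_of_five_base {σ : Equiv.Perm GolayPt} (hσ : σ ∈ M24)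
    (h : ∀ i, i < 5 → σ (pt i) = pt i) : σ • ofMask 5279 = ofMask 5279 := by
  refine smul_octad_eq hσ baseOctad_mem (t := ofMask 31) (by decide +kernel) (by decide +kernel) ?_
  intro p hp
  have h5 : idx p < 5 := by revert hp; revert p; decide +kernel
  rw [← pt_idx p]; exact h _ h5

theorem inSomeOctad_five (r : GolayPt) :
    inSomeOctad (ofMask 31 ∪ {r}) = true ↔ r ∈ ofMask 5279 := by
  rw [inSomeOctad_iff]
  constructor
  · rintro ⟨o, ho, h⟩
    rw [Finset.union_subset_iff, Finset.singleton_subset_iff] at h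
    have e := octad_eq_of_five ho baseOctad_mem (by
      refine le_trans ?_ (Finset.card_le_card (Finset.subset_inter h.1 (show ofMask 31 ⊆ ofMask 5279 by decide +kernel)))
      decide +kernel)
    exact e ▸ h.2
  · intro hr
    exact ⟨_, baseOctad_mem, Finset.union_subset (by decide +kernel) (Finset.singleton_subset_iff.2 hr)⟩

/-- any six distinct points are the image of the standard tuple of their class -/
theorem exists_map_six (x : Fin 6 ↪ GolayPt) :
    ∃ σ ∈ M24, ∀ i : Fin 6, σ (pt ((sixBase (inSomeOctad (Finset.univ.image x))).getD i 0)) = x i := by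
  obtain ⟨σ, hσ, hσx⟩ := exists_map_base 5 le_rfl (fun i => x ⟨min i 5, by omega⟩) (by
    intro i j hi hj e
    have := x.injective e
    rw [Fin.ext_iff] at this
    simp only at this
    omega)
  have hσx' : ∀ i : Fin 6, (i : ℕ) < 5 → σ (pt i) = x i := fun i hi => by
    rw [hσx _ hi]; congr 1; ext; simp only; omega
  set r := σ⁻¹ (x 5) with hr
  have hσr : σ r = x 5 := σ.apply_symm_apply _
  have hr5 : ∀ i, i < 5 → r ≠ pt i := by
    intro i hi e
    have h2 : x 5 = x ⟨i, by omega⟩ := by rw [← hσr, e]; exact hσx' ⟨i, by omega⟩ hi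
    have := congrArg Fin.val (x.injective h2)
    simp at this
    omega
  have himg : Finset.univ.image x = σ • (ofMask 31 ∪ {r}) := by
    refine Finset.eq_of_subset_of_card_le ?_ ?_
    · intro p hp
      obtain ⟨i, -, rfl⟩ := Finset.mem_image.1 hp
      by_cases hi : (i : ℕ) < 5
      · rw [← hσx' i hi]
        refine Finset.smul_mem_smul_finset (Finset.mem_union_left _ ?_)
        rw [mem_ofMask, idx_pt _ (by omega)]
        have : ∀ j, j < 5 → Nat.testBit 31 j = true := by decide
        exact this _ hi
      · have : i = 5 := Fin.ext (by simp; omega)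
        rw [this, ← hσr]
        exact Finset.smul_mem_smul_finset (Finset.mem_union_right _ (Finset.mem_singleton_self r))
    · rw [Finset.card_image_of_injective _ x.injective, Finset.card_smul_finset, Finset.card_univ,
        Fintype.card_fin]
      refine (Finset.card_union_le _ _).trans ?_
      rw [Finset.card_singleton]
      decide +kernel
  rw [himg, inSomeOctad_smul hσ]
  have hτ : ∃ τ ∈ fixL M24 (chainBase.take 5),
      τ (pt ((sixBase (inSomeOctad (ofMask 31 ∪ {r}))).getD 5 0)) = r := by
    by_cases hin : r ∈ ofMask 5279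
    · rw [(inSomeOctad_five r).2 hin]
      refine chain_lower' (k := 5) (by norm_num) ?_
      have key : ∀ q : GolayPt, q ∈ ofMask 5279 → (∀ i, i < 5 → q ≠ pt i) →
          Nat.testBit (chainOrbit.getD 5 0) (idx q) = true := by decide +kernel
      exact key r hin hr5
    · rw [Bool.eq_false_iff.2 fun h => hin ((inSomeOctad_five r).1 h)]
      have key : ∀ q : GolayPt, q ∉ ofMask 5279 → Nat.testBit (chainOrbit.getD 6 0) (idx q) = true := by
        decide +kernel
      obtain ⟨τ, hτ, e⟩ := chain_lower' (k := 6) (by norm_num) (key r hin)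
      obtain ⟨hM, hfix⟩ := mem_fixL.1 hτ
      refine ⟨τ, mem_fixL.2 ⟨hM, fun p hp => hfix p ?_⟩, e⟩
      revert hp; generalize idx p = n
      rw [show chainBase.take 6 = chainBase.take 5 ++ [7] by decide +kernel, List.mem_append]
      exact Or.inl
  obtain ⟨τ, hτ, hτr⟩ := hτ
  obtain ⟨hM, hfix⟩ := mem_fixL.1 hτ
  refine ⟨σ * τ, mul_mem hσ hM, fun i => ?_⟩
  by_cases hi : (i : ℕ) < 5
  · have e : (sixBase (inSomeOctad (ofMask 31 ∪ {r}))).getD i 0 = i := by
      have : ∀ b : Bool, ∀ j, j < 5 → (sixBase b).getD j 0 = j := by decide +kernel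
      exact this _ _ hi
    rw [e, Equiv.Perm.mul_apply, hfix _ (by
      rw [show chainBase.take 5 = List.range 5 by decide +kernel, idx_pt _ (by omega)]
      exact List.mem_range.2 hi), hσx' i hi]
  · have : i = 5 := Fin.ext (by simp; omega)
    subst this
    rw [Equiv.Perm.mul_apply]
    exact (congrArg σ hτr).trans hσr

/-- six-tuples of the same class are conjugate -/
theorem six_trans (x y : Fin 6 ↪ GolayPt)
    (h : inSomeOctad (Finset.univ.image x) = inSomeOctad (Finset.univ.image y)) :
    ∃ g ∈ M24, ∀ i, g (x i) = y i := by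
  obtain ⟨σ, hσ, hx⟩ := exists_map_six x
  obtain ⟨τ, hτ, hy⟩ := exists_map_six y
  refine ⟨τ * σ⁻¹, mul_mem hτ (inv_mem hσ), fun i => ?_⟩
  rw [Equiv.Perm.mul_apply, ← hx i, ← hy i, h]
  simp

theorem card_fixM_smul {σ : Equiv.Perm GolayPt} (hσ : σ ∈ M24) (o : Finset GolayPt) :
    Nat.card (fixM (σ • o)) = Nat.card (fixM o) := by
  have e : fixM (σ • o) = (fixM o).map (MulAut.conj σ).toMonoidHom := by
    ext g
    rw [fixM_smul hσ, Subgroup.mem_map_equiv]
    simp [MulAut.conj_symm_apply]
  rw [e, Nat.card_congr (Subgroup.equivMapOfInjective _ _ (MulAut.conj σ).injective).toEquiv.symm]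

theorem fixM_eq_fixL {l : List ℕ} (hl : ∀ i ∈ l, i < 24) : fixM (ofMask (listMask l)) = fixL M24 l := by
  ext g
  rw [mem_fixM, mem_fixL]
  simp only [mem_ofMask, testBit_listMask]

theorem card_fix_six_out : Nat.card (fixL M24 [0, 1, 2, 3, 4, 5]) = 3 := by
  set L := fixL M24 (chainBase.take 5) with hL
  have horb : MulAction.orbit L (pt 5) = (ofMask 16771936 : Set GolayPt) := by
    ext p
    rw [Finset.mem_coe, mem_ofMask]
    constructor
    · rintro ⟨⟨τ, hτ⟩, rfl⟩
      obtain ⟨hM, hfix⟩ := mem_fixL.1 hτ
      have h5 : τ • ofMask 5279 = ofMask 5279 := octad_of_five_base hM fun i hi => hfix _ (by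
        rw [show chainBase.take 5 = List.range 5 by decide +kernel, idx_pt i (by omega)]
        exact List.mem_range.2 hi)
      have hout : τ (pt 5) ∉ ofMask 5279 := by
        intro hin
        rw [← h5] at hin
        obtain ⟨q, hq, e⟩ := Finset.mem_smul_finset.1 hin
        rw [τ.injective e] at hq
        revert hq
        decide +kernel
      have key : ∀ q : GolayPt, q ∉ ofMask 5279 → Nat.testBit 16771936 (idx q) = true := by decide +kernel
      exact key _ hout
    · intro h
      obtain ⟨τ, hτ, e⟩ := chain_lower' (k := 6) (by norm_num) (p := p)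
        (by rw [show chainOrbit.getD 6 0 = 16771936 from rfl]; exact h)
      obtain ⟨hM, hfix⟩ := mem_fixL.1 hτ
      refine ⟨⟨τ, mem_fixL.2 ⟨hM, fun q hq => hfix q ?_⟩⟩, ?_⟩
      · revert hq; generalize idx q = n
        rw [show chainBase.take 6 = chainBase.take 5 ++ [7] by decide +kernel, List.mem_append]
        exact Or.inl
      · exact e
  have hc := Subgroup.card_mul_index (MulAction.stabilizer L (pt 5))
  rw [MulAction.index_stabilizer, horb, Set.ncard_coe_finset,
    show (ofMask 16771936).card = 16 by decide +kernel] at hc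
  have hL48 : Nat.card L = 48 := by rw [hL, card_fixL genH_le le_rfl 5 (by norm_num)]; rfl
  have e : Nat.card (MulAction.stabilizer L (pt 5)) = Nat.card (fixL M24 [0, 1, 2, 3, 4, 5]) := by
    refine Nat.card_congr
      { toFun := fun g => ⟨g.1.1, ?_⟩
        invFun := fun g => ⟨⟨g.1, ?_⟩, ?_⟩
        left_inv := fun _ => rfl
        right_inv := fun _ => rfl }
    · obtain ⟨hM, hfix⟩ := mem_fixL.1 g.1.2
      refine mem_fixL.2 ⟨hM, fun q hq => ?_⟩
      rw [show [0, 1, 2, 3, 4, 5] = chainBase.take 5 ++ [5] by decide +kernel, List.mem_append,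
        List.mem_singleton] at hq
      rcases hq with hq | hq
      · exact hfix q hq
      · rw [← pt_idx q, hq]; exact g.2
    · obtain ⟨hM, hfix⟩ := mem_fixL.1 g.2
      refine mem_fixL.2 ⟨hM, fun q hq => hfix q ?_⟩
      revert hq; generalize idx q = n
      rw [show [0, 1, 2, 3, 4, 5] = chainBase.take 5 ++ [5] by decide +kernel, List.mem_append]
      exact Or.inl
    · exact (mem_fixL.1 g.2).2 (pt 5) (by rw [idx_pt 5 (by norm_num)]; decide)
  omega

theorem card_fixM_six {E : Finset GolayPt} (hE : E.card = 6) :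
    Nat.card (fixM E) = if inSomeOctad E then 16 else 3 := by
  obtain ⟨e⟩ : Nonempty (Fin 6 ≃ E) := ⟨(E.equivFinOfCardEq hE).symm⟩
  let x : Fin 6 ↪ GolayPt := e.toEmbedding.trans (Function.Embedding.subtype _)
  have hx : Finset.univ.image x = E := by
    refine Finset.eq_of_subset_of_card_le ?_ (by rw [Finset.card_image_of_injective _ x.injective, hE]; simp)
    intro p hp
    obtain ⟨i, -, rfl⟩ := Finset.mem_image.1 hp
    exact (e i).2
  obtain ⟨σ, hσ, hσx⟩ := exists_map_six x
  rw [hx] at hσx
  set b := inSomeOctad E with hb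
  have hE' : E = σ • ofMask (listMask (sixBase b)) := by
    rw [← hx]
    refine Finset.eq_of_subset_of_card_le ?_ ?_
    · intro p hp
      obtain ⟨i, -, rfl⟩ := Finset.mem_image.1 hp
      rw [← hσx i]
      refine Finset.smul_mem_smul_finset ?_
      have : ∀ b : Bool, ∀ i : Fin 6, pt ((sixBase b).getD i 0) ∈ ofMask (listMask (sixBase b)) := by decide +kernel
      exact this b i
    · rw [Finset.card_smul_finset, Finset.card_image_of_injective _ x.injective]
      have : ∀ b : Bool, (ofMask (listMask (sixBase b))).card ≤ (Finset.univ : Finset (Fin 6)).card := by decide +kernel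
      exact this b
  rw [hE', card_fixM_smul hσ, fixM_eq_fixL ((show ∀ b : Bool, ∀ i ∈ sixBase b, i < 24 by decide +kernel) b)]
  cases b
  · exact card_fix_six_out
  · show Nat.card (fixL M24 [0, 1, 2, 3, 4, 7]) = 16
    rw [show [0, 1, 2, 3, 4, 7] = chainBase.take 6 by decide +kernel, card_fixL genH_le le_rfl 6 (by norm_num)]
    rfl

end Cfsg.Agent.Spor
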