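/-
Certificate for the action of a point stabiliser inside a dodecad stabiliser on outside triples.
-/
import Cfsg.Agent.Lib.Spor.GolayOrbits

set_option autoImplicit false
set_option maxRecDepth 100000

namespace Cfsg.Agent.Spor

/-- the twelve points outside the standard dodecad -/
def dodOutside : List ℕ := [7, 11, 12, 13, 14, 16, 18, 19, 20, 21, 22, 23]

/-- ordered triples of distinct points outside the standard dodecad -/
def dodTriples : List (ℕ × ℕ × ℕ) :=
  dodOutside.flatMap fun i => dodOutside.flatMap fun j =>
    (dodOutside.filter fun k => !(i == j) && !(i == k) && !(j == k)).map fun k => (i, j, k)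

/-- the test for an ordered triple -/
def tripleTest (f : ℕ → ℕ) (t : ℕ × ℕ × ℕ) : Bool :=
  (f (1 <<< 7) == 1 <<< t.1) && (f (1 <<< 11) == 1 <<< t.2.1) && (f (1 <<< 12) == 1 <<< t.2.2)

theorem dodPointStabGens_ok : stabGens baseDod dodPointStabGens = true ∧
    ∀ g ∈ dodPointStabGens, g.getD 0 0 = 0 := by decide +kernel

theorem dodTriple_cover : cover tripleTest dodPointStabGens dodTriples dodTripleWords = true := by
  decide +kernel

end Cfsg.Agent.Spor
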