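/-
Counting octads and dodecads by their intersection with a given octad or dodecad.
-/
import Cfsg.Agent.Lib.Spor.GolayOctadFix
import Cfsg.Agent.Lib.Spor.GolayTripleCert

set_option autoImplicit false
set_option maxRecDepth 100000

namespace Cfsg.Agent.Spor

open scoped Pointwise

theorem ncard_class {T : Set (Finset GolayPt)} {σ : Equiv.Perm GolayPt}
    (hinv : ∀ s, σ • s ∈ T ↔ s ∈ T) (b : Finset GolayPt) (k : ℕ) :
    {s | s ∈ T ∧ (s ∩ σ • b).card = k}.ncard = {s | s ∈ T ∧ (s ∩ b).card = k}.ncard := by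
  have e : {s | s ∈ T ∧ (s ∩ σ • b).card = k} = (fun s => σ • s) '' {s | s ∈ T ∧ (s ∩ b).card = k} := by
    ext s
    constructor
    · rintro ⟨h1, h2⟩
      refine ⟨σ⁻¹ • s, ⟨?_, ?_⟩, smul_inv_smul σ s⟩
      · rw [← hinv, smul_inv_smul]; exact h1
      · rw [← Finset.card_smul_finset σ, Finset.smul_finset_inter, smul_inv_smul]; exact h2
    · rintro ⟨t, ⟨h1, h2⟩, rfl⟩
      exact ⟨(hinv t).2 h1, by rw [← Finset.smul_finset_inter, Finset.card_smul_finset]; exact h2⟩
  rw [e, Set.ncard_image_of_injective _ (MulAction.injective σ)]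

theorem ncard_class_base {T : Set (Finset GolayPt)} {l : List ℕ} (hl : l.Nodup)
    (hlt : ∀ m ∈ l, m < 2 ^ 24) (hT : ∀ s, s ∈ T ↔ mask s ∈ l) {b : ℕ} (hb : b < 2 ^ 24) (k : ℕ) :
    {s | s ∈ T ∧ (s ∩ ofMask b).card = k}.ncard = (l.filter fun m => pc (m &&& b) == k).length := by
  refine ncard_of_masks (hl.filter _) (fun m hm => hlt m (List.mem_filter.1 hm).1) fun s => ?_
  show s ∈ T ∧ (s ∩ ofMask b).card = k ↔ _
  rw [List.mem_filter, beq_iff_eq, hT, ← pc_mask, mask_inter, mask_ofMask hb]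

theorem ncard_octads_meeting {d : Finset GolayPt} (hd : d ∈ dodecads) :
    {o | o ∈ octads ∧ (o ∩ d).card = 6}.ncard = 132 ∧ {o | o ∈ octads ∧ (o ∩ d).card = 2}.ncard = 132 ∧
      {o | o ∈ octads ∧ (o ∩ d).card = 4}.ncard = 495 := by
  obtain ⟨σ, hσ, rfl⟩ := exists_base_dodecad hd
  simp only [ncard_class (fun _ => smul_octad_iff hσ),
    ncard_class_base octMasks_nodup (fun _ => octMasks_lt) (fun _ => mem_octads) baseDod_lt]
  decide +kernel

theorem dodMasks_sizes : ∀ t ∈ dodMasks, t = baseDod ∨ pc (t &&& baseDod) = 0 ∨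
    pc (t &&& baseDod) = 4 ∨ pc (t &&& baseDod) = 6 ∨ pc (t &&& baseDod) = 8 := by
  decide +kernel

theorem ncard_dodecads_meeting {d : Finset GolayPt} (hd : d ∈ dodecads) :
    {d' | d' ∈ dodecads ∧ (d' ∩ d).card = 4}.ncard = 495 ∧
      {d' | d' ∈ dodecads ∧ (d' ∩ d).card = 6}.ncard = 1584 ∧
      {d' | d' ∈ dodecads ∧ (d' ∩ d).card = 8}.ncard = 495 := by
  obtain ⟨σ, hσ, rfl⟩ := exists_base_dodecad hd
  simp only [ncard_class (fun _ => smul_dodecad_iff hσ),
    ncard_class_base dodMasks_nodup (fun _ => dodMasks_lt) (fun _ => mem_dodecads) baseDod_lt]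
  decide +kernel

theorem dodecad_inter_sizes {d d' : Finset GolayPt} (hd : d ∈ dodecads) (hd' : d' ∈ dodecads)
    (hne : d' ≠ d) : (d ∩ d').card = 0 ∨ (d ∩ d').card = 4 ∨ (d ∩ d').card = 6 ∨ (d ∩ d').card = 8 := by
  obtain ⟨σ, hσ, rfl⟩ := exists_base_dodecad hd
  have hb : mask (ofMask baseDod) = baseDod := mask_ofMask baseDod_lt
  have h : (σ • ofMask baseDod ∩ d').card = pc (mask (σ⁻¹ • d') &&& baseDod) := by
    conv_rhs => rw [← hb, ← mask_inter, pc_mask]
    rw [Finset.inter_comm, ← Finset.card_smul_finset σ (σ⁻¹ • d' ∩ _), Finset.smul_finset_inter,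
      smul_inv_smul]
  rw [h]
  rcases dodMasks_sizes _ (mem_dodecads.1 (smul_dodecad (inv_mem hσ) hd')) with e | e
  · exact absurd (inv_smul_eq_iff.1 (mask_injective (e.trans hb.symm))) hne
  · exact e

/-- masks of the subsets of the base octad -/
def subOctad : List ℕ := xorSpan [1, 2, 4, 8, 16, 128, 1024, 4096]

theorem octad_sub_count_base : ∀ n ∈ subOctad,
    (pc n = 2 → (octMasks.filter fun m => 5279 &&& m == n).length = 16) ∧
      (pc n = 4 → (octMasks.filter fun m => 5279 &&& m == n).length = 4) := by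
  decide +kernel

theorem mem_subOctad {t : Finset GolayPt} : t ⊆ ofMask 5279 → mask t ∈ subOctad := by
  induction t using Finset.induction_on with
  | empty => intro _; decide +kernel
  | insert a s ha ih =>
      intro h
      obtain ⟨h1, h2⟩ := Finset.insert_subset_iff.1 h
      have hsing : ∀ q : GolayPt, q ∈ ofMask 5279 → mask ({q} : Finset GolayPt) ∈ subOctad := by
        decide +kernel
      have e : insert a s = symmDiff ({a} : Finset GolayPt) s := by
        rw [(Finset.disjoint_singleton_left.2 ha).symmDiff_eq_sup, Finset.sup_eq_union,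
          Finset.insert_eq]
      rw [e, mask_symmDiff]
      exact xorSpan_xor (hsing a h1) (ih h2)

theorem octad_sub_count {o s : Finset GolayPt} (ho : o ∈ octads) (hs : s ⊆ o) :
    (s.card = 2 → {o' | o' ∈ octads ∧ o ∩ o' = s}.ncard = 16) ∧
      (s.card = 4 → {o' | o' ∈ octads ∧ o ∩ o' = s}.ncard = 4) := by
  obtain ⟨σ, hσ, rfl⟩ := octad_map o ho
  set t := σ⁻¹ • s with ht
  have hts : t ⊆ ofMask 5279 := by
    rw [← Finset.smul_finset_subset_smul_finset_iff (a := σ), ht, smul_inv_smul]; exact hs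
  have e : {o' | o' ∈ octads ∧ σ • ofMask 5279 ∩ o' = s} =
      (fun x => σ • x) '' {o' | o' ∈ octads ∧ ofMask 5279 ∩ o' = t} := by
    ext x
    constructor
    · rintro ⟨h1, h2⟩
      refine ⟨σ⁻¹ • x, ⟨smul_octad (inv_mem hσ) h1, ?_⟩, smul_inv_smul σ x⟩
      rw [ht, ← h2, Finset.smul_finset_inter, inv_smul_smul]
    · rintro ⟨y, ⟨h1, h2⟩, rfl⟩
      exact ⟨smul_octad hσ h1, by rw [← Finset.smul_finset_inter, h2, ht, smul_inv_smul]⟩
  have hn : {o' | o' ∈ octads ∧ ofMask 5279 ∩ o' = t}.ncard =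
      (octMasks.filter fun m => 5279 &&& m == mask t).length := by
    refine ncard_of_masks (octMasks_nodup.filter _) (fun m hm => octMasks_lt (List.mem_filter.1 hm).1)
      fun x => ?_
    show x ∈ octads ∧ ofMask 5279 ∩ x = t ↔ _
    rw [List.mem_filter, beq_iff_eq, mem_octads, ← mask_injective.eq_iff, mask_inter,
      mask_ofMask (show (5279 : ℕ) < 2 ^ 24 by norm_num)]
  rw [e, Set.ncard_image_of_injective _ (MulAction.injective σ), hn]
  have hc : t.card = s.card := Finset.card_smul_finset _ _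
  rw [← hc]
  rw [← pc_mask]
  exact octad_sub_count_base (mask t) (mem_subOctad hts)

theorem card_stab_dodecad_point {d : Finset GolayPt} (hd : d ∈ dodecads) {p : GolayPt} (hp : p ∈ d) :
    Nat.card ↥(MulAction.stabilizer M24 d ⊓ MulAction.stabilizer M24 p) = 7920 := by
  set S := MulAction.stabilizer M24 d with hS
  have horb : MulAction.orbit S p = (d : Set GolayPt) := by
    ext q
    constructor
    · rintro ⟨g, rfl⟩
      have h : ((g : M24) : Equiv.Perm GolayPt) • d = d := g.2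
      exact h ▸ Finset.smul_mem_smul_finset hp
    · intro hq
      have mk : ∀ a ∈ d, ∃ x : Fin 5 ↪ GolayPt, (∀ i, x i ∈ d) ∧ x 0 = a := by
        intro a ha
        obtain ⟨t, htd, htc⟩ := Finset.exists_subset_card_eq (s := d.erase a) (n := 4)
          (by rw [Finset.card_erase_of_mem ha, hd.2]; norm_num)
        let v : Fin 4 → GolayPt := fun i => (t.equivFinOfCardEq htc).symm i
        have hv : Function.Injective v := Subtype.val_injective.comp (Equiv.injective _)
        have hva : ∀ i, v i ∈ d.erase a := fun i => htd ((t.equivFinOfCardEq htc).symm i).2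
        refine ⟨⟨Fin.cons a v, Fin.cons_injective_iff.2 ⟨?_, hv⟩⟩, fun i => ?_, rfl⟩
        · rintro ⟨i, hi⟩
          exact (Finset.mem_erase.1 (hva i)).1 hi
        · refine Fin.cases ha (fun j => ?_) i
          exact (Finset.mem_erase.1 (hva j)).2
      obtain ⟨x, hx, hx0⟩ := mk p hp
      obtain ⟨y, hy, hy0⟩ := mk q hq
      obtain ⟨g, hg, -⟩ := dodecad_five_trans hd x y hx hy
      exact ⟨g, by rw [← hx0, ← hy0]; exact hg 0⟩
  have h := Subgroup.card_mul_index (MulAction.stabilizer S p)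
  rw [MulAction.index_stabilizer, horb, Set.ncard_coe_finset, hd.2, card_stab_dodecad hd] at h
  have e : Nat.card (MulAction.stabilizer S p) = Nat.card ↥(S ⊓ MulAction.stabilizer M24 p) :=
    Nat.card_congr
      { toFun := fun g => ⟨g.1.1, g.1.2, g.2⟩
        invFun := fun g => ⟨⟨g.1, g.2.1⟩, g.2.2⟩
        left_inv := fun _ => rfl
        right_inv := fun _ => rfl }
  omega

theorem dodecad_point_three_trans {d : Finset GolayPt} (hd : d ∈ dodecads) {p : GolayPt} (hp : p ∈ d)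
    (x y : Fin 3 ↪ GolayPt) (hx : ∀ i, x i ∉ d) (hy : ∀ i, y i ∉ d) :
    ∃ g ∈ MulAction.stabilizer M24 d ⊓ MulAction.stabilizer M24 p,
      ∀ i, (g : Equiv.Perm GolayPt) (x i) = y i := by
  obtain ⟨σ, hσ, rfl⟩ := exists_base_dodecad hd
  -- move `p` to the point numbered 0
  obtain ⟨ρ, hρ, hρd, hρp⟩ : ∃ ρ ∈ M24, ρ • ofMask baseDod = σ • ofMask baseDod ∧ ρ (pt 0) = p := by
    have h0 : σ (pt 0) ∈ σ • ofMask baseDod := Finset.smul_mem_smul_finset (by decide +kernel)
    have mk : ∀ a ∈ σ • ofMask baseDod, ∃ v : Fin 5 ↪ GolayPt, (∀ i, v i ∈ σ • ofMask baseDod) ∧ v 0 = a := by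
      intro a ha
      obtain ⟨t, htd, htc⟩ := Finset.exists_subset_card_eq (s := (σ • ofMask baseDod).erase a) (n := 4)
        (by rw [Finset.card_erase_of_mem ha, hd.2]; norm_num)
      let v : Fin 4 → GolayPt := fun i => (t.equivFinOfCardEq htc).symm i
      have hv : Function.Injective v := Subtype.val_injective.comp (Equiv.injective _)
      have hva : ∀ i, v i ∈ (σ • ofMask baseDod).erase a := fun i => htd ((t.equivFinOfCardEq htc).symm i).2
      refine ⟨⟨Fin.cons a v, Fin.cons_injective_iff.2 ⟨?_, hv⟩⟩, fun i => ?_, rfl⟩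
      · rintro ⟨i, hi⟩
        exact (Finset.mem_erase.1 (hva i)).1 hi
      · refine Fin.cases ha (fun j => ?_) i
        exact (Finset.mem_erase.1 (hva j)).2
    obtain ⟨u, hu, hu0⟩ := mk _ h0
    obtain ⟨w, hw, hw0⟩ := mk _ hp
    obtain ⟨g, hg, -⟩ := dodecad_five_trans hd u w hu hw
    refine ⟨((g : M24) : Equiv.Perm GolayPt) * σ, mul_mem (g : M24).2 hσ, ?_, ?_⟩
    · rw [mul_smul]; exact g.2
    · rw [Equiv.Perm.mul_apply, ← hu0, hg 0, hw0]
  rw [← hρd] at hx hy ⊢
  subst hρp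
  set H : Subgroup (Equiv.Perm GolayPt) :=
    stabM (ofMask baseDod) ⊓ MulAction.stabilizer (Equiv.Perm GolayPt) (pt 0) with hH
  have key : ∀ z : Fin 3 ↪ GolayPt, (∀ i, z i ∉ ρ • ofMask baseDod) →
      ∃ τ ∈ H, ∀ i : Fin 3, ρ (τ (pt ([7, 11, 12].getD i 0))) = z i := by
    intro z hz
    obtain ⟨hgs, hfix⟩ := dodPointStabGens_ok
    obtain ⟨hne, hok, hL⟩ := stabGens_sound baseDod_lt hgs
    have hL' : ∀ g ∈ dodPointStabGens, lperm g ∈ H := by
      intro g hg
      refine ⟨hL g hg, ?_⟩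
      show lperm g (pt 0) = pt 0
      rw [lperm_apply (List.all_eq_true.1 hok g hg), idx_pt 0 (by norm_num), hfix g hg]
    have hout : ∀ i, ρ⁻¹ (z i) ∉ ofMask baseDod := fun i hin => hz i (by
      have := Finset.smul_mem_smul_finset (a := ρ) hin
      simpa using this)
    have hmem : ∀ a b c : GolayPt, a ∉ ofMask baseDod → b ∉ ofMask baseDod → c ∉ ofMask baseDod →
        a ≠ b → a ≠ c → b ≠ c → (idx a, idx b, idx c) ∈ dodTriples := by
      have hl : ∀ a : GolayPt, a ∉ ofMask baseDod → idx a ∈ dodOutside := by decide +kernel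
      intro a b c ha hb hc hab hac hbc
      simp only [dodTriples, List.mem_flatMap, List.mem_map, List.mem_filter, Bool.and_eq_true,
        Bool.not_eq_true', beq_eq_false_iff_ne]
      exact ⟨_, hl a ha, _, hl b hb, _, ⟨hl c hc, ⟨fun h => hab (idx_injective h),
        fun h => hac (idx_injective h)⟩, fun h => hbc (idx_injective h)⟩, rfl⟩
    have hdist : ∀ i j, i ≠ j → ρ⁻¹ (z i) ≠ ρ⁻¹ (z j) := fun i j h e =>
      h (z.injective ((ρ⁻¹).injective e))
    obtain ⟨τ, hτ, f, hf, ht⟩ := cover_sound hne hok hL' dodTriple_cover _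
      (hmem _ _ _ (hout 0) (hout 1) (hout 2) (hdist 0 1 (by decide)) (hdist 0 2 (by decide))
        (hdist 1 2 (by decide)))
    simp only [tripleTest, Bool.and_eq_true, beq_iff_eq] at ht
    refine ⟨τ, hτ, ?_⟩
    have single : ∀ (a : ℕ) (q : GolayPt), a < 24 → f (1 <<< a) = 1 <<< idx q → τ (pt a) = q := by
      intro a q ha he
      have h1 : ∀ r : GolayPt, mask ({r} : Finset GolayPt) = 1 <<< idx r := by decide +kernel
      have h2 := hf {pt a}
      rw [h1, idx_pt a ha, he, ← h1, Finset.smul_finset_singleton] at h2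
      exact Finset.singleton_injective (mask_injective h2)
    intro i
    fin_cases i
    · simp [single 7 _ (by norm_num) ht.1.1]
    · simp [single 11 _ (by norm_num) ht.1.2]
    · simp [single 12 _ (by norm_num) ht.2]
  obtain ⟨τ, hτ, hτx⟩ := key x hx
  obtain ⟨τ', hτ', hτy⟩ := key y hy
  have hmem : τ' * τ⁻¹ ∈ H := mul_mem hτ' (inv_mem hτ)
  obtain ⟨⟨hM, hd'⟩, hp'⟩ := hmem
  refine ⟨⟨ρ * (τ' * τ⁻¹) * ρ⁻¹, mul_mem (mul_mem hρ hM) (inv_mem hρ)⟩, ⟨?_, ?_⟩, fun i => ?_⟩
  · show (ρ * (τ' * τ⁻¹) * ρ⁻¹) • ρ • ofMask baseDod = ρ • ofMask baseDod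
    rw [mul_smul, inv_smul_smul, mul_smul, MulAction.mem_stabilizer_iff.1 hd']
  · show (ρ * (τ' * τ⁻¹) * ρ⁻¹) (ρ (pt 0)) = ρ (pt 0)
    rw [Equiv.Perm.mul_apply, Equiv.Perm.mul_apply]
    show ρ ((τ' * τ⁻¹) (ρ.symm (ρ (pt 0)))) = ρ (pt 0)
    rw [Equiv.symm_apply_apply]
    exact congrArg ρ hp'
  · show (ρ * (τ' * τ⁻¹) * ρ⁻¹) (x i) = y i
    rw [← hτx i, ← hτy i]
    simp [mul_assoc]

end Cfsg.Agent.Spor
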