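import Mathlib
import Cfsg.Agent.Lib.Perm.Primitive

/-!
Simplicity criteria for small permutation groups.
-/

set_option autoImplicit false

namespace Cfsg.Agent.Spor

open MulAction Subgroup

variable {G : Type*} [Group G] [Finite G] {Ω : Type*} [MulAction G Ω] [FaithfulSMul G Ω]

omit [Finite G] in
theorem card_dvd_of_transitive (N : Subgroup G) [IsPretransitive N Ω] [Nonempty Ω] :
    Nat.card Ω ∣ Nat.card N := by
  obtain ⟨ω⟩ := ‹Nonempty Ω›
  rw [← index_stabilizer_of_transitive N ω]
  exact Subgroup.index_dvd_card _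

/-- A subgroup of prime order acting on that many points contains its centraliser. -/
theorem centralizer_le_of_prime_transitive [Finite Ω] {p : ℕ} [Fact p.Prime] {P : Subgroup G}
    (hP : Nat.card P = p) (hΩ : Nat.card Ω = p) : Subgroup.centralizer (P : Set G) ≤ P := by
  have hne : P ≠ ⊥ := fun h => by
    rw [h, Subgroup.card_bot] at hP; exact (Fact.out : p.Prime).ne_one hP.symm
  obtain ⟨m, hm, hm1⟩ := P.ne_bot_iff_exists_ne_one.1 hne |> fun ⟨x, hx⟩ =>
    (⟨(x : G), x.2, fun h => hx (Subtype.ext h)⟩ : ∃ m, m ∈ P ∧ m ≠ 1)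
  obtain ⟨ω, hω⟩ : ∃ ω : Ω, m • ω ≠ ω := by
    by_contra h
    push_neg at h
    exact hm1 (FaithfulSMul.eq_of_smul_eq_smul (α := Ω) fun x => by rw [h x, one_smul])
  have horb : (orbit P ω).ncard = p := by
    have h1 : (orbit P ω).ncard ∣ p := by
      rw [← hP, ← index_stabilizer P ω]; exact Subgroup.index_dvd_card _
    refine ((Fact.out : p.Prime).eq_one_or_self_of_dvd _ h1).resolve_left fun h => hω ?_
    obtain ⟨a, ha⟩ := Set.ncard_eq_one.1 h
    have e1 : ω ∈ orbit P ω := mem_orbit_self ω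
    have e2 : m • ω ∈ orbit P ω := ⟨⟨m, hm⟩, rfl⟩
    rw [ha] at e1 e2
    exact e2.trans e1.symm
  have huniv : orbit P ω = Set.univ :=
    Set.eq_univ_iff_ncard _ |>.2 (horb.trans hΩ.symm)
  haveI : IsPretransitive P Ω := ⟨fun a b => by
    obtain ⟨u, hu⟩ : a ∈ orbit P ω := huniv ▸ Set.mem_univ a
    obtain ⟨v, hv⟩ : b ∈ orbit P ω := huniv ▸ Set.mem_univ b
    exact ⟨v * u⁻¹, by rw [← hu, mul_smul, inv_smul_smul]; exact hv⟩⟩
  intro c hc
  obtain ⟨x, hx⟩ := exists_smul_eq P ω (c • ω)
  haveI : IsCyclic P := isCyclic_of_prime_card hP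
  have hxc : (x : G) ∈ Subgroup.centralizer (P : Set G) := by
    refine Subgroup.mem_centralizer_iff.2 fun y hy => ?_
    letI := IsCyclic.commGroup (α := P)
    exact congrArg Subtype.val (mul_comm (⟨y, hy⟩ : P) x)
  have h1 : (x : G)⁻¹ * c = 1 :=
    Cfsg.Agent.Perm.eq_one_of_centralizes (M := P) (mul_mem (inv_mem hxc) hc)
      (ω := ω) (by rw [mul_smul, ← hx]; exact inv_smul_smul (x : G) ω)
  rw [inv_mul_eq_one] at h1
  exact h1 ▸ x.2

omit [MulAction G Ω] [FaithfulSMul G Ω] in
theorem normalizer_card_of_prime_sylow {p : ℕ} [Fact p.Prime] (Q : Sylow p G)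
    (hQ : Nat.card Q = p) (hC : Subgroup.centralizer ((Q : Subgroup G) : Set G) ≤ (Q : Subgroup G)) :
    ∃ k, Nat.card (Subgroup.normalizer ((Q : Subgroup G) : Set G)) = p * k ∧ k ∣ p - 1 ∧
      p * k ∣ Nat.card G ∧ (Nat.card G / (p * k)) % p = 1 := by
  set M := Subgroup.normalizer ((Q : Subgroup G) : Set G) with hM
  have hQM : (Q : Subgroup G) ≤ M := Subgroup.le_normalizer
  haveI : IsCyclic (Q : Subgroup G) := isCyclic_of_prime_card hQ
  have hCQ : Subgroup.centralizer ((Q : Subgroup G) : Set G) = (Q : Subgroup G) := by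
    refine le_antisymm hC fun x hx => Subgroup.mem_centralizer_iff.2 fun y hy => ?_
    letI := IsCyclic.commGroup (α := (Q : Subgroup G))
    exact congrArg Subtype.val (mul_comm (⟨y, hy⟩ : (Q : Subgroup G)) ⟨x, hx⟩)
  have hcardM : Nat.card M = p * ((Q : Subgroup G).subgroupOf M).index := by
    rw [← Subgroup.card_mul_index ((Q : Subgroup G).subgroupOf M),
      Nat.card_congr (Subgroup.subgroupOfEquivOfLe hQM).toEquiv,
      show Nat.card (Q : Subgroup G) = p from hQ]
  refine ⟨((Q : Subgroup G).subgroupOf M).index, hcardM, ?_, ?_, ?_⟩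
  · have h1 : Nat.card (Subgroup.normalizerMonoidHom (Q : Subgroup G)).range
        ∣ Nat.card (MulAut (Q : Subgroup G)) := Subgroup.card_subgroup_dvd_card _
    rw [IsCyclic.card_mulAut, show Nat.card (Q : Subgroup G) = p from hQ,
      Nat.totient_prime Fact.out] at h1
    rw [← Subgroup.index_ker, Subgroup.normalizerMonoidHom_ker, hCQ] at h1
    exact h1
  · rw [← hcardM]
    exact Subgroup.card_subgroup_dvd_card _
  · have h2 := card_sylow_modEq_one p G
    rw [Q.card_eq_index_normalizer] at h2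
    rw [← hcardM, ← Subgroup.card_mul_index M, Nat.mul_div_cancel_left _ Nat.card_pos]
    exact Eq.trans h2 (Nat.one_mod_eq_one.2 (Fact.out : p.Prime).ne_one)

/-- A primitive group with a self-centralising Sylow subgroup of prime order whose automiser
has prime order is simple. -/
theorem isSimpleGroup_of_prime_sylow [Finite Ω] [Nonempty Ω] [IsPreprimitive G Ω] {p : ℕ}
    [Fact p.Prime] (hpΩ : p ∣ Nat.card Ω) (hp1 : p ∣ Nat.card G) (hp2 : ¬ p * p ∣ Nat.card G)
    (hC : ∀ P : Subgroup G, Nat.card P = p → Subgroup.centralizer (P : Set G) ≤ P) {k₀ : ℕ}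
    (hk₀ : k₀.Prime)
    (hk : ∀ k, k ∣ p - 1 → p * k ∣ Nat.card G → (Nat.card G / (p * k)) % p = 1 → k = k₀)
    (hbig : p * k₀ < Nat.card G) : IsSimpleGroup G := by
  have hp : p.Prime := Fact.out
  haveI : Nontrivial G := Finite.one_lt_card_iff_nontrivial.1 (by
    have := hp.two_le; have := hk₀.two_le; nlinarith)
  have hfac : (Nat.card G).factorization p = 1 := by
    have h1 : 1 ≤ (Nat.card G).factorization p :=
      (hp.pow_dvd_iff_le_factorization Nat.card_pos.ne').1 (by rwa [pow_one])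
    have h2 : ¬ 2 ≤ (Nat.card G).factorization p := fun h =>
      hp2 (by rw [← pow_two]; exact (hp.pow_dvd_iff_le_factorization Nat.card_pos.ne').2 h)
    omega
  refine ⟨fun N hN => ?_⟩
  haveI := hN
  by_contra hcon
  push_neg at hcon
  obtain ⟨hN1, hN2⟩ := hcon
  have trans_dvd : ∀ L : Subgroup G, L.Normal → L ≠ ⊥ → p ∣ Nat.card L := by
    intro L hL hL1
    haveI := hL
    haveI := Cfsg.Agent.Perm.normal_isPretransitive (Ω := Ω) L hL1
    exact hpΩ.trans (card_dvd_of_transitive L)
  obtain ⟨x, hx⟩ := exists_prime_orderOf_dvd_card' p (trans_dvd N hN hN1)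
  have hQc : Nat.card (Subgroup.zpowers (x : G)) = p ^ (Nat.card G).factorization p := by
    rw [hfac, pow_one, Nat.card_zpowers, Subgroup.orderOf_coe, hx]
  set Q : Sylow p G := Sylow.ofCard _ hQc with hQdef
  have hQ : Nat.card Q = p := by
    show Nat.card (Subgroup.zpowers (x : G)) = p
    rw [hQc, hfac, pow_one]
  have hQN : (Q : Subgroup G) ≤ N := Subgroup.zpowers_le.2 x.2
  obtain ⟨k, hkM, hk1, hk2, hk3⟩ := normalizer_card_of_prime_sylow Q hQ (hC _ hQ)
  obtain rfl := hk k hk1 hk2 hk3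
  set M := Subgroup.normalizer ((Q : Subgroup G) : Set G) with hM
  have hQM : (Q : Subgroup G) ≤ M := Subgroup.le_normalizer
  have hfr : M ⊔ N = ⊤ := Q.normalizer_sup_eq_top' hQN
  have hidx : N.index * Nat.card (N.subgroupOf M) = p * k := by
    rw [← hkM, ← Subgroup.card_mul_index (N.subgroupOf M), mul_comm]
    congr 1
    show N.index = N.relIndex M
    rw [← Subgroup.relIndex_sup_right (H := M), hfr, Subgroup.relIndex_top_right]
  have hpd : p ∣ Nat.card (N.subgroupOf M) := by
    rw [← hQ, show Nat.card Q = Nat.card ((Q : Subgroup G).subgroupOf M) from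
      (Nat.card_congr (Subgroup.subgroupOfEquivOfLe hQM).toEquiv).symm]
    exact Subgroup.card_dvd_of_le fun y hy => hQN hy
  obtain ⟨j, hj⟩ := hpd
  rw [hj, mul_left_comm] at hidx
  have hjk : N.index * j = k := mul_left_cancel₀ hp.ne_zero hidx
  have hj1 : j = 1 := by
    rcases (Nat.prime_mul_iff.1 (hjk ▸ hk₀)) with ⟨-, h⟩ | ⟨-, h⟩
    · exact h
    · exact absurd (Subgroup.index_eq_one.1 h) hN2
  rw [hj1, mul_one] at hj
  -- so the normalizer meets N in Q, and Burnside gives a normal p-complement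
  have hNM : ∀ y, y ∈ N → y ∈ M → y ∈ (Q : Subgroup G) := by
    intro y hyN hyM
    have heq : (Q : Subgroup G).subgroupOf M = N.subgroupOf M :=
      Subgroup.eq_of_le_of_card_ge (fun z hz => hQN hz)
        (le_of_eq (by rw [hj, Nat.card_congr (Subgroup.subgroupOfEquivOfLe hQM).toEquiv]
                      exact hQ.symm))
    have : (⟨y, hyM⟩ : M) ∈ (Q : Subgroup G).subgroupOf M := heq ▸ hyN
    exact this
  set R : Sylow p N := Q.subtype hQN with hR
  have hRc : Subgroup.normalizer ((R : Subgroup N) : Set N)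
      ≤ Subgroup.centralizer ((R : Subgroup N) : Set N) := by
    intro y hy
    have hyM : (y : G) ∈ M := by
      rw [hM, Subgroup.mem_normalizer_iff]
      intro z
      constructor
      · intro hz
        exact (Subgroup.mem_normalizer_iff.1 hy ⟨z, hQN hz⟩).1 hz
      · intro hz
        have hzN : z ∈ N := by
          have h2 := hN.conj_mem _ (hQN hz) (y : G)⁻¹
          simpa [mul_assoc] using h2
        exact (Subgroup.mem_normalizer_iff.1 hy ⟨z, hzN⟩).2 hz
    have hyQ : (y : G) ∈ (Q : Subgroup G) := hNM _ y.2 hyM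
    haveI : IsCyclic (Q : Subgroup G) := isCyclic_of_prime_card hQ
    refine Subgroup.mem_centralizer_iff.2 fun z hz => ?_
    letI := IsCyclic.commGroup (α := (Q : Subgroup G))
    have := mul_comm (⟨(z : G), hz⟩ : (Q : Subgroup G)) ⟨(y : G), hyQ⟩
    exact Subtype.ext (congrArg (fun w : (Q : Subgroup G) => (w : G)) this :)
  set K := (MonoidHom.transferSylow R hRc).ker with hK
  have hcompl : K.IsComplement' (R : Subgroup N) :=
    MonoidHom.ker_transferSylow_isComplement' R hRc
  have hKp : ¬ p ∣ Nat.card K := MonoidHom.not_dvd_card_ker_transferSylow R hRc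
  have hKi : K.index = p := by
    rw [hcompl.symm.index_eq_card,
      show Nat.card (R : Subgroup N) = Nat.card ((Q : Subgroup G).subgroupOf N) from rfl,
      Nat.card_congr (Subgroup.subgroupOfEquivOfLe hQN).toEquiv]
    exact hQ
  have hKmem : ∀ y : N, y ∈ K ↔ y ^ Nat.card K = 1 := by
    intro y
    refine ⟨fun hy => ?_, fun hy => ?_⟩
    · exact orderOf_dvd_iff_pow_eq_one.1 (Subgroup.orderOf_dvd_natCard K hy)
    · rw [← QuotientGroup.eq_one_iff, ← orderOf_eq_one_iff]
      have h1 : orderOf (y : N ⧸ K) ∣ Nat.card K := by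
        refine orderOf_dvd_of_pow_eq_one ?_
        rw [← QuotientGroup.mk_pow, hy]; rfl
      have h2 : orderOf (y : N ⧸ K) ∣ p :=
        (orderOf_dvd_natCard (y : N ⧸ K)).trans (dvd_of_eq hKi)
      rcases hp.eq_one_or_self_of_dvd _ h2 with h | h
      · exact h
      · exact absurd (h ▸ h1) hKp
  have hKn : (K.map N.subtype).Normal := by
    refine ⟨?_⟩
    rintro _ ⟨y, hy, rfl⟩ g
    refine ⟨⟨g * y * g⁻¹, hN.conj_mem _ y.2 g⟩, (hKmem _).2 (Subtype.ext ?_), rfl⟩
    have := congrArg Subtype.val ((hKmem y).1 hy)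
    push_cast [conj_pow]
    simp only [SubgroupClass.coe_pow, OneMemClass.coe_one] at this
    rw [this]; simp
  by_cases hK1 : K.map N.subtype = ⊥
  · rw [Subgroup.map_eq_bot_iff_of_injective _ N.subtype_injective] at hK1
    rw [hK1, Subgroup.index_bot] at hKi
    have hNQ : N = (Q : Subgroup G) :=
      (Subgroup.eq_of_le_of_card_ge hQN (le_of_eq (hKi.trans hQ.symm))).symm
    have : M = ⊤ := by
      rw [hM, ← hNQ]
      exact Subgroup.normalizer_eq_top N
    rw [this, Subgroup.card_top] at hkM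
    omega
  · have h := trans_dvd _ hKn hK1
    rw [Subgroup.card_map_of_injective N.subtype_injective] at h
    exact hKp h

/-- A 2-transitive group of degree divisible by two different primes with simple point
stabiliser is simple. -/
theorem isSimpleGroup_of_simple_stabilizer [Finite Ω] [IsMultiplyPretransitive G Ω 2] (ω : Ω)
    [IsSimpleGroup (stabilizer G ω)] {q r : ℕ} [Fact q.Prime] [Fact r.Prime] (hqr : q ≠ r)
    (hq : q ∣ Nat.card Ω) (hr : r ∣ Nat.card Ω) : IsSimpleGroup G := by
  haveI : Nontrivial G := (stabilizer G ω).subtype_injective.nontrivial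
  haveI : IsPretransitive G Ω := isPretransitive_of_is_two_pretransitive
  haveI : IsPreprimitive G Ω := isPreprimitive_of_is_two_pretransitive inferInstance
  refine ⟨fun N hN => ?_⟩
  haveI := hN
  by_cases hN1 : N = ⊥
  · exact Or.inl hN1
  haveI := Cfsg.Agent.Perm.normal_isPretransitive (Ω := Ω) N hN1
  rcases IsSimpleGroup.eq_bot_or_eq_top_of_normal (N.subgroupOf (stabilizer G ω))
    inferInstance with h | h
  · exfalso
    haveI : Nonempty Ω := ⟨ω⟩
    obtain ⟨x, hx⟩ := exists_prime_orderOf_dvd_card' q (hq.trans (card_dvd_of_transitive N))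
    obtain ⟨y, hy⟩ := exists_prime_orderOf_dvd_card' r (hr.trans (card_dvd_of_transitive N))
    have hfix : ∀ n ∈ N, n • ω = ω → n = 1 := by
      intro n hn hnω
      have : (⟨n, hnω⟩ : stabilizer G ω) ∈ N.subgroupOf (stabilizer G ω) := hn
      rw [h, Subgroup.mem_bot] at this
      exact congrArg Subtype.val this
    have hmv : ∀ z : N, z ≠ 1 → (z : G) • ω ≠ ω := fun z hz hzω =>
      hz (Subtype.ext (hfix _ z.2 hzω))
    have hx1 : x ≠ 1 := fun h1 => by
      rw [h1, orderOf_one] at hx; exact (Fact.out : q.Prime).ne_one hx.symm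
    have hy1 : y ≠ 1 := fun h1 => by
      rw [h1, orderOf_one] at hy; exact (Fact.out : r.Prime).ne_one hy.symm
    obtain ⟨g, hg1, hg2⟩ := is_two_pretransitive_iff.1 ‹IsMultiplyPretransitive G Ω 2›
      (Ne.symm (hmv x hx1)) (Ne.symm (hmv y hy1))
    have hconj : g * x * g⁻¹ = (y : G) := by
      have h1 : ((y : G)⁻¹ * (g * x * g⁻¹)) • ω = ω := by
        rw [mul_smul, mul_smul, mul_smul, inv_smul_eq_iff.2 hg1.symm, hg2, inv_smul_smul]
      have := hfix _ (mul_mem (inv_mem y.2) (hN.conj_mem _ x.2 g)) h1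
      rw [inv_mul_eq_one] at this
      exact this.symm
    apply hqr
    rw [← hx, ← hy, ← Subgroup.orderOf_coe y, ← hconj, ← MulAut.conj_apply,
      MulEquiv.orderOf_eq, Subgroup.orderOf_coe]
  · refine Or.inr ((Subgroup.eq_top_iff' N).2 fun g => ?_)
    obtain ⟨n, hn⟩ := exists_smul_eq N ω (g • ω)
    have hmem : (n : G)⁻¹ * g ∈ stabilizer G ω := by
      rw [mem_stabilizer_iff, mul_smul, ← hn]; exact inv_smul_smul (n : G) ω
    have h2 : (⟨_, hmem⟩ : stabilizer G ω) ∈ N.subgroupOf (stabilizer G ω) :=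
      h ▸ Subgroup.mem_top _
    have h3 := mul_mem n.2 (Subgroup.mem_subgroupOf.1 h2)
    rwa [mul_inv_cancel_left] at h3

end Cfsg.Agent.Spor
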