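/-
Simplicity of the five Mathieu groups inside the automorphism group of the Golay code.
-/
import Cfsg.Agent.Lib.Spor.SimpleCriteria
import Cfsg.Agent.Lib.Spor.GolayStabCount
import Cfsg.Agent.Lib.Spor.GolaySix
import Cfsg.Agent.Lib.Spor.GolaySextet

set_option autoImplicit false
set_option maxRecDepth 100000

namespace Cfsg.Agent.Spor

open scoped Pointwise
open MulAction Cfsg

/-- Restriction of the action of a subgroup of M24 to an invariant set of points. -/
@[implicit_reducible]
def restrictAct (H : Subgroup M24) (s : GolayPt → Prop)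
    (hs : ∀ g : M24, g ∈ H → ∀ x, s x → s ((g : Equiv.Perm GolayPt) x)) :
    MulAction H {x // s x} where
  smul g x := ⟨((g : M24) : Equiv.Perm GolayPt) x.1, hs g.1 g.2 x.1 x.2⟩
  one_smul _ := rfl
  mul_smul _ _ _ := rfl

/-- An element of M24 fixing at least ten points is trivial. -/
theorem eq_one_of_fix_ten {g : Equiv.Perm GolayPt} (hg : g ∈ M24) {F : Finset GolayPt}
    (hF : 10 ≤ F.card) (hfix : ∀ p ∈ F, g p = p) : g = 1 := by
  have pw : ∀ E : Finset GolayPt, E ⊆ F → E.card = 6 →
      g ^ (if inSomeOctad E then 16 else 3) = 1 := by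
    intro E hEF hE
    have hm : g ∈ fixM E := mem_fixM.2 ⟨hg, fun p hp => hfix p (hEF hp)⟩
    rw [← card_fixM_six hE]
    exact orderOf_dvd_iff_pow_eq_one.1 (Subgroup.orderOf_dvd_natCard _ hm)
  -- six points outside any octad
  have h3 : g ^ 3 = 1 := by
    obtain ⟨t, htF, htc⟩ := Finset.exists_subset_card_eq (n := 5) (by omega : 5 ≤ F.card)
    obtain ⟨o, ⟨ho, hto⟩, huniq⟩ := octads_steiner.2 t htc
    obtain ⟨r, hr⟩ : (F \ o).Nonempty := by
      rw [← Finset.card_pos]
      have := Finset.le_card_sdiff o F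
      rw [ho.2] at this
      omega
    rw [Finset.mem_sdiff] at hr
    have := pw (insert r t) (Finset.insert_subset hr.1 htF)
      (by rw [Finset.card_insert_of_notMem (fun h => hr.2 (hto h)), htc])
    rwa [if_neg] at this
    rw [inSomeOctad_iff]
    rintro ⟨o', ho', hsub⟩
    obtain rfl := huniq o' ⟨ho', (Finset.subset_insert r t).trans hsub⟩
    exact hr.2 (hsub (Finset.mem_insert_self r t))
  -- six points inside an octad
  have h16 : g ^ 16 = 1 := by
    obtain ⟨t, htF, htc⟩ := Finset.exists_subset_card_eq (n := 4) (by omega : 4 ≤ F.card)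
    obtain ⟨S, ⟨hS, htS⟩, -⟩ := existsUnique_sextet htc
    obtain ⟨u, hu, hu2⟩ : ∃ u ∈ S.erase t, 2 ≤ (F ∩ u).card := by
      by_contra h
      push_neg at h
      have hsub : F ⊆ t ∪ (S.erase t).biUnion (fun u => F ∩ u) := by
        intro p hp
        obtain ⟨u, ⟨hu, hpu⟩, -⟩ := sextet_mem_unique hS p
        by_cases hut : u = t
        · exact Finset.mem_union_left _ (hut ▸ hpu)
        · exact Finset.mem_union_right _ (Finset.mem_biUnion.2
            ⟨u, Finset.mem_erase.2 ⟨hut, hu⟩, Finset.mem_inter.2 ⟨hp, hpu⟩⟩)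
      have h1 := (Finset.card_le_card hsub).trans (Finset.card_union_le _ _)
      have h2 : ((S.erase t).biUnion fun u => F ∩ u).card ≤ (S.erase t).card * 1 :=
        Finset.card_biUnion_le_card_mul _ _ 1 fun u hu => by have := h u hu; omega
      rw [Finset.card_erase_of_mem htS, hS.1] at h2
      omega
    rw [Finset.mem_erase] at hu
    obtain ⟨E', hE', hE'c⟩ := Finset.exists_subset_card_eq (n := 2) hu2
    have hdis : Disjoint t E' := by
      rw [Finset.disjoint_left]
      intro p hp hp'
      exact hu.1 ((sextet_mem_unique hS p).unique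
        ⟨hu.2, (Finset.mem_inter.1 (hE' hp')).2⟩ ⟨htS, hp⟩)
    have := pw (t ∪ E') (Finset.union_subset htF (hE'.trans Finset.inter_subset_left))
      (by rw [Finset.card_union_of_disjoint hdis, htc, hE'c])
    rwa [if_pos] at this
    rw [inSomeOctad_iff]
    exact ⟨t ∪ u, hS.2.2 t htS u hu.2 (Ne.symm hu.1),
      Finset.union_subset_union subset_rfl (hE'.trans Finset.inter_subset_right)⟩
  calc g = g ^ 16 * ((g ^ 3) ^ 5)⁻¹ := by group
    _ = 1 := by rw [h3, h16]; simp

/-! ### The dodecad stabiliser on its dodecad -/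

section dodecad

variable {d : Finset GolayPt}

theorem stab_d_maps {g : M24} (hg : g ∈ stabilizer M24 d) (x : GolayPt) (hx : x ∈ d) :
    (g : Equiv.Perm GolayPt) x ∈ d := by
  have h : (g : Equiv.Perm GolayPt) • d = d := hg
  exact h ▸ Finset.smul_mem_smul_finset hx

theorem M12_five_pretrans (hd : d ∈ dodecads) :
    letI := restrictAct (stabilizer M24 d) (· ∈ d) fun _ hg => stab_d_maps hg
    IsMultiplyPretransitive (stabilizer M24 d) {x // x ∈ d} 5 := by
  letI := restrictAct (stabilizer M24 d) (· ∈ d) fun _ hg => stab_d_maps hg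
  refine ⟨fun x y => ?_⟩
  obtain ⟨g, hg, -⟩ := dodecad_five_trans hd (x.trans (Function.Embedding.subtype _))
    (y.trans (Function.Embedding.subtype _)) (fun i => (x i).2) (fun i => (y i).2)
  exact ⟨g, DFunLike.ext _ _ fun i => Subtype.ext (hg i)⟩

theorem eq_one_of_fix_dodecad (hd : d ∈ dodecads) {g : M24} (hg : g ∈ stabilizer M24 d)
    (hfix : ∀ x ∈ d, (g : Equiv.Perm GolayPt) x = x) : g = 1 := by
  obtain ⟨e⟩ : Nonempty (Fin 5 ↪ {x // x ∈ d}) :=
    Function.Embedding.nonempty_of_card_le (by rw [Fintype.card_coe, hd.2]; simp)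
  exact Subtype.ext (dodecad_fix_five hd g.2 hg (e.trans (Function.Embedding.subtype _))
    (fun i => (e i).2) fun i => hfix _ (e i).2)

theorem simple_dodecad_point (hd : d ∈ dodecads) {p : GolayPt} (hp : p ∈ d) :
    IsSimpleGroup ↥(stabilizer M24 d ⊓ stabilizer M24 p) := by
  set H := stabilizer M24 d ⊓ stabilizer M24 p with hH
  letI := restrictAct H (fun x => x ∈ d ∧ x ≠ p) (fun g hg x hx =>
    ⟨stab_d_maps hg.1 x hx.1, fun h => hx.2 ((g : Equiv.Perm GolayPt).injective (h.trans hg.2.symm))⟩)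
  haveI : FaithfulSMul H {x // x ∈ d ∧ x ≠ p} := ⟨fun {g g'} h => by
    have h1 : ((g'⁻¹ * g : H) : M24) = 1 := by
      refine eq_one_of_fix_dodecad hd (g'⁻¹ * g : H).2.1 fun x hx => ?_
      by_cases hxp : x = p
      · subst hxp; exact (g'⁻¹ * g : H).2.2
      · show ((g' : M24) : Equiv.Perm GolayPt).symm (((g : M24) : Equiv.Perm GolayPt) x) = x
        rw [show ((g : M24) : Equiv.Perm GolayPt) x = ((g' : M24) : Equiv.Perm GolayPt) x from
          congrArg Subtype.val (h ⟨x, hx, hxp⟩)]
        exact Equiv.symm_apply_apply _ x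
    exact (inv_mul_eq_one.1 (Subtype.ext h1)).symm⟩
  have hΩ : Nat.card {x // x ∈ d ∧ x ≠ p} = 11 := by
    rw [Nat.card_eq_fintype_card, Fintype.card_subtype]
    have : (Finset.univ.filter fun x => x ∈ d ∧ x ≠ p) = d.erase p := by
      ext x; simp [and_comm]
    rw [this, Finset.card_erase_of_mem hp, hd.2]
  haveI h2 : IsMultiplyPretransitive H {x // x ∈ d ∧ x ≠ p} 2 := by
    rw [is_two_pretransitive_iff]
    intro a b c e hab hce
    letI := restrictAct (stabilizer M24 d) (· ∈ d) fun _ hg => stab_d_maps hg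
    haveI := M12_five_pretrans hd
    haveI : IsMultiplyPretransitive (stabilizer M24 d) {x // x ∈ d} 3 :=
      isMultiplyPretransitive_of_le (by norm_num : 3 ≤ 5)
        (by rw [Nat.card_eq_fintype_card, Fintype.card_coe, hd.2]; norm_num)
    let mk : ∀ u v : {x // x ∈ d ∧ x ≠ p}, u ≠ v → (Fin 3 ↪ {x // x ∈ d}) := fun u v huv =>
      ⟨![⟨p, hp⟩, ⟨u.1, u.2.1⟩, ⟨v.1, v.2.1⟩], by
        intro i j hij
        have := congrArg Subtype.val hij
        have huv' : u.1 ≠ v.1 := fun h => huv (Subtype.ext h)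
        have hu := u.2.2
        have hv := v.2.2
        fin_cases i <;> fin_cases j <;> simp at this <;>
          first | rfl | exact absurd this (by first | assumption | exact Ne.symm ‹_›)⟩
    obtain ⟨g, hg⟩ := exists_smul_eq (stabilizer M24 d) (mk a b hab) (mk c e hce)
    have h0 : ((g : M24) : Equiv.Perm GolayPt) p = p :=
      congrArg Subtype.val (DFunLike.congr_fun hg 0)
    have h1 : ((g : M24) : Equiv.Perm GolayPt) a.1 = c.1 :=
      congrArg Subtype.val (DFunLike.congr_fun hg 1)
    have h2 : ((g : M24) : Equiv.Perm GolayPt) b.1 = e.1 :=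
      congrArg Subtype.val (DFunLike.congr_fun hg 2)
    exact ⟨⟨g.1, g.2, h0⟩, Subtype.ext h1, Subtype.ext h2⟩
  haveI : IsPreprimitive H {x // x ∈ d ∧ x ≠ p} := isPreprimitive_of_is_two_pretransitive h2
  haveI : Fact (Nat.Prime 11) := ⟨by norm_num⟩
  haveI : Nonempty {x // x ∈ d ∧ x ≠ p} := (Nat.card_pos_iff.1 (by rw [hΩ]; norm_num)).1
  have hc : Nat.card H = 7920 := card_stab_dodecad_point hd hp
  refine isSimpleGroup_of_prime_sylow (Ω := {x // x ∈ d ∧ x ≠ p}) (p := 11) (k₀ := 5)
    (dvd_of_eq hΩ.symm) (by rw [hc]; norm_num) (by rw [hc]; norm_num)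
    (fun P hP => centralizer_le_of_prime_transitive (Ω := {x // x ∈ d ∧ x ≠ p}) hP hΩ)
    (by norm_num) ?_ (by rw [hc]; norm_num)
  rw [hc]
  intro k hk
  have hk' : k ∈ Nat.divisors 10 := Nat.mem_divisors.2 ⟨hk, by norm_num⟩
  clear hk
  revert k
  decide +kernel

theorem simple_stab_dodecad (hd : d ∈ dodecads) : IsSimpleGroup (stabilizer M24 d) := by
  letI := restrictAct (stabilizer M24 d) (· ∈ d) fun _ hg => stab_d_maps hg
  haveI := M12_five_pretrans hd
  have hΩ : Nat.card {x // x ∈ d} = 12 := by rw [Nat.card_eq_fintype_card, Fintype.card_coe, hd.2]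
  haveI : IsMultiplyPretransitive (stabilizer M24 d) {x // x ∈ d} 2 :=
    isMultiplyPretransitive_of_le (by norm_num : 2 ≤ 5) (by rw [hΩ]; norm_num)
  haveI : FaithfulSMul (stabilizer M24 d) {x // x ∈ d} := ⟨fun {g g'} h => by
    have h1 : ((g'⁻¹ * g : stabilizer M24 d) : M24) = 1 := by
      refine eq_one_of_fix_dodecad hd (g'⁻¹ * g).2 fun x hx => ?_
      show ((g' : M24) : Equiv.Perm GolayPt).symm (((g : M24) : Equiv.Perm GolayPt) x) = x
      rw [show ((g : M24) : Equiv.Perm GolayPt) x = ((g' : M24) : Equiv.Perm GolayPt) x from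
        congrArg Subtype.val (h ⟨x, hx⟩)]
      exact Equiv.symm_apply_apply _ x
    exact (inv_mul_eq_one.1 (Subtype.ext h1)).symm⟩
  obtain ⟨p, hp⟩ : d.Nonempty := Finset.card_pos.1 (by rw [hd.2]; norm_num)
  haveI := simple_dodecad_point hd hp
  let e : ↥(stabilizer (stabilizer M24 d) (⟨p, hp⟩ : {x // x ∈ d})) ≃*
      ↥(stabilizer M24 d ⊓ stabilizer M24 p) :=
    { toFun := fun g => ⟨g.1.1, g.1.2, congrArg Subtype.val g.2⟩
      invFun := fun g => ⟨⟨g.1, g.2.1⟩, Subtype.ext g.2.2⟩
      left_inv := fun _ => rfl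
      right_inv := fun _ => rfl
      map_mul' := fun _ _ => rfl }
  haveI : IsSimpleGroup ↥(stabilizer (stabilizer M24 d) (⟨p, hp⟩ : {x // x ∈ d})) := e.isSimpleGroup
  haveI : Fact (Nat.Prime 2) := ⟨Nat.prime_two⟩
  haveI : Fact (Nat.Prime 3) := ⟨Nat.prime_three⟩
  exact isSimpleGroup_of_simple_stabilizer (q := 2) (r := 3) (⟨p, hp⟩ : {x // x ∈ d})
    (by norm_num) (by rw [hΩ]; norm_num) (by rw [hΩ]; norm_num)

end dodecad

/-! ### M23, M24 and M22 -/

theorem faithful_of_complement {H : Subgroup M24} {s : GolayPt → Prop}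
    (hs : ∀ g : M24, g ∈ H → ∀ x, s x → s ((g : Equiv.Perm GolayPt) x))
    (hfix : ∀ g : M24, g ∈ H → ∀ x, ¬ s x → (g : Equiv.Perm GolayPt) x = x) :
    letI := restrictAct H s hs
    FaithfulSMul H {x // s x} := by
  letI := restrictAct H s hs
  refine ⟨fun {g g'} h => Subtype.ext (Subtype.ext (Equiv.ext fun x => ?_))⟩
  by_cases hx : s x
  · exact congrArg Subtype.val (h ⟨x, hx⟩)
  · exact (hfix _ g.2 x hx).trans (hfix _ g'.2 x hx).symm

theorem simple_stabilizer_point (p : GolayPt) : IsSimpleGroup (stabilizer M24 p) := by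
  set H := stabilizer M24 p with hH
  have hs : ∀ g : M24, g ∈ H → ∀ x, x ≠ p → (g : Equiv.Perm GolayPt) x ≠ p :=
    fun g hg x hx h => hx ((g : Equiv.Perm GolayPt).injective (h.trans hg.symm))
  letI := restrictAct H (· ≠ p) hs
  haveI := faithful_of_complement hs (fun g hg x hx => by
    obtain rfl := not_not.1 hx
    exact hg)
  haveI h2 : IsMultiplyPretransitive H {x // x ≠ p} 2 := by
    rw [is_two_pretransitive_iff]
    intro a b c e hab hce
    let mk : ∀ u v : {x // x ≠ p}, u ≠ v → (Fin 3 ↪ GolayPt) := fun u v huv =>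
      ⟨![p, u.1, v.1], by
        intro i j hij
        have huv' : u.1 ≠ v.1 := fun h => huv (Subtype.ext h)
        have hu := u.2
        have hv := v.2
        fin_cases i <;> fin_cases j <;> simp at hij <;>
          first | rfl | exact absurd hij (by first | assumption | exact Ne.symm ‹_›)⟩
    obtain ⟨σ, hσ, hg⟩ := M24_trans (by norm_num : 3 ≤ 5) (mk a b hab) (mk c e hce)
    exact ⟨⟨⟨σ, hσ⟩, hg 0⟩, Subtype.ext (hg 1), Subtype.ext (hg 2)⟩
  haveI : IsPreprimitive H {x // x ≠ p} := isPreprimitive_of_is_two_pretransitive h2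
  have hΩ : Nat.card {x // x ≠ p} = 23 := by
    rw [Nat.card_eq_fintype_card, Fintype.card_subtype_compl, Fintype.card_subtype_eq]
    rfl
  haveI : Fact (Nat.Prime 23) := ⟨by norm_num⟩
  haveI : Nonempty {x // x ≠ p} := (Nat.card_pos_iff.1 (by rw [hΩ]; norm_num)).1
  have hc : Nat.card H = 10200960 := card_stabilizer_point p
  refine isSimpleGroup_of_prime_sylow (Ω := {x // x ≠ p}) (p := 23) (k₀ := 11)
    (dvd_of_eq hΩ.symm) (by rw [hc]; norm_num) (by rw [hc]; norm_num)
    (fun P hP => centralizer_le_of_prime_transitive (Ω := {x // x ≠ p}) hP hΩ)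
    (by norm_num) ?_ (by rw [hc]; norm_num)
  rw [hc]
  intro k hk
  have hk' : k ∈ Nat.divisors 22 := Nat.mem_divisors.2 ⟨hk, by norm_num⟩
  clear hk
  revert k
  decide +kernel

theorem simple_M24 : IsSimpleGroup M24 := by
  haveI := M24_isMultiplyPretransitive (k := 2) (by norm_num)
  obtain ⟨p⟩ : Nonempty GolayPt := ⟨pt 0⟩
  haveI := simple_stabilizer_point p
  haveI : Fact (Nat.Prime 2) := ⟨Nat.prime_two⟩
  haveI : Fact (Nat.Prime 3) := ⟨Nat.prime_three⟩
  have hΩ : Nat.card GolayPt = 24 := by rw [Nat.card_eq_fintype_card]; rfl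
  exact isSimpleGroup_of_simple_stabilizer (q := 2) (r := 3) p (by norm_num)
    (by rw [hΩ]; norm_num) (by rw [hΩ]; norm_num)

/-- M24 consists of even permutations. -/
theorem sign_M24 {σ : Equiv.Perm GolayPt} (hσ : σ ∈ M24) : Equiv.Perm.sign σ = 1 := by
  haveI := simple_M24
  let f : M24 →* ℤˣ := Equiv.Perm.sign.comp M24.subtype
  rcases IsSimpleGroup.eq_bot_or_eq_top_of_normal f.ker inferInstance with h | h
  · exfalso
    have hinj : Function.Injective f := (MonoidHom.ker_eq_bot_iff f).1 h
    have := Nat.card_le_card_of_injective f hinj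
    rw [card_M24] at this
    have h2 : Nat.card ℤˣ = 2 := by rw [Nat.card_eq_fintype_card]; rfl
    omega
  · have h1 : (⟨σ, hσ⟩ : M24) ∈ f.ker := by rw [h]; exact Subgroup.mem_top _
    exact MonoidHom.mem_ker.1 h1

theorem simple_stabilizer_two {p q : GolayPt} (hpq : p ≠ q) :
    IsSimpleGroup ↥(stabilizer M24 p ⊓ stabilizer M24 q) := by
  set H := stabilizer M24 p ⊓ stabilizer M24 q with hH
  have hs : ∀ g : M24, g ∈ H → ∀ x, x ≠ p ∧ x ≠ q →
      (g : Equiv.Perm GolayPt) x ≠ p ∧ (g : Equiv.Perm GolayPt) x ≠ q := fun g hg x hx =>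
    ⟨fun h => hx.1 ((g : Equiv.Perm GolayPt).injective (h.trans hg.1.symm)),
     fun h => hx.2 ((g : Equiv.Perm GolayPt).injective (h.trans hg.2.symm))⟩
  letI := restrictAct H (fun x => x ≠ p ∧ x ≠ q) hs
  haveI := faithful_of_complement hs (fun g hg x hx => by
    rcases not_and_or.1 hx with h | h <;> obtain rfl := not_not.1 h
    exacts [hg.1, hg.2])
  haveI h2 : IsMultiplyPretransitive H {x // x ≠ p ∧ x ≠ q} 2 := by
    rw [is_two_pretransitive_iff]
    intro a b c e hab hce
    let mk : ∀ u v : {x // x ≠ p ∧ x ≠ q}, u ≠ v → (Fin 4 ↪ GolayPt) := fun u v huv =>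
      ⟨![p, q, u.1, v.1], by
        intro i j hij
        have huv' : u.1 ≠ v.1 := fun h => huv (Subtype.ext h)
        have hu := u.2.1
        have hv := v.2.1
        have hu' := u.2.2
        have hv' := v.2.2
        fin_cases i <;> fin_cases j <;> simp at hij <;>
          first | rfl | exact absurd hij (by first | assumption | exact Ne.symm ‹_›)⟩
    obtain ⟨σ, hσ, hg⟩ := M24_trans (by norm_num : 4 ≤ 5) (mk a b hab) (mk c e hce)
    exact ⟨⟨⟨σ, hσ⟩, hg 0, hg 1⟩, Subtype.ext (hg 2), Subtype.ext (hg 3)⟩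
  haveI : IsPreprimitive H {x // x ≠ p ∧ x ≠ q} := isPreprimitive_of_is_two_pretransitive h2
  have hΩ : Nat.card {x // x ≠ p ∧ x ≠ q} = 22 := by
    rw [Nat.card_eq_fintype_card, Fintype.card_subtype]
    have : (Finset.univ.filter fun x => x ≠ p ∧ x ≠ q) = ({p, q} : Finset GolayPt)ᶜ := by
      ext x; simp
    rw [this, Finset.card_compl, Finset.card_pair hpq]
    rfl
  haveI : Fact (Nat.Prime 11) := ⟨by norm_num⟩
  haveI : Fact (Nat.Prime 2) := ⟨Nat.prime_two⟩
  haveI : Nonempty {x // x ≠ p ∧ x ≠ q} := (Nat.card_pos_iff.1 (by rw [hΩ]; norm_num)).1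
  have hc : Nat.card H = 443520 := card_stabilizer_two hpq
  have hC : ∀ P : Subgroup H, Nat.card P = 11 → Subgroup.centralizer (P : Set H) ≤ P := by
    intro P hP
    haveI : IsCyclic P := isCyclic_of_prime_card hP
    letI := IsCyclic.commGroup (α := P)
    have hPC : P ≤ Subgroup.centralizer (P : Set H) := fun x hx =>
      Subgroup.mem_centralizer_iff.2 fun y hy =>
        congrArg Subtype.val (mul_comm (⟨y, hy⟩ : P) ⟨x, hx⟩)
    -- an element fixing 11 of the 22 points is trivial
    have hfix : ∀ g : H, ∀ F : Finset {x // x ≠ p ∧ x ≠ q}, 11 ≤ F.card →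
        (∀ z ∈ F, g • z = z) → g = 1 := by
      intro g F hF hg
      refine Subtype.ext (Subtype.ext (eq_one_of_fix_ten (g : M24).2
        (F := F.map (Function.Embedding.subtype _)) ?_ ?_))
      · rw [Finset.card_map]; omega
      · intro z hz
        obtain ⟨y, hy, rfl⟩ := Finset.mem_map.1 hz
        exact congrArg Subtype.val (hg y hy)
    -- every orbit of P has length 11
    have horb : ∀ a : {x // x ≠ p ∧ x ≠ q}, (orbit P a).ncard = 11 := by
      intro a
      have h1 : (orbit P a).ncard ∣ 11 := by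
        rw [← hP, ← index_stabilizer P a]; exact Subgroup.index_dvd_card _
      refine ((Fact.out : (11 : ℕ).Prime).eq_one_or_self_of_dvd _ h1).resolve_left fun h => ?_
      obtain ⟨a', ha'⟩ := Set.ncard_eq_one.1 h
      have hPfix : ∀ x : P, x • a = a := fun x => by
        have e1 : a ∈ orbit P a := mem_orbit_self a
        have e2 : x • a ∈ orbit P a := ⟨x, rfl⟩
        rw [ha'] at e1 e2
        exact e2.trans e1.symm
      -- then P permutes 21 points, so fixes at least 10 more
      obtain ⟨x, hx⟩ : ∃ x : P, x ≠ 1 := by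
        haveI : Nontrivial P := Finite.one_lt_card_iff_nontrivial.1 (by rw [hP]; norm_num)
        exact exists_ne 1
      have hgen : ∀ z : {x // x ≠ p ∧ x ≠ q}, x • z = z → ∀ y : P, y • z = z := by
        intro z hz y
        obtain ⟨k, rfl⟩ := Subgroup.mem_zpowers_iff.1 (mem_zpowers_of_prime_card hP hx (g' := y))
        exact Subgroup.zpow_mem (stabilizer P z) (show x ∈ stabilizer P z from hz) k
      classical
      let Fx : Finset {x // x ≠ p ∧ x ≠ q} := Finset.univ.filter fun z => x • z = z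
      have hsmall : Fx.card < 11 := by
        by_contra hge
        push_neg at hge
        have := hfix x.1 Fx hge fun z hz => (Finset.mem_filter.1 hz).2
        exact hx (Subtype.ext this)
      have hmod := (IsPGroup.of_card (p := 11) (n := 1) (by rw [hP, pow_one]) :
        IsPGroup 11 P).card_modEq_card_fixedPoints {x // x ≠ p ∧ x ≠ q}
      have hfp : Nat.card (fixedPoints P {x // x ≠ p ∧ x ≠ q}) = Fx.card := by
        rw [Nat.card_coe_set_eq, ← Set.ncard_coe_finset]
        congr 1
        ext z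
        simp only [mem_fixedPoints, Fx, Finset.coe_filter, Finset.mem_univ, true_and,
          Set.mem_setOf_eq]
        exact ⟨fun h => h x, hgen z⟩
      have hpos : 0 < Fx.card := Finset.card_pos.2 ⟨a, by simp [Fx, hPfix x]⟩
      rw [hfp, hΩ] at hmod
      unfold Nat.ModEq at hmod
      rw [Nat.mod_eq_of_lt hsmall] at hmod
      omega
    intro c hc
    by_contra hcP
    -- a centralising element preserving an orbit of P lies in P
    have hin : ∀ g : H, g ∈ Subgroup.centralizer (P : Set H) → ∀ a : {x // x ≠ p ∧ x ≠ q},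
        g • a ∈ orbit P a → g ∈ P := by
      intro g hg a ⟨x, hx⟩
      have hmem : (x : H)⁻¹ * g ∈ Subgroup.centralizer (P : Set H) :=
        mul_mem (inv_mem (hPC x.2)) hg
      have ha : ((x : H)⁻¹ * g) • a = a := by
        rw [mul_smul, ← hx]; exact inv_smul_smul (x : H) a
      classical
      have := hfix ((x : H)⁻¹ * g) (orbit P a).toFinite.toFinset
        (by rw [← Set.ncard_eq_toFinset_card, horb])
        (fun z hz => by
          obtain ⟨y, rfl⟩ := (Set.Finite.mem_toFinset _).1 hz
          show ((x : H)⁻¹ * g) • ((y : H) • a) = (y : H) • a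
          rw [← mul_smul, ← Subgroup.mem_centralizer_iff.1 hmem y y.2, mul_smul, ha])
      rw [inv_mul_eq_one] at this
      exact this ▸ x.2
    obtain ⟨a⟩ := ‹Nonempty {x // x ≠ p ∧ x ≠ q}›
    -- index two
    set C := Subgroup.centralizer (P : Set H) with hCdef
    have hswap : ∀ g ∈ C, g ∉ P → ∀ z : {x // x ≠ p ∧ x ≠ q}, g • z ∉ orbit P z := fun g hg hgP z h => hgP (hin g hg z h)
    have hdouble : ∀ g ∈ C, g ∉ P → g * g ∈ P := by
      intro g hg hgP
      refine hin _ (mul_mem hg hg) a ?_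
      by_contra hne
      -- three disjoint orbits inside 22 points
      have d1 := hswap g hg hgP a
      have d2 := hswap g hg hgP (g • a)
      rw [← mul_smul] at d2
      have hdis : ∀ u v : {x // x ≠ p ∧ x ≠ q}, u ∉ orbit P v → Disjoint (orbit P u) (orbit P v) := fun u v h =>
        Set.disjoint_left.2 fun z hu hv => h (by
          rw [← orbit_eq_iff] at hu hv ⊢
          rw [← hu, hv])
      have hsub := Set.ncard_le_ncard (Set.subset_univ
        (orbit P ((g * g) • a) ∪ orbit P (g • a) ∪ orbit P a))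
      rw [Set.ncard_univ, hΩ, Set.ncard_union_eq
        (Set.disjoint_union_left.2 ⟨hdis _ _ hne, hdis _ _ d1⟩),
        Set.ncard_union_eq (hdis _ _ d2), horb, horb, horb] at hsub
      omega
    have h2dvd : 2 ∣ Nat.card C := by
      have hord : orderOf c ∣ Nat.card C := Subgroup.orderOf_dvd_natCard C hc
      refine dvd_trans ?_ hord
      by_contra hodd
      apply hcP
      -- c is a power of c * c, which lies in P
      have hk : Odd (orderOf c) := Nat.odd_iff.2 (by omega)
      obtain ⟨k, hk⟩ := hk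
      have : c = (c * c) ^ (k + 1) := by
        rw [← pow_two, ← pow_mul, show 2 * (k + 1) = orderOf c + 1 by omega, pow_succ,
          pow_orderOf_eq_one, one_mul]
      rw [this]
      exact pow_mem (hdouble c hc hcP) _
    obtain ⟨t, ht⟩ := exists_prime_orderOf_dvd_card' 2 h2dvd
    have ht2 : orderOf ((t : H)) = 2 := by rw [Subgroup.orderOf_coe, ht]
    have htP : (t : H) ∉ P := fun h => by
      have := Subgroup.orderOf_dvd_natCard P h
      rw [ht2, hP] at this
      norm_num at this
    have hfree : ∀ z : {x // x ≠ p ∧ x ≠ q}, (t : H) • z ≠ z := fun z h =>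
      hswap _ t.2 htP z (by rw [h]; exact mem_orbit_self z)
    -- so t is an odd permutation
    set τ : Equiv.Perm GolayPt := (((t : H) : M24) : Equiv.Perm GolayPt) with hτ
    have hτsupp : τ.support = ({p, q} : Finset GolayPt)ᶜ := by
      ext x
      rw [Equiv.Perm.mem_support, Finset.mem_compl, Finset.mem_insert, Finset.mem_singleton]
      constructor
      · rintro hx (rfl | rfl)
        · exact hx (t : H).2.1
        · exact hx (t : H).2.2
      · intro hx h
        push_neg at hx
        exact hfree ⟨x, hx⟩ (Subtype.ext h)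
    have hτ2 : orderOf τ = 2 := by
      rw [hτ, Subgroup.orderOf_coe, Subgroup.orderOf_coe, ht2]
    obtain ⟨n, hn⟩ := Equiv.Perm.cycleType_prime_order (σ := τ) (hτ2 ▸ Nat.prime_two)
    rw [hτ2] at hn
    have hsum := Equiv.Perm.sum_cycleType τ
    rw [hn, Multiset.sum_replicate, hτsupp, Finset.card_compl, Finset.card_pair hpq,
      show Fintype.card GolayPt = 24 from rfl, smul_eq_mul] at hsum
    have hn10 : n = 10 := by omega
    subst hn10
    have hsign := sign_M24 ((t : H) : M24).2
    rw [Equiv.Perm.sign_of_cycleType, hn] at hsign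
    revert hsign
    decide
  refine isSimpleGroup_of_prime_sylow (Ω := {x // x ≠ p ∧ x ≠ q}) (p := 11) (k₀ := 5)
    (by rw [hΩ]; norm_num) (by rw [hc]; norm_num) (by rw [hc]; norm_num) hC
    (by norm_num) ?_ (by rw [hc]; norm_num)
  rw [hc]
  intro k hk
  have hk' : k ∈ Nat.divisors 10 := Nat.mem_divisors.2 ⟨hk, by norm_num⟩
  clear hk
  revert k
  decide +kernel

end Cfsg.Agent.Spor
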