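import Cfsg.Agent.Lib.Spor.CodeUnique
import Cfsg.Agent.Lib.Spor.MathieuSimple
import Cfsg.Agent.S0358
import Cfsg.Agent.S0359
import Cfsg.Agent.S0369

/-!
Steiner systems S(5-m, 8-m, 24-m) for m ≤ 2 come from the length-24 code.
-/

set_option autoImplicit false

namespace Cfsg.Agent.Spor.Code24

open Finset
open scoped Pointwise

section General

variable {ι : Type*} [Fintype ι] [DecidableEq ι]

/-- the orthogonal complement -/
def perp (C : Submodule (ZMod 2) (ι → ZMod 2)) : Submodule (ZMod 2) (ι → ZMod 2) where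
  carrier := {v | ∀ c ∈ C, ∑ p, v p * c p = 0}
  add_mem' {a b} ha hb c hc := by simp [add_mul, sum_add_distrib, ha c hc, hb c hc]
  zero_mem' c _ := by simp
  smul_mem' r v hv c hc := by simp [mul_assoc, ← mul_sum, hv c hc]

omit [DecidableEq ι] in
theorem mem_perp {C : Submodule (ZMod 2) (ι → ZMod 2)} {v : ι → ZMod 2} :
    v ∈ perp C ↔ ∀ c ∈ C, ∑ p, v p * c p = 0 := Iff.rfl

theorem finrank_perp (C : Submodule (ZMod 2) (ι → ZMod 2)) :
    Module.finrank (ZMod 2) (perp C) + Module.finrank (ZMod 2) C = Fintype.card ι := by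
  let Φ : (ι → ZMod 2) →ₗ[ZMod 2] Module.Dual (ZMod 2) C :=
    { toFun := fun w => (dotL w).comp C.subtype
      map_add' := fun w w' => LinearMap.ext fun c => by simp [dotL_apply, add_mul, sum_add_distrib]
      map_smul' := fun a w => LinearMap.ext fun c => by simp [dotL_apply, mul_sum, mul_assoc] }
  have hsurj : Function.Surjective Φ := by
    intro f
    obtain ⟨g, hg⟩ := LinearMap.dualMap_surjective_of_injective C.injective_subtype f
    refine ⟨fun i => g (Pi.single i 1), LinearMap.ext fun c => ?_⟩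
    rw [← hg]
    show ∑ i, g (Pi.single i 1) * (c : ι → ZMod 2) i = g (c : ι → ZMod 2)
    conv_rhs => rw [pi_eq_sum_univ' (c : ι → ZMod 2)]
    rw [map_sum]
    exact sum_congr rfl fun i _ => by rw [map_smul, smul_eq_mul, mul_comm]
  have hk : LinearMap.ker Φ = perp C := by
    ext v
    exact ⟨fun h c hc => LinearMap.congr_fun h ⟨c, hc⟩, fun h => LinearMap.ext fun c => h c c.2⟩
  have e := LinearMap.finrank_range_add_finrank_ker Φ
  rw [LinearMap.range_eq_top.2 hsurj, finrank_top, Subspace.dual_finrank_eq,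
    Module.finrank_fintype_fun_eq_card, hk] at e
  omega

/-- spans of orthogonal generators with weights divisible by four -/
theorem span_double {G : Set (ι → ZMod 2)} (ho : ∀ x ∈ G, ∀ y ∈ G, ∑ p, x p * y p = 0)
    (h4 : ∀ x ∈ G, 4 ∣ hammingNorm x) :
    (∀ x ∈ Submodule.span (ZMod 2) G, ∀ y ∈ Submodule.span (ZMod 2) G, ∑ p, x p * y p = 0) ∧
      ∀ x ∈ Submodule.span (ZMod 2) G, 4 ∣ hammingNorm x := by
  have h1 : Submodule.span (ZMod 2) G ≤ perp (Submodule.span (ZMod 2) G) := by
    refine Submodule.span_le.2 fun x hx c hc => ?_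
    induction hc using Submodule.span_induction with
    | mem y hy => exact ho x hx y hy
    | zero => simp
    | add u v _ _ hu hv => simp only [Pi.add_apply, mul_add, sum_add_distrib, hu, hv, add_zero]
    | smul r u _ hu => simp only [Pi.smul_apply, smul_eq_mul, mul_left_comm, ← mul_sum, hu, mul_zero]
  refine ⟨fun x hx => h1 hx, fun x hx => ?_⟩
  induction hx using Submodule.span_induction with
  | mem y hy => exact h4 y hy
  | zero => simp
  | add u v hu hv hu4 hv4 =>
    have e := h1 hu v hv
    rw [inner_eq, ZMod.natCast_eq_zero_iff_even] at e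
    obtain ⟨r, hr⟩ := e
    have := norm_add u v
    omega
  | smul r u _ hu => rcases zmod_two r with rfl | rfl <;> simp [hu]

theorem exists_block_sup {t k : ℕ} {B : Finset (Finset ι)} (hB : Cfsg.IsSteinerSystem t k (B : Set (Finset ι)))
    (ht : t ≤ Fintype.card ι) {S : Finset ι} (hS : S.card ≤ t) : ∃ b ∈ B, S ⊆ b := by
  obtain ⟨T, hST, -, hT⟩ := exists_subsuperset_card_eq (subset_univ S) hS (by rwa [card_univ])
  obtain ⟨b, ⟨hb, hTb⟩, -⟩ := hB.2 T hT
  exact ⟨b, hb, hST.trans hTb⟩

end General

/-! Codes of the small systems -/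

variable {α : Type*} [Fintype α] [DecidableEq α] {m : ℕ} {B : Finset (Finset α)}

/-- a block with the extra points added -/
def pext (m : ℕ) (b : Finset α) : Finset (Fin m ⊕ α) := (univ : Finset (Fin m)).disjSum b

/-- the span of the enlarged blocks -/
def code0 (m : ℕ) (B : Finset (Finset α)) : Submodule (ZMod 2) (Fin m ⊕ α → ZMod 2) :=
  Submodule.span (ZMod 2) ((fun b => ind (pext m b)) '' (B : Set (Finset α)))

/-- the part of a word on the points -/
def upart (v : Fin m ⊕ α → ZMod 2) : Finset α := univ.filter fun a => v (Sum.inr a) = 1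

/-- the parity on the extra points -/
def pv (v : Fin m ⊕ α → ZMod 2) : ZMod 2 := ∑ j, v (Sum.inl j)

/-- the word of the extra points -/
def padw (m : ℕ) : Fin m ⊕ α → ZMod 2 := Sum.elim (fun _ => 1) fun _ => 0

omit [Fintype α] [DecidableEq α] in
theorem card_pext (b : Finset α) : (pext m b).card = m + b.card := by
  rw [pext, card_disjSum, card_univ, Fintype.card_fin]

omit [Fintype α] in
theorem pext_inter (b c : Finset α) : pext m b ∩ pext m c = pext m (b ∩ c) := by
  ext p; cases p <;> simp [pext]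

theorem dot_pext (v : Fin m ⊕ α → ZMod 2) (b : Finset α) :
    ∑ p, v p * ind (pext m b) p = pv v + ((upart v ∩ b).card : ZMod 2) := by
  rw [Fintype.sum_sum_type]
  congr 1
  · exact sum_congr rfl fun j _ => by simp [ind, pext]
  · rw [show upart v ∩ b = univ.filter (fun a => v (Sum.inr a) = 1 ∧ a ∈ b) from by ext a; simp [upart],
      card_filter, Nat.cast_sum]
    refine sum_congr rfl fun a _ => ?_
    rcases zmod_two (v (Sum.inr a)) with h | h <;> by_cases hb : a ∈ b <;> simp [ind, pext, h, hb]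

theorem upart_add (v : Fin m ⊕ α → ZMod 2) (b : Finset α) :
    upart (v + ind (pext m b)) = symmDiff (upart v) b := by
  ext a
  simp only [upart, mem_filter, mem_univ, true_and, Finset.mem_symmDiff, Pi.add_apply]
  rcases zmod_two (v (Sum.inr a)) with h | h <;> by_cases hb : a ∈ b <;> simp [ind, pext, h, hb] <;> decide

omit [Fintype α] in
theorem pv_add (v w : Fin m ⊕ α → ZMod 2) : pv (v + w) = pv v + pv w := by
  simp [pv, sum_add_distrib]

omit [Fintype α] in
theorem pv_pext (b : Finset α) : pv (ind (pext m b)) = (m : ZMod 2) := by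
  simp [pv, ind, pext]

theorem norm_split_pads (v : Fin m ⊕ α → ZMod 2) :
    hammingNorm v = (univ.filter fun j => v (Sum.inl j) = 1).card + (upart v).card := by
  rw [norm_eq, ← card_disjSum]
  congr 1
  ext p
  cases p <;> simp [mem_supp, upart]

omit [Fintype α] [DecidableEq α] in
theorem pads_card_cast (v : Fin m ⊕ α → ZMod 2) :
    ((univ.filter fun j => v (Sum.inl j) = 1).card : ZMod 2) = pv v := by
  rw [card_filter, Nat.cast_sum]
  refine sum_congr rfl fun j _ => ?_
  rcases zmod_two (v (Sum.inl j)) with h | h <;> simp [h]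

/-- the hypotheses on a system -/
structure Sys (m : ℕ) (B : Finset (Finset α)) : Prop where
  le : m ≤ 2
  card : Fintype.card α + m = 24
  sys : Cfsg.IsSteinerSystem (5 - m) (8 - m) (B : Set (Finset α))

theorem Sys.inter_even (h : Sys m B) {b c : Finset α} (hb : b ∈ B) (hc : c ∈ B) : Even (m + (b ∩ c).card) := by
  have hm := h.le
  have hle := card_le_card (inter_subset_left (s₁ := b) (s₂ := c))
  rw [h.sys.1 b hb] at hle
  have ne : ∀ i, (B.filter fun c => (b ∩ c).card = i).card = 0 → (b ∩ c).card ≠ i := fun i hi e => by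
    have : c ∈ B.filter fun c => (b ∩ c).card = i := mem_filter.2 ⟨hc, e⟩
    rw [card_eq_zero.1 hi] at this
    exact notMem_empty _ this
  have big : ∀ i, 5 - m ≤ i → i ≠ 8 - m → (b ∩ c).card ≠ i := fun i hi hik => ne i (by
    rw [Steiner.block_big h.sys hb (by omega) i hi, if_neg hik])
  have hcard := h.card
  have hs := h.sys
  rw [Nat.even_iff]
  interval_cases m
  · have h5 := Steiner.five_eight (by omega) hs hb
    have := ne 1 h5.2.1
    have := ne 3 h5.2.2
    have := big 5 (by norm_num) (by norm_num)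
    have := big 6 (by norm_num) (by norm_num)
    have := big 7 (by norm_num) (by norm_num)
    omega
  · have h5 := Steiner.four_seven (by omega) hs hb
    have := ne 0 h5.1
    have := ne 2 h5.2
    have := big 4 (by norm_num) (by norm_num)
    have := big 5 (by norm_num) (by norm_num)
    have := big 6 (by norm_num) (by norm_num)
    omega
  · have h5 := Steiner.three_six (by omega) hs hb
    have := ne 1 h5.2.1
    have := big 3 (by norm_num) (by norm_num)
    have := big 4 (by norm_num) (by norm_num)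
    have := big 5 (by norm_num) (by norm_num)
    omega

theorem Sys.gens (h : Sys m B) :
    (∀ x ∈ (fun b => ind (pext m b)) '' (B : Set (Finset α)), ∀ y ∈ (fun b => ind (pext m b)) '' (B : Set (Finset α)),
      ∑ p, x p * y p = 0) ∧ ∀ x ∈ (fun b => ind (pext m b)) '' (B : Set (Finset α)), hammingNorm x = 8 := by
  have hm := h.le
  refine ⟨?_, ?_⟩
  · rintro _ ⟨b, hb, rfl⟩ _ ⟨c, hc, rfl⟩
    rw [inner_eq, supp_ind, supp_ind, pext_inter, card_pext, ZMod.natCast_eq_zero_iff_even]
    exact h.inter_even hb hc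
  · rintro _ ⟨b, hb, rfl⟩
    rw [norm_eq, supp_ind, card_pext, h.sys.1 b hb]
    omega

theorem Sys.code0_double (h : Sys m B) :
    code0 m B ≤ perp (code0 m B) ∧ ∀ x ∈ code0 m B, 4 ∣ hammingNorm x := by
  obtain ⟨a, b⟩ := span_double h.gens.1 (fun x hx => by rw [h.gens.2 x hx]; norm_num)
  exact ⟨fun x hx => a x hx, b⟩

theorem ind_pext_mem {b : Finset α} (hb : b ∈ B) : ind (pext m b) ∈ code0 m B :=
  Submodule.subset_span ⟨b, hb, rfl⟩

theorem Sys.parity (_h : Sys m B) {v : Fin m ⊕ α → ZMod 2} (hv : v ∈ perp (code0 m B)) {b : Finset α}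
    (hb : b ∈ B) : pv v + ((upart v ∩ b).card : ZMod 2) = 0 := by
  rw [← dot_pext]; exact hv _ (ind_pext_mem hb)

/-- a small set meets the blocks with both parities -/
theorem Sys.kill (h : Sys m B) {v : Fin m ⊕ α → ZMod 2} (hv : v ∈ perp (code0 m B))
    (hu : (upart v).card ≤ 5 - m) : upart v = ∅ := by
  have hm := h.le
  have hcard := h.card
  by_contra hne
  obtain ⟨a, ha⟩ := nonempty_iff_ne_empty.2 hne
  have e1 := Steiner.cov_mul h.sys (S := upart v) hu
  have e2 := Steiner.cov_mul h.sys (S := (upart v).erase a) (by rw [card_erase_of_mem ha]; omega)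
  rw [card_erase_of_mem ha] at e2
  have hpos := card_pos.2 ⟨a, ha⟩
  have hlt : Steiner.cov B (upart v) < Steiner.cov B ((upart v).erase a) := by
    generalize (upart v).card = u at hu e1 e2 hpos
    rw [show Fintype.card α = 24 - m by omega] at e1 e2
    interval_cases m <;> interval_cases u <;> norm_num [Nat.choose] at e1 e2 <;> omega
  obtain ⟨b, hb, hUb⟩ := exists_block_sup h.sys (by omega) hu
  have hex : ∃ c ∈ B, (upart v).erase a ⊆ c ∧ a ∉ c := by
    by_contra hh
    push Not at hh
    refine absurd hlt (not_lt.2 (card_le_card fun c hc => ?_))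
    rw [mem_filter] at hc ⊢
    refine ⟨hc.1, fun x hx => ?_⟩
    by_cases hxa : x = a
    · exact hxa ▸ hh c hc.1 hc.2
    · exact hc.2 (mem_erase.2 ⟨hxa, hx⟩)
  obtain ⟨c, hc, hUc, hac⟩ := hex
  have p1 := h.parity hv hb
  have p2 := h.parity hv hc
  rw [inter_eq_left.2 hUb] at p1
  have e : upart v ∩ c = (upart v).erase a := by
    ext x
    rw [mem_inter, mem_erase]
    exact ⟨fun hx => ⟨fun e => hac (e ▸ hx.2), hx.1⟩, fun hx => ⟨hx.2, hUc (mem_erase.2 hx)⟩⟩
  rw [e] at p2
  have : (((upart v).erase a).card : ZMod 2) + 1 = ((upart v).card : ZMod 2) := by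
    rw [← card_erase_add_one ha]; push_cast; ring
  rw [← this, ← add_assoc, p2] at p1
  exact absurd p1 (by decide)

/-- reduction to a word on the extra points -/
theorem Sys.reduce (h : Sys m B) {v : Fin m ⊕ α → ZMod 2} (hv : v ∈ perp (code0 m B))
    (hp : m ≤ 1 ∨ pv v = 0) : ∃ c ∈ code0 m B, upart (v + c) = ∅ := by
  have hm := h.le
  have hcard := h.card
  induction hn : (upart v).card using Nat.strong_induction_on generalizing v with
  | _ u ih =>
    by_cases hle : u ≤ 5 - m
    · exact ⟨0, Submodule.zero_mem _, by rw [add_zero]; exact h.kill hv (by omega)⟩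
    obtain ⟨s, hs, hsc⟩ := exists_subset_card_eq (s := upart v) (n := 5 - m) (by omega)
    obtain ⟨b, ⟨hb, hsb⟩, -⟩ := h.sys.2 s hsc
    have hi := card_le_card (subset_inter hs hsb)
    rw [hsc] at hi
    have hpar := h.parity hv hb
    have hsd := card_sd (upart v) b
    rw [h.sys.1 b hb, ← upart_add (m := m)] at hsd
    have hlt : 8 - m < 2 * (upart v ∩ b).card := by
      rcases (show m ≤ 1 ∨ m = 2 by omega) with h1 | h2
      · omega
      · rcases hp with h1 | hp0
        · omega
        · rw [hp0, zero_add, ZMod.natCast_eq_zero_iff_even, Nat.even_iff] at hpar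
          omega
    obtain ⟨c, hc, he⟩ := ih (upart (v + ind (pext m b))).card (by omega)
      (Submodule.add_mem _ hv (h.code0_double.1 (ind_pext_mem hb)))
      (by
        rcases hp with h1 | hp0
        · exact Or.inl h1
        · rcases (show m ≤ 1 ∨ m = 2 by omega) with h1 | h2
          · exact Or.inl h1
          · exact Or.inr (by rw [pv_add, hp0, pv_pext, h2]; decide)) rfl
    exact ⟨ind (pext m b) + c, Submodule.add_mem _ (ind_pext_mem hb) hc, by rwa [← add_assoc]⟩

theorem Sys.mem_of_small (h : Sys m B) (hm : m ≤ 1) {v : Fin m ⊕ α → ZMod 2} (hv : v ∈ perp (code0 m B))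
    (hU : upart v = ∅) : v = 0 := by
  obtain ⟨b, hb, -⟩ := exists_block_sup h.sys (by have := h.card; omega) (S := ∅) (by simp)
  have hp := h.parity hv hb
  rw [hU, empty_inter, card_empty, Nat.cast_zero, add_zero] at hp
  funext p
  cases p with
  | inl j =>
    have : Subsingleton (Fin m) := Fin.subsingleton_iff_le_one.2 hm
    rw [pv, Fintype.sum_subsingleton _ j] at hp
    exact hp
  | inr a =>
    refine (zmod_two (v (Sum.inr a))).resolve_right fun e => ?_
    have : a ∈ upart v := mem_filter.2 ⟨mem_univ _, e⟩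
    rw [hU] at this
    exact notMem_empty _ this

theorem Sys.perp_eq (h : Sys m B) (hm : m ≤ 1) : perp (code0 m B) = code0 m B := by
  refine le_antisymm (fun v hv => ?_) h.code0_double.1
  obtain ⟨c, hc, hU⟩ := h.reduce hv (Or.inl hm)
  have h0 := h.mem_of_small hm (Submodule.add_mem _ hv (h.code0_double.1 hc)) hU
  rw [← sub_eq_add', sub_eq_zero] at h0
  rw [h0]; exact hc

theorem card_sum_eq (h : Sys m B) : Fintype.card (Fin m ⊕ α) = 24 := by
  rw [Fintype.card_sum, Fintype.card_fin]; have := h.card; omega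

theorem Sys.good01 (h : Sys m B) (hm : m ≤ 1) : Good (code0 m B) := by
  have hd := finrank_perp (code0 m B)
  rw [h.perp_eq hm, card_sum_eq h] at hd
  refine ⟨card_sum_eq h, by omega, fun v hv w hw => h.code0_double.1 hv w hw, fun w hw hw0 => ?_⟩
  have h4 := h.code0_double.2 w hw
  have hne : hammingNorm w ≠ 0 := fun e => hw0 (hammingNorm_eq_zero.1 e)
  by_contra hlt
  have hU := h.kill (h.code0_double.1 hw) (by have := norm_split_pads w; omega)
  exact hw0 (h.mem_of_small hm (h.code0_double.1 hw) hU)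

theorem Sys.even_part (h : Sys 2 B) {v : Fin 2 ⊕ α → ZMod 2} (hv : v ∈ perp (code0 2 B)) (hp : pv v = 0) :
    v ∈ code0 2 B ∨ v + padw 2 ∈ code0 2 B := by
  obtain ⟨c, hc, hU⟩ := h.reduce hv (Or.inr hp)
  have hpc : pv c = 0 := by
    clear hU
    induction hc using Submodule.span_induction with
    | mem y hy => obtain ⟨b, -, rfl⟩ := hy; rw [pv_pext]; decide
    | zero => simp [pv]
    | add x y _ _ hx hy => rw [pv_add, hx, hy, add_zero]
    | smul r x _ hx => simp only [pv, Pi.smul_apply, smul_eq_mul, ← mul_sum] at hx ⊢; rw [hx, mul_zero]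
  have h2 : pv (v + c) = 0 := by rw [pv_add, hp, hpc, add_zero]
  have hr : ∀ a, v (Sum.inr a) = c (Sum.inr a) := fun a => by
    have : (v + c) (Sum.inr a) = 0 := (zmod_two _).resolve_right fun e => by
      have : a ∈ upart (v + c) := mem_filter.2 ⟨mem_univ _, e⟩
      rw [hU] at this
      exact notMem_empty _ this
    rw [← sub_eq_add', Pi.sub_apply, sub_eq_zero] at this
    exact this
  simp only [pv, Fin.sum_univ_two, Pi.add_apply] at h2
  rcases zmod_two (v (Sum.inl 0) + c (Sum.inl 0)) with e | e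
  · left
    rw [e, zero_add] at h2
    convert hc using 1
    funext p
    rcases p with j | a
    · fin_cases j
      · exact (sub_eq_zero.1 (by rw [sub_eq_add]; exact e))
      · exact (sub_eq_zero.1 (by rw [sub_eq_add]; exact h2))
    · exact hr a
  · right
    rw [e] at h2
    convert hc using 1
    funext p
    rcases p with j | a
    · have key : ∀ x y : ZMod 2, x + y = 1 → x + 1 = y := by decide
      have key2 : ∀ y : ZMod 2, 1 + y = 0 → y = 1 := by decide
      fin_cases j
      · exact key _ _ e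
      · exact key _ _ (key2 _ h2)
    · simp [padw, hr a]
where
  sub_eq_add {x y : ZMod 2} : x - y = x + y := by revert x y; decide

theorem norm_padw : hammingNorm (padw 2 : Fin 2 ⊕ α → ZMod 2) = 2 := by
  rw [norm_split_pads, show upart (padw 2 : Fin 2 ⊕ α → ZMod 2) = ∅ from by ext a; simp [upart, padw]]
  simp [padw]

theorem Sys.padw_perp (h : Sys 2 B) : padw 2 ∈ perp (code0 2 B) := by
  intro c hc
  induction hc using Submodule.span_induction with
  | mem y hy =>
    obtain ⟨b, -, rfl⟩ := hy
    rw [dot_pext]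
    simp [pv, padw, upart]
    decide
  | zero => simp
  | add u v _ _ hu hv => simp only [Pi.add_apply, mul_add, sum_add_distrib, hu, hv, add_zero]
  | smul r u _ hu => simp only [Pi.smul_apply, smul_eq_mul, mul_left_comm, ← mul_sum, hu, mul_zero]

theorem Sys.not_padw (h : Sys 2 B) : (padw 2 : Fin 2 ⊕ α → ZMod 2) ∉ code0 2 B := fun hh => by
  have := h.code0_double.2 _ hh
  rw [norm_padw] at this
  omega

theorem Sys.odd_word (h : Sys 2 B) : (∃ w ∈ perp (code0 2 B), pv w = 1) ∧ Module.finrank (ZMod 2) (code0 2 B) = 11 := by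
  have hd := finrank_perp (code0 2 B)
  rw [card_sum_eq h] at hd
  have hle := Submodule.finrank_mono h.code0_double.1
  have not12 : ¬ 12 ≤ Module.finrank (ZMod 2) (code0 2 B) := fun h12 => by
    have := Submodule.eq_of_le_of_finrank_le h.code0_double.1 (by omega)
    exact h.not_padw (this ▸ h.padw_perp)
  have hspan : ∀ x : Fin 2 ⊕ α → ZMod 2, Module.finrank (ZMod 2) (Submodule.span (ZMod 2) {x}) ≤ 1 := fun x =>
    (finrank_span_le_card ({x} : Set (Fin 2 ⊕ α → ZMod 2))).trans (by simp)
  have hsup := fun (S T : Submodule (ZMod 2) (Fin 2 ⊕ α → ZMod 2)) => Submodule.finrank_add_le_finrank_add_finrank S T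
  set P := Submodule.span (ZMod 2) {(padw 2 : Fin 2 ⊕ α → ZMod 2)}
  have heven : ∀ v ∈ perp (code0 2 B), pv v = 0 → v ∈ code0 2 B ⊔ P := by
    intro v hv hp
    rcases h.even_part hv hp with e | e
    · exact Submodule.mem_sup_left e
    · have : v = (v + padw 2) + padw 2 := by rw [← sub_eq_add' (v + padw 2), add_sub_cancel_right]
      rw [this]
      exact Submodule.add_mem_sup e (Submodule.mem_span_singleton_self _)
  have hw : ∃ w ∈ perp (code0 2 B), pv w = 1 := by
    by_contra hne
    push Not at hne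
    have := Submodule.finrank_mono (fun v hv => heven v hv ((zmod_two _).resolve_right (hne v hv)) :
      perp (code0 2 B) ≤ code0 2 B ⊔ P)
    have := hsup (code0 2 B) P
    have : Module.finrank (ZMod 2) P ≤ 1 := hspan (padw 2)
    omega
  refine ⟨hw, ?_⟩
  obtain ⟨w, hw, hw1⟩ := hw
  have hall : perp (code0 2 B) ≤ code0 2 B ⊔ P ⊔ Submodule.span (ZMod 2) {w} := by
    intro v hv
    rcases zmod_two (pv v) with e | e
    · exact Submodule.mem_sup_left (heven v hv e)
    · have : v = (v + w) + w := by rw [← sub_eq_add' (v + w), add_sub_cancel_right]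
      rw [this]
      exact Submodule.add_mem_sup (heven _ (Submodule.add_mem _ hv hw) (by rw [pv_add, e, hw1]; decide))
        (Submodule.mem_span_singleton_self _)
  have := Submodule.finrank_mono hall
  have := hsup (code0 2 B ⊔ P) (Submodule.span (ZMod 2) {w})
  have := hsup (code0 2 B) P
  have : Module.finrank (ZMod 2) P ≤ 1 := hspan (padw 2)
  have := hspan w
  omega

theorem Sys.good2 (h : Sys 2 B) : ∃ C : Submodule (ZMod 2) (Fin 2 ⊕ α → ZMod 2), code0 2 B ≤ C ∧ Good C := by
  classical
  obtain ⟨⟨w0, hw0, hp0⟩, h11⟩ := h.odd_word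
  have hcard : Fintype.card α = 22 := by have := h.card; omega
  have hsys : Cfsg.IsSteinerSystem 3 6 (B : Set (Finset α)) := h.sys
  -- a shortest odd word
  have hex : ∃ u, ∃ w ∈ perp (code0 2 B), pv w = 1 ∧ (upart w).card = u := ⟨_, w0, hw0, hp0, rfl⟩
  obtain ⟨w, hw, hp, hu⟩ := Nat.find_spec hex
  have hmin : ∀ w' ∈ perp (code0 2 B), pv w' = 1 → (upart w).card ≤ (upart w').card := fun w' h1 h2 =>
    hu ▸ Nat.find_min' hex ⟨w', h1, h2, rfl⟩
  set U := upart w with hUdef
  have meet : ∀ b ∈ B, (U ∩ b).card = 1 ∨ (U ∩ b).card = 3 := by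
    intro b hb
    have hpar := h.parity hw hb
    rw [hp, ← Nat.cast_one, ← Nat.cast_add, ZMod.natCast_eq_zero_iff_even, Nat.even_iff, ← hUdef] at hpar
    have hsd := card_sd U b
    rw [hUdef, hsys.1 b hb, ← upart_add (m := 2)] at hsd
    have := hmin (w + ind (pext 2 b)) (Submodule.add_mem _ hw (h.code0_double.1 (ind_pext_mem hb)))
      (by rw [pv_add, hp, pv_pext]; decide)
    rw [hUdef] at this hpar ⊢
    omega
  have mom : ∀ j L, j ≤ 3 → L * (6 - j).choose (3 - j) = (22 - j).choose (3 - j) →
      (B.filter fun c => (U ∩ c).card = 1).card * (1 : ℕ).choose j +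
        (B.filter fun c => (U ∩ c).card = 3).card * (3 : ℕ).choose j = U.card.choose j * L := by
    intro j L hj hL
    have e := Steiner.moment_const hsys ∅ U j (by simpa using hj) (by norm_num) (by simpa [hcard] using hL)
    simp only [sdiff_empty, empty_subset, filter_true] at e
    rw [← e, ← sum_filter_add_sum_filter_not B (fun c => (U ∩ c).card = 1)]
    congr 1
    · rw [sum_congr rfl (g := fun _ => (1 : ℕ).choose j) (fun c hc => by rw [(mem_filter.1 hc).2]), sum_const,
        smul_eq_mul]
    · rw [sum_congr (s₂ := B.filter fun c => (U ∩ c).card = 3) (filter_congr fun c hc => by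
        have := meet c hc; omega) (g := fun _ => (3 : ℕ).choose j) (fun c hc => by rw [(mem_filter.1 hc).2]),
        sum_const, smul_eq_mul]
  have hU7 : U.card = 7 := by
    have e0 := mom 0 77 (by norm_num) (by decide)
    have e1 := mom 1 21 (by norm_num) (by decide)
    have e2 := mom 2 5 (by norm_num) (by decide)
    norm_num [Nat.choose_two_right, -Finset.card_eq_zero] at e0 e1 e2
    have := card_le_univ U
    rw [hcard] at this
    generalize U.card = u at e0 e1 e2 this
    interval_cases u <;> omega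
  have hpadsle : ∀ v : Fin 2 ⊕ α → ZMod 2, (univ.filter fun j => v (Sum.inl j) = 1).card ≤ 2 := fun v =>
    (card_le_univ _).trans (by simp)
  have hodd : ∀ v : Fin 2 ⊕ α → ZMod 2, pv v = 1 → (univ.filter fun j => v (Sum.inl j) = 1).card = 1 := by
    intro v hv
    rw [← pads_card_cast] at hv
    have h2 := hpadsle v
    generalize (univ.filter fun j => v (Sum.inl j) = 1).card = p at hv h2
    interval_cases p <;> first | rfl | exact absurd hv (by decide)
  have hw8 : hammingNorm w = 8 := by
    rw [norm_split_pads, hodd w hp, ← hUdef, hU7]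
  -- the code
  obtain ⟨horth, h4⟩ := span_double (G := insert w ((fun b => ind (pext 2 b)) '' (B : Set (Finset α))))
    (by
      have hwg : ∀ y ∈ (fun b => ind (pext 2 b)) '' (B : Set (Finset α)), ∑ p, w p * y p = 0 := by
        rintro _ ⟨b, hb, rfl⟩; exact hw _ (ind_pext_mem hb)
      rintro x (rfl | hx) y (rfl | hy)
      · rw [inner_eq, inter_self, ← norm_eq, hw8]; decide
      · exact hwg y hy
      · rw [← hwg x hx]; exact sum_congr rfl fun p _ => mul_comm _ _
      · exact h.gens.1 x hx y hy)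
    (by
      rintro x (rfl | hx)
      · rw [hw8]; norm_num
      · rw [h.gens.2 x hx]; norm_num)
  refine ⟨_, Submodule.span_mono (Set.subset_insert _ _), card_sum_eq h, ?_, horth, ?_⟩
  · have hlt : code0 2 B < Submodule.span (ZMod 2) (insert w ((fun b => ind (pext 2 b)) '' (B : Set (Finset α)))) := by
      refine lt_of_le_of_ne (Submodule.span_mono (Set.subset_insert _ _)) fun e => ?_
      have hwc : w ∈ code0 2 B := e ▸ Submodule.subset_span (Set.mem_insert _ _)
      have := h.padw_perp w hwc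
      rw [Fintype.sum_sum_type] at this
      simp only [padw, Sum.elim_inl, Sum.elim_inr, one_mul, zero_mul, sum_const_zero, add_zero] at this
      rw [show ∑ j, w (Sum.inl j) = pv w from rfl, hp] at this
      exact one_ne_zero this
    have h12 := Submodule.finrank_lt_finrank_of_lt hlt
    have hd := finrank_perp (Submodule.span (ZMod 2) (insert w ((fun b => ind (pext 2 b)) '' (B : Set (Finset α)))))
    rw [card_sum_eq h] at hd
    have hle : Submodule.span (ZMod 2) (insert w ((fun b => ind (pext 2 b)) '' (B : Set (Finset α)))) ≤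
        perp (Submodule.span (ZMod 2) (insert w ((fun b => ind (pext 2 b)) '' (B : Set (Finset α))))) :=
      fun x hx => horth x hx
    have := Submodule.finrank_mono hle
    omega
  · intro v hv hv0
    have hv4 := h4 v hv
    have hne : hammingNorm v ≠ 0 := fun e => hv0 (hammingNorm_eq_zero.1 e)
    by_contra hlt
    have hvp : v ∈ perp (code0 2 B) := fun c hc => horth v hv c (Submodule.span_mono (Set.subset_insert _ _) hc)
    have hn := norm_split_pads v
    have h2 := hpadsle v
    have small : ∀ v' : Fin 2 ⊕ α → ZMod 2, v' ∈ perp (code0 2 B) → (upart v').card ≤ 3 → (upart v').card = 0 :=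
      fun v' a b => by rw [h.kill a (by simpa using b), card_empty]
    by_cases h3 : (upart v).card ≤ 3
    · have := small v hvp h3
      omega
    · have hU4 : (upart v).card = 4 := by omega
      have hp0 : pv v = 0 := by
        rw [← pads_card_cast, show (univ.filter fun j => v (Sum.inl j) = 1).card = 0 by omega]; simp
      obtain ⟨s, hs, hsc⟩ := exists_subset_card_eq (s := upart v) (n := 3) (by omega)
      obtain ⟨b, ⟨hb, hsb⟩, -⟩ := hsys.2 s hsc
      have hi := card_le_card (subset_inter hs hsb)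
      rw [hsc] at hi
      have hpar := h.parity hvp hb
      rw [hp0, zero_add, ZMod.natCast_eq_zero_iff_even, Nat.even_iff] at hpar
      have hsd := card_sd (upart v) b
      rw [hsys.1 b hb, ← upart_add (m := 2)] at hsd
      have := card_le_card (inter_subset_left (s₁ := upart v) (s₂ := b))
      have := small _ (Submodule.add_mem _ hvp (h.code0_double.1 (ind_pext_mem hb))) (by omega)
      omega

theorem Sys.good (h : Sys m B) : ∃ C : Submodule (ZMod 2) (Fin m ⊕ α → ZMod 2), code0 m B ≤ C ∧ Good C := by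
  rcases (show m ≤ 1 ∨ m = 2 by have := h.le; omega) with hm | rfl
  · exact ⟨code0 m B, le_rfl, h.good01 hm⟩
  · exact h.good2

/-- renaming of coordinates preserves the span of the blocks -/
theorem code0_comp {π : Equiv.Perm α} (hπ : ∀ b ∈ B, b.image π ∈ B) (τ : Equiv.Perm (Fin m))
    {v : Fin m ⊕ α → ZMod 2} (hv : v ∈ code0 m B) : v ∘ (Equiv.sumCongr τ π.symm) ∈ code0 m B := by
  induction hv using Submodule.span_induction with
  | mem y hy =>
    obtain ⟨b, hb, rfl⟩ := hy
    have : ind (pext m b) ∘ (Equiv.sumCongr τ π.symm) = ind (pext m (b.image π)) := by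
      funext p
      cases p with
      | inl j => simp [ind, pext]
      | inr a =>
        have : a ∈ b.image π ↔ π.symm a ∈ b := by
          rw [mem_image]
          exact ⟨fun ⟨x, hx, e⟩ => by rw [← e, Equiv.symm_apply_apply]; exact hx,
            fun h => ⟨_, h, π.apply_symm_apply a⟩⟩
        simp [ind, pext, this]
    rw [this]
    exact ind_pext_mem (hπ b hb)
  | zero => exact Submodule.zero_mem _
  | add x y _ _ hx hy => exact Submodule.add_mem _ hx hy
  | smul r x _ hx => exact Submodule.smul_mem _ r hx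

theorem perp_comp {π : Equiv.Perm α} (hπ : ∀ b ∈ B, b.image π.symm ∈ B) (τ : Equiv.Perm (Fin m))
    {v : Fin m ⊕ α → ZMod 2} (hv : v ∈ perp (code0 m B)) :
    v ∘ (Equiv.sumCongr τ π.symm) ∈ perp (code0 m B) := by
  intro c hc
  have := hv _ (code0_comp hπ τ.symm hc)
  rw [← this]
  refine Fintype.sum_equiv (Equiv.sumCongr τ π.symm) _ _ fun p => ?_
  cases p <;> simp

/-- a permutation of the points preserving the blocks extends to the code -/
theorem Sys.extend (h : Sys m B) {C : Submodule (ZMod 2) (Fin m ⊕ α → ZMod 2)} (hC : code0 m B ≤ C) (hG : Good C)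
    {π : Equiv.Perm α} (hπ : ∀ b ∈ B, b.image π ∈ B) (hπ' : ∀ b ∈ B, b.image π.symm ∈ B) :
    ∃ τ : Equiv.Perm (Fin m), ∀ v ∈ C, v ∘ (Equiv.sumCongr τ π.symm) ∈ C := by
  have hCp : C ≤ perp (code0 m B) := fun v hv c hc => hG.orth v hv c (hC hc)
  rcases (show m ≤ 1 ∨ m = 2 by have := h.le; omega) with hm | rfl
  · refine ⟨1, fun v hv => hC ?_⟩
    rw [← h.perp_eq hm]
    exact perp_comp hπ' 1 (hCp hv)
  obtain ⟨⟨w, hw, hw1⟩, h11⟩ := h.odd_word
  have hpC : (padw 2 : Fin 2 ⊕ α → ZMod 2) ∉ C := fun hh => by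
    have := hG.min _ hh (fun e => by have := norm_padw (α := α); rw [e] at this; simp at this)
    rw [norm_padw] at this
    omega
  have hperp : ∀ v ∈ perp (code0 2 B), v ∈ C ∨ v + padw 2 ∈ C := by
    have hlt : C < C ⊔ Submodule.span (ZMod 2) {(padw 2 : Fin 2 ⊕ α → ZMod 2)} :=
      lt_of_le_of_ne le_sup_left fun e => hpC (e ▸ Submodule.mem_sup_right (Submodule.mem_span_singleton_self _))
    have := Submodule.finrank_lt_finrank_of_lt hlt
    rw [hG.dim] at this
    have hd := finrank_perp (code0 2 B)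
    rw [card_sum_eq h, h11] at hd
    have he : C ⊔ Submodule.span (ZMod 2) {(padw 2 : Fin 2 ⊕ α → ZMod 2)} = perp (code0 2 B) :=
      Submodule.eq_of_le_of_finrank_le (sup_le hCp (Submodule.span_le.2 (by simpa using h.padw_perp))) (by omega)
    intro v hv
    rw [← he, Submodule.mem_sup] at hv
    obtain ⟨c, hc, y, hy, rfl⟩ := hv
    obtain ⟨r, rfl⟩ := Submodule.mem_span_singleton.1 hy
    rcases zmod_two r with rfl | rfl
    · left; rwa [zero_smul, add_zero]
    · right
      rw [one_smul, add_assoc, ← sub_eq_add' (padw 2), sub_self, add_zero]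
      exact hc
  have heven : ∀ v ∈ C, pv v = 0 → v ∈ code0 2 B := fun v hv hp => by
    rcases h.even_part (hCp hv) hp with e | e
    · exact e
    · exfalso
      have := C.sub_mem (hC e) hv
      rw [add_sub_cancel_left] at this
      exact hpC this
  set τ1 : Equiv.Perm (Fin 2) := Equiv.swap 0 1
  have hswap : ∀ v : Fin 2 ⊕ α → ZMod 2, pv v = 1 →
      v ∘ (Equiv.sumCongr τ1 π.symm) = v ∘ (Equiv.sumCongr 1 π.symm) + padw 2 := by
    intro v hv
    simp only [pv, Fin.sum_univ_two] at hv
    have key : ∀ x y : ZMod 2, x + y = 1 → y = x + 1 ∧ x = y + 1 := by decide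
    obtain ⟨k1, k2⟩ := key _ _ hv
    funext p
    rcases p with j | a
    · fin_cases j
      · simpa [τ1, padw] using k1
      · simpa [τ1, padw] using k2
    · simp [padw]
  by_cases hgood : ∀ v ∈ C, pv v = 1 → v ∘ (Equiv.sumCongr 1 π.symm) ∈ C
  · refine ⟨1, fun v hv => ?_⟩
    rcases zmod_two (pv v) with e | e
    · exact hC (code0_comp hπ 1 (heven v hv e))
    · exact hgood v hv e
  · push Not at hgood
    obtain ⟨v0, hv0, hp0, hbad⟩ := hgood
    refine ⟨τ1, fun v hv => ?_⟩
    rcases zmod_two (pv v) with e | e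
    · exact hC (code0_comp hπ τ1 (heven v hv e))
    · rw [hswap v e]
      refine (hperp _ (perp_comp hπ' 1 (hCp hv))).resolve_left fun hin => hbad ?_
      have hd := hC (code0_comp hπ 1 (heven _ (C.add_mem hv hv0) (by rw [pv_add, e, hp0]; decide)))
      have := C.add_mem hin hd
      rwa [show v ∘ (Equiv.sumCongr 1 π.symm) + (v + v0) ∘ (Equiv.sumCongr 1 π.symm) =
        v0 ∘ (Equiv.sumCongr 1 π.symm) from funext fun p => by
          simp only [Pi.add_apply, Function.comp_apply, ← add_assoc, CharTwo.add_self_eq_zero, zero_add]] at this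

theorem mem_setSystemAut {γ : Type*} [Fintype γ] [DecidableEq γ] {S : Set (Finset γ)} {π : Equiv.Perm γ}
    (h : ∀ b ∈ S, b.image π ∈ S) : π ∈ Cfsg.setSystemAut S := by
  rw [MulAction.mem_stabilizer_iff]
  refine Set.eq_of_subset_of_ncard_le ?_ ?_ (Set.toFinite _)
  · rintro _ ⟨b, hb, rfl⟩
    exact h b hb
  · rw [Set.ncard_smul_set]

theorem good_golay : Good Cfsg.golayCode := ⟨rfl, S0358.result,
    fun v hv w hw => Spor.code_orth hv hw, fun w hw h0 => by
      rcases S0359.result w hw with h | h | h | h | h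
      · exact absurd (hammingNorm_eq_zero.1 h) h0
      all_goals omega⟩

theorem mem_octads_iff (o : Finset Cfsg.GolayPt) :
    o ∈ Cfsg.octads ↔ ind o ∈ Cfsg.golayCode ∧ o.card = 8 := by
  have e : ∀ v : Cfsg.GolayPt → ZMod 2, Cfsg.support₂ v = supp v := fun v => by
    ext p; simp [Spor.mem_support₂, supp]
  constructor
  · rintro ⟨⟨v, hv, rfl⟩, h8⟩
    rw [e] at h8 ⊢
    exact ⟨by rw [ind_supp]; exact hv, h8⟩
  · rintro ⟨ho, h8⟩
    exact ⟨⟨ind o, ho, by rw [e, supp_ind]⟩, h8⟩

theorem ind_image {ι κ : Type*} [DecidableEq ι] [DecidableEq κ] (e : ι ≃ κ) (s : Finset ι) :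
    (fun i => ind (s.image e) (e i)) = ind s := by
  funext i
  simp [ind]

/-- the standard model of a system -/
theorem Sys.model (h : Sys m B) (x : Fin m ↪ Cfsg.GolayPt) :
    ∃ e : Fin m ⊕ α ≃ Cfsg.GolayPt, (∀ j, e (Sum.inl j) = x j) ∧
      (∀ s : Finset α, s ∈ B ↔ (pext m s).image e ∈ Cfsg.octads) ∧
      ∀ π : Equiv.Perm α, (∀ b ∈ B, b.image π ∈ B) → (∀ b ∈ B, b.image π.symm ∈ B) →
        ∃ τ : Equiv.Perm (Fin m), e.permCongr (Equiv.sumCongr τ π) ∈ Cfsg.M24 := by
  classical
  have hm := h.le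
  obtain ⟨C, hC, hG⟩ := h.good
  obtain ⟨e0, he0⟩ := good_equiv hG good_golay
  obtain ⟨σ, hσ, hσx⟩ := Spor.M24_trans (k := m) (by omega)
    ⟨fun j => e0 (Sum.inl j), fun i j hij => Sum.inl_injective (e0.injective hij)⟩ x
  set e := e0.trans σ
  have hrel : ∀ s : Finset (Fin m ⊕ α), s.image e ∈ Cfsg.octads ↔ ind s ∈ C ∧ s.card = 8 := by
    intro s
    rw [show s.image e = σ • s.image e0 from by
        rw [Finset.smul_finset_def, image_image]; rfl,
      Spor.smul_octad_iff hσ, mem_octads_iff, he0, ind_image, card_image_of_injective _ e0.injective]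
  have hx : ∀ j, e (Sum.inl j) = x j := fun j => hσx j
  obtain ⟨F, hF⟩ := Steiner.exists_finset Cfsg.octads
  have hoct : Cfsg.IsSteinerSystem 5 8 (F : Set (Finset Cfsg.GolayPt)) := hF ▸ Spor.octads_steiner
  have hfwd : ∀ b ∈ B, (pext m b).image e ∈ Cfsg.octads := fun b hb =>
    (hrel _).2 ⟨hC (ind_pext_mem hb), by rw [card_pext, h.sys.1 b hb]; omega⟩
  have hP : (univ.image x).card = m := by rw [card_image_of_injective _ x.injective, card_univ, Fintype.card_fin]
  have hPsub : ∀ s : Finset α, univ.image x ⊆ (pext m s).image e := fun s p hp => by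
    obtain ⟨j, -, rfl⟩ := mem_image.1 hp
    exact mem_image.2 ⟨Sum.inl j, by simp [pext], hx j⟩
  have hinj : Function.Injective fun b : Finset α => (pext m b).image e := fun b c hbc => by
    have := image_injective e.injective hbc
    ext a
    simpa [pext] using congrArg (fun S => Sum.inr a ∈ S) this
  have hall : B.image (fun b => (pext m b).image e) = F.filter fun o => univ.image x ⊆ o := by
    refine eq_of_subset_of_card_le (fun o ho => ?_) (le_of_eq ?_)
    · obtain ⟨b, hb, rfl⟩ := mem_image.1 ho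
      exact mem_filter.2 ⟨by rw [← mem_coe, ← hF]; exact hfwd b hb, hPsub b⟩
    · rw [card_image_of_injective _ hinj]
      have e1 := Steiner.cov_mul hoct (S := univ.image x) (by omega)
      have e2 := Steiner.ncard_mul h.sys
      rw [hP, show Fintype.card Cfsg.GolayPt = 24 from rfl, show 24 - m = Fintype.card α by have := h.card; omega,
        ← e2] at e1
      exact Nat.eq_of_mul_eq_mul_right (Nat.choose_pos (by omega)) e1
  refine ⟨e, hx, fun s => ⟨hfwd s, fun hs => ?_⟩, fun π hπ hπ' => ?_⟩
  · have : (pext m s).image e ∈ B.image (fun b => (pext m b).image e) := by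
      rw [hall]; exact mem_filter.2 ⟨by rw [← mem_coe, ← hF]; exact hs, hPsub s⟩
    obtain ⟨b, hb, hbe⟩ := mem_image.1 this
    rw [← hinj hbe]; exact hb
  · obtain ⟨τ, hτ⟩ := h.extend hC hG hπ hπ'
    refine ⟨τ.symm, ?_⟩
    rw [S0369.result]
    refine mem_setSystemAut fun o ho => ?_
    have hoe : (o.image e.symm).image e = o := by
      rw [image_image, show e ∘ e.symm = id from funext e.apply_symm_apply, image_id]
    rw [← hoe, hrel] at ho
    rw [← hoe, image_image, show (e.permCongr (Equiv.sumCongr τ.symm π)) ∘ e =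
      e ∘ (Equiv.sumCongr τ.symm π) from funext fun p => by simp [Equiv.permCongr_apply], ← image_image, hrel]
    refine ⟨?_, by rw [card_image_of_injective _ (Equiv.injective _)]; exact ho.2⟩
    have := hτ _ ho.1
    convert this using 1
    funext p
    have hp : (Equiv.sumCongr τ.symm π) ((Equiv.sumCongr τ π.symm) p) = p := by cases p <;> simp
    conv_lhs => rw [← hp]
    exact congrFun (ind_image _ _) _

/-- the embedding of the points in the standard model, with the automorphisms -/
theorem Sys.aut_equiv (h : Sys m B) (x : Fin m ↪ Cfsg.GolayPt) :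
    ∃ g : α → Cfsg.GolayPt, Function.Injective g ∧ (∀ p, (∃ a, g a = p) ↔ p ∉ univ.image x) ∧
      ∃ Φ : MulAction.stabilizer Cfsg.M24 (univ.image x) ≃* Cfsg.setSystemAut (B : Set (Finset α)),
        ∀ σ a, g ((Φ σ : Equiv.Perm α) a) = ((σ : Cfsg.M24) : Equiv.Perm Cfsg.GolayPt) (g a) := by
  classical
  obtain ⟨e, hx, hB, hπ⟩ := h.model x
  set g : α → Cfsg.GolayPt := fun a => e (Sum.inr a) with hg
  set P := univ.image x with hPdef
  have ginj : Function.Injective g := fun a b hab => Sum.inr_injective (e.injective hab)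
  have grange : ∀ p, (∃ a, g a = p) ↔ p ∉ P := by
    intro p
    obtain ⟨q, rfl⟩ := e.surjective p
    simp only [hPdef, mem_image, mem_univ, true_and]
    cases q with
    | inl j => exact ⟨fun ⟨a, ha⟩ => absurd (e.injective ha) Sum.inr_ne_inl, fun hh => absurd ⟨j, (hx j).symm⟩ hh⟩
    | inr a => exact ⟨fun _ ⟨j, hj⟩ => absurd (e.injective ((hx j).trans hj)) Sum.inl_ne_inr, fun _ => ⟨a, rfl⟩⟩
  have himg : ∀ s : Finset α, (pext m s).image e = P ∪ s.image g := by
    intro s
    ext p
    simp only [pext, mem_image, mem_union, mem_disjSum, hPdef, mem_univ, true_and]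
    constructor
    · rintro ⟨q, (⟨j, rfl⟩ | ⟨a, ha, rfl⟩), rfl⟩
      · exact Or.inl ⟨j, (hx j).symm⟩
      · exact Or.inr ⟨a, ha, rfl⟩
    · rintro (⟨j, rfl⟩ | ⟨a, ha, rfl⟩)
      · exact ⟨_, Or.inl ⟨j, rfl⟩, hx j⟩
      · exact ⟨_, Or.inr ⟨a, ha, rfl⟩, rfl⟩
  set S := MulAction.stabilizer Cfsg.M24 P
  have hmove : ∀ (σ : S) (a : α), ∃ b, g b = ((σ : Cfsg.M24) : Equiv.Perm Cfsg.GolayPt) (g a) := by
    intro σ a
    rw [grange]
    intro hh
    have hPσ : ((σ : Cfsg.M24) : Equiv.Perm Cfsg.GolayPt) • P = P := σ.2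
    rw [← hPσ] at hh
    exact (grange _).1 ⟨a, rfl⟩ ((Finset.smul_mem_smul_finset_iff _).1 hh)
  choose f hf using hmove
  have finj : ∀ σ, Function.Injective (f σ) := fun σ a b hab =>
    ginj (((σ : Cfsg.M24) : Equiv.Perm Cfsg.GolayPt).injective (by rw [← hf, ← hf, hab]))
  let F : S → Equiv.Perm α := fun σ => Equiv.ofBijective (f σ) (Finite.injective_iff_bijective.1 (finj σ))
  have hF : ∀ σ a, g (F σ a) = ((σ : Cfsg.M24) : Equiv.Perm Cfsg.GolayPt) (g a) := hf
  have hmem : ∀ σ, F σ ∈ Cfsg.setSystemAut (B : Set (Finset α)) := by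
    intro σ
    refine mem_setSystemAut fun b hb => ?_
    rw [mem_coe] at hb ⊢
    rw [hB, himg] at hb ⊢
    have e1 : P ∪ (b.image (F σ)).image g = ((σ : Cfsg.M24) : Equiv.Perm Cfsg.GolayPt) • (P ∪ b.image g) := by
      rw [Finset.smul_finset_union, show ((σ : Cfsg.M24) : Equiv.Perm Cfsg.GolayPt) • P = P from σ.2,
        Finset.smul_finset_def, image_image, image_image]
      congr 1
      exact image_congr fun a _ => hF σ a
    rw [e1]
    exact Spor.smul_octad (σ : Cfsg.M24).2 hb
  let Φ : S →* Cfsg.setSystemAut (B : Set (Finset α)) := MonoidHom.mk' (fun σ => ⟨F σ, hmem σ⟩) fun σ τ => by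
    refine Subtype.ext (Equiv.ext fun a => ginj ?_)
    show g (F (σ * τ) a) = g (F σ (F τ a))
    rw [hF, hF, hF]
    rfl
  have hΦ : Function.Bijective Φ := by
    constructor
    · rw [injective_iff_map_eq_one]
      intro σ hσ
      have hfix : ∀ a, ((σ : Cfsg.M24) : Equiv.Perm Cfsg.GolayPt) (g a) = g a := fun a => by
        rw [← hF]
        have := congrArg (fun p : Cfsg.setSystemAut (B : Set (Finset α)) => (p : Equiv.Perm α) a) hσ
        exact congrArg g this
      refine Subtype.ext (Subtype.ext ?_)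
      refine Spor.eq_one_of_fix_ten (σ : Cfsg.M24).2 (F := univ.image g) ?_ fun p hp => ?_
      · rw [card_image_of_injective _ ginj, card_univ]; have := h.card; have := h.le; omega
      · obtain ⟨a, -, rfl⟩ := mem_image.1 hp; exact hfix a
    · rintro ⟨π, hπmem⟩
      have hfwd : ∀ π' ∈ Cfsg.setSystemAut (B : Set (Finset α)), ∀ b ∈ B, b.image π' ∈ B := fun π' h' b hb => by
        rw [← mem_coe, ← MulAction.mem_stabilizer_iff.1 h']
        exact ⟨b, hb, rfl⟩
      obtain ⟨τ, hτ⟩ := hπ π (hfwd π hπmem) (hfwd π⁻¹ (inv_mem hπmem))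
      have hP : (e.permCongr (Equiv.sumCongr τ π)) • P = P := by
        refine eq_of_subset_of_card_le (fun p hp => ?_) (by rw [card_smul_finset])
        obtain ⟨q, hq, rfl⟩ := Finset.mem_smul_finset.1 hp
        obtain ⟨j, -, rfl⟩ := mem_image.1 hq
        refine mem_image.2 ⟨τ j, mem_univ _, ?_⟩
        show x (τ j) = (e.permCongr (Equiv.sumCongr τ π)) (x j)
        rw [← hx j, Equiv.permCongr_apply, Equiv.symm_apply_apply, ← hx (τ j)]
        rfl
      refine ⟨⟨⟨_, hτ⟩, hP⟩, Subtype.ext (Equiv.ext fun a => ginj ?_)⟩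
      show g (F _ a) = g (π a)
      rw [hF]
      show (e.permCongr (Equiv.sumCongr τ π)) (e (Sum.inr a)) = e (Sum.inr (π a))
      rw [Equiv.permCongr_apply, Equiv.symm_apply_apply]
      rfl
  exact ⟨g, ginj, grange, MulEquiv.ofBijective Φ hΦ, fun σ a => hF σ a⟩

/-- any two systems with the same number of extra points are isomorphic -/
theorem Sys.iso (h : Sys m B) {β : Type*} [Fintype β] [DecidableEq β] {B' : Finset (Finset β)} (h' : Sys m B') :
    Cfsg.SetSystemIso (B : Set (Finset α)) (B' : Set (Finset β)) := by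
  classical
  have hm := h.le
  obtain ⟨x⟩ : Nonempty (Fin m ↪ Cfsg.GolayPt) := Function.Embedding.nonempty_of_card_le (by
    rw [Fintype.card_fin, show Fintype.card Cfsg.GolayPt = 24 from rfl]; omega)
  obtain ⟨e, hx, hB, -⟩ := h.model x
  obtain ⟨e', hx', hB', -⟩ := h'.model x
  set E := e.trans e'.symm
  have hl : ∀ j, E (Sum.inl j) = Sum.inl j := fun j => by
    show e'.symm (e (Sum.inl j)) = _
    rw [hx, ← hx', Equiv.symm_apply_apply]
  have hr : ∀ a, ∃ b, E (Sum.inr a) = Sum.inr b := fun a => by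
    rcases hE : E (Sum.inr a) with j | b
    · exact absurd (E.injective (hE.trans (hl j).symm)) Sum.inr_ne_inl
    · exact ⟨b, rfl⟩
  choose f hf using hr
  have finj : Function.Injective f := fun a b hab => Sum.inr_injective (E.injective (by rw [hf, hf, hab]))
  have hc : Fintype.card α = Fintype.card β := by have := h.card; have := h'.card; omega
  refine ⟨Equiv.ofBijective f ((Fintype.bijective_iff_injective_and_card f).2 ⟨finj, hc⟩), ?_⟩
  have key : ∀ s : Finset α, (pext m (s.image f)).image e' = (pext m s).image e := by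
    intro s
    have : pext m (s.image f) = (pext m s).image E := by
      ext q
      simp only [pext, mem_disjSum, mem_image, mem_univ, true_and]
      constructor
      · rintro (⟨j, rfl⟩ | ⟨b, ⟨a, ha, rfl⟩, rfl⟩)
        · exact ⟨_, Or.inl ⟨j, rfl⟩, hl j⟩
        · exact ⟨_, Or.inr ⟨a, ha, rfl⟩, hf a⟩
      · rintro ⟨q', (⟨j, rfl⟩ | ⟨a, ha, rfl⟩), rfl⟩
        · exact Or.inl ⟨j, (hl j).symm⟩
        · exact Or.inr ⟨f a, ⟨a, ha, rfl⟩, (hf a).symm⟩
    rw [this, image_image]
    congr 1
    funext q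
    simp [E]
  ext t
  simp only [Set.mem_image, mem_coe, Equiv.ofBijective_apply]
  constructor
  · rintro ⟨s, hs, rfl⟩
    rw [hB']
    show (pext m (s.image f)).image e' ∈ _
    rw [key, ← hB]; exact hs
  · intro ht
    have fsurj : Function.Surjective f := ((Fintype.bijective_iff_injective_and_card f).2 ⟨finj, hc⟩).2
    refine ⟨univ.filter fun a => f a ∈ t, ?_, ?_⟩
    · have : (univ.filter fun a => f a ∈ t).image f = t := by
        ext b; obtain ⟨a, rfl⟩ := fsurj b
        simp [finj.eq_iff]
      rw [hB, ← key, this, ← hB']; exact ht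
    · ext b; obtain ⟨a, rfl⟩ := fsurj b
      simp [finj.eq_iff]

/-- the automorphisms act (5 - m)-transitively -/
theorem Sys.aut_trans (h : Sys m B) :
    MulAction.IsMultiplyPretransitive (Cfsg.setSystemAut (B : Set (Finset α))) α (5 - m) := by
  classical
  have hm := h.le
  obtain ⟨x⟩ : Nonempty (Fin m ↪ Cfsg.GolayPt) := Function.Embedding.nonempty_of_card_le (by
    rw [Fintype.card_fin, show Fintype.card Cfsg.GolayPt = 24 from rfl]; omega)
  obtain ⟨g, ginj, grange, Φ, hΦ⟩ := h.aut_equiv x
  have mk : ∀ a : Fin (5 - m) ↪ α, ∃ y : Fin (m + (5 - m)) ↪ Cfsg.GolayPt,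
      (∀ j, y (Fin.castAdd _ j) = x j) ∧ ∀ i, y (Fin.natAdd m i) = g (a i) := by
    intro a
    refine ⟨⟨Fin.append x (g ∘ a), Fin.append_injective_iff.2 ⟨x.injective, ginj.comp a.injective, ?_⟩⟩,
      fun j => Fin.append_left _ _ j, fun i => Fin.append_right _ _ i⟩
    intro j i hji
    exact (grange _).1 ⟨a i, hji.symm⟩ (mem_image.2 ⟨j, mem_univ _, rfl⟩)
  refine ⟨fun a b => ?_⟩
  obtain ⟨y, y1, y2⟩ := mk a
  obtain ⟨z, z1, z2⟩ := mk b
  obtain ⟨σ, hσ, hyz⟩ := Spor.M24_trans (k := m + (5 - m)) (by omega) y z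
  have hfix : ∀ j, σ (x j) = x j := fun j => by
    rw [← y1 j, hyz, z1, y1]
  have hP : σ • univ.image x = univ.image x := by
    rw [Finset.smul_finset_def, image_image]
    exact image_congr fun j _ => hfix j
  refine ⟨Φ ⟨⟨σ, hσ⟩, hP⟩, DFunLike.ext _ _ fun i => ginj ?_⟩
  show g ((Φ ⟨⟨σ, hσ⟩, hP⟩ : Equiv.Perm α) (a i)) = g (b i)
  rw [hΦ, ← y2, ← z2]
  exact hyz _

end Cfsg.Agent.Spor.Code24
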