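import Cfsg.Agent.Lib.Spor.PlaneFour
import Cfsg.Agent.Lib.Spor.SteinerUnique
import Cfsg.Agent.S0385

/-!
The systems S(5,6,12) and S(4,5,11): uniqueness and automorphism groups. A block, an enumeration of the
complementary block and the outer automorphism of six letters give coordinates.
-/

set_option autoImplicit false
set_option maxHeartbeats 1000000

namespace Cfsg.Agent.Spor.SmallSys

open Finset
open scoped Pointwise
open PlaneFour (synth total Apart)

/-- the syntheme common to two totals -/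
def sy : Fin 6 → Fin 6 → Fin 15 :=
  ![![0, 0, 12, 10, 8, 4], ![0, 0, 7, 5, 9, 13], ![12, 7, 0, 1, 3, 11], ![10, 5, 1, 0, 14, 6], ![8, 9, 3, 14, 0, 2],
    ![4, 13, 11, 6, 2, 0]]

/-- the pairs used by the model -/
def Pairs (S R : Finset (Fin 6)) : Prop := ∀ i ∈ S, ∀ j ∈ S, i ≠ j → ∀ k ∈ R, synth (sy i j) k ∈ R

/-- the pairs avoided by the model -/
def NoPairs (S R : Finset (Fin 6)) : Prop := ∀ i ∈ S, ∀ j ∈ S, i ≠ j → ∀ k ∈ R, synth (sy i j) k ∉ R

instance (S R : Finset (Fin 6)) : Decidable (Pairs S R) := inferInstanceAs (Decidable (∀ _ ∈ S, _))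

instance (S R : Finset (Fin 6)) : Decidable (NoPairs S R) := inferInstanceAs (Decidable (∀ _ ∈ S, _))

/-- shape of a block of the model -/
def Shape (L R : Finset (Fin 6)) : Prop :=
  L.card = 6 ∨ L.card = 0 ∨ (L.card = 4 ∧ Pairs Lᶜ R) ∨ (L.card = 2 ∧ Pairs L Rᶜ) ∨ (L.card = 3 ∧ NoPairs Lᶜ R)

instance (L R : Finset (Fin 6)) : Decidable (Shape L R) := inferInstanceAs (Decidable (_ ∨ _))

/-- the model -/
def model : Finset (Finset (Fin 6 ⊕ Fin 6)) :=
  (univ.powersetCard 6).filter fun X => Shape X.toLeft X.toRight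

theorem card_model : model.card ≤ 132 := by decide +kernel

theorem apart_sy : ∀ s t : Fin 6, ∀ a ∈ total s, a ∈ total t → s ≠ t → a = sy s t := by decide +kernel

theorem total_inter : ∀ s t : Fin 6, ∀ a ∈ total s, ∀ b ∈ total s, a ≠ b → a ∈ total t → b ∈ total t → s = t := by
  decide +kernel

theorem sy_inj : ∀ i j i' j' : Fin 6, i ≠ j → i' ≠ j' → sy i j = sy i' j' → (i' = i ∧ j' = j) ∨ (i' = j ∧ j' = i) := by
  decide +kernel

set_option synthInstance.maxSize 4000 in
set_option synthInstance.maxHeartbeats 200000 in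
theorem three_in_total : ∀ t : Fin 6, ∀ a ∈ total t, ∀ b ∈ total t, ∀ c ∈ total t, a ≠ b → a ≠ c → b ≠ c →
    ∀ R ∈ (univ : Finset (Fin 6)).powersetCard 3, ∃ k ∈ R, synth a k ∈ R ∨ synth b k ∈ R ∨ synth c k ∈ R := by
  decide +kernel

theorem synth_inj : ∀ a b : Fin 15, (∀ k, synth a k = synth b k) → a = b := by decide +kernel

theorem apart_total {T : Finset (Fin 15)} (hT : T.card = 5) (h : ∀ a ∈ T, ∀ b ∈ T, a ≠ b → Apart a b) :
    ∃ t, T = total t := by
  obtain ⟨a, ha, b, hb, hab⟩ := one_lt_card.1 (show 1 < T.card by omega)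
  obtain ⟨t, hta, htb, ht⟩ := PlaneFour.total_unique a b (h a ha b hb hab)
  have ht5 : ∀ t, (total t).card = 5 := by decide +kernel
  refine ⟨t, eq_of_subset_of_card_le (fun c hc => ?_) (by rw [hT, ht5])⟩
  by_cases hca : c = a
  · subst hca; exact hta
  by_cases hcb : c = b
  · subst hcb; exact htb
  obtain ⟨d, hd, hdn⟩ := exists_mem_notMem_of_card_lt_card (s := ({a, b, c} : Finset (Fin 15))) (t := T) (by
    rw [hT, card_eq_three.2 ⟨a, b, c, hab, Ne.symm hca, Ne.symm hcb, rfl⟩]; norm_num)
  simp only [mem_insert, mem_singleton, not_or] at hdn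
  exact ht c (h a ha c hc (Ne.symm hca)) (h b hb c hc (Ne.symm hcb)) d (h a ha d hd (Ne.symm hdn.1))
    (h b hb d hd (Ne.symm hdn.2.1)) (h c hc d hd (Ne.symm hdn.2.2))

variable {α : Type*} [Fintype α] [DecidableEq α] {B : Finset (Finset α)}

section Twelve

variable (hα : Fintype.card α = 12) (hB : Cfsg.IsSteinerSystem 5 6 (B : Set (Finset α)))
include hα hB

omit hα in
omit [Fintype α] in
theorem inter_le {b c : Finset α} (hb : b ∈ B) (hc : c ∈ B) (hne : b ≠ c) : (b ∩ c).card ≤ 4 := by
  by_contra h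
  exact hne (Steiner.block_eq hB hb hc (by omega))

theorem inter_not {b c : Finset α} (hb : b ∈ B) (hc : c ∈ B) :
    (b ∩ c).card ≠ 1 ∧ (b ∩ c).card ≠ 5 := by
  refine ⟨fun e => ?_, fun e => ?_⟩
  · have : c ∈ B.filter fun c => (b ∩ c).card = 1 := mem_filter.2 ⟨hc, e⟩
    rw [card_eq_zero.1 (Steiner.five_six hα hB hb).2] at this
    exact notMem_empty _ this
  · by_cases hne : b = c
    · subst hne; rw [inter_self, hB.1 b hb] at e; omega
    · have := inter_le hB hb hc hne; omega

theorem compl_mem {b : Finset α} (hb : b ∈ B) : bᶜ ∈ B := by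
  obtain ⟨c, hc⟩ := card_pos.1 (show 0 < (B.filter fun c => (b ∩ c).card = 0).card by
    rw [(Steiner.five_six hα hB hb).1]; norm_num)
  rw [mem_filter, card_eq_zero, ← disjoint_iff_inter_eq_empty] at hc
  have : c = bᶜ := eq_of_subset_of_card_le (fun x hx => mem_compl.2 fun hxb => disjoint_left.1 hc.2 hxb hx)
    (by rw [card_compl, hα, hB.1 b hb, hB.1 c hc.1])
  rw [← this]; exact hc.1

theorem card_blocks : B.card = 132 := by
  have e := Steiner.ncard_mul hB
  rw [hα] at e
  norm_num [Nat.choose] at e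
  omega

/-- coordinates from a block and an enumeration of its complement -/
theorem coords {H : Finset α} (hH : H ∈ B) (κ : Fin 6 ↪ α) (hκ : ∀ i, κ i ∉ H) :
    ∃ Ψ : α ≃ Fin 6 ⊕ Fin 6, (∀ i, Ψ (κ i) = Sum.inr i) ∧ (∀ c, c ∈ B ↔ c.image Ψ ∈ model) := by
  classical
  have hH6 := hB.1 H hH
  have hK : Hᶜ ∈ B := compl_mem hα hB hH
  have hKeq : univ.image κ = Hᶜ := eq_of_subset_of_card_le
    (fun x hx => by obtain ⟨i, -, rfl⟩ := mem_image.1 hx; exact mem_compl.2 (hκ i))
    (by rw [card_compl, hα, hH6, card_image_of_injective _ κ.injective, card_univ, Fintype.card_fin])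
  have κsurj : ∀ x, x ∉ H → ∃ i, κ i = x := fun x hx => by
    have : x ∈ univ.image κ := hKeq ▸ mem_compl.2 hx
    obtain ⟨i, -, e⟩ := mem_image.1 this
    exact ⟨i, e⟩
  -- partners
  have pex : ∀ u v : H, u ≠ v → ∀ k, ∃ k', k' ≠ k ∧
      (H \ {(u : α), (v : α)}) ∪ {κ k, κ k'} ∈ B := by
    intro u v huv k
    set s := H \ {(u : α), (v : α)}
    have hs : s.card = 4 := by
      rw [card_sdiff_of_subset (insert_subset u.2 (singleton_subset_iff.2 v.2)), hH6,
        card_pair (fun e => huv (Subtype.ext e))]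
    have hks : κ k ∉ s := fun h => hκ k (mem_sdiff.1 h).1
    obtain ⟨c, ⟨hc, hsc⟩, -⟩ := hB.2 (insert (κ k) s) (by rw [card_insert_of_notMem hks, hs])
    rw [insert_subset_iff] at hsc
    have hne : H ≠ c := fun e => hκ k (e ▸ hsc.1)
    have hHc : H ∩ c = s := (eq_of_subset_of_card_le (subset_inter sdiff_subset hsc.2)
      (by rw [hs]; exact inter_le hB hH hc hne)).symm
    obtain ⟨x, hx⟩ := card_eq_one.1 (show (c \ insert (κ k) s).card = 1 by
      rw [card_sdiff_of_subset (insert_subset hsc.1 hsc.2), hB.1 c hc, card_insert_of_notMem hks, hs])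
    have hx' := mem_sdiff.1 (hx ▸ mem_singleton_self x : x ∈ c \ insert (κ k) s)
    have hxH : x ∉ H := fun h => hx'.2 (mem_insert_of_mem (hHc ▸ mem_inter.2 ⟨h, hx'.1⟩))
    obtain ⟨k', rfl⟩ := κsurj x hxH
    refine ⟨k', fun e => hx'.2 (e ▸ mem_insert_self _ _), ?_⟩
    convert mem_coe.1 hc using 1
    refine eq_of_subset_of_card_le (union_subset hsc.2 (insert_subset hsc.1 (singleton_subset_iff.2 hx'.1))) ?_
    rw [hB.1 c hc, card_union_of_disjoint, hs,
      card_pair (fun e : κ k = κ k' => hx'.2 (by rw [← e]; exact mem_insert_self _ _))]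
    rw [disjoint_left]
    intro y hy hy'
    rw [mem_insert, mem_singleton] at hy'
    rcases hy' with rfl | rfl <;> exact hκ _ (mem_sdiff.1 hy).1
  choose p hpne hpB using pex
  have puniq : ∀ (u v : H) (huv : u ≠ v) k k', k' ≠ k → (H \ {(u : α), (v : α)}) ∪ {κ k, κ k'} ∈ B → p u v huv k = k' := by
    intro u v huv k k' hne hmem
    by_contra hne'
    have hs : (H \ {(u : α), (v : α)}).card = 4 := by
      rw [card_sdiff_of_subset (insert_subset u.2 (singleton_subset_iff.2 v.2)), hH6,
        card_pair (fun e => huv (Subtype.ext e))]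
    have hks : κ k ∉ H \ {(u : α), (v : α)} := fun h => hκ k (mem_sdiff.1 h).1
    have e := Steiner.block_eq hB (hpB u v huv k) hmem (le_trans (by rw [card_insert_of_notMem hks, hs] :
      5 ≤ (insert (κ k) (H \ {(u : α), (v : α)})).card) (card_le_card fun y hy => by
        simp only [mem_insert, mem_inter, mem_union, mem_singleton] at hy ⊢; tauto))
    have : κ (p u v huv k) ∈ (H \ {(u : α), (v : α)}) ∪ {κ k, κ k'} := e ▸ by simp
    simp only [mem_union, mem_insert, mem_singleton, mem_sdiff] at this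
    rcases this with h | h | h
    · exact hκ _ h.1
    · exact hpne u v huv k (κ.injective h)
    · exact hne' (κ.injective h)
  have psym : ∀ u v huv, p v u (Ne.symm huv) = p u v huv := fun u v huv => funext fun k =>
    puniq v u _ k _ (hpne u v huv k) (by rw [pair_comm (v : α)]; exact hpB u v huv k)
  have pinv : ∀ u v huv k, p u v huv (p u v huv k) = k := fun u v huv k =>
    puniq u v huv _ k (Ne.symm (hpne u v huv k)) (by rw [pair_comm (κ _)]; exact hpB u v huv k)
  have hex : ∀ u v huv, ∃ a, synth a = p u v huv := fun u v huv =>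
    PlaneFour.synth_exists _ (hpne u v huv) (pinv u v huv)
  choose φ hφ using hex
  have φsym : ∀ u v huv, φ v u (Ne.symm huv) = φ u v huv := fun u v huv =>
    synth_inj _ _ fun k => by rw [hφ, hφ, psym]
  have hapart : ∀ u v w (huv : u ≠ v) (huw : u ≠ w), v ≠ w → Apart (φ u v huv) (φ u w huw) := by
    intro u v w huv huw hvw k e
    rw [hφ, hφ] at e
    have h1 := hpB u v huv k
    have h2 := hpB u w huw k
    rw [← e] at h2
    have hs : (H \ {(u : α), (v : α), (w : α)}).card = 3 := by
      rw [card_sdiff_of_subset (insert_subset u.2 (insert_subset v.2 (singleton_subset_iff.2 w.2))), hH6,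
        card_eq_three.2 ⟨_, _, _, fun e => huv (Subtype.ext e), fun e => huw (Subtype.ext e),
          fun e => hvw (Subtype.ext e), rfl⟩]
    have e' := Steiner.block_eq hB h1 h2 (le_trans (show 5 ≤ (H \ {(u : α), (v : α), (w : α)} ∪
        {κ k, κ (p u v huv k)}).card by
      rw [card_union_of_disjoint, hs, card_pair (fun e => hpne u v huv k (κ.injective e).symm)]
      rw [disjoint_left]
      intro y hy hy'
      rw [mem_insert, mem_singleton] at hy'
      rcases hy' with rfl | rfl <;> exact hκ _ (mem_sdiff.1 hy).1) (card_le_card fun y hy => by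
        simp only [mem_insert, mem_inter, mem_union, mem_singleton, mem_sdiff, not_or] at hy ⊢; tauto))
    have : (v : α) ∈ (H \ {(u : α), (v : α)}) ∪ {κ k, κ (p u v huv k)} := e' ▸ mem_union_left _ (mem_sdiff.2
      ⟨v.2, by
        simp only [mem_insert, mem_singleton, not_or]
        exact ⟨fun e => huv (Subtype.ext e).symm, fun e => hvw (Subtype.ext e)⟩⟩)
    simp only [mem_union, mem_insert, mem_singleton, mem_sdiff, not_or] at this
    rcases this with h | h | h
    · exact h.2.2 trivial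
    · exact hκ _ (h ▸ v.2)
    · exact hκ _ (h ▸ v.2)
  have tex : ∀ u : H, ∃ t, ∀ v (huv : u ≠ v), φ u v huv ∈ total t := by
    intro u
    set T := ((univ : Finset H).erase u).attach.image fun v => φ u v.1 (mem_erase.1 v.2).1.symm with hTdef
    obtain ⟨t, ht⟩ := apart_total (T := T) (by
        rw [hTdef, card_image_of_injective, card_attach, card_erase_of_mem (mem_univ u), card_univ,
          Fintype.card_coe, hH6]
        intro v w e
        by_contra hne
        have := hapart u v.1 w.1 (mem_erase.1 v.2).1.symm (mem_erase.1 w.2).1.symm (fun e => hne (Subtype.ext e)) 0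
        simp only at e
        rw [e] at this
        exact this rfl)
      (fun a ha b hb hne => by
        obtain ⟨v, -, rfl⟩ := mem_image.1 ha
        obtain ⟨w, -, rfl⟩ := mem_image.1 hb
        exact hapart u v.1 w.1 _ _ fun e => hne (by rw [Subtype.ext e]))
    exact ⟨t, fun v huv => ht ▸ mem_image.2 ⟨⟨v, mem_erase.2 ⟨Ne.symm huv, mem_univ v⟩⟩, mem_attach _ _, rfl⟩⟩
  choose τ hτ using tex
  have triple : ∀ X : Finset H, X.card = 3 → ∀ c ∈ B, H ∩ c = H \ X.image Subtype.val →
      ∀ u ∈ X, ∀ v ∈ X, ∀ huv : u ≠ v, ∀ k, κ k ∈ c → κ (synth (φ u v huv) k) ∉ c := by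
    intro X hX c hc hHc u hu v hv huv k hk hk'
    rw [hφ] at hk'
    have hs : (H \ X.image Subtype.val).card = 3 := by
      rw [card_sdiff_of_subset (fun x hx => by obtain ⟨y, -, rfl⟩ := mem_image.1 hx; exact y.2), hH6,
        card_image_of_injective _ Subtype.val_injective, hX]
    have e := Steiner.block_eq hB (hpB u v huv k) hc (le_trans (show 5 ≤ (H \ X.image Subtype.val ∪
        {κ k, κ (p u v huv k)}).card by
      rw [card_union_of_disjoint, hs, card_pair (fun e => hpne u v huv k (κ.injective e).symm)]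
      rw [disjoint_left]
      intro y hy hy'
      rw [mem_insert, mem_singleton] at hy'
      rcases hy' with rfl | rfl <;> exact hκ _ (mem_sdiff.1 hy).1) (card_le_card fun y hy => by
        rw [mem_union] at hy
        rcases hy with hy | hy
        · refine mem_inter.2 ⟨mem_union_left _ (mem_sdiff.2 ⟨(mem_sdiff.1 hy).1, fun h => ?_⟩),
            (mem_inter.1 (hHc ▸ hy : y ∈ H ∩ c)).2⟩
          refine (mem_sdiff.1 hy).2 (mem_image.2 ?_)
          simp only [mem_insert, mem_singleton] at h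
          rcases h with h | h
          exacts [⟨u, hu, h.symm⟩, ⟨v, hv, h.symm⟩]
        · refine mem_inter.2 ⟨mem_union_right _ hy, ?_⟩
          simp only [mem_insert, mem_singleton] at hy
          rcases hy with rfl | rfl <;> assumption))
    have h4 : (H ∩ ((H \ {(u : α), (v : α)}) ∪ {κ k, κ (p u v huv k)})).card ≥ 4 := by
      refine le_trans (le_of_eq ?_) (card_le_card (subset_inter sdiff_subset subset_union_left))
      rw [card_sdiff_of_subset (insert_subset u.2 (singleton_subset_iff.2 v.2)), hH6,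
        card_pair (fun e => huv (Subtype.ext e))]
    rw [e, hHc, hs] at h4
    omega
  have τinj : Function.Injective τ := by
    intro u v e
    by_contra huv
    obtain ⟨w, -, hw⟩ := exists_mem_notMem_of_card_lt_card (s := ({u, v} : Finset H)) (t := univ) (by
      rw [card_pair huv, card_univ, Fintype.card_coe, hH6]; norm_num)
    simp only [mem_insert, mem_singleton, not_or] at hw
    have m1 := hτ u v huv
    have m2 := hτ u w (Ne.symm hw.1)
    have m3 : φ v w (Ne.symm hw.2) ∈ total (τ u) := e ▸ hτ v w _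
    have ap : ∀ a b, Apart a b → a ≠ b := fun a b h e => h 0 (by rw [e])
    have d1 := ap _ _ (hapart u v w huv (Ne.symm hw.1) (Ne.symm hw.2))
    have d2 := ap _ _ (hapart v u w (Ne.symm huv) (Ne.symm hw.2) (Ne.symm hw.1))
    rw [φsym u v huv] at d2
    have d3 : φ u w (Ne.symm hw.1) ≠ φ v w (Ne.symm hw.2) := fun e' =>
      ap _ _ (hapart w u v hw.1 hw.2 huv)
        ((φsym u w (Ne.symm hw.1)).trans (e'.trans (φsym v w (Ne.symm hw.2)).symm))
    set X : Finset H := {u, v, w}
    have hX : X.card = 3 := card_eq_three.2 ⟨u, v, w, huv, Ne.symm hw.1, Ne.symm hw.2, rfl⟩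
    set s := H \ X.image Subtype.val
    have hs : s.card = 3 := by
      rw [card_sdiff_of_subset (fun x hx => by obtain ⟨y, -, rfl⟩ := mem_image.1 hx; exact y.2), hH6,
        card_image_of_injective _ Subtype.val_injective, hX]
    obtain ⟨c, hc⟩ := card_pos.1 (show 0 < (B.filter fun c => H ∩ c = s).card by
      rw [(Steiner.five_six_inside hα hB hH sdiff_subset).2.1 hs]; norm_num)
    rw [mem_filter] at hc
    set R := univ.filter fun k => κ k ∈ c
    have hR : R ∈ (univ : Finset (Fin 6)).powersetCard 3 := by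
      rw [mem_powersetCard]
      refine ⟨subset_univ _, ?_⟩
      have e1 : R.image κ = c \ H := by
        ext x
        simp only [R, mem_image, mem_filter, mem_univ, true_and, mem_sdiff]
        exact ⟨fun ⟨i, hi, e⟩ => e ▸ ⟨hi, hκ i⟩, fun ⟨h1, h2⟩ => by
          obtain ⟨i, rfl⟩ := κsurj x h2; exact ⟨i, h1, rfl⟩⟩
      rw [← card_image_of_injective R κ.injective, e1, card_sdiff, hc.2, hs, hB.1 c hc.1]
    obtain ⟨k, hk, h3⟩ := three_in_total (τ u) _ m1 _ m2 _ m3 d1 d2 d3 R hR
    simp only [R, mem_filter, mem_univ, true_and] at hk h3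
    rcases h3 with h | h | h
    · exact triple X hX c hc.1 hc.2 u (by simp [X]) v (by simp [X]) huv k hk h
    · exact triple X hX c hc.1 hc.2 u (by simp [X]) w (by simp [X]) _ k hk h
    · exact triple X hX c hc.1 hc.2 v (by simp [X]) w (by simp [X]) _ k hk h
  have φsy : ∀ u v huv, φ u v huv = sy (τ u) (τ v) := fun u v huv =>
    apart_sy _ _ _ (hτ u v huv) (φsym u v huv ▸ hτ v u (Ne.symm huv)) (fun e => huv (τinj e))
  let Ψ : α → Fin 6 ⊕ Fin 6 := fun x =>
    if hx : x ∈ H then Sum.inl (τ ⟨x, hx⟩) else Sum.inr (κsurj x hx).choose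
  have hΨr : ∀ i, Ψ (κ i) = Sum.inr i := fun i => by
    simp only [Ψ, dif_neg (hκ i)]
    exact congrArg Sum.inr (κ.injective (κsurj _ (hκ i)).choose_spec)
  have hΨl : ∀ x : H, Ψ x = Sum.inl (τ x) := fun x => by simp only [Ψ, dif_pos x.2]
  have Ψinj : Function.Injective Ψ := by
    intro x y e
    by_cases hx : x ∈ H <;> by_cases hy : y ∈ H
    · rw [hΨl ⟨x, hx⟩, hΨl ⟨y, hy⟩] at e
      exact congrArg Subtype.val (τinj (Sum.inl_injective e))
    · obtain ⟨i, rfl⟩ := κsurj y hy
      rw [hΨl ⟨x, hx⟩, hΨr] at e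
      exact absurd e Sum.inl_ne_inr
    · obtain ⟨i, rfl⟩ := κsurj x hx
      rw [hΨl ⟨y, hy⟩, hΨr] at e
      exact absurd e Sum.inr_ne_inl
    · obtain ⟨i, rfl⟩ := κsurj x hx
      obtain ⟨j, rfl⟩ := κsurj y hy
      rw [hΨr, hΨr] at e
      rw [Sum.inr_injective e]
  set Ψe : α ≃ Fin 6 ⊕ Fin 6 := Equiv.ofBijective Ψ ((Fintype.bijective_iff_injective_and_card Ψ).2
    ⟨Ψinj, by rw [hα]; rfl⟩)
  have hL : ∀ (c : Finset α) (x : H), τ x ∈ (c.image Ψe).toLeft ↔ (x : α) ∈ c := by
    intro c x
    rw [mem_toLeft, ← hΨl x]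
    exact Ψe.injective.mem_finset_image
  have hR : ∀ (c : Finset α) (i : Fin 6), i ∈ (c.image Ψe).toRight ↔ κ i ∈ c := by
    intro c i
    rw [mem_toRight, ← hΨr i]
    exact Ψe.injective.mem_finset_image
  have τsurj : Function.Surjective τ := ((Fintype.bijective_iff_injective_and_card τ).2
    ⟨τinj, by rw [Fintype.card_coe, hH6, Fintype.card_fin]⟩).2
  have key4 : ∀ c ∈ B, (c.image Ψe).toLeft.card = 4 → Pairs (c.image Ψe).toLeftᶜ (c.image Ψe).toRight := by
    intro c hc h4 i hi j hj hij k hk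
    obtain ⟨u, rfl⟩ := τsurj i
    obtain ⟨v, rfl⟩ := τsurj j
    rw [mem_compl, hL] at hi hj
    rw [hR] at hk ⊢
    have huv : u ≠ v := fun e => hij (e ▸ rfl)
    rw [← φsy u v huv, hφ]
    have hHc : H ∩ c = H \ {(u : α), (v : α)} := by
      refine eq_of_subset_of_card_le (fun y hy => ?_) ?_
      · rw [mem_inter] at hy
        refine mem_sdiff.2 ⟨hy.1, ?_⟩
        simp only [mem_insert, mem_singleton, not_or]
        exact ⟨fun e => hi (e ▸ hy.2), fun e => hj (e ▸ hy.2)⟩
      · rw [card_sdiff_of_subset (insert_subset u.2 (singleton_subset_iff.2 v.2)), hH6,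
          card_pair (fun e => huv (Subtype.ext e))]
        refine le_of_eq (h4.symm.trans ?_)
        refine (card_bij (fun (x : α) (hx : x ∈ H ∩ c) => τ ⟨x, (mem_inter.1 hx).1⟩)
          (fun x hx => (hL c ⟨x, (mem_inter.1 hx).1⟩).2 (mem_inter.1 hx).2)
          (fun x hx y hy e => congrArg Subtype.val (τinj e)) (fun i hi => ?_)).symm
        obtain ⟨x, rfl⟩ := τsurj i
        exact ⟨x, mem_inter.2 ⟨x.2, (hL c x).1 hi⟩, rfl⟩
    obtain ⟨x, hx⟩ := card_eq_one.1 (show (c \ insert (κ k) (H \ {(u : α), (v : α)})).card = 1 by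
      rw [card_sdiff_of_subset (insert_subset hk (hHc ▸ inter_subset_right)), hB.1 c hc,
        card_insert_of_notMem (fun h => hκ k (mem_sdiff.1 h).1),
        card_sdiff_of_subset (insert_subset u.2 (singleton_subset_iff.2 v.2)), hH6,
        card_pair (fun e => huv (Subtype.ext e))])
    have hx' := mem_sdiff.1 (hx ▸ mem_singleton_self x : x ∈ c \ insert (κ k) (H \ {(u : α), (v : α)}))
    have hxH : x ∉ H := fun h => hx'.2 (mem_insert_of_mem (hHc ▸ mem_inter.2 ⟨h, hx'.1⟩))
    obtain ⟨k', rfl⟩ := κsurj x hxH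
    have hne : k' ≠ k := fun e => hx'.2 (e ▸ mem_insert_self _ _)
    have : p u v huv k = k' := by
      refine puniq u v huv k k' hne ?_
      convert hc using 1
      refine eq_of_subset_of_card_le (union_subset (hHc ▸ inter_subset_right)
        (insert_subset hk (singleton_subset_iff.2 hx'.1))) ?_
      rw [hB.1 c hc, card_union_of_disjoint, card_sdiff_of_subset (insert_subset u.2 (singleton_subset_iff.2 v.2)),
        hH6, card_pair (fun e => huv (Subtype.ext e)), card_pair (fun e => hne (κ.injective e).symm)]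
      rw [disjoint_left]
      intro y hy hy'
      rw [mem_insert, mem_singleton] at hy'
      rcases hy' with rfl | rfl <;> exact hκ _ (mem_sdiff.1 hy).1
    rw [this]; exact hx'.1
  have himg : ∀ c ∈ B, c.image Ψe ∈ model := by
    intro c hc
    rw [model, mem_filter, mem_powersetCard, card_image_of_injective _ Ψe.injective, hB.1 c hc]
    refine ⟨⟨subset_univ _, rfl⟩, ?_⟩
    have hcard : (c.image Ψe).toLeft.card = (H ∩ c).card := by
      refine (card_bij (fun (x : α) (hx : x ∈ H ∩ c) => τ ⟨x, (mem_inter.1 hx).1⟩)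
        (fun x hx => (hL c ⟨x, (mem_inter.1 hx).1⟩).2 (mem_inter.1 hx).2)
        (fun x hx y hy e => congrArg Subtype.val (τinj e)) (fun i hi => ?_)).symm
      obtain ⟨x, rfl⟩ := τsurj i
      exact ⟨x, mem_inter.2 ⟨x.2, (hL c x).1 hi⟩, rfl⟩
    have hle : (H ∩ c).card ≤ 6 := (card_le_card inter_subset_left).trans (le_of_eq hH6)
    obtain ⟨n1, n5⟩ := inter_not hα hB hH hc
    unfold Shape
    rcases (show (H ∩ c).card = 0 ∨ (H ∩ c).card = 2 ∨ (H ∩ c).card = 3 ∨ (H ∩ c).card = 4 ∨ (H ∩ c).card = 6 by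
      omega) with e | e | e | e | e
    · exact Or.inr (Or.inl (hcard.trans e))
    · refine Or.inr (Or.inr (Or.inr (Or.inl ⟨hcard.trans e, ?_⟩)))
      have hcc := compl_mem hα hB hc
      have el : (cᶜ.image Ψe).toLeft = (c.image Ψe).toLeftᶜ := by
        ext i; obtain ⟨x, rfl⟩ := τsurj i; rw [mem_compl, hL, hL, mem_compl]
      have er : (cᶜ.image Ψe).toRight = (c.image Ψe).toRightᶜ := by
        ext i; rw [mem_compl, hR, hR, mem_compl]
      have := key4 cᶜ hcc (by rw [el, card_compl, hcard, e]; rfl)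
      rwa [el, er, compl_compl] at this
    · refine Or.inr (Or.inr (Or.inr (Or.inr ⟨hcard.trans e, fun i hi j hj hij k hk => ?_⟩)))
      obtain ⟨u, rfl⟩ := τsurj i
      obtain ⟨v, rfl⟩ := τsurj j
      rw [mem_compl, hL] at hi hj
      rw [hR] at hk ⊢
      have huv : u ≠ v := fun e => hij (e ▸ rfl)
      rw [← φsy u v huv]
      set X := univ.filter fun x : H => (x : α) ∉ c
      have hHc : H ∩ c = H \ X.image Subtype.val := by
        ext y
        simp only [X, mem_inter, mem_sdiff, mem_image, mem_filter, mem_univ, true_and]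
        exact ⟨fun h => ⟨h.1, fun ⟨x, hx, e⟩ => hx (e ▸ h.2)⟩,
          fun h => ⟨h.1, by_contra fun hn => h.2 ⟨⟨y, h.1⟩, hn, rfl⟩⟩⟩
      have hX : X.card = 3 := by
        have h1 := card_sdiff_of_subset (s := X.image Subtype.val) (t := H)
          (fun x hx => by obtain ⟨y, -, rfl⟩ := mem_image.1 hx; exact y.2)
        rw [← hHc, e, hH6, card_image_of_injective _ Subtype.val_injective] at h1
        omega
      exact triple X hX c hc hHc u (mem_filter.2 ⟨mem_univ _, hi⟩) v (mem_filter.2 ⟨mem_univ _, hj⟩) huv k hk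
    · exact Or.inr (Or.inr (Or.inl ⟨hcard.trans e, key4 c hc (hcard.trans e)⟩))
    · exact Or.inl (hcard.trans e)
  have hall : B.image (fun c => c.image Ψe) = model := by
    refine eq_of_subset_of_card_le (fun t ht => ?_) ?_
    · obtain ⟨c, hc, rfl⟩ := mem_image.1 ht; exact himg c hc
    · rw [card_image_of_injective _ (image_injective Ψe.injective), card_blocks hα hB]; exact card_model
  refine ⟨Ψe, hΨr, fun c => ⟨himg c, fun hc => ?_⟩⟩
  rw [← hall, mem_image] at hc
  obtain ⟨c', hc', e⟩ := hc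
  rwa [← image_injective Ψe.injective e]

/-- a five-set gives a block and an enumeration of a complementary one -/
theorem frame (a : Fin 5 ↪ α) :
    ∃ H ∈ B, ∃ κ : Fin 6 ↪ α, (∀ i, κ i ∉ H) ∧ ∀ i, κ (Fin.castSucc i) = a i := by
  obtain ⟨X, ⟨hX, hsub⟩, -⟩ := hB.2 (univ.map a) (by rw [card_map, card_univ, Fintype.card_fin])
  obtain ⟨x, hx, hxn⟩ := exists_mem_notMem_of_card_lt_card (s := univ.map a) (t := X) (by
    rw [hB.1 X hX, card_map, card_univ, Fintype.card_fin]; norm_num)
  refine ⟨Xᶜ, compl_mem hα hB hX, ⟨Fin.snoc (α := fun _ => α) a x, ?_⟩, fun i => ?_, fun i => ?_⟩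
  · refine Fin.snoc_injective_iff.2 ⟨a.injective, fun h => ?_⟩
    obtain ⟨i, rfl⟩ := h
    exact hxn (mem_map_of_mem _ (mem_univ i))
  · rw [mem_compl, not_not]
    refine Fin.lastCases ?_ (fun j => ?_) i
    · show Fin.snoc (α := fun _ => α) a x (Fin.last 5) ∈ X
      rw [Fin.snoc_last]; exact hx
    · show Fin.snoc (α := fun _ => α) a x (Fin.castSucc j) ∈ X
      rw [Fin.snoc_castSucc]; exact hsub (mem_map_of_mem _ (mem_univ j))
  · show Fin.snoc (α := fun _ => α) a x (Fin.castSucc i) = a i
    rw [Fin.snoc_castSucc]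

theorem iso_frames {β : Type*} [Fintype β] [DecidableEq β] {B' : Finset (Finset β)} (hβ : Fintype.card β = 12)
    (hB' : Cfsg.IsSteinerSystem 5 6 (B' : Set (Finset β))) (a : Fin 5 ↪ α) (b : Fin 5 ↪ β) :
    ∃ e : α ≃ β, (∀ c, c ∈ B ↔ c.image e ∈ B') ∧ ∀ i, e (a i) = b i := by
  obtain ⟨H, hH, κ, hκ, hκa⟩ := frame hα hB a
  obtain ⟨H', hH', κ', hκ', hκb⟩ := frame hβ hB' b
  obtain ⟨Ψ, hΨ, hc⟩ := coords hα hB hH κ hκ
  obtain ⟨Ψ', hΨ', hc'⟩ := coords hβ hB' hH' κ' hκ'
  refine ⟨Ψ.trans Ψ'.symm, fun c => ?_, fun i => ?_⟩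
  · rw [hc, hc', image_image]
    have : Ψ' ∘ (Ψ.trans Ψ'.symm) = Ψ := funext fun x => Ψ'.apply_symm_apply _
    rw [this]
  · show Ψ'.symm (Ψ (a i)) = b i
    rw [← hκa, hΨ, ← hκb, ← hΨ' (Fin.castSucc i), Equiv.symm_apply_apply]

theorem fix_five {π : Equiv.Perm α} (hπ : π ∈ Cfsg.setSystemAut (B : Set (Finset α))) (a : Fin 5 ↪ α)
    (hfix : ∀ i, π (a i) = a i) : π = 1 := by
  obtain ⟨H, hH, κ, hκ, hκa⟩ := frame hα hB a
  obtain ⟨Ψ, hΨ, hc⟩ := coords hα hB hH κ hκ
  have hmem : ∀ c ∈ B, c.image π ∈ B := fun c hc => by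
    rw [← mem_coe, ← MulAction.mem_stabilizer_iff.1 hπ]
    exact ⟨c, hc, rfl⟩
  have hKc : univ.image κ = Hᶜ := eq_of_subset_of_card_le
    (fun x hx => by obtain ⟨i, -, rfl⟩ := mem_image.1 hx; exact mem_compl.2 (hκ i))
    (by rw [card_compl, hα, hB.1 H hH, card_image_of_injective _ κ.injective, card_univ, Fintype.card_fin])
  have hK6 : Hᶜ.card = 6 := by rw [card_compl, hα, hB.1 H hH]
  have hKfix : Hᶜ.image π = Hᶜ := by
    refine Steiner.block_eq hB (hmem _ (compl_mem hα hB hH)) (compl_mem hα hB hH) ?_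
    calc 5 = (univ.map a).card := by rw [card_map, card_univ, Fintype.card_fin]
      _ ≤ _ := card_le_card fun x hx => by
        obtain ⟨i, -, rfl⟩ := mem_map.1 hx
        have : a i ∈ Hᶜ := mem_compl.2 (hκa i ▸ hκ _)
        exact mem_inter.2 ⟨mem_image.2 ⟨a i, this, hfix i⟩, this⟩
  have hκfix : ∀ i, π (κ i) = κ i := by
    refine Fin.lastCases ?_ fun j => by rw [hκa]; exact hfix j
    have : π (κ (Fin.last 5)) ∈ univ.image κ := by
      rw [hKc, ← hKfix]
      exact mem_image_of_mem _ (mem_compl.2 (hκ _))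
    obtain ⟨i, -, hi⟩ := mem_image.1 this
    revert hi
    refine Fin.lastCases (fun hi => hi.symm) (fun j hi => ?_) i
    have := π.injective (((hκa j).trans (hfix j).symm).symm.trans hi)
    rw [← hκa] at this
    exact absurd (κ.injective this) (Fin.castSucc_ne_last j)
  set ρ := Ψ.permCongr π with hρ
  have hρr : ∀ i, ρ (Sum.inr i) = Sum.inr i := fun i => by
    rw [hρ, Equiv.permCongr_apply, ← hΨ i, Equiv.symm_apply_apply, hκfix]
  have hρl : ∀ i, ∃ j, ρ (Sum.inl i) = Sum.inl j := fun i => by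
    rcases h : ρ (Sum.inl i) with j | j
    · exact ⟨j, rfl⟩
    · exact absurd (ρ.injective (h.trans (hρr j).symm)) Sum.inl_ne_inr
  choose σ hσ using hρl
  have hmodel : ∀ X ∈ model, X.image ρ ∈ model := by
    intro X hX
    have e : X = (X.image Ψ.symm).image Ψ := by rw [image_image, Equiv.self_comp_symm, image_id]
    rw [e, ← hc] at hX
    have := (hc _).1 (hmem _ hX)
    rw [image_image, image_image] at this
    convert this using 2
    funext x
    simp [hρ, Equiv.permCongr_apply]
  have σinj : Function.Injective σ := fun i j e => Sum.inl_injective (ρ.injective (by rw [hσ, hσ, e]))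
  have hpres : ∀ i j, i ≠ j → sy (σ i) (σ j) = sy i j := by
    intro i j hij
    refine synth_inj _ _ fun k => ?_
    set X : Finset (Fin 6 ⊕ Fin 6) := ({i, j} : Finset (Fin 6))ᶜ.disjSum {k, synth (sy i j) k}
    have hXm : X ∈ model := by
      have all : ∀ i j k : Fin 6, i ≠ j →
          ({i, j} : Finset (Fin 6))ᶜ.disjSum {k, synth (sy i j) k} ∈ model := by decide +kernel
      exact all i j k hij
    have hY : X.image ρ = ({σ i, σ j} : Finset (Fin 6))ᶜ.disjSum {k, synth (sy i j) k} := by
      ext y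
      simp only [X, mem_image, mem_disjSum, mem_compl]
      constructor
      · rintro ⟨z, (⟨l, hl, rfl⟩ | ⟨l, hl, rfl⟩), rfl⟩
        · refine Or.inl ⟨σ l, fun h => hl ?_, (hσ l).symm⟩
          simpa [σinj.eq_iff] using h
        · exact Or.inr ⟨l, hl, (hρr l).symm⟩
      · rintro (⟨l, hl, rfl⟩ | ⟨l, hl, rfl⟩)
        · obtain ⟨l', rfl⟩ := (Finite.injective_iff_surjective.1 σinj) l
          exact ⟨Sum.inl l', Or.inl ⟨l', fun h => hl (by simpa [σinj.eq_iff] using h), rfl⟩, hσ l'⟩
        · exact ⟨Sum.inr l, Or.inr ⟨l, hl, rfl⟩, hρr l⟩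
    have hm := hmodel X hXm
    rw [hY, model, mem_filter, toLeft_disjSum, toRight_disjSum] at hm
    have hne : σ i ≠ σ j := fun e => hij (σinj e)
    have h4 : (({σ i, σ j} : Finset (Fin 6))ᶜ).card = 4 := by rw [card_compl, card_pair hne, Fintype.card_fin]
    rcases hm.2 with e | e | ⟨-, h⟩ | ⟨e, -⟩ | ⟨e, -⟩ <;> try omega
    rw [compl_compl] at h
    have := h _ (mem_insert_self _ _) _ (mem_insert_of_mem (mem_singleton_self _)) hne k (mem_insert_self _ _)
    simp only [mem_insert, mem_singleton] at this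
    rcases this with e | e
    · exfalso
      have nofix : ∀ a k, synth a k ≠ k := by decide +kernel
      exact nofix _ _ e
    · exact e
  have hσid : ∀ i, σ i = i := by
    intro i
    obtain ⟨j, k, hij, hik, hjk⟩ : ∃ j k : Fin 6, i ≠ j ∧ i ≠ k ∧ j ≠ k := by revert i; decide
    rcases sy_inj _ _ _ _ hij (fun e => hij (σinj e)) (hpres i j hij).symm with ⟨e, -⟩ | ⟨e1, -⟩
    · exact e
    rcases sy_inj _ _ _ _ hik (fun e => hik (σinj e)) (hpres i k hik).symm with ⟨e, -⟩ | ⟨e2, -⟩
    · exact e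
    exact absurd (e1.symm.trans e2) hjk
  refine Equiv.ext fun x => Ψ.injective ?_
  have : ρ (Ψ x) = Ψ x := by
    rcases Ψ x with i | i
    · rw [hσ, hσid]
    · exact hρr i
  rwa [hρ, Equiv.permCongr_apply, Equiv.symm_apply_apply] at this

theorem aut_trans : MulAction.IsMultiplyPretransitive (Cfsg.setSystemAut (B : Set (Finset α))) α 5 := by
  refine ⟨fun a b => ?_⟩
  obtain ⟨e, he, heab⟩ := iso_frames hα hB hα hB a b
  exact ⟨⟨e, Code24.mem_setSystemAut fun c hc => (he c).1 hc⟩, DFunLike.ext _ _ heab⟩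

theorem aut_sharp (a : Fin 5 ↪ α) : MulAction.stabilizer (Cfsg.setSystemAut (B : Set (Finset α))) a = ⊥ := by
  rw [Subgroup.eq_bot_iff_forall]
  intro π hπ
  refine Subtype.ext (fix_five hα hB π.2 a fun i => ?_)
  exact DFunLike.congr_fun (MulAction.mem_stabilizer_iff.1 hπ) i

theorem aut_card : Nat.card (Cfsg.setSystemAut (B : Set (Finset α))) = 95040 := by
  obtain ⟨a⟩ : Nonempty (Fin 5 ↪ α) := Function.Embedding.nonempty_of_card_le (by rw [hα, Fintype.card_fin]; norm_num)
  let f : Cfsg.setSystemAut (B : Set (Finset α)) → (Fin 5 ↪ α) := fun π => a.trans π.1.toEmbedding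
  have hb : Function.Bijective f := by
    constructor
    · intro π π' e
      have h : π'⁻¹ * π ∈ MulAction.stabilizer (Cfsg.setSystemAut (B : Set (Finset α))) a := by
        refine MulAction.mem_stabilizer_iff.2 (DFunLike.ext _ _ fun i => ?_)
        show (π'.1⁻¹ * π.1) (a i) = a i
        rw [Equiv.Perm.mul_apply, show π.1 (a i) = π'.1 (a i) from DFunLike.congr_fun e i]
        simp
      rw [aut_sharp hα hB a, Subgroup.mem_bot, inv_mul_eq_one] at h
      exact h.symm
    · intro x
      obtain ⟨g, hg⟩ := (aut_trans hα hB).exists_smul_eq a x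
      exact ⟨g, DFunLike.ext _ _ fun i => DFunLike.congr_fun hg i⟩
  rw [Nat.card_congr (Equiv.ofBijective f hb), Nat.card_eq_fintype_card, Fintype.card_embedding_eq, hα,
    Fintype.card_fin]
  rfl

end Twelve

/-- isomorphic systems have isomorphic automorphism groups, the points following -/
theorem aut_congr {β : Type*} [Fintype β] [DecidableEq β] {B' : Finset (Finset β)} (e : α ≃ β)
    (he : ∀ c, c ∈ B ↔ c.image e ∈ B') {π : Equiv.Perm β}
    (hπ : π ∈ Cfsg.setSystemAut (B' : Set (Finset β))) :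
    e.symm.permCongr π ∈ Cfsg.setSystemAut (B : Set (Finset α)) := by
  refine Code24.mem_setSystemAut fun c hc => ?_
  rw [mem_coe] at hc ⊢
  rw [he, image_image]
  have h := (he c).1 hc
  have : (c.image e).image π ∈ B' := by
    rw [← mem_coe, ← MulAction.mem_stabilizer_iff.1 hπ]
    exact ⟨_, h, rfl⟩
  rw [image_image] at this
  convert this using 2
  funext x
  simp [Equiv.permCongr_apply]

/-- the hexads of a dodecad -/
def dodHex (d : Finset Cfsg.GolayPt) : Set (Finset {p : Cfsg.GolayPt // p ∈ d}) :=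
  {h | ∃ o ∈ Cfsg.octads, (o ∩ d).card = 6 ∧ h = Finset.subtype (fun p => p ∈ d) o}

/-- the dodecad stabiliser maps to the automorphisms of any system on twelve points -/
theorem dodecad_hom (hα : Fintype.card α = 12) (hB : Cfsg.IsSteinerSystem 5 6 (B : Set (Finset α))) (a0 : α) :
    ∃ d ∈ Cfsg.dodecads, ∃ p ∈ d, ∃ Θ : MulAction.stabilizer Cfsg.M24 d →* Cfsg.setSystemAut (B : Set (Finset α)),
      Function.Bijective Θ ∧ ∀ σ : MulAction.stabilizer Cfsg.M24 d, (σ : Cfsg.M24) • p = p ↔ (Θ σ : Equiv.Perm α) a0 = a0 := by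
  classical
  obtain ⟨d, hd⟩ : Cfsg.dodecads.Nonempty := (Set.ncard_pos (Set.toFinite _)).1 (by rw [Spor.ncard_dodecads]; norm_num)
  have hdc : Fintype.card {p : Cfsg.GolayPt // p ∈ d} = 12 := by rw [Fintype.card_coe]; exact hd.2
  obtain ⟨F, hF⟩ := Steiner.exists_finset (dodHex d)
  have hFs : Cfsg.IsSteinerSystem 5 6 (F : Set (Finset {p : Cfsg.GolayPt // p ∈ d})) := hF ▸ S0385.result d hd
  obtain ⟨b0⟩ : Nonempty (Fin 5 ↪ {p : Cfsg.GolayPt // p ∈ d}) := Function.Embedding.nonempty_of_card_le (by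
    rw [hdc, Fintype.card_fin]; norm_num)
  obtain ⟨a1⟩ : Nonempty (Fin 5 ↪ α) := Function.Embedding.nonempty_of_card_le (by
    rw [hα, Fintype.card_fin]; norm_num)
  obtain ⟨e, he, -⟩ := iso_frames hα hB hdc hFs a1 b0
  let act : MulAction.stabilizer Cfsg.M24 d → Equiv.Perm {p : Cfsg.GolayPt // p ∈ d} := fun σ =>
    ((σ : Cfsg.M24) : Equiv.Perm Cfsg.GolayPt).subtypePerm fun p => by
      have h : ((σ : Cfsg.M24) : Equiv.Perm Cfsg.GolayPt) • d = d := σ.2
      constructor
      · intro hp
        first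
          | exact (Finset.smul_mem_smul_finset_iff _).1 (h.ge hp)
          | exact h.le ((Finset.smul_mem_smul_finset_iff _).2 hp)
      · intro hp
        first
          | exact h.le ((Finset.smul_mem_smul_finset_iff _).2 hp)
          | exact (Finset.smul_mem_smul_finset_iff _).1 (h.ge hp)
  have hact : ∀ σ, act σ ∈ Cfsg.setSystemAut (F : Set (Finset {p : Cfsg.GolayPt // p ∈ d})) := by
    intro σ
    refine Code24.mem_setSystemAut fun h hh => ?_
    rw [← hF] at hh ⊢
    obtain ⟨o, ho, h6, rfl⟩ := hh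
    refine ⟨((σ : Cfsg.M24) : Equiv.Perm Cfsg.GolayPt) • o, Spor.smul_octad (σ : Cfsg.M24).2 ho, ?_, ?_⟩
    · have h : ((σ : Cfsg.M24) : Equiv.Perm Cfsg.GolayPt) • d = d := σ.2
      refine (congrArg (fun z => ((((σ : Cfsg.M24) : Equiv.Perm Cfsg.GolayPt) • o) ∩ z).card) h.symm).trans ?_
      simp only [← Finset.smul_finset_inter, Finset.card_smul_finset]
      exact h6
    · ext x
      simp only [mem_image, mem_subtype]
      constructor
      · rintro ⟨y, hy, rfl⟩
        exact Finset.smul_mem_smul_finset hy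
      · intro hx
        obtain ⟨y, rfl⟩ := (act σ).surjective x
        refine ⟨y, ?_, rfl⟩
        exact (Finset.smul_mem_smul_finset_iff _).1 hx
  let Θ : MulAction.stabilizer Cfsg.M24 d →* Cfsg.setSystemAut (B : Set (Finset α)) :=
    MonoidHom.mk' (fun σ => ⟨e.symm.permCongr (act σ), aut_congr e he (hact σ)⟩) fun σ τ =>
      Subtype.ext (Equiv.ext fun x => by
        show e.symm.permCongr (act (σ * τ)) x = e.symm.permCongr (act σ) (e.symm.permCongr (act τ) x)
        simp only [Equiv.permCongr_apply, Equiv.symm_symm, Equiv.apply_symm_apply]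
        rfl)
  have hinj : Function.Injective Θ := by
    rw [injective_iff_map_eq_one]
    intro σ hσ
    refine Subtype.ext (Subtype.ext (Spor.eq_one_of_fix_ten (σ : Cfsg.M24).2 (F := d) (by rw [hd.2]; norm_num)
      fun q hq => ?_))
    have := congrArg (fun π : Cfsg.setSystemAut (B : Set (Finset α)) => e ((π : Equiv.Perm α) (e.symm ⟨q, hq⟩))) hσ
    simp only [Θ, MonoidHom.mk'_apply, Equiv.permCongr_apply, Equiv.symm_symm, Equiv.apply_symm_apply,
      OneMemClass.coe_one, Equiv.Perm.one_apply] at this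
    exact congrArg Subtype.val this
  refine ⟨d, hd, (e a0).1, (e a0).2, Θ, (Nat.bijective_iff_injective_and_card _).2 ⟨hinj, ?_⟩, fun σ => ?_⟩
  · rw [Spor.card_stab_dodecad hd, aut_card hα hB]
  · show _ ↔ e.symm ((act σ) (e.symm.symm a0)) = a0
    rw [Equiv.symm_symm, Equiv.symm_apply_eq]
    exact ⟨fun h => Subtype.ext h, fun h => congrArg Subtype.val h⟩

theorem m12_spec (hα : Fintype.card α = 12) (hB : Cfsg.IsSteinerSystem 5 6 (B : Set (Finset α))) :
    IsSimpleGroup (Cfsg.setSystemAut (B : Set (Finset α))) := by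
  obtain ⟨a0⟩ : Nonempty α := Fintype.card_pos_iff.1 (by omega)
  obtain ⟨d, hd, p, hp, Θ, hΘ, -⟩ := dodecad_hom hα hB a0
  haveI := Spor.simple_stab_dodecad hd
  exact (MulEquiv.ofBijective Θ hΘ).symm.isSimpleGroup

/-! The system on eleven points -/

/-- the extension of a system on eleven points -/
def extend (B : Finset (Finset α)) : Finset (Finset (Option α)) :=
  B.image (fun b => b.insertNone) ∪ B.image (fun b => bᶜ.map Function.Embedding.some)

section Eleven

variable (hα : Fintype.card α = 11) (hB : Cfsg.IsSteinerSystem 4 5 (B : Set (Finset α)))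
include hα hB

theorem meet_counts {s : Finset α} (hs : s.card = 5) :
    (s ∈ B → (B.filter fun c => Disjoint s c).card = 0) ∧ (s ∉ B → (B.filter fun c => Disjoint s c).card = 1) := by
  have key : ∀ j L, j ≤ 4 → L * (5 - j).choose (4 - j) = (11 - j).choose (4 - j) →
      ∑ i ∈ range 6, i.choose j * (B.filter fun c => (s ∩ c).card = i).card = (5 : ℕ).choose j * L := by
    intro j L hj hL
    have h := Steiner.profile B ∅ s 5 j _ (by simp [hs])
      (Steiner.moment_const hB ∅ s j (by simpa using hj) (by norm_num) (by simpa [hα] using hL))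
    simpa [hs] using h
  have e0 := key 0 66 (by norm_num) (by decide)
  have e1 := key 1 30 (by norm_num) (by decide)
  have e2 := key 2 12 (by norm_num) (by decide)
  have e3 := key 3 4 (by norm_num) (by decide)
  have e4 := key 4 1 (by norm_num) (by decide)
  simp only [sum_range_succ, sum_range_zero] at e0 e1 e2 e3 e4
  norm_num [-Finset.card_eq_zero, Nat.choose] at e0 e1 e2 e3 e4
  have e5 : (B.filter fun c => (s ∩ c).card = 5).card = if s ∈ B then 1 else 0 := by
    have : (B.filter fun c => (s ∩ c).card = 5) = B.filter fun c => c = s := by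
      refine filter_congr fun c hc => ⟨fun h => ?_, fun h => by rw [h, inter_self, hs]⟩
      have h1 : s ∩ c = s := eq_of_subset_of_card_le inter_subset_left (by rw [h, hs])
      exact (eq_of_subset_of_card_le (inter_eq_left.1 h1) (by rw [hs, hB.1 c hc])).symm
    rw [this, filter_eq']
    split_ifs <;> rfl
  have eD : (B.filter fun c => Disjoint s c) = B.filter fun c => (s ∩ c).card = 0 :=
    filter_congr fun c _ => by rw [card_eq_zero, disjoint_iff_inter_eq_empty]
  rw [eD]
  refine ⟨fun h => ?_, fun h => ?_⟩ <;> simp only [h, if_true, if_false] at e5 <;> omega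

theorem extend_steiner : Cfsg.IsSteinerSystem 5 6 (extend B : Set (Finset (Option α))) := by
  refine ⟨fun b hb => ?_, fun S hS => ?_⟩
  · simp only [extend, coe_union, coe_image, Set.mem_union, Set.mem_image, mem_coe] at hb
    rcases hb with ⟨c, hc, rfl⟩ | ⟨c, hc, rfl⟩
    · rw [card_insertNone, hB.1 c hc]
    · rw [card_map, card_compl, hα, hB.1 c hc]
  set s := S.eraseNone with hs_def
  by_cases hn : none ∈ S
  · have hsc : s.card = 4 := by rw [hs_def, card_eraseNone_of_mem hn, hS]
    obtain ⟨b, ⟨hb, hsb⟩, huniq⟩ := hB.2 s hsc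
    refine ⟨b.insertNone, ⟨mem_coe.2 (mem_union_left _ (mem_image_of_mem _ hb)), fun x hx => ?_⟩, ?_⟩
    · cases x with
      | none => simp
      | some a => exact some_mem_insertNone.2 (hsb (mem_eraseNone.2 hx))
    · rintro y ⟨hy, hSy⟩
      simp only [extend, coe_union, coe_image, Set.mem_union, Set.mem_image, mem_coe] at hy
      rcases hy with ⟨c, hc, rfl⟩ | ⟨c, hc, rfl⟩
      · rw [huniq c ⟨hc, fun a ha => some_mem_insertNone.1 (hSy (mem_eraseNone.1 ha))⟩]
      · simpa using hSy hn
  · have hsc : s.card = 5 := by rw [hs_def, card_eraseNone_of_not_mem hn, hS]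
    have hsub : ∀ t : Finset α, s ⊆ t → ∀ x ∈ S, ∃ a ∈ t, some a = x := fun t ht x hx => by
      cases x with
      | none => exact absurd hx hn
      | some a => exact ⟨a, ht (mem_eraseNone.2 hx), rfl⟩
    have kind1 : ∀ c ∈ B, S ⊆ c.insertNone → s ∈ B ∧ c = s := fun c hc h => by
      have : c = s := (eq_of_subset_of_card_le (fun a ha => some_mem_insertNone.1 (h (mem_eraseNone.1 ha)))
        (by rw [hsc, hB.1 c hc])).symm
      exact ⟨this ▸ hc, this⟩
    have kind2 : ∀ c, S ⊆ cᶜ.map Function.Embedding.some → Disjoint s c := fun c h => disjoint_left.2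
      fun a ha hac => by
        obtain ⟨b, hb, e⟩ := mem_map.1 (h (mem_eraseNone.1 ha))
        rw [Function.Embedding.some_apply, Option.some_inj] at e
        exact (mem_compl.1 (e ▸ hb)) hac
    obtain ⟨h0, h1⟩ := meet_counts hα hB hsc
    by_cases hsB : s ∈ B
    · refine ⟨s.insertNone, ⟨mem_coe.2 (mem_union_left _ (mem_image_of_mem _ hsB)), fun x hx => ?_⟩, ?_⟩
      · obtain ⟨a, ha, rfl⟩ := hsub s subset_rfl x hx
        exact some_mem_insertNone.2 ha
      · rintro y ⟨hy, hSy⟩
        simp only [extend, coe_union, coe_image, Set.mem_union, Set.mem_image, mem_coe] at hy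
        rcases hy with ⟨c, hc, rfl⟩ | ⟨c, hc, rfl⟩
        · rw [(kind1 c hc hSy).2]
        · have : c ∈ B.filter fun c => Disjoint s c := mem_filter.2 ⟨hc, kind2 c hSy⟩
          rw [card_eq_zero.1 (h0 hsB)] at this
          exact absurd this (notMem_empty _)
    · obtain ⟨c0, hc0⟩ := card_eq_one.1 (h1 hsB)
      have hm : c0 ∈ B.filter fun c => Disjoint s c := hc0 ▸ mem_singleton_self _
      rw [mem_filter] at hm
      refine ⟨c0ᶜ.map Function.Embedding.some, ⟨mem_coe.2 (mem_union_right _ (mem_image_of_mem _ hm.1)),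
        fun x hx => ?_⟩, ?_⟩
      · obtain ⟨a, ha, rfl⟩ := hsub s subset_rfl x hx
        exact mem_map.2 ⟨a, mem_compl.2 (disjoint_left.1 hm.2 ha), rfl⟩
      · rintro y ⟨hy, hSy⟩
        simp only [extend, coe_union, coe_image, Set.mem_union, Set.mem_image, mem_coe] at hy
        rcases hy with ⟨c, hc, rfl⟩ | ⟨c, hc, rfl⟩
        · exact absurd (kind1 c hc hSy).1 hsB
        · have : c ∈ B.filter fun c => Disjoint s c := mem_filter.2 ⟨hc, kind2 c hSy⟩
          rw [hc0, mem_singleton] at this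
          rw [this]

omit hα hB in
theorem mem_extend_none (c : Finset α) : c.insertNone ∈ extend B ↔ c ∈ B := by
  constructor
  · intro h
    simp only [extend, mem_union, mem_image] at h
    rcases h with ⟨b, hb, e⟩ | ⟨b, -, e⟩
    · rwa [← Finset.insertNone.injective e]
    · have : (none : Option α) ∈ bᶜ.map Function.Embedding.some := e ▸ by simp
      simp at this
  · exact fun h => mem_union_left _ (mem_image_of_mem _ h)

theorem iso_frames11 {β : Type*} [Fintype β] [DecidableEq β] {B' : Finset (Finset β)} (hβ : Fintype.card β = 11)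
    (hB' : Cfsg.IsSteinerSystem 4 5 (B' : Set (Finset β))) (a : Fin 4 ↪ α) (b : Fin 4 ↪ β) :
    ∃ e : α ≃ β, (∀ c, c ∈ B ↔ c.image e ∈ B') ∧ ∀ i, e (a i) = b i := by
  let mk : ∀ {γ : Type _} (a : Fin 4 ↪ γ), Fin 5 ↪ Option γ := fun {γ} a =>
    ⟨Fin.cons none (some ∘ a), Fin.cons_injective_iff.2 ⟨by simp, (Option.some_injective _).comp a.injective⟩⟩
  obtain ⟨E, hE, hEa⟩ := iso_frames (α := Option α) (B := extend B) (by rw [Fintype.card_option, hα])
    (extend_steiner hα hB) (β := Option β) (B' := extend B') (by rw [Fintype.card_option, hβ])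
    (extend_steiner hβ hB') (mk a) ⟨Fin.cons none (some ∘ b), Fin.cons_injective_iff.2
      ⟨by simp, (Option.some_injective _).comp b.injective⟩⟩
  have hnone : E none = none := by simpa [mk] using hEa 0
  have hsome : ∀ x, E (some x) = some (Equiv.removeNone E x) := fun x => by
    refine (Equiv.removeNone_some E ?_).symm
    rcases h : E (some x) with _ | y
    · exact absurd (E.injective (h.trans hnone.symm)) (Option.some_ne_none x)
    · exact ⟨y, rfl⟩
  refine ⟨Equiv.removeNone E, fun c => ?_, fun i => ?_⟩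
  · rw [← mem_extend_none, hE, ← mem_extend_none (B := B')]
    have : c.insertNone.image E = (c.image (Equiv.removeNone E)).insertNone := by
      ext x
      simp only [mem_image]
      constructor
      · rintro ⟨z, hz, rfl⟩
        cases z with
        | none => simp [hnone]
        | some z => rw [hsome]; exact some_mem_insertNone.2 (mem_image_of_mem _ (some_mem_insertNone.1 hz))
      · intro hx
        cases x with
        | none => exact ⟨none, by simp, hnone⟩
        | some y =>
          obtain ⟨z, hz, rfl⟩ := mem_image.1 (some_mem_insertNone.1 hx)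
          exact ⟨some z, some_mem_insertNone.2 hz, hsome z⟩
    rw [this]
  · have := hEa i.succ
    simp only [mk, Function.Embedding.coeFn_mk, Fin.cons_succ, Function.comp_apply] at this
    rw [hsome] at this
    exact Option.some_injective _ this

theorem aut_trans11 : MulAction.IsMultiplyPretransitive (Cfsg.setSystemAut (B : Set (Finset α))) α 4 := by
  refine ⟨fun a b => ?_⟩
  obtain ⟨e, he, heab⟩ := iso_frames11 hα hB hα hB a b
  exact ⟨⟨e, Code24.mem_setSystemAut fun c hc => (he c).1 hc⟩, DFunLike.ext _ _ heab⟩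

omit hB in
theorem option_mem {π : Equiv.Perm α} (hπ : π ∈ Cfsg.setSystemAut (B : Set (Finset α))) :
    Equiv.optionCongr π ∈ Cfsg.setSystemAut (extend B : Set (Finset (Option α))) := by
  refine Code24.mem_setSystemAut fun b hb => ?_
  have hm : ∀ c ∈ B, c.image π ∈ B := fun c hc => by
    rw [← mem_coe, ← MulAction.mem_stabilizer_iff.1 hπ]
    exact ⟨c, hc, rfl⟩
  simp only [extend, coe_union, coe_image, Set.mem_union, Set.mem_image, mem_coe] at hb ⊢
  rcases hb with ⟨c, hc, rfl⟩ | ⟨c, hc, rfl⟩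
  · refine Or.inl ⟨_, hm c hc, ?_⟩
    ext x; cases x <;> simp
  · refine Or.inr ⟨_, hm c hc, ?_⟩
    ext x
    simp only [mem_image, mem_map, mem_compl, Function.Embedding.some_apply]
    constructor
    · rintro ⟨a, ha, rfl⟩
      exact ⟨some (π.symm a), ⟨π.symm a, fun h => ha ⟨_, h, π.apply_symm_apply a⟩, rfl⟩, by simp⟩
    · rintro ⟨_, ⟨a, ha, rfl⟩, rfl⟩
      exact ⟨π a, fun ⟨b, hb, e⟩ => ha (π.injective e ▸ hb), by simp⟩

theorem aut_sharp11 (a : Fin 4 ↪ α) :
    MulAction.stabilizer (Cfsg.setSystemAut (B : Set (Finset α))) a = ⊥ := by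
  rw [Subgroup.eq_bot_iff_forall]
  intro π hπ
  have hfix : ∀ i, (π : Equiv.Perm α) (a i) = a i :=
    fun i => DFunLike.congr_fun (MulAction.mem_stabilizer_iff.1 hπ) i
  have h := fix_five (α := Option α) (B := extend B) (by rw [Fintype.card_option, hα]) (extend_steiner hα hB)
    (option_mem hα π.2) ⟨Fin.cons none (some ∘ a), Fin.cons_injective_iff.2
      ⟨by simp, (Option.some_injective _).comp a.injective⟩⟩ (fun i => by
      refine Fin.cases ?_ (fun j => ?_) i
      · simp
      · simp [hfix])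
  refine Subtype.ext (Equiv.ext fun x => ?_)
  have := Equiv.congr_fun h (some x)
  simpa using this

theorem aut_card11 : Nat.card (Cfsg.setSystemAut (B : Set (Finset α))) = 7920 := by
  obtain ⟨a⟩ : Nonempty (Fin 4 ↪ α) := Function.Embedding.nonempty_of_card_le (by rw [hα, Fintype.card_fin]; norm_num)
  let f : Cfsg.setSystemAut (B : Set (Finset α)) → (Fin 4 ↪ α) := fun π => a.trans π.1.toEmbedding
  have hb : Function.Bijective f := by
    constructor
    · intro π π' e
      have h : π'⁻¹ * π ∈ MulAction.stabilizer (Cfsg.setSystemAut (B : Set (Finset α))) a := by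
        refine MulAction.mem_stabilizer_iff.2 (DFunLike.ext _ _ fun i => ?_)
        show (π'.1⁻¹ * π.1) (a i) = a i
        rw [Equiv.Perm.mul_apply, show π.1 (a i) = π'.1 (a i) from DFunLike.congr_fun e i]
        simp
      rw [aut_sharp11 hα hB a, Subgroup.mem_bot, inv_mul_eq_one] at h
      exact h.symm
    · intro x
      obtain ⟨g, hg⟩ := (aut_trans11 hα hB).exists_smul_eq a x
      exact ⟨g, DFunLike.ext _ _ fun i => DFunLike.congr_fun hg i⟩
  rw [Nat.card_congr (Equiv.ofBijective f hb), Nat.card_eq_fintype_card, Fintype.card_embedding_eq, hα,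
    Fintype.card_fin]
  rfl

theorem m11_spec : IsSimpleGroup (Cfsg.setSystemAut (B : Set (Finset α))) := by
  have h12 : Fintype.card (Option α) = 12 := by rw [Fintype.card_option, hα]
  obtain ⟨d, hd, p, hp, Θ, hΘ, hfix⟩ := dodecad_hom h12 (extend_steiner hα hB) (none : Option α)
  set S := MulAction.stabilizer Cfsg.M24 d ⊓ MulAction.stabilizer Cfsg.M24 p
  let f : Cfsg.setSystemAut (B : Set (Finset α)) →* Cfsg.setSystemAut (extend B : Set (Finset (Option α))) :=
    MonoidHom.mk' (fun π => ⟨Equiv.optionCongr π.1, option_mem hα π.2⟩) fun π π' =>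
      Subtype.ext (Equiv.ext fun x => by cases x <;> rfl)
  let g : Cfsg.setSystemAut (B : Set (Finset α)) →* S :=
    MonoidHom.mk' (fun π => ⟨((MulEquiv.ofBijective Θ hΘ).symm (f π) : Cfsg.M24),
      ((MulEquiv.ofBijective Θ hΘ).symm (f π)).2, MulAction.mem_stabilizer_iff.2 ((hfix _).2 (by
        rw [show Θ ((MulEquiv.ofBijective Θ hΘ).symm (f π)) = f π from
          (MulEquiv.ofBijective Θ hΘ).apply_symm_apply _]
        rfl))⟩) fun π π' => by
      refine Subtype.ext ?_
      show ((MulEquiv.ofBijective Θ hΘ).symm (f (π * π')) : Cfsg.M24) = _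
      rw [map_mul, map_mul]
      rfl
  have hinj : Function.Injective g := by
    intro π π' e
    have e1 : (MulEquiv.ofBijective Θ hΘ).symm (f π) = (MulEquiv.ofBijective Θ hΘ).symm (f π') :=
      Subtype.ext (congrArg (fun z : S => (z : Cfsg.M24)) e)
    have e2 := congrArg Subtype.val ((MulEquiv.ofBijective Θ hΘ).symm.injective e1)
    exact Subtype.ext (Equiv.optionCongr_injective e2)
  have hb : Function.Bijective g := (Nat.bijective_iff_injective_and_card _).2
    ⟨hinj, by rw [aut_card11 hα hB, Spor.card_stab_dodecad_point hd hp]⟩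
  haveI : IsSimpleGroup S := Spor.simple_dodecad_point hd hp
  exact (MulEquiv.ofBijective g hb).isSimpleGroup

end Eleven

end Cfsg.Agent.Spor.SmallSys
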