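import Cfsg.Agent.Lib.Spor.PlaneFour
import Cfsg.Agent.Lib.Spor.SmallSteiner
import Cfsg.Agent.Lib.Spor.GolayCount
import Cfsg.Agent.Lib.Small.PSLn.Simple
import Cfsg.Agent.Lib.Lead.GLBasic

/-!
The automorphisms of the plane of order four: at most 120960 of them, and the three-point stabiliser
of the length-24 code is the linear group on the plane.
-/

set_option autoImplicit false
set_option maxHeartbeats 1000000

namespace Cfsg.Agent.Spor.PlaneAut

open Finset PlaneFour
open scoped Pointwise LinearAlgebra.Projectivization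

/-- the points of the model -/
abbrev P21 := Fin 6 ⊕ Fin 15

theorem secant_unique (d : Fin 15) (l : Finset P21) (hl : l ∈ lines) (h1 : Sum.inl (duad d).1 ∈ l)
    (h2 : Sum.inl (duad d).2 ∈ l) : l = secant d := by
  have key : ∀ d d' : Fin 15, ((duad d).1 = (duad d').1 ∨ (duad d).1 = (duad d').2) →
      ((duad d).2 = (duad d').1 ∨ (duad d).2 = (duad d').2) → d' = d := by decide +kernel
  simp only [lines, mem_union, mem_image, mem_univ, true_and] at hl
  rcases hl with ⟨d', rfl⟩ | ⟨t, rfl⟩
  · simp only [secant, inl_mem_disjSum, mem_insert, mem_singleton] at h1 h2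
    rw [key d d' h1 h2]
  · simp [external] at h1

theorem secant_pair : ∀ k, ∃ d d', secant d ∩ secant d' = {(Sum.inr k : P21)} := by decide +kernel

theorem ext_line_abc :
    (secant 0).card = 5 ∧ (secant 0 ∪ secant 1 ∪ secant 5).card = 12 ∧
      (univ \ (secant 0 ∪ secant 1 ∪ secant 2 ∪ secant 5 ∪ secant 6 ∪ secant 9) : Finset P21) =
        {Sum.inl 4, Sum.inl 5} := by
  decide +kernel

/-- the automorphisms of the model -/
def modelAut : Subgroup (Equiv.Perm P21) := Cfsg.setSystemAut (lines : Set (Finset P21))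

theorem maps_lines {σ : Equiv.Perm P21} (hσ : σ ∈ modelAut) {l : Finset P21} (hl : l ∈ lines) :
    l.image σ ∈ lines := by
  rw [← mem_coe, ← MulAction.mem_stabilizer_iff.1 hσ]
  exact ⟨l, hl, rfl⟩

theorem secant_fixed {σ : Equiv.Perm P21} (hσ : σ ∈ modelAut) (d : Fin 15)
    (h1 : σ (Sum.inl (duad d).1) = Sum.inl (duad d).1) (h2 : σ (Sum.inl (duad d).2) = Sum.inl (duad d).2) :
    (secant d).image σ = secant d := by
  refine secant_unique d _ (maps_lines hσ (mem_union_left _ (mem_image_of_mem _ (mem_univ d)))) ?_ ?_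
  · exact mem_image.2 ⟨_, by simp [secant], h1⟩
  · exact mem_image.2 ⟨_, by simp [secant], h2⟩

theorem not_moved {σ : Equiv.Perm P21} {s : Finset P21} (h : s.image σ = s) {x : P21} (hx : x ∉ s) :
    σ x ∉ s := fun hh => hx (by
  rw [← h] at hh
  exact σ.injective.mem_finset_image.1 hh)

/-- one step of the orbit bound -/
theorem card_le_step {G : Type*} [Group G] [Finite G] {X : Type*} [DecidableEq X] [MulAction G X] (x : X)
    (T : Finset X) (h : ∀ g : G, g • x ∈ T) :
    Nat.card G ≤ T.card * Nat.card (MulAction.stabilizer G x) := by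
  rw [← Subgroup.card_mul_index (MulAction.stabilizer G x), MulAction.index_stabilizer, mul_comm]
  refine Nat.mul_le_mul_right _ ?_
  rw [← Set.ncard_coe_finset T]
  refine Set.ncard_le_ncard ?_ (Finset.finite_toSet T)
  rintro _ ⟨g, rfl⟩
  exact h g

theorem card_modelAut : Nat.card modelAut ≤ 120960 := by
  let p : Fin 6 → P21 := Sum.inl
  set G1 := MulAction.stabilizer modelAut (p 0)
  set G2 := MulAction.stabilizer G1 (p 1)
  set G3 := MulAction.stabilizer G2 (p 2)
  set G4 := MulAction.stabilizer G3 (p 3)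
  set G5 := MulAction.stabilizer G4 (p 4)
  have f0 : ∀ g : G1, ((g : modelAut) : Equiv.Perm P21) (p 0) = p 0 := fun g => g.2
  have f1 : ∀ g : G2, (((g : G1) : modelAut) : Equiv.Perm P21) (p 1) = p 1 := fun g => g.2
  have f2 : ∀ g : G3, ((((g : G2) : G1) : modelAut) : Equiv.Perm P21) (p 2) = p 2 := fun g => g.2
  have f3 : ∀ g : G4, (((((g : G3) : G2) : G1) : modelAut) : Equiv.Perm P21) (p 3) = p 3 := fun g => g.2
  have s1 : Nat.card modelAut ≤ 21 * Nat.card G1 := by
    refine (card_le_step (p 0) univ fun g => mem_univ _).trans (le_of_eq ?_)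
    rfl
  have s2 : Nat.card G1 ≤ 20 * Nat.card G2 := by
    refine (card_le_step (p 1) (univ.erase (p 0)) fun g => mem_erase.2 ⟨fun e => ?_, mem_univ _⟩).trans
      (le_of_eq (by rw [card_erase_of_mem (mem_univ _)]; rfl))
    have e' : ((g : modelAut) : Equiv.Perm P21) (p 1) = ((g : modelAut) : Equiv.Perm P21) (p 0) := e.trans (f0 g).symm
    exact absurd (((g : modelAut) : Equiv.Perm P21).injective e') (by decide)
  have s3 : Nat.card G2 ≤ 16 * Nat.card G3 := by
    refine (card_le_step (p 2) (univ \ secant 0) fun g => mem_sdiff.2 ⟨mem_univ _, ?_⟩).trans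
      (le_of_eq (by rw [card_sdiff_of_subset (subset_univ _), ext_line_abc.1]; rfl))
    exact not_moved (secant_fixed ((g : G1) : modelAut).2 0 (f0 g.1) (f1 g)) (by decide +kernel)
  have s4 : Nat.card G3 ≤ 9 * Nat.card G4 := by
    refine (card_le_step (p 3) (univ \ (secant 0 ∪ secant 1 ∪ secant 5)) fun g => mem_sdiff.2 ⟨mem_univ _, ?_⟩).trans
      (le_of_eq (by rw [card_sdiff_of_subset (subset_univ _), ext_line_abc.2.1]; rfl))
    refine not_moved ?_ (by decide +kernel)
    have h := (((g : G2) : G1) : modelAut).2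
    rw [image_union, image_union, secant_fixed h 0 (f0 _) (f1 g.1), secant_fixed h 1 (f0 _) (f2 g),
      secant_fixed h 5 (f1 g.1) (f2 g)]
  have hsix : ∀ g : G4, (((((g : G3) : G2) : G1) : modelAut) : Equiv.Perm P21) (p 4) ∈ ({p 4, p 5} : Finset P21) ∧
      (((((g : G3) : G2) : G1) : modelAut) : Equiv.Perm P21) (p 5) ∈ ({p 4, p 5} : Finset P21) := by
    intro g
    have h := ((((g : G3) : G2) : G1) : modelAut).2
    have hU : (secant 0 ∪ secant 1 ∪ secant 2 ∪ secant 5 ∪ secant 6 ∪ secant 9).image
        (((((g : G3) : G2) : G1) : modelAut) : Equiv.Perm P21) =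
        secant 0 ∪ secant 1 ∪ secant 2 ∪ secant 5 ∪ secant 6 ∪ secant 9 := by
      simp only [image_union]
      rw [secant_fixed h 0 (f0 _) (f1 _), secant_fixed h 1 (f0 _) (f2 _), secant_fixed h 2 (f0 _) (f3 g),
        secant_fixed h 5 (f1 _) (f2 _), secant_fixed h 6 (f1 _) (f3 g), secant_fixed h 9 (f2 _) (f3 g)]
    refine ⟨?_, ?_⟩ <;>
    · show _ ∈ ({Sum.inl 4, Sum.inl 5} : Finset P21)
      rw [← ext_line_abc.2.2]
      exact mem_sdiff.2 ⟨mem_univ _, not_moved hU (by decide +kernel)⟩
  have s5 : Nat.card G4 ≤ 2 * Nat.card G5 := by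
    refine (card_le_step (p 4) {p 4, p 5} fun g => (hsix g).1).trans (le_of_eq ?_)
    rw [card_pair (by decide)]
  have s6 : G5 = ⊥ := by
    rw [Subgroup.eq_bot_iff_forall]
    intro g hg
    have f4 : (((((g : G3) : G2) : G1) : modelAut) : Equiv.Perm P21) (p 4) = p 4 := hg
    set σ := (((((g : G3) : G2) : G1) : modelAut) : Equiv.Perm P21) with hσ
    have hmem : σ ∈ modelAut := ((((g : G3) : G2) : G1) : modelAut).2
    have f5 : σ (p 5) = p 5 := by
      have h5 := (hsix g).2
      rw [← hσ, mem_insert, mem_singleton] at h5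
      exact h5.resolve_left fun e => absurd (σ.injective (e.trans f4.symm)) (by decide)
    have hall : ∀ i, σ (p i) = p i := by
      intro i
      fin_cases i
      exacts [f0 _, f1 _, f2 _, f3 g, f4, f5]
    refine Subtype.ext (Subtype.ext (Subtype.ext (Subtype.ext (Subtype.ext (Equiv.ext fun x => ?_)))))
    show σ x = x
    rcases x with i | k
    · exact hall i
    · obtain ⟨d, d', e⟩ := secant_pair k
      have : ({Sum.inr k} : Finset P21).image σ = {Sum.inr k} := by
        rw [← e, image_inter _ _ σ.injective, secant_fixed hmem d (hall _) (hall _),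
          secant_fixed hmem d' (hall _) (hall _)]
      rw [image_singleton, singleton_inj] at this
      exact this
  rw [s6, Subgroup.card_bot] at s5
  omega

variable {α : Type*} [Fintype α] [DecidableEq α] {B : Finset (Finset α)}

theorem card_aut_le (hα : Fintype.card α = 21) (hB : Cfsg.IsSteinerSystem 2 5 (B : Set (Finset α))) :
    Nat.card (Cfsg.setSystemAut (B : Set (Finset α))) ≤ 120960 := by
  obtain ⟨Ψ, hΨ⟩ := exists_coord hα hB
  let f : Cfsg.setSystemAut (B : Set (Finset α)) → modelAut := fun π => ⟨Ψ.permCongr π.1, by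
    refine Code24.mem_setSystemAut fun l hl => ?_
    rw [mem_coe] at hl ⊢
    have e : l = (l.image Ψ.symm).image Ψ := by rw [image_image, Equiv.self_comp_symm, image_id]
    rw [e, ← hΨ] at hl
    have h : (l.image Ψ.symm).image π.1 ∈ B :=
      mem_coe.1 ((MulAction.mem_stabilizer_iff.1 π.2).le ⟨_, hl, rfl⟩)
    rw [hΨ, image_image, image_image] at h
    convert h using 2
    funext x
    simp [Equiv.permCongr_apply]⟩
  have hf : Function.Injective f := fun a b h => Subtype.ext (Ψ.permCongr.injective (congrArg Subtype.val h))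
  exact (Nat.card_le_card_of_injective f hf).trans card_modelAut

/-- two subgroups of order at least 20160 of a plane group, one of them simple, coincide -/
theorem simple_le {H : Type*} [Group H] [Finite H] (hH : Nat.card H ≤ 120960) (N P : Subgroup H)
    (hP : IsSimpleGroup P) (hN : 20160 ≤ Nat.card N) (hP' : 20160 ≤ Nat.card P) : P ≤ N := by
  classical
  have h1 : N.index ≤ 6 := by
    have := Subgroup.card_mul_index N
    by_contra h
    have h7 : 20160 * 7 ≤ Nat.card N * N.index := Nat.mul_le_mul hN (by omega)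
    omega
  set M := N.subgroupOf P
  have hidx : M.index ≤ 6 := by
    show N.relIndex P ≤ 6
    refine le_trans ?_ h1
    rw [← Subgroup.relIndex_top_right N]
    exact Subgroup.relIndex_le_of_le_right le_top (by rw [Subgroup.relIndex_top_right]; exact Subgroup.index_ne_zero_of_finite)
  by_contra hne
  have hM : M ≠ ⊤ := fun h => hne (Subgroup.subgroupOf_eq_top.1 h)
  have hcore : M.normalCore = ⊥ := by
    haveI := M.normalCore_normal
    rcases hP.eq_bot_or_eq_top_of_normal M.normalCore inferInstance with h | h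
    · exact h
    · exact absurd (eq_top_iff.2 (h ▸ M.normalCore_le)) hM
  have hinj : Function.Injective (MulAction.toPermHom P (P ⧸ M)) := by
    rw [← MonoidHom.ker_eq_bot_iff, ← Subgroup.normalCore_eq_ker, hcore]
  have hle := Nat.card_le_card_of_injective _ hinj
  rw [Nat.card_perm, ← Subgroup.index] at hle
  have := Nat.factorial_le hidx
  have : Nat.factorial 6 = 720 := rfl
  omega

/-! The two planes -/

/-- the octads through three points, on the other points -/
def derived (P : Finset Cfsg.GolayPt) : Set (Finset {x : Cfsg.GolayPt // x ∉ P}) :=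
  {l | ∃ o ∈ Cfsg.octads, P ⊆ o ∧ l = Finset.subtype (fun x => x ∉ P) o}

theorem derived_steiner {P : Finset Cfsg.GolayPt} (hP : P.card = 3) :
    Cfsg.IsSteinerSystem 2 5 (derived P) := by
  constructor
  · rintro l ⟨o, ho, hPo, rfl⟩
    rw [card_subtype, filter_not, filter_mem_eq_inter, inter_eq_right.2 hPo, card_sdiff_of_subset hPo, ho.2, hP]
  · intro s hs
    set t := s.map (Function.Embedding.subtype _) with ht
    have hdis : Disjoint P t := disjoint_left.2 fun x hx hxt => by
      obtain ⟨y, -, rfl⟩ := mem_map.1 hxt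
      exact y.2 hx
    have htc : (P ∪ t).card = 5 := by rw [card_union_of_disjoint hdis, hP, ht, card_map, hs]
    obtain ⟨o, ⟨ho, hto⟩, huniq⟩ := octads_steiner.2 (P ∪ t) htc
    have hsub : ∀ o', t ⊆ o' ↔ s ⊆ Finset.subtype (fun x => x ∉ P) o' := by
      intro o'
      rw [ht]
      exact ⟨fun h x hx => mem_subtype.2 (h (mem_map.2 ⟨x, hx, rfl⟩)), fun h x hx => by
        obtain ⟨y, hy, rfl⟩ := mem_map.1 hx
        exact mem_subtype.1 (h hy)⟩
    refine ⟨Finset.subtype (fun x => x ∉ P) o,
      ⟨⟨o, ho, subset_union_left.trans hto, rfl⟩, (hsub o).1 (subset_union_right.trans hto)⟩, ?_⟩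
    rintro l ⟨⟨o', ho', hPo', rfl⟩, hsl⟩
    rw [huniq o' ⟨ho', union_subset hPo' ((hsub o').2 hsl)⟩]

section Projective

variable {F : Type} [Field F] [Fintype F]

/-- the lines of the projective plane -/
noncomputable def projLines [DecidableEq (ℙ F (Fin 3 → F))] [Fintype (ℙ F (Fin 3 → F))] :
    Set (Finset (ℙ F (Fin 3 → F))) :=
  {l | ∃ W : Submodule F (Fin 3 → F), Module.finrank F W = 2 ∧ ∀ x, x ∈ l ↔ x.submodule ≤ W}

theorem proj_steiner [DecidableEq (ℙ F (Fin 3 → F))] [Fintype (ℙ F (Fin 3 → F))] (hF : Fintype.card F = 4) :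
    Cfsg.IsSteinerSystem 2 5 (projLines (F := F)) := by
  classical
  refine ⟨fun l hl => ?_, fun s hs => ?_⟩
  · obtain ⟨W, hW, hl⟩ := hl
    have e : Nat.card {x : ℙ F (Fin 3 → F) // x.submodule ≤ W} = Nat.card (ℙ F W) := by
      refine (Nat.card_congr (Equiv.ofBijective
        (fun q : ℙ F W => (⟨Projectivization.map W.subtype W.injective_subtype q, by
          induction q using Projectivization.ind with
          | _ v hv =>
            rw [Projectivization.map_mk, Projectivization.submodule_mk, Submodule.span_singleton_le_iff_mem]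
            exact v.2⟩ : {x : ℙ F (Fin 3 → F) // x.submodule ≤ W})) ⟨?_, ?_⟩)).symm
      · exact fun a b h => Projectivization.map_injective _ W.injective_subtype (congrArg Subtype.val h)
      · rintro ⟨x, hx⟩
        induction x using Projectivization.ind with
        | _ v hv =>
          rw [Projectivization.submodule_mk, Submodule.span_singleton_le_iff_mem] at hx
          exact ⟨Projectivization.mk F ⟨v, hx⟩ fun h => hv (congrArg Subtype.val h), Subtype.ext rfl⟩
    have hc : Nat.card (ℙ F W) = 5 := by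
      rw [Projectivization.card_of_finrank F W hW, Nat.card_eq_fintype_card, hF]
      rfl
    rw [← hc, ← e, Nat.card_eq_fintype_card, Fintype.card_subtype]
    congr 1
    ext x
    simp [hl]
  · obtain ⟨a, b, hab, rfl⟩ := card_eq_two.1 hs
    have hW : Module.finrank F ↥(a.submodule ⊔ b.submodule) = 2 := by
      have e := Submodule.finrank_sup_add_finrank_inf_eq a.submodule b.submodule
      have hne : a.submodule ⊓ b.submodule = ⊥ := by
        rw [← disjoint_iff]
        rw [← Projectivization.mk_rep a, ← Projectivization.mk_rep b, Projectivization.submodule_mk,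
          Projectivization.submodule_mk, Submodule.disjoint_span_singleton' b.rep_nonzero]
        intro hmem
        obtain ⟨c, hc⟩ := Submodule.mem_span_singleton.1 hmem
        refine hab ?_
        rw [← Projectivization.mk_rep a, ← Projectivization.mk_rep b, Projectivization.mk_eq_mk_iff']
        have hc0 : c ≠ 0 := fun h => b.rep_nonzero (by rw [← hc, h, zero_smul])
        exact ⟨c⁻¹, by rw [← hc, inv_smul_smul₀ hc0]⟩
      rw [hne, finrank_bot, Projectivization.finrank_submodule, Projectivization.finrank_submodule] at e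
      omega
    refine ⟨univ.filter fun x => x.submodule ≤ a.submodule ⊔ b.submodule,
      ⟨⟨a.submodule ⊔ b.submodule, hW, fun x => by simp⟩, fun x hx => ?_⟩, ?_⟩
    · simp only [mem_insert, mem_singleton] at hx
      rcases hx with rfl | rfl
      · exact mem_filter.2 ⟨mem_univ _, le_sup_left⟩
      · exact mem_filter.2 ⟨mem_univ _, le_sup_right⟩
    · rintro l ⟨⟨W, hW', hl⟩, hsl⟩
      have heq : a.submodule ⊔ b.submodule = W := Submodule.eq_of_le_of_finrank_eq
        (sup_le ((hl a).1 (hsl (mem_insert_self _ _))) ((hl b).1 (hsl (mem_insert_of_mem (mem_singleton_self _)))))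
        (by rw [hW, hW'])
      ext x
      rw [hl, mem_filter, heq]
      simp

theorem psl_maps [DecidableEq (ℙ F (Fin 3 → F))] [Fintype (ℙ F (Fin 3 → F))]
    (g : Matrix.SpecialLinearGroup (Fin 3) F) {l : Finset (ℙ F (Fin 3 → F))} (hl : l ∈ projLines) :
    l.image (fun x => g • x) ∈ projLines := by
  obtain ⟨W, hW, hl⟩ := hl
  let e : (Fin 3 → F) ≃ₗ[F] (Fin 3 → F) := Matrix.SpecialLinearGroup.toLin' g
  have hsm : ∀ x : ℙ F (Fin 3 → F), (g • x).submodule = x.submodule.map e.toLinearMap := by
    intro x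
    induction x using Projectivization.ind with
    | _ v hv =>
      rw [Projectivization.smul_mk, Projectivization.submodule_mk, Projectivization.submodule_mk,
        Submodule.map_span, Set.image_singleton]
      rfl
  refine ⟨W.map e.toLinearMap, by rw [LinearEquiv.finrank_map_eq, hW], fun x => ?_⟩
  rw [mem_image]
  constructor
  · rintro ⟨y, hy, rfl⟩
    rw [hsm]
    exact Submodule.map_mono ((hl y).1 hy)
  · intro hx
    refine ⟨g⁻¹ • x, (hl _).2 ?_, smul_inv_smul g x⟩
    rw [← smul_inv_smul g x, hsm] at hx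
    exact (Submodule.map_le_map_iff_of_injective e.injective _ _).1 hx

theorem card_psl34 (hF : Fintype.card F = 4) :
    Nat.card (Matrix.ProjectiveSpecialLinearGroup (Fin 3) F) = 20160 := by
  classical
  have hGL : Nat.card (GL (Fin 3) F) = 181440 := by
    rw [Matrix.card_GL_field, hF]
    rfl
  let d : GL (Fin 3) F →* Fˣ := Matrix.GeneralLinearGroup.det
  have hsurj : Function.Surjective d := fun u => by
    refine ⟨Matrix.GeneralLinearGroup.mkOfDetNeZero
      (Matrix.diagonal (Function.update 1 0 (u : F))) ?_, ?_⟩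
    · rw [Matrix.det_diagonal, Finset.prod_update_of_mem (Finset.mem_univ _)]
      simp
    · apply Units.ext
      simp [d, Matrix.GeneralLinearGroup.val_det_apply, Matrix.GeneralLinearGroup.mkOfDetNeZero,
        Finset.prod_update_of_mem]
  rw [Subgroup.card_eq_card_quotient_mul_card_subgroup d.ker,
    Nat.card_congr (QuotientGroup.quotientKerEquivOfSurjective d hsurj).toEquiv, Nat.card_units,
    Nat.card_eq_fintype_card (α := F), hF] at hGL
  have hSL : Nat.card (Matrix.SpecialLinearGroup (Fin 3) F) = 60480 := by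
    rw [Nat.card_congr (Equiv.ofBijective
      (fun A : Matrix.SpecialLinearGroup (Fin 3) F => (⟨Matrix.SpecialLinearGroup.toGL A, Units.ext A.2⟩ : d.ker))
      ⟨fun A B h => Matrix.SpecialLinearGroup.toGL_injective (congrArg Subtype.val h),
        fun g => ⟨⟨g.1.val, congrArg Units.val g.2⟩, Subtype.ext (Units.ext rfl)⟩⟩)]
    omega
  have h := Cfsg.Agent.Lead.GLBasic.card_PSL (F := F) 3
  rw [hF, hSL, show Nat.gcd 3 (4 - 1) = 3 from rfl] at h
  omega

theorem three_point_iso {p q r : Cfsg.GolayPt} (hpq : p ≠ q) (hpr : p ≠ r) (hqr : q ≠ r) (hF : Fintype.card F = 4) :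
    Nonempty (↥(MulAction.stabilizer Cfsg.M24 p ⊓ MulAction.stabilizer Cfsg.M24 q ⊓
      MulAction.stabilizer Cfsg.M24 r) ≃* Matrix.ProjectiveSpecialLinearGroup (Fin 3) F) := by
  classical
  haveI : Fintype (ℙ F (Fin 3 → F)) := Fintype.ofFinite _
  set P : Finset Cfsg.GolayPt := {p, q, r}
  have hP : P.card = 3 := card_eq_three.2 ⟨p, q, r, hpq, hpr, hqr, rfl⟩
  set S := MulAction.stabilizer Cfsg.M24 p ⊓ MulAction.stabilizer Cfsg.M24 q ⊓ MulAction.stabilizer Cfsg.M24 r
  have hfixP : ∀ g : S, ∀ x ∈ P, ((g : Cfsg.M24) : Equiv.Perm Cfsg.GolayPt) x = x := by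
    intro g x hx
    simp only [P, mem_insert, mem_singleton] at hx
    rcases hx with rfl | rfl | rfl
    exacts [g.2.1.1, g.2.1.2, g.2.2]
  -- the stabiliser has order 20160
  let x3 : Fin 3 ↪ Cfsg.GolayPt := ⟨![p, q, r], fun i j e => by
    fin_cases i <;> fin_cases j <;> first | rfl | (exfalso; revert e; simp [hpq, hpr, hqr, hpq.symm, hpr.symm, hqr.symm])⟩
  have hScard : Nat.card S = 20160 := by
    refine (Nat.card_congr ?_).trans (card_fix (show 3 ≤ 5 by norm_num) x3)
    refine
      { toFun := fun g => ⟨g.1.1, g.1.2, (mem_fixingSubgroup_iff _).2 (by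
          rintro y ⟨i, rfl⟩
          exact hfixP g _ (by show (![p, q, r] i) ∈ _; fin_cases i <;> simp [P]))⟩
        invFun := fun g => ⟨⟨g.1, g.2.1⟩, ⟨(mem_fixingSubgroup_iff _).1 g.2.2 p ⟨0, rfl⟩,
          (mem_fixingSubgroup_iff _).1 g.2.2 q ⟨1, rfl⟩⟩, (mem_fixingSubgroup_iff _).1 g.2.2 r ⟨2, rfl⟩⟩
        left_inv := fun _ => rfl
        right_inv := fun _ => rfl }
  have hα : Fintype.card {x : Cfsg.GolayPt // x ∉ P} = 21 := by
    rw [Fintype.card_subtype_compl, Fintype.card_coe, hP]; rfl
  obtain ⟨D, hD⟩ := Steiner.exists_finset (derived P)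
  have hDs : Cfsg.IsSteinerSystem 2 5 (D : Set (Finset {x : Cfsg.GolayPt // x ∉ P})) := hD ▸ derived_steiner hP
  obtain ⟨L, hL⟩ := Steiner.exists_finset (projLines (F := F))
  have hLs : Cfsg.IsSteinerSystem 2 5 (L : Set (Finset (ℙ F (Fin 3 → F)))) := hL ▸ proj_steiner hF
  have hℙ : Fintype.card (ℙ F (Fin 3 → F)) = 21 := by
    rw [← Nat.card_eq_fintype_card,
      Projectivization.card_of_finrank F (Fin 3 → F) (Module.finrank_fin_fun F), Nat.card_eq_fintype_card, hF]
    rfl
  obtain ⟨e, he⟩ := plane_unique hℙ hα hLs hDs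
  set A := Cfsg.setSystemAut (D : Set (Finset {x : Cfsg.GolayPt // x ∉ P}))
  -- the stabiliser inside the plane group
  let act : S →* Equiv.Perm {x : Cfsg.GolayPt // x ∉ P} := MonoidHom.mk'
    (fun g => ((g : Cfsg.M24) : Equiv.Perm Cfsg.GolayPt).subtypePerm fun x => by
      constructor
      · intro h hx
        exact h (by rw [hfixP g x hx]; exact hx)
      · intro h hx
        exact h (by
          have := ((g : Cfsg.M24) : Equiv.Perm Cfsg.GolayPt).injective (hfixP g _ hx)
          rwa [← this]))
    (fun g h => Equiv.ext fun x => Subtype.ext rfl)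
  have hact : ∀ g, act g ∈ A := by
    intro g
    refine Code24.mem_setSystemAut fun l hl => ?_
    rw [← hD] at hl ⊢
    obtain ⟨o, ho, hPo, rfl⟩ := hl
    refine ⟨((g : Cfsg.M24) : Equiv.Perm Cfsg.GolayPt) • o, smul_octad (g : Cfsg.M24).2 ho, ?_, ?_⟩
    · intro x hx
      have := Finset.smul_mem_smul_finset (a := ((g : Cfsg.M24) : Equiv.Perm Cfsg.GolayPt)) (hPo hx)
      rwa [Equiv.Perm.smul_def, hfixP g x hx] at this
    · ext x
      simp only [mem_image, mem_subtype]
      constructor
      · rintro ⟨y, hy, rfl⟩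
        exact Finset.smul_mem_smul_finset hy
      · intro hx
        obtain ⟨y, rfl⟩ := (act g).surjective x
        exact ⟨y, (Finset.smul_mem_smul_finset_iff _).1 hx, rfl⟩
  let φ : S →* A := act.codRestrict A hact
  have hφ : Function.Injective φ := by
    rw [injective_iff_map_eq_one]
    intro g hg
    refine Subtype.ext (Subtype.ext (eq_one_of_fix_ten (g : Cfsg.M24).2 (F := univ.filter fun x => x ∉ P) (by
      rw [← Fintype.card_subtype, hα]; norm_num) fun x hx => ?_))
    exact congrArg Subtype.val (Equiv.congr_fun (congrArg Subtype.val hg) ⟨x, (mem_filter.1 hx).2⟩)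
  -- the linear group inside the plane group
  let lin : Matrix.ProjectiveSpecialLinearGroup (Fin 3) F →* Equiv.Perm {x : Cfsg.GolayPt // x ∉ P} :=
    e.permCongrHom.toMonoidHom.comp (MulAction.toPermHom _ _)
  have hlin : ∀ g, lin g ∈ A := by
    intro g
    obtain ⟨g, rfl⟩ := QuotientGroup.mk_surjective g
    refine Code24.mem_setSystemAut fun l hl => ?_
    rw [← he] at hl ⊢
    obtain ⟨m, hm, rfl⟩ := hl
    refine ⟨m.image (fun x => g • x), ?_, ?_⟩
    · rw [← hL] at hm ⊢
      exact psl_maps g hm
    · show (m.image fun x => g • x).image e = (m.image e).image _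
      rw [image_image, image_image]
      congr 1
      funext x
      simp [lin, Matrix.ProjectiveSpecialLinearGroup.smul_proj_mk]
  let ψ : Matrix.ProjectiveSpecialLinearGroup (Fin 3) F →* A := lin.codRestrict A hlin
  have hψ : Function.Injective ψ := by
    intro a b h
    have h' := e.permCongrHom.injective (congrArg Subtype.val h)
    exact MulAction.toPerm_injective h'
  haveI hsimple : IsSimpleGroup (Matrix.ProjectiveSpecialLinearGroup (Fin 3) F) :=
    Cfsg.Agent.Small.PSLn.psl_simple le_rfl
  have hr : Nat.card φ.range = 20160 := (Nat.card_congr (MonoidHom.ofInjective hφ).toEquiv).symm.trans hScard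
  have hr' : Nat.card ψ.range = 20160 :=
    (Nat.card_congr (MonoidHom.ofInjective hψ).toEquiv).symm.trans (card_psl34 hF)
  have hsimp : IsSimpleGroup ψ.range := (MonoidHom.ofInjective hψ).symm.isSimpleGroup
  have hle := simple_le (card_aut_le hα hDs) φ.range ψ.range hsimp hr.ge hr'.ge
  have heq : ψ.range = φ.range := Subgroup.eq_of_le_of_card_ge hle (by rw [hr, hr'])
  exact ⟨(MonoidHom.ofInjective hφ).trans ((MulEquiv.subgroupCongr heq.symm).trans (MonoidHom.ofInjective hψ).symm)⟩

end Projective

end Cfsg.Agent.Spor.PlaneAut
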