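import Cfsg.Agent.Lib.Spor.ThreeRelations
import Cfsg.Agent.Lib.Solv.Component
import Cfsg.Agent.Lib.Local.Basics
import Cfsg.Agent.Lib.Char.Burnside
import Cfsg.Prelude.Def_Local

/-!
The cores and the layer of a group generated by a class of 3-transpositions.
-/

set_option autoImplicit false

open scoped Pointwise commutatorElement

namespace Cfsg.Agent.Spor

variable {G : Type*} [Group G]

theorem perfect_solvable_eq_bot {S : Subgroup G} (hS : ⁅S, S⁆ = S) (hsol : Group.IsSolvable S) :
    S = ⊥ := by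
  by_contra hne
  haveI : Nontrivial S := (Subgroup.nontrivial_iff_ne_bot S).2 hne
  haveI : Group.IsPerfect S := Subgroup.isPerfect_iff.2 hS
  exact Group.IsPerfect.not_isSolvable (G := S) hsol

theorem pgroup_solvable [Finite G] {p : ℕ} [Fact p.Prime] {A : Subgroup G} (h : IsPGroup p A) :
    Group.IsSolvable A := by
  haveI := h.isNilpotent
  infer_instance

/-- A perfect normal subgroup centralising the largest normal `p`-subgroup is centralised by an involution
`d` if the products of `d` with its conjugates generate a `p`-group. -/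
theorem commute_of_pgroup_products [Finite G] {p : ℕ} [Fact p.Prime] {E : Subgroup G} [E.Normal]
    (hE : ⁅E, E⁆ = E) (hcE : ⁅E, Cfsg.pCore p G⁆ = ⊥) {d : G} (hd : d * d = 1)
    (A : Subgroup G) (hA : IsPGroup p A) (hmem : ∀ g ∈ E, d * (g * d * g⁻¹) ∈ A) :
    ∀ g ∈ E, Commute d g := by
  have hdi : d⁻¹ = d := inv_eq_of_mul_eq_one_right hd
  set S : Set G := (fun g => d * (g * d * g⁻¹)) '' (E : Set G) with hS
  set T := Subgroup.closure S with hT
  have hTA : T ≤ A := (Subgroup.closure_le A).2 (by rintro _ ⟨g, hg, rfl⟩; exact hmem g hg)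
  have hTE : T ≤ E := by
    refine (Subgroup.closure_le E).2 ?_
    rintro _ ⟨g, hg, rfl⟩
    have h1 := ‹E.Normal›.conj_mem g hg d
    have := mul_mem h1 (inv_mem hg)
    show d * (g * d * g⁻¹) ∈ E
    rw [hdi] at h1 this
    simpa only [mul_assoc] using this
  have hstep : ∀ h g : G, h * (d * (g * d * g⁻¹)) * h⁻¹ =
      (d * (h * d * h⁻¹))⁻¹ * (d * (h * g * d * (h * g)⁻¹)) := fun h g => by
    conv_lhs => rw [show d * (g * d * g⁻¹) = d⁻¹ * (g * d * g⁻¹) by rw [hdi]]
    group
  have hTn : ∀ h ∈ E, ∀ t ∈ T, h * t * h⁻¹ ∈ T := by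
    intro h hh t ht
    induction ht using Subgroup.closure_induction with
    | mem x hx =>
      obtain ⟨g, hg, rfl⟩ := hx
      rw [hstep h g]
      exact mul_mem (inv_mem (Subgroup.subset_closure ⟨h, hh, rfl⟩))
        (Subgroup.subset_closure ⟨h * g, mul_mem hh hg, rfl⟩)
    | one => simp
    | mul a b _ _ ha hb =>
      rw [show h * (a * b) * h⁻¹ = (h * a * h⁻¹) * (h * b * h⁻¹) by group]
      exact mul_mem ha hb
    | inv a _ ha =>
      rw [show h * a⁻¹ * h⁻¹ = (h * a * h⁻¹)⁻¹ by group]
      exact inv_mem ha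
  haveI : (T.subgroupOf E).Normal := ⟨fun x hx h => hTn h h.2 x hx⟩
  have hTp : IsPGroup p (T.subgroupOf E) := (hA.to_le hTA).comap_subtype
  haveI := Solv.pCore_normal (G := E) p
  haveI : ((Cfsg.pCore p E).map E.subtype).Normal := by
    haveI : (Cfsg.pCore p E).Characteristic := by
      rw [Subgroup.characteristic_iff_map_le]
      intro φ
      rw [Cfsg.pCore, (Subgroup.gc_map_comap φ.toMonoidHom).l_sSup]
      refine iSup₂_le fun N hN => le_sSup ?_
      exact ⟨hN.1.map _ φ.surjective, hN.2.map _⟩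
    infer_instance
  have hTO : T ≤ Cfsg.pCore p G := by
    intro t ht
    have h1 : (⟨t, hTE ht⟩ : E) ∈ Cfsg.pCore p E :=
      Solv.normal_le_pCore hTp (show (⟨t, hTE ht⟩ : E) ∈ T.subgroupOf E from ht)
    exact Solv.normal_le_pCore ((Solv.pCore_isPGroup p).map E.subtype) ⟨_, h1, rfl⟩
  have hcomm : ∀ g ∈ E, ∀ t ∈ T, g * t = t * g := fun g hg t ht =>
    (Subgroup.mem_centralizer_iff.1 ((Subgroup.commutator_eq_bot_iff_le_centralizer.1 hcE) hg) t
      (hTO ht)).symm
  let f : E →* G :=
    { toFun := fun g => d * ((g : G) * d * (g : G)⁻¹)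
      map_one' := by simp [hd]
      map_mul' := fun g h => by
        have hm : d * ((h : G) * d * (h : G)⁻¹) ∈ T := Subgroup.subset_closure ⟨h, h.2, rfl⟩
        have h2 := hcomm g g.2 _ hm
        show d * ((g : G) * h * d * ((g : G) * h)⁻¹) = _
        calc d * ((g : G) * h * d * ((g : G) * h)⁻¹)
            = d * ((g : G) * d) * ((d * ((h : G) * d * (h : G)⁻¹))) * (g : G)⁻¹ := by
              simp only [mul_inv_rev, mul_assoc]
              rw [← mul_assoc d d, hd, one_mul]
          _ = d * ((g : G) * d * (g : G)⁻¹) * ((g : G) * (d * ((h : G) * d * (h : G)⁻¹))) * (g : G)⁻¹ := by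
              group
          _ = d * ((g : G) * d * (g : G)⁻¹) * (d * ((h : G) * d * (h : G)⁻¹)) := by
              rw [h2]; group }
  haveI : Group.IsPerfect E := Subgroup.isPerfect_iff.2 hE
  have hperf : ⁅f.range, f.range⁆ = f.range := by
    rw [MonoidHom.range_eq_map, ← Subgroup.map_commutator, ← commutator_def,
      Group.IsPerfect.commutator_eq_top]
  have hfA : f.range ≤ A := by rintro _ ⟨g, rfl⟩; exact hmem g g.2
  have hbot := perfect_solvable_eq_bot hperf (pgroup_solvable (hA.to_le hfA))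
  intro g hg
  have h1 : f ⟨g, hg⟩ ∈ f.range := ⟨_, rfl⟩
  rw [hbot, Subgroup.mem_bot] at h1
  have h2 : d * (g * d * g⁻¹) = 1 := h1
  show d * g = g * d
  rw [mul_eq_one_iff_inv_eq, hdi] at h2
  exact mul_inv_eq_iff_eq_mul.1 h2.symm |>.symm

theorem core_normal_subnormal (p : ℕ) : (Cfsg.pCore p G).IsSubnormal :=
  (Solv.pCore_normal p).isSubnormal

theorem layer_pCore [Finite G] (p : ℕ) [Fact p.Prime] : ⁅Cfsg.layer G, Cfsg.pCore p G⁆ = ⊥ :=
  Solv.layer_commutator_solvable (core_normal_subnormal p) (pgroup_solvable (Solv.pCore_isPGroup p))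

/-- All conjugates of `d` under a perfect normal subgroup commute with it: then they are equal to it. -/
theorem commute_of_conjugates_commute [Finite G] {D : Set G} (hD : Cfsg.IsThreeTranspositionGroup D)
    {E : Subgroup G} [E.Normal] (hE : ⁅E, E⁆ = E) (hcE : ⁅E, Cfsg.pCore 2 G⁆ = ⊥) {d : G}
    (hd : d ∈ D) (h : ∀ g ∈ E, Commute d (g * d * g⁻¹)) : ∀ g ∈ E, Commute d g := by
  haveI : Fact (Nat.Prime 2) := ⟨Nat.prime_two⟩
  have hdd := mul_self_of_order_two (hD.1.1 d hd)
  set S : Set G := (fun g => d * (g * d * g⁻¹)) '' (E : Set G)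
  have hpair : ∀ a ∈ E, ∀ b ∈ E, Commute (a * d * a⁻¹) (b * d * b⁻¹) := by
    intro a ha b hb
    have h2 := (Commute.conj_iff a).2 (h (a⁻¹ * b) (mul_mem (inv_mem ha) hb))
    have e : a * (a⁻¹ * b * d * (a⁻¹ * b)⁻¹) * a⁻¹ = b * d * b⁻¹ := by group
    rwa [e] at h2
  have hcomm : ∀ x ∈ S, ∀ y ∈ S, x * y = y * x := by
    rintro _ ⟨a, ha, rfl⟩ _ ⟨b, hb, rfl⟩
    exact (((Commute.refl d).mul_right (h b hb)).mul_left
      ((h a ha).symm.mul_right (hpair a ha b hb))).eq
  have hA : IsPGroup 2 (Subgroup.closure S) := by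
    intro x
    refine ⟨1, Subtype.ext ?_⟩
    show (x : G) ^ 2 ^ 1 = 1
    rw [pow_one]
    have hc : IsMulCommutative (Subgroup.closure S) := Subgroup.isMulCommutative_closure hcomm
    have : ∀ y ∈ Subgroup.closure S, y ^ 2 = 1 := fun y hy => by
      induction hy using Subgroup.closure_induction with
      | mem y hy =>
        obtain ⟨a, ha, rfl⟩ := hy
        exact pow_two_of_commute hdd (mul_self_of_order_two (hD.1.1 _ (hD.2.1 a d hd))) (h a ha)
      | one => simp
      | mul a b ha hb iha ihb =>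
        have hab : Commute a b := congrArg Subtype.val (hc.is_comm.comm ⟨a, ha⟩ ⟨b, hb⟩)
        rw [hab.mul_pow, iha, ihb, one_mul]
      | inv a _ iha => rw [inv_pow, iha, inv_one]
    exact this x x.2
  exact commute_of_pgroup_products hE hcE hdd _ hA fun g hg => Subgroup.subset_closure ⟨g, hg, rfl⟩

/-- No two conjugates of `d` under a perfect normal subgroup commute: then they are all equal. -/
theorem commute_of_conjugates_braid [Finite G] {D : Set G} (hD : Cfsg.IsThreeTranspositionGroup D)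
    {E : Subgroup G} [E.Normal] (hE : ⁅E, E⁆ = E) (hcE : ⁅E, Cfsg.pCore 3 G⁆ = ⊥) {d : G}
    (hd : d ∈ D) (h : ∀ g ∈ E, Commute d (g * d * g⁻¹) → g * d * g⁻¹ = d) : ∀ g ∈ E, Commute d g := by
  haveI : Fact (Nat.Prime 3) := ⟨Nat.prime_three⟩
  have hdd := mul_self_of_order_two (hD.1.1 d hd)
  obtain ⟨P, hP, hmem, -⟩ := local_width_one hD.1 (X := {x | ∃ g ∈ E, g * d * g⁻¹ = x})
    (by rintro _ ⟨g, -, rfl⟩; exact hD.2.1 g d hd)
    (by
      rintro _ ⟨a, ha, rfl⟩ _ ⟨b, hb, rfl⟩
      refine ⟨a * (d * (a⁻¹ * b) * d⁻¹), mul_mem ha (‹E.Normal›.conj_mem _ (mul_mem (inv_mem ha) hb) d), ?_⟩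
      have hdi : d⁻¹ = d := inv_eq_of_mul_eq_one_right hdd
      simp only [mul_inv_rev, inv_inv, hdi, mul_assoc]
      rw [← mul_assoc d d, hdd, one_mul])
    (by
      rintro _ ⟨a, ha, rfl⟩ _ ⟨b, hb, rfl⟩ hc
      have e : b * d * b⁻¹ = a * (a⁻¹ * b * d * (a⁻¹ * b)⁻¹) * a⁻¹ := by group
      rw [e, commute_conj_iff] at hc
      rw [e, h _ (mul_mem (inv_mem ha) hb) hc])
  exact commute_of_pgroup_products hE hcE hdd P hP fun g hg =>
    hmem d ⟨1, one_mem _, by group⟩ _ ⟨g, hg, rfl⟩

/-- A normal subgroup centralised by one member of a class is central. -/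
theorem central_of_commute {D : Set G} (hD : Cfsg.IsThreeTranspositionClass D) {N : Subgroup G}
    [N.Normal] {d : G} (hd : d ∈ D) (h : ∀ g ∈ N, Commute d g) : N ≤ Subgroup.center G := by
  intro g hg
  refine mem_center_of_commutes hD.2.2 fun e he => ?_
  obtain ⟨c, rfl⟩ := class_conj hD hd he
  have h1 := h _ (‹N.Normal›.conj_mem g hg c⁻¹)
  rw [inv_inv] at h1
  have e2 : g = c * (c⁻¹ * g * c) * c⁻¹ := by group
  rw [e2, commute_conj_iff]
  exact h1.symm

theorem perfect_central_eq_bot {N : Subgroup G} (hN : ⁅N, N⁆ = N) (h : N ≤ Subgroup.center G) :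
    N = ⊥ := by
  rw [← hN, Subgroup.commutator_eq_bot_iff_le_centralizer]
  exact h.trans (Subgroup.center_le_centralizer _)

theorem core_two_central [Finite G] {D : Set G} (hD : Cfsg.IsThreeTranspositionClass D) {d : G}
    (hd : d ∈ D) (h : ∀ v ∈ D, SameV D d v → v = d) : Cfsg.pCore 2 G ≤ Subgroup.center G := by
  haveI := Solv.pCore_normal (G := G) 2
  refine central_of_commute hD hd fun g hg => ?_
  have hv := (class_isGroup hD).2.1 g d hd
  have h1 := h _ hv (sameV_of_mul_mem hD.1 hd hv (core_mul_of_conj hD.1 hd hg))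
  show d * g = g * d
  rw [← mul_inv_eq_iff_eq_mul.1 h1]

theorem core_three_central [Finite G] {D : Set G} (hD : Cfsg.IsThreeTranspositionClass D) {d : G}
    (hd : d ∈ D) (h : ∀ v ∈ D, SameW D d v → v = d) : Cfsg.pCore 3 G ≤ Subgroup.center G := by
  haveI := Solv.pCore_normal (G := G) 3
  refine central_of_commute hD hd fun g hg => ?_
  have hv := (class_isGroup hD).2.1 g d hd
  have h1 := h _ hv (sameW_of_mul_mem hD.1 hd hv (core_mul_of_conj hD.1 hd hg))
  show d * g = g * d
  rw [← mul_inv_eq_iff_eq_mul.1 h1]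

theorem big_core_central [Finite G] {D : Set G} (hD : Cfsg.IsThreeTranspositionGroup D) {p : ℕ}
    (hp : p.Prime) (hp3 : 3 < p) : Cfsg.pCore p G ≤ Subgroup.center G := by
  haveI := Fact.mk hp
  haveI := Solv.pCore_normal (G := G) p
  intro g hg
  refine mem_center_of_commutes hD.2.2 fun e he => (centralizes_big_prime hD hp hp3 _
    (Solv.pCore_isPGroup p) he ?_ g hg).symm
  rw [Subgroup.normalizer_eq_top (Cfsg.pCore p G)]
  exact Subgroup.mem_top _

theorem not_both [Finite G] {D : Set G} (hD : Cfsg.IsThreeTranspositionClass D) :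
    Cfsg.pCore 2 G ≤ Subgroup.center G ∨ Cfsg.pCore 3 G ≤ Subgroup.center G := by
  obtain ⟨d, hd, -⟩ := hD.2.1
  have hG := class_isGroup hD
  rcases single_string (D := D) hd with h | h
  · refine Or.inl (core_two_central hD hd fun v hv hV => ?_)
    have : v ∈ ({d} : Set G) := h ▸ ⟨hv, fun e he => (hV e he).symm⟩
    exact this
  · refine Or.inr (core_three_central hD hd fun v hv hW => ?_)
    have : v ∈ ({d} : Set G) := by
      rw [← h]
      refine ⟨hv, Set.ext fun y => ?_⟩
      by_cases hy : y ∈ D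
      · simpa [hy] using hW y hy
      · simp [hy]
    exact this

theorem layer_eq_bot_of_two [Finite G] {D : Set G} (hD : Cfsg.IsThreeTranspositionClass D)
    (h : ¬ Cfsg.pCore 2 G ≤ Subgroup.center G) : Cfsg.layer G = ⊥ := by
  haveI : (Cfsg.layer G).Normal := Local.layer_normal
  haveI : Fact (Nat.Prime 2) := ⟨Nat.prime_two⟩
  obtain ⟨d, hd, -⟩ := hD.2.1
  have hG := class_isGroup hD
  refine perfect_central_eq_bot Solv.layer_perfect (central_of_commute hD hd ?_)
  refine commute_of_conjugates_commute hG Solv.layer_perfect (layer_pCore 2) hd fun g hg => ?_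
  obtain ⟨v, hv, hV, hne⟩ : ∃ v ∈ D, SameV D d v ∧ v ≠ d := by
    by_contra hcon
    push Not at hcon
    exact h (core_two_central hD hd hcon)
  have hu := hV.mul_mem_core hG hd hv
  have hgu : g * (d * v) = d * v * g :=
    (Subgroup.mem_centralizer_iff.1 ((Subgroup.commutator_eq_bot_iff_le_centralizer.1 (layer_pCore 2)) hg)
      _ hu).symm
  have he := hG.2.1 g d hd
  have hdv := hV.commute hd
  have h2 : Commute (g * d * g⁻¹) (d * v) := by
    have h1 : g * (d * v) * g⁻¹ = d * v := by rw [hgu, mul_inv_cancel_right]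
    rw [← h1, commute_conj_iff]
    exact (Commute.refl d).mul_right hdv
  exact ((commute_pair_iff hD.1 hd hv he (Ne.symm hne) hdv).1 h2).1.symm

theorem layer_eq_bot_of_three [Finite G] {D : Set G} (hD : Cfsg.IsThreeTranspositionClass D)
    (h : ¬ Cfsg.pCore 3 G ≤ Subgroup.center G) : Cfsg.layer G = ⊥ := by
  haveI : (Cfsg.layer G).Normal := Local.layer_normal
  haveI : Fact (Nat.Prime 3) := ⟨Nat.prime_three⟩
  obtain ⟨d, hd, -⟩ := hD.2.1
  have hG := class_isGroup hD
  refine perfect_central_eq_bot Solv.layer_perfect (central_of_commute hD hd ?_)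
  refine commute_of_conjugates_braid hG Solv.layer_perfect (layer_pCore 3) hd fun g hg hc => ?_
  obtain ⟨v, hv, hW, hne⟩ : ∃ v ∈ D, SameW D d v ∧ v ≠ d := by
    by_contra hcon
    push Not at hcon
    exact h (core_three_central hD hd hcon)
  have hu := hW.mul_mem_core hG hd hv
  have hgu : g * (d * v) = d * v * g :=
    (Subgroup.mem_centralizer_iff.1 ((Subgroup.commutator_eq_bot_iff_le_centralizer.1 (layer_pCore 3)) hg)
      _ hu).symm
  by_contra hne'
  have hdd := mul_self_of_order_two (hD.1.1 d hd)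
  have hvv := mul_self_of_order_two (hD.1.1 v hv)
  set e := g * d * g⁻¹ with he
  have heD : e ∈ D := hG.2.1 g d hd
  have hev := ((hW e heD).1 ⟨hne', hc⟩).2
  have h1 : e * (d * v) * e = d * v := by
    calc e * (d * v) * e = (d * v) * (e * e) := by
          rw [(hc.symm.mul_right hev.symm).eq, mul_assoc]
      _ = d * v := by rw [mul_self_of_order_two (hD.1.1 e heD), mul_one]
  have h2 : e * (d * v) * e = v * d := by
    have h3 : g * (d * v) * g⁻¹ = d * v := by rw [hgu, mul_inv_cancel_right]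
    calc e * (d * v) * e = e * (g * (d * v) * g⁻¹) * e := by rw [h3]
      _ = g * ((d * d) * v * d) * g⁻¹ := by rw [he]; group
      _ = g * (d * v)⁻¹ * g⁻¹ := by
          rw [hdd, one_mul, mul_inv_rev, inv_of_order_two (hD.1.1 d hd), inv_of_order_two (hD.1.1 v hv)]
      _ = (g * (d * v) * g⁻¹)⁻¹ := by group
      _ = v * d := by rw [h3, mul_inv_rev, inv_of_order_two (hD.1.1 d hd), inv_of_order_two (hD.1.1 v hv)]
  exact hW.not_commute hv (Ne.symm hne) (h1.symm.trans h2)

theorem fitting_le_center [Finite G] {D : Set G} (hD : Cfsg.IsThreeTranspositionGroup D)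
    (h2 : Cfsg.pCore 2 G ≤ Subgroup.center G) (h3 : Cfsg.pCore 3 G ≤ Subgroup.center G) :
    Cfsg.fittingSubgroup G ≤ Subgroup.center G := by
  rw [Solv.fitting_eq_iSup_pCore]
  refine iSup_le fun q => ?_
  by_cases hq2 : (q : ℕ) = 2
  · rw [hq2]; exact h2
  by_cases hq3 : (q : ℕ) = 3
  · rw [hq3]; exact h3
  exact big_core_central hD q.2 (by have := q.2.two_le; omega)

theorem center_le_fitting : Subgroup.center G ≤ Cfsg.fittingSubgroup G := by
  refine Solv.normal_le_fitting ?_
  letI : CommGroup (Subgroup.center G) :=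
    { (inferInstance : Group (Subgroup.center G)) with
      mul_comm := fun a b => Subtype.ext (Subgroup.mem_center_iff.1 b.2 a) }
  infer_instance

theorem layer_ne_bot [Finite G] {D : Set G} (hD : Cfsg.IsThreeTranspositionClass D)
    (hD2 : ∃ a ∈ D, ∃ b ∈ D, a ≠ b) (h2 : Cfsg.pCore 2 G ≤ Subgroup.center G)
    (h3 : Cfsg.pCore 3 G ≤ Subgroup.center G) : Cfsg.layer G ≠ ⊥ := by
  intro h
  obtain ⟨a, ha, b, hb, hne⟩ := hD2
  obtain ⟨e, he, hae⟩ := exists_braid hD ⟨a, ha, b, hb, hne⟩ ha
  have hc := Solv.centralizer_gfit_le (G := G)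
  rw [Cfsg.generalizedFittingSubgroup, h, bot_sup_eq] at hc
  have hmem : a ∈ Subgroup.centralizer (Cfsg.fittingSubgroup G : Set G) :=
    Subgroup.mem_centralizer_iff.2 fun x hx =>
      (Subgroup.mem_center_iff.1 (fitting_le_center (class_isGroup hD) h2 h3 hx) a).symm
  exact hae (Commute.symm (Subgroup.mem_center_iff.1
    (fitting_le_center (class_isGroup hD) h2 h3 (hc hmem)) e))

/-- a component is normal and is the only one -/
theorem component_unique [Finite G] {D : Set G} (hD : Cfsg.IsThreeTranspositionClass D) :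
    (∀ K : Subgroup G, Cfsg.IsComponent K → K.Normal) ∧
      ∀ K M : Subgroup G, Cfsg.IsComponent K → Cfsg.IsComponent M → K = M := by
  haveI : Fact (Nat.Prime 2) := ⟨Nat.prime_two⟩
  haveI : Fact (Nat.Prime 3) := ⟨Nat.prime_three⟩
  have hG := class_isGroup hD
  have hnormal : ∀ K : Subgroup G, Cfsg.IsComponent K → K.Normal := by
    intro K hK
    refine Subgroup.normalizer_eq_top_iff.1 (eq_top_iff.2 ?_)
    rw [← hD.2.2, Subgroup.closure_le]
    intro d hd
    have hdd := mul_self_of_order_two (hD.1.1 d hd)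
    have hdi := inv_of_order_two (hD.1.1 d hd)
    by_contra hn
    set M : Subgroup G := K.map (MulAut.conj d).toMonoidHom with hM
    have hMmem : ∀ x ∈ K, d * x * d ∈ M := fun x hx => ⟨x, hx, by simp [hdi]⟩
    have hMc : Cfsg.IsComponent M := Solv.component_conj hK d
    have hne : M ≠ K := fun heq => hn (by
      rw [SetLike.mem_coe, Subgroup.mem_normalizer_iff]
      intro x
      rw [hdi]
      refine ⟨fun hx => heq ▸ hMmem x hx, fun hx => ?_⟩
      have h1 := heq ▸ hMmem _ hx
      rwa [show d * (d * x * d) * d = (d * d) * x * (d * d) by simp only [mul_assoc], hdd, one_mul,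
        mul_one] at h1)
    have hcomm := Subgroup.commutator_eq_bot_iff_le_centralizer.1 (Solv.components_commute hMc hK hne)
    have key : ∀ x : K, x ^ 2 ∈ Subgroup.center K ∨ x ^ 3 ∈ Subgroup.center K := by
      intro x
      have hxy : Commute (d * (x : G) * d) (x : G) :=
        (Subgroup.mem_centralizer_iff.1 (hcomm (hMmem x x.2)) x x.2).symm
      have hpow : ∀ n : ℕ, (d * ((x : G) * d * (x : G)⁻¹)) ^ n = 1 → x ^ n ∈ Subgroup.center K := by
        intro n hn'
        rw [show d * ((x : G) * d * (x : G)⁻¹) = (d * (x : G) * d) * (x : G)⁻¹ by simp only [mul_assoc],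
          hxy.inv_right.mul_pow, inv_pow, mul_inv_eq_one] at hn'
        refine Subgroup.mem_center_iff.2 fun k => Subtype.ext ?_
        show (k : G) * ((x : G) ^ n) = (x : G) ^ n * k
        rw [← hn']
        exact Subgroup.mem_centralizer_iff.1 (hcomm (Subgroup.pow_mem _ (hMmem x x.2) n)) k k.2
      rcases hD.1.2 d hd _ (hG.2.1 (x : G) d hd) with h | h
      · exact Or.inl (hpow 2 h)
      · exact Or.inr (hpow 3 h)
    haveI := hK.2.2
    have hsol : Group.IsSolvable (↥K ⧸ Subgroup.center ↥K) := by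
      refine Char.isSolvable_of_two_primes Nat.prime_two Nat.prime_three _ rfl fun r hr hdvd => ?_
      haveI := Fact.mk hr
      obtain ⟨y, hy⟩ := exists_prime_orderOf_dvd_card' r hdvd
      obtain ⟨x, rfl⟩ := QuotientGroup.mk_surjective y
      rcases key x with h | h
      · left
        have := orderOf_dvd_of_pow_eq_one (show (QuotientGroup.mk x : ↥K ⧸ Subgroup.center ↥K) ^ 2 = 1 by
          rw [← QuotientGroup.mk_pow, QuotientGroup.eq_one_iff]; exact h)
        rw [hy] at this
        exact (Nat.prime_dvd_prime_iff_eq hr Nat.prime_two).1 this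
      · right
        have := orderOf_dvd_of_pow_eq_one (show (QuotientGroup.mk x : ↥K ⧸ Subgroup.center ↥K) ^ 3 = 1 by
          rw [← QuotientGroup.mk_pow, QuotientGroup.eq_one_iff]; exact h)
        rw [hy] at this
        exact (Nat.prime_dvd_prime_iff_eq hr Nat.prime_three).1 this
    haveI := hK.2.1
    haveI : Group.IsPerfect (↥K ⧸ Subgroup.center ↥K) :=
      ⟨by
        rw [commutator_def, ← Subgroup.map_top_of_surjective (QuotientGroup.mk' (Subgroup.center ↥K))
          (QuotientGroup.mk'_surjective _), ← Subgroup.map_commutator, ← commutator_def,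
          Group.IsPerfect.commutator_eq_top]⟩
    exact Group.IsPerfect.not_isSolvable (G := ↥K ⧸ Subgroup.center ↥K) hsol
  refine ⟨hnormal, fun K M hK hM => ?_⟩
  by_contra hne
  haveI := hnormal K hK
  haveI := hnormal M hM
  obtain ⟨d, hd, -⟩ := hD.2.1
  have hdd := mul_self_of_order_two (hD.1.1 d hd)
  have cen : ∀ (p : ℕ) (_ : Fact p.Prime) (N : Subgroup G), Cfsg.IsComponent N → ⁅N, Cfsg.pCore p G⁆ = ⊥ :=
    fun p _ N hN => Solv.component_commutes_solvable hN (core_normal_subnormal p)
      (pgroup_solvable (Solv.pCore_isPGroup p))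
  obtain ⟨x, hx, hx2⟩ : ∃ x ∈ K, ¬ Commute d (x * d * x⁻¹) := by
    by_contra hcon
    push Not at hcon
    have := perfect_central_eq_bot (Solv.qs_self_commutator hK.2) (central_of_commute hD hd
      (commute_of_conjugates_commute hG (Solv.qs_self_commutator hK.2) (cen 2 inferInstance K hK) hd hcon))
    exact Solv.qs_ne_bot hK.2 this
  obtain ⟨y, hy, hy2, hy3⟩ : ∃ y ∈ M, Commute d (y * d * y⁻¹) ∧ y * d * y⁻¹ ≠ d := by
    by_contra hcon
    push Not at hcon
    have := perfect_central_eq_bot (Solv.qs_self_commutator hM.2) (central_of_commute hD hd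
      (commute_of_conjugates_braid hG (Solv.qs_self_commutator hM.2) (cen 3 inferInstance M hM) hd hcon))
    exact Solv.qs_ne_bot hM.2 this
  have hdi := inv_of_order_two (hD.1.1 d hd)
  set c := d * (x * d * x⁻¹) with hc
  set c' := d * (y * d * y⁻¹) with hc'
  have hcK : c ∈ K := by
    have h1 := mul_mem (‹K.Normal›.conj_mem x hx d) (inv_mem hx)
    rw [hdi] at h1
    simpa only [hc, mul_assoc] using h1
  have hc'M : c' ∈ M := by
    have h1 := mul_mem (‹M.Normal›.conj_mem y hy d) (inv_mem hy)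
    rw [hdi] at h1
    simpa only [hc', mul_assoc] using h1
  have hKM : ∀ a ∈ K, ∀ b ∈ M, Commute a b := fun a ha b hb =>
    (Subgroup.mem_centralizer_iff.1 ((Subgroup.commutator_eq_bot_iff_le_centralizer.1
      (Solv.components_commute hK hM hne)) ha) b hb).symm
  have hprod : d * (x * y * d * (x * y)⁻¹) = c * c' := by
    have h1 : Commute x c' := hKM x hx c' hc'M
    calc d * (x * y * d * (x * y)⁻¹) = d * (x * d) * ((d * (y * d * y⁻¹))) * x⁻¹ := by
          simp only [mul_inv_rev, mul_assoc]; rw [← mul_assoc d d, hdd, one_mul]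
      _ = c * (x * c') * x⁻¹ := by rw [hc, hc']; group
      _ = c * c' := by rw [h1.eq]; group
  have hxD := hG.2.1 x d hd
  have hyD := hG.2.1 y d hd
  have hc3 : c ^ 3 = 1 ∧ c ^ 2 ≠ 1 := by
    have hne2 : c ^ 2 ≠ 1 := fun h => hx2 (by
      rw [pow_two, mul_eq_one_iff_eq_inv, hc, mul_inv_rev, hdi, inv_of_order_two (hD.1.1 _ hxD)] at h
      exact h)
    exact ⟨(hD.1.2 d hd _ hxD).resolve_left hne2, hne2⟩
  have hc'2 : c' ^ 2 = 1 ∧ c' ≠ 1 := by
    refine ⟨pow_two_of_commute hdd (mul_self_of_order_two (hD.1.1 _ hyD)) hy2, fun h => hy3 ?_⟩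
    rw [hc', mul_eq_one_iff_inv_eq, hdi] at h
    exact h.symm
  have hcc : Commute c c' := hKM c hcK c' hc'M
  rcases hD.1.2 d hd _ (hG.2.1 (x * y) d hd) with h | h
  · rw [hprod, hcc.mul_pow, hc'2.1, mul_one] at h
    exact hc3.2 h
  · rw [hprod, hcc.mul_pow, hc3.1, one_mul, pow_succ, hc'2.1, one_mul] at h
    exact hc'2.2 h

/-- With both cores central there is a quasisimple normal subgroup making up the generalized Fitting
subgroup with the centre. -/
theorem exists_qs [Finite G] {D : Set G} (hD : Cfsg.IsThreeTranspositionClass D)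
    (hD2 : ∃ a ∈ D, ∃ b ∈ D, a ≠ b) (h2 : Cfsg.pCore 2 G ≤ Subgroup.center G)
    (h3 : Cfsg.pCore 3 G ≤ Subgroup.center G) :
    ∃ L : Subgroup G, L.Normal ∧ Cfsg.IsQuasisimple L ∧
      Cfsg.generalizedFittingSubgroup G = L ⊔ Subgroup.center G := by
  obtain ⟨hn, huniq⟩ := component_unique hD
  obtain ⟨L, hL⟩ : ∃ L : Subgroup G, Cfsg.IsComponent L := by
    by_contra h
    push Not at h
    exact layer_ne_bot hD hD2 h2 h3 (le_bot_iff.1 (sSup_le fun K hK => absurd hK (h K)))
  refine ⟨L, hn L hL, hL.2, ?_⟩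
  have e1 : Cfsg.layer G = L :=
    le_antisymm (sSup_le fun K hK => (huniq K L hK hL).le) (Solv.component_le_layer hL)
  rw [Cfsg.generalizedFittingSubgroup, e1,
    le_antisymm (fitting_le_center (class_isGroup hD) h2 h3) center_le_fitting]

theorem qs_noncentral {D : Set G} (hD : Cfsg.IsThreeTranspositionClass D) {L : Subgroup G} [L.Normal]
    (hL : Cfsg.IsQuasisimple L) {d : G} (hd : d ∈ D) : ¬ ∀ g ∈ L, Commute d g := fun h =>
  Solv.qs_ne_bot hL (perfect_central_eq_bot (Solv.qs_self_commutator hL) (central_of_commute hD hd h))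

/-- members with commuting images modulo a quasisimple normal subgroup are congruent -/
theorem width_one_mod [Finite G] {D : Set G} (hD : Cfsg.IsThreeTranspositionClass D) {L : Subgroup G}
    [L.Normal] (hL : Cfsg.IsQuasisimple L) {a b : G} (ha : a ∈ D) (hb : b ∈ D)
    (hab : a * b * a⁻¹ * b⁻¹ ∈ L) : a⁻¹ * b ∈ L := by
  by_contra hne
  have hG := class_isGroup hD
  have hai := inv_of_order_two (hD.1.1 a ha)
  have hbi := inv_of_order_two (hD.1.1 b hb)
  have haa := mul_self_of_order_two (hD.1.1 a ha)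
  rw [hai] at hne
  rw [hai, hbi] at hab
  set π := QuotientGroup.mk' L
  have hcomm : Commute (π a) (π b) := by
    have h1 : π (a * b * a * b) = 1 := (QuotientGroup.eq_one_iff _).2 hab
    rw [map_mul, map_mul, map_mul] at h1
    have hA : π a * π a = 1 := by rw [← map_mul, haa, map_one]
    have hB : π b * π b = 1 := by rw [← map_mul, mul_self_of_order_two (hD.1.1 b hb), map_one]
    rw [mul_eq_one_iff_eq_inv, inv_eq_of_mul_eq_one_right hB] at h1
    calc π a * π b = π a * π b * π a * π a := by rw [mul_assoc, hA, mul_one]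
      _ = π b * π a := by rw [h1]
  have hbconj : ∀ g ∈ L, Commute b (g * a * g⁻¹) := by
    intro g hg
    have hD' := hG.2.1 g a ha
    have hg1 : π g = 1 := (QuotientGroup.eq_one_iff _).2 hg
    have he : π (g * a * g⁻¹) = π a := by simp [hg1]
    rcases hD.1.2 b hb _ hD' with h | h
    · rw [pow_two, mul_eq_one_iff_eq_inv, mul_inv_rev, inv_of_order_two (hD.1.1 b hb),
        inv_of_order_two (hD.1.1 _ hD')] at h
      exact h
    · exfalso
      apply hne
      have h22 : (π b * π a) ^ 2 = 1 := pow_two_of_commute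
        (by rw [← map_mul, mul_self_of_order_two (hD.1.1 b hb), map_one]) (by rw [← map_mul, haa, map_one])
        hcomm.symm
      have h33 : (π b * π a) ^ 3 = 1 := by rw [← he, ← map_mul, ← map_pow, h, map_one]
      rw [pow_succ, h22, one_mul] at h33
      have : π (b * a) = 1 := by rw [map_mul, h33]
      have h4 := inv_mem ((QuotientGroup.eq_one_iff _).1 this)
      rwa [mul_inv_rev, hai, hbi] at h4
  set S : Set G := (fun g => a * (g * a * g⁻¹)) '' (L : Set G)
  set T := Subgroup.closure S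
  have hTL : T ≤ L := by
    refine (Subgroup.closure_le L).2 ?_
    rintro _ ⟨g, hg, rfl⟩
    have h1 := mul_mem (‹L.Normal›.conj_mem g hg a) (inv_mem hg)
    rw [hai] at h1
    simpa only [mul_assoc, SetLike.mem_coe] using h1
  have hTn : (T.subgroupOf L).Normal := by
    refine ⟨fun x hx h => ?_⟩
    have key : ∀ t ∈ T, (h : G) * t * (h : G)⁻¹ ∈ T := fun t ht => by
      induction ht using Subgroup.closure_induction with
      | mem z hz =>
        obtain ⟨g, hg, rfl⟩ := hz
        rw [show (h : G) * (a * (g * a * g⁻¹)) * (h : G)⁻¹ =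
          (a * ((h : G) * a * (h : G)⁻¹))⁻¹ * (a * ((h : G) * g * a * ((h : G) * g)⁻¹)) by
            conv_lhs => rw [show a * (g * a * g⁻¹) = a⁻¹ * (g * a * g⁻¹) by rw [hai]]
            group]
        exact mul_mem (inv_mem (Subgroup.subset_closure ⟨h, h.2, rfl⟩))
          (Subgroup.subset_closure ⟨_, mul_mem h.2 hg, rfl⟩)
      | one => simp
      | mul p q _ _ hp hq =>
        rw [show (h : G) * (p * q) * (h : G)⁻¹ = ((h : G) * p * (h : G)⁻¹) * ((h : G) * q * (h : G)⁻¹) by group]
        exact mul_mem hp hq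
      | inv p _ hp =>
        rw [show (h : G) * p⁻¹ * (h : G)⁻¹ = ((h : G) * p * (h : G)⁻¹)⁻¹ by group]
        exact inv_mem hp
    exact key x hx
  rcases Solv.qs_normal_le_center_or_top hL (T.subgroupOf L) with ht | ht
  · refine qs_noncentral hD hL hb fun g hg => ?_
    have hbT : T ≤ Subgroup.centralizer ({b} : Set G) := by
      refine (Subgroup.closure_le _).2 ?_
      rintro _ ⟨k, hk, rfl⟩
      rw [SetLike.mem_coe, Subgroup.mem_centralizer_singleton_iff]
      have h0 : Commute b a := by simpa using hbconj 1 L.one_mem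
      exact ((h0.mul_right (hbconj k hk)).eq).symm
    exact (Subgroup.mem_centralizer_singleton_iff.1 (hbT (Subgroup.subgroupOf_eq_top.1 ht hg))).symm
  · -- the commutators are central, so `a` centralises the subgroup
    haveI : Group.IsPerfect L := hL.1
    let f : L →* G :=
      { toFun := fun g => a * ((g : G) * a * (g : G)⁻¹)
        map_one' := by simp [haa]
        map_mul' := fun g h => by
          have hm : a * ((h : G) * a * (h : G)⁻¹) ∈ T := Subgroup.subset_closure ⟨h, h.2, rfl⟩
          have hz := ht (show (⟨_, hTL hm⟩ : L) ∈ T.subgroupOf L from hm)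
          have h2 : (g : G) * (a * ((h : G) * a * (h : G)⁻¹)) = a * ((h : G) * a * (h : G)⁻¹) * g :=
            congrArg Subtype.val (Subgroup.mem_center_iff.1 hz g)
          show a * ((g : G) * h * a * ((g : G) * h)⁻¹) = _
          calc a * ((g : G) * h * a * ((g : G) * h)⁻¹)
              = a * ((g : G) * a) * (a * ((h : G) * a * (h : G)⁻¹)) * (g : G)⁻¹ := by
                simp only [mul_inv_rev, mul_assoc]
                rw [← mul_assoc a a, haa, one_mul]
            _ = a * ((g : G) * a * (g : G)⁻¹) * ((g : G) * (a * ((h : G) * a * (h : G)⁻¹))) * (g : G)⁻¹ := by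
                group
            _ = a * ((g : G) * a * (g : G)⁻¹) * (a * ((h : G) * a * (h : G)⁻¹)) := by rw [h2]; group }
    have hperf : ⁅f.range, f.range⁆ = f.range := by
      rw [MonoidHom.range_eq_map, ← Subgroup.map_commutator, ← commutator_def,
        Group.IsPerfect.commutator_eq_top]
    have hcen : f.range ≤ (Subgroup.center L).map L.subtype := by
      rintro _ ⟨g, rfl⟩
      have hm : a * ((g : G) * a * (g : G)⁻¹) ∈ T := Subgroup.subset_closure ⟨g, g.2, rfl⟩
      exact ⟨⟨_, hTL hm⟩, ht (show (⟨_, hTL hm⟩ : L) ∈ T.subgroupOf L from hm), rfl⟩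
    have hbot : f.range = ⊥ := by
      refine le_bot_iff.1 ?_
      rw [← hperf]
      refine (Subgroup.commutator_mono hcen hcen).trans ?_
      rw [← Subgroup.map_commutator, Subgroup.commutator_eq_bot_iff_le_centralizer.2
        (Subgroup.center_le_centralizer _), Subgroup.map_bot]
    refine qs_noncentral hD hL ha fun g hg => ?_
    have h1 : f ⟨g, hg⟩ ∈ f.range := ⟨_, rfl⟩
    rw [hbot, Subgroup.mem_bot] at h1
    have h2 : a * (g * a * g⁻¹) = 1 := h1
    rw [mul_eq_one_iff_inv_eq, hai] at h2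
    exact mul_inv_eq_iff_eq_mul.1 h2.symm |>.symm

end Cfsg.Agent.Spor
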