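/-
The two classes of elements of order two and the two classes of elements of order three in `M24`.
-/
import Cfsg.Agent.Lib.Spor.GolayTrans
import Cfsg.Agent.Lib.Spor.GolayWords
import Cfsg.Agent.Lib.Spor.GolayElemData
import Cfsg.Agent.Lib.Spor.MathieuSimple

set_option autoImplicit false
set_option maxRecDepth 100000

namespace Cfsg.Agent.Spor

open scoped Pointwise

/-- `c` carries `l` to `r` by conjugation -/
def conjTest (c l r : List ℕ) : Bool :=
  (List.range 24).all fun i => c.getD (l.getD i 0) 0 == r.getD (c.getD i 0) 0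

theorem conjTest_sound {c l r : List ℕ} {γ σ : Equiv.Perm GolayPt} (hc : Rep γ c) (hσ : Rep σ l)
    (hr : lok r = true) (h : conjTest c l r = true) : γ * σ * γ⁻¹ = lperm r := by
  rw [mul_inv_eq_iff_eq_mul]
  refine Equiv.ext fun p => idx_injective ?_
  have h2 : c.getD (l.getD (idx p) 0) 0 = r.getD (c.getD (idx p) 0) 0 := by
    simpa using List.all_eq_true.1 h (idx p) (List.mem_range.2 (idx_lt p))
  rw [hσ p, hc (σ p), hc p, rep_lperm hr (γ p)] at h2
  exact h2

/-- transversals of the last three levels of the chain -/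
def transAt (k : ℕ) : List (List ℕ) := if k = 4 then transA else if k = 5 then transB else transC

/-- the transversal at level `k` is correct -/
def transOk (k : ℕ) : Bool :=
  ((transAt k).all fun r => m24ok r && (chainBase.take k).all fun j => r.getD j 0 == j) &&
    (List.range 24).all fun j => !Nat.testBit (chainOrbit.getD k 0) j ||
      (transAt k).any fun r => r.getD (chainBase.getD k 0) 0 == j

theorem transOk_all : ∀ k, k < 7 → 4 ≤ k → transOk k = true := by decide +kernel

theorem m24ok_lok {l : List ℕ} (h : m24ok l = true) : lok l = true := by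
  rw [m24ok, Bool.and_eq_true] at h
  exact h.1

theorem chain_step {k : ℕ} (hk : k < 7) (hk4 : 4 ≤ k) {σ : Equiv.Perm GolayPt}
    (hσ : σ ∈ fixL M24 (chainBase.take k)) :
    ∃ r ∈ transAt k, lok r = true ∧ (lperm r)⁻¹ * σ ∈ fixL M24 (chainBase.take (k + 1)) := by
  have hc := transOk_all k hk hk4
  simp only [transOk, Bool.and_eq_true, List.all_eq_true, List.mem_range, Bool.or_eq_true,
    Bool.not_eq_true', List.any_eq_true, beq_iff_eq] at hc
  obtain ⟨hr0, hcov⟩ := hc
  have hb := chain_upper hk hσ
  rcases hcov _ (idx_lt (σ (pt (chainBase.getD k 0)))) with h | ⟨r, hr, hrb⟩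
  · rw [hb] at h; exact absurd h (by simp)
  obtain ⟨hm, hfix⟩ := hr0 r hr
  have hl := m24ok_lok hm
  refine ⟨r, hr, hl, mem_fixL.2 ⟨mul_mem (inv_mem (lperm_mem hm)) (mem_fixL.1 hσ).1, fun p hp => ?_⟩⟩
  rw [Equiv.Perm.mul_apply, Equiv.Perm.inv_eq_iff_eq]
  rw [chainBase_take k hk, List.mem_append, List.mem_singleton] at hp
  apply idx_injective
  rw [← rep_lperm hl p]
  rcases hp with hp | hp
  · rw [(mem_fixL.1 hσ).2 p hp, hfix _ hp]
  · rw [show p = pt (chainBase.getD k 0) by rw [← hp, pt_idx]] at *
    rw [idx_pt _ (chainBase_lt k hk), hrb]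

/-- the lists of the elements fixing 0 1 2 3 -/
def fix4List : List (List ℕ) :=
  transA.flatMap fun a => (transB.flatMap fun b => transC.map (lmul b)).map (lmul a)

theorem fix4_rep {σ : Equiv.Perm GolayPt} (hσ : σ ∈ fixL M24 (chainBase.take 4)) :
    ∃ l ∈ fix4List, Rep σ l := by
  obtain ⟨a, ha, hla, h5⟩ := chain_step (k := 4) (by norm_num) (by norm_num) hσ
  obtain ⟨b, hb, hlb, h6⟩ := chain_step (k := 5) (by norm_num) (by norm_num) h5
  obtain ⟨c, hc, hlc, h7⟩ := chain_step (k := 6) (by norm_num) (by norm_num) h6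
  refine ⟨lmul a (lmul b c), ?_, ?_⟩
  · refine List.mem_flatMap.2 ⟨a, ha, List.mem_map.2 ⟨_, ?_, rfl⟩⟩
    exact List.mem_flatMap.2 ⟨b, hb, List.mem_map.2 ⟨c, hc, rfl⟩⟩
  · have h := fix_seven (σ := (lperm c)⁻¹ * ((lperm b)⁻¹ * ((lperm a)⁻¹ * σ))) (by
      rw [show chainBase = chainBase.take (6 + 1) by decide +kernel]
      exact h7)
    have e : σ = lperm a * (lperm b * lperm c) := by
      rw [inv_mul_eq_one, eq_inv_mul_iff_mul_eq, eq_inv_mul_iff_mul_eq] at h
      exact h.symm
    rw [e]
    exact (rep_lperm hla).mul ((rep_lperm hlb).mul (rep_lperm hlc))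

/-- the elements of `M24` with the same images of 0 1 2 3 as `r` -/
def cosetList (r : List ℕ) : List (List ℕ) := fix4List.map (lmul r)

theorem coset_rep {r : List ℕ} (hr : m24ok r = true) {σ : Equiv.Perm GolayPt} (hσ : σ ∈ M24)
    (h : ∀ i, i < 4 → idx (σ (pt i)) = r.getD i 0) : ∃ l ∈ cosetList r, Rep σ l := by
  have hl := m24ok_lok hr
  have hmem : (lperm r)⁻¹ * σ ∈ fixL M24 (chainBase.take 4) := by
    refine mem_fixL.2 ⟨mul_mem (inv_mem (lperm_mem hr)) hσ, fun p hp => ?_⟩
    rw [Equiv.Perm.mul_apply, Equiv.Perm.inv_eq_iff_eq]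
    apply idx_injective
    have hp4 : idx p < 4 := by
      revert hp
      generalize idx p = j
      intro hj
      have : j ∈ [0, 1, 2, 3] := hj
      simp only [List.mem_cons, List.not_mem_nil, or_false] at this
      omega
    rw [← rep_lperm hl p, ← h _ hp4, pt_idx]
  obtain ⟨l, hl', hrep⟩ := fix4_rep hmem
  refine ⟨lmul r l, List.mem_map.2 ⟨l, hl', rfl⟩, ?_⟩
  rw [show σ = lperm r * ((lperm r)⁻¹ * σ) by rw [mul_inv_cancel_left]]
  exact (rep_lperm hl).mul hrep

/-- squares to the identity -/
def sqTest (l : List ℕ) : Bool := (List.range 24).all fun i => l.getD (l.getD i 0) 0 == i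

/-- cubes to the identity -/
def cubeTest (l : List ℕ) : Bool :=
  (List.range 24).all fun i => l.getD (l.getD (l.getD i 0) 0) 0 == i

theorem sqTest_of {σ : Equiv.Perm GolayPt} {l : List ℕ} (h : Rep σ l) (h2 : σ * σ = 1) :
    sqTest l = true := by
  refine List.all_eq_true.2 fun i hi => beq_iff_eq.2 ?_
  rw [← idx_pt i (List.mem_range.1 hi), h, h, ← Equiv.Perm.mul_apply, h2]
  rfl

theorem cubeTest_of {σ : Equiv.Perm GolayPt} {l : List ℕ} (h : Rep σ l) (h3 : σ * σ * σ = 1) :
    cubeTest l = true := by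
  refine List.all_eq_true.2 fun i hi => beq_iff_eq.2 ?_
  rw [← idx_pt i (List.mem_range.1 hi), h, h, h, ← Equiv.Perm.mul_apply, ← Equiv.Perm.mul_apply, h3]
  rfl

/-- five bits per image -/
def packList : List ℕ → ℕ
  | [] => 0
  | a :: l => a % 32 + 32 * packList l

/-- the `i`-th image in a packed permutation -/
def nget (v i : ℕ) : ℕ := (v >>> (5 * i)) &&& 31

theorem nget_packList : ∀ (l : List ℕ), (∀ a ∈ l, a < 32) → ∀ i, nget (packList l) i = l.getD i 0
  | [], _, i => by simp [nget, packList]
  | a :: l, h, i => by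
      have ha := h a List.mem_cons_self
      have hand : ∀ x : ℕ, x &&& 31 = x % 32 := fun x => Nat.and_two_pow_sub_one_eq_mod x 5
      cases i with
      | zero => simp only [nget, packList, hand, mul_zero, Nat.shiftRight_zero, List.getD_cons_zero]; omega
      | succ i =>
          rw [List.getD_cons_succ, ← nget_packList l (fun x hx => h x (List.mem_cons_of_mem _ hx)) i]
          simp only [nget, packList, hand]
          rw [show 5 * (i + 1) = 5 + 5 * i by ring, Nat.shiftRight_add, Nat.shiftRight_eq_div_pow _ 5]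
          congr 2
          omega

theorem fix4_packed : fix4List.map packList = fix4Packed := by decide +kernel

/-- packed form of a permutation -/
def RepP (σ : Equiv.Perm GolayPt) (v : ℕ) : Prop := ∀ p, nget v (idx p) = idx (σ p)

theorem Rep.repP {σ : Equiv.Perm GolayPt} {l : List ℕ} (h : Rep σ l) (hl : ∀ a ∈ l, a < 32) :
    RepP σ (packList l) := fun p => (nget_packList l hl _).trans (h p)

/-- composition of packed permutations, read at one point -/
def pget (r v : ℕ) (i : ℕ) : ℕ := nget r (nget v i)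

/-- the composite squares to the identity -/
def sqTestP (f : ℕ → ℕ) : Bool := (List.range 24).all fun i => f (f i) == i

/-- the composite cubes to the identity -/
def cubeTestP (f : ℕ → ℕ) : Bool := (List.range 24).all fun i => f (f (f i)) == i

/-- `c` carries the composite to `r` by conjugation -/
def conjTestP (c : ℕ) (f : ℕ → ℕ) (r : ℕ) : Bool :=
  (List.range 24).all fun i => nget c (f i) == nget r (nget c i)

/-- coverage of the packed coset by the conjugating elements -/
def pairCover (shift : List ℕ) (test : (ℕ → ℕ) → Bool) (conjs : List (List ℕ)) (rA rB : List ℕ) : Bool :=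
  let r := packList shift
  let a := packList rA
  let b := packList rB
  let cs := conjs.map packList
  fix4Packed.all fun v => !test (pget r v) ||
    cs.any fun c => conjTestP c (pget r v) a || conjTestP c (pget r v) b

theorem fix4_small : ∀ {σ : Equiv.Perm GolayPt}, σ ∈ fixL M24 (chainBase.take 4) →
    ∃ v ∈ fix4Packed, RepP σ v := by
  intro σ hσ
  obtain ⟨l, hl, hrep⟩ := fix4_rep hσ
  refine ⟨packList l, fix4_packed ▸ List.mem_map.2 ⟨l, hl, rfl⟩, hrep.repP fun a ha => ?_⟩
  obtain ⟨x, -, hx⟩ := List.mem_flatMap.1 hl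
  obtain ⟨y, -, rfl⟩ := List.mem_map.1 hx
  obtain ⟨i, hi, e⟩ := List.getElem_of_mem ha
  have hi24 : i < 24 := by simpa [lmul] using hi
  rw [← List.getD_eq_getElem _ 0 hi, show i = idx (pt i) from (idx_pt i hi24).symm, hrep] at e
  rw [← e]
  exact (idx_lt _).trans (by norm_num)

theorem lok_lt {l : List ℕ} (h : lok l = true) : ∀ a ∈ l, a < 32 := fun a ha => by
  simp only [lok, Bool.and_eq_true, List.all_eq_true, decide_eq_true_eq] at h
  exact (h.1.2 a ha).trans (by norm_num)

theorem coset_repP {r : List ℕ} (hr : m24ok r = true) {σ : Equiv.Perm GolayPt} (hσ : σ ∈ M24)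
    (h : ∀ i, i < 4 → idx (σ (pt i)) = r.getD i 0) :
    ∃ v ∈ fix4Packed, ∀ p, pget (packList r) v (idx p) = idx (σ p) := by
  have hl := m24ok_lok hr
  have hmem : (lperm r)⁻¹ * σ ∈ fixL M24 (chainBase.take 4) := by
    refine mem_fixL.2 ⟨mul_mem (inv_mem (lperm_mem hr)) hσ, fun p hp => ?_⟩
    rw [Equiv.Perm.mul_apply, Equiv.Perm.inv_eq_iff_eq]
    apply idx_injective
    have hp4 : idx p ∈ [0, 1, 2, 3] := hp
    simp only [List.mem_cons, List.not_mem_nil, or_false] at hp4
    rw [← rep_lperm hl p, ← h _ (by omega), pt_idx]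
  obtain ⟨v, hv, hrep⟩ := fix4_small hmem
  refine ⟨v, hv, fun p => ?_⟩
  rw [pget, hrep p, ((rep_lperm hl).repP (lok_lt hl)) _, ← Equiv.Perm.mul_apply, mul_inv_cancel_left]

theorem invol_ok : m24ok involShift = true ∧ m24ok involFree = true ∧ m24ok involFixed = true ∧
    (∀ i, i < 4 → involShift.getD i 0 = [1, 0, 3, 2].getD i 0) ∧
    involConjs.all m24ok = true := by decide +kernel

theorem invol_cover : pairCover involShift (fun v => sqTestP v) involConjs involFree involFixed = true := by
  decide +kernel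

theorem three_ok : m24ok threeShift = true ∧ m24ok threeFree = true ∧ m24ok threeFixed = true ∧
    (∀ i, i < 4 → threeShift.getD i 0 = [1, 2, 0, 4].getD i 0) ∧
    threeConjs.all m24ok = true := by decide +kernel

theorem three_cover : pairCover threeShift (fun v => cubeTestP v) threeConjs threeFree threeFixed = true := by
  decide +kernel

theorem class_of_cover {shift rA rB : List ℕ} {conjs : List (List ℕ)} {test : (ℕ → ℕ) → Bool}
    (hs : m24ok shift = true) (hA : m24ok rA = true) (hB : m24ok rB = true)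
    (hc : conjs.all m24ok = true)
    (hcov : pairCover shift test conjs rA rB = true)
    {σ : Equiv.Perm GolayPt} (hσ : σ ∈ M24) (him : ∀ i, i < 4 → idx (σ (pt i)) = shift.getD i 0)
    (ht : ∀ f : ℕ → ℕ, (∀ p, f (idx p) = idx (σ p)) → test f = true) :
    ∃ k ∈ M24, k * σ * k⁻¹ = lperm rA ∨ k * σ * k⁻¹ = lperm rB := by
  obtain ⟨v, hv, hrep⟩ := coset_repP hs hσ him
  have h1 := List.all_eq_true.1 hcov v hv
  rw [ht _ hrep, Bool.not_true, Bool.false_or, List.any_eq_true] at h1
  obtain ⟨c', hc', h2⟩ := h1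
  obtain ⟨c, hcm, rfl⟩ := List.mem_map.1 hc'
  have hcok := List.all_eq_true.1 hc c hcm
  have hcl := m24ok_lok hcok
  have key : ∀ r : List ℕ, lok r = true → conjTestP (packList c) (pget (packList shift) v) (packList r) = true →
      lperm c * σ * (lperm c)⁻¹ = lperm r := by
    intro r hr h
    rw [mul_inv_eq_iff_eq_mul]
    refine Equiv.ext fun p => idx_injective ?_
    have hh := List.all_eq_true.1 h (idx p) (List.mem_range.2 (idx_lt p))
    rw [beq_iff_eq, hrep p, ((rep_lperm hcl).repP (lok_lt hcl)) _, ((rep_lperm hcl).repP (lok_lt hcl)) _,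
      ((rep_lperm hr).repP (lok_lt hr)) _] at hh
    exact hh
  rw [Bool.or_eq_true] at h2
  exact ⟨_, lperm_mem hcok, h2.imp (key _ (m24ok_lok hA)) (key _ (m24ok_lok hB))⟩

theorem sqTestP_of {σ : Equiv.Perm GolayPt} {f : ℕ → ℕ} (h : ∀ p, f (idx p) = idx (σ p))
    (h2 : σ * σ = 1) : sqTestP f = true := by
  refine List.all_eq_true.2 fun i hi => beq_iff_eq.2 ?_
  rw [← idx_pt i (List.mem_range.1 hi), h, h, ← Equiv.Perm.mul_apply, h2]
  rfl

theorem cubeTestP_of {σ : Equiv.Perm GolayPt} {f : ℕ → ℕ} (h : ∀ p, f (idx p) = idx (σ p))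
    (h3 : σ * σ * σ = 1) : cubeTestP f = true := by
  refine List.all_eq_true.2 fun i hi => beq_iff_eq.2 ?_
  rw [← idx_pt i (List.mem_range.1 hi), h, h, h, ← Equiv.Perm.mul_apply, ← Equiv.Perm.mul_apply, h3]
  rfl

/-- an element of `M24` other than the identity moves at least 15 points -/
theorem card_fix_lt {g : Equiv.Perm GolayPt} (hg : g ∈ M24) (h1 : g ≠ 1) :
    (Finset.univ.filter fun p => g p = p).card < 10 := by
  by_contra h
  exact h1 (eq_one_of_fix_ten hg (not_lt.1 h) fun p hp => (Finset.mem_filter.1 hp).2)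

theorem exists_moved_outside {g : Equiv.Perm GolayPt} (hg : g ∈ M24) (h1 : g ≠ 1)
    (A : Finset GolayPt) (hA : A.card ≤ 4) : ∃ p, p ∉ A ∧ g p ≠ p := by
  by_contra h
  push Not at h
  have := card_fix_lt hg h1
  have h2 : Finset.univ \ A ⊆ Finset.univ.filter fun p => g p = p := fun p hp =>
    Finset.mem_filter.2 ⟨Finset.mem_univ _, h p (Finset.mem_sdiff.1 hp).2⟩
  have h3 := Finset.card_le_card h2
  rw [Finset.card_univ_diff, show Fintype.card GolayPt = 24 from rfl] at h3
  omega

theorem normalise {k : ℕ} (hk : k ≤ 5) (x : Fin k → GolayPt) (hx : Function.Injective x) :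
    ∃ σ ∈ M24, ∀ i : Fin k, σ (x i) = pt i := by
  refine M24_trans hk ⟨x, hx⟩ ⟨fun i => pt i, fun i j h => ?_⟩
  have := congrArg idx h
  simp only at this
  rw [idx_pt _ (by omega), idx_pt _ (by omega)] at this
  exact Fin.ext this

theorem conj_apply (k g : Equiv.Perm GolayPt) (p : GolayPt) : (k * g * k⁻¹) (k p) = k (g p) := by
  simp

/-- every involution is conjugate to one of the two representatives -/
theorem invol_class {t : Equiv.Perm GolayPt} (ht : t ∈ M24) (h₂ : orderOf t = 2) :
    ∃ k ∈ M24, k * t * k⁻¹ = lperm involFree ∨ k * t * k⁻¹ = lperm involFixed := by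
  have hne : t ≠ 1 := fun h => by rw [h, orderOf_one] at h₂; norm_num at h₂
  have hsq : t * t = 1 := by rw [← pow_two, ← h₂, pow_orderOf_eq_one]
  have htt : ∀ x, t (t x) = x := fun x => by rw [← Equiv.Perm.mul_apply, hsq]; rfl
  obtain ⟨a, -, ha⟩ := exists_moved_outside ht hne ∅ (by simp)
  obtain ⟨b, hbA, hb⟩ := exists_moved_outside ht hne {a, t a} (Finset.card_le_two.trans (by norm_num))
  simp only [Finset.mem_insert, Finset.mem_singleton, not_or] at hbA
  have n2 : t b ≠ a := fun h => hbA.2 (by rw [← h, htt])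
  have n3 : t b ≠ t a := fun h => hbA.1 (t.injective h)
  have hinj : Function.Injective ![a, t a, b, t b] := by
    intro i j h
    fin_cases i <;> fin_cases j <;> first
      | rfl
      | exact absurd h ha
      | exact absurd h.symm ha
      | exact absurd h hb
      | exact absurd h.symm hb
      | exact absurd h hbA.1
      | exact absurd h.symm hbA.1
      | exact absurd h hbA.2
      | exact absurd h.symm hbA.2
      | exact absurd h n2
      | exact absurd h.symm n2
      | exact absurd h n3
      | exact absurd h.symm n3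
  obtain ⟨σ, hσ, hs⟩ := normalise (k := 4) (by norm_num) _ hinj
  have h0 := hs 0; have h1 := hs 1; have h2 := hs 2; have h3 := hs 3
  simp at h0 h1 h2 h3
  obtain ⟨hso, hfo, hfx, him, hc⟩ := invol_ok
  set t' := σ * t * σ⁻¹ with ht'
  have happ : ∀ x, t' (σ x) = σ (t x) := conj_apply σ t
  obtain ⟨k, hk, e⟩ := class_of_cover hso hfo hfx hc invol_cover (σ := t')
    (mul_mem (mul_mem hσ ht) (inv_mem hσ)) (by
      intro i hi
      rw [him i hi]
      interval_cases i
      · rw [← h0, happ, h1]; rfl
      · rw [← h1, happ, htt, h0]; rfl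
      · rw [← h2, happ, h3]; rfl
      · rw [← h3, happ, htt, h2]; rfl)
    (fun l hl => sqTestP_of hl (by rw [ht', conj_mul, hsq, mul_one, mul_inv_cancel]))
  refine ⟨k * σ, mul_mem hk hσ, ?_⟩
  rw [ht'] at e
  simpa only [mul_inv_rev, mul_assoc] using e

/-- every element of order three is conjugate to one of the two representatives -/
theorem three_class {g : Equiv.Perm GolayPt} (hg : g ∈ M24) (h₃ : orderOf g = 3) :
    ∃ k ∈ M24, k * g * k⁻¹ = lperm threeFree ∨ k * g * k⁻¹ = lperm threeFixed := by
  have hne : g ≠ 1 := fun h => by rw [h, orderOf_one] at h₃; norm_num at h₃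
  have hcu : g * g * g = 1 := by
    have h : g ^ 3 = 1 := by rw [← h₃, pow_orderOf_eq_one]
    rw [← h, pow_three, mul_assoc]
  have hggg : ∀ x, g (g (g x)) = x := fun x => by
    rw [← Equiv.Perm.mul_apply, ← Equiv.Perm.mul_apply, hcu]; rfl
  obtain ⟨a, -, ha⟩ := exists_moved_outside hg hne ∅ (by simp)
  obtain ⟨b, hbA, hb⟩ := exists_moved_outside hg hne {a, g a, g (g a)}
    (Finset.card_le_three.trans (by norm_num))
  simp only [Finset.mem_insert, Finset.mem_singleton, not_or] at hbA
  have n2 : g (g a) ≠ a := fun h => ha (by simpa [hggg] using (congrArg g h).symm)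
  have n3 : g (g a) ≠ g a := fun h => ha (g.injective h)
  have n4 : g b ≠ a := fun h => hbA.2.2 (by rw [← h, hggg])
  have n5 : g b ≠ g a := fun h => hbA.1 (g.injective h)
  have n6 : g b ≠ g (g a) := fun h => hbA.2.1 (g.injective h)
  have hinj : Function.Injective ![a, g a, g (g a), b, g b] := by
    intro i j h
    fin_cases i <;> fin_cases j <;> first
      | rfl
      | exact absurd h ha
      | exact absurd h.symm ha
      | exact absurd h hb
      | exact absurd h.symm hb
      | exact absurd h hbA.1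
      | exact absurd h.symm hbA.1
      | exact absurd h hbA.2.1
      | exact absurd h.symm hbA.2.1
      | exact absurd h hbA.2.2
      | exact absurd h.symm hbA.2.2
      | exact absurd h n2
      | exact absurd h.symm n2
      | exact absurd h n3
      | exact absurd h.symm n3
      | exact absurd h n4
      | exact absurd h.symm n4
      | exact absurd h n5
      | exact absurd h.symm n5
      | exact absurd h n6
      | exact absurd h.symm n6
  obtain ⟨σ, hσ, hs⟩ := normalise (k := 5) (by norm_num) _ hinj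
  have h0 := hs 0; have h1 := hs 1; have h2 := hs 2; have h3 := hs 3; have h4 := hs 4
  simp at h0 h1 h2 h3 h4
  obtain ⟨hso, hfo, hfx, him, hc⟩ := three_ok
  set g' := σ * g * σ⁻¹ with hg'
  have happ : ∀ x, g' (σ x) = σ (g x) := conj_apply σ g
  obtain ⟨k, hk, e⟩ := class_of_cover hso hfo hfx hc three_cover (σ := g')
    (mul_mem (mul_mem hσ hg) (inv_mem hσ)) (by
      intro i hi
      rw [him i hi]
      interval_cases i
      · rw [← h0, happ, h1]; rfl
      · rw [← h1, happ, h2]; rfl
      · rw [← h2, happ, hggg, h0]; rfl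
      · rw [← h3, happ, h4]; rfl)
    (fun l hl => cubeTestP_of hl (by rw [hg', conj_mul, conj_mul, hcu, mul_one, mul_inv_cancel]))
  refine ⟨k * σ, mul_mem hk hσ, ?_⟩
  rw [hg'] at e
  simpa only [mul_inv_rev, mul_assoc] using e

end Cfsg.Agent.Spor
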