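/-
Fixed points, fixed configurations and centraliser orders for elements of order two and three of `M24`.
-/
import Cfsg.Agent.Lib.Spor.GolayElems
import Cfsg.Agent.Lib.Spor.GolaySextet
import Cfsg.Agent.Lib.Spor.GolayTrios
import Cfsg.Agent.Lib.Spor.GolayDomains

set_option autoImplicit false
set_option maxRecDepth 100000

namespace Cfsg.Agent.Spor

open scoped Pointwise

/-- the fixed points of a permutation of the 24 points -/
abbrev fixSet (g : Equiv.Perm GolayPt) : Finset GolayPt := Finset.univ.filter fun p => g p = p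

theorem fixSet_conj (k g : Equiv.Perm GolayPt) : fixSet (k * g * k⁻¹) = k • fixSet g := by
  ext p
  rw [← Finset.inv_smul_mem_iff, Equiv.Perm.smul_def]
  simp only [Finset.mem_filter, Finset.mem_univ, true_and, Equiv.Perm.mul_apply]
  exact ⟨fun h => k.injective (by rw [h]; simp), fun h => by rw [h]; simp⟩

theorem card_fixSet_conj (k g : Equiv.Perm GolayPt) : (fixSet (k * g * k⁻¹)).card = (fixSet g).card := by
  rw [fixSet_conj, Finset.card_smul_finset]

theorem free_iff (g : Equiv.Perm GolayPt) : (∀ p, g p ≠ p) ↔ (fixSet g).card = 0 := by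
  simp [Finset.filter_eq_empty_iff]

theorem mem_fixSet_lperm {l : List ℕ} (h : lok l = true) (p : GolayPt) :
    p ∈ fixSet (lperm l) ↔ l.getD (idx p) 0 = idx p := by
  simp only [Finset.mem_filter, Finset.mem_univ, true_and]
  rw [rep_lperm h p]
  exact ⟨congrArg idx, fun e => idx_injective e⟩

/-- mask of the fixed points of a listed permutation -/
def fixMask (l : List ℕ) : ℕ := listMask ((List.range 24).filter fun i => l.getD i 0 == i)

theorem fixSet_lperm {l : List ℕ} (h : lok l = true) : fixSet (lperm l) = ofMask (fixMask l) := by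
  ext p
  rw [mem_fixSet_lperm h, mem_ofMask, fixMask, testBit_listMask, List.mem_filter, beq_iff_eq]
  exact ⟨fun e => ⟨List.mem_range.2 (idx_lt p), e⟩, fun e => e.2⟩

theorem fixMask_lt (l : List ℕ) : fixMask l < 2 ^ 24 := by
  refine Nat.lt_pow_two_of_testBit _ fun j hj => ?_
  by_contra h
  rw [Bool.not_eq_false, fixMask, testBit_listMask] at h
  exact absurd (List.mem_range.1 (List.mem_filter.1 h).1) (not_lt.2 hj)

theorem fix_facts : fixMask involFree = 0 ∧ fixMask involFixed ∈ octMasks ∧ fixMask involFixed < 2 ^ 24 ∧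
    fixMask threeFree = 0 ∧ pc (fixMask threeFixed) = 6 ∧ fixMask threeFixed < 2 ^ 24 := by decide +kernel

theorem ofMask_zero : ofMask 0 = ∅ := by decide +kernel

theorem invol_free_ok : lok involFree = true ∧ lok involFixed = true ∧
    lok threeFree = true ∧ lok threeFixed = true := by decide +kernel

theorem card_fix_invol : (fixSet (lperm involFree)).card = 0 ∧ (fixSet (lperm involFixed)).card = 8 ∧
    fixSet (lperm involFixed) ∈ octads := by
  obtain ⟨h1, h2, h3, -⟩ := fix_facts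
  have hoct : fixSet (lperm involFixed) ∈ octads := by
    rw [fixSet_lperm invol_free_ok.2.1, mem_octads, mask_ofMask h3]; exact h2
  exact ⟨by rw [fixSet_lperm invol_free_ok.1, h1, ofMask_zero]; rfl, hoct.2, hoct⟩

theorem card_fix_three : (fixSet (lperm threeFree)).card = 0 ∧ (fixSet (lperm threeFixed)).card = 6 := by
  obtain ⟨-, -, -, h4, h5, h6⟩ := fix_facts
  refine ⟨by rw [fixSet_lperm invol_free_ok.2.2.1, h4, ofMask_zero]; rfl, ?_⟩
  rw [fixSet_lperm invol_free_ok.2.2.2, ← pc_mask, mask_ofMask h6, h5]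

theorem invol_by_fix {t : Equiv.Perm GolayPt} (ht : t ∈ M24) (h₂ : orderOf t = 2) :
    ((fixSet t).card = 0 ∧ ∃ k ∈ M24, k * t * k⁻¹ = lperm involFree) ∨
      ((fixSet t).card = 8 ∧ fixSet t ∈ octads ∧ ∃ k ∈ M24, k * t * k⁻¹ = lperm involFixed) := by
  obtain ⟨k, hk, e | e⟩ := invol_class ht h₂
  · exact Or.inl ⟨by rw [← card_fixSet_conj k, e]; exact card_fix_invol.1, k, hk, e⟩
  · refine Or.inr ⟨by rw [← card_fixSet_conj k, e]; exact card_fix_invol.2.1, ?_, k, hk, e⟩
    rw [← smul_octad_iff hk, ← fixSet_conj, e]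
    exact card_fix_invol.2.2

theorem three_by_fix {g : Equiv.Perm GolayPt} (hg : g ∈ M24) (h₃ : orderOf g = 3) :
    ((fixSet g).card = 0 ∧ ∃ k ∈ M24, k * g * k⁻¹ = lperm threeFree) ∨
      ((fixSet g).card = 6 ∧ ∃ k ∈ M24, k * g * k⁻¹ = lperm threeFixed) := by
  obtain ⟨k, hk, e | e⟩ := three_class hg h₃
  · exact Or.inl ⟨by rw [← card_fixSet_conj k, e]; exact card_fix_three.1, k, hk, e⟩
  · exact Or.inr ⟨by rw [← card_fixSet_conj k, e]; exact card_fix_three.2, k, hk, e⟩

theorem conj_trans {g h r k k' : Equiv.Perm GolayPt} (hk : k ∈ M24) (hk' : k' ∈ M24)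
    (e : k * g * k⁻¹ = r) (e' : k' * h * k'⁻¹ = r) : ∃ c ∈ M24, c * g * c⁻¹ = h := by
  refine ⟨k'⁻¹ * k, mul_mem (inv_mem hk') hk, ?_⟩
  rw [← e'] at e
  calc k'⁻¹ * k * g * (k'⁻¹ * k)⁻¹ = k'⁻¹ * (k * g * k⁻¹) * k' := by group
    _ = h := by rw [e]; group

theorem invol_conj {g h : Equiv.Perm GolayPt} (hg : g ∈ M24) (hh : h ∈ M24) (h₂ : orderOf g = 2)
    (h₂' : orderOf h = 2) (heq : (fixSet g).card = 0 ↔ (fixSet h).card = 0) :
    ∃ c ∈ M24, c * g * c⁻¹ = h := by
  rcases invol_by_fix hg h₂ with ⟨a, k, hk, e⟩ | ⟨a, -, k, hk, e⟩ <;>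
    rcases invol_by_fix hh h₂' with ⟨b, k', hk', e'⟩ | ⟨b, -, k', hk', e'⟩
  · exact conj_trans hk hk' e e'
  · exact absurd (heq.1 a) (by omega)
  · exact absurd (heq.2 b) (by omega)
  · exact conj_trans hk hk' e e'

theorem three_conj {g h : Equiv.Perm GolayPt} (hg : g ∈ M24) (hh : h ∈ M24) (h₃ : orderOf g = 3)
    (h₃' : orderOf h = 3) (heq : (fixSet g).card = (fixSet h).card) :
    ∃ c ∈ M24, c * g * c⁻¹ = h := by
  rcases three_by_fix hg h₃ with ⟨a, k, hk, e⟩ | ⟨a, k, hk, e⟩ <;>
    rcases three_by_fix hh h₃' with ⟨b, k', hk', e'⟩ | ⟨b, k', hk', e'⟩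
  · exact conj_trans hk hk' e e'
  · omega
  · omega
  · exact conj_trans hk hk' e e'

/-! ### configurations mapped to themselves -/

theorem ncard_inv_conj {Y : Type*} [MulAction (Equiv.Perm GolayPt) Y] {S : Set Y}
    (hS : ∀ k ∈ M24, ∀ y ∈ S, k • y ∈ S) {k g : Equiv.Perm GolayPt} (hk : k ∈ M24) :
    {y | y ∈ S ∧ g • y = y}.ncard = {y | y ∈ S ∧ (k * g * k⁻¹) • y = y}.ncard := by
  rw [← Set.ncard_image_of_injective _ (MulAction.injective k)]
  congr 1
  ext y
  constructor
  · rintro ⟨x, ⟨hx, hgx⟩, rfl⟩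
    refine ⟨hS k hk x hx, ?_⟩
    show (k * g * k⁻¹) • (k • x) = k • x
    rw [← mul_smul, inv_mul_cancel_right, mul_smul, hgx]
  · rintro ⟨hy, hky⟩
    refine ⟨k⁻¹ • y, ⟨hS _ (inv_mem hk) y hy, ?_⟩, smul_inv_smul k y⟩
    conv_rhs => rw [← hky]
    rw [← mul_smul, ← mul_smul]
    congr 1
    group

theorem ncard_fixed_masks {S : Set (Finset GolayPt)} {L : List ℕ} (hnd : L.Nodup)
    (hS : ∀ s, s ∈ S ↔ mask s ∈ L) (hlt : ∀ m ∈ L, m < 2 ^ 24) {l : List ℕ} (hl : lok l = true) :
    {s | s ∈ S ∧ lperm l • s = s}.ncard = (L.filter fun m => pm l m 0 == m).length := by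
  refine ncard_of_masks (hnd.filter _) (fun m hm => hlt m (List.mem_filter.1 hm).1) fun s => ?_
  rw [Set.mem_ofPred_eq, List.mem_filter, beq_iff_eq, hS s, ← mask_smul_lperm hl]
  exact ⟨fun h => ⟨h.1, by rw [h.2]⟩, fun h => ⟨h.1, mask_injective h.2⟩⟩

/-- a trio is mapped to itself -/
def trioFixed (l : List ℕ) (t : ℕ × ℕ × ℕ) : Bool :=
  [t.1, t.2.1, t.2.2].all fun a => [t.1, t.2.1, t.2.2].elem (pm l a 0)

theorem ncard_fixed_trios {l : List ℕ} (hl : lok l = true) :
    {T | T ∈ trios ∧ lperm l • T = T}.ncard = (trioDec.filter (trioFixed l)).length := by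
  have hinj : Set.InjOn trioOf {t | t ∈ trioList} := by
    rintro ⟨a, b, c⟩ ht ⟨a', b', c'⟩ ht' e
    have hh := congrArg (Finset.image mask) e
    rw [(trioOf_mem ht).2, (trioOf_mem ht').2] at hh
    obtain ⟨_, _, h1, h2, _, _⟩ := mem_trioList.1 ht
    obtain ⟨_, _, h1', h2', _, _⟩ := mem_trioList.1 ht'
    obtain ⟨rfl, rfl, rfl⟩ := trio_sorted_inj h1 h2 h1' h2' hh
    rfl
  have key : ∀ t ∈ trioList, lperm l • trioOf t = trioOf t ↔ trioFixed l t = true := by
    intro t ht
    have hm := (trioOf_mem ht).2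
    have e : (lperm l • trioOf t).image mask = ({t.1, t.2.1, t.2.2} : Finset ℕ).image (fun a => pm l a 0) := by
      rw [← hm, Finset.image_image, ← Finset.image_smul, Finset.image_image]
      exact Finset.image_congr fun o _ => mask_smul_lperm hl o
    have e2 : trioFixed l t = true ↔ ∀ a ∈ ({t.1, t.2.1, t.2.2} : Finset ℕ),
        pm l a 0 ∈ ({t.1, t.2.1, t.2.2} : Finset ℕ) := by
      simp [trioFixed]
    rw [e2]
    constructor
    · intro h a ha
      rw [h, hm] at e
      rw [e]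
      exact Finset.mem_image_of_mem _ ha
    · intro h
      refine Finset.eq_of_subset_of_card_le (fun o ho => ?_) (by rw [Finset.card_smul_finset])
      have h2 : mask o ∈ (trioOf t).image mask := by
        rw [hm]
        obtain ⟨a, ha, hao⟩ := Finset.mem_image.1 (e ▸ Finset.mem_image_of_mem mask ho)
        exact hao ▸ h a ha
      obtain ⟨o', ho', e'⟩ := Finset.mem_image.1 h2
      exact mask_injective e' ▸ ho'
  have : {T | T ∈ trios ∧ lperm l • T = T} =
      ((trioDec.filter (trioFixed l)).toFinset.image trioOf : Finset (Finset (Finset GolayPt))) := by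
    ext T
    simp only [Set.mem_ofPred_eq, Finset.coe_image, Set.mem_image, SetLike.mem_coe, List.mem_toFinset,
      List.mem_filter]
    constructor
    · rintro ⟨hT, hf⟩
      obtain ⟨t, ht, rfl⟩ := trioOf_surj hT
      exact ⟨t, ⟨mem_trioDec.2 ht, (key t ht).1 hf⟩, rfl⟩
    · rintro ⟨t, ⟨ht, hf⟩, rfl⟩
      exact ⟨(trioOf_mem (mem_trioDec.1 ht)).1, (key t (mem_trioDec.1 ht)).2 hf⟩
  rw [this, Set.ncard_coe_finset, Finset.card_image_of_injOn,
    List.toFinset_card_of_nodup (trioDec_nodup.filter _)]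
  exact hinj.mono fun t ht => mem_trioDec.1 (List.mem_filter.1 (List.mem_toFinset.1 ht)).1

theorem codeReduce_xor : ∀ (gs ps : List ℕ) (a b : ℕ),
    codeReduce gs ps (a ^^^ b) = codeReduce gs ps a ^^^ codeReduce gs ps b
  | [], _, _, _ => rfl
  | _ :: _, [], _, _ => rfl
  | g :: gs, p :: ps, a, b => by
      simp only [codeReduce]
      rw [← codeReduce_xor gs ps]
      congr 1
      rw [Nat.testBit_xor]
      cases Nat.testBit a p <;> cases Nat.testBit b p <;>
        simp [Nat.xor_assoc, Nat.xor_comm, Nat.xor_left_comm]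

theorem inCode_complete : ∀ m ∈ codeMasks, inCode m = true := by
  apply xorSpan_induction
  · decide +kernel
  · intro a b ha hb
    simp only [inCode, beq_iff_eq] at ha hb ⊢
    rw [codeReduce_xor, ha, hb]; rfl
  · decide +kernel

theorem sextet_mem_iff {S : Finset (Finset GolayPt)} (hS : S ∈ sextets) {t u : Finset GolayPt}
    (ht : t ∈ S) (hu : u.card = 4) :
    u ∈ S ↔ symmDiff t u ∈ supports (golayCode : Set (GolayPt → ZMod 2)) := by
  constructor
  · intro h
    by_cases e : t = u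
    · rw [e, symmDiff_self, mem_supports, show mask ⊥ = 0 by decide +kernel]
      exact xorSpan_zero _
    · have ho := hS.2.2 t ht u h e
      have hd : Disjoint t u := by
        rw [← Finset.card_union_eq_card_add_card, ho.2, hS.2.1 t ht, hu]
      rw [hd.symmDiff_eq_sup, Finset.sup_eq_union]
      exact ho.1
  · intro h
    by_cases e : t = u
    · exact e ▸ ht
    have hne : symmDiff t u ≠ ∅ := by simpa [← Finset.bot_eq_empty] using e
    have h8 := code_weight_ge h hne
    have hc := card_symmDiff_add t u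
    have ht4 := hS.2.1 t ht
    have hd : Disjoint t u := Finset.disjoint_iff_inter_eq_empty.2 (Finset.card_eq_zero.1 (by omega))
    obtain ⟨σ, hσ, e1, e2⟩ := exists_sextet_map hS ht
    have ho : t ∪ u ∈ octads := ⟨by rwa [← Finset.sup_eq_union, ← hd.symmDiff_eq_sup], by
      rw [Finset.card_union_of_disjoint hd, ht4, hu]⟩
    have ho' := smul_octad (inv_mem hσ) ho
    rw [Finset.smul_finset_union, ← e2, inv_smul_smul] at ho'
    rw [← e1, ← Finset.inv_smul_mem_iff]
    set v := σ⁻¹ • u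
    have hv : v.card = 4 := by rw [Finset.card_smul_finset, hu]
    have h15 : mask (ofMask 15) = 15 := mask_ofMask (by norm_num)
    have hd' : Disjoint (ofMask 15) v := by
      rw [← Finset.card_union_eq_card_add_card, ho'.2, hv, ← pc_mask, h15]
      decide +kernel
    refine mem_confOf.2 ⟨mask v, sxBase_facts.2.2.2 _ ?_, ofMask_mask v⟩
    refine List.mem_map.2 ⟨mask (ofMask 15 ∪ v), List.mem_filter.2 ⟨mem_octads.1 ho', beq_iff_eq.2 ?_⟩, ?_⟩
    · have e3 : (ofMask 15 ∪ v) ∩ ofMask 15 = ofMask 15 := Finset.inter_eq_right.2 Finset.subset_union_left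
      have e4 := congrArg mask e3
      rwa [mask_inter, h15] at e4
    · rw [← Finset.sup_eq_union, ← hd'.symmDiff_eq_sup, mask_symmDiff, h15, Nat.xor_comm, ← Nat.xor_assoc,
        Nat.xor_self, Nat.zero_xor]

/-- the sextet of the tetrad `k` is mapped to itself -/
def sxFixed (l : List ℕ) (k : ℕ) : Bool := inCode (k ^^^ pm l k 0)

theorem smul_sextet_eq_iff {l : List ℕ} (hl : m24ok l = true) {S : Finset (Finset GolayPt)}
    (hS : S ∈ sextets) : lperm l • S = S ↔ sxFixed l (sxKey S) = true := by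
  have hlok := m24ok_lok hl
  obtain ⟨t, ⟨ht, h0⟩, -⟩ := sextet_mem_unique hS (pt 0)
  have h4 : (lperm l • t).card = 4 := by rw [Finset.card_smul_finset, hS.2.1 t ht]
  have hiff : lperm l • S = S ↔ lperm l • t ∈ S := by
    refine ⟨fun h => by rw [← h]; exact Finset.smul_mem_smul_finset ht, fun h => ?_⟩
    exact sextet_unique (smul_sextet (lperm_mem hl) hS) hS (Finset.smul_mem_smul_finset ht) h
  rw [hiff, sextet_mem_iff hS ht h4, mem_supports, mask_symmDiff, mask_smul_lperm hlok, sxFixed,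
    sxKey_eq hS ht h0]
  exact ⟨inCode_complete _, inCode_mem⟩

theorem ncard_sextets_with {P : Finset (Finset GolayPt) → Prop} (test : ℕ → Bool)
    (hP : ∀ S ∈ sextets, P S ↔ test (sxKey S) = true) :
    {S | S ∈ sextets ∧ P S}.ncard = (sxKeys.filter test).length := by
  rw [← Set.InjOn.ncard_image (sxKey_injOn.mono fun S h => h.1)]
  have : sxKey '' {S | S ∈ sextets ∧ P S} = ((sxKeys.filter test).toFinset : Set ℕ) := by
    ext m
    rw [SetLike.mem_coe, List.mem_toFinset, List.mem_filter]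
    constructor
    · rintro ⟨S, ⟨hS, hPS⟩, rfl⟩
      exact ⟨sxKey_mem hS, (hP S hS).1 hPS⟩
    · rintro ⟨hm, htest⟩
      obtain ⟨hm4, h0⟩ := List.mem_filter.1 hm
      obtain ⟨hlt, hc⟩ := subMasks_card hm4
      obtain ⟨S, ⟨hS, ht⟩, -⟩ := existsUnique_sextet hc
      have hkey : sxKey S = m := by
        rw [sxKey_eq hS ht (by rw [mem_ofMask, idx_pt 0 (by norm_num)]; exact h0), mask_ofMask hlt]
      exact ⟨S, ⟨hS, (hP S hS).2 (hkey ▸ htest)⟩, hkey⟩
  rw [this, Set.ncard_coe_finset, List.toFinset_card_of_nodup (sxKeys_nodup.filter _)]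

theorem ncard_fixed_octads {l : List ℕ} (hl : lok l = true) :
    {o | o ∈ octads ∧ lperm l • o = o}.ncard = (octMasks.filter fun m => pm l m 0 == m).length :=
  ncard_fixed_masks octMasks_nodup (fun _ => mem_octads) (fun _ h => octMasks_lt h) hl

theorem ncard_fixed_dodecads {l : List ℕ} (hl : lok l = true) :
    {o | o ∈ dodecads ∧ lperm l • o = o}.ncard = (dodMasks.filter fun m => pm l m 0 == m).length :=
  ncard_fixed_masks dodMasks_nodup (fun _ => mem_dodecads) (fun _ h => dodMasks_lt h) hl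

theorem ncard_fixed_sextets {l : List ℕ} (hl : m24ok l = true) :
    {S | S ∈ sextets ∧ lperm l • S = S}.ncard = (sxKeys.filter (sxFixed l)).length :=
  ncard_sextets_with _ fun _ hS => smul_sextet_eq_iff hl hS

/-- numbers of octads, trios and sextets mapped to themselves -/
theorem fixed_counts {g k : Equiv.Perm GolayPt} {l : List ℕ} (hk : k ∈ M24) (hl : m24ok l = true)
    (e : k * g * k⁻¹ = lperm l) :
    {o | o ∈ octads ∧ g • o = o}.ncard = (octMasks.filter fun m => pm l m 0 == m).length ∧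
    {T | T ∈ trios ∧ g • T = T}.ncard = (trioDec.filter (trioFixed l)).length ∧
    {S | S ∈ sextets ∧ g • S = S}.ncard = (sxKeys.filter (sxFixed l)).length ∧
    {d | d ∈ dodecads ∧ g • d = d}.ncard = (dodMasks.filter fun m => pm l m 0 == m).length := by
  refine ⟨?_, ?_, ?_, ?_⟩
  · rw [ncard_inv_conj (fun k hk y hy => smul_octad hk hy) hk, e, ncard_fixed_octads (m24ok_lok hl)]
  · rw [ncard_inv_conj (fun k hk y hy => smul_trio hk hy) hk, e, ncard_fixed_trios (m24ok_lok hl)]
  · rw [ncard_inv_conj (fun k hk y hy => smul_sextet hk hy) hk, e, ncard_fixed_sextets hl]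
  · rw [ncard_inv_conj (fun k hk y hy => smul_dodecad hk hy) hk, e, ncard_fixed_dodecads (m24ok_lok hl)]

end Cfsg.Agent.Spor
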