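/-
The centraliser of an element of order two without fixed points in `M24`: its order, its transitivity,
and the sextet it preserves.
-/
import Cfsg.Agent.Lib.Spor.GolayElemFacts

set_option autoImplicit false
set_option maxRecDepth 100000

namespace Cfsg.Agent.Spor

open scoped Pointwise

theorem card_centraliser_mul {G : Type*} [Group G] [Finite G] (M : Subgroup G) (t : G) (A : Set G)
    (hA : ∀ x, x ∈ A ↔ ∃ g ∈ M, g * t * g⁻¹ = x) :
    A.ncard * Nat.card {c : G // c ∈ M ∧ c * t = t * c} = Nat.card M := by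
  let φ : M → A := fun g => ⟨g.1 * t * g.1⁻¹, (hA _).2 ⟨g.1, g.2, rfl⟩⟩
  have hs : ∀ x : A, ∃ g : M, φ g = x := fun x => by
    obtain ⟨g, hg, e⟩ := (hA _).1 x.2
    exact ⟨⟨g, hg⟩, Subtype.ext e⟩
  choose r hr using hs
  have hfib : ∀ x : A, Nat.card {g : M // φ g = x} = Nat.card {c : G // c ∈ M ∧ c * t = t * c} := by
    intro x
    have h2 : (r x).1 * t * (r x).1⁻¹ = x.1 := congrArg Subtype.val (hr x)
    refine Nat.card_congr
      { toFun := fun g => ⟨(r x).1⁻¹ * g.1.1, mul_mem (inv_mem (r x).2) g.1.2, ?_⟩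
        invFun := fun c => ⟨⟨(r x).1 * c.1, mul_mem (r x).2 c.2.1⟩, Subtype.ext ?_⟩
        left_inv := fun g => Subtype.ext (Subtype.ext (by simp))
        right_inv := fun c => Subtype.ext (by simp) }
    · have h1 : g.1.1 * t * g.1.1⁻¹ = x.1 := congrArg Subtype.val g.2
      rw [← h2] at h1
      calc (r x).1⁻¹ * g.1.1 * t = (r x).1⁻¹ * (g.1.1 * t * g.1.1⁻¹) * g.1.1 := by group
        _ = t * ((r x).1⁻¹ * g.1.1) := by rw [h1]; group
    · show (r x).1 * c.1 * t * ((r x).1 * c.1)⁻¹ = x.1
      rw [← h2, mul_assoc (r x).1 c.1 t, c.2.2]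
      group
  haveI : Fintype A := Fintype.ofFinite _
  rw [← Nat.card_congr (Equiv.sigmaFiberEquiv φ), Nat.card_sigma, Finset.sum_congr rfl fun x _ => hfib x,
    Finset.sum_const, Finset.card_univ, smul_eq_mul, ← Nat.card_eq_fintype_card, Nat.card_coe_set_eq]

/-- the involutions without fixed points -/
def freeInvols : Set (Equiv.Perm GolayPt) :=
  {x | x ∈ M24 ∧ orderOf x = 2 ∧ ∀ p, x p ≠ p}

theorem orderOf_conj (k g : Equiv.Perm GolayPt) : orderOf (k * g * k⁻¹) = orderOf g :=
  (MulAut.conj k).orderOf_eq g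

theorem freeInvols_conj {k x : Equiv.Perm GolayPt} (hk : k ∈ M24) (hx : x ∈ freeInvols) :
    k * x * k⁻¹ ∈ freeInvols := by
  refine ⟨mul_mem (mul_mem hk hx.1) (inv_mem hk), by rw [orderOf_conj]; exact hx.2.1, ?_⟩
  rw [free_iff, card_fixSet_conj, ← free_iff]
  exact hx.2.2

/-- no fixed point below 24 -/
def freeTestP (f : ℕ → ℕ) : Bool := (List.range 24).all fun i => !(f i == i)

theorem freeList_facts : freeList.length = 66 ∧ freeList.Nodup ∧
    freeList.all (fun l => m24ok l && ((List.range 4).all fun i => l.getD i 0 == [1, 0, 3, 2].getD i 0) &&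
      (sqTest l && (List.range 24).all fun i => !(l.getD i 0 == i))) = true ∧
    freeList.map packList = freePacked := by
  decide +kernel

theorem freeList_complete : (let r := packList involShift; fix4Packed.all fun v =>
    !(sqTestP (pget r v) && freeTestP (pget r v)) ||
      freePacked.any fun w => (List.range 24).all fun i => nget w i == pget r v i) = true := by
  decide +kernel

theorem mem_freeList {x : Equiv.Perm GolayPt} (hx : x ∈ M24) (hsq : x * x = 1) (hfree : ∀ p, x p ≠ p)
    (him : ∀ i, i < 4 → idx (x (pt i)) = involShift.getD i 0) : ∃ l ∈ freeList, Rep x l := by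
  obtain ⟨v, hv, hrep⟩ := coset_repP invol_ok.1 hx him
  have h := List.all_eq_true.1 freeList_complete v hv
  have ht : (sqTestP (pget (packList involShift) v) && freeTestP (pget (packList involShift) v)) = true := by
    rw [sqTestP_of hrep hsq, Bool.true_and]
    refine List.all_eq_true.2 fun i hi => ?_
    rw [Bool.not_eq_true', beq_eq_false_iff_ne, ← idx_pt i (List.mem_range.1 hi), hrep]
    exact fun e => hfree _ (idx_injective e)
  simp only [ht, Bool.not_true, Bool.false_or, List.any_eq_true, List.all_eq_true, List.mem_range,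
    beq_iff_eq] at h
  obtain ⟨w, hw, hwv⟩ := h
  obtain ⟨-, -, hall, hpk⟩ := freeList_facts
  rw [← hpk] at hw
  obtain ⟨l, hl, rfl⟩ := List.mem_map.1 hw
  have hok := List.all_eq_true.1 hall l hl
  simp only [Bool.and_eq_true] at hok
  refine ⟨l, hl, fun p => ?_⟩
  rw [← nget_packList l (lok_lt (m24ok_lok hok.1.1)) (idx p), hwv _ (idx_lt p), hrep]

theorem lperm_inj_on {a b : List ℕ} (ha : lok a = true) (hb : lok b = true) (h : lperm a = lperm b) :
    a = b := by
  have la : a.length = 24 := by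
    simp only [lok, Bool.and_eq_true, beq_iff_eq] at ha; exact ha.1.1
  have lb : b.length = 24 := by
    simp only [lok, Bool.and_eq_true, beq_iff_eq] at hb; exact hb.1.1
  refine List.ext_getElem (la.trans lb.symm) fun i hi hi' => ?_
  rw [← List.getD_eq_getElem a 0 hi, ← List.getD_eq_getElem b 0 hi',
    ← idx_pt i (by omega), rep_lperm ha, rep_lperm hb, h]

theorem ncard_free_base :
    {x | x ∈ freeInvols ∧ x (pt 0) = pt 1 ∧ x (pt 2) = pt 3}.ncard = 66 := by
  classical
  obtain ⟨hlen, hnd, hall', -⟩ := freeList_facts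
  simp only [List.all_eq_true, Bool.and_eq_true, List.mem_range, beq_iff_eq] at hall'
  have hall : ∀ l ∈ freeList, m24ok l = true ∧ ∀ i, i < 4 → l.getD i 0 = [1, 0, 3, 2].getD i 0 :=
    fun l hl => (hall' l hl).1
  have hset : {x | x ∈ freeInvols ∧ x (pt 0) = pt 1 ∧ x (pt 2) = pt 3} =
      ((freeList.toFinset.image lperm : Finset (Equiv.Perm GolayPt)) : Set (Equiv.Perm GolayPt)) := by
    ext x
    simp only [Set.mem_ofPred_eq, Finset.coe_image, Set.mem_image, SetLike.mem_coe, List.mem_toFinset]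
    constructor
    · rintro ⟨⟨hx, h2, hfree⟩, h01, h23⟩
      have hsq : x * x = 1 := by rw [← pow_two, ← h2, pow_orderOf_eq_one]
      have hxx : ∀ y, x (x y) = y := fun y => by rw [← Equiv.Perm.mul_apply, hsq]; rfl
      obtain ⟨l, hl, hrep⟩ := mem_freeList hx hsq hfree (fun i hi => by
        rw [invol_ok.2.2.2.1 i hi]
        interval_cases i
        · rw [h01]; rfl
        · rw [← h01, hxx]; rfl
        · rw [h23]; rfl
        · rw [← h23, hxx]; rfl)
      exact ⟨l, hl, Equiv.ext fun p => idx_injective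
        ((rep_lperm (m24ok_lok (hall l hl).1) p).symm.trans (hrep p))⟩
    · rintro ⟨l, hl, rfl⟩
      have hlm := (hall l hl).1
      have hlok := m24ok_lok hlm
      have hf := (hall' l hl).2
      simp only [Bool.not_eq_true', beq_eq_false_iff_ne] at hf
      have h01 : lperm l (pt 0) = pt 1 := by
        rw [lperm_apply hlok, idx_pt 0 (by norm_num), (hall l hl).2 0 (by norm_num)]; rfl
      have h23 : lperm l (pt 2) = pt 3 := by
        rw [lperm_apply hlok, idx_pt 2 (by norm_num), (hall l hl).2 2 (by norm_num)]; rfl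
      have hsq : lperm l * lperm l = 1 := by
        refine Equiv.ext fun p => idx_injective ?_
        have h := List.all_eq_true.1 hf.1 (idx p) (List.mem_range.2 (idx_lt p))
        rw [beq_iff_eq, rep_lperm hlok p, rep_lperm hlok] at h
        exact h
      refine ⟨⟨lperm_mem hlm, orderOf_eq_prime (by rw [pow_two, hsq]) ?_, fun p h => ?_⟩, h01, h23⟩
      · intro h
        rw [h] at h01
        exact absurd h01 (by decide)
      · refine hf.2 (idx p) (idx_lt p) ?_
        rw [rep_lperm hlok p, h]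
  rw [hset, Set.ncard_coe_finset, Finset.card_image_of_injOn, List.toFinset_card_of_nodup hnd, hlen]
  intro a ha b hb e
  rw [SetLike.mem_coe, List.mem_toFinset] at ha hb
  exact lperm_inj_on (m24ok_lok (hall a ha).1) (m24ok_lok (hall b hb).1) e

theorem ncard_free_pairs {a a' b b' : GolayPt} (h : Function.Injective ![a, a', b, b']) :
    {x | x ∈ freeInvols ∧ x a = a' ∧ x b = b'}.ncard = 66 := by
  obtain ⟨σ, hσ, hs⟩ := normalise (k := 4) (by norm_num) _ h
  have h0 := hs 0; have h1 := hs 1; have h2 := hs 2; have h3 := hs 3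
  simp at h0 h1 h2 h3
  rw [← ncard_free_base, ← Set.ncard_image_of_injective _ (MulAut.conj σ).injective]
  congr 1
  ext x
  simp only [Set.mem_image, Set.mem_ofPred_eq, MulAut.conj_apply]
  constructor
  · rintro ⟨y, ⟨hy, ha, hb⟩, rfl⟩
    exact ⟨freeInvols_conj hσ hy, by rw [← h0, conj_apply, ha, h1], by rw [← h2, conj_apply, hb, h3]⟩
  · rintro ⟨hx, ha, hb⟩
    refine ⟨σ⁻¹ * x * σ, ⟨?_, ?_, ?_⟩, by group⟩
    · simpa using freeInvols_conj (inv_mem hσ) hx
    · rw [Equiv.Perm.mul_apply, Equiv.Perm.mul_apply, h0, ha, ← h1, Equiv.Perm.inv_def, Equiv.symm_apply_apply]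
    · rw [Equiv.Perm.mul_apply, Equiv.Perm.mul_apply, h2, hb, ← h3, Equiv.Perm.inv_def, Equiv.symm_apply_apply]

theorem ncard_freeInvols : freeInvols.ncard = 31878 := by
  classical
  haveI : Fintype freeInvols := Fintype.ofFinite _
  let P : freeInvols → (Fin 4 ↪ GolayPt) → Prop := fun x f => x.1 (f 0) = f 1 ∧ x.1 (f 2) = f 3
  have key := Finset.sum_card_bipartiteAbove_eq_sum_card_bipartiteBelow P
    (s := (Finset.univ : Finset freeInvols)) (t := (Finset.univ : Finset (Fin 4 ↪ GolayPt)))
  have habove : ∀ x : freeInvols,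
      ((Finset.univ : Finset (Fin 4 ↪ GolayPt)).bipartiteAbove P x).card = 24 * 22 := by
    intro x
    obtain ⟨hxM, hx2, hfree⟩ := x.2
    have hxx : ∀ y, x.1 (x.1 y) = y := fun y => by
      rw [← Equiv.Perm.mul_apply, ← pow_two, ← hx2, pow_orderOf_eq_one]; rfl
    have hc : ((Finset.univ : Finset GolayPt).sigma fun a => Finset.univ \ {a, x.1 a}).card = 24 * 22 := by
      rw [Finset.card_sigma, Finset.sum_congr rfl (fun a _ =>
        (Finset.card_univ_diff _).trans (by rw [Finset.card_pair (hfree a).symm]))]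
      rw [Finset.sum_const, Finset.card_univ, show Fintype.card GolayPt = 24 from rfl]
      rfl
    rw [← hc]
    refine Finset.card_bij (fun f _ => ⟨f 0, f 2⟩) (fun f hf => ?_) (fun f hf g hg e => ?_) fun q hq => ?_
    · obtain ⟨-, h01, -⟩ := (Finset.mem_bipartiteAbove P).1 hf
      rw [Finset.mem_sigma, Finset.mem_sdiff, Finset.mem_insert, Finset.mem_singleton]
      refine ⟨Finset.mem_univ _, Finset.mem_univ _, ?_⟩
      rintro (h | h)
      · exact absurd (f.injective h) (by decide)
      · exact absurd (f.injective (h.trans h01)) (by decide)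
    · obtain ⟨-, h01, h23⟩ := (Finset.mem_bipartiteAbove P).1 hf
      obtain ⟨-, g01, g23⟩ := (Finset.mem_bipartiteAbove P).1 hg
      simp only [Sigma.mk.injEq, heq_eq_eq] at e
      refine DFunLike.ext _ _ fun i => ?_
      fin_cases i
      · exact e.1
      · exact h01.symm.trans ((congrArg x.1 e.1).trans g01)
      · exact e.2
      · exact h23.symm.trans ((congrArg x.1 e.2).trans g23)
    · obtain ⟨a, b⟩ := q
      simp only [Finset.mem_sigma, Finset.mem_sdiff, Finset.mem_univ, Finset.mem_insert,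
        Finset.mem_singleton, true_and, not_or] at hq
      have ha := hfree a
      have hb := hfree b
      have n1 : x.1 b ≠ a := fun h => hq.2 (by rw [← h, hxx])
      have n2 : x.1 b ≠ x.1 a := fun h => hq.1 (x.1.injective h)
      refine ⟨⟨![a, x.1 a, b, x.1 b], ?_⟩, (Finset.mem_bipartiteAbove P).2 ⟨Finset.mem_univ _, rfl, rfl⟩, rfl⟩
      intro i j h
      fin_cases i <;> fin_cases j <;> first
        | rfl
        | exact absurd h ha
        | exact absurd h.symm ha
        | exact absurd h hb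
        | exact absurd h.symm hb
        | exact absurd h hq.1
        | exact absurd h.symm hq.1
        | exact absurd h hq.2
        | exact absurd h.symm hq.2
        | exact absurd h n1
        | exact absurd h.symm n1
        | exact absurd h n2
        | exact absurd h.symm n2
  have hbelow : ∀ f : Fin 4 ↪ GolayPt,
      ((Finset.univ : Finset freeInvols).bipartiteBelow P f).card = 66 := by
    intro f
    have hf : Function.Injective ![f 0, f 1, f 2, f 3] := by
      rw [show ![f 0, f 1, f 2, f 3] = (f : Fin 4 → GolayPt) from funext fun i => by fin_cases i <;> rfl]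
      exact f.injective
    rw [← ncard_free_pairs hf, ← Set.ncard_coe_finset,
      ← Set.ncard_image_of_injective _ Subtype.val_injective]
    congr 1
    ext y
    simp only [Set.mem_image, SetLike.mem_coe, Finset.mem_bipartiteBelow, Finset.mem_univ, true_and,
      Set.mem_ofPred_eq]
    exact ⟨fun ⟨x, hx, e⟩ => e ▸ ⟨x.2, hx⟩, fun ⟨hy, h⟩ => ⟨⟨y, hy⟩, h, rfl⟩⟩
  rw [Finset.sum_congr rfl fun x _ => habove x, Finset.sum_congr rfl fun f _ => hbelow f,
    Finset.sum_const, Finset.sum_const, Finset.card_univ, Finset.card_univ, smul_eq_mul, smul_eq_mul,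
    Fintype.card_embedding_eq, Fintype.card_fin, show Fintype.card GolayPt = 24 from rfl,
    ← Nat.card_eq_fintype_card, Nat.card_coe_set_eq,
    show Nat.descFactorial 24 4 = 255024 from by decide +kernel] at key
  omega

theorem freeInvols_eq {t : Equiv.Perm GolayPt} (ht : t ∈ freeInvols) (x : Equiv.Perm GolayPt) :
    x ∈ freeInvols ↔ ∃ g ∈ M24, g * t * g⁻¹ = x := by
  refine ⟨fun hx => invol_conj ht.1 hx.1 ht.2.1 hx.2.1 ?_, fun ⟨g, hg, e⟩ => e ▸ freeInvols_conj hg ht⟩
  rw [← free_iff, ← free_iff]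
  exact iff_of_true ht.2.2 hx.2.2

theorem card_centraliser_free {t : Equiv.Perm GolayPt} (ht : t ∈ freeInvols) :
    Nat.card {c : Equiv.Perm GolayPt // c ∈ M24 ∧ c * t = t * c} = 7680 := by
  have h := card_centraliser_mul M24 t freeInvols (freeInvols_eq ht)
  rw [ncard_freeInvols, card_M24] at h
  omega

theorem involCentral_ok : (List.range 24).all (fun i => let l := involCentral.getD i [];
    m24ok l && conjTest l involFree involFree && (l.getD 0 0 == i)) = true := by decide +kernel

theorem involFree_mem : lperm involFree ∈ freeInvols := by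
  obtain ⟨-, hf, -, -, -⟩ := invol_ok
  refine ⟨lperm_mem hf, orderOf_eq_prime ?_ ?_, (free_iff _).2 card_fix_invol.1⟩
  · refine Equiv.ext fun p => idx_injective ?_
    have h : ∀ i, i < 24 → involFree.getD (involFree.getD i 0) 0 = i := by decide +kernel
    rw [pow_two, Equiv.Perm.mul_apply, ← rep_lperm (m24ok_lok hf), ← rep_lperm (m24ok_lok hf),
      h _ (idx_lt p)]
    rfl
  · intro h
    have h0 := card_fix_invol.1
    rw [h] at h0
    simp at h0

theorem centraliser_trans_base (p : GolayPt) :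
    ∃ c ∈ M24, c * lperm involFree = lperm involFree * c ∧ c (pt 0) = p := by
  have h := List.all_eq_true.1 involCentral_ok (idx p) (List.mem_range.2 (idx_lt p))
  simp only [Bool.and_eq_true, beq_iff_eq] at h
  obtain ⟨⟨hm, hc⟩, h0⟩ := h
  have hl := m24ok_lok hm
  obtain ⟨-, hf, -, -, -⟩ := invol_ok
  refine ⟨_, lperm_mem hm, mul_inv_eq_iff_eq_mul.1
    (conjTest_sound (rep_lperm hl) (rep_lperm (m24ok_lok hf)) (m24ok_lok hf) hc), ?_⟩
  rw [lperm_apply hl, idx_pt 0 (by norm_num), h0, pt_idx]

theorem centraliser_trans {t : Equiv.Perm GolayPt} (ht : t ∈ freeInvols) (p q : GolayPt) :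
    ∃ c ∈ M24, c * t = t * c ∧ c p = q := by
  obtain ⟨k, hk, e⟩ := (freeInvols_eq ht _).1 involFree_mem
  obtain ⟨a, ha, hac, ha0⟩ := centraliser_trans_base (k p)
  obtain ⟨b, hb, hbc, hb0⟩ := centraliser_trans_base (k q)
  refine ⟨k⁻¹ * (b * a⁻¹) * k, mul_mem (mul_mem (inv_mem hk) (mul_mem hb (inv_mem ha))) hk, ?_, ?_⟩
  · rw [← e] at hac hbc
    have hac' : Commute a (k * t * k⁻¹) := hac
    have hbc' : Commute b (k * t * k⁻¹) := hbc
    have h2 := (hbc'.mul_left hac'.inv_left).eq
    calc k⁻¹ * (b * a⁻¹) * k * t = k⁻¹ * ((b * a⁻¹) * (k * t * k⁻¹)) * k := by group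
      _ = t * (k⁻¹ * (b * a⁻¹) * k) := by rw [h2]; group
  · rw [Equiv.Perm.mul_apply, Equiv.Perm.mul_apply, Equiv.Perm.mul_apply, ← ha0, Equiv.Perm.inv_def,
      Equiv.Perm.inv_def, Equiv.symm_apply_apply, hb0, Equiv.symm_apply_apply]

/-- every tetrad of the sextet of `k` is mapped to itself -/
def sxAllFixed (l : List ℕ) (k : ℕ) : Bool :=
  (pm l k 0 == k) && octMasks.all fun o => !(o &&& k == k) || (pm l o 0 == o)

theorem sxAllFixed_count : (sxKeys.filter (sxAllFixed involFree)).length = 1 := by decide +kernel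

theorem involSextet_ok : involSextet.Nodup ∧ (∀ a ∈ involSextet, a < 2 ^ 24 ∧ pc a = 4 ∧ pm involFree a 0 = a) ∧
    (∀ a ∈ involSextet, ∀ b ∈ involSextet, a ≠ b → a ||| b ∈ octMasks) := by decide +kernel

theorem allFixed_test {l : List ℕ} (hl : lok l = true) {S : Finset (Finset GolayPt)} (hS : S ∈ sextets)
    (h : ∀ u ∈ S, lperm l • u = u) : sxAllFixed l (sxKey S) = true := by
  obtain ⟨t, ⟨ht, h0⟩, -⟩ := sextet_mem_unique hS (pt 0)
  rw [sxKey_eq hS ht h0]
  simp only [sxAllFixed, Bool.and_eq_true, beq_iff_eq, List.all_eq_true, Bool.or_eq_true,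
    Bool.not_eq_true', beq_eq_false_iff_ne]
  refine ⟨by rw [← mask_smul_lperm hl, h t ht], fun o ho => ?_⟩
  by_cases hok : o &&& mask t = mask t
  · right
    have hlt := octMasks_lt ho
    have hoc : ofMask o ∈ octads := by rw [mem_octads, mask_ofMask hlt]; exact ho
    have hsub : t ⊆ ofMask o := by
      have e : mask (ofMask o ∩ t) = mask t := by rw [mask_inter, mask_ofMask hlt, hok]
      exact Finset.inter_eq_right.1 (mask_injective e)
    have ht4 := hS.2.1 t ht
    have hu : (ofMask o \ t).card = 4 := by rw [Finset.card_sdiff_of_subset hsub, hoc.2, ht4]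
    have hmem : ofMask o \ t ∈ S := by
      rw [sextet_mem_iff hS ht hu]
      have : symmDiff t (ofMask o \ t) = ofMask o := by
        rw [(Finset.disjoint_sdiff).symmDiff_eq_sup, Finset.sup_eq_union, Finset.union_sdiff_of_subset hsub]
      rw [this]
      exact hoc.1
    have e : lperm l • ofMask o = ofMask o := by
      rw [← Finset.union_sdiff_of_subset hsub, Finset.smul_finset_union, h t ht, h _ hmem]
    have e2 := congrArg mask e
    rwa [mask_smul_lperm hl, mask_ofMask hlt] at e2
  · exact Or.inl hok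

theorem centraliser_sextet {t : Equiv.Perm GolayPt} (ht : t ∈ freeInvols) :
    ∃ S ∈ sextets, t • S = S ∧ ∀ c ∈ M24, c * t = t * c → c • S = S := by
  obtain ⟨-, hf, -, -, -⟩ := invol_ok
  have hl := m24ok_lok hf
  obtain ⟨hnd, hfix, hun⟩ := involSextet_ok
  set S₀ := confOf involSextet with hS₀
  have hS : S₀ ∈ sextets := by
    refine ⟨by rw [hS₀, confOf_card hnd fun m hm => (hfix m hm).1]; rfl, fun u hu => ?_, fun u hu v hv hne => ?_⟩
    · obtain ⟨m, hm, rfl⟩ := mem_confOf.1 hu
      rw [← pc_mask, mask_ofMask (hfix m hm).1, (hfix m hm).2.1]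
    · obtain ⟨m, hm, rfl⟩ := mem_confOf.1 hu
      obtain ⟨n, hn, rfl⟩ := mem_confOf.1 hv
      rw [mem_octads, mask_union, mask_ofMask (hfix m hm).1, mask_ofMask (hfix n hn).1]
      exact hun m hm n hn fun e => hne (by rw [e])
  have hall : ∀ u ∈ S₀, lperm involFree • u = u := fun u hu => by
    obtain ⟨m, hm, rfl⟩ := mem_confOf.1 hu
    exact mask_injective (by rw [mask_smul_lperm hl, mask_ofMask (hfix m hm).1, (hfix m hm).2.2])
  have huniq : ∀ T ∈ sextets, (∀ u ∈ T, lperm involFree • u = u) → T = S₀ := fun T hT hTall => by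
    apply sxKey_injOn hT hS
    obtain ⟨a, ha⟩ := List.length_eq_one_iff.1 sxAllFixed_count
    have m1 : sxKey T ∈ sxKeys.filter (sxAllFixed involFree) :=
      List.mem_filter.2 ⟨sxKey_mem hT, allFixed_test hl hT hTall⟩
    have m2 : sxKey S₀ ∈ sxKeys.filter (sxAllFixed involFree) :=
      List.mem_filter.2 ⟨sxKey_mem hS, allFixed_test hl hS hall⟩
    rw [ha, List.mem_singleton] at m1 m2
    rw [m1, m2]
  obtain ⟨k, hk, e⟩ := (freeInvols_eq ht _).1 involFree_mem
  refine ⟨k⁻¹ • S₀, smul_sextet (inv_mem hk) hS, ?_, fun c hc hct => ?_⟩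
  · have h2 : lperm involFree • S₀ = S₀ := by
      rw [Finset.smul_finset_def]
      exact (Finset.image_congr fun u hu => hall u hu).trans Finset.image_id'
    rw [← mul_smul, show t * k⁻¹ = k⁻¹ * (k * t * k⁻¹) by group, e, mul_smul, h2]
  · have hd : k * c * k⁻¹ ∈ M24 := mul_mem (mul_mem hk hc) (inv_mem hk)
    have hcomm : (k * c * k⁻¹) * lperm involFree = lperm involFree * (k * c * k⁻¹) := by
      rw [← e, conj_mul, conj_mul, hct]
    have h2 : (k * c * k⁻¹) • S₀ = S₀ := huniq _ (smul_sextet hd hS) fun u hu => by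
      obtain ⟨v, hv, rfl⟩ := Finset.mem_smul_finset.1 hu
      rw [← mul_smul, ← hcomm, mul_smul, hall v hv]
    rw [← mul_smul, show c * k⁻¹ = k⁻¹ * (k * c * k⁻¹) by group, mul_smul, h2]

end Cfsg.Agent.Spor
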