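/-
The orbit decompositions of the standard configuration stabilisers.
-/
import Cfsg.Agent.Lib.Spor.GolayTransfer
import Cfsg.Agent.Lib.Spor.GolayOrbSxSextet
import Cfsg.Agent.Lib.Spor.GolayOrbTrTrio
import Cfsg.Agent.Lib.Spor.GolayOrbOcTrio
import Cfsg.Agent.Lib.Spor.GolayOrbOcSextet
import Cfsg.Agent.Lib.Spor.GolayOrbSxOct
import Cfsg.Agent.Lib.Spor.GolayOrbSxTrio
import Cfsg.Agent.Lib.Spor.GolayOrbTrOct
import Cfsg.Agent.Lib.Spor.GolayOrbTrSextet
import Cfsg.Agent.Lib.Spor.GolayOrbT3Sextet
import Cfsg.Agent.Lib.Spor.GolayOrbDpSextet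

set_option autoImplicit false
set_option maxRecDepth 100000
set_option Elab.async false

namespace Cfsg.Agent.Spor

open scoped Pointwise

theorem pinv_stab {A : Finset (Finset GolayPt)} :
    ∀ k ∈ MulAction.stabilizer M24 A, ∀ B : Finset (Finset GolayPt), pinv A (k • B) = pinv A B :=
  fun k hk B => pinv_smul (σ := (k : Equiv.Perm GolayPt)) hk B

theorem length_filter_zip {α : Type*} {ks : List α} {ts : List ℕ} (h : ks.length = ts.length) (P : ℕ → Bool) :
    ((ks.zip ts).filter fun p => P p.2).length = (ts.filter P).length := by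
  conv_rhs => rw [← List.map_snd_zip (l₁ := ks) (l₂ := ts) (by omega)]
  rw [List.filter_map, List.length_map]
  rfl

theorem classCount {ks ts : List ℕ} {k c : ℕ} (h : ks.length = ts.length) :
    ((classList ks ts k).filter fun p => decide (p.2 = c)).length =
      ((ts.map (· / k)).filter fun x => decide (x = c)).length :=
  length_filter_zip (by simp [h]) (fun x => decide (x = c))

theorem trioClassCount {ts : List ℕ} {c : ℕ} (h : (trioDec.map trioSet).length = ts.length) :
    ((trioClassList ts).filter fun p => decide (p.2 = c)).length =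
      (ts.filter fun x => decide (x = c)).length :=
  length_filter_zip h (fun x => decide (x = c))

theorem sxKeys_length : sxKeys.length = 1771 := by decide +kernel

theorem trioDec_length : trioDec.length = 3795 := by
  rw [trioDec, List.length_map, trioDec_checks.2.2]

/-- invariant of a set relative to a configuration -/
def sinv (A : Finset (Finset GolayPt)) (s : Finset GolayPt) : ℕ := pinv A {s}

theorem sinv_stab {A : Finset (Finset GolayPt)} :
    ∀ k ∈ MulAction.stabilizer M24 A, ∀ s : Finset GolayPt, sinv A (k • s) = sinv A s := fun k hk s => by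
  rw [sinv, sinv, ← Finset.smul_finset_singleton]
  exact pinv_stab k hk _

/-- number of members of `B` meeting some set of `A` -/
def meetCount (A B : Finset (Finset GolayPt)) : ℕ :=
  (B.filter fun t => 0 < ∑ a ∈ A, (t ∩ a).card).card

theorem meetCount_stab {A : Finset (Finset GolayPt)} :
    ∀ k ∈ MulAction.stabilizer M24 A, ∀ B : Finset (Finset GolayPt), meetCount A (k • B) = meetCount A B := by
  intro k hk B
  have hsum : ∀ t : Finset GolayPt, ∑ a ∈ A, ((k • t) ∩ a).card = ∑ a ∈ A, (t ∩ a).card := fun t => by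
    conv_lhs => rw [← MulAction.mem_stabilizer_iff.1 hk]
    rw [Finset.smul_finset_def, Finset.sum_image fun x _ y _ e => MulAction.injective k e]
    refine Finset.sum_congr rfl fun a _ => ?_
    rw [← Finset.smul_finset_inter, Finset.card_smul_finset]
  rw [meetCount, meetCount, ← Finset.card_smul_finset k (B.filter fun t => 0 < ∑ a ∈ A, (t ∩ a).card)]
  congr 1
  ext t
  simp only [Finset.mem_filter, ← Finset.inv_smul_mem_iff]
  rw [show ∑ a ∈ A, (t ∩ a).card = ∑ a ∈ A, ((k⁻¹ • t) ∩ a).card by rw [← hsum (k⁻¹ • t), smul_inv_smul]]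

theorem orbSxSextet_count : ∀ c, c < 4 →
    ((classList sxKeys orbSxSextetT 6).filter fun p => decide (p.2 = c)).length = [1, 240, 1440, 90].getD c 0 := by
  have h : ∀ c, c < 4 → ((orbSxSextetT.map (· / 6)).filter fun x => decide (x = c)).length = [1, 240, 1440, 90].getD c 0 := by decide +kernel
  intro c hc
  rw [classCount (sxKeys_length.trans (by decide +kernel : 1771 = orbSxSextetT.length))]
  exact h c hc

/-- orbit decomposition -/
theorem orbSxSextet_orbits :
    (∀ c, c < 4 → confOf (orbSxSextetR.getD c []) ∈ sextets ∧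
        (MulAction.orbit (MulAction.stabilizer M24 (confOf confSx)) (confOf (orbSxSextetR.getD c []))).ncard = [1, 240, 1440, 90].getD c 0) ∧
      (∀ y ∈ sextets, ∃ c, c < 4 ∧ y ∈ MulAction.orbit (MulAction.stabilizer M24 (confOf confSx)) (confOf (orbSxSextetR.getD c []))) ∧
      ∀ y ∈ sextets, ∀ y' ∈ sextets, pinv (confOf confSx) y = pinv (confOf confSx) y' →
        ∃ k ∈ MulAction.stabilizer M24 (confOf confSx), k • y = y' := by
  obtain ⟨h1, h2, h3⟩ := sextet_orbits (R := orbSxSextetR) (tags := orbSxSextetT) gensSx_ok (by decide +kernel) (sxKeys_length.trans (by decide +kernel : 1771 = orbSxSextetT.length)) (by decide +kernel) orbSxSextet_cover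
    (pinv (confOf confSx)) pinv_stab (by decide +kernel)
  exact ⟨fun c hc => ⟨(h1 c hc).1, (h1 c hc).2.trans (orbSxSextet_count c hc)⟩, h2, h3⟩

theorem orbTrTrio_count : ∀ c, c < 5 →
    ((trioClassList orbTrTrioT).filter fun p => decide (p.2 = c)).length = [1, 2688, 1008, 56, 42].getD c 0 := by
  have h : ∀ c, c < 5 → (orbTrTrioT.filter fun x => decide (x = c)).length = [1, 2688, 1008, 56, 42].getD c 0 := by decide +kernel
  intro c hc
  rw [trioClassCount (((List.length_map ..).trans trioDec_length).trans (by decide +kernel : 3795 = orbTrTrioT.length))]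
  exact h c hc

/-- orbit decomposition -/
theorem orbTrTrio_orbits :
    (∀ c, c < 5 → confOf (orbTrTrioR.getD c []) ∈ trios ∧
        (MulAction.orbit (MulAction.stabilizer M24 (confOf confTr)) (confOf (orbTrTrioR.getD c []))).ncard = [1, 2688, 1008, 56, 42].getD c 0) ∧
      (∀ y ∈ trios, ∃ c, c < 5 ∧ y ∈ MulAction.orbit (MulAction.stabilizer M24 (confOf confTr)) (confOf (orbTrTrioR.getD c []))) ∧
      ∀ y ∈ trios, ∀ y' ∈ trios, pinv (confOf confTr) y = pinv (confOf confTr) y' →
        ∃ k ∈ MulAction.stabilizer M24 (confOf confTr), k • y = y' := by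
  obtain ⟨h1, h2, h3⟩ := trio_orbits (R := orbTrTrioR) (tags := orbTrTrioT) gensTr_ok (by decide +kernel) (trioDec_length.trans (by decide +kernel : 3795 = orbTrTrioT.length)) (by decide +kernel) orbTrTrio_cover
    (pinv (confOf confTr)) pinv_stab (by decide +kernel)
  exact ⟨fun c hc => ⟨(h1 c hc).1, (h1 c hc).2.trans (orbTrTrio_count c hc)⟩, h2, h3⟩

theorem orbOcTrio_count : ∀ c, c < 3 →
    ((trioClassList orbOcTrioT).filter fun p => decide (p.2 = c)).length = [3360, 420, 15].getD c 0 := by
  have h : ∀ c, c < 3 → (orbOcTrioT.filter fun x => decide (x = c)).length = [3360, 420, 15].getD c 0 := by decide +kernel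
  intro c hc
  rw [trioClassCount (((List.length_map ..).trans trioDec_length).trans (by decide +kernel : 3795 = orbOcTrioT.length))]
  exact h c hc

/-- orbit decomposition -/
theorem orbOcTrio_orbits :
    (∀ c, c < 3 → confOf (orbOcTrioR.getD c []) ∈ trios ∧
        (MulAction.orbit (MulAction.stabilizer M24 (confOf confOc)) (confOf (orbOcTrioR.getD c []))).ncard = [3360, 420, 15].getD c 0) ∧
      (∀ y ∈ trios, ∃ c, c < 3 ∧ y ∈ MulAction.orbit (MulAction.stabilizer M24 (confOf confOc)) (confOf (orbOcTrioR.getD c []))) ∧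
      ∀ y ∈ trios, ∀ y' ∈ trios, pinv (confOf confOc) y = pinv (confOf confOc) y' →
        ∃ k ∈ MulAction.stabilizer M24 (confOf confOc), k • y = y' := by
  obtain ⟨h1, h2, h3⟩ := trio_orbits (R := orbOcTrioR) (tags := orbOcTrioT) gensOc_ok (by decide +kernel) (trioDec_length.trans (by decide +kernel : 3795 = orbOcTrioT.length)) (by decide +kernel) orbOcTrio_cover
    (pinv (confOf confOc)) pinv_stab (by decide +kernel)
  exact ⟨fun c hc => ⟨(h1 c hc).1, (h1 c hc).2.trans (orbOcTrio_count c hc)⟩, h2, h3⟩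

theorem orbOcSextet_count : ∀ c, c < 3 →
    ((classList sxKeys orbOcSextetT 6).filter fun p => decide (p.2 = c)).length = [35, 896, 840].getD c 0 := by
  have h : ∀ c, c < 3 → ((orbOcSextetT.map (· / 6)).filter fun x => decide (x = c)).length = [35, 896, 840].getD c 0 := by decide +kernel
  intro c hc
  rw [classCount (sxKeys_length.trans (by decide +kernel : 1771 = orbOcSextetT.length))]
  exact h c hc

/-- orbit decomposition -/
theorem orbOcSextet_orbits :
    (∀ c, c < 3 → confOf (orbOcSextetR.getD c []) ∈ sextets ∧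
        (MulAction.orbit (MulAction.stabilizer M24 (confOf confOc)) (confOf (orbOcSextetR.getD c []))).ncard = [35, 896, 840].getD c 0) ∧
      (∀ y ∈ sextets, ∃ c, c < 3 ∧ y ∈ MulAction.orbit (MulAction.stabilizer M24 (confOf confOc)) (confOf (orbOcSextetR.getD c []))) ∧
      ∀ y ∈ sextets, ∀ y' ∈ sextets, pinv (confOf confOc) y = pinv (confOf confOc) y' →
        ∃ k ∈ MulAction.stabilizer M24 (confOf confOc), k • y = y' := by
  obtain ⟨h1, h2, h3⟩ := sextet_orbits (R := orbOcSextetR) (tags := orbOcSextetT) gensOc_ok (by decide +kernel) (sxKeys_length.trans (by decide +kernel : 1771 = orbOcSextetT.length)) (by decide +kernel) orbOcSextet_cover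
    (pinv (confOf confOc)) pinv_stab (by decide +kernel)
  exact ⟨fun c hc => ⟨(h1 c hc).1, (h1 c hc).2.trans (orbOcSextet_count c hc)⟩, h2, h3⟩

theorem orbSxOct_count : ∀ c, c < 3 →
    ((classList octMasks orbSxOctT 1).filter fun p => decide (p.2 = c)).length = [384, 360, 15].getD c 0 := by
  have h : ∀ c, c < 3 → ((orbSxOctT.map (· / 1)).filter fun x => decide (x = c)).length = [384, 360, 15].getD c 0 := by decide +kernel
  intro c hc
  rw [classCount (octMasks_length.trans (by decide +kernel : 759 = orbSxOctT.length))]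
  exact h c hc

/-- orbit decomposition -/
theorem orbSxOct_orbits :
    (∀ c, c < 3 → ofMask ((orbSxOctR.getD c []).getD 0 0) ∈ octads ∧
        (MulAction.orbit (MulAction.stabilizer M24 (confOf confSx)) (ofMask ((orbSxOctR.getD c []).getD 0 0))).ncard = [384, 360, 15].getD c 0) ∧
      (∀ y ∈ octads, ∃ c, c < 3 ∧ y ∈ MulAction.orbit (MulAction.stabilizer M24 (confOf confSx)) (ofMask ((orbSxOctR.getD c []).getD 0 0))) ∧
      ∀ y ∈ octads, ∀ y' ∈ octads, sinv (confOf confSx) y = sinv (confOf confSx) y' →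
        ∃ k ∈ MulAction.stabilizer M24 (confOf confSx), k • y = y' := by
  obtain ⟨h1, h2, h3⟩ := set_orbits (R := orbSxOctR) (tags := orbSxOctT) (S := octads) (fun _ => mem_octads) octMasks_nodup
    (fun _ hσ _ hs => smul_octad hσ hs) gensSx_ok (by decide +kernel) (octMasks_length.trans (by decide +kernel : 759 = orbSxOctT.length)) (by decide +kernel) orbSxOct_cover
    (sinv (confOf confSx)) sinv_stab (by decide +kernel)
  exact ⟨fun c hc => ⟨(h1 c hc).1, (h1 c hc).2.trans (orbSxOct_count c hc)⟩, h2, h3⟩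

theorem orbSxTrio_count : ∀ c, c < 4 →
    ((trioClassList orbSxTrioT).filter fun p => decide (p.2 = c)).length = [2880, 720, 180, 15].getD c 0 := by
  have h : ∀ c, c < 4 → (orbSxTrioT.filter fun x => decide (x = c)).length = [2880, 720, 180, 15].getD c 0 := by decide +kernel
  intro c hc
  rw [trioClassCount (((List.length_map ..).trans trioDec_length).trans (by decide +kernel : 3795 = orbSxTrioT.length))]
  exact h c hc

/-- orbit decomposition -/
theorem orbSxTrio_orbits :
    (∀ c, c < 4 → confOf (orbSxTrioR.getD c []) ∈ trios ∧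
        (MulAction.orbit (MulAction.stabilizer M24 (confOf confSx)) (confOf (orbSxTrioR.getD c []))).ncard = [2880, 720, 180, 15].getD c 0) ∧
      (∀ y ∈ trios, ∃ c, c < 4 ∧ y ∈ MulAction.orbit (MulAction.stabilizer M24 (confOf confSx)) (confOf (orbSxTrioR.getD c []))) ∧
      ∀ y ∈ trios, ∀ y' ∈ trios, pinv (confOf confSx) y = pinv (confOf confSx) y' →
        ∃ k ∈ MulAction.stabilizer M24 (confOf confSx), k • y = y' := by
  obtain ⟨h1, h2, h3⟩ := trio_orbits (R := orbSxTrioR) (tags := orbSxTrioT) gensSx_ok (by decide +kernel) (trioDec_length.trans (by decide +kernel : 3795 = orbSxTrioT.length)) (by decide +kernel) orbSxTrio_cover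
    (pinv (confOf confSx)) pinv_stab (by decide +kernel)
  exact ⟨fun c hc => ⟨(h1 c hc).1, (h1 c hc).2.trans (orbSxTrio_count c hc)⟩, h2, h3⟩

theorem orbTrOct_count : ∀ c, c < 3 →
    ((classList octMasks orbTrOctT 1).filter fun p => decide (p.2 = c)).length = [672, 84, 3].getD c 0 := by
  have h : ∀ c, c < 3 → ((orbTrOctT.map (· / 1)).filter fun x => decide (x = c)).length = [672, 84, 3].getD c 0 := by decide +kernel
  intro c hc
  rw [classCount (octMasks_length.trans (by decide +kernel : 759 = orbTrOctT.length))]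
  exact h c hc

/-- orbit decomposition -/
theorem orbTrOct_orbits :
    (∀ c, c < 3 → ofMask ((orbTrOctR.getD c []).getD 0 0) ∈ octads ∧
        (MulAction.orbit (MulAction.stabilizer M24 (confOf confTr)) (ofMask ((orbTrOctR.getD c []).getD 0 0))).ncard = [672, 84, 3].getD c 0) ∧
      (∀ y ∈ octads, ∃ c, c < 3 ∧ y ∈ MulAction.orbit (MulAction.stabilizer M24 (confOf confTr)) (ofMask ((orbTrOctR.getD c []).getD 0 0))) ∧
      ∀ y ∈ octads, ∀ y' ∈ octads, sinv (confOf confTr) y = sinv (confOf confTr) y' →
        ∃ k ∈ MulAction.stabilizer M24 (confOf confTr), k • y = y' := by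
  obtain ⟨h1, h2, h3⟩ := set_orbits (R := orbTrOctR) (tags := orbTrOctT) (S := octads) (fun _ => mem_octads) octMasks_nodup
    (fun _ hσ _ hs => smul_octad hσ hs) gensTr_ok (by decide +kernel) (octMasks_length.trans (by decide +kernel : 759 = orbTrOctT.length)) (by decide +kernel) orbTrOct_cover
    (sinv (confOf confTr)) sinv_stab (by decide +kernel)
  exact ⟨fun c hc => ⟨(h1 c hc).1, (h1 c hc).2.trans (orbTrOct_count c hc)⟩, h2, h3⟩

theorem orbTrSextet_count : ∀ c, c < 4 →
    ((classList sxKeys orbTrSextetT 6).filter fun p => decide (p.2 = c)).length = [84, 1344, 7, 336].getD c 0 := by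
  have h : ∀ c, c < 4 → ((orbTrSextetT.map (· / 6)).filter fun x => decide (x = c)).length = [84, 1344, 7, 336].getD c 0 := by decide +kernel
  intro c hc
  rw [classCount (sxKeys_length.trans (by decide +kernel : 1771 = orbTrSextetT.length))]
  exact h c hc

/-- orbit decomposition -/
theorem orbTrSextet_orbits :
    (∀ c, c < 4 → confOf (orbTrSextetR.getD c []) ∈ sextets ∧
        (MulAction.orbit (MulAction.stabilizer M24 (confOf confTr)) (confOf (orbTrSextetR.getD c []))).ncard = [84, 1344, 7, 336].getD c 0) ∧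
      (∀ y ∈ sextets, ∃ c, c < 4 ∧ y ∈ MulAction.orbit (MulAction.stabilizer M24 (confOf confTr)) (confOf (orbTrSextetR.getD c []))) ∧
      ∀ y ∈ sextets, ∀ y' ∈ sextets, pinv (confOf confTr) y = pinv (confOf confTr) y' →
        ∃ k ∈ MulAction.stabilizer M24 (confOf confTr), k • y = y' := by
  obtain ⟨h1, h2, h3⟩ := sextet_orbits (R := orbTrSextetR) (tags := orbTrSextetT) gensTr_ok (by decide +kernel) (sxKeys_length.trans (by decide +kernel : 1771 = orbTrSextetT.length)) (by decide +kernel) orbTrSextet_cover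
    (pinv (confOf confTr)) pinv_stab (by decide +kernel)
  exact ⟨fun c hc => ⟨(h1 c hc).1, (h1 c hc).2.trans (orbTrSextet_count c hc)⟩, h2, h3⟩

theorem orbT3Sextet_count : ∀ c, c < 3 →
    ((classList sxKeys orbT3SextetT 6).filter fun p => decide (p.2 = c)).length = [21, 630, 1120].getD c 0 := by
  have h : ∀ c, c < 3 → ((orbT3SextetT.map (· / 6)).filter fun x => decide (x = c)).length = [21, 630, 1120].getD c 0 := by decide +kernel
  intro c hc
  rw [classCount (sxKeys_length.trans (by decide +kernel : 1771 = orbT3SextetT.length))]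
  exact h c hc

/-- orbit decomposition -/
theorem orbT3Sextet_orbits :
    (∀ c, c < 3 → confOf (orbT3SextetR.getD c []) ∈ sextets ∧
        (MulAction.orbit (MulAction.stabilizer M24 (confOf confT3)) (confOf (orbT3SextetR.getD c []))).ncard = [21, 630, 1120].getD c 0) ∧
      (∀ y ∈ sextets, ∃ c, c < 3 ∧ y ∈ MulAction.orbit (MulAction.stabilizer M24 (confOf confT3)) (confOf (orbT3SextetR.getD c []))) ∧
      ∀ y ∈ sextets, ∀ y' ∈ sextets, meetCount (confOf confT3) y = meetCount (confOf confT3) y' →
        ∃ k ∈ MulAction.stabilizer M24 (confOf confT3), k • y = y' := by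
  obtain ⟨h1, h2, h3⟩ := sextet_orbits (R := orbT3SextetR) (tags := orbT3SextetT) gensT3_ok (by decide +kernel) (sxKeys_length.trans (by decide +kernel : 1771 = orbT3SextetT.length)) (by decide +kernel) orbT3Sextet_cover
    (meetCount (confOf confT3)) meetCount_stab (by decide +kernel)
  exact ⟨fun c hc => ⟨(h1 c hc).1, (h1 c hc).2.trans (orbT3Sextet_count c hc)⟩, h2, h3⟩

theorem orbDpSextet_count : ∀ c, c < 3 →
    ((classList sxKeys orbDpSextetT 6).filter fun p => decide (p.2 = c)).length = [495, 880, 396].getD c 0 := by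
  have h : ∀ c, c < 3 → ((orbDpSextetT.map (· / 6)).filter fun x => decide (x = c)).length = [495, 880, 396].getD c 0 := by decide +kernel
  intro c hc
  rw [classCount (sxKeys_length.trans (by decide +kernel : 1771 = orbDpSextetT.length))]
  exact h c hc

/-- orbit decomposition -/
theorem orbDpSextet_orbits :
    (∀ c, c < 3 → confOf (orbDpSextetR.getD c []) ∈ sextets ∧
        (MulAction.orbit (MulAction.stabilizer M24 (confOf confDp)) (confOf (orbDpSextetR.getD c []))).ncard = [495, 880, 396].getD c 0) ∧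
      (∀ y ∈ sextets, ∃ c, c < 3 ∧ y ∈ MulAction.orbit (MulAction.stabilizer M24 (confOf confDp)) (confOf (orbDpSextetR.getD c []))) ∧
      ∀ y ∈ sextets, ∀ y' ∈ sextets, pinv (confOf confDp) y = pinv (confOf confDp) y' →
        ∃ k ∈ MulAction.stabilizer M24 (confOf confDp), k • y = y' := by
  obtain ⟨h1, h2, h3⟩ := sextet_orbits (R := orbDpSextetR) (tags := orbDpSextetT) gensDp_ok (by decide +kernel) (sxKeys_length.trans (by decide +kernel : 1771 = orbDpSextetT.length)) (by decide +kernel) orbDpSextet_cover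
    (pinv (confOf confDp)) pinv_stab (by decide +kernel)
  exact ⟨fun c hc => ⟨(h1 c hc).1, (h1 c hc).2.trans (orbDpSextet_count c hc)⟩, h2, h3⟩

theorem exists_base_trio {T : Finset (Finset GolayPt)} (hT : T ∈ trios) :
    ∃ σ ∈ M24, σ • confOf confTr = T := by
  obtain ⟨o, ho⟩ := Finset.card_pos.1 (show 0 < T.card by rw [hT.1]; norm_num)
  obtain ⟨σ, hσ, rfl⟩ := octad_map o (hT.2.1 o ho)
  set U := σ⁻¹ • T with hU
  have hUt : U ∈ trios := smul_trio (inv_mem hσ) hT
  have hoU : ofMask 5279 ∈ U := by
    have := Finset.smul_mem_smul_finset (a := σ⁻¹) ho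
    rwa [inv_smul_smul] at this
  have hbase : confOf confTr ∈ trios := trioOk_sound (by decide +kernel)
  have hob : ofMask 5279 ∈ confOf confTr := by decide +kernel
  have hval : ∀ V ∈ trios, ofMask 5279 ∈ V → pinv (confOf confOc) V = 9 ^ 5 + 2 := by
    intro V hV hoV
    have hA : confOf confOc = {ofMask 5279} := rfl
    rw [pinv, hA, Finset.sum_singleton, ← Finset.add_sum_erase _ _ hoV, Finset.inter_self,
      (hV.2.1 _ hoV).2]
    have hz : ∀ b ∈ V.erase (ofMask 5279), ((ofMask 5279 ∩ b).card + 1) ^ 5 = 1 := fun b hb => by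
      obtain ⟨hne, hbV⟩ := Finset.mem_erase.1 hb
      rw [Finset.disjoint_iff_inter_eq_empty.1 (hV.2.2 _ hoV b hbV fun e => hne e.symm)]
      rfl
    rw [Finset.sum_congr rfl hz, Finset.sum_const, smul_eq_mul, mul_one, Finset.card_erase_of_mem hoV, hV.1]
  obtain ⟨k, -, hk⟩ := orbOcTrio_orbits.2.2 _ hbase U hUt
    ((hval _ hbase hob).trans (hval U hUt hoU).symm)
  exact ⟨σ * (k : Equiv.Perm GolayPt), mul_mem hσ k.2, by
    rw [mul_smul, show (k : Equiv.Perm GolayPt) • confOf confTr = U from hk, hU, smul_inv_smul]⟩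

end Cfsg.Agent.Spor
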