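import Cfsg.Agent.Lib.Spor.GolayLocalData
import Cfsg.Agent.Lib.Spor.GolayOrbitFacts
import Cfsg.Agent.Lib.Spor.GolayElemCent

/-!
The structure of the stabilisers of a sextet and of a trio in the group of the length-24 code.
-/

set_option autoImplicit false
set_option maxRecDepth 100000

namespace Cfsg.Agent.Spor

open scoped Pointwise

theorem rep_unique {σ τ : Equiv.Perm GolayPt} {l : List ℕ} (h : Rep σ l) (h' : Rep τ l) : σ = τ :=
  Equiv.ext fun p => idx_injective ((h p).symm.trans (h' p))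

theorem lperm_lmul {p q : List ℕ} (hp : lok p = true) (hq : lok q = true) (h : lok (lmul p q) = true) :
    lperm (lmul p q) = lperm p * lperm q :=
  rep_unique (rep_lperm h) ((rep_lperm hp).mul (rep_lperm hq))

theorem lok_id : lok (List.range 24) = true := by decide +kernel

theorem lperm_id : lperm (List.range 24) = 1 :=
  rep_unique (rep_lperm lok_id) (fun p => by
    rw [List.getD_eq_getElem _ _ (by rw [List.length_range]; exact idx_lt p), List.getElem_range]
    rfl)

theorem pm_maps {l : List ℕ} (hl : lok l = true) {a b : ℕ} (ha : a < 2 ^ 24) (hb : b < 2 ^ 24)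
    (h : pm l a 0 = b) : lperm l • ofMask a = ofMask b := by
  apply mask_injective
  rw [mask_smul_lperm hl, mask_ofMask ha, mask_ofMask hb, h]

/-- every product of the listed elements -/
def spanL (gs : List (List ℕ)) : List (List ℕ) :=
  gs.foldr (fun g acc => acc ++ acc.map (lmul g)) [List.range 24]

/-- all pairs of members can be exchanged inside the stabiliser -/
def HasSwaps (T : Finset (Finset GolayPt)) : Prop :=
  ∀ a ∈ T, ∀ b ∈ T, ∃ σ ∈ M24, σ • a = b ∧ σ • b = a ∧ ∀ c ∈ T, c ≠ a → c ≠ b → σ • c = c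

theorem HasSwaps.smul {T : Finset (Finset GolayPt)} (h : HasSwaps T) {τ : Equiv.Perm GolayPt}
    (hτ : τ ∈ M24) : HasSwaps (τ • T) := by
  intro a' ha' b' hb'
  obtain ⟨a, ha, rfl⟩ := Finset.mem_smul_finset.1 ha'
  obtain ⟨b, hb, rfl⟩ := Finset.mem_smul_finset.1 hb'
  obtain ⟨σ, hσ, h1, h2, h3⟩ := h a ha b hb
  refine ⟨τ * σ * τ⁻¹, mul_mem (mul_mem hτ hσ) (inv_mem hτ), by rw [mul_smul, mul_smul, inv_smul_smul, h1],
    by rw [mul_smul, mul_smul, inv_smul_smul, h2], fun c' hc' hca hcb => ?_⟩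
  obtain ⟨c, hc, rfl⟩ := Finset.mem_smul_finset.1 hc'
  rw [mul_smul, mul_smul, inv_smul_smul, h3 c hc (fun e => hca (by rw [e])) (fun e => hcb (by rw [e]))]

theorem stab_smul_mem {T : Finset (Finset GolayPt)} (g : ↥(MulAction.stabilizer M24 T)) {t : Finset GolayPt}
    (ht : t ∈ T) : ((g : M24) : Equiv.Perm GolayPt) • t ∈ T := by
  have h : ((g : M24) : Equiv.Perm GolayPt) • T = T := g.2
  exact h.subset (Finset.smul_mem_smul_finset ht)

/-- the induced permutation of the members -/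
def memberPerm (T : Finset (Finset GolayPt)) : ↥(MulAction.stabilizer M24 T) →* Equiv.Perm ↥T where
  toFun g :=
    { toFun := fun t => ⟨_, stab_smul_mem g t.2⟩
      invFun := fun t => ⟨_, stab_smul_mem g⁻¹ t.2⟩
      left_inv := fun t => Subtype.ext (inv_smul_smul ((g : M24) : Equiv.Perm GolayPt) (t : Finset GolayPt))
      right_inv := fun t => Subtype.ext (smul_inv_smul ((g : M24) : Equiv.Perm GolayPt) (t : Finset GolayPt)) }
  map_one' := Equiv.ext fun t => Subtype.ext (one_smul (Equiv.Perm GolayPt) (t : Finset GolayPt))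
  map_mul' g h := Equiv.ext fun t =>
    Subtype.ext (mul_smul ((g : M24) : Equiv.Perm GolayPt) ((h : M24) : Equiv.Perm GolayPt) (t : Finset GolayPt))

theorem memberPerm_apply {T : Finset (Finset GolayPt)} (g : ↥(MulAction.stabilizer M24 T)) (t : ↥T) :
    ((memberPerm T g t : ↥T) : Finset GolayPt) = ((g : M24) : Equiv.Perm GolayPt) • (t : Finset GolayPt) := rfl

theorem memberPerm_surjective {T : Finset (Finset GolayPt)} (h : HasSwaps T) :
    Function.Surjective (memberPerm T) := by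
  classical
  intro e
  induction e using Equiv.Perm.swap_induction_on with
  | one => exact ⟨1, map_one _⟩
  | swap_mul e a b hab ih =>
    obtain ⟨g, rfl⟩ := ih
    obtain ⟨σ, hσ, h1, h2, h3⟩ := h a a.2 b b.2
    have hst : (⟨σ, hσ⟩ : M24) ∈ MulAction.stabilizer M24 T := by
      rw [MulAction.mem_stabilizer_iff]
      refine Finset.eq_of_subset_of_card_le ?_ (Finset.card_smul_finset σ T).ge
      intro x hx
      obtain ⟨y, hy, rfl⟩ := Finset.mem_smul_finset.1 hx
      show σ • y ∈ T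
      by_cases hya : y = a
      · rw [hya, h1]; exact b.2
      by_cases hyb : y = b
      · rw [hyb, h2]; exact a.2
      rw [h3 y hy hya hyb]; exact hy
    refine ⟨⟨_, hst⟩ * g, ?_⟩
    rw [map_mul]
    congr 1
    refine Equiv.ext fun t => Subtype.ext ?_
    rw [memberPerm_apply]
    show σ • (t : Finset GolayPt) = _
    rcases eq_or_ne t a with rfl | hta
    · rw [Equiv.swap_apply_left, h1]
    rcases eq_or_ne t b with rfl | htb
    · rw [Equiv.swap_apply_right, h2]
    rw [Equiv.swap_apply_of_ne_of_ne hta htb,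
      h3 t t.2 (fun e => hta (Subtype.ext e)) (fun e => htb (Subtype.ext e))]

section sextet

/-- the involutions and identity fixing every member -/
def sxA (S : Finset (Finset GolayPt)) : Set (Equiv.Perm GolayPt) :=
  {σ | σ ∈ M24 ∧ (∀ t ∈ S, σ • t = t) ∧ σ * σ = 1}

theorem sxA_smul {S : Finset (Finset GolayPt)} {τ : Equiv.Perm GolayPt} (hτ : τ ∈ M24) (σ : Equiv.Perm GolayPt) :
    σ ∈ sxA (τ • S) ↔ τ⁻¹ * σ * τ ∈ sxA S := by
  constructor
  · rintro ⟨h1, h2, h3⟩
    refine ⟨mul_mem (mul_mem (inv_mem hτ) h1) hτ, fun t ht => ?_, ?_⟩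
    · rw [mul_smul, mul_smul, h2 _ (Finset.smul_mem_smul_finset ht), inv_smul_smul]
    · rw [show τ⁻¹ * σ * τ * (τ⁻¹ * σ * τ) = τ⁻¹ * (σ * σ) * τ by group, h3, mul_one, inv_mul_cancel]
  · rintro ⟨h1, h2, h3⟩
    refine ⟨?_, fun t ht => ?_, ?_⟩
    · have := mul_mem (mul_mem hτ h1) (inv_mem hτ)
      rwa [show τ * (τ⁻¹ * σ * τ) * τ⁻¹ = σ by group] at this
    · obtain ⟨u, hu, rfl⟩ := Finset.mem_smul_finset.1 ht
      have := h2 u hu
      rwa [mul_smul, mul_smul, inv_smul_eq_iff] at this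
    · rw [show σ * σ = τ * (τ⁻¹ * σ * τ * (τ⁻¹ * σ * τ)) * τ⁻¹ by group, h3, mul_one, mul_inv_cancel]

/-- the elements fixing every tetrad of the base sextet -/
def sxKList : List (List ℕ) :=
  spanL sxNGens ++ (spanL sxNGens).map (fun n => lmul n sxThree) ++
    (spanL sxNGens).map (fun n => lmul n (lmul sxThree sxThree))

theorem sxK_facts : sxKList.all (fun l => m24ok l && confSx.all (fun m => pm l m 0 == m)) = true ∧
    sxKList.Nodup ∧ sxKList.length = 192 ∧
    sxKList.filter (fun l => lmul l l == List.range 24) = spanL sxNGens ∧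
    (spanL sxNGens).length = 64 ∧
    (spanL sxNGens).all (fun a => (spanL sxNGens).all fun b => (spanL sxNGens).elem (lmul a b)) = true := by
  decide +kernel

theorem confSx_eq : confOf confSx = confOf sxBase ∧ (∀ m ∈ confSx, m < 2 ^ 24) := by decide +kernel

theorem confSx_mem : confOf confSx ∈ sextets := confSx_eq.1 ▸ confOf_sxBase.1

theorem sxSwaps_ok : confSx.all (fun m => confSx.all fun n =>
    m == n || sxSwaps.any (fun l => m24ok l && confSx.all fun k =>
      pm l k 0 == (if k == m then n else if k == n then m else k))) = true := by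
  decide +kernel

theorem sx_swaps : HasSwaps (confOf confSx) := by
  intro a ha b hb
  obtain ⟨m, hm, rfl⟩ := mem_confOf.1 ha
  obtain ⟨n, hn, rfl⟩ := mem_confOf.1 hb
  rcases eq_or_ne m n with rfl | hmn
  · exact ⟨1, one_mem _, one_smul _ _, one_smul _ _, fun c _ _ _ => one_smul _ _⟩
  have h := List.all_eq_true.1 (List.all_eq_true.1 sxSwaps_ok m hm) n hn
  rw [Bool.or_eq_true, beq_iff_eq, or_iff_right hmn, List.any_eq_true] at h
  obtain ⟨l, -, hl⟩ := h
  rw [Bool.and_eq_true, List.all_eq_true] at hl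
  obtain ⟨hok, hl⟩ := hl
  have hlt := confSx_eq.2
  refine ⟨lperm l, lperm_mem hok, pm_maps (m24ok_lok hok) (hlt m hm) (hlt n hn) ?_,
    pm_maps (m24ok_lok hok) (hlt n hn) (hlt m hm) ?_, fun c hc hca hcb => ?_⟩
  · simpa using hl m hm
  · simpa [hmn.symm] using hl n hn
  · obtain ⟨k, hk, rfl⟩ := mem_confOf.1 hc
    refine pm_maps (m24ok_lok hok) (hlt k hk) (hlt k hk) ?_
    have h1 : k ≠ m := fun e => hca (by rw [e])
    have h2 : k ≠ n := fun e => hcb (by rw [e])
    simpa [h1, h2] using hl k hk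

theorem sx_fix_card {S : Finset (Finset GolayPt)} (hS : S ∈ sextets) (hsw : HasSwaps S) :
    Nat.card {g : ↥(MulAction.stabilizer M24 S) // ∀ t ∈ S, ((g : M24) : Equiv.Perm GolayPt) • t = t} = 192 := by
  have h1 : Nat.card (memberPerm S).ker * 720 = 138240 := by
    have h2 := Subgroup.card_eq_card_quotient_mul_card_subgroup (memberPerm S).ker
    rw [card_stab_sextet hS, Nat.card_congr
      (QuotientGroup.quotientKerEquivOfSurjective _ (memberPerm_surjective hsw)).toEquiv] at h2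
    rw [Nat.card_eq_fintype_card, Fintype.card_perm, Fintype.card_coe, hS.1] at h2
    rw [h2, mul_comm]
    rfl
  have e : (memberPerm S).ker ≃
      {g : ↥(MulAction.stabilizer M24 S) // ∀ t ∈ S, ((g : M24) : Equiv.Perm GolayPt) • t = t} :=
    Equiv.subtypeEquivRight fun g => by
      rw [MonoidHom.mem_ker]
      exact ⟨fun h t ht => congrArg Subtype.val (Equiv.congr_fun h ⟨t, ht⟩),
        fun h => Equiv.ext fun t => Subtype.ext (h t t.2)⟩
  rw [← Nat.card_congr e]
  omega

theorem sxK_mem {l : List ℕ} (hl : l ∈ sxKList) :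
    lperm l ∈ M24 ∧ (∀ t ∈ confOf confSx, lperm l • t = t) := by
  have h := List.all_eq_true.1 sxK_facts.1 l hl
  rw [Bool.and_eq_true, List.all_eq_true] at h
  refine ⟨lperm_mem h.1, fun t ht => ?_⟩
  obtain ⟨m, hm, rfl⟩ := mem_confOf.1 ht
  exact pm_maps (m24ok_lok h.1) (confSx_eq.2 m hm) (confSx_eq.2 m hm) (by simpa using h.2 m hm)

theorem sxK_lok {l : List ℕ} (hl : l ∈ sxKList) : lok l = true := by
  have h := List.all_eq_true.1 sxK_facts.1 l hl
  rw [Bool.and_eq_true] at h
  exact m24ok_lok h.1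

theorem sxK_complete {σ : Equiv.Perm GolayPt} (hσ : σ ∈ M24) (hfix : ∀ t ∈ confOf confSx, σ • t = t) :
    ∃ l ∈ sxKList, lperm l = σ := by
  classical
  by_contra hno
  push Not at hno
  have hst : ∀ {g : Equiv.Perm GolayPt} (hg : g ∈ M24), (∀ t ∈ confOf confSx, g • t = t) →
      (⟨g, hg⟩ : M24) ∈ MulAction.stabilizer M24 (confOf confSx) := by
    intro g hg h
    rw [MulAction.mem_stabilizer_iff]
    refine Finset.eq_of_subset_of_card_le ?_ (Finset.card_smul_finset g (confOf confSx)).ge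
    intro x hx
    obtain ⟨y, hy, rfl⟩ := Finset.mem_smul_finset.1 hx
    show g • y ∈ confOf confSx
    rw [h y hy]; exact hy
  let T := {g : ↥(MulAction.stabilizer M24 (confOf confSx)) //
    ∀ t ∈ confOf confSx, ((g : M24) : Equiv.Perm GolayPt) • t = t}
  let f : Option ↥sxKList.toFinset → T := fun o => o.elim ⟨⟨⟨σ, hσ⟩, hst hσ hfix⟩, hfix⟩
    fun l => ⟨⟨⟨lperm l.1, (sxK_mem (List.mem_toFinset.1 l.2)).1⟩,
      hst _ (sxK_mem (List.mem_toFinset.1 l.2)).2⟩, (sxK_mem (List.mem_toFinset.1 l.2)).2⟩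
  have hf : Function.Injective f := by
    rintro (_ | a) (_ | b) h
    · rfl
    · exact absurd (congrArg (fun x : T => ((x.1 : M24) : Equiv.Perm GolayPt)) h).symm
        (hno _ (List.mem_toFinset.1 b.2))
    · exact absurd (congrArg (fun x : T => ((x.1 : M24) : Equiv.Perm GolayPt)) h)
        (hno _ (List.mem_toFinset.1 a.2))
    · exact congrArg some (Subtype.ext (lperm_inj_on (sxK_lok (List.mem_toFinset.1 a.2))
        (sxK_lok (List.mem_toFinset.1 b.2)) (congrArg (fun x : T => ((x.1 : M24) : Equiv.Perm GolayPt)) h)))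
  have hc := Nat.card_le_card_of_injective f hf
  rw [sx_fix_card confSx_mem sx_swaps, Nat.card_eq_fintype_card, Fintype.card_option, Fintype.card_coe,
    List.toFinset_card_of_nodup sxK_facts.2.1, sxK_facts.2.2.1] at hc
  omega

theorem sxA_base : (∀ a ∈ sxA (confOf confSx), ∀ b ∈ sxA (confOf confSx), a * b ∈ sxA (confOf confSx)) ∧
    (sxA (confOf confSx)).ncard = 64 := by
  obtain ⟨-, hnd, -, hfil, hlen, hclosed⟩ := sxK_facts
  have hsq : ∀ l ∈ sxKList, (lperm l * lperm l = 1 ↔ lmul l l = List.range 24) := by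
    intro l hl
    have hr := (rep_lperm (sxK_lok hl)).mul (rep_lperm (sxK_lok hl))
    constructor
    · intro h
      rw [h] at hr
      refine List.ext_getElem (by simp [lmul]) fun i hi hi' => ?_
      rw [List.getElem_range, ← List.getD_eq_getElem _ 0 hi]
      have hi24 : i < 24 := by simpa using hi'
      rw [← idx_pt i hi24, hr (pt i)]
      rfl
    · intro h
      rw [h] at hr
      exact rep_unique hr (lperm_id ▸ rep_lperm lok_id)
  have hiff : ∀ σ, σ ∈ sxA (confOf confSx) ↔ ∃ l ∈ spanL sxNGens, lperm l = σ := by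
    intro σ
    constructor
    · rintro ⟨h1, h2, h3⟩
      obtain ⟨l, hl, rfl⟩ := sxK_complete h1 h2
      exact ⟨l, hfil ▸ List.mem_filter.2 ⟨hl, by rw [beq_iff_eq]; exact (hsq l hl).1 h3⟩, rfl⟩
    · rintro ⟨l, hl, rfl⟩
      rw [← hfil, List.mem_filter, beq_iff_eq] at hl
      exact ⟨(sxK_mem hl.1).1, (sxK_mem hl.1).2, (hsq l hl.1).2 hl.2⟩
  have hK : ∀ l ∈ spanL sxNGens, l ∈ sxKList := fun l hl => (List.mem_filter.1 (hfil ▸ hl)).1
  refine ⟨fun a ha b hb => ?_, ?_⟩
  · obtain ⟨la, hla, rfl⟩ := (hiff a).1 ha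
    obtain ⟨lb, hlb, rfl⟩ := (hiff b).1 hb
    have hm : lmul la lb ∈ spanL sxNGens :=
      List.elem_iff.1 (List.all_eq_true.1 (List.all_eq_true.1 hclosed la hla) lb hlb)
    rw [← lperm_lmul (sxK_lok (hK _ hla)) (sxK_lok (hK _ hlb)) (sxK_lok (hK _ hm))]
    exact (hiff _).2 ⟨_, hm, rfl⟩
  · classical
    have hset : sxA (confOf confSx) = ((spanL sxNGens).toFinset.image lperm : Finset _) := by
      ext σ
      rw [hiff, Finset.coe_image, Set.mem_image]
      simp only [SetLike.mem_coe, List.mem_toFinset]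
    rw [hset, Set.ncard_coe_finset, Finset.card_image_of_injOn, List.toFinset_card_of_nodup (hfil ▸ hnd.filter _),
      hlen]
    intro a ha b hb e
    exact lperm_inj_on (sxK_lok (hK a (List.mem_toFinset.1 ha))) (sxK_lok (hK b (List.mem_toFinset.1 hb))) e

theorem sextet_structure {S : Finset (Finset GolayPt)} (hS : S ∈ sextets) :
    HasSwaps S ∧
    ∃ N : Subgroup ↥(MulAction.stabilizer M24 S), N.Normal ∧ Nat.card N = 64 ∧ ∀ x ∈ N, x * x = 1 := by
  obtain ⟨σ, hσ, hmap⟩ := sextet_trans confSx_mem hS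
  subst hmap
  have hclosed : ∀ a ∈ sxA (σ • confOf confSx), ∀ b ∈ sxA (σ • confOf confSx),
      a * b ∈ sxA (σ • confOf confSx) := fun a ha b hb => by
    rw [sxA_smul hσ] at ha hb ⊢
    have := sxA_base.1 _ ha _ hb
    rwa [show σ⁻¹ * a * σ * (σ⁻¹ * b * σ) = σ⁻¹ * (a * b) * σ by group] at this
  let N : Subgroup ↥(MulAction.stabilizer M24 (σ • confOf confSx)) :=
    { carrier := {g | ((g : M24) : Equiv.Perm GolayPt) ∈ sxA (σ • confOf confSx)}
      one_mem' := ⟨one_mem _, fun t _ => one_smul _ t, one_mul _⟩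
      mul_mem' := fun {a b} ha hb => hclosed _ ha _ hb
      inv_mem' := fun {a} ha => by
        show ((a : M24) : Equiv.Perm GolayPt)⁻¹ ∈ sxA (σ • confOf confSx)
        rw [inv_eq_of_mul_eq_one_right ha.2.2]
        exact ha }
  refine ⟨sx_swaps.smul hσ, N, ⟨fun x hx g => ?_⟩, ?_, fun x hx => Subtype.ext (Subtype.ext hx.2.2)⟩
  · have hg : ((g : M24) : Equiv.Perm GolayPt) • (σ • confOf confSx) = σ • confOf confSx := g.2
    show ((g : M24) : Equiv.Perm GolayPt) * ((x : M24) : Equiv.Perm GolayPt) *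
      ((g : M24) : Equiv.Perm GolayPt)⁻¹ ∈ sxA (σ • confOf confSx)
    have key := (sxA_smul (S := σ • confOf confSx) g.1.2
      (((g : M24) : Equiv.Perm GolayPt) * ((x : M24) : Equiv.Perm GolayPt) *
        ((g : M24) : Equiv.Perm GolayPt)⁻¹)).2
    rw [hg] at key
    refine key ?_
    rw [show ((g : M24) : Equiv.Perm GolayPt)⁻¹ * (((g : M24) : Equiv.Perm GolayPt) *
      ((x : M24) : Equiv.Perm GolayPt) * ((g : M24) : Equiv.Perm GolayPt)⁻¹) *
      ((g : M24) : Equiv.Perm GolayPt) = ((x : M24) : Equiv.Perm GolayPt) by group]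
    exact hx
  · have hst : ∀ τ ∈ sxA (σ • confOf confSx), ∃ h : τ ∈ M24,
        (⟨τ, h⟩ : M24) ∈ MulAction.stabilizer M24 (σ • confOf confSx) := by
      rintro τ ⟨h1, h2, -⟩
      refine ⟨h1, ?_⟩
      rw [MulAction.mem_stabilizer_iff]
      refine Finset.eq_of_subset_of_card_le ?_ (Finset.card_smul_finset τ _).ge
      intro x hx
      obtain ⟨y, hy, rfl⟩ := Finset.mem_smul_finset.1 hx
      show τ • y ∈ σ • confOf confSx
      rw [h2 y hy]; exact hy
    let e : N ≃ sxA (σ • confOf confSx) :=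
      { toFun := fun g => ⟨_, g.2⟩
        invFun := fun τ => ⟨⟨⟨τ.1, (hst τ.1 τ.2).1⟩, (hst τ.1 τ.2).2⟩, τ.2⟩
        left_inv := fun g => rfl
        right_inv := fun τ => rfl }
    rw [Nat.card_congr e, Nat.card_coe_set_eq]
    have himg : sxA (σ • confOf confSx) = (fun x => σ * x * σ⁻¹) '' sxA (confOf confSx) := by
      ext τ
      rw [sxA_smul hσ]
      constructor
      · exact fun h => ⟨_, h, by group⟩
      · rintro ⟨x, hx, rfl⟩
        rwa [show σ⁻¹ * (σ * x * σ⁻¹) * σ = x by group]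
    rw [himg, Set.ncard_image_of_injective _ (fun a b e => mul_left_cancel (mul_right_cancel e)), sxA_base.2]

end sextet

section trio

abbrev V3 := Fin 3 → ZMod 2

/-- the `i`-th octad mask of the base trio -/
def trO (i : Fin 3) : ℕ := confTr.getD i.val 0

/-- the masks of the sextet labelled by a vector -/
def trSx (v : V3) : List ℕ := trSxList.getD ((v 0).val + 2 * (v 1).val + 4 * (v 2).val) []

/-- an element with prescribed action on the octads and the sextets -/
def RelL (l : List ℕ) (M : Matrix (Fin 3) (Fin 3) (ZMod 2)) (π : Equiv.Perm (Fin 3)) : Bool :=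
  m24ok l && decide (∀ i, pm l (trO i) 0 = trO (π i)) &&
    decide (∀ v : V3, (trSx v).all (fun m => (trSx (M.mulVec v)).elem (pm l m 0)) = true ∧
      (trSx (M.mulVec v)).all (fun n => (trSx v).any fun m => pm l m 0 == n) = true)

/-- the action of a permutation on the octads and sextets of the base trio -/
def Rel (σ : Equiv.Perm GolayPt) (M : GL (Fin 3) (ZMod 2)) (π : Equiv.Perm (Fin 3)) : Prop :=
  σ ∈ M24 ∧ (∀ i, σ • ofMask (trO i) = ofMask (trO (π i))) ∧
    ∀ v : V3, σ • confOf (trSx v) = confOf (trSx ((M : Matrix (Fin 3) (Fin 3) (ZMod 2)).mulVec v))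

theorem tr_lt : (∀ i, trO i < 2 ^ 24) ∧ (∀ v : V3, ∀ m ∈ trSx v, m < 2 ^ 24) ∧
    (∀ i j, ofMask (trO i) = ofMask (trO j) → i = j) := by decide +kernel

theorem confTr_eq : confOf confTr = Finset.univ.image (fun i => ofMask (trO i)) := by decide +kernel

theorem trSx_inj : ∀ v w : V3, confOf (trSx v) = confOf (trSx w) → v = w := by decide +kernel

theorem rel_of_list {l : List ℕ} {M : GL (Fin 3) (ZMod 2)} {π : Equiv.Perm (Fin 3)}
    (h : RelL l (M : Matrix (Fin 3) (Fin 3) (ZMod 2)) π = true) : Rel (lperm l) M π := by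
  simp only [RelL, Bool.and_eq_true, decide_eq_true_eq] at h
  obtain ⟨⟨hok, hO⟩, hV⟩ := h
  refine ⟨lperm_mem hok, fun i => pm_maps (m24ok_lok hok) (tr_lt.1 _) (tr_lt.1 _) (hO i), fun v => ?_⟩
  obtain ⟨h1, h2⟩ := hV v
  rw [List.all_eq_true] at h1 h2
  ext x
  rw [Finset.mem_smul_finset]
  constructor
  · rintro ⟨y, hy, rfl⟩
    obtain ⟨m, hm, rfl⟩ := mem_confOf.1 hy
    have hn := List.elem_iff.1 (h1 m hm)
    exact mem_confOf.2 ⟨_, hn, (pm_maps (m24ok_lok hok) (tr_lt.2.1 v m hm) (tr_lt.2.1 _ _ hn) rfl).symm⟩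
  · intro hx
    obtain ⟨n, hn, rfl⟩ := mem_confOf.1 hx
    have := h2 n hn
    rw [List.any_eq_true] at this
    obtain ⟨m, hm, e⟩ := this
    exact ⟨_, mem_confOf.2 ⟨m, hm, rfl⟩,
      pm_maps (m24ok_lok hok) (tr_lt.2.1 v m hm) (tr_lt.2.1 _ n hn) (beq_iff_eq.1 e)⟩

/-- triples of a permutation with its actions -/
def trGamma : Subgroup (Equiv.Perm GolayPt × (GL (Fin 3) (ZMod 2) × Equiv.Perm (Fin 3))) where
  carrier := {x | Rel x.1 x.2.1 x.2.2}
  one_mem' := ⟨one_mem _, fun i => one_smul _ _, fun v => by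
    simp only [Prod.fst_one, Prod.snd_one, one_smul, Units.val_one, Matrix.one_mulVec]⟩
  mul_mem' := fun {x y} hx hy => ⟨mul_mem hx.1 hy.1,
    fun i => by
      show (x.1 * y.1) • _ = _
      rw [mul_smul, hy.2.1, hx.2.1]; rfl,
    fun v => by
      show (x.1 * y.1) • _ = _
      rw [mul_smul, hy.2.2, hx.2.2, Matrix.mulVec_mulVec]; rfl⟩
  inv_mem' := fun {x} hx => ⟨inv_mem hx.1,
    fun i => by
      show x.1⁻¹ • _ = _
      rw [inv_smul_eq_iff, hx.2.1]; simp,
    fun v => by
      show x.1⁻¹ • _ = _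
      rw [inv_smul_eq_iff, hx.2.2, Matrix.mulVec_mulVec]
      simp⟩

theorem trGamma_fst {x y : Equiv.Perm GolayPt × (GL (Fin 3) (ZMod 2) × Equiv.Perm (Fin 3))}
    (hx : x ∈ trGamma) (hy : y ∈ trGamma) (h : x.1 = y.1) : x = y := by
  refine Prod.ext h (Prod.ext (Units.ext (Matrix.ext_of_mulVec_single fun i => trSx_inj _ _ ?_))
    (Equiv.ext fun i => tr_lt.2.2 _ _ ?_))
  · rw [← hx.2.2, ← hy.2.2, h]
  · rw [← hx.2.1, ← hy.2.1, h]

theorem tr_certs : (∀ i j : Fin 3, i ≠ j →
      RelL (trTransList.getD (3 * i.val + j.val) []) (Matrix.transvection i j 1) 1 = true) ∧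
    (∀ i j : Fin 3, RelL (trSwapList.getD (3 * i.val + j.val) []) 1 (Equiv.swap i j) = true) ∧
    (spanL trNGens).all (fun l => RelL l 1 1 && lmul l l == List.range 24) = true ∧
    (spanL trNGens).Nodup ∧ (spanL trNGens).length = 64 := by decide +kernel

theorem tr_surj (M : GL (Fin 3) (ZMod 2)) (π : Equiv.Perm (Fin 3)) : ∃ σ, (σ, (M, π)) ∈ trGamma := by
  have hM : ∀ M : GL (Fin 3) (ZMod 2), ∃ σ, (σ, (M, (1 : Equiv.Perm (Fin 3)))) ∈ trGamma := by
    suffices h : ∀ A : Matrix (Fin 3) (Fin 3) (ZMod 2), A.det ≠ 0 →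
        ∃ M : GL (Fin 3) (ZMod 2), (M : Matrix (Fin 3) (Fin 3) (ZMod 2)) = A ∧
          ∃ σ, (σ, (M, (1 : Equiv.Perm (Fin 3)))) ∈ trGamma by
      intro M
      obtain ⟨M', e, hσ⟩ := h (M : Matrix (Fin 3) (Fin 3) (ZMod 2))
        ((Matrix.isUnit_iff_isUnit_det _).1 M.isUnit).ne_zero
      rwa [← (Units.ext e : M' = M)]
    intro A hA
    refine Matrix.diagonal_transvection_induction_of_det_ne_zero
      (fun A => ∃ M : GL (Fin 3) (ZMod 2), (M : Matrix (Fin 3) (Fin 3) (ZMod 2)) = A ∧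
        ∃ σ, (σ, (M, (1 : Equiv.Perm (Fin 3)))) ∈ trGamma) A hA ?_ ?_ ?_
    · intro D hD
      refine ⟨1, ?_, 1, one_mem _⟩
      rw [Units.val_one, ← Matrix.diagonal_one]
      congr 1
      funext i
      have hne : D i ≠ 0 := fun e => hD (by
        rw [Matrix.det_diagonal]; exact Finset.prod_eq_zero (Finset.mem_univ i) e)
      exact ((show ∀ a : ZMod 2, a ≠ 0 → a = 1 by decide) _ hne).symm
    · rintro ⟨i, j, hij, c⟩
      rcases (show ∀ a : ZMod 2, a = 0 ∨ a = 1 by decide) c with rfl | rfl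
      · exact ⟨1, by simp [Matrix.TransvectionStruct.toMatrix, Matrix.transvection], 1, one_mem _⟩
      · refine ⟨⟨Matrix.transvection i j 1, Matrix.transvection i j 1, ?_, ?_⟩, rfl,
          lperm (trTransList.getD (3 * i.val + j.val) []), rel_of_list ?_⟩
        · rw [Matrix.transvection_mul_transvection_same _ _ hij, CharTwo.add_self_eq_zero,
            Matrix.transvection_zero]
        · rw [Matrix.transvection_mul_transvection_same _ _ hij, CharTwo.add_self_eq_zero,
            Matrix.transvection_zero]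
        · exact tr_certs.1 i j hij
    · rintro A B - - ⟨M, rfl, σ, hσ⟩ ⟨M', rfl, σ', hσ'⟩
      exact ⟨M * M', Units.val_mul _ _, σ * σ', mul_mem hσ hσ'⟩
  have hπ : ∀ π : Equiv.Perm (Fin 3), ∃ σ, (σ, ((1 : GL (Fin 3) (ZMod 2)), π)) ∈ trGamma := by
    intro π
    induction π using Equiv.Perm.swap_induction_on with
    | one => exact ⟨1, one_mem _⟩
    | swap_mul π a b _ ih =>
      obtain ⟨σ, hσ⟩ := ih
      refine ⟨lperm (trSwapList.getD (3 * a.val + b.val) []) * σ, ?_⟩
      have h1 : (lperm (trSwapList.getD (3 * a.val + b.val) []),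
          ((1 : GL (Fin 3) (ZMod 2)), Equiv.swap a b)) ∈ trGamma := rel_of_list (tr_certs.2.1 a b)
      simpa using mul_mem h1 hσ
  obtain ⟨σ, hσ⟩ := hM M
  obtain ⟨τ, hτ⟩ := hπ π
  exact ⟨σ * τ, by simpa using mul_mem hσ hτ⟩

theorem confTr_mem : confOf confTr ∈ trios := trioOk_sound (by decide +kernel)

theorem card_stab_trio {T : Finset (Finset GolayPt)} (hT : T ∈ trios) :
    Nat.card (MulAction.stabilizer M24 T) = 64512 := by
  have horb : MulAction.orbit M24 T = trios := by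
    ext T'
    constructor
    · rintro ⟨⟨σ, hσ⟩, rfl⟩; exact smul_trio hσ hT
    · intro hT'
      obtain ⟨σ, hσ, rfl⟩ := exists_base_trio hT
      obtain ⟨τ, hτ, rfl⟩ := exists_base_trio hT'
      exact ⟨⟨τ * σ⁻¹, mul_mem hτ (inv_mem hσ)⟩, show (τ * σ⁻¹) • σ • confOf confTr = _ by
        rw [mul_smul, inv_smul_smul]⟩
  have h := Subgroup.card_mul_index (MulAction.stabilizer M24 T)
  rw [MulAction.index_stabilizer, horb, ncard_trios, card_M24] at h
  omega

/-- the forgetful map into the stabiliser -/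
def trProj : ↥trGamma →* ↥(MulAction.stabilizer M24 (confOf confTr)) where
  toFun x := ⟨⟨x.1.1, x.2.1⟩, by
    rw [MulAction.mem_stabilizer_iff]
    refine Finset.eq_of_subset_of_card_le ?_ (Finset.card_smul_finset x.1.1 _).ge
    intro y hy
    obtain ⟨z, hz, rfl⟩ := Finset.mem_smul_finset.1 hy
    rw [confTr_eq, Finset.mem_image] at hz ⊢
    obtain ⟨i, -, rfl⟩ := hz
    exact ⟨x.1.2.2 i, Finset.mem_univ _, (x.2.2.1 i).symm⟩⟩
  map_one' := rfl
  map_mul' _ _ := rfl

theorem trio_base : ∃ f : ↥(MulAction.stabilizer M24 (confOf confTr)) →* GL (Fin 3) (ZMod 2) × Equiv.Perm (Fin 3),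
    Function.Surjective f ∧ Nat.card f.ker = 64 ∧ ∀ x ∈ f.ker, x * x = 1 := by
  classical
  let sndH : ↥trGamma →* GL (Fin 3) (ZMod 2) × Equiv.Perm (Fin 3) := (MonoidHom.snd _ _).comp trGamma.subtype
  have hsurj : Function.Surjective sndH := fun p => by
    obtain ⟨σ, hσ⟩ := tr_surj p.1 p.2
    exact ⟨⟨_, hσ⟩, rfl⟩
  have hinj : Function.Injective trProj := fun x y h => Subtype.ext (trGamma_fst x.2 y.2
    (congrArg (fun g : ↥(MulAction.stabilizer M24 (confOf confTr)) => ((g : M24) : Equiv.Perm GolayPt)) h))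
  haveI : Finite ↥trGamma := Finite.of_injective trProj hinj
  obtain ⟨-, -, hN, hnd, hlen⟩ := tr_certs
  have hNrel : ∀ l ∈ spanL trNGens, Rel (lperm l) 1 1 ∧ lok l = true ∧ lperm l * lperm l = 1 := by
    intro l hl
    have h := List.all_eq_true.1 hN l hl
    rw [Bool.and_eq_true, beq_iff_eq] at h
    have hok : lok l = true := by
      have := h.1
      simp only [RelL, Bool.and_eq_true] at this
      exact m24ok_lok this.1.1
    refine ⟨rel_of_list h.1, hok, ?_⟩
    have hr := (rep_lperm hok).mul (rep_lperm hok)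
    rw [h.2] at hr
    exact rep_unique hr (lperm_id ▸ rep_lperm lok_id)
  let j : ↥(spanL trNGens).toFinset → ↥sndH.ker := fun l =>
    ⟨⟨(lperm l.1, (1, 1)), (hNrel l.1 (List.mem_toFinset.1 l.2)).1⟩, rfl⟩
  have hj : Function.Injective j := fun a b h => Subtype.ext (lperm_inj_on
    (hNrel a.1 (List.mem_toFinset.1 a.2)).2.1 (hNrel b.1 (List.mem_toFinset.1 b.2)).2.1
    (congrArg (fun x : ↥sndH.ker => (x : ↥trGamma).1.1) h))
  have hker : 64 ≤ Nat.card sndH.ker := by
    have := Nat.card_le_card_of_injective j hj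
    rwa [Nat.card_eq_fintype_card, Fintype.card_coe, List.toFinset_card_of_nodup hnd, hlen] at this
  have hGL : Nat.card (GL (Fin 3) (ZMod 2)) = 168 := by
    rw [Matrix.card_GL_field, ZMod.card, Fin.prod_univ_three]; rfl
  have hcard := Subgroup.card_eq_card_quotient_mul_card_subgroup sndH.ker
  rw [Nat.card_congr (QuotientGroup.quotientKerEquivOfSurjective _ hsurj).toEquiv, Nat.card_prod, hGL,
    Nat.card_perm, Nat.card_fin] at hcard
  have hle := Nat.card_le_card_of_injective trProj hinj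
  rw [card_stab_trio confTr_mem] at hle
  rw [show Nat.factorial 3 = 6 from rfl] at hcard
  have h64 : Nat.card sndH.ker = 64 := by omega
  have hbij : Function.Bijective trProj :=
    (Nat.bijective_iff_injective_and_card trProj).2 ⟨hinj, by rw [card_stab_trio confTr_mem]; omega⟩
  let e := MulEquiv.ofBijective trProj hbij
  refine ⟨sndH.comp e.symm.toMonoidHom, hsurj.comp e.symm.surjective, ?_, fun x hx => ?_⟩
  · rw [← h64]
    exact Nat.card_congr (e.symm.toEquiv.subtypeEquiv fun x => Iff.rfl)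
  · have hjbij : Function.Bijective j := (Nat.bijective_iff_injective_and_card j).2 ⟨hj, by
      rw [h64, Nat.card_eq_fintype_card, Fintype.card_coe, List.toFinset_card_of_nodup hnd, hlen]⟩
    obtain ⟨l, hl⟩ := hjbij.2 ⟨e.symm x, hx⟩
    have hsq := (hNrel l.1 (List.mem_toFinset.1 l.2)).2.2
    have h1 : e.symm x * e.symm x = 1 := by
      have := congrArg (fun y : ↥sndH.ker => (y : ↥trGamma)) hl
      simp only at this
      rw [← this]
      exact Subtype.ext (Prod.ext hsq (Prod.ext (one_mul _) (one_mul _)))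
    exact e.symm.injective (by rw [map_mul, h1, map_one])

theorem tr_swaps : HasSwaps (confOf confTr) := by
  intro a ha b hb
  rw [confTr_eq, Finset.mem_image] at ha hb
  obtain ⟨i, -, rfl⟩ := ha
  obtain ⟨j, -, rfl⟩ := hb
  have h : Rel (lperm (trSwapList.getD (3 * i.val + j.val) [])) 1 (Equiv.swap i j) :=
    rel_of_list (tr_certs.2.1 i j)
  refine ⟨_, h.1, by rw [h.2.1, Equiv.swap_apply_left], by rw [h.2.1, Equiv.swap_apply_right],
    fun c hc hci hcj => ?_⟩
  rw [confTr_eq, Finset.mem_image] at hc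
  obtain ⟨k, -, rfl⟩ := hc
  rw [h.2.1, Equiv.swap_apply_of_ne_of_ne (fun e => hci (by rw [e])) (fun e => hcj (by rw [e]))]

theorem stab_transport {T₁ T₂ : Finset (Finset GolayPt)} {g : M24} (hg : T₂ = g • T₁)
    {Q : Type*} [Group Q] (f : ↥(MulAction.stabilizer M24 T₁) →* Q) (hf : Function.Surjective f) (n : ℕ)
    (hcard : Nat.card f.ker = n) (hsq : ∀ x ∈ f.ker, x * x = 1) :
    ∃ (N : Subgroup ↥(MulAction.stabilizer M24 T₂)) (_ : N.Normal), Nat.card N = n ∧
      (∀ x ∈ N, x * x = 1) ∧ Nonempty (↥(MulAction.stabilizer M24 T₂) ⧸ N ≃* Q) := by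
  let e : ↥(MulAction.stabilizer M24 T₁) ≃* ↥(MulAction.stabilizer M24 T₂) :=
    MulAction.stabilizerEquivStabilizer hg
  refine ⟨(f.comp e.symm.toMonoidHom).ker, inferInstance, ?_, fun x hx => ?_,
    ⟨QuotientGroup.quotientKerEquivOfSurjective _ (hf.comp e.symm.surjective)⟩⟩
  · rw [← hcard]
    exact Nat.card_congr (e.symm.toEquiv.subtypeEquiv fun x => Iff.rfl)
  · have h := hsq (e.symm x) hx
    exact e.symm.injective (by rw [map_mul, h, map_one])

theorem trio_structure {T : Finset (Finset GolayPt)} (hT : T ∈ trios) :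
    HasSwaps T ∧ ∃ (N : Subgroup ↥(MulAction.stabilizer M24 T)) (_ : N.Normal), Nat.card N = 64 ∧
      (∀ x ∈ N, x * x = 1) ∧
      Nonempty (↥(MulAction.stabilizer M24 T) ⧸ N ≃* GL (Fin 3) (ZMod 2) × Equiv.Perm (Fin 3)) := by
  obtain ⟨σ, hσ, hmap⟩ := exists_base_trio hT
  subst hmap
  obtain ⟨f, hf, hcard, hsq⟩ := trio_base
  exact ⟨tr_swaps.smul hσ,
    stab_transport (T₁ := confOf confTr) (g := (⟨σ, hσ⟩ : M24)) rfl f hf 64 hcard hsq⟩

end trio

end Cfsg.Agent.Spor
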