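import Cfsg.Agent.Lib.Spor.GolaySevenData
import Cfsg.Agent.Lib.Spor.GolayLocal
import Cfsg.Agent.Lib.Spor.GolayElemFacts

/-!
The normaliser and the centraliser of a subgroup of order seven.
-/

set_option autoImplicit false
set_option maxRecDepth 100000

namespace Cfsg.Agent.Spor

open scoped Pointwise

theorem trRel_complete :
    (∀ g : M24, (g : Equiv.Perm GolayPt) • confOf confTr = confOf confTr →
      ∃ M π, Rel (g : Equiv.Perm GolayPt) M π) ∧
    ∀ σ, Rel σ 1 1 → ∃ l ∈ spanL trNGens, lperm l = σ := by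
  classical
  let sndH : ↥trGamma →* GL (Fin 3) (ZMod 2) × Equiv.Perm (Fin 3) := (MonoidHom.snd _ _).comp trGamma.subtype
  have hsurj : Function.Surjective sndH := fun p => by
    obtain ⟨σ, hσ⟩ := tr_surj p.1 p.2
    exact ⟨⟨_, hσ⟩, rfl⟩
  have hinj : Function.Injective trProj := fun x y h => Subtype.ext (trGamma_fst x.2 y.2
    (congrArg (fun g : ↥(MulAction.stabilizer M24 (confOf confTr)) => ((g : M24) : Equiv.Perm GolayPt)) h))
  haveI : Finite ↥trGamma := Finite.of_injective trProj hinj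
  obtain ⟨-, -, hN, hnd, hlen⟩ := tr_certs
  have hNrel : ∀ l ∈ spanL trNGens, Rel (lperm l) 1 1 ∧ lok l = true := by
    intro l hl
    have h := List.all_eq_true.1 hN l hl
    rw [Bool.and_eq_true] at h
    refine ⟨rel_of_list h.1, ?_⟩
    have := h.1
    simp only [RelL, Bool.and_eq_true] at this
    exact m24ok_lok this.1.1
  let j : ↥(spanL trNGens).toFinset → ↥sndH.ker := fun l =>
    ⟨⟨(lperm l.1, (1, 1)), (hNrel l.1 (List.mem_toFinset.1 l.2)).1⟩, rfl⟩
  have hj : Function.Injective j := fun a b h => Subtype.ext (lperm_inj_on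
    (hNrel a.1 (List.mem_toFinset.1 a.2)).2 (hNrel b.1 (List.mem_toFinset.1 b.2)).2
    (congrArg (fun x : ↥sndH.ker => (x : ↥trGamma).1.1) h))
  have hl64 : Nat.card ↥(spanL trNGens).toFinset = 64 := by
    rw [Nat.card_eq_fintype_card, Fintype.card_coe, List.toFinset_card_of_nodup hnd, hlen]
  have hker : 64 ≤ Nat.card sndH.ker := hl64 ▸ Nat.card_le_card_of_injective j hj
  have hGL : Nat.card (GL (Fin 3) (ZMod 2)) = 168 := by
    rw [Matrix.card_GL_field, ZMod.card, Fin.prod_univ_three]; rfl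
  have hcard := Subgroup.card_eq_card_quotient_mul_card_subgroup sndH.ker
  rw [Nat.card_congr (QuotientGroup.quotientKerEquivOfSurjective _ hsurj).toEquiv, Nat.card_prod, hGL,
    Nat.card_perm, Nat.card_fin, show Nat.factorial 3 = 6 from rfl] at hcard
  have hle := Nat.card_le_card_of_injective trProj hinj
  rw [card_stab_trio confTr_mem] at hle
  have hbij : Function.Bijective trProj :=
    (Nat.bijective_iff_injective_and_card trProj).2 ⟨hinj, by rw [card_stab_trio confTr_mem]; omega⟩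
  have hjbij : Function.Bijective j :=
    (Nat.bijective_iff_injective_and_card j).2 ⟨hj, by rw [hl64]; omega⟩
  refine ⟨fun g hg => ?_, fun σ hσ => ?_⟩
  · obtain ⟨y, hy⟩ := hbij.2 ⟨g, MulAction.mem_stabilizer_iff.2 hg⟩
    refine ⟨y.1.2.1, y.1.2.2, ?_⟩
    have e : y.1.1 = (g : Equiv.Perm GolayPt) :=
      congrArg (fun z : ↥(MulAction.stabilizer M24 (confOf confTr)) => ((z : M24) : Equiv.Perm GolayPt)) hy
    exact e ▸ y.2
  · obtain ⟨l, hl⟩ := hjbij.2 ⟨⟨(σ, (1, 1)), hσ⟩, rfl⟩
    exact ⟨l.1, List.mem_toFinset.1 l.2, congrArg (fun x : ↥sndH.ker => (x : ↥trGamma).1.1) hl⟩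

/-- powers of the chosen element -/
def xpw : ℕ → List ℕ
  | 0 => List.range 24
  | i + 1 => lmul sevenX (xpw i)

/-- the matrix induced by the chosen element -/
def sevenM : Matrix (Fin 3) (Fin 3) (ZMod 2) := !![0, 0, 1; 1, 0, 1; 0, 1, 0]

theorem seven_facts : m24ok sevenX = true ∧ ((List.range 8).all fun i => lok (xpw i)) = true ∧
    xpw 7 = List.range 24 ∧ ((List.range 7).map xpw).Nodup ∧
    RelL sevenX sevenM 1 = true ∧ (sevenM ^ 7 : Matrix (Fin 3) (Fin 3) (ZMod 2)) = 1 ∧
    (spanL trNGens).all (fun l => l == List.range 24 || !(lmul l sevenX == lmul sevenX l)) = true := by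
  decide +kernel

theorem seven_norm_facts : sevenNorm.all (fun l => m24ok l &&
      (List.range 7).any fun i => lmul l sevenX == lmul (xpw i) l) = true ∧
    sevenNorm.Nodup ∧ sevenNorm.length = 126 ∧
    (sevenNorm.filter fun l => lmul l sevenX == lmul sevenX l).length = 42 ∧
    (sevenNorm.filter fun l => lmul l sevenX == lmul sevenX l).any (fun a =>
      (sevenNorm.filter fun l => lmul l sevenX == lmul sevenX l).any fun b =>
        lok (lmul a b) && lok (lmul b a) && !(lmul a b == lmul b a)) = true := by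
  decide +kernel

theorem seven_trios : (trioDec.filter (trioFixed sevenX)).length = 1 := by decide +kernel

set_option synthInstance.maxSize 512 in
theorem seven_quot :
    ((Finset.univ : Finset (Matrix (Fin 3) (Fin 3) (ZMod 2))).filter fun A => A.det ≠ 0 ∧
      ∃ i : Fin 7, A * sevenM = sevenM ^ (i : ℕ) * A).card ≤ 21 ∧
    ((Finset.univ : Finset (Matrix (Fin 3) (Fin 3) (ZMod 2))).filter fun A => A.det ≠ 0 ∧
      A * sevenM = sevenM * A).card ≤ 7 ∧
    ∀ i : Fin 7, ∀ j : Fin 7, sevenM ^ (i : ℕ) = sevenM ^ (j : ℕ) → i = j := by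
  decide +kernel

/-- the matrix as a unit -/
def sevenU : GL (Fin 3) (ZMod 2) :=
  ⟨sevenM, sevenM ^ 6, by rw [← pow_succ']; exact seven_facts.2.2.2.2.2.1,
    by rw [← pow_succ]; exact seven_facts.2.2.2.2.2.1⟩

/-- the element of order seven -/
noncomputable def sevenG : M24 := ⟨lperm sevenX, lperm_mem seven_facts.1⟩

theorem sevenG_pow : ∀ i : ℕ, i ≤ 7 → ((sevenG ^ i : M24) : Equiv.Perm GolayPt) = lperm (xpw i)
  | 0, _ => lperm_id.symm
  | i + 1, h => by
    have hk : ∀ k, k ≤ 7 → lok (xpw k) = true := fun k hk =>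
      List.all_eq_true.1 seven_facts.2.1 k (List.mem_range.2 (by omega))
    rw [pow_succ', Subgroup.coe_mul, sevenG_pow i (by omega)]
    exact (lperm_lmul (m24ok_lok seven_facts.1) (hk i (by omega)) (hk (i + 1) h)).symm

theorem orderOf_sevenG : orderOf sevenG = 7 := by
  haveI : Fact (Nat.Prime 7) := ⟨by norm_num⟩
  refine orderOf_eq_prime (Subtype.ext ?_) fun e => ?_
  · rw [sevenG_pow 7 le_rfl, seven_facts.2.2.1, lperm_id]; rfl
  · have h0 : xpw 1 = xpw 0 := lperm_inj_on (List.all_eq_true.1 seven_facts.2.1 1 (by simp))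
      (List.all_eq_true.1 seven_facts.2.1 0 (by simp)) (by
        rw [← sevenG_pow 1 (by omega), ← sevenG_pow 0 (by omega), pow_one, pow_zero, e])
    exact absurd h0 (by decide +kernel)

theorem rel_sevenG (i : ℕ) : Rel ((sevenG ^ i : M24) : Equiv.Perm GolayPt) (sevenU ^ i) 1 := by
  have h : ((sevenG : Equiv.Perm GolayPt), (sevenU, (1 : Equiv.Perm (Fin 3)))) ∈ trGamma :=
    rel_of_list (M := sevenU) seven_facts.2.2.2.2.1
  have := pow_mem h i
  rw [Prod.pow_mk, Prod.pow_mk, one_pow] at this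
  rw [SubmonoidClass.coe_pow]
  exact this

theorem sevenG_fixes : (sevenG : Equiv.Perm GolayPt) • confOf confTr = confOf confTr := by
  refine Finset.eq_of_subset_of_card_le ?_ (Finset.card_smul_finset _ _).ge
  intro y hy
  obtain ⟨z, hz, rfl⟩ := Finset.mem_smul_finset.1 hy
  rw [confTr_eq, Finset.mem_image] at hz ⊢
  obtain ⟨i, -, rfl⟩ := hz
  have h := (rel_sevenG 1).2.1 i
  rw [pow_one] at h
  exact ⟨i, Finset.mem_univ _, h.symm⟩

theorem mem_normalizer_sevenG {g : M24} :
    g ∈ Subgroup.normalizer ((Subgroup.zpowers sevenG : Subgroup M24) : Set M24) ↔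
      ∃ i : Fin 7, g * sevenG = sevenG ^ (i : ℕ) * g := by
  classical
  have hpow : ∀ y : M24, y ∈ Subgroup.zpowers sevenG ↔ ∃ i : Fin 7, sevenG ^ (i : ℕ) = y := by
    intro y
    rw [(isOfFinOrder_of_finite sevenG).mem_zpowers_iff_mem_range_orderOf, orderOf_sevenG, Finset.mem_image]
    constructor
    · rintro ⟨i, hi, e⟩; exact ⟨⟨i, Finset.mem_range.1 hi⟩, e⟩
    · rintro ⟨i, e⟩; exact ⟨i, Finset.mem_range.2 i.2, e⟩
  constructor
  · intro hg
    obtain ⟨i, e⟩ := (hpow _).1 ((Subgroup.mem_normalizer_iff.1 hg sevenG).1 (Subgroup.mem_zpowers _))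
    exact ⟨i, by rw [e]; group⟩
  · rintro ⟨i, e⟩
    have hc : g * sevenG * g⁻¹ = sevenG ^ (i : ℕ) := by rw [e]; group
    refine Subgroup.mem_normalizer_iff_map_conj_eq.2 ?_
    refine Subgroup.eq_of_le_of_card_ge ?_ ?_
    · rintro _ ⟨y, hy, rfl⟩
      obtain ⟨j, rfl⟩ := (hpow y).1 hy
      show g * sevenG ^ (j : ℕ) * g⁻¹ ∈ Subgroup.zpowers sevenG
      rw [← conj_pow, hc, ← pow_mul]
      exact Subgroup.npow_mem_zpowers _ _
    · rw [Subgroup.card_map_of_injective (MulAut.conj g).injective]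

theorem mem_centralizer_sevenG {g : M24} :
    g ∈ Subgroup.centralizer ((Subgroup.zpowers sevenG : Subgroup M24) : Set M24) ↔
      g * sevenG = sevenG * g := by
  rw [Subgroup.mem_centralizer_iff]
  refine ⟨fun h => (h _ (Subgroup.mem_zpowers _)).symm, fun h y hy => ?_⟩
  obtain ⟨k, rfl⟩ := Subgroup.mem_zpowers_iff.1 hy
  exact ((show Commute g sevenG from h).zpow_right k).eq.symm

theorem normalizer_fixes_trio {g : M24} {i : ℕ} (h : g * sevenG = sevenG ^ i * g) (hi : i < 7) :
    (g : Equiv.Perm GolayPt) • confOf confTr = confOf confTr := by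
  have hu : {T | T ∈ trios ∧ lperm sevenX • T = T}.ncard = 1 :=
    (ncard_fixed_trios (m24ok_lok seven_facts.1)).trans seven_trios
  obtain ⟨T₀, hT₀⟩ := Set.ncard_eq_one.1 hu
  have huniq : ∀ T, T ∈ trios → lperm sevenX • T = T → T = T₀ := fun T h1 h2 => by
    have : T ∈ ({T₀} : Set _) := hT₀ ▸ ⟨h1, h2⟩
    exact this
  have hb := huniq _ confTr_mem sevenG_fixes
  have hi0 : i ≠ 0 := by
    rintro rfl
    rw [pow_zero, one_mul] at h
    have h1 : sevenG = 1 := mul_left_cancel (h.trans (mul_one g).symm)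
    have := orderOf_sevenG
    rw [h1, orderOf_one] at this
    omega
  -- an exponent inverting the twist
  obtain ⟨j, hj⟩ : ∃ j, i * j % 7 = 1 := by
    interval_cases i
    · exact absurd rfl hi0
    · exact ⟨1, rfl⟩
    · exact ⟨4, rfl⟩
    · exact ⟨5, rfl⟩
    · exact ⟨2, rfl⟩
    · exact ⟨3, rfl⟩
    · exact ⟨6, rfl⟩
  have h2 : g * sevenG ^ j = sevenG * g := by
    have hc : g * sevenG * g⁻¹ = sevenG ^ i := by rw [h]; group
    have hc2 : g * sevenG ^ j * g⁻¹ = sevenG := by
      rw [← conj_pow, hc, ← pow_mul, ← pow_mod_orderOf, orderOf_sevenG, hj, pow_one]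
    conv_rhs => rw [← hc2]
    group
  have hfixj : ((sevenG ^ j : M24) : Equiv.Perm GolayPt) • confOf confTr = confOf confTr := by
    rw [SubmonoidClass.coe_pow]
    exact pow_mem (MulAction.mem_stabilizer_iff.2 sevenG_fixes :
      (sevenG : Equiv.Perm GolayPt) ∈ MulAction.stabilizer (Equiv.Perm GolayPt) (confOf confTr)) j
  rw [hb]
  refine huniq _ (hb ▸ smul_trio g.2 confTr_mem) ?_
  conv_lhs => rw [← hb]
  show (sevenG : Equiv.Perm GolayPt) • (g : Equiv.Perm GolayPt) • _ = _
  rw [← mul_smul, ← Subgroup.coe_mul, ← h2, Subgroup.coe_mul, mul_smul, hfixj, hb]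

theorem seven_ker {k : M24} (hrel : Rel (k : Equiv.Perm GolayPt) 1 1) (hc : k * sevenG = sevenG * k) :
    k = 1 := by
  obtain ⟨l, hl, e⟩ := trRel_complete.2 _ hrel
  have hok : lok l = true := by
    have h := List.all_eq_true.1 tr_certs.2.2.1 l hl
    simp only [RelL, Bool.and_eq_true] at h
    exact m24ok_lok h.1.1.1
  have h := List.all_eq_true.1 seven_facts.2.2.2.2.2.2 l hl
  rw [Bool.or_eq_true, beq_iff_eq] at h
  rcases h with h | h
  · exact Subtype.ext (by rw [← e, h, lperm_id]; rfl)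
  · exfalso
    rw [Bool.not_eq_true', ← Bool.not_eq_true, beq_iff_eq] at h
    apply h
    have hk : (k : Equiv.Perm GolayPt) * lperm sevenX = lperm sevenX * k := congrArg Subtype.val hc
    rw [← e] at hk
    have hs := m24ok_lok seven_facts.1
    have r1 := (rep_lperm hok).mul (rep_lperm hs)
    have r2 := (rep_lperm hs).mul (rep_lperm hok)
    rw [← hk] at r2
    refine List.ext_getElem (by simp [lmul]) fun i hi hi' => ?_
    have hi24 : i < 24 := by simpa [lmul] using hi
    rw [← List.getD_eq_getElem _ 0 hi, ← List.getD_eq_getElem _ 0 hi', ← idx_pt i hi24, r1 (pt i), r2 (pt i)]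

theorem seven_normalizer_card :
    Nat.card (Subgroup.normalizer ((Subgroup.zpowers sevenG : Subgroup M24) : Set M24)) = 126 ∧
    Nat.card (Subgroup.centralizer ((Subgroup.zpowers sevenG : Subgroup M24) : Set M24)) = 42 := by
  classical
  obtain ⟨hall, hnd, hlen, hlenC, -⟩ := seven_norm_facts
  have hlist : ∀ l ∈ sevenNorm, lok l = true ∧ ∃ h : lperm l ∈ M24, ∃ i : Fin 7,
      lmul l sevenX = lmul (xpw i) l ∧ (⟨lperm l, h⟩ : M24) * sevenG = sevenG ^ (i : ℕ) * ⟨lperm l, h⟩ := by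
    intro l hl
    have h := List.all_eq_true.1 hall l hl
    rw [Bool.and_eq_true, List.any_eq_true] at h
    obtain ⟨hok, i, hi, he⟩ := h
    rw [beq_iff_eq] at he
    have hi7 := List.mem_range.1 hi
    refine ⟨m24ok_lok hok, lperm_mem hok, ⟨i, hi7⟩, he, Subtype.ext ?_⟩
    show lperm l * lperm sevenX = ((sevenG ^ i : M24) : Equiv.Perm GolayPt) * lperm l
    rw [sevenG_pow i (by omega)]
    have r1 := (rep_lperm (m24ok_lok hok)).mul (rep_lperm (m24ok_lok seven_facts.1))
    have r2 := (rep_lperm (List.all_eq_true.1 seven_facts.2.1 i (List.mem_range.2 (by omega)))).mul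
      (rep_lperm (m24ok_lok hok))
    exact rep_unique r1 (he ▸ r2)
  -- the induced pairs
  have himg : ∀ g : M24, ∀ i : Fin 7, g * sevenG = sevenG ^ (i : ℕ) * g →
      ∃ M : GL (Fin 3) (ZMod 2), ∃ π, Rel (g : Equiv.Perm GolayPt) M π ∧
        (M : Matrix (Fin 3) (Fin 3) (ZMod 2)) * sevenM = sevenM ^ (i : ℕ) * (M : Matrix (Fin 3) (Fin 3) (ZMod 2)) := by
    intro g i h
    obtain ⟨M, π, hrel⟩ := trRel_complete.1 g (normalizer_fixes_trio h i.2)
    refine ⟨M, π, hrel, ?_⟩
    have h1 : ((g : Equiv.Perm GolayPt), (M, π)) * ((sevenG : Equiv.Perm GolayPt), (sevenU, 1)) ∈ trGamma :=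
      mul_mem hrel (show Rel (sevenG : Equiv.Perm GolayPt) sevenU 1 by simpa using rel_sevenG 1)
    have h2 : (((sevenG ^ (i : ℕ) : M24) : Equiv.Perm GolayPt), (sevenU ^ (i : ℕ), (1 : Equiv.Perm (Fin 3)))) *
        ((g : Equiv.Perm GolayPt), (M, π)) ∈ trGamma := mul_mem (rel_sevenG i) hrel
    have e := trGamma_fst h1 h2 (congrArg Subtype.val h)
    have e2 := congrArg (fun x : Equiv.Perm GolayPt × (GL (Fin 3) (ZMod 2) × Equiv.Perm (Fin 3)) =>
      (x.2.1 : Matrix (Fin 3) (Fin 3) (ZMod 2))) e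
    simpa [Units.val_mul, Units.val_pow_eq_pow_val, sevenU] using e2
  -- the induced pair determines the element
  have hdet : ∀ g g' : M24, ∀ i i' : Fin 7, g * sevenG = sevenG ^ (i : ℕ) * g →
      g' * sevenG = sevenG ^ (i' : ℕ) * g' → ∀ M π, Rel (g : Equiv.Perm GolayPt) M π →
      Rel (g' : Equiv.Perm GolayPt) M π → g = g' := by
    intro g g' i i' h h' M π r r'
    have hii : i = i' := by
      refine seven_quot.2.2 i i' ?_
      obtain ⟨M₁, π₁, r₁, e₁⟩ := himg g i h
      obtain ⟨M₂, π₂, r₂, e₂⟩ := himg g' i' h'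
      have q₁ := congrArg (fun x : Equiv.Perm GolayPt × (GL (Fin 3) (ZMod 2) × Equiv.Perm (Fin 3)) => x.2.1)
        (trGamma_fst (x := ((g : Equiv.Perm GolayPt), (M₁, π₁))) r₁ (y := ((g : Equiv.Perm GolayPt), (M, π))) r rfl)
      have q₂ := congrArg (fun x : Equiv.Perm GolayPt × (GL (Fin 3) (ZMod 2) × Equiv.Perm (Fin 3)) => x.2.1)
        (trGamma_fst (x := ((g' : Equiv.Perm GolayPt), (M₂, π₂))) r₂ (y := ((g' : Equiv.Perm GolayPt), (M, π))) r' rfl)
      simp only at q₁ q₂
      rw [q₁] at e₁; rw [q₂] at e₂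
      exact M.isUnit.mul_left_injective (e₁.symm.trans e₂)
    subst hii
    have hk : g⁻¹ * g' * sevenG = sevenG * (g⁻¹ * g') := by
      rw [mul_assoc, h', ← mul_assoc, ← mul_assoc, show g⁻¹ * sevenG ^ (i : ℕ) = sevenG * g⁻¹ by
        rw [inv_mul_eq_iff_eq_mul, ← mul_assoc, h, mul_inv_cancel_right]]
    have hrel : ((g : Equiv.Perm GolayPt), (M, π))⁻¹ * ((g' : Equiv.Perm GolayPt), (M, π)) ∈ trGamma :=
      mul_mem (inv_mem r) r'
    rw [Prod.inv_mk, Prod.mk_mul_mk, Prod.inv_mk, Prod.mk_mul_mk, inv_mul_cancel, inv_mul_cancel] at hrel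
    have := seven_ker (k := g⁻¹ * g') hrel hk
    exact inv_mul_eq_one.1 this
  constructor
  · refine le_antisymm ?_ ?_
    · let F := {A : Matrix (Fin 3) (Fin 3) (ZMod 2) // A.det ≠ 0 ∧ ∃ i : Fin 7, A * sevenM = sevenM ^ (i : ℕ) * A}
      have hex : ∀ g : Subgroup.normalizer ((Subgroup.zpowers sevenG : Subgroup M24) : Set M24),
          ∃ p : F × Equiv.Perm (Fin 3), ∃ M : GL (Fin 3) (ZMod 2),
            (M : Matrix (Fin 3) (Fin 3) (ZMod 2)) = p.1.1 ∧ Rel ((g : M24) : Equiv.Perm GolayPt) M p.2 := by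
        intro g
        obtain ⟨i, hi⟩ := mem_normalizer_sevenG.1 g.2
        obtain ⟨M, π, hrel, e⟩ := himg g i hi
        exact ⟨(⟨M, ((Matrix.isUnit_iff_isUnit_det _).1 M.isUnit).ne_zero, i, e⟩, π), M, rfl, hrel⟩
      choose p M hM hrel using hex
      have := Nat.card_le_card_of_injective p (fun g g' e => by
        obtain ⟨i, hi⟩ := mem_normalizer_sevenG.1 g.2
        obtain ⟨i', hi'⟩ := mem_normalizer_sevenG.1 g'.2
        refine Subtype.ext (hdet g g' i i' hi hi' (M g) (p g).2 (hrel g) ?_)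
        rw [show M g = M g' from Units.ext (by rw [hM, hM, e]), e]
        exact hrel g')
      refine this.trans ?_
      rw [Nat.card_prod, Nat.card_perm, Nat.card_fin, show Nat.factorial 3 = 6 from rfl,
        Nat.card_eq_fintype_card, Fintype.card_subtype]
      have := seven_quot.1
      omega
    · have := Nat.card_le_card_of_injective
        (fun l : ↥sevenNorm.toFinset => (⟨⟨lperm l.1, (hlist l.1 (List.mem_toFinset.1 l.2)).2.choose⟩,
          mem_normalizer_sevenG.2 (by
            obtain ⟨-, h, i, -, e⟩ := hlist l.1 (List.mem_toFinset.1 l.2)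
            exact ⟨i, e⟩)⟩ : Subgroup.normalizer ((Subgroup.zpowers sevenG : Subgroup M24) : Set M24)))
        (fun a b e => Subtype.ext (lperm_inj_on (hlist a.1 (List.mem_toFinset.1 a.2)).1
          (hlist b.1 (List.mem_toFinset.1 b.2)).1
          (congrArg (fun g : Subgroup.normalizer ((Subgroup.zpowers sevenG : Subgroup M24) : Set M24) =>
            ((g : M24) : Equiv.Perm GolayPt)) e)))
      rwa [Nat.card_eq_fintype_card, Fintype.card_coe, List.toFinset_card_of_nodup hnd, hlen] at this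
  · have hone : ∀ g : M24, g * sevenG = sevenG * g → g * sevenG = sevenG ^ ((1 : Fin 7) : ℕ) * g :=
      fun g h => by rw [h]; simp
    refine le_antisymm ?_ ?_
    · let F := {A : Matrix (Fin 3) (Fin 3) (ZMod 2) // A.det ≠ 0 ∧ A * sevenM = sevenM * A}
      have hex : ∀ g : Subgroup.centralizer ((Subgroup.zpowers sevenG : Subgroup M24) : Set M24),
          ∃ p : F × Equiv.Perm (Fin 3), ∃ M : GL (Fin 3) (ZMod 2),
            (M : Matrix (Fin 3) (Fin 3) (ZMod 2)) = p.1.1 ∧ Rel ((g : M24) : Equiv.Perm GolayPt) M p.2 := by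
        intro g
        obtain ⟨M, π, hrel, e⟩ := himg g 1 (hone _ (mem_centralizer_sevenG.1 g.2))
        exact ⟨(⟨M, ((Matrix.isUnit_iff_isUnit_det _).1 M.isUnit).ne_zero, by simpa using e⟩, π), M, rfl, hrel⟩
      choose p M hM hrel using hex
      have := Nat.card_le_card_of_injective p (fun g g' e => by
        refine Subtype.ext (hdet g g' 1 1 (hone _ (mem_centralizer_sevenG.1 g.2))
          (hone _ (mem_centralizer_sevenG.1 g'.2)) (M g) (p g).2 (hrel g) ?_)
        rw [show M g = M g' from Units.ext (by rw [hM, hM, e]), e]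
        exact hrel g')
      refine this.trans ?_
      rw [Nat.card_prod, Nat.card_perm, Nat.card_fin, show Nat.factorial 3 = 6 from rfl,
        Nat.card_eq_fintype_card, Fintype.card_subtype]
      have := seven_quot.2.1
      omega
    · have hin : ∀ l ∈ sevenNorm.filter (fun l => lmul l sevenX == lmul sevenX l),
          lok l = true ∧ ∃ h : lperm l ∈ M24, (⟨lperm l, h⟩ : M24) * sevenG = sevenG * ⟨lperm l, h⟩ := by
        intro l hl
        rw [List.mem_filter, beq_iff_eq] at hl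
        obtain ⟨hok, h, -⟩ := hlist l hl.1
        refine ⟨hok, h, Subtype.ext ?_⟩
        have r1 := (rep_lperm hok).mul (rep_lperm (m24ok_lok seven_facts.1))
        have r2 := (rep_lperm (m24ok_lok seven_facts.1)).mul (rep_lperm hok)
        exact rep_unique r1 (hl.2 ▸ r2)
      have := Nat.card_le_card_of_injective
        (fun l : ↥(sevenNorm.filter (fun l => lmul l sevenX == lmul sevenX l)).toFinset =>
          (⟨⟨lperm l.1, (hin l.1 (List.mem_toFinset.1 l.2)).2.choose⟩,
            mem_centralizer_sevenG.2 (hin l.1 (List.mem_toFinset.1 l.2)).2.choose_spec⟩ :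
            Subgroup.centralizer ((Subgroup.zpowers sevenG : Subgroup M24) : Set M24)))
        (fun a b e => Subtype.ext (lperm_inj_on (hin a.1 (List.mem_toFinset.1 a.2)).1
          (hin b.1 (List.mem_toFinset.1 b.2)).1
          (congrArg (fun g : Subgroup.centralizer ((Subgroup.zpowers sevenG : Subgroup M24) : Set M24) =>
            ((g : M24) : Equiv.Perm GolayPt)) e)))
      rwa [Nat.card_eq_fintype_card, Fintype.card_coe, List.toFinset_card_of_nodup (hnd.filter _), hlenC] at this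

theorem seven_nonabelian :
    ∃ x ∈ Subgroup.centralizer ((Subgroup.zpowers sevenG : Subgroup M24) : Set M24),
    ∃ y ∈ Subgroup.centralizer ((Subgroup.zpowers sevenG : Subgroup M24) : Set M24), x * y ≠ y * x := by
  obtain ⟨hall, -, -, -, hna⟩ := seven_norm_facts
  rw [List.any_eq_true] at hna
  obtain ⟨a, ha, hb⟩ := hna
  rw [List.any_eq_true] at hb
  obtain ⟨b, hb, hab⟩ := hb
  rw [List.mem_filter, beq_iff_eq] at ha hb
  have hin : ∀ l, l ∈ sevenNorm → lmul l sevenX = lmul sevenX l →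
      lok l = true ∧ ∃ g : M24, g ∈ Subgroup.centralizer ((Subgroup.zpowers sevenG : Subgroup M24) : Set M24) ∧
        (g : Equiv.Perm GolayPt) = lperm l := by
    intro l hl he
    have h := List.all_eq_true.1 hall l hl
    rw [Bool.and_eq_true] at h
    refine ⟨m24ok_lok h.1, ⟨lperm l, lperm_mem h.1⟩, mem_centralizer_sevenG.2 (Subtype.ext ?_), rfl⟩
    have r1 := (rep_lperm (m24ok_lok h.1)).mul (rep_lperm (m24ok_lok seven_facts.1))
    have r2 := (rep_lperm (m24ok_lok seven_facts.1)).mul (rep_lperm (m24ok_lok h.1))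
    exact rep_unique r1 (Eq.mpr (congrArg (Rep _) he) r2)
  obtain ⟨hla, x, hx, ex⟩ := hin a ha.1 ha.2
  obtain ⟨hlb, y, hy, ey⟩ := hin b hb.1 hb.2
  simp only [Bool.and_eq_true, Bool.not_eq_true', beq_eq_false_iff_ne] at hab
  refine ⟨x, hx, y, hy, fun e => hab.2 (lperm_inj_on hab.1.1 hab.1.2 ?_)⟩
  rw [lperm_lmul hla hlb hab.1.1, lperm_lmul hlb hla hab.1.2, ← ex, ← ey]
  exact congrArg Subtype.val e

theorem seven_subgroup {S : Subgroup M24} (hS : Nat.card S = 7) :
    ∃ k : M24, (Subgroup.zpowers sevenG).map (MulAut.conj k).toMonoidHom = S := by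
  classical
  haveI : Fact (Nat.Prime 7) := ⟨by norm_num⟩
  have hf : (Nat.card M24).factorization 7 = 1 := by
    rw [card_M24, show (244823040 : ℕ) = 7 ^ 1 * 34974720 by norm_num,
      Nat.factorization_mul (by norm_num) (by norm_num), Finsupp.add_apply,
      Nat.Prime.factorization_pow (by norm_num : Nat.Prime 7), Finsupp.single_eq_same,
      Nat.factorization_eq_zero_of_not_dvd (by norm_num)]
  have h0 : Nat.card (Subgroup.zpowers sevenG) = 7 := by rw [Nat.card_zpowers, orderOf_sevenG]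
  let P := Sylow.ofCard (Subgroup.zpowers sevenG) (p := 7) (by rw [h0, hf]; rfl)
  let Q := Sylow.ofCard S (p := 7) (by rw [hS, hf]; rfl)
  obtain ⟨k, hk⟩ := MulAction.exists_smul_eq M24 P Q
  exact ⟨k, congrArg (fun R : Sylow 7 M24 => (R : Subgroup M24)) hk⟩

theorem seven_structure {S : Subgroup M24} (hS : Nat.card S = 7) :
    Nat.card (Subgroup.normalizer (S : Set M24)) = 126 ∧ Nat.card (Subgroup.centralizer (S : Set M24)) = 42 ∧
    (∃ x ∈ Subgroup.centralizer (S : Set M24), ∃ y ∈ Subgroup.centralizer (S : Set M24), x * y ≠ y * x) ∧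
    ∃ T ∈ trios, ∀ n ∈ Subgroup.normalizer (S : Set M24), ((n : M24) : Equiv.Perm GolayPt) • T = T := by
  obtain ⟨k, hk⟩ := seven_subgroup hS
  set P := Subgroup.zpowers sevenG
  have hN : ∀ g, g ∈ Subgroup.normalizer (S : Set M24) ↔ k⁻¹ * g * k ∈ Subgroup.normalizer (P : Set M24) := by
    intro g
    rw [← hk, ← Subgroup.map_equiv_normalizer_eq, Subgroup.mem_map_equiv]
    show k⁻¹ * g * (k⁻¹)⁻¹ ∈ _ ↔ _
    rw [inv_inv]
  have hC : ∀ g, g ∈ Subgroup.centralizer (S : Set M24) ↔ k⁻¹ * g * k ∈ Subgroup.centralizer (P : Set M24) := by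
    intro g
    simp only [Subgroup.mem_centralizer_iff, SetLike.mem_coe, ← hk, Subgroup.mem_map, MulEquiv.coe_toMonoidHom,
      MulAut.conj_apply, forall_exists_index, and_imp, forall_apply_eq_imp_iff₂]
    refine forall₂_congr fun y _ => ⟨fun h => ?_, fun h => ?_⟩
    · calc y * (k⁻¹ * g * k) = k⁻¹ * (k * y * k⁻¹ * g) * k := by group
        _ = k⁻¹ * (g * (k * y * k⁻¹)) * k := by rw [h]
        _ = k⁻¹ * g * k * y := by group
    · calc k * y * k⁻¹ * g = k * (y * (k⁻¹ * g * k)) * k⁻¹ := by group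
        _ = k * (k⁻¹ * g * k * y) * k⁻¹ := by rw [h]
        _ = g * (k * y * k⁻¹) := by group
  have hconj : ∀ g, (MulAut.conj k⁻¹) g = k⁻¹ * g * k := fun g => by
    rw [MulAut.conj_apply, inv_inv]
  obtain ⟨hn, hc⟩ := seven_normalizer_card
  refine ⟨?_, ?_, ?_, ?_⟩
  · rw [← hn]
    exact Nat.card_congr ((MulAut.conj k⁻¹).toEquiv.subtypeEquiv fun g => by
      show g ∈ _ ↔ (MulAut.conj k⁻¹) g ∈ _
      rw [hconj]; exact hN g)
  · rw [← hc]
    exact Nat.card_congr ((MulAut.conj k⁻¹).toEquiv.subtypeEquiv fun g => by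
      show g ∈ _ ↔ (MulAut.conj k⁻¹) g ∈ _
      rw [hconj]; exact hC g)
  · obtain ⟨x, hx, y, hy, hxy⟩ := seven_nonabelian
    refine ⟨k * x * k⁻¹, (hC _).2 ?_, k * y * k⁻¹, (hC _).2 ?_, fun e => hxy ?_⟩
    · rwa [show k⁻¹ * (k * x * k⁻¹) * k = x by group]
    · rwa [show k⁻¹ * (k * y * k⁻¹) * k = y by group]
    · calc x * y = k⁻¹ * (k * x * k⁻¹ * (k * y * k⁻¹)) * k := by group
        _ = k⁻¹ * (k * y * k⁻¹ * (k * x * k⁻¹)) * k := by rw [e]
        _ = y * x := by group
  · refine ⟨(k : Equiv.Perm GolayPt) • confOf confTr, smul_trio k.2 confTr_mem, fun n hn' => ?_⟩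
    obtain ⟨i, hi⟩ := mem_normalizer_sevenG.1 ((hN n).1 hn')
    have h := normalizer_fixes_trio hi i.2
    rw [← mul_smul, ← Subgroup.coe_mul, show n * k = k * (k⁻¹ * n * k) by group, Subgroup.coe_mul, mul_smul, h]

end Cfsg.Agent.Spor
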