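/-!
Elements of M24 normalising or centralising elements of orders 5, 7 and 23.
-/

set_option autoImplicit false

namespace Cfsg.Agent.Spor.M24Block

def fiveX : List Nat := [10, 23, 6, 9, 5, 2, 19, 12, 8, 11, 20, 1, 13, 16, 7, 15, 14, 17, 0, 4, 22, 21, 18, 3]

def fiveConj : List Nat := [0, 16, 6, 13, 19, 5, 4, 9, 8, 14, 20, 12, 1, 3, 23, 21, 11, 17, 22, 2, 18, 15, 10, 7]

def sevenConj : List Nat := [0, 1, 7, 2, 12, 5, 6, 3, 8, 21, 4, 19, 10, 14, 16, 9, 13, 11, 18, 17, 22, 15, 23, 20]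

def shiftX : List Nat := [1, 2, 3, 4, 5, 6, 7, 8, 9, 10, 11, 12, 13, 14, 15, 16, 17, 18, 19, 20, 21, 22, 0, 23]

def shiftConj : List Nat := [0, 2, 4, 6, 8, 10, 12, 14, 16, 18, 20, 22, 1, 3, 5, 7, 9, 11, 13, 15, 17, 19, 21, 23]

def fiveKlein : List (List Nat) := [[0, 1, 2, 3, 4, 5, 6, 7, 8, 9, 10, 11, 12, 13, 14, 15, 16, 17, 18, 19, 20, 21, 22, 23], [3, 22, 16, 0, 12, 13, 14, 19, 21, 10, 9, 20, 4, 5, 6, 17, 2, 15, 23, 7, 11, 8, 1, 18], [5, 7, 10, 13, 18, 0, 20, 1, 17, 16, 2, 14, 23, 3, 11, 21, 9, 8, 4, 22, 6, 15, 19, 12], [13, 19, 9, 5, 23, 3, 11, 22, 15, 2, 16, 6, 18, 0, 20, 8, 10, 21, 12, 1, 14, 17, 7, 4]]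

end Cfsg.Agent.Spor.M24Block
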