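import Cfsg.Agent.Lib.Spor.GolayElemCent
import Cfsg.Agent.Lib.Spor.MathieuSimple
import Cfsg.Agent.Lib.Spor.GolaySeven
import Cfsg.Agent.Lib.Spor.MathieuTwentyFourPrimesData

/-!
# Elements of orders 5, 7, 11 and 23 in M24: centralisers, powers and numbers
-/

set_option autoImplicit false
set_option maxRecDepth 100000
set_option maxHeartbeats 1000000

namespace Cfsg.Agent.Spor.M24Block

open Cfsg
open scoped Pointwise

theorem fix_le_five {g : M24} {p : ℕ} (hp : p.Prime) (h5 : 5 ≤ p) (hg : orderOf g = p) :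
    (fixSet (g : Equiv.Perm GolayPt)).card ≤ 5 := by
  by_contra h
  obtain ⟨E, hE, hEc⟩ := Finset.exists_subset_card_eq (n := 6) (not_le.1 h)
  have hm : (g : Equiv.Perm GolayPt) ∈ fixM E :=
    mem_fixM.2 ⟨g.2, fun x hx => (Finset.mem_filter.1 (hE hx)).2⟩
  have hd := Subgroup.orderOf_dvd_natCard _ hm
  rw [card_fixM_six hEc, Subgroup.orderOf_coe, hg] at hd
  split_ifs at hd
  · exact absurd (Nat.le_of_dvd (by norm_num) ((hp.dvd_of_dvd_pow (show p ∣ 2 ^ 4 by norm_num; exact hd)))) (by omega)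
  · exact absurd (Nat.le_of_dvd (by norm_num) hd) (by omega)

theorem fix_mod {g : M24} {p : ℕ} (hp : p.Prime) (hg : orderOf g = p) :
    (fixSet (g : Equiv.Perm GolayPt)).card % p = 24 % p := by
  haveI : Fact p.Prime := ⟨hp⟩
  have hσ : (g : Equiv.Perm GolayPt) ^ p ^ 1 = 1 := by
    rw [pow_one, ← SubmonoidClass.coe_pow, ← hg, pow_orderOf_eq_one, OneMemClass.coe_one]
  have h := Equiv.Perm.card_compl_support_modEq hσ
  rw [show Fintype.card GolayPt = 24 from rfl] at h
  have e : fixSet (g : Equiv.Perm GolayPt) = (g : Equiv.Perm GolayPt).supportᶜ := by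
    ext x; simp [Equiv.Perm.mem_support]
  rw [e]; exact h

theorem fix_eq {g : M24} {p : ℕ} (hp : p = 5 ∨ p = 7 ∨ p = 11 ∨ p = 23) (hg : orderOf g = p) :
    (fixSet (g : Equiv.Perm GolayPt)).card = 24 % p := by
  have hpr : p.Prime := by rcases hp with rfl | rfl | rfl | rfl <;> norm_num
  have h2 := fix_le_five hpr (by rcases hp with rfl | rfl | rfl | rfl <;> omega) hg
  have h3 := fix_mod hpr hg
  rcases hp with rfl | rfl | rfl | rfl <;> omega

theorem orbit_injOn {σ : Equiv.Perm GolayPt} {q : ℕ} (hq : q.Prime) (hσ : orderOf σ = q) {a : GolayPt}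
    (hne : σ a ≠ a) : Set.InjOn (fun n => (σ ^ n) a) (Finset.range q : Set ℕ) := by
  haveI : Fact q.Prime := ⟨hq⟩
  have hstab : ∀ n : ℕ, (σ ^ n) a = a → q ∣ n := by
    intro n hn
    by_contra hd
    obtain ⟨m, hm⟩ := exists_pow_eq_self_of_coprime (x := σ) (n := n)
      (by rw [hσ]; exact ((hq.coprime_iff_not_dvd).2 hd).symm)
    refine hne ?_
    rw [← hm]
    clear hm
    induction m with
    | zero => simp
    | succ m ih => rw [pow_succ, Equiv.Perm.mul_apply, hn, ih]
  have key : ∀ i k : ℕ, i + k < q → (σ ^ i) a = (σ ^ (i + k)) a → k = 0 := by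
    intro i k hlt' e
    rw [pow_add, Equiv.Perm.mul_apply] at e
    exact Nat.eq_zero_of_dvd_of_lt (hstab k ((σ ^ i).injective e).symm) (by omega)
  intro i hi j hj e
  simp only [Finset.coe_range, Set.mem_Iio] at hi hj
  rcases le_total i j with hij | hij <;> obtain ⟨k, rfl⟩ := Nat.exists_eq_add_of_le hij
  · rw [key i k hj e, add_zero]
  · rw [key j k hi e.symm, add_zero]

theorem fixes_invariant {h : M24} {q : ℕ} (hq : q.Prime) (hh : orderOf h = q) {F : Finset GolayPt}
    (hF : ∀ x ∈ F, (h : Equiv.Perm GolayPt) x ∈ F) (hlt : F.card < q) :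
    F ⊆ fixSet (h : Equiv.Perm GolayPt) := by
  classical
  intro a ha
  refine Finset.mem_filter.2 ⟨Finset.mem_univ _, ?_⟩
  by_contra hne
  have horb : ∀ n : ℕ, ((h : Equiv.Perm GolayPt) ^ n) a ∈ F := fun n => by
    induction n with
    | zero => simpa using ha
    | succ n ih => rw [pow_succ', Equiv.Perm.mul_apply]; exact hF _ ih
  have hinj := orbit_injOn hq (by rw [Subgroup.orderOf_coe, hh]) hne
  have := Finset.card_le_card_of_injOn _ (fun n _ => horb n) hinj
  rw [Finset.card_range] at this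
  omega

theorem fix_invariant {g h : M24} (hc : Commute g h) :
    ∀ x ∈ fixSet (g : Equiv.Perm GolayPt), (h : Equiv.Perm GolayPt) x ∈ fixSet (g : Equiv.Perm GolayPt) := by
  intro x hx
  refine Finset.mem_filter.2 ⟨Finset.mem_univ _, ?_⟩
  have e := congrArg Subtype.val hc.eq
  rw [Subgroup.coe_mul, Subgroup.coe_mul] at e
  rw [← Equiv.Perm.mul_apply, e, Equiv.Perm.mul_apply, (Finset.mem_filter.1 hx).2]

theorem fix_le_of_commute {g h : M24} {p : ℕ} (hp : p.Prime) (hg : orderOf g = p) (hc : Commute h g)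
    (hlt : (fixSet (h : Equiv.Perm GolayPt)).card < p) :
    (fixSet (h : Equiv.Perm GolayPt)).card ≤ (fixSet (g : Equiv.Perm GolayPt)).card :=
  Finset.card_le_card (fixes_invariant hp hg (fix_invariant hc) hlt)

theorem prime_of_dvd_order {q : ℕ} (hq : q.Prime) (hd : q ∣ 244823040) :
    q = 2 ∨ q = 3 ∨ q = 5 ∨ q = 7 ∨ q = 11 ∨ q = 23 := by
  have h : q ∈ Nat.primeFactors (2 ^ 10 * 3 ^ 3 * 5 * 7 * 11 * 23) :=
    Nat.mem_primeFactors.2 ⟨hq, by norm_num; exact hd, by norm_num⟩
  rw [Nat.primeFactors_mul (by norm_num) (by norm_num), Nat.primeFactors_mul (by norm_num) (by norm_num),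
    Nat.primeFactors_mul (by norm_num) (by norm_num), Nat.primeFactors_mul (by norm_num) (by norm_num),
    Nat.primeFactors_mul (by norm_num) (by norm_num), Nat.primeFactors_prime_pow (by norm_num) Nat.prime_two,
    Nat.primeFactors_prime_pow (by norm_num) Nat.prime_three, Nat.Prime.primeFactors (by norm_num : Nat.Prime 5),
    Nat.Prime.primeFactors (by norm_num : Nat.Prime 7), Nat.Prime.primeFactors (by norm_num : Nat.Prime 11),
    Nat.Prime.primeFactors (by norm_num : Nat.Prime 23)] at h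
  simp only [Finset.mem_union, Finset.mem_singleton] at h
  omega

theorem dvd_card (H : Subgroup M24) : Nat.card H ∣ 244823040 := card_M24 ▸ Subgroup.card_subgroup_dvd_card H

theorem card_centralizer_big {g : M24} {p : ℕ} (hp : p = 11 ∨ p = 23) (hg : orderOf g = p) :
    Nat.card (Subgroup.centralizer ({g} : Set M24)) = p := by
  set C := Subgroup.centralizer ({g} : Set M24) with hC
  have hpr : p.Prime := by rcases hp with rfl | rfl <;> norm_num
  have hfg := fix_eq (p := p) (by tauto) hg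
  have hpC : p ∣ Nat.card C :=
    hg ▸ Subgroup.orderOf_dvd_natCard C (Subgroup.mem_centralizer_singleton_iff.2 rfl)
  obtain ⟨m, hm⟩ := hpC
  rcases eq_or_ne m 1 with rfl | hne
  · rw [hm, mul_one]
  exfalso
  obtain ⟨q, hq, hqm⟩ := Nat.exists_prime_and_dvd hne
  have hqC : q ∣ Nat.card C := hm ▸ Dvd.dvd.mul_left hqm p
  haveI : Fact q.Prime := ⟨hq⟩
  obtain ⟨h, hh⟩ := exists_prime_orderOf_dvd_card' q hqC
  have hh' : orderOf (h : M24) = q := by rw [Subgroup.orderOf_coe]; exact hh
  have hcomm : Commute (h : M24) g := Subgroup.mem_centralizer_singleton_iff.1 h.2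
  rcases eq_or_ne q p with rfl | hqp
  · have h2 : q * q ∣ 244823040 := (mul_dvd_mul_left q hqm).trans (hm ▸ dvd_card C)
    rcases hp with rfl | rfl <;> norm_num at h2
  have hho : orderOf ((h : M24) : Equiv.Perm GolayPt) = q := by rw [Subgroup.orderOf_coe, hh']
  rcases prime_of_dvd_order hq (hqC.trans (dvd_card C)) with rfl | rfl | hq'
  · rcases invol_by_fix (h : M24).2 hho with ⟨h0, -⟩ | ⟨h0, -⟩
    · have hd : p ∣ 7680 := by
        rw [← card_centraliser_free (t := ((h : M24) : Equiv.Perm GolayPt))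
          ⟨(h : M24).2, hho, (free_iff _).2 h0⟩]
        let K : Subgroup (Equiv.Perm GolayPt) :=
          M24 ⊓ Subgroup.centralizer ({((h : M24) : Equiv.Perm GolayPt)} : Set (Equiv.Perm GolayPt))
        have e : Nat.card {c : Equiv.Perm GolayPt // c ∈ M24 ∧
            c * ((h : M24) : Equiv.Perm GolayPt) = ((h : M24) : Equiv.Perm GolayPt) * c} = Nat.card K :=
          Nat.card_congr (Equiv.subtypeEquivRight fun c => by
            show _ ↔ c ∈ M24 ∧ c ∈ Subgroup.centralizer _
            rw [Subgroup.mem_centralizer_singleton_iff])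
        rw [e, ← hg, ← Subgroup.orderOf_coe g]
        refine Subgroup.orderOf_dvd_natCard K ⟨g.2, Subgroup.mem_centralizer_singleton_iff.2 ?_⟩
        exact congrArg Subtype.val hcomm.eq.symm
      rcases hp with rfl | rfl <;> norm_num at hd
    · have := fix_le_of_commute hpr hg hcomm (by rw [h0]; rcases hp with rfl | rfl <;> norm_num)
      rw [h0, hfg] at this
      rcases hp with rfl | rfl <;> omega
  · rcases three_by_fix (h : M24).2 hho with ⟨h0, -⟩ | ⟨h0, -⟩
    · have := fix_le_of_commute Nat.prime_three hh' hcomm.symm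
        (by rw [hfg]; rcases hp with rfl | rfl <;> norm_num)
      rw [h0, hfg] at this
      rcases hp with rfl | rfl <;> omega
    · have := fix_le_of_commute hpr hg hcomm (by rw [h0]; rcases hp with rfl | rfl <;> norm_num)
      rw [h0, hfg] at this
      rcases hp with rfl | rfl <;> omega
  · have hfh := fix_eq hq' hh'
    by_cases hcase : q = 23
    · subst hcase
      rcases hp with rfl | rfl
      · have := fix_le_of_commute hq hh' hcomm.symm (by rw [hfg]; norm_num)
        rw [hfh, hfg] at this; omega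
      · exact hqp rfl
    · have := fix_le_of_commute hpr hg hcomm
        (by rw [hfh]; rcases hp with rfl | rfl <;> rcases hq' with rfl | rfl | rfl | rfl <;> omega)
      rw [hfh, hfg] at this
      rcases hp with rfl | rfl <;> rcases hq' with rfl | rfl | rfl | rfl <;> omega

theorem card_centralizer_five {g : M24} (hg : orderOf g = 5) :
    Nat.card (Subgroup.centralizer ({g} : Set M24)) ≤ 60 := by
  classical
  set C := Subgroup.centralizer ({g} : Set M24) with hC
  set σ := (g : Equiv.Perm GolayPt) with hσ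
  have hF := fix_eq (p := 5) (by simp) hg
  rw [← hσ] at hF
  obtain ⟨a, ha⟩ : ∃ a, a ∉ fixSet σ := by
    refine (Finset.exists_of_ssubset (Finset.ssubset_univ_iff.2 fun h => ?_)).imp fun _ h => h.2
    rw [h, Finset.card_univ] at hF
    exact absurd hF (by decide)
  have hane : σ a ≠ a := fun h => ha (Finset.mem_filter.2 ⟨Finset.mem_univ _, h⟩)
  -- the orbit
  have hinvc : ∀ c ∈ C, ∀ n : ℕ, ((c : M24) : Equiv.Perm GolayPt) * σ ^ n =
      σ ^ n * ((c : M24) : Equiv.Perm GolayPt) := fun c hc n => by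
    have h1 : Commute c g := Subgroup.mem_centralizer_singleton_iff.1 hc
    have h2 := congrArg Subtype.val (h1.pow_right n).eq
    rwa [Subgroup.coe_mul, Subgroup.coe_mul, SubmonoidClass.coe_pow] at h2
  have hcomm : ∀ c ∈ C, Commute g c := fun c hc => (Subgroup.mem_centralizer_singleton_iff.1 hc).symm
  let act : C → {x // x ∉ fixSet σ} := fun c => ⟨((c : M24) : Equiv.Perm GolayPt) a, fun h => ha (by
    have h' := fix_invariant (hcomm _ (inv_mem c.2)) _ h
    rwa [Subgroup.coe_inv, ← Equiv.Perm.mul_apply, inv_mul_cancel] at h')⟩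
  set cyc := (Finset.range 5).image (fun n => (σ ^ n) a) with hcyc
  have hcard5 : cyc.card = 5 := by
    rw [hcyc, Finset.card_image_of_injOn (orbit_injOn (by norm_num) (by rw [hσ, Subgroup.orderOf_coe, hg]) hane),
      Finset.card_range]
  have hcycσ : ∀ x ∈ cyc, σ x ∈ cyc := by
    intro x hx
    obtain ⟨n, hn, rfl⟩ := Finset.mem_image.1 hx
    rw [← Equiv.Perm.mul_apply, ← pow_succ', hcyc, Finset.mem_image]
    refine ⟨(n + 1) % 5, Finset.mem_range.2 (Nat.mod_lt _ (by norm_num)), ?_⟩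
    have h5 : σ ^ (n + 1) = σ ^ ((n + 1) % 5) := by
      conv_lhs => rw [← pow_mod_orderOf, hσ, Subgroup.orderOf_coe, hg]
    rw [h5]
  obtain ⟨o, ⟨ho, hco⟩, huniq⟩ := octads_steiner.2 cyc hcard5
  have hsmul : ∀ τ : Equiv.Perm GolayPt, τ ∈ M24 → (∀ x ∈ cyc, τ x ∈ cyc) → ∀ x ∈ o, τ x ∈ o := by
    intro τ hτ hinv x hx
    have h1 : τ • o = o := by
      refine huniq _ ⟨(smul_octad_iff hτ).2 ho, fun y hy => ?_⟩
      have himg : cyc.image τ = cyc :=
        Finset.eq_of_subset_of_card_le (Finset.image_subset_iff.2 hinv)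
          (by rw [Finset.card_image_of_injective _ τ.injective])
      rw [← himg] at hy
      obtain ⟨z, hz, rfl⟩ := Finset.mem_image.1 hy
      exact Finset.smul_mem_smul_finset (hco hz)
    rw [← h1]
    exact Finset.smul_mem_smul_finset hx
  have hrest : o \ cyc ⊆ fixSet σ := by
    refine fixes_invariant (by norm_num) hg (fun x hx => ?_) (by
      rw [Finset.card_sdiff_of_subset hco, ho.2, hcard5]; norm_num)
    rw [Finset.mem_sdiff] at hx ⊢
    refine ⟨hsmul σ g.2 hcycσ x hx.1, fun h => hx.2 ?_⟩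
    have himg : cyc.image σ = cyc :=
      Finset.eq_of_subset_of_card_le (Finset.image_subset_iff.2 hcycσ)
        (by rw [Finset.card_image_of_injective _ σ.injective])
    rw [← himg] at h
    obtain ⟨z, hz, e⟩ := Finset.mem_image.1 h
    exact σ.injective e ▸ hz
  have hdisj : Disjoint cyc (fixSet σ) := by
    refine Finset.disjoint_left.2 fun x hx hxf => ha ?_
    obtain ⟨n, -, rfl⟩ := Finset.mem_image.1 hx
    refine Finset.mem_filter.2 ⟨Finset.mem_univ _, ?_⟩
    have h' := (Finset.mem_filter.1 hxf).2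
    rw [← Equiv.Perm.mul_apply, ← pow_succ', pow_succ, Equiv.Perm.mul_apply] at h'
    exact (σ ^ n).injective h'
  have hout : (fixSet σ \ o).card = 1 := by
    have h1 : fixSet σ ∩ o = o \ cyc := by
      ext x
      rw [Finset.mem_inter, Finset.mem_sdiff]
      exact ⟨fun h => ⟨h.2, fun hx => Finset.disjoint_left.1 hdisj hx h.1⟩,
        fun h => ⟨hrest (Finset.mem_sdiff.2 h), h.1⟩⟩
    have h2 := Finset.card_sdiff_add_card_inter (fixSet σ) o
    rw [h1, Finset.card_sdiff_of_subset hco, ho.2, hcard5, hF] at h2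
    omega
  obtain ⟨f, hf⟩ := Finset.card_eq_one.1 hout
  have hf' : f ∈ fixSet σ ∧ f ∉ o := Finset.mem_sdiff.1 (hf ▸ Finset.mem_singleton_self f)
  have hE : (insert f cyc).card = 6 := by
    rw [Finset.card_insert_of_notMem fun h => hf'.2 (hco h), hcard5]
  have hnot : ¬ inSomeOctad (insert f cyc) = true := by
    rw [inSomeOctad_iff]
    rintro ⟨o', ho', hsub⟩
    obtain rfl := huniq o' ⟨ho', (Finset.subset_insert f cyc).trans hsub⟩
    exact hf'.2 (hsub (Finset.mem_insert_self f cyc))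
  have hfix3 : Nat.card (fixM (insert f cyc)) = 3 := by
    rw [card_fixM_six hE, if_neg hnot]
  -- fibres
  have hker : ∀ c : C, ((c : M24) : Equiv.Perm GolayPt) a = a →
      ((c : M24) : Equiv.Perm GolayPt) ∈ fixM (insert f cyc) := by
    intro c hca
    have hcyc' : ∀ x ∈ cyc, ((c : M24) : Equiv.Perm GolayPt) x = x := by
      intro x hx
      obtain ⟨n, -, rfl⟩ := Finset.mem_image.1 hx
      rw [← Equiv.Perm.mul_apply, hinvc _ c.2 n, Equiv.Perm.mul_apply, hca]
    refine mem_fixM.2 ⟨(c : M24).2, fun p hp => ?_⟩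
    rcases Finset.mem_insert.1 hp with epf | hp
    · rw [epf]
      have h1 : ((c : M24) : Equiv.Perm GolayPt) f ∈ fixSet σ \ o := by
        refine Finset.mem_sdiff.2 ⟨fix_invariant (hcomm _ c.2) _ hf'.1, fun h => hf'.2 ?_⟩
        have h' := hsmul (((c : M24) : Equiv.Perm GolayPt)⁻¹) (inv_mem (c : M24).2) (fun x hx => by
          have e := hcyc' x hx
          rw [Equiv.Perm.inv_eq_iff_eq.2 e.symm]
          exact hx) _ h
        rwa [← Equiv.Perm.mul_apply, inv_mul_cancel] at h'
      rw [hf, Finset.mem_singleton] at h1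
      exact h1
    · exact hcyc' p hp
  have hfib : ∀ y, Nat.card {c : C // act c = y} ≤ 3 := by
    intro y
    rcases isEmpty_or_nonempty {c : C // act c = y} with h | h
    · simp
    obtain ⟨c0, hc0⟩ := h
    rw [← hfix3]
    refine Nat.card_le_card_of_injective (fun c => ⟨(((c0⁻¹ * c.1 : C) : M24) : Equiv.Perm GolayPt),
      hker _ ?_⟩) fun u v e => ?_
    · have e : ((c.1 : M24) : Equiv.Perm GolayPt) a = ((c0 : M24) : Equiv.Perm GolayPt) a :=
        (congrArg Subtype.val c.2).trans (congrArg Subtype.val hc0).symm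
      rw [Subgroup.coe_mul, Subgroup.coe_mul, Equiv.Perm.mul_apply, e, Subgroup.coe_inv, Subgroup.coe_inv,
        ← Equiv.Perm.mul_apply, inv_mul_cancel]
      rfl
    · have e' : (((c0⁻¹ * u.1 : C) : M24) : Equiv.Perm GolayPt) = ((c0⁻¹ * v.1 : C) : M24) :=
        Subtype.mk.inj e
      exact Subtype.ext (mul_left_cancel (Subtype.ext (Subtype.ext e')))
  haveI : Fintype {x // x ∉ fixSet σ} := Fintype.ofFinite _
  have h20 : Fintype.card {x // x ∉ fixSet σ} = 20 := by
    rw [Fintype.card_subtype_compl, Fintype.card_coe, hF]; rfl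
  rw [← Nat.card_congr (Equiv.sigmaFiberEquiv act), Nat.card_sigma]
  refine (Finset.sum_le_card_nsmul _ _ 3 fun y _ => hfib y).trans ?_
  rw [Finset.card_univ, h20]; norm_num

/-! ### Explicit witnesses -/

theorem prime_data :
    m24ok fiveX = true ∧ m24ok fiveConj = true ∧ m24ok sevenConj = true ∧ m24ok shiftX = true ∧
    m24ok shiftConj = true ∧ fiveKlein.all m24ok = true ∧ fiveKlein.length = 4 ∧ fiveKlein.Nodup ∧
    List.range 24 ∈ fiveKlein ∧
    (fiveKlein.all fun a => fiveKlein.all fun b => fiveKlein.contains (lmul a b)) = true ∧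
    (fiveKlein.all fun a => lmul a fiveX == lmul fiveX a) = true ∧
    lmul fiveConj fiveX = lmul (lmul fiveX fiveX) fiveConj ∧
    lmul sevenConj sevenX = lmul (lmul sevenX sevenX) sevenConj ∧
    lmul shiftConj shiftX = lmul (lmul shiftX shiftX) shiftConj ∧
    ((List.range 6).foldr (fun _ l => lmul fiveX l) (List.range 24) = fiveX) ∧ fiveX ≠ List.range 24 ∧
    ((List.range 24).foldr (fun _ l => lmul shiftX l) (List.range 24) = shiftX) ∧ shiftX ≠ List.range 24 := by
  decide +kernel

theorem rep_mul_list {a b : List ℕ} (ha : m24ok a = true) (hb : m24ok b = true) :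
    Rep (lperm a * lperm b) (lmul a b) :=
  (rep_lperm (m24ok_lok ha)).mul (rep_lperm (m24ok_lok hb))

theorem conj_of_list {g w : M24} {a b : List ℕ} (hg : (g : Equiv.Perm GolayPt) = lperm a)
    (hw : (w : Equiv.Perm GolayPt) = lperm b) (ha : m24ok a = true) (hb : m24ok b = true)
    (he : lmul b a = lmul (lmul a a) b) : IsConj g (g ^ 2) := by
  refine isConj_iff.2 ⟨w, mul_inv_eq_iff_eq_mul.2 (Subtype.ext ?_)⟩
  rw [Subgroup.coe_mul, Subgroup.coe_mul, SubmonoidClass.coe_pow, hg, hw, pow_two]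
  exact rep_unique (rep_mul_list hb ha) (he ▸ (rep_mul_list ha ha).mul (rep_lperm (m24ok_lok hb)))

theorem rep_one_range : Rep (1 : Equiv.Perm GolayPt) (List.range 24) := lperm_id ▸ rep_lperm lok_id

theorem order_of_list {g : M24} {a : List ℕ} {p : ℕ} (hp : p.Prime) (hg : (g : Equiv.Perm GolayPt) = lperm a)
    (ha : m24ok a = true) (hpow : (List.range (p + 1)).foldr (fun _ l => lmul a l) (List.range 24) = a)
    (hne : a ≠ List.range 24) : orderOf g = p := by
  haveI : Fact p.Prime := ⟨hp⟩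
  have hrep : ∀ L : List ℕ, Rep (lperm a ^ L.length) (L.foldr (fun _ l => lmul a l) (List.range 24)) := by
    intro L
    induction L with
    | nil => simpa using rep_one_range
    | cons x L ih =>
      rw [List.length_cons, pow_succ']
      exact (rep_lperm (m24ok_lok ha)).mul ih
  have h := hrep (List.range (p + 1))
  rw [hpow, List.length_range] at h
  have e := rep_unique h (rep_lperm (m24ok_lok ha))
  refine orderOf_eq_prime (Subtype.ext ?_) fun h1 => hne ?_
  · rw [SubmonoidClass.coe_pow, hg, OneMemClass.coe_one]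
    rw [pow_succ] at e
    exact mul_eq_right.1 e
  · refine lperm_inj_on (m24ok_lok ha) lok_id ?_
    rw [← hg, h1, lperm_id, OneMemClass.coe_one]

/-- all elements of one prime order dividing the group order once are conjugate up to powers -/
theorem exists_conj_pow {g h : M24} {p : ℕ} [Fact p.Prime] (hfac : (Nat.card M24).factorization p = 1)
    (hg : orderOf g = p) (hh : orderOf h = p) : ∃ (k : M24) (i : ℕ), h = k * g ^ i * k⁻¹ := by
  let P := Sylow.ofCard (Subgroup.zpowers g) ((Nat.card_zpowers g).trans (by rw [hg, hfac, pow_one]))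
  let Q := Sylow.ofCard (Subgroup.zpowers h) ((Nat.card_zpowers h).trans (by rw [hh, hfac, pow_one]))
  obtain ⟨k, hk⟩ := MulAction.exists_smul_eq M24 P Q
  have hmem : h ∈ (Q : Subgroup M24) := Subgroup.mem_zpowers h
  rw [← hk, Sylow.coe_subgroup_smul, Subgroup.mem_pointwise_smul_iff_inv_smul_mem] at hmem
  have hx : k⁻¹ * h * k ∈ Subgroup.zpowers g := by
    simpa [P, MulAut.smul_def, MulAut.conj_inv_apply] using hmem
  obtain ⟨i, hi⟩ := (isOfFinOrder_of_finite g).mem_powers_iff_mem_zpowers.2 hx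
  refine ⟨k, i, ?_⟩
  have hi : g ^ i = k⁻¹ * h * k := hi
  rw [hi]; group

theorem conj_square {g h : M24} {p : ℕ} [Fact p.Prime] (hfac : (Nat.card M24).factorization p = 1)
    (hg : orderOf g = p) (hh : orderOf h = p) (hsq : IsConj g (g ^ 2)) : IsConj h (h ^ 2) := by
  obtain ⟨k, i, rfl⟩ := exists_conj_pow hfac hg hh
  obtain ⟨w, hw⟩ := isConj_iff.1 hsq
  refine isConj_iff.2 ⟨k * w * k⁻¹, ?_⟩
  have e : w * g ^ i * w⁻¹ = (g ^ i) ^ 2 := by rw [← pow_mul, mul_comm, pow_mul, ← hw, conj_pow]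
  rw [conj_pow, ← e]; group

theorem fac_prime (p : ℕ) (hp : p = 5 ∨ p = 7 ∨ p = 11 ∨ p = 23) :
    (Nat.card M24).factorization p = 1 := by
  rw [card_M24, show (244823040 : ℕ) = 2 ^ 10 * 3 ^ 3 * 5 * 7 * 11 * 23 by norm_num]
  rw [Nat.factorization_mul (by norm_num) (by norm_num), Nat.factorization_mul (by norm_num) (by norm_num),
    Nat.factorization_mul (by norm_num) (by norm_num), Nat.factorization_mul (by norm_num) (by norm_num),
    Nat.factorization_mul (by norm_num) (by norm_num), Nat.Prime.factorization_pow Nat.prime_two,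
    Nat.Prime.factorization_pow Nat.prime_three, Nat.Prime.factorization (by norm_num : Nat.Prime 5),
    Nat.Prime.factorization (by norm_num : Nat.Prime 7), Nat.Prime.factorization (by norm_num : Nat.Prime 11),
    Nat.Prime.factorization (by norm_num : Nat.Prime 23)]
  rcases hp with rfl | rfl | rfl | rfl <;> simp

/-- a number of Sylow subgroups gives a number of elements -/
theorem count_of_sylow {p : ℕ} [Fact p.Prime] (hfac : (Nat.card M24).factorization p = 1) :
    Nat.card (Sylow p M24) * (p - 1) ≤ Nat.card {g : M24 // orderOf g = p} := by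
  classical
  have hpr : p.Prime := Fact.out
  have hcardS : ∀ Q : Sylow p M24, Nat.card (Q : Subgroup M24) = p := fun Q => by
    rw [Q.card_eq_multiplicity, hfac, pow_one]
  have hgen : ∀ Q : Sylow p M24, ∃ g : M24, orderOf g = p ∧ Subgroup.zpowers g = (Q : Subgroup M24) := by
    intro Q
    obtain ⟨g, hg⟩ := exists_prime_orderOf_dvd_card' (G := (Q : Subgroup M24)) p (by rw [hcardS])
    have hg' : orderOf (g : M24) = p := by rw [Subgroup.orderOf_coe]; exact hg
    exact ⟨g, hg', Subgroup.eq_of_le_of_card_ge (Subgroup.zpowers_le.2 g.2)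
      (by rw [hcardS, Nat.card_zpowers, hg'])⟩
  choose gQ hgQ hgQ' using hgen
  have hord : ∀ x : Sylow p M24 × Fin (p - 1), orderOf (gQ x.1 ^ (x.2.val + 1)) = p := fun x => by
    refine orderOf_eq_prime ?_ fun h => ?_
    · rw [← pow_mul, mul_comm, pow_mul, orderOf_dvd_iff_pow_eq_one.1 (dvd_of_eq (hgQ x.1)), one_pow]
    · have := Nat.le_of_dvd (by omega) (hgQ x.1 ▸ orderOf_dvd_of_pow_eq_one h)
      have := x.2.isLt
      omega
  rw [← Nat.card_fin (p - 1), ← Nat.card_prod]
  refine Nat.card_le_card_of_injective (fun x => ⟨gQ x.1 ^ (x.2.val + 1), hord x⟩) fun a b e => ?_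
  have e' : gQ a.1 ^ (a.2.val + 1) = gQ b.1 ^ (b.2.val + 1) := congrArg Subtype.val e
  have hmem : ∀ x : Sylow p M24 × Fin (p - 1),
      Subgroup.zpowers (gQ x.1 ^ (x.2.val + 1)) = (x.1 : Subgroup M24) := by
    intro x
    refine Subgroup.eq_of_le_of_card_ge (Subgroup.zpowers_le.2 ?_) (le_of_eq ?_)
    · exact Subgroup.pow_mem _ (hgQ' x.1 ▸ Subgroup.mem_zpowers _) _
    · rw [hcardS, Nat.card_zpowers, hord x]
  have h1 : a.1 = b.1 := Sylow.ext (by rw [← hmem a, ← hmem b, e'])
  refine Prod.ext h1 (Fin.ext ?_)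
  rw [h1] at e'
  have := pow_inj_mod.1 e'
  rw [hgQ, Nat.mod_eq_of_lt (by have := a.2.isLt; omega), Nat.mod_eq_of_lt (by have := b.2.isLt; omega)] at this
  omega

theorem exists_five_witness : ∃ g : M24, orderOf g = 5 ∧ IsConj g (g ^ 2) ∧
    ∃ T : Subgroup M24, Nat.card T = 4 ∧ ∀ t ∈ T, t * g = g * t := by
  classical
  obtain ⟨h5, h5c, -, -, -, hk, hlen, hnd, hone, hmul, hcomm, hconj, -, -, hpow, hne, -⟩ := prime_data
  let g : M24 := ⟨lperm fiveX, lperm_mem h5⟩
  simp only [List.all_eq_true, List.contains_iff_mem, beq_iff_eq] at hk hmul hcomm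
  let T : Subgroup M24 :=
    { carrier := {x | ∃ l ∈ fiveKlein, (x : Equiv.Perm GolayPt) = lperm l}
      one_mem' := ⟨_, hone, by rw [lperm_id]; rfl⟩
      mul_mem' := fun {x y} ⟨a, ha, ea⟩ ⟨b, hb, eb⟩ => ⟨lmul a b, hmul a ha b hb, by
        rw [Subgroup.coe_mul, ea, eb]
        exact rep_unique (rep_mul_list (hk a ha) (hk b hb)) (rep_lperm (m24ok_lok (hk _ (hmul a ha b hb))))⟩
      inv_mem' := fun {x} ⟨a, ha, ea⟩ => by
        obtain ⟨n, hn⟩ := (isOfFinOrder_of_finite x).mem_powers_iff_mem_zpowers.2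
          (inv_mem (Subgroup.mem_zpowers x))
        rw [← hn]
        clear hn
        induction n with
        | zero => exact ⟨_, hone, by rw [lperm_id]; rfl⟩
        | succ n ih =>
          obtain ⟨b, hb, eb⟩ := ih
          refine ⟨lmul b a, hmul b hb a ha, ?_⟩
          show ((x ^ (n + 1) : M24) : Equiv.Perm GolayPt) = _
          rw [pow_succ, Subgroup.coe_mul, eb, ea]
          exact rep_unique (rep_mul_list (hk b hb) (hk a ha)) (rep_lperm (m24ok_lok (hk _ (hmul b hb a ha)))) }
  refine ⟨g, order_of_list (by norm_num) rfl h5 hpow hne,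
    conj_of_list (w := ⟨lperm fiveConj, lperm_mem h5c⟩) rfl rfl h5 h5c hconj, T, ?_, ?_⟩
  · have h1 : Nat.card T = fiveKlein.toFinset.card := by
      rw [← Nat.card_eq_finsetCard]
      refine (Nat.card_congr (Equiv.ofBijective (fun l : fiveKlein.toFinset =>
        (⟨⟨lperm l.1, lperm_mem (hk _ (List.mem_toFinset.1 l.2))⟩, l.1, List.mem_toFinset.1 l.2, rfl⟩ : T))
        ⟨fun u v e => ?_, ?_⟩)).symm
      · exact Subtype.ext (lperm_inj_on (m24ok_lok (hk _ (List.mem_toFinset.1 u.2)))
          (m24ok_lok (hk _ (List.mem_toFinset.1 v.2)))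
          (congrArg (fun t : T => ((t : M24) : Equiv.Perm GolayPt)) e))
      · rintro ⟨x, l, hl, e⟩
        exact ⟨⟨l, List.mem_toFinset.2 hl⟩, Subtype.ext (Subtype.ext e.symm)⟩
    rw [h1, List.toFinset_card_of_nodup hnd, hlen]
  · rintro t ⟨l, hl, e⟩
    refine Subtype.ext ?_
    rw [Subgroup.coe_mul, Subgroup.coe_mul, e]
    exact rep_unique (rep_mul_list (hk l hl) h5) (hcomm l hl ▸ rep_mul_list h5 (hk l hl))

theorem five_facts {h : M24} (hh : orderOf h = 5) : IsConj h (h ^ 2) ∧
    ∃ T : Subgroup M24, Nat.card T = 4 ∧ ∀ t ∈ T, t * h = h * t := by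
  haveI : Fact (Nat.Prime 5) := ⟨by norm_num⟩
  obtain ⟨g, hg, hsq, T, hT, hc⟩ := exists_five_witness
  refine ⟨conj_square (fac_prime 5 (by simp)) hg hh hsq, ?_⟩
  obtain ⟨k, i, rfl⟩ := exists_conj_pow (fac_prime 5 (by simp)) hg hh
  refine ⟨T.map (MulAut.conj k).toMonoidHom,
    by rw [Subgroup.card_map_of_injective (MulEquiv.injective _), hT], ?_⟩
  rintro _ ⟨t, ht, rfl⟩
  exact (((show Commute t g from hc t ht).pow_right i).map (MulAut.conj k).toMonoidHom).eq

theorem five_count : 4080384 ≤ Nat.card {g : M24 // orderOf g = 5} := by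
  obtain ⟨g, hg, -⟩ := exists_five_witness
  have horb : Nat.card (MulAction.orbit (ConjAct M24) g) *
      Nat.card (MulAction.stabilizer (ConjAct M24) g) = 244823040 := by
    rw [← Nat.card_prod, ← card_M24]
    exact Nat.card_congr (MulAction.orbitProdStabilizerEquivGroup (ConjAct M24) g)
  have e2 : Nat.card (MulAction.stabilizer (ConjAct M24) g) =
      Nat.card (Subgroup.centralizer ({g} : Set M24)) := by
    rw [ConjAct.stabilizer_eq_centralizer]
    exact Nat.card_congr (Equiv.refl _)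
  rw [e2] at horb
  have h1 : 4080384 ≤ Nat.card (MulAction.orbit (ConjAct M24) g) := by
    have := Nat.mul_le_mul_left (Nat.card (MulAction.orbit (ConjAct M24) g)) (card_centralizer_five hg)
    omega
  refine h1.trans (Nat.card_le_card_of_injective (fun x => ⟨x.1, ?_⟩) fun a b e => Subtype.ext
    (Subtype.mk.inj e))
  obtain ⟨c, hc⟩ := x.2
  rw [← hc, ← hg]
  show orderOf (ConjAct.ofConjAct c * g * (ConjAct.ofConjAct c)⁻¹) = orderOf g
  rw [← MulAut.conj_apply]
  exact orderOf_injective (MulAut.conj _).toMonoidHom (MulEquiv.injective _) g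

theorem seven_facts' {h : M24} (hh : orderOf h = 7) : IsConj h (h ^ 2) ∧
    ∃ T : Subgroup M24, Nat.card T = 2 ∧ ∀ t ∈ T, t * h = h * t := by
  haveI : Fact (Nat.Prime 7) := ⟨by norm_num⟩
  haveI : Fact (Nat.Prime 2) := ⟨Nat.prime_two⟩
  obtain ⟨-, -, h7, -, -, -, -, -, -, -, -, -, hconj, -, -, -, -⟩ := prime_data
  refine ⟨conj_square (fac_prime 7 (by simp)) orderOf_sevenG hh
    (conj_of_list (w := ⟨lperm sevenConj, lperm_mem h7⟩) rfl rfl seven_facts.1 h7 hconj), ?_⟩
  obtain ⟨-, hC, -⟩ := seven_structure (S := Subgroup.zpowers h) (by rw [Nat.card_zpowers, hh])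
  obtain ⟨x, hx⟩ := exists_prime_orderOf_dvd_card' (G := Subgroup.centralizer
    ((Subgroup.zpowers h : Subgroup M24) : Set M24)) 2 (by rw [hC]; norm_num)
  refine ⟨Subgroup.zpowers (x : M24), by rw [Nat.card_zpowers, Subgroup.orderOf_coe, hx], ?_⟩
  intro t ht
  obtain ⟨i, rfl⟩ := Subgroup.mem_zpowers_iff.1 ht
  exact ((show Commute (x : M24) h from (x.2 h (Subgroup.mem_zpowers h)).symm).zpow_left i).eq

theorem seven_count : 11658240 ≤ Nat.card {g : M24 // orderOf g = 7} := by
  haveI : Fact (Nat.Prime 7) := ⟨by norm_num⟩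
  refine le_trans ?_ (count_of_sylow (fac_prime 7 (by simp)))
  obtain ⟨P⟩ : Nonempty (Sylow 7 M24) := inferInstance
  obtain ⟨hN, -⟩ := seven_structure (S := (P : Subgroup M24))
    (by rw [P.card_eq_multiplicity, fac_prime 7 (by simp), pow_one])
  have h := Subgroup.index_mul_card (Subgroup.normalizer ((P : Subgroup M24) : Set M24))
  rw [hN, card_M24] at h
  rw [P.card_eq_index_normalizer]
  change 11658240 ≤ (Subgroup.normalizer ((P : Subgroup M24) : Set M24)).index * 6
  omega

theorem big_count {p N : ℕ} (hp : (p = 11 ∧ N = 2225664) ∨ (p = 23 ∧ N = 967680)) :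
    N * (p - 1) ≤ Nat.card {g : M24 // orderOf g = p} := by
  classical
  have hp' : p = 11 ∨ p = 23 := by tauto
  have hpr : p.Prime := by rcases hp' with rfl | rfl <;> norm_num
  haveI : Fact p.Prime := ⟨hpr⟩
  have hfac := fac_prime p (by tauto)
  refine le_trans (Nat.mul_le_mul_right _ ?_) (count_of_sylow hfac)
  obtain ⟨P⟩ : Nonempty (Sylow p M24) := inferInstance
  set NP := Subgroup.normalizer ((P : Subgroup M24) : Set M24) with hNP
  have hPc : Nat.card (P : Subgroup M24) = p := by rw [P.card_eq_multiplicity, hfac, pow_one]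
  obtain ⟨g0, hg0⟩ := exists_prime_orderOf_dvd_card' (G := (P : Subgroup M24)) p (by rw [hPc])
  set g : M24 := (g0 : M24) with hgdef
  have hg : orderOf g = p := by rw [hgdef, Subgroup.orderOf_coe]; exact hg0
  let act : NP → {x : (P : Subgroup M24) // x ≠ 1} := fun c =>
    ⟨⟨(c : M24) * g * (c : M24)⁻¹, (Subgroup.mem_normalizer_iff.1 c.2 g).1 g0.2⟩, fun h => by
      have h1 : g = 1 := conj_eq_one_iff.1 (congrArg Subtype.val h)
      rw [h1, orderOf_one] at hg
      exact hpr.one_lt.ne hg⟩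
  have hfib : ∀ y, Nat.card {c : NP // act c = y} ≤ p := by
    intro y
    rcases isEmpty_or_nonempty {c : NP // act c = y} with h | h
    · simp
    obtain ⟨c0, hc0⟩ := h
    refine le_trans ?_ (le_of_eq (card_centralizer_big hp' hg))
    refine Nat.card_le_card_of_injective (fun c => ⟨(c0 : M24)⁻¹ * (c.1 : M24),
      Subgroup.mem_centralizer_singleton_iff.2 ?_⟩) fun u v e => ?_
    · have e : (c.1 : M24) * g * (c.1 : M24)⁻¹ = (c0 : M24) * g * (c0 : M24)⁻¹ :=
        (congrArg (fun z : {x : (P : Subgroup M24) // x ≠ 1} => (z.1 : M24)) c.2).trans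
          (congrArg (fun z : {x : (P : Subgroup M24) // x ≠ 1} => (z.1 : M24)) hc0).symm
      calc (c0 : M24)⁻¹ * (c.1 : M24) * g = (c0 : M24)⁻¹ * ((c.1 : M24) * g * (c.1 : M24)⁻¹) * c.1 := by group
        _ = (c0 : M24)⁻¹ * ((c0 : M24) * g * (c0 : M24)⁻¹) * c.1 := by rw [e]
        _ = g * ((c0 : M24)⁻¹ * c.1) := by group
    · exact Subtype.ext (Subtype.ext (mul_left_cancel (congrArg Subtype.val e)))
  haveI : Fintype {x : (P : Subgroup M24) // x ≠ 1} := Fintype.ofFinite _
  haveI : Fintype (P : Subgroup M24) := Fintype.ofFinite _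
  have hcardP : Fintype.card {x : (P : Subgroup M24) // x ≠ 1} = p - 1 := by
    rw [Fintype.card_subtype_compl, Fintype.card_subtype_eq, ← Nat.card_eq_fintype_card, hPc]
  have hle : Nat.card NP ≤ (p - 1) * p := by
    rw [← Nat.card_congr (Equiv.sigmaFiberEquiv act), Nat.card_sigma]
    refine (Finset.sum_le_card_nsmul _ _ p fun y _ => hfib y).trans ?_
    rw [Finset.card_univ, hcardP]; rfl
  have hpN : p ∣ Nat.card NP := hPc ▸ Subgroup.card_dvd_of_le Subgroup.le_normalizer
  obtain ⟨j, hj⟩ := hpN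
  have hn : Nat.card (Sylow p M24) * (p * j) = 244823040 := by
    rw [← hj, P.card_eq_index_normalizer]
    exact (Subgroup.index_mul_card NP).trans card_M24
  have hmod : Nat.card (Sylow p M24) % p = 1 := by
    have h := card_sylow_modEq_one p M24
    rw [Nat.ModEq, Nat.one_mod_eq_one.2 hpr.one_lt.ne'] at h
    exact h
  have hj1 : j ≤ p - 1 := by
    rw [hj, mul_comm (p - 1) p] at hle
    exact Nat.le_of_mul_le_mul_left hle hpr.pos
  generalize Nat.card (Sylow p M24) = n at hn hmod
  rcases hp with ⟨rfl, rfl⟩ | ⟨rfl, rfl⟩ <;> interval_cases j <;> omega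

theorem twentythree_square {h : M24} (hh : orderOf h = 23) : IsConj h (h ^ 2) := by
  haveI : Fact (Nat.Prime 23) := ⟨by norm_num⟩
  obtain ⟨-, -, -, hX, hW, -, -, -, -, -, -, -, -, hconj, -, -, hpow, hne⟩ := prime_data
  exact conj_square (fac_prime 23 (by simp))
    (order_of_list (g := ⟨lperm shiftX, lperm_mem hX⟩) (by norm_num) rfl hX hpow hne) hh
    (conj_of_list (w := ⟨lperm shiftConj, lperm_mem hW⟩) rfl rfl hX hW hconj)

/-- powers are conjugate to the element or its inverse -/
theorem conj_powers {h : M24} {p : ℕ} (hp : p = 5 ∨ p = 7 ∨ p = 23) (hh : orderOf h = p)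
    (hsq : IsConj h (h ^ 2)) : ∀ k : ℕ, ¬ p ∣ k → IsConj h (h ^ k) ∨ IsConj h⁻¹ (h ^ k) := by
  obtain ⟨c, hc⟩ := isConj_iff.1 hsq
  have hpow : ∀ i : ℕ, IsConj h (h ^ 2 ^ i) := by
    intro i
    induction i with
    | zero => simpa using IsConj.refl h
    | succ i ih =>
      refine ih.trans (isConj_iff.2 ⟨c, ?_⟩)
      rw [← conj_pow, hc, ← pow_mul, pow_succ']
  have key : ∀ r < p, r ≠ 0 → ∃ i < p, r = 2 ^ i % p ∨ (r + 2 ^ i) % p = 0 := by
    rcases hp with rfl | rfl | rfl <;> decide +kernel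
  intro k hk
  have hr0 : k % p ≠ 0 := fun h0 => hk (Nat.dvd_of_mod_eq_zero h0)
  obtain ⟨i, -, hi | hi⟩ := key _ (Nat.mod_lt _ (by rcases hp with rfl | rfl | rfl <;> norm_num)) hr0
  · left
    rw [← pow_mod_orderOf, hh, hi, ← hh, pow_mod_orderOf]
    exact hpow i
  · right
    have e : h ^ k = (h ^ 2 ^ i)⁻¹ := by
      refine eq_inv_of_mul_eq_one_left ?_
      rw [← pow_mod_orderOf h k, hh, ← pow_add, ← pow_mod_orderOf, hh, hi, pow_zero]
    rw [e]
    obtain ⟨d, hd⟩ := isConj_iff.1 (hpow i)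
    exact isConj_iff.2 ⟨d, by rw [← hd]; group⟩

end Cfsg.Agent.Spor.M24Block
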