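import Cfsg.Agent.Lib.Spor.OctCentData
import Cfsg.Agent.Lib.Spor.GolayElemFacts

/-!
Packed listed elements of the length-24 group and the subgroups they span.
-/

set_option autoImplicit false
set_option maxRecDepth 100000

namespace Cfsg.Agent.Spor.OctCent

open Cfsg.Agent.Spor
open scoped Pointwise

theorem repP_unique {σ τ : Equiv.Perm Cfsg.GolayPt} {v : ℕ} (h : RepP σ v) (h' : RepP τ v) : σ = τ :=
  Equiv.ext fun p => idx_injective ((h p).symm.trans (h' p))

/-- a packed element of the group -/
def Ok (v : ℕ) : Prop := ∃ σ, σ ∈ Cfsg.M24 ∧ RepP σ v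

open scoped Classical in
/-- a conjugate of the element with given packed images -/
noncomputable def el (c : Cfsg.M24) (v : ℕ) : Cfsg.M24 :=
  MulAut.conj c (if h : Ok v then ⟨h.choose, h.choose_spec.1⟩ else 1)

theorem el_of (c : Cfsg.M24) {σ : Equiv.Perm Cfsg.GolayPt} (hσ : σ ∈ Cfsg.M24) {v : ℕ} (hv : RepP σ v) :
    el c v = MulAut.conj c ⟨σ, hσ⟩ := by
  have h : Ok v := ⟨σ, hσ, hv⟩
  rw [el, dif_pos h]
  congr 1
  exact Subtype.ext (repP_unique h.choose_spec.2 hv)

theorem ok_list {l : List ℕ} (h : m24ok l = true) : Ok (packList l) :=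
  ⟨lperm l, lperm_mem h, (rep_lperm (m24ok_lok h)).repP (lok_lt (m24ok_lok h))⟩

/-- the packed identity -/
def idV : ℕ := 984818244535754528103549039458486304

theorem idV_spec : ∀ i, i < 24 → nget idV i = i := by decide +kernel

theorem repP_one : RepP 1 idV := fun p => idV_spec _ (idx_lt p)

theorem ok_id : Ok idV := ⟨1, one_mem _, repP_one⟩

theorem el_id (c : Cfsg.M24) : el c idV = 1 := by
  rw [el_of c (one_mem _) repP_one, show (⟨1, one_mem _⟩ : Cfsg.M24) = 1 from rfl, map_one]

/-- product check -/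
def mulOK (a b d : ℕ) : Bool := (List.range 24).all fun i => nget a (nget b i) == nget d i

/-- equality of two products -/
def eq2 (a b a' b' : ℕ) : Bool := (List.range 24).all fun i => nget a (nget b i) == nget a' (nget b' i)

/-- equality of a product of two and a product of three -/
def eq3 (a b a' b' d' : ℕ) : Bool :=
  (List.range 24).all fun i => nget a (nget b i) == nget a' (nget b' (nget d' i))

theorem allRange {P : ℕ → ℕ} {Q : ℕ → ℕ} (h : ((List.range 24).all fun i => P i == Q i) = true)
    (p : Cfsg.GolayPt) : P (idx p) = Q (idx p) :=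
  beq_iff_eq.1 (List.all_eq_true.1 h _ (List.mem_range.2 (idx_lt p)))

theorem mul_ok (c : Cfsg.M24) {a b d : ℕ} (ha : Ok a) (hb : Ok b) (h : mulOK a b d = true) :
    Ok d ∧ el c a * el c b = el c d := by
  obtain ⟨σ, hσ, rσ⟩ := ha
  obtain ⟨τ, hτ, rτ⟩ := hb
  have r : RepP (σ * τ) d := fun p => by
    rw [← allRange h p, rτ p, rσ (τ p)]; rfl
  refine ⟨⟨_, mul_mem hσ hτ, r⟩, ?_⟩
  rw [el_of c hσ rσ, el_of c hτ rτ, el_of c (mul_mem hσ hτ) r, ← map_mul]
  rfl

theorem el_two (c : Cfsg.M24) {a b a' b' : ℕ} (ha : Ok a) (hb : Ok b) (ha' : Ok a') (hb' : Ok b') :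
    el c a * el c b = el c a' * el c b' ↔ eq2 a b a' b' = true := by
  obtain ⟨σ, hσ, rσ⟩ := ha
  obtain ⟨τ, hτ, rτ⟩ := hb
  obtain ⟨σ', hσ', rσ'⟩ := ha'
  obtain ⟨τ', hτ', rτ'⟩ := hb'
  rw [el_of c hσ rσ, el_of c hτ rτ, el_of c hσ' rσ', el_of c hτ' rτ', ← map_mul, ← map_mul,
    (MulAut.conj c).injective.eq_iff]
  constructor
  · intro h
    have h' : σ * τ = σ' * τ' := congrArg Subtype.val h
    refine List.all_eq_true.2 fun i hi => beq_iff_eq.2 ?_
    rw [← idx_pt i (List.mem_range.1 hi), rτ (pt i), rσ (τ (pt i)), rτ' (pt i), rσ' (τ' (pt i))]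
    exact congrArg idx (Equiv.congr_fun h' (pt i))
  · intro h
    refine Subtype.ext (Equiv.ext fun p => idx_injective ?_)
    have := allRange h p
    rw [rτ p, rσ (τ p), rτ' p, rσ' (τ' p)] at this
    exact this

theorem el_three (c : Cfsg.M24) {a b a' b' d' : ℕ} (ha : Ok a) (hb : Ok b) (ha' : Ok a') (hb' : Ok b')
    (hd' : Ok d') :
    el c a * el c b = el c a' * (el c b' * el c d') ↔ eq3 a b a' b' d' = true := by
  obtain ⟨σ, hσ, rσ⟩ := ha
  obtain ⟨τ, hτ, rτ⟩ := hb
  obtain ⟨σ', hσ', rσ'⟩ := ha'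
  obtain ⟨τ', hτ', rτ'⟩ := hb'
  obtain ⟨υ', hυ', rυ'⟩ := hd'
  rw [el_of c hσ rσ, el_of c hτ rτ, el_of c hσ' rσ', el_of c hτ' rτ', el_of c hυ' rυ', ← map_mul, ← map_mul,
    ← map_mul, (MulAut.conj c).injective.eq_iff]
  constructor
  · intro h
    have h' : σ * τ = σ' * (τ' * υ') := congrArg Subtype.val h
    refine List.all_eq_true.2 fun i hi => beq_iff_eq.2 ?_
    rw [← idx_pt i (List.mem_range.1 hi), rτ (pt i), rσ (τ (pt i)), rυ' (pt i), rτ' (υ' (pt i)),
      rσ' (τ' (υ' (pt i)))]
    exact congrArg idx (Equiv.congr_fun h' (pt i))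
  · intro h
    refine Subtype.ext (Equiv.ext fun p => idx_injective ?_)
    have := allRange h p
    rw [rτ p, rσ (τ p), rυ' p, rτ' (υ' p), rσ' (τ' (υ' p))] at this
    exact this

theorem eq_of_nget {v w : ℕ} (hv : v < 2 ^ 120) (hw : w < 2 ^ 120) (h : ∀ i, i < 24 → nget v i = nget w i) :
    v = w := by
  refine Nat.eq_of_testBit_eq fun j => ?_
  by_cases hj : j < 120
  · have := congrArg (fun x => Nat.testBit x (j % 5)) (h (j / 5) (by omega))
    simp only [nget, show (31 : ℕ) = 2 ^ 5 - 1 from rfl, Nat.testBit_and, Nat.testBit_two_pow_sub_one,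
      Nat.testBit_shiftRight] at this
    rw [show 5 * (j / 5) + j % 5 = j from Nat.div_add_mod j 5,
      show decide (j % 5 < 5) = true from decide_eq_true (Nat.mod_lt _ (by norm_num))] at this
    simpa using this
  · have hle : 2 ^ 120 ≤ 2 ^ j := Nat.pow_le_pow_right (by norm_num) (by omega)
    rw [Nat.testBit_lt_two_pow (lt_of_lt_of_le hv hle), Nat.testBit_lt_two_pow (lt_of_lt_of_le hw hle)]

theorem el_inj (c : Cfsg.M24) {a b : ℕ} (ha : Ok a) (hb : Ok b) (ha' : a < 2 ^ 120) (hb' : b < 2 ^ 120)
    (h : el c a = el c b) : a = b := by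
  obtain ⟨σ, hσ, rσ⟩ := ha
  obtain ⟨τ, hτ, rτ⟩ := hb
  rw [el_of c hσ rσ, el_of c hτ rτ, (MulAut.conj c).injective.eq_iff] at h
  obtain rfl : σ = τ := congrArg Subtype.val h
  exact eq_of_nget ha' hb' fun i hi => by rw [← idx_pt i hi, rσ (pt i), rτ (pt i)]

/-- a checked enumeration of the group generated by a list -/
def TableOK (gens L : List ℕ) (par : List (ℕ × ℕ)) (succ : List (List ℕ)) : Bool :=
  L.head? == some idV && par.length + 1 == L.length && succ.length == gens.length &&
    (gens.zip succ).all (fun r => r.2.length == L.length &&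
      (L.zip r.2).all fun p => decide (p.2 < L.length) && mulOK r.1 p.1 (L.getD p.2 0)) &&
    (List.range par.length).all (fun i => let p := par.getD i (0, 0)
      decide (p.2 ≤ i) && decide (p.1 < gens.length) &&
        mulOK (gens.getD p.1 0) (L.getD p.2 0) (L.getD (i + 1) 0)) &&
    L.all (fun v => decide (v < 2 ^ 120))

variable {gens L : List ℕ} {par : List (ℕ × ℕ)} {succ : List (List ℕ)}

theorem table_lt (h : TableOK gens L par succ = true) {v : ℕ} (hv : v ∈ L) : v < 2 ^ 120 := by
  simp only [TableOK, Bool.and_eq_true, List.all_eq_true, decide_eq_true_eq] at h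
  exact h.2 v hv

theorem table_closed (h : TableOK gens L par succ = true) {r i : ℕ} (hr : r < gens.length) (hi : i < L.length) :
    (succ.getD r []).getD i 0 < L.length ∧
      mulOK (gens.getD r 0) (L.getD i 0) (L.getD ((succ.getD r []).getD i 0) 0) = true := by
  simp only [TableOK, Bool.and_eq_true, beq_iff_eq, List.all_eq_true, decide_eq_true_eq] at h
  obtain ⟨⟨⟨⟨-, hlen⟩, hall⟩, -⟩, -⟩ := h
  have hr' : r < succ.length := hlen ▸ hr
  have hz : (gens[r], succ[r]) ∈ gens.zip succ :=
    List.mem_iff_getElem.2 ⟨r, by rw [List.length_zip]; omega, by rw [List.getElem_zip]⟩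
  obtain ⟨hl, hp⟩ := hall _ hz
  rw [List.getD_eq_getElem _ _ hr', List.getD_eq_getElem _ _ hr, List.getD_eq_getElem _ _ hi]
  have hi' : i < succ[r].length := hl.symm ▸ hi
  rw [List.getD_eq_getElem _ _ hi']
  exact hp (L[i], succ[r][i])
    (List.mem_iff_getElem.2 ⟨i, by rw [List.length_zip]; omega, by rw [List.getElem_zip]⟩)

theorem table_reached (h : TableOK gens L par succ = true) {i : ℕ} (hi : i + 1 < L.length) :
    (par.getD i (0, 0)).2 ≤ i ∧ (par.getD i (0, 0)).1 < gens.length ∧
      mulOK (gens.getD (par.getD i (0, 0)).1 0) (L.getD (par.getD i (0, 0)).2 0) (L.getD (i + 1) 0) = true := by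
  simp only [TableOK, Bool.and_eq_true, beq_iff_eq, List.all_eq_true, decide_eq_true_eq] at h
  obtain ⟨⟨⟨⟨⟨-, hlen⟩, -⟩, -⟩, hall⟩, -⟩ := h
  have := hall i (List.mem_range.2 (by omega))
  exact ⟨this.1.1, this.1.2, this.2⟩

theorem table_head (h : TableOK gens L par succ = true) : L.getD 0 0 = idV ∧ 0 < L.length := by
  simp only [TableOK, Bool.and_eq_true, beq_iff_eq] at h
  have h1 := h.1.1.1.1.1
  cases L with
  | nil => simp at h1
  | cons a t => exact ⟨Option.some.inj h1, Nat.succ_pos _⟩

theorem table_ok (h : TableOK gens L par succ = true) (hg : ∀ g ∈ gens, Ok g) :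
    ∀ v ∈ L, Ok v := by
  intro v hv
  obtain ⟨i, hi, rfl⟩ := List.getElem_of_mem hv
  rw [← List.getD_eq_getElem _ 0 hi]
  clear hv
  induction i using Nat.strong_induction_on with
  | _ i ih =>
    rcases i with - | i
    · rw [(table_head h).1]; exact ok_id
    · obtain ⟨h1, h2, h3⟩ := table_reached h hi
      exact (mul_ok 1 (hg _ (by rw [List.getD_eq_getElem _ _ h2]; exact List.getElem_mem _))
        (ih _ (by omega) (by omega)) h3).1

/-- the subgroup generated by a list -/
noncomputable def span (c : Cfsg.M24) (gens : List ℕ) : Subgroup Cfsg.M24 :=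
  Subgroup.closure {x | ∃ g ∈ gens, el c g = x}

theorem mem_span (c : Cfsg.M24) (h : TableOK gens L par succ = true) (hg : ∀ g ∈ gens, Ok g) (x : Cfsg.M24) :
    x ∈ span c gens ↔ ∃ v ∈ L, el c v = x := by
  classical
  have hok := table_ok h hg
  constructor
  · intro hx
    let S : Set Cfsg.M24 := {x | ∃ v ∈ L, el c v = x}
    have hfin : S.Finite := Set.toFinite S
    have key : ∀ y ∈ span c gens, ∀ s ∈ S, y * s ∈ S := by
      intro y hy
      induction hy using Subgroup.closure_induction with
      | mem z hz =>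
        obtain ⟨g, hg', rfl⟩ := hz
        rintro _ ⟨a, ha, rfl⟩
        obtain ⟨r, hr, rfl⟩ := List.getElem_of_mem hg'
        obtain ⟨i, hi, rfl⟩ := List.getElem_of_mem ha
        obtain ⟨h1, h2⟩ := table_closed h hr hi
        rw [← List.getD_eq_getElem _ 0 hr, ← List.getD_eq_getElem _ 0 hi]
        refine ⟨_, by rw [List.getD_eq_getElem _ _ h1]; exact List.getElem_mem _, ((mul_ok c ?_ ?_ h2).2).symm⟩
        · rw [List.getD_eq_getElem _ _ hr]; exact hg _ hg'
        · rw [List.getD_eq_getElem _ _ hi]; exact hok _ ha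
      | one => intro s hs; rwa [one_mul]
      | mul a b _ _ ha hb => intro s hs; rw [mul_assoc]; exact ha _ (hb s hs)
      | inv a _ ha =>
        intro s hs
        obtain ⟨t, ht, e⟩ := ((Set.Finite.injOn_iff_bijOn_of_mapsTo (f := fun t => a * t) hfin ha).1
          (mul_right_injective a).injOn).surjOn hs
        rw [← e]
        show a⁻¹ * (a * t) ∈ S
        rwa [inv_mul_cancel_left]
    obtain ⟨h0, hlen⟩ := table_head h
    have h1 := key x hx 1 ⟨_, by rw [← h0, List.getD_eq_getElem _ _ hlen]; exact List.getElem_mem _, el_id c⟩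
    rwa [mul_one] at h1
  · rintro ⟨v, hv, rfl⟩
    obtain ⟨i, hi, rfl⟩ := List.getElem_of_mem hv
    rw [← List.getD_eq_getElem _ 0 hi]
    clear hv
    induction i using Nat.strong_induction_on with
    | _ i ih =>
      rcases i with - | i
      · rw [(table_head h).1, el_id]; exact one_mem _
      · obtain ⟨h1, h2, h3⟩ := table_reached h hi
        have hgm : gens.getD (par.getD i (0, 0)).1 0 ∈ gens := by
          rw [List.getD_eq_getElem _ _ h2]; exact List.getElem_mem _
        have hLm : L.getD (par.getD i (0, 0)).2 0 ∈ L := by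
          rw [List.getD_eq_getElem _ _ (by omega)]; exact List.getElem_mem _
        rw [← (mul_ok c (hg _ hgm) (hok _ hLm) h3).2]
        exact mul_mem (Subgroup.subset_closure ⟨_, hgm, rfl⟩) (ih _ (by omega) (by omega))

theorem card_span (c : Cfsg.M24) (h : TableOK gens L par succ = true) (hg : ∀ g ∈ gens, Ok g)
    (hnd : L.Nodup) : Nat.card (span c gens) = L.length := by
  classical
  have hok := table_ok h hg
  have e : ↥L.toFinset ≃ ↥(span c gens) := Equiv.ofBijective
    (fun v => ⟨el c v.1, (mem_span c h hg _).2 ⟨_, List.mem_toFinset.1 v.2, rfl⟩⟩)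
    ⟨fun a b e => Subtype.ext (el_inj c (hok _ (List.mem_toFinset.1 a.2)) (hok _ (List.mem_toFinset.1 b.2))
        (table_lt h (List.mem_toFinset.1 a.2)) (table_lt h (List.mem_toFinset.1 b.2)) (congrArg Subtype.val e)),
     fun x => by
      obtain ⟨v, hv, e⟩ := (mem_span c h hg _).1 x.2
      exact ⟨⟨v, List.mem_toFinset.2 hv⟩, Subtype.ext e⟩⟩
  rw [← Nat.card_congr e, Nat.card_eq_fintype_card, Fintype.card_coe, List.toFinset_card_of_nodup hnd]

/-! ### the certificates -/

/-- packed base element -/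
def baseV (i : ℕ) : ℕ := packList (baseLists.getD i [])

/-- generators of the two-subgroup -/
def qGens : List ℕ := qGenLists.map packList

/-- generators of the elementary abelian subgroup -/
def eGens : List ℕ := eGenLists.map packList

/-- generators of the complement -/
def kGens : List ℕ := [baseV 1, baseV 2]

/-- mask of the fixed points -/
def fixMaskP (v : ℕ) : ℕ := listMask ((List.range 24).filter fun i => nget v i == i)

/-- the matrix with a given code -/
def mat (c : ℕ) : Matrix (Fin 3) (Fin 3) (ZMod 2) :=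
  Matrix.of fun i j => if Nat.testBit c (3 * i.val + j.val) then 1 else 0

/-- the code of a matrix -/
def codeOf (M : Matrix (Fin 3) (Fin 3) (ZMod 2)) : ℕ :=
  ((List.finRange 3).flatMap fun i => (List.finRange 3).map fun j => (M i j).val * 2 ^ (3 * i.val + j.val)).sum

theorem lists_ok : baseLists.all m24ok = true ∧ qGenLists.all m24ok = true ∧ eGenLists.all m24ok = true ∧
    baseLists.length = 6 := by decide +kernel

theorem q_table : TableOK qGens qElems qParents qSucc = true ∧ qElems.Nodup ∧ qElems.length = 128 := by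
  decide +kernel

theorem e_table : TableOK eGens eElems eParents eSucc = true ∧ eElems.Nodup ∧ eElems.length = 16 := by
  decide +kernel

theorem k_table : TableOK kGens kElems kParents kSucc = true ∧ kElems.Nodup ∧ kElems.length = 168 ∧
    kCodes.length = 168 ∧ kCodes.Nodup := by
  decide +kernel

theorem k_mat_closed : (kCodes.zip (kSucc.getD 0 [])).all (fun p => decide (mat (kCodes.getD p.2 0) = mat 84 * mat p.1)) = true ∧
    (kCodes.zip (kSucc.getD 1 [])).all (fun p => decide (mat (kCodes.getD p.2 0) = mat 174 * mat p.1)) = true ∧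
    kCodes.getD 0 0 = 273 ∧ mat 273 = 1 ∧ (mat 84).det = 1 ∧ (mat 174).det = 1 := by
  decide +kernel

theorem k_mat_inj : kCodes.all (fun c => codeOf (mat c) == c && decide ((mat c).det = 1)) = true := by
  decide +kernel

theorem z_facts : qElems.elem (baseV 0) = true ∧ mulOK (baseV 0) (baseV 0) idV = true ∧ baseV 0 ≠ idV ∧
    qGens.all (fun g => eq2 g (baseV 0) (baseV 0) g) = true ∧
    kGens.all (fun g => eq2 g (baseV 0) (baseV 0) g) = true ∧ fixMaskP (baseV 0) = 5279 := by decide +kernel

theorem e_facts : eElems.all (fun a => qElems.elem a && mulOK a a idV && (a == idV || fixMaskP a == 5279)) = true ∧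
    eGens.all (fun g => eElems.all fun a => eq2 g a a g) = true := by decide +kernel

theorem q_facts : qElems.all (fun a => (mulOK a a idV || mulOK a a (baseV 0)) &&
    qGens.all (fun g => eq2 a g g a || eq3 a g (baseV 0) g a) &&
    (a == idV || a == baseV 0 || qGens.any (fun g => !(eq2 a g g a)))) = true := by decide +kernel

theorem k_facts : (kElems.zip kWitness).all (fun p => p.1 == idV ||
    (let g := qGens.getD p.2 0
     !(qElems.elem p.1) && decide (p.2 < qGens.length) && !(eq2 p.1 g g p.1) &&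
       !(eq3 p.1 g (baseV 0) g p.1))) = true ∧ kWitness.length = 168 := by decide +kernel

theorem k_normalises : ((List.range 2).all fun r => (List.range qGens.length).all fun s =>
    let j := (kNorm.getD r []).getD s 0
    decide (j < qElems.length) &&
      eq2 (kGens.getD r 0) (qGens.getD s 0) (qElems.getD j 0) (kGens.getD r 0)) = true := by decide +kernel

theorem signalizer_facts : qElems.elem (baseV 3) = true ∧ mulOK (baseV 3) (baseV 3) idV = true ∧
    eq2 (baseV 3) (baseV 0) (baseV 0) (baseV 3) = true ∧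
    eq2 (baseV 4) (baseV 0) (baseV 3) (baseV 4) = true ∧
    eq3 (baseV 5) (baseV 0) (baseV 3) (baseV 0) (baseV 5) = true ∧
    decide (conjPos.1 < qElems.length) = true ∧ decide (conjPos.2 < qElems.length) = true ∧
    eq2 (baseV 0) (baseV 4) (baseV 4) (qElems.getD conjPos.1 0) = true ∧
    eq2 (baseV 0) (baseV 5) (baseV 5) (qElems.getD conjPos.2 0) = true := by decide +kernel

end Cfsg.Agent.Spor.OctCent
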