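import Cfsg.Prelude.Def_MonsterType
import Cfsg.Agent.Lib.Solv.Cores
import Cfsg.Agent.Lib.Solv.Extraspecial

/-!
The centralizer of a transvection in `SL(n+2, 2)` and its large extraspecial subgroup.
-/

set_option autoImplicit false
set_option linter.unusedSectionVars false

namespace Cfsg.Agent.Spor.TransLarge

open Matrix
open scoped commutatorElement

section generic

variable {G : Type*} [Group G] [Finite G]

theorem eq_one_of_odd_two {x : G} {K P : Subgroup G} (hK : Odd (Nat.card K)) (hP : IsPGroup 2 P)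
    (hxK : x ∈ K) (hxP : x ∈ P) : x = 1 := by
  obtain ⟨k, hk⟩ := hP ⟨x, hxP⟩
  have h1 : orderOf x ∣ 2 ^ k := orderOf_dvd_of_pow_eq_one (congrArg Subtype.val hk)
  have h2 : orderOf x ∣ Nat.card K := Subgroup.orderOf_mk x hxK ▸ orderOf_dvd_natCard _
  have hc : Nat.Coprime (2 ^ k) (Nat.card K) := (Nat.coprime_two_left.2 hK).pow_left k
  exact orderOf_eq_one_iff.1 (Nat.eq_one_of_dvd_coprimes hc h1 h2)

/-- an odd subgroup normalised by `Q` is trivial -/
theorem odd_trivial {z u : G} {Q : Subgroup G} (hQp : IsPGroup 2 Q) (hzQ : z ∈ Q) (huQ : u ∈ Q)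
    (hz2 : z * z = 1) (hu2 : u * u = 1) (hzu : z * u = u * z)
    (hcent : ∀ x : G, (∀ q ∈ Q, q * x = x * q) → x = 1 ∨ x = z)
    (hnorm : ∀ x : G, x * z = z * x → ∀ q ∈ Q, x * q * x⁻¹ ∈ Q)
    {g h : G} (hg : g * z * g⁻¹ = u) (hgz : g⁻¹ * z * g ∈ Q)
    (hh : h * z * h⁻¹ = u * z) (hhz : h⁻¹ * z * h ∈ Q)
    {K : Subgroup G} (hK : Odd (Nat.card K)) (hQK : Q ≤ Subgroup.normalizer (K : Set G)) : K = ⊥ := by
  have hconj : ∀ q ∈ Q, ∀ x ∈ K, q * x * q⁻¹ ∈ K := fun q hq x hx =>
    (Subgroup.mem_normalizer_iff.1 (hQK hq) x).1 hx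
  have hCz : ∀ x ∈ K, x * z = z * x → x = 1 := by
    intro x hx hxz
    refine (hcent x fun q hq => ?_).elim id fun e => ?_
    · have h1 : x * q * x⁻¹ * q⁻¹ ∈ Q := mul_mem (hnorm x hxz q hq) (inv_mem hq)
      have h2 : x * q * x⁻¹ * q⁻¹ ∈ K := by
        rw [show x * q * x⁻¹ * q⁻¹ = x * (q * x⁻¹ * q⁻¹) by group]
        exact mul_mem hx (hconj q hq _ (inv_mem hx))
      exact (mul_inv_eq_iff_eq_mul.1 (mul_inv_eq_one.1 (eq_one_of_odd_two hK hQp h2 h1))).symm
    · exact eq_one_of_odd_two hK hQp hx (e ▸ hzQ)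
  have hCu : ∀ (k : G), k⁻¹ * z * k ∈ Q → ∀ x ∈ K, x * (k * z * k⁻¹) = (k * z * k⁻¹) * x → x = 1 := by
    intro k hk x hx hxu
    refine hCz x hx ?_
    have hy : (k⁻¹ * x * k) * z = z * (k⁻¹ * x * k) := by
      calc (k⁻¹ * x * k) * z = k⁻¹ * (x * (k * z * k⁻¹)) * k := by group
        _ = k⁻¹ * (k * z * k⁻¹ * x) * k := by rw [hxu]
        _ = z * (k⁻¹ * x * k) := by group
    have h1 := mul_mem (hnorm _ hy _ hk) (inv_mem hk)
    have h2 : (k⁻¹ * x * k) * (k⁻¹ * z * k) * (k⁻¹ * x * k)⁻¹ * (k⁻¹ * z * k)⁻¹ =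
        k⁻¹ * (x * z * x⁻¹ * z⁻¹) * k := by group
    rw [h2] at h1
    have hP : IsPGroup 2 (Q.map (MulAut.conj k).toMonoidHom) := hQp.map _
    have h3 : x * z * x⁻¹ * z⁻¹ ∈ Q.map (MulAut.conj k).toMonoidHom :=
      ⟨_, h1, by simp [mul_assoc]⟩
    have h4 : x * z * x⁻¹ * z⁻¹ ∈ K := by
      rw [show x * z * x⁻¹ * z⁻¹ = x * (z * x⁻¹ * z⁻¹) by group]
      exact mul_mem hx (hconj z hzQ _ (inv_mem hx))
    exact mul_inv_eq_iff_eq_mul.1 (mul_inv_eq_one.1 (eq_one_of_odd_two hK hP h4 h3))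
  have hcu : ∀ x ∈ K, x * u = u * x → x = 1 := fun x hx e => hCu g hgz x hx (by rw [hg]; exact e)
  have hcw : ∀ x ∈ K, x * (u * z) = (u * z) * x → x = 1 := fun x hx e => hCu h hhz x hx (by rw [hh]; exact e)
  have hinv : ∀ (t : G), t ∈ Q → t * t = 1 → (∀ x ∈ K, x * t = t * x → x = 1) →
      ∀ x ∈ K, t * x * t = x⁻¹ := by
    intro t ht ht2 hfix
    have hti : t⁻¹ = t := inv_eq_of_mul_eq_one_right ht2
    let f : K → K := fun x => ⟨(x : G)⁻¹ * (t * x * t), mul_mem (inv_mem x.2) (by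
      have := hconj t ht x x.2; rwa [hti] at this)⟩
    have hf : Function.Injective f := by
      intro x y e
      have e' : (x : G)⁻¹ * (t * x * t) = (y : G)⁻¹ * (t * y * t) := congrArg Subtype.val e
      have h1 : (y : G) * (x : G)⁻¹ = t * ((y : G) * (x : G)⁻¹) * t := by
        calc (y : G) * (x : G)⁻¹
            = y * ((x : G)⁻¹ * (t * x * t)) * (t * x * t)⁻¹ := by group
          _ = t * ((y : G) * (x : G)⁻¹) * t := by
            rw [e', _root_.mul_inv_rev, _root_.mul_inv_rev, hti]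
            simp only [mul_assoc, mul_inv_cancel_left]
            rw [← mul_assoc t t, ht2, one_mul]
      have h2 := hfix _ (mul_mem y.2 (inv_mem x.2)) (by
        nth_rw 1 [h1]; rw [mul_assoc _ t t, ht2, mul_one])
      exact Subtype.ext (mul_inv_eq_one.1 h2).symm
    intro x hx
    obtain ⟨y, hy⟩ := (Finite.injective_iff_surjective.1 hf) ⟨x, hx⟩
    have hy' : (y : G)⁻¹ * (t * y * t) = x := congrArg Subtype.val hy
    rw [← hy', _root_.mul_inv_rev, inv_inv, _root_.mul_inv_rev, _root_.mul_inv_rev, hti]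
    simp only [mul_assoc]
    rw [ht2, mul_one]
  refine (Subgroup.eq_bot_iff_forall K).2 fun x hx => ?_
  have h1 := hinv z hzQ hz2 hCz x hx
  have h2 := hinv u huQ hu2 hcu x hx
  refine hcw x hx ?_
  have h3 : z * x⁻¹ * z = x := by
    rw [← h1]; simp only [mul_assoc]; rw [hz2, mul_one, ← mul_assoc z z, hz2, one_mul]
  have h4 : z * (u * x * u) * z = x := by rw [h2, h3]
  have e : z * u * x * (u * z) = x := by simpa only [mul_assoc] using h4
  calc x * (u * z) = z * u * x * (u * z) * (u * z) := by rw [e]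
    _ = z * u * x * ((u * z) * (u * z)) := by simp only [mul_assoc]
    _ = (u * z) * x := by
      rw [hzu, show (u * z) * (u * z) = u * (z * u) * z by simp only [mul_assoc], hzu,
        show u * (u * z) * z = (u * u) * (z * z) by simp only [mul_assoc], hu2, hz2, one_mul, mul_one]

end generic

abbrev F2 := ZMod 2

variable {n : ℕ}

/-- the natural action -/
local instance glAction : MulAction (GL (Fin n) F2) (Fin n → F2) where
  smul g v := (g : Matrix (Fin n) (Fin n) F2) *ᵥ v
  one_smul v := Matrix.one_mulVec v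
  mul_smul g h v := (Matrix.mulVec_mulVec v _ _).symm

theorem gl_smul (g : GL (Fin n) F2) (v : Fin n → F2) : g • v = (g : Matrix (Fin n) (Fin n) F2) *ᵥ v := rfl

theorem two_cases : ∀ a : F2, a = 0 ∨ a = 1 := by decide

/-- the general linear group is transitive on non-zero vectors -/
theorem exists_move {v w : Fin n → F2} (hv : v ≠ 0) (hw : w ≠ 0) : ∃ g : GL (Fin n) F2, g • v = w := by
  rcases eq_or_ne v w with rfl | hne
  · exact ⟨1, one_smul _ _⟩
  obtain ⟨φ, hφv, hφw⟩ : ∃ φ : Fin n → F2, φ ⬝ᵥ v = 1 ∧ φ ⬝ᵥ w = 1 := by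
    obtain ⟨i, hi⟩ := Function.ne_iff.1 hv
    obtain ⟨j, hj⟩ := Function.ne_iff.1 hw
    have hi' : v i = 1 := (two_cases _).resolve_left hi
    have hj' : w j = 1 := (two_cases _).resolve_left hj
    rcases two_cases (w i) with h1 | h1
    · rcases two_cases (v j) with h2 | h2
      · exact ⟨Pi.single i 1 + Pi.single j 1, by simp [add_dotProduct, hi', h2],
          by simp [add_dotProduct, h1, hj']⟩
      · exact ⟨Pi.single j 1, by simp [h2], by simp [hj']⟩
    · exact ⟨Pi.single i 1, by simp [hi'], by simp [h1]⟩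
  have hsq : (1 + vecMulVec (v + w) φ) * (1 + vecMulVec (v + w) φ) = (1 : Matrix (Fin n) (Fin n) F2) := by
    rw [mul_add, add_mul, add_mul, one_mul, one_mul, mul_one, Matrix.vecMulVec_mul_vecMulVec,
      show φ ⬝ᵥ (v + w) = 0 by rw [dotProduct_add, hφv, hφw]; rfl, zero_smul, Matrix.vecMulVec_zero, add_zero,
      add_assoc, ZModModule.add_self, add_zero]
  refine ⟨⟨_, _, hsq, hsq⟩, ?_⟩
  show (1 + vecMulVec (v + w) φ) *ᵥ v = w
  rw [add_mulVec, one_mulVec, vecMulVec_mulVec, hφv]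
  simp only [MulOpposite.op_one, one_smul]
  rw [← add_assoc, ZModModule.add_self, zero_add]

theorem eq_one_of_fix {g : GL (Fin n) F2} (h : ∀ v : Fin n → F2, g • v = v) : g = 1 :=
  Units.ext (Matrix.ext_of_mulVec_single fun i => (h _).trans (Matrix.one_mulVec _).symm)

theorem normal_two_trivial {N : Subgroup (GL (Fin n) F2)} (hNn : N.Normal) (hN : IsPGroup 2 N) : N = ⊥ := by
  haveI : Fact (Nat.Prime 2) := ⟨Nat.prime_two⟩
  refine (Subgroup.eq_bot_iff_forall N).2 fun g hg => ?_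
  by_contra hne
  obtain ⟨v0, hv0⟩ : ∃ v : Fin n → F2, g • v ≠ v := by
    by_contra hall
    push Not at hall
    exact hne (eq_one_of_fix hall)
  have hn0 : n ≠ 0 := fun h => by
    subst h
    exact hv0 (Subsingleton.elim _ _)
  have hdvd : 2 ∣ Nat.card (Fin n → F2) := by
    rw [Nat.card_fun, Nat.card_zmod, Nat.card_fin]; exact dvd_pow_self 2 hn0
  obtain ⟨b, hb, hb0⟩ := hN.exists_fixed_point_of_prime_dvd_card_of_fixed_point (Fin n → F2) hdvd
    (a := (0 : Fin n → F2)) (fun m => Matrix.mulVec_zero _)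
  have hv00 : v0 ≠ 0 := fun h => hv0 (by rw [h]; exact Matrix.mulVec_zero _)
  obtain ⟨k, hk⟩ := exists_move hb0.symm hv00
  have hfix : (k⁻¹ * g * k) • b = b := by
    have := hb ⟨k⁻¹ * g * k, by simpa using hNn.conj_mem g hg k⁻¹⟩
    exact this
  rw [mul_smul, mul_smul, hk, inv_smul_eq_iff, hk] at hfix
  exact hv0 hfix

section model

set_option quotPrecheck false in
local notation "Mn" => Matrix (Fin n) (Fin n) F2
set_option quotPrecheck false in
local notation "M2" => Matrix (Fin (n + 2)) (Fin (n + 2)) F2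

/-- a block matrix centralising the transvection -/
def mk (c : F2) (r s : Fin n → F2) (A : Matrix (Fin n) (Fin n) F2) : Matrix (Fin (n + 2)) (Fin (n + 2)) F2 :=
  Matrix.of (vecCons (vecCons 1 (vecCons c r)) (vecCons (vecCons 0 (vecCons 1 0))
    fun k => vecCons 0 (vecCons (s k) (A k))))

theorem mk_mul (c c' : F2) (r s r' s' : Fin n → F2) (A A' : Mn) :
    mk c r s A * mk c' r' s' A' = mk (c + c' + r ⬝ᵥ s') (r' + r ᵥ* A') (s + A *ᵥ s') (A * A') := by
  ext i j
  refine Fin.cases ?_ (fun i => Fin.cases ?_ (fun i => ?_) i) i <;>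
    refine Fin.cases ?_ (fun j => Fin.cases ?_ (fun j => ?_) j) j <;>
    simp [mk, Matrix.mul_apply, Fin.sum_univ_succ, dotProduct, Matrix.mulVec, Matrix.vecMul] <;>
    ring

theorem mk_one : mk 0 0 0 (1 : Mn) = 1 := by
  ext i j
  refine Fin.cases ?_ (fun i => Fin.cases ?_ (fun i => ?_) i) i <;>
    refine Fin.cases ?_ (fun j => Fin.cases ?_ (fun j => ?_) j) j <;>
    simp [mk, Matrix.one_apply, Fin.ext_iff]

theorem mk_trans : mk 1 0 0 (1 : Mn) = Matrix.transvection (0 : Fin (n + 2)) 1 1 := by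
  ext i j
  refine Fin.cases ?_ (fun i => Fin.cases ?_ (fun i => ?_) i) i <;>
    refine Fin.cases ?_ (fun j => Fin.cases ?_ (fun j => ?_) j) j <;>
    simp [mk, Matrix.transvection, Matrix.one_apply, Matrix.single_apply, Fin.ext_iff]

theorem mk_inj {c c' : F2} {r s r' s' : Fin n → F2} {A A' : Mn} (h : mk c r s A = mk c' r' s' A') :
    c = c' ∧ r = r' ∧ s = s' ∧ A = A' := by
  refine ⟨?_, funext fun k => ?_, funext fun k => ?_, Matrix.ext fun i j => ?_⟩
  · simpa [mk] using congrFun (congrFun h 0) 1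
  · simpa [mk] using congrFun (congrFun h 0) k.succ.succ
  · simpa [mk] using congrFun (congrFun h k.succ.succ) 1
  · simpa [mk] using congrFun (congrFun h i.succ.succ) j.succ.succ

/-- special linear elements from invertible matrices -/
def sl (M M' : Matrix (Fin (n + 2)) (Fin (n + 2)) F2) (h : M * M' = 1) :
    Matrix.SpecialLinearGroup (Fin (n + 2)) F2 :=
  ⟨M, (two_cases M.det).resolve_left fun e => zero_ne_one (α := F2) (by
    have := congrArg Matrix.det h
    rwa [Matrix.det_mul, e, zero_mul, Matrix.det_one] at this)⟩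

variable (n) in
/-- the transvection -/
def z0 : Matrix.SpecialLinearGroup (Fin (n + 2)) F2 :=
  sl (mk 1 0 0 1) (mk 1 0 0 1) (by rw [mk_mul]; simp [← mk_one, ZModModule.add_self])

set_option quotPrecheck false in
local notation "SLn" => Matrix.SpecialLinearGroup (Fin (n + 2)) F2
set_option quotPrecheck false in
local notation "Cz" => ↥(Subgroup.centralizer ({z0 n} : Set (Matrix.SpecialLinearGroup (Fin (n + 2)) F2)))

theorem mem_cent {g : SLn} : g ∈ Subgroup.centralizer ({z0 n} : Set SLn) ↔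
    ∃ c r s A, (g : M2) = mk c r s A := by
  rw [Subgroup.mem_centralizer_singleton_iff]
  constructor
  · intro h
    have h' : (g : M2) * mk 1 0 0 1 = mk 1 0 0 1 * (g : M2) := congrArg Subtype.val h
    rw [mk_trans] at h'
    have hcol : ∀ i, i ≠ 0 → (g : M2) i 0 = 0 := by
      intro i hi
      have := congrFun (congrFun h' i) 1
      rw [Matrix.mul_transvection_apply_same, Matrix.transvection_mul_apply_of_ne _ _ _ _ hi] at this
      simpa using this
    have hrow : ∀ j, j ≠ 1 → (g : M2) 1 j = 0 := by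
      intro j hj
      have := congrFun (congrFun h' 0) j
      rw [Matrix.mul_transvection_apply_of_ne _ _ _ _ hj, Matrix.transvection_mul_apply_same] at this
      simpa using this
    have h01 : (g : M2) 0 0 = (g : M2) 1 1 := by
      have := congrFun (congrFun h' 0) 1
      rw [Matrix.mul_transvection_apply_same, Matrix.transvection_mul_apply_same] at this
      linear_combination this
    have h00 : (g : M2) 0 0 = 1 := (two_cases _).resolve_left fun e => by
      have hd : (g : M2).det = 0 := Matrix.det_eq_zero_of_column_eq_zero 0 fun i => by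
        rcases eq_or_ne i 0 with rfl | hi
        · exact e
        · exact hcol i hi
      rw [g.2] at hd
      exact one_ne_zero hd
    refine ⟨(g : M2) 0 1, fun k => (g : M2) 0 k.succ.succ, fun k => (g : M2) k.succ.succ 1,
      Matrix.of fun i j => (g : M2) i.succ.succ j.succ.succ, ?_⟩
    ext i j
    refine Fin.cases ?_ (fun i => Fin.cases ?_ (fun i => ?_) i) i <;>
      refine Fin.cases ?_ (fun j => Fin.cases ?_ (fun j => ?_) j) j <;>
      simp [mk]
    · exact h00
    · exact hcol _ (by simp [Fin.ext_iff])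
    · rw [← h01]; exact h00
    · exact hrow _ (by simp [Fin.ext_iff])
    · exact hcol _ (by simp [Fin.ext_iff])
  · rintro ⟨c, r, s, A, hA⟩
    apply Subtype.ext
    show (g : M2) * mk 1 0 0 1 = mk 1 0 0 1 * (g : M2)
    rw [hA, mk_mul, mk_mul]
    simp [add_comm]

/-- the action on the middle factor -/
def midMat : Cz →* Mn where
  toFun g := Matrix.of fun i j => (g.1 : M2) i.succ.succ j.succ.succ
  map_one' := by ext i j; simp [Matrix.one_apply]
  map_mul' g h := by
    obtain ⟨c, r, s, A, hA⟩ := mem_cent.1 g.2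
    obtain ⟨c', r', s', A', hA'⟩ := mem_cent.1 h.2
    ext i j
    show ((g.1 : M2) * (h.1 : M2)) i.succ.succ j.succ.succ = _
    rw [hA, hA', mk_mul]
    simp [mk, Matrix.mul_apply, hA, hA']

variable (n) in
/-- the action on the middle factor, invertible -/
def mid : ↥(Subgroup.centralizer ({z0 n} : Set (Matrix.SpecialLinearGroup (Fin (n + 2)) F2))) →* GL (Fin n) F2 :=
  midMat.toHomUnits

theorem mid_eq {g : Cz} {c : F2} {r s : Fin n → F2} {A : Mn} (h : (g.1 : M2) = mk c r s A) :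
    ((mid n g : GL (Fin n) F2) : Mn) = A := by
  ext i j
  show (g.1 : M2) i.succ.succ j.succ.succ = A i j
  rw [h]
  simp [mk]

/-- the Levi complement -/
def lev (A : GL (Fin n) F2) : Cz :=
  ⟨sl (mk 0 0 0 (A : Mn)) (mk 0 0 0 ((A⁻¹ : GL (Fin n) F2) : Mn))
    (by rw [mk_mul, ← Units.val_mul, mul_inv_cancel, Units.val_one]; simp [mk_one]),
    mem_cent.2 ⟨0, 0, 0, (A : Mn), rfl⟩⟩

variable (n) in
/-- the Levi complement as a homomorphism -/
def levHom : GL (Fin n) F2 →* ↥(Subgroup.centralizer ({z0 n} : Set (Matrix.SpecialLinearGroup (Fin (n + 2)) F2))) where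
  toFun := lev
  map_one' := Subtype.ext (Subtype.ext mk_one)
  map_mul' A B := Subtype.ext (Subtype.ext (by
    show mk 0 0 0 ((A * B : GL (Fin n) F2) : Mn) = mk 0 0 0 (A : Mn) * mk 0 0 0 (B : Mn)
    rw [mk_mul]; simp))

theorem mid_lev (A : GL (Fin n) F2) : mid n (levHom n A) = A := Units.ext (mid_eq rfl)

variable (n) in
/-- the unipotent radical -/
def rad : Subgroup (Matrix.SpecialLinearGroup (Fin (n + 2)) F2) :=
  (mid n).ker.map (Subgroup.centralizer ({z0 n} : Set (Matrix.SpecialLinearGroup (Fin (n + 2)) F2))).subtype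

theorem mem_rad {g : SLn} : g ∈ rad n ↔ ∃ c r s, (g : M2) = mk c r s (1 : Mn) := by
  constructor
  · rintro ⟨y, hy, rfl⟩
    obtain ⟨c, r, s, A, hA⟩ := mem_cent.1 y.2
    refine ⟨c, r, s, ?_⟩
    have h1 : A = 1 := (mid_eq hA).symm.trans (congrArg Units.val (MonoidHom.mem_ker.1 hy))
    rw [h1] at hA
    exact hA
  · rintro ⟨c, r, s, h⟩
    exact ⟨⟨g, mem_cent.2 ⟨c, r, s, 1, h⟩⟩, MonoidHom.mem_ker.2 (Units.ext (mid_eq h)), rfl⟩

/-- elements of the radical -/
def qel (c : F2) (r s : Fin n → F2) : Matrix.SpecialLinearGroup (Fin (n + 2)) F2 :=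
  sl (mk c r s 1) (mk (c + r ⬝ᵥ s) r s 1) (by
    rw [mk_mul, mul_one, vecMul_one, one_mulVec, ← add_assoc c c, ZModModule.add_self, zero_add,
      ZModModule.add_self, ZModModule.add_self, ZModModule.add_self, mk_one])

theorem qel_mem (c : F2) (r s : Fin n → F2) : qel c r s ∈ rad n := mem_rad.2 ⟨c, r, s, rfl⟩

theorem qel_mul (c c' : F2) (r s r' s' : Fin n → F2) :
    qel c r s * qel c' r' s' = qel (c + c' + r ⬝ᵥ s') (r + r') (s + s') := by
  apply Subtype.ext
  show mk c r s 1 * mk c' r' s' 1 = mk _ _ _ 1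
  rw [mk_mul, mul_one, vecMul_one, one_mulVec, add_comm r']

theorem qel_inj {c c' : F2} {r s r' s' : Fin n → F2} (h : qel c r s = qel c' r' s') :
    c = c' ∧ r = r' ∧ s = s' := by
  obtain ⟨h1, h2, h3, -⟩ := mk_inj (congrArg Subtype.val h)
  exact ⟨h1, h2, h3⟩

theorem exists_qel {g : SLn} (h : g ∈ rad n) : ∃ c r s, g = qel c r s := by
  obtain ⟨c, r, s, e⟩ := mem_rad.1 h
  exact ⟨c, r, s, Subtype.ext e⟩

theorem z0_eq : z0 n = qel (1 : F2) 0 0 := Subtype.ext rfl

theorem rad_card : Nat.card (rad n) = 2 ^ (2 * n + 1) := by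
  let f : F2 × (Fin n → F2) × (Fin n → F2) → rad n := fun p => ⟨_, qel_mem p.1 p.2.1 p.2.2⟩
  have hf : Function.Bijective f := by
    refine ⟨fun p q h => ?_, fun g => ?_⟩
    · obtain ⟨h1, h2, h3⟩ := qel_inj (congrArg Subtype.val h)
      exact Prod.ext h1 (Prod.ext h2 h3)
    · obtain ⟨c, r, s, e⟩ := exists_qel g.2
      exact ⟨(c, r, s), Subtype.ext e.symm⟩
  rw [← Nat.card_congr (Equiv.ofBijective f hf), Nat.card_prod, Nat.card_prod, Nat.card_fun, Nat.card_zmod,
    Nat.card_fin]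
  ring

theorem qel_one : qel (0 : F2) (0 : Fin n → F2) 0 = 1 := Subtype.ext mk_one

theorem dot_zero_of_all {r : Fin n → F2} (h : ∀ s, r ⬝ᵥ s = 0) : r = 0 :=
  funext fun i => by simpa using h (Pi.single i 1)

theorem rad_extraspecial (hn : 1 ≤ n) : Cfsg.IsExtraspecial 2 (rad n) := by
  haveI : Fact (Nat.Prime 2) := ⟨Nat.prime_two⟩
  have hz : z0 n ∈ rad n := z0_eq (n := n) ▸ qel_mem _ _ _
  have hcen : ∀ x : rad n, x ∈ Subgroup.center (rad n) ↔ x = 1 ∨ x = ⟨z0 n, hz⟩ := by
    intro x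
    obtain ⟨c, r, s, hx⟩ := exists_qel x.2
    rw [Subgroup.mem_center_iff]
    constructor
    · intro h
      have hh : ∀ r' s', r ⬝ᵥ s' = r' ⬝ᵥ s := by
        intro r' s'
        have h1 := congrArg Subtype.val (h ⟨_, qel_mem (0 : F2) r' s'⟩)
        rw [Subgroup.coe_mul, Subgroup.coe_mul, hx, qel_mul, qel_mul] at h1
        have := (qel_inj h1).1
        linear_combination -this
      have hr : r = 0 := dot_zero_of_all fun s' => by simpa using hh 0 s'
      have hs : s = 0 := dot_zero_of_all fun r' => by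
        rw [dotProduct_comm]; simpa using (hh r' 0).symm
      rw [hr, hs] at hx
      rcases two_cases c with rfl | rfl
      · exact .inl (Subtype.ext (hx.trans qel_one))
      · exact .inr (Subtype.ext (hx.trans z0_eq.symm))
    · rintro (rfl | rfl) y
      · rw [one_mul, mul_one]
      · obtain ⟨c', r', s', hy⟩ := exists_qel y.2
        apply Subtype.ext
        rw [Subgroup.coe_mul, Subgroup.coe_mul, hy]
        show qel c' r' s' * z0 n = z0 n * qel c' r' s'
        rw [z0_eq, qel_mul, qel_mul]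
        simp [add_comm]
  refine Cfsg.Agent.Solv.isExtraspecial_of (IsPGroup.of_card rad_card) ?_ (le_antisymm ?_ ?_) ?_
  · rw [Nat.card_eq_two_iff]
    refine ⟨⟨1, one_mem _⟩, ⟨⟨z0 n, hz⟩, (hcen _).2 (.inr rfl)⟩, fun e => ?_, ?_⟩
    · have h1 : (1 : SLn) = z0 n := congrArg (fun x : Subgroup.center (rad n) => ((x : rad n) : SLn)) e
      rw [← qel_one, z0_eq] at h1
      exact zero_ne_one (qel_inj h1).1
    · refine Set.eq_univ_of_forall fun x => ?_
      rcases (hcen x.1).1 x.2 with e | e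
      · exact .inl (Subtype.ext e)
      · exact .inr (Subtype.ext e)
  · rw [commutator_def, Subgroup.commutator_le]
    intro a _ b _
    rw [hcen]
    obtain ⟨c, r, s, ha⟩ := exists_qel a.2
    obtain ⟨c', r', s', hb⟩ := exists_qel b.2
    have e : ((a * b : rad n) : SLn) = qel (r ⬝ᵥ s' + r' ⬝ᵥ s) 0 0 * ((b * a : rad n) : SLn) := by
      rw [Subgroup.coe_mul, Subgroup.coe_mul, ha, hb, qel_mul, qel_mul, qel_mul]
      simp only [zero_dotProduct, add_zero, zero_add]
      rw [add_comm r r', add_comm s s']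
      congr 1
      linear_combination -ZModModule.add_self (r' ⬝ᵥ s)
    have e2 : ((⁅a, b⁆ : rad n) : SLn) = qel (r ⬝ᵥ s' + r' ⬝ᵥ s) 0 0 := by
      rw [show ⁅a, b⁆ = (a * b) * (b * a)⁻¹ by rw [commutatorElement_def]; group, Subgroup.coe_mul, e,
        Subgroup.coe_inv, mul_inv_cancel_right]
    rcases two_cases (r ⬝ᵥ s' + r' ⬝ᵥ s) with h | h <;> rw [h] at e2
    · exact .inl (Subtype.ext (e2.trans qel_one))
    · exact .inr (Subtype.ext (e2.trans z0_eq.symm))
  · intro x hx
    rcases (hcen x).1 hx with rfl | rfl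
    · exact one_mem _
    · let a : rad n := ⟨_, qel_mem (0 : F2) (Pi.single (⟨0, hn⟩ : Fin n) 1) 0⟩
      let b : rad n := ⟨_, qel_mem (0 : F2) (0 : Fin n → F2) (Pi.single (⟨0, hn⟩ : Fin n) 1)⟩
      have e : ⁅a, b⁆ = ⟨z0 n, hz⟩ := by
        rw [commutatorElement_def, mul_inv_eq_iff_eq_mul, mul_inv_eq_iff_eq_mul]
        apply Subtype.ext
        show qel (0 : F2) (Pi.single (⟨0, hn⟩ : Fin n) 1) 0 * qel (0 : F2) 0 (Pi.single (⟨0, hn⟩ : Fin n) 1) =
          z0 n * qel (0 : F2) 0 (Pi.single (⟨0, hn⟩ : Fin n) 1) * qel (0 : F2) (Pi.single (⟨0, hn⟩ : Fin n) 1) 0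
        rw [z0_eq, qel_mul, qel_mul, qel_mul]
        simp
      rw [← e, commutator_def]
      exact Subgroup.commutator_mem_commutator (Subgroup.mem_top _) (Subgroup.mem_top _)
  · intro x
    obtain ⟨c, r, s, hx⟩ := exists_qel x.2
    rw [hcen]
    have e : ((x ^ 2 : rad n) : SLn) = qel (r ⬝ᵥ s) 0 0 := by
      rw [pow_two, Subgroup.coe_mul, hx, qel_mul, ZModModule.add_self, zero_add, ZModModule.add_self,
        ZModModule.add_self]
    rcases two_cases (r ⬝ᵥ s) with h | h <;> rw [h] at e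
    · exact .inl (Subtype.ext (e.trans qel_one))
    · exact .inr (Subtype.ext (e.trans z0_eq.symm))

theorem pcore_eq : Cfsg.pCore 2 Cz = (mid n).ker := by
  haveI : Fact (Nat.Prime 2) := ⟨Nat.prime_two⟩
  refine le_antisymm (fun x hx => ?_) (Cfsg.Agent.Solv.normal_le_pCore ?_)
  · have hs : Function.Surjective (mid n) := fun A => ⟨levHom n A, mid_lev A⟩
    haveI := Cfsg.Agent.Solv.pCore_normal (G := Cz) 2
    have := normal_two_trivial ((Cfsg.Agent.Solv.pCore_normal (G := Cz) 2).map (mid n) hs)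
      ((Cfsg.Agent.Solv.pCore_isPGroup (G := Cz) 2).map _)
    rw [MonoidHom.mem_ker, ← Subgroup.mem_bot, ← this]
    exact Subgroup.mem_map_of_mem _ hx
  · refine IsPGroup.of_card (n := 2 * n + 1) ?_
    rw [← rad_card (n := n), rad, Subgroup.card_subtype]

theorem cent_rad {g : SLn} (h : ∀ q ∈ rad n, q * g = g * q) : g = 1 ∨ g = z0 n := by
  have hgc : g ∈ Subgroup.centralizer ({z0 n} : Set SLn) :=
    Subgroup.mem_centralizer_singleton_iff.2 (h _ (z0_eq (n := n) ▸ qel_mem _ _ _)).symm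
  obtain ⟨c, r, s, A, hA⟩ := mem_cent.1 hgc
  have hh : ∀ r' s', r + r' ᵥ* A = r' + r ∧ r' ⬝ᵥ s = r ⬝ᵥ s' := by
    intro r' s'
    have h1 : mk 0 r' s' 1 * mk c r s A = mk c r s A * mk 0 r' s' 1 := by
      rw [← hA]; exact congrArg Subtype.val (h _ (qel_mem 0 r' s'))
    rw [mk_mul, mk_mul, vecMul_one] at h1
    obtain ⟨h2, h3, -, -⟩ := mk_inj h1
    refine ⟨h3, ?_⟩
    linear_combination h2
  have hA1 : A = 1 := by
    ext i j
    have := congrFun (add_left_cancel ((hh (Pi.single i 1) 0).1.trans (add_comm _ r))) j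
    simpa [Matrix.single_vecMul, Pi.single_apply, Matrix.one_apply, eq_comm] using this
  have hr : r = 0 := dot_zero_of_all fun s' => by simpa using (hh 0 s').2.symm
  have hs : s = 0 := dot_zero_of_all fun r' => by rw [dotProduct_comm]; simpa using (hh r' 0).2
  rw [hA1, hr, hs] at hA
  rcases two_cases c with rfl | rfl
  · exact .inl (Subtype.ext (hA.trans mk_one))
  · exact .inr (Subtype.ext hA)

theorem norm_rad (x : SLn) (hx : x * z0 n = z0 n * x) : ∀ q ∈ rad n, x * q * x⁻¹ ∈ rad n := by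
  intro q hq
  have hxc : x ∈ Subgroup.centralizer ({z0 n} : Set SLn) := Subgroup.mem_centralizer_singleton_iff.2 hx
  obtain ⟨y, hy, e⟩ := Subgroup.mem_map.1 hq
  rw [← e]
  have h1 : (⟨x, hxc⟩ : Cz) * y * (⟨x, hxc⟩ : Cz)⁻¹ ∈ (mid n).ker :=
    (MonoidHom.normal_ker (mid n)).conj_mem y hy _
  exact Subgroup.mem_map_of_mem (Subgroup.centralizer ({z0 n} : Set SLn)).subtype h1

theorem z0_sq : z0 n * z0 n = 1 := by
  rw [z0_eq, qel_mul]; simp [ZModModule.add_self, qel_one]

set_option maxHeartbeats 1000000 in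
theorem rad_large (hn : 1 ≤ n) : Cfsg.IsLargeExtraspecial (rad n) := by
  have hex := rad_extraspecial hn
  have hz : z0 n ∈ rad n := z0_eq (n := n) ▸ qel_mem _ _ _
  have hzc : ∀ q ∈ rad n, q * z0 n = z0 n * q := by
    rintro _ ⟨y, -, rfl⟩
    exact Subgroup.mem_centralizer_singleton_iff.1 y.2
  have hcz : (⟨z0 n, hz⟩ : rad n) ∈ Subgroup.center (rad n) :=
    Subgroup.mem_center_iff.2 fun q => Subtype.ext (hzc q q.2)
  refine ⟨hex, ?_, ?_, fun K hK hQK => ?_⟩
  · refine le_antisymm (fun x hx => ?_) ?_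
    · rcases cent_rad (fun q hq => Subgroup.mem_centralizer_iff.1 hx q hq) with rfl | rfl
      · exact one_mem _
      · exact ⟨_, hcz, rfl⟩
    · rintro _ ⟨x, hx, rfl⟩
      rw [Subgroup.mem_centralizer_iff]
      exact fun q hq => congrArg Subtype.val (Subgroup.mem_center_iff.1 hx ⟨q, hq⟩)
  · intro x hx
    have hxz : x * z0 n = z0 n * x :=
      (Subgroup.mem_centralizer_iff.1 hx _ ⟨_, hcz, rfl⟩).symm
    rw [Subgroup.mem_normalizer_iff]
    intro q
    refine ⟨fun hq => norm_rad x hxz q hq, fun hq => ?_⟩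
    have hx' : x⁻¹ * z0 n = z0 n * x⁻¹ := by
      rw [inv_mul_eq_iff_eq_mul, ← mul_assoc, hxz, mul_inv_cancel_right]
    have := norm_rad x⁻¹ hx' _ hq
    rwa [inv_inv, show x⁻¹ * (x * q * x⁻¹) * x = q by group] at this
  · set k : Fin n := ⟨0, hn⟩
    set u := qel (0 : F2) 0 (Pi.single k 1) with hu
    have hmu : (u : M2) = Matrix.transvection k.succ.succ 1 1 := by
      ext i j
      refine Fin.cases ?_ (fun i => Fin.cases ?_ (fun i => ?_) i) i <;>
        refine Fin.cases ?_ (fun j => Fin.cases ?_ (fun j => ?_) j) j <;>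
        simp [hu, qel, sl, mk, Matrix.transvection, Matrix.one_apply, Matrix.single_apply, Fin.ext_iff,
          Pi.single_apply, eq_comm]
    let σ : Equiv.Perm (Fin (n + 2)) := Equiv.swap 0 k.succ.succ
    have hσ : σ.permMatrix F2 * σ.permMatrix F2 = 1 := by
      rw [← Matrix.permMatrix_mul, Equiv.swap_mul_self, Matrix.permMatrix_one]
    set g := sl _ _ hσ with hg
    have hg2 : g * g = 1 := Subtype.ext hσ
    have hgi : g⁻¹ = g := inv_eq_of_mul_eq_one_right hg2
    have hσ1 : σ 1 = 1 := Equiv.swap_apply_of_ne_of_ne (by simp [Fin.ext_iff]) (by simp [Fin.ext_iff])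
    have h1 : g * z0 n = u * g := by
      apply Subtype.ext
      show σ.permMatrix F2 * mk 1 0 0 1 = (u : M2) * σ.permMatrix F2
      rw [hmu, mk_trans]
      ext a b
      rw [Equiv.Perm.permMatrix, PEquiv.toMatrix_toPEquiv_mul, PEquiv.mul_toMatrix_toPEquiv]
      simp only [Matrix.submatrix_apply, id, Matrix.transvection, Matrix.add_apply, Matrix.one_apply,
        Matrix.single_apply]
      congr 1
      · refine if_congr ?_ rfl rfl
        exact (Equiv.eq_symm_apply σ).symm
      · refine if_congr ?_ rfl rfl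
        rw [Equiv.eq_symm_apply, hσ1]
        refine and_congr_left' ?_
        rw [← Equiv.apply_eq_iff_eq σ (x := k.succ.succ), Equiv.swap_apply_right]
    have hgz : g * z0 n * g⁻¹ = u := by rw [h1, mul_inv_cancel_right]
    have hgz' : g⁻¹ * z0 n * g = u := by
      conv_lhs => rw [hgi]
      conv_rhs => rw [← hgz, hgi]
    set x := qel (0 : F2) (Pi.single k 1) 0 with hx
    have hxu : x * u * x⁻¹ = u * z0 n := by
      rw [mul_inv_eq_iff_eq_mul, hx, hu, z0_eq, qel_mul, qel_mul, qel_mul]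
      simp
    have hxz : x * z0 n * x⁻¹ = z0 n := by rw [hzc x (qel_mem _ _ _), mul_inv_cancel_right]
    refine odd_trivial (z := z0 n) (u := u) (IsPGroup.of_card rad_card) hz (qel_mem _ _ _) z0_sq
      (by rw [hu, qel_mul]; simp [ZModModule.add_self, qel_one])
      (hzc u (qel_mem _ _ _)).symm (fun y hy => cent_rad hy) norm_rad hgz (hgz' ▸ qel_mem _ _ _)
      (h := x * g) ?_ ?_ hK hQK
    · rw [← hxu, ← hgz]; group
    · have hxz' : x⁻¹ * z0 n * x = z0 n := by
        conv_lhs => rw [← hxz]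
        group
      rw [show (x * g)⁻¹ * z0 n * (x * g) = g⁻¹ * (x⁻¹ * z0 n * x) * g by group, hxz', hgz']
      exact qel_mem _ _ _

/-- the structure of the centralizer of the transvection -/
theorem structure_cent (hn : 1 ≤ n) :
    Cfsg.IsExtraspecial 2 (rad n) ∧ Nat.card (rad n) = 2 ^ (2 * n + 1) ∧
      (∃ E : Subgroup SLn, E ≤ rad n ∧ Cfsg.IsElementaryAbelian 2 E ∧ Nat.card E = 2 ^ (n + 1)) ∧
      Cfsg.IsLargeExtraspecial (rad n) ∧
      ∃ K : Subgroup SLn, K ≤ Subgroup.centralizer ({z0 n} : Set SLn) ∧ rad n ⊓ K = ⊥ ∧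
        rad n ⊔ K = Subgroup.centralizer ({z0 n} : Set SLn) ∧ Nonempty (↥K ≃* GL (Fin n) F2) := by
  refine ⟨rad_extraspecial hn, rad_card, ?_, rad_large hn,
    (levHom n).range.map (Subgroup.centralizer ({z0 n} : Set SLn)).subtype,
    Subgroup.map_subtype_le _, ?_, ?_, ?_⟩
  · let f : Multiplicative (F2 × (Fin n → F2)) →* SLn :=
      { toFun := fun p => qel (Multiplicative.toAdd p).1 0 (Multiplicative.toAdd p).2
        map_one' := qel_one
        map_mul' := fun p q => by simp [qel_mul] }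
    have hf : Function.Injective f := fun p q h => by
      obtain ⟨h1, -, h3⟩ := qel_inj h
      exact Multiplicative.toAdd.injective (Prod.ext h1 h3)
    refine ⟨f.range, ?_, ⟨⟨⟨?_⟩⟩, ?_⟩, ?_⟩
    · rintro _ ⟨p, rfl⟩; exact qel_mem _ _ _
    · rintro ⟨_, p, rfl⟩ ⟨_, q, rfl⟩
      exact Subtype.ext ((map_mul f p q).symm.trans ((congrArg f (mul_comm p q)).trans (map_mul f q p)))
    · rintro _ ⟨p, rfl⟩
      rw [← map_pow, pow_two, show p * p = 1 from Multiplicative.toAdd.injective (ZModModule.add_self _), map_one]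
    · rw [← Nat.card_congr (MonoidHom.ofInjective hf).toEquiv, Nat.card_congr Multiplicative.toAdd,
        Nat.card_prod, Nat.card_fun, Nat.card_zmod, Nat.card_fin, pow_succ']
  · rw [rad, ← Subgroup.map_inf _ _ _ (Subgroup.subtype_injective _),
      ← Subgroup.map_bot (Subgroup.centralizer ({z0 n} : Set SLn)).subtype]
    congr 1
    rw [Subgroup.eq_bot_iff_forall]
    rintro x ⟨hx, A, rfl⟩
    have hx' : mid n (levHom n A) = 1 := hx
    rw [mid_lev] at hx'
    replace hx := hx'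
    rw [hx, map_one]
  · rw [rad, ← Subgroup.map_sup]
    · conv_rhs => rw [← (Subgroup.centralizer ({z0 n} : Set SLn)).range_subtype, MonoidHom.range_eq_map]
      congr 1
      rw [eq_top_iff]
      intro x _
      rw [show x = (x * (levHom n (mid n x))⁻¹) * levHom n (mid n x) by group]
      refine mul_mem (Subgroup.mem_sup_left ?_) (Subgroup.mem_sup_right ⟨_, rfl⟩)
      rw [MonoidHom.mem_ker, map_mul, map_inv, mid_lev, mul_inv_cancel]
  · refine ⟨((Subgroup.equivMapOfInjective _ _ (Subgroup.subtype_injective _)).symm.trans ?_)⟩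
    exact (MonoidHom.ofInjective (f := levHom n) (fun a b h => by
      rw [← mid_lev a, h, mid_lev])).symm

theorem pcore_map :
    (Cfsg.pCore 2 Cz).map (Subgroup.centralizer ({z0 n} : Set SLn)).subtype = rad n := by
  rw [pcore_eq]; rfl

end model

/-- `GL = SL` over the field with two elements -/
noncomputable def glEquivSL (m : ℕ) : GL (Fin m) F2 ≃* Matrix.SpecialLinearGroup (Fin m) F2 where
  toFun g := ⟨(g : Matrix (Fin m) (Fin m) F2),
    (two_cases _).resolve_left fun e => ((Matrix.isUnit_iff_isUnit_det _).1 g.isUnit).ne_zero e⟩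
  invFun s := Matrix.SpecialLinearGroup.toGL s
  left_inv g := Units.ext rfl
  right_inv s := Subtype.ext rfl
  map_mul' g h := Subtype.ext rfl

end Cfsg.Agent.Spor.TransLarge
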