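import Cfsg.Prelude.Def_MonsterType
import Cfsg.Agent.Lib.Spor.OctCentBase
import Cfsg.Agent.Lib.Spor.TransvectionLarge

/-!
The centraliser of an involution fixing an octad, and its large extraspecial subgroup.
-/

set_option autoImplicit false
set_option maxRecDepth 100000

namespace Cfsg.Agent.Spor.OctCent

open Cfsg.Agent.Spor
open scoped Pointwise commutatorElement

variable (c : Cfsg.M24)

theorem ok_base {i : ℕ} (hi : i < 6) : Ok (baseV i) := by
  refine ok_list (List.all_eq_true.1 lists_ok.1 _ ?_)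
  rw [List.getD_eq_getElem _ _ (by rw [lists_ok.2.2.2]; exact hi)]
  exact List.getElem_mem _

theorem ok_qg : ∀ g ∈ qGens, Ok g := fun g hg => by
  obtain ⟨l, hl, rfl⟩ := List.mem_map.1 hg
  exact ok_list (List.all_eq_true.1 lists_ok.2.1 l hl)

theorem ok_eg : ∀ g ∈ eGens, Ok g := fun g hg => by
  obtain ⟨l, hl, rfl⟩ := List.mem_map.1 hg
  exact ok_list (List.all_eq_true.1 lists_ok.2.2.1 l hl)

theorem ok_kg : ∀ g ∈ kGens, Ok g := fun g hg => by
  simp only [kGens, List.mem_cons, List.not_mem_nil, or_false] at hg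
  rcases hg with rfl | rfl <;> exact ok_base (by norm_num)

theorem ok_q : ∀ v ∈ qElems, Ok v := table_ok q_table.1 ok_qg

theorem ok_k : ∀ v ∈ kElems, Ok v := table_ok k_table.1 ok_kg

theorem z_mem : baseV 0 ∈ qElems := List.elem_iff.1 z_facts.1

theorem z_lt : baseV 0 < 2 ^ 120 := table_lt q_table.1 z_mem

theorem id_lt : idV < 2 ^ 120 := by decide +kernel

/-- the involution -/
noncomputable def zc : Cfsg.M24 := el c (baseV 0)

/-- the normal two-subgroup -/
noncomputable def Qc : Subgroup Cfsg.M24 := span c qGens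

/-- the centraliser -/
noncomputable def Cc : Subgroup Cfsg.M24 := Subgroup.centralizer ({zc c} : Set Cfsg.M24)

theorem mem_Qc {x : Cfsg.M24} : x ∈ Qc c ↔ ∃ v ∈ qElems, el c v = x := mem_span c q_table.1 ok_qg x

theorem gen_Qc {g : ℕ} (hg : g ∈ qGens) : el c g ∈ Qc c := Subgroup.subset_closure ⟨g, hg, rfl⟩

theorem card_Qc : Nat.card (Qc c) = 2 ^ 7 := by
  rw [Qc, card_span c q_table.1 ok_qg q_table.2.1, q_table.2.2]; rfl

theorem zc_sq : zc c * zc c = 1 := by
  rw [zc, (mul_ok c (ok_base (by norm_num)) (ok_base (by norm_num)) z_facts.2.1).2, el_id]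

theorem zc_ne : zc c ≠ 1 := by
  rw [zc, ← el_id c]
  exact fun e => z_facts.2.2.1 (el_inj c (ok_base (by norm_num)) ok_id z_lt id_lt e)

theorem zc_mem : zc c ∈ Qc c := (mem_Qc c).2 ⟨_, z_mem, rfl⟩

theorem Qc_le : Qc c ≤ Cc c := by
  rw [Qc, span, Subgroup.closure_le]
  rintro _ ⟨g, hg, rfl⟩
  rw [SetLike.mem_coe, Cc, Subgroup.mem_centralizer_singleton_iff, zc]
  exact (el_two c (ok_qg g hg) (ok_base (by norm_num)) (ok_base (by norm_num)) (ok_qg g hg)).2
    (List.all_eq_true.1 z_facts.2.2.2.1 g hg)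

/-- the special linear element with a given code -/
noncomputable def smat (m : ℕ) : Matrix.SpecialLinearGroup (Fin 3) (ZMod 2) :=
  ⟨if (mat m).det = 1 then mat m else 1, by
    split_ifs with h
    · exact h
    · exact Matrix.det_one⟩

theorem smat_val {m : ℕ} (h : (mat m).det = 1) :
    (smat m : Matrix (Fin 3) (Fin 3) (ZMod 2)) = mat m := if_pos h

theorem k_det {i : ℕ} (hi : i < 168) : (mat (kCodes.getD i 0)).det = 1 := by
  have h := List.all_eq_true.1 k_mat_inj (kCodes.getD i 0)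
    (by rw [List.getD_eq_getElem _ _ (by rw [k_table.2.2.2.1]; exact hi)]; exact List.getElem_mem _)
  rw [Bool.and_eq_true, decide_eq_true_eq] at h
  exact h.2

/-- the pairs making the complement -/
noncomputable def graph : Subgroup (Cfsg.M24 × Matrix.SpecialLinearGroup (Fin 3) (ZMod 2)) :=
  Subgroup.closure {(el c (baseV 1), smat 84), (el c (baseV 2), smat 174)}

/-- the `i`-th pair -/
noncomputable def pairAt (i : ℕ) : Cfsg.M24 × Matrix.SpecialLinearGroup (Fin 3) (ZMod 2) :=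
  (el c (kElems.getD i 0), smat (kCodes.getD i 0))

theorem kElems_mem {i : ℕ} (hi : i < 168) : kElems.getD i 0 ∈ kElems := by
  rw [List.getD_eq_getElem _ _ (by rw [k_table.2.2.1]; exact hi)]; exact List.getElem_mem _

theorem pair_zero : pairAt c 0 = 1 := by
  refine Prod.ext ?_ (Subtype.ext ?_)
  · show el c (kElems.getD 0 0) = 1
    rw [(table_head k_table.1).1, el_id]
  · show (smat (kCodes.getD 0 0) : Matrix (Fin 3) (Fin 3) (ZMod 2)) = 1
    rw [k_mat_closed.2.2.1, smat_val (by rw [k_mat_closed.2.2.2.1]; exact Matrix.det_one), k_mat_closed.2.2.2.1]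

theorem gen_step {r i : ℕ} (hr : r < 2) (hi : i < 168) : ∃ j, j < 168 ∧ j = (kSucc.getD r []).getD i 0 ∧
    (el c (baseV (r + 1)), smat (if r = 0 then 84 else 174)) * pairAt c i = pairAt c j := by
  have hg : kGens.getD r 0 = baseV (r + 1) := by interval_cases r <;> rfl
  obtain ⟨h1, h2⟩ := table_closed k_table.1 (r := r) (i := i) (by simpa [kGens] using hr)
    (by rw [k_table.2.2.1]; exact hi)
  rw [k_table.2.2.1] at h1
  refine ⟨_, h1, rfl, Prod.ext ?_ (Subtype.ext ?_)⟩
  · rw [hg] at h2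
    exact (mul_ok c (ok_base (by omega)) (ok_k _ (kElems_mem hi)) h2).2
  · show (smat _ : Matrix (Fin 3) (Fin 3) (ZMod 2)) * (smat (kCodes.getD i 0) : Matrix (Fin 3) (Fin 3) (ZMod 2)) =
      (smat (kCodes.getD ((kSucc.getD r []).getD i 0) 0) : Matrix (Fin 3) (Fin 3) (ZMod 2))
    have hlen : (kSucc.getD r []).length = 168 := by interval_cases r <;> rfl
    have hz : (kCodes.getD i 0, (kSucc.getD r []).getD i 0) ∈ kCodes.zip (kSucc.getD r []) := by
      have hi1 : i < kCodes.length := by rw [k_table.2.2.2.1]; exact hi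
      have hi2 : i < (kSucc.getD r []).length := by rw [hlen]; exact hi
      rw [List.getD_eq_getElem _ _ hi1, List.getD_eq_getElem _ _ hi2]
      exact List.mem_iff_getElem.2 ⟨i, by rw [List.length_zip, k_table.2.2.2.1, hlen]; omega, List.getElem_zip⟩
    rw [smat_val (k_det hi), smat_val (k_det h1)]
    interval_cases r
    · rw [if_pos rfl, smat_val k_mat_closed.2.2.2.2.1]
      exact (of_decide_eq_true (List.all_eq_true.1 k_mat_closed.1 _ hz)).symm
    · rw [if_neg (by norm_num), smat_val k_mat_closed.2.2.2.2.2]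
      exact (of_decide_eq_true (List.all_eq_true.1 k_mat_closed.2.1 _ hz)).symm

theorem mem_graph (p : Cfsg.M24 × Matrix.SpecialLinearGroup (Fin 3) (ZMod 2)) :
    p ∈ graph c ↔ ∃ i, i < 168 ∧ pairAt c i = p := by
  classical
  constructor
  · intro hp
    let S : Set (Cfsg.M24 × Matrix.SpecialLinearGroup (Fin 3) (ZMod 2)) := {p | ∃ i, i < 168 ∧ pairAt c i = p}
    have hfin : S.Finite := Set.toFinite S
    have key : ∀ y ∈ graph c, ∀ s ∈ S, y * s ∈ S := by
      intro y hy
      induction hy using Subgroup.closure_induction with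
      | mem z hz =>
        rintro _ ⟨i, hi, rfl⟩
        rcases hz with rfl | rfl
        · obtain ⟨j, hj, -, e⟩ := gen_step c (r := 0) (by norm_num) hi
          exact ⟨j, hj, e.symm⟩
        · obtain ⟨j, hj, -, e⟩ := gen_step c (r := 1) (by norm_num) hi
          exact ⟨j, hj, e.symm⟩
      | one => intro s hs; rwa [one_mul]
      | mul a b _ _ ha hb => intro s hs; rw [mul_assoc]; exact ha _ (hb s hs)
      | inv a _ ha =>
        intro s hs
        obtain ⟨t, ht, e⟩ := ((Set.Finite.injOn_iff_bijOn_of_mapsTo (f := fun t => a * t) hfin ha).1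
          (mul_right_injective a).injOn).surjOn hs
        rw [← e]
        show a⁻¹ * (a * t) ∈ S
        rwa [inv_mul_cancel_left]
    have h1 := key p hp 1 ⟨0, by norm_num, pair_zero c⟩
    rwa [mul_one] at h1
  · rintro ⟨i, hi, rfl⟩
    induction i using Nat.strong_induction_on with
    | _ i ih =>
      rcases i with - | i
      · rw [pair_zero]; exact one_mem _
      · obtain ⟨h1, h2, h3⟩ := table_reached k_table.1 (i := i) (by rw [k_table.2.2.1]; exact hi)
        set p := (kParents.getD i (0, 0)).2 with hp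
        set r := (kParents.getD i (0, 0)).1 with hr
        have hr2 : r < 2 := by simpa [kGens] using h2
        obtain ⟨j, hj, -, e⟩ := gen_step c (r := r) (i := p) hr2 (by omega)
        have hji : j = i + 1 := by
          have hg : kGens.getD r 0 = baseV (r + 1) := by interval_cases r <;> rfl
          rw [hg] at h3
          have e1 := (mul_ok c (ok_base (by omega)) (ok_k _ (kElems_mem (by omega))) h3).2
          have e2 : el c (baseV (r + 1)) * el c (kElems.getD p 0) = el c (kElems.getD j 0) := congrArg Prod.fst e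
          have e3 := el_inj c (ok_k _ (kElems_mem hj)) (ok_k _ (kElems_mem hi))
            (table_lt k_table.1 (kElems_mem hj)) (table_lt k_table.1 (kElems_mem hi)) (e2.symm.trans e1)
          have hj' : j < kElems.length := by rw [k_table.2.2.1]; exact hj
          have hi' : i + 1 < kElems.length := by rw [k_table.2.2.1]; exact hi
          rw [List.getD_eq_getElem _ _ hj', List.getD_eq_getElem _ _ hi'] at e3
          exact (List.Nodup.getElem_inj_iff k_table.2.1).1 e3
        rw [← hji, ← e]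
        refine mul_mem (Subgroup.subset_closure ?_) (ih p (by omega) (by omega))
        interval_cases r
        · exact Or.inl rfl
        · exact Or.inr rfl

/-- the complement -/
noncomputable def Kc : Subgroup Cfsg.M24 := (graph c).map (MonoidHom.fst _ _)

theorem mem_Kc {x : Cfsg.M24} : x ∈ Kc c ↔ ∃ i, i < 168 ∧ el c (kElems.getD i 0) = x := by
  constructor
  · rintro ⟨p, hp, rfl⟩
    obtain ⟨i, hi, rfl⟩ := (mem_graph c p).1 hp
    exact ⟨i, hi, rfl⟩
  · rintro ⟨i, hi, rfl⟩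
    exact ⟨_, (mem_graph c _).2 ⟨i, hi, rfl⟩, rfl⟩

theorem card_SL3 : Nat.card (Matrix.SpecialLinearGroup (Fin 3) (ZMod 2)) = 168 := by
  rw [← Nat.card_congr (TransLarge.glEquivSL 3).toEquiv, Matrix.card_GL_field, ZMod.card,
    Fin.prod_univ_three]
  rfl

theorem graph_iso : Nonempty (↥(Kc c) ≃* Matrix.SpecialLinearGroup (Fin 3) (ZMod 2)) := by
  classical
  let f : ↥(graph c) →* Matrix.SpecialLinearGroup (Fin 3) (ZMod 2) := (MonoidHom.snd _ _).comp (graph c).subtype
  let g : ↥(graph c) →* Cfsg.M24 := (MonoidHom.fst _ _).comp (graph c).subtype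
  have hfst : ∀ i j, i < 168 → j < 168 → el c (kElems.getD i 0) = el c (kElems.getD j 0) → i = j := by
    intro i j hi hj h
    have e := el_inj c (ok_k _ (kElems_mem hi)) (ok_k _ (kElems_mem hj)) (table_lt k_table.1 (kElems_mem hi))
      (table_lt k_table.1 (kElems_mem hj)) h
    rw [List.getD_eq_getElem _ _ (by rw [k_table.2.2.1]; exact hi),
      List.getD_eq_getElem _ _ (by rw [k_table.2.2.1]; exact hj)] at e
    exact (List.Nodup.getElem_inj_iff k_table.2.1).1 e
  have hcard : Nat.card (graph c) = 168 := by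
    have e : Fin 168 ≃ ↥(graph c) := Equiv.ofBijective (fun i => ⟨pairAt c i, (mem_graph c _).2 ⟨i, i.2, rfl⟩⟩)
      ⟨fun a b h => Fin.ext (hfst a b a.2 b.2 (congrArg (fun x : ↥(graph c) => x.1.1) h)),
       fun x => by
        obtain ⟨i, hi, h⟩ := (mem_graph c x.1).1 x.2
        exact ⟨⟨i, hi⟩, Subtype.ext h⟩⟩
    rw [← Nat.card_congr e, Nat.card_fin]
  have hfi : Function.Injective f := by
    rintro ⟨p, hp⟩ ⟨q, hq⟩ h
    obtain ⟨a, ha, rfl⟩ := (mem_graph c p).1 hp
    obtain ⟨b, hb, rfl⟩ := (mem_graph c q).1 hq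
    have h' : mat (kCodes.getD a 0) = mat (kCodes.getD b 0) := by
      rw [← smat_val (k_det ha), ← smat_val (k_det hb)]; exact congrArg Subtype.val h
    have ha' : a < kCodes.length := by rw [k_table.2.2.2.1]; exact ha
    have hb' : b < kCodes.length := by rw [k_table.2.2.2.1]; exact hb
    rw [List.getD_eq_getElem _ _ ha', List.getD_eq_getElem _ _ hb'] at h'
    have hA := List.all_eq_true.1 k_mat_inj _ (List.getElem_mem ha')
    have hB := List.all_eq_true.1 k_mat_inj _ (List.getElem_mem hb')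
    rw [Bool.and_eq_true, beq_iff_eq] at hA hB
    obtain rfl := (List.Nodup.getElem_inj_iff k_table.2.2.2.2).1 (hA.1.symm.trans (h' ▸ hB.1))
    rfl
  have hgi : Function.Injective g := by
    rintro ⟨p, hp⟩ ⟨q, hq⟩ h
    obtain ⟨a, ha, rfl⟩ := (mem_graph c p).1 hp
    obtain ⟨b, hb, rfl⟩ := (mem_graph c q).1 hq
    obtain rfl := hfst a b ha hb h
    rfl
  have hbij : Function.Bijective f := (Nat.bijective_iff_injective_and_card f).2 ⟨hfi, by rw [hcard, card_SL3]⟩
  have hrange : g.range = Kc c := by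
    ext x
    constructor
    · rintro ⟨p, rfl⟩; exact ⟨p.1, p.2, rfl⟩
    · rintro ⟨p, hp, rfl⟩; exact ⟨⟨p, hp⟩, rfl⟩
  exact ⟨(MulEquiv.subgroupCongr hrange.symm).trans
    ((MonoidHom.ofInjective hgi).symm.trans (MulEquiv.ofBijective f hbij))⟩

theorem card_Kc : Nat.card (Kc c) = 168 := by
  obtain ⟨e⟩ := graph_iso c
  rw [Nat.card_congr e.toEquiv, card_SL3]

theorem Kc_le : Kc c ≤ Cc c := by
  rintro _ ⟨p, hp, rfl⟩
  induction hp using Subgroup.closure_induction with
  | mem z hz =>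
    rw [Cc, Subgroup.mem_centralizer_singleton_iff, zc]
    have h := List.all_eq_true.1 z_facts.2.2.2.2.1
    rcases hz with rfl | rfl
    · exact (el_two c (ok_base (by norm_num)) (ok_base (by norm_num)) (ok_base (by norm_num))
        (ok_base (by norm_num))).2 (h _ (List.mem_cons_self))
    · exact (el_two c (ok_base (by norm_num)) (ok_base (by norm_num)) (ok_base (by norm_num))
        (ok_base (by norm_num))).2 (h _ (List.mem_cons_of_mem _ List.mem_cons_self))
  | one => exact one_mem _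
  | mul a b _ _ ha hb => rw [map_mul]; exact mul_mem ha hb
  | inv a _ ha => rw [map_inv]; exact inv_mem ha

theorem Kc_normalises {k : Cfsg.M24} (hk : k ∈ Kc c) : k ∈ Subgroup.normalizer (Qc c : Set Cfsg.M24) := by
  obtain ⟨p, hp, rfl⟩ := hk
  induction hp using Subgroup.closure_induction with
  | mem z hz =>
    have hconj : ∀ r, r < 2 → el c (kGens.getD r 0) ∈ Subgroup.normalizer (Qc c : Set Cfsg.M24) := by
      intro r hr
      have hk : Ok (kGens.getD r 0) := ok_kg _ (by
        rw [List.getD_eq_getElem _ _ (by simpa [kGens] using hr)]; exact List.getElem_mem _)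
      have hh := List.all_eq_true.1 k_normalises r (List.mem_range.2 hr)
      rw [List.all_eq_true] at hh
      refine Subgroup.mem_normalizer_iff_map_conj_eq.2 (Subgroup.eq_of_le_of_card_ge ?_ ?_)
      · rw [Subgroup.map_le_iff_le_comap, Qc, span, Subgroup.closure_le]
        rintro _ ⟨g, hg, rfl⟩
        obtain ⟨s, hs, rfl⟩ := List.getElem_of_mem hg
        have h := hh s (List.mem_range.2 hs)
        simp only [Bool.and_eq_true, decide_eq_true_eq] at h
        rw [List.getD_eq_getElem _ _ hs] at h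
        have hq : qElems.getD ((kNorm.getD r []).getD s 0) 0 ∈ qElems := by
          rw [List.getD_eq_getElem _ _ h.1]; exact List.getElem_mem _
        show el c (kGens.getD r 0) * el c qGens[s] * (el c (kGens.getD r 0))⁻¹ ∈ span c qGens
        rw [(el_two c hk (ok_qg _ hg) (ok_q _ hq) hk).2 h.2, mul_inv_cancel_right]
        exact (mem_Qc c).2 ⟨_, hq, rfl⟩
      · rw [Subgroup.card_map_of_injective (MulAut.conj _).injective]
    rcases hz with rfl | rfl
    · exact hconj 0 (by norm_num)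
    · exact hconj 1 (by norm_num)
  | one => exact one_mem _
  | mul a b _ _ ha hb => rw [map_mul]; exact mul_mem ha hb
  | inv a _ ha => rw [map_inv]; exact inv_mem ha

theorem k_fact {i : ℕ} (hi : i < 168) : kElems.getD i 0 = idV ∨
    (kElems.getD i 0 ∉ qElems ∧ ∃ g ∈ qGens, eq2 (kElems.getD i 0) g g (kElems.getD i 0) = false ∧
      eq3 (kElems.getD i 0) g (baseV 0) g (kElems.getD i 0) = false) := by
  obtain ⟨h, hlen⟩ := k_facts
  have hi1 : i < kElems.length := by rw [k_table.2.2.1]; exact hi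
  have hi2 : i < kWitness.length := by rw [hlen]; exact hi
  have := List.all_eq_true.1 h (kElems[i], kWitness[i])
    (List.mem_iff_getElem.2 ⟨i, by rw [List.length_zip]; omega, List.getElem_zip⟩)
  rw [List.getD_eq_getElem _ _ hi1]
  simp only [Bool.or_eq_true, Bool.and_eq_true, beq_iff_eq, decide_eq_true_eq, Bool.not_eq_true'] at this
  rcases this with e | ⟨⟨⟨h1, h2⟩, h3⟩, h4⟩
  · exact Or.inl e
  · refine Or.inr ⟨fun hm => ?_, _, ?_, h3, h4⟩
    · exact Bool.noConfusion (h1.symm.trans (List.elem_iff.2 hm))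
    · rw [List.getD_eq_getElem _ _ h2]; exact List.getElem_mem _

theorem inter_trivial {x : Cfsg.M24} (hq : x ∈ Qc c) (hk : x ∈ Kc c) : x = 1 := by
  obtain ⟨v, hv, rfl⟩ := (mem_Qc c).1 hq
  obtain ⟨i, hi, h⟩ := (mem_Kc c).1 hk
  have h' := el_inj c (ok_k _ (kElems_mem hi)) (ok_q v hv) (table_lt k_table.1 (kElems_mem hi))
    (table_lt q_table.1 hv) h
  rcases k_fact hi with e | ⟨e, -⟩
  · rw [← h', e, el_id]
  · exact absurd (h' ▸ hv) e

theorem fixSet_repP {σ : Equiv.Perm Cfsg.GolayPt} {v : ℕ} (h : RepP σ v) : fixSet σ = ofMask (fixMaskP v) := by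
  ext p
  rw [mem_ofMask, fixMaskP, testBit_listMask, List.mem_filter, beq_iff_eq, Finset.mem_filter]
  simp only [Finset.mem_univ, true_and, List.mem_range.2 (idx_lt p)]
  rw [h p]
  exact ⟨fun e => congrArg idx e, fun e => idx_injective e⟩

/-- a standard involution fixing an octad -/
noncomputable def z0 : Equiv.Perm Cfsg.GolayPt := (ok_base (i := 0) (by norm_num)).choose

theorem z0_spec : z0 ∈ Cfsg.M24 ∧ RepP z0 (baseV 0) := (ok_base (i := 0) (by norm_num)).choose_spec

theorem zc_eq : zc c = MulAut.conj c ⟨z0, z0_spec.1⟩ := el_of c z0_spec.1 z0_spec.2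

theorem ofMask_5279 : (ofMask 5279).card = 8 ∧ ofMask 5279 ∈ Cfsg.octads := by
  rw [mem_octads, mask_ofMask (by norm_num)]
  decide +kernel

theorem fix_z0 : fixSet z0 = ofMask 5279 := by rw [fixSet_repP z0_spec.2, z_facts.2.2.2.2.2]

theorem order_two_of {σ : Equiv.Perm Cfsg.GolayPt} {v : ℕ} (hσ : σ ∈ Cfsg.M24) (h : RepP σ v)
    (hv : v < 2 ^ 120) (hsq : mulOK v v idV = true) (hne : v ≠ idV) : orderOf σ = 2 := by
  refine orderOf_eq_prime ?_ ?_
  · rw [sq]
    refine repP_unique (fun p => ?_) repP_one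
    rw [← allRange hsq p, h p, h (σ p)]; rfl
  · rintro rfl
    exact hne (eq_of_nget hv id_lt fun i hi => by rw [← idx_pt i hi, h (pt i), repP_one (pt i)])

theorem orderOf_z0 : orderOf z0 = 2 :=
  order_two_of z0_spec.1 z0_spec.2 z_lt z_facts.2.1 z_facts.2.2.1

/-- enough conjugates of the involution -/
theorem class_ge : 11385 ≤ {x : Equiv.Perm Cfsg.GolayPt | ∃ g ∈ Cfsg.M24, g * z0 * g⁻¹ = x}.ncard := by
  classical
  obtain ⟨hE, hnd, hlen⟩ := e_table
  let L := eElems.filter (fun v => !(v == idV))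
  have hex : ∀ v : ↥L.toFinset, ∃ σ, σ ∈ Cfsg.M24 ∧ RepP σ v.1 ∧ orderOf σ = 2 ∧ fixSet σ = ofMask 5279 := by
    intro v
    have hv := List.mem_toFinset.1 v.2
    rw [List.mem_filter, Bool.not_eq_true', beq_eq_false_iff_ne] at hv
    obtain ⟨σ, hσ, r⟩ := table_ok hE ok_eg v.1 hv.1
    have h := List.all_eq_true.1 e_facts.1 v.1 hv.1
    simp only [Bool.and_eq_true, Bool.or_eq_true, beq_iff_eq] at h
    exact ⟨σ, hσ, r, order_two_of hσ r (table_lt hE hv.1) h.1.2 hv.2, by
      rw [fixSet_repP r, h.2.resolve_left hv.2]⟩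
  choose τ hτ using hex
  have hLlen : 15 ≤ L.toFinset.card := by
    have hsub : eElems.toFinset ⊆ insert idV L.toFinset := by
      intro v hv
      rw [List.mem_toFinset] at hv
      rw [Finset.mem_insert, List.mem_toFinset, List.mem_filter]
      by_cases h : v = idV
      · exact Or.inl h
      · exact Or.inr ⟨hv, by simp [h]⟩
    have := (Finset.card_le_card hsub).trans (Finset.card_insert_le _ _)
    rw [List.toFinset_card_of_nodup hnd, hlen] at this
    omega
  choose σ hσ using fun o : ↥Cfsg.octads => octad_map o.1 o.2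
  let f : ↥Cfsg.octads × ↥L.toFinset → {x : Equiv.Perm Cfsg.GolayPt | ∃ g ∈ Cfsg.M24, g * z0 * g⁻¹ = x} :=
    fun p => ⟨σ p.1 * τ p.2 * (σ p.1)⁻¹, by
      obtain ⟨hk, -, h2, hfix⟩ := hτ p.2
      obtain ⟨k, hkM, e⟩ := invol_conj z0_spec.1 hk orderOf_z0 h2 (by rw [fix_z0, hfix])
      exact ⟨σ p.1 * k, mul_mem (hσ p.1).1 hkM, by rw [← e]; group⟩⟩
  have hfix : ∀ p, fixSet ((f p).1) = p.1.1 := fun p => by
    show fixSet (σ p.1 * τ p.2 * (σ p.1)⁻¹) = _
    rw [fixSet_conj, (hτ p.2).2.2.2, (hσ p.1).2]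
  have hf : Function.Injective f := by
    rintro ⟨o, l⟩ ⟨o', l'⟩ h
    have ho : o = o' := Subtype.ext (by rw [← hfix (o, l), ← hfix (o', l'), h])
    subst ho
    have h' : σ o * τ l * (σ o)⁻¹ = σ o * τ l' * (σ o)⁻¹ := congrArg Subtype.val h
    rw [mul_left_inj, mul_right_inj] at h'
    refine Prod.ext rfl (Subtype.ext (eq_of_nget
      (table_lt hE (List.mem_filter.1 (List.mem_toFinset.1 l.2)).1)
      (table_lt hE (List.mem_filter.1 (List.mem_toFinset.1 l'.2)).1) fun i hi => ?_))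
    rw [← idx_pt i hi, (hτ l).2.1 (pt i), (hτ l').2.1 (pt i), h']
  have := Nat.card_le_card_of_injective f hf
  rw [Nat.card_prod, Nat.card_coe_set_eq, ncard_octads, Nat.card_coe_set_eq, Nat.card_eq_fintype_card,
    Fintype.card_coe] at this
  omega

/-- orbit counting for conjugation -/
theorem card_cent_mul {G : Type*} [Group G] [Finite G] (M : Subgroup G) (t : G) (A : Set G)
    (hA : ∀ x, x ∈ A ↔ ∃ g ∈ M, g * t * g⁻¹ = x) :
    A.ncard * Nat.card {y : G // y ∈ M ∧ y * t = t * y} = Nat.card M := by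
  let φ : M → A := fun g => ⟨g.1 * t * g.1⁻¹, (hA _).2 ⟨g.1, g.2, rfl⟩⟩
  have hs : ∀ x : A, ∃ g : M, φ g = x := fun x => by
    obtain ⟨g, hg, e⟩ := (hA _).1 x.2
    exact ⟨⟨g, hg⟩, Subtype.ext e⟩
  choose r hr using hs
  have hfib : ∀ x : A, Nat.card {g : M // φ g = x} = Nat.card {y : G // y ∈ M ∧ y * t = t * y} := by
    intro x
    have h2 : (r x).1 * t * (r x).1⁻¹ = x.1 := congrArg Subtype.val (hr x)
    refine Nat.card_congr
      { toFun := fun g => ⟨(r x).1⁻¹ * g.1.1, mul_mem (inv_mem (r x).2) g.1.2, ?_⟩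
        invFun := fun y => ⟨⟨(r x).1 * y.1, mul_mem (r x).2 y.2.1⟩, Subtype.ext ?_⟩
        left_inv := fun g => Subtype.ext (Subtype.ext (by simp))
        right_inv := fun y => Subtype.ext (by simp) }
    · have h1 : g.1.1 * t * g.1.1⁻¹ = x.1 := congrArg Subtype.val g.2
      rw [← h2] at h1
      calc (r x).1⁻¹ * g.1.1 * t = (r x).1⁻¹ * (g.1.1 * t * g.1.1⁻¹) * g.1.1 := by group
        _ = t * ((r x).1⁻¹ * g.1.1) := by rw [h1]; group
    · show (r x).1 * y.1 * t * ((r x).1 * y.1)⁻¹ = x.1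
      rw [← h2, mul_assoc (r x).1 y.1 t, y.2.2]
      group
  haveI : Fintype A := Fintype.ofFinite _
  rw [← Nat.card_congr (Equiv.sigmaFiberEquiv φ), Nat.card_sigma, Finset.sum_congr rfl fun x _ => hfib x,
    Finset.sum_const, Finset.card_univ, smul_eq_mul, ← Nat.card_eq_fintype_card, Nat.card_coe_set_eq]

theorem card_Cc_le : Nat.card (Cc c) ≤ 21504 := by
  classical
  have h := card_cent_mul Cfsg.M24 z0 _ (fun x => Iff.rfl)
  rw [card_M24] at h
  have hle : Nat.card (Cc c) ≤ Nat.card {y : Equiv.Perm Cfsg.GolayPt // y ∈ Cfsg.M24 ∧ y * z0 = z0 * y} := by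
    refine Nat.card_le_card_of_injective (fun x => ⟨(((MulAut.conj c).symm x.1 : Cfsg.M24) : Equiv.Perm Cfsg.GolayPt),
      ((MulAut.conj c).symm x.1).2, ?_⟩) (fun a b e => Subtype.ext ((MulAut.conj c).symm.injective
        (Subtype.ext (congrArg Subtype.val e :))))
    have hx : x.1 * zc c = zc c * x.1 := Subgroup.mem_centralizer_singleton_iff.1 x.2
    have h2 := congrArg (MulAut.conj c).symm hx
    rw [map_mul, map_mul, zc_eq, MulEquiv.symm_apply_apply] at h2
    exact congrArg Subtype.val h2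
  refine hle.trans ?_
  have := class_ge
  by_contra hcon
  push Not at hcon
  have h3 := (Nat.mul_le_mul this hcon).trans_eq h
  norm_num at h3

theorem factor {x : Cfsg.M24} (hx : x ∈ Cc c) : ∃ q ∈ Qc c, ∃ k ∈ Kc c, q * k = x := by
  classical
  let f : Qc c × Kc c → Cc c := fun p => ⟨p.1.1 * p.2.1, mul_mem (Qc_le c p.1.2) (Kc_le c p.2.2)⟩
  have hf : Function.Injective f := by
    rintro ⟨q, k⟩ ⟨q', k'⟩ h
    have h' : q.1 * k.1 = q'.1 * k'.1 := congrArg Subtype.val h
    have e1 : q'.1⁻¹ * q.1 = k'.1 * k.1⁻¹ := by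
      rw [eq_mul_inv_iff_mul_eq, mul_assoc, h', inv_mul_cancel_left]
    have h1 := inter_trivial c (mul_mem (inv_mem q'.2) q.2) (e1 ▸ mul_mem k'.2 (inv_mem k.2))
    have hq : q' = q := Subtype.ext (inv_mul_eq_one.1 h1)
    subst hq
    exact Prod.ext rfl (Subtype.ext (mul_left_cancel h'))
  have hb : Function.Bijective f := (Nat.bijective_iff_injective_and_card f).2 ⟨hf, le_antisymm
    (Nat.card_le_card_of_injective f hf) (by rw [Nat.card_prod, card_Qc, card_Kc]; exact card_Cc_le c)⟩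
  obtain ⟨⟨q, k⟩, h⟩ := hb.2 ⟨x, hx⟩
  exact ⟨q, q.2, k, k.2, congrArg Subtype.val h⟩

theorem Cc_normalises {x : Cfsg.M24} (hx : x ∈ Cc c) : x ∈ Subgroup.normalizer (Qc c : Set Cfsg.M24) := by
  obtain ⟨q, hq, k, hk, rfl⟩ := factor c hx
  exact mul_mem (Subgroup.le_normalizer hq) (Kc_normalises c hk)

theorem pcore_eq : (Cfsg.pCore 2 ↥(Cc c)).map (Cc c).subtype = Qc c := by
  haveI : Fact (Nat.Prime 2) := ⟨Nat.prime_two⟩
  set P := (Cfsg.pCore 2 ↥(Cc c)).map (Cc c).subtype with hP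
  have hQP : Qc c ≤ P := by
    haveI hn : ((Qc c).subgroupOf (Cc c)).Normal := by
      refine ⟨fun y hy x => ?_⟩
      exact (Subgroup.mem_normalizer_iff.1 (Cc_normalises c x.2) y.1).1 hy
    have hp : IsPGroup 2 ((Qc c).subgroupOf (Cc c)) :=
      IsPGroup.of_card (n := 7) (by rw [Nat.card_congr (Subgroup.subgroupOfEquivOfLe (Qc_le c)).toEquiv, card_Qc])
    intro x hx
    exact ⟨⟨x, Qc_le c hx⟩, Cfsg.Agent.Solv.normal_le_pCore hp hx, rfl⟩
  refine le_antisymm (fun x hx => ?_) hQP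
  obtain ⟨q, hq, k, hk, rfl⟩ := factor c (Subgroup.map_subtype_le _ hx)
  have hkP : k ∈ P := by
    have := mul_mem (inv_mem (hQP hq)) hx
    rwa [inv_mul_cancel_left] at this
  obtain ⟨φ⟩ := graph_iso c
  let ψ : ↥(Kc c) ≃* GL (Fin 3) (ZMod 2) := φ.trans (TransLarge.glEquivSL 3).symm
  have hPn : ∀ y ∈ P, ∀ g ∈ Cc c, g * y * g⁻¹ ∈ P := by
    rintro _ ⟨y, hy, rfl⟩ g hg
    exact ⟨⟨g, hg⟩ * y * ⟨g, hg⟩⁻¹, (Cfsg.Agent.Solv.pCore_normal 2).conj_mem y hy _, rfl⟩
  have hNn : (P.subgroupOf (Kc c)).Normal := ⟨fun y hy g => hPn y.1 hy g.1 (Kc_le c g.2)⟩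
  have hNp : IsPGroup 2 (P.subgroupOf (Kc c)) :=
    ((Cfsg.Agent.Solv.pCore_isPGroup (G := ↥(Cc c)) 2).map _).comap_of_injective _ Subtype.val_injective
  have htriv := TransLarge.normal_two_trivial (n := 3) (hNn.map ψ.toMonoidHom ψ.surjective) (hNp.map _)
  have h1 : ψ ⟨k, hk⟩ = 1 := by
    rw [← Subgroup.mem_bot, ← htriv]
    exact ⟨_, hkP, rfl⟩
  have hk1 : k = 1 := congrArg Subtype.val (ψ.injective (h1.trans (map_one ψ).symm))
  rw [hk1, mul_one]; exact hq

theorem z_comm {x : Cfsg.M24} (hx : x ∈ Qc c) : x * zc c = zc c * x :=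
  Subgroup.mem_centralizer_singleton_iff.1 (Qc_le c hx)

theorem comm_cases {a b : Cfsg.M24} (ha : a ∈ Qc c) (hb : b ∈ Qc c) :
    a * b = b * a ∨ a * b = zc c * (b * a) := by
  obtain ⟨l, hl, rfl⟩ := (mem_Qc c).1 ha
  induction hb using Subgroup.closure_induction with
  | mem y hy =>
    obtain ⟨g, hg, rfl⟩ := hy
    have h := List.all_eq_true.1 q_facts l hl
    simp only [Bool.and_eq_true, List.all_eq_true, Bool.or_eq_true] at h
    rcases h.1.2 g hg with h | h
    · exact Or.inl ((el_two c (ok_q l hl) (ok_qg g hg) (ok_qg g hg) (ok_q l hl)).2 h)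
    · exact Or.inr ((el_three c (ok_q l hl) (ok_qg g hg) (ok_base (by norm_num)) (ok_qg g hg) (ok_q l hl)).2 h)
  | one => simp
  | mul y y' hy _ h h' =>
    have hyz : Commute y (zc c) := z_comm c hy
    have hzz := zc_sq c
    rcases h with h | h <;> rcases h' with h' | h'
    · left; rw [← mul_assoc, h, mul_assoc, h', ← mul_assoc]
    · right; rw [← mul_assoc, h, mul_assoc, h', ← mul_assoc, hyz.eq]; simp only [mul_assoc]
    · right; rw [← mul_assoc, h]; simp only [mul_assoc]; rw [h']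
    · left
      rw [← mul_assoc, h]
      simp only [mul_assoc]
      rw [h', ← mul_assoc y (zc c), hyz.eq]
      simp only [← mul_assoc]
      rw [hzz, one_mul]
  | inv y hy h =>
    have hyz : Commute y⁻¹ (zc c) := (show Commute y (zc c) from z_comm c hy).inv_left
    rcases h with h | h
    · left; rw [eq_inv_mul_iff_mul_eq, ← mul_assoc, ← h, mul_inv_cancel_right]
    · right
      calc el c l * y⁻¹ = y⁻¹ * (y * el c l) * y⁻¹ := by group
        _ = y⁻¹ * (zc c * (el c l * y)) * y⁻¹ := by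
          rw [h, ← mul_assoc (zc c) (zc c), zc_sq, one_mul]
        _ = zc c * (y⁻¹ * el c l) := by
          rw [← mul_assoc y⁻¹ (zc c), hyz.eq]; group

theorem central_iff {x : Cfsg.M24} (hx : x ∈ Qc c) :
    (∀ y ∈ Qc c, y * x = x * y) ↔ x = 1 ∨ x = zc c := by
  constructor
  · intro h
    obtain ⟨l, hl, rfl⟩ := (mem_Qc c).1 hx
    have hq := List.all_eq_true.1 q_facts l hl
    simp only [Bool.and_eq_true, Bool.or_eq_true, beq_iff_eq, List.any_eq_true, Bool.not_eq_true'] at hq
    rcases hq.2 with (e | e) | ⟨g, hg, e⟩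
    · left; rw [e, el_id]
    · right; rw [e]; rfl
    · exact Bool.noConfusion (e.symm.trans
        ((el_two c (ok_q l hl) (ok_qg g hg) (ok_qg g hg) (ok_q l hl)).1 (h _ (gen_Qc c hg)).symm))
  · rintro (rfl | rfl) y hy
    · rw [one_mul, mul_one]
    · exact z_comm c hy

theorem extraspecial : Cfsg.IsExtraspecial 2 (Qc c) := by
  classical
  haveI : Fact (Nat.Prime 2) := ⟨Nat.prime_two⟩
  have hcen : ∀ x : Qc c, x ∈ Subgroup.center (Qc c) ↔ x = 1 ∨ x = ⟨zc c, zc_mem c⟩ := by
    intro x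
    rw [Subgroup.mem_center_iff]
    constructor
    · intro h
      rcases (central_iff c x.2).1 (fun y hy => congrArg Subtype.val (h ⟨y, hy⟩)) with e | e
      · exact Or.inl (Subtype.ext e)
      · exact Or.inr (Subtype.ext e)
    · intro h y
      refine Subtype.ext ((central_iff c x.2).2 ?_ y.1 y.2)
      rcases h with rfl | rfl
      exacts [Or.inl rfl, Or.inr rfl]
  refine Cfsg.Agent.Solv.isExtraspecial_of (IsPGroup.of_card (card_Qc c)) ?_ (le_antisymm ?_ ?_) ?_
  · rw [Nat.card_eq_two_iff]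
    refine ⟨⟨1, one_mem _⟩, ⟨⟨zc c, zc_mem c⟩, (hcen _).2 (Or.inr rfl)⟩, fun e => zc_ne c ?_,
      Set.eq_univ_of_forall fun x => ?_⟩
    · exact (congrArg (fun y : Subgroup.center (Qc c) => ((y : Qc c) : Cfsg.M24)) e).symm
    · rcases (hcen x.1).1 x.2 with e | e
      exacts [Or.inl (Subtype.ext e), Or.inr (Subtype.ext e)]
  · rw [commutator_def, Subgroup.commutator_le]
    intro a _ b _
    rw [hcen]
    rcases comm_cases c a.2 b.2 with e | e
    · left
      rw [commutatorElement_eq_one_iff_mul_comm]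
      exact Subtype.ext e
    · right
      apply Subtype.ext
      show a.1 * b.1 * a.1⁻¹ * b.1⁻¹ = zc c
      rw [e]; group
  · intro x hx
    rcases (hcen x).1 hx with rfl | rfl
    · exact one_mem _
    · obtain ⟨a, ha, hna⟩ : ∃ a ∈ Qc c, ¬∀ y ∈ Qc c, y * a = a * y := by
        by_contra hno
        push Not at hno
        have h1 : (Qc c : Set Cfsg.M24) ⊆ {1, zc c} := fun a ha => (central_iff c ha).1 (hno a ha)
        have h2 := Set.ncard_le_ncard h1
        rw [← Nat.card_coe_set_eq, SetLike.coe_sort_coe, card_Qc] at h2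
        have h3 : ({1, zc c} : Set Cfsg.M24).ncard ≤ 2 := (Set.ncard_insert_le _ _).trans (by simp)
        omega
      push Not at hna
      obtain ⟨b, hb, hab⟩ := hna
      have e := (comm_cases c hb ha).resolve_left hab
      have hc : ⁅(⟨b, hb⟩ : ↥(Qc c)), (⟨a, ha⟩ : ↥(Qc c))⁆ = (⟨zc c, zc_mem c⟩ : ↥(Qc c)) := by
        apply Subtype.ext
        show b * a * b⁻¹ * a⁻¹ = zc c
        rw [e]; group
      rw [← hc, commutator_def]
      exact Subgroup.commutator_mem_commutator (Subgroup.mem_top _) (Subgroup.mem_top _)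
  · intro x
    rw [hcen]
    obtain ⟨l, hl, e⟩ := (mem_Qc c).1 x.2
    have hla := ok_q l hl
    have hq := List.all_eq_true.1 q_facts l hl
    simp only [Bool.and_eq_true, Bool.or_eq_true] at hq
    rcases hq.1.1 with h | h
    · left
      refine Subtype.ext ?_
      rw [SubmonoidClass.coe_pow, sq, ← e, (mul_ok c hla hla h).2, el_id]; rfl
    · right
      refine Subtype.ext ?_
      rw [SubmonoidClass.coe_pow, sq, ← e, (mul_ok c hla hla h).2]; rfl

theorem cent_Qc {x : Cfsg.M24} (h : ∀ y ∈ Qc c, y * x = x * y) : x = 1 ∨ x = zc c := by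
  have hxC : x ∈ Cc c := Subgroup.mem_centralizer_singleton_iff.2 (h _ (zc_mem c)).symm
  obtain ⟨q, hq, k, hk, rfl⟩ := factor c hxC
  obtain ⟨i, hi, rfl⟩ := (mem_Kc c).1 hk
  suffices hk1 : el c (kElems.getD i 0) = 1 by
    rw [hk1, mul_one] at h ⊢
    exact (central_iff c hq).1 h
  rcases k_fact hi with hm | ⟨-, g, hg, hne, hne'⟩
  · rw [hm, el_id]
  have hgo := ok_qg g hg
  have heo := ok_k _ (kElems_mem hi)
  have hgQ := gen_Qc c hg
  have hh := h _ hgQ
  rw [mul_assoc] at hh
  exfalso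
  rcases comm_cases c hgQ hq with h1 | h1
  · rw [← mul_assoc, h1, mul_assoc] at hh
    exact Bool.noConfusion (hne.symm.trans ((el_two c heo hgo hgo heo).1 (mul_left_cancel hh).symm))
  · rw [← mul_assoc, h1, mul_assoc, mul_assoc, ← mul_assoc (zc c) q, ← z_comm c hq, mul_assoc] at hh
    exact Bool.noConfusion (hne'.symm.trans
      ((el_three c heo hgo (ok_base (by norm_num)) hgo heo).1 (mul_left_cancel hh).symm))

theorem large : Cfsg.IsLargeExtraspecial (Qc c) := by
  have hex := extraspecial c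
  have hcz : (⟨zc c, zc_mem c⟩ : Qc c) ∈ Subgroup.center (Qc c) :=
    Subgroup.mem_center_iff.2 fun q => Subtype.ext (z_comm c q.2)
  have hnorm : ∀ x : Cfsg.M24, x * zc c = zc c * x → ∀ q ∈ Qc c, x * q * x⁻¹ ∈ Qc c := fun x hx q hq =>
    (Subgroup.mem_normalizer_iff.1 (Cc_normalises c (Subgroup.mem_centralizer_singleton_iff.2 hx)) q).1 hq
  refine ⟨hex, ?_, ?_, fun K hK hQK => ?_⟩
  · refine le_antisymm (fun x hx => ?_) ?_
    · rcases cent_Qc c (fun q hq => Subgroup.mem_centralizer_iff.1 hx q hq) with rfl | rfl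
      · exact one_mem _
      · exact ⟨_, hcz, rfl⟩
    · rintro _ ⟨x, hx, rfl⟩
      rw [Subgroup.mem_centralizer_iff]
      exact fun q hq => congrArg Subtype.val (Subgroup.mem_center_iff.1 hx ⟨q, hq⟩)
  · intro x hx
    exact Cc_normalises c (Subgroup.mem_centralizer_singleton_iff.2
      (Subgroup.mem_centralizer_iff.1 hx _ ⟨_, hcz, rfl⟩).symm)
  · obtain ⟨hu, hu2, huz, hg, hh, hc1, hc2, hgq, hhq⟩ := signalizer_facts
    have hz := ok_base (i := 0) (by norm_num)
    have huo := ok_base (i := 3) (by norm_num)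
    have hgo := ok_base (i := 4) (by norm_num)
    have hho := ok_base (i := 5) (by norm_num)
    have hq1 : qElems.getD conjPos.1 0 ∈ qElems := by
      rw [List.getD_eq_getElem _ _ (of_decide_eq_true hc1)]; exact List.getElem_mem _
    have hq2 : qElems.getD conjPos.2 0 ∈ qElems := by
      rw [List.getD_eq_getElem _ _ (of_decide_eq_true hc2)]; exact List.getElem_mem _
    refine TransLarge.odd_trivial (z := zc c) (u := el c (baseV 3)) (IsPGroup.of_card (card_Qc c)) (zc_mem c)
      ((mem_Qc c).2 ⟨_, List.elem_iff.1 hu, rfl⟩) (zc_sq c)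
      (by rw [(mul_ok c huo huo hu2).2, el_id]) ((el_two c huo hz hz huo).2 huz).symm
      (fun x hx => cent_Qc c hx) hnorm (g := el c (baseV 4)) ?_ ?_ (h := el c (baseV 5)) ?_ ?_ hK hQK
    · rw [mul_inv_eq_iff_eq_mul]; exact (el_two c hgo hz huo hgo).2 hg
    · show (el c (baseV 4))⁻¹ * el c (baseV 0) * el c (baseV 4) ∈ Qc c
      rw [mul_assoc, (el_two c hz hgo hgo (ok_q _ hq1)).2 hgq, inv_mul_cancel_left]
      exact (mem_Qc c).2 ⟨_, hq1, rfl⟩
    · rw [mul_inv_eq_iff_eq_mul, mul_assoc]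
      exact (el_three c hho hz huo hz hho).2 hh
    · show (el c (baseV 5))⁻¹ * el c (baseV 0) * el c (baseV 5) ∈ Qc c
      rw [mul_assoc, (el_two c hz hho hho (ok_q _ hq2)).2 hhq, inv_mul_cancel_left]
      exact (mem_Qc c).2 ⟨_, hq2, rfl⟩

theorem exists_elementary :
    ∃ E : Subgroup Cfsg.M24, E ≤ Qc c ∧ Cfsg.IsElementaryAbelian 2 E ∧ Nat.card ↥E = 2 ^ 4 := by
  obtain ⟨hE, hnd, hlen⟩ := e_table
  have hok := table_ok hE ok_eg
  have hf : ∀ a ∈ eElems, a ∈ qElems ∧ mulOK a a idV = true := by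
    intro a ha
    have h := List.all_eq_true.1 e_facts.1 a ha
    simp only [Bool.and_eq_true] at h
    exact ⟨List.elem_iff.1 h.1.1, h.1.2⟩
  have hcomm : ∀ x ∈ span c eGens, ∀ y ∈ span c eGens, x * y = y * x := by
    intro x hx y hy
    induction hx using Subgroup.closure_induction with
    | mem z hz =>
      obtain ⟨g, hg, rfl⟩ := hz
      obtain ⟨m, hm, rfl⟩ := (mem_span c hE ok_eg y).1 hy
      exact (el_two c (ok_eg g hg) (hok m hm) (hok m hm) (ok_eg g hg)).2
        (List.all_eq_true.1 (List.all_eq_true.1 e_facts.2 g hg) m hm)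
    | one => simp
    | mul a b _ _ ha hb => exact ((show Commute a y from ha).mul_left hb).eq
    | inv a _ ha => exact (show Commute a y from ha).inv_left.eq
  refine ⟨span c eGens, fun x hx => ?_, ⟨⟨⟨fun x y => Subtype.ext (hcomm x.1 x.2 y.1 y.2)⟩⟩, fun x hx => ?_⟩,
    by rw [card_span c hE ok_eg hnd, hlen]; rfl⟩
  · obtain ⟨v, hv, rfl⟩ := (mem_span c hE ok_eg x).1 hx
    exact (mem_Qc c).2 ⟨v, (hf v hv).1, rfl⟩
  · obtain ⟨v, hv, rfl⟩ := (mem_span c hE ok_eg x).1 hx
    rw [sq, (mul_ok c (hok v hv) (hok v hv) (hf v hv).2).2, el_id]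

theorem exists_param {z : Cfsg.M24} (hz : orderOf z = 2)
    (hfix : fixSet (z : Equiv.Perm Cfsg.GolayPt) ∈ Cfsg.octads) : ∃ c : Cfsg.M24, zc c = z := by
  have h2 : orderOf (z : Equiv.Perm Cfsg.GolayPt) = 2 := by rwa [Subgroup.orderOf_coe]
  obtain ⟨k, hk, e⟩ := invol_conj z0_spec.1 z.2 orderOf_z0 h2 (by rw [fix_z0, ofMask_5279.1, hfix.2])
  refine ⟨⟨k, hk⟩, ?_⟩
  rw [zc_eq]
  exact Subtype.ext e

theorem octad_involution_structure {z : Cfsg.M24} (hz : orderOf z = 2)
    (hfix : fixSet (z : Equiv.Perm Cfsg.GolayPt) ∈ Cfsg.octads) {Q : Subgroup Cfsg.M24}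
    (hQ : Q = (Cfsg.pCore 2 ↥(Subgroup.centralizer ({z} : Set Cfsg.M24))).map
      (Subgroup.centralizer ({z} : Set Cfsg.M24)).subtype) :
    Cfsg.IsExtraspecial 2 ↥Q ∧ Nat.card ↥Q = 2 ^ 7 ∧
      (∃ E : Subgroup Cfsg.M24, E ≤ Q ∧ Cfsg.IsElementaryAbelian 2 E ∧ Nat.card ↥E = 2 ^ 4) ∧
      Cfsg.IsLargeExtraspecial Q ∧
      ∃ K : Subgroup Cfsg.M24, K ≤ Subgroup.centralizer ({z} : Set Cfsg.M24) ∧ Q ⊓ K = ⊥ ∧
        Q ⊔ K = Subgroup.centralizer ({z} : Set Cfsg.M24) ∧
        Nonempty (↥K ≃* Matrix.SpecialLinearGroup (Fin 3) (ZMod 2)) := by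
  obtain ⟨c, rfl⟩ := exists_param hz hfix
  have hQ' : Q = Qc c := hQ.trans (pcore_eq c)
  subst hQ'
  refine ⟨extraspecial c, card_Qc c, exists_elementary c, large c, Kc c, Kc_le c, ?_, ?_, graph_iso c⟩
  · rw [Subgroup.eq_bot_iff_forall]
    exact fun x hx => inter_trivial c hx.1 hx.2
  · refine le_antisymm (sup_le (Qc_le c) (Kc_le c)) fun x hx => ?_
    obtain ⟨q, hq, k, hk, rfl⟩ := factor c hx
    exact mul_mem (Subgroup.mem_sup_left hq) (Subgroup.mem_sup_right hk)

end Cfsg.Agent.Spor.OctCent
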