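import Cfsg.Agent.Lib.Spor.GolayElemCent
import Cfsg.Agent.Lib.Spor.GolayLocal
import Cfsg.Agent.Lib.Spor.MathieuSimple
import Cfsg.Agent.Lib.Spor.OctCent
import Cfsg.Agent.Lib.Spor.MathieuTwentyFourFreeData
import Cfsg.Agent.Lib.Fusion.PConstrained

/-!
# The centralisers of involutions of M24 are constrained
-/

set_option autoImplicit false
set_option maxRecDepth 100000
set_option maxHeartbeats 1500000

namespace Cfsg.Agent.Spor.M24Block

open Cfsg
open scoped Pointwise

/-- the tetrads at the chosen base points -/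
def tetAt (a : ℕ) : List ℕ :=
  if a = 0 then [0, 1, 11, 22] else if a = 7 then [7, 10, 17, 23] else [4, 5, 12, 14]

theorem free_core_check :
    (freeCore.all fun l => m24ok l && involSextet.all (fun m => pm l m 0 == m) &&
      (List.range 24).all (fun i => l.getD (l.getD i 0) 0 == i)) = true ∧
    ([0, 7, 4].all fun a => (List.range 24).all fun q =>
      !(freeCore.all fun l => (l.getD q 0 == q) == (l.getD a 0 == a)) || (tetAt a).contains q) = true ∧
    ((tetAt 0).all fun i => (tetAt 7).all fun j => (tetAt 4).all fun k =>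
      freeCore.any fun l => l.getD 0 0 == i && l.getD 7 0 == j && l.getD 4 0 == k) = true ∧
    ((List.range 24).filter (fun q => (tetAt 0).contains q || (tetAt 7).contains q ||
      (tetAt 4).contains q)).length = 12 ∧
    ([0, 7, 4].all fun a => (tetAt a).all fun q => freeCore.any fun l => l.getD a 0 == q) = true := by
  decide +kernel

attribute [local irreducible] tetAt freeCore

theorem involSextet_mem : confOf involSextet ∈ sextets := by
  obtain ⟨hnd, hfix, hun⟩ := involSextet_ok
  refine ⟨by rw [confOf_card hnd fun m hm => (hfix m hm).1]; rfl, fun u hu => ?_, fun u hu v hv hne => ?_⟩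
  · obtain ⟨m, hm, rfl⟩ := mem_confOf.1 hu
    rw [← pc_mask, mask_ofMask (hfix m hm).1, (hfix m hm).2.1]
  · obtain ⟨m, hm, rfl⟩ := mem_confOf.1 hu
    obtain ⟨n, hn, rfl⟩ := mem_confOf.1 hv
    rw [mem_octads, mask_union, mask_ofMask (hfix m hm).1, mask_ofMask (hfix n hn).1]
    exact hun m hm n hn fun e => hne (by rw [e])

theorem invol_mem_sxA : lperm involFree ∈ sxA (confOf involSextet) := by
  obtain ⟨-, hf, -, -, -⟩ := invol_ok
  obtain ⟨-, hfix, -⟩ := involSextet_ok
  refine ⟨lperm_mem hf, fun u hu => ?_, ?_⟩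
  · obtain ⟨m, hm, rfl⟩ := mem_confOf.1 hu
    exact mask_injective (by rw [mask_smul_lperm (m24ok_lok hf), mask_ofMask (hfix m hm).1, (hfix m hm).2.2])
  · have h := involFree_mem
    rw [← pow_two, ← h.2.1, pow_orderOf_eq_one]

theorem sxA_mul {S : Finset (Finset GolayPt)} (hS : S ∈ sextets) {a b : Equiv.Perm GolayPt}
    (ha : a ∈ sxA S) (hb : b ∈ sxA S) : a * b ∈ sxA S := by
  obtain ⟨σ, hσ, hmap⟩ := sextet_trans confSx_mem hS
  subst hmap
  rw [sxA_smul hσ] at ha hb ⊢
  have := sxA_base.1 _ ha _ hb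
  rwa [show σ⁻¹ * a * σ * (σ⁻¹ * b * σ) = σ⁻¹ * (a * b) * σ by group] at this

theorem sxA_comm {S : Finset (Finset GolayPt)} (hS : S ∈ sextets) {a b : Equiv.Perm GolayPt}
    (ha : a ∈ sxA S) (hb : b ∈ sxA S) : a * b = b * a := by
  have h := (sxA_mul hS ha hb).2.2
  have h1 := inv_eq_of_mul_eq_one_right h
  rw [mul_inv_rev, inv_eq_of_mul_eq_one_right ha.2.2, inv_eq_of_mul_eq_one_right hb.2.2] at h1
  exact h1.symm

/-- the centraliser of the free involution preserves its sextet -/
theorem cent_stab {c : Equiv.Perm GolayPt} (hc : c ∈ M24)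
    (hcomm : c * lperm involFree = lperm involFree * c) : c • confOf involSextet = confOf involSextet := by
  obtain ⟨-, hf, -, -, -⟩ := invol_ok
  have hl := m24ok_lok hf
  have hS := involSextet_mem
  have hall := invol_mem_sxA.2.1
  have huniq : ∀ T ∈ sextets, (∀ u ∈ T, lperm involFree • u = u) → T = confOf involSextet := fun T hT hTall => by
    apply sxKey_injOn hT hS
    obtain ⟨a, ha⟩ := List.length_eq_one_iff.1 sxAllFixed_count
    have m1 : sxKey T ∈ sxKeys.filter (sxAllFixed involFree) :=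
      List.mem_filter.2 ⟨sxKey_mem hT, allFixed_test hl hT hTall⟩
    have m2 : sxKey (confOf involSextet) ∈ sxKeys.filter (sxAllFixed involFree) :=
      List.mem_filter.2 ⟨sxKey_mem hS, allFixed_test hl hS hall⟩
    rw [ha, List.mem_singleton] at m1 m2
    rw [m1, m2]
  refine huniq _ (smul_sextet hc hS) fun u hu => ?_
  obtain ⟨v, hv, rfl⟩ := Finset.mem_smul_finset.1 hu
  rw [← mul_smul, ← hcomm, mul_smul, hall v hv]

theorem core_mem {l : List ℕ} (hl : l ∈ freeCore) : lperm l ∈ sxA (confOf involSextet) := by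
  have h := List.all_eq_true.1 free_core_check.1 l hl
  simp only [Bool.and_eq_true, List.all_eq_true, beq_iff_eq] at h
  obtain ⟨⟨hok, hfix⟩, hsq⟩ := h
  refine ⟨lperm_mem hok, fun u hu => ?_, ?_⟩
  · obtain ⟨m, hm, rfl⟩ := mem_confOf.1 hu
    exact mask_injective (by
      rw [mask_smul_lperm (m24ok_lok hok), mask_ofMask (involSextet_ok.2.1 m hm).1, hfix m hm])
  · refine Equiv.ext fun p => idx_injective ?_
    have hr := rep_lperm (m24ok_lok hok)
    rw [Equiv.Perm.mul_apply, ← hr, ← hr, hsq _ (List.mem_range.2 (idx_lt p))]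
    rfl

/-- the elementary group contains its centraliser -/
theorem core_selfCentral {c : Equiv.Perm GolayPt} (hc : c ∈ M24)
    (hcomm : ∀ x ∈ sxA (confOf involSextet), c * x = x * c) : c ∈ sxA (confOf involSextet) := by
  classical
  obtain ⟨hall, hstab, htrip, hlen, hsurj⟩ := free_core_check
  have hrep : ∀ {l : List ℕ}, l ∈ freeCore → Rep (lperm l) l := fun hl => by
    have h := List.all_eq_true.1 hall _ hl
    simp only [Bool.and_eq_true] at h
    exact rep_lperm (m24ok_lok h.1.1)
  have himg : ∀ a ∈ [0, 7, 4], idx (c (pt a)) ∈ tetAt a := by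
    intro a ha
    have ha24 : a < 24 := by revert a; decide
    have h := List.all_eq_true.1 (List.all_eq_true.1 hstab a ha) (idx (c (pt a)))
      (List.mem_range.2 (idx_lt _))
    simp only [Bool.or_eq_true, List.contains_iff_mem] at h
    refine h.resolve_left fun hn => ?_
    simp only [Bool.not_eq_eq_eq_not, Bool.not_true, List.all_eq_false, beq_iff_eq] at hn
    obtain ⟨l, hl, hne⟩ := hn
    refine hne (Bool.eq_iff_iff.2 ?_)
    rw [beq_iff_eq, beq_iff_eq]
    have hr := hrep hl
    have e1 : lperm l (c (pt a)) = c (lperm l (pt a)) := by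
      rw [← Equiv.Perm.mul_apply, ← hcomm _ (core_mem hl), Equiv.Perm.mul_apply]
    have e2 : l.getD (idx (c (pt a))) 0 = idx (c (lperm l (pt a))) := by rw [hr, e1]
    have e3 : idx (lperm l (pt a)) = l.getD a 0 := by rw [← hr, idx_pt a ha24]
    rw [e2]
    constructor
    · intro h
      rw [← e3, c.injective (idx_injective h), idx_pt a ha24]
    · intro h
      rw [← e3] at h
      rw [show lperm l (pt a) = pt a from idx_injective (h.trans (idx_pt a ha24).symm)]
  have h := List.all_eq_true.1 (List.all_eq_true.1 (List.all_eq_true.1 htrip _ (himg 0 (by simp))) _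
    (himg 7 (by simp))) _ (himg 4 (by simp))
  simp only [List.any_eq_true, Bool.and_eq_true, beq_iff_eq] at h
  obtain ⟨l, hl, ⟨h0, h7⟩, h4⟩ := h
  have hx := core_mem hl
  have hr := hrep hl
  set d := (lperm l)⁻¹ * c with hd
  have hfix : ∀ a ∈ [0, 7, 4], d (pt a) = pt a := by
    intro a ha
    have ha24 : a < 24 := by revert a; decide
    rw [hd, Equiv.Perm.mul_apply, Equiv.Perm.inv_eq_iff_eq]
    refine idx_injective ?_
    rw [← hr, idx_pt a ha24]
    simp only [List.mem_cons, List.not_mem_nil, or_false] at ha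
    rcases ha with rfl | rfl | rfl
    · exact h0.symm
    · exact h7.symm
    · exact h4.symm
  have hdc : ∀ x ∈ sxA (confOf involSextet), d * x = x * d := fun x hxA => by
    have e1 : Commute (lperm l) x := sxA_comm involSextet_mem hx hxA
    exact ((e1.inv_left).mul_left (hcomm x hxA)).eq
  have hd1 : d = 1 := by
    refine eq_one_of_fix_ten (mul_mem (inv_mem hx.1) hc)
      (F := ((List.range 24).filter (fun q => (tetAt 0).contains q || (tetAt 7).contains q ||
        (tetAt 4).contains q)).toFinset.image pt) ?_ ?_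
    · rw [Finset.card_image_of_injOn, List.toFinset_card_of_nodup (List.nodup_range.filter _), hlen]
      · norm_num
      · intro u hu v hv e
        have hu' := List.mem_range.1 (List.mem_filter.1 (List.mem_toFinset.1 hu)).1
        have hv' := List.mem_range.1 (List.mem_filter.1 (List.mem_toFinset.1 hv)).1
        rw [← idx_pt u hu', e, idx_pt v hv']
    · intro p hp
      obtain ⟨q, hq, rfl⟩ := Finset.mem_image.1 hp
      obtain ⟨-, hq⟩ := List.mem_filter.1 (List.mem_toFinset.1 hq)
      simp only [Bool.or_eq_true, List.contains_iff_mem] at hq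
      obtain ⟨a, ha, hqa⟩ : ∃ a ∈ [0, 7, 4], q ∈ tetAt a := by
        rcases hq with (hq | hq) | hq
        · exact ⟨0, by simp, hq⟩
        · exact ⟨7, by simp, hq⟩
        · exact ⟨4, by simp, hq⟩
      have ha24 : a < 24 := by clear hqa; revert a; decide
      have hs := List.all_eq_true.1 (List.all_eq_true.1 hsurj a ha) q hqa
      rw [List.any_eq_true] at hs
      obtain ⟨m, hm, he⟩ := hs
      rw [beq_iff_eq] at he
      subst he
      have e : pt (m.getD a 0) = lperm m (pt a) := by
        refine idx_injective ?_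
        rw [← hrep hm, idx_pt a ha24, idx_pt]
        have h' := (List.all_eq_true.1 hall _ hm)
        simp only [Bool.and_eq_true] at h'
        have := idx_lt (lperm m (pt a))
        rw [← hrep hm, idx_pt a ha24] at this
        exact this
      rw [e, ← Equiv.Perm.mul_apply, hdc _ (core_mem hm), Equiv.Perm.mul_apply, hfix a ha]
  have : c = lperm l := by
    rw [hd] at hd1
    exact (inv_mul_eq_one.1 hd1).symm
  exact this ▸ hx

theorem constrained_of_sextet {z : M24} {k t : Equiv.Perm GolayPt} (hk : k ∈ M24)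
    (e : k * (z : Equiv.Perm GolayPt) * k⁻¹ = t) {S : Finset (Finset GolayPt)} (hS : S ∈ sextets)
    (htA : t ∈ sxA S) (hstab : ∀ c ∈ M24, c * t = t * c → c • S = S)
    (hself : ∀ c ∈ M24, (∀ x ∈ sxA S, c * x = x * c) → c ∈ sxA S) :
    Subgroup.centralizer (pCore 2 (Subgroup.centralizer ({z} : Set M24)) : Set _) ≤
      pCore 2 (Subgroup.centralizer ({z} : Set M24)) := by
  classical
  haveI : Fact (Nat.Prime 2) := ⟨Nat.prime_two⟩
  set C := Subgroup.centralizer ({z} : Set M24) with hC
  have hAmul : ∀ {a b : Equiv.Perm GolayPt}, a ∈ sxA S → b ∈ sxA S → a * b ∈ sxA S := fun ha hb =>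
    sxA_mul hS ha hb
  have hAcomm : ∀ {a b : Equiv.Perm GolayPt}, a ∈ sxA S → b ∈ sxA S → a * b = b * a := fun ha hb =>
    sxA_comm hS ha hb
  let T : Subgroup M24 :=
    { carrier := {x | k * (x : Equiv.Perm GolayPt) * k⁻¹ ∈ sxA S}
      one_mem' := by
        show k * ((1 : M24) : Equiv.Perm GolayPt) * k⁻¹ ∈ sxA S
        rw [OneMemClass.coe_one, mul_one, mul_inv_cancel]
        exact ⟨one_mem _, fun u _ => one_smul _ u, one_mul _⟩
      mul_mem' := fun {a b} ha hb => by
        show k * ((a * b : M24) : Equiv.Perm GolayPt) * k⁻¹ ∈ sxA S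
        have h' := hAmul ha hb
        rwa [Subgroup.coe_mul, show k * ((a : Equiv.Perm GolayPt) * b) * k⁻¹ =
          k * a * k⁻¹ * (k * b * k⁻¹) by group]
      inv_mem' := fun {a} ha => by
        show k * ((a⁻¹ : M24) : Equiv.Perm GolayPt) * k⁻¹ ∈ sxA S
        rw [Subgroup.coe_inv, show k * (a : Equiv.Perm GolayPt)⁻¹ * k⁻¹ = (k * a * k⁻¹)⁻¹ by group,
          inv_eq_of_mul_eq_one_right ha.2.2]
        exact ha }
  have hmem : ∀ x : M24, x ∈ T ↔ k * (x : Equiv.Perm GolayPt) * k⁻¹ ∈ sxA S :=
    fun x => Iff.rfl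
  have hzT : k * (z : Equiv.Perm GolayPt) * k⁻¹ = t := e
  have hTC : T ≤ C := fun x hx => by
    refine Subgroup.mem_centralizer_singleton_iff.2 (Subtype.ext ?_)
    have h' := hAcomm ((hmem x).1 hx) htA
    rw [← hzT] at h'
    have := congrArg (fun y => k⁻¹ * y * k) h'
    simpa [mul_assoc] using this
  have hcomm : ∀ c : M24, c ∈ C → (k * (c : Equiv.Perm GolayPt) * k⁻¹) * t =
      t * (k * (c : Equiv.Perm GolayPt) * k⁻¹) := fun c hc => by
    have h' := congrArg Subtype.val (Subgroup.mem_centralizer_singleton_iff.1 hc)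
    rw [Subgroup.coe_mul, Subgroup.coe_mul] at h'
    rw [← hzT, conj_mul, conj_mul, h']
  haveI : (T.subgroupOf C).Normal := ⟨fun x hx c => by
    rw [Subgroup.mem_subgroupOf, hmem] at hx ⊢
    have hd : k * ((c : M24) : Equiv.Perm GolayPt) * k⁻¹ ∈ M24 :=
      mul_mem (mul_mem hk (c : M24).2) (inv_mem hk)
    set d := k * ((c : M24) : Equiv.Perm GolayPt) * k⁻¹ with hdd
    set y := k * (((x : C) : M24) : Equiv.Perm GolayPt) * k⁻¹ with hyy
    have key := (sxA_smul (S := S) hd (d * y * d⁻¹)).2
      (by rw [show d⁻¹ * (d * y * d⁻¹) * d = y by group]; exact hx)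
    rw [hstab _ hd (hcomm _ c.2)] at key
    convert key using 1
    simp [hdd, hyy, mul_assoc]⟩
  have hTp : IsPGroup 2 (T.subgroupOf C) := fun x => ⟨1, by
    refine Subtype.ext (Subtype.ext (Subtype.ext ?_))
    have h' := ((hmem _).1 x.2).2.2
    rw [conj_mul] at h'
    have := congrArg (fun y => k⁻¹ * y * k) h'
    simpa [pow_two, mul_assoc] using this⟩
  have hle : T.subgroupOf C ≤ pCore 2 C := Fusion.le_pCore hTp
  intro c hc
  refine hle (Subgroup.mem_subgroupOf.2 ((hmem _).2 ?_))
  refine hself _ (mul_mem (mul_mem hk (c : M24).2) (inv_mem hk)) fun x hx => ?_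
  have hxk : k⁻¹ * x * k ∈ M24 := mul_mem (mul_mem (inv_mem hk) hx.1) hk
  have hxT : (⟨k⁻¹ * x * k, hxk⟩ : M24) ∈ T := by
    rw [hmem]
    simpa [mul_assoc] using hx
  have h' := congrArg (fun y : C => (((y : M24) : Equiv.Perm GolayPt)))
    (Subgroup.mem_centralizer_iff.1 hc ⟨⟨_, hxk⟩, hTC hxT⟩ (hle (Subgroup.mem_subgroupOf.2 hxT)))
  simp only [Subgroup.coe_mul] at h'
  calc k * ((c : M24) : Equiv.Perm GolayPt) * k⁻¹ * x
      = k * (((c : M24) : Equiv.Perm GolayPt) * (k⁻¹ * x * k)) * k⁻¹ := by group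
    _ = k * (k⁻¹ * x * k * ((c : M24) : Equiv.Perm GolayPt)) * k⁻¹ := by rw [h']
    _ = x * (k * ((c : M24) : Equiv.Perm GolayPt) * k⁻¹) := by group

/-- the centraliser of every involution is constrained -/
theorem constrained {z : M24} (hz : orderOf z = 2) :
    Subgroup.centralizer (pCore 2 (Subgroup.centralizer ({z} : Set M24)) : Set _) ≤
      pCore 2 (Subgroup.centralizer ({z} : Set M24)) := by
  classical
  haveI : Fact (Nat.Prime 2) := ⟨Nat.prime_two⟩
  set C := Subgroup.centralizer ({z} : Set M24) with hC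
  rcases invol_by_fix z.2 (by rw [Subgroup.orderOf_coe, hz]) with ⟨h0, -⟩ | ⟨-, hoct, -⟩
  · -- no fixed points
    have hfree : (z : Equiv.Perm GolayPt) ∈ freeInvols :=
      ⟨z.2, by rw [Subgroup.orderOf_coe, hz], (free_iff _).2 h0⟩
    obtain ⟨k, hk, e⟩ := (freeInvols_eq hfree _).1 involFree_mem
    exact constrained_of_sextet hk e involSextet_mem invol_mem_sxA (fun c hc => cent_stab hc)
      fun c hc => core_selfCentral hc
  · -- octad involutions
    have h := OctCent.octad_involution_structure hz hoct (Q := (pCore 2 C).map C.subtype) rfl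
    have hQc := h.2.2.2.1.2.1
    intro c hc
    have hcQ : (c : M24) ∈ Subgroup.centralizer (((pCore 2 C).map C.subtype : Subgroup M24) : Set M24) := by
      refine Subgroup.mem_centralizer_iff.2 ?_
      rintro _ ⟨q, hq, rfl⟩
      exact congrArg Subtype.val (Subgroup.mem_centralizer_iff.1 hc q hq)
    rw [hQc] at hcQ
    obtain ⟨q, hq, e⟩ := Subgroup.map_subtype_le _ hcQ
    rwa [← C.subtype_injective e]

end Cfsg.Agent.Spor.M24Block
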