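import Cfsg.Agent.Lib.Spor.SmallSteiner

/-!
Sharply four and five transitive groups of degree 11 and 12: the third (fourth) fixed point of the
transpositions on a set gives the Steiner system.
-/

set_option autoImplicit false

namespace Cfsg.Agent.Spor.SmallSys

open Finset
open scoped Pointwise

variable {α : Type*} [Fintype α] [DecidableEq α] {G : Subgroup (Equiv.Perm α)} {k : ℕ}

/-- the fixed points of a permutation -/
def fixSet (g : Equiv.Perm α) : Finset α := univ.filter fun x => g x = x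

theorem mem_fixSet {g : Equiv.Perm α} {x : α} : x ∈ fixSet g ↔ g x = x := by simp [fixSet]

section Sharp

variable (ht : MulAction.IsMultiplyPretransitive G α k)
  (hsharp : ∀ x : Fin k ↪ α, MulAction.stabilizer G x = ⊥)
include ht hsharp

omit ht in
theorem agree_eq {g h : Equiv.Perm α} (hg : g ∈ G) (hh : h ∈ G) {S : Finset α} (hS : k ≤ S.card)
    (he : ∀ x ∈ S, g x = h x) : g = h := by
  obtain ⟨T, hTS, hT⟩ := exists_subset_card_eq hS
  let x : Fin k ↪ α := ((T.equivFinOfCardEq hT).symm.toEmbedding).trans (Function.Embedding.subtype _)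
  have hm : (⟨h⁻¹ * g, mul_mem (inv_mem hh) hg⟩ : G) ∈ MulAction.stabilizer G x := by
    refine MulAction.mem_stabilizer_iff.2 (DFunLike.ext _ _ fun i => ?_)
    show (h⁻¹ * g) (x i) = x i
    rw [Equiv.Perm.mul_apply, he (x i) (hTS ((T.equivFinOfCardEq hT).symm i).2)]
    simp
  rw [hsharp, Subgroup.mem_bot] at hm
  have := congrArg Subtype.val hm
  simp only [OneMemClass.coe_one, inv_mul_eq_one] at this
  exact this.symm

omit hsharp in
theorem agree_ex {S : Finset α} (hS : S.card = k) (π : Equiv.Perm α) : ∃ g ∈ G, ∀ x ∈ S, g x = π x := by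
  let x : Fin k ↪ α := ((S.equivFinOfCardEq hS).symm.toEmbedding).trans (Function.Embedding.subtype _)
  obtain ⟨g, hg⟩ := ht.exists_smul_eq x (x.trans π.toEmbedding)
  refine ⟨g, g.2, fun y hy => ?_⟩
  have := DFunLike.congr_fun hg (S.equivFinOfCardEq hS ⟨y, hy⟩)
  have e : x (S.equivFinOfCardEq hS ⟨y, hy⟩) = y := by simp [x]
  show (g : Equiv.Perm α) y = π y
  rw [← e]
  exact this

variable (hn : (Fintype.card α = 11 ∧ k = 4) ∨ (Fintype.card α = 12 ∧ k = 5))
include hn

omit ht in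
theorem fix_swap {g : Equiv.Perm α} (hg : g ∈ G) {S : Finset α} (hS : S.card = k) {a b : α} (ha : a ∈ S)
    (hb : b ∈ S) (hab : a ≠ b) (he : ∀ x ∈ S, g x = Equiv.swap a b x) :
    ∃ f, f ∉ S ∧ g f = f ∧ ∀ x ∉ S, g x = x → x = f := by
  have h2 : g * g = 1 := agree_eq hsharp (mul_mem hg hg) G.one_mem (S := S) hS.ge fun x hx => by
    rw [Equiv.Perm.mul_apply, he x hx, he _ (by
      rcases eq_or_ne x a with rfl | h1
      · rwa [Equiv.swap_apply_left]
      rcases eq_or_ne x b with rfl | h2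
      · rwa [Equiv.swap_apply_right]
      rwa [Equiv.swap_apply_of_ne_of_ne h1 h2]), Equiv.swap_apply_self]
    rfl
  have hmod := Equiv.Perm.card_compl_support_modEq (p := 2) (n := 1) (σ := g) (hp := ⟨Nat.prime_two⟩) (by
    rw [pow_one, sq, h2])
  have hfix : g.supportᶜ = fixSet g := by ext x; simp [fixSet]
  rw [hfix] at hmod
  have hle : (fixSet g).card ≤ k - 1 := by
    by_contra hlt
    have := agree_eq hsharp hg G.one_mem (S := fixSet g) (by omega) fun x hx => mem_fixSet.1 hx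
    have e := he a ha
    rw [this, Equiv.swap_apply_left] at e
    exact hab e
  have hsub : (S.erase a).erase b ⊆ fixSet g := fun x hx => by
    simp only [mem_erase] at hx
    rw [mem_fixSet, he x hx.2.2, Equiv.swap_apply_of_ne_of_ne hx.2.1 hx.1]
  have hc : ((S.erase a).erase b).card = k - 2 := by
    rw [card_erase_of_mem (mem_erase.2 ⟨Ne.symm hab, hb⟩), card_erase_of_mem ha, hS]; omega
  have hge := card_le_card hsub
  unfold Nat.ModEq at hmod
  have hcard : (fixSet g \ (S.erase a).erase b).card = 1 := by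
    rw [card_sdiff_of_subset hsub, hc]
    rcases hn with ⟨h1, rfl⟩ | ⟨h1, rfl⟩ <;> omega
  obtain ⟨f, hf⟩ := card_eq_one.1 hcard
  have hf' := mem_sdiff.1 (hf ▸ mem_singleton_self f : f ∈ fixSet g \ (S.erase a).erase b)
  refine ⟨f, fun hfS => hf'.2 ?_, mem_fixSet.1 hf'.1, fun x hx hxf => ?_⟩
  · have hfx := mem_fixSet.1 hf'.1
    rw [he f hfS] at hfx
    refine mem_erase.2 ⟨fun e => ?_, mem_erase.2 ⟨fun e => ?_, hfS⟩⟩
    · rw [e, Equiv.swap_apply_right] at hfx; exact hab hfx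
    · rw [e, Equiv.swap_apply_left] at hfx; exact hab hfx.symm
  · have : x ∈ fixSet g \ (S.erase a).erase b := mem_sdiff.2 ⟨mem_fixSet.2 hxf,
      fun h => hx (mem_erase.1 (mem_erase.1 h).2).2⟩
    rwa [hf, mem_singleton] at this

omit ht in
theorem fix_cycle {g : Equiv.Perm α} (hg : g ∈ G) {S : Finset α} (hS : S.card = k) {a b c : α} (ha : a ∈ S)
    (hb : b ∈ S) (hc : c ∈ S) (hab : a ≠ b) (hac : a ≠ c) (hbc : b ≠ c)
    (he : g a = b ∧ g b = c ∧ g c = a ∧ ∀ x ∈ S, x ≠ a → x ≠ b → x ≠ c → g x = x) :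
    ∃ f, f ∉ S ∧ g f = f ∧ ∀ x ∉ S, g x = x → x = f := by
  obtain ⟨e1, e2, e3, e4⟩ := he
  have h3 : g ^ 3 = 1 := agree_eq hsharp (pow_mem hg 3) G.one_mem (S := S) hS.ge fun x hx => by
    rw [pow_succ, pow_two, Equiv.Perm.mul_apply, Equiv.Perm.mul_apply]
    rcases eq_or_ne x a with rfl | h1
    · rw [e1, e2, e3]; rfl
    rcases eq_or_ne x b with rfl | h2
    · rw [e2, e3, e1]; rfl
    rcases eq_or_ne x c with rfl | h3
    · rw [e3, e1, e2]; rfl
    rw [e4 x hx h1 h2 h3, e4 x hx h1 h2 h3, e4 x hx h1 h2 h3]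
    rfl
  have hmod := Equiv.Perm.card_compl_support_modEq (p := 3) (n := 1) (σ := g) (hp := ⟨Nat.prime_three⟩) (by
    rw [pow_one, h3])
  have hfix : g.supportᶜ = fixSet g := by ext x; simp [fixSet]
  rw [hfix] at hmod
  have hle : (fixSet g).card ≤ k - 1 := by
    by_contra hlt
    have := agree_eq hsharp hg G.one_mem (S := fixSet g) (by omega) fun x hx => mem_fixSet.1 hx
    rw [this] at e1
    exact hab e1
  set T := ((S.erase a).erase b).erase c with hT
  have hsub : T ⊆ fixSet g := fun x hx => by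
    simp only [hT, mem_erase] at hx
    rw [mem_fixSet, e4 x hx.2.2.2 hx.2.2.1 hx.2.1 hx.1]
  have hc' : T.card = k - 3 := by
    rw [hT, card_erase_of_mem (mem_erase.2 ⟨Ne.symm hbc, mem_erase.2 ⟨Ne.symm hac, hc⟩⟩),
      card_erase_of_mem (mem_erase.2 ⟨Ne.symm hab, hb⟩), card_erase_of_mem ha, hS]
    omega
  have hge := card_le_card hsub
  unfold Nat.ModEq at hmod
  have hcard : (fixSet g \ T).card = 1 := by
    rw [card_sdiff_of_subset hsub, hc']
    rcases hn with ⟨h1, rfl⟩ | ⟨h1, rfl⟩ <;> omega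
  obtain ⟨f, hf⟩ := card_eq_one.1 hcard
  have hf' := mem_sdiff.1 (hf ▸ mem_singleton_self f : f ∈ fixSet g \ T)
  refine ⟨f, fun hfS => hf'.2 ?_, mem_fixSet.1 hf'.1, fun x hx hxf => ?_⟩
  · have hfx := mem_fixSet.1 hf'.1
    rw [hT]
    simp only [mem_erase]
    refine ⟨fun e => ?_, fun e => ?_, fun e => ?_, hfS⟩
    · rw [e, e3] at hfx; exact hac hfx
    · rw [e, e2] at hfx; exact hbc hfx.symm
    · rw [e, e1] at hfx; exact hab hfx.symm
  · have : x ∈ fixSet g \ T := mem_sdiff.2 ⟨mem_fixSet.2 hxf, fun h => hx (by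
      simp only [hT, mem_erase] at h; exact h.2.2.2)⟩
    rwa [hf, mem_singleton] at this

/-- one outside point is fixed by all the transpositions on a set -/
theorem extra_point {S : Finset α} (hS : S.card = k) : ∃ e, e ∉ S ∧ ∀ g ∈ G, ∀ a ∈ S, ∀ b ∈ S, a ≠ b →
    (∀ x ∈ S, g x = Equiv.swap a b x) → g e = e := by
  classical
  have tex : ∀ a b, ∃ g ∈ G, ∀ x ∈ S, g x = Equiv.swap a b x := fun a b => agree_ex ht hS _
  choose τ hτG hτ using tex
  have stayS : ∀ a ∈ S, ∀ b ∈ S, ∀ x ∈ S, Equiv.swap a b x ∈ S := by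
    intro a ha b hb x hx
    rw [Equiv.swap_apply_def]; split_ifs <;> assumption
  have fex : ∀ p : {p : α × α // p.1 ∈ S ∧ p.2 ∈ S ∧ p.1 ≠ p.2}, ∃ f, f ∉ S ∧ τ p.1.1 p.1.2 f = f ∧
      ∀ x ∉ S, τ p.1.1 p.1.2 x = x → x = f :=
    fun p => fix_swap hsharp hn (hτG _ _) hS p.2.1 p.2.2.1 p.2.2.2 (hτ _ _)
  choose f hfS hff hfu using fex
  -- the three-cycle links the pairs at a point
  have link : ∀ a b c (ha : a ∈ S) (hb : b ∈ S) (hc : c ∈ S) (hab : a ≠ b) (hac : a ≠ c) (hbc : b ≠ c),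
      f ⟨(a, b), ha, hb, hab⟩ = f ⟨(b, c), hb, hc, hbc⟩ := by
    intro a b c ha hb hc hab hac hbc
    obtain ⟨σ, hσG, hσ⟩ := agree_ex ht hS (Equiv.swap a b * Equiv.swap b c)
    have s1 : σ a = b := by
      rw [hσ a ha, Equiv.Perm.mul_apply, Equiv.swap_apply_of_ne_of_ne hab hac, Equiv.swap_apply_left]
    have s2 : σ b = c := by
      rw [hσ b hb, Equiv.Perm.mul_apply, Equiv.swap_apply_left,
        Equiv.swap_apply_of_ne_of_ne (Ne.symm hac) (Ne.symm hbc)]
    have s3 : σ c = a := by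
      rw [hσ c hc, Equiv.Perm.mul_apply, Equiv.swap_apply_right, Equiv.swap_apply_right]
    have s4 : ∀ x ∈ S, x ≠ a → x ≠ b → x ≠ c → σ x = x := fun x hx h1 h2 h3 => by
      rw [hσ x hx, Equiv.Perm.mul_apply, Equiv.swap_apply_of_ne_of_ne h2 h3, Equiv.swap_apply_of_ne_of_ne h1 h2]
    obtain ⟨z, hzS, hz, hzu⟩ := fix_cycle hsharp hn hσG hS ha hb hc hab hac hbc ⟨s1, s2, s3, s4⟩
    have key : ∀ u v w (hu : u ∈ S) (hv : v ∈ S) (huv : u ≠ v), u ≠ w → v ≠ w → w ∈ S → σ u = v → σ v = w →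
        σ w = u → (∀ x ∈ S, x ≠ u → x ≠ v → x ≠ w → σ x = x) → f ⟨(u, v), hu, hv, huv⟩ = z := by
      intro u v w hu hv huv huw hvw hw t1 t2 t3 t4
      set t := τ u v
      have ht' := hτ u v
      have hmem : σ * t * σ = t := agree_eq hsharp (mul_mem (mul_mem hσG (hτG u v)) hσG) (hτG u v) hS.ge
        fun x hx => by
          simp only [Equiv.Perm.mul_apply]
          rcases eq_or_ne x u with rfl | h1
          · rw [t1, ht' v hv, Equiv.swap_apply_right, t1, ht' x hx, Equiv.swap_apply_left]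
          rcases eq_or_ne x v with rfl | h2
          · rw [t2, ht' w hw, Equiv.swap_apply_of_ne_of_ne (Ne.symm huw) (Ne.symm hvw), t3, ht' x hx,
              Equiv.swap_apply_right]
          rcases eq_or_ne x w with rfl | h3
          · rw [t3, ht' u hu, Equiv.swap_apply_left, t2, ht' x hx, Equiv.swap_apply_of_ne_of_ne h1 h2]
          rw [t4 x hx h1 h2 h3, ht' x hx, Equiv.swap_apply_of_ne_of_ne h1 h2, t4 x hx h1 h2 h3]
      have e1 : σ (t z) = t z := by
        have := Equiv.congr_fun hmem z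
        rwa [Equiv.Perm.mul_apply, Equiv.Perm.mul_apply, hz] at this
      have e2 : t z ∉ S := fun h => hzS (by
        have hh := stayS u hu v hv _ h
        rw [← ht' _ h] at hh
        have inv : t (t z) = z := by
          have h2 : t * t = 1 := agree_eq hsharp (mul_mem (hτG u v) (hτG u v)) G.one_mem hS.ge fun x hx => by
            rw [Equiv.Perm.mul_apply, ht' x hx, ht' _ (stayS u hu v hv x hx), Equiv.swap_apply_self]
            rfl
          exact Equiv.congr_fun h2 z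
        rwa [inv] at hh)
      have e3 := hzu _ e2 e1
      exact (hfu ⟨(u, v), hu, hv, huv⟩ z hzS e3).symm
    rw [key a b c ha hb hab hac hbc hc s1 s2 s3 s4,
      key b c a hb hc hbc (Ne.symm hab) (Ne.symm hac) ha s2 s3 s1 (fun x hx h1 h2 h3 => s4 x hx h3 h1 h2)]
  have sym : ∀ a b (ha : a ∈ S) (hb : b ∈ S) (hab : a ≠ b),
      f ⟨(a, b), ha, hb, hab⟩ = f ⟨(b, a), hb, ha, Ne.symm hab⟩ := by
    intro a b ha hb hab
    have e : τ b a = τ a b := agree_eq hsharp (hτG b a) (hτG a b) hS.ge fun x hx => by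
      rw [hτ b a x hx, hτ a b x hx, Equiv.swap_comm]
    exact (hfu ⟨(b, a), hb, ha, Ne.symm hab⟩ _ (hfS ⟨(a, b), ha, hb, hab⟩) (by
      rw [show τ b a = τ a b from e]; exact hff ⟨(a, b), ha, hb, hab⟩))
  have meetEq : ∀ a b c (ha : a ∈ S) (hb : b ∈ S) (hc : c ∈ S) (hab : a ≠ b) (hbc : b ≠ c),
      f ⟨(a, b), ha, hb, hab⟩ = f ⟨(b, c), hb, hc, hbc⟩ := by
    intro a b c ha hb hc hab hbc
    rcases eq_or_ne a c with rfl | hac
    · exact sym a b ha hb hab
    · exact link a b c ha hb hc hab hac hbc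
  obtain ⟨a0, ha0, b0, hb0, hab0⟩ := one_lt_card.1 (show 1 < S.card by omega)
  refine ⟨f ⟨(a0, b0), ha0, hb0, hab0⟩, hfS _, fun g hg a ha b hb hab he => ?_⟩
  have eg : g = τ a b := agree_eq hsharp hg (hτG a b) hS.ge fun x hx => by rw [he x hx, hτ a b x hx]
  have : f ⟨(a0, b0), ha0, hb0, hab0⟩ = f ⟨(a, b), ha, hb, hab⟩ := by
    rcases eq_or_ne b0 a with rfl | h
    · exact meetEq a0 b0 b ha0 hb0 hb hab0 hab
    · rw [meetEq a0 b0 a ha0 hb0 ha hab0 h]
      exact meetEq b0 a b hb0 ha hb h hab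
  rw [eg, this]
  exact hff ⟨(a, b), ha, hb, hab⟩

theorem sharp_steiner : ∃ B : Finset (Finset α), Cfsg.IsSteinerSystem k (k + 1) (B : Set (Finset α)) ∧
    G ≤ Cfsg.setSystemAut (B : Set (Finset α)) := by
  classical
  have hk : 4 ≤ k := by omega
  have := fun (S : {S : Finset α // S.card = k}) => extra_point ht hsharp hn S.2
  choose e heS hefix using this
  let blk : {S : Finset α // S.card = k} → Finset α := fun S => insert (e S) S.1
  -- the extra point is recognised by one transposition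
  have recog : ∀ (S : {S : Finset α // S.card = k}) g, g ∈ G → ∀ a ∈ S.1, ∀ b ∈ S.1, a ≠ b →
      (∀ x ∈ S.1, g x = Equiv.swap a b x) → ∀ y ∉ S.1, g y = y → y = e S := by
    intro S g hg a ha b hb hab he y hy hgy
    obtain ⟨f, -, -, hu⟩ := fix_swap hsharp hn hg S.2 ha hb hab he
    rw [hu y hy hgy, hu (e S) (heS S) (hefix S g hg a ha b hb hab he)]
  have closed : ∀ S Q : {S : Finset α // S.card = k}, Q.1 ⊆ blk S → blk Q = blk S := by
    intro S Q hQ
    have hbc : (blk S).card = k + 1 := by rw [card_insert_of_notMem (heS S), S.2]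
    obtain ⟨d, hd⟩ := card_eq_one.1 (show (blk S \ Q.1).card = 1 by
      rw [card_sdiff_of_subset hQ, hbc, Q.2]; omega)
    have hd' := mem_sdiff.1 (hd ▸ mem_singleton_self d : d ∈ blk S \ Q.1)
    suffices e Q = d by
      show insert (e Q) Q.1 = blk S
      rw [this]
      refine eq_of_subset_of_card_le (insert_subset hd'.1 hQ) ?_
      rw [hbc, card_insert_of_notMem hd'.2, Q.2]
    rcases mem_insert.1 hd'.1 with rfl | hdS
    · have hQS : Q.1 = S.1 := eq_of_subset_of_card_le (fun x hx => (mem_insert.1 (hQ hx)).resolve_left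
        fun h => hd'.2 (h ▸ hx)) (by rw [S.2, Q.2])
      rw [show Q = S from Subtype.ext hQS]
    obtain ⟨a, ha, b, hb, hab⟩ := one_lt_card.1 (show 1 < (S.1.erase d).card by
      rw [card_erase_of_mem hdS, S.2]; omega)
    rw [mem_erase] at ha hb
    obtain ⟨g, hg, he⟩ := agree_ex ht S.2 (Equiv.swap a b)
    have hge := hefix S g hg a ha.2 b hb.2 hab he
    have inQ : ∀ x ∈ blk S, x ≠ d → x ∈ Q.1 := fun x hx hxd => by_contra fun hn => by
      have : x ∈ blk S \ Q.1 := mem_sdiff.2 ⟨hx, hn⟩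
      rw [hd, mem_singleton] at this
      exact hxd this
    refine (recog Q g hg a (inQ a (mem_insert_of_mem ha.2) ha.1) b (inQ b (mem_insert_of_mem hb.2) hb.1) hab ?_
      d hd'.2 ?_).symm
    · intro x hx
      rcases mem_insert.1 (hQ hx) with rfl | hxS
      · rw [hge, Equiv.swap_apply_of_ne_of_ne (fun h => heS S (by rw [h]; exact ha.2))
          (fun h => heS S (by rw [h]; exact hb.2))]
      · exact he x hxS
    · rw [he d hdS, Equiv.swap_apply_of_ne_of_ne (Ne.symm ha.1) (Ne.symm hb.1)]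
  set B : Finset (Finset α) := univ.filter fun b => ∃ S, blk S = b with hB
  refine ⟨B, ⟨fun b hb => ?_, fun s hs => ?_⟩, fun g hg => Code24.mem_setSystemAut fun b hb => ?_⟩
  · obtain ⟨S, rfl⟩ := (mem_filter.1 (mem_coe.1 hb)).2
    rw [card_insert_of_notMem (heS S), S.2]
  · refine ⟨blk ⟨s, hs⟩, ⟨mem_coe.2 (mem_filter.2 ⟨mem_univ _, _, rfl⟩), subset_insert _ _⟩, ?_⟩
    rintro b ⟨hb, hsb⟩
    obtain ⟨S, rfl⟩ := (mem_filter.1 (mem_coe.1 hb)).2
    exact (closed S ⟨s, hs⟩ hsb).symm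
  · obtain ⟨S, rfl⟩ := (mem_filter.1 (mem_coe.1 hb)).2
    refine mem_coe.2 (mem_filter.2 ⟨mem_univ _, ⟨S.1.image g, by rw [card_image_of_injective _ g.injective, S.2]⟩, ?_⟩)
    show insert (e _) (S.1.image g) = (insert (e S) S.1).image g
    rw [image_insert]
    congr 1
    obtain ⟨a, ha, b, hb', hab⟩ := one_lt_card.1 (show 1 < S.1.card by rw [S.2]; omega)
    obtain ⟨t, ht', he⟩ := agree_ex ht S.2 (Equiv.swap a b)
    refine (recog _ (g * t * g⁻¹) (mul_mem (mul_mem hg ht') (inv_mem hg)) (g a) (mem_image_of_mem _ ha) (g b)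
      (mem_image_of_mem _ hb') (g.injective.ne hab) ?_ (g (e S)) ?_ ?_).symm
    · intro x hx
      obtain ⟨y, hy, rfl⟩ := mem_image.1 hx
      simp only [Equiv.Perm.mul_apply]
      rw [show g⁻¹ (g y) = y from g.symm_apply_apply y, he y hy, Equiv.swap_apply_apply]
      simp
    · intro h
      obtain ⟨y, hy, hye⟩ := mem_image.1 h
      exact heS S (g.injective hye ▸ hy)
    · simp only [Equiv.Perm.mul_apply]
      rw [show g⁻¹ (g (e S)) = e S from g.symm_apply_apply _, hefix S t ht' a ha b hb' hab he]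

omit hn in
theorem sharp_card : Nat.card G = (Fintype.card α).descFactorial k ∨ Fintype.card α < k := by
  rcases lt_or_ge (Fintype.card α) k with h | h
  · exact Or.inr h
  obtain ⟨x⟩ : Nonempty (Fin k ↪ α) := Function.Embedding.nonempty_of_card_le (by rw [Fintype.card_fin]; exact h)
  refine Or.inl ?_
  let f : G → (Fin k ↪ α) := fun g => x.trans g.1.toEmbedding
  have hb : Function.Bijective f := by
    constructor
    · intro g g' e
      refine Subtype.ext (agree_eq hsharp g.2 g'.2 (S := univ.map x) (by simp) fun y hy => ?_)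
      obtain ⟨i, -, rfl⟩ := mem_map.1 hy
      exact DFunLike.congr_fun e i
    · intro y
      obtain ⟨g, hg⟩ := ht.exists_smul_eq x y
      exact ⟨g, DFunLike.ext _ _ fun i => DFunLike.congr_fun hg i⟩
  rw [Nat.card_congr (Equiv.ofBijective f hb), Nat.card_eq_fintype_card, Fintype.card_embedding_eq, Fintype.card_fin]

end Sharp

end Cfsg.Agent.Spor.SmallSys
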