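import Mathlib

/-!
The centraliser of a transvection in SL(5, 2).
-/

set_option autoImplicit false

namespace Cfsg.Agent.Spor

open Matrix

local notation "F₂" => ZMod 2
local notation "SL5" => Matrix.SpecialLinearGroup (Fin 5) (ZMod 2)

/-- The shape of a matrix commuting with the transvection at position (0, 1). -/
def tvShape (M : Matrix (Fin 5) (Fin 5) F₂) : Prop :=
  (M 1 0 = 0 ∧ M 2 0 = 0 ∧ M 3 0 = 0 ∧ M 4 0 = 0) ∧
    (M 1 2 = 0 ∧ M 1 3 = 0 ∧ M 1 4 = 0) ∧ M 0 0 = M 1 1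

/-- The block of M on the last three coordinates. -/
def tvBlock (M : Matrix (Fin 5) (Fin 5) F₂) : Matrix (Fin 3) (Fin 3) F₂ :=
  M.submatrix (fun i => i.succ.succ) (fun i => i.succ.succ)

theorem tv_det {M : Matrix (Fin 5) (Fin 5) F₂} (h : tvShape M) :
    M.det = M 0 0 * (M 1 1 * (tvBlock M).det) := by
  obtain ⟨⟨a1, a2, a3, a4⟩, ⟨b2, b3, b4⟩, -⟩ := h
  rw [Matrix.det_succ_column_zero, Finset.sum_eq_single (0 : Fin 5)]
  · rw [Matrix.det_succ_row_zero, Finset.sum_eq_single (0 : Fin 4)]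
    · simp [tvBlock, Matrix.submatrix_submatrix, Function.comp_def]
    · intro b _ hb
      fin_cases b <;> first
        | exact absurd rfl hb
        | simp [b2, b3, b4]
    · simp
  · intro b _ hb
    fin_cases b <;> first
      | exact absurd rfl hb
      | simp [a1, a2, a3, a4]
  · simp

theorem tv_mem_centralizer {s : SL5}
    (hs : (s : Matrix (Fin 5) (Fin 5) F₂) = Matrix.transvection 0 1 1) (g : SL5) :
    g ∈ Subgroup.centralizer ({s} : Set SL5) ↔ tvShape (g : Matrix (Fin 5) (Fin 5) F₂) := by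
  rw [Subgroup.mem_centralizer_singleton_iff]
  have e : g * s = s * g ↔ (g : Matrix (Fin 5) (Fin 5) F₂) * (s : Matrix (Fin 5) (Fin 5) F₂)
      = (s : Matrix (Fin 5) (Fin 5) F₂) * (g : Matrix (Fin 5) (Fin 5) F₂) := by
    rw [← Matrix.SpecialLinearGroup.coe_mul, ← Matrix.SpecialLinearGroup.coe_mul]
    exact ⟨fun h => congrArg _ h, fun h => Subtype.ext h⟩
  rw [e, hs]
  constructor
  · intro h
    have hc : Commute (Matrix.single (0 : Fin 5) 1 (1 : F₂)) (g : Matrix (Fin 5) (Fin 5) F₂) := by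
      have h' : Commute (Matrix.transvection (0 : Fin 5) 1 (1 : F₂))
          (g : Matrix (Fin 5) (Fin 5) F₂) := h.symm
      have h2 := h'.sub_left (Commute.one_left _)
      simpa [Matrix.transvection] using h2
    exact ⟨⟨Matrix.col_eq_zero_of_commute_single hc (by decide),
        Matrix.col_eq_zero_of_commute_single hc (by decide),
        Matrix.col_eq_zero_of_commute_single hc (by decide),
        Matrix.col_eq_zero_of_commute_single hc (by decide)⟩,
      ⟨Matrix.row_eq_zero_of_commute_single hc (by decide),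
        Matrix.row_eq_zero_of_commute_single hc (by decide),
        Matrix.row_eq_zero_of_commute_single hc (by decide)⟩,
      Matrix.diag_eq_of_commute_single hc⟩
  · rintro ⟨⟨a1, a2, a3, a4⟩, ⟨b2, b3, b4⟩, hd⟩
    ext i j
    fin_cases i <;> fin_cases j <;>
      simp [Matrix.transvection, Matrix.mul_apply, Fin.sum_univ_five,
        Matrix.single_apply, a1, a2, a3, a4, b2, b3, b4, hd, add_comm]

theorem tv_facts {g : SL5} (h : tvShape (g : Matrix (Fin 5) (Fin 5) F₂)) :
    (g : Matrix (Fin 5) (Fin 5) F₂) 0 0 = 1 ∧ (g : Matrix (Fin 5) (Fin 5) F₂) 1 1 = 1 ∧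
      (tvBlock (g : Matrix (Fin 5) (Fin 5) F₂)).det = 1 := by
  have h1 := tv_det h
  rw [g.2, ← h.2.2] at h1
  have hx : ∀ x y : F₂, 1 = x * (x * y) → x = 1 ∧ y = 1 := by decide
  exact ⟨(hx _ _ h1).1, h.2.2.symm.trans (hx _ _ h1).1, (hx _ _ h1).2⟩

/-- Assemble an element of the centraliser. -/
def tvMat (r : Fin 4 → F₂) (c : Fin 3 → F₂) (A : Matrix (Fin 3) (Fin 3) F₂) :
    Matrix (Fin 5) (Fin 5) F₂ :=
  !![1, r 0, r 1, r 2, r 3;
     0, 1, 0, 0, 0;
     0, c 0, A 0 0, A 0 1, A 0 2;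
     0, c 1, A 1 0, A 1 1, A 1 2;
     0, c 2, A 2 0, A 2 1, A 2 2]

theorem tvMat_shape (r : Fin 4 → F₂) (c : Fin 3 → F₂) (A : Matrix (Fin 3) (Fin 3) F₂) :
    tvShape (tvMat r c A) := by
  simp [tvShape, tvMat]

theorem tvMat_block (r : Fin 4 → F₂) (c : Fin 3 → F₂) (A : Matrix (Fin 3) (Fin 3) F₂) :
    tvBlock (tvMat r c A) = A := by
  ext i j
  fin_cases i <;> fin_cases j <;> rfl

theorem tvMat_det (r : Fin 4 → F₂) (c : Fin 3 → F₂) (A : Matrix (Fin 3) (Fin 3) F₂) :
    (tvMat r c A).det = A.det := by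
  rw [tv_det (tvMat_shape r c A), tvMat_block]
  simp [tvMat]

variable {s : SL5}

/-- The centraliser as a product of parameter sets. -/
def tvEquiv (hs : (s : Matrix (Fin 5) (Fin 5) F₂) = Matrix.transvection 0 1 1) :
    Subgroup.centralizer ({s} : Set SL5) ≃
      (Fin 4 → F₂) × (Fin 3 → F₂) × {A : Matrix (Fin 3) (Fin 3) F₂ // A.det = 1} where
  toFun g := (![(g : SL5).1 0 1, (g : SL5).1 0 2, (g : SL5).1 0 3, (g : SL5).1 0 4],
    ![(g : SL5).1 2 1, (g : SL5).1 3 1, (g : SL5).1 4 1],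
    ⟨tvBlock (g : SL5).1, (tv_facts ((tv_mem_centralizer hs _).1 g.2)).2.2⟩)
  invFun p := ⟨⟨tvMat p.1 p.2.1 p.2.2.1, (tvMat_det _ _ _).trans p.2.2.2⟩,
    (tv_mem_centralizer hs _).2 (tvMat_shape _ _ _)⟩
  left_inv g := by
    have h := (tv_mem_centralizer hs _).1 g.2
    obtain ⟨e0, e1, -⟩ := tv_facts h
    obtain ⟨⟨a1, a2, a3, a4⟩, ⟨b2, b3, b4⟩, -⟩ := h
    refine Subtype.ext (Subtype.ext ?_)
    ext i j
    fin_cases i <;> fin_cases j <;>
      simp [tvMat, tvBlock, e0, e1, a1, a2, a3, a4, b2, b3, b4]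
  right_inv p := by
    obtain ⟨r, c, A, hA⟩ := p
    refine Prod.ext ?_ (Prod.ext ?_ (Subtype.ext (tvMat_block r c A)))
    · funext i; fin_cases i <;> rfl
    · funext i; fin_cases i <;> rfl

theorem card_det_one_three :
    Nat.card {A : Matrix (Fin 3) (Fin 3) F₂ // A.det = 1} = 168 := by
  have key : ∀ d : F₂, d = 1 ↔ d ≠ 0 := by decide
  have e : GL (Fin 3) F₂ ≃ {A : Matrix (Fin 3) (Fin 3) F₂ // A.det = 1} :=
    { toFun := fun g => ⟨g.1, (key _).2 (g.isUnit.map Matrix.detMonoidHom).ne_zero⟩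
      invFun := fun A => Matrix.GeneralLinearGroup.mkOfDetNeZero A.1 ((key _).1 A.2)
      left_inv := fun g => Units.ext rfl
      right_inv := fun A => rfl }
  rw [← Nat.card_congr e, Matrix.card_GL_field]
  simp [Fin.prod_univ_three]

theorem card_tv_centralizer (hs : (s : Matrix (Fin 5) (Fin 5) F₂) = Matrix.transvection 0 1 1) :
    Nat.card (Subgroup.centralizer ({s} : Set SL5)) = 21504 := by
  rw [Nat.card_congr (tvEquiv hs), Nat.card_prod, Nat.card_prod, card_det_one_three]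
  simp

/-- The projection of the centraliser to its block. -/
def tvProj (hs : (s : Matrix (Fin 5) (Fin 5) F₂) = Matrix.transvection 0 1 1) :
    Subgroup.centralizer ({s} : Set SL5) →* Matrix.SpecialLinearGroup (Fin 3) F₂ where
  toFun g := ⟨tvBlock (g : SL5).1, (tv_facts ((tv_mem_centralizer hs _).1 g.2)).2.2⟩
  map_one' := by
    refine Subtype.ext ?_
    ext i j
    fin_cases i <;> fin_cases j <;> rfl
  map_mul' g g' := by
    obtain ⟨⟨a1, a2, a3, a4⟩, -, -⟩ := (tv_mem_centralizer hs _).1 g.2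
    obtain ⟨-, ⟨b2, b3, b4⟩, -⟩ := (tv_mem_centralizer hs _).1 g'.2
    refine Subtype.ext ?_
    show tvBlock ((g : SL5).1 * (g' : SL5).1) = tvBlock (g : SL5).1 * tvBlock (g' : SL5).1
    ext i j
    fin_cases i <;> fin_cases j <;>
      simp [tvBlock, Matrix.mul_apply, Fin.sum_univ_five, Fin.sum_univ_three,
        a1, a2, a3, a4, b2, b3, b4]

theorem card_tvProj_ker (hs : (s : Matrix (Fin 5) (Fin 5) F₂) = Matrix.transvection 0 1 1) :
    Nat.card (tvProj hs).ker = 128 := by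
  have e : (tvProj hs).ker ≃ (Fin 4 → F₂) × (Fin 3 → F₂) :=
    { toFun := fun g => ((tvEquiv hs g.1).1, (tvEquiv hs g.1).2.1)
      invFun := fun p => ⟨(tvEquiv hs).symm (p.1, p.2, ⟨1, Matrix.det_one⟩),
        Subtype.ext (tvMat_block _ _ _)⟩
      left_inv := fun g => by
        refine Subtype.ext ((Equiv.symm_apply_eq _).2 ?_)
        refine Prod.ext rfl (Prod.ext rfl (Subtype.ext ?_))
        exact (congrArg Subtype.val g.2).symm
      right_inv := fun p => by
        show ((tvEquiv hs ((tvEquiv hs).symm _)).1, (tvEquiv hs ((tvEquiv hs).symm _)).2.1) = p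
        rw [Equiv.apply_symm_apply] }
  rw [Nat.card_congr e, Nat.card_prod]
  simp

/-- A normal 2-subgroup of the centraliser whose centraliser there has order two. -/
theorem exists_tv_radical (hs : (s : Matrix (Fin 5) (Fin 5) F₂) = Matrix.transvection 0 1 1) :
    ∃ K : Subgroup (Subgroup.centralizer ({s} : Set SL5)),
      IsPGroup 2 K ∧ K.Normal ∧
        ∀ g, (∀ k ∈ K, k * g = g * k) → (g : SL5) = 1 ∨ (g : SL5) = s := by
  refine ⟨(tvProj hs).ker, IsPGroup.of_card (n := 7) (card_tvProj_ker hs), inferInstance,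
    fun g hg => ?_⟩
  have cm : ∀ i j : Fin 5, (∃ r c, tvMat r c 1 = Matrix.transvection i j 1) →
      Commute (Matrix.single i j (1 : F₂)) (g : SL5).1 := by
    rintro i j ⟨r, c, hrc⟩
    let k := (tvEquiv hs).symm (r, c, ⟨1, Matrix.det_one⟩)
    have h1 : k ∈ (tvProj hs).ker := Subtype.ext (tvMat_block _ _ _)
    have h2 : Commute (tvMat r c 1) (g : SL5).1 :=
      congrArg (fun x : Subgroup.centralizer ({s} : Set SL5) => (x : SL5).1) (hg k h1)
    rw [hrc] at h2
    simpa [Matrix.transvection] using h2.sub_left (Commute.one_left _)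
  have c02 := cm 0 2 ⟨![0, 1, 0, 0], 0, by decide +kernel⟩
  have c03 := cm 0 3 ⟨![0, 0, 1, 0], 0, by decide +kernel⟩
  have c04 := cm 0 4 ⟨![0, 0, 0, 1], 0, by decide +kernel⟩
  have c21 := cm 2 1 ⟨0, ![1, 0, 0], by decide +kernel⟩
  have c31 := cm 3 1 ⟨0, ![0, 1, 0], by decide +kernel⟩
  have c41 := cm 4 1 ⟨0, ![0, 0, 1], by decide +kernel⟩
  obtain ⟨e0, e1, -⟩ := tv_facts ((tv_mem_centralizer hs _).1 g.2)
  have k00 : (g : SL5).1 2 2 = 1 := (Matrix.diag_eq_of_commute_single c02).symm.trans e0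
  have k33 : (g : SL5).1 3 3 = 1 := (Matrix.diag_eq_of_commute_single c03).symm.trans e0
  have k44 : (g : SL5).1 4 4 = 1 := (Matrix.diag_eq_of_commute_single c04).symm.trans e0
  have col0 : ∀ i : Fin 5, i ≠ 0 → (g : SL5).1 i 0 = 0 :=
    fun i => Matrix.col_eq_zero_of_commute_single c02
  have col2 : ∀ i : Fin 5, i ≠ 2 → (g : SL5).1 i 2 = 0 :=
    fun i => Matrix.col_eq_zero_of_commute_single c21
  have col3 : ∀ i : Fin 5, i ≠ 3 → (g : SL5).1 i 3 = 0 :=
    fun i => Matrix.col_eq_zero_of_commute_single c31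
  have col4 : ∀ i : Fin 5, i ≠ 4 → (g : SL5).1 i 4 = 0 :=
    fun i => Matrix.col_eq_zero_of_commute_single c41
  have r2 : (g : SL5).1 2 1 = 0 := Matrix.row_eq_zero_of_commute_single c02 (by decide)
  have r3 : (g : SL5).1 3 1 = 0 := Matrix.row_eq_zero_of_commute_single c03 (by decide)
  have r4 : (g : SL5).1 4 1 = 0 := Matrix.row_eq_zero_of_commute_single c04 (by decide)
  have key : ∀ i j : Fin 5, ¬(i = 0 ∧ j = 1) →
      (g : SL5).1 i j = (1 : Matrix (Fin 5) (Fin 5) F₂) i j := by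
    intro i j hij
    by_cases hd : i = j
    · subst hd
      rw [Matrix.one_apply_eq]
      fin_cases i
      exacts [e0, e1, k00, k33, k44]
    · rw [Matrix.one_apply_ne hd]
      fin_cases j
      · exact col0 i hd
      · fin_cases i
        exacts [absurd ⟨rfl, rfl⟩ hij, absurd rfl hd, r2, r3, r4]
      · exact col2 i hd
      · exact col3 i hd
      · exact col4 i hd
  have h2 : ∀ x : F₂, x = 0 ∨ x = 1 := by decide
  rcases h2 ((g : SL5).1 0 1) with h | h
  · left
    refine Subtype.ext (Matrix.ext fun i j => ?_)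
    by_cases hij : i = 0 ∧ j = 1
    · obtain ⟨rfl, rfl⟩ := hij; simpa using h
    · exact key i j hij
  · right
    refine Subtype.ext (Matrix.ext fun i j => ?_)
    rw [hs]
    by_cases hij : i = 0 ∧ j = 1
    · obtain ⟨rfl, rfl⟩ := hij; simpa [Matrix.transvection] using h
    · rw [key i j hij]
      simp [Matrix.transvection, Matrix.single_apply]
      intro a b; exact absurd ⟨a.symm, b.symm⟩ hij

end Cfsg.Agent.Spor
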