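import Cfsg.Prelude.Def_Transfer
import Cfsg.Agent.Lib.Solv.Cores
import Cfsg.Agent.Lib.Fusion.Cores

/-!
Orthogonality of conjugates of an involution with a large extraspecial subgroup, and singular subgroups.
-/

set_option autoImplicit false

namespace Cfsg.Agent.Spor.Large

variable {G : Type*} [Group G]

/-- a subgroup with derived group and centre generated by the involution `u` -/
structure XT (u : G) (P : Subgroup G) : Prop where
  ne : u ≠ 1
  sq : u * u = 1
  mem : u ∈ P
  cen : ∀ a ∈ P, Commute u a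
  comm : ∀ a ∈ P, ∀ b ∈ P, a * b * a⁻¹ = b ∨ a * b * a⁻¹ = b * u
  eq_of_cen : ∀ a ∈ P, (∀ b ∈ P, Commute a b) → a = 1 ∨ a = u

theorem XT.move {u : G} {P : Subgroup G} (h : XT u P) {a b : G} (ha : a ∈ P) (hb : b ∈ P)
    (hn : ¬ Commute a b) : a * b * a⁻¹ = b * u :=
  (h.comm a ha b hb).resolve_left fun e => hn (mul_inv_eq_iff_eq_mul.1 e)

theorem XT.conj {u : G} {P : Subgroup G} (h : XT u P) (g : G) :
    XT (g * u * g⁻¹) (P.map (MulAut.conj g).toMonoidHom) where
  ne e := h.ne (conj_eq_one_iff.1 e)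
  sq := by rw [conj_mul, h.sq, mul_one, mul_inv_cancel]
  mem := ⟨u, h.mem, rfl⟩
  cen := by
    rintro _ ⟨a, ha, rfl⟩
    exact (Commute.conj_iff g).2 (h.cen a ha)
  comm := by
    rintro _ ⟨a, ha, rfl⟩ _ ⟨b, hb, rfl⟩
    show g * a * g⁻¹ * (g * b * g⁻¹) * (g * a * g⁻¹)⁻¹ = g * b * g⁻¹ ∨
      g * a * g⁻¹ * (g * b * g⁻¹) * (g * a * g⁻¹)⁻¹ = g * b * g⁻¹ * (g * u * g⁻¹)
    rw [show g * a * g⁻¹ * (g * b * g⁻¹) * (g * a * g⁻¹)⁻¹ = g * (a * b * a⁻¹) * g⁻¹ by group]
    rcases h.comm a ha b hb with e | e <;> rw [e]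
    · exact Or.inl rfl
    · right; group
  eq_of_cen := by
    rintro _ ⟨a, ha, rfl⟩ hc
    rcases h.eq_of_cen a ha (fun b hb => (Commute.conj_iff g).1 (hc _ ⟨b, hb, rfl⟩)) with e | e
    · left; subst e; simp
    · right; subst e; rfl

variable [Finite G] {Q : G → Subgroup G}

/-- the hypothesis on `Q` -/
def IsCoreMap (Q : G → Subgroup G) : Prop :=
  ∀ x : G, Q x = (Cfsg.pCore 2 ↥(Subgroup.centralizer ({x} : Set G))).map
    (Subgroup.centralizer ({x} : Set G)).subtype

theorem Q_le (hQ : IsCoreMap Q) (x : G) : Q x ≤ Subgroup.centralizer ({x} : Set G) :=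
  hQ x ▸ Subgroup.map_subtype_le _

theorem Q_commute (hQ : IsCoreMap Q) {x q : G} (h : q ∈ Q x) : Commute q x :=
  Subgroup.mem_centralizer_singleton_iff.1 (Q_le hQ x h)

theorem Q_conj_mem (hQ : IsCoreMap Q) {x g : G} (hg : Commute g x) {q : G} (hq : q ∈ Q x) :
    g * q * g⁻¹ ∈ Q x := by
  rw [hQ x] at hq ⊢
  obtain ⟨q', hq', rfl⟩ := hq
  exact ⟨⟨g, Subgroup.mem_centralizer_singleton_iff.2 hg⟩ * q' *
    ⟨g, Subgroup.mem_centralizer_singleton_iff.2 hg⟩⁻¹, (Solv.pCore_normal 2).conj_mem _ hq' _, rfl⟩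

theorem Q_equivariant (hQ : IsCoreMap Q) (g x : G) :
    Q (g * x * g⁻¹) = (Q x).map (MulAut.conj g).toMonoidHom := by
  rw [hQ (g * x * g⁻¹), hQ x, Subgroup.map_map]
  have hC : (Subgroup.centralizer ({x} : Set G)).map (MulAut.conj g).toMonoidHom =
      Subgroup.centralizer ({g * x * g⁻¹} : Set G) := by
    ext y
    rw [Subgroup.mem_map_equiv, MulAut.conj_symm_apply, Subgroup.mem_centralizer_singleton_iff,
      Subgroup.mem_centralizer_singleton_iff]
    constructor
    · intro h
      have := (Commute.conj_iff g).2 (show Commute (g⁻¹ * y * g) x from h)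
      rwa [show g * (g⁻¹ * y * g) * g⁻¹ = y by group] at this
    · intro h
      have := (Commute.conj_iff g⁻¹).2 (show Commute y (g * x * g⁻¹) from h)
      rw [inv_inv, show g⁻¹ * (g * x * g⁻¹) * g = x by group] at this
      exact this
  set e : Subgroup.centralizer ({x} : Set G) ≃* Subgroup.centralizer ({g * x * g⁻¹} : Set G) :=
    ((Subgroup.centralizer ({x} : Set G)).equivMapOfInjective (MulAut.conj g).toMonoidHom
      (MulAut.conj g).injective).trans (MulEquiv.subgroupCongr hC) with he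
  rw [← Fusion.map_pCore_equiv e, Subgroup.map_map]
  rfl

/-- the properties of the assignment that the symmetry of orthogonality needs -/
structure NMap (Q : G → Subgroup G) : Prop where
  commute : ∀ {x q : G}, q ∈ Q x → Commute q x
  conj_mem : ∀ {x g : G}, Commute g x → ∀ {q : G}, q ∈ Q x → g * q * g⁻¹ ∈ Q x
  equivariant : ∀ g x : G, Q (g * x * g⁻¹) = (Q x).map (MulAut.conj g).toMonoidHom

theorem IsCoreMap.nmap (hQ : IsCoreMap Q) : NMap Q :=
  ⟨fun h => Q_commute hQ h, fun h _ hq => Q_conj_mem hQ h hq, Q_equivariant hQ⟩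

/-- the standing hypotheses -/
structure Setting (Q : G → Subgroup G) (z : G) : Prop where
  core : IsCoreMap Q
  ord : orderOf z = 2
  extra : Cfsg.IsExtraspecial 2 ↥(Q z)
  large : Subgroup.centralizer ((Q z : Subgroup G) : Set G) ≤ Q z

variable {z : G}

theorem Setting.xt (S : Setting Q z) : XT z (Q z) := by
  have hz1 : z ≠ 1 := fun e => by have := S.ord; rw [e, orderOf_one] at this; omega
  have hzz : z * z = 1 := by rw [← sq, ← S.ord, pow_orderOf_eq_one]
  have hmem : z ∈ Q z := S.large <| Subgroup.mem_centralizer_iff.2 fun q hq => Q_commute S.core hq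
  have hzc : (⟨z, hmem⟩ : Q z) ∈ Subgroup.center (Q z) :=
    Subgroup.mem_center_iff.2 fun q => Subtype.ext (Q_commute S.core q.2)
  have hcen : ∀ w : Q z, w ∈ Subgroup.center (Q z) → (w : G) = 1 ∨ (w : G) = z := by
    intro w hw
    obtain ⟨p, q, -, hpq⟩ := Nat.card_eq_two_iff.1 S.extra.2
    have mem : ∀ v : Subgroup.center (Q z), v = p ∨ v = q := fun v => by
      have : v ∈ ({p, q} : Set _) := hpq ▸ Set.mem_univ v
      simpa using this
    by_contra hne
    push Not at hne
    have a1 : (⟨w, hw⟩ : Subgroup.center (Q z)) ≠ 1 := fun e =>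
      hne.1 (congrArg (fun v : Subgroup.center (Q z) => ((v : Q z) : G)) e)
    have a2 : (⟨w, hw⟩ : Subgroup.center (Q z)) ≠ ⟨_, hzc⟩ := fun e =>
      hne.2 (congrArg (fun v : Subgroup.center (Q z) => ((v : Q z) : G)) e)
    have a3 : (⟨_, hzc⟩ : Subgroup.center (Q z)) ≠ 1 := fun e =>
      hz1 (congrArg (fun v : Subgroup.center (Q z) => ((v : Q z) : G)) e)
    rcases mem ⟨w, hw⟩ with h1 | h1 <;> rcases mem ⟨_, hzc⟩ with h2 | h2 <;> rcases mem 1 with h3 | h3
    all_goals first
      | exact a2 (h1.trans h2.symm)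
      | exact a1 (h1.trans h3.symm)
      | exact a3 (h2.trans h3.symm)
  refine ⟨hz1, hzz, hmem, fun a ha => (Q_commute S.core ha).symm, fun a ha b hb => ?_, fun a ha h => ?_⟩
  · have hm : (⟨a, ha⟩ * ⟨b, hb⟩ * ⟨a, ha⟩⁻¹ * ⟨b, hb⟩⁻¹ : Q z) ∈ Subgroup.center (Q z) := by
      rw [← S.extra.1.2.2, commutator_def]
      exact Subgroup.commutator_mem_commutator (Subgroup.mem_top _) (Subgroup.mem_top _)
    rcases hcen _ hm with e | e
    · exact Or.inl (mul_inv_eq_one.1 e)
    · have e' : a * b * a⁻¹ * b⁻¹ = z := e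
      exact Or.inr ((mul_inv_eq_iff_eq_mul.1 e').trans (Q_commute S.core hb).symm.eq)
  · exact hcen ⟨a, ha⟩ (Subgroup.mem_center_iff.2 fun q => Subtype.ext (h q q.2).symm.eq)

theorem Setting.xt' (S : Setting Q z) {u : G} (hu : ∃ g : G, g * z * g⁻¹ = u) : XT u (Q u) := by
  obtain ⟨g, rfl⟩ := hu
  rw [Q_equivariant S.core]
  exact S.xt.conj g

theorem Setting.large' (S : Setting Q z) {u : G} (hu : ∃ g : G, g * z * g⁻¹ = u) {y : G}
    (h : ∀ q ∈ Q u, Commute y q) : y ∈ Q u := by
  obtain ⟨g, rfl⟩ := hu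
  rw [Q_equivariant S.core] at h ⊢
  refine ⟨g⁻¹ * y * g, S.large (Subgroup.mem_centralizer_iff.2 fun q hq => ?_), by simp [mul_assoc]⟩
  have h1 := (Commute.conj_iff g⁻¹).2 (h _ ⟨q, hq, rfl⟩)
  simp only [MulEquiv.toMonoidHom_eq_coe, MonoidHom.coe_coe, MulAut.conj_apply, inv_inv] at h1
  rw [show g⁻¹ * (g * q * g⁻¹) * g = q by group] at h1
  exact h1.symm.eq

/-- with a small subgroup the centralizer is a 2-group -/
theorem small_two_group (S : Setting Q z) {x q : G} (hx : x ∈ Q z) (hq : q ∈ Q z) (hxx : x * x = 1)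
    (hn : ¬ Commute q x) (hsmall : ∀ t ∈ Q z, Commute t x → t = 1 ∨ t = z ∨ t = x ∨ t = x * z) :
    IsPGroup 2 (Subgroup.centralizer ({z} : Set G)) := by
  have X := S.xt
  have hqxq : q * x * q⁻¹ = x * z := X.move hq hx hn
  -- an involution outside the centralizer of `x`
  obtain ⟨y, hy, hyy, hyx⟩ : ∃ y ∈ Q z, y * y = 1 ∧ ¬ Commute y x := by
    have hqq : q * q = 1 ∨ q * q = z := by
      refine X.eq_of_cen _ (mul_mem hq hq) fun b hb => mul_inv_eq_iff_eq_mul.1 ?_
      calc q * q * b * (q * q)⁻¹ = q * (q * b * q⁻¹) * q⁻¹ := by group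
        _ = b := by
          rcases X.comm q hq b hb with e | e
          · rw [e, e]
          · rw [e, show q * (b * z) * q⁻¹ = q * b * q⁻¹ * (q * z * q⁻¹) by group, e,
              show q * z * q⁻¹ = z by rw [← (X.cen q hq).eq, mul_inv_cancel_right], mul_assoc, X.sq, mul_one]
    rcases hqq with e | e
    · exact ⟨q, hq, e, hn⟩
    · refine ⟨q * x, mul_mem hq hx, ?_, fun h => hn ?_⟩
      · calc q * x * (q * x) = (q * x * q⁻¹) * (q * q) * x := by group
          _ = x * (z * z) * x := by rw [hqxq, e]; simp only [mul_assoc]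
          _ = 1 := by rw [X.sq, mul_one, hxx]
      · have := h.mul_left ((Commute.refl x).inv_left)
        rwa [mul_inv_cancel_right] at this
  have hyxy : y * x * y⁻¹ = x * z := X.move hy hx hyx
  have invs : ∀ t ∈ Q z, t * t = 1 → t ≠ 1 → t ≠ z → t = x ∨ t = x * z ∨ t = y ∨ t = y * z := by
    intro t ht htt ht1 htz
    by_cases hc : Commute t x
    · rcases hsmall t ht hc with e | e | e | e
      exacts [absurd e ht1, absurd e htz, Or.inl e, Or.inr (Or.inl e)]
    · have hc' : Commute (y⁻¹ * t) x := mul_inv_eq_iff_eq_mul.1 (by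
        calc y⁻¹ * t * x * (y⁻¹ * t)⁻¹ = y⁻¹ * (t * x * t⁻¹) * y := by group
          _ = y⁻¹ * (y * x * y⁻¹) * y := by rw [X.move ht hx hc, hyxy]
          _ = x := by group)
      have et : t = y * (y⁻¹ * t) := by group
      rcases hsmall _ (mul_mem (inv_mem hy) ht) hc' with e | e | e | e <;> rw [e] at et
      · exact Or.inr (Or.inr (Or.inl (by rw [et, mul_one])))
      · exact Or.inr (Or.inr (Or.inr et))
      · exfalso
        apply hyx
        rw [et] at htt
        have e1 : y * x * y⁻¹ = x := by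
          calc y * x * y⁻¹ = y * x * (y * x) * x⁻¹ * (y⁻¹ * y⁻¹) := by group
            _ = x := by
              rw [htt, one_mul, ← mul_inv_rev, hyy, inv_one, mul_one, inv_eq_of_mul_eq_one_right hxx]
        exact mul_inv_eq_iff_eq_mul.1 e1
      · exfalso
        apply hyx
        rw [et] at htt
        have e1 : y * x * y⁻¹ = x := by
          have e2 : y * x * (y * x) = 1 := by
            calc y * x * (y * x) = y * x * (z * z) * y * x := by rw [X.sq, mul_one]; simp only [mul_assoc]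
              _ = y * (x * z) * (z * y) * x := by simp only [mul_assoc]
              _ = y * (x * z) * (y * z) * x := by rw [(X.cen y hy).eq]
              _ = y * (x * z) * (y * (x * z)) := by simp only [mul_assoc, (X.cen x hx).eq]
              _ = 1 := htt
          calc y * x * y⁻¹ = y * x * (y * x) * x⁻¹ * (y⁻¹ * y⁻¹) := by group
            _ = x := by
              rw [e2, one_mul, ← mul_inv_rev, hyy, inv_one, mul_one, inv_eq_of_mul_eq_one_right hxx]
        exact mul_inv_eq_iff_eq_mul.1 e1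
  rintro ⟨g, hg⟩
  refine ⟨3, Subtype.ext ?_⟩
  show g ^ (2 ^ 3) = 1
  have hgz : Commute g z := Subgroup.mem_centralizer_singleton_iff.1 hg
  set f : G → G := fun t => g * t * g⁻¹ with hf
  have fz : ∀ t, f (t * z) = f t * z := fun t => by
    show g * (t * z) * g⁻¹ = g * t * g⁻¹ * z
    calc g * (t * z) * g⁻¹ = g * t * (z * g⁻¹) := by simp only [mul_assoc]
      _ = g * t * (g⁻¹ * z) := by rw [hgz.inv_left.eq]
      _ = _ := by simp only [mul_assoc]
  have fin : ∀ t ∈ Q z, t * t = 1 → ¬ (t = 1 ∨ t = z) → f t = x ∨ f t = x * z ∨ f t = y ∨ f t = y * z := by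
    intro t ht htt hne
    refine invs _ (Q_conj_mem S.core hgz ht) ?_ (fun e => hne (Or.inl (conj_eq_one_iff.1 e))) fun e => hne (Or.inr ?_)
    · show g * t * g⁻¹ * (g * t * g⁻¹) = 1
      rw [conj_mul, htt, mul_one, mul_inv_cancel]
    · have e' : g * t * g⁻¹ = g * z * g⁻¹ := by rw [show g * t * g⁻¹ = z from e, hgz.eq, mul_inv_cancel_right]
      exact mul_left_cancel (mul_right_cancel e')
  have fx := fin x hx hxx (by
    rintro (e | e) <;> exact hn (e ▸ (by first | exact Commute.one_right q | exact (X.cen q hq).symm)))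
  have fy := fin y hy hyy (by
    rintro (e | e) <;> exact hyx (e ▸ (by first | exact Commute.one_left x | exact X.cen x hx)))
  have fnc : ¬ Commute (f y) (f x) := fun h => hyx ((Commute.conj_iff g).1 h)
  have hxz : Commute (x * z) x := (Commute.refl x).mul_left (X.cen x hx)
  have hyz : Commute (y * z) y := (Commute.refl y).mul_left (X.cen y hy)
  have zz : ∀ t : G, t * z * z = t := fun t => by rw [mul_assoc, X.sq, mul_one]
  have h4 : f (f (f (f x))) = x ∧ f (f (f (f y))) = y := by
    rcases fx with a | a | a | a <;> rcases fy with b | b | b | b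
    all_goals first
      | (refine (fnc ?_).elim
         rw [a, b]
         all_goals first
          | exact Commute.refl _
          | exact hxz
          | exact hxz.symm
          | exact hyz
          | exact hyz.symm)
      | refine ⟨?_, ?_⟩ <;> simp only [a, b, fz, zz]
  have hgg : g ^ 4 = 1 ∨ g ^ 4 = z := by
    have hfix : ∀ t, f (f (f (f t))) = t → Commute (g ^ 4) t := fun t e => mul_inv_eq_iff_eq_mul.1 (by
      refine Eq.trans ?_ e
      show _ = g * (g * (g * (g * t * g⁻¹) * g⁻¹) * g⁻¹) * g⁻¹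
      simp only [pow_succ, pow_zero, one_mul, mul_inv_rev, mul_assoc])
    have c1 := hfix x h4.1
    have c2 := hfix y h4.2
    have hall : ∀ t ∈ Q z, Commute (g ^ 4) t := by
      have hA : ∀ t ∈ Q z, Commute t x → Commute (g ^ 4) t := fun t ht hc => by
        have hz' : Commute (g ^ 4) z := hgz.pow_left 4
        rcases hsmall t ht hc with e | e | e | e <;> rw [e]
        exacts [Commute.one_right _, hz', c1, c1.mul_right hz']
      intro t ht
      by_cases hc : Commute t x
      · exact hA t ht hc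
      · have hc' : Commute (y⁻¹ * t) x := mul_inv_eq_iff_eq_mul.1 (by
          calc y⁻¹ * t * x * (y⁻¹ * t)⁻¹ = y⁻¹ * (t * x * t⁻¹) * y := by group
            _ = y⁻¹ * (y * x * y⁻¹) * y := by rw [X.move ht hx hc, hyxy]
            _ = x := by group)
        rw [show t = y * (y⁻¹ * t) by group]
        exact c2.mul_right (hA _ (mul_mem (inv_mem hy) ht) hc')
    exact X.eq_of_cen _ (S.large (Subgroup.mem_centralizer_iff.2 fun t ht => (hall t ht).symm.eq)) hall
  rw [show (2 : ℕ) ^ 3 = 4 + 4 by norm_num, pow_add]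
  rcases hgg with e | e <;> rw [e]
  exacts [one_mul 1, X.sq]

/-- orthogonality is symmetric unless the centralizer in the subgroup is abelian -/
theorem symmetric_core (M : NMap Q) (X : XT z (Q z))
    (hlarge : Subgroup.centralizer ((Q z : Subgroup G) : Set G) ≤ Q z) (g : G)
    (hx : g * z * g⁻¹ ∈ Q z)
    (hdeg : ∀ q ∈ Q z, ¬ Commute q (g * z * g⁻¹) →
      (∀ t ∈ Q z, Commute t (g * z * g⁻¹) →
        t = 1 ∨ t = z ∨ t = g * z * g⁻¹ ∨ t = g * z * g⁻¹ * z) → z ∈ Q (g * z * g⁻¹)) :
    z ∈ Q (g * z * g⁻¹) := by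
  set x := g * z * g⁻¹ with hxdef
  have Y : XT x (Q x) := by rw [M.equivariant]; exact X.conj g
  by_cases hxz : x = z
  · rw [hxz]; exact X.mem
  obtain ⟨q, hq, hqn⟩ : ∃ q ∈ Q z, ¬ Commute q x := by
    by_contra h
    push Not at h
    rcases X.eq_of_cen x hx (fun b hb => (h b hb).symm) with e | e
    exacts [Y.ne e, hxz e]
  have hqx : q * x * q⁻¹ = x * z := X.move hq hx hqn
  have hzx : Commute z x := X.cen x hx
  by_contra hzX
  -- the exceptional case gives an element exchanging the two involutions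
  by_cases hb : ∃ b ∈ Q x, b * z * b⁻¹ = x * z
  · obtain ⟨b, hb, hbz⟩ := hb
    have hbx : b * x * b⁻¹ = x := by rw [(M.commute hb).eq, mul_inv_cancel_right]
    have hqz : q * z * q⁻¹ = z := by rw [← (X.cen q hq).eq, mul_inv_cancel_right]
    set h := b * q * b
    have e1 : h * z * h⁻¹ = x := by
      calc h * z * h⁻¹ = b * (q * (b * z * b⁻¹) * q⁻¹) * b⁻¹ := by simp only [h]; group
        _ = b * ((q * x * q⁻¹) * (q * z * q⁻¹)) * b⁻¹ := by rw [hbz]; group
        _ = b * x * b⁻¹ := by rw [hqx, hqz, mul_assoc x, X.sq, mul_one]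
        _ = x := hbx
    have e2 : h * x * h⁻¹ = z := by
      calc h * x * h⁻¹ = b * (q * (b * x * b⁻¹) * q⁻¹) * b⁻¹ := by simp only [h]; group
        _ = b * (x * z) * b⁻¹ := by rw [hbx, hqx]
        _ = (b * x * b⁻¹) * (b * z * b⁻¹) := by group
        _ = z := by rw [hbx, hbz, ← mul_assoc, Y.sq, one_mul]
    apply hzX
    rw [← e1, M.equivariant]
    exact ⟨x, hx, e2⟩
  push Not at hb
  -- otherwise an element commuting with `z` modulo `x` commutes with it
  have hmodz : ∀ b ∈ Q x, (b * z * b⁻¹ = z ∨ b * z * b⁻¹ = x * z) → Commute b z := fun b hbX h =>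
    mul_inv_eq_iff_eq_mul.1 (h.resolve_right (hb b hbX))
  by_cases hab : ∀ a ∈ Q z, Commute a x → ∀ a' ∈ Q z, Commute a' x → Commute a a'
  · -- small case
    have hsmall : ∀ t ∈ Q z, Commute t x → t = 1 ∨ t = z ∨ t = x ∨ t = x * z := by
      intro t ht htx
      have key : ∀ s ∈ Q z, Commute s x → Commute s q → s = 1 ∨ s = z := by
        intro s hs hsx hsq
        refine X.eq_of_cen s hs fun b hb => ?_
        by_cases hc : Commute b x
        · exact hab s hs hsx b hb hc
        · have hc' : Commute (q⁻¹ * b) x := mul_inv_eq_iff_eq_mul.1 (by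
            calc q⁻¹ * b * x * (q⁻¹ * b)⁻¹ = q⁻¹ * (b * x * b⁻¹) * q := by group
              _ = q⁻¹ * (q * x * q⁻¹) * q := by rw [X.move hb hx hc, hqx]
              _ = x := by group)
          rw [show b = q * (q⁻¹ * b) by group]
          exact hsq.mul_right (hab s hs hsx _ (mul_mem (inv_mem hq) hb) hc')
      by_cases hc : Commute t q
      · rcases key t ht htx hc with e | e
        exacts [Or.inl e, Or.inr (Or.inl e)]
      · have hc' : Commute (t * x) q := (mul_inv_eq_iff_eq_mul.1 (by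
          calc q * (t * x) * q⁻¹ = (q * t * q⁻¹) * (q * x * q⁻¹) := by group
            _ = t * (z * x) * z := by rw [X.move hq ht (fun h => hc h.symm), hqx]; simp only [mul_assoc]
            _ = t * x := by rw [hzx.eq, mul_assoc, mul_assoc x, X.sq, mul_one]) : Commute q (t * x)).symm
        have et : t = t * x * x := by rw [mul_assoc, Y.sq, mul_one]
        rcases key _ (mul_mem ht hx) (htx.mul_left (Commute.refl x)) hc' with e | e <;> rw [e] at et
        · exact Or.inr (Or.inr (Or.inl (by rw [et, one_mul])))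
        · exact Or.inr (Or.inr (Or.inr (by rw [et, hzx.eq])))
    exact hzX (hdeg q hq hqn hsmall)
  -- large case
  push Not at hab
  obtain ⟨a, ha, hax, a', ha', ha'x, hna⟩ := hab
  have inter : ∀ t ∈ Q z, t ∈ Q x → t = 1 ∨ t = x := by
    intro t ht htX
    have htx : Commute t x := M.commute htX
    have hcom : ∀ c ∈ Q z, Commute c x → Commute c t := by
      intro c hc hcx
      by_contra hn
      have h1 : c * t * c⁻¹ ∈ Q x := M.conj_mem hcx htX
      rw [X.move hc ht hn] at h1
      exact hzX ((mul_mem_cancel_left htX).1 h1)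
    have key : ∀ s ∈ Q z, (∀ c ∈ Q z, Commute c x → Commute c s) → Commute q s → s = 1 ∨ s = z := by
      intro s hs hs' hsq
      refine X.eq_of_cen s hs fun b hb => ?_
      by_cases hc : Commute b x
      · exact (hs' b hb hc).symm
      · have hc' : Commute (q⁻¹ * b) x := mul_inv_eq_iff_eq_mul.1 (by
          calc q⁻¹ * b * x * (q⁻¹ * b)⁻¹ = q⁻¹ * (b * x * b⁻¹) * q := by group
            _ = q⁻¹ * (q * x * q⁻¹) * q := by rw [X.move hb hx hc, hqx]
            _ = x := by group)
        rw [show b = q * (q⁻¹ * b) by group]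
        exact hsq.symm.mul_right (hs' _ (mul_mem (inv_mem hq) hb) hc').symm
    by_cases hc : Commute q t
    · rcases key t ht hcom hc with e | e
      · exact Or.inl e
      · exact absurd (e ▸ htX) hzX
    · have hc' : Commute q (t * x) := mul_inv_eq_iff_eq_mul.1 (by
        calc q * (t * x) * q⁻¹ = (q * t * q⁻¹) * (q * x * q⁻¹) := by group
          _ = t * (z * x) * z := by rw [X.move hq ht hc, hqx]; simp only [mul_assoc]
          _ = t * x := by rw [hzx.eq, mul_assoc, mul_assoc x, X.sq, mul_one])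
      rcases key _ (mul_mem ht hx) (fun c hc1 hcx => (hcom c hc1 hcx).mul_right hcx) hc' with e | e
      · exact Or.inr ((eq_inv_of_mul_eq_one_left e).trans (inv_eq_of_mul_eq_one_right Y.sq))
      · exact absurd (e ▸ mul_mem htX Y.mem) hzX
  -- the centralizer of `x` in `Q z` is trivial modulo `x` on that of `z` in `Q x`
  have modx : ∀ c ∈ Q z, Commute c x → ∀ b ∈ Q x, Commute b z → c * b * c⁻¹ = b ∨ c * b * c⁻¹ = b * x := by
    intro c hc hcx b hbX hbz
    have h1 : b⁻¹ * (c * b * c⁻¹) ∈ Q x := mul_mem (inv_mem hbX) (M.conj_mem hcx hbX)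
    have h2 : b⁻¹ * (c * b * c⁻¹) ∈ Q z := by
      rw [show b⁻¹ * (c * b * c⁻¹) = (b⁻¹ * c * b⁻¹⁻¹) * c⁻¹ by group]
      exact mul_mem (M.conj_mem hbz.inv_left hc) (inv_mem hc)
    rcases inter _ h2 h1 with e | e
    · exact Or.inl (inv_mul_eq_one.1 e).symm
    · exact Or.inr (inv_mul_eq_iff_eq_mul.1 e)
  have cenW : ∀ c ∈ Q z, Commute c x → ∀ v ∈ Q x, ∀ b ∈ Q x, Commute b z →
      Commute (v⁻¹ * (c * v * c⁻¹)) b := by
    intro c hc hcx v hv b hbX hbz
    have hxb : Commute x b := Y.cen b hbX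
    -- `c` preserves commutation of `v` and `b`
    have hv' : c * v * c⁻¹ ∈ Q x := M.conj_mem hcx hv
    have hiff : Commute (c * v * c⁻¹) b ↔ Commute v b := by
      have h0 := (Commute.conj_iff c (a := v) (b := b))
      rcases modx c hc hcx b hbX hbz with e | e <;> rw [e] at h0
      · exact h0
      · rw [← h0]
        have hxv : Commute (c * v * c⁻¹) x := (Y.cen _ hv').symm
        refine ⟨fun h => h.mul_right hxv, fun h => ?_⟩
        have := h.mul_right hxv
        rwa [mul_assoc b x x, Y.sq, mul_one] at this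
    refine (mul_inv_eq_iff_eq_mul.1 ?_ : Commute b (v⁻¹ * (c * v * c⁻¹))).symm
    rw [show b * (v⁻¹ * (c * v * c⁻¹)) * b⁻¹ = (b * v * b⁻¹)⁻¹ * (b * (c * v * c⁻¹) * b⁻¹) by group]
    by_cases h : Commute v b
    · rw [h.symm.eq, mul_inv_cancel_right, (hiff.2 h).symm.eq, mul_inv_cancel_right]
    · rw [Y.move hbX hv (fun e => h e.symm), Y.move hbX hv' (fun e => h (hiff.1 e.symm))]
      calc (v * x)⁻¹ * (c * v * c⁻¹ * x) = x⁻¹ * (v⁻¹ * (c * v * c⁻¹) * x) := by group
        _ = _ := by
          rw [← (Y.cen _ (mul_mem (inv_mem hv) hv')).eq, inv_mul_cancel_left]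
  have hzinv : z⁻¹ = z := inv_eq_of_mul_eq_one_right X.sq
  have hxinv : x⁻¹ = x := inv_eq_of_mul_eq_one_right Y.sq
  -- that centralizer contains its centralizer
  have inB : ∀ w ∈ Q x, (∀ b ∈ Q x, Commute b z → Commute w b) → Commute w z := by
    intro w hw hwc
    have hwz : z * w * z ∈ Q x := by
      have := M.conj_mem hzx hw
      rwa [hzinv] at this
    have hsq : ∀ u ∈ Q x, Commute (u * (z * u * z)) z := by
      intro u hu
      have hu' : z * u * z ∈ Q x := by
        have := M.conj_mem hzx hu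
        rwa [hzinv] at this
      refine hmodz _ (mul_mem hu hu') ?_
      have e : u * (z * u * z) * z * (u * (z * u * z))⁻¹ = (u * (z * u * z) * u⁻¹ * (z * u * z)⁻¹) * z := by
        rw [mul_inv_rev, mul_inv_rev, mul_inv_rev, hzinv]
        simp only [mul_assoc, X.sq, mul_one]
      rw [e]
      rcases Y.comm u hu _ hu' with e' | e'
      · left; rw [e', mul_inv_cancel, one_mul]
      · right; rw [e', ← (Y.cen _ hu').eq, mul_inv_cancel_right]
    have hcen : ∀ u ∈ Q x, Commute (w⁻¹ * (z * w * z)) u := by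
      intro u hu
      have hu' : z * u * z ∈ Q x := by
        have := M.conj_mem hzx hu
        rwa [hzinv] at this
      have h2 : Commute w (u * (z * u * z)) := hwc _ (mul_mem hu hu') (hsq u hu)
      have hcj : Commute (z * w * z) u ↔ Commute w (z * u * z) := by
        have h0 := (Commute.conj_iff z (a := w) (b := z * u * z))
        rw [hzinv, show z * (z * u * z) * z = (z * z) * u * (z * z) by simp only [mul_assoc],
          X.sq, one_mul, mul_one] at h0
        exact h0
      refine (mul_inv_eq_iff_eq_mul.1 ?_ : Commute u (w⁻¹ * (z * w * z))).symm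
      rw [show u * (w⁻¹ * (z * w * z)) * u⁻¹ = (u * w * u⁻¹)⁻¹ * (u * (z * w * z) * u⁻¹) by group]
      by_cases h : Commute w u
      · have h3 : Commute w (z * u * z) := by
          have := (h.inv_right).mul_right h2
          rwa [inv_mul_cancel_left] at this
        rw [h.symm.eq, mul_inv_cancel_right, (hcj.2 h3).symm.eq, mul_inv_cancel_right]
      · have h3 : ¬ Commute (z * w * z) u := fun e => h <| by
          have := h2.mul_right ((hcj.1 e).inv_right)
          rwa [mul_inv_cancel_right] at this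
        rw [Y.move hu hw (fun e => h e.symm), Y.move hu hwz (fun e => h3 e.symm)]
        calc (w * x)⁻¹ * (z * w * z * x) = x⁻¹ * (w⁻¹ * (z * w * z) * x) := by group
          _ = _ := by rw [← (Y.cen _ (mul_mem (inv_mem hw) hwz)).eq, inv_mul_cancel_left]
    refine hmodz w hw ?_
    rcases Y.eq_of_cen _ (mul_mem (inv_mem hw) hwz) hcen with e | e
    · left
      rw [mul_inv_eq_iff_eq_mul]
      calc w * z = (z * w * z) * z := by rw [(inv_mul_eq_one.1 e).symm]
        _ = z * w := by rw [mul_assoc, X.sq, mul_one]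
    · right
      rw [mul_inv_eq_iff_eq_mul]
      calc w * z = (w * x) * (x * z) := by rw [mul_assoc, ← mul_assoc x x, Y.sq, one_mul]
        _ = (z * w * z) * (x * z) := by rw [← inv_mul_eq_iff_eq_mul.1 e]
        _ = (z * w * z) * (z * x) := by rw [hzx.eq]
        _ = z * (w * x) := by rw [mul_assoc, ← mul_assoc z z, X.sq, one_mul, mul_assoc]
        _ = z * (x * w) := by rw [(Y.cen w hw).eq]
        _ = x * z * w := by rw [← mul_assoc, hzx.eq]
  -- the two actions commute modulo `x`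
  have hzact : ∀ v ∈ Q x, v * z * v⁻¹ = z ∨ v * z * v⁻¹ = x * z := by
    intro v hv
    have hza : a * a' * a⁻¹ = a' * z := X.move ha ha' hna
    have hcomm2 : ∀ c d : G, c ∈ Q z → Commute c x → d ∈ Q z → Commute d x →
        ∃ e : G, (e = 1 ∨ e = x) ∧ c * d * v * (c * d)⁻¹ =
          v * (v⁻¹ * (c * v * c⁻¹)) * (v⁻¹ * (d * v * d⁻¹)) * e := by
      intro c d hc hcx hd hdx
      have hW : v⁻¹ * (d * v * d⁻¹) ∈ Q x := mul_mem (inv_mem hv) (M.conj_mem hdx hv)
      have hWz : Commute (v⁻¹ * (d * v * d⁻¹)) z := inB _ hW fun b hb hbz => cenW d hd hdx v hv b hb hbz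
      have e0 : c * d * v * (c * d)⁻¹ = (c * v * c⁻¹) * (c * (v⁻¹ * (d * v * d⁻¹)) * c⁻¹) := by group
      rcases modx c hc hcx _ hW hWz with e | e
      · exact ⟨1, Or.inl rfl, by rw [e0, e]; group⟩
      · exact ⟨x, Or.inr rfl, by rw [e0, e]; group⟩
    obtain ⟨e1, he1, h1⟩ := hcomm2 a a' ha hax ha' ha'x
    obtain ⟨e2, he2, h2⟩ := hcomm2 a' a ha' ha'x ha hax
    set w := v⁻¹ * (a * v * a⁻¹) with hw
    set w' := v⁻¹ * (a' * v * a'⁻¹) with hw'
    have hwX : w ∈ Q x := mul_mem (inv_mem hv) (M.conj_mem hax hv)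
    have hw'X : w' ∈ Q x := mul_mem (inv_mem hv) (M.conj_mem ha'x hv)
    have hww : Commute w w' := cenW a ha hax v hv _ hw'X (inB _ hw'X fun b hb hbz => cenW a' ha' ha'x v hv b hb hbz)
    have haa : a * a' = a' * a * z := by
      have := mul_inv_eq_iff_eq_mul.1 hza
      rw [this, mul_assoc, (X.cen a ha).eq, ← mul_assoc]
    set P := a' * a with hP
    have h3 : P * (z * v * z⁻¹) * P⁻¹ = v * w' * w * e1 := by
      rw [show v * w' * w * e1 = v * w * w' * e1 by rw [mul_assoc v w' w, ← hww.eq, ← mul_assoc], ← h1, haa, hP]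
      group
    have h4 : P * v * P⁻¹ = v * w' * w * e2 := h2
    have hP2 : Commute P x := ha'x.mul_left hax
    have hee : (v * w' * w * e2)⁻¹ * (v * w' * w * e1) = 1 ∨ (v * w' * w * e2)⁻¹ * (v * w' * w * e1) = x := by
      rw [show (v * w' * w * e2)⁻¹ * (v * w' * w * e1) = e2⁻¹ * e1 by group]
      rcases he1 with rfl | rfl <;> rcases he2 with rfl | rfl
      · left; simp
      · right; rw [mul_one, hxinv]
      · right; rw [inv_one, one_mul]
      · left; rw [inv_mul_cancel]
    rw [← h3, ← h4, show (P * v * P⁻¹)⁻¹ * (P * (z * v * z⁻¹) * P⁻¹) = P * (v⁻¹ * (z * v * z⁻¹)) * P⁻¹ by group,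
      conj_eq_one_iff] at hee
    rcases hee with e | e
    · left
      rw [mul_inv_eq_iff_eq_mul]
      calc v * z = (z * v * z⁻¹) * z := by rw [← inv_mul_eq_one.1 e]
        _ = z * v := by group
    · right
      have e' : v⁻¹ * (z * v * z⁻¹) = x := by
        refine mul_left_cancel (a := P) (mul_right_cancel (b := P⁻¹) ?_)
        rw [e, hP2.eq, mul_inv_cancel_right]
      rw [mul_inv_eq_iff_eq_mul]
      calc v * z = (v * x) * (x * z) := by rw [mul_assoc, ← mul_assoc x x, Y.sq, one_mul]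
        _ = (z * v * z⁻¹) * (x * z) := by rw [← inv_mul_eq_iff_eq_mul.1 e']
        _ = (z * v * z⁻¹) * (z * x) := by rw [hzx.eq]
        _ = z * (v * x) := by group
        _ = z * (x * v) := by rw [(Y.cen v hv).eq]
        _ = x * z * v := by rw [← mul_assoc, hzx.eq]
  apply hzX
  rw [M.equivariant]
  refine ⟨g⁻¹ * z * g, hlarge (Subgroup.mem_centralizer_iff.2 fun v hv => ?_), by simp [mul_assoc]⟩
  have hgv : g * v * g⁻¹ ∈ Q x := by rw [M.equivariant]; exact ⟨v, hv, rfl⟩
  have h1 := (Commute.conj_iff g⁻¹).2 (hmodz _ hgv (hzact _ hgv))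
  rw [inv_inv, show g⁻¹ * (g * v * g⁻¹) * g = v by group] at h1
  exact h1.eq

/-- orthogonality is symmetric -/
theorem symmetric (S : Setting Q z) (g : G) (hx : g * z * g⁻¹ ∈ Q z) : z ∈ Q (g * z * g⁻¹) := by
  refine symmetric_core S.core.nmap S.xt S.large g hx fun q hq hqn hsmall => ?_
  set x := g * z * g⁻¹ with hxdef
  have Y : XT x (Q x) := S.xt' ⟨g, rfl⟩
  have hzx : Commute z x := S.xt.cen x hx
  have h2 := small_two_group S hx hq Y.sq hqn hsmall
  have hCx : IsPGroup 2 (Subgroup.centralizer ({x} : Set G)) := by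
    rintro ⟨k, hk⟩
    have hk' : g⁻¹ * k * g ∈ Subgroup.centralizer ({z} : Set G) := by
      rw [Subgroup.mem_centralizer_singleton_iff]
      have := (Commute.conj_iff g⁻¹).2 (show Commute k x from Subgroup.mem_centralizer_singleton_iff.1 hk)
      rw [inv_inv, hxdef, show g⁻¹ * (g * z * g⁻¹) * g = z by group] at this
      exact this
    obtain ⟨n, hn⟩ := h2 ⟨_, hk'⟩
    refine ⟨n, Subtype.ext ?_⟩
    have e : (g⁻¹ * k * g) ^ 2 ^ n = 1 := congrArg Subtype.val hn
    show k ^ 2 ^ n = 1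
    rw [show k = g * (g⁻¹ * k * g) * g⁻¹ by group, conj_pow, e, mul_one, mul_inv_cancel]
  rw [S.core x]
  have htop : Cfsg.pCore 2 ↥(Subgroup.centralizer ({x} : Set G)) = ⊤ :=
    top_le_iff.1 (le_sSup ⟨inferInstance, hCx.of_equiv Subgroup.topEquiv.symm⟩)
  rw [htop]
  exact ⟨⟨z, Subgroup.mem_centralizer_singleton_iff.2 hzx⟩, Subgroup.mem_top _, rfl⟩

/-! ### singular subgroups -/

/-- an element commuting with what centralises `T` in the extraspecial subgroup is in the span of `T` -/
theorem mem_of_commute_centralizer {u : G} {P : Subgroup G} (X : XT u P) (T : Finset G) :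
    (∀ t ∈ T, t ∈ P) → ∀ v ∈ P, (∀ s ∈ P, (∀ t ∈ T, Commute s t) → Commute s v) →
      v ∈ Subgroup.closure (insert u (T : Set G)) := by
  classical
  induction T using Finset.induction with
  | empty =>
    intro _ v hv h
    rcases X.eq_of_cen v hv (fun b hb => (h b hb (by simp)).symm) with e | e
    · rw [e]; exact one_mem _
    · rw [e]; exact Subgroup.subset_closure (Set.mem_insert _ _)
  | @insert f T hf ih =>
    intro hT v hv h
    have hfP := hT f (Finset.mem_insert_self _ _)
    have hTP : ∀ t ∈ T, t ∈ P := fun t ht => hT t (Finset.mem_insert_of_mem ht)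
    have mono : Subgroup.closure (insert u (T : Set G)) ≤ Subgroup.closure (insert u (↑(insert f T) : Set G)) :=
      Subgroup.closure_mono (Set.insert_subset_insert (by simp))
    by_cases hall : ∀ s ∈ P, (∀ t ∈ T, Commute s t) → Commute s v
    · exact mono (ih hTP v hv hall)
    push Not at hall
    obtain ⟨s₀, hs₀, hs₀T, hs₀v⟩ := hall
    have hs₀f : ¬ Commute s₀ f := fun e => hs₀v (h s₀ hs₀ fun t ht => by
      rcases Finset.mem_insert.1 ht with rfl | ht
      exacts [e, hs₀T t ht])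
    have key : ∀ s ∈ P, (∀ t ∈ T, Commute s t) → Commute s (v * f) := by
      intro s hs hsT
      refine mul_inv_eq_iff_eq_mul.1 ?_
      rw [show s * (v * f) * s⁻¹ = (s * v * s⁻¹) * (s * f * s⁻¹) by group]
      by_cases hc : Commute s f
      · have hv' : Commute s v := h s hs fun t ht => by
          rcases Finset.mem_insert.1 ht with rfl | ht
          exacts [hc, hsT t ht]
        rw [hv'.eq, hc.eq, mul_inv_cancel_right, mul_inv_cancel_right]
      · have h' : Commute (s₀⁻¹ * s) f := mul_inv_eq_iff_eq_mul.1 (by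
          calc s₀⁻¹ * s * f * (s₀⁻¹ * s)⁻¹ = s₀⁻¹ * (s * f * s⁻¹) * s₀ := by group
            _ = s₀⁻¹ * (s₀ * f * s₀⁻¹) * s₀ := by rw [X.move hs hfP hc, X.move hs₀ hfP hs₀f]
            _ = f := by group)
        have hv' : Commute (s₀⁻¹ * s) v := h _ (mul_mem (inv_mem hs₀) hs) fun t ht => by
          rcases Finset.mem_insert.1 ht with rfl | ht
          exacts [h', ((hs₀T t ht).inv_left).mul_left (hsT t ht)]
        have hsv : ¬ Commute s v := fun e => hs₀v <| by
          have := e.mul_left hv'.inv_left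
          rwa [mul_inv_rev, inv_inv, mul_inv_cancel_left] at this
        rw [X.move hs hv hsv, X.move hs hfP hc]
        calc v * u * (f * u) = v * (u * f) * u := by simp only [mul_assoc]
          _ = v * (f * u) * u := by rw [(X.cen f hfP).eq]
          _ = v * f := by rw [mul_assoc, mul_assoc f, X.sq, mul_one]
    have h1 := ih hTP (v * f) (mul_mem hv hfP) key
    rw [show v = v * f * f⁻¹ by group]
    exact mul_mem (mono h1) (inv_mem (Subgroup.subset_closure (Set.mem_insert_of_mem _ (by simp))))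

variable (U : Subgroup G)

/-- a singular subgroup -/
structure Singular (Q : G → Subgroup G) (z : G) (U : Subgroup G) : Prop where
  setting : Setting Q z
  inv : ∀ u ∈ U, u * u = 1
  sing : ∀ u ∈ U, u ≠ 1 → ∃ g : G, g * z * g⁻¹ = u
  orth : ∀ u ∈ U, ∀ v ∈ U, u ≠ 1 → v ≠ 1 → v ∈ Q u

variable {U}

theorem Singular.xt (h : Singular Q z U) {u : G} (hu : u ∈ U) (hu1 : u ≠ 1) : XT u (Q u) :=
  h.setting.xt' (h.sing u hu hu1)

theorem Singular.le_Q (h : Singular Q z U) {u : G} (hu : u ∈ U) (hu1 : u ≠ 1) : U ≤ Q u := fun v hv => by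
  by_cases h1 : v = 1
  · subst h1; exact one_mem _
  · exact h.orth u hu v hv hu1 h1

theorem Singular.move (h : Singular Q z U) {u : G} (hu : u ∈ U) (hu1 : u ≠ 1) {F : Subgroup G} (hF : F ≤ U)
    (huF : u ∈ F) {v : G} (hv : v ∈ Q u) (hvF : v ∉ F) :
    ∃ q ∈ Q u, (∀ f ∈ F, Commute q f) ∧ q * v * q⁻¹ = v * u := by
  classical
  have X := h.xt hu hu1
  have := Fintype.ofFinite G
  by_contra hcon
  push Not at hcon
  refine hvF ((Subgroup.closure_le F).2 ?_ (mem_of_commute_centralizer X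
    (Finset.univ.filter (fun f => f ∈ F)) (fun t ht => h.le_Q hu hu1 (hF (Finset.mem_filter.1 ht).2)) v hv
    fun s hs hsT => ?_))
  · refine Set.insert_subset huF ?_
    intro f hf
    exact (Finset.mem_filter.1 hf).2
  · by_contra hc
    exact hcon s hs (fun f hf => hsT f (Finset.mem_filter.2 ⟨Finset.mem_univ f, hf⟩)) (X.move hs hv hc)

variable {LU : Subgroup G}

theorem Singular.Q_le_LU (hLU : LU = ⨆ u ∈ ((U : Set G) \ {1}), Q u) {u : G} (hu : u ∈ U) (hu1 : u ≠ 1) :
    Q u ≤ LU := hLU ▸ le_biSup Q ⟨hu, hu1⟩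

theorem Singular.conj_mem (h : Singular Q z U) (hLU : LU = ⨆ u ∈ ((U : Set G) \ {1}), Q u) :
    ∀ g ∈ LU, ∀ v ∈ U, g * v * g⁻¹ ∈ U := by
  have hle : LU ≤ Subgroup.normalizer (U : Set G) := by
    rw [hLU]
    refine iSup₂_le fun u hu => ?_
    intro q hq
    have X := h.xt hu.1 hu.2
    have h1 : ∀ g ∈ Q u, ∀ v ∈ U, g * v * g⁻¹ ∈ U := fun g hg v hv => by
      rcases X.comm g hg v (h.le_Q hu.1 hu.2 hv) with e | e <;> rw [e]
      exacts [hv, mul_mem hv hu.1]
    rw [Subgroup.mem_normalizer_iff]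
    refine fun v => ⟨h1 q hq v, fun hv => ?_⟩
    have h2 := h1 q⁻¹ (inv_mem hq) _ hv
    rwa [show q⁻¹ * (q * v * q⁻¹) * q⁻¹⁻¹ = v by group] at h2
  exact fun g hg v hv => (Subgroup.mem_normalizer_iff.1 (hle hg) v).1 hv

/-- two elements outside a subgroup are conjugate by something fixing it -/
theorem Singular.transitive (h : Singular Q z U) (hLU : LU = ⨆ u ∈ ((U : Set G) \ {1}), Q u)
    {F : Subgroup G} (hF : F ≤ U) {v w : G} (hv : v ∈ U) (hw : w ∈ U) (hvF : v ∉ F) (hwF : w ∉ F) :
    ∃ g ∈ LU, (∀ f ∈ F, Commute g f) ∧ g * v * g⁻¹ = w := by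
  by_cases hvw : v = w
  · subst hvw; exact ⟨1, one_mem _, fun f _ => Commute.one_left f, by simp⟩
  set t := v⁻¹ * w with ht
  have htU : t ∈ U := mul_mem (inv_mem hv) hw
  have ht1 : t ≠ 1 := fun e => hvw (inv_mul_eq_one.1 e)
  have hcomm : ∀ a ∈ U, ∀ b ∈ U, Commute a b := fun a ha b hb => by
    show a * b = b * a
    have h1 := h.inv _ (mul_mem ha hb)
    calc a * b = (a * b)⁻¹ := (inv_eq_of_mul_eq_one_right h1).symm
      _ = b * a := by rw [mul_inv_rev, inv_eq_of_mul_eq_one_right (h.inv a ha), inv_eq_of_mul_eq_one_right (h.inv b hb)]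
  set F' : Subgroup G := F ⊔ Subgroup.zpowers t with hF'
  have hvF' : v ∉ F' := by
    intro hm
    have key : ∀ y ∈ F', y ∈ F ∨ y * t ∈ F := by
      intro y hy
      rw [hF', ← Subgroup.closure_eq F, Subgroup.zpowers_eq_closure, ← Subgroup.closure_union] at hy
      induction hy using Subgroup.closure_induction with
      | mem y hy =>
        rcases hy with hy | rfl
        · exact Or.inl hy
        · right; rw [h.inv t htU]; exact one_mem _
      | one => exact Or.inl (one_mem _)
      | mul a b ha hb iha ihb =>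
        have hb' : Subgroup.closure ((F : Set G) ∪ {t}) ≤ U :=
          (Subgroup.closure_le U).2 (Set.union_subset hF (Set.singleton_subset_iff.2 htU))
        rcases iha with i | i <;> rcases ihb with j | j
        · exact Or.inl (mul_mem i j)
        · right; rw [mul_assoc]; exact mul_mem i j
        · right
          rw [mul_assoc, (hcomm b (hb' hb) t htU).eq, ← mul_assoc]
          exact mul_mem i j
        · left
          have e : a * t * (b * t) = a * b := by
            rw [(hcomm b (hb' hb) t htU).eq, mul_assoc, ← mul_assoc t t, h.inv t htU, one_mul]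
          rw [← e]; exact mul_mem i j
      | inv a ha iha =>
        have ha' : a ∈ U := (Subgroup.closure_le U).2
          (Set.union_subset hF (Set.singleton_subset_iff.2 htU)) ha
        rw [inv_eq_of_mul_eq_one_right (h.inv a ha')]
        exact iha
    rcases key v hm with e | e
    · exact hvF e
    · rw [ht, mul_inv_cancel_left] at e; exact hwF e
  have hF'U : F' ≤ U := sup_le hF (Subgroup.zpowers_le.2 htU)
  obtain ⟨q, hq, hqF, hqv⟩ := h.move htU ht1 hF'U (Subgroup.mem_sup_right (Subgroup.mem_zpowers t))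
    (h.le_Q htU ht1 hv) hvF'
  exact ⟨q, Singular.Q_le_LU hLU htU ht1 hq, fun f hf => hqF f (Subgroup.mem_sup_left hf),
    by rw [hqv, ht, mul_inv_cancel_left]⟩

/-- every automorphism is induced -/
theorem Singular.induced (h : Singular Q z U) (hLU : LU = ⨆ u ∈ ((U : Set G) \ {1}), Q u)
    (φ : ↥U ≃* ↥U) : ∃ g ∈ LU, ∀ u : ↥U, g * (u : G) * g⁻¹ = ((φ u : ↥U) : G) := by
  classical
  have := Fintype.ofFinite U
  suffices main : ∀ T : Finset U, ∃ g ∈ LU, ∀ u ∈ T, g * (u : G) * g⁻¹ = ((φ u : U) : G) by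
    obtain ⟨g, hg, hg'⟩ := main Finset.univ
    exact ⟨g, hg, fun u => hg' u (Finset.mem_univ u)⟩
  intro T
  induction T using Finset.induction with
  | empty => exact ⟨1, one_mem _, by simp⟩
  | @insert v T hvT ih =>
    obtain ⟨g, hg, hgT⟩ := ih
    set F : Subgroup G := (Subgroup.closure (T : Set U)).map U.subtype
    have hF : F ≤ U := Subgroup.map_subtype_le _
    have hfix : ∀ u ∈ Subgroup.closure (T : Set U), g * (u : G) * g⁻¹ = ((φ u : U) : G) := by
      intro u hu
      induction hu using Subgroup.closure_induction with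
      | mem u hu => exact hgT u hu
      | one => simp
      | mul a b _ _ ha hb => rw [Subgroup.coe_mul, map_mul, Subgroup.coe_mul, ← ha, ← hb, conj_mul]
      | inv a _ ha => rw [Subgroup.coe_inv, map_inv, Subgroup.coe_inv, ← ha, conj_inv]
    set w : G := g⁻¹ * ((φ v : U) : G) * g with hw
    have hwU : w ∈ U := by
      have h1 := h.conj_mem hLU g⁻¹ (inv_mem hg) _ (φ v).2
      rwa [inv_inv] at h1
    by_cases hv : v ∈ Subgroup.closure (T : Set U)
    · refine ⟨g, hg, fun u hu => ?_⟩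
      rcases Finset.mem_insert.1 hu with rfl | hu
      exacts [hfix _ hv, hgT u hu]
    · have hvF : (v : G) ∉ F := fun ⟨v', hv', e⟩ => hv (by
        rw [← U.subtype_injective (a₁ := v') (a₂ := v) e]; exact hv')
      have hwF : w ∉ F := by
        rintro ⟨w', hw', e⟩
        have h1 := hfix w' hw'
        rw [show (w' : G) = w from e, hw, show g * (g⁻¹ * ((φ v : U) : G) * g) * g⁻¹ = ((φ v : U) : G) by group] at h1
        exact hv (by rw [φ.injective (Subtype.ext h1)]; exact hw')
      obtain ⟨r, hr, hrF, hrv⟩ := h.transitive hLU hF v.2 hwU hvF hwF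
      refine ⟨g * r, mul_mem hg hr, fun u hu => ?_⟩
      rw [show g * r * (u : G) * (g * r)⁻¹ = g * (r * (u : G) * r⁻¹) * g⁻¹ by group]
      rcases Finset.mem_insert.1 hu with rfl | hu
      · rw [hrv, hw]; group
      · rw [(hrF (u : G) ⟨u, Subgroup.subset_closure hu, rfl⟩).eq, mul_inv_cancel_right]
        exact hgT u hu

variable {QU : Subgroup G}

theorem Singular.mem_QU (hQU : QU = ⨅ u ∈ ((U : Set G) \ {1}), Q u) {x : G} :
    x ∈ QU ↔ ∀ u ∈ U, u ≠ 1 → x ∈ Q u := by
  rw [hQU]
  simp only [Subgroup.mem_iInf, Set.mem_diff, SetLike.mem_coe, Set.mem_singleton_iff]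
  exact ⟨fun h u hu hu1 => h u ⟨hu, hu1⟩, fun h u hu => h u hu.1 hu.2⟩

/-- the intersection over generators -/
theorem Singular.inter_generators (h : Singular Q z U) (T : Set G) (hT : Subgroup.closure T = U)
    (hT1 : (1 : G) ∉ T) (hQU : QU = ⨅ u ∈ ((U : Set G) \ {1}), Q u) : QU = ⨅ t ∈ T, Q t := by
  have hTU : T ⊆ U := hT ▸ Subgroup.subset_closure
  ext x
  rw [Singular.mem_QU hQU]
  simp only [Subgroup.mem_iInf]
  refine ⟨fun hx t ht => hx t (hTU ht) (fun e => hT1 (e ▸ ht)), fun hx u hu => ?_⟩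
  rw [← hT] at hu
  induction hu using Subgroup.closure_induction with
  | mem u hu => exact fun _ => hx u hu
  | one => exact fun e => absurd rfl e
  | inv a ha iha =>
    intro hne
    have e : a⁻¹ = a := inv_eq_of_mul_eq_one_right (h.inv a (hT ▸ ha))
    rw [e] at hne ⊢
    exact iha hne
  | mul a b ha hb iha ihb =>
    intro hne
    rw [hT] at ha hb
    by_cases ha1 : a = 1
    · subst ha1; rw [one_mul] at hne ⊢; exact ihb hne
    by_cases hb1 : b = 1
    · subst hb1; rw [mul_one] at hne ⊢; exact iha hne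
    have X := h.xt ha ha1
    have hba : b ≠ a := fun e => hne (e ▸ h.inv b hb)
    obtain ⟨q, hq, hqb⟩ : ∃ q ∈ Q a, ¬ Commute b q := by
      by_contra hc
      push Not at hc
      rcases X.eq_of_cen b (h.le_Q ha ha1 hb) hc with e | e
      exacts [hb1 e, hba e]
    have hconj : q * b * q⁻¹ = a * b := by
      rw [X.move hq (h.le_Q ha ha1 hb) (fun e => hqb e.symm), (X.cen b (h.le_Q ha ha1 hb)).eq]
    rw [← hconj, Q_equivariant h.setting.core]
    refine ⟨q⁻¹ * x * q, ?_, by simp [mul_assoc]⟩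
    rcases X.comm q⁻¹ (inv_mem hq) x (iha ha1) with e | e <;> rw [inv_inv] at e <;> rw [SetLike.mem_coe, e]
    · exact ihb hb1
    · exact mul_mem (ihb hb1) (h.le_Q hb hb1 ha)

/-- commutators with the join lie in the singular subgroup -/
theorem Singular.trivial_mod (h : Singular Q z U) (hQU : QU = ⨅ u ∈ ((U : Set G) \ {1}), Q u)
    (hLU : LU = ⨆ u ∈ ((U : Set G) \ {1}), Q u) :
    ∀ g ∈ LU, ∀ x ∈ QU, g * x * g⁻¹ * x⁻¹ ∈ U := by
  let K : Subgroup G :=
    { carrier := {g | ∀ x ∈ QU, x⁻¹ * (g * x * g⁻¹) ∈ U ∧ x⁻¹ * (g⁻¹ * x * g) ∈ U} ∩ (LU : Set G)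
      mul_mem' := by
        rintro g k ⟨hg, hgL⟩ ⟨hk, hkL⟩
        refine ⟨fun x hx => ⟨?_, ?_⟩, mul_mem hgL hkL⟩
        · rw [show x⁻¹ * (g * k * x * (g * k)⁻¹) =
            (x⁻¹ * (g * x * g⁻¹)) * (g * (x⁻¹ * (k * x * k⁻¹)) * g⁻¹) by group]
          exact mul_mem (hg x hx).1 (h.conj_mem hLU g hgL _ (hk x hx).1)
        · rw [show x⁻¹ * ((g * k)⁻¹ * x * (g * k)) =
            (x⁻¹ * (k⁻¹ * x * k)) * (k⁻¹ * (x⁻¹ * (g⁻¹ * x * g)) * k⁻¹⁻¹) by group]
          exact mul_mem (hk x hx).2 (h.conj_mem hLU k⁻¹ (inv_mem hkL) _ (hg x hx).2)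
      one_mem' := ⟨fun x _ => by simp, one_mem _⟩
      inv_mem' := by
        rintro g ⟨hg, hgL⟩
        exact ⟨fun x hx => by rw [inv_inv]; exact ⟨(hg x hx).2, (hg x hx).1⟩, inv_mem hgL⟩ }
  have hle : LU ≤ K := by
    conv_lhs => rw [hLU]
    refine iSup₂_le fun u hu q hq => ?_
    refine ⟨fun x hx => ?_, Singular.Q_le_LU hLU hu.1 hu.2 hq⟩
    have X := h.xt hu.1 hu.2
    have hxu := (Singular.mem_QU hQU).1 hx u hu.1 hu.2
    constructor
    · rcases X.comm q hq x hxu with e | e <;> rw [e]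
      · rw [inv_mul_cancel]; exact one_mem _
      · rw [inv_mul_cancel_left]; exact hu.1
    · rcases X.comm q⁻¹ (inv_mem hq) x hxu with e | e <;> rw [inv_inv] at e <;> rw [e]
      · rw [inv_mul_cancel]; exact one_mem _
      · rw [inv_mul_cancel_left]; exact hu.1
  intro g hg x hx
  have h1 : x⁻¹ * (g * x * g⁻¹) ∈ U := ((hle hg).1 x hx).1
  by_cases hU : ∃ u ∈ U, u ≠ 1
  · obtain ⟨u, hu, hu1⟩ := hU
    have hxu := (Singular.mem_QU hQU).1 hx
    set m := x⁻¹ * (g * x * g⁻¹) with hm
    by_cases hm1 : m = 1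
    · rw [inv_mul_eq_one.1 hm1 |>.symm, mul_inv_cancel]; exact one_mem _
    · have hc : Commute x m := ((h.xt h1 hm1).cen x (hxu m h1 hm1)).symm
      rw [show g * x * g⁻¹ = x * m by rw [hm, mul_inv_cancel_left], hc.eq, mul_inv_cancel_right]
      exact h1
  · push Not at hU
    rw [(inv_mul_eq_one.1 (hU _ h1)).symm, mul_inv_cancel]; exact one_mem _

theorem Singular.coset (h : Singular Q z U) (hQU : QU = ⨅ u ∈ ((U : Set G) \ {1}), Q u)
    (hLU : LU = ⨆ u ∈ ((U : Set G) \ {1}), Q u) :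
    ∀ x ∈ QU, x ∉ U → ∀ u ∈ U, ∃ g ∈ LU ⊓ Subgroup.centralizer (U : Set G), g * x * g⁻¹ = x * u := by
  intro x hx hxU u hu
  by_cases hu1 : u = 1
  · subst hu1; exact ⟨1, one_mem _, by simp⟩
  obtain ⟨q, hq, hqU, hqx⟩ := h.move hu hu1 le_rfl hu ((Singular.mem_QU hQU).1 hx u hu hu1) hxU
  exact ⟨q, ⟨Singular.Q_le_LU hLU hu hu1 hq,
    Subgroup.mem_centralizer_iff.2 fun f hf => (hqU f hf).symm.eq⟩, hqx⟩

end Cfsg.Agent.Spor.Large
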