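import Cfsg.Prelude.Def_MonsterType
import Cfsg.Agent.Lib.Spor.LargeSingular
import Cfsg.Agent.Lib.Solv.Extraspecial

/-!
Criteria for a large extraspecial subgroup by a conjugate of the centre.
-/

set_option autoImplicit false

namespace Cfsg.Agent.Spor.Large

variable {G : Type*} [Group G] [Finite G]

/-- the centre of an extraspecial subgroup is generated by one involution -/
theorem exists_center_gen (P : Subgroup G) (hE : Cfsg.IsExtraspecial 2 P) :
    ∃ z : G, orderOf z = 2 ∧ z ∈ P ∧ XT z P ∧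
      ((Subgroup.center P).map P.subtype : Set G) = {1, z} := by
  obtain ⟨p, q, hpq, huniv⟩ := Nat.card_eq_two_iff.1 hE.2
  have mem : ∀ v : Subgroup.center P, v = p ∨ v = q := fun v => by
    have : v ∈ ({p, q} : Set _) := huniv ▸ Set.mem_univ v
    simpa using this
  obtain ⟨w, hw1⟩ : ∃ w : Subgroup.center P, w ≠ 1 := by
    by_cases h : p = 1
    · exact ⟨q, fun e => hpq (h.trans e.symm)⟩
    · exact ⟨p, h⟩
  set z : G := ((w : P) : G) with hz
  have hz1 : z ≠ 1 := fun e => hw1 (Subtype.ext (Subtype.ext e))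
  have two : ∀ v : Subgroup.center P, v = 1 ∨ v = w := fun v => by
    rcases mem 1 with a | a <;> rcases mem w with b | b <;> rcases mem v with c | c
    all_goals first
      | exact Or.inl (c.trans a.symm)
      | exact Or.inr (c.trans b.symm)
      | exact absurd (b.trans a.symm) hw1
  have hzz : z * z = 1 := by
    rcases two (w * w) with e | e
    · exact congrArg (fun v : Subgroup.center P => ((v : P) : G)) e
    · exact absurd (mul_eq_left.1 e) hw1
  have hzmem : z ∈ P := (w : P).2
  have hcen : ∀ a ∈ P, Commute z a := fun a ha =>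
    (congrArg Subtype.val (Subgroup.mem_center_iff.1 w.2 ⟨a, ha⟩)).symm
  refine ⟨z, orderOf_eq_prime (by rw [sq]; exact hzz) hz1, hzmem, ⟨hz1, hzz, hzmem, hcen, ?_, ?_⟩, ?_⟩
  · intro a ha b hb
    have hm : (⟨a, ha⟩ * ⟨b, hb⟩ * ⟨a, ha⟩⁻¹ * ⟨b, hb⟩⁻¹ : P) ∈ Subgroup.center P := by
      rw [← hE.1.2.2, commutator_def]
      exact Subgroup.commutator_mem_commutator (Subgroup.mem_top _) (Subgroup.mem_top _)
    rcases two ⟨_, hm⟩ with e | e
    · exact Or.inl (mul_inv_eq_one.1 (congrArg (fun v : Subgroup.center P => ((v : P) : G)) e))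
    · have e' : a * b * a⁻¹ * b⁻¹ = z := congrArg (fun v : Subgroup.center P => ((v : P) : G)) e
      exact Or.inr ((mul_inv_eq_iff_eq_mul.1 e').trans (hcen b hb).eq)
  · intro a ha h
    rcases two ⟨⟨a, ha⟩, Subgroup.mem_center_iff.2 fun q => Subtype.ext (h q q.2).symm.eq⟩ with e | e
    · exact Or.inl (congrArg (fun v : Subgroup.center P => ((v : P) : G)) e)
    · exact Or.inr (congrArg (fun v : Subgroup.center P => ((v : P) : G)) e)
  · ext a
    refine ⟨?_, ?_⟩
    · rintro ⟨v, hv, rfl⟩
      rcases two ⟨v, hv⟩ with e | e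
      · exact Or.inl (congrArg (fun v : Subgroup.center P => ((v : P) : G)) e)
      · exact Or.inr (congrArg (fun v : Subgroup.center P => ((v : P) : G)) e)
    · rintro (rfl | rfl)
      exacts [one_mem _, ⟨w, w.2, rfl⟩]

/-- the criterion: an involution outside the centre whose fixed points on signalizers lie in the
centralizer of the centre -/
theorem large_of_commutes (P : Subgroup G) (hE : Cfsg.IsExtraspecial 2 P)
    (hC : Subgroup.centralizer (P : Set G) = (Subgroup.center P).map P.subtype)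
    (hN : Subgroup.centralizer (((Subgroup.center P).map P.subtype : Subgroup G) : Set G) ≤
      Subgroup.normalizer (P : Set G))
    {z : G} (X : XT z P) (hZ : ((Subgroup.center P).map P.subtype : Set G) = {1, z}) {b : G}
    (hb : b ∈ P) (hbb : b * b = 1) (hb1 : b ≠ 1) (hbz : b ≠ z)
    (hfix : ∀ K : Subgroup G, Odd (Nat.card K) → P ≤ Subgroup.normalizer (K : Set G) →
      ∀ k ∈ K, Commute k b → Commute k z) :
    Cfsg.IsLargeExtraspecial P := by
  refine ⟨hE, hC, hN, fun K hK hPK => ?_⟩
  have hnorm : ∀ p ∈ P, ∀ k ∈ K, p * k * p⁻¹ ∈ K := fun p hp k hk =>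
    (Subgroup.mem_normalizer_iff.1 (hPK hp) k).1 hk
  -- no fixed points of the centre
  have hKP : ∀ x, x ∈ P → x ∈ K → x = 1 := by
    intro x hxP hxK
    obtain ⟨k, hk⟩ := hE.1.1 ⟨x, hxP⟩
    have h1 : x ^ 2 ^ k = 1 := congrArg Subtype.val hk
    have hd := Nat.dvd_gcd (orderOf_dvd_of_pow_eq_one h1) (Subgroup.orderOf_dvd_natCard K hxK)
    rw [Nat.Coprime.gcd_eq_one ((Nat.coprime_two_left.2 hK).pow_left k), Nat.dvd_one,
      orderOf_eq_one_iff] at hd
    exact hd
  have hzfix : ∀ k ∈ K, Commute k z → k = 1 := by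
    intro k hk hkz
    have hkN : k ∈ Subgroup.normalizer (P : Set G) := hN <| Subgroup.mem_centralizer_iff.2 fun w hw => by
      rcases (hZ ▸ hw : w ∈ ({1, z} : Set G)) with rfl | rfl
      exacts [(one_mul k).trans (mul_one k).symm, hkz.symm.eq]
    refine hKP k (Subgroup.map_subtype_le (Subgroup.center P) (hC ▸ Subgroup.mem_centralizer_iff.2 fun p hp => ?_)) hk
    have h1 : k * p * k⁻¹ * p⁻¹ = 1 := by
      refine hKP _ (mul_mem ((Subgroup.mem_normalizer_iff.1 hkN p).1 hp) (inv_mem hp)) ?_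
      rw [show k * p * k⁻¹ * p⁻¹ = k * (p * k⁻¹ * p⁻¹) by group]
      exact mul_mem hk (hnorm p hp _ (inv_mem hk))
    exact (mul_inv_eq_iff_eq_mul.1 (mul_inv_eq_one.1 h1)).symm
  have hbfix : ∀ k ∈ K, Commute k b → k = 1 := fun k hk h => hzfix k hk (hfix K hK hPK k hk h)
  obtain ⟨p, hp, hpb⟩ : ∃ p ∈ P, ¬ Commute p b := by
    by_contra h
    push Not at h
    rcases X.eq_of_cen b hb (fun p hp => (h p hp).symm) with e | e
    exacts [hb1 e, hbz e]
  have hpbz : p * b * p⁻¹ = b * z := X.move hp hb hpb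
  -- fixed point free involutions invert
  have inv_of : ∀ t ∈ P, t * t = 1 → (∀ k ∈ K, Commute k t → k = 1) → ∀ k ∈ K, t * k * t⁻¹ = k⁻¹ := by
    intro t ht htt hfp k hk
    have hti : t⁻¹ = t := inv_eq_of_mul_eq_one_right htt
    set φ : K →* K :=
      { toFun := fun k => ⟨t * (k : G) * t⁻¹, hnorm t ht _ k.2⟩
        map_one' := Subtype.ext (by simp)
        map_mul' := fun a c => Subtype.ext (by simp [mul_assoc]) } with hφ
    have hfpf : MonoidHom.FixedPointFree φ := fun a ha => by
      have e : t * (a : G) * t⁻¹ = a := congrArg Subtype.val ha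
      exact Subtype.ext (hfp a a.2 (mul_inv_eq_iff_eq_mul.1 e).symm)
    have hinv : Function.Involutive φ := fun a => Subtype.ext (by
      show t * (t * (a : G) * t⁻¹) * t⁻¹ = a
      rw [hti, ← mul_assoc, ← mul_assoc, htt, one_mul, mul_assoc, htt, mul_one])
    exact congrArg Subtype.val (congrFun (hfpf.coe_eq_inv_of_involutive hinv) ⟨k, hk⟩)
  rw [eq_bot_iff]
  intro k hk
  rw [Subgroup.mem_bot]
  have h1 := inv_of z X.mem X.sq hzfix
  have h2 := inv_of b hb hbb hbfix
  have h3 : Commute k (b * z) := by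
    refine (mul_inv_eq_iff_eq_mul.1 ?_).symm
    rw [show b * z * k * (b * z)⁻¹ = b * (z * k * z⁻¹) * b⁻¹ by group, h1 k hk, h2 _ (inv_mem hk), inv_inv]
  have h4 : p⁻¹ * k * p = 1 := by
    refine hbfix _ (by have := hnorm p⁻¹ (inv_mem hp) k hk; rwa [inv_inv] at this) ?_
    have := (Commute.conj_iff p⁻¹).2 h3
    rwa [inv_inv, ← hpbz, show p⁻¹ * (p * b * p⁻¹) * p = b by group] at this
  calc k = p * (p⁻¹ * k * p) * p⁻¹ := by group
    _ = 1 := by rw [h4, mul_one, mul_inv_cancel]

open scoped Classical in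
/-- the conjugates of `P` attached to the conjugates of `z` -/
noncomputable def conjMap (z : G) (P : Subgroup G) : G → Subgroup G := fun x =>
  if h : ∃ g : G, g * z * g⁻¹ = x then P.map (MulAut.conj h.choose).toMonoidHom else ⊥

theorem conjMap_eq {z : G} {P : Subgroup G}
    (hN : ∀ c : G, Commute c z → ∀ p ∈ P, c * p * c⁻¹ ∈ P) (g : G) :
    conjMap z P (g * z * g⁻¹) = P.map (MulAut.conj g).toMonoidHom := by
  classical
  have h : ∃ k : G, k * z * k⁻¹ = g * z * g⁻¹ := ⟨g, rfl⟩
  rw [conjMap, dif_pos h]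
  set k := h.choose
  have hk : k * z * k⁻¹ = g * z * g⁻¹ := h.choose_spec
  have hc : Commute (g⁻¹ * k) z := mul_inv_eq_iff_eq_mul.1 (by
    rw [show g⁻¹ * k * z * (g⁻¹ * k)⁻¹ = g⁻¹ * (k * z * k⁻¹) * g by group, hk]; group)
  ext y
  rw [Subgroup.mem_map_equiv, Subgroup.mem_map_equiv, MulAut.conj_symm_apply, MulAut.conj_symm_apply]
  constructor
  · intro h1
    have := hN _ hc _ h1
    rwa [show g⁻¹ * k * (k⁻¹ * y * k) * (g⁻¹ * k)⁻¹ = g⁻¹ * y * g by group] at this
  · intro h1
    have := hN _ hc.inv_left _ h1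
    rwa [show (g⁻¹ * k)⁻¹ * (g⁻¹ * y * g) * (g⁻¹ * k)⁻¹⁻¹ = k⁻¹ * y * k by group] at this

theorem conjMap_nmap {z : G} {P : Subgroup G} (X : XT z P)
    (hN : ∀ c : G, Commute c z → ∀ p ∈ P, c * p * c⁻¹ ∈ P) : NMap (conjMap z P) := by
  classical
  refine ⟨fun {x q} hq => ?_, fun {x c} hc {q} hq => ?_, fun g x => ?_⟩
  · by_cases h : ∃ g : G, g * z * g⁻¹ = x
    · obtain ⟨g, rfl⟩ := h
      rw [conjMap_eq hN] at hq
      obtain ⟨p, hp, rfl⟩ := hq
      exact (Commute.conj_iff g).2 (X.cen p hp).symm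
    · rw [conjMap, dif_neg h, Subgroup.mem_bot] at hq
      subst hq; exact Commute.one_left x
  · by_cases h : ∃ g : G, g * z * g⁻¹ = x
    · obtain ⟨g, rfl⟩ := h
      rw [conjMap_eq hN] at hq ⊢
      obtain ⟨p, hp, rfl⟩ := hq
      have hc' := (Commute.conj_iff g⁻¹).2 hc
      rw [show g⁻¹ * (g * z * g⁻¹) * g⁻¹⁻¹ = z by group] at hc'
      refine ⟨_, hN _ hc' p hp, ?_⟩
      simp [mul_assoc]
    · rw [conjMap, dif_neg h, Subgroup.mem_bot] at hq ⊢
      subst hq; group
  · by_cases h : ∃ k : G, k * z * k⁻¹ = x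
    · obtain ⟨k, rfl⟩ := h
      rw [show g * (k * z * k⁻¹) * g⁻¹ = g * k * z * (g * k)⁻¹ by group, conjMap_eq hN, conjMap_eq hN,
        Subgroup.map_map]
      ext y; simp [Subgroup.mem_map, mul_assoc]
    · have h' : ¬ ∃ k : G, k * z * k⁻¹ = g * x * g⁻¹ := fun ⟨k, hk⟩ => h ⟨g⁻¹ * k, by
        rw [show g⁻¹ * k * z * (g⁻¹ * k)⁻¹ = g⁻¹ * (k * z * k⁻¹) * g by group, hk]; group⟩
      simp only [conjMap, dif_neg h', dif_neg h, Subgroup.map_bot]

theorem involution_in_core (P : Subgroup G) (hE : Cfsg.IsExtraspecial 2 P)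
    (hC : Subgroup.centralizer (P : Set G) = (Subgroup.center P).map P.subtype)
    (hN : Subgroup.centralizer (((Subgroup.center P).map P.subtype : Subgroup G) : Set G) ≤
      Subgroup.normalizer (P : Set G)) (b : G) (hbP : b ∈ P)
    (hbZ : b ∉ (Subgroup.center P).map P.subtype) (hb : orderOf b = 2)
    (hZ : (Subgroup.center P).map P.subtype ≤
      (Cfsg.pCore 2 ↥(Subgroup.centralizer ({b} : Set G))).map (Subgroup.centralizer ({b} : Set G)).subtype) :
    Cfsg.IsLargeExtraspecial P := by
  haveI : Fact (Nat.Prime 2) := ⟨Nat.prime_two⟩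
  obtain ⟨z, -, hzP, X, hset⟩ := exists_center_gen P hE
  have hbb : b * b = 1 := by rw [← sq, ← hb, pow_orderOf_eq_one]
  have hbne : ∀ a ∈ ({1, z} : Set G), b ≠ a := fun a ha e =>
    hbZ (SetLike.mem_coe.1 ((Set.ext_iff.1 hset b).2 (by rw [e]; exact ha)))
  refine large_of_commutes P hE hC hN X hset hbP hbb (hbne 1 (Or.inl rfl)) (hbne z (Or.inr rfl))
    fun K hK hPK k hk hkb => ?_
  set C := Subgroup.centralizer ({b} : Set G)
  obtain ⟨z', hz', hz'e⟩ := hZ (SetLike.mem_coe.1 ((Set.ext_iff.1 hset z).2 (Or.inr rfl)))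
  have hkC : k ∈ C := Subgroup.mem_centralizer_singleton_iff.2 hkb
  have h1 : (⟨k, hkC⟩ * z' * ⟨k, hkC⟩⁻¹ * z'⁻¹ : C) ∈ Cfsg.pCore 2 C :=
    mul_mem ((Solv.pCore_normal 2).conj_mem _ hz' _) (inv_mem hz')
  have h2 : k * z * k⁻¹ * z⁻¹ ∈ K := by
    rw [show k * z * k⁻¹ * z⁻¹ = k * (z * k⁻¹ * z⁻¹) by group]
    exact mul_mem hk ((Subgroup.mem_normalizer_iff.1 (hPK hzP) _).1 (inv_mem hk))
  obtain ⟨n, hn⟩ := Solv.pCore_isPGroup 2 ⟨_, h1⟩
  have hn' : (k * z * k⁻¹ * z⁻¹) ^ 2 ^ n = 1 := by
    have e := congrArg (fun v : Cfsg.pCore 2 C => ((v : C) : G)) hn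
    simp only [SubgroupClass.coe_pow, Subgroup.coe_mul, Subgroup.coe_inv, OneMemClass.coe_one] at e
    rw [show (z' : G) = z from hz'e] at e
    exact e
  have hd := Nat.dvd_gcd (orderOf_dvd_of_pow_eq_one hn') (Subgroup.orderOf_dvd_natCard K h2)
  rw [Nat.Coprime.gcd_eq_one ((Nat.coprime_two_left.2 hK).pow_left n), Nat.dvd_one,
    orderOf_eq_one_iff, mul_inv_eq_one] at hd
  exact mul_inv_eq_iff_eq_mul.1 hd

theorem conjugate_inside (P : Subgroup G) (hE : Cfsg.IsExtraspecial 2 P)
    (hC : Subgroup.centralizer (P : Set G) = (Subgroup.center P).map P.subtype)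
    (hN : Subgroup.centralizer (((Subgroup.center P).map P.subtype : Subgroup G) : Set G) ≤
      Subgroup.normalizer (P : Set G)) (w : ℕ) (hw : 2 ≤ w) (hcard : Nat.card P = 2 ^ (2 * w + 1))
    (g : G) (hg : g ∉ Subgroup.normalizer (((Subgroup.center P).map P.subtype : Subgroup G) : Set G))
    (hZg : ((Subgroup.center P).map P.subtype).map (MulAut.conj g).toMonoidHom ≤ P)
    (V : Subgroup G)
    (hV : V = (Subgroup.center P).map P.subtype ⊔ ((Subgroup.center P).map P.subtype).map (MulAut.conj g).toMonoidHom) :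
    (Subgroup.center P).map P.subtype ≤ P.map (MulAut.conj g).toMonoidHom ∧
      (Subgroup.centralizer (V : Set G)).relIndex (Subgroup.normalizer (V : Set G)) = 6 ∧
      Cfsg.IsLargeExtraspecial P := by
  classical
  haveI : Fact (Nat.Prime 2) := ⟨Nat.prime_two⟩
  obtain ⟨z, hz, hzP, X, hset⟩ := exists_center_gen P hE
  set Z := (Subgroup.center P).map P.subtype with hZdef
  have hZmem : ∀ a, a ∈ Z ↔ a = 1 ∨ a = z := fun a => by
    rw [← SetLike.mem_coe, hset]; simp
  have hNc : ∀ c : G, Commute c z → ∀ p ∈ P, c * p * c⁻¹ ∈ P := fun c hc p hp => by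
    have hcN : c ∈ Subgroup.normalizer (P : Set G) := hN <| Subgroup.mem_centralizer_iff.2 fun a ha => by
      rcases (hZmem a).1 ha with rfl | rfl
      exacts [(one_mul c).trans (mul_one c).symm, hc.symm.eq]
    exact (Subgroup.mem_normalizer_iff.1 hcN p).1 hp
  set x := g * z * g⁻¹ with hx
  have hxP : x ∈ P := hZg ⟨z, (hZmem z).2 (Or.inr rfl), rfl⟩
  have hxz : x ≠ z := by
    intro e
    apply hg
    rw [Subgroup.mem_normalizer_iff]
    intro a
    rw [hZmem, hZmem]
    constructor
    · rintro (rfl | rfl)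
      exacts [Or.inl (by group), Or.inr e]
    · rintro (h | h)
      · exact Or.inl (conj_eq_one_iff.1 h)
      · exact Or.inr (mul_left_cancel (mul_right_cancel (h.trans e.symm)))
  have M := conjMap_nmap X hNc
  have hQz : conjMap z P z = P := by
    have := conjMap_eq (P := P) hNc 1
    rw [one_mul, inv_one, mul_one] at this
    rw [this]; ext y; simp
  have hlargeP : Subgroup.centralizer (P : Set G) ≤ P := hC ▸ Subgroup.map_subtype_le _
  have Y : XT x (P.map (MulAut.conj g).toMonoidHom) := X.conj g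
  have hsym : z ∈ P.map (MulAut.conj g).toMonoidHom := by
    rw [← conjMap_eq (z := z) hNc g]
    refine symmetric_core M (by rw [hQz]; exact X) (by rw [hQz]; exact hlargeP) g (by rw [hQz]; exact hxP) ?_
    intro q hq hqn hsmall
    rw [hQz] at hq hsmall
    exfalso
    -- the subgroup would have order at most eight
    have hqx : q * x * q⁻¹ = x * z := X.move hq hxP hqn
    let S : Finset G := {1, z, x, x * z}
    have hsub : (P : Set G) ⊆ ↑(S ∪ S.image (fun s => q * s)) := by
      intro t ht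
      rw [Finset.mem_coe, Finset.mem_union, Finset.mem_image]
      by_cases hc : Commute t x
      · left; rcases hsmall t ht hc with e | e | e | e <;> simp [S, e, hx]
      · right
        have hc' : Commute (q⁻¹ * t) x := mul_inv_eq_iff_eq_mul.1 (by
          calc q⁻¹ * t * x * (q⁻¹ * t)⁻¹ = q⁻¹ * (t * x * t⁻¹) * q := by group
            _ = q⁻¹ * (q * x * q⁻¹) * q := by rw [X.move ht hxP hc, hqx]
            _ = x := by group)
        refine ⟨q⁻¹ * t, ?_, mul_inv_cancel_left q t⟩
        rcases hsmall _ (mul_mem (inv_mem hq) ht) hc' with e | e | e | e <;> simp [S, e, hx]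
    have h8 : Nat.card P ≤ 8 := by
      have h1 : (P : Set G).ncard ≤ (↑(S ∪ S.image (fun s => q * s)) : Set G).ncard :=
        Set.ncard_le_ncard hsub (Finset.finite_toSet _)
      rw [Set.ncard_coe_finset] at h1
      have h2 := (Finset.card_union_le S (S.image (fun s => q * s))).trans
        (Nat.add_le_add_left Finset.card_image_le _)
      have h4 : S.card ≤ 4 := Finset.card_le_four
      have h5 : Nat.card P = (P : Set G).ncard := Nat.card_coe_set_eq _
      omega
    have : 2 ^ 5 ≤ 2 ^ (2 * w + 1) := Nat.pow_le_pow_right (by norm_num) (by omega)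
    omega
  refine ⟨fun a ha => ?_, ?_, ?_⟩
  · rcases (hZmem a).1 ha with rfl | rfl
    exacts [one_mem _, hsym]
  · obtain ⟨q, hq, hqn⟩ : ∃ q ∈ P, ¬ Commute q x := by
      by_contra h
      push Not at h
      rcases X.eq_of_cen x hxP (fun p hp => (h p hp).symm) with e | e
      exacts [Y.ne e, hxz e]
    obtain ⟨r, hr, hrn⟩ : ∃ r ∈ P.map (MulAut.conj g).toMonoidHom, ¬ Commute r z := by
      by_contra h
      push Not at h
      rcases Y.eq_of_cen z hsym (fun p hp => (h p hp).symm) with e | e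
      exacts [X.ne e, hxz e.symm]
    have hqx : q * x * q⁻¹ = x * z := X.move hq hxP hqn
    have hrz : r * z * r⁻¹ = z * x := Y.move hr hsym hrn
    have hqz : q * z * q⁻¹ = z := by rw [← (X.cen q hq).eq, mul_inv_cancel_right]
    have hrx : r * x * r⁻¹ = x := by rw [← (Y.cen r hr).eq, mul_inv_cancel_right]
    have hzx : Commute z x := X.cen x hxP
    have hV' : ∀ a, a ∈ V ↔ a = 1 ∨ a = z ∨ a = x ∨ a = x * z := by
      have hZx : ∀ a, a ∈ Z.map (MulAut.conj g).toMonoidHom ↔ a = 1 ∨ a = x := fun a => by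
        constructor
        · rintro ⟨v, hv, rfl⟩
          rcases (hZmem v).1 hv with rfl | rfl
          · left; simp
          · right; rfl
        · rintro (rfl | rfl)
          exacts [one_mem _, ⟨z, (hZmem z).2 (Or.inr rfl), rfl⟩]
      intro a
      rw [hV]
      constructor
      · intro ha
        rw [Subgroup.sup_eq_closure] at ha
        induction ha using Subgroup.closure_induction with
        | mem y hy =>
          rcases hy with hy | hy
          · rcases (hZmem y).1 hy with e | e <;> tauto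
          · rcases (hZx y).1 hy with e | e <;> tauto
        | one => exact Or.inl rfl
        | mul c d _ _ hc hd =>
          have e1 : ∀ t : G, z * (z * t) = t := fun t => by rw [← mul_assoc, X.sq, one_mul]
          have e2 : ∀ t : G, x * (x * t) = t := fun t => by rw [← mul_assoc, Y.sq, one_mul]
          have e3 : ∀ t : G, z * (x * t) = x * (z * t) := fun t => by rw [← mul_assoc, hzx.eq, mul_assoc]
          rcases hc with rfl | rfl | rfl | rfl <;> rcases hd with rfl | rfl | rfl | rfl <;>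
            simp [mul_assoc, e1, e2, e3, X.sq, Y.sq, hzx.eq]
        | inv c _ hc =>
          rcases hc with rfl | rfl | rfl | rfl
          · left; simp
          · right; left; exact inv_eq_of_mul_eq_one_right X.sq
          · right; right; left; exact inv_eq_of_mul_eq_one_right Y.sq
          · right; right; right
            rw [mul_inv_rev, inv_eq_of_mul_eq_one_right X.sq, inv_eq_of_mul_eq_one_right Y.sq, hzx.eq]
      · have hz' : z ∈ Z ⊔ Z.map (MulAut.conj g).toMonoidHom := Subgroup.mem_sup_left ((hZmem z).2 (Or.inr rfl))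
        have hx' : x ∈ Z ⊔ Z.map (MulAut.conj g).toMonoidHom := Subgroup.mem_sup_right ((hZx x).2 (Or.inr rfl))
        rintro (rfl | rfl | rfl | rfl)
        exacts [one_mem _, hz', hx', mul_mem hx' hz']
    set N := Subgroup.normalizer (V : Set G) with hNdef
    have inN : ∀ c : G, (∀ a ∈ V, c * a * c⁻¹ ∈ V) → c ∈ N := fun c hc => by
      rw [hNdef, Subgroup.mem_normalizer_iff]
      intro a
      refine ⟨hc a, fun ha => ?_⟩
      have himg : (fun t => c * t * c⁻¹) '' (V : Set G) = V :=
        Set.eq_of_subset_of_ncard_le (by rintro _ ⟨t, ht, rfl⟩; exact hc t ht)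
          (le_of_eq (Set.ncard_image_of_injective _ (fun u v e => by
            exact mul_left_cancel (mul_right_cancel e))).symm) (Set.toFinite _)
      obtain ⟨t, ht, e⟩ := (Set.ext_iff.1 himg (c * a * c⁻¹)).2 ha
      rwa [← mul_left_cancel (mul_right_cancel e)]
    have hqN : q ∈ N := inN q fun a ha => by
      rw [hV']
      rcases (hV' a).1 ha with rfl | rfl | rfl | rfl
      · left; group
      · right; left; exact hqz
      · right; right; right; exact hqx
      · right; right; left
        rw [show q * (x * z) * q⁻¹ = q * x * q⁻¹ * (q * z * q⁻¹) by group, hqx, hqz, mul_assoc, X.sq, mul_one]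
    have hrN : r ∈ N := inN r fun a ha => by
      rw [hV']
      rcases (hV' a).1 ha with rfl | rfl | rfl | rfl
      · left; group
      · right; right; right; rw [hrz, hzx.eq]
      · right; right; left; exact hrx
      · right; left
        rw [show r * (x * z) * r⁻¹ = r * x * r⁻¹ * (r * z * r⁻¹) by group, hrx, hrz, ← mul_assoc, hzx.symm.eq, mul_assoc, Y.sq, mul_one]
    -- the action on the three involutions
    let T := {a : G // a = z ∨ a = x ∨ a = x * z}
    have hT : ∀ a : G, (a = z ∨ a = x ∨ a = x * z) ↔ (a ∈ V ∧ a ≠ 1) := fun a => by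
      rw [hV']
      constructor
      · rintro (rfl | rfl | rfl)
        · exact ⟨Or.inr (Or.inl rfl), X.ne⟩
        · exact ⟨Or.inr (Or.inr (Or.inl rfl)), Y.ne⟩
        · exact ⟨Or.inr (Or.inr (Or.inr rfl)), fun e => hxz
            ((eq_inv_of_mul_eq_one_left e).trans (inv_eq_of_mul_eq_one_right X.sq))⟩
      · rintro ⟨rfl | h, h'⟩
        exacts [absurd rfl h', h]
    letI : MulAction N T :=
      { smul := fun c t => ⟨(c : G) * t.1 * (c : G)⁻¹, (hT _).2
          ⟨(Subgroup.mem_normalizer_iff.1 c.2 _).1 ((hT _).1 t.2).1, fun e => ((hT _).1 t.2).2 (conj_eq_one_iff.1 e)⟩⟩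
        one_smul := fun t => Subtype.ext (by show ((1 : N) : G) * t.1 * ((1 : N) : G)⁻¹ = t.1; simp)
        mul_smul := fun c d t => Subtype.ext (by
          show ((c * d : N) : G) * t.1 * ((c * d : N) : G)⁻¹ = (c : G) * ((d : G) * t.1 * (d : G)⁻¹) * (c : G)⁻¹
          simp [mul_assoc]) }
    set φ := MulAction.toPermHom N T
    have hφ : ∀ (c : N) (t : T), ((φ c) t).1 = (c : G) * t.1 * (c : G)⁻¹ := fun _ _ => rfl
    have hker : φ.ker = (Subgroup.centralizer (V : Set G)).subgroupOf N := by
      ext c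
      rw [MonoidHom.mem_ker, Subgroup.mem_subgroupOf, Subgroup.mem_centralizer_iff]
      constructor
      · intro h a ha
        by_cases ha1 : a = 1
        · subst ha1; simp
        · have := congrArg (fun σ : Equiv.Perm T => (σ ⟨a, (hT a).2 ⟨ha, ha1⟩⟩).1) h
          exact (mul_inv_eq_iff_eq_mul.1 this).symm
      · intro h
        refine Equiv.ext fun t => Subtype.ext ?_
        rw [hφ, Equiv.Perm.one_apply, ← h t.1 ((hT _).1 t.2).1, mul_inv_cancel_right]
    let tz : T := ⟨z, Or.inl rfl⟩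
    let tx : T := ⟨x, Or.inr (Or.inl rfl)⟩
    let txz : T := ⟨x * z, Or.inr (Or.inr rfl)⟩
    have hxz_x : x * z ≠ x := fun e => X.ne (mul_eq_left.1 e)
    have hxz_z : x * z ≠ z := fun e => Y.ne (mul_eq_right.1 e)
    have three : ∀ t : T, t = tz ∨ t = tx ∨ t = txz := fun t => by
      rcases t.2 with h | h | h
      exacts [Or.inl (Subtype.ext h), Or.inr (Or.inl (Subtype.ext h)), Or.inr (Or.inr (Subtype.ext h))]
    set cq : N := ⟨q, hqN⟩
    set cr : N := ⟨r, hrN⟩
    have rz : φ cr tz = txz := Subtype.ext (hrz.trans hzx.eq)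
    have qxz : φ cq txz = tx := Subtype.ext (by
      show q * (x * z) * q⁻¹ = x
      rw [show q * (x * z) * q⁻¹ = q * x * q⁻¹ * (q * z * q⁻¹) by group, hqx, hqz, mul_assoc, X.sq, mul_one])
    have qz : φ cq tz = tz := Subtype.ext hqz
    have qx : φ cq tx = txz := Subtype.ext hqx
    have hsurj : Function.Surjective φ := by
      intro σ
      obtain ⟨c, hc⟩ : ∃ c : N, φ c tz = σ tz := by
        rcases three (σ tz) with e | e | e <;> rw [e]
        · exact ⟨1, by rw [map_one]; rfl⟩
        · exact ⟨cq * cr, by rw [map_mul, Equiv.Perm.mul_apply, rz, qxz]⟩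
        · exact ⟨cr, rz⟩
      set τ := (φ c)⁻¹ * σ with hτ
      have hτz : τ tz = tz := by rw [hτ, Equiv.Perm.mul_apply, ← hc]; exact Equiv.symm_apply_apply _ _
      have n1 : tx ≠ tz := fun e => hxz (congrArg Subtype.val e)
      have n2 : txz ≠ tz := fun e => hxz_z (congrArg Subtype.val e)
      have n3 : txz ≠ tx := fun e => hxz_x (congrArg Subtype.val e)
      have hσ : σ = φ c * τ := by rw [hτ, mul_inv_cancel_left]
      rcases three (τ tx) with e | e | e
      · exact absurd (τ.injective (e.trans hτz.symm)) n1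
      · refine ⟨c, ?_⟩
        have : τ = 1 := Equiv.ext fun t => by
          rcases three t with rfl | rfl | rfl
          · exact hτz
          · exact e
          · rcases three (τ txz) with e' | e' | e'
            · exact absurd (τ.injective (e'.trans hτz.symm)) n2
            · exact absurd (τ.injective (e'.trans e.symm)) n3
            · exact e'
        rw [hσ, this, mul_one]
      · refine ⟨c * cq, ?_⟩
        have : τ = φ cq := Equiv.ext fun t => by
          rcases three t with rfl | rfl | rfl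
          · rw [qz]; exact hτz
          · rw [qx]; exact e
          · rw [qxz]
            rcases three (τ txz) with e' | e' | e'
            · exact absurd (τ.injective (e'.trans hτz.symm)) n2
            · exact e'
            · exact absurd (τ.injective (e'.trans e.symm)) n3
        rw [hσ, this, map_mul]
    have hcardT : Nat.card T = 3 := by
      letI := Fintype.ofFinite G
      rw [Nat.card_eq_fintype_card, Fintype.card_subtype]
      have : (Finset.univ.filter fun a : G => a = z ∨ a = x ∨ a = x * z) = {z, x, x * z} := by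
        ext a; simp
      have h3 : ({z, x, x * z} : Finset G).card = 3 := Finset.card_eq_three.2 ⟨_, _, _, hxz.symm, hxz_z.symm, hxz_x.symm, rfl⟩
      rw [← h3, ← this]
    rw [Subgroup.relIndex, ← hker, Subgroup.index_ker, MonoidHom.range_eq_top.2 hsurj, Subgroup.card_top,
      Nat.card_perm, hcardT]
    rfl
  · refine large_of_commutes P hE hC hN X hset hxP Y.sq Y.ne hxz fun K hK hPK k hk hkx => ?_
    have h2 : k * z * k⁻¹ * z⁻¹ ∈ K := by
      rw [show k * z * k⁻¹ * z⁻¹ = k * (z * k⁻¹ * z⁻¹) by group]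
      exact mul_mem hk ((Subgroup.mem_normalizer_iff.1 (hPK hzP) _).1 (inv_mem hk))
    have h1 : k * z * k⁻¹ * z⁻¹ ∈ P.map (MulAut.conj g).toMonoidHom := by
      rw [← conjMap_eq (z := z) hNc g] at hsym ⊢
      exact mul_mem (M.conj_mem hkx hsym) (inv_mem hsym)
    obtain ⟨n, hn⟩ := (hE.1.1.map (MulAut.conj g).toMonoidHom) ⟨_, h1⟩
    have hn' : (k * z * k⁻¹ * z⁻¹) ^ 2 ^ n = 1 := congrArg Subtype.val hn
    have hd := Nat.dvd_gcd (orderOf_dvd_of_pow_eq_one hn') (Subgroup.orderOf_dvd_natCard K h2)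
    rw [Nat.Coprime.gcd_eq_one ((Nat.coprime_two_left.2 hK).pow_left n), Nat.dvd_one,
      orderOf_eq_one_iff, mul_inv_eq_one] at hd
    exact mul_inv_eq_iff_eq_mul.1 hd

end Cfsg.Agent.Spor.Large
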