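import Cfsg.Prelude.Def_SporadicB
import Mathlib

/-!
Elementary facts about sets of 3-transpositions and about 2-central involutions.
-/

set_option autoImplicit false

namespace Cfsg.Agent.Spor

variable {G : Type*} [Group G]

theorem mul_self_of_order_two {d : G} (h : orderOf d = 2) : d * d = 1 := by
  have := pow_orderOf_eq_one d
  rwa [h, pow_two] at this

theorem inv_of_order_two {d : G} (h : orderOf d = 2) : d⁻¹ = d :=
  inv_eq_of_mul_eq_one_right (mul_self_of_order_two h)

/-- Two members of a set of 3-transpositions commute or satisfy the braid relation. -/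
theorem commute_or_braid {E : Set G} (hE : Cfsg.IsThreeTranspositionSet E) {d e : G}
    (hd : d ∈ E) (he : e ∈ E) : Commute d e ∨ d * e * d = e * d * e := by
  have hdd := mul_self_of_order_two (hE.1 d hd)
  have hee := mul_self_of_order_two (hE.1 e he)
  have hdi := inv_of_order_two (hE.1 d hd)
  have hei := inv_of_order_two (hE.1 e he)
  rcases hE.2 d hd e he with h | h
  · left
    rw [pow_two, mul_eq_one_iff_eq_inv, mul_inv_rev, hdi, hei] at h
    exact h
  · right
    rw [pow_succ, pow_two] at h
    have h' : (d * e * d) * (e * d * e) = 1 := by rw [← h]; group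
    rw [mul_eq_one_iff_eq_inv, mul_inv_rev, mul_inv_rev, hdi, hei] at h'
    simpa [mul_assoc] using h'

theorem commute_pair_iff {E : Set G} (hE : Cfsg.IsThreeTranspositionSet E) {a b e : G}
    (ha : a ∈ E) (hb : b ∈ E) (he : e ∈ E) (hab : a ≠ b) (hc : Commute a b) :
    Commute e (a * b) ↔ (Commute e a ∧ Commute e b) := by
  refine ⟨fun h => ?_, fun h => h.1.mul_right h.2⟩
  have haa := mul_self_of_order_two (hE.1 a ha)
  have hbb := mul_self_of_order_two (hE.1 b hb)
  have hee := mul_self_of_order_two (hE.1 e he)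
  rcases commute_or_braid hE he ha with h1 | h1
  · have h2 : Commute e (a * (a * b)) := h1.mul_right h
    rw [← mul_assoc, haa, one_mul] at h2
    exact ⟨h1, h2⟩
  rcases commute_or_braid hE he hb with h2 | h2
  · have h1' : Commute e (a * b * b) := h.mul_right h2
    rw [mul_assoc, hbb, mul_one] at h1'
    exact ⟨h1', h2⟩
  exfalso
  apply hab
  have key : a * b = 1 := calc
    a * b = e * e * (a * b) := by rw [hee, one_mul]
    _ = e * ((a * b) * e) := by rw [mul_assoc e e, ← h.eq]
    _ = e * (a * b) * e := (mul_assoc _ _ _).symm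
    _ = (e * a * e) * (e * b * e) := by
        simp only [mul_assoc]; rw [← mul_assoc e e, hee, one_mul]
    _ = a * (e * (a * b)) * (e * b) := by rw [h1, h2]; simp only [mul_assoc]
    _ = a * ((a * b) * e) * (e * b) := by rw [h.eq]
    _ = 1 := by
        simp only [mul_assoc]
        rw [← mul_assoc e e, hee, one_mul, hbb, mul_one, haa]
  calc a = a * (b * b) := by rw [hbb, mul_one]
    _ = b := by rw [← mul_assoc, key, one_mul]

theorem triple_step {E : Set G} (hE : Cfsg.IsThreeTranspositionSet E) {a b c e : G}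
    (ha : a ∈ E) (hb : b ∈ E) (hc : c ∈ E) (he : e ∈ E) (h₁ : Commute a b) (h₃ : Commute b c)
    (na : ¬ Commute e a) (nb : ¬ Commute e b) (nc : ¬ Commute e c)
    (h : Commute e (a * b * c)) : e * c = a * e := by
  have haa := mul_self_of_order_two (hE.1 a ha)
  have hbb := mul_self_of_order_two (hE.1 b hb)
  have hcc := mul_self_of_order_two (hE.1 c hc)
  have hee := mul_self_of_order_two (hE.1 e he)
  have h1 := (commute_or_braid hE he ha).resolve_left na
  have h2 := (commute_or_braid hE he hb).resolve_left nb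
  have h3 := (commute_or_braid hE he hc).resolve_left nc
  have key : a * b * c = a * (e * (a * b) * e * (b * c) * e) * c := calc
    a * b * c = e * e * (a * b * c) := by rw [hee, one_mul]
    _ = e * ((a * b * c) * e) := by rw [mul_assoc e e, ← h.eq]
    _ = e * (a * b * c) * e := (mul_assoc _ _ _).symm
    _ = (e * a * e) * (e * b * e) * (e * c * e) := by
        simp only [mul_assoc]
        rw [← mul_assoc e e, hee, one_mul, ← mul_assoc e e, hee, one_mul]
    _ = _ := by rw [h1, h2, h3]; simp only [mul_assoc]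
  have k2 : b = e * (a * b) * e * (b * c) * e := by
    have := mul_right_cancel key
    exact mul_left_cancel this
  have k3 : b * e * b = a * b * (e * (b * c)) := by
    rw [← h2]
    conv_lhs => rw [k2]
    simp only [mul_assoc]
    rw [← mul_assoc e e, hee, one_mul, mul_one]
  have k4 : e * b = a * (e * (b * c)) := by
    have : b * (e * b) = b * (a * (e * (b * c))) := by
      rw [← mul_assoc, k3, h₁.eq, mul_assoc]
    exact mul_left_cancel this
  rw [h₃.eq] at k4
  have : e * b = a * e * c * b := by rw [k4]; simp only [mul_assoc]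
  have k5 : e = a * e * c := mul_right_cancel this
  calc e * c = a * e * c * c := by rw [← k5]
    _ = a * e := by rw [mul_assoc, hcc, mul_one]

theorem commute_triple_iff {E : Set G} (hE : Cfsg.IsThreeTranspositionSet E) {a b c e : G}
    (ha : a ∈ E) (hb : b ∈ E) (hc : c ∈ E) (he : e ∈ E) (hab : a ≠ b) (hac : a ≠ c) (hbc : b ≠ c)
    (h₁ : Commute a b) (h₂ : Commute a c) (h₃ : Commute b c) :
    Commute e (a * b * c) ↔ (Commute e a ∧ Commute e b ∧ Commute e c) := by
  refine ⟨fun h => ?_, fun h => (h.1.mul_right h.2.1).mul_right h.2.2⟩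
  have haa := mul_self_of_order_two (hE.1 a ha)
  have hbb := mul_self_of_order_two (hE.1 b hb)
  have hcc := mul_self_of_order_two (hE.1 c hc)
  by_cases na : Commute e a
  · have h' : Commute e (a * (a * b * c)) := na.mul_right h
    rw [← mul_assoc, ← mul_assoc, haa, one_mul] at h'
    exact ⟨na, (commute_pair_iff hE hb hc he hbc h₃).1 h'⟩
  by_cases nc : Commute e c
  · have h' : Commute e (a * b * c * c) := h.mul_right nc
    rw [mul_assoc (a * b), hcc, mul_one] at h'
    obtain ⟨u, v⟩ := (commute_pair_iff hE ha hb he hab h₁).1 h'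
    exact ⟨u, v, nc⟩
  by_cases nb : Commute e b
  · have h' : Commute e (a * b * c * b) := h.mul_right nb
    rw [mul_assoc (a * b), ← h₃.eq, ← mul_assoc, mul_assoc a, hbb, mul_one] at h'
    obtain ⟨u, v⟩ := (commute_pair_iff hE ha hc he hac h₂).1 h'
    exact ⟨u, nb, v⟩
  exfalso
  have e1 := triple_step hE ha hb hc he h₁ h₃ na nb nc h
  have h' : Commute e (a * c * b) := by
    rwa [mul_assoc, ← h₃.eq, ← mul_assoc]
  have e2 := triple_step hE ha hc hb he h₂ h₃.symm na nc nb h'
  exact hbc (mul_left_cancel (e2.trans e1.symm))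

/-- An element of order 2 centralised by a Sylow 2-subgroup lies in it. -/
theorem mem_of_centralizes_sylow [Finite G] {t : G} (ht : orderOf t = 2) (P : Sylow 2 G)
    (hP : (P : Subgroup G) ≤ Subgroup.centralizer ({t} : Set G)) : t ∈ P := by
  have h2 : IsPGroup 2 (Subgroup.zpowers t) :=
    IsPGroup.of_card (n := 1) (by rw [Nat.card_zpowers, ht]; norm_num)
  have hmem : t ∈ Subgroup.normalizer (P : Set G) := by
    apply Subgroup.centralizer_le_normalizer
    rw [Subgroup.mem_centralizer_iff]
    intro x hx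
    exact (Subgroup.mem_centralizer_singleton_iff.1 (hP hx))
  have hz : Subgroup.zpowers t ≤ Subgroup.normalizer (P : Set G) :=
    Subgroup.zpowers_le.2 hmem
  have := h2.inf_normalizer_sylow P
  rw [inf_eq_left.2 hz] at this
  have h3 : Subgroup.zpowers t ≤ (P : Subgroup G) := inf_eq_left.1 this.symm
  exact h3 (Subgroup.mem_zpowers t)

theorem twoCentral_iff [Finite G] {t : G} (ht : orderOf t = 2) :
    Cfsg.IsTwoCentralInvolution t ↔
      ∃ P : Sylow 2 G, (P : Subgroup G) ≤ Subgroup.centralizer ({t} : Set G) := by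
  constructor
  · rintro ⟨-, P, -, hP⟩
    exact ⟨P, fun x hx => Subgroup.mem_centralizer_singleton_iff.2 (hP x hx)⟩
  · rintro ⟨P, hP⟩
    exact ⟨ht, P, mem_of_centralizes_sylow ht P hP,
      fun x hx => Subgroup.mem_centralizer_singleton_iff.1 (hP hx)⟩

theorem exists_twoCentral [Finite G] (h : Even (Nat.card G)) :
    ∃ t : G, Cfsg.IsTwoCentralInvolution t := by
  haveI : Fact (Nat.Prime 2) := ⟨Nat.prime_two⟩
  obtain ⟨P⟩ : Nonempty (Sylow 2 G) := inferInstance
  have hne : Nontrivial (P : Subgroup G) := by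
    have h2 : 2 ∣ Nat.card (P : Subgroup G) := P.dvd_card_of_dvd_card (even_iff_two_dvd.1 h)
    rw [← Finite.one_lt_card_iff_nontrivial]
    have : 0 < Nat.card (P : Subgroup G) := Nat.card_pos
    omega
  haveI := hne
  have hP : IsPGroup 2 (P : Subgroup G) := P.isPGroup'
  haveI := hP.center_nontrivial
  obtain ⟨n, hn0, hn⟩ := (hP.to_subgroup (Subgroup.center _)).nontrivial_iff_card.1 inferInstance
  have h2 : 2 ∣ Nat.card (Subgroup.center (P : Subgroup G)) := by
    rw [hn]; exact dvd_pow_self 2 (by omega)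
  obtain ⟨x, hx⟩ := exists_prime_orderOf_dvd_card' 2 h2
  refine ⟨((x : (P : Subgroup G)) : G), ?_, P, (x : (P : Subgroup G)).2, fun y hy => ?_⟩
  · rw [Subgroup.orderOf_coe, Subgroup.orderOf_coe, hx]
  · exact congrArg Subtype.val (Subgroup.mem_center_iff.1 x.2 ⟨y, hy⟩)

/-- Squares of a 2-subgroup are not needed: a large subgroup with centre of order two pins down
the 2-central involutions. -/
theorem large_two_central [Finite G] {z : G} (hz : orderOf z = 2) (Q : Subgroup G)
    (hQC : Q ≤ Subgroup.centralizer ({z} : Set G)) (hQ2 : IsPGroup 2 Q)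
    (hZ : Nat.card (Subgroup.center Q) = 2) (hlarge : Subgroup.centralizer (Q : Set G) ≤ Q) :
    (∃ P : Sylow 2 G, (P : Subgroup G) ≤ Subgroup.centralizer ({z} : Set G)) ∧
      ∀ u : G, orderOf u = 2 →
        (∃ P : Sylow 2 G, (P : Subgroup G) ≤ Subgroup.centralizer ({u} : Set G)) → IsConj z u := by
  haveI : Fact (Nat.Prime 2) := ⟨Nat.prime_two⟩
  have hzC : z ∈ Subgroup.centralizer (Q : Set G) := by
    rw [Subgroup.mem_centralizer_iff]
    intro q hq
    exact Subgroup.mem_centralizer_singleton_iff.1 (hQC hq)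
  -- anything outside centralising Q is 1 or z
  have key : ∀ v : G, v ∈ Subgroup.centralizer (Q : Set G) → v ≠ 1 → v = z := by
    intro v hv hv1
    have memc : ∀ w, (hw : w ∈ Subgroup.centralizer (Q : Set G)) →
        (⟨w, hlarge hw⟩ : Q) ∈ Subgroup.center Q := by
      intro w hw
      rw [Subgroup.mem_center_iff]
      intro q
      exact Subtype.ext (Subgroup.mem_centralizer_iff.1 hw q q.2)
    have hz1 : z ≠ 1 := by rintro rfl; simp at hz
    obtain ⟨y, -, hy⟩ := (Nat.card_eq_two_iff' (1 : Subgroup.center Q)).1 hZ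
    have e1 := hy ⟨_, memc v hv⟩
      (fun h => hv1 (congrArg (fun x : Subgroup.center Q => ((x : Q) : G)) h))
    have e2 := hy ⟨_, memc z hzC⟩
      (fun h => hz1 (congrArg (fun x : Subgroup.center Q => ((x : Q) : G)) h))
    exact congrArg (fun x : Subgroup.center Q => ((x : Q) : G)) (e1.trans e2.symm)
  have central : ∀ S : Sylow 2 G, Q ≤ (S : Subgroup G) →
      (S : Subgroup G) ≤ Subgroup.centralizer ({z} : Set G) := by
    intro S hS
    have hz1 : z ≠ 1 := by rintro rfl; simp at hz
    have hne : Nontrivial (S : Subgroup G) :=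
      ⟨⟨⟨z, hS (hlarge hzC)⟩, 1, fun h => hz1 (congrArg Subtype.val h)⟩⟩
    have hS2 : IsPGroup 2 (S : Subgroup G) := S.isPGroup'
    haveI := hne
    haveI := hS2.center_nontrivial
    obtain ⟨v, hv⟩ := exists_ne (1 : Subgroup.center (S : Subgroup G))
    have hvc : ∀ y ∈ (S : Subgroup G), y * ((v : (S : Subgroup G)) : G)
        = ((v : (S : Subgroup G)) : G) * y := fun y hy =>
      congrArg Subtype.val (Subgroup.mem_center_iff.1 v.2 ⟨y, hy⟩)
    have hvQ : ((v : (S : Subgroup G)) : G) ∈ Subgroup.centralizer (Q : Set G) :=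
      Subgroup.mem_centralizer_iff.2 fun q hq => hvc q (hS hq)
    have := key _ hvQ (fun h => hv (Subtype.ext (Subtype.ext h)))
    intro y hy
    rw [Subgroup.mem_centralizer_singleton_iff, ← this]
    exact hvc y hy
  obtain ⟨S, hS⟩ := hQ2.exists_le_sylow
  refine ⟨⟨S, central S hS⟩, fun u hu ⟨P, hP⟩ => ?_⟩
  obtain ⟨g, hg⟩ := MulAction.exists_smul_eq G P S
  have huS : ∀ y ∈ (S : Subgroup G), y * (g * u * g⁻¹) = (g * u * g⁻¹) * y := by
    intro y hy
    have : g⁻¹ * y * g ∈ (P : Subgroup G) := by
      rw [← hg, Sylow.coe_subgroup_smul, Subgroup.mem_pointwise_smul_iff_inv_smul_mem] at hy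
      simpa [MulAut.smul_def] using hy
    have h := Subgroup.mem_centralizer_singleton_iff.1 (hP this)
    calc y * (g * u * g⁻¹) = g * (g⁻¹ * y * g * u) * g⁻¹ := by group
      _ = g * (u * (g⁻¹ * y * g)) * g⁻¹ := by rw [h]
      _ = _ := by group
  have hu' : g * u * g⁻¹ = z := by
    apply key
    · exact Subgroup.mem_centralizer_iff.2 fun q hq => huS q (hS hq)
    · intro h
      have : u = 1 := by rw [mul_inv_eq_one] at h; simpa using h
      subst this; simp at hu
  rw [isConj_iff]
  exact ⟨g⁻¹, by rw [← hu']; group⟩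

end Cfsg.Agent.Spor
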