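import Cfsg.Agent.Lib.Spor.ThreeWidth

/-!
The relations "commutes with the same members" and "commutes with the same other members" on a class of
3-transpositions, and the largest normal 2- and 3-subgroups.
-/

set_option autoImplicit false

open scoped Pointwise

namespace Cfsg.Agent.Spor

variable {G : Type*} [Group G]

/-- commuting with exactly the same members -/
def SameV (D : Set G) (a b : G) : Prop := ∀ e ∈ D, Commute a e ↔ Commute b e

/-- having the same other commuting members -/
def SameW (D : Set G) (a b : G) : Prop :=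
  ∀ y ∈ D, (y ≠ a ∧ Commute a y) ↔ (y ≠ b ∧ Commute b y)

theorem SameV.symm {D : Set G} {a b : G} (h : SameV D a b) : SameV D b a := fun e he => (h e he).symm

theorem SameV.trans {D : Set G} {a b c : G} (h : SameV D a b) (h' : SameV D b c) : SameV D a c :=
  fun e he => (h e he).trans (h' e he)

theorem SameW.refl (D : Set G) (a : G) : SameW D a a := fun _ _ => Iff.rfl

theorem SameW.symm {D : Set G} {a b : G} (h : SameW D a b) : SameW D b a := fun e he => (h e he).symm

theorem SameW.trans {D : Set G} {a b c : G} (h : SameW D a b) (h' : SameW D b c) : SameW D a c :=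
  fun e he => (h e he).trans (h' e he)

theorem commute_conj_iff {g a b : G} : Commute (g * a * g⁻¹) (g * b * g⁻¹) ↔ Commute a b :=
  (Commute.conj_iff g)

theorem conj_mem_iff {D : Set G} (hconj : ∀ g : G, ∀ d ∈ D, g * d * g⁻¹ ∈ D) (g : G) {y : G} :
    y ∈ D ↔ g⁻¹ * y * g ∈ D := by
  refine ⟨fun h => by have := hconj g⁻¹ y h; rwa [inv_inv] at this, fun h => ?_⟩
  have := hconj g _ h
  rwa [show g * (g⁻¹ * y * g) * g⁻¹ = y by group] at this

theorem SameV.conj {D : Set G} (hconj : ∀ g : G, ∀ d ∈ D, g * d * g⁻¹ ∈ D) {a b : G}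
    (h : SameV D a b) (g : G) : SameV D (g * a * g⁻¹) (g * b * g⁻¹) := by
  intro e he
  have key : e = g * (g⁻¹ * e * g) * g⁻¹ := by group
  rw [key, commute_conj_iff, commute_conj_iff]
  exact h _ ((conj_mem_iff hconj g).1 he)

theorem SameW.conj {D : Set G} (hconj : ∀ g : G, ∀ d ∈ D, g * d * g⁻¹ ∈ D) {a b : G}
    (h : SameW D a b) (g : G) : SameW D (g * a * g⁻¹) (g * b * g⁻¹) := by
  intro e he
  have key : e = g * (g⁻¹ * e * g) * g⁻¹ := by group
  rw [key, commute_conj_iff, commute_conj_iff, ne_eq, ne_eq, mul_left_inj, mul_right_inj, mul_left_inj,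
    mul_right_inj]
  exact h _ ((conj_mem_iff hconj g).1 he)

theorem SameV.commute {D : Set G} {a b : G} (h : SameV D a b) (ha : a ∈ D) : Commute a b :=
  ((h a ha).1 (Commute.refl a)).symm

theorem SameW.not_commute {D : Set G} {a b : G} (h : SameW D a b) (hb : b ∈ D) (hne : a ≠ b) :
    ¬ Commute a b := fun hc => ((h b hb).1 ⟨fun e => hne e.symm, hc⟩).1 rfl

/-- involutions whose product has 2-power order generate a 2-group -/
theorem invol_pair_pgroup [Finite G] {u w : G} (hu : u * u = 1) (hw : w * w = 1) {k : ℕ}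
    (h : (u * w) ^ 2 ^ k = 1) : IsPGroup 2 (Subgroup.zpowers u ⊔ Subgroup.zpowers w : Subgroup G) := by
  haveI : Fact (Nat.Prime 2) := ⟨Nat.prime_two⟩
  obtain ⟨j, -, hj⟩ := (Nat.dvd_prime_pow Nat.prime_two).1 (orderOf_dvd_of_pow_eq_one h)
  have hS : IsPGroup 2 (Subgroup.zpowers (u * w)) := IsPGroup.of_card (by rw [Nat.card_zpowers, hj])
  have hu2 : u ^ 2 ^ 1 = 1 := by rw [pow_one, pow_two, hu]
  obtain ⟨i, -, hi⟩ := (Nat.dvd_prime_pow Nat.prime_two).1 (orderOf_dvd_of_pow_eq_one hu2)
  have hT : IsPGroup 2 (Subgroup.zpowers u) := IsPGroup.of_card (by rw [Nat.card_zpowers, hi])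
  have hN : Subgroup.zpowers u ≤ Subgroup.normalizer (Subgroup.zpowers (u * w) : Set G) := by
    rw [Subgroup.zpowers_le, Subgroup.mem_normalizer_iff]
    have hui : u⁻¹ = u := inv_eq_of_mul_eq_one_right hu
    have hwi : w⁻¹ = w := inv_eq_of_mul_eq_one_right hw
    have hin : u * (u * w) * u⁻¹ = (u * w)⁻¹ := by
      rw [mul_inv_rev, hui, hwi, ← mul_assoc u u w, hu, one_mul]
    intro h
    rw [Subgroup.mem_zpowers_iff, Subgroup.mem_zpowers_iff]
    constructor
    · rintro ⟨n, rfl⟩
      exact ⟨-n, by rw [← conj_zpow, hin, inv_zpow, zpow_neg]⟩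
    · rintro ⟨n, hn⟩
      refine ⟨-n, ?_⟩
      have h2 : h = u⁻¹ * (u * w) ^ n * u := by rw [hn]; group
      rw [h2]
      calc (u * w) ^ (-n) = u⁻¹ * (u * (u * w) ^ (-n) * u⁻¹) * u := by group
        _ = u⁻¹ * (u * w) ^ n * u := by rw [← conj_zpow, hin, inv_zpow, zpow_neg, inv_inv]
  refine (IsPGroup.to_sup_of_normal_right' hT hS hN).to_le (sup_le le_sup_left ?_)
  rw [Subgroup.zpowers_le]
  have e : w = u * (u * w) := by rw [← mul_assoc, hu, one_mul]
  have h2 := Subgroup.mul_mem_sup (Subgroup.mem_zpowers u) (Subgroup.mem_zpowers (u * w))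
  rwa [← e] at h2

/-- crossing pairs: `w a w` commutes with `a` -/
theorem cross_commute {D : Set G} (hD : Cfsg.IsThreeTranspositionSet D) {a c e : G}
    (ha : a ∈ D) (hc : c ∈ D) (he : e ∈ D) (hce : Commute c e) (hac : ¬ Commute a c)
    (hae : ¬ Commute a e) : Commute a (c * e * a * (c * e)) := by
  have haa := mul_self_of_order_two (hD.1 a ha)
  have hcc := mul_self_of_order_two (hD.1 c hc)
  have hb1 : e * a * e = a * e * a := (braid_of_not hD ha he hae).symm
  have hb2 : a * c * a = c * a * c := braid_of_not hD ha hc hac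
  have e1 : c * e * a * (c * e) = c * a * e * a * c := by
    calc c * e * a * (c * e) = c * e * a * (e * c) := by rw [hce.eq]
      _ = c * (e * a * e) * c := by simp only [mul_assoc]
      _ = _ := by rw [hb1]; simp only [mul_assoc]
  have e2 : a * (c * e * a * (c * e)) * a = c * e * a * (c * e) := by
    rw [e1]
    calc a * (c * a * e * a * c) * a = (a * c * a) * e * (a * c * a) := by simp only [mul_assoc]
      _ = (c * a * c) * e * (c * a * c) := by rw [hb2]
      _ = c * a * (c * e * c) * a * c := by simp only [mul_assoc]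
      _ = c * a * e * a * c := by rw [hce.eq, mul_assoc e c c, hcc, mul_one]
  calc a * (c * e * a * (c * e)) = a * (c * e * a * (c * e)) * (a * a) := by rw [haa, mul_one]
    _ = (a * (c * e * a * (c * e)) * a) * a := by simp only [mul_assoc]
    _ = (c * e * a * (c * e)) * a := by rw [e2]

theorem cross_pow_four {D : Set G} (hD : Cfsg.IsThreeTranspositionGroup D) {a b c e : G}
    (ha : a ∈ D) (hb : b ∈ D) (hc : c ∈ D) (he : e ∈ D) (hab : SameV D a b) (hce : Commute c e)
    (hac : ¬ Commute a c) (hae : ¬ Commute a e) : (a * b * (c * e)) ^ 4 = 1 := by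
  obtain ⟨hset, hconj, -⟩ := hD
  have haa := mul_self_of_order_two (hset.1 a ha)
  have hbb := mul_self_of_order_two (hset.1 b hb)
  have hww : c * e * (c * e) = 1 := by
    calc c * e * (c * e) = c * (e * c) * e := by simp only [mul_assoc]
      _ = c * c * (e * e) := by rw [← hce.eq]; simp only [mul_assoc]
      _ = 1 := by rw [mul_self_of_order_two (hset.1 c hc), mul_self_of_order_two (hset.1 e he), one_mul]
  have hbc : ¬ Commute b c := fun h => hac ((hab c hc).2 h)
  have hbe : ¬ Commute b e := fun h => hae ((hab e he).2 h)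
  set w := c * e with hw
  have hwi : w⁻¹ = w := inv_eq_of_mul_eq_one_right hww
  have hmem : ∀ x ∈ D, w * x * w ∈ D := fun x hx => by
    have := hconj w x hx; rwa [hwi] at this
  have h1 : Commute a (w * a * w) := cross_commute hset ha hc he hce hac hae
  have h2 : Commute b (w * b * w) := cross_commute hset hb hc he hce hbc hbe
  have h3 : Commute b (w * a * w) := (hab _ (hmem a ha)).1 h1
  have h4 : Commute a (w * b * w) := (hab _ (hmem b hb)).2 h2
  have hcomm : Commute (a * b) ((w * a * w) * (w * b * w)) :=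
    (h1.mul_right h4).mul_left (h3.mul_right h2)
  have hab' := hab.commute ha
  have hu2 : a * b * (a * b) = 1 := by
    calc a * b * (a * b) = a * (b * a) * b := by simp only [mul_assoc]
      _ = (a * a) * (b * b) := by rw [← hab'.eq]; simp only [mul_assoc]
      _ = 1 := by rw [haa, hbb, one_mul]
  have e1 : (w * a * w) * (w * b * w) = w * (a * b) * w := by
    calc (w * a * w) * (w * b * w) = w * a * (w * w) * b * w := by simp only [mul_assoc]
      _ = w * (a * b) * w := by rw [hww]; simp only [mul_one, mul_assoc]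
  rw [e1] at hcomm
  set u := a * b
  have hu' : w * u * w * (w * u * w) = 1 := by
    calc w * u * w * (w * u * w) = w * (u * (w * w) * u) * w := by simp only [mul_assoc]
      _ = 1 := by rw [hww, mul_one, hu2, mul_one, hww]
  calc (u * w) ^ 4 = (u * (w * u * w)) ^ 2 := by simp only [pow_succ, pow_zero, one_mul, mul_assoc]
    _ = u * u * (w * u * w * (w * u * w)) := by
      rw [pow_two]
      calc u * (w * u * w) * (u * (w * u * w)) = u * ((w * u * w) * u) * (w * u * w) := by
            simp only [mul_assoc]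
        _ = u * (u * (w * u * w)) * (w * u * w) := by rw [hcomm.eq]
        _ = _ := by simp only [mul_assoc]
    _ = 1 := by rw [hu2, hu', one_mul]

theorem SameV.mul_mem_core [Finite G] {D : Set G} (hD : Cfsg.IsThreeTranspositionGroup D) {a b : G}
    (ha : a ∈ D) (hb : b ∈ D) (hab : SameV D a b) : a * b ∈ Cfsg.pCore 2 G := by
  haveI : Fact (Nat.Prime 2) := ⟨Nat.prime_two⟩
  obtain ⟨hset, hconj, hgen⟩ := hD
  have habc := hab.commute ha
  have haa := mul_self_of_order_two (hset.1 a ha)
  have hbb := mul_self_of_order_two (hset.1 b hb)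
  have hu : a * b * (a * b) = 1 := by
    calc a * b * (a * b) = a * (b * a) * b := by simp only [mul_assoc]
      _ = (a * a) * (b * b) := by rw [← habc.eq]; simp only [mul_assoc]
      _ = 1 := by rw [haa, hbb, one_mul]
  refine Solv.baer_suzuki (Subgroup.zpowers (a * b)) (fun g => ?_) (Subgroup.mem_zpowers _)
  have e : MulAut.conj g • Subgroup.zpowers (a * b) = Subgroup.zpowers (g * (a * b) * g⁻¹) := by
    show (Subgroup.zpowers (a * b)).map (MulAut.conj g).toMonoidHom = _
    rw [MonoidHom.map_zpowers]; rfl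
  rw [e]
  set c := g * a * g⁻¹ with hc
  set e' := g * b * g⁻¹ with he
  have hcD : c ∈ D := hconj g a ha
  have heD : e' ∈ D := hconj g b hb
  have hce : SameV D c e' := hab.conj hconj g
  have hce' := hce.commute hcD
  have hw : g * (a * b) * g⁻¹ = c * e' := by rw [hc, he]; group
  rw [hw]
  have hww : c * e' * (c * e') = 1 := by
    rw [← hw]
    calc g * (a * b) * g⁻¹ * (g * (a * b) * g⁻¹) = g * (a * b * (a * b)) * g⁻¹ := by group
      _ = 1 := by rw [hu]; group
  refine invol_pair_pgroup hu hww (k := 2) ?_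
  show (a * b * (c * e')) ^ 4 = 1
  by_cases hac : Commute a c
  · have hbc : Commute b c := (hab c hcD).1 hac
    have hae : Commute a e' := ((hce a ha).1 hac.symm).symm
    have hbe : Commute b e' := (hab e' heD).1 hae
    have h : Commute (a * b) (c * e') := (hac.mul_right hae).mul_left (hbc.mul_right hbe)
    rw [h.mul_pow, show 4 = 2 * 2 from rfl, pow_mul, pow_mul, pow_two (a * b), pow_two (c * e'), hu,
      hww, one_pow, one_mul]
  · have hae : ¬ Commute a e' := fun h => hac ((hce a ha).2 h.symm).symm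
    exact cross_pow_four ⟨hset, hconj, hgen⟩ ha hb hcD heD hab hce' hac hae

theorem commute_of_mul_mem_two [Finite G] {D : Set G} (hD : Cfsg.IsThreeTranspositionSet D) {x y : G}
    (hx : x ∈ D) (hy : y ∈ D) (h : x * y ∈ Cfsg.pCore 2 G) : Commute x y := by
  haveI : Fact (Nat.Prime 2) := ⟨Nat.prime_two⟩
  rcases hD.2 x hx y hy with h2 | h3
  · rw [pow_two, mul_eq_one_iff_eq_inv, mul_inv_rev, inv_of_order_two (hD.1 x hx),
      inv_of_order_two (hD.1 y hy)] at h2
    exact h2
  · have := eq_one_of_pow_three_pgroup (Solv.pCore_isPGroup 2) h h3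
    rw [mul_eq_one_iff_eq_inv, inv_of_order_two (hD.1 y hy)] at this
    rw [this]

theorem pow_two_of_commute {x y : G} (hx : x * x = 1) (hy : y * y = 1) (h : Commute x y) :
    (x * y) ^ 2 = 1 := by
  rw [h.mul_pow, pow_two, pow_two, hx, hy, one_mul]

theorem sameV_of_mul_mem [Finite G] {D : Set G} (hD : Cfsg.IsThreeTranspositionSet D) {d v : G}
    (hd : d ∈ D) (hv : v ∈ D) (h : d * v ∈ Cfsg.pCore 2 G) : SameV D d v := by
  have key : ∀ x y : G, x ∈ D → y ∈ D → x * y ∈ Cfsg.pCore 2 G → ∀ e ∈ D, Commute x e → Commute y e := by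
    intro x y hx hy hxy e he hxe
    by_contra hye
    rcases hD.2 e he y hy with h2 | h3
    · apply hye
      rw [pow_two, mul_eq_one_iff_eq_inv, mul_inv_rev, inv_of_order_two (hD.1 e he),
        inv_of_order_two (hD.1 y hy)] at h2
      exact (Commute.symm h2)
    · haveI := Solv.pCore_normal (G := G) 2
      set π := QuotientGroup.mk' (Cfsg.pCore 2 G)
      have hq : π y = π x := by
        have h1 : π (x * y) = 1 := (QuotientGroup.eq_one_iff _).2 hxy
        rw [map_mul, mul_eq_one_iff_inv_eq] at h1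
        rw [← h1, ← map_inv, inv_of_order_two (hD.1 x hx)]
      have h22 : (π e * π y) ^ 2 = 1 := by
        rw [hq]
        refine pow_two_of_commute ?_ ?_ ((hxe.symm).map π)
        · rw [← map_mul, mul_self_of_order_two (hD.1 e he), map_one]
        · rw [← map_mul, mul_self_of_order_two (hD.1 x hx), map_one]
      have h33 : (π e * π y) ^ 3 = 1 := by rw [← map_mul, ← map_pow, h3, map_one]
      have h11 : π (e * y) = 1 := by
        rw [map_mul]
        rw [pow_succ, h22, one_mul] at h33
        exact h33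
      exact hye (commute_of_mul_mem_two hD he hy ((QuotientGroup.eq_one_iff _).1 h11)).symm
  have h' : v * d ∈ Cfsg.pCore 2 G := by
    have := inv_mem h
    rwa [mul_inv_rev, inv_of_order_two (hD.1 d hd), inv_of_order_two (hD.1 v hv)] at this
  exact fun e he => ⟨key d v hd hv h e he, key v d hv hd h' e he⟩

theorem sameV_iff_core [Finite G] {D : Set G} (hD : Cfsg.IsThreeTranspositionGroup D) {d v : G}
    (hd : d ∈ D) (hv : v ∈ D) : SameV D d v ↔ d * v ∈ Cfsg.pCore 2 G :=
  ⟨SameV.mul_mem_core hD hd hv, sameV_of_mul_mem hD.1 hd hv⟩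

/-! ### the second relation -/

theorem third_eq {D : Set G} (hD : Cfsg.IsThreeTranspositionSet D) {a c : G} (ha : a ∈ D) (hc : c ∈ D)
    (h : ¬ Commute a c) : a * (a * c * a) * a = c ∧ c * (a * c * a) * c = a := by
  have haa := mul_self_of_order_two (hD.1 a ha)
  have hcc := mul_self_of_order_two (hD.1 c hc)
  refine ⟨?_, ?_⟩
  · calc a * (a * c * a) * a = (a * a) * c * (a * a) := by simp only [mul_assoc]
      _ = c := by rw [haa, one_mul, mul_one]
  · rw [braid_of_not hD ha hc h]
    calc c * (c * a * c) * c = (c * c) * a * (c * c) := by simp only [mul_assoc]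
      _ = a := by rw [hcc, one_mul, mul_one]

/-- members related to `a` and to `c` -/
theorem tri_conj {D : Set G} (hD : Cfsg.IsThreeTranspositionGroup D) {a c x y : G} (ha : a ∈ D)
    (hc : c ∈ D) (hx : x ∈ D) (hxa : SameW D x a) (hyc : SameW D y c)
    (hac : ¬ Commute a c) (hnac : ¬ SameW D a c) : SameW D (x * y * x) (a * c * a) := by
  obtain ⟨hset, hconj, -⟩ := hD
  have h1 : SameW D (x * y * x) (x * c * x) := by
    have := hyc.conj hconj x
    rwa [inv_of_order_two (hset.1 x hx)] at this
  have hxc : ¬ Commute x c := fun h => by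
    have hne : c ≠ x := fun e => hnac (e ▸ hxa.symm)
    exact hac ((hxa c hc).1 ⟨hne, h⟩).2
  have h2 : SameW D (c * x * c) (c * a * c) := by
    have := hxa.conj hconj c
    rwa [inv_of_order_two (hset.1 c hc)] at this
  rw [← braid_of_not hset hx hc hxc, ← braid_of_not hset ha hc hac] at h2
  exact h1.trans h2

theorem SameW.mul_mem_core [Finite G] {D : Set G} (hD : Cfsg.IsThreeTranspositionGroup D) {a b : G}
    (ha : a ∈ D) (hb : b ∈ D) (hab : SameW D a b) : a * b ∈ Cfsg.pCore 3 G := by
  haveI : Fact (Nat.Prime 3) := ⟨Nat.prime_three⟩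
  have hD' := hD
  obtain ⟨hset, hconj, -⟩ := hD
  have haa := mul_self_of_order_two (hset.1 a ha)
  have hbb := mul_self_of_order_two (hset.1 b hb)
  have cW : ∀ {p q : G}, SameW D p q → ∀ x ∈ D, SameW D (x * p * x) (x * q * x) := fun h x hx => by
    have := h.conj hconj x
    rwa [inv_of_order_two (hset.1 x hx)] at this
  have self : ∀ x ∈ D, x * x * x = x := fun x hx => by rw [mul_self_of_order_two (hset.1 x hx), one_mul]
  refine Solv.baer_suzuki (Subgroup.zpowers (a * b)) (fun g => ?_) (Subgroup.mem_zpowers _)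
  have e : MulAut.conj g • Subgroup.zpowers (a * b) = Subgroup.zpowers (g * (a * b) * g⁻¹) := by
    show (Subgroup.zpowers (a * b)).map (MulAut.conj g).toMonoidHom = _
    rw [MonoidHom.map_zpowers]; rfl
  rw [e]
  set c := g * a * g⁻¹ with hc
  set e' := g * b * g⁻¹ with he
  have hcD : c ∈ D := hconj g a ha
  have heD : e' ∈ D := hconj g b hb
  have hce : SameW D c e' := hab.conj hconj g
  have hw : g * (a * b) * g⁻¹ = c * e' := by rw [hc, he]; group
  rw [hw]
  by_cases hcomm : a ≠ c ∧ Commute a c
  · obtain ⟨hne, hac⟩ := hcomm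
    have hbc : Commute b c := ((hab c hcD).1 ⟨fun h => hne h.symm, hac⟩).2
    have h1 := (hce a ha).1 ⟨hne, hac.symm⟩
    have hbe : Commute b e' := ((hab e' heD).1 ⟨fun h => h1.1 h.symm, h1.2.symm⟩).2
    have h : Commute (a * b) (c * e') := (hac.mul_right h1.2.symm).mul_left (hbc.mul_right hbe)
    have cube : ∀ p q : G, p ∈ D → q ∈ D → SameW D p q → IsPGroup 3 (Subgroup.zpowers (p * q)) := by
      intro p q hp hq hpq
      have hcube : (p * q) ^ 3 = 1 := by
        by_cases heq : p = q
        · rw [heq, mul_self_of_order_two (hset.1 q hq), one_pow]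
        · rcases hset.2 p hp q hq with h2 | h3
          · exfalso
            rw [pow_two, mul_eq_one_iff_eq_inv, mul_inv_rev, inv_of_order_two (hset.1 p hp),
              inv_of_order_two (hset.1 q hq)] at h2
            exact hpq.not_commute hq heq h2
          · exact h3
      obtain ⟨j, -, hj⟩ := (Nat.dvd_prime_pow Nat.prime_three).1
        (orderOf_dvd_of_pow_eq_one (show (p * q) ^ 3 ^ 1 = 1 by rwa [pow_one]))
      exact IsPGroup.of_card (by rw [Nat.card_zpowers, hj])
    refine IsPGroup.to_sup_of_normal_right' (cube a b ha hb hab) (cube c e' hcD heD hce) ?_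
    rw [Subgroup.zpowers_le, Subgroup.mem_normalizer_iff]
    intro x
    constructor
    · intro hx
      obtain ⟨n, rfl⟩ := Subgroup.mem_zpowers_iff.1 hx
      rw [(h.zpow_right n).eq, mul_inv_cancel_right]
      exact hx
    · intro hx
      obtain ⟨n, hn⟩ := Subgroup.mem_zpowers_iff.1 hx
      have : x = (c * e') ^ n := by
        have h2 := (h.zpow_right n).eq
        rw [hn] at h2
        calc x = (a * b)⁻¹ * ((a * b * x * (a * b)⁻¹) * (a * b)) := by group
          _ = (a * b)⁻¹ * (a * b * (a * b * x * (a * b)⁻¹)) := by rw [h2]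
          _ = (c * e') ^ n := by rw [hn]; group
      rw [this]; exact Subgroup.zpow_mem _ (Subgroup.mem_zpowers _) n
  · -- the classes of `a` and `c` lie in a set without commuting pairs
    have hsame : SameW D a c ∨ (¬ Commute a c ∧ ¬ SameW D a c) := by
      by_cases h : SameW D a c
      · exact Or.inl h
      · refine Or.inr ⟨fun hcm => hcomm ⟨fun e => h (e ▸ SameW.refl D a), hcm⟩, h⟩
    suffices H : ∃ X : Set G, X ⊆ D ∧ (∀ x ∈ X, ∀ y ∈ X, x * y * x ∈ X) ∧
        (∀ x ∈ X, ∀ y ∈ X, Commute x y → x = y) ∧ a ∈ X ∧ b ∈ X ∧ c ∈ X ∧ e' ∈ X by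
      obtain ⟨X, hXD, hX, h1, haX, hbX, hcX, heX⟩ := H
      obtain ⟨P, hP, hmem, -⟩ := local_width_one hset hXD hX h1
      exact hP.to_le (sup_le (Subgroup.zpowers_le.2 (hmem a haX b hbX))
        (Subgroup.zpowers_le.2 (hmem c hcX e' heX)))
    have same_nc : ∀ x y r : G, y ∈ D → SameW D x r → SameW D y r → Commute x y → x = y :=
      fun x y r hy hxr hyr h => by
        by_contra hne
        exact (hxr.trans hyr.symm).not_commute hy hne h
    rcases hsame with hsame | ⟨hac, hnac⟩
    · refine ⟨{x | x ∈ D ∧ SameW D x a}, fun x hx => hx.1, ?_, ?_, ⟨ha, SameW.refl D a⟩, ⟨hb, hab.symm⟩,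
        ⟨hcD, hsame.symm⟩, ⟨heD, (hsame.trans hce).symm⟩⟩
      · rintro x ⟨hx, hxa⟩ y ⟨hy, hya⟩
        have h1 := cW (hya.trans hxa.symm) x hx
        rw [self x hx] at h1
        exact ⟨conj_mem' hD' hx hy, h1.trans hxa⟩
      · rintro x ⟨hx, hxa⟩ y ⟨hy, hya⟩ h
        exact same_nc x y a hy hxa hya h
    · set z := a * c * a with hz
      have hzD : z ∈ D := conj_mem' hD' ha hcD
      obtain ⟨haz, hcz⟩ := third_eq hset ha hcD hac
      have hzc' : c * a * c = z := (braid_of_not hset ha hcD hac).symm
      have naz : ¬ Commute a z := fun h => hac (by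
        have h' : a * z * a = z := by
          rw [h.eq, mul_assoc, haa, mul_one]
        rw [haz] at h'
        rw [h']; exact h)
      have nzc : ¬ Commute z c := fun h => hac (by
        have h' : c * z * c = z := by
          rw [← h.eq, mul_assoc, mul_self_of_order_two (hset.1 c hcD), mul_one]
        rw [hcz] at h'
        rw [h']; exact h)
      have saz : ¬ SameW D a z := fun h => by
        have := cW h a ha
        rw [self a ha, haz] at this
        exact hnac this
      have szc : ¬ SameW D z c := fun h => by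
        have := cW h c hcD
        rw [self c hcD, hcz] at this
        exact hnac this
      have hzaz : z * a * z = c := by
        rw [← braid_of_not hset ha hzD naz, haz]
      have hzcz : z * c * z = a := by
        rw [braid_of_not hset hzD hcD nzc, hcz]
      refine ⟨{x | x ∈ D ∧ (SameW D x a ∨ SameW D x c ∨ SameW D x z)}, fun x hx => hx.1, ?_, ?_,
        ⟨ha, Or.inl (SameW.refl D a)⟩, ⟨hb, Or.inl hab.symm⟩, ⟨hcD, Or.inr (Or.inl (SameW.refl D c))⟩,
        ⟨heD, Or.inr (Or.inl hce.symm)⟩⟩
      · rintro x ⟨hx, hx'⟩ y ⟨hy, hy'⟩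
        refine ⟨conj_mem' hD' hx hy, ?_⟩
        have same : ∀ r, SameW D x r → SameW D y r → SameW D (x * y * x) r := fun r hxr hyr => by
          have h1 := cW (hyr.trans hxr.symm) x hx
          rw [self x hx] at h1
          exact h1.trans hxr
        rcases hx' with hx' | hx' | hx' <;> rcases hy' with hy' | hy' | hy'
        · exact Or.inl (same _ hx' hy')
        · exact Or.inr (Or.inr (tri_conj hD' ha hcD hx hx' hy' hac hnac))
        · have := tri_conj hD' ha hzD hx hx' hy' naz saz
          rw [haz] at this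
          exact Or.inr (Or.inl this)
        · have := tri_conj hD' hcD ha hx hx' hy' (fun h => hac h.symm) (fun h => hnac h.symm)
          rw [hzc'] at this
          exact Or.inr (Or.inr this)
        · exact Or.inr (Or.inl (same _ hx' hy'))
        · have := tri_conj hD' hcD hzD hx hx' hy' (fun h => nzc h.symm) (fun h => szc h.symm)
          rw [hcz] at this
          exact Or.inl this
        · have := tri_conj hD' hzD ha hx hx' hy' (fun h => naz h.symm) (fun h => saz h.symm)
          rw [hzaz] at this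
          exact Or.inr (Or.inl this)
        · have := tri_conj hD' hzD hcD hx hx' hy' nzc szc
          rw [hzcz] at this
          exact Or.inl this
        · exact Or.inr (Or.inr (same _ hx' hy'))
      · have cross : ∀ p q x y : G, p ∈ D → q ∈ D → x ∈ D → y ∈ D → SameW D x p → SameW D y q →
            ¬ Commute p q → ¬ SameW D p q → ¬ Commute x y := by
          intro p q x y hp hq hx hy hxp hyq hpq hnpq h
          have hne : y ≠ x := fun e => hnpq (hxp.symm.trans (e ▸ hyq))
          have h1 := (hxp y hy).1 ⟨hne, h⟩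
          have h2 := (hyq p hp).1 ⟨fun e => h1.1 e.symm, h1.2.symm⟩
          exact hpq h2.2.symm
        rintro x ⟨hx, hx'⟩ y ⟨hy, hy'⟩ h
        rcases hx' with hx' | hx' | hx' <;> rcases hy' with hy' | hy' | hy'
        · exact same_nc x y a hy hx' hy' h
        · exact absurd h (cross a c x y ha hcD hx hy hx' hy' hac hnac)
        · exact absurd h (cross a z x y ha hzD hx hy hx' hy' naz saz)
        · exact absurd h.symm (cross a c y x ha hcD hy hx hy' hx' hac hnac)
        · exact same_nc x y c hy hx' hy' h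
        · exact absurd h.symm (cross z c y x hzD hcD hy hx hy' hx' nzc szc)
        · exact absurd h.symm (cross a z y x ha hzD hy hx hy' hx' naz saz)
        · exact absurd h (cross z c x y hzD hcD hx hy hx' hy' nzc szc)
        · exact same_nc x y z hy hx' hy' h

theorem sameW_of_mul_mem [Finite G] {D : Set G} (hD : Cfsg.IsThreeTranspositionSet D) {d v : G}
    (hd : d ∈ D) (hv : v ∈ D) (h : d * v ∈ Cfsg.pCore 3 G) : SameW D d v := by
  haveI : Fact (Nat.Prime 3) := ⟨Nat.prime_three⟩
  haveI := Solv.pCore_normal (G := G) 3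
  have hP : IsPGroup 3 (Cfsg.pCore 3 G) := Solv.pCore_isPGroup 3
  have eq_of : ∀ x y : G, x ∈ D → y ∈ D → Commute x y → x * y ∈ Cfsg.pCore 3 G → x = y := by
    intro x y hx hy hc hxy
    have := eq_one_of_pow_two_pgroup hP hxy
      (pow_two_of_commute (mul_self_of_order_two (hD.1 x hx)) (mul_self_of_order_two (hD.1 y hy)) hc)
    rwa [mul_eq_one_iff_eq_inv, inv_of_order_two (hD.1 y hy)] at this
  have key : ∀ x y : G, x ∈ D → y ∈ D → x * y ∈ Cfsg.pCore 3 G → ∀ e ∈ D, (e ≠ x ∧ Commute x e) →
      (e ≠ y ∧ Commute y e) := by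
    intro x y hx hy hxy e he ⟨hne, hxe⟩
    have hey : Commute y e := by
      rcases hD.2 y hy e he with h2 | h3
      · rw [pow_two, mul_eq_one_iff_eq_inv, mul_inv_rev, inv_of_order_two (hD.1 y hy),
          inv_of_order_two (hD.1 e he)] at h2
        exact h2
      · exfalso
        set π := QuotientGroup.mk' (Cfsg.pCore 3 G)
        have hq : π y = π x := by
          have h1 : π (x * y) = 1 := (QuotientGroup.eq_one_iff _).2 hxy
          rw [map_mul, mul_eq_one_iff_inv_eq] at h1
          rw [← h1, ← map_inv, inv_of_order_two (hD.1 x hx)]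
        have h22 : (π y * π e) ^ 2 = 1 := by
          rw [hq]
          refine pow_two_of_commute ?_ ?_ (hxe.map π)
          · rw [← map_mul, mul_self_of_order_two (hD.1 x hx), map_one]
          · rw [← map_mul, mul_self_of_order_two (hD.1 e he), map_one]
        have h33 : (π y * π e) ^ 3 = 1 := by rw [← map_mul, ← map_pow, h3, map_one]
        rw [pow_succ, h22, one_mul, hq, ← map_mul] at h33
        exact hne (eq_of x e hx he hxe ((QuotientGroup.eq_one_iff _).1 h33)).symm
    refine ⟨fun e' => hne ?_, hey⟩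
    rw [e'] at hxe ⊢
    exact (eq_of x y hx hy hxe hxy).symm
  have h' : v * d ∈ Cfsg.pCore 3 G := by
    have := inv_mem h
    rwa [mul_inv_rev, inv_of_order_two (hD.1 d hd), inv_of_order_two (hD.1 v hv)] at this
  exact fun e he => ⟨key d v hd hv h e he, key v d hv hd h' e he⟩

theorem sameW_iff_core [Finite G] {D : Set G} (hD : Cfsg.IsThreeTranspositionGroup D) {d v : G}
    (hd : d ∈ D) (hv : v ∈ D) : SameW D d v ↔ d * v ∈ Cfsg.pCore 3 G :=
  ⟨SameW.mul_mem_core hD hd hv, sameW_of_mul_mem hD.1 hd hv⟩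

/-! ### orbits of the two normal subgroups -/

theorem class_isGroup {D : Set G} (hD : Cfsg.IsThreeTranspositionClass D) :
    Cfsg.IsThreeTranspositionGroup D := by
  obtain ⟨hset, ⟨d, -, rfl⟩, hgen⟩ := hD
  exact ⟨hset, fun g e he => IsConj.trans he (isConj_iff.2 ⟨g, rfl⟩), hgen⟩

theorem class_conj {D : Set G} (hD : Cfsg.IsThreeTranspositionClass D) {a b : G} (ha : a ∈ D)
    (hb : b ∈ D) : ∃ g : G, g * a * g⁻¹ = b := by
  obtain ⟨-, ⟨d, -, rfl⟩, -⟩ := hD
  exact isConj_iff.1 ((IsConj.symm ha).trans hb)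

theorem exists_braid {D : Set G} (hD : Cfsg.IsThreeTranspositionClass D)
    (hD2 : ∃ a ∈ D, ∃ b ∈ D, a ≠ b) {d : G} (hd : d ∈ D) : ∃ e ∈ D, ¬ Commute d e := by
  by_contra h
  push Not at h
  have hc := mem_center_of_commutes hD.2.2 h
  obtain ⟨a, ha, b, hb, hne⟩ := hD2
  have hall : ∀ x ∈ D, x = d := fun x hx => by
    obtain ⟨g, rfl⟩ := class_conj hD hd hx
    rw [Subgroup.mem_center_iff.1 hc g, mul_inv_cancel_right]
  exact hne ((hall a ha).trans (hall b hb).symm)

theorem core_two_conj [Finite G] {D : Set G} (hD : Cfsg.IsThreeTranspositionClass D)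
    (hD2 : ∃ a ∈ D, ∃ b ∈ D, a ≠ b) {d v : G} (hd : d ∈ D) (hv : v ∈ D)
    (h : d * v ∈ Cfsg.pCore 2 G) : ∃ g ∈ Cfsg.pCore 2 G, v = g * d * g⁻¹ := by
  haveI := Solv.pCore_normal (G := G) 2
  obtain ⟨e, he, hde⟩ := exists_braid hD hD2 hd
  have hset := hD.1
  have hV := sameV_of_mul_mem hset hd hv h
  have hdv : Commute d v := hV.commute hd
  have hve : ¬ Commute v e := fun hh => hde ((hV e he).2 hh)
  have hdd := mul_self_of_order_two (hset.1 d hd)
  have hvv := mul_self_of_order_two (hset.1 v hv)
  have hee := mul_self_of_order_two (hset.1 e he)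
  have hei := inv_of_order_two (hset.1 e he)
  refine ⟨e * (d * v) * e, ?_, ?_⟩
  · have := ‹(Cfsg.pCore 2 G).Normal›.conj_mem _ h e
    rwa [hei] at this
  · have hdi := inv_of_order_two (hset.1 d hd)
    have hvi := inv_of_order_two (hset.1 v hv)
    rw [mul_inv_rev, mul_inv_rev, mul_inv_rev, hei, hdi, hvi]
    symm
    calc e * (d * v) * e * d * (e * (v * d * e))
        = e * (d * v) * (e * d * e) * (v * d * e) := by simp only [mul_assoc]
      _ = e * (d * v) * (d * e * d) * (v * d * e) := by rw [(braid_of_not hset hd he hde).symm]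
      _ = e * (d * v * d) * e * (d * v * d) * e := by simp only [mul_assoc]
      _ = e * v * e * v * e := by rw [hdv.eq, mul_assoc v d d, hdd, mul_one]
      _ = e * (v * e * v) * e := by simp only [mul_assoc]
      _ = e * (e * v * e) * e := by rw [braid_of_not hset hv he hve]
      _ = (e * e) * v * (e * e) := by simp only [mul_assoc]
      _ = v := by rw [hee, one_mul, mul_one]

theorem core_three_conj [Finite G] {D : Set G} (hD : Cfsg.IsThreeTranspositionSet D) {d v : G}
    (hd : d ∈ D) (hv : v ∈ D) (h : d * v ∈ Cfsg.pCore 3 G) :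
    ∃ g ∈ Cfsg.pCore 3 G, v = g * d * g⁻¹ := by
  by_cases hne : d = v
  · exact ⟨1, one_mem _, by rw [hne]; group⟩
  refine ⟨d * v, h, ?_⟩
  have hdv := (sameW_of_mul_mem hD hd hv h).not_commute hv hne
  rw [mul_inv_rev, inv_of_order_two (hD.1 d hd), inv_of_order_two (hD.1 v hv)]
  have hdd := mul_self_of_order_two (hD.1 d hd)
  symm
  calc d * v * d * (v * d) = d * (v * d * v) * d := by simp only [mul_assoc]
    _ = d * (d * v * d) * d := by rw [braid_of_not hD hd hv hdv]
    _ = (d * d) * v * (d * d) := by simp only [mul_assoc]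
    _ = v := by rw [hdd, one_mul, mul_one]

theorem core_mul_of_conj {D : Set G} (hD : Cfsg.IsThreeTranspositionSet D) {p : ℕ} {d g : G} (hd : d ∈ D)
    (hg : g ∈ Cfsg.pCore p G) : d * (g * d * g⁻¹) ∈ Cfsg.pCore p G := by
  haveI := Solv.pCore_normal (G := G) p
  have h := ‹(Cfsg.pCore p G).Normal›.conj_mem g hg d
  rw [inv_of_order_two (hD.1 d hd)] at h
  have := mul_mem h (inv_mem hg)
  simpa only [mul_assoc] using this

end Cfsg.Agent.Spor
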