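import Cfsg.Agent.Lib.Spor.ThreeBasic
import Cfsg.Agent.Lib.Spor.ThreeRelations
import Cfsg.Prelude.Def_FischerSpaces

/-!
The subgroup generated by two non-commuting 3-transpositions and the normaliser of their product.
-/

set_option autoImplicit false
set_option linter.unusedSectionVars false

namespace Cfsg.Agent.Spor.PairGen

universe u
variable {G : Type u} [Group G]

/-- the facts about a non-commuting pair -/
structure Braid (a d : G) : Prop where
  aa : a * a = 1
  dd : d * d = 1
  br : a * d * a = d * a * d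
  nc : ¬ Commute a d

variable {a d : G} (h : Braid a d)

include h in
theorem flip : Braid d a := ⟨h.dd, h.aa, h.br.symm, fun c => h.nc c.symm⟩

/-- the six elements -/
def six (a d : G) : Set G := {1, a, d, a * d, d * a, a * d * a}

include h in
theorem left_a {g : G} (hg : g ∈ six a d) : a * g ∈ six a d := by
  have ha : ∀ z : G, a * (a * z) = z := fun z => by rw [← mul_assoc, h.aa, one_mul]
  simp only [six, Set.mem_insert_iff, Set.mem_singleton_iff] at hg ⊢
  rcases hg with rfl | rfl | rfl | rfl | rfl | rfl
  · simp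
  · simp [h.aa]
  · simp
  · simp [ha]
  · simp [mul_assoc]
  · simp [mul_assoc, ha]

include h in
theorem six_comm : six a d = six d a := by
  ext g
  simp only [six, Set.mem_insert_iff, Set.mem_singleton_iff, h.br]
  tauto

include h in
theorem left_d {g : G} (hg : g ∈ six a d) : d * g ∈ six a d := by
  rw [six_comm h] at hg ⊢
  exact left_a (flip h) hg

include h in
theorem mem_six {g : G} (hg : g ∈ Subgroup.closure ({a, d} : Set G)) : g ∈ six a d := by
  induction hg using Subgroup.closure_induction_left with
  | one => simp [six]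
  | mul_left x hx y _ hy =>
    rcases hx with rfl | rfl
    · exact left_a h hy
    · exact left_d h hy
  | inv_mul_cancel x hx y _ hy =>
    rcases hx with rfl | rfl
    · rw [inv_eq_of_mul_eq_one_right h.aa]; exact left_a h hy
    · rw [inv_eq_of_mul_eq_one_right h.dd]; exact left_d h hy

include h in
theorem central_trivial {g : G} (hg : g ∈ Subgroup.closure ({a, d} : Set G)) (ha : Commute g a)
    (hd : Commute g d) : g = 1 := by
  have key : ∀ {x y : G}, x * x = 1 → Commute (x * y) x → Commute y x := fun {x y} hx hc => by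
    have e : x * (x * y * x) = x * (x * (x * y)) := by rw [hc.eq]
    rw [mul_assoc x y x, ← mul_assoc x x, ← mul_assoc x x, hx, one_mul, one_mul] at e
    exact e
  rcases mem_six h hg with rfl | rfl | rfl | rfl | rfl | rfl
  · rfl
  · exact absurd hd h.nc
  · exact absurd ha.symm h.nc
  · exact absurd (key h.aa ha).symm h.nc
  · exact absurd (key h.dd hd) h.nc
  · exfalso
    apply h.nc
    rw [mul_assoc] at ha
    have h1 := key h.aa ha
    have e : (d * a) * a = a * (d * a) := h1.eq
    rw [mul_assoc, h.aa, mul_one, ← mul_assoc] at e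
    show a * d = d * a
    calc a * d = a * d * (a * a) := by rw [h.aa, mul_one]
      _ = (a * d * a) * a := by simp only [mul_assoc]
      _ = d * a := by rw [← e]

include h in
theorem order_x : orderOf (a * d) = 3 := by
  haveI : Fact (Nat.Prime 3) := ⟨Nat.prime_three⟩
  refine orderOf_eq_prime ?_ fun e => h.nc ?_
  · calc (a * d) ^ 3 = a * d * a * (d * a * d) := by simp only [pow_succ, pow_zero, one_mul, mul_assoc]
      _ = (d * a * d) * (d * a * d) := by rw [h.br]
      _ = d * (a * ((d * d) * a)) * d := by simp only [mul_assoc]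
      _ = 1 := by rw [h.dd, one_mul, h.aa, mul_one, h.dd]
  · show a * d = d * a
    rw [e]
    calc (1 : G) = d * (a * a) * d := by rw [h.aa, mul_one, h.dd]
      _ = d * a * (a * d) := by simp only [mul_assoc]
      _ = d * a := by rw [e, mul_one]

include h in
theorem inverts : a * (a * d) * a⁻¹ = (a * d)⁻¹ ∧ d * (a * d) * d⁻¹ = (a * d)⁻¹ := by
  rw [mul_inv_rev, inv_eq_of_mul_eq_one_right h.aa, inv_eq_of_mul_eq_one_right h.dd]
  constructor
  · rw [← mul_assoc, h.aa, one_mul]
  · rw [mul_assoc, mul_assoc, h.dd, mul_one]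

include h in
/-- the subgroup is symmetric of degree three -/
theorem equiv_perm [Finite G] (S : Subgroup G) (hS : S = Subgroup.closure ({a, d} : Set G)) :
    Nonempty (↥S ≃* Equiv.Perm (Fin 3)) := by
  classical
  subst hS
  set S := Subgroup.closure ({a, d} : Set G)
  have hsub : ({a, d} : Set G) ⊆ (S : Set G) := Subgroup.subset_closure
  have haS : a ∈ S := hsub (by simp)
  have hdS : d ∈ S := hsub (by simp)
  let v : Fin 3 → G := ![a, d, a * d * a]
  have hinj : Function.Injective v := by
    have n1 : a ≠ d := fun e => h.nc (e ▸ Commute.refl a)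
    have n2 : a ≠ a * d * a := fun e => h.nc (by
      have e1 : d * a = 1 := mul_left_cancel (a := a) (by rw [← mul_assoc, ← e, mul_one])
      exact absurd (by
        calc d = d * (a * a) := by rw [h.aa, mul_one]
          _ = a := by rw [← mul_assoc, e1, one_mul]) n1.symm)
    have n3 : d ≠ a * d * a := fun e => h.nc (by
      show a * d = d * a
      calc a * d = a * d * (a * a) := by rw [h.aa, mul_one]
        _ = (a * d * a) * a := by simp only [mul_assoc]
        _ = d * a := by rw [← e])
    intro i j hij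
    fin_cases i <;> fin_cases j <;> simp [v] at hij ⊢
    · exact n1 hij
    · exact n2 (by rw [hij, one_mul])
    · exact n1 hij.symm
    · exact n3 hij
    · exact n2 (by rw [hij, one_mul])
    · exact n3 hij.symm
  have hrange : ∀ g ∈ six a d, ∀ i, g * v i * g⁻¹ ∈ Set.range v := by
    have ha' : ∀ i, a * v i * a⁻¹ ∈ Set.range v := by
      intro i
      rw [inv_eq_of_mul_eq_one_right h.aa]
      fin_cases i
      · exact ⟨0, by simp [v, h.aa]⟩
      · exact ⟨2, by simp [v]⟩
      · exact ⟨1, by simp [v, mul_assoc, h.aa]; rw [← mul_assoc, h.aa, one_mul]⟩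
    have hd' : ∀ i, d * v i * d⁻¹ ∈ Set.range v := by
      intro i
      rw [inv_eq_of_mul_eq_one_right h.dd]
      fin_cases i
      · exact ⟨2, by simp [v, h.br]⟩
      · exact ⟨1, by simp [v, h.dd]⟩
      · refine ⟨0, ?_⟩
        simp only [v, Matrix.cons_val_zero]
        show a = d * (a * d * a) * d
        rw [h.br]
        simp only [mul_assoc, h.dd, mul_one]
        rw [← mul_assoc, h.dd, one_mul]
    have hmul : ∀ p q : G, (∀ i, p * v i * p⁻¹ ∈ Set.range v) → (∀ i, q * v i * q⁻¹ ∈ Set.range v) →
        ∀ i, (p * q) * v i * (p * q)⁻¹ ∈ Set.range v := fun p q hp hq i => by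
      obtain ⟨j, hj⟩ := hq i
      obtain ⟨k, hk⟩ := hp j
      exact ⟨k, by rw [hk, hj]; group⟩
    intro g hg
    simp only [six, Set.mem_insert_iff, Set.mem_singleton_iff] at hg
    rcases hg with rfl | rfl | rfl | rfl | rfl | rfl
    · exact fun i => ⟨i, by group⟩
    · exact ha'
    · exact hd'
    · exact hmul _ _ ha' hd'
    · exact hmul _ _ hd' ha'
    · exact hmul _ _ (hmul _ _ ha' hd') ha'
  have hiff : ∀ (g : S) (x : G), x ∈ Set.range v ↔ MulAut.conj (g : G) x ∈ Set.range v := by
    intro g x
    constructor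
    · rintro ⟨i, rfl⟩; exact hrange _ (mem_six h g.2) i
    · rintro ⟨i, hi⟩
      obtain ⟨j, hj⟩ := hrange _ (mem_six h (inv_mem g.2)) i
      exact ⟨j, by rw [hj, hi, MulAut.conj_apply]; group⟩
  let φ : S →* Equiv.Perm ↥(Set.range v) :=
    { toFun := fun g => (MulAut.conj (g : G)).toEquiv.subtypeEquiv (hiff g)
      map_one' := by ext x; simp [Equiv.subtypeEquiv]
      map_mul' := fun g k => by ext x; simp [Equiv.subtypeEquiv] }
  let ψ : S →* Equiv.Perm (Fin 3) := (Equiv.ofInjective v hinj).symm.permCongrHom.toMonoidHom.comp φ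
  have hψ : Function.Injective ψ := by
    rw [injective_iff_map_eq_one]
    intro g hg
    have hg' : φ g = 1 := (Equiv.ofInjective v hinj).symm.permCongrHom.injective (hg.trans (map_one _).symm)
    have hfix : ∀ i, (g : G) * v i * (g : G)⁻¹ = v i := fun i =>
      congrArg Subtype.val (Equiv.ext_iff.mp hg' ⟨v i, i, rfl⟩)
    exact Subtype.ext (central_trivial h g.2 (mul_inv_eq_iff_eq_mul.mp (hfix 0)) (mul_inv_eq_iff_eq_mul.mp (hfix 1)))
  have hcard : Nat.card (Equiv.Perm (Fin 3)) = 6 := by
    rw [Nat.card_perm, Nat.card_fin]; rfl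
  refine ⟨MulEquiv.ofBijective ψ ((Nat.bijective_iff_injective_and_card ψ).mpr ⟨hψ, ?_⟩)⟩
  have hle := Nat.card_le_card_of_injective ψ hψ
  rw [hcard] at hle ⊢
  have h2 : 2 ∣ Nat.card S := by
    have : orderOf (⟨a, haS⟩ : S) = 2 := by
      haveI : Fact (Nat.Prime 2) := ⟨Nat.prime_two⟩
      refine orderOf_eq_prime (Subtype.ext (by rw [pow_two]; exact h.aa)) fun e => h.nc ?_
      rw [show a = 1 from congrArg Subtype.val e]
      exact Commute.one_left d
    exact this ▸ orderOf_dvd_natCard _
  have h3 : 3 ∣ Nat.card S := by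
    have : orderOf (⟨a * d, mul_mem haS hdS⟩ : S) = 3 := by
      rw [← Subgroup.orderOf_coe]; exact order_x h
    exact this ▸ orderOf_dvd_natCard _
  have : 0 < Nat.card S := Nat.card_pos
  have h6 : 6 ∣ Nat.card S := Nat.Coprime.mul_dvd_of_dvd_of_dvd (by norm_num : Nat.Coprime 2 3) h2 h3
  have := Nat.le_of_dvd this h6
  omega

end Cfsg.Agent.Spor.PairGen
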