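import Cfsg.Agent.Lib.Spor.ThreeBasic

/-!
A 3-string of transpositions generates a symmetric group of degree four.
-/

set_option autoImplicit false
set_option maxRecDepth 100000

namespace Cfsg.Agent.Spor

variable {M : Type*} [Group M]

/-- Words running through the symmetric group of degree three. -/
def kWord (a b : M) : Fin 6 → M := ![1, a, b, b * a, a * b, a * b * a]

/-- Coset representatives. -/
def jWord (a b c : M) : Fin 4 → M := ![1, c, c * b, c * b * a]

/-- Normal forms. -/
def nWord (a b c : M) (i : Fin 6 × Fin 4) : M := kWord a b i.1 * jWord a b c i.2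

/-- The relations of a 3-string of involutions. -/
structure StringRel (a b c : M) : Prop where
  aa : a * a = 1
  bb : b * b = 1
  cc : c * c = 1
  ac : c * a = a * c
  ab : b * (a * b) = a * (b * a)
  bc : c * (b * c) = b * (c * b)

/-- Left multiplication by the generators on normal forms. -/
def genTab : Fin 3 → Fin 6 × Fin 4 → Fin 6 × Fin 4
  | 0, i => (![1, 0, 4, 5, 2, 3] i.1, i.2)
  | 1, i => (![2, 3, 0, 1, 5, 4] i.1, i.2)
  | 2, i => ![![(0, 1), (0, 0), (2, 0), (3, 0)], ![(1, 1), (1, 0), (4, 0), (5, 0)],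
      ![(0, 2), (2, 2), (2, 1), (3, 1)], ![(0, 3), (2, 3), (3, 3), (3, 2)],
      ![(1, 2), (4, 2), (4, 1), (5, 1)], ![(1, 3), (4, 3), (5, 3), (5, 2)]] i.1 i.2

theorem nWord_step {a b c : M} (h : StringRel a b c) (s : Fin 3) (i : Fin 6 × Fin 4) :
    ![a, b, c] s * nWord a b c i = nWord a b c (genTab s i) := by
  have a' : ∀ x, a * (a * x) = x := fun x => by rw [← mul_assoc, h.aa, one_mul]
  have b' : ∀ x, b * (b * x) = x := fun x => by rw [← mul_assoc, h.bb, one_mul]
  have c' : ∀ x, c * (c * x) = x := fun x => by rw [← mul_assoc, h.cc, one_mul]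
  have ac' : ∀ x, c * (a * x) = a * (c * x) := fun x => by
    rw [← mul_assoc, h.ac, mul_assoc]
  have ab' : ∀ x, b * (a * (b * x)) = a * (b * (a * x)) := fun x => by
    have := congrArg (· * x) h.ab
    simpa [mul_assoc] using this
  have bc' : ∀ x, c * (b * (c * x)) = b * (c * (b * x)) := fun x => by
    have := congrArg (· * x) h.bc
    simpa [mul_assoc] using this
  have cbac : c * (b * (a * c)) = b * (c * (b * a)) := by rw [← h.ac, bc']
  have cbac' : ∀ x, c * (b * (a * (c * x))) = b * (c * (b * (a * x))) := fun x => by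
    have := congrArg (· * x) cbac
    simpa [mul_assoc] using this
  obtain ⟨k, j⟩ := i
  fin_cases s <;> fin_cases k <;> fin_cases j <;>
    simp [nWord, genTab, kWord, jWord, mul_assoc, h.aa, h.bb, h.cc, h.ac, h.ab, h.bc,
      a', b', c', ac', ab', bc', cbac, cbac']

/-- The three generating transpositions. -/
def s4a : Equiv.Perm (Fin 4) := Equiv.swap 0 1
/-- The second transposition. -/
def s4b : Equiv.Perm (Fin 4) := Equiv.swap 1 2
/-- The third transposition. -/
def s4c : Equiv.Perm (Fin 4) := Equiv.swap 2 3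

theorem s4_rel : StringRel s4a s4b s4c where
  aa := by decide
  bb := by decide
  cc := by decide
  ac := by decide
  ab := by decide
  bc := by decide

theorem s4_bij : Function.Bijective (nWord s4a s4b s4c) := by
  rw [Fintype.bijective_iff_injective_and_card]
  exact ⟨by decide +kernel, by decide⟩

theorem exists_hom_of_string {a b c : M} (h : StringRel a b c) :
    ∃ φ : Equiv.Perm (Fin 4) →* M, φ s4a = a ∧ φ s4b = b ∧ φ s4c = c := by
  let e := Equiv.ofBijective _ s4_bij
  let f : Equiv.Perm (Fin 4) → M := fun σ => nWord a b c (e.symm σ)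
  have hgen : ∀ (s : Fin 3) (τ : Equiv.Perm (Fin 4)),
      f (![s4a, s4b, s4c] s * τ) = ![a, b, c] s * f τ := by
    intro s τ
    obtain ⟨i, rfl⟩ := e.surjective τ
    have h1 : ![s4a, s4b, s4c] s * e i = e (genTab s i) := nWord_step s4_rel s i
    simp only [f, h1, Equiv.symm_apply_apply, nWord_step h]
  have h1 : f 1 = 1 := by
    have : e.symm 1 = (0, 0) := by
      rw [Equiv.symm_apply_eq]; show (1 : Equiv.Perm (Fin 4)) = nWord s4a s4b s4c (0, 0)
      decide
    simp [f, this, nWord, kWord, jWord]
  have hmul : ∀ σ τ, f (σ * τ) = f σ * f τ := by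
    intro σ
    have hclo : σ ∈ Submonoid.closure (Set.range ![s4a, s4b, s4c]) := by
      obtain ⟨⟨k, j⟩, rfl⟩ := e.surjective σ
      show kWord s4a s4b k * jWord s4a s4b s4c j ∈ _
      have ha : s4a ∈ Submonoid.closure (Set.range ![s4a, s4b, s4c]) :=
        Submonoid.subset_closure ⟨0, rfl⟩
      have hb : s4b ∈ Submonoid.closure (Set.range ![s4a, s4b, s4c]) :=
        Submonoid.subset_closure ⟨1, rfl⟩
      have hc : s4c ∈ Submonoid.closure (Set.range ![s4a, s4b, s4c]) :=
        Submonoid.subset_closure ⟨2, rfl⟩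
      refine mul_mem ?_ ?_
      · fin_cases k
        exacts [one_mem _, ha, hb, mul_mem hb ha, mul_mem ha hb, mul_mem (mul_mem ha hb) ha]
      · fin_cases j
        exacts [one_mem _, hc, mul_mem hc hb, mul_mem (mul_mem hc hb) ha]
    induction hclo using Submonoid.closure_induction_left with
    | one => intro τ; rw [one_mul, h1, one_mul]
    | mul_left x hx y _ ih =>
      obtain ⟨s, rfl⟩ := hx
      intro τ
      rw [mul_assoc, hgen, hgen, ih, mul_assoc]
  refine ⟨{ toFun := f, map_one' := h1, map_mul' := hmul }, ?_, ?_, ?_⟩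
  · show f s4a = a
    have := hgen 0 1; simpa [h1] using this
  · show f s4b = b
    have := hgen 1 1; simpa [h1] using this
  · show f s4c = c
    have := hgen 2 1; simpa [h1] using this

theorem s4_normal_closure : ∀ σ : Equiv.Perm (Fin 4), σ ≠ 1 → ∃ g h : Equiv.Perm (Fin 4),
    g * σ * g⁻¹ * (h * σ * h⁻¹) = s4a * s4c := by
  decide +kernel

theorem three_string {D : Set M} (hD : Cfsg.IsThreeTranspositionSet D) {a b c : M} (ha : a ∈ D)
    (hb : b ∈ D) (hc : c ∈ D) (hac : a ≠ c) (hac' : Commute a c) (hab : ¬ Commute a b)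
    (hbc : ¬ Commute b c) : ∃ φ : Equiv.Perm (Fin 4) →* M, Function.Injective φ ∧
      φ (Equiv.swap 0 1) = a ∧ φ (Equiv.swap 1 2) = b ∧ φ (Equiv.swap 2 3) = c := by
  have h1 := (commute_or_braid hD hb ha).resolve_left fun h => hab h.symm
  have h2 := (commute_or_braid hD hc hb).resolve_left fun h => hbc h.symm
  have hrel : StringRel a b c :=
    { aa := mul_self_of_order_two (hD.1 a ha)
      bb := mul_self_of_order_two (hD.1 b hb)
      cc := mul_self_of_order_two (hD.1 c hc)
      ac := hac'.symm
      ab := by rw [← mul_assoc, h1, mul_assoc]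
      bc := by rw [← mul_assoc, h2, mul_assoc] }
  obtain ⟨φ, e1, e2, e3⟩ := exists_hom_of_string hrel
  refine ⟨φ, ?_, e1, e2, e3⟩
  rw [injective_iff_map_eq_one]
  intro σ hσ
  by_contra hne
  obtain ⟨g, h, hgh⟩ := s4_normal_closure σ hne
  have := congrArg φ hgh
  simp only [map_mul, map_inv, hσ, e1, e3, mul_one, mul_inv_cancel] at this
  exact hac (by rw [← inv_of_order_two (hD.1 c hc)]; exact eq_inv_of_mul_eq_one_left this.symm)

end Cfsg.Agent.Spor
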