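import Cfsg.Agent.Lib.Spor.ThreeBasic
import Cfsg.Prelude.Def_FischerSpaces

/-!
Elementary lemmas about conjugation-invariant sets of involutions and 3-transpositions.
-/

set_option autoImplicit false

namespace Cfsg.Agent.Spor

variable {G : Type*} [Group G]

/-- Powers of the product of two involutions are inverted by either of them. -/
theorem invol_conj_pow {a b : G} (ha : a * a = 1) (hb : b * b = 1) (k : ℕ) :
    a * (a * b) ^ k * a = ((a * b) ^ k)⁻¹ := by
  have hai : a⁻¹ = a := inv_eq_of_mul_eq_one_right ha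
  have hbi : b⁻¹ = b := inv_eq_of_mul_eq_one_right hb
  calc a * (a * b) ^ k * a = (a * (a * b) * a⁻¹) ^ k := by rw [conj_pow, hai]
    _ = ((a * b)⁻¹) ^ k := by
      congr 1; rw [mul_inv_rev, hai, hbi, ← mul_assoc a a, ha, one_mul]
    _ = ((a * b) ^ k)⁻¹ := inv_pow _ _

theorem commute_iff_sq {a b : G} (ha : a * a = 1) (hb : b * b = 1) :
    Commute a b ↔ (a * b) ^ 2 = 1 := by
  rw [pow_two, mul_eq_one_iff_eq_inv, mul_inv_rev, inv_eq_of_mul_eq_one_right ha,
    inv_eq_of_mul_eq_one_right hb]
  rfl

/-- Reflections of a dihedral group generated by members of a closed set lie in it. -/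
theorem refl_mem {D : Set G} (hconj : ∀ g : G, ∀ d ∈ D, g * d * g⁻¹ ∈ D) {a b : G}
    (ha : a ∈ D) (hb : b ∈ D) (hai : a⁻¹ = a) (hbi : b⁻¹ = b) :
    ∀ k : ℕ, (a * b) ^ k * a ∈ D := by
  intro k
  induction k using Nat.twoStepInduction with
  | zero => simpa using ha
  | one =>
    have := hconj a b hb
    rw [hai] at this
    rw [pow_one]; exact this
  | more k ih _ =>
    have := hconj (a * b) _ ih
    rw [mul_inv_rev, hai, hbi] at this
    have haa : a * a = 1 := by nth_rewrite 2 [← hai]; exact mul_inv_cancel a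
    convert this using 1
    rw [show k + 2 = k + 1 + 1 from rfl, pow_succ, pow_succ']
    simp only [mul_assoc]

theorem odd_or_two_iff [Finite G] {D : Set G} (hinv : ∀ d ∈ D, orderOf d = 2)
    (hconj : ∀ g : G, ∀ d ∈ D, g * d * g⁻¹ ∈ D) :
    (∀ a ∈ D, ∀ b ∈ D, Odd (orderOf (a * b)) ∨ orderOf (a * b) = 2) ↔
      ∀ a ∈ D, ∀ b ∈ D, b ≠ a → Commute a b → {y : G | y ∈ D ∧ Commute (a * b) y} =
        {y : G | y ∈ D ∧ Commute a y} ∩ {y : G | y ∈ D ∧ Commute b y} := by
  constructor
  · intro h a ha b hb hba hab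
    ext y
    simp only [Set.mem_setOf_eq, Set.mem_inter_iff]
    constructor
    · rintro ⟨hy, hty⟩
      have haa := mul_self_of_order_two (hinv a ha)
      have hbb := mul_self_of_order_two (hinv b hb)
      have hyy := mul_self_of_order_two (hinv y hy)
      have hyi := inv_of_order_two (hinv y hy)
      suffices hay : Commute a y by
        have : Commute (a * (a * b)) y := hay.mul_left hty
        rw [← mul_assoc, haa, one_mul] at this
        exact ⟨⟨hy, hay⟩, hy, this⟩
      set c := y * a * y with hc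
      set e := y * b * y with he
      have hcD : c ∈ D := by have := hconj y a ha; rwa [hyi] at this
      have heD : e ∈ D := by have := hconj y b hb; rwa [hyi] at this
      have hcc := mul_self_of_order_two (hinv c hcD)
      have hce : c * e = a * b := by
        calc c * e = y * (a * b) * y := by
              rw [hc, he]; simp only [mul_assoc]; rw [← mul_assoc y y, hyy, one_mul]
          _ = a * b := by rw [← hty.eq, mul_assoc, hyy, mul_one]
      have hat : Commute (a * b) a := (Commute.refl a).mul_left hab.symm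
      have hct : Commute (a * b) c := (hty.mul_right hat).mul_right hty
      have ht2 : orderOf (a * b) = 2 := orderOf_eq_prime ((commute_iff_sq haa hbb).1 hab)
        fun h1 => hba (by
          rw [mul_eq_one_iff_eq_inv, inv_of_order_two (hinv b hb)] at h1; exact h1.symm)
      have he' : e = c * (a * b) := by rw [← hce, ← mul_assoc, hcc, one_mul]
      have hae : a * e = a * c * (a * b) := (congrArg (a * ·) he').trans (mul_assoc a c (a * b)).symm
      by_contra hay
      have hac : a * c = (a * y) ^ 2 := by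
        rw [hc, pow_two]; simp only [mul_assoc]
      have hayodd : Odd (orderOf (a * y)) := (h a ha y hy).resolve_right fun h2 =>
        hay ((commute_iff_sq haa hyy).2 (h2 ▸ pow_orderOf_eq_one (a * y)))
      have hacodd : Odd (orderOf (a * c)) := by
        rw [hac]; exact Odd.of_dvd_nat hayodd (orderOf_pow_dvd 2)
      have hord : orderOf (a * e) = orderOf (a * c) * 2 := by
        rw [hae, (hat.mul_right hct).symm.orderOf_mul_eq_mul_orderOf_of_coprime, ht2]
        rw [ht2]; exact Nat.coprime_two_right.2 hacodd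
      rcases h a ha e heD with h1 | h1
      · rw [hord] at h1
        exact (Nat.not_odd_iff_even.2 ⟨orderOf (a * c), mul_two _⟩) h1
      · rw [hord] at h1
        have h2 : a * c = 1 := orderOf_eq_one_iff.1 (by omega)
        rw [hac] at h2
        exact hay ((commute_iff_sq haa hyy).2 h2)
    · rintro ⟨⟨hy, h1⟩, -, h2⟩
      exact ⟨hy, h1.mul_left h2⟩
  · intro h a ha b hb
    by_contra hcon
    push_neg at hcon
    obtain ⟨hev, hne2⟩ := hcon
    have haa := mul_self_of_order_two (hinv a ha)
    have hbb := mul_self_of_order_two (hinv b hb)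
    rw [Nat.not_odd_iff_even] at hev
    obtain ⟨m, hm⟩ := hev
    have hpos := orderOf_pos (a * b)
    set z := (a * b) ^ m with hz
    have hz1 : z ≠ 1 := pow_ne_one_of_lt_orderOf (by omega) (by omega)
    have hzz : z * z = 1 := by rw [hz, ← pow_add, ← hm, pow_orderOf_eq_one]
    have hza : Commute z a := by
      have h1 : a * z * a = z := by
        rw [hz, invol_conj_pow haa hbb, ← hz]; exact inv_eq_of_mul_eq_one_right hzz
      calc z * a = a * z * a * a := by rw [h1]
        _ = a * z := by rw [mul_assoc, haa, mul_one]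
    have hzb : Commute z b := by
      have h1 : Commute z (a * (a * b)) := hza.mul_right ((Commute.refl (a * b)).pow_left m)
      rwa [← mul_assoc, haa, one_mul] at h1
    set b' := z * a with hb'
    have hb'D : b' ∈ D :=
      refl_mem hconj ha hb (inv_of_order_two (hinv a ha)) (inv_of_order_two (hinv b hb)) m
    have hne : b' ≠ a := fun h1 => hz1 (mul_eq_right.1 h1)
    have key := h a ha b' hb'D hne (hza.symm.mul_right (Commute.refl a))
    have hmem : b ∈ {y : G | y ∈ D ∧ Commute (a * b') y} := by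
      refine ⟨hb, ?_⟩
      rw [hb', ← mul_assoc, ← hza.eq, mul_assoc, haa, mul_one]
      exact hzb
    rw [key] at hmem
    have hab : Commute a b := hmem.1.2
    have := orderOf_dvd_of_pow_eq_one ((commute_iff_sq haa hbb).1 hab)
    have := Nat.le_of_dvd (by norm_num) this
    omega

theorem set_three_of_central_quotient {D : Set G} (hinv : ∀ d ∈ D, orderOf d = 2)
    (hconj : ∀ g : G, ∀ d ∈ D, g * d * g⁻¹ ∈ D) (t : G) (ht : orderOf t = 2)
    (htZ : t ∈ Subgroup.center G) (hDt : ∀ d ∈ D, d * t ∉ D) [(Subgroup.zpowers t).Normal]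
    (himg : Cfsg.IsThreeTranspositionSet ((QuotientGroup.mk : G → G ⧸ Subgroup.zpowers t) '' D)) :
    Cfsg.IsThreeTranspositionSet D := by
  refine ⟨hinv, fun d hd e he => ?_⟩
  have hdd := mul_self_of_order_two (hinv d hd)
  have hee := mul_self_of_order_two (hinv e he)
  have hdi := inv_of_order_two (hinv d hd)
  have hei := inv_of_order_two (hinv e he)
  have key : ∀ x : G, (QuotientGroup.mk x : G ⧸ Subgroup.zpowers t) = 1 → x = 1 ∨ x = t := by
    intro x hx
    rw [QuotientGroup.eq_one_iff, Subgroup.mem_zpowers_iff] at hx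
    obtain ⟨k, rfl⟩ := hx
    rw [← zpow_mod_orderOf, ht]
    rcases Int.emod_two_eq k with h | h <;> push_cast <;> rw [h] <;> simp
  rcases himg.2 _ ⟨d, hd, rfl⟩ _ ⟨e, he, rfl⟩ with h | h <;>
    rw [← QuotientGroup.mk_mul, ← QuotientGroup.mk_pow] at h <;>
    rcases key _ h with h1 | h1
  · exact Or.inl h1
  · exfalso
    have h2 : d * t ∈ D := by
      have : e * d * e = d * t := by
        rw [← h1, pow_two]; simp only [← mul_assoc]; rw [hdd, one_mul]
      have h3 := hconj e d hd
      rwa [hei, this] at h3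
    exact hDt d hd h2
  · exact Or.inr h1
  · exfalso
    have h2 : (e * d * e) * t = d * e * d := by
      have hsp : (d * e * d) * (e * d * e) = t := by
        rw [← h1, pow_succ, pow_two]; simp only [mul_assoc]
      have : d * e * d = t * (e * d * e)⁻¹ := by rw [← hsp, mul_inv_cancel_right]
      rw [this, mul_inv_rev, mul_inv_rev, hdi, hei, Subgroup.mem_center_iff.1 htZ]
      simp only [mul_assoc]
    have h3 := hconj e d hd
    rw [hei] at h3
    have h4 := hconj d e he
    rw [hdi, ← h2] at h4
    exact hDt _ h3 h4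

theorem sylow_members [Finite G] {D : Set G} (hD : Cfsg.IsThreeTranspositionGroup D)
    (T : Sylow 2 G) : IsMulCommutative (Subgroup.closure {d : G | d ∈ D ∧ d ∈ T}) ∧
      {d : G | d ∈ D ∧ d ∈ T}.ncard = Cfsg.commutingWidth D := by
  obtain ⟨hset, hconj, -⟩ := hD
  have hcomm : ∀ a ∈ {d : G | d ∈ D ∧ d ∈ T}, ∀ b ∈ {d : G | d ∈ D ∧ d ∈ T}, Commute a b := by
    rintro a ⟨ha, haT⟩ b ⟨hb, hbT⟩
    have haa := mul_self_of_order_two (hset.1 a ha)
    have hbb := mul_self_of_order_two (hset.1 b hb)
    rw [commute_iff_sq haa hbb]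
    rcases hset.2 a ha b hb with h | h
    · exact h
    · obtain ⟨k, hk⟩ := T.isPGroup' ⟨a * b, mul_mem haT hbT⟩
      have h2 : (a * b) ^ 2 ^ k = 1 := congrArg Subtype.val hk
      have hd : orderOf (a * b) ∣ Nat.gcd (2 ^ k) 3 :=
        Nat.dvd_gcd (orderOf_dvd_of_pow_eq_one h2) (orderOf_dvd_of_pow_eq_one h)
      rw [Nat.Coprime.gcd_eq_one (Nat.Coprime.pow_left k (by norm_num)), Nat.dvd_one,
        orderOf_eq_one_iff] at hd
      rw [hd, one_pow]
  constructor
  · refine ⟨⟨fun x y => Subtype.ext ?_⟩⟩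
    have hle : Subgroup.closure {d : G | d ∈ D ∧ d ∈ T} ≤
        Subgroup.centralizer {d : G | d ∈ D ∧ d ∈ T} := by
      rw [Subgroup.closure_le]
      intro a ha
      exact Subgroup.mem_centralizer_iff.2 fun b hb => hcomm b hb a ha
    have hle2 : Subgroup.closure {d : G | d ∈ D ∧ d ∈ T} ≤ Subgroup.centralizer
        ((Subgroup.closure {d : G | d ∈ D ∧ d ∈ T} : Subgroup G) : Set G) := by
      rw [Subgroup.closure_le]
      intro a ha
      exact Subgroup.mem_centralizer_iff.2 fun b hb =>
        (Subgroup.mem_centralizer_iff.1 (hle hb) a ha).symm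
    exact (Subgroup.mem_centralizer_iff.1 (hle2 y.2) x x.2)
  · rw [Cfsg.commutingWidth]
    symm
    apply IsGreatest.csSup_eq
    refine ⟨⟨_, fun d hd => hd.1, Set.toFinite _, hcomm, rfl⟩, ?_⟩
    rintro n ⟨E, hED, -, hEc, rfl⟩
    let X : Subgroup G := Subgroup.closure E
    have hX : IsPGroup 2 X := by
      intro x
      refine ⟨1, Subtype.ext ?_⟩
      rw [pow_one]
      show (x : G) ^ 2 = 1
      have h : ∀ y ∈ X, y ∈ Subgroup.centralizer E ∧ y ^ 2 = 1 := by
        intro y hy
        induction hy using Subgroup.closure_induction with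
        | mem y hy =>
          exact ⟨Subgroup.mem_centralizer_iff.2 fun b hb => hEc b hb y hy,
            by rw [← hset.1 y (hED hy), pow_orderOf_eq_one]⟩
        | one => exact ⟨one_mem _, one_pow 2⟩
        | mul y z hy hz ihy ihz =>
          refine ⟨mul_mem ihy.1 ihz.1, ?_⟩
          have : Commute y z := by
            have hle : X ≤ Subgroup.centralizer ((Subgroup.centralizer E : Subgroup G) : Set G) :=
              (Subgroup.closure_le _).2 fun a ha => Subgroup.mem_centralizer_iff.2 fun b hb =>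
                (Subgroup.mem_centralizer_iff.1 hb a ha).symm
            exact Subgroup.mem_centralizer_iff.1 (hle hz) y ihy.1
          rw [this.mul_pow, ihy.2, ihz.2, one_mul]
        | inv y hy ih => exact ⟨inv_mem ih.1, by rw [inv_pow, ih.2, inv_one]⟩
      exact (h x x.2).2
    obtain ⟨S, hS⟩ := hX.exists_le_sylow
    obtain ⟨g, hg⟩ := MulAction.exists_smul_eq G S T
    refine (Set.ncard_image_of_injective E (MulAut.conj g).injective).symm.le.trans
      (Set.ncard_le_ncard ?_)
    rintro _ ⟨a, ha, rfl⟩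
    refine ⟨hconj g a (hED ha), ?_⟩
    rw [← hg]
    show MulAut.conj g a ∈ ((g • S : Sylow 2 G) : Subgroup G)
    rw [Sylow.coe_subgroup_smul]
    exact Subgroup.smul_mem_pointwise_smul _ _ _ (hS (Subgroup.subset_closure ha))

theorem centralizes_big_prime [Finite G] {D : Set G} (hD : Cfsg.IsThreeTranspositionGroup D)
    {p : ℕ} (hp : p.Prime) (hp3 : 3 < p) (P : Subgroup G) (hP : IsPGroup p P) {d : G}
    (hd : d ∈ D) (hnorm : d ∈ Subgroup.normalizer (P : Set G)) : ∀ x ∈ P, Commute d x := by
  intro x hx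
  obtain ⟨hset, hconj, -⟩ := hD
  have hdd := mul_self_of_order_two (hset.1 d hd)
  have hdi := inv_of_order_two (hset.1 d hd)
  set w := d * (x * d * x⁻¹) with hw
  have hwP : w ∈ P := by
    have h1 : d * x * d⁻¹ ∈ P := (Subgroup.mem_normalizer_iff.1 hnorm x).1 hx
    rw [hdi] at h1
    have : w = d * x * d * x⁻¹ := by rw [hw]; simp only [mul_assoc]
    rw [this]; exact mul_mem h1 (inv_mem hx)
  obtain ⟨k, hk⟩ := hP ⟨w, hwP⟩
  have h2 : w ^ p ^ k = 1 := congrArg Subtype.val hk
  have hw1 : w = 1 := by
    have hcop : ∀ n : ℕ, w ^ n = 1 → n.Coprime p → w = 1 := fun n hn hnp => by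
      have hd := Nat.dvd_gcd (orderOf_dvd_of_pow_eq_one hn) (orderOf_dvd_of_pow_eq_one h2)
      rwa [Nat.Coprime.gcd_eq_one (hnp.pow_right k), Nat.dvd_one, orderOf_eq_one_iff] at hd
    rcases hset.2 d hd _ (hconj x d hd) with h | h
    · exact hcop 2 h ((Nat.coprime_primes Nat.prime_two hp).2 (by omega))
    · exact hcop 3 h ((Nat.coprime_primes Nat.prime_three hp).2 (by omega))
  rw [hw, mul_eq_one_iff_eq_inv', hdi, mul_inv_eq_iff_eq_mul] at hw1
  exact hw1.symm

theorem single_string {D : Set G} {d : G} (hd : d ∈ D) :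
    {v : G | v ∈ D ∧ ∀ e ∈ D, Commute v e ↔ Commute d e} = {d} ∨
      {w : G | w ∈ D ∧ {y : G | y ∈ D ∧ y ≠ d ∧ Commute d y} =
        {y : G | y ∈ D ∧ y ≠ w ∧ Commute w y}} = {d} := by
  by_contra hcon
  push_neg at hcon
  obtain ⟨hV, hW⟩ := hcon
  have mk : ∀ S : Set G, d ∈ S → S ≠ {d} → ∃ v ∈ S, v ≠ d := by
    intro S hdS hne
    by_contra h
    push_neg at h
    exact hne (Set.Subset.antisymm h (Set.singleton_subset_iff.2 hdS))
  obtain ⟨v, ⟨hv, hve⟩, hvd⟩ := mk _ (by exact ⟨hd, fun _ _ => Iff.rfl⟩) hV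
  obtain ⟨w, ⟨hw, hwe⟩, hwd⟩ := mk _ (by exact ⟨hd, rfl⟩) hW
  have hdv : Commute d v := ((hve d hd).2 (Commute.refl d)).symm
  have hdw : ¬ Commute d w := fun h => by
    have : w ∈ {y : G | y ∈ D ∧ y ≠ w ∧ Commute w y} := hwe ▸ ⟨hw, hwd, h⟩
    exact this.2.1 rfl
  have : v ∈ {y : G | y ∈ D ∧ y ≠ w ∧ Commute w y} := hwe ▸ ⟨hv, hvd, hdv⟩
  exact hdw ((hve w hw).1 this.2.2.symm)

theorem existsUnique_commuting_conj [Finite G] (d : G) (hd : orderOf d = 2)
    (hodd : ∀ a ∈ conjugatesOf d, ∀ b ∈ conjugatesOf d, Odd (orderOf (a * b)))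
    (x : G) (hx : orderOf x = 2) : ∀ e ∈ conjugatesOf d,
      ∃! a : G, a ∈ conjugatesOf d ∧ Commute a x ∧ Commute e (a * x) := by
  intro e he
  have hinv : ∀ a ∈ conjugatesOf d, orderOf a = 2 := fun a ha => by
    obtain ⟨g, rfl⟩ := isConj_iff.1 ha
    rw [← MulAut.conj_apply, MulEquiv.orderOf_eq, hd]
  have hconj : ∀ g : G, ∀ a ∈ conjugatesOf d, g * a * g⁻¹ ∈ conjugatesOf d := fun g a ha =>
    IsConj.trans ha (isConj_iff.2 ⟨g, rfl⟩)
  have hxx := mul_self_of_order_two hx
  have hxi := inv_of_order_two hx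
  set y := x * e * x with hy
  have hyD : y ∈ conjugatesOf d := by have := hconj x e he; rwa [hxi] at this
  have hee := mul_self_of_order_two (hinv e he)
  have hei := inv_of_order_two (hinv e he)
  have hyy := mul_self_of_order_two (hinv y hyD)
  have hyi := inv_of_order_two (hinv y hyD)
  have hxy : x * y * x = e := by
    rw [hy]; simp only [mul_assoc]; rw [hxx, mul_one, ← mul_assoc, hxx, one_mul]
  obtain ⟨m, hm⟩ := hodd e he y hyD
  set s := (e * y) ^ m with hs
  set a := s * e with ha
  have haD : a ∈ conjugatesOf d := refl_mem hconj he hyD hei hyi m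
  have hs2 : s * s * (e * y) = 1 := by
    rw [hs, ← pow_add, ← pow_succ, ← two_mul, ← hm, pow_orderOf_eq_one]
  have hesinv : e * s * e = s⁻¹ := invol_conj_pow hee hyy m
  have hsy : Commute s (e * y) := (Commute.refl _).pow_left m
  have hxax : x * a * x = a := by
    have h1 : x * s * x = s⁻¹ := by
      calc x * s * x = (x * (e * y) * x⁻¹) ^ m := by rw [hs, conj_pow, hxi]
        _ = ((e * y)⁻¹) ^ m := by
          congr 1
          rw [hxi, mul_inv_rev, hyi, hei]
          calc x * (e * y) * x = (x * e * x) * (x * y * x) := by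
                simp only [mul_assoc]; rw [← mul_assoc x x, hxx, one_mul]
            _ = y * e := by rw [← hy, hxy]
        _ = s⁻¹ := inv_pow _ _
    calc x * a * x = (x * s * x) * (x * e * x) := by
          rw [ha]; simp only [mul_assoc]; rw [← mul_assoc x x, hxx, one_mul]
      _ = s⁻¹ * y := by rw [h1, ← hy]
      _ = s * (e * y) * y := by
          congr 1
          exact inv_eq_of_mul_eq_one_right (by rw [← mul_assoc]; exact hs2)
      _ = a := by rw [ha, mul_assoc, mul_assoc, hyy, mul_one]
  have hax : Commute a x := by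
    calc a * x = x * a * x * x := by rw [hxax]
      _ = x * a := by rw [mul_assoc, hxx, mul_one]
  have hai := inv_of_order_two (hinv a haD)
  have haa := mul_self_of_order_two (hinv a haD)
  have haya : a * y * a = e := by
    calc a * y * a = s * (e * y) * s * e := by rw [ha]; simp only [mul_assoc]
      _ = s * s * (e * y) * e := by rw [mul_assoc s (e * y) s, ← hsy.eq, ← mul_assoc]
      _ = e := by rw [hs2, one_mul]
  have haea : a * e * a = y := by
    rw [← haya]; simp only [mul_assoc]; rw [haa, mul_one, ← mul_assoc, haa, one_mul]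
  refine ⟨a, ⟨haD, hax, ?_⟩, ?_⟩
  · show e * (a * x) = a * x * e
    calc e * (a * x) = a * y * a * (a * x) := by rw [haya]
      _ = a * (y * x) := by simp only [mul_assoc]; rw [← mul_assoc a a, haa, one_mul]
      _ = a * x * e := by
          rw [hy]; simp only [mul_assoc]; rw [hxx, mul_one]
  · rintro b ⟨hbD, hbx, hbe⟩
    have hbb := mul_self_of_order_two (hinv b hbD)
    have hbeb : b * e * b = y := by
      have h1 : e * (b * x) = b * x * e := hbe
      calc b * e * b = b * (e * (b * x)) * x := by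
            simp only [mul_assoc]; rw [hxx, mul_one]
        _ = b * (b * x * e) * x := by rw [h1]
        _ = y := by rw [hy, ← mul_assoc, ← mul_assoc, hbb, one_mul]
    set w := a * b with hw
    have hwe : Commute e w := by
      calc e * (a * b) = a * (a * e * a) * b := by
            simp only [← mul_assoc]; rw [haa, one_mul]
        _ = a * (b * e * b) * b := by rw [haea, hbeb]
        _ = a * b * e := by simp only [mul_assoc]; rw [hbb, mul_one]
    have hawa : a * w * a = w⁻¹ := by
      have := invol_conj_pow haa hbb 1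
      simpa [hw] using this
    have hstep : (e * a) * w * (e * a)⁻¹ = w⁻¹ := by
      calc (e * a) * w * (e * a)⁻¹ = e * (a * w * a) * e := by
            rw [mul_inv_rev, hai, hei]; simp only [mul_assoc]
        _ = w⁻¹ := by rw [hawa, hwe.inv_right.eq, mul_assoc, hee, mul_one]
    have hpow : ∀ k, (e * a) ^ (2 * k + 1) * w * ((e * a) ^ (2 * k + 1))⁻¹ = w⁻¹ := by
      intro k
      induction k with
      | zero => simpa using hstep
      | succ k ih =>
        rw [show 2 * (k + 1) + 1 = 1 + (1 + (2 * k + 1)) by ring, pow_add, pow_add, pow_one]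
        set u := e * a
        calc u * (u * u ^ (2 * k + 1)) * w * (u * (u * u ^ (2 * k + 1)))⁻¹
            = u * (u * (u ^ (2 * k + 1) * w * (u ^ (2 * k + 1))⁻¹) * u⁻¹) * u⁻¹ := by group
          _ = u * (u * w⁻¹ * u⁻¹) * u⁻¹ := by rw [ih]
          _ = u * (u * w * u⁻¹)⁻¹ * u⁻¹ := by group
          _ = u * w * u⁻¹ := by rw [hstep, inv_inv]; exact hstep
          _ = w⁻¹ := hstep
    obtain ⟨k, hk⟩ := hodd e he a haD
    have h2 := hpow k
    rw [← hk, pow_orderOf_eq_one] at h2
    simp only [one_mul, inv_one, mul_one] at h2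
    have hw2 : w ^ 2 = 1 := by rw [pow_two]; nth_rewrite 2 [h2]; exact mul_inv_cancel w
    have hd2 := orderOf_dvd_of_pow_eq_one hw2
    rcases (Nat.dvd_prime Nat.prime_two).1 hd2 with h3 | h3
    · rw [orderOf_eq_one_iff, hw, mul_eq_one_iff_eq_inv'] at h3
      rw [h3, hai]
    · have := hodd a haD b hbD
      rw [← hw, h3] at this
      exact absurd this (by decide)

end Cfsg.Agent.Spor
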