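import Cfsg.Agent.Lib.Spor.ThreeBasic
import Cfsg.Agent.Lib.Spor.ThreeElementary
import Cfsg.Agent.Lib.Char.ZStar
import Cfsg.Agent.Lib.Solv.Zipper
import Cfsg.Prelude.Def_FischerSpaces

/-!
Sets of 3-transpositions without commuting pairs, and the two equivalence relations on a class of
3-transpositions attached to the largest normal 2- and 3-subgroups.
-/

set_option autoImplicit false

namespace Cfsg.Agent.Spor

variable {G : Type*} [Group G]

theorem braid_of_not {D : Set G} (hD : Cfsg.IsThreeTranspositionSet D) {x y : G} (hx : x ∈ D)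
    (hy : y ∈ D) (h : ¬ Commute x y) : x * y * x = y * x * y :=
  (commute_or_braid hD hx hy).resolve_left h

theorem conj_mem' {D : Set G} (hD : Cfsg.IsThreeTranspositionGroup D) {x y : G} (hx : x ∈ D)
    (hy : y ∈ D) : x * y * x ∈ D := by
  have := hD.2.1 x y hy
  rwa [inv_of_order_two (hD.1.1 x hx)] at this

theorem mem_center_of_commutes {D : Set G} (hgen : Subgroup.closure D = ⊤) {x : G}
    (h : ∀ e ∈ D, Commute x e) : x ∈ Subgroup.center G := by
  rw [Subgroup.mem_center_iff]
  intro g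
  have hg : g ∈ Subgroup.closure D := hgen ▸ Subgroup.mem_top g
  induction hg using Subgroup.closure_induction with
  | mem e he => exact (h e he).symm
  | one => simp
  | mul a b _ _ ha hb => exact (Commute.mul_left (a := a) ha hb)
  | inv a _ ha => exact (Commute.inv_left (a := a) ha)

theorem mem_or_mul_mem {N : Subgroup G} [N.Normal] {d : G} (hd : d * d = 1)
    (h : Subgroup.zpowers d ⊔ N = ⊤) (g : G) : g ∈ N ∨ d * g ∈ N := by
  obtain ⟨a, ha, n, hn, rfl⟩ := Subgroup.mem_sup_of_normal_right.1 (h ▸ Subgroup.mem_top g)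
  obtain ⟨k, rfl⟩ := Subgroup.mem_zpowers_iff.1 ha
  rcases Int.even_or_odd k with ⟨j, rfl⟩ | ⟨j, rfl⟩
  · left
    rw [show j + j = 2 * j by ring, zpow_mul, zpow_ofNat, pow_two, hd, one_zpow, one_mul]
    exact hn
  · right
    rw [zpow_add_one, zpow_mul, zpow_ofNat, pow_two, hd, one_zpow, one_mul, ← mul_assoc, hd, one_mul]
    exact hn

theorem eq_one_of_pow_two_pgroup {N : Subgroup G} (hN : IsPGroup 3 N) {x : G} (hx : x ∈ N)
    (h : x ^ 2 = 1) : x = 1 := by
  obtain ⟨k, hk⟩ := hN ⟨x, hx⟩
  have h3 : x ^ 3 ^ k = 1 := congrArg Subtype.val hk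
  have hd := Nat.dvd_gcd (orderOf_dvd_of_pow_eq_one h) (orderOf_dvd_of_pow_eq_one h3)
  rwa [Nat.Coprime.gcd_eq_one ((by norm_num : Nat.Coprime 2 3).pow_right k), Nat.dvd_one,
    orderOf_eq_one_iff] at hd

theorem eq_one_of_pow_three_pgroup {N : Subgroup G} (hN : IsPGroup 2 N) {x : G} (hx : x ∈ N)
    (h : x ^ 3 = 1) : x = 1 := by
  obtain ⟨k, hk⟩ := hN ⟨x, hx⟩
  have h2 : x ^ 2 ^ k = 1 := congrArg Subtype.val hk
  have hd := Nat.dvd_gcd (orderOf_dvd_of_pow_eq_one h) (orderOf_dvd_of_pow_eq_one h2)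
  rwa [Nat.Coprime.gcd_eq_one ((by norm_num : Nat.Coprime 3 2).pow_right k), Nat.dvd_one,
    orderOf_eq_one_iff] at hd

theorem not_mem_core_three [Finite G] {D : Set G} (hD : Cfsg.IsThreeTranspositionSet D) {a : G}
    (ha : a ∈ D) : a ∉ Cfsg.pCore 3 G := fun h => by
  haveI : Fact (Nat.Prime 3) := ⟨Nat.prime_three⟩
  have := eq_one_of_pow_two_pgroup (Solv.pCore_isPGroup 3) h
    (by rw [pow_two]; exact mul_self_of_order_two (hD.1 a ha))
  have h2 := hD.1 a ha
  rw [this, orderOf_one] at h2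
  norm_num at h2

theorem conj_image_ncard (d : G) (P : Subgroup G) :
    ((fun x : G => x * d * x⁻¹) '' (P : Set G)).ncard =
      (Subgroup.centralizer ({d} : Set G)).relIndex P := by
  rw [Subgroup.relIndex, Subgroup.index_eq_card, ← Nat.card_coe_set_eq]
  refine (Nat.card_congr (Equiv.ofBijective
    (fun q : P ⧸ (Subgroup.centralizer ({d} : Set G)).subgroupOf P => Quotient.liftOn' q
      (fun x => (⟨x.1 * d * x.1⁻¹, x.1, x.2, rfl⟩ :
        ↥((fun x : G => x * d * x⁻¹) '' (P : Set G)))) ?_) ⟨?_, ?_⟩)).symm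
  · intro x y hxy
    rw [QuotientGroup.leftRel_apply, Subgroup.mem_subgroupOf,
      Subgroup.mem_centralizer_singleton_iff] at hxy
    apply Subtype.ext
    show x.1 * d * x.1⁻¹ = y.1 * d * y.1⁻¹
    have h2 : (x.1⁻¹ * y.1) * d = d * (x.1⁻¹ * y.1) := hxy
    calc x.1 * d * x.1⁻¹ = x.1 * (d * (x.1⁻¹ * y.1)) * y.1⁻¹ := by group
      _ = y.1 * d * y.1⁻¹ := by rw [← h2]; group
  · intro q r
    induction q using Quotient.inductionOn' with | h x =>
    induction r using Quotient.inductionOn' with | h y =>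
    intro h
    have h' : x.1 * d * x.1⁻¹ = y.1 * d * y.1⁻¹ := congrArg Subtype.val h
    apply Quotient.sound'
    rw [QuotientGroup.leftRel_apply, Subgroup.mem_subgroupOf,
      Subgroup.mem_centralizer_singleton_iff]
    show x.1⁻¹ * y.1 * d = d * (x.1⁻¹ * y.1)
    symm
    calc d * (x.1⁻¹ * y.1) = x.1⁻¹ * (x.1 * d * x.1⁻¹) * y.1 := by group
      _ = x.1⁻¹ * y.1 * d := by rw [h']; group
  · rintro ⟨_, x, hx, rfl⟩
    exact ⟨QuotientGroup.mk ⟨x, hx⟩, rfl⟩

/-- With no commuting pairs, the group is the largest normal 3-subgroup extended by one member. -/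
theorem width_one_generate [Finite G] {D : Set G} (hD : Cfsg.IsThreeTranspositionGroup D) {d : G}
    (hd : d ∈ D) (h1 : ∀ a ∈ D, ∀ b ∈ D, Commute a b → a = b) :
    Subgroup.zpowers d ⊔ Cfsg.pCore 3 G = ⊤ := by
  classical
  haveI : Fact (Nat.Prime 3) := ⟨Nat.prime_three⟩
  haveI : Fact (Nat.Prime 2) := ⟨Nat.prime_two⟩
  obtain ⟨hset, hconj, hgen⟩ := hD
  have hdd := mul_self_of_order_two (hset.1 d hd)
  have hd1 : d ≠ 1 := fun h => by have := hset.1 d hd; rw [h, orderOf_one] at this; norm_num at this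
  have hodd : Char.OddInvol d := by
    refine ⟨hdd, hd1, fun g => ?_⟩
    have he := hconj g d hd
    rcases hset.2 d hd _ he with h | h
    · have hcomm : Commute d (g * d * g⁻¹) := by
        have hee := mul_self_of_order_two (hset.1 _ he)
        have hdi := inv_of_order_two (hset.1 d hd)
        have hei := inv_of_order_two (hset.1 _ he)
        rw [pow_two, mul_eq_one_iff_eq_inv, mul_inv_rev, hdi, hei] at h
        exact h
      rw [← h1 d hd _ he hcomm, hdd, orderOf_one]; exact odd_one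
    · exact Odd.of_dvd_nat (by decide) (orderOf_dvd_of_pow_eq_one h)
  have hz := Char.zStar hodd
  set O := Cfsg.oddCore G with hOdef
  have hOodd : Odd (Nat.card O) := Char.card_oddCore_odd G
  have hdO : d ∉ O := fun h => by
    have h2 := Subgroup.orderOf_dvd_natCard O h
    rw [hset.1 d hd] at h2
    exact Nat.not_even_iff_odd.2 hOodd (even_iff_two_dvd.2 h2)
  have hbraid : ∀ a ∈ D, ∀ b ∈ D, a ≠ b → a * b * a = b * a * b := fun a ha b hb hne =>
    braid_of_not hset ha hb fun hc => hne (h1 a ha b hb hc)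
  have hconjd : ∀ a ∈ D, ∃ g : G, g * d * g⁻¹ = a := by
    intro a ha
    by_cases he : d = a
    · exact ⟨1, by simp [he]⟩
    refine ⟨d * a, ?_⟩
    rw [mul_inv_rev, inv_of_order_two (hset.1 d hd), inv_of_order_two (hset.1 a ha)]
    calc d * a * d * (a * d) = (d * a * d) * a * d := by simp only [mul_assoc]
      _ = (a * d * a) * a * d := by rw [hbraid d hd a ha he]
      _ = a := by rw [mul_assoc (a * d) a a, mul_self_of_order_two (hset.1 a ha), mul_one, mul_assoc,
          hdd, mul_one]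
  have htop : Subgroup.zpowers d ⊔ O = ⊤ := by
    rw [eq_top_iff, ← hgen, Subgroup.closure_le]
    intro a ha
    obtain ⟨g, rfl⟩ := hconjd a ha
    have h := inv_mem (hz g)
    have e : g * d * g⁻¹ = (d * g * d⁻¹ * g⁻¹)⁻¹ * d := by group
    rw [SetLike.mem_coe, e]
    exact Subgroup.mul_mem _ (Subgroup.mem_sup_right h) (Subgroup.mem_sup_left (Subgroup.mem_zpowers d))
  have hnc2 : ∀ {g : G}, g ∉ O → d * g ∈ O := fun {g} h => (mem_or_mul_mem hdd htop g).resolve_left h
  have hidx : O.index = 2 := by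
    rw [Subgroup.index_eq_two_iff']
    refine ⟨d, fun b => ?_⟩
    by_cases hb : b ∈ O
    · refine Or.inr ⟨hb, fun h => hdO ?_⟩
      simpa using mul_mem h (inv_mem hb)
    · exact Or.inl ⟨hnc2 hb, hb⟩
  have hcardG : Nat.card G = 2 * Nat.card O := by rw [← Subgroup.card_mul_index O, hidx, mul_comm]
  -- an element of `D` normalises a Sylow subgroup for every odd prime
  have hnorm : ∀ p : ℕ, p.Prime → p ≠ 2 → ∃ P : Sylow p G, d ∈ Subgroup.normalizer (P : Set G) := by
    intro p hp hp2
    haveI := Fact.mk hp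
    obtain ⟨P⟩ : Nonempty (Sylow p O) := inferInstance
    have hfr := P.normalizer_sup_eq_top
    set N := Subgroup.normalizer (((P : Subgroup O).map O.subtype : Subgroup G) : Set G) with hN
    obtain ⟨n, hn, hnO⟩ : ∃ n ∈ N, n ∉ O := by
      by_contra h
      push Not at h
      have h' : N ≤ O := h
      rw [sup_eq_right.2 h'] at hfr
      exact hdO (hfr ▸ Subgroup.mem_top d)
    have hne : Even (Nat.card N) := by
      by_contra hod
      rw [Nat.not_even_iff_odd] at hod
      have h2 := Subgroup.orderOf_dvd_natCard N hn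
      have hq : (QuotientGroup.mk n : G ⧸ O) = 1 := by
        rw [← orderOf_eq_one_iff]
        have hA : orderOf (QuotientGroup.mk n : G ⧸ O) ∣ orderOf n := orderOf_map_dvd (QuotientGroup.mk' O) n
        have hB : orderOf (QuotientGroup.mk n : G ⧸ O) ∣ 2 :=
          (orderOf_dvd_natCard _).trans (dvd_of_eq ((Subgroup.index_eq_card O).symm.trans hidx))
        rcases (Nat.dvd_prime Nat.prime_two).1 hB with h | h
        · exact h
        · rw [h] at hA
          exact absurd (even_iff_two_dvd.2 (hA.trans h2)) (Nat.not_even_iff_odd.2 hod)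
      exact hnO ((QuotientGroup.eq_one_iff n).1 hq)
    obtain ⟨t, ht⟩ := exists_prime_orderOf_dvd_card' (G := N) 2 (even_iff_two_dvd.1 hne)
    have ht' : orderOf (t : G) = 2 := by rw [Subgroup.orderOf_coe, ht]
    have hsyl : ∀ x : G, orderOf x = 2 → ∃ S : Sylow 2 G, (S : Subgroup G) = Subgroup.zpowers x := by
      intro x hx
      refine ⟨(IsPGroup.of_card (n := 1) (by rw [Nat.card_zpowers, hx, pow_one]) :
        IsPGroup 2 (Subgroup.zpowers x)).toSylow ?_, rfl⟩
      intro h2
      have := Subgroup.card_mul_index (Subgroup.zpowers x)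
      rw [Nat.card_zpowers, hx, hcardG] at this
      have h3 : (Subgroup.zpowers x).index = Nat.card O := by omega
      rw [h3] at h2
      exact Nat.not_even_iff_odd.2 hOodd (even_iff_two_dvd.2 h2)
    obtain ⟨S, hS⟩ := hsyl _ ht'
    obtain ⟨T, hT⟩ := hsyl _ (hset.1 d hd)
    obtain ⟨g, hg⟩ := MulAction.exists_smul_eq G S T
    have hmem : g * (t : G) * g⁻¹ ∈ (T : Subgroup G) := by
      rw [← hg]
      exact Subgroup.mem_map_of_mem _ (hS ▸ Subgroup.mem_zpowers _)
    rw [hT, Subgroup.mem_zpowers_iff] at hmem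
    obtain ⟨k, hk⟩ := hmem
    have hgt : g * (t : G) * g⁻¹ = d := by
      rw [← hk]
      rcases Int.even_or_odd k with ⟨j, rfl⟩ | ⟨j, rfl⟩
      · exfalso
        rw [show j + j = 2 * j by ring, zpow_mul, zpow_ofNat, pow_two, hdd, one_zpow] at hk
        have : (t : G) = 1 := conj_eq_one_iff.1 hk.symm
        rw [this, orderOf_one] at ht'
        norm_num at ht'
      · rw [zpow_add_one, zpow_mul, zpow_ofNat, pow_two, hdd, one_zpow, one_mul]
    set Q : Subgroup G := (P : Subgroup O).map O.subtype with hQ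
    have hQp : IsPGroup p Q := P.2.map _
    have hQidx : ¬ p ∣ Q.index := by
      intro hdvd
      have e : Q.index = (P : Subgroup O).index * O.index := by
        rw [hQ, Subgroup.index_map_subtype]
      rw [e, hidx] at hdvd
      rcases hp.dvd_mul.1 hdvd with h | h
      · exact P.not_dvd_index h
      · exact hp2 ((Nat.prime_dvd_prime_iff_eq hp Nat.prime_two).1 h)
    refine ⟨g • hQp.toSylow hQidx, ?_⟩
    have htn : (t : G) ∈ Subgroup.normalizer (Q : Set G) := t.2
    rw [Subgroup.mem_normalizer_iff] at htn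
    show d ∈ Subgroup.normalizer (((g • hQp.toSylow hQidx : Sylow p G) : Subgroup G) : Set G)
    rw [Subgroup.mem_normalizer_iff]
    intro x
    have key : ∀ y : G, y ∈ ((g • hQp.toSylow hQidx : Sylow p G) : Subgroup G) ↔ g⁻¹ * y * g ∈ Q := fun y => by
      rw [Sylow.coe_subgroup_smul, Subgroup.mem_pointwise_smul_iff_inv_smul_mem]
      rw [MulAut.inv_def, MulAut.smul_def, MulAut.conj_symm_apply]
      rfl
    rw [key, key, htn (g⁻¹ * x * g)]
    rw [← hgt]
    group
  have hd_of : ∀ (C : Subgroup G) (p : ℕ), p.Prime → (∃ P : Sylow p G, (P : Subgroup G) ≤ C) →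
      ¬ p ∣ C.index := by
    intro C p hp ⟨P, hP⟩ hdvd
    haveI := Fact.mk hp
    exact P.not_dvd_index (hdvd.trans (Subgroup.index_dvd_of_le hP))
  set C := Subgroup.centralizer ({d} : Set G) with hC
  have hidxC : ∀ p : ℕ, p.Prime → p ≠ 3 → ¬ p ∣ C.index := by
    intro p hp hp3
    by_cases hp2 : p = 2
    · subst hp2
      intro hdvd
      have hzC : Subgroup.zpowers d ≤ C :=
        Subgroup.zpowers_le.2 (Subgroup.mem_centralizer_singleton_iff.2 rfl)
      have h2 := hdvd.trans (Subgroup.index_dvd_of_le hzC)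
      have := Subgroup.card_mul_index (Subgroup.zpowers d)
      rw [Nat.card_zpowers, hset.1 d hd, hcardG] at this
      have h3 : (Subgroup.zpowers d).index = Nat.card O := by omega
      rw [h3] at h2
      exact Nat.not_even_iff_odd.2 hOodd (even_iff_two_dvd.2 h2)
    obtain ⟨P, hP⟩ := hnorm p hp hp2
    haveI := Fact.mk hp
    refine hd_of C p hp ⟨P, fun x hx => Subgroup.mem_centralizer_singleton_iff.2 ?_⟩
    exact (centralizes_big_prime ⟨hset, hconj, hgen⟩ hp (by have := hp.two_le; omega) (P : Subgroup G) P.2 hd hP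
      x hx).symm
  obtain ⟨P, hP⟩ := hnorm 3 Nat.prime_three (by norm_num)
  -- the conjugates of `d` under `P` are all of `D`
  have hDset : D = conjugatesOf d := by
    ext a
    refine ⟨fun ha => isConj_iff.2 (hconjd a ha), fun h => ?_⟩
    obtain ⟨g, rfl⟩ := isConj_iff.1 h
    exact hconj g d hd
  have hsub : D ⊆ (fun x : G => x * d * x⁻¹) '' (P : Set G) := by
    have hsub' : (fun x : G => x * d * x⁻¹) '' (P : Set G) ⊆ D := by
      rintro _ ⟨x, -, rfl⟩; exact hconj x d hd
    refine (Set.eq_of_subset_of_ncard_le hsub' ?_ (Set.toFinite _)).ge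
    have hDcard : D.ncard = C.index := by
      have e : D = (fun x : G => x * d * x⁻¹) '' ((⊤ : Subgroup G) : Set G) := by
        rw [hDset]
        ext a
        simp [conjugatesOf, isConj_iff]
      rw [e, conj_image_ncard, Subgroup.relIndex_top_right]
    rw [hDcard]
    have horb := conj_image_ncard d (P : Subgroup G)
    refine le_of_le_of_eq ?_ horb.symm
    have h3 : ∃ a, C.index = 3 ^ a := by
      refine ⟨C.index.factorization 3, Nat.dvd_antisymm ?_ (Nat.ordProj_dvd _ _)⟩
      have hne : C.index ≠ 0 := Subgroup.FiniteIndex.index_ne_zero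
      rw [← Nat.factorization_le_iff_dvd hne (pow_ne_zero _ (by norm_num))]
      intro p
      by_cases hp : p.Prime
      · by_cases hp3 : p = 3
        · subst hp3; rw [Nat.factorization_pow_self Nat.prime_three]
        · simp [Nat.factorization_eq_zero_of_not_dvd (hidxC p hp hp3)]
      · simp [Nat.factorization_eq_zero_of_not_prime _ hp]
    obtain ⟨a, ha⟩ := h3
    -- the 3-part of `|C|` bounds `|P ∩ C|`
    have h5 : C.index * (P : Subgroup G).relIndex C = C.relIndex (P : Subgroup G) * (P : Subgroup G).index := by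
      rw [← Subgroup.inf_relIndex_left C, ← Subgroup.inf_relIndex_right C, mul_comm C.index,
        Subgroup.relIndex_mul_index inf_le_left, Subgroup.relIndex_mul_index inf_le_right]
    have hdvd : C.index ∣ C.relIndex (P : Subgroup G) := by
      have hcop : Nat.Coprime C.index (P : Subgroup G).index := by
        rw [ha]
        exact Nat.Coprime.pow_left a ((Nat.Prime.coprime_iff_not_dvd Nat.prime_three).2 P.not_dvd_index)
      exact hcop.dvd_of_dvd_mul_right (h5 ▸ Dvd.intro _ rfl)
    exact Nat.le_of_dvd (Nat.pos_of_ne_zero (by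
      intro h0
      rw [h0] at horb
      rw [Set.ncard_eq_zero (Set.toFinite _), Set.image_eq_empty] at horb
      exact (horb ▸ (one_mem (P : Subgroup G) : (1 : G) ∈ (P : Set G)) : (1 : G) ∈ (∅ : Set G)))) hdvd
  have htop2 : Subgroup.zpowers d ⊔ (P : Subgroup G) = ⊤ := by
    rw [eq_top_iff, ← hgen, Subgroup.closure_le]
    intro a ha
    obtain ⟨x, hx, rfl⟩ := hsub ha
    exact Subgroup.mul_mem _ (Subgroup.mul_mem _ (Subgroup.mem_sup_right hx)
      (Subgroup.mem_sup_left (Subgroup.mem_zpowers d))) (inv_mem (Subgroup.mem_sup_right hx))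
  haveI : (P : Subgroup G).Normal := by
    refine Subgroup.normalizer_eq_top_iff.1 (top_le_iff.1 (htop2 ▸ sup_le ?_ Subgroup.le_normalizer))
    exact Subgroup.zpowers_le.2 hP
  exact top_le_iff.1 (htop2 ▸ sup_le_sup_left (Solv.normal_le_pCore P.2) _)

theorem width_one_products [Finite G] {D : Set G} (hD : Cfsg.IsThreeTranspositionGroup D)
    (h1 : ∀ a ∈ D, ∀ b ∈ D, Commute a b → a = b) {a b : G} (ha : a ∈ D) (hb : b ∈ D) :
    a * b ∈ Cfsg.pCore 3 G := by
  rcases mem_or_mul_mem (mul_self_of_order_two (hD.1.1 a ha)) (width_one_generate hD ha h1) b with h | h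
  · exact absurd h (not_mem_core_three hD.1 hb)
  · exact h

/-- a subset closed under conjugation by its members and without commuting pairs -/
theorem local_width_one [Finite G] {D : Set G} (hD : Cfsg.IsThreeTranspositionSet D) {X : Set G}
    (hXD : X ⊆ D) (hX : ∀ x ∈ X, ∀ y ∈ X, x * y * x ∈ X)
    (h1 : ∀ x ∈ X, ∀ y ∈ X, Commute x y → x = y) :
    ∃ P : Subgroup G, IsPGroup 3 P ∧ (∀ a ∈ X, ∀ b ∈ X, a * b ∈ P) ∧
      ∀ g ∈ Subgroup.closure X, ∀ p ∈ P, g * p * g⁻¹ ∈ P := by
  haveI : Fact (Nat.Prime 3) := ⟨Nat.prime_three⟩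
  set H := Subgroup.closure X with hH
  set E : Set H := {h | (h : G) ∈ X} with hE
  have hnorm : H ≤ Subgroup.normalizer X := by
    rw [hH, Subgroup.closure_le]
    intro x hx
    have hxi := inv_of_order_two (hD.1 x (hXD hx))
    have hxx := mul_self_of_order_two (hD.1 x (hXD hx))
    rw [SetLike.mem_coe, Subgroup.mem_set_normalizer_iff]
    intro n
    rw [hxi]
    refine ⟨fun h => hX x hx n h, fun h => ?_⟩
    have h2 := hX x hx _ h
    rwa [show x * (x * n * x) * x = (x * x) * n * (x * x) by simp only [mul_assoc], hxx, one_mul,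
      mul_one] at h2
  have hEgrp : Cfsg.IsThreeTranspositionGroup E := by
    refine ⟨⟨fun h hh => ?_, fun h hh k hk => ?_⟩, fun g h hh => ?_, ?_⟩
    · rw [← Subgroup.orderOf_coe]; exact hD.1 _ (hXD hh)
    · exact (hD.2 _ (hXD hh) _ (hXD hk)).imp (fun e => Subtype.ext e) fun e => Subtype.ext e
    · exact ((Subgroup.mem_set_normalizer_iff.1 (hnorm g.2)) h).1 hh
    · exact Subgroup.closure_closure_coe_preimage
  refine ⟨(Cfsg.pCore 3 H).map H.subtype, (Solv.pCore_isPGroup 3).map _, fun a ha b hb => ?_, ?_⟩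
  · refine ⟨⟨a, Subgroup.subset_closure ha⟩ * ⟨b, Subgroup.subset_closure hb⟩, ?_, rfl⟩
    exact width_one_products hEgrp (fun x hx y hy hc => Subtype.ext (h1 _ hx _ hy (congrArg Subtype.val hc.eq)))
      ha hb
  · rintro g hg _ ⟨p, hp, rfl⟩
    haveI := Solv.pCore_normal (G := H) 3
    exact ⟨_, ‹(Cfsg.pCore 3 H).Normal›.conj_mem p hp ⟨g, hg⟩, rfl⟩

end Cfsg.Agent.Spor
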