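import Cfsg.Prelude.Def_SporadicB
import Cfsg.Agent.Lib.Small.Unitary.Generation
import Cfsg.Agent.Lib.Small.Unitary.Simple
import Cfsg.Agent.Lib.Classical.UnitaryTransRoot

/-!
Unitary transvections over the field with four elements form a class of 3-transpositions.
-/

set_option autoImplicit false
set_option linter.unusedSectionVars false

namespace Cfsg.Agent.Spor.UnitaryTrans

open Matrix Cfsg.Agent.Small Cfsg.Agent.Small.Unitary

variable {F : Type} [Field F] [Fintype F] [DecidableEq F] [StarRing F] [CharP F 2] {n : ℕ}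

section

variable (hstar : ∀ x : F, star x = x ^ 2)
include hstar

/-- a self-conjugate element is zero or one -/
theorem skew_cases {t : F} (ht : star t = -t) : t = 0 ∨ t = 1 := by
  rw [hstar, CharTwo.neg_eq] at ht
  rcases mul_eq_zero.1 (show t * (t - 1) = 0 by linear_combination ht) with h | h
  · exact .inl h
  · exact .inr (sub_eq_zero.1 h)

theorem star_mul_self_eq_one (hF : Fintype.card F = 4) {c : F} (hc : c ≠ 0) : star c * c = 1 := by
  refine Hermitian.star_mul_self_of_pow hstar ?_
  have := FiniteField.pow_card_sub_one_eq_one c hc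
  rwa [hF] at this

/-- the transvection at an isotropic vector -/
noncomputable def tv (v : Fin n → F) (hv : herm v v = 0) : Cfsg.SU n F 2 :=
  trans hstar v hv 1 (by rw [star_one, CharTwo.neg_eq])

theorem act_tv (v : Fin n → F) (hv : herm v v = 0) (x : Fin n → F) :
    act (tv hstar v hv) x = x + herm v x • v := by
  rw [tv, act_trans, one_mul]

theorem tv_sq (v : Fin n → F) (hv : herm v v = 0) : tv hstar v hv * tv hstar v hv = 1 := by
  apply Subtype.ext
  apply Subtype.ext
  show transMat v 1 * transMat v 1 = (1 : Matrix (Fin n) (Fin n) F)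
  rw [transMat_mul v hv, CharTwo.add_self_eq_zero, transMat, zero_smul, add_zero]

theorem tv_conj (g : Cfsg.SU n F 2) (v : Fin n → F) (hv : herm v v = 0) :
    g * tv hstar v hv * g⁻¹ = tv hstar (act g v) (by rw [herm_act hstar]; exact hv) :=
  conj_trans hstar g v hv 1 _

theorem tv_congr {v w : Fin n → F} (h : v = w) (hv : herm v v = 0) (hw : herm w w = 0) :
    tv hstar v hv = tv hstar w hw := by subst h; rfl

theorem tv_smul (hF : Fintype.card F = 4) {c : F} (hc : c ≠ 0) (v : Fin n → F) (hv : herm v v = 0)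
    (hcv : herm (c • v) (c • v) = 0) : tv hstar (c • v) hcv = tv hstar v hv := by
  apply Subtype.ext
  apply Subtype.ext
  show transMat (c • v) 1 = transMat v 1
  rw [transMat_smul_vec, star_mul_self_eq_one hstar hF hc, one_mul]

theorem tv_rank {v : Fin n → F} (hv0 : v ≠ 0) (hv : herm v v = 0) :
    (((tv hstar v hv).1 : Matrix (Fin n) (Fin n) F) - 1).rank = 1 := by
  have hmul : ∀ x, (((tv hstar v hv).1 : Matrix (Fin n) (Fin n) F) - 1) *ᵥ x = herm v x • v := by
    intro x
    rw [Matrix.sub_mulVec, Matrix.one_mulVec]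
    show act (tv hstar v hv) x - x = _
    rw [act_tv, add_sub_cancel_left]
  have hr : LinearMap.range (((tv hstar v hv).1 : Matrix (Fin n) (Fin n) F) - 1).mulVecLin =
      Submodule.span F {v} := by
    ext y
    rw [LinearMap.mem_range, Submodule.mem_span_singleton]
    constructor
    · rintro ⟨x, rfl⟩
      exact ⟨herm v x, (hmul x).symm⟩
    · rintro ⟨c, rfl⟩
      obtain ⟨w, hw⟩ := Cfsg.Agent.Classical.URoot.exists_herm_one hv0
      exact ⟨c • w, by rw [Matrix.mulVecLin_apply, hmul, herm_smul_right, hw, mul_one]⟩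
  rw [Matrix.rank, hr]
  exact finrank_span_singleton hv0

theorem exists_tv (g : Cfsg.SU n F 2) (hg : ((g.1 : Matrix (Fin n) (Fin n) F) - 1).rank = 1) :
    ∃ (v : Fin n → F) (hv : herm v v = 0), v ≠ 0 ∧ g = tv hstar v hv := by
  rw [Matrix.rank] at hg
  obtain ⟨⟨w, hw⟩, hw0, hspan⟩ := finrank_eq_one_iff'.1 hg
  have hw0' : w ≠ 0 := fun h => hw0 (Subtype.ext h)
  have hsub : ∀ x, ∃ c : F, c • w = act g x - x := by
    intro x
    obtain ⟨c, hc⟩ := hspan ⟨_, LinearMap.mem_range_self
      ((g.1 : Matrix (Fin n) (Fin n) F) - 1).mulVecLin x⟩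
    refine ⟨c, (congrArg Subtype.val hc).trans ?_⟩
    show ((g.1 : Matrix (Fin n) (Fin n) F) - 1) *ᵥ x = _
    rw [Matrix.sub_mulVec, Matrix.one_mulVec]
    rfl
  choose φ hφ using fun k => hsub (Pi.single k 1)
  have hM : (g.1 : Matrix (Fin n) (Fin n) F) = 1 + Matrix.vecMulVec w φ := by
    ext i k
    have h1 := congrFun (hφ k) i
    rw [Pi.smul_apply, smul_eq_mul, Pi.sub_apply, act, Matrix.mulVec_single_one,
      Pi.single_apply] at h1
    rw [Matrix.add_apply, Matrix.one_apply, Matrix.vecMulVec_apply, mul_comm (w i), h1]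
    exact (add_sub_cancel _ _).symm
  have hact : ∀ x, act g x = x + (φ ⬝ᵥ x) • w := by
    intro x
    show (g.1 : Matrix (Fin n) (Fin n) F) *ᵥ x = _
    rw [hM, Matrix.add_mulVec, Matrix.one_mulVec, Matrix.vecMulVec_mulVec]
    simp [mul_comm]
  have hφw : φ ⬝ᵥ w = 0 := by
    have hd : (g.1 : Matrix (Fin n) (Fin n) F).det = 1 := g.1.2
    rw [hM, Matrix.vecMulVec_eq Unit, Matrix.det_one_add_replicateCol_mul_replicateRow] at hd
    exact add_eq_left.1 hd
  obtain ⟨x₀, hx₀⟩ : ∃ x, φ ⬝ᵥ x = 1 := by
    obtain ⟨x, hx⟩ := hw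
    rw [Matrix.mulVecLin_apply, Matrix.sub_mulVec, Matrix.one_mulVec] at hx
    have hx' : act g x - x = w := hx
    rw [hact, add_sub_cancel_left] at hx'
    exact ⟨x, sub_eq_zero.1 ((smul_eq_zero.1
      (show (φ ⬝ᵥ x - 1) • w = 0 by rw [sub_smul, one_smul, hx', sub_self])).resolve_right hw0')⟩
  have hiso : ∀ x y, φ ⬝ᵥ y * herm x w + star (φ ⬝ᵥ x) * herm w y +
      star (φ ⬝ᵥ x) * (φ ⬝ᵥ y) * herm w w = 0 := by
    intro x y
    have h := herm_act hstar g x y
    rw [hact, hact] at h
    simp only [herm_add_left, herm_add_right, herm_smul_left, herm_smul_right] at h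
    linear_combination h
  have hww : herm w w = 0 := by
    simpa [hx₀, hφw] using hiso x₀ w
  obtain ⟨y, hy⟩ := Cfsg.Agent.Classical.URoot.exists_herm_one hw0'
  have hxw : herm x₀ w ≠ 0 := fun h => by simpa [h, hx₀, hww, hy] using hiso x₀ y
  set a := (herm x₀ w)⁻¹ with ha
  have hφ' : ∀ x, φ ⬝ᵥ x = -a * herm w x := by
    intro x
    have := hiso x₀ x
    rw [hx₀, star_one, hww] at this
    rw [ha]
    field_simp
    linear_combination this
  have hskew : star (-a) = -(-a) := by
    have := hiso x₀ x₀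
    rw [hx₀, star_one, hww, mul_zero, add_zero, one_mul, one_mul] at this
    rw [ha, star_neg, star_inv₀, star_herm,
      show herm w x₀ = -herm x₀ w by linear_combination this, inv_neg]
  have ha1 : -a = 1 := (skew_cases hstar hskew).resolve_left (by
    rw [ha, neg_eq_zero, inv_eq_zero]; exact hxw)
  refine ⟨w, hww, hw0', Cfsg.Agent.Classical.URoot.eq_of_act fun x => ?_⟩
  rw [hact, act_tv, hφ', ha1, one_mul]

theorem tv_order {v : Fin n → F} (hv0 : v ≠ 0) (hv : herm v v = 0) :
    orderOf (tv hstar v hv) = 2 := by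
  have : Fact (Nat.Prime 2) := ⟨Nat.prime_two⟩
  refine orderOf_eq_prime (by rw [pow_two, tv_sq]) fun h => ?_
  have := tv_rank hstar hv0 hv
  rw [h] at this
  simp at this

theorem tv_pair (hF : Fintype.card F = 4) {v w : Fin n → F} (hv : herm v v = 0) (hw : herm w w = 0) :
    (tv hstar v hv * tv hstar w hw) ^ 2 = 1 ∨ (tv hstar v hv * tv hstar w hw) ^ 3 = 1 := by
  have hinv : ∀ (u : Fin n → F) (hu : herm u u = 0), (tv hstar u hu)⁻¹ = tv hstar u hu :=
    fun u hu => inv_eq_of_mul_eq_one_right (tv_sq hstar u hu)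
  have hA := tv_sq hstar v hv
  have hB := tv_sq hstar w hw
  have h1 := tv_conj hstar (tv hstar v hv) w hw
  have h2 := tv_conj hstar (tv hstar w hw) v hv
  simp only [act_tv, hinv] at h1 h2
  rcases eq_or_ne (herm v w) 0 with h | h
  · left
    rw [tv_congr hstar (show w + herm v w • v = w by simp [h]) _ hw] at h1
    rw [pow_two, ← mul_assoc, h1, hB]
  · right
    have hs : star (herm v w) * herm v w = 1 := star_mul_self_eq_one hstar hF h
    have hh : herm w v = star (herm v w) := (star_herm v w).symm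
    have hvec : v + herm w v • w = star (herm v w) • (w + herm v w • v) := by
      rw [hh, smul_add, smul_smul, hs, one_smul, add_comm]
    have e : tv hstar v hv * tv hstar w hw * tv hstar v hv =
        tv hstar w hw * tv hstar v hv * tv hstar w hw := by
      rw [h1, h2]
      rw [tv_congr hstar hvec _ (by
        rw [← hvec, ← act_tv hstar w hw, herm_act hstar]; exact hv),
        tv_smul hstar hF (star_ne_zero.2 h)]
    generalize tv hstar v hv = A, tv hstar w hw = B at e hA hB ⊢
    calc (A * B) ^ 3 = (A * B * A) * (B * A * B) := by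
          rw [pow_succ, pow_two]; simp only [mul_assoc]
      _ = B * A * (B * B) * A * B := by rw [e]; simp only [mul_assoc]
      _ = 1 := by rw [hB, mul_one, mul_assoc B, hA, mul_one, hB]

/-- unitary transvections form a class of 3-transpositions -/
theorem isClass (hF : Fintype.card F = 4) (hn : 4 ≤ n) :
    Cfsg.IsThreeTranspositionClass {g : ↥(Cfsg.SU n F 2) |
      (((g : Matrix.SpecialLinearGroup (Fin n) F) : Matrix (Fin n) (Fin n) F) - 1).rank = 1} := by
  have hF' : Fintype.card F = 2 ^ 2 := by rw [hF]; norm_num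
  obtain ⟨e, f, P⟩ := exists_pair (n := n) hstar hF' (i := ⟨0, by omega⟩) (j := ⟨1, by omega⟩)
    (by simp [Fin.ext_iff])
  have he0 : e ≠ 0 := fun h => by
    have := P.ef
    rw [h, herm_zero_left] at this
    exact zero_ne_one this
  have hall : ∀ w : Fin n → F, w ≠ 0 → herm w w = 0 →
      Moves (⊤ : Subgroup (Cfsg.SU n F 2)) Finset.univ w e := fun w hw0 hw =>
    moves_to_e (hstar := hstar) hF' (fun _ _ _ _ => Subgroup.mem_top _) P (Finset.mem_univ _) (Finset.mem_univ _)
      (k := ⟨2, by omega⟩) (by simp [Fin.ext_iff]) hw0 hw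
      (fun m hm => absurd (Finset.mem_univ m) hm)
  refine ⟨⟨fun d hd => ?_, fun d hd d' hd' => ?_⟩, ⟨tv hstar e P.ee, tv_rank hstar he0 P.ee, ?_⟩, ?_⟩
  · obtain ⟨v, hv, hv0, rfl⟩ := exists_tv hstar d hd
    exact tv_order hstar hv0 hv
  · obtain ⟨v, hv, -, rfl⟩ := exists_tv hstar d hd
    obtain ⟨w, hw, -, rfl⟩ := exists_tv hstar d' hd'
    exact tv_pair hstar hF hv hw
  · ext g
    show _ ↔ IsConj (tv hstar e P.ee) g
    rw [isConj_iff]
    constructor
    · intro hg
      obtain ⟨v, hv, hv0, rfl⟩ := exists_tv hstar g hg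
      obtain ⟨c, -, -, hc⟩ := (hall v hv0 hv).symm
      exact ⟨c, (tv_conj hstar c e P.ee).trans (tv_congr hstar hc _ _)⟩
    · rintro ⟨c, rfl⟩
      show _ = 1
      rw [tv_conj]
      exact tv_rank hstar (fun h => he0 (act_injective c (h.trans (by simp [act])))) _
  · set D := {g : ↥(Cfsg.SU n F 2) |
      (((g : Matrix.SpecialLinearGroup (Fin n) F) : Matrix (Fin n) (Fin n) F) - 1).rank = 1} with hD
    have hDconj : ∀ x ∈ D, ∀ g, g * x * g⁻¹ ∈ D := fun x hx g => by
      obtain ⟨v, hv, hv0, rfl⟩ := exists_tv hstar x hx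
      rw [tv_conj]
      exact tv_rank hstar (fun h => hv0 (act_injective g (h.trans (by simp [act])))) _
    have : (Subgroup.closure D).Normal := ⟨fun x hx g => by
      have hle : Subgroup.closure D ≤ (Subgroup.closure D).comap (MulAut.conj g).toMonoidHom :=
        (Subgroup.closure_le _).2 fun y hy => Subgroup.subset_closure (hDconj y hy g)
      exact hle hx⟩
    refine normal_eq_top (hstar := hstar) hF' (by omega) (by omega) he0 P.ee fun t ht => ?_
    rcases skew_cases hstar ht with rfl | rfl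
    · have : trans hstar e P.ee (0 : F) ht = 1 := eq_one_of_act fun k => by rw [act_trans]; simp
      rw [this]; exact one_mem _
    · exact Subgroup.subset_closure (tv_rank hstar he0 P.ee)

end

end Cfsg.Agent.Spor.UnitaryTrans
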