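/-
The set `leechSet` is an additive group, and basic norm facts for `leechLattice`.
-/
import Cfsg.Agent.Lib.Spor.GolayTrans

set_option autoImplicit false
set_option maxRecDepth 100000

namespace Cfsg.Agent.Spor

open scoped Pointwise

/-- second binary digit of each coordinate, as a word -/
def digit (x : GolayPt → ℤ) : GolayPt → ZMod 2 := fun i => ((x i / 2 : ℤ) : ZMod 2)

/-- reformulation of membership in `leechSet` with a single code word -/
def InLeech (x : GolayPt → ℤ) : Prop :=
  ∃ m : ℤ, (∀ i, x i % 2 = m % 2) ∧ (∑ i, x i) % 8 = (4 * m) % 8 ∧ digit x ∈ golayCode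

theorem one_word_mem : (1 : GolayPt → ZMod 2) ∈ golayCode := Submodule.subset_span (Or.inr rfl)

theorem word_eq_one_or_zero (a : ZMod 2) : a = 0 ∨ a = 1 := by revert a; decide

theorem mem_leechSet_iff {x : GolayPt → ℤ} : x ∈ leechSet ↔ InLeech x := by
  constructor
  · rintro ⟨m, h2, h8, hk⟩
    refine ⟨m, h2, h8, ?_⟩
    obtain ⟨w, hw, hs⟩ := hk (m % 2 + 2)
    have : digit x = w := by
      funext i
      have hi : x i % 2 = m % 2 := h2 i
      have hiff : x i % 4 = (m % 2 + 2) % 4 ↔ w i ≠ 0 := by
        have h1 : i ∈ Finset.univ.filter (fun i => x i ≡ m % 2 + 2 [ZMOD 4]) ↔ w i ≠ 0 := by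
          rw [← hs]; exact mem_support₂
        rw [Finset.mem_filter] at h1
        exact ⟨fun h => h1.1 ⟨Finset.mem_univ _, h⟩, fun h => (h1.2 h).2⟩
      show ((x i / 2 : ℤ) : ZMod 2) = w i
      rcases word_eq_one_or_zero (w i) with h0 | h1
      · rw [h0, ZMod.intCast_zmod_eq_zero_iff_dvd]
        have : ¬ (x i % 4 = (m % 2 + 2) % 4) := fun h => hiff.1 h h0
        push_cast
        omega
      · have : x i % 4 = (m % 2 + 2) % 4 := hiff.2 (by rw [h1]; decide)
        rw [h1, show (1 : ZMod 2) = ((1 : ℤ) : ZMod 2) from by norm_num, ZMod.intCast_eq_intCast_iff']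
        push_cast
        omega
    rw [this]; exact hw
  · rintro ⟨m, h2, h8, hd⟩
    refine ⟨m, h2, h8, fun k => ?_⟩
    have hdig : ∀ i, digit x i = 0 ↔ (x i / 2) % 2 = 0 := by
      intro i
      rw [digit, ZMod.intCast_zmod_eq_zero_iff_dvd]
      push_cast
      omega
    by_cases hk : k % 2 = m % 2
    · by_cases hk2 : (k / 2) % 2 = 1
      · refine ⟨digit x, hd, ?_⟩
        ext i
        rw [mem_support₂, Ne, hdig i, Finset.mem_filter]
        have := h2 i
        simp only [Finset.mem_univ, true_and, Int.ModEq]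
        omega
      · refine ⟨digit x + 1, add_mem hd one_word_mem, ?_⟩
        ext i
        have hflip : digit x i + 1 = 0 ↔ ¬ digit x i = 0 := by
          generalize digit x i = a; revert a; decide
        rw [mem_support₂, Ne, Pi.add_apply, Pi.one_apply, hflip, not_not, hdig i, Finset.mem_filter]
        have := h2 i
        simp only [Finset.mem_univ, true_and, Int.ModEq]
        omega
    · refine ⟨0, zero_mem _, ?_⟩
      ext i
      rw [mem_support₂, Finset.mem_filter]
      have := h2 i
      simp only [Pi.zero_apply, ne_eq, not_true_eq_false, false_iff, not_and, Int.ModEq]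
      omega

theorem inLeech_add {x y : GolayPt → ℤ} (hx : InLeech x) (hy : InLeech y) : InLeech (x + y) := by
  obtain ⟨m, h2, h8, hd⟩ := hx
  obtain ⟨n, g2, g8, gd⟩ := hy
  refine ⟨m + n, fun i => ?_, ?_, ?_⟩
  · have := h2 i; have := g2 i; rw [Pi.add_apply]; omega
  · simp only [Pi.add_apply, Finset.sum_add_distrib]; omega
  · have : digit (x + y) = digit x + digit y + (((m % 2 * (n % 2) : ℤ)) : ZMod 2) • (1 : GolayPt → ZMod 2) := by
      funext i
      simp only [digit, Pi.add_apply, Pi.smul_apply, Pi.one_apply, smul_eq_mul, mul_one, ← Int.cast_add]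
      congr 1
      have := h2 i; have := g2 i
      rcases Int.emod_two_eq m with hm | hm <;> rcases Int.emod_two_eq n with hn | hn <;>
        rw [hm, hn] <;> omega
    rw [this]
    exact add_mem (add_mem hd gd) (Submodule.smul_mem _ _ one_word_mem)

theorem inLeech_zero : InLeech 0 := by
  refine ⟨0, fun i => rfl, by simp, ?_⟩
  have : digit (0 : GolayPt → ℤ) = 0 := by funext i; simp [digit]
  rw [this]; exact zero_mem _

theorem inLeech_neg {x : GolayPt → ℤ} (hx : InLeech x) : InLeech (-x) := by
  obtain ⟨m, h2, h8, hd⟩ := hx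
  refine ⟨-m, fun i => ?_, ?_, ?_⟩
  · have := h2 i; rw [Pi.neg_apply]; omega
  · simp only [Pi.neg_apply, Finset.sum_neg_distrib]; omega
  · have : digit (-x) = digit x + (((m % 2 : ℤ)) : ZMod 2) • (1 : GolayPt → ZMod 2) := by
      funext i
      simp only [digit, Pi.neg_apply, Pi.add_apply, Pi.smul_apply, Pi.one_apply, smul_eq_mul, mul_one,
        ← Int.cast_add]
      rw [ZMod.intCast_eq_intCast_iff']
      have := h2 i
      push_cast
      omega
    rw [this]
    exact add_mem hd (Submodule.smul_mem _ _ one_word_mem)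

/-- `leechSet` as a subgroup -/
def leechGroup : AddSubgroup (GolayPt → ℤ) where
  carrier := leechSet
  add_mem' := fun {a b} ha hb => mem_leechSet_iff.2 (inLeech_add (mem_leechSet_iff.1 ha) (mem_leechSet_iff.1 hb))
  zero_mem' := mem_leechSet_iff.2 inLeech_zero
  neg_mem' := fun {a} ha => mem_leechSet_iff.2 (inLeech_neg (mem_leechSet_iff.1 ha))

theorem leechLattice_eq : leechLattice = leechGroup :=
  le_antisymm ((AddSubgroup.closure_le _).2 (fun _ h => h)) AddSubgroup.subset_closure

theorem mem_leech {x : GolayPt → ℤ} : x ∈ leechLattice ↔ InLeech x := by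
  rw [leechLattice_eq]; exact mem_leechSet_iff

theorem sum_digit_sq_emod (x : GolayPt → ℤ) :
    (∑ i, (x i / 2) ^ 2) % 4 = (hammingNorm (digit x) : ℤ) % 4 := by
  have h : ∀ i, (x i / 2) ^ 2 % 4 = if digit x i ≠ 0 then 1 else 0 := by
    intro i
    have hd : digit x i = 0 ↔ (x i / 2) % 2 = 0 := by
      rw [digit, ZMod.intCast_zmod_eq_zero_iff_dvd]; push_cast; omega
    rcases Int.emod_two_eq (x i / 2) with he | ho
    · rw [if_neg (not_not.2 (hd.2 he))]
      obtain ⟨k, hk⟩ : ∃ k, x i / 2 = 2 * k := ⟨x i / 2 / 2, by omega⟩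
      rw [hk, show (2 * k) ^ 2 = 4 * k ^ 2 by ring]
      omega
    · rw [if_pos (fun h0 => by have := hd.1 h0; omega)]
      obtain ⟨k, hk⟩ : ∃ k, x i / 2 = 2 * k + 1 := ⟨x i / 2 / 2, by omega⟩
      rw [hk, show (2 * k + 1) ^ 2 = 4 * (k ^ 2 + k) + 1 by ring]
      omega
  rw [Finset.sum_int_mod, Finset.sum_congr rfl fun i _ => h i, Finset.sum_boole]
  rfl

theorem sum_emod_two (f : GolayPt → ℤ) : (∑ i, f i ^ 2) % 2 = (∑ i, f i) % 2 := by
  have h : ∀ i, f i ^ 2 % 2 = f i % 2 := by
    intro i
    rcases Int.emod_two_eq (f i) with he | ho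
    · obtain ⟨k, hk⟩ : ∃ k, f i = 2 * k := ⟨f i / 2, by omega⟩
      rw [hk, show (2 * k) ^ 2 = 2 * (2 * k ^ 2) by ring]; omega
    · obtain ⟨k, hk⟩ : ∃ k, f i = 2 * k + 1 := ⟨f i / 2, by omega⟩
      rw [hk, show (2 * k + 1) ^ 2 = 2 * (2 * k ^ 2 + 2 * k) + 1 by ring]; omega
  rw [Finset.sum_int_mod, Finset.sum_congr rfl fun i _ => h i, ← Finset.sum_int_mod]

theorem leech_norm {x : GolayPt → ℤ} (hx : x ∈ leechLattice) :
    (16 : ℤ) ∣ sqNorm x ∧ (x ≠ 0 → 32 ≤ sqNorm x) := by
  obtain ⟨m, h2, h8, hd⟩ := mem_leech.1 hx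
  have hwt := weight_mem_code hd
  have hq := sum_digit_sq_emod x
  have hwt4 : (hammingNorm (digit x) : ℤ) % 4 = 0 := by
    rcases hwt with h | h | h | h | h <;> rw [h] <;> rfl
  rw [hwt4] at hq
  have hcard : (Fintype.card GolayPt : ℤ) = 24 := by rfl
  rcases Int.emod_two_eq m with hm | hm
  · have hxi : ∀ i, x i = 2 * (x i / 2) := fun i => by have := h2 i; omega
    have hN : sqNorm x = 4 * ∑ i, (x i / 2) ^ 2 := by
      rw [sqNorm, Finset.mul_sum]
      exact Finset.sum_congr rfl fun i _ => by
        have h := hxi i; generalize x i / 2 = z at h ⊢; rw [h]; ring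
    refine ⟨by rw [hN]; omega, fun hne => ?_⟩
    by_contra hlt
    have hnn : 0 ≤ ∑ i, (x i / 2) ^ 2 := Finset.sum_nonneg fun i _ => sq_nonneg _
    rw [hN] at hlt
    rcases Nat.eq_zero_or_pos (hammingNorm (digit x)) with h0 | hpos
    · have hd0 : ∀ i, x i / 2 = 2 * (x i / 2 / 2) := by
        intro i
        have : digit x i = 0 := by
          have := hammingNorm_eq_zero.1 h0
          rw [this]; rfl
        rw [digit, ZMod.intCast_zmod_eq_zero_iff_dvd] at this
        push_cast at this
        omega
      have hN2 : ∑ i, (x i / 2) ^ 2 = 4 * ∑ i, (x i / 2 / 2) ^ 2 := by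
        rw [Finset.mul_sum]
        exact Finset.sum_congr rfl fun i _ => by
          have h := hd0 i; generalize x i / 2 / 2 = z at h ⊢; rw [h]; ring
      have hS : ∑ i, x i = 4 * ∑ i, x i / 2 / 2 := by
        rw [Finset.mul_sum]
        exact Finset.sum_congr rfl fun i _ => by have := hxi i; have := hd0 i; omega
      have hnn2 : 0 ≤ ∑ i, (x i / 2 / 2) ^ 2 := Finset.sum_nonneg fun i _ => sq_nonneg _
      have hne2 : ∑ i, (x i / 2 / 2) ^ 2 ≠ 0 := by
        intro h
        apply hne
        funext i
        have hz := (Finset.sum_eq_zero_iff_of_nonneg fun j _ => sq_nonneg _).1 h i (Finset.mem_univ i)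
        have : x i / 2 / 2 = 0 := pow_eq_zero_iff (n := 2) (by norm_num) |>.1 hz
        have := hxi i; have := hd0 i
        show x i = 0
        omega
      have := sum_emod_two fun i => x i / 2 / 2
      omega
    · have h8' : (8 : ℤ) ≤ hammingNorm (digit x) := by omega
      have hge : (hammingNorm (digit x) : ℤ) ≤ ∑ i, (x i / 2) ^ 2 := by
        rw [hammingNorm, ← Finset.sum_boole]
        refine Finset.sum_le_sum fun i _ => ?_
        split_ifs with h
        · have hne' : x i / 2 ≠ 0 := fun h0 => h (by rw [digit, h0]; rfl)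
          have := sq_pos_iff.2 hne'
          omega
        · exact sq_nonneg _
      omega
  · have hxi : ∀ i, x i = 2 * (x i / 2) + 1 := fun i => by have := h2 i; omega
    have hN : sqNorm x = 4 * ∑ i, (x i / 2) ^ 2 + 4 * ∑ i, x i / 2 + 24 := by
      rw [sqNorm, Finset.mul_sum, Finset.mul_sum, ← hcard, ← Finset.card_univ, Finset.cast_card,
        ← Finset.sum_add_distrib, ← Finset.sum_add_distrib]
      exact Finset.sum_congr rfl fun i _ => by
        have h := hxi i; generalize x i / 2 = z at h ⊢; rw [h]; ring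
    have hS : ∑ i, x i = 2 * (∑ i, x i / 2) + 24 := by
      rw [Finset.mul_sum, ← hcard, ← Finset.card_univ, Finset.cast_card, ← Finset.sum_add_distrib]
      exact Finset.sum_congr rfl fun i _ => hxi i
    refine ⟨by rw [hN]; omega, fun _ => ?_⟩
    have hge : (24 : ℤ) ≤ sqNorm x := by
      rw [sqNorm, ← hcard, ← Finset.card_univ, Finset.cast_card]
      refine Finset.sum_le_sum fun i _ => ?_
      have : x i ≠ 0 := fun h => by have := hxi i; omega
      have := sq_pos_iff.2 this
      omega
    omega

theorem sqNorm_add (x y : GolayPt → ℤ) : sqNorm (x + y) = sqNorm x + 2 * dotInt x y + sqNorm y := by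
  simp only [sqNorm, dotInt, Finset.mul_sum, ← Finset.sum_add_distrib, Pi.add_apply]
  exact Finset.sum_congr rfl fun i _ => by ring

theorem leech_dot {x y : GolayPt → ℤ} (hx : x ∈ leechLattice) (hy : y ∈ leechLattice) :
    (8 : ℤ) ∣ dotInt x y := by
  have h1 := (leech_norm hx).1
  have h2 := (leech_norm hy).1
  have h3 := (leech_norm (add_mem hx hy)).1
  rw [sqNorm_add] at h3
  omega

theorem leech_perm {σ : Equiv.Perm GolayPt} (hσ : σ ∈ M24) {x : GolayPt → ℤ} (hx : x ∈ leechLattice) :
    (fun i => x (σ i)) ∈ leechLattice := by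
  obtain ⟨m, h2, h8, hd⟩ := mem_leech.1 hx
  refine mem_leech.2 ⟨m, fun i => h2 _, ?_, ?_⟩
  · rw [Equiv.sum_comp σ x]; exact h8
  · rw [mem_code, wmask]
    have : support₂ (digit fun i => x (σ i)) = σ⁻¹ • support₂ (digit x) := by
      ext p
      rw [Finset.mem_inv_smul_finset_iff, mem_support₂, mem_support₂]
      rfl
    rw [this]
    exact mem_supports.1 (smul_supports (inv_mem hσ) ⟨_, hd, rfl⟩)

theorem leech_sign {c : Finset GolayPt} (hc : c ∈ supports (golayCode : Set (GolayPt → ZMod 2)))
    {x : GolayPt → ℤ} (hx : x ∈ leechLattice) : (fun i => if i ∈ c then -x i else x i) ∈ leechLattice := by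
  obtain ⟨m, h2, h8, hd⟩ := mem_leech.1 hx
  obtain ⟨w, hw, rfl⟩ := hc
  refine mem_leech.2 ⟨m, fun i => ?_, ?_, ?_⟩
  · have := h2 i
    dsimp only
    split_ifs <;> omega
  · -- the sum changes by twice the sum over the support, which is divisible by 8
    have hsplit : (∑ i, if i ∈ support₂ w then -x i else x i) =
        (∑ i, x i) - 2 * ∑ i ∈ support₂ w, x i := by
      rw [← Finset.sum_filter_add_sum_filter_not Finset.univ (· ∈ support₂ w) x, Finset.sum_ite,
        Finset.filter_univ_mem, Finset.sum_neg_distrib]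
      ring
    have hwt := weight_mem_code hw
    have hs4 : (∑ i ∈ support₂ w, x i) % 4 = 0 := by
      -- each summand is the parity plus twice the digit
      have hx' : ∀ i ∈ support₂ w, x i % 4 = (m % 2 + 2 * ((x i / 2) % 2)) % 4 := fun i _ => by
        have := h2 i; omega
      rw [Finset.sum_int_mod, Finset.sum_congr rfl hx', ← Finset.sum_int_mod, Finset.sum_add_distrib,
        Finset.sum_const, ← Finset.mul_sum, nsmul_eq_mul]
      have hcard : ((support₂ w).card : ℤ) % 4 = 0 := by
        have he : hammingNorm w = (support₂ w).card := rfl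
        rw [he] at hwt
        rcases hwt with h | h | h | h | h <;> rw [h] <;> rfl
      have hev : (∑ i ∈ support₂ w, (x i / 2) % 2) % 2 = 0 := by
        have horth := code_orth hw hd
        have hterm : ∀ i, w i * digit x i = if i ∈ support₂ w then ((x i / 2 : ℤ) : ZMod 2) else 0 := by
          intro i
          rcases word_eq_one_or_zero (w i) with h | h <;> simp [mem_support₂, h, digit]
        rw [Finset.sum_congr rfl fun i _ => hterm i, Finset.sum_ite_mem, Finset.univ_inter,
          ← Int.cast_sum, ZMod.intCast_zmod_eq_zero_iff_dvd] at horth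
        push_cast at horth
        rw [← Finset.sum_int_mod]
        omega
      have hc0 : ((support₂ w).card : ℤ) * (m % 2) % 4 = 0 := by rw [Int.mul_emod, hcard]; simp
      omega
    rw [hsplit]; omega
  · have : digit (fun i => if i ∈ support₂ w then -x i else x i) = digit x + (((m % 2 : ℤ)) : ZMod 2) • w := by
      funext i
      simp only [digit, Pi.add_apply, Pi.smul_apply, smul_eq_mul]
      rcases word_eq_one_or_zero (w i) with h | h
      · simp [mem_support₂, h]
      · rw [h, mul_one, if_pos (by simp [mem_support₂, h]), ← Int.cast_add, ZMod.intCast_eq_intCast_iff']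
        have := h2 i
        push_cast
        omega
    rw [this]
    exact add_mem hd (Submodule.smul_mem _ _ hw)

end Cfsg.Agent.Spor
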