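import Cfsg.Prelude.Def_MonsterType
import Cfsg.Agent.Lib.Solv.Cores
import Cfsg.Agent.Lib.Spor.ThreeBasic

/-!
Large extraspecial subgroups and automorphisms trivial modulo the centre.
-/

set_option autoImplicit false

namespace Cfsg.Agent.Spor

theorem inner_of_central {E : Type*} [Group E] [Finite E] (hE : Cfsg.IsExtraspecial 2 E)
    (φ : E ≃* E) (hφ : ∀ x : E, φ x * x⁻¹ ∈ Subgroup.center E) :
    ∃ g : E, ∀ x : E, φ x = g * x * g⁻¹ := by
  classical
  set Z := Subgroup.center E with hZ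
  have hZc : Nat.card Z = 2 := hE.2
  have hcom : commutator E = Z := hE.1.2.2
  let δ : E →* Z :=
    { toFun := fun x => ⟨φ x * x⁻¹, hφ x⟩
      map_one' := Subtype.ext (by simp)
      map_mul' := fun x y => Subtype.ext (by
        show φ (x * y) * (x * y)⁻¹ = (φ x * x⁻¹) * (φ y * y⁻¹)
        have hc := Subgroup.mem_center_iff.1 (hφ y) x⁻¹
        calc φ (x * y) * (x * y)⁻¹ = φ x * ((φ y * y⁻¹) * x⁻¹) := by rw [map_mul]; group
          _ = φ x * (x⁻¹ * (φ y * y⁻¹)) := by rw [hc]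
          _ = _ := by group) }
  let β : E → (E →* Z) := fun g =>
    { toFun := fun x => ⟨g * x * g⁻¹ * x⁻¹, by
        rw [← hcom, commutator_def]
        exact Subgroup.commutator_mem_commutator (Subgroup.mem_top g) (Subgroup.mem_top x)⟩
      map_one' := Subtype.ext (by simp)
      map_mul' := fun x y => Subtype.ext (by
        show g * (x * y) * g⁻¹ * (x * y)⁻¹ = (g * x * g⁻¹ * x⁻¹) * (g * y * g⁻¹ * y⁻¹)
        have hm : g * y * g⁻¹ * y⁻¹ ∈ Z := by
          rw [← hcom, commutator_def]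
          exact Subgroup.commutator_mem_commutator (Subgroup.mem_top g) (Subgroup.mem_top y)
        have hc := Subgroup.mem_center_iff.1 hm x⁻¹
        calc g * (x * y) * g⁻¹ * (x * y)⁻¹
            = g * x * g⁻¹ * ((g * y * g⁻¹ * y⁻¹) * x⁻¹) := by group
          _ = g * x * g⁻¹ * (x⁻¹ * (g * y * g⁻¹ * y⁻¹)) := by rw [hc]
          _ = _ := by group) }
  have hker : ∀ g h : E, β g = β h → (g : E ⧸ Z) = h := by
    intro g h hgh
    rw [QuotientGroup.eq, Subgroup.mem_center_iff]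
    intro x
    have h1 : g * x * g⁻¹ * x⁻¹ = h * x * h⁻¹ * x⁻¹ :=
      congrArg (fun f : E →* Z => ((f x : Z) : E)) hgh
    have h2 : g * x * g⁻¹ = h * x * h⁻¹ := mul_right_cancel h1
    calc x * (g⁻¹ * h) = g⁻¹ * (g * x * g⁻¹) * h := by group
      _ = g⁻¹ * h * x := by rw [h2]; group
  obtain ⟨ι, hι⟩ : ∃ ι : Z →* ℂˣ, Function.Injective ι := by
    haveI : Fact (Nat.Prime 2) := ⟨Nat.prime_two⟩
    haveI : IsCyclic Z := isCyclic_of_prime_card hZc
    haveI : NeZero (Nat.card Z) := ⟨by rw [hZc]; norm_num⟩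
    let e : Z ≃* rootsOfUnity 2 ℂ := mulEquivOfCyclicCardEq (by
      rw [hZc, Complex.card_rootsOfUnity])
    exact ⟨(rootsOfUnity 2 ℂ).subtype.comp e.toMonoidHom,
      (Subgroup.subtype_injective _).comp e.injective⟩
  haveI : NeZero (Monoid.exponent (Abelianization E)) := ⟨Monoid.exponent_ne_zero_of_finite⟩
  have hdual : Nat.card (Abelianization E →* ℂˣ) = Nat.card (E ⧸ Z) := by
    rw [CommGroup.card_monoidHom_of_hasEnoughRootsOfUnity, ← Subgroup.index_eq_card, ← hcom]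
    rfl
  have hfin : Finite (Abelianization E →* ℂˣ) :=
    Nat.finite_of_card_ne_zero (by rw [hdual]; exact Nat.card_pos.ne')
  let T : (E →* Z) → (Abelianization E →* ℂˣ) := fun f => Abelianization.lift (ι.comp f)
  have hT : Function.Injective T := fun f f' h => MonoidHom.ext fun x => hι (by
    have := DFunLike.congr_fun h (Abelianization.of x)
    simpa [T] using this)
  let s : E ⧸ Z → (Abelianization E →* ℂˣ) := fun q => T (β q.out)
  have hs : Function.Injective s := fun q q' h => by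
    have := hker _ _ (hT h)
    simpa using this
  haveI := hfin
  have hbij := (Nat.bijective_iff_injective_and_card s).2 ⟨hs, hdual.symm⟩
  obtain ⟨q, hq⟩ := hbij.2 (T δ)
  refine ⟨q.out, fun x => ?_⟩
  have h1 : q.out * x * q.out⁻¹ * x⁻¹ = φ x * x⁻¹ :=
    congrArg (fun f : E →* Z => ((f x : Z) : E)) (hT hq)
  exact (mul_right_cancel h1).symm

variable {G : Type*} [Group G]

theorem frattini_large [Finite G] (Q : Subgroup G) (hQ : Cfsg.IsLargeExtraspecial Q)
    (L : Subgroup G) [L.Normal] (hQL : Q ≤ L) :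
    L ⊔ Subgroup.normalizer (Q : Set G) = ⊤ := by
  haveI : Fact (Nat.Prime 2) := ⟨Nat.prime_two⟩
  obtain ⟨⟨⟨hQ2, -, -⟩, hZ⟩, hCQ, hN, -⟩ := hQ
  set ZG := (Subgroup.center Q).map Q.subtype with hZG
  have hZGc : Nat.card ZG = 2 := by
    rw [hZG, Subgroup.card_map_of_injective Q.subtype_injective, hZ]
  obtain ⟨T, hT⟩ := (hQ2.of_equiv (Subgroup.subgroupOfEquivOfLe hQL).symm :
    IsPGroup 2 (Q.subgroupOf L)).exists_le_sylow
  set T' := (T : Subgroup L).map L.subtype with hT'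
  have hQT : Q ≤ T' := fun q hq => ⟨⟨q, hQL hq⟩, hT hq, rfl⟩
  have hfr := Sylow.normalizer_sup_eq_top T
  rw [eq_top_iff, ← hfr, sup_comm]
  refine sup_le_sup_left ?_ L
  intro g hg
  -- the centre of the Sylow subgroup is the centre of Q
  have hTne : Nontrivial T' := by
    have hQne : Nontrivial ZG := Finite.one_lt_card_iff_nontrivial.1 (by rw [hZGc]; norm_num)
    obtain ⟨z, hz⟩ := exists_ne (1 : ZG)
    have hzQ : (z : G) ∈ Q := by
      obtain ⟨w, -, hw⟩ := z.2
      rw [← hw]; exact w.2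
    exact ⟨⟨⟨z, hQT hzQ⟩, 1, fun h => hz (Subtype.ext (congrArg (fun x : T' => (x : G)) h))⟩⟩
  have hT2 : IsPGroup 2 T' := T.isPGroup'.map _
  haveI := hTne
  haveI := hT2.center_nontrivial
  obtain ⟨v, hv⟩ := exists_ne (1 : Subgroup.center T')
  set z : G := ((v : T') : G) with hz
  have hzc : ∀ y ∈ T', y * z = z * y := fun y hy =>
    congrArg Subtype.val (Subgroup.mem_center_iff.1 v.2 ⟨y, hy⟩)
  have mem2 : ∀ w, (∀ y ∈ T', y * w = w * y) → w ∈ ZG := fun w hw =>
    hCQ ▸ Subgroup.mem_centralizer_iff.2 fun q hq => hw q (hQT hq)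
  have hzZ := mem2 z hzc
  have hz1 : z ≠ 1 := fun h => hv (Subtype.ext (Subtype.ext h))
  have only : ∀ w ∈ ZG, w ≠ 1 → w = z := by
    intro w hw hw1
    obtain ⟨u, -, hu⟩ := (Nat.card_eq_two_iff' (1 : ZG)).1 hZGc
    have e1 := hu ⟨w, hw⟩ (fun h => hw1 (congrArg Subtype.val h))
    have e2 := hu ⟨z, hzZ⟩ (fun h => hz1 (congrArg Subtype.val h))
    exact congrArg Subtype.val (e1.trans e2.symm)
  have hgz : g * z * g⁻¹ = z := by
    refine only _ (mem2 _ fun y hy => ?_) (fun h => hz1 (by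
      have := congrArg (fun t => g⁻¹ * t * g) h
      simpa [mul_assoc] using this))
    have hyT : g⁻¹ * y * g ∈ T' := by
      have := (Subgroup.mem_normalizer_iff.1 hg (g⁻¹ * y * g)).2
        (by rw [show g * (g⁻¹ * y * g) * g⁻¹ = y by group]; exact hy)
      exact this
    calc y * (g * z * g⁻¹) = g * ((g⁻¹ * y * g) * z) * g⁻¹ := by group
      _ = g * (z * (g⁻¹ * y * g)) * g⁻¹ := by rw [hzc _ hyT]
      _ = _ := by group
  apply hN
  rw [Subgroup.mem_centralizer_iff]
  intro w hw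
  by_cases hw1 : w = 1
  · simp [hw1]
  · rw [only w hw hw1]
    calc z * g = g * z * g⁻¹ * g := by rw [hgz]
      _ = g * z := by rw [inv_mul_cancel_right]

theorem large_of_center_le_core [Finite G] (Q : Subgroup G) (hL1 : Cfsg.IsExtraspecial 2 Q)
    (hL2 : Subgroup.centralizer (Q : Set G) = (Subgroup.center Q).map Q.subtype)
    (hL3 : Subgroup.centralizer (((Subgroup.center Q).map Q.subtype : Subgroup G) : Set G) ≤
      Subgroup.normalizer (Q : Set G))
    (hZ : (Subgroup.center Q).map Q.subtype ≤ Cfsg.pCore 2 G) :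
    Cfsg.IsLargeExtraspecial Q := by
  haveI : Fact (Nat.Prime 2) := ⟨Nat.prime_two⟩
  refine ⟨hL1, hL2, hL3, fun K hK hQK => ?_⟩
  have hodd : ∀ P : Subgroup G, IsPGroup 2 P → ∀ x, x ∈ P → x ∈ K → x = 1 := by
    intro P hP x hxP hxK
    obtain ⟨k, hk⟩ := hP ⟨x, hxP⟩
    have h1 : x ^ 2 ^ k = 1 := congrArg Subtype.val hk
    have h2 := Subgroup.orderOf_dvd_natCard K hxK
    have hd := Nat.dvd_gcd (orderOf_dvd_of_pow_eq_one h1) h2
    rw [Nat.Coprime.gcd_eq_one ((Nat.coprime_two_left.2 hK).pow_left k), Nat.dvd_one,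
      orderOf_eq_one_iff] at hd
    exact hd
  have hO2 : IsPGroup 2 (Cfsg.pCore 2 G) := Cfsg.Agent.Solv.pCore_isPGroup 2
  haveI hOn : (Cfsg.pCore 2 G).Normal := Cfsg.Agent.Solv.pCore_normal 2
  set ZG := (Subgroup.center Q).map Q.subtype with hZG
  have hZQ : ZG ≤ Q := Subgroup.map_subtype_le _
  have step1 : ∀ k ∈ K, ∀ z ∈ ZG, k * z = z * k := by
    intro k hk z hz
    have hc : k * z * k⁻¹ * z⁻¹ = 1 := by
      refine hodd _ hO2 _ (mul_mem (hOn.conj_mem z (hZ hz) k) (inv_mem (hZ hz))) ?_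
      have := (Subgroup.mem_normalizer_iff.1 (hQK (hZQ hz)) k⁻¹).1 (inv_mem hk)
      have h2 := mul_mem hk this
      simpa [mul_assoc] using h2
    calc k * z = k * z * k⁻¹ * z⁻¹ * (z * k) := by group
      _ = z * k := by rw [hc, one_mul]
  have hKN : K ≤ Subgroup.normalizer (Q : Set G) := fun k hk =>
    hL3 (Subgroup.mem_centralizer_iff.2 fun z hz => (step1 k hk z hz).symm)
  have step2 : K ≤ Subgroup.centralizer (Q : Set G) := by
    intro k hk
    refine Subgroup.mem_centralizer_iff.2 fun q hq => ?_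
    have hc : k * q * k⁻¹ * q⁻¹ = 1 := by
      refine hodd Q hL1.1.1 _ (mul_mem ((Subgroup.mem_normalizer_iff.1 (hKN hk) q).1 hq)
        (inv_mem hq)) ?_
      have := (Subgroup.mem_normalizer_iff.1 (hQK hq) k⁻¹).1 (inv_mem hk)
      have h2 := mul_mem hk this
      simpa [mul_assoc] using h2
    calc q * k = k * q * k⁻¹ * q⁻¹ * (q * k) := by rw [hc, one_mul]
      _ = k * q := by group
  rw [eq_bot_iff]
  intro k hk
  exact Subgroup.mem_bot.2 (hodd Q hL1.1.1 k (hZQ (hL2 ▸ step2 hk)) hk)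

end Cfsg.Agent.Spor
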