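import Cfsg.Agent.Lib.Spor.M22UTuples

/-!
A group of type M(22) is transitive on the ordered pairs and triples of distinct commuting members.
-/

set_option autoImplicit false
set_option maxRecDepth 100000
set_option linter.unusedSectionVars false

namespace Cfsg.Agent.Spor.M22U.Transit

open Cfsg.Agent.Spor.CC Cfsg.Agent.Spor.Fi22Cert Cfsg.Agent.Spor.Fi22Cert.U62Act TDat
open Cfsg.Agent.Spor.M22U.Tuples (P p0)

universe u
variable {G : Type u} [Group G] [Finite G] {D : Set G}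
variable (hD : Cfsg.IsThreeTranspositionGroup D) (hprim : Cfsg.IsPrimitiveUnderConj D)
  (ht : Cfsg.IsOfTypeM22 G D)

theorem trans_conj (e : pres.Grp ≃* G) (he : e '' Fischer.Dc = D) (g : G)
    (hconj : ∀ (g : G), ∀ d ∈ D, g * d * g⁻¹ ∈ D) : (e.trans (MulAut.conj g)) '' Fischer.Dc = D := by
  ext y
  constructor
  · rintro ⟨u, hu, rfl⟩
    exact hconj g _ (by rw [← he]; exact ⟨u, hu, rfl⟩)
  · intro hy
    have hy' : g⁻¹ * y * g ∈ D := (Spor.conj_mem_iff hconj g).1 hy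
    rw [← he] at hy'
    obtain ⟨u, hu, hue⟩ := hy'
    exact ⟨u, hu, by show g * e u * g⁻¹ = y; rw [hue]; group⟩

include hD hprim ht in
theorem conj2 {a b a' b' : G} (ha : a ∈ D) (hb : b ∈ D) (hab : a ≠ b) (cab : Commute a b)
    (ha' : a' ∈ D) (hb' : b' ∈ D) (hab' : a' ≠ b') (cab' : Commute a' b') :
    ∃ g : G, g * a * g⁻¹ = a' ∧ g * b * g⁻¹ = b' := by
  obtain ⟨e, he, hea, heb⟩ := Tuples.normal2 hD hprim ht ha hb hab cab
  obtain ⟨g, hg⟩ := hprim.1 a ha a' ha'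
  set φ := e.trans (MulAut.conj g)
  have hφ := trans_conj e he g hD.2.1
  have hφa : φ tA = a' := by show g * e tA * g⁻¹ = a'; rw [hea, hg]
  obtain ⟨k, hk, hkb⟩ := Tuples.member_pt φ hφ hb' (by rw [hφa]; exact Ne.symm hab') (by rw [hφa]; exact cab')
  obtain ⟨w, hw, hwk⟩ := Pts.from_first hk
  set H := Fischer.frame.hw w
  have hz := Fischer.frame.hw_comm_a hw
  rw [Tuples.frame_a] at hz
  have eA : H * tA * H⁻¹ = tA := mul_inv_eq_iff_eq_mul.mpr hz.symm.eq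
  have eB : H * P p0 * H⁻¹ = P k := by
    rw [Fischer.frame.hw_conj hw Tuples.p0_lt, hwk]
  refine ⟨g * e H, ?_, ?_⟩
  · calc g * e H * a * (g * e H)⁻¹ = g * e (H * tA * H⁻¹) * g⁻¹ := by
          rw [map_mul, map_mul, map_inv, hea]; group
      _ = a' := by rw [eA]; exact hφa
  · calc g * e H * b * (g * e H)⁻¹ = g * e (H * P p0 * H⁻¹) * g⁻¹ := by
          rw [map_mul, map_mul, map_inv, heb]; group
      _ = b' := by rw [eB]; exact hkb

include hD hprim ht in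
theorem conj3 {a b c a' b' c' : G} (ha : a ∈ D) (hb : b ∈ D) (hc : c ∈ D) (hab : a ≠ b) (hac : a ≠ c)
    (hbc : b ≠ c) (cab : Commute a b) (cac : Commute a c) (cbc : Commute b c)
    (ha' : a' ∈ D) (hb' : b' ∈ D) (hc' : c' ∈ D) (hab' : a' ≠ b') (hac' : a' ≠ c')
    (hbc' : b' ≠ c') (cab' : Commute a' b') (cac' : Commute a' c') (cbc' : Commute b' c') :
    ∃ g : G, g * a * g⁻¹ = a' ∧ g * b * g⁻¹ = b' ∧ g * c * g⁻¹ = c' := by
  obtain ⟨g₁, h1, h2⟩ := conj2 hD hprim ht ha hb hab cab ha' hb' hab' cab'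
  obtain ⟨e, he, hea, heb, hec⟩ := Tuples.normal3 hD hprim ht ha hb hc hab hac hbc cab cac cbc
  set φ := e.trans (MulAut.conj g₁)
  have hφ := trans_conj e he g₁ hD.2.1
  have hφa : φ tA = a' := by show g₁ * e tA * g₁⁻¹ = a'; rw [hea, h1]
  have hφb : φ (P p0) = b' := by show g₁ * e (P p0) * g₁⁻¹ = b'; rw [heb, h2]
  obtain ⟨j, hj, hjc⟩ := Tuples.member_pt φ hφ hc' (by rw [hφa]; exact Ne.symm hac') (by rw [hφa]; exact cac')
  have horth : orth p0 j = true := (Tuples.orth_iff φ Tuples.p0_lt hj).mp (by rw [hφb, hjc]; exact cbc')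
  obtain ⟨v, hv, v1, v2⟩ := Tuples.two_word hj horth fun h => hbc' (by rw [← hφb, ← hjc, h])
  set H := Fischer.frame.hw v
  have hz := Fischer.frame.hw_comm_a hv
  rw [Tuples.frame_a] at hz
  have eA : H * tA * H⁻¹ = tA := mul_inv_eq_iff_eq_mul.mpr hz.symm.eq
  have eB : H * P p0 * H⁻¹ = P p0 := by rw [Fischer.frame.hw_conj hv Tuples.p0_lt, v1]
  have eC : H * P q0 * H⁻¹ = P j := by rw [Fischer.frame.hw_conj hv Tuples.base_ok.1, v2]
  refine ⟨g₁ * e H, ?_, ?_, ?_⟩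
  · calc g₁ * e H * a * (g₁ * e H)⁻¹ = g₁ * e (H * tA * H⁻¹) * g₁⁻¹ := by
          rw [map_mul, map_mul, map_inv, hea]; group
      _ = a' := by rw [eA]; exact hφa
  · calc g₁ * e H * b * (g₁ * e H)⁻¹ = g₁ * e (H * P p0 * H⁻¹) * g₁⁻¹ := by
          rw [map_mul, map_mul, map_inv, heb]; group
      _ = b' := by rw [eB]; exact hφb
  · calc g₁ * e H * c * (g₁ * e H)⁻¹ = g₁ * e (H * P q0 * H⁻¹) * g₁⁻¹ := by
          rw [map_mul, map_mul, map_inv, hec]; group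
      _ = c' := by rw [eC]; exact hjc

end Cfsg.Agent.Spor.M22U.Transit
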