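import Cfsg.Agent.Lib.Spor.M22UTriples
import Cfsg.Agent.Lib.Spor.M22UTransit

/-!
The centralizer of a product of three commuting members has order 2^16 * 3^3.
-/

set_option autoImplicit false
set_option maxRecDepth 100000
set_option linter.unusedSectionVars false
set_option maxHeartbeats 2000000

namespace Cfsg.Agent.Spor.M22U.TripleCent

open Cfsg.Agent.Spor.CC Cfsg.Agent.Spor.Fi22Cert Cfsg.Agent.Spor.Fi22Cert.U62Act TDat
open Cfsg.Agent.Spor.M22U.Tuples (P p0)
open Cfsg.Agent.Spor.M22U.InvClasses (Good)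

universe u
variable {G : Type u} [Group G] [Finite G] {D : Set G}

theorem orbit_stab (H : Subgroup G) (x : G) :
    ((fun h => h * x * h⁻¹) '' (H : Set G)).ncard * Nat.card ↥(H ⊓ Subgroup.centralizer ({x} : Set G)) =
      Nat.card H := by
  set K := (H ⊓ Subgroup.centralizer ({x} : Set G)).subgroupOf H
  have hK : Nat.card K = Nat.card ↥(H ⊓ Subgroup.centralizer ({x} : Set G)) :=
    Nat.card_congr (Subgroup.subgroupOfEquivOfLe inf_le_left).toEquiv
  have hkey : ∀ a b : H, (a : G) * x * (a : G)⁻¹ = b * x * (b : G)⁻¹ ↔ a⁻¹ * b ∈ K := by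
    intro a b
    rw [Subgroup.mem_subgroupOf, Subgroup.mem_inf, Subgroup.mem_centralizer_singleton_iff]
    constructor
    · intro h
      refine ⟨(a⁻¹ * b).2, ?_⟩
      show (a : G)⁻¹ * b * x = x * ((a : G)⁻¹ * b)
      calc (a : G)⁻¹ * b * x = (a : G)⁻¹ * (b * x * (b : G)⁻¹) * b := by group
        _ = (a : G)⁻¹ * (a * x * (a : G)⁻¹) * b := by rw [h]
        _ = x * ((a : G)⁻¹ * b) := by group
    · rintro ⟨-, h⟩
      change (a : G)⁻¹ * b * x = x * ((a : G)⁻¹ * b) at h
      calc (a : G) * x * (a : G)⁻¹ = a * (x * ((a : G)⁻¹ * b)) * (b : G)⁻¹ := by group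
        _ = a * ((a : G)⁻¹ * b * x) * (b : G)⁻¹ := by rw [h]
        _ = b * x * (b : G)⁻¹ := by group
  let f : H ⧸ K → ↥((fun h => h * x * h⁻¹) '' (H : Set G)) :=
    Quotient.lift (fun a : H => ⟨(a : G) * x * (a : G)⁻¹, a, a.2, rfl⟩)
      fun a b h => Subtype.ext ((hkey a b).mpr (QuotientGroup.leftRel_apply.mp h))
  have hf : Function.Bijective f := by
    refine ⟨fun p q h => ?_, fun ⟨y, hy⟩ => ?_⟩
    · induction p using QuotientGroup.induction_on with
      | H a =>
        induction q using QuotientGroup.induction_on with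
        | H b => exact QuotientGroup.eq.mpr ((hkey a b).mp (congrArg Subtype.val h))
    · obtain ⟨a, ha, rfl⟩ := hy
      exact ⟨QuotientGroup.mk ⟨a, ha⟩, rfl⟩
  rw [← hK, ← Nat.card_coe_set_eq, ← Nat.card_congr (Equiv.ofBijective f hf),
    ← Subgroup.card_eq_card_quotient_mul_card_subgroup]

theorem common_count : ((Finset.range 693).filter fun k => orth p0 k && !(Nat.beq k p0)).card = 180 := by
  decide +kernel

variable (hD : Cfsg.IsThreeTranspositionGroup D) (hprim : Cfsg.IsPrimitiveUnderConj D)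
  (ht : Cfsg.IsOfTypeM22 G D)

include hD hprim ht in
theorem card_cent3 {a b c : G} (hl : Good D [a, b, c]) :
    Nat.card ↥(Subgroup.centralizer ({a} : Set G) ⊓ Subgroup.centralizer ({b} : Set G) ⊓
      Subgroup.centralizer ({c} : Set G)) = 147456 := by
  obtain ⟨hn, hmem, hcom⟩ := hl
  simp only [List.nodup_cons, List.mem_cons, List.not_mem_nil, or_false, not_or, List.nodup_nil, and_true,
    not_false_eq_true] at hn
  obtain ⟨⟨hab, hac⟩, hbc⟩ := hn
  have ha := hmem a (by simp)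
  have hb := hmem b (by simp)
  have hc := hmem c (by simp)
  have cab := hcom a (by simp) b (by simp)
  have cac := hcom a (by simp) c (by simp)
  have cbc := hcom b (by simp) c (by simp)
  have hCa := (Facts.cover_at hD hprim ht ha).1
  have cc : ∀ {g x : G}, g ∈ Subgroup.centralizer ({x} : Set G) → g * x * g⁻¹ = x := fun h =>
    mul_inv_eq_iff_eq_mul.mpr (Subgroup.mem_centralizer_singleton_iff.mp h)
  have mc : ∀ {g x : G}, g * x * g⁻¹ = x → g ∈ Subgroup.centralizer ({x} : Set G) := fun h =>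
    Subgroup.mem_centralizer_singleton_iff.mpr (mul_inv_eq_iff_eq_mul.mp h)
  obtain ⟨e, he, hea, heb, -⟩ := Tuples.normal3 hD hprim ht ha hb hc hab hac hbc cab cac cbc
  have hPD : ∀ k < 693, e (P k) ∈ D ∧ e (P k) ≠ a ∧ Commute a (e (P k)) := by
    intro k hk
    obtain ⟨h1, h2, h3⟩ := Fischer.frame.pt_mem hk
    refine ⟨by rw [← he]; exact ⟨_, h1, rfl⟩, fun h => h2 ?_, ?_⟩
    · rw [Tuples.frame_a]; exact e.injective (h.trans hea.symm)
    · rw [← hea, ← Tuples.frame_a]; exact h3.map e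
  have hPinj : Set.InjOn (fun k => e (P k)) (Set.Iio 693) := fun i hi j hj h =>
    Fischer.frame.pt_inj hi hj (e.injective h)
  have o1 : ((fun h => h * b * h⁻¹) '' (Subgroup.centralizer ({a} : Set G) : Set G)) =
      (fun k => e (P k)) '' Set.Iio 693 := by
    ext y
    constructor
    · rintro ⟨g, hg, rfl⟩
      obtain ⟨k, hk, hky⟩ := Tuples.member_pt e he (hD.2.1 g b hb)
        (by rw [hea]; exact fun h => hab ((MulAut.conj g).injective ((cc hg).trans h.symm)))
        (by
          rw [hea]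
          have h' : Commute (g * a * g⁻¹) (g * b * g⁻¹) := Spor.commute_conj_iff.mpr cab
          rwa [cc hg] at h')
      exact ⟨k, hk, hky⟩
    · rintro ⟨k, hk, rfl⟩
      obtain ⟨h1, h2, h3⟩ := hPD k hk
      obtain ⟨g, g1, g2⟩ := Transit.conj2 hD hprim ht ha hb hab cab ha h1 (Ne.symm h2) h3
      exact ⟨g, mc g1, g2⟩
  have hIio : ((fun k => e (P k)) '' Set.Iio 693).ncard = 693 := by
    rw [Set.ncard_image_of_injOn hPinj, ← Finset.coe_Iio, Set.ncard_coe_finset, Nat.card_Iio]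
  have e1 := orbit_stab (Subgroup.centralizer ({a} : Set G)) b
  rw [o1, hIio, hCa] at e1
  set C2 := Subgroup.centralizer ({a} : Set G) ⊓ Subgroup.centralizer ({b} : Set G)
  have o2 : ((fun h => h * c * h⁻¹) '' (C2 : Set G)) =
      (fun k => e (P k)) '' {k | k ∈ (Finset.range 693).filter fun k => orth p0 k && !(Nat.beq k p0)} := by
    ext y
    constructor
    · rintro ⟨g, hg, rfl⟩
      have g1 := cc (Subgroup.mem_inf.mp hg).1
      have g2 := cc (Subgroup.mem_inf.mp hg).2
      obtain ⟨k, hk, hky⟩ := Tuples.member_pt e he (hD.2.1 g c hc)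
        (by rw [hea]; exact fun h => hac ((MulAut.conj g).injective (g1.trans h.symm)))
        (by
          rw [hea]
          have h' : Commute (g * a * g⁻¹) (g * c * g⁻¹) := Spor.commute_conj_iff.mpr cac
          rwa [g1] at h')
      refine ⟨k, ?_, hky⟩
      simp only [Set.mem_setOf_eq, Finset.mem_filter, Finset.mem_range, Bool.and_eq_true, Bool.not_eq_true']
      refine ⟨hk, (Tuples.orth_iff e Tuples.p0_lt hk).mp ?_, ?_⟩
      · rw [heb, hky]
        have h' : Commute (g * b * g⁻¹) (g * c * g⁻¹) := Spor.commute_conj_iff.mpr cbc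
        rwa [g2] at h'
      · cases hbq : Nat.beq k p0
        · rfl
        · exfalso
          rw [Nat.eq_of_beq_eq_true hbq, heb] at hky
          exact hbc ((MulAut.conj g).injective (g2.trans hky))
    · rintro ⟨k, hk, rfl⟩
      simp only [Set.mem_setOf_eq, Finset.mem_filter, Finset.mem_range, Bool.and_eq_true, Bool.not_eq_true'] at hk
      obtain ⟨hk, ho, hne⟩ := hk
      obtain ⟨h1, h2, h3⟩ := hPD k hk
      have h4 : Commute b (e (P k)) := by rw [← heb]; exact (Tuples.orth_iff e Tuples.p0_lt hk).mpr ho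
      have h5 : b ≠ e (P k) := fun h => by
        rw [← heb] at h
        rw [← Fischer.frame.pt_inj Tuples.p0_lt hk (e.injective h), Nat.beq_refl] at hne
        exact Bool.noConfusion hne
      obtain ⟨g, g1, g2, g3⟩ := Transit.conj3 hD hprim ht ha hb hc hab hac hbc cab cac cbc ha hb h1 hab (Ne.symm h2)
        h5 cab h3 h4
      exact ⟨g, Subgroup.mem_inf.mpr ⟨mc g1, mc g2⟩, g3⟩
  have e2 := orbit_stab C2 c
  rw [o2, Set.ncard_image_of_injOn (hPinj.mono fun k hk => by
      exact Finset.mem_range.mp (Finset.mem_filter.mp hk).1),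
    show {k | k ∈ (Finset.range 693).filter fun k => orth p0 k && !(Nat.beq k p0)}.ncard = 180 from
      (Set.ncard_coe_finset _).trans common_count] at e2
  omega

include hD hprim ht in
theorem main {a b c : G} (hl : Good D [a, b, c]) :
    Nat.card ↥(Subgroup.centralizer ({a * b * c} : Set G)) = 2 ^ 16 * 3 ^ 3 := by
  have h3 := card_cent3 hD hprim ht hl
  obtain ⟨l₂, ⟨hl2, hlen2, hprod2⟩, hne2, hall⟩ := Triples.triples hD hprim ht hl
  obtain ⟨hn, hmem, hcom⟩ := hl
  simp only [List.nodup_cons, List.mem_cons, List.not_mem_nil, or_false, not_or, List.nodup_nil, and_true,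
    not_false_eq_true] at hn
  obtain ⟨⟨hab, hac⟩, hbc⟩ := hn
  have ha := hmem a (by simp)
  have hb := hmem b (by simp)
  have hc := hmem c (by simp)
  have cab := hcom a (by simp) b (by simp)
  have cac := hcom a (by simp) c (by simp)
  have cbc := hcom b (by simp) c (by simp)
  match l₂, hlen2 with
  | [p, q, r], _ =>
  obtain ⟨hn2, hmem2, hcom2⟩ := hl2
  simp only [List.nodup_cons, List.mem_cons, List.not_mem_nil, or_false, not_or, List.nodup_nil, and_true,
    not_false_eq_true] at hn2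
  obtain ⟨⟨hpq, hpr⟩, hqr⟩ := hn2
  have hp := hmem2 p (by simp)
  have hq := hmem2 q (by simp)
  have hr := hmem2 r (by simp)
  have cpq := hcom2 p (by simp) q (by simp)
  have cpr := hcom2 p (by simp) r (by simp)
  have cqr := hcom2 q (by simp) r (by simp)
  have hj : p * q * r = a * b * c := by simpa [mul_assoc] using hprod2
  set J := Subgroup.centralizer ({a * b * c} : Set G)
  have conjprod : ∀ g x y z : G, g * (x * y * z) * g⁻¹ = (g * x * g⁻¹) * (g * y * g⁻¹) * (g * z * g⁻¹) :=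
    fun g x y z => by group
  have inJ : ∀ g x y z : G, g * a * g⁻¹ = x → g * b * g⁻¹ = y → g * c * g⁻¹ = z → x * y * z = a * b * c → g ∈ J := by
    intro g x y z hx hy hz h
    refine Subgroup.mem_centralizer_singleton_iff.mpr (mul_inv_eq_iff_eq_mul.mp ?_)
    rw [conjprod, hx, hy, hz, h]
  have img : ∀ g ∈ J, (g * a * g⁻¹) * (g * b * g⁻¹) * (g * c * g⁻¹) = a * b * c := fun g hg => by
    rw [← conjprod]; exact mul_inv_eq_iff_eq_mul.mpr (Subgroup.mem_centralizer_singleton_iff.mp hg)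
  have imgGood : ∀ g : G, Good D [g * a * g⁻¹, g * b * g⁻¹, g * c * g⁻¹] := by
    intro g
    refine ⟨?_, ?_, ?_⟩
    · have : [g * a * g⁻¹, g * b * g⁻¹, g * c * g⁻¹] = [a, b, c].map (MulAut.conj g) := rfl
      rw [this]
      refine List.Nodup.map (MulAut.conj g).injective ?_
      simp [hab, hac, hbc]
    · intro x hx
      simp only [List.mem_cons, List.not_mem_nil, or_false] at hx
      rcases hx with rfl | rfl | rfl
      exacts [hD.2.1 g a ha, hD.2.1 g b hb, hD.2.1 g c hc]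
    · intro x hx y hy
      simp only [List.mem_cons, List.not_mem_nil, or_false] at hx hy
      rcases hx with rfl | rfl | rfl <;> rcases hy with rfl | rfl | rfl <;>
        exact Spor.commute_conj_iff.mpr (hcom _ (by simp) _ (by simp))
  -- the first member has six images
  have o1 : ((fun h => h * a * h⁻¹) '' (J : Set G)) = {x | x ∈ [a, b, c] ∨ x ∈ [p, q, r]} := by
    ext y
    constructor
    · rintro ⟨g, hg, rfl⟩
      rcases hall _ _ _ (imgGood g) (img g hg) with h | h
      · exact Or.inl ((h _).mp (by simp))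
      · exact Or.inr ((h _).mp (by simp))
    · have mk : ∀ {x y z : G}, x ∈ D → y ∈ D → z ∈ D → x ≠ y → x ≠ z → y ≠ z → Commute x y → Commute x z →
          Commute y z → x * y * z = a * b * c → x ∈ (fun h => h * a * h⁻¹) '' (J : Set G) := by
        intro x y z h1 h2 h3 h4 h5 h6 h7 h8 h9 h10
        obtain ⟨g, g1, g2, g3⟩ := Transit.conj3 hD hprim ht ha hb hc hab hac hbc cab cac cbc h1 h2 h3 h4 h5 h6 h7 h8 h9
        exact ⟨g, inJ g x y z g1 g2 g3 h10, g1⟩
      intro hy
      simp only [Set.mem_setOf_eq, List.mem_cons, List.not_mem_nil, or_false] at hy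
      rcases hy with (rfl | rfl | rfl) | (rfl | rfl | rfl)
      · exact mk ha hb hc hab hac hbc cab cac cbc rfl
      · exact mk hb ha hc (Ne.symm hab) hbc hac cab.symm cbc cac (by rw [cab.eq])
      · exact mk hc ha hb (Ne.symm hac) (Ne.symm hbc) hab cac.symm cbc.symm cab
          (by rw [mul_assoc, (cac.symm.mul_right cbc.symm).eq])
      · exact mk hp hq hr hpq hpr hqr cpq cpr cqr hj
      · exact mk hq hp hr (Ne.symm hpq) hqr hpr cpq.symm cqr cpr (by rw [cpq.symm.eq]; exact hj)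
      · exact mk hr hp hq (Ne.symm hpr) (Ne.symm hqr) hpq cpr.symm cqr.symm cpq
          (by rw [mul_assoc, (cpr.symm.mul_right cqr.symm).eq]; exact hj)
  -- the two triples are disjoint
  have hdisj : ∀ x ∈ [p, q, r], x ∉ [a, b, c] := by
    have key : ∀ {x y z u v w : G}, x = u → y ∈ D → z ∈ D → y ≠ z → Commute y z → v ∈ D → w ∈ D → v ≠ w →
        Commute v w → x * y * z = a * b * c → u * v * w = a * b * c →
        (∀ t, t ∈ [x, y, z] ↔ t ∈ [p, q, r]) → (∀ t, t ∈ [u, v, w] ↔ t ∈ [a, b, c]) → False := by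
      intro x y z u v w hxu hy hz hyz cyz hv hw hvw cvw e1 e2 s1 s2
      subst hxu
      apply hne2
      have h := Triples.pair_eq hD hprim ht hy hz hv hw hyz hvw cyz cvw
        (mul_left_cancel (a := x) (by rw [← mul_assoc, ← mul_assoc, e1, e2]))
      intro t
      rw [← s2 t, ← s1 t, List.mem_cons, h t, ← List.mem_cons (b := x)]
    intro x hx hx'
    simp only [List.mem_cons, List.not_mem_nil, or_false] at hx hx'
    have eA : b ∈ D ∧ c ∈ D ∧ b ≠ c ∧ Commute b c ∧ a * b * c = a * b * c ∧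
        ∀ t, t ∈ [a, b, c] ↔ t ∈ [a, b, c] := ⟨hb, hc, hbc, cbc, rfl, fun t => Iff.rfl⟩
    have eB : a ∈ D ∧ c ∈ D ∧ a ≠ c ∧ Commute a c ∧ b * a * c = a * b * c ∧
        ∀ t, t ∈ [b, a, c] ↔ t ∈ [a, b, c] := ⟨ha, hc, hac, cac, by rw [cab.eq], fun t => by
          simp only [List.mem_cons, List.not_mem_nil, or_false]; tauto⟩
    have eC : a ∈ D ∧ b ∈ D ∧ a ≠ b ∧ Commute a b ∧ c * a * b = a * b * c ∧
        ∀ t, t ∈ [c, a, b] ↔ t ∈ [a, b, c] := ⟨ha, hb, hab, cab,
          by rw [mul_assoc, (cac.symm.mul_right cbc.symm).eq], fun t => by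
          simp only [List.mem_cons, List.not_mem_nil, or_false]; tauto⟩
    have eP : q ∈ D ∧ r ∈ D ∧ q ≠ r ∧ Commute q r ∧ p * q * r = a * b * c ∧
        ∀ t, t ∈ [p, q, r] ↔ t ∈ [p, q, r] := ⟨hq, hr, hqr, cqr, hj, fun t => Iff.rfl⟩
    have eQ : p ∈ D ∧ r ∈ D ∧ p ≠ r ∧ Commute p r ∧ q * p * r = a * b * c ∧
        ∀ t, t ∈ [q, p, r] ↔ t ∈ [p, q, r] := ⟨hp, hr, hpr, cpr, by rw [cpq.symm.eq]; exact hj, fun t => by
          simp only [List.mem_cons, List.not_mem_nil, or_false]; tauto⟩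
    have eR : p ∈ D ∧ q ∈ D ∧ p ≠ q ∧ Commute p q ∧ r * p * q = a * b * c ∧
        ∀ t, t ∈ [r, p, q] ↔ t ∈ [p, q, r] := ⟨hp, hq, hpq, cpq,
          by rw [mul_assoc, (cpr.symm.mul_right cqr.symm).eq]; exact hj, fun t => by
          simp only [List.mem_cons, List.not_mem_nil, or_false]; tauto⟩
    obtain ⟨y, z, k1, k2, k3, k4, k5, k6⟩ : ∃ y z, y ∈ D ∧ z ∈ D ∧ y ≠ z ∧ Commute y z ∧ x * y * z = a * b * c ∧
        ∀ t, t ∈ [x, y, z] ↔ t ∈ [p, q, r] := by
      rcases hx with rfl | rfl | rfl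
      exacts [⟨_, _, eP⟩, ⟨_, _, eQ⟩, ⟨_, _, eR⟩]
    obtain ⟨v, w, m1, m2, m3, m4, m5, m6⟩ : ∃ v w, v ∈ D ∧ w ∈ D ∧ v ≠ w ∧ Commute v w ∧ x * v * w = a * b * c ∧
        ∀ t, t ∈ [x, v, w] ↔ t ∈ [a, b, c] := by
      rcases hx' with rfl | rfl | rfl
      exacts [⟨_, _, eA⟩, ⟨_, _, eB⟩, ⟨_, _, eC⟩]
    exact key rfl k1 k2 k3 k4 m1 m2 m3 m4 k5 m5 k6 m6
  have h6 : ({x | x ∈ [a, b, c] ∨ x ∈ [p, q, r]} : Set G).ncard = 6 := by
    classical
    have hnd : [a, b, c, p, q, r].Nodup := by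
      have d1 := hdisj p (by simp)
      have d2 := hdisj q (by simp)
      have d3 := hdisj r (by simp)
      simp only [List.mem_cons, List.not_mem_nil, or_false, not_or] at d1 d2 d3
      simp only [List.nodup_cons, List.mem_cons, List.not_mem_nil, or_false, not_or, List.nodup_nil, and_true,
        not_false_eq_true]
      exact ⟨⟨hab, hac, Ne.symm d1.1, Ne.symm d2.1, Ne.symm d3.1⟩,
        ⟨hbc, Ne.symm d1.2.1, Ne.symm d2.2.1, Ne.symm d3.2.1⟩,
        ⟨Ne.symm d1.2.2, Ne.symm d2.2.2, Ne.symm d3.2.2⟩, ⟨hpq, hpr⟩, hqr⟩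
    have e : ({x | x ∈ [a, b, c] ∨ x ∈ [p, q, r]} : Set G) = ([a, b, c, p, q, r].toFinset : Finset G) := by
      ext x
      simp only [Set.mem_setOf_eq, List.coe_toFinset, List.mem_cons, List.not_mem_nil, or_false]
      tauto
    rw [e, Set.ncard_coe_finset, List.toFinset_card_of_nodup hnd]
    rfl
  have e1 := orbit_stab J a
  rw [o1, h6] at e1
  set J1 := J ⊓ Subgroup.centralizer ({a} : Set G)
  have o2 : ((fun h => h * b * h⁻¹) '' (J1 : Set G)) = ({b, c} : Set G) := by
    ext y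
    constructor
    · rintro ⟨g, hg, rfl⟩
      have g1 : g * a * g⁻¹ = a :=
        mul_inv_eq_iff_eq_mul.mpr (Subgroup.mem_centralizer_singleton_iff.mp (Subgroup.mem_inf.mp hg).2)
      have h := img g (Subgroup.mem_inf.mp hg).1
      rw [g1, mul_assoc, mul_assoc a b c] at h
      exact Triples.pair_member hD hprim ht hb hc (hD.2.1 g b hb) (hD.2.1 g c hc) hbc cbc
        (Spor.commute_conj_iff.mpr cbc) (mul_left_cancel h).symm
    · rintro (rfl | rfl)
      · exact ⟨1, one_mem _, by group⟩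
      · obtain ⟨g, g1, g2, g3⟩ := Transit.conj3 hD hprim ht ha hb hc hab hac hbc cab cac cbc ha hc hb hac hab
          (Ne.symm hbc) cac cab cbc.symm
        refine ⟨g, Subgroup.mem_inf.mpr ⟨inJ g a _ _ g1 g2 g3 (by rw [mul_assoc, cbc.symm.eq, mul_assoc]),
          Subgroup.mem_centralizer_singleton_iff.mpr (mul_inv_eq_iff_eq_mul.mp g1)⟩, g2⟩
  have e2 := orbit_stab J1 b
  rw [o2, Set.ncard_pair hbc] at e2
  have hJ2 : J1 ⊓ Subgroup.centralizer ({b} : Set G) =
      Subgroup.centralizer ({a} : Set G) ⊓ Subgroup.centralizer ({b} : Set G) ⊓ Subgroup.centralizer ({c} : Set G) := by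
    ext g
    simp only [J1, J, Subgroup.mem_inf, Subgroup.mem_centralizer_singleton_iff]
    constructor
    · rintro ⟨⟨hj', ha'⟩, hb'⟩
      refine ⟨⟨ha', hb'⟩, ?_⟩
      have h1 : Commute g (a * b) := (show Commute g a from ha').mul_right hb'
      have h2 : Commute g ((a * b)⁻¹ * (a * b * c)) := h1.inv_right.mul_right hj'
      rwa [← mul_assoc, inv_mul_cancel, one_mul] at h2
    · rintro ⟨⟨ha', hb'⟩, hc'⟩
      exact ⟨⟨(((show Commute g a from ha').mul_right hb').mul_right hc').eq, ha'⟩, hb'⟩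
  rw [hJ2, h3] at e2
  omega

end Cfsg.Agent.Spor.M22U.TripleCent
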