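import Cfsg.Agent.Lib.Spor.CosetCert

/-!
Checker for permutation images of presented groups: relators act trivially, orbits of subgroups,
lower bounds for orders through stabiliser chains.
-/

set_option autoImplicit false

namespace Cfsg.Agent.Spor.CC

/-- image of a point under a generator in a packed table -/
def img (T : ℕ → ℕ → ℕ) (_ng x u : ℕ) : ℕ := T x u

/-- image of a point under a word (last letter first) -/
noncomputable def ev (T : ℕ → ℕ → ℕ) (ng : ℕ) (l : List ℕ) (u : ℕ) : ℕ := l.foldr (img T ng) u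

/-- the table gives involutions of the first `n` points, on a range -/
noncomputable def invOK (T : ℕ → ℕ → ℕ) (ng n st : ℕ) (len : ℕ) : Bool :=
  (List.range len).all fun j => (List.range ng).all fun x =>
    Nat.blt (img T ng x (Nat.add st j)) n &&
      Nat.beq (img T ng x (img T ng x (Nat.add st j))) (Nat.add st j)

/-- words act trivially on a range of points -/
noncomputable def loopOK (T : ℕ → ℕ → ℕ) (ng : ℕ) (R : List (List ℕ)) (st len : ℕ) : Bool :=
  (List.range len).all fun j => R.all fun r => Nat.beq (ev T ng r (Nat.add st j)) (Nat.add st j)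

theorem all_range {p : ℕ → Bool} {st len : ℕ} (h : ((List.range len).all fun j => p (st + j)) = true)
    {u : ℕ} (h1 : st ≤ u) (h2 : u < st + len) : p u = true := by
  have := (List.all_eq_true.mp h) (u - st) (List.mem_range.mpr (by omega))
  rwa [show st + (u - st) = u by omega] at this

/-- check a property on a range of points -/
def rangeOK (f : ℕ → Bool) (st len : ℕ) : Bool := (List.range len).all fun j => f (Nat.add st j)

theorem loop_of {T : ℕ → ℕ → ℕ} {ng st len : ℕ} {R : List (List ℕ)} {f : ℕ → Bool}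
    (he : ∀ u, (R.all fun r => Nat.beq (ev T ng r u) u) = f u) (h : rangeOK f st len = true) :
    loopOK T ng R st len = true := by
  rw [loopOK, ← h, rangeOK]
  exact congrArg _ (funext fun j => he _)

/-- a checked table -/
structure Table where
  /-- entries -/
  T : ℕ → ℕ → ℕ
  /-- number of generators -/
  ng : ℕ
  /-- number of points -/
  n : ℕ

/-- the table gives involutions -/
def Table.Valid (P : Table) : Prop :=
  ∀ u, u < P.n → ∀ x, x < P.ng →
    img P.T P.ng x u < P.n ∧ img P.T P.ng x (img P.T P.ng x u) = u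

theorem invOK_spec {T : ℕ → ℕ → ℕ} {ng n st len : ℕ} (h : invOK T ng n st len = true) {u : ℕ}
    (h1 : st ≤ u) (h2 : u < st + len) {x : ℕ} (hx : x < ng) :
    img T ng x u < n ∧ img T ng x (img T ng x u) = u := by
  have := List.all_eq_true.mp (all_range (p := fun u => (List.range ng).all fun x =>
    Nat.blt (img T ng x u) n && Nat.beq (img T ng x (img T ng x u)) u) h h1 h2) x (List.mem_range.mpr hx)
  simp only [Bool.and_eq_true] at this
  exact ⟨Nat.le_of_ble_eq_true this.1, Nat.eq_of_beq_eq_true this.2⟩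

/-- the permutation of a generator -/
def Table.perm (P : Table) (h : P.Valid) (x : ℕ) : Equiv.Perm (Fin P.n) :=
  if hx : x < P.ng then
    Function.Involutive.toPerm (fun u => ⟨img P.T P.ng x u, (h u u.2 x hx).1⟩)
      (fun u => Fin.ext (h u u.2 x hx).2)
  else 1

theorem Table.perm_sq (P : Table) (h : P.Valid) (x : ℕ) : P.perm h x * P.perm h x = 1 := by
  unfold Table.perm
  split
  · rename_i hx
    ext u
    exact (h u u.2 x hx).2
  · rw [one_mul]

theorem Table.perm_val (P : Table) (h : P.Valid) {x : ℕ} (hx : x < P.ng) (u : Fin P.n) :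
    (P.perm h x u : ℕ) = img P.T P.ng x u := by
  rw [Table.perm, dif_pos hx]; rfl

theorem Table.perm_big (P : Table) (h : P.Valid) {x : ℕ} (hx : ¬ x < P.ng) : P.perm h x = 1 := by
  rw [Table.perm, dif_neg hx]

theorem Table.perm_prod (P : Table) (h : P.Valid) :
    ∀ (l : List ℕ), (∀ x ∈ l, x < P.ng) → ∀ u : Fin P.n,
      (((l.map (P.perm h)).prod u : Fin P.n) : ℕ) = ev P.T P.ng l u
  | [], _, u => rfl
  | x :: l, hl, u => by
    simp only [List.map_cons, List.prod_cons, Equiv.Perm.mul_apply]
    rw [P.perm_val h (hl x (by simp)), Table.perm_prod P h l (fun y hy => hl y (by simp [hy]))]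
    rfl

/-- words act trivially -/
def Table.Loops (P : Table) (R : List (List ℕ)) : Prop :=
  ∀ u, u < P.n → ∀ r ∈ R, ev P.T P.ng r u = u

theorem loopOK_spec {T : ℕ → ℕ → ℕ} {ng st len : ℕ} {R : List (List ℕ)} (h : loopOK T ng R st len = true) {u : ℕ}
    (h1 : st ≤ u) (h2 : u < st + len) {r : List ℕ} (hr : r ∈ R) : ev T ng r u = u :=
  Nat.eq_of_beq_eq_true (List.all_eq_true.mp
    (all_range (p := fun u => R.all fun r => Nat.beq (ev T ng r u) u) h h1 h2) r hr)

theorem Table.loops_prod (P : Table) (h : P.Valid) {R : List (List ℕ)} (hL : P.Loops R)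
    {r : List ℕ} (hr : r ∈ R) (hlet : ∀ x ∈ r, x < P.ng) : (r.map (P.perm h)).prod = 1 := by
  ext u
  rw [P.perm_prod h r hlet]
  exact hL u u.2 r hr

/-! ### orbit lists -/

/-- an orbit given as a tree: entry `j` of `par` gives the parent and the word of point `j + 1` -/
structure Orb where
  /-- the first point -/
  b : ℕ
  /-- size -/
  k : ℕ
  /-- packed points -/
  pts : ℕ
  /-- packed positions -/
  posn : ℕ
  /-- packed tree -/
  tree : ℕ
  /-- words used -/
  ws : List (List ℕ)

/-- check one point of an orbit -/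
noncomputable def orbOK1 (T : ℕ → ℕ → ℕ) (ng : ℕ) (O : Orb) (j : ℕ) : Bool :=
  Nat.beq (fld O.posn 16 (fld O.pts 16 j)) j &&
  (bif Nat.beq j 0 then Nat.beq (fld O.pts 16 j) O.b else
    Nat.blt (Nat.land (fld O.tree 24 (Nat.sub j 1)) 65535) j &&
    Nat.blt (Nat.shiftRight (fld O.tree 24 (Nat.sub j 1)) 16) O.ws.length &&
    Nat.beq (ev T ng (O.ws.getD (Nat.shiftRight (fld O.tree 24 (Nat.sub j 1)) 16) [])
      (fld O.pts 16 (Nat.land (fld O.tree 24 (Nat.sub j 1)) 65535))) (fld O.pts 16 j))

/-- check an orbit -/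
noncomputable def orbOK (T : ℕ → ℕ → ℕ) (ng : ℕ) (O : Orb) : Bool :=
  (List.range O.k).all (orbOK1 T ng O)

/-- check closure of an orbit under its words -/
noncomputable def closedOK (T : ℕ → ℕ → ℕ) (ng : ℕ) (O : Orb) : Bool :=
  (List.range O.k).all fun j => O.ws.all fun w =>
    Nat.blt (fld O.posn 16 (ev T ng w (fld O.pts 16 j))) O.k &&
      Nat.beq (fld O.pts 16 (fld O.posn 16 (ev T ng w (fld O.pts 16 j)))) (ev T ng w (fld O.pts 16 j))

section

variable {K : Type*} [Group K] {P : Table} (h : P.Valid) (g : ℕ → K)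
  (φ : K →* Equiv.Perm (Fin P.n)) (hφ : ∀ x, x < P.ng → φ (g x) = P.perm h x)

include hφ in
theorem ev_eq {w : List ℕ} (hw : ∀ x ∈ w, x < P.ng) (u : Fin P.n) :
    (φ ((w.map g).prod) u : ℕ) = ev P.T P.ng w u := by
  rw [map_list_prod, List.map_map, List.map_congr_left (f := ⇑φ ∘ g) (g := P.perm h) (fun x hx => hφ x (hw x hx)),
    P.perm_prod h w hw]

/-- letters of a word list are in range -/
def lettersOK (ng : ℕ) (W : List (List ℕ)) : Bool := W.all fun w => w.all fun x => Nat.blt x ng

theorem lettersOK_spec {ng : ℕ} {W : List (List ℕ)} (h : lettersOK ng W = true) {w : List ℕ}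
    (hw : w ∈ W) {x : ℕ} (hx : x ∈ w) : x < ng :=
  Nat.le_of_ble_eq_true (List.all_eq_true.mp (List.all_eq_true.mp h w hw) x hx)

theorem orb_inj {O : Orb} (hO : orbOK P.T P.ng O = true) :
    Set.InjOn (fun j => fld O.pts 16 j) {j | j < O.k} := by
  intro i hi j hj e
  have hh : ∀ j, j < O.k → fld O.posn 16 (fld O.pts 16 j) = j := by
    intro j hj
    have := List.all_eq_true.mp hO j (List.mem_range.mpr hj)
    simp only [orbOK1, Bool.and_eq_true] at this
    exact Nat.eq_of_beq_eq_true this.1
  rw [← hh i hi, ← hh j hj]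
  exact congrArg _ e

include hφ in
theorem orb_mem {O : Orb} (hO : orbOK P.T P.ng O = true) (hl : lettersOK P.ng O.ws = true)
    (S : Subgroup K) (hS : ∀ w ∈ O.ws, (w.map g).prod ∈ S) (b : Fin P.n) (hb : (b : ℕ) = O.b) :
    ∀ j, j < O.k → ∃ s ∈ S, (φ s b : ℕ) = fld O.pts 16 j := by
  intro j
  induction j using Nat.strong_induction_on with
  | _ j ih =>
    intro hj
    have := List.all_eq_true.mp hO j (List.mem_range.mpr hj)
    simp only [orbOK1, Bool.and_eq_true] at this
    obtain ⟨-, hrest⟩ := this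
    cases hj0 : Nat.beq j 0 with
    | true =>
      simp only [hj0, cond_true] at hrest
      refine ⟨1, one_mem S, ?_⟩
      rw [map_one, Equiv.Perm.one_apply, hb, Nat.eq_of_beq_eq_true hrest]
    | false =>
      simp only [hj0, cond_false, Bool.and_eq_true] at hrest
      obtain ⟨⟨hp, hw⟩, he⟩ := hrest
      generalize Nat.land (fld O.tree 24 (Nat.sub j 1)) 65535 = p at hp he
      generalize Nat.shiftRight (fld O.tree 24 (Nat.sub j 1)) 16 = wi at hw he
      have hp' : p < j := Nat.le_of_ble_eq_true hp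
      have hw' : wi < O.ws.length := Nat.le_of_ble_eq_true hw
      obtain ⟨s, hs, hse⟩ := ih p hp' (by omega)
      have hmem : O.ws.getD wi [] ∈ O.ws := by
        rw [List.getD_eq_getElem _ _ hw']; exact List.getElem_mem hw'
      refine ⟨((O.ws.getD wi []).map g).prod * s, mul_mem (hS _ hmem) hs, ?_⟩
      rw [map_mul, Equiv.Perm.mul_apply, ev_eq h g φ hφ (fun x hx => lettersOK_spec hl hmem hx), hse]
      exact Nat.eq_of_beq_eq_true he

/-- one level of a stabiliser chain: the words fix the earlier base points -/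
noncomputable def fixOK (T : ℕ → ℕ → ℕ) (ng : ℕ) (W : List (List ℕ)) (bs : List ℕ) : Bool :=
  W.all fun w => bs.all fun b => Nat.beq (ev T ng w b) b

/-- check a stabiliser chain -/
noncomputable def chainOK (T : ℕ → ℕ → ℕ) (ng n : ℕ) : List Orb → List ℕ → Bool
  | [], _ => true
  | O :: rest, bs => Nat.blt O.b n && orbOK T ng O && lettersOK ng O.ws && fixOK T ng O.ws bs &&
      chainOK T ng n rest (O.b :: bs)

/-- the product of the orbit sizes -/
def chainSize (L : List Orb) : ℕ := (L.map Orb.k).prod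

include hφ in
theorem chain_le : ∀ (L : List Orb) (bs : List ℕ), chainOK P.T P.ng P.n L bs = true →
    ∀ (S : Subgroup K) [Finite S], (∀ s : K, (∀ b ∈ bs, ∀ u : Fin P.n, (u : ℕ) = b → φ s u = u) →
      (∃ O ∈ L, ∃ w ∈ O.ws, s = (w.map g).prod) → s ∈ S) → chainSize L ≤ Nat.card S
  | [], _, _, S, _, _ => by simpa [chainSize] using Nat.one_le_iff_ne_zero.mpr Nat.card_pos.ne'
  | O :: rest, bs, hL, S, hfin, hS => by
    simp only [chainOK, Bool.and_eq_true] at hL
    obtain ⟨⟨⟨⟨hbn, hO⟩, hl⟩, hfix⟩, hrest⟩ := hL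
    let b : Fin P.n := ⟨O.b, Nat.le_of_ble_eq_true hbn⟩
    have hWS : ∀ w ∈ O.ws, (w.map g).prod ∈ S := by
      intro w hw
      refine hS _ (fun c hc u hu => ?_) ⟨O, by simp, w, hw, rfl⟩
      apply Fin.ext
      rw [ev_eq h g φ hφ (fun x hx => lettersOK_spec hl hw hx), hu]
      exact Nat.eq_of_beq_eq_true (List.all_eq_true.mp (List.all_eq_true.mp hfix w hw) c hc)
    have horb := orb_mem h g φ hφ hO hl S hWS b rfl
    letI : MulAction S (Fin P.n) := MulAction.compHom _ (φ.comp S.subtype)
    have hsmul : ∀ (s : S) (u : Fin P.n), s • u = φ (s : K) u := fun s u => rfl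
    let f : Fin O.k → MulAction.orbit S b := fun j =>
      ⟨φ (horb j j.2).choose b, ⟨⟨_, (horb j j.2).choose_spec.1⟩, hsmul _ _⟩⟩
    have hf : Function.Injective f := by
      intro i j e
      have e' := congrArg (fun q : MulAction.orbit S b => ((q : Fin P.n) : ℕ)) e
      simp only [f] at e'
      rw [(horb i i.2).choose_spec.2, (horb j j.2).choose_spec.2] at e'
      exact Fin.ext (orb_inj hO i.2 j.2 e')
    have hk : O.k ≤ Nat.card (MulAction.orbit S b) := by
      simpa using Nat.card_le_card_of_injective f hf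
    let S' : Subgroup K := (MulAction.stabilizer S b).map S.subtype
    haveI : Finite S' := Finite.of_surjective
      (fun s : MulAction.stabilizer S b => (⟨((s : S) : K), ⟨s, s.2, rfl⟩⟩ : S'))
      (fun ⟨p, q, hq, e⟩ => ⟨⟨q, hq⟩, Subtype.ext e⟩)
    have hrec : chainSize rest ≤ Nat.card S' := by
      refine chain_le rest (O.b :: bs) hrest S' fun s hs hw => ?_
      obtain ⟨O', hO', w, hw', rfl⟩ := hw
      have hmem : (w.map g).prod ∈ S :=
        hS _ (fun c hc u hu => hs c (by simp [hc]) u hu) ⟨O', by simp [hO'], w, hw', rfl⟩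
      exact ⟨⟨_, hmem⟩, hs O.b (by simp) b rfl, rfl⟩
    have hcard : Nat.card S' = Nat.card (MulAction.stabilizer S b) :=
      Nat.card_congr (Subgroup.equivMapOfInjective _ _ S.subtype_injective).symm.toEquiv
    have hos : Nat.card (MulAction.orbit S b) * Nat.card (MulAction.stabilizer S b) = Nat.card S := by
      rw [← Nat.card_congr (MulAction.orbitProdStabilizerEquivGroup S b), Nat.card_prod]
    rw [chainSize, List.map_cons, List.prod_cons, ← hos]
    exact Nat.mul_le_mul hk (hcard ▸ hrec)

include hφ in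
/-- a stabiliser chain bounds the order of the image from below -/
theorem chain_le_image {L : List Orb} (hL : chainOK P.T P.ng P.n L [] = true) :
    chainSize L ≤ Nat.card φ.range := by
  let g' : ℕ → φ.range := fun x => φ.rangeRestrict (g x)
  have := chain_le h g' φ.range.subtype (fun x hx => by simp [g', hφ x hx]) L [] hL ⊤
    (fun s _ _ => trivial)
  rwa [Nat.card_congr Subgroup.topEquiv.toEquiv] at this

include hφ in
/-- the orbit of a subgroup generated by words -/
theorem orbit_eq {O : Orb} (hb : O.b < P.n) (hk : 0 < O.k) (hO : orbOK P.T P.ng O = true)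
    (hcl : closedOK P.T P.ng O = true) (hl : lettersOK P.ng O.ws = true) (S : Subgroup K) [Finite K]
    (hS : S = Subgroup.closure {s | ∃ w ∈ O.ws, s = (w.map g).prod}) :
    ({u | ∃ s ∈ S, φ s ⟨O.b, hb⟩ = u} : Set (Fin P.n)).ncard = O.k := by
  have horb := orb_mem h g φ hφ hO hl S
    (fun w hw => hS ▸ Subgroup.subset_closure ⟨w, hw, rfl⟩) ⟨O.b, hb⟩ rfl
  have hset : ({u | ∃ s ∈ S, φ s ⟨O.b, hb⟩ = u} : Set (Fin P.n)) =
      {u : Fin P.n | ∃ j, j < O.k ∧ (u : ℕ) = fld O.pts 16 j} := by
    ext u
    constructor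
    · rintro ⟨s, hs, rfl⟩
      have key : ∀ t ∈ S, ∀ u : Fin P.n, (∃ j, j < O.k ∧ (u : ℕ) = fld O.pts 16 j) →
          ∃ j, j < O.k ∧ ((φ t u : Fin P.n) : ℕ) = fld O.pts 16 j := by
        intro t ht
        rw [hS, ← Subgroup.mem_toSubmonoid, Subgroup.closure_toSubmonoid_of_finite] at ht
        induction ht using Submonoid.closure_induction with
        | mem t ht =>
          obtain ⟨w, hw, rfl⟩ := ht
          rintro u ⟨j, hj, hu⟩
          have := List.all_eq_true.mp (List.all_eq_true.mp hcl j (List.mem_range.mpr hj)) w hw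
          simp only [Bool.and_eq_true] at this
          refine ⟨_, Nat.le_of_ble_eq_true this.1, ?_⟩
          rw [ev_eq h g φ hφ (fun x hx => lettersOK_spec hl hw hx), hu]
          exact (Nat.eq_of_beq_eq_true this.2).symm
        | one => intro u hu; simpa using hu
        | mul p q _ _ hp hq =>
          intro u hu
          rw [map_mul, Equiv.Perm.mul_apply]
          exact hp _ (hq u hu)
      refine key s hs _ ⟨0, hk, ?_⟩
      have := List.all_eq_true.mp hO 0 (List.mem_range.mpr hk)
      simp only [orbOK1, Bool.and_eq_true] at this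
      simpa using (Nat.eq_of_beq_eq_true this.2).symm
    · rintro ⟨j, hj, hu⟩
      obtain ⟨s, hs, hse⟩ := horb j hj
      exact ⟨s, hs, Fin.ext (hse.trans hu.symm)⟩
  rw [hset]
  have e : ({u : Fin P.n | ∃ j, j < O.k ∧ (u : ℕ) = fld O.pts 16 j}).ncard = O.k := by
    rw [← Set.ncard_image_of_injective _ Fin.val_injective]
    have : (Fin.val '' {u : Fin P.n | ∃ j, j < O.k ∧ (u : ℕ) = fld O.pts 16 j}) =
        (fun j => fld O.pts 16 j) '' {j | j < O.k} := by
      ext m
      constructor
      · rintro ⟨u, ⟨j, hj, hu⟩, rfl⟩; exact ⟨j, hj, hu.symm⟩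
      · rintro ⟨j, hj, rfl⟩
        obtain ⟨s, -, hse⟩ := horb j hj
        exact ⟨φ s ⟨O.b, hb⟩, ⟨j, hj, hse⟩, hse⟩
    rw [this, (orb_inj hO).ncard_image]
    show (Set.Iio O.k).ncard = O.k
    simp
  exact e

end

end Cfsg.Agent.Spor.CC
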