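import Cfsg.Agent.Lib.Classical.SymplecticCount
import Cfsg.Agent.Lib.Spor.PermCert

/-!
A concrete field with four elements and the action of its four-dimensional symplectic group on
the 85 points of projective space.
-/

set_option autoImplicit false
set_option maxRecDepth 100000

namespace Cfsg.Agent.Spor.SpFour

/-- four elements -/
inductive F4 | o | i | w | v
  deriving DecidableEq

namespace F4

instance : Fintype F4 := ⟨{o, i, w, v}, fun x => by cases x <;> simp⟩

/-- number of an element -/
def toN : F4 → ℕ | o => 0 | i => 1 | w => 2 | v => 3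
/-- element with a number -/
def ofN (k : ℕ) : F4 :=
  bif Nat.beq k 1 then i else bif Nat.beq k 2 then w else bif Nat.beq k 3 then v else o

/-- addition -/
def add : F4 → F4 → F4
  | o, y => y
  | x, o => x
  | i, i => o | w, w => o | v, v => o
  | i, w => v | w, i => v
  | i, v => w | v, i => w
  | w, v => i | v, w => i

/-- multiplication -/
def mul : F4 → F4 → F4
  | o, _ => o
  | _, o => o
  | i, y => y
  | x, i => x
  | w, w => v | v, v => w
  | w, v => i | v, w => i

/-- inverse -/
def inv : F4 → F4 | o => o | i => i | w => v | v => w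

instance : Zero F4 := ⟨o⟩
instance : One F4 := ⟨i⟩
instance : Add F4 := ⟨add⟩
instance : Mul F4 := ⟨mul⟩
instance : Neg F4 := ⟨id⟩
instance : Inv F4 := ⟨inv⟩

instance : CommRing F4 where
  add := (· + ·)
  zero := 0
  neg := Neg.neg
  mul := (· * ·)
  one := 1
  add_assoc := by decide +kernel
  zero_add := by decide +kernel
  add_zero := by decide +kernel
  add_comm := by decide +kernel
  neg_add_cancel := by decide +kernel
  mul_assoc := by decide +kernel
  one_mul := by decide +kernel
  mul_one := by decide +kernel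
  mul_comm := by decide +kernel
  zero_mul := by decide +kernel
  mul_zero := by decide +kernel
  left_distrib := by decide +kernel
  right_distrib := by decide +kernel
  nsmul := nsmulRec
  zsmul := zsmulRec

instance : Field F4 where
  inv := Inv.inv
  exists_pair_ne := ⟨0, 1, by decide⟩
  mul_inv_cancel := by decide +kernel
  inv_zero := rfl
  nnqsmul := _
  qsmul := _

theorem card : Fintype.card F4 = 4 := by decide +kernel

end F4

/-- column vectors -/
abbrev Vec : Type := Fin 2 ⊕ Fin 2 → F4

/-- number of a vector -/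
def code (f : Vec) : ℕ :=
  F4.toN (f (Sum.inl 0)) + 4 * F4.toN (f (Sum.inl 1)) + 16 * F4.toN (f (Sum.inr 0)) +
    64 * F4.toN (f (Sum.inr 1))

/-- vector with a number -/
def vecOf (k : ℕ) : Vec :=
  Sum.elim ![F4.ofN (k % 4), F4.ofN (k / 4 % 4)] ![F4.ofN (k / 16 % 4), F4.ofN (k / 64)]

theorem code_lt (f : Vec) : code f < 256 := by
  have h : ∀ x : F4, F4.toN x < 4 := by decide +kernel
  have := h (f (Sum.inl 0)); have := h (f (Sum.inl 1)); have := h (f (Sum.inr 0))
  have := h (f (Sum.inr 1))
  unfold code; omega

theorem vecOf_code (f : Vec) : vecOf (code f) = f := by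
  have h : ∀ a b c d : F4,
      F4.ofN ((a.toN + 4 * b.toN + 16 * c.toN + 64 * d.toN) % 4) = a ∧
      F4.ofN ((a.toN + 4 * b.toN + 16 * c.toN + 64 * d.toN) / 4 % 4) = b ∧
      F4.ofN ((a.toN + 4 * b.toN + 16 * c.toN + 64 * d.toN) / 16 % 4) = c ∧
      F4.ofN ((a.toN + 4 * b.toN + 16 * c.toN + 64 * d.toN) / 64) = d := by decide +kernel
  obtain ⟨h1, h2, h3, h4⟩ := h (f (Sum.inl 0)) (f (Sum.inl 1)) (f (Sum.inr 0)) (f (Sum.inr 1))
  funext s
  rcases s with s | s <;> fin_cases s
  · exact h1
  · exact h2
  · exact h3
  · exact h4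

end Cfsg.Agent.Spor.SpFour
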