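import Cfsg.Agent.Lib.Spor.TransvectionLarge

/-!
The affine general linear group over the field with two elements inside `SL(n+2, 2)`.
-/

set_option autoImplicit false
set_option linter.unusedSectionVars false

namespace Cfsg.Agent.Spor.AffineLarge

open Matrix Cfsg.Agent.Spor.TransLarge
open scoped commutatorElement

universe u v

theorem extraspecial_equiv {E : Type u} {F : Type v} [Group E] [Group F] [Finite E] [Finite F] (e : E ≃* F)
    (h : Cfsg.IsExtraspecial 2 E) : Cfsg.IsExtraspecial 2 F := by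
  have : Fact (Nat.Prime 2) := ⟨Nat.prime_two⟩
  have hc : (Subgroup.center E).map e.toMonoidHom = Subgroup.center F := by
    ext y
    rw [Subgroup.mem_map_equiv]
    exact ⟨fun hy => Subgroup.mem_center_iff.2 fun w => e.symm.injective (by
        rw [map_mul, map_mul, Subgroup.mem_center_iff.1 hy]),
      fun hy => Subgroup.mem_center_iff.2 fun w => e.injective (by
        rw [map_mul, map_mul, e.apply_symm_apply, Subgroup.mem_center_iff.1 hy])⟩
  refine Cfsg.Agent.Solv.isExtraspecial_of (h.1.1.of_equiv e) ?_ ?_ fun x => ?_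
  · rw [← hc, Subgroup.card_map_of_injective e.injective, h.2]
  · rw [← hc, ← h.1.2.2, commutator_def, commutator_def, Subgroup.map_commutator,
      Subgroup.map_top_of_surjective _ e.surjective]
  · rw [← hc, Subgroup.mem_map_equiv, map_pow]
    exact Cfsg.Agent.Solv.extraspecial_pow_mem_center h _

theorem transfer {G : Type u} [Group G] [Finite G] {S : Type v} [Group S] [Finite S] (θ : G →* S)
    (hθ : Function.Injective θ) {z : G} {z' : S} (hzz : θ z = z')
    (hrange : Subgroup.centralizer ({z'} : Set S) ≤ θ.range) {R : Subgroup S}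
    (hR : (Cfsg.pCore 2 ↥(Subgroup.centralizer ({z'} : Set S))).map
      (Subgroup.centralizer ({z'} : Set S)).subtype = R) {n : ℕ}
    (hdata : Cfsg.IsExtraspecial 2 R ∧ Nat.card R = 2 ^ (2 * n + 1) ∧
      (∃ E : Subgroup S, E ≤ R ∧ Cfsg.IsElementaryAbelian 2 E ∧ Nat.card E = 2 ^ (n + 1)) ∧
      Cfsg.IsLargeExtraspecial R ∧ ∃ K : Subgroup S, K ≤ Subgroup.centralizer ({z'} : Set S) ∧ R ⊓ K = ⊥ ∧
        R ⊔ K = Subgroup.centralizer ({z'} : Set S) ∧ Nonempty (↥K ≃* GL (Fin n) F2)) :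
    ∀ Q : Subgroup G, Q = (Cfsg.pCore 2 ↥(Subgroup.centralizer ({z} : Set G))).map
        (Subgroup.centralizer ({z} : Set G)).subtype →
      Cfsg.IsExtraspecial 2 Q ∧ Nat.card Q = 2 ^ (2 * n + 1) ∧
        (∃ E : Subgroup G, E ≤ Q ∧ Cfsg.IsElementaryAbelian 2 E ∧ Nat.card E = 2 ^ (n + 1)) ∧
        Cfsg.IsLargeExtraspecial Q ∧ ∃ K : Subgroup G, K ≤ Subgroup.centralizer ({z} : Set G) ∧ Q ⊓ K = ⊥ ∧
          Q ⊔ K = Subgroup.centralizer ({z} : Set G) ∧ Nonempty (↥K ≃* GL (Fin n) F2) := by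
  intro Q hQ
  have : Fact (Nat.Prime 2) := ⟨Nat.prime_two⟩
  have hcmap : ∀ x : G, x ∈ Subgroup.centralizer ({z} : Set G) ↔ θ x ∈ Subgroup.centralizer ({z'} : Set S) := by
    intro x
    rw [Subgroup.mem_centralizer_singleton_iff, Subgroup.mem_centralizer_singleton_iff, ← hzz, ← map_mul, ← map_mul,
      hθ.eq_iff]
  let e : ↥(Subgroup.centralizer ({z} : Set G)) ≃* ↥(Subgroup.centralizer ({z'} : Set S)) :=
    MulEquiv.ofBijective
      ((θ.comp (Subgroup.centralizer ({z} : Set G)).subtype).codRestrict _ fun x => (hcmap _).1 x.2)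
      ⟨fun a b h => Subtype.ext (hθ (congrArg Subtype.val h)), fun y => by
        obtain ⟨x, hx⟩ := hrange y.2
        exact ⟨⟨x, (hcmap x).2 (hx ▸ y.2)⟩, Subtype.ext hx⟩⟩
  have hp : ∀ {A : Type u} {B : Type v} [Group A] [Group B] [Finite A] [Finite B] (f : A ≃* B),
      (Cfsg.pCore 2 A).map f.toMonoidHom = Cfsg.pCore 2 B := by
    intro A B _ _ _ _ f
    refine le_antisymm ?_ fun y hy => ?_
    · haveI := (Cfsg.Agent.Solv.pCore_normal (G := A) 2).map f.toMonoidHom f.surjective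
      exact Cfsg.Agent.Solv.normal_le_pCore ((Cfsg.Agent.Solv.pCore_isPGroup 2).map _)
    · haveI := (Cfsg.Agent.Solv.pCore_normal (G := B) 2).map f.symm.toMonoidHom f.symm.surjective
      exact ⟨f.symm y, Cfsg.Agent.Solv.normal_le_pCore ((Cfsg.Agent.Solv.pCore_isPGroup 2).map _)
        (Subgroup.mem_map_of_mem f.symm.toMonoidHom hy), f.apply_symm_apply y⟩
  have hQR : Q.map θ = R := by
    rw [hQ, ← hR, ← hp e, Subgroup.map_map, Subgroup.map_map]
    rfl
  obtain ⟨hex, hcard, ⟨E, hER, hE, hEc⟩, ⟨-, hl1, hl2, hl3⟩, K, hK, hK1, hK2, ⟨k⟩⟩ := hdata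
  have hRle : R ≤ θ.range := hQR ▸ Subgroup.map_le_range θ Q
  have eQ : Q ≃* R := (Subgroup.equivMapOfInjective Q θ hθ).trans (MulEquiv.subgroupCongr hQR)
  have hcom : ∀ L : Subgroup S, L ≤ θ.range → (L.comap θ).map θ = L := fun L hL =>
    Subgroup.map_comap_eq_self hL
  have hcen : ∀ x : G, x ∈ (Subgroup.center Q).map Q.subtype ↔ θ x ∈ (Subgroup.center R).map R.subtype := by
    intro x
    constructor
    · rintro ⟨q, hq, rfl⟩
      refine ⟨⟨θ q, hQR ▸ Subgroup.mem_map_of_mem θ q.2⟩, Subgroup.mem_center_iff.2 fun y => ?_, rfl⟩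
      obtain ⟨w, hw, hwy⟩ : (y : S) ∈ Q.map θ := hQR.symm ▸ y.2
      apply Subtype.ext
      show (y : S) * θ q = θ q * (y : S)
      rw [← hwy, ← map_mul, ← map_mul]
      exact congrArg θ (congrArg Subtype.val (Subgroup.mem_center_iff.1 hq ⟨w, hw⟩))
    · rintro ⟨r, hr, hrx⟩
      obtain ⟨w, hw, hwr⟩ : (r : S) ∈ Q.map θ := hQR.symm ▸ r.2
      have hwx : w = x := hθ (hwr.trans hrx)
      subst hwx
      refine ⟨⟨w, hw⟩, Subgroup.mem_center_iff.2 fun y => Subtype.ext (hθ ?_), rfl⟩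
      show θ ((y : G) * w) = θ (w * (y : G))
      rw [map_mul, map_mul, hwr]
      exact congrArg Subtype.val (Subgroup.mem_center_iff.1 hr ⟨θ y, hQR ▸ Subgroup.mem_map_of_mem θ y.2⟩)
  refine ⟨extraspecial_equiv eQ.symm hex, by rw [Nat.card_congr eQ.toEquiv, hcard], ⟨E.comap θ, ?_, ?_, ?_⟩,
    ⟨extraspecial_equiv eQ.symm hex, ?_, ?_, ?_⟩, K.comap θ, ?_, ?_, ?_, ?_⟩
  · exact (Subgroup.map_le_map_iff_of_injective hθ).1 (by rw [hcom _ (hER.trans hRle), hQR]; exact hER)
  · refine ⟨⟨⟨fun a b => Subtype.ext (hθ ?_)⟩⟩, fun a ha => hθ ?_⟩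
    · show θ ((a : G) * b) = θ ((b : G) * a)
      rw [map_mul, map_mul]
      exact congrArg Subtype.val (hE.1.1.1 ⟨θ a, a.2⟩ ⟨θ b, b.2⟩)
    · rw [map_pow, map_one]; exact hE.2 _ ha
  · rw [← hEc, ← Subgroup.card_map_of_injective (K := E.comap θ) hθ, hcom _ (hER.trans hRle)]
  · refine le_antisymm (fun x hx => (hcen x).2 ?_) ?_
    · rw [← hl1, Subgroup.mem_centralizer_iff]
      intro r hr
      obtain ⟨w, hw, rfl⟩ : r ∈ Q.map θ := hQR.symm ▸ hr
      rw [← map_mul, ← map_mul, Subgroup.mem_centralizer_iff.1 hx w hw]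
    · rintro _ ⟨x, hx, rfl⟩
      rw [Subgroup.mem_centralizer_iff]
      exact fun q hq => congrArg Subtype.val (Subgroup.mem_center_iff.1 hx ⟨q, hq⟩)
  · intro x hx
    have h1 : θ x ∈ Subgroup.normalizer (R : Set S) := by
      refine hl2 ?_
      rw [Subgroup.mem_centralizer_iff]
      intro r hr
      obtain ⟨w, hw, hwr⟩ : r ∈ θ.range := hRle (Subgroup.map_subtype_le _ hr)
      rw [← map_mul, ← map_mul, Subgroup.mem_centralizer_iff.1 hx w ((hcen w).2 hr)]
    rw [Subgroup.mem_normalizer_iff] at h1 ⊢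
    intro q
    have hmem : ∀ a, a ∈ Q ↔ θ a ∈ R := fun a => by
      rw [← hQR, Subgroup.mem_map]
      exact ⟨fun h => ⟨a, h, rfl⟩, fun ⟨b, hb, e⟩ => hθ e ▸ hb⟩
    rw [hmem, hmem, map_mul, map_mul, map_inv]
    exact h1 (θ q)
  · intro L hL hQL
    have h1 : L.map θ = ⊥ := by
      refine hl3 _ (by rwa [Subgroup.card_map_of_injective hθ]) ?_
      rw [← hQR]
      exact le_trans (Subgroup.map_mono hQL) (Subgroup.le_normalizer_map θ)
    exact (Subgroup.map_eq_bot_iff_of_injective _ hθ).1 h1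
  · intro x hx
    exact (hcmap x).2 (hK hx)
  · apply Subgroup.map_injective hθ
    rw [Subgroup.map_inf _ _ _ hθ, hQR, hcom _ (hK.trans hrange), hK1, Subgroup.map_bot]
  · apply Subgroup.map_injective hθ
    rw [Subgroup.map_sup, hQR, hcom _ (hK.trans hrange), hK2]
    refine (Subgroup.map_comap_eq_self hrange).symm.trans (congrArg (Subgroup.map θ) ?_)
    ext x
    exact (hcmap x).symm
  · exact ⟨((Subgroup.equivMapOfInjective _ θ hθ).trans
      (MulEquiv.subgroupCongr (hcom _ (hK.trans hrange)))).trans k⟩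

section affine

variable {n : ℕ}

/-- an affine matrix, the translation coordinate being the second one -/
def aff (w : Fin (n + 1) → F2) (A : Matrix (Fin (n + 1)) (Fin (n + 1)) F2) : Matrix (Fin (n + 2)) (Fin (n + 2)) F2 :=
  Matrix.of (Fin.insertNth 1 (Fin.insertNth 1 (1 : F2) 0) fun i => Fin.insertNth 1 (w i) (A i))

theorem aff_mul (w w' : Fin (n + 1) → F2) (A A' : Matrix (Fin (n + 1)) (Fin (n + 1)) F2) :
    aff w A * aff w' A' = aff (w + A *ᵥ w') (A * A') := by
  ext i j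
  refine Fin.succAboveCases 1 ?_ (fun i => ?_) i <;> refine Fin.succAboveCases 1 ?_ (fun j => ?_) j <;>
    simp [aff, Matrix.mul_apply, Fin.sum_univ_succAbove _ (1 : Fin (n + 2)), Matrix.mulVec, dotProduct]

theorem aff_one : aff (0 : Fin (n + 1) → F2) 1 = 1 := by
  ext i j
  refine Fin.succAboveCases 1 ?_ (fun i => ?_) i <;> refine Fin.succAboveCases 1 ?_ (fun j => ?_) j <;>
    simp [aff, Matrix.one_apply, Fin.succAbove_ne, (Fin.succAbove_ne _ _).symm]

theorem aff_inj {w w' : Fin (n + 1) → F2} {A A' : Matrix (Fin (n + 1)) (Fin (n + 1)) F2}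
    (h : aff w A = aff w' A') : w = w' ∧ A = A' := by
  refine ⟨funext fun i => ?_, Matrix.ext fun i j => ?_⟩
  · simpa [aff] using congrFun (congrFun h ((1 : Fin (n + 2)).succAbove i)) 1
  · simpa [aff] using congrFun (congrFun h ((1 : Fin (n + 2)).succAbove i)) ((1 : Fin (n + 2)).succAbove j)

theorem aff_of_row {M : Matrix (Fin (n + 2)) (Fin (n + 2)) F2} (h1 : M 1 1 = 1)
    (h : ∀ j, j ≠ 1 → M 1 j = 0) : ∃ w A, M = aff w A := by
  refine ⟨fun i => M ((1 : Fin (n + 2)).succAbove i) 1,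
    Matrix.of fun i j => M ((1 : Fin (n + 2)).succAbove i) ((1 : Fin (n + 2)).succAbove j), ?_⟩
  ext i j
  refine Fin.succAboveCases 1 ?_ (fun i => ?_) i <;> refine Fin.succAboveCases 1 ?_ (fun j => ?_) j <;>
    simp [aff]
  · exact h1
  · exact h _ (Fin.succAbove_ne _ _)

theorem mk_trans_aff :
    (Matrix.transvection (0 : Fin (n + 2)) 1 1 : Matrix (Fin (n + 2)) (Fin (n + 2)) F2) =
      aff (Pi.single 0 1) 1 := by
  have h0 : ∀ i : Fin (n + 1), ((1 : Fin (n + 2)).succAbove i = 0) = (i = 0) := fun i =>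
    propext ⟨fun h => Fin.succAbove_right_injective (h.trans (Fin.succAbove_ne_zero_zero one_ne_zero).symm),
      fun h => h ▸ Fin.succAbove_ne_zero_zero one_ne_zero⟩
  ext i j
  refine Fin.succAboveCases 1 ?_ (fun i => ?_) i <;> refine Fin.succAboveCases 1 ?_ (fun j => ?_) j <;>
    simp [aff, Matrix.transvection, Matrix.one_apply, Matrix.single_apply, Fin.succAbove_ne,
      (Fin.succAbove_ne _ _).symm, Pi.single_apply, @eq_comm _ (0 : Fin (n + 2)), h0]

/-- a linear map of vectors as a matrix -/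
noncomputable def matOf (f : (Fin (n + 1) → F2) →+ (Fin (n + 1) → F2)) : Matrix (Fin (n + 1)) (Fin (n + 1)) F2 :=
  LinearMap.toMatrix' (f.toZModLinearMap 2)

theorem matOf_mulVec (f : (Fin (n + 1) → F2) →+ (Fin (n + 1) → F2)) (x : Fin (n + 1) → F2) :
    matOf f *ᵥ x = f x := LinearMap.toMatrix'_mulVec _ x

theorem exists_emb {G : Type u} [Group G] [Finite G] (U M : Subgroup G) [U.Normal]
    (hU : Cfsg.IsElementaryAbelian 2 U) (hUcard : Nat.card U = 2 ^ (n + 1)) (hUM : U ⊓ M = ⊥) (hUM' : U ⊔ M = ⊤)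
    (hfaith : ∀ m ∈ M, (∀ u ∈ U, m * u * m⁻¹ = u) → m = 1)
    (hfull : ∀ φ : ↥U ≃* ↥U, ∃ m ∈ M, ∀ u : ↥U, ((φ u : ↥U) : G) = m * u * m⁻¹)
    {z : G} (hzU : z ∈ U) (hz : z ≠ 1) :
    ∃ θ : G →* Matrix.SpecialLinearGroup (Fin (n + 2)) F2, Function.Injective θ ∧ θ z = z0 n ∧
      Subgroup.centralizer ({z0 n} : Set (Matrix.SpecialLinearGroup (Fin (n + 2)) F2)) ≤ θ.range := by
  classical
  have hcomm : ∀ a b : U, a * b = b * a := hU.1.1.1
  letI : CommGroup U := { (inferInstance : Group U) with mul_comm := hcomm }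
  letI : Module F2 (Additive U) := AddCommGroup.zmodModule fun x => by
    show x.toMul ^ 2 = 1
    exact Subtype.ext (hU.2 _ x.toMul.2)
  have hdim : Module.finrank F2 (Additive U) = n + 1 := by
    have h := Module.natCard_eq_pow_finrank (K := F2) (V := Additive U)
    rw [show Nat.card (Additive U) = Nat.card U from Nat.card_congr Additive.toMul, hUcard, Nat.card_zmod] at h
    exact (Nat.pow_right_injective (le_refl 2) h).symm
  let L := (Module.finBasisOfFinrankEq F2 (Additive U) hdim).equivFun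
  have hLz : L (Additive.ofMul (⟨z, hzU⟩ : U)) ≠ 0 := fun h => hz (congrArg Subtype.val
    (Additive.ofMul.injective ((LinearEquiv.map_eq_zero_iff L).1 h) : (⟨z, hzU⟩ : U) = 1))
  obtain ⟨P, hP⟩ := exists_move hLz (w := Pi.single 0 1) (by
    intro h; simpa using congrFun h 0)
  let vec : U → (Fin (n + 1) → F2) := fun u => (P : Matrix (Fin (n + 1)) (Fin (n + 1)) F2) *ᵥ L (Additive.ofMul u)
  have hvec_mul : ∀ a b, vec (a * b) = vec a + vec b := fun a b => by
    show _ *ᵥ L (Additive.ofMul a + Additive.ofMul b) = _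
    rw [map_add, Matrix.mulVec_add]
  let vecInv : (Fin (n + 1) → F2) → U := fun x =>
    Additive.toMul (L.symm (((P⁻¹ : GL (Fin (n + 1)) F2) : Matrix (Fin (n + 1)) (Fin (n + 1)) F2) *ᵥ x))
  have hvi : ∀ u, vecInv (vec u) = u := fun u => by
    simp only [vecInv, vec, Matrix.mulVec_mulVec, ← Units.val_mul, inv_mul_cancel, Units.val_one, Matrix.one_mulVec,
      LinearEquiv.symm_apply_apply, toMul_ofMul]
  have hiv : ∀ x, vec (vecInv x) = x := fun x => by
    simp only [vecInv, vec, ofMul_toMul, LinearEquiv.apply_symm_apply, Matrix.mulVec_mulVec, ← Units.val_mul,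
      mul_inv_cancel, Units.val_one, Matrix.one_mulVec]
  have hvec_one : vec 1 = 0 := by
    show _ *ᵥ L 0 = 0
    rw [map_zero, Matrix.mulVec_zero]
  have hvinj : Function.Injective vec := fun a b h => by rw [← hvi a, h, hvi]
  have hvi_add : ∀ x y, vecInv (x + y) = vecInv x * vecInv y := fun x y =>
    hvinj (by rw [hvec_mul, hiv, hiv, hiv])
  let act : G → U → U := fun g u => ⟨g * u * g⁻¹, ‹U.Normal›.conj_mem _ u.2 g⟩
  have act_mul : ∀ g h u, act (g * h) u = act g (act h u) := fun g h u =>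
    Subtype.ext (show g * h * u * (g * h)⁻¹ = g * (h * u * h⁻¹) * g⁻¹ by group)
  have act_hom : ∀ g a b, act g (a * b) = act g a * act g b := fun g a b =>
    Subtype.ext (show g * (a * b : G) * g⁻¹ = g * a * g⁻¹ * (g * b * g⁻¹) by group)
  have act_U : ∀ g : G, g ∈ U → ∀ u, act g u = u := fun g hg u => by
    apply Subtype.ext
    show g * u * g⁻¹ = u
    rw [show g * (u : G) = (u : G) * g from congrArg Subtype.val (hcomm ⟨g, hg⟩ u), mul_inv_cancel_right]
  let A : G → Matrix (Fin (n + 1)) (Fin (n + 1)) F2 := fun g =>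
    matOf (AddMonoidHom.mk' (fun x => vec (act g (vecInv x))) fun x y => by
      show vec (act g (vecInv (x + y))) = _
      rw [hvi_add, act_hom, hvec_mul])
  have hA : ∀ g x, A g *ᵥ x = vec (act g (vecInv x)) := fun g x => matOf_mulVec _ x
  have hA_mul : ∀ g h, A (g * h) = A g * A h := fun g h =>
    Matrix.ext_of_mulVec_single fun i => by
      rw [← Matrix.mulVec_mulVec, hA, hA, hA, act_mul, hvi]
  have hA_U : ∀ g ∈ U, A g = 1 := fun g hg => Matrix.ext_of_mulVec_single fun i => by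
    rw [hA, act_U g hg, hiv, Matrix.one_mulVec]
  have hdec : ∀ g : G, ∃ p : U × M, g = (p.1 : G) * p.2 := by
    intro g
    have hg : g ∈ U ⊔ M := hUM' ▸ Subgroup.mem_top g
    rw [Subgroup.mem_sup_of_normal_left] at hg
    obtain ⟨a, ha, b, hb, rfl⟩ := hg
    exact ⟨(⟨a, ha⟩, ⟨b, hb⟩), rfl⟩
  choose p hp using hdec
  have huniq : ∀ g : G, ∀ a : U, ∀ b : M, g = (a : G) * b → p g = (a, b) := by
    intro g a b h
    have h1 : ((a : G))⁻¹ * ((p g).1 : G) = (b : G) * ((p g).2 : G)⁻¹ := by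
      rw [eq_mul_inv_iff_mul_eq, mul_assoc, ← hp g, h, inv_mul_cancel_left]
    have h2 : ((a : G))⁻¹ * ((p g).1 : G) ∈ U ⊓ M :=
      Subgroup.mem_inf.2 ⟨U.mul_mem (U.inv_mem a.2) (p g).1.2, h1 ▸ M.mul_mem b.2 (M.inv_mem (p g).2.2)⟩
    rw [hUM, Subgroup.mem_bot] at h2
    rw [h2] at h1
    exact Prod.ext (Subtype.ext (inv_mul_eq_one.1 h2).symm) (Subtype.ext (mul_inv_eq_one.1 h1.symm).symm)
  let mat : G → Matrix (Fin (n + 2)) (Fin (n + 2)) F2 := fun g => aff (vec (p g).1) (A g)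
  have hmat_one : mat 1 = 1 := by
    show aff _ _ = _
    rw [huniq 1 1 1 (by simp), hA_U 1 (one_mem _)]
    simp only
    rw [hvec_one, aff_one]
  have hA_p : ∀ g, A g = A (p g).2 := fun g => by
    conv_lhs => rw [hp g]
    rw [hA_mul, hA_U _ (p g).1.2, one_mul]
  have hmat_mul : ∀ g h, mat (g * h) = mat g * mat h := by
    intro g h
    show aff _ _ = aff _ _ * aff _ _
    rw [aff_mul, hA_mul]
    congr 1
    have e : g * h = (((p g).1 * act (p g).2 (p h).1 : U) : G) * (((p g).2 * (p h).2 : M) : G) := by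
      conv_lhs => rw [hp g, hp h]
      show _ = ((p g).1 : G) * (((p g).2 : G) * ((p h).1 : G) * ((p g).2 : G)⁻¹) * (((p g).2 : G) * ((p h).2 : G))
      group
    rw [huniq _ _ _ e, hvec_mul, hA_p g, hA, hvi]
  let θ : G →* Matrix.SpecialLinearGroup (Fin (n + 2)) F2 :=
    { toFun := fun g => sl (mat g) (mat g⁻¹) (by rw [← hmat_mul, mul_inv_cancel, hmat_one])
      map_one' := Subtype.ext hmat_one
      map_mul' := fun g h => Subtype.ext (hmat_mul g h) }
  refine ⟨θ, (injective_iff_map_eq_one θ).2 fun g hg => ?_, ?_, ?_⟩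
  · have h1 : aff (vec (p g).1) (A g) = aff 0 1 := (congrArg Subtype.val hg).trans aff_one.symm
    obtain ⟨h2, h3⟩ := aff_inj h1
    have h4 : (p g).1 = 1 := hvinj (h2.trans hvec_one.symm)
    have h5 : ((p g).2 : G) = 1 := by
      refine hfaith _ (p g).2.2 fun u hu => ?_
      have := congrArg (fun X : Matrix (Fin (n + 1)) (Fin (n + 1)) F2 => X *ᵥ vec ⟨u, hu⟩)
        ((hA_p g).symm.trans h3)
      simp only [hA, hvi, Matrix.one_mulVec] at this
      exact congrArg Subtype.val (hvinj this)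
    rw [hp g, h4, h5, Subgroup.coe_one, one_mul]
  · apply Subtype.ext
    show aff (vec (p z).1) (A z) = mk 1 0 0 1
    rw [mk_trans, mk_trans_aff, hA_U z hzU, huniq z ⟨z, hzU⟩ 1 (by simp)]
    congr 1
  · intro g hg
    obtain ⟨c, r, s, B, hB⟩ := mem_cent.1 hg
    obtain ⟨c', r', s', B', hB'⟩ := mem_cent.1 (inv_mem hg)
    have hrow : ∀ (c : F2) r s B, ∃ w A, mk (n := n) c r s B = aff w A := fun c r s B => by
      refine aff_of_row (by simp [mk]) fun j hj => ?_
      revert hj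
      refine Fin.cases ?_ (fun j => Fin.cases ?_ (fun j => ?_) j) j <;> simp [mk, Fin.ext_iff]
    obtain ⟨w, A₁, hw⟩ := hrow c r s B
    obtain ⟨w', A₂, hw'⟩ := hrow c' r' s' B'
    have hmm : aff w A₁ * aff w' A₂ = aff 0 1 := by
      rw [← hw, ← hw', ← hB, ← hB', aff_one]
      exact congrArg Subtype.val (mul_inv_cancel g)
    rw [aff_mul] at hmm
    have hA12 : A₁ * A₂ = 1 := (aff_inj hmm).2
    let φ : U ≃* U :=
      { toFun := fun u => vecInv (A₁ *ᵥ vec u)
        invFun := fun u => vecInv (A₂ *ᵥ vec u)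
        left_inv := fun u => by
          show vecInv (A₂ *ᵥ vec (vecInv (A₁ *ᵥ vec u))) = u
          rw [hiv, Matrix.mulVec_mulVec, mul_eq_one_comm.1 hA12, Matrix.one_mulVec, hvi]
        right_inv := fun u => by
          show vecInv (A₁ *ᵥ vec (vecInv (A₂ *ᵥ vec u))) = u
          rw [hiv, Matrix.mulVec_mulVec, hA12, Matrix.one_mulVec, hvi]
        map_mul' := fun a b => by
          show vecInv _ = vecInv _ * vecInv _
          rw [hvec_mul, Matrix.mulVec_add, hvi_add] }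
    obtain ⟨m, hm, hmφ⟩ := hfull φ
    refine ⟨(vecInv w : G) * m, Subtype.ext ?_⟩
    show aff (vec (p ((vecInv w : G) * m)).1) (A ((vecInv w : G) * m)) = (g : Matrix (Fin (n + 2)) (Fin (n + 2)) F2)
    rw [hB, hw, huniq _ (vecInv w) ⟨m, hm⟩ rfl]
    simp only
    rw [hiv, hA_mul, hA_U _ (vecInv w).2, one_mul]
    congr 1
    refine Matrix.ext_of_mulVec_single fun i => ?_
    rw [hA, show act m (vecInv (Pi.single i 1)) = φ (vecInv (Pi.single i 1)) from Subtype.ext (hmφ _).symm]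
    show vec (vecInv _) = _
    rw [hiv, hiv]

end affine

end Cfsg.Agent.Spor.AffineLarge
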