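import Cfsg.Agent.Lib.Spor.LargePair
import Cfsg.Agent.Lib.Solv.Component
import Cfsg.Agent.Lib.Local.Basics

/-!
Extraspecial sections of centralizers: recognition tools.
-/

set_option autoImplicit false

open scoped commutatorElement

namespace Cfsg.Agent.Spor.Large

variable {G : Type*} [Group G] [Finite G]

/-- an extraspecial generalized Fitting subgroup of an involution centralizer -/
theorem of_gfit (z : G) (hz : orderOf z = 2) (Q : Subgroup G)
    (hQC : Q ≤ Subgroup.centralizer ({z} : Set G))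
    (hF : (Cfsg.generalizedFittingSubgroup ↥(Subgroup.centralizer ({z} : Set G))).map
      (Subgroup.centralizer ({z} : Set G)).subtype = Q) (hQ : Cfsg.IsExtraspecial 2 ↥Q) :
    XT z Q ∧ (∀ c : G, Commute c z → ∀ q ∈ Q, c * q * c⁻¹ ∈ Q) ∧
      (∀ c : G, (∀ q ∈ Q, Commute c q) → c = 1 ∨ c = z) ∧
      (Subgroup.center ↥Q).map Q.subtype = Subgroup.zpowers z ∧
      Subgroup.centralizer (Q : Set G) = (Subgroup.center ↥Q).map Q.subtype ∧
      Subgroup.centralizer (((Subgroup.center ↥Q).map Q.subtype : Subgroup G) : Set G) ≤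
        Subgroup.normalizer (Q : Set G) := by
  set C := Subgroup.centralizer ({z} : Set G) with hC
  haveI : (Cfsg.generalizedFittingSubgroup C).Normal := Local.gfit_normal
  obtain ⟨u, -, -, X, hset⟩ := exists_center_gen Q hQ
  have hzC : z ∈ C := Subgroup.mem_centralizer_singleton_iff.2 rfl
  have hqz : ∀ q ∈ Q, Commute q z := fun q hq => Subgroup.mem_centralizer_singleton_iff.1 (hQC hq)
  have inQ : ∀ c ∈ C, (∀ q ∈ Q, Commute c q) → c ∈ Q := by
    intro c hc h
    have hm : (⟨c, hc⟩ : C) ∈ Subgroup.centralizer (Cfsg.generalizedFittingSubgroup C : Set C) :=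
      Subgroup.mem_centralizer_iff.2 fun q hq => Subtype.ext (h q (hF ▸ ⟨q, hq, rfl⟩)).symm.eq
    exact hF ▸ ⟨_, Solv.centralizer_gfit_le hm, rfl⟩
  have hzQ : z ∈ Q := inQ z hzC fun q hq => (hqz q hq).symm
  have hz1 : z ≠ 1 := fun e => by rw [e, orderOf_one] at hz; omega
  obtain rfl : z = u := (X.eq_of_cen z hzQ fun q hq => (hqz q hq).symm).resolve_left hz1
  have hnorm : ∀ c : G, Commute c z → ∀ q ∈ Q, c * q * c⁻¹ ∈ Q := by
    intro c hc q hq
    rw [← hF] at hq ⊢
    obtain ⟨q', hq', rfl⟩ := hq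
    exact ⟨⟨c, Subgroup.mem_centralizer_singleton_iff.2 hc⟩ * q' *
      ⟨c, Subgroup.mem_centralizer_singleton_iff.2 hc⟩⁻¹, Subgroup.Normal.conj_mem inferInstance _ hq' _, rfl⟩
  have hcen : ∀ c : G, (∀ q ∈ Q, Commute c q) → c = 1 ∨ c = z := fun c hc =>
    X.eq_of_cen c (inQ c (Subgroup.mem_centralizer_singleton_iff.2 (hc z hzQ)) hc) hc
  have hzp : (Subgroup.center ↥Q).map Q.subtype = Subgroup.zpowers z := by
    refine le_antisymm (fun a ha => ?_) (Subgroup.zpowers_le.2 ?_)
    · rw [← SetLike.mem_coe, hset] at ha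
      rcases ha with rfl | rfl
      exacts [one_mem _, Subgroup.mem_zpowers _]
    · rw [← SetLike.mem_coe, hset]; exact Or.inr rfl
  refine ⟨X, hnorm, hcen, hzp, ?_, ?_⟩
  · ext c
    rw [Subgroup.mem_centralizer_iff]
    constructor
    · intro h
      rcases hcen c fun q hq => (h q hq).symm with rfl | rfl
      · exact one_mem _
      · rw [hzp]; exact Subgroup.mem_zpowers _
    · rintro ⟨d, hd, rfl⟩ q hq
      exact congrArg Subtype.val (Subgroup.mem_center_iff.1 hd ⟨q, hq⟩)
  · intro c hc
    have hcz : Commute c z :=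
      (Subgroup.mem_centralizer_iff.1 hc z (by rw [SetLike.mem_coe, hzp]; exact Subgroup.mem_zpowers z)).symm
    rw [Subgroup.mem_normalizer_iff]
    refine fun q => ⟨hnorm c hcz q, fun h => ?_⟩
    have := hnorm c⁻¹ hcz.inv_left _ h
    rwa [show c⁻¹ * (c * q * c⁻¹) * c⁻¹⁻¹ = q by group] at this

/-- recognition of an extraspecial two-group -/
theorem isExtraspecial_of_xt {u : G} {P : Subgroup G} (X : XT u P) (hP : IsPGroup 2 P)
    (hne : ∃ a ∈ P, ∃ b ∈ P, ¬ Commute a b) :
    Cfsg.IsExtraspecial 2 P ∧ (Subgroup.center ↥P).map P.subtype = Subgroup.zpowers u := by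
  haveI : Fact (Nat.Prime 2) := ⟨Nat.prime_two⟩
  have hZ : (Subgroup.center ↥P).map P.subtype = Subgroup.zpowers u := by
    refine le_antisymm ?_ (Subgroup.zpowers_le.2 ⟨⟨u, X.mem⟩,
      Subgroup.mem_center_iff.2 fun a => Subtype.ext (X.cen a a.2).symm.eq, rfl⟩)
    rintro _ ⟨c, hc, rfl⟩
    rcases X.eq_of_cen c c.2 fun b hb => (congrArg Subtype.val (Subgroup.mem_center_iff.1 hc ⟨b, hb⟩) :).symm with e | e
    · rw [show P.subtype c = 1 from e]; exact one_mem _
    · rw [show P.subtype c = u from e]; exact Subgroup.mem_zpowers u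
  refine ⟨?_, hZ⟩
  have hu : orderOf u = 2 := orderOf_eq_prime (by rw [pow_two, X.sq]) X.ne
  have hcard : Nat.card (Subgroup.center ↥P) = 2 := by
    rw [Nat.card_congr ((Subgroup.center ↥P).equivMapOfInjective P.subtype P.subtype_injective).toEquiv, hZ,
      Nat.card_zpowers, hu]
  have inC : ∀ a : P, ((a : G) = 1 ∨ (a : G) = u) → a ∈ Subgroup.center ↥P := by
    intro a ha
    refine Subgroup.mem_center_iff.2 fun b => Subtype.ext ?_
    show (b : G) * a = a * b
    rcases ha with e | e <;> rw [e]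
    · simp
    · exact (X.cen b b.2).symm.eq
  refine Solv.isExtraspecial_of hP hcard ?_ fun a => inC _ (by
    simpa [pow_two] using X.sq_mem a.2)
  have hle : commutator P ≤ Subgroup.center ↥P := by
    rw [commutator_def, Subgroup.commutator_le]
    exact fun a _ b _ => inC _ (X.comm_mem a.2 b.2)
  refine Subgroup.eq_of_le_of_card_ge hle ?_
  rw [hcard]
  by_contra hlt
  obtain ⟨a, ha, b, hb, hab⟩ := hne
  have h1 : commutator P = ⊥ := Subgroup.eq_bot_of_card_eq _ (by
    have := Nat.card_pos (α := commutator P); omega)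
  refine hab ?_
  have := (Subgroup.eq_bot_iff_forall _).1 h1 ⁅(⟨a, ha⟩ : P), ⟨b, hb⟩⁆
    (by rw [commutator_def]; exact Subgroup.commutator_mem_commutator (Subgroup.mem_top _) (Subgroup.mem_top _))
  exact congrArg Subtype.val (commutatorElement_eq_one_iff_mul_comm.1 this)

theorem XT.closure_pair {u t : G} {P : Subgroup G} (X : XT u P) (ht : t ∈ P) (htt : t * t = 1) :
    ∀ a ∈ Subgroup.closure ({u, t} : Set G), a = 1 ∨ a = u ∨ a = t ∨ a = t * u := by
  intro a ha
  have hut : u * t = t * u := (X.cen t ht).eq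
  have e1 : ∀ s : G, u * (u * s) = s := fun s => by rw [← mul_assoc, X.sq, one_mul]
  have e2 : ∀ s : G, t * (t * s) = s := fun s => by rw [← mul_assoc, htt, one_mul]
  have e3 : ∀ s : G, u * (t * s) = t * (u * s) := fun s => by rw [← mul_assoc, hut, mul_assoc]
  induction ha using Subgroup.closure_induction with
  | mem v hv => rcases hv with hv | hv <;> tauto
  | one => exact Or.inl rfl
  | mul c d _ _ hc hd =>
    rcases hc with rfl | rfl | rfl | rfl <;> rcases hd with rfl | rfl | rfl | rfl <;>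
      simp [mul_assoc, e1, e2, e3, X.sq, htt, hut]
  | inv c _ hc =>
    rcases hc with rfl | rfl | rfl | rfl
    · left; simp
    · right; left; exact inv_eq_of_mul_eq_one_right X.sq
    · right; right; left; exact inv_eq_of_mul_eq_one_right htt
    · right; right; right
      rw [mul_inv_rev, inv_eq_of_mul_eq_one_right X.sq, inv_eq_of_mul_eq_one_right htt, hut]

/-- the double centralizer of an involution of an extraspecial group -/
theorem XT.double_cent {u t v : G} {P : Subgroup G} (X : XT u P) (ht : t ∈ P) (htt : t * t = 1)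
    (hv : v ∈ P) (h : ∀ s ∈ P, Commute s t → Commute s v) : v = 1 ∨ v = u ∨ v = t ∨ v = t * u := by
  classical
  refine X.closure_pair ht htt v ?_
  have := mem_of_commute_centralizer X {t} (by simpa using ht) v hv
    (fun s hs hst => h s hs (hst t (Finset.mem_singleton_self t)))
  simpa using this

end Cfsg.Agent.Spor.Large
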