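import Cfsg.Agent.Lib.Spor.Fi22OutPoints

/-!
Rigidity of the generators of Fi22 among transpositions: checks.
-/

set_option autoImplicit false
set_option maxRecDepth 100000
set_option Elab.async false

namespace Cfsg.Agent.Spor.Fi22Cert.Outer

open Cfsg.Agent.Spor.CC

/-- the two generators commute -/
noncomputable def commB (x y : ℕ) : Bool := Nat.beq (RepU62.rows x (genP.getD y 0)) (genP.getD y 0)

/-- a point with the commutation pattern of generator `x` against earlier ones -/
noncomputable def pat (prev : List ℕ) (x p : ℕ) : Bool :=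
  prev.all fun y => !(Nat.beq p (genP.getD y 0)) && (Nat.beq (RepU62.rows y p) p == commB y x)

/-- membership in an orbit -/
noncomputable def inOrb (O : Orb) (p : ℕ) : Bool :=
  Nat.blt (fld O.posn 16 p) O.k && Nat.beq (fld O.pts 16 (fld O.posn 16 p)) p

/-- the step -/
def stepO (i : ℕ) : Orb := steps.getD i step0

/-- scan of one point -/
noncomputable def scan (p : ℕ) : Bool :=
  ((List.range 9).all fun i =>
    !(pat (genOrd.take i) (genOrd.getD i 0) p) || inOrb (stepO i) p ||
      (Nat.beq i 4 && (inOrb other p || (strays.headD []).any (fun e => Nat.beq e.1 p)))) &&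
  (List.range 4).all fun k =>
    !(pat (genOrd.take 4) (genOrd.getD (5 + k) 0) p) || (strays.getD (k + 1) []).any (fun e => Nat.beq e.1 p)

/-- agreement of a candidate with an assigned one -/
noncomputable def okC (z : ℕ) (q : ℕ × List ℕ) (a : ℕ × ℕ × List ℕ) : Bool :=
  !(Nat.beq q.1 a.2.1) && (Nat.beq (ev RepU62.rows 9 (tW a.2.2) q.1) q.1 == commB a.1 z)

/-- no assignment agrees -/
noncomputable def dead : List (ℕ × List (ℕ × List ℕ)) → List (ℕ × ℕ × List ℕ) → Bool
  | [], _ => false
  | (z, l) :: rest, asg => l.all fun q => !(asg.all (okC z q)) || dead rest ((z, q) :: asg)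

theorem stray_entries : (strays.all fun l => l.all fun e =>
    lettersOK 9 [e.2] && Nat.beq (ev RepU62.rows 9 e.2 0) e.1) = true := by decide +kernel

theorem stray_dead : ((strays.headD []).all fun e =>
    dead ((genOrd.drop 5).zip strays.tail) [(genOrd.getD 4 0, e)]) = true := by decide +kernel

theorem steps_ok : chainOK RepU62.rows 9 3510 steps [] = true := by decide +kernel

theorem steps_size : chainSize steps = 64561751654400 := by decide +kernel

theorem step_facts : (∀ i < 9, orbOK RepU62.rows 9 (stepO i) = true ∧ lettersOK 9 (stepO i).ws = true ∧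
      (stepO i).b = genP.getD (genOrd.getD i 0) 0 ∧ (stepO i).b < 3510 ∧
      fixOK RepU62.rows 9 (stepO i).ws ((genOrd.take i).map fun y => genP.getD y 0) = true) ∧
    (∀ x < 9, x ∈ genOrd) ∧ genOrd.length = 9 ∧ (∀ x ∈ genOrd, x < 9) ∧ strays.length = 5 := by
  decide +kernel

theorem other_facts : orbOK RepU62.rows 9 other = true ∧ other.ws = (stepO 4).ws ∧ other.b < 3510 ∧
    ev RepU62.rows 9 hW (genP.getD 5 0) = other.b ∧ lettersOK 9 [hW] = true ∧ inOrb (stepO 4) other.b = false ∧
    ((steps.take 4).map Orb.b = (genOrd.take 4).map fun y => genP.getD y 0) := by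
  decide +kernel

theorem step4_closed : ((List.range 5).all fun j => (steps.drop 4).all fun O => O.ws.all fun w =>
    inOrb (stepO 4) (ev RepU62.rows 9 w (fld (stepO 4).pts 16 j))) = true ∧
    (stepO 4).k = 5 ∧ inOrb (stepO 4) (stepO 4).b = true := by
  decide +kernel

theorem scan0 : rangeOK scan 0 500 = true := by decide +kernel
theorem scan1 : rangeOK scan 500 500 = true := by decide +kernel
theorem scan2 : rangeOK scan 1000 500 = true := by decide +kernel
theorem scan3 : rangeOK scan 1500 500 = true := by decide +kernel
theorem scan4 : rangeOK scan 2000 500 = true := by decide +kernel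
theorem scan5 : rangeOK scan 2500 500 = true := by decide +kernel
theorem scan6 : rangeOK scan 3000 510 = true := by decide +kernel

theorem scan_all {p : ℕ} (h : p < 3510) : scan p = true := by
  by_cases h0 : p < 500; · exact all_range scan0 (Nat.zero_le _) h0
  by_cases h1 : p < 1000; · exact all_range scan1 (by omega) h1
  by_cases h2 : p < 1500; · exact all_range scan2 (by omega) h2
  by_cases h3 : p < 2000; · exact all_range scan3 (by omega) h3
  by_cases h4 : p < 2500; · exact all_range scan4 (by omega) h4
  by_cases h5 : p < 3000; · exact all_range scan5 (by omega) h5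
  exact all_range scan6 (by omega) h

/-- the symmetry of the diagram -/
def sw (x : ℕ) : ℕ := [6, 5, 4, 3, 2, 1, 0, 7, 8].getD x x

theorem sw_facts : (∀ x < 9, sw x < 9 ∧ sw (sw x) = x) ∧
    (∀ i < 9, ∀ j < 9, Cfsg.Spor.coxLabel pres.edges (pres.nm (sw i)) (pres.nm (sw j)) =
      Cfsg.Spor.coxLabel pres.edges (pres.nm i) (pres.nm j)) ∧
    (∀ w ∈ pres.extraW, ∀ x ∈ w, x < 9) := by
  decide +kernel

theorem sw_extra : oneOK (pres.extraW.map fun w => w.map sw) = true := by decide +kernel

/-- the symmetry corrected fixes the first four generators -/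
def fixChk : List (List ℕ) := (genOrd.take 4).map fun y => hW ++ [sw y] ++ hW.reverse ++ [y]

theorem fix_check : oneOK fixChk = true := by decide +kernel

end Cfsg.Agent.Spor.Fi22Cert.Outer
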