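import Cfsg.Agent.Lib.Spor.Fi22OutClass
import Cfsg.Agent.Lib.Spor.Fi22OutRigidCheck
import Cfsg.Prelude.Def_KGroupFacts

/-!
The outer automorphism group of Fi22 has order two.
-/

set_option autoImplicit false
set_option maxRecDepth 100000

namespace Cfsg.Agent.Spor.Fi22Cert.Outer

open Cfsg.Agent.Spor.CC
open Cfsg.Agent.Spor.Fi22Cert.U62Act

theorem commB_iff {x y : ℕ} (hx : x < 9) (hy : y < 9) :
    pres.gen x * pres.gen y = pres.gen y * pres.gen x ↔ commB x y = true := by
  rw [(isPt_gen hy).commute_iff, Fin.ext_iff, rep.hom_gen x hx, rep.P.perm_val rep.valid hx]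
  exact (Iff.of_eq Nat.beq_eq).symm

theorem zip_fst_sublist {α β : Type} : ∀ (l : List α) (m : List β), ((l.zip m).map Prod.fst).Sublist l
  | [], _ => by simp
  | _ :: _, [] => by simp
  | a :: l, b :: m => (zip_fst_sublist l m).cons_cons a

section

variable (f : pres.Grp ≃* pres.Grp)

theorem pattern {x y : ℕ} (hx : x < 9) (hy : y < 9) {p : ℕ} {e : pres.Grp} (hfe : f (pres.gen y) = e)
    (hp : IsPt (f (pres.gen x)) p) {q : ℕ} (hq : IsPt e q) (hne : x ≠ y) :
    (p ≠ q) ∧ ((rep.hom e ⟨p, hp.lt⟩ : Fin rep.P.n) = ⟨p, hp.lt⟩ ↔ commB y x = true) := by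
  refine ⟨fun h => ?_, ?_⟩
  · subst h
    have e1 : f (pres.gen x) = f (pres.gen y) := hp.inj (hfe ▸ hq)
    have e2 := (isPt_gen hx).unique (f.injective e1 ▸ isPt_gen hy)
    have : ∀ a < 9, ∀ b < 9, genP.getD a 0 = genP.getD b 0 → a = b := by decide +kernel
    exact hne (this x hx y hy e2)
  · rw [← hp.commute_iff e, ← commB_iff hy hx, ← hfe, ← map_mul, ← map_mul, f.injective.eq_iff]

theorem dead_sound (hfD : ∀ x < 9, f (pres.gen x) ∈ conjugatesOf tA) :
    ∀ (rest : List (ℕ × List (ℕ × List ℕ))) (asg : List (ℕ × ℕ × List ℕ)), dead rest asg = true →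
      (∀ zl ∈ rest, zl.1 < 9 ∧ (∀ e ∈ zl.2, lettersOK 9 [e.2] = true ∧ ev RepU62.rows 9 e.2 0 = e.1) ∧
        ∀ p, IsPt (f (pres.gen zl.1)) p → ∃ e ∈ zl.2, e.1 = p) →
      (rest.map Prod.fst ++ asg.map Prod.fst).Nodup →
      (∀ a ∈ asg, a.1 < 9 ∧ lettersOK 9 [a.2.2] = true ∧ ev RepU62.rows 9 a.2.2 0 = a.2.1 ∧
        IsPt (f (pres.gen a.1)) a.2.1) → False
  | [], _, h, _, _, _ => by simp [dead] at h
  | (z, l) :: rest, asg, h, hrest, hnd, hasg => by
    obtain ⟨hz, hl, hcov⟩ := hrest (z, l) (by simp)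
    obtain ⟨p, hp⟩ := exists_pt (hfD z hz)
    obtain ⟨e, he, hep⟩ := hcov p hp
    subst hep
    simp only [dead, List.all_eq_true, Bool.or_eq_true, Bool.not_eq_true'] at h
    simp only [List.map_cons, List.cons_append, List.nodup_cons] at hnd
    rcases h e he with hbad | hgo
    · have hall : asg.all (okC z e) = true := by
        rw [List.all_eq_true]
        intro a ha
        obtain ⟨ha9, hal, hae, hap⟩ := hasg a ha
        have hne : z ≠ a.1 := fun e' => hnd.1 (List.mem_append.mpr (Or.inr (e' ▸ List.mem_map_of_mem ha)))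
        have hcj : f (pres.gen a.1) = transp a.2.2 := hap.inj (isPt_transp hal hae)
        obtain ⟨h1, h2⟩ := pattern f hz ha9 hcj hp (isPt_transp hal hae) hne
        rw [Fin.ext_iff] at h2
        simp only [transp, ev_eq rep.valid pres.gen rep.hom rep.hom_gen (tW_lt hal)] at h2
        simp only [okC, Bool.and_eq_true, Bool.not_eq_true', beq_iff_eq]
        refine ⟨Bool.eq_false_iff.mpr fun hb => h1 (Nat.eq_of_beq_eq_true hb), ?_⟩
        apply Bool.eq_iff_iff.mpr
        rw [Nat.beq_eq]
        exact h2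
      rw [hall] at hbad
      cases hbad
    · refine dead_sound hfD rest ((z, e) :: asg) hgo (fun zl h => hrest zl (by simp [h])) ?_ ?_
      · rw [List.map_cons]
        exact List.perm_middle.nodup_iff.mpr (List.nodup_cons.mpr hnd)
      · intro a ha
        rcases List.mem_cons.mp ha with rfl | ha
        · exact ⟨hz, (hl e he).1, (hl e he).2, hp⟩
        · exact hasg a ha

end

theorem sw_rels : ∀ r ∈ Cfsg.Spor.coxRelators pres.edges ∪ {r | r ∈ pres.extra},
    FreeGroup.lift (fun a => pres.gen (sw (pres.ix a))) r = 1 := by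
  intro r hr
  rcases hr with ⟨x, -, y, -, rfl⟩ | hr
  · rw [map_pow, map_mul, FreeGroup.lift_apply_of, FreeGroup.lift_apply_of]
    have hx := pres_ok.ix_lt x
    have hy := pres_ok.ix_lt y
    have h := Pres.cox_one pres_ok (sw_facts.1 _ hx).1 (sw_facts.1 _ hy).1
    rw [sw_facts.2.1 _ hx _ hy, pres_ok.nm_ix, pres_ok.nm_ix] at h
    exact h
  · have key := pres_ok.extra_eq pres.Grp (fun x => pres.gen (sw x)) (fun x => Pres.gen_sq pres_ok _)
    have hmem : FreeGroup.lift ((fun x => pres.gen (sw x)) ∘ pres.ix) r ∈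
        pres.extra.map (FreeGroup.lift ((fun x => pres.gen (sw x)) ∘ pres.ix)) := List.mem_map.mpr ⟨r, hr, rfl⟩
    rw [key] at hmem
    obtain ⟨w, hw, e⟩ := List.mem_map.mp hmem
    show FreeGroup.lift ((fun x => pres.gen (sw x)) ∘ pres.ix) r = 1
    rw [← e]
    have := oneOK_spec sw_extra (w := w.map sw) (List.mem_map.mpr ⟨w, hw, rfl⟩)
    rwa [List.map_map] at this

/-- the diagram symmetry as an endomorphism -/
noncomputable def swHom : pres.Grp →* pres.Grp := PresentedGroup.toGroup sw_rels

theorem swHom_gen {x : ℕ} (hx : x < 9) : swHom (pres.gen x) = pres.gen (sw x) := by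
  show swHom (pres.gen x) = _
  rw [show pres.gen x = PresentedGroup.of (pres.nm x) from if_pos hx, swHom, PresentedGroup.toGroup.of,
    pres_ok.ix_nm x hx]

theorem swHom_swHom : swHom.comp swHom = MonoidHom.id pres.Grp := by
  refine MonoidHom.eq_of_eqOn_dense (Pres.closure_gen pres_ok) ?_
  rintro _ ⟨x, hx, rfl⟩
  have hx' : x < 9 := hx
  show swHom (swHom (pres.gen x)) = pres.gen x
  rw [swHom_gen hx', swHom_gen (sw_facts.1 x hx').1, (sw_facts.1 x hx').2]

/-- the outer automorphism -/
noncomputable def sigma : MulAut pres.Grp :=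
  MonoidHom.toMulEquiv swHom swHom swHom_swHom swHom_swHom

theorem sigma_gen {x : ℕ} (hx : x < 9) : sigma (pres.gen x) = pres.gen (sw x) := swHom_gen hx

theorem sigma_sq : sigma * sigma = 1 :=
  MulEquiv.ext fun a => DFunLike.congr_fun swHom_swHom a

/-- inner automorphisms and the symmetry -/
noncomputable def KK : Subgroup (MulAut pres.Grp) := Cfsg.Inn pres.Grp ⊔ Subgroup.zpowers sigma

theorem inn_mem (g : pres.Grp) : MulAut.conj g ∈ KK := Subgroup.mem_sup_left ⟨g, rfl⟩

theorem sigma_mem : sigma ∈ KK := Subgroup.mem_sup_right (Subgroup.mem_zpowers _)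

/-- the corrected symmetry -/
noncomputable def psi : MulAut pres.Grp := MulAut.conj ((hW.map pres.gen).prod) * sigma

theorem psi_mem : psi ∈ KK := mul_mem (inn_mem _) sigma_mem

theorem psi_fix {y : ℕ} (hy : y ∈ genOrd.take 4) : psi (pres.gen y) = pres.gen y := by
  have hy9 : y < 9 := step_facts.2.2.2.1 y (List.mem_of_mem_take hy)
  have h := oneOK_spec fix_check (w := hW ++ [sw y] ++ hW.reverse ++ [y]) (List.mem_map.mpr ⟨y, hy, rfl⟩)
  simp only [List.map_append, List.prod_append, List.map_cons, List.map_nil, List.prod_cons, List.prod_nil,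
    mul_one, ← prod_rev] at h
  show MulAut.conj ((hW.map pres.gen).prod) (sigma (pres.gen y)) = pres.gen y
  rw [sigma_gen hy9, MulAut.conj_apply]
  exact (eq_inv_of_mul_eq_one_left h).trans (inv_eq_of_mul_eq_one_left (Pres.gen_sq pres_ok y))

theorem psi_pt : IsPt (psi (pres.gen 1)) other.b := by
  obtain ⟨-, -, -, he, hl, -⟩ := other_facts
  have h5 := isPt_gen (x := 5) (by norm_num)
  have h := h5.conj ((hW.map pres.gen).prod) h5.lt
  rw [ev_eq rep.valid pres.gen rep.hom rep.hom_gen
    (fun x hx => lettersOK_spec hl (List.mem_singleton_self _) hx)] at h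
  replace h : IsPt ((hW.map pres.gen).prod * pres.gen 5 * ((hW.map pres.gen).prod)⁻¹)
      (ev RepU62.rows 9 hW (genP.getD 5 0)) := h
  rw [he] at h
  show IsPt (MulAut.conj ((hW.map pres.gen).prod) (sigma (pres.gen 1))) other.b
  rw [sigma_gen (x := 1) (by norm_num), MulAut.conj_apply]
  exact h

theorem rigid (φ : MulAut pres.Grp) : ∀ i, i ≤ 9 → ∃ χ ∈ KK, ∀ y ∈ genOrd.take i,
    χ (φ (pres.gen y)) = pres.gen y
  | 0, _ => ⟨1, one_mem _, by simp⟩
  | i + 1, hi => by
    obtain ⟨χ, hχ, hg⟩ := rigid φ i (by omega)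
    let f : MulAut pres.Grp := χ * φ
    have hfy : ∀ y ∈ genOrd.take i, f (pres.gen y) = pres.gen y := fun y hy => hg y hy
    have hfD : ∀ x < 9, f (pres.gen x) ∈ conjugatesOf tA := fun x hx =>
      IsConj.trans (class_invariant f) (MonoidHom.map_isConj f.toMonoidHom (gen_mem_class hx))
    obtain ⟨hsteps, -, hlen, hord, hslen⟩ := step_facts
    have hi' : i < genOrd.length := by omega
    set x := genOrd.getD i 0 with hxdef
    have hxe : x = genOrd[i] := List.getD_eq_getElem _ _ hi'
    have hx : x < 9 := hord x (hxe ▸ List.getElem_mem hi')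
    have hnd : genOrd.Nodup := by decide
    have hnotin : ∀ k, i ≤ k → k < genOrd.length → ∀ y ∈ genOrd.take i, genOrd.getD k 0 ≠ y := by
      intro k hk hk' y hy e
      obtain ⟨j, hj, rfl⟩ := List.mem_iff_getElem.mp hy
      rw [List.getD_eq_getElem _ _ hk', List.getElem_take] at e
      have := (hnd.getElem_inj_iff).mp e
      simp only [List.length_take] at hj
      omega
    have hpat : ∀ k, i ≤ k → k < genOrd.length → ∀ p, IsPt (f (pres.gen (genOrd.getD k 0))) p →
        pat (genOrd.take i) (genOrd.getD k 0) p = true := by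
      intro k hk hk' p hp
      have hz : genOrd.getD k 0 < 9 := hord _ (by rw [List.getD_eq_getElem _ _ hk']; exact List.getElem_mem hk')
      rw [pat, List.all_eq_true]
      intro y hy
      have hy9 : y < 9 := hord y (List.mem_of_mem_take hy)
      obtain ⟨h1, h2⟩ := pattern f hz hy9 (hfy y hy) hp (isPt_gen hy9) (hnotin k hk hk' y hy)
      rw [Fin.ext_iff, rep.hom_gen y hy9, rep.P.perm_val rep.valid hy9] at h2
      simp only [Bool.and_eq_true, Bool.not_eq_true', beq_iff_eq]
      refine ⟨Bool.eq_false_iff.mpr fun hb => h1 (Nat.eq_of_beq_eq_true hb), ?_⟩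
      apply Bool.eq_iff_iff.mpr
      rw [Nat.beq_eq]
      exact h2
    have fixes : ∀ s ∈ Subgroup.closure {t | ∃ w ∈ (stepO i).ws, t = (w.map pres.gen).prod},
        ∀ y ∈ genOrd.take i, s * pres.gen y = pres.gen y * s := by
      intro s hs y hy
      obtain ⟨-, hl, -, -, hfix⟩ := hsteps i (by omega)
      have hy9 : y < 9 := hord y (List.mem_of_mem_take hy)
      have : Subgroup.closure {t | ∃ w ∈ (stepO i).ws, t = (w.map pres.gen).prod} ≤
          Subgroup.centralizer ({pres.gen y} : Set pres.Grp) := by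
        rw [Subgroup.closure_le]
        rintro _ ⟨w, hw, rfl⟩
        rw [SetLike.mem_coe, Subgroup.mem_centralizer_singleton_iff, (isPt_gen hy9).commute_iff]
        apply Fin.ext
        rw [ev_eq rep.valid pres.gen rep.hom rep.hom_gen (fun z hz => lettersOK_spec hl hw hz)]
        exact Nat.eq_of_beq_eq_true (List.all_eq_true.mp (List.all_eq_true.mp hfix w hw)
          (genP.getD y 0) (List.mem_map.mpr ⟨y, hy, rfl⟩))
      exact Subgroup.mem_centralizer_singleton_iff.mp (this hs)
    -- moving a point of an orbit back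
    have finish : ∀ (O : Orb) (e : pres.Grp) (θ : MulAut pres.Grp), orbOK RepU62.rows 9 O = true →
        lettersOK 9 O.ws = true → O.ws = (stepO i).ws → IsPt e O.b → O.b < 3510 → θ ∈ KK →
        (∀ y ∈ genOrd.take i, θ (pres.gen y) = pres.gen y) → θ (pres.gen x) = e →
        ∀ p, IsPt (f (pres.gen x)) p → inOrb O p = true →
        ∃ χ' ∈ KK, ∀ y ∈ genOrd.take (i + 1), χ' (φ (pres.gen y)) = pres.gen y := by
      intro O e θ hO hl hws he hb hθ hθy hθx p hp horb
      simp only [inOrb, Bool.and_eq_true] at horb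
      obtain ⟨s, hs', hse⟩ := orb_mem rep.valid pres.gen rep.hom rep.hom_gen hO hl
        (Subgroup.closure {t | ∃ w ∈ (stepO i).ws, t = (w.map pres.gen).prod})
        (fun w hw => Subgroup.subset_closure ⟨w, hws ▸ hw, rfl⟩) ⟨O.b, hb⟩ rfl _
        (Nat.le_of_ble_eq_true horb.1)
      rw [Nat.eq_of_beq_eq_true horb.2] at hse
      have hfx : f (pres.gen x) = s * e * s⁻¹ := by
        refine hp.inj ?_
        have h1 := he.conj s hb
        rwa [hse] at h1
      refine ⟨θ⁻¹ * (MulAut.conj s⁻¹ * χ), mul_mem (inv_mem hθ) (mul_mem (inn_mem _) hχ), fun y hy => ?_⟩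
      show θ⁻¹ (MulAut.conj s⁻¹ (f (pres.gen y))) = pres.gen y
      rw [show (θ⁻¹ : MulAut pres.Grp) = θ.symm from rfl, MulEquiv.symm_apply_eq, MulAut.conj_apply, inv_inv]
      rw [List.take_succ_eq_append_getElem hi', List.mem_append, List.mem_singleton] at hy
      rcases hy with hy | rfl
      · rw [hfy y hy, hθy y hy, mul_assoc, ← fixes s hs' y hy]; group
      · rw [← hxe, hfx, hθx]; group
    obtain ⟨p, hp⟩ := exists_pt (hfD x hx)
    have hs := scan_all hp.lt
    simp only [scan, Bool.and_eq_true, List.all_eq_true, Bool.or_eq_true, Bool.not_eq_true',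
      List.mem_range] at hs
    rcases hs.1 i (by omega) with (hno | horb) | ⟨h4, hrest⟩
    · rw [hpat i le_rfl hi' p hp] at hno
      cases hno
    · obtain ⟨hO, hl, hb, hblt, -⟩ := hsteps i (by omega)
      exact finish (stepO i) (pres.gen x) 1 hO hl rfl (hb ▸ isPt_gen hx) hblt (one_mem _)
        (fun y _ => rfl) rfl p hp horb
    · have hi4 : i = 4 := Nat.eq_of_beq_eq_true h4
      subst hi4
      obtain ⟨hoO, hows, hob, -, -, -, -⟩ := other_facts
      rcases hrest with horb | hstray
      · exact finish other (psi (pres.gen x)) psi hoO (hows ▸ (hsteps 4 (by omega)).2.1) hows psi_pt hob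
          psi_mem (fun y hy => psi_fix hy) rfl p hp horb
      · exfalso
        rw [List.any_eq_true] at hstray
        obtain ⟨e, he, hep⟩ := hstray
        have hep' : e.1 = p := Nat.eq_of_beq_eq_true hep
        have he' : ∀ l ∈ strays, ∀ a ∈ l, lettersOK 9 [a.2] = true ∧ ev RepU62.rows 9 a.2 0 = a.1 := by
          intro l hl a ha
          have h := List.all_eq_true.mp (List.all_eq_true.mp stray_entries l hl) a ha
          simp only [Bool.and_eq_true] at h
          exact ⟨h.1, Nat.eq_of_beq_eq_true h.2⟩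
        have hhead : strays.headD [] ∈ strays := by
          cases hc : strays with
          | nil => rw [hc] at he; cases he
          | cons a t => simp
        refine dead_sound f hfD _ _ (List.all_eq_true.mp stray_dead e he) ?_ ?_ ?_
        · intro zl hzl
          obtain ⟨k, hk, rfl⟩ := List.mem_iff_getElem.mp hzl
          simp only [List.length_zip, List.length_drop, List.length_tail] at hk
          simp only [List.getElem_zip, List.getElem_drop, List.getElem_tail]
          have hk1 : 5 + k < genOrd.length := by omega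
          refine ⟨hord _ (List.getElem_mem hk1), he' _ (List.getElem_mem _), fun q hq => ?_⟩
          rw [← List.getD_eq_getElem _ 0 hk1] at hq
          have hs2 := scan_all hq.lt
          simp only [scan, Bool.and_eq_true, List.all_eq_true, Bool.or_eq_true, Bool.not_eq_true',
            List.mem_range] at hs2
          rcases hs2.2 k (by omega) with hno | hin
          · rw [hpat _ (by omega) hk1 q hq] at hno
            cases hno
          · rw [List.any_eq_true] at hin
            obtain ⟨a, ha, haq⟩ := hin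
            rw [List.getD_eq_getElem _ _ (by omega)] at ha
            exact ⟨a, ha, Nat.eq_of_beq_eq_true haq⟩
        · have key : (genOrd.drop 5 ++ [genOrd.getD 4 0]).Nodup := by decide
          exact ((zip_fst_sublist _ _).append (List.Sublist.refl _)).nodup key
        · intro a ha
          rw [List.mem_singleton] at ha
          subst ha
          exact ⟨hx, (he' _ hhead e he).1, (he' _ hhead e he).2, hep' ▸ hp⟩

theorem KK_top : KK = ⊤ := by
  rw [eq_top_iff]
  intro φ _
  obtain ⟨χ, hχ, hg⟩ := rigid φ 9 le_rfl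
  have h1 : χ * φ = 1 := by
    refine MulEquiv.toMonoidHom_injective (MonoidHom.eq_of_eqOn_dense (Pres.closure_gen pres_ok) ?_)
    rintro _ ⟨x, hx, rfl⟩
    show χ (φ (pres.gen x)) = pres.gen x
    exact hg x (by
      rw [List.take_of_length_le (by rw [step_facts.2.2.1])]
      exact step_facts.2.1 x hx)
  rw [eq_inv_of_mul_eq_one_right h1]
  exact inv_mem hχ

theorem sigma_not_inner : sigma ∉ Cfsg.Inn pres.Grp := by
  haveI := order.1
  rintro ⟨g, hg⟩
  obtain ⟨-, -, hob, he, hl, hnot, hbases⟩ := other_facts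
  set g' : pres.Grp := (hW.map pres.gen).prod * g with hg'
  have hpsi : ∀ a, g' * a * g'⁻¹ = psi a := fun a => by
    show _ = MulAut.conj ((hW.map pres.gen).prod) (sigma a)
    rw [← hg, MulAut.conj_apply, MulAut.conj_apply, hg']
    group
  have hfix : ∀ b ∈ (steps.take 4).map Orb.b, ∀ v : Fin rep.P.n, (v : ℕ) = b → rep.hom g' v = v := by
    intro b hb v hv
    rw [hbases] at hb
    obtain ⟨y, hy, rfl⟩ := List.mem_map.mp hb
    have hy9 : y < 9 := step_facts.2.2.2.1 y (List.mem_of_mem_take hy)
    have hp := isPt_gen hy9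
    have h := hp.conj g' hp.lt
    rw [hpsi, psi_fix hy] at h
    have hv' : v = ⟨genP.getD y 0, hp.lt⟩ := Fin.ext hv
    rw [hv']
    exact Fin.ext (h.unique hp)
  have hmem := chain_mem rep.valid pres.gen rep.hom rep.hom_gen steps [] steps_ok ⊤ (fun _ _ _ => trivial)
    (by rw [Nat.card_congr Subgroup.topEquiv.toEquiv, order.2.1, steps_size]) 4 g' trivial hfix
  obtain ⟨hcl, hk, hroot⟩ := step4_closed
  have hlets : ∀ O ∈ steps.drop 4, lettersOK 9 O.ws = true := by decide +kernel
  have key : ∀ s ∈ Subgroup.closure {t | ∃ O ∈ steps.drop 4, ∃ w ∈ O.ws, t = (w.map pres.gen).prod},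
      ∀ v : Fin rep.P.n, inOrb (stepO 4) v = true → inOrb (stepO 4) (rep.hom s v : Fin rep.P.n) = true := by
    intro s hs
    rw [← Subgroup.mem_toSubmonoid, Subgroup.closure_toSubmonoid_of_finite] at hs
    induction hs using Submonoid.closure_induction with
    | mem t ht =>
      obtain ⟨O, hO, w, hw, rfl⟩ := ht
      intro v hv
      simp only [inOrb, Bool.and_eq_true] at hv
      have := List.all_eq_true.mp hcl _ (List.mem_range.mpr (hk ▸ Nat.le_of_ble_eq_true hv.1))
      simp only [List.all_eq_true] at this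
      have h2 := this O hO w hw
      rw [Nat.eq_of_beq_eq_true hv.2] at h2
      rw [ev_eq rep.valid pres.gen rep.hom rep.hom_gen (fun z hz => lettersOK_spec (hlets O hO) hw hz)]
      exact h2
    | one => intro v hv; simpa using hv
    | mul a b _ _ ha hb =>
      intro v hv
      rw [map_mul, Equiv.Perm.mul_apply]
      exact ha _ (hb v hv)
  have hb4 : (stepO 4).b = genP.getD 1 0 := (step_facts.1 4 (by norm_num)).2.2.1
  have h1 := isPt_gen (x := 1) (by norm_num)
  have h2 := h1.conj g' h1.lt
  rw [hpsi] at h2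
  have h3 := key g' hmem ⟨genP.getD 1 0, h1.lt⟩ (by rw [← hb4] at *; exact hroot)
  rw [h2.unique psi_pt] at h3
  rw [hnot] at h3
  cases h3

theorem card_out : Nat.card (Cfsg.Out pres.Grp) = 2 := by
  let mk := QuotientGroup.mk' (Cfsg.Inn pres.Grp)
  have hne : mk sigma ≠ 1 := fun e => sigma_not_inner ((QuotientGroup.eq_one_iff _).mp e)
  refine Nat.card_eq_two_iff.mpr ⟨1, mk sigma, hne.symm, Set.eq_univ_iff_forall.mpr fun q => ?_⟩
  obtain ⟨φ, rfl⟩ := QuotientGroup.mk'_surjective (Cfsg.Inn pres.Grp) q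
  have hφ : mk φ ∈ KK.map mk := ⟨φ, KK_top ▸ Subgroup.mem_top φ, rfl⟩
  rw [KK, Subgroup.map_sup, QuotientGroup.map_mk'_self, bot_sup_eq, MonoidHom.map_zpowers] at hφ
  obtain ⟨n, hn⟩ := Subgroup.mem_zpowers_iff.mp hφ
  have hsq : mk sigma * mk sigma = 1 := by rw [← map_mul, sigma_sq, map_one]
  rcases Int.even_or_odd n with ⟨m, hm⟩ | ⟨m, hm⟩
  · left; rw [← hn, hm, ← two_mul, zpow_mul, zpow_two, hsq, one_zpow]
  · right; rw [← hn, hm, zpow_add_one, zpow_mul, zpow_two, hsq, one_zpow, one_mul]; rfl

end Cfsg.Agent.Spor.Fi22Cert.Outer
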