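import Cfsg.Agent.Lib.Spor.Fi22OutClassCheck

/-!
The transposition class of Fi22 is invariant under all automorphisms.
-/

set_option autoImplicit false
set_option maxRecDepth 100000

namespace Cfsg.Agent.Spor.Fi22Cert.Outer

open Cfsg.Agent.Spor.CC
open Cfsg.Agent.Spor.Fi22Cert.U62Act

/-- the element of order eleven -/
noncomputable def xEl : pres.Grp := (xW.map pres.gen).prod

theorem x_pow : xEl ^ 11 = 1 := by
  rw [xEl, ← prod_powW]
  exact oneOK_spec x_one (List.mem_singleton_self _)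

theorem x_apply (v : Fin rep.P.n) : ((rep.hom xEl v : Fin rep.P.n) : ℕ) = ev RepU62.rows 9 xW v :=
  ev_eq rep.valid pres.gen rep.hom rep.hom_gen
    (fun x hx => lettersOK_spec x_facts.1 (List.mem_singleton_self _) hx) v

theorem x_order : orderOf xEl = 11 := by
  haveI : Fact (Nat.Prime 11) := ⟨by norm_num⟩
  refine orderOf_eq_prime x_pow fun e => ?_
  obtain ⟨-, -, -, -, -, -, hlt, -, -, hne, -⟩ := x_facts
  apply hne
  have h := x_apply ⟨cyc.getD 0 0, hlt⟩
  rw [e, map_one, Equiv.Perm.one_apply] at h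
  exact h.symm

theorem xPow_apply (k : ℕ) {q : ℕ} (hq : q < 3510) :
    ((rep.hom (xEl ^ k) ⟨q, hq⟩ : Fin rep.P.n) : ℕ) = xPow k q := by
  induction k with
  | zero => rw [pow_zero, map_one, Equiv.Perm.one_apply]; rfl
  | succ k ih =>
    rw [pow_succ', map_mul, Equiv.Perm.mul_apply, x_apply, ih]
    rfl

theorem cyc_pow : ∀ k, k < 11 → xPow k (cyc.getD 0 0) = cyc.getD k 0
  | 0, _ => rfl
  | k + 1, hk => by
    show ev RepU62.rows 9 xW (xPow k (cyc.getD 0 0)) = _
    rw [cyc_pow k (by omega), x_facts.2.2.2.1 k (by omega), Nat.mod_eq_of_lt hk]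

theorem class_invariant (φ : MulAut pres.Grp) : φ tA ∈ conjugatesOf tA := by
  haveI := order.1
  obtain ⟨-, hlen, hx0, -, hc0l, hc0e, hc0lt, hc0ne, hc0com, -, hbase, hlast⟩ := x_facts
  let u0 := φ tA
  let E : Set pres.Grp := {u | IsConj u0 u}
  have hE : E = φ '' conjugatesOf tA := by
    ext u
    constructor
    · intro hu
      obtain ⟨c, hc⟩ := isConj_iff.mp hu
      refine ⟨φ.symm u, isConj_iff.mpr ⟨φ.symm c, ?_⟩, φ.apply_symm_apply u⟩
      rw [← hc]
      simp [u0]
    · rintro ⟨d, hd, rfl⟩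
      exact MonoidHom.map_isConj φ.toMonoidHom hd
  have hcardE : Nat.card E = 3510 := by
    rw [hE, Nat.card_image_of_injective φ.injective]
    exact card_class
  let X := Subgroup.zpowers xEl
  have hX : IsPGroup 11 X := fun a => by
    refine ⟨1, Subtype.ext ?_⟩
    obtain ⟨n, hn⟩ := Subgroup.mem_zpowers_iff.mp a.2
    show (a : pres.Grp) ^ 11 ^ 1 = 1
    rw [pow_one, ← hn, ← zpow_natCast, ← zpow_mul, mul_comm, zpow_mul, zpow_natCast, x_pow, one_zpow]
  letI : MulAction X E :=
    { smul := fun x u => ⟨(x : pres.Grp) * (u : pres.Grp) * (x : pres.Grp)⁻¹,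
        IsConj.trans u.2 (isConj_iff.mpr ⟨(x : pres.Grp), rfl⟩)⟩
      one_smul := fun u => Subtype.ext (show (1 : pres.Grp) * u.1 * (1 : pres.Grp)⁻¹ = u.1 by simp)
      mul_smul := fun x y u => Subtype.ext (show (x.1 * y.1) * u.1 * (x.1 * y.1)⁻¹ =
        x.1 * (y.1 * u.1 * y.1⁻¹) * x.1⁻¹ by group) }
  haveI : Fact (Nat.Prime 11) := ⟨by norm_num⟩
  obtain ⟨u, hu⟩ := hX.nonempty_fixed_point_of_prime_not_dvd_card E (by rw [hcardE]; norm_num)
  have hux : Commute xEl (u : pres.Grp) := by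
    have h : xEl * (u : pres.Grp) * xEl⁻¹ = u := congrArg Subtype.val (hu ⟨xEl, Subgroup.mem_zpowers _⟩)
    exact mul_inv_eq_iff_eq_mul.mp h
  have hne : (u : pres.Grp) ≠ 1 := by
    intro e
    have h := u.2
    rw [e] at h
    have h' : u0 = 1 := isConj_one_left.mp h
    have h2 : tA = 1 := φ.injective (h'.trans (map_one φ).symm)
    have := orderOf_tA
    rw [h2, orderOf_one] at this
    omega
  have hu2 : (u : pres.Grp) * u = 1 := by
    obtain ⟨d, hd, hde⟩ : (u : pres.Grp) ∈ φ '' conjugatesOf tA := hE ▸ u.2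
    rw [← hde, ← map_mul, ← pow_two, show d ^ 2 = 1 by rw [← class_transp.1.1 d hd]; exact pow_orderOf_eq_one d,
      map_one]
  -- the unique fixed point
  have hfix0 : rep.hom (u : pres.Grp) rep.z = rep.z := by
    have h1 : rep.hom xEl (rep.hom (u : pres.Grp) rep.z) = rep.hom (u : pres.Grp) rep.z := by
      rw [← Equiv.Perm.mul_apply, ← map_mul, hux.eq, map_mul, Equiv.Perm.mul_apply,
        show rep.hom xEl rep.z = rep.z from Fin.ext ((x_apply rep.z).trans hx0)]
    have h2 := congrArg (fun v : Fin rep.P.n => (v : ℕ)) h1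
    simp only [x_apply] at h2
    generalize rep.hom (u : pres.Grp) rep.z = v at h2
    have hc := cand_all v.2
    simp only [candChk, Bool.and_eq_true, Bool.or_eq_true, Bool.not_eq_true'] at hc
    rcases hc.1 with h | h
    · exact Fin.ext (Nat.eq_of_beq_eq_true h)
    · exact absurd (Nat.beq_eq.mpr h2) (by simp [h])
  have hpt0 : IsPt tA 0 := ⟨1, by simp, by rw [map_one, Equiv.Perm.one_apply]; rfl⟩
  have hucom : (u : pres.Grp) * tA = tA * u := (hpt0.commute_iff _).mpr (by exact hfix0)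
  have h45 : IsPt (transp (cycC.getD 0 [])) (cyc.getD 0 0) := isPt_transp hc0l hc0e
  set q : ℕ := ((rep.hom (u : pres.Grp) ⟨cyc.getD 0 0, hc0lt⟩ : Fin rep.P.n) : ℕ) with hq
  have hqlt : q < 3510 := (rep.hom (u : pres.Grp) ⟨cyc.getD 0 0, hc0lt⟩).2
  have hqpt : IsPt ((u : pres.Grp) * transp (cycC.getD 0 []) * (u : pres.Grp)⁻¹) q := h45.conj _ hc0lt
  have hqcyc : q ∈ cyc := by
    have hc := cand_all hqlt
    simp only [candChk, Bool.and_eq_true, Bool.or_eq_true, Bool.not_eq_true'] at hc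
    rcases hc.2 with ((h | h) | h) | h
    · exfalso
      apply hc0ne
      have hz : rep.hom (u : pres.Grp) ⟨cyc.getD 0 0, hc0lt⟩ = rep.hom (u : pres.Grp) rep.z := by
        rw [hfix0]; exact Fin.ext (Nat.eq_of_beq_eq_true h)
      exact congrArg Fin.val ((rep.hom (u : pres.Grp)).injective hz)
    · exfalso
      have h1 : rep.hom tA ⟨q, hqlt⟩ = ⟨q, hqlt⟩ := by
        rw [← hqpt.commute_iff]
        have : tA * transp (cycC.getD 0 []) = transp (cycC.getD 0 []) * tA := by
          rw [h45.commute_iff]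
          apply Fin.ext
          rw [show tA = (([0] : List ℕ).map pres.gen).prod by simp,
            ev_eq rep.valid pres.gen rep.hom rep.hom_gen (by intro y hy; simp at hy; subst hy; decide)]
          exact hc0com
        generalize transp (cycC.getD 0 []) = t at this ⊢
        generalize (u : pres.Grp) = v at hucom ⊢
        have hv : v⁻¹ * tA = tA * v⁻¹ := Commute.inv_left hucom
        calc tA * (v * t * v⁻¹) = (tA * v) * t * v⁻¹ := by group
          _ = v * (tA * t) * v⁻¹ := by rw [← hucom]; group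
          _ = v * (t * tA) * v⁻¹ := by rw [this]
          _ = v * t * (tA * v⁻¹) := by group
          _ = v * t * v⁻¹ * tA := by rw [← hv]; group
      have h2 := congrArg (fun v : Fin rep.P.n => (v : ℕ)) h1
      simp only [rep.hom_gen 0 (by decide : 0 < 9)] at h2
      rw [rep.P.perm_val rep.valid (by decide : 0 < 9)] at h2
      exact absurd (Nat.beq_eq.mpr (show RepU62.rows 0 q = q from h2)) (by simp [h])
    · exact List.contains_iff_mem.mp h
    · exfalso
      obtain ⟨⟨hl, he⟩, hany⟩ := h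
      obtain ⟨k, hk, hk2⟩ := List.any_eq_true.mp hany
      have hk11 : k < 11 := List.mem_range.mp hk
      have hd : (u : pres.Grp) * transp (cycC.getD 0 []) * (u : pres.Grp)⁻¹ = transp (ptW q) :=
        hqpt.inj (isPt_transp hl (Nat.eq_of_beq_eq_true he))
      have hz : cyc.getD k 0 < 3510 := by
        rw [← cyc_pow k hk11, ← xPow_apply k hc0lt]; exact (rep.hom (xEl ^ k) _).2
      have hmove : rep.hom (u : pres.Grp) ⟨cyc.getD k 0, hz⟩ = rep.hom (xEl ^ k) ⟨q, hqlt⟩ := by
        have e1 : (⟨cyc.getD k 0, hz⟩ : Fin rep.P.n) = rep.hom (xEl ^ k) ⟨cyc.getD 0 0, hc0lt⟩ :=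
          Fin.ext ((cyc_pow k hk11).symm.trans (xPow_apply k hc0lt).symm)
        rw [e1, ← Equiv.Perm.mul_apply, ← map_mul, ← (hux.pow_left k).eq, map_mul, Equiv.Perm.mul_apply]
      have hiff : rep.hom (transp (ptW q)) (rep.hom (xEl ^ k) ⟨q, hqlt⟩) = rep.hom (xEl ^ k) ⟨q, hqlt⟩ ↔
          rep.hom (transp (cycC.getD 0 [])) ⟨cyc.getD k 0, hz⟩ = ⟨cyc.getD k 0, hz⟩ := by
        rw [← hmove, ← hd, map_mul, map_mul, Equiv.Perm.mul_apply, Equiv.Perm.mul_apply, map_inv,
          Equiv.Perm.inv_def, Equiv.symm_apply_apply, (rep.hom (u : pres.Grp)).injective.eq_iff]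
      rw [Fin.ext_iff, Fin.ext_iff] at hiff
      simp only [transp, ev_eq rep.valid pres.gen rep.hom rep.hom_gen (tW_lt hl),
        ev_eq rep.valid pres.gen rep.hom rep.hom_gen (tW_lt hc0l), xPow_apply k hqlt] at hiff
      have hb : (Nat.beq (ev RepU62.rows 9 (tW (ptW q)) (xPow k q)) (xPow k q) ==
          Nat.beq (ev RepU62.rows 9 (tW (cycC.getD 0 [])) (cyc.getD k 0)) (cyc.getD k 0)) = true := by
        rw [beq_iff_eq]
        apply Bool.eq_iff_iff.mpr
        rw [Nat.beq_eq, Nat.beq_eq]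
        exact hiff
      rw [hb] at hk2
      cases hk2
  obtain ⟨i, hi, hiq⟩ := List.mem_iff_getElem.mp hqcyc
  have hi11 : i < 11 := hlen ▸ hi
  set g : pres.Grp := (xEl ^ i)⁻¹ * u with hg
  have hgx : Commute xEl g := (((Commute.refl xEl).pow_right i).inv_right).mul_right hux
  have hg45 : rep.hom g ⟨cyc.getD 0 0, hc0lt⟩ = ⟨cyc.getD 0 0, hc0lt⟩ := by
    rw [hg, map_mul, Equiv.Perm.mul_apply, map_inv, Equiv.Perm.inv_eq_iff_eq]
    apply Fin.ext
    rw [xPow_apply i hc0lt, cyc_pow i hi11, List.getD_eq_getElem _ _ hi, hiq]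
  have hfix : ∀ b ∈ (chainX.take 6).map Orb.b, ∀ v : Fin rep.P.n, (v : ℕ) = b → rep.hom g v = v := by
    intro b hb v hv
    rcases hbase b hb with rfl | hb'
    · have hv' : v = rep.z := Fin.ext hv
      subst hv'
      rw [hg, map_mul, Equiv.Perm.mul_apply, hfix0, map_inv, Equiv.Perm.inv_eq_iff_eq]
      have hp : ∀ n, rep.hom (xEl ^ n) rep.z = rep.z := fun n => by
        induction n with
        | zero => rw [pow_zero, map_one, Equiv.Perm.one_apply]
        | succ n ih =>
          rw [pow_succ', map_mul, Equiv.Perm.mul_apply, ih]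
          exact Fin.ext ((x_apply rep.z).trans hx0)
      exact (hp i).symm
    · obtain ⟨k, hk, rfl⟩ := List.mem_iff_getElem.mp hb'
      have hv' : v = rep.hom (xEl ^ k) ⟨cyc.getD 0 0, hc0lt⟩ := by
        apply Fin.ext
        rw [hv, xPow_apply k hc0lt, cyc_pow k (hlen ▸ hk), List.getD_eq_getElem _ _ hk]
      rw [hv', ← Equiv.Perm.mul_apply, ← map_mul, ← (hgx.pow_left k).eq, map_mul, Equiv.Perm.mul_apply, hg45]
  have h := chain_mem rep.valid pres.gen rep.hom rep.hom_gen chainX [] chainX_ok ⊤ (fun _ _ _ => trivial)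
    (by rw [Nat.card_congr Subgroup.topEquiv.toEquiv, order.2.1, chainX_size]) 6 g trivial hfix
  have hg01 : g = 1 ∨ g = tA := by
    have hle : Subgroup.closure {t | ∃ O ∈ chainX.drop 6, ∃ w ∈ O.ws, t = (w.map pres.gen).prod} ≤
        Subgroup.zpowers tA := by
      rw [Subgroup.closure_le]
      rintro _ ⟨O, hO, w, hw, rfl⟩
      have hmem : O.ws ∈ ([[[0]]] : List (List (List ℕ))) := hlast ▸ List.mem_map_of_mem hO
      rw [List.mem_singleton] at hmem
      rw [hmem, List.mem_singleton] at hw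
      subst hw
      simp [Subgroup.mem_zpowers]
    obtain ⟨n, hn⟩ := Subgroup.mem_zpowers_iff.mp (hle h)
    rcases Int.even_or_odd n with ⟨m, hm⟩ | ⟨m, hm⟩
    · left; rw [← hn, hm, ← two_mul, zpow_mul, zpow_two, Pres.gen_sq pres_ok, one_zpow]
    · right; rw [← hn, hm, zpow_add_one, zpow_mul, zpow_two, Pres.gen_sq pres_ok, one_zpow, one_mul]
  have hg2 : g * g = 1 := by rcases hg01 with e | e <;> rw [e] <;> first | exact mul_one 1 | exact Pres.gen_sq pres_ok 0
  have hue : (u : pres.Grp) = xEl ^ i * g := by rw [hg]; group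
  have hi0 : i = 0 := by
    have hc : Commute (xEl ^ i) g := hgx.pow_left i
    have h1 : xEl ^ (2 * i) = 1 := by
      rw [hue] at hu2
      calc xEl ^ (2 * i) = xEl ^ i * xEl ^ i * (g * g) := by rw [hg2, mul_one, ← pow_add, two_mul]
        _ = xEl ^ i * (xEl ^ i * g) * g := by group
        _ = xEl ^ i * (g * xEl ^ i) * g := by rw [hc.eq]
        _ = 1 := by rw [← hu2]; group
    have := orderOf_dvd_of_pow_eq_one h1
    rw [x_order] at this
    omega
  rw [hue, hi0, pow_zero, one_mul] at hne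
  rcases hg01 with e | e
  · exact absurd e hne
  · have h2 : IsConj u0 tA := by
      have := u.2
      rw [hue, hi0, pow_zero, one_mul, e] at this
      exact this
    exact h2.symm

end Cfsg.Agent.Spor.Fi22Cert.Outer
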