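import Cfsg.Agent.Lib.Spor.M22UWidth

/-!
An involution of SU(6,2) is a product of at most three transvections with pairwise orthogonal,
pairwise independent vectors.
-/

set_option autoImplicit false
set_option maxRecDepth 100000
set_option linter.unusedSectionVars false

namespace Cfsg.Agent.Spor.M22U.Peel

open Matrix Cfsg.Agent.Small Cfsg.Agent.Small.Unitary Cfsg.Agent.Spor.SpFour
open Cfsg.Agent.Spor.M22U.Invol (V6 G6 TV mk)
open Cfsg.Agent.Spor.CoverUnitarySix (T_sq T_conj act_T)

/-- the range of g - 1 -/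
noncomputable def mov (g : G6) : Submodule F4 V6 :=
  LinearMap.range (Matrix.mulVecLin g.1.1 - LinearMap.id)

theorem mem_mov {g : G6} {z : V6} : z ∈ mov g ↔ ∃ v, act g v - v = z := by
  simp [mov, act, LinearMap.mem_range]

theorem mov_orth {g : G6} (hg : g * g = 1) : ∀ a ∈ mov g, ∀ b ∈ mov g, herm a b = 0 := by
  intro a ha b hb
  obtain ⟨x, rfl⟩ := mem_mov.mp ha
  obtain ⟨y, rfl⟩ := mem_mov.mp hb
  have hinv : act g (act g y) = y := by rw [← act_mul, hg, act_one]
  have hadj : herm (act g x) y = herm x (act g y) := by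
    conv_lhs => rw [← hinv]
    exact Invol.hh x (act g y) g
  rw [herm_sub_left, herm_sub_right, herm_sub_right, Invol.hh x y g, hadj]
  simp [CharTwo.sub_eq_add, CharTwo.add_self_eq_zero, add_comm]

theorem mov_small {g : G6} (hg : g * g = 1) : Module.finrank F4 (mov g) ≤ 3 := by
  have h := Width.span_small (mov g) (mov_orth hg)
  rw [Module.natCard_eq_pow_finrank (K := F4), Nat.card_eq_fintype_card, F4.card,
    show (64 : ℕ) = 4 ^ 3 by norm_num] at h
  exact (pow_le_pow_iff_right₀ (show 1 < 4 by norm_num)).mp h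

theorem peel : ∀ (n : ℕ) (g : G6), g * g = 1 → Module.finrank F4 (mov g) = n →
    ∃ l : List V6, l.length ≤ n ∧ g = (l.map TV).prod ∧ (∀ u ∈ l, u ≠ 0 ∧ u ∈ mov g) ∧
      l.Pairwise fun u v => ∀ c : F4, u ≠ c • v := by
  intro n
  induction n using Nat.strong_induction_on with
  | _ n ih =>
    intro g hg hn
    by_cases hg1 : g = 1
    · exact ⟨[], Nat.zero_le _, by simp [hg1], by simp, List.Pairwise.nil⟩
    obtain ⟨v, u, hu, huv, huu, hgu, huo⟩ := Invol.step hg hg1
    have humem : u ∈ mov g := mem_mov.mpr ⟨v, hu.symm⟩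
    have hstar : ∀ x : F4, star x = x ^ 2 := F4.star_eq_pow
    have hTg : TV u * g = g * TV u := by
      have := T_conj hstar g u
      rw [hgu, mul_inv_eq_iff_eq_mul] at this
      exact this.symm
    set g' := TV u * g with hg'
    have hg'2 : g' * g' = 1 := by
      calc g' * g' = TV u * (g * TV u) * g := by rw [hg']; group
        _ = (TV u * TV u) * (g * g) := by rw [← hTg, hg']; group
        _ = 1 := by rw [T_sq, hg, one_mul]
    have hg'v : act g' v = v := by
      rw [hg', act_mul, show act g v = v + u by rw [hu, add_sub_cancel], act_T hstar huu, herm_add_right, huu,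
        add_zero, huv, one_smul, add_assoc, CoverUnitarySix.vadd_self hstar, add_zero]
    have hle : mov g' ≤ mov g := by
      intro z hz
      obtain ⟨x, rfl⟩ := mem_mov.mp hz
      have e : act g' x - x = (act g x - x) + herm u (act g x) • u := by
        rw [hg', act_mul, act_T hstar huu]; abel
      rw [e]
      exact (mov g).add_mem (mem_mov.mpr ⟨x, rfl⟩) ((mov g).smul_mem _ humem)
    have hnu : ∀ z ∈ mov g', herm z v = 0 := by
      intro z hz
      obtain ⟨x, rfl⟩ := mem_mov.mp hz
      rw [herm_sub_left]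
      conv_lhs => arg 1; rw [← hg'v, Invol.hh x v g']
      exact sub_self _
    have hu' : u ∉ mov g' := fun h => by
      have := hnu u h
      rw [huv] at this
      exact one_ne_zero this
    have hlt : mov g' < mov g := lt_of_le_not_ge hle fun h => hu' (h humem)
    have hrk := Submodule.finrank_lt_finrank_of_lt hlt
    obtain ⟨l, h1, h2, h3, h4⟩ := ih _ (hn ▸ hrk) g' hg'2 rfl
    refine ⟨u :: l, by simp only [List.length_cons]; omega, ?_, ?_, ?_⟩
    · rw [List.map_cons, List.prod_cons, ← h2, hg', ← mul_assoc, T_sq, one_mul]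
    · intro w hw
      rcases List.mem_cons.mp hw with rfl | hw
      · exact ⟨fun h => one_ne_zero (huv.symm.trans (by rw [h, herm_zero_left])), humem⟩
      · exact ⟨(h3 w hw).1, hle (h3 w hw).2⟩
    · refine List.pairwise_cons.mpr ⟨fun w hw c h => hu' ?_, h4⟩
      rw [h]; exact (mov g').smul_mem c (h3 w hw).2

/-- involutions of the projective group -/
theorem points {x : Cfsg.PSU 6 F4 2} (h2 : x * x = 1) :
    ∃ l : List ℕ, l.length ≤ 3 ∧ l.Nodup ∧ (∀ k ∈ l, k < 693) ∧ x = (l.map Pts.ptr).prod ∧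
      ∀ j ∈ l, ∀ k ∈ l, herm (Pts.gv j) (Pts.gv k) = 0 := by
  obtain ⟨g, rfl⟩ := QuotientGroup.mk'_surjective (Subgroup.center G6) x
  have hz : g * g ∈ Subgroup.center G6 := by
    rw [← map_mul, QuotientGroup.mk'_apply, QuotientGroup.eq_one_iff] at h2; exact h2
  set g₀ := g * g * g with hg₀
  have hx : mk g₀ = mk g := by rw [hg₀, map_mul, map_mul, h2, one_mul]
  have hsq : g₀ * g₀ = 1 := by
    rw [← Invol.center_cube hz, hg₀, pow_succ, pow_two]
    simp only [mul_assoc]
  obtain ⟨l, h1, hprod, hmem, hpw⟩ := peel _ g₀ hsq rfl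
  let f : V6 → ℕ := fun u => SUSix.idx (SUSix.code u)
  have horth := mov_orth hsq
  have hspec : ∀ u ∈ l, f u < 693 ∧ mk (TV u) = Pts.ptr (f u) ∧ ∃ c : F4, c ≠ 0 ∧ u = c • Pts.gv (f u) := by
    intro u hu
    obtain ⟨h0, hm⟩ := hmem u hu
    obtain ⟨k1, k2⟩ := Pts.exists_ptr h0 (horth u hm u hm)
    exact ⟨k1, k2, (SUSix.exists_pt u h0 (horth u hm u hm)).2⟩
  refine ⟨l.map f, ?_, ?_, ?_, ?_, ?_⟩
  · rw [List.length_map]; exact h1.trans (mov_small hsq)
  · rw [List.Nodup, List.pairwise_map]
    refine hpw.imp_of_mem fun {u v} hu hv h e => ?_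
    obtain ⟨-, -, c, hc, hcu⟩ := hspec u hu
    obtain ⟨-, -, d, hd, hdv⟩ := hspec v hv
    apply h (c * d⁻¹)
    generalize hp : Pts.gv (f v) = p at hdv
    rw [e, hp] at hcu
    rw [hdv, smul_smul, mul_assoc, inv_mul_cancel₀ hd, mul_one]
    exact hcu
  · intro k hk
    obtain ⟨u, hu, rfl⟩ := List.mem_map.mp hk
    exact (hspec u hu).1
  · show mk g = _
    rw [← hx, hprod, map_list_prod, List.map_map, List.map_map]
    exact congrArg List.prod (List.map_congr_left fun u hu => (hspec u hu).2.1)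
  · intro j hj k hk
    obtain ⟨u, hu, rfl⟩ := List.mem_map.mp hj
    obtain ⟨v, hv, rfl⟩ := List.mem_map.mp hk
    obtain ⟨-, -, c, hc, hcu⟩ := hspec u hu
    obtain ⟨-, -, d, hd, hdv⟩ := hspec v hv
    have h0 := horth u (hmem u hu).2 v (hmem v hv).2
    generalize Pts.gv (f u) = p at hcu ⊢
    generalize Pts.gv (f v) = q at hdv ⊢
    subst hcu; subst hdv
    rw [herm_smul_left, herm_smul_right] at h0
    rcases mul_eq_zero.mp h0 with h | h
    · exact absurd (star_eq_zero.mp h) hc
    · exact (mul_eq_zero.mp h).resolve_left hd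

end Cfsg.Agent.Spor.M22U.Peel
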