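import Cfsg.Agent.Lib.Spor.M22UTuples

/-!
Concrete products of commuting members in the presented group Fi22: fixed members and relations.
-/

set_option autoImplicit false
set_option maxRecDepth 100000
set_option Elab.async false

namespace Cfsg.Agent.Spor.M22U.TupChecks

open Cfsg.Agent.Spor.CC Cfsg.Agent.Spor.Fi22Cert Cfsg.Agent.Spor.Fi22Cert.U62Act TDat

/-- word of one of the ten members -/
def mw (i : ℕ) : List ℕ := mws.getD i []
/-- word of a product -/
def pwd (l : List ℕ) : List ℕ := (l.map fun i => Fischer.tw' (mw i)).flatten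
/-- the points of the ten members -/
def pts : List ℕ := [0, Tuples.p0, q0, line.getD 0 0, line.getD 1 0, line.getD 2 0, r0]

/-- fixed point -/
noncomputable def fixb (l : List ℕ) (x : ℕ) : Bool := Nat.beq (ev RepU62.rows 9 (pwd l) x) x
/-- number of fixed points -/
noncomputable def nfix (l : List ℕ) : ℕ → ℕ
  | 0 => 0
  | n + 1 => (bif fixb l n then 1 else 0) + nfix l n

theorem letters : lettersOK 9 mws = true ∧
    lettersOK 9 [pwd [0, 1, 2] ++ (pwd [3, 4, 5]).reverse, pwd [0, 1, 2, 3] ++ (pwd [4, 5]).reverse,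
      pwd [0, 1, 2, 6] ++ (pwd [7, 8, 9]).reverse] = true ∧ mws.length = 10 := by decide +kernel

theorem rels : fixOK RepU62.rows 9 [pwd [0, 1, 2] ++ (pwd [3, 4, 5]).reverse, pwd [0, 1, 2, 3] ++ (pwd [4, 5]).reverse,
    pwd [0, 1, 2, 6] ++ (pwd [7, 8, 9]).reverse] (RepU62.levels.map Orb.b) = true := by decide +kernel

theorem places : ∀ i < 6, ev RepU62.rows 9 (mw (i + 1)) 0 = fld RepU62.sub2.pts 16 (pts.getD (i + 1) 0) := by
  decide +kernel

/-- pairwise commuting lists of members -/
noncomputable def commOK (l : List ℕ) : Bool :=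
  l.all fun i => l.all fun j => Nat.beq (ev RepU62.rows 9 (Fischer.tw' (mw i)) (ev RepU62.rows 9 (mw j) 0))
    (ev RepU62.rows 9 (mw j) 0)

/-- distinct members -/
noncomputable def distOK (l : List ℕ) : Bool :=
  decide ((l.map fun i => ev RepU62.rows 9 (mw i) 0).Nodup)

theorem lists_ok : commOK [0, 1, 2, 3, 4, 5] = true ∧ commOK [7, 8, 9] = true ∧
    distOK [0, 1, 2, 3, 4, 5, 6] = true ∧ distOK [7, 8, 9] = true := by decide +kernel

theorem count1 : nfix [0] 3510 = 694 := by decide +kernel
theorem count2 : nfix [0, 1] 3510 = 182 := by decide +kernel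
theorem count3 : nfix [0, 1, 2] 3510 = 54 := by decide +kernel

/-- a member fixed by the pair commutes with both -/
noncomputable def twoFix (x : ℕ) : Bool := !(fixb [0, 1] x) || (fixb [0] x && fixb [1] x)
/-- a member fixed by the triple commutes with all three -/
noncomputable def threeFix (x : ℕ) : Bool := !(fixb [0, 1, 2] x) || (fixb [0] x && fixb [1] x && fixb [2] x)

theorem two_fix0 : rangeOK twoFix 0 3510 = true := by decide +kernel
theorem three_fix0 : rangeOK threeFix 0 3510 = true := by decide +kernel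

end Cfsg.Agent.Spor.M22U.TupChecks
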