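import Cfsg.Agent.Lib.Spor.M22UClasses
import Cfsg.Agent.Lib.Spor.M22UPeel
import Cfsg.Agent.Lib.Spor.M22UTupChecks

/-!
The three classes of involutions of a group of type M(22): products of one, two or three distinct
commuting members.
-/

set_option autoImplicit false
set_option maxRecDepth 100000
set_option linter.unusedSectionVars false

namespace Cfsg.Agent.Spor.M22U.InvClasses

open Cfsg.Agent.Spor.CC Cfsg.Agent.Spor.Fi22Cert Cfsg.Agent.Spor.Fi22Cert.U62Act TDat
open Cfsg.Agent.Spor.M22U.Tuples (P p0)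
open Cfsg.Agent.Spor.M22U.TupChecks (mw pwd pts)

/-- one of the ten members -/
noncomputable def T (i : ℕ) : pres.Grp := (Fischer.mem (mw i) : pres.Grp)

theorem mw_lt (i : ℕ) : ∀ x ∈ mw i, x < 9 := by
  intro x hx
  rw [mw] at hx
  by_cases hi : i < mws.length
  · rw [List.getD_eq_getElem _ _ hi] at hx
    exact lettersOK_spec TupChecks.letters.1 (List.getElem_mem hi) hx
  · rw [List.getD_eq_default _ _ (by omega)] at hx
    simp at hx

theorem tw_prod (w : List ℕ) : (Fischer.mem w : pres.Grp) = ((Fischer.tw' w).map pres.gen).prod := by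
  show _ * tA * _ = _
  rw [prod_rev, Fischer.tw', List.map_append, List.prod_append, List.map_cons, List.prod_cons]
  simp only [mul_assoc]

theorem pwd_prod : ∀ l : List ℕ, ((pwd l).map pres.gen).prod = (l.map T).prod
  | [] => rfl
  | i :: l => by
    rw [show pwd (i :: l) = Fischer.tw' (mw i) ++ pwd l from rfl, List.map_append, List.prod_append, pwd_prod l,
      List.map_cons, List.prod_cons, T, tw_prod]

theorem pwd_lt (l : List ℕ) : ∀ x ∈ pwd l, x < 9 := by
  intro x hx
  obtain ⟨w, hw, hxw⟩ := List.mem_flatten.mp hx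
  obtain ⟨i, -, rfl⟩ := List.mem_map.mp hw
  rw [Fischer.tw', List.mem_append, List.mem_cons, List.mem_reverse] at hxw
  rcases hxw with h | rfl | h
  · exact mw_lt i x h
  · norm_num
  · exact mw_lt i x h

theorem T_zero : T 0 = tA := Fischer.mem_nil

theorem theta_P {k : ℕ} (hk : k < 693) (h : P k ∈ Fischer.Dc) :
    (Fischer.theta ⟨P k, h⟩ : ℕ) = fld RepU62.sub2.pts 16 k := by
  obtain ⟨hm1, hm2, hm3⟩ := Fischer.frame.pt_mem hk
  have h1 := Fischer.piFun_spec ⟨P k, hm1, hm2, hm3⟩
  rw [← h1]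
  have h2 : Fischer.piFun ⟨P k, hm1, hm2, hm3⟩ = ⟨k, hk⟩ := by
    have h3 : (⟨P k, hm1, hm2, hm3⟩ : Fischer.Na) = Fischer.frame.pi.symm ⟨k, hk⟩ :=
      Subtype.ext (by show Fischer.frame.pt k = _; rw [Frame.pt, dif_pos hk])
    rw [h3]
    exact Fischer.frame.pi.apply_symm_apply _
  rw [h2]
  rfl

theorem pts_lt : ∀ i < 6, pts.getD (i + 1) 0 < 693 := by decide +kernel

theorem T_pt {i : ℕ} (hi : i < 6) : T (i + 1) = P (pts.getD (i + 1) 0) := by
  have hk := pts_lt i hi
  have hm := (Fischer.frame.pt_mem hk).1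
  have e : Fischer.mem (mw (i + 1)) = (⟨P (pts.getD (i + 1) 0), hm⟩ : Fischer.Dc) := by
    apply Fischer.theta_inj
    refine Fin.ext ?_
    rw [Fischer.theta_mem (mw_lt _), TupChecks.places i hi, theta_P hk]
  exact congrArg Subtype.val e

theorem T_names : T 1 = P p0 ∧ T 2 = P q0 ∧ T 3 = P (line.getD 0 0) ∧ T 4 = P (line.getD 1 0) ∧
    T 5 = P (line.getD 2 0) ∧ T 6 = P r0 :=
  ⟨T_pt (i := 0) (by norm_num), T_pt (i := 1) (by norm_num), T_pt (i := 2) (by norm_num),
    T_pt (i := 3) (by norm_num), T_pt (i := 4) (by norm_num), T_pt (i := 5) (by norm_num)⟩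

theorem rel {u v : List ℕ}
    (h : pwd u ++ (pwd v).reverse ∈ [pwd [0, 1, 2] ++ (pwd [3, 4, 5]).reverse,
      pwd [0, 1, 2, 3] ++ (pwd [4, 5]).reverse, pwd [0, 1, 2, 6] ++ (pwd [7, 8, 9]).reverse]) :
    (u.map T).prod = (v.map T).prod := by
  haveI := order.1
  have h1 : ((pwd u ++ (pwd v).reverse).map pres.gen).prod = 1 :=
    eq_one_of_fix rep.valid pres.gen rep.hom rep.hom_gen RepU62.chain_ok
      (by rw [order.2.1, RepU62.chain_size]) (fun x hx => lettersOK_spec TupChecks.letters.2.1 h hx)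
      (by
        have := TupChecks.rels
        simp only [fixOK, List.all_cons, List.all_nil, Bool.and_true, Bool.and_eq_true] at this ⊢
        simp only [List.mem_cons, List.not_mem_nil, or_false] at h
        rcases h with h | h | h <;> rw [h]
        · exact this.1
        · exact this.2.1
        · exact this.2.2)
  rw [List.map_append, List.prod_append, ← prod_rev, pwd_prod, pwd_prod, mul_inv_eq_one] at h1
  exact h1

theorem T_comm {l : List ℕ} (h : TupChecks.commOK l = true) {i j : ℕ} (hi : i ∈ l) (hj : j ∈ l) :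
    Commute (T i) (T j) := by
  simp only [TupChecks.commOK, List.all_eq_true] at h
  show Commute (Fischer.mem (mw i) : pres.Grp) (Fischer.mem (mw j))
  rw [Fischer.commute_iff]
  refine Fin.ext ?_
  rw [Fischer.mem_act (mw_lt i), Fischer.theta_mem (mw_lt j)]
  exact Nat.eq_of_beq_eq_true (h i hi j hj)

theorem T_ne {l : List ℕ} (h : TupChecks.distOK l = true) : (l.map T).Nodup := by
  classical
  simp only [TupChecks.distOK, decide_eq_true_eq] at h
  have key : ((l.map T).map fun g : pres.Grp =>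
      if hg : g ∈ Fischer.Dc then (Fischer.theta ⟨g, hg⟩ : ℕ) else 0) =
      l.map fun i => ev RepU62.rows 9 (mw i) 0 := by
    rw [List.map_map]
    refine List.map_congr_left fun i _ => ?_
    show (if hg : T i ∈ Fischer.Dc then (Fischer.theta ⟨T i, hg⟩ : ℕ) else 0) = _
    rw [dif_pos (show T i ∈ Fischer.Dc from (Fischer.mem (mw i)).2)]
    exact Fischer.theta_mem (mw_lt i)
  exact List.Nodup.of_map _ (key ▸ h)

universe u
variable {G : Type u} [Group G] [Finite G] {D : Set G}

/-- number of members commuting with an element -/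
noncomputable def fx (D : Set G) (u : G) : ℕ := {d : G | d ∈ D ∧ Commute u d}.ncard

theorem fx_conj (hD : Cfsg.IsThreeTranspositionGroup D) (g u : G) : fx D (g * u * g⁻¹) = fx D u := by
  rw [fx, fx, ← Set.ncard_image_of_injective {d : G | d ∈ D ∧ Commute u d} (MulAut.conj g).injective]
  congr 1
  ext d
  constructor
  · rintro ⟨hd, hc⟩
    refine ⟨g⁻¹ * d * g, ⟨(Spor.conj_mem_iff hD.2.1 g).1 hd, ?_⟩, by
      show g * (g⁻¹ * d * g) * g⁻¹ = d; group⟩
    rw [← Spor.commute_conj_iff (g := g)]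
    have e : g * (g⁻¹ * d * g) * g⁻¹ = d := by group
    rw [e]; exact hc
  · rintro ⟨e, ⟨he, hc⟩, rfl⟩
    exact ⟨hD.2.1 g e he, hc.map (MulAut.conj g).toMonoidHom⟩

theorem fx_iso (e : pres.Grp ≃* G) (he : e '' Fischer.Dc = D) (u : pres.Grp) : fx D (e u) = fx Fischer.Dc u := by
  rw [fx, fx, ← Set.ncard_image_of_injective {d | d ∈ Fischer.Dc ∧ Commute u d} e.injective]
  congr 1
  ext d
  constructor
  · rintro ⟨hd, hc⟩
    rw [← he] at hd
    obtain ⟨v, hv, rfl⟩ := hd
    exact ⟨v, ⟨hv, e.injective (by rw [map_mul, map_mul]; exact hc.eq)⟩, rfl⟩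
  · rintro ⟨v, ⟨hv, hc⟩, rfl⟩
    exact ⟨by rw [← he]; exact ⟨v, hv, rfl⟩, hc.map e⟩

theorem theta_surj : Function.Surjective Fischer.theta := by
  haveI := order.1
  haveI : Fintype Fischer.Dc := Fintype.ofFinite _
  refine ((Fintype.bijective_iff_injective_and_card Fischer.theta).mpr ⟨Fischer.theta_inj, ?_⟩).2
  rw [← Nat.card_eq_fintype_card, card_class, Fintype.card_fin]
  rfl

theorem fixed_iff (l : List ℕ) (d : Fischer.Dc) :
    Commute ((l.map T).prod) (d : pres.Grp) ↔ TupChecks.fixb l (Fischer.theta d : ℕ) = true := by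
  set g := (l.map T).prod
  have hmem : g * d * g⁻¹ ∈ Fischer.Dc := Fischer.three.2.1 _ _ d.2
  rw [TupChecks.fixb, beq_iff, ← Fischer.hom_val (pwd_lt l), pwd_prod, ← Fin.ext_iff,
    ← Fischer.theta_conj g d ⟨_, hmem⟩ rfl, Fischer.theta_inj.eq_iff, Subtype.ext_iff, mul_inv_eq_iff_eq_mul]
  rfl

theorem nfix_card (l : List ℕ) : ∀ n, TupChecks.nfix l n =
    ((Finset.range n).filter fun x => TupChecks.fixb l x = true).card
  | 0 => rfl
  | n + 1 => by
    rw [TupChecks.nfix, nfix_card l n, Finset.range_add_one, Finset.filter_insert]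
    cases h : TupChecks.fixb l n
    · simp
    · simp [Finset.card_insert_of_notMem]; omega

theorem fx_T (l : List ℕ) : fx Fischer.Dc ((l.map T).prod) = TupChecks.nfix l 3510 := by
  rw [nfix_card, fx, ← Set.ncard_coe_finset]
  refine Set.ncard_congr (fun d hd => (Fischer.theta ⟨d, hd.1⟩ : ℕ)) ?_ ?_ ?_
  · intro d hd
    simp only [Finset.coe_filter, Finset.mem_range, Set.mem_setOf_eq]
    exact ⟨(Fischer.theta ⟨d, hd.1⟩).2, (fixed_iff l ⟨d, hd.1⟩).mp hd.2⟩
  · intro a b ha hb h
    exact congrArg Subtype.val (Fischer.theta_inj (Fin.ext h))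
  · intro x hx
    simp only [Finset.coe_filter, Finset.mem_range, Set.mem_setOf_eq] at hx
    obtain ⟨d, hd⟩ := theta_surj ⟨x, hx.1⟩
    have e : (Fischer.theta d : ℕ) = x := congrArg Fin.val hd
    exact ⟨d, ⟨d.2, (fixed_iff l d).mpr (e ▸ hx.2)⟩, e⟩

variable (hD : Cfsg.IsThreeTranspositionGroup D) (hprim : Cfsg.IsPrimitiveUnderConj D)
  (ht : Cfsg.IsOfTypeM22 G D)

include hD hprim ht in
theorem fx_one {a : G} (ha : a ∈ D) : fx D a = 694 := by
  obtain ⟨e, hea, he⟩ := Facts.exists_iso_at hD hprim ht ha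
  rw [← hea, fx_iso e he, ← TupChecks.count1, ← fx_T]
  simp [T_zero]

include hD hprim ht in
theorem fx_two {a b : G} (ha : a ∈ D) (hb : b ∈ D) (hab : a ≠ b) (cab : Commute a b) : fx D (a * b) = 182 := by
  obtain ⟨e, he, hea, heb⟩ := Tuples.normal2 hD hprim ht ha hb hab cab
  rw [← hea, ← heb, ← map_mul, fx_iso e he, ← TupChecks.count2, ← fx_T]
  simp [T_zero, T_names.1]

include hD hprim ht in
theorem fx_three {a b c : G} (ha : a ∈ D) (hb : b ∈ D) (hc : c ∈ D) (hab : a ≠ b) (hac : a ≠ c) (hbc : b ≠ c)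
    (cab : Commute a b) (cac : Commute a c) (cbc : Commute b c) : fx D (a * b * c) = 54 := by
  obtain ⟨e, he, hea, heb, hec⟩ := Tuples.normal3 hD hprim ht ha hb hc hab hac hbc cab cac cbc
  rw [← hea, ← heb, ← hec, ← map_mul, ← map_mul, fx_iso e he, ← TupChecks.count3, ← fx_T]
  simp [T_zero, T_names.1, T_names.2.1, mul_assoc]

/-- a product of one to three distinct commuting members -/
def Good (D : Set G) (l : List G) : Prop :=
  l.Nodup ∧ (∀ a ∈ l, a ∈ D) ∧ ∀ a ∈ l, ∀ b ∈ l, Commute a b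

include hD hprim ht in
theorem fx_good {l : List G} (hl : Good D l) (h1 : 1 ≤ l.length) (h3 : l.length ≤ 3) :
    fx D l.prod = [0, 694, 182, 54].getD l.length 0 := by
  obtain ⟨hn, hmem, hcom⟩ := hl
  match l, h1, h3 with
  | [a], _, _ => simpa using fx_one hD hprim ht (hmem a (by simp))
  | [a, b], _, _ =>
    simpa using fx_two hD hprim ht (hmem a (by simp)) (hmem b (by simp)) (by simpa using hn)
      (hcom a (by simp) b (by simp))
  | [a, b, c], _, _ =>
    simp only [List.nodup_cons, List.mem_cons, List.not_mem_nil, or_false, not_or, List.nodup_nil, and_true,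
      not_false_eq_true] at hn
    simpa [mul_assoc] using fx_three hD hprim ht (hmem a (by simp)) (hmem b (by simp)) (hmem c (by simp))
      hn.1.1 hn.1.2 hn.2 (hcom a (by simp) b (by simp)) (hcom a (by simp) c (by simp)) (hcom b (by simp) c (by simp))

include hD hprim ht in
theorem good_conj {l l' : List G} (hl : Good D l) (hl' : Good D l') (hlen : l.length = l'.length)
    (h1 : 1 ≤ l.length) (h3 : l.length ≤ 3) : IsConj l.prod l'.prod := by
  obtain ⟨hn, hmem, hcom⟩ := hl
  obtain ⟨hn', hmem', hcom'⟩ := hl'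
  match l, l', hlen, h1, h3 with
  | [a], [a'], _, _, _ =>
    obtain ⟨g, hg⟩ := hprim.1 a (hmem a (by simp)) a' (hmem' a' (by simp))
    simpa using isConj_iff.mpr ⟨g, hg⟩
  | [a, b], [a', b'], _, _, _ =>
    obtain ⟨e, he, hea, heb⟩ := Tuples.normal2 hD hprim ht (hmem a (by simp)) (hmem b (by simp))
      (by simpa using hn) (hcom a (by simp) b (by simp))
    obtain ⟨e', he', hea', heb'⟩ := Tuples.normal2 hD hprim ht (hmem' a' (by simp)) (hmem' b' (by simp))
      (by simpa using hn') (hcom' a' (by simp) b' (by simp))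
    -- the inner automorphism class of the two isomorphisms
    obtain ⟨g, hg⟩ := hprim.1 a (hmem a (by simp)) a' (hmem' a' (by simp))
    set φ := e.trans (MulAut.conj g)
    have hφ : φ '' Fischer.Dc = D := by
      ext y
      constructor
      · rintro ⟨u, hu, rfl⟩
        exact hD.2.1 g _ (by rw [← he]; exact ⟨u, hu, rfl⟩)
      · intro hy
        have hy' : g⁻¹ * y * g ∈ D := (Spor.conj_mem_iff hD.2.1 g).1 hy
        rw [← he] at hy'
        obtain ⟨u, hu, hue⟩ := hy'
        exact ⟨u, hu, by show g * e u * g⁻¹ = y; rw [hue]; group⟩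
    have hφa : φ tA = a' := by show g * e tA * g⁻¹ = a'; rw [hea, hg]
    obtain ⟨k, hk, hkb⟩ := Tuples.member_pt φ hφ (hmem' b' (by simp))
      (by rw [hφa]; exact fun h => (by simpa using hn' : a' ≠ b') h.symm)
      (by rw [hφa]; exact hcom' a' (by simp) b' (by simp))
    obtain ⟨w, hw, hwk⟩ := Pts.from_first hk
    have hz := Fischer.frame.hw_comm_a hw
    rw [Tuples.frame_a] at hz
    refine isConj_iff.mpr ⟨g * e (Fischer.frame.hw w), ?_⟩
    have e1 : Fischer.frame.hw w * P p0 * (Fischer.frame.hw w)⁻¹ = P k := by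
      rw [Fischer.frame.hw_conj hw Tuples.p0_lt, hwk]
    have e2 : Fischer.frame.hw w * tA * (Fischer.frame.hw w)⁻¹ = tA := mul_inv_eq_iff_eq_mul.mpr hz.symm.eq
    simp only [List.prod_cons, List.prod_nil, mul_one]
    rw [← hea, ← heb, ← hφa, ← hkb, ← e1]
    conv_rhs => rw [← e2]
    show g * e _ * (e tA * e (P p0)) * (g * e _)⁻¹ = g * e (_ * tA * _) * g⁻¹ * (g * e (_ * P p0 * _) * g⁻¹)
    simp only [map_mul, map_inv]
    group
  | [a, b, c], [a', b', c'], _, _, _ =>
    simp only [List.nodup_cons, List.mem_cons, List.not_mem_nil, or_false, not_or, List.nodup_nil, and_true,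
      not_false_eq_true] at hn hn'
    obtain ⟨g, hg⟩ := hprim.1 a (hmem a (by simp)) a' (hmem' a' (by simp))
    obtain ⟨e, he, hea, heb, hec⟩ := Tuples.normal3 hD hprim ht (hmem a (by simp)) (hmem b (by simp))
      (hmem c (by simp)) hn.1.1 hn.1.2 hn.2 (hcom a (by simp) b (by simp)) (hcom a (by simp) c (by simp))
      (hcom b (by simp) c (by simp))
    set φ := e.trans (MulAut.conj g)
    have hφ : φ '' Fischer.Dc = D := by
      ext y
      constructor
      · rintro ⟨u, hu, rfl⟩
        exact hD.2.1 g _ (by rw [← he]; exact ⟨u, hu, rfl⟩)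
      · intro hy
        have hy' : g⁻¹ * y * g ∈ D := (Spor.conj_mem_iff hD.2.1 g).1 hy
        rw [← he] at hy'
        obtain ⟨u, hu, hue⟩ := hy'
        exact ⟨u, hu, by show g * e u * g⁻¹ = y; rw [hue]; group⟩
    have hφa : φ tA = a' := by show g * e tA * g⁻¹ = a'; rw [hea, hg]
    obtain ⟨k, hk, hkb⟩ := Tuples.member_pt φ hφ (hmem' b' (by simp))
      (by rw [hφa]; exact Ne.symm hn'.1.1) (by rw [hφa]; exact hcom' a' (by simp) b' (by simp))
    obtain ⟨w, hw, hwk⟩ := Pts.from_first hk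
    obtain ⟨φ₁, h1φ, h2φ, h3φ⟩ := Tuples.step φ hφ hw
    have hb1 : φ₁ (P p0) = b' := by rw [h3φ _ Tuples.p0_lt, hwk, hkb]
    have ha1 : φ₁ tA = a' := h2φ.trans hφa
    obtain ⟨j, hj, hjc⟩ := Tuples.member_pt φ₁ h1φ (hmem' c' (by simp))
      (by rw [ha1]; exact Ne.symm hn'.1.2) (by rw [ha1]; exact hcom' a' (by simp) c' (by simp))
    have horth : orth p0 j = true :=
      (Tuples.orth_iff φ₁ Tuples.p0_lt hj).mp (by rw [hb1, hjc]; exact hcom' b' (by simp) c' (by simp))
    obtain ⟨v, hv, v1, v2⟩ := Tuples.two_word hj horth fun h => hn'.2 (by rw [← hb1, ← hjc, h])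
    -- the two words give the conjugating element
    set H := Fischer.frame.hw (w ++ v)
    have hwv : below 8 (w ++ v) = true := below_append hw hv
    have hz := Fischer.frame.hw_comm_a hwv
    rw [Tuples.frame_a] at hz
    have eA : H * tA * H⁻¹ = tA := mul_inv_eq_iff_eq_mul.mpr hz.symm.eq
    have eb : g * e (H * P p0 * H⁻¹) * g⁻¹ = b' := by
      rw [Fischer.frame.hw_conj hwv Tuples.p0_lt, pev_append, v1, hwk]; exact hkb
    have ec : g * e (H * P q0 * H⁻¹) * g⁻¹ = c' := by
      rw [Fischer.frame.hw_conj hwv Tuples.base_ok.1, pev_append, v2, ← hjc, h3φ _ hj]; rfl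
    have ea : g * e (H * tA * H⁻¹) * g⁻¹ = a' := by rw [eA, hea, hg]
    refine isConj_iff.mpr ⟨g * e H, ?_⟩
    simp only [List.prod_cons, List.prod_nil, mul_one]
    rw [← hea, ← heb, ← hec, ← ea, ← eb, ← ec]
    simp only [map_mul, map_inv]
    group

include hD hprim ht in
theorem short4 {a b c d : G} (hl : Good D [a, b, c, d]) :
    ∃ l : List G, Good D l ∧ 1 ≤ l.length ∧ l.length ≤ 3 ∧ l.prod = a * b * c * d := by
  obtain ⟨hn, hmem, hcom⟩ := hl
  simp only [List.nodup_cons, List.mem_cons, List.not_mem_nil, or_false, not_or, List.nodup_nil, and_true,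
    not_false_eq_true] at hn
  obtain ⟨⟨hab, hac, had⟩, ⟨hbc, hbd⟩, hcd⟩ := hn
  obtain ⟨e, he, hea, heb, hec⟩ := Tuples.normal3 hD hprim ht (hmem a (by simp)) (hmem b (by simp))
    (hmem c (by simp)) hab hac hbc (hcom a (by simp) b (by simp)) (hcom a (by simp) c (by simp))
    (hcom b (by simp) c (by simp))
  have hT : e '' Fischer.Dc = D := he
  obtain ⟨hok1, hok2, hd1, hd2⟩ := TupChecks.lists_ok
  have mk : ∀ (e : pres.Grp ≃* G) (_ : e '' Fischer.Dc = D) (m : List ℕ), (∀ i ∈ m, i < 10) →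
      TupChecks.commOK m = true → (m.map T).Nodup → Good D (m.map fun i => e (T i)) := by
    intro e he m _ hc hn
    refine ⟨?_, ?_, ?_⟩
    · rw [show (fun i => e (T i)) = e ∘ T from rfl, ← List.map_map]; exact hn.map e.injective
    · intro x hx
      obtain ⟨i, -, rfl⟩ := List.mem_map.mp hx
      rw [← he]; exact ⟨_, (Fischer.mem (mw i)).2, rfl⟩
    · intro x hx y hy
      obtain ⟨i, hi, rfl⟩ := List.mem_map.mp hx
      obtain ⟨j, hj, rfl⟩ := List.mem_map.mp hy
      exact (T_comm hc hi hj).map e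
  have e0 := T_zero
  obtain ⟨e1, e2, e3, e4, e5, e6⟩ := T_names
  rcases Tuples.normal4 e he (hmem d (by simp)) (by rw [hea]; exact Ne.symm had) (by rw [heb]; exact Ne.symm hbd)
    (by rw [hec]; exact Ne.symm hcd) (by rw [hea]; exact hcom a (by simp) d (by simp))
    (by rw [heb]; exact hcom b (by simp) d (by simp)) (by rw [hec]; exact hcom c (by simp) d (by simp)) with
    ⟨l, hl, hle⟩ | ⟨e', he', g1, g2, g3, g4⟩
  · -- on the line
    have hline : line = [line.getD 0 0, line.getD 1 0, line.getD 2 0] := by decide +kernel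
    have hlT : ∃ i ∈ [3, 4, 5], P l = T i := by
      rw [hline] at hl
      simp only [List.mem_cons, List.not_mem_nil, or_false] at hl
      rcases hl with rfl | rfl | rfl
      · exact ⟨3, by simp, e3.symm⟩
      · exact ⟨4, by simp, e4.symm⟩
      · exact ⟨5, by simp, e5.symm⟩
    obtain ⟨i, hi, hli⟩ := hlT
    set m := [3, 4, 5].filter fun j => j != i with hm
    have hm2 : m.length = 2 ∧ (∀ j ∈ m, j ∈ [3, 4, 5]) ∧ m.Nodup := by
      simp only [List.mem_cons, List.not_mem_nil, or_false] at hi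
      rcases hi with rfl | rfl | rfl <;> decide
    have hprod : ([3, 4, 5].map T).prod * T i = (m.map T).prod := by
      have hsq : ∀ j, T j * T j = 1 := fun j => Spor.mul_self_of_order_two (Fischer.three.1.1 _ (Fischer.mem (mw j)).2)
      have hc : ∀ x y : ℕ, x ∈ [3, 4, 5] → y ∈ [3, 4, 5] → T x * T y = T y * T x := fun x y hx hy =>
        (T_comm hok1 (by simp at hx ⊢; omega) (by simp at hy ⊢; omega)).eq
      simp only [List.mem_cons, List.not_mem_nil, or_false] at hi
      rcases hi with rfl | rfl | rfl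
      · show T 3 * (T 4 * (T 5 * 1)) * T 3 = T 4 * (T 5 * 1)
        rw [mul_one, ← mul_assoc, mul_assoc _ (T 5), hc 5 3 (by simp) (by simp), ← mul_assoc, mul_assoc _ (T 4),
          hc 4 3 (by simp) (by simp), ← mul_assoc, hsq, one_mul]
      · show T 3 * (T 4 * (T 5 * 1)) * T 4 = T 3 * (T 5 * 1)
        rw [mul_one, mul_assoc, mul_assoc (T 4), hc 5 4 (by simp) (by simp), ← mul_assoc (T 4), hsq, one_mul]
      · show T 3 * (T 4 * (T 5 * 1)) * T 5 = T 3 * (T 4 * 1)
        rw [mul_one, mul_one, mul_assoc, mul_assoc, hsq, mul_one]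
    refine ⟨m.map fun j => e (T j), mk e he m (fun j hj => ?_) ?_ ?_, by simp [hm2.1], by simp [hm2.1], ?_⟩
    · have := hm2.2.1 j hj; simp at this; omega
    · simp only [TupChecks.commOK, List.all_eq_true] at hok1 ⊢
      intro x hx y hy
      have hx' := hm2.2.1 x hx
      have hy' := hm2.2.1 y hy
      exact hok1 x (by simp at hx' ⊢; omega) y (by simp at hy' ⊢; omega)
    · have hn6 := T_ne hd1
      have hsub : ([3, 4, 5].map T).Nodup := by
        refine List.Nodup.sublist ?_ hn6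
        exact List.Sublist.map T (by decide)
      exact List.Nodup.sublist (List.Sublist.map T List.filter_sublist) hsub
    · rw [show (fun j => e (T j)) = e ∘ T from rfl, ← List.map_map, ← map_list_prod, ← hprod,
        ← rel (u := [0, 1, 2]) (v := [3, 4, 5]) (by simp), ← hle, hli, ← hea, ← heb, ← hec]
      simp [e0, e1, e2, mul_assoc]
  · refine ⟨[7, 8, 9].map fun j => e' (T j), mk e' he' _ (by simp) hok2 (T_ne hd2), by simp, by simp, ?_⟩
    rw [show (fun j => e' (T j)) = e' ∘ T from rfl, ← List.map_map, ← map_list_prod,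
      ← rel (u := [0, 1, 2, 6]) (v := [7, 8, 9]) (by simp), ← hea, ← heb, ← hec, ← g1, ← g2, ← g3, ← g4]
    simp [e0, e1, e2, e6, mul_assoc]

include hD hprim ht in
theorem exists_good {x : G} (hx2 : orderOf x = 2) :
    ∃ l : List G, Good D l ∧ 1 ≤ l.length ∧ l.length ≤ 3 ∧ l.prod = x := by
  obtain ⟨a, ha, hax⟩ := Classes.exists_commute hD hprim ht hx2
  obtain ⟨hcard, hz2, ⟨φ⟩, -⟩ := Facts.cover_at hD hprim ht ha
  set C := Subgroup.centralizer ({a} : Set G)
  have hcen := Facts.center_cent hD hprim ht ha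
  let ψ : C →* Cfsg.PSU 6 SpFour.F4 2 := φ.toMonoidHom.comp (QuotientGroup.mk' (Subgroup.center C))
  have hψs : Function.Surjective ψ := φ.surjective.comp (QuotientGroup.mk'_surjective _)
  have hψk : ∀ v : C, ψ v = 1 → v ∈ Subgroup.center C := fun v hv => by
    have h1 : φ (QuotientGroup.mk' (Subgroup.center C) v) = φ 1 := by rw [map_one]; exact hv
    exact (QuotientGroup.eq_one_iff v).mp (φ.injective h1)
  have ha2 : a * a = 1 := Spor.mul_self_of_order_two (hD.1.1 a ha)
  have hzx : ∀ v : C, ψ v = 1 → (v : G) = 1 ∨ (v : G) = a := by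
    intro v hv
    have h2 := hψk v hv
    rw [hcen, Subgroup.mem_subgroupOf] at h2
    obtain ⟨n, hn⟩ := Subgroup.mem_zpowers_iff.mp h2
    rcases Int.even_or_odd' n with ⟨m, rfl | rfl⟩
    · left; rw [← hn, zpow_mul, zpow_two, ha2, _root_.one_zpow]
    · right; rw [← hn, zpow_add, zpow_mul, zpow_two, ha2, _root_.one_zpow, one_mul, zpow_one]
  have himg : ∀ k < 693, ∃ y : C, ((y : G) ∈ D ∧ (y : G) ≠ a) ∧ ψ y = Pts.ptr k := by
    obtain ⟨y0, hy0, hy0e⟩ : ∃ y0 : C, ((y0 : G) ∈ D ∧ (y0 : G) ≠ a) ∧ ∃ j, j < 693 ∧ ψ y0 = Pts.ptr j := by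
      obtain ⟨y, hy⟩ : {y : G | y ∈ D ∧ y ≠ a ∧ Commute a y}.Nonempty := by
        rw [Set.nonempty_iff_ne_empty]
        intro h0
        have hclo := Facts.closure_cent hD hprim ht ha
        rw [h0, Subgroup.closure_empty] at hclo
        have hx0 : a ∈ C := Subgroup.mem_centralizer_singleton_iff.mpr rfl
        rw [show C = ⊥ from hclo.symm, Subgroup.mem_bot] at hx0
        have := hD.1.1 a ha
        rw [hx0, orderOf_one] at this
        omega
      refine ⟨⟨y, Subgroup.mem_centralizer_singleton_iff.mpr hy.2.2.symm.eq⟩, ⟨hy.1, hy.2.1⟩, ?_⟩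
      set y' : C := ⟨y, Subgroup.mem_centralizer_singleton_iff.mpr hy.2.2.symm.eq⟩
      have hne1 : ψ y' ≠ 1 := fun h => by
        rcases hzx y' h with h | h
        · have := hD.1.1 y hy.1; rw [show y = 1 from h, orderOf_one] at this; omega
        · exact hy.2.1 h
      rcases Invol.dichotomy (x := ψ y') (by
        rw [← map_mul, show y' * y' = 1 from Subtype.ext (Spor.mul_self_of_order_two (hD.1.1 _ hy.1)), map_one])
        hne1 with ⟨u, hu0, hu, hue⟩ | ⟨q, n2, n3⟩
      · obtain ⟨hl', hp'⟩ := Pts.exists_ptr hu0 hu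
        exact ⟨_, hl', hue.trans hp'⟩
      · exfalso
        obtain ⟨g, rfl⟩ := hψs q
        rw [← map_inv, ← map_mul, ← map_mul, ← map_mul, ← map_pow] at n2 n3
        rcases hD.1.2 y hy.1 _ (hD.2.1 g y hy.1) with h | h
        · exact n2 ((congrArg ψ (Subtype.ext h)).trans (map_one ψ))
        · exact n3 ((congrArg ψ (Subtype.ext h)).trans (map_one ψ))
    obtain ⟨j, hj, hje⟩ := hy0e
    intro k hk
    obtain ⟨w1, hw1, hj1⟩ := Pts.from_first hj
    obtain ⟨w2, hw2, hk2⟩ := Pts.from_first hk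
    have hu := below_append hw2 (below_rev hw1)
    obtain ⟨g, hg⟩ := hψs (Pts.pw (w2 ++ w1.reverse))
    have hga : (g : G) * a * (g : G)⁻¹ = a :=
      mul_inv_eq_iff_eq_mul.mpr (Subgroup.mem_centralizer_singleton_iff.mp g.2)
    refine ⟨g * y0 * g⁻¹, ⟨hD.2.1 _ _ hy0.1, fun h => hy0.2 (mul_left_cancel (mul_right_cancel
      ((show (g : G) * y0 * (g : G)⁻¹ = a from h).trans hga.symm)))⟩, ?_⟩
    rw [map_mul, map_mul, map_inv, hg, hje, Pts.pw_conj hu hj, pev_append, ← hj1,
      pev_rev hw1 (gpt_lt (by norm_num)), hk2]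
  choose! Y hYD hYψ using himg
  set x' : C := ⟨x, Subgroup.mem_centralizer_singleton_iff.mpr hax.symm.eq⟩
  have hx' : x * x = 1 := Spor.mul_self_of_order_two hx2
  obtain ⟨l, hl3, hlnd, hllt, hlprod, hlorth⟩ :=
    Peel.points (x := ψ x') (by rw [← map_mul, show x' * x' = 1 from Subtype.ext hx', map_one])
  have hYsq : ∀ k ∈ l, Y k * Y k = 1 := fun k hk =>
    Subtype.ext (Spor.mul_self_of_order_two (hD.1.1 _ (hYD k (hllt k hk)).1))
  have hYc : ∀ j ∈ l, ∀ k ∈ l, Commute (Y j : G) (Y k : G) := by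
    intro j hj k hk
    have hcψ : Commute (ψ (Y j)) (ψ (Y k)) := by
      rw [hYψ j (hllt j hj), hYψ k (hllt k hk), Pts.ptr_commute (hllt j hj) (hllt k hk)]
      exact hlorth j hj k hk
    have hab : Commute (Y j) (Y k) ∨ Y j * Y k * Y j = Y k * Y j * Y k := by
      rcases Spor.commute_or_braid hD.1 (hYD j (hllt j hj)).1 (hYD k (hllt k hk)).1 with h | h
      · exact Or.inl (Subtype.ext h.eq)
      · exact Or.inr (Subtype.ext h)
    exact congrArg Subtype.val (Norm.commute_lift hψk (hYsq j hj) (hYsq k hk) hab hcψ).eq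
  set ys : List G := l.map fun k => (Y k : G)
  have hys : Good D (a :: ys) := by
    refine ⟨List.nodup_cons.mpr ⟨?_, ?_⟩, ?_, ?_⟩
    · intro h
      obtain ⟨k, hk, e⟩ := List.mem_map.mp h
      exact (hYD k (hllt k hk)).2 e
    · refine hlnd.map_on fun j hj k hk h => ?_
      refine Pts.ptr_inj (hllt j hj) (hllt k hk) ?_
      rw [← hYψ j (hllt j hj), ← hYψ k (hllt k hk), Subtype.ext h]
    · intro y hy
      rcases List.mem_cons.mp hy with rfl | hy
      · exact ha
      · obtain ⟨k, hk, rfl⟩ := List.mem_map.mp hy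
        exact (hYD k (hllt k hk)).1
    · intro p hp q hq
      have hca : ∀ k, Commute a (Y k : G) := fun k => (Subgroup.mem_centralizer_singleton_iff.mp (Y k).2).symm
      rcases List.mem_cons.mp hp with rfl | hp <;> rcases List.mem_cons.mp hq with rfl | hq
      · exact Commute.refl _
      · obtain ⟨k, -, rfl⟩ := List.mem_map.mp hq; exact hca k
      · obtain ⟨k, -, rfl⟩ := List.mem_map.mp hp; exact (hca k).symm
      · obtain ⟨j, hj, rfl⟩ := List.mem_map.mp hp
        obtain ⟨k, hk, rfl⟩ := List.mem_map.mp hq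
        exact hYc j hj k hk
  have hψp : ψ (((l.map Y).prod)⁻¹ * x') = 1 := by
    rw [map_mul, map_inv, map_list_prod, List.map_map,
      show l.map (⇑ψ ∘ Y) = l.map Pts.ptr from List.map_congr_left fun k hk => hYψ k (hllt k hk),
      ← hlprod, inv_mul_cancel]
  have hval : (((l.map Y).prod)⁻¹ * x' : C) = (((l.map Y).prod : C) : G)⁻¹ * x := rfl
  have hpy : (((l.map Y).prod : C) : G) = ys.prod := by
    show C.subtype _ = _
    rw [map_list_prod, List.map_map]
    rfl
  have hysGood : Good D ys := ⟨(List.nodup_cons.mp hys.1).2, fun y hy => hys.2.1 y (List.mem_cons_of_mem _ hy),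
    fun y hy z hz => hys.2.2 y (List.mem_cons_of_mem _ hy) z (List.mem_cons_of_mem _ hz)⟩
  have hlen : ys.length ≤ 3 := by rw [List.length_map]; exact hl3
  have hx1 : x ≠ 1 := fun h => by rw [h, orderOf_one] at hx2; omega
  rcases hzx _ hψp with h | h <;> rw [hval, hpy] at h
  · have hxe : x = ys.prod := (inv_mul_eq_one.mp h).symm
    refine ⟨ys, hysGood, ?_, hlen, hxe.symm⟩
    rcases Nat.eq_zero_or_pos ys.length with h0 | h0
    · rw [List.length_eq_zero_iff.mp h0, List.prod_nil] at hxe; exact absurd hxe hx1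
    · exact h0
  · have hcomm : Commute a ys.prod := by
      refine Commute.list_prod_right _ _ fun y hy => ?_
      exact hys.2.2 a (by simp) y (by simp [hy])
    have hxe : x = (a :: ys).prod := by
      rw [List.prod_cons, hcomm.eq]
      calc x = ys.prod * (ys.prod⁻¹ * x) := by group
        _ = ys.prod * a := by rw [h]
    by_cases h4 : ys.length ≤ 2
    · exact ⟨a :: ys, hys, by simp, by simp; omega, hxe.symm⟩
    · match hys' : ys, (show ys.length = 3 by omega) with
      | [b, c, d], _ =>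
        obtain ⟨m, h1, h2, h3, h4'⟩ := short4 hD hprim ht hys
        exact ⟨m, h1, h2, h3, h4'.trans (by rw [hxe]; simp [mul_assoc])⟩

end Cfsg.Agent.Spor.M22U.InvClasses
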