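import Cfsg.Agent.Lib.Spor.Fi22U62

/-!
The class of transpositions of Fi22.
-/

set_option autoImplicit false
set_option maxRecDepth 100000

namespace Cfsg.Agent.Spor.Fi22Cert.U62Act

open Cfsg.Agent.Spor.CC

/-- the transposition -/
noncomputable abbrev tA : pres.Grp := pres.gen 0

theorem cen_comm (h : pres.Grp) (hh : h ∈ Hsub) : h * tA = tA * h := by
  have hz : cen ∈ Subgroup.center Hsub := center_eq ▸ cen_mem_ker
  have := congrArg Subtype.val (Subgroup.mem_center_iff.mp hz ⟨h, hh⟩)
  simpa [cen_val] using this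

theorem conj_tA {h : pres.Grp} (hh : h ∈ Hsub) : h * tA * h⁻¹ = tA := by
  rw [cen_comm h hh, mul_inv_cancel_right]

theorem prod_rev (r : List ℕ) : (r.map pres.gen).prod⁻¹ = (r.reverse.map pres.gen).prod := by
  induction r with
  | nil => simp
  | cons a l ih =>
    rw [List.map_cons, List.prod_cons, mul_inv_rev, ih, List.reverse_cons, List.map_append,
      List.prod_append, List.map_cons, List.map_nil, List.prod_cons, List.prod_nil, mul_one,
      inv_eq_of_mul_eq_one_left (Pres.gen_sq pres_ok a)]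

theorem moves_ok : lettersOK 9 [[], move1, move2] = true ∧
    ev RepU62.rows 9 [] 0 = RepU62.sub0.b ∧ ev RepU62.rows 9 move1 0 = RepU62.sub1.b ∧
    ev RepU62.rows 9 move2 0 = RepU62.sub2.b := by decide +kernel

theorem exists_factor (g : pres.Grp) : ∃ r ∈ [[], move1, move2], ∃ h ∈ Hsub, ∃ k ∈ Hsub,
    g = h * (r.map pres.gen).prod * k := by
  haveI := order.1
  have hp := RepU62.part_ok
  simp only [partOK, Bool.and_eq_true, List.all_eq_true, List.mem_range] at hp
  obtain ⟨horbs, hcov⟩ := hp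
  set u := rep.hom g rep.z with hu
  have hc := hcov u u.2
  have finish : ∀ r ∈ [[], move1, move2], ∀ O ∈ RepU62.subs, O.b < 3510 →
      orbOK RepU62.rows 9 O = true → lettersOK 9 O.ws = true → ev RepU62.rows 9 r 0 = O.b →
      fld O.posn 16 (u : ℕ) < O.k → fld O.pts 16 (fld O.posn 16 (u : ℕ)) = u →
      ∃ r ∈ [[], move1, move2], ∃ h ∈ Hsub, ∃ k ∈ Hsub, g = h * (r.map pres.gen).prod * k := by
    intro r hr O hO hb hok hl hev hj hju
    obtain ⟨s, hs, hse⟩ := orb_mem rep.valid pres.gen rep.hom rep.hom_gen hok hl Hsub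
      (fun w hw => Subgroup.subset_closure ⟨w, (subs_ws O hO) ▸ hw, rfl⟩) ⟨O.b, hb⟩ rfl _ hj
    refine ⟨r, hr, s, hs, (s * (r.map pres.gen).prod)⁻¹ * g, ?_, by group⟩
    rw [show Hsub = stab rep.hom rep.z from stab_eq.1, mem_stab, map_mul, Equiv.Perm.mul_apply, map_inv,
      Equiv.Perm.inv_eq_iff_eq, map_mul, Equiv.Perm.mul_apply]
    have hrz : rep.hom (r.map pres.gen).prod rep.z = (⟨O.b, hb⟩ : Fin rep.P.n) := by
      apply Fin.ext
      rw [ev_eq rep.valid pres.gen rep.hom rep.hom_gen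
        (fun x hx => lettersOK_spec moves_ok.1 hr hx)]
      exact hev
    rw [hrz]
    exact Fin.ext ((hse.trans hju).symm)
  generalize hlab : fld RepU62.labels 4 (u : ℕ) = i at hc
  have hlen : RepU62.subs.length = 3 := rfl
  rcases i with _ | _ | _ | i
  · have hh := horbs 0 (by rw [hlen]; norm_num)
    simp only [RepU62.subs, List.getElem?_cons_zero, Bool.and_eq_true] at hh hc
    exact finish [] (by simp) _ (List.mem_cons_self ..) (Nat.le_of_ble_eq_true hh.1.1.1.2) hh.1.1.2
      hh.1.2 moves_ok.2.1 (Nat.le_of_ble_eq_true hc.1) (Nat.eq_of_beq_eq_true hc.2)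
  · have hh := horbs 1 (by rw [hlen]; norm_num)
    simp only [RepU62.subs, List.getElem?_cons_zero, List.getElem?_cons_succ, Bool.and_eq_true] at hh hc
    exact finish move1 (by simp) _ (by simp [RepU62.subs]) (Nat.le_of_ble_eq_true hh.1.1.1.2) hh.1.1.2
      hh.1.2 moves_ok.2.2.1 (Nat.le_of_ble_eq_true hc.1) (Nat.eq_of_beq_eq_true hc.2)
  · have hh := horbs 2 (by rw [hlen]; norm_num)
    simp only [RepU62.subs, List.getElem?_cons_zero, List.getElem?_cons_succ, Bool.and_eq_true] at hh hc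
    exact finish move2 (by simp) _ (by simp [RepU62.subs]) (Nat.le_of_ble_eq_true hh.1.1.1.2) hh.1.1.2
      hh.1.2 moves_ok.2.2.2 (Nat.le_of_ble_eq_true hc.1) (Nat.eq_of_beq_eq_true hc.2)
  · rw [List.getElem?_eq_none (by rw [hlen]; omega)] at hc
    cases hc

theorem move_noncomm : ev RepU62.rows 9 (move1 ++ [0]) wit1 ≠ ev RepU62.rows 9 (0 :: move1) wit1 ∧
    ev RepU62.rows 9 (move2 ++ [0]) wit2 ≠ ev RepU62.rows 9 (0 :: move2) wit2 ∧
    wit1 < 3510 ∧ wit2 < 3510 ∧ lettersOK 9 [move1 ++ [0], 0 :: move1, move2 ++ [0], 0 :: move2] = true := by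
  decide +kernel

theorem centralizer_eq : Subgroup.centralizer ({tA} : Set pres.Grp) = Hsub := by
  refine le_antisymm (fun g hg => ?_) (fun h hh => ?_)
  · rw [Subgroup.mem_centralizer_singleton_iff] at hg
    obtain ⟨r, hr, h, hh, k, hk, rfl⟩ := exists_factor g
    have hcomm : (r.map pres.gen).prod * tA = tA * (r.map pres.gen).prod := by
      have e1 := cen_comm h hh
      have e2 := cen_comm k hk
      apply mul_left_cancel (a := h)
      apply mul_right_cancel (b := k)
      calc h * ((r.map pres.gen).prod * tA) * k = h * (r.map pres.gen).prod * (k * tA) := by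
            rw [e2]; group
        _ = h * (r.map pres.gen).prod * k * tA := by group
        _ = tA * (h * (r.map pres.gen).prod * k) := by
            first | exact hg | exact hg.symm
        _ = h * (tA * (r.map pres.gen).prod) * k := by
            rw [← mul_assoc h, e1]; group
    have bad : ∀ m : List ℕ, ∀ u : ℕ, u < 3510 → lettersOK 9 [m ++ [0], 0 :: m] = true →
        ev RepU62.rows 9 (m ++ [0]) u ≠ ev RepU62.rows 9 (0 :: m) u →
        (m.map pres.gen).prod * tA ≠ tA * (m.map pres.gen).prod := by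
      intro m u hu hl hne e
      apply hne
      have h0 : ((m ++ [0]).map pres.gen).prod = ((0 :: m).map pres.gen).prod := by
        simpa using e
      have h1 := congrArg (fun p => ((rep.hom p ⟨u, hu⟩ : Fin rep.P.n) : ℕ)) h0
      rw [ev_eq rep.valid pres.gen rep.hom rep.hom_gen (fun x hx => lettersOK_spec hl (by simp) hx),
        ev_eq rep.valid pres.gen rep.hom rep.hom_gen (fun x hx => lettersOK_spec hl (by simp) hx)] at h1
      exact h1
    simp only [List.mem_cons, List.not_mem_nil, or_false] at hr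
    rcases hr with rfl | rfl | rfl
    · simpa using mul_mem hh hk
    · exact absurd hcomm (bad _ _ move_noncomm.2.2.1 (by decide +kernel) move_noncomm.1)
    · exact absurd hcomm (bad _ _ move_noncomm.2.2.2.1 (by decide +kernel) move_noncomm.2.1)
  · rw [Subgroup.mem_centralizer_singleton_iff]
    first | exact cen_comm h hh | exact (cen_comm h hh).symm

/-- the word of a product of the transposition with a conjugate -/
def pairW (r : List ℕ) : List ℕ := 0 :: (r ++ 0 :: r.reverse)

theorem pair_fix : fixOK RepU62.rows 9 [powW ord1 (pairW move1)] (RepU62.levels.map Orb.b) = true ∧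
    fixOK RepU62.rows 9 [powW ord2 (pairW move2)] (RepU62.levels.map Orb.b) = true ∧
    lettersOK 9 [powW ord1 (pairW move1), powW ord2 (pairW move2)] = true ∧
    (ord1 = 2 ∨ ord1 = 3) ∧ (ord2 = 2 ∨ ord2 = 3) := by decide +kernel

theorem pair_base (r : List ℕ) (hr : r ∈ [[], move1, move2]) :
    (tA * ((r.map pres.gen).prod * tA * (r.map pres.gen).prod⁻¹)) ^ 2 = 1 ∨
      (tA * ((r.map pres.gen).prod * tA * (r.map pres.gen).prod⁻¹)) ^ 3 = 1 := by
  haveI := order.1
  have hw : ∀ m : List ℕ, ((pairW m).map pres.gen).prod =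
      tA * ((m.map pres.gen).prod * tA * (m.map pres.gen).prod⁻¹) := fun m => by
    simp [pairW, prod_rev, mul_assoc]
  have one : ∀ (m : List ℕ) (o : ℕ), fixOK RepU62.rows 9 [powW o (pairW m)] (RepU62.levels.map Orb.b) = true →
      (∀ x ∈ powW o (pairW m), x < 9) →
      (tA * ((m.map pres.gen).prod * tA * (m.map pres.gen).prod⁻¹)) ^ o = 1 := by
    intro m o hf hl
    rw [← hw, ← prod_powW]
    exact eq_one_of_fix rep.valid pres.gen rep.hom rep.hom_gen RepU62.chain_ok
      (by rw [order.2.1, RepU62.chain_size]) hl hf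
  obtain ⟨f1, f2, hl, o1, o2⟩ := pair_fix
  simp only [List.mem_cons, List.not_mem_nil, or_false] at hr
  rcases hr with rfl | rfl | rfl
  · left
    simp [pow_two, Pres.gen_sq pres_ok]
  · have := one move1 ord1 f1 (fun x hx => lettersOK_spec hl (by simp) hx)
    rcases o1 with e | e <;> rw [e] at this <;> simp [this]
  · have := one move2 ord2 f2 (fun x hx => lettersOK_spec hl (by simp) hx)
    rcases o2 with e | e <;> rw [e] at this <;> simp [this]

theorem pair_any (g : pres.Grp) : (tA * (g * tA * g⁻¹)) ^ 2 = 1 ∨ (tA * (g * tA * g⁻¹)) ^ 3 = 1 := by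
  obtain ⟨r, hr, h, hh, k, hk, rfl⟩ := exists_factor g
  generalize hp : (r.map pres.gen).prod = p
  have hb := pair_base r hr
  rw [hp] at hb
  have e : tA * (h * p * k * tA * (h * p * k)⁻¹) = h * (tA * (p * tA * p⁻¹)) * h⁻¹ := by
    calc tA * (h * p * k * tA * (h * p * k)⁻¹) = tA * (h * p * (k * tA * k⁻¹) * p⁻¹ * h⁻¹) := by group
      _ = tA * (h * p * tA * p⁻¹ * h⁻¹) := by rw [conj_tA hk]
      _ = (h * tA * h⁻¹) * (h * p * tA * p⁻¹ * h⁻¹) := by rw [conj_tA hh]
      _ = h * (tA * (p * tA * p⁻¹)) * h⁻¹ := by group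
  rw [e, conj_pow, conj_pow]
  rcases hb with hb | hb <;> rw [hb] <;> simp

theorem orderOf_tA : orderOf tA = 2 := by
  refine orderOf_eq_prime ?_ ?_
  · rw [pow_two]; exact Pres.gen_sq pres_ok 0
  · rw [show (tA : pres.Grp) = (cen : pres.Grp) from cen_val.symm]; exact cen_ne_one

theorem class_transp : Cfsg.IsThreeTranspositionClass (conjugatesOf tA) := by
  refine ⟨⟨fun d hd => ?_, fun d hd e he => ?_⟩, ⟨tA, IsConj.refl tA, rfl⟩, ?_⟩
  · obtain ⟨c, rfl⟩ := isConj_iff.mp hd
    rw [← orderOf_tA]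
    exact orderOf_injective (MulAut.conj c).toMonoidHom (MulAut.conj c).injective tA
  · obtain ⟨c, rfl⟩ := isConj_iff.mp hd
    obtain ⟨f, rfl⟩ := isConj_iff.mp he
    have e : c * tA * c⁻¹ * (f * tA * f⁻¹) = c * (tA * (c⁻¹ * f * tA * (c⁻¹ * f)⁻¹)) * c⁻¹ := by group
    rw [e, conj_pow, conj_pow]
    rcases pair_any (c⁻¹ * f) with hb | hb <;> rw [hb] <;> simp
  · haveI := simple
    have hn : (Subgroup.closure (conjugatesOf tA)).Normal := by
      have : Subgroup.closure (conjugatesOf tA) = Subgroup.normalClosure {tA} := by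
        simp [Subgroup.normalClosure, Group.conjugatesOfSet]
      rw [this]; infer_instance
    rcases hn.eq_bot_or_eq_top with h | h
    · exfalso
      have hm : tA ∈ Subgroup.closure (conjugatesOf tA) := Subgroup.subset_closure (IsConj.refl tA)
      rw [h, Subgroup.mem_bot] at hm
      have := orderOf_tA
      rw [hm, orderOf_one] at this
      omega
    · exact h

theorem card_class : Nat.card (conjugatesOf tA) = 3510 := by
  rw [← stab_eq.2, Subgroup.index]
  symm
  refine Nat.card_congr (Equiv.ofBijective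
    (fun q : pres.Grp ⧸ Hsub => (⟨q.out * tA * q.out⁻¹, isConj_iff.mpr ⟨q.out, rfl⟩⟩ : conjugatesOf tA))
    ⟨fun p q e => ?_, fun ⟨d, hd⟩ => ?_⟩)
  · have e' : p.out * tA * p.out⁻¹ = q.out * tA * q.out⁻¹ := congrArg Subtype.val e
    have hm : p.out⁻¹ * q.out ∈ Hsub := by
      rw [← centralizer_eq, Subgroup.mem_centralizer_singleton_iff]
      have : p.out⁻¹ * q.out * tA = tA * (p.out⁻¹ * q.out) := by
        calc p.out⁻¹ * q.out * tA = p.out⁻¹ * (q.out * tA * q.out⁻¹) * q.out := by group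
          _ = p.out⁻¹ * (p.out * tA * p.out⁻¹) * q.out := by rw [e']
          _ = tA * (p.out⁻¹ * q.out) := by group
      first | exact this | exact this.symm
    rw [← p.out_eq', ← q.out_eq']
    exact QuotientGroup.eq.mpr hm
  · obtain ⟨c, rfl⟩ := isConj_iff.mp hd
    refine ⟨(c : pres.Grp ⧸ Hsub), Subtype.ext ?_⟩
    obtain ⟨k, hk⟩ := QuotientGroup.mk_out_eq_mul Hsub c
    show (c : pres.Grp ⧸ Hsub).out * tA * (c : pres.Grp ⧸ Hsub).out⁻¹ = c * tA * c⁻¹
    rw [hk]
    calc c * (k : pres.Grp) * tA * (c * k)⁻¹ = c * ((k : pres.Grp) * tA * (k : pres.Grp)⁻¹) * c⁻¹ := by group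
      _ = c * tA * c⁻¹ := by rw [conj_tA k.2]

theorem ndc_congr {H H' K : Type*} [Group H] [Group H'] [Group K] (e : H ≃* H')
    (h : Cfsg.IsNonsplitDoubleCover H K) : Cfsg.IsNonsplitDoubleCover H' K := by
  obtain ⟨h1, ⟨q⟩, h3⟩ := h
  have hc : (Subgroup.center H).map (e : H →* H') = Subgroup.center H' := by
    ext x
    simp only [Subgroup.mem_map, MonoidHom.coe_coe, Subgroup.mem_center_iff]
    constructor
    · rintro ⟨y, hy, rfl⟩ g
      obtain ⟨g, rfl⟩ := e.surjective g
      rw [← map_mul, ← map_mul, hy]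
    · intro hx
      refine ⟨e.symm x, fun g => e.injective ?_, e.apply_symm_apply x⟩
      rw [map_mul, map_mul, e.apply_symm_apply, hx]
  refine ⟨?_, ⟨(QuotientGroup.congr _ _ e hc).symm.trans q⟩, fun L hL => h3 (L.comap (e : H →* H')) ?_⟩
  · rw [← hc, Nat.card_congr (Subgroup.equivMapOfInjective _ _ e.injective).toEquiv.symm]
    exact h1
  · rw [Subgroup.IsComplement', Subgroup.isComplement_iff_existsUnique] at hL ⊢
    intro g
    obtain ⟨⟨⟨a, ha⟩, ⟨b, hb⟩⟩, hab, hu⟩ := hL (e g)
    have ha' : e.symm a ∈ Subgroup.center H := by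
      rw [← hc] at ha
      obtain ⟨y, hy, rfl⟩ := ha
      simpa using hy
    refine ⟨(⟨e.symm a, ha'⟩, ⟨e.symm b, by simpa using hb⟩), ?_, ?_⟩
    · simp only at hab ⊢
      rw [← map_mul, hab, e.symm_apply_apply]
    · rintro ⟨⟨a', ha2⟩, ⟨b', hb2⟩⟩ h2
      have := hu (⟨e a', hc ▸ Subgroup.mem_map_of_mem _ ha2⟩, ⟨e b', hb2⟩)
        (by simp only at h2 ⊢; rw [← map_mul, h2])
      have e1 : e a' = a := congrArg (fun p => (p.1 : H')) this
      have e2 : e b' = b := congrArg (fun p => (p.2 : H')) this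
      refine Prod.ext (Subtype.ext ?_) (Subtype.ext ?_)
      · show a' = e.symm a
        rw [← e1, e.symm_apply_apply]
      · show b' = e.symm b
        rw [← e2, e.symm_apply_apply]

theorem centralizer_cover (d : pres.Grp) (hd : d ∈ conjugatesOf tA) :
    Cfsg.IsNonsplitDoubleCover (Subgroup.centralizer ({d} : Set pres.Grp))
      (Cfsg.PSU 6 SpFour.F4 2) := by
  obtain ⟨c, rfl⟩ := isConj_iff.mp hd
  have hmap : Hsub.map (MulAut.conj c).toMonoidHom = Subgroup.centralizer ({c * tA * c⁻¹} : Set pres.Grp) := by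
    rw [← centralizer_eq]
    ext x
    simp only [Subgroup.mem_map, Subgroup.mem_centralizer_singleton_iff, MulEquiv.coe_toMonoidHom,
      MulAut.conj_apply]
    constructor
    · rintro ⟨y, hy, rfl⟩
      simp only [mul_assoc, inv_mul_cancel_left]
      rw [← mul_assoc y, hy, mul_assoc]
    · intro hx
      refine ⟨c⁻¹ * x * c, ?_, by group⟩
      calc c⁻¹ * x * c * tA = c⁻¹ * (x * (c * tA * c⁻¹)) * c := by group
        _ = c⁻¹ * ((c * tA * c⁻¹) * x) * c := by rw [hx]
        _ = tA * (c⁻¹ * x * c) := by group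
  exact ndc_congr ((Subgroup.equivMapOfInjective _ _ (MulAut.conj c).injective).trans
    (MulEquiv.subgroupCongr hmap)) double_cover

end Cfsg.Agent.Spor.Fi22Cert.U62Act
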