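import Cfsg.Agent.Lib.Spor.M22UIso
import Cfsg.Agent.Lib.Spor.Fi22Three

/-!
The presented group Fi22 has a frame.
-/

set_option autoImplicit false
set_option maxRecDepth 100000

namespace Cfsg.Agent.Spor.M22U.Fischer

open Cfsg.Agent.Spor.CC Cfsg.Agent.Spor.Fi22Cert Cfsg.Agent.Spor.Fi22Cert.U62Act

/-- words of the eight members -/
def gwords : List (List ℕ) := [[5, 4, 3, 7, 8, 5, 2, 3, 4, 1, 2, 3, 7, 6, 5, 4, 3, 2, 1], [7, 8, 2, 3, 4, 1, 2, 3, 7, 6, 5, 4, 3, 2, 1], [4, 3, 7, 8, 7, 5, 2, 3, 4, 1, 2, 3, 7, 6, 5, 4, 3, 2, 1], [3, 7, 8, 7, 2, 3, 4, 1, 2, 3, 7, 6, 5, 4, 3, 2, 1], [6, 5, 4, 2, 3, 7, 8, 1, 2, 3, 7, 4, 3, 2, 1], [6, 5, 4, 3, 7, 8, 3, 4, 5, 2, 3, 4, 1, 2, 3, 7, 6, 5, 4, 3, 2, 1], [7, 8, 7, 5, 2, 3, 4, 1, 2, 3, 7, 6, 5, 4, 3, 2, 1], [1, 2, 0, 1]]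

/-- word of the second member -/
def bword : List ℕ := [1]

/-- word of a transposition from the word of its point -/
def tw' (w : List ℕ) : List ℕ := w ++ 0 :: w.reverse

/-- check of the points fixed by the transposition -/
noncomputable def fixedOK (u : ℕ) : Bool :=
  !(Nat.beq (ev RepU62.rows 9 [0] u) u) || Nat.beq u 0 ||
    (Nat.blt (fld RepU62.sub2.posn 16 u) 693 && Nat.beq (fld RepU62.sub2.pts 16 (fld RepU62.sub2.posn 16 u)) u)

/-- check of the coordinates -/
noncomputable def coordOK (v : ℕ) : Bool :=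
  Nat.beq (ev RepU62.rows 9 [0] (fld RepU62.sub2.pts 16 v)) (fld RepU62.sub2.pts 16 v) &&
  !(Nat.beq (fld RepU62.sub2.pts 16 v) 0) &&
  (List.range 8).all (fun j => Nat.beq (ev RepU62.rows 9 (tw' (gwords.getD j [])) (fld RepU62.sub2.pts 16 v))
    (fld RepU62.sub2.pts 16 (pim j v))) &&
  (Bool.and (Nat.beq (ev RepU62.rows 9 (tw' bword) (fld RepU62.sub2.pts 16 v)) (fld RepU62.sub2.pts 16 v)) true
    == inT0 v)

theorem fixed0 : rangeOK fixedOK 0 1755 = true := by decide +kernel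
theorem fixed1 : rangeOK fixedOK 1755 1755 = true := by decide +kernel
theorem coord0 : rangeOK coordOK 0 693 = true := by decide +kernel

theorem words_ok : lettersOK 9 gwords = true ∧ lettersOK 9 [bword, [0], [3]] = true ∧
    (∀ j < 8, ev RepU62.rows 9 (gwords.getD j []) 0 = fld RepU62.sub2.pts 16 (gpt j)) ∧
    ev RepU62.rows 9 (tw' bword) 0 ≠ 0 ∧
    ev RepU62.rows 9 [3] 0 = 0 ∧ ev RepU62.rows 9 [3] (ev RepU62.rows 9 bword 0) = ev RepU62.rows 9 bword 0 := by
  decide +kernel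

/-- the class -/
abbrev Dc : Set pres.Grp := conjugatesOf tA

theorem three : Cfsg.IsThreeTranspositionGroup Dc := by
  refine ⟨class_transp.1, fun g d hd => ?_, class_transp.2.2⟩
  obtain ⟨c, rfl⟩ := isConj_iff.mp hd
  exact isConj_iff.mpr ⟨g * c, by group⟩

theorem stab_cent (g : pres.Grp) : g * tA = tA * g ↔ rep.hom g rep.z = rep.z := by
  rw [← mem_stab, ← stab_eq.1, show pres.wsub IdxU62.subW = Hsub from rfl, ← centralizer_eq,
    Subgroup.mem_centralizer_singleton_iff]

/-- the point of a transposition -/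
noncomputable def theta (d : Dc) : Fin rep.P.n := rep.hom (isConj_iff.mp d.2).choose rep.z

theorem theta_eq (d : Dc) {x : pres.Grp} (hx : x * tA * x⁻¹ = d) : theta d = rep.hom x rep.z := by
  set c := (isConj_iff.mp d.2).choose
  have hc : c * tA * c⁻¹ = d := (isConj_iff.mp d.2).choose_spec
  have h : (x⁻¹ * c) * tA = tA * (x⁻¹ * c) := by
    calc (x⁻¹ * c) * tA = x⁻¹ * (c * tA * c⁻¹) * c := by group
      _ = x⁻¹ * (x * tA * x⁻¹) * c := by rw [hc, hx]
      _ = tA * (x⁻¹ * c) := by group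
  rw [stab_cent, map_mul, Equiv.Perm.mul_apply, map_inv, Equiv.Perm.inv_eq_iff_eq] at h
  exact h

theorem theta_conj (g : pres.Grp) (d : Dc) (e : Dc) (h : (e : pres.Grp) = g * d * g⁻¹) :
    theta e = rep.hom g (theta d) := by
  have hc : (isConj_iff.mp d.2).choose * tA * ((isConj_iff.mp d.2).choose)⁻¹ = (d : pres.Grp) :=
    (isConj_iff.mp d.2).choose_spec
  have key : g * (isConj_iff.mp d.2).choose * tA * (g * (isConj_iff.mp d.2).choose)⁻¹ = (e : pres.Grp) := by
    rw [h]; conv_rhs => rw [← hc]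
    group
  rw [theta_eq e key, map_mul, Equiv.Perm.mul_apply]
  rfl

theorem theta_inj : Function.Injective theta := by
  intro d e h
  have hd : (isConj_iff.mp d.2).choose * tA * ((isConj_iff.mp d.2).choose)⁻¹ = (d : pres.Grp) :=
    (isConj_iff.mp d.2).choose_spec
  have he : (isConj_iff.mp e.2).choose * tA * ((isConj_iff.mp e.2).choose)⁻¹ = (e : pres.Grp) :=
    (isConj_iff.mp e.2).choose_spec
  set x := (isConj_iff.mp d.2).choose
  set y := (isConj_iff.mp e.2).choose
  have : (x⁻¹ * y) * tA = tA * (x⁻¹ * y) := by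
    rw [stab_cent, map_mul, Equiv.Perm.mul_apply, map_inv, Equiv.Perm.inv_eq_iff_eq]
    exact h.symm
  refine Subtype.ext ?_
  rw [← hd, ← he]
  calc x * tA * x⁻¹ = x * (tA * (x⁻¹ * y)) * y⁻¹ := by group
    _ = x * ((x⁻¹ * y) * tA) * y⁻¹ := by rw [this]
    _ = y * tA * y⁻¹ := by group

theorem commute_iff (d e : Dc) : Commute (d : pres.Grp) e ↔ rep.hom (d : pres.Grp) (theta e) = theta e := by
  have hmem : (d : pres.Grp) * e * (d : pres.Grp)⁻¹ ∈ Dc := three.2.1 _ _ e.2
  rw [← theta_conj (d : pres.Grp) e ⟨_, hmem⟩ rfl, theta_inj.eq_iff, Subtype.ext_iff, mul_inv_eq_iff_eq_mul]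
  rfl

theorem hom_val {w : List ℕ} (hw : ∀ x ∈ w, x < 9) (u : Fin rep.P.n) :
    (rep.hom (w.map pres.gen).prod u : ℕ) = ev RepU62.rows 9 w u :=
  ev_eq rep.valid pres.gen rep.hom rep.hom_gen hw u

/-- the member with a word -/
noncomputable def mem (w : List ℕ) : Dc :=
  ⟨(w.map pres.gen).prod * tA * ((w.map pres.gen).prod)⁻¹, isConj_iff.mpr ⟨_, rfl⟩⟩

theorem theta_mem {w : List ℕ} (hw : ∀ x ∈ w, x < 9) : (theta (mem w) : ℕ) = ev RepU62.rows 9 w 0 := by
  rw [theta_eq (mem w) rfl, hom_val hw]; rfl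

theorem mem_act {w : List ℕ} (hw : ∀ x ∈ w, x < 9) (u : Fin rep.P.n) :
    (rep.hom (mem w : pres.Grp) u : ℕ) = ev RepU62.rows 9 (tw' w) u := by
  have e : (mem w : pres.Grp) = ((tw' w).map pres.gen).prod := by
    show _ * tA * _ = _
    rw [prod_rev, tw', List.map_append, List.prod_append, List.map_cons, List.prod_cons]
    simp only [mul_assoc]
  rw [e, hom_val]
  intro x hx
  rw [tw', List.mem_append, List.mem_cons, List.mem_reverse] at hx
  rcases hx with hx | rfl | hx
  · exact hw x hx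
  · norm_num
  · exact hw x hx

theorem mem_nil : (mem [] : pres.Grp) = tA := by simp [mem]

theorem word_lt {w : List ℕ} (hw : w ∈ [bword, [0], [3]]) : ∀ x ∈ w, x < 9 := fun _ hx =>
  lettersOK_spec words_ok.2.1 hw hx

theorem gword_lt {j : ℕ} (hj : j < 8) : ∀ x ∈ gwords.getD j [], x < 9 := by
  intro x hx
  refine lettersOK_spec words_ok.1 ?_ hx
  have hl : j < gwords.length := by
    have : gwords.length = 8 := rfl
    omega
  rw [List.getD_eq_getElem _ _ hl]
  exact List.getElem_mem hl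

/-- the members commuting with the transposition -/
abbrev Na : Type := ↥{y : pres.Grp | y ∈ Dc ∧ y ≠ (mem [] : pres.Grp) ∧ Commute (mem [] : pres.Grp) y}

theorem na_spec (y : Na) : ∃ v : Fin 693, mu v = theta ⟨y, y.2.1⟩ := by
  obtain ⟨y, hy1, hy2, hy3⟩ := y
  set u := theta ⟨y, hy1⟩
  have h1 : ev RepU62.rows 9 [0] (u : ℕ) = u := by
    have h := (commute_iff (mem []) ⟨y, hy1⟩).mp hy3
    have h' := congrArg Fin.val h
    rwa [mem_act (by simp)] at h'
  have h2 : (u : ℕ) ≠ 0 := fun h => hy2 (congrArg Subtype.val (theta_inj (Fin.ext (by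
    rw [theta_mem (by simp)]; exact h) : theta ⟨y, hy1⟩ = theta (mem []))))
  have hu : (u : ℕ) < 3510 := u.2
  have hk : fixedOK u = true := by
    by_cases h : (u : ℕ) < 1755
    · exact all_range (p := fixedOK) fixed0 (Nat.zero_le _) (by omega)
    · exact all_range (p := fixedOK) fixed1 (by omega) (by omega)
  simp only [fixedOK, Bool.or_eq_true, Bool.not_eq_true', Bool.and_eq_true, beq_iff, blt_iff] at hk
  rcases hk with (hk | hk) | hk
  · rw [beq_iff.mpr h1] at hk; exact Bool.noConfusion hk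
  · exact absurd hk h2
  · exact ⟨⟨_, hk.1⟩, Fin.ext hk.2⟩

theorem coord (v : Fin 693) : coordOK v = true :=
  all_range (p := coordOK) coord0 (Nat.zero_le _) (by omega)

theorem coord_spec (v : Fin 693) : ev RepU62.rows 9 [0] (mu v : ℕ) = mu v ∧ (mu v : ℕ) ≠ 0 ∧
    (∀ j < 8, ev RepU62.rows 9 (tw' (gwords.getD j [])) (mu v : ℕ) = fld RepU62.sub2.pts 16 (pim j v)) ∧
    (inT0 v = true ↔ ev RepU62.rows 9 (tw' bword) (mu v : ℕ) = mu v) := by
  have := coord v
  simp only [coordOK, Bool.and_eq_true, List.all_eq_true, List.mem_range, beq_iff, Bool.not_eq_true',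
    beq_iff_eq, Bool.and_true] at this
  obtain ⟨⟨⟨h1, h2⟩, h3⟩, h4⟩ := this
  refine ⟨h1, fun h => ?_, h3, by rw [← h4, beq_iff]; rfl⟩
  rw [show fld RepU62.sub2.pts 16 (v : ℕ) = (mu v : ℕ) from rfl, h] at h2
  exact Bool.noConfusion h2

/-- the coordinate -/
noncomputable def piFun (y : Na) : Fin 693 := (na_spec y).choose

theorem piFun_spec (y : Na) : mu (piFun y) = theta ⟨y, y.2.1⟩ := (na_spec y).choose_spec

theorem piFun_bij : Function.Bijective piFun := by
  refine ⟨fun y z h => ?_, fun v => ?_⟩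
  · have := congrArg mu h
    rw [piFun_spec, piFun_spec] at this
    have h' := theta_inj this
    exact Subtype.ext (congrArg (fun d : Dc => (d : pres.Grp)) h')
  · obtain ⟨g, hg⟩ := rep.exists_move (mu v)
    let d : Dc := ⟨g * tA * g⁻¹, isConj_iff.mpr ⟨g, rfl⟩⟩
    have hd : theta d = mu v := (theta_eq d rfl).trans hg
    have hne : (d : pres.Grp) ≠ (mem [] : pres.Grp) := fun h => (coord_spec v).2.1 (by
      rw [← hd, show d = mem [] from Subtype.ext h, theta_mem (by simp)]; rfl)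
    have hc : Commute (mem [] : pres.Grp) d := by
      rw [commute_iff, hd]
      refine Fin.ext ?_
      rw [mem_act (by simp)]
      exact (coord_spec v).1
    exact ⟨⟨d, d.2, hne, hc⟩, mu_injective ((piFun_spec _).trans hd)⟩

theorem trans : ∀ x ∈ Dc, ∀ y ∈ Dc, ∃ g : pres.Grp, g * x * g⁻¹ = y := by
  intro x hx y hy
  obtain ⟨c, rfl⟩ := isConj_iff.mp hx
  obtain ⟨d, rfl⟩ := isConj_iff.mp hy
  exact ⟨d * c⁻¹, by group⟩

theorem tA_mem : tA ∈ Dc := IsConj.refl tA

theorem fix_others : ∀ x, x < 9 → x ≠ 1 → ev RepU62.rows 9 [x] 0 = 0 := by decide +kernel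

theorem nab : ¬ Commute (mem [] : pres.Grp) (mem bword : pres.Grp) := by
  intro h
  have := (commute_iff (mem bword) (mem [])).mp h.symm
  have h' := congrArg Fin.val this
  rw [mem_act (word_lt (by simp)), theta_mem (by simp)] at h'
  exact words_ok.2.2.2.1 h'

theorem pi_gen : ∀ j, j < 8 → ∀ x y z : Na, (piFun x : ℕ) = gpt j →
    (z : pres.Grp) = x * y * (x : pres.Grp)⁻¹ → (piFun z : ℕ) = pim j (piFun y) := by
  intro j hj x y z hx hz
  have lg := gword_lt hj
  have hxm : (⟨x, x.2.1⟩ : Dc) = mem (gwords.getD j []) := by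
    apply theta_inj
    rw [← piFun_spec]
    refine Fin.ext ?_
    rw [theta_mem lg, words_ok.2.2.1 j hj]
    show fld RepU62.sub2.pts 16 (piFun x : ℕ) = _
    rw [hx]
  have hxv : (x : pres.Grp) = (mem (gwords.getD j []) : pres.Grp) := congrArg Subtype.val hxm
  have e : mu (piFun z) = rep.hom (mem (gwords.getD j []) : pres.Grp) (mu (piFun y)) := by
    rw [piFun_spec, piFun_spec]
    exact theta_conj _ _ _ (by rw [hz, hxv])
  have hlt : pim j (piFun y) < 693 := (pim_spec hj (piFun y).2).1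
  have : piFun z = ⟨pim j (piFun y), hlt⟩ := by
    apply mu_injective
    rw [e]
    refine Fin.ext ?_
    rw [mem_act lg]
    exact (coord_spec (piFun y)).2.2.1 j hj
  rw [this]

theorem pi_T : ∀ y : Na, Commute (mem bword : pres.Grp) (y : pres.Grp) ↔ inT0 (piFun y) = true := by
  intro y
  rw [commute_iff (mem bword) ⟨y, y.2.1⟩, ← piFun_spec, (coord_spec (piFun y)).2.2.2, Fin.ext_iff,
    mem_act (word_lt (by simp))]

theorem conn : (Cfsg.commutingGraph Dc).Connected := by
  have hadj : ∀ x y : Dc, Commute (x : pres.Grp) y → (Cfsg.commutingGraph Dc).Reachable x y := by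
    intro x y h
    by_cases hxy : x = y
    · exact hxy ▸ SimpleGraph.Reachable.refl _
    · refine SimpleGraph.Adj.reachable ?_
      rw [Cfsg.commutingGraph, SimpleGraph.fromRel_adj]
      exact ⟨hxy, Or.inl h⟩
  have hmove : ∀ (g : pres.Grp) (x y : Dc), (Cfsg.commutingGraph Dc).Reachable x y →
      (Cfsg.commutingGraph Dc).Reachable ⟨g * x * g⁻¹, three.2.1 _ _ x.2⟩ ⟨g * y * g⁻¹, three.2.1 _ _ y.2⟩ := by
    intro g x y ⟨p⟩
    induction p with
    | nil => exact SimpleGraph.Reachable.refl _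
    | @cons a b c hab q ih =>
      refine (hadj _ _ ?_).trans ih
      rw [Cfsg.commutingGraph, SimpleGraph.fromRel_adj] at hab
      exact Spor.commute_conj_iff.mpr (hab.2.elim id fun h => h.symm)
  have hb : (Cfsg.commutingGraph Dc).Reachable ⟨tA, tA_mem⟩ (mem bword) := by
    have lb : ∀ x ∈ bword, x < 9 := word_lt (by simp)
    have l0 : ∀ x ∈ ([] : List ℕ), x < 9 := by simp
    have lg := gword_lt (show 0 < 8 by norm_num)
    set g0 := mem (gwords.getD 0 [])
    have hv : ((theta g0 : Fin rep.P.n) : ℕ) = (mu ⟨gpt 0, gpt_lt (by norm_num)⟩ : ℕ) := by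
      rw [theta_mem lg]; exact words_ok.2.2.1 0 (by norm_num)
    obtain ⟨c1, -, -, c4⟩ := coord_spec ⟨gpt 0, gpt_lt (by norm_num)⟩
    have h1 : Commute (mem [] : pres.Grp) g0 := by
      rw [commute_iff]
      refine Fin.ext ?_
      rw [mem_act l0]
      show ev RepU62.rows 9 [0] _ = _
      rw [hv]; exact c1
    have h2 : Commute (mem bword : pres.Grp) g0 := by
      rw [commute_iff]
      refine Fin.ext ?_
      rw [mem_act lb, hv]
      exact c4.mp (gpt_T (show 0 < 7 by norm_num))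
    rw [mem_nil] at h1
    exact (hadj ⟨tA, tA_mem⟩ g0 h1).trans (hadj g0 (mem bword) h2.symm)
  have hstep : ∀ g : pres.Grp,
      (Cfsg.commutingGraph Dc).Reachable ⟨tA, tA_mem⟩ ⟨g * tA * g⁻¹, three.2.1 _ _ tA_mem⟩ := by
    intro g
    have hg : g ∈ Subgroup.closure (pres.gen '' {x | x < pres.ng}) := by
      rw [Pres.closure_gen pres_ok]; trivial
    induction hg using Subgroup.closure_induction with
    | mem g hg =>
      obtain ⟨x, hx, rfl⟩ := hg
      by_cases hx1 : x = 1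
      · subst hx1
        have e : (⟨pres.gen 1 * tA * (pres.gen 1)⁻¹, three.2.1 _ _ tA_mem⟩ : Dc) = mem bword :=
          Subtype.ext (by simp [mem, bword])
        rw [e]; exact hb
      · have hfix : rep.hom (pres.gen x) rep.z = rep.z := by
          refine Fin.ext ?_
          have hx9 : ∀ y ∈ [x], y < 9 := by intro y hy; rw [List.mem_singleton.mp hy]; exact hx
          have := hom_val hx9 rep.z
          simp only [List.map_cons, List.map_nil, List.prod_cons, List.prod_nil, mul_one] at this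
          rw [this]
          exact fix_others x hx hx1
        have e : (⟨pres.gen x * tA * (pres.gen x)⁻¹, three.2.1 _ _ tA_mem⟩ : Dc) = ⟨tA, tA_mem⟩ :=
          Subtype.ext (mul_inv_eq_iff_eq_mul.mpr ((stab_cent _).mpr hfix))
        rw [e]
    | one =>
      have e : (⟨1 * tA * 1⁻¹, three.2.1 _ _ tA_mem⟩ : Dc) = ⟨tA, tA_mem⟩ := Subtype.ext (by simp)
      rw [e]
    | mul g h _ _ hg hh =>
      have e : (⟨g * (h * tA * h⁻¹) * g⁻¹, three.2.1 _ _ (three.2.1 _ _ tA_mem)⟩ : Dc) =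
          ⟨g * h * tA * (g * h)⁻¹, three.2.1 _ _ tA_mem⟩ := Subtype.ext (by group)
      exact hg.trans (e ▸ hmove g _ _ hh)
    | inv g _ hg =>
      have e : (⟨g⁻¹ * (g * tA * g⁻¹) * g⁻¹⁻¹, three.2.1 _ _ (three.2.1 _ _ tA_mem)⟩ : Dc) = ⟨tA, tA_mem⟩ :=
        Subtype.ext (by group)
      exact (e ▸ hmove g⁻¹ _ _ hg : (Cfsg.commutingGraph Dc).Reachable _ _).symm
  haveI : Nonempty Dc := ⟨⟨tA, tA_mem⟩⟩
  have hall : ∀ d : Dc, (Cfsg.commutingGraph Dc).Reachable ⟨tA, tA_mem⟩ d := by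
    rintro ⟨d, hd⟩
    obtain ⟨c, rfl⟩ := isConj_iff.mp hd
    exact hstep c
  exact ⟨fun x y => (hall x).symm.trans (hall y)⟩

theorem center_bot : Subgroup.center pres.Grp = ⊥ := by
  haveI := simple
  rcases (Subgroup.center pres.Grp).normal_of_characteristic.eq_bot_or_eq_top with h | h
  · exact h
  · exfalso
    have hc : Commute (mem [] : pres.Grp) (mem bword : pres.Grp) := by
      have := (Subgroup.mem_center_iff.mp (h ▸ Subgroup.mem_top (mem bword : pres.Grp))) (mem [] : pres.Grp)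
      exact this
    exact nab hc

/-- the frame -/
noncomputable def frame : Frame Dc where
  three := three
  trans := trans
  conn := conn
  a := mem []
  b := mem bword
  ha := (mem []).2
  hb := (mem bword).2
  nab := nab
  pi := Equiv.ofBijective piFun piFun_bij
  pi_gen := pi_gen
  pi_T := pi_T

end Cfsg.Agent.Spor.M22U.Fischer
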