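import Cfsg.Agent.Lib.Spor.M22UPoints

/-!
Changes of the coordinates of the 693 points: six points in the position of the first six
generating points can be moved onto them, and a semilinear symmetry exchanges the two candidates
for the seventh.
-/

set_option autoImplicit false
set_option maxRecDepth 100000
set_option linter.unusedSectionVars false

namespace Cfsg.Agent.Spor.M22U.Sym

open Matrix Cfsg.Agent.Small Cfsg.Agent.Small.Unitary Cfsg.Agent.Spor.SpFour Cfsg.Agent.Spor.CC
open Cfsg.Agent.Spor.M22U.Invol (V6)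
open Cfsg.Agent.Spor.M22U.Pts (gv)

/-- the point of a vector -/
abbrev pt6 (f : V6) : ℕ := SUSix.idx (SUSix.code f)

/-- conjugation of points -/
def timg (x y : ℕ) : ℕ := pt6 (gv y + herm (gv x) (gv y) • gv x)

theorem norm_one : ∀ c : F4, c ≠ 0 → star c * c = 1 := by decide +kernel

theorem gen_timg {j y : ℕ} (hj : j < 8) (hy : y < 693) : timg (gpt j) y = pim j y := by
  rw [← Pts.act_gen hj hy, CoverUnitarySix.act_T F4.star_eq_pow (Pts.gv_spec (gpt_lt hj)).2]
  rfl

theorem conj_vec {x y : ℕ} (hx : x < 693) (hy : y < 693) :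
    timg x y < 693 ∧ Pts.ptr x * Pts.ptr y * (Pts.ptr x)⁻¹ = Pts.ptr (timg x y) := by
  have e : act (Invol.TV (gv x)) (gv y) = gv y + herm (gv x) (gv y) • gv x :=
    CoverUnitarySix.act_T F4.star_eq_pow (Pts.gv_spec hx).2 _
  have hiso : herm (act (Invol.TV (gv x)) (gv y)) (act (Invol.TV (gv x)) (gv y)) = 0 := by
    rw [herm_act F4.star_eq_pow]; exact (Pts.gv_spec hy).2
  have hne : act (Invol.TV (gv x)) (gv y) ≠ 0 := fun h =>
    (Pts.gv_spec hy).1 (act_injective _ (h.trans (by simp [act])))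
  obtain ⟨h1, h2⟩ := Pts.exists_ptr hne hiso
  constructor
  · rw [e] at h1; exact h1
  · show Invol.mk _ * Invol.mk _ * (Invol.mk _)⁻¹ = _
    rw [← map_inv, ← map_mul, ← map_mul, CoverUnitarySix.T_conj, h2, e]
    rfl

/-- a semilinear similarity -/
structure Simi where
  /-- the map -/
  f : V6 → V6
  /-- the companion map on the scalars -/
  th : F4 → F4
  th_eq : ∀ c : F4, c ≠ 0 → th c ≠ 0
  th_zero : th 0 = 0
  map_add : ∀ u v, f (u + v) = f u + f v
  map_smul : ∀ c u, f (c • u) = th c • f u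
  inj : Function.Injective f
  herm_map : ∀ u v, herm (f u) (f v) = th (herm u v)

/-- the map of points -/
def Simi.P (S : Simi) (i : ℕ) : ℕ := pt6 (S.f (gv i))

theorem Simi.spec (S : Simi) {i : ℕ} (hi : i < 693) :
    S.P i < 693 ∧ ∃ c : F4, c ≠ 0 ∧ S.f (gv i) = c • gv (S.P i) := by
  refine SUSix.exists_pt _ (fun h => (Pts.gv_spec hi).1 (S.inj (h.trans ?_))) ?_
  · have := S.map_smul 0 (gv i)
    rw [S.th_zero, zero_smul, zero_smul] at this
    exact this.symm
  · rw [S.herm_map, (Pts.gv_spec hi).2, S.th_zero]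

theorem Simi.herm_iff (S : Simi) {x y : ℕ} (hx : x < 693) (hy : y < 693) :
    herm (gv (S.P x)) (gv (S.P y)) = 0 ↔ herm (gv x) (gv y) = 0 := by
  obtain ⟨-, a, ha, ea⟩ := S.spec hx
  obtain ⟨-, b, hb, eb⟩ := S.spec hy
  have h := S.herm_map (gv x) (gv y)
  rw [ea, eb, herm_smul_left, herm_smul_right] at h
  constructor
  · intro h0
    rw [h0, mul_zero, mul_zero] at h
    by_contra hne
    exact S.th_eq _ hne h.symm
  · intro h0
    rw [h0, S.th_zero] at h
    rcases mul_eq_zero.mp h with h1 | h1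
    · exact absurd (star_eq_zero.mp h1) ha
    · exact (mul_eq_zero.mp h1).resolve_left hb

theorem Simi.P_timg (S : Simi) {x y : ℕ} (hx : x < 693) (hy : y < 693) :
    S.P (timg x y) = timg (S.P x) (S.P y) := by
  obtain ⟨-, a, ha, ea⟩ := S.spec hx
  obtain ⟨-, b, hb, eb⟩ := S.spec hy
  set u := gv y + herm (gv x) (gv y) • gv x with hu
  have hiso : herm u u = 0 := by
    rw [hu, ← CoverUnitarySix.act_T F4.star_eq_pow (Pts.gv_spec hx).2, herm_act F4.star_eq_pow]
    exact (Pts.gv_spec hy).2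
  have hne : u ≠ 0 := by
    rw [hu, ← CoverUnitarySix.act_T F4.star_eq_pow (Pts.gv_spec hx).2]
    exact fun h => (Pts.gv_spec hy).1 (act_injective _ (h.trans (by simp [act])))
  obtain ⟨-, d, hd, ed⟩ := SUSix.exists_pt u hne hiso
  have hd' : S.th d ≠ 0 := S.th_eq d hd
  have e1 : S.f u = b • (gv (S.P y) + herm (gv (S.P x)) (gv (S.P y)) • gv (S.P x)) := by
    rw [hu, S.map_add, S.map_smul, ← S.herm_map, ea, eb, herm_smul_left, herm_smul_right, smul_add]
    congr 1
    rw [smul_smul, smul_smul]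
    congr 1
    calc star a * (b * herm (gv (S.P x)) (gv (S.P y))) * a
        = (star a * a) * (b * herm (gv (S.P x)) (gv (S.P y))) := by ring
      _ = _ := by rw [norm_one a ha, one_mul]
  have e2 : S.f u = S.th d • S.f (gv (timg x y)) := by
    conv_lhs => rw [ed]
    exact S.map_smul d _
  show pt6 (S.f (gv (timg x y))) = pt6 _
  rw [pt6, ← SUSix.idx_smul _ hd', ← e2, e1, SUSix.idx_smul _ hb]

theorem Simi.P_inj (S : Simi) {x y : ℕ} (hx : x < 693) (hy : y < 693) (h : S.P x = S.P y) : x = y := by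
  obtain ⟨-, a, ha, ea⟩ := S.spec hx
  obtain ⟨-, b, hb, eb⟩ := S.spec hy
  rw [h] at ea
  have hth : ∃ c : F4, c ≠ 0 ∧ S.th c * b = a := by
    by_contra hno
    push Not at hno
    -- three distinct non-zero values
    have hinj : ∀ c c' : F4, S.th c = S.th c' → c = c' := fun c c' hc => by
      have hv : ∀ v : V6, v ≠ 0 → Function.Injective fun c : F4 => c • v := fun v hv c c' hcc =>
        smul_left_injective F4 hv hcc
      refine hv (gv x) (Pts.gv_spec hx).1 (S.inj ?_)
      rw [S.map_smul, S.map_smul, hc]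
    obtain ⟨c, hc⟩ := (Finite.injective_iff_surjective.mp hinj) (a * b⁻¹)
    have hc0 : c ≠ 0 := fun h0 => by
      rw [h0, S.th_zero] at hc
      exact mul_ne_zero ha (inv_ne_zero hb) hc.symm
    exact hno c hc0 (by rw [hc, mul_assoc, inv_mul_cancel₀ hb, mul_one])
  obtain ⟨c, hc, hcb⟩ := hth
  have : gv x = c • gv y := S.inj (by rw [S.map_smul, ea, eb, smul_smul, hcb])
  have e := congrArg pt6 this
  rw [pt6, pt6, SUSix.idx_smul _ hc] at e
  exact (SUSix.pt_spec hx).1.symm.trans (e.trans (SUSix.pt_spec hy).1)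

/-- the relabelling -/
noncomputable def Simi.perm (S : Simi) : Fin 693 ≃ Fin 693 :=
  Equiv.ofBijective (fun i => ⟨S.P i, (S.spec i.2).1⟩)
    (Finite.injective_iff_bijective.mp fun i k h => Fin.ext (S.P_inj i.2 k.2 (congrArg Fin.val h)))

theorem Simi.perm_val (S : Simi) (i : Fin 693) : (S.perm i : ℕ) = S.P i := rfl

/-! ### The six standard vectors -/

/-- the six vectors -/
def w0 (k : ℕ) : V6 := SUSix.vecOf (Dat.vecs.getD k 0)

/-- their matrix -/
def M0 : Matrix (Fin 6) (Fin 6) F4 := Matrix.of fun i k => w0 k i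

/-- its inverse -/
def N0 : Matrix (Fin 6) (Fin 6) F4 := SUSix.matOf 4505137500646924243297

/-- the Gram matrix -/
def gramP : Matrix (Fin 6) (Fin 6) F4 :=
  Matrix.of fun k l => if k.val + 1 = l.val ∨ l.val + 1 = k.val then 1 else 0

theorem std_mul : M0 * N0 = 1 := by decide +kernel

theorem std_mul' : N0 * M0 = 1 := by decide +kernel

theorem std_gram : M0ᴴ * M0 = gramP := by decide +kernel

theorem std_pts : ∀ k < 6, pt6 (w0 k) = gpt k := by decide +kernel

theorem std_real (k l : Fin 6) : star (gramP k l) = gramP k l := by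
  simp only [gramP, Matrix.of_apply]; split_ifs <;> simp

/-- the semilinear symmetry fixing the six points -/
def conjMap : Simi where
  f v := M0 *ᵥ star (N0 *ᵥ v)
  th := star
  th_eq c hc := fun h => hc (star_eq_zero.mp h)
  th_zero := star_zero _
  map_add u v := by rw [Matrix.mulVec_add, star_add, Matrix.mulVec_add]
  map_smul c u := by rw [Matrix.mulVec_smul, star_smul, Matrix.mulVec_smul]
  inj u v h := by
    have h1 := congrArg (N0 *ᵥ ·) h
    simp only [Matrix.mulVec_mulVec, std_mul', Matrix.one_mulVec] at h1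
    have h2 := congrArg (M0 *ᵥ ·) (star_injective h1)
    simpa only [Matrix.mulVec_mulVec, std_mul, Matrix.one_mulVec] using h2
  herm_map u v := by
    have key : ∀ x y : V6, herm (M0 *ᵥ x) (M0 *ᵥ y) = star x ⬝ᵥ (gramP *ᵥ y) := fun x y => by
      rw [herm, Matrix.star_mulVec, ← Matrix.dotProduct_mulVec, Matrix.mulVec_mulVec, std_gram]
    have huv : herm u v = herm (M0 *ᵥ (N0 *ᵥ u)) (M0 *ᵥ (N0 *ᵥ v)) := by
      rw [Matrix.mulVec_mulVec, Matrix.mulVec_mulVec, std_mul, Matrix.one_mulVec, Matrix.one_mulVec]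
    rw [huv, key, key]
    set x := N0 *ᵥ u
    set y := N0 *ᵥ v
    simp only [dotProduct, Matrix.mulVec, Pi.star_apply, star_star, star_sum, star_mul',
      std_real]

/-- check of the candidates for the seventh point -/
def candOK (x : ℕ) : Bool :=
  !((List.range 6).all fun k => decide (herm (gv (gpt k)) (gv x) = 0) == decide (herm (gv (gpt k)) (gv (gpt 6)) = 0)) ||
    Nat.beq x (gpt 1) || Nat.beq x (gpt 6) || Nat.beq x Dat.xAlt

theorem cand0 : rangeOK candOK 0 693 = true := by decide +kernel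

theorem conj_ok : (∀ k < 6, conjMap.P (gpt k) = gpt k) ∧ conjMap.P Dat.xAlt = gpt 6 := by decide +kernel

theorem path_ok : ∀ k < 6, ∀ l < 6,
    decide (herm (gv (gpt k)) (gv (gpt l)) = 0) = !decide (k + 1 = l ∨ l + 1 = k) := by decide +kernel

theorem seventh {x : ℕ} (hx : x < 693)
    (h : ∀ k < 6, herm (gv (gpt k)) (gv x) = 0 ↔ herm (gv (gpt k)) (gv (gpt 6)) = 0) :
    x = gpt 1 ∨ x = gpt 6 ∨ x = Dat.xAlt := by
  have hc := all_range (p := candOK) cand0 (Nat.zero_le _) (show x < 0 + 693 by omega)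
  simp only [candOK, Bool.or_eq_true, Bool.not_eq_true', List.all_eq_false, List.mem_range] at hc
  rcases hc with ((⟨k, hk, hne⟩ | h1) | h2) | h3
  · exact absurd (by rw [beq_iff_eq, decide_eq_decide]; exact h k hk) hne
  · exact Or.inl (Nat.eq_of_beq_eq_true h1)
  · exact Or.inr (Or.inl (Nat.eq_of_beq_eq_true h2))
  · exact Or.inr (Or.inr (Nat.eq_of_beq_eq_true h3))

/-! ### Moving six points onto the standard ones -/

/-- scaling factors -/
def scale (g : ℕ → V6) : ℕ → F4
  | 0 => 1
  | k + 1 => (star (scale g k) * herm (g k) (g (k + 1)))⁻¹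

theorem scale_ne (g : ℕ → V6) : ∀ k, k < 6 → (∀ l, l + 1 < 6 → herm (g l) (g (l + 1)) ≠ 0) → scale g k ≠ 0
  | 0, _, _ => one_ne_zero
  | k + 1, hk, h => inv_ne_zero (mul_ne_zero
      (fun e => scale_ne g k (by omega) h (star_eq_zero.mp e)) (h k hk))

theorem exists_simi (p : ℕ → ℕ) (_hp : ∀ k < 6, p k < 693)
    (hpat : ∀ k < 6, ∀ l < 6, herm (gv (p k)) (gv (p l)) = 0 ↔ ¬(k + 1 = l ∨ l + 1 = k)) :
    ∃ S : Simi, (∀ k < 6, S.P (p k) = gpt k) ∧
      ∀ x < 693, ∃ k < 6, herm (gv (p k)) (gv x) ≠ 0 := by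
  set g : ℕ → V6 := fun k => gv (p k)
  have hstep : ∀ l, l + 1 < 6 → herm (g l) (g (l + 1)) ≠ 0 := fun l hl h =>
    (hpat l (by omega) (l + 1) hl).mp h (Or.inl rfl)
  have hs : ∀ k < 6, scale g k ≠ 0 := fun k hk => scale_ne g k hk hstep
  set u : ℕ → V6 := fun k => scale g k • g k
  set M : Matrix (Fin 6) (Fin 6) F4 := Matrix.of fun i k => u k i
  have hone : ∀ l, l + 1 < 6 → herm (u l) (u (l + 1)) = 1 := fun l hl => by
    have h0 : star (scale g l) * herm (g l) (g (l + 1)) ≠ 0 :=
      mul_ne_zero (fun e => hs l (by omega) (star_eq_zero.mp e)) (hstep l hl)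
    show herm (scale g l • g l) (scale g (l + 1) • g (l + 1)) = 1
    rw [herm_smul_left, herm_smul_right, scale]
    rw [mul_left_comm]
    exact inv_mul_cancel₀ h0
  have hMM : Mᴴ * M = gramP := by
    ext k l
    show herm (u k) (u l) = gramP k l
    simp only [gramP, Matrix.of_apply]
    split_ifs with h
    · rcases h with h | h
      · rw [← h]; exact hone k (by omega)
      · rw [← h, ← star_herm, hone l (by omega), star_one]
    · show herm (scale g k • g k) (scale g l • g l) = 0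
      rw [herm_smul_left, herm_smul_right, (hpat k k.2 l l.2).mpr h, mul_zero, mul_zero]
  set A := M * N0
  have hA : Aᴴ * A = 1 := by
    rw [Matrix.conjTranspose_mul, Matrix.mul_assoc, ← Matrix.mul_assoc Mᴴ, hMM, ← std_gram,
      ← Matrix.mul_assoc, ← Matrix.mul_assoc, ← Matrix.conjTranspose_mul, std_mul, Matrix.mul_assoc,
      std_mul]
    simp
  have hA' : A * Aᴴ = 1 := mul_eq_one_comm.mp hA
  have hcol : ∀ k : Fin 6, A *ᵥ w0 k = u k := fun k => by
    have h1 : w0 k = M0 *ᵥ Pi.single k 1 := by rw [Matrix.mulVec_single_one]; rfl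
    rw [h1, Matrix.mulVec_mulVec, Matrix.mul_assoc, std_mul', Matrix.mul_one, Matrix.mulVec_single_one]
    rfl
  let S : Simi :=
    { f := fun v => Aᴴ *ᵥ v
      th := id
      th_eq := fun c hc => hc
      th_zero := rfl
      map_add := fun u v => Matrix.mulVec_add _ _ _
      map_smul := fun c v => Matrix.mulVec_smul _ _ _
      inj := fun v v' h => by
        have h1 := congrArg (A *ᵥ ·) h
        simpa only [Matrix.mulVec_mulVec, hA', Matrix.one_mulVec] using h1
      herm_map := fun v v' => by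
        rw [herm, Matrix.star_mulVec, Matrix.conjTranspose_conjTranspose, ← Matrix.dotProduct_mulVec,
          Matrix.mulVec_mulVec, hA', Matrix.one_mulVec]
        rfl }
  refine ⟨S, fun k hk => ?_, fun x hx => ?_⟩
  · show pt6 (Aᴴ *ᵥ g k) = gpt k
    rw [← std_pts k hk]
    have hc := hcol ⟨k, hk⟩
    have e : Aᴴ *ᵥ u k = w0 k := by
      rw [← hc, Matrix.mulVec_mulVec, hA, Matrix.one_mulVec]
    rw [show Aᴴ *ᵥ u k = scale g k • (Aᴴ *ᵥ g k) from Matrix.mulVec_smul _ _ _] at e
    rw [← e, pt6, pt6, SUSix.idx_smul _ (hs k hk)]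
  · by_contra hno
    push Not at hno
    apply (Pts.gv_spec hx).1
    have h1 : Mᴴ *ᵥ gv x = 0 := by
      funext k
      show herm (u k) (gv x) = 0
      rw [herm_smul_left, hno k k.2, mul_zero]
    have e : M = A * M0 := by rw [Matrix.mul_assoc, std_mul', Matrix.mul_one]
    rw [e, Matrix.conjTranspose_mul, ← Matrix.mulVec_mulVec] at h1
    have h2 := congrArg (N0ᴴ *ᵥ ·) h1
    simp only [Matrix.mulVec_mulVec, Matrix.mulVec_zero] at h2
    rw [← Matrix.mul_assoc, ← Matrix.conjTranspose_mul, std_mul, Matrix.conjTranspose_one,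
      Matrix.one_mul] at h2
    have h3 := congrArg (A *ᵥ ·) h2
    simpa only [Matrix.mulVec_mulVec, hA', Matrix.one_mulVec, Matrix.mulVec_zero] using h3

end Cfsg.Agent.Spor.M22U.Sym
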