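import Cfsg.Agent.Lib.Spor.M22UReflChecks
import Cfsg.Agent.Lib.Spor.M22USym

/-!
Comparison of the seven roots with the seven generating points.
-/

set_option autoImplicit false
set_option maxRecDepth 100000
set_option Elab.async false

namespace Cfsg.Agent.Spor.M22U.Norm

open Cfsg.Agent.Spor.CC Cfsg.Agent.Small.Unitary

/-- the roots -/
def rt (i : ℕ) : ℕ := RDat.seven.getD i 0

/-- a root not commuting with a given one -/
def moverOK (a : ℕ) : Bool :=
  (List.range 126).any fun b => !(Refl.tup [a, b] == Refl.tup [b, a])

theorem mover_all : rangeOK moverOK 0 126 = true := by decide +kernel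

theorem rt_lt : ∀ i < 7, rt i < 126 := by decide +kernel

theorem rt_inj : ∀ i < 7, ∀ j < 7, rt i = rt j → i = j := by decide +kernel

theorem pattern : ∀ i < 7, ∀ j < 7,
    (Refl.tup [rt i, rt j] == Refl.tup [rt j, rt i]) = decide (herm (Pts.gv (gpt i)) (Pts.gv (gpt j)) = 0) := by
  decide +kernel

theorem count_T0 : ((Finset.range 693).filter fun x => inT0 x = true).card = 126 := by decide +kernel

end Cfsg.Agent.Spor.M22U.Norm
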