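import Cfsg.Prelude.Def_Classical

/-!
Transport of the projective special unitary group along an isomorphism of fields in any universes.
-/

set_option autoImplicit false

namespace Cfsg.Agent.Spor.PSUTransfer

open Cfsg Matrix

universe u v

variable {n q : ℕ} {F : Type u} {F' : Type v} [Field F] [Field F']

theorem mem_SU_map (φ : F ≃+* F') (g : Matrix.SpecialLinearGroup (Fin n) F) (hg : g ∈ SU n F q) :
    Matrix.SpecialLinearGroup.map φ.toRingHom g ∈ SU n F' q := by
  intro u v
  have hu : ∀ w : Fin n → F', ∃ w' : Fin n → F, w = φ ∘ w' := fun w => ⟨φ.symm ∘ w, by ext; simp⟩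
  obtain ⟨u, rfl⟩ := hu u
  obtain ⟨v, rfl⟩ := hu v
  have hm : ∀ w : Fin n → F, (g.1.map φ) *ᵥ (φ ∘ w) = φ ∘ (g.1 *ᵥ w) := fun w => by
    ext i; exact (RingHom.map_mulVec φ.toRingHom g.1 w i).symm
  have hh : ∀ a b : Fin n → F, hermForm n F' q (φ ∘ a) (φ ∘ b) = φ (hermForm n F q a b) := fun a b => by
    simp [hermForm, map_sum, map_mul, map_pow]
  show hermForm n F' q ((g.1.map φ) *ᵥ (φ ∘ u)) ((g.1.map φ) *ᵥ (φ ∘ v)) = _
  rw [hm, hm, hh, hh]
  exact congrArg φ (hg u v)

/-- the special unitary groups over isomorphic fields -/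
noncomputable def suEquiv (φ : F ≃+* F') : ↥(SU n F q) ≃* ↥(SU n F' q) where
  toFun g := ⟨_, mem_SU_map φ g.1 g.2⟩
  invFun g := ⟨_, mem_SU_map φ.symm g.1 g.2⟩
  left_inv g := by
    refine Subtype.ext (Subtype.ext ?_)
    ext i j
    simp
  right_inv g := by
    refine Subtype.ext (Subtype.ext ?_)
    ext i j
    simp
  map_mul' a b := Subtype.ext (map_mul _ _ _)

/-- Isomorphic fields give isomorphic projective special unitary groups. -/
theorem psu_congr (φ : F ≃+* F') : Nonempty (PSU n F q ≃* PSU n F' q) :=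
  ⟨QuotientGroup.congr _ _ (suEquiv φ) (by
    ext x
    rw [Subgroup.mem_map]
    constructor
    · rintro ⟨z, hz, rfl⟩
      rw [Subgroup.mem_center_iff] at hz ⊢
      intro y
      obtain ⟨w, rfl⟩ := (suEquiv φ).surjective y
      show (suEquiv φ) w * (suEquiv φ) z = (suEquiv φ) z * (suEquiv φ) w
      rw [← map_mul, ← map_mul, hz w]
    · intro hx
      obtain ⟨z, rfl⟩ := (suEquiv φ).surjective x
      refine ⟨z, Subgroup.mem_center_iff.2 fun w => (suEquiv φ).injective ?_, rfl⟩
      rw [map_mul, map_mul]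
      exact Subgroup.mem_center_iff.1 hx _)⟩

end Cfsg.Agent.Spor.PSUTransfer
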