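import Cfsg.Agent.Lib.Spor.ThreePrimitive

/-!
Consequences of primitivity of a group on a class of 3-transpositions with two commuting members.
-/

set_option autoImplicit false

open scoped Pointwise

namespace Cfsg.Agent.Spor

variable {G : Type*} [Group G]

theorem class_of_primitive {D : Set G} (hD : Cfsg.IsThreeTranspositionGroup D)
    (hprim : Cfsg.IsPrimitiveUnderConj D) : Cfsg.IsThreeTranspositionClass D := by
  obtain ⟨hset, hconj, hgen⟩ := hD
  obtain ⟨htrans, ⟨a, ha, -⟩, -⟩ := hprim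
  refine ⟨hset, ⟨a, ha, ?_⟩, hgen⟩
  ext x
  refine ⟨fun hx => isConj_iff.2 (htrans a ha x hx), fun hx => ?_⟩
  obtain ⟨g, rfl⟩ := isConj_iff.1 hx
  exact hconj g a ha

/-- a conjugation-invariant relation that is an equivalence on `D` is trivial or everything -/
theorem relation_dichotomy {D : Set G} (hD : Cfsg.IsThreeTranspositionGroup D)
    (hprim : Cfsg.IsPrimitiveUnderConj D) (r : G → G → Prop) (hrefl : ∀ a ∈ D, r a a)
    (hsymm : ∀ a ∈ D, ∀ b ∈ D, r a b → r b a)
    (htrans : ∀ a ∈ D, ∀ b ∈ D, ∀ c ∈ D, r a b → r b c → r a c)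
    (hinv : ∀ g : G, ∀ a ∈ D, ∀ b ∈ D, r a b → r (g * a * g⁻¹) (g * b * g⁻¹)) :
    (∀ a ∈ D, ∀ b ∈ D, r a b → a = b) ∨ ∀ a ∈ D, ∀ b ∈ D, r a b := by
  obtain ⟨-, hconj, -⟩ := hD
  obtain ⟨htr, ⟨d, hd, -⟩, hblocks⟩ := hprim
  set B : Set G := {x | x ∈ D ∧ r d x} with hBdef
  have key : ∀ g : G, ∀ x ∈ D, x ∈ cimg g B ↔ r (g * d * g⁻¹) x := by
    intro g x hx
    constructor
    · rintro ⟨y, ⟨hy, hdy⟩, rfl⟩
      exact hinv g d hd y hy hdy
    · intro h
      refine ⟨g⁻¹ * x * g, ⟨(conj_mem_iff hconj g).1 hx, ?_⟩, by group⟩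
      have := hinv g⁻¹ _ (hconj g d hd) x hx h
      rwa [inv_inv, show g⁻¹ * (g * d * g⁻¹) * g = d by group] at this
  have hsub : ∀ g : G, cimg g B ⊆ D := by
    rintro g _ ⟨y, hy, rfl⟩; exact hconj g y hy.1
  have hblock : ∀ g : G, cimg g B = B ∨ Disjoint (cimg g B) B := by
    intro g
    rw [or_iff_not_imp_right, Set.not_disjoint_iff]
    rintro ⟨y, hy, hyD, hdy⟩
    have hgy := (key g y hyD).1 hy
    have hgd : r (g * d * g⁻¹) d :=
      htrans _ (hconj g d hd) y hyD d hd hgy (hsymm d hd y hyD hdy)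
    ext x
    refine ⟨fun hx => ⟨hsub g hx, ?_⟩, fun ⟨hxD, hdx⟩ => (key g x hxD).2 ?_⟩
    · exact htrans d hd _ (hconj g d hd) x (hsub g hx) (hsymm _ (hconj g d hd) d hd hgd)
        ((key g x (hsub g hx)).1 hx)
    · exact htrans _ (hconj g d hd) d hd x hxD hgd hdx
  rcases hblocks B (fun x hx => hx.1) hblock with h | h
  · refine Or.inl fun a ha b hb hab => ?_
    obtain ⟨g, rfl⟩ := htr d hd a ha
    obtain ⟨y, hy, rfl⟩ := (key g b hb).2 hab
    rw [h (show d ∈ B from ⟨hd, hrefl d hd⟩) hy]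
  · refine Or.inr fun a ha b hb => ?_
    have hall : ∀ x ∈ D, r d x := fun x hx => by
      have : x ∈ B := h.symm ▸ hx
      exact this.2
    exact htrans a ha d hd b hb (hsymm d hd a ha (hall a ha)) (hall b hb)

theorem cores_central_of_primitive [Finite G] {D : Set G} (hD : Cfsg.IsThreeTranspositionGroup D)
    (hprim : Cfsg.IsPrimitiveUnderConj D) (hw : ∃ a ∈ D, ∃ b ∈ D, a ≠ b ∧ Commute a b) :
    Cfsg.pCore 2 G ≤ Subgroup.center G ∧ Cfsg.pCore 3 G ≤ Subgroup.center G := by
  have hcl := class_of_primitive hD hprim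
  obtain ⟨a, ha, b, hb, hne, hab⟩ := hw
  constructor
  · refine core_two_central hcl ha fun v hv hV => ?_
    rcases relation_dichotomy hD hprim (SameV D) (fun _ _ _ _ => Iff.rfl) (fun _ _ _ _ h => h.symm)
      (fun _ _ _ _ _ _ h h' => h.trans h') (fun g _ _ _ _ h => h.conj hD.2.1 g) with h | h
    · exact (h a ha v hv hV).symm
    · exfalso
      obtain ⟨e, he, hae⟩ := exists_braid hcl ⟨a, ha, b, hb, hne⟩ ha
      exact hae ((h a ha e he).commute ha)
  · refine core_three_central hcl ha fun v hv hW => ?_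
    rcases relation_dichotomy hD hprim (SameW D) (fun a _ => SameW.refl D a) (fun _ _ _ _ h => h.symm)
      (fun _ _ _ _ _ _ h h' => h.trans h') (fun g _ _ _ _ h => h.conj hD.2.1 g) with h | h
    · exact (h a ha v hv hW).symm
    · exact absurd hab ((h a ha b hb).not_commute hb hne)

theorem connected_of_primitive [Finite G] {D : Set G} (hD : Cfsg.IsThreeTranspositionGroup D)
    (hprim : Cfsg.IsPrimitiveUnderConj D) (hw : ∃ a ∈ D, ∃ b ∈ D, a ≠ b ∧ Commute a b) :
    (Cfsg.commutingGraph D).Connected := by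
  obtain ⟨a, ha, b, hb, hne, hab⟩ := hw
  let r : G → G → Prop := Relation.ReflTransGen fun x y => x ∈ D ∧ y ∈ D ∧ Commute x y
  have hinv : ∀ (g : G) x y, r x y → r (g * x * g⁻¹) (g * y * g⁻¹) := fun g x y h =>
    Relation.ReflTransGen.lift (fun z => g * z * g⁻¹)
      (fun p q (hpq : p ∈ D ∧ q ∈ D ∧ Commute p q) =>
        ⟨hD.2.1 g p hpq.1, hD.2.1 g q hpq.2.1, commute_conj_iff.2 hpq.2.2⟩) x y h
  have hsymm : ∀ x y, r x y → r y x := fun x y h => by
    induction h with
    | refl => exact Relation.ReflTransGen.refl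
    | tail _ hpq ih => exact Relation.ReflTransGen.head ⟨hpq.2.1, hpq.1, hpq.2.2.symm⟩ ih
  have hall : ∀ x ∈ D, ∀ y ∈ D, r x y := by
    rcases relation_dichotomy hD hprim r (fun _ _ => Relation.ReflTransGen.refl)
      (fun x _ y _ h => hsymm x y h) (fun _ _ _ _ _ _ h h' => h.trans h') (fun g x _ y _ h => hinv g x y h)
      with h | h
    · exact absurd (h a ha b hb (Relation.ReflTransGen.single ⟨ha, hb, hab⟩)) hne
    · exact h
  have hreach : ∀ x y, r x y → ∀ (hx : x ∈ D) (hy : y ∈ D),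
      (Cfsg.commutingGraph D).Reachable ⟨x, hx⟩ ⟨y, hy⟩ := by
    intro x y h
    induction h with
    | refl => intro hx hy; exact SimpleGraph.Reachable.refl _
    | @tail p q _ hpq ih =>
      intro hx hy
      refine (ih hx hpq.1).trans ?_
      by_cases he : p = q
      · subst he; exact SimpleGraph.Reachable.refl _
      · refine SimpleGraph.Adj.reachable ?_
        rw [Cfsg.commutingGraph, SimpleGraph.fromRel_adj]
        exact ⟨fun e => he (congrArg Subtype.val e), Or.inl hpq.2.2⟩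
  haveI : Nonempty D := ⟨⟨a, ha⟩⟩
  exact ⟨fun x y => hreach x y (hall x x.2 y y.2) x.2 y.2⟩

theorem dSubgroup_conj_invariant {D : Set G} (hconj : ∀ g : G, ∀ d ∈ D, g * d * g⁻¹ ∈ D)
    {H : Subgroup G} (g : G) (hH : Cfsg.IsDSubgroup D H) :
    Cfsg.IsDSubgroup D (H.map (MulAut.conj g).toMonoidHom) := by
  refine le_antisymm ((Subgroup.closure_le _).2 fun x hx => hx.2) ?_
  rw [Subgroup.map_le_iff_le_comap]
  conv_lhs => rw [← hH]
  rw [Subgroup.closure_le]
  exact fun x hx => Subgroup.subset_closure ⟨hconj g x hx.1, ⟨x, hx.2, rfl⟩⟩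

/-- the subgroup generated by the members commuting with `d` is a maximal D-subgroup -/
theorem maximal_dSubgroup [Finite G] {D : Set G} (hD : Cfsg.IsThreeTranspositionGroup D)
    (hprim : Cfsg.IsPrimitiveUnderConj D) (hw : ∃ a ∈ D, ∃ b ∈ D, a ≠ b ∧ Commute a b) {d : G}
    (hd : d ∈ D) :
    Subgroup.closure {y : G | y ∈ D ∧ Commute d y} ≠ ⊤ ∧ ∀ H : Subgroup G, Cfsg.IsDSubgroup D H →
      Subgroup.closure {y : G | y ∈ D ∧ Commute d y} ≤ H →
        H = Subgroup.closure {y : G | y ∈ D ∧ Commute d y} ∨ H = ⊤ := by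
  classical
  have hcl := class_of_primitive hD hprim
  have hconn := connected_of_primitive hD hprim hw
  obtain ⟨hset, hconj, hgen⟩ := hD
  have hD' : Cfsg.IsThreeTranspositionGroup D := ⟨hset, hconj, hgen⟩
  have hD2 : ∃ a ∈ D, ∃ b ∈ D, a ≠ b := hprim.2.1
  set H0 := Subgroup.closure {y : G | y ∈ D ∧ Commute d y} with hH0
  have hH0C : H0 ≤ Subgroup.centralizer ({d} : Set G) :=
    (Subgroup.closure_le _).2 fun y hy => Subgroup.mem_centralizer_singleton_iff.2 hy.2.symm
  constructor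
  · intro htop
    obtain ⟨e, he, hde⟩ := exists_braid hcl hD2 hd
    exact hde (Subgroup.mem_centralizer_singleton_iff.1 (hH0C (htop ▸ Subgroup.mem_top e))).symm
  intro H hH hle
  by_contra hcon
  push Not at hcon
  obtain ⟨hne0, hnetop⟩ := hcon
  obtain ⟨K, hHK, hK⟩ := Finite.exists_le_maximal
    (p := fun K : Subgroup G => Cfsg.IsDSubgroup D K ∧ K ≠ ⊤) (a := H) ⟨hH, hnetop⟩
  obtain ⟨hKD, hKtop⟩ := hK.1
  have hdK : ∀ y ∈ D, Commute d y → y ∈ K := fun y hy hc => hHK (hle (Subgroup.subset_closure ⟨hy, hc⟩))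
  -- a member of `K` not commuting with `d`
  obtain ⟨a, haD, haK, hda⟩ : ∃ a ∈ D, a ∈ K ∧ ¬ Commute d a := by
    by_contra h
    push Not at h
    refine hne0 (le_antisymm ?_ hle)
    rw [← hH, Subgroup.closure_le]
    exact fun y hy => Subgroup.subset_closure ⟨hy.1, h y hy.1 (hHK hy.2)⟩
  have hdd := mul_self_of_order_two (hset.1 d hd)
  -- two parts of the members in a subgroup containing the members commuting with `d`
  have part : ∀ (L : Subgroup G), Cfsg.IsDSubgroup D L → (∀ y ∈ D, Commute d y → y ∈ L) →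
      (∀ b, (∃ h ∈ L, h * d * h⁻¹ = b) → ∀ y ∈ D, Commute b y → y ∈ L) ∧
      (∀ b, (∃ h ∈ L, h * d * h⁻¹ = b) → ∀ r ∈ D, r ∈ L → (¬ ∃ h ∈ L, h * d * h⁻¹ = r) → Commute b r) := by
    intro L hL hLd
    refine ⟨?_, ?_⟩
    · rintro b ⟨h, hh, rfl⟩ y hy hc
      have h1 := hLd _ ((conj_mem_iff hconj h).1 hy) (by
        rw [← commute_conj_iff (g := h), show h * (h⁻¹ * y * h) * h⁻¹ = y by group]; exact hc)
      have := mul_mem (mul_mem hh h1) (inv_mem hh)
      rwa [show h * (h⁻¹ * y * h) * h⁻¹ = y by group] at this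
    · rintro b ⟨h, hh, rfl⟩ r hr hrL hnr
      by_contra hc
      apply hnr
      set b := h * d * h⁻¹ with hb
      have hbD : b ∈ D := hconj h d hd
      have hbL : b ∈ L := mul_mem (mul_mem hh (hLd d hd (Commute.refl d))) (inv_mem hh)
      refine ⟨b * r * h, mul_mem (mul_mem hbL hrL) hh, ?_⟩
      rw [mul_inv_rev, mul_inv_rev, inv_of_order_two (hset.1 b hbD), inv_of_order_two (hset.1 r hr)]
      calc b * r * h * d * (h⁻¹ * (r * b)) = b * (r * b * r) * b := by rw [hb]; simp only [mul_assoc]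
        _ = b * (b * r * b) * b := by rw [braid_of_not hset hr hbD (fun e => hc e.symm)]
        _ = (b * b) * r * (b * b) := by simp only [mul_assoc]
        _ = r := by rw [mul_self_of_order_two (hset.1 b hbD), one_mul, mul_one]
  -- conjugates of `K` by elements centralising `d` equal `K`
  have hKinv : ∀ g : G, Commute g d → K.map (MulAut.conj g).toMonoidHom = K := by
    intro g hg
    set K' := K.map (MulAut.conj g).toMonoidHom with hK'
    have hgd : g * d * g⁻¹ = d := by rw [hg.eq, mul_inv_cancel_right]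
    have hmem : ∀ x, x ∈ K' ↔ g⁻¹ * x * g ∈ K := fun x => by
      rw [hK', Subgroup.mem_map_equiv]; simp [MulAut.conj_symm_apply]
    have hK'D : Cfsg.IsDSubgroup D K' := dSubgroup_conj_invariant hconj g hKD
    have hgd' : g⁻¹ * d * g = d := by
      calc g⁻¹ * d * g = g⁻¹ * (g * d * g⁻¹) * g := by rw [hgd]
        _ = d := by group
    have hdK' : ∀ y ∈ D, Commute d y → y ∈ K' := fun y hy hc => (hmem y).2 (hdK _
      ((conj_mem_iff hconj g).1 hy) (by
        rw [← commute_conj_iff (g := g), hgd, show g * (g⁻¹ * y * g) * g⁻¹ = y by group]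
        exact hc))
    obtain ⟨hp1, hp2⟩ := part K hKD hdK
    obtain ⟨hq1, hq2⟩ := part K' hK'D hdK'
    -- no member of the first part of `K'` lies in the second part of `K`
    have disj : ∀ (L L' : Subgroup G), Cfsg.IsDSubgroup D L → (∀ y ∈ D, Commute d y → y ∈ L) →
        (∀ y ∈ D, Commute d y → y ∈ L') → Cfsg.IsDSubgroup D L' →
        (∃ x : G, Commute x d ∧ L' = L.map (MulAut.conj x).toMonoidHom) →
        ∀ r ∈ D, r ∈ L → (¬ ∃ h ∈ L, h * d * h⁻¹ = r) → ¬ ∃ h ∈ L', h * d * h⁻¹ = r := by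
      intro L L' hL hLd hL'd hL' ⟨x, hxd, hLL⟩ r hr hrL hnr hr'
      obtain ⟨u1, u2⟩ := part L hL hLd
      obtain ⟨v1, v2⟩ := part L' hL' hL'd
      set B : Set G := (fun h => h * d * h⁻¹) '' (L : Set G) with hB
      set B' : Set G := (fun h => h * d * h⁻¹) '' (L' : Set G) with hB'
      have hBsub : B ⊆ B' := by
        have key : ∀ h ∈ L, ∀ y ∈ B ∩ B', h * y * h⁻¹ ∈ B ∩ B' := by
          intro h hh
          rw [← hL] at hh
          induction hh using Subgroup.closure_induction with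
          | mem z hz =>
            rintro y ⟨hy, hy'⟩
            by_cases hc : Commute z y
            · rw [hc.eq, mul_inv_cancel_right]; exact ⟨hy, hy'⟩
            obtain ⟨p, hp, hpy⟩ := hy
            obtain ⟨q, hq, hqy⟩ := hy'
            refine ⟨⟨z * p, mul_mem hz.2 hp, by rw [← hpy]; group⟩, ?_⟩
            have hzB : ∃ h ∈ L, h * d * h⁻¹ = z := by
              by_contra hzn
              exact hc (u2 y ⟨p, hp, hpy⟩ z hz.1 hz.2 hzn).symm
            have hzr : Commute z r := u2 z hzB r hr hrL hnr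
            have hzL' : z ∈ L' := v1 r hr' z hz.1 hzr.symm
            exact ⟨z * q, mul_mem hzL' hq, by rw [← hqy]; group⟩
          | one => intro y hy; simpa using hy
          | mul p q _ _ hp hq =>
            intro y hy
            rw [show p * q * y * (p * q)⁻¹ = p * (q * y * q⁻¹) * p⁻¹ by group]
            exact hp _ (hq _ hy)
          | inv p _ hp =>
            intro y hy
            have himg : cimg p (B ∩ B') = B ∩ B' :=
              Set.eq_of_subset_of_ncard_le (by rintro _ ⟨w, hw', rfl⟩; exact hp w hw')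
                (le_of_eq (Set.ncard_image_of_injective _ (fun u v e => by
                  exact mul_left_cancel (mul_right_cancel e))).symm) (Set.toFinite _)
            rw [← himg] at hy
            obtain ⟨w, hw', rfl⟩ := hy
            rw [inv_inv, show p⁻¹ * (p * w * p⁻¹) * p = w by group]
            exact hw'
        rintro _ ⟨h, hh, rfl⟩
        exact (key h hh d ⟨⟨1, one_mem _, by group⟩, ⟨1, one_mem _, by group⟩⟩).2
      have himg : cimg x B = B' := by
        ext y
        constructor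
        · rintro ⟨_, ⟨h, hh, rfl⟩, rfl⟩
          refine ⟨x * h * x⁻¹, ?_, ?_⟩
          · rw [SetLike.mem_coe, hLL]; exact ⟨h, hh, rfl⟩
          · have e : x⁻¹ * d * x = d := by
              calc x⁻¹ * d * x = x⁻¹ * (d * x) := by group
                _ = d := by rw [← hxd.eq, inv_mul_cancel_left]
            calc x * h * x⁻¹ * d * (x * h * x⁻¹)⁻¹ = x * h * (x⁻¹ * d * x) * h⁻¹ * x⁻¹ := by group
              _ = x * (h * d * h⁻¹) * x⁻¹ := by rw [e]; group
        · rintro ⟨h', hh', rfl⟩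
          rw [SetLike.mem_coe, hLL] at hh'
          obtain ⟨h, hh, rfl⟩ := hh'
          refine ⟨h * d * h⁻¹, ⟨h, hh, rfl⟩, ?_⟩
          show x * (h * d * h⁻¹) * x⁻¹ = x * h * x⁻¹ * d * (x * h * x⁻¹)⁻¹
          have e : x⁻¹ * d * x = d := by
            calc x⁻¹ * d * x = x⁻¹ * (d * x) := by group
              _ = d := by rw [← hxd.eq, inv_mul_cancel_left]
          calc x * (h * d * h⁻¹) * x⁻¹ = x * h * (x⁻¹ * d * x) * h⁻¹ * x⁻¹ := by rw [e]; group
            _ = _ := by group
      have hcard : B'.ncard ≤ B.ncard := by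
        rw [← himg]; exact Set.ncard_image_le (Set.toFinite _)
      have heq : B = B' := Set.eq_of_subset_of_ncard_le hBsub hcard (Set.toFinite _)
      obtain ⟨h', hh', e'⟩ := hr'
      have hrB : r ∈ B := heq.symm ▸ ⟨h', hh', e'⟩
      exact hnr hrB
    have hconjinv : (∃ x : G, Commute x d ∧ K = K'.map (MulAut.conj x).toMonoidHom) := by
      refine ⟨g⁻¹, hg.inv_left, ?_⟩
      ext y
      rw [Subgroup.mem_map_equiv, MulAut.conj_symm_apply, inv_inv, hmem]
      rw [show g⁻¹ * (g * y * g⁻¹) * g = y by group]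
    -- the second parts coincide
    set R : Set G := {r | r ∈ D ∧ r ∈ K ∧ ¬ ∃ h ∈ K, h * d * h⁻¹ = r} with hR
    set R' : Set G := {r | r ∈ D ∧ r ∈ K' ∧ ¬ ∃ h ∈ K', h * d * h⁻¹ = r} with hR'
    have hRR : R = R' := by
      ext r
      constructor
      · rintro ⟨hr, hrK, hnr⟩
        exact ⟨hr, hdK' r hr (hp2 d ⟨1, one_mem _, by group⟩ r hr hrK hnr),
          disj K K' hKD hdK hdK' hK'D ⟨g, hg, rfl⟩ r hr hrK hnr⟩
      · rintro ⟨hr, hrK, hnr⟩
        exact ⟨hr, hdK r hr (hq2 d ⟨1, one_mem _, by group⟩ r hr hrK hnr),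
          disj K' K hK'D hdK' hdK hKD hconjinv r hr hrK hnr⟩
    -- the subgroup generated by both is proper
    have hstab : ∀ (L : Subgroup G) (h : G), h ∈ L → ∀ r, (r ∈ D ∧ r ∈ L ∧ ¬ ∃ k ∈ L, k * d * k⁻¹ = r) →
        (h * r * h⁻¹ ∈ D ∧ h * r * h⁻¹ ∈ L ∧ ¬ ∃ k ∈ L, k * d * k⁻¹ = h * r * h⁻¹) := by
      rintro L h hh r ⟨hr, hrL, hnr⟩
      refine ⟨hconj h r hr, mul_mem (mul_mem hh hrL) (inv_mem hh), fun ⟨k, hk, e⟩ => hnr ?_⟩
      refine ⟨h⁻¹ * k, mul_mem (inv_mem hh) hk, ?_⟩
      calc h⁻¹ * k * d * (h⁻¹ * k)⁻¹ = h⁻¹ * (k * d * k⁻¹) * h := by group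
        _ = r := by rw [e]; group
    have hRne : R.Nonempty := by
      by_contra hemp
      rw [Set.not_nonempty_iff_eq_empty] at hemp
      apply hKtop
      have hBclosed : ∀ {x y : D}, (Cfsg.commutingGraph D).Walk x y →
          (∃ h ∈ K, h * d * h⁻¹ = (x : G)) → (∃ h ∈ K, h * d * h⁻¹ = (y : G)) := by
        intro x y w
        induction w with
        | nil => exact id
        | @cons u v z hadj _ ih =>
          intro hu
          refine ih ?_
          rw [Cfsg.commutingGraph, SimpleGraph.fromRel_adj] at hadj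
          have hvK := hp1 _ hu v v.2 (hadj.2.elim id fun e => e.symm)
          by_contra hv
          have : (v : G) ∈ R := ⟨v.2, hvK, hv⟩
          rw [hemp] at this
          exact this
      rw [eq_top_iff, ← hgen, Subgroup.closure_le]
      intro e he
      obtain ⟨w⟩ := hconn.preconnected ⟨d, hd⟩ ⟨e, he⟩
      obtain ⟨h, hh, heq⟩ := hBclosed w ⟨1, one_mem _, by group⟩
      have heq' : h * d * h⁻¹ = e := heq
      rw [SetLike.mem_coe, ← heq']
      exact mul_mem (mul_mem hh (hdK d hd (Commute.refl d))) (inv_mem hh)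
    have hsup : K ⊔ K' ≠ ⊤ := by
      intro htop
      obtain ⟨r, hr⟩ := hRne
      have hinvR : ∀ g' ∈ K ⊔ K', ∀ s ∈ R, g' * s * g'⁻¹ ∈ R := by
        intro g' hg'
        rw [← Subgroup.closure_eq K, ← Subgroup.closure_eq K', ← Subgroup.closure_union] at hg'
        induction hg' using Subgroup.closure_induction with
        | mem z hz =>
          intro s hs
          rcases hz with hz | hz
          · exact hstab K z hz s hs
          · rw [hRR] at hs ⊢; exact hstab K' z hz s hs
        | one => intro s hs; simpa using hs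
        | mul p q _ _ hp hq =>
          intro s hs
          rw [show p * q * s * (p * q)⁻¹ = p * (q * s * q⁻¹) * p⁻¹ by group]
          exact hp _ (hq _ hs)
        | inv p _ hp =>
          intro s hs
          have himg : cimg p R = R :=
            Set.eq_of_subset_of_ncard_le (by rintro _ ⟨w, hw', rfl⟩; exact hp w hw')
              (le_of_eq (Set.ncard_image_of_injective _ (fun u v e => by
                exact mul_left_cancel (mul_right_cancel e))).symm) (Set.toFinite _)
          rw [← himg] at hs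
          obtain ⟨w, hw', rfl⟩ := hs
          rw [inv_inv, show p⁻¹ * (p * w * p⁻¹) * p = w by group]
          exact hw'
      obtain ⟨x, hx⟩ := hprim.1 r hr.1 d hd
      have := hinvR x (htop ▸ Subgroup.mem_top x) r hr
      rw [hx] at this
      exact this.2.2 ⟨1, one_mem _, by group⟩
    have hsupD : Cfsg.IsDSubgroup D (K ⊔ K') := by
      refine le_antisymm ((Subgroup.closure_le _).2 fun x hx => hx.2) (sup_le ?_ ?_)
      · conv_lhs => rw [← hKD]
        exact Subgroup.closure_mono fun x hx => ⟨hx.1, Subgroup.mem_sup_left hx.2⟩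
      · conv_lhs => rw [← hK'D]
        exact Subgroup.closure_mono fun x hx => ⟨hx.1, Subgroup.mem_sup_right hx.2⟩
    have hle' : K' ≤ K := (le_sup_right).trans (hK.2 ⟨hsupD, hsup⟩ le_sup_left)
    refine Subgroup.eq_of_le_of_card_ge hle' (le_of_eq ?_)
    rw [hK']
    exact Nat.card_congr (K.equivMapOfInjective _ (MulAut.conj g).injective).toEquiv
  -- so the conjugates of `d` under the normaliser form a block
  set N := Subgroup.normalizer (K : Set G) with hN
  have hCN : ∀ g : G, Commute g d → g ∈ N := fun g hg => by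
    rw [hN, Subgroup.mem_normalizer_iff]
    intro x
    have h := hKinv g hg
    constructor
    · intro hx
      rw [← h]; exact ⟨x, hx, rfl⟩
    · intro hx
      rw [← h, Subgroup.mem_map_equiv, MulAut.conj_symm_apply] at hx
      rwa [show g⁻¹ * (g * x * g⁻¹) * g = x by group] at hx
  rcases relation_dichotomy hD' hprim (fun x y => ∃ g : G, g * d * g⁻¹ = x ∧ ∃ n ∈ N, g * n * d * (g * n)⁻¹ = y)
    (fun x hx => by
      obtain ⟨g, hg⟩ := hprim.1 d hd x hx
      exact ⟨g, hg, 1, one_mem _, by simpa using hg⟩)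
    (fun x _ y _ ⟨g, hg, n, hn, hy⟩ => ⟨g * n, hy, n⁻¹, inv_mem hn, by simpa using hg⟩)
    (fun x _ y _ z _ ⟨g, hg, n, hn, hy⟩ ⟨g', hg', n', hn', hz⟩ => by
      refine ⟨g, hg, n * ((g * n)⁻¹ * g') * n', mul_mem (mul_mem hn (hCN _ ?_)) hn', ?_⟩
      · have e : g' * d * g'⁻¹ = g * n * d * (g * n)⁻¹ := hg'.trans hy.symm
        show (g * n)⁻¹ * g' * d = d * ((g * n)⁻¹ * g')
        calc (g * n)⁻¹ * g' * d = (g * n)⁻¹ * (g' * d * g'⁻¹) * g' := by group
          _ = d * ((g * n)⁻¹ * g') := by rw [e]; group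
      · rw [show g * (n * ((g * n)⁻¹ * g') * n') = g' * n' by group]; exact hz)
    (fun h x _ y _ ⟨g, hg, n, hn, hy⟩ =>
      ⟨h * g, by rw [← hg]; group, n, hn, by rw [← hy]; group⟩) with h | h
  · have hd' : a * d * a⁻¹ = d := by
      refine (h d hd _ (hconj a d hd) ⟨1, by group, a, Subgroup.le_normalizer haK, by group⟩).symm
    exact hda (mul_inv_eq_iff_eq_mul.1 hd').symm
  · apply hKtop
    rw [eq_top_iff, ← hgen, Subgroup.closure_le]
    intro e he
    obtain ⟨g, hg, n, hn, hy⟩ := h d hd e he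
    have hgn : g * n ∈ N := mul_mem (hCN g (mul_inv_eq_iff_eq_mul.1 hg)) hn
    rw [← hy]
    exact (Subgroup.mem_normalizer_iff.1 hgn d).1 (hdK d hd (Commute.refl d))

end Cfsg.Agent.Spor
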