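import Cfsg.Agent.Lib.Spor.M22UPoints
import Cfsg.Agent.Lib.Spor.ThreeConnected
import Cfsg.Agent.Lib.Spor.PSUTransfer

/-!
The members commuting with one member of a group of type M(22) correspond to the transvections of PSU(6,2).
-/

set_option autoImplicit false
set_option maxRecDepth 100000

namespace Cfsg.Agent.Spor.M22U

open Cfsg.Agent.Spor.SpFour Cfsg.Agent.Small.Unitary

variable {G : Type*} [Group G] [Finite G] {D : Set G}

/-- members commuting with a member -/
abbrev nset (D : Set G) (d : G) : Set G := {y : G | y ∈ D ∧ y ≠ d ∧ Commute d y}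

theorem not_central (hD : Cfsg.IsThreeTranspositionGroup D) (hprim : Cfsg.IsPrimitiveUnderConj D)
    {d c : G} (hd : d ∈ D) (hc : c ∈ D) (hnc : ¬ Commute d c) {x : G} (hx : x ∈ nset D d) :
    ∃ y ∈ nset D d, ¬ Commute x y := by
  by_contra hno
  push Not at hno
  obtain ⟨g, hg⟩ := hprim.1 d hd x hx.1
  let A : G → Set G := fun z => {e | e ∈ D ∧ Commute z e}
  have hsub : A d ⊆ A x := fun e ⟨he, hce⟩ => by
    refine ⟨he, ?_⟩
    by_cases hed : e = d
    · exact hed ▸ hx.2.2.symm
    · exact hno e ⟨he, hed, hce⟩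
  have himg : (MulAut.conj g) '' A d = A x := by
    ext e
    constructor
    · rintro ⟨u, ⟨hu, hcu⟩, rfl⟩
      exact ⟨hD.2.1 g u hu, hg ▸ Spor.commute_conj_iff.mpr hcu⟩
    · rintro ⟨he, hce⟩
      refine ⟨g⁻¹ * e * g, ⟨(Spor.conj_mem_iff hD.2.1 g).1 he, ?_⟩, by
        show g * (g⁻¹ * e * g) * g⁻¹ = e; group⟩
      rw [← Spor.commute_conj_iff (g := g), hg, show g * (g⁻¹ * e * g) * g⁻¹ = e by group]
      exact hce
  have heq : A d = A x := Set.eq_of_subset_of_ncard_le hsub (by
    rw [← himg, Set.ncard_image_of_injective _ (MulAut.conj g).injective]) (Set.toFinite _)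
  have hsame : Spor.SameV D d x := fun e he => by
    have := Set.ext_iff.mp heq e
    simpa [A, he] using this
  rcases Spor.relation_dichotomy hD hprim (Spor.SameV D) (fun a _ e _ => Iff.rfl) (fun _ _ _ _ h => h.symm)
      (fun _ _ _ _ _ _ h h' => h.trans h') (fun g _ _ _ _ h => h.conj hD.2.1 g) with h | h
  · exact hx.2.1 (h d hd x hx.1 hsame).symm
  · exact hnc ((h d hd c hc).commute hd)

theorem coords_of_iso (hD : Cfsg.IsThreeTranspositionGroup D) (hprim : Cfsg.IsPrimitiveUnderConj D)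
    {d c : G} (hd : d ∈ D) (hc : c ∈ D) (hnc : ¬ Commute d c)
    (φ : ↥(Subgroup.closure (nset D d)) ⧸ Subgroup.center ↥(Subgroup.closure (nset D d)) ≃* Cfsg.PSU 6 F4 2) :
    ∃ π : ↥(nset D d) ≃ Fin 693,
      (∀ x y z : ↥(nset D d), (z : G) = x * y * (x : G)⁻¹ →
        Pts.ptr (π z) = Pts.ptr (π x) * Pts.ptr (π y) * (Pts.ptr (π x))⁻¹) ∧
      ∀ x y : ↥(nset D d), Commute (x : G) (y : G) ↔ herm (Pts.gv (π x)) (Pts.gv (π y)) = 0 := by
  set Hs := Subgroup.closure (nset D d)
  let ψ : Hs →* Cfsg.PSU 6 F4 2 := φ.toMonoidHom.comp (QuotientGroup.mk' (Subgroup.center Hs))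
  have hψs : Function.Surjective ψ :=
    φ.surjective.comp (QuotientGroup.mk'_surjective _)
  have hψk : ∀ h : Hs, ψ h = 1 → h ∈ Subgroup.center Hs := fun h hh => by
    have : φ (QuotientGroup.mk' (Subgroup.center Hs) h) = φ 1 := by rw [map_one]; exact hh
    exact (QuotientGroup.eq_one_iff h).mp (φ.injective this)
  let el : ↥(nset D d) → Hs := fun x => ⟨x, Subgroup.subset_closure x.2⟩
  have hsq : ∀ x : ↥(nset D d), (x : G) * x = 1 := fun x => Spor.mul_self_of_order_two (hD.1.1 _ x.2.1)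
  have hnsc : ∀ g ∈ Hs, ∀ y ∈ nset D d, g * y * g⁻¹ ∈ nset D d := by
    intro g hg y hy
    have hgd : Commute g d := by
      have : Hs ≤ Subgroup.centralizer ({d} : Set G) := by
        rw [Subgroup.closure_le]
        intro u hu
        exact Subgroup.mem_centralizer_singleton_iff.mpr hu.2.2.symm.eq
      exact Subgroup.mem_centralizer_singleton_iff.mp (this hg)
    have hd' : g * d * g⁻¹ = d := mul_inv_eq_iff_eq_mul.mpr hgd.eq
    refine ⟨hD.2.1 g y hy.1, fun h => hy.2.1 (mul_left_cancel (mul_right_cancel (h.trans hd'.symm))), ?_⟩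
    rw [← hd']; exact Spor.commute_conj_iff.mpr hy.2.2
  -- commuting is detected in the quotient
  have hlift : ∀ x y : ↥(nset D d), Commute (ψ (el x)) (ψ (el y)) → Commute (x : G) (y : G) := by
    intro x y h
    rcases Spor.commute_or_braid hD.1 x.2.1 y.2.1 with h' | h'
    · exact h'
    · -- the product is central and of order three
      set a := el x
      set b := el y
      have ha : a * a = 1 := Subtype.ext (hsq x)
      have hb : b * b = 1 := Subtype.ext (hsq y)
      have hbr : a * b * a = b * a * b := Subtype.ext h'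
      have hz : ψ (a * b) = 1 := by
        have e : ψ a * ψ b * ψ a = ψ b * ψ a * ψ b := by rw [← map_mul, ← map_mul, hbr, map_mul, map_mul]
        have hb' : ψ b * ψ b = 1 := by rw [← map_mul, hb, map_one]
        have ha' : ψ a * ψ a = 1 := by rw [← map_mul, ha, map_one]
        rw [h.eq, mul_assoc, ha', mul_one] at e
        rw [← h.eq, mul_assoc, hb', mul_one] at e
        rw [map_mul, ← e]; exact hb'
      have hcen := Subgroup.mem_center_iff.mp (hψk _ hz) a
      have hab : a * b = b * a := by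
        calc a * b = a * (a * b) * a * (1 : Hs) := by rw [hcen, mul_assoc (a * b) a a, ha]; simp
          _ = b * a := by rw [← mul_assoc a a b, ha, one_mul, mul_one]
      exact congrArg Subtype.val hab
  have hinj : ∀ x y : ↥(nset D d), ψ (el x) = ψ (el y) → x = y := by
    intro x y h
    by_contra hne
    have hxy : Commute (x : G) (y : G) := hlift x y (h ▸ Commute.refl _)
    have hab : el x * el y = el y * el x := Subtype.ext hxy.eq
    set a := el x
    set b := el y
    have ha : a * a = 1 := Subtype.ext (hsq x)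
    have hb : b * b = 1 := Subtype.ext (hsq y)
    set z := a * b with hz0
    have hz : z ∈ Subgroup.center Hs := hψk _ (by rw [map_mul, h, ← map_mul, hb, map_one])
    obtain ⟨w, hw, hwn⟩ := not_central hD hprim hd hc hnc x.2
    set e := el ⟨w, hw⟩
    have hcz := Subgroup.mem_center_iff.mp hz
    have hey : ¬ Commute (y : G) w := fun hyw => hwn (by
      have h1 : Commute b e := Subtype.ext hyw.eq
      have h3 : Commute z e := (hcz e).symm
      have h2 : Commute (z * b) e := h3.mul_left h1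
      rw [hz0, mul_assoc, hb, mul_one] at h2
      exact congrArg Subtype.val h2.eq)
    have h3 : ∀ u v : Hs, u * u = 1 → v * v = 1 → u * v * u = v * u * v → (u * v) ^ 3 = 1 := by
      intro u v hu hv hbr
      calc (u * v) ^ 3 = (u * v * u) * (v * u * v) := by simp only [pow_succ, pow_zero, one_mul, mul_assoc]
        _ = (v * u * v) * (v * u * v) := by rw [hbr]
        _ = v * u * (v * v) * u * v := by simp only [mul_assoc]
        _ = 1 := by rw [hv, mul_one, mul_assoc v u u, hu, mul_one, hv]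
    have he : e * e = 1 := Subtype.ext (Spor.mul_self_of_order_two (hD.1.1 _ hw.1))
    have hbr1 : a * e * a = e * a * e :=
      Subtype.ext ((Spor.commute_or_braid hD.1 x.2.1 hw.1).resolve_left hwn)
    have hbr2 : b * e * b = e * b * e :=
      Subtype.ext ((Spor.commute_or_braid hD.1 y.2.1 hw.1).resolve_left hey)
    have k1 := h3 a e ha he hbr1
    have k2 := h3 b e hb he hbr2
    have hzz : z * z = 1 := by rw [hz0, mul_assoc, ← mul_assoc b a b, ← hab, mul_assoc, hb, mul_one, ha]
    have hbz : b = z * a := by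
      calc b = b * (a * a) := by rw [ha, mul_one]
        _ = (b * a) * a := (mul_assoc b a a).symm
        _ = z * a := by rw [← hab]
    have hzp : z ^ 3 = 1 := by
      have hze : Commute z (a * e) := (hcz (a * e)).symm
      rw [hbz, mul_assoc, hze.mul_pow, k1, mul_one] at k2
      exact k2
    have hz1 : z = 1 := by
      calc z = z * z * z := by rw [hzz, one_mul]
        _ = 1 := by rw [← pow_three'] ; exact hzp
    have hab' : a = b := (show a = b by
      calc a = a * (b * b) := by rw [hb, mul_one]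
        _ = z * b := by rw [hz0]; group
        _ = b := by rw [hz1, one_mul])
    exact hne (Subtype.ext (congrArg Subtype.val hab' :))
  -- the images
  let E : Set (Cfsg.PSU 6 F4 2) := Set.range fun x : ↥(nset D d) => ψ (el x)
  have hEconj : ∀ p, ∀ e ∈ E, p * e * p⁻¹ ∈ E := by
    rintro p _ ⟨x, rfl⟩
    obtain ⟨h, rfl⟩ := hψs p
    refine ⟨⟨h * x * (h : G)⁻¹, hnsc h h.2 x x.2⟩, ?_⟩
    rw [← map_inv, ← map_mul, ← map_mul]; exact congrArg ψ (Subtype.ext rfl)
  have hsurjne : (nset D d).Nonempty := by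
    by_contra hne
    rw [Set.not_nonempty_iff_eq_empty] at hne
    have hbot : Hs = ⊥ := by rw [show Hs = Subgroup.closure (nset D d) from rfl, hne, Subgroup.closure_empty]
    obtain ⟨h, hh⟩ := hψs (Pts.ptr (gpt 0))
    have : h = 1 := Subtype.ext (Subgroup.mem_bot.mp ((SetLike.ext_iff.mp hbot (h : G)).mp h.2))
    rw [this, map_one] at hh
    exact Pts.ptr_ne_one (gpt_lt (by norm_num)) hh.symm
  have hforward : ∀ x : ↥(nset D d), ∃ i : Fin 693, ψ (el x) = Pts.ptr i := by
    intro x
    set p := ψ (el x) with hp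
    have h2 : p * p = 1 := by rw [hp, ← map_mul, show el x * el x = 1 from Subtype.ext (hsq x), map_one]
    have h1 : p ≠ 1 := fun h => by
      obtain ⟨w, hw, hwn⟩ := not_central hD hprim hd hc hnc x.2
      exact hwn (congrArg Subtype.val ((Subgroup.mem_center_iff.mp (hψk _ h)) (el ⟨w, hw⟩)).symm)
    rcases Invol.dichotomy h2 h1 with ⟨u, hu0, hu, e⟩ | ⟨q, n2, n3⟩
    · obtain ⟨hl, he⟩ := Pts.exists_ptr hu0 hu
      exact ⟨⟨_, hl⟩, e.trans he⟩
    · exfalso
      obtain ⟨y, hy⟩ := hEconj q p ⟨x, rfl⟩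
      rw [← hy] at n2 n3
      rcases hD.1.2 _ x.2.1 _ y.2.1 with h | h
      · apply n2
        rw [hp, ← map_mul, ← map_pow, show (el x * el y) ^ 2 = 1 from Subtype.ext h, map_one]
      · apply n3
        rw [hp, ← map_mul, ← map_pow, show (el x * el y) ^ 3 = 1 from Subtype.ext h, map_one]
  choose f hf using hforward
  have hfinj : Function.Injective f := fun x y h => hinj x y (by rw [hf, hf, h])
  have hfsurj : Function.Surjective f := by
    obtain ⟨x0, hx0⟩ := hsurjne
    intro k
    obtain ⟨w, hw, hwi⟩ := Pts.from_first (f ⟨x0, hx0⟩).2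
    obtain ⟨v, hv, hvk⟩ := Pts.from_first k.2
    have hu := below_append hv (below_rev hw)
    have hmem := hEconj (Pts.pw (v ++ w.reverse)) _ ⟨⟨x0, hx0⟩, rfl⟩
    simp only at hmem
    rw [hf, Pts.pw_conj hu (f ⟨x0, hx0⟩).2, pev_append] at hmem
    obtain ⟨y, hy⟩ := hmem
    refine ⟨y, Fin.ext (Pts.ptr_inj (f y).2 k.2 ?_)⟩
    simp only at hy
    rw [← hf, hy, ← hwi, pev_rev hw (gpt_lt (by norm_num)), hvk]
  refine ⟨Equiv.ofBijective f ⟨hfinj, hfsurj⟩, fun x y z hz => ?_, fun x y => ?_⟩
  · show Pts.ptr (f z) = Pts.ptr (f x) * Pts.ptr (f y) * (Pts.ptr (f x))⁻¹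
    rw [← hf, ← hf, ← hf, ← map_inv, ← map_mul, ← map_mul]
    exact congrArg ψ (Subtype.ext hz)
  · show _ ↔ herm (Pts.gv (f x)) (Pts.gv (f y)) = 0
    rw [← Pts.ptr_commute (f x).2 (f y).2, ← hf, ← hf]
    refine ⟨fun h => ?_, hlift x y⟩
    show ψ _ * ψ _ = ψ _ * ψ _
    rw [← map_mul, ← map_mul]
    exact congrArg ψ (Subtype.ext h.eq)

theorem exists_coords (hD : Cfsg.IsThreeTranspositionGroup D) (hprim : Cfsg.IsPrimitiveUnderConj D)
    {d c : G} (hd : d ∈ D) (hc : c ∈ D) (hnc : ¬ Commute d c)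
    (hH : ∃ (F : Type) (_ : Field F) (_ : Fintype F), Fintype.card F = 4 ∧
      Nonempty (↥(Subgroup.closure (nset D d)) ⧸ Subgroup.center ↥(Subgroup.closure (nset D d)) ≃* Cfsg.PSU 6 F 2)) :
    ∃ π : ↥(nset D d) ≃ Fin 693,
      (∀ x y z : ↥(nset D d), (z : G) = x * y * (x : G)⁻¹ →
        Pts.ptr (π z) = Pts.ptr (π x) * Pts.ptr (π y) * (Pts.ptr (π x))⁻¹) ∧
      ∀ x y : ↥(nset D d), Commute (x : G) (y : G) ↔ herm (Pts.gv (π x)) (Pts.gv (π y)) = 0 := by
  obtain ⟨F, _, _, hF, ⟨φ⟩⟩ := hH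
  let σ : F ≃+* F4 := FiniteField.ringEquivOfCardEq (hF.trans F4.card.symm)
  obtain ⟨ψ⟩ := PSUTransfer.psu_congr (n := 6) (q := 2) σ
  exact coords_of_iso hD hprim hd hc hnc (φ.trans ψ)

end Cfsg.Agent.Spor.M22U
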