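import Cfsg.Agent.Lib.Spor.M22URefl
import Cfsg.Agent.Lib.Spor.M22UTrans
import Cfsg.Agent.Lib.Spor.M22UNormChecks
import Cfsg.Agent.Lib.Spor.M22UFischer

/-!
Every group of type M(22) has a frame, so it is isomorphic to the presented group Fi22.
-/

set_option autoImplicit false
set_option maxRecDepth 100000
set_option maxHeartbeats 2000000
set_option linter.unusedSectionVars false

namespace Cfsg.Agent.Spor.M22U.Norm

open Cfsg.Agent.Small.Unitary Cfsg.Agent.Spor.CC Cfsg.Agent.Spor.SpFour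
open Cfsg.Agent.Spor.M22U.Sym (timg)

universe u

variable {G : Type u} [Group G] [Finite G] {D : Set G}

/-- coordinates on the members commuting with one member -/
structure Coord (D : Set G) (d : G) where
  /-- the bijection -/
  e : ↥(nset D d) ≃ Fin 693
  conj : ∀ x y z : ↥(nset D d), (z : G) = x * y * (x : G)⁻¹ → (e z : ℕ) = timg (e x) (e y)
  comm : ∀ x y : ↥(nset D d), Commute (x : G) (y : G) ↔ herm (Pts.gv (e x)) (Pts.gv (e y)) = 0

/-- change of coordinates -/
noncomputable def Coord.move {d : G} (C : Coord D d) (S : Sym.Simi) : Coord D d where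
  e := C.e.trans S.perm
  conj x y z hz := by
    simp only [Equiv.trans_apply, Sym.Simi.perm_val]
    rw [C.conj x y z hz, S.P_timg (C.e x).2 (C.e y).2]
  comm x y := by
    simp only [Equiv.trans_apply, Sym.Simi.perm_val]
    rw [C.comm, S.herm_iff (C.e x).2 (C.e y).2]

theorem coord_of (hD : Cfsg.IsThreeTranspositionGroup D) (hprim : Cfsg.IsPrimitiveUnderConj D)
    {d c : G} (hd : d ∈ D) (hc : c ∈ D) (hnc : ¬ Commute d c)
    (hH : ∃ (F : Type) (_ : Field F) (_ : Fintype F), Fintype.card F = 4 ∧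
      Nonempty (↥(Subgroup.closure (nset D d)) ⧸ Subgroup.center ↥(Subgroup.closure (nset D d)) ≃* Cfsg.PSU 6 F 2)) :
    Nonempty (Coord D d) := by
  obtain ⟨π, h1, h2⟩ := exists_coords hD hprim hd hc hnc hH
  refine ⟨⟨π, fun x y z hz => ?_, h2⟩⟩
  have h := h1 x y z hz
  obtain ⟨hl, e⟩ := Sym.conj_vec (π x).2 (π y).2
  exact Pts.ptr_inj (π z).2 hl (h.trans e)

theorem commute_lift {L : Type*} [Group L] {K : Type*} [Group K] {ψ : L →* K}
    (hker : ∀ h, ψ h = 1 → h ∈ Subgroup.center L) {a b : L} (ha : a * a = 1) (hb : b * b = 1)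
    (hab : Commute a b ∨ a * b * a = b * a * b) (h : Commute (ψ a) (ψ b)) : Commute a b := by
  rcases hab with h' | hbr
  · exact h'
  have hz : ψ (a * b) = 1 := by
    have e : ψ a * ψ b * ψ a = ψ b * ψ a * ψ b := by rw [← map_mul, ← map_mul, hbr, map_mul, map_mul]
    have hb' : ψ b * ψ b = 1 := by rw [← map_mul, hb, map_one]
    have ha' : ψ a * ψ a = 1 := by rw [← map_mul, ha, map_one]
    rw [h.eq, mul_assoc, ha', mul_one] at e
    rw [← h.eq, mul_assoc, hb', mul_one] at e
    rw [map_mul, ← e]; exact hb'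
  have hcen := Subgroup.mem_center_iff.mp (hker _ hz) a
  show a * b = b * a
  calc a * b = a * (a * b) * a * (1 : L) := by rw [hcen, mul_assoc (a * b) a a, ha]; simp
    _ = b * a := by rw [← mul_assoc a a b, ha, one_mul, mul_one]

theorem inj_lift {L : Type*} [Group L] {K : Type*} [Group K] {ψ : L →* K}
    (hker : ∀ h, ψ h = 1 → h ∈ Subgroup.center L) {a b e : L} (ha : a * a = 1) (hb : b * b = 1)
    (he : e * e = 1) (hab : Commute a b) (h : ψ a = ψ b)
    (h1 : a * e * a = e * a * e) (h2 : b * e * b = e * b * e) : a = b := by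
  set z := a * b with hz0
  have hz : z ∈ Subgroup.center L := hker _ (by rw [map_mul, h, ← map_mul, hb, map_one])
  have hcz := Subgroup.mem_center_iff.mp hz
  have h3 : ∀ u v : L, u * u = 1 → v * v = 1 → u * v * u = v * u * v → (u * v) ^ 3 = 1 := by
    intro u v hu hv hbr
    calc (u * v) ^ 3 = (u * v * u) * (v * u * v) := by simp only [pow_succ, pow_zero, one_mul, mul_assoc]
      _ = (v * u * v) * (v * u * v) := by rw [hbr]
      _ = v * u * (v * v) * u * v := by simp only [mul_assoc]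
      _ = 1 := by rw [hv, mul_one, mul_assoc v u u, hu, mul_one, hv]
  have k1 := h3 a e ha he h1
  have k2 := h3 b e hb he h2
  have hzz : z * z = 1 := by rw [hz0, mul_assoc, ← mul_assoc b a b, ← hab.eq, mul_assoc, hb, mul_one, ha]
  have hbz : b = z * a := by
    calc b = b * (a * a) := by rw [ha, mul_one]
      _ = (b * a) * a := (mul_assoc b a a).symm
      _ = z * a := by rw [← hab.eq]
  have hzp : z ^ 3 = 1 := by
    have hze : Commute z (a * e) := (hcz (a * e)).symm
    rw [hbz, mul_assoc, hze.mul_pow, k1, mul_one] at k2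
    exact k2
  have hz1 : z = 1 := by
    calc z = z * z * z := by rw [hzz, one_mul]
      _ = 1 := by rw [← pow_three']; exact hzp
  calc a = a * (b * b) := by rw [hb, mul_one]
    _ = z * b := by rw [hz0]; group
    _ = b := by rw [hz1, one_mul]

theorem root_mover {a : ℕ} (ha : a < 126) : ∃ b < 126, ¬ Commute (Refl.kr a) (Refl.kr b) := by
  have h := all_range (p := moverOK) mover_all (Nat.zero_le _) (show a < 0 + 126 by omega)
  simp only [moverOK, List.any_eq_true, List.mem_range, Bool.not_eq_true', beq_eq_false_iff_ne] at h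
  obtain ⟨b, hb, hne⟩ := h
  exact ⟨b, hb, fun hcm => hne ((Refl.commute_iff ha hb).mp hcm)⟩

theorem kr_ne_one {a : ℕ} (ha : a < 126) : Refl.kr a ≠ 1 := fun h => by
  obtain ⟨b, -, hn⟩ := root_mover ha
  exact hn (h ▸ Commute.one_left _)

theorem root_pattern {i j : ℕ} (hi : i < 7) (hj : j < 7) :
    Commute (Refl.kr (rt i)) (Refl.kr (rt j)) ↔ herm (Pts.gv (gpt i)) (Pts.gv (gpt j)) = 0 := by
  rw [Refl.commute_iff (rt_lt i hi) (rt_lt j hj), ← beq_iff_eq, pattern i hi j hj, decide_eq_true_eq]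

/-- what the second subgroup gives: seven members in the position of the seven generating points
and a count of the noncentral members -/
theorem roots (hD : Cfsg.IsThreeTranspositionGroup D) {d c : G}
    {c₃ : ZMod 3} (hc₃ : c₃ ≠ 0)
    (hL : Cfsg.IsProjReflectionGroupModThree
      (↥(Subgroup.closure (nset D d ∩ nset D c)) ⧸
        Subgroup.center ↥(Subgroup.closure (nset D d ∩ nset D c))) 6 1 c₃) :
    ∃ s : ℕ → G, (∀ i < 7, s i ∈ nset D d ∩ nset D c) ∧ (∀ i < 7, ∀ j < 7, s i = s j → i = j) ∧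
      (∀ i < 7, ∀ j < 7, Commute (s i) (s j) ↔ herm (Pts.gv (gpt i)) (Pts.gv (gpt j)) = 0) ∧
      ((∀ x ∈ nset D d ∩ nset D c, ∃ i < 6, ¬ Commute (s i) x) → (nset D d ∩ nset D c).ncard = 126) := by
  set Ts := nset D d ∩ nset D c with hTs
  set L := Subgroup.closure Ts
  obtain ⟨φ⟩ := Refl.equiv_K hc₃ hL
  let ψ : L →* Refl.K := φ.toMonoidHom.comp (QuotientGroup.mk' (Subgroup.center L))
  have hψs : Function.Surjective ψ := φ.surjective.comp (QuotientGroup.mk'_surjective _)
  have hker : ∀ h : L, ψ h = 1 → h ∈ Subgroup.center L := fun h hh => by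
    have : φ (QuotientGroup.mk' (Subgroup.center L) h) = φ 1 := by rw [map_one]; exact hh
    exact (QuotientGroup.eq_one_iff h).mp (φ.injective this)
  let el : ↥Ts → L := fun x => ⟨x, Subgroup.subset_closure x.2⟩
  have hsq : ∀ x : ↥Ts, el x * el x = 1 := fun x =>
    Subtype.ext (Spor.mul_self_of_order_two (hD.1.1 _ x.2.1.1))
  have hbr : ∀ x y : ↥Ts, Commute (el x) (el y) ∨ el x * el y * el x = el y * el x * el y := by
    intro x y
    rcases Spor.commute_or_braid hD.1 x.2.1.1 y.2.1.1 with h | h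
    · exact Or.inl (Subtype.ext h.eq)
    · exact Or.inr (Subtype.ext h)
  have hclosed : ∀ g : L, ∀ x : ↥Ts, (g : G) * x * (g : G)⁻¹ ∈ Ts := by
    intro g x
    have hcd : ∀ e : G, (∀ y ∈ Ts, Commute e y) → (g : G) * e * (g : G)⁻¹ = e := by
      intro e he
      have : L ≤ Subgroup.centralizer ({e} : Set G) := by
        rw [Subgroup.closure_le]
        exact fun y hy => Subgroup.mem_centralizer_singleton_iff.mpr (he y hy).symm.eq
      exact mul_inv_eq_iff_eq_mul.mpr (Subgroup.mem_centralizer_singleton_iff.mp (this g.2))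
    have h1 := hcd d fun y hy => hy.1.2.2
    have h2 := hcd c fun y hy => hy.2.2.2
    refine ⟨⟨hD.2.1 _ _ x.2.1.1, fun h => x.2.1.2.1 (mul_left_cancel (mul_right_cancel (h.trans h1.symm))), ?_⟩,
      ⟨hD.2.1 _ _ x.2.2.1, fun h => x.2.2.2.1 (mul_left_cancel (mul_right_cancel (h.trans h2.symm))), ?_⟩⟩
    · rw [← h1]; exact Spor.commute_conj_iff.mpr x.2.1.2.2
    · rw [← h2]; exact Spor.commute_conj_iff.mpr x.2.2.2.2
  set E : Set Refl.K := {e | ∃ x : ↥Ts, ψ (el x) = e ∧ e ≠ 1}
  have hEne : E.Nonempty := by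
    by_contra hno
    have hall : ∀ x : ↥Ts, ψ (el x) = 1 := fun x => by
      by_contra hx; exact hno ⟨_, x, rfl, hx⟩
    have htriv : ∀ h : L, ψ h = 1 := by
      rintro ⟨h, hh⟩
      induction hh using Subgroup.closure_induction with
      | mem u hu => exact hall ⟨u, hu⟩
      | one => exact map_one ψ
      | mul u v hu hv iu iv =>
        rw [show (⟨u * v, mul_mem hu hv⟩ : L) = ⟨u, hu⟩ * ⟨v, hv⟩ from rfl, map_mul, iu, iv, one_mul]
      | inv u hu iu => rw [show (⟨u⁻¹, inv_mem hu⟩ : L) = (⟨u, hu⟩ : L)⁻¹ from rfl, map_inv, iu, inv_one]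
    have : Subsingleton Refl.K := ⟨fun p q => by
      obtain ⟨p, rfl⟩ := hψs p
      obtain ⟨q, rfl⟩ := hψs q
      rw [htriv, htriv]⟩
    have h1 := Nat.card_of_subsingleton (1 : Refl.K)
    rw [Refl.card_K] at h1
    exact absurd h1 (by norm_num)
  have hEconj : ∀ g : Refl.K, ∀ e ∈ E, g * e * g⁻¹ ∈ E := by
    rintro g _ ⟨x, rfl, hne⟩
    obtain ⟨h, rfl⟩ := hψs g
    refine ⟨⟨_, hclosed h x⟩, ?_, fun h1 => hne ?_⟩
    · rw [← map_inv, ← map_mul, ← map_mul]; exact congrArg ψ (Subtype.ext rfl)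
    · rw [mul_inv_eq_one] at h1
      exact mul_left_cancel (h1.trans (mul_one _).symm)
  have hord : ∀ e ∈ E, orderOf e = 2 := by
    rintro _ ⟨x, rfl, hne⟩
    exact orderOf_eq_prime (by rw [pow_two, ← map_mul, hsq, map_one]) hne
  have hpair : ∀ p ∈ E, ∀ q ∈ E, (p * q) ^ 2 = 1 ∨ (p * q) ^ 3 = 1 := by
    rintro _ ⟨x, rfl, -⟩ _ ⟨y, rfl, -⟩
    rcases hD.1.2 _ x.2.1.1 _ y.2.1.1 with h | h
    · left; rw [← map_mul, ← map_pow, show (el x * el y) ^ 2 = 1 from Subtype.ext h, map_one]
    · right; rw [← map_mul, ← map_pow, show (el x * el y) ^ 3 = 1 from Subtype.ext h, map_one]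
  have hclass := Refl.class_eq hEne hEconj hord hpair
  have hlift : ∀ a : Fin 126, ∃ x : ↥Ts, ψ (el x) = Refl.kr a := fun a => by
    have : Refl.kr a ∈ E := by rw [hclass]; exact ⟨a, rfl⟩
    obtain ⟨x, hx, -⟩ := this
    exact ⟨x, hx⟩
  choose X hX using hlift
  have hback : ∀ x y : ↥Ts, Commute (el x) (el y) ↔ Commute (ψ (el x)) (ψ (el y)) := fun x y =>
    ⟨fun h => h.map ψ, commute_lift hker (hsq x) (hsq y) (hbr x y)⟩
  have hval : ∀ x y : ↥Ts, Commute (x : G) (y : G) ↔ Commute (el x) (el y) := fun x y =>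
    ⟨fun h => Subtype.ext h.eq, fun h => congrArg Subtype.val h.eq⟩
  refine ⟨fun i => if h : rt i < 126 then (X ⟨rt i, h⟩ : G) else 1, fun i hi => ?_, fun i hi j hj h => ?_,
    fun i hi j hj => ?_, fun hmove => ?_⟩
  · simp only [dif_pos (rt_lt i hi)]; exact (X _).2
  · simp only [dif_pos (rt_lt i hi), dif_pos (rt_lt j hj)] at h
    refine rt_inj i hi j hj (Refl.kr_inj (rt_lt i hi) (rt_lt j hj) ?_)
    have e : X ⟨rt i, rt_lt i hi⟩ = X ⟨rt j, rt_lt j hj⟩ := Subtype.ext h
    have h1 := hX ⟨rt i, rt_lt i hi⟩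
    rw [e] at h1
    have h2 := hX ⟨rt j, rt_lt j hj⟩
    rw [h1] at h2
    exact h2
  · simp only [dif_pos (rt_lt i hi), dif_pos (rt_lt j hj)]
    rw [hval, hback, hX, hX]; exact root_pattern hi hj
  · have hne : ∀ x : ↥Ts, ψ (el x) ≠ 1 := by
      intro x h1
      obtain ⟨i, hi, hn⟩ := hmove x x.2
      apply hn
      simp only [dif_pos (rt_lt i (by omega))]
      rw [hval, hback, h1]
      exact Commute.one_right _
    have himg : ∀ x : ↥Ts, ∃ a : Fin 126, ψ (el x) = Refl.kr a := fun x => by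
      have : ψ (el x) ∈ E := ⟨x, rfl, hne x⟩
      rw [hclass] at this
      obtain ⟨a, ha⟩ := this
      exact ⟨a, ha.symm⟩
    choose f hf using himg
    have hfX : ∀ a, f (X a) = a := fun a => Fin.ext (Refl.kr_inj (f (X a)).2 a.2 ((hf _).symm.trans (hX a)))
    have hinj : Function.Injective f := by
      intro x y hxy
      have e : ψ (el x) = ψ (el y) := by rw [hf, hf, hxy]
      have hab : Commute (el x) (el y) := (hback x y).mpr (e ▸ Commute.refl _)
      obtain ⟨b, hb, hn⟩ := root_mover (f x).2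
      set w := X ⟨b, hb⟩
      have hxw : ¬ Commute (el x) (el w) := fun h => hn (by
        have := h.map ψ; rw [hf, hX] at this; exact this)
      have hyw : ¬ Commute (el y) (el w) := fun h => hn (by
        have := h.map ψ; rw [hf, hX, ← hxy] at this; exact this)
      have h := inj_lift hker (hsq x) (hsq y) (hsq w) hab e ((hbr x w).resolve_left hxw)
        ((hbr y w).resolve_left hyw)
      exact Subtype.ext (congrArg Subtype.val h :)
    rw [← Nat.card_coe_set_eq, Nat.card_congr (Equiv.ofBijective f ⟨hinj, fun a => ⟨X a, hfX a⟩⟩), Nat.card_fin]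

theorem exists_frame (hD : Cfsg.IsThreeTranspositionGroup D) (hprim : Cfsg.IsPrimitiveUnderConj D)
    (ht : Cfsg.IsOfTypeM22 G D) : Nonempty (Frame D) := by
  obtain ⟨-, d, hd, c, hc, hnc, hH, c₃, hc₃, hL⟩ := ht
  obtain ⟨C⟩ := coord_of hD hprim hd hc hnc hH
  obtain ⟨s, hs, hsinj, hspat, hscount⟩ := roots hD hc₃ hL
  set Ts := nset D d ∩ nset D c
  let el : ∀ i, i < 7 → ↥(nset D d) := fun i hi => ⟨s i, (hs i hi).1⟩
  let p : ℕ → ℕ := fun i => if h : i < 7 then (C.e (el i h) : ℕ) else 0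
  have hp : ∀ i (hi : i < 7), p i = C.e (el i hi) := fun i hi => dif_pos hi
  have hppat : ∀ k < 6, ∀ l < 6, herm (Pts.gv (p k)) (Pts.gv (p l)) = 0 ↔ ¬(k + 1 = l ∨ l + 1 = k) := by
    intro k hk l hl
    rw [hp k (by omega), hp l (by omega), ← C.comm]
    show Commute (s k) (s l) ↔ _
    rw [hspat k (by omega) l (by omega), ← decide_eq_true_iff (p := herm _ _ = 0), Sym.path_ok k hk l hl]
    simp
  obtain ⟨S, hS, hsep⟩ := Sym.exists_simi p (fun k hk => by
    rw [hp k (by omega)]; exact (C.e _).2) hppat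
  have hcount : Ts.ncard = 126 := hscount fun x hx => by
    obtain ⟨k, hk, hne⟩ := hsep (C.e ⟨x, hx.1⟩) (C.e _).2
    refine ⟨k, hk, fun h => hne ?_⟩
    rw [hp k (by omega)]
    exact (C.comm _ _).mp h
  -- coordinates carrying the six members onto the six points
  set C1 := C.move S
  have hC1 : ∀ k (hk : k < 6), (C1.e (el k (by omega)) : ℕ) = gpt k := fun k hk => by
    have := hS k hk; rw [hp k (by omega)] at this; exact this
  obtain ⟨C2, hC2⟩ : ∃ C2 : Coord D d, ∀ k (hk : k < 7), (C2.e (el k hk) : ℕ) = gpt k := by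
    set x := (C1.e (el 6 (by norm_num)) : ℕ)
    have hx : ∀ k < 6, herm (Pts.gv (gpt k)) (Pts.gv x) = 0 ↔ herm (Pts.gv (gpt k)) (Pts.gv (gpt 6)) = 0 := by
      intro k hk
      rw [← hC1 k hk, ← C1.comm, hC1 k hk]
      exact hspat k (by omega) 6 (by norm_num)
    rcases Sym.seventh (C1.e _).2 hx with h | h | h
    · exfalso
      have e : C1.e (el 6 (by norm_num)) = C1.e (el 1 (by norm_num)) :=
        Fin.ext (h.trans (hC1 1 (by norm_num)).symm)
      have := hsinj 6 (by norm_num) 1 (by norm_num) (congrArg Subtype.val (C1.e.injective e))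
      omega
    · refine ⟨C1, fun k hk => ?_⟩
      by_cases hk6 : k < 6
      · exact hC1 k hk6
      · obtain rfl : k = 6 := by omega
        exact h
    · refine ⟨C1.move Sym.conjMap, fun k hk => ?_⟩
      show Sym.conjMap.P (C1.e (el k hk)) = gpt k
      by_cases hk6 : k < 6
      · rw [hC1 k hk6]; exact Sym.conj_ok.1 k hk6
      · obtain rfl : k = 6 := by omega
        rw [show (C1.e (el 6 hk) : ℕ) = Dat.xAlt from h]; exact Sym.conj_ok.2
  -- the standard subset
  have hsub : ∀ x (hx : x < 693), inT0 x = true → Commute c (C2.e.symm ⟨x, hx⟩ : G) := by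
    have hword : ∀ w : List ℕ, below 7 w = true → ∀ j (hj : j < 7),
        ∃ h : pev w (gpt j) < 693, Commute c (C2.e.symm ⟨_, h⟩ : G) := by
      intro w
      induction w with
      | nil =>
        intro _ j hj
        refine ⟨gpt_lt (by omega), ?_⟩
        rw [show (⟨pev [] (gpt j), gpt_lt (by omega)⟩ : Fin 693) = C2.e (el j hj) from Fin.ext (hC2 j hj).symm,
          Equiv.symm_apply_apply]
        exact (hs j hj).2.2.2
      | cons i w ih =>
        intro hw j hj
        rw [below_iff] at hw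
        obtain ⟨hlt, hcm⟩ := ih (below_iff.mpr fun z hz => hw z (by simp [hz])) j hj
        have hi : i < 7 := hw i (by simp)
        set y := C2.e.symm ⟨_, hlt⟩
        have hz : s i * y * (s i)⁻¹ ∈ nset D d := by
          have hsd : s i * d * (s i)⁻¹ = d := mul_inv_eq_iff_eq_mul.mpr (hs i hi).1.2.2.symm.eq
          refine ⟨hD.2.1 _ _ y.2.1, fun h => y.2.2.1 (mul_left_cancel (mul_right_cancel (h.trans hsd.symm))), ?_⟩
          have h' : Commute (s i * d * (s i)⁻¹) (s i * y * (s i)⁻¹) := Spor.commute_conj_iff.mpr y.2.2.2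
          rwa [hsd] at h'
        have e := C2.conj (el i hi) y ⟨_, hz⟩ rfl
        rw [hC2 i hi, show (C2.e y : ℕ) = pev w (gpt j) by
          rw [show C2.e y = ⟨_, hlt⟩ from C2.e.apply_symm_apply _], Sym.gen_timg (by omega) hlt] at e
        have hlt' : pev (i :: w) (gpt j) < 693 := (pim_spec (by omega) hlt).1
        refine ⟨hlt', ?_⟩
        rw [show (⟨_, hlt'⟩ : Fin 693) = C2.e ⟨_, hz⟩ from Fin.ext e.symm, Equiv.symm_apply_apply]
        exact ((hs i hi).2.2.2.mul_right hcm).mul_right (hs i hi).2.2.2.inv_right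
    intro x hx hT
    obtain ⟨h1, h2, h3⟩ := tw_word hx hT
    obtain ⟨h4, h5⟩ := hword _ h2 _ h1
    rw [show (⟨x, hx⟩ : Fin 693) = ⟨_, h4⟩ from Fin.ext h3.symm]
    exact h5
  have hT : ∀ y : ↥(nset D d), Commute c (y : G) ↔ inT0 (C2.e y) = true := by
    classical
    set A : Finset (Fin 693) := Finset.univ.filter fun i => inT0 i = true
    set B : Finset (Fin 693) := Finset.univ.filter fun i => Commute c (C2.e.symm i : G)
    have hAB : A ⊆ B := fun i hi => Finset.mem_filter.mpr ⟨Finset.mem_univ _,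
      hsub i i.2 (Finset.mem_filter.mp hi).2⟩
    have hcA : A.card = 126 := by
      rw [← count_T0]
      refine Finset.card_bij (fun i _ => (i : ℕ)) (fun i hi => ?_) (fun i _ k _ h => Fin.ext h) (fun x hx => ?_)
      · exact Finset.mem_filter.mpr ⟨Finset.mem_range.mpr i.2, (Finset.mem_filter.mp hi).2⟩
      · obtain ⟨hx1, hx2⟩ := Finset.mem_filter.mp hx
        exact ⟨⟨x, Finset.mem_range.mp hx1⟩, Finset.mem_filter.mpr ⟨Finset.mem_univ _, hx2⟩, rfl⟩
    have hcB : B.card = 126 := by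
      rw [← hcount, ← Nat.card_coe_set_eq, ← Nat.card_eq_finsetCard]
      refine (Nat.card_congr (Equiv.ofBijective
        (fun x : ↥Ts => (⟨C2.e ⟨x, x.2.1⟩, Finset.mem_filter.mpr ⟨Finset.mem_univ _, by
          rw [Equiv.symm_apply_apply]; exact x.2.2.2.2⟩⟩ : ↥B)) ⟨fun x y h => ?_, fun i => ?_⟩)).symm
      · exact Subtype.ext (congrArg Subtype.val (C2.e.injective (congrArg Subtype.val h)) :)
      · have hcy := (Finset.mem_filter.mp i.2).2
        set y := C2.e.symm i.1
        refine ⟨⟨y, y.2, y.2.1, fun h => hnc (h ▸ y.2.2.2), hcy⟩, Subtype.ext ?_⟩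
        exact C2.e.apply_symm_apply _
    have heq := Finset.eq_of_subset_of_card_le hAB (by rw [hcA, hcB])
    intro y
    have := Finset.ext_iff.mp heq (C2.e y)
    simp only [A, B, Finset.mem_filter, Finset.mem_univ, true_and, Equiv.symm_apply_apply] at this
    exact this.symm
  exact ⟨
    { three := hD
      trans := hprim.1
      conn := Spor.connected_of_primitive hD hprim
        ⟨d, hd, s 0, (hs 0 (by norm_num)).1.1, (hs 0 (by norm_num)).1.2.1.symm, (hs 0 (by norm_num)).1.2.2⟩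
      a := d
      b := c
      ha := hd
      hb := hc
      nab := hnc
      pi := C2.e
      pi_gen := fun j hj x y z hx hz => by
        rw [C2.conj x y z hz, hx]; exact Sym.gen_timg hj (C2.e y).2
      pi_T := hT }⟩

open Cfsg.Agent.Spor.Fi22Cert Cfsg.Agent.Spor.Fi22Cert.U62Act in
theorem iso_fi22 (hD : Cfsg.IsThreeTranspositionGroup D) (hprim : Cfsg.IsPrimitiveUnderConj D)
    (ht : Cfsg.IsOfTypeM22 G D) :
    ∃ e : pres.Grp ≃* G, e '' Fischer.Dc = D := by
  obtain ⟨F⟩ := exists_frame hD hprim ht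
  haveI := order.1
  exact exists_equiv_of_frames Fischer.frame F Fischer.center_bot ht.1

end Cfsg.Agent.Spor.M22U.Norm
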