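import Cfsg.Agent.Lib.Spor.M22UCentChecks

/-!
The centralisers of an element of order thirteen and of one of order eleven in the presented Fi22.
-/

set_option autoImplicit false
set_option maxRecDepth 100000
set_option linter.unusedSectionVars false

namespace Cfsg.Agent.Spor.M22U.Cent

open Cfsg.Agent.Spor.CC Cfsg.Agent.Spor.Fi22Cert Cfsg.Agent.Spor.Fi22Cert.U62Act CDat

theorem pts_ok (p : ℕ) (hp : p < 3510) : ptOK p = true := by
  by_cases h : p < 1755
  · exact all_range (p := ptOK) pts_a (Nat.zero_le _) (by omega)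
  · exact all_range (p := ptOK) pts_b (by omega) (by omega)

theorem scan_all {f : ℕ → Bool} (h : rangeOK f 0 3510 = true) (p : ℕ) (hp : p < 3510) : f p = true :=
  all_range (p := f) h (Nat.zero_le _) (by omega)

/-- the element of order thirteen -/
noncomputable def e13el : pres.Grp := el x13
/-- the element of order eleven -/
noncomputable def e11el : pres.Grp := el x11

theorem pow_zero_el {n : ℕ} {w : List ℕ} (h : powW n w ∈ [powW 13 x13, powW 11 x11]) : el w ^ n = 1 := by
  haveI := order.1
  rw [el, ← prod_powW]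
  refine eq_one_of_fix rep.valid pres.gen rep.hom rep.hom_gen RepU62.chain_ok
    (by rw [order.2.1, RepU62.chain_size]) (fun x hx => lettersOK_spec orders.2 h hx) ?_
  have := orders.1
  simp only [fixOK, List.all_cons, List.all_nil, Bool.and_true, Bool.and_eq_true] at this ⊢
  simp only [List.mem_cons, List.not_mem_nil, or_false] at h
  rcases h with h | h <;> rw [h]
  · exact this.1
  · exact this.2

theorem order13 : orderOf e13el = 13 := by
  haveI : Fact (Nat.Prime 13) := ⟨by norm_num⟩
  refine orderOf_eq_prime (pow_zero_el (by simp)) fun h => base13.2.2.2.2.2 ?_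
  rw [← act_el base13.1 base13.2.1, show el x13 = 1 from h, act_one base13.2.1]

theorem order11 : orderOf e11el = 11 := by
  haveI : Fact (Nat.Prime 11) := ⟨by norm_num⟩
  refine orderOf_eq_prime (pow_zero_el (by simp)) fun h => base11.2.2.2.2.2.2.1 ?_
  rw [← act_el base11.1 base11.2.1, show el x11 = 1 from h, act_one base11.2.1]

theorem inv_act {w : List ℕ} (hw : ∀ x ∈ w, x < 9) {p r j : ℕ} (hr : r < 3510) (h : xp w j r = p) :
    act (el w ^ j)⁻¹ p = r := by
  rw [← h, (xp_act hw hr j).1, ← act_mul _ _ hr, inv_mul_cancel, act_one hr]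

theorem cent13 {g : pres.Grp} (hg : Commute g e13el) : g ∈ Subgroup.zpowers e13el := by
  obtain ⟨hw, hc, he, hr0, hrlt, -⟩ := base13
  have h1 := scan_all scan13 _ (act_lt g hc)
  simp only [look13OK, samePat_act pts_ok hw hg hc, Bool.not_true, Bool.false_or, List.any_eq_true] at h1
  obtain ⟨⟨p, k, j⟩, hmem, hp⟩ := h1
  have hlk := List.all_eq_true.mp look13_ok _ hmem
  simp only [Bool.and_eq_true] at hlk
  have hk : k < 3 := Nat.le_of_ble_eq_true hlk.2
  have hp' : xp x13 j (reps13.getD k 0) = act g c13 :=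
    (Nat.eq_of_beq_eq_true hlk.1).trans (Nat.eq_of_beq_eq_true hp)
  set g' := (e13el ^ j)⁻¹ * g
  have hg' : Commute g' e13el := ((Commute.refl e13el).pow_left j).inv_left.mul_left hg
  have hgc : act g' c13 = reps13.getD k 0 := by
    rw [act_mul _ _ hc]; exact inv_act hw (hrlt k hk) hp'
  have hk0 : k = 0 := by
    by_contra hk0
    have hk' : k ∈ [1, 2] := by simp only [List.mem_cons, List.not_mem_nil, or_false]; omega
    have h2 := scan_all scan13' _ (act_lt g' he)
    simp only [secondOK, samePat_act pts_ok hw hg' he, Bool.not_true, Bool.false_or, List.any_eq_true] at h2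
    obtain ⟨q, hq, hq'⟩ := h2
    have h3 := List.all_eq_true.mp (List.all_eq_true.mp reject13 k hk') q hq
    rw [Nat.eq_of_beq_eq_true hq', sigDiff, Bool.not_eq_true', List.all_eq_false] at h3
    obtain ⟨i, -, hi⟩ := h3
    apply hi
    rw [beq_iff_eq, ← hgc, ← act_comm hw hg' hc, adjb_act pts_ok g' he (xp_act hw hc i).2]
  rw [hk0, hr0] at hgc
  have h4 := fix_trivial pts_ok hw hc (fun p hp => scan_all gen13 p hp) hg' hgc
  rw [inv_mul_eq_one] at h4
  rw [← h4]
  exact Subgroup.npow_mem_zpowers _ _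

/-- the member fixed by the element of order eleven -/
noncomputable def d11 : pres.Grp := (dp f11 : pres.Grp)

theorem fix11_iff {p : ℕ} (hp : p < 3510) : ev RepU62.rows 9 x11 p = p ↔ p = f11 := by
  refine ⟨fun h => ?_, fun h => h ▸ base11.2.2.2.2.2.1⟩
  have h1 := scan_all fix11 p hp
  simp only [fix11OK, h, Nat.beq_refl, Bool.not_true, Bool.false_or] at h1
  exact Nat.eq_of_beq_eq_true h1

theorem unique11 {d : Fischer.Dc} (h : Commute (d : pres.Grp) e11el) : (d : pres.Grp) = d11 := by
  obtain ⟨hw, -, hf, -⟩ := base11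
  set p := (Fischer.theta d : ℕ)
  have hp : p < 3510 := (Fischer.theta d).2
  have hd : d = dp p := dp_surj pts_ok d
  have h1 := act_dp pts_ok e11el hp
  rw [← hd, h.symm.eq, mul_inv_cancel_right] at h1
  have h2 : dp (act e11el p) = dp p := Subtype.ext (h1.trans (congrArg Subtype.val hd))
  have h3 := congrArg (fun z : Fischer.Dc => (Fischer.theta z : ℕ)) h2
  simp only [theta_dp pts_ok (act_lt _ hp), theta_dp pts_ok hp] at h3
  rw [e11el, act_el hw hp, fix11_iff hp] at h3
  rw [hd, h3]; rfl

theorem d11_comm : Commute d11 e11el := by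
  obtain ⟨hw, -, hf, -, -, hfx, -⟩ := base11
  have h1 := act_dp pts_ok e11el hf
  rw [show act e11el f11 = f11 by rw [e11el, act_el hw hf]; exact hfx] at h1
  exact (eq_mul_inv_iff_mul_eq.mp h1 : (d11 : pres.Grp) * e11el = e11el * d11)

theorem cent11 {g : pres.Grp} (hg : Commute g e11el) :
    ∃ (j : ℕ) (h : pres.Grp), (h = 1 ∨ h = d11) ∧ g = e11el ^ j * h := by
  obtain ⟨hw, hc, hf, hr0, hr1, hfx, -, hne⟩ := base11
  have hgf : act g f11 = f11 := by
    rw [← fix11_iff (act_lt g hf)]
    have := act_comm hw hg hf 1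
    rw [show xp x11 1 f11 = f11 from hfx] at this
    exact this.symm
  have hgcne : act g c11 ≠ f11 := fun h => hne (by
    rw [← act_one hc, ← inv_mul_cancel g, act_mul _ _ hc, h]
    conv_lhs => rw [← hgf]
    rw [← act_mul _ _ hf, inv_mul_cancel, act_one hf])
  have h1 := scan_all scan11 _ (act_lt g hc)
  have h0 : adjb f11 (act g c11) = adjb f11 c11 := by
    conv_lhs => rw [← hgf]
    exact adjb_act pts_ok g hf hc
  simp only [look11OK, h0, samePat_act pts_ok hw hg hc, Bool.not_true, beq_self_eq_true, Bool.or_false,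
    Bool.or_eq_true, List.any_eq_true] at h1
  rcases h1 with h1 | ⟨⟨p, k, j⟩, hmem, hp⟩
  · exact absurd (Nat.eq_of_beq_eq_true h1) hgcne
  have hlk := List.all_eq_true.mp look11_ok _ hmem
  simp only [Bool.and_eq_true] at hlk
  have hk : k < 2 := Nat.le_of_ble_eq_true hlk.2
  have hp' : xp x11 j (reps11.getD k 0) = act g c11 :=
    (Nat.eq_of_beq_eq_true hlk.1).trans (Nat.eq_of_beq_eq_true hp)
  set g' := (e11el ^ j)⁻¹ * g
  have hg' : Commute g' e11el := ((Commute.refl e11el).pow_left j).inv_left.mul_left hg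
  have hd : act d11 c11 = reps11.getD 1 0 := by
    rw [hr1, d11, act_def _ (show c11 < rep.P.n from hc), show (dp f11 : pres.Grp) =
      (Fischer.mem (pwP f11) : pres.Grp) from rfl, Fischer.mem_act (pw_lt pts_ok hf)]
  have hdlt : reps11.getD 1 0 < 3510 := hd ▸ act_lt _ hc
  have hgc : act g' c11 = reps11.getD k 0 := by
    rw [act_mul _ _ hc]
    refine inv_act hw ?_ hp'
    interval_cases k
    · rw [hr0]; exact hc
    · exact hdlt
  interval_cases k
  · rw [hr0] at hgc
    have h4 := fix_trivial pts_ok hw hc (fun p hp => scan_all gen11 p hp) hg' hgc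
    rw [inv_mul_eq_one] at h4
    exact ⟨j, 1, Or.inl rfl, by rw [mul_one, h4]⟩
  · have h5 : act (d11⁻¹ * g') c11 = c11 := by
      rw [act_mul _ _ hc, hgc, ← hd, ← act_mul _ _ hc, inv_mul_cancel, act_one hc]
    have h4 := fix_trivial pts_ok hw hc (fun p hp => scan_all gen11 p hp) (d11_comm.inv_left.mul_left hg') h5
    rw [inv_mul_eq_one] at h4
    refine ⟨j, d11, Or.inr rfl, ?_⟩
    rw [h4]; show g = e11el ^ j * ((e11el ^ j)⁻¹ * g); group

end Cfsg.Agent.Spor.M22U.Cent
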