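/-
Words in the standard generators of Co0 sending the standard cross to each type of cross, with traces.
-/
import Mathlib

set_option autoImplicit false

namespace Cfsg.Agent.Spor

/-- one step of a word -/
inductive LOp
  | xiO
  | sgO (m : ℕ)
  | plO (l : List ℕ)

/-- for the types 1, …, 6: a position, a word and the trace of eight times its unit vector -/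
def crossWords : List (ℕ × List LOp × List (List ℤ)) := [
  (0, [.sgO 4277183, .xiO],
    [[-4, 4, 4, 4, 0, 0, 0, 0, 0, 0, 0, 0, 0, 0, 0, 0, 0, 0, 0, 0, 0, 0, 0, 0],
     [4, -4, -4, -4, 0, 0, 0, 0, 0, 0, 0, 0, 0, 0, 0, 0, 0, 0, 0, 0, 0, 0, 0, 0],
     [8, 0, 0, 0, 0, 0, 0, 0, 0, 0, 0, 0, 0, 0, 0, 0, 0, 0, 0, 0, 0, 0, 0, 0]]),
  (0, [.sgO 89455, .xiO, .plO [22, 0, 1, 2, 3, 4, 5, 6, 7, 8, 9, 10, 11, 12, 13, 14, 15, 16, 17, 18, 19, 20, 21, 23], .sgO 9872493, .xiO, .plO [1, 2, 3, 4, 5, 6, 7, 8, 9, 10, 11, 12, 13, 14, 15, 16, 17, 18, 19, 20, 21, 22, 0, 23]],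
    [[2, -2, -2, -2, 2, 0, 0, 6, 0, 0, 2, 0, 2, 0, 0, 0, 0, 0, 0, 0, 0, 0, 0, 0],
     [-2, 2, 2, 2, 2, 0, 0, 6, 0, 0, -2, 0, -2, 0, 0, 0, 0, 0, 0, 0, 0, 0, 0, 0],
     [-4, 0, 0, 0, 0, 0, 0, -4, 0, 0, 4, 0, 4, 0, 0, 0, 0, 0, 0, 0, 0, 0, 0, 0],
     [0, 0, 0, 0, 0, 0, -4, 0, 0, 4, 0, 4, 0, 0, 0, 0, 0, 0, 0, 0, 0, 0, -4, 0],
     [0, 0, 0, 0, 0, 0, 4, 0, 0, 4, 0, 4, 0, 0, 0, 0, 0, 0, 0, 0, 0, 0, -4, 0],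
     [0, 0, 0, 0, 0, 0, 0, 0, 0, 0, 0, 0, 0, 0, 0, 0, 0, 0, 0, 0, 0, 0, 8, 0],
     [8, 0, 0, 0, 0, 0, 0, 0, 0, 0, 0, 0, 0, 0, 0, 0, 0, 0, 0, 0, 0, 0, 0, 0]]),
  (0, [.sgO 10522331, .xiO, .plO [1, 2, 3, 4, 5, 6, 7, 8, 9, 10, 11, 12, 13, 14, 15, 16, 17, 18, 19, 20, 21, 22, 0, 23], .sgO 4644513, .xiO, .sgO 7759386, .xiO, .plO [1, 2, 3, 4, 5, 6, 7, 8, 9, 10, 11, 12, 13, 14, 15, 16, 17, 18, 19, 20, 21, 22, 0, 23], .sgO 1550091, .xiO],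
    [[-4, 0, 0, -4, 0, 0, -2, 0, -2, -2, 0, -2, 0, 0, 0, -2, 2, 0, 0, 2, 0, 0, -2, 0],
     [4, 0, 0, 4, 0, 0, 2, 0, -2, 2, 0, 2, 0, 0, 0, 2, 2, 0, 0, 2, 0, 0, -2, 0],
     [0, -4, -4, 0, 0, 0, 0, 0, 4, 0, 0, 0, 0, 0, 0, 0, 0, 0, 0, 0, 0, 0, 4, 0],
     [4, 0, -4, -4, 0, 0, 0, 0, 0, 4, 0, 0, 0, 0, 0, 0, 0, 0, 0, 0, 0, 0, 0, 0],
     [-4, 0, -4, -4, 0, 0, 0, 0, 0, -4, 0, 0, 0, 0, 0, 0, 0, 0, 0, 0, 0, 0, 0, 0],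
     [2, 6, 2, 2, 0, 0, -2, 0, 0, 2, 0, -2, 0, 0, 0, 0, 0, 0, 0, 0, 0, 0, -2, 0],
     [2, -6, 2, -2, 0, 0, -2, 0, 0, -2, 0, -2, 0, 0, 0, 0, 0, 0, 0, 0, 0, 0, 2, 0],
     [4, -4, 4, 0, 0, 0, 0, 0, 0, 0, 0, 0, 0, 0, 0, 0, 0, 0, 0, 0, 0, 0, -4, 0],
     [-4, 4, -4, 4, 0, 0, 0, 0, 0, 0, 0, 0, 0, 0, 0, 0, 0, 0, 0, 0, 0, 0, 0, 0],
     [4, -4, -4, -4, 0, 0, 0, 0, 0, 0, 0, 0, 0, 0, 0, 0, 0, 0, 0, 0, 0, 0, 0, 0],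
     [8, 0, 0, 0, 0, 0, 0, 0, 0, 0, 0, 0, 0, 0, 0, 0, 0, 0, 0, 0, 0, 0, 0, 0]]),
  (0, [.sgO 15425791, .xiO, .plO [22, 0, 1, 2, 3, 4, 5, 6, 7, 8, 9, 10, 11, 12, 13, 14, 15, 16, 17, 18, 19, 20, 21, 23], .sgO 7588892, .xiO, .plO [22, 0, 1, 2, 3, 4, 5, 6, 7, 8, 9, 10, 11, 12, 13, 14, 15, 16, 17, 18, 19, 20, 21, 23], .sgO 10748656, .xiO, .plO [22, 0, 1, 2, 3, 4, 5, 6, 7, 8, 9, 10, 11, 12, 13, 14, 15, 16, 17, 18, 19, 20, 21, 23], .sgO 1023684, .xiO, .plO [22, 0, 1, 2, 3, 4, 5, 6, 7, 8, 9, 10, 11, 12, 13, 14, 15, 16, 17, 18, 19, 20, 21, 23], .sgO 2073809, .xiO, .plO [1, 2, 3, 4, 5, 6, 7, 8, 9, 10, 11, 12, 13, 14, 15, 16, 17, 18, 19, 20, 21, 22, 0, 23]],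
    [[2, 0, 0, -4, 0, 2, -2, 2, 2, 0, 0, -2, 0, 2, 0, 0, 2, 0, -2, -2, -2, 0, 2, 0],
     [-2, 0, 0, 4, 0, -2, 2, -2, 2, 0, 0, -2, 0, -2, 0, 0, -2, 0, -2, 2, -2, 0, -2, 0],
     [-3, -1, -1, 3, -1, 1, -3, 1, -1, -1, -1, 1, -1, -1, -1, 1, 3, -1, -1, -1, -1, -3, 1, -1],
     [-1, -1, 3, -1, 1, -3, 1, -1, -1, -1, 1, -1, -1, -1, 1, 3, -1, -1, -1, -1, -3, 1, -3, -1],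
     [-1, -1, -3, 1, -1, -3, 1, -1, -1, -1, -1, 1, -1, -1, -1, -3, 1, 1, -1, -1, 3, -1, 3, -1],
     [1, 1, -1, 3, -1, 1, 1, -1, -1, 3, -1, 1, -1, 1, -1, 1, -3, -3, 1, -1, -3, 1, -1, -1],
     [1, -1, 3, -1, 1, 1, -1, -1, 3, -1, 1, -1, 1, -1, 1, -3, -3, 1, -1, -3, 1, -1, 1, -1],
     [1, -1, 3, -1, -1, -1, 1, 1, 3, 1, 1, -1, 1, -1, 1, -3, -3, 1, 1, -3, 1, 1, 1, 1],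
     [0, -2, 2, -2, 2, 2, 0, 0, -6, 0, 0, 2, 0, 2, 0, 0, 0, 0, 0, 0, 0, 0, 0, 0],
     [-2, 2, -2, 2, 2, 0, 0, -6, 0, 0, 2, 0, 2, 0, 0, 0, 0, 0, 0, 0, 0, 0, 0, 0],
     [-2, 2, 2, 2, 2, 0, 0, 6, 0, 0, -2, 0, -2, 0, 0, 0, 0, 0, 0, 0, 0, 0, 0, 0],
     [-4, 0, 0, 0, 0, 0, 0, -4, 0, 0, 4, 0, 4, 0, 0, 0, 0, 0, 0, 0, 0, 0, 0, 0],
     [0, 0, 0, 0, 0, 0, -4, 0, 0, 4, 0, 4, 0, 0, 0, 0, 0, 0, 0, 0, 0, 0, -4, 0],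
     [0, 0, 0, 0, 0, 0, 4, 0, 0, 4, 0, 4, 0, 0, 0, 0, 0, 0, 0, 0, 0, 0, -4, 0],
     [0, 0, 0, 0, 0, 0, 0, 0, 0, 0, 0, 0, 0, 0, 0, 0, 0, 0, 0, 0, 0, 0, 8, 0],
     [8, 0, 0, 0, 0, 0, 0, 0, 0, 0, 0, 0, 0, 0, 0, 0, 0, 0, 0, 0, 0, 0, 0, 0]]),
  (0, [.sgO 3041339, .xiO, .plO [22, 0, 1, 2, 3, 4, 5, 6, 7, 8, 9, 10, 11, 12, 13, 14, 15, 16, 17, 18, 19, 20, 21, 23], .sgO 14172149, .xiO, .plO [22, 0, 1, 2, 3, 4, 5, 6, 7, 8, 9, 10, 11, 12, 13, 14, 15, 16, 17, 18, 19, 20, 21, 23], .sgO 475812, .xiO],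
    [[5, 3, -3, -1, 1, -1, 1, 1, -1, 1, 1, 1, 1, 1, 1, 1, 1, 1, -1, -1, 1, -1, 1, -1],
     [-5, -3, -3, 1, -1, 1, 1, 1, -1, 1, 1, -1, 1, -1, -1, 1, 1, -1, 1, 1, 1, 1, 1, -1],
     [0, 2, 2, 6, 2, -2, 0, 0, 2, 0, 0, 2, 0, 2, 0, 0, 0, 0, 0, 0, 0, 0, 0, 0],
     [2, 2, 6, 2, -2, 0, 0, 2, 0, 0, 2, 0, 2, 0, 0, 0, 0, 0, 0, 0, 0, 0, 0, 0],
     [-2, 2, -6, 2, 2, 0, 0, -2, 0, 0, -2, 0, -2, 0, 0, 0, 0, 0, 0, 0, 0, 0, 0, 0],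
     [0, 4, -4, 4, -4, 0, 0, 0, 0, 0, 0, 0, 0, 0, 0, 0, 0, 0, 0, 0, 0, 0, 0, 0],
     [4, -4, 4, -4, 0, 0, 0, 0, 0, 0, 0, 0, 0, 0, 0, 0, 0, 0, 0, 0, 0, 0, 0, 0],
     [4, -4, -4, -4, 0, 0, 0, 0, 0, 0, 0, 0, 0, 0, 0, 0, 0, 0, 0, 0, 0, 0, 0, 0],
     [8, 0, 0, 0, 0, 0, 0, 0, 0, 0, 0, 0, 0, 0, 0, 0, 0, 0, 0, 0, 0, 0, 0, 0]]),
  (2, [.sgO 14762146, .xiO, .plO [1, 2, 3, 4, 5, 6, 7, 8, 9, 10, 11, 12, 13, 14, 15, 16, 17, 18, 19, 20, 21, 22, 0, 23], .sgO 223863, .xiO, .plO [1, 2, 3, 4, 5, 6, 7, 8, 9, 10, 11, 12, 13, 14, 15, 16, 17, 18, 19, 20, 21, 22, 0, 23], .sgO 3246601, .xiO],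
    [[1, -1, 1, 3, -1, -1, 3, 1, 1, 3, 1, 3, -1, -1, 1, -1, 1, -1, -1, -1, -1, -1, 3, 1],
     [1, 1, 1, 3, -1, 1, 3, -1, 1, 3, 1, 3, -1, -1, -1, -1, -1, -1, -1, -1, -1, 1, -3, -1],
     [-2, -2, -2, 0, 0, -2, 0, 0, -2, 0, -2, 0, 0, 0, 0, 0, 0, 0, 0, 0, 0, -2, 6, 0],
     [6, -2, -2, -2, 0, 0, -2, 0, 0, -2, 0, -2, 0, 0, 0, 0, 0, 0, 0, 0, 0, 0, -2, 0],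
     [-6, 2, 2, -2, 0, 0, 2, 0, 0, 2, 0, 2, 0, 0, 0, 0, 0, 0, 0, 0, 0, 0, -2, 0],
     [-4, 4, 4, 0, 0, 0, 0, 0, 0, 0, 0, 0, 0, 0, 0, 0, 0, 0, 0, 0, 0, 0, 4, 0],
     [4, -4, 4, 4, 0, 0, 0, 0, 0, 0, 0, 0, 0, 0, 0, 0, 0, 0, 0, 0, 0, 0, 0, 0],
     [-4, -4, 4, -4, 0, 0, 0, 0, 0, 0, 0, 0, 0, 0, 0, 0, 0, 0, 0, 0, 0, 0, 0, 0],
     [0, 0, 8, 0, 0, 0, 0, 0, 0, 0, 0, 0, 0, 0, 0, 0, 0, 0, 0, 0, 0, 0, 0, 0]])]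

/-- for the types 1, …, 6: a word, its square twisted by a sign change, and a trace reaching type 1 -/
def crossTwice : List (ℕ × ℕ × List (List ℤ)) := [
  (13186898, 0,
    [[4, 4, -4, -4, 0, 0, 0, 0, 0, 0, 0, 0, 0, 0, 0, 0, 0, 0, 0, 0, 0, 0, 0, 0],
     [-4, -4, 4, 4, 0, 0, 0, 0, 0, 0, 0, 0, 0, 0, 0, 0, 0, 0, 0, 0, 0, 0, 0, 0],
     [-4, -4, 4, 4, 0, 0, 0, 0, 0, 0, 0, 0, 0, 0, 0, 0, 0, 0, 0, 0, 0, 0, 0, 0],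
     [-4, 4, 4, 4, 0, 0, 0, 0, 0, 0, 0, 0, 0, 0, 0, 0, 0, 0, 0, 0, 0, 0, 0, 0],
     [4, -4, -4, -4, 0, 0, 0, 0, 0, 0, 0, 0, 0, 0, 0, 0, 0, 0, 0, 0, 0, 0, 0, 0],
     [8, 0, 0, 0, 0, 0, 0, 0, 0, 0, 0, 0, 0, 0, 0, 0, 0, 0, 0, 0, 0, 0, 0, 0]]),
  (8976683, 0,
    [[-4, 0, 4, 0, 4, 0, 0, 0, 0, 0, -4, 0, 0, 0, 0, 0, 0, 0, 0, 0, 0, 0, 0, 0],
     [4, 0, -4, 0, 4, 0, 0, 0, 0, 0, 4, 0, 0, 0, 0, 0, 0, 0, 0, 0, 0, 0, 0, 0],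
     [4, 0, -4, 0, 0, 0, 0, 4, 0, 0, 0, 0, 4, 0, 0, 0, 0, 0, 0, 0, 0, 0, 0, 0],
     [0, -4, 0, 0, 0, 0, 4, 0, 0, 0, 0, 4, 0, 0, 0, 0, 0, 0, 0, 0, 0, 0, 4, 0],
     [0, -4, 0, 0, 0, 0, -4, 0, 0, 0, 0, 4, 0, 0, 0, 0, 0, 0, 0, 0, 0, 0, 4, 0],
     [2, -2, 2, 2, 0, 0, 6, 0, 0, 2, 0, -2, 0, 0, 0, 0, 0, 0, 0, 0, 0, 0, -2, 0],
     [-2, 2, -2, 2, 2, 0, 0, 6, 0, 0, 2, 0, -2, 0, 0, 0, 0, 0, 0, 0, 0, 0, 0, 0],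
     [2, -2, -2, -2, 2, 0, 0, 6, 0, 0, 2, 0, 2, 0, 0, 0, 0, 0, 0, 0, 0, 0, 0, 0],
     [-2, 2, 2, 2, 2, 0, 0, 6, 0, 0, -2, 0, -2, 0, 0, 0, 0, 0, 0, 0, 0, 0, 0, 0],
     [-4, 0, 0, 0, 0, 0, 0, -4, 0, 0, 4, 0, 4, 0, 0, 0, 0, 0, 0, 0, 0, 0, 0, 0],
     [0, 0, 0, 0, 0, 0, -4, 0, 0, 4, 0, 4, 0, 0, 0, 0, 0, 0, 0, 0, 0, 0, -4, 0],
     [0, 0, 0, 0, 0, 0, 4, 0, 0, 4, 0, 4, 0, 0, 0, 0, 0, 0, 0, 0, 0, 0, -4, 0],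
     [0, 0, 0, 0, 0, 0, 0, 0, 0, 0, 0, 0, 0, 0, 0, 0, 0, 0, 0, 0, 0, 0, 8, 0],
     [8, 0, 0, 0, 0, 0, 0, 0, 0, 0, 0, 0, 0, 0, 0, 0, 0, 0, 0, 0, 0, 0, 0, 0]]),
  (5586596, 0,
    [[4, 0, 0, 4, 0, -4, 0, 0, 0, 0, 0, 0, 0, 0, -4, 0, 0, 0, 0, 0, 0, 0, 0, 0],
     [-4, 0, 0, -4, 0, -4, 0, 0, 0, 0, 0, 0, 0, 0, -4, 0, 0, 0, 0, 0, 0, 0, 0, 0],
     [0, 4, 4, 0, 0, 0, 0, 0, 0, 0, 0, 0, 0, 0, 0, 0, 0, -4, 0, 0, 0, 0, 0, -4],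
     [0, 0, 4, 4, 0, 0, 0, 0, 0, 0, 0, 0, 0, 0, 0, 0, 0, 0, -4, 0, 0, 0, 0, -4],
     [0, 0, 4, 4, 0, 0, 0, 0, 0, 0, 0, 0, 0, 0, 0, 0, 0, 0, 4, 0, 0, 0, 0, -4],
     [-4, -4, 0, 0, 0, -2, 0, 0, 0, 0, 0, 0, 0, 2, -2, 0, 0, -2, -2, 0, 2, 2, 0, 2],
     [-4, 4, 0, 0, 0, -2, 0, 0, 0, 0, 0, 0, 0, -2, 2, 0, 0, 2, 2, 0, -2, -2, 0, 2],
     [-4, 4, 0, 0, 0, 4, 0, 0, 0, 0, 0, 0, 0, 0, 0, 0, 0, 0, -4, 0, 0, 0, 0, 0],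
     [0, -4, 4, 0, 0, 0, 4, 0, 0, 0, 0, 0, 0, 0, 0, 0, 0, 0, 0, -4, 0, 0, 0, 0],
     [0, 4, 4, 0, 0, 0, 4, 0, 0, 0, 0, 0, 0, 0, 0, 0, 0, 0, 0, -4, 0, 0, 0, 0],
     [-4, 0, 0, -4, 0, 0, -2, 0, -2, 2, 0, 2, 0, 0, 0, -2, -2, 0, 0, 2, 0, 0, 2, 0],
     [-4, 0, 0, -4, 0, 0, -2, 0, -2, -2, 0, -2, 0, 0, 0, -2, 2, 0, 0, 2, 0, 0, -2, 0],
     [4, 0, 0, 4, 0, 0, 2, 0, -2, 2, 0, 2, 0, 0, 0, 2, 2, 0, 0, 2, 0, 0, -2, 0],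
     [0, -4, -4, 0, 0, 0, 0, 0, 4, 0, 0, 0, 0, 0, 0, 0, 0, 0, 0, 0, 0, 0, 4, 0],
     [4, 0, -4, -4, 0, 0, 0, 0, 0, 4, 0, 0, 0, 0, 0, 0, 0, 0, 0, 0, 0, 0, 0, 0],
     [-4, 0, -4, -4, 0, 0, 0, 0, 0, -4, 0, 0, 0, 0, 0, 0, 0, 0, 0, 0, 0, 0, 0, 0],
     [2, 6, 2, 2, 0, 0, -2, 0, 0, 2, 0, -2, 0, 0, 0, 0, 0, 0, 0, 0, 0, 0, -2, 0],
     [2, -6, 2, -2, 0, 0, -2, 0, 0, -2, 0, -2, 0, 0, 0, 0, 0, 0, 0, 0, 0, 0, 2, 0],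
     [4, -4, 4, 0, 0, 0, 0, 0, 0, 0, 0, 0, 0, 0, 0, 0, 0, 0, 0, 0, 0, 0, -4, 0],
     [-4, 4, -4, 4, 0, 0, 0, 0, 0, 0, 0, 0, 0, 0, 0, 0, 0, 0, 0, 0, 0, 0, 0, 0],
     [4, -4, -4, -4, 0, 0, 0, 0, 0, 0, 0, 0, 0, 0, 0, 0, 0, 0, 0, 0, 0, 0, 0, 0],
     [8, 0, 0, 0, 0, 0, 0, 0, 0, 0, 0, 0, 0, 0, 0, 0, 0, 0, 0, 0, 0, 0, 0, 0]]),
  (1608104, 0,
    [[4, 0, 0, 0, 0, 0, -4, 0, 0, 0, 0, 0, -4, 0, -4, 0, 0, 0, 0, 0, 0, 0, 0, 0],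
     [-4, 0, 0, 0, 0, 0, 4, 0, 0, 0, 0, 0, -4, 0, 4, 0, 0, 0, 0, 0, 0, 0, 0, 0],
     [-2, 2, 2, 2, -2, 2, -2, -2, 0, 2, -2, 2, 2, 0, -2, 0, 0, 2, 0, 0, 0, 0, 2, 2],
     [2, 2, 2, -2, 2, -2, -2, 0, 2, -2, 2, 2, 0, -2, 0, 0, 2, 0, 0, 0, 0, 2, -2, 2],
     [2, 2, -2, 2, -2, -2, -2, 0, 2, -2, -2, -2, 0, -2, 0, 0, -2, 0, 0, 0, 0, -2, 2, 2],
     [0, 0, -4, 0, 0, 2, 0, -2, -2, 0, 0, 0, -2, 0, 0, 0, 2, 0, -2, 0, -2, 0, -4, -2],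
     [0, -4, 0, 0, 2, 0, -2, -2, 0, 0, 0, -2, 0, 0, 0, 2, 0, -2, 0, -2, 0, -4, 0, -2],
     [0, -4, 0, 0, -2, 0, 2, 2, 0, 0, 0, -2, 0, 0, 0, 2, 0, -2, 0, -2, 0, 4, 0, 2],
     [2, -2, 2, 2, 2, 0, -2, -2, 0, 0, 0, 2, 0, 2, 0, -2, 0, 2, 2, 2, 2, -2, 0, -2],
     [-2, 2, 2, 2, 0, -2, -2, 0, 0, 0, 2, 0, 2, 0, -2, 0, 2, 2, 2, 2, -2, 0, 2, -2],
     [-2, 2, -2, 2, 0, -2, 2, 0, 0, 0, -2, 0, -2, 0, -2, 0, -2, -2, -2, -2, -2, 0, 2, -2],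
     [-2, 2, -2, 2, -2, -2, 0, -2, -2, 2, 0, 2, 0, -2, -2, -2, 0, -2, 0, 0, 0, -2, 0, -2],
     [2, -2, 2, -2, -2, 0, -2, -2, 2, 0, 2, 0, -2, -2, -2, 0, -2, 0, 0, 0, -2, 0, -2, -2],
     [-2, -2, 2, -2, 2, 0, 2, 2, 2, 0, -2, 0, -2, 2, -2, 0, 2, 0, 0, 0, 2, 0, -2, -2],
     [0, 0, 4, 0, -2, -2, -2, -2, 0, 0, 2, 0, 2, 0, 0, 2, 0, -2, 2, 2, 0, 2, 2, 0],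
     [2, 0, 0, 4, 0, -2, -2, -2, -2, 0, 0, 2, 0, 2, 0, 0, 2, 0, -2, 2, 2, 0, 2, 0],
     [2, 0, 0, -4, 0, 2, -2, 2, 2, 0, 0, -2, 0, 2, 0, 0, 2, 0, -2, -2, -2, 0, 2, 0],
     [-2, 0, 0, 4, 0, -2, 2, -2, 2, 0, 0, -2, 0, -2, 0, 0, -2, 0, -2, 2, -2, 0, -2, 0],
     [-3, -1, -1, 3, -1, 1, -3, 1, -1, -1, -1, 1, -1, -1, -1, 1, 3, -1, -1, -1, -1, -3, 1, -1],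
     [-1, -1, 3, -1, 1, -3, 1, -1, -1, -1, 1, -1, -1, -1, 1, 3, -1, -1, -1, -1, -3, 1, -3, -1],
     [-1, -1, -3, 1, -1, -3, 1, -1, -1, -1, -1, 1, -1, -1, -1, -3, 1, 1, -1, -1, 3, -1, 3, -1],
     [1, 1, -1, 3, -1, 1, 1, -1, -1, 3, -1, 1, -1, 1, -1, 1, -3, -3, 1, -1, -3, 1, -1, -1],
     [1, -1, 3, -1, 1, 1, -1, -1, 3, -1, 1, -1, 1, -1, 1, -3, -3, 1, -1, -3, 1, -1, 1, -1],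
     [1, -1, 3, -1, -1, -1, 1, 1, 3, 1, 1, -1, 1, -1, 1, -3, -3, 1, 1, -3, 1, 1, 1, 1],
     [0, -2, 2, -2, 2, 2, 0, 0, -6, 0, 0, 2, 0, 2, 0, 0, 0, 0, 0, 0, 0, 0, 0, 0],
     [-2, 2, -2, 2, 2, 0, 0, -6, 0, 0, 2, 0, 2, 0, 0, 0, 0, 0, 0, 0, 0, 0, 0, 0],
     [-2, 2, 2, 2, 2, 0, 0, 6, 0, 0, -2, 0, -2, 0, 0, 0, 0, 0, 0, 0, 0, 0, 0, 0],
     [-4, 0, 0, 0, 0, 0, 0, -4, 0, 0, 4, 0, 4, 0, 0, 0, 0, 0, 0, 0, 0, 0, 0, 0],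
     [0, 0, 0, 0, 0, 0, -4, 0, 0, 4, 0, 4, 0, 0, 0, 0, 0, 0, 0, 0, 0, 0, -4, 0],
     [0, 0, 0, 0, 0, 0, 4, 0, 0, 4, 0, 4, 0, 0, 0, 0, 0, 0, 0, 0, 0, 0, -4, 0],
     [0, 0, 0, 0, 0, 0, 0, 0, 0, 0, 0, 0, 0, 0, 0, 0, 0, 0, 0, 0, 0, 0, 8, 0],
     [8, 0, 0, 0, 0, 0, 0, 0, 0, 0, 0, 0, 0, 0, 0, 0, 0, 0, 0, 0, 0, 0, 0, 0]]),
  (12482405, 0,
    [[-4, -4, 4, 0, 0, 0, 0, 0, 0, 0, 0, 0, 0, 0, 0, 4, 0, 0, 0, 0, 0, 0, 0, 0],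
     [4, 4, 4, 0, 0, 0, 0, 0, 0, 0, 0, 0, 0, 0, 0, 4, 0, 0, 0, 0, 0, 0, 0, 0],
     [-2, -2, -2, -6, 0, 0, 0, 0, 2, 0, 0, 0, 0, 0, 0, -2, 2, 0, 0, 2, 0, 0, 0, 0],
     [-2, -2, -6, 0, 0, 0, 0, 2, 0, 0, 0, 0, 0, 0, -2, 2, 0, 0, 2, 0, 0, 0, -2, 0],
     [2, -2, 6, 0, 0, 0, 0, -2, 0, 0, 0, 0, 0, 0, -2, 2, 0, 0, 2, 0, 0, 0, 2, 0],
     [-1, -5, 3, -3, -1, -1, 1, 1, 1, 1, -1, 1, -1, 1, 1, -1, 1, -1, -1, 1, 1, 1, -1, -1],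
     [-5, 3, -3, -1, -1, 1, 1, 1, 1, -1, 1, -1, 1, 1, -1, 1, -1, -1, 1, 1, 1, -1, -1, -1],
     [-5, 3, 3, -1, -1, -1, 1, -1, 1, 1, 1, -1, 1, 1, 1, 1, 1, 1, -1, 1, 1, -1, -1, -1],
     [-5, 3, 3, -1, 1, 1, -1, 1, 1, -1, -1, 1, -1, -1, -1, 1, 1, -1, 1, 1, -1, 1, 1, 1],
     [5, 3, -3, -1, 1, -1, 1, 1, -1, 1, 1, 1, 1, 1, 1, 1, 1, 1, -1, -1, 1, -1, 1, -1],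
     [-5, -3, -3, 1, -1, 1, 1, 1, -1, 1, 1, -1, 1, -1, -1, 1, 1, -1, 1, 1, 1, 1, 1, -1],
     [0, 2, 2, 6, 2, -2, 0, 0, 2, 0, 0, 2, 0, 2, 0, 0, 0, 0, 0, 0, 0, 0, 0, 0],
     [2, 2, 6, 2, -2, 0, 0, 2, 0, 0, 2, 0, 2, 0, 0, 0, 0, 0, 0, 0, 0, 0, 0, 0],
     [-2, 2, -6, 2, 2, 0, 0, -2, 0, 0, -2, 0, -2, 0, 0, 0, 0, 0, 0, 0, 0, 0, 0, 0],
     [0, 4, -4, 4, -4, 0, 0, 0, 0, 0, 0, 0, 0, 0, 0, 0, 0, 0, 0, 0, 0, 0, 0, 0],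
     [4, -4, 4, -4, 0, 0, 0, 0, 0, 0, 0, 0, 0, 0, 0, 0, 0, 0, 0, 0, 0, 0, 0, 0],
     [4, -4, -4, -4, 0, 0, 0, 0, 0, 0, 0, 0, 0, 0, 0, 0, 0, 0, 0, 0, 0, 0, 0, 0],
     [8, 0, 0, 0, 0, 0, 0, 0, 0, 0, 0, 0, 0, 0, 0, 0, 0, 0, 0, 0, 0, 0, 0, 0]]),
  (8295236, 0,
    [[4, 4, 0, 0, 0, 0, -4, 0, 0, 0, 0, -4, 0, 0, 0, 0, 0, 0, 0, 0, 0, 0, 0, 0],
     [4, -4, 0, 0, 0, 0, -4, 0, 0, 0, 0, -4, 0, 0, 0, 0, 0, 0, 0, 0, 0, 0, 0, 0],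
     [4, -4, 0, 0, 0, 0, 0, 0, 0, -4, 0, 0, 0, 0, 0, 0, 0, 0, 0, 0, 0, 0, -4, 0],
     [-4, 4, -4, 0, 0, 0, 0, 0, 0, 0, -4, 0, 0, 0, 0, 0, 0, 0, 0, 0, 0, 0, 0, 0],
     [4, -4, 4, 0, 0, 0, 0, 0, 0, 0, -4, 0, 0, 0, 0, 0, 0, 0, 0, 0, 0, 0, 0, 0],
     [2, -6, 2, -2, -2, 0, 0, -2, 0, 0, 2, 0, -2, 0, 0, 0, 0, 0, 0, 0, 0, 0, 0, 0],
     [0, 2, -6, 2, -2, -2, 0, 0, -2, 0, 0, 2, 0, -2, 0, 0, 0, 0, 0, 0, 0, 0, 0, 0],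
     [0, 2, -6, -2, -2, -2, 0, 0, -2, 0, 0, -2, 0, -2, 0, 0, 0, 0, 0, 0, 0, 0, 0, 0],
     [3, 5, -3, 1, 1, 1, -1, -1, 1, -1, -1, 1, -1, 1, -1, -1, -1, -1, -1, -1, -1, -1, -1, -1],
     [3, 5, 3, 1, 1, 1, 1, -1, -1, 1, -1, 1, 1, 1, -1, 1, -1, 1, 1, 1, 1, 1, 1, -1],
     [3, -5, 3, 1, 1, -1, 1, 1, -1, 1, -1, 1, 1, 1, 1, 1, 1, 1, 1, 1, 1, -1, -1, 1],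
     [2, -6, 2, 0, 0, 2, 0, 0, 2, 0, 2, 0, 0, 0, 0, 0, 0, 0, 0, 0, 0, 2, 2, 0],
     [2, 2, -6, 2, 0, 0, 2, 0, 0, 2, 0, 2, 0, 0, 0, 0, 0, 0, 0, 0, 0, 0, 2, 0],
     [-2, -2, 6, 2, 0, 0, -2, 0, 0, -2, 0, -2, 0, 0, 0, 0, 0, 0, 0, 0, 0, 0, 2, 0],
     [-4, -4, 4, 0, 0, 0, 0, 0, 0, 0, 0, 0, 0, 0, 0, 0, 0, 0, 0, 0, 0, 0, -4, 0],
     [-4, -4, -4, 4, 0, 0, 0, 0, 0, 0, 0, 0, 0, 0, 0, 0, 0, 0, 0, 0, 0, 0, 0, 0],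
     [4, -4, -4, -4, 0, 0, 0, 0, 0, 0, 0, 0, 0, 0, 0, 0, 0, 0, 0, 0, 0, 0, 0, 0],
     [8, 0, 0, 0, 0, 0, 0, 0, 0, 0, 0, 0, 0, 0, 0, 0, 0, 0, 0, 0, 0, 0, 0, 0]])
]

end Cfsg.Agent.Spor
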