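/-
Base vectors of norm 64 with their crosses, and words for orbit covers.
-/
import Mathlib

set_option autoImplicit false

namespace Cfsg.Agent.Spor

/-- half of the cross of each base vector, the base vector first -/
def crossData : List (List (List ℤ)) := [
  [[0, 0, 0, 0, 0, 0, 0, 0, 0, 0, 0, 0, 0, 0, 0, 0, 0, 0, 0, 0, 0, 0, 0, 8],
    [-8, 0, 0, 0, 0, 0, 0, 0, 0, 0, 0, 0, 0, 0, 0, 0, 0, 0, 0, 0, 0, 0, 0, 0],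
    [0, -8, 0, 0, 0, 0, 0, 0, 0, 0, 0, 0, 0, 0, 0, 0, 0, 0, 0, 0, 0, 0, 0, 0],
    [0, 0, -8, 0, 0, 0, 0, 0, 0, 0, 0, 0, 0, 0, 0, 0, 0, 0, 0, 0, 0, 0, 0, 0],
    [0, 0, 0, -8, 0, 0, 0, 0, 0, 0, 0, 0, 0, 0, 0, 0, 0, 0, 0, 0, 0, 0, 0, 0],
    [0, 0, 0, 0, -8, 0, 0, 0, 0, 0, 0, 0, 0, 0, 0, 0, 0, 0, 0, 0, 0, 0, 0, 0],
    [0, 0, 0, 0, 0, -8, 0, 0, 0, 0, 0, 0, 0, 0, 0, 0, 0, 0, 0, 0, 0, 0, 0, 0],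
    [0, 0, 0, 0, 0, 0, -8, 0, 0, 0, 0, 0, 0, 0, 0, 0, 0, 0, 0, 0, 0, 0, 0, 0],
    [0, 0, 0, 0, 0, 0, 0, -8, 0, 0, 0, 0, 0, 0, 0, 0, 0, 0, 0, 0, 0, 0, 0, 0],
    [0, 0, 0, 0, 0, 0, 0, 0, -8, 0, 0, 0, 0, 0, 0, 0, 0, 0, 0, 0, 0, 0, 0, 0],
    [0, 0, 0, 0, 0, 0, 0, 0, 0, -8, 0, 0, 0, 0, 0, 0, 0, 0, 0, 0, 0, 0, 0, 0],
    [0, 0, 0, 0, 0, 0, 0, 0, 0, 0, -8, 0, 0, 0, 0, 0, 0, 0, 0, 0, 0, 0, 0, 0],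
    [0, 0, 0, 0, 0, 0, 0, 0, 0, 0, 0, -8, 0, 0, 0, 0, 0, 0, 0, 0, 0, 0, 0, 0],
    [0, 0, 0, 0, 0, 0, 0, 0, 0, 0, 0, 0, -8, 0, 0, 0, 0, 0, 0, 0, 0, 0, 0, 0],
    [0, 0, 0, 0, 0, 0, 0, 0, 0, 0, 0, 0, 0, -8, 0, 0, 0, 0, 0, 0, 0, 0, 0, 0],
    [0, 0, 0, 0, 0, 0, 0, 0, 0, 0, 0, 0, 0, 0, -8, 0, 0, 0, 0, 0, 0, 0, 0, 0],
    [0, 0, 0, 0, 0, 0, 0, 0, 0, 0, 0, 0, 0, 0, 0, -8, 0, 0, 0, 0, 0, 0, 0, 0],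
    [0, 0, 0, 0, 0, 0, 0, 0, 0, 0, 0, 0, 0, 0, 0, 0, -8, 0, 0, 0, 0, 0, 0, 0],
    [0, 0, 0, 0, 0, 0, 0, 0, 0, 0, 0, 0, 0, 0, 0, 0, 0, -8, 0, 0, 0, 0, 0, 0],
    [0, 0, 0, 0, 0, 0, 0, 0, 0, 0, 0, 0, 0, 0, 0, 0, 0, 0, -8, 0, 0, 0, 0, 0],
    [0, 0, 0, 0, 0, 0, 0, 0, 0, 0, 0, 0, 0, 0, 0, 0, 0, 0, 0, -8, 0, 0, 0, 0],
    [0, 0, 0, 0, 0, 0, 0, 0, 0, 0, 0, 0, 0, 0, 0, 0, 0, 0, 0, 0, -8, 0, 0, 0],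
    [0, 0, 0, 0, 0, 0, 0, 0, 0, 0, 0, 0, 0, 0, 0, 0, 0, 0, 0, 0, 0, -8, 0, 0],
    [0, 0, 0, 0, 0, 0, 0, 0, 0, 0, 0, 0, 0, 0, 0, 0, 0, 0, 0, 0, 0, 0, -8, 0]],
  [[4, 4, 4, 4, 0, 0, 0, 0, 0, 0, 0, 0, 0, 0, 0, 0, 0, 0, 0, 0, 0, 0, 0, 0],
    [-4, -4, 4, 4, 0, 0, 0, 0, 0, 0, 0, 0, 0, 0, 0, 0, 0, 0, 0, 0, 0, 0, 0, 0],
    [-4, 4, -4, 4, 0, 0, 0, 0, 0, 0, 0, 0, 0, 0, 0, 0, 0, 0, 0, 0, 0, 0, 0, 0],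
    [-4, 4, 4, -4, 0, 0, 0, 0, 0, 0, 0, 0, 0, 0, 0, 0, 0, 0, 0, 0, 0, 0, 0, 0],
    [0, 0, 0, 0, 0, 0, 0, 0, 0, 0, 0, 0, 0, -4, 0, 0, 0, 0, -4, 0, -4, -4, 0, 0],
    [0, 0, 0, 0, 0, 0, 0, 0, 0, 0, 0, 0, 0, 4, 0, 0, 0, 0, 4, 0, -4, -4, 0, 0],
    [0, 0, 0, 0, 0, 0, 0, 0, 0, 0, 0, 0, 0, 4, 0, 0, 0, 0, -4, 0, 4, -4, 0, 0],
    [0, 0, 0, 0, 0, 0, 0, 0, 0, 0, 0, 0, 0, -4, 0, 0, 0, 0, 4, 0, 4, -4, 0, 0],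
    [0, 0, 0, 0, 0, -4, 0, 0, 0, 0, 0, 0, 0, 0, -4, 0, 0, -4, 0, 0, 0, 0, 0, -4],
    [0, 0, 0, 0, 0, 4, 0, 0, 0, 0, 0, 0, 0, 0, 4, 0, 0, -4, 0, 0, 0, 0, 0, -4],
    [0, 0, 0, 0, 0, 4, 0, 0, 0, 0, 0, 0, 0, 0, -4, 0, 0, 4, 0, 0, 0, 0, 0, -4],
    [0, 0, 0, 0, 0, -4, 0, 0, 0, 0, 0, 0, 0, 0, 4, 0, 0, 4, 0, 0, 0, 0, 0, -4],
    [0, 0, 0, 0, 0, 0, 0, 0, -4, 0, 0, 0, 0, 0, 0, -4, -4, 0, 0, -4, 0, 0, 0, 0],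
    [0, 0, 0, 0, 0, 0, 0, 0, 4, 0, 0, 0, 0, 0, 0, 4, -4, 0, 0, -4, 0, 0, 0, 0],
    [0, 0, 0, 0, 0, 0, 0, 0, 4, 0, 0, 0, 0, 0, 0, -4, 4, 0, 0, -4, 0, 0, 0, 0],
    [0, 0, 0, 0, 0, 0, 0, 0, -4, 0, 0, 0, 0, 0, 0, 4, 4, 0, 0, -4, 0, 0, 0, 0],
    [0, 0, 0, 0, 0, 0, -4, 0, 0, -4, 0, -4, 0, 0, 0, 0, 0, 0, 0, 0, 0, 0, -4, 0],
    [0, 0, 0, 0, 0, 0, 4, 0, 0, 4, 0, -4, 0, 0, 0, 0, 0, 0, 0, 0, 0, 0, -4, 0],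
    [0, 0, 0, 0, 0, 0, 4, 0, 0, -4, 0, 4, 0, 0, 0, 0, 0, 0, 0, 0, 0, 0, -4, 0],
    [0, 0, 0, 0, 0, 0, -4, 0, 0, 4, 0, 4, 0, 0, 0, 0, 0, 0, 0, 0, 0, 0, -4, 0],
    [0, 0, 0, 0, -4, 0, 0, -4, 0, 0, -4, 0, -4, 0, 0, 0, 0, 0, 0, 0, 0, 0, 0, 0],
    [0, 0, 0, 0, 4, 0, 0, 4, 0, 0, -4, 0, -4, 0, 0, 0, 0, 0, 0, 0, 0, 0, 0, 0],
    [0, 0, 0, 0, 4, 0, 0, -4, 0, 0, 4, 0, -4, 0, 0, 0, 0, 0, 0, 0, 0, 0, 0, 0],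
    [0, 0, 0, 0, -4, 0, 0, 4, 0, 0, 4, 0, -4, 0, 0, 0, 0, 0, 0, 0, 0, 0, 0, 0]],
  [[-6, 2, 2, 2, 2, 0, 0, 2, 0, 0, 2, 0, 2, 0, 0, 0, 0, 0, 0, 0, 0, 0, 0, 0],
    [2, -6, 2, 2, 2, 0, 0, 2, 0, 0, 2, 0, 2, 0, 0, 0, 0, 0, 0, 0, 0, 0, 0, 0],
    [2, 2, -6, 2, 2, 0, 0, 2, 0, 0, 2, 0, 2, 0, 0, 0, 0, 0, 0, 0, 0, 0, 0, 0],
    [2, 2, 2, -6, 2, 0, 0, 2, 0, 0, 2, 0, 2, 0, 0, 0, 0, 0, 0, 0, 0, 0, 0, 0],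
    [2, 2, 2, 2, -6, 0, 0, 2, 0, 0, 2, 0, 2, 0, 0, 0, 0, 0, 0, 0, 0, 0, 0, 0],
    [2, 2, 2, 2, 2, 0, 0, -6, 0, 0, 2, 0, 2, 0, 0, 0, 0, 0, 0, 0, 0, 0, 0, 0],
    [2, 2, 2, 2, 2, 0, 0, 2, 0, 0, -6, 0, 2, 0, 0, 0, 0, 0, 0, 0, 0, 0, 0, 0],
    [2, 2, 2, 2, 2, 0, 0, 2, 0, 0, 2, 0, -6, 0, 0, 0, 0, 0, 0, 0, 0, 0, 0, 0],
    [0, 0, 0, 0, 0, -2, -2, 0, -2, -2, 0, -2, 0, -2, -2, -2, -2, -2, -2, -2, -2, -2, -2, -2],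
    [0, 0, 0, 0, 0, 2, -2, 0, -2, -2, 0, -2, 0, 2, 2, -2, -2, 2, 2, -2, 2, 2, -2, 2],
    [0, 0, 0, 0, 0, -2, 2, 0, -2, -2, 0, -2, 0, -2, 2, 2, -2, -2, 2, 2, -2, 2, 2, 2],
    [0, 0, 0, 0, 0, 2, 2, 0, -2, -2, 0, -2, 0, 2, -2, 2, -2, 2, -2, 2, 2, -2, 2, -2],
    [0, 0, 0, 0, 0, -2, -2, 0, 2, -2, 0, -2, 0, 2, -2, 2, 2, -2, 2, 2, 2, 2, -2, -2],
    [0, 0, 0, 0, 0, 2, -2, 0, 2, -2, 0, -2, 0, -2, 2, 2, 2, 2, -2, 2, -2, -2, -2, 2],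
    [0, 0, 0, 0, 0, -2, 2, 0, 2, -2, 0, -2, 0, 2, 2, -2, 2, -2, -2, -2, 2, -2, 2, 2],
    [0, 0, 0, 0, 0, 2, 2, 0, 2, -2, 0, -2, 0, -2, -2, -2, 2, 2, 2, -2, -2, 2, 2, -2],
    [0, 0, 0, 0, 0, -2, -2, 0, -2, 2, 0, -2, 0, -2, 2, -2, 2, 2, -2, 2, 2, 2, 2, -2],
    [0, 0, 0, 0, 0, 2, -2, 0, -2, 2, 0, -2, 0, 2, -2, -2, 2, -2, 2, 2, -2, -2, 2, 2],
    [0, 0, 0, 0, 0, -2, 2, 0, -2, 2, 0, -2, 0, -2, -2, 2, 2, 2, 2, -2, 2, -2, -2, 2],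
    [0, 0, 0, 0, 0, 2, 2, 0, -2, 2, 0, -2, 0, 2, 2, 2, 2, -2, -2, -2, -2, 2, -2, -2],
    [0, 0, 0, 0, 0, -2, -2, 0, 2, 2, 0, -2, 0, 2, 2, 2, -2, 2, 2, -2, -2, -2, 2, -2],
    [0, 0, 0, 0, 0, 2, -2, 0, 2, 2, 0, -2, 0, -2, -2, 2, -2, -2, -2, -2, 2, 2, 2, 2],
    [0, 0, 0, 0, 0, -2, 2, 0, 2, 2, 0, -2, 0, 2, -2, -2, -2, 2, -2, 2, -2, 2, -2, 2],
    [0, 0, 0, 0, 0, 2, 2, 0, 2, 2, 0, -2, 0, -2, 2, -2, -2, -2, 2, 2, 2, -2, -2, -2]],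
  [[2, 2, 2, 2, 2, 4, 4, 2, 0, 0, 2, 0, 2, 0, 0, 0, 0, 0, 0, 0, 0, 0, 0, 0],
    [2, 2, 2, 2, 2, -4, -4, 2, 0, 0, 2, 0, 2, 0, 0, 0, 0, 0, 0, 0, 0, 0, 0, 0],
    [-2, -2, 2, -2, -2, 0, 0, 2, 0, 0, 2, 0, 2, 0, 0, 0, -4, 0, 0, 0, 0, -4, 0, 0],
    [-2, -2, 2, -2, -2, 0, 0, 2, 0, 0, 2, 0, 2, 0, 0, 0, 4, 0, 0, 0, 0, 4, 0, 0],
    [2, -2, -2, 2, -2, 0, 0, -2, 0, 0, 2, 0, 2, 0, 0, 0, 0, -4, 0, 0, 0, 0, -4, 0],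
    [2, -2, -2, 2, -2, 0, 0, -2, 0, 0, 2, 0, 2, 0, 0, 0, 0, 4, 0, 0, 0, 0, 4, 0],
    [-2, 2, -2, -2, 2, 0, 0, -2, -4, 0, 2, 0, 2, 0, 0, 0, 0, 0, -4, 0, 0, 0, 0, 0],
    [-2, 2, -2, -2, 2, 0, 0, -2, 4, 0, 2, 0, 2, 0, 0, 0, 0, 0, 4, 0, 0, 0, 0, 0],
    [2, -2, -2, -2, 2, 0, 0, 2, 0, 0, -2, 0, 2, 0, 0, 0, 0, 0, 0, -4, -4, 0, 0, 0],
    [2, -2, -2, -2, 2, 0, 0, 2, 0, 0, -2, 0, 2, 0, 0, 0, 0, 0, 0, 4, 4, 0, 0, 0],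
    [2, 2, 2, -2, -2, 0, 0, -2, 0, 0, -2, 0, 2, -4, 0, -4, 0, 0, 0, 0, 0, 0, 0, 0],
    [2, 2, 2, -2, -2, 0, 0, -2, 0, 0, -2, 0, 2, 4, 0, 4, 0, 0, 0, 0, 0, 0, 0, 0],
    [-2, -2, 2, 2, 2, 0, 0, -2, 0, -4, -2, 0, 2, 0, -4, 0, 0, 0, 0, 0, 0, 0, 0, 0],
    [-2, -2, 2, 2, 2, 0, 0, -2, 0, 4, -2, 0, 2, 0, 4, 0, 0, 0, 0, 0, 0, 0, 0, 0],
    [-2, 2, -2, 2, -2, 0, 0, 2, 0, 0, -2, -4, 2, 0, 0, 0, 0, 0, 0, 0, 0, 0, 0, -4],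
    [-2, 2, -2, 2, -2, 0, 0, 2, 0, 0, -2, 4, 2, 0, 0, 0, 0, 0, 0, 0, 0, 0, 0, 4],
    [0, 0, 0, 0, 0, -2, 2, 0, -2, -2, 0, -2, 0, 2, 2, -2, -2, 2, 2, -2, 2, 2, -2, 2],
    [0, 0, 0, 0, 0, 2, -2, 0, -2, -2, 0, -2, 0, -2, 2, 2, -2, -2, 2, 2, -2, 2, 2, 2],
    [0, 0, 0, 0, 0, -2, 2, 0, 2, -2, 0, -2, 0, -2, 2, 2, 2, 2, -2, 2, -2, -2, -2, 2],
    [0, 0, 0, 0, 0, 2, -2, 0, 2, -2, 0, -2, 0, 2, 2, -2, 2, -2, -2, -2, 2, -2, 2, 2],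
    [0, 0, 0, 0, 0, -2, 2, 0, -2, 2, 0, -2, 0, 2, -2, -2, 2, -2, 2, 2, -2, -2, 2, 2],
    [0, 0, 0, 0, 0, 2, -2, 0, -2, 2, 0, -2, 0, -2, -2, 2, 2, 2, 2, -2, 2, -2, -2, 2],
    [0, 0, 0, 0, 0, -2, 2, 0, 2, 2, 0, -2, 0, -2, -2, 2, -2, -2, -2, -2, 2, 2, 2, 2],
    [0, 0, 0, 0, 0, 2, -2, 0, 2, 2, 0, -2, 0, 2, -2, -2, -2, 2, -2, 2, -2, 2, -2, 2]],
  [[-2, 2, 2, 2, 2, 2, 2, 4, 2, 2, 2, 0, 0, 0, 0, 2, 0, 2, 0, 0, 0, 0, 0, 0],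
    [2, -2, 2, -2, 2, 2, -2, 0, 2, 2, 2, 0, 0, 0, 0, -2, 0, -2, 0, 0, 4, 0, 0, 0],
    [-2, -2, -2, 2, -2, -2, -2, 0, 2, 2, 2, 0, 0, 0, 0, 2, 0, -2, 0, 0, 0, 0, -4, 0],
    [-2, 2, -2, -2, -2, 2, 2, 0, -2, 2, 2, 0, 0, 0, -4, -2, 0, -2, 0, 0, 0, 0, 0, 0],
    [2, -2, 2, 2, -2, -2, 2, 0, -2, 2, 2, 0, 0, 0, 0, -2, 0, 2, 0, 0, 0, 0, 0, 4],
    [2, 2, -2, -2, 2, -2, -2, 0, -2, 2, 2, 0, 0, 0, 0, 2, 0, 2, 4, 0, 0, 0, 0, 0],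
    [-2, -2, -2, -2, 2, -2, 2, 0, 2, -2, 2, 0, 0, 0, 0, -2, 0, 2, 0, 0, 0, -4, 0, 0],
    [2, 2, -2, 2, -2, 2, -2, 0, 2, -2, 2, 0, 0, 0, 0, -2, 4, 2, 0, 0, 0, 0, 0, 0],
    [2, -2, -2, 2, 2, 2, 2, 0, -2, -2, 2, 0, 0, 4, 0, 2, 0, -2, 0, 0, 0, 0, 0, 0],
    [-2, -2, 2, -2, -2, 2, -2, 0, -2, -2, 2, 0, 0, 0, 0, 2, 0, 2, 0, -4, 0, 0, 0, 0],
    [2, 2, 2, -2, -2, -2, 2, 0, 2, -2, 2, 4, 0, 0, 0, 2, 0, -2, 0, 0, 0, 0, 0, 0],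
    [-2, 2, 2, 2, 2, -2, -2, 0, -2, -2, 2, 0, -4, 0, 0, -2, 0, -2, 0, 0, 0, 0, 0, 0],
    [4, 0, 0, 0, 0, 0, 0, 2, 0, 0, 0, -2, -2, -2, -2, 0, -2, 0, -2, -2, -2, -2, -2, -2],
    [0, 0, 0, -4, 0, 0, 0, 2, 0, 0, 0, -2, -2, 2, 2, 0, 2, 0, -2, 2, -2, 2, -2, 2],
    [0, 0, 0, 0, -4, 0, 0, 2, 0, 0, 0, -2, -2, 2, 2, 0, -2, 0, 2, 2, 2, -2, 2, -2],
    [0, 0, 0, 0, 0, 0, 0, -2, 0, 0, 0, -2, -2, -2, -2, 4, 2, 0, -2, 2, 2, -2, 2, 2],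
    [0, 0, 0, 0, 0, 0, 4, -2, 0, 0, 0, -2, -2, -2, 2, 0, 2, 0, 2, -2, 2, 2, -2, -2],
    [0, 0, 0, 0, 0, 0, 0, -2, 4, 0, 0, -2, -2, 2, -2, 0, -2, 0, 2, -2, -2, 2, 2, 2],
    [0, -4, 0, 0, 0, 0, 0, 2, 0, 0, 0, 2, -2, -2, -2, 0, 2, 0, 2, 2, -2, 2, 2, -2],
    [0, 0, -4, 0, 0, 0, 0, 2, 0, 0, 0, 2, -2, -2, 2, 0, -2, 0, -2, -2, 2, 2, 2, 2],
    [0, 0, 0, 0, 0, 0, 0, -2, 0, 0, 0, 2, -2, 2, -2, 0, -2, 4, -2, 2, 2, 2, -2, -2],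
    [0, 0, 0, 0, 0, 4, 0, -2, 0, 0, 0, 2, -2, -2, 2, 0, -2, 0, 2, 2, -2, -2, -2, 2],
    [0, 0, 0, 0, 0, 0, 0, -2, 0, 4, 0, 2, -2, 2, 2, 0, 2, 0, -2, -2, -2, -2, 2, -2],
    [0, 0, 0, 0, 0, 0, 0, 2, 0, 0, -4, 2, -2, 2, -2, 0, 2, 0, 2, -2, 2, -2, -2, 2]],
  [[5, -3, -3, 1, 1, 1, 1, 1, 1, 1, 1, 1, 1, 1, 1, 1, 1, 1, 1, 1, 1, 1, 1, 1],
    [-3, 5, -3, 1, 1, 1, 1, 1, 1, 1, 1, 1, 1, 1, 1, 1, 1, 1, 1, 1, 1, 1, 1, 1],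
    [-3, -3, 5, 1, 1, 1, 1, 1, 1, 1, 1, 1, 1, 1, 1, 1, 1, 1, 1, 1, 1, 1, 1, 1],
    [1, 1, 1, -3, 1, 1, 1, 1, 1, 1, 1, 1, 1, -3, 1, 1, 1, 1, -3, 1, -3, -3, 1, 1],
    [1, 1, 1, 1, -3, 1, 1, 1, 1, 1, 1, 1, 1, -3, 1, 1, -3, 1, 1, 1, 1, 1, -3, -3],
    [1, 1, 1, -3, 1, -3, 1, 1, 1, 1, 1, 1, 1, 1, -3, 1, 1, -3, 1, 1, 1, 1, 1, -3],
    [1, 1, 1, 1, 1, 1, 1, -3, 1, 1, 1, 1, 1, 1, -3, -3, 1, 1, -3, 1, 1, 1, -3, 1],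
    [1, 1, 1, 1, 1, 1, -3, -3, 1, 1, 1, 1, 1, 1, 1, 1, 1, 1, 1, -3, 1, -3, 1, -3],
    [1, 1, 1, -3, 1, 1, 1, 1, -3, 1, 1, 1, 1, 1, 1, -3, -3, 1, 1, -3, 1, 1, 1, 1],
    [1, 1, 1, 1, -3, 1, -3, 1, -3, 1, 1, 1, 1, 1, -3, 1, 1, 1, 1, 1, -3, 1, 1, 1],
    [1, 1, 1, 1, -3, -3, 1, 1, 1, -3, 1, 1, 1, 1, 1, 1, 1, 1, -3, -3, 1, 1, 1, 1],
    [1, 1, 1, 1, 1, 1, 1, -3, -3, -3, 1, 1, 1, -3, 1, 1, 1, -3, 1, 1, 1, 1, 1, 1],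
    [1, 1, 1, 1, 1, 1, -3, 1, 1, 1, -3, 1, 1, 1, 1, 1, -3, -3, -3, 1, 1, 1, 1, 1],
    [1, 1, 1, 1, 1, -3, 1, 1, -3, 1, -3, 1, 1, 1, 1, 1, 1, 1, 1, 1, 1, -3, -3, 1],
    [1, 1, 1, 1, 1, 1, 1, 1, 1, -3, -3, 1, 1, 1, 1, -3, 1, 1, 1, 1, -3, 1, 1, -3],
    [1, 1, 1, 1, -3, 1, 1, 1, 1, 1, 1, -3, 1, 1, 1, -3, 1, -3, 1, 1, 1, -3, 1, 1],
    [1, 1, 1, 1, 1, -3, 1, -3, 1, 1, 1, -3, 1, 1, 1, 1, -3, 1, 1, 1, -3, 1, 1, 1],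
    [1, 1, 1, -3, 1, 1, -3, 1, 1, -3, 1, -3, 1, 1, 1, 1, 1, 1, 1, 1, 1, 1, -3, 1],
    [1, 1, 1, 1, 1, 1, 1, 1, 1, 1, -3, -3, 1, -3, -3, 1, 1, 1, 1, -3, 1, 1, 1, 1],
    [1, 1, 1, 1, 1, 1, 1, 1, 1, 1, 1, 1, -3, 1, 1, 1, 1, -3, 1, -3, -3, 1, -3, 1],
    [1, 1, 1, 1, 1, -3, -3, 1, 1, 1, 1, 1, -3, -3, 1, -3, 1, 1, 1, 1, 1, 1, 1, 1],
    [1, 1, 1, 1, 1, 1, 1, 1, 1, -3, 1, 1, -3, 1, -3, 1, -3, 1, 1, 1, 1, -3, 1, 1],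
    [1, 1, 1, -3, -3, 1, 1, -3, 1, 1, -3, 1, -3, 1, 1, 1, 1, 1, 1, 1, 1, 1, 1, 1],
    [1, 1, 1, 1, 1, 1, 1, 1, -3, 1, 1, -3, -3, 1, 1, 1, 1, 1, -3, 1, 1, 1, 1, -3]],
  [[-3, -3, -3, -3, -3, 1, 1, 1, 1, 1, 1, 1, 1, 1, 1, 1, 1, 1, 1, 1, 1, 1, 1, 1],
    [1, 1, 1, 1, -3, 1, 1, 1, 1, 1, 1, 1, 1, -3, 1, 1, 1, 1, -3, 1, -3, -3, 1, 1],
    [1, 1, 1, -3, 1, 1, 1, 1, 1, 1, 1, 1, 1, -3, 1, 1, -3, 1, 1, 1, 1, 1, -3, -3],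
    [-3, 1, 1, 1, 1, 1, 1, 1, 1, 1, 1, 1, 1, 1, -3, 1, 1, 1, 1, -3, 1, -3, -3, 1],
    [1, 1, 1, 1, -3, -3, 1, 1, 1, 1, 1, 1, 1, 1, -3, 1, 1, -3, 1, 1, 1, 1, 1, -3],
    [1, -3, 1, 1, 1, -3, 1, 1, 1, 1, 1, 1, 1, 1, 1, -3, 1, 1, 1, 1, -3, 1, -3, 1],
    [1, -3, 1, 1, 1, 1, -3, 1, 1, 1, 1, 1, 1, -3, 1, 1, 1, -3, 1, -3, 1, 1, 1, 1],
    [-3, 1, 1, 1, 1, 1, -3, 1, 1, 1, 1, 1, 1, 1, 1, -3, 1, 1, -3, 1, 1, 1, 1, -3],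
    [1, 1, -3, 1, 1, -3, -3, 1, 1, 1, 1, 1, 1, 1, 1, 1, -3, 1, 1, 1, 1, -3, 1, 1],
    [1, 1, 1, 1, -3, 1, 1, 1, -3, 1, 1, 1, 1, 1, 1, -3, -3, 1, 1, -3, 1, 1, 1, 1],
    [1, 1, -3, 1, 1, 1, 1, 1, -3, 1, 1, 1, 1, 1, 1, 1, 1, -3, -3, 1, 1, 1, -3, 1],
    [1, 1, 1, -3, 1, 1, -3, 1, -3, 1, 1, 1, 1, 1, -3, 1, 1, 1, 1, 1, -3, 1, 1, 1],
    [1, 1, -3, 1, 1, 1, 1, 1, 1, -3, 1, 1, 1, -3, -3, -3, 1, 1, 1, 1, 1, 1, 1, 1],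
    [-3, 1, 1, 1, 1, 1, 1, 1, 1, -3, 1, 1, 1, 1, 1, 1, -3, -3, 1, 1, -3, 1, 1, 1],
    [1, 1, 1, -3, 1, -3, 1, 1, 1, -3, 1, 1, 1, 1, 1, 1, 1, 1, -3, -3, 1, 1, 1, 1],
    [1, -3, 1, 1, 1, 1, 1, 1, -3, -3, 1, 1, 1, 1, 1, 1, 1, 1, 1, 1, 1, -3, 1, -3],
    [1, 1, 1, -3, 1, 1, 1, 1, 1, 1, 1, -3, 1, 1, 1, -3, 1, -3, 1, 1, 1, -3, 1, 1],
    [1, 1, -3, 1, 1, 1, 1, 1, 1, 1, 1, -3, 1, 1, 1, 1, 1, 1, 1, -3, -3, 1, 1, -3],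
    [1, -3, 1, 1, 1, 1, 1, 1, 1, 1, 1, -3, 1, 1, -3, 1, -3, 1, -3, 1, 1, 1, 1, 1],
    [-3, 1, 1, 1, 1, -3, 1, 1, -3, 1, 1, -3, 1, -3, 1, 1, 1, 1, 1, 1, 1, 1, 1, 1],
    [1, 1, 1, 1, -3, 1, -3, 1, 1, -3, 1, -3, 1, 1, 1, 1, 1, 1, 1, 1, 1, 1, -3, 1],
    [1, 1, 1, 1, 1, 1, 1, 5, 1, 1, -3, 1, -3, 1, 1, 1, 1, 1, 1, 1, 1, 1, 1, 1],
    [1, 1, 1, 1, 1, 1, 1, -3, 1, 1, 5, 1, -3, 1, 1, 1, 1, 1, 1, 1, 1, 1, 1, 1],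
    [1, 1, 1, 1, 1, 1, 1, -3, 1, 1, -3, 1, 5, 1, 1, 1, 1, 1, 1, 1, 1, 1, 1, 1]]]

/-- orbit data -/
def octPointTargets : List ℕ := [1, 2, 4, 8, 16, 128, 1024, 4096]

/-- orbit data -/
def octPointWords : List ℕ := [0, 25, 3, 2, 1, 43, 33, 7]

/-- orbit data -/
def octPairTargets : List ℕ := [96, 288, 544, 2080, 8224, 16416, 32800, 65568, 131104, 262176, 524320, 1048608, 2097184, 4194336, 8388640, 320, 576, 2112, 8256, 16448, 32832, 65600, 131136, 262208, 524352, 1048640, 2097216, 4194368, 8388672, 768, 2304, 8448, 16640, 33024, 65792, 131328, 262400, 524544, 1048832, 2097408, 4194560, 8388864, 2560, 8704, 16896, 33280, 66048, 131584, 262656, 524800, 1049088, 2097664, 4194816, 8389120, 10240, 18432,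 34816, 67584, 133120, 264192, 526336, 1050624, 2099200, 4196352, 8390656, 24576, 40960, 73728, 139264, 270336, 532480, 1056768, 2105344, 4202496, 8396800, 49152, 81920, 147456, 278528, 540672, 1064960, 2113536, 4210688, 8404992, 98304, 163840, 294912, 557056, 1081344, 2129920, 4227072, 8421376, 196608, 327680, 589824, 1114112, 2162688, 4259840, 8454144, 393216, 655360, 1179648, 2228224, 4325376, 8519680, 786432, 1310720, 2359296, 4456448, 8650752, 1572864, 2621440, 4718592, 8912896, 3145728, 5242880, 9437184, 6291456, 10485760, 12582912]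

/-- orbit data -/
def octPairWords : List ℕ := [0, 808, 631, 143, 103, 26, 107, 802, 23, 421, 163, 176, 34, 1213, 88, 215, 590, 1021, 154, 1036, 586, 35, 5, 175, 160, 134, 179, 1255, 142, 58, 67, 80, 86, 44, 196, 178, 133, 211, 1237, 4, 691, 62, 415, 94, 331, 931, 278, 28, 68, 49, 85, 7, 122, 13, 46, 169, 847, 949, 124, 805, 943, 139, 52, 118, 556, 193, 50, 208, 772, 787, 98, 1165, 187, 1148, 158, 1195, 31, 173, 8, 202, 979, 692, 65, 22, 349, 19, 1123, 2, 205, 140, 271, 32, 16, 643, 172, 157, 191, 10, 199, 101, 206, 79, 11, 1051, 1, 733, 166, 55, 14, 152, 25, 29, 43, 115, 517, 403, 100, 47, 59, 91]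

/-- orbit data -/
def dodOutTargets : List ℕ := [128, 2048, 4096, 8192, 16384, 65536, 262144, 524288, 1048576, 2097152, 4194304, 8388608]

/-- orbit data -/
def dodOutWords : List ℕ := [0, 4, 3, 2, 1, 10, 25, 7, 8, 97, 14, 16]

end Cfsg.Agent.Spor
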