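import Cfsg.Agent.Lib.Spor.GolayCount
import Cfsg.Agent.Lib.Spor.GolayDodecad
import Cfsg.Agent.Lib.Spor.GolayStabCerts
import Cfsg.Agent.Lib.Spor.GolayStab

/-!
The invariant subspaces of the permutation module, and fixed points on the cocode.
-/

set_option autoImplicit false
set_option maxRecDepth 100000

open scoped Pointwise

namespace Cfsg.Agent.Spor

open Cfsg

local notation "Wd" => GolayPt → ZMod 2

/-- a permutation acting on words -/
def actW (σ : Equiv.Perm GolayPt) (w : Wd) : Wd := fun p => w (σ.symm p)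

theorem actW_mul (σ τ : Equiv.Perm GolayPt) (w : Wd) : actW (σ * τ) w = actW σ (actW τ w) := rfl

theorem actW_add (σ : Equiv.Perm GolayPt) (v w : Wd) : actW σ (v + w) = actW σ v + actW σ w := rfl

theorem actW_const (σ : Equiv.Perm GolayPt) (k : ZMod 2) : actW σ (fun _ => k) = fun _ => k := rfl

theorem support₂_actW (σ : Equiv.Perm GolayPt) (w : Wd) : support₂ (actW σ w) = σ • support₂ w := by
  ext p
  rw [mem_support₂, smul_finset_eq_image, Finset.mem_image]
  refine ⟨fun h => ⟨σ.symm p, mem_support₂.2 h, σ.apply_symm_apply p⟩, ?_⟩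
  rintro ⟨q, hq, rfl⟩
  show w (σ.symm (σ q)) ≠ 0
  rw [σ.symm_apply_apply]; exact mem_support₂.1 hq

theorem wmask_actW {l : List ℕ} (hl : lok l = true) (w : Wd) :
    wmask (actW (lperm l) w) = pm l (wmask w) 0 := by
  rw [wmask, support₂_actW, mask_smul_lperm hl]; rfl

theorem actW_mem {σ : Equiv.Perm GolayPt} (hσ : σ ∈ M24) {w : Wd} (hw : w ∈ golayCode) :
    actW σ w ∈ golayCode := by
  rw [mem_code, wmask, support₂_actW]
  exact mem_supports.1 (smul_supports hσ (mem_supports.2 (mem_code.1 hw)))

/-- the word with a given support -/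
def wordOf (s : Finset GolayPt) : Wd := ofMaskW (mask s)

theorem support₂_wordOf (s : Finset GolayPt) : support₂ (wordOf s) = s := by
  rw [wordOf, support₂_ofMaskW, ofMask_mask]

theorem wmask_ofMaskW {m : ℕ} (h : m < 2 ^ 24) : wmask (ofMaskW m) = m := by
  rw [wmask, support₂_ofMaskW, mask_ofMask h]

theorem mem_code_of_support {v : Wd} {m : ℕ} (hm : m ∈ codeMasks) (h : support₂ v = ofMask m) :
    v ∈ golayCode := by
  rw [mem_code, wmask, h, mask_ofMask (codeMasks_lt m hm)]; exact hm

/-- an invariant submodule -/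
def IsInv (W : Submodule (ZMod 2) Wd) : Prop := ∀ σ ∈ M24, ∀ w ∈ W, actW σ w ∈ W

theorem one_mem_code' : (fun _ => (1 : ZMod 2) : Wd) ∈ golayCode := mem_code.2 one_mem_codeMasks

theorem isInv_code : IsInv golayCode := fun _ hσ _ hw => actW_mem hσ hw

theorem IsInv.inf {V W : Submodule (ZMod 2) Wd} (hV : IsInv V) (hW : IsInv W) : IsInv (V ⊓ W) :=
  fun σ hσ w hw => ⟨hV σ hσ w hw.1, hW σ hσ w hw.2⟩

theorem octBasis_facts : (∀ m ∈ octBasis, m ∈ octMasks) ∧ ∀ g ∈ codeBasis, g ∈ xorSpan octBasis := by
  decide +kernel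

theorem octad_sums : (∃ d ∈ dodMasks, pc (baseDod ^^^ d) = 8) ∧ ∃ o ∈ octMasks, pc (5279 ^^^ o) = 8 := by
  decide +kernel

theorem code_mem_of_octad {K : Submodule (ZMod 2) Wd} (hK : IsInv K) {v : Wd} (hv : v ∈ K)
    (ho : support₂ v ∈ octads) : golayCode ≤ K := by
  have hall : ∀ o ∈ octads, wordOf o ∈ K := by
    intro o hoo
    obtain ⟨σ, hσ, h⟩ := octad_trans ho hoo
    have := hK σ hσ v hv
    rwa [show actW σ v = wordOf o from support₂_injective (by rw [support₂_actW, h, support₂_wordOf])] at this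
  have hspan : ∀ m ∈ xorSpan octBasis, ∃ w ∈ K, wmask w = m := by
    apply xorSpan_induction
    · exact ⟨0, zero_mem _, wmask_zero⟩
    · rintro a b ⟨v, hv, rfl⟩ ⟨u, hu, rfl⟩
      exact ⟨v + u, add_mem hv hu, wmask_add v u⟩
    · intro g hg
      have h8 := octBasis_facts.1 g hg
      refine ⟨wordOf (ofMask g), hall _ ?_, ?_⟩
      · rw [mem_octads, mask_ofMask (octMasks_lt h8)]; exact h8
      · rw [wmask, support₂_wordOf, mask_ofMask (octMasks_lt h8)]
  have hcb : ∀ m ∈ codeMasks, ∃ w ∈ K, wmask w = m := by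
    apply xorSpan_induction
    · exact ⟨0, zero_mem _, wmask_zero⟩
    · rintro a b ⟨v, hv, rfl⟩ ⟨u, hu, rfl⟩
      exact ⟨v + u, add_mem hv hu, wmask_add v u⟩
    · exact fun g hg => hspan g (octBasis_facts.2 g hg)
  intro w hw
  obtain ⟨u, hu, he⟩ := hcb _ (mem_code.1 hw)
  exact wmask_injective he ▸ hu

/-- the invariant subspaces inside the code -/
theorem inv_in_code {K : Submodule (ZMod 2) Wd} (hK : IsInv K) (hle : K ≤ golayCode) :
    K ≤ Submodule.span (ZMod 2) {fun _ => (1 : ZMod 2)} ∨ K = golayCode := by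
  by_cases h : K ≤ Submodule.span (ZMod 2) {fun _ => (1 : ZMod 2)}
  · exact Or.inl h
  refine Or.inr (le_antisymm hle ?_)
  obtain ⟨v, hv, hn⟩ := SetLike.not_le_iff_exists.1 h
  have hm := mem_code.1 (hle hv)
  rcases codeMasks_weight _ hm with h0 | h8 | h12 | h16 | h24
  · refine absurd ?_ hn
    rw [wmask, pc_mask, Finset.card_eq_zero] at h0
    rw [show v = 0 from support₂_injective (h0.trans (by ext p; simp [mem_support₂]))]
    exact zero_mem _
  · exact code_mem_of_octad hK hv (mem_octads.2 (List.mem_filter.2 ⟨hm, beq_iff_eq.2 h8⟩))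
  · have hd : support₂ v ∈ dodecads := mem_dodecads.2 (List.mem_filter.2 ⟨hm, beq_iff_eq.2 h12⟩)
    obtain ⟨d, hd', hpc⟩ := octad_sums.1
    have hdd : ofMask d ∈ dodecads := by rw [mem_dodecads, mask_ofMask (dodMasks_lt hd')]; exact hd'
    have mem : ∀ e ∈ dodecads, wordOf e ∈ K := fun e he => by
      obtain ⟨σ, hσ, h⟩ := dodecad_trans hd he
      have := hK σ hσ v hv
      rwa [show actW σ v = wordOf e from support₂_injective (by rw [support₂_actW, h, support₂_wordOf])] at this
    refine code_mem_of_octad hK (add_mem (mem _ baseDod_mem) (mem _ hdd)) (mem_octads.2 ?_)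
    rw [support₂_add, support₂_wordOf, support₂_wordOf, mask_symmDiff, mask_ofMask baseDod_lt,
      mask_ofMask (dodMasks_lt hd')]
    refine List.mem_filter.2 ⟨codeMasks_xor ?_ (List.mem_filter.1 hd').1, beq_iff_eq.2 hpc⟩
    have := (mem_dodecads.1 baseDod_mem)
    rw [mask_ofMask baseDod_lt] at this
    exact (List.mem_filter.1 this).1
  · -- complements of octads
    set o : Wd := v + fun _ => 1 with ho
    have hoct : support₂ o ∈ octads := by
      refine mem_octads.2 (List.mem_filter.2 ⟨mem_code.1 (add_mem (hle hv) one_mem_code'), beq_iff_eq.2 ?_⟩)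
      have e : support₂ o = (support₂ v)ᶜ := by
        ext p
        rw [Finset.mem_compl, mem_support₂, mem_support₂, ho, Pi.add_apply]
        generalize v p = a
        revert a; decide
      rw [e, pc_mask, Finset.card_compl, show (support₂ v).card = 16 by rw [wmask, pc_mask] at h16; exact h16]
      decide +kernel
    obtain ⟨r, hr, hpc⟩ := octad_sums.2
    have hrr : ofMask r ∈ octads := by rw [mem_octads, mask_ofMask (octMasks_lt hr)]; exact hr
    have hbase : ofMask 5279 ∈ octads := baseOctad_mem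
    have mem : ∀ e ∈ octads, (wordOf e + fun _ => (1 : ZMod 2)) ∈ K := fun e he => by
      obtain ⟨σ, hσ, h⟩ := octad_trans hoct he
      have := hK σ hσ v hv
      have hv' : v = o + fun _ => (1 : ZMod 2) := by
        rw [ho, add_assoc, ZModModule.add_self, add_zero]
      rw [hv', actW_add, actW_const,
        show actW σ o = wordOf e from support₂_injective (by rw [support₂_actW, h, support₂_wordOf])] at this
      exact this
    have hsum := add_mem (mem _ hbase) (mem _ hrr)
    rw [show (wordOf (ofMask 5279) + fun _ => (1 : ZMod 2)) + (wordOf (ofMask r) + fun _ => (1 : ZMod 2)) =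
      wordOf (ofMask 5279) + wordOf (ofMask r) by rw [add_add_add_comm, ZModModule.add_self, add_zero]] at hsum
    refine code_mem_of_octad hK hsum (mem_octads.2 ?_)
    rw [support₂_add, support₂_wordOf, support₂_wordOf, mask_symmDiff, mask_ofMask (octMasks_lt hr),
      mask_ofMask (by norm_num)]
    refine List.mem_filter.2 ⟨codeMasks_xor ?_ (List.mem_filter.1 hr).1, beq_iff_eq.2 hpc⟩
    have := mem_octads.1 hbase
    rw [mask_ofMask (by norm_num)] at this
    exact (List.mem_filter.1 this).1
  · refine absurd ?_ hn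
    rw [wmask, pc_mask] at h24
    have : support₂ v = Finset.univ := Finset.eq_univ_of_card _ (h24.trans (by decide +kernel))
    rw [show v = fun _ => (1 : ZMod 2) from funext fun p => by
      have h1 : v p ≠ 0 := mem_support₂.1 (this ▸ Finset.mem_univ p)
      revert h1; generalize v p = a; revert a; decide]
    exact Submodule.mem_span_singleton_self _

/-! ### the dot product -/

noncomputable def dotB : LinearMap.BilinForm (ZMod 2) Wd := Matrix.toBilin' (1 : Matrix GolayPt GolayPt (ZMod 2))

theorem dotB_apply (v w : Wd) : dotB v w = ∑ p, v p * w p := by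
  rw [dotB, Matrix.toBilin'_apply', Matrix.one_mulVec]; rfl

theorem dotB_refl : dotB.IsRefl := fun v w h => by
  rw [dotB_apply] at h ⊢; simpa [mul_comm] using h

theorem dotB_nondeg : dotB.Nondegenerate :=
  LinearMap.BilinForm.nondegenerate_toBilin'_of_det_ne_zero' 1 (by rw [Matrix.det_one]; exact one_ne_zero)

theorem mem_orth {W : Submodule (ZMod 2) Wd} {v : Wd} :
    v ∈ dotB.orthogonal W ↔ ∀ w ∈ W, ∑ p, w p * v p = 0 := by
  simp only [LinearMap.BilinForm.mem_orthogonal_iff, LinearMap.isOrtho_def, dotB_apply]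

theorem orth_code : dotB.orthogonal golayCode = golayCode := by
  refine (Submodule.eq_of_le_of_finrank_le (fun v hv => mem_orth.2 fun w hw => code_orth hw hv) ?_).symm
  rw [LinearMap.BilinForm.finrank_orthogonal dotB_nondeg, finrank_golayCode, Module.finrank_pi,
    show Fintype.card GolayPt = 24 by decide +kernel]

theorem dot_actW (σ : Equiv.Perm GolayPt) (v w : Wd) :
    ∑ p, actW σ v p * w p = ∑ p, v p * actW σ⁻¹ w p := by
  refine (Equiv.sum_comp σ (fun p => actW σ v p * w p)).symm.trans ?_
  refine Finset.sum_congr rfl fun p _ => ?_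
  show v (σ.symm (σ p)) * w (σ p) = v p * w (σ p)
  rw [σ.symm_apply_apply]

theorem IsInv.orth {W : Submodule (ZMod 2) Wd} (hW : IsInv W) : IsInv (dotB.orthogonal W) := by
  intro σ hσ v hv
  rw [mem_orth] at hv ⊢
  intro w hw
  have h := hv (actW σ⁻¹ w) (hW _ (inv_mem hσ) w hw)
  rw [← h]
  rw [Finset.sum_congr rfl fun p _ => mul_comm (w p) (actW σ v p), dot_actW]
  exact Finset.sum_congr rfl fun p _ => mul_comm _ _

theorem orth_one {v : Wd} :
    v ∈ dotB.orthogonal (Submodule.span (ZMod 2) {fun _ => (1 : ZMod 2)}) ↔ ∑ p, v p = 0 := by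
  rw [mem_orth]
  refine ⟨fun h => ?_, fun h w hw => ?_⟩
  · simpa using h _ (Submodule.mem_span_singleton_self _)
  · obtain ⟨c, rfl⟩ := Submodule.mem_span_singleton.1 hw
    simp [← Finset.mul_sum, h]

theorem le_one_cases {K : Submodule (ZMod 2) Wd}
    (h : K ≤ Submodule.span (ZMod 2) {fun _ => (1 : ZMod 2)}) :
    K = ⊥ ∨ K = Submodule.span (ZMod 2) {fun _ => (1 : ZMod 2)} := by
  by_cases h1 : (fun _ => (1 : ZMod 2) : Wd) ∈ K
  · exact Or.inr (le_antisymm h ((Submodule.span_singleton_le_iff_mem _ _).2 h1))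
  · refine Or.inl ((Submodule.eq_bot_iff K).2 fun v hv => ?_)
    obtain ⟨c, rfl⟩ := Submodule.mem_span_singleton.1 (h hv)
    rcases (by decide : ∀ a : ZMod 2, a = 0 ∨ a = 1) c with rfl | rfl
    · exact zero_smul _ _
    · exact absurd (by rwa [one_smul] at hv) h1

theorem invariant_subspaces {W : Submodule (ZMod 2) Wd} (hW : IsInv W) :
    W = ⊥ ∨ W = Submodule.span (ZMod 2) {fun _ => (1 : ZMod 2)} ∨ W = golayCode ∨
      (W : Set Wd) = {w | ∑ p, w p = 0} ∨ W = ⊤ := by
  set one : Submodule (ZMod 2) Wd := Submodule.span (ZMod 2) {fun _ => (1 : ZMod 2)} with hone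
  have three : ∀ K, IsInv K → K ≤ golayCode → K = ⊥ ∨ K = one ∨ K = golayCode := fun K hK hle => by
    rcases inv_in_code hK hle with h | h
    · rcases le_one_cases h with h | h
      exacts [Or.inl h, Or.inr (Or.inl h)]
    · exact Or.inr (Or.inr h)
  rcases inv_in_code (hW.inf isInv_code) inf_le_right with hK | hK
  swap
  · have hCW : golayCode ≤ W := hK ▸ inf_le_left
    have hperp : dotB.orthogonal W ≤ golayCode :=
      (LinearMap.BilinForm.orthogonal_le hCW).trans orth_code.le
    rw [← LinearMap.BilinForm.orthogonal_orthogonal dotB_nondeg dotB_refl W]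
    rcases three _ hW.orth hperp with h | h | h <;> rw [h]
    · refine Or.inr (Or.inr (Or.inr (Or.inr ?_)))
      rw [eq_top_iff]
      intro v _
      rw [mem_orth]
      intro w hw
      rw [(Submodule.mem_bot _).1 hw]; simp
    · exact Or.inr (Or.inr (Or.inr (Or.inl (Set.ext fun v => orth_one))))
    · exact Or.inr (Or.inr (Or.inl orth_code))
  rcases inv_in_code (hW.orth.inf isInv_code) inf_le_right with hL | hL
  swap
  · have hle : W ≤ golayCode := by
      rw [← orth_code, ← LinearMap.BilinForm.orthogonal_orthogonal dotB_nondeg dotB_refl W]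
      exact LinearMap.BilinForm.orthogonal_le (hL ▸ inf_le_left)
    rcases three W hW hle with h | h | h
    exacts [Or.inl h, Or.inr (Or.inl h), Or.inr (Or.inr (Or.inl h))]
  exfalso
  -- every even word is congruent to a member
  have hsum : ∀ v : Wd, ∑ p, v p = 0 → ∃ w ∈ W, ∃ c ∈ golayCode, w + c = v := by
    intro v hv
    rw [← Submodule.mem_sup, ← LinearMap.BilinForm.orthogonal_orthogonal dotB_nondeg dotB_refl (W ⊔ golayCode)]
    have hle : dotB.orthogonal (W ⊔ golayCode) ≤ one :=
      le_trans (le_inf (LinearMap.BilinForm.orthogonal_le le_sup_left)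
        ((LinearMap.BilinForm.orthogonal_le le_sup_right).trans orth_code.le)) hL
    exact LinearMap.BilinForm.orthogonal_le hle (orth_one.2 hv)
  have honeC : one ≤ golayCode := (Submodule.span_singleton_le_iff_mem _ _).2 one_mem_code'
  have hpair : ∀ a b : GolayPt, a ≠ b → wordOf {a, b} ∈ W ⊔ one := by
    intro a b hab
    obtain ⟨w, hw, c, hc, he⟩ := hsum (wordOf {a, b}) (by
      have hv : ∀ p, wordOf {a, b} p = if p ∈ ({a, b} : Finset GolayPt) then 1 else 0 := fun p => by
        have h1 : p ∈ support₂ (wordOf {a, b}) ↔ p ∈ ({a, b} : Finset GolayPt) := by rw [support₂_wordOf]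
        rw [mem_support₂] at h1
        by_cases h : p ∈ ({a, b} : Finset GolayPt)
        · rw [if_pos h]
          exact ((by decide : ∀ t : ZMod 2, t = 0 ∨ t = 1) _).resolve_left (h1.2 h)
        · rw [if_neg h]
          exact not_not.1 (fun hh => h (h1.1 hh))
      rw [Finset.sum_congr rfl fun p _ => hv p, Finset.sum_boole, Finset.filter_univ_mem,
        Finset.card_pair hab]
      decide)
    have hfix : ∀ σ ∈ M24, σ a = a → σ b = b → actW σ c = c := by
      intro σ hσ ha hb
      have hfv : actW σ (wordOf {a, b}) = wordOf {a, b} := support₂_injective (by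
        rw [support₂_actW, support₂_wordOf, smul_finset_eq_image, Finset.image_insert, Finset.image_singleton, ha, hb])
      have hmem : actW σ c + c ∈ W ⊓ golayCode := by
        refine ⟨?_, add_mem (actW_mem hσ hc) hc⟩
        have e : actW σ c + c = actW σ w + w := by
          have h1 := congrArg (actW σ) he
          rw [actW_add, hfv, ← he] at h1
          calc actW σ c + c = (actW σ w + actW σ c) + (actW σ w + c) := by
                rw [add_add_add_comm, ZModModule.add_self, zero_add]
            _ = (w + c) + (actW σ w + c) := by rw [h1]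
            _ = actW σ w + w := by
                rw [add_add_add_comm, ZModModule.add_self, add_zero, add_comm]
        rw [SetLike.mem_coe, e]
        exact add_mem (hW σ hσ w hw) hw
      obtain ⟨k, hk⟩ := Submodule.mem_span_singleton.1 (hK hmem)
      have hka := congrFun hk a
      simp only [Pi.smul_apply, smul_eq_mul, mul_one, Pi.add_apply, actW] at hka
      rw [show σ.symm a = a from σ.injective (by rw [σ.apply_symm_apply, ha]), ZModModule.add_self] at hka
      rw [hka, zero_smul] at hk
      rw [← sub_eq_zero, ZModModule.sub_eq_add, ← hk]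
    -- the codeword is constant away from the pair
    have hconst : ∀ p q : GolayPt, p ≠ a → p ≠ b → q ≠ a → q ≠ b → c p = c q := by
      intro p q hpa hpb hqa hqb
      obtain ⟨σ, hσ, hσx⟩ := M24_trans (k := 3) (by norm_num) ⟨![a, b, p], by
        intro i j h; fin_cases i <;> fin_cases j <;> simp_all⟩ ⟨![a, b, q], by
        intro i j h; fin_cases i <;> fin_cases j <;> simp_all⟩
      have h0 : σ a = a := hσx 0
      have h1 : σ b = b := hσx 1
      have h2 : σ p = q := hσx 2
      have := congrFun (hfix σ hσ h0 h1) q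
      rw [← this]
      show c p = c (σ.symm q)
      rw [← h2, σ.symm_apply_apply]
    obtain ⟨t, hta, htb⟩ : ∃ t : GolayPt, t ≠ a ∧ t ≠ b := by
      obtain ⟨t, -, ht⟩ := Finset.exists_mem_notMem_of_card_lt_card (s := ({a, b} : Finset GolayPt))
        (t := Finset.univ) (lt_of_le_of_lt Finset.card_le_two (by decide +kernel))
      exact ⟨t, fun e => ht (by simp [e]), fun e => ht (by simp [e])⟩
    set d : Wd := c + fun _ => c t with hd
    have hdC : d ∈ golayCode := add_mem hc <| by
      rcases (by decide : ∀ z : ZMod 2, z = 0 ∨ z = 1) (c t) with h | h <;> rw [h]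
      exacts [zero_mem _, one_mem_code']
    have hsub : support₂ d ⊆ {a, b} := fun p hp => by
      by_contra hn
      simp only [Finset.mem_insert, Finset.mem_singleton, not_or] at hn
      apply mem_support₂.1 hp
      show c p + c t = 0
      rw [hconst p t hn.1 hn.2 hta htb, ZModModule.add_self]
    have hd0 : d = 0 := by
      have hcard : (support₂ d).card ≤ 2 := (Finset.card_le_card hsub).trans Finset.card_le_two
      have hw' := codeMasks_weight _ (mem_code.1 hdC)
      rw [wmask, pc_mask] at hw'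
      refine support₂_injective ?_
      have : support₂ d = ∅ := Finset.card_eq_zero.1 (by omega)
      rw [this]; ext p; simp [mem_support₂]
    have hc1 : c ∈ one := by
      refine Submodule.mem_span_singleton.2 ⟨c t, ?_⟩
      funext p
      have := congrFun hd0 p
      simp only [hd, Pi.add_apply, Pi.zero_apply] at this
      simp only [Pi.smul_apply, smul_eq_mul, mul_one]
      exact (add_eq_zero_iff_eq_neg.1 this).trans (ZModModule.neg_eq_self _) |>.symm
    rw [← he]
    exact Submodule.add_mem_sup hw hc1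
  -- an octad is a sum of four pairs
  have hoct : wordOf (ofMask 5279) ∈ W ⊔ one := by
    have e : wordOf (ofMask 5279) = wordOf {pt 0, pt 1} + wordOf {pt 2, pt 3} + wordOf {pt 4, pt 7} +
        wordOf {pt 10, pt 12} := by
      apply wmask_injective
      rw [wmask_add, wmask_add, wmask_add]
      simp only [wmask, support₂_wordOf]
      decide +kernel
    rw [e]
    exact add_mem (add_mem (add_mem (hpair _ _ (by decide +kernel)) (hpair _ _ (by decide +kernel)))
      (hpair _ _ (by decide +kernel))) (hpair _ _ (by decide +kernel))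
  obtain ⟨w, hw, k, hk, he⟩ := Submodule.mem_sup.1 hoct
  have hoC : wordOf (ofMask 5279) ∈ golayCode := mem_code_of_support
    (List.mem_filter.1 (by rw [← mask_ofMask (m := 5279) (by norm_num)]; exact mem_octads.1 baseOctad_mem) |>.1)
    (support₂_wordOf _)
  have hwC : w ∈ golayCode := by
    have : w = wordOf (ofMask 5279) + k := by rw [← he, add_assoc, ZModModule.add_self, add_zero]
    rw [this]; exact add_mem hoC (honeC hk)
  have hin : wordOf (ofMask 5279) ∈ one := he ▸ add_mem (hK ⟨hw, hwC⟩) hk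
  obtain ⟨z, hz⟩ := Submodule.mem_span_singleton.1 hin
  have hs := congrArg (fun f : Wd => wmask f) hz
  simp only [wmask, support₂_wordOf] at hs
  rcases (by decide : ∀ t : ZMod 2, t = 0 ∨ t = 1) z with rfl | rfl <;> revert hs <;> decide +kernel

/-! ### fixed points on the cocode -/

/-- chosen differences `g b + b` -/
def diffMasks (gs : List (List ℕ)) (ps : List (ℕ × ℕ)) : List ℕ :=
  ps.map fun q => pm (gs.getD q.1 []) (codeBasis.getD q.2 0) 0 ^^^ codeBasis.getD q.2 0

def octDiff : List (ℕ × ℕ) :=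
  [(0, 0), (0, 1), (0, 2), (0, 3), (0, 4), (0, 5), (0, 6), (0, 7), (0, 9), (0, 10), (1, 1), (1, 4)]

def dodDiff : List (ℕ × ℕ) :=
  [(0, 0), (0, 1), (0, 2), (0, 3), (0, 4), (0, 5), (0, 6), (0, 7), (0, 9), (0, 10), (1, 0), (1, 2)]

theorem diff_span : (∀ g ∈ codeBasis, g ∈ xorSpan (diffMasks octStabGens octDiff)) ∧
    (∀ g ∈ codeBasis, g ∈ xorSpan (diffMasks dodStabGens dodDiff)) ∧
    (∀ q ∈ octDiff, octStabGens.getD q.1 [] ∈ octStabGens ∧ codeBasis.getD q.2 0 ∈ codeBasis) ∧
    ∀ q ∈ dodDiff, dodStabGens.getD q.1 [] ∈ dodStabGens ∧ codeBasis.getD q.2 0 ∈ codeBasis := by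
  decide +kernel

theorem fixed_coset {gs : List (List ℕ)} {root : ℕ} (hroot : root < 2 ^ 24)
    (hgs : stabGens root gs = true) {ps : List (ℕ × ℕ)}
    (hspan : ∀ g ∈ codeBasis, g ∈ xorSpan (diffMasks gs ps))
    (hps : ∀ q ∈ ps, gs.getD q.1 [] ∈ gs ∧ codeBasis.getD q.2 0 ∈ codeBasis)
    {w : Wd} (hw : ∀ σ ∈ M24, σ • ofMask root = ofMask root → actW σ w + w ∈ golayCode) :
    w ∈ golayCode := by
  obtain ⟨-, hlok, hstab⟩ := stabGens_sound hroot hgs
  have key : ∀ m ∈ codeMasks, ∃ v : Wd, wmask v = m ∧ ∑ p, v p * w p = 0 := by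
    have hadd : ∀ a b, (∃ v : Wd, wmask v = a ∧ ∑ p, v p * w p = 0) →
        (∃ v : Wd, wmask v = b ∧ ∑ p, v p * w p = 0) →
        ∃ v : Wd, wmask v = a ^^^ b ∧ ∑ p, v p * w p = 0 := by
      rintro a b ⟨v, rfl, hv⟩ ⟨u, rfl, hu⟩
      exact ⟨v + u, wmask_add v u, by simp [add_mul, Finset.sum_add_distrib, hv, hu]⟩
    refine xorSpan_induction ⟨0, wmask_zero, by simp⟩ hadd fun g hg => ?_
    refine xorSpan_induction ⟨0, wmask_zero, by simp⟩ hadd ?_ g (hspan g hg)
    intro m hm
    obtain ⟨q, hq, rfl⟩ := List.mem_map.1 hm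
    obtain ⟨hl, hb⟩ := hps q hq
    set l := gs.getD q.1 []
    set b := codeBasis.getD q.2 0
    have hb' : b < 2 ^ 24 := by
      have : ∀ g ∈ codeBasis, g < 2 ^ 24 := by decide +kernel
      exact this b hb
    have hl' : lok l = true := List.all_eq_true.1 hlok l hl
    have hbC : ofMaskW b ∈ golayCode := by
      rw [mem_code, wmask_ofMaskW hb']
      have : ∀ g ∈ codeBasis, g ∈ codeMasks := by decide +kernel
      exact this b hb
    refine ⟨actW (lperm l) (ofMaskW b) + ofMaskW b, by rw [wmask_add, wmask_actW hl', wmask_ofMaskW hb'], ?_⟩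
    obtain ⟨h1, h2⟩ := hstab l hl
    have hinv := hw (lperm l)⁻¹ (inv_mem h1)
      (inv_smul_eq_iff.2 (MulAction.mem_stabilizer_iff.1 h2).symm)
    have h3 := code_orth hbC hinv
    rw [← h3]
    simp only [Pi.add_apply, add_mul, mul_add, Finset.sum_add_distrib]
    rw [dot_actW]
  rw [← orth_code, mem_orth]
  intro c hc
  obtain ⟨v, hv, h⟩ := key _ (mem_code.1 hc)
  rw [← wmask_injective hv]
  exact h

theorem stabilizer_moves_coset (u : Wd) (hu : u ∈ golayCode) (w : Wd) (hw : w ∉ golayCode) :
    ∃ σ ∈ M24, actW σ u = u ∧ actW σ w - w ∉ golayCode := by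
  by_contra hcon
  push Not at hcon
  simp only [ZModModule.sub_eq_add] at hcon
  -- transport along an element moving a root set to the support
  have main : ∀ τ ∈ M24, ∀ root, (root = 5279 ∨ root = baseDod) →
      (∀ σ ∈ M24, σ • (τ • ofMask root) = τ • ofMask root → actW σ u = u) → False := by
    intro τ hτ root hroot hfix
    apply hw
    have hwτ : actW τ⁻¹ w ∈ golayCode := by
      have base : ∀ σ ∈ M24, σ • ofMask root = ofMask root → actW σ (actW τ⁻¹ w) + actW τ⁻¹ w ∈ golayCode := by
        intro σ hσ hs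
        have h1 := hcon (τ * σ * τ⁻¹) (mul_mem (mul_mem hτ hσ) (inv_mem hτ))
          (hfix _ (mul_mem (mul_mem hτ hσ) (inv_mem hτ)) (by rw [mul_smul, inv_smul_smul, mul_smul, hs]))
        have h2 := actW_mem (inv_mem hτ) h1
        rwa [actW_add, ← actW_mul, show τ⁻¹ * (τ * σ * τ⁻¹) = σ * τ⁻¹ by group, actW_mul] at h2
      rcases hroot with rfl | rfl
      · exact fixed_coset (by norm_num) octStabGens_ok diff_span.1 diff_span.2.2.1 base
      · exact fixed_coset baseDod_lt dodStabGens_ok diff_span.2.1 diff_span.2.2.2 base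
    have h := actW_mem hτ hwτ
    rwa [← actW_mul, mul_inv_cancel] at h
  have hfix_of : ∀ (s : Finset GolayPt), support₂ u = s ∨ support₂ u = sᶜ →
      ∀ σ : Equiv.Perm GolayPt, σ • s = s → actW σ u = u := fun s hs σ h => support₂_injective (by
    rw [support₂_actW]
    rcases hs with e | e <;> rw [e]
    · exact h
    · rw [smul_compl', h])
  rcases codeMasks_weight _ (mem_code.1 hu) with h | h | h | h | h <;> rw [wmask, pc_mask] at h
  · refine main 1 (one_mem _) 5279 (Or.inl rfl) fun σ _ _ => support₂_injective ?_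
    rw [support₂_actW, Finset.card_eq_zero.1 h]; rfl
  · have ho : support₂ u ∈ octads := mem_octads.2 (List.mem_filter.2 ⟨mem_code.1 hu, beq_iff_eq.2 (by rw [pc_mask]; exact h)⟩)
    obtain ⟨τ, hτ, he⟩ := octad_map _ ho
    exact main τ hτ 5279 (Or.inl rfl) fun σ _ hs => hfix_of _ (Or.inl rfl) σ (by rw [← he]; exact hs)
  · have hd : support₂ u ∈ dodecads := mem_dodecads.2 (List.mem_filter.2 ⟨mem_code.1 hu, beq_iff_eq.2 (by rw [pc_mask]; exact h)⟩)
    obtain ⟨τ, hτ, he⟩ := dodecad_trans baseDod_mem hd
    exact main τ hτ baseDod (Or.inr rfl) fun σ _ hs => hfix_of _ (Or.inl rfl) σ (by rw [← he]; exact hs)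
  · have ho : (support₂ u)ᶜ ∈ octads := by
      refine mem_octads.2 (List.mem_filter.2 ⟨?_, beq_iff_eq.2 ?_⟩)
      · have := mem_code.1 (add_mem hu one_mem_code')
        rwa [wmask, show support₂ (u + fun _ => (1 : ZMod 2)) = (support₂ u)ᶜ by
          ext p; rw [Finset.mem_compl, mem_support₂, mem_support₂, Pi.add_apply]
          generalize u p = a; revert a; decide] at this
      · rw [pc_mask, Finset.card_compl, h]; decide +kernel
    obtain ⟨τ, hτ, he⟩ := octad_map _ ho
    exact main τ hτ 5279 (Or.inl rfl) fun σ _ hs =>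
      hfix_of (support₂ u)ᶜ (Or.inr (compl_compl _).symm) σ (by rw [← he]; exact hs)
  · refine main 1 (one_mem _) 5279 (Or.inl rfl) fun σ _ _ => support₂_injective ?_
    rw [support₂_actW, Finset.eq_univ_of_card _ (h.trans (by decide +kernel))]
    exact Finset.smul_finset_univ

end Cfsg.Agent.Spor
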