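import Cfsg.Agent.Lib.Spor.LeechBasic
import Cfsg.Agent.Lib.Spor.GolayCount
import Cfsg.Agent.Lib.Spor.GolayModules

/-!
The lattice modulo two: short congruent vectors, a singular subgroup, the index, generators.
-/

set_option autoImplicit false
set_option maxRecDepth 100000

namespace Cfsg.Agent.Spor

open Cfsg

local notation "Zv" => GolayPt → ℤ

theorem sqNorm_neg (x : Zv) : sqNorm (-x) = sqNorm x := by simp [sqNorm]

theorem dotInt_smul_right (x y : Zv) (k : ℤ) : dotInt x (k • y) = k * dotInt x y := by
  simp only [dotInt, Pi.smul_apply, smul_eq_mul, Finset.mul_sum]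
  exact Finset.sum_congr rfl fun i _ => by ring

theorem sqNorm_smul (k : ℤ) (x : Zv) : sqNorm (k • x) = k ^ 2 * sqNorm x := by
  simp only [sqNorm, Pi.smul_apply, smul_eq_mul, Finset.mul_sum]
  exact Finset.sum_congr rfl fun i _ => by ring

theorem sqNorm_sub (x y : Zv) : sqNorm (x - y) = sqNorm x - 2 * dotInt x y + sqNorm y := by
  rw [sub_eq_add_neg, sqNorm_add, sqNorm_neg]
  have : dotInt x (-y) = - dotInt x y := by simp [dotInt, Finset.sum_neg_distrib]
  rw [this]; ring

/-- short congruent vectors -/
theorem congruent_short {x y : Zv} (hx : x ∈ leechLattice) (hxy : x ≠ y)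
    (hxy' : x ≠ -y) (hxn : sqNorm x ≤ 64) (hyn : sqNorm y ≤ 64)
    (hc : ∃ z ∈ leechLattice, x - y = 2 • z) :
    sqNorm x = 64 ∧ sqNorm y = 64 ∧ dotInt x y = 0 := by
  obtain ⟨z, hz, he⟩ := hc
  have hi : ∀ i, x i - y i = 2 * z i := fun i => by
    have := congrFun he i; simpa using this
  have hw : x - z ∈ leechLattice := sub_mem hx hz
  have e1 : x - y = (2 : ℤ) • z := funext fun i => by simpa using hi i
  have e2 : x + y = (2 : ℤ) • (x - z) := funext fun i => by
    simp only [Pi.add_apply, Pi.smul_apply, Pi.sub_apply, smul_eq_mul]; linarith [hi i]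
  have hz0 : z ≠ 0 := fun h => hxy (by rw [← sub_eq_zero, e1, h, smul_zero])
  have hw0 : x - z ≠ 0 := fun h => hxy' (by rw [← sub_eq_zero, sub_neg_eq_add, e2, h, smul_zero])
  have n1 := (leech_norm hz).2 hz0
  have n2 := (leech_norm hw).2 hw0
  have h1 := congrArg sqNorm e1
  have h2 := congrArg sqNorm e2
  rw [sqNorm_sub, sqNorm_smul] at h1
  rw [sqNorm_add, sqNorm_smul] at h2
  omega

/-! ### the singular subgroup -/

/-- the vectors with all coordinates even and congruent to each other modulo four -/
def singular : AddSubgroup Zv where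
  carrier := {x | x ∈ leechLattice ∧ (∀ i, x i % 2 = 0) ∧ ∀ i, (x i - x none) % 4 = 0}
  add_mem' := fun {a b} ha hb => ⟨add_mem ha.1 hb.1,
    fun i => by have := ha.2.1 i; have := hb.2.1 i; simp only [Pi.add_apply]; omega,
    fun i => by have := ha.2.2 i; have := hb.2.2 i; simp only [Pi.add_apply]; omega⟩
  zero_mem' := ⟨zero_mem _, fun i => by simp, fun i => by simp⟩
  neg_mem' := fun {a} ha => ⟨neg_mem ha.1,
    fun i => by have := ha.2.1 i; simp only [Pi.neg_apply]; omega,
    fun i => by have := ha.2.2 i; simp only [Pi.neg_apply]; omega⟩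

theorem singular_le : singular ≤ leechLattice := fun _ h => h.1

theorem two_smul_mem_singular {v : Zv} (hv : v ∈ leechLattice) : (2 : ℤ) • v ∈ singular := by
  obtain ⟨m, h2, -, -⟩ := mem_leech.1 hv
  refine ⟨zsmul_mem hv 2, fun i => ?_, fun i => ?_⟩
  · simp only [Pi.smul_apply, smul_eq_mul]; omega
  · have := h2 i; have := h2 none
    simp only [Pi.smul_apply, smul_eq_mul]; omega

theorem singular_norm {v : Zv} (hv : v ∈ singular) : (32 : ℤ) ∣ sqNorm v := by
  obtain ⟨hL, he, hc⟩ := hv
  obtain ⟨m, h2, h8, -⟩ := mem_leech.1 hL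
  rcases (show v none % 4 = 0 ∨ v none % 4 = 2 by have := he none; omega) with h0 | h0
  · have hu : ∀ i, v i = 4 * (v i / 4) := fun i => by have := hc i; omega
    have hN : sqNorm v = 16 * ∑ i, (v i / 4) ^ 2 := by
      rw [sqNorm, Finset.mul_sum]
      exact Finset.sum_congr rfl fun i _ => by
        have h := hu i; generalize v i / 4 = z at h ⊢; rw [h]; ring
    have hS : ∑ i, v i = 4 * ∑ i, v i / 4 := by
      rw [Finset.mul_sum]; exact Finset.sum_congr rfl fun i _ => hu i
    have := sum_emod_two fun i => v i / 4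
    have := h2 none
    rw [hN]; omega
  · have hy : ∀ i, v i = 2 * (2 * (v i / 4) + 1) := fun i => by have := hc i; omega
    have hN : sqNorm v = 16 * (∑ i, v i / 4 * (v i / 4 + 1)) + 4 * 24 := by
      rw [sqNorm, Finset.mul_sum,
        show (4 * 24 : ℤ) = ∑ _i : GolayPt, (4 : ℤ) by rw [Finset.sum_const, Finset.card_univ]; rfl,
        ← Finset.sum_add_distrib]
      exact Finset.sum_congr rfl fun i _ => by
        have h := hy i; generalize v i / 4 = z at h ⊢; rw [h]; ring
    have hdvd : (2 : ℤ) ∣ ∑ i, v i / 4 * (v i / 4 + 1) :=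
      Finset.dvd_sum fun i _ => (Int.even_mul_succ_self _).two_dvd
    rw [hN]; omega

/-- parity and normalised digit -/
noncomputable def classMap : leechLattice →+ ZMod 2 × (GolayPt → ZMod 2) :=
  AddMonoidHom.mk' (fun x => (((x : Zv) none : ZMod 2),
    fun i => digit (x : Zv) i + digit (x : Zv) none)) fun a b => by
      obtain ⟨m, h2, -, -⟩ := mem_leech.1 a.2
      obtain ⟨n, g2, -, -⟩ := mem_leech.1 b.2
      refine Prod.ext (by simp) (funext fun i => ?_)
      simp only [digit, AddSubgroup.coe_add, Pi.add_apply, Prod.snd_add, ← Int.cast_add,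
        ZMod.intCast_eq_intCast_iff']
      have := h2 i; have := g2 i; have := h2 none; have := g2 none
      push_cast
      rcases Int.emod_two_eq m with hm | hm <;> rcases Int.emod_two_eq n with hn | hn <;> omega

theorem classMap_ker : classMap.ker = singular.addSubgroupOf leechLattice := by
  ext x
  obtain ⟨m, h2, -, -⟩ := mem_leech.1 x.2
  rw [AddMonoidHom.mem_ker, AddSubgroup.mem_addSubgroupOf]
  constructor
  · intro h
    have h1 : ((x : Zv) none : ZMod 2) = 0 := congrArg Prod.fst h
    rw [ZMod.intCast_zmod_eq_zero_iff_dvd] at h1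
    push_cast at h1
    refine ⟨x.2, fun i => by have := h2 i; have := h2 none; omega, fun i => ?_⟩
    have h3 : digit (x : Zv) i + digit (x : Zv) none = 0 := congrFun (congrArg Prod.snd h) i
    simp only [digit, ← Int.cast_add, ZMod.intCast_zmod_eq_zero_iff_dvd] at h3
    push_cast at h3
    have := h2 i; have := h2 none
    omega
  · rintro ⟨-, he, hc⟩
    refine Prod.ext ?_ (funext fun i => ?_)
    · show ((x : Zv) none : ZMod 2) = 0
      rw [ZMod.intCast_zmod_eq_zero_iff_dvd]
      have := he none; push_cast; omega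
    · show digit (x : Zv) i + digit (x : Zv) none = 0
      simp only [digit, ← Int.cast_add, ZMod.intCast_zmod_eq_zero_iff_dvd]
      have := he i; have := hc i; have := he none
      push_cast
      omega

/-- a vector with all coordinates odd -/
def oddVec : Zv := fun i => if i = none then -3 else 1

theorem oddVec_digit : digit oddVec = 0 := by decide +kernel

theorem oddVec_mem : oddVec ∈ leechLattice := by
  refine mem_leech.2 ⟨1, by decide +kernel, by decide +kernel, ?_⟩
  rw [oddVec_digit]; exact zero_mem _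

theorem oddVec_norm : sqNorm oddVec = 32 := by decide +kernel

/-- twice a code word -/
def dbl (c : GolayPt → ZMod 2) : Zv := fun i => if c i = 0 then 0 else 2

theorem digit_dbl (c : GolayPt → ZMod 2) : digit (dbl c) = c := by
  funext i
  rcases word_eq_one_or_zero (c i) with h | h <;> rw [digit, dbl, h] <;> decide

theorem sum_dbl (c : GolayPt → ZMod 2) : ∑ i, dbl c i = 2 * (hammingNorm c : ℤ) := by
  rw [hammingNorm, ← Finset.sum_boole, Finset.mul_sum]
  exact Finset.sum_congr rfl fun i _ => by
    rcases word_eq_one_or_zero (c i) with h | h <;> simp [dbl, h]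

theorem dbl_mem {c : GolayPt → ZMod 2} (hc : c ∈ golayCode) : dbl c ∈ leechLattice := by
  refine mem_leech.2 ⟨0, fun i => ?_, ?_, by rw [digit_dbl]; exact hc⟩
  · unfold dbl; split_ifs <;> rfl
  · rw [sum_dbl]
    rcases weight_mem_code hc with h | h | h | h | h <;> rw [h] <;> rfl

/-- the code words vanishing at the extra point -/
def halfCode : Submodule (ZMod 2) (GolayPt → ZMod 2) :=
  golayCode ⊓ LinearMap.ker (LinearMap.proj (R := ZMod 2) (φ := fun _ : GolayPt => ZMod 2) none)

theorem classMap_range :
    classMap.range = (⊤ : AddSubgroup (ZMod 2)).prod halfCode.toAddSubgroup := by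
  refine le_antisymm ?_ ?_
  · rintro _ ⟨x, rfl⟩
    obtain ⟨m, -, -, hd⟩ := mem_leech.1 x.2
    refine ⟨Set.mem_univ _, ?_, ?_⟩
    · show (fun i => digit (x : Zv) i + digit (x : Zv) none) ∈ golayCode
      rcases word_eq_one_or_zero (digit (x : Zv) none) with h | h <;> rw [h]
      · simpa using hd
      · exact add_mem hd one_word_mem
    · show digit (x : Zv) none + digit (x : Zv) none = 0
      exact ZModModule.add_self _
  · rintro ⟨p, c⟩ ⟨-, hc, hc0⟩
    have hc0' : c none = 0 := hc0
    have h0 : classMap ⟨dbl c, dbl_mem hc⟩ = (0, c) := by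
      refine Prod.ext ?_ (funext fun i => ?_)
      · show ((dbl c none : ℤ) : ZMod 2) = 0
        simp [dbl, hc0']
      · show digit (dbl c) i + digit (dbl c) none = c i
        rw [digit_dbl, hc0', add_zero]
    have h1 : classMap ⟨oddVec, oddVec_mem⟩ = (1, 0) := by
      refine Prod.ext ?_ (funext fun i => ?_)
      · show ((oddVec none : ℤ) : ZMod 2) = 1
        decide
      · show digit oddVec i + digit oddVec none = 0
        rw [oddVec_digit]; rfl
    rcases word_eq_one_or_zero p with rfl | rfl
    · exact ⟨_, h0⟩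
    · exact ⟨⟨oddVec, oddVec_mem⟩ + ⟨dbl c, dbl_mem hc⟩, by rw [map_add, h1, h0]; simp⟩

theorem card_halfCode : Nat.card halfCode = 2048 := by
  have e : Nat.card golayCode = Nat.card (ZMod 2 × halfCode) := by
    refine Nat.card_congr
      { toFun := fun c => ((c : GolayPt → ZMod 2) none,
          ⟨fun i => (c : GolayPt → ZMod 2) i + (c : GolayPt → ZMod 2) none, ?_, ?_⟩)
        invFun := fun q => ⟨fun i => (q.2 : GolayPt → ZMod 2) i + q.1, ?_⟩
        left_inv := fun c => Subtype.ext (funext fun i => by
          show (c : GolayPt → ZMod 2) i + (c : GolayPt → ZMod 2) none + (c : GolayPt → ZMod 2) none = _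
          rw [add_assoc, ZModModule.add_self, add_zero])
        right_inv := fun q => ?_ }
    · rcases word_eq_one_or_zero ((c : GolayPt → ZMod 2) none) with h | h <;> rw [h]
      · simpa using c.2
      · exact add_mem c.2 one_word_mem
    · exact ZModModule.add_self _
    · rcases word_eq_one_or_zero q.1 with h | h <;> rw [h]
      · simpa using q.2.2.1
      · exact add_mem q.2.2.1 one_word_mem
    · have h0 : (q.2 : GolayPt → ZMod 2) none = 0 := q.2.2.2
      refine Prod.ext ?_ (Subtype.ext (funext fun i => ?_))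
      · show (q.2 : GolayPt → ZMod 2) none + q.1 = q.1
        rw [h0, zero_add]
      · show (q.2 : GolayPt → ZMod 2) i + q.1 + ((q.2 : GolayPt → ZMod 2) none + q.1) = _
        rw [h0, zero_add, add_assoc, ZModModule.add_self, add_zero]
  rw [card_golayCode, Nat.card_prod, Nat.card_zmod] at e
  omega

theorem singular_index : (singular.addSubgroupOf leechLattice).index = 2 ^ 12 := by
  rw [← classMap_ker, AddSubgroup.index_ker, classMap_range]
  rw [Nat.card_congr (AddSubgroup.prodEquiv ⊤ halfCode.toAddSubgroup).toEquiv, Nat.card_prod,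
    AddSubgroup.card_top, Nat.card_zmod]
  show 2 * Nat.card halfCode = 2 ^ 12
  rw [card_halfCode]; rfl

/-! ### the index -/

/-- residues determining membership of the singular subgroup -/
noncomputable def residMap : Zv →+ (ZMod 23 → ZMod 4) × ZMod 2 × ZMod 8 :=
  AddMonoidHom.mk' (fun x => (fun t => ((x (some t) - x none : ℤ) : ZMod 4), (x none : ZMod 2),
    ((∑ i, x i : ℤ) : ZMod 8))) fun a b => by
      refine Prod.ext (funext fun t => ?_) (Prod.ext ?_ ?_)
      · simp only [Pi.add_apply, Prod.fst_add]; push_cast; abel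
      · simp
      · simp [Finset.sum_add_distrib]

theorem residMap_ker : residMap.ker = singular := by
  ext x
  rw [AddMonoidHom.mem_ker]
  constructor
  · intro h
    have h1 : ∀ t, ((x (some t) - x none : ℤ) : ZMod 4) = 0 := fun t =>
      congrFun (congrArg Prod.fst h) t
    have h2 : ((x none : ℤ) : ZMod 2) = 0 := congrArg (fun q => q.2.1) h
    have h3 : ((∑ i, x i : ℤ) : ZMod 8) = 0 := congrArg (fun q => q.2.2) h
    rw [ZMod.intCast_zmod_eq_zero_iff_dvd] at h2 h3
    have h1' : ∀ i, (x i - x none) % 4 = 0 := by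
      rintro (_ | t)
      · simp
      · have := h1 t; rw [ZMod.intCast_zmod_eq_zero_iff_dvd] at this; push_cast at this; omega
    have he : ∀ i, x i % 2 = 0 := fun i => by have := h1' i; push_cast at h2; omega
    refine ⟨mem_leech.2 ⟨0, fun i => by rw [he i]; rfl, by push_cast at h3; omega, ?_⟩, he, h1'⟩
    have : digit x = fun _ => digit x none := funext fun i => by
      simp only [digit, ZMod.intCast_eq_intCast_iff']
      have := h1' i; have := he i; have := he none
      push_cast
      omega
    rw [this]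
    rcases word_eq_one_or_zero (digit x none) with h | h <;> rw [h]
    exacts [zero_mem _, one_word_mem]
  · rintro ⟨hL, he, hc⟩
    obtain ⟨m, h2, h8, -⟩ := mem_leech.1 hL
    have := h2 none; have := he none
    refine Prod.ext (funext fun t => ?_) (Prod.ext ?_ ?_)
    · show ((x (some t) - x none : ℤ) : ZMod 4) = 0
      rw [ZMod.intCast_zmod_eq_zero_iff_dvd]; have := hc (some t); push_cast; omega
    · show ((x none : ℤ) : ZMod 2) = 0
      rw [ZMod.intCast_zmod_eq_zero_iff_dvd]; push_cast; omega
    · show ((∑ i, x i : ℤ) : ZMod 8) = 0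
      rw [ZMod.intCast_zmod_eq_zero_iff_dvd]; push_cast; omega

/-- the relation on residues -/
noncomputable def residRel : (ZMod 23 → ZMod 4) × ZMod 2 × ZMod 8 →+ ZMod 4 :=
  AddMonoidHom.mk' (fun q => ZMod.castHom (show 4 ∣ 8 by norm_num) (ZMod 4) q.2.2 - ∑ t, q.1 t) fun a b => by
    simp only [Prod.fst_add, Prod.snd_add, map_add, Pi.add_apply, Finset.sum_add_distrib]
    abel

theorem val_congr (d : ZMod 23 → ZMod 4) (s : ZMod 8)
    (h : ZMod.castHom (show 4 ∣ 8 by norm_num) (ZMod 4) s - Finset.univ.sum d = 0) :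
    (4 : ℤ) ∣ (s.val : ℤ) - ∑ t, ((d t).val : ℤ) := by
  have hs : ZMod.castHom (show 4 ∣ 8 by norm_num) (ZMod 4) s = ((s.val : ℕ) : ZMod 4) := by
    conv_lhs => rw [← ZMod.natCast_zmod_val s]
    rw [map_natCast]
  have hd : Finset.univ.sum d = ∑ t, (((d t).val : ℕ) : ZMod 4) :=
    Finset.sum_congr rfl fun t _ => (ZMod.natCast_zmod_val (d t)).symm
  rw [hs, hd] at h
  rw [show (4 : ℤ) = ((4 : ℕ) : ℤ) from rfl, ← ZMod.intCast_zmod_eq_zero_iff_dvd]
  push_cast
  exact h

theorem residMap_range : residMap.range = residRel.ker := by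
  have hsum : ∀ x : Zv, ∑ i, x i = x none + ∑ t, x (some t) := fun x => Fintype.sum_option x
  refine le_antisymm ?_ ?_
  · rintro _ ⟨x, rfl⟩
    rw [AddMonoidHom.mem_ker]
    show ZMod.castHom (show 4 ∣ 8 by norm_num) (ZMod 4) ((∑ i, x i : ℤ) : ZMod 8) -
      ∑ t, ((x (some t) - x none : ℤ) : ZMod 4) = 0
    rw [map_intCast, ← Int.cast_sum, ← Int.cast_sub, ZMod.intCast_zmod_eq_zero_iff_dvd,
      Finset.sum_sub_distrib, Finset.sum_const, Finset.card_univ, ZMod.card, hsum, nsmul_eq_mul]
    push_cast
    omega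
  · rintro ⟨d, p, s⟩ h
    rw [AddMonoidHom.mem_ker] at h
    let x₀ : Zv := fun i => i.elim (p.val : ℤ) fun t => ((d t).val : ℤ) + (p.val : ℤ)
    set δ : ℤ := (s.val : ℤ) - ∑ i, x₀ i with hδ
    refine ⟨fun i => x₀ i + (if i = some 0 then δ else 0), ?_⟩
    have hδ4 : (δ : ZMod 4) = 0 := by
      have h1 : (4 : ℤ) ∣ (s.val : ℤ) - ∑ t, ((d t).val : ℤ) := val_congr d s h
      have h2 : ∑ i, x₀ i = (p.val : ℤ) * 24 + ∑ t, ((d t).val : ℤ) := by
        rw [hsum]
        show (p.val : ℤ) + ∑ t, (((d t).val : ℤ) + (p.val : ℤ)) = _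
        rw [Finset.sum_add_distrib, Finset.sum_const, Finset.card_univ, ZMod.card, nsmul_eq_mul]
        push_cast
        ring
      rw [ZMod.intCast_zmod_eq_zero_iff_dvd, hδ, h2]
      push_cast
      omega
    refine Prod.ext (funext fun t => ?_) (Prod.ext ?_ ?_)
    · show ((x₀ (some t) + (if some t = some 0 then δ else 0) - (x₀ none + (if (none : GolayPt) = some 0 then δ else 0)) : ℤ) : ZMod 4) = d t
      by_cases ht : t = 0
      · subst ht; simp [x₀, hδ4]
      · simp [x₀, ht]
    · show ((x₀ none + (if (none : GolayPt) = some 0 then δ else 0) : ℤ) : ZMod 2) = p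
      simp [x₀]
    · show ((∑ i, (x₀ i + (if i = some 0 then δ else 0)) : ℤ) : ZMod 8) = s
      rw [Finset.sum_add_distrib, Finset.sum_ite_eq', if_pos (Finset.mem_univ _), hδ, add_sub_cancel]
      simp

theorem leech_index : leechLattice.index = 2 ^ 36 := by
  have h1 : singular.index = 2 ^ 48 := by
    rw [← residMap_ker, AddSubgroup.index_ker, residMap_range]
    have hsurj : Function.Surjective residRel := fun a => ⟨(0, 0, (a.val : ZMod 8)), by
      show ZMod.castHom (show 4 ∣ 8 by norm_num) (ZMod 4) ((a.val : ℕ) : ZMod 8) - ∑ t : ZMod 23, (0 : ZMod 4) = a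
      simp⟩
    have h := AddSubgroup.card_mul_index residRel.ker
    rw [AddSubgroup.index_ker, AddMonoidHom.range_eq_top.2 hsurj, AddSubgroup.card_top, Nat.card_prod,
      Nat.card_prod, Nat.card_fun, Nat.card_zmod, Nat.card_zmod, Nat.card_zmod, Nat.card_zmod] at h
    have e : (4 : ℕ) ^ 23 = 2 ^ 46 := by norm_num
    rw [e] at h
    omega
  have h2 := AddSubgroup.relIndex_mul_index singular_le
  rw [show singular.relIndex leechLattice = 2 ^ 12 from singular_index, h1] at h2
  omega

/-! ### minimal vectors generate -/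

/-- the vector with `4` at `i` and `4 e` at `j` -/
def pairVec (i j : GolayPt) (e : ℤ) : Zv := fun k => if k = i then 4 else if k = j then 4 * e else 0

theorem pairVec_spec {i j : GolayPt} (hij : i ≠ j) {e : ℤ} (he : e = 1 ∨ e = -1) :
    pairVec i j e ∈ leechLattice ∧ sqNorm (pairVec i j e) = 32 := by
  unfold pairVec
  refine ⟨mem_leech.2 ⟨0, fun k => ?_, ?_, ?_⟩, ?_⟩
  · simp only; split_ifs <;> omega
  · have : (∑ k, if k = i then (4 : ℤ) else if k = j then 4 * e else 0) = 4 + 4 * e := by
      rw [Finset.sum_eq_add_sum_sdiff_singleton_of_mem (Finset.mem_univ i), if_pos rfl,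
        Finset.sum_eq_single j]
      · rw [if_neg hij.symm, if_pos rfl]
      · intro k hk hkj
        rw [if_neg (by simpa using (Finset.mem_sdiff.1 hk).2), if_neg hkj]
      · intro h; simp [hij.symm] at h
    rw [this]; omega
  · have : digit (fun k => if k = i then (4 : ℤ) else if k = j then 4 * e else 0 : Zv) = 0 := by
      funext k
      simp only [digit, Pi.zero_apply, ZMod.intCast_zmod_eq_zero_iff_dvd]
      split_ifs <;> push_cast <;> omega
    rw [this]; exact zero_mem _
  · rw [sqNorm, Finset.sum_eq_add_sum_sdiff_singleton_of_mem (Finset.mem_univ i), if_pos rfl,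
      Finset.sum_eq_single j]
    · rw [if_neg hij.symm, if_pos rfl]; rcases he with rfl | rfl <;> norm_num
    · intro k hk hkj
      rw [if_neg (by simpa using (Finset.mem_sdiff.1 hk).2), if_neg hkj]; norm_num
    · intro h; simp [hij.symm] at h

/-- `pairVec i none (-1)`, also for `i = none` -/
def diffVec (i : GolayPt) : Zv := fun k => (if k = i then 4 else 0) - (if k = none then 4 else 0)

theorem diffVec_mem (i : GolayPt) : diffVec i ∈ leechLattice := by
  by_cases hi : i = none
  · subst hi
    have : diffVec none = 0 := funext fun k => sub_self _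
    rw [this]; exact zero_mem _
  · convert (pairVec_spec hi (Or.inr rfl)).1 using 1
    funext k
    by_cases h1 : k = i
    · subst h1; simp [pairVec, diffVec, hi]
    · by_cases h2 : k = none <;> simp [pairVec, diffVec, h1, h2, hi, Ne.symm hi]

/-- a vector divisible by four lies in every subgroup containing the standard ones -/
theorem four_mem (M : AddSubgroup Zv) (hdiff : ∀ i, diffVec i ∈ M)
    (h8 : (fun k => if k = none then (8 : ℤ) else 0 : Zv) ∈ M) {x : Zv} (hx : x ∈ leechLattice)
    (h4 : ∀ i, x i % 4 = 0) : x ∈ M := by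
  obtain ⟨m, h2, h8', -⟩ := mem_leech.1 hx
  have hS : (∑ i, x i / 4) % 2 = 0 := by
    have : ∑ i, x i = 4 * ∑ i, x i / 4 := by
      rw [Finset.mul_sum]; exact Finset.sum_congr rfl fun i _ => by have := h4 i; omega
    have := h2 none; have := h4 none
    omega
  have e : x = ∑ i, (x i / 4) • diffVec i +
      ((∑ i, x i / 4) / 2) • (fun k => if k = none then (8 : ℤ) else 0 : Zv) := by
    funext k
    simp only [diffVec, Pi.add_apply, Finset.sum_apply, Pi.smul_apply, smul_eq_mul, mul_sub, Finset.sum_sub_distrib,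
      ← Finset.sum_mul, mul_ite, mul_zero, Finset.sum_ite_eq, Finset.mem_univ, if_true]
    by_cases hk : k = none
    · subst hk
      simp only [if_true]
      have := h4 none
      have := (Finset.sum_mul Finset.univ (fun j => x j / 4) (4 : ℤ)).symm
      omega
    · simp only [if_neg hk, Finset.sum_const_zero, sub_zero, add_zero]; have := h4 k; omega
  rw [e]
  exact add_mem (sum_mem fun i _ => zsmul_mem (hdiff i) _) (zsmul_mem h8 _)

/-- generators of the lattice -/
theorem leech_le_of (M : AddSubgroup Zv) (hML : M ≤ leechLattice)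
    (hpair : ∀ i : GolayPt, i ≠ none → pairVec i none 1 ∈ M ∧ pairVec i none (-1) ∈ M)
    (hoct : ∀ o ∈ octBasis, dbl (ofMaskW o) ∈ M) (hodd : oddVec ∈ M) : leechLattice ≤ M := by
  have hdiff : ∀ i : GolayPt, diffVec i ∈ M := by
    intro i
    by_cases hi : i = none
    · subst hi
      have : diffVec none = 0 := funext fun k => sub_self _
      rw [this]; exact zero_mem M
    convert (hpair i hi).2 using 1
    funext k
    by_cases h1 : k = i
    · subst h1; simp [pairVec, diffVec, hi]
    · by_cases h2 : k = none <;> simp [pairVec, diffVec, h1, h2, hi, Ne.symm hi]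
  have h8 : (fun k => if k = none then (8 : ℤ) else 0 : Zv) ∈ M := by
    convert sub_mem (hpair (some 0) (by simp)).1 (hpair (some 0) (by simp)).2 using 1
    funext k
    by_cases h1 : k = none
    · simp [pairVec, h1]
    · by_cases h2 : k = some 0 <;> simp [pairVec, h1, h2]
  have hfour : ∀ x : Zv, x ∈ leechLattice → (∀ i, x i % 4 = 0) → x ∈ M :=
    fun x hx h4 => four_mem M hdiff h8 hx h4
  have heven : ∀ c ∈ codeMasks, ∀ x : Zv, x ∈ leechLattice → (∀ i, x i % 2 = 0) → wmask (digit x) = c → x ∈ M := by
    have main : ∀ c ∈ codeMasks, ∃ y : Zv, y ∈ M ∧ (∀ i, y i % 2 = 0) ∧ wmask (digit y) = c := by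
      have hadd : ∀ a b, (∃ y : Zv, y ∈ M ∧ (∀ i, y i % 2 = 0) ∧ wmask (digit y) = a) →
          (∃ y : Zv, y ∈ M ∧ (∀ i, y i % 2 = 0) ∧ wmask (digit y) = b) →
          ∃ y : Zv, y ∈ M ∧ (∀ i, y i % 2 = 0) ∧ wmask (digit y) = a ^^^ b := by
        rintro a b ⟨y, hy, hye, rfl⟩ ⟨y', hy', hye', rfl⟩
        refine ⟨y + y', add_mem hy hy', fun i => by have := hye i; have := hye' i; simp only [Pi.add_apply]; omega, ?_⟩
        rw [← wmask_add]; congr 1
        funext i
        simp only [digit, Pi.add_apply, ← Int.cast_add, ZMod.intCast_eq_intCast_iff']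
        have := hye i; have := hye' i
        push_cast
        omega
      have h0 : ∃ y : Zv, y ∈ M ∧ (∀ i, y i % 2 = 0) ∧ wmask (digit y) = 0 :=
        ⟨0, zero_mem _, fun i => rfl, by
          rw [show digit (0 : Zv) = 0 from funext fun i => by simp [digit]]; exact wmask_zero⟩
      refine xorSpan_induction h0 hadd fun g hg => ?_
      refine xorSpan_induction h0 hadd ?_ g (octBasis_facts.2 g hg)
      intro o ho
      have ho8 := octBasis_facts.1 o ho
      exact ⟨dbl (ofMaskW o), hoct o ho,
        fun i => by unfold dbl; split_ifs <;> rfl, by rw [digit_dbl, wmask_ofMaskW (octMasks_lt ho8)]⟩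
    intro c hc x hx hxe hxc
    obtain ⟨y, hy, hye, hyc⟩ := main c hc
    have hd : digit x = digit y := wmask_injective (hxc.trans hyc.symm)
    have h := hfour (x - y) (sub_mem hx (hML hy)) fun i => by
      have h1 := congrFun hd i
      simp only [digit, ZMod.intCast_eq_intCast_iff'] at h1
      push_cast at h1
      have := hxe i; have := hye i
      simp only [Pi.sub_apply]
      omega
    simpa using add_mem h hy
  intro x hx
  obtain ⟨m, h2, -, hd⟩ := mem_leech.1 hx
  rcases Int.emod_two_eq m with hm | hm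
  · exact heven _ (mem_code.1 hd) x hx (fun i => by have := h2 i; omega) rfl
  · have h' := sub_mem hx oddVec_mem
    obtain ⟨m', h2', -, hd'⟩ := mem_leech.1 h'
    have ho : ∀ i, oddVec i % 2 = 1 := by decide +kernel
    have := heven _ (mem_code.1 hd') (x - oddVec) h' (fun i => by
      have := h2 i; have := ho i; simp only [Pi.sub_apply]; omega) rfl
    simpa using add_mem this hodd

theorem dbl_octBasis {o : ℕ} (ho : o ∈ octBasis) :
    dbl (ofMaskW o) ∈ leechLattice ∧ sqNorm (dbl (ofMaskW o)) = 32 := by
  have ho8 := octBasis_facts.1 o ho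
  refine ⟨dbl_mem ?_, ?_⟩
  · rw [mem_code, wmask_ofMaskW (octMasks_lt ho8)]; exact (List.mem_filter.1 ho8).1
  · have h8 : hammingNorm (ofMaskW o) = 8 := by
      rw [hammingNorm_eq_pc, wmask_ofMaskW (octMasks_lt ho8)]
      exact beq_iff_eq.1 (List.mem_filter.1 ho8).2
    have : sqNorm (dbl (ofMaskW o)) = 4 * (hammingNorm (ofMaskW o) : ℤ) := by
      rw [sqNorm, hammingNorm, ← Finset.sum_boole, Finset.mul_sum]
      exact Finset.sum_congr rfl fun i _ => by
        rcases word_eq_one_or_zero (ofMaskW o i) with h | h <;> simp [dbl, h]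
    rw [this, h8]; rfl

theorem minimal_generate :
    AddSubgroup.closure {x : Zv | x ∈ leechLattice ∧ sqNorm x = 32} = leechLattice := by
  have h : AddSubgroup.closure {x : Zv | x ∈ leechLattice ∧ sqNorm x = 32} ≤ leechLattice :=
    (AddSubgroup.closure_le _).2 fun x hx => hx.1
  refine le_antisymm h (leech_le_of _ h (fun i hi => ?_) (fun o ho => ?_) ?_)
  · exact ⟨AddSubgroup.subset_closure (pairVec_spec hi (Or.inl rfl)),
      AddSubgroup.subset_closure (pairVec_spec hi (Or.inr rfl))⟩
  · exact AddSubgroup.subset_closure (dbl_octBasis ho)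
  · exact AddSubgroup.subset_closure ⟨oddVec_mem, oddVec_norm⟩

end Cfsg.Agent.Spor
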