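/-
Automorphisms of the Leech lattice: sign changes on code words, coordinate permutations, one sextet element.
-/
import Cfsg.Agent.Lib.Spor.LeechModTwo
import Cfsg.Agent.Lib.Spor.GolaySextet
import Cfsg.Agent.Lib.Spor.GolayWords
import Cfsg.Agent.Lib.Spor.GolayModules

set_option autoImplicit false
set_option maxRecDepth 100000

namespace Cfsg.Agent.Spor

open Cfsg
open scoped Pointwise

local notation "Zv" => GolayPt → ℤ

/-- change signs on the support of a word -/
def sgn (c : GolayPt → ZMod 2) (x : Zv) : Zv := fun i => if c i = 0 then x i else -x i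

/-- permute coordinates -/
def prm (σ : Equiv.Perm GolayPt) (x : Zv) : Zv := fun i => x (σ.symm i)

theorem sgn_sgn (c : GolayPt → ZMod 2) (x : Zv) : sgn c (sgn c x) = x := by
  funext i; by_cases h : c i = 0 <;> simp [sgn, h]

theorem sgn_add (c : GolayPt → ZMod 2) (x y : Zv) : sgn c (x + y) = sgn c x + sgn c y := by
  funext i; by_cases h : c i = 0 <;> simp [sgn, h]; ring

theorem sqNorm_sgn (c : GolayPt → ZMod 2) (x : Zv) : sqNorm (sgn c x) = sqNorm x :=
  Finset.sum_congr rfl fun i _ => by by_cases h : c i = 0 <;> simp [sgn, h]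

theorem sqNorm_prm (σ : Equiv.Perm GolayPt) (x : Zv) : sqNorm (prm σ x) = sqNorm x :=
  Equiv.sum_comp σ.symm fun i => x i ^ 2

theorem prm_inv_left (σ : Equiv.Perm GolayPt) (x : Zv) : prm σ⁻¹ (prm σ x) = x := by
  funext i; simp [prm, Equiv.Perm.inv_def]

theorem prm_inv_right (σ : Equiv.Perm GolayPt) (x : Zv) : prm σ (prm σ⁻¹ x) = x := by
  funext i; simp [prm, Equiv.Perm.inv_def]

theorem code_comp {σ : Equiv.Perm GolayPt} (hσ : σ ∈ M24) {w : GolayPt → ZMod 2}
    (hw : w ∈ golayCode) : (fun p => w (σ.symm p)) ∈ golayCode :=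
  actW_mem hσ hw

theorem prm_mem {σ : Equiv.Perm GolayPt} (hσ : σ ∈ M24) {x : Zv} (hx : x ∈ leechLattice) :
    prm σ x ∈ leechLattice := by
  obtain ⟨m, h2, h8, hd⟩ := mem_leech.1 hx
  refine mem_leech.2 ⟨m, fun i => h2 _, ?_, code_comp hσ hd⟩
  show (∑ i, x (σ.symm i)) % 8 = _
  rw [Equiv.sum_comp σ.symm x]; exact h8

theorem sgn_mem {c : GolayPt → ZMod 2} (hc : c ∈ golayCode) {x : Zv} (hx : x ∈ leechLattice) :
    sgn c x ∈ leechLattice := by
  obtain ⟨m, h2, h8, hd⟩ := mem_leech.1 hx
  refine mem_leech.2 ⟨m, fun i => ?_, ?_, ?_⟩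
  · have := h2 i; unfold sgn; split_ifs <;> omega
  · have hdiff : ∑ i, sgn c x i = ∑ i, x i - 2 * ∑ i, (if c i = 0 then 0 else x i) := by
      rw [Finset.mul_sum, ← Finset.sum_sub_distrib]
      exact Finset.sum_congr rfl fun i _ => by by_cases h : c i = 0 <;> simp [sgn, h]; ring
    have hhalf : ∑ i, (if c i = 0 then 0 else x i) =
        (m % 2) * (hammingNorm c : ℤ) + 2 * ∑ i, (if c i = 0 then 0 else x i / 2) := by
      rw [hammingNorm, ← Finset.sum_boole, Finset.mul_sum, Finset.mul_sum, ← Finset.sum_add_distrib]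
      exact Finset.sum_congr rfl fun i _ => by
        have := h2 i
        by_cases h : c i = 0
        · simp [h]
        · simp only [if_neg h, if_pos (show c i ≠ 0 from h), mul_one]; omega
    have horth := code_orth hc hd
    have hev : (∑ i, (if c i = 0 then 0 else x i / 2)) % 2 = 0 := by
      have : ((∑ i, (if c i = 0 then 0 else x i / 2) : ℤ) : ZMod 2) = 0 := by
        refine (Int.cast_sum _ _).trans ((Finset.sum_congr rfl fun i _ => ?_).trans horth)
        rcases word_eq_one_or_zero (c i) with h | h <;> simp [h, digit]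
      rw [ZMod.intCast_zmod_eq_zero_iff_dvd] at this
      push_cast at this
      omega
    rw [hdiff, hhalf]
    rcases weight_mem_code hc with h | h | h | h | h <;> rw [h] <;> push_cast <;> omega
  · have : digit (sgn c x) = digit x + ((m % 2 : ℤ) : ZMod 2) • c := by
      funext i
      have := h2 i
      rcases word_eq_one_or_zero (c i) with h | h <;>
        simp only [digit, sgn, h, Pi.add_apply, Pi.smul_apply, smul_eq_mul, if_true, one_ne_zero, if_false,
          mul_zero, add_zero, mul_one, ← Int.cast_add, ZMod.intCast_eq_intCast_iff']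
      push_cast
      omega
    rw [this]; exact add_mem hd (Submodule.smul_mem _ _ hc)

theorem exists_aut (f g : Zv → Zv) (hf : ∀ v ∈ leechLattice, f v ∈ leechLattice)
    (hg : ∀ v ∈ leechLattice, g v ∈ leechLattice) (hgf : ∀ v ∈ leechLattice, g (f v) = v)
    (hfg : ∀ v ∈ leechLattice, f (g v) = v)
    (hadd : ∀ v ∈ leechLattice, ∀ w ∈ leechLattice, f (v + w) = f v + f w)
    (hn : ∀ v ∈ leechLattice, sqNorm (f v) = sqNorm v) :
    ∃ a : ↥Co0, ∀ v : ↥leechLattice, ((a • v : ↥leechLattice) : Zv) = f v := by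
  let e : Equiv.Perm ↥leechLattice :=
    { toFun := fun v => ⟨f v, hf _ v.2⟩
      invFun := fun v => ⟨g v, hg _ v.2⟩
      left_inv := fun v => Subtype.ext (hgf _ v.2)
      right_inv := fun v => Subtype.ext (hfg _ v.2) }
  exact ⟨⟨e, fun v w => Subtype.ext (hadd _ v.2 _ w.2), fun v => hn _ v.2⟩, fun v => rfl⟩

theorem exists_sgn {c : GolayPt → ZMod 2} (hc : c ∈ golayCode) :
    ∃ a : ↥Co0, ∀ v : ↥leechLattice, ((a • v : ↥leechLattice) : Zv) = sgn c v :=
  exists_aut (sgn c) (sgn c) (fun _ => sgn_mem hc) (fun _ => sgn_mem hc) (fun v _ => sgn_sgn c v)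
    (fun v _ => sgn_sgn c v) (fun v _ w _ => sgn_add c v w) (fun v _ => sqNorm_sgn c v)

theorem exists_prm {σ : Equiv.Perm GolayPt} (hσ : σ ∈ M24) :
    ∃ a : ↥Co0, ∀ v : ↥leechLattice, ((a • v : ↥leechLattice) : Zv) = prm σ v :=
  exists_aut (prm σ) (prm σ⁻¹) (fun _ => prm_mem hσ) (fun _ => prm_mem (inv_mem hσ))
    (fun v _ => prm_inv_left σ v) (fun v _ => prm_inv_right σ v) (fun _ _ _ _ => rfl)
    (fun v _ => sqNorm_prm σ v)

/-! ### the sextet element -/

/-- number of the tetrad of a point in the base sextet -/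
def tetIdx (p : GolayPt) : ℕ := sxBase.findIdx fun m => Nat.testBit m (idx p)

/-- twice the matrix of the sextet element -/
def xiM (p q : GolayPt) : ℤ :=
  (if tetIdx p = 0 then -1 else 1) * ((if tetIdx p = tetIdx q then 1 else 0) - if p = q then 2 else 0)

theorem xiM_symm : ∀ p q, xiM p q = xiM q p := by decide +kernel

theorem xiM_sq : ∀ p r, ∑ q, xiM p q * xiM q r = if p = r then 4 else 0 := by decide +kernel

/-- twice the sextet element -/
def xi2 (x : Zv) : Zv := fun p => ∑ q, xiM p q * x q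

/-- the sextet element -/
def xi (x : Zv) : Zv := fun p => xi2 x p / 2

theorem xi2_add (x y : Zv) : xi2 (x + y) = xi2 x + xi2 y := by
  funext p; simp [xi2, mul_add, Finset.sum_add_distrib]

theorem xi2_neg (x : Zv) : xi2 (-x) = -xi2 x := by
  funext p; simp [xi2, Finset.sum_neg_distrib]

theorem xi2_xi2 (x : Zv) : xi2 (xi2 x) = (4 : ℤ) • x := by
  funext p
  show ∑ q, xiM p q * ∑ r, xiM q r * x r = 4 * x p
  simp only [Finset.mul_sum, ← mul_assoc]
  rw [Finset.sum_comm]
  simp only [← Finset.sum_mul, xiM_sq, ite_mul, zero_mul, Finset.sum_ite_eq, Finset.mem_univ, if_true]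

theorem sqNorm_xi2 (x : Zv) : sqNorm (xi2 x) = 4 * sqNorm x := by
  have e1 : ∀ y : Zv, ∑ p, xi2 x p * y p = ∑ q, x q * xi2 y q := by
    intro y
    simp only [xi2, Finset.sum_mul, Finset.mul_sum]
    rw [Finset.sum_comm]
    exact Finset.sum_congr rfl fun q _ => Finset.sum_congr rfl fun p _ => by rw [xiM_symm q p]; ring
  have := e1 (xi2 x)
  rw [xi2_xi2] at this
  simp only [sqNorm, Finset.mul_sum, sq]
  rw [this]
  exact Finset.sum_congr rfl fun q _ => by simp; ring

/-- the checks for membership -/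
def leechCheck (y : Zv) : Bool :=
  decide (∀ i, y i % 2 = y none % 2) && decide ((∑ i, y i) % 8 = (4 * y none) % 8) &&
    inCode (wmask (digit y))

theorem leechCheck_mem {y : Zv} (h : leechCheck y = true) : y ∈ leechLattice := by
  simp only [leechCheck, Bool.and_eq_true, decide_eq_true_eq] at h
  exact mem_leech.2 ⟨y none, h.1.1, h.1.2, mem_code.2 (inCode_mem h.2)⟩

/-- the check that the sextet element maps a vector into the lattice -/
def xiCheck (y : Zv) : Bool := decide (∀ p, xi2 y p % 2 = 0) && leechCheck (xi y)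

theorem xiCheck_pair : ∀ i : GolayPt, i ≠ none →
    xiCheck (pairVec i none 1) = true ∧ xiCheck (pairVec i none (-1)) = true := by decide +kernel

theorem xiCheck_oct : ∀ o ∈ octBasis, xiCheck (dbl (ofMaskW o)) = true := by decide +kernel

theorem xiCheck_odd : xiCheck oddVec = true := by decide +kernel

theorem xi_spec {x : Zv} (hx : x ∈ leechLattice) :
    xi x ∈ leechLattice ∧ xi2 x = (2 : ℤ) • xi x := by
  let M : AddSubgroup Zv :=
    { carrier := {x | x ∈ leechLattice ∧ ∃ y ∈ leechLattice, xi2 x = (2 : ℤ) • y}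
      zero_mem' := ⟨zero_mem _, 0, zero_mem _, by funext p; simp [xi2]⟩
      add_mem' := by
        rintro a b ⟨ha, y, hy, ea⟩ ⟨hb, z, hz, eb⟩
        exact ⟨add_mem ha hb, y + z, add_mem hy hz, by rw [xi2_add, ea, eb, smul_add]⟩
      neg_mem' := by
        rintro a ⟨ha, y, hy, ea⟩
        exact ⟨neg_mem ha, -y, neg_mem hy, by rw [xi2_neg, ea, smul_neg]⟩ }
  have mk : ∀ {y : Zv}, y ∈ leechLattice → xiCheck y = true → y ∈ M := by
    intro y hy h
    simp only [xiCheck, Bool.and_eq_true, decide_eq_true_eq] at h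
    exact ⟨hy, xi y, leechCheck_mem h.2, funext fun p => by
      have := h.1 p
      simp only [xi, Pi.smul_apply, smul_eq_mul]; omega⟩
  have hle : leechLattice ≤ M := leech_le_of M (fun a ha => ha.1)
    (fun i hi => ⟨mk (pairVec_spec hi (Or.inl rfl)).1 (xiCheck_pair i hi).1,
      mk (pairVec_spec hi (Or.inr rfl)).1 (xiCheck_pair i hi).2⟩)
    (fun o ho => mk (dbl_octBasis ho).1 (xiCheck_oct o ho)) (mk oddVec_mem xiCheck_odd)
  obtain ⟨-, y, hy, e⟩ := hle hx
  have : xi x = y := funext fun p => by simp [xi, e]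
  rw [this]; exact ⟨hy, e⟩

theorem xi_add {x y : Zv} (hx : x ∈ leechLattice) (hy : y ∈ leechLattice) :
    xi (x + y) = xi x + xi y := by
  funext p
  have e1 := congrFun (xi_spec hx).2 p
  have e2 := congrFun (xi_spec hy).2 p
  simp only [Pi.smul_apply, smul_eq_mul] at e1 e2
  simp only [xi, xi2_add, Pi.add_apply]
  omega

theorem xi_xi {x : Zv} (hx : x ∈ leechLattice) : xi (xi x) = x := by
  obtain ⟨hy, e⟩ := xi_spec hx
  obtain ⟨-, e'⟩ := xi_spec hy
  have h := xi2_xi2 x
  rw [e, show (2 : ℤ) • xi x = xi x + xi x from two_smul ℤ _, xi2_add, e'] at h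
  funext p
  have := congrFun h p
  simp only [Pi.add_apply, Pi.smul_apply, smul_eq_mul] at this
  omega

theorem sqNorm_xi {x : Zv} (hx : x ∈ leechLattice) : sqNorm (xi x) = sqNorm x := by
  have h := sqNorm_xi2 x
  rw [(xi_spec hx).2, sqNorm_smul] at h
  linarith

theorem exists_xi : ∃ a : ↥Co0, ∀ v : ↥leechLattice, ((a • v : ↥leechLattice) : Zv) = xi v :=
  exists_aut xi xi (fun _ h => (xi_spec h).1) (fun _ h => (xi_spec h).1) (fun _ h => xi_xi h)
    (fun _ h => xi_xi h) (fun _ hv _ hw => xi_add hv hw) (fun _ h => sqNorm_xi h)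

/-! ### negation is a square -/

theorem negation_square : ∀ i : GolayPt,
    ofMaskW 16375860 i + ofMaskW 16375860 (projInv.symm i) = 1 ∧ projInv.symm (projInv.symm i) = i := by
  decide +kernel

theorem exists_sq_neg : ∃ g n : ↥Co0, g * g = n ∧
    ∀ v : ↥leechLattice, ((n • v : ↥leechLattice) : Zv) = -(v : Zv) := by
  have hc : ofMaskW 16375860 ∈ golayCode :=
    mem_code.2 (inCode_mem (by decide +kernel))
  obtain ⟨a, ha⟩ := exists_prm projInv_mem
  obtain ⟨b, hb⟩ := exists_sgn hc
  refine ⟨b * a, b * a * (b * a), rfl, fun v => ?_⟩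
  rw [mul_smul, mul_smul, mul_smul, hb, ha, hb, ha]
  funext i
  obtain ⟨h1, h2⟩ := negation_square i
  rcases word_eq_one_or_zero (ofMaskW 16375860 i) with h | h <;> rw [h] at h1
  · rw [zero_add] at h1
    simp [sgn, prm, h, h1, h2]
  · have h3 : ofMaskW 16375860 (projInv.symm i) = 0 := by
      generalize ofMaskW 16375860 (projInv.symm i) = z at h1 ⊢; revert z; decide
    simp [sgn, prm, h, h3, h2]

end Cfsg.Agent.Spor
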