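/-
Every class of the Leech lattice modulo two has a short representative.
-/
import Cfsg.Agent.Lib.Spor.LeechAuto
import Cfsg.Agent.Lib.Spor.GolayDodecad

set_option autoImplicit false
set_option maxRecDepth 100000

namespace Cfsg.Agent.Spor

open Cfsg
open scoped Pointwise symmDiff

local notation "Zv" => GolayPt → ℤ

/-- supports of code words -/
abbrev codeSets : Set (Finset GolayPt) := supports (golayCode : Set (GolayPt → ZMod 2))

theorem codeSets_iff {s : Finset GolayPt} : s ∈ codeSets ↔ mask s ∈ codeMasks := mem_supports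

theorem codeSets_symmDiff {s t : Finset GolayPt} (hs : s ∈ codeSets) (ht : t ∈ codeSets) :
    symmDiff s t ∈ codeSets := by
  rw [codeSets_iff] at *
  rw [mask_symmDiff]
  exact codeMasks_xor hs ht

theorem codeSets_empty : (∅ : Finset GolayPt) ∈ codeSets := codeSets_iff.2 (by decide +kernel)

theorem codeSets_card {s : Finset GolayPt} (hs : s ∈ codeSets) :
    s.card = 0 ∨ s.card = 8 ∨ s.card = 12 ∨ s.card = 16 ∨ s.card = 24 := by
  rw [← pc_mask]; exact codeMasks_weight _ (codeSets_iff.1 hs)

theorem codeSets_inter_even {s t : Finset GolayPt} (hs : s ∈ codeSets) (ht : t ∈ codeSets) :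
    (s ∩ t).card % 2 = 0 := by
  obtain ⟨v, hv, rfl⟩ := hs
  obtain ⟨w, hw, rfl⟩ := ht
  have h := code_orth hv hw
  have e : ∀ p, v p * w p = if p ∈ support₂ v ∩ support₂ w then 1 else 0 := fun p => by
    simp only [Finset.mem_inter, mem_support₂]
    rcases word_eq_one_or_zero (v p) with a | a <;> rcases word_eq_one_or_zero (w p) with b | b <;> simp [a, b]
  rw [Finset.sum_congr rfl fun p _ => e p, Finset.sum_boole,
    show (Finset.univ.filter fun p => p ∈ support₂ v ∩ support₂ w) = support₂ v ∩ support₂ w by ext; simp,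
    ZMod.natCast_eq_zero_iff] at h
  omega

theorem cover_four (a : Finset GolayPt) : ∃ k ∈ codeSets, (symmDiff a k).card ≤ 4 := by
  induction hn : a.card using Nat.strong_induction_on generalizing a with
  | _ n ih =>
    rcases le_or_gt a.card 4 with h4 | h5
    · exact ⟨∅, codeSets_empty, by rwa [← Finset.bot_eq_empty, symmDiff_bot]⟩
    obtain ⟨t, ht, htc⟩ := Finset.exists_subset_card_eq (n := 5) (s := a) h5
    obtain ⟨o, ho, hto⟩ := exists_octad_of_five htc
    have hc := card_symmDiff_add a o
    have h5' : 5 ≤ (a ∩ o).card := htc ▸ Finset.card_le_card (Finset.subset_inter ht hto)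
    have ho8 := ho.2
    obtain ⟨k, hk, hle⟩ := ih _ (by omega) (symmDiff a o) rfl
    exact ⟨symmDiff o k, codeSets_symmDiff ho.1 hk, by rwa [← symmDiff_assoc]⟩

theorem octad_triple_scan : (subMasks 3).all (fun t => t &&& 5279 != 0 ||
    octMasks.any fun o => t &&& o == t && pc (o &&& 5279) == 4) = true := by decide +kernel

theorem dodecad_pair_scan : (subMasks 2).all (fun t => t &&& baseDod != 0 ||
    octMasks.any fun o => t &&& o == t && pc (o &&& baseDod) == 6) = true := by decide +kernel

theorem small_octad {root n j : ℕ} (hroot : root < 2 ^ 24)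
    (hscan : (subMasks n).all (fun t => t &&& root != 0 ||
      octMasks.any fun o => t &&& o == t && pc (o &&& root) == j) = true)
    {c : Finset GolayPt} {σ : Equiv.Perm GolayPt} (hσ : σ ∈ M24) (hc : σ • ofMask root = c)
    {t : Finset GolayPt} (ht : t.card = n) (hd : Disjoint t c) :
    ∃ o ∈ octads, t ⊆ o ∧ (o ∩ c).card = j := by
  have hd' : Disjoint (σ⁻¹ • t) (ofMask root) := by
    rw [Finset.disjoint_left]
    intro p hp hq
    exact Finset.disjoint_left.1 hd (Finset.mem_inv_smul_finset_iff.1 hp) (hc ▸ Finset.smul_mem_smul_finset hq)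
  have hm := List.all_eq_true.1 hscan _ (mem_subMasks (k := n) (s := σ⁻¹ • t) (by rw [Finset.card_smul_finset, ht]))
  have h0 : mask (σ⁻¹ • t) &&& root = 0 := by
    rw [← mask_ofMask hroot, ← mask_inter, Finset.disjoint_iff_inter_eq_empty.1 hd']
    decide
  simp only [Bool.or_eq_true, bne_iff_ne, ne_eq, h0, not_true_eq_false, false_or, List.any_eq_true,
    Bool.and_eq_true, beq_iff_eq] at hm
  obtain ⟨o, ho, hto, hoc⟩ := hm
  have holt := octMasks_lt ho
  refine ⟨σ • ofMask o, smul_octad hσ (mem_octads.2 (by rwa [mask_ofMask holt])), ?_, ?_⟩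
  · rw [Finset.subset_smul_finset_iff]
    intro p hp
    rw [mem_ofMask]
    have := testBit_mask_idx.2 hp
    rw [← hto, Nat.testBit_and, Bool.and_eq_true] at this
    exact this.2
  · rw [← hc, ← Finset.smul_finset_inter, Finset.card_smul_finset, card_inter_eq, mask_ofMask holt,
      mask_ofMask hroot, hoc]

theorem symmDiff_sdiff' {α : Type*} [DecidableEq α] (a o c : Finset α) :
    symmDiff a o \ c = symmDiff (a \ c) (o \ c) := by
  ext p; simp only [Finset.mem_sdiff, Finset.mem_symmDiff]; tauto

theorem cover_octad {c : Finset GolayPt} (hc : c ∈ octads) (a : Finset GolayPt) :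
    ∃ k ∈ codeSets, (symmDiff a k \ c).card ≤ 2 := by
  induction hn : (a \ c).card using Nat.strong_induction_on generalizing a with
  | _ n ih =>
    rcases le_or_gt (a \ c).card 2 with h2 | h3
    · exact ⟨∅, codeSets_empty, by rwa [← Finset.bot_eq_empty, symmDiff_bot]⟩
    obtain ⟨t, ht, htc⟩ := Finset.exists_subset_card_eq (n := 3) (s := a \ c) h3
    obtain ⟨σ, hσ, e⟩ := octad_map c hc
    obtain ⟨o, ho, hto, hoc⟩ := small_octad (by norm_num) octad_triple_scan hσ e htc
      (Finset.disjoint_left.2 fun p hp => (Finset.mem_sdiff.1 (ht hp)).2)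
    have h4 : (o \ c).card = 4 := by
      have := Finset.card_sdiff_add_card_inter o c
      have := ho.2
      omega
    have h3' : 3 ≤ ((a \ c) ∩ (o \ c)).card := htc ▸ Finset.card_le_card
      (Finset.subset_inter ht fun p hp => Finset.mem_sdiff.2 ⟨hto hp, (Finset.mem_sdiff.1 (ht hp)).2⟩)
    have hcd := card_symmDiff_add (a \ c) (o \ c)
    obtain ⟨k, hk, hle⟩ := ih (symmDiff (a \ c) (o \ c)).card (by omega) (symmDiff a o) (by rw [symmDiff_sdiff'])
    exact ⟨symmDiff o k, codeSets_symmDiff ho.1 hk, by rwa [← symmDiff_assoc]⟩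

theorem dodecad_map {c : Finset GolayPt} (hc : c ∈ dodecads) :
    ∃ σ ∈ M24, σ • ofMask baseDod = c :=
  dodecad_trans baseDod_mem hc

theorem cover_dodecad {c : Finset GolayPt} (hc : c ∈ dodecads) (a : Finset GolayPt) :
    ∃ k ∈ codeSets, (symmDiff a k \ c).card ≤ 1 := by
  induction hn : (a \ c).card using Nat.strong_induction_on generalizing a with
  | _ n ih =>
    rcases le_or_gt (a \ c).card 1 with h1 | h2
    · exact ⟨∅, codeSets_empty, by rwa [← Finset.bot_eq_empty, symmDiff_bot]⟩
    obtain ⟨t, ht, htc⟩ := Finset.exists_subset_card_eq (n := 2) (s := a \ c) h2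
    obtain ⟨σ, hσ, e⟩ := dodecad_map hc
    obtain ⟨o, ho, hto, hoc⟩ := small_octad baseDod_lt dodecad_pair_scan hσ e htc
      (Finset.disjoint_left.2 fun p hp => (Finset.mem_sdiff.1 (ht hp)).2)
    have h4 : (o \ c).card = 2 := by
      have := Finset.card_sdiff_add_card_inter o c
      have := ho.2
      omega
    have h3' : 2 ≤ ((a \ c) ∩ (o \ c)).card := htc ▸ Finset.card_le_card
      (Finset.subset_inter ht fun p hp => Finset.mem_sdiff.2 ⟨hto hp, (Finset.mem_sdiff.1 (ht hp)).2⟩)
    have hcd := card_symmDiff_add (a \ c) (o \ c)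
    obtain ⟨k, hk, hle⟩ := ih (symmDiff (a \ c) (o \ c)).card (by omega) (symmDiff a o) (by rw [symmDiff_sdiff'])
    exact ⟨symmDiff o k, codeSets_symmDiff ho.1 hk, by rwa [← symmDiff_assoc]⟩

theorem dodecad_compl {c : Finset GolayPt} (hc : c ∈ dodecads) : Finset.univ \ c ∈ dodecads := by
  have h1 : (Finset.univ : Finset GolayPt) ∈ codeSets := codeSets_iff.2 (by decide +kernel)
  have h2 := codeSets_symmDiff h1 hc.1
  rw [show symmDiff (Finset.univ : Finset GolayPt) c = Finset.univ \ c from by
    ext p; simp [Finset.mem_symmDiff]] at h2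
  exact ⟨h2, by
    rw [Finset.card_sdiff_of_subset (Finset.subset_univ _), Finset.card_univ, hc.2]; rfl⟩

/-- congruence modulo twice the lattice -/
def Cong2 (x y : Zv) : Prop := ∃ z ∈ leechLattice, x - y = 2 • z

theorem Cong2.trans {x y w : Zv} (h : Cong2 x y) (h' : Cong2 y w) : Cong2 x w := by
  obtain ⟨z, hz, e⟩ := h
  obtain ⟨z', hz', e'⟩ := h'
  exact ⟨z + z', add_mem hz hz', by rw [smul_add, ← e, ← e', sub_add_sub_cancel]⟩

theorem Cong2.mem {x y : Zv} (hx : x ∈ leechLattice) (h : Cong2 x y) : y ∈ leechLattice := by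
  obtain ⟨z, hz, e⟩ := h
  rw [show y = x - 2 • z by rw [← e, sub_sub_cancel]]
  exact sub_mem hx (nsmul_mem hz 2)

theorem cong_of_four {x y : Zv} (n : Zv) (hd : ∀ i, x i - y i = 4 * n i)
    (hw : (Finset.univ.filter fun i => n i % 2 = 1) ∈ codeSets) (hs : (∑ i, n i) % 4 = 0) :
    Cong2 x y := by
  refine ⟨fun i => 2 * n i, mem_leech.2 ⟨0, fun i => ?_, ?_, ?_⟩, funext fun i => ?_⟩
  · simp only; omega
  · rw [← Finset.mul_sum]; omega
  · obtain ⟨w, hw, e⟩ := hw
    suffices e' : digit (fun i => 2 * n i) = w by rw [e']; exact hw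
    funext i
    have hi : i ∈ support₂ w ↔ n i % 2 = 1 := by rw [e]; simp
    rw [mem_support₂] at hi
    show (((2 * n i) / 2 : ℤ) : ZMod 2) = w i
    rw [Int.mul_ediv_cancel_left _ (by norm_num : (2 : ℤ) ≠ 0)]
    rcases word_eq_one_or_zero (w i) with h | h
    · rw [h, ZMod.intCast_zmod_eq_zero_iff_dvd]
      have : ¬ n i % 2 = 1 := fun hh => hi.2 hh h
      push_cast; omega
    · rw [h, show (1 : ZMod 2) = ((1 : ℤ) : ZMod 2) from by norm_num, ZMod.intCast_eq_intCast_iff']
      have : n i % 2 = 1 := hi.1 (by rw [h]; decide)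
      push_cast; omega
  · simp only [Pi.sub_apply, Pi.smul_apply, nsmul_eq_mul, hd]; push_cast; ring

/-- the digit set -/
def digSet (x : Zv) : Finset GolayPt := Finset.univ.filter fun i => x i / 2 % 2 = 1

theorem digSet_mem {x : Zv} (hx : x ∈ leechLattice) : digSet x ∈ codeSets := by
  obtain ⟨m, -, -, hd⟩ := mem_leech.1 hx
  refine ⟨digit x, hd, ?_⟩
  ext i
  rw [mem_support₂, digSet, Finset.mem_filter, digit, ne_eq, ZMod.intCast_zmod_eq_zero_iff_dvd]
  simp only [Finset.mem_univ, true_and]
  push_cast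
  omega

theorem odd_short {x : Zv} (hx : x ∈ leechLattice) (ho : ∀ i, x i % 2 = 1) :
    ∃ y, Cong2 x y ∧ sqNorm y ≤ 64 := by
  obtain ⟨m, h2, h8, -⟩ := mem_leech.1 hx
  set N := digSet x with hN
  set b : Zv := fun i => if i ∈ N then -1 else 1 with hb
  set a : Zv := fun i => (x i - b i) / 4 with ha
  have hxa : ∀ i, x i = b i + 4 * a i := fun i => by
    have := ho i
    by_cases hi : i ∈ N
    · simp only [ha, hb, if_pos hi]
      simp only [hN, digSet, Finset.mem_filter, Finset.mem_univ, true_and] at hi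
      omega
    · simp only [ha, hb, if_neg hi]
      simp only [hN, digSet, Finset.mem_filter, Finset.mem_univ, true_and] at hi
      omega
  have hbsum : (∑ i, b i) % 8 = 0 := by
    have e : ∑ i, b i = 24 - 2 * (N.card : ℤ) := by
      have : ∀ i, b i = 1 - 2 * (if i ∈ N then (1 : ℤ) else 0) := fun i => by
        simp only [hb]; split_ifs <;> ring
      rw [Finset.sum_congr rfl fun i _ => this i, Finset.sum_sub_distrib, ← Finset.mul_sum,
        Finset.sum_boole, Finset.sum_const, Finset.card_univ, nsmul_eq_mul, mul_one,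
        show (Finset.univ.filter fun i => i ∈ N) = N by ext; simp,
        show Fintype.card GolayPt = 24 from rfl]
      norm_num
    rcases codeSets_card (digSet_mem hx) with h | h | h | h | h <;> rw [e, hN, h] <;> rfl
  have hasum : (∑ i, a i) % 2 = 1 := by
    have e : ∑ i, x i = ∑ i, b i + 4 * ∑ i, a i := by
      rw [Finset.mul_sum, ← Finset.sum_add_distrib]
      exact Finset.sum_congr rfl fun i _ => hxa i
    have := h2 none
    have := ho none
    omega
  set A : Finset GolayPt := Finset.univ.filter fun i => a i % 2 = 1 with hA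
  obtain ⟨k, hk, hT⟩ := cover_four A
  set T := symmDiff A k with hTdef
  set u : Zv := fun i => if i ∈ T then -b i else 0 with hu
  have hpar : ∀ i, (a i - u i) % 2 = 1 ↔ i ∈ k := fun i => by
    have hm : i ∈ T ↔ ¬ (i ∈ A ↔ i ∈ k) := by rw [hTdef, Finset.mem_symmDiff]; tauto
    have hAi : i ∈ A ↔ a i % 2 = 1 := by simp [hA]
    have hb1 : b i = -1 ∨ b i = 1 := by simp only [hb]; split_ifs <;> simp
    by_cases hi : i ∈ T <;> by_cases hk' : i ∈ k <;> simp only [hu, hi, hk', hAi, if_true, if_false,
      iff_true, iff_false, not_not, true_iff, false_iff, not_true, not_false_iff] at hm ⊢ <;> omega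
  have hword : (Finset.univ.filter fun i => (a i - u i) % 2 = 1) ∈ codeSets := by
    convert hk using 1; ext i; simp [hpar]
  have hkpar : (∑ i, (a i - u i)) % 2 = 0 := by
    have hc : ((Finset.univ.filter fun i => (a i - u i) % 2 = 1).card : ℤ) % 2 = 0 := by
      rcases codeSets_card hword with h | h | h | h | h <;> rw [h] <;> rfl
    have : ∀ i, (a i - u i) % 2 = if (a i - u i) % 2 = 1 then 1 else 0 := fun i => by
      split_ifs <;> omega
    rw [Finset.sum_int_mod, Finset.sum_congr rfl fun i _ => this i, Finset.sum_boole]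
    exact hc
  have hy : ∀ i, (b i + 4 * u i) ^ 2 = 1 + 8 * (if i ∈ T then (1 : ℤ) else 0) := fun i => by
    simp only [hu, hb]; split_ifs <;> ring
  have hnorm : sqNorm (fun i => b i + 4 * u i) = 24 + 8 * (T.card : ℤ) := by
    rw [sqNorm, Finset.sum_congr rfl fun i _ => hy i, Finset.sum_add_distrib, ← Finset.mul_sum,
      Finset.sum_boole, Finset.sum_const, Finset.card_univ, nsmul_eq_mul, mul_one,
      show (Finset.univ.filter fun i => i ∈ T) = T by ext; simp]
    rfl
  rcases Int.emod_two_eq_zero_or_one ((∑ i, (a i - u i)) / 2) with hS | hS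
  · refine ⟨fun i => b i + 4 * u i, cong_of_four (fun i => a i - u i) (fun i => ?_) hword (by omega), ?_⟩
    · rw [hxa i]; ring
    · rw [hnorm]; omega
  · have hTodd : (T.card : ℤ) % 2 = 1 := by
      have hu2 : (∑ i, u i) % 2 = (T.card : ℤ) % 2 := by
        have : ∀ i, u i % 2 = if i ∈ T then 1 else 0 := fun i => by
          simp only [hu, hb]; split_ifs <;> rfl
        rw [Finset.sum_int_mod, Finset.sum_congr rfl fun i _ => this i, Finset.sum_boole,
          show (Finset.univ.filter fun i => i ∈ T) = T by ext; simp]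
      rw [Finset.sum_sub_distrib] at hkpar
      omega
    obtain ⟨i₀, hi₀⟩ : T.Nonempty := Finset.card_pos.1 (by omega)
    let n : Zv := fun i => a i - u i - if i = i₀ then 2 * b i else 0
    refine ⟨fun i => x i - 4 * n i, cong_of_four n (fun i => by ring) ?_ ?_, ?_⟩
    · convert hword using 1
      ext i
      simp only [n, Finset.mem_filter, Finset.mem_univ, true_and]
      split_ifs <;> omega
    · simp only [n]
      rw [Finset.sum_sub_distrib, Finset.sum_ite_eq', if_pos (Finset.mem_univ _)]
      have : b i₀ = -1 ∨ b i₀ = 1 := by simp only [hb]; split_ifs <;> simp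
      omega
    · have e : ∀ i, (x i - 4 * n i) ^ 2 = (b i + 4 * u i) ^ 2 + if i = i₀ then 16 else 0 := fun i => by
        by_cases hi : i = i₀
        · subst hi
          simp only [n, hu, if_pos hi₀, if_true, hxa i, hb]
          split_ifs <;> ring
        · simp only [n, if_neg hi, hxa i]; ring
      have e2 : sqNorm (fun i => x i - 4 * n i) = sqNorm (fun i => b i + 4 * u i) + 16 := by
        rw [sqNorm, Finset.sum_congr rfl fun i _ => e i, Finset.sum_add_distrib, Finset.sum_ite_eq',
          if_pos (Finset.mem_univ _)]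
        rfl
      rw [e2, hnorm]
      omega

set_option maxHeartbeats 1000000 in
theorem even_short {x : Zv} (hx : x ∈ leechLattice) (he : ∀ i, x i % 2 = 0)
    (hcs : (digSet x).card ≤ 12) : ∃ y, Cong2 x y ∧ sqNorm y ≤ 64 := by
  obtain ⟨m, h2, h8, -⟩ := mem_leech.1 hx
  set c := digSet x with hc
  have hcmem := digSet_mem hx
  set a : Zv := fun i => x i / 4 with ha
  have hxa : ∀ i, x i = (if i ∈ c then 2 else 0) + 4 * a i := fun i => by
    have := he i
    by_cases hi : i ∈ c
    · simp only [ha, if_pos hi]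
      simp only [hc, digSet, Finset.mem_filter, Finset.mem_univ, true_and] at hi
      omega
    · simp only [ha, if_neg hi]
      simp only [hc, digSet, Finset.mem_filter, Finset.mem_univ, true_and] at hi
      omega
  set A : Finset GolayPt := Finset.univ.filter fun i => a i % 2 = 1 with hA
  -- a code set reducing the part outside the digit set
  obtain ⟨k, hk, hB⟩ : ∃ k ∈ codeSets, 4 * c.card + 16 * (symmDiff A k \ c).card ≤ 64 := by
    rcases codeSets_card hcmem with h | h | h | h | h <;> rw [← hc] at h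
    · obtain ⟨k, hk, hle⟩ := cover_four A
      refine ⟨k, hk, ?_⟩
      have := Finset.card_le_card (Finset.sdiff_subset (s := symmDiff A k) (t := c))
      omega
    · obtain ⟨k, hk, hle⟩ := cover_octad (show c ∈ octads from ⟨hcmem, h⟩) A
      exact ⟨k, hk, by omega⟩
    · obtain ⟨k, hk, hle⟩ := cover_dodecad (show c ∈ dodecads from ⟨hcmem, h⟩) A
      exact ⟨k, hk, by omega⟩
    · omega
    · omega
  set T := symmDiff A k with hTdef
  set u : Zv := fun i => if i ∈ T then (if i ∈ c then -1 else 1) else 0 with hu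
  have hpar : ∀ i, (a i - u i) % 2 = 1 ↔ i ∈ k := fun i => by
    have hm : i ∈ T ↔ ¬ (i ∈ A ↔ i ∈ k) := by rw [hTdef, Finset.mem_symmDiff]; tauto
    have hAi : i ∈ A ↔ a i % 2 = 1 := by simp [hA]
    by_cases hi : i ∈ T <;> by_cases hk' : i ∈ k <;> by_cases hc' : i ∈ c <;>
      simp only [hu, hi, hk', hc', hAi, if_true, if_false,
        iff_true, iff_false, not_not, true_iff, false_iff, not_true, not_false_iff] at hm ⊢ <;> omega
  have hword : (Finset.univ.filter fun i => (a i - u i) % 2 = 1) ∈ codeSets := by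
    convert hk using 1; ext i; simp [hpar]
  have hkpar : (∑ i, (a i - u i)) % 2 = 0 := by
    have hc' : ((Finset.univ.filter fun i => (a i - u i) % 2 = 1).card : ℤ) % 2 = 0 := by
      rcases codeSets_card hword with h | h | h | h | h <;> rw [h] <;> rfl
    have : ∀ i, (a i - u i) % 2 = if (a i - u i) % 2 = 1 then 1 else 0 := fun i => by
      split_ifs <;> omega
    rw [Finset.sum_int_mod, Finset.sum_congr rfl fun i _ => this i, Finset.sum_boole]
    exact hc'
  set y : Zv := fun i => (if i ∈ c then 2 else 0) + 4 * u i with hy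
  have hxy : ∀ i, x i - y i = 4 * (a i - u i) := fun i => by rw [hy, hxa i]; ring
  have hy2 : ∀ i, y i ^ 2 = 4 * (if i ∈ c then (1 : ℤ) else 0) + 16 * (if i ∈ T \ c then (1 : ℤ) else 0) :=
    fun i => by
      by_cases hc' : i ∈ c <;> by_cases hi : i ∈ T <;> simp [hy, hu, hc', hi]
  have hnorm : sqNorm y = 4 * (c.card : ℤ) + 16 * ((T \ c).card : ℤ) := by
    rw [sqNorm, Finset.sum_congr rfl fun i _ => hy2 i, Finset.sum_add_distrib, ← Finset.mul_sum,
      ← Finset.mul_sum, Finset.sum_boole, Finset.sum_boole,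
      show (Finset.univ.filter fun i => i ∈ c) = c by ext; simp,
      show (Finset.univ.filter fun i => i ∈ T \ c) = T \ c by ext; simp]
  rcases Int.emod_two_eq_zero_or_one ((∑ i, (a i - u i)) / 2) with hS | hS
  · exact ⟨y, cong_of_four (fun i => a i - u i) hxy hword (by omega), by rw [hnorm]; omega⟩
  -- shift one coordinate
  have shift : ∀ (i₀ : GolayPt) (d : ℤ), (d = 1 ∨ d = -1) →
      Cong2 x (fun i => y i + if i = i₀ then 8 * d else 0) := by
    intro i₀ d hd
    refine cong_of_four (fun i => a i - u i - if i = i₀ then 2 * d else 0) (fun i => ?_) ?_ ?_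
    · have := hxy i
      split_ifs <;> linarith
    · convert hword using 1
      ext i
      simp only [Finset.mem_filter, Finset.mem_univ, true_and]
      split_ifs <;> omega
    · rw [Finset.sum_sub_distrib, Finset.sum_ite_eq', if_pos (Finset.mem_univ _)]
      omega
  have shiftNorm : ∀ (i₀ : GolayPt) (d : ℤ),
      sqNorm (fun i => y i + if i = i₀ then 8 * d else 0) = sqNorm y + (16 * d * y i₀ + 64 * d ^ 2) := by
    intro i₀ d
    have e : ∀ i, (y i + if i = i₀ then 8 * d else 0) ^ 2 =
        y i ^ 2 + if i = i₀ then 16 * d * y i₀ + 64 * d ^ 2 else 0 := fun i => by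
      by_cases hi : i = i₀
      · subst hi; simp only [if_true]; ring
      · simp only [if_neg hi]; ring
    rw [sqNorm, Finset.sum_congr rfl fun i _ => e i, Finset.sum_add_distrib, Finset.sum_ite_eq',
      if_pos (Finset.mem_univ _)]
    rfl
  rcases (T \ c).eq_empty_or_nonempty with hB0 | ⟨i₀, hi₀⟩
  swap
  · refine ⟨_, shift i₀ (-1) (Or.inr rfl), ?_⟩
    have : y i₀ = 4 := by
      simp only [Finset.mem_sdiff] at hi₀
      simp [hy, hu, hi₀.1, hi₀.2]
    rw [shiftNorm, this, hnorm]
    omega
  rw [hB0, Finset.card_empty] at hnorm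
  rcases codeSets_card hcmem with h | h | h | h | h <;> rw [← hc] at h
  · refine ⟨_, shift none 1 (Or.inl rfl), ?_⟩
    have hcn : none ∉ c := fun hh => by simp [Finset.card_eq_zero.1 h] at hh
    have hTn : none ∉ T := fun hh => by
      have := Finset.mem_sdiff.2 ⟨hh, hcn⟩
      rw [hB0] at this; simp at this
    have : y none = 0 := by simp [hy, hu, hcn, hTn]
    rw [shiftNorm, this, hnorm, h]
    norm_num
  · obtain ⟨i₀, hi₀⟩ : c.Nonempty := Finset.card_pos.1 (by omega)
    have hyi : y i₀ = 2 ∨ y i₀ = -2 := by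
      by_cases hi : i₀ ∈ T <;> simp [hy, hu, hi₀, hi]
    rcases hyi with e | e
    · exact ⟨_, shift i₀ (-1) (Or.inr rfl), by rw [shiftNorm, e, hnorm, h]; norm_num⟩
    · exact ⟨_, shift i₀ 1 (Or.inl rfl), by rw [shiftNorm, e, hnorm, h]; norm_num⟩
  · -- pass to the complementary dodecad
    obtain ⟨i₀, hi₀⟩ : c.Nonempty := Finset.card_pos.1 (by omega)
    have hTc : T ⊆ c := Finset.sdiff_eq_empty_iff_subset.1 hB0
    have hyv : ∀ i, y i = if i ∈ T then -2 else if i ∈ c then 2 else 0 := fun i => by
      by_cases hi : i ∈ T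
      · simp [hy, hu, hi, hTc hi]
      · simp [hy, hu, hi]
    have hTeven : (T.card : ℤ) % 2 = 0 := by
      have e : ∑ i, x i = 2 * (c.card : ℤ) + 4 * ∑ i, a i := by
        rw [show (c.card : ℤ) = ∑ i, if i ∈ c then 1 else 0 by
          rw [Finset.sum_boole, show (Finset.univ.filter fun i => i ∈ c) = c by ext; simp],
          Finset.mul_sum, Finset.mul_sum, ← Finset.sum_add_distrib]
        exact Finset.sum_congr rfl fun i _ => by rw [hxa i]; split_ifs <;> ring
      have hu2 : (∑ i, u i) % 2 = (T.card : ℤ) % 2 := by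
        have : ∀ i, u i % 2 = if i ∈ T then 1 else 0 := fun i => by
          simp only [hu]; split_ifs <;> rfl
        rw [Finset.sum_int_mod, Finset.sum_congr rfl fun i _ => this i, Finset.sum_boole,
          show (Finset.univ.filter fun i => i ∈ T) = T by ext; simp]
      rw [Finset.sum_sub_distrib] at hkpar
      have := h2 none; have := he none
      omega
    obtain ⟨N, hN, hle⟩ := cover_dodecad (dodecad_compl ⟨hcmem, h⟩) T
    have hsd : symmDiff T N \ (Finset.univ \ c) = symmDiff T (N ∩ c) := by
      ext p; simp only [Finset.mem_sdiff, Finset.mem_symmDiff, Finset.mem_univ, Finset.mem_inter, true_and,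
        not_not]
      have := @hTc p
      tauto
    have hNc : N ∩ c = T := by
      have hev : (N ∩ c).card % 2 = 0 := by
        exact codeSets_inter_even hN hcmem
      have hcd := card_symmDiff_add T (N ∩ c)
      rw [hsd] at hle
      have h0 : (symmDiff T (N ∩ c)).card = 0 := by omega
      exact (symmDiff_eq_bot.1 (Finset.card_eq_zero.1 h0)).symm
    obtain ⟨σ, hσ, hm⟩ := M24_trans (k := 1) (by norm_num) ⟨fun _ => (none : GolayPt), by decide⟩
      ⟨fun _ => i₀, fun i j _ => Subsingleton.elim i j⟩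
    have hσ0 : σ none = i₀ := hm 0
    obtain ⟨w, hw, hwN⟩ := hN
    set v : Zv := sgn w (prm σ oddVec) with hvdef
    have hv : v ∈ leechLattice := sgn_mem hw (prm_mem hσ oddVec_mem)
    have hvi : ∀ i, v i = (if i ∈ N then -1 else 1) * (if i = i₀ then -3 else 1) := fun i => by
      have h1 : (σ.symm i = none) ↔ i = i₀ := by rw [Equiv.symm_apply_eq, hσ0]
      have h2 : i ∈ N ↔ w i ≠ 0 := by rw [← hwN, mem_support₂]
      simp only [hvdef, sgn, prm, oddVec, h1, h2]
      by_cases hii : i = i₀
      · subst hii; by_cases hwi : w i = 0 <;> simp [hwi]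
      · by_cases hwi : w i = 0 <;> simp [hwi, hii]
    set d : ℤ := if i₀ ∈ T then 1 else -1 with hd
    have h1 := shift i₀ d (by simp only [hd]; split_ifs <;> simp)
    refine ⟨fun i => (y i + if i = i₀ then 8 * d else 0) - 2 * v i, h1.trans ⟨v, hv, funext fun i => ?_⟩, ?_⟩
    · simp only [Pi.sub_apply, Pi.smul_apply, nsmul_eq_mul]; push_cast; ring
    · have hval : ∀ i, ((y i + if i = i₀ then 8 * d else 0) - 2 * v i) ^ 2 =
          if i ∈ c then 0 else 4 := fun i => by
        have hiT : i ∈ c → (i ∈ N ↔ i ∈ T) := fun hic => by rw [← hNc, Finset.mem_inter]; tauto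
        by_cases hi : i = i₀
        · subst hi
          by_cases hT0 : i ∈ T <;> simp [hyv, hvi, hd, hT0, hi₀, hiT hi₀]
        · by_cases hic : i ∈ c
          · by_cases hT0 : i ∈ T <;> simp [hyv, hvi, hi, hT0, hic, hiT hic]
          · have hT0 : i ∉ T := fun hh => hic (hTc hh)
            by_cases hN0 : i ∈ N <;> simp [hyv, hvi, hi, hT0, hic, hN0]
      rw [sqNorm, Finset.sum_congr rfl fun i _ => hval i]
      have e2 : ∀ i, (if i ∈ c then (0 : ℤ) else 4) = 4 - 4 * (if i ∈ c then 1 else 0) := fun i => by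
        split_ifs <;> ring
      rw [Finset.sum_congr rfl fun i _ => e2 i, Finset.sum_sub_distrib, ← Finset.mul_sum, Finset.sum_boole,
        show (Finset.univ.filter fun i => i ∈ c) = c by ext; simp, Finset.sum_const, Finset.card_univ, h]
      decide
  · omega
  · omega

theorem short_rep {x : Zv} (hx : x ∈ leechLattice) :
    ∃ y ∈ leechLattice, sqNorm y ≤ 64 ∧ ∃ z ∈ leechLattice, x - y = 2 • z := by
  suffices h : ∃ y, Cong2 x y ∧ sqNorm y ≤ 64 by
    obtain ⟨y, h1, h2⟩ := h
    exact ⟨y, h1.mem hx, h2, h1⟩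
  obtain ⟨m, h2, -, -⟩ := mem_leech.1 hx
  rcases Int.emod_two_eq m with hm | hm
  swap
  · exact odd_short hx fun i => by have := h2 i; omega
  have he : ∀ i, x i % 2 = 0 := fun i => by have := h2 i; omega
  by_cases hcs : (digSet x).card ≤ 12
  · exact even_short hx he hcs
  set x' : Zv := fun i => x i + 2 * oddVec i with hx'
  have hc : Cong2 x x' := ⟨-oddVec, neg_mem oddVec_mem, funext fun i => by
    simp only [hx', Pi.sub_apply, Pi.smul_apply, Pi.neg_apply, nsmul_eq_mul]; push_cast; ring⟩
  have ho : ∀ i, oddVec i % 2 = 1 := by decide +kernel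
  have hdig : digSet x' = Finset.univ \ digSet x := by
    ext i
    simp only [digSet, hx', Finset.mem_filter, Finset.mem_sdiff, Finset.mem_univ, true_and]
    have := he i; have := ho i
    omega
  obtain ⟨y, h1, h3⟩ := even_short (hc.mem hx) (fun i => by
      have := he i; simp only [hx']; omega)
    (by rw [hdig, Finset.card_sdiff_of_subset (Finset.subset_univ _), Finset.card_univ,
      show Fintype.card GolayPt = 24 from rfl]; omega)
  exact ⟨y, hc.trans h1, h3⟩

end Cfsg.Agent.Spor
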