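/-
Crosses of the Leech lattice: a class of norm 64 has exactly 48 members.
-/
import Cfsg.Agent.Lib.Spor.LeechShort
import Cfsg.Agent.Lib.Spor.GolayStabCerts
import Cfsg.Agent.Lib.Spor.LeechCrossData

set_option autoImplicit false
set_option maxRecDepth 100000

namespace Cfsg.Agent.Spor

open Cfsg
open scoped Pointwise symmDiff

local notation "Zv" => GolayPt → ℤ

/-! ### at most 48 -/

theorem cross_dot {x y y' : Zv} (hxn : sqNorm x = 64) (hy : y ∈ cross x) (hy' : y' ∈ cross x)
    (h1 : y ≠ y') (h2 : y ≠ -y') : dotInt y y' = 0 := by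
  obtain ⟨hyL, hyn, z, hz, ez⟩ := hy
  obtain ⟨hyL', hyn', z', hz', ez'⟩ := hy'
  have e : y - y' = 2 • (z' - z) := by rw [smul_sub, ← ez', ← ez]; abel
  have hd : z' - z ∈ leechLattice := sub_mem hz' hz
  have hs : y - (z' - z) ∈ leechLattice := sub_mem hyL hd
  have hne : z' - z ≠ 0 := fun h => h1 (sub_eq_zero.1 (by rw [e, h, smul_zero]))
  have e2 : y + y' = 2 • (y - (z' - z)) := by rw [smul_sub, ← e, two_nsmul]; abel
  have hne2 : y - (z' - z) ≠ 0 := fun h => h2 (eq_neg_of_add_eq_zero_left (by rw [e2, h, smul_zero]))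
  have n1 := (leech_norm hd).2 hne
  have n2 := (leech_norm hs).2 hne2
  have q1 : sqNorm (y - y') = 4 * sqNorm (z' - z) := by
    rw [e, sqNorm, sqNorm, Finset.mul_sum]
    exact Finset.sum_congr rfl fun i _ => by simp only [Pi.smul_apply, nsmul_eq_mul]; push_cast; ring
  have q2 : sqNorm (y + y') = 4 * sqNorm (y - (z' - z)) := by
    rw [e2, sqNorm, sqNorm, Finset.mul_sum]
    exact Finset.sum_congr rfl fun i _ => by simp only [Pi.smul_apply, nsmul_eq_mul]; push_cast; ring
  have q3 : sqNorm (y + y') + sqNorm (y - y') = 2 * sqNorm y + 2 * sqNorm y' := by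
    simp only [sqNorm, Finset.mul_sum, ← Finset.sum_add_distrib, Pi.add_apply, Pi.sub_apply]
    exact Finset.sum_congr rfl fun i _ => by ring
  have q4 := sqNorm_sub y y'
  rw [hyn, hyn', hxn] at q3
  rw [hyn, hyn', hxn] at q4
  omega

theorem dot_self (y : Zv) : dotInt y y = sqNorm y :=
  Finset.sum_congr rfl fun i _ => (sq (y i)).symm

theorem dot_neg_right (y z : Zv) : dotInt y (-z) = -dotInt y z := by simp [dotInt, Finset.sum_neg_distrib]

theorem cross_bessel {x : Zv} (hxn : sqNorm x = 64) {F : Finset Zv} (hF : ∀ y ∈ F, y ∈ cross x)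
    (v : Zv) : ∑ y ∈ F, dotInt v y ^ 2 ≤ 128 * sqNorm v := by
  classical
  set w : Zv := fun i => ∑ y ∈ F, dotInt v y * y i with hw
  have hvw : dotInt v w = ∑ y ∈ F, dotInt v y ^ 2 := by
    simp only [dotInt, hw, Finset.mul_sum]
    rw [Finset.sum_comm]
    exact Finset.sum_congr rfl fun y _ => by
      rw [sq, Finset.sum_mul]
      exact Finset.sum_congr rfl fun i _ => by ring
  have hww : sqNorm w = ∑ y ∈ F, dotInt v y * ∑ y' ∈ F, dotInt v y' * dotInt y y' := by
    have e : ∀ y, dotInt y w = ∑ y' ∈ F, dotInt v y' * dotInt y y' := fun y => by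
      simp only [dotInt, hw, Finset.mul_sum]
      rw [Finset.sum_comm]
      exact Finset.sum_congr rfl fun y' _ => Finset.sum_congr rfl fun i _ => by ring
    have e' : sqNorm w = ∑ y ∈ F, dotInt v y * dotInt y w := by
      have hi : ∀ i, w i ^ 2 = ∑ y ∈ F, dotInt v y * (y i * w i) := fun i => by
        rw [sq]
        conv_lhs => arg 1; rw [hw]
        simp only [Finset.sum_mul, mul_assoc]
      rw [sqNorm, Finset.sum_congr rfl fun i _ => hi i, Finset.sum_comm]
      exact Finset.sum_congr rfl fun y _ => by rw [← Finset.mul_sum]; rfl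
    rw [e']
    exact Finset.sum_congr rfl fun y _ => by rw [e y]
  have hin : ∀ y ∈ F, dotInt v y * ∑ y' ∈ F, dotInt v y' * dotInt y y' ≤ 128 * dotInt v y ^ 2 := by
    intro y hy
    rw [Finset.mul_sum, ← Finset.sum_filter_add_sum_filter_not F (fun y' => y' = y ∨ y' = -y)]
    have h0 : ∑ y' ∈ F.filter (fun y' => ¬ (y' = y ∨ y' = -y)),
        dotInt v y * (dotInt v y' * dotInt y y') = 0 := Finset.sum_eq_zero fun y' hy' => by
      rw [Finset.mem_filter, not_or] at hy'
      rw [cross_dot hxn (hF y hy) (hF y' hy'.1) (Ne.symm hy'.2.1) fun e => hy'.2.2 (by rw [e, neg_neg])]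
      ring
    have h1 : ∑ y' ∈ F.filter (fun y' => y' = y ∨ y' = -y), dotInt v y * (dotInt v y' * dotInt y y') =
        (F.filter fun y' => y' = y ∨ y' = -y).card * (64 * dotInt v y ^ 2) := by
      rw [Finset.sum_congr rfl fun y' hy' => ?_, Finset.sum_const, nsmul_eq_mul]
      rw [Finset.mem_filter] at hy'
      have hn : dotInt y y = 64 := by rw [dot_self, (hF y hy).2.1, hxn]
      rcases hy'.2 with e | e <;> rw [e]
      · rw [hn]; ring
      · rw [dot_neg_right, dot_neg_right, hn]; ring
    have h2 : (F.filter fun y' => y' = y ∨ y' = -y).card ≤ 2 :=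
      (Finset.card_le_card (fun y' hy' => by
        rw [Finset.mem_filter] at hy'
        simpa using hy'.2 : _ ⊆ ({y, -y} : Finset Zv))).trans Finset.card_le_two
    rw [h0, h1, add_zero]
    have : ((F.filter fun y' => y' = y ∨ y' = -y).card : ℤ) ≤ 2 := by exact_mod_cast h2
    nlinarith [sq_nonneg (dotInt v y)]
  have hle : sqNorm w ≤ 128 * ∑ y ∈ F, dotInt v y ^ 2 := by
    rw [hww, Finset.mul_sum]; exact Finset.sum_le_sum hin
  have hpos : 0 ≤ sqNorm ((128 : ℤ) • v - w) := Finset.sum_nonneg fun i _ => sq_nonneg _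
  have hdot : dotInt ((128 : ℤ) • v) w = 128 * dotInt v w := by
    simp only [dotInt, Finset.mul_sum, Pi.smul_apply, smul_eq_mul, mul_assoc]
  rw [sqNorm_sub, sqNorm_smul, hdot, hvw] at hpos
  omega

theorem cross_card_le {x : Zv} (hxn : sqNorm x = 64) {F : Finset Zv} (hF : ∀ y ∈ F, y ∈ cross x) :
    F.card ≤ 48 := by
  have h := fun i : GolayPt => cross_bessel hxn hF (Pi.single i 1)
  have hd : ∀ (i : GolayPt) (y : Zv), dotInt (Pi.single i 1) y = y i := fun i y => by
    simp [dotInt, Pi.single_apply]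
  have hn : ∀ i : GolayPt, sqNorm (Pi.single i 1 : Zv) = 1 := fun i => by
    simp [sqNorm, Pi.single_apply]
  have hs := Finset.sum_le_sum (s := Finset.univ) fun i _ => h i
  simp only [hd, hn] at hs
  rw [Finset.sum_comm, Finset.sum_congr rfl fun (y : Zv) hy =>
    show ∑ i, y i ^ 2 = 64 from (hF y hy).2.1.trans hxn, Finset.sum_const, Finset.sum_const,
    Finset.card_univ, nsmul_eq_mul, nsmul_eq_mul, show Fintype.card GolayPt = 24 from rfl] at hs
  push_cast at hs
  omega

/-! ### at least 48 -/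

/-- forty eight members exist -/
def GoodCross (x : Zv) : Prop := ∃ F : Finset Zv, 48 ≤ F.card ∧ ∀ y ∈ F, y ∈ cross x

theorem goodCross_ncard {x : Zv} (hxn : sqNorm x = 64) (h : GoodCross x) : (cross x).ncard = 48 := by
  obtain ⟨F, h48, hF⟩ := h
  have hFc : F.card = 48 := le_antisymm (cross_card_le hxn hF) h48
  suffices hs : cross x = ↑F by rw [hs, Set.ncard_coe_finset, hFc]
  refine Set.Subset.antisymm (fun y hy => ?_) hF
  by_contra hyF
  have := cross_card_le hxn (F := Finset.cons y F hyF) (by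
    intro z hz
    rcases Finset.mem_cons.1 hz with rfl | hz
    · exact hy
    · exact hF z hz)
  rw [Finset.card_cons] at this
  omega

theorem goodCross_congr {x y : Zv} (h : GoodCross y) (hn : sqNorm y = sqNorm x) (hc : Cong2 x y) :
    GoodCross x := by
  obtain ⟨F, h48, hF⟩ := h
  refine ⟨F, h48, fun z hz => ?_⟩
  obtain ⟨hzL, hzn, hzc⟩ := hF z hz
  exact ⟨hzL, hzn.trans hn, hc.trans hzc⟩

theorem goodCross_map {x : Zv} (h : GoodCross x) (f : Zv →+ Zv) (hf : Function.Injective f)
    (hL : ∀ v ∈ leechLattice, f v ∈ leechLattice) (hn : ∀ v, sqNorm (f v) = sqNorm v) :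
    GoodCross (f x) := by
  classical
  obtain ⟨F, h48, hF⟩ := h
  refine ⟨F.image f, by rwa [Finset.card_image_of_injective _ hf], fun y hy => ?_⟩
  obtain ⟨y, hyF, rfl⟩ := Finset.mem_image.1 hy
  obtain ⟨hyL, hyn, z, hz, e⟩ := hF y hyF
  exact ⟨hL y hyL, by rw [hn, hn, hyn], f z, hL z hz, by rw [← map_sub, e, map_nsmul]⟩

theorem goodCross_prm {σ : Equiv.Perm GolayPt} (hσ : σ ∈ M24) {x : Zv} (h : GoodCross x) :
    GoodCross (prm σ x) :=
  goodCross_map h (AddMonoidHom.mk' (prm σ) fun _ _ => rfl)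
    (Function.LeftInverse.injective (prm_inv_left σ)) (fun _ => prm_mem hσ) (sqNorm_prm σ)

theorem goodCross_sgn {c : GolayPt → ZMod 2} (hc : c ∈ golayCode) {x : Zv} (h : GoodCross x) :
    GoodCross (sgn c x) :=
  goodCross_map h (AddMonoidHom.mk' (sgn c) (sgn_add c))
    (Function.LeftInverse.injective (sgn_sgn c)) (fun _ => sgn_mem hc) (sqNorm_sgn c)

/-- vector of a list -/
def vecOf (l : List ℤ) : Zv := fun p => l.getD (idx p) 0

/-- the base vectors -/
def crossBase (j : ℕ) : Zv := vecOf ((crossData.getD j []).getD 0 [])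

/-- validity of one half cross -/
def crossCheck (L : List (List ℤ)) : Bool :=
  let x := vecOf (L.getD 0 [])
  (L.length == 24) && L.all fun l =>
    let y := vecOf l
    leechCheck y && (decide (sqNorm y = 64)) && (decide (∀ i, (x i - y i) % 2 = 0)) &&
      leechCheck (fun i => (x i - y i) / 2)

/-- distinctness of the signed members -/
def crossDistinct (L : List (List ℤ)) : Bool :=
  decide ((L ++ L.map fun l => l.map (- ·)).Nodup) && L.all fun l => l.length == 24

theorem crossData_ok : crossData.all crossCheck = true ∧ crossData.all crossDistinct = true ∧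
    crossData.length = 7 := by
  refine ⟨?_, ?_, ?_⟩ <;> decide +kernel

theorem vecOf_injective {l l' : List ℤ} (h : l.length = 24) (h' : l'.length = 24)
    (e : vecOf l = vecOf l') : l = l' := by
  refine List.ext_getElem (h.trans h'.symm) fun n h1 h2 => ?_
  have := congrFun e (pt n)
  simp only [vecOf, idx_pt n (h ▸ h1)] at this
  rwa [List.getD_eq_getElem _ _ h1, List.getD_eq_getElem _ _ h2] at this

theorem goodCross_base {j : ℕ} (hj : j < 7) : GoodCross (crossBase j) ∧ sqNorm (crossBase j) = 64 := by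
  set L := crossData.getD j [] with hL
  have hmem : L ∈ crossData := by
    rw [hL, List.getD_eq_getElem _ _ (crossData_ok.2.2.symm ▸ hj)]; exact List.getElem_mem _
  have hc := List.all_eq_true.1 crossData_ok.1 L hmem
  have hd := List.all_eq_true.1 crossData_ok.2.1 L hmem
  simp only [crossCheck, crossDistinct, Bool.and_eq_true, beq_iff_eq, List.all_eq_true,
    decide_eq_true_eq] at hc hd
  have hx0 : L.getD 0 [] ∈ L := by
    rw [List.getD_eq_getElem _ _ (hc.1.symm ▸ (by norm_num : 0 < 24))]; exact List.getElem_mem _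
  set x := crossBase j with hx
  have hxe : x = vecOf (L.getD 0 []) := rfl
  have hxn : sqNorm x = 64 := hxe ▸ (hc.2 _ hx0).1.1.2
  refine ⟨⟨((L ++ L.map fun l => l.map (- ·)).map vecOf).toFinset, ?_, fun y hy => ?_⟩, hxn⟩
  · rw [List.toFinset_card_of_nodup, List.length_map, List.length_append, List.length_map, hc.1]
    refine List.Nodup.map_on ?_ hd.1
    have hlen : ∀ l ∈ L ++ L.map (fun l => l.map (- ·)), l.length = 24 := fun l hl => by
      rcases List.mem_append.1 hl with hl | hl
      · exact hd.2 l hl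
      · obtain ⟨l', hl', rfl⟩ := List.mem_map.1 hl
        rw [List.length_map]; exact hd.2 l' hl'
    exact fun a ha b hb e => vecOf_injective (hlen a ha) (hlen b hb) e
  · rw [List.mem_toFinset, List.map_append, List.mem_append] at hy
    have hpos : ∀ l ∈ L, vecOf l ∈ cross x := fun l hl => by
      obtain ⟨⟨⟨h1, h2⟩, h3⟩, h4⟩ := hc.2 l hl
      refine ⟨leechCheck_mem h1, h2.trans hxn.symm, _, leechCheck_mem h4, funext fun i => ?_⟩
      have := h3 i
      rw [hxe]
      simp only [Pi.sub_apply, Pi.smul_apply, nsmul_eq_mul]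
      push_cast
      omega
    rcases hy with hy | hy
    · obtain ⟨l, hl, rfl⟩ := List.mem_map.1 hy; exact hpos l hl
    · obtain ⟨l', hl', rfl⟩ := List.mem_map.1 hy
      obtain ⟨l, hl, rfl⟩ := List.mem_map.1 hl'
      have e : vecOf (l.map (- ·)) = -vecOf l := funext fun p => by
        have h24 := hd.2 l hl
        have hp := idx_lt p
        simp only [vecOf, Pi.neg_apply]
        rw [List.getD_eq_getElem _ _ (by rw [List.length_map]; omega), List.getElem_map,
          List.getD_eq_getElem _ _ (by omega)]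
      obtain ⟨hyL, hyn, z, hz, ez⟩ := hpos l hl
      rw [e]
      refine ⟨neg_mem hyL, by rw [sqNorm_neg, hyn], z + vecOf l, add_mem hz hyL, ?_⟩
      rw [smul_add, ← ez, two_nsmul]; abel

/-! ### sign patterns -/

/-- sets cut out on `S` by code sets -/
def CutBy (S s : Finset GolayPt) : Prop := ∃ k ∈ codeSets, k ∩ S = s

theorem CutBy.symm_diff {S s t : Finset GolayPt} (hs : CutBy S s) (ht : CutBy S t) :
    CutBy S (symmDiff s t) := by
  obtain ⟨k, hk, rfl⟩ := hs
  obtain ⟨l, hl, rfl⟩ := ht
  refine ⟨_, codeSets_symmDiff hk hl, ?_⟩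
  ext p; simp only [Finset.mem_inter, Finset.mem_symmDiff]; tauto

/-- pairs in `L` and single points elsewhere are cut out -/
def cutScan (S L : ℕ) : Bool :=
  ((List.range 24).all fun a => !(Nat.testBit S a) || Nat.testBit L a ||
      codeMasks.any fun k => k &&& S == 1 <<< a) &&
    ((List.range 24).all fun a => !(Nat.testBit L a) || (List.range 24).all fun b =>
      !(Nat.testBit L b) || decide (b ≤ a) || codeMasks.any fun k => k &&& S == (1 <<< a ||| 1 <<< b))

theorem mask_single (p : GolayPt) : mask {p} = 1 <<< idx p := by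
  rw [mask, Finset.image_singleton, Finset.sum_singleton, Nat.one_shiftLeft]

theorem cut_of_mask {S m : ℕ} (hS : S < 2 ^ 24) {s : Finset GolayPt} (hs : mask s = m)
    (h : (codeMasks.any fun k => k &&& S == m) = true) : CutBy (ofMask S) s := by
  obtain ⟨k, hk, he⟩ := List.any_eq_true.1 h
  have hlt := codeMasks_lt k hk
  refine ⟨ofMask k, codeSets_iff.2 (by rwa [mask_ofMask hlt]), mask_injective ?_⟩
  rw [mask_inter, mask_ofMask hlt, mask_ofMask hS, hs]
  exact beq_iff_eq.1 he

theorem cut_all {S L : ℕ} (hS : S < 2 ^ 24) (hscan : cutScan S L = true) {s : Finset GolayPt}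
    (hs : s ⊆ ofMask S) (hev : (s ∩ ofMask L).card % 2 = 0) : CutBy (ofMask S) s := by
  simp only [cutScan, Bool.and_eq_true, List.all_eq_true, List.mem_range, Bool.or_eq_true,
    Bool.not_eq_true', decide_eq_true_eq] at hscan
  induction hn : s.card using Nat.strong_induction_on generalizing s with
  | _ n ih =>
    rcases s.eq_empty_or_nonempty with rfl | ⟨p, hp⟩
    · exact ⟨∅, codeSets_empty, Finset.empty_inter _⟩
    have hpS : Nat.testBit S (idx p) = true := mem_ofMask.1 (hs hp)
    by_cases hpL : Nat.testBit L (idx p) = true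
    · obtain ⟨q, hq, hqp⟩ : ∃ q ∈ s ∩ ofMask L, q ≠ p := by
        by_contra hc
        push_neg at hc
        have : s ∩ ofMask L = {p} := Finset.Subset.antisymm (fun q hq => Finset.mem_singleton.2 (hc q hq))
          (Finset.singleton_subset_iff.2 (Finset.mem_inter.2 ⟨hp, mem_ofMask.2 hpL⟩))
        rw [this] at hev; simp at hev
      obtain ⟨hqs, hqL⟩ := Finset.mem_inter.1 hq
      have hpair : CutBy (ofMask S) {p, q} := by
        have hm : mask {p, q} = 1 <<< idx p ||| 1 <<< idx q := by
          rw [show ({p, q} : Finset GolayPt) = {p} ∪ {q} from rfl, mask_union, mask_single, mask_single]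
        have hne : idx p ≠ idx q := fun e => hqp (idx_injective e).symm
        rcases lt_or_gt_of_ne hne with hlt | hlt
        · rcases hscan.2 (idx p) (idx_lt p) with h | h
          · rw [hpL] at h; exact absurd h (by decide)
          rcases h (idx q) (idx_lt q) with (h | h) | h
          · rw [mem_ofMask.1 hqL] at h; exact absurd h (by decide)
          · omega
          · exact cut_of_mask hS hm h
        · rcases hscan.2 (idx q) (idx_lt q) with h | h
          · rw [mem_ofMask.1 hqL] at h; exact absurd h (by decide)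
          rcases h (idx p) (idx_lt p) with (h | h) | h
          · rw [hpL] at h; exact absurd h (by decide)
          · omega
          · exact cut_of_mask hS (hm.trans (Nat.lor_comm _ _)) h
      have hsub : ({p, q} : Finset GolayPt) ⊆ s := by
        simp [Finset.insert_subset_iff, hp, hqs]
      have hc2 : ({p, q} : Finset GolayPt).card = 2 := Finset.card_pair hqp.symm
      have hrest : (s \ {p, q}).card < n := by
        rw [← hn, Finset.card_sdiff_of_subset hsub]
        have := Finset.card_le_card hsub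
        omega
      have := (ih _ hrest (Finset.sdiff_subset.trans hs) (by
        have e : (s \ {p, q}) ∩ ofMask L = (s ∩ ofMask L) \ {p, q} := by
          ext r; simp only [Finset.mem_inter, Finset.mem_sdiff]; tauto
        have hsub' : ({p, q} : Finset GolayPt) ⊆ s ∩ ofMask L := by
          simp [Finset.insert_subset_iff, hp, hqs, mem_ofMask.2 hpL, hqL]
        rw [e, Finset.card_sdiff_of_subset hsub', hc2]
        have := Finset.card_le_card hsub'
        omega) rfl).symm_diff hpair
      rwa [show symmDiff (s \ {p, q}) {p, q} = s from by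
        ext r
        have := @hsub r
        simp only [Finset.mem_symmDiff, Finset.mem_sdiff]
        tauto] at this
    · have hsingle : CutBy (ofMask S) {p} := by
        rcases hscan.1 (idx p) (idx_lt p) with (h | h) | h
        · rw [hpS] at h; exact absurd h (by decide)
        · exact absurd h hpL
        · exact cut_of_mask hS (mask_single p) h
      have hsub : ({p} : Finset GolayPt) ⊆ s := Finset.singleton_subset_iff.2 hp
      have hrest : (s \ {p}).card < n := by
        rw [← hn, Finset.card_sdiff_of_subset hsub, Finset.card_singleton]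
        have := Finset.card_pos.2 ⟨p, hp⟩
        omega
      have := (ih _ hrest (Finset.sdiff_subset.trans hs) (by
        rw [show (s \ {p}) ∩ ofMask L = s ∩ ofMask L from by
          ext r
          simp only [Finset.mem_inter, Finset.mem_sdiff, Finset.mem_singleton]
          exact ⟨fun h => ⟨h.1.1, h.2⟩, fun h => ⟨⟨h.1, fun e => hpL (e ▸ mem_ofMask.1 h.2)⟩, h.2⟩⟩]
        exact hev) rfl).symm_diff hsingle
      rwa [show symmDiff (s \ {p}) {p} = s from by
        ext r
        have := @hsub r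
        simp only [Finset.mem_symmDiff, Finset.mem_sdiff]
        tauto] at this

/-- supports and the parts congruent to two -/
theorem base_masks : ∀ j, j < 5 → ∃ S L, S < 2 ^ 24 ∧ cutScan S L = true ∧
    (∀ p, Nat.testBit S (idx p) = true ↔ crossBase j p ≠ 0) ∧
    (∀ p, Nat.testBit L (idx p) = true ↔ crossBase j p % 4 = 2) := by
  intro j hj
  have h : ∀ S L : ℕ, (cutScan S L && decide (S < 2 ^ 24) &&
      decide (∀ p, (Nat.testBit S (idx p) = decide (crossBase j p ≠ 0)) ∧
        (Nat.testBit L (idx p) = decide (crossBase j p % 4 = 2)))) = true →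
      ∃ S L, S < 2 ^ 24 ∧ cutScan S L = true ∧
        (∀ p, Nat.testBit S (idx p) = true ↔ crossBase j p ≠ 0) ∧
        (∀ p, Nat.testBit L (idx p) = true ↔ crossBase j p % 4 = 2) := by
    intro S L h
    simp only [Bool.and_eq_true, decide_eq_true_eq] at h
    exact ⟨S, L, h.1.2, h.1.1, fun p => by rw [(h.2 p).1, decide_eq_true_eq],
      fun p => by rw [(h.2 p).2, decide_eq_true_eq]⟩
  interval_cases j
  · exact h 8388608 0 (by decide +kernel)
  · exact h 15 0 (by decide +kernel)
  · exact h 5279 5279 (by decide +kernel)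
  · exact h (5279 + 32 + 64) 5279 (by decide +kernel)
  · exact h (165759 + 128) 165759 (by decide +kernel)

/-- image under a signed permutation of the monomial group -/
def IsImg (b y : Zv) : Prop := ∃ σ ∈ M24, ∃ w ∈ golayCode, y = prm σ (sgn w b)

theorem goodCross_img {b y : Zv} (hb : GoodCross b) (h : IsImg b y) : GoodCross y := by
  obtain ⟨σ, hσ, w, hw, rfl⟩ := h
  exact goodCross_prm hσ (goodCross_sgn hw hb)

/-- an even vector with the absolute values of a given one -/
theorem img_of_abs {b y : Zv} (hbL : b ∈ leechLattice) (hb2 : ∀ p, b p % 2 = 0) {S L : ℕ}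
    (hS : S < 2 ^ 24) (hscan : cutScan S L = true)
    (hSm : ∀ p, Nat.testBit S (idx p) = true ↔ b p ≠ 0)
    (hLm : ∀ p, Nat.testBit L (idx p) = true ↔ b p % 4 = 2)
    (hy : y ∈ leechLattice) {σ : Equiv.Perm GolayPt} (hσ : σ ∈ M24)
    (habs : ∀ p, y (σ p) = b p ∨ y (σ p) = -b p) : IsImg b y := by
  set y' : Zv := prm σ⁻¹ y with hy'
  have hy'L : y' ∈ leechLattice := prm_mem (inv_mem hσ) hy
  have hyv : ∀ p, y' p = y (σ p) := fun p => by simp [hy', prm, Equiv.Perm.inv_def]
  set s : Finset GolayPt := Finset.univ.filter fun p => y' p ≠ b p with hs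
  have hsS : s ⊆ ofMask S := fun p hp => by
    rw [mem_ofMask, hSm]
    intro h0
    rw [hs, Finset.mem_filter, hyv] at hp
    rcases habs p with h | h <;> exact hp.2 (by simp [h, h0])
  have hval : ∀ p, y' p = b p - if p ∈ s then 2 * b p else 0 := fun p => by
    by_cases hp : p ∈ s
    · rw [if_pos hp]
      rw [hs, Finset.mem_filter, hyv] at hp
      rw [hyv]
      rcases habs p with h | h
      · exact absurd h hp.2
      · rw [h]; ring
    · rw [if_neg hp, sub_zero]
      rw [hs, Finset.mem_filter] at hp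
      simpa using hp
  have hev : (s ∩ ofMask L).card % 2 = 0 := by
    obtain ⟨m, m2, m8, -⟩ := mem_leech.1 hy'L
    obtain ⟨n, n2, n8, -⟩ := mem_leech.1 hbL
    have hbe : ∀ p, p ∈ s → b p % 2 = 0 := fun p _ => hb2 p
    have hb0 := hb2 none
    have e : ∑ p, y' p = ∑ p, b p - 4 * ∑ p ∈ s, b p / 2 := by
      rw [Finset.sum_congr rfl fun p _ => hval p, Finset.sum_sub_distrib, Finset.sum_ite_mem,
        Finset.univ_inter, Finset.mul_sum]
      congr 1
      exact Finset.sum_congr rfl fun p hp => by have := hbe p hp; omega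
    have e2 : (∑ p ∈ s, b p / 2) % 2 = ((s ∩ ofMask L).card : ℤ) % 2 := by
      have : ∀ p ∈ s, b p / 2 % 2 = if p ∈ ofMask L then 1 else 0 := fun p hp => by
        have := hbe p hp
        simp only [mem_ofMask]
        split_ifs with hl
        · have := (hLm p).1 hl; omega
        · have : ¬ b p % 4 = 2 := fun h' => hl ((hLm p).2 h'); omega
      rw [Finset.sum_int_mod, Finset.sum_congr rfl this, Finset.sum_boole, Finset.filter_mem_eq_inter]
    have := n2 none
    have := m2 none
    have hy0 : y' none % 2 = 0 := by rw [hval none]; split_ifs <;> omega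
    omega
  obtain ⟨k, hk, hks⟩ := cut_all hS hscan hsS hev
  obtain ⟨w, hw, hwk⟩ := hk
  have e : y' = sgn w b := funext fun p => by
    rw [hval p]
    by_cases h0 : b p = 0
    · simp [sgn, h0]
    have hpS : p ∈ ofMask S := mem_ofMask.2 ((hSm p).2 h0)
    have hiff : p ∈ s ↔ w p ≠ 0 := by rw [← hks, Finset.mem_inter, ← hwk, mem_support₂]; tauto
    by_cases hp : p ∈ s
    · rw [if_pos hp, sgn, if_neg (hiff.1 hp)]; ring
    · rw [if_neg hp, sgn, if_pos (not_not.1 (mt hiff.2 hp)), sub_zero]
  exact ⟨σ, hσ, w, hw, by rw [← e, hy', prm_inv_right]⟩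

theorem crossBase_facts : ∀ j, j < 7 → leechCheck (crossBase j) = true ∧
    (j < 5 → ∀ p, crossBase j p % 2 = 0) := by decide +kernel

/-- normal form of a norm 64 vector -/
def CrossForm (y : Zv) : Prop := ∃ j, j < 7 ∧ IsImg (crossBase j) y

theorem form_of_abs {y : Zv} (hy : y ∈ leechLattice) {σ : Equiv.Perm GolayPt} (hσ : σ ∈ M24) {j : ℕ}
    (hj : j < 5) (habs : ∀ p, y (σ p) = crossBase j p ∨ y (σ p) = -crossBase j p) : CrossForm y := by
  obtain ⟨S, L, hS, hscan, hSm, hLm⟩ := base_masks j hj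
  have hf := crossBase_facts j (by omega)
  exact ⟨j, by omega, img_of_abs (leechCheck_mem hf.1) (hf.2 hj) hS hscan hSm hLm hy hσ habs⟩

theorem stab_covers : cover (setTest (1 <<< 0)) octStabGens octPointTargets octPointWords = true ∧
    cover (setTest (1 <<< 5 ||| 1 <<< 6)) octStabGens octPairTargets octPairWords = true ∧
    cover (setTest (1 <<< 7)) dodStabGens dodOutTargets dodOutWords = true := by
  refine ⟨?_, ?_, ?_⟩ <;> decide +kernel

theorem targets_complete : (∀ a, a < 24 → Nat.testBit 5279 a = true → 1 <<< a ∈ octPointTargets) ∧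
    (∀ a, a < 24 → ∀ b, b < 24 → Nat.testBit 5279 a = false → Nat.testBit 5279 b = false → a ≠ b →
      (1 <<< a ||| 1 <<< b) ∈ octPairTargets) ∧
    (∀ a, a < 24 → Nat.testBit baseDod a = false → 1 <<< a ∈ dodOutTargets) := by
  refine ⟨by decide +kernel, fun a ha b hb h1 h2 hne => ?_, by decide +kernel⟩
  have h : ((List.range 24).all fun a => (List.range 24).all fun b => Nat.testBit 5279 a ||
      Nat.testBit 5279 b || a == b || octPairTargets.elem (1 <<< a ||| 1 <<< b)) = true := by decide +kernel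
  have := List.all_eq_true.1 (List.all_eq_true.1 h a (List.mem_range.2 ha)) b (List.mem_range.2 hb)
  simpa [h1, h2, hne] using this

theorem stab_move {root r : ℕ} {gs : List (List ℕ)} (hroot : root < 2 ^ 24) (hr : r < 2 ^ 24)
    (hgs : stabGens root gs = true) {ts ws : List ℕ} (hcov : cover (setTest r) gs ts ws = true)
    {σ : Equiv.Perm GolayPt} (hσ : σ ∈ M24) {t : Finset GolayPt} (ht : mask (σ⁻¹ • t) ∈ ts) :
    ∃ τ ∈ M24, τ • ofMask root = σ • ofMask root ∧ τ • ofMask r = t := by
  obtain ⟨hne, hok, hL⟩ := stabGens_sound hroot hgs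
  obtain ⟨ρ, hρ, e⟩ := setCover_sound hr hne hok hL hcov ht
  refine ⟨σ * ρ, mul_mem hσ hρ.1, ?_, ?_⟩
  · rw [mul_smul, MulAction.mem_stabilizer_iff.1 hρ.2]
  · rw [mul_smul, e, smul_inv_smul]

theorem mem_smul_iff' (σ : Equiv.Perm GolayPt) (s : Finset GolayPt) (p : GolayPt) :
    σ p ∈ σ • s ↔ p ∈ s := Finset.smul_mem_smul_finset_iff σ

/-- shapes with an octad as digit set -/
theorem good_octad {y : Zv} (hy : y ∈ leechLattice) {c : Finset GolayPt} (hc : c ∈ octads)
    (h : (∃ i ∈ c, ∀ p, (p = i → y p = 6 ∨ y p = -6) ∧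
          (p ∈ c → p ≠ i → y p = 2 ∨ y p = -2) ∧ (p ∉ c → y p = 0)) ∨
      (∃ q r, q ∉ c ∧ r ∉ c ∧ q ≠ r ∧ ∀ p, (p ∈ c → y p = 2 ∨ y p = -2) ∧
          (p = q ∨ p = r → y p = 4 ∨ y p = -4) ∧ (p ∉ c → p ≠ q → p ≠ r → y p = 0))) :
    CrossForm y := by
  obtain ⟨σ, hσ, e⟩ := octad_map c hc
  have hO : ∀ p, σ⁻¹ • p ∈ ofMask 5279 ↔ p ∈ c := fun p => by
    rw [← e, Finset.inv_smul_mem_iff]
  rcases h with ⟨i, hi, hshape⟩ | ⟨q, r, hq, hr, hqr, hshape⟩
  · obtain ⟨τ, hτ, eτ, ei⟩ := stab_move (by norm_num) (by decide) octStabGens_ok stab_covers.1 hσ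
      (t := {i}) (by
        rw [Finset.smul_finset_singleton, mask_single]
        exact targets_complete.1 _ (idx_lt _) (mem_ofMask.1 ((hO i).2 hi)))
    have h0 : τ (pt 0) = i := by
      have := Finset.smul_mem_smul_finset (a := τ) (show pt 0 ∈ ofMask (1 <<< 0) by decide +kernel)
      rw [ei, Finset.mem_singleton] at this
      exact this
    refine form_of_abs hy hτ (j := 2) (by norm_num) fun p => ?_
    have hb : ∀ p, crossBase 2 p = if p = pt 0 then -6 else if p ∈ ofMask 5279 then 2 else 0 := by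
      decide +kernel
    rw [hb]
    by_cases hp : p = pt 0
    · subst hp; rw [if_pos rfl, h0]; rcases (hshape i).1 rfl with h | h <;> simp [h]
    rw [if_neg hp]
    have hpi : τ p ≠ i := fun h => hp (τ.injective (h.trans h0.symm))
    have hiff : τ p ∈ c ↔ p ∈ ofMask 5279 := by rw [← e, ← eτ]; exact mem_smul_iff' τ _ p
    by_cases hpc : p ∈ ofMask 5279
    · rw [if_pos hpc]; exact (hshape _).2.1 (hiff.2 hpc) hpi
    · rw [if_neg hpc]; left; exact (hshape _).2.2 (mt hiff.1 hpc)
  · obtain ⟨τ, hτ, eτ, ei⟩ := stab_move (by norm_num) (by decide) octStabGens_ok stab_covers.2.1 hσ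
      (t := {q, r}) (by
        rw [show σ⁻¹ • ({q, r} : Finset GolayPt) = {σ⁻¹ • q} ∪ {σ⁻¹ • r} from by
            rw [Finset.smul_finset_insert, Finset.smul_finset_singleton]; rfl,
          mask_union, mask_single, mask_single]
        refine targets_complete.2.1 _ (idx_lt _) _ (idx_lt _) ?_ ?_
          fun h => hqr (smul_left_cancel _ (idx_injective h))
        · rw [← Bool.not_eq_true]; exact fun h => hq ((hO q).1 (mem_ofMask.2 h))
        · rw [← Bool.not_eq_true]; exact fun h => hr ((hO r).1 (mem_ofMask.2 h)))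
    have hset : ∀ p, p ∈ ofMask (1 <<< 5 ||| 1 <<< 6) ↔ τ p = q ∨ τ p = r := fun p => by
      rw [← mem_smul_iff' τ, ei]; simp
    refine form_of_abs hy hτ (j := 3) (by norm_num) fun p => ?_
    have hb : ∀ p, crossBase 3 p =
        if p ∈ ofMask (1 <<< 5 ||| 1 <<< 6) then 4 else if p ∈ ofMask 5279 then 2 else 0 := by
      decide +kernel
    rw [hb]
    by_cases hp : p ∈ ofMask (1 <<< 5 ||| 1 <<< 6)
    · rw [if_pos hp]; exact (hshape _).2.1 ((hset p).1 hp)
    rw [if_neg hp]
    have hiff : τ p ∈ c ↔ p ∈ ofMask 5279 := by rw [← e, ← eτ]; exact mem_smul_iff' τ _ p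
    by_cases hpc : p ∈ ofMask 5279
    · rw [if_pos hpc]; exact (hshape _).1 (hiff.2 hpc)
    · rw [if_neg hpc]; left
      exact (hshape _).2.2 (mt hiff.1 hpc) (fun h => hp ((hset p).2 (Or.inl h)))
        (fun h => hp ((hset p).2 (Or.inr h)))

/-- shape with a dodecad as digit set -/
theorem good_dodecad {y : Zv} (hy : y ∈ leechLattice) {c : Finset GolayPt} (hc : c ∈ dodecads)
    {q : GolayPt} (hq : q ∉ c) (hshape : ∀ p, (p ∈ c → y p = 2 ∨ y p = -2) ∧
      (p = q → y p = 4 ∨ y p = -4) ∧ (p ∉ c → p ≠ q → y p = 0)) : CrossForm y := by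
  obtain ⟨σ, hσ, e⟩ := dodecad_map hc
  obtain ⟨τ, hτ, eτ, ei⟩ := stab_move baseDod_lt (by decide) dodStabGens_ok stab_covers.2.2 hσ
    (t := {q}) (by
      rw [Finset.smul_finset_singleton, mask_single]
      refine targets_complete.2.2 _ (idx_lt _) ?_
      rw [← Bool.not_eq_true]
      intro h
      exact hq (by rw [← e]; exact Finset.inv_smul_mem_iff.1 (mem_ofMask.2 h)))
  have h0 : τ (pt 7) = q := by
    have := Finset.smul_mem_smul_finset (a := τ) (show pt 7 ∈ ofMask (1 <<< 7) by decide +kernel)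
    rw [ei, Finset.mem_singleton] at this
    exact this
  refine form_of_abs hy hτ (j := 4) (by norm_num) fun p => ?_
  have hb : ∀ p, crossBase 4 p =
      if p = pt 7 then 4 else if p ∈ ofMask baseDod then (if p = pt 0 then -2 else 2) else 0 := by
    decide +kernel
  rw [hb]
  by_cases hp : p = pt 7
  · subst hp; rw [if_pos rfl, h0]; exact (hshape q).2.1 rfl
  rw [if_neg hp]
  have hpq : τ p ≠ q := fun h => hp (τ.injective (h.trans h0.symm))
  have hiff : τ p ∈ c ↔ p ∈ ofMask baseDod := by rw [← e, ← eτ]; exact mem_smul_iff' τ _ p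
  by_cases hpc : p ∈ ofMask baseDod
  · rw [if_pos hpc]
    have := (hshape _).1 (hiff.2 hpc)
    split_ifs
    · rcases this with h | h <;> simp [h]
    · exact this
  · rw [if_neg hpc]; left; exact (hshape _).2.2 (mt hiff.1 hpc) hpq

theorem count_abs {f : Zv} (hf : ∀ i, f i = 0 ∨ f i = 1) :
    ∑ i, f i = ((Finset.univ.filter fun i => f i ≠ 0).card : ℤ) := by
  rw [← Finset.sum_boole]
  exact Finset.sum_congr rfl fun i _ => by rcases hf i with h | h <;> simp [h]

theorem move_set {T : Finset GolayPt} {k : ℕ} (hT : T.card = k) (hk : k ≤ 5) :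
    ∃ σ ∈ M24, σ • ofMask (2 ^ k - 1) = T := by
  subst hT; exact exists_map_set hk

/-- even vectors with trivial digits -/
theorem good_four {y : Zv} (hy : y ∈ leechLattice) (hn : sqNorm y = 64) (h4 : ∀ i, y i % 4 = 0) :
    CrossForm y := by
  set a : Zv := fun i => y i / 4 with ha
  have hya : ∀ i, y i = 4 * a i := fun i => by have := h4 i; simp only [ha]; omega
  have hsum : ∑ i, a i ^ 2 = 4 := by
    have : sqNorm y = 16 * ∑ i, a i ^ 2 := by
      rw [sqNorm, Finset.mul_sum]; exact Finset.sum_congr rfl fun i _ => by rw [hya i]; ring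
    omega
  have hb0 : ∀ p, crossBase 0 p = if p = none then 8 else 0 := by decide +kernel
  have hb1 : ∀ p, crossBase 1 p = if p ∈ ofMask 15 then 4 else 0 := by decide +kernel
  by_cases hbig : ∃ i, 2 ≤ |a i|
  · obtain ⟨i, hi⟩ := hbig
    have h4' : 4 ≤ a i ^ 2 := by rw [← sq_abs]; nlinarith [abs_nonneg (a i)]
    have hrest : ∑ j ∈ Finset.univ.erase i, a j ^ 2 = 0 := by
      have := Finset.add_sum_erase Finset.univ (fun j => a j ^ 2) (Finset.mem_univ i)
      have := Finset.sum_nonneg (s := Finset.univ.erase i) fun j _ => sq_nonneg (a j)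
      omega
    have hai : a i ^ 2 = 4 := by
      have := Finset.add_sum_erase Finset.univ (fun j => a j ^ 2) (Finset.mem_univ i)
      omega
    have hz : ∀ j, j ≠ i → a j = 0 := fun j hj => by
      have := (Finset.sum_eq_zero_iff_of_nonneg fun j _ => sq_nonneg (a j)).1 hrest j
        (Finset.mem_erase.2 ⟨hj, Finset.mem_univ _⟩)
      simpa using this
    obtain ⟨σ, hσ, hm⟩ := M24_trans (k := 1) (by norm_num) ⟨fun _ => (none : GolayPt), by decide⟩
      ⟨fun _ => i, fun a b _ => Subsingleton.elim a b⟩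
    have hσ0 : σ none = i := hm 0
    refine form_of_abs hy hσ (j := 0) (by norm_num) fun p => ?_
    rw [hb0]
    by_cases hp : p = none
    · subst hp
      rw [if_pos rfl, hσ0, hya]
      have : a i = 2 ∨ a i = -2 := eq_or_eq_neg_of_sq_eq_sq _ _ (by rw [hai]; norm_num)
      omega
    · rw [if_neg hp, hya, hz _ fun h => hp (σ.injective (h.trans hσ0.symm))]; simp
  · push_neg at hbig
    set T : Finset GolayPt := Finset.univ.filter fun i => a i ^ 2 ≠ 0 with hT
    have h01 : ∀ i, a i ^ 2 = 0 ∨ a i ^ 2 = 1 := fun i => by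
      have := abs_lt.1 (hbig i)
      obtain h | h | h : a i = -1 ∨ a i = 0 ∨ a i = 1 := by omega
      all_goals simp [h]
    have hT4 : T.card = 4 := by
      have := count_abs (f := fun i => a i ^ 2) h01
      rw [hsum, ← hT] at this
      omega
    obtain ⟨σ, hσ, e⟩ := move_set hT4 (by norm_num)
    refine form_of_abs hy hσ (j := 1) (by norm_num) fun p => ?_
    rw [hb1]
    have hiff : σ p ∈ T ↔ p ∈ ofMask 15 := by rw [← e]; exact mem_smul_iff' σ _ p
    rw [hT, Finset.mem_filter] at hiff
    simp only [Finset.mem_univ, true_and] at hiff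
    by_cases hp : p ∈ ofMask 15
    · rw [if_pos hp, hya]
      have h1 := (h01 (σ p)).resolve_left (hiff.2 hp)
      have : a (σ p) = 1 ∨ a (σ p) = -1 := by
        rcases sq_eq_one_iff.1 h1 with h | h <;> simp [h]
      omega
    · rw [if_neg hp, hya]
      have : a (σ p) = 0 := by
        by_contra h
        exact hp (hiff.1 (pow_ne_zero 2 h))
      simp [this]

theorem square_cases {a : ℤ} (h : a ^ 2 ≤ 40) : a = -6 ∨ a = -5 ∨ a = -4 ∨ a = -3 ∨ a = -2 ∨ a = -1 ∨
    a = 0 ∨ a = 1 ∨ a = 2 ∨ a = 3 ∨ a = 4 ∨ a = 5 ∨ a = 6 := by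
  have h1 : -6 ≤ a := by nlinarith
  have h2 : a ≤ 6 := by nlinarith
  omega

/-- bookkeeping of an even vector of norm at most 64 -/
theorem even_excess {y : Zv} (he : ∀ i, y i % 2 = 0) {n : ℤ} (hn : sqNorm y = n) (hn64 : n ≤ 64) :
    ∃ g : Zv, (∀ i, 0 ≤ g i) ∧
      4 * ((digSet y).card : ℤ) + (32 * ∑ i ∈ digSet y, g i + 16 * ∑ i ∈ Finset.univ \ digSet y, g i) = n ∧
      ∀ i, (i ∈ digSet y → g i = 0 → y i = 2 ∨ y i = -2) ∧ (i ∈ digSet y → g i = 1 → y i = 6 ∨ y i = -6) ∧
        (i ∉ digSet y → g i = 0 → y i = 0) ∧ (i ∉ digSet y → g i = 1 → y i = 4 ∨ y i = -4) ∧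
        (i ∉ digSet y → g i ≠ 2 ∧ g i ≠ 3) := by
  set c := digSet y with hcd
  have hmem : ∀ i, i ∈ c ↔ y i / 2 % 2 = 1 := fun i => by simp [hcd, digSet]
  -- excess beyond the minimal squares
  set g : Zv := fun i => if i ∈ c then (y i ^ 2 - 4) / 32 else y i ^ 2 / 16 with hg
  have hgi : ∀ i, (i ∈ c → y i ^ 2 = 4 + 32 * g i) ∧ (i ∉ c → y i ^ 2 = 16 * g i) := by
    intro i
    have hle : y i ^ 2 ≤ 64 := le_trans (le_of_le_of_eq (Finset.single_le_sum (fun j _ => sq_nonneg (y j)) (Finset.mem_univ i)) hn) hn64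
    have h8 : -8 ≤ y i ∧ y i ≤ 8 := ⟨by nlinarith, by nlinarith⟩
    have := he i
    have := hmem i
    simp only [hg]
    obtain ⟨h8, h8'⟩ := h8
    obtain ⟨v, hv⟩ : ∃ v, y i = v := ⟨_, rfl⟩
    rw [hv] at h8 h8' this ⊢
    have he' : v % 2 = 0 := hv ▸ he i
    interval_cases v <;> simp_all
  have hgn : ∀ i, 0 ≤ g i := fun i => by
    by_cases hi : i ∈ c
    · have := (hgi i).1 hi; nlinarith [sq_nonneg (y i), hmem i]
    · have := (hgi i).2 hi; nlinarith [sq_nonneg (y i)]
  have htot : 4 * (c.card : ℤ) + (∑ i ∈ c, 32 * g i + ∑ i ∈ Finset.univ \ c, 16 * g i) = n := by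
    rw [← hn, sqNorm, ← Finset.sum_sdiff (Finset.subset_univ c),
      Finset.sum_congr rfl fun i hi => (hgi i).2 (Finset.mem_sdiff.1 hi).2,
      Finset.sum_congr rfl fun i hi => (hgi i).1 hi, Finset.sum_add_distrib, Finset.sum_const,
      nsmul_eq_mul]
    ring
  rw [← Finset.mul_sum, ← Finset.mul_sum] at htot
  have hin := Finset.sum_nonneg (s := c) fun i _ => hgn i
  have hout := Finset.sum_nonneg (s := Finset.univ \ c) fun i _ => hgn i
  have vals : ∀ i, (i ∈ c → g i = 0 → y i = 2 ∨ y i = -2) ∧ (i ∈ c → g i = 1 → y i = 6 ∨ y i = -6) ∧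
      (i ∉ c → g i = 0 → y i = 0) ∧ (i ∉ c → g i = 1 → y i = 4 ∨ y i = -4) ∧
      (i ∉ c → g i ≠ 2 ∧ g i ≠ 3) := by
    intro i
    refine ⟨fun hi h0 => ?_, fun hi h1 => ?_, fun hi h0 => ?_, fun hi h1 => ?_, fun hi => ?_⟩
    · have := (hgi i).1 hi; rw [h0] at this
      exact eq_or_eq_neg_of_sq_eq_sq _ _ (by rw [this]; norm_num)
    · have := (hgi i).1 hi; rw [h1] at this
      exact eq_or_eq_neg_of_sq_eq_sq _ _ (by rw [this]; norm_num)
    · have := (hgi i).2 hi; rw [h0] at this; simpa using this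
    · have := (hgi i).2 hi; rw [h1] at this
      exact eq_or_eq_neg_of_sq_eq_sq _ _ (by rw [this]; norm_num)
    · have hsq := (hgi i).2 hi
      have hb : y i ^ 2 < 49 ∨ 49 ≤ y i ^ 2 := lt_or_ge _ _
      constructor <;> intro h2 <;> rw [h2] at hsq <;>
      · have : -6 ≤ y i := by nlinarith
        have : y i ≤ 6 := by nlinarith
        obtain ⟨v, hv⟩ : ∃ v, y i = v := ⟨_, rfl⟩
        simp only [hv] at *
        interval_cases v <;> norm_num at hsq
  exact ⟨g, hgn, htot, vals⟩

/-- even vectors with at most twelve digits -/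
theorem good_even {y : Zv} (hy : y ∈ leechLattice) (hn : sqNorm y = 64) (he : ∀ i, y i % 2 = 0)
    (hc : (digSet y).card ≤ 12) : CrossForm y := by
  obtain ⟨g, hgn, htot, vals⟩ := even_excess he hn le_rfl
  set c := digSet y with hcd
  have hcm := digSet_mem hy
  have hmem : ∀ i, i ∈ c ↔ y i / 2 % 2 = 1 := fun i => by simp [hcd, digSet]
  have hin := Finset.sum_nonneg (s := c) fun i _ => hgn i
  have hout := Finset.sum_nonneg (s := Finset.univ \ c) fun i _ => hgn i
  rcases codeSets_card hcm with h | h | h | h | h <;> rw [← hcd] at h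
  · exact good_four hy hn fun i => by
      have hi : i ∉ c := by simp [Finset.card_eq_zero.1 h]
      rw [hmem] at hi
      have := he i
      omega
  · have hoct : c ∈ octads := ⟨hcm, h⟩
    rw [h] at htot
    by_cases h1 : ∑ i ∈ c, g i = 0
    · -- two fours
      have hg0 := (Finset.sum_eq_zero_iff_of_nonneg fun i _ => hgn i).1 h1
      have h2 : ∑ i ∈ Finset.univ \ c, g i = 2 := by omega
      have hle1 : ∀ i ∈ Finset.univ \ c, g i ≤ 1 := by
        intro i hi
        have hile : g i ≤ 2 := h2 ▸ Finset.single_le_sum (fun j _ => hgn j) hi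
        have := ((vals i).2.2.2.2 (Finset.mem_sdiff.1 hi).2).1
        omega
      have hcard : ((Finset.univ \ c).filter fun i => g i = 1).card = 2 := by
        have e : ∀ i ∈ Finset.univ \ c, g i = if g i = 1 then 1 else 0 := fun i hi => by
          have := hle1 i hi; have := hgn i; split_ifs <;> omega
        rw [Finset.sum_congr rfl e, Finset.sum_boole] at h2
        exact_mod_cast h2
      obtain ⟨q, r, hqr, hqr'⟩ := Finset.card_eq_two.1 hcard
      have hq : q ∈ (Finset.univ \ c).filter (fun i => g i = 1) := by rw [hqr']; simp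
      have hr : r ∈ (Finset.univ \ c).filter (fun i => g i = 1) := by rw [hqr']; simp
      simp only [Finset.mem_filter, Finset.mem_sdiff, Finset.mem_univ, true_and] at hq hr
      refine good_octad hy hoct (Or.inr ⟨q, r, hq.1, hr.1, hqr, fun p => ⟨fun hp => (vals p).1 hp (hg0 p hp),
        ?_, fun hp h1 h2' => (vals p).2.2.1 hp ?_⟩⟩)
      · rintro (rfl | rfl)
        · exact (vals _).2.2.2.1 hq.1 hq.2
        · exact (vals _).2.2.2.1 hr.1 hr.2
      · by_contra hne
        have hp' : p ∈ (Finset.univ \ c).filter (fun i => g i = 1) := by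
          have := hle1 p (Finset.mem_sdiff.2 ⟨Finset.mem_univ _, hp⟩); have := hgn p
          simp only [Finset.mem_filter, Finset.mem_sdiff, Finset.mem_univ, true_and]
          exact ⟨hp, by omega⟩
        rw [hqr'] at hp'
        simp [h1, h2'] at hp'
    · have h1' : ∑ i ∈ c, g i = 1 := by omega
      have h2 := (Finset.sum_eq_zero_iff_of_nonneg fun i _ => hgn i).1
        (show ∑ i ∈ Finset.univ \ c, g i = 0 by omega)
      obtain ⟨i, hi, hne⟩ : ∃ i ∈ c, g i ≠ 0 := Finset.exists_ne_zero_of_sum_ne_zero h1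
      have hrest : ∀ p ∈ c, p ≠ i → g p = 0 := fun p hp hpi => by
        have := Finset.add_le_sum (fun j _ => hgn j) hi hp (Ne.symm hpi)
        have := hgn p; have := hgn i; omega
      have hi1 : g i = 1 := by
        have := Finset.single_le_sum (fun j _ => hgn j) hi; have := hgn i; omega
      refine good_octad hy hoct (Or.inl ⟨i, hi, fun p => ⟨?_, fun hp hpi => (vals p).1 hp (hrest p hp hpi),
        fun hp => (vals p).2.2.1 hp (h2 p (Finset.mem_sdiff.2 ⟨Finset.mem_univ _, hp⟩))⟩⟩)
      rintro rfl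
      exact (vals _).2.1 hi hi1
  · rw [h] at htot
    have h1 := (Finset.sum_eq_zero_iff_of_nonneg fun i _ => hgn i).1 (show ∑ i ∈ c, g i = 0 by omega)
    have h2 : ∑ i ∈ Finset.univ \ c, g i = 1 := by omega
    obtain ⟨q, hq, hne⟩ := Finset.exists_ne_zero_of_sum_ne_zero (show ∑ i ∈ Finset.univ \ c, g i ≠ 0 by omega)
    have hq1 : g q = 1 := by
      have := Finset.single_le_sum (fun j _ => hgn j) hq; have := hgn q; omega
    refine good_dodecad hy (show c ∈ dodecads from ⟨hcm, h⟩) (Finset.mem_sdiff.1 hq).2 fun p =>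
      ⟨fun hp => (vals p).1 hp (h1 p hp), ?_, fun hp hpq => (vals p).2.2.1 hp ?_⟩
    · rintro rfl; exact (vals _).2.2.2.1 (Finset.mem_sdiff.1 hq).2 hq1
    · have := Finset.add_le_sum (fun j _ => hgn j) hq (Finset.mem_sdiff.2 ⟨Finset.mem_univ p, hp⟩) (Ne.symm hpq)
      have := hgn p; omega
  · omega
  · omega

/-- odd vectors -/
theorem good_odd {y : Zv} (hy : y ∈ leechLattice) (hn : sqNorm y = 64) (ho : ∀ i, y i % 2 = 1) :
    CrossForm y := by
  obtain ⟨w, hw, hwN⟩ := digSet_mem hy
  set y' := sgn w y with hy'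
  have hy'L : y' ∈ leechLattice := sgn_mem hw hy
  have hn' : sqNorm y' = 64 := (sqNorm_sgn w y).trans hn
  have h1 : ∀ i, y' i % 4 = 1 := fun i => by
    have := ho i
    have hi : w i ≠ 0 ↔ y i / 2 % 2 = 1 := by rw [← mem_support₂, hwN]; simp [digSet]
    simp only [hy', sgn]
    split_ifs with h
    · have : ¬ y i / 2 % 2 = 1 := fun h' => hi.2 h' h
      omega
    · have := hi.1 h; omega
  suffices hG : CrossForm y' by
    obtain ⟨j, hj, σ, hσ, w', hw', e⟩ := hG
    refine ⟨j, hj, σ, hσ, actW σ.symm w + w', add_mem (actW_mem (inv_mem hσ) hw) hw', ?_⟩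
    have hyy : y = sgn w y' := by rw [hy', sgn_sgn]
    rw [hyy, e]
    funext i
    rcases word_eq_one_or_zero (w i) with a | a <;>
      rcases word_eq_one_or_zero (w' (σ.symm i)) with b | b <;>
        simp [sgn, prm, actW, a, b, show (1 : ZMod 2) + 1 = 0 from rfl]
  set T : Finset GolayPt := Finset.univ.filter fun i => y' i = -3 with hT
  set U : Finset GolayPt := Finset.univ.filter fun i => y' i = 5 with hU
  have hexc : ∑ i, (y' i ^ 2 - 1) = 40 := by
    have hc : (∑ _i : GolayPt, (1 : ℤ)) = 24 := by decide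
    rw [Finset.sum_sub_distrib, hc]
    rw [sqNorm] at hn'
    omega
  have hpos : ∀ i, 0 ≤ y' i ^ 2 - 1 := fun i => by
    have : y' i ≤ -1 ∨ 1 ≤ y' i := by have := h1 i; omega
    rcases this with h | h <;> nlinarith
  have hval : ∀ i, y' i = 1 ∨ y' i = -3 ∨ y' i = 5 := fun i => by
    have hle := Finset.single_le_sum (fun j _ => hpos j) (Finset.mem_univ i)
    rw [hexc] at hle
    have hlo : -6 ≤ y' i := by nlinarith
    have hhi : y' i ≤ 6 := by nlinarith
    have := h1 i
    omega
  have hcount : 8 * (T.card : ℤ) + 24 * (U.card : ℤ) = 40 := by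
    rw [hT, hU, ← Finset.sum_boole, ← Finset.sum_boole, Finset.mul_sum, Finset.mul_sum,
      ← Finset.sum_add_distrib, ← hexc]
    exact Finset.sum_congr rfl fun i _ => by rcases hval i with h | h | h <;> simp [h]
  have hmemT : ∀ i, i ∈ T ↔ y' i = -3 := fun i => by simp [hT]
  have hmemU : ∀ i, i ∈ U ↔ y' i = 5 := fun i => by simp [hU]
  obtain hU1 | hU0 : U.card = 1 ∨ U.card = 0 := by omega
  · have hT2 : T.card = 2 := by omega
    obtain ⟨a, ha⟩ := Finset.card_eq_one.1 hU1
    obtain ⟨b, c, hbc, hTe⟩ := Finset.card_eq_two.1 hT2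
    have hav : y' a = 5 := (hmemU a).1 (by simp [ha])
    have hbv : y' b = -3 := (hmemT b).1 (by simp [hTe])
    have hcv : y' c = -3 := (hmemT c).1 (by simp [hTe])
    have hab : a ≠ b := fun h => by rw [h, hbv] at hav; omega
    have hac : a ≠ c := fun h => by rw [h, hcv] at hav; omega
    obtain ⟨σ, hσ, hm⟩ := M24_trans (k := 3) (by norm_num) ⟨![pt 0, pt 1, pt 2], by decide +kernel⟩
      ⟨![a, b, c], by
        intro u v; fin_cases u <;> fin_cases v <;>
          simp [hab, Ne.symm hab, hac, Ne.symm hac, hbc, Ne.symm hbc]⟩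
    have e0 : σ (pt 0) = a := hm 0
    have e1 : σ (pt 1) = b := hm 1
    have e2 : σ (pt 2) = c := hm 2
    have hb5 : ∀ p, crossBase 5 p = if p = pt 0 then 5 else if p = pt 1 ∨ p = pt 2 then -3 else 1 := by
      decide +kernel
    have e : prm σ (crossBase 5) = y' := by
      funext i
      obtain ⟨p, rfl⟩ := σ.surjective i
      simp only [prm, Equiv.symm_apply_apply, hb5]
      by_cases h0 : p = pt 0
      · subst h0; rw [if_pos rfl, e0, hav]
      rw [if_neg h0]
      by_cases h12 : p = pt 1 ∨ p = pt 2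
      · rw [if_pos h12]; rcases h12 with rfl | rfl
        · rw [e1, hbv]
        · rw [e2, hcv]
      · rw [if_neg h12]
        push_neg at h12
        rcases hval (σ p) with h | h | h
        · exact h.symm
        · have := (hmemT (σ p)).2 h
          rw [hTe, Finset.mem_insert, Finset.mem_singleton, ← e1, ← e2] at this
          rcases this with h' | h'
          · exact absurd (σ.injective h') h12.1
          · exact absurd (σ.injective h') h12.2
        · have := (hmemU (σ p)).2 h
          rw [ha, Finset.mem_singleton, ← e0] at this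
          exact absurd (σ.injective this) h0
    exact ⟨5, by norm_num, σ, hσ, 0, zero_mem _, by rw [show sgn (0 : GolayPt → ZMod 2) (crossBase 5) = crossBase 5 from funext fun _ => if_pos rfl, e]⟩
  · have hT5 : T.card = 5 := by omega
    obtain ⟨σ, hσ, e⟩ := move_set hT5 le_rfl
    have hb6 : ∀ p, crossBase 6 p = if p ∈ ofMask 31 then -3 else 1 := by decide +kernel
    have e' : prm σ (crossBase 6) = y' := by
      funext i
      obtain ⟨p, rfl⟩ := σ.surjective i
      simp only [prm, Equiv.symm_apply_apply, hb6]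
      have hiff : σ p ∈ T ↔ p ∈ ofMask 31 := by rw [← e]; exact mem_smul_iff' σ _ p
      by_cases hp : p ∈ ofMask 31
      · rw [if_pos hp]; exact ((hmemT _).1 (hiff.2 hp)).symm
      · rw [if_neg hp]
        rcases hval (σ p) with h | h | h
        · exact h.symm
        · exact absurd (hiff.1 ((hmemT _).2 h)) hp
        · have h' := (hmemU _).2 h
          rw [Finset.card_eq_zero.1 hU0] at h'
          exact absurd h' (Finset.notMem_empty _)
    exact ⟨6, by norm_num, σ, hσ, 0, zero_mem _, by rw [show sgn (0 : GolayPt → ZMod 2) (crossBase 6) = crossBase 6 from funext fun _ => if_pos rfl, e']⟩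

/-- sixteen digits: move to eight -/
theorem good_sixteen {y : Zv} (hy : y ∈ leechLattice) (hn : sqNorm y = 64) (he : ∀ i, y i % 2 = 0)
    (hc : 12 < (digSet y).card) : ∃ z, Cong2 y z ∧ sqNorm z = 64 ∧ CrossForm z := by
  set c := digSet y with hcd
  have hcm := digSet_mem hy
  have hmem : ∀ i, i ∈ c ↔ y i / 2 % 2 = 1 := fun i => by simp [hcd, digSet]
  have hlow : ∀ i, (if i ∈ c then (4 : ℤ) else 0) ≤ y i ^ 2 := fun i => by
    split_ifs with hi
    · have := (hmem i).1 hi
      have : y i ≤ -2 ∨ 2 ≤ y i := by have := he i; omega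
      rcases this with h | h <;> nlinarith
    · exact sq_nonneg _
  have hls : ∑ i, (if i ∈ c then (4 : ℤ) else 0) = 4 * (c.card : ℤ) := by
    rw [Finset.sum_ite_mem, Finset.univ_inter, Finset.sum_const, nsmul_eq_mul, mul_comm]
  have hle := Finset.sum_le_sum (s := Finset.univ) fun i _ => hlow i
  rw [hls, show ∑ i, y i ^ 2 = 64 from hn] at hle
  have h16 : c.card = 16 := by
    rcases codeSets_card hcm with h | h | h | h | h <;> rw [← hcd] at h <;> omega
  have heq : ∀ i, y i ^ 2 = if i ∈ c then 4 else 0 := by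
    intro i
    refine (((Finset.sum_eq_sum_iff_of_le fun j _ => hlow j).1 ?_) i (Finset.mem_univ i)).symm
    rw [hls, h16, show ∑ i, y i ^ 2 = 64 from hn]; rfl
  have hin : ∀ i, i ∈ c → y i = 2 ∨ y i = -2 := fun i hi =>
    eq_or_eq_neg_of_sq_eq_sq _ _ (by rw [heq i, if_pos hi]; norm_num)
  have hout : ∀ i, i ∉ c → y i = 0 := fun i hi => by simpa [if_neg hi] using heq i
  have huniv : (Finset.univ : Finset GolayPt) ∈ codeSets := codeSets_iff.2 (by decide +kernel)
  have hoct : Finset.univ \ c ∈ octads := by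
    have h2 := codeSets_symmDiff huniv hcm
    rw [show symmDiff (Finset.univ : Finset GolayPt) (digSet y) = Finset.univ \ c from by
      ext p; simp [hcd, Finset.mem_symmDiff]] at h2
    exact ⟨h2, by rw [Finset.card_sdiff_of_subset (Finset.subset_univ _), Finset.card_univ, h16]; rfl⟩
  set s : Finset GolayPt := c.filter fun i => y i = -2 with hs
  obtain ⟨N, hN, hle2⟩ := cover_octad hoct s
  have hsd : symmDiff s N \ (Finset.univ \ c) = symmDiff s (N ∩ c) := by
    ext p
    simp only [Finset.mem_sdiff, Finset.mem_symmDiff, Finset.mem_univ, Finset.mem_inter, true_and,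
      not_not, hs, Finset.mem_filter]
    tauto
  rw [hsd] at hle2
  set D := symmDiff s (N ∩ c) with hD
  have hDc : D ⊆ c := fun p hp => by
    simp only [hD, hs, Finset.mem_symmDiff, Finset.mem_inter, Finset.mem_filter] at hp
    tauto
  have hDmem : ∀ p, p ∈ c → (p ∈ D ↔ ¬ (y p = -2 ↔ p ∈ N)) := fun p hp => by
    simp only [hD, hs, Finset.mem_symmDiff, Finset.mem_inter, Finset.mem_filter]
    tauto
  have hseven : s.card % 2 = 0 := by
    obtain ⟨m, m2, m8, -⟩ := mem_leech.1 hy
    have e : ∑ i, y i = 2 * (c.card : ℤ) - 4 * (s.card : ℤ) := by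
      have hv : ∀ i, y i = 2 * (if i ∈ c then 1 else 0) - 4 * (if i ∈ s then 1 else 0) := fun i => by
        by_cases hi : i ∈ c
        · rcases hin i hi with h | h <;> simp [hs, hi, h]
        · simp [hs, hi, hout i hi]
      rw [Finset.sum_congr rfl fun i _ => hv i, Finset.sum_sub_distrib, ← Finset.mul_sum, ← Finset.mul_sum,
        Finset.sum_boole, Finset.sum_boole, show (Finset.univ.filter fun i => i ∈ c) = c by ext; simp,
        show (Finset.univ.filter fun i => i ∈ s) = s by ext; simp]
    have := m2 none; have := he none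
    omega
  have hDeven : D.card % 2 = 0 := by
    have h1 := codeSets_inter_even hN hcm
    have h2 := card_symmDiff_add s (N ∩ c)
    rw [← hcd] at h1
    rw [hD]
    omega
  -- the special position
  obtain ⟨i₀, hcase⟩ : ∃ i₀, (D = ∅ ∧ i₀ ∉ c) ∨ (i₀ ∈ D ∧ ∃ i₁, D = {i₀, i₁} ∧ i₁ ≠ i₀) := by
    rcases D.eq_empty_or_nonempty with h | ⟨i₀, hi₀⟩
    · obtain ⟨i₀, hi₀⟩ : (Finset.univ \ c).Nonempty := Finset.card_pos.1 (by rw [hoct.2]; norm_num)
      exact ⟨i₀, Or.inl ⟨h, (Finset.mem_sdiff.1 hi₀).2⟩⟩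
    · have hD2 : D.card = 2 := by
        have := Finset.card_pos.2 ⟨i₀, hi₀⟩; omega
      obtain ⟨a, b, hab, he'⟩ := Finset.card_eq_two.1 hD2
      exact ⟨a, Or.inr ⟨by simp [he'], b, he', hab.symm⟩⟩
  obtain ⟨w, hw, hwN⟩ := hN
  obtain ⟨σ, hσ, hm⟩ := M24_trans (k := 1) (by norm_num) ⟨fun _ => (none : GolayPt), by decide⟩
    ⟨fun _ => i₀, fun a b _ => Subsingleton.elim a b⟩
  have hσ0 : σ none = i₀ := hm 0
  set v : Zv := sgn w (prm σ oddVec) with hv
  have hvL : v ∈ leechLattice := sgn_mem hw (prm_mem hσ oddVec_mem)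
  have hvi : ∀ i, v i = (if i ∈ N then -1 else 1) * (if i = i₀ then -3 else 1) := fun i => by
    have h1 : (σ.symm i = none) ↔ i = i₀ := by rw [Equiv.symm_apply_eq, hσ0]
    have h2 : i ∈ N ↔ w i ≠ 0 := by rw [← hwN, mem_support₂]
    simp only [hv, sgn, prm, oddVec, h1, h2]
    by_cases hii : i = i₀
    · subst hii; by_cases hwi : w i = 0 <;> simp [hwi]
    · by_cases hwi : w i = 0 <;> simp [hwi, hii]
  set z : Zv := fun i => y i - 2 * v i with hz
  have hcong : Cong2 y z := ⟨v, hvL, funext fun i => by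
    simp only [hz, Pi.sub_apply, Pi.smul_apply, nsmul_eq_mul]; push_cast; ring⟩
  have hzL := hcong.mem hy
  have hzv : ∀ i, z i ^ 2 = (if i ∈ D then 16 else if i ∈ c then 0 else if i = i₀ then 36 else 4) := by
    intro i
    simp only [hz, hvi]
    by_cases hic : i ∈ c
    · rcases hcase with ⟨hD0, hi0⟩ | ⟨hi0, i₁, hD2, hne⟩
      · have hii : i ≠ i₀ := fun h => hi0 (h ▸ hic)
        have hiD : i ∉ D := by simp [hD0]
        rw [hDmem i hic, not_not] at hiD
        rcases hin i hic with h | h <;> by_cases hiN : i ∈ N <;>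
          simp [h, hiN, hii, hic, hD0] at hiD ⊢
      · by_cases hiD : i ∈ D
        · have hiD' := (hDmem i hic).1 hiD
          by_cases hii : i = i₀
          · subst hii
            rcases hin i hic with h | h <;> by_cases hiN : i ∈ N <;>
              simp [h, hiN, hiD] at hiD' ⊢
          · rcases hin i hic with h | h <;> by_cases hiN : i ∈ N <;>
              simp [h, hiN, hii, hiD] at hiD' ⊢
        · have hii : i ≠ i₀ := fun h => hiD (h ▸ hi0)
          have hiD' : (y i = -2 ↔ i ∈ N) := not_not.1 fun h => hiD ((hDmem i hic).2 h)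
          rcases hin i hic with h | h <;> by_cases hiN : i ∈ N <;>
            simp [h, hiN, hii, hiD, hic] at hiD' ⊢
    · have hiD : i ∉ D := fun h => hic (hDc h)
      rw [if_neg hiD, if_neg hic, hout i hic]
      by_cases hii : i = i₀ <;> by_cases hiN : i ∈ N <;> simp [hii, hiN]
      all_goals (subst hii; simp [hiN])
  have hzn : sqNorm z = 64 := by
    rw [sqNorm, Finset.sum_congr rfl fun i _ => hzv i]
    rcases hcase with ⟨hD0, hi0⟩ | ⟨hi0, i₁, hD2, hne⟩
    · have e : ∀ i, (if i ∈ D then (16 : ℤ) else if i ∈ c then 0 else if i = i₀ then 36 else 4) =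
          4 - 4 * (if i ∈ c then 1 else 0) + if i = i₀ then 32 else 0 := fun i => by
        by_cases hic : i ∈ c
        · have : i ≠ i₀ := fun h => hi0 (h ▸ hic)
          simp [hD0, hic, this]
        · by_cases hii : i = i₀ <;> simp [hD0, hic, hii, hi0]
      rw [Finset.sum_congr rfl fun i _ => e i, Finset.sum_add_distrib, Finset.sum_sub_distrib,
        ← Finset.mul_sum, Finset.sum_boole, show (Finset.univ.filter fun i => i ∈ c) = c by ext; simp, h16,
        Finset.sum_ite_eq', if_pos (Finset.mem_univ _), Finset.sum_const, Finset.card_univ]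
      rfl
    · have e : ∀ i, (if i ∈ D then (16 : ℤ) else if i ∈ c then 0 else if i = i₀ then 36 else 4) =
          4 - 4 * (if i ∈ c then 1 else 0) + 16 * (if i ∈ D then 1 else 0) := fun i => by
        by_cases hiD : i ∈ D
        · simp [hiD, hDc hiD]
        · have hii : i ≠ i₀ := fun h => hiD (h ▸ hi0)
          by_cases hic : i ∈ c <;> simp [hiD, hic, hii]
      rw [Finset.sum_congr rfl fun i _ => e i, Finset.sum_add_distrib, Finset.sum_sub_distrib,
        ← Finset.mul_sum, ← Finset.mul_sum, Finset.sum_boole, Finset.sum_boole,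
        show (Finset.univ.filter fun i => i ∈ c) = c by ext; simp,
        show (Finset.univ.filter fun i => i ∈ D) = D by ext; simp, h16, hD2,
        Finset.card_pair hne.symm, Finset.sum_const, Finset.card_univ]
      rfl
  have hzdig : digSet z = Finset.univ \ c := by
    ext i
    have hv2 : v i % 2 = 1 := by rw [hvi]; split_ifs <;> rfl
    have := he i
    simp only [digSet, hz, Finset.mem_filter, Finset.mem_sdiff, Finset.mem_univ, true_and, hmem]
    omega
  refine ⟨z, hcong, hzn, good_even hzL hzn (fun i => ?_) (by rw [hzdig, hoct.2]; norm_num)⟩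
  have := he i
  simp only [hz]
  omega

theorem norm_eight_form {x : Zv} (hx : x ∈ leechLattice) (hxn : sqNorm x = 64) :
    ∃ z, Cong2 x z ∧ sqNorm z = 64 ∧ CrossForm z := by
  have hrefl : Cong2 x x := ⟨0, zero_mem _, by simp⟩
  obtain ⟨m, h2, -, -⟩ := mem_leech.1 hx
  rcases Int.emod_two_eq m with hm | hm
  · have he : ∀ i, x i % 2 = 0 := fun i => by have := h2 i; omega
    by_cases hc : (digSet x).card ≤ 12
    · exact ⟨x, hrefl, hxn, good_even hx hxn he hc⟩
    · exact good_sixteen hx hxn he (not_le.1 hc)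
  · exact ⟨x, hrefl, hxn, good_odd hx hxn fun i => by have := h2 i; omega⟩

theorem cross_card {x : Zv} (hx : x ∈ leechLattice) (hxn : sqNorm x = 64) : (cross x).ncard = 48 := by
  refine goodCross_ncard hxn ?_
  obtain ⟨z, hc, hzn, j, hj, hz⟩ := norm_eight_form hx hxn
  exact goodCross_congr (goodCross_img (goodCross_base hj).1 hz) (hzn.trans hxn.symm) hc

end Cfsg.Agent.Spor
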