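/-
Orbits of Co0 on the short vectors of the Leech lattice; centre; the module modulo two.
-/
import Cfsg.Agent.Lib.Spor.LeechCross

set_option autoImplicit false
set_option maxRecDepth 100000

namespace Cfsg.Agent.Spor

open Cfsg
open scoped Pointwise symmDiff

local notation "Zv" => GolayPt → ℤ

/-! ### the orbit relation -/

/-- two vectors in one orbit -/
def Orb (x y : Zv) : Prop :=
  ∃ (hx : x ∈ leechLattice) (g : ↥Co0), ((g • (⟨x, hx⟩ : ↥leechLattice) : ↥leechLattice) : Zv) = y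

theorem Orb.refl {x : Zv} (hx : x ∈ leechLattice) : Orb x x := ⟨hx, 1, by rw [one_smul]⟩

theorem Orb.mem {x y : Zv} (h : Orb x y) : y ∈ leechLattice := by
  obtain ⟨hx, g, rfl⟩ := h; exact (g • (⟨x, hx⟩ : ↥leechLattice)).2

theorem Orb.mem' {x y : Zv} (h : Orb x y) : x ∈ leechLattice := h.1

theorem Orb.norm {x y : Zv} (h : Orb x y) : sqNorm y = sqNorm x := by
  obtain ⟨hx, g, rfl⟩ := h; exact g.2.2 ⟨x, hx⟩

theorem Orb.trans {x y z : Zv} (h : Orb x y) (h' : Orb y z) : Orb x z := by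
  obtain ⟨hx, g, e⟩ := h
  obtain ⟨hy, g', e'⟩ := h'
  subst e
  exact ⟨hx, g' * g, by rw [mul_smul]; exact e'⟩

theorem Orb.symm {x y : Zv} (h : Orb x y) : Orb y x := by
  obtain ⟨hx, g, e⟩ := h
  subst e
  exact ⟨(g • (⟨x, hx⟩ : ↥leechLattice)).2, g⁻¹, by
    show ((g⁻¹ • (g • (⟨x, hx⟩ : ↥leechLattice)) : ↥leechLattice) : Zv) = x
    rw [inv_smul_smul]⟩

theorem orb_sgn {c : GolayPt → ZMod 2} (hc : c ∈ golayCode) {x : Zv} (hx : x ∈ leechLattice) :
    Orb x (sgn c x) := by
  obtain ⟨g, hg⟩ := exists_sgn hc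
  exact ⟨hx, g, hg _⟩

theorem orb_prm {σ : Equiv.Perm GolayPt} (hσ : σ ∈ M24) {x : Zv} (hx : x ∈ leechLattice) :
    Orb x (prm σ x) := by
  obtain ⟨g, hg⟩ := exists_prm hσ
  exact ⟨hx, g, hg _⟩

theorem orb_xi {x : Zv} (hx : x ∈ leechLattice) : Orb x (xi x) := by
  obtain ⟨g, hg⟩ := exists_xi
  exact ⟨hx, g, hg _⟩

theorem orb_img {b y : Zv} (hb : b ∈ leechLattice) (h : IsImg b y) : Orb b y := by
  obtain ⟨σ, hσ, w, hw, rfl⟩ := h
  exact (orb_sgn hw hb).trans (orb_prm hσ (sgn_mem hw hb))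

/-- an invariant of monomial images -/
def prof (y : Zv) : ℤ := ∑ i, y i ^ 4

theorem prof_img {b y : Zv} (h : IsImg b y) : prof y = prof b := by
  obtain ⟨σ, hσ, w, hw, rfl⟩ := h
  rw [prof, prof]
  refine (Equiv.sum_comp σ.symm fun i => sgn w b i ^ 4).trans (Finset.sum_congr rfl fun i _ => ?_)
  unfold sgn; split_ifs <;> ring

theorem dec_code : ∀ {m : ℕ}, inCode m = true → m < 2 ^ 24 → ofMaskW m ∈ golayCode := fun h hl =>
  mem_code.2 (by rw [wmask_ofMaskW hl]; exact inCode_mem h)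

theorem code10558 : ofMaskW 10558 ∈ golayCode := dec_code (by decide +kernel) (by norm_num)

theorem leechCheck_xi {x : Zv} (hx : x ∈ leechLattice) : xi x ∈ leechLattice := (xi_spec hx).1

/-! ### odd vectors -/

/-- shapes of odd vectors in normalised form -/
theorem odd_normal {y : Zv} (hy : y ∈ leechLattice) {n : ℤ} (hn : sqNorm y = n) (hn64 : n ≤ 64)
    (ho : ∀ i, y i % 2 = 1) :
    ∃ w ∈ golayCode, ∃ T U : Finset GolayPt, Disjoint T U ∧ 24 + 8 * (T.card : ℤ) + 24 * (U.card : ℤ) = n ∧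
      y = sgn w (fun i => if i ∈ T then -3 else if i ∈ U then 5 else 1) := by
  obtain ⟨w, hw, hwN⟩ := digSet_mem hy
  set y' := sgn w y with hy'
  have hn' : sqNorm y' = n := (sqNorm_sgn w y).trans hn
  have h1 : ∀ i, y' i % 4 = 1 := fun i => by
    have := ho i
    have hi : w i ≠ 0 ↔ y i / 2 % 2 = 1 := by rw [← mem_support₂, hwN]; simp [digSet]
    simp only [hy', sgn]
    split_ifs with h
    · have : ¬ y i / 2 % 2 = 1 := fun h' => hi.2 h' h
      omega
    · have := hi.1 h; omega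
  set T : Finset GolayPt := Finset.univ.filter fun i => y' i = -3 with hT
  set U : Finset GolayPt := Finset.univ.filter fun i => y' i = 5 with hU
  have hexc : ∑ i, (y' i ^ 2 - 1) = n - 24 := by
    have hc : (∑ _i : GolayPt, (1 : ℤ)) = 24 := by decide
    rw [Finset.sum_sub_distrib, hc]
    rw [sqNorm] at hn'
    omega
  have hpos : ∀ i, 0 ≤ y' i ^ 2 - 1 := fun i => by
    have : y' i ≤ -1 ∨ 1 ≤ y' i := by have := h1 i; omega
    rcases this with h | h <;> nlinarith
  have hval : ∀ i, y' i = 1 ∨ y' i = -3 ∨ y' i = 5 := fun i => by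
    have hle := Finset.single_le_sum (fun j _ => hpos j) (Finset.mem_univ i)
    rw [hexc] at hle
    have hlo : -6 ≤ y' i := by nlinarith
    have hhi : y' i ≤ 6 := by nlinarith
    have := h1 i
    omega
  refine ⟨w, hw, T, U, ?_, ?_, ?_⟩
  · rw [Finset.disjoint_left]
    intro i hi hi'
    simp only [hT, hU, Finset.mem_filter] at hi hi'
    omega
  · have : 8 * (T.card : ℤ) + 24 * (U.card : ℤ) = n - 24 := by
      rw [hT, hU, ← Finset.sum_boole, ← Finset.sum_boole, Finset.mul_sum, Finset.mul_sum,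
        ← Finset.sum_add_distrib, ← hexc]
      exact Finset.sum_congr rfl fun i _ => by rcases hval i with h | h | h <;> simp [h]
    omega
  · have e : (fun i => if i ∈ T then -3 else if i ∈ U then 5 else 1 : Zv) = y' := by
      funext i
      simp only [hT, hU, Finset.mem_filter, Finset.mem_univ, true_and]
      rcases hval i with h | h | h <;> simp [h]
    rw [e, hy', sgn_sgn]

theorem img_odd_of_set {y b : Zv} {w : GolayPt → ZMod 2} (hw : w ∈ golayCode) {σ : Equiv.Perm GolayPt}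
    (hσ : σ ∈ M24) {v : Zv} (hy : y = sgn w v) (hb : ∀ p, b p = v (σ p)) : IsImg b y := by
  refine ⟨σ, hσ, actW σ.symm w, actW_mem (inv_mem hσ) hw, ?_⟩
  subst hy
  funext i
  simp [prm, sgn, actW, hb]

/-! ### bases -/

/-- norm 32 bases -/
def shortBase (j : ℕ) : Zv := vecOf ([
  [4, 0, 0, 0, 0, 0, 0, 0, 0, 0, 0, 0, 0, 0, 0, 0, 0, 0, 0, 0, 0, 0, 0, 4],
  [2, 2, 2, 2, 2, 0, 0, 2, 0, 0, 2, 0, 2, 0, 0, 0, 0, 0, 0, 0, 0, 0, 0, 0],
  [1, 1, 1, 1, 1, 1, 1, 1, 1, 1, 1, 1, 1, 1, 1, 1, 1, 1, 1, 1, 1, 1, 1, -3]].getD j [])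

/-- norm 48 bases -/
def midBase (j : ℕ) : Zv := vecOf ([
  [2, 2, 2, 2, 2, 2, 2, 0, 2, 2, 2, 0, 0, 0, 0, 2, 0, 2, 0, 0, 0, 0, 0, 0],
  [-2, 2, 2, 2, 2, 4, 0, 2, 0, 0, 2, 0, 2, 0, 0, 0, 0, 0, 0, 0, 0, 0, 0, 0],
  [-3, -3, -3, 1, 1, 1, 1, 1, 1, 1, 1, 1, 1, 1, 1, 1, 1, 1, 1, 1, 1, 1, 1, 1],
  [1, 1, 1, 1, 1, 1, 1, 1, 1, 1, 1, 1, 1, 1, 1, 1, 1, 1, 1, 1, 1, 1, 1, 5]].getD j [])

theorem base_facts :
    (∀ j, j < 3 → leechCheck (shortBase j) = true ∧ sqNorm (shortBase j) = 32) ∧
    (∀ j, j < 4 → leechCheck (midBase j) = true ∧ sqNorm (midBase j) = 48) ∧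
    (∀ p, shortBase 0 p = if p ∈ ofMask 8388609 then 4 else 0) ∧
    (∀ p, shortBase 1 p = if p ∈ ofMask 5279 then 2 else 0) ∧
    (∀ p, shortBase 2 p = if p = none then -3 else 1) ∧
    (∀ p, midBase 0 p = if p ∈ ofMask baseDod then 2 else 0) ∧
    (∀ p, midBase 1 p = if p = pt 5 then 4 else if p ∈ ofMask 5279 then (if p = pt 0 then -2 else 2) else 0) ∧
    (∀ p, midBase 2 p = if p ∈ ofMask 7 then -3 else 1) ∧
    (∀ p, midBase 3 p = if p = none then 5 else 1) ∧
    shortBase 2 = oddVec := by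
  refine ⟨?_, ?_, ?_, ?_, ?_, ?_, ?_, ?_, ?_, ?_⟩
  all_goals first | (funext p; revert p; decide +kernel) | decide +kernel

theorem shortBase_mem {j : ℕ} (hj : j < 3) : shortBase j ∈ leechLattice :=
  leechCheck_mem (base_facts.1 j hj).1

theorem midBase_mem {j : ℕ} (hj : j < 4) : midBase j ∈ leechLattice :=
  leechCheck_mem (base_facts.2.1 j hj).1

theorem cut_masks :
    cutScan 8388609 0 = true ∧ cutScan 5279 5279 = true ∧ cutScan baseDod baseDod = true ∧
      cutScan (5279 + 32) 5279 = true := by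
  refine ⟨?_, ?_, ?_, ?_⟩ <;> decide +kernel

theorem base_supports :
    (∀ p, (Nat.testBit 8388609 (idx p) = decide (shortBase 0 p ≠ 0)) ∧
      (Nat.testBit 0 (idx p) = decide (shortBase 0 p % 4 = 2)) ∧ shortBase 0 p % 2 = 0) ∧
    (∀ p, (Nat.testBit 5279 (idx p) = decide (shortBase 1 p ≠ 0)) ∧
      (Nat.testBit 5279 (idx p) = decide (shortBase 1 p % 4 = 2)) ∧ shortBase 1 p % 2 = 0) ∧
    (∀ p, (Nat.testBit baseDod (idx p) = decide (midBase 0 p ≠ 0)) ∧
      (Nat.testBit baseDod (idx p) = decide (midBase 0 p % 4 = 2)) ∧ midBase 0 p % 2 = 0) ∧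
    (∀ p, (Nat.testBit (5279 + 32) (idx p) = decide (midBase 1 p ≠ 0)) ∧
      (Nat.testBit 5279 (idx p) = decide (midBase 1 p % 4 = 2)) ∧ midBase 1 p % 2 = 0) := by
  refine ⟨?_, ?_, ?_, ?_⟩ <;> decide +kernel

theorem img_base {b y : Zv} (hbL : b ∈ leechLattice) {S L : ℕ} (hS : S < 2 ^ 24)
    (hscan : cutScan S L = true)
    (h : ∀ p, (Nat.testBit S (idx p) = decide (b p ≠ 0)) ∧
      (Nat.testBit L (idx p) = decide (b p % 4 = 2)) ∧ b p % 2 = 0)
    (hy : y ∈ leechLattice) {σ : Equiv.Perm GolayPt} (hσ : σ ∈ M24)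
    (habs : ∀ p, y (σ p) = b p ∨ y (σ p) = -b p) : IsImg b y :=
  img_of_abs hbL (fun p => (h p).2.2) hS hscan (fun p => by rw [(h p).1, decide_eq_true_eq])
    (fun p => by rw [(h p).2.1, decide_eq_true_eq]) hy hσ habs

/-! ### norm 32 -/

theorem four_parity {y : Zv} (hy : y ∈ leechLattice) (h4 : ∀ i, y i % 4 = 0) :
    (∑ i, y i / 4) % 2 = 0 := by
  obtain ⟨m, h2, h8, -⟩ := mem_leech.1 hy
  have e : ∑ i, y i = 4 * ∑ i, y i / 4 := by
    rw [Finset.mul_sum]; exact Finset.sum_congr rfl fun i _ => by have := h4 i; omega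
  have := h2 none; have := h4 none
  omega

theorem short_form {y : Zv} (hy : y ∈ leechLattice) (hn : sqNorm y = 32) :
    ∃ j, j < 3 ∧ IsImg (shortBase j) y := by
  obtain ⟨m, h2, -, -⟩ := mem_leech.1 hy
  obtain ⟨hb1, -, hb0v, hb1v, hb2v, -⟩ := base_facts
  rcases Int.emod_two_eq m with hm | hm
  · have he : ∀ i, y i % 2 = 0 := fun i => by have := h2 i; omega
    obtain ⟨g, hgn, htot, vals⟩ := even_excess he hn (by norm_num)
    set c := digSet y
    have hin := Finset.sum_nonneg (s := c) fun i _ => hgn i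
    have hout := Finset.sum_nonneg (s := Finset.univ \ c) fun i _ => hgn i
    rcases codeSets_card (digSet_mem hy) with h | h | h | h | h
    · have hc : c = ∅ := Finset.card_eq_zero.1 h
      rw [hc, Finset.sdiff_empty, Finset.sum_empty, Finset.card_empty] at htot
      push_cast at htot
      have hnc : ∀ i, i ∉ c := fun i => by simp [hc]
      have h01 : ∀ i, g i = 0 ∨ g i = 1 := fun i => by
        have := Finset.single_le_sum (fun j _ => hgn j) (Finset.mem_univ i)
        have := ((vals i).2.2.2.2 (hnc i)).1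
        have := hgn i
        omega
      set T : Finset GolayPt := Finset.univ.filter fun i => g i ≠ 0 with hT
      have hT2 : T.card = 2 := by
        have := count_abs h01
        rw [← hT] at this
        omega
      obtain ⟨σ, hσ, e⟩ := move_set hT2 (by norm_num)
      obtain ⟨τ, hτ, hm'⟩ := M24_trans (k := 2) (by norm_num) ⟨![pt 0, pt 23], by decide +kernel⟩
        ⟨![σ (pt 0), σ (pt 1)], by
          intro u v; fin_cases u <;> fin_cases v <;>
            simp [σ.injective.eq_iff, show pt 0 ≠ pt 1 by decide +kernel, show pt 1 ≠ pt 0 by decide +kernel]⟩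
      refine ⟨0, by norm_num, img_base (shortBase_mem (by norm_num)) (by norm_num) cut_masks.1 base_supports.1
        hy hτ fun p => ?_⟩
      rw [hb0v]
      have hiff : τ p ∈ T ↔ p ∈ ofMask 8388609 := by
        rw [← e, show ofMask (2 ^ 2 - 1) = {pt 0, pt 1} by decide +kernel,
          show ofMask 8388609 = {pt 0, pt 23} by decide +kernel, Finset.smul_finset_insert,
          Finset.smul_finset_singleton, Finset.mem_insert, Finset.mem_singleton, Finset.mem_insert,
          Finset.mem_singleton]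
        have e0 : τ (pt 0) = σ (pt 0) := hm' 0
        have e1 : τ (pt 23) = σ (pt 1) := hm' 1
        show τ p = σ (pt 0) ∨ τ p = σ (pt 1) ↔ _
        rw [← e0, ← e1, τ.injective.eq_iff, τ.injective.eq_iff]
      rw [hT, Finset.mem_filter] at hiff
      simp only [Finset.mem_univ, true_and] at hiff
      by_cases hp : p ∈ ofMask 8388609
      · rw [if_pos hp]; exact (vals _).2.2.2.1 (hnc _) ((h01 _).resolve_left (hiff.2 hp))
      · rw [if_neg hp]; left; exact (vals _).2.2.1 (hnc _) (by by_contra h'; exact hp (hiff.1 h'))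
    · rw [h] at htot
      have g0 := (Finset.sum_eq_zero_iff_of_nonneg fun i _ => hgn i).1 (show ∑ i ∈ c, g i = 0 by omega)
      have g1 := (Finset.sum_eq_zero_iff_of_nonneg fun i _ => hgn i).1
        (show ∑ i ∈ Finset.univ \ c, g i = 0 by omega)
      obtain ⟨σ, hσ, e⟩ := octad_map c ⟨digSet_mem hy, h⟩
      refine ⟨1, by norm_num, img_base (shortBase_mem (by norm_num)) (by norm_num) cut_masks.2.1
        base_supports.2.1 hy hσ fun p => ?_⟩
      rw [hb1v]
      have hiff : σ p ∈ c ↔ p ∈ ofMask 5279 := by rw [← e]; exact mem_smul_iff' σ _ p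
      by_cases hp : p ∈ ofMask 5279
      · rw [if_pos hp]; exact (vals _).1 (hiff.2 hp) (g0 _ (hiff.2 hp))
      · rw [if_neg hp]; left
        exact (vals _).2.2.1 (mt hiff.1 hp) (g1 _ (Finset.mem_sdiff.2 ⟨Finset.mem_univ _, mt hiff.1 hp⟩))
    all_goals (exfalso; rw [h] at htot; omega)
  · obtain ⟨w, hw, T, U, -, hc, e⟩ := odd_normal hy hn (by norm_num) fun i => by have := h2 i; omega
    have hU : U = ∅ := Finset.card_eq_zero.1 (by omega)
    obtain ⟨a, ha⟩ := Finset.card_eq_one.1 (show T.card = 1 by omega)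
    obtain ⟨σ, hσ, hm'⟩ := M24_trans (k := 1) (by norm_num) ⟨fun _ => (none : GolayPt), by decide⟩
      ⟨fun _ => a, fun u v _ => Subsingleton.elim u v⟩
    have hσ0 : σ none = a := hm' 0
    refine ⟨2, by norm_num, img_odd_of_set hw hσ e fun p => ?_⟩
    rw [hb2v, ha, hU, ← hσ0]
    simp only [Finset.mem_singleton, σ.injective.eq_iff, Finset.notMem_empty, if_false]

/-- octad stabiliser on the outside points -/
theorem oct_out_cover : cover (setTest (1 <<< 5)) octStabGens
    [32, 64, 256, 512, 2048, 8192, 16384, 32768, 65536, 131072, 262144, 524288, 1048576, 2097152, 4194304, 8388608]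
    [0, 3, 4, 7, 169, 187, 31, 19, 10, 5, 14, 2, 25, 27, 91, 1] = true ∧
    ∀ a, a < 24 → Nat.testBit 5279 a = false → 1 <<< a ∈
      [32, 64, 256, 512, 2048, 8192, 16384, 32768, 65536, 131072, 262144, 524288, 1048576, 2097152, 4194304, 8388608] := by
  refine ⟨?_, ?_⟩ <;> decide +kernel

theorem mid_form {y : Zv} (hy : y ∈ leechLattice) (hn : sqNorm y = 48) :
    ∃ j, j < 4 ∧ IsImg (midBase j) y := by
  obtain ⟨m, h2, -, -⟩ := mem_leech.1 hy
  obtain ⟨-, -, -, -, -, hd0, hd1, hd2, hd3, -⟩ := base_facts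
  rcases Int.emod_two_eq m with hm | hm
  · have he : ∀ i, y i % 2 = 0 := fun i => by have := h2 i; omega
    obtain ⟨g, hgn, htot, vals⟩ := even_excess he hn (by norm_num)
    set c := digSet y with hcd
    have hin := Finset.sum_nonneg (s := c) fun i _ => hgn i
    have hout := Finset.sum_nonneg (s := Finset.univ \ c) fun i _ => hgn i
    rcases codeSets_card (digSet_mem hy) with h | h | h | h | h
    · exfalso
      have hc : c = ∅ := Finset.card_eq_zero.1 h
      rw [hc, Finset.sdiff_empty, Finset.sum_empty, Finset.card_empty] at htot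
      push_cast at htot
      have hnc : ∀ i, i ∉ c := fun i => by simp [hc]
      have h01 : ∀ i, g i = 0 ∨ g i = 1 := fun i => by
        have := Finset.single_le_sum (fun j _ => hgn j) (Finset.mem_univ i)
        have := (vals i).2.2.2.2 (hnc i)
        have := hgn i
        omega
      have h4 : ∀ i, y i % 4 = 0 := fun i => by
        rcases h01 i with h0 | h1
        · have := (vals i).2.2.1 (hnc i) h0; omega
        · have := (vals i).2.2.2.1 (hnc i) h1; omega
      have hp := four_parity hy h4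
      have hgp : ∀ i, g i % 2 = y i / 4 % 2 := fun i => by
        rcases h01 i with h0 | h1
        · have := (vals i).2.2.1 (hnc i) h0; omega
        · have := (vals i).2.2.2.1 (hnc i) h1; omega
      have : (∑ i, g i) % 2 = 0 := by
        rw [Finset.sum_int_mod, Finset.sum_congr rfl fun i _ => hgp i, ← Finset.sum_int_mod]; exact hp
      omega
    · rw [h] at htot
      have g0 := (Finset.sum_eq_zero_iff_of_nonneg fun i _ => hgn i).1 (show ∑ i ∈ c, g i = 0 by omega)
      have hs1 : ∑ i ∈ Finset.univ \ c, g i = 1 := by omega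
      obtain ⟨q, hq, hqne⟩ := Finset.exists_ne_zero_of_sum_ne_zero (show ∑ i ∈ Finset.univ \ c, g i ≠ 0 by omega)
      have hg : ∀ p ∈ Finset.univ \ c, p ≠ q → g q ≠ 0 → g p = 0 := fun p hp hpq hne => by
        have := Finset.add_le_sum (fun j _ => hgn j) hq hp (Ne.symm hpq)
        have := hgn p; have := hgn q; omega
      have hq1 : g q = 1 := by
        have := Finset.single_le_sum (fun j _ => hgn j) hq; have := hgn q; omega
      obtain ⟨σ, hσ, e⟩ := octad_map c ⟨digSet_mem hy, h⟩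
      have hqc : q ∉ c := (Finset.mem_sdiff.1 hq).2
      obtain ⟨τ, hτ, eτ, ei⟩ := stab_move (by norm_num) (by decide) octStabGens_ok oct_out_cover.1 hσ
        (t := {q}) (by
          rw [Finset.smul_finset_singleton, mask_single]
          refine oct_out_cover.2 _ (idx_lt _) ?_
          rw [← Bool.not_eq_true]
          intro hh
          exact hqc (by rw [← e]; exact Finset.inv_smul_mem_iff.1 (mem_ofMask.2 hh)))
      have h0 : τ (pt 5) = q := by
        have := Finset.smul_mem_smul_finset (a := τ) (show pt 5 ∈ ofMask (1 <<< 5) by decide +kernel)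
        rw [ei, Finset.mem_singleton] at this
        exact this
      refine ⟨1, by norm_num, img_base (midBase_mem (by norm_num)) (by norm_num) cut_masks.2.2.2
        base_supports.2.2.2 hy hτ fun p => ?_⟩
      rw [hd1]
      by_cases hp5 : p = pt 5
      · subst hp5; rw [if_pos rfl, h0]; exact (vals q).2.2.2.1 hqc hq1
      rw [if_neg hp5]
      have hpq : τ p ≠ q := fun hh => hp5 (τ.injective (hh.trans h0.symm))
      have hiff : τ p ∈ c ↔ p ∈ ofMask 5279 := by rw [← e, ← eτ]; exact mem_smul_iff' τ _ p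
      by_cases hp : p ∈ ofMask 5279
      · rw [if_pos hp]
        have := (vals _).1 (hiff.2 hp) (g0 _ (hiff.2 hp))
        split_ifs
        · rcases this with hh | hh <;> simp [hh]
        · exact this
      · rw [if_neg hp]; left
        exact (vals _).2.2.1 (mt hiff.1 hp)
          (hg _ (Finset.mem_sdiff.2 ⟨Finset.mem_univ _, mt hiff.1 hp⟩) hpq hqne)
    · rw [h] at htot
      have g0 := (Finset.sum_eq_zero_iff_of_nonneg fun i _ => hgn i).1 (show ∑ i ∈ c, g i = 0 by omega)
      have g1 := (Finset.sum_eq_zero_iff_of_nonneg fun i _ => hgn i).1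
        (show ∑ i ∈ Finset.univ \ c, g i = 0 by omega)
      obtain ⟨σ, hσ, e⟩ := dodecad_map (show c ∈ dodecads from ⟨digSet_mem hy, h⟩)
      refine ⟨0, by norm_num, img_base (midBase_mem (by norm_num)) baseDod_lt cut_masks.2.2.1
        base_supports.2.2.1 hy hσ fun p => ?_⟩
      rw [hd0]
      have hiff : σ p ∈ c ↔ p ∈ ofMask baseDod := by rw [← e]; exact mem_smul_iff' σ _ p
      by_cases hp : p ∈ ofMask baseDod
      · rw [if_pos hp]; exact (vals _).1 (hiff.2 hp) (g0 _ (hiff.2 hp))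
      · rw [if_neg hp]; left
        exact (vals _).2.2.1 (mt hiff.1 hp) (g1 _ (Finset.mem_sdiff.2 ⟨Finset.mem_univ _, mt hiff.1 hp⟩))
    all_goals (exfalso; rw [h] at htot; omega)
  · obtain ⟨w, hw, T, U, hdisj, hc, e⟩ := odd_normal hy hn (by norm_num) fun i => by have := h2 i; omega
    obtain hU1 | hU0 : U.card = 1 ∨ U.card = 0 := by omega
    · obtain ⟨a, ha⟩ := Finset.card_eq_one.1 hU1
      have hT : T = ∅ := Finset.card_eq_zero.1 (by omega)
      obtain ⟨σ, hσ, hm'⟩ := M24_trans (k := 1) (by norm_num) ⟨fun _ => (none : GolayPt), by decide⟩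
        ⟨fun _ => a, fun u v _ => Subsingleton.elim u v⟩
      have hσ0 : σ none = a := hm' 0
      refine ⟨3, by norm_num, img_odd_of_set hw hσ e fun p => ?_⟩
      rw [hd3, ha, hT, ← hσ0]
      simp only [Finset.mem_singleton, σ.injective.eq_iff, Finset.notMem_empty, if_false]
    · have hU : U = ∅ := Finset.card_eq_zero.1 hU0
      obtain ⟨σ, hσ, eT⟩ := move_set (show T.card = 3 by omega) (by norm_num)
      refine ⟨2, by norm_num, img_odd_of_set hw hσ e fun p => ?_⟩
      rw [hd2, hU, show (7 : ℕ) = 2 ^ 3 - 1 from rfl]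
      simp only [Finset.notMem_empty, if_false]
      exact if_congr (by rw [← eT]; exact (mem_smul_iff' σ _ p).symm) rfl rfl

/-! ### transitivity -/

theorem short_profiles : prof (shortBase 0) = 512 ∧ prof (shortBase 1) = 128 ∧ prof (shortBase 2) = 104 ∧
    sgn (ofMaskW 5902343) (xi (pairVec (pt 3) (pt 12) 1)) = shortBase 1 ∧
    sgn (ofMaskW 12656663) (xi (dbl (ofMaskW 4415544))) = shortBase 2 ∧
    prof (pairVec (pt 3) (pt 12) 1) = 512 ∧ prof (dbl (ofMaskW 4415544)) = 128 := by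
  refine ⟨?_, ?_, ?_, ?_, ?_, ?_, ?_⟩
  all_goals first | (funext p; revert p; decide +kernel) | decide +kernel

theorem short_type {y : Zv} (hy : y ∈ leechLattice) (hn : sqNorm y = 32) {j : ℕ} (hj : j < 3)
    (hp : prof y = prof (shortBase j)) : Orb (shortBase j) y := by
  obtain ⟨i, hi, h⟩ := short_form hy hn
  have := prof_img h
  rw [hp] at this
  have hij : i = j := by
    obtain ⟨p0, p1, p2, -⟩ := short_profiles
    interval_cases i <;> interval_cases j <;> first | rfl | (exfalso; simp only [p0, p1, p2] at this; omega)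
  exact orb_img (shortBase_mem hj) (hij ▸ h)

theorem orb_short {y : Zv} (hy : y ∈ leechLattice) (hn : sqNorm y = 32) : Orb (shortBase 0) y := by
  obtain ⟨p0, p1, p2, c1, c2, q1, q2⟩ := short_profiles
  have hpair := pairVec_spec (i := pt 3) (j := pt 12) (by decide +kernel) (e := 1) (Or.inl rfl)
  have hw1 : ofMaskW 5902343 ∈ golayCode := dec_code (by decide +kernel) (by norm_num)
  have hw2 : ofMaskW 12656663 ∈ golayCode := dec_code (by decide +kernel) (by norm_num)
  have h1 : Orb (shortBase 0) (shortBase 1) :=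
    (short_type hpair.1 hpair.2 (by norm_num) (q1.trans p0.symm)).trans
      ((orb_xi hpair.1).trans (c1 ▸ orb_sgn hw1 (leechCheck_xi hpair.1)))
  have hoL : dbl (ofMaskW 4415544) ∈ leechLattice := dbl_mem (dec_code (by decide +kernel) (by norm_num))
  have h2 : Orb (shortBase 1) (shortBase 2) :=
    (short_type hoL (by decide +kernel) (by norm_num) (q2.trans p1.symm)).trans
      ((orb_xi hoL).trans (c2 ▸ orb_sgn hw2 (leechCheck_xi hoL)))
  obtain ⟨j, hj, h⟩ := short_form hy hn
  interval_cases j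
  · exact orb_img (shortBase_mem (by norm_num)) h
  · exact h1.trans (orb_img (shortBase_mem (by norm_num)) h)
  · exact (h1.trans h2).trans (orb_img (shortBase_mem (by norm_num)) h)

theorem mid_profiles : prof (midBase 0) = 192 ∧ prof (midBase 1) = 384 ∧ prof (midBase 2) = 264 ∧
    prof (midBase 3) = 648 ∧ prof (xi (sgn (ofMaskW 10558) (midBase 3))) = 384 ∧
    prof (xi (sgn (ofMaskW 10558) (midBase 2))) = 384 ∧
    prof (dbl (ofMaskW 28637)) = 192 ∧ sqNorm (dbl (ofMaskW 28637)) = 48 ∧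
    prof (xi (dbl (ofMaskW 28637))) = 264 := by
  refine ⟨?_, ?_, ?_, ?_, ?_, ?_, ?_, ?_, ?_⟩ <;> decide +kernel

theorem mid_type {y : Zv} (hy : y ∈ leechLattice) (hn : sqNorm y = 48) {j : ℕ} (hj : j < 4)
    (hp : prof y = prof (midBase j)) : Orb (midBase j) y := by
  obtain ⟨i, hi, h⟩ := mid_form hy hn
  have := prof_img h
  rw [hp] at this
  have hij : i = j := by
    obtain ⟨p0, p1, p2, p3, -⟩ := mid_profiles
    interval_cases i <;> interval_cases j <;> first | rfl | (exfalso; simp only [p0, p1, p2, p3] at this; omega)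
  exact orb_img (midBase_mem hj) (hij ▸ h)

theorem orb_mid {y : Zv} (hy : y ∈ leechLattice) (hn : sqNorm y = 48) : Orb (midBase 1) y := by
  obtain ⟨p0, p1, p2, p3, q3, q2, r0, r1, r2⟩ := mid_profiles
  have step : ∀ j, j < 4 → prof (xi (sgn (ofMaskW 10558) (midBase j))) = 384 →
      Orb (midBase 1) (midBase j) := by
    intro j hj hp
    have hs := sgn_mem code10558 (midBase_mem hj)
    have ho := (orb_sgn code10558 (midBase_mem hj)).trans (orb_xi hs)
    exact (mid_type (leechCheck_xi hs) (ho.norm.trans (base_facts.2.1 j hj).2) (by norm_num)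
      (hp.trans p1.symm)).trans ho.symm
  have hDL : dbl (ofMaskW 28637) ∈ leechLattice := dbl_mem (dec_code (by decide +kernel) (by norm_num))
  have h0 : Orb (midBase 1) (midBase 0) := by
    have a := mid_type hDL r1 (show (0 : ℕ) < 4 by norm_num) (r0.trans p0.symm)
    have b := mid_type (leechCheck_xi hDL) ((orb_xi hDL).norm.trans r1) (show (2 : ℕ) < 4 by norm_num)
      (r2.trans p2.symm)
    exact ((step 2 (by norm_num) q2).trans b).trans ((orb_xi hDL).symm.trans a.symm)
  obtain ⟨j, hj, h⟩ := mid_form hy hn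
  refine Orb.trans ?_ (orb_img (midBase_mem hj) h)
  interval_cases j
  · exact h0
  · exact Orb.refl (midBase_mem (by norm_num))
  · exact step 2 (by norm_num) q2
  · exact step 3 (by norm_num) q3

theorem transitive_of_orb {b : Zv} {n : ℤ} (h : ∀ y ∈ leechLattice, sqNorm y = n → Orb b y)
    (v w : ↥leechLattice) (hv : sqNorm (v : Zv) = n) (hw : sqNorm (w : Zv) = n) :
    ∃ g : ↥Co0, g • v = w := by
  obtain ⟨hx, g, e⟩ := (h v v.2 hv).symm.trans (h w w.2 hw)
  exact ⟨g, Subtype.ext e⟩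

/-! ### classes of norm 64 -/

/-- same orbit on classes -/
def OrbC (x y : Zv) : Prop := ∃ z, Orb x z ∧ Cong2 z y

theorem Cong2.refl' (x : Zv) : Cong2 x x := ⟨0, zero_mem _, by simp⟩

theorem Cong2.symm {x y : Zv} (h : Cong2 x y) : Cong2 y x := by
  obtain ⟨z, hz, e⟩ := h
  exact ⟨-z, neg_mem hz, by rw [smul_neg, ← e, neg_sub]⟩

theorem orb_cong {x y : Zv} {g : ↥Co0} (hx : x ∈ leechLattice) (hy : y ∈ leechLattice) (h : Cong2 x y) :
    Cong2 ((g • (⟨x, hx⟩ : ↥leechLattice) : ↥leechLattice) : Zv)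
      ((g • (⟨y, hy⟩ : ↥leechLattice) : ↥leechLattice) : Zv) := by
  obtain ⟨z, hz, e⟩ := h
  have ex : (⟨x, hx⟩ : ↥leechLattice) = ⟨y, hy⟩ + (⟨z, hz⟩ + ⟨z, hz⟩) := Subtype.ext (by
    show x = y + (z + z)
    rw [← two_nsmul, ← e]; abel)
  refine ⟨((g • (⟨z, hz⟩ : ↥leechLattice) : ↥leechLattice) : Zv), (g • (⟨z, hz⟩ : ↥leechLattice)).2, ?_⟩
  rw [ex, co0_smul_add', co0_smul_add', AddSubgroup.coe_add, AddSubgroup.coe_add, two_nsmul]
  abel
where co0_smul_add' {g : ↥Co0} {u v : ↥leechLattice} : g • (u + v) = g • u + g • v := g.2.1 u v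

theorem OrbC.trans {x y z : Zv} (h : OrbC x y) (h' : OrbC y z) : OrbC x z := by
  obtain ⟨a, h1, h2⟩ := h
  obtain ⟨b, ⟨hy, g, rfl⟩, h4⟩ := h'
  exact ⟨_, h1.trans ⟨h1.mem, g, rfl⟩, (orb_cong h1.mem hy h2).trans h4⟩

theorem OrbC.symm {x y : Zv} (h : OrbC x y) : OrbC y x := by
  obtain ⟨a, ⟨hx, g, rfl⟩, h2⟩ := h
  have hy : y ∈ leechLattice := h2.mem (g • (⟨x, hx⟩ : ↥leechLattice)).2
  refine ⟨_, ⟨hy, g⁻¹, rfl⟩, ?_⟩
  have := orb_cong (g := g⁻¹) hy (g • (⟨x, hx⟩ : ↥leechLattice)).2 h2.symm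
  simpa only [Subtype.coe_eta, inv_smul_smul] using this

theorem Orb.toC {x y : Zv} (h : Orb x y) : OrbC x y := ⟨y, h, Cong2.refl' y⟩

theorem cross_profiles : prof (crossBase 0) = 4096 ∧ prof (crossBase 1) = 1024 ∧ prof (crossBase 2) = 1408 ∧
    prof (crossBase 3) = 640 ∧ prof (crossBase 4) = 448 ∧ prof (crossBase 5) = 808 ∧ prof (crossBase 6) = 424 := by
  refine ⟨?_, ?_, ?_, ?_, ?_, ?_, ?_⟩ <;> decide +kernel

theorem cross_type {y : Zv} (hy : y ∈ leechLattice) (hn : sqNorm y = 64) (he : ∀ i, y i % 2 = 0)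
    (hd : (digSet y).card ≤ 12) {j : ℕ} (hj : j < 7) (hp : prof y = prof (crossBase j)) :
    Orb (crossBase j) y := by
  obtain ⟨i, hi, h⟩ := good_even hy hn he hd
  have := prof_img h
  rw [hp] at this
  have hij : i = j := by
    obtain ⟨p0, p1, p2, p3, p4, p5, p6⟩ := cross_profiles
    interval_cases i <;> interval_cases j <;>
      first | rfl | (exfalso; simp only [p0, p1, p2, p3, p4, p5, p6] at this; omega)
  exact orb_img (leechCheck_mem (crossBase_facts j hj).1) (hij ▸ h)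

/-- the vector with an octad and two fours used as a link -/
def linkVec : Zv := fun p =>
  if p = pt 5 ∨ p = pt 14 then 4 else if p ∈ ofMask 5279 then 2 else 0

/-- the checks for a link -/
def linkCheck (x : Zv) (target : ℤ) : Bool :=
  leechCheck x && decide (sqNorm x = 64) && decide (∀ i, x i % 2 = 0) && decide ((digSet x).card ≤ 12) &&
    decide (prof x = target)

theorem links : linkCheck (xi (sgn (ofMaskW 10558) (crossBase 1))) 4096 = true ∧
    linkCheck (xi (sgn (ofMaskW 10558) (crossBase 2))) 1024 = true ∧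
    linkCheck linkVec 640 = true ∧
    linkCheck (xi (sgn (ofMaskW 10558) linkVec)) 1024 = true ∧
    linkCheck (xi (crossBase 4)) 640 = true ∧
    linkCheck (xi (sgn (ofMaskW 10558) (crossBase 5))) 1408 = true ∧
    linkCheck (xi (sgn (ofMaskW 10558) (crossBase 6))) 1408 = true := by
  refine ⟨?_, ?_, ?_, ?_, ?_, ?_, ?_⟩ <;> decide +kernel

theorem of_linkCheck {x : Zv} {j : ℕ} (hj : j < 7) {t : ℤ} (ht : prof (crossBase j) = t)
    (h : linkCheck x t = true) : x ∈ leechLattice ∧ Orb (crossBase j) x := by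
  simp only [linkCheck, Bool.and_eq_true, decide_eq_true_eq] at h
  obtain ⟨⟨⟨⟨h1, h2⟩, h3⟩, h4⟩, h5⟩ := h
  exact ⟨leechCheck_mem h1, cross_type (leechCheck_mem h1) h2 h3 h4 hj (h5.trans ht.symm)⟩

theorem orb_class {y : Zv} (hy : y ∈ leechLattice) (hn : sqNorm y = 64) : OrbC (crossBase 0) y := by
  obtain ⟨p0, p1, p2, p3, p4, p5, p6⟩ := cross_profiles
  obtain ⟨l1, l2, l3, l3', l4, l5, l6⟩ := links
  have step : ∀ {x : Zv} {i : ℕ} {t : ℤ}, x ∈ leechLattice → i < 7 → prof (crossBase i) = t →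
      linkCheck (xi (sgn (ofMaskW 10558) x)) t = true → Orb (crossBase i) x := by
    intro x i t hx hi ht hl
    exact (of_linkCheck hi ht hl).2.trans
      ((orb_sgn code10558 hx).trans (orb_xi (sgn_mem code10558 hx))).symm
  have hB : ∀ j, j < 7 → crossBase j ∈ leechLattice := fun j hj => leechCheck_mem (crossBase_facts j hj).1
  have g1 := step (hB 1 (by norm_num)) (show 0 < 7 by norm_num) p0 l1
  have g2 := g1.trans (step (hB 2 (by norm_num)) (show 1 < 7 by norm_num) p1 l2)
  obtain ⟨hv, hvo⟩ := of_linkCheck (show 3 < 7 by norm_num) p3 l3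
  have g3 := (g1.trans (step hv (show 1 < 7 by norm_num) p1 l3')).trans hvo.symm
  have g4 := g3.trans ((of_linkCheck (show 3 < 7 by norm_num) p3 l4).2.trans (orb_xi (hB 4 (by norm_num))).symm)
  have g5 := g2.trans (step (hB 5 (by norm_num)) (show 2 < 7 by norm_num) p2 l5)
  have g6 := g2.trans (step (hB 6 (by norm_num)) (show 2 < 7 by norm_num) p2 l6)
  obtain ⟨z, hc, -, j, hj, hz⟩ := norm_eight_form hy hn
  refine ⟨z, Orb.trans ?_ (orb_img (hB j hj) hz), hc.symm⟩
  interval_cases j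
  · exact Orb.refl (hB 0 (by norm_num))
  · exact g1
  · exact g2
  · exact g3
  · exact g4
  · exact g5
  · exact g6

theorem class_transitive (v w : ↥leechLattice) (hv : sqNorm (v : Zv) = 64) (hw : sqNorm (w : Zv) = 64) :
    ∃ g : ↥Co0, ∃ z ∈ leechLattice, ((g • v : ↥leechLattice) : Zv) - (w : Zv) = 2 • z := by
  obtain ⟨a, ⟨hx, g, e⟩, hc⟩ := (orb_class v.2 hv).symm.trans (orb_class w.2 hw)
  subst e
  exact ⟨g, hc⟩

/-! ### centre and module -/

theorem negation_exists : ∃ n : ↥Co0, ∀ v : ↥leechLattice,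
    ((n • v : ↥leechLattice) : Zv) = -(v : Zv) := by
  obtain ⟨g, n, -, hn⟩ := exists_sq_neg; exact ⟨n, hn⟩

theorem co0_ext {g h : ↥Co0} (e : ∀ v : ↥leechLattice, ((g • v : ↥leechLattice) : Zv) = ((h • v : ↥leechLattice) : Zv)) :
    g = h := Subtype.ext (Equiv.ext fun v => Subtype.ext (e v))

/-- an automorphism as a homomorphism -/
noncomputable def co0Hom (g : ↥Co0) : ↥leechLattice →+ Zv :=
  AddMonoidHom.mk' (fun v => ((g • v : ↥leechLattice) : Zv)) fun u v => by
    show ((g • (u + v) : ↥leechLattice) : Zv) = _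
    rw [show g • (u + v) = g • u + g • v from g.2.1 u v, AddSubgroup.coe_add]

theorem scalar_of_generators (g : ↥Co0) (e : ℤ)
    (h : ∀ x : Zv, ∀ hx : x ∈ leechLattice, sqNorm x = 32 →
      ((g • (⟨x, hx⟩ : ↥leechLattice) : ↥leechLattice) : Zv) = e • x)
    (v : ↥leechLattice) : ((g • v : ↥leechLattice) : Zv) = e • (v : Zv) := by
  have hle : AddSubgroup.closure {x : Zv | x ∈ leechLattice ∧ sqNorm x = 32} ≤
      (AddMonoidHom.ker (co0Hom g - e • leechLattice.subtype)).map leechLattice.subtype :=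
    (AddSubgroup.closure_le _).2 fun x ⟨hx, hn⟩ => ⟨⟨x, hx⟩, by
      rw [SetLike.mem_coe, AddMonoidHom.mem_ker, AddMonoidHom.sub_apply, sub_eq_zero]
      exact h x hx hn, rfl⟩
  rw [minimal_generate] at hle
  obtain ⟨u, hu, e'⟩ := hle v.2
  rw [SetLike.mem_coe, AddMonoidHom.mem_ker, AddMonoidHom.sub_apply, sub_eq_zero] at hu
  rw [← Subtype.ext e']
  exact hu

theorem dot_bilin_smul (a b : ℤ) (x y : Zv) : dotInt (a • x) (b • y) = a * b * dotInt x y := by
  simp only [dotInt, Finset.mul_sum, Pi.smul_apply, smul_eq_mul]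
  exact Finset.sum_congr rfl fun i _ => by ring

theorem co0_dot (g : ↥Co0) (u v : ↥leechLattice) :
    dotInt ((g • u : ↥leechLattice) : Zv) ((g • v : ↥leechLattice) : Zv) = dotInt (u : Zv) (v : Zv) := by
  have hsub : g • (u - v) = g • u - g • v :=
    eq_sub_of_add_eq ((g.2.1 _ _).symm.trans (congrArg _ (sub_add_cancel u v)))
  have hs : sqNorm (((g • u : ↥leechLattice) : Zv) - ((g • v : ↥leechLattice) : Zv)) = sqNorm ((u : Zv) - (v : Zv)) := by
    rw [← AddSubgroup.coe_sub, ← hsub]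
    exact g.2.2 (u - v)
  have eu : sqNorm ((g • u : ↥leechLattice) : Zv) = sqNorm (u : Zv) := g.2.2 u
  have ev : sqNorm ((g • v : ↥leechLattice) : Zv) = sqNorm (v : Zv) := g.2.2 v
  rw [sqNorm_sub, sqNorm_sub, eu, ev] at hs
  linarith

theorem kernel_scalar (g : ↥Co0)
    (h : ∀ v : ↥leechLattice, ∃ w : ↥leechLattice,
      ((g • v : ↥leechLattice) : Zv) - (v : Zv) = 2 • (w : Zv)) :
    ∃ e : ℤ, (e = 1 ∨ e = -1) ∧ ∀ v : ↥leechLattice, ((g • v : ↥leechLattice) : Zv) = e • (v : Zv) := by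
  -- every short vector is an eigenvector
  have hpm : ∀ x : ↥leechLattice, sqNorm (x : Zv) = 32 →
      ∃ e : ℤ, (e = 1 ∨ e = -1) ∧ ((g • x : ↥leechLattice) : Zv) = e • (x : Zv) := by
    intro x hn
    obtain ⟨w, hw⟩ := h x
    rcases eq_or_ne ((g • x : ↥leechLattice) : Zv) (x : Zv) with e | e
    · exact ⟨1, Or.inl rfl, by rw [e, one_smul]⟩
    refine ⟨-1, Or.inr rfl, ?_⟩
    rw [neg_one_smul]
    by_contra e2
    set y := ((g • x : ↥leechLattice) : Zv)
    have hy : y ∈ leechLattice := (g • x : ↥leechLattice).2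
    have hyn : sqNorm y = 32 := (g.2.2 x).trans hn
    have hwne : (w : Zv) ≠ 0 := fun h0 => e (sub_eq_zero.1 (by rw [hw, h0, smul_zero]))
    have e2' : y + (x : Zv) = 2 • (y - (w : Zv)) := by rw [smul_sub, ← hw, two_nsmul]; abel
    have hne2 : y - (w : Zv) ≠ 0 := fun h0 => e2 (eq_neg_of_add_eq_zero_left (by rw [e2', h0, smul_zero]))
    have n1 := (leech_norm w.2).2 hwne
    have n2 := (leech_norm (sub_mem hy w.2)).2 hne2
    have q1 : sqNorm (y - (x : Zv)) = 4 * sqNorm (w : Zv) := by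
      rw [hw, sqNorm, sqNorm, Finset.mul_sum]
      exact Finset.sum_congr rfl fun i _ => by simp only [Pi.smul_apply, nsmul_eq_mul]; push_cast; ring
    have q2 : sqNorm (y + (x : Zv)) = 4 * sqNorm (y - (w : Zv)) := by
      rw [e2', sqNorm, sqNorm, Finset.mul_sum]
      exact Finset.sum_congr rfl fun i _ => by simp only [Pi.smul_apply, nsmul_eq_mul]; push_cast; ring
    have q3 : sqNorm (y + (x : Zv)) + sqNorm (y - (x : Zv)) = 2 * sqNorm y + 2 * sqNorm (x : Zv) := by
      simp only [sqNorm, Finset.mul_sum, ← Finset.sum_add_distrib, Pi.add_apply, Pi.sub_apply]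
      exact Finset.sum_congr rfl fun i _ => by ring
    rw [hyn, hn] at q3
    omega
  obtain ⟨e₀, he₀, hodd⟩ := hpm ⟨oddVec, oddVec_mem⟩ oddVec_norm
  -- the generators meet the odd vector
  have hgen : ∀ x : ↥leechLattice, sqNorm (x : Zv) = 32 → dotInt (x : Zv) oddVec ≠ 0 →
      ((g • x : ↥leechLattice) : Zv) = e₀ • (x : Zv) := by
    intro x hn hd
    obtain ⟨e, he, hx⟩ := hpm x hn
    have := co0_dot g x ⟨oddVec, oddVec_mem⟩
    rw [hx, hodd, dot_bilin_smul] at this
    change _ = dotInt (x : Zv) oddVec at this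
    rcases he with rfl | rfl <;> rcases he₀ with rfl | rfl <;>
      first | exact hx | (norm_num at this; exact absurd (by linarith) hd)
  refine ⟨e₀, he₀, fun v => ?_⟩
  have hle : leechLattice ≤ (AddMonoidHom.ker (co0Hom g - e₀ • leechLattice.subtype)).map leechLattice.subtype := by
    have mk : ∀ (x : Zv) (hx : x ∈ leechLattice), ((g • (⟨x, hx⟩ : ↥leechLattice) : ↥leechLattice) : Zv) = e₀ • x →
        x ∈ (AddMonoidHom.ker (co0Hom g - e₀ • leechLattice.subtype)).map leechLattice.subtype :=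
      fun x hx hh => ⟨⟨x, hx⟩, by
        rw [SetLike.mem_coe, AddMonoidHom.mem_ker, AddMonoidHom.sub_apply, sub_eq_zero]; exact hh, rfl⟩
    have hd : (∀ i : GolayPt, i ≠ none → dotInt (pairVec i none 1) oddVec ≠ 0 ∧
        dotInt (pairVec i none (-1)) oddVec ≠ 0) ∧
        ∀ o ∈ octBasis, dotInt (dbl (ofMaskW o)) oddVec ≠ 0 := by decide +kernel
    refine leech_le_of _ (AddSubgroup.map_subtype_le _) (fun i hi => ⟨?_, ?_⟩) (fun o ho => ?_) ?_
    · have hp := pairVec_spec hi (Or.inl rfl)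
      exact mk _ hp.1 (hgen ⟨_, hp.1⟩ hp.2 (hd.1 i hi).1)
    · have hp := pairVec_spec hi (Or.inr rfl)
      exact mk _ hp.1 (hgen ⟨_, hp.1⟩ hp.2 (hd.1 i hi).2)
    · exact mk _ (dbl_octBasis ho).1 (hgen ⟨_, (dbl_octBasis ho).1⟩ (dbl_octBasis ho).2 (hd.2 o ho))
    · exact mk _ oddVec_mem hodd
  obtain ⟨u, hu, e'⟩ := hle v.2
  rw [SetLike.mem_coe, AddMonoidHom.mem_ker, AddMonoidHom.sub_apply, sub_eq_zero] at hu
  rw [← Subtype.ext e']
  exact hu

theorem scalar_central (g : ↥Co0) (e : ℤ)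
    (h : ∀ v : ↥leechLattice, ((g • v : ↥leechLattice) : Zv) = e • (v : Zv)) :
    g ∈ Subgroup.center ↥Co0 := by
  refine Subgroup.mem_center_iff.2 fun k => co0_ext fun v => ?_
  rw [mul_smul, mul_smul, h]
  have hk : co0Hom k (e • v) = e • co0Hom k v := map_zsmul _ _ _
  show ((k • (g • v) : ↥leechLattice) : Zv) = _
  rw [show g • v = e • v from Subtype.ext (by rw [h, AddSubgroup.coe_zsmul])]
  exact hk

theorem kernel_central (g : ↥Co0)
    (h : ∀ v : ↥leechLattice, ∃ w : ↥leechLattice,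
      ((g • v : ↥leechLattice) : Zv) - (v : Zv) = 2 • (w : Zv)) : g ∈ Subgroup.center ↥Co0 := by
  obtain ⟨e, -, he⟩ := kernel_scalar g h
  exact scalar_central g e he

theorem separate_codeword : ∀ i j : GolayPt, i ≠ j →
    ∃ o ∈ octBasis, (ofMaskW o i = 0 ∧ ofMaskW o j ≠ 0) ∨ (ofMaskW o i ≠ 0 ∧ ofMaskW o j = 0) := by
  decide +kernel

theorem central_scalar {g : ↥Co0} (hg : g ∈ Subgroup.center ↥Co0) :
    ∃ e : ℤ, (e = 1 ∨ e = -1) ∧ ∀ v : ↥leechLattice, ((g • v : ↥leechLattice) : Zv) = e • (v : Zv) := by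
  have hmem8 : ∀ i : GolayPt, (fun k => if k = i then (8 : ℤ) else 0 : Zv) ∈ leechLattice := by
    have : ∀ i : GolayPt, leechCheck (fun k => if k = i then (8 : ℤ) else 0) = true := by decide +kernel
    exact fun i => leechCheck_mem (this i)
  let e8 : GolayPt → ↥leechLattice := fun i => ⟨_, hmem8 i⟩
  have hcomm : ∀ (h : ↥Co0) (v : ↥leechLattice), g • (h • v) = h • (g • v) := fun h v => by
    rw [← mul_smul, ← mul_smul, Subgroup.mem_center_iff.1 hg h]
  set y : GolayPt → Zv := fun i => ((g • e8 i : ↥leechLattice) : Zv) with hy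
  have hoff : ∀ i j, i ≠ j → y i j = 0 := by
    intro i j hij
    obtain ⟨o, ho, hsep⟩ := separate_codeword i j hij
    have hoc : ofMaskW o ∈ golayCode := mem_code.2 (by
      rw [wmask_ofMaskW (octMasks_lt (octBasis_facts.1 o ho))]
      exact (List.mem_filter.1 (octBasis_facts.1 o ho)).1)
    -- a word vanishing at `i` but not at `j`
    obtain ⟨w, hw, hwi, hwj⟩ : ∃ w ∈ golayCode, w i = 0 ∧ w j ≠ 0 := by
      rcases hsep with ⟨h1, h2⟩ | ⟨h1, h2⟩
      · exact ⟨_, hoc, h1, h2⟩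
      · refine ⟨ofMaskW o + 1, add_mem hoc one_word_mem, ?_, ?_⟩
        · rcases word_eq_one_or_zero (ofMaskW o i) with hh | hh
          · exact absurd hh h1
          · rw [Pi.add_apply, Pi.one_apply, hh]; rfl
        · rw [Pi.add_apply, Pi.one_apply, h2, zero_add]; decide
    obtain ⟨s, hs⟩ := exists_sgn hw
    have hfix : s • e8 i = e8 i := Subtype.ext ((hs _).trans (funext fun k => by
      show sgn w (fun k => if k = i then (8 : ℤ) else 0) k = _
      by_cases hk : k = i
      · subst hk; simp [sgn, hwi, e8]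
      · simp [sgn, hk, e8]))
    have := congrArg (fun v : ↥leechLattice => (v : Zv) j) (hcomm s (e8 i))
    simp only [hfix, hs, sgn, if_neg hwj] at this
    simp only [hy]
    linarith
  have hdiag : ∀ i, y i i = 8 ∨ y i i = -8 := by
    intro i
    have hn : sqNorm (y i) = 64 := (g.2.2 (e8 i)).trans (by simp [sqNorm, e8])
    rw [sqNorm, Finset.sum_eq_single i (fun j _ hj => by rw [hoff i j (Ne.symm hj)]; rfl)
      (fun h => absurd (Finset.mem_univ i) h)] at hn
    exact eq_or_eq_neg_of_sq_eq_sq _ _ (by rw [hn]; norm_num)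
  have hsame : ∀ i, y i i = y none none := by
    intro i
    obtain ⟨σ, hσ, hm⟩ := M24_trans (k := 1) (by norm_num) ⟨fun _ => (none : GolayPt), by decide⟩
      ⟨fun _ => i, fun a b _ => Subsingleton.elim a b⟩
    have hσ0 : σ none = i := hm 0
    obtain ⟨p, hp⟩ := exists_prm hσ
    have hmv : p • e8 none = e8 i := Subtype.ext ((hp _).trans (funext fun k => by
      show (if σ.symm k = none then (8 : ℤ) else 0) = if k = i then 8 else 0
      exact if_congr (by rw [Equiv.symm_apply_eq, hσ0]) rfl rfl))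
    have := congrArg (fun v : ↥leechLattice => (v : Zv) i) (hcomm p (e8 none))
    simp only [hmv, hp, prm] at this
    rw [show σ.symm i = none from by rw [Equiv.symm_apply_eq, hσ0]] at this
    exact this
  obtain ⟨e, he, heq⟩ : ∃ e : ℤ, (e = 1 ∨ e = -1) ∧ y none none = 8 * e := by
    rcases hdiag none with hh | hh
    · exact ⟨1, Or.inl rfl, by rw [hh]; rfl⟩
    · exact ⟨-1, Or.inr rfl, by rw [hh]; rfl⟩
  refine ⟨e, he, fun v => ?_⟩
  have h8 : (8 : ℤ) • v = ∑ i, (v : Zv) i • e8 i := Subtype.ext (by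
    rw [AddSubgroup.coe_zsmul, AddSubgroup.val_finset_sum]
    funext k
    simp [e8, mul_comm])
  have := congrArg (co0Hom g) h8
  rw [map_zsmul, map_sum] at this
  funext k
  have hk := congrFun this k
  simp only [Finset.sum_apply, map_zsmul, Pi.smul_apply, smul_eq_mul] at hk
  rw [Finset.sum_eq_single k (fun j _ hj => by
      show (v : Zv) j * y j k = 0
      rw [hoff j k hj, mul_zero]) (fun h => absurd (Finset.mem_univ k) h)] at hk
  change 8 * ((g • v : ↥leechLattice) : Zv) k = (v : Zv) k * y k k at hk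
  rw [hsame k, heq] at hk
  rw [Pi.smul_apply, smul_eq_mul]
  linarith

theorem card_center : Nat.card (Subgroup.center ↥Co0) = 2 := by
  obtain ⟨n, hn⟩ := negation_exists
  have hne : (1 : ↥Co0) ≠ n := by
    intro h
    have := hn ⟨_, oddVec_mem⟩
    rw [← h, one_smul] at this
    have := congrFun this none
    simp [oddVec] at this
  have hset : ((Subgroup.center ↥Co0 : Subgroup ↥Co0) : Set ↥Co0) = {1, n} := by
    ext g
    simp only [SetLike.mem_coe, Set.mem_insert_iff, Set.mem_singleton_iff]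
    constructor
    · intro hg
      obtain ⟨e, he, hv⟩ := central_scalar hg
      rcases he with rfl | rfl
      · exact Or.inl (co0_ext fun v => by rw [hv, one_smul, one_smul])
      · exact Or.inr (co0_ext fun v => by rw [hv, hn, neg_one_smul])
    · rintro (rfl | rfl)
      · exact one_mem _
      · exact scalar_central _ (-1) fun v => by rw [hn, neg_one_smul]
  rw [← SetLike.coe_sort_coe, hset, Nat.card_coe_set_eq, Set.ncard_pair hne]

/-! ### irreducibility modulo two -/

theorem saturated_examples :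
    (∃ a b : Zv, leechCheck a = true ∧ leechCheck b = true ∧ sqNorm a = 48 ∧ sqNorm b = 48 ∧ sqNorm (a - b) = 32) ∧
    (∃ a b : Zv, leechCheck a = true ∧ leechCheck b = true ∧ sqNorm a = 64 ∧ sqNorm b = 64 ∧ sqNorm (a - b) = 32) := by
  refine ⟨⟨midBase 3, fun i => midBase 3 i - (if i = none then 4 else if i = pt 0 then -4 else 0), ?_⟩,
    ⟨fun i => if crossBase 2 i = 6 then 8 else if crossBase 2 i = -6 then -8 else 0, crossBase 2, ?_⟩⟩
  · decide +kernel
  · decide +kernel

theorem norm_cases {y : Zv} (hy : y ∈ leechLattice) (hne : y ≠ 0) (h : sqNorm y ≤ 64) :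
    sqNorm y = 32 ∨ sqNorm y = 48 ∨ sqNorm y = 64 := by
  obtain ⟨k, hk⟩ := (leech_norm hy).1
  have := (leech_norm hy).2 hne
  omega

theorem irreducible_mod_two (M : AddSubgroup Zv) (h2 : ∀ v ∈ leechLattice, (2 : ℤ) • v ∈ M)
    (hle : M ≤ leechLattice)
    (hinv : ∀ g : ↥Co0, ∀ v : ↥leechLattice, (v : Zv) ∈ M → ((g • v : ↥leechLattice) : Zv) ∈ M) :
    (∀ x ∈ M, ∃ w ∈ leechLattice, x = (2 : ℤ) • w) ∨ M = leechLattice := by
  by_cases htriv : ∀ x ∈ M, ∃ w ∈ leechLattice, x = (2 : ℤ) • w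
  · exact Or.inl htriv
  push_neg at htriv
  obtain ⟨x, hxM, hx2⟩ := htriv
  have hcong : ∀ {a b : Zv}, a ∈ M → Cong2 a b → b ∈ M := by
    rintro a b ha ⟨z, hz, e⟩
    have : b = a - (2 : ℤ) • z := by rw [two_zsmul, ← two_nsmul, ← e]; abel
    rw [this]
    exact sub_mem ha (h2 z hz)
  obtain ⟨r, hrL, hr64, hc⟩ := short_rep (hle hxM)
  have hr : r ∈ M := hcong hxM hc
  have hr0 : r ≠ 0 := by
    rintro rfl
    obtain ⟨z, hz, e⟩ := hc
    exact hx2 z hz (by rw [two_zsmul, ← two_nsmul, ← e, sub_zero])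
  have horb : ∀ {a b : Zv}, a ∈ M → Orb a b → b ∈ M := by
    rintro a b ha ⟨hx', g, rfl⟩
    exact hinv g ⟨a, hx'⟩ ha
  have h32 : ∀ {a : Zv}, a ∈ M → sqNorm a = 32 → M = leechLattice := by
    intro a ha hn
    refine le_antisymm hle ?_
    rw [← minimal_generate, AddSubgroup.closure_le]
    rintro y ⟨hy, hyn⟩
    exact horb ha ((orb_short (hle ha) hn).symm.trans (orb_short hy hyn))
  obtain ⟨⟨a, b, ha, hb, han, hbn, habn⟩, ⟨a', b', ha', hb', han', hbn', habn'⟩⟩ := saturated_examples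
  right
  rcases norm_cases hrL hr0 hr64 with h | h | h
  · exact h32 hr h
  · have hall : ∀ y ∈ leechLattice, sqNorm y = 48 → y ∈ M := fun y hy hyn =>
      horb hr ((orb_mid hrL h).symm.trans (orb_mid hy hyn))
    exact h32 (sub_mem (hall a (leechCheck_mem ha) han) (hall b (leechCheck_mem hb) hbn)) habn
  · have hall : ∀ y ∈ leechLattice, sqNorm y = 64 → y ∈ M := fun y hy hyn => by
      obtain ⟨z, hz, hzc⟩ := (orb_class hrL h).symm.trans (orb_class hy hyn)
      exact hcong (horb hr hz) hzc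
    exact h32 (sub_mem (hall a' (leechCheck_mem ha') han') (hall b' (leechCheck_mem hb') hbn')) habn'

end Cfsg.Agent.Spor
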