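/-
The numbers of lattice vectors of each shape with squared norm 32 and 48.
-/
import Cfsg.Agent.Lib.Spor.LeechOrbit
import Cfsg.Agent.Lib.Spor.GolayCount

set_option autoImplicit false
set_option maxRecDepth 100000

namespace Cfsg.Agent.Spor

open Cfsg
open scoped Pointwise symmDiff

local notation "Zv" => GolayPt → ℤ

/-- absolute values of the coordinates -/
def absV (y : Zv) : Zv := fun i => |y i|

/-- two values on and off a set -/
def setVec (a v : ℤ) (s : Finset GolayPt) : Zv := fun p => if p ∈ s then v else a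

theorem absV_sgn (w : GolayPt → ZMod 2) (y : Zv) : absV (sgn w y) = absV y := by
  funext i; by_cases h : w i = 0 <;> simp [absV, sgn, h]

theorem absV_prm (σ : Equiv.Perm GolayPt) (y : Zv) : absV (prm σ y) = prm σ (absV y) := rfl

theorem prm_comp (σ τ : Equiv.Perm GolayPt) (y : Zv) : prm (σ * τ) y = prm σ (prm τ y) := rfl

theorem prm_sgn (σ : Equiv.Perm GolayPt) (w : GolayPt → ZMod 2) (y : Zv) :
    prm σ (sgn w y) = sgn (actW σ w) (prm σ y) := rfl

theorem prm_setVec (σ : Equiv.Perm GolayPt) (a v : ℤ) (s : Finset GolayPt) :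
    prm σ (setVec a v s) = setVec a v (σ • s) := by
  funext p
  obtain ⟨q, rfl⟩ := σ.surjective p
  simp only [prm, setVec, Equiv.symm_apply_apply, mem_smul_iff']

theorem setVec_injective {a v : ℤ} (h : v ≠ a) : Function.Injective (setVec a v) := by
  intro s t e
  ext p
  have := congrFun e p
  simp only [setVec] at this
  by_cases hs : p ∈ s <;> by_cases ht : p ∈ t <;> simp_all [eq_comm]

theorem img_abs {b y : Zv} (h : IsImg b y) : ∃ σ ∈ M24, absV y = prm σ (absV b) := by
  obtain ⟨σ, hσ, w, -, rfl⟩ := h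
  exact ⟨σ, hσ, by rw [absV_prm, absV_sgn]⟩

theorem img_prm {b y : Zv} {τ : Equiv.Perm GolayPt} (hτ : τ ∈ M24) (h : IsImg b y) :
    IsImg b (prm τ y) := by
  obtain ⟨σ, hσ, w, hw, rfl⟩ := h
  exact ⟨τ * σ, mul_mem hτ hσ, w, hw, rfl⟩

theorem img_self (b : Zv) : IsImg b b :=
  ⟨1, one_mem _, 0, zero_mem _, funext fun p => by simp [prm, sgn, Equiv.Perm.one_def]⟩

theorem img_mem {b y : Zv} (hb : b ∈ leechLattice) (h : IsImg b y) : y ∈ leechLattice := by
  obtain ⟨σ, hσ, w, hw, rfl⟩ := h
  exact prm_mem hσ (sgn_mem hw hb)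

theorem img_norm {b y : Zv} (h : IsImg b y) : sqNorm y = sqNorm b := by
  obtain ⟨σ, hσ, w, hw, rfl⟩ := h
  rw [sqNorm_prm, sqNorm_sgn]

theorem imgSet_finite (b : Zv) : {y | IsImg b y}.Finite := by
  refine (Set.finite_range (fun p : Equiv.Perm GolayPt × (GolayPt → ZMod 2) =>
    prm p.1 (sgn p.2 b))).subset ?_
  rintro y ⟨σ, -, w, -, rfl⟩
  exact ⟨(σ, w), rfl⟩

/-- images counted by their absolute values -/
theorem img_count (b : Zv) {α : Type} (F : Finset α) (f : α → Zv) (hinj : Set.InjOn f F)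
    (hmove : ∀ σ ∈ M24, ∃ c ∈ F, f c = prm σ (absV b))
    (htrans : ∀ c ∈ F, ∃ σ ∈ M24, prm σ (absV b) = f c) {N : ℕ}
    (hN : {y | IsImg b y ∧ absV y = absV b}.ncard = N) :
    {y | IsImg b y}.ncard = F.card * N := by
  classical
  rw [Set.ncard_eq_toFinset_card _ (imgSet_finite b), ← Finset.card_image_of_injOn hinj,
    Finset.card_eq_sum_card_fiberwise (f := absV) (t := F.image f) (fun y hy => by
      obtain ⟨σ, hσ, e⟩ := img_abs ((imgSet_finite b).mem_toFinset.1 hy)
      obtain ⟨c, hc, ec⟩ := hmove σ hσ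
      exact Finset.mem_image.2 ⟨c, hc, ec.trans e.symm⟩),
    Finset.sum_const_nat]
  intro v hv
  obtain ⟨c, hc, rfl⟩ := Finset.mem_image.1 hv
  obtain ⟨σ, hσ, e⟩ := htrans c hc
  rw [← Set.ncard_coe_finset, ← hN]
  refine Eq.trans ?_ (Set.ncard_image_of_injective _
    (Function.LeftInverse.injective (prm_inv_left σ) : Function.Injective (prm σ)))
  congr 1
  ext y
  simp only [Finset.coe_filter, Set.Finite.mem_toFinset, Set.mem_setOf_eq, Set.mem_image]
  constructor
  · rintro ⟨hy, ha⟩
    refine ⟨prm σ⁻¹ y, ⟨img_prm (inv_mem hσ) hy, ?_⟩, prm_inv_right σ y⟩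
    rw [absV_prm, ha, ← e, prm_inv_left]
  · rintro ⟨x, ⟨hx, ha⟩, rfl⟩
    exact ⟨img_prm hσ hx, by rw [absV_prm, ha, e]⟩

/-! ### sign patterns -/

/-- flip the signs on a set -/
def flipOn (b : Zv) (s : Finset GolayPt) : Zv := fun p => if p ∈ s then -b p else b p

theorem even_subsets_card {S L : Finset GolayPt} {l : GolayPt} (hlS : l ∈ S) (hlL : l ∈ L) :
    (S.powerset.filter fun s => (s ∩ L).card % 2 = 0).card = 2 ^ (S.card - 1) := by
  have key : ∀ t, l ∉ t → (insert l t ∩ L).card = (t ∩ L).card + 1 := fun t ht => by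
    rw [Finset.insert_inter_of_mem hlL, Finset.card_insert_of_notMem]
    simp [ht]
  rw [← Finset.card_erase_of_mem hlS, ← Finset.card_powerset]
  refine Finset.card_nbij' (fun s => s.erase l)
    (fun t => if (t ∩ L).card % 2 = 0 then t else insert l t) ?_ ?_ ?_ ?_
  · intro s hs
    simp only [Finset.mem_coe, Finset.mem_filter, Finset.mem_powerset] at hs ⊢
    exact Finset.erase_subset_erase l hs.1
  · intro t ht
    simp only [Finset.mem_coe, Finset.mem_powerset] at ht
    have hl : l ∉ t := fun h => (Finset.mem_erase.1 (ht h)).1 rfl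
    simp only [Finset.mem_coe, Finset.mem_filter, Finset.mem_powerset]
    split_ifs with h
    · exact ⟨ht.trans (Finset.erase_subset _ _), h⟩
    · exact ⟨Finset.insert_subset hlS (ht.trans (Finset.erase_subset _ _)), by rw [key t hl]; omega⟩
  · intro s hs
    simp only [Finset.mem_coe, Finset.mem_filter, Finset.mem_powerset] at hs
    by_cases hl : l ∈ s
    · have := key (s.erase l) (Finset.notMem_erase l s)
      rw [Finset.insert_erase hl] at this
      simp only
      rw [if_neg (by omega), Finset.insert_erase hl]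
    · simp only [Finset.erase_eq_of_notMem hl, if_pos hs.2]
  · intro t ht
    simp only [Finset.mem_coe, Finset.mem_powerset] at ht
    have hl : l ∉ t := fun h => (Finset.mem_erase.1 (ht h)).1 rfl
    simp only
    split_ifs with h
    · exact Finset.erase_eq_of_notMem hl
    · exact Finset.erase_insert hl

theorem even_fibre_count {b : Zv} (hbL : b ∈ leechLattice) {S L : ℕ} (hS : S < 2 ^ 24)
    (hscan : cutScan S L = true)
    (h : ∀ p, (Nat.testBit S (idx p) = decide (b p ≠ 0)) ∧
      (Nat.testBit L (idx p) = decide (b p % 4 = 2)) ∧ b p % 2 = 0) :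
    {y | IsImg b y ∧ absV y = absV b}.ncard =
      ((ofMask S).powerset.filter fun s => (s ∩ ofMask L).card % 2 = 0).card := by
  have hSm : ∀ p, p ∈ ofMask S ↔ b p ≠ 0 := fun p => by rw [mem_ofMask, (h p).1, decide_eq_true_eq]
  have hLm : ∀ p, p ∈ ofMask L ↔ b p % 4 = 2 := fun p => by rw [mem_ofMask, (h p).2.1, decide_eq_true_eq]
  rw [← Set.ncard_coe_finset]
  symm
  refine Set.ncard_congr (fun s _ => flipOn b s) ?_ ?_ ?_
  · intro s hs
    simp only [Finset.mem_coe, Finset.mem_filter, Finset.mem_powerset] at hs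
    obtain ⟨k, ⟨w, hw, rfl⟩, hks⟩ := cut_all hS hscan hs.1 hs.2
    have e : flipOn b s = sgn w b := by
      funext p
      simp only [flipOn, sgn, ← hks, Finset.mem_inter, hSm, mem_support₂]
      by_cases hb : b p = 0
      · simp [hb]
      · by_cases hwp : w p = 0 <;> simp [hwp, hb]
    exact ⟨⟨1, one_mem _, w, hw, e⟩, by rw [e, absV_sgn]⟩
  · intro s t hs ht e
    simp only [Finset.mem_coe, Finset.mem_filter, Finset.mem_powerset] at hs ht
    ext p
    have e' := congrFun e p
    simp only [flipOn] at e'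
    by_cases hb : b p = 0
    · exact ⟨fun hh => absurd hb ((hSm p).1 (hs.1 hh)), fun hh => absurd hb ((hSm p).1 (ht.1 hh))⟩
    · by_cases hp : p ∈ s <;> by_cases hq : p ∈ t <;> simp [hp, hq] at e' ⊢ <;> omega
  · rintro y ⟨hy, ha⟩
    have habs : ∀ p, y p = b p ∨ y p = -b p := fun p => abs_eq_abs.1 (congrFun ha p)
    set s : Finset GolayPt := Finset.univ.filter fun p => y p ≠ b p with hs
    have e : flipOn b s = y := funext fun p => by
      by_cases hp : y p = b p
      · simp [flipOn, hs, hp]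
      · rw [flipOn, if_pos (by simp [hs, hp]), (habs p).resolve_left hp]
    refine ⟨s, ?_, e⟩
    simp only [Finset.mem_coe, Finset.mem_filter, Finset.mem_powerset]
    refine ⟨fun p hp => (hSm p).2 fun h0 => ?_, ?_⟩
    · rw [hs, Finset.mem_filter] at hp
      exact hp.2 (by rcases habs p with hh | hh <;> simp [hh, h0])
    have hd : ∀ p, (b - y) p = if p ∈ s then 2 * b p else 0 := fun p => by
      rw [Pi.sub_apply, ← e]; simp only [flipOn]; split_ifs <;> ring
    have h4 : ∀ p, (b - y) p % 4 = 0 := fun p => by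
      have := (h p).2.2
      rw [hd]; split_ifs <;> omega
    have hp := four_parity (sub_mem hbL (img_mem hbL hy)) h4
    have hsum : ∑ p, (b - y) p / 4 = ∑ p ∈ s, b p / 2 := by
      rw [← Finset.univ_inter s, ← Finset.sum_ite_mem]
      refine Finset.sum_congr rfl fun p _ => ?_
      have := (h p).2.2
      rw [hd]; split_ifs <;> omega
    have hpar : ∀ p ∈ s, b p / 2 % 2 = if p ∈ ofMask L then 1 else 0 := fun p _ => by
      have := (h p).2.2
      split_ifs with hl
      · have := (hLm p).1 hl; omega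
      · have : ¬ b p % 4 = 2 := fun h' => hl ((hLm p).2 h'); omega
    rw [hsum, Finset.sum_int_mod, Finset.sum_congr rfl hpar, Finset.sum_boole,
      Finset.filter_mem_eq_inter] at hp
    omega

theorem odd_fibre_count {b : Zv} (hb0 : ∀ p, b p ≠ 0) (g : ℤ → ℤ) (hg : ∀ p, b p = g |b p|) :
    {y | IsImg b y ∧ absV y = absV b}.ncard = 4096 := by
  rw [← card_golayCode, ← Nat.card_coe_set_eq]
  symm
  refine Nat.card_congr (Equiv.ofBijective (fun w : ↥golayCode =>
    (⟨sgn w b, ⟨1, one_mem _, w, w.2, funext fun p => by simp [prm, Equiv.Perm.one_def]⟩, absV_sgn _ b⟩ : {y | IsImg b y ∧ absV y = absV b})) ⟨?_, ?_⟩)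
  · intro u v e
    refine Subtype.ext (funext fun p => ?_)
    have e' : sgn (u : GolayPt → ZMod 2) b p = sgn (v : GolayPt → ZMod 2) b p :=
      congrFun (congrArg Subtype.val e) p
    have := hb0 p
    rcases word_eq_one_or_zero ((u : GolayPt → ZMod 2) p) with a | a <;>
      rcases word_eq_one_or_zero ((v : GolayPt → ZMod 2) p) with c | c <;>
        simp [sgn, a, c] at e' ⊢ <;> omega
  · rintro ⟨y, ⟨σ, hσ, w, hw, rfl⟩, ha⟩
    rw [absV_prm, absV_sgn] at ha
    have hfix : prm σ b = b := funext fun p => by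
      have hp : |prm σ b p| = |b p| := congrFun ha p
      rw [hg p, ← hp]
      exact hg (σ.symm p)
    exact ⟨⟨actW σ w, actW_mem hσ hw⟩, Subtype.ext ((congrArg (sgn (actW σ w)) hfix).symm.trans (prm_sgn σ w b).symm)⟩

/-- images of a vector whose absolute values are given by a set -/
theorem img_count_sets (b : Zv) {a v : ℤ} (hva : v ≠ a) {s0 : Finset GolayPt}
    (hb : absV b = setVec a v s0) (F : Finset (Finset GolayPt))
    (hmove : ∀ σ ∈ M24, σ • s0 ∈ F) (htrans : ∀ s ∈ F, ∃ σ ∈ M24, σ • s0 = s) {N : ℕ}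
    (hN : {y | IsImg b y ∧ absV y = absV b}.ncard = N) :
    {y | IsImg b y}.ncard = F.card * N :=
  img_count b F (setVec a v) (setVec_injective hva).injOn
    (fun σ hσ => ⟨_, hmove σ hσ, by rw [hb, prm_setVec]⟩)
    (fun s hs => by
      obtain ⟨σ, hσ, rfl⟩ := htrans s hs
      exact ⟨σ, hσ, by rw [hb, prm_setVec]⟩) hN

/-- sets of a given small size -/
theorem count_small (b : Zv) {a v : ℤ} (hva : v ≠ a) {s0 : Finset GolayPt} {k : ℕ} (hk : k ≤ 5)
    (hs0 : s0.card = k) (hb : absV b = setVec a v s0) {N : ℕ}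
    (hN : {y | IsImg b y ∧ absV y = absV b}.ncard = N) :
    {y | IsImg b y}.ncard = Nat.choose 24 k * N := by
  have hc : (Finset.powersetCard k (Finset.univ : Finset GolayPt)).card = Nat.choose 24 k := by
    rw [Finset.card_powersetCard, Finset.card_univ]; rfl
  rw [img_count_sets b hva hb (Finset.powersetCard k Finset.univ) ?_ ?_ hN, hc]
  · intro σ _
    rw [Finset.mem_powersetCard, Finset.card_smul_finset]
    exact ⟨Finset.subset_univ _, hs0⟩
  · intro s hs
    obtain ⟨σ, hσ, e⟩ := move_set (Finset.mem_powersetCard.1 hs).2 hk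
    obtain ⟨τ, hτ, e'⟩ := move_set hs0 hk
    exact ⟨σ * τ⁻¹, mul_mem hσ (inv_mem hτ), by rw [mul_smul, ← e', inv_smul_smul, e]⟩

theorem base_abs :
    absV (shortBase 0) = setVec 0 4 (ofMask 8388609) ∧ absV (shortBase 1) = setVec 0 2 (ofMask 5279) ∧
    absV (shortBase 2) = setVec 1 3 {none} ∧ absV (midBase 0) = setVec 0 2 (ofMask baseDod) ∧
    absV (midBase 2) = setVec 1 3 (ofMask 7) ∧ absV (midBase 3) = setVec 1 5 {none} ∧
    (ofMask 8388609).card = 2 ∧ (ofMask 5279).card = 8 ∧ (ofMask baseDod).card = 12 ∧ (ofMask 7).card = 3 ∧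
    (ofMask (5279 + 32)).card = 9 ∧
    ∀ p, absV (midBase 1) p = if p = pt 5 then 4 else if p ∈ ofMask 5279 then 2 else 0 := by
  refine ⟨?_, ?_, ?_, ?_, ?_, ?_, ?_, ?_, ?_, ?_, ?_, ?_⟩
  all_goals first | (funext p; revert p; decide +kernel) | decide +kernel

theorem odd_bases :
    (∀ p, shortBase 2 p ≠ 0 ∧ shortBase 2 p = if |shortBase 2 p| = 3 then -3 else |shortBase 2 p|) ∧
    (∀ p, midBase 2 p ≠ 0 ∧ midBase 2 p = if |midBase 2 p| = 3 then -3 else |midBase 2 p|) ∧
    (∀ p, midBase 3 p ≠ 0 ∧ midBase 3 p = if |midBase 3 p| = 3 then -3 else |midBase 3 p|) := by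
  refine ⟨?_, ?_, ?_⟩ <;> decide +kernel

theorem count_pairs : {y | IsImg (shortBase 0) y}.ncard = 1104 := by
  obtain ⟨a0, -, -, -, -, -, c0, -⟩ := base_abs
  rw [count_small (shortBase 0) (by norm_num) (by norm_num : 2 ≤ 5) c0 a0
    (even_fibre_count (shortBase_mem (by norm_num)) (by norm_num) cut_masks.1 base_supports.1)]
  have : (ofMask 0 : Finset GolayPt) = ∅ := by decide +kernel
  rw [this]
  simp only [Finset.inter_empty, Finset.card_empty, Nat.zero_mod, Finset.filter_true, Finset.card_powerset, c0]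
  decide

theorem octad_list : ∃ F : Finset (Finset GolayPt), (∀ s, s ∈ F ↔ s ∈ octads) ∧ F.card = 759 := by
  classical
  refine ⟨Finset.univ.filter (· ∈ octads), fun s => by simp, ?_⟩
  rw [← ncard_octads, ← Set.ncard_coe_finset]; simp

theorem count_octad : {y | IsImg (shortBase 1) y}.ncard = 97152 := by
  obtain ⟨-, a1, -, -, -, -, -, c1, -⟩ := base_abs
  obtain ⟨F, hF, hFc⟩ := octad_list
  rw [img_count_sets (shortBase 1) (by norm_num) a1 F (fun σ hσ => (hF _).2 (smul_octad hσ baseOctad_mem))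
    (fun s hs => octad_map s ((hF s).1 hs))
    (even_fibre_count (shortBase_mem (by norm_num)) (by norm_num) cut_masks.2.1 base_supports.2.1),
    hFc, even_subsets_card (l := pt 0) (by decide +kernel) (by decide +kernel), c1]
  norm_num

theorem count_odd : {y | IsImg (shortBase 2) y}.ncard = 98304 := by
  obtain ⟨-, -, a2, -⟩ := base_abs
  rw [count_small (shortBase 2) (by norm_num) (by norm_num : 1 ≤ 5) (Finset.card_singleton none) a2
    (odd_fibre_count (fun p => (odd_bases.1 p).1) (fun t => if t = 3 then -3 else t) fun p => (odd_bases.1 p).2)]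
  decide

theorem count_dodecad : {y | IsImg (midBase 0) y}.ncard = 5275648 := by
  classical
  obtain ⟨-, -, -, a3, -, -, -, -, c3, -⟩ := base_abs
  rw [img_count_sets (midBase 0) (by norm_num) a3 (Finset.univ.filter (· ∈ dodecads))
    (fun σ hσ => by simpa using smul_dodecad hσ baseDod_mem)
    (fun s hs => dodecad_map (by simpa using hs))
    (even_fibre_count (midBase_mem (by norm_num)) baseDod_lt cut_masks.2.2.1 base_supports.2.2.1),
    even_subsets_card (l := pt (Nat.log2 baseDod)) (by decide +kernel) (by decide +kernel), c3,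
    ← Set.ncard_coe_finset, show ((Finset.univ.filter (· ∈ dodecads) : Finset (Finset GolayPt)) : Set _) = dodecads by
      simp, ncard_dodecads]
  norm_num

theorem count_triples : {y | IsImg (midBase 2) y}.ncard = 8290304 := by
  obtain ⟨-, -, -, -, a4, -, -, -, -, c4, -⟩ := base_abs
  rw [count_small (midBase 2) (by norm_num) (by norm_num : 3 ≤ 5) c4 a4
    (odd_fibre_count (fun p => (odd_bases.2.1 p).1) (fun t => if t = 3 then -3 else t) fun p => (odd_bases.2.1 p).2)]
  decide

theorem count_five : {y | IsImg (midBase 3) y}.ncard = 98304 := by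
  obtain ⟨-, -, -, -, -, a5, -⟩ := base_abs
  rw [count_small (midBase 3) (by norm_num) (by norm_num : 1 ≤ 5) (Finset.card_singleton none) a5
    (odd_fibre_count (fun p => (odd_bases.2.2 p).1) (fun t => if t = 3 then -3 else t) fun p => (odd_bases.2.2 p).2)]
  decide

theorem count_octad_four : {y | IsImg (midBase 1) y}.ncard = 3108864 := by
  classical
  obtain ⟨-, -, -, -, -, -, -, c1, -, -, c9, a⟩ := base_abs
  obtain ⟨F, hF, hFc⟩ := octad_list
  have hq0 : pt 5 ∉ ofMask 5279 := by decide +kernel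
  have e : ∀ σ : Equiv.Perm GolayPt, prm σ (absV (midBase 1)) =
      fun p => if p = σ (pt 5) then 4 else if p ∈ σ • ofMask 5279 then 2 else 0 := fun σ => by
    funext p
    obtain ⟨q, rfl⟩ := σ.surjective p
    simp only [prm, Equiv.symm_apply_apply, a, σ.injective.eq_iff, mem_smul_iff']
  have key := img_count (midBase 1) (F.sigma fun o => Finset.univ \ o)
    (fun c p => if p = c.2 then 4 else if p ∈ c.1 then 2 else 0) ?_ ?_ ?_
    (even_fibre_count (midBase_mem (by norm_num)) (by norm_num) cut_masks.2.2.2 base_supports.2.2.2)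
  · rw [key, Finset.card_sigma, Finset.sum_const_nat (m := 16) fun o ho => by
      rw [Finset.card_sdiff_of_subset (Finset.subset_univ _), Finset.card_univ, ((hF o).1 ho).2]; rfl,
      hFc, even_subsets_card (l := pt 0) (by decide +kernel) (by decide +kernel), c9]
    norm_num
  · rintro ⟨o, q⟩ hc ⟨o', q'⟩ hc' h
    simp only [Finset.mem_coe, Finset.mem_sigma, Finset.mem_sdiff, Finset.mem_univ, true_and] at hc hc'
    simp only at h
    have hq : q = q' := by
      by_contra hne
      have := congrFun h q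
      simp only [if_pos, if_neg hne] at this
      split_ifs at this <;> omega
    subst hq
    have ho : o = o' := by
      ext p
      have := congrFun h p
      by_cases hpq : p = q
      · subst hpq; simp [hc.2, hc'.2]
      · simp only [if_neg hpq] at this
        by_cases h1 : p ∈ o <;> by_cases h2 : p ∈ o' <;> simp [h1, h2] at this ⊢
    rw [ho]
  · intro σ hσ
    exact ⟨⟨σ • ofMask 5279, σ (pt 5)⟩, Finset.mem_sigma.2 ⟨(hF _).2 (smul_octad hσ baseOctad_mem),
      Finset.mem_sdiff.2 ⟨Finset.mem_univ _, by simpa [mem_smul_iff'] using hq0⟩⟩, (e σ).symm⟩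
  · rintro ⟨o, q⟩ hc
    simp only [Finset.mem_sigma, Finset.mem_sdiff, Finset.mem_univ, true_and] at hc
    obtain ⟨σ, hσ, eo⟩ := octad_map o ((hF o).1 hc.1)
    obtain ⟨τ, hτ, eτ, ei⟩ := stab_move (root := 5279) (r := 1 <<< 5) (t := {q}) (by norm_num) (by decide)
      octStabGens_ok oct_out_cover.1 hσ (by
        rw [Finset.smul_finset_singleton, mask_single]
        refine oct_out_cover.2 _ (idx_lt _) (Bool.eq_false_iff.2 fun hh => ?_)
        exact hc.2 (by rw [← eo]; exact Finset.inv_smul_mem_iff.1 (mem_ofMask.2 hh)))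
    refine ⟨τ, hτ, ?_⟩
    have h0 : τ (pt 5) = q := by
      have := Finset.smul_mem_smul_finset (a := τ) (show pt 5 ∈ ofMask (1 <<< 5) by decide +kernel)
      rw [ei, Finset.mem_singleton] at this
      exact this
    rw [e τ, eτ, eo, h0]

/-! ### the two shells -/

theorem short_set :
    {x : Zv | x ∈ leechLattice ∧ sqNorm x = 32} =
      ({y | IsImg (shortBase 0) y} ∪ {y | IsImg (shortBase 1) y}) ∪ {y | IsImg (shortBase 2) y} := by
  ext y
  simp only [Set.mem_union, Set.mem_setOf_eq]
  constructor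
  · rintro ⟨hy, hn⟩
    obtain ⟨j, hj, h⟩ := short_form hy hn
    interval_cases j <;> tauto
  · rintro ((h | h) | h) <;>
      exact ⟨img_mem (shortBase_mem (by norm_num)) h, (img_norm h).trans (base_facts.1 _ (by norm_num)).2⟩

theorem card_short : {x : Zv | x ∈ leechLattice ∧ sqNorm x = 32}.ncard = 196560 := by
  obtain ⟨p0, p1, p2, -⟩ := short_profiles
  have d : ∀ {i j : Zv}, prof i ≠ prof j → Disjoint {y | IsImg i y} {y | IsImg j y} := fun h =>
    Set.disjoint_left.2 fun y h1 h2 => h ((prof_img h1).symm.trans (prof_img h2))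
  rw [short_set, Set.ncard_union_eq ?_ ((imgSet_finite _).union (imgSet_finite _)) (imgSet_finite _),
    Set.ncard_union_eq ?_ (imgSet_finite _) (imgSet_finite _), count_pairs, count_octad, count_odd]
  · exact d (by rw [p0, p1]; norm_num)
  · exact Disjoint.union_left (d (by rw [p0, p2]; norm_num)) (d (by rw [p1, p2]; norm_num))

theorem card_mid : {x : Zv | x ∈ leechLattice ∧ sqNorm x = 48}.ncard = 16773120 := by
  obtain ⟨p0, p1, p2, p3, -⟩ := mid_profiles
  have d : ∀ {i j : Zv}, prof i ≠ prof j → Disjoint {y | IsImg i y} {y | IsImg j y} := fun h =>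
    Set.disjoint_left.2 fun y h1 h2 => h ((prof_img h1).symm.trans (prof_img h2))
  have e : {x : Zv | x ∈ leechLattice ∧ sqNorm x = 48} =
      ({y | IsImg (midBase 0) y} ∪ {y | IsImg (midBase 1) y}) ∪
        ({y | IsImg (midBase 2) y} ∪ {y | IsImg (midBase 3) y}) := by
    ext y
    simp only [Set.mem_union, Set.mem_setOf_eq]
    constructor
    · rintro ⟨hy, hn⟩
      obtain ⟨j, hj, h⟩ := mid_form hy hn
      interval_cases j <;> tauto
    · rintro ((h | h) | (h | h)) <;>
        exact ⟨img_mem (midBase_mem (by norm_num)) h, (img_norm h).trans (base_facts.2.1 _ (by norm_num)).2⟩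
  rw [e, Set.ncard_union_eq ?_ ((imgSet_finite _).union (imgSet_finite _))
      ((imgSet_finite _).union (imgSet_finite _)),
    Set.ncard_union_eq ?_ (imgSet_finite _) (imgSet_finite _),
    Set.ncard_union_eq ?_ (imgSet_finite _) (imgSet_finite _),
    count_dodecad, count_octad_four, count_triples, count_five]
  · exact d (by rw [p2, p3]; norm_num)
  · exact d (by rw [p0, p1]; norm_num)
  · exact Disjoint.union_left (Disjoint.union_right (d (by rw [p0, p2]; norm_num)) (d (by rw [p0, p3]; norm_num)))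
      (Disjoint.union_right (d (by rw [p1, p2]; norm_num)) (d (by rw [p1, p3]; norm_num)))

/-- a family of norm 48 cut out by a condition on absolute values -/
theorem mid_family {j : ℕ} (hj : j < 4) (P : Zv → Prop)
    (hinv : ∀ (σ : Equiv.Perm GolayPt) (y z : Zv), absV y = prm σ (absV z) → (P y ↔ P z))
    (hP : P (midBase j)) (hNP : ∀ i, i < 4 → i ≠ j → ¬ P (midBase i)) :
    {x : Zv | x ∈ leechLattice ∧ sqNorm x = 48 ∧ P x} = {y | IsImg (midBase j) y} := by
  ext y
  simp only [Set.mem_setOf_eq]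
  constructor
  · rintro ⟨hy, hn, hPy⟩
    obtain ⟨i, hi, h⟩ := mid_form hy hn
    obtain ⟨σ, -, e⟩ := img_abs h
    by_cases hij : i = j
    · exact hij ▸ h
    · exact absurd ((hinv σ _ _ e).1 hPy) (hNP i hi hij)
  · intro h
    obtain ⟨σ, -, e⟩ := img_abs h
    exact ⟨img_mem (midBase_mem hj) h, (img_norm h).trans (base_facts.2.1 j hj).2, (hinv σ _ _ e).2 hP⟩

theorem mid_census :
    {x : Zv | x ∈ leechLattice ∧ sqNorm x = 48 ∧ ∀ i, x i = 0 ∨ x i = 2 ∨ x i = -2}.ncard = 5275648 ∧
    {x : Zv | x ∈ leechLattice ∧ sqNorm x = 48 ∧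
      ∃ i j k, i ≠ j ∧ j ≠ k ∧ i ≠ k ∧ |x i| = 3 ∧ |x j| = 3 ∧ |x k| = 3}.ncard = 8290304 ∧
    {x : Zv | x ∈ leechLattice ∧ sqNorm x = 48 ∧ ∃ i, |x i| = 4}.ncard = 3108864 ∧
    {x : Zv | x ∈ leechLattice ∧ sqNorm x = 48 ∧ ∃ i, |x i| = 5}.ncard = 98304 := by
  have hex : ∀ (t : ℤ) (σ : Equiv.Perm GolayPt) (y z : Zv), absV y = prm σ (absV z) →
      ((∃ i, |y i| = t) ↔ ∃ i, |z i| = t) := fun t σ y z e =>
    ⟨fun ⟨i, hi⟩ => ⟨σ.symm i, (congrFun e i).symm.trans hi⟩,
      fun ⟨i, hi⟩ => ⟨σ i, (congrFun e (σ i)).trans (by simpa [prm, absV] using hi)⟩⟩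
  refine ⟨?_, ?_, ?_, ?_⟩
  · rw [mid_family (j := 0) (by norm_num) _ ?_ (by decide +kernel) (by decide +kernel), count_dodecad]
    intro σ y z e
    have h : ∀ (x : Zv) (i : GolayPt), (x i = 0 ∨ x i = 2 ∨ x i = -2) ↔ (absV x i = 0 ∨ absV x i = 2) :=
      fun x i => by simp only [absV, abs_eq_zero, abs_eq (by norm_num : (0 : ℤ) ≤ 2)]
    simp only [h, e, prm]
    exact σ.symm.forall_congr_left.trans (Iff.of_eq (by simp))
  · rw [mid_family (j := 2) (by norm_num) _ ?_ ⟨pt 0, pt 1, pt 2, by decide +kernel⟩ ?_, count_triples]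
    · intro σ y z e
      have hv : ∀ i, |y (σ i)| = |z i| := fun i => (congrFun e (σ i)).trans (by simp [prm, absV])
      constructor
      · rintro ⟨i, j, k, h1, h2, h3, h4, h5, h6⟩
        refine ⟨σ.symm i, σ.symm j, σ.symm k, fun h => h1 (σ.symm.injective h),
          fun h => h2 (σ.symm.injective h), fun h => h3 (σ.symm.injective h), ?_, ?_, ?_⟩
        · rw [← hv, Equiv.apply_symm_apply, h4]
        · rw [← hv, Equiv.apply_symm_apply, h5]
        · rw [← hv, Equiv.apply_symm_apply, h6]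
      · rintro ⟨i, j, k, h1, h2, h3, h4, h5, h6⟩
        exact ⟨σ i, σ j, σ k, fun h => h1 (σ.injective h), fun h => h2 (σ.injective h),
          fun h => h3 (σ.injective h), by rw [hv, h4], by rw [hv, h5], by rw [hv, h6]⟩
    · rintro i hi hne ⟨a, b, c, -, -, -, ha, -, -⟩
      have : ∀ i, i < 4 → i ≠ 2 → ∀ a, |midBase i a| ≠ 3 := by decide +kernel
      exact this i hi hne a ha
  · rw [mid_family (j := 1) (by norm_num) _ (hex 4) (by decide +kernel) (by decide +kernel), count_octad_four]
  · rw [mid_family (j := 3) (by norm_num) _ (hex 5) (by decide +kernel) (by decide +kernel), count_five]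

end Cfsg.Agent.Spor
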