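/-
Classes modulo two, vectors of squared norm 64, the stabiliser of the standard cross and the order of Co0.
-/
import Cfsg.Agent.Lib.Spor.LeechCount

set_option autoImplicit false
set_option maxRecDepth 100000

namespace Cfsg.Agent.Spor

open Cfsg
open scoped Pointwise symmDiff

local notation "Zv" => GolayPt → ℤ

/-! ### shells -/

/-- vectors of a given squared norm -/
def shell (n : ℤ) : Set Zv := {x | x ∈ leechLattice ∧ sqNorm x = n}

theorem shell_finite {n : ℤ} (hn : n ≤ 64) : (shell n).Finite := by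
  classical
  refine (Set.Finite.subset (Fintype.piFinset fun _ : GolayPt => Finset.Icc (-8 : ℤ) 8).finite_toSet ?_)
  rintro x ⟨-, hx⟩
  simp only [Finset.mem_coe, Fintype.mem_piFinset, Finset.mem_Icc]
  intro i
  have h : x i ^ 2 ≤ n := hx ▸ Finset.single_le_sum (fun j _ => sq_nonneg (x j)) (Finset.mem_univ i)
  constructor <;> nlinarith

theorem mem_cross {x y : Zv} : y ∈ cross x ↔ y ∈ leechLattice ∧ sqNorm y = sqNorm x ∧ Cong2 x y := Iff.rfl

theorem self_mem_cross {x : Zv} (hx : x ∈ leechLattice) : x ∈ cross x := ⟨hx, rfl, Cong2.refl' x⟩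

theorem cross_eq_iff {x y : Zv} (hy : y ∈ leechLattice) :
    cross x = cross y ↔ sqNorm y = sqNorm x ∧ Cong2 x y := by
  constructor
  · intro h
    obtain ⟨-, hn, hc⟩ := (h ▸ self_mem_cross hy : y ∈ cross x)
    exact ⟨hn, hc⟩
  · rintro ⟨hn, hc⟩
    ext z
    exact ⟨fun ⟨h1, h2, h3⟩ => ⟨h1, h2.trans hn.symm, hc.symm.trans h3⟩,
      fun ⟨h1, h2, h3⟩ => ⟨h1, h2.trans hn, hc.trans h3⟩⟩

theorem cross_small {x : Zv} (hx : x ∈ leechLattice) (h0 : x ≠ 0) (hn : sqNorm x < 64) :
    (cross x).ncard = 2 := by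
  have e : cross x = {x, -x} := by
    ext y
    simp only [Set.mem_insert_iff, Set.mem_singleton_iff]
    constructor
    · rintro ⟨-, hyn, hc⟩
      by_contra hne
      rw [not_or] at hne
      have := (congruent_short hx (Ne.symm hne.1) (fun h => hne.2 (by rw [h, neg_neg])) hn.le
        (hyn ▸ hn.le) hc).1
      omega
    · rintro (rfl | rfl)
      · exact self_mem_cross hx
      · exact ⟨neg_mem hx, sqNorm_neg x, x, hx, by rw [sub_neg_eq_add, two_nsmul]⟩
  rw [e, Set.ncard_pair]
  intro h
  exact h0 (funext fun i => by have := congrFun h i; simp only [Pi.neg_apply] at this; simp only [Pi.zero_apply]; omega)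

theorem shell_classes {n : ℤ} {k : ℕ} (hn : n ≤ 64) (h : ∀ x ∈ shell n, (cross x).ncard = k) :
    (shell n).ncard = (cross '' shell n).ncard * k := by
  classical
  rw [Set.ncard_eq_toFinset_card _ (shell_finite hn),
    Set.ncard_eq_toFinset_card _ ((shell_finite hn).image cross), Set.Finite.toFinset_image,
    Finset.card_eq_sum_card_image cross, Finset.sum_const_nat]
  intro c hc
  obtain ⟨x, hx, rfl⟩ := Finset.mem_image.1 hc
  rw [Set.Finite.mem_toFinset] at hx
  rw [← h x hx, ← Set.ncard_coe_finset]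
  congr 1
  ext y
  simp only [Finset.coe_filter, Set.Finite.mem_toFinset, Set.mem_setOf_eq]
  constructor
  · rintro ⟨hy, e⟩
    exact e ▸ self_mem_cross hy.1
  · rintro ⟨hyL, hyn, hc⟩
    exact ⟨⟨hyL, hyn.trans hx.2⟩, ((cross_eq_iff hyL).2 ⟨hyn, hc⟩).symm⟩

/-! ### classes modulo two -/

/-- twice the lattice, inside the lattice -/
noncomputable def twice : AddSubgroup ↥leechLattice := (nsmulAddMonoidHom 2).range

theorem twice_iff {u : ↥leechLattice} : u ∈ twice ↔ ∃ z ∈ leechLattice, (u : Zv) = 2 • z := by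
  constructor
  · rintro ⟨z, rfl⟩; exact ⟨z, z.2, rfl⟩
  · rintro ⟨z, hz, e⟩; exact ⟨⟨z, hz⟩, Subtype.ext e.symm⟩

theorem twice_index : twice.index = 2 ^ 24 := by
  have hinj : Function.Injective (nsmulAddMonoidHom 2 : Zv →+ Zv) := fun u v h => funext fun i => by
    have := congrFun h i
    simp [nsmulAddMonoidHom] at this
    omega
  let red : Zv →+ (GolayPt → ZMod 2) := AddMonoidHom.compLeft (Int.castAddHom (ZMod 2)) GolayPt
  have hker : (nsmulAddMonoidHom 2 : Zv →+ Zv).range = red.ker := by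
    ext u
    constructor
    · rintro ⟨v, rfl⟩
      funext i
      simp [red, nsmulAddMonoidHom]
      left; decide
    · intro hu
      refine ⟨fun i => u i / 2, funext fun i => ?_⟩
      have : ((u i : ℤ) : ZMod 2) = 0 := congrFun hu i
      have := (ZMod.intCast_zmod_eq_zero_iff_dvd _ _).1 this
      simp [nsmulAddMonoidHom]
      omega
  have hsurj : red.range = ⊤ := AddMonoidHom.range_eq_top.2 fun w => ⟨fun i => ((w i).val : ℤ), funext fun i => by
    show (((w i).val : ℤ) : ZMod 2) = w i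
    rw [Int.cast_natCast, ZMod.natCast_zmod_val]⟩
  have hrange : (nsmulAddMonoidHom 2 : Zv →+ Zv).range.index = 2 ^ 24 := by
    rw [hker, AddSubgroup.index_ker, hsurj, AddSubgroup.card_top, Nat.card_eq_fintype_card, Fintype.card_fun,
      ZMod.card, show Fintype.card GolayPt = 24 from rfl]
  have hmap : twice.map leechLattice.subtype = leechLattice.map (nsmulAddMonoidHom 2) := by
    ext u
    simp only [AddSubgroup.mem_map]
    constructor
    · rintro ⟨v, ⟨z, rfl⟩, rfl⟩; exact ⟨z, z.2, rfl⟩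
    · rintro ⟨z, hz, rfl⟩; exact ⟨_, ⟨⟨z, hz⟩, rfl⟩, rfl⟩
  have h := AddSubgroup.index_map_subtype twice
  rw [hmap, AddSubgroup.index_map_of_injective _ hinj, hrange, leech_index, mul_comm] at h
  exact (Nat.eq_of_mul_eq_mul_right (by positivity) h).symm

theorem class_count :
    (cross '' shell 32).ncard + (cross '' shell 48).ncard + (cross '' shell 64).ncard = 2 ^ 24 - 1 := by
  classical
  let cls : ↥leechLattice → ↥leechLattice ⧸ twice := QuotientAddGroup.mk
  have hcls : ∀ u v : ↥leechLattice, cls u = cls v ↔ Cong2 (u : Zv) (v : Zv) := fun u v => by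
    show QuotientAddGroup.mk u = QuotientAddGroup.mk v ↔ _
    rw [QuotientAddGroup.eq, twice_iff]
    constructor
    · rintro ⟨z, hz, e⟩
      refine Cong2.symm ⟨z, hz, ?_⟩
      rw [← e, AddSubgroup.coe_add, AddSubgroup.coe_neg]; abel
    · intro h
      obtain ⟨z, hz, e⟩ := h.symm
      exact ⟨z, hz, by rw [← e, AddSubgroup.coe_add, AddSubgroup.coe_neg]; abel⟩
  have hfin : Finite (↥leechLattice ⧸ twice) :=
    Nat.finite_of_card_ne_zero (by rw [← AddSubgroup.index_eq_card, twice_index]; norm_num)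
  set X : Set Zv := shell 32 ∪ shell 48 ∪ shell 64 with hX
  have hXL : ∀ x ∈ X, x ∈ leechLattice ∧ x ≠ 0 ∧ sqNorm x ≤ 64 := by
    intro x hx
    rcases hx with (h | h) | h <;> refine ⟨h.1, fun h0 => ?_, h.2 ▸ by norm_num⟩ <;>
      (have := h.2; rw [h0] at this; simp [sqNorm] at this)
  -- classes of short vectors are exactly the nonzero classes
  have hkey : (cross '' X).ncard = ({(0 : ↥leechLattice ⧸ twice)}ᶜ : Set _).ncard := by
    have hrep : ∀ c ∈ cross '' X, ∃ x ∈ X, cross x = c := fun c hc => hc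
    choose f hf hfc using hrep
    refine Set.ncard_congr (fun c hc => cls ⟨f c hc, (hXL _ (hf c hc)).1⟩) ?_ ?_ ?_
    · intro c hc h
      rw [Set.mem_singleton_iff] at h
      have hz : cls ⟨f c hc, (hXL _ (hf c hc)).1⟩ = cls 0 := h
      rw [hcls] at hz
      obtain ⟨hL, hne, h64⟩ := hXL _ (hf c hc)
      obtain ⟨z, hzL, e⟩ := hz
      simp only [AddSubgroup.coe_zero, sub_zero] at e
      have := (leech_norm hzL).2 (fun h0 => hne (by rw [e, h0, smul_zero]))
      have h4 : sqNorm (f c hc) = 4 * sqNorm z := by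
        rw [e, sqNorm, sqNorm, Finset.mul_sum]
        exact Finset.sum_congr rfl fun i _ => by simp only [Pi.smul_apply, nsmul_eq_mul]; push_cast; ring
      omega
    · intro c d hc hd h
      rw [hcls] at h
      obtain ⟨hL, hne, h64⟩ := hXL _ (hf c hc)
      obtain ⟨hL', hne', h64'⟩ := hXL _ (hf d hd)
      rw [← hfc c hc, ← hfc d hd, cross_eq_iff hL']
      refine ⟨?_, h⟩
      by_cases e : f c hc = f d hd
      · rw [e]
      by_cases e' : f c hc = -f d hd
      · rw [e', sqNorm_neg]
      obtain ⟨h1, h2, -⟩ := congruent_short hL e e' h64 h64' h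
      omega
    · intro q hq
      obtain ⟨u, rfl⟩ := QuotientAddGroup.mk_surjective q
      obtain ⟨y, hy, h64, hc⟩ := short_rep u.2
      have hy0 : y ≠ 0 := fun h0 => hq (by
        refine ((hcls u 0).2 ?_)
        rw [h0] at hc
        exact hc)
      have hyX : y ∈ X := by
        rcases norm_cases hy hy0 h64 with h | h | h
        · exact Or.inl (Or.inl ⟨hy, h⟩)
        · exact Or.inl (Or.inr ⟨hy, h⟩)
        · exact Or.inr ⟨hy, h⟩
      refine ⟨cross y, ⟨y, hyX, rfl⟩, ?_⟩
      show cls _ = cls u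
      rw [hcls]
      obtain ⟨-, hc'⟩ := (cross_eq_iff hy).1 (hfc (cross y) ⟨y, hyX, rfl⟩)
      exact hc'.trans (Cong2.symm hc)
  have hfinc : ∀ {n : ℤ}, n ≤ 64 → (cross '' shell n).Finite := fun h => (shell_finite h).image _
  have hdisj : ∀ {m n : ℤ}, m ≠ n → Disjoint (cross '' shell m) (cross '' shell n) := by
    intro m n hmn
    rw [Set.disjoint_left]
    rintro c ⟨x, hx, rfl⟩ ⟨y, hy, e⟩
    exact hmn (by rw [← hx.2, ← hy.2, ((cross_eq_iff hx.1).1 e).1])
  rw [Set.image_union, Set.image_union, Set.ncard_union_eq (Disjoint.union_left (hdisj (by norm_num)) (hdisj (by norm_num)))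
      ((hfinc (by norm_num)).union (hfinc (by norm_num))) (hfinc le_rfl),
    Set.ncard_union_eq (hdisj (by norm_num)) (hfinc (by norm_num)) (hfinc (by norm_num)),
    Set.ncard_compl, ← AddSubgroup.index_eq_card, twice_index, Set.ncard_singleton] at hkey
  exact hkey

theorem class_count_eight : (cross '' shell 64).ncard = 8292375 := by
  have e32 := shell_classes (n := 32) (k := 2) (by norm_num) fun x hx =>
    cross_small hx.1 (fun h => by have := hx.2; rw [h] at this; simp [sqNorm] at this) (by rw [hx.2]; norm_num)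
  have e48 := shell_classes (n := 48) (k := 2) (by norm_num) fun x hx =>
    cross_small hx.1 (fun h => by have := hx.2; rw [h] at this; simp [sqNorm] at this) (by rw [hx.2]; norm_num)
  have h32 : (shell 32).ncard = 196560 := card_short
  have h48 : (shell 48).ncard = 16773120 := card_mid
  have := class_count
  norm_num at this
  omega

theorem card_eight : {x : Zv | x ∈ leechLattice ∧ sqNorm x = 64}.ncard = 398034000 := by
  have e := shell_classes (n := 64) (k := 48) le_rfl fun x hx => cross_card hx.1 hx.2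
  rw [class_count_eight] at e
  exact e

/-! ### the standard cross -/

theorem mem_digSet {x : Zv} {i : GolayPt} : i ∈ digSet x ↔ x i / 2 % 2 = 1 := by simp [digSet]

theorem e8_mem (i : GolayPt) : (Pi.single i 8 : Zv) ∈ leechLattice := by
  have : ∀ i : GolayPt, leechCheck (Pi.single i 8) = true := by decide +kernel
  exact leechCheck_mem (this i)

/-- eight times a unit vector -/
def e8 (i : GolayPt) : ↥leechLattice := ⟨Pi.single i 8, e8_mem i⟩

/-- the standard cross inside the lattice -/
def stdC : Set ↥leechLattice := {v | (v : Zv) ∈ stdCross}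

/-- stabiliser of the standard cross -/
def StdStab (g : ↥Co0) : Prop :=
  ∀ v : ↥leechLattice, (v : Zv) ∈ stdCross → ((g • v : ↥leechLattice) : Zv) ∈ stdCross

theorem e8_std (i : GolayPt) : (e8 i : Zv) ∈ stdCross := ⟨i, 8, Or.inl rfl, rfl⟩

theorem co0_add (g : ↥Co0) (u v : ↥leechLattice) : g • (u + v) = g • u + g • v := g.2.1 u v

/-- vectors are combinations of the unit vectors -/
theorem eight_expand (g : ↥Co0) (v : ↥leechLattice) (k : GolayPt) :
    8 * ((g • v : ↥leechLattice) : Zv) k = ∑ i, (v : Zv) i * ((g • e8 i : ↥leechLattice) : Zv) k := by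
  have h8 : (8 : ℤ) • v = ∑ i, (v : Zv) i • e8 i := Subtype.ext (by
    rw [AddSubgroup.coe_zsmul, AddSubgroup.val_finsetSum]
    funext k
    simp [e8, Pi.single_apply, mul_comm])
  have := congrArg (co0Hom g) h8
  rw [map_zsmul, map_sum] at this
  have hk := congrFun this k
  simp only [Finset.sum_apply, map_zsmul, Pi.smul_apply, smul_eq_mul] at hk
  exact hk

theorem std_form {g : ↥Co0} (h : StdStab g) :
    ∃ σ ∈ M24, ∃ w ∈ golayCode, ∀ v : ↥leechLattice,
      ((g • v : ↥leechLattice) : Zv) = sgn w (prm σ (v : Zv)) := by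
  classical
  have hy : ∀ i, ∃ (j : GolayPt) (s : ℤ), (s = 8 ∨ s = -8) ∧
      ((g • e8 i : ↥leechLattice) : Zv) = Pi.single j s := fun i => h _ (e8_std i)
  choose p s hs he using hy
  have hinj : Function.Injective p := by
    intro i j hij
    by_contra hne
    have h1 : ∀ k, k ≠ p i → ((g • e8 i : ↥leechLattice) : Zv) k = 0 := fun k hk => by
      rw [he, Pi.single_eq_of_ne hk]
    have hd := co0_dot g (e8 i) (e8 j)
    rw [he, he, hij] at hd
    simp [dotInt, e8, Pi.single_apply, Ne.symm hne] at hd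
    rcases hs i with a | a <;> rcases hs j with b | b <;> simp [a, b] at hd
  let π : Equiv.Perm GolayPt := Equiv.ofBijective p (Finite.injective_iff_bijective.1 hinj)
  have hπ : ∀ i, π i = p i := fun _ => rfl
  let c : GolayPt → ZMod 2 := fun k => if s (π.symm k) = -8 then 1 else 0
  have hg : ∀ v : ↥leechLattice, ((g • v : ↥leechLattice) : Zv) = sgn c (prm π (v : Zv)) := by
    intro v
    funext k
    obtain ⟨i, rfl⟩ := π.surjective k
    have := eight_expand g v (π i)
    rw [Finset.sum_eq_single i (fun j _ hj => by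
        rw [he, hπ, Pi.single_eq_of_ne (fun e => hj (hinj e).symm), mul_zero])
      (fun h' => absurd (Finset.mem_univ i) h'), he, hπ, Pi.single_eq_same] at this
    simp only [sgn, prm, c, Equiv.symm_apply_apply, hπ] at this ⊢
    rw [← hπ, Equiv.symm_apply_apply]
    rw [← hπ] at this
    rcases hs i with a | a <;> simp [a] at this ⊢ <;> omega
  have hmem : ∀ x ∈ leechLattice, sgn c (prm π x) ∈ leechLattice := fun x hx => by
    rw [← hg ⟨x, hx⟩]; exact (g • (⟨x, hx⟩ : ↥leechLattice)).2
  have hπM : π ∈ M24 := by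
    refine mem_M24.2 fun m hm => codeSets_iff.1 ?_
    have hb : ∀ m ∈ codeBasis, inCode m = true ∧ m < 2 ^ 24 := by decide +kernel
    have hsup : π • ofMask m = digSet (sgn c (prm π (dbl (ofMaskW m)))) := by
      ext k
      obtain ⟨i, rfl⟩ := π.surjective k
      simp only [mem_smul_iff', mem_digSet, sgn, prm, Equiv.symm_apply_apply, dbl]
      rw [mem_ofMask]
      by_cases ht : Nat.testBit m (idx i) = true <;> by_cases hc : c (π i) = 0 <;>
        simp [ht, hc, ofMaskW]
    rw [hsup]
    exact digSet_mem (hmem _ (dbl_mem (dec_code (hb m hm).1 (hb m hm).2)))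
  refine ⟨π, hπM, c, ?_, hg⟩
  have hov := hmem _ (prm_mem (inv_mem hπM) oddVec_mem)
  rw [prm_inv_right] at hov
  obtain ⟨w, hw, hwd⟩ := digSet_mem hov
  have : c = w := by
    refine support₂_injective ?_
    rw [hwd]
    ext k
    simp only [mem_support₂, mem_digSet, sgn, oddVec]
    by_cases hk : k = none <;> by_cases hc : c k = 0 <;> (try subst hk) <;> simp_all
  rw [this]; exact hw

theorem mono_exists {σ : Equiv.Perm GolayPt} (hσ : σ ∈ M24) {w : GolayPt → ZMod 2} (hw : w ∈ golayCode) :
    ∃ g : ↥Co0, ∀ v : ↥leechLattice, ((g • v : ↥leechLattice) : Zv) = sgn w (prm σ (v : Zv)) := by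
  obtain ⟨a, ha⟩ := exists_sgn hw
  obtain ⟨b, hb⟩ := exists_prm hσ
  exact ⟨a * b, fun v => by rw [mul_smul, ha, hb]⟩

theorem mono_std {σ : Equiv.Perm GolayPt} {w : GolayPt → ZMod 2} {g : ↥Co0}
    (h : ∀ v : ↥leechLattice, ((g • v : ↥leechLattice) : Zv) = sgn w (prm σ (v : Zv))) : StdStab g := by
  rintro v ⟨i, s, hs, e⟩
  rw [h, e]
  refine ⟨σ i, if w (σ i) = 0 then s else -s, ?_, funext fun k => ?_⟩
  · split_ifs <;> omega
  · obtain ⟨j, rfl⟩ := σ.surjective k
    simp only [sgn, prm, Equiv.symm_apply_apply, Pi.single_apply, σ.injective.eq_iff]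
    by_cases hji : j = i
    · subst hji; simp
    · simp [hji]

theorem std_monomial {g : ↥Co0} (h : StdStab g) : ∃ f ∈ golayMonomialMaps, ∀ v : ↥leechLattice,
    ((g • v : ↥leechLattice) : Zv) = f (v : Zv) := by
  obtain ⟨σ, hσ, w, hw, e⟩ := std_form h
  refine ⟨signedPerm σ (support₂ w), ⟨σ, hσ, _, ⟨w, hw, rfl⟩, rfl⟩, fun v => ?_⟩
  rw [e]
  funext k
  by_cases hk : w k = 0 <;> simp [sgn, prm, signedPerm, mem_support₂, hk]

theorem card_std_stab : Nat.card {g : ↥Co0 // StdStab g} = 4096 * 244823040 := by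
  rw [← card_golayCode, ← card_M24, ← Nat.card_prod]
  symm
  have key : ∀ q : ↥golayCode × ↥M24, ∃ g : ↥Co0, ∀ v : ↥leechLattice,
      ((g • v : ↥leechLattice) : Zv) = sgn q.1 (prm q.2 (v : Zv)) := fun q => mono_exists q.2.2 q.1.2
  choose G hG using key
  refine Nat.card_congr (Equiv.ofBijective (fun q => ⟨G q, mono_std (hG q)⟩) ⟨?_, ?_⟩)
  · intro q r e
    have e' : G q = G r := congrArg Subtype.val e
    have h := fun i => (hG q (e8 i)).symm.trans ((congrArg (fun g : ↥Co0 => ((g • e8 i : ↥leechLattice) : Zv)) e').trans (hG r (e8 i)))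
    have hσ : (q.2 : Equiv.Perm GolayPt) = r.2 := Equiv.ext fun i => by
      have := congrFun (h i) ((q.2 : Equiv.Perm GolayPt) i)
      simp only [sgn, prm, e8, Equiv.symm_apply_apply, Pi.single_eq_same] at this
      by_contra hne
      have hne' : (r.2 : Equiv.Perm GolayPt).symm ((q.2 : Equiv.Perm GolayPt) i) ≠ i := fun h' => hne (by
        rw [Equiv.symm_apply_eq] at h'; exact h')
      rw [Pi.single_eq_of_ne hne'] at this
      split_ifs at this <;> omega
    refine Prod.ext (Subtype.ext (funext fun k => ?_)) (Subtype.ext hσ)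
    obtain ⟨i, rfl⟩ := (q.2 : Equiv.Perm GolayPt).surjective k
    have := congrFun (h i) ((q.2 : Equiv.Perm GolayPt) i)
    simp only [sgn, prm, e8, Equiv.symm_apply_apply, Pi.single_eq_same, ← hσ] at this
    rcases word_eq_one_or_zero ((q.1 : GolayPt → ZMod 2) ((q.2 : Equiv.Perm GolayPt) i)) with a | a <;>
      rcases word_eq_one_or_zero ((r.1 : GolayPt → ZMod 2) ((q.2 : Equiv.Perm GolayPt) i)) with b | b <;>
        simp [a, b] at this ⊢
  · rintro ⟨g, hg⟩
    obtain ⟨σ, hσ, w, hw, e⟩ := std_form hg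
    exact ⟨(⟨w, hw⟩, ⟨σ, hσ⟩), Subtype.ext (co0_ext fun v => (hG _ v).trans (e v).symm)⟩

/-! ### the order of Co0 -/

theorem stdCross_eq : stdCross = cross (Pi.single none 8) := by
  have hn : sqNorm (Pi.single (none : GolayPt) 8 : Zv) = 64 := by decide +kernel
  have hall : ∀ i : GolayPt, ∀ s ∈ ([8, -8] : List ℤ),
      leechCheck (Pi.single i s) = true ∧ sqNorm (Pi.single i s : Zv) = 64 ∧
      leechCheck (fun k => ((Pi.single none 8 : Zv) k - (Pi.single i s : Zv) k) / 2) = true ∧
      ∀ k, ((Pi.single none 8 : Zv) k - (Pi.single i s : Zv) k) % 2 = 0 := by decide +kernel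
  refine Set.eq_of_subset_of_ncard_le ?_ ?_ ?_
  · rintro y ⟨i, s, hs, rfl⟩
    obtain ⟨h1, h2, h3, h4⟩ := hall i s (by rcases hs with rfl | rfl <;> simp)
    refine ⟨leechCheck_mem h1, h2.trans hn.symm, _, leechCheck_mem h3, funext fun k => ?_⟩
    have := h4 k
    simp only [Pi.sub_apply, Pi.smul_apply, nsmul_eq_mul]
    push_cast
    omega
  · rw [cross_card (e8_mem none) hn]
    have : stdCross = (fun q : GolayPt × Bool => (Pi.single q.1 (if q.2 then 8 else -8) : Zv)) '' Set.univ := by
      ext y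
      simp only [stdCross, Set.mem_setOf_eq, Set.image_univ, Set.mem_range, Prod.exists]
      constructor
      · rintro ⟨i, s, rfl | rfl, rfl⟩
        · exact ⟨i, true, rfl⟩
        · exact ⟨i, false, rfl⟩
      · rintro ⟨i, b, rfl⟩
        exact ⟨i, _, by cases b <;> simp, rfl⟩
    rw [this, Set.ncard_image_of_injective, Set.ncard_univ, Nat.card_eq_fintype_card]
    · rfl
    · rintro ⟨i, a⟩ ⟨j, b⟩ e
      have h1 := congrFun e i
      simp only [Pi.single_eq_same, Pi.single_apply] at h1
      by_cases hij : i = j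
      · subst hij; cases a <;> cases b <;> simp at h1 ⊢
      · rw [if_neg hij] at h1; cases a <;> simp at h1
  · exact (shell_finite le_rfl).subset fun y hy => ⟨hy.1, hy.2.1.trans hn⟩

/-- a cross as a set of lattice vectors -/
def crossL (x : Zv) : Set ↥leechLattice := {v | (v : Zv) ∈ cross x}

theorem smul_crossL (g : ↥Co0) (x : ↥leechLattice) :
    g • crossL (x : Zv) = crossL ((g • x : ↥leechLattice) : Zv) := by
  ext v
  rw [Set.mem_smul_set_iff_inv_smul_mem]
  simp only [crossL, Set.mem_setOf_eq]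
  have hn : sqNorm ((g⁻¹ • v : ↥leechLattice) : Zv) = sqNorm (v : Zv) := (g⁻¹).2.2 v
  have hx : sqNorm ((g • x : ↥leechLattice) : Zv) = sqNorm (x : Zv) := g.2.2 x
  constructor
  · rintro ⟨-, h1, h2⟩
    refine ⟨v.2, by omega, ?_⟩
    have := orb_cong (g := g) x.2 (g⁻¹ • v : ↥leechLattice).2 h2
    rw [Subtype.coe_eta, Subtype.coe_eta, smul_inv_smul] at this
    exact this
  · rintro ⟨-, h1, h2⟩
    refine ⟨(g⁻¹ • v : ↥leechLattice).2, by omega, ?_⟩
    have := orb_cong (g := g⁻¹) (g • x : ↥leechLattice).2 v.2 h2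
    rw [Subtype.coe_eta, Subtype.coe_eta, inv_smul_smul] at this
    exact this

theorem card_co0 : Nat.card ↥Co0 = 8315553613086720000 := by
  classical
  set C0 : Set ↥leechLattice := crossL (Pi.single none 8) with hC0
  have hfin : C0.Finite := (((shell_finite (n := 64) le_rfl).subset fun y hy =>
    ⟨hy.1, hy.2.1.trans (by decide +kernel)⟩ : (cross (Pi.single none 8)).Finite).preimage
      Subtype.val_injective.injOn)
  have hstab : Nat.card (MulAction.stabilizer ↥Co0 C0) = 4096 * 244823040 := by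
    rw [← card_std_stab]
    refine Nat.card_congr (Equiv.subtypeEquivRight fun g => ?_)
    rw [MulAction.mem_stabilizer_iff]
    constructor
    · intro h v hv
      have : g • v ∈ g • C0 := Set.smul_mem_smul_set (show (v : Zv) ∈ cross _ from stdCross_eq ▸ hv)
      rw [h] at this
      exact stdCross_eq ▸ this
    · intro h
      refine Set.eq_of_subset_of_ncard_le ?_ (by rw [Set.ncard_smul_set]) hfin
      rintro _ ⟨v, hv, rfl⟩
      have hv' : (v : Zv) ∈ stdCross := by rw [stdCross_eq]; exact hv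
      have := h v hv'
      rw [stdCross_eq] at this
      exact this
  have horbit : MulAction.orbit ↥Co0 C0 = (fun c : Set Zv => ((↑) ⁻¹' c : Set ↥leechLattice)) '' (cross '' shell 64) := by
    have h8 : sqNorm (Pi.single (none : GolayPt) 8 : Zv) = 64 := by decide +kernel
    have hb : crossBase 0 = Pi.single none 8 := by funext p; revert p; decide +kernel
    ext D
    constructor
    · rintro ⟨g, rfl⟩
      exact ⟨_, ⟨((g • e8 none : ↥leechLattice) : Zv), ⟨(g • e8 none).2, (g.2.2 _).trans h8⟩, rfl⟩,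
        (smul_crossL g (e8 none)).symm⟩
    · rintro ⟨_, ⟨y, ⟨hy, hn⟩, rfl⟩, rfl⟩
      obtain ⟨z, ho, hc⟩ := orb_class hy hn
      rw [hb] at ho
      obtain ⟨hx, g, e⟩ := ho
      refine ⟨g, (smul_crossL g ⟨_, hx⟩).trans ?_⟩
      rw [e]
      show crossL z = crossL y
      unfold crossL
      rw [(cross_eq_iff hy).2 ⟨?_, hc⟩]
      rw [← e, hn]
      exact ((g.2.2 _).trans h8).symm
  have horb : Nat.card (MulAction.orbit ↥Co0 C0) = 8292375 := by
    rw [Nat.card_coe_set_eq, horbit, ← class_count_eight]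
    refine Set.ncard_image_of_injOn ?_
    rintro c ⟨x, hx, rfl⟩ d ⟨y, hy, rfl⟩ e
    ext z
    constructor <;> intro hz
    · exact (Set.ext_iff.1 e ⟨z, hz.1⟩).1 hz
    · exact (Set.ext_iff.1 e ⟨z, hz.1⟩).2 hz
  rw [← Nat.card_congr (MulAction.orbitProdStabilizerEquivGroup ↥Co0 C0), Nat.card_prod, horb, hstab]

end Cfsg.Agent.Spor
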