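/-
The 552 decompositions of a vector of squared norm 48, and the census of inner products of minimal vectors.
-/
import Cfsg.Agent.Lib.Spor.LeechClasses
import Cfsg.Agent.Lib.Spor.GolayElems

set_option autoImplicit false
set_option maxRecDepth 100000

namespace Cfsg.Agent.Spor

open Cfsg
open scoped Pointwise

local notation "Zv" => GolayPt → ℤ

/-- the reference vector of squared norm 48 -/
def uRef : Zv := setVec 1 5 {none}

/-- minimal vectors with inner product 24 with a vector -/
def halves (u : Zv) : Set Zv := {x | x ∈ leechLattice ∧ sqNorm x = 32 ∧ dotInt u x = 24}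

theorem uRef_eq : uRef = midBase 3 := by funext p; revert p; decide +kernel

theorem uRef_spec : uRef ∈ leechLattice ∧ sqNorm uRef = 48 :=
  uRef_eq ▸ ⟨midBase_mem (by norm_num), (base_facts.2.1 3 (by norm_num)).2⟩

theorem dot_uRef (y : Zv) : dotInt uRef y = 4 * y none + ∑ p, y p := by
  have e : ∀ p, uRef p * y p = (if p = none then 4 * y p else 0) + y p := fun p => by
    simp only [uRef, setVec, Finset.mem_singleton]; split_ifs <;> ring
  rw [dotInt, Finset.sum_congr rfl fun p _ => e p, Finset.sum_add_distrib, Finset.sum_ite_eq',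
    if_pos (Finset.mem_univ _)]

theorem sum_setVec (a v : ℤ) (s : Finset GolayPt) :
    ∑ p, setVec a v s p = 24 * a + (v - a) * s.card := by
  have e : ∀ p, setVec a v s p = a + (v - a) * (if p ∈ s then 1 else 0) := fun p => by
    simp only [setVec]; split_ifs <;> ring
  rw [Finset.sum_congr rfl fun p _ => e p, Finset.sum_add_distrib, ← Finset.mul_sum, Finset.sum_boole,
    Finset.sum_const, Finset.card_univ, Finset.filter_mem_eq_inter, Finset.univ_inter,
    show Fintype.card GolayPt = 24 from rfl]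
  simp

/-- octads through the distinguished point -/
def octThrough : Set (Finset GolayPt) := {o | o ∈ octads ∧ none ∈ o}

theorem ncard_octThrough : octThrough.ncard = 253 := by
  rw [ncard_of_masks (l := octMasks.filter fun m => Nat.testBit m 23) (octMasks_nodup.filter _)
    (fun m hm => octMasks_lt (List.mem_filter.1 hm).1)
    (fun s => by
      rw [List.mem_filter, ← mem_octads, show Nat.testBit (mask s) 23 = true ↔ none ∈ s from
        testBit_mask_idx (p := none)]
      rfl)]
  decide +kernel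

/-- word of a set -/
def setWord (o : Finset GolayPt) : GolayPt → ZMod 2 := fun p => if p ∈ o then 1 else 0

theorem setWord_mem {o : Finset GolayPt} (ho : o ∈ codeSets) : setWord o ∈ golayCode := by
  obtain ⟨w, hw, rfl⟩ := ho
  rwa [show setWord (support₂ w) = w from funext fun p => by
    rcases word_eq_one_or_zero (w p) with h | h <;> simp [setWord, mem_support₂, h]]

/-- the four kinds -/
def half0 (j : GolayPt) : Zv := setVec 0 4 {none, j}
/-- the four kinds -/
def half1 (o : Finset GolayPt) : Zv := setVec 0 2 o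
/-- the four kinds -/
def half2 (o : Finset GolayPt) : Zv := sgn (setWord o) (setVec 1 (-3) {none})
/-- the four kinds -/
def half3 (j : GolayPt) : Zv := setVec 1 (-3) {j}

theorem oddVec_eq : oddVec = setVec 1 (-3) {none} := by funext p; revert p; decide +kernel

theorem odd_single_mem (j : GolayPt) : setVec 1 (-3) {j} ∈ leechLattice ∧ sqNorm (setVec 1 (-3) {j}) = 32 := by
  obtain ⟨σ, hσ, hm⟩ := M24_trans (k := 1) (by norm_num) ⟨fun _ => (none : GolayPt), by decide⟩
    ⟨fun _ => j, fun u v _ => Subsingleton.elim u v⟩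
  have e : setVec 1 (-3) {j} = prm σ oddVec := by
    rw [oddVec_eq, prm_setVec, Finset.smul_finset_singleton]
    congr 2
    exact (hm 0).symm
  rw [e]
  exact ⟨prm_mem hσ oddVec_mem, (sqNorm_prm σ _).trans oddVec_norm⟩

theorem octad_vec_mem {o : Finset GolayPt} (ho : o ∈ octads) :
    setVec 0 2 o ∈ leechLattice ∧ sqNorm (setVec 0 2 o) = 32 := by
  have h : sqNorm (setVec 0 2 o) = 32 := by
    have e : ∀ p, setVec 0 2 o p ^ 2 = setVec 0 4 o p := fun p => by
      simp only [setVec]; split_ifs <;> norm_num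
    rw [sqNorm, Finset.sum_congr rfl fun p _ => e p, sum_setVec, ho.2]; norm_num
  refine ⟨?_, h⟩
  rw [show setVec 0 2 o = dbl (setWord o) from funext fun p => by
    by_cases hp : p ∈ o <;> simp [setVec, dbl, setWord, hp]]
  exact dbl_mem (setWord_mem ho.1)

theorem half_spec :
    (∀ j, j ≠ none → half0 j ∈ halves uRef) ∧ (∀ o ∈ octThrough, half1 o ∈ halves uRef) ∧
      (∀ o ∈ octThrough, half2 o ∈ halves uRef) ∧ (∀ j, j ≠ none → half3 j ∈ halves uRef) := by
  refine ⟨fun j hj => ?_, fun o ho => ?_, fun o ho => ?_, fun j hj => ?_⟩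
  · have e : half0 j = pairVec j none 1 := funext fun p => by
      by_cases h1 : p = j <;> by_cases h2 : p = none <;> simp [half0, setVec, pairVec, h1, h2]
    obtain ⟨h1, h2⟩ := pairVec_spec hj (Or.inl (rfl : (1 : ℤ) = 1))
    refine ⟨e ▸ h1, e ▸ h2, ?_⟩
    rw [dot_uRef, half0, sum_setVec, Finset.card_pair (Ne.symm hj)]
    simp [setVec]
  · refine ⟨(octad_vec_mem ho.1).1, (octad_vec_mem ho.1).2, ?_⟩
    rw [dot_uRef, half1, sum_setVec, ho.1.2]
    simp [setVec, ho.2]
  · obtain ⟨h1, h2⟩ := odd_single_mem none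
    refine ⟨sgn_mem (setWord_mem ho.1.1) h1, (sqNorm_sgn _ _).trans h2, ?_⟩
    have e : ∀ p, half2 o p = setVec 1 (-3) {none} p - (if p ∈ o then 2 * setVec 1 (-3) {none} p else 0) :=
      fun p => by by_cases hp : p ∈ o <;> simp [half2, sgn, setWord, hp]; ring
    rw [dot_uRef, e none, Finset.sum_congr rfl fun p _ => e p, Finset.sum_sub_distrib, Finset.sum_ite_mem,
      Finset.univ_inter, ← Finset.mul_sum, sum_setVec]
    have : ∑ p ∈ o, setVec 1 (-3) {none} p = 4 := by
      have e' : ∀ p, setVec 1 (-3) {none} p = 1 + (if p = none then -4 else 0) := fun p => by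
        by_cases hp : p = none <;> simp [setVec, hp]
      rw [Finset.sum_congr rfl fun p _ => e' p, Finset.sum_add_distrib, Finset.sum_ite_eq', if_pos ho.2,
        Finset.sum_const, ho.1.2]
      norm_num
    rw [this, if_pos ho.2]
    simp [setVec]
  · obtain ⟨h1, h2⟩ := odd_single_mem j
    refine ⟨h1, h2, ?_⟩
    rw [dot_uRef, half3, sum_setVec]
    simp [setVec, Ne.symm hj]

theorem nonneg_eq {y : Zv} (hs : ∑ p, absV y p ≤ ∑ p, y p) : y = absV y := by
  have hle : ∀ p ∈ (Finset.univ : Finset GolayPt), y p ≤ absV y p := fun p _ => le_abs_self _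
  have := (Finset.sum_eq_sum_iff_of_le hle).1 (le_antisymm (Finset.sum_le_sum hle) hs)
  exact funext fun p => this p (Finset.mem_univ p)

theorem half_form {y : Zv} (hy : y ∈ halves uRef) :
    (∃ j, j ≠ none ∧ y = half0 j) ∨ (∃ o ∈ octThrough, y = half1 o) ∨
      (∃ o ∈ octThrough, y = half2 o) ∨ (∃ j, j ≠ none ∧ y = half3 j) := by
  obtain ⟨hL, hn, hd⟩ := hy
  rw [dot_uRef] at hd
  obtain ⟨a0, a1, -⟩ := base_abs
  obtain ⟨i, hi, him⟩ := short_form hL hn
  have hle : ∑ p, y p ≤ ∑ p, absV y p := Finset.sum_le_sum fun p _ => le_abs_self _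
  have hle0 : y none ≤ absV y none := le_abs_self _
  interval_cases i
  · obtain ⟨σ, -, e⟩ := img_abs him
    rw [a0, prm_setVec] at e
    set T := σ • ofMask 8388609 with hT
    have hT2 : T.card = 2 := by rw [hT, Finset.card_smul_finset]; decide +kernel
    have hs : ∑ p, absV y p = 8 := by rw [e, sum_setVec, hT2]; norm_num
    have hv : absV y none = if none ∈ T then 4 else 0 := congrFun e none
    have hmem : none ∈ T := by
      by_contra h; rw [if_neg h] at hv; omega
    rw [if_pos hmem] at hv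
    have hy : y = absV y := nonneg_eq (by omega)
    obtain ⟨j, hj⟩ := Finset.card_eq_one.1 (show (T.erase none).card = 1 by
      rw [Finset.card_erase_of_mem hmem, hT2])
    have hjT : j ≠ none := (Finset.mem_erase.1 (hj ▸ Finset.mem_singleton_self j : j ∈ T.erase none)).1
    refine Or.inl ⟨j, hjT, ?_⟩
    rw [half0, hy, e, ← Finset.insert_erase hmem, hj]
  · obtain ⟨σ, hσ, e⟩ := img_abs him
    rw [a1, prm_setVec] at e
    set T := σ • ofMask 5279 with hT
    have hT8 : T ∈ octads := smul_octad hσ baseOctad_mem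
    have hs : ∑ p, absV y p = 16 := by rw [e, sum_setVec, hT8.2]; norm_num
    have hv : absV y none = if none ∈ T then 2 else 0 := congrFun e none
    have hmem : none ∈ T := by
      by_contra h; rw [if_neg h] at hv; omega
    rw [if_pos hmem] at hv
    have hy : y = absV y := nonneg_eq (by omega)
    exact Or.inr (Or.inl ⟨T, ⟨hT8, hmem⟩, by rw [half1, hy, e]⟩)
  · obtain ⟨m, h2, -, -⟩ := mem_leech.1 hL
    have hodd : ∀ p, y p % 2 = 1 := by
      obtain ⟨σ, -, w, -, e⟩ := him
      intro p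
      have h0 : ∀ q, shortBase 2 q % 2 = 1 := by decide +kernel
      have := h0 (σ.symm p)
      rw [e]
      simp only [prm, sgn]
      split_ifs <;> omega
    obtain ⟨w, hw, T, U, -, hc, e⟩ := odd_normal hL hn (by norm_num) hodd
    have hU : U = ∅ := Finset.card_eq_zero.1 (by omega)
    obtain ⟨a, ha⟩ := Finset.card_eq_one.1 (show T.card = 1 by omega)
    have hb : (fun i => if i ∈ T then -3 else if i ∈ U then 5 else 1 : Zv) = setVec 1 (-3) {a} :=
      funext fun i => by simp [setVec, ha, hU]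
    rw [hb] at e
    set k := support₂ w with hk
    have hkc : k ∈ codeSets := ⟨w, hw, rfl⟩
    have hcard := codeSets_card hkc
    have ey : ∀ p, y p = setVec 1 (-3) {a} p - (if p ∈ k then 2 * setVec 1 (-3) {a} p else 0) := fun p => by
      by_cases hp : w p = 0 <;> simp [e, sgn, hk, mem_support₂, hp]; ring
    have hsk : ∑ p ∈ k, setVec 1 (-3) {a} p = (k.card : ℤ) - (if a ∈ k then 4 else 0) := by
      have e' : ∀ p, setVec 1 (-3) {a} p = 1 + (if p = a then -4 else 0) := fun p => by
        by_cases hp : p = a <;> simp [setVec, hp]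
      rw [Finset.sum_congr rfl fun p _ => e' p, Finset.sum_add_distrib, Finset.sum_ite_eq',
        Finset.sum_const]
      split_ifs <;> simp; ring
    rw [ey none, Finset.sum_congr rfl fun p _ => ey p, Finset.sum_sub_distrib, Finset.sum_ite_mem,
      Finset.univ_inter, ← Finset.mul_sum, sum_setVec, hsk, Finset.card_singleton] at hd
    by_cases han : a = none
    · subst han
      have hn' : setVec (1 : ℤ) (-3) {(none : GolayPt)} none = -3 := by simp [setVec]
      rw [hn'] at hd
      by_cases hnk : none ∈ k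
      · simp only [if_pos hnk] at hd
        refine Or.inr (Or.inr (Or.inl ⟨k, ⟨⟨hkc, by omega⟩, hnk⟩, ?_⟩))
        rw [e, half2]
        exact congrArg (fun c => sgn c (setVec 1 (-3) {none})) (funext fun p => by
          rcases word_eq_one_or_zero (w p) with h | h <;> simp [setWord, hk, mem_support₂, h])
      · simp only [if_neg hnk] at hd; omega
    · have hn' : setVec (1 : ℤ) (-3) {a} none = 1 := by simp [setVec, Ne.symm han]
      rw [hn'] at hd
      have hk0 : k = ∅ := by
        refine Finset.card_eq_zero.1 ?_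
        by_cases hnk : none ∈ k <;> by_cases hak : a ∈ k <;> simp only [hnk, hak, if_true, if_false] at hd <;>
          rcases hcard with h | h | h | h | h <;> omega
      refine Or.inr (Or.inr (Or.inr ⟨a, han, ?_⟩))
      funext p
      rw [ey p, hk0]
      simp [half3]

theorem card_halves_ref : (halves uRef).ncard = 552 := by
  have e : halves uRef = (half0 '' {j | j ≠ none} ∪ half1 '' octThrough) ∪
      (half2 '' octThrough ∪ half3 '' {j | j ≠ none}) := by
    refine Set.Subset.antisymm (fun y hy => ?_) ?_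
    · rcases half_form hy with ⟨j, hj, rfl⟩ | ⟨o, ho, rfl⟩ | ⟨o, ho, rfl⟩ | ⟨j, hj, rfl⟩
      · exact Or.inl (Or.inl ⟨j, hj, rfl⟩)
      · exact Or.inl (Or.inr ⟨o, ho, rfl⟩)
      · exact Or.inr (Or.inl ⟨o, ho, rfl⟩)
      · exact Or.inr (Or.inr ⟨j, hj, rfl⟩)
    · rintro y ((⟨j, hj, rfl⟩ | ⟨o, ho, rfl⟩) | (⟨o, ho, rfl⟩ | ⟨j, hj, rfl⟩))
      · exact half_spec.1 j hj
      · exact half_spec.2.1 o ho
      · exact half_spec.2.2.1 o ho
      · exact half_spec.2.2.2 j hj
  have v0 : ∀ j : GolayPt, half0 j none = 4 := fun j => by simp [half0, setVec]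
  have v1 : ∀ o ∈ octThrough, half1 o none = 2 := fun o ho => by simp [half1, setVec, ho.2]
  have v2 : ∀ o ∈ octThrough, half2 o none = 3 := fun o ho => by
    simp [half2, sgn, setVec, setWord, ho.2]
  have v3 : ∀ j : GolayPt, j ≠ none → half3 j none = 1 := fun j hj => by simp [half3, setVec, Ne.symm hj]
  have i0 : Set.InjOn half0 {j | j ≠ none} := fun a ha b hb h => by
    have := congrFun h a
    by_contra hne
    simp [half0, setVec, hne, (show a ≠ none from ha)] at this
  have i1 : Set.InjOn half1 octThrough := fun a _ b _ h => setVec_injective (by norm_num) h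
  have i2 : Set.InjOn half2 octThrough := fun a ha' b hb' h => Finset.ext fun p => by
    have := congrFun h p
    by_cases hp : p = none
    · subst hp; simp [ha'.2, hb'.2]
    · by_cases ha : p ∈ a <;> by_cases hb : p ∈ b <;> simp [half2, sgn, setVec, setWord, ha, hb, hp] at this ⊢
  have i3 : Set.InjOn half3 {j | j ≠ none} := fun a _ b _ h =>
    Finset.singleton_inj.1 (setVec_injective (by norm_num) h)
  have hne : ({j | j ≠ none} : Set GolayPt).ncard = 23 := by
    rw [show ({j | j ≠ none} : Set GolayPt) = {none}ᶜ from rfl, Set.ncard_compl, Set.ncard_singleton,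
      Nat.card_eq_fintype_card]
    rfl
  rw [e, Set.ncard_union_eq, Set.ncard_union_eq, Set.ncard_union_eq, Set.ncard_image_of_injOn i0,
    Set.ncard_image_of_injOn i1, Set.ncard_image_of_injOn i2, Set.ncard_image_of_injOn i3, hne,
    ncard_octThrough]
  all_goals try exact Set.toFinite _
  · rw [Set.disjoint_left]
    rintro _ ⟨o, ho, rfl⟩ ⟨j, hj, e'⟩
    have := congrFun e' none
    rw [v2 o ho, v3 j hj] at this
    omega
  · rw [Set.disjoint_left]
    rintro _ ⟨j, hj, rfl⟩ ⟨o, ho, e'⟩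
    have := congrFun e' none
    rw [v0 j, v1 o ho] at this
    omega
  · rw [Set.disjoint_left]
    rintro y (⟨j, hj, rfl⟩ | ⟨o, ho, rfl⟩) (⟨o', ho', e'⟩ | ⟨j', hj', e'⟩) <;>
      have := congrFun e' none
    · rw [v2 o' ho', v0 j] at this; omega
    · rw [v3 j' hj', v0 j] at this; omega
    · rw [v2 o' ho', v1 o ho] at this; omega
    · rw [v3 j' hj', v1 o ho] at this; omega

/-! ### transfer -/

/-- vectors of squared norm 32 with a given inner product -/
def minDot (v : Zv) (d : ℤ) : Set Zv := {x | x ∈ leechLattice ∧ sqNorm x = 32 ∧ dotInt v x = d}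

theorem minDot_orb {v v' : Zv} (h : Orb v v') (d : ℤ) : (minDot v' d).ncard = (minDot v d).ncard := by
  obtain ⟨hv, g, rfl⟩ := h
  symm
  refine Set.ncard_congr (fun x hx => ((g • (⟨x, hx.1⟩ : ↥leechLattice) : ↥leechLattice) : Zv)) ?_ ?_ ?_
  · intro x hx
    exact ⟨(g • (⟨x, hx.1⟩ : ↥leechLattice)).2, (g.2.2 _).trans hx.2.1, (co0_dot g ⟨v, hv⟩ ⟨x, hx.1⟩).trans hx.2.2⟩
  · intro x y hx hy e
    exact congrArg Subtype.val (MulAction.injective g (Subtype.ext e))
  · intro y hy
    have hg : g • (g⁻¹ • (⟨y, hy.1⟩ : ↥leechLattice)) = ⟨y, hy.1⟩ := smul_inv_smul _ _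
    refine ⟨((g⁻¹ • (⟨y, hy.1⟩ : ↥leechLattice) : ↥leechLattice) : Zv), ⟨(g⁻¹ • (⟨y, hy.1⟩ : ↥leechLattice)).2,
      ((g⁻¹).2.2 _).trans hy.2.1, ?_⟩, congrArg Subtype.val hg⟩
    have := co0_dot g ⟨v, hv⟩ (g⁻¹ • (⟨y, hy.1⟩ : ↥leechLattice))
    rw [hg] at this
    exact this.symm.trans hy.2.2

theorem card_halves {u : Zv} (hu : u ∈ leechLattice) (hn : sqNorm u = 48) : (halves u).ncard = 552 := by
  rw [← card_halves_ref]
  exact minDot_orb ((orb_mid uRef_spec.1 uRef_spec.2).symm.trans (orb_mid hu hn)) 24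

theorem card_halves_sub (u : ↥leechLattice) (hu : sqNorm (u : Zv) = 48) :
    {v : ↥leechLattice | sqNorm (v : Zv) = 32 ∧ sqNorm ((u - v) : Zv) = 32}.ncard = 552 := by
  rw [← card_halves u.2 hu, ← Set.ncard_image_of_injective _ Subtype.val_injective]
  congr 1
  ext x
  simp only [Set.mem_image, Set.mem_setOf_eq, halves]
  constructor
  · rintro ⟨v, ⟨h1, h2⟩, rfl⟩
    rw [sqNorm_sub] at h2
    exact ⟨v.2, h1, by omega⟩
  · rintro ⟨h0, h1, h2⟩
    refine ⟨⟨x, h0⟩, ⟨h1, ?_⟩, rfl⟩
    show sqNorm ((u : Zv) - x) = 32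
    rw [sqNorm_sub]; omega

/-! ### the census -/

theorem dot_values {v x : Zv} (hv : v ∈ leechLattice) (hvn : sqNorm v = 32) (hx : x ∈ leechLattice)
    (hxn : sqNorm x = 32) : x = v ∨ x = -v ∨
      (dotInt v x = -16 ∨ dotInt v x = -8 ∨ dotInt v x = 0 ∨ dotInt v x = 8 ∨ dotInt v x = 16) := by
  by_contra h
  simp only [not_or] at h
  obtain ⟨h1, h2, h3⟩ := h
  obtain ⟨⟨k, hk⟩, n1⟩ := leech_norm (sub_mem hv hx)
  obtain ⟨-, n2⟩ := leech_norm (add_mem hv hx)
  have a1 := n1 (sub_ne_zero.2 (Ne.symm h1))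
  have a2 := n2 (fun e => h2 (eq_neg_of_add_eq_zero_right e))
  rw [sqNorm_sub] at hk a1
  rw [sqNorm_add] at a2
  omega

theorem dot_neg_left (v x : Zv) : dotInt v (-x) = -dotInt v x := dot_neg_right v x

theorem minDot_neg (v : Zv) (d : ℤ) : (minDot v (-d)).ncard = (minDot v d).ncard := by
  rw [← Set.ncard_image_of_injective (minDot v d) neg_injective]
  congr 1
  ext x
  simp only [minDot, Set.mem_image, Set.mem_setOf_eq]
  constructor
  · rintro ⟨h1, h2, h3⟩
    exact ⟨-x, ⟨neg_mem h1, by rw [sqNorm_neg, h2], by rw [dot_neg_right, h3, neg_neg]⟩, neg_neg x⟩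
  · rintro ⟨y, ⟨h1, h2, h3⟩, rfl⟩
    exact ⟨neg_mem h1, by rw [sqNorm_neg, h2], by rw [dot_neg_right, h3]⟩

theorem minDot_trans {v v' : Zv} (hv : v ∈ leechLattice) (hvn : sqNorm v = 32) (hv' : v' ∈ leechLattice)
    (hvn' : sqNorm v' = 32) (d : ℤ) : (minDot v' d).ncard = (minDot v d).ncard :=
  minDot_orb ((orb_short hv hvn).symm.trans (orb_short hv' hvn')) d

theorem eight_count {v : Zv} (hv : v ∈ leechLattice) (hvn : sqNorm v = 32) :
    (minDot v 8).ncard = 47104 := by
  rw [← minDot_neg v 8]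
  classical
  set S := (shell_finite (n := 32) (by norm_num)).toFinset with hS
  set U := (shell_finite (n := 48) (by norm_num)).toFinset with hU
  have hSm : ∀ x, x ∈ S ↔ x ∈ leechLattice ∧ sqNorm x = 32 := fun x => Set.Finite.mem_toFinset _
  have hUm : ∀ x, x ∈ U ↔ x ∈ leechLattice ∧ sqNorm x = 48 := fun x => Set.Finite.mem_toFinset _
  have hScard : S.card = 196560 :=
    (Set.ncard_eq_toFinset_card _ (shell_finite (n := 32) (by norm_num))).symm.trans card_short
  have hUcard : U.card = 16773120 :=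
    (Set.ncard_eq_toFinset_card _ (shell_finite (n := 48) (by norm_num))).symm.trans card_mid
  set P := (S ×ˢ S).filter fun q => dotInt q.1 q.2 = -8 with hP
  have h1 : P.card = 196560 * (minDot v (-8)).ncard := by
    rw [Finset.card_eq_sum_card_fiberwise (f := Prod.fst) (t := S)
      (fun q hq => (Finset.mem_product.1 (Finset.mem_filter.1 hq).1).1)]
    rw [Finset.sum_const_nat (m := (minDot v (-8)).ncard), hScard]
    intro x hx
    rw [← minDot_trans hv hvn ((hSm x).1 hx).1 ((hSm x).1 hx).2, ← Set.ncard_coe_finset]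
    refine Set.ncard_congr (fun q _ => q.2) ?_ ?_ ?_
    · intro q hq
      simp only [Finset.mem_coe, Finset.mem_filter, hP, Finset.mem_product, hSm] at hq
      exact ⟨hq.1.1.2.1, hq.1.1.2.2, hq.2 ▸ hq.1.2⟩
    · intro q r hq hr e
      simp only [Finset.mem_coe, Finset.mem_filter] at hq hr
      exact Prod.ext (hq.2.trans hr.2.symm) e
    · intro y hy
      refine ⟨(x, y), ?_, rfl⟩
      simp only [Finset.mem_coe, Finset.mem_filter, hP, Finset.mem_product, hSm]
      exact ⟨⟨⟨(hSm x).1 hx, hy.1, hy.2.1⟩, hy.2.2⟩, trivial⟩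
  have h2 : P.card = 16773120 * 552 := by
    rw [Finset.card_eq_sum_card_fiberwise (f := fun q => q.1 + q.2) (t := U) (fun q hq => by
      rw [Finset.mem_coe, hP, Finset.mem_filter, Finset.mem_product, hSm, hSm] at hq
      refine (hUm _).2 ⟨add_mem hq.1.1.1 hq.1.2.1, ?_⟩
      rw [sqNorm_add, hq.1.1.2, hq.1.2.2, hq.2]; norm_num)]
    rw [Finset.sum_const_nat (m := 552), hUcard]
    intro u hu
    rw [← card_halves ((hUm u).1 hu).1 ((hUm u).1 hu).2, ← Set.ncard_coe_finset]
    refine Set.ncard_congr (fun q _ => q.1) ?_ ?_ ?_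
    · intro q hq
      simp only [Finset.mem_coe, Finset.mem_filter, hP, Finset.mem_product, hSm] at hq
      obtain ⟨⟨⟨⟨a1, a2⟩, b1, b2⟩, hd⟩, rfl⟩ := hq
      refine ⟨a1, a2, ?_⟩
      have e : ∀ p : GolayPt, (q.1 + q.2) p * q.1 p = q.1 p ^ 2 + q.1 p * q.2 p := fun p => by
        simp only [Pi.add_apply]; ring
      rw [dotInt, Finset.sum_congr rfl fun p _ => e p, Finset.sum_add_distrib]
      simp only [sqNorm] at a2
      simp only [dotInt] at hd
      omega
    · intro q r hq hr e
      simp only [Finset.mem_coe, Finset.mem_filter] at hq hr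
      have := hq.2.trans hr.2.symm
      change q.1 + q.2 = r.1 + r.2 at this
      rw [show q.1 = r.1 from e] at this
      exact Prod.ext e (add_left_cancel this)
    · rintro x ⟨hx, hxn, hd⟩
      refine ⟨(x, u - x), ?_, rfl⟩
      have hu' := (hUm u).1 hu
      have hn : sqNorm (u - x) = 32 := by rw [sqNorm_sub]; omega
      have hd' : dotInt x (u - x) = -8 := by
        have e : ∀ p : GolayPt, x p * (u - x) p = u p * x p - x p ^ 2 := fun p => by
          simp only [Pi.sub_apply]; ring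
        rw [dotInt, Finset.sum_congr rfl fun p _ => e p, Finset.sum_sub_distrib]
        simp only [sqNorm] at hxn
        simp only [dotInt] at hd
        omega
      simp only [Finset.mem_coe, Finset.mem_filter, hP, Finset.mem_product, hSm]
      exact ⟨⟨⟨⟨hx, hxn⟩, sub_mem hu'.1 hx, hn⟩, hd'⟩, add_sub_cancel x u⟩
  omega

theorem coord_moments (a b : GolayPt) (hab : a ≠ b) :
    ∑ x ∈ (shell_finite (n := 32) (by norm_num)).toFinset, x a ^ 2 = 262080 ∧
    ∑ x ∈ (shell_finite (n := 32) (by norm_num)).toFinset, x a * x b = 0 := by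
  classical
  set S := (shell_finite (n := 32) (by norm_num)).toFinset with hS
  have hSm : ∀ x, x ∈ S ↔ x ∈ leechLattice ∧ sqNorm x = 32 := fun x => Set.Finite.mem_toFinset _
  constructor
  · have hsame : ∀ c, ∑ x ∈ S, x c ^ 2 = ∑ x ∈ S, x a ^ 2 := by
      intro c
      obtain ⟨σ, hσ, hm⟩ := M24_trans (k := 1) (by norm_num) ⟨fun _ => a, fun u v _ => Subsingleton.elim u v⟩
        ⟨fun _ => c, fun u v _ => Subsingleton.elim u v⟩
      have hσc : σ.symm c = a := by rw [Equiv.symm_apply_eq]; exact (hm 0).symm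
      refine Finset.sum_nbij' (prm σ⁻¹) (prm σ) ?_ ?_ ?_ ?_ ?_
      · intro x hx
        rw [hSm] at hx ⊢
        exact ⟨prm_mem (inv_mem hσ) hx.1, (sqNorm_prm _ _).trans hx.2⟩
      · intro x hx
        rw [hSm] at hx ⊢
        exact ⟨prm_mem hσ hx.1, (sqNorm_prm _ _).trans hx.2⟩
      · intro x _; exact prm_inv_right σ x
      · intro x _; exact prm_inv_left σ x
      · intro x _
        rw [← hσc]
        simp [prm, Equiv.Perm.inv_def]
    have htot : ∑ c, ∑ x ∈ S, x c ^ 2 = 196560 * 32 := by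
      rw [Finset.sum_comm, Finset.sum_congr rfl fun (x : Zv) hx => (show ∑ c, x c ^ 2 = 32 from ((hSm x).1 hx).2),
        Finset.sum_const, nsmul_eq_mul,
        show S.card = 196560 from (Set.ncard_eq_toFinset_card _ _).symm.trans card_short]
      rfl
    rw [Finset.sum_congr rfl fun c _ => hsame c, Finset.sum_const, nsmul_eq_mul, Finset.card_univ,
      show Fintype.card GolayPt = 24 from rfl] at htot
    push_cast at htot
    omega
  · obtain ⟨o, ho, hsep⟩ := separate_codeword a b hab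
    have hoc : ofMaskW o ∈ golayCode := dec_code (by
      have h : ∀ o ∈ octBasis, inCode o = true := by decide +kernel
      exact h o ho) (by
      have h : ∀ o ∈ octBasis, o < 2 ^ 24 := by decide +kernel
      exact h o ho)
    have hneg : ∑ x ∈ S, x a * x b = ∑ x ∈ S, -(x a * x b) := by
      refine Finset.sum_nbij' (sgn (ofMaskW o)) (sgn (ofMaskW o)) ?_ ?_ ?_ ?_ ?_
      · intro x hx
        rw [hSm] at hx ⊢
        exact ⟨sgn_mem hoc hx.1, (sqNorm_sgn _ _).trans hx.2⟩
      · intro x hx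
        rw [hSm] at hx ⊢
        exact ⟨sgn_mem hoc hx.1, (sqNorm_sgn _ _).trans hx.2⟩
      · intro x _; exact sgn_sgn _ x
      · intro x _; exact sgn_sgn _ x
      · intro x _
        rcases hsep with ⟨h1, h2⟩ | ⟨h1, h2⟩ <;> simp [sgn, h1, h2]
    rw [Finset.sum_neg_distrib] at hneg
    omega

theorem pair_census :
    ((minDot (shortBase 0) 16).ncard = 4600) ∧ (minDot (shortBase 0) 0).ncard = 93150 := by
  classical
  set v := shortBase 0 with hv
  have hvL : v ∈ leechLattice := shortBase_mem (by norm_num)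
  have hvn : sqNorm v = 32 := (base_facts.1 0 (by norm_num)).2
  set S := (shell_finite (n := 32) (by norm_num)).toFinset with hS
  have hSm : ∀ x, x ∈ S ↔ x ∈ leechLattice ∧ sqNorm x = 32 := fun x => Set.Finite.mem_toFinset _
  have hfib : ∀ d, ((S.filter fun x => dotInt v x = d).card : ℤ) = (minDot v d).ncard := fun d => by
    rw [← Set.ncard_coe_finset]
    congr 2
    ext x
    simp [minDot, hSm, and_assoc]
  -- the values
  have hvals : ∀ x ∈ S, dotInt v x ∈ ({-32, -16, -8, 0, 8, 16, 32} : Finset ℤ) := by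
    intro x hx
    obtain ⟨h1, h2⟩ := (hSm x).1 hx
    rcases dot_values hvL hvn h1 h2 with rfl | rfl | h | h | h | h | h
    · simp [dot_self, hvn]
    · simp [dot_neg_right, dot_self, hvn]
    all_goals simp [h]
  have h32 : (minDot v 32).ncard = 1 := by
    rw [Set.ncard_eq_one]
    refine ⟨v, Set.eq_singleton_iff_unique_mem.2 ⟨⟨hvL, hvn, by rw [dot_self, hvn]⟩, fun x ⟨h1, h2, h3⟩ => ?_⟩⟩
    rcases dot_values hvL hvn h1 h2 with h | h | h
    · exact h
    · rw [h, dot_neg_right, dot_self, hvn] at h3; omega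
    · omega
  have hB := eight_count hvL hvn
  have htot : (S.card : ℤ) = 196560 := by
    rw [show S.card = 196560 from (Set.ncard_eq_toFinset_card _ _).symm.trans card_short]; rfl
  have hpart := Finset.card_eq_sum_card_fiberwise (f := fun x => dotInt v x) (t := _) hvals
  have hsq : ∑ x ∈ S, dotInt v x ^ 2 = 8386560 := by
    have hv0 : ∀ x : Zv, dotInt v x = 4 * (x (pt 0) + x none) := fun x => by
      have e : ∀ p, v p * x p = (if p = pt 0 then 4 * x p else 0) + if p = none then 4 * x p else 0 := fun p => by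
        have hb : ∀ p, shortBase 0 p = (if p = pt 0 then (4 : ℤ) else 0) + if p = none then 4 else 0 := by
          decide +kernel
        rw [hv, hb, add_mul]
        split_ifs <;> simp
      rw [dotInt, Finset.sum_congr rfl fun p _ => e p, Finset.sum_add_distrib, Finset.sum_ite_eq',
        Finset.sum_ite_eq', if_pos (Finset.mem_univ _), if_pos (Finset.mem_univ _)]
      ring
    have hne : pt 0 ≠ none := by decide +kernel
    obtain ⟨m1, m2⟩ := coord_moments (pt 0) none hne
    obtain ⟨m3, -⟩ := coord_moments none (pt 0) (Ne.symm hne)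
    have e : ∀ x : Zv, dotInt v x ^ 2 = 16 * (x (pt 0)) ^ 2 + 32 * (x (pt 0) * x none) + 16 * (x none) ^ 2 :=
      fun x => by rw [hv0]; ring
    rw [Finset.sum_congr rfl fun x _ => e x, Finset.sum_add_distrib, Finset.sum_add_distrib,
      ← Finset.mul_sum, ← Finset.mul_sum, ← Finset.mul_sum, m1, m2, m3]
    norm_num
  rw [← Finset.sum_fiberwise_of_maps_to hvals] at hsq
  have hinner : ∀ d, ∑ x ∈ S.filter (fun x => dotInt v x = d), dotInt v x ^ 2 = d ^ 2 * ((minDot v d).ncard : ℤ) :=
    fun d => by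
      rw [Finset.sum_congr rfl fun x hx => by rw [(Finset.mem_filter.1 hx).2], Finset.sum_const,
        nsmul_eq_mul, hfib, mul_comm]
  rw [Finset.sum_congr rfl fun d _ => hinner d] at hsq
  have hpart' : (S.card : ℤ) = ∑ d ∈ ({-32, -16, -8, 0, 8, 16, 32} : Finset ℤ), ((minDot v d).ncard : ℤ) := by
    rw [hpart]; push_cast; exact Finset.sum_congr rfl fun d _ => hfib d
  simp only [Finset.sum_insert, Finset.mem_insert, Finset.mem_singleton, Finset.sum_singleton,
    reduceCtorEq, Int.reduceEq, Int.reduceNeg, or_self, not_false_eq_true] at hsq hpart'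
  rw [minDot_neg v 32, minDot_neg v 16, minDot_neg v 8, h32, hB] at hsq hpart'
  constructor <;> omega

theorem census {v : Zv} (hv : v ∈ leechLattice) (hvn : sqNorm v = 32) :
    (minDot v (-16)).ncard = 4600 ∧ (minDot v (-8)).ncard = 47104 ∧ (minDot v 0).ncard = 93150 := by
  have h0 := shortBase_mem (show (0 : ℕ) < 3 by norm_num)
  have hn0 : sqNorm (shortBase 0) = 32 := (base_facts.1 0 (by norm_num)).2
  rw [minDot_neg v 16, minDot_neg v 8, eight_count hv hvn, minDot_trans h0 hn0 hv hvn 16,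
    minDot_trans h0 hn0 hv hvn 0]
  exact ⟨pair_census.1, rfl, pair_census.2⟩

/-! ### transitivity on decompositions -/

theorem fix_none_octad {o o' : Finset GolayPt} (ho : o ∈ octThrough) (ho' : o' ∈ octThrough) :
    ∃ σ ∈ M24, σ none = none ∧ σ • o = o' := by
  classical
  obtain ⟨t, ht, htc⟩ := Finset.exists_subset_card_eq (s := o.erase none) (n := 4)
    (by rw [Finset.card_erase_of_mem ho.2, ho.1.2]; norm_num)
  obtain ⟨t', ht', htc'⟩ := Finset.exists_subset_card_eq (s := o'.erase none) (n := 4)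
    (by rw [Finset.card_erase_of_mem ho'.2, ho'.1.2]; norm_num)
  have mk : ∀ t : Finset GolayPt, t.card = 4 → none ∉ t → ∃ f : Fin 5 ↪ GolayPt,
      f 0 = none ∧ (Finset.univ.map f) = insert none t := by
    intro t hc hn
    let e := (t.equivFinOfCardEq hc).symm
    refine ⟨⟨Fin.cons none (fun i => (e i : GolayPt)), Fin.cons_injective_iff.2 ⟨?_, ?_⟩⟩, rfl, ?_⟩
    · rintro ⟨i, hi⟩
      exact hn (hi ▸ (e i).2)
    · exact Subtype.val_injective.comp e.injective
    · ext p
      simp only [Finset.mem_map, Finset.mem_univ, true_and, Function.Embedding.coeFn_mk, Finset.mem_insert]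
      constructor
      · rintro ⟨i, rfl⟩
        cases i using Fin.cases with
        | zero => exact Or.inl rfl
        | succ i => exact Or.inr (by rw [Fin.cons_succ]; exact (e i).2)
      · rintro (rfl | h)
        · exact ⟨0, rfl⟩
        · exact ⟨(e.symm ⟨p, h⟩).succ, by rw [Fin.cons_succ, Equiv.apply_symm_apply]⟩
  have hn : none ∉ t := fun h => (Finset.mem_erase.1 (ht h)).1 rfl
  have hn' : none ∉ t' := fun h => (Finset.mem_erase.1 (ht' h)).1 rfl
  obtain ⟨f, hf0, hf⟩ := mk t htc hn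
  obtain ⟨f', hf0', hf'⟩ := mk t' htc' hn'
  obtain ⟨σ, hσ, hm⟩ := M24_trans le_rfl f f'
  refine ⟨σ, hσ, by conv_lhs => rw [← hf0]; rw [hm 0, hf0'], octad_eq_of_five (smul_octad hσ ho.1) ho'.1 ?_⟩
  have hsub : insert none t ⊆ o := Finset.insert_subset ho.2 (ht.trans (Finset.erase_subset _ _))
  have hsub' : insert none t' ⊆ o' := Finset.insert_subset ho'.2 (ht'.trans (Finset.erase_subset _ _))
  have himg : σ • insert none t = insert none t' := by
    rw [← hf, ← hf', smul_finset_eq_image]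
    ext p
    simp [hm]
  calc 5 = (insert none t').card := by rw [Finset.card_insert_of_notMem hn', htc']
    _ ≤ _ := Finset.card_le_card (Finset.subset_inter (himg ▸ Finset.smul_finset_subset_smul_finset hsub) hsub')

theorem prm_setWord (σ : Equiv.Perm GolayPt) (o : Finset GolayPt) : actW σ (setWord o) = setWord (σ • o) := by
  funext p
  obtain ⟨q, rfl⟩ := σ.surjective p
  simp [actW, setWord, mem_smul_iff']

theorem family_trans {x y : Zv} (hx : x ∈ halves uRef) (hy : y ∈ halves uRef)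
    (h : |x none| = |y none|) : ∃ σ ∈ M24, σ none = none ∧ prm σ x = y := by
  have key : ∀ {a b : GolayPt}, a ≠ none → b ≠ none → ∃ σ ∈ M24, σ none = none ∧ σ a = b := by
    intro a b ha hb
    obtain ⟨σ, hσ, hm⟩ := M24_trans (k := 2) (by norm_num)
      ⟨![none, a], by intro u v; fin_cases u <;> fin_cases v <;> simp [ha, Ne.symm ha]⟩
      ⟨![none, b], by intro u v; fin_cases u <;> fin_cases v <;> simp [hb, Ne.symm hb]⟩
    exact ⟨σ, hσ, hm 0, hm 1⟩
  rcases half_form hx with ⟨a, ha, rfl⟩ | ⟨o, ho, rfl⟩ | ⟨o, ho, rfl⟩ | ⟨a, ha, rfl⟩ <;>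
    rcases half_form hy with ⟨b, hb, rfl⟩ | ⟨o', ho', rfl⟩ | ⟨o', ho', rfl⟩ | ⟨b, hb, rfl⟩
  case inl.inl =>
    obtain ⟨σ, hσ, h0, h1⟩ := key ha hb
    refine ⟨σ, hσ, h0, ?_⟩
    rw [half0, half0, prm_setVec, Finset.smul_finset_insert, Finset.smul_finset_singleton]
    show setVec 0 4 {σ none, σ a} = _
    rw [h0, h1]
  case inr.inl.inr.inl =>
    obtain ⟨σ, hσ, h0, h1⟩ := fix_none_octad ho ho'
    exact ⟨σ, hσ, h0, by rw [half1, half1, prm_setVec, h1]⟩
  case inr.inr.inl.inr.inr.inl =>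
    obtain ⟨σ, hσ, h0, h1⟩ := fix_none_octad ho ho'
    refine ⟨σ, hσ, h0, ?_⟩
    rw [half2, half2, prm_sgn, prm_setVec, prm_setWord, h1, Finset.smul_finset_singleton]
    show sgn _ (setVec 1 (-3) {σ none}) = _
    rw [h0]
  case inr.inr.inr.inr.inr.inr =>
    obtain ⟨σ, hσ, h0, h1⟩ := key ha hb
    refine ⟨σ, hσ, h0, ?_⟩
    rw [half3, half3, prm_setVec, Finset.smul_finset_singleton]
    show setVec 1 (-3) {σ a} = _
    rw [h1]
  all_goals
    exfalso
    simp [half0, half1, half2, half3, setVec, sgn, setWord] at h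
    simp_all [octThrough, eq_comm]

/-- a word in the generators mixing the four families -/
def pairStep (x : Zv) : Zv :=
  sgn (ofMaskW 7959832) (xi (sgn (ofMaskW 14940796)
    ((fun y p => y (pt ([19, 0, 12, 23, 10, 22, 3, 5, 20, 7, 1, 8, 16, 4, 13, 9, 18, 6, 14, 21, 15, 2, 17, 11].getD (idx p) 0)) :
      Zv → Zv) (xi (sgn (ofMaskW 12325377) x)))))

theorem pairStep_real : ∃ g : ↥Co0, ∀ v : ↥leechLattice, ((g • v : ↥leechLattice) : Zv) = pairStep (v : Zv) := by
  set l := [19, 0, 12, 23, 10, 22, 3, 5, 20, 7, 1, 8, 16, 4, 13, 9, 18, 6, 14, 21, 15, 2, 17, 11] with hl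
  have hok : m24ok l = true := by decide +kernel
  have hσ := lperm_mem hok
  have hr := rep_lperm (m24ok_lok hok)
  obtain ⟨a, ha⟩ := exists_sgn (dec_code (m := 7959832) (by decide +kernel) (by norm_num))
  obtain ⟨b, hb⟩ := exists_xi
  obtain ⟨c, hc⟩ := exists_sgn (dec_code (m := 14940796) (by decide +kernel) (by norm_num))
  obtain ⟨d, hd⟩ := exists_prm (inv_mem hσ)
  obtain ⟨e, he⟩ := exists_sgn (dec_code (m := 12325377) (by decide +kernel) (by norm_num))
  refine ⟨a * b * c * d * b * e, fun v => ?_⟩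
  simp only [mul_smul, ha, hb, hc, hd, he, pairStep]
  congr 3

theorem pairStep_facts :
    leechCheck (half0 (pt 0)) = true ∧ leechCheck (half0 (pt 6)) = true ∧ 9347075 ∈ octMasks ∧
    Nat.testBit 9347075 23 = true ∧ (∀ p, pairStep uRef p = if p = pt 0 then 5 else 1) ∧
    |pairStep (half0 (pt 0)) (pt 0)| = 2 ∧ |pairStep (half0 (pt 6)) (pt 0)| = 1 ∧
    |pairStep (half1 (ofMask 9347075)) (pt 0)| = 3 ∧ pt 0 ≠ none ∧ pt 6 ≠ none := by
  refine ⟨?_, ?_, ?_, ?_, ?_, ?_, ?_, ?_, ?_, ?_⟩ <;> decide +kernel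

theorem halves_transitive {x y : Zv} (hx : x ∈ halves uRef) (hy : y ∈ halves uRef) :
    ∃ g : ↥Co0, g • (⟨uRef, uRef_spec.1⟩ : ↥leechLattice) = ⟨uRef, uRef_spec.1⟩ ∧
      ((g • (⟨x, hx.1⟩ : ↥leechLattice) : ↥leechLattice) : Zv) = y := by
  obtain ⟨-, -, ho, hb, hu, f1, f2, f3, n0, n6⟩ := pairStep_facts
  obtain ⟨s, hs⟩ := pairStep_real
  obtain ⟨τ, hτ, hm⟩ := M24_trans (k := 1) (by norm_num) ⟨fun _ => pt 0, fun u v _ => Subsingleton.elim u v⟩
    ⟨fun _ => (none : GolayPt), fun u v _ => Subsingleton.elim u v⟩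
  have hτ0 : τ.symm none = pt 0 := by rw [Equiv.symm_apply_eq]; exact (hm 0).symm
  obtain ⟨t, ht⟩ := exists_prm hτ
  let U : ↥leechLattice := ⟨uRef, uRef_spec.1⟩
  have hfix : (t * s) • U = U := Subtype.ext (by
    rw [mul_smul, ht, hs]
    show prm τ (pairStep uRef) = uRef
    funext p
    simp only [prm, hu]
    simp only [uRef, setVec, Finset.mem_singleton]
    exact if_congr (by rw [← hτ0, τ.symm.injective.eq_iff]) rfl rfl)
  -- same orbit
  let R : Zv → Zv → Prop := fun a b => ∃ (ha : a ∈ leechLattice) (g : ↥Co0), g • U = U ∧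
    ((g • (⟨a, ha⟩ : ↥leechLattice) : ↥leechLattice) : Zv) = b
  have rsymm : ∀ {a b}, R a b → R b a := by
    rintro a b ⟨ha, g, hg, rfl⟩
    exact ⟨(g • (⟨a, ha⟩ : ↥leechLattice)).2, g⁻¹, by rw [inv_smul_eq_iff, hg],
      congrArg Subtype.val (inv_smul_smul g (⟨a, ha⟩ : ↥leechLattice))⟩
  have rtrans : ∀ {a b c}, R a b → R b c → R a c := by
    rintro a b c ⟨ha, g, hg, rfl⟩ ⟨hb, k, hk, rfl⟩
    exact ⟨ha, k * g, by rw [mul_smul, hg, hk], by rw [mul_smul]⟩
  have rfam : ∀ {a b}, a ∈ halves uRef → b ∈ halves uRef → |a none| = |b none| → R a b := by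
    intro a b ha hb h
    obtain ⟨σ, hσ, h0, e⟩ := family_trans ha hb h
    obtain ⟨g, hg⟩ := exists_prm hσ
    refine ⟨ha.1, g, Subtype.ext ?_, by rw [hg]; exact e⟩
    rw [hg]
    show prm σ uRef = uRef
    rw [uRef, prm_setVec, Finset.smul_finset_singleton]
    show setVec 1 5 {σ none} = _
    rw [h0]
  have rstep : ∀ {a}, a ∈ halves uRef → ∃ b ∈ halves uRef, R a b ∧ |b none| = |pairStep a (pt 0)| := by
    intro a ha
    refine ⟨(((t * s) • (⟨a, ha.1⟩ : ↥leechLattice) : ↥leechLattice) : Zv), ⟨((t * s) • (⟨a, ha.1⟩ : ↥leechLattice)).2,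
      ((t * s).2.2 _).trans ha.2.1, ?_⟩, ⟨ha.1, t * s, hfix, rfl⟩, ?_⟩
    · have := co0_dot (t * s) U ⟨a, ha.1⟩
      rw [hfix] at this
      exact this.trans ha.2.2
    · rw [mul_smul, ht, hs]
      simp only [prm, hτ0]
  have hoct : ofMask 9347075 ∈ octThrough :=
    ⟨mem_octads.2 (by rwa [mask_ofMask (octMasks_lt ho)]), mem_ofMask.2 hb⟩
  have A0 := half_spec.1 (pt 0) n0
  have A6 := half_spec.1 (pt 6) n6
  have A1 := half_spec.2.1 _ hoct
  have val0 : |half0 (pt 0) none| = 4 := by simp [half0, setVec]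
  have val6 : |half0 (pt 6) none| = 4 := by simp [half0, setVec]
  have val1 : |half1 (ofMask 9347075) none| = 2 := by simp [half1, setVec, hoct.2]
  obtain ⟨b2, m2, r2, v2⟩ := rstep A0
  obtain ⟨b1, m1, r1, v1⟩ := rstep A6
  obtain ⟨b3, m3, r3, v3⟩ := rstep A1
  have base : ∀ z, z ∈ halves uRef → R (half0 (pt 0)) z := by
    intro z hz
    rcases half_form hz with ⟨j, hj, rfl⟩ | ⟨o, ho', rfl⟩ | ⟨o, ho', rfl⟩ | ⟨j, hj, rfl⟩
    · exact rfam A0 hz (by rw [val0]; simp [half0, setVec])
    · exact rtrans r2 (rfam m2 hz (by rw [v2, f1]; simp [half1, setVec, ho'.2]))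
    · exact rtrans (rtrans r2 (rtrans (rfam m2 A1 (by rw [v2, f1, val1])) r3))
        (rfam m3 hz (by rw [v3, f3]; simp [half2, sgn, setVec, setWord, ho'.2]))
    · exact rtrans (rtrans (rfam A0 A6 (by rw [val0, val6])) r1)
        (rfam m1 hz (by rw [v1, f2]; simp [half3, setVec, Ne.symm hj]))
  obtain ⟨hL, g, hg, e⟩ := rtrans (rsymm (base x hx)) (base y hy)
  exact ⟨g, hg, e⟩

theorem halves_trans_gen (u v v' : ↥leechLattice) (hu : sqNorm (u : Zv) = 48)
    (hv : sqNorm (v : Zv) = 32 ∧ sqNorm ((u - v) : Zv) = 32)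
    (hv' : sqNorm (v' : Zv) = 32 ∧ sqNorm ((u - v') : Zv) = 32) :
    ∃ g : ↥Co0, g • u = u ∧ g • v = v' := by
  obtain ⟨hx, k, hk⟩ := (orb_mid u.2 hu).symm.trans (orb_mid uRef_spec.1 uRef_spec.2)
  have hku : k • u = ⟨uRef, uRef_spec.1⟩ := Subtype.ext hk
  have hmem : ∀ w : ↥leechLattice, sqNorm (w : Zv) = 32 ∧ sqNorm ((u - w) : Zv) = 32 →
      ((k • w : ↥leechLattice) : Zv) ∈ halves uRef := by
    rintro w ⟨h1, h2⟩
    rw [sqNorm_sub] at h2
    refine ⟨(k • w).2, (k.2.2 w).trans h1, ?_⟩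
    have := co0_dot k u w
    rw [hku] at this
    exact this.trans (by omega)
  obtain ⟨g, hg, e⟩ := halves_transitive (hmem v hv) (hmem v' hv')
  have e' : g • k • v = k • v' := Subtype.ext e
  refine ⟨k⁻¹ * g * k, ?_, ?_⟩
  · rw [mul_smul, mul_smul, hku, hg, ← hku, inv_smul_smul]
  · rw [mul_smul, mul_smul, e', inv_smul_smul]

theorem eight_transitive (v w w' : ↥leechLattice) (hv : sqNorm (v : Zv) = 32) (hw : sqNorm (w : Zv) = 32)
    (hw' : sqNorm (w' : Zv) = 32) (hd : dotInt (v : Zv) (w : Zv) = -8) (hd' : dotInt (v : Zv) (w' : Zv) = -8) :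
    ∃ g : ↥Co0, g • v = v ∧ g • w = w' := by
  have key : ∀ {z : ↥leechLattice}, sqNorm (z : Zv) = 32 → dotInt (v : Zv) (z : Zv) = -8 →
      sqNorm (((v + z : ↥leechLattice)) : Zv) = 48 := fun {z} h1 h2 => by
    rw [AddSubgroup.coe_add, sqNorm_add]; omega
  have hu := key hw hd
  have hu' := key hw' hd'
  obtain ⟨hx, k, hk⟩ := (orb_mid (v + w).2 hu).symm.trans (orb_mid (v + w').2 hu')
  have hku : k • (v + w) = v + w' := Subtype.ext hk
  have hkv : sqNorm ((k • v : ↥leechLattice) : Zv) = 32 := (k.2.2 v).trans hv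
  have hsub : sqNorm ((((v + w' : ↥leechLattice)) : Zv) - ((k • v : ↥leechLattice) : Zv)) = 32 := by
    have e : k • w = (v + w') - k • v := eq_sub_of_add_eq (by rw [add_comm, ← co0_add, hku])
    rw [← AddSubgroup.coe_sub, ← e]
    exact (k.2.2 w).trans hw
  have hbase : sqNorm ((((v + w' : ↥leechLattice)) : Zv) - (v : Zv)) = 32 := by
    rw [AddSubgroup.coe_add, add_sub_cancel_left]; exact hw'
  obtain ⟨g, hg, hg'⟩ := halves_trans_gen (v + w') (k • v) v hu' ⟨hkv, hsub⟩ ⟨hv, hbase⟩
  have hfix : (g * k) • v = v := by rw [mul_smul, hg']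
  refine ⟨g * k, hfix, ?_⟩
  have h := co0_add (g * k) v w
  rw [mul_smul g k (v + w), hku, hg, hfix] at h
  exact (add_left_cancel h).symm

end Cfsg.Agent.Spor
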