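/-
The stabiliser of the standard cross is maximal in Co0, and Co0 modulo its centre is simple.
-/
import Cfsg.Agent.Lib.Spor.LeechPairs
import Cfsg.Agent.Lib.Spor.CrossWordData
import Cfsg.Agent.Lib.Spor.MathieuSimple

set_option autoImplicit false
set_option maxRecDepth 100000

namespace Cfsg.Agent.Spor

open Cfsg
open scoped Pointwise symmDiff

local notation "Zv" => GolayPt → ℤ

/-! ### words -/

/-- the map of a step -/
def LOp.app : LOp → Zv → Zv
  | .xiO, y => xi y
  | .sgO m, y => sgn (ofMaskW m) y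
  | .plO l, y => fun p => y (pt (l.getD (idx p) 0))

/-- legality of a step -/
def LOp.ok : LOp → Bool
  | .xiO => true
  | .sgO m => inCode m && decide (m < 2 ^ 24)
  | .plO l => m24ok l

/-- a step on lists -/
def LOp.ev (op : LOp) (l : List ℤ) : List ℤ := (List.range 24).map fun k => op.app (vecOf l) (pt k)

/-- the trace of a word -/
def traceOk : List LOp → List (List ℤ) → Bool
  | [], [_] => true
  | op :: w, a :: b :: t => (op.ev b == a) && op.ok && traceOk w (b :: t)
  | _, _ => false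

theorem vecOf_ev (op : LOp) (l : List ℤ) : vecOf (op.ev l) = op.app (vecOf l) := funext fun p => by
  show ((List.range 24).map fun k => op.app (vecOf l) (pt k)).getD (idx p) 0 = _
  rw [List.getD_eq_getElem _ _ (by simpa using idx_lt p), List.getElem_map, List.getElem_range, pt_idx]

theorem op_realize (H : Subgroup ↥Co0) (hM : ∀ g : ↥Co0, StdStab g → g ∈ H) {x : ↥Co0} (hx : x ∈ H)
    (hxi : ∀ v : ↥leechLattice, ((x • v : ↥leechLattice) : Zv) = xi (v : Zv)) {op : LOp} (h : op.ok = true) :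
    ∃ g ∈ H, ∀ v : ↥leechLattice, ((g • v : ↥leechLattice) : Zv) = op.app (v : Zv) := by
  cases op with
  | xiO => exact ⟨x, hx, hxi⟩
  | sgO m =>
    simp only [LOp.ok, Bool.and_eq_true, decide_eq_true_eq] at h
    obtain ⟨g, hg⟩ := exists_sgn (dec_code h.1 h.2)
    exact ⟨g, hM g (mono_std (σ := 1) (w := ofMaskW m) fun v => (hg v).trans (congrArg (sgn (ofMaskW m))
      (funext fun p => by simp [prm, Equiv.Perm.one_def]))), hg⟩
  | plO l =>
    obtain ⟨g, hg⟩ := exists_prm (inv_mem (lperm_mem h))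
    refine ⟨g, hM g (mono_std (σ := (lperm l)⁻¹) (w := 0) fun v => ?_), fun v => ?_⟩
    · rw [hg]; funext p; simp [sgn]
    · rw [hg]
      funext p
      simp only [prm, Equiv.Perm.inv_def, Equiv.symm_symm, LOp.app]
      rw [Rep.apply (rep_lperm (m24ok_lok h)) p]

/-- the map of a word -/
def wordApp : List LOp → Zv → Zv
  | [], y => y
  | op :: w, y => op.app (wordApp w y)

theorem wordApp_append (w w' : List LOp) (y : Zv) : wordApp (w ++ w') y = wordApp w (wordApp w' y) := by
  induction w with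
  | nil => rfl
  | cons op w ih => exact congrArg op.app ih

theorem word_elem (H : Subgroup ↥Co0) (hM : ∀ g : ↥Co0, StdStab g → g ∈ H) {x : ↥Co0} (hx : x ∈ H)
    (hxi : ∀ v : ↥leechLattice, ((x • v : ↥leechLattice) : Zv) = xi (v : Zv)) :
    ∀ w : List LOp, w.all LOp.ok = true →
      ∃ g ∈ H, ∀ v : ↥leechLattice, ((g • v : ↥leechLattice) : Zv) = wordApp w (v : Zv) := by
  intro w
  induction w with
  | nil => exact fun _ => ⟨1, one_mem _, fun v => by rw [one_smul]; rfl⟩
  | cons op w ih =>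
    intro h
    rw [List.all_cons, Bool.and_eq_true] at h
    obtain ⟨g, hg, e⟩ := ih h.2
    obtain ⟨k, hk, e'⟩ := op_realize H hM hx hxi h.1
    exact ⟨k * g, mul_mem hk hg, fun v => by rw [mul_smul, e', e]; rfl⟩

theorem trace_sound : ∀ (w : List LOp) (t : List (List ℤ)), traceOk w t = true →
    w.all LOp.ok = true ∧ wordApp w (vecOf (t.getLastD [])) = vecOf (t.headD []) := by
  intro w
  induction w with
  | nil =>
    intro t ht
    match t, ht with
    | [a], _ => exact ⟨rfl, rfl⟩
  | cons op w ih =>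
    intro t ht
    match t, ht with
    | a :: b :: t, ht =>
      simp only [traceOk, Bool.and_eq_true, beq_iff_eq] at ht
      obtain ⟨h1, h2⟩ := ih (b :: t) ht.2
      refine ⟨by rw [List.all_cons, ht.1.2, h1]; rfl, ?_⟩
      show op.app (wordApp w (vecOf ((b :: t).getLastD []))) = vecOf a
      rw [h2, ← ht.1.1, vecOf_ev]
      rfl

/-- an image of a base vector is recognised by shape and profile -/
theorem type_of {z : Zv} (hz : z ∈ leechLattice) (hn : sqNorm z = 64)
    (hs : ((∀ i, z i % 2 = 0) ∧ (digSet z).card ≤ 12) ∨ ∀ i, z i % 2 = 1) {j : ℕ} (hj : j < 7)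
    (hp : prof z = prof (crossBase j)) : IsImg (crossBase j) z := by
  obtain ⟨i, hi, h⟩ : CrossForm z := by
    rcases hs with ⟨he, hd⟩ | ho
    · exact good_even hz hn he hd
    · exact good_odd hz hn ho
  have := prof_img h
  rw [hp] at this
  have hij : i = j := by
    obtain ⟨p0, p1, p2, p3, p4, p5, p6⟩ := cross_profiles
    interval_cases i <;> interval_cases j <;>
      first | rfl | (exfalso; simp only [p0, p1, p2, p3, p4, p5, p6] at this; omega)
  exact hij ▸ h

/-- the check of a member -/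
def memberCheck (z : Zv) (t : ℤ) : Bool :=
  leechCheck z && decide (sqNorm z = 64) &&
    ((decide (∀ i, z i % 2 = 0) && decide ((digSet z).card ≤ 12)) || decide (∀ i, z i % 2 = 1)) &&
    decide (prof z = t)

theorem crossWords_ok : ∀ j, j < 6 →
    traceOk (crossWords.getD j (0, [], [])).2.1 (crossWords.getD j (0, [], [])).2.2 = true ∧
    memberCheck (vecOf ((crossWords.getD j (0, [], [])).2.2.headD [])) (prof (crossBase (j + 1))) = true ∧
    (∀ p, vecOf ((crossWords.getD j (0, [], [])).2.2.getLastD []) p =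
      if p = pt (crossWords.getD j (0, [], [])).1 then 8 else 0) := by
  decide +kernel

theorem crossTwice_ok : ∀ j, j < 6 →
    traceOk ((crossWords.getD j (0, [], [])).2.1 ++
      [LOp.sgO (crossTwice.getD j (0, 0, [])).1] ++ (crossWords.getD j (0, [], [])).2.1)
      (crossTwice.getD j (0, 0, [])).2.2 = true ∧
    memberCheck (vecOf ((crossTwice.getD j (0, 0, [])).2.2.headD [])) (prof (crossBase 1)) = true ∧
    (∀ p, vecOf ((crossTwice.getD j (0, 0, [])).2.2.getLastD []) p =
      if p = pt (crossTwice.getD j (0, 0, [])).2.1 then 8 else 0) := by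
  decide +kernel

theorem first_word : (crossWords.getD 0 (0, [], [])).2.1 = [.sgO 4277183, .xiO] := rfl

/-! ### maximality -/

/-- the lattice class of the image of the standard cross -/
def imgCross (g : ↥Co0) : Set Zv := cross ((g • e8 none : ↥leechLattice) : Zv)

theorem e8_norm (i : GolayPt) : sqNorm (e8 i : Zv) = 64 := by
  have h : ∀ i : GolayPt, sqNorm (Pi.single i 8 : Zv) = 64 := by decide +kernel
  exact h i

theorem cross_act (g : ↥Co0) {a b : ↥leechLattice} (h : cross (a : Zv) = cross (b : Zv)) :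
    cross ((g • a : ↥leechLattice) : Zv) = cross ((g • b : ↥leechLattice) : Zv) := by
  obtain ⟨hn, hc⟩ := (cross_eq_iff b.2).1 h
  exact (cross_eq_iff (g • b).2).2 ⟨(g.2.2 b).trans (hn.trans (g.2.2 a).symm), orb_cong a.2 b.2 hc⟩

theorem cross_e8 (i : GolayPt) : cross (e8 i : Zv) = cross (e8 none : Zv) := by
  have h : (e8 i : Zv) ∈ cross (e8 none : Zv) := stdCross_eq ▸ e8_std i
  exact ((cross_eq_iff (e8 i).2).2 ⟨h.2.1, h.2.2⟩).symm

theorem cross_std {y : Zv} (hy : y ∈ leechLattice) (h : y ∈ stdCross) : cross y = cross (e8 none : Zv) := by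
  rw [stdCross_eq] at h
  exact ((cross_eq_iff hy).2 ⟨h.2.1, h.2.2⟩).symm

theorem stdStab_iff {g : ↥Co0} : StdStab g ↔ imgCross g = cross (e8 none : Zv) := by
  constructor
  · intro h
    exact cross_std (g • e8 none).2 (h _ (e8_std none))
  · intro h v hv
    have h1 := cross_act g (a := v) (b := e8 none) (cross_std v.2 hv)
    have h2 : ((g • v : ↥leechLattice) : Zv) ∈ cross (e8 none : Zv) := by
      rw [← h, imgCross, ← h1]
      exact self_mem_cross (g • v).2
    exact (congrArg (fun S : Set Zv => ((g • v : ↥leechLattice) : Zv) ∈ S) stdCross_eq).mpr h2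

theorem stdStab_of_mem {H : Subgroup ↥Co0} (hH : ∀ g : ↥Co0, g ∈ H ↔ StdStab g) (g : ↥Co0) :
    StdStab g → g ∈ H := (hH g).2

/-- reaching a class from the standard cross inside a subgroup -/
def Reach (b : Subgroup ↥Co0) (z : Zv) : Prop := ∃ g ∈ b, imgCross g = cross z

theorem reach_use {b : Subgroup ↥Co0} (hM : ∀ g : ↥Co0, StdStab g → g ∈ b) {z : Zv} (hr : Reach b z)
    {k : ↥Co0} (hk : imgCross k = cross z) : k ∈ b := by
  obtain ⟨g, hg, e⟩ := hr
  have hs : StdStab (g⁻¹ * k) := by
    rw [stdStab_iff, imgCross, mul_smul]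
    rw [cross_act g⁻¹ (a := k • e8 none) (b := g • e8 none) (hk.trans e.symm), inv_smul_smul]
  have := mul_mem hg (hM _ hs)
  rwa [mul_inv_cancel_left] at this

theorem reach_img {b : Subgroup ↥Co0} (hM : ∀ g : ↥Co0, StdStab g → g ∈ b) {x z : Zv}
    (hx : x ∈ leechLattice) (h : IsImg x z) : Reach b x ↔ Reach b z := by
  obtain ⟨σ, hσ, w, hw, rfl⟩ := h
  obtain ⟨n, hn⟩ := mono_exists hσ (actW_mem hσ hw)
  have hnb : n ∈ b := hM n (mono_std hn)
  have e : ((n • (⟨x, hx⟩ : ↥leechLattice) : ↥leechLattice) : Zv) = prm σ (sgn w x) := by rw [hn, prm_sgn]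
  constructor
  · rintro ⟨g, hg, hc⟩
    refine ⟨n * g, mul_mem hnb hg, ?_⟩
    rw [imgCross, mul_smul, cross_act n (a := g • e8 none) (b := ⟨x, hx⟩) hc, e]
  · rintro ⟨g, hg, hc⟩
    refine ⟨n⁻¹ * g, mul_mem (inv_mem hnb) hg, ?_⟩
    rw [imgCross, mul_smul, cross_act n⁻¹ (a := g • e8 none) (b := n • ⟨x, hx⟩) (hc.trans (by rw [e])),
      inv_smul_smul]

theorem trace_reach {b : Subgroup ↥Co0} (hM : ∀ g : ↥Co0, StdStab g → g ∈ b) {g : ↥Co0}
    {w : List LOp} (hg : ∀ v : ↥leechLattice, ((g • v : ↥leechLattice) : Zv) = wordApp w (v : Zv))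
    {t : List (List ℤ)} {i j : ℕ} (hj : j < 7) (ht : traceOk w t = true)
    (hm : memberCheck (vecOf (t.headD [])) (prof (crossBase j)) = true)
    (hlast : ∀ p, vecOf (t.getLastD []) p = if p = pt i then 8 else 0) :
    (g ∈ b → Reach b (crossBase j)) ∧ (Reach b (crossBase j) → g ∈ b) := by
  simp only [memberCheck, Bool.and_eq_true, decide_eq_true_eq, Bool.or_eq_true] at hm
  obtain ⟨⟨⟨m1, m2⟩, m3⟩, m4⟩ := hm
  have hz := type_of (leechCheck_mem m1) m2 m3 hj m4
  have hbase : crossBase j ∈ leechLattice := leechCheck_mem (crossBase_facts _ hj).1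
  have hlastv : vecOf (t.getLastD []) = (e8 (pt i) : Zv) := funext fun p => by
    rw [hlast p]
    show _ = (Pi.single (pt i) 8 : Zv) p
    rw [Pi.single_apply]
  have e : imgCross g = cross (vecOf (t.headD [])) := by
    rw [imgCross, ← cross_act g (a := e8 (pt i)) (b := e8 none) (cross_e8 _), hg, ← hlastv,
      (trace_sound w t ht).2]
  exact ⟨fun h => (reach_img hM hbase hz).2 ⟨g, h, e⟩, fun h => reach_use hM ((reach_img hM hbase hz).1 h) e⟩

theorem word_reach {b : Subgroup ↥Co0} (hM : ∀ g : ↥Co0, StdStab g → g ∈ b) {x : ↥Co0} (hx : x ∈ b)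
    (hxi : ∀ v : ↥leechLattice, ((x • v : ↥leechLattice) : Zv) = xi (v : Zv)) {j : ℕ} (hj : j < 6) :
    Reach b (crossBase (j + 1)) := by
  obtain ⟨ht, hm, hlast⟩ := crossWords_ok j hj
  obtain ⟨g, hg, e⟩ := word_elem b hM hx hxi _ (trace_sound _ _ ht).1
  exact (trace_reach hM e (by omega) ht hm hlast).1 hg

theorem reach_xi {b : Subgroup ↥Co0} (hM : ∀ g : ↥Co0, StdStab g → g ∈ b) {x : ↥Co0}
    (hxi : ∀ v : ↥leechLattice, ((x • v : ↥leechLattice) : Zv) = xi (v : Zv)) {j : ℕ} (hj : j < 6)
    (hr : Reach b (crossBase (j + 1))) : x ∈ b := by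
  obtain ⟨ht, hm, hlast⟩ := crossWords_ok j hj
  obtain ⟨g, -, e⟩ := word_elem ⊤ (fun _ _ => Subgroup.mem_top _) (Subgroup.mem_top x) hxi _ (trace_sound _ _ ht).1
  have hgb : g ∈ b := (trace_reach hM e (by omega) ht hm hlast).2 hr
  obtain ⟨ht2, hm2, hlast2⟩ := crossTwice_ok j hj
  have hall := (trace_sound _ _ ht2).1
  obtain ⟨n, hn, en⟩ := op_realize ⊤ (fun _ _ => Subgroup.mem_top _) (Subgroup.mem_top x) hxi
    (op := LOp.sgO (crossTwice.getD j (0, 0, [])).1) (by
      rw [List.all_append, List.all_append, Bool.and_eq_true, Bool.and_eq_true] at hall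
      simpa using hall.1.2)
  have hnb : n ∈ b := by
    refine hM n (mono_std (σ := 1) (w := ofMaskW (crossTwice.getD j (0, 0, [])).1) fun v => ?_)
    rw [en]
    show sgn _ _ = sgn _ _
    exact congrArg _ (funext fun p => by simp [prm, Equiv.Perm.one_def])
  have eV : ∀ v : ↥leechLattice, (((g * n * g) • v : ↥leechLattice) : Zv) =
      wordApp ((crossWords.getD j (0, [], [])).2.1 ++ [LOp.sgO (crossTwice.getD j (0, 0, [])).1] ++
        (crossWords.getD j (0, [], [])).2.1) (v : Zv) := fun v => by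
    rw [mul_smul, mul_smul, e, en, e, wordApp_append, wordApp_append]
    rfl
  have h1 := (trace_reach hM eV (by norm_num : 1 < 7) ht2 hm2 hlast2).1 (mul_mem (mul_mem hgb hnb) hgb)
  -- the first word
  obtain ⟨ht1, hm1, hlast1⟩ := crossWords_ok 0 (by norm_num)
  obtain ⟨g1, -, e1⟩ := word_elem ⊤ (fun _ _ => Subgroup.mem_top _) (Subgroup.mem_top x) hxi _ (trace_sound _ _ ht1).1
  have hg1 : g1 ∈ b := (trace_reach hM e1 (by norm_num) ht1 hm1 hlast1).2 h1
  obtain ⟨s, hs⟩ := exists_sgn (dec_code (m := 4277183) (by decide +kernel) (by norm_num))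
  have hsb : s ∈ b := hM s (mono_std (σ := 1) fun v => (hs v).trans (congrArg _
    (funext fun p => by simp [prm, Equiv.Perm.one_def])))
  have : x = s * g1 := co0_ext fun v => by
    rw [mul_smul, hs, e1, hxi, first_word]
    show xi (v : Zv) = sgn _ (sgn _ (xi (v : Zv)))
    rw [sgn_sgn]
  rw [this]
  exact mul_mem hsb hg1

theorem stdStab_ne_top : ¬ ∀ g : ↥Co0, StdStab g := by
  intro h
  have := card_std_stab
  rw [Nat.card_congr (Equiv.subtypeUnivEquiv h), card_co0] at this
  norm_num at this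

theorem maximal_stdStab {H : Subgroup ↥Co0} (hH : ∀ g : ↥Co0, g ∈ H ↔ StdStab g) : IsCoatom H := by
  refine ⟨fun h => stdStab_ne_top fun g => (hH g).1 (h ▸ Subgroup.mem_top g), fun b hb => ?_⟩
  have hM : ∀ g : ↥Co0, StdStab g → g ∈ b := fun g hg => hb.le ((hH g).2 hg)
  obtain ⟨h, hhb, hhH⟩ := SetLike.exists_of_lt hb
  rw [hH] at hhH
  -- a nontrivial type is reached
  set y := ((h • e8 none : ↥leechLattice) : Zv) with hy
  have hyn : sqNorm y = 64 := (h.2.2 _).trans (e8_norm none)
  obtain ⟨z, hc, hzn, j, hj, hz⟩ := norm_eight_form (h • e8 none).2 hyn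
  have hbase : crossBase j ∈ leechLattice := leechCheck_mem (crossBase_facts j hj).1
  have hzy : imgCross h = cross z := (cross_eq_iff (img_mem hbase hz)).2 ⟨hzn.trans hyn.symm, hc⟩
  have hj0 : j ≠ 0 := by
    rintro rfl
    apply hhH
    rw [stdStab_iff, hzy]
    obtain ⟨σ, hσ, w, hw, rfl⟩ := hz
    refine cross_std (img_mem hbase ⟨σ, hσ, w, hw, rfl⟩) ?_
    refine ⟨σ none, if w none = 0 then 8 else -8, by split_ifs <;> simp, funext fun p => ?_⟩
    obtain ⟨q, rfl⟩ := σ.surjective p
    have hb0 : ∀ q, crossBase 0 q = if q = none then 8 else 0 := by decide +kernel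
    simp only [prm, sgn, Equiv.symm_apply_apply, hb0, Pi.single_apply, σ.injective.eq_iff]
    by_cases hq : q = none
    · subst hq; simp
    · simp [hq]
  have hr : Reach b (crossBase j) := (reach_img hM hbase hz).2 ⟨h, hhb, hzy⟩
  -- the sextet element
  obtain ⟨x, hxi⟩ := exists_xi
  obtain ⟨j', rfl⟩ : ∃ j', j = j' + 1 := ⟨j - 1, by omega⟩
  have hxb : x ∈ b := reach_xi hM hxi (by omega) hr
  -- everything is reached
  refine eq_top_iff.2 fun g _ => reach_use hM (z := ((g • e8 none : ↥leechLattice) : Zv)) ?_ rfl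
  have hgn : sqNorm ((g • e8 none : ↥leechLattice) : Zv) = 64 := (g.2.2 _).trans (e8_norm none)
  obtain ⟨u, huc, hun, i, hi, hu⟩ := norm_eight_form (g • e8 none).2 hgn
  have hib : crossBase i ∈ leechLattice := leechCheck_mem (crossBase_facts i hi).1
  have hri : Reach b (crossBase i) := by
    rcases i with _ | i
    · refine ⟨1, one_mem _, ?_⟩
      rw [imgCross, one_smul]
      exact congrArg cross (show (Pi.single none 8 : Zv) = crossBase 0 by funext p; revert p; decide +kernel)
    · exact word_reach hM hxb hxi (by omega)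
  obtain ⟨k, hk, e⟩ := (reach_img hM hib hu).1 hri
  exact ⟨k, hk, e.trans ((cross_eq_iff (img_mem hib hu)).2 ⟨hun.trans hgn.symm, huc⟩).symm⟩

/-! ### simplicity -/

/-- the monomial subgroup -/
def monoSub : Subgroup ↥Co0 where
  carrier := {g | imgCross g = cross (e8 none : Zv)}
  one_mem' := by simp [imgCross]
  mul_mem' {g k} hg hk := by
    simp only [Set.mem_setOf_eq, imgCross, mul_smul] at hg hk ⊢
    rw [cross_act g (a := k • e8 none) (b := e8 none) hk, hg]
  inv_mem' {g} hg := by
    simp only [Set.mem_setOf_eq, imgCross] at hg ⊢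
    have := cross_act g⁻¹ (a := g • e8 none) (b := e8 none) hg
    rw [inv_smul_smul] at this
    exact this.symm

theorem mem_monoSub {g : ↥Co0} : g ∈ monoSub ↔ StdStab g := stdStab_iff.symm

theorem monoSub_coatom : IsCoatom monoSub := maximal_stdStab fun _ => mem_monoSub

theorem card_monoSub : Nat.card monoSub = 4096 * 244823040 := by
  rw [← card_std_stab]
  exact Nat.card_congr (Equiv.subtypeEquivRight fun g => mem_monoSub)

theorem co0_finite : Finite ↥Co0 := Nat.finite_of_card_ne_zero (by rw [card_co0]; norm_num)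

/-- an automorphism fixing every cross is central -/
theorem fix_all_central {k : ↥Co0}
    (h : ∀ y : ↥leechLattice, sqNorm (y : Zv) = 64 → cross ((k • y : ↥leechLattice) : Zv) = cross (y : Zv)) :
    k ∈ Subgroup.center ↥Co0 := by
  refine kernel_central k fun v => ?_
  let M : AddSubgroup ↥leechLattice :=
    { carrier := {v | ∃ w : ↥leechLattice, ((k • v : ↥leechLattice) : Zv) - (v : Zv) = 2 • (w : Zv)}
      zero_mem' := ⟨0, by
        have h0 : k • (0 : ↥leechLattice) = 0 := by
          have := co0_add k 0 0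
          rwa [add_zero, left_eq_add] at this
        rw [h0]; simp⟩
      add_mem' := by
        rintro a b ⟨w, hw⟩ ⟨w', hw'⟩
        refine ⟨w + w', ?_⟩
        rw [co0_add, AddSubgroup.coe_add, AddSubgroup.coe_add, AddSubgroup.coe_add, smul_add, ← hw, ← hw']
        abel
      neg_mem' := by
        rintro a ⟨w, hw⟩
        refine ⟨-w, ?_⟩
        have hn : k • (-a) = -(k • a) := by
          refine eq_neg_of_add_eq_zero_left ?_
          rw [← co0_add, neg_add_cancel]
          have := co0_add k 0 0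
          rwa [add_zero, left_eq_add] at this
        rw [hn, AddSubgroup.coe_neg, AddSubgroup.coe_neg, AddSubgroup.coe_neg, smul_neg, ← hw]
        abel }
  have h64 : ∀ y : ↥leechLattice, sqNorm (y : Zv) = 64 → y ∈ M := fun y hy => by
    obtain ⟨-, z, hz, e⟩ := (cross_eq_iff y.2).1 (h y hy)
    exact ⟨⟨z, hz⟩, e⟩
  have h32 : ∀ y : ↥leechLattice, sqNorm (y : Zv) = 32 → ∃ a b : ↥leechLattice,
      sqNorm (a : Zv) = 64 ∧ sqNorm (b : Zv) = 64 ∧ y = a - b := by
    intro y hy
    obtain ⟨-, a, b, ha, hb, han, hbn, hab⟩ := saturated_examples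
    have hd : a - b ∈ leechLattice := sub_mem (leechCheck_mem ha) (leechCheck_mem hb)
    obtain ⟨g, hg⟩ := transitive_of_orb (fun y hy hn => orb_short hy hn) ⟨a - b, hd⟩ y hab hy
    refine ⟨g • ⟨a, leechCheck_mem ha⟩, g • ⟨b, leechCheck_mem hb⟩, (g.2.2 _).trans han,
      (g.2.2 _).trans hbn, ?_⟩
    rw [← hg]
    refine eq_sub_of_add_eq ?_
    rw [← co0_add]
    congr 1
    exact Subtype.ext (sub_add_cancel a b)
  have hle : leechLattice ≤ M.map leechLattice.subtype := by
    conv_lhs => rw [← minimal_generate]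
    refine (AddSubgroup.closure_le _).2 fun x hx => ?_
    obtain ⟨a, b, ha, hb, e⟩ := h32 ⟨x, hx.1⟩ hx.2
    exact ⟨⟨x, hx.1⟩, e ▸ sub_mem (h64 a ha) (h64 b hb), rfl⟩
  obtain ⟨u, hu, e⟩ := hle v.2
  rw [← Subtype.ext e]
  exact hu

/-- the translation in the monomial subgroup -/
theorem exists_shift : ∃ g : ↥Co0, g ∈ monoSub ∧ orderOf g = 23 ∧
    ∀ v : ↥leechLattice, ((g • v : ↥leechLattice) : Zv) = prm genA (v : Zv) := by
  have hA : genA ∈ M24 := genH_le genA_mem_genH
  obtain ⟨g, hg⟩ := exists_prm hA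
  refine ⟨g, mem_monoSub.2 (mono_std (σ := genA) (w := 0) fun v => ?_), ?_, hg⟩
  · rw [hg]; funext p; simp [sgn]
  haveI : Fact (Nat.Prime 23) := ⟨by norm_num⟩
  have hpow : ∀ (n : ℕ) (v : ↥leechLattice), ((g ^ n • v : ↥leechLattice) : Zv) = prm (genA ^ n) (v : Zv) := by
    intro n
    induction n with
    | zero => intro v; funext p; simp [prm, Equiv.Perm.one_def]
    | succ n ih => intro v; rw [pow_succ, pow_succ, mul_smul, ih, hg]; rfl
  refine orderOf_eq_prime (co0_ext fun v => ?_) ?_
  · rw [hpow, one_smul, show genA ^ 23 = 1 by decide +kernel]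
    funext p; simp [prm, Equiv.Perm.one_def]
  · intro h1
    have := hg (e8 (pt 0))
    rw [h1, one_smul] at this
    have h2 := congrFun this (pt 0)
    have hne : genA.symm (pt 0) ≠ pt 0 := by decide +kernel
    simp [e8, prm, Pi.single_apply, hne] at h2

theorem shift_fixed {g : ↥Co0} (hg : ∀ v : ↥leechLattice, ((g • v : ↥leechLattice) : Zv) = prm genA (v : Zv))
    {y : ↥leechLattice} (hy : sqNorm (y : Zv) = 64)
    (hfix : cross ((g • y : ↥leechLattice) : Zv) = cross (y : Zv)) : cross (y : Zv) = cross (e8 none : Zv) := by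
  classical
  haveI : Fact (Nat.Prime 23) := ⟨by norm_num⟩
  have hfin : (cross (y : Zv)).Finite :=
    (shell_finite (n := 64) le_rfl).subset fun z hz => ⟨hz.1, hz.2.1.trans hy⟩
  haveI := hfin.fintype
  have hmaps : ∀ z : ↥(cross (y : Zv)), prm genA (z : Zv) ∈ cross (y : Zv) := fun z => by
    have h1 := cross_act g (a := y) (b := ⟨z, z.2.1⟩) ((cross_eq_iff z.2.1).2 ⟨z.2.2.1, z.2.2.2⟩)
    have h2 := self_mem_cross (g • (⟨z, z.2.1⟩ : ↥leechLattice)).2
    rw [← h1, hfix, hg] at h2
    exact h2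
  have hA : Function.Injective (prm genA) := Function.LeftInverse.injective (prm_inv_left genA)
  let π : Equiv.Perm ↥(cross (y : Zv)) := Equiv.ofBijective (fun z => ⟨prm genA z, hmaps z⟩)
    (Finite.injective_iff_bijective.1 fun a b e => Subtype.ext (hA (congrArg Subtype.val e)))
  have hπ : ∀ (n : ℕ) (z : ↥(cross (y : Zv))), ((π ^ n) z : Zv) = prm (genA ^ n) (z : Zv) := by
    intro n
    induction n with
    | zero => intro z; funext p; simp [prm, Equiv.Perm.one_def]
    | succ n ih => intro z; rw [pow_succ, pow_succ, Equiv.Perm.mul_apply, ih]; rfl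
  obtain ⟨z, hz⟩ := Equiv.Perm.exists_fixed_point_of_prime (p := 23) (n := 1) (σ := π) (by
      rw [← Nat.card_eq_fintype_card, Nat.card_coe_set_eq, cross_card y.2 hy]
      decide) (by
      refine Equiv.ext fun z => Subtype.ext ?_
      rw [hπ, show genA ^ (23 ^ 1) = 1 by decide +kernel]
      funext p; simp [prm, Equiv.Perm.one_def])
  have hzf : prm genA (z : Zv) = (z : Zv) := congrArg Subtype.val hz
  have hconst : ∀ i, i < 23 → (z : Zv) (pt i) = (z : Zv) (pt 0) := by
    intro i
    induction i with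
    | zero => exact fun _ => rfl
    | succ i ih =>
      intro hi
      have hs : ∀ i, i < 22 → genA.symm (pt (i + 1)) = pt i := by decide +kernel
      rw [← ih (by omega)]
      conv_lhs => rw [← hzf]
      simp only [prm, hs i (by omega)]
  set a := (z : Zv) (pt 0)
  set b := (z : Zv) none
  have hval : ∀ p, (z : Zv) p = if p = none then b else a := fun p => by
    split_ifs with hp
    · rw [hp]
    · rw [← pt_idx p]
      refine hconst _ ?_
      by_contra h23
      have := idx_lt p
      exact hp (idx_injective (by show idx p = 23; omega))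
  have hsq : 23 * a ^ 2 + b ^ 2 = 64 := by
    have e := z.2.2.1.trans hy
    have hterm : ∀ p, (z : Zv) p ^ 2 = a ^ 2 + if p = none then b ^ 2 - a ^ 2 else 0 := fun p => by
      rw [hval p]; split_ifs <;> ring
    rw [sqNorm, Finset.sum_congr rfl fun p _ => hterm p, Finset.sum_add_distrib, Finset.sum_ite_eq',
      if_pos (Finset.mem_univ _), Finset.sum_const, Finset.card_univ,
      show Fintype.card GolayPt = 24 from rfl, nsmul_eq_mul] at e
    push_cast at e
    linarith
  have ha : a = 0 := by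
    have h1 : -1 ≤ a := by nlinarith [sq_nonneg b]
    have h2 : a ≤ 1 := by nlinarith [sq_nonneg b]
    by_contra h0
    have hb41 : b ^ 2 = 41 := by
      have : a = 1 ∨ a = -1 := by omega
      rcases this with e | e <;> rw [e] at hsq <;> linarith
    have : -7 < b ∧ b < 7 := by constructor <;> nlinarith
    obtain ⟨h3, h4⟩ := this
    interval_cases b <;> norm_num at hb41
  have hb : b = 8 ∨ b = -8 := by
    rw [ha] at hsq
    exact eq_or_eq_neg_of_sq_eq_sq _ _ (by linarith)
  have hzs : (z : Zv) ∈ stdCross := ⟨none, b, hb, funext fun p => by rw [hval p, ha, Pi.single_apply]⟩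
  rw [← cross_std z.2.1 hzs]
  exact (cross_eq_iff z.2.1).2 ⟨z.2.2.1, z.2.2.2⟩

theorem sgn_add_word (a b : GolayPt → ZMod 2) (x : Zv) : sgn a (sgn b x) = sgn (a + b) x := by
  funext i
  rcases word_eq_one_or_zero (a i) with h | h <;> rcases word_eq_one_or_zero (b i) with h' | h' <;>
    simp [sgn, h, h', show (1 : ZMod 2) + 1 = 0 from rfl]

theorem sylow23 (u : ↥Co0) (hu : orderOf u = 23) :
    ∃ S : Sylow 23 ↥Co0, (S : Subgroup ↥Co0) = Subgroup.zpowers u := by
  haveI := co0_finite
  haveI : Fact (Nat.Prime 23) := ⟨by norm_num⟩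
  have hc : Nat.card (Subgroup.zpowers u) = 23 := by rw [Nat.card_zpowers, hu]
  obtain ⟨S, hle⟩ := (IsPGroup.of_card (p := 23) (n := 1) (by rw [hc, pow_one])).exists_le_sylow
  obtain ⟨n, hn⟩ := IsPGroup.iff_card.1 S.2
  refine ⟨S, (Subgroup.eq_of_le_of_card_ge hle ?_).symm⟩
  rw [hc, hn]
  have hd : 23 ^ n ∣ 8315553613086720000 := by
    rw [← card_co0, ← hn]; exact Subgroup.card_subgroup_dvd_card _
  rcases Nat.lt_or_ge n 2 with h | h
  · calc (23 : ℕ) ^ n ≤ 23 ^ 1 := Nat.pow_le_pow_right (by norm_num) (by omega)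
      _ = 23 := pow_one 23
  · exfalso
    have : 23 ^ 2 ∣ 8315553613086720000 := dvd_trans (pow_dvd_pow 23 h) hd
    norm_num at this

theorem sylow23_mem {K : Subgroup ↥Co0} [K.Normal] {a u : ↥Co0} (ha : orderOf a = 23) (hu : orderOf u = 23)
    (huK : u ∈ K) : a ∈ K := by
  haveI := co0_finite
  haveI : Fact (Nat.Prime 23) := ⟨by norm_num⟩
  obtain ⟨S, hSe⟩ := sylow23 a ha
  obtain ⟨T, hTe⟩ := sylow23 u hu
  obtain ⟨c, hc⟩ := MulAction.exists_smul_eq ↥Co0 T S
  have ha' : a ∈ ((c • T : Sylow 23 ↥Co0) : Subgroup ↥Co0) := by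
    rw [hc, hSe]; exact Subgroup.mem_zpowers a
  rw [Sylow.coe_subgroup_smul, Subgroup.mem_pointwise_smul_iff_inv_smul_mem, hTe] at ha'
  have h1 : MulAut.conj c⁻¹ a ∈ K := by
    have h := Subgroup.zpowers_le.2 huK ha'
    simpa [MulAut.smul_def] using h
  have := Subgroup.Normal.conj_mem ‹K.Normal› _ h1 c
  simpa [mul_assoc] using this

theorem eq_top_of_normal (K : Subgroup ↥Co0) [K.Normal] (hK : ¬ K ≤ Subgroup.center ↥Co0) : K = ⊤ := by
  classical
  haveI := co0_finite
  haveI : Fact (Nat.Prime 23) := ⟨by norm_num⟩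
  haveI : Fact (Nat.Prime 13) := ⟨by norm_num⟩
  -- it is not inside the monomial subgroup
  have hKM : ¬ K ≤ monoSub := by
    intro hle
    refine hK fun k hk => fix_all_central fun y hy => ?_
    obtain ⟨g, z, hz, e⟩ := class_transitive (e8 none) y (e8_norm none) hy
    have hg : cross ((g • e8 none : ↥leechLattice) : Zv) = cross (y : Zv) :=
      (cross_eq_iff y.2).2 ⟨hy.trans ((g.2.2 _).trans (e8_norm none)).symm, z, hz, e⟩
    have hconj : g⁻¹ * k * g ∈ monoSub := by
      refine hle ?_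
      have := Subgroup.Normal.conj_mem ‹K.Normal› k hk g⁻¹
      rwa [inv_inv] at this
    have h1 : cross ((((g⁻¹ * k * g) • e8 none) : ↥leechLattice) : Zv) = cross (e8 none : Zv) := hconj
    have h2 := cross_act g (a := (g⁻¹ * k * g) • e8 none) (b := e8 none) h1
    rw [← mul_smul, show g * (g⁻¹ * k * g) = k * g by group, mul_smul, hg] at h2
    rw [← cross_act k (a := g • e8 none) (b := y) hg, h2]
  have hsup : monoSub ⊔ K = ⊤ := monoSub_coatom.2 _ (lt_of_le_of_ne le_sup_left fun h => hKM (h ▸ le_sup_right))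
  -- orders
  have hidx : monoSub.index = 8292375 := by
    have := monoSub.card_mul_index
    rw [card_monoSub, card_co0] at this
    omega
  have hrel : monoSub.relIndex K = 8292375 := by
    have h1 : K.relIndex monoSub = K.index := by
      rw [← Subgroup.relIndex_top_right K, ← hsup, Subgroup.relIndex_sup_right]
    have h2 := Subgroup.relIndex_mul_index (inf_le_right : monoSub ⊓ K ≤ K)
    have h3 := Subgroup.relIndex_mul_index (inf_le_left : monoSub ⊓ K ≤ monoSub)
    rw [Subgroup.inf_relIndex_right] at h2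
    rw [Subgroup.inf_relIndex_left, h1] at h3
    rw [← hidx]
    exact Nat.eq_of_mul_eq_mul_right (Nat.pos_of_ne_zero Subgroup.index_ne_zero_of_finite)
      ((h2.trans h3.symm).trans (mul_comm _ _))
  have h13 : 13 ∣ Nat.card K := by
    have := Subgroup.relIndex_dvd_card monoSub K
    rw [hrel] at this
    exact dvd_trans (by norm_num) this
  obtain ⟨a, haM, hao, ha⟩ := exists_shift
  -- 23 divides the order
  have h23 : 23 ∣ Nat.card K := by
    by_contra hn
    obtain ⟨P⟩ : Nonempty (Sylow 13 ↥K) := inferInstance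
    have hPc : Nat.card P = 13 := by
      obtain ⟨n, hn'⟩ := IsPGroup.iff_card.1 P.2
      have hd : (13 : ℕ) ∣ Nat.card P := Sylow.dvd_card_of_dvd_card P h13
      have hK' : Nat.card P ∣ 8315553613086720000 := by
        rw [← card_co0]
        exact dvd_trans (Subgroup.card_subgroup_dvd_card _) (Subgroup.card_subgroup_dvd_card K)
      rw [hn'] at hd hK' ⊢
      match n with
      | 0 => norm_num at hd
      | 1 => norm_num
      | n + 2 =>
        exfalso
        have : 13 ^ 2 ∣ 8315553613086720000 := dvd_trans (pow_dvd_pow 13 (by omega)) hK'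
        norm_num at this
    set Q : Subgroup ↥Co0 := ((P : Subgroup ↥K)).map K.subtype with hQ
    have hQc : Nat.card Q = 13 := by
      refine Eq.trans ?_ hPc
      exact (Nat.card_congr ((Subgroup.equivMapOfInjective _ _ (Subgroup.subtype_injective K)).toEquiv)).symm
    have hfr : (Subgroup.normalizer (Q : Set ↥Co0)) ⊔ K = ⊤ := P.normalizer_sup_eq_top
    set N := Subgroup.normalizer (Q : Set ↥Co0) with hN
    have hKi : 23 ∣ K.index := by
      have h := K.card_mul_index
      rw [card_co0] at h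
      have : 23 ∣ Nat.card K * K.index := by rw [h]; norm_num
      exact ((Nat.Prime.dvd_mul (by norm_num)).1 this).resolve_left hn
    have hrelN : K.relIndex N = K.index := by
      rw [← Subgroup.relIndex_top_right K, ← hfr, Subgroup.relIndex_sup_right]
    have hN23 : 23 ∣ Nat.card N := dvd_trans (hrelN ▸ hKi) (Subgroup.relIndex_dvd_card K N)
    obtain ⟨h, hho⟩ := exists_prime_orderOf_dvd_card' (G := ↥N) 23 hN23
    have hho' : orderOf (h : ↥Co0) = 23 := by rw [Subgroup.orderOf_coe]; exact hho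
    -- it centralises
    haveI : IsCyclic ↥Q := isCyclic_of_prime_card hQc
    have hcent : ∀ q ∈ Q, (h : ↥Co0) * q = q * h := by
      have hord : orderOf ((Q.normalizerMonoidHom h : MulAut ↥Q)) ∣ 12 := by
        refine dvd_trans (orderOf_dvd_natCard _) ?_
        rw [IsCyclic.card_mulAut, hQc]
        decide
      have h23' : orderOf ((Q.normalizerMonoidHom h : MulAut ↥Q)) ∣ 23 := hho ▸ orderOf_map_dvd _ h
      have hone : Q.normalizerMonoidHom h = 1 := by
        rw [← orderOf_eq_one_iff]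
        exact Nat.eq_one_of_dvd_coprimes (by norm_num : Nat.Coprime 12 23) hord h23'
      intro q hq
      have := congrArg (fun φ : MulAut ↥Q => ((φ ⟨q, hq⟩ : ↥Q) : ↥Co0)) hone
      simp at this
      exact mul_inv_eq_iff_eq_mul.1 this
    -- transfer to the translation
    obtain ⟨S, hSe⟩ := sylow23 a hao
    obtain ⟨T, hTe⟩ := sylow23 (h : ↥Co0) hho'
    obtain ⟨c, hc⟩ := MulAction.exists_smul_eq ↥Co0 T S
    obtain ⟨q, hqo⟩ := exists_prime_orderOf_dvd_card' (G := ↥Q) 13 (by rw [hQc])
    set d : ↥Co0 := c * q * c⁻¹ with hd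
    have hcomm : a * d = d * a := by
      have ha' : a ∈ ((c • T : Sylow 23 ↥Co0) : Subgroup ↥Co0) := by
        rw [hc, hSe]; exact Subgroup.mem_zpowers a
      rw [Sylow.coe_subgroup_smul, Subgroup.mem_pointwise_smul_iff_inv_smul_mem, hTe] at ha'
      obtain ⟨n, hn⟩ := Subgroup.mem_zpowers_iff.1 ha'
      have hn' : a = c * (h : ↥Co0) ^ n * c⁻¹ := by
        rw [hn]
        simp [MulAut.smul_def, mul_assoc]
      have hq' : Commute ((h : ↥Co0) ^ n) (q : ↥Co0) :=
        Commute.zpow_left (hcent q q.2) n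
      rw [hd, hn']
      calc c * (h : ↥Co0) ^ n * c⁻¹ * (c * q * c⁻¹) = c * ((h : ↥Co0) ^ n * q) * c⁻¹ := by group
        _ = c * (q * (h : ↥Co0) ^ n) * c⁻¹ := by rw [hq'.eq]
        _ = _ := by group
    have hdM : d ∈ monoSub := by
      refine shift_fixed ha (y := d • e8 none) ((d.2.2 _).trans (e8_norm none)) ?_
      rw [← mul_smul, hcomm, mul_smul]
      exact cross_act d (a := a • e8 none) (b := e8 none) haM
    have hdo : orderOf d = 13 := by
      rw [hd, ← MulAut.conj_apply, MulEquiv.orderOf_eq, Subgroup.orderOf_coe, hqo]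
    have := Subgroup.orderOf_dvd_natCard monoSub hdM
    rw [hdo, card_monoSub] at this
    norm_num at this
  -- the translation is inside
  have haK : a ∈ K := by
    obtain ⟨u, hu⟩ := exists_prime_orderOf_dvd_card' (G := ↥K) 23 h23
    have hu' : orderOf (u : ↥Co0) = 23 := by rw [Subgroup.orderOf_coe]; exact hu
    exact sylow23_mem hao hu' u.2
  -- permutation parts
  let R : Subgroup ↥M24 :=
    { carrier := {σ | ∃ k ∈ K, ∃ w ∈ golayCode, ∀ v : ↥leechLattice,
        ((k • v : ↥leechLattice) : Zv) = sgn w (prm σ (v : Zv))}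
      one_mem' := ⟨1, one_mem _, 0, zero_mem _, fun v => by
        rw [one_smul]; funext p; simp [sgn, prm, Equiv.Perm.one_def]⟩
      mul_mem' := by
        rintro σ τ ⟨k, hk, w, hw, e⟩ ⟨l, hl, w', hw', e'⟩
        refine ⟨k * l, mul_mem hk hl, w + actW σ w', add_mem hw (actW_mem σ.2 hw'), fun v => ?_⟩
        rw [mul_smul, e, e', prm_sgn, sgn_add_word]
        rfl
      inv_mem' := by
        rintro σ ⟨k, hk, w, hw, e⟩
        refine ⟨k⁻¹, inv_mem hk, actW (σ : Equiv.Perm GolayPt)⁻¹ w, actW_mem (inv_mem σ.2) hw, fun v => ?_⟩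
        have h' := e (k⁻¹ • v)
        rw [smul_inv_smul] at h'
        rw [h', Subgroup.coe_inv, prm_sgn, sgn_sgn, prm_inv_left] }
  have hR : R.Normal := ⟨by
    rintro σ ⟨k, hk, w, hw, e⟩ τ
    obtain ⟨n, hn⟩ := mono_exists τ.2 (zero_mem golayCode)
    have hn' : ∀ v : ↥leechLattice, ((n • v : ↥leechLattice) : Zv) = prm τ (v : Zv) := fun v => by
      rw [hn]; funext p; simp [sgn]
    refine ⟨n * k * n⁻¹, Subgroup.Normal.conj_mem ‹K.Normal› k hk n, actW τ w, actW_mem τ.2 hw, fun v => ?_⟩
    have h' := hn' (n⁻¹ • v)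
    rw [smul_inv_smul] at h'
    rw [mul_smul, mul_smul, hn', e, prm_sgn, h']
    congr 1
    funext p
    simp [prm, Equiv.Perm.inv_def, Equiv.Perm.mul_def]⟩
  haveI := simple_M24
  have hRtop : R = ⊤ := by
    refine (IsSimpleGroup.eq_bot_or_eq_top_of_normal R hR).resolve_left fun hb => ?_
    have hm : (⟨genA, genH_le genA_mem_genH⟩ : ↥M24) ∈ R := ⟨a, haK, 0, zero_mem _, fun v => by
      rw [ha]; funext p; simp [sgn]⟩
    rw [hb, Subgroup.mem_bot] at hm
    have : genA ≠ 1 := by decide +kernel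
    exact this (congrArg Subtype.val hm)
  -- sign changes
  let C : Submodule (ZMod 2) (GolayPt → ZMod 2) :=
    { carrier := {w | w ∈ golayCode ∧ ∃ k ∈ K, ∀ v : ↥leechLattice, ((k • v : ↥leechLattice) : Zv) = sgn w (v : Zv)}
      zero_mem' := ⟨zero_mem _, 1, one_mem _, fun v => by rw [one_smul]; funext p; simp [sgn]⟩
      add_mem' := by
        rintro u w ⟨hu, k, hk, e⟩ ⟨hw, l, hl, e'⟩
        exact ⟨add_mem hu hw, k * l, mul_mem hk hl, fun v => by rw [mul_smul, e, e', sgn_add_word]⟩
      smul_mem' := by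
        intro c u hu
        rcases word_eq_one_or_zero c with h | h <;> rw [h]
        · rw [zero_smul]; exact ⟨zero_mem _, 1, one_mem _, fun v => by rw [one_smul]; funext p; simp [sgn]⟩
        · rw [one_smul]; exact hu }
  have hCinv : IsInv C := by
    rintro σ hσ w ⟨hw, k, hk, e⟩
    obtain ⟨n, hn⟩ := exists_prm hσ
    refine ⟨actW_mem hσ hw, n * k * n⁻¹, Subgroup.Normal.conj_mem ‹K.Normal› k hk n, fun v => ?_⟩
    have h' := hn (n⁻¹ • v)
    rw [smul_inv_smul] at h'
    rw [mul_smul, mul_smul, hn, e, prm_sgn, ← h']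
  have hall : ∀ w ∈ golayCode, w ∈ C := by
    obtain ⟨-, om, hom, hpc⟩ := octad_sums
    have ho2 : ofMask om ∈ octads := mem_octads.2 (by rwa [mask_ofMask (octMasks_lt hom)])
    obtain ⟨τ, hτ, eτ⟩ := octad_map _ ho2
    have hmem : (⟨τ, hτ⟩ : ↥M24) ∈ R := hRtop ▸ Subgroup.mem_top _
    obtain ⟨k, hk, w, hw, ek⟩ := hmem
    set c₁ := wordOf (ofMask 5279) with hc₁
    have hc₁m : c₁ ∈ golayCode := mem_code.2 (by
      rw [hc₁, wmask, support₂_wordOf]; exact mem_supports.1 baseOctad_mem.1)
    have hdiff : support₂ (c₁ + actW τ c₁) = symmDiff (ofMask 5279) (ofMask om) := by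
      refine mask_injective ?_
      rw [show mask (support₂ (c₁ + actW τ c₁)) = wmask (c₁ + actW τ c₁) from rfl, wmask_add, wmask, wmask,
        support₂_actW, hc₁, support₂_wordOf, eτ, mask_symmDiff]
    have hmem' : c₁ + actW τ c₁ ∈ C := by
      obtain ⟨s, hs⟩ := exists_sgn hc₁m
      refine ⟨add_mem hc₁m (actW_mem hτ hc₁m), s * k * s⁻¹ * k⁻¹,
        mul_mem (Subgroup.Normal.conj_mem ‹K.Normal› k hk s) (inv_mem hk), fun v => ?_⟩
      have e1 : ∀ v : ↥leechLattice, ((s⁻¹ • v : ↥leechLattice) : Zv) = sgn c₁ (v : Zv) := fun v => by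
        have h' := hs (s⁻¹ • v)
        rw [smul_inv_smul] at h'
        rw [h', sgn_sgn]
      have e2 : sgn w (prm τ ((k⁻¹ • v : ↥leechLattice) : Zv)) = (v : Zv) := by
        have h' := ek (k⁻¹ • v)
        rw [smul_inv_smul] at h'
        exact h'.symm
      rw [mul_smul, mul_smul, mul_smul, hs, ek, e1, prm_sgn]
      conv_rhs => rw [← e2]
      rw [sgn_add_word, sgn_add_word, sgn_add_word]
      congr 1
      abel
    have h8 : support₂ (c₁ + actW τ c₁) ∈ octads := by
      refine ⟨⟨_, add_mem hc₁m (actW_mem hτ hc₁m), rfl⟩, ?_⟩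
      rw [hdiff, ← pc_mask, mask_symmDiff, mask_ofMask (by norm_num), mask_ofMask (octMasks_lt hom)]
      exact hpc
    exact fun x hx => code_mem_of_octad hCinv hmem' h8 hx
  -- the monomial subgroup is inside
  refine top_le_iff.1 (hsup.symm.le.trans (sup_le ?_ le_rfl))
  intro g hg
  obtain ⟨σ, hσ, w, hw, e⟩ := std_form (mem_monoSub.1 hg)
  have hmem : (⟨σ, hσ⟩ : ↥M24) ∈ R := hRtop ▸ Subgroup.mem_top _
  obtain ⟨k, hk, w', hw', e'⟩ := hmem
  obtain ⟨-, l, hl, el⟩ := hall (w + w') (add_mem hw hw')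
  have : g = l * k := co0_ext fun v => by
    rw [mul_smul, el, e', e, sgn_add_word]
    congr 1
    funext p
    simp only [Pi.add_apply]
    rw [add_assoc, ← two_mul, show (2 : ZMod 2) = 0 from rfl, zero_mul, add_zero]
  rw [this]
  exact mul_mem hl hk

theorem card_co1 : Nat.card (↥Co0 ⧸ Subgroup.center ↥Co0) = 4157776806543360000 := by
  have h := Subgroup.card_eq_card_quotient_mul_card_subgroup (Subgroup.center ↥Co0)
  rw [card_co0, card_center] at h
  omega

theorem simple_co1 : IsSimpleGroup (↥Co0 ⧸ Subgroup.center ↥Co0) := by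
  haveI : Nontrivial (↥Co0 ⧸ Subgroup.center ↥Co0) := by
    haveI := Nat.finite_of_card_ne_zero (α := ↥Co0 ⧸ Subgroup.center ↥Co0) (by rw [card_co1]; norm_num)
    exact Finite.one_lt_card_iff_nontrivial.1 (by rw [card_co1]; norm_num)
  refine ⟨fun N hN => ?_⟩
  haveI := hN
  by_cases h : N.comap (QuotientGroup.mk' (Subgroup.center ↥Co0)) ≤ Subgroup.center ↥Co0
  · left
    refine (Subgroup.eq_bot_iff_forall _).2 fun x hx => ?_
    obtain ⟨g, rfl⟩ := QuotientGroup.mk'_surjective _ x
    exact (QuotientGroup.eq_one_iff g).2 (h hx)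
  · right
    refine eq_top_iff.2 fun x _ => ?_
    obtain ⟨g, rfl⟩ := QuotientGroup.mk'_surjective _ x
    have := eq_top_of_normal _ h ▸ Subgroup.mem_top g
    exact this

end Cfsg.Agent.Spor
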