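/-
A simplicity criterion by a prime dividing the order once, with its normaliser inside a simple subgroup.
-/
import Mathlib

set_option autoImplicit false

namespace Cfsg.Agent.Spor

open scoped Pointwise

/-- the order of the automorphism group of an elementary abelian 2-group -/
theorem card_mulAut_elementary {N : Type*} [Group N] [Finite N] (hsq : ∀ x : N, x * x = 1) {k : ℕ}
    (hk : Nat.card N = 2 ^ k) : Nat.card (MulAut N) ∣ ∏ i : Fin k, (2 ^ k - 2 ^ (i : ℕ)) := by
  classical
  have hinv : ∀ x : N, x⁻¹ = x := fun x => inv_eq_of_mul_eq_one_right (hsq x)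
  letI : CommGroup N :=
    { (inferInstance : Group N) with
      mul_comm := fun a b => by
        have := hinv (a * b)
        rw [mul_inv_rev, hinv, hinv] at this
        exact this.symm }
  letI : Module (ZMod 2) (Additive N) := AddCommGroup.zmodModule (n := 2) fun x => by
    rw [two_nsmul]
    exact hsq x.toMul
  haveI : Module.Finite (ZMod 2) (Additive N) := Module.Finite.of_finite
  have hfr : Module.finrank (ZMod 2) (Additive N) = k := by
    have h := Module.natCard_eq_pow_finrank (K := ZMod 2) (V := Additive N)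
    rw [Nat.card_zmod, show Nat.card (Additive N) = 2 ^ k from (Nat.card_congr Additive.toMul).trans hk] at h
    exact (Nat.pow_right_injective le_rfl h).symm
  let b : Module.Basis (Fin k) (ZMod 2) (Additive N) := Module.finBasisOfFinrankEq _ _ hfr
  let θ : MulAut N →* (Additive N ≃ₗ[ZMod 2] Additive N) :=
    { toFun := fun φ => { MulEquiv.toAdditive φ with
        map_smul' := fun c x => ZMod.map_smul (MulEquiv.toAdditive φ : Additive N ≃+ Additive N) c x }
      map_one' := by ext; rfl
      map_mul' := fun φ ψ => by ext; rfl }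
  have hθ : Function.Injective θ := fun φ ψ h => MulEquiv.ext fun x =>
    congrArg Additive.toMul (LinearEquiv.congr_fun h (Additive.ofMul x))
  let e := (Matrix.GeneralLinearGroup.toLin' b).trans
    (LinearMap.GeneralLinearGroup.generalLinearEquiv (ZMod 2) (Additive N))
  refine (Subgroup.card_dvd_of_injective (e.symm.toMonoidHom.comp θ) (e.symm.injective.comp hθ)).trans ?_
  rw [Matrix.card_GL_field, ← Nat.card_eq_fintype_card, Nat.card_zmod]

section

variable {G : Type*} [Group G] [Finite G] (p : ℕ) [hp : Fact p.Prime] (M : Subgroup G) [IsSimpleGroup M]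
  (g : G)

/-- the hypotheses of the criterion -/
structure PrimeHyp : Prop where
  mem : g ∈ M
  order : orderOf g = p
  once : ¬ p ^ 2 ∣ Nat.card G
  norm : ∀ x : G, x * g * x⁻¹ ∈ Subgroup.zpowers g → x ∈ M

variable {p M g}

theorem PrimeHyp.sylow (h : PrimeHyp p M g) : ∃ S : Sylow p G, (S : Subgroup G) = Subgroup.zpowers g := by
  have hc : Nat.card (Subgroup.zpowers g) = p := by rw [Nat.card_zpowers, h.order]
  obtain ⟨S, hle⟩ := (IsPGroup.of_card (p := p) (n := 1) (by rw [hc, pow_one])).exists_le_sylow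
  obtain ⟨n, hn⟩ := IsPGroup.iff_card.1 S.2
  refine ⟨S, (Subgroup.eq_of_le_of_card_ge hle ?_).symm⟩
  rw [hc, hn]
  by_contra hlt
  refine h.once (dvd_trans (pow_dvd_pow p ?_) (hn ▸ Subgroup.card_subgroup_dvd_card (S : Subgroup G)))
  by_contra h2
  exact hlt (le_trans (Nat.pow_le_pow_right hp.out.pos (show n ≤ 1 by omega)) (pow_one p).le)

/-- a normal subgroup containing the element is everything -/
theorem PrimeHyp.eq_top (h : PrimeHyp p M g) (N : Subgroup G) [N.Normal] (hg : g ∈ N) : N = ⊤ := by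
  have hM : M ≤ N := by
    rcases IsSimpleGroup.eq_bot_or_eq_top_of_normal (N.subgroupOf M) inferInstance with hb | ht
    · exfalso
      have : (⟨g, h.mem⟩ : ↥M) ∈ N.subgroupOf M := hg
      rw [hb, Subgroup.mem_bot] at this
      have h1 := h.order
      rw [show g = 1 from congrArg Subtype.val this, orderOf_one] at h1
      exact hp.out.ne_one h1.symm
    · intro x hx
      have : (⟨x, hx⟩ : ↥M) ∈ N.subgroupOf M := ht ▸ Subgroup.mem_top _
      exact this
  obtain ⟨S, hS⟩ := h.sylow
  have hle : (S : Subgroup G) ≤ N := hS ▸ Subgroup.zpowers_le.2 hg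
  have hfr : Subgroup.normalizer ((((S.subtype hle : Sylow p ↥N) : Subgroup ↥N).map N.subtype : Subgroup G) : Set G)
      ⊔ N = ⊤ := (S.subtype hle).normalizer_sup_eq_top
  rw [Sylow.coe_subtype, Subgroup.map_subgroupOf_eq_of_le hle] at hfr
  rw [← hfr]
  refine le_antisymm le_sup_right (sup_le (fun x hx => hM (h.norm x ?_)) le_rfl)
  rw [hS] at hx
  exact (Subgroup.mem_normalizer_iff.1 hx g).1 (Subgroup.mem_zpowers g)

theorem PrimeHyp.fixed_free (h : PrimeHyp p M g) (N : Subgroup G) [N.Normal] (hg : g ∉ N) :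
    ∀ x ∈ N, g * x * g⁻¹ = x → x = 1 := by
  intro x hx hc
  have hxg : x * g * x⁻¹ = g := by
    rw [mul_inv_eq_iff_eq_mul] at hc ⊢
    exact hc.symm
  have hxM : x ∈ M := h.norm x (by rw [hxg]; exact Subgroup.mem_zpowers g)
  rcases IsSimpleGroup.eq_bot_or_eq_top_of_normal (N.subgroupOf M) inferInstance with hb | ht
  · have : (⟨x, hxM⟩ : ↥M) ∈ N.subgroupOf M := hx
    rw [hb, Subgroup.mem_bot] at this
    exact congrArg Subtype.val this
  · have : (⟨g, h.mem⟩ : ↥M) ∈ N.subgroupOf M := ht ▸ Subgroup.mem_top _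
    exact absurd this hg

theorem PrimeHyp.not_dvd (h : PrimeHyp p M g) (N : Subgroup G) [N.Normal] (hg : g ∉ N) :
    ¬ p ∣ Nat.card N := by
  intro hd
  obtain ⟨u, hu⟩ := exists_prime_orderOf_dvd_card' (G := ↥N) p hd
  obtain ⟨S, hS⟩ := h.sylow
  have hc : Nat.card (Subgroup.zpowers (u : G)) = p := by rw [Nat.card_zpowers, Subgroup.orderOf_coe, hu]
  obtain ⟨T, hT⟩ := (IsPGroup.of_card (p := p) (n := 1) (by rw [hc, pow_one])).exists_le_sylow
  have hTe : Subgroup.zpowers (u : G) = T := by
    refine Subgroup.eq_of_le_of_card_ge hT ?_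
    rw [hc]
    have e := Nat.card_congr (Sylow.equiv T S).toEquiv
    rw [hS, Nat.card_zpowers, h.order] at e
    exact le_of_eq e
  obtain ⟨c, hcT⟩ := MulAction.exists_smul_eq G T S
  have hg' : g ∈ ((c • T : Sylow p G) : Subgroup G) := by rw [hcT, hS]; exact Subgroup.mem_zpowers g
  rw [Sylow.coe_subgroup_smul, Subgroup.mem_pointwise_smul_iff_inv_smul_mem, ← hTe] at hg'
  have h1 : c⁻¹ * g * c ∈ N := by
    have := Subgroup.zpowers_le.2 u.2 hg'
    simpa [MulAut.smul_def] using this
  have := Subgroup.Normal.conj_mem ‹N.Normal› _ h1 c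
  simp [mul_assoc] at this
  exact hg this

/-- each primary part of a normal subgroup missing the element is 1 modulo the prime -/
theorem PrimeHyp.part_modEq (h : PrimeHyp p M g) (N : Subgroup G) [N.Normal] (hg : g ∉ N) (l : ℕ)
    [Fact l.Prime] : l ^ (Nat.card N).factorization l ≡ 1 [MOD p] := by
  classical
  haveI := Fintype.ofFinite G
  let φ : MulAut ↥N := MulAut.conjNormal g
  have hφp : φ ^ p ^ 1 = 1 := by
    rw [pow_one]
    show (MulAut.conjNormal g : MulAut ↥N) ^ p = 1
    rw [← map_pow, ← h.order, pow_orderOf_eq_one, map_one]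
  -- a fixed Sylow subgroup
  haveI : Fintype (Sylow l ↥N) := Fintype.ofFinite _
  have hns : ¬ p ∣ Fintype.card (Sylow l ↥N) := by
    intro hd
    refine h.not_dvd N hg (dvd_trans hd ?_)
    rw [← Nat.card_eq_fintype_card]
    exact (Sylow.card_dvd_index (default : Sylow l ↥N)).trans (Subgroup.index_dvd_card _)
  obtain ⟨L, hL⟩ := Equiv.Perm.exists_fixed_point_of_prime (p := p) (n := 1)
    (σ := (MulAction.toPermHom (MulAut ↥N) (Sylow l ↥N)) φ) hns
    (by rw [← map_pow, hφp, map_one])
  change φ • L = L at hL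
  have hinv : ∀ (ψ : MulAut ↥N), ψ • L = L → ∀ x ∈ (L : Subgroup ↥N), ψ x ∈ (L : Subgroup ↥N) := by
    intro ψ hψ x hx
    have : ψ x ∈ ((ψ • L : Sylow l ↥N) : Subgroup ↥N) := by
      show ψ x ∈ (MulDistribMulAction.toMonoidHom ↥N ψ) '' (L : Set ↥N)
      exact ⟨x, hx, rfl⟩
    rwa [hψ] at this
  haveI : Fintype ↥(L : Subgroup ↥N) := Fintype.ofFinite _
  let π : Equiv.Perm ↥(L : Subgroup ↥N) :=
    Equiv.ofBijective (fun x => ⟨φ x, hinv φ hL x x.2⟩)
      (Finite.injective_iff_bijective.1 fun a b e => Subtype.ext (φ.injective (congrArg Subtype.val e)))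
  have hπ : ∀ (n : ℕ) (x : ↥(L : Subgroup ↥N)), (((π ^ n) x : ↥(L : Subgroup ↥N)) : ↥N) = (φ ^ n) x := by
    intro n
    induction n with
    | zero => intro x; rfl
    | succ n ih => intro x; rw [pow_succ, pow_succ, Equiv.Perm.mul_apply, ih]; rfl
  have hfix : π.supportᶜ = {1} := by
    ext x
    simp only [Finset.mem_compl, Equiv.Perm.mem_support, not_not, Finset.mem_singleton]
    constructor
    · intro hx
      have h1 : g * ((x : ↥N) : G) * g⁻¹ = ((x : ↥N) : G) := by
        have := congrArg (fun y : ↥(L : Subgroup ↥N) => ((y : ↥N) : G)) hx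
        exact this
      exact Subtype.ext (Subtype.ext (h.fixed_free N hg _ (x : ↥N).2 h1))
    · rintro rfl
      exact Subtype.ext (map_one φ)
  have := Equiv.Perm.card_compl_support_modEq (p := p) (n := 1) (σ := π)
    (Equiv.ext fun x => Subtype.ext (by rw [hπ, hφp]; rfl))
  rw [hfix, Finset.card_singleton, ← Nat.card_eq_fintype_card, L.card_eq_multiplicity] at this
  exact this.symm

/-- the criterion when no primary part fits -/
theorem PrimeHyp.simple (h : PrimeHyp p M g)
    (hsmall : ∀ N : Subgroup G, N.Normal → g ∉ N → N = ⊥) : IsSimpleGroup G := by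
  haveI : Nontrivial G := ⟨⟨g, 1, fun e => by
    have := h.order; rw [e, orderOf_one] at this; exact hp.out.ne_one this.symm⟩⟩
  refine ⟨fun N hN => ?_⟩
  haveI := hN
  by_cases hg : g ∈ N
  · exact Or.inr (h.eq_top N hg)
  · exact Or.inl (hsmall N hN hg)

theorem card_eq_part {n l : ℕ} (hn : n ≠ 0) (h : ∀ q, q.Prime → q ≠ l → n.factorization q = 0) :
    n = l ^ n.factorization l := by
  refine (Nat.eq_pow_of_factorization_eq_single hn (Finsupp.ext fun q => ?_))
  rw [Finsupp.single_apply]
  split_ifs with hq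
  · rw [hq]
  · by_cases hqp : q.Prime
    · exact h q hqp (Ne.symm hq)
    · exact Nat.factorization_eq_zero_of_not_prime _ hqp

end

end Cfsg.Agent.Spor
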