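/-
The stabilisers of vectors of squared norm 32 and 48 are simple.
-/
import Cfsg.Prelude.Def_Sporadic
import Cfsg.Agent.Lib.Spor.Co1Simple
import Cfsg.Agent.Lib.Spor.PrimeCriteria

set_option autoImplicit false
set_option maxRecDepth 100000

namespace Cfsg.Agent.Spor

open Cfsg
open scoped Pointwise

local notation "Zv" => GolayPt → ℤ

/-- the vector with one special coordinate -/
def specVec (a : ℤ) : Zv := setVec 1 a {none}

theorem specVec_facts : leechCheck (specVec (-3)) = true ∧ sqNorm (specVec (-3)) = 32 ∧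
    leechCheck (specVec 5) = true ∧ sqNorm (specVec 5) = 48 := by
  refine ⟨?_, ?_, ?_, ?_⟩ <;> decide +kernel

theorem orbit_card {n : ℤ} {v : ↥leechLattice} (hv : sqNorm (v : Zv) = n)
    (ht : ∀ w : ↥leechLattice, sqNorm (w : Zv) = n → ∃ g : ↥Co0, g • v = w) {N : ℕ}
    (hN : {x : Zv | x ∈ leechLattice ∧ sqNorm x = n}.ncard = N) :
    Nat.card (MulAction.stabilizer ↥Co0 v) * N = Nat.card ↥Co0 := by
  rw [← Nat.card_congr (MulAction.orbitProdStabilizerEquivGroup ↥Co0 v), Nat.card_prod, mul_comm]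
  congr 1
  rw [← hN, Nat.card_coe_set_eq, ← Set.ncard_image_of_injective _ Subtype.val_injective]
  congr 1
  ext x
  simp only [Set.mem_image, Set.mem_setOf_eq, MulAction.mem_orbit_iff]
  constructor
  · rintro ⟨hx, hn⟩
    exact ⟨⟨x, hx⟩, ht ⟨x, hx⟩ hn, rfl⟩
  · rintro ⟨w, ⟨g, rfl⟩, rfl⟩
    exact ⟨(g • v).2, (g.2.2 v).trans hv⟩

theorem stab_special {a : ℤ} (ha : a = -3 ∨ a = 5) {v : ↥leechLattice} (hv : (v : Zv) = specVec a) :
    ∃ g : ↥(MulAction.stabilizer ↥Co0 v), orderOf g = 23 ∧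
      IsSimpleGroup (monoSub.subgroupOf (MulAction.stabilizer ↥Co0 v)) ∧
      g ∈ monoSub.subgroupOf (MulAction.stabilizer ↥Co0 v) ∧
      ∀ x : ↥(MulAction.stabilizer ↥Co0 v), x * g * x⁻¹ ∈ Subgroup.zpowers g →
        x ∈ monoSub.subgroupOf (MulAction.stabilizer ↥Co0 v) := by
  set G := MulAction.stabilizer ↥Co0 v
  have hfix : ∀ σ : Equiv.Perm GolayPt, σ none = none → prm σ (v : Zv) = (v : Zv) := fun σ h0 => by
    rw [hv, specVec, prm_setVec, Finset.smul_finset_singleton]
    exact congrArg (fun p => setVec 1 a {p}) h0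
  have key : ∀ σ : ↥(MulAction.stabilizer M24 (none : GolayPt)), ∃ x : ↥G, ∀ u : ↥leechLattice,
      (((x : ↥Co0) • u : ↥leechLattice) : Zv) = prm ((σ : ↥M24) : Equiv.Perm GolayPt) (u : Zv) := by
    intro σ
    obtain ⟨x, hx⟩ := exists_prm (σ : ↥M24).2
    exact ⟨⟨x, Subtype.ext ((hx v).trans (hfix _ σ.2))⟩, hx⟩
  choose F hF using key
  have hext : ∀ {x y : ↥G}, (∀ u : ↥leechLattice, (((x : ↥Co0) • u : ↥leechLattice) : Zv) =
      (((y : ↥Co0) • u : ↥leechLattice) : Zv)) → x = y := fun h => Subtype.ext (co0_ext h)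
  let f : ↥(MulAction.stabilizer M24 (none : GolayPt)) →* ↥(monoSub.subgroupOf G) :=
    MonoidHom.mk' (fun σ => ⟨F σ, mem_monoSub.2 (mono_std (σ := ((σ : ↥M24) : Equiv.Perm GolayPt)) (w := 0)
      fun u => (hF σ u).trans (funext fun p => by simp [sgn]))⟩) fun σ τ => Subtype.ext (hext fun u => by
        show (((F (σ * τ) : ↥Co0) • u : ↥leechLattice) : Zv) =
          ((((F σ : ↥Co0) * (F τ : ↥Co0)) • u : ↥leechLattice) : Zv)
        rw [mul_smul, hF, hF, hF]
        rfl)
  have hf : Function.Bijective f := by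
    constructor
    · intro σ τ e
      refine Subtype.ext (Subtype.ext (Equiv.ext fun i => ?_))
      have h : F σ = F τ := congrArg Subtype.val e
      have h1 := (hF σ (e8 i)).symm.trans (h ▸ hF τ (e8 i))
      have h2 := congrFun h1 (((σ : ↥M24) : Equiv.Perm GolayPt) i)
      simp only [prm, e8, Equiv.symm_apply_apply, Pi.single_eq_same] at h2
      by_contra hne
      rw [Pi.single_eq_of_ne (fun h' => hne (by rw [Equiv.symm_apply_eq] at h'; exact h'))] at h2
      omega
    · rintro ⟨x, hx⟩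
      obtain ⟨σ, hσ, w, hw, e⟩ := std_form (mem_monoSub.1 hx)
      have hxv : sgn w (prm σ (v : Zv)) = (v : Zv) := by
        rw [← e]; exact congrArg Subtype.val (MulAction.mem_stabilizer_iff.1 x.2)
      have hval : ∀ p, (v : Zv) p = if p = none then a else 1 := fun p => by
        rw [hv]; simp [specVec, setVec]
      have hab : ∀ p, |(v : Zv) (σ.symm p)| = |(v : Zv) p| := fun p => by
        conv_rhs => rw [← hxv]
        by_cases hp : w p = 0 <;> simp [sgn, prm, hp]
      have h0 : σ none = none := by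
        have := hab (σ none)
        rw [Equiv.symm_apply_apply, hval, hval, if_pos rfl] at this
        by_contra hne
        rw [if_neg hne] at this
        rcases ha with rfl | rfl <;> norm_num at this
      have hw0 : w = 0 := by
        funext p
        have := congrFun hxv p
        rw [sgn, hfix σ h0] at this
        rcases word_eq_one_or_zero (w p) with hp | hp
        · exact hp
        · simp [hp] at this
          have h1 := hval p
          split_ifs at h1 <;> rcases ha with rfl | rfl <;> omega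
      have h0' : (⟨σ, hσ⟩ : ↥M24) ∈ MulAction.stabilizer M24 (none : GolayPt) := MulAction.mem_stabilizer_iff.2 h0
      refine ⟨⟨⟨σ, hσ⟩, h0'⟩, Subtype.ext (hext fun u => ?_)⟩
      show ((((F ⟨⟨σ, hσ⟩, h0'⟩ : ↥G) : ↥Co0) • u : ↥leechLattice) : Zv) = _
      refine (hF _ u).trans (Eq.trans ?_ (e u).symm)
      rw [hw0]
      funext p; simp [sgn]
  let e := MulEquiv.ofBijective f hf
  haveI := simple_stabilizer_point (none : GolayPt)
  haveI hsimp : IsSimpleGroup ↥(monoSub.subgroupOf G) := e.symm.isSimpleGroup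
  obtain ⟨s, hsM, hso, hs⟩ := exists_shift
  have hsv : s • v = v := Subtype.ext ((hs v).trans (hfix genA (by decide +kernel)))
  refine ⟨⟨s, hsv⟩, ?_, hsimp, hsM, fun x hx => ?_⟩
  · rw [← Subgroup.orderOf_coe]; exact hso
  obtain ⟨m, hm⟩ := Subgroup.mem_zpowers_iff.1 hx
  have hm' : s ^ m = (x : ↥Co0) * s * (x : ↥Co0)⁻¹ := by
    have := congrArg Subtype.val hm
    rwa [Subgroup.coe_zpow] at this
  -- `s` is a power of `s ^ m`
  haveI : Fact (Nat.Prime 23) := ⟨by norm_num⟩
  haveI := co0_finite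
  have hmo : orderOf (s ^ m) = 23 := by
    rw [hm', ← MulAut.conj_apply, MulEquiv.orderOf_eq, hso]
  have hgen : s ∈ Subgroup.zpowers (s ^ m) := by
    have : Subgroup.zpowers (s ^ m) = Subgroup.zpowers s :=
      Subgroup.eq_of_le_of_card_ge (Subgroup.zpowers_le.2 ⟨m, rfl⟩)
        (by rw [Nat.card_zpowers, Nat.card_zpowers, hmo, hso])
    rw [this]; exact Subgroup.mem_zpowers s
  obtain ⟨k, hk⟩ := Subgroup.mem_zpowers_iff.1 hgen
  have hconj : (x : ↥Co0)⁻¹ * s * (x : ↥Co0) = s ^ k := by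
    conv_lhs => rw [← hk, hm']
    rw [← MulAut.conj_apply, ← map_zpow, MulAut.conj_apply]
    group
  show (x : ↥Co0) ∈ monoSub
  refine shift_fixed hs (y := (x : ↥Co0) • e8 none) (((x : ↥Co0).2.2 _).trans (e8_norm none)) ?_
  have h1 : cross (((s ^ k) • e8 none : ↥leechLattice) : Zv) = cross (e8 none : Zv) := monoSub.zpow_mem hsM k
  rw [← mul_smul, show s * (x : ↥Co0) = (x : ↥Co0) * s ^ k by rw [← hconj]; group, mul_smul]
  exact cross_act _ h1

theorem prime_list {l : ℕ} (hl : l.Prime) {a b c : ℕ} (h : l ∣ 2 ^ a * 3 ^ b * 5 ^ c * 7 * 11 * 23) :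
    l = 2 ∨ l = 3 ∨ l = 5 ∨ l = 7 ∨ l = 11 ∨ l = 23 := by
  have q : ∀ {p e : ℕ}, p.Prime → l ∣ p ^ e → l = p := fun hp hd =>
    (Nat.prime_dvd_prime_iff_eq hl hp).1 (hl.dvd_of_dvd_pow hd)
  have r : ∀ {p : ℕ}, p.Prime → l ∣ p → l = p := fun hp hd => (Nat.prime_dvd_prime_iff_eq hl hp).1 hd
  rcases (Nat.Prime.dvd_mul hl).1 h with h | h
  rcases (Nat.Prime.dvd_mul hl).1 h with h | h
  rcases (Nat.Prime.dvd_mul hl).1 h with h | h
  rcases (Nat.Prime.dvd_mul hl).1 h with h | h
  rcases (Nat.Prime.dvd_mul hl).1 h with h | h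
  · exact Or.inl (q Nat.prime_two h)
  · exact Or.inr (Or.inl (q Nat.prime_three h))
  · exact Or.inr (Or.inr (Or.inl (q Nat.prime_five h)))
  · exact Or.inr (Or.inr (Or.inr (Or.inl (r (by norm_num) h))))
  · exact Or.inr (Or.inr (Or.inr (Or.inr (Or.inl (r (by norm_num) h)))))
  · exact Or.inr (Or.inr (Or.inr (Or.inr (Or.inr (r (by norm_num) h)))))

theorem exp_bound {n m l b : ℕ} (hd : n ∣ m) (h : ¬ l ^ (b + 1) ∣ m) : n.factorization l ≤ b := by
  by_contra hlt
  exact h ((pow_dvd_pow l (by omega : b + 1 ≤ n.factorization l)).trans ((Nat.ordProj_dvd n l).trans hd))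

/-- the odd parts are trivial -/
theorem odd_parts {n a b c : ℕ} (hd : n ∣ 2 ^ a * 3 ^ b * 5 ^ c * 7 * 11 * 23) (hn : n ≠ 0)
    (h23 : ¬ 23 ∣ n) (hb : b ≤ 10) (hc : c ≤ 21)
    (h3 : ¬ 3 ^ (b + 1) ∣ 2 ^ a * 3 ^ b * 5 ^ c * 7 * 11 * 23)
    (h5 : ¬ 5 ^ (c + 1) ∣ 2 ^ a * 3 ^ b * 5 ^ c * 7 * 11 * 23)
    (h7 : ¬ 7 ^ 2 ∣ 2 ^ a * 3 ^ b * 5 ^ c * 7 * 11 * 23)
    (h11 : ¬ 11 ^ 2 ∣ 2 ^ a * 3 ^ b * 5 ^ c * 7 * 11 * 23)
    (hpart : ∀ l : ℕ, l.Prime → l ^ n.factorization l ≡ 1 [MOD 23]) : n = 2 ^ n.factorization 2 := by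
  refine card_eq_part hn fun q hq hq2 => ?_
  by_contra hne
  have hqn : q ∣ n := Nat.dvd_of_factorization_pos hne
  have hm : q ^ n.factorization q % 23 = 1 := hpart q hq
  rcases prime_list hq (hqn.trans hd) with rfl | rfl | rfl | rfl | rfl | rfl
  · exact hq2 rfl
  · have hk := exp_bound hd h3
    generalize n.factorization 3 = k at *
    have : k ≤ 10 := hk.trans hb
    interval_cases k <;> first | exact hne rfl | norm_num at hm
  · have hk := exp_bound hd h5
    generalize n.factorization 5 = k at *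
    have : k ≤ 21 := hk.trans hc
    interval_cases k <;> first | exact hne rfl | norm_num at hm
  · have hk := exp_bound (b := 1) hd h7
    generalize n.factorization 7 = k at *
    interval_cases k <;> first | exact hne rfl | norm_num at hm
  · have hk := exp_bound (b := 1) hd h11
    generalize n.factorization 11 = k at *
    interval_cases k <;> first | exact hne rfl | norm_num at hm
  · exact h23 hqn

theorem card_co2 {v : ↥leechLattice} (hv : sqNorm (v : Zv) = 32) :
    Nat.card (MulAction.stabilizer ↥Co0 v) = 42305421312000 := by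
  have h := orbit_card hv (fun w hw => transitive_of_orb (fun y hy hn => orb_short hy hn) v w hv hw) card_short
  rw [card_co0] at h
  omega

theorem card_co3 {v : ↥leechLattice} (hv : sqNorm (v : Zv) = 48) :
    Nat.card (MulAction.stabilizer ↥Co0 v) = 495766656000 := by
  have h := orbit_card hv (fun w hw => transitive_of_orb (fun y hy hn => orb_mid hy hn) v w hv hw) card_mid
  rw [card_co0] at h
  omega

theorem simple_co2_ref : IsSimpleGroup
    ↥(MulAction.stabilizer ↥Co0 (⟨specVec (-3), leechCheck_mem specVec_facts.1⟩ : ↥leechLattice)) := by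
  classical
  set v : ↥leechLattice := ⟨specVec (-3), leechCheck_mem specVec_facts.1⟩
  set G := MulAction.stabilizer ↥Co0 v
  obtain ⟨g, hgo, hsimp, hgM, hnorm⟩ := stab_special (a := -3) (Or.inl rfl) (v := v) rfl
  have hG : Nat.card G = 42305421312000 := card_co2 specVec_facts.2.1
  haveI := co0_finite
  haveI : Fact (Nat.Prime 23) := ⟨by norm_num⟩
  haveI := hsimp
  have hyp : PrimeHyp 23 (monoSub.subgroupOf G) g := ⟨hgM, hgo, by rw [hG]; norm_num, hnorm⟩
  have hcard : ∀ N : Subgroup ↥G, N.Normal → g ∉ N → Nat.card N = 1 ∨ Nat.card N = 2 ^ 11 := by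
    intro N hN hg
    haveI := hN
    have hd : Nat.card N ∣ 2 ^ 18 * 3 ^ 6 * 5 ^ 3 * 7 * 11 * 23 := by
      have := Subgroup.card_subgroup_dvd_card N
      rw [hG] at this
      exact this
    have hpart : ∀ l : ℕ, l.Prime → l ^ (Nat.card N).factorization l ≡ 1 [MOD 23] := fun l hl => by
      haveI : Fact l.Prime := ⟨hl⟩
      exact hyp.part_modEq N hg l
    have hN2 := odd_parts hd Nat.card_pos.ne' (hyp.not_dvd N hg) (by norm_num) (by norm_num)
      (by norm_num) (by norm_num) (by norm_num) (by norm_num) hpart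
    have hk := exp_bound (n := Nat.card N) (l := 2) (b := 18) hd (by norm_num)
    have hm : 2 ^ (Nat.card N).factorization 2 % 23 = 1 := hpart 2 Nat.prime_two
    generalize (Nat.card N).factorization 2 = k at *
    interval_cases k <;> first | (norm_num at hm; done) | simp [hN2]
  refine hyp.simple fun N hN hg => ?_
  haveI := hN
  by_contra hne
  have hN11 : Nat.card N = 2 ^ 11 := (hcard N hN hg).resolve_left fun h => hne (N.card_eq_one.1 h)
  have heq : ∀ K : Subgroup ↥G, K.Normal → K ≤ N → K ≠ ⊥ → K = N := fun K hK hle hK1 => by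
    refine Subgroup.eq_of_le_of_card_ge hle ?_
    rw [hN11, (hcard K hK fun h => hg (hle h)).resolve_left fun h => hK1 (K.card_eq_one.1 h)]
  haveI : Fact (Nat.Prime 2) := ⟨Nat.prime_two⟩
  haveI : Nontrivial ↥N := Finite.one_lt_card_iff_nontrivial.1 (by rw [hN11]; norm_num)
  -- abelian
  have hab : ∀ x ∈ N, ∀ y ∈ N, x * y = y * x := by
    let Z : Subgroup ↥G := (Subgroup.center ↥N).map N.subtype
    have hZN : Z = N := by
      refine heq Z inferInstance (Subgroup.map_subtype_le _) fun h => ?_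
      haveI := (IsPGroup.of_card (p := 2) (G := ↥N) hN11).center_nontrivial
      obtain ⟨⟨z, hz⟩, hz1⟩ := exists_ne (1 : ↥(Subgroup.center ↥N))
      have : N.subtype z ∈ Z := ⟨z, hz, rfl⟩
      rw [h, Subgroup.mem_bot] at this
      exact hz1 (Subtype.ext (Subtype.ext this))
    intro x hx y hy
    obtain ⟨z, hz, rfl⟩ := (hZN.symm ▸ hx : x ∈ Z)
    exact congrArg Subtype.val ((Subgroup.mem_center_iff.1 hz ⟨y, hy⟩).symm)
  -- exponent two
  have hsq : ∀ x : ↥N, x * x = 1 := by
    let K : Subgroup ↥G :=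
      { carrier := {x | x ∈ N ∧ x * x = 1}
        one_mem' := ⟨one_mem _, one_mul 1⟩
        mul_mem' := fun {x y} hx hy => ⟨mul_mem hx.1 hy.1, by
          calc x * y * (x * y) = x * (y * x) * y := by group
            _ = x * (x * y) * y := by rw [hab y hy.1 x hx.1]
            _ = (x * x) * (y * y) := by group
            _ = 1 := by rw [hx.2, hy.2, one_mul]⟩
        inv_mem' := fun {x} hx => ⟨inv_mem hx.1, by rw [← mul_inv_rev, hx.2, inv_one]⟩ }
    have hKn : K.Normal := ⟨fun x hx c => ⟨hN.conj_mem x hx.1 c, by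
      rw [show c * x * c⁻¹ * (c * x * c⁻¹) = c * (x * x) * c⁻¹ by group, hx.2, mul_one, mul_inv_cancel]⟩⟩
    have hKN : K = N := by
      refine heq K hKn (fun x hx => hx.1) fun h => ?_
      obtain ⟨u, hu⟩ := exists_prime_orderOf_dvd_card' (G := ↥N) 2 (by rw [hN11]; norm_num)
      have : (u : ↥G) ∈ K := ⟨u.2, by
        have := pow_orderOf_eq_one u
        rw [hu, pow_two] at this
        exact congrArg Subtype.val this⟩
      rw [h, Subgroup.mem_bot] at this
      rw [Subtype.ext this (a2 := (1 : ↥N)), orderOf_one] at hu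
      norm_num at hu
    intro x
    exact Subtype.ext (hKN.symm ▸ x.2 : (x : ↥G) ∈ K).2
  -- the centraliser
  let φ : ↥G →* MulAut ↥N := MulAut.conjNormal
  have hker : Nat.card φ.ker = 2 ^ 11 := by
    have hgk : g ∉ φ.ker := fun h => hne ((Subgroup.eq_bot_iff_forall N).2 fun x hx => by
      refine hyp.fixed_free N hg x hx ?_
      have := congrArg (fun e : MulAut ↥N => ((e ⟨x, hx⟩ : ↥N) : ↥G)) (MonoidHom.mem_ker.1 h)
      exact this)
    refine (hcard _ inferInstance hgk).resolve_left fun h1 => ?_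
    have hle : N ≤ φ.ker := fun x hx => by
      refine MonoidHom.mem_ker.2 (MulEquiv.ext fun y => Subtype.ext ?_)
      show x * (y : ↥G) * x⁻¹ = y
      rw [hab x hx y y.2, mul_inv_cancel_right]
    have := Subgroup.card_dvd_of_le hle
    rw [h1, hN11] at this
    norm_num at this
  have h5 : 5 ^ 3 ∣ Nat.card φ.range := by
    rw [← Subgroup.index_ker]
    have := φ.ker.card_mul_index
    rw [hker, hG] at this
    exact ⟨φ.ker.index / 125, by omega⟩
  have := h5.trans ((Subgroup.card_subgroup_dvd_card _).trans (card_mulAut_elementary hsq hN11))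
  norm_num [Fin.prod_univ_succ] at this

theorem simple_co3_ref : IsSimpleGroup
    ↥(MulAction.stabilizer ↥Co0 (⟨specVec 5, leechCheck_mem specVec_facts.2.2.1⟩ : ↥leechLattice)) := by
  classical
  set v : ↥leechLattice := ⟨specVec 5, leechCheck_mem specVec_facts.2.2.1⟩
  set G := MulAction.stabilizer ↥Co0 v
  obtain ⟨g, hgo, hsimp, hgM, hnorm⟩ := stab_special (a := 5) (Or.inr rfl) (v := v) rfl
  have hG : Nat.card G = 495766656000 := card_co3 specVec_facts.2.2.2
  haveI := co0_finite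
  haveI : Fact (Nat.Prime 23) := ⟨by norm_num⟩
  haveI := hsimp
  have hyp : PrimeHyp 23 (monoSub.subgroupOf G) g := ⟨hgM, hgo, by rw [hG]; norm_num, hnorm⟩
  refine hyp.simple fun N hN hg => ?_
  haveI := hN
  have hd : Nat.card N ∣ 2 ^ 10 * 3 ^ 7 * 5 ^ 3 * 7 * 11 * 23 := by
    have := Subgroup.card_subgroup_dvd_card N
    rw [hG] at this
    exact this
  have hpart : ∀ l : ℕ, l.Prime → l ^ (Nat.card N).factorization l ≡ 1 [MOD 23] := fun l hl => by
    haveI : Fact l.Prime := ⟨hl⟩
    exact hyp.part_modEq N hg l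
  have hN2 := odd_parts hd Nat.card_pos.ne' (hyp.not_dvd N hg) (by norm_num) (by norm_num)
    (by norm_num) (by norm_num) (by norm_num) (by norm_num) hpart
  have hk := exp_bound (n := Nat.card N) (l := 2) (b := 10) hd (by norm_num)
  have hm : 2 ^ (Nat.card N).factorization 2 % 23 = 1 := hpart 2 Nat.prime_two
  generalize (Nat.card N).factorization 2 = k at *
  refine N.card_eq_one.1 ?_
  interval_cases k <;> first | (norm_num at hm; done) | simp [hN2]

theorem stab_transfer {v w : ↥leechLattice} (g : ↥Co0) (h : g • v = w)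
    (hs : IsSimpleGroup ↥(MulAction.stabilizer ↥Co0 v)) : IsSimpleGroup ↥(MulAction.stabilizer ↥Co0 w) := by
  subst h
  exact (MulAction.stabilizerEquivStabilizer (G := ↥Co0) (g := g) (a := v) (b := g • v) rfl).symm.isSimpleGroup

theorem co2_spec {v : ↥leechLattice} (hv : sqNorm (v : Zv) = 32) :
    IsCo2 (MulAction.stabilizer ↥Co0 v) := by
  obtain ⟨g, hg⟩ := transitive_of_orb (fun y hy hn => orb_short hy hn)
    (⟨specVec (-3), leechCheck_mem specVec_facts.1⟩ : ↥leechLattice) v specVec_facts.2.1 hv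
  exact ⟨stab_transfer g hg simple_co2_ref, card_co2 hv⟩

theorem co3_spec {v : ↥leechLattice} (hv : sqNorm (v : Zv) = 48) :
    IsCo3 (MulAction.stabilizer ↥Co0 v) := by
  obtain ⟨g, hg⟩ := transitive_of_orb (fun y hy hn => orb_mid hy hn)
    (⟨specVec 5, leechCheck_mem specVec_facts.2.2.1⟩ : ↥leechLattice) v specVec_facts.2.2.2 hv
  exact ⟨stab_transfer g hg simple_co3_ref, card_co3 hv⟩

end Cfsg.Agent.Spor
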