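/-
The 11178 minimal vectors with inner product -16 with a vector of squared norm 48 form one orbit of its
stabiliser.
-/
import Cfsg.Agent.Lib.Spor.LeechPairs
import Cfsg.Agent.Lib.Spor.GolayOctadFix
import Cfsg.Agent.Lib.Spor.GolayTrios

set_option autoImplicit false
set_option maxRecDepth 100000

namespace Cfsg.Agent.Spor

open Cfsg
open scoped Pointwise

local notation "Zv" => GolayPt → ℤ

/-- a vector taking the value c on P and -c on the rest of S -/
def sVec (c : ℤ) (P S : Finset GolayPt) : Zv := fun p => if p ∈ P then c else if p ∈ S then -c else 0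

theorem sum_sVec (c : ℤ) {P S : Finset GolayPt} (h : P ⊆ S) :
    ∑ p, sVec c P S p = c * (2 * P.card - S.card) := by
  have e : ∀ p, sVec c P S p = (if p ∈ P then 2 * c else 0) + (if p ∈ S then -c else 0) := fun p => by
    by_cases hp : p ∈ P
    · simp [sVec, hp, h hp]; ring
    · by_cases hs : p ∈ S <;> simp [sVec, hp, hs]
  rw [Finset.sum_congr rfl fun p _ => e p, Finset.sum_add_distrib, Finset.sum_ite_mem, Finset.sum_ite_mem,
    Finset.univ_inter, Finset.univ_inter, Finset.sum_const, Finset.sum_const, nsmul_eq_mul, nsmul_eq_mul]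
  push_cast; ring

theorem prm_sVec (σ : Equiv.Perm GolayPt) (c : ℤ) (P S : Finset GolayPt) :
    prm σ (sVec c P S) = sVec c (σ • P) (σ • S) := by
  funext p
  obtain ⟨q, rfl⟩ := σ.surjective p
  show sVec c P S (σ.symm (σ q)) = _
  rw [Equiv.symm_apply_apply]
  simp [sVec, mem_smul_iff']

theorem absV_sVec {c : ℤ} (hc : 0 ≤ c) {P S : Finset GolayPt} (h : P ⊆ S) :
    absV (sVec c P S) = setVec 0 c S := by
  funext p
  by_cases hp : p ∈ P
  · simp [absV, sVec, setVec, hp, h hp, abs_of_nonneg hc]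
  · by_cases hs : p ∈ S <;> simp [absV, sVec, setVec, hp, hs, abs_of_nonneg hc]

theorem sVec_of_absV {c : ℤ} (hc : 0 < c) {S : Finset GolayPt} {y : Zv} (h : absV y = setVec 0 c S) :
    y = sVec c (S.filter fun p => y p = c) S := by
  funext p
  have hp : |y p| = if p ∈ S then c else 0 := congrFun h p
  by_cases hs : p ∈ S
  · rw [if_pos hs] at hp
    rcases (abs_eq hc.le).1 hp with e | e
    · simp [sVec, hs, e]
    · have hne : (-c) ≠ c := by omega
      simp [sVec, hs, e, hne]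
  · rw [if_neg hs, abs_eq_zero] at hp
    simp [sVec, hs, hp]

/-! ### the five kinds -/

/-- the set considered -/
def mid16 : Set Zv := {x | x ∈ leechLattice ∧ sqNorm x = 32 ∧ dotInt uRef x = -16}

/-- first kind -/
def kA (a : GolayPt) : Zv := sVec 4 {a} {a, none}
/-- second kind -/
def kB (o P : Finset GolayPt) : Zv := sVec 2 P o
/-- third kind -/
def kC (o : Finset GolayPt) : Zv := sVec 2 ∅ o
/-- fourth kind -/
def kD (d : Finset GolayPt) : Zv := sgn (setWord d) (setVec 1 (-3) {none})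
/-- fifth kind -/
def kE (o : Finset GolayPt) (a : GolayPt) : Zv := sgn (setWord oᶜ) (setVec 1 (-3) {a})

/-- pairs inside octads through the point -/
def idxB : Set (Finset GolayPt × Finset GolayPt) := {q | q.1 ∈ octThrough ∧ q.2 ⊆ q.1.erase none ∧ q.2.card = 2}
/-- octads off the point -/
def octOff : Set (Finset GolayPt) := {o | o ∈ octads ∧ none ∉ o}
/-- dodecads off the point -/
def dodOff : Set (Finset GolayPt) := {d | d ∈ dodecads ∧ none ∉ d}
/-- octads off the point with one of their points -/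
def idxE : Set (Finset GolayPt × GolayPt) := {q | q.1 ∈ octOff ∧ q.2 ∈ q.1}

theorem compl_code {s : Finset GolayPt} (h : s ∈ codeSets) : sᶜ ∈ codeSets := by
  show sᶜ ∈ supports (golayCode : Set (GolayPt → ZMod 2))
  rw [mem_supports, mask_compl]
  exact codeMasks_xor one_mem_codeMasks (mem_supports.1 h)

theorem sum_odd_flip (k : Finset GolayPt) (a : GolayPt) :
    ∑ p, sgn (setWord k) (setVec 1 (-3) {a}) p = 20 - 2 * ((k.card : ℤ) - (if a ∈ k then 4 else 0)) := by
  have ey : ∀ p, sgn (setWord k) (setVec 1 (-3) {a}) p =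
      setVec 1 (-3) {a} p - (if p ∈ k then 2 * setVec 1 (-3) {a} p else 0) := fun p => by
    by_cases hp : p ∈ k <;> simp [sgn, setWord, hp]; ring
  have e' : ∀ p, setVec 1 (-3) {a} p = 1 + (if p = a then -4 else 0) := fun p => by
    by_cases hp : p = a <;> simp [setVec, hp]
  rw [Finset.sum_congr rfl fun p _ => ey p, Finset.sum_sub_distrib, Finset.sum_ite_mem, Finset.univ_inter,
    ← Finset.mul_sum, sum_setVec, Finset.sum_congr rfl fun p _ => e' p, Finset.sum_add_distrib,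
    Finset.sum_ite_eq', Finset.sum_const, Finset.card_singleton]
  split_ifs <;> simp <;> ring

theorem mid16_form {y : Zv} (hy : y ∈ mid16) :
    (∃ a, a ≠ none ∧ y = kA a) ∨ (∃ q ∈ idxB, y = kB q.1 q.2) ∨ (∃ o ∈ octOff, y = kC o) ∨
      (∃ d ∈ dodOff, y = kD d) ∨ (∃ q ∈ idxE, y = kE q.1 q.2) := by
  obtain ⟨hL, hn, hd⟩ := hy
  rw [dot_uRef] at hd
  obtain ⟨a0, a1, -⟩ := base_abs
  obtain ⟨i, hi, him⟩ := short_form hL hn
  interval_cases i
  · obtain ⟨σ, -, e⟩ := img_abs him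
    rw [a0, prm_setVec] at e
    set S := σ • ofMask 8388609 with hS
    have hS2 : S.card = 2 := by rw [hS, Finset.card_smul_finset]; decide +kernel
    have ey := sVec_of_absV (by norm_num) e
    set P := S.filter fun p => y p = 4
    have hP : P ⊆ S := Finset.filter_subset _ _
    have hs : ∑ p, y p = 4 * (2 * P.card - 2) := by
      conv_lhs => rw [ey]
      rw [sum_sVec _ hP, hS2]; rfl
    have hPc : P.card ≤ 2 := hS2 ▸ Finset.card_le_card hP
    have hv : y none = if none ∈ P then 4 else if none ∈ S then -4 else 0 := congrFun ey none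
    by_cases h1 : none ∈ P
    · rw [if_pos h1] at hv; omega
    by_cases h2 : none ∈ S
    · rw [if_neg h1, if_pos h2] at hv
      obtain ⟨a, ha⟩ := Finset.card_eq_one.1 (show P.card = 1 by omega)
      have haS : a ∈ S := hP (ha ▸ Finset.mem_singleton_self a)
      have han : a ≠ none := fun h => h1 (by rw [ha, h]; exact Finset.mem_singleton_self _)
      refine Or.inl ⟨a, han, ?_⟩
      have hS' : ({a, none} : Finset GolayPt) = S :=
        Finset.eq_of_subset_of_card_le (Finset.insert_subset haS (Finset.singleton_subset_iff.2 h2))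
          (by rw [hS2, Finset.card_pair han])
      rw [kA, hS', ← ha]
      exact ey
    · rw [if_neg h1, if_neg h2] at hv; omega
  · obtain ⟨σ, hσ, e⟩ := img_abs him
    rw [a1, prm_setVec] at e
    set S := σ • ofMask 5279 with hS
    have hS8 : S ∈ octads := smul_octad hσ baseOctad_mem
    have ey := sVec_of_absV (by norm_num) e
    set P := S.filter fun p => y p = 2
    have hP : P ⊆ S := Finset.filter_subset _ _
    have hs : ∑ p, y p = 2 * (2 * P.card - 8) := by
      conv_lhs => rw [ey]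
      rw [sum_sVec _ hP, hS8.2]; rfl
    have hPc : P.card ≤ 8 := hS8.2 ▸ Finset.card_le_card hP
    have hv : y none = if none ∈ P then 2 else if none ∈ S then -2 else 0 := congrFun ey none
    by_cases h1 : none ∈ P
    · rw [if_pos h1] at hv; omega
    by_cases h2 : none ∈ S
    · rw [if_neg h1, if_pos h2] at hv
      refine Or.inr (Or.inl ⟨(S, P), ⟨⟨hS8, h2⟩, fun p hp => Finset.mem_erase.2 ⟨fun h => h1 (h ▸ hp), hP hp⟩,
        show P.card = 2 by omega⟩, ey⟩)
    · rw [if_neg h1, if_neg h2] at hv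
      refine Or.inr (Or.inr (Or.inl ⟨S, ⟨hS8, h2⟩, ?_⟩))
      rw [kC, ← Finset.card_eq_zero.1 (show P.card = 0 by omega)]
      exact ey
  · have hodd : ∀ p, y p % 2 = 1 := by
      obtain ⟨σ, -, w, -, e⟩ := him
      intro p
      have h0 : ∀ q, shortBase 2 q % 2 = 1 := by decide +kernel
      have := h0 (σ.symm p)
      rw [e]
      simp only [prm, sgn]
      split_ifs <;> omega
    obtain ⟨w, hw, T, U, -, hc, e⟩ := odd_normal hL hn (by norm_num) hodd
    have hU : U = ∅ := Finset.card_eq_zero.1 (by omega)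
    obtain ⟨a, ha⟩ := Finset.card_eq_one.1 (show T.card = 1 by omega)
    have hb : (fun i => if i ∈ T then -3 else if i ∈ U then 5 else 1 : Zv) = setVec 1 (-3) {a} :=
      funext fun i => by simp [setVec, ha, hU]
    rw [hb] at e
    set k := support₂ w with hk
    have hkc : k ∈ codeSets := ⟨w, hw, rfl⟩
    have hcard := codeSets_card hkc
    have hwk : w = setWord k := funext fun p => by
      rcases word_eq_one_or_zero (w p) with h | h <;> simp [setWord, hk, mem_support₂, h]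
    rw [hwk] at e
    rw [e, sum_odd_flip] at hd
    by_cases han : a = none
    · subst han
      by_cases hnk : none ∈ k
      · have hv : sgn (setWord k) (setVec 1 (-3) {(none : GolayPt)}) none = 3 := by
          simp [sgn, setWord, setVec, hnk]
        rw [hv, if_pos hnk] at hd
        rcases hcard with h | h | h | h | h <;> omega
      · have hv : sgn (setWord k) (setVec 1 (-3) {(none : GolayPt)}) none = -3 := by
          simp [sgn, setWord, setVec, hnk]
        rw [hv, if_neg hnk] at hd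
        exact Or.inr (Or.inr (Or.inr (Or.inl ⟨k, ⟨⟨hkc, by omega⟩, hnk⟩, e⟩)))
    · by_cases hnk : none ∈ k
      · have hv : sgn (setWord k) (setVec 1 (-3) {a}) none = -1 := by
          simp [sgn, setWord, setVec, hnk, Ne.symm han]
        rw [hv] at hd
        have hak : a ∉ k := fun h => by
          rw [if_pos h] at hd
          rcases hcard with h' | h' | h' | h' | h' <;> omega
        rw [if_neg hak] at hd
        have hco : kᶜ ∈ octads := ⟨compl_code hkc, by
          rw [Finset.card_compl, show Fintype.card GolayPt = 24 from rfl]; omega⟩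
        refine Or.inr (Or.inr (Or.inr (Or.inr ⟨(kᶜ, a),
          ⟨⟨hco, by simp [hnk]⟩, Finset.mem_compl.2 hak⟩, ?_⟩)))
        rw [kE, compl_compl]
        exact e
      · have hv : sgn (setWord k) (setVec 1 (-3) {a}) none = 1 := by
          simp [sgn, setWord, setVec, hnk, Ne.symm han]
        rw [hv] at hd
        exfalso
        by_cases hak : a ∈ k
        · rw [if_pos hak] at hd
          have hk24 : k.card = 24 := by rcases hcard with h' | h' | h' | h' | h' <;> omega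
          exact hnk (Finset.eq_univ_of_card k hk24 ▸ Finset.mem_univ _)
        · rw [if_neg hak] at hd
          rcases hcard with h' | h' | h' | h' | h' <;> omega

theorem sVec_mem {c : ℤ} {P S : Finset GolayPt} {y : Zv} (e : ∀ p, sVec c P S p = y p) (hy : y ∈ leechLattice) :
    sVec c P S ∈ leechLattice := funext e ▸ hy

theorem octad_signs {o : Finset GolayPt} (ho : o ∈ octads) {P : Finset GolayPt} (hP : P ⊆ o)
    (hev : Even P.card) : sVec 2 P o ∈ leechLattice := by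
  obtain ⟨m, hm⟩ : ∃ m, P.card = 2 * m := ⟨hev.choose, by rw [two_mul]; exact hev.choose_spec⟩
  refine mem_leech.2 ⟨0, ?_, ?_, ?_⟩
  · intro i; simp only [sVec]; split_ifs <;> norm_num
  · rw [sum_sVec _ hP, ho.2, hm]; push_cast; omega
  · have e : digit (sVec 2 P o) = setWord o := funext fun i => by
      by_cases hi : i ∈ o
      · by_cases hp : i ∈ P <;> simp [digit, sVec, setWord, hi, hp]
      · simp [digit, sVec, setWord, hi, show i ∉ P from fun h => hi (hP h)]
    rw [e]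
    exact setWord_mem ho.1

theorem sVec_norm (c : ℤ) {P S : Finset GolayPt} (h : P ⊆ S) : sqNorm (sVec c P S) = S.card * c ^ 2 := by
  have e : ∀ p, sVec c P S p ^ 2 = if p ∈ S then c ^ 2 else 0 := fun p => by
    by_cases hp : p ∈ P
    · simp [sVec, hp, h hp]
    · by_cases hs : p ∈ S <;> simp [sVec, hp, hs]
  rw [sqNorm, Finset.sum_congr rfl fun p _ => e p, Finset.sum_ite_mem, Finset.univ_inter, Finset.sum_const,
    nsmul_eq_mul]

theorem mid16_spec :
    (∀ a, a ≠ none → kA a ∈ mid16) ∧ (∀ q ∈ idxB, kB q.1 q.2 ∈ mid16) ∧ (∀ o ∈ octOff, kC o ∈ mid16) ∧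
      (∀ d ∈ dodOff, kD d ∈ mid16) ∧ (∀ q ∈ idxE, kE q.1 q.2 ∈ mid16) := by
  refine ⟨fun a ha => ?_, ?_, ?_, ?_, ?_⟩
  · have e : kA a = pairVec a none (-1) := funext fun p => by
      by_cases h1 : p = a <;> by_cases h2 : p = none <;> simp_all [kA, sVec, pairVec]
    obtain ⟨h1, h2⟩ := pairVec_spec ha (Or.inr (rfl : (-1 : ℤ) = -1))
    refine ⟨e ▸ h1, e ▸ h2, ?_⟩
    rw [dot_uRef, kA, sum_sVec _ (by simp), Finset.card_singleton, Finset.card_pair ha]
    simp [sVec, Ne.symm ha]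
  · rintro ⟨o, P⟩ ⟨⟨ho, hno⟩, hP, hc⟩
    simp only at *
    have hP' : P ⊆ o := hP.trans (Finset.erase_subset _ _)
    refine ⟨octad_signs ho hP' ⟨1, hc⟩, by rw [kB, sVec_norm _ hP', ho.2]; norm_num, ?_⟩
    have hn : none ∉ P := fun h => (Finset.mem_erase.1 (hP h)).1 rfl
    rw [dot_uRef, kB, sum_sVec _ hP', ho.2, hc]
    simp [sVec, hn, hno]
  · rintro o ⟨ho, hno⟩
    refine ⟨octad_signs ho (Finset.empty_subset _) ⟨0, rfl⟩,
      by rw [kC, sVec_norm _ (Finset.empty_subset _), ho.2]; norm_num, ?_⟩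
    rw [dot_uRef, kC, sum_sVec _ (Finset.empty_subset _), ho.2]
    simp [sVec, hno]
  · rintro d ⟨hd, hnd⟩
    obtain ⟨h1, h2⟩ := odd_single_mem none
    refine ⟨sgn_mem (setWord_mem hd.1) h1, (sqNorm_sgn _ _).trans h2, ?_⟩
    rw [dot_uRef, kD, sum_odd_flip, hd.2, if_neg hnd]
    simp [sgn, setWord, setVec, hnd]
  · rintro ⟨o, a⟩ ⟨⟨ho, hno⟩, hao⟩
    simp only at *
    have han : a ≠ none := fun h => hno (h ▸ hao)
    obtain ⟨h1, h2⟩ := odd_single_mem a
    refine ⟨sgn_mem (setWord_mem (compl_code ho.1)) h1, (sqNorm_sgn _ _).trans h2, ?_⟩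
    rw [dot_uRef, kE, sum_odd_flip, Finset.card_compl, ho.2, if_neg (by simp [hao])]
    simp [sgn, setWord, setVec, hno, Ne.symm han, show Fintype.card GolayPt = 24 from rfl]

theorem mid16_values :
    (∀ a, a ≠ none → |kA a none| = 4) ∧ (∀ q ∈ idxB, |kB q.1 q.2 none| = 2) ∧ (∀ o ∈ octOff, |kC o none| = 0) ∧
      (∀ d ∈ dodOff, |kD d none| = 3) ∧ (∀ q ∈ idxE, |kE q.1 q.2 none| = 1) := by
  refine ⟨fun a ha => by simp [kA, sVec, Ne.symm ha], ?_, ?_, ?_, ?_⟩
  · rintro ⟨o, P⟩ ⟨⟨-, hno⟩, hP, -⟩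
    have hn : none ∉ P := fun h => (Finset.mem_erase.1 (hP h)).1 rfl
    simp [kB, sVec, hn, hno]
  · rintro o ⟨-, hno⟩; simp [kC, sVec, hno]
  · rintro d ⟨-, hnd⟩; simp [kD, sgn, setWord, setVec, hnd]
  · rintro ⟨o, a⟩ ⟨⟨-, hno⟩, hao⟩
    have han : none ≠ a := fun h => hno (h ▸ hao)
    simp [kE, sgn, setWord, setVec, hno, han]

/-! ### the count -/

theorem ncard_octOff : octOff.ncard = 506 := by
  rw [ncard_of_masks (l := octMasks.filter fun m => !Nat.testBit m 23) (octMasks_nodup.filter _)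
    (fun m hm => octMasks_lt (List.mem_filter.1 hm).1)
    (fun s => by
      rw [List.mem_filter, ← mem_octads, Bool.not_eq_true', Bool.eq_false_iff, ne_eq,
        show Nat.testBit (mask s) 23 = true ↔ none ∈ s from testBit_mask_idx (p := none)]
      rfl)]
  decide +kernel

theorem ncard_dodOff : dodOff.ncard = 1288 := by
  rw [ncard_of_masks (l := dodMasks.filter fun m => !Nat.testBit m 23) (dodMasks_nodup.filter _)
    (fun m hm => dodMasks_lt (List.mem_filter.1 hm).1)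
    (fun s => by
      rw [List.mem_filter, ← mem_dodecads, Bool.not_eq_true', Bool.eq_false_iff, ne_eq,
        show Nat.testBit (mask s) 23 = true ↔ none ∈ s from testBit_mask_idx (p := none)]
      rfl)]
  decide +kernel

theorem ncard_idxB : idxB.ncard = 5313 := by
  classical
  set F := octThrough.toFinite.toFinset
  set R : Finset (Finset GolayPt × Finset GolayPt) :=
    (F.sigma fun o => (o.erase none).powersetCard 2).image fun q => (q.1, q.2)
  have e : idxB = (R : Set (Finset GolayPt × Finset GolayPt)) := by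
    ext ⟨o, P⟩
    simp only [R, F, idxB, Set.mem_setOf_eq, Finset.coe_image, Set.mem_image, Finset.mem_coe, Finset.mem_sigma,
      Set.Finite.mem_toFinset, Finset.mem_powersetCard, Sigma.exists, Prod.mk.injEq]
    constructor
    · rintro ⟨h1, h2⟩; exact ⟨o, P, ⟨h1, h2⟩, rfl, rfl⟩
    · rintro ⟨o, P, ⟨h1, h2⟩, rfl, rfl⟩; exact ⟨h1, h2⟩
  rw [e, Set.ncard_coe_finset, Finset.card_image_of_injective _
      (fun a b h => Sigma.ext (congrArg Prod.fst h) (heq_of_eq (congrArg Prod.snd h))), Finset.card_sigma,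
    Finset.sum_congr rfl (g := fun _ => 21) fun o ho => by
      rw [Set.Finite.mem_toFinset] at ho
      rw [Finset.card_powersetCard, Finset.card_erase_of_mem ho.2, ho.1.2]; rfl,
    Finset.sum_const, ← Set.ncard_eq_toFinset_card _, ncard_octThrough]
  rfl

theorem ncard_idxE : idxE.ncard = 4048 := by
  classical
  set F := octOff.toFinite.toFinset
  set R : Finset (Finset GolayPt × GolayPt) := (F.sigma fun o => o).image fun q => (q.1, q.2)
  have e : idxE = (R : Set (Finset GolayPt × GolayPt)) := by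
    ext ⟨o, a⟩
    simp only [R, F, idxE, Set.mem_setOf_eq, Finset.coe_image, Set.mem_image, Finset.mem_coe, Finset.mem_sigma,
      Set.Finite.mem_toFinset, Sigma.exists, Prod.mk.injEq]
    constructor
    · rintro ⟨h1, h2⟩; exact ⟨o, a, ⟨h1, h2⟩, rfl, rfl⟩
    · rintro ⟨o, a, ⟨h1, h2⟩, rfl, rfl⟩; exact ⟨h1, h2⟩
  rw [e, Set.ncard_coe_finset, Finset.card_image_of_injective _
      (fun a b h => Sigma.ext (congrArg Prod.fst h) (heq_of_eq (congrArg Prod.snd h))), Finset.card_sigma,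
    Finset.sum_congr rfl (g := fun _ => 8) fun o ho => by
      rw [Set.Finite.mem_toFinset] at ho
      exact ho.1.2,
    Finset.sum_const, ← Set.ncard_eq_toFinset_card _, ncard_octOff]
  rfl

theorem card_mid16 : mid16.ncard = 11178 := by
  classical
  obtain ⟨sA, sB, sC, sD, sE⟩ := mid16_spec
  obtain ⟨vA, vB, vC, vD, vE⟩ := mid16_values
  have e : mid16 = kA '' {a | a ≠ none} ∪ ((fun q => kB q.1 q.2) '' idxB ∪ (kC '' octOff ∪
      (kD '' dodOff ∪ (fun q => kE q.1 q.2) '' idxE))) := by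
    refine Set.Subset.antisymm (fun y hy => ?_) ?_
    · rcases mid16_form hy with ⟨a, ha, rfl⟩ | ⟨q, hq, rfl⟩ | ⟨o, ho, rfl⟩ | ⟨d, hd, rfl⟩ | ⟨q, hq, rfl⟩
      · exact Or.inl ⟨a, ha, rfl⟩
      · exact Or.inr (Or.inl ⟨q, hq, rfl⟩)
      · exact Or.inr (Or.inr (Or.inl ⟨o, ho, rfl⟩))
      · exact Or.inr (Or.inr (Or.inr (Or.inl ⟨d, hd, rfl⟩)))
      · exact Or.inr (Or.inr (Or.inr (Or.inr ⟨q, hq, rfl⟩)))
    · rintro y (⟨a, ha, rfl⟩ | ⟨q, hq, rfl⟩ | ⟨o, ho, rfl⟩ | ⟨d, hd, rfl⟩ | ⟨q, hq, rfl⟩)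
      · exact sA a ha
      · exact sB q hq
      · exact sC o ho
      · exact sD d hd
      · exact sE q hq
  have iA : Set.InjOn kA {a | a ≠ none} := fun a ha b hb h => by
    have := congrFun h a
    by_contra hne
    simp [kA, sVec, hne, (show a ≠ none from ha)] at this
  have iB : Set.InjOn (fun q => kB q.1 q.2) idxB := fun a ha b hb h => by
    have hsub : a.2 ⊆ a.1 := ha.2.1.trans (Finset.erase_subset _ _)
    have hsub' : b.2 ⊆ b.1 := hb.2.1.trans (Finset.erase_subset _ _)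
    have h1 : a.1 = b.1 := setVec_injective (by norm_num : (2 : ℤ) ≠ 0) (by
      rw [← absV_sVec (by norm_num) hsub, ← absV_sVec (by norm_num) hsub']; exact congrArg absV h)
    refine Prod.ext h1 (Finset.ext fun p => ?_)
    have := congrFun h p
    by_cases q1 : p ∈ a.2 <;> by_cases q2 : p ∈ b.2 <;> by_cases q3 : p ∈ b.1 <;>
      simp [kB, sVec, q1, q2, q3, h1] at this ⊢
  have iC : Set.InjOn kC octOff := fun a _ b _ h => setVec_injective (by norm_num : (2 : ℤ) ≠ 0) (by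
    rw [← absV_sVec (by norm_num) (Finset.empty_subset a), ← absV_sVec (by norm_num) (Finset.empty_subset b)]
    exact congrArg absV h)
  have iD : Set.InjOn kD dodOff := fun a _ b _ h => Finset.ext fun p => by
    have := congrFun h p
    by_cases hp : p = none <;> by_cases ha : p ∈ a <;> by_cases hb : p ∈ b <;>
      simp [kD, sgn, setVec, setWord, ha, hb, hp] at this ⊢ <;> simp_all
  have iE : Set.InjOn (fun q => kE q.1 q.2) idxE := fun a _ b _ h => by
    have h2 : a.2 = b.2 := by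
      have := congrArg absV h
      simp only [kE, absV_sgn] at this
      have := congrFun this a.2
      by_contra hne
      simp [absV, setVec, hne] at this
    refine Prod.ext (Finset.ext fun p => ?_) h2
    have := congrFun h p
    by_cases hp : p = b.2 <;> by_cases ha : p ∈ a.1 <;> by_cases hb : p ∈ b.1 <;>
      simp [kE, sgn, setVec, setWord, ha, hb, hp, h2] at this ⊢ <;> simp_all
  have hne : ({a | a ≠ none} : Set GolayPt).ncard = 23 := by
    rw [show ({a | a ≠ none} : Set GolayPt) = {none}ᶜ from rfl, Set.ncard_compl, Set.ncard_singleton,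
      Nat.card_eq_fintype_card]
    rfl
  have fA : (kA '' {a | a ≠ none}).Finite := (Set.toFinite _).image _
  have fB : ((fun q => kB q.1 q.2) '' idxB).Finite := (Set.toFinite _).image _
  have fC : (kC '' octOff).Finite := (Set.toFinite _).image _
  have fD : (kD '' dodOff).Finite := (Set.toFinite _).image _
  have fE : ((fun q => kE q.1 q.2) '' idxE).Finite := (Set.toFinite _).image _
  rw [e, Set.ncard_union_eq ?_ fA (fB.union (fC.union (fD.union fE))),
    Set.ncard_union_eq ?_ fB (fC.union (fD.union fE)), Set.ncard_union_eq ?_ fC (fD.union fE),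
    Set.ncard_union_eq ?_ fD fE, Set.ncard_image_of_injOn iA, Set.ncard_image_of_injOn iB,
    Set.ncard_image_of_injOn iC, Set.ncard_image_of_injOn iD, Set.ncard_image_of_injOn iE, hne, ncard_idxB,
    ncard_octOff, ncard_dodOff, ncard_idxE]
  all_goals rw [Set.disjoint_left]
  · rintro _ ⟨d, hd, rfl⟩ ⟨q, hq, e'⟩
    have := congrArg (fun z : Zv => |z none|) e'
    simp only [vD d hd, vE q hq] at this; omega
  · rintro _ ⟨o, ho, rfl⟩ (⟨d, hd, e'⟩ | ⟨q, hq, e'⟩) <;> have := congrArg (fun z : Zv => |z none|) e'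
    · simp only [vC o ho, vD d hd] at this; omega
    · simp only [vC o ho, vE q hq] at this; omega
  · rintro _ ⟨b, hb, rfl⟩ (⟨o, ho, e'⟩ | ⟨d, hd, e'⟩ | ⟨q, hq, e'⟩) <;>
      have := congrArg (fun z : Zv => |z none|) e'
    · simp only [vB b hb, vC o ho] at this; omega
    · simp only [vB b hb, vD d hd] at this; omega
    · simp only [vB b hb, vE q hq] at this; omega
  · rintro _ ⟨a, ha, rfl⟩ (⟨b, hb, e'⟩ | ⟨o, ho, e'⟩ | ⟨d, hd, e'⟩ | ⟨q, hq, e'⟩) <;>
      have := congrArg (fun z : Zv => |z none|) e'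
    · simp only [vA a ha, vB b hb] at this; omega
    · simp only [vA a ha, vC o ho] at this; omega
    · simp only [vA a ha, vD d hd] at this; omega
    · simp only [vA a ha, vE q hq] at this; omega

/-! ### transitivity on each kind -/

theorem octad_three_map {U V : Finset GolayPt} (hU : U ∈ octads) (hV : V ∈ octads) {b c d b' c' d' : GolayPt}
    (hb : b ∈ U) (hc : c ∈ U) (hd : d ∈ U) (nbc : b ≠ c) (nbd : b ≠ d) (ncd : c ≠ d)
    (hb' : b' ∈ V) (hc' : c' ∈ V) (hd' : d' ∈ V) (nbc' : b' ≠ c') (nbd' : b' ≠ d') (ncd' : c' ≠ d') :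
    ∃ σ ∈ M24, σ • U = V ∧ σ b = b' ∧ σ c = c' ∧ σ d = d' := by
  classical
  have ext5 : ∀ {U : Finset GolayPt}, U.card = 8 → ∀ {b c d : GolayPt}, b ∈ U → c ∈ U → d ∈ U → b ≠ c → b ≠ d →
      c ≠ d → ∃ f : Fin 5 ↪ GolayPt, f 0 = b ∧ f 1 = c ∧ f 2 = d ∧ ∀ i, f i ∈ U := by
    intro U hU b c d hb hc hd h1 h2 h3
    have hcard : 1 < (U \ {b, c, d}).card := by
      have := Finset.le_card_sdiff ({b, c, d} : Finset GolayPt) U
      have : ({b, c, d} : Finset GolayPt).card ≤ 3 := Finset.card_le_three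
      omega
    obtain ⟨e, he, e', he', hne⟩ := Finset.one_lt_card.1 hcard
    simp only [Finset.mem_sdiff, Finset.mem_insert, Finset.mem_singleton, not_or] at he he'
    refine ⟨⟨![b, c, d, e, e'], ?_⟩, rfl, rfl, rfl, ?_⟩
    · intro u v
      fin_cases u <;> fin_cases v <;>
        simp [h1, h2, h3, Ne.symm h1, Ne.symm h2, Ne.symm h3, hne, Ne.symm hne, he.2.1, he.2.2.1, he.2.2.2,
          he'.2.1, he'.2.2.1, he'.2.2.2, Ne.symm he.2.1, Ne.symm he.2.2.1, Ne.symm he.2.2.2,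
          Ne.symm he'.2.1, Ne.symm he'.2.2.1, Ne.symm he'.2.2.2]
    · intro i
      fin_cases i <;> first | exact hb | exact hc | exact hd | exact he.1 | exact he'.1
  obtain ⟨f, f0, f1, f2, fU⟩ := ext5 hU.2 hb hc hd nbc nbd ncd
  obtain ⟨f', f0', f1', f2', fV⟩ := ext5 hV.2 hb' hc' hd' nbc' nbd' ncd'
  obtain ⟨σ, hσ, hm⟩ := M24_trans le_rfl f f'
  refine ⟨σ, hσ, ?_, by rw [← f0, hm, f0'], by rw [← f1, hm, f1'], by rw [← f2, hm, f2']⟩
  refine octad_eq_of_five (smul_octad hσ hU) hV ?_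
  calc 5 = (Finset.univ.map f').card := by simp
    _ ≤ _ := Finset.card_le_card fun p hp => by
      obtain ⟨i, -, rfl⟩ := Finset.mem_map.1 hp
      exact Finset.mem_inter.2 ⟨hm i ▸ (mem_smul_iff' σ U (f i)).2 (fU i), fV i⟩

theorem fixM_octad_trans {o : Finset GolayPt} (ho : o ∈ octads) {p q : GolayPt} (hp : p ∉ o) (hq : q ∉ o) :
    ∃ e ∈ fixM o, e p = q := by
  let φ : fixM o → {q : GolayPt // q ∉ o} := fun e => ⟨e.1 p, fun hin => hp (by
    have := (mem_fixM.1 e.2).2 _ hin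
    rw [e.1.injective this] at hin
    exact hin)⟩
  have hinj : Function.Injective φ := fun a b h => by
    have h1 := fixM_octad_regular ho (mul_mem (inv_mem b.2) a.2) hp (by
      show b.1.symm (a.1 p) = p
      rw [show a.1 p = b.1 p from congrArg Subtype.val h, Equiv.symm_apply_apply])
    exact Subtype.ext (inv_mul_eq_one.1 h1).symm
  have hbij : Function.Bijective φ := by
    rw [Nat.bijective_iff_injective_and_card]
    refine ⟨hinj, ?_⟩
    rw [(card_fixM_octad ho).1, Nat.card_eq_fintype_card, Fintype.card_subtype_compl, Fintype.card_coe, ho.2]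
    rfl
  obtain ⟨e, he⟩ := hbij.2 ⟨q, hq⟩
  exact ⟨e.1, e.2, congrArg Subtype.val he⟩

theorem octOff_trans {o o' : Finset GolayPt} (ho : o ∈ octOff) (ho' : o' ∈ octOff) {a a' : GolayPt}
    (ha : a ∈ o) (ha' : a' ∈ o') : ∃ σ ∈ M24, σ none = none ∧ σ • o = o' ∧ σ a = a' := by
  classical
  have pick : ∀ {U : Finset GolayPt}, U.card = 8 → ∀ {a : GolayPt}, a ∈ U →
      ∃ c d, c ∈ U ∧ d ∈ U ∧ a ≠ c ∧ a ≠ d ∧ c ≠ d := by
    intro U hU a ha
    obtain ⟨c, hc, d, hd, hne⟩ := Finset.one_lt_card.1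
      (show 1 < (U.erase a).card by rw [Finset.card_erase_of_mem ha, hU]; norm_num)
    exact ⟨c, d, (Finset.mem_erase.1 hc).2, (Finset.mem_erase.1 hd).2, Ne.symm (Finset.mem_erase.1 hc).1,
      Ne.symm (Finset.mem_erase.1 hd).1, hne⟩
  obtain ⟨c, d, hc, hd, n1, n2, n3⟩ := pick ho.1.2 ha
  obtain ⟨c', d', hc', hd', n1', n2', n3'⟩ := pick ho'.1.2 ha'
  obtain ⟨σ, hσ, hσo, hσa, -, -⟩ := octad_three_map ho.1 ho'.1 ha hc hd n1 n2 n3 ha' hc' hd' n1' n2' n3'
  have hn : σ none ∉ o' := fun h => ho.2 (by rw [← hσo] at h; exact (mem_smul_iff' σ o none).1 h)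
  obtain ⟨e, he, hen⟩ := fixM_octad_trans ho'.1 hn ho'.2
  obtain ⟨heM, hefix⟩ := mem_fixM.1 he
  refine ⟨e * σ, mul_mem heM hσ, hen, ?_, ?_⟩
  · rw [mul_smul, hσo]
    exact fixM_le_stabM o' he |>.2
  · show e (σ a) = a'
    rw [hσa]; exact hefix _ ha'

theorem dodOff_trans {d d' : Finset GolayPt} (hd : d ∈ dodOff) (hd' : d' ∈ dodOff) :
    ∃ σ ∈ M24, σ none = none ∧ σ • d = d' := by
  classical
  have hco : ∀ {d : Finset GolayPt}, d ∈ dodecads → dᶜ ∈ dodecads := fun {d} h => ⟨compl_code h.1, by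
    rw [Finset.card_compl, h.2]; rfl⟩
  obtain ⟨σ, hσ, hσd⟩ := dodecad_trans (hco hd.1) (hco hd'.1)
  have hin : σ none ∈ d'ᶜ := hσd ▸ (mem_smul_iff' σ dᶜ none).2 (Finset.mem_compl.2 hd.2)
  have mk : ∀ {p : GolayPt}, p ∈ d'ᶜ → ∃ f : Fin 5 ↪ GolayPt, f 0 = p ∧ ∀ i, f i ∈ d'ᶜ := by
    intro p hp
    obtain ⟨t, ht, htc⟩ := Finset.exists_subset_card_eq (s := d'ᶜ.erase p) (n := 4)
      (by rw [Finset.card_erase_of_mem hp, (hco hd'.1).2]; norm_num)
    let e := (t.equivFinOfCardEq htc).symm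
    refine ⟨⟨Fin.cons p (fun i => (e i : GolayPt)), Fin.cons_injective_iff.2
      ⟨?_, Subtype.val_injective.comp e.injective⟩⟩, rfl, ?_⟩
    · rintro ⟨i, hi⟩
      exact (Finset.mem_erase.1 (ht (e i).2)).1 hi
    · intro i
      cases i using Fin.cases with
      | zero => exact hp
      | succ i => exact (Finset.mem_erase.1 (ht (e i).2)).2
  obtain ⟨f, f0, fm⟩ := mk hin
  obtain ⟨f', f0', fm'⟩ := mk (Finset.mem_compl.2 hd'.2)
  obtain ⟨g, hg, -⟩ := dodecad_five_trans (hco hd'.1) f f' fm fm'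
  refine ⟨((g : M24) : Equiv.Perm GolayPt) * σ, mul_mem (g : M24).2 hσ, ?_, ?_⟩
  · show ((g : M24) : Equiv.Perm GolayPt) (σ none) = none
    rw [← f0, hg 0, f0']
  · apply compl_injective
    rw [← smul_compl', mul_smul, hσd]
    exact g.2

theorem mid16_family {x y : Zv} (hx : x ∈ mid16) (hy : y ∈ mid16) (h : |x none| = |y none|) :
    ∃ σ ∈ M24, σ none = none ∧ prm σ x = y := by
  classical
  obtain ⟨vA, vB, vC, vD, vE⟩ := mid16_values
  rcases mid16_form hx with ⟨a, ha, rfl⟩ | ⟨q, hq, rfl⟩ | ⟨o, ho, rfl⟩ | ⟨d, hd, rfl⟩ | ⟨q, hq, rfl⟩ <;>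
    rcases mid16_form hy with ⟨a', ha', rfl⟩ | ⟨q', hq', rfl⟩ | ⟨o', ho', rfl⟩ | ⟨d', hd', rfl⟩ | ⟨q', hq', rfl⟩
  case inl.inl =>
    obtain ⟨σ, hσ, hm⟩ := M24_trans (k := 2) (by norm_num)
      ⟨![none, a], by intro u v; fin_cases u <;> fin_cases v <;> simp [ha, Ne.symm ha]⟩
      ⟨![none, a'], by intro u v; fin_cases u <;> fin_cases v <;> simp [ha', Ne.symm ha']⟩
    refine ⟨σ, hσ, hm 0, ?_⟩
    rw [kA, kA, prm_sVec, Finset.smul_finset_insert, Finset.smul_finset_singleton, Finset.smul_finset_singleton]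
    show sVec 4 {σ a} {σ a, σ none} = _
    rw [show σ a = a' from hm 1, show σ none = none from hm 0]
  case inr.inl.inr.inl =>
    obtain ⟨⟨ho, hno⟩, hP, hc⟩ := hq
    obtain ⟨⟨ho', hno'⟩, hP', hc'⟩ := hq'
    obtain ⟨b, c, hbc, eP⟩ := Finset.card_eq_two.1 hc
    obtain ⟨b', c', hbc', eP'⟩ := Finset.card_eq_two.1 hc'
    have hb : b ∈ q.1.erase none := hP (by rw [eP]; simp)
    have hcm : c ∈ q.1.erase none := hP (by rw [eP]; simp)
    have hb' : b' ∈ q'.1.erase none := hP' (by rw [eP']; simp)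
    have hcm' : c' ∈ q'.1.erase none := hP' (by rw [eP']; simp)
    rw [Finset.mem_erase] at hb hcm hb' hcm'
    obtain ⟨σ, hσ, hσo, h0, h1, h2⟩ := octad_three_map ho ho' hno hb.2 hcm.2 (Ne.symm hb.1) (Ne.symm hcm.1) hbc
      hno' hb'.2 hcm'.2 (Ne.symm hb'.1) (Ne.symm hcm'.1) hbc'
    refine ⟨σ, hσ, h0, ?_⟩
    rw [kB, kB, prm_sVec, hσo, eP, eP', Finset.smul_finset_insert, Finset.smul_finset_singleton]
    show sVec 2 {σ b, σ c} _ = _
    rw [h1, h2]
  case inr.inr.inl.inr.inr.inl =>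
    obtain ⟨a, ha⟩ := Finset.card_pos.1 (show 0 < o.card by rw [ho.1.2]; norm_num)
    obtain ⟨a', ha'⟩ := Finset.card_pos.1 (show 0 < o'.card by rw [ho'.1.2]; norm_num)
    obtain ⟨σ, hσ, h0, h1, -⟩ := octOff_trans ho ho' ha ha'
    exact ⟨σ, hσ, h0, by rw [kC, kC, prm_sVec, h1, Finset.smul_finset_empty]⟩
  case inr.inr.inr.inl.inr.inr.inr.inl =>
    obtain ⟨σ, hσ, h0, h1⟩ := dodOff_trans hd hd'
    refine ⟨σ, hσ, h0, ?_⟩
    rw [kD, kD, prm_sgn, prm_setVec, prm_setWord, h1, Finset.smul_finset_singleton]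
    show sgn _ (setVec 1 (-3) {σ none}) = _
    rw [h0]
  case inr.inr.inr.inr.inr.inr.inr.inr =>
    obtain ⟨σ, hσ, h0, h1, h2⟩ := octOff_trans hq.1 hq'.1 hq.2 hq'.2
    refine ⟨σ, hσ, h0, ?_⟩
    rw [kE, kE, prm_sgn, prm_setVec, prm_setWord, smul_compl', h1, Finset.smul_finset_singleton]
    show sgn _ (setVec 1 (-3) {σ q.2}) = _
    rw [h2]
  all_goals
    exfalso
    simp only [vA, vB, vC, vD, vE, *, not_false_eq_true, ne_eq] at h
    omega

/-! ### fusion -/

/-- representatives -/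
def midRep : ℕ → Zv
  | 0 => fun p => if p = pt 0 then 4 else if p = none then -4 else 0
  | 1 => fun p => if p = pt 6 then 4 else if p = none then -4 else 0
  | 2 => fun p => ([-2, -2, -2, -2, 0, 0, 0, 0, 0, 0, 0, 0, 0, -2, 0, 0, 0, 0, -2, 0, -2, -2, 0, 0] : List ℤ).getD (idx p) 0
  | _ => fun p => ([-2, -2, 0, 0, 0, 0, 0, 0, 0, 0, 0, 0, 0, 2, 0, -2, 0, -2, 2, -2, 0, 0, 0, -2] : List ℤ).getD (idx p) 0

theorem midRep_facts : ∀ i, i < 4 → leechCheck (midRep i) = true ∧ sqNorm (midRep i) = 32 ∧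
    dotInt uRef (midRep i) = -16 ∧ |midRep i none| = [4, 4, 0, 2].getD i 0 ∧
    |pairStep (midRep i) (pt 0)| = [0, 1, 2, 3].getD i 0 := by
  decide +kernel

/-- one orbit -/
def MOrb (a b : Zv) : Prop := ∃ (ha : a ∈ leechLattice) (g : ↥Co0),
  g • (⟨uRef, uRef_spec.1⟩ : ↥leechLattice) = ⟨uRef, uRef_spec.1⟩ ∧
    ((g • (⟨a, ha⟩ : ↥leechLattice) : ↥leechLattice) : Zv) = b

theorem MOrb.symm {a b : Zv} : MOrb a b → MOrb b a := by
  rintro ⟨ha, g, hg, rfl⟩
  exact ⟨(g • (⟨a, ha⟩ : ↥leechLattice)).2, g⁻¹, by rw [inv_smul_eq_iff, hg],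
    congrArg Subtype.val (inv_smul_smul g (⟨a, ha⟩ : ↥leechLattice))⟩

theorem MOrb.trans {a b c : Zv} : MOrb a b → MOrb b c → MOrb a c := by
  rintro ⟨ha, g, hg, rfl⟩ ⟨hb, k, hk, rfl⟩
  exact ⟨ha, k * g, by rw [mul_smul, hg, hk], by rw [mul_smul]⟩

theorem mid16_connected {x y : Zv} (hx : x ∈ mid16) (hy : y ∈ mid16) : MOrb x y := by
  obtain ⟨-, -, -, -, hu, -, -, -, -, -⟩ := pairStep_facts
  obtain ⟨s, hs⟩ := pairStep_real
  obtain ⟨τ, hτ, hm⟩ := M24_trans (k := 1) (by norm_num) ⟨fun _ => pt 0, fun u v _ => Subsingleton.elim u v⟩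
    ⟨fun _ => (none : GolayPt), fun u v _ => Subsingleton.elim u v⟩
  have hτ0 : τ.symm none = pt 0 := by rw [Equiv.symm_apply_eq]; exact (hm 0).symm
  obtain ⟨t, ht⟩ := exists_prm hτ
  let U : ↥leechLattice := ⟨uRef, uRef_spec.1⟩
  have hfix : (t * s) • U = U := Subtype.ext (by
    rw [mul_smul, ht, hs]
    show prm τ (pairStep uRef) = uRef
    funext p
    simp only [prm, hu]
    simp only [uRef, setVec, Finset.mem_singleton]
    exact if_congr (by rw [← hτ0, τ.symm.injective.eq_iff]) rfl rfl)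
  have rfam : ∀ {a b}, a ∈ mid16 → b ∈ mid16 → |a none| = |b none| → MOrb a b := by
    intro a b ha hb h
    obtain ⟨σ, hσ, h0, e⟩ := mid16_family ha hb h
    obtain ⟨g, hg⟩ := exists_prm hσ
    refine ⟨ha.1, g, Subtype.ext ?_, by rw [hg]; exact e⟩
    rw [hg]
    show prm σ uRef = uRef
    rw [uRef, prm_setVec, Finset.smul_finset_singleton]
    show setVec 1 5 {σ none} = _
    rw [h0]
  have rstep : ∀ {a}, a ∈ mid16 → ∃ b ∈ mid16, MOrb a b ∧ |b none| = |pairStep a (pt 0)| := by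
    intro a ha
    refine ⟨(((t * s) • (⟨a, ha.1⟩ : ↥leechLattice) : ↥leechLattice) : Zv),
      ⟨((t * s) • (⟨a, ha.1⟩ : ↥leechLattice)).2, ((t * s).2.2 _).trans ha.2.1, ?_⟩,
      ⟨ha.1, t * s, hfix, rfl⟩, ?_⟩
    · have := co0_dot (t * s) U ⟨a, ha.1⟩
      rw [hfix] at this
      exact this.trans ha.2.2
    · rw [mul_smul, ht, hs]
      simp only [prm, hτ0]
  have mem : ∀ i, i < 4 → midRep i ∈ mid16 := fun i hi =>
    ⟨leechCheck_mem (midRep_facts i hi).1, (midRep_facts i hi).2.1, (midRep_facts i hi).2.2.1⟩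
  have val : ∀ i, i < 4 → |midRep i none| = [4, 4, 0, 2].getD i 0 := fun i hi => (midRep_facts i hi).2.2.2.1
  have stp : ∀ i, i < 4 → ∃ b ∈ mid16, MOrb (midRep i) b ∧ |b none| = [0, 1, 2, 3].getD i 0 := fun i hi => by
    obtain ⟨b, hb, ho, hv⟩ := rstep (mem i hi)
    exact ⟨b, hb, ho, hv.trans (midRep_facts i hi).2.2.2.2⟩
  obtain ⟨c0, mc0, oc0, vc0⟩ := stp 0 (by norm_num)
  obtain ⟨e1, me1, oe1, ve1⟩ := stp 1 (by norm_num)
  obtain ⟨b2, mb2, ob2, vb2⟩ := stp 2 (by norm_num)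
  obtain ⟨d3, md3, od3, vd3⟩ := stp 3 (by norm_num)
  have w0 := val 0 (by norm_num); have w1 := val 1 (by norm_num)
  have w2 := val 2 (by norm_num); have w3 := val 3 (by norm_num)
  simp only [List.getD_cons_zero, List.getD_cons_succ] at w0 w1 w2 w3 vc0 ve1 vb2 vd3
  have hC : MOrb (midRep 0) c0 := oc0
  have hB : MOrb (midRep 0) b2 := hC.trans ((rfam mc0 (mem 2 (by norm_num)) (by omega)).trans ob2)
  have hub : ∀ {z : Zv}, z ∈ mid16 → MOrb (midRep 0) z := by
    intro z hz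
    obtain ⟨vA, vB, vC, vD, vE⟩ := mid16_values
    rcases mid16_form hz with ⟨a, ha, rfl⟩ | ⟨q, hq, rfl⟩ | ⟨o, ho, rfl⟩ | ⟨d, hd, rfl⟩ | ⟨q, hq, rfl⟩
    · exact rfam (mem 0 (by norm_num)) hz (by rw [w0, vA a ha])
    · exact hB.trans (rfam mb2 hz (by rw [vb2, vB q hq]))
    · exact hC.trans (rfam mc0 hz (by rw [vc0, vC o ho]))
    · exact hB.trans ((rfam mb2 (mem 3 (by norm_num)) (by omega)).trans (od3.trans (rfam md3 hz (by rw [vd3, vD d hd]))))
    · exact (rfam (mem 0 (by norm_num)) (mem 1 (by norm_num)) (by omega)).trans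
        (oe1.trans (rfam me1 hz (by rw [ve1, vE q hq])))
  exact (hub hx).symm.trans (hub hy)

/-! ### transfer -/

theorem mid16_gen (u : ↥leechLattice) (hu : sqNorm (u : Zv) = 48) :
    {x : ↥leechLattice | sqNorm (x : Zv) = 32 ∧ dotInt (u : Zv) (x : Zv) = -16}.ncard = 11178 ∧
      ∀ x ∈ {x : ↥leechLattice | sqNorm (x : Zv) = 32 ∧ dotInt (u : Zv) (x : Zv) = -16},
      ∀ x' ∈ {x : ↥leechLattice | sqNorm (x : Zv) = 32 ∧ dotInt (u : Zv) (x : Zv) = -16},
        ∃ g : ↥Co0, g • u = u ∧ g • x = x' := by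
  obtain ⟨_, k, hk⟩ := (orb_mid u.2 hu).symm.trans (orb_mid uRef_spec.1 uRef_spec.2)
  have hku : k • u = ⟨uRef, uRef_spec.1⟩ := Subtype.ext hk
  set T := {x : ↥leechLattice | sqNorm (x : Zv) = 32 ∧ dotInt (u : Zv) (x : Zv) = -16}
  have hdot : ∀ w : ↥leechLattice, dotInt uRef ((k • w : ↥leechLattice) : Zv) = dotInt (u : Zv) (w : Zv) :=
    fun w => by
      have := co0_dot k u w
      rwa [hku] at this
  have himg : (fun w : ↥leechLattice => ((k • w : ↥leechLattice) : Zv)) '' T = mid16 := by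
    ext z
    constructor
    · rintro ⟨w, ⟨h1, h2⟩, rfl⟩
      exact ⟨(k • w).2, (k.2.2 w).trans h1, (hdot w).trans h2⟩
    · rintro ⟨hz, h1, h2⟩
      have e : ((k • (k⁻¹ • (⟨z, hz⟩ : ↥leechLattice)) : ↥leechLattice) : Zv) = z := by rw [smul_inv_smul]
      exact ⟨k⁻¹ • ⟨z, hz⟩, ⟨((k⁻¹).2.2 _).trans h1, by rw [← hdot, e]; exact h2⟩, e⟩
  refine ⟨?_, fun x hx x' hx' => ?_⟩
  · rw [← card_mid16, ← himg, Set.ncard_image_of_injective _ fun a b h =>
      MulAction.injective k (Subtype.ext h)]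
  · have mx : ((k • x : ↥leechLattice) : Zv) ∈ mid16 := himg ▸ ⟨x, hx, rfl⟩
    have mx' : ((k • x' : ↥leechLattice) : Zv) ∈ mid16 := himg ▸ ⟨x', hx', rfl⟩
    obtain ⟨_, g, hg, e⟩ := mid16_connected mx mx'
    have e' : g • k • x = k • x' := Subtype.ext e
    refine ⟨k⁻¹ * g * k, ?_, ?_⟩
    · rw [mul_smul, mul_smul, hku, hg, ← hku, inv_smul_smul]
    · rw [mul_smul, mul_smul, e', inv_smul_smul]

theorem dot_add_right (x y z : Zv) : dotInt x (y + z) = dotInt x y + dotInt x z := by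
  simp [dotInt, mul_add, Finset.sum_add_distrib]

theorem dot_comm' (x y : Zv) : dotInt x y = dotInt y x := by simp [dotInt, mul_comm]

theorem outer_swap (v w : ↥leechLattice) (hv : sqNorm (v : Zv) = 48) (hw : sqNorm (w : Zv) = 48)
    (hvw : dotInt (v : Zv) (w : Zv) = -32) : ∃ g : ↥Co0, g • v = w ∧ g • w = v := by
  have hxn : sqNorm ((v + w : ↥leechLattice) : Zv) = 32 := by
    rw [AddSubgroup.coe_add, sqNorm_add]; omega
  obtain ⟨_, k, hk⟩ := (orb_mid v.2 hv).symm.trans (orb_mid w.2 hw)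
  have hkv : k • v = w := Subtype.ext hk
  have d1 : dotInt (v : Zv) ((-(v + w) : ↥leechLattice) : Zv) = -16 := by
    rw [AddSubgroup.coe_neg, AddSubgroup.coe_add, dot_neg_right, dot_add_right, dot_self, hv, hvw]; norm_num
  have d2 : dotInt (w : Zv) ((-(v + w) : ↥leechLattice) : Zv) = -16 := by
    rw [AddSubgroup.coe_neg, AddSubgroup.coe_add, dot_neg_right, dot_add_right, dot_self, hw, dot_comm', hvw]
    norm_num
  obtain ⟨-, htr⟩ := mid16_gen w hw
  have hn : sqNorm ((-(v + w) : ↥leechLattice) : Zv) = 32 := by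
    rw [AddSubgroup.coe_neg, sqNorm_neg]; exact hxn
  have m1 : sqNorm ((k • -(v + w) : ↥leechLattice) : Zv) = 32 ∧
      dotInt (w : Zv) ((k • -(v + w) : ↥leechLattice) : Zv) = -16 := by
    refine ⟨(k.2.2 _).trans hn, ?_⟩
    have := co0_dot k v (-(v + w))
    rw [hkv] at this
    exact this.trans d1
  obtain ⟨g, hg, hg'⟩ := htr _ m1 _ ⟨hn, d2⟩
  have h1 : (g * k) • v = w := by rw [mul_smul, hkv, hg]
  refine ⟨g * k, h1, ?_⟩
  have h2 : (g * k) • (-(v + w)) = -(v + w) := by rw [mul_smul, hg']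
  have h3 := co0_add (g * k) (-(v + w)) v
  rw [h1, h2] at h3
  have h4 : (g * k) • (-w) = -v := by
    rw [show (-w : ↥leechLattice) = -(v + w) + v by abel, h3]; abel
  have h5 := co0_add (g * k) w (-w)
  rw [add_neg_cancel, h4] at h5
  have h6 : (g * k) • (0 : ↥leechLattice) = 0 := by
    have := co0_add (g * k) 0 0
    rw [add_zero] at this
    exact add_eq_left.1 this.symm
  rw [h6] at h5
  have h7 := eq_neg_of_add_eq_zero_left h5.symm
  rwa [neg_neg] at h7

end Cfsg.Agent.Spor
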