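/-
Joint stabilisers of a vector of squared norm 48 and a minimal vector: the McLaughlin group and a criterion
shared with the Higman-Sims group.
-/
import Cfsg.Agent.Lib.Spor.Co2Co3
import Cfsg.Agent.Lib.Spor.LeechPairs
import Cfsg.Agent.Lib.Spor.GolayElemFacts

set_option autoImplicit false
set_option maxRecDepth 100000

namespace Cfsg.Agent.Spor

open Cfsg
open scoped Pointwise

local notation "Zv" => GolayPt → ℤ

/-- fours at the two fixed points, with a sign on the second -/
def fourVec (s : ℤ) : Zv := fun p => if p = none then 4 else if p = pt 0 then 4 * s else 0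

theorem fourVec_facts : ∀ s ∈ ([1, -1] : List ℤ), leechCheck (fourVec s) = true ∧ sqNorm (fourVec s) = 32 ∧
    dotInt uRef (fourVec s) = 20 + 4 * s ∧ dotInt uRef (Pi.single none 8) = 40 ∧
    dotInt (fourVec s) (Pi.single none 8) = 32 := by
  decide +kernel

/-- multiplication by two on the line, an element of order eleven -/
def elevenList : List ℕ :=
  [0, 2, 4, 6, 8, 10, 12, 14, 16, 18, 20, 22, 1, 3, 5, 7, 9, 11, 13, 15, 17, 19, 21, 23]

theorem elevenList_ok : m24ok elevenList = true ∧ elevenList.getD 23 0 = 23 ∧ elevenList.getD 0 0 = 0 ∧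
    (List.range 24).all (fun i =>
      ((List.replicate 11 elevenList).foldr lmul (List.range 24)).getD i 0 == i) = true ∧
    elevenList.getD 1 0 = 2 := by
  decide +kernel

/-- the vector with given values on the four orbits -/
def orbVec (a b c d : ℤ) : Zv := fun p =>
  if idx p = 23 then d else if idx p = 0 then c
  else if ([1, 2, 4, 8, 16, 9, 18, 13, 3, 6, 12] : List ℕ).elem (idx p) then a else b

/-- the test excluding a candidate -/
def orbBad (s a b c d : ℤ) : Bool :=
  let q := orbVec a b c d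
  let t := 40 - dotInt uRef q
  let t' := 32 - dotInt (fourVec s) q
  decide (t % 16 ≠ 0) || decide (t' % 16 ≠ 0)

/-- all candidates -/
def orbScan (s : ℤ) : Bool :=
  ([-2, -1, 0, 1, 2] : List ℤ).all fun a => ([-2, -1, 0, 1, 2] : List ℤ).all fun b =>
    ((List.range 17).map fun i : ℕ => (i : ℤ) - 8).all fun c => ((List.range 17).map fun i : ℕ => (i : ℤ) - 8).all fun d =>
      !(11 * a * a + 11 * b * b + c * c + d * d == 64) ||
        (a == 0 && b == 0 && (c == 0 || d == 0)) || !(leechCheck (orbVec a b c d)) || orbBad s a b c d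

theorem orbScan_ok : orbScan 1 = true ∧ orbScan (-1) = true := by
  constructor <;> decide +kernel

theorem leechCheck_of_mem {y : Zv} (hy : y ∈ leechLattice) : leechCheck y = true := by
  obtain ⟨m, h2, h8, hd⟩ := mem_leech.1 hy
  simp only [leechCheck, Bool.and_eq_true, decide_eq_true_eq]
  refine ⟨⟨fun i => ?_, ?_⟩, inCode_complete _ (mem_code.1 hd)⟩
  · have := h2 i; have := h2 none; omega
  · have := h2 none; omega

theorem dot_eight {x y : Zv} (hx : x ∈ leechLattice) (hy : y ∈ leechLattice) (hxn : sqNorm x = 48)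
    (hyn : sqNorm y = 32) : dotInt x y % 8 = 0 ∧ -24 ≤ dotInt x y ∧ dotInt x y ≤ 24 := by
  obtain ⟨⟨k, hk⟩, n1⟩ := leech_norm (sub_mem hx hy)
  obtain ⟨-, n2⟩ := leech_norm (add_mem hx hy)
  have a1 := n1 (fun h => by rw [sub_eq_zero] at h; rw [h] at hxn; omega)
  have a2 := n2 (fun h => by
    rw [eq_neg_of_add_eq_zero_left h, sqNorm_neg] at hxn; omega)
  rw [sqNorm_sub] at hk a1
  rw [sqNorm_add] at a2
  omega

theorem min_eight {x y : Zv} (hx : x ∈ leechLattice) (hy : y ∈ leechLattice) (hxn : sqNorm x = 32)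
    (hyn : sqNorm y = 32) : dotInt x y % 8 = 0 := by
  obtain ⟨⟨k, hk⟩, -⟩ := leech_norm (sub_mem hx hy)
  rw [sqNorm_sub] at hk
  omega

/-- the two vectors -/
def refU : ↥leechLattice := ⟨uRef, uRef_spec.1⟩

/-- the pair stabiliser -/
def pairStab (X : ↥leechLattice) : Subgroup ↥Co0 :=
  MulAction.stabilizer ↥Co0 refU ⊓ MulAction.stabilizer ↥Co0 X

set_option maxHeartbeats 1000000 in
/-- a fixed vector of the element of order eleven -/
theorem orbit_fill (z : Zv) (h : ∀ i, i < 24 → z (pt (elevenList.getD i 0)) = z (pt i)) :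
    z = orbVec (z (pt 1)) (z (pt 5)) (z (pt 0)) (z none) := by
  have key : ∀ i, i < 24 → z (pt i) = if i = 23 then z none else if i = 0 then z (pt 0) else
      if ([1, 2, 4, 8, 16, 9, 18, 13, 3, 6, 12] : List ℕ).elem i then z (pt 1) else z (pt 5) := by
    intro i hi
    have r1 := h 1 (by norm_num); have r2 := h 2 (by norm_num); have r3 := h 3 (by norm_num)
    have r4 := h 4 (by norm_num); have r5 := h 5 (by norm_num); have r6 := h 6 (by norm_num)
    have r7 := h 7 (by norm_num); have r8 := h 8 (by norm_num); have r9 := h 9 (by norm_num)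
    have r10 := h 10 (by norm_num); have r11 := h 11 (by norm_num); have r12 := h 12 (by norm_num)
    have r13 := h 13 (by norm_num); have r14 := h 14 (by norm_num); have r15 := h 15 (by norm_num)
    have r16 := h 16 (by norm_num); have r17 := h 17 (by norm_num); have r18 := h 18 (by norm_num)
    have r19 := h 19 (by norm_num); have r20 := h 20 (by norm_num); have r21 := h 21 (by norm_num)
    have r22 := h 22 (by norm_num)
    simp only [elevenList, List.getD_cons_succ, List.getD_cons_zero] at r1 r2 r3 r4 r5 r6 r7 r8 r9 r10 r11 r12 r13 r14 r15 r16 r17 r18 r19 r20 r21 r22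
    clear h
    interval_cases i <;> first | rfl | (simp; omega)
  funext p
  have := key (idx p) (idx_lt p)
  rw [pt_idx] at this
  exact this

set_option maxHeartbeats 2000000 in
theorem pairStab_special {s : ℤ} (hs : s = 1 ∨ s = -1) {X : ↥leechLattice} (hX : (X : Zv) = fourVec s) :
    ∃ g : ↥(pairStab X), orderOf g = 11 ∧ IsSimpleGroup (monoSub.subgroupOf (pairStab X)) ∧
      g ∈ monoSub.subgroupOf (pairStab X) ∧
      ∀ x : ↥(pairStab X), x * g * x⁻¹ ∈ Subgroup.zpowers g → x ∈ monoSub.subgroupOf (pairStab X) := by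
  classical
  obtain ⟨-, fn, fu, f40, f32⟩ := fourVec_facts s (by rcases hs with rfl | rfl <;> simp)
  set G := pairStab X with hG
  have hfix : ∀ σ : Equiv.Perm GolayPt, σ none = none → σ (pt 0) = pt 0 →
      prm σ uRef = uRef ∧ prm σ (X : Zv) = (X : Zv) := fun σ h0 h1 => by
    constructor
    · rw [uRef, prm_setVec, Finset.smul_finset_singleton]
      exact congrArg (fun p => setVec 1 5 {p}) h0
    · rw [hX]
      funext p
      obtain ⟨q, rfl⟩ := σ.surjective p
      show fourVec s (σ.symm (σ q)) = fourVec s (σ q)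
      rw [Equiv.symm_apply_apply, fourVec, fourVec]
      have i1 : σ q = none ↔ q = none := by conv_lhs => rw [← h0]; rw [σ.injective.eq_iff]
      have i2 : σ q = pt 0 ↔ q = pt 0 := by conv_lhs => rw [← h1]; rw [σ.injective.eq_iff]
      simp only [i1, i2]
  set S : Subgroup ↥M24 := MulAction.stabilizer M24 (none : GolayPt) ⊓ MulAction.stabilizer M24 (pt 0) with hS
  have key : ∀ σ : ↥S, ∃ x : ↥G, ∀ u : ↥leechLattice,
      (((x : ↥Co0) • u : ↥leechLattice) : Zv) = prm ((σ : ↥M24) : Equiv.Perm GolayPt) (u : Zv) := by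
    intro σ
    obtain ⟨x, hx⟩ := exists_prm (σ : ↥M24).2
    obtain ⟨h1, h2⟩ := hfix _ σ.2.1 σ.2.2
    exact ⟨⟨x, Subtype.ext ((hx refU).trans h1), Subtype.ext ((hx X).trans h2)⟩, hx⟩
  choose F hF using key
  have hext : ∀ {x y : ↥G}, (∀ u : ↥leechLattice, (((x : ↥Co0) • u : ↥leechLattice) : Zv) =
      (((y : ↥Co0) • u : ↥leechLattice) : Zv)) → x = y := fun h => Subtype.ext (co0_ext h)
  let f : ↥S →* ↥(monoSub.subgroupOf G) :=
    MonoidHom.mk' (fun σ => ⟨F σ, mem_monoSub.2 (mono_std (σ := ((σ : ↥M24) : Equiv.Perm GolayPt)) (w := 0)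
      fun u => (hF σ u).trans (funext fun p => by simp [sgn]))⟩) fun σ τ => Subtype.ext (hext fun u => by
        show (((F (σ * τ) : ↥Co0) • u : ↥leechLattice) : Zv) =
          ((((F σ : ↥Co0) * (F τ : ↥Co0)) • u : ↥leechLattice) : Zv)
        rw [mul_smul, hF, hF, hF]
        rfl)
  have hf : Function.Bijective f := by
    constructor
    · intro σ τ e
      refine Subtype.ext (Subtype.ext (Equiv.ext fun i => ?_))
      have h : F σ = F τ := congrArg Subtype.val e
      have h1 := (hF σ (e8 i)).symm.trans (h ▸ hF τ (e8 i))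
      have h2 := congrFun h1 (((σ : ↥M24) : Equiv.Perm GolayPt) i)
      simp only [prm, e8, Equiv.symm_apply_apply, Pi.single_eq_same] at h2
      by_contra hne
      rw [Pi.single_eq_of_ne (fun h' => hne (by rw [Equiv.symm_apply_eq] at h'; exact h'))] at h2
      omega
    · rintro ⟨x, hx⟩
      obtain ⟨σ, hσ, w, hw, e⟩ := std_form (mem_monoSub.1 hx)
      have hu : sgn w (prm σ uRef) = uRef :=
        (e refU).symm.trans (congrArg Subtype.val (MulAction.mem_stabilizer_iff.1 x.2.1))
      have hv : sgn w (prm σ (X : Zv)) = (X : Zv) :=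
        (e X).symm.trans (congrArg Subtype.val (MulAction.mem_stabilizer_iff.1 x.2.2))
      have hval : ∀ p, uRef p = if p = none then 5 else 1 := fun p => by simp [uRef, setVec]
      have hab : ∀ (z : Zv), sgn w (prm σ z) = z → ∀ q, |z q| = |z (σ q)| := fun z hz q => by
        conv_rhs => rw [← hz]
        by_cases hp : w (σ q) = 0 <;> simp [sgn, prm, hp]
      have h0 : σ none = none := by
        have := hab _ hu none
        rw [hval, hval, if_pos rfl] at this
        by_contra hne
        rw [if_neg hne] at this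
        norm_num at this
      have hpu : prm σ uRef = uRef := by
        rw [uRef, prm_setVec, Finset.smul_finset_singleton]
        exact congrArg (fun p => setVec 1 5 {p}) h0
      have hw0 : w = 0 := by
        funext p
        have := congrFun hu p
        rw [hpu] at this
        rcases word_eq_one_or_zero (w p) with hp | hp
        · exact hp
        · simp [sgn, hp] at this
          have h1 := hval p
          split_ifs at h1 <;> omega
      have hn : pt 0 ≠ none := by decide +kernel
      have h1 : σ (pt 0) = pt 0 := by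
        have := hab _ hv (pt 0)
        rw [hX] at this
        by_contra hne
        have hne' : σ (pt 0) ≠ none := fun h => hn (σ.injective (h.trans h0.symm))
        simp only [fourVec, if_neg hn, if_pos, if_neg hne, if_neg hne'] at this
        rcases hs with rfl | rfl <;> norm_num at this
      have h0' : (⟨σ, hσ⟩ : ↥M24) ∈ S := ⟨MulAction.mem_stabilizer_iff.2 h0, MulAction.mem_stabilizer_iff.2 h1⟩
      refine ⟨⟨⟨σ, hσ⟩, h0'⟩, Subtype.ext (hext fun u => ?_)⟩
      show ((((F ⟨⟨σ, hσ⟩, h0'⟩ : ↥G) : ↥Co0) • u : ↥leechLattice) : Zv) = _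
      refine (hF _ u).trans (Eq.trans ?_ (e u).symm)
      rw [hw0]
      funext p; simp [sgn]
  haveI := simple_stabilizer_two (p := (none : GolayPt)) (q := pt 0) (by decide +kernel)
  haveI hsimp : IsSimpleGroup ↥(monoSub.subgroupOf G) := (MulEquiv.ofBijective f hf).symm.isSimpleGroup
  obtain ⟨hok, l23, l0, lpow, l1⟩ := elevenList_ok
  have hlok := m24ok_lok hok
  set π : Equiv.Perm GolayPt := lperm elevenList with hπ
  have hπM : π ∈ M24 := lperm_mem hok
  have hrep : Rep π elevenList := rep_lperm hlok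
  have hπn : π none = none := by rw [Rep.apply hrep]; show pt (elevenList.getD 23 0) = none; rw [l23]; rfl
  have hπ0 : π (pt 0) = pt 0 := by rw [Rep.apply hrep, idx_pt 0 (by norm_num), l0]
  obtain ⟨s0, hs0⟩ := exists_prm hπM
  have hsM : s0 ∈ monoSub := mem_monoSub.2 (mono_std (σ := π) (w := 0)
    fun u => (hs0 u).trans (funext fun p => by simp [sgn]))
  have hsG : s0 ∈ G := ⟨Subtype.ext ((hs0 refU).trans (hfix π hπn hπ0).1),
    Subtype.ext ((hs0 X).trans (hfix π hπn hπ0).2)⟩
  haveI : Fact (Nat.Prime 11) := ⟨by norm_num⟩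
  have hpow : ∀ (n : ℕ) (v : ↥leechLattice), (((s0 ^ n) • v : ↥leechLattice) : Zv) = prm (π ^ n) (v : Zv) := by
    intro n
    induction n with
    | zero => intro v; funext p; simp [prm, Equiv.Perm.one_def]
    | succ n ih => intro v; rw [pow_succ, pow_succ, mul_smul, ih, hs0]; rfl
  have hπ11 : π ^ 11 = 1 := by
    have hr : ∀ n, Rep (π ^ n) ((List.replicate n elevenList).foldr lmul (List.range 24)) := by
      intro n
      induction n with
      | zero =>
        intro p
        show (List.range 24).getD (idx p) 0 = idx p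
        rw [List.getD_eq_getElem _ _ (by simpa using idx_lt p), List.getElem_range]
      | succ n ih => rw [pow_succ', List.replicate_succ, List.foldr_cons]; exact hrep.mul ih
    refine Equiv.ext fun p => idx_injective ?_
    rw [← hr 11 p]
    exact beq_iff_eq.1 (List.all_eq_true.1 lpow _ (List.mem_range.2 (idx_lt p)))
  have hso : orderOf s0 = 11 := by
    refine orderOf_eq_prime (co0_ext fun v => ?_) fun h1 => ?_
    · rw [hpow, one_smul, hπ11]; funext p; simp [prm, Equiv.Perm.one_def]
    · have := hs0 (e8 (pt 1))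
      rw [h1, one_smul] at this
      have h2 := congrFun this (pt 2)
      have hm : π (pt 1) = pt 2 := by rw [Rep.apply hrep, idx_pt 1 (by norm_num), l1]
      simp [e8, prm, ← hm, Pi.single_apply] at h2
      have : π (pt 1) ≠ pt 1 := by rw [hm]; decide +kernel
      simp [this] at h2
  refine ⟨⟨s0, hsG⟩, ?_, hsimp, hsM, fun x hx => ?_⟩
  · rw [← Subgroup.orderOf_coe]; exact hso
  obtain ⟨m, hm⟩ := Subgroup.mem_zpowers_iff.1 hx
  have hm' : s0 ^ m = (x : ↥Co0) * s0 * (x : ↥Co0)⁻¹ := by
    have := congrArg Subtype.val hm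
    rwa [Subgroup.coe_zpow] at this
  haveI := co0_finite
  have hmo : orderOf (s0 ^ m) = 11 := by
    rw [hm', ← MulAut.conj_apply, MulEquiv.orderOf_eq, hso]
  have hgen : s0 ∈ Subgroup.zpowers (s0 ^ m) := by
    have : Subgroup.zpowers (s0 ^ m) = Subgroup.zpowers s0 :=
      Subgroup.eq_of_le_of_card_ge (Subgroup.zpowers_le.2 ⟨m, rfl⟩)
        (by rw [Nat.card_zpowers, Nat.card_zpowers, hmo, hso])
    rw [this]; exact Subgroup.mem_zpowers s0
  obtain ⟨k, hk⟩ := Subgroup.mem_zpowers_iff.1 hgen
  have hconj : (x : ↥Co0)⁻¹ * s0 * (x : ↥Co0) = s0 ^ k := by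
    conv_lhs => rw [← hk, hm']
    rw [← MulAut.conj_apply, ← map_zpow, MulAut.conj_apply]
    group
  show imgCross (x : ↥Co0) = cross (e8 none : Zv)
  set y : ↥leechLattice := (x : ↥Co0) • e8 none with hy
  have hyn : sqNorm (y : Zv) = 64 := ((x : ↥Co0).2.2 _).trans (e8_norm none)
  have hyfix : cross ((s0 • y : ↥leechLattice) : Zv) = cross (y : Zv) := by
    have h1 : cross (((s0 ^ k) • e8 none : ↥leechLattice) : Zv) = cross (e8 none : Zv) := monoSub.zpow_mem hsM k
    rw [hy, ← mul_smul, show s0 * (x : ↥Co0) = (x : ↥Co0) * s0 ^ k by rw [← hconj]; group, mul_smul]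
    exact cross_act _ h1
  have hu40 : dotInt uRef (y : Zv) = 40 := by
    have := co0_dot (x : ↥Co0) refU (e8 none)
    rw [MulAction.mem_stabilizer_iff.1 x.2.1] at this
    exact this.trans f40
  have hx32 : dotInt (fourVec s) (y : Zv) = 32 := by
    have := co0_dot (x : ↥Co0) X (e8 none)
    rw [MulAction.mem_stabilizer_iff.1 x.2.2, hX] at this
    exact this.trans f32
  -- a fixed member
  have hfin : (cross (y : Zv)).Finite :=
    (shell_finite (n := 64) le_rfl).subset fun z hz => ⟨hz.1, hz.2.1.trans hyn⟩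
  haveI := hfin.fintype
  have hmaps : ∀ z : ↥(cross (y : Zv)), prm π (z : Zv) ∈ cross (y : Zv) := fun z => by
    have h1 := cross_act s0 (a := y) (b := ⟨z, z.2.1⟩) ((cross_eq_iff z.2.1).2 ⟨z.2.2.1, z.2.2.2⟩)
    have h2 := self_mem_cross (s0 • (⟨z, z.2.1⟩ : ↥leechLattice)).2
    rw [← h1, hyfix, hs0] at h2
    exact h2
  let ρ : Equiv.Perm ↥(cross (y : Zv)) := Equiv.ofBijective (fun z => ⟨prm π z, hmaps z⟩)
    (Finite.injective_iff_bijective.1 fun a b e =>
      Subtype.ext (Function.LeftInverse.injective (prm_inv_left π) (congrArg Subtype.val e)))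
  have hρ : ∀ (n : ℕ) (z : ↥(cross (y : Zv))), ((ρ ^ n) z : Zv) = prm (π ^ n) (z : Zv) := by
    intro n
    induction n with
    | zero => intro z; funext p; simp [prm, Equiv.Perm.one_def]
    | succ n ih => intro z; rw [pow_succ, pow_succ, Equiv.Perm.mul_apply, ih]; rfl
  obtain ⟨z, hz⟩ := Equiv.Perm.exists_fixed_point_of_prime (p := 11) (n := 1) (σ := ρ) (by
      rw [← Nat.card_eq_fintype_card, Nat.card_coe_set_eq, cross_card y.2 hyn]
      decide) (by
      refine Equiv.ext fun z => Subtype.ext ?_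
      rw [hρ, pow_one, hπ11]
      funext p; simp [prm, Equiv.Perm.one_def])
  have hzf : ∀ p, (z : Zv) (π p) = (z : Zv) p := fun p => by
    have : prm π (z : Zv) (π p) = (z : Zv) (π p) := congrFun (congrArg Subtype.val hz) (π p)
    simp only [prm, Equiv.symm_apply_apply] at this
    exact this.symm
  have hstep : ∀ i, i < 24 → (z : Zv) (pt (elevenList.getD i 0)) = (z : Zv) (pt i) := fun i hi => by
    have := hzf (pt i)
    rwa [Rep.apply hrep, idx_pt i hi] at this
  set a := (z : Zv) (pt 1) with ha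
  set b := (z : Zv) (pt 5) with hb
  set c := (z : Zv) (pt 0) with hc
  set d := (z : Zv) none with hd
  have hzval : (z : Zv) = orbVec a b c d := orbit_fill _ hstep
  have hsum : 11 * a * a + 11 * b * b + c * c + d * d = 64 := by
    have e := z.2.2.1.trans hyn
    rw [hzval] at e
    have hq : ∀ A B C D : ℤ, sqNorm (orbVec A B C D) = 11 * A * A + 11 * B * B + C * C + D * D := by
      intro A B C D
      have hterm : ∀ p, orbVec A B C D p ^ 2 = A ^ 2 * orbVec 1 0 0 0 p + B ^ 2 * orbVec 0 1 0 0 p +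
          C ^ 2 * orbVec 0 0 1 0 p + D ^ 2 * orbVec 0 0 0 1 p := fun p => by
        simp only [orbVec]
        split_ifs <;> ring
      have hc : (∑ p, orbVec 1 0 0 0 p) = 11 ∧ (∑ p, orbVec 0 1 0 0 p) = 11 ∧
          (∑ p, orbVec 0 0 1 0 p) = 1 ∧ (∑ p, orbVec 0 0 0 1 p) = 1 := by decide +kernel
      rw [sqNorm, Finset.sum_congr rfl fun p _ => hterm p]
      simp only [Finset.sum_add_distrib, ← Finset.mul_sum, hc.1, hc.2.1, hc.2.2.1, hc.2.2.2]
      ring
    rw [hq] at e
    exact e
  have bnd : ∀ q : ℤ, q * q ≤ 64 → -8 ≤ q ∧ q ≤ 8 := fun q h => by constructor <;> nlinarith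
  have bnd2 : ∀ q : ℤ, 11 * (q * q) ≤ 64 → -2 ≤ q ∧ q ≤ 2 := fun q h => by constructor <;> nlinarith
  have ha2 := bnd2 a (by nlinarith [mul_self_nonneg b, mul_self_nonneg c, mul_self_nonneg d])
  have hb2 := bnd2 b (by nlinarith [mul_self_nonneg a, mul_self_nonneg c, mul_self_nonneg d])
  have hc8 := bnd c (by nlinarith [mul_self_nonneg b, mul_self_nonneg a, mul_self_nonneg d])
  have hd8 := bnd d (by nlinarith [mul_self_nonneg b, mul_self_nonneg c, mul_self_nonneg a])
  have hscan : orbScan s = true := by rcases hs with rfl | rfl <;> simp [orbScan_ok.1, orbScan_ok.2]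
  simp only [orbScan, List.all_eq_true] at hscan
  have m5 : ∀ q : ℤ, -2 ≤ q ∧ q ≤ 2 → q ∈ ([-2, -1, 0, 1, 2] : List ℤ) := fun q hq => by
    have : q = -2 ∨ q = -1 ∨ q = 0 ∨ q = 1 ∨ q = 2 := by omega
    simp only [List.mem_cons, List.not_mem_nil, or_false]
    exact this
  have m17 : ∀ q : ℤ, -8 ≤ q ∧ q ≤ 8 → q ∈ (List.range 17).map fun i : ℕ => (i : ℤ) - 8 := fun q hq =>
    List.mem_map.2 ⟨(q + 8).toNat, List.mem_range.2 (by omega), by omega⟩
  have hcase := hscan a (m5 a ha2) b (m5 b hb2) c (m17 c hc8) d (m17 d hd8)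
  simp only [Bool.or_eq_true, Bool.not_eq_true', beq_eq_false_iff_ne, ne_eq, hsum, not_true_eq_false, false_or,
    Bool.and_eq_true, beq_iff_eq] at hcase
  have hstd : (z : Zv) ∈ stdCross → imgCross (x : ↥Co0) = cross (e8 none : Zv) := fun h => by
    show cross (y : Zv) = _
    rw [(cross_eq_iff z.2.1).2 ⟨z.2.2.1, z.2.2.2⟩, cross_std z.2.1 h]
  rcases hcase with (⟨⟨ha0, hb0⟩, hcd⟩ | hL) | hbad
  · apply hstd
    rcases hcd with h | h
    · refine ⟨none, d, eq_or_eq_neg_of_sq_eq_sq _ _ (by rw [ha0, hb0, h] at hsum; linarith), ?_⟩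
      rw [hzval, ha0, hb0, h]
      funext p
      by_cases hp : p = none
      · subst hp; rw [Pi.single_eq_same]; rfl
      · have : idx p ≠ 23 := fun e => hp (idx_injective (e.trans rfl))
        rw [Pi.single_eq_of_ne hp]
        simp [orbVec, this]
    · refine ⟨pt 0, c, eq_or_eq_neg_of_sq_eq_sq _ _ (by rw [ha0, hb0, h] at hsum; linarith), ?_⟩
      rw [hzval, ha0, hb0, h]
      funext p
      by_cases hp : p = pt 0
      · subst hp; rw [Pi.single_eq_same]; rfl
      · have : idx p ≠ 0 := fun e => hp (idx_injective (e.trans (idx_pt 0 (by norm_num)).symm))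
        rw [Pi.single_eq_of_ne hp]
        simp [orbVec, this]
  · rw [← hzval, leechCheck_of_mem z.2.1] at hL
    simp at hL
  · exfalso
    simp only [orbBad, Bool.or_eq_true, decide_eq_true_eq, ← hzval] at hbad
    by_cases e1 : (y : Zv) = (z : Zv)
    · rw [← e1, hu40, hx32] at hbad
      omega
    by_cases e2 : (y : Zv) = -(z : Zv)
    · have q1 : dotInt uRef (z : Zv) = -40 := by
        have := hu40; rw [e2, dot_neg_right] at this; omega
      have q2 : dotInt (fourVec s) (z : Zv) = -32 := by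
        have := hx32; rw [e2, dot_neg_right] at this; omega
      rw [q1, q2] at hbad
      omega
    obtain ⟨w, hw, ew⟩ := z.2.2.2
    obtain ⟨-, -, hd0⟩ := congruent_short y.2 e1 e2 hyn.le (z.2.2.1.trans hyn).le z.2.2.2
    have hwn : sqNorm w = 32 := by
      have h1 : sqNorm ((y : Zv) - (z : Zv)) = 4 * sqNorm w := by
        rw [ew, sqNorm, sqNorm, Finset.mul_sum]
        exact Finset.sum_congr rfl fun i _ => by simp only [Pi.smul_apply, nsmul_eq_mul]; push_cast; ring
      rw [sqNorm_sub, hyn, z.2.2.1.trans hyn, hd0] at h1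
      omega
    have lin : ∀ r : Zv, dotInt r (y : Zv) - dotInt r (z : Zv) = 2 * dotInt r w := fun r => by
      simp only [dotInt, ← Finset.sum_sub_distrib, Finset.mul_sum]
      refine Finset.sum_congr rfl fun i _ => ?_
      have := congrFun ew i
      simp only [Pi.sub_apply, Pi.smul_apply, nsmul_eq_mul] at this
      push_cast at this
      linear_combination r i * this
    have q1 := lin uRef
    have q2 := lin (fourVec s)
    rw [hu40] at q1
    rw [hx32] at q2
    have := dot_eight uRef_spec.1 hw uRef_spec.2 hwn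
    have := min_eight (leechCheck_mem (fourVec_facts s (by rcases hs with rfl | rfl <;> simp)).1) hw fn hwn
    omega

theorem prime_list' {l : ℕ} (hl : l.Prime) {a b c : ℕ} (h : l ∣ 2 ^ a * 3 ^ b * 5 ^ c * 7 * 11) :
    l = 2 ∨ l = 3 ∨ l = 5 ∨ l = 7 ∨ l = 11 := by
  rcases prime_list hl (a := a) (b := b) (c := c) (dvd_mul_of_dvd_left h 23) with
    e | e | e | e | e | e
  · exact Or.inl e
  · exact Or.inr (Or.inl e)
  · exact Or.inr (Or.inr (Or.inl e))
  · exact Or.inr (Or.inr (Or.inr (Or.inl e)))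
  · exact Or.inr (Or.inr (Or.inr (Or.inr e)))
  · subst e
    rcases (Nat.Prime.dvd_mul hl).1 h with h | h
    rcases (Nat.Prime.dvd_mul hl).1 h with h | h
    rcases (Nat.Prime.dvd_mul hl).1 h with h | h
    rcases (Nat.Prime.dvd_mul hl).1 h with h | h
    all_goals first
      | (have := Nat.Prime.dvd_of_dvd_pow hl h; norm_num at this)
      | norm_num at h

theorem pair_card {u : ↥leechLattice} {X : ↥leechLattice} {k N n : ℕ}
    (hG : Nat.card (MulAction.stabilizer ↥Co0 u) = k)
    (T : Set ↥leechLattice) (hX : X ∈ T) (hT : T.ncard = N)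
    (hinv : ∀ g : ↥Co0, g • u = u → ∀ w ∈ T, g • w ∈ T)
    (htr : ∀ w ∈ T, ∃ g : ↥Co0, g • u = u ∧ g • X = w) (hk : k = n * N) (hN : N ≠ 0) :
    Nat.card (MulAction.stabilizer ↥Co0 u ⊓ MulAction.stabilizer ↥Co0 X : Subgroup ↥Co0) = n := by
  set K := MulAction.stabilizer ↥Co0 u
  have horb : MulAction.orbit ↥K X = T := by
    ext w
    constructor
    · rintro ⟨g, rfl⟩; exact hinv _ g.2 X hX
    · intro hw
      obtain ⟨g, hg, e⟩ := htr w hw
      exact ⟨⟨g, hg⟩, e⟩
  have e := Nat.card_congr (MulAction.orbitProdStabilizerEquivGroup ↥K X)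
  rw [Nat.card_prod, Nat.card_coe_set_eq, horb, hT, hG, hk] at e
  have e' : Nat.card (MulAction.stabilizer ↥K X) = Nat.card (K ⊓ MulAction.stabilizer ↥Co0 X : Subgroup ↥Co0) := by
    refine Nat.card_congr ⟨fun g => ⟨(g : ↥K), (g : ↥K).2, g.2⟩, fun g => ⟨⟨g, g.2.1⟩, g.2.2⟩,
      fun _ => rfl, fun _ => rfl⟩
  rw [← e']
  exact Nat.eq_of_mul_eq_mul_left (Nat.pos_of_ne_zero hN) (e.trans (mul_comm n N))

theorem pair_transfer (g : ↥Co0) {u x u' x' : ↥leechLattice} (hu : g • u = u') (hx : g • x = x') :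
    Nonempty (↥(MulAction.stabilizer ↥Co0 u ⊓ MulAction.stabilizer ↥Co0 x) ≃*
      ↥(MulAction.stabilizer ↥Co0 u' ⊓ MulAction.stabilizer ↥Co0 x')) := by
  subst hu hx
  have e : (MulAction.stabilizer ↥Co0 u ⊓ MulAction.stabilizer ↥Co0 x).map (MulAut.conj g).toMonoidHom =
      MulAction.stabilizer ↥Co0 (g • u) ⊓ MulAction.stabilizer ↥Co0 (g • x) := by
    ext k
    rw [Subgroup.mem_map_equiv, Subgroup.mem_inf, Subgroup.mem_inf]
    simp [MulAut.conj_symm_apply, MulAction.mem_stabilizer_iff, mul_smul, inv_smul_eq_iff]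
  exact ⟨((Subgroup.equivMapOfInjective _ _ (MulAut.conj g).injective).trans (MulEquiv.subgroupCongr e))⟩

theorem simple_mcl_ref : Nat.card (pairStab ⟨fourVec 1, leechCheck_mem (fourVec_facts 1 (by simp)).1⟩) = 898128000 ∧
    IsSimpleGroup ↥(pairStab ⟨fourVec 1, leechCheck_mem (fourVec_facts 1 (by simp)).1⟩) := by
  classical
  set X : ↥leechLattice := ⟨fourVec 1, leechCheck_mem (fourVec_facts 1 (by simp)).1⟩
  obtain ⟨-, fn, fd, -, -⟩ := fourVec_facts 1 (by simp)
  set G := pairStab X
  have hG : Nat.card G = 898128000 := by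
    refine pair_card (card_co3 uRef_spec.2)
      {w : ↥leechLattice | sqNorm (w : Zv) = 32 ∧ sqNorm ((refU - w : ↥leechLattice) : Zv) = 32}
      ⟨fn, ?_⟩ (card_halves_sub refU uRef_spec.2) ?_ ?_ (show (495766656000 : ℕ) = 898128000 * 552 by norm_num)
      (by norm_num)
    · show sqNorm (uRef - fourVec 1) = 32
      rw [sqNorm_sub, uRef_spec.2, fn, fd]; norm_num
    · rintro g hg w ⟨h1, h2⟩
      refine ⟨(g.2.2 w).trans h1, ?_⟩
      have e : g • w + g • (refU - w) = refU := by rw [← co0_add, add_sub_cancel, hg]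
      rw [← eq_sub_of_add_eq' e]
      exact (g.2.2 _).trans h2
    · intro w hw
      refine halves_trans_gen refU X w uRef_spec.2 ⟨fn, ?_⟩ hw
      show sqNorm (uRef - fourVec 1) = 32
      rw [sqNorm_sub, uRef_spec.2, fn, fd]; norm_num
  refine ⟨hG, ?_⟩
  obtain ⟨g, hgo, hsimp, hgM, hnorm⟩ := pairStab_special (s := 1) (Or.inl rfl) (X := X) rfl
  haveI := co0_finite
  haveI : Fact (Nat.Prime 11) := ⟨by norm_num⟩
  haveI := hsimp
  have hyp : PrimeHyp 11 (monoSub.subgroupOf G) g := ⟨hgM, hgo, by rw [hG]; norm_num, hnorm⟩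
  have hcard : ∀ N : Subgroup ↥G, N.Normal → g ∉ N → Nat.card N = 1 ∨ Nat.card N = 3 ^ 5 := by
    intro N hN hg
    haveI := hN
    have hd : Nat.card N ∣ 2 ^ 7 * 3 ^ 6 * 5 ^ 3 * 7 * 11 := by
      have := Subgroup.card_subgroup_dvd_card N
      rw [hG] at this
      exact this
    have hpart : ∀ l : ℕ, l.Prime → l ^ (Nat.card N).factorization l ≡ 1 [MOD 11] := fun l hl => by
      haveI : Fact l.Prime := ⟨hl⟩
      exact hyp.part_modEq N hg l
    have h3 : Nat.card N = 3 ^ (Nat.card N).factorization 3 := by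
      refine card_eq_part Nat.card_pos.ne' fun q hq hq3 => ?_
      by_contra hne
      have hqn : q ∣ Nat.card N := Nat.dvd_of_factorization_pos hne
      have hm : q ^ (Nat.card N).factorization q % 11 = 1 := hpart q hq
      rcases prime_list' hq (hqn.trans hd) with rfl | rfl | rfl | rfl | rfl
      · have hk := exp_bound (n := Nat.card N) (l := 2) (b := 7) hd (by norm_num)
        generalize (Nat.card N).factorization 2 = k at *
        interval_cases k <;> first | exact hne rfl | norm_num at hm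
      · exact hq3 rfl
      · have hk := exp_bound (n := Nat.card N) (l := 5) (b := 3) hd (by norm_num)
        generalize (Nat.card N).factorization 5 = k at *
        interval_cases k <;> first | exact hne rfl | norm_num at hm
      · have hk := exp_bound (n := Nat.card N) (l := 7) (b := 1) hd (by norm_num)
        generalize (Nat.card N).factorization 7 = k at *
        interval_cases k <;> first | exact hne rfl | norm_num at hm
      · exact hyp.not_dvd N hg hqn
    have hk := exp_bound (n := Nat.card N) (l := 3) (b := 6) hd (by norm_num)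
    have hm : 3 ^ (Nat.card N).factorization 3 % 11 = 1 := hpart 3 Nat.prime_three
    generalize (Nat.card N).factorization 3 = k at *
    interval_cases k <;> first | (norm_num at hm; done) | simp [h3]
  refine hyp.simple fun N hN hg => ?_
  haveI := hN
  by_contra hne
  have hN5 : Nat.card N = 3 ^ 5 := (hcard N hN hg).resolve_left fun h => hne (N.card_eq_one.1 h)
  let φ : ↥G →* MulAut ↥N := MulAut.conjNormal
  have hgk : g ∉ φ.ker := fun h => hne ((Subgroup.eq_bot_iff_forall N).2 fun x hx => by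
    refine hyp.fixed_free N hg x hx ?_
    exact congrArg (fun e : MulAut ↥N => ((e ⟨x, hx⟩ : ↥N) : ↥G)) (MonoidHom.mem_ker.1 h))
  haveI : Fact (Nat.Prime 7) := ⟨by norm_num⟩
  haveI : Fact (Nat.Prime 3) := ⟨Nat.prime_three⟩
  obtain ⟨y, hy⟩ := exists_prime_orderOf_dvd_card' (G := ↥G) 7 (by rw [hG]; norm_num)
  haveI : Fintype ↥N := Fintype.ofFinite _
  -- seven centralises
  let F : Subgroup ↥N :=
    { carrier := {n | φ y n = n}
      one_mem' := map_one _
      mul_mem' := fun {a b} ha hb => by simp only [Set.mem_setOf_eq] at *; rw [map_mul, ha, hb]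
      inv_mem' := fun {a} ha => by simp only [Set.mem_setOf_eq] at *; rw [map_inv, ha] }
  have hFc : Nat.card F % 7 = 5 := by
    have h := Equiv.Perm.card_compl_support_modEq (p := 7) (n := 1) (σ := ((φ y).toEquiv : Equiv.Perm ↥N)) (by
      have hp : ∀ (n : ℕ), (((φ y).toEquiv : Equiv.Perm ↥N)) ^ n = (φ (y ^ n)).toEquiv := by
        intro n
        induction n with
        | zero => simp; rfl
        | succ n ih => rw [pow_succ, ih, pow_succ, map_mul]; rfl
      rw [hp, pow_one, ← hy, pow_orderOf_eq_one, map_one]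
      rfl)
    have e : Nat.card F = ((Equiv.Perm.support (α := ↥N) (φ y).toEquiv)ᶜ).card := by
      rw [← Nat.card_eq_finsetCard]
      refine Nat.card_congr (Equiv.subtypeEquivRight fun n => ?_)
      simp [F, Equiv.Perm.mem_support]
    rw [e]
    have h' := h
    rw [← Nat.card_eq_fintype_card, hN5] at h'
    exact h'
  have hFtop : F = ⊤ := by
    refine Subgroup.eq_top_of_card_eq F ?_
    have hdiv : Nat.card F ∣ 3 ^ 5 := hN5 ▸ Subgroup.card_subgroup_dvd_card F
    obtain ⟨j, hj, e⟩ := (Nat.dvd_prime_pow Nat.prime_three).1 hdiv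
    rw [e] at hFc
    rw [hN5, e]
    interval_cases j <;> first | (norm_num at hFc; done) | norm_num
  have hyk : y ∈ φ.ker := MonoidHom.mem_ker.2 (MulEquiv.ext fun n => (hFtop.symm ▸ Subgroup.mem_top n : n ∈ F))
  have h7 := Subgroup.orderOf_dvd_natCard φ.ker hyk
  rw [hy] at h7
  rcases hcard φ.ker inferInstance hgk with h | h <;> rw [h] at h7 <;> norm_num at h7

theorem mcl_spec (v w : ↥leechLattice) (hv : sqNorm (v : Zv) = 32) (hw : sqNorm (w : Zv) = 32)
    (hvw : dotInt (v : Zv) (w : Zv) = -8) :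
    IsMcL ↥(MulAction.stabilizer ↥Co0 v ⊓ MulAction.stabilizer ↥Co0 w) := by
  obtain ⟨hc, hs⟩ := simple_mcl_ref
  obtain ⟨-, fn, fd, -, -⟩ := fourVec_facts 1 (by simp)
  set X : ↥leechLattice := ⟨fourVec 1, leechCheck_mem (fourVec_facts 1 (by simp)).1⟩ with hX
  have hvn : sqNorm ((refU - X : ↥leechLattice) : Zv) = 32 := by
    show sqNorm (uRef - fourVec 1) = 32
    rw [sqNorm_sub, uRef_spec.2, fn, fd]; norm_num
  have hdot : dotInt (fourVec 1) ((refU - X : ↥leechLattice) : Zv) = -8 := by
    show dotInt (fourVec 1) (uRef - fourVec 1) = -8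
    decide +kernel
  obtain ⟨g, hg⟩ := transitive_of_orb (fun y hy hn => orb_short hy hn) X v fn hv
  have hd' : dotInt (v : Zv) ((g • (refU - X) : ↥leechLattice) : Zv) = -8 := by
    rw [← hg, co0_dot]; exact hdot
  obtain ⟨k, hk, hk'⟩ := eight_transitive v (g • (refU - X)) w hv ((g.2.2 _).trans hvn) hw hd' hvw
  have e : MulAction.stabilizer ↥Co0 X ⊓ MulAction.stabilizer ↥Co0 (refU - X) = pairStab X := by
    ext z
    simp only [pairStab, Subgroup.mem_inf, MulAction.mem_stabilizer_iff]
    constructor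
    · rintro ⟨h1, h2⟩
      refine ⟨?_, h1⟩
      have := co0_add z X (refU - X)
      rwa [add_sub_cancel, h1, h2, add_sub_cancel] at this
    · rintro ⟨h1, h2⟩
      refine ⟨h2, ?_⟩
      have := co0_add z X (refU - X)
      rw [add_sub_cancel, h1, h2] at this
      exact (eq_sub_of_add_eq' this.symm)
  obtain ⟨E⟩ := pair_transfer (k * g) (u := X) (x := refU - X) (u' := v) (x' := w)
    (by rw [mul_smul, hg, hk]) (by rw [mul_smul, hk'])
  rw [e] at E
  haveI := hs
  exact ⟨E.symm.isSimpleGroup, by rw [← Nat.card_congr E.toEquiv]; exact hc⟩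

end Cfsg.Agent.Spor
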