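/-
The Higman-Sims group as the joint stabiliser of two vectors of squared norm 48.
-/
import Cfsg.Agent.Lib.Spor.PairStab
import Cfsg.Agent.Lib.Spor.MidSixteen

set_option autoImplicit false
set_option maxRecDepth 100000

namespace Cfsg.Agent.Spor

open Cfsg
open scoped Pointwise

local notation "Zv" => GolayPt → ℤ

theorem co0_neg (g : ↥Co0) (v : ↥leechLattice) : g • (-v) = -(g • v) := by
  have h1 := co0_add g v (-v)
  have h0 := co0_add g 0 0
  rw [add_zero] at h0
  rw [add_neg_cancel, add_eq_left.1 h0.symm] at h1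
  exact eq_neg_of_add_eq_zero_right h1.symm

theorem stab_neg (v : ↥leechLattice) : MulAction.stabilizer ↥Co0 (-v) = MulAction.stabilizer ↥Co0 v := by
  ext g
  simp only [MulAction.mem_stabilizer_iff, co0_neg, neg_inj]

/-- the second vector -/
def hsVec : ↥leechLattice := ⟨fourVec (-1), leechCheck_mem (fourVec_facts (-1) (by simp)).1⟩

theorem hs_ref : Nat.card (pairStab hsVec) = 44352000 ∧ IsSimpleGroup ↥(pairStab hsVec) := by
  obtain ⟨-, fn, fd, -, -⟩ := fourVec_facts (-1) (by simp)
  set G := pairStab hsVec with hGdef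
  have hG : Nat.card G = 44352000 := by
    obtain ⟨hc, htr⟩ := mid16_gen refU uRef_spec.2
    rw [hGdef, pairStab, ← stab_neg hsVec]
    have hX : sqNorm ((-hsVec : ↥leechLattice) : Zv) = 32 ∧ dotInt uRef ((-hsVec : ↥leechLattice) : Zv) = -16 := by
      rw [AddSubgroup.coe_neg, sqNorm_neg, dot_neg_right]
      exact ⟨fn, by show -dotInt uRef (fourVec (-1)) = -16; rw [fd]; norm_num⟩
    refine pair_card (card_co3 uRef_spec.2) _ hX hc ?_ (fun w hw => htr _ hX w hw)
      (show (495766656000 : ℕ) = 44352000 * 11178 by norm_num) (by norm_num)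
    rintro g hg w ⟨h1, h2⟩
    refine ⟨(g.2.2 w).trans h1, ?_⟩
    have := co0_dot g refU w
    rw [hg] at this
    exact this.trans h2
  refine ⟨hG, ?_⟩
  obtain ⟨g, hgo, hsimp, hgM, hnorm⟩ := pairStab_special (s := -1) (Or.inr rfl) (X := hsVec) rfl
  haveI := co0_finite
  haveI : Fact (Nat.Prime 11) := ⟨by norm_num⟩
  haveI := hsimp
  have hyp : PrimeHyp 11 (monoSub.subgroupOf G) g := ⟨hgM, hgo, by rw [hG]; norm_num, hnorm⟩
  refine hyp.simple fun N hN hg => ?_
  haveI := hN
  have hd : Nat.card N ∣ 2 ^ 9 * 3 ^ 2 * 5 ^ 3 * 7 * 11 := by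
    have := Subgroup.card_subgroup_dvd_card N
    rw [hG] at this
    exact this
  refine N.card_eq_one.1 ?_
  by_contra hne
  obtain ⟨l, hl, hln⟩ := Nat.exists_prime_and_dvd hne
  have hpos := hl.factorization_pos_of_dvd Nat.card_pos.ne' hln
  haveI : Fact l.Prime := ⟨hl⟩
  have hm : l ^ (Nat.card N).factorization l % 11 = 1 := hyp.part_modEq N hg l
  rcases prime_list' hl (hln.trans hd) with rfl | rfl | rfl | rfl | rfl
  · have hk := exp_bound (n := Nat.card N) (l := 2) (b := 9) hd (by norm_num)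
    generalize (Nat.card N).factorization 2 = k at *
    interval_cases k <;> norm_num at hm
  · have hk := exp_bound (n := Nat.card N) (l := 3) (b := 2) hd (by norm_num)
    generalize (Nat.card N).factorization 3 = k at *
    interval_cases k <;> norm_num at hm
  · have hk := exp_bound (n := Nat.card N) (l := 5) (b := 3) hd (by norm_num)
    generalize (Nat.card N).factorization 5 = k at *
    interval_cases k <;> norm_num at hm
  · have hk := exp_bound (n := Nat.card N) (l := 7) (b := 1) hd (by norm_num)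
    generalize (Nat.card N).factorization 7 = k at *
    interval_cases k <;> norm_num at hm
  · exact hyp.not_dvd N hg hln

theorem hs_spec (v w : ↥leechLattice) (hv : sqNorm (v : Zv) = 48) (hw : sqNorm (w : Zv) = 48)
    (hvw : dotInt (v : Zv) (w : Zv) = -32) :
    IsHS ↥(MulAction.stabilizer ↥Co0 v ⊓ MulAction.stabilizer ↥Co0 w) := by
  obtain ⟨hc, hs⟩ := hs_ref
  obtain ⟨-, fn, fd, -, -⟩ := fourVec_facts (-1) (by simp)
  obtain ⟨_, k, hk⟩ := (orb_mid v.2 hv).symm.trans (orb_mid uRef_spec.1 uRef_spec.2)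
  have hkv : k • v = refU := Subtype.ext hk
  obtain ⟨-, htr⟩ := mid16_gen refU uRef_spec.2
  have m1 : sqNorm ((k • -(v + w) : ↥leechLattice) : Zv) = 32 ∧
      dotInt uRef ((k • -(v + w) : ↥leechLattice) : Zv) = -16 := by
    constructor
    · refine (k.2.2 _).trans ?_
      rw [AddSubgroup.coe_neg, sqNorm_neg, AddSubgroup.coe_add, sqNorm_add]; omega
    · have := co0_dot k v (-(v + w))
      rw [hkv] at this
      refine this.trans ?_
      rw [AddSubgroup.coe_neg, AddSubgroup.coe_add, dot_neg_right, dot_add_right, dot_self, hv, hvw]; norm_num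
  have hX : sqNorm ((-hsVec : ↥leechLattice) : Zv) = 32 ∧ dotInt uRef ((-hsVec : ↥leechLattice) : Zv) = -16 := by
    rw [AddSubgroup.coe_neg, sqNorm_neg, dot_neg_right]
    exact ⟨fn, by show -dotInt uRef (fourVec (-1)) = -16; rw [fd]; norm_num⟩
  obtain ⟨g, hg, hg'⟩ := htr _ m1 _ hX
  have hx : (g * k) • (v + w) = hsVec := by
    have := congrArg Neg.neg hg'
    rwa [← mul_smul, co0_neg, neg_neg, neg_neg] at this
  have e : MulAction.stabilizer ↥Co0 v ⊓ MulAction.stabilizer ↥Co0 w =
      MulAction.stabilizer ↥Co0 v ⊓ MulAction.stabilizer ↥Co0 (v + w) := by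
    ext z
    simp only [Subgroup.mem_inf, MulAction.mem_stabilizer_iff]
    constructor
    · rintro ⟨h1, h2⟩; exact ⟨h1, by rw [co0_add, h1, h2]⟩
    · rintro ⟨h1, h2⟩
      refine ⟨h1, ?_⟩
      rw [co0_add, h1] at h2
      exact add_left_cancel h2
  obtain ⟨E⟩ := pair_transfer (g * k) (u := v) (x := v + w) (u' := refU) (x' := hsVec)
    (by rw [mul_smul, hkv, hg]) hx
  rw [← e] at E
  haveI : IsSimpleGroup ↥(MulAction.stabilizer ↥Co0 refU ⊓ MulAction.stabilizer ↥Co0 hsVec) := hs
  exact ⟨E.isSimpleGroup, by rw [Nat.card_congr E.toEquiv]; exact hc⟩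

end Cfsg.Agent.Spor
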