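/-
The McLaughlin configuration: 275 minimal vectors, rank three with suborbits 112 and 162.
-/
import Cfsg.Agent.Lib.Spor.PairStab
import Cfsg.Agent.Lib.Spor.MidSixteen
import Cfsg.Agent.Lib.Spor.GolayTupP3Oct
import Cfsg.Agent.Lib.Spor.MclConfigData

set_option autoImplicit false
set_option maxRecDepth 100000

namespace Cfsg.Agent.Spor

open Cfsg
open scoped Pointwise

local notation "Zv" => GolayPt → ℤ

/-- the second vector -/
def mclVec : ↥leechLattice := ⟨fourVec 1, leechCheck_mem (fourVec_facts 1 (by simp)).1⟩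

/-- the configuration -/
def mcl275 : Set Zv := {y | y ∈ halves uRef ∧ dotInt (fourVec 1) y = 16}

theorem dot_fourPos (y : Zv) : dotInt (fourVec 1) y = 4 * (y none + y (pt 0)) := by
  have hn : pt 0 ≠ none := by decide +kernel
  have e : ∀ p, fourVec 1 p * y p = (if p = none then 4 * y p else 0) + (if p = pt 0 then 4 * y p else 0) := by
    intro p
    by_cases h1 : p = none
    · subst h1; simp [fourVec, Ne.symm hn]
    · by_cases h2 : p = pt 0 <;> simp [fourVec, h1, h2, hn]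
  rw [dotInt, Finset.sum_congr rfl fun p _ => e p, Finset.sum_add_distrib, Finset.sum_ite_eq',
    Finset.sum_ite_eq', if_pos (Finset.mem_univ _), if_pos (Finset.mem_univ _)]
  ring

/-- the list of a vector -/
def rowOf (y : Zv) : List ℤ := (List.range 24).map fun k => y (pt k)

theorem vecOf_rowOf (y : Zv) : vecOf (rowOf y) = y := funext fun p => by
  show ((List.range 24).map fun k => y (pt k)).getD (idx p) 0 = _
  rw [List.getD_eq_getElem _ _ (by simpa using idx_lt p), List.getElem_map, List.getElem_range, pt_idx]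

/-- candidates -/
def mclCands : List (List ℤ) :=
  ((List.range 23).map fun j => rowOf (half0 (pt j))) ++
  ((octMasks.filter fun m => Nat.testBit m 23).map fun m => rowOf (half1 (ofMask m))) ++
  ((octMasks.filter fun m => Nat.testBit m 23).map fun m => rowOf (half2 (ofMask m))) ++
  ((List.range 23).map fun j => rowOf (half3 (pt j)))

/-- the members, as lists -/
def mclList : List (List ℤ) := mclCands.filter fun l => l.getD 23 0 + l.getD 0 0 == 4

/-- the base point -/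
def mclPt : Zv := half0 (pt 1)

/-- inner product with the base point, on lists -/
def rowDot (l : List ℤ) : ℤ := 4 * (l.getD 23 0 + l.getD 1 0)

theorem mcl_data : mclList.Nodup ∧ mclList.length = 275 ∧
    (mclList.filter fun l => rowDot l == 8).length = 112 ∧
    (mclList.filter fun l => !(l == rowOf mclPt) && (rowDot l == 16)).length = 162 := by
  refine ⟨?_, ?_, ?_, ?_⟩ <;> decide +kernel

theorem rowOf_get (y : Zv) (k : ℕ) (hk : k < 24) : (rowOf y).getD k 0 = y (pt k) := by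
  rw [rowOf, List.getD_eq_getElem _ _ (by simpa using hk), List.getElem_map, List.getElem_range]

theorem mcl275_iff {y : Zv} : y ∈ mcl275 ↔ rowOf y ∈ mclList := by
  have g23 : (rowOf y).getD 23 0 = y none := rowOf_get y 23 (by norm_num)
  have g0 : (rowOf y).getD 0 0 = y (pt 0) := rowOf_get y 0 (by norm_num)
  have hlt : ∀ j : GolayPt, j ≠ none → idx j < 23 := by decide +kernel
  have hne : ∀ j, j < 23 → pt j ≠ none := by decide +kernel
  have hoct : ∀ m ∈ octMasks.filter (fun m => Nat.testBit m 23), ofMask m ∈ octThrough := fun m hm => by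
    obtain ⟨h1, h2⟩ := List.mem_filter.1 hm
    exact ⟨mem_octads.2 (by rwa [mask_ofMask (octMasks_lt h1)]), mem_ofMask.2 h2⟩
  constructor
  · rintro ⟨hy, h0⟩
    rw [dot_fourPos] at h0
    refine List.mem_filter.2 ⟨?_, by rw [g23, g0, beq_iff_eq]; omega⟩
    simp only [mclCands, List.mem_append, List.mem_map]
    have hm : ∀ o ∈ octThrough, mask o ∈ octMasks.filter (fun m => Nat.testBit m 23) := fun o ho =>
      List.mem_filter.2 ⟨mem_octads.1 ho.1, (testBit_mask_idx (p := none)).2 ho.2⟩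
    rcases half_form hy with ⟨j, hj, rfl⟩ | ⟨o, ho, rfl⟩ | ⟨o, ho, rfl⟩ | ⟨j, hj, rfl⟩
    · exact Or.inl (Or.inl (Or.inl ⟨idx j, List.mem_range.2 (hlt j hj), by rw [pt_idx]⟩))
    · exact Or.inl (Or.inl (Or.inr ⟨mask o, hm o ho, by rw [ofMask_mask]⟩))
    · exact Or.inl (Or.inr ⟨mask o, hm o ho, by rw [ofMask_mask]⟩)
    · exact Or.inr ⟨idx j, List.mem_range.2 (hlt j hj), by rw [pt_idx]⟩
  · intro h
    obtain ⟨h1, h2⟩ := List.mem_filter.1 h
    rw [g23, g0, beq_iff_eq] at h2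
    refine ⟨?_, by rw [dot_fourPos]; omega⟩
    simp only [mclCands, List.mem_append, List.mem_map] at h1
    rcases h1 with ((⟨j, hj, e⟩ | ⟨m, hm, e⟩) | ⟨m, hm, e⟩) | ⟨j, hj, e⟩ <;>
      rw [← vecOf_rowOf y, ← e, vecOf_rowOf]
    · exact half_spec.1 _ (hne j (List.mem_range.1 hj))
    · exact half_spec.2.1 _ (hoct m hm)
    · exact half_spec.2.2.1 _ (hoct m hm)
    · exact half_spec.2.2.2 _ (hne j (List.mem_range.1 hj))

theorem mcl275_count (P : Zv → Prop) (q : List ℤ → Bool) {n : ℕ} (hn : (mclList.filter q).length = n)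
    (h : ∀ y ∈ mcl275, (P y ↔ q (rowOf y) = true)) : {y | y ∈ mcl275 ∧ P y}.ncard = n := by
  classical
  obtain ⟨hnd, -⟩ := mcl_data
  have hrow : ∀ l ∈ mclList, rowOf (vecOf l) = l := fun l hl => by
    have hl' := (List.mem_filter.1 hl).1
    simp only [mclCands, List.mem_append, List.mem_map] at hl'
    rcases hl' with ((⟨j, -, rfl⟩ | ⟨m, -, rfl⟩) | ⟨m, -, rfl⟩) | ⟨j, -, rfl⟩ <;> rw [vecOf_rowOf]
  have e : {y | y ∈ mcl275 ∧ P y} = vecOf '' ↑(mclList.filter q).toFinset := by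
    ext y
    constructor
    · rintro ⟨h1, h2⟩
      exact ⟨rowOf y, by simpa using ⟨mcl275_iff.1 h1, (h y h1).1 h2⟩, vecOf_rowOf y⟩
    · rintro ⟨l, hl, rfl⟩
      simp only [List.coe_toFinset, List.mem_filter, Set.mem_ofPred_eq] at hl
      have h1 : vecOf l ∈ mcl275 := mcl275_iff.2 (by rw [hrow l hl.1]; exact hl.1)
      exact ⟨h1, (h _ h1).2 (by rw [hrow l hl.1]; exact hl.2)⟩
  rw [e, Set.ncard_image_of_injOn, Set.ncard_coe_finset, List.toFinset_card_of_nodup (hnd.filter _), hn]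
  intro a ha b hb hab
  simp only [List.coe_toFinset, List.mem_filter, Set.mem_ofPred_eq] at ha hb
  rw [← hrow a ha.1, hab, hrow b hb.1]

theorem dot_mclPt (y : Zv) : dotInt mclPt y = 4 * (y none + y (pt 1)) := by
  have hn : pt 1 ≠ none := by decide +kernel
  have e : ∀ p, mclPt p * y p = (if p = none then 4 * y p else 0) + (if p = pt 1 then 4 * y p else 0) := by
    intro p
    by_cases h1 : p = none
    · subst h1; simp [mclPt, half0, setVec, Ne.symm hn]
    · by_cases h2 : p = pt 1 <;> simp [mclPt, half0, setVec, h1, h2, hn]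
  rw [dotInt, Finset.sum_congr rfl fun p _ => e p, Finset.sum_add_distrib, Finset.sum_ite_eq',
    Finset.sum_ite_eq', if_pos (Finset.mem_univ _), if_pos (Finset.mem_univ _)]
  ring

theorem mclPt_mem : mclPt ∈ mcl275 :=
  ⟨half_spec.1 _ (by decide +kernel), by decide +kernel⟩

theorem mcl275_kinds {y : Zv} (hy : y ∈ mcl275) :
    y = mclPt ∨
    (∃ j, j ≠ none ∧ j ≠ pt 0 ∧ j ≠ pt 1 ∧ y = half0 j ∧ |y none| = 4 ∧ dotInt mclPt y = 16) ∨
    (∃ o ∈ octThrough, pt 0 ∈ o ∧ y = half1 o ∧ |y none| = 2 ∧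
      ((pt 1 ∈ o ∧ dotInt mclPt y = 16) ∨ (pt 1 ∉ o ∧ dotInt mclPt y = 8))) ∨
    (∃ o ∈ octThrough, pt 0 ∉ o ∧ y = half2 o ∧ |y none| = 3 ∧
      ((pt 1 ∉ o ∧ dotInt mclPt y = 16) ∨ (pt 1 ∈ o ∧ dotInt mclPt y = 8))) := by
  obtain ⟨hy, h0⟩ := hy
  have hn : pt 0 ≠ none := by decide +kernel
  have hn1 : pt 1 ≠ none := by decide +kernel
  rw [dot_fourPos] at h0
  rw [dot_mclPt]
  rcases half_form hy with ⟨j, hj, rfl⟩ | ⟨o, ho, rfl⟩ | ⟨o, ho, rfl⟩ | ⟨j, hj, rfl⟩
  · have hj0 : j ≠ pt 0 := fun h => by subst h; simp [half0, setVec] at h0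
    by_cases h1 : j = pt 1
    · exact Or.inl (by rw [mclPt, h1])
    · refine Or.inr (Or.inl ⟨j, hj, hj0, h1, rfl, ?_, ?_⟩) <;> simp [half0, setVec, hn1, Ne.symm h1]
  · have h : pt 0 ∈ o := by
      by_contra h; simp [half1, setVec, ho.2, h] at h0
    refine Or.inr (Or.inr (Or.inl ⟨o, ho, h, rfl, by simp [half1, setVec, ho.2], ?_⟩))
    by_cases q : pt 1 ∈ o
    · exact Or.inl ⟨q, by simp [half1, setVec, ho.2, q]⟩
    · exact Or.inr ⟨q, by simp [half1, setVec, ho.2, q]⟩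
  · have h : pt 0 ∉ o := fun h => by simp [half2, sgn, setWord, setVec, ho.2, h, hn] at h0
    refine Or.inr (Or.inr (Or.inr ⟨o, ho, h, rfl, by simp [half2, sgn, setWord, setVec, ho.2], ?_⟩))
    by_cases q : pt 1 ∈ o
    · exact Or.inr ⟨q, by simp [half2, sgn, setWord, setVec, ho.2, q, hn1]⟩
    · exact Or.inl ⟨q, by simp [half2, sgn, setWord, setVec, ho.2, q, hn1]⟩
  · exfalso
    by_cases h : j = pt 0
    · subst h; simp [half3, setVec, Ne.symm hn] at h0
    · simp [half3, setVec, Ne.symm hj, Ne.symm h] at h0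

/-- the joint stabiliser of the two vectors -/
def MFix (g : ↥Co0) : Prop := g • refU = refU ∧ g • mclVec = mclVec

/-- the same, also fixing the base point -/
def MFixPt (g : ↥Co0) : Prop :=
  MFix g ∧ ((g • (⟨mclPt, mclPt_mem.1.1⟩ : ↥leechLattice) : ↥leechLattice) : Zv) = mclPt

/-- one orbit -/
def MclOrb (G : ↥Co0 → Prop) (a b : Zv) : Prop := ∃ (ha : a ∈ leechLattice) (g : ↥Co0),
  G g ∧ ((g • (⟨a, ha⟩ : ↥leechLattice) : ↥leechLattice) : Zv) = b

theorem MFix.inv {g : ↥Co0} (h : MFix g) : MFix g⁻¹ :=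
  ⟨by rw [inv_smul_eq_iff, h.1], by rw [inv_smul_eq_iff, h.2]⟩

theorem MFix.mul {g k : ↥Co0} (h : MFix g) (h' : MFix k) : MFix (g * k) :=
  ⟨by rw [mul_smul, h'.1, h.1], by rw [mul_smul, h'.2, h.2]⟩

theorem MFixPt.inv {g : ↥Co0} (h : MFixPt g) : MFixPt g⁻¹ := by
  refine ⟨h.1.inv, congrArg Subtype.val (inv_smul_eq_iff.2 (Subtype.ext h.2).symm :
    g⁻¹ • (⟨mclPt, mclPt_mem.1.1⟩ : ↥leechLattice) = ⟨mclPt, mclPt_mem.1.1⟩)⟩

theorem MFixPt.mul {g k : ↥Co0} (h : MFixPt g) (h' : MFixPt k) : MFixPt (g * k) := by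
  refine ⟨h.1.mul h'.1, ?_⟩
  rw [mul_smul, show k • (⟨mclPt, mclPt_mem.1.1⟩ : ↥leechLattice) = ⟨mclPt, mclPt_mem.1.1⟩ from Subtype.ext h'.2]
  exact h.2

theorem MclOrb.symm {G : ↥Co0 → Prop} (hG : ∀ g, G g → G g⁻¹) {a b : Zv} : MclOrb G a b → MclOrb G b a := by
  rintro ⟨ha, g, hg, rfl⟩
  exact ⟨(g • (⟨a, ha⟩ : ↥leechLattice)).2, g⁻¹, hG g hg,
    congrArg Subtype.val (inv_smul_smul g (⟨a, ha⟩ : ↥leechLattice))⟩

theorem MclOrb.trans {G : ↥Co0 → Prop} (hG : ∀ g k, G g → G k → G (g * k)) {a b c : Zv} :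
    MclOrb G a b → MclOrb G b c → MclOrb G a c := by
  rintro ⟨ha, g, hg, rfl⟩ ⟨hb, k, hk, rfl⟩
  exact ⟨ha, k * g, hG k g hk hg, by rw [mul_smul]⟩

theorem MclOrb.weaken {a b : Zv} : MclOrb MFixPt a b → MclOrb MFix a b :=
  fun ⟨ha, g, hg, e⟩ => ⟨ha, g, hg.1, e⟩

theorem octad_three_off {S T : Finset GolayPt} (hS : S ∈ octads) (hT : T ∈ octads)
    (h0 : none ∈ S ↔ none ∈ T) (h1 : pt 0 ∈ S ↔ pt 0 ∈ T) (h2 : pt 1 ∈ S ↔ pt 1 ∈ T) :
    ∃ σ ∈ M24, σ none = none ∧ σ (pt 0) = pt 0 ∧ σ (pt 1) = pt 1 ∧ σ • S = T := by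
  classical
  obtain ⟨τ, hτ, hm⟩ := M24_trans (k := 3) (by norm_num) ⟨![pt 0, pt 1, pt 2], by decide +kernel⟩
    ⟨![none, pt 0, pt 1], by decide +kernel⟩
  have e1 : τ • ofMask 1 = {none} := by
    rw [show ofMask 1 = {pt 0} by decide +kernel, Finset.smul_finset_singleton]
    exact congrArg (fun c => ({c} : Finset GolayPt)) (hm 0)
  have e2 : τ • ofMask 2 = {pt 0} := by
    rw [show ofMask 2 = {pt 1} by decide +kernel, Finset.smul_finset_singleton]
    exact congrArg (fun c => ({c} : Finset GolayPt)) (hm 1)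
  have e3 : τ • ofMask 4 = {pt 1} := by
    rw [show ofMask 4 = {pt 2} by decide +kernel, Finset.smul_finset_singleton]
    exact congrArg (fun c => ({c} : Finset GolayPt)) (hm 2)
  have hinv : ∀ s, tupInv ((tupP3OctA.map ofMask).map (τ • ·)) (τ • s) = tupInv (tupP3OctA.map ofMask) s :=
    fun s => tupInv_smul τ _ s
  have hc : ∀ (p : GolayPt) (U : Finset GolayPt), ({p} ∩ U).card = if p ∈ U then 1 else 0 := fun p U => by
    by_cases h : p ∈ U <;> simp [h]
  have hval : ∀ U : Finset GolayPt, tupInv ((tupP3OctA.map ofMask).map (τ • ·)) U =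
      [if none ∈ U then 1 else 0, if pt 0 ∈ U then 1 else 0, if pt 1 ∈ U then 1 else 0] := fun U => by
    simp only [tupP3OctA, tupInv, List.map_cons, List.map_nil, e1, e2, e3, hc]
  obtain ⟨g, hg, hfix, hgS⟩ := tuple_transfer (fun _ hσ _ hs => smul_octad hσ hs) hτ hinv tupP3Oct_classes
    S hS T hT (by rw [hval, hval]; simp only [h0, h1, h2])
  have f1 := hfix 1 (by simp [tupP3OctA])
  have f2 := hfix 2 (by simp [tupP3OctA])
  have f3 := hfix 4 (by simp [tupP3OctA])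
  rw [e1] at f1
  rw [e2] at f2
  rw [e3] at f3
  exact ⟨g, hg, fix_of_singleton f1, fix_of_singleton f2, fix_of_singleton f3, hgS⟩

/-- one kind is one orbit of the monomial stabiliser of the three vectors -/
theorem mcl_family {a b : Zv} (ha : a ∈ mcl275) (hb : b ∈ mcl275) (na : a ≠ mclPt) (nb : b ≠ mclPt)
    (h : |a none| = |b none|) (h' : dotInt mclPt a = dotInt mclPt b) : MclOrb MFixPt a b := by
  classical
  suffices hs : ∃ σ ∈ M24, σ none = none ∧ σ (pt 0) = pt 0 ∧ σ (pt 1) = pt 1 ∧ prm σ a = b by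
    obtain ⟨σ, hσ, h0, h1, h2, e⟩ := hs
    obtain ⟨g, hg⟩ := exists_prm hσ
    have i1 : ∀ q, σ q = none ↔ q = none := fun q => by conv_lhs => rw [← h0]; rw [σ.injective.eq_iff]
    have i2 : ∀ q, σ q = pt 0 ↔ q = pt 0 := fun q => by conv_lhs => rw [← h1]; rw [σ.injective.eq_iff]
    have i3 : ∀ q, σ q = pt 1 ↔ q = pt 1 := fun q => by conv_lhs => rw [← h2]; rw [σ.injective.eq_iff]
    refine ⟨ha.1.1, g, ⟨⟨Subtype.ext ?_, Subtype.ext ?_⟩, ?_⟩, by rw [hg]; exact e⟩
    · rw [hg]; show prm σ uRef = uRef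
      rw [uRef, prm_setVec, Finset.smul_finset_singleton]
      show setVec 1 5 {σ none} = _
      rw [h0]
    · rw [hg]; show prm σ (fourVec 1) = fourVec 1
      funext p
      obtain ⟨q, rfl⟩ := σ.surjective p
      simp [prm, fourVec, i1, i2]
    · rw [hg]; show prm σ mclPt = mclPt
      funext p
      obtain ⟨q, rfl⟩ := σ.surjective p
      simp [prm, mclPt, half0, setVec, i1, i3]
  rcases mcl275_kinds ha with e | ⟨j, hj, hj0, hj1, rfl, va, da⟩ | ⟨o, ho, hp, rfl, va, da⟩ |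
    ⟨o, ho, hp, rfl, va, da⟩
  · exact absurd e na
  all_goals
    rcases mcl275_kinds hb with e | ⟨j', hj', hj0', hj1', rfl, vb, db⟩ | ⟨o', ho', hp', rfl, vb, db⟩ |
      ⟨o', ho', hp', rfl, vb, db⟩
  all_goals try exact absurd e nb
  all_goals try (exfalso; omega)
  · obtain ⟨σ, hσ, hm⟩ := M24_trans (k := 4) (by norm_num)
      ⟨![none, pt 0, pt 1, j], by
        have n0 : pt 0 ≠ none := by decide +kernel
        have n1 : pt 1 ≠ none := by decide +kernel
        have n2 : pt 0 ≠ pt 1 := by decide +kernel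
        intro u v; fin_cases u <;> fin_cases v <;>
          simp [n0, n1, n2, Ne.symm n0, Ne.symm n1, Ne.symm n2, hj, Ne.symm hj, hj0, Ne.symm hj0, hj1, Ne.symm hj1]⟩
      ⟨![none, pt 0, pt 1, j'], by
        have n0 : pt 0 ≠ none := by decide +kernel
        have n1 : pt 1 ≠ none := by decide +kernel
        have n2 : pt 0 ≠ pt 1 := by decide +kernel
        intro u v; fin_cases u <;> fin_cases v <;>
          simp [n0, n1, n2, Ne.symm n0, Ne.symm n1, Ne.symm n2, hj', Ne.symm hj', hj0', Ne.symm hj0', hj1', Ne.symm hj1']⟩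
    refine ⟨σ, hσ, hm 0, hm 1, hm 2, ?_⟩
    rw [half0, half0, prm_setVec, Finset.smul_finset_insert, Finset.smul_finset_singleton]
    show setVec 0 4 {σ none, σ j} = _
    rw [show σ none = none from hm 0, show σ j = j' from hm 3]
  · obtain ⟨σ, hσ, e0, e1, e2, e3⟩ := octad_three_off ho.1 ho'.1 (by simp [ho.2, ho'.2]) (by simp [hp, hp'])
      (by rcases da with ⟨q, d⟩ | ⟨q, d⟩ <;> rcases db with ⟨q', d'⟩ | ⟨q', d'⟩ <;>
          first | (simp [q, q']; done) | (exfalso; omega))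
    exact ⟨σ, hσ, e0, e1, e2, by rw [half1, half1, prm_setVec, e3]⟩
  · obtain ⟨σ, hσ, e0, e1, e2, e3⟩ := octad_three_off ho.1 ho'.1 (by simp [ho.2, ho'.2]) (by simp [hp, hp'])
      (by rcases da with ⟨q, d⟩ | ⟨q, d⟩ <;> rcases db with ⟨q', d'⟩ | ⟨q', d'⟩ <;>
          first | (simp [q, q']; done) | (exfalso; omega))
    refine ⟨σ, hσ, e0, e1, e2, ?_⟩
    rw [half2, half2, prm_sgn, prm_setVec, prm_setWord, e3, Finset.smul_finset_singleton]
    show sgn _ (setVec 1 (-3) {σ none}) = _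
    rw [e0]

/-- end of an edge -/
def edgeEnd (i : ℕ) (s : Bool) : List (List ℤ) :=
  if s then (mclEdges.getD i ([], [])).2 else (mclEdges.getD i ([], [])).1

/-- member at the end of an edge -/
def edgeVec (i : ℕ) (s : Bool) : Zv := vecOf ((edgeEnd i s).getLastD [])

/-- inner product and value at the point -/
def kindOf (y : Zv) : ℤ × ℤ := (|y none|, 4 * (y none + y (pt 1)))

theorem mcl_step :
    mclMono.all (fun w => w.all LOp.ok) = true ∧ mclFrame.all (traceOk mclWord) = true ∧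
    (∀ p, vecOf ((mclFrame.getD 0 []).getLastD []) p = uRef p) ∧
    (∀ p, vecOf ((mclFrame.getD 1 []).getLastD []) p = fourVec 1 p) ∧
    (∀ p, vecOf ((mclFrame.getD 2 []).getLastD []) p = mclPt p) ∧
    (∀ i, i < 2 → ∀ j, j < (if i = 0 then 3 else 2) → ∀ p,
      wordApp (mclMono.getD i []) (vecOf ((mclFrame.getD j []).headD [])) p = vecOf ((mclFrame.getD j []).headD []) p) ∧
    (∀ i, i < 5 → ∀ s, traceOk mclWord (edgeEnd i s) = true ∧ rowOf (edgeVec i s) ∈ mclList) ∧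
    (∀ i, i < 5 → ∀ p, wordApp (mclMono.getD (mclEdgeMono.getD i 0) []) (vecOf ((edgeEnd i false).headD [])) p =
      vecOf ((edgeEnd i true).headD []) p) ∧
    mclEdgeMono = [1, 0, 0, 1, 0] ∧
    ((List.range 5).map fun i => (kindOf (edgeVec i false), kindOf (edgeVec i true))) =
      [((4, 16 + 16), (4, 16)), ((4, 16), (2, 16)), ((4, 16), (3, 16)), ((2, 8), (2, 16)), ((2, 8), (3, 8))] := by
  refine ⟨?_, ?_, ?_, ?_, ?_, ?_, ?_, ?_, ?_, ?_⟩ <;> decide +kernel

theorem mcl_edges : ∀ i, i < 5 → MclOrb MFix (edgeVec i false) (edgeVec i true) ∧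
    (mclEdgeMono.getD i 0 = 0 → MclOrb MFixPt (edgeVec i false) (edgeVec i true)) := by
  classical
  obtain ⟨mok, fok, fu, fX, fP, ffix, hmem, hedge, hmono, -⟩ := mcl_step
  rw [List.all_eq_true] at fok mok
  obtain ⟨x, hxi⟩ := exists_xi
  have hfr : ∀ j, j < 3 → mclFrame.getD j [] ∈ mclFrame := fun j hj => by
    rw [List.getD_eq_getElem _ _ (show j < mclFrame.length from hj)]; exact List.getElem_mem _
  obtain ⟨k, -, hk⟩ := word_elem ⊤ (fun _ _ => Subgroup.mem_top _) (Subgroup.mem_top x) hxi mclWord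
    (trace_sound _ _ (fok _ (hfr 0 (by norm_num)))).1
  intro i hi
  set n := mclEdgeMono.getD i 0 with hn
  have hn2 : n < 2 := by
    rw [hn, hmono]; interval_cases i <;> decide
  have hmn : mclMono.getD n [] ∈ mclMono := by
    rw [List.getD_eq_getElem _ _ (show n < mclMono.length from hn2)]; exact List.getElem_mem _
  obtain ⟨m, -, hm⟩ := word_elem ⊤ (fun _ _ => Subgroup.mem_top _) (Subgroup.mem_top x) hxi _ (mok _ hmn)
  have key : ∀ (a b : ↥leechLattice) (la lb : List ℤ), wordApp mclWord (a : Zv) = vecOf la →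
      wordApp mclWord (b : Zv) = vecOf lb → wordApp (mclMono.getD n []) (vecOf la) = vecOf lb →
      (k⁻¹ * m * k) • a = b := by
    intro a b la lb h1 h2 h3
    rw [mul_smul, mul_smul, inv_smul_eq_iff]
    refine Subtype.ext ?_
    rw [hm, hk, hk, h1, h2]
    exact h3
  have frame : ∀ (j : ℕ) (a : ↥leechLattice), j < (if n = 0 then 3 else 2) →
      (a : Zv) = vecOf ((mclFrame.getD j []).getLastD []) → (k⁻¹ * m * k) • a = a := by
    intro j a hj ha
    have e := (trace_sound _ _ (fok _ (hfr j (by split_ifs at hj <;> omega)))).2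
    rw [← ha] at e
    exact key a a _ _ e e (funext (ffix n hn2 j hj))
  have hF : MFix (k⁻¹ * m * k) :=
    ⟨frame 0 refU (by split_ifs <;> norm_num) (funext fun p => (fu p).symm),
      frame 1 mclVec (by split_ifs <;> norm_num) (funext fun p => (fX p).symm)⟩
  have ma := mcl275_iff.2 (hmem i hi false).2
  have mb := mcl275_iff.2 (hmem i hi true).2
  have e : (((k⁻¹ * m * k) • (⟨_, ma.1.1⟩ : ↥leechLattice) : ↥leechLattice) : Zv) = edgeVec i true :=
    congrArg Subtype.val (key ⟨_, ma.1.1⟩ ⟨_, mb.1.1⟩ _ _ (trace_sound _ _ (hmem i hi false).1).2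
      (trace_sound _ _ (hmem i hi true).1).2 (funext (hedge i hi)))
  exact ⟨⟨ma.1.1, _, hF, e⟩, fun h0 => ⟨ma.1.1, _, ⟨hF, congrArg Subtype.val
    (frame 2 ⟨mclPt, mclPt_mem.1.1⟩ (by rw [if_pos h0]; norm_num) (funext fun p => (fP p).symm))⟩, e⟩⟩

theorem mcl_orbits :
    (∀ y ∈ mcl275, MclOrb MFix mclPt y) ∧
    (∀ y ∈ mcl275, ∀ y' ∈ mcl275, y ≠ mclPt → y' ≠ mclPt → dotInt mclPt y = dotInt mclPt y' →
      MclOrb MFixPt y y') := by
  classical
  obtain ⟨-, -, -, -, -, -, hmem, -, hmono, hk⟩ := mcl_step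
  simp only [List.range_succ, List.range_zero, List.nil_append, List.singleton_append, List.cons_append,
    List.map_cons, List.map_nil, List.cons.injEq, Prod.mk.injEq, and_true, kindOf, ← dot_mclPt] at hk
  obtain ⟨⟨⟨a0, b0⟩, c0, d0⟩, ⟨⟨a1, b1⟩, c1, d1⟩, ⟨⟨a2, b2⟩, c2, d2⟩, ⟨⟨a3, b3⟩, c3, d3⟩,
    ⟨⟨a4, b4⟩, c4, d4⟩⟩ := hk
  have mm : ∀ i, i < 5 → ∀ s, edgeVec i s ∈ mcl275 := fun i hi s => mcl275_iff.2 (hmem i hi s).2
  have hp : dotInt mclPt mclPt = 32 := by decide +kernel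
  have ne : ∀ {z : Zv}, dotInt mclPt z ≠ 32 → z ≠ mclPt := fun h e => h (e ▸ hp)
  have eX : edgeVec 0 false = mclPt := by
    rcases mcl275_kinds (mm 0 (by norm_num) false) with e | ⟨_, -, -, -, -, -, d⟩ | ⟨_, -, -, -, -, d⟩ |
      ⟨_, -, -, -, -, d⟩
    · exact e
    · omega
    · rcases d with ⟨-, d⟩ | ⟨-, d⟩ <;> omega
    · rcases d with ⟨-, d⟩ | ⟨-, d⟩ <;> omega
  have T := @MclOrb.trans MFixPt fun _ _ h h' => h.mul h'
  have S := @MclOrb.symm MFixPt fun _ h => h.inv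
  have E := fun i hi h => (mcl_edges i hi).2 h
  have e1 := E 1 (by norm_num) (by rw [hmono]; rfl)
  have e2 := E 2 (by norm_num) (by rw [hmono]; rfl)
  have e4 := E 4 (by norm_num) (by rw [hmono]; rfl)
  have fam : ∀ {a b : Zv}, a ∈ mcl275 → b ∈ mcl275 → |a none| = |b none| → dotInt mclPt a = dotInt mclPt b →
      dotInt mclPt a ≠ 32 → MclOrb MFixPt a b :=
    fun ha hb h h' h32 => mcl_family ha hb (ne h32) (ne (h' ▸ h32)) h h'
  have m0 := mm 0 (by norm_num) true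
  have m1a := mm 1 (by norm_num) false
  have m1b := mm 1 (by norm_num) true
  have m2a := mm 2 (by norm_num) false
  have m2b := mm 2 (by norm_num) true
  have m3a := mm 3 (by norm_num) false
  have m3b := mm 3 (by norm_num) true
  have m4a := mm 4 (by norm_num) false
  have m4b := mm 4 (by norm_num) true
  -- hubs
  have hub16 : ∀ {y : Zv}, y ∈ mcl275 → dotInt mclPt y = 16 → MclOrb MFixPt (edgeVec 1 false) y := by
    intro y hy hd
    rcases mcl275_kinds hy with e | ⟨j, -, -, -, -, v, d⟩ | ⟨o, -, -, -, v, d⟩ | ⟨o, -, -, -, v, d⟩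
    · rw [e, hp] at hd; omega
    · exact fam m1a hy (by omega) (by omega) (by omega)
    · exact T e1 (fam m1b hy (by omega) (by omega) (by omega))
    · exact T (fam m1a m2a (by omega) (by omega) (by omega)) (T e2 (fam m2b hy (by omega) (by omega) (by omega)))
  have hub8 : ∀ {y : Zv}, y ∈ mcl275 → dotInt mclPt y = 8 → MclOrb MFixPt (edgeVec 4 false) y := by
    intro y hy hd
    rcases mcl275_kinds hy with e | ⟨j, -, -, -, -, v, d⟩ | ⟨o, -, -, -, v, d⟩ | ⟨o, -, -, -, v, d⟩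
    · rw [e, hp] at hd; omega
    · omega
    · exact fam m4a hy (by omega) (by omega) (by omega)
    · exact T e4 (fam m4b hy (by omega) (by omega) (by omega))
  have vals : ∀ {y : Zv}, y ∈ mcl275 → y ≠ mclPt → dotInt mclPt y = 16 ∨ dotInt mclPt y = 8 := by
    intro y hy hne
    rcases mcl275_kinds hy with e | ⟨j, -, -, -, -, v, d⟩ | ⟨o, -, -, -, v, d⟩ | ⟨o, -, -, -, v, d⟩
    · exact absurd e hne
    · exact Or.inl d
    · rcases d with ⟨-, d⟩ | ⟨-, d⟩ <;> omega
    · rcases d with ⟨-, d⟩ | ⟨-, d⟩ <;> omega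
  refine ⟨fun y hy => ?_, fun y hy y' hy' hne hne' hd => ?_⟩
  · have T' := @MclOrb.trans MFix fun _ _ h h' => h.mul h'
    have S' := @MclOrb.symm MFix fun _ h => h.inv
    have to16 : MclOrb MFix mclPt (edgeVec 1 false) := by
      have h := (mcl_edges 0 (by norm_num)).1
      rw [eX] at h
      exact T' h (S (hub16 m0 (by omega))).weaken
    by_cases hne : y = mclPt
    · subst hne
      exact T' to16 (S' to16)
    rcases vals hy hne with h | h
    · exact T' to16 (hub16 hy h).weaken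
    · exact T' (T' (T' to16 (hub16 m3b (by omega)).weaken) (S' (mcl_edges 3 (by norm_num)).1))
        (T (S (hub8 m3a (by omega))) (hub8 hy h)).weaken
  · rcases vals hy hne with h | h
    · exact T (S (hub16 hy h)) (hub16 hy' (hd ▸ h))
    · exact T (S (hub8 hy h)) (hub8 hy' (hd ▸ h))

/-! ### transfer -/

theorem mcl_pair_map (u v : ↥leechLattice) (hu : sqNorm (u : Zv) = 48)
    (hv : sqNorm (v : Zv) = 32 ∧ sqNorm ((u - v) : Zv) = 32) : ∃ k : ↥Co0, k • u = refU ∧ k • v = mclVec := by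
  obtain ⟨-, fn, fd, -, -⟩ := fourVec_facts 1 (by simp)
  obtain ⟨_, k, hk⟩ := (orb_mid u.2 hu).symm.trans (orb_mid uRef_spec.1 uRef_spec.2)
  have hku : k • u = refU := Subtype.ext hk
  have h1 : sqNorm ((k • v : ↥leechLattice) : Zv) = 32 := (k.2.2 v).trans hv.1
  have h2 : sqNorm ((refU - k • v : ↥leechLattice) : Zv) = 32 := by
    have e : k • (u - v) + k • v = k • u := by rw [← co0_add, sub_add_cancel]
    rw [← hku, ← eq_sub_of_add_eq e]
    exact (k.2.2 _).trans hv.2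
  obtain ⟨g, hg, hg'⟩ := halves_trans_gen refU (k • v) mclVec uRef_spec.2 ⟨h1, h2⟩ ⟨fn, by
    show sqNorm (uRef - fourVec 1) = 32
    rw [sqNorm_sub, uRef_spec.2, fn, fd]; norm_num⟩
  exact ⟨g * k, by rw [mul_smul, hku, hg], by rw [mul_smul, hg']⟩

/-- the configuration of a pair -/
def mclSet (u v : ↥leechLattice) : Set ↥leechLattice :=
  {x | sqNorm (x : Zv) = 32 ∧ sqNorm ((u - x) : Zv) = 32 ∧ dotInt (v : Zv) (x : Zv) = 16}

theorem mclSet_image {u v : ↥leechLattice} {k : ↥Co0} (hu : k • u = refU) (hv : k • v = mclVec)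
    (hun : sqNorm (u : Zv) = 48) (x : ↥leechLattice) : x ∈ mclSet u v ↔ ((k • x : ↥leechLattice) : Zv) ∈ mcl275 := by
  have a := co0_dot k u x
  have b := co0_dot k v x
  rw [hu] at a
  rw [hv] at b
  change dotInt uRef _ = _ at a
  change dotInt (fourVec 1) _ = _ at b
  constructor
  · rintro ⟨h1, h2, h3⟩
    rw [sqNorm_sub] at h2
    exact ⟨⟨(k • x).2, (k.2.2 x).trans h1, by rw [a]; omega⟩, by rw [b]; exact h3⟩
  · rintro ⟨⟨-, h1, h2⟩, h3⟩
    have h1' : sqNorm (x : Zv) = 32 := (k.2.2 x).symm.trans h1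
    refine ⟨h1', ?_, by omega⟩
    rw [sqNorm_sub]; omega

theorem mcl_transport {u v : ↥leechLattice} {k : ↥Co0} (hu : k • u = refU) (hv : k • v = mclVec)
    (hun : sqNorm (u : Zv) = 48) (P : Zv → Prop) {n : ℕ} (hn : {y | y ∈ mcl275 ∧ P y}.ncard = n) :
    {y : ↥leechLattice | y ∈ mclSet u v ∧ P ((k • y : ↥leechLattice) : Zv)}.ncard = n := by
  rw [← hn, ← Set.ncard_image_of_injective _ (f := fun y : ↥leechLattice => ((k • y : ↥leechLattice) : Zv))
    fun a b h => MulAction.injective k (Subtype.ext h)]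
  congr 1
  ext z
  constructor
  · rintro ⟨y, ⟨hy, hP⟩, rfl⟩; exact ⟨(mclSet_image hu hv hun y).1 hy, hP⟩
  · rintro ⟨hz, hP⟩
    refine ⟨k⁻¹ • ⟨z, hz.1.1⟩, ⟨(mclSet_image hu hv hun _).2 ?_, ?_⟩, by simp only [smul_inv_smul]⟩ <;>
      rw [smul_inv_smul] <;> assumption

theorem mcl_275 (u v : ↥leechLattice) (hu : sqNorm (u : Zv) = 48)
    (hv : sqNorm (v : Zv) = 32 ∧ sqNorm ((u - v) : Zv) = 32) :
    (mclSet u v).ncard = 275 ∧
      ∀ x ∈ mclSet u v, ∀ x' ∈ mclSet u v, ∃ g : ↥Co0, g • u = u ∧ g • v = v ∧ g • x = x' := by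
  obtain ⟨k, k1, k2⟩ := mcl_pair_map u v hu hv
  obtain ⟨-, hl, -⟩ := mcl_data
  refine ⟨?_, fun x hx x' hx' => ?_⟩
  · have := mcl_transport k1 k2 hu (fun _ => True) (mcl275_count (fun _ => True) (fun _ => true) (n := 275)
      (by rw [List.filter_true]; exact hl) (fun _ _ => by simp))
    simpa using this
  · have hx1 := mcl_orbits.1 _ ((mclSet_image k1 k2 hu x).1 hx)
    have hx2 := mcl_orbits.1 _ ((mclSet_image k1 k2 hu x').1 hx')
    obtain ⟨_, g, ⟨g1, g2⟩, e⟩ := MclOrb.trans (fun _ _ h h' => MFix.mul h h')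
      (MclOrb.symm (fun _ h => MFix.inv h) hx1) hx2
    have e' : g • k • x = k • x' := Subtype.ext e
    refine ⟨k⁻¹ * g * k, ?_, ?_, ?_⟩
    · rw [mul_smul, mul_smul, k1, g1, ← k1, inv_smul_smul]
    · rw [mul_smul, mul_smul, k2, g2, ← k2, inv_smul_smul]
    · rw [mul_smul, mul_smul, e', inv_smul_smul]

theorem mcl_rank_three (u v x : ↥leechLattice) (hu : sqNorm (u : Zv) = 48)
    (hv : sqNorm (v : Zv) = 32 ∧ sqNorm ((u - v) : Zv) = 32) (hx : x ∈ mclSet u v) :
    {y : ↥leechLattice | y ∈ mclSet u v ∧ dotInt (x : Zv) (y : Zv) = 8}.ncard = 112 ∧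
    {y : ↥leechLattice | y ∈ mclSet u v ∧ y ≠ x ∧ dotInt (x : Zv) (y : Zv) = 16}.ncard = 162 ∧
    ∀ y ∈ mclSet u v, ∀ y' ∈ mclSet u v, y ≠ x → y' ≠ x → dotInt (x : Zv) (y : Zv) = dotInt (x : Zv) (y' : Zv) →
      ∃ g : ↥Co0, g • u = u ∧ g • v = v ∧ g • x = x ∧ g • y = y' := by
  obtain ⟨k0, j1, j2⟩ := mcl_pair_map u v hu hv
  obtain ⟨_, g, ⟨g1, g2⟩, e⟩ := MclOrb.symm (fun _ h => MFix.inv h)
    (mcl_orbits.1 _ ((mclSet_image j1 j2 hu x).1 hx))
  set k := g * k0
  have k1 : k • u = refU := by rw [mul_smul, j1, g1]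
  have k2 : k • v = mclVec := by rw [mul_smul, j2, g2]
  have k3 : ((k • x : ↥leechLattice) : Zv) = mclPt := by rw [mul_smul]; exact e
  have kd : ∀ y : ↥leechLattice, dotInt (x : Zv) (y : Zv) = dotInt mclPt ((k • y : ↥leechLattice) : Zv) := fun y => by
    have := co0_dot k x y
    rw [k3] at this
    exact this.symm
  have kne : ∀ y : ↥leechLattice, y ≠ x ↔ ((k • y : ↥leechLattice) : Zv) ≠ mclPt := fun y => by
    rw [← k3, not_iff_not, Subtype.coe_inj, smul_left_cancel_iff]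
  have hd : ∀ y : Zv, rowDot (rowOf y) = dotInt mclPt y := fun y => by
    rw [rowDot, rowOf_get y 23 (by norm_num), rowOf_get y 1 (by norm_num), dot_mclPt]; rfl
  obtain ⟨-, -, c1, c2⟩ := mcl_data
  refine ⟨?_, ?_, fun y hy y' hy' n1 n2 heq => ?_⟩
  · simp only [kd]
    exact mcl_transport k1 k2 hu (fun z => dotInt mclPt z = 8)
      (mcl275_count _ _ c1 fun z _ => by rw [beq_iff_eq, hd])
  · simp only [kd, kne]
    refine mcl_transport k1 k2 hu (fun z => z ≠ mclPt ∧ dotInt mclPt z = 16) (mcl275_count _ _ c2 fun z _ => ?_)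
    rw [Bool.and_eq_true, Bool.not_eq_true', beq_eq_false_iff_ne, beq_iff_eq, hd]
    refine and_congr_left' (not_congr ⟨fun h => by rw [h], fun h => ?_⟩)
    rw [← vecOf_rowOf z, h, vecOf_rowOf]
  · rw [kne] at n1 n2
    rw [kd, kd] at heq
    obtain ⟨_, s, ⟨⟨s1, s2⟩, s4⟩, e4⟩ := mcl_orbits.2 _ ((mclSet_image k1 k2 hu y).1 hy) _
      ((mclSet_image k1 k2 hu y').1 hy') n1 n2 heq
    have e' : s • k • y = k • y' := Subtype.ext e4
    have e5 : s • k • x = k • x := by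
      refine Subtype.ext ?_
      rw [show k • x = (⟨mclPt, mclPt_mem.1.1⟩ : ↥leechLattice) from Subtype.ext k3]
      exact s4
    refine ⟨k⁻¹ * s * k, ?_, ?_, ?_, ?_⟩
    · rw [mul_smul, mul_smul, k1, s1, ← k1, inv_smul_smul]
    · rw [mul_smul, mul_smul, k2, s2, ← k2, inv_smul_smul]
    · rw [mul_smul, mul_smul, e5, inv_smul_smul]
    · rw [mul_smul, mul_smul, e', inv_smul_smul]

end Cfsg.Agent.Spor
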