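import Cfsg.Agent.Lib.Spor.RepCert

/-!
Assembling orbit checks from checks on smaller ranges.
-/

set_option autoImplicit false

namespace Cfsg.Agent.Spor.CC

/-- a property on a range -/
def Range (f : ℕ → Bool) (lo hi : ℕ) : Prop := ∀ j, lo ≤ j → j < hi → f j = true

theorem range_of_ok {f : ℕ → Bool} {lo len : ℕ} (h : rangeOK f lo len = true) : Range f lo (lo + len) :=
  fun _ h1 h2 => all_range (p := f) h h1 h2

theorem Range.append {f : ℕ → Bool} {a b c : ℕ} (h1 : Range f a b) (h2 : Range f b c) : Range f a c :=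
  fun j ha hc => if h : j < b then h1 j ha h else h2 j (by omega) hc

theorem all_of_range {f : ℕ → Bool} {k : ℕ} (h : Range f 0 k) : (List.range k).all f = true :=
  List.all_eq_true.mpr fun j hj => h j (Nat.zero_le _) (List.mem_range.mp hj)

/-- one point of a closedness check -/
noncomputable def closedOK1 (T : ℕ → ℕ → ℕ) (ng : ℕ) (O : Orb) (j : ℕ) : Bool := O.ws.all fun w =>
  Nat.blt (fld O.posn 16 (ev T ng w (fld O.pts 16 j))) O.k &&
    Nat.beq (fld O.pts 16 (fld O.posn 16 (ev T ng w (fld O.pts 16 j)))) (ev T ng w (fld O.pts 16 j))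

theorem orbOK_of {T : ℕ → ℕ → ℕ} {ng : ℕ} {O : Orb} (h : Range (orbOK1 T ng O) 0 O.k) :
    orbOK T ng O = true := all_of_range h

theorem closedOK_of {T : ℕ → ℕ → ℕ} {ng : ℕ} {O : Orb} (h : Range (closedOK1 T ng O) 0 O.k) :
    closedOK T ng O = true := all_of_range h

/-- the points of an orbit carry its label -/
def labOK1 (O : Orb) (Lb i j : ℕ) : Bool := Nat.beq (fld Lb 4 (fld O.pts 16 j)) i

/-- every point is where the label says -/
def covOK1 (L : List Orb) (Lb u : ℕ) : Bool :=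
  match L[fld Lb 4 u]? with
  | some O => Nat.blt (fld O.posn 16 u) O.k && Nat.beq (fld O.pts 16 (fld O.posn 16 u)) u
  | none => false

theorem partOK_of {T : ℕ → ℕ → ℕ} {ng m : ℕ} {L : List Orb} {Lb : ℕ}
    (h1 : ∀ (i : ℕ) (hi : i < L.length), 0 < (L[i]).k ∧ (L[i]).b < m ∧ orbOK T ng L[i] = true ∧
      lettersOK ng (L[i]).ws = true ∧ Range (labOK1 L[i] Lb i) 0 (L[i]).k)
    (h2 : Range (covOK1 L Lb) 0 m) : partOK T ng m L Lb = true := by
  rw [partOK, Bool.and_eq_true_iff]
  refine ⟨List.all_eq_true.mpr fun i hi => ?_, all_of_range h2⟩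
  have hi' := List.mem_range.mp hi
  obtain ⟨hk, hb, ho, hl, hr⟩ := h1 i hi'
  simp only [List.getElem?_eq_getElem hi', Bool.and_eq_true]
  exact ⟨⟨⟨⟨Nat.ble_eq_true_of_le hk, Nat.ble_eq_true_of_le hb⟩, ho⟩, hl⟩, all_of_range hr⟩

theorem chainOK_cons {T : ℕ → ℕ → ℕ} {ng n : ℕ} {O : Orb} {L : List Orb} {bs : List ℕ}
    (hb : O.b < n) (ho : orbOK T ng O = true) (hl : lettersOK ng O.ws = true)
    (hf : fixOK T ng O.ws bs = true) (hr : chainOK T ng n L (O.b :: bs) = true) :
    chainOK T ng n (O :: L) bs = true := by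
  simp only [chainOK, Bool.and_eq_true]
  exact ⟨⟨⟨⟨Nat.ble_eq_true_of_le hb, ho⟩, hl⟩, hf⟩, hr⟩


section

variable {K : Type*} [Group K] {P : Table} (h : P.Valid) (g : ℕ → K)
  (φ : K →* Equiv.Perm (Fin P.n)) (hφ : ∀ x, x < P.ng → φ (g x) = P.perm h x)

include hφ in
theorem chain_fix_le : ∀ (L : List Orb) (bs : List ℕ), chainOK P.T P.ng P.n L bs = true →
    ∀ (S : Subgroup K) [Finite S], (∀ s : K, (∀ b ∈ bs, ∀ u : Fin P.n, (u : ℕ) = b → φ s u = u) →
      (∃ O ∈ L, ∃ w ∈ O.ws, s = (w.map g).prod) → s ∈ S) →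
      ∀ (F : Subgroup K), F ≤ S → (∀ s ∈ F, ∀ O ∈ L, ∀ u : Fin P.n, (u : ℕ) = O.b → φ s u = u) →
      chainSize L * Nat.card F ≤ Nat.card S
  | [], _, _, S, _, _, F, hF, _ => by
    simpa [chainSize] using Nat.card_le_card_of_injective _ (Subgroup.inclusion_injective hF)
  | O :: rest, bs, hL, S, hfin, hS, F, hF, hFfix => by
    simp only [chainOK, Bool.and_eq_true] at hL
    obtain ⟨⟨⟨⟨hbn, hO⟩, hl⟩, hfix⟩, hrest⟩ := hL
    let b : Fin P.n := ⟨O.b, Nat.le_of_ble_eq_true hbn⟩
    have hWS : ∀ w ∈ O.ws, (w.map g).prod ∈ S := by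
      intro w hw
      refine hS _ (fun c hc u hu => ?_) ⟨O, by simp, w, hw, rfl⟩
      apply Fin.ext
      rw [ev_eq h g φ hφ (fun x hx => lettersOK_spec hl hw hx), hu]
      exact Nat.eq_of_beq_eq_true (List.all_eq_true.mp (List.all_eq_true.mp hfix w hw) c hc)
    have horb := orb_mem h g φ hφ hO hl S hWS b rfl
    letI : MulAction S (Fin P.n) := MulAction.compHom _ (φ.comp S.subtype)
    have hsmul : ∀ (s : S) (u : Fin P.n), s • u = φ (s : K) u := fun s u => rfl
    let f : Fin O.k → MulAction.orbit S b := fun j =>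
      ⟨φ (horb j j.2).choose b, ⟨⟨_, (horb j j.2).choose_spec.1⟩, hsmul _ _⟩⟩
    have hf : Function.Injective f := by
      intro i j e
      have e' := congrArg (fun q : MulAction.orbit S b => ((q : Fin P.n) : ℕ)) e
      simp only [f] at e'
      rw [(horb i i.2).choose_spec.2, (horb j j.2).choose_spec.2] at e'
      exact Fin.ext (orb_inj hO i.2 j.2 e')
    have hk : O.k ≤ Nat.card (MulAction.orbit S b) := by
      simpa using Nat.card_le_card_of_injective f hf
    let S' : Subgroup K := (MulAction.stabilizer S b).map S.subtype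
    haveI : Finite S' := Finite.of_surjective
      (fun s : MulAction.stabilizer S b => (⟨((s : S) : K), ⟨s, s.2, rfl⟩⟩ : S'))
      (fun ⟨p, q, hq, e⟩ => ⟨⟨q, hq⟩, Subtype.ext e⟩)
    have hFS : F ≤ S' := fun s hs => ⟨⟨s, hF hs⟩, hFfix s hs O (by simp) b rfl, rfl⟩
    have hrec : chainSize rest * Nat.card F ≤ Nat.card S' := by
      refine chain_fix_le rest (O.b :: bs) hrest S' (fun s hs hw => ?_) F hFS
        (fun s hs O' hO' u hu => hFfix s hs O' (by simp [hO']) u hu)
      obtain ⟨O', hO', w, hw', rfl⟩ := hw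
      have hmem : (w.map g).prod ∈ S :=
        hS _ (fun c hc u hu => hs c (by simp [hc]) u hu) ⟨O', by simp [hO'], w, hw', rfl⟩
      exact ⟨⟨_, hmem⟩, hs O.b (by simp) b rfl, rfl⟩
    have hcard : Nat.card S' = Nat.card (MulAction.stabilizer S b) :=
      Nat.card_congr (Subgroup.equivMapOfInjective _ _ S.subtype_injective).symm.toEquiv
    have hos : Nat.card (MulAction.orbit S b) * Nat.card (MulAction.stabilizer S b) = Nat.card S := by
      rw [← Nat.card_congr (MulAction.orbitProdStabilizerEquivGroup S b), Nat.card_prod]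
    rw [chainSize, List.map_cons, List.prod_cons, mul_assoc, ← hos]
    exact Nat.mul_le_mul hk (hcard ▸ hrec)

include hφ in
/-- with the order attained, only 1 fixes all base points -/
theorem eq_one_of_fix [Finite K] {L : List Orb} (hL : chainOK P.T P.ng P.n L [] = true)
    (hcard : Nat.card K ≤ chainSize L) {w : List ℕ} (hw : ∀ x ∈ w, x < P.ng)
    (hb : fixOK P.T P.ng [w] (L.map Orb.b) = true) : (w.map g).prod = 1 := by
  let F : Subgroup K := Subgroup.zpowers (w.map g).prod
  have hstab : ∀ O ∈ L, ∀ u : Fin P.n, (u : ℕ) = O.b → φ (w.map g).prod u = u := by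
    intro O hO u hu
    apply Fin.ext
    rw [ev_eq h g φ hφ hw, hu]
    exact Nat.eq_of_beq_eq_true (List.all_eq_true.mp (List.all_eq_true.mp hb w (List.mem_cons_self ..))
      O.b (List.mem_map.mpr ⟨O, hO, rfl⟩))
  have hle := chain_fix_le h g φ hφ L [] hL ⊤ (fun _ _ _ => trivial) F le_top (fun s hs O hO u hu => by
    obtain ⟨k, rfl⟩ := Subgroup.mem_zpowers_iff.mp hs
    rw [map_zpow]
    exact Equiv.Perm.zpow_apply_eq_self_of_apply_eq_self (hstab O hO u hu) k)
  rw [Nat.card_congr Subgroup.topEquiv.toEquiv] at hle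
  have hpos : 0 < chainSize L := lt_of_lt_of_le Nat.card_pos hcard
  have hF : Nat.card F = 1 := by
    have h1 : 0 < Nat.card F := Nat.card_pos
    by_contra hne
    have : chainSize L * 2 ≤ chainSize L * Nat.card F := Nat.mul_le_mul_left _ (by omega)
    omega
  have := Subgroup.eq_bot_iff_forall _ |>.mp (Subgroup.card_eq_one.mp hF) _ (Subgroup.mem_zpowers _)
  exact this

end

end Cfsg.Agent.Spor.CC
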