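import Cfsg.Agent.Lib.Spor.SuzG24Check
import Cfsg.Agent.S1059
import Cfsg.Agent.Lib.Spor.PermBig

/-!
The point stabiliser in Suz is the adjoint group of type G2 over the field with four elements.
-/

set_option autoImplicit false
set_option maxRecDepth 100000

namespace Cfsg.Agent.Spor.SuzCert.G24Act

open Cfsg.Agent.Spor.CC Cfsg.Agent.Spor.SpFour Matrix

/-- the stabiliser -/
abbrev Hsub : Subgroup pres.Grp := pres.wsub IdxG24.subW

theorem sub_eq_singles : Hsub = pres.sub [0, 1, 2, 3, 4, 5] := Pres.wsub_singles [0, 1, 2, 3, 4, 5]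

/-- the adjoint group -/
abbrev GG : Subgroup (GL I14 F4) := Cfsg.Lie.chevG2.group F4

theorem card_GG : Nat.card GG = 251596800 := by
  rw [show GG = Cfsg.Lie.chevG2.group F4 from rfl, Cfsg.Agent.S1059.result F4.card]
  norm_num

theorem finite_pres : Finite pres.Grp := order.1

theorem card_Hsub : Nat.card Hsub = 251596800 := by
  haveI := order.1
  have := Subgroup.card_mul_index Hsub
  rw [order.2.1, stab_eq.2] at this
  exact Nat.eq_of_mul_eq_mul_right (by norm_num : (0:ℕ) < 1782)
    (this.trans (by norm_num : (448345497600:ℕ) = 251596800 * 1782))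

/-- the embedding of the suborbit -/
def mu (j : Fin 1365) : Fin rep.P.n :=
  ⟨fld RepG24.sub1.pts 16 j, by
    have := all_range (p := embOK) emb_all (u := (j : ℕ)) (Nat.zero_le _) (by omega)
    simp only [embOK, Bool.and_eq_true] at this
    exact Nat.le_of_ble_eq_true this.1⟩

theorem mu_injective : Function.Injective mu := by
  intro a b e
  have hh : ∀ j : Fin 1365, fld RepG24.sub1.posn 16 (mu j : ℕ) = j := fun j => by
    have := all_range (p := embOK) emb_all (u := (j : ℕ)) (Nat.zero_le _) (by omega)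
    simp only [embOK, Bool.and_eq_true] at this
    exact Nat.eq_of_beq_eq_true this.2
  exact Fin.ext ((hh a).symm.trans
    ((congrArg (fun q : Fin rep.P.n => fld RepG24.sub1.posn 16 (q : ℕ)) e).trans (hh b)))

theorem mcode_inj {u v c d : ℕ} (hu : u < 1365) (hv : v < 1365) (hc : c < 3) (hd : d < 3)
    (e : mcode u c = mcode v d) : u = v ∧ c = d := by
  have key : ∀ k, k < 4095 → ∀ l, l < 4095 → fld multTab 32 k = fld multTab 32 l → k = l := by
    let f : ℕ → ℕ := fun i => fld multTab 32 (fld srtTab 16 i)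
    have hs : ∀ i, i < 4094 → f i < f (i + 1) := fun i hi => by
      have := all_range (p := srtOK) srt_all (u := i) (Nat.zero_le _) (by omega)
      simp only [srtOK, Bool.and_eq_true, Bool.or_eq_true] at this
      rcases this.2 with h | h
      · have := Nat.eq_of_beq_eq_true h; omega
      · exact Nat.le_of_ble_eq_true h
    have hlt : ∀ i j, i < j → j < 4095 → f i < f j := by
      intro i j hij hj
      induction j with
      | zero => omega
      | succ j ih =>
        rcases Nat.lt_succ_iff_lt_or_eq.mp hij with h | h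
        · exact (ih h (by omega)).trans (hs j (by omega))
        · subst h; exact hs i (by omega)
    intro k hk l hl e
    have hr : ∀ k, k < 4095 → fld rankTab 16 k < 4095 ∧ fld srtTab 16 (fld rankTab 16 k) = k := fun k hk => by
      have := all_range (p := rankOK) rank_all (u := k) (Nat.zero_le _) (by omega)
      simp only [rankOK, Bool.and_eq_true] at this
      exact ⟨Nat.le_of_ble_eq_true this.1, Nat.eq_of_beq_eq_true this.2⟩
    obtain ⟨a1, a2⟩ := hr k hk
    obtain ⟨b1, b2⟩ := hr l hl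
    rcases lt_trichotomy (fld rankTab 16 k) (fld rankTab 16 l) with h | h | h
    · have := hlt _ _ h b1
      simp only [f, a2, b2, e, lt_irrefl] at this
    · rw [← a2, ← b2, h]
    · have := hlt _ _ h a1
      simp only [f, a2, b2, e, lt_irrefl] at this
  have := key (3 * u + c) (by omega) (3 * v + d) (by omega) e
  omega

theorem mult_enc {j : ℕ} (hj : j < 1365) :
    encN (F4.i • ptV j) = mcode j 0 ∧ encN (F4.w • ptV j) = mcode j 1 ∧
      encN (F4.v • ptV j) = mcode j 2 ∧ F4.w • ptV j = vecN (mcode j 1) ∧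
      F4.v • ptV j = vecN (mcode j 2) := by
  have := mult_spec hj
  simp only [multOK, Bool.and_eq_true, decide_eq_true_eq] at this
  obtain ⟨⟨⟨⟨h1, h2⟩, h3⟩, h4⟩, h5⟩ := this
  exact ⟨Nat.eq_of_beq_eq_true h1, Nat.eq_of_beq_eq_true h2, Nat.eq_of_beq_eq_true h3, h4, h5⟩

theorem line_inj {u v : ℕ} (hu : u < 1365) (hv : v < 1365) {c : F4} (hc : c ≠ 0)
    (e : ptV v = c • ptV u) : v = u := by
  have hi : F4.i • ptV v = ptV v := one_smul F4 _
  obtain ⟨a1, a2, a3, -, -⟩ := mult_enc hu
  obtain ⟨b1, -, -, -, -⟩ := mult_enc hv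
  rw [hi, e] at b1
  have : ∃ k < 3, encN (c • ptV u) = mcode u k := by
    revert hc a1 a2 a3
    cases c <;> intro hc a1 a2 a3
    · exact absurd rfl hc
    · exact ⟨0, by norm_num, a1⟩
    · exact ⟨1, by norm_num, a2⟩
    · exact ⟨2, by norm_num, a3⟩
  obtain ⟨k, hk, he⟩ := this
  exact (mcode_inj hu hv hk (by norm_num : (0:ℕ) < 3) (he.symm.trans b1)).1.symm

/-- the two actions agree -/
def Match (p : pres.Grp × GL I14 F4) : Prop :=
  ∀ j : Fin 1365, ∃ j' : Fin 1365, ∃ c : F4, c ≠ 0 ∧
    rep.hom p.1 (mu j) = mu j' ∧ p.2.1 *ᵥ ptV j = c • ptV j'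

theorem match_gen (x : ℕ) (hx : x < 6) : Match (pres.gen x, imgEl x) := by
  intro j
  have h := List.all_eq_true.mp (act_spec j.2) x (List.mem_range.mpr hx)
  simp only [Bool.and_eq_true, List.any_eq_true] at h
  obtain ⟨⟨h1, h2⟩, k, hk, h3⟩ := h
  have hlt : hrows x j < 1365 := Nat.le_of_ble_eq_true h1
  have hx' : x < rep.P.ng := lt_of_lt_of_le hx (by decide +kernel)
  have hmove : rep.hom (pres.gen x) (mu j) = mu ⟨hrows x j, hlt⟩ := by
    apply Fin.ext
    rw [rep.hom_gen x hx', rep.P.perm_val rep.valid hx']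
    exact Nat.eq_of_beq_eq_true h2
  have hv : (imgEl x).1 *ᵥ ptV j = vecN (mcode (hrows x j) k) := by
    rw [ptV, imgEl_spec x hx, Nat.eq_of_beq_eq_true h3]
  obtain ⟨-, -, -, c1, c2⟩ := mult_enc hlt
  rw [List.mem_range] at hk
  interval_cases k
  · exact ⟨⟨_, hlt⟩, 1, one_ne_zero, hmove, by rw [hv, one_smul]; rfl⟩
  · exact ⟨⟨_, hlt⟩, F4.w, by decide, hmove, by rw [hv]; exact c1.symm⟩
  · exact ⟨⟨_, hlt⟩, F4.v, by decide, hmove, by rw [hv]; exact c2.symm⟩

/-- the generating pairs -/
def pairs : Set (pres.Grp × GL I14 F4) := {p | ∃ x, x < 6 ∧ p = (pres.gen x, imgEl x)}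

/-- the graph of the isomorphism -/
def Rel : Subgroup (pres.Grp × GL I14 F4) := Subgroup.closure pairs

theorem rel_fst : Rel.map (MonoidHom.fst pres.Grp (GL I14 F4)) = Hsub := by
  rw [Rel, MonoidHom.map_closure, sub_eq_singles, Pres.sub]
  congr 1
  ext s
  constructor
  · rintro ⟨_, ⟨x, hx, rfl⟩, rfl⟩
    exact ⟨x, by interval_cases x <;> decide, rfl⟩
  · rintro ⟨x, hx, rfl⟩
    have hx6 : x < 6 := by
      simp only [Set.mem_setOf_eq, List.mem_cons, List.not_mem_nil, or_false] at hx
      omega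
    exact ⟨_, ⟨x, hx6, rfl⟩, rfl⟩

theorem rel_snd : Rel ≤ Subgroup.comap (MonoidHom.snd pres.Grp (GL I14 F4)) GG :=
  (Subgroup.closure_le _).mpr fun p ⟨x, _, e⟩ => by subst e; exact imgEl_mem x

theorem rel_match (p : pres.Grp × GL I14 F4) (hp : p ∈ Rel) : Match p := by
  haveI := order.1
  rw [Rel, ← Subgroup.mem_toSubmonoid, Subgroup.closure_toSubmonoid_of_finite] at hp
  induction hp using Submonoid.closure_induction with
  | mem p hp =>
    obtain ⟨x, hx, rfl⟩ := hp
    exact match_gen x hx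
  | one =>
    intro j
    exact ⟨j, 1, one_ne_zero, by simp, by simp⟩
  | mul p q _ _ hp hq =>
    intro j
    obtain ⟨k, c, hc, h1, h2⟩ := hq j
    obtain ⟨l, d, hd, g1, g2⟩ := hp k
    refine ⟨l, c * d, mul_ne_zero hc hd, ?_, ?_⟩
    · rw [Prod.fst_mul, map_mul, Equiv.Perm.mul_apply, h1, g1]
    · rw [Prod.snd_mul, Units.val_mul, ← Matrix.mulVec_mulVec, h2, Matrix.mulVec_smul, g2, smul_smul]

theorem eq_one_of_trivial (p : pres.Grp × GL I14 F4) (hp : p ∈ Rel) (h : p.2 = 1) : p.1 = 1 := by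
  haveI := order.1
  have hfix : ∀ j : Fin 1365, rep.hom p.1 (mu j) = mu j := by
    intro j
    obtain ⟨k, c, hc, h1, h2⟩ := rel_match p hp j
    rw [h, Units.val_one, Matrix.one_mulVec] at h2
    rwa [← Fin.ext (line_inj k.2 j.2 hc h2)] at h1
  have hz : rep.hom p.1 rep.z = rep.z := by
    have : p.1 ∈ Hsub := rel_fst ▸ Subgroup.mem_map_of_mem _ hp
    rwa [show Hsub = stab rep.hom rep.z from stab_eq.1, mem_stab] at this
  have hbase : ∀ O ∈ RepG24.levels, ∀ u : Fin rep.P.n, (u : ℕ) = O.b → rep.hom p.1 u = u := by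
    intro O hO u hu
    have := List.all_eq_true.mp bases_ok O.b (List.mem_map.mpr ⟨O, hO, rfl⟩)
    simp only [Bool.or_eq_true, Bool.and_eq_true] at this
    rcases this with h0 | ⟨hl, he⟩
    · rw [show u = rep.z from Fin.ext (hu.trans (Nat.eq_of_beq_eq_true h0))]
      exact hz
    · rw [show u = mu ⟨_, Nat.le_of_ble_eq_true hl⟩ from
        Fin.ext (hu.trans (Nat.eq_of_beq_eq_true he).symm)]
      exact hfix _
  have hle := chain_fix_le rep.valid pres.gen rep.hom rep.hom_gen RepG24.levels [] RepG24.chain_ok ⊤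
    (fun _ _ _ => trivial) (Subgroup.zpowers p.1) le_top (fun s hs O hO u hu => by
      obtain ⟨k, rfl⟩ := Subgroup.mem_zpowers_iff.mp hs
      rw [map_zpow]
      exact Equiv.Perm.zpow_apply_eq_self_of_apply_eq_self (hbase O hO u hu) k)
  rw [Nat.card_congr Subgroup.topEquiv.toEquiv, RepG24.chain_size, order.2.1] at hle
  have hF : Nat.card (Subgroup.zpowers p.1) = 1 := by
    have h0 : 0 < Nat.card (Subgroup.zpowers p.1) := Nat.card_pos
    have h1 : Nat.card (Subgroup.zpowers p.1) ≤ 1 :=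
      Nat.le_of_mul_le_mul_left (by rwa [mul_one]) (by norm_num : 0 < 448345497600)
    omega
  exact Subgroup.eq_bot_iff_forall _ |>.mp (Subgroup.card_eq_one.mp hF) _ (Subgroup.mem_zpowers _)

/-- the first projection -/
def toH : Rel →* Hsub where
  toFun p := ⟨(p : pres.Grp × GL I14 F4).1, rel_fst ▸ Subgroup.mem_map_of_mem _ p.2⟩
  map_one' := rfl
  map_mul' _ _ := rfl

/-- the second projection -/
def toG : Rel →* GG where
  toFun p := ⟨(p : pres.Grp × GL I14 F4).2, rel_snd p.2⟩
  map_one' := rfl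
  map_mul' _ _ := rfl

theorem toH_surjective : Function.Surjective toH := by
  rintro ⟨s, hs⟩
  rw [← rel_fst] at hs
  obtain ⟨p, hp, rfl⟩ := hs
  exact ⟨⟨p, hp⟩, rfl⟩

theorem toG_injective : Function.Injective toG := by
  rw [injective_iff_map_eq_one]
  rintro ⟨p, hp⟩ h
  have h2 : p.2 = 1 := congrArg Subtype.val h
  exact Subtype.ext (Prod.ext (eq_one_of_trivial p hp h2) h2)

theorem hsub_equiv : Nonempty (Hsub ≃* GG) := by
  haveI := order.1
  haveI : Finite Rel := Finite.of_injective toG toG_injective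
  have h1 : Nat.card Hsub ≤ Nat.card Rel := Nat.card_le_card_of_surjective _ toH_surjective
  have h2 : Nat.card Rel ≤ Nat.card GG := Nat.card_le_card_of_injective _ toG_injective
  rw [card_GG] at h2
  rw [card_Hsub] at h1
  have hH : Function.Bijective toH :=
    toH_surjective.bijective_of_nat_card_le (by rw [card_Hsub]; exact h2)
  have hG : Function.Bijective toG :=
    toG_injective.bijective_of_nat_card_le (by rw [card_GG]; exact h1)
  exact ⟨(MulEquiv.ofBijective toH hH).symm.trans (MulEquiv.ofBijective toG hG)⟩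

end Cfsg.Agent.Spor.SuzCert.G24Act
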