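import Cfsg.Agent.Lib.Local.FS.MathieuPerms
import Cfsg.Agent.Lib.Solv.StabCocycle

/-!
Words in permutations of the twenty-four points read on image lists, and lower bounds for the order of a
generated subgroup through a chain of point stabilisers.
-/

set_option autoImplicit false

namespace Cfsg.Agent.Spor.WordChain

open Cfsg Cfsg.Agent.Local.FS.Mathieu Cfsg.Agent.Solv.StabCocycle

/-- Composition of image lists. -/
def lmul (l m : List ℕ) : List ℕ := m.map fun i => l.getD i 0

/-- A word in image lists, first letter first applied. -/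
def lword (g : List (List ℕ)) : List ℕ → List ℕ
  | [] => List.range 24
  | j :: w => lmul (lword g w) (g.getD j [])

theorem lst_lmul (σ τ : Equiv.Perm GolayPt) : lst (σ * τ) = lmul (lst σ) (lst τ) := by
  rw [lmul]
  simp only [lst, List.map_map]
  refine List.map_congr_left fun i _ => ?_
  simp [List.getD_eq_getElem?_getD, Cfsg.Agent.Spor.idx_lt, Cfsg.Agent.Spor.pt_idx]

theorem lst_one : lst (1 : Equiv.Perm GolayPt) = List.range 24 := by
  refine (List.map_congr_left fun i hi => ?_).trans (List.map_id _)
  simp [Cfsg.Agent.Spor.idx_pt i (List.mem_range.mp hi)]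

theorem lst_injective {σ τ : Equiv.Perm GolayPt} (h : lst σ = lst τ) : σ = τ := by
  refine Equiv.ext fun p => Cfsg.Agent.Spor.idx_injective ?_
  rw [← rep_lst σ p, ← rep_lst τ p, h]

theorem lst_word (A : ℕ → Equiv.Perm GolayPt) (g : List (List ℕ)) :
    ∀ w : List ℕ, (∀ j ∈ w, g.getD j [] = lst (A j)) → lst (evalW A w) = lword g w
  | [], _ => lst_one
  | j :: w, h => by
    rw [evalW, lst_lmul, lst_word A g w fun k hk => h k (List.mem_cons_of_mem j hk), lword, h j List.mem_cons_self]

theorem lst_perm_getD (σ : Equiv.Perm GolayPt) {i : ℕ} (hi : i < 24) :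
    σ (pt i) = pt ((lst σ).getD i 0) := by
  simp [lst, List.getD_eq_getElem?_getD, hi, Cfsg.Agent.Spor.pt_idx]

/-- One level: the base point, the generators as words in those of the previous level with their image lists, and
the orbit as triples point, index of the parent, generator. -/
structure Lev where
  b : ℕ
  words : List (List ℕ)
  gens : List (List ℕ)
  orb : List (ℕ × ℕ × ℕ)

/-- The orbit of the base point of a level. -/
def orbOK (L : Lev) : Bool :=
  decide ((L.orb.map Prod.fst).Nodup ∧ L.b < 24) &&
    (List.range L.orb.length).all fun i =>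
      decide ((L.orb.getD i (0, 0, 0)).1 < 24) &&
        (if i = 0 then Nat.beq (L.orb.getD i (0, 0, 0)).1 L.b else
          decide ((L.orb.getD i (0, 0, 0)).2.1 < i ∧ (L.orb.getD i (0, 0, 0)).2.2 < L.gens.length) &&
          Nat.beq ((L.gens.getD (L.orb.getD i (0, 0, 0)).2.2 []).getD
            (L.orb.getD (L.orb.getD i (0, 0, 0)).2.1 (0, 0, 0)).1 0) (L.orb.getD i (0, 0, 0)).1)

/-- The chain below some generators and fixed points. -/
def chainOK (prev : List (List ℕ)) : List Lev → List ℕ → Bool
  | [], _ => true
  | L :: rest, fixed =>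
    (L.words.map (lword prev) == L.gens) &&
      (L.words.all fun w => w.all fun j => Nat.blt j prev.length) &&
      (L.gens.all fun g => fixed.all fun b => Nat.beq (g.getD b 0) b) && orbOK L &&
      chainOK L.gens rest (L.b :: fixed)

/-- The product of the orbit lengths. -/
def chainSize (L : List Lev) : ℕ := (L.map fun l => l.orb.length).prod

theorem chain_card : ∀ (Ls : List Lev) (prev : List (List ℕ)) (fixed : List ℕ), chainOK prev Ls fixed = true →
    (∀ b ∈ fixed, b < 24) → ∀ (K : Subgroup (Equiv.Perm GolayPt)),
      (∀ σ, (∀ b ∈ fixed, σ (pt b) = pt b) →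
        (∃ A : ℕ → Equiv.Perm GolayPt, (∀ j < prev.length, prev.getD j [] = lst (A j)) ∧
          ∃ w, (∀ j ∈ w, j < prev.length) ∧ σ = evalW A w) → σ ∈ K) →
      (∃ A : ℕ → Equiv.Perm GolayPt, ∀ j < prev.length, prev.getD j [] = lst (A j)) →
      chainSize Ls ≤ Nat.card K
  | [], _, _, _, _, K, _, _ => by simpa [chainSize] using Nat.one_le_iff_ne_zero.mpr Nat.card_pos.ne'
  | L :: rest, prev, fixed, h, hfixed, K, hK, ⟨A, hA⟩ => by
    simp only [chainOK, Bool.and_eq_true, beq_iff_eq, List.all_eq_true, Nat.blt_eq, Nat.beq_eq] at h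
    obtain ⟨⟨⟨⟨hw, hwlt⟩, hfix⟩, horb⟩, hrest⟩ := h
    obtain ⟨B, hB⟩ : ∃ B : ℕ → Equiv.Perm GolayPt, ∀ j, B j = evalW A (L.words.getD j []) := ⟨_, fun _ => rfl⟩
    have hlen : L.gens.length = L.words.length := by rw [← hw, List.length_map]
    have hBl : ∀ j < L.gens.length, L.gens.getD j [] = lst (B j) := fun j hj => by
      have hj' : j < L.words.length := hlen ▸ hj
      rw [hB, lst_word A prev _ fun k hk => hA k (hwlt _ (by
        rw [List.getD_eq_getElem _ _ hj'] at hk ⊢; exact List.getElem_mem hj') k hk)]
      simp only [← hw, List.getD_eq_getElem?_getD, List.getElem?_map, List.getElem?_eq_getElem hj']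
      rfl
    have hBK : ∀ j < L.gens.length, B j ∈ K := fun j hj => by
      have hj' : j < L.words.length := hlen ▸ hj
      refine hK _ (fun b hb => ?_) ⟨A, hA, _, hwlt _ (by
        rw [List.getD_eq_getElem _ _ hj']; exact List.getElem_mem hj'), hB j⟩
      rw [lst_perm_getD _ (hfixed b hb), ← hBl j hj, hfix _ (by
        rw [List.getD_eq_getElem _ _ hj]; exact List.getElem_mem hj) b hb]
    simp only [orbOK, Bool.and_eq_true, decide_eq_true_eq, List.all_eq_true, List.mem_range] at horb
    obtain ⟨⟨hnd, hb24⟩, horb⟩ := horb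
    have hreach : ∀ i < L.orb.length, pt (L.orb.getD i (0, 0, 0)).1 ∈ MulAction.orbit K (pt L.b) := by
      intro i
      induction i using Nat.strong_induction_on with
      | _ i ih =>
        intro hi
        have h := (horb i hi).2
        by_cases hi0 : i = 0
        · rw [if_pos hi0, Nat.beq_eq] at h
          rw [h]
          exact MulAction.mem_orbit_self _
        · rw [if_neg hi0] at h
          simp only [Bool.and_eq_true, decide_eq_true_eq, Nat.beq_eq] at h
          obtain ⟨⟨hp, hg⟩, he⟩ := h
          rw [← he, hBl _ hg, ← lst_perm_getD _ (horb _ (by omega)).1]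
          exact MulAction.mem_orbit_of_mem_orbit (⟨B _, hBK _ hg⟩ : K) (ih _ hp (by omega))
    have hO : L.orb.length ≤ Nat.card (MulAction.orbit K (pt L.b)) := by
      let f : Fin L.orb.length → MulAction.orbit K (pt L.b) := fun i =>
        ⟨pt (L.orb.getD i (0, 0, 0)).1, hreach i i.2⟩
      have hf : Function.Injective f := fun i j e => by
        have h' := congrArg (fun q : MulAction.orbit K (pt L.b) => Cfsg.Agent.Spor.idx q.1) e
        simp only [f] at h'
        rw [Cfsg.Agent.Spor.idx_pt _ (horb i i.2).1, Cfsg.Agent.Spor.idx_pt _ (horb j j.2).1,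
          List.getD_eq_getElem _ _ i.2, List.getD_eq_getElem _ _ j.2] at h'
        refine Fin.ext ((List.Nodup.getElem_inj_iff hnd (i := (i : ℕ)) (j := (j : ℕ))
          (hi := by simp) (hj := by simp)).mp ?_)
        simpa using h'
      simpa using Nat.card_le_card_of_injective f hf
    have hS : chainSize rest ≤ Nat.card (MulAction.stabilizer K (pt L.b)) := by
      rw [← Subgroup.card_map_of_injective (K.subtype_injective)]
      refine chain_card rest L.gens (L.b :: fixed) hrest (fun b hb => ?_) _ (fun σ hσ h => ?_) ⟨B, hBl⟩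
      · rcases List.mem_cons.mp hb with rfl | hb
        exacts [hb24, hfixed b hb]
      · obtain ⟨B', hB', w, hw', rfl⟩ := h
        have hmem : evalW B' w ∈ K := by
          have key : ∀ w : List ℕ, (∀ j ∈ w, j < L.gens.length) → evalW B' w ∈ K := by
            intro w
            induction w with
            | nil => exact fun _ => one_mem K
            | cons j w ih =>
              intro hw
              rw [evalW, show B' j = B j from lst_injective (by
                rw [← hB' j (hw j List.mem_cons_self), hBl j (hw j List.mem_cons_self)])]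
              exact mul_mem (ih fun k hk => hw k (List.mem_cons_of_mem j hk)) (hBK j (hw j List.mem_cons_self))
          exact key w hw'
        exact ⟨⟨_, hmem⟩, hσ L.b List.mem_cons_self, rfl⟩
    rw [chainSize, List.map_cons, List.prod_cons, ← Nat.card_congr (MulAction.orbitProdStabilizerEquivGroup K (pt L.b)),
      Nat.card_prod]
    exact Nat.mul_le_mul hO hS

/-- A pair generates a subgroup of given order. -/
theorem closure_pair_eq {H : Subgroup (Equiv.Perm GolayPt)} (a : ℕ → Equiv.Perm GolayPt) (h0 : a 0 ∈ H)
    (h1 : a 1 ∈ H) {N : ℕ} (hN : Nat.card H = N) (Ls : List Lev)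
    (h : chainOK [lst (a 0), lst (a 1)] Ls [] = true) (hs : N ≤ chainSize Ls) :
    Subgroup.closure ({⟨a 0, h0⟩, ⟨a 1, h1⟩} : Set H) = ⊤ := by
  refine Subgroup.eq_top_of_le_card _ ?_
  rw [hN, ← Subgroup.card_map_of_injective (H.subtype_injective), MonoidHom.map_closure, Set.image_pair]
  refine le_trans hs (chain_card Ls _ [] h (fun b hb => by simp at hb) _ (fun σ hfx hσ => ?_) ⟨a, fun j hj => ?_⟩)
  · clear hfx
    obtain ⟨A, hA, w, hw, rfl⟩ := hσ
    induction w with
    | nil => exact one_mem _
    | cons j w ih =>
      rw [evalW]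
      refine mul_mem (ih fun k hk => hw k (List.mem_cons_of_mem j hk)) (Subgroup.subset_closure ?_)
      have hj := hw j List.mem_cons_self
      have e := hA j hj
      simp only [List.length_cons, List.length_nil] at hj
      rcases (show j = 0 ∨ j = 1 by omega) with rfl | rfl
      · exact Or.inl (lst_injective e).symm
      · exact Or.inr (lst_injective e).symm
  · simp only [List.length_cons, List.length_nil] at hj
    rcases (show j = 0 ∨ j = 1 by omega) with rfl | rfl <;> rfl

end Cfsg.Agent.Spor.WordChain
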