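/-
An involution without fixed points on the hundred minimal vectors of the Higman-Sims configuration:
the conjugating word and the traces.
-/
import Cfsg.Agent.Lib.Spor.CrossWordData

set_option autoImplicit false

namespace Cfsg.Agent.Spor

/-- the conjugating word -/
def hsWord : List LOp :=
  [.xiO, .sgO 14084289, .plO [16, 3, 12, 1, 22, 10, 14, 18, 11, 23, 5, 8, 2, 19, 6, 17, 0, 15, 7, 13, 21, 20, 4, 9], .xiO, .sgO 15772190, .plO [0, 20, 22, 23, 4, 13, 21, 8, 7, 14, 10, 11, 12, 5, 9, 16, 15, 17, 18, 19, 1, 6, 2, 3]]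

/-- the monomial involution -/
def hsMono : List LOp :=
  [.sgO 2150610, .plO [2, 4, 0, 10, 1, 13, 21, 12, 17, 16, 3, 20, 7, 5, 15, 14, 9, 8, 23, 22, 11, 6, 19, 18]]

/-- traces of the two fixed vectors -/
def hsFrame : List (List (List ℤ)) := [
  [[0, -2, 0, 2, 2, 0, 0, 0, 2, -2, 2, 0, 0, 0, -2, 2, -2, 2, 0, 2, 0, 0, 2, 0],
    [0, -2, 0, 2, 0, 0, 0, 2, 0, 2, 0, 0, 2, 0, 2, 0, 4, -2, 0, 0, 0, 0, -2, 0],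
    [0, -2, 0, 2, 0, 0, 0, -2, 0, 2, 0, 0, 2, 0, -2, 0, 4, 2, 0, 0, 0, 0, 2, 0],
    [4, 2, 2, -2, 2, 0, -2, 0, 0, 0, 0, 0, 0, 0, 0, 2, 0, 0, -2, 0, 0, 0, 0, 2],
    [1, -1, -1, -5, -1, 1, 1, 1, 1, -1, 1, -1, 1, -1, 1, -1, 1, 1, 1, 1, -1, -1, -1, -1],
    [1, 1, 1, 5, 1, 1, 1, 1, 1, 1, 1, 1, 1, 1, 1, 1, 1, 1, 1, 1, 1, 1, 1, 1],
    [1, 1, 1, 1, 1, 1, 1, 1, 1, 1, 1, 1, 1, 1, 1, 1, 1, 1, 1, 1, 1, 1, 1, 5]],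
  [[2, 2, 2, -2, -2, 0, 0, -2, 0, 0, -2, 0, 2, 0, 0, 0, 0, 0, 0, 0, 0, 0, 0, 0],
    [0, 0, 0, -4, 0, 0, 0, 0, 0, 0, 0, 0, -4, 0, 0, 0, 0, 0, 0, 0, 0, 0, 0, 0],
    [0, 0, 0, -4, 0, 0, 0, 0, 0, 0, 0, 0, -4, 0, 0, 0, 0, 0, 0, 0, 0, 0, 0, 0],
    [0, -4, -4, 0, 0, 0, 0, 0, 0, 0, 0, 0, 0, 0, 0, 0, 0, 0, 0, 0, 0, 0, 0, 0],
    [4, 0, 0, 4, 0, 0, 0, 0, 0, 0, 0, 0, 0, 0, 0, 0, 0, 0, 0, 0, 0, 0, 0, 0],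
    [4, 0, 0, -4, 0, 0, 0, 0, 0, 0, 0, 0, 0, 0, 0, 0, 0, 0, 0, 0, 0, 0, 0, 0],
    [4, 0, 0, 0, 0, 0, 0, 0, 0, 0, 0, 0, 0, 0, 0, 0, 0, 0, 0, 0, 0, 0, 0, -4]]]

/-- traces of the members -/
def hsTraces0 : List (List (List ℤ)) := [
  [[2, -2, 2, 2, 0, 0, 0, 0, 2, 0, 0, 0, 0, 0, 0, 2, -2, 0, 0, 2, 0, 0, 0, 0],
    [0, -4, 0, 0, 0, 0, 0, 0, 0, 0, 0, 0, 0, 0, 0, 0, 4, 0, 0, 0, 0, 0, 0, 0],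
    [0, -4, 0, 0, 0, 0, 0, 0, 0, 0, 0, 0, 0, 0, 0, 0, 4, 0, 0, 0, 0, 0, 0, 0],
    [4, 0, 0, -4, 0, 0, 0, 0, 0, 0, 0, 0, 0, 0, 0, 0, 0, 0, 0, 0, 0, 0, 0, 0],
    [4, 0, 0, -4, 0, 0, 0, 0, 0, 0, 0, 0, 0, 0, 0, 0, 0, 0, 0, 0, 0, 0, 0, 0],
    [4, 0, 0, 4, 0, 0, 0, 0, 0, 0, 0, 0, 0, 0, 0, 0, 0, 0, 0, 0, 0, 0, 0, 0],
    [4, 0, 0, 0, 0, 0, 0, 0, 0, 0, 0, 0, 0, 0, 0, 0, 0, 0, 0, 0, 0, 0, 0, 4]],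
  [[2, 0, 2, 0, 2, 0, 0, 0, 0, -2, 2, 0, 0, 0, -2, 0, 0, 2, 0, 0, 0, 0, 2, 0],
    [0, -2, 0, -2, 0, 0, 0, 2, 0, 2, 0, 0, 2, 0, 2, 0, 0, -2, 0, 0, 0, 0, -2, 0],
    [0, -2, 0, -2, 0, 0, 0, -2, 0, 2, 0, 0, 2, 0, -2, 0, 0, 2, 0, 0, 0, 0, 2, 0],
    [0, -2, 2, -2, 2, 0, -2, 0, 0, 0, 0, 0, 0, 0, 0, 2, 0, 0, -2, 0, 0, 0, 0, 2],
    [1, -1, 3, -1, -1, 1, 1, 1, 1, -1, 1, -1, 1, -1, 1, -1, 1, 1, 1, 1, -1, -1, -1, -1],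
    [1, 1, -3, 1, 1, 1, 1, 1, 1, 1, 1, 1, 1, 1, 1, 1, 1, 1, 1, 1, 1, 1, 1, 1],
    [1, 1, 1, 1, 1, 1, 1, 1, 1, 1, 1, 1, 1, 1, 1, 1, 1, 1, 1, 1, 1, 1, -3, 1]],
  [[0, 0, 0, 0, 0, 0, 0, 0, 2, -2, 0, 0, 0, -2, -2, 2, 0, 2, -2, 0, 0, 0, 2, 0],
    [0, 0, 0, 0, 0, 0, 0, 0, 0, 2, 0, 0, 0, 0, 2, 0, 2, -2, 0, 2, -2, -2, -2, 0],
    [0, 0, 0, 0, 0, 0, 0, 0, 0, 2, 0, 0, 0, 0, -2, 0, 2, 2, 0, 2, 2, -2, 2, 0],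
    [2, 0, 0, 0, 2, 0, -2, 0, 0, 0, 0, 0, 0, 2, 0, 2, 0, 0, 0, 0, -2, 2, 0, 2],
    [1, -1, -1, -1, -1, 1, 1, 1, 1, -1, 1, -1, 1, -1, 1, -1, 1, 1, 1, 1, 3, -1, -1, -1],
    [1, 1, 1, 1, 1, 1, 1, 1, 1, 1, 1, 1, 1, 1, 1, 1, 1, 1, 1, 1, -3, 1, 1, 1],
    [1, -3, 1, 1, 1, 1, 1, 1, 1, 1, 1, 1, 1, 1, 1, 1, 1, 1, 1, 1, 1, 1, 1, 1]],
  [[0, 0, 0, 0, 0, -2, 0, 0, 2, 0, 0, 0, 0, 0, -2, 2, -2, 2, 0, 2, 0, 0, 0, -2],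
    [0, 0, 0, 0, 0, 0, 0, 0, 0, 0, 0, 0, 0, 0, 0, 0, 4, -4, 0, 0, 0, 0, 0, 0],
    [0, 0, 0, 0, 0, 0, 0, 0, 0, 0, 0, 0, 0, 0, 0, 0, 4, 4, 0, 0, 0, 0, 0, 0],
    [4, 0, 0, 0, 0, 0, 0, 0, 0, 0, 0, 0, 0, 0, 0, 4, 0, 0, 0, 0, 0, 0, 0, 0],
    [2, -2, -2, -2, 0, 0, 0, 0, 2, 0, 0, 0, 0, 0, 0, -2, 2, 0, 0, 2, 0, 0, 0, 0],
    [2, 2, 2, 2, 0, 0, 0, 0, 2, 0, 0, 0, 0, 0, 0, 2, 2, 0, 0, 2, 0, 0, 0, 0],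
    [2, 0, 0, 0, 0, 0, 0, 2, 0, 0, 0, 0, 0, 0, 0, 2, 2, 0, 0, 2, 2, 0, 2, 2]],
  [[1, -1, 1, 1, 1, -1, 1, -1, 1, -3, 1, 1, 1, 1, -1, 1, -1, 1, 1, 1, 1, -1, -1, -1],
    [0, -2, 0, 0, 0, 0, -2, 2, 0, 2, 0, -2, 0, 0, 0, 0, 2, -2, 0, 0, 0, 2, 0, 0],
    [0, -2, 0, 0, 0, 0, 2, -2, 0, 2, 0, 2, 0, 0, 0, 0, 2, 2, 0, 0, 0, 2, 0, 0],
    [2, 0, 0, -2, 0, 0, 0, 0, 2, 0, 0, 0, 0, 0, 2, 2, 0, 0, -2, 0, 2, 0, 0, 2],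
    [2, 0, 0, -2, 0, 2, 0, 0, 0, 0, 0, 0, 0, 0, 0, 0, 2, 2, 2, 2, -2, 0, 0, 0],
    [2, 0, 0, 2, 0, 2, 0, 0, 0, 0, 0, 0, 0, 0, 0, 0, 2, 2, 2, 2, 2, 0, 0, 0],
    [2, 2, 0, 0, 0, 0, 0, 0, 0, 0, 0, 0, 0, 2, 0, 2, 0, 2, 2, 2, 0, 0, 0, 2]],
  [[1, -1, 1, 1, -1, -1, 1, -1, 1, -1, 1, 1, -1, -1, -3, 1, -1, 1, 1, 1, 1, 1, 1, 1],
    [0, -2, 0, 0, 0, 0, 0, 0, 0, 2, -2, 0, 0, 2, 2, 0, 2, -2, 0, 0, 0, 0, 0, -2],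
    [0, -2, 0, 0, 0, 0, 0, 0, 0, 2, -2, 0, 0, -2, -2, 0, 2, 2, 0, 0, 0, 0, 0, 2],
    [2, 0, 0, -2, 0, -2, -2, 0, 0, 2, 0, 0, 0, 0, 0, 2, 0, 0, 0, -2, 0, 0, 0, 2],
    [2, 0, 0, -2, 0, 2, 2, 0, 0, -2, 0, 0, 0, 0, 0, -2, 0, 0, 0, 2, 0, 0, 0, -2],
    [2, 0, 0, 2, 0, 2, 2, 0, 0, 2, 0, 0, 0, 0, 0, 2, 0, 0, 0, 2, 0, 0, 0, 2],
    [2, 0, 0, 2, 0, 0, 0, 0, 0, 0, 0, 0, 0, 2, 2, 0, 2, 0, 0, 2, 0, 2, 0, 2]],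
  [[1, -1, -1, 1, -1, 1, 1, -1, 1, -1, 1, -1, 1, 1, -1, 1, -3, 1, 1, 1, 1, 1, 1, -1],
    [1, -1, -1, 1, 1, -1, -1, 1, -1, 1, -1, 1, -1, 1, 1, -1, 3, -1, 1, -1, 1, 1, -1, 1],
    [-1, -1, -1, 1, 1, -1, 1, -1, -1, 1, -1, -1, -1, -1, -1, 1, 3, 1, -1, -1, -1, 1, 1, -1],
    [3, 1, -1, -1, 1, -1, -1, -1, -1, -1, -1, -1, -1, -1, 1, 1, -1, 1, -1, -1, 1, -1, 1, 1],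
    [2, 0, -2, -2, -2, 2, 0, 0, 0, 0, 0, 0, 0, 0, 0, -2, 0, 0, 0, 0, -2, 0, -2, 0],
    [2, 0, 2, 2, 2, 2, 0, 0, 0, 0, 0, 0, 0, 0, 0, 2, 0, 0, 0, 0, 2, 0, 2, 0],
    [2, 2, 2, 0, 2, 0, 0, 0, 0, 0, 0, 0, 0, 2, 0, 0, 2, 0, 0, 0, 0, 0, 2, 2]],
  [[2, -2, 0, 0, 0, 0, 0, 0, 2, 0, 2, 0, 2, 0, -2, 2, 0, 2, 0, 0, 0, 0, 0, 0],
    [2, -2, 0, 0, 2, 0, 0, 2, 0, 0, 0, 0, 0, 0, 2, 0, 2, -2, 0, 2, 0, 0, 0, 0],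
    [-2, -2, 0, 0, 2, 0, 0, -2, 0, 0, 0, 0, 0, 0, -2, 0, 2, 2, 0, 2, 0, 0, 0, 0],
    [2, 0, 0, -2, 0, 0, -2, 0, 0, 0, 0, 0, 0, 2, 0, 2, -2, 0, -2, 0, 0, 0, 2, 0],
    [2, 0, 0, -2, 0, 0, 2, 0, 0, 0, 0, 0, 0, -2, 0, -2, 2, 0, 2, 0, 0, 0, -2, 0],
    [2, 0, 0, 2, 0, 0, 2, 0, 0, 0, 0, 0, 0, 2, 0, 2, 2, 0, 2, 0, 0, 0, 2, 0],
    [2, 0, 2, 0, 0, 2, 0, 0, 0, 0, 0, 0, 0, 0, 0, 2, 2, 0, 2, 0, 0, 2, 0, 2]],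
  [[1, -1, 1, 1, 1, 1, 1, -1, 3, -1, 1, 1, 1, 1, -1, -1, -1, 1, 1, 1, -1, 1, 1, 1],
    [0, -2, 0, 0, 0, 0, 0, 2, -2, 2, 0, 0, 0, 0, 2, 2, 2, 0, 0, 0, 2, 0, 0, 0],
    [0, -2, 0, 0, 0, 0, 0, -2, -2, 2, 0, 0, 0, 0, -2, -2, 2, 0, 0, 0, -2, 0, 0, 0],
    [2, 0, 0, -2, 0, 0, -2, 0, 0, 0, 0, -2, 0, 0, 0, 0, 0, -2, -2, 0, 0, -2, 0, 2],
    [2, 0, 0, -2, 0, 0, 0, 0, 0, -2, 0, 0, 0, -2, 0, 0, 0, 2, 0, 0, -2, 0, -2, -2],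
    [2, 0, 0, 2, 0, 0, 0, 0, 0, 2, 0, 0, 0, 2, 0, 0, 0, 2, 0, 0, 2, 0, 2, 2],
    [2, 2, 2, 2, 0, 2, 0, 0, 0, 0, 0, 0, 0, 0, 2, 0, 0, 2, 0, 0, 0, 0, 0, 2]],
  [[0, 0, 0, 2, 0, 0, 0, 0, 2, -2, 0, 0, 2, 0, -2, 2, 0, 0, 0, 2, 0, 2, 0, 0],
    [-1, -1, -1, 1, 1, -1, -1, 1, 1, 1, 1, -1, -1, 1, 1, 1, 3, -1, 1, 1, 1, -1, -1, -1],
    [1, -1, -1, 1, 1, -1, 1, -1, 1, 1, 1, 1, -1, -1, -1, -1, 3, 1, -1, 1, -1, -1, 1, 1],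
    [3, 1, -1, -1, 1, 1, -1, -1, 1, 1, -1, 1, -1, 1, 1, 1, 1, -1, -1, -1, -1, -1, 1, 1],
    [2, 0, -2, -2, -2, 0, 2, 0, 0, 0, 0, 0, 0, -2, 0, 0, 0, 2, 0, 2, 0, 0, 0, 0],
    [2, 0, 2, 2, 2, 0, 2, 0, 0, 0, 0, 0, 0, 2, 0, 0, 0, 2, 0, 2, 0, 0, 0, 0],
    [2, 0, 0, 0, 2, 2, 0, 0, 0, 0, 0, 0, 0, 0, 0, 0, 0, 2, 0, 2, 0, 2, 2, 2]],
  [[2, 0, 0, 0, 0, 0, 0, 0, 0, -2, 2, 0, 0, 0, -2, 2, -2, 0, -2, 2, 0, 0, 0, 0],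
    [1, -1, -1, -1, 1, -1, -1, 1, 1, 1, -1, -1, 1, -1, 1, -1, 3, -1, 1, -1, -1, -1, -1, -1],
    [-1, -1, -1, -1, 1, -1, 1, -1, 1, 1, -1, 1, 1, 1, -1, 1, 3, 1, -1, -1, 1, -1, 1, 1],
    [3, -1, 1, -1, 1, -1, -1, -1, 1, 1, -1, 1, -1, -1, 1, 1, -1, 1, -1, 1, -1, 1, 1, 1],
    [2, -2, 0, -2, -2, 2, 2, 0, 0, 0, 0, 0, 0, 0, 0, 0, 2, 0, 0, 0, 0, -2, 0, 0],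
    [2, 2, 0, 2, 2, 2, 2, 0, 0, 0, 0, 0, 0, 0, 0, 0, 2, 0, 0, 0, 0, 2, 0, 0],
    [2, 0, 0, 0, 2, 0, 2, 0, 0, 0, 0, 0, 0, 2, 0, 2, 0, 0, 0, 0, 2, 2, 0, 2]],
  [[0, 0, 0, 0, 2, 0, 0, -2, 2, 0, 2, 0, 2, 0, 0, 2, -2, 0, 0, 2, 0, 0, 0, 0],
    [0, 0, 0, 0, 0, 0, 0, 4, 0, 0, 0, 0, 0, 0, 0, 0, 4, 0, 0, 0, 0, 0, 0, 0],
    [0, 0, 0, 0, 0, 0, 0, -4, 0, 0, 0, 0, 0, 0, 0, 0, 4, 0, 0, 0, 0, 0, 0, 0],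
    [4, 0, 0, 0, 0, 0, 0, 0, 0, 0, 0, 0, 0, 0, 0, 0, 0, 0, -4, 0, 0, 0, 0, 0],
    [2, -2, -2, -2, 0, 0, 0, 0, 0, 0, 0, 0, 0, -2, 0, 0, 0, 0, 2, 0, -2, -2, 0, 0],
    [2, 2, 2, 2, 0, 0, 0, 0, 0, 0, 0, 0, 0, 2, 0, 0, 0, 0, 2, 0, 2, 2, 0, 0],
    [2, 2, 0, 0, 0, 2, 2, 0, 0, 0, 0, 0, 0, 0, 0, 0, 0, 0, 2, 0, 2, 0, 2, 2]],
  [[1, 1, 1, 1, 1, 1, 1, 1, 3, -1, 1, -1, 1, 1, -1, 1, -1, 1, -1, 1, 1, -1, 1, -1],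
    [-1, -1, -1, -1, 1, -1, -1, 1, -1, 1, 1, 1, 1, -1, 1, 1, 3, -1, 1, 1, -1, 1, -1, 1],
    [1, -1, -1, -1, 1, -1, 1, -1, -1, 1, 1, -1, 1, 1, -1, -1, 3, 1, -1, 1, 1, 1, 1, -1],
    [3, -1, 1, -1, 1, 1, -1, -1, -1, -1, -1, -1, -1, 1, 1, 1, 1, -1, -1, 1, 1, 1, 1, 1],
    [2, -2, 0, -2, -2, 0, 0, 0, 2, 0, 0, 0, 0, 0, 0, 0, 0, 2, 2, 0, 0, 0, -2, 0],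
    [2, 2, 0, 2, 2, 0, 0, 0, 2, 0, 0, 0, 0, 0, 0, 0, 0, 2, 2, 0, 0, 0, 2, 0],
    [2, 0, 2, 0, 2, 0, 0, 2, 0, 0, 0, 0, 0, 0, 0, 0, 0, 2, 2, 0, 2, 0, 0, 2]],
  [[0, 0, 2, 2, 0, 0, 0, 0, 0, 0, 2, 0, 2, 0, -2, 0, -2, 2, 0, 2, 0, 0, 0, 0],
    [-2, -2, 0, 0, 2, 0, 0, 2, 0, 0, 0, 0, 0, 0, 2, 0, 2, -2, 0, -2, 0, 0, 0, 0],
    [2, -2, 0, 0, 2, 0, 0, -2, 0, 0, 0, 0, 0, 0, -2, 0, 2, 2, 0, -2, 0, 0, 0, 0],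
    [2, 0, 0, -2, 0, 0, -2, 0, 0, 0, 0, 0, 0, -2, 0, 2, 2, 0, -2, 0, 0, 0, 2, 0],
    [2, 0, 0, -2, 0, 0, 2, 0, 2, 0, 0, 0, 0, 0, 0, 0, 0, 0, 0, 2, -2, -2, -2, 0],
    [2, 0, 0, 2, 0, 0, 2, 0, 2, 0, 0, 0, 0, 0, 0, 0, 0, 0, 0, 2, 2, 2, 2, 0],
    [2, 2, 2, 0, 0, 0, 2, 2, 0, 0, 0, 0, 0, 0, 0, 0, 0, 0, 0, 2, 0, 2, 0, 2]],
  [[0, 0, 0, 2, 0, 0, 0, -2, 2, 0, 0, 0, 0, 0, -2, 0, -2, 0, -2, 2, 0, 0, 2, 0],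
    [-1, -1, -1, 1, -1, -1, 1, 1, -1, 1, -1, 1, -1, -1, 1, 1, 3, -1, 1, -1, -1, -1, -1, -1],
    [1, -1, -1, 1, -1, -1, -1, -1, -1, 1, -1, -1, -1, 1, -1, -1, 3, 1, -1, -1, 1, -1, 1, 1],
    [3, 1, -1, -1, 1, -1, -1, -1, -1, 1, -1, -1, -1, -1, -1, 1, 1, -1, -1, 1, -1, 1, -1, 1],
    [2, 0, -2, -2, -2, 0, 0, 0, 2, -2, 0, 0, 0, 0, 0, 0, 0, 0, 0, 0, 0, -2, 0, -2],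
    [2, 0, 2, 2, 2, 0, 0, 0, 2, 2, 0, 0, 0, 0, 0, 0, 0, 0, 0, 0, 0, 2, 0, 2],
    [2, 0, 0, 2, 2, 0, 2, 2, 0, 0, 0, 0, 0, 0, 2, 0, 0, 0, 0, 0, 0, 0, 2, 2]],
  [[1, -1, 1, 1, 1, -1, 3, -1, 1, -1, 1, -1, 1, -1, -1, 1, -1, 1, -1, 1, -1, 1, 1, -1],
    [0, -2, 0, 0, 0, 0, -2, 2, 0, 2, 0, 2, 0, 0, 0, 0, 2, -2, 0, 0, 0, -2, 0, 0],
    [0, -2, 0, 0, 0, 0, 2, -2, 0, 2, 0, -2, 0, 0, 0, 0, 2, 2, 0, 0, 0, -2, 0, 0],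
    [2, 0, 0, -2, 0, 0, 0, 0, -2, 0, 0, 0, 0, 0, 2, 2, 0, 0, -2, 0, -2, 0, 0, 2],
    [2, 0, 0, -2, 0, 2, 0, 0, 2, 0, 0, 0, 0, -2, 0, -2, 0, 2, 0, 0, 0, -2, 0, 0],
    [2, 0, 0, 2, 0, 2, 0, 0, 2, 0, 0, 0, 0, 2, 0, 2, 0, 2, 0, 0, 0, 2, 0, 0],
    [2, 0, 0, 0, 0, 2, 2, 2, 0, 0, 0, 0, 0, 2, 0, 0, 2, 2, 0, 0, 0, 0, 0, 2]],
  [[1, -1, 1, -1, 1, -1, 1, 1, 1, -1, 1, -1, 1, 1, -1, 1, -1, 1, 1, 3, 1, 1, 1, 1],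
    [1, -1, 1, -1, 1, 1, -1, 1, 1, 1, 1, 1, 1, 1, 1, 1, 3, -1, 1, -1, 1, 1, -1, -1],
    [-1, -1, 1, -1, 1, 1, 1, -1, 1, 1, 1, -1, 1, -1, -1, -1, 3, 1, -1, -1, -1, 1, 1, 1],
    [3, -1, 1, -1, 1, 1, -1, -1, -1, 1, 1, 1, 1, -1, 1, 1, -1, -1, -1, -1, 1, -1, 1, 1],
    [2, -2, 0, -2, 0, 0, 2, 2, 0, 0, 0, 0, 0, 0, 0, -2, 0, 2, 0, 0, -2, 0, 0, 0],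
    [2, 2, 0, 2, 0, 0, 2, 2, 0, 0, 0, 0, 0, 0, 0, 2, 0, 2, 0, 0, 2, 0, 0, 0],
    [2, 2, 0, 0, 0, 0, 0, 0, 2, 0, 0, 0, 0, 0, 0, 0, 2, 2, 0, 0, 2, 2, 0, 2]],
  [[1, -1, 1, -1, 1, -1, -1, -1, 3, -1, 1, 1, -1, 1, -1, 1, -1, 1, -1, 1, 1, -1, 1, 1],
    [1, -1, 1, -1, -1, 1, 1, 1, -1, 1, -1, -1, 1, -1, 1, 1, 3, -1, 1, 1, -1, 1, -1, -1],
    [-1, -1, 1, -1, -1, 1, -1, -1, -1, 1, -1, 1, 1, 1, -1, -1, 3, 1, -1, 1, 1, 1, 1, 1],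
    [3, -1, 1, -1, 1, -1, -1, -1, 1, 1, 1, -1, 1, 1, -1, 1, -1, -1, -1, 1, 1, 1, -1, 1],
    [2, -2, 0, -2, 0, 0, 0, 2, 0, -2, 0, 0, 0, 0, 0, 0, 2, 0, 2, 0, 0, 0, 0, -2],
    [2, 2, 0, 2, 0, 0, 0, 2, 0, 2, 0, 0, 0, 0, 0, 0, 2, 0, 2, 0, 0, 0, 0, 2],
    [2, 0, 0, 2, 0, 0, 0, 0, 2, 0, 0, 0, 0, 0, 2, 2, 0, 0, 2, 0, 2, 0, 0, 2]],
  [[0, 0, 2, 0, 0, 0, 0, 0, 2, -2, 2, 0, 0, 0, 0, 2, -2, 2, 0, 0, 0, 2, 0, 0],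
    [-1, -1, 1, -1, 1, 1, -1, 1, -1, 1, -1, -1, 1, 1, 1, -1, 3, -1, 1, 1, 1, -1, -1, 1],
    [1, -1, 1, -1, 1, 1, 1, -1, -1, 1, -1, 1, 1, -1, -1, 1, 3, 1, -1, 1, -1, -1, 1, -1],
    [3, -1, 1, -1, 1, -1, -1, -1, 1, -1, 1, -1, 1, 1, 1, 1, 1, 1, -1, -1, -1, -1, 1, 1],
    [2, -2, 0, -2, 0, 2, 0, 2, 0, 0, 0, 0, 0, -2, 0, 0, 0, 0, 0, 2, 0, 0, -2, 0],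
    [2, 2, 0, 2, 0, 2, 0, 2, 0, 0, 0, 0, 0, 2, 0, 0, 0, 0, 0, 2, 0, 0, 2, 0],
    [2, 0, 2, 0, 0, 2, 0, 0, 2, 0, 0, 0, 0, 2, 0, 0, 0, 0, 0, 2, 2, 0, 0, 2]],
  [[0, -2, 0, 0, 0, 0, 0, 0, 2, -2, 0, 0, 2, 0, 0, 0, -2, 2, -2, 2, 0, 0, 0, 0],
    [1, -1, 1, 1, 1, 1, -1, 1, -1, 1, 1, -1, -1, -1, 1, 1, 3, -1, 1, -1, -1, -1, -1, 1],
    [-1, -1, 1, 1, 1, 1, 1, -1, -1, 1, 1, 1, -1, 1, -1, -1, 3, 1, -1, -1, 1, -1, 1, -1],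
    [3, 1, -1, -1, 1, 1, -1, -1, 1, -1, 1, -1, 1, -1, 1, 1, -1, -1, -1, 1, -1, 1, 1, 1],
    [2, 0, -2, -2, 0, 0, 0, 2, 0, 0, 0, 0, 0, 0, 0, 0, 2, 2, 0, 0, 0, -2, -2, 0],
    [2, 0, 2, 2, 0, 0, 0, 2, 0, 0, 0, 0, 0, 0, 0, 0, 2, 2, 0, 0, 0, 2, 2, 0],
    [2, 0, 2, 0, 0, 0, 2, 0, 2, 0, 0, 0, 0, 0, 0, 2, 0, 2, 0, 0, 0, 0, 2, 2]],
  [[1, -1, 1, 1, 1, -1, -1, -1, 1, -1, 1, -1, 1, -1, -1, 1, -1, 1, -1, 1, 3, 1, 1, -1],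
    [0, -2, 0, 0, 0, 0, 0, 2, 0, 0, 0, 0, 0, 2, 0, 0, 2, -2, 2, 0, -2, 0, -2, 0],
    [0, -2, 0, 0, 0, 0, 0, -2, 0, 0, 0, 0, 0, -2, 0, 0, 2, 2, -2, 0, 2, 0, 2, 0],
    [2, 0, 0, -2, 2, 0, 0, -2, 0, 0, 0, 0, 0, 0, 0, 2, 0, 0, -2, -2, 0, 2, 0, 0],
    [2, 0, 0, -2, -2, 0, 0, 2, 0, 0, 0, 0, 0, 0, 0, -2, 0, 0, 2, 2, 0, -2, 0, 0],
    [2, 0, 0, 2, 2, 0, 0, 2, 0, 0, 0, 0, 0, 0, 0, 2, 0, 0, 2, 2, 0, 2, 0, 0],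
    [2, 0, 0, 0, 2, 0, 2, 0, 2, 0, 0, 0, 0, 0, 0, 0, 2, 0, 2, 2, 0, 0, 0, 2]],
  [[-1, -1, 1, 1, -1, -1, 1, -1, 1, -1, 1, -1, 1, 1, -1, 3, -1, 1, -1, 1, 1, -1, 1, 1],
    [-1, -1, 1, 1, 1, 1, -1, 1, 1, 1, -1, 1, -1, -1, 1, -1, 3, -1, 1, 1, -1, 1, -1, -1],
    [1, -1, 1, 1, 1, 1, 1, -1, 1, 1, -1, -1, -1, 1, -1, 1, 3, 1, -1, 1, 1, 1, 1, 1],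
    [3, 1, -1, -1, 1, -1, -1, -1, -1, 1, 1, 1, 1, 1, 1, 1, 1, 1, -1, 1, 1, 1, 1, 1],
    [2, 0, -2, -2, 0, 2, 2, 2, 2, 0, 0, 0, 0, 0, 0, 0, 0, 0, 2, 0, 0, 0, 0, 0],
    [2, 0, 2, 2, 0, 2, 2, 2, 2, 0, 0, 0, 0, 0, 0, 0, 0, 0, 2, 0, 0, 0, 0, 0],
    [2, 0, 0, 0, 0, 0, 0, 2, 2, 0, 0, 0, 0, 2, 0, 0, 0, 0, 2, 0, 0, 2, 2, 2]],
  [[1, -1, 1, 1, 1, -1, -1, -1, 1, -1, 1, -1, 1, 3, -1, 1, -1, 1, -1, 1, -1, 1, 1, -1],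
    [0, -2, 0, 0, 0, 0, 0, 2, 0, 0, 0, 0, 0, -2, 0, 0, 2, -2, 2, 0, 2, 0, -2, 0],
    [0, -2, 0, 0, 0, 0, 0, -2, 0, 0, 0, 0, 0, 2, 0, 0, 2, 2, -2, 0, -2, 0, 2, 0],
    [2, 0, 0, -2, 2, 0, 0, -2, 0, 0, 0, 0, 0, 0, 0, 2, 0, 0, -2, 2, 0, -2, 0, 0],
    [2, 0, 0, -2, -2, 0, 0, 2, 2, 0, 0, 0, 0, -2, 0, 0, 2, 0, 0, 0, -2, 0, 0, 0],
    [2, 0, 0, 2, 2, 0, 0, 2, 2, 0, 0, 0, 0, 2, 0, 0, 2, 0, 0, 0, 2, 0, 0, 0],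
    [2, 2, 0, 0, 2, 2, 0, 2, 2, 0, 0, 0, 0, 0, 0, 2, 0, 0, 0, 0, 0, 0, 0, 2]],
  [[0, 0, 0, 0, 0, 0, 2, 0, 2, -2, 0, 2, 0, 0, 0, 2, -2, 0, 0, 2, 0, 0, 2, 0],
    [0, 0, 0, 0, 0, 0, 0, 0, 0, 4, 0, 0, 0, 0, 0, 0, 4, 0, 0, 0, 0, 0, 0, 0],
    [0, 0, 0, 0, 0, 0, 0, 0, 0, 4, 0, 0, 0, 0, 0, 0, 4, 0, 0, 0, 0, 0, 0, 0],
    [4, 0, 0, 0, 0, 0, 0, 0, 0, 0, 0, 0, 0, 0, 0, 0, 0, 0, 0, 0, 0, 0, 0, 4],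
    [2, -2, -2, -2, 0, 2, 0, 0, 0, 0, 0, 0, 0, 0, 2, 0, 0, 2, 0, 0, 0, 0, 0, -2],
    [2, 2, 2, 2, 0, 2, 0, 0, 0, 0, 0, 0, 0, 0, 2, 0, 0, 2, 0, 0, 0, 0, 0, 2],
    [2, 0, 0, 2, 0, 0, 0, 0, 0, 2, 0, 0, 0, 2, 0, 0, 0, 2, 0, 0, 2, 0, 2, 2]],
  [[2, 0, 0, 0, 2, 0, 0, 0, 2, 0, 0, 0, 0, 0, -2, 2, -2, 0, 0, 0, 0, 2, 2, 0],
    [1, -1, -1, -1, -1, -1, 1, 1, -1, 1, 1, 1, 1, 1, 1, -1, 3, -1, 1, 1, 1, -1, -1, -1],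
    [-1, -1, -1, -1, -1, -1, -1, -1, -1, 1, 1, -1, 1, -1, -1, 1, 3, 1, -1, 1, -1, -1, 1, 1],
    [3, -1, 1, -1, 1, 1, -1, -1, -1, 1, -1, -1, -1, 1, -1, 1, -1, 1, -1, -1, -1, -1, -1, 1],
    [2, -2, 0, -2, -2, 0, 0, 0, 0, -2, 0, 0, 0, -2, 2, -2, 0, 0, 0, 0, 0, 0, 0, 0],
    [2, 2, 0, 2, 2, 0, 0, 0, 0, 2, 0, 0, 0, 2, 2, 2, 0, 0, 0, 0, 0, 0, 0, 0],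
    [2, 0, 0, 0, 2, 2, 0, 0, 0, 2, 0, 0, 0, 0, 2, 0, 2, 0, 0, 0, 2, 0, 0, 2]]]

/-- traces of the members -/
def hsTraces1 : List (List (List ℤ)) := [
  [[1, -1, 1, 1, 1, 1, 1, -1, 1, -1, 1, 1, 1, -1, -1, 1, -3, 1, -1, -1, 1, -1, 1, 1],
    [0, -2, 0, 0, 0, 0, 0, 2, -2, 2, 0, 0, 0, 0, 2, -2, 2, 0, 0, 0, -2, 0, 0, 0],
    [0, -2, 0, 0, 0, 0, 0, -2, -2, 2, 0, 0, 0, 0, -2, 2, 2, 0, 0, 0, 2, 0, 0, 0],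
    [2, 0, 0, -2, 0, 0, -2, 0, 0, 0, 0, -2, 0, 0, 0, 0, 0, 2, -2, 0, 0, 2, 0, 2],
    [2, 0, 0, -2, 0, 2, 0, 0, 0, -2, 0, 0, 0, 0, 2, 0, 0, 0, 2, 0, 0, -2, -2, 0],
    [2, 0, 0, 2, 0, 2, 0, 0, 0, 2, 0, 0, 0, 0, 2, 0, 0, 0, 2, 0, 0, 2, 2, 0],
    [2, 0, 2, 0, 0, 0, 2, 0, 0, 2, 0, 0, 0, 2, 2, 0, 0, 0, 2, 0, 0, 0, 0, 2]],
  [[1, -1, 1, 1, 1, -1, -1, -1, 1, -1, 1, 3, 1, -1, -1, 1, -1, 1, -1, 1, -1, 1, 1, -1],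
    [0, -2, 0, 0, 0, 0, 2, 2, 0, 2, 0, -2, 0, 0, 0, 0, 2, -2, 0, 0, 0, -2, 0, 0],
    [0, -2, 0, 0, 0, 0, -2, -2, 0, 2, 0, 2, 0, 0, 0, 0, 2, 2, 0, 0, 0, -2, 0, 0],
    [2, 0, 0, -2, 0, 0, 0, 0, 2, 0, 0, 0, 0, 0, -2, 2, 0, 0, -2, 0, -2, 0, 0, 2],
    [2, 0, 0, -2, 0, 0, 0, 0, 0, 0, 0, 0, 0, -2, 2, 0, 2, 0, 0, 2, 0, -2, 0, -2],
    [2, 0, 0, 2, 0, 0, 0, 0, 0, 0, 0, 0, 0, 2, 2, 0, 2, 0, 0, 2, 0, 2, 0, 2],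
    [2, 0, 0, 2, 0, 2, 2, 0, 0, 2, 0, 0, 0, 0, 0, 2, 0, 0, 0, 2, 0, 0, 0, 2]],
  [[1, -1, 1, 1, 1, -1, 1, 1, 1, -1, -1, 1, 1, 1, -3, 1, -1, 1, -1, 1, -1, -1, 1, 1],
    [0, -2, 0, 0, 0, 0, 0, 0, 0, 2, 2, 0, 0, -2, 2, 0, 2, -2, 0, 0, 0, 0, 0, -2],
    [0, -2, 0, 0, 0, 0, 0, 0, 0, 2, 2, 0, 0, 2, -2, 0, 2, 2, 0, 0, 0, 0, 0, 2],
    [2, 0, 0, -2, 0, 2, -2, 0, 0, 2, 0, 0, 0, 0, 0, 2, 0, 0, 0, 2, 0, 0, 0, 2],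
    [2, 0, 0, -2, 0, 0, 2, 0, 2, -2, 0, 0, 0, 0, 2, 0, 2, 2, 0, 0, 0, 0, 0, 0],
    [2, 0, 0, 2, 0, 0, 2, 0, 2, 2, 0, 0, 0, 0, 2, 0, 2, 2, 0, 0, 0, 0, 0, 0],
    [2, 0, 0, 0, 0, 0, 0, 2, 0, 2, 0, 0, 0, 0, 2, 2, 0, 2, 0, 0, 0, 2, 0, 2]],
  [[1, -1, 1, 1, 1, -1, 1, -1, 1, 1, 1, 1, 1, 1, -1, 1, -1, 1, 1, 1, 1, -1, 3, -1],
    [0, -2, 0, 0, 0, 0, 2, 2, 0, 2, 0, 2, 0, 0, 0, 0, 2, -2, 0, 0, 0, 2, 0, 0],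
    [0, -2, 0, 0, 0, 0, -2, -2, 0, 2, 0, -2, 0, 0, 0, 0, 2, 2, 0, 0, 0, 2, 0, 0],
    [2, 0, 0, -2, 0, 0, 0, 0, -2, 0, 0, 0, 0, 0, -2, 2, 0, 0, -2, 0, 2, 0, 0, 2],
    [2, 0, 0, -2, 0, 0, 0, 0, 2, 0, 0, 0, 0, 0, 2, -2, 0, 0, 2, 0, -2, 0, 0, -2],
    [2, 0, 0, 2, 0, 0, 0, 0, 2, 0, 0, 0, 0, 0, 2, 2, 0, 0, 2, 0, 2, 0, 0, 2],
    [2, 2, 0, 2, 0, 0, 0, 2, 0, 2, 0, 0, 0, 0, 0, 0, 2, 0, 2, 0, 0, 0, 0, 2]],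
  [[-1, -1, 1, 1, 1, -1, -1, -1, 1, -1, -1, 1, 1, 1, -1, 1, -3, 1, 1, 1, 1, 1, 1, 1],
    [-1, -1, 1, 1, -1, 1, 1, 1, -1, 1, 1, -1, -1, 1, 1, -1, 3, -1, 1, -1, 1, 1, -1, -1],
    [1, -1, 1, 1, -1, 1, -1, -1, -1, 1, 1, 1, -1, -1, -1, 1, 3, 1, -1, -1, -1, 1, 1, 1],
    [3, 1, -1, -1, 1, 1, -1, -1, 1, 1, 1, -1, 1, -1, -1, 1, 1, 1, -1, -1, 1, -1, -1, 1],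
    [2, 0, -2, -2, 0, 0, 0, 2, 0, -2, 0, 0, 0, 0, 2, 0, 0, 0, 0, 2, -2, 0, 0, 0],
    [2, 0, 2, 2, 0, 0, 0, 2, 0, 2, 0, 0, 0, 0, 2, 0, 0, 0, 0, 2, 2, 0, 0, 0],
    [2, 2, 0, 0, 0, 0, 0, 0, 2, 2, 0, 0, 0, 0, 2, 0, 0, 0, 0, 2, 0, 0, 2, 2]],
  [[1, -1, 1, 1, -1, 1, -1, 1, 1, -1, 1, 1, 1, 1, -1, 1, -1, 1, -1, 1, 1, 1, 3, 1],
    [0, -2, 0, 0, 2, 0, 2, 0, 0, 2, 0, 0, 0, 0, 2, 0, 2, 0, 2, 0, 0, 0, -2, 0],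
    [0, -2, 0, 0, 2, 0, -2, 0, 0, 2, 0, 0, 0, 0, -2, 0, 2, 0, -2, 0, 0, 0, 2, 0],
    [2, 0, 0, -2, 2, 0, -2, -2, 0, 0, 0, 0, 0, 0, -2, 0, 0, 0, 0, 0, 0, 0, 2, 2],
    [2, 0, 0, -2, -2, 0, 2, 2, 0, 0, 0, 0, 0, 0, 2, 0, 0, 0, 0, 0, 0, 0, -2, -2],
    [2, 0, 0, 2, 2, 0, 2, 2, 0, 0, 0, 0, 0, 0, 2, 0, 0, 0, 0, 0, 0, 0, 2, 2],
    [2, 0, 2, 2, 2, 0, 0, 0, 2, 2, 0, 0, 0, 0, 0, 0, 0, 0, 0, 0, 0, 2, 0, 2]],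
  [[-1, -1, 1, 1, -1, 1, -1, -1, 3, -1, 1, 1, 1, -1, -1, 1, -1, 1, 1, 1, 1, -1, 1, -1],
    [-1, -1, 1, 1, 1, -1, 1, 1, -1, 1, -1, -1, -1, 1, 1, 1, 3, -1, -1, 1, -1, 1, -1, 1],
    [1, -1, 1, 1, 1, -1, -1, -1, -1, 1, -1, 1, -1, -1, -1, -1, 3, 1, 1, 1, 1, 1, 1, -1],
    [3, 1, -1, -1, 1, -1, -1, 1, 1, -1, -1, -1, 1, 1, -1, 1, 1, -1, -1, -1, 1, 1, 1, 1],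
    [2, 0, -2, -2, 0, 0, 0, 0, 0, 0, 2, 0, 0, 0, 0, 0, 0, 0, 2, 2, 0, 0, -2, -2],
    [2, 0, 2, 2, 0, 0, 0, 0, 0, 0, 2, 0, 0, 0, 0, 0, 0, 0, 2, 2, 0, 0, 2, 2],
    [2, 0, 2, 2, 0, 0, 0, 0, 0, 0, 2, 0, 0, 0, 0, 0, 0, 0, 2, 2, 0, 0, 2, 2]],
  [[1, -1, 1, 1, 1, 1, -1, -1, 1, -1, 1, -1, 1, 1, -3, 1, -1, -1, 1, 1, 1, -1, 1, 1],
    [0, -2, 0, 0, 0, -2, 0, 2, 0, 0, 0, 0, 0, 0, 2, 0, 2, 0, 0, 0, 0, 2, -2, -2],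
    [0, -2, 0, 0, 0, -2, 0, -2, 0, 0, 0, 0, 0, 0, -2, 0, 2, 0, 0, 0, 0, 2, 2, 2],
    [2, 0, 0, -2, 2, 0, -2, 0, 0, 2, -2, 0, 0, 0, 0, 0, 0, 0, -2, 0, 2, 0, 0, 0],
    [2, 0, 0, -2, -2, 0, 2, 0, 0, -2, 2, 0, 0, 0, 0, 0, 0, 0, 2, 0, -2, 0, 0, 0],
    [2, 0, 0, 2, 2, 0, 2, 0, 0, 2, 2, 0, 0, 0, 0, 0, 0, 0, 2, 0, 2, 0, 0, 0],
    [2, 2, 0, 0, 2, 0, 0, 0, 0, 0, 2, 0, 0, 0, 2, 0, 0, 0, 2, 0, 0, 2, 0, 2]],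
  [[2, -2, 0, 0, 0, 0, 0, 0, 2, -2, 0, 0, 0, 0, -2, 0, 0, 0, 0, 2, 0, 0, 2, -2],
    [2, -2, 0, 0, 0, -2, 0, 0, 0, 2, 0, 0, 0, 0, 0, 2, 2, -2, 0, 0, 0, 0, -2, 0],
    [-2, -2, 0, 0, 0, -2, 0, 0, 0, 2, 0, 0, 0, 0, 0, -2, 2, 2, 0, 0, 0, 0, 2, 0],
    [2, 0, 0, -2, 2, 0, 0, 0, 0, 0, -2, 0, 0, 0, 0, 2, -2, -2, 0, 0, 0, 0, 0, 2],
    [2, 0, 0, -2, -2, 0, 0, 0, 0, 0, 2, 0, 0, 0, 0, -2, 2, 2, 0, 0, 0, 0, 0, -2],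
    [2, 0, 0, 2, 2, 0, 0, 0, 0, 0, 2, 0, 0, 0, 0, 2, 2, 2, 0, 0, 0, 0, 0, 2],
    [2, 0, 0, 2, 2, 0, 0, 0, 0, 0, 2, 0, 0, 0, 0, 2, 2, 2, 0, 0, 0, 0, 0, 2]],
  [[0, -2, 0, 0, 0, 0, 0, -2, 2, -2, 0, 0, 0, 0, -2, 2, -2, 0, 0, 0, -2, 0, 0, 0],
    [1, -1, 1, 1, -1, -1, -1, 1, -1, 1, -1, -1, -1, -1, 1, -1, 3, -1, -1, 1, 1, -1, -1, -1],
    [-1, -1, 1, 1, -1, -1, 1, -1, -1, 1, -1, 1, -1, 1, -1, 1, 3, 1, 1, 1, -1, -1, 1, 1],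
    [3, 1, -1, -1, 1, -1, -1, 1, 1, 1, -1, -1, 1, 1, 1, 1, -1, 1, -1, 1, -1, -1, -1, 1],
    [2, 0, -2, -2, 0, 2, 0, 0, 0, -2, 2, 0, 0, -2, 0, 0, 2, 0, 0, 0, 0, 0, 0, 0],
    [2, 0, 2, 2, 0, 2, 0, 0, 0, 2, 2, 0, 0, 2, 0, 0, 2, 0, 0, 0, 0, 0, 0, 0],
    [2, 0, 0, 0, 0, 2, 0, 0, 0, 0, 2, 0, 0, 2, 2, 2, 0, 0, 0, 0, 0, 0, 2, 2]],
  [[0, 0, 2, 0, 2, 0, 0, 0, 2, -2, 0, 0, 0, -2, -2, 0, -2, 0, 0, 2, 0, 0, 0, 0],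
    [-1, -1, 1, -1, -1, -1, -1, 1, -1, 1, 1, -1, 1, 1, 1, 1, 3, -1, -1, -1, -1, -1, -1, -1],
    [1, -1, 1, -1, -1, -1, 1, -1, -1, 1, 1, 1, 1, -1, -1, -1, 3, 1, 1, -1, 1, -1, 1, 1],
    [3, -1, 1, -1, 1, 1, -1, 1, 1, 1, -1, -1, 1, -1, 1, 1, 1, -1, -1, -1, -1, 1, -1, 1],
    [2, -2, 0, -2, 0, 0, 0, 0, 0, -2, 2, 0, 0, 0, 0, 0, 0, 2, 0, 2, 0, -2, 0, 0],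
    [2, 2, 0, 2, 0, 0, 0, 0, 0, 2, 2, 0, 0, 0, 0, 0, 0, 2, 0, 2, 0, 2, 0, 0],
    [2, 0, 0, 0, 0, 0, 2, 0, 0, 0, 2, 0, 0, 0, 2, 0, 0, 2, 0, 2, 2, 0, 0, 2]],
  [[0, 0, 2, 0, 0, 0, 0, 0, 2, 0, 2, 0, 0, 0, -2, 2, 0, 0, 0, 2, -2, 0, 2, 0],
    [-1, -1, 1, -1, 1, -1, 1, 1, 1, 1, -1, 1, 1, -1, 1, 1, 3, -1, -1, 1, 1, -1, -1, -1],
    [1, -1, 1, -1, 1, -1, -1, -1, 1, 1, -1, -1, 1, 1, -1, -1, 3, 1, 1, 1, -1, -1, 1, 1],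
    [3, -1, 1, -1, 1, -1, -1, 1, -1, 1, -1, 1, 1, 1, -1, 1, 1, -1, -1, 1, -1, -1, 1, 1],
    [2, -2, 0, -2, 0, 0, 2, 0, 2, 0, 2, 0, 0, -2, 0, 0, 0, 0, 0, 0, 0, 0, 0, -2],
    [2, 2, 0, 2, 0, 0, 2, 0, 2, 0, 2, 0, 0, 2, 0, 0, 0, 0, 0, 0, 0, 0, 0, 2],
    [2, 0, 0, 2, 0, 2, 0, 2, 0, 0, 2, 0, 0, 0, 0, 0, 0, 0, 0, 0, 2, 2, 0, 2]],
  [[0, -2, 2, 0, 0, 0, 0, -2, 0, -2, 2, 0, 0, 0, 0, 0, -2, 0, 0, 2, 0, 0, 2, 0],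
    [0, -2, 2, 0, 0, 0, 0, 2, 0, 2, -2, 0, 0, 0, 0, 0, 2, 0, 0, -2, 0, 0, -2, 0],
    [0, -2, 2, 0, 0, 0, 0, -2, 0, 2, -2, 0, 0, 0, 0, 0, 2, 0, 0, -2, 0, 0, 2, 0],
    [2, 0, 0, -2, 2, -2, 0, 0, 0, 0, 0, 0, 2, -2, 0, 0, 0, 0, -2, 0, 0, 0, 0, 2],
    [2, 0, 0, -2, 0, 2, 0, 2, 0, 0, 2, 0, 0, 0, 0, 0, 0, 0, 0, 0, -2, -2, 0, -2],
    [2, 0, 0, 2, 0, 2, 0, 2, 0, 0, 2, 0, 0, 0, 0, 0, 0, 0, 0, 0, 2, 2, 0, 2],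
    [2, 2, 0, 2, 0, 0, 2, 0, 2, 0, 2, 0, 0, 2, 0, 0, 0, 0, 0, 0, 0, 0, 0, 2]],
  [[0, -2, 2, 0, 0, 0, 0, 0, 2, 0, 0, -2, 0, 0, -2, 0, -2, 2, 0, 0, 0, 0, 2, 0],
    [0, -2, 2, 0, 0, 0, 0, 0, -2, 0, 0, 2, 0, 0, 2, 0, 2, -2, 0, 0, 0, 0, -2, 0],
    [0, -2, 2, 0, 0, 0, 0, 0, -2, 0, 0, -2, 0, 0, -2, 0, 2, 2, 0, 0, 0, 0, 2, 0],
    [2, 0, 0, -2, 2, 0, -2, 0, -2, 0, 0, -2, 2, 0, 0, 2, 0, 0, 0, 0, 0, 0, 0, 0],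
    [2, 0, 0, -2, 0, 0, 0, 2, 2, -2, 2, 0, 0, 0, 0, -2, 0, 0, 0, 0, 0, 0, -2, 0],
    [2, 0, 0, 2, 0, 0, 0, 2, 2, 2, 2, 0, 0, 0, 0, 2, 0, 0, 0, 0, 0, 0, 2, 0],
    [2, 0, 2, 0, 0, 0, 0, 2, 2, 0, 2, 0, 0, 0, 2, 0, 2, 0, 0, 0, 0, 0, 0, 2]],
  [[1, -1, 1, -1, 1, 1, -1, 1, 1, -1, 1, 1, 1, 1, -1, 1, -3, 1, 1, 1, -1, -1, 1, -1],
    [1, -1, 1, -1, 1, -1, 1, 1, -1, 1, 1, -1, 1, -1, 1, -1, 3, -1, -1, -1, 1, 1, -1, 1],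
    [-1, -1, 1, -1, 1, -1, -1, -1, -1, 1, 1, 1, 1, 1, -1, 1, 3, 1, 1, -1, -1, 1, 1, -1],
    [3, -1, 1, -1, 1, 1, -1, 1, 1, -1, -1, -1, 1, -1, -1, 1, -1, 1, -1, 1, 1, -1, 1, 1],
    [2, -2, 0, -2, 0, 0, 0, 0, 0, 0, 2, 0, 0, 0, 2, 0, 2, 0, 0, 0, -2, 0, -2, 0],
    [2, 2, 0, 2, 0, 0, 0, 0, 0, 0, 2, 0, 0, 0, 2, 0, 2, 0, 0, 0, 2, 0, 2, 0],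
    [2, 2, 2, 0, 0, 0, 0, 0, 0, 2, 2, 0, 0, 0, 0, 2, 0, 0, 0, 0, 2, 0, 0, 2]],
  [[0, -2, 0, 0, 0, 0, 0, 0, 0, 0, 0, 0, 2, -2, -2, 2, -2, 0, 0, 2, 0, 0, 2, 0],
    [1, -1, 1, 1, 1, -1, 1, 1, 1, 1, 1, 1, -1, 1, 1, -1, 3, -1, -1, -1, -1, -1, -1, -1],
    [-1, -1, 1, 1, 1, -1, -1, -1, 1, 1, 1, -1, -1, -1, -1, 1, 3, 1, 1, -1, 1, -1, 1, 1],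
    [3, 1, -1, -1, 1, 1, -1, 1, -1, 1, -1, 1, 1, -1, -1, 1, -1, 1, -1, -1, -1, 1, 1, 1],
    [2, 0, -2, -2, 0, 0, 2, 0, 0, 0, 2, 0, 0, 0, 2, -2, 0, 0, 0, 0, 0, -2, 0, 0],
    [2, 0, 2, 2, 0, 0, 2, 0, 0, 0, 2, 0, 0, 0, 2, 2, 0, 0, 0, 0, 0, 2, 0, 0],
    [2, 0, 0, 0, 0, 0, 2, 0, 0, 2, 2, 0, 0, 0, 0, 0, 2, 0, 0, 0, 0, 2, 2, 2]],
  [[0, 0, 2, 2, 0, 0, 0, 0, 0, -2, 0, 0, 0, 0, -2, 2, -2, 0, 0, 0, 0, 0, 2, -2],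
    [-2, -2, 0, 0, 0, -2, 0, 0, 0, 2, 0, 0, 0, 0, 0, -2, 2, -2, 0, 0, 0, 0, -2, 0],
    [2, -2, 0, 0, 0, -2, 0, 0, 0, 2, 0, 0, 0, 0, 0, 2, 2, 2, 0, 0, 0, 0, 2, 0],
    [2, 0, 0, -2, 2, 0, 0, 0, 0, 0, -2, 0, 0, 0, 0, 2, 2, 2, 0, 0, 0, 0, 0, 2],
    [2, 0, 0, -2, -2, 2, 0, 0, 2, 0, 2, 0, 0, 0, 2, 0, 0, 0, 0, 2, 0, 0, 0, 0],
    [2, 0, 0, 2, 2, 2, 0, 0, 2, 0, 2, 0, 0, 0, 2, 0, 0, 0, 0, 2, 0, 0, 0, 0],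
    [2, 0, 0, 0, 2, 0, 0, 2, 0, 2, 2, 0, 0, 2, 0, 0, 0, 0, 0, 2, 0, 0, 0, 2]],
  [[0, -2, 2, 0, 2, 0, 0, 0, 2, -2, 0, 0, 2, 0, 0, 2, 0, 0, 0, 0, 0, 0, 2, 0],
    [0, -2, 2, 0, 0, 0, 0, 2, 0, 2, 2, 0, 0, 0, 0, 0, 2, 0, 0, 2, 0, 0, -2, 0],
    [0, -2, 2, 0, 0, 0, 0, -2, 0, 2, 2, 0, 0, 0, 0, 0, 2, 0, 0, 2, 0, 0, 2, 0],
    [2, 0, 0, -2, 2, 2, 0, 0, 0, 0, 0, 0, 2, 2, 0, 0, 0, 0, -2, 0, 0, 0, 0, 2],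
    [2, 0, 0, -2, 0, 0, 0, 2, 0, 0, 2, 0, 0, -2, 2, 0, 0, 2, 2, 0, 0, 0, 0, 0],
    [2, 0, 0, 2, 0, 0, 0, 2, 0, 0, 2, 0, 0, 2, 2, 0, 0, 2, 2, 0, 0, 0, 0, 0],
    [2, 0, 0, 0, 0, 2, 0, 0, 2, 2, 2, 0, 0, 0, 0, 0, 0, 2, 2, 0, 0, 0, 0, 2]],
  [[0, 0, 0, 0, 0, 2, 0, 0, 2, 0, 0, 0, 0, 0, -2, 2, -2, 2, 0, 2, 0, 0, 0, 2],
    [0, 0, 0, 0, 0, 0, 0, 0, 0, 0, 0, 0, 0, 0, 4, 0, 4, 0, 0, 0, 0, 0, 0, 0],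
    [0, 0, 0, 0, 0, 0, 0, 0, 0, 0, 0, 0, 0, 0, -4, 0, 4, 0, 0, 0, 0, 0, 0, 0],
    [4, 0, 0, 0, 0, 0, -4, 0, 0, 0, 0, 0, 0, 0, 0, 0, 0, 0, 0, 0, 0, 0, 0, 0],
    [2, -2, -2, -2, 0, 0, 2, 0, 0, -2, 0, -2, 0, 0, 0, 0, 0, 0, 0, 0, 0, 0, -2, 0],
    [2, 2, 2, 2, 0, 0, 2, 0, 0, 2, 0, 2, 0, 0, 0, 0, 0, 0, 0, 0, 0, 0, 2, 0],
    [2, 0, 2, 0, 0, 0, 0, 0, 0, 0, 0, 2, 0, 0, 2, 0, 0, 0, 0, 0, 2, 2, 2, 2]],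
  [[1, 1, 1, 1, 1, 1, -1, -1, 1, -1, 1, 1, -1, 1, -1, 1, -1, 1, 1, 3, 1, 1, 1, -1],
    [-1, -1, -1, -1, -1, -1, 1, 1, 1, 1, -1, -1, 1, 1, 1, 1, 3, -1, 1, -1, 1, 1, -1, 1],
    [1, -1, -1, -1, -1, -1, -1, -1, 1, 1, -1, 1, 1, -1, -1, -1, 3, 1, -1, -1, -1, 1, 1, -1],
    [3, -1, 1, -1, 1, -1, -1, -1, 1, -1, -1, 1, -1, -1, -1, 1, 1, -1, -1, -1, 1, -1, -1, 1],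
    [2, -2, 0, -2, -2, 0, 0, 0, 0, 0, 0, -2, 0, 0, 0, 0, 0, 0, 0, 2, -2, 0, 0, -2],
    [2, 2, 0, 2, 2, 0, 0, 0, 0, 0, 0, 2, 0, 0, 0, 0, 0, 0, 0, 2, 2, 0, 0, 2],
    [2, 2, 0, 2, 2, 0, 0, 0, 0, 0, 0, 2, 0, 0, 0, 0, 0, 0, 0, 2, 2, 0, 0, 2]],
  [[2, -2, 0, 0, 2, 0, 0, -2, 0, 0, 0, 0, 0, 0, -2, 0, -2, 2, 0, 2, 0, 0, 0, 0],
    [2, -2, 0, 0, -2, 0, 0, 2, 0, 0, 0, 0, 0, 0, 2, 0, 2, -2, 0, -2, 0, 0, 0, 0],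
    [-2, -2, 0, 0, -2, 0, 0, -2, 0, 0, 0, 0, 0, 0, -2, 0, 2, 2, 0, -2, 0, 0, 0, 0],
    [2, 0, 0, -2, 0, 0, -2, 0, 0, 0, 0, 0, 0, -2, 0, 2, -2, 0, -2, 0, 0, 0, -2, 0],
    [2, 0, 0, -2, 0, 0, 0, 0, 0, -2, 0, -2, 0, 0, 0, -2, 2, 0, 0, 0, -2, -2, 0, 0],
    [2, 0, 0, 2, 0, 0, 0, 0, 0, 2, 0, 2, 0, 0, 0, 2, 2, 0, 0, 0, 2, 2, 0, 0],
    [2, 2, 0, 0, 0, 0, 2, 0, 0, 0, 0, 2, 0, 0, 2, 2, 2, 0, 0, 0, 0, 0, 0, 2]],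
  [[1, -1, 1, 1, 1, 1, 1, -1, 1, -1, 1, 1, 1, -1, -1, 1, 1, 1, -1, 3, 1, -1, 1, 1],
    [0, -2, 0, 0, 0, 0, 0, 2, 2, 2, 0, 0, 0, 0, 2, 2, 2, 0, 0, 0, -2, 0, 0, 0],
    [0, -2, 0, 0, 0, 0, 0, -2, 2, 2, 0, 0, 0, 0, -2, -2, 2, 0, 0, 0, 2, 0, 0, 0],
    [2, 0, 0, -2, 0, 0, -2, 0, 0, 0, 0, 2, 0, 0, 0, 0, 0, -2, -2, 0, 0, 2, 0, 2],
    [2, 0, 0, -2, 0, 0, 2, 0, 0, 0, 0, -2, 0, 0, 0, 0, 0, 2, 2, 0, 0, -2, 0, -2],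
    [2, 0, 0, 2, 0, 0, 2, 0, 0, 0, 0, 2, 0, 0, 0, 0, 0, 2, 2, 0, 0, 2, 0, 2],
    [2, 0, 0, 2, 0, 0, 2, 0, 0, 0, 0, 2, 0, 0, 0, 0, 0, 2, 2, 0, 0, 2, 0, 2]],
  [[1, -1, 1, 1, -1, 1, 1, -1, 1, -1, 1, 1, -1, 1, -1, 1, -1, 3, -1, 1, -1, -1, 1, -1],
    [0, -2, 0, 0, 0, 0, 0, 0, 0, 2, -2, 0, 0, -2, 2, 0, 2, -2, 0, 0, 0, 0, 0, 2],
    [0, -2, 0, 0, 0, 0, 0, 0, 0, 2, -2, 0, 0, 2, -2, 0, 2, 2, 0, 0, 0, 0, 0, -2],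
    [2, 0, 0, -2, 0, -2, -2, 0, 0, -2, 0, 0, 0, 0, 0, 2, 0, 0, 0, 2, 0, 0, 0, 2],
    [2, 0, 0, -2, 0, 2, 0, 0, 2, 0, 0, -2, 0, 0, 0, 0, 2, 0, 0, 0, 0, 0, -2, -2],
    [2, 0, 0, 2, 0, 2, 0, 0, 2, 0, 0, 2, 0, 0, 0, 0, 2, 0, 0, 0, 0, 0, 2, 2],
    [2, 0, 2, 2, 0, 0, 0, 2, 0, 0, 0, 2, 0, 2, 0, 2, 0, 0, 0, 0, 0, 0, 0, 2]],
  [[0, 0, 2, 2, 2, 0, 0, -2, 2, 0, 0, 0, 0, 0, -2, 2, 0, 2, 0, 0, 0, 0, 0, 0],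
    [-2, -2, 0, 0, -2, 0, 0, 2, 0, 0, 0, 0, 0, 0, 2, 0, 2, -2, 0, 2, 0, 0, 0, 0],
    [2, -2, 0, 0, -2, 0, 0, -2, 0, 0, 0, 0, 0, 0, -2, 0, 2, 2, 0, 2, 0, 0, 0, 0],
    [2, 0, 0, -2, 0, 0, -2, 0, 0, 0, 0, 0, 0, 2, 0, 2, 2, 0, -2, 0, 0, 0, -2, 0],
    [2, 0, 0, -2, 0, 0, 0, 0, 2, -2, 0, -2, 0, -2, 0, 0, 0, 0, 2, 2, 0, 0, 0, 0],
    [2, 0, 0, 2, 0, 0, 0, 0, 2, 2, 0, 2, 0, 2, 0, 0, 0, 0, 2, 2, 0, 0, 0, 0],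
    [2, 0, 0, 0, 0, 2, 0, 2, 0, 0, 0, 2, 0, 0, 2, 0, 0, 0, 2, 2, 0, 0, 0, 2]],
  [[1, -1, 1, 1, 1, 1, 1, -1, 1, -3, -1, -1, -1, 1, -1, 1, -1, 1, -1, 1, 1, 1, 1, 1],
    [0, -2, 0, 0, -2, 0, -2, 0, 0, 2, 0, 0, 0, 0, 2, 0, 2, 0, 2, 0, 0, 0, -2, 0],
    [0, -2, 0, 0, -2, 0, 2, 0, 0, 2, 0, 0, 0, 0, -2, 0, 2, 0, -2, 0, 0, 0, 2, 0],
    [2, 0, 0, -2, 2, 0, -2, -2, 0, 0, 0, 0, 0, 0, 2, 0, 0, 0, 0, 0, 0, 0, -2, 2],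
    [2, 0, 0, -2, -2, 2, 0, 2, 0, -2, 0, -2, 0, 0, 0, 0, 0, 2, 0, 0, 0, 0, 0, 0],
    [2, 0, 0, 2, 2, 2, 0, 2, 0, 2, 0, 2, 0, 0, 0, 0, 0, 2, 0, 0, 0, 0, 0, 0],
    [2, 0, 0, 0, 2, 0, 0, 0, 2, 0, 0, 2, 0, 2, 2, 0, 0, 2, 0, 0, 0, 0, 0, 2]]]

/-- traces of the members -/
def hsTraces2 : List (List (List ℤ)) := [
  [[0, -2, 0, 0, 0, 0, 0, -2, 2, 0, 0, 0, 0, 0, 0, 2, 0, 2, 0, 2, 0, 2, 2, 0],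
    [1, -1, 1, 1, -1, 1, 1, 1, 1, 1, -1, 1, -1, 1, 1, 1, 3, -1, 1, 1, 1, -1, -1, 1],
    [-1, -1, 1, 1, -1, 1, -1, -1, 1, 1, -1, -1, -1, -1, -1, -1, 3, 1, -1, 1, -1, -1, 1, -1],
    [3, 1, -1, -1, 1, -1, -1, -1, -1, -1, 1, 1, 1, 1, -1, 1, -1, -1, -1, -1, -1, -1, -1, 1],
    [2, 0, -2, -2, 0, 0, 0, 2, 0, 0, 0, -2, 0, -2, 0, -2, 0, 0, 0, 0, 0, 0, 0, -2],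
    [2, 0, 2, 2, 0, 0, 0, 2, 0, 0, 0, 2, 0, 2, 0, 2, 0, 0, 0, 0, 0, 0, 0, 2],
    [2, 0, 0, 2, 0, 2, 0, 0, 2, 0, 0, 2, 0, 0, 0, 0, 2, 0, 0, 0, 0, 0, 2, 2]],
  [[1, -1, 1, 1, 1, 1, 1, 1, 1, -1, -1, 1, 1, -1, -1, 1, -1, 3, 1, 1, 1, 1, 1, -1],
    [0, -2, 0, 0, 0, 0, 0, 0, 0, 2, 2, 0, 0, 2, 2, 0, 2, -2, 0, 0, 0, 0, 0, 2],
    [0, -2, 0, 0, 0, 0, 0, 0, 0, 2, 2, 0, 0, -2, -2, 0, 2, 2, 0, 0, 0, 0, 0, -2],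
    [2, 0, 0, -2, 0, 2, -2, 0, 0, -2, 0, 0, 0, 0, 0, 2, 0, 0, 0, -2, 0, 0, 0, 2],
    [2, 0, 0, -2, 0, 0, 0, 0, 0, 0, 0, -2, 0, 0, 2, -2, 0, 2, 0, 2, 0, 0, -2, 0],
    [2, 0, 0, 2, 0, 0, 0, 0, 0, 0, 0, 2, 0, 0, 2, 2, 0, 2, 0, 2, 0, 0, 2, 0],
    [2, 0, 2, 0, 0, 0, 0, 0, 0, 2, 0, 2, 0, 0, 0, 0, 2, 2, 0, 2, 0, 0, 0, 2]],
  [[1, -1, -1, 1, 1, 1, -1, -1, 1, -1, -1, 1, 1, 1, -1, 3, -1, 1, -1, 1, 1, -1, 1, -1],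
    [1, -1, -1, 1, -1, -1, 1, 1, 1, 1, 1, -1, -1, -1, 1, -1, 3, -1, 1, 1, -1, 1, -1, 1],
    [-1, -1, -1, 1, -1, -1, -1, -1, 1, 1, 1, 1, -1, 1, -1, 1, 3, 1, -1, 1, 1, 1, 1, -1],
    [3, 1, -1, -1, 1, 1, -1, -1, 1, -1, -1, 1, -1, 1, -1, 1, -1, 1, -1, 1, 1, 1, -1, 1],
    [2, 0, -2, -2, -2, 0, 0, 0, 0, 0, 0, -2, 0, 0, 2, 0, 2, 0, 2, 0, 0, 0, 0, 0],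
    [2, 0, 2, 2, 2, 0, 0, 0, 0, 0, 0, 2, 0, 0, 2, 0, 2, 0, 2, 0, 0, 0, 0, 0],
    [2, 0, 0, 0, 2, 0, 0, 0, 0, 2, 0, 2, 0, 0, 0, 2, 0, 0, 2, 0, 0, 0, 2, 2]],
  [[1, -1, 1, 1, 1, 1, 1, -1, -1, -1, 1, 1, 1, 1, -1, 3, -1, 1, 1, 1, -1, 1, 1, 1],
    [0, -2, 0, 0, 0, 0, 0, 2, 2, 2, 0, 0, 0, 0, 2, -2, 2, 0, 0, 0, 2, 0, 0, 0],
    [0, -2, 0, 0, 0, 0, 0, -2, 2, 2, 0, 0, 0, 0, -2, 2, 2, 0, 0, 0, -2, 0, 0, 0],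
    [2, 0, 0, -2, 0, 0, -2, 0, 0, 0, 0, 2, 0, 0, 0, 0, 0, 2, -2, 0, 0, -2, 0, 2],
    [2, 0, 0, -2, 0, 2, 2, 0, 0, 0, 0, -2, 0, -2, 2, 0, 0, 0, 0, 0, -2, 0, 0, 0],
    [2, 0, 0, 2, 0, 2, 2, 0, 0, 0, 0, 2, 0, 2, 2, 0, 0, 0, 0, 0, 2, 0, 0, 0],
    [2, 2, 0, 0, 0, 2, 0, 0, 0, 2, 0, 2, 0, 2, 0, 0, 0, 0, 0, 0, 0, 2, 0, 2]],
  [[0, 0, 2, 0, 2, 0, 0, 0, 0, 0, 0, 0, 0, 0, 0, 2, -2, 2, -2, 2, 0, 0, 2, 0],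
    [-1, -1, 1, -1, -1, 1, 1, 1, 1, 1, 1, 1, 1, -1, 1, -1, 3, -1, 1, -1, -1, -1, -1, 1],
    [1, -1, 1, -1, -1, 1, -1, -1, 1, 1, 1, -1, 1, 1, -1, 1, 3, 1, -1, -1, 1, -1, 1, -1],
    [3, -1, 1, -1, 1, 1, -1, -1, -1, -1, 1, 1, 1, -1, -1, 1, 1, 1, -1, 1, -1, 1, -1, 1],
    [2, -2, 0, -2, 0, 0, 0, 2, 2, 0, 0, -2, 0, 0, 2, 0, 0, 0, 0, 0, 0, -2, 0, 0],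
    [2, 2, 0, 2, 0, 0, 0, 2, 2, 0, 0, 2, 0, 0, 2, 0, 0, 0, 0, 0, 0, 2, 0, 0],
    [2, 0, 0, 0, 0, 0, 2, 2, 2, 2, 0, 2, 0, 0, 0, 0, 0, 0, 0, 0, 2, 0, 0, 2]],
  [[1, -1, 1, -1, 1, 1, 1, -1, 1, -1, 1, -1, -1, -1, -1, 3, -1, 1, 1, 1, 1, -1, 1, -1],
    [1, -1, 1, -1, -1, -1, -1, 1, 1, 1, -1, 1, 1, 1, 1, -1, 3, -1, -1, 1, -1, 1, -1, 1],
    [-1, -1, 1, -1, -1, -1, 1, -1, 1, 1, -1, -1, 1, -1, -1, 1, 3, 1, 1, 1, 1, 1, 1, -1],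
    [3, -1, 1, -1, 1, -1, -1, 1, -1, -1, -1, 1, 1, 1, 1, 1, -1, 1, -1, -1, 1, 1, -1, 1],
    [2, -2, 0, -2, 0, 2, 0, 0, 0, 0, 2, -2, 0, 0, 0, -2, 0, 0, 2, 0, 0, 0, 0, 0],
    [2, 2, 0, 2, 0, 2, 0, 0, 0, 0, 2, 2, 0, 0, 0, 2, 0, 0, 2, 0, 0, 0, 0, 0],
    [2, 0, 0, 0, 0, 0, 0, 0, 0, 0, 2, 2, 0, 2, 0, 0, 2, 0, 2, 0, 2, 0, 0, 2]],
  [[1, -1, 1, 1, 1, 3, -1, -1, 1, -1, 1, -1, 1, -1, -1, 1, -1, 1, -1, 1, -1, 1, 1, -1],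
    [0, -2, 0, 0, 0, -2, 0, 2, 0, 0, 0, 0, 0, 0, 2, 0, 2, 0, 0, 0, 0, -2, -2, 2],
    [0, -2, 0, 0, 0, -2, 0, -2, 0, 0, 0, 0, 0, 0, -2, 0, 2, 0, 0, 0, 0, -2, 2, -2],
    [2, 0, 0, -2, 2, 0, -2, 0, 0, -2, -2, 0, 0, 0, 0, 0, 0, 0, -2, 0, -2, 0, 0, 0],
    [2, 0, 0, -2, -2, 0, 0, 0, 0, 0, 2, -2, 0, -2, 0, 0, 0, 0, 0, 0, 0, -2, -2, 0],
    [2, 0, 0, 2, 2, 0, 0, 0, 0, 0, 2, 2, 0, 2, 0, 0, 0, 0, 0, 0, 0, 2, 2, 0],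
    [2, 0, 2, 0, 2, 2, 2, 0, 0, 0, 2, 2, 0, 0, 0, 0, 0, 0, 0, 0, 0, 0, 0, 2]],
  [[-1, -1, 1, 1, 1, 1, 1, -1, 1, -1, -1, -1, 1, 1, -1, 1, -1, 1, 1, 3, -1, -1, 1, -1],
    [-1, -1, 1, 1, -1, -1, -1, 1, 1, 1, 1, 1, -1, -1, 1, 1, 3, -1, -1, -1, 1, 1, -1, 1],
    [1, -1, 1, 1, -1, -1, 1, -1, 1, 1, 1, -1, -1, 1, -1, -1, 3, 1, 1, -1, -1, 1, 1, -1],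
    [3, 1, -1, -1, 1, 1, -1, 1, -1, -1, -1, 1, 1, -1, 1, 1, 1, -1, -1, 1, 1, -1, -1, 1],
    [2, 0, -2, -2, 0, 0, 0, 0, 2, 0, 2, -2, 0, 0, 0, 0, 0, 2, 0, 0, -2, 0, 0, 0],
    [2, 0, 2, 2, 0, 0, 0, 0, 2, 0, 2, 2, 0, 0, 0, 0, 0, 2, 0, 0, 2, 0, 0, 0],
    [2, 2, 0, 0, 0, 0, 0, 2, 0, 0, 2, 2, 0, 0, 0, 0, 0, 2, 0, 0, 0, 0, 2, 2]],
  [[0, -2, 2, 0, 0, 0, -2, 0, 0, -2, 0, 0, 0, 0, -2, 2, 0, 2, 0, 2, 0, 0, 0, 0],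
    [0, -2, 2, 0, 0, 0, 0, 0, 2, 0, 0, -2, 0, 0, 2, 0, 2, -2, 0, 0, 0, 0, -2, 0],
    [0, -2, 2, 0, 0, 0, 0, 0, 2, 0, 0, 2, 0, 0, -2, 0, 2, 2, 0, 0, 0, 0, 2, 0],
    [2, 0, 0, -2, 2, 0, -2, 0, 2, 0, 0, 2, 2, 0, 0, 2, 0, 0, 0, 0, 0, 0, 0, 0],
    [2, 0, 0, -2, 0, 0, 2, 2, 0, 0, 2, -2, 0, 0, 0, 0, 2, 0, 0, 2, 0, 0, 0, 0],
    [2, 0, 0, 2, 0, 0, 2, 2, 0, 0, 2, 2, 0, 0, 0, 0, 2, 0, 0, 2, 0, 0, 0, 0],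
    [2, 0, 0, 0, 0, 0, 0, 0, 2, 0, 2, 2, 0, 0, 0, 2, 0, 0, 0, 2, 0, 2, 0, 2]],
  [[1, -1, -1, 1, 1, -1, 1, -1, 3, -1, -1, -1, 1, -1, -1, 1, -1, 1, 1, 1, 1, -1, 1, 1],
    [1, -1, -1, 1, -1, 1, -1, 1, -1, 1, 1, 1, -1, 1, 1, 1, 3, -1, -1, 1, -1, 1, -1, -1],
    [-1, -1, -1, 1, -1, 1, 1, -1, -1, 1, 1, -1, -1, -1, -1, -1, 3, 1, 1, 1, 1, 1, 1, 1],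
    [3, 1, -1, -1, 1, 1, -1, 1, -1, 1, 1, -1, -1, 1, 1, 1, -1, -1, -1, -1, 1, 1, -1, 1],
    [2, 0, -2, -2, 0, 0, 0, 0, 0, -2, 0, 0, 2, 0, 0, -2, 0, 2, 2, 0, 0, 0, 0, 0],
    [2, 0, 2, 2, 0, 0, 0, 0, 0, 2, 0, 0, 2, 0, 0, 2, 0, 2, 2, 0, 0, 0, 0, 0],
    [2, 0, 0, 0, 0, 0, 0, 0, 0, 0, 0, 0, 2, 0, 2, 0, 2, 2, 2, 0, 0, 0, 2, 2]],
  [[1, -1, -1, 1, -1, -1, -1, -1, 1, -1, 1, 1, 1, 1, -1, 1, -1, 1, 1, 3, -1, -1, 1, 1],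
    [1, -1, -1, 1, 1, 1, 1, 1, 1, 1, -1, -1, -1, -1, 1, 1, 3, -1, -1, -1, 1, 1, -1, -1],
    [-1, -1, -1, 1, 1, 1, -1, -1, 1, 1, -1, 1, -1, 1, -1, -1, 3, 1, 1, -1, -1, 1, 1, 1],
    [3, 1, -1, -1, 1, -1, -1, 1, 1, 1, 1, 1, -1, -1, -1, 1, -1, -1, -1, 1, 1, -1, 1, 1],
    [2, 0, -2, -2, 0, 0, 2, 0, 0, 0, 0, 0, 2, 0, 0, 0, 2, 0, 0, 0, -2, 0, 0, -2],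
    [2, 0, 2, 2, 0, 0, 2, 0, 0, 0, 0, 0, 2, 0, 0, 0, 2, 0, 0, 0, 2, 0, 0, 2],
    [2, 2, 0, 2, 0, 0, 0, 0, 0, 0, 0, 0, 2, 0, 0, 2, 0, 0, 0, 0, 0, 2, 2, 2]],
  [[2, 0, 0, 2, 0, 0, -2, 0, 2, -2, 0, 0, 0, 0, -2, 0, -2, 2, 0, 0, 0, 0, 0, 0],
    [0, -2, -2, 0, 0, 0, 0, 0, -2, 0, 0, -2, 0, 0, 2, 0, 2, -2, 0, 0, 0, 0, -2, 0],
    [0, -2, -2, 0, 0, 0, 0, 0, -2, 0, 0, 2, 0, 0, -2, 0, 2, 2, 0, 0, 0, 0, 2, 0],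
    [2, 0, 0, -2, 2, 0, -2, 0, 2, 0, 0, -2, -2, 0, 0, 2, 0, 0, 0, 0, 0, 0, 0, 0],
    [2, 0, 0, -2, -2, 0, 0, 0, 0, -2, 0, 0, 2, 0, 0, 0, 2, 0, 0, 2, 0, 0, -2, 0],
    [2, 0, 0, 2, 2, 0, 0, 0, 0, 2, 0, 0, 2, 0, 0, 0, 2, 0, 0, 2, 0, 0, 2, 0],
    [2, 0, 2, 0, 2, 0, 0, 0, 0, 0, 0, 0, 2, 0, 2, 2, 0, 0, 0, 2, 0, 0, 0, 2]],
  [[2, 0, 0, 2, 0, 0, 0, -2, 2, -2, 2, 0, 0, 0, 0, 2, 0, 0, 0, 0, 0, 0, 2, 0],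
    [0, -2, -2, 0, 0, 0, 0, 2, 0, 2, -2, 0, 0, 0, 0, 0, 2, 0, 0, 2, 0, 0, -2, 0],
    [0, -2, -2, 0, 0, 0, 0, -2, 0, 2, -2, 0, 0, 0, 0, 0, 2, 0, 0, 2, 0, 0, 2, 0],
    [2, 0, 0, -2, 2, -2, 0, 0, 0, 0, 0, 0, -2, 2, 0, 0, 0, 0, -2, 0, 0, 0, 0, 2],
    [2, 0, 0, -2, -2, 2, 0, 0, 0, 0, 0, 0, 2, -2, 0, 0, 0, 0, 2, 0, 0, 0, 0, -2],
    [2, 0, 0, 2, 2, 2, 0, 0, 0, 0, 0, 0, 2, 2, 0, 0, 0, 0, 2, 0, 0, 0, 0, 2],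
    [2, 0, 0, 2, 2, 2, 0, 0, 0, 0, 0, 0, 2, 2, 0, 0, 0, 0, 2, 0, 0, 0, 0, 2]],
  [[2, 0, 0, 0, 0, 0, 0, 0, 2, 0, 2, 0, 0, -2, 0, 0, -2, 2, 0, 2, 0, 0, 2, 0],
    [1, -1, -1, -1, 1, 1, 1, 1, -1, 1, -1, 1, 1, 1, 1, 1, 3, -1, -1, -1, -1, -1, -1, 1],
    [-1, -1, -1, -1, 1, 1, -1, -1, -1, 1, -1, -1, 1, -1, -1, -1, 3, 1, 1, -1, 1, -1, 1, -1],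
    [3, -1, 1, -1, 1, -1, -1, 1, -1, -1, 1, -1, -1, -1, -1, 1, -1, -1, -1, -1, -1, 1, 1, 1],
    [2, -2, 0, -2, 0, 0, 0, 0, 0, 0, 0, 0, 2, 0, 0, -2, 0, 0, 0, 0, 0, -2, -2, -2],
    [2, 2, 0, 2, 0, 0, 0, 0, 0, 0, 0, 0, 2, 0, 0, 2, 0, 0, 0, 0, 0, 2, 2, 2],
    [2, 0, 2, 2, 0, 0, 2, 0, 0, 0, 0, 0, 2, 0, 0, 0, 2, 0, 0, 0, 2, 0, 0, 2]],
  [[1, 1, 1, 1, 1, -1, 1, -1, 1, -1, 1, -1, -1, 1, -1, 1, -3, 1, 1, 1, -1, -1, 1, 1],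
    [-1, -1, -1, -1, -1, 1, -1, 1, -1, 1, -1, 1, 1, -1, 1, -1, 3, -1, -1, -1, 1, 1, -1, -1],
    [1, -1, -1, -1, -1, 1, 1, -1, -1, 1, -1, -1, 1, 1, -1, 1, 3, 1, 1, -1, -1, 1, 1, 1],
    [3, -1, 1, -1, 1, -1, -1, 1, -1, 1, 1, -1, -1, -1, 1, 1, 1, 1, -1, 1, 1, -1, -1, 1],
    [2, -2, 0, -2, 0, 2, 0, 0, 2, -2, 0, 0, 2, 0, 0, 0, 0, 0, 0, 0, -2, 0, 0, 0],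
    [2, 2, 0, 2, 0, 2, 0, 0, 2, 2, 0, 0, 2, 0, 0, 0, 0, 0, 0, 0, 2, 0, 0, 0],
    [2, 2, 0, 0, 0, 0, 0, 2, 0, 0, 0, 0, 2, 2, 2, 0, 0, 0, 0, 0, 2, 0, 0, 2]],
  [[1, -1, 1, 1, 1, -1, -1, -1, 1, -1, 1, -1, 1, -1, -1, 1, -1, 1, -1, 1, -1, 1, 1, 3],
    [0, -2, 0, 0, 0, 2, 0, 2, 0, 0, 0, 0, 0, 0, 2, 0, 2, 0, 0, 0, 0, -2, -2, -2],
    [0, -2, 0, 0, 0, 2, 0, -2, 0, 0, 0, 0, 0, 0, -2, 0, 2, 0, 0, 0, 0, -2, 2, 2],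
    [2, 0, 0, -2, 2, 0, -2, 0, 0, 2, 2, 0, 0, 0, 0, 0, 0, 0, -2, 0, -2, 0, 0, 0],
    [2, 0, 0, -2, 0, 0, 2, 2, 0, -2, 0, 0, 2, -2, 0, 0, 0, 0, 0, 0, 0, -2, 0, 0],
    [2, 0, 0, 2, 0, 0, 2, 2, 0, 2, 0, 0, 2, 2, 0, 0, 0, 0, 0, 0, 0, 2, 0, 0],
    [2, 0, 0, 0, 0, 2, 2, 0, 2, 0, 0, 0, 2, 0, 2, 0, 0, 0, 0, 0, 0, 2, 0, 2]],
  [[0, 0, 2, 2, 0, -2, 0, 0, 2, -2, 0, 0, 0, 0, 0, 0, 0, 2, 0, 2, 0, 0, 2, 0],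
    [-2, -2, 0, 0, 0, 2, 0, 0, 0, 2, 0, 0, 0, 0, 0, 2, 2, -2, 0, 0, 0, 0, -2, 0],
    [2, -2, 0, 0, 0, 2, 0, 0, 0, 2, 0, 0, 0, 0, 0, -2, 2, 2, 0, 0, 0, 0, 2, 0],
    [2, 0, 0, -2, 2, 0, 0, 0, 0, 0, 2, 0, 0, 0, 0, 2, 2, -2, 0, 0, 0, 0, 0, 2],
    [2, 0, 0, -2, 0, 0, 0, 2, 2, 0, 0, 0, 2, 0, 0, 0, 0, 2, 0, 2, 0, 0, 0, -2],
    [2, 0, 0, 2, 0, 0, 0, 2, 2, 0, 0, 0, 2, 0, 0, 0, 0, 2, 0, 2, 0, 0, 0, 2],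
    [2, 0, 0, 2, 0, 0, 0, 2, 2, 0, 0, 0, 2, 0, 0, 0, 0, 2, 0, 2, 0, 0, 0, 2]],
  [[1, 1, 1, 1, 1, -1, -1, 1, 1, -1, 1, 1, 1, -1, -1, 3, -1, 1, 1, 1, 1, -1, 1, 1],
    [-1, -1, -1, -1, 1, 1, 1, 1, 1, 1, 1, -1, 1, 1, 1, -1, 3, -1, -1, 1, -1, 1, -1, -1],
    [1, -1, -1, -1, 1, 1, -1, -1, 1, 1, 1, 1, 1, -1, -1, 1, 3, 1, 1, 1, 1, 1, 1, 1],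
    [3, -1, 1, -1, 1, 1, -1, 1, 1, 1, 1, 1, -1, 1, -1, 1, 1, 1, -1, -1, 1, 1, 1, 1],
    [2, -2, 0, -2, 0, 0, 2, 0, 0, 0, 0, 0, 2, 0, 2, 0, 0, 0, 2, 2, 0, 0, 0, 0],
    [2, 2, 0, 2, 0, 0, 2, 0, 0, 0, 0, 0, 2, 0, 2, 0, 0, 0, 2, 2, 0, 0, 0, 0],
    [2, 0, 0, 0, 0, 0, 0, 0, 0, 2, 0, 0, 2, 0, 0, 0, 0, 0, 2, 2, 2, 2, 0, 2]],
  [[2, 0, 0, 2, 2, 0, 0, 0, 0, -2, 0, 0, 2, 0, 0, 0, -2, 0, 0, 2, 0, 0, 2, 0],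
    [0, -2, -2, 0, 0, 0, 0, 2, 0, 2, 2, 0, 0, 0, 0, 0, 2, 0, 0, -2, 0, 0, -2, 0],
    [0, -2, -2, 0, 0, 0, 0, -2, 0, 2, 2, 0, 0, 0, 0, 0, 2, 0, 0, -2, 0, 0, 2, 0],
    [2, 0, 0, -2, 2, 2, 0, 0, 0, 0, 0, 0, -2, -2, 0, 0, 0, 0, -2, 0, 0, 0, 0, 2],
    [2, 0, 0, -2, -2, 0, 0, 0, 0, 0, 0, 0, 2, 0, 2, 0, 0, 2, 0, 0, -2, -2, 0, 0],
    [2, 0, 0, 2, 2, 0, 0, 0, 0, 0, 0, 0, 2, 0, 2, 0, 0, 2, 0, 0, 2, 2, 0, 0],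
    [2, 2, 0, 0, 2, 0, 2, 0, 0, 2, 0, 0, 2, 0, 0, 0, 0, 2, 0, 0, 0, 0, 0, 2]],
  [[0, 0, 0, 2, 0, 0, 0, 0, 2, 0, 0, 0, 2, 0, 0, 2, -2, 2, 0, 0, -2, 0, 2, 0],
    [-1, -1, -1, 1, 1, 1, 1, 1, -1, 1, 1, 1, -1, -1, 1, -1, 3, -1, -1, 1, 1, -1, -1, 1],
    [1, -1, -1, 1, 1, 1, -1, -1, -1, 1, 1, -1, -1, 1, -1, 1, 3, 1, 1, 1, -1, -1, 1, -1],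
    [3, 1, -1, -1, 1, 1, -1, 1, -1, -1, 1, -1, -1, 1, -1, 1, 1, 1, -1, 1, -1, -1, 1, 1],
    [2, 0, -2, -2, 0, 0, 0, 0, 2, 0, 0, 0, 2, -2, 2, 0, 0, 0, 0, 0, 0, 0, -2, 0],
    [2, 0, 2, 2, 0, 0, 0, 0, 2, 0, 0, 0, 2, 2, 2, 0, 0, 0, 0, 0, 0, 0, 2, 0],
    [2, 0, 2, 0, 0, 2, 0, 2, 0, 2, 0, 0, 2, 0, 0, 0, 0, 0, 0, 0, 0, 0, 2, 2]],
  [[2, -2, 0, 0, 0, -2, 0, 0, 0, -2, 0, 0, 0, 0, 0, 2, -2, 2, 0, 0, 0, 0, 2, 0],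
    [2, -2, 0, 0, 0, 2, 0, 0, 0, 2, 0, 0, 0, 0, 0, -2, 2, -2, 0, 0, 0, 0, -2, 0],
    [-2, -2, 0, 0, 0, 2, 0, 0, 0, 2, 0, 0, 0, 0, 0, 2, 2, 2, 0, 0, 0, 0, 2, 0],
    [2, 0, 0, -2, 2, 0, 0, 0, 0, 0, 2, 0, 0, 0, 0, 2, -2, 2, 0, 0, 0, 0, 0, 2],
    [2, 0, 0, -2, 0, 2, 0, 2, 0, 0, 0, 0, 2, 0, 2, -2, 2, 0, 0, 0, 0, 0, 0, 0],
    [2, 0, 0, 2, 0, 2, 0, 2, 0, 0, 0, 0, 2, 0, 2, 2, 2, 0, 0, 0, 0, 0, 0, 0],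
    [2, 0, 0, 0, 0, 0, 0, 0, 2, 2, 0, 0, 2, 2, 0, 2, 2, 0, 0, 0, 0, 0, 0, 2]],
  [[1, -1, 1, 1, -1, 1, 1, 1, 1, -3, 1, -1, 1, -1, -1, 1, -1, 1, 1, 1, -1, -1, 1, 1],
    [0, -2, 0, 0, 2, 0, -2, 0, 0, 2, 0, 0, 0, 0, 2, 0, 2, 0, -2, 0, 0, 0, -2, 0],
    [0, -2, 0, 0, 2, 0, 2, 0, 0, 2, 0, 0, 0, 0, -2, 0, 2, 0, 2, 0, 0, 0, 2, 0],
    [2, 0, 0, -2, 2, 0, -2, 2, 0, 0, 0, 0, 0, 0, 2, 0, 0, 0, 0, 0, 0, 0, 2, 2],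
    [2, 0, 0, -2, 0, 2, 2, 0, 0, 0, 2, 0, 2, 0, 0, 0, 0, 2, 0, 0, 0, 0, -2, 0],
    [2, 0, 0, 2, 0, 2, 2, 0, 0, 0, 2, 0, 2, 0, 0, 0, 0, 2, 0, 0, 0, 0, 2, 0],
    [2, 0, 2, 0, 0, 0, 0, 0, 0, 0, 2, 0, 2, 2, 0, 0, 0, 2, 0, 0, 0, 2, 0, 2]],
  [[1, -1, 1, 1, 1, -1, -1, -1, 1, -1, 1, -1, 1, -1, -1, 1, -1, 1, 3, 1, -1, 1, 1, -1],
    [0, -2, 0, 0, 0, 0, 0, 2, 0, 0, 0, 0, 0, 2, 0, 0, 2, -2, -2, 0, 2, 0, -2, 0],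
    [0, -2, 0, 0, 0, 0, 0, -2, 0, 0, 0, 0, 0, -2, 0, 0, 2, 2, 2, 0, -2, 0, 2, 0],
    [2, 0, 0, -2, 2, 0, 0, 2, 0, 0, 0, 0, 0, 0, 0, 2, 0, 0, -2, -2, 0, -2, 0, 0],
    [2, 0, 0, -2, 0, 0, 0, 0, 0, 0, 2, 0, 2, -2, 0, -2, 0, 0, 0, 2, -2, 0, 0, 0],
    [2, 0, 0, 2, 0, 0, 0, 0, 0, 0, 2, 0, 2, 2, 0, 2, 0, 0, 0, 2, 2, 0, 0, 0],
    [2, 2, 0, 0, 0, 2, 0, 0, 0, 0, 2, 0, 2, 0, 0, 0, 2, 0, 0, 2, 0, 0, 0, 2]],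
  [[1, -1, 1, 1, 1, -1, -1, -1, 1, -1, 1, -1, 1, -1, -1, 1, -1, 1, -1, 1, -1, -3, 1, -1],
    [0, -2, 0, 0, 0, 0, 0, 2, 0, 0, 0, 0, 0, -2, 0, 0, 2, -2, -2, 0, -2, 0, -2, 0],
    [0, -2, 0, 0, 0, 0, 0, -2, 0, 0, 0, 0, 0, 2, 0, 0, 2, 2, 2, 0, 2, 0, 2, 0],
    [2, 0, 0, -2, 2, 0, 0, 2, 0, 0, 0, 0, 0, 0, 0, 2, 0, 0, -2, 2, 0, 2, 0, 0],
    [2, 0, 0, -2, 0, 0, 0, 0, 2, 0, 2, 0, 2, 0, 0, 0, 2, 0, 2, 0, 0, -2, 0, 0],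
    [2, 0, 0, 2, 0, 0, 0, 0, 2, 0, 2, 0, 2, 0, 0, 0, 2, 0, 2, 0, 0, 2, 0, 0],
    [2, 0, 0, 0, 0, 0, 2, 2, 0, 0, 2, 0, 2, 0, 0, 2, 0, 0, 2, 0, 0, 0, 0, 2]],
  [[0, 0, 0, 0, 0, 0, -2, 0, 2, -2, 0, -2, 0, 0, 0, 2, -2, 0, 0, 2, 0, 0, 2, 0],
    [0, 0, 0, 0, 0, 0, 0, 0, 0, 0, 0, 0, 0, 0, 0, 0, 4, 0, 0, 0, 0, 0, -4, 0],
    [0, 0, 0, 0, 0, 0, 0, 0, 0, 0, 0, 0, 0, 0, 0, 0, 4, 0, 0, 0, 0, 0, 4, 0],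
    [4, 0, 0, 0, 4, 0, 0, 0, 0, 0, 0, 0, 0, 0, 0, 0, 0, 0, 0, 0, 0, 0, 0, 0],
    [2, -2, -2, -2, -2, 0, 0, 2, 0, 0, 2, 0, 2, 0, 0, 0, 0, 0, 0, 0, 0, 0, 0, 0],
    [2, 2, 2, 2, 2, 0, 0, 2, 0, 0, 2, 0, 2, 0, 0, 0, 0, 0, 0, 0, 0, 0, 0, 0],
    [2, 0, 0, 0, 2, 0, 0, 0, 2, 0, 2, 0, 2, 0, 0, 0, 0, 0, 0, 0, 2, 0, 2, 2]]]

/-- traces of the members -/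
def hsTraces3 : List (List (List ℤ)) := [
  [[2, 0, 0, 0, 2, 0, 0, 0, 2, -2, 0, 0, 0, 0, 0, 2, 0, 2, 0, 2, -2, 0, 0, 0],
    [1, -1, -1, -1, -1, 1, -1, 1, 1, 1, 1, -1, 1, -1, 1, 1, 3, -1, -1, 1, 1, -1, -1, 1],
    [-1, -1, -1, -1, -1, 1, 1, -1, 1, 1, 1, 1, 1, 1, -1, -1, 3, 1, 1, 1, -1, -1, 1, -1],
    [3, -1, 1, -1, 1, 1, -1, 1, 1, -1, 1, 1, -1, 1, 1, 1, -1, -1, -1, 1, -1, -1, -1, 1],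
    [2, -2, 0, -2, 0, 0, 0, 0, 0, 0, 0, -2, 2, -2, 0, 0, 2, 2, 0, 0, 0, 0, 0, 0],
    [2, 2, 0, 2, 0, 0, 0, 0, 0, 0, 0, 2, 2, 2, 0, 0, 2, 2, 0, 0, 0, 0, 0, 0],
    [2, 0, 0, 0, 0, 2, 0, 0, 0, 0, 0, 2, 2, 0, 0, 2, 0, 2, 0, 0, 2, 0, 0, 2]],
  [[0, 0, 0, 2, 0, 0, 0, -2, 0, -2, 0, 0, 0, -2, 0, 2, -2, 2, 0, 2, 0, 0, 0, 0],
    [-1, -1, -1, 1, -1, 1, -1, 1, 1, 1, -1, -1, -1, 1, 1, -1, 3, -1, -1, -1, -1, -1, -1, 1],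
    [1, -1, -1, 1, -1, 1, 1, -1, 1, 1, -1, 1, -1, -1, -1, 1, 3, 1, 1, -1, 1, -1, 1, -1],
    [3, 1, -1, -1, 1, -1, -1, 1, 1, -1, 1, 1, -1, -1, 1, 1, 1, 1, -1, -1, -1, 1, -1, 1],
    [2, 0, -2, -2, 0, 2, 0, 0, 0, 0, 0, -2, 2, 0, 0, 0, 0, 0, 0, 2, 0, -2, 0, 0],
    [2, 0, 2, 2, 0, 2, 0, 0, 0, 0, 0, 2, 2, 0, 0, 0, 0, 0, 0, 2, 0, 2, 0, 0],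
    [2, 0, 0, 0, 0, 0, 2, 0, 0, 0, 0, 2, 2, 2, 0, 0, 0, 0, 0, 2, 0, 0, 2, 2]],
  [[2, 0, 0, 2, 0, 0, 0, 0, 0, 0, 0, -2, 0, 0, -2, 2, 0, 2, 0, 2, 0, 0, 2, 0],
    [0, -2, -2, 0, 0, 0, 0, 0, 2, 0, 0, 2, 0, 0, 2, 0, 2, -2, 0, 0, 0, 0, -2, 0],
    [0, -2, -2, 0, 0, 0, 0, 0, 2, 0, 0, -2, 0, 0, -2, 0, 2, 2, 0, 0, 0, 0, 2, 0],
    [2, 0, 0, -2, 2, 0, -2, 0, -2, 0, 0, 2, -2, 0, 0, 2, 0, 0, 0, 0, 0, 0, 0, 0],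
    [2, 0, 0, -2, -2, 0, 2, 0, 2, 0, 0, -2, 2, 0, 0, -2, 0, 0, 0, 0, 0, 0, 0, 0],
    [2, 0, 0, 2, 2, 0, 2, 0, 2, 0, 0, 2, 2, 0, 0, 2, 0, 0, 0, 0, 0, 0, 0, 0],
    [2, 0, 0, 0, 2, 0, 0, 2, 0, 0, 0, 2, 2, 0, 0, 0, 2, 0, 0, 0, 0, 2, 0, 2]],
  [[1, -1, 1, 1, 1, 1, -1, -1, 1, -1, 1, -1, 1, 1, 1, 1, -1, 3, 1, 1, 1, -1, 1, 1],
    [0, -2, 0, 0, 0, 2, 0, 2, 0, 0, 0, 0, 0, 0, 2, 0, 2, 0, 0, 0, 0, 2, -2, 2],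
    [0, -2, 0, 0, 0, 2, 0, -2, 0, 0, 0, 0, 0, 0, -2, 0, 2, 0, 0, 0, 0, 2, 2, -2],
    [2, 0, 0, -2, 2, 0, -2, 0, 0, -2, 2, 0, 0, 0, 0, 0, 0, 0, -2, 0, 2, 0, 0, 0],
    [2, 0, 0, -2, 0, 0, 0, 2, 0, 0, 0, -2, 2, 0, 0, 0, 0, 0, 2, 0, -2, 0, -2, 0],
    [2, 0, 0, 2, 0, 0, 0, 2, 0, 0, 0, 2, 2, 0, 0, 0, 0, 0, 2, 0, 2, 0, 2, 0],
    [2, 2, 2, 0, 0, 0, 0, 0, 2, 0, 0, 2, 2, 0, 0, 0, 0, 0, 2, 0, 0, 0, 0, 2]],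
  [[1, -1, 1, 1, 1, 1, -1, -1, 1, -1, -1, 1, -1, -1, -1, 1, -1, 1, 1, 1, -1, -1, 3, 1],
    [0, -2, 0, 0, -2, 0, 2, 0, 0, 2, 0, 0, 0, 0, 2, 0, 2, 0, -2, 0, 0, 0, -2, 0],
    [0, -2, 0, 0, -2, 0, -2, 0, 0, 2, 0, 0, 0, 0, -2, 0, 2, 0, 2, 0, 0, 0, 2, 0],
    [2, 0, 0, -2, 2, 0, -2, 2, 0, 0, 0, 0, 0, 0, -2, 0, 0, 0, 0, 0, 0, 0, -2, 2],
    [2, 0, 0, -2, 0, 0, 0, 0, 0, -2, 2, -2, 2, 0, 2, 0, 0, 0, 0, 0, 0, 0, 0, -2],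
    [2, 0, 0, 2, 0, 0, 0, 0, 0, 2, 2, 2, 2, 0, 2, 0, 0, 0, 0, 0, 0, 0, 0, 2],
    [2, 0, 0, 2, 0, 0, 0, 0, 0, 2, 2, 2, 2, 0, 2, 0, 0, 0, 0, 0, 0, 0, 0, 2]],
  [[0, 0, 0, 0, 2, -2, 0, -2, 0, -2, 0, 0, 0, 0, -2, 2, 0, 0, 0, 2, 0, 0, 2, 0],
    [0, 0, 0, 0, -2, 0, 0, 2, 2, 2, 0, 0, 0, 0, 0, 0, 2, -2, 0, 0, 0, 0, -2, -2],
    [0, 0, 0, 0, -2, 0, 0, -2, 2, 2, 0, 0, 0, 0, 0, 0, 2, 2, 0, 0, 0, 0, 2, 2],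
    [2, 0, 0, 0, 2, 0, 0, 0, 0, 2, 0, 2, 0, 0, 0, 2, 0, 0, -2, 0, 0, 0, -2, 2],
    [1, -1, -1, -1, -1, 1, 1, 1, 1, -1, 1, -1, 1, -1, 1, -1, 1, 1, 1, 1, -1, -1, 3, -1],
    [1, 1, 1, 1, 1, 1, 1, 1, 1, 1, 1, 1, 1, 1, 1, 1, 1, 1, 1, 1, 1, 1, -3, 1],
    [1, 1, -3, 1, 1, 1, 1, 1, 1, 1, 1, 1, 1, 1, 1, 1, 1, 1, 1, 1, 1, 1, 1, 1]],
  [[0, 0, 0, 0, 2, 0, 0, 0, 0, -2, 0, -2, 2, 0, -2, 2, -2, 2, 0, 0, 0, 0, 0, 0],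
    [0, 0, 0, 0, 0, 0, -2, 2, 0, 0, 2, 0, 0, 0, 2, -2, 2, -2, 0, 0, 0, 0, -2, 0],
    [0, 0, 0, 0, 0, 0, 2, -2, 0, 0, 2, 0, 0, 0, -2, 2, 2, 2, 0, 0, 0, 0, 2, 0],
    [2, 0, 0, 0, 2, 2, -2, 0, 0, 0, 0, 0, 0, 0, 2, 2, 0, 2, -2, 0, 0, 0, 0, 0],
    [1, -1, -1, -1, -1, 1, 1, 1, 1, -1, 1, -1, 1, -1, 1, -1, 1, 1, 1, 1, -1, -1, -1, 3],
    [1, 1, 1, 1, 1, 1, 1, 1, 1, 1, 1, 1, 1, 1, 1, 1, 1, 1, 1, 1, 1, 1, 1, -3],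
    [1, 1, 1, -3, 1, 1, 1, 1, 1, 1, 1, 1, 1, 1, 1, 1, 1, 1, 1, 1, 1, 1, 1, 1]],
  [[-1, -1, 1, -1, 1, -1, 1, -1, 1, -1, 1, 1, 1, -1, -1, 1, -1, 3, 1, 1, -1, -1, 1, 1],
    [0, 0, 2, 0, 0, 2, 0, 2, 0, 2, 0, 0, 0, 0, 2, 0, 2, -2, -2, 0, 0, 0, 0, 0],
    [0, 0, 2, 0, 0, 2, 0, -2, 0, 2, 0, 0, 0, 0, -2, 0, 2, 2, 2, 0, 0, 0, 0, 0],
    [2, 0, 0, 0, 0, 0, -2, 2, 0, 0, 2, 0, 2, 0, 0, 2, 0, 0, -2, 0, 0, 0, 0, 2],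
    [1, -1, -1, -1, 3, 1, 1, 1, 1, -1, 1, -1, 1, -1, 1, -1, 1, 1, 1, 1, -1, -1, -1, -1],
    [1, 1, 1, 1, -3, 1, 1, 1, 1, 1, 1, 1, 1, 1, 1, 1, 1, 1, 1, 1, 1, 1, 1, 1],
    [1, 1, 1, 1, -3, 1, 1, 1, 1, 1, 1, 1, 1, 1, 1, 1, 1, 1, 1, 1, 1, 1, 1, 1]],
  [[0, 0, 0, 0, 0, 0, 0, 0, 0, -2, 0, 0, 0, 0, -2, 0, -2, 2, 0, 2, 2, -2, 2, 0],
    [0, 0, 0, 0, 0, 0, 0, 0, 0, 2, 0, 0, 0, 0, 2, 0, 2, -2, 0, -2, -2, 2, -2, 0],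
    [0, 0, 0, 0, 0, 0, 0, 0, 0, 2, 0, 0, 0, 0, -2, 0, 2, 2, 0, -2, 2, 2, 2, 0],
    [2, 0, 0, 0, 2, 0, -2, 0, 0, 0, 0, 0, 0, -2, 0, 2, 0, 0, 0, 0, 2, 2, 0, 2],
    [1, -1, -1, -1, -1, 1, 1, 1, 1, -1, 1, -1, 1, 3, 1, -1, 1, 1, 1, 1, -1, -1, -1, -1],
    [1, 1, 1, 1, 1, 1, 1, 1, 1, 1, 1, 1, 1, -3, 1, 1, 1, 1, 1, 1, 1, 1, 1, 1],
    [1, 1, 1, 1, 1, -3, 1, 1, 1, 1, 1, 1, 1, 1, 1, 1, 1, 1, 1, 1, 1, 1, 1, 1]],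
  [[0, 0, 0, 0, 0, 0, 0, 0, 2, -2, 0, 0, 0, 2, -2, 2, 0, 2, 2, 0, 0, 0, 2, 0],
    [0, 0, 0, 0, 0, 0, 0, 0, 0, 2, 0, 0, 0, 0, 2, 0, 2, -2, 0, 2, 2, 2, -2, 0],
    [0, 0, 0, 0, 0, 0, 0, 0, 0, 2, 0, 0, 0, 0, -2, 0, 2, 2, 0, 2, -2, 2, 2, 0],
    [2, 0, 0, 0, 2, 0, -2, 0, 0, 0, 0, 0, 0, 2, 0, 2, 0, 0, 0, 0, 2, -2, 0, 2],
    [1, -1, -1, -1, -1, 1, 1, 1, 1, -1, 1, -1, 1, -1, 1, -1, 1, 1, 1, 1, -1, 3, -1, -1],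
    [1, 1, 1, 1, 1, 1, 1, 1, 1, 1, 1, 1, 1, 1, 1, 1, 1, 1, 1, 1, 1, -3, 1, 1],
    [1, 1, 1, 1, 1, 1, -3, 1, 1, 1, 1, 1, 1, 1, 1, 1, 1, 1, 1, 1, 1, 1, 1, 1]],
  [[1, -1, -1, -1, 1, 1, -1, -1, 1, -3, 1, 1, 1, -1, -1, 1, -1, 1, 1, 1, 1, 1, 1, 1],
    [2, 0, 0, 0, 0, 0, 0, 2, 0, 2, 0, -2, 0, 2, 2, 0, 2, 0, 0, 0, 0, 0, -2, 0],
    [-2, 0, 0, 0, 0, 0, 0, -2, 0, 2, 0, 2, 0, -2, -2, 0, 2, 0, 0, 0, 0, 0, 2, 0],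
    [2, 0, 0, 0, 2, 0, -2, 0, 2, 0, 0, 0, 0, 0, 0, 0, -2, 0, -2, -2, 0, 0, 0, 2],
    [1, -1, -1, -1, -1, 1, 1, 1, -3, -1, 1, -1, 1, -1, 1, -1, 1, 1, 1, 1, -1, -1, -1, -1],
    [1, 1, 1, 1, 1, 1, 1, 1, -3, 1, 1, 1, 1, 1, 1, 1, 1, 1, 1, 1, 1, 1, 1, 1],
    [1, 1, 1, 1, 1, 1, 1, -3, 1, 1, 1, 1, 1, 1, 1, 1, 1, 1, 1, 1, 1, 1, 1, 1]],
  [[1, 1, -1, 1, 1, 1, 1, -1, 1, -1, 1, 1, 1, -1, -3, 1, -1, 1, 1, 1, -1, -1, 1, -1],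
    [0, 0, -2, 0, 0, -2, 0, 2, 0, 2, 0, 0, 0, 0, 2, 0, 2, -2, -2, 0, 0, 0, 0, 0],
    [0, 0, -2, 0, 0, -2, 0, -2, 0, 2, 0, 0, 0, 0, -2, 0, 2, 2, 2, 0, 0, 0, 0, 0],
    [2, 0, 0, 0, 0, 0, -2, 2, 0, 0, -2, 0, -2, 0, 0, 2, 0, 0, -2, 0, 0, 0, 0, 2],
    [1, -1, -1, -1, -1, 1, 1, -3, 1, -1, 1, -1, 1, -1, 1, -1, 1, 1, 1, 1, -1, -1, -1, -1],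
    [1, 1, 1, 1, 1, 1, 1, -3, 1, 1, 1, 1, 1, 1, 1, 1, 1, 1, 1, 1, 1, 1, 1, 1],
    [1, 1, 1, 1, 1, 1, 1, 1, -3, 1, 1, 1, 1, 1, 1, 1, 1, 1, 1, 1, 1, 1, 1, 1]],
  [[0, 0, 0, 0, 0, 0, 0, -2, 2, -2, 2, -2, 0, 0, -2, 0, 0, 2, 0, 2, 0, 0, 0, 0],
    [0, 0, 0, 0, 0, 0, -2, 2, 0, 0, -2, 0, 0, 0, 2, 2, 2, -2, 0, 0, 0, 0, -2, 0],
    [0, 0, 0, 0, 0, 0, 2, -2, 0, 0, -2, 0, 0, 0, -2, -2, 2, 2, 0, 0, 0, 0, 2, 0],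
    [2, 0, 0, 0, 2, -2, -2, 0, 0, 0, 0, 0, 0, 0, 2, 2, 0, -2, -2, 0, 0, 0, 0, 0],
    [1, -1, -1, -1, -1, 1, 1, 1, 1, -1, 1, -1, 1, -1, -3, -1, 1, 1, 1, 1, -1, -1, -1, -1],
    [1, 1, 1, 1, 1, 1, 1, 1, 1, 1, 1, 1, 1, 1, -3, 1, 1, 1, 1, 1, 1, 1, 1, 1],
    [1, 1, 1, 1, 1, 1, 1, 1, 1, -3, 1, 1, 1, 1, 1, 1, 1, 1, 1, 1, 1, 1, 1, 1]],
  [[1, 1, -1, 1, 1, -1, 1, -1, 1, -1, 1, 1, 1, 1, -1, 1, -1, 3, -1, 1, 1, 1, 1, 1],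
    [0, 0, -2, 0, 0, 2, 0, 2, 0, 2, 0, 0, 0, 0, 2, 0, 2, -2, 2, 0, 0, 0, 0, 0],
    [0, 0, -2, 0, 0, 2, 0, -2, 0, 2, 0, 0, 0, 0, -2, 0, 2, 2, -2, 0, 0, 0, 0, 0],
    [2, 0, 0, 0, 0, 0, -2, -2, 0, 0, 2, 0, -2, 0, 0, 2, 0, 0, -2, 0, 0, 0, 0, 2],
    [1, -1, -1, -1, -1, 1, 1, 1, 1, -1, -3, -1, 1, -1, 1, -1, 1, 1, 1, 1, -1, -1, -1, -1],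
    [1, 1, 1, 1, 1, 1, 1, 1, 1, 1, -3, 1, 1, 1, 1, 1, 1, 1, 1, 1, 1, 1, 1, 1],
    [1, 1, 1, 1, 1, 1, 1, 1, 1, 1, -3, 1, 1, 1, 1, 1, 1, 1, 1, 1, 1, 1, 1, 1]],
  [[0, 0, 0, 0, 0, -2, 0, 0, 2, -2, 2, 0, 2, 0, -2, 0, -2, 0, 0, 0, 0, 0, 2, 0],
    [0, 0, 0, 0, 2, 0, 0, 2, -2, 2, 0, 0, 0, 0, 0, 0, 2, -2, 0, 0, 0, 0, -2, -2],
    [0, 0, 0, 0, 2, 0, 0, -2, -2, 2, 0, 0, 0, 0, 0, 0, 2, 2, 0, 0, 0, 0, 2, 2],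
    [2, 0, 0, 0, 2, 0, 0, 0, 0, 2, 0, -2, 0, 0, 0, 2, 0, 0, -2, 0, 0, 0, 2, 2],
    [1, -1, -1, -1, -1, 1, 1, 1, 1, -1, 1, 3, 1, -1, 1, -1, 1, 1, 1, 1, -1, -1, -1, -1],
    [1, 1, 1, 1, 1, 1, 1, 1, 1, 1, 1, -3, 1, 1, 1, 1, 1, 1, 1, 1, 1, 1, 1, 1],
    [1, 1, 1, 1, 1, 1, 1, 1, 1, 1, 1, -3, 1, 1, 1, 1, 1, 1, 1, 1, 1, 1, 1, 1]],
  [[-1, -1, 1, -1, 1, 1, 1, -1, 1, -1, 1, 1, 1, 1, -3, 1, -1, 1, -1, 1, 1, 1, 1, -1],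
    [0, 0, 2, 0, 0, -2, 0, 2, 0, 2, 0, 0, 0, 0, 2, 0, 2, -2, 2, 0, 0, 0, 0, 0],
    [0, 0, 2, 0, 0, -2, 0, -2, 0, 2, 0, 0, 0, 0, -2, 0, 2, 2, -2, 0, 0, 0, 0, 0],
    [2, 0, 0, 0, 0, 0, -2, -2, 0, 0, -2, 0, 2, 0, 0, 2, 0, 0, -2, 0, 0, 0, 0, 2],
    [1, -1, -1, -1, -1, 1, 1, 1, 1, -1, 1, -1, -3, -1, 1, -1, 1, 1, 1, 1, -1, -1, -1, -1],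
    [1, 1, 1, 1, 1, 1, 1, 1, 1, 1, 1, 1, -3, 1, 1, 1, 1, 1, 1, 1, 1, 1, 1, 1],
    [1, 1, 1, 1, 1, 1, 1, 1, 1, 1, 1, 1, -3, 1, 1, 1, 1, 1, 1, 1, 1, 1, 1, 1]],
  [[0, 0, 0, 0, 2, 0, -2, 0, 2, 0, 0, 0, 2, 0, -2, 0, 0, 2, 0, 2, 0, 0, 2, 0],
    [0, 0, 0, 0, 0, 0, 2, 2, 0, 0, 2, 0, 0, 0, 2, 2, 2, -2, 0, 0, 0, 0, -2, 0],
    [0, 0, 0, 0, 0, 0, -2, -2, 0, 0, 2, 0, 0, 0, -2, -2, 2, 2, 0, 0, 0, 0, 2, 0],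
    [2, 0, 0, 0, 2, 2, -2, 0, 0, 0, 0, 0, 0, 0, -2, 2, 0, -2, -2, 0, 0, 0, 0, 0],
    [1, -1, -1, -1, -1, -3, 1, 1, 1, -1, 1, -1, 1, -1, 1, -1, 1, 1, 1, 1, -1, -1, -1, -1],
    [1, 1, 1, 1, 1, -3, 1, 1, 1, 1, 1, 1, 1, 1, 1, 1, 1, 1, 1, 1, 1, 1, 1, 1],
    [1, 1, 1, 1, 1, 1, 1, 1, 1, 1, 1, 1, 1, -3, 1, 1, 1, 1, 1, 1, 1, 1, 1, 1]],
  [[0, 0, 0, 0, 0, 0, 0, 0, 0, -2, 2, 0, 2, 0, 0, 2, 0, 2, 0, 2, 0, 0, 2, -2],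
    [0, 0, 0, 0, 2, 0, 0, 2, 2, 2, 0, 0, 0, 0, 0, 0, 2, -2, 0, 0, 0, 0, -2, 2],
    [0, 0, 0, 0, 2, 0, 0, -2, 2, 2, 0, 0, 0, 0, 0, 0, 2, 2, 0, 0, 0, 0, 2, -2],
    [2, 0, 0, 0, 2, 0, 0, 0, 0, -2, 0, 2, 0, 0, 0, 2, 0, 0, -2, 0, 0, 0, 2, 2],
    [1, -1, -1, -1, -1, 1, 1, 1, 1, 3, 1, -1, 1, -1, 1, -1, 1, 1, 1, 1, -1, -1, -1, -1],
    [1, 1, 1, 1, 1, 1, 1, 1, 1, -3, 1, 1, 1, 1, 1, 1, 1, 1, 1, 1, 1, 1, 1, 1],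
    [1, 1, 1, 1, 1, 1, 1, 1, 1, 1, 1, 1, 1, 1, -3, 1, 1, 1, 1, 1, 1, 1, 1, 1]],
  [[-1, 1, 1, 1, 1, 1, 1, -1, 1, -1, 1, -1, 1, -1, -1, 1, -1, 1, 1, 1, 1, 1, 3, 1],
    [-2, 0, 0, 0, 0, 0, 0, 2, 0, 2, 0, 2, 0, 2, 2, 0, 2, 0, 0, 0, 0, 0, -2, 0],
    [2, 0, 0, 0, 0, 0, 0, -2, 0, 2, 0, -2, 0, -2, -2, 0, 2, 0, 0, 0, 0, 0, 2, 0],
    [2, 0, 0, 0, 2, 0, -2, 0, -2, 0, 0, 0, 0, 0, 0, 0, 2, 0, -2, -2, 0, 0, 0, 2],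
    [1, -1, -1, -1, -1, 1, 1, 1, 1, -1, 1, -1, 1, -1, 1, -1, -3, 1, 1, 1, -1, -1, -1, -1],
    [1, 1, 1, 1, 1, 1, 1, 1, 1, 1, 1, 1, 1, 1, 1, 1, -3, 1, 1, 1, 1, 1, 1, 1],
    [1, 1, 1, 1, 1, 1, 1, 1, 1, 1, 1, 1, 1, 1, 1, -3, 1, 1, 1, 1, 1, 1, 1, 1]],
  [[-1, 1, 1, 1, 1, 1, -1, -1, 1, -3, 1, 1, 1, 1, -1, 1, -1, 1, -1, 1, -1, -1, 1, 1],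
    [-2, 0, 0, 0, 0, 0, 0, 2, 0, 2, 0, -2, 0, -2, 2, 0, 2, 0, 0, 0, 0, 0, -2, 0],
    [2, 0, 0, 0, 0, 0, 0, -2, 0, 2, 0, 2, 0, 2, -2, 0, 2, 0, 0, 0, 0, 0, 2, 0],
    [2, 0, 0, 0, 2, 0, -2, 0, 2, 0, 0, 0, 0, 0, 0, 0, 2, 0, -2, 2, 0, 0, 0, 2],
    [1, -1, -1, -1, -1, 1, 1, 1, 1, -1, 1, -1, 1, -1, 1, 3, 1, 1, 1, 1, -1, -1, -1, -1],
    [1, 1, 1, 1, 1, 1, 1, 1, 1, 1, 1, 1, 1, 1, 1, -3, 1, 1, 1, 1, 1, 1, 1, 1],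
    [1, 1, 1, 1, 1, 1, 1, 1, 1, 1, 1, 1, 1, 1, 1, 1, -3, 1, 1, 1, 1, 1, 1, 1]],
  [[0, 0, 0, 0, 0, 0, -2, -2, 0, 0, 2, 0, 0, 0, -2, 2, -2, 2, 0, 0, 0, 0, 2, 0],
    [0, 0, 0, 0, 0, 0, 2, 2, 0, 0, -2, 0, 0, 0, 2, -2, 2, -2, 0, 0, 0, 0, -2, 0],
    [0, 0, 0, 0, 0, 0, -2, -2, 0, 0, -2, 0, 0, 0, -2, 2, 2, 2, 0, 0, 0, 0, 2, 0],
    [2, 0, 0, 0, 2, -2, -2, 0, 0, 0, 0, 0, 0, 0, -2, 2, 0, 2, -2, 0, 0, 0, 0, 0],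
    [1, -1, -1, -1, -1, 1, 1, 1, 1, -1, 1, -1, 1, -1, 1, -1, 1, -3, 1, 1, -1, -1, -1, -1],
    [1, 1, 1, 1, 1, 1, 1, 1, 1, 1, 1, 1, 1, 1, 1, 1, 1, -3, 1, 1, 1, 1, 1, 1],
    [1, 1, 1, 1, 1, 1, 1, 1, 1, 1, 1, 1, 1, 1, 1, 1, 1, -3, 1, 1, 1, 1, 1, 1]],
  [[0, 0, 0, 0, 0, 0, 0, 0, 0, -2, 0, 0, 0, 0, -2, 0, -2, 2, 0, 2, -2, 2, 2, 0],
    [0, 0, 0, 0, 0, 0, 0, 0, 0, 2, 0, 0, 0, 0, 2, 0, 2, -2, 0, -2, 2, -2, -2, 0],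
    [0, 0, 0, 0, 0, 0, 0, 0, 0, 2, 0, 0, 0, 0, -2, 0, 2, 2, 0, -2, -2, -2, 2, 0],
    [2, 0, 0, 0, 2, 0, -2, 0, 0, 0, 0, 0, 0, -2, 0, 2, 0, 0, 0, 0, -2, -2, 0, 2],
    [1, -1, -1, -1, -1, 1, 1, 1, 1, -1, 1, -1, 1, -1, 1, -1, 1, 1, -3, 1, -1, -1, -1, -1],
    [1, 1, 1, 1, 1, 1, 1, 1, 1, 1, 1, 1, 1, 1, 1, 1, 1, 1, -3, 1, 1, 1, 1, 1],
    [1, 1, 1, 1, 1, 1, 1, 1, 1, 1, 1, 1, 1, 1, 1, 1, 1, 1, -3, 1, 1, 1, 1, 1]],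
  [[1, -1, -1, -1, 1, 1, 1, -1, 1, -1, 1, -1, 1, 1, -1, 1, -1, 1, -1, 1, -1, -1, 3, 1],
    [2, 0, 0, 0, 0, 0, 0, 2, 0, 2, 0, 2, 0, -2, 2, 0, 2, 0, 0, 0, 0, 0, -2, 0],
    [-2, 0, 0, 0, 0, 0, 0, -2, 0, 2, 0, -2, 0, 2, -2, 0, 2, 0, 0, 0, 0, 0, 2, 0],
    [2, 0, 0, 0, 2, 0, -2, 0, -2, 0, 0, 0, 0, 0, 0, 0, -2, 0, -2, 2, 0, 0, 0, 2],
    [1, -1, -1, -1, -1, 1, 1, 1, 1, -1, 1, -1, 1, -1, 1, -1, 1, 1, 1, -3, -1, -1, -1, -1],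
    [1, 1, 1, 1, 1, 1, 1, 1, 1, 1, 1, 1, 1, 1, 1, 1, 1, 1, 1, -3, 1, 1, 1, 1],
    [1, 1, 1, 1, 1, 1, 1, 1, 1, 1, 1, 1, 1, 1, 1, 1, 1, 1, 1, -3, 1, 1, 1, 1]],
  [[0, -2, 0, 2, 0, 0, 0, -2, 0, -2, 0, 0, 2, 0, -2, 0, 0, 2, 0, 0, 0, 0, 2, 0],
    [0, -2, 0, 2, 0, 0, 0, 2, 0, 2, 0, 0, -2, 0, 2, 0, 0, -2, 0, 0, 0, 0, -2, 0],
    [0, -2, 0, 2, 0, 0, 0, -2, 0, 2, 0, 0, -2, 0, -2, 0, 0, 2, 0, 0, 0, 0, 2, 0],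
    [0, 2, -2, -2, 2, 0, -2, 0, 0, 0, 0, 0, 0, 0, 0, 2, 0, 0, -2, 0, 0, 0, 0, 2],
    [1, 3, -1, -1, -1, 1, 1, 1, 1, -1, 1, -1, 1, -1, 1, -1, 1, 1, 1, 1, -1, -1, -1, -1],
    [1, -3, 1, 1, 1, 1, 1, 1, 1, 1, 1, 1, 1, 1, 1, 1, 1, 1, 1, 1, 1, 1, 1, 1],
    [1, 1, 1, 1, 1, 1, 1, 1, 1, 1, 1, 1, 1, 1, 1, 1, 1, 1, 1, 1, -3, 1, 1, 1]],
  [[0, 0, 0, 0, 2, 0, 0, -2, 2, -2, 0, 0, 0, 0, 0, 0, -2, 2, 0, 0, 0, 0, 2, -2],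
    [0, 0, 0, 0, -2, 0, 0, 2, -2, 2, 0, 0, 0, 0, 0, 0, 2, -2, 0, 0, 0, 0, -2, 2],
    [0, 0, 0, 0, -2, 0, 0, -2, -2, 2, 0, 0, 0, 0, 0, 0, 2, 2, 0, 0, 0, 0, 2, -2],
    [2, 0, 0, 0, 2, 0, 0, 0, 0, -2, 0, -2, 0, 0, 0, 2, 0, 0, -2, 0, 0, 0, -2, 2],
    [1, -1, -1, -1, -1, 1, -3, 1, 1, -1, 1, -1, 1, -1, 1, -1, 1, 1, 1, 1, -1, -1, -1, -1],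
    [1, 1, 1, 1, 1, 1, -3, 1, 1, 1, 1, 1, 1, 1, 1, 1, 1, 1, 1, 1, 1, 1, 1, 1],
    [1, 1, 1, 1, 1, 1, 1, 1, 1, 1, 1, 1, 1, 1, 1, 1, 1, 1, 1, 1, 1, -3, 1, 1]]]

/-- traces of the members -/
def hsTraces : List (List (List ℤ)) := hsTraces0 ++ hsTraces1 ++ hsTraces2 ++ hsTraces3

end Cfsg.Agent.Spor
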