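/-
The Higman-Sims configuration: one hundred minimal vectors, rank three, and a free involution.
-/
import Cfsg.Agent.Lib.Spor.HigmanSims
import Cfsg.Agent.Lib.Spor.HsConfigData

set_option autoImplicit false
set_option maxRecDepth 100000

namespace Cfsg.Agent.Spor

open Cfsg
open scoped Pointwise

local notation "Zv" => GolayPt → ℤ

/-- the hundred vectors -/
def hs100 : Set Zv := {y | y ∈ halves uRef ∧ dotInt (fourVec (-1)) y = 0}

theorem dot_fourNeg (y : Zv) : dotInt (fourVec (-1)) y = 4 * (y none - y (pt 0)) := by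
  have e : ∀ p, fourVec (-1) p * y p = (if p = none then 4 * y p else 0) + (if p = pt 0 then -4 * y p else 0) := by
    intro p
    have hn : pt 0 ≠ none := by decide +kernel
    by_cases h1 : p = none
    · subst h1; simp [fourVec, Ne.symm hn]
    · by_cases h2 : p = pt 0 <;> simp [fourVec, h1, h2, hn]
  rw [dotInt, Finset.sum_congr rfl fun p _ => e p, Finset.sum_add_distrib, Finset.sum_ite_eq',
    Finset.sum_ite_eq', if_pos (Finset.mem_univ _), if_pos (Finset.mem_univ _)]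
  ring

/-- the members, as lists -/
def hsList : List (List ℤ) := hsTraces.map fun t => t.getLastD []

/-- the list of a vector -/
def lstOf (y : Zv) : List ℤ := (List.range 24).map fun k => y (pt k)

theorem vecOf_lstOf (y : Zv) : vecOf (lstOf y) = y := funext fun p => by
  show ((List.range 24).map fun k => y (pt k)).getD (idx p) 0 = _
  rw [List.getD_eq_getElem _ _ (by simpa using idx_lt p), List.getElem_map, List.getElem_range, pt_idx]

/-- the test on a candidate -/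
def hsTest (y : Zv) : Bool := !(y none == y (pt 0)) || hsList.elem (lstOf y)

theorem hs_cover : (∀ j : GolayPt, j ≠ none → hsTest (half0 j) = true ∧ hsTest (half3 j) = true) ∧
    (octMasks.filter fun m => Nat.testBit m 23).all
      (fun m => hsTest (half1 (ofMask m)) && hsTest (half2 (ofMask m))) = true := by
  constructor <;> decide +kernel

theorem hs_data :
    hsTraces.all (fun t => traceOk hsWord t && leechCheck (vecOf (t.getLastD [])) &&
      decide (sqNorm (vecOf (t.getLastD [])) = 32) && decide (dotInt uRef (vecOf (t.getLastD [])) = 24) &&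
      decide (vecOf (t.getLastD []) none = vecOf (t.getLastD []) (pt 0)) &&
      decide (lstOf (vecOf (t.getLastD [])) = t.getLastD [])) = true ∧
    hsList.Nodup ∧ hsList.length = 100 ∧
    (hsList.filter fun l => (l.getD 23 0).natAbs == 1).length = 22 ∧
    (hsList.filter fun l => (l.getD 23 0).natAbs == 2).length = 77 := by
  refine ⟨?_, ?_, ?_, ?_, ?_⟩ <;> decide +kernel

theorem hs100_iff {y : Zv} : y ∈ hs100 ↔ lstOf y ∈ hsList := by
  obtain ⟨hc, hm⟩ := hs_cover
  obtain ⟨hd, -⟩ := hs_data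
  rw [List.all_eq_true] at hd hm
  constructor
  · rintro ⟨hy, h0⟩
    have heq : y none = y (pt 0) := by rw [dot_fourNeg] at h0; omega
    have conv : hsTest y = true → lstOf y ∈ hsList := fun h => by simpa [hsTest, heq] using h
    have hoct : ∀ o ∈ octThrough, (hsTest (half1 o) = true ∧ hsTest (half2 o) = true) := fun o ho => by
      have h := hm (mask o) (List.mem_filter.2 ⟨mem_octads.1 ho.1, (testBit_mask_idx (p := none)).2 ho.2⟩)
      rw [Bool.and_eq_true, ofMask_mask] at h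
      exact h
    apply conv
    rcases half_form hy with ⟨j, hj, rfl⟩ | ⟨o, ho, rfl⟩ | ⟨o, ho, rfl⟩ | ⟨j, hj, rfl⟩
    · exact (hc j hj).1
    · exact (hoct o ho).1
    · exact (hoct o ho).2
    · exact (hc j hj).2
  · intro h
    obtain ⟨t, ht, e⟩ := List.mem_map.1 h
    have h' := hd t ht
    simp only [Bool.and_eq_true, decide_eq_true_eq] at h'
    obtain ⟨⟨⟨⟨⟨-, h1⟩, h2⟩, h3⟩, h4⟩, -⟩ := h'
    rw [e, vecOf_lstOf] at h1 h2 h3 h4
    exact ⟨⟨leechCheck_mem h1, h2, h3⟩, by rw [dot_fourNeg, h4]; ring⟩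

theorem hs100_count (P : Zv → Prop) (q : List ℤ → Bool) {n : ℕ} (hn : (hsList.filter q).length = n)
    (h : ∀ y ∈ hs100, (P y ↔ q (lstOf y) = true)) : {y | y ∈ hs100 ∧ P y}.ncard = n := by
  classical
  obtain ⟨hd, hnd, -⟩ := hs_data
  rw [List.all_eq_true] at hd
  have hmem : ∀ l ∈ hsList, lstOf (vecOf l) = l := fun l hl => by
    obtain ⟨t, ht, rfl⟩ := List.mem_map.1 hl
    have h' := hd t ht
    simp only [Bool.and_eq_true, decide_eq_true_eq] at h'
    exact h'.2
  have e : {y | y ∈ hs100 ∧ P y} = vecOf '' ↑(hsList.filter q).toFinset := by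
    ext y
    constructor
    · rintro ⟨h1, h2⟩
      exact ⟨lstOf y, by simpa using ⟨hs100_iff.1 h1, (h y h1).1 h2⟩, vecOf_lstOf y⟩
    · rintro ⟨l, hl, rfl⟩
      simp only [List.coe_toFinset, List.mem_filter, Set.mem_ofPred_eq] at hl
      have h1 : vecOf l ∈ hs100 := hs100_iff.2 (by rw [hmem l hl.1]; exact hl.1)
      exact ⟨h1, (h _ h1).2 (by rw [hmem l hl.1]; exact hl.2)⟩
  rw [e, Set.ncard_image_of_injOn, Set.ncard_coe_finset, List.toFinset_card_of_nodup (hnd.filter _), hn]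
  intro a ha b hb hab
  simp only [List.coe_toFinset, List.mem_filter, Set.mem_ofPred_eq] at ha hb
  rw [← hmem a ha.1, hab, hmem b hb.1]

theorem card_hs100 : hs100.ncard = 100 := by
  obtain ⟨-, -, hl, -⟩ := hs_data
  have := hs100_count (fun _ => True) (fun _ => true) (n := 100) (by rw [List.filter_true]; exact hl)
    (fun _ _ => by simp)
  simpa using this

/-- the base point -/
def hsPt : Zv := half0 (pt 0)

theorem hsPt_mem : hsPt ∈ hs100 := ⟨half_spec.1 _ (by decide +kernel), by decide +kernel⟩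

theorem hs100_kinds {y : Zv} (hy : y ∈ hs100) :
    y = hsPt ∨ (∃ o ∈ octThrough, pt 0 ∈ o ∧ y = half1 o) ∨
      (∃ j, j ≠ none ∧ j ≠ pt 0 ∧ y = half3 j) := by
  obtain ⟨hy, h0⟩ := hy
  have hn : pt 0 ≠ none := by decide +kernel
  rw [dot_fourNeg] at h0
  rcases half_form hy with ⟨j, hj, rfl⟩ | ⟨o, ho, rfl⟩ | ⟨o, ho, rfl⟩ | ⟨j, hj, rfl⟩
  · by_cases hj0 : j = pt 0
    · exact Or.inl (by rw [hsPt, hj0])
    · simp [half0, setVec, hn, Ne.symm hj0] at h0
  · by_cases h : pt 0 ∈ o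
    · exact Or.inr (Or.inl ⟨o, ho, h, rfl⟩)
    · simp [half1, setVec, ho.2, h] at h0
  · exfalso
    by_cases h : pt 0 ∈ o <;> simp [half2, sgn, setWord, setVec, ho.2, h, hn] at h0
  · refine Or.inr (Or.inr ⟨j, hj, fun h => ?_, rfl⟩)
    subst h
    simp [half3, setVec, Ne.symm hn] at h0

theorem hs100_dot {y : Zv} (hy : y ∈ hs100) :
    (y = hsPt ∧ |y none| = 4) ∨ (y ≠ hsPt ∧ dotInt hsPt y = 16 ∧ |y none| = 2) ∨
      (y ≠ hsPt ∧ dotInt hsPt y = 8 ∧ |y none| = 1) := by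
  have hn : pt 0 ≠ none := by decide +kernel
  have hv : |hsPt none| = 4 := by simp [hsPt, half0, setVec]
  have hd : ∀ z : Zv, dotInt hsPt z = 4 * z none + 4 * z (pt 0) := fun z => by
    have e : ∀ p, hsPt p * z p = (if p = none then 4 * z p else 0) + (if p = pt 0 then 4 * z p else 0) := by
      intro p
      by_cases h1 : p = none
      · subst h1; simp [hsPt, half0, setVec, Ne.symm hn]
      · by_cases h2 : p = pt 0 <;> simp [hsPt, half0, setVec, h1, h2, hn]
    rw [dotInt, Finset.sum_congr rfl fun p _ => e p, Finset.sum_add_distrib, Finset.sum_ite_eq',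
      Finset.sum_ite_eq', if_pos (Finset.mem_univ _), if_pos (Finset.mem_univ _)]
  rcases hs100_kinds hy with rfl | ⟨o, ho, h, rfl⟩ | ⟨j, hj, hj0, rfl⟩
  · exact Or.inl ⟨rfl, hv⟩
  · have v : |half1 o none| = 2 := by simp [half1, setVec, ho.2]
    refine Or.inr (Or.inl ⟨fun e => ?_, ?_, v⟩)
    · rw [e, hv] at v; omega
    · rw [hd]; simp [half1, setVec, ho.2, h]
  · have v : |half3 j none| = 1 := by simp [half3, setVec, Ne.symm hj]
    refine Or.inr (Or.inr ⟨fun e => ?_, ?_, v⟩)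
    · rw [e, hv] at v; omega
    · rw [hd]; simp [half3, setVec, Ne.symm hj, Ne.symm hj0]

/-- the joint stabiliser -/
def HsFix (g : ↥Co0) : Prop := g • refU = refU ∧ g • hsVec = hsVec

/-- one orbit of it -/
def HOrb (a b : Zv) : Prop := ∃ (ha : a ∈ leechLattice) (g : ↥Co0),
  HsFix g ∧ ((g • (⟨a, ha⟩ : ↥leechLattice) : ↥leechLattice) : Zv) = b

theorem HOrb.symm {a b : Zv} : HOrb a b → HOrb b a := by
  rintro ⟨ha, g, ⟨hg, hg'⟩, rfl⟩
  exact ⟨(g • (⟨a, ha⟩ : ↥leechLattice)).2, g⁻¹, ⟨by rw [inv_smul_eq_iff, hg], by rw [inv_smul_eq_iff, hg']⟩,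
    congrArg Subtype.val (inv_smul_smul g (⟨a, ha⟩ : ↥leechLattice))⟩

theorem HOrb.trans {a b c : Zv} : HOrb a b → HOrb b c → HOrb a c := by
  rintro ⟨ha, g, ⟨hg, hg'⟩, rfl⟩ ⟨hb, k, ⟨hk, hk'⟩, rfl⟩
  exact ⟨ha, k * g, ⟨by rw [mul_smul, hg, hk], by rw [mul_smul, hg', hk']⟩, by rw [mul_smul]⟩

/-- within one kind the group of degree 22 suffices; it fixes the base point -/
theorem hs_family {a b : Zv} (ha : a ∈ hs100) (hb : b ∈ hs100) (h : |a none| = |b none|) :
    ∃ g : ↥Co0, HsFix g ∧ ((g • (⟨hsPt, hsPt_mem.1.1⟩ : ↥leechLattice) : ↥leechLattice) : Zv) = hsPt ∧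
      ((g • (⟨a, ha.1.1⟩ : ↥leechLattice) : ↥leechLattice) : Zv) = b := by
  have hn : pt 0 ≠ none := by decide +kernel
  suffices hs : ∃ σ ∈ M24, σ none = none ∧ σ (pt 0) = pt 0 ∧ prm σ a = b by
    obtain ⟨σ, hσ, h0, h1, e⟩ := hs
    obtain ⟨g, hg⟩ := exists_prm hσ
    have i1 : ∀ q, σ q = none ↔ q = none := fun q => by conv_lhs => rw [← h0]; rw [σ.injective.eq_iff]
    have i2 : ∀ q, σ q = pt 0 ↔ q = pt 0 := fun q => by conv_lhs => rw [← h1]; rw [σ.injective.eq_iff]
    refine ⟨g, ⟨Subtype.ext ?_, Subtype.ext ?_⟩, ?_, by rw [hg]; exact e⟩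
    · rw [hg]; show prm σ uRef = uRef
      rw [uRef, prm_setVec, Finset.smul_finset_singleton]
      show setVec 1 5 {σ none} = _
      rw [h0]
    · rw [hg]; show prm σ (fourVec (-1)) = fourVec (-1)
      funext p
      obtain ⟨q, rfl⟩ := σ.surjective p
      simp [prm, fourVec, i1, i2]
    · rw [hg]; show prm σ hsPt = hsPt
      funext p
      obtain ⟨q, rfl⟩ := σ.surjective p
      simp [prm, hsPt, half0, setVec, i1, i2]
  have v1 : ∀ {o : Finset GolayPt}, o ∈ octThrough → |half1 o none| = 2 := fun {o} ho => by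
    simp [half1, setVec, ho.2]
  have v3 : ∀ {j : GolayPt}, j ≠ none → |half3 j none| = 1 := fun {j} hj => by simp [half3, setVec, Ne.symm hj]
  have v0 : |hsPt none| = 4 := by simp [hsPt, half0, setVec]
  rcases hs100_kinds ha with rfl | ⟨o, ho, hp, rfl⟩ | ⟨j, hj, hj0, rfl⟩ <;>
    rcases hs100_kinds hb with rfl | ⟨o', ho', hp', rfl⟩ | ⟨j', hj', hj0', rfl⟩
  · exact ⟨1, one_mem _, rfl, rfl, funext fun p => by simp [prm, Equiv.Perm.one_def]⟩
  · rw [v0, v1 ho'] at h; omega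
  · rw [v0, v3 hj'] at h; omega
  · rw [v0, v1 ho] at h; omega
  · have pick : ∀ {U : Finset GolayPt}, U.card = 8 → none ∈ U → pt 0 ∈ U → ∃ c ∈ U, c ≠ none ∧ c ≠ pt 0 := by
      intro U hU h0 h1
      obtain ⟨c, hc⟩ := Finset.card_pos.1 (show 0 < ((U.erase none).erase (pt 0)).card by
        rw [Finset.card_erase_of_mem (Finset.mem_erase.2 ⟨hn, h1⟩), Finset.card_erase_of_mem h0, hU]; norm_num)
      simp only [Finset.mem_erase] at hc
      exact ⟨c, hc.2.2, hc.2.1, hc.1⟩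
    obtain ⟨c, hc, c0, c1⟩ := pick ho.1.2 ho.2 hp
    obtain ⟨c', hc', c0', c1'⟩ := pick ho'.1.2 ho'.2 hp'
    obtain ⟨σ, hσ, hσo, e0, e1, -⟩ := octad_three_map ho.1 ho'.1 ho.2 hp hc (Ne.symm hn) (Ne.symm c0)
      (Ne.symm c1) ho'.2 hp' hc' (Ne.symm hn) (Ne.symm c0') (Ne.symm c1')
    exact ⟨σ, hσ, e0, e1, by rw [half1, half1, prm_setVec, hσo]⟩
  · rw [v1 ho, v3 hj'] at h; omega
  · rw [v0, v3 hj] at h; omega
  · rw [v3 hj, v1 ho'] at h; omega
  · obtain ⟨σ, hσ, hm⟩ := M24_trans (k := 3) (by norm_num)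
      ⟨![none, pt 0, j], by
        intro u v; fin_cases u <;> fin_cases v <;> simp [hn, Ne.symm hn, hj, Ne.symm hj, hj0, Ne.symm hj0]⟩
      ⟨![none, pt 0, j'], by
        intro u v; fin_cases u <;> fin_cases v <;> simp [hn, Ne.symm hn, hj', Ne.symm hj', hj0', Ne.symm hj0']⟩
    refine ⟨σ, hσ, hm 0, hm 1, ?_⟩
    rw [half3, half3, prm_setVec, Finset.smul_finset_singleton]
    exact congrArg (fun c => setVec 1 (-3) ({c} : Finset GolayPt)) (hm 2)

/-- the monomial involution -/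
def hsMap (y : Zv) : Zv := wordApp hsMono y

theorem hs_step :
    hsMono.all LOp.ok = true ∧ hsFrame.all (traceOk hsWord) = true ∧
    (∀ p, vecOf ((hsFrame.getD 0 []).getLastD []) p = uRef p) ∧
    (∀ p, vecOf ((hsFrame.getD 1 []).getLastD []) p = -(fourVec (-1) p)) ∧
    (∀ i, i < 2 → ∀ p, hsMap (vecOf ((hsFrame.getD i []).headD [])) p = vecOf ((hsFrame.getD i []).headD []) p) ∧
    hsTraces.all (fun t => !(lstOf (hsMap (vecOf (t.headD []))) == t.headD [])) = true ∧
    (∀ i, i < 3 → (∀ p, hsMap (vecOf ((hsTraces.getD i []).headD [])) p = vecOf ((hsTraces.getD (i + 1) []).headD []) p) ∨ i = 1) ∧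
    ([0, 1, 2, 3].map fun i => (vecOf ((hsTraces.getD i []).getLastD []) none).natAbs) = [4, 1, 1, 2] := by
  refine ⟨?_, ?_, ?_, ?_, ?_, ?_, ?_, ?_⟩ <;> decide +kernel

theorem hsMono_sq : ∀ (c : ℕ) (l : List ℕ), hsMono = [.sgO c, .plO l] →
    ∀ y : Zv, hsMap (hsMap y) = y := by
  intro c l h y
  have h1 : ∀ p, l.getD (idx (pt (l.getD (idx p) 0))) 0 = idx p ∧
      (Nat.testBit c (idx (pt (l.getD (idx p) 0))) = Nat.testBit c (idx p)) := by
    simp only [hsMono, List.cons.injEq, LOp.sgO.injEq, LOp.plO.injEq, and_true] at h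
    obtain ⟨rfl, rfl⟩ := h
    decide +kernel
  funext p
  obtain ⟨e1, e2⟩ := h1 p
  have hw : ∀ q, ofMaskW c q = if Nat.testBit c (idx q) then 1 else 0 := fun q => rfl
  simp only [hsMap, h, wordApp, LOp.app, sgn, hw, e1, e2, pt_idx]
  cases Nat.testBit c (idx p) <;> simp

theorem hs_free_inv : ∃ g : ↥Co0, HsFix g ∧ orderOf g = 2 ∧
    (∀ y : ↥leechLattice, (y : Zv) ∈ hs100 → g • y ≠ y) ∧
    (∀ z ∈ hs100, HOrb hsPt z) := by
  classical
  obtain ⟨mok, fok, fu, fX, ffix, hfree, hedge, hval⟩ := hs_step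
  obtain ⟨hd, -⟩ := hs_data
  rw [List.all_eq_true] at hd hfree fok
  obtain ⟨x, hxi⟩ := exists_xi
  have hlen : hsFrame.length = 2 := rfl
  have hfr : ∀ i, i < 2 → hsFrame.getD i [] ∈ hsFrame := fun i hi => by
    rw [List.getD_eq_getElem _ _ (hlen ▸ hi)]; exact List.getElem_mem _
  obtain ⟨k, -, hk⟩ := word_elem ⊤ (fun _ _ => Subgroup.mem_top _) (Subgroup.mem_top x) hxi hsWord
    (trace_sound _ _ (fok _ (hfr 0 (by norm_num)))).1
  obtain ⟨m, -, hm⟩ := word_elem ⊤ (fun _ _ => Subgroup.mem_top _) (Subgroup.mem_top x) hxi hsMono mok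
  have hmm : m * m = 1 := co0_ext fun v => by
    rw [mul_smul, one_smul, hm, hm]
    exact hsMono_sq _ _ rfl _
  set g := k⁻¹ * m * k with hg
  have key : ∀ (a b : ↥leechLattice) (la lb : List ℤ), wordApp hsWord (a : Zv) = vecOf la →
      wordApp hsWord (b : Zv) = vecOf lb → hsMap (vecOf la) = vecOf lb → g • a = b := by
    intro a b la lb h1 h2 h3
    rw [hg, mul_smul, mul_smul, inv_smul_eq_iff]
    refine Subtype.ext ?_
    rw [hm, hk, hk, h1, h2]
    exact h3
  have frame : ∀ (i : ℕ) (a : ↥leechLattice), i < 2 → (a : Zv) = vecOf ((hsFrame.getD i []).getLastD []) →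
      g • a = a := by
    intro i a hi ha
    have e := (trace_sound _ _ (fok _ (hfr i hi))).2
    rw [← ha] at e
    exact key a a _ _ e e (funext (ffix i hi))
  have g1 : g • refU = refU := frame 0 refU (by norm_num) (funext fun p => (fu p).symm)
  have g2 : g • hsVec = hsVec := by
    have := frame 1 (-hsVec) (by norm_num) (funext fun p => by
      rw [fX p]; rfl)
    rwa [co0_neg, neg_inj] at this
  have hfix : HsFix g := ⟨g1, g2⟩
  have free : ∀ y : ↥leechLattice, (y : Zv) ∈ hs100 → g • y ≠ y := by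
    intro y hy e
    obtain ⟨t, ht, hl⟩ := List.mem_map.1 (hs100_iff.1 hy)
    have ht' := hd t ht
    simp only [Bool.and_eq_true, decide_eq_true_eq] at ht'
    have e1 := (trace_sound _ _ ht'.1.1.1.1.1).2
    rw [hl, vecOf_lstOf] at e1
    have e2 : hsMap (vecOf (t.headD [])) = vecOf (t.headD []) := by
      have h := congrArg (fun z : ↥leechLattice => ((k • z : ↥leechLattice) : Zv)) e
      simp only [hg, mul_smul, smul_inv_smul, hm, hk, e1] at h
      exact h
    have h24 : lstOf (vecOf (t.headD [])) = t.headD [] := by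
      have h : hsTraces.all (fun t => lstOf (vecOf (t.headD [])) == t.headD []) = true := by decide +kernel
      exact beq_iff_eq.1 (List.all_eq_true.1 h t ht)
    have := hfree t ht
    rw [e2, h24] at this
    simp at this
  have hg1 : g ≠ 1 := fun h => free ⟨hsPt, hsPt_mem.1.1⟩ hsPt_mem (by rw [h, one_smul])
  refine ⟨g, hfix, orderOf_eq_prime ?_ hg1, free, ?_⟩
  · rw [pow_two, hg]
    calc k⁻¹ * m * k * (k⁻¹ * m * k) = k⁻¹ * (m * m) * k := by group
      _ = 1 := by rw [hmm]; group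
  · have member : ∀ i, i < 4 → vecOf ((hsTraces.getD i []).getLastD []) ∈ hs100 ∧
        traceOk hsWord (hsTraces.getD i []) = true := by
      intro i hi
      have hl : hsTraces.getD i [] ∈ hsTraces := by
        rw [List.getD_eq_getElem _ _ (show i < hsTraces.length by
          rw [show hsTraces.length = 100 by decide +kernel]; omega)]
        exact List.getElem_mem _
      have ht' := hd _ hl
      simp only [Bool.and_eq_true, decide_eq_true_eq] at ht'
      exact ⟨hs100_iff.2 (by rw [ht'.2]; exact List.mem_map_of_mem hl), ht'.1.1.1.1.1⟩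
    have edge : ∀ i, i < 3 → i ≠ 1 →
        HOrb (vecOf ((hsTraces.getD i []).getLastD [])) (vecOf ((hsTraces.getD (i + 1) []).getLastD [])) := by
      intro i hi h1
      obtain ⟨ma, ta⟩ := member i (by omega)
      obtain ⟨mb, tb⟩ := member (i + 1) (by omega)
      refine ⟨ma.1.1, g, hfix, congrArg Subtype.val (key ⟨_, ma.1.1⟩ ⟨_, mb.1.1⟩ _ _ (trace_sound _ _ ta).2
        (trace_sound _ _ tb).2 (funext ((hedge i hi).resolve_right h1)))⟩
    have fam : ∀ {a b}, a ∈ hs100 → b ∈ hs100 → |a none| = |b none| → HOrb a b := by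
      intro a b ha hb h
      obtain ⟨g, hg, -, e⟩ := hs_family ha hb h
      exact ⟨ha.1.1, g, hg, e⟩
    simp only [List.map_cons, List.map_nil, List.cons.injEq, and_true] at hval
    obtain ⟨v0, v1, v2, v3⟩ := hval
    obtain ⟨m0, -⟩ := member 0 (by norm_num)
    obtain ⟨m1, -⟩ := member 1 (by norm_num)
    obtain ⟨m2, -⟩ := member 2 (by norm_num)
    obtain ⟨m3, -⟩ := member 3 (by norm_num)
    have hp : |hsPt none| = 4 := by simp [hsPt, half0, setVec]
    have o1 : HOrb hsPt (vecOf ((hsTraces.getD 1 []).getLastD [])) :=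
      (fam hsPt_mem m0 (by rw [hp, Int.abs_eq_natAbs, v0]; rfl)).trans (edge 0 (by norm_num) (by norm_num))
    intro z hz
    rcases hs100_dot hz with ⟨rfl, -⟩ | ⟨-, -, hv⟩ | ⟨-, -, hv⟩
    · exact fam hsPt_mem hsPt_mem rfl
    · exact ((o1.trans (fam m1 m2 (by rw [Int.abs_eq_natAbs, v1, Int.abs_eq_natAbs, v2]))).trans
        (edge 2 (by norm_num) (by norm_num))).trans (fam m3 hz (by rw [Int.abs_eq_natAbs, v3, hv]; rfl))
    · exact o1.trans (fam m1 hz (by rw [Int.abs_eq_natAbs, v1, hv]; rfl))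

/-! ### transfer -/

theorem hs_pair_map (v w : ↥leechLattice) (hv : sqNorm (v : Zv) = 48) (hw : sqNorm (w : Zv) = 48)
    (hvw : dotInt (v : Zv) (w : Zv) = -32) : ∃ k : ↥Co0, k • v = refU ∧ k • w = hsVec - refU := by
  obtain ⟨-, fn, fd, -, -⟩ := fourVec_facts (-1) (by simp)
  obtain ⟨_, k, hk⟩ := (orb_mid v.2 hv).symm.trans (orb_mid uRef_spec.1 uRef_spec.2)
  have hkv : k • v = refU := Subtype.ext hk
  obtain ⟨-, htr⟩ := mid16_gen refU uRef_spec.2
  have m1 : sqNorm ((k • -(v + w) : ↥leechLattice) : Zv) = 32 ∧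
      dotInt uRef ((k • -(v + w) : ↥leechLattice) : Zv) = -16 := by
    constructor
    · refine (k.2.2 _).trans ?_
      rw [AddSubgroup.coe_neg, sqNorm_neg, AddSubgroup.coe_add, sqNorm_add]; omega
    · have := co0_dot k v (-(v + w))
      rw [hkv] at this
      refine this.trans ?_
      rw [AddSubgroup.coe_neg, AddSubgroup.coe_add, dot_neg_right, dot_add_right, dot_self, hv, hvw]; norm_num
  have hX : sqNorm ((-hsVec : ↥leechLattice) : Zv) = 32 ∧ dotInt uRef ((-hsVec : ↥leechLattice) : Zv) = -16 := by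
    rw [AddSubgroup.coe_neg, sqNorm_neg, dot_neg_right]
    exact ⟨fn, by show -dotInt uRef (fourVec (-1)) = -16; rw [fd]; norm_num⟩
  obtain ⟨g, hg, hg'⟩ := htr _ m1 _ hX
  have h1 : (g * k) • v = refU := by rw [mul_smul, hkv, hg]
  have h2 : (g * k) • (v + w) = hsVec := by
    have := congrArg Neg.neg hg'
    rwa [← mul_smul, co0_neg, neg_neg, neg_neg] at this
  refine ⟨g * k, h1, eq_sub_of_add_eq ?_⟩
  rw [co0_add, h1] at h2
  rw [add_comm]; exact h2

/-- the configuration of a pair -/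
def hsSet (v w : ↥leechLattice) : Set ↥leechLattice :=
  {x | sqNorm (x : Zv) = 32 ∧ dotInt (v : Zv) (x : Zv) = 24 ∧ dotInt (w : Zv) (x : Zv) = -24}

theorem hsSet_image {v w : ↥leechLattice} {k : ↥Co0} (hv : k • v = refU) (hw : k • w = hsVec - refU)
    (x : ↥leechLattice) : x ∈ hsSet v w ↔ ((k • x : ↥leechLattice) : Zv) ∈ hs100 := by
  have a := co0_dot k v x
  have b := co0_dot k w x
  rw [hv] at a
  rw [hw] at b
  change dotInt uRef _ = _ at a
  change dotInt (fourVec (-1) - uRef) _ = _ at b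
  have c : ∀ z : Zv, dotInt (fourVec (-1) - uRef) z = dotInt (fourVec (-1)) z - dotInt uRef z := fun z => by
    simp [dotInt, sub_mul, Finset.sum_sub_distrib]
  rw [c] at b
  constructor
  · rintro ⟨h1, h2, h3⟩
    exact ⟨⟨(k • x).2, (k.2.2 x).trans h1, a.trans h2⟩, by omega⟩
  · rintro ⟨⟨-, h1, h2⟩, h3⟩
    exact ⟨(k.2.2 x).symm.trans h1, by omega, by omega⟩

theorem hs_hundred (v w : ↥leechLattice) (hv : sqNorm (v : Zv) = 48) (hw : sqNorm (w : Zv) = 48)
    (hvw : dotInt (v : Zv) (w : Zv) = -32) :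
    (hsSet v w).ncard = 100 ∧
      ∀ x ∈ hsSet v w, ∀ x' ∈ hsSet v w, ∃ g : ↥Co0, g • v = v ∧ g • w = w ∧ g • x = x' := by
  obtain ⟨k, hk, hk'⟩ := hs_pair_map v w hv hw hvw
  obtain ⟨-, -, -, -, htr⟩ := hs_free_inv
  refine ⟨?_, fun x hx x' hx' => ?_⟩
  · rw [← card_hs100, ← Set.ncard_image_of_injective (hsSet v w) (f := fun x : ↥leechLattice => ((k • x : ↥leechLattice) : Zv))
      fun a b h => MulAction.injective k (Subtype.ext h)]
    congr 1
    ext z
    constructor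
    · rintro ⟨x, hx, rfl⟩; exact (hsSet_image hk hk' x).1 hx
    · intro hz
      exact ⟨k⁻¹ • ⟨z, hz.1.1⟩, (hsSet_image hk hk' _).2 (by rw [smul_inv_smul]; exact hz),
        by simp only [smul_inv_smul]⟩
  · obtain ⟨ha, g, ⟨g1, g2⟩, e⟩ := (htr _ ((hsSet_image hk hk' x).1 hx)).symm.trans
      (htr _ ((hsSet_image hk hk' x').1 hx'))
    have e' : g • k • x = k • x' := Subtype.ext e
    have g3 : g • (hsVec - refU) = hsVec - refU := by
      rw [sub_eq_add_neg, co0_add, co0_neg, g1, g2]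
    refine ⟨k⁻¹ * g * k, ?_, ?_, ?_⟩
    · rw [mul_smul, mul_smul, hk, g1, ← hk, inv_smul_smul]
    · rw [mul_smul, mul_smul, hk', g3, ← hk', inv_smul_smul]
    · rw [mul_smul, mul_smul, e', inv_smul_smul]

theorem hs_rank_three (v w x : ↥leechLattice) (hv : sqNorm (v : Zv) = 48) (hw : sqNorm (w : Zv) = 48)
    (hvw : dotInt (v : Zv) (w : Zv) = -32) (hx : x ∈ hsSet v w) :
    {y : ↥leechLattice | y ∈ hsSet v w ∧ dotInt (x : Zv) (y : Zv) = 8}.ncard = 22 ∧
    {y : ↥leechLattice | y ∈ hsSet v w ∧ y ≠ x ∧ dotInt (x : Zv) (y : Zv) ≠ 8}.ncard = 77 ∧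
    ∀ y ∈ hsSet v w, ∀ y' ∈ hsSet v w, y ≠ x → y' ≠ x →
      (dotInt (x : Zv) (y : Zv) = 8 ↔ dotInt (x : Zv) (y' : Zv) = 8) →
      ∃ g : ↥Co0, g • v = v ∧ g • w = w ∧ g • x = x ∧ g • y = y' := by
  obtain ⟨k0, hk, hk'⟩ := hs_pair_map v w hv hw hvw
  obtain ⟨-, -, -, -, htr⟩ := hs_free_inv
  obtain ⟨_, g, ⟨g1, g2⟩, e⟩ := (htr _ ((hsSet_image hk hk' x).1 hx)).symm
  have g3 : g • (hsVec - refU) = hsVec - refU := by rw [sub_eq_add_neg, co0_add, co0_neg, g1, g2]
  set k := g * k0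
  have k1 : k • v = refU := by rw [mul_smul, hk, g1]
  have k2 : k • w = hsVec - refU := by rw [mul_smul, hk', g3]
  have k3 : ((k • x : ↥leechLattice) : Zv) = hsPt := by rw [mul_smul]; exact e
  have kd : ∀ y : ↥leechLattice, dotInt (x : Zv) (y : Zv) = dotInt hsPt ((k • y : ↥leechLattice) : Zv) := fun y => by
    have := co0_dot k x y
    rw [k3] at this
    exact this.symm
  have kne : ∀ y : ↥leechLattice, y ≠ x ↔ ((k • y : ↥leechLattice) : Zv) ≠ hsPt := fun y => by
    rw [← k3, not_iff_not, Subtype.coe_inj, smul_left_cancel_iff]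
  have cnt : ∀ (P : Zv → Prop) {n : ℕ}, {y | y ∈ hs100 ∧ P y}.ncard = n →
      {y : ↥leechLattice | y ∈ hsSet v w ∧ P ((k • y : ↥leechLattice) : Zv)}.ncard = n := by
    intro P n hn
    rw [← hn, ← Set.ncard_image_of_injective _ (f := fun y : ↥leechLattice => ((k • y : ↥leechLattice) : Zv))
      fun a b h => MulAction.injective k (Subtype.ext h)]
    congr 1
    ext z
    constructor
    · rintro ⟨y, ⟨hy, hP⟩, rfl⟩; exact ⟨(hsSet_image k1 k2 y).1 hy, hP⟩
    · rintro ⟨hz, hP⟩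
      refine ⟨k⁻¹ • ⟨z, hz.1.1⟩, ⟨(hsSet_image k1 k2 _).2 ?_, ?_⟩, by simp only [smul_inv_smul]⟩ <;>
        rw [smul_inv_smul] <;> assumption
  obtain ⟨-, -, -, c1, c2⟩ := hs_data
  have hl : ∀ y : Zv, ((lstOf y).getD 23 0).natAbs = |y none| := fun y => by
    rw [show (lstOf y).getD 23 0 = y none from rfl, Int.abs_eq_natAbs]
  refine ⟨?_, ?_, fun y hy y' hy' n1 n2 hiff => ?_⟩
  · simp only [kd]
    refine cnt (fun z => dotInt hsPt z = 8) (hs100_count _ _ c1 fun z hz => ?_)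
    have := hl z
    have hpp : dotInt hsPt hsPt = 32 := by decide +kernel
    rw [beq_iff_eq]
    rcases hs100_dot hz with ⟨rfl, h⟩ | ⟨-, h, h'⟩ | ⟨-, h, h'⟩ <;> omega
  · simp only [kd, kne]
    refine cnt (fun z => z ≠ hsPt ∧ dotInt hsPt z ≠ 8) (hs100_count _ _ c2 fun z hz => ?_)
    have := hl z
    rw [beq_iff_eq]
    rcases hs100_dot hz with ⟨rfl, h⟩ | ⟨hne, h, h'⟩ | ⟨hne, h, h'⟩
    · simp only [ne_eq, not_true_eq_false, false_and, false_iff]; omega
    · simp only [ne_eq, hne, not_false_eq_true, true_and]; omega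
    · simp only [ne_eq, hne, not_false_eq_true, true_and]; omega
  · rw [kne] at n1 n2
    rw [kd, kd] at hiff
    have ha := (hsSet_image k1 k2 y).1 hy
    have hb := (hsSet_image k1 k2 y').1 hy'
    have habs : |((k • y : ↥leechLattice) : Zv) none| = |((k • y' : ↥leechLattice) : Zv) none| := by
      rcases hs100_dot ha with ⟨h, -⟩ | ⟨-, p, p'⟩ | ⟨-, p, p'⟩
      · exact absurd h n1
      all_goals
        rcases hs100_dot hb with ⟨h, -⟩ | ⟨-, q, q'⟩ | ⟨-, q, q'⟩
        · exact absurd h n2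
        all_goals omega
    obtain ⟨s, ⟨s1, s2⟩, s4, e4⟩ := hs_family ha hb habs
    have e' : s • k • y = k • y' := Subtype.ext e4
    have e5 : s • k • x = k • x := by
      refine Subtype.ext ?_
      rw [show k • x = (⟨hsPt, hsPt_mem.1.1⟩ : ↥leechLattice) from Subtype.ext k3]
      exact s4
    have s3 : s • (hsVec - refU) = hsVec - refU := by rw [sub_eq_add_neg, co0_add, co0_neg, s1, s2]
    refine ⟨k⁻¹ * s * k, ?_, ?_, ?_, ?_⟩
    · rw [mul_smul, mul_smul, k1, s1, ← k1, inv_smul_smul]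
    · rw [mul_smul, mul_smul, k2, s3, ← k2, inv_smul_smul]
    · rw [mul_smul, mul_smul, e5, inv_smul_smul]
    · rw [mul_smul, mul_smul, e', inv_smul_smul]

theorem hs_involution (v w : ↥leechLattice) (hv : sqNorm (v : Zv) = 48) (hw : sqNorm (w : Zv) = 48)
    (hvw : dotInt (v : Zv) (w : Zv) = -32) :
    ∃ g : ↥Co0, g • v = v ∧ g • w = w ∧ orderOf g = 2 ∧ ∀ x ∈ hsSet v w, g • x ≠ x := by
  obtain ⟨k, hk, hk'⟩ := hs_pair_map v w hv hw hvw
  obtain ⟨g, ⟨g1, g2⟩, ho, free, -⟩ := hs_free_inv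
  have g3 : g • (hsVec - refU) = hsVec - refU := by rw [sub_eq_add_neg, co0_add, co0_neg, g1, g2]
  refine ⟨k⁻¹ * g * k, ?_, ?_, ?_, fun x hx e => ?_⟩
  · rw [mul_smul, mul_smul, hk, g1, ← hk, inv_smul_smul]
  · rw [mul_smul, mul_smul, hk', g3, ← hk', inv_smul_smul]
  · rw [show k⁻¹ * g * k = MulAut.conj k⁻¹ g by simp, MulEquiv.orderOf_eq, ho]
  · rw [mul_smul, mul_smul, inv_smul_eq_iff] at e
    exact free _ ((hsSet_image hk hk' x).1 hx) e

end Cfsg.Agent.Spor
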