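import Cfsg.Agent.Lib.Spor.SuzRepG24Loops0
import Cfsg.Agent.Lib.Spor.SuzRepG24Orbits

/-!
Table `RepG24` of Suz: assembled.
-/

set_option autoImplicit false
set_option maxRecDepth 100000

namespace Cfsg.Agent.Spor.SuzCert.RepG24

open Cfsg.Agent.Spor.CC

theorem valid : tab.Valid := by
  intro u hu x hx
  replace hu : u < 1782 := hu
  by_cases h0 : u < 470
  · exact invOK_spec inv0 (by omega) h0 hx
  by_cases h1 : u < 940
  · exact invOK_spec inv1 (by omega) h1 hx
  by_cases h2 : u < 1410
  · exact invOK_spec inv2 (by omega) h2 hx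
  exact invOK_spec inv3 (by omega) hu hx

theorem loops : tab.Loops Cfsg.Agent.Spor.SuzCert.pres.relW := by
  intro u hu r hr
  replace hu : u < 1782 := hu
  by_cases h0 : u < 470
  · exact loopOK_spec loop0 (by omega) h0 hr
  by_cases h1 : u < 940
  · exact loopOK_spec loop1 (by omega) h1 hr
  by_cases h2 : u < 1410
  · exact loopOK_spec loop2 (by omega) h2 hr
  exact loopOK_spec loop3 (by omega) hu hr

theorem loops_more : tab.Loops more := by
  intro u hu r hr
  replace hu : u < 1782 := hu
  by_cases h0 : u < 470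
  · exact loopOK_spec loopMore0 (by omega) h0 hr
  by_cases h1 : u < 940
  · exact loopOK_spec loopMore1 (by omega) h1 hr
  by_cases h2 : u < 1410
  · exact loopOK_spec loopMore2 (by omega) h2 hr
  exact loopOK_spec loopMore3 (by omega) hu hr

end Cfsg.Agent.Spor.SuzCert.RepG24
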