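import Cfsg.Agent.Lib.Spor.RepCert
import Cfsg.Agent.Lib.Spor.SuzIdxG24Cert
import Cfsg.Agent.Lib.Spor.SuzIdxJ2Cert
import Cfsg.Agent.Lib.Spor.SuzIdxPGLCert
import Cfsg.Agent.Lib.Spor.SuzLocABCDCert
import Cfsg.Agent.Lib.Spor.SuzDihCDCert
import Cfsg.Agent.Lib.Spor.SuzRepG24Perm
import Cfsg.Prelude.Def_Sporadic

/-!
The presented Suzuki group: order, simplicity, the action on 1782 cosets.
-/

set_option autoImplicit false
set_option maxRecDepth 100000

namespace Cfsg.Agent.Spor.SuzCert

open Cfsg.Agent.Spor.CC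

theorem no_more : ∀ r ∈ ([] : List (List ℕ)), (r.map pres.gen).prod = 1 := by simp

theorem card_top : Finite (⊤ : Subgroup pres.Grp) ∧ Nat.card (⊤ : Subgroup pres.Grp) ≤ 448345497600 := by
  have h1 := Pres.sub_card_le pres_ok DihCD.checked (ks := DihCD.letters) rfl no_more DihCD.words_ok
    (b := 1) (by rw [show DihCD.subW = [] from rfl, Pres.wsub_nil]; exact bot_card)
  have e2 : pres.wsub LocABCD.subW = pres.sub DihCD.letters := Pres.wsub_singles [2, 3]
  have h2 := Pres.sub_card_le pres_ok LocABCD.checked (ks := LocABCD.letters) rfl no_more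
    LocABCD.words_ok (e2 ▸ h1)
  have e3 : pres.wsub IdxPGL.subW = pres.sub LocABCD.letters := Pres.wsub_singles [0, 1, 2, 3]
  have h3 := Pres.sub_card_le pres_ok IdxPGL.checked (ks := IdxPGL.letters) rfl no_more
    IdxPGL.words_ok (e3 ▸ h2)
  have e4 : pres.wsub IdxJ2.subW = pres.sub IdxPGL.letters := Pres.wsub_singles [0, 1, 2, 3, 4]
  have h4 := Pres.sub_card_le pres_ok IdxJ2.checked (ks := IdxJ2.letters) rfl no_more
    IdxJ2.words_ok (e4 ▸ h3)
  have e5 : pres.wsub IdxG24.subW = pres.sub IdxJ2.letters := Pres.wsub_singles [0, 1, 2, 3, 4, 5]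
  have h5 := Pres.sub_card_le pres_ok IdxG24.checked (ks := IdxG24.letters) rfl no_more
    IdxG24.words_ok (e5 ▸ h4)
  rw [Pres.sub_all pres_ok (ks := IdxG24.letters) (by decide)] at h5
  exact ⟨h5.1, h5.2.trans (le_of_eq rfl)⟩

/-- the action on 1782 points -/
noncomputable def rep : Rep pres where
  P := RepG24.tab
  ok := pres_ok
  valid := RepG24.valid
  hng := rfl
  letters := relW_letters
  loops := RepG24.loops
  z := ⟨0, by decide⟩
  all := RepG24.allOrb
  all_b := rfl
  all_k := rfl
  all_ok := RepG24.all_ok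
  all_letters := RepG24.all_letters

theorem order : Finite pres.Grp ∧ Nat.card pres.Grp = 448345497600 ∧ Function.Injective rep.hom :=
  rep.order_eq RepG24.chain_ok RepG24.chain_size card_top

theorem stab_eq : pres.wsub IdxG24.subW = stab rep.hom rep.z ∧ (pres.wsub IdxG24.subW).index = 1782 :=
  rep.wsub_eq_stab (by decide +kernel) (by decide +kernel)
    (Pres.sub_index_le pres_ok IdxG24.checked (ks := IdxG24.letters) rfl (by decide) no_more IdxG24.words_ok)

theorem orbits :
    (∃ p : pres.Grp, (MulAction.orbit (pres.wsub IdxG24.subW) (p : pres.Grp ⧸ pres.wsub IdxG24.subW)).ncard = 416) ∧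
    (∃ p : pres.Grp, (MulAction.orbit (pres.wsub IdxG24.subW) (p : pres.Grp ⧸ pres.wsub IdxG24.subW)).ncard = 1365) := by
  haveI := order.1
  exact ⟨rep.exists_coset_orbit stab_eq.1 RepG24.sub2 (by decide +kernel) (by decide) RepG24.sub2_ok
      RepG24.sub2_closed RepG24.sub2_letters rfl,
    rep.exists_coset_orbit stab_eq.1 RepG24.sub1 (by decide +kernel) (by decide) RepG24.sub1_ok
      RepG24.sub1_closed RepG24.sub1_letters rfl⟩

theorem quotient_trivial {M : Type*} [Group M] (f : pres.Grp →* M) (ha : f (pres.gen 0) = 1) :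
    ∀ x, f (pres.gen x) = 1 := by
  have cox := fun i j (hi : i < 7) (hj : j < 7) => congrArg f (Pres.cox_one pres_ok (i := i) (j := j) hi hj)
  have sq : ∀ x, f (pres.gen x) * f (pres.gen x) = 1 := fun x => by
    rw [← map_mul, Pres.gen_sq pres_ok, map_one]
  have odd : ∀ i j, (hi : i < 7) → (hj : j < 7) →
      Cfsg.Spor.coxLabel pres.edges (pres.nm i) (pres.nm j) % 2 = 1 →
      f (pres.gen i) = 1 → f (pres.gen j) = 1 := by
    intro i j hi hj hodd h1
    have := cox i j hi hj
    rw [map_pow, map_mul, h1, one_mul, map_one, ← Nat.div_add_mod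
      (Cfsg.Spor.coxLabel pres.edges (pres.nm i) (pres.nm j)) 2, hodd, pow_add, pow_one, pow_mul,
      pow_two, sq, one_pow, one_mul] at this
    exact this
  have hb : f (pres.gen 1) = 1 := odd 0 1 (by decide) (by decide) (by decide +kernel) ha
  have hc : f (pres.gen 2) = 1 := odd 1 2 (by decide) (by decide) (by decide +kernel) hb
  have hf : f (pres.gen 5) = 1 := odd 1 5 (by decide) (by decide) (by decide +kernel) hb
  have hg : f (pres.gen 6) = 1 := odd 1 6 (by decide) (by decide) (by decide +kernel) hb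
  have hlast : f (((powW 3 (powW 5 [1, 2, 3, 2, 3] ++ [4])).map pres.gen).prod) = 1 := by
    rw [Pres.relW_one pres_ok (by simp [Pres.relW, pres]), map_one]
  rw [prod_powW, List.map_append, List.prod_append, prod_powW, map_pow, map_mul, map_pow] at hlast
  simp only [List.map_cons, List.map_nil, List.prod_cons, List.prod_nil, mul_one, map_mul, hb, hc,
    one_mul, sq, one_pow] at hlast
  have he : f (pres.gen 4) = 1 := by
    rwa [pow_succ, pow_two, sq, one_mul] at hlast
  have hd : f (pres.gen 3) = 1 := odd 4 3 (by decide) (by decide) (by decide +kernel) he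
  intro x
  by_cases hx : x < 7
  · interval_cases x <;> assumption
  · rw [Pres.gen_big (Q := pres) hx, map_one]

theorem subs_ws : ∀ O ∈ RepG24.subs, O.ws = IdxG24.subW := by
  intro O hO
  simp only [RepG24.subs, List.mem_cons, List.not_mem_nil, or_false] at hO
  rcases hO with rfl | rfl | rfl <;> rfl

theorem simple : IsSimpleGroup pres.Grp := by
  obtain ⟨hfin, hcard, hinj⟩ := order
  haveI : Nontrivial pres.Grp := Finite.one_lt_card_iff_nontrivial.mp (by rw [hcard]; norm_num)
  refine ⟨fun N hN => ?_⟩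
  haveI := hN
  rcases rep.gen_mem_normal hinj RepG24.part_ok RepG24.sums_ok (by decide +kernel)
      (W := IdxG24.subW) subs_ws
      stab_eq.1 (q := 11) (e := 1) (by norm_num) (by decide +kernel) (by rw [hcard]; norm_num)
      (o1 := 11) (o2 := 11) (j1 := 1) (j2 := 1) rfl rfl (w1 := RepG24.fac1) (w2 := RepG24.fac2) (a := 0)
      (by decide +kernel) RepG24.loops_more N with h | h
  · exact Or.inl h
  · right
    have hq := quotient_trivial (QuotientGroup.mk' N) ((QuotientGroup.eq_one_iff _).mpr h)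
    rw [eq_top_iff, ← Pres.closure_gen pres_ok]
    refine (Subgroup.closure_le _).mpr ?_
    rintro _ ⟨x, -, rfl⟩
    exact (QuotientGroup.eq_one_iff _).mp (hq x)

theorem isSuz : Cfsg.IsSuz Cfsg.Spor.Suz := ⟨simple, order.2.1⟩

end Cfsg.Agent.Spor.SuzCert
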