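import Mathlib
import Cfsg.Agent.Lib.Spor.PlaneAut

/-!
A perfect central extension of the projective special linear group in dimension three over the
field with four elements by an elementary abelian 2-group has kernel of order at most four.
-/

set_option autoImplicit false

namespace Cfsg.Agent.Spor.CoverThreeFour

open scoped MatrixGroups commutatorElement

section General

variable {L G : Type*} [Group L] [Group G]

theorem comm_central (a b z w : L) (hz : z ∈ Subgroup.center L) (hw : w ∈ Subgroup.center L) :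
    ⁅a * z, b * w⁆ = ⁅a, b⁆ := by
  rw [Subgroup.mem_center_iff] at hz hw
  simp only [commutatorElement_def, mul_inv_rev]
  calc a * z * (b * w) * (z⁻¹ * a⁻¹) * (w⁻¹ * b⁻¹)
      = a * (z * (b * w)) * z⁻¹ * a⁻¹ * w⁻¹ * b⁻¹ := by group
    _ = a * (b * w * z) * z⁻¹ * a⁻¹ * w⁻¹ * b⁻¹ := by rw [hz (b * w)]
    _ = a * b * (w * a⁻¹) * w⁻¹ * b⁻¹ := by group
    _ = a * b * (a⁻¹ * w) * w⁻¹ * b⁻¹ := by rw [hw a⁻¹]
    _ = a * b * a⁻¹ * b⁻¹ := by group

variable (π : L →* G) (hs : Function.Surjective π)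

/-- a preimage -/
noncomputable def up (a : G) : L := Function.surjInv hs a

theorem proj_up (a : G) : π (up π hs a) = a := Function.surjInv_eq hs a

/-- the commutator of preimages -/
noncomputable def kap (a b : G) : L := ⁅up π hs a, up π hs b⁆

variable (hc : π.ker ≤ Subgroup.center L)

include hc in
theorem kap_eq (x y : L) : ⁅x, y⁆ = kap π hs (π x) (π y) := by
  have key : ∀ u : L, ∃ z ∈ Subgroup.center L, u = up π hs (π u) * z := fun u =>
    ⟨(up π hs (π u))⁻¹ * u, hc (by rw [MonoidHom.mem_ker, map_mul, map_inv, proj_up, inv_mul_cancel]),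
      by group⟩
  obtain ⟨z, hz, ex⟩ := key x
  obtain ⟨w, hw, ey⟩ := key y
  calc ⁅x, y⁆ = ⁅up π hs (π x) * z, up π hs (π y) * w⁆ := by rw [← ex, ← ey]
    _ = _ := comm_central _ _ _ _ hz hw

include hs hc in
/-- the preimage of an elementary abelian subgroup with transitive normaliser is abelian -/
theorem commute_of_transitive (h2 : ∀ z ∈ π.ker, z * z = 1) (E : Set G)
    (hmul : ∀ a ∈ E, ∀ b ∈ E, a * b ∈ E) (hsq : ∀ a ∈ E, a * a = 1)
    (htr : ∀ a ∈ E, a ≠ 1 → ∀ b ∈ E, b ≠ 1 → ∃ g : G, g * a * g⁻¹ = b)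
    (hthree : ∃ x ∈ E, ∃ y ∈ E, ∃ z ∈ E, x ≠ 1 ∧ y ≠ 1 ∧ z ≠ 1 ∧ x ≠ y ∧ x ≠ z ∧ y ≠ z ∧ y * z ≠ x)
    (x y : L) (hx : π x ∈ E) (hy : π y ∈ E) : x * y = y * x := by
  obtain ⟨p, hpE, q, hqE, r, hrE, hp, hq, hr, hpq, hpr, hqr, hqrp⟩ := hthree
  set c : L := up π hs p * up π hs p with hcdef
  have hcker : c ∈ π.ker := by
    rw [MonoidHom.mem_ker, hcdef, map_mul, proj_up, hsq p hpE]
  have hcc : ∀ u : L, u * c = c * u := fun u => Subgroup.mem_center_iff.mp (hc hcker) u
  have hc2 : c * c = 1 := h2 c hcker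
  have hsquare : ∀ u : L, π u ∈ E → π u ≠ 1 → u * u = c := by
    intro u hu hu1
    obtain ⟨g, hg⟩ := htr p hpE hp (π u) hu hu1
    have hker : (up π hs g * up π hs p * (up π hs g)⁻¹)⁻¹ * u ∈ π.ker := by
      rw [MonoidHom.mem_ker, map_mul, map_inv, map_mul, map_mul, map_inv, proj_up, proj_up, hg, inv_mul_cancel]
    set z := (up π hs g * up π hs p * (up π hs g)⁻¹)⁻¹ * u with hz
    have hu' : u = up π hs g * up π hs p * (up π hs g)⁻¹ * z := by rw [hz]; group
    have hzc := Subgroup.mem_center_iff.mp (hc hker)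
    rw [hu']
    calc up π hs g * up π hs p * (up π hs g)⁻¹ * z * (up π hs g * up π hs p * (up π hs g)⁻¹ * z)
        = up π hs g * up π hs p * (up π hs g)⁻¹ *
            (z * (up π hs g * up π hs p * (up π hs g)⁻¹)) * z := by group
      _ = up π hs g * up π hs p * (up π hs g)⁻¹ *
            (up π hs g * up π hs p * (up π hs g)⁻¹ * z) * z := by rw [← hzc (up π hs g * up π hs p * (up π hs g)⁻¹)]
      _ = up π hs g * c * (up π hs g)⁻¹ * (z * z) := by rw [hcdef]; group
      _ = c := by rw [h2 z hker, hcc]; group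
  have hne : ∀ a ∈ E, ∀ b ∈ E, a ≠ b → a * b ≠ 1 := fun a ha b _ hab e =>
    hab (mul_left_cancel (a := a) ((hsq a ha).trans e.symm))
  have hpair : ∀ u v : L, π u ∈ E → π v ∈ E → π u ≠ 1 → π v ≠ 1 → π u ≠ π v →
      u * v = c * (v * u) := by
    intro u v hu hv hu1 hv1 huv
    have huv2 := hsquare (u * v) (by rw [map_mul]; exact hmul _ hu _ hv)
      (by rw [map_mul]; exact hne _ hu _ hv huv)
    have h1 := hsquare u hu hu1
    have h2' := hsquare v hv hv1
    have e : u * (u * v * (u * v)) * v = c * (v * u) * c := by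
      rw [show u * (u * v * (u * v)) * v = (u * u) * (v * u) * (v * v) by group, h1, h2']
    rw [huv2, hcc u] at e
    have e' : c * (u * v) = c * (v * u) * c := by rw [← e]; group
    rw [hcc (c * (v * u))] at e'
    exact mul_left_cancel (a := c) e'
  have hc1 : c = 1 := by
    have hP : π (up π hs p) = p := proj_up π hs p
    have hQ : π (up π hs q) = q := proj_up π hs q
    have hR : π (up π hs r) = r := proj_up π hs r
    set P := up π hs p
    set Q := up π hs q
    set R := up π hs r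
    have e1 : P * Q = c * (Q * P) :=
      hpair P Q (hP ▸ hpE) (hQ ▸ hqE) (hP ▸ hp) (hQ ▸ hq) (by rw [hP, hQ]; exact hpq)
    have e2 : P * R = c * (R * P) :=
      hpair P R (hP ▸ hpE) (hR ▸ hrE) (hP ▸ hp) (hR ▸ hr) (by rw [hP, hR]; exact hpr)
    have e3 : P * (Q * R) = c * (Q * R * P) :=
      hpair P (Q * R) (hP ▸ hpE) (by rw [map_mul, hQ, hR]; exact hmul _ hqE _ hrE) (hP ▸ hp)
        (by rw [map_mul, hQ, hR]; exact hne _ hqE _ hrE hqr)
        (by rw [map_mul, hP, hQ, hR]; exact Ne.symm hqrp)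
    have e4 : P * (Q * R) = Q * R * P := by
      calc P * (Q * R) = c * (Q * P) * R := by rw [← mul_assoc, e1]
        _ = c * Q * (P * R) := by group
        _ = c * Q * (c * (R * P)) := by rw [e2]
        _ = c * (Q * c) * (R * P) := by group
        _ = (c * c) * (Q * R * P) := by rw [hcc Q]; group
        _ = Q * R * P := by rw [hc2, one_mul]
    rw [e4] at e3
    exact mul_eq_right.mp e3.symm
  have hcentral : ∀ w : L, π w = 1 → ∀ v : L, v * w = w * v := fun w hw v =>
    Subgroup.mem_center_iff.mp (hc (MonoidHom.mem_ker.mpr hw)) v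
  by_cases hx1 : π x = 1
  · exact (hcentral x hx1 y).symm
  by_cases hy1 : π y = 1
  · exact hcentral y hy1 x
  by_cases hxy : π x = π y
  · have hz := hcentral (x⁻¹ * y) (by rw [map_mul, map_inv, hxy, inv_mul_cancel]) x
    calc x * y = x * (x * (x⁻¹ * y)) := by group
      _ = x * (x⁻¹ * y * x) := by rw [hz]
      _ = y * x := by group
  rw [hpair x y hx hy hx1 hy1 hxy, hc1, one_mul]

end General

section Field4

variable {F : Type} [Field F]

/-- an upper unitriangular matrix -/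
def U (l n m : F) : SL(3, F) := ⟨!![1, l, n; 0, 1, m; 0, 0, 1], by simp [Matrix.det_fin_three]⟩

/-- a diagonal matrix -/
def D (s t : Fˣ) : SL(3, F) :=
  ⟨!![(s : F), 0, 0; 0, (t : F), 0; 0, 0, ((s * t)⁻¹ : Fˣ)], by simp [Matrix.det_fin_three]; field_simp⟩

/-- a matrix in the upper left block -/
def topBlock (a b c d : F) (h : a * d - b * c = 1) : SL(3, F) :=
  ⟨!![a, b, 0; c, d, 0; 0, 0, 1], by rw [Matrix.det_fin_three]; simp; linear_combination h⟩

/-- a matrix in the lower right block -/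
def lowBlock (a b c d : F) (h : a * d - b * c = 1) : SL(3, F) :=
  ⟨!![1, 0, 0; 0, a, b; 0, c, d], by rw [Matrix.det_fin_three]; simp; linear_combination h⟩

theorem U_mul (l n m l' n' m' : F) :
    U l n m * U l' n' m' = U (l + l') (n + n' + l * m') (m + m') := by
  ext i j
  simp only [Matrix.SpecialLinearGroup.coe_mul]
  fin_cases i <;> fin_cases j <;>
    simp [U, Matrix.SpecialLinearGroup.coe_mul, Matrix.mul_apply, Fin.sum_univ_three] <;> ring

theorem U_zero : (U 0 0 0 : SL(3, F)) = 1 := by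
  ext i j
  fin_cases i <;> fin_cases j <;> simp [U]

theorem D_mul_U (s t : Fˣ) (l n m : F) :
    D s t * U l n m = U ((s : F) * (t⁻¹ : Fˣ) * l) ((s : F) * s * t * n) ((t : F) * s * t * m) * D s t := by
  ext i j
  simp only [Matrix.SpecialLinearGroup.coe_mul]
  fin_cases i <;> fin_cases j <;>
    simp [U, D, Matrix.SpecialLinearGroup.coe_mul, Matrix.mul_apply, Fin.sum_univ_three] <;> field_simp

theorem D_comm (s t s' t' : Fˣ) : D s t * D s' t' = D s' t' * D s t := by
  ext i j
  simp only [Matrix.SpecialLinearGroup.coe_mul]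
  fin_cases i <;> fin_cases j <;>
    simp [D, Matrix.SpecialLinearGroup.coe_mul, Matrix.mul_apply, Fin.sum_univ_three] <;> ring

theorem top_mul_U (a b c d : F) (h : a * d - b * c = 1) (n m : F) :
    topBlock a b c d h * U 0 n m = U 0 (a * n + b * m) (c * n + d * m) * topBlock a b c d h := by
  ext i j
  simp only [Matrix.SpecialLinearGroup.coe_mul]
  fin_cases i <;> fin_cases j <;> simp [U, topBlock, Matrix.SpecialLinearGroup.coe_mul, Matrix.mul_apply, Fin.sum_univ_three]

theorem low_mul_U (a b c d : F) (h : a * d - b * c = 1) (l n : F) :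
    lowBlock a b c d h * U (l * a + n * c) (l * b + n * d) 0 = U l n 0 * lowBlock a b c d h := by
  ext i j
  simp only [Matrix.SpecialLinearGroup.coe_mul]
  fin_cases i <;> fin_cases j <;> simp [U, lowBlock, Matrix.SpecialLinearGroup.coe_mul, Matrix.mul_apply, Fin.sum_univ_three]

/-- the image in the projective group -/
def pU (l n m : F) : Matrix.ProjectiveSpecialLinearGroup (Fin 3) F :=
  QuotientGroup.mk' _ (U l n m)

theorem pU_mul (l n m l' n' m' : F) :
    pU l n m * pU l' n' m' = pU (l + l') (n + n' + l * m') (m + m') := by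
  rw [pU, pU, pU, ← map_mul, U_mul]

theorem pU_zero : pU (0 : F) 0 0 = 1 := by rw [pU, U_zero, map_one]

theorem pU_eq_one {l n m : F} (h : pU l n m = 1) : l = 0 ∧ n = 0 ∧ m = 0 := by
  rw [pU, QuotientGroup.mk'_apply, QuotientGroup.eq_one_iff,
    Matrix.SpecialLinearGroup.mem_center_iff] at h
  obtain ⟨r, -, hr⟩ := h
  have e : ∀ i j : Fin 3, (Matrix.scalar (Fin 3) r) i j = (U l n m : Matrix (Fin 3) (Fin 3) F) i j :=
    fun i j => by rw [hr]
  have e01 := e 0 1
  have e02 := e 0 2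
  have e12 := e 1 2
  simp [U] at e01 e02 e12
  exact ⟨e01.symm, e02.symm, e12.symm⟩

theorem pU_inj {l n m l' n' m' : F} (hl : l = 0 ∨ m' = m) (h : pU l n m = pU l' n' m') :
    l = l' ∧ n = n' ∧ m = m' := by
  have e : pU (-l) (-n + l * m) (-m) * pU l' n' m' = 1 := by
    rw [← h, pU_mul, ← pU_zero (F := F)]
    congr 1 <;> ring
  rw [pU_mul] at e
  obtain ⟨h1, h2, h3⟩ := pU_eq_one e
  rcases hl with hl | hl <;>
    exact ⟨by linear_combination -h1, by subst hl; linear_combination -h2, by linear_combination -h3⟩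

variable [Fintype F]

theorem cube_eq_one (hF : Fintype.card F = 4) {a : F} (ha : a ≠ 0) : a ^ 3 = 1 := by
  have := FiniteField.pow_card_sub_one_eq_one a ha
  rwa [hF] at this

theorem add_self (hF : Fintype.card F = 4) (a : F) : a + a = 0 := by
  have h4 : ((4 : ℕ) : F) = 0 := by rw [← hF]; exact Nat.cast_card_eq_zero F
  have h2 : (2 : F) = 0 := by
    have : (2 : F) * 2 = 0 := by norm_num at h4 ⊢; exact h4
    exact mul_self_eq_zero.mp this
  linear_combination a * h2

theorem exists_omega (hF : Fintype.card F = 4) : ∃ w : F, w ≠ 0 ∧ w ≠ 1 := by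
  classical
  by_contra hne
  push Not at hne
  have hsub : (Finset.univ : Finset F) ⊆ {0, 1} := fun x _ => by
    by_cases hx : x = 0
    · simp [hx]
    · simp [hne x hx]
  have := (Finset.card_le_card hsub).trans Finset.card_le_two
  rw [Finset.card_univ, hF] at this
  omega

variable {L : Type*} [Group L] [Finite L]

set_option maxHeartbeats 1000000 in
theorem card_ker_le_four (hF : Fintype.card F = 4)
    (π : L →* Matrix.ProjectiveSpecialLinearGroup (Fin 3) F) (hs : Function.Surjective π)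
    (hc : π.ker ≤ Subgroup.center L) (h2 : ∀ z ∈ π.ker, z * z = 1)
    (hperf : commutator L = ⊤) : Nat.card π.ker ≤ 4 := by
  classical
  obtain ⟨w, hw0, hw1⟩ := exists_omega hF
  have hneg : ∀ a : F, -a = a := fun a => neg_eq_of_add_eq_zero_left (add_self hF a)
  have hw3 : w ^ 3 = 1 := cube_eq_one hF hw0
  have hw21 : w * w ≠ 1 := fun e => hw1 (by linear_combination hw3 - w * e)
  have hww : w * w ≠ w := fun e => hw1 (mul_left_cancel₀ hw0 (e.trans (mul_one w).symm))
  -- the two abelian preimages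
  let R : Set (Matrix.ProjectiveSpecialLinearGroup (Fin 3) F) := {g | ∃ l n : F, g = pU l n 0}
  let C : Set (Matrix.ProjectiveSpecialLinearGroup (Fin 3) F) := {g | ∃ n m : F, g = pU 0 n m}
  have hR : ∀ x y : L, π x ∈ R → π y ∈ R → x * y = y * x := by
    refine commute_of_transitive π hs hc h2 R ?_ ?_ ?_ ?_
    · rintro _ ⟨l, n, rfl⟩ _ ⟨l', n', rfl⟩
      exact ⟨l + l', n + n', by rw [pU_mul]; simp⟩
    · rintro _ ⟨l, n, rfl⟩
      rw [pU_mul]
      simp [add_self hF, pU_zero]
    · have base : ∀ l n : F, pU l n 0 ≠ 1 → ∃ g, g * pU l n 0 * g⁻¹ = pU (1 : F) 0 0 := by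
        intro l n hne
        by_cases hl : l = 0
        · have hn : n ≠ 0 := fun e => hne (by rw [hl, e, pU_zero])
          refine ⟨QuotientGroup.mk' _ (lowBlock 0 n (-n⁻¹) 0 (by field_simp; ring)), ?_⟩
          rw [mul_inv_eq_iff_eq_mul, pU, pU, ← map_mul, ← map_mul]
          congr 1
          have := low_mul_U 0 n (-n⁻¹) 0 (by field_simp; ring) 1 0
          simpa [hl] using this
        · refine ⟨QuotientGroup.mk' _ (lowBlock l n 0 l⁻¹ (by field_simp; ring)), ?_⟩
          rw [mul_inv_eq_iff_eq_mul, pU, pU, ← map_mul, ← map_mul]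
          congr 1
          have := low_mul_U l n 0 l⁻¹ (by field_simp; ring) 1 0
          simpa using this
      rintro _ ⟨l, n, rfl⟩ ha _ ⟨l', n', rfl⟩ hb
      obtain ⟨g, hg⟩ := base l n ha
      obtain ⟨g', hg'⟩ := base l' n' hb
      refine ⟨g'⁻¹ * g, ?_⟩
      rw [show g'⁻¹ * g * pU l n 0 * (g'⁻¹ * g)⁻¹ = g'⁻¹ * (g * pU l n 0 * g⁻¹) * g' by group, hg, ← hg']
      group
    · refine ⟨pU 1 0 0, ⟨1, 0, rfl⟩, pU 0 1 0, ⟨0, 1, rfl⟩, pU 0 w 0, ⟨0, w, rfl⟩, ?_, ?_, ?_, ?_,
        ?_, ?_, ?_⟩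
      · exact fun e => one_ne_zero (pU_eq_one e).1
      · exact fun e => one_ne_zero (pU_eq_one e).2.1
      · exact fun e => hw0 (pU_eq_one e).2.1
      · exact fun e => one_ne_zero (pU_inj (Or.inr rfl) e).1
      · exact fun e => one_ne_zero (pU_inj (Or.inr rfl) e).1
      · exact fun e => hw1 (pU_inj (Or.inr rfl) e).2.1.symm
      · rw [pU_mul]
        exact fun e => one_ne_zero ((pU_inj (Or.inr (by simp)) e).1.symm.trans (by simp))
  have hC : ∀ x y : L, π x ∈ C → π y ∈ C → x * y = y * x := by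
    refine commute_of_transitive π hs hc h2 C ?_ ?_ ?_ ?_
    · rintro _ ⟨n, m, rfl⟩ _ ⟨n', m', rfl⟩
      exact ⟨n + n', m + m', by rw [pU_mul]; simp⟩
    · rintro _ ⟨n, m, rfl⟩
      rw [pU_mul]
      simp [add_self hF, pU_zero]
    · have base : ∀ n m : F, pU 0 n m ≠ 1 → ∃ g, g * pU 0 1 0 * g⁻¹ = pU 0 n m := by
        intro n m hne
        by_cases hn : n = 0
        · have hm : m ≠ 0 := fun e => hne (by rw [hn, e, pU_zero])
          refine ⟨QuotientGroup.mk' _ (topBlock 0 (-m⁻¹) m 0 (by field_simp; ring)), ?_⟩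
          rw [mul_inv_eq_iff_eq_mul, pU, pU, ← map_mul, ← map_mul]
          congr 1
          have := top_mul_U 0 (-m⁻¹) m 0 (by field_simp; ring) 1 0
          simpa [hn] using this
        · refine ⟨QuotientGroup.mk' _ (topBlock n 0 m n⁻¹ (by field_simp; ring)), ?_⟩
          rw [mul_inv_eq_iff_eq_mul, pU, pU, ← map_mul, ← map_mul]
          congr 1
          have := top_mul_U n 0 m n⁻¹ (by field_simp; ring) 1 0
          simpa using this
      rintro _ ⟨n, m, rfl⟩ ha _ ⟨n', m', rfl⟩ hb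
      obtain ⟨g, hg⟩ := base n m ha
      obtain ⟨g', hg'⟩ := base n' m' hb
      refine ⟨g' * g⁻¹, ?_⟩
      rw [← hg, ← hg']
      group
    · refine ⟨pU 0 0 1, ⟨0, 1, rfl⟩, pU 0 1 0, ⟨1, 0, rfl⟩, pU 0 w 0, ⟨w, 0, rfl⟩, ?_, ?_, ?_, ?_,
        ?_, ?_, ?_⟩
      · exact fun e => one_ne_zero (pU_eq_one e).2.2
      · exact fun e => one_ne_zero (pU_eq_one e).2.1
      · exact fun e => hw0 (pU_eq_one e).2.1
      · exact fun e => one_ne_zero (pU_inj (Or.inl rfl) e).2.2
      · exact fun e => one_ne_zero (pU_inj (Or.inl rfl) e).2.2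
      · exact fun e => hw1 (pU_inj (Or.inl rfl) e).2.1.symm
      · rw [pU_mul]
        exact fun e => one_ne_zero ((pU_inj (Or.inl (by simp)) e).2.2.symm.trans (by simp))
  -- canonical preimages of the root elements
  let s0 : Fˣ := Units.mk0 w hw0
  let t0 : Fˣ := Units.mk0 (w * w) (mul_ne_zero hw0 hw0)
  let h : Matrix.ProjectiveSpecialLinearGroup (Fin 3) F := QuotientGroup.mk' _ (D s0 t0)
  have conjU : ∀ (s t : Fˣ) (l n m : F),
      QuotientGroup.mk' _ (D s t) * pU l n m * (QuotientGroup.mk' _ (D s t))⁻¹ =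
        pU ((s : F) * (t⁻¹ : Fˣ) * l) ((s : F) * s * t * n) ((t : F) * s * t * m) := by
    intro s t l n m
    rw [mul_inv_eq_iff_eq_mul, pU, pU, ← map_mul, ← map_mul, D_mul_U]
  have hwi : w⁻¹ = w * w := inv_eq_of_mul_eq_one_right (by linear_combination hw3)
  have conjh : ∀ l n m : F, h * pU l n m * h⁻¹ = pU (w * w * l) (w * n) (w * w * m) := by
    intro l n m
    rw [conjU]
    congr 1
    · simp only [s0, t0, Units.val_mk0, Units.val_inv_eq_inv_val, mul_inv]
      rw [← mul_assoc, mul_inv_cancel₀ hw0, one_mul, hwi]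
    · simp only [s0, t0, Units.val_mk0]; linear_combination w * n * hw3
    · simp only [s0, t0, Units.val_mk0]; linear_combination w * w * m * hw3
  let a1 : F := (w * w - 1)⁻¹
  let a2 : F := (w - 1)⁻¹
  let X : F → L := fun l => kap π hs h (pU (a1 * l) 0 0)
  let Y : F → L := fun m => kap π hs h (pU 0 0 (a1 * m))
  let Z : F → L := fun n => kap π hs h (pU 0 (a2 * n) 0)
  have ha1 : (w * w - 1) * a1 = 1 := mul_inv_cancel₀ (sub_ne_zero.mpr hw21)
  have ha2 : (w - 1) * a2 = 1 := mul_inv_cancel₀ (sub_ne_zero.mpr hw1)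
  have pinv : ∀ l n m : F, (l = 0 ∨ m = 0) → (pU l n m)⁻¹ = pU (-l) (-n) (-m) := by
    intro l n m hlm
    refine inv_eq_of_mul_eq_one_right ?_
    rw [pU_mul]
    rcases hlm with e | e <;> simp [e, pU_zero]
  have πkap : ∀ a b, π (kap π hs a b) = ⁅a, b⁆ := fun a b => by
    rw [kap, map_commutatorElement, proj_up, proj_up]
  have πX : ∀ l, π (X l) = pU l 0 0 := by
    intro l
    simp only [X]
    rw [πkap, commutatorElement_def, conjh, pinv _ _ _ (Or.inr rfl), pU_mul]
    congr 1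
    · linear_combination l * ha1
    · ring
    · ring
  have πY : ∀ m, π (Y m) = pU 0 0 m := by
    intro m
    simp only [Y]
    rw [πkap, commutatorElement_def, conjh, pinv _ _ _ (Or.inl rfl), pU_mul]
    congr 1
    · ring
    · ring
    · linear_combination m * ha1
  have πZ : ∀ n, π (Z n) = pU 0 n 0 := by
    intro n
    simp only [Z]
    rw [πkap, commutatorElement_def, conjh, pinv _ _ _ (Or.inl rfl), pU_mul]
    congr 1
    · ring
    · linear_combination n * ha2
    · ring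
  have kap_add : ∀ (E : Set (Matrix.ProjectiveSpecialLinearGroup (Fin 3) F)),
      (∀ x y : L, π x ∈ E → π y ∈ E → x * y = y * x) → ∀ a b, a ∈ E → ⁅h, b⁆ ∈ E →
        kap π hs h (a * b) = kap π hs h a * kap π hs h b := by
    intro E hE a b ha hb
    have e1 : kap π hs h (a * b) = ⁅up π hs h, up π hs a * up π hs b⁆ := by
      rw [kap_eq π hs hc, map_mul, proj_up, proj_up, proj_up]
    have e2 := hE (up π hs a) (kap π hs h b) (by rw [proj_up]; exact ha) (by rw [πkap]; exact hb)
    rw [e1]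
    calc ⁅up π hs h, up π hs a * up π hs b⁆
        = ⁅up π hs h, up π hs a⁆ * (up π hs a * kap π hs h b * (up π hs a)⁻¹) := by
          simp only [kap, commutatorElement_def]; group
      _ = _ := by rw [e2]; simp only [kap]; group
  have X_add : ∀ l l', X (l + l') = X l * X l' := by
    intro l l'
    simp only [X]
    rw [← kap_add R hR _ _ ⟨_, _, rfl⟩ (by rw [← πkap]; exact ⟨_, _, πX l'⟩)]
    congr 1
    rw [pU_mul]
    congr 1 <;> ring
  have Y_add : ∀ m m', Y (m + m') = Y m * Y m' := by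
    intro m m'
    simp only [Y]
    rw [← kap_add C hC _ _ ⟨_, _, rfl⟩ (by rw [← πkap]; exact ⟨_, _, πY m'⟩)]
    congr 1
    rw [pU_mul]
    congr 1 <;> ring
  have Z_add : ∀ n n', Z (n + n') = Z n * Z n' := by
    intro n n'
    simp only [Z]
    rw [← kap_add C hC _ _ ⟨_, _, rfl⟩ (by rw [← πkap]; exact ⟨_, _, πZ n'⟩)]
    congr 1
    rw [pU_mul]
    congr 1 <;> ring
  have XX : ∀ l l', X l * X l' = X l' * X l := fun l l' => by rw [← X_add, ← X_add, add_comm]
  have YY : ∀ m m', Y m * Y m' = Y m' * Y m := fun m m' => by rw [← Y_add, ← Y_add, add_comm]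
  have XZ : ∀ l n, X l * Z n = Z n * X l := fun l n =>
    hR _ _ ⟨_, _, πX l⟩ ⟨_, _, πZ n⟩
  have YZ : ∀ m n, Y m * Z n = Z n * Y m := fun m n =>
    hC _ _ ⟨_, _, πY m⟩ ⟨_, _, πZ n⟩
  have kc : ∀ z : L, π z = 1 → ∀ g : L, g * z = z * g := fun z hz g =>
    Subgroup.mem_center_iff.mp (hc (MonoidHom.mem_ker.mpr hz)) g
  -- the pairing into the kernel
  let A : F → F → L := fun l m => ⁅X l, Y m⁆ * (Z (l * m))⁻¹
  have πA : ∀ l m, π (A l m) = 1 := by
    intro l m
    simp only [A]
    rw [map_mul, map_commutatorElement, map_inv, πX, πY, πZ, commutatorElement_def, pinv l 0 0 (Or.inr rfl),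
      pinv 0 0 m (Or.inl rfl), pinv 0 (l * m) 0 (Or.inl rfl), pU_mul, pU_mul, pU_mul, pU_mul, ← pU_zero (F := F)]
    congr 1 <;> ring
  have A_add : ∀ l m m', A l (m + m') = A l m * A l m' := by
    intro l m m'
    have c0 : ∀ m, ⁅X l, Y m⁆ = A l m * Z (l * m) := fun m => by simp only [A]; group
    have c1 : ∀ g, Commute g (A l m') := fun g => kc _ (πA l m') g
    have e : Y m * ⁅X l, Y m'⁆ * (Y m)⁻¹ = ⁅X l, Y m'⁆ := by
      rw [mul_inv_eq_iff_eq_mul, c0]
      calc Y m * (A l m' * Z (l * m')) = (Y m * A l m') * Z (l * m') := by group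
        _ = (A l m' * Y m) * Z (l * m') := by rw [(c1 _).eq]
        _ = A l m' * (Z (l * m') * Y m) := by rw [mul_assoc, YZ]
        _ = _ := by group
    have e' : ⁅X l, Y (m + m')⁆ = ⁅X l, Y m⁆ * ⁅X l, Y m'⁆ := by
      calc ⁅X l, Y (m + m')⁆ = ⁅X l, Y m⁆ * (Y m * ⁅X l, Y m'⁆ * (Y m)⁻¹) := by
            rw [Y_add]; simp only [commutatorElement_def]; group
        _ = _ := by rw [e]
    show ⁅X l, Y (m + m')⁆ * (Z (l * (m + m')))⁻¹ = A l m * A l m'
    rw [e', c0, c0, mul_add, Z_add]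
    calc A l m * Z (l * m) * (A l m' * Z (l * m')) * (Z (l * m) * Z (l * m'))⁻¹
        = A l m * (Z (l * m) * A l m') * (Z (l * m))⁻¹ := by group
      _ = A l m * (A l m' * Z (l * m)) * (Z (l * m))⁻¹ := by rw [(c1 _).eq]
      _ = _ := by group
  have A_zero : ∀ m, A 0 m = 1 := by
    intro m
    have hX0 : X 0 = 1 := (left_eq_mul (a := X 0)).mp (by rw [← X_add, add_zero])
    have hZ0 : Z 0 = 1 := (left_eq_mul (a := Z 0)).mp (by rw [← Z_add, add_zero])
    simp only [A]
    rw [zero_mul, hX0, hZ0, commutatorElement_one_left, inv_one, mul_one]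
  have A_scale : ∀ (u : F), u ≠ 0 → ∀ l m, A (u * l) (u * m) = A l m := by
    intro u hu l m
    let g : Matrix.ProjectiveSpecialLinearGroup (Fin 3) F := QuotientGroup.mk' _ (D (Units.mk0 u hu) 1)
    have hgh : g * h * g⁻¹ = h := by
      rw [mul_inv_eq_iff_eq_mul]
      simp only [g, h]
      rw [← map_mul, ← map_mul, D_comm]
    have hkap : ∀ b, up π hs g * kap π hs h b * (up π hs g)⁻¹ = kap π hs h (g * b * g⁻¹) := by
      intro b
      rw [kap, show up π hs g * ⁅up π hs h, up π hs b⁆ * (up π hs g)⁻¹ =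
        ⁅up π hs g * up π hs h * (up π hs g)⁻¹, up π hs g * up π hs b * (up π hs g)⁻¹⁆ by
          simp only [commutatorElement_def]; group, kap_eq π hs hc]
      congr 1 <;> simp only [map_mul, map_inv, proj_up, hgh]
    have gX : up π hs g * X l * (up π hs g)⁻¹ = X (u * l) := by
      simp only [X]
      rw [hkap, conjU]
      congr 2 <;> simp <;> ring
    have gY : up π hs g * Y m * (up π hs g)⁻¹ = Y (u * m) := by
      simp only [Y]
      rw [hkap, conjU]
      congr 2 <;> simp <;> ring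
    have gZ : up π hs g * Z (l * m) * (up π hs g)⁻¹ = Z (u * l * (u * m)) := by
      simp only [Z]
      rw [hkap, conjU]
      congr 2 <;> simp <;> ring
    calc A (u * l) (u * m) = up π hs g * A l m * (up π hs g)⁻¹ := by
          simp only [A]
          rw [← gX, ← gY, ← gZ]
          simp only [commutatorElement_def]; group
      _ = A l m := by rw [kc _ (πA l m) _]; group
  let Φ : Multiplicative (F × F) →* L :=
    { toFun := fun v => Z v.toAdd.1 * A 1 v.toAdd.2
      map_one' := by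
        show Z (0 : F) * A 1 0 = 1
        have hZ0 : Z 0 = 1 := (left_eq_mul (a := Z 0)).mp (by rw [← Z_add, add_zero])
        have hA0 : A 1 0 = 1 := (left_eq_mul (a := A 1 0)).mp (by rw [← A_add, add_zero])
        rw [hZ0, hA0, one_mul]
      map_mul' := fun v v' => by
        show Z (v.toAdd.1 + v'.toAdd.1) * A 1 (v.toAdd.2 + v'.toAdd.2) = _
        rw [Z_add, A_add]
        have := kc _ (πA 1 v.toAdd.2) (Z v'.toAdd.1)
        calc Z v.toAdd.1 * Z v'.toAdd.1 * (A 1 v.toAdd.2 * A 1 v'.toAdd.2)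
            = Z v.toAdd.1 * (Z v'.toAdd.1 * A 1 v.toAdd.2) * A 1 v'.toAdd.2 := by group
          _ = _ := by rw [this]; group }
  let K : Subgroup L := Φ.range
  have hXY : ∀ l m, ⁅X l, Y m⁆ ∈ K := by
    intro l m
    by_cases hl : l = 0
    · refine ⟨Multiplicative.ofAdd (0, 0), ?_⟩
      have hX0 : X 0 = 1 := (left_eq_mul (a := X 0)).mp (by rw [← X_add, add_zero])
      rw [hl, hX0, commutatorElement_one_left]
      exact Φ.map_one
    refine ⟨Multiplicative.ofAdd (l * m, m / l), ?_⟩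
    show Z (l * m) * A 1 (m / l) = _
    have e := A_scale l hl 1 (m / l)
    rw [mul_one, mul_div_cancel₀ _ hl] at e
    rw [← e, kc _ (πA l m) _]
    simp only [A]; group
  -- the preimage of the unitriangular group
  let Ubar : Subgroup (Matrix.ProjectiveSpecialLinearGroup (Fin 3) F) :=
    { carrier := {g | ∃ l n m : F, g = pU l n m}
      one_mem' := ⟨0, 0, 0, pU_zero.symm⟩
      mul_mem' := by
        rintro _ _ ⟨l, n, m, rfl⟩ ⟨l', n', m', rfl⟩
        exact ⟨_, _, _, pU_mul ..⟩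
      inv_mem' := by
        rintro _ ⟨l, n, m, rfl⟩
        refine ⟨-l, -n + l * m, -m, inv_eq_of_mul_eq_one_right ?_⟩
        rw [pU_mul, ← pU_zero (F := F)]
        congr 1 <;> ring }
  let S : Subgroup L := Ubar.comap π
  have hKcomm : ∀ k ∈ K, ∀ g ∈ S, g * k = k * g := by
    rintro _ ⟨v, rfl⟩ g ⟨l, n, m, hg⟩
    have hZ : ∀ n', g * Z n' = Z n' * g := by
      intro n'
      have hz : π ((X l * Y m)⁻¹ * g) ∈ C := by
        refine ⟨n - l * m, 0, ?_⟩
        rw [map_mul, map_inv, map_mul, πX, πY, hg, inv_mul_eq_iff_eq_mul, pU_mul, pU_mul]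
        congr 1 <;> ring
      have := hC _ (Z n') hz ⟨_, _, πZ n'⟩
      calc g * Z n' = X l * Y m * (((X l * Y m)⁻¹ * g) * Z n') := by group
        _ = X l * (Y m * Z n') * ((X l * Y m)⁻¹ * g) := by rw [this]; group
        _ = (X l * Z n') * Y m * ((X l * Y m)⁻¹ * g) := by rw [YZ]; group
        _ = _ := by rw [XZ]; group
    show g * (Z _ * A 1 _) = _
    rw [← mul_assoc, hZ, mul_assoc, kc _ (πA _ _) g]
    group
    rfl
  have hcomm : ∀ g ∈ S, ∀ g' ∈ S, ⁅g, g'⁆ ∈ K := by
    intro g hg g' hg'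
    obtain ⟨l, n, m, hl⟩ := hg
    obtain ⟨l', n', m', hl'⟩ := hg'
    have red : ∀ (g : L) (l n m : F), π g = pU l n m →
        ∃ z, π z = 1 ∧ g = X l * Y m * Z (n - l * m) * z := fun g l n m hg =>
      ⟨(X l * Y m * Z (n - l * m))⁻¹ * g, by
        rw [map_mul, map_inv, map_mul, map_mul, πX, πY, πZ, hg, inv_mul_eq_one, pU_mul, pU_mul]
        congr 1 <;> ring, by group⟩
    obtain ⟨z, hz, rfl⟩ := red g l n m hl
    obtain ⟨z', hz', rfl⟩ := red g' l' n' m' hl'
    rw [comm_central _ _ _ _ (hc (MonoidHom.mem_ker.mpr hz)) (hc (MonoidHom.mem_ker.mpr hz'))]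
    have hS : ∀ l m, X l * Y m ∈ S := fun l m => ⟨l, l * m, m, by rw [map_mul, πX, πY, pU_mul]; congr 1 <;> ring⟩
    have hXS : ∀ l, X l ∈ S := fun l => ⟨l, 0, 0, πX l⟩
    have hYS : ∀ m, Y m ∈ S := fun m => ⟨0, 0, m, πY m⟩
    have hZc : ∀ n, ∀ g ∈ S, g * Z n = Z n * g := fun n g hg => by
      refine hKcomm _ ⟨Multiplicative.ofAdd (n, 0), ?_⟩ g hg
      show Z n * A 1 0 = Z n
      rw [show A 1 0 = 1 from (left_eq_mul (a := A 1 0)).mp (by rw [← A_add, add_zero]), mul_one]
    generalize hp : n - l * m = p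
    generalize hp' : n' - l' * m' = p'
    have strip : ⁅X l * Y m * Z p, X l' * Y m' * Z p'⁆ = ⁅X l * Y m, X l' * Y m'⁆ := by
      have e1 := hZc p _ (hS l' m')
      have e2 := hZc p' _ (hS l m)
      have e3 : Z p * Z p' = Z p' * Z p := by rw [← Z_add, ← Z_add, add_comm]
      set u := X l * Y m
      set v := X l' * Y m'
      have hu : Commute u (Z p') := e2
      have hv : Commute v (Z p) := e1
      have hpp : Commute (Z p) (Z p') := e3
      simp only [commutatorElement_def, mul_inv_rev]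
      calc u * Z p * (v * Z p') * ((Z p)⁻¹ * u⁻¹) * ((Z p')⁻¹ * v⁻¹)
          = u * (Z p * v) * (Z p' * (Z p)⁻¹) * u⁻¹ * (Z p')⁻¹ * v⁻¹ := by group
        _ = u * (v * Z p) * ((Z p)⁻¹ * Z p') * u⁻¹ * (Z p')⁻¹ * v⁻¹ := by
            rw [hv.symm.eq, hpp.inv_left.symm.eq]
        _ = u * v * (Z p' * u⁻¹) * (Z p')⁻¹ * v⁻¹ := by group
        _ = u * v * (u⁻¹ * Z p') * (Z p')⁻¹ * v⁻¹ := by rw [hu.inv_left.symm.eq]
        _ = u * v * u⁻¹ * v⁻¹ := by group
    rw [strip]
    have k1 := hXY l' m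
    have k2 := hXY l m'
    have e1 : Y m * X l' = ⁅X l', Y m⁆⁻¹ * (X l' * Y m) := by simp only [commutatorElement_def]; group
    have e2 : Y m' * X l = ⁅X l, Y m'⁆⁻¹ * (X l * Y m') := by simp only [commutatorElement_def]; group
    have c1 : Commute (X l) (⁅X l', Y m⁆⁻¹) := hKcomm _ (inv_mem k1) _ (hXS _)
    have c2 : Commute (X l') (⁅X l, Y m'⁆⁻¹) := hKcomm _ (inv_mem k2) _ (hXS _)
    have p1 : (X l * Y m) * (X l' * Y m') = ⁅X l', Y m⁆⁻¹ * (X (l + l') * Y (m + m')) := by
      rw [X_add, Y_add, show X l * Y m * (X l' * Y m') = X l * (Y m * X l') * Y m' by group, e1,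
        ← mul_assoc (X l), c1.eq]
      group
    have p2 : (X l' * Y m') * (X l * Y m) = ⁅X l, Y m'⁆⁻¹ * (X (l + l') * Y (m + m')) := by
      rw [add_comm l, add_comm m, X_add, Y_add,
        show X l' * Y m' * (X l * Y m) = X l' * (Y m' * X l) * Y m by group, e2,
        ← mul_assoc (X l'), c2.eq]
      group
    rw [show ⁅X l * Y m, X l' * Y m'⁆ = (X l * Y m) * (X l' * Y m') * ((X l' * Y m') * (X l * Y m))⁻¹ by
      simp only [commutatorElement_def]; group, p1, p2]
    rw [show ⁅X l', Y m⁆⁻¹ * (X (l + l') * Y (m + m')) * (⁅X l, Y m'⁆⁻¹ * (X (l + l') * Y (m + m')))⁻¹ =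
      ⁅X l', Y m⁆⁻¹ * ⁅X l, Y m'⁆ by group]
    exact mul_mem (inv_mem k1) k2
  -- index and transfer
  have hUcard : Nat.card Ubar = 64 := by
    have e : (F × F × F) ≃ Ubar :=
      Equiv.ofBijective (fun v => ⟨pU v.1 v.2.1 v.2.2, v.1, v.2.1, v.2.2, rfl⟩) ⟨fun v v' e => by
        have e' : pU v.1 v.2.1 v.2.2 = pU v'.1 v'.2.1 v'.2.2 := congrArg Subtype.val e
        have e'' : pU (-v.1) (-v.2.1 + v.1 * v.2.2) (-v.2.2) * pU v'.1 v'.2.1 v'.2.2 = 1 := by
          rw [← e', pU_mul, ← pU_zero (F := F)]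
          congr 1 <;> ring
        rw [pU_mul] at e''
        obtain ⟨h1, h2, h3⟩ := pU_eq_one e''
        have f1 : v.1 = v'.1 := by linear_combination -h1
        have f3 : v.2.2 = v'.2.2 := by linear_combination -h3
        refine Prod.ext f1 (Prod.ext ?_ f3)
        linear_combination -h2 + v.1 * f3,
      fun ⟨g, l, n, m, hg⟩ => ⟨(l, n, m), Subtype.ext hg.symm⟩⟩
    rw [← Nat.card_congr e, Nat.card_eq_fintype_card]
    simp [hF]
  have hUidx : S.index = 315 := by
    rw [Subgroup.index_comap_of_surjective _ hs]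
    have e := Subgroup.card_mul_index Ubar
    rw [hUcard, PlaneAut.card_psl34 hF] at e
    omega
  have hker : ∀ z ∈ π.ker, z ∈ K := by
    intro z hz
    have hzS : z ∈ S := ⟨0, 0, 0, by rw [MonoidHom.mem_ker.mp hz, pU_zero]⟩
    have hSK : commutator S ≤ K.subgroupOf S := by
      rw [commutator_def, Subgroup.commutator_le]
      rintro g - g' -
      exact hcomm g g.2 g' g'.2
    let τ : L →* Abelianization S := MonoidHom.transfer (Abelianization.of : S →* Abelianization S)
    have hτ : τ z = 1 := by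
      have : commutator L ≤ τ.ker := Abelianization.commutator_subset_ker τ
      exact MonoidHom.mem_ker.mp (this (by rw [hperf]; trivial))
    have hzc := Subgroup.mem_center_iff.mp (hc hz)
    have key : ∀ (k : ℕ) (g₀ : L), g₀⁻¹ * z ^ k * g₀ ∈ S → g₀⁻¹ * z ^ k * g₀ = z ^ k := fun k g₀ _ => by
      have hk : Commute g₀⁻¹ (z ^ k) := (Commute.pow_right (hzc g₀⁻¹) k)
      rw [hk.eq]; group
    rw [show τ z = _ from MonoidHom.transfer_eq_pow _ z key] at hτ
    have hpow : z ^ S.index = z := by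
      rw [hUidx, show 315 = 2 * 157 + 1 from rfl, pow_succ, pow_mul, pow_two, h2 z hz, one_pow, one_mul]
    have hmem := (Abelianization.ker_of (G := S) ▸ MonoidHom.mem_ker.mpr hτ :)
    have := hSK hmem
    rw [Subgroup.mem_subgroupOf] at this
    simpa [hpow] using this
  have hsub : (π.ker : Set L) ⊆ Set.range fun m : F => A 1 m := by
    intro z hz
    obtain ⟨v, hv⟩ := hker z hz
    have e : π (Z v.toAdd.1 * A 1 v.toAdd.2) = 1 := by
      rw [show Z v.toAdd.1 * A 1 v.toAdd.2 = z from hv]; exact MonoidHom.mem_ker.mp hz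
    rw [map_mul, πA, mul_one, πZ] at e
    refine ⟨v.toAdd.2, ?_⟩
    have hZ0 : Z 0 = 1 := (left_eq_mul (a := Z 0)).mp (by rw [← Z_add, add_zero])
    rw [← hv]
    show A 1 _ = Z _ * A 1 _
    rw [(pU_eq_one e).2.1, hZ0, one_mul]
  calc Nat.card π.ker = (π.ker : Set L).ncard := Nat.card_coe_set_eq _
    _ ≤ (Set.range fun m : F => A 1 m).ncard := Set.ncard_le_ncard hsub (Set.toFinite _)
    _ ≤ Nat.card F := by rw [← Nat.card_coe_set_eq]; exact Finite.card_range_le _
    _ = 4 := by rw [Nat.card_eq_fintype_card, hF]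

end Field4

end Cfsg.Agent.Spor.CoverThreeFour
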