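/-
A word fusing the three kinds of minimal vectors with inner product -16 with a fixed one.
-/
import Cfsg.Agent.Lib.Spor.CrossWordData

set_option autoImplicit false

namespace Cfsg.Agent.Spor

/-- the word -/
def fuseWord : List LOp :=
  [.sgO 4940770, .xiO, .plO [22, 0, 1, 2, 3, 4, 5, 6, 7, 8, 9, 10, 11, 12, 13, 14, 15, 16, 17, 18, 19, 20, 21, 23], .sgO 153797, .xiO, .plO [1, 2, 3, 4, 5, 6, 7, 8, 9, 10, 11, 12, 13, 14, 15, 16, 17, 18, 19, 20, 21, 22, 0, 23], .sgO 4752467, .xiO, .plO [1, 2, 3, 4, 5, 6, 7, 8, 9, 10, 11, 12, 13, 14, 15, 16, 17, 18, 19, 20, 21, 22, 0, 23]]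

/-- traces of the fixed vector and of two representatives -/
def fuseTraces : List (List (List ℤ)) := [
  [[0, 0, 0, 0, 0, 0, 0, 0, -4, 0, 0, 0, 0, -4, 0, 0, 0, 0, 0, 0, 0, 0, 0, 0],
    [0, 0, 0, 0, 0, 0, 0, 0, 4, 0, 0, 0, 0, 4, 0, 0, 0, 0, 0, 0, 0, 0, 0, 0],
    [0, 0, 0, 0, 0, 0, 0, 0, -2, 0, 0, 0, 0, -2, 0, 2, 2, 0, 2, 2, 2, 2, 0, 0],
    [0, 0, 0, 0, 0, 0, 0, -2, 0, 0, 0, 0, -2, 0, 2, 2, 0, 2, 2, 2, 2, 0, 0, 0],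
    [0, 0, 0, 0, 0, 0, 0, 2, 0, 0, 0, 0, 2, 0, -2, 2, 0, -2, 2, 2, 2, 0, 0, 0],
    [0, 0, 0, 0, 2, -2, 0, 0, 2, 0, 2, 0, 0, 2, 0, 0, 2, 0, 0, 0, 0, 2, 0, -2],
    [0, 0, 0, 0, 0, 2, -2, 0, 0, 2, 0, 2, 0, 0, 2, 0, 0, 2, 0, 0, 0, 0, 2, -2],
    [0, 0, 0, 0, 0, 2, 2, 0, 0, 2, 0, 2, 0, 0, 2, 0, 0, 2, 0, 0, 0, 0, -2, -2],
    [0, 0, 0, 0, 0, 0, 0, 0, 0, 0, 0, 0, 0, 0, 0, 0, 0, 0, 0, 0, 0, 0, 4, 4],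
    [4, 0, 0, 0, 0, 0, 0, 0, 0, 0, 0, 0, 0, 0, 0, 0, 0, 0, 0, 0, 0, 0, 0, 4]],
  [[2, 2, 0, 2, 0, 0, -2, 0, 2, 0, 2, 0, 0, 2, 0, 0, 0, 0, 0, 0, 0, 0, 0, -2],
    [2, -2, 0, 2, 0, 0, 2, 0, -2, 0, 2, 0, 0, -2, 0, 0, 0, 0, 0, 0, 0, 0, 0, -2],
    [1, -3, -1, 1, 1, -1, -1, 1, 1, 1, -1, 1, 1, 1, -1, -1, -1, -1, -1, -1, -1, -1, 1, 1],
    [-3, -1, 1, 1, -1, -1, 1, 1, 1, -1, 1, 1, 1, -1, -1, -1, -1, -1, -1, -1, -1, 1, 1, 1],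
    [3, -1, -1, 1, -1, -1, -1, -1, 1, -1, 1, -1, -1, -1, 1, -1, -1, 1, -1, -1, -1, 1, 1, 1],
    [2, -2, -2, 0, 0, 2, 0, 0, -2, 0, -2, 0, 0, 0, 0, 0, 0, 0, 0, 0, 0, -2, -2, 0],
    [-2, 2, -2, -2, 0, 0, 2, 0, 0, -2, 0, -2, 0, 0, 0, 0, 0, 0, 0, 0, 0, 0, -2, 0],
    [2, -2, -2, -2, 0, 0, -2, 0, 0, -2, 0, -2, 0, 0, 0, 0, 0, 0, 0, 0, 0, 0, 2, 0],
    [4, 0, 0, 0, 0, 0, 0, 0, 0, 0, 0, 0, 0, 0, 0, 0, 0, 0, 0, 0, 0, 0, -4, 0],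
    [-4, 4, 0, 0, 0, 0, 0, 0, 0, 0, 0, 0, 0, 0, 0, 0, 0, 0, 0, 0, 0, 0, 0, 0]],
  [[0, -2, 2, 0, 0, 0, -2, 0, 2, 0, 0, 0, 0, 2, 0, 0, 0, 0, -2, 2, 0, 0, -2, 0],
    [0, 2, 2, 0, 0, 0, 2, 0, -2, 0, 0, 0, 0, -2, 0, 0, 0, 0, -2, -2, 0, 0, 2, 0],
    [-2, 0, 0, -2, 0, 0, 0, 0, 0, 2, 0, 2, 0, 0, 0, -2, -2, 0, 0, 0, -2, -2, 0, 0],
    [0, 0, -2, 0, 0, 0, 0, 0, 2, 0, 2, 0, 0, 0, -2, -2, 0, 0, 0, -2, -2, 0, -2, 0],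
    [0, 0, 2, 0, 0, 0, 0, 0, 2, 0, 2, 0, 0, 0, 2, -2, 0, 0, 0, -2, -2, 0, -2, 0],
    [-1, -1, 1, -1, 1, 1, -1, 1, -3, -1, -1, -1, 1, -1, -1, 1, -1, 1, -1, 1, 1, -1, 1, 1],
    [1, -1, -1, 1, -1, 1, 1, -1, 1, -3, -1, -1, -1, 1, -1, -1, 1, -1, 1, -1, 1, 1, -1, 1],
    [-1, 1, -1, 1, 1, 1, -1, -1, 1, -3, 1, -1, -1, 1, -1, 1, 1, -1, 1, 1, 1, 1, 1, 1],
    [-1, 1, -1, 1, -1, -1, -1, 1, 1, 1, -1, -1, 1, 1, 1, 1, 1, 1, 1, 1, 1, 1, -3, -1],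
    [-3, -1, 1, -1, 1, -1, -1, -1, 1, 1, 1, -1, -1, 1, 1, 1, 1, 1, 1, 1, 1, 1, 1, -1]]]

end Cfsg.Agent.Spor
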