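/-
The stabiliser of a minimal vector is transitive on minimal vectors with inner product -16 with it.
-/
import Cfsg.Agent.Lib.Spor.Co1Simple
import Cfsg.Agent.Lib.Spor.SixteenData

set_option autoImplicit false
set_option maxRecDepth 100000

namespace Cfsg.Agent.Spor

open Cfsg
open scoped Pointwise

local notation "Zv" => GolayPt → ℤ

/-- the fixed minimal vector -/
def pairRef : Zv := shortBase 0

theorem pairRef_spec : pairRef ∈ leechLattice ∧ sqNorm pairRef = 32 :=
  ⟨shortBase_mem (by norm_num), (base_facts.1 0 (by norm_num)).2⟩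

theorem pairRef_eq : ∀ p, pairRef p = if p = pt 0 ∨ p = none then 4 else 0 := by decide +kernel

theorem pt0_ne : pt 0 ≠ (none : GolayPt) := by decide +kernel

theorem dot_pairRef (x : Zv) : dotInt pairRef x = 4 * (x (pt 0) + x none) := by
  have e : ∀ p, pairRef p * x p = (if p = pt 0 then 4 * x p else 0) + if p = none then 4 * x p else 0 := fun p => by
    rw [pairRef_eq p]
    by_cases h1 : p = pt 0
    · subst h1; simp [pt0_ne]
    · by_cases h2 : p = none <;> simp [h1, h2, Ne.symm pt0_ne]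
  rw [dotInt, Finset.sum_congr rfl fun p _ => e p, Finset.sum_add_distrib, Finset.sum_ite_eq',
    Finset.sum_ite_eq', if_pos (Finset.mem_univ _), if_pos (Finset.mem_univ _)]
  ring

/-- the vectors considered -/
def nbrs : Set Zv := minDot pairRef (-16)

theorem nbrs_sum {x : Zv} (hx : x ∈ nbrs) : x (pt 0) + x none = -4 := by
  have := hx.2.2; rw [dot_pairRef] at this; omega

/-- one orbit of the stabiliser of the fixed vector -/
def SOrb (x y : Zv) : Prop :=
  ∃ (hx : x ∈ leechLattice) (g : ↥Co0), ((g • (⟨pairRef, pairRef_spec.1⟩ : ↥leechLattice) : ↥leechLattice) : Zv) = pairRef ∧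
    ((g • (⟨x, hx⟩ : ↥leechLattice) : ↥leechLattice) : Zv) = y

theorem SOrb.trans {x y z : Zv} (h : SOrb x y) (h' : SOrb y z) : SOrb x z := by
  obtain ⟨hx, g, hg, rfl⟩ := h
  obtain ⟨hy, k, hk, rfl⟩ := h'
  refine ⟨hx, k * g, ?_, by rw [mul_smul]⟩
  rw [mul_smul, show g • (⟨pairRef, pairRef_spec.1⟩ : ↥leechLattice) = ⟨pairRef, pairRef_spec.1⟩ from Subtype.ext hg, hk]

theorem SOrb.symm {x y : Zv} (h : SOrb x y) : SOrb y x := by
  obtain ⟨hx, g, hg, rfl⟩ := h
  refine ⟨(g • (⟨x, hx⟩ : ↥leechLattice)).2, g⁻¹, ?_, congrArg Subtype.val (inv_smul_smul g (⟨x, hx⟩ : ↥leechLattice))⟩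
  have hg' : g • (⟨pairRef, pairRef_spec.1⟩ : ↥leechLattice) = ⟨pairRef, pairRef_spec.1⟩ := Subtype.ext hg
  rw [inv_smul_eq_iff.2 hg'.symm]

theorem SOrb.mem {x y : Zv} (h : SOrb x y) (hx : x ∈ nbrs) : y ∈ nbrs := by
  obtain ⟨hxL, g, hg, rfl⟩ := h
  refine ⟨(g • (⟨x, hxL⟩ : ↥leechLattice)).2, (g.2.2 _).trans hx.2.1, ?_⟩
  have := co0_dot g ⟨pairRef, pairRef_spec.1⟩ ⟨x, hxL⟩
  rw [hg] at this
  exact this.trans hx.2.2

theorem det_base {j : ℕ} (hj : j < 3) (σ : Equiv.Perm GolayPt)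
    (h : absV (prm σ (shortBase j)) = absV (shortBase j)) : prm σ (shortBase j) = shortBase j := by
  funext p
  have hp : |shortBase j (σ.symm p)| = |shortBase j p| := congrFun h p
  have hg : ∀ j, j < 3 → ∀ p, shortBase j p = if |shortBase j p| = 3 then -3 else |shortBase j p| := by
    decide +kernel
  rw [hg j hj p, ← hp]
  exact hg j hj (σ.symm p)

theorem img_same_abs {j : ℕ} (hj : j < 3) {x y : Zv} (hx : IsImg (shortBase j) x)
    (hy : IsImg (shortBase j) y) (e : absV x = absV y) : ∃ k ∈ golayCode, y = sgn k x := by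
  obtain ⟨σ, hσ, w, hw, rfl⟩ := hx
  obtain ⟨τ, hτ, w', hw', rfl⟩ := hy
  rw [absV_prm, absV_prm, absV_sgn, absV_sgn] at e
  have he : prm τ (shortBase j) = prm σ (shortBase j) := by
    have h1 : absV (prm (σ⁻¹ * τ) (shortBase j)) = absV (shortBase j) := by
      rw [absV_prm, prm_comp, ← e, prm_inv_left]
    have h2 := congrArg (prm σ) (det_base hj _ h1)
    rwa [prm_comp, prm_inv_right] at h2
  refine ⟨actW τ w' + actW σ w, add_mem (actW_mem hτ hw') (actW_mem hσ hw), ?_⟩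
  rw [prm_sgn, prm_sgn, he, ← sgn_add_word, sgn_sgn]

theorem word_three {p q r : GolayPt} (hpq : p ≠ q) (hpr : p ≠ r) (hqr : q ≠ r) :
    ∃ k ∈ golayCode, k p ≠ 0 ∧ k q = 0 ∧ k r = 0 := by
  have hm : ∃ m ∈ codeMasks, Nat.testBit m 0 = true ∧ Nat.testBit m 1 = false ∧ Nat.testBit m 2 = false := by
    decide +kernel
  obtain ⟨m, hm, b0, b1, b2⟩ := hm
  obtain ⟨σ, hσ, hmap⟩ := M24_trans (k := 3) (by norm_num) ⟨![pt 0, pt 1, pt 2], by decide +kernel⟩
    ⟨![p, q, r], by
      intro u v; fin_cases u <;> fin_cases v <;>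
        simp [hpq, Ne.symm hpq, hpr, Ne.symm hpr, hqr, Ne.symm hqr]⟩
  have hc : ofMaskW m ∈ golayCode := mem_code.2 (by rwa [wmask_ofMaskW (codeMasks_lt m hm)])
  refine ⟨actW σ (ofMaskW m), actW_mem hσ hc, ?_⟩
  have h0 : σ.symm p = pt 0 := by rw [Equiv.symm_apply_eq]; exact (hmap 0).symm
  have h1 : σ.symm q = pt 1 := by rw [Equiv.symm_apply_eq]; exact (hmap 1).symm
  have h2 : σ.symm r = pt 2 := by rw [Equiv.symm_apply_eq]; exact (hmap 2).symm
  simp only [actW, h0, h1, h2, ofMaskW, idx_pt _ (by norm_num : 0 < 24), idx_pt _ (by norm_num : 1 < 24),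
    idx_pt _ (by norm_num : 2 < 24), b0, b1, b2]
  simp

theorem short_abs {j : ℕ} (hj : j < 3) {x : Zv} (hx : IsImg (shortBase j) x) (p : GolayPt) :
    (j = 0 → |x p| = 0 ∨ |x p| = 4) ∧ (j = 1 → |x p| = 0 ∨ |x p| = 2) ∧ (j = 2 → |x p| = 1 ∨ |x p| = 3) := by
  obtain ⟨σ, -, e⟩ := img_abs hx
  have hp : |x p| = |shortBase j (σ.symm p)| := congrFun e p
  have h : ∀ p, (|shortBase 0 p| = 0 ∨ |shortBase 0 p| = 4) ∧ (|shortBase 1 p| = 0 ∨ |shortBase 1 p| = 2) ∧
      (|shortBase 2 p| = 1 ∨ |shortBase 2 p| = 3) := by decide +kernel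
  rw [hp]
  refine ⟨?_, ?_, ?_⟩ <;> rintro rfl
  · exact (h _).1
  · exact (h _).2.1
  · exact (h _).2.2

theorem sorb_same_abs {j : ℕ} (hj : j < 3) {x y : Zv} (hx : x ∈ nbrs) (hy : y ∈ nbrs)
    (hxi : IsImg (shortBase j) x) (hyi : IsImg (shortBase j) y) (e : absV x = absV y) : SOrb x y := by
  obtain ⟨k, hk, hky⟩ := img_same_abs hj hxi hyi e
  have sx := nbrs_sum hx
  have sy := nbrs_sum hy
  have ea : |x (pt 0)| = |y (pt 0)| := congrFun e _
  have eb : |x none| = |y none| := congrFun e _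
  have hva : y (pt 0) = x (pt 0) ∧ y none = x none := by
    rcases abs_eq_abs.1 ea with h1 | h1 <;> rcases abs_eq_abs.1 eb with h2 | h2 <;> omega
  have hz : ∀ p, x p ≠ 0 → y p = x p → k p = 0 := by
    intro p hp hyp
    rcases word_eq_one_or_zero (k p) with h | h
    · exact h
    · rw [hky] at hyp; simp [sgn, h] at hyp; omega
  -- correct the word at the two points
  obtain ⟨k', hk', hk0, hk1, hky'⟩ : ∃ k' ∈ golayCode, k' (pt 0) = 0 ∧ k' none = 0 ∧ y = sgn k' x := by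
    have fix1 : ∀ {p q : GolayPt}, p ≠ q → x p = 0 → |x q| = 4 → k q = 0 →
        ∃ k' ∈ golayCode, k' p = 0 ∧ k' q = 0 ∧ y = sgn k' x := by
      intro p q hpq hp0 hq4 hkq
      by_cases hkp : k p = 0
      · exact ⟨k, hk, hkp, hkq, hky⟩
      have hj0 : j = 0 := by
        obtain ⟨-, h1, h2⟩ := short_abs hj hxi q
        interval_cases j
        · rfl
        · rcases h1 rfl with h | h <;> omega
        · rcases h2 rfl with h | h <;> omega
      subst hj0
      obtain ⟨σ, -, e'⟩ := img_abs hxi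
      rw [base_abs.1, prm_setVec] at e'
      have hxv : ∀ r, x r ≠ 0 → r ∈ σ • ofMask 8388609 := fun r hr => by
        by_contra hh
        have := congrFun e' r
        simp only [absV, setVec, if_neg hh, abs_eq_zero] at this
        exact hr this
      have hqT : q ∈ σ • ofMask 8388609 := hxv q (fun h => by simp [h] at hq4)
      have hT : (σ • ofMask 8388609).card = 2 := by rw [Finset.card_smul_finset]; decide +kernel
      obtain ⟨r, hr⟩ := Finset.card_eq_one.1 (show ((σ • ofMask 8388609).erase q).card = 1 by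
        rw [Finset.card_erase_of_mem hqT, hT])
      have hrT : r ≠ q ∧ r ∈ σ • ofMask 8388609 := Finset.mem_erase.1 (hr ▸ Finset.mem_singleton_self r)
      have hrp : p ≠ r := by
        rintro rfl
        have := congrFun e' p
        simp only [absV, setVec, if_pos hrT.2, hp0] at this
        norm_num at this
      obtain ⟨c, hc, c1, c2, c3⟩ := word_three hpq hrp (Ne.symm hrT.1)
      refine ⟨k + c, add_mem hk hc, ?_, ?_, ?_⟩
      · rcases word_eq_one_or_zero (k p) with h | h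
        · exact absurd h hkp
        · rcases word_eq_one_or_zero (c p) with h' | h'
          · exact absurd h' c1
          · rw [Pi.add_apply, h, h']; rfl
      · rw [Pi.add_apply, hkq, c2, add_zero]
      · rw [← sgn_add_word, hky]
        congr 1
        funext i
        by_cases hi : x i = 0
        · simp [sgn, hi]
        · have : i = q ∨ i = r := by
            by_cases hiq : i = q
            · exact Or.inl hiq
            · exact Or.inr (Finset.mem_singleton.1 (hr ▸ Finset.mem_erase.2 ⟨hiq, hxv i hi⟩))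
          rcases this with rfl | rfl <;> simp [sgn, c2, c3]
    by_cases ha : x (pt 0) = 0
    · have hb : |x none| = 4 := by rw [show x none = -4 by omega]; rfl
      exact fix1 pt0_ne ha hb (hz none (by omega) hva.2)
    · by_cases hb : x none = 0
      · have hq : |x (pt 0)| = 4 := by rw [show x (pt 0) = -4 by omega]; rfl
        obtain ⟨k', h1, h2, h3, h4⟩ := fix1 (Ne.symm pt0_ne) hb hq (hz _ ha hva.1)
        exact ⟨k', h1, h3, h2, h4⟩
      · exact ⟨k, hk, hz _ ha hva.1, hz _ hb hva.2, hky⟩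
  obtain ⟨g, hg⟩ := exists_sgn hk'
  refine ⟨hx.1, g, ?_, by rw [hg, hky']⟩
  rw [hg]
  funext p
  show sgn k' pairRef p = pairRef p
  by_cases hp : p = pt 0 ∨ p = none
  · rcases hp with rfl | rfl <;> simp [sgn, hk0, hk1]
  · simp [sgn, pairRef_eq, hp]

/-- a permutation fixing the pair -/
theorem sorb_perm {σ : Equiv.Perm GolayPt} (hσ : σ ∈ M24)
    (h : (σ (pt 0) = pt 0 ∧ σ none = none) ∨ (σ (pt 0) = none ∧ σ none = pt 0)) {x : Zv}
    (hx : x ∈ leechLattice) : SOrb x (prm σ x) := by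
  obtain ⟨g, hg⟩ := exists_prm hσ
  refine ⟨hx, g, ?_, hg _⟩
  rw [hg]
  funext p
  obtain ⟨q, rfl⟩ := σ.surjective p
  show pairRef (σ.symm (σ q)) = pairRef (σ q)
  rw [Equiv.symm_apply_apply, pairRef_eq, pairRef_eq]
  refine if_congr ?_ rfl rfl
  have i1 : σ q = σ (pt 0) ↔ q = pt 0 := σ.injective.eq_iff
  have i2 : σ q = σ none ↔ q = none := σ.injective.eq_iff
  rcases h with ⟨h1, h2⟩ | ⟨h1, h2⟩ <;> rw [h1] at i1 <;> rw [h2] at i2 <;> tauto

theorem sorb_config {j : ℕ} (hj : j < 3) {x y : Zv} (hx : x ∈ nbrs) (hy : y ∈ nbrs)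
    (hxi : IsImg (shortBase j) x) (hyi : IsImg (shortBase j) y) :
    ∃ σ ∈ M24, ((σ (pt 0) = pt 0 ∧ σ none = none) ∨ (σ (pt 0) = none ∧ σ none = pt 0)) ∧
      absV (prm σ x) = absV y := by
  classical
  obtain ⟨a0, a1, a2, -, -, -, c0, c1, -⟩ := base_abs
  obtain ⟨α, hα, ex⟩ := img_abs hxi
  obtain ⟨β, hβ, ey⟩ := img_abs hyi
  have sx := nbrs_sum hx
  have sy := nbrs_sum hy
  have swap : ∀ {p q p' q' : GolayPt}, ((p = pt 0 ∧ q = none) ∨ (p = none ∧ q = pt 0)) →
      ((p' = pt 0 ∧ q' = none) ∨ (p' = none ∧ q' = pt 0)) → ∀ σ : Equiv.Perm GolayPt, σ p = p' → σ q = q' →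
      ((σ (pt 0) = pt 0 ∧ σ none = none) ∨ (σ (pt 0) = none ∧ σ none = pt 0)) := by
    rintro p q p' q' (⟨rfl, rfl⟩ | ⟨rfl, rfl⟩) (⟨rfl, rfl⟩ | ⟨rfl, rfl⟩) σ h1 h2 <;> tauto
  have ax : ∀ p, |x p| = absV x p := fun _ => rfl
  have ay : ∀ p, |y p| = absV y p := fun _ => rfl
  interval_cases j
  · rw [a0, prm_setVec] at ex ey
    set S := α • ofMask 8388609
    set T := β • ofMask 8388609
    have hS : S.card = 2 := by rw [Finset.card_smul_finset, c0]
    have hT : T.card = 2 := by rw [Finset.card_smul_finset, c0]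
    have hxv : ∀ p, |x p| = if p ∈ S then 4 else 0 := fun p => congrFun ex p
    have hyv : ∀ p, |y p| = if p ∈ T then 4 else 0 := fun p => congrFun ey p
    have pick : ∀ {z : Zv} {U : Finset GolayPt}, z (pt 0) + z none = -4 → U.card = 2 →
        (∀ p, |z p| = if p ∈ U then 4 else 0) → ∃ p q r, ((p = pt 0 ∧ q = none) ∨ (p = none ∧ q = pt 0)) ∧
          p ≠ q ∧ r ≠ p ∧ r ≠ q ∧ U = {p, r} := by
      intro z U hs hU hv
      have h0 := hv (pt 0)
      have h1 := hv none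
      have one : ∀ {p q : GolayPt}, ((p = pt 0 ∧ q = none) ∨ (p = none ∧ q = pt 0)) → p ∈ U → q ∉ U →
          ∃ p q r, ((p = pt 0 ∧ q = none) ∨ (p = none ∧ q = pt 0)) ∧ p ≠ q ∧ r ≠ p ∧ r ≠ q ∧ U = {p, r} := by
        intro p q hpq hp hq
        obtain ⟨r, hr⟩ := Finset.card_eq_one.1 (show (U.erase p).card = 1 by
          rw [Finset.card_erase_of_mem hp, hU])
        have hr' := Finset.mem_erase.1 (hr ▸ Finset.mem_singleton_self r : r ∈ U.erase p)
        exact ⟨p, q, r, hpq, fun e => hq (e ▸ hp), hr'.1, fun e => hq (e ▸ hr'.2),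
          by rw [← hr, Finset.insert_erase hp]⟩
      by_cases ha : pt 0 ∈ U <;> by_cases hb : none ∈ U
      · exfalso; rw [if_pos ha] at h0; rw [if_pos hb] at h1
        rcases abs_eq (by norm_num : (0 : ℤ) ≤ 4) |>.1 h0 with a | a <;>
          rcases abs_eq (by norm_num : (0 : ℤ) ≤ 4) |>.1 h1 with b | b <;> omega
      · exact one (Or.inl ⟨rfl, rfl⟩) ha hb
      · exact one (Or.inr ⟨rfl, rfl⟩) hb ha
      · exfalso; rw [if_neg ha, abs_eq_zero] at h0; rw [if_neg hb, abs_eq_zero] at h1; omega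
    obtain ⟨p, q, r, hpq, n1, n2, n3, eS⟩ := pick sx hS hxv
    obtain ⟨p', q', r', hpq', n1', n2', n3', eT⟩ := pick sy hT hyv
    obtain ⟨σ, hσ, hm⟩ := M24_trans (k := 3) (by norm_num)
      ⟨![p, q, r], by intro u v; fin_cases u <;> fin_cases v <;> simp [n1, Ne.symm n1, n2, Ne.symm n2, n3, Ne.symm n3]⟩
      ⟨![p', q', r'], by intro u v; fin_cases u <;> fin_cases v <;> simp [n1', Ne.symm n1', n2', Ne.symm n2', n3', Ne.symm n3']⟩
    refine ⟨σ, hσ, swap hpq hpq' σ (hm 0) (hm 1), ?_⟩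
    rw [absV_prm, ex, ey, prm_setVec, eS, eT, Finset.smul_finset_insert, Finset.smul_finset_singleton]
    show setVec 0 4 {σ p, σ r} = _
    rw [show σ p = p' from hm 0, show σ r = r' from hm 2]
  · rw [a1, prm_setVec] at ex ey
    have key : ∀ {z : Zv} {U : Finset GolayPt}, z (pt 0) + z none = -4 →
        (∀ p, |z p| = if p ∈ U then 2 else 0) → pt 0 ∈ U ∧ none ∈ U := by
      intro z U hs hv
      have hb : ∀ p, -2 ≤ z p ∧ z p ≤ 2 := fun p => abs_le.1 (by rw [hv p]; split_ifs <;> norm_num)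
      have n0 : ∀ p, p ∉ U → z p = 0 := fun p hp => abs_eq_zero.1 (by rw [hv p, if_neg hp])
      obtain ⟨b1, b2⟩ := hb (pt 0)
      obtain ⟨b3, b4⟩ := hb none
      constructor <;> by_contra h <;> have := n0 _ h <;> omega
    obtain ⟨hs0, hs1⟩ := key sx fun p => congrFun ex p
    obtain ⟨ht0, ht1⟩ := key sy fun p => congrFun ey p
    have hS : α • ofMask 5279 ∈ octads := smul_octad hα baseOctad_mem
    have hT : β • ofMask 5279 ∈ octads := smul_octad hβ baseOctad_mem
    set S := α • ofMask 5279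
    set T := β • ofMask 5279
    have five : ∀ {U : Finset GolayPt}, U ∈ octads → pt 0 ∈ U → none ∈ U → ∃ f : Fin 5 ↪ GolayPt,
        f 0 = pt 0 ∧ f 1 = none ∧ ∀ i, f i ∈ U := by
      intro U hU h0 h1
      obtain ⟨t, ht, htc⟩ := Finset.exists_subset_card_eq (s := (U.erase (pt 0)).erase none) (n := 3) (by
        rw [Finset.card_erase_of_mem (Finset.mem_erase.2 ⟨Ne.symm pt0_ne, h1⟩), Finset.card_erase_of_mem h0, hU.2]
        norm_num)
      let e := (t.equivFinOfCardEq htc).symm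
      have het : ∀ i, (e i : GolayPt) ≠ none ∧ (e i : GolayPt) ≠ pt 0 ∧ (e i : GolayPt) ∈ U := fun i => by
        have h := ht (e i).2
        rw [Finset.mem_erase, Finset.mem_erase] at h
        exact h
      refine ⟨⟨Fin.cons (pt 0) (Fin.cons none (fun i => (e i : GolayPt))), ?_⟩, rfl, rfl, ?_⟩
      · refine Fin.cons_injective_iff.2 ⟨?_, Fin.cons_injective_iff.2 ⟨?_, Subtype.val_injective.comp e.injective⟩⟩
        · rintro ⟨i, hi⟩
          cases i using Fin.cases with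
          | zero => exact pt0_ne hi.symm
          | succ i => exact (het i).2.1 hi
        · rintro ⟨i, hi⟩
          exact (het i).1 hi
      · intro i
        cases i using Fin.cases with
        | zero => exact h0
        | succ i =>
          cases i using Fin.cases with
          | zero => exact h1
          | succ i => exact (het i).2.2
    obtain ⟨f, f0, f1, fS⟩ := five hS hs0 hs1
    obtain ⟨f', f0', f1', fT⟩ := five hT ht0 ht1
    obtain ⟨σ, hσ, hm⟩ := M24_trans le_rfl f f'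
    have e : σ • S = T := by
      refine octad_eq_of_five (smul_octad hσ hS) hT ?_
      calc 5 = (Finset.univ.map f').card := by simp
        _ ≤ _ := Finset.card_le_card fun p hp => by
          obtain ⟨i, -, rfl⟩ := Finset.mem_map.1 hp
          exact Finset.mem_inter.2 ⟨hm i ▸ (mem_smul_iff' σ S (f i)).2 (fS i), fT i⟩
    refine ⟨σ, hσ, Or.inl ⟨by conv_lhs => rw [← f0]; rw [hm 0, f0'], by conv_lhs => rw [← f1]; rw [hm 1, f1']⟩, ?_⟩
    rw [absV_prm, ex, ey, prm_setVec, e]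
  · rw [a2, prm_setVec, Finset.smul_finset_singleton] at ex ey
    have key : ∀ {z : Zv} {c : GolayPt}, z (pt 0) + z none = -4 → (∀ p, |z p| = if p ∈ ({c} : Finset GolayPt) then 3 else 1) →
        (c = pt 0 ∨ c = none) := by
      intro z c hs hv
      by_contra h
      rw [not_or] at h
      have h0 := hv (pt 0)
      have h1 := hv none
      rw [if_neg (by simpa using Ne.symm h.1)] at h0
      rw [if_neg (by simpa using Ne.symm h.2)] at h1
      rcases abs_eq (by norm_num : (0 : ℤ) ≤ 1) |>.1 h0 with a | a <;>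
        rcases abs_eq (by norm_num : (0 : ℤ) ≤ 1) |>.1 h1 with b | b <;> omega
    have mk : ∀ {c : GolayPt}, (c = pt 0 ∨ c = none) → ∃ q, c ≠ q ∧ ((c = pt 0 ∧ q = none) ∨ (c = none ∧ q = pt 0)) := by
      rintro c (rfl | rfl)
      · exact ⟨none, pt0_ne, Or.inl ⟨rfl, rfl⟩⟩
      · exact ⟨pt 0, Ne.symm pt0_ne, Or.inr ⟨rfl, rfl⟩⟩
    obtain ⟨q, nq, hq⟩ := mk (key sx fun p => congrFun ex p)
    obtain ⟨q', nq', hq'⟩ := mk (key sy fun p => congrFun ey p)
    obtain ⟨σ, hσ, hm⟩ := M24_trans (k := 2) (by norm_num)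
      ⟨![α • none, q], by
        intro u v; fin_cases u <;> fin_cases v <;>
          simp [(show α none ≠ q from nq), (show q ≠ α none from Ne.symm nq)]⟩
      ⟨![β • none, q'], by
        intro u v; fin_cases u <;> fin_cases v <;>
          simp [(show β none ≠ q' from nq'), (show q' ≠ β none from Ne.symm nq')]⟩
    refine ⟨σ, hσ, swap hq hq' σ (hm 0) (hm 1), ?_⟩
    rw [absV_prm, ex, ey, prm_setVec, Finset.smul_finset_singleton]
    exact congrArg (fun c => setVec 1 3 ({c} : Finset GolayPt)) (hm 0)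

theorem sorb_family {j : ℕ} (hj : j < 3) {x y : Zv} (hx : x ∈ nbrs) (hy : y ∈ nbrs)
    (hxi : IsImg (shortBase j) x) (hyi : IsImg (shortBase j) y) : SOrb x y := by
  obtain ⟨σ, hσ, hp, e⟩ := sorb_config hj hx hy hxi hyi
  have h1 := sorb_perm hσ hp hx.1
  exact h1.trans (sorb_same_abs hj (h1.mem hx) hy (img_prm hσ hxi) hyi e)

/-- start and end of a trace -/
def fuseEnd (i : ℕ) : Zv × Zv := (vecOf ((fuseTraces.getD i []).getLastD []), vecOf ((fuseTraces.getD i []).headD []))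

theorem fuse_ok : (∀ i, i < 3 → traceOk fuseWord (fuseTraces.getD i []) = true) ∧
    (∀ p, (fuseEnd 0).1 p = pairRef p) ∧
    (∀ p, (fuseEnd 0).2 p = if p = pt 8 ∨ p = pt 13 then -4 else 0) ∧
    (∀ i, i < 3 → 1 ≤ i → leechCheck (fuseEnd i).1 = true ∧ sqNorm (fuseEnd i).1 = 32 ∧
      dotInt pairRef (fuseEnd i).1 = -16 ∧ prof (fuseEnd i).2 = 128) ∧
    prof (fuseEnd 1).1 = 512 ∧ prof (fuseEnd 2).1 = 104 ∧
    (∃ m ∈ codeMasks, Nat.testBit m 8 = true ∧ Nat.testBit m 13 = true) ∧ pt 8 ≠ pt 13 := by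
  refine ⟨?_, ?_, ?_, ?_, ?_, ?_, ?_, ?_⟩ <;> decide +kernel

theorem nbrs_connected {x y : Zv} (hx : x ∈ nbrs) (hy : y ∈ nbrs) : SOrb x y := by
  obtain ⟨htr, h00, h01, hr, hp1, hp2, ⟨m, hm, hm8, hm13⟩, hne⟩ := fuse_ok
  obtain ⟨g, -, hg⟩ := (by
    obtain ⟨x, hxi⟩ := exists_xi
    exact word_elem ⊤ (fun _ _ => Subgroup.mem_top _) (Subgroup.mem_top x) hxi fuseWord (trace_sound _ _ (htr 0 (by norm_num))).1 :
    ∃ g ∈ (⊤ : Subgroup ↥Co0), ∀ v : ↥leechLattice, ((g • v : ↥leechLattice) : Zv) = wordApp fuseWord (v : Zv))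
  obtain ⟨τ, hτ, hmap⟩ := M24_trans (k := 2) (by norm_num)
    ⟨![pt 8, pt 13], by intro u v; fin_cases u <;> fin_cases v <;> simp [hne, Ne.symm hne]⟩
    ⟨![pt 0, none], by intro u v; fin_cases u <;> fin_cases v <;> simp [pt0_ne, Ne.symm pt0_ne]⟩
  have hc : ofMaskW m ∈ golayCode := mem_code.2 (by rwa [wmask_ofMaskW (codeMasks_lt m hm)])
  obtain ⟨s, hs⟩ := exists_sgn hc
  obtain ⟨t, ht⟩ := exists_prm hτ
  have hG : ∀ v : ↥leechLattice, (((t * s * g) • v : ↥leechLattice) : Zv) =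
      prm τ (sgn (ofMaskW m) (wordApp fuseWord (v : Zv))) := fun v => by rw [mul_smul, mul_smul, ht, hs, hg]
  have hfix : (((t * s * g) • (⟨pairRef, pairRef_spec.1⟩ : ↥leechLattice) : ↥leechLattice) : Zv) = pairRef := by
    have e : wordApp fuseWord pairRef = (fuseEnd 0).2 := by
      rw [show pairRef = (fuseEnd 0).1 from funext fun p => (h00 p).symm]
      exact (trace_sound _ _ (htr 0 (by norm_num))).2
    rw [hG, e]
    funext p
    obtain ⟨q, rfl⟩ := τ.surjective p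
    simp only [prm, sgn, Equiv.symm_apply_apply, h01, pairRef_eq]
    have e8' : τ q = pt 0 ↔ q = pt 8 := by rw [← show τ (pt 8) = pt 0 from hmap 0, τ.injective.eq_iff]
    have e13 : τ q = none ↔ q = pt 13 := by rw [← show τ (pt 13) = none from hmap 1, τ.injective.eq_iff]
    by_cases hq : q = pt 8 ∨ q = pt 13
    · rw [if_pos hq, if_pos (show τ q = pt 0 ∨ τ q = none from hq.imp e8'.2 e13.2)]
      rcases hq with rfl | rfl <;> simp [ofMaskW, idx_pt, hm8, hm13]
    · rw [if_neg (show ¬(τ q = pt 0 ∨ τ q = none) from fun h => hq (h.imp e8'.1 e13.1))]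
      simp [hq]
  have edge : ∀ i, i < 3 → 1 ≤ i → (fuseEnd i).1 ∈ nbrs ∧
      ∃ z ∈ nbrs, SOrb (fuseEnd i).1 z ∧ prof z = 128 := by
    intro i hi hi1
    obtain ⟨h1, h2, h3, h4⟩ := hr i hi hi1
    have hmem : (fuseEnd i).1 ∈ nbrs := ⟨leechCheck_mem h1, h2, h3⟩
    have ho : SOrb (fuseEnd i).1 (prm τ (sgn (ofMaskW m) (fuseEnd i).2)) := by
      refine ⟨hmem.1, t * s * g, hfix, ?_⟩
      rw [hG]
      exact congrArg (fun z => prm τ (sgn (ofMaskW m) z)) (trace_sound _ _ (htr i hi)).2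
    refine ⟨hmem, _, ho.mem hmem, ho, ?_⟩
    rw [← h4]
    exact prof_img ⟨τ, hτ, _, hc, rfl⟩
  obtain ⟨q0, q1, q2, -⟩ := short_profiles
  obtain ⟨r0, z0, hz0, o0, pz0⟩ := edge 1 (by norm_num) le_rfl
  obtain ⟨r2, z2, hz2, o2, pz2⟩ := edge 2 (by norm_num) (by norm_num)
  have typ : ∀ {z : Zv}, z ∈ nbrs → ∃ j, j < 3 ∧ IsImg (shortBase j) z ∧ prof z = prof (shortBase j) :=
    fun {z} hz => by
      obtain ⟨j, hj, h⟩ := short_form hz.1 hz.2.1
      exact ⟨j, hj, h, prof_img h⟩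
  have fam : ∀ {u z : Zv}, u ∈ nbrs → z ∈ nbrs → prof u = prof z → SOrb u z := by
    intro u z hu hz h
    obtain ⟨i, hi, h1, p1⟩ := typ hu
    obtain ⟨j, hj, h2, p2⟩ := typ hz
    have : i = j := by
      interval_cases i <;> interval_cases j <;> first | rfl | (exfalso; omega)
    subst this
    exact sorb_family hi hu hz h1 h2
  have hub : ∀ {u : Zv}, u ∈ nbrs → SOrb z0 u := by
    intro u hu
    obtain ⟨j, hj, -, p⟩ := typ hu
    interval_cases j
    · exact o0.symm.trans (fam r0 hu (by omega))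
    · exact fam hz0 hu (by omega)
    · exact ((fam hz0 hz2 (by omega)).trans o2.symm).trans (fam r2 hu (by omega))
  exact (hub hx).symm.trans (hub hy)

theorem sixteen_transitive (v w w' : ↥leechLattice) (hv : sqNorm (v : Zv) = 32) (hw : sqNorm (w : Zv) = 32)
    (hw' : sqNorm (w' : Zv) = 32) (hd : dotInt (v : Zv) (w : Zv) = -16) (hd' : dotInt (v : Zv) (w' : Zv) = -16) :
    ∃ g : ↥Co0, g • v = v ∧ g • w = w' := by
  obtain ⟨hx, k, hk⟩ := (orb_short v.2 hv).symm.trans (orb_short pairRef_spec.1 pairRef_spec.2)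
  have hmem : ∀ u : ↥leechLattice, sqNorm (u : Zv) = 32 → dotInt (v : Zv) (u : Zv) = -16 →
      ((k • u : ↥leechLattice) : Zv) ∈ nbrs := fun u h1 h2 => by
    refine ⟨(k • u).2, (k.2.2 u).trans h1, ?_⟩
    have := co0_dot k ⟨(v : Zv), hx⟩ u
    rw [hk] at this
    exact this.trans h2
  have hkv : k • v = ⟨pairRef, pairRef_spec.1⟩ := Subtype.ext hk
  obtain ⟨hL, g, hg, e⟩ := nbrs_connected (hmem w hw hd) (hmem w' hw' hd')
  refine ⟨k⁻¹ * g * k, ?_, ?_⟩
  · rw [mul_smul, mul_smul, hkv, show g • (⟨pairRef, pairRef_spec.1⟩ : ↥leechLattice) = ⟨pairRef, pairRef_spec.1⟩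
      from Subtype.ext hg, ← hkv, inv_smul_smul]
  · rw [mul_smul, mul_smul, show g • k • w = k • w' from Subtype.ext e, inv_smul_smul]

end Cfsg.Agent.Spor
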