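/-
In the first Conway group an element of order 23 commutes with no involution; normal 2-subgroups of the
stabilisers of a class of minimal vectors and of a cross are small.
-/
import Cfsg.Agent.Lib.Spor.Co1Simple
import Cfsg.Agent.Lib.Spor.Co2Co3
import Cfsg.Prelude.Def_Spor_Conway

set_option autoImplicit false
set_option maxRecDepth 100000

namespace Cfsg.Agent.Spor

open Cfsg
open scoped Pointwise

local notation "Zv" => GolayPt → ℤ
set_option quotPrecheck false in
local notation "Lv" => ↥leechLattice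

/-! ### negation -/

theorem center_cases {n : ↥Co0} (hn : ∀ v : Lv, ((n • v : Lv) : Zv) = -(v : Zv)) {c : ↥Co0}
    (hc : c ∈ Subgroup.center ↥Co0) : c = 1 ∨ c = n := by
  obtain ⟨e, he, hv⟩ := central_scalar hc
  rcases he with rfl | rfl
  · exact Or.inl (co0_ext fun v => by rw [hv, one_smul, one_smul])
  · exact Or.inr (co0_ext fun v => by rw [hv, hn, neg_one_smul])

theorem negation_mem_center {n : ↥Co0} (hn : ∀ v : Lv, ((n • v : Lv) : Zv) = -(v : Zv)) :
    n ∈ Subgroup.center ↥Co0 := scalar_central n (-1) fun v => by rw [hn, neg_one_smul]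

/-! ### monomial elements -/

theorem mono_unique {σ τ : Equiv.Perm GolayPt} {w w' : GolayPt → ZMod 2}
    (h : ∀ v : Lv, sgn w (prm σ (v : Zv)) = sgn w' (prm τ (v : Zv))) : σ = τ ∧ w = w' := by
  have hσ : σ = τ := Equiv.ext fun i => by
    have := congrFun (h (e8 i)) (σ i)
    simp only [sgn, prm, e8, Equiv.symm_apply_apply, Pi.single_eq_same] at this
    by_contra hne
    have hne' : τ.symm (σ i) ≠ i := fun h' => hne (by rw [Equiv.symm_apply_eq] at h'; exact h')
    rw [Pi.single_eq_of_ne hne'] at this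
    split_ifs at this <;> omega
  subst hσ
  refine ⟨rfl, funext fun k => ?_⟩
  obtain ⟨i, rfl⟩ := σ.surjective k
  have := congrFun (h (e8 i)) (σ i)
  simp only [sgn, prm, e8, Equiv.symm_apply_apply, Pi.single_eq_same] at this
  rcases word_eq_one_or_zero (w (σ i)) with a | a <;> rcases word_eq_one_or_zero (w' (σ i)) with b | b <;>
    simp [a, b] at this ⊢

theorem mono_mul {g h : ↥Co0} {σ τ : Equiv.Perm GolayPt} {w w' : GolayPt → ZMod 2}
    (hg : ∀ v : Lv, ((g • v : Lv) : Zv) = sgn w (prm σ (v : Zv)))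
    (hh : ∀ v : Lv, ((h • v : Lv) : Zv) = sgn w' (prm τ (v : Zv))) (v : Lv) :
    (((g * h) • v : Lv) : Zv) = sgn (w + actW σ w') (prm (σ * τ) (v : Zv)) := by
  rw [mul_smul, hg, hh, prm_sgn, sgn_add_word]
  rfl

/-! ### the element of order 23 -/

theorem const_code {w : GolayPt → ZMod 2} (hw : w ∈ golayCode) (hc : ∀ p, p ≠ none → w p = w (pt 0)) :
    ∀ p, w p = w none := by
  classical
  have h := codeSets_card (s := support₂ w) ⟨w, hw, rfl⟩
  rcases word_eq_one_or_zero (w (pt 0)) with a | a <;> rcases word_eq_one_or_zero (w none) with b | b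
  · intro p
    rcases eq_or_ne p none with rfl | hp
    · rfl
    · rw [hc p hp, a, b]
  · exfalso
    have e : support₂ w = {none} := by
      ext p
      rw [mem_support₂, Finset.mem_singleton]
      rcases eq_or_ne p none with rfl | hp
      · simp [b]
      · simp [hc p hp, a, hp]
    rw [e, Finset.card_singleton] at h
    omega
  · exfalso
    have e : support₂ w = Finset.univ.erase none := by
      ext p
      rw [mem_support₂, Finset.mem_erase]
      rcases eq_or_ne p none with rfl | hp
      · simp [b]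
      · simp [hc p hp, a, hp]
    rw [e, Finset.card_erase_of_mem (Finset.mem_univ _), Finset.card_univ,
      show Fintype.card GolayPt = 24 from rfl] at h
    omega
  · intro p
    rcases eq_or_ne p none with rfl | hp
    · rfl
    · rw [hc p hp, a, b]

/-- an element commuting with the translation whose square is central is central -/
theorem shift_commute {a T : ↥Co0} (ha : ∀ v : Lv, ((a • v : Lv) : Zv) = prm genA (v : Zv))
    (hT2 : T * T ∈ Subgroup.center ↥Co0) (hcomm : a * T = T * a) : T ∈ Subgroup.center ↥Co0 := by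
  classical
  have hA0 : genA none = none := by decide +kernel
  have haM : StdStab a := mono_std (σ := genA) (w := 0) fun v => by
    rw [ha]; funext p; simp [sgn]
  have hTM : StdStab T := by
    rw [stdStab_iff]
    refine shift_fixed ha (y := T • e8 none) ((T.2.2 _).trans (e8_norm none)) ?_
    rw [← mul_smul, hcomm, mul_smul]
    exact cross_act T (a := a • e8 none) (b := e8 none) (stdStab_iff.1 haM)
  obtain ⟨σ, hσ, w, hw, e⟩ := std_form hTM
  have ha' : ∀ v : Lv, ((a • v : Lv) : Zv) = sgn 0 (prm genA (v : Zv)) := fun v => by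
    rw [ha]; funext p; simp [sgn]
  obtain ⟨hcσ, hcw⟩ := mono_unique (σ := genA * σ) (τ := σ * genA) (w := 0 + actW genA w) (w' := w + actW σ 0)
    fun v => (mono_mul ha' e v).symm.trans (hcomm ▸ mono_mul e ha' v)
  obtain ⟨hσσ, -⟩ : σ * σ = 1 ∧ True := by
    obtain ⟨n, hn⟩ := negation_exists
    refine ⟨?_, trivial⟩
    rcases center_cases hn hT2 with h | h
    · exact (mono_unique (σ := σ * σ) (τ := 1) (w := w + actW σ w) (w' := 0) fun v =>
        (mono_mul e e v).symm.trans (by rw [h, one_smul]; funext p; simp [sgn, prm, Equiv.Perm.one_def])).1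
    · exact (mono_unique (σ := σ * σ) (τ := 1) (w := w + actW σ w) (w' := 1) fun v =>
        (mono_mul e e v).symm.trans (by rw [h, hn]; funext p; simp [sgn, prm, Equiv.Perm.one_def])).1
  -- fixed point and trivial permutation part
  have hσ0 : σ none = none := by
    have h1 : genA (σ none) = σ none := by
      have := congrArg (fun π : Equiv.Perm GolayPt => π none) hcσ
      simpa [hA0] using this
    have h2 : ∀ p, genA p = p → p = none := by decide +kernel
    exact h2 _ h1
  have hstep : ∀ p, σ (genA p) = genA (σ p) := fun p => by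
    have := congrArg (fun π : Equiv.Perm GolayPt => π p) hcσ
    simpa using this.symm
  have hpt : ∀ i, i < 22 → genA (pt i) = pt (i + 1) := by decide +kernel
  have hk : σ (pt 0) ≠ none := fun h => by
    have : pt 0 = none := σ.injective (h.trans hσ0.symm)
    exact absurd this (by decide +kernel)
  obtain ⟨k, hk23, hke⟩ : ∃ k < 23, σ (pt 0) = pt k := by
    have h : ∀ p, p ≠ none → ∃ k < 23, p = pt k := by decide +kernel
    exact h _ hk
  have hrot : ∀ i, i < 23 → σ (pt i) = (genA ^ i) (pt k) := by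
    intro i
    induction i with
    | zero => intro _; simpa using hke
    | succ i ih =>
      intro hi
      rw [← hpt i (by omega), hstep, ih (by omega), pow_succ', Equiv.Perm.mul_apply]
  have hk0 : k = 0 := by
    have h : (genA ^ k) (pt k) = pt 0 := by
      rw [← hrot k hk23, ← hke, ← Equiv.Perm.mul_apply, hσσ, Equiv.Perm.one_apply]
    have hh : ∀ k, k < 23 → (genA ^ k) (pt k) = pt 0 → k = 0 := by decide +kernel
    exact hh k hk23 h
  subst hk0
  have hσ1 : σ = 1 := Equiv.ext fun p => by
    rw [Equiv.Perm.one_apply]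
    rcases eq_or_ne p none with rfl | hp
    · exact hσ0
    · obtain ⟨i, hi, rfl⟩ : ∃ k < 23, p = pt k := by
        have h : ∀ p, p ≠ none → ∃ k < 23, p = pt k := by decide +kernel
        exact h _ hp
      rw [hrot i hi]
      have hh : ∀ i, i < 23 → (genA ^ i) (pt 0) = pt i := by decide +kernel
      exact hh i hi
  -- constant signs
  subst hσ1
  have hw1 : ∀ p, w (genA p) = w p := fun p => by
    have := congrFun hcw (genA p)
    have e : genA.symm (genA p) = p := genA.symm_apply_apply p
    simp only [Pi.add_apply, Pi.zero_apply, actW, zero_add, add_zero, Function.comp_apply, e] at this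
    simp [actW, e, Equiv.symm_apply_apply] at this
    exact this.symm
  have hwc : ∀ i, i < 23 → w (pt i) = w (pt 0) := by
    intro i
    induction i with
    | zero => exact fun _ => rfl
    | succ i ih => intro hi; rw [← hpt i (by omega), hw1, ih (by omega)]
  have hconst := const_code hw fun p hp => by
    obtain ⟨i, hi, rfl⟩ : ∃ k < 23, p = pt k := by
      have h : ∀ p, p ≠ none → ∃ k < 23, p = pt k := by decide +kernel
      exact h _ hp
    exact hwc i hi
  rcases word_eq_one_or_zero (w none) with h | h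
  · refine scalar_central T 1 fun v => ?_
    rw [e, one_smul]
    funext p
    simp [sgn, prm, hconst p, h, Equiv.Perm.one_def]
  · refine scalar_central T (-1) fun v => ?_
    rw [e, neg_one_smul]
    funext p
    simp [sgn, prm, hconst p, h, Equiv.Perm.one_def]

/-- no involution of the first Conway group commutes with an element of order 23 -/
theorem co1_commute_twentythree (u t : Cfsg.Spor.Co1) (hu : orderOf u = 23) (ht : t * t = 1)
    (hc : u * t = t * u) : t = 1 := by
  classical
  haveI := co0_finite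
  haveI : Fact (Nat.Prime 23) := ⟨by norm_num⟩
  obtain ⟨U₀, rfl⟩ := QuotientGroup.mk_surjective u
  obtain ⟨T, rfl⟩ := QuotientGroup.mk_surjective t
  obtain ⟨a, -, hao, ha⟩ := exists_shift
  -- a lift of order 23
  have hd : 23 ∣ orderOf U₀ := hu ▸ orderOf_map_dvd (QuotientGroup.mk' (Subgroup.center ↥Co0)) U₀
  set U := U₀ ^ (orderOf U₀ / 23) with hU
  have hUo : orderOf U = 23 := by
    rw [hU, orderOf_pow' _ (Nat.div_pos (Nat.le_of_dvd (orderOf_pos U₀) hd) (by norm_num)).ne',
      Nat.gcd_eq_right (Nat.div_dvd_of_dvd hd), Nat.div_div_self hd (orderOf_pos U₀).ne']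
  have hTU : T * U * T⁻¹ * U⁻¹ ∈ Subgroup.center ↥Co0 := by
    rw [← QuotientGroup.eq_one_iff]
    simp only [QuotientGroup.mk_mul, QuotientGroup.mk_inv, hU, QuotientGroup.mk_pow]
    rw [((Commute.pow_left (show Commute _ _ from hc) _).symm).eq]
    group
  -- hence exact commutation
  have hexact : T * U = U * T := by
    obtain ⟨n, hn⟩ := negation_exists
    rcases center_cases hn hTU with h | h
    · rw [mul_inv_eq_one, mul_inv_eq_iff_eq_mul] at h; exact h
    · exfalso
      have h' : T * U * T⁻¹ = n * U := by rwa [mul_inv_eq_iff_eq_mul] at h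
      have h23 : (n * U) ^ 23 = 1 := by rw [← h', conj_pow, ← hUo, pow_orderOf_eq_one]; group
      rw [Commute.mul_pow (show Commute n U from (Subgroup.mem_center_iff.1 (negation_mem_center hn) U).symm),
        ← hUo, pow_orderOf_eq_one, mul_one, hUo] at h23
      have h2 : n ^ 2 = 1 := co0_ext fun v => by rw [sq, mul_smul, hn, hn, neg_neg, one_smul]
      have h1 : n = 1 := by rw [show (23 : ℕ) = 2 * 11 + 1 from rfl, pow_succ, pow_mul, h2, one_pow, one_mul] at h23; exact h23
      have := hn (e8 none)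
      rw [h1, one_smul] at this
      have := congrFun this none
      simp [e8] at this
  obtain ⟨S, hSe⟩ := sylow23 a hao
  obtain ⟨R, hRe⟩ := sylow23 U hUo
  obtain ⟨c, hcs⟩ := MulAction.exists_smul_eq ↥Co0 R S
  have ha' : a ∈ ((c • R : Sylow 23 ↥Co0) : Subgroup ↥Co0) := by
    rw [hcs, hSe]; exact Subgroup.mem_zpowers a
  rw [Sylow.coe_subgroup_smul, Subgroup.mem_pointwise_smul_iff_inv_smul_mem, hRe] at ha'
  obtain ⟨k, hk⟩ := Subgroup.mem_zpowers_iff.1 ha'
  have hk' : a = c * U ^ k * c⁻¹ := by rw [hk]; simp [MulAut.smul_def, mul_assoc]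
  have hT2 : T * T ∈ Subgroup.center ↥Co0 := by
    rw [← QuotientGroup.eq_one_iff, QuotientGroup.mk_mul, ht]
  have hcen := shift_commute ha (T := c * T * c⁻¹) (by
      rw [show c * T * c⁻¹ * (c * T * c⁻¹) = c * (T * T) * c⁻¹ by group]
      exact (Subgroup.Normal.conj_mem inferInstance _ hT2 c)) (by
      have := (Commute.zpow_left (show Commute U T from hexact.symm) k).eq
      rw [hk', show c * U ^ k * c⁻¹ * (c * T * c⁻¹) = c * (U ^ k * T) * c⁻¹ by group, this]
      group)
  rw [QuotientGroup.eq_one_iff]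
  have := Subgroup.Normal.conj_mem (inferInstance : (Subgroup.center ↥Co0).Normal) _ hcen c⁻¹
  rwa [show c⁻¹ * (c * T * c⁻¹) * c⁻¹⁻¹ = T by group] at this

/-! ### class stabilisers -/

/-- stabiliser of a class modulo twice the lattice -/
def classStab (v : Lv) : Subgroup ↥Co0 where
  carrier := {g | Cong2 ((g • v : Lv) : Zv) (v : Zv)}
  one_mem' := by simp only [Set.mem_setOf_eq, one_smul]; exact Cong2.refl' _
  mul_mem' {g k} hg hk := by
    simp only [Set.mem_setOf_eq] at hg hk ⊢
    rw [mul_smul]
    exact (orb_cong (g := g) (k • v).2 v.2 hk).trans hg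
  inv_mem' {g} hg := by
    simp only [Set.mem_setOf_eq] at hg ⊢
    have := orb_cong (g := g⁻¹) (g • v).2 v.2 hg
    rw [inv_smul_smul] at this
    exact this.symm

theorem mem_classStab {v : Lv} {g : ↥Co0} : g ∈ classStab v ↔ Cong2 ((g • v : Lv) : Zv) (v : Zv) := Iff.rfl

theorem center_le_classStab (v : Lv) : Subgroup.center ↥Co0 ≤ classStab v := by
  intro g hg
  obtain ⟨e, he, hv⟩ := central_scalar hg
  rw [mem_classStab, hv]
  rcases he with rfl | rfl
  · rw [one_smul]; exact Cong2.refl' _
  · exact ⟨-(v : Zv), neg_mem v.2, by rw [neg_one_smul, two_nsmul]; abel⟩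

/-- its image -/
noncomputable def classStab1 (v : Lv) : Subgroup Cfsg.Spor.Co1 :=
  (classStab v).map (QuotientGroup.mk' (Subgroup.center ↥Co0))

theorem classStab_e8 : classStab (e8 none) = monoSub := by
  ext g
  show _ ↔ imgCross g = cross (e8 none : Zv)
  rw [mem_classStab, imgCross, cross_eq_iff (e8 none).2]
  exact ⟨fun h => ⟨(e8_norm none).trans ((g.2.2 _).trans (e8_norm none)).symm, h⟩, fun h => h.2⟩

theorem classStab_short {v : Lv} (hv : sqNorm (v : Zv) = 32) {g : ↥Co0} (hg : g ∈ classStab v) :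
    g • v = v ∨ g • v = -v := by
  by_cases h : ((g • v : Lv) : Zv) = (v : Zv)
  · exact Or.inl (Subtype.ext h)
  by_cases h' : ((g • v : Lv) : Zv) = -(v : Zv)
  · exact Or.inr (Subtype.ext h')
  have hn : sqNorm ((g • v : Lv) : Zv) = 32 := (g.2.2 v).trans hv
  obtain ⟨e, -, -⟩ := congruent_short (g • v).2 h h' (by omega) (by omega) hg
  omega

theorem comap_isPGroup {W : Subgroup Cfsg.Spor.Co1} (hW : IsPGroup 2 W) :
    IsPGroup 2 (W.comap (QuotientGroup.mk' (Subgroup.center ↥Co0))) :=
  hW.comap_of_ker_isPGroup _ (by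
    rw [QuotientGroup.ker_mk']
    exact IsPGroup.of_card (n := 1) (by rw [card_center, pow_one]))

/-- no normal 2-subgroup in the stabiliser of a short class -/
theorem short_stab_trivial {v : Lv} (hv : sqNorm (v : Zv) = 32) {W : Subgroup Cfsg.Spor.Co1} (hW : IsPGroup 2 W)
    (hle : W ≤ classStab1 v) (hnorm : ∀ s ∈ classStab1 v, ∀ w ∈ W, s * w * s⁻¹ ∈ W) : W = ⊥ := by
  classical
  haveI := co0_finite
  set P := (W.comap (QuotientGroup.mk' (Subgroup.center ↥Co0))).subgroupOf (MulAction.stabilizer ↥Co0 v) with hP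
  obtain ⟨hsimp, hcard⟩ := co2_spec hv
  have hPn : P.Normal := ⟨fun p hp s => by
    rw [hP, Subgroup.mem_subgroupOf, Subgroup.mem_comap] at hp ⊢
    rw [Subgroup.coe_mul, Subgroup.coe_mul, Subgroup.coe_inv, map_mul, map_mul, map_inv]
    refine hnorm _ ⟨s, ?_, rfl⟩ _ hp
    rw [SetLike.mem_coe, mem_classStab, MulAction.mem_stabilizer_iff.1 s.2]
    exact Cong2.refl' _⟩
  rcases hsimp.eq_bot_or_eq_top_of_normal P hPn with h | h
  · refine (Subgroup.eq_bot_iff_forall _).2 fun x hx => ?_
    obtain ⟨g, hg, rfl⟩ := hle hx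
    obtain ⟨n, hn⟩ := negation_exists
    rcases classStab_short hv hg with e | e
    · have : (⟨g, MulAction.mem_stabilizer_iff.2 e⟩ : MulAction.stabilizer ↥Co0 v) ∈ P := by
        rw [hP, Subgroup.mem_subgroupOf, Subgroup.mem_comap]; exact hx
      rw [h, Subgroup.mem_bot] at this
      rw [show g = 1 from congrArg Subtype.val this, map_one]
    · have hst : (n * g) • v = v := Subtype.ext (by rw [mul_smul, hn, e, AddSubgroup.coe_neg, neg_neg])
      have hnc : QuotientGroup.mk' (Subgroup.center ↥Co0) n = 1 :=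
        (QuotientGroup.eq_one_iff n).2 (negation_mem_center hn)
      have : (⟨n * g, MulAction.mem_stabilizer_iff.2 hst⟩ : MulAction.stabilizer ↥Co0 v) ∈ P := by
        rw [hP, Subgroup.mem_subgroupOf, Subgroup.mem_comap]
        show QuotientGroup.mk' (Subgroup.center ↥Co0) (n * g) ∈ W
        rw [map_mul, hnc, one_mul]; exact hx
      rw [h, Subgroup.mem_bot] at this
      have h1 : n * g = 1 := congrArg Subtype.val this
      have := congrArg (QuotientGroup.mk' (Subgroup.center ↥Co0)) h1
      rwa [map_mul, hnc, one_mul, map_one] at this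
  · exfalso
    have hp2 : IsPGroup 2 P := (comap_isPGroup hW).comap_of_injective _ (Subgroup.subtype_injective _)
    obtain ⟨m, hm⟩ := IsPGroup.iff_card.1 hp2
    rw [h, Subgroup.card_top, hcard] at hm
    have : 23 ∣ (2 : ℕ) ^ m := by rw [← hm]; norm_num
    have := (Nat.Prime.dvd_of_dvd_pow (by norm_num : Nat.Prime 23) this)
    norm_num at this

/-- a normal 2-subgroup of the stabiliser of a cross has order at most 2048 -/
theorem cross_stab_small {W : Subgroup Cfsg.Spor.Co1} (hW : IsPGroup 2 W)
    (hle : W ≤ classStab1 (e8 none)) (hnorm : ∀ s ∈ classStab1 (e8 none), ∀ w ∈ W, s * w * s⁻¹ ∈ W) :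
    Nat.card W ≤ 2048 := by
  classical
  haveI := co0_finite
  haveI := simple_M24
  set P := W.comap (QuotientGroup.mk' (Subgroup.center ↥Co0)) with hP
  have hPle : P ≤ monoSub := fun g hg => by
    obtain ⟨g', hg', e⟩ := hle hg
    rw [← classStab_e8]
    have : g'⁻¹ * g ∈ Subgroup.center ↥Co0 := QuotientGroup.eq.1 e
    have h := mul_mem hg' (center_le_classStab (e8 none) this)
    rwa [mul_inv_cancel_left] at h
  have hp2 : IsPGroup 2 P := comap_isPGroup hW
  have hform : ∀ g : P, ∃ q : ↥golayCode × ↥M24, ∀ v : Lv,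
      (((g : ↥Co0) • v : Lv) : Zv) = sgn q.1 (prm q.2 (v : Zv)) := fun g => by
    obtain ⟨σ, hσ, w, hw, e⟩ := std_form (mem_monoSub.1 (hPle g.2))
    exact ⟨(⟨w, hw⟩, ⟨σ, hσ⟩), e⟩
  choose q hq using hform
  let φ : P →* ↥M24 := MonoidHom.mk' (fun g => (q g).2) fun g g' => Subtype.ext
    (mono_unique fun v => (hq (g * g') v).symm.trans (mono_mul (hq g) (hq g') v)).1
  have hR : φ.range.Normal := ⟨by
    rintro _ ⟨g, rfl⟩ τ
    obtain ⟨n, hn⟩ := mono_exists τ.2 (zero_mem golayCode)
    have hnS : QuotientGroup.mk' (Subgroup.center ↥Co0) n ∈ classStab1 (e8 none) :=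
      ⟨n, by rw [SetLike.mem_coe, classStab_e8]; exact mem_monoSub.2 (mono_std hn), rfl⟩
    have hmem : n * g * n⁻¹ ∈ P := by
      refine Subgroup.mem_comap.2 ?_
      rw [map_mul, map_mul, map_inv]
      exact hnorm _ hnS _ g.2
    refine ⟨⟨_, hmem⟩, ?_⟩
    have e : (n * g * n⁻¹) * n = n * g := by group
    have h1 := mono_unique fun v => ((mono_mul (hq ⟨_, hmem⟩) hn v).symm.trans (by
      rw [show ((⟨_, hmem⟩ : P) : ↥Co0) * n = n * g from e])).trans (mono_mul hn (hq g) v)
    refine Subtype.ext ?_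
    show ((q ⟨_, hmem⟩).2 : Equiv.Perm GolayPt) = τ * ((q g).2 : Equiv.Perm GolayPt) * (τ : Equiv.Perm GolayPt)⁻¹
    rw [← h1.1, mul_inv_cancel_right]⟩
  have hbot : φ.range = ⊥ := by
    refine (IsSimpleGroup.eq_bot_or_eq_top_of_normal φ.range hR).resolve_right fun htop => ?_
    obtain ⟨m, hm⟩ := IsPGroup.iff_card.1 (hp2.of_surjective φ (MonoidHom.range_eq_top.1 htop))
    have h23 : 23 ∣ Nat.card ↥M24 := by rw [card_M24]; norm_num
    rw [hm] at h23
    have := (Nat.Prime.dvd_of_dvd_pow (by norm_num : Nat.Prime 23) h23)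
    norm_num at this
  have hcard : Nat.card P ≤ 4096 := by
    rw [← card_golayCode]
    refine Nat.card_le_card_of_injective (fun g => (q g).1) fun g g' h => Subtype.ext (co0_ext fun v => ?_)
    have h1 : ∀ g, (q g).2 = 1 := fun g => by
      have : φ g ∈ φ.range := ⟨g, rfl⟩
      rw [hbot, Subgroup.mem_bot] at this
      exact this
    rw [hq g, hq g', h1 g, h1 g', show (q g).1 = (q g').1 from h]
  have h2 : 2 * Nat.card W ≤ Nat.card P := by
    let ρ : P →* W := ((QuotientGroup.mk' (Subgroup.center ↥Co0)).comp P.subtype).codRestrict _ fun x => x.2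
    have hρ : Function.Surjective ρ := by
      rintro ⟨x, hx⟩
      obtain ⟨g, rfl⟩ := QuotientGroup.mk'_surjective _ x
      exact ⟨⟨g, hx⟩, rfl⟩
    have e := Subgroup.card_eq_card_quotient_mul_card_subgroup ρ.ker
    rw [Nat.card_congr (QuotientGroup.quotientKerEquivOfSurjective ρ hρ).toEquiv] at e
    rw [e, mul_comm 2]
    refine Nat.mul_le_mul le_rfl ?_
    rw [← card_center]
    refine Nat.card_le_card_of_injective (fun c : Subgroup.center ↥Co0 =>
      (⟨⟨c, ?_⟩, ?_⟩ : ρ.ker)) fun c d h => Subtype.ext (congrArg (fun x : ρ.ker => ((x : P) : ↥Co0)) h)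
    · rw [hP, Subgroup.mem_comap, show QuotientGroup.mk' (Subgroup.center ↥Co0) c = 1 from
        (QuotientGroup.eq_one_iff _).2 c.2]
      exact one_mem _
    · exact Subtype.ext ((QuotientGroup.eq_one_iff _).2 c.2)
  omega

end Cfsg.Agent.Spor
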