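import Cfsg.Agent.Lib.Spor.HsRank

/-!
The stabiliser of a vector of norm 48 and of a minimal vector at product -16 with it: its five orbits.
-/

set_option autoImplicit false
set_option maxRecDepth 100000
set_option Elab.async false

namespace Cfsg.Agent.Spor

open Cfsg

local notation "Zv" => GolayPt → ℤ

namespace HsRank

/-- the base vector -/
def base : ↥leechLattice := -hsVec

theorem HOrb_one {a : Zv} (ha : a ∈ leechLattice) : HOrb a a :=
  ⟨ha, 1, ⟨one_smul _ _, one_smul _ _⟩, by rw [one_smul]⟩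

theorem fix_facts :
    (∀ p, vecOf ((fixTr.getD 0 []).headD []) p = uRef p ∧ vecOf ((fixTr.getD 0 []).getLastD []) p = uRef p) ∧
    (∀ p, vecOf ((fixTr.getD 1 []).headD []) p = -fourVec (-1) p ∧
      vecOf ((fixTr.getD 1 []).getLastD []) p = -fourVec (-1) p) ∧
    (∀ k < 2, ∀ p, uRef (pt ([perm0, perm1].getD k [] |>.getD (idx p) 0)) = uRef p ∧
      fourVec (-1) (pt ([perm0, perm1].getD k [] |>.getD (idx p) 0)) = fourVec (-1) p) := by
  refine ⟨?_, ?_, ?_⟩ <;> decide +kernel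

theorem trace_fix {t : List (List ℤ)} {y : Zv} (h : traceOk extraW t = true)
    (h1 : vecOf (t.headD []) = y) (h2 : vecOf (t.getLastD []) = y) : wordApp extraW y = y := by
  have := (trace_sound _ _ h).2
  rwa [h1, h2] at this

theorem gens_ok (k : ℕ) (hk : k < 3) : ∃ g : ↥Co0, HsFix g ∧
    ∀ v : ↥leechLattice, ((g • v : ↥leechLattice) : Zv) = wordApp (genW k) (v : Zv) := by
  obtain ⟨m0, m1, hf, -⟩ := words_ok
  obtain ⟨f0, f1, fp⟩ := fix_facts
  obtain ⟨x, hxi⟩ := exists_xi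
  rw [List.all_eq_true] at hf
  have mem : ∀ i, i < 2 → fixTr.getD i [] ∈ fixTr := fun i hi => by
    rw [List.getD_eq_getElem _ _ (by rw [show fixTr.length = 2 from rfl]; exact hi)]
    exact List.getElem_mem _
  have hok : (genW k).all LOp.ok = true := by
    interval_cases k
    · simp [genW, LOp.ok, m0]
    · simp [genW, LOp.ok, m1]
    · exact (trace_sound _ _ (hf _ (mem 0 (by norm_num)))).1
  obtain ⟨g, -, hg⟩ := word_elem ⊤ (fun _ _ => Subgroup.mem_top _) (Subgroup.mem_top x) hxi (genW k) hok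
  have h1 : wordApp (genW k) uRef = uRef ∧ wordApp (genW k) (fun p => -fourVec (-1) p) = fun p => -fourVec (-1) p := by
    interval_cases k
    · exact ⟨funext fun p => (fp 0 (by norm_num) p).1, funext fun p => congrArg Neg.neg (fp 0 (by norm_num) p).2⟩
    · exact ⟨funext fun p => (fp 1 (by norm_num) p).1, funext fun p => congrArg Neg.neg (fp 1 (by norm_num) p).2⟩
    · exact ⟨trace_fix (hf _ (mem 0 (by norm_num))) (funext fun p => (f0 p).1) (funext fun p => (f0 p).2),
        trace_fix (hf _ (mem 1 (by norm_num))) (funext fun p => (f1 p).1) (funext fun p => (f1 p).2)⟩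
  refine ⟨g, ⟨Subtype.ext ((hg refU).trans h1.1), ?_⟩, hg⟩
  have e : g • (-hsVec) = -hsVec := Subtype.ext ((hg (-hsVec)).trans h1.2)
  rwa [co0_neg, neg_inj] at e

theorem edge_facts : ∀ j < 7, edgeAt.getD j 0 < 11178 ∧
    (∀ p, vecOf ((edgeTr.getD j []).getLastD []) p = vecC (cd (par (edgeAt.getD j 0))) p) ∧
    (∀ p, vecOf ((edgeTr.getD j []).headD []) p = vecC (cd (edgeAt.getD j 0)) p) ∧
    gen (edgeAt.getD j 0) = 2 := by decide +kernel

theorem edge_len : edgeAt.length = 7 ∧ edgeTr.length = 7 := ⟨rfl, rfl⟩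

theorem perm_step : ∀ (l : List ℕ) (a b : ℕ),
    permOK ((List.range 24).map fun k => (9 ^ k, 9 ^ l.getD k 0)) a b = true →
    (∀ k < 24, l.getD k 0 < 24) → wordApp [LOp.plO l] (vecC a) = vecC b := by
  intro l a b h hl
  have all : ∀ (w : List (ℕ × ℕ)), permOK w a b = true → ∀ t ∈ w, b / t.1 % 9 = a / t.2 % 9 := by
    intro w
    induction w with
    | nil => intro _ t ht; exact absurd ht (List.not_mem_nil)
    | cons s w ih =>
      intro hw t ht
      have hw' : (Nat.beq (Nat.mod (Nat.div b s.1) 9) (Nat.mod (Nat.div a s.2) 9) && permOK w a b) = true := hw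
      rw [Bool.and_eq_true] at hw'
      rcases List.mem_cons.1 ht with rfl | ht
      · exact Nat.eq_of_beq_eq_true hw'.1
      · exact ih hw'.2 t ht
  funext p
  have := all _ h (9 ^ idx p, 9 ^ l.getD (idx p) 0) (List.mem_map.2 ⟨idx p, List.mem_range.2 (idx_lt p), rfl⟩)
  show (dgt a (idx (pt (l.getD (idx p) 0))) : ℤ) - 4 = (dgt b (idx p) : ℤ) - 4
  rw [idx_pt _ (hl _ (idx_lt p))]
  show ((a / 9 ^ l.getD (idx p) 0 % 9 : ℕ) : ℤ) - 4 = ((b / 9 ^ idx p % 9 : ℕ) : ℤ) - 4
  rw [this]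

theorem perm_lt : ∀ k < 24, perm0.getD k 0 < 24 ∧ perm1.getD k 0 < 24 := by decide +kernel

theorem root_facts : ∀ j < 5, rootAt.getD j 0 < 11178 ∧ lab (rootAt.getD j 0) = j ∧
    leechCheck (vecC (cd (rootAt.getD j 0))) = true ∧ sqNorm (vecC (cd (rootAt.getD j 0))) = 32 ∧
    dotInt uRef (vecC (cd (rootAt.getD j 0))) = -16 ∧
    dotInt (fun p => -fourVec (-1) p) (vecC (cd (rootAt.getD j 0))) = ([32, 16, 8, 0, -8] : List ℤ).getD j 0 ∧
    (j = 0 → ∀ p, vecC (cd (rootAt.getD j 0)) p = -fourVec (-1) p) := by decide +kernel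

/-- a numbered root -/
def root (j : ℕ) : Zv := vecC (cd (rootAt.getD j 0))

theorem tree_orb : ∀ (n i : ℕ), i < 11178 → dep i = n → HOrb (root (lab i)) (vecC (cd i)) := by
  intro n
  induction n using Nat.strong_induction_on with
  | _ n ih =>
    intro i hi hn
    have h := node_all i hi
    simp only [nodeOK, Bool.and_eq_true] at h
    obtain ⟨⟨hl, -⟩, h⟩ := h
    have hl5 : lab i < 5 := Nat.le_of_ble_eq_true hl
    cases hg3 : Nat.beq (gen i) 3
    · rw [hg3, cond_false] at h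
      simp only [Bool.and_eq_true] at h
      obtain ⟨⟨⟨hp, hd⟩, hlab⟩, h⟩ := h
      have hp : par i < 11178 := Nat.le_of_ble_eq_true hp
      have hd : dep (par i) < dep i := Nat.le_of_ble_eq_true hd
      have hlab : lab (par i) = lab i := Nat.eq_of_beq_eq_true hlab
      have o := ih _ (hn ▸ hd) (par i) hp rfl
      rw [hlab] at o
      refine o.trans ?_
      have step : ∀ k < 3, wordApp (genW k) (vecC (cd (par i))) = vecC (cd i) →
          HOrb (vecC (cd (par i))) (vecC (cd i)) := by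
        intro k hk e
        obtain ⟨g, hg, hgv⟩ := gens_ok k hk
        obtain ⟨hm, -⟩ := o.symm
        exact ⟨hm, g, hg, (hgv _).trans e⟩
      cases h0 : Nat.beq (gen i) 0
      · rw [h0, cond_false] at h
        cases h1 : Nat.beq (gen i) 1
        · rw [h1, cond_false] at h
          obtain ⟨j, hj, e⟩ := List.mem_iff_getElem.1 (List.contains_iff_mem.1 h)
          have hj7 : j < 7 := edge_len.1 ▸ hj
          have e' : edgeAt.getD j 0 = i := by rw [List.getD_eq_getElem _ _ hj, e]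
          obtain ⟨-, a, b, -⟩ := edge_facts j hj7
          rw [e'] at a b
          have ht := List.all_eq_true.1 words_ok.2.2.2 (edgeTr.getD j []) (by
            rw [List.getD_eq_getElem _ _ (by rw [edge_len.2]; exact hj7)]; exact List.getElem_mem _)
          refine step 2 (by norm_num) ?_
          have := (trace_sound _ _ ht).2
          rwa [funext a, funext b] at this
        · rw [h1, cond_true] at h
          exact step 1 (by norm_num) (perm_step _ _ _ (weights_ok.2 ▸ h) fun k hk => (perm_lt k hk).2)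
      · rw [h0, cond_true] at h
        exact step 0 (by norm_num) (perm_step _ _ _ (weights_ok.1 ▸ h) fun k hk => (perm_lt k hk).1)
    · rw [hg3, cond_true] at h
      have e := Nat.eq_of_beq_eq_true h
      rw [root, e]
      have := leechCheck_mem (root_facts _ hl5).2.2.1
      rw [e] at this
      exact HOrb_one this

theorem horb_facts {a b : Zv} (h : HOrb a b) : b ∈ leechLattice ∧ sqNorm b = sqNorm a ∧
    dotInt uRef b = dotInt uRef a ∧ dotInt (fun p => -fourVec (-1) p) b = dotInt (fun p => -fourVec (-1) p) a := by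
  obtain ⟨ha, g, ⟨g1, g2⟩, rfl⟩ := h
  have g3 : g • (-hsVec) = -hsVec := by rw [co0_neg, g2]
  refine ⟨(g • (⟨a, ha⟩ : ↥leechLattice)).2, g.2.2 _, ?_, ?_⟩
  · have := co0_dot g refU ⟨a, ha⟩; rwa [g1] at this
  · have := co0_dot g (-hsVec) ⟨a, ha⟩; rwa [g3] at this

theorem dgt_ext : ∀ (n a b : ℕ), a < 9 ^ n → b < 9 ^ n → (∀ k < n, dgt a k = dgt b k) → a = b := by
  intro n
  induction n with
  | zero => intro a b ha hb _; rw [pow_zero] at ha hb; omega
  | succ n ih =>
    intro a b ha hb h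
    have h0 : a % 9 = b % 9 := by
      have := h 0 (by omega)
      have e : a / 9 ^ 0 % 9 = b / 9 ^ 0 % 9 := this
      simpa using e
    have := ih (a / 9) (b / 9) (Nat.div_lt_of_lt_mul (by rwa [← pow_succ'])) (Nat.div_lt_of_lt_mul (by rwa [← pow_succ']))
      fun k hk => by
        have := h (k + 1) (by omega)
        show a / 9 / 9 ^ k % 9 = b / 9 / 9 ^ k % 9
        rw [Nat.div_div_eq_div_mul, Nat.div_div_eq_div_mul, ← pow_succ']
        exact this
    omega

theorem cd_strict : ∀ j, j < 11178 → ∀ i < j, cd i < cd j := by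
  intro j
  induction j with
  | zero => intro _ i hi; omega
  | succ j ih =>
    intro hj i hi
    have h := srt_all j (by omega)
    rw [srtOK, Bool.or_eq_true] at h
    have h' : cd j < cd (j + 1) := Nat.le_of_ble_eq_true (h.resolve_left fun e => by
      have := Nat.eq_of_beq_eq_true e; omega)
    rcases Nat.lt_or_ge i j with q | q
    · exact lt_trans (ih (by omega) i q) h'
    · rwa [show i = j by omega]

theorem vec_inj {i j : ℕ} (hi : i < 11178) (hj : j < 11178) (e : vecC (cd i) = vecC (cd j)) : i = j := by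
  have lt : ∀ k < 11178, cd k < 9 ^ 24 := fun k hk => by
    have h := node_all k hk
    simp only [nodeOK, Bool.and_eq_true] at h
    exact Nat.le_of_ble_eq_true h.1.2
  have e' : cd i = cd j := dgt_ext 24 _ _ (lt i hi) (lt j hj) fun k hk => by
    have := congrFun e (pt k)
    simp only [vecC, idx_pt k hk] at this
    omega
  rcases Nat.lt_trichotomy i j with h | h | h
  · have := cd_strict j hj i h; omega
  · exact h
  · have := cd_strict i hi j h; omega

/-- the vectors in question, around the base pair -/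
def big : Set ↥leechLattice := {y | sqNorm (y : Zv) = 32 ∧ dotInt uRef (y : Zv) = -16}

/-- the list as lattice vectors -/
noncomputable def vecL (i : ℕ) : ↥leechLattice :=
  haveI := Classical.propDecidable (vecC (cd i) ∈ leechLattice)
  if h : vecC (cd i) ∈ leechLattice then ⟨vecC (cd i), h⟩ else 0

theorem vec_facts {i : ℕ} (hi : i < 11178) : (vecL i : Zv) = vecC (cd i) ∧ vecL i ∈ big ∧ lab i < 5 ∧
    HOrb (root (lab i)) (vecC (cd i)) := by
  have o := tree_orb _ i hi rfl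
  have h := node_all i hi
  simp only [nodeOK, Bool.and_eq_true] at h
  have hl : lab i < 5 := Nat.le_of_ble_eq_true h.1.1
  obtain ⟨hm, hn, hu, -⟩ := horb_facts o
  have e : (vecL i : Zv) = vecC (cd i) := by rw [vecL, dif_pos hm]
  obtain ⟨-, -, -, r1, r2, -⟩ := root_facts _ hl
  exact ⟨e, ⟨by rw [e, hn]; exact r1, by rw [e, hu]; exact r2⟩, hl, o⟩

theorem big_eq : big = vecL '' (Set.Iio 11178) := by
  have inj : Set.InjOn vecL (Set.Iio 11178) := fun i hi j hj e =>
    vec_inj hi hj (by rw [← (vec_facts hi).1, ← (vec_facts hj).1, e])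
  have hc : big.ncard = 11178 := (mid16_gen refU uRef_spec.2).1
  refine (Set.eq_of_subset_of_ncard_le ?_ ?_ (Set.finite_of_ncard_pos (by rw [hc]; norm_num))).symm
  · rintro _ ⟨i, hi, rfl⟩; exact (vec_facts hi).2.1
  · rw [hc, Set.ncard_image_of_injOn inj, ← Finset.coe_Iio, Set.ncard_coe_finset, Nat.card_Iio]

/-- the stabiliser -/
abbrev Stab : Subgroup ↥Co0 := MulAction.stabilizer ↥Co0 refU ⊓ MulAction.stabilizer ↥Co0 base

theorem mem_stab {g : ↥Co0} : g ∈ Stab ↔ HsFix g := by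
  rw [Subgroup.mem_inf, MulAction.mem_stabilizer_iff, MulAction.mem_stabilizer_iff]
  refine ⟨fun ⟨a, b⟩ => ⟨a, ?_⟩, fun ⟨a, b⟩ => ⟨a, ?_⟩⟩
  · rwa [base, co0_neg, neg_inj] at b
  · rw [base, co0_neg, b]

theorem orbit_root {j : ℕ} (hj : j < 5) :
    MulAction.orbit ↥Stab (vecL (rootAt.getD j 0)) = vecL '' {i | i < 11178 ∧ lab i = j} := by
  obtain ⟨hr, hlr, -, -, -, -, -⟩ := root_facts j hj
  obtain ⟨er, -, -, -⟩ := vec_facts hr
  ext y
  constructor
  · rintro ⟨⟨g, hg⟩, rfl⟩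
    have o : HOrb (root j) ((g • vecL (rootAt.getD j 0) : ↥leechLattice) : Zv) := by
      refine ⟨?_, g, mem_stab.1 hg, ?_⟩
      · have hm := (vecL (rootAt.getD j 0)).2; rw [er] at hm; exact hm
      · exact congrArg (fun v : ↥leechLattice => ((g • v : ↥leechLattice) : Zv)) (Subtype.ext er.symm)
    obtain ⟨-, hn, hu, hd⟩ := horb_facts o
    obtain ⟨-, -, -, r1, r2, r3, -⟩ := root_facts j hj
    have hbig : (g • vecL (rootAt.getD j 0)) ∈ big := ⟨hn.trans r1, hu.trans r2⟩
    rw [big_eq] at hbig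
    obtain ⟨i, hi, e⟩ := hbig
    refine ⟨i, ⟨hi, ?_⟩, e⟩
    obtain ⟨ei, -, hl, oi⟩ := vec_facts hi
    have d1 := (horb_facts oi).2.2.2
    rw [← ei, e, hd] at d1
    obtain ⟨-, -, -, -, -, r3', -⟩ := root_facts _ hl
    rw [root, root, r3, r3'] at d1
    have sep : ∀ a < 5, ∀ b < 5, ([32, 16, 8, 0, -8] : List ℤ).getD a 0 = ([32, 16, 8, 0, -8] : List ℤ).getD b 0 →
        a = b := by decide
    exact (sep j hj _ hl d1).symm
  · rintro ⟨i, ⟨hi, rfl⟩, rfl⟩
    obtain ⟨ei, -, -, hm, g, hg, e⟩ := vec_facts hi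
    refine ⟨⟨g, mem_stab.2 hg⟩, Subtype.ext ?_⟩
    rw [ei, ← e]
    exact congrArg (fun v : ↥leechLattice => ((g • v : ↥leechLattice) : Zv)) (Subtype.ext er)

theorem orbit_card {j : ℕ} (hj : j < 5) :
    (MulAction.orbit ↥Stab (vecL (rootAt.getD j 0))).ncard = ([1, 1100, 5600, 4125, 352] : List ℕ).getD j 0 := by
  have e : {i | i < 11178 ∧ lab i = j} = ↑((List.range 11178).filter fun i => Nat.beq (lab i) j).toFinset := by
    ext i
    simp only [List.coe_toFinset, List.mem_filter, List.mem_range, Set.mem_ofPred_eq]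
    exact ⟨fun h => ⟨h.1, by rw [h.2]; exact Nat.beq_refl j⟩, fun h => ⟨h.1, Nat.eq_of_beq_eq_true h.2⟩⟩
  rw [orbit_root hj, Set.ncard_image_of_injOn (fun a ha b hb h => vec_inj ha.1 hb.1
    (by rw [← (vec_facts ha.1).1, ← (vec_facts hb.1).1, h])), e, Set.ncard_coe_finset,
    List.toFinset_card_of_nodup (List.nodup_range.filter _)]
  have := congrArg (fun l : List ℕ => l.getD j 0) class_counts
  rw [← this, List.getD_eq_getElem _ _ (by simpa using hj), List.getElem_map]
  interval_cases j <;> rfl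

theorem base_root : vecL (rootAt.getD 0 0) = base := by
  obtain ⟨h1, -, -, -, -, -, h⟩ := root_facts 0 (by norm_num)
  exact Subtype.ext ((vec_facts h1).1.trans (funext (h rfl)))

theorem rank_five : ∃ y₁ ∈ big, ∃ y₂ ∈ big, ∃ y₃ ∈ big, ∃ y₄ ∈ big,
    (MulAction.orbit ↥Stab y₁).ncard = 352 ∧ (MulAction.orbit ↥Stab y₂).ncard = 1100 ∧
    (MulAction.orbit ↥Stab y₃).ncard = 4125 ∧ (MulAction.orbit ↥Stab y₄).ncard = 5600 ∧
    big = {base} ∪ MulAction.orbit ↥Stab y₁ ∪ MulAction.orbit ↥Stab y₂ ∪ MulAction.orbit ↥Stab y₃ ∪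
      MulAction.orbit ↥Stab y₄ := by
  have mem : ∀ j < 5, vecL (rootAt.getD j 0) ∈ big := fun j hj => (vec_facts (root_facts j hj).1).2.1
  refine ⟨_, mem 4 (by norm_num), _, mem 1 (by norm_num), _, mem 3 (by norm_num), _, mem 2 (by norm_num),
    orbit_card (by norm_num), orbit_card (by norm_num), orbit_card (by norm_num), orbit_card (by norm_num), ?_⟩
  apply Set.Subset.antisymm
  · intro y hy
    rw [big_eq] at hy
    obtain ⟨i, hi, rfl⟩ := hy
    obtain ⟨-, -, hl, -⟩ := vec_facts hi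
    have m : vecL i ∈ MulAction.orbit ↥Stab (vecL (rootAt.getD (lab i) 0)) := by
      rw [orbit_root hl]; exact ⟨i, ⟨hi, rfl⟩, rfl⟩
    simp only [Set.mem_union, Set.mem_singleton_iff]
    rcases (show lab i = 0 ∨ lab i = 1 ∨ lab i = 2 ∨ lab i = 3 ∨ lab i = 4 by omega) with h | h | h | h | h <;>
      rw [h] at m
    · have one : ∀ z ∈ MulAction.orbit ↥Stab base, z = base := by
        rintro _ ⟨g, rfl⟩; exact (Subgroup.mem_inf.1 g.2).2
      rw [base_root] at m
      exact Or.inl (Or.inl (Or.inl (Or.inl (one _ m))))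
    all_goals tauto
  · intro y hy
    simp only [Set.mem_union, Set.mem_singleton_iff] at hy
    have sub : ∀ j < 5, MulAction.orbit ↥Stab (vecL (rootAt.getD j 0)) ⊆ big := fun j hj => by
      rw [orbit_root hj]; rintro _ ⟨i, hi, rfl⟩; exact (vec_facts hi.1).2.1
    rcases hy with (((h | h) | h) | h) | h
    · rw [h, ← base_root]; exact mem 0 (by norm_num)
    · exact sub 4 (by norm_num) h
    · exact sub 1 (by norm_num) h
    · exact sub 3 (by norm_num) h
    · exact sub 2 (by norm_num) h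

theorem rank_five_gen (u x : ↥leechLattice) (hu : sqNorm (u : Zv) = 48)
    (hx : x ∈ {x : ↥leechLattice | sqNorm (x : Zv) = 32 ∧ dotInt (u : Zv) (x : Zv) = -16}) :
    ∃ k : ↥Co0, k • u = refU ∧ k • x = base := by
  obtain ⟨_, k, hk⟩ := (orb_mid u.2 hu).symm.trans (orb_mid uRef_spec.1 uRef_spec.2)
  have hku : k • u = refU := Subtype.ext hk
  obtain ⟨-, htr⟩ := mid16_gen refU uRef_spec.2
  have hb : base ∈ big := base_root ▸ (vec_facts (root_facts 0 (by norm_num)).1).2.1
  have hkx : sqNorm ((k • x : ↥leechLattice) : Zv) = 32 ∧ dotInt uRef ((k • x : ↥leechLattice) : Zv) = -16 := by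
    refine ⟨(k.2.2 _).trans hx.1, ?_⟩
    have := co0_dot k u x
    rw [hku] at this
    exact this.trans hx.2
  obtain ⟨g, hg, hg'⟩ := htr _ hkx _ hb
  exact ⟨g * k, by rw [mul_smul, hku, hg], by rw [mul_smul, hg']⟩

theorem transfer {u x : ↥leechLattice} {k : ↥Co0} (hu : k • u = refU) (hx : k • x = base) (y : ↥leechLattice) :
    MulAction.orbit ↥(MulAction.stabilizer ↥Co0 u ⊓ MulAction.stabilizer ↥Co0 x) (k⁻¹ • y) =
      (fun z => k⁻¹ • z) '' MulAction.orbit ↥Stab y := by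
  ext z
  constructor
  · rintro ⟨⟨g, hg⟩, rfl⟩
    refine ⟨(k * g * k⁻¹) • y, ⟨⟨k * g * k⁻¹, ?_⟩, rfl⟩, ?_⟩
    · obtain ⟨a, b⟩ := Subgroup.mem_inf.1 hg
      refine Subgroup.mem_inf.2 ⟨?_, ?_⟩ <;> rw [MulAction.mem_stabilizer_iff] at *
      · rw [mul_smul, mul_smul, ← hu, inv_smul_smul, a]
      · rw [mul_smul, mul_smul, ← hx, inv_smul_smul, b]
    · show k⁻¹ • (k * g * k⁻¹) • y = g • k⁻¹ • y
      rw [mul_smul, mul_smul, inv_smul_smul]
  · rintro ⟨_, ⟨⟨g, hg⟩, rfl⟩, rfl⟩
    refine ⟨⟨k⁻¹ * g * k, ?_⟩, ?_⟩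
    · obtain ⟨a, b⟩ := Subgroup.mem_inf.1 hg
      refine Subgroup.mem_inf.2 ⟨?_, ?_⟩ <;> rw [MulAction.mem_stabilizer_iff] at *
      · rw [mul_smul, mul_smul, hu, a, ← hu, inv_smul_smul]
      · rw [mul_smul, mul_smul, hx, b, ← hx, inv_smul_smul]
    · show (k⁻¹ * g * k) • k⁻¹ • y = k⁻¹ • g • y
      rw [mul_smul, mul_smul, smul_inv_smul]

theorem rank_five_all (u x : ↥leechLattice) (hu : sqNorm (u : Zv) = 48)
    (hx : x ∈ {x : ↥leechLattice | sqNorm (x : Zv) = 32 ∧ dotInt (u : Zv) (x : Zv) = -16}) :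
    let S := {x : ↥leechLattice | sqNorm (x : Zv) = 32 ∧ dotInt (u : Zv) (x : Zv) = -16}
    let H := MulAction.stabilizer ↥Co0 u ⊓ MulAction.stabilizer ↥Co0 x
    ∃ y₁ ∈ S, ∃ y₂ ∈ S, ∃ y₃ ∈ S, ∃ y₄ ∈ S, (MulAction.orbit ↥H y₁).ncard = 352 ∧
      (MulAction.orbit ↥H y₂).ncard = 1100 ∧ (MulAction.orbit ↥H y₃).ncard = 4125 ∧
      (MulAction.orbit ↥H y₄).ncard = 5600 ∧
      S = {x} ∪ MulAction.orbit ↥H y₁ ∪ MulAction.orbit ↥H y₂ ∪ MulAction.orbit ↥H y₃ ∪ MulAction.orbit ↥H y₄ := by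
  intro S H
  obtain ⟨k, hk, hkx⟩ := rank_five_gen u x hu hx
  obtain ⟨a, ha, b, hb, c, hc, d, hd, n1, n2, n3, n4, cov⟩ := rank_five
  have hS : ∀ z : ↥leechLattice, z ∈ S ↔ k • z ∈ big := fun z => by
    have d' := co0_dot k u z
    rw [hk] at d'
    exact ⟨fun h => ⟨(k.2.2 z).trans h.1, d'.trans h.2⟩, fun h => ⟨(k.2.2 z).symm.trans h.1, d'.symm.trans h.2⟩⟩
  have card : ∀ y, (MulAction.orbit ↥H (k⁻¹ • y)).ncard = (MulAction.orbit ↥Stab y).ncard := fun y => by
    rw [transfer hk hkx, Set.ncard_image_of_injective _ (MulAction.injective _)]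
  have mem : ∀ {y}, y ∈ big → k⁻¹ • y ∈ S := fun {y} hy => (hS _).2 (by rwa [smul_inv_smul])
  refine ⟨_, mem ha, _, mem hb, _, mem hc, _, mem hd, (card a).trans n1, (card b).trans n2, (card c).trans n3,
    (card d).trans n4, ?_⟩
  rw [transfer hk hkx, transfer hk hkx, transfer hk hkx, transfer hk hkx]
  ext z
  rw [hS, cov]
  have im : ∀ A : Set ↥leechLattice, z ∈ (fun w => k⁻¹ • w) '' A ↔ k • z ∈ A := fun A =>
    ⟨fun ⟨w, hw, e⟩ => by rw [← e, smul_inv_smul]; exact hw, fun h => ⟨_, h, inv_smul_smul k z⟩⟩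
  simp only [Set.mem_union, Set.mem_singleton_iff, im, ← hkx, smul_left_cancel_iff]

end HsRank

end Cfsg.Agent.Spor
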