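import Cfsg.Agent.Lib.Spor.SpFourPoints
import Cfsg.Agent.Lib.Spor.Fi22U62Data
import Cfsg.Agent.Lib.Small.Unitary.Simple
import Cfsg.Agent.Lib.Classical.UnitaryOrders
import Cfsg.Agent.S0280

/-!
The action of the six-dimensional special unitary group over the field with four elements on its
693 isotropic points.
-/

set_option autoImplicit false
set_option maxRecDepth 100000

namespace Cfsg.Agent.Spor.SpFour.F4

/-- the involutory automorphism -/
instance : StarRing F4 where
  star x := x * x
  star_involutive := fun x => by cases x <;> rfl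
  star_mul := by decide +kernel
  star_add := by decide +kernel

theorem star_eq_pow : ∀ x : F4, star x = x ^ 2 := by decide +kernel

theorem card_sq : Fintype.card F4 = 2 ^ 2 := F4.card

end Cfsg.Agent.Spor.SpFour.F4

namespace Cfsg.Agent.Spor.SUSix

open Cfsg.Agent.Spor.CC Cfsg.Agent.Spor.SpFour Matrix
open Cfsg.Agent.Spor.Fi22Cert.U62Act (ptTab idxTab)

/-- column vectors -/
abbrev V6 : Type := Fin 6 → F4

/-- the group -/
abbrev G6 : Type := Cfsg.SU 6 F4 2

/-- number of a vector -/
def code (f : V6) : ℕ :=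
  F4.toN (f 0) + 4 * F4.toN (f 1) + 16 * F4.toN (f 2) + 64 * F4.toN (f 3) + 256 * F4.toN (f 4) +
    1024 * F4.toN (f 5)

/-- vector with a number -/
def vecOf (k : ℕ) : V6 :=
  ![F4.ofN (k % 4), F4.ofN (k / 4 % 4), F4.ofN (k / 16 % 4), F4.ofN (k / 64 % 4),
    F4.ofN (k / 256 % 4), F4.ofN (k / 1024)]

theorem code_lt (f : V6) : code f < 4096 := by
  have h : ∀ x : F4, F4.toN x < 4 := by decide +kernel
  have := h (f 0); have := h (f 1); have := h (f 2); have := h (f 3); have := h (f 4); have := h (f 5)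
  unfold code; omega

theorem digit : ∀ x : F4, F4.ofN x.toN = x := by decide +kernel

theorem vecOf_code (f : V6) : vecOf (code f) = f := by
  have h : ∀ x : F4, F4.toN x < 4 := by decide +kernel
  have := h (f 0); have := h (f 1); have := h (f 2); have := h (f 3); have := h (f 4); have := h (f 5)
  funext s
  fin_cases s
  · show F4.ofN (code f % 4) = f 0
    rw [show code f % 4 = (f 0).toN by unfold code; omega, digit]
  · show F4.ofN (code f / 4 % 4) = f 1
    rw [show code f / 4 % 4 = (f 1).toN by unfold code; omega, digit]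
  · show F4.ofN (code f / 16 % 4) = f 2
    rw [show code f / 16 % 4 = (f 2).toN by unfold code; omega, digit]
  · show F4.ofN (code f / 64 % 4) = f 3
    rw [show code f / 64 % 4 = (f 3).toN by unfold code; omega, digit]
  · show F4.ofN (code f / 256 % 4) = f 4
    rw [show code f / 256 % 4 = (f 4).toN by unfold code; omega, digit]
  · show F4.ofN (code f / 1024) = f 5
    rw [show code f / 1024 = (f 5).toN by unfold code; omega, digit]

/-- the vector of a point -/
def pt (i : ℕ) : ℕ := fld ptTab 16 i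
/-- the point of a vector -/
def idx (k : ℕ) : ℕ := fld idxTab 16 k

/-- scalar multiple of a numbered vector -/
def smulN (c : F4) (k : ℕ) : ℕ := code (c • vecOf k)

/-- isotropy of a numbered vector -/
def isoN (k : ℕ) : Bool := decide (Small.Unitary.herm (vecOf k) (vecOf k) = 0)

/-- one vector of the point check -/
def vecOK (k : ℕ) : Bool :=
  ([F4.i, F4.w, F4.v].all fun c => Nat.beq (idx (smulN c k)) (idx k)) &&
    (Nat.beq k 0 || !isoN k ||
      (Nat.blt (idx k) 693 && [F4.i, F4.w, F4.v].any fun c => Nat.beq k (smulN c (pt (idx k)))))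

theorem vec0 : rangeOK vecOK 0 1024 = true := by decide +kernel
theorem vec1 : rangeOK vecOK 1024 1024 = true := by decide +kernel
theorem vec2 : rangeOK vecOK 2048 1024 = true := by decide +kernel
theorem vec3 : rangeOK vecOK 3072 1024 = true := by decide +kernel

theorem vec_ok (f : V6) : vecOK (code f) = true := by
  have h := code_lt f
  by_cases h1 : code f < 1024
  · exact all_range (p := vecOK) vec0 (Nat.zero_le _) (by omega)
  by_cases h2 : code f < 2048
  · exact all_range (p := vecOK) vec1 (by omega) (by omega)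
  by_cases h3 : code f < 3072
  · exact all_range (p := vecOK) vec2 (by omega) (by omega)
  exact all_range (p := vecOK) vec3 (by omega) (by omega)

/-- one point of the point check -/
def ptOK (i : ℕ) : Bool :=
  Nat.beq (idx (pt i)) i && Nat.blt (pt i) 4096 && !Nat.beq (pt i) 0 && isoN (pt i) &&
    Nat.beq (code (vecOf (pt i))) (pt i)

theorem pts_ok : rangeOK ptOK 0 693 = true := by decide +kernel

theorem pt_spec {i : ℕ} (hi : i < 693) : idx (code (vecOf (pt i))) = i ∧ vecOf (pt i) ≠ 0 ∧
    Small.Unitary.herm (vecOf (pt i)) (vecOf (pt i)) = 0 := by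
  have h := all_range (p := ptOK) pts_ok (u := i) (Nat.zero_le _) (by omega)
  simp only [ptOK, isoN, Bool.and_eq_true, Bool.not_eq_true', decide_eq_true_eq] at h
  obtain ⟨⟨⟨⟨h1, -⟩, h3⟩, h4⟩, h5⟩ := h
  have h5' := Nat.eq_of_beq_eq_true h5
  refine ⟨by rw [h5']; exact Nat.eq_of_beq_eq_true h1, fun e => ?_, h4⟩
  rw [e] at h5'
  rw [← h5'] at h3
  exact absurd h3 (by decide +kernel)

theorem idx_smul (c : F4) (hc : c ≠ 0) (f : V6) : idx (code (c • f)) = idx (code f) := by
  have h := vec_ok f
  simp only [vecOK, Bool.and_eq_true, List.all_eq_true] at h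
  have hmem : c ∈ [F4.i, F4.w, F4.v] := by revert hc; cases c <;> decide
  have := Nat.eq_of_beq_eq_true (h.1 c hmem)
  rwa [smulN, vecOf_code] at this

theorem exists_pt (f : V6) (hf : f ≠ 0) (hiso : Small.Unitary.herm f f = 0) :
    idx (code f) < 693 ∧ ∃ c : F4, c ≠ 0 ∧ f = c • vecOf (pt (idx (code f))) := by
  have h := vec_ok f
  simp only [vecOK, Bool.and_eq_true, Bool.or_eq_true, Bool.not_eq_true', List.any_eq_true] at h
  rcases h.2 with (h0 | h0) | ⟨hlt, c, hc, he⟩
  · exfalso
    apply hf
    rw [← vecOf_code f, Nat.eq_of_beq_eq_true h0]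
    funext s
    fin_cases s <;> rfl
  · exfalso
    have : isoN (code f) = true := by rw [isoN, vecOf_code, decide_eq_true_eq]; exact hiso
    rw [this] at h0
    exact Bool.noConfusion h0
  · refine ⟨Nat.le_of_ble_eq_true hlt, c, ?_, ?_⟩
    · revert hc; cases c <;> decide
    · have e := congrArg vecOf (Nat.eq_of_beq_eq_true he)
      rwa [smulN, vecOf_code, vecOf_code] at e

/-- image of a point under a matrix -/
def actN (A : Matrix (Fin 6) (Fin 6) F4) (i : ℕ) : ℕ := idx (code (A *ᵥ vecOf (pt i)))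

theorem img_ok (A : G6) {i : ℕ} (hi : i < 693) :
    A.1.1 *ᵥ vecOf (pt i) ≠ 0 ∧
      Small.Unitary.herm (A.1.1 *ᵥ vecOf (pt i)) (A.1.1 *ᵥ vecOf (pt i)) = 0 := by
  obtain ⟨-, hne, hiso⟩ := pt_spec hi
  refine ⟨fun e => hne (Small.Unitary.act_injective A ?_), ?_⟩
  · show A.1.1 *ᵥ _ = A.1.1 *ᵥ _
    rw [e, Matrix.mulVec_zero]
  · exact (Small.Unitary.herm_act F4.star_eq_pow A _ _).trans hiso

theorem actN_lt (A : G6) {i : ℕ} (hi : i < 693) : actN A.1.1 i < 693 :=
  (exists_pt _ (img_ok A hi).1 (img_ok A hi).2).1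

instance : MulAction G6 (Fin 693) where
  smul A i := ⟨actN A.1.1 i, actN_lt A i.2⟩
  one_smul i := Fin.ext (show actN (1 : G6).1.1 i = i by
    rw [actN, show (1 : G6).1.1 = (1 : Matrix (Fin 6) (Fin 6) F4) from rfl, Matrix.one_mulVec]
    exact (pt_spec i.2).1)
  mul_smul A B i := Fin.ext (by
    show actN (A * B : G6).1.1 i = actN A.1.1 (actN B.1.1 i)
    obtain ⟨-, c, hc, he⟩ := exists_pt _ (img_ok B i.2).1 (img_ok B i.2).2
    unfold actN
    rw [show (A * B : G6).1.1 = A.1.1 * B.1.1 from rfl, ← Matrix.mulVec_mulVec]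
    conv_lhs => rw [he]
    rw [Matrix.mulVec_smul, idx_smul c hc])

/-- the action as a homomorphism -/
def uperm : G6 →* Equiv.Perm (Fin 693) := MulAction.toPermHom G6 (Fin 693)

theorem uperm_val (A : G6) (i : Fin 693) : (uperm A i : ℕ) = actN A.1.1 i := rfl

theorem ker_le_center : uperm.ker ≤ Subgroup.center G6 := by
  intro A hA
  refine Small.Unitary.mem_center_of_fixes_lines F4.star_eq_pow F4.card_sq (by norm_num)
    fun f hf hiso => ?_
  obtain ⟨hlt, c, -, he⟩ := exists_pt f hf hiso
  obtain ⟨-, d, -, he'⟩ := exists_pt _ (img_ok A hlt).1 (img_ok A hlt).2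
  have hfix : idx (code (A.1.1 *ᵥ vecOf (pt (idx (code f))))) = idx (code f) :=
    congrArg (fun σ : Equiv.Perm (Fin 693) => ((σ ⟨_, hlt⟩ : Fin 693) : ℕ)) (MonoidHom.mem_ker.mp hA)
  rw [hfix] at he'
  refine ⟨d, ?_⟩
  generalize vecOf (pt (idx (code f))) = b at he he'
  subst he
  rw [Small.Unitary.act_smul]
  show c • (A.1.1 *ᵥ b) = _
  rw [he', smul_comm]

/-- scalar matrix -/
def scal (c : F4) : Matrix (Fin 6) (Fin 6) F4 := Matrix.diagonal fun _ => c

theorem scal_unitary : ∀ c : F4, c ≠ 0 → (scal c)ᴴ * scal c = 1 := by decide +kernel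

theorem scal_det (c : F4) (hc : c ≠ 0) : (scal c).det = 1 := by
  rw [scal, Matrix.det_diagonal, Finset.prod_const, Finset.card_univ, Fintype.card_fin]
  revert hc; revert c
  decide +kernel

/-- the scalar elements -/
def scalSU (c : F4) (hc : c ≠ 0) : G6 :=
  Small.Unitary.mkSU F4.star_eq_pow (scal c) (scal_unitary c hc) (scal_det c hc)

theorem scalSU_mem_ker (c : F4) (hc : c ≠ 0) : scalSU c hc ∈ uperm.ker := by
  rw [MonoidHom.mem_ker]
  refine Equiv.ext fun i => Fin.ext ?_
  show actN (scal c) i = i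
  have : scal c *ᵥ vecOf (pt i) = c • vecOf (pt i) := by
    funext k
    rw [scal, Matrix.mulVec_diagonal]
    rfl
  rw [actN, this, idx_smul c hc]
  exact (pt_spec i.2).1

theorem card_center : Nat.card (Subgroup.center G6) = 3 := by
  obtain ⟨p, e, σ, -, -, -, -, hσ⟩ := Cfsg.Agent.Classical.exists_usigma F4.card_sq
  rw [Cfsg.Agent.Classical.UCount.card_center_SU hσ (by norm_num : 2 ≤ 6)]
  rfl

theorem ker_eq : uperm.ker = Subgroup.center G6 := by
  refine Subgroup.eq_of_le_of_card_ge ker_le_center ?_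
  rw [card_center]
  let f : Fin 3 → uperm.ker := fun k =>
    ⟨scalSU (![F4.i, F4.w, F4.v] k) (by fin_cases k <;> decide), scalSU_mem_ker _ _⟩
  have hf : Function.Injective f := by
    intro a b e
    have h : scal (![F4.i, F4.w, F4.v] a) = scal (![F4.i, F4.w, F4.v] b) :=
      congrArg (fun x : uperm.ker => x.1.1.1) e
    have h0 := congrFun (congrFun h 0) 0
    rw [scal, scal, Matrix.diagonal_apply_eq, Matrix.diagonal_apply_eq] at h0
    revert h0; revert a b
    decide +kernel
  simpa using Nat.card_le_card_of_injective f hf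

theorem range_equiv : Nonempty (uperm.range ≃* Cfsg.PSU 6 F4 2) :=
  ⟨((QuotientGroup.quotientMulEquivOfEq ker_eq.symm).trans
    (QuotientGroup.quotientKerEquivRange uperm)).symm⟩

theorem card_range : Nat.card uperm.range = 9196830720 := by
  obtain ⟨e⟩ := range_equiv
  rw [Nat.card_congr e.toEquiv]
  have h := Cfsg.Agent.S0280.result F4.card_sq 6 (by norm_num)
  simp only [Finset.prod_range_succ, Finset.prod_range_zero] at h
  norm_num at h
  omega

theorem simple_range : IsSimpleGroup uperm.range := by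
  obtain ⟨e⟩ := range_equiv
  haveI := Cfsg.Agent.Small.Unitary.psu_simple F4.star_eq_pow F4.card_sq (n := 6)
    (by norm_num) (by omega)
  exact e.symm.isSimpleGroup_congr.mp inferInstance

/-- entry of a packed matrix -/
def matOf (k : ℕ) : Matrix (Fin 6) (Fin 6) F4 :=
  Matrix.of fun r c => F4.ofN (k >>> (2 * (6 * r.val + c.val)) % 4)

theorem det_of_sq {M : Matrix (Fin 6) (Fin 6) F4} (h : M * M = 1) : M.det = 1 := by
  have h1 : M.det * M.det = 1 := by rw [← Matrix.det_mul, h, Matrix.det_one]
  revert h1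
  generalize M.det = x
  revert x
  decide +kernel

end Cfsg.Agent.Spor.SUSix
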