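import Cfsg.Agent.Lib.Lead.GroupMisc
import Cfsg.Agent.Lib.Fusion.BrauerFowlerTools
import Cfsg.Agent.Lib.Lie.DegreeTwoModFour

/-!
Automorphisms of a power of a simple group permute the coordinates; small centralizers of involutions.
-/

set_option autoImplicit false

namespace Cfsg.Agent.Spor.Large

/-- an automorphism of a power of a simple group permutes the factors -/
theorem auto_perm {T : Type*} [Group T] [IsSimpleGroup T] (hT : ¬ IsMulCommutative T) {m : ℕ}
    (φ : (Fin m → T) ≃* (Fin m → T)) :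
    ∃ σ : Fin m → Fin m, Function.Bijective σ ∧
      (∀ (i : Fin m) (a : T) (j : Fin m), j ≠ σ i → φ (Pi.mulSingle i a) j = 1) ∧
      ∀ (x : Fin m → T) (i : Fin m), φ x (σ i) = φ (Pi.mulSingle i (x i)) (σ i) := by
  classical
  haveI : Nontrivial T := IsSimpleGroup.toNontrivial
  obtain ⟨t, ht⟩ := exists_ne (1 : T)
  let E : Fin m → Subgroup (Fin m → T) := fun i => (MonoidHom.mulSingle (fun _ : Fin m => T) i).range
  have hEn : ∀ i, (E i).Normal := fun i => ⟨by
    rintro _ ⟨a, rfl⟩ g
    refine ⟨g i * a * (g i)⁻¹, funext fun j => ?_⟩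
    rcases eq_or_ne j i with rfl | hj <;> simp [*]⟩
  have hN : ∀ i, ((E i).map φ.toMonoidHom).Normal := fun i => (hEn i).map _ φ.surjective
  have hS : ∀ i, ∃ S : Finset (Fin m), ∀ x : Fin m → T, x ∈ (E i).map φ.toMonoidHom ↔ ∀ j, j ∉ S → x j = 1 :=
    fun i => by haveI := hN i; exact Lead.GroupMisc.normal_pi hT m _
  choose S hS using hS
  have hne : ∀ i, (S i).Nonempty := by
    intro i
    by_contra h
    rw [Finset.not_nonempty_iff_eq_empty] at h
    have h1 : φ (Pi.mulSingle i t) = 1 := funext fun j =>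
      (hS i _).1 ⟨_, ⟨t, rfl⟩, rfl⟩ j (by rw [h]; simp)
    rw [MulEquiv.map_eq_one_iff, Pi.mulSingle_eq_one_iff] at h1
    exact ht h1
  have hdisj : ∀ i j k, k ∈ S i → k ∈ S j → i = j := by
    intro i j k hi hj
    by_contra hij
    have h : ∀ l, k ∈ S l → (Pi.mulSingle k t : Fin m → T) ∈ (E l).map φ.toMonoidHom := fun l hl =>
      (hS l _).2 fun j' hj' => Pi.mulSingle_eq_of_ne (by rintro rfl; exact hj' hl) _
    obtain ⟨_, ⟨a, rfl⟩, ea⟩ := h i hi
    obtain ⟨_, ⟨b, rfl⟩, eb⟩ := h j hj
    have e : (Pi.mulSingle i a : Fin m → T) = Pi.mulSingle j b := φ.injective (ea.trans eb.symm)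
    have e' := congrFun e i
    rw [Pi.mulSingle_eq_same, Pi.mulSingle_eq_of_ne hij] at e'
    have e'' : φ (Pi.mulSingle i a) = 1 := by rw [e', Pi.mulSingle_one, map_one]
    have e3 : (Pi.mulSingle k t : Fin m → T) = 1 := ea.symm.trans e''
    exact ht (by simpa using congrFun e3 k)
  choose σ hσ using hne
  have hinj : Function.Injective σ := fun i j h => hdisj i j (σ i) (hσ i) (h ▸ hσ j)
  have hbij : Function.Bijective σ := Finite.injective_iff_bijective.1 hinj
  have key : ∀ (i : Fin m) (a : T) (j : Fin m), j ≠ σ i → φ (Pi.mulSingle i a) j = 1 := by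
    intro i a j hj
    refine (hS i _).1 ⟨_, ⟨a, rfl⟩, rfl⟩ j fun hmem => ?_
    obtain ⟨i', rfl⟩ := hbij.2 j
    exact hj (congrArg σ (hdisj i i' _ hmem (hσ i')).symm)
  refine ⟨σ, hbij, key, fun x i => ?_⟩
  let K : Subgroup (Fin m → T) := ((Pi.evalMonoidHom (fun _ : Fin m => T) (σ i)).comp φ.toMonoidHom).ker
  have hrest : ∀ y : Fin m → T, y i = 1 → y ∈ K := fun y hy => by
    rw [← Finset.noncommProd_mulSingle y]
    refine Subgroup.noncommProd_mem _ _ fun j _ => ?_
    rcases eq_or_ne j i with rfl | hj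
    · rw [hy, Pi.mulSingle_one]; exact one_mem _
    · exact key j (y j) (σ i) fun h => hj (hinj h).symm
  have h1 : φ ((Pi.mulSingle i (x i))⁻¹ * x) (σ i) = 1 := hrest _ (by simp)
  rw [map_mul, map_inv, Pi.mul_apply, Pi.inv_apply, inv_mul_eq_one] at h1
  exact h1.symm

/-- an involution centralizer in a simple group has order at least four -/
theorem four_le_of_simple {T : Type*} [Group T] [Finite T] [IsSimpleGroup T] (hT : ¬ IsMulCommutative T)
    {t : T} (ht : orderOf t = 2) : 4 ≤ Nat.card (Subgroup.centralizer ({t} : Set T)) := by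
  haveI : Fact (Nat.Prime 2) := ⟨Nat.prime_two⟩
  obtain ⟨S, hS⟩ := (IsPGroup.of_card (n := 1) (by rw [Nat.card_zpowers, ht, pow_one]) :
    IsPGroup 2 (Subgroup.zpowers t)).exists_le_sylow
  have h4 : 4 ∣ Nat.card T := by
    by_contra h4
    obtain ⟨N, hN, hodd, hidx, -⟩ := Lie.exists_odd_index_le_two h4
    rcases (by have := N.index_ne_zero_of_finite; omega : N.index = 1 ∨ N.index = 2) with h | h
    · rw [Subgroup.index_eq_one.1 h, Subgroup.card_top] at hodd
      exact hodd (ht ▸ orderOf_dvd_natCard t)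
    · exact Fusion.no_index_two_of_simple hT N h
  have h4S : 4 ∣ Nat.card (S : Subgroup T) := S.pow_dvd_card_of_pow_dvd_card (n := 2) (by simpa using h4)
  by_contra hlt
  have htS : t ∈ (S : Subgroup T) := hS (Subgroup.mem_zpowers t)
  haveI : Nontrivial (S : Subgroup T) := ⟨⟨⟨t, htS⟩, 1, fun h => by
    have e : t = 1 := congrArg Subtype.val h
    rw [e, orderOf_one] at ht; omega⟩⟩
  haveI := (S.isPGroup' : IsPGroup 2 (S : Subgroup T)).center_nontrivial
  obtain ⟨w, hw⟩ := exists_ne (1 : Subgroup.center (S : Subgroup T))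
  have hwt : ((w : (S : Subgroup T)) : T) ∈ Subgroup.centralizer ({t} : Set T) :=
    Subgroup.mem_centralizer_singleton_iff.2 (congrArg Subtype.val (Subgroup.mem_center_iff.1 w.2 ⟨t, htS⟩)).symm
  have htt : t ∈ Subgroup.centralizer ({t} : Set T) := Subgroup.mem_centralizer_singleton_iff.2 rfl
  have hw' : ((w : (S : Subgroup T)) : T) ≠ 1 := fun e => hw (Subtype.ext (Subtype.ext e))
  by_cases hwe : ((w : (S : Subgroup T)) : T) = t
  · -- the whole Sylow subgroup centralizes `t`
    have hle : (S : Subgroup T) ≤ Subgroup.centralizer ({t} : Set T) := fun s hs =>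
      Subgroup.mem_centralizer_singleton_iff.2 (by
        have h : s * ((w : (S : Subgroup T)) : T) = ((w : (S : Subgroup T)) : T) * s :=
          congrArg Subtype.val (Subgroup.mem_center_iff.1 w.2 ⟨s, hs⟩)
        rwa [hwe] at h)
    exact hlt (le_trans (Nat.le_of_dvd Nat.card_pos h4S)
      (Nat.card_le_card_of_injective _ (Subgroup.inclusion_injective hle)))
  · -- three elements inside
    have h2 : 2 ∣ Nat.card (Subgroup.centralizer ({t} : Set T)) :=
      ht ▸ Subgroup.orderOf_dvd_natCard _ htt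
    obtain ⟨u, v, -, huniv⟩ := Nat.card_eq_two_iff.1 (by
      obtain ⟨k, hk⟩ := h2
      have := Nat.card_pos (α := Subgroup.centralizer ({t} : Set T))
      omega : Nat.card (Subgroup.centralizer ({t} : Set T)) = 2)
    have mem : ∀ a : Subgroup.centralizer ({t} : Set T), a = u ∨ a = v := fun a => by
      have : a ∈ ({u, v} : Set _) := huniv ▸ Set.mem_univ a
      simpa using this
    have ht1 : t ≠ 1 := fun e => by rw [e, orderOf_one] at ht; omega
    rcases mem 1 with a | a <;> rcases mem ⟨t, htt⟩ with b | b <;> rcases mem ⟨_, hwt⟩ with c | c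
    all_goals first
      | exact ht1 (congrArg Subtype.val (b.trans a.symm))
      | exact hw' (congrArg Subtype.val (c.trans a.symm))
      | exact hwe (congrArg Subtype.val (c.trans b.symm))

end Cfsg.Agent.Spor.Large
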