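import Cfsg.Agent.Lib.Solv.Component

/-!
The generalized Fitting subgroup of a group with a simple normal subgroup having trivial centralizer.
-/

set_option autoImplicit false
set_option linter.unusedSectionVars false

namespace Cfsg.Agent.Spor.M24Rel.Pair

open scoped commutatorElement

theorem gfit_eq {X : Type*} [Group X] [Finite X] (N : Subgroup X) [N.Normal] (hs : IsSimpleGroup N)
    (hp : ¬ (Nat.card N).Prime) (hc : Subgroup.centralizer (N : Set X) = ⊥) :
    Cfsg.generalizedFittingSubgroup X = N := by
  haveI := hs
  have hne : N ≠ ⊥ := by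
    rintro rfl
    exact not_subsingleton (⊥ : Subgroup X) inferInstance
  have hnc : ¬ ∀ a b : N, a * b = b * a := fun h => by
    letI : CommGroup N := { (inferInstance : Group N) with mul_comm := h }
    exact hp IsSimpleGroup.prime_card
  have hperf : ⁅N, N⁆ = N := by
    refine le_antisymm (Subgroup.commutator_le_self _) ?_
    haveI : (⁅N, N⁆.subgroupOf N).Normal := Subgroup.normal_subgroupOf
    rcases (inferInstance : (⁅N, N⁆.subgroupOf N).Normal).eq_bot_or_eq_top with h | h
    · refine absurd (fun a b : N => ?_) hnc
      have : ⁅(a : X), (b : X)⁆ ∈ ⁅N, N⁆ := Subgroup.commutator_mem_commutator a.2 b.2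
      have hm : (⟨⁅(a : X), (b : X)⁆, Subgroup.commutator_le_self N this⟩ : N) ∈ ⁅N, N⁆.subgroupOf N := this
      rw [h, Subgroup.mem_bot] at hm
      exact Subtype.ext (commutatorElement_eq_one_iff_mul_comm.mp (congrArg Subtype.val hm))
    · exact Subgroup.subgroupOf_eq_top.mp h
  have hN : Cfsg.IsComponent N := Solv.isComponent_of_minimal (Subgroup.Normal.isSubnormal inferInstance) hne hperf
    fun M hM hMt => by
      rcases hM.eq_bot_or_eq_top with h | h
      · rw [h]; exact bot_le
      · exact absurd h hMt
  refine le_antisymm (sup_le (sSup_le fun C hC => ?_) ?_) (le_sup_of_le_left (Solv.component_le_layer hN))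
  · by_contra hle
    have h1 : ⁅C, N⁆ = ⊥ := (Solv.component_normal_dichotomy hC N).resolve_left hle
    rw [Subgroup.commutator_eq_bot_iff_le_centralizer, hc, le_bot_iff] at h1
    exact Solv.qs_ne_bot hC.2 h1
  · refine le_trans ?_ (bot_le : (⊥ : Subgroup X) ≤ N)
    rw [← hc, ← Subgroup.commutator_eq_bot_iff_le_centralizer, Subgroup.commutator_comm]
    haveI := Solv.fittingSubgroup_nilpotent (G := X)
    exact Solv.component_commutes_solvable hN Solv.fittingSubgroup_normal.isSubnormal inferInstance

end Cfsg.Agent.Spor.M24Rel.Pair
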