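import Cfsg.Agent.Lib.Spor.Fi22IdxO7Steps0
import Cfsg.Agent.Lib.Spor.Fi22IdxO7Steps1
import Cfsg.Agent.Lib.Spor.Fi22IdxO7Steps2
import Cfsg.Agent.Lib.Spor.Fi22IdxO7Steps3
import Cfsg.Agent.Lib.Spor.Fi22IdxO7Steps4
import Cfsg.Agent.Lib.Spor.Fi22IdxO7Steps5
import Cfsg.Agent.Lib.Spor.Fi22IdxO7Steps6
import Cfsg.Agent.Lib.Spor.Fi22IdxO7Edges0
import Cfsg.Agent.Lib.Spor.Fi22IdxO7Edges1
import Cfsg.Agent.Lib.Spor.Fi22IdxO7Edges2
import Cfsg.Agent.Lib.Spor.Fi22IdxO7Edges3
import Cfsg.Agent.Lib.Spor.Fi22IdxO7Edges4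
import Cfsg.Agent.Lib.Spor.Fi22IdxO7Edges5
import Cfsg.Agent.Lib.Spor.Fi22IdxO7Edges6
import Cfsg.Agent.Lib.Spor.Fi22IdxO7Edges7
import Cfsg.Agent.Lib.Spor.Fi22IdxO7Edges8
import Cfsg.Agent.Lib.Spor.Fi22IdxO7Edges9
import Cfsg.Agent.Lib.Spor.Fi22IdxO7Edges10
import Cfsg.Agent.Lib.Spor.Fi22IdxO7Edges11
import Cfsg.Agent.Lib.Spor.Fi22IdxO7Edges12

/-!
Coset certificate `IdxO7` of Fi22: assembled.
-/

set_option autoImplicit false
set_option maxRecDepth 100000

namespace Cfsg.Agent.Spor.Fi22Cert.IdxO7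

open Cfsg.Agent.Spor.CC

theorem steps_all : ∀ k, 19683 ≤ k → k < 86942 → ∃ s, stepOK dat k s = true := by
  intro k hk0 hk
  by_cases h0 : k < 22183
  · exact stepsOK_spec _ _ stOK0 k (by omega) (lt_of_lt_of_eq h0 (by decide +kernel))
  by_cases h1 : k < 24683
  · exact stepsOK_spec _ _ stOK1 k (by omega) (lt_of_lt_of_eq h1 (by decide +kernel))
  by_cases h2 : k < 27183
  · exact stepsOK_spec _ _ stOK2 k (by omega) (lt_of_lt_of_eq h2 (by decide +kernel))
  by_cases h3 : k < 29683
  · exact stepsOK_spec _ _ stOK3 k (by omega) (lt_of_lt_of_eq h3 (by decide +kernel))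
  by_cases h4 : k < 32183
  · exact stepsOK_spec _ _ stOK4 k (by omega) (lt_of_lt_of_eq h4 (by decide +kernel))
  by_cases h5 : k < 34683
  · exact stepsOK_spec _ _ stOK5 k (by omega) (lt_of_lt_of_eq h5 (by decide +kernel))
  by_cases h6 : k < 37183
  · exact stepsOK_spec _ _ stOK6 k (by omega) (lt_of_lt_of_eq h6 (by decide +kernel))
  by_cases h7 : k < 39683
  · exact stepsOK_spec _ _ stOK7 k (by omega) (lt_of_lt_of_eq h7 (by decide +kernel))
  by_cases h8 : k < 42183
  · exact stepsOK_spec _ _ stOK8 k (by omega) (lt_of_lt_of_eq h8 (by decide +kernel))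
  by_cases h9 : k < 44683
  · exact stepsOK_spec _ _ stOK9 k (by omega) (lt_of_lt_of_eq h9 (by decide +kernel))
  by_cases h10 : k < 47183
  · exact stepsOK_spec _ _ stOK10 k (by omega) (lt_of_lt_of_eq h10 (by decide +kernel))
  by_cases h11 : k < 49683
  · exact stepsOK_spec _ _ stOK11 k (by omega) (lt_of_lt_of_eq h11 (by decide +kernel))
  by_cases h12 : k < 52183
  · exact stepsOK_spec _ _ stOK12 k (by omega) (lt_of_lt_of_eq h12 (by decide +kernel))
  by_cases h13 : k < 54683
  · exact stepsOK_spec _ _ stOK13 k (by omega) (lt_of_lt_of_eq h13 (by decide +kernel))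
  by_cases h14 : k < 57183
  · exact stepsOK_spec _ _ stOK14 k (by omega) (lt_of_lt_of_eq h14 (by decide +kernel))
  by_cases h15 : k < 59683
  · exact stepsOK_spec _ _ stOK15 k (by omega) (lt_of_lt_of_eq h15 (by decide +kernel))
  by_cases h16 : k < 62183
  · exact stepsOK_spec _ _ stOK16 k (by omega) (lt_of_lt_of_eq h16 (by decide +kernel))
  by_cases h17 : k < 64683
  · exact stepsOK_spec _ _ stOK17 k (by omega) (lt_of_lt_of_eq h17 (by decide +kernel))
  by_cases h18 : k < 67183
  · exact stepsOK_spec _ _ stOK18 k (by omega) (lt_of_lt_of_eq h18 (by decide +kernel))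
  by_cases h19 : k < 69683
  · exact stepsOK_spec _ _ stOK19 k (by omega) (lt_of_lt_of_eq h19 (by decide +kernel))
  by_cases h20 : k < 72183
  · exact stepsOK_spec _ _ stOK20 k (by omega) (lt_of_lt_of_eq h20 (by decide +kernel))
  by_cases h21 : k < 74683
  · exact stepsOK_spec _ _ stOK21 k (by omega) (lt_of_lt_of_eq h21 (by decide +kernel))
  by_cases h22 : k < 77183
  · exact stepsOK_spec _ _ stOK22 k (by omega) (lt_of_lt_of_eq h22 (by decide +kernel))
  by_cases h23 : k < 79683
  · exact stepsOK_spec _ _ stOK23 k (by omega) (lt_of_lt_of_eq h23 (by decide +kernel))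
  by_cases h24 : k < 82183
  · exact stepsOK_spec _ _ stOK24 k (by omega) (lt_of_lt_of_eq h24 (by decide +kernel))
  by_cases h25 : k < 84683
  · exact stepsOK_spec _ _ stOK25 k (by omega) (lt_of_lt_of_eq h25 (by decide +kernel))
  exact stepsOK_spec _ _ stOK26 k (by omega) (lt_of_lt_of_eq hk (by decide +kernel))

theorem edges_all : ∀ k, k < 126720 → ∃ s, edgeOK dat 86942 k s = true := by
  intro k hk
  by_cases h0 : k < 2500
  · exact edgesOK_spec _ _ edOK0 k (by omega) (lt_of_lt_of_eq h0 (by decide +kernel))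
  by_cases h1 : k < 5000
  · exact edgesOK_spec _ _ edOK1 k (by omega) (lt_of_lt_of_eq h1 (by decide +kernel))
  by_cases h2 : k < 7500
  · exact edgesOK_spec _ _ edOK2 k (by omega) (lt_of_lt_of_eq h2 (by decide +kernel))
  by_cases h3 : k < 10000
  · exact edgesOK_spec _ _ edOK3 k (by omega) (lt_of_lt_of_eq h3 (by decide +kernel))
  by_cases h4 : k < 12500
  · exact edgesOK_spec _ _ edOK4 k (by omega) (lt_of_lt_of_eq h4 (by decide +kernel))
  by_cases h5 : k < 15000
  · exact edgesOK_spec _ _ edOK5 k (by omega) (lt_of_lt_of_eq h5 (by decide +kernel))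
  by_cases h6 : k < 17500
  · exact edgesOK_spec _ _ edOK6 k (by omega) (lt_of_lt_of_eq h6 (by decide +kernel))
  by_cases h7 : k < 20000
  · exact edgesOK_spec _ _ edOK7 k (by omega) (lt_of_lt_of_eq h7 (by decide +kernel))
  by_cases h8 : k < 22500
  · exact edgesOK_spec _ _ edOK8 k (by omega) (lt_of_lt_of_eq h8 (by decide +kernel))
  by_cases h9 : k < 25000
  · exact edgesOK_spec _ _ edOK9 k (by omega) (lt_of_lt_of_eq h9 (by decide +kernel))
  by_cases h10 : k < 27500
  · exact edgesOK_spec _ _ edOK10 k (by omega) (lt_of_lt_of_eq h10 (by decide +kernel))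
  by_cases h11 : k < 30000
  · exact edgesOK_spec _ _ edOK11 k (by omega) (lt_of_lt_of_eq h11 (by decide +kernel))
  by_cases h12 : k < 32500
  · exact edgesOK_spec _ _ edOK12 k (by omega) (lt_of_lt_of_eq h12 (by decide +kernel))
  by_cases h13 : k < 35000
  · exact edgesOK_spec _ _ edOK13 k (by omega) (lt_of_lt_of_eq h13 (by decide +kernel))
  by_cases h14 : k < 37500
  · exact edgesOK_spec _ _ edOK14 k (by omega) (lt_of_lt_of_eq h14 (by decide +kernel))
  by_cases h15 : k < 40000
  · exact edgesOK_spec _ _ edOK15 k (by omega) (lt_of_lt_of_eq h15 (by decide +kernel))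
  by_cases h16 : k < 42500
  · exact edgesOK_spec _ _ edOK16 k (by omega) (lt_of_lt_of_eq h16 (by decide +kernel))
  by_cases h17 : k < 45000
  · exact edgesOK_spec _ _ edOK17 k (by omega) (lt_of_lt_of_eq h17 (by decide +kernel))
  by_cases h18 : k < 47500
  · exact edgesOK_spec _ _ edOK18 k (by omega) (lt_of_lt_of_eq h18 (by decide +kernel))
  by_cases h19 : k < 50000
  · exact edgesOK_spec _ _ edOK19 k (by omega) (lt_of_lt_of_eq h19 (by decide +kernel))
  by_cases h20 : k < 52500
  · exact edgesOK_spec _ _ edOK20 k (by omega) (lt_of_lt_of_eq h20 (by decide +kernel))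
  by_cases h21 : k < 55000
  · exact edgesOK_spec _ _ edOK21 k (by omega) (lt_of_lt_of_eq h21 (by decide +kernel))
  by_cases h22 : k < 57500
  · exact edgesOK_spec _ _ edOK22 k (by omega) (lt_of_lt_of_eq h22 (by decide +kernel))
  by_cases h23 : k < 60000
  · exact edgesOK_spec _ _ edOK23 k (by omega) (lt_of_lt_of_eq h23 (by decide +kernel))
  by_cases h24 : k < 62500
  · exact edgesOK_spec _ _ edOK24 k (by omega) (lt_of_lt_of_eq h24 (by decide +kernel))
  by_cases h25 : k < 65000
  · exact edgesOK_spec _ _ edOK25 k (by omega) (lt_of_lt_of_eq h25 (by decide +kernel))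
  by_cases h26 : k < 67500
  · exact edgesOK_spec _ _ edOK26 k (by omega) (lt_of_lt_of_eq h26 (by decide +kernel))
  by_cases h27 : k < 70000
  · exact edgesOK_spec _ _ edOK27 k (by omega) (lt_of_lt_of_eq h27 (by decide +kernel))
  by_cases h28 : k < 72500
  · exact edgesOK_spec _ _ edOK28 k (by omega) (lt_of_lt_of_eq h28 (by decide +kernel))
  by_cases h29 : k < 75000
  · exact edgesOK_spec _ _ edOK29 k (by omega) (lt_of_lt_of_eq h29 (by decide +kernel))
  by_cases h30 : k < 77500
  · exact edgesOK_spec _ _ edOK30 k (by omega) (lt_of_lt_of_eq h30 (by decide +kernel))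
  by_cases h31 : k < 80000
  · exact edgesOK_spec _ _ edOK31 k (by omega) (lt_of_lt_of_eq h31 (by decide +kernel))
  by_cases h32 : k < 82500
  · exact edgesOK_spec _ _ edOK32 k (by omega) (lt_of_lt_of_eq h32 (by decide +kernel))
  by_cases h33 : k < 85000
  · exact edgesOK_spec _ _ edOK33 k (by omega) (lt_of_lt_of_eq h33 (by decide +kernel))
  by_cases h34 : k < 87500
  · exact edgesOK_spec _ _ edOK34 k (by omega) (lt_of_lt_of_eq h34 (by decide +kernel))
  by_cases h35 : k < 90000
  · exact edgesOK_spec _ _ edOK35 k (by omega) (lt_of_lt_of_eq h35 (by decide +kernel))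
  by_cases h36 : k < 92500
  · exact edgesOK_spec _ _ edOK36 k (by omega) (lt_of_lt_of_eq h36 (by decide +kernel))
  by_cases h37 : k < 95000
  · exact edgesOK_spec _ _ edOK37 k (by omega) (lt_of_lt_of_eq h37 (by decide +kernel))
  by_cases h38 : k < 97500
  · exact edgesOK_spec _ _ edOK38 k (by omega) (lt_of_lt_of_eq h38 (by decide +kernel))
  by_cases h39 : k < 100000
  · exact edgesOK_spec _ _ edOK39 k (by omega) (lt_of_lt_of_eq h39 (by decide +kernel))
  by_cases h40 : k < 102500
  · exact edgesOK_spec _ _ edOK40 k (by omega) (lt_of_lt_of_eq h40 (by decide +kernel))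
  by_cases h41 : k < 105000
  · exact edgesOK_spec _ _ edOK41 k (by omega) (lt_of_lt_of_eq h41 (by decide +kernel))
  by_cases h42 : k < 107500
  · exact edgesOK_spec _ _ edOK42 k (by omega) (lt_of_lt_of_eq h42 (by decide +kernel))
  by_cases h43 : k < 110000
  · exact edgesOK_spec _ _ edOK43 k (by omega) (lt_of_lt_of_eq h43 (by decide +kernel))
  by_cases h44 : k < 112500
  · exact edgesOK_spec _ _ edOK44 k (by omega) (lt_of_lt_of_eq h44 (by decide +kernel))
  by_cases h45 : k < 115000
  · exact edgesOK_spec _ _ edOK45 k (by omega) (lt_of_lt_of_eq h45 (by decide +kernel))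
  by_cases h46 : k < 117500
  · exact edgesOK_spec _ _ edOK46 k (by omega) (lt_of_lt_of_eq h46 (by decide +kernel))
  by_cases h47 : k < 120000
  · exact edgesOK_spec _ _ edOK47 k (by omega) (lt_of_lt_of_eq h47 (by decide +kernel))
  by_cases h48 : k < 122500
  · exact edgesOK_spec _ _ edOK48 k (by omega) (lt_of_lt_of_eq h48 (by decide +kernel))
  by_cases h49 : k < 125000
  · exact edgesOK_spec _ _ edOK49 k (by omega) (lt_of_lt_of_eq h49 (by decide +kernel))
  exact edgesOK_spec _ _ edOK50 k (by omega) (lt_of_lt_of_eq hk (by decide +kernel))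

theorem checked : Checked dat 86942 where
  defs := defs_ok
  steps := steps_all
  edges := fun k hk => edges_all k hk
  pos := by decide
  ng_le := by decide

theorem words_ok : wordsOK dat letters 9 (Cfsg.Agent.Spor.Fi22Cert.pres.relW ++ []) wit subW = true := by decide +kernel

end Cfsg.Agent.Spor.Fi22Cert.IdxO7
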