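import Cfsg.Agent.Lib.Spor.Fi22RepU62Data

/-!
Checks for table `RepU62` of Fi22.
-/

set_option autoImplicit false
set_option maxRecDepth 100000

namespace Cfsg.Agent.Spor.Fi22Cert.RepU62

open Cfsg.Agent.Spor.CC

theorem inv4 : invOK rows 9 3510 1216 304 = true := by decide +kernel

theorem loop4 : loopOK rows 9 Cfsg.Agent.Spor.Fi22Cert.pres.relW 1216 304 = true :=
  relW_eq ▸ loop_of (fun u => rel_eq u) (by decide +kernel : rangeOK relAll 1216 304 = true)

theorem loopMore4 : loopOK rows 9 more 1216 304 = true :=
  extraRelW_eq ▸ loop_of (fun u => extraRel_eq u) (by decide +kernel : rangeOK extraRelAll 1216 304 = true)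

theorem inv5 : invOK rows 9 3510 1520 304 = true := by decide +kernel

theorem loop5 : loopOK rows 9 Cfsg.Agent.Spor.Fi22Cert.pres.relW 1520 304 = true :=
  relW_eq ▸ loop_of (fun u => rel_eq u) (by decide +kernel : rangeOK relAll 1520 304 = true)

theorem loopMore5 : loopOK rows 9 more 1520 304 = true :=
  extraRelW_eq ▸ loop_of (fun u => extraRel_eq u) (by decide +kernel : rangeOK extraRelAll 1520 304 = true)

theorem inv6 : invOK rows 9 3510 1824 304 = true := by decide +kernel

theorem loop6 : loopOK rows 9 Cfsg.Agent.Spor.Fi22Cert.pres.relW 1824 304 = true :=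
  relW_eq ▸ loop_of (fun u => rel_eq u) (by decide +kernel : rangeOK relAll 1824 304 = true)

theorem loopMore6 : loopOK rows 9 more 1824 304 = true :=
  extraRelW_eq ▸ loop_of (fun u => extraRel_eq u) (by decide +kernel : rangeOK extraRelAll 1824 304 = true)

theorem inv7 : invOK rows 9 3510 2128 304 = true := by decide +kernel

theorem loop7 : loopOK rows 9 Cfsg.Agent.Spor.Fi22Cert.pres.relW 2128 304 = true :=
  relW_eq ▸ loop_of (fun u => rel_eq u) (by decide +kernel : rangeOK relAll 2128 304 = true)

theorem loopMore7 : loopOK rows 9 more 2128 304 = true :=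
  extraRelW_eq ▸ loop_of (fun u => extraRel_eq u) (by decide +kernel : rangeOK extraRelAll 2128 304 = true)

end Cfsg.Agent.Spor.Fi22Cert.RepU62
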