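import Cfsg.Agent.Lib.Spor.Fi22RepU62Data

/-!
Checks for table `RepU62` of Fi22.
-/

set_option autoImplicit false
set_option maxRecDepth 100000

namespace Cfsg.Agent.Spor.Fi22Cert.RepU62

open Cfsg.Agent.Spor.CC

theorem inv8 : invOK rows 9 3510 2432 304 = true := by decide +kernel

theorem loop8 : loopOK rows 9 Cfsg.Agent.Spor.Fi22Cert.pres.relW 2432 304 = true :=
  relW_eq ▸ loop_of (fun u => rel_eq u) (by decide +kernel : rangeOK relAll 2432 304 = true)

theorem loopMore8 : loopOK rows 9 more 2432 304 = true :=
  extraRelW_eq ▸ loop_of (fun u => extraRel_eq u) (by decide +kernel : rangeOK extraRelAll 2432 304 = true)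

theorem inv9 : invOK rows 9 3510 2736 304 = true := by decide +kernel

theorem loop9 : loopOK rows 9 Cfsg.Agent.Spor.Fi22Cert.pres.relW 2736 304 = true :=
  relW_eq ▸ loop_of (fun u => rel_eq u) (by decide +kernel : rangeOK relAll 2736 304 = true)

theorem loopMore9 : loopOK rows 9 more 2736 304 = true :=
  extraRelW_eq ▸ loop_of (fun u => extraRel_eq u) (by decide +kernel : rangeOK extraRelAll 2736 304 = true)

theorem inv10 : invOK rows 9 3510 3040 304 = true := by decide +kernel

theorem loop10 : loopOK rows 9 Cfsg.Agent.Spor.Fi22Cert.pres.relW 3040 304 = true :=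
  relW_eq ▸ loop_of (fun u => rel_eq u) (by decide +kernel : rangeOK relAll 3040 304 = true)

theorem loopMore10 : loopOK rows 9 more 3040 304 = true :=
  extraRelW_eq ▸ loop_of (fun u => extraRel_eq u) (by decide +kernel : rangeOK extraRelAll 3040 304 = true)

theorem inv11 : invOK rows 9 3510 3344 166 = true := by decide +kernel

theorem loop11 : loopOK rows 9 Cfsg.Agent.Spor.Fi22Cert.pres.relW 3344 166 = true :=
  relW_eq ▸ loop_of (fun u => rel_eq u) (by decide +kernel : rangeOK relAll 3344 166 = true)

theorem loopMore11 : loopOK rows 9 more 3344 166 = true :=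
  extraRelW_eq ▸ loop_of (fun u => extraRel_eq u) (by decide +kernel : rangeOK extraRelAll 3344 166 = true)

end Cfsg.Agent.Spor.Fi22Cert.RepU62
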