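import Cfsg.Agent.Lib.Spor.Fi22RepU62Loops0
import Cfsg.Agent.Lib.Spor.Fi22RepU62Loops1
import Cfsg.Agent.Lib.Spor.Fi22RepU62Loops2
import Cfsg.Agent.Lib.Spor.Fi22RepU62Orbits

/-!
Table `RepU62` of Fi22: assembled.
-/

set_option autoImplicit false
set_option maxRecDepth 100000

namespace Cfsg.Agent.Spor.Fi22Cert.RepU62

open Cfsg.Agent.Spor.CC

theorem valid : tab.Valid := by
  intro u hu x hx
  replace hu : u < 3510 := hu
  by_cases h0 : u < 304
  · exact invOK_spec inv0 (by omega) h0 hx
  by_cases h1 : u < 608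
  · exact invOK_spec inv1 (by omega) h1 hx
  by_cases h2 : u < 912
  · exact invOK_spec inv2 (by omega) h2 hx
  by_cases h3 : u < 1216
  · exact invOK_spec inv3 (by omega) h3 hx
  by_cases h4 : u < 1520
  · exact invOK_spec inv4 (by omega) h4 hx
  by_cases h5 : u < 1824
  · exact invOK_spec inv5 (by omega) h5 hx
  by_cases h6 : u < 2128
  · exact invOK_spec inv6 (by omega) h6 hx
  by_cases h7 : u < 2432
  · exact invOK_spec inv7 (by omega) h7 hx
  by_cases h8 : u < 2736
  · exact invOK_spec inv8 (by omega) h8 hx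
  by_cases h9 : u < 3040
  · exact invOK_spec inv9 (by omega) h9 hx
  by_cases h10 : u < 3344
  · exact invOK_spec inv10 (by omega) h10 hx
  exact invOK_spec inv11 (by omega) hu hx

theorem loops : tab.Loops Cfsg.Agent.Spor.Fi22Cert.pres.relW := by
  intro u hu r hr
  replace hu : u < 3510 := hu
  by_cases h0 : u < 304
  · exact loopOK_spec loop0 (by omega) h0 hr
  by_cases h1 : u < 608
  · exact loopOK_spec loop1 (by omega) h1 hr
  by_cases h2 : u < 912
  · exact loopOK_spec loop2 (by omega) h2 hr
  by_cases h3 : u < 1216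
  · exact loopOK_spec loop3 (by omega) h3 hr
  by_cases h4 : u < 1520
  · exact loopOK_spec loop4 (by omega) h4 hr
  by_cases h5 : u < 1824
  · exact loopOK_spec loop5 (by omega) h5 hr
  by_cases h6 : u < 2128
  · exact loopOK_spec loop6 (by omega) h6 hr
  by_cases h7 : u < 2432
  · exact loopOK_spec loop7 (by omega) h7 hr
  by_cases h8 : u < 2736
  · exact loopOK_spec loop8 (by omega) h8 hr
  by_cases h9 : u < 3040
  · exact loopOK_spec loop9 (by omega) h9 hr
  by_cases h10 : u < 3344
  · exact loopOK_spec loop10 (by omega) h10 hr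
  exact loopOK_spec loop11 (by omega) hu hr

theorem loops_more : tab.Loops more := by
  intro u hu r hr
  replace hu : u < 3510 := hu
  by_cases h0 : u < 304
  · exact loopOK_spec loopMore0 (by omega) h0 hr
  by_cases h1 : u < 608
  · exact loopOK_spec loopMore1 (by omega) h1 hr
  by_cases h2 : u < 912
  · exact loopOK_spec loopMore2 (by omega) h2 hr
  by_cases h3 : u < 1216
  · exact loopOK_spec loopMore3 (by omega) h3 hr
  by_cases h4 : u < 1520
  · exact loopOK_spec loopMore4 (by omega) h4 hr
  by_cases h5 : u < 1824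
  · exact loopOK_spec loopMore5 (by omega) h5 hr
  by_cases h6 : u < 2128
  · exact loopOK_spec loopMore6 (by omega) h6 hr
  by_cases h7 : u < 2432
  · exact loopOK_spec loopMore7 (by omega) h7 hr
  by_cases h8 : u < 2736
  · exact loopOK_spec loopMore8 (by omega) h8 hr
  by_cases h9 : u < 3040
  · exact loopOK_spec loopMore9 (by omega) h9 hr
  by_cases h10 : u < 3344
  · exact loopOK_spec loopMore10 (by omega) h10 hr
  exact loopOK_spec loopMore11 (by omega) hu hr

end Cfsg.Agent.Spor.Fi22Cert.RepU62
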