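import Cfsg.Agent.Lib.Spor.RepCert
import Cfsg.Agent.Lib.Spor.Fi22IdxO7Cert
import Cfsg.Agent.Lib.Spor.Fi22IdxU62Cert
import Cfsg.Agent.Lib.Spor.Fi22IdxE7Cert
import Cfsg.Agent.Lib.Spor.Fi22IdxE6Cert
import Cfsg.Agent.Lib.Spor.Fi22IdxD5Cert
import Cfsg.Agent.Lib.Spor.Fi22IdxA4Cert
import Cfsg.Agent.Lib.Spor.Fi22IdxA3Cert
import Cfsg.Agent.Lib.Spor.Fi22IdxOneCert
import Cfsg.Agent.Lib.Spor.Fi22RepU62Perm
import Cfsg.Prelude.Def_Sporadic

/-!
The presented group Fi22: order, simplicity, the action on cosets.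
-/

set_option autoImplicit false
set_option maxRecDepth 100000

namespace Cfsg.Agent.Spor.Fi22Cert

open Cfsg.Agent.Spor.CC

theorem no_more : ∀ r ∈ ([] : List (List ℕ)), (r.map pres.gen).prod = 1 := by simp

theorem card_top : Finite (⊤ : Subgroup pres.Grp) ∧ Nat.card (⊤ : Subgroup pres.Grp) ≤ 64561751654400 := by
  have h0 := Pres.sub_card_le pres_ok IdxOne.checked (ks := IdxOne.letters) rfl no_more IdxOne.words_ok
    (b := 1) (by rw [show IdxOne.subW = [] from rfl, Pres.wsub_nil]; exact bot_card)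
  have e1 : pres.wsub IdxA3.subW = pres.sub IdxOne.letters := Pres.wsub_singles [1, 2, 3]
  have h1 := Pres.sub_card_le pres_ok IdxA3.checked (ks := IdxA3.letters) rfl no_more IdxA3.words_ok (e1 ▸ h0)
  have e2 : pres.wsub IdxA4.subW = pres.sub IdxA3.letters := Pres.wsub_singles [1, 2, 3, 4]
  have h2 := Pres.sub_card_le pres_ok IdxA4.checked (ks := IdxA4.letters) rfl no_more IdxA4.words_ok (e2 ▸ h1)
  have e3 : pres.wsub IdxD5.subW = pres.sub IdxA4.letters := Pres.wsub_singles [1, 2, 3, 4, 7]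
  have h3 := Pres.sub_card_le pres_ok IdxD5.checked (ks := IdxD5.letters) rfl no_more IdxD5.words_ok (e3 ▸ h2)
  have e4 : pres.wsub IdxE6.subW = pres.sub IdxD5.letters := Pres.wsub_singles [1, 2, 3, 4, 5, 7]
  have h4 := Pres.sub_card_le pres_ok IdxE6.checked (ks := IdxE6.letters) rfl no_more IdxE6.words_ok (e4 ▸ h3)
  have e5 : pres.wsub IdxE7.subW = pres.sub IdxE6.letters := Pres.wsub_singles [1, 2, 3, 4, 5, 6, 7]
  have h5 := Pres.sub_card_le pres_ok IdxE7.checked (ks := IdxE7.letters) rfl no_more IdxE7.words_ok (e5 ▸ h4)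
  have e6 : pres.wsub IdxO7.subW = pres.sub IdxE7.letters := Pres.wsub_singles [1, 2, 3, 4, 5, 6, 7, 8]
  have h6 := Pres.sub_card_le pres_ok IdxO7.checked (ks := IdxO7.letters) rfl no_more IdxO7.words_ok (e6 ▸ h5)
  rw [Pres.sub_all pres_ok (ks := IdxO7.letters) (by decide)] at h6
  exact ⟨h6.1, h6.2.trans (le_of_eq rfl)⟩

/-- the action on 3510 points -/
noncomputable def rep : Rep pres where
  P := RepU62.tab
  ok := pres_ok
  valid := RepU62.valid
  hng := rfl
  letters := relW_letters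
  loops := RepU62.loops
  z := ⟨0, by decide⟩
  all := RepU62.allOrb
  all_b := rfl
  all_k := rfl
  all_ok := RepU62.all_ok
  all_letters := RepU62.all_letters

theorem order : Finite pres.Grp ∧ Nat.card pres.Grp = 64561751654400 ∧ Function.Injective rep.hom :=
  rep.order_eq RepU62.chain_ok RepU62.chain_size card_top

theorem stab_eq : pres.wsub IdxU62.subW = stab rep.hom rep.z ∧ (pres.wsub IdxU62.subW).index = 3510 :=
  rep.wsub_eq_stab (by decide +kernel) (by decide +kernel)
    (Pres.sub_index_le pres_ok IdxU62.checked (ks := IdxU62.letters) rfl (by decide) no_more IdxU62.words_ok)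

theorem orbits :
    (∃ p : pres.Grp, (MulAction.orbit (pres.wsub IdxU62.subW) (p : pres.Grp ⧸ pres.wsub IdxU62.subW)).ncard = 693) ∧
    (∃ p : pres.Grp, (MulAction.orbit (pres.wsub IdxU62.subW) (p : pres.Grp ⧸ pres.wsub IdxU62.subW)).ncard = 2816) := by
  haveI := order.1
  exact ⟨rep.exists_coset_orbit stab_eq.1 RepU62.sub2 (by decide +kernel) (by decide) RepU62.sub2_ok
      RepU62.sub2_closed RepU62.sub2_letters rfl,
    rep.exists_coset_orbit stab_eq.1 RepU62.sub1 (by decide +kernel) (by decide) RepU62.sub1_ok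
      RepU62.sub1_closed RepU62.sub1_letters rfl⟩

theorem index_o7 : (pres.wsub IdxO7.subW).index = 14080 := by
  haveI := order.1
  obtain ⟨h0, hle⟩ :=
    Pres.sub_index_le pres_ok IdxO7.checked (ks := IdxO7.letters) rfl (by decide) no_more IdxO7.words_ok
  have h := Pres.sub_card_le pres_ok IdxOne.checked (ks := IdxOne.letters) rfl no_more IdxOne.words_ok
    (b := 1) (by rw [show IdxOne.subW = [] from rfl, Pres.wsub_nil]; exact bot_card)
  replace h := Pres.sub_card_le pres_ok IdxA3.checked (ks := IdxA3.letters) rfl no_more IdxA3.words_ok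
    ((Pres.wsub_singles [1, 2, 3] : pres.wsub IdxA3.subW = pres.sub IdxOne.letters) ▸ h)
  replace h := Pres.sub_card_le pres_ok IdxA4.checked (ks := IdxA4.letters) rfl no_more IdxA4.words_ok
    ((Pres.wsub_singles [1, 2, 3, 4] : pres.wsub IdxA4.subW = pres.sub IdxA3.letters) ▸ h)
  replace h := Pres.sub_card_le pres_ok IdxD5.checked (ks := IdxD5.letters) rfl no_more IdxD5.words_ok
    ((Pres.wsub_singles [1, 2, 3, 4, 7] : pres.wsub IdxD5.subW = pres.sub IdxA4.letters) ▸ h)
  replace h := Pres.sub_card_le pres_ok IdxE6.checked (ks := IdxE6.letters) rfl no_more IdxE6.words_ok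
    ((Pres.wsub_singles [1, 2, 3, 4, 5, 7] : pres.wsub IdxE6.subW = pres.sub IdxD5.letters) ▸ h)
  replace h := Pres.sub_card_le pres_ok IdxE7.checked (ks := IdxE7.letters) rfl no_more IdxE7.words_ok
    ((Pres.wsub_singles [1, 2, 3, 4, 5, 6, 7] : pres.wsub IdxE7.subW = pres.sub IdxE6.letters) ▸ h)
  have e : pres.wsub IdxO7.subW = pres.sub IdxE7.letters := Pres.wsub_singles [1, 2, 3, 4, 5, 6, 7, 8]
  rw [← e] at h
  have hmul := Subgroup.card_mul_index (pres.wsub IdxO7.subW)
  rw [order.2.1] at hmul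
  have h2 : Nat.card (pres.wsub IdxO7.subW) ≤ 4585351680 := h.2.trans (le_of_eq rfl)
  have h3 : (pres.wsub IdxO7.subW).index ≤ 14080 := hle
  by_contra hne
  have h4 : Nat.card (pres.wsub IdxO7.subW) * (pres.wsub IdxO7.subW).index ≤ 4585351680 * 14079 :=
    Nat.mul_le_mul h2 (by omega)
  omega

theorem quotient_trivial {M : Type*} [Group M] (f : pres.Grp →* M) (ha : f (pres.gen 0) = 1) :
    ∀ x, f (pres.gen x) = 1 := by
  have cox := fun i j (hi : i < 9) (hj : j < 9) => congrArg f (Pres.cox_one pres_ok (i := i) (j := j) hi hj)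
  have sq : ∀ x, f (pres.gen x) * f (pres.gen x) = 1 := fun x => by
    rw [← map_mul, Pres.gen_sq pres_ok, map_one]
  have odd : ∀ i j, (hi : i < 9) → (hj : j < 9) →
      Cfsg.Spor.coxLabel pres.edges (pres.nm i) (pres.nm j) % 2 = 1 →
      f (pres.gen i) = 1 → f (pres.gen j) = 1 := by
    intro i j hi hj hodd h1
    have := cox i j hi hj
    rw [map_pow, map_mul, h1, one_mul, map_one, ← Nat.div_add_mod
      (Cfsg.Spor.coxLabel pres.edges (pres.nm i) (pres.nm j)) 2, hodd, pow_add, pow_one, pow_mul,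
      pow_two, sq, one_pow, one_mul] at this
    exact this
  have hb : f (pres.gen 1) = 1 := odd 0 1 (by decide) (by decide) (by decide +kernel) ha
  have hc : f (pres.gen 2) = 1 := odd 1 2 (by decide) (by decide) (by decide +kernel) hb
  have hd : f (pres.gen 3) = 1 := odd 2 3 (by decide) (by decide) (by decide +kernel) hc
  have he : f (pres.gen 4) = 1 := odd 3 4 (by decide) (by decide) (by decide +kernel) hd
  have hf : f (pres.gen 5) = 1 := odd 4 5 (by decide) (by decide) (by decide +kernel) he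
  have hg : f (pres.gen 6) = 1 := odd 5 6 (by decide) (by decide) (by decide +kernel) hf
  have hh : f (pres.gen 7) = 1 := odd 3 7 (by decide) (by decide) (by decide +kernel) hd
  have hi : f (pres.gen 8) = 1 := odd 7 8 (by decide) (by decide) (by decide +kernel) hh
  intro x
  by_cases hx : x < 9
  · interval_cases x <;> assumption
  · rw [Pres.gen_big (Q := pres) hx, map_one]

theorem subs_ws : ∀ O ∈ RepU62.subs, O.ws = IdxU62.subW := by
  intro O hO
  simp only [RepU62.subs, List.mem_cons, List.not_mem_nil, or_false] at hO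
  rcases hO with rfl | rfl | rfl <;> rfl

theorem simple : IsSimpleGroup pres.Grp := by
  obtain ⟨hfin, hcard, hinj⟩ := order
  haveI : Nontrivial pres.Grp := Finite.one_lt_card_iff_nontrivial.mp (by rw [hcard]; norm_num)
  refine ⟨fun N hN => ?_⟩
  haveI := hN
  rcases rep.gen_mem_normal hinj RepU62.part_ok RepU62.sums_ok (by decide +kernel)
      (W := IdxU62.subW) subs_ws
      stab_eq.1 (q := 13) (e := 1) (by norm_num) (by decide +kernel) (by rw [hcard]; norm_num)
      (o1 := 13) (o2 := 13) (j1 := 1) (j2 := 1) rfl rfl (w1 := RepU62.fac1) (w2 := RepU62.fac2) (a := 0)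
      (by decide +kernel) RepU62.loops_more N with h | h
  · exact Or.inl h
  · right
    have hq := quotient_trivial (QuotientGroup.mk' N) ((QuotientGroup.eq_one_iff _).mpr h)
    rw [eq_top_iff, ← Pres.closure_gen pres_ok]
    refine (Subgroup.closure_le _).mpr ?_
    rintro _ ⟨x, -, rfl⟩
    exact (QuotientGroup.eq_one_iff _).mp (hq x)

theorem isFi22 : Cfsg.IsFi22 Cfsg.Spor.Fi22 := ⟨simple, order.2.1⟩

end Cfsg.Agent.Spor.Fi22Cert
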