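import Cfsg.Agent.Lib.Spor.PermCert

/-!
Membership from a stabiliser chain of full size.
-/

set_option autoImplicit false

namespace Cfsg.Agent.Spor.CC

variable {K : Type*} [Group K] {P : Table} (h : P.Valid) (g : ℕ → K)
  (φ : K →* Equiv.Perm (Fin P.n)) (hφ : ∀ x, x < P.ng → φ (g x) = P.perm h x)

include hφ in
/-- if a chain has full size then whatever fixes a prefix of its base is generated by the other levels -/
theorem chain_mem : ∀ (L : List Orb) (bs : List ℕ), chainOK P.T P.ng P.n L bs = true →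
    ∀ (S : Subgroup K) [Finite S], (∀ s : K, (∀ b ∈ bs, ∀ u : Fin P.n, (u : ℕ) = b → φ s u = u) →
      (∃ O ∈ L, ∃ w ∈ O.ws, s = (w.map g).prod) → s ∈ S) → Nat.card S ≤ chainSize L →
    ∀ (i : ℕ) (s : K), s ∈ S → (∀ b ∈ (L.take i).map Orb.b, ∀ u : Fin P.n, (u : ℕ) = b → φ s u = u) →
      s ∈ Subgroup.closure {t | ∃ O ∈ L.drop i, ∃ w ∈ O.ws, t = (w.map g).prod}
  | L, bs, hL, S, hfin, hS, hle, 0, s, hs, _ => by
    rw [List.drop_zero]
    have hsub : Subgroup.closure {t | ∃ O ∈ L, ∃ w ∈ O.ws, t = (w.map g).prod} ≤ S := by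
      refine (Subgroup.closure_le _).mpr ?_
      rintro t ⟨O, hO, w, hw, rfl⟩
      refine hS _ (fun b hb u hu => ?_) ⟨O, hO, w, hw, rfl⟩
      -- the words fix the earlier base points
      have key : ∀ (L : List Orb) (bs : List ℕ), chainOK P.T P.ng P.n L bs = true → O ∈ L → b ∈ bs →
          φ ((w.map g).prod) u = u := by
        intro L
        induction L with
        | nil => intro _ _ h; cases h
        | cons O' rest ih =>
          intro bs hL hO hb
          simp only [chainOK, Bool.and_eq_true] at hL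
          obtain ⟨⟨⟨⟨-, -⟩, hl⟩, hfix⟩, hrest⟩ := hL
          rcases List.mem_cons.mp hO with rfl | hO
          · apply Fin.ext
            rw [ev_eq h g φ hφ (fun x hx => lettersOK_spec hl hw hx), hu]
            exact Nat.eq_of_beq_eq_true (List.all_eq_true.mp (List.all_eq_true.mp hfix w hw) b hb)
          · exact ih _ hrest hO (List.mem_cons_of_mem _ hb)
      exact key L bs hL hO hb
    haveI : Finite (Subgroup.closure {t | ∃ O ∈ L, ∃ w ∈ O.ws, t = (w.map g).prod}) :=
      Finite.of_injective (fun t => (⟨(t : K), hsub t.2⟩ : S)) (fun a b e => Subtype.ext (congrArg (fun q : S => (q : K)) e))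
    have h1 := chain_le h g φ hφ L bs hL (Subgroup.closure {t | ∃ O ∈ L, ∃ w ∈ O.ws, t = (w.map g).prod})
      (fun t _ ht => Subgroup.subset_closure ht)
    rw [Subgroup.eq_of_le_of_card_ge hsub (hle.trans h1)]
    exact hs
  | [], bs, _, S, hfin, _, hle, i + 1, s, hs, _ => by
    have h1 : Nat.card S = 1 := le_antisymm (hle.trans (le_of_eq rfl)) (Nat.one_le_iff_ne_zero.mpr Nat.card_pos.ne')
    rw [Subgroup.card_eq_one] at h1
    rw [h1, Subgroup.mem_bot] at hs
    rw [hs]
    exact one_mem _
  | O :: rest, bs, hL, S, hfin, hS, hle, i + 1, s, hs, hfixs => by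
    simp only [chainOK, Bool.and_eq_true] at hL
    obtain ⟨⟨⟨⟨hbn, hO⟩, hl⟩, hfix⟩, hrest⟩ := hL
    let b : Fin P.n := ⟨O.b, Nat.le_of_ble_eq_true hbn⟩
    have hWS : ∀ w ∈ O.ws, (w.map g).prod ∈ S := by
      intro w hw
      refine hS _ (fun c hc u hu => ?_) ⟨O, by simp, w, hw, rfl⟩
      apply Fin.ext
      rw [ev_eq h g φ hφ (fun x hx => lettersOK_spec hl hw hx), hu]
      exact Nat.eq_of_beq_eq_true (List.all_eq_true.mp (List.all_eq_true.mp hfix w hw) c hc)
    have horb := orb_mem h g φ hφ hO hl S hWS b rfl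
    letI : MulAction S (Fin P.n) := MulAction.compHom _ (φ.comp S.subtype)
    have hsmul : ∀ (s : S) (u : Fin P.n), s • u = φ (s : K) u := fun s u => rfl
    let f : Fin O.k → MulAction.orbit S b := fun j =>
      ⟨φ (horb j j.2).choose b, ⟨⟨_, (horb j j.2).choose_spec.1⟩, hsmul _ _⟩⟩
    have hf : Function.Injective f := by
      intro x y e
      have e' := congrArg (fun q : MulAction.orbit S b => ((q : Fin P.n) : ℕ)) e
      simp only [f] at e'
      rw [(horb x x.2).choose_spec.2, (horb y y.2).choose_spec.2] at e'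
      exact Fin.ext (orb_inj hO x.2 y.2 e')
    have hk : O.k ≤ Nat.card (MulAction.orbit S b) := by
      simpa using Nat.card_le_card_of_injective f hf
    let S' : Subgroup K := (MulAction.stabilizer S b).map S.subtype
    haveI : Finite S' := Finite.of_surjective
      (fun s : MulAction.stabilizer S b => (⟨((s : S) : K), ⟨s, s.2, rfl⟩⟩ : S'))
      (fun ⟨p, q, hq, e⟩ => ⟨⟨q, hq⟩, Subtype.ext e⟩)
    have hcard : Nat.card S' = Nat.card (MulAction.stabilizer S b) :=
      Nat.card_congr (Subgroup.equivMapOfInjective _ _ S.subtype_injective).symm.toEquiv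
    have hos : Nat.card (MulAction.orbit S b) * Nat.card (MulAction.stabilizer S b) = Nat.card S := by
      rw [← Nat.card_congr (MulAction.orbitProdStabilizerEquivGroup S b), Nat.card_prod]
    have hle' : Nat.card S' ≤ chainSize rest := by
      rw [hcard]
      rw [chainSize, List.map_cons, List.prod_cons, ← hos] at hle
      haveI : Nonempty (MulAction.orbit S b) := ⟨⟨b, MulAction.mem_orbit_self b⟩⟩
      have hpos : 0 < Nat.card (MulAction.orbit S b) := Nat.card_pos
      exact Nat.le_of_mul_le_mul_left (hle.trans (Nat.mul_le_mul_right _ hk)) hpos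
    have := chain_mem rest (O.b :: bs) hrest S' (fun t ht hw => by
        obtain ⟨O', hO', w, hw', rfl⟩ := hw
        have hmem : (w.map g).prod ∈ S :=
          hS _ (fun c hc u hu => ht c (by simp [hc]) u hu) ⟨O', by simp [hO'], w, hw', rfl⟩
        exact ⟨⟨_, hmem⟩, ht O.b (by simp) b rfl, rfl⟩) hle' i s
      ⟨⟨s, hs⟩, hfixs O.b (by simp) b rfl, rfl⟩ (fun c hc => hfixs c (by
        rw [List.take_succ_cons, List.map_cons]
        exact List.mem_cons_of_mem _ hc))
    simpa using this

end Cfsg.Agent.Spor.CC
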