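import Cfsg.Agent.Lib.Spor.Fi22O7OutCheck
import Cfsg.Agent.Lib.Spor.ChainMem
import Mathlib.GroupTheory.PGroup

/-!
Automorphisms of a maximal subgroup of Fi22: the class of 351 involutions is invariant and squares of
automorphisms are inner.
-/

set_option autoImplicit false
set_option maxRecDepth 100000

namespace Cfsg.Agent.Spor.Fi22Cert.O7Out

open Cfsg.Agent.Spor.CC
open Cfsg.Agent.Spor.Fi22Cert.O7Act (Ksub gK mu mu_injective orows otab otab_valid phi phi_gen embTab
  card_Ksub olevels_ok olevels_size)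
open Cfsg.Agent.Spor.Fi22Cert.Outer (tW IsPt isPt_gen)

/-- the involution belonging to one of the 351 points -/
def PtK (d : Ksub) (v : Fin 351) : Prop := IsPt (d : pres.Grp) (mu v : ℕ)

theorem phi_match (s : Ksub) (v : Fin 351) : rep.hom (s : pres.Grp) (mu v) = mu (phi s v) :=
  (O7Act.exists_match _ s.2).choose_spec.2 v

theorem PtK.inj {d e : Ksub} {v : Fin 351} (hd : PtK d v) (he : PtK e v) : d = e :=
  Subtype.ext (IsPt.inj hd he)

theorem PtK.unique {d : Ksub} {v w : Fin 351} (hd : PtK d v) (he : PtK d w) : v = w :=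
  mu_injective (Fin.ext (IsPt.unique hd he))

theorem PtK.conj {d : Ksub} {v : Fin 351} (hd : PtK d v) (s : Ksub) :
    PtK (s * d * s⁻¹) (phi s v) := by
  have h := IsPt.conj hd (s : pres.Grp) (mu v).2
  rw [show (⟨(mu v : ℕ), (mu v).2⟩ : Fin rep.P.n) = mu v from rfl, phi_match] at h
  exact h

theorem PtK.commute_iff {e : Ksub} {v : Fin 351} (he : PtK e v) (d : Ksub) :
    d * e = e * d ↔ phi d v = v := by
  have h := IsPt.commute_iff he (d : pres.Grp)
  rw [show (⟨(mu v : ℕ), he.lt⟩ : Fin rep.P.n) = mu v from rfl, phi_match, mu_injective.eq_iff] at h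
  rw [← h, ← Subtype.val_inj, Subgroup.coe_mul, Subgroup.coe_mul]

theorem phi_injective : Function.Injective phi := by
  haveI := card_Ksub.1
  have hlow := chain_le_image otab_valid gK phi phi_gen olevels_ok
  rw [olevels_size] at hlow
  have hb := (phi.rangeRestrict_surjective).bijective_of_nat_card_le (by rw [card_Ksub.2]; exact hlow)
  exact fun a b e => hb.1 (Subtype.ext e)

theorem phi_ev {w : List ℕ} (hw : ∀ x ∈ w, x < 8) (v : Fin 351) :
    (phi ((w.map gK).prod) v : ℕ) = ev orows 8 w v :=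
  ev_eq otab_valid gK phi phi_gen hw v

theorem phi_gK {x : ℕ} (hx : x < 8) (v : Fin 351) : (phi (gK x) v : ℕ) = orows x v := by
  rw [phi_gen x hx]
  exact otab.perm_val otab_valid hx v

theorem gK_val {x : ℕ} (hx : x < 8) : ((gK x : Ksub) : pres.Grp) = pres.gen (x + 1) := by
  rw [gK, dif_pos hx]

theorem gK_sq (x : ℕ) : gK x * gK x = 1 := by
  by_cases hx : x < 8
  · exact Subtype.ext (by rw [Subgroup.coe_mul, gK_val hx, Pres.gen_sq pres_ok]; rfl)
  · rw [gK, dif_neg hx, one_mul]

/-- the point of a generator -/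
def gpt (x : ℕ) (hx : x < 8) : Fin 351 := ⟨gp.getD x 0, (gen_points x hx).1⟩

theorem pt_gen (x : ℕ) (hx : x < 8) : PtK (gK x) (gpt x hx) := by
  have h := isPt_gen (x := x + 1) (show x + 1 < 9 by omega)
  rw [← (gen_points x hx).2, ← gK_val hx] at h
  exact h

theorem pt_zero : PtK (gK 0) (⟨0, by norm_num⟩ : Fin 351) := by
  have h := pt_gen 0 (by norm_num)
  rwa [show gpt 0 (by norm_num) = (⟨0, by norm_num⟩ : Fin 351) from Fin.ext x_facts.2.2.2.2.2.2.2.1] at h

/-- the conjugating element of a point -/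
noncomputable def cj (q : ℕ) : Ksub := ((cjW q).map gK).prod

theorem conj_spec {q : ℕ} (hq : q < 351) : (∀ x ∈ cjW q, x < 8) ∧ ev orows 8 (cjW q) 0 = q ∧
    ev orows 8 (powW 7 xW) q = q := by
  have h := all_range (p := conjOK) conj_all (Nat.zero_le q) (by omega)
  simp only [conjOK, Bool.and_eq_true] at h
  exact ⟨fun x hx => lettersOK_spec h.1.1 (List.mem_singleton_self _) hx, Nat.eq_of_beq_eq_true h.1.2,
    Nat.eq_of_beq_eq_true h.2⟩

/-- the involution of a point -/
noncomputable def trK (q : ℕ) : Ksub := ((tW (cjW q)).map gK).prod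

theorem prod_rev_gK : ∀ c : List ℕ, (c.reverse.map gK).prod = ((c.map gK).prod)⁻¹
  | [] => by simp
  | a :: c => by
    rw [List.reverse_cons, List.map_append, List.prod_append, prod_rev_gK c]
    simp [inv_eq_of_mul_eq_one_left (gK_sq a)]

theorem trK_eq (q : ℕ) : trK q = cj q * gK 0 * (cj q)⁻¹ := by
  simp only [trK, tW, cj, List.map_append, List.prod_append, prod_rev_gK]
  simp [mul_assoc]

theorem pt_trK (v : Fin 351) : PtK (trK v) v := by
  rw [trK_eq]
  have h := pt_zero.conj (cj v)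
  have e : phi (cj v) ⟨0, by norm_num⟩ = v := Fin.ext (by
    rw [cj, phi_ev (conj_spec v.2).1]
    exact (conj_spec v.2).2.1)
  rwa [e] at h

theorem tW_lt8 {q : ℕ} (hq : q < 351) : ∀ x ∈ tW (cjW q), x < 8 := by
  intro x hx
  simp only [tW, List.mem_append, List.mem_singleton, List.mem_reverse] at hx
  rcases hx with (h | rfl) | h
  · exact (conj_spec hq).1 x h
  · norm_num
  · exact (conj_spec hq).1 x h

theorem mem_class_iff {d : Ksub} : d ∈ conjugatesOf (gK 0) ↔ ∃ v, PtK d v := by
  constructor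
  · intro h
    obtain ⟨c, rfl⟩ := isConj_iff.mp h
    exact ⟨_, pt_zero.conj c⟩
  · rintro ⟨v, hv⟩
    rw [hv.inj (pt_trK v), trK_eq]
    exact isConj_iff.mpr ⟨cj v, rfl⟩

theorem card_class : Nat.card (conjugatesOf (gK 0) : Set Ksub) = 351 := by
  have f : Fin 351 ≃ (conjugatesOf (gK 0) : Set Ksub) := Equiv.ofBijective
    (fun v => ⟨trK v, mem_class_iff.mpr ⟨v, pt_trK v⟩⟩)
    ⟨fun a b e => by
      have e' : trK a = trK b := congrArg Subtype.val e
      exact (pt_trK a).unique (e' ▸ pt_trK b), fun d => by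
      obtain ⟨v, hv⟩ := mem_class_iff.mp d.2
      exact ⟨v, Subtype.ext ((pt_trK v).inj hv)⟩⟩
  rw [← Nat.card_congr f]
  simp

/-- the element of order seven -/
noncomputable def xK : Ksub := (xW.map gK).prod

theorem x_apply (v : Fin 351) : (phi xK v : ℕ) = ev orows 8 xW v :=
  phi_ev (fun x hx => lettersOK_spec x_facts.1 (List.mem_singleton_self _) hx) v

theorem x_pow : xK ^ 7 = 1 := by
  refine phi_injective (Equiv.ext fun v => Fin.ext ?_)
  rw [xK, ← prod_powW, phi_ev, map_one, Equiv.Perm.one_apply]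
  · exact (conj_spec v.2).2.2
  · intro x hx
    simp only [powW, List.mem_flatten, List.mem_replicate] at hx
    obtain ⟨l, ⟨-, rfl⟩, hl⟩ := hx
    exact lettersOK_spec x_facts.1 (List.mem_singleton_self _) hl

theorem x_order : orderOf xK = 7 := by
  haveI : Fact (Nat.Prime 7) := ⟨by norm_num⟩
  refine orderOf_eq_prime x_pow fun e => ?_
  apply x_facts.2.2.2.2.2.1
  have h := x_apply ⟨0, by norm_num⟩
  rw [e, map_one, Equiv.Perm.one_apply] at h
  exact h.symm

theorem xPow_apply (k : ℕ) {q : ℕ} (hq : q < 351) :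
    (phi (xK ^ k) ⟨q, hq⟩ : ℕ) = xPw k q := by
  induction k with
  | zero => rw [pow_zero, map_one, Equiv.Perm.one_apply]; rfl
  | succ k ih =>
    rw [pow_succ', map_mul, Equiv.Perm.mul_apply, x_apply, ih]
    rfl

theorem cyc_pow : ∀ k, k < 7 → xPw k 0 = cyc.getD k 0
  | 0, _ => x_facts.2.2.2.2.1.symm
  | k + 1, hk => by
    show ev orows 8 xW (xPw k 0) = _
    rw [cyc_pow k (by omega), x_facts.2.2.2.1 k (by omega), Nat.mod_eq_of_lt hk]

/-- a permutation commuting with the element of order seven is known on the cycle -/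
theorem move_cyc {g : Ksub} (hgx : Commute xK g) {p : ℕ} (hp : p < 351)
    (h0 : phi g ⟨0, by norm_num⟩ = ⟨p, hp⟩) {k : ℕ} (hk : k < 7) (v : Fin 351)
    (hv : (v : ℕ) = cyc.getD k 0) : (phi g v : ℕ) = xPw k p := by
  have e : v = phi (xK ^ k) ⟨0, by norm_num⟩ :=
    Fin.ext (by rw [hv, xPow_apply, cyc_pow k hk])
  rw [e, ← Equiv.Perm.mul_apply, ← map_mul, ← (hgx.pow_left k).eq, map_mul, Equiv.Perm.mul_apply, h0,
    xPow_apply]

theorem x_fix (n : ℕ) : phi (xK ^ n) ⟨56, by norm_num⟩ = ⟨56, by norm_num⟩ := by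
  induction n with
  | zero => rw [pow_zero, map_one, Equiv.Perm.one_apply]
  | succ n ih =>
    rw [pow_succ', map_mul, Equiv.Perm.mul_apply, ih]
    exact Fin.ext ((x_apply _).trans x_facts.2.2.1)

theorem chain_fix {g : Ksub} {i : ℕ}
    (hfix : ∀ b ∈ (xchain.take i).map Orb.b, ∀ v : Fin 351, (v : ℕ) = b → phi g v = v) :
    g ∈ Subgroup.closure {t | ∃ O ∈ xchain.drop i, ∃ w ∈ O.ws, t = (w.map gK).prod} := by
  haveI := card_Ksub.1
  exact chain_mem otab_valid gK phi phi_gen xchain [] xchain_ok ⊤ (fun _ _ _ => trivial)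
    (by rw [Nat.card_congr Subgroup.topEquiv.toEquiv, card_Ksub.2, xchain_size]) i g trivial hfix

theorem chain_letters {i : ℕ} {O : Orb} (hO : O ∈ xchain.drop i) {w : List ℕ} (hw : w ∈ O.ws) :
    ∀ x ∈ w, x < 8 := by
  have key : ∀ (L : List Orb) (bs : List ℕ), chainOK orows 8 351 L bs = true → ∀ O ∈ L,
      lettersOK 8 O.ws = true := by
    intro L
    induction L with
    | nil => intro _ _ O h; cases h
    | cons O' rest ih =>
      intro bs hL O hO
      simp only [chainOK, Bool.and_eq_true] at hL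
      rcases List.mem_cons.mp hO with rfl | hO
      · exact hL.1.1.2
      · exact ih _ hL.2 O hO
  exact fun x hx => lettersOK_spec (key xchain [] xchain_ok O (List.mem_of_mem_drop hO)) hw hx

theorem gK7_of_fix {g : Ksub}
    (hfix : ∀ b ∈ 56 :: cyc, ∀ v : Fin 351, (v : ℕ) = b → phi g v = v) : g = 1 ∨ g = gK 7 := by
  have h := chain_fix (i := 8) (g := g) (by rw [x_facts.2.2.2.2.2.2.2.2.2.1]; exact hfix)
  have hle : Subgroup.closure {t | ∃ O ∈ xchain.drop 8, ∃ w ∈ O.ws, t = (w.map gK).prod} ≤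
      Subgroup.zpowers (gK 7) := by
    rw [Subgroup.closure_le]
    rintro _ ⟨O, hO, w, hw, rfl⟩
    have hs := List.all_eq_true.mp (List.all_eq_true.mp last_level O hO) w hw
    have e : (w.map gK).prod = gK 7 := phi_injective (Equiv.ext fun v => Fin.ext (by
      rw [phi_ev (chain_letters hO hw), phi_gK (show 7 < 8 by norm_num)]
      exact Nat.eq_of_beq_eq_true (all_range (p := fun v => Nat.beq (ev orows 8 w v) (orows 7 v)) hs
        (Nat.zero_le _) (by simp))))
    rw [e]
    exact Subgroup.mem_zpowers _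
  obtain ⟨n, hn⟩ := Subgroup.mem_zpowers_iff.mp (hle h)
  rcases Int.even_or_odd n with ⟨m, hm⟩ | ⟨m, hm⟩
  · left; rw [← hn, hm, ← two_mul, zpow_mul, zpow_two, gK_sq, one_zpow]
  · right; rw [← hn, hm, zpow_add_one, zpow_mul, zpow_two, gK_sq, one_zpow, one_mul]

theorem no_stray {g : Ksub} (hgx : Commute xK g) (hz : phi g ⟨56, by norm_num⟩ = ⟨56, by norm_num⟩)
    (h0 : phi g ⟨0, by norm_num⟩ = ⟨stray, stray_facts.2.1⟩) : False := by
  obtain ⟨hl, -, hW56, hWk, ht, hc4, hpres⟩ := stray_facts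
  obtain ⟨-, hlen, -, -, -, -, -, -, -, hbase, hcyc⟩ := x_facts
  have hlW : ∀ x ∈ strayW, x < 8 := fun x hx => lettersOK_spec hl (List.mem_singleton_self _) hx
  set W := (strayW.map gK).prod with hW
  have hfix : ∀ b ∈ (xchain.take 5).map Orb.b, ∀ v : Fin 351, (v : ℕ) = b → phi (W⁻¹ * g) v = v := by
    intro b hb v hv
    have hb' : b ∈ (56 :: cyc).take 5 := by
      rw [← hbase, ← List.map_take, List.take_take]
      exact hb
    rw [map_mul, Equiv.Perm.mul_apply, map_inv, Equiv.Perm.inv_eq_iff_eq]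
    apply Fin.ext
    rw [hW, phi_ev hlW, hv]
    rw [List.take_succ_cons, List.mem_cons] at hb'
    rcases hb' with rfl | hb'
    · rw [hW56, show v = ⟨56, by norm_num⟩ from Fin.ext hv, hz]
    · obtain ⟨k, hk, rfl⟩ := List.mem_iff_getElem.mp hb'
      rw [List.length_take, hlen] at hk
      have hk4 : k < 4 := by omega
      rw [List.getElem_take, ← List.getD_eq_getElem _ 0 (by omega)] at hv ⊢
      rw [hWk k hk4, move_cyc hgx stray_facts.2.1 h0 (by omega) v hv]
  have hmem := chain_fix hfix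
  have hc4lt : cyc.getD 4 0 < 351 :=
    hcyc _ (by rw [List.getD_eq_getElem _ _ (by omega)]; exact List.getElem_mem _)
  have key : ∀ s ∈ Subgroup.closure {t | ∃ O ∈ xchain.drop 5, ∃ w ∈ O.ws, t = (w.map gK).prod},
      ∀ v : Fin 351, (v : ℕ) ∈ ([53, 70] : List ℕ) → (phi s v : ℕ) ∈ ([53, 70] : List ℕ) := by
    haveI := card_Ksub.1
    intro s hs
    rw [← Subgroup.mem_toSubmonoid, Subgroup.closure_toSubmonoid_of_finite] at hs
    induction hs using Submonoid.closure_induction with
    | mem s hs =>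
      obtain ⟨O, hO, w, hw, rfl⟩ := hs
      intro v hv
      rw [phi_ev (chain_letters hO hw)]
      exact hpres O hO w hw v hv
    | one => intro v hv; simpa using hv
    | mul a b _ _ ha hb => intro v hv; rw [map_mul, Equiv.Perm.mul_apply]; exact ha _ (hb v hv)
  apply ht
  have h := key _ hmem ⟨cyc.getD 4 0, hc4lt⟩ hc4
  rw [map_mul, Equiv.Perm.mul_apply] at h
  rw [show W⁻¹ = (strayW.reverse.map gK).prod from (prod_rev_gK strayW).symm,
    phi_ev (fun x hx => hlW x (List.mem_reverse.mp hx)),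
    move_cyc hgx stray_facts.2.1 h0 (k := 4) (by norm_num) ⟨cyc.getD 4 0, hc4lt⟩ rfl] at h
  exact h

theorem class_invariant (φ : MulAut Ksub) : φ (gK 0) ∈ conjugatesOf (gK 0) := by
  haveI := card_Ksub.1
  obtain ⟨-, hlen, -, -, hc0, -, hc0com, -, hg7, -, hcyc⟩ := x_facts
  let u0 := φ (gK 0)
  let E : Set Ksub := {u | IsConj u0 u}
  have hE : E = φ '' conjugatesOf (gK 0) := by
    ext u
    constructor
    · intro hu
      obtain ⟨c, hc⟩ := isConj_iff.mp hu
      refine ⟨φ.symm u, isConj_iff.mpr ⟨φ.symm c, ?_⟩, φ.apply_symm_apply u⟩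
      rw [← hc]
      simp [u0]
    · rintro ⟨d, hd, rfl⟩
      exact MonoidHom.map_isConj φ.toMonoidHom hd
  have hcardE : Nat.card E = 351 := by
    rw [hE, Nat.card_image_of_injective φ.injective]
    exact card_class
  let X := Subgroup.zpowers xK
  have hX : IsPGroup 7 X := fun a => by
    refine ⟨1, Subtype.ext ?_⟩
    obtain ⟨n, hn⟩ := Subgroup.mem_zpowers_iff.mp a.2
    show (a : Ksub) ^ 7 ^ 1 = 1
    rw [pow_one, ← hn, ← zpow_natCast, ← zpow_mul, mul_comm, zpow_mul, zpow_natCast, x_pow, one_zpow]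
  letI : MulAction X E :=
    { smul := fun x u => ⟨(x : Ksub) * (u : Ksub) * (x : Ksub)⁻¹,
        IsConj.trans u.2 (isConj_iff.mpr ⟨(x : Ksub), rfl⟩)⟩
      one_smul := fun u => Subtype.ext (show (1 : Ksub) * u.1 * (1 : Ksub)⁻¹ = u.1 by simp)
      mul_smul := fun x y u => Subtype.ext (show (x.1 * y.1) * u.1 * (x.1 * y.1)⁻¹ =
        x.1 * (y.1 * u.1 * y.1⁻¹) * x.1⁻¹ by group) }
  haveI : Fact (Nat.Prime 7) := ⟨by norm_num⟩
  obtain ⟨u, hu⟩ := hX.nonempty_fixed_point_of_prime_not_dvd_card E (by rw [hcardE]; norm_num)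
  have hux : Commute xK (u : Ksub) := by
    have h : xK * (u : Ksub) * xK⁻¹ = u := congrArg Subtype.val (hu ⟨xK, Subgroup.mem_zpowers _⟩)
    exact mul_inv_eq_iff_eq_mul.mp h
  have hne : (u : Ksub) ≠ 1 := by
    intro e
    have h := u.2
    rw [e] at h
    have h' : u0 = 1 := isConj_one_left.mp h
    have h2 : gK 0 = 1 := φ.injective (h'.trans (map_one φ).symm)
    have h3 := pt_gen 0 (by norm_num)
    have h4 := pt_gen 1 (by norm_num)
    have hcc : gK 1 * gK 0 = gK 0 * gK 1 := by rw [h2, mul_one, one_mul]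
    rw [h3.commute_iff] at hcc
    have h5 := congrArg Fin.val hcc
    have h6 := phi_gK (show 1 < 8 by norm_num) (gpt 0 (by norm_num))
    rw [h6] at h5
    revert h5
    simp only [gpt]
    decide +kernel
  have hu2 : (u : Ksub) * u = 1 := by
    obtain ⟨d, hd, hde⟩ : (u : Ksub) ∈ φ '' conjugatesOf (gK 0) := hE ▸ u.2
    obtain ⟨c, hc⟩ := isConj_iff.mp hd
    rw [← hde, ← map_mul, ← hc, show c * gK 0 * c⁻¹ * (c * gK 0 * c⁻¹) = c * (gK 0 * gK 0) * c⁻¹ by group,
      gK_sq, mul_one, mul_inv_cancel, map_one]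
  let z : Fin 351 := ⟨56, by norm_num⟩
  have hz7 : PtK (gK 7) z := by
    have h := pt_gen 7 (by norm_num)
    rwa [show gpt 7 (by norm_num) = z from Fin.ext hg7] at h
  have hfix0 : phi (u : Ksub) z = z := by
    have h1 : phi xK (phi (u : Ksub) z) = phi (u : Ksub) z := by
      rw [← Equiv.Perm.mul_apply, ← map_mul, hux.eq, map_mul, Equiv.Perm.mul_apply,
        show phi xK z = z from pow_one xK ▸ x_fix 1]
    have h2 := congrArg (fun v : Fin 351 => (v : ℕ)) h1
    simp only [x_apply] at h2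
    generalize phi (u : Ksub) z = v at h2
    have hc := all_range (p := candO) cand_all (Nat.zero_le (v : ℕ)) (by simp)
    simp only [candO, Bool.and_eq_true, Bool.or_eq_true, Bool.not_eq_true'] at hc
    rcases hc.1 with h | h
    · exact Fin.ext (Nat.eq_of_beq_eq_true h)
    · exact absurd (Nat.beq_eq.mpr h2) (by simp [h])
  have hucom : (u : Ksub) * gK 7 = gK 7 * u := (hz7.commute_iff _).mpr hfix0
  let c0 : Fin 351 := ⟨0, by norm_num⟩
  set q : Fin 351 := phi (u : Ksub) c0 with hq
  have hqcand := all_range (p := candO) cand_all (Nat.zero_le (q : ℕ)) (by simp)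
  simp only [candO, Bool.and_eq_true, Bool.or_eq_true, Bool.not_eq_true'] at hqcand
  have hdiv : ∀ i, ∀ p : ℕ, (hp : p < 351) → (q : ℕ) = xPw i p →
      Commute xK ((xK ^ i)⁻¹ * u) ∧ phi ((xK ^ i)⁻¹ * (u : Ksub)) z = z ∧
        phi ((xK ^ i)⁻¹ * (u : Ksub)) c0 = ⟨p, hp⟩ := by
    intro i p hp he
    refine ⟨(((Commute.refl xK).pow_right i).inv_right).mul_right hux, ?_, ?_⟩
    · rw [map_mul, Equiv.Perm.mul_apply, hfix0, map_inv, Equiv.Perm.inv_eq_iff_eq]
      exact (x_fix i).symm
    · rw [map_mul, Equiv.Perm.mul_apply, map_inv, Equiv.Perm.inv_eq_iff_eq]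
      exact Fin.ext (by rw [← hq, he, xPow_apply])
  have hqcyc : (q : ℕ) ∈ cyc := by
    rcases hqcand.2 with (((h | h) | h) | h) | h
    · exfalso
      have hzq : q = z := Fin.ext (Nat.eq_of_beq_eq_true h)
      rw [hq, ← hfix0] at hzq
      exact absurd (congrArg Fin.val ((phi (u : Ksub)).injective hzq)) (by simp [c0, z])
    · exfalso
      have h1 : phi (gK 7) q = q := by
        have hcom7 : phi (gK 7) c0 = c0 := Fin.ext (by
          rw [phi_gK (show 7 < 8 by norm_num)]
          exact hc0com)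
        rw [hq, ← Equiv.Perm.mul_apply, ← map_mul, ← hucom, map_mul, Equiv.Perm.mul_apply, hcom7]
      have h7 := phi_gK (show 7 < 8 by norm_num) q
      rw [h1] at h7
      have h8 := h7.symm
      exact absurd (Nat.beq_eq.mpr h8) (by simp [h])
    · exact List.contains_iff_mem.mp h
    · exfalso
      obtain ⟨k, -, hk⟩ := List.any_eq_true.mp h
      obtain ⟨hgx, hgz, hg0⟩ := hdiv k stray stray_facts.2.1 (Nat.eq_of_beq_eq_true hk)
      exact no_stray hgx hgz hg0
    · exfalso
      obtain ⟨k, hk, hk2⟩ := List.any_eq_true.mp h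
      have hk7 : k < 7 := List.mem_range.mp hk
      have hklt : cyc.getD k 0 < 351 :=
        hcyc _ (by rw [List.getD_eq_getElem _ _ (by omega)]; exact List.getElem_mem _)
      let ck : Fin 351 := ⟨cyc.getD k 0, hklt⟩
      have hd : (u : Ksub) * trK 0 * (u : Ksub)⁻¹ = trK q := by
        have h1 := (pt_trK c0).conj (u : Ksub)
        rw [← hq] at h1
        exact h1.inj (pt_trK q)
      have hxk : (phi (u : Ksub) ck : ℕ) = xPw k q := move_cyc hux q.2 rfl hk7 ck rfl
      have hiff : phi (trK q) (phi (u : Ksub) ck) = phi (u : Ksub) ck ↔ phi (trK 0) ck = ck := by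
        rw [← hd, map_mul, map_mul, Equiv.Perm.mul_apply, Equiv.Perm.mul_apply, map_inv,
          Equiv.Perm.inv_def, Equiv.symm_apply_apply, (phi (u : Ksub)).injective.eq_iff]
      rw [Fin.ext_iff, Fin.ext_iff, trK, trK, phi_ev (tW_lt8 q.2), phi_ev (tW_lt8 (q := 0) (by norm_num)),
        hxk] at hiff
      have hb : (Nat.beq (ev orows 8 (tW (cjW (q : ℕ))) (xPw k q)) (xPw k q) ==
          Nat.beq (ev orows 8 (tW (cjW 0)) (cyc.getD k 0)) (cyc.getD k 0)) = true := by
        rw [beq_iff_eq]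
        apply Bool.eq_iff_iff.mpr
        rw [Nat.beq_eq, Nat.beq_eq]
        exact hiff
      rw [hb] at hk2
      cases hk2
  obtain ⟨i, hi, hiq⟩ := List.mem_iff_getElem.mp hqcyc
  have hi7 : i < 7 := hlen ▸ hi
  obtain ⟨hgx, hgz, hg0⟩ := hdiv i 0 (by norm_num)
    (by rw [cyc_pow i hi7, List.getD_eq_getElem _ _ hi, hiq])
  set g : Ksub := (xK ^ i)⁻¹ * u with hg
  have hfix : ∀ b ∈ 56 :: cyc, ∀ v : Fin 351, (v : ℕ) = b → phi g v = v := by
    intro b hb v hv
    rcases List.mem_cons.mp hb with rfl | hb'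
    · rw [show v = z from Fin.ext hv]; exact hgz
    · obtain ⟨k, hk, rfl⟩ := List.mem_iff_getElem.mp hb'
      rw [← List.getD_eq_getElem _ 0 hk] at hv
      apply Fin.ext
      rw [move_cyc hgx (by norm_num) hg0 (hlen ▸ hk) v hv, hv, cyc_pow k (hlen ▸ hk)]
  have hg01 := gK7_of_fix hfix
  have hg2 : g * g = 1 := by rcases hg01 with e | e <;> rw [e] <;> first | exact mul_one 1 | exact gK_sq 7
  have hue : (u : Ksub) = xK ^ i * g := by rw [hg]; group
  have hi0 : i = 0 := by
    have hc : Commute (xK ^ i) g := hgx.pow_left i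
    have h1 : xK ^ (2 * i) = 1 := by
      rw [hue] at hu2
      calc xK ^ (2 * i) = xK ^ i * xK ^ i * (g * g) := by rw [hg2, mul_one, ← pow_add, two_mul]
        _ = xK ^ i * (xK ^ i * g) * g := by group
        _ = xK ^ i * (g * xK ^ i) * g := by rw [hc.eq]
        _ = 1 := by rw [← hu2]; group
    have := orderOf_dvd_of_pow_eq_one h1
    rw [x_order] at this
    omega
  rw [hue, hi0, pow_zero, one_mul] at hne
  rcases hg01 with e | e
  · exact absurd e hne
  · have h2 : IsConj u0 (gK 7) := by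
      have := u.2
      rw [hue, hi0, pow_zero, one_mul, e] at this
      exact this
    exact IsConj.trans (mem_class_iff.mpr ⟨z, hz7⟩) h2.symm

theorem gen_eq_top {S : Subgroup Ksub} (h : ∀ x < 8, gK x ∈ S) : S = ⊤ := by
  rw [eq_top_iff]
  rintro ⟨s, hs⟩ -
  have hs' : s ∈ pres.sub [1, 2, 3, 4, 5, 6, 7, 8] := O7Act.sub_eq_singles ▸ hs
  have hle : pres.sub [1, 2, 3, 4, 5, 6, 7, 8] ≤ S.map Ksub.subtype := by
    rw [Pres.sub, Subgroup.closure_le]
    rintro _ ⟨x, hx, rfl⟩
    simp only [Set.mem_setOf_eq, List.mem_cons, List.not_mem_nil, or_false] at hx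
    obtain ⟨y, rfl⟩ : ∃ y, x = y + 1 := ⟨x - 1, by omega⟩
    exact ⟨gK y, h y (by omega), gK_val (by omega)⟩
  obtain ⟨t, ht, hts⟩ := hle hs'
  rwa [show (⟨s, hs⟩ : Ksub) = t from Subtype.ext hts.symm]

theorem aut_eq_one {f : MulAut Ksub} (h : ∀ x < 8, f (gK x) = gK x) : f = 1 := by
  refine MulEquiv.ext fun a => ?_
  have : f.toMonoidHom.eqLocus (MonoidHom.id _) = ⊤ := gen_eq_top h
  exact this.symm.le (Subgroup.mem_top a)

/-- automorphisms fixing the first generators -/
noncomputable def autFix (i : ℕ) : Subgroup (MulAut Ksub) :=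
  ⨅ y ∈ Finset.range i, MulAction.stabilizer (MulAut Ksub) (gK y)

theorem mem_autFix {i : ℕ} {f : MulAut Ksub} : f ∈ autFix i ↔ ∀ y < i, f (gK y) = gK y := by
  simp [autFix, Subgroup.mem_iInf, MulAction.mem_stabilizer_iff]

theorem aut_finite : Finite (MulAut Ksub) := by
  haveI := card_Ksub.1
  exact Finite.of_injective (fun f : MulAut Ksub => (f : Ksub → Ksub)) DFunLike.coe_injective

theorem autFix_step {i : ℕ} (hi : i < 8) : Nat.card (autFix i) ≤ cnt i * Nat.card (autFix (i + 1)) := by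
  classical
  haveI := card_Ksub.1
  haveI := aut_finite
  let A := autFix i
  have hstab : ((autFix (i + 1)).subgroupOf A) = MulAction.stabilizer A (gK i) := by
    ext f
    simp only [Subgroup.mem_subgroupOf, MulAction.mem_stabilizer_iff, mem_autFix]
    constructor
    · intro h; exact h i (Nat.lt_succ_self i)
    · intro h y hy
      rcases Nat.lt_succ_iff_lt_or_eq.mp hy with hy | rfl
      · exact mem_autFix.mp f.2 y hy
      · exact h
  have hle : autFix (i + 1) ≤ A := fun f hf => mem_autFix.mpr fun y hy => mem_autFix.mp hf y (by omega)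
  have hstabcard : Nat.card (MulAction.stabilizer A (gK i)) = Nat.card (autFix (i + 1)) := by
    rw [← hstab]
    exact Nat.card_congr (Subgroup.subgroupOfEquivOfLe hle).toEquiv
  have horb : Nat.card (MulAction.orbit A (gK i)) ≤ cnt i := by
    have hpt : ∀ e : MulAction.orbit A (gK i), ∃ v : Fin 351, PtK (e : Ksub) v ∧ patO i v = true := by
      rintro ⟨_, f, rfl⟩
      have hcl : (f : MulAut Ksub) (gK i) ∈ conjugatesOf (gK 0) :=
        IsConj.trans (class_invariant (f : MulAut Ksub))
          (MonoidHom.map_isConj (f : MulAut Ksub).toMonoidHom (mem_class_iff.mpr ⟨_, pt_gen i hi⟩))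
      obtain ⟨v, hv⟩ := mem_class_iff.mp hcl
      refine ⟨v, hv, ?_⟩
      rw [patO, List.all_eq_true]
      intro y hy
      rw [List.mem_range] at hy
      have hy8 : y < 8 := by omega
      have hfy := mem_autFix.mp f.2 y hy
      simp only [Bool.and_eq_true, Bool.not_eq_true', beq_iff_eq]
      refine ⟨Bool.eq_false_iff.mpr fun hb => ?_, ?_⟩
      · have e1 : (f : MulAut Ksub) (gK i) = gK y := by
          refine hv.inj ?_
          rw [show v = gpt y hy8 from Fin.ext (Nat.eq_of_beq_eq_true hb)]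
          exact pt_gen y hy8
        have e2 := (pt_gen i hi).unique (((f : MulAut Ksub).injective (e1.trans hfy.symm)) ▸ pt_gen y hy8)
        have : ∀ a < 8, ∀ b < 8, gp.getD a 0 = gp.getD b 0 → a = b := by decide +kernel
        exact absurd (this i hi y hy8 (congrArg Fin.val e2)) (by omega)
      · apply Bool.eq_iff_iff.mpr
        rw [Nat.beq_eq, Nat.beq_eq]
        have h1 := hv.commute_iff (gK y)
        have h2 := (pt_gen i hi).commute_iff (gK y)
        conv_lhs at h1 => rw [← hfy, ← map_mul, ← map_mul, (f : MulAut Ksub).injective.eq_iff]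
        rw [h2, Fin.ext_iff, Fin.ext_iff] at h1
        have h3 := phi_gK hy8 v
        have h4 := phi_gK hy8 (gpt i hi)
        rw [h3, h4] at h1
        exact h1.symm
    let S : Finset ℕ := ((List.range 351).filter (patO i)).toFinset
    let F : MulAction.orbit A (gK i) → S := fun e => ⟨(hpt e).choose,
      List.mem_toFinset.mpr (List.mem_filter.mpr
        ⟨List.mem_range.mpr (hpt e).choose.2, (hpt e).choose_spec.2⟩)⟩
    have hF : Function.Injective F := by
      intro a b e
      have e' : (hpt a).choose = (hpt b).choose := Fin.ext (congrArg (fun s : S => (s : ℕ)) e)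
      exact Subtype.ext ((hpt a).choose_spec.1.inj (e' ▸ (hpt b).choose_spec.1))
    refine (Nat.card_le_card_of_injective F hF).trans ?_
    rw [Nat.card_eq_fintype_card, Fintype.card_coe]
    exact List.toFinset_card_le _
  have hos : Nat.card (MulAction.orbit A (gK i)) * Nat.card (MulAction.stabilizer A (gK i)) = Nat.card A := by
    rw [← Nat.card_congr (MulAction.orbitProdStabilizerEquivGroup A (gK i)), Nat.card_prod]
  rw [← hos, hstabcard]
  exact Nat.mul_le_mul_right _ horb

theorem card_aut : Nat.card (MulAut Ksub) < 3 * 4585351680 := by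
  have key : ∀ n, n ≤ 8 → Nat.card (MulAut Ksub) ≤
      ((List.range n).map cnt).prod * Nat.card (autFix n) := by
    intro n
    induction n with
    | zero =>
      intro _
      rw [show autFix 0 = ⊤ from eq_top_iff.mpr fun f _ => mem_autFix.mpr (by simp)]
      simp
    | succ n ih =>
      intro hn
      refine (ih (by omega)).trans ?_
      rw [List.range_succ, List.map_append, List.prod_append]
      simp only [List.map_cons, List.map_nil, List.prod_cons, List.prod_nil, mul_one]
      rw [mul_assoc]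
      exact Nat.mul_le_mul_left _ (autFix_step (by omega))
  have h8 : Nat.card (autFix 8) = 1 := by
    rw [Subgroup.card_eq_one, eq_bot_iff]
    exact fun f hf => Subgroup.mem_bot.mpr (aut_eq_one (mem_autFix.mp hf))
  have h := key 8 le_rfl
  rw [h8, mul_one] at h
  exact lt_of_le_of_lt h count_bound

theorem conj_injective : Function.Injective (MulAut.conj : Ksub →* MulAut Ksub) := by
  rw [injective_iff_map_eq_one]
  intro a ha
  refine phi_injective ?_
  rw [map_one]
  refine Equiv.ext fun v => ?_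
  rw [Equiv.Perm.one_apply, ← (pt_trK v).commute_iff]
  have h := DFunLike.congr_fun ha (trK v)
  rw [MulAut.conj_apply, MulAut.one_apply] at h
  exact mul_inv_eq_iff_eq_mul.mp h

theorem sq_inner (β : MulAut Ksub) : ∃ a : Ksub, ∀ x, β (β x) = a * x * a⁻¹ := by
  haveI := card_Ksub.1
  haveI := aut_finite
  let I : Subgroup (MulAut Ksub) := (MulAut.conj : Ksub →* MulAut Ksub).range
  have hI : Nat.card I = 4585351680 := by
    rw [← card_Ksub.2]
    exact Nat.card_congr (MonoidHom.ofInjective conj_injective).symm.toEquiv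
  have hidx : I.index = 1 ∨ I.index = 2 := by
    have h := Subgroup.card_mul_index I
    rw [hI] at h
    have h2 := card_aut
    rw [← h] at h2
    have : I.index ≠ 0 := Subgroup.index_ne_zero_of_finite
    have : I.index < 3 := Nat.lt_of_mul_lt_mul_left (a := 4585351680) (by rwa [mul_comm 4585351680 3])
    omega
  have hsq : β * β ∈ I := by
    rcases hidx with h | h
    · rw [Subgroup.index_eq_one.mp h]; trivial
    · exact Subgroup.mul_self_mem_of_index_two h β
  obtain ⟨a, ha⟩ := hsq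
  exact ⟨a, fun x => (DFunLike.congr_fun ha x).symm⟩

theorem omega_equiv : Nonempty (Ksub ≃* Cfsg.Omega (ZMod 3) O7Act.qf) := by
  obtain ⟨e⟩ := O7Act.ksub_equiv
  haveI := Fintype.ofFinite (Cfsg.Omega (ZMod 3) O7Act.qf)
  have hz : Function.Bijective
      (QuotientGroup.mk' (Subgroup.center (Cfsg.Omega (ZMod 3) O7Act.qf))) :=
    (QuotientGroup.mk'_surjective _).bijective_of_nat_card_le
      (le_of_eq (O7Act.card_omega7.trans O7Act.card_pomega7.symm))
  exact ⟨e.trans (MulEquiv.ofBijective _ hz).symm⟩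

end Cfsg.Agent.Spor.Fi22Cert.O7Out
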