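import Cfsg.Agent.Lib.Spor.Fi22SixMain
import Cfsg.Agent.Lib.Spor.U62CovData

/-!
The twelve-fold stem extension of the projective unitary group of dimension six over four elements, inside
the six-fold cover of Fi22.
-/

set_option autoImplicit false
set_option maxRecDepth 100000

namespace Cfsg.Agent.Spor.Fi22SixCert

open Cfsg.Agent.Spor.CC
open scoped commutatorElement

/-- the subgroup over the stabiliser -/
noncomputable abbrev overU : Subgroup pres.Grp := Fi22Cert.U62Act.Hsub.comap toFi

/-- the map onto the unitary group -/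
noncomputable def toU : overU →* SUSix.uperm.range :=
  Fi22Cert.U62Act.theta.comp
    ((toFi.comp overU.subtype).codRestrict Fi22Cert.U62Act.Hsub fun s => s.2)

theorem toFi_gen (x : ℕ) : toFi (pres.gen x) = Fi22Cert.pres.gen x := SpiderCert.homOf_gen ..

theorem gen_zero_mem : pres.gen 0 ∈ overU := by
  rw [Subgroup.mem_comap, toFi_gen, ← Fi22Cert.U62Act.cen_val]
  exact Fi22Cert.U62Act.cen.2

theorem gen_zero_comm {s : pres.Grp} (hs : s ∈ overU) : s * pres.gen 0 = pres.gen 0 * s := by
  haveI := card_le.1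
  exact mul_inv_eq_iff_eq_mul.mp
    (Fi22Cert.SixLift.lift_comm stem (show toFi (pres.gen 0) = Fi22Cert.U62Act.tA from toFi_gen 0) hs)

/-- the central transposition above the stabiliser -/
noncomputable def zero' : overU := ⟨pres.gen 0, gen_zero_mem⟩

/-- the codomain-restricted map to the stabiliser -/
noncomputable def toH : overU →* Fi22Cert.U62Act.Hsub :=
  (toFi.comp overU.subtype).codRestrict Fi22Cert.U62Act.Hsub fun s => s.2

theorem toH_surj : Function.Surjective toH := fun s => by
  obtain ⟨k, hk⟩ := toFi_surj s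
  exact ⟨⟨k, show toFi k ∈ _ by rw [hk]; exact s.2⟩, Subtype.ext hk⟩

theorem toH_zero : toH zero' = Fi22Cert.U62Act.cen :=
  Subtype.ext ((toFi_gen 0).trans Fi22Cert.U62Act.cen_val.symm)

theorem toU_surj : Function.Surjective toU := Fi22Cert.U62Act.theta_surjective.comp toH_surj

theorem ker_cases {s : overU} (h : toU s = 1) :
    toFi (s : pres.Grp) = 1 ∨ toFi (s : pres.Grp) = Fi22Cert.pres.gen 0 := by
  haveI : Fact (Nat.Prime 2) := ⟨Nat.prime_two⟩
  have hmem : toH s ∈ Fi22Cert.U62Act.theta.ker := h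
  let c : Fi22Cert.U62Act.theta.ker := ⟨Fi22Cert.U62Act.cen, Fi22Cert.U62Act.cen_mem_ker⟩
  have hc1 : c ≠ 1 := fun e => Fi22Cert.U62Act.cen_ne_one (congrArg Subtype.val (congrArg Subtype.val e))
  have hgen := zpowers_eq_top_of_prime_card Fi22Cert.U62Act.ker_card hc1
  obtain ⟨n, hn⟩ := Subgroup.mem_zpowers_iff.mp
    (show (⟨toH s, hmem⟩ : Fi22Cert.U62Act.theta.ker) ∈ Subgroup.zpowers c by rw [hgen]; exact Subgroup.mem_top _)
  have hn' : toFi (s : pres.Grp) = Fi22Cert.pres.gen 0 ^ n := by
    have := congrArg (fun k : Fi22Cert.U62Act.theta.ker => ((k : Fi22Cert.U62Act.Hsub) : Fi22Cert.pres.Grp)) hn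
    simp only [SubgroupClass.coe_zpow, c, Fi22Cert.U62Act.cen_val] at this
    exact this.symm
  have hsq : Fi22Cert.pres.gen 0 ^ (2 : ℤ) = 1 := by
    rw [zpow_two, Pres.gen_sq Fi22Cert.pres_ok]
  rcases Int.even_or_odd n with ⟨m, rfl⟩ | ⟨m, rfl⟩
  · left; rw [hn', ← two_mul, zpow_mul, hsq, one_zpow]
  · right; rw [hn', zpow_add, zpow_mul, hsq, one_zpow, one_mul, zpow_one]

theorem toU_card : Nat.card toU.ker = 12 := by
  haveI := card_le.1
  have h1 := Subgroup.card_mul_index toU.ker
  rw [Subgroup.index_ker, MonoidHom.range_eq_top.mpr toU_surj,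
    Nat.card_congr (Subgroup.topEquiv (G := SUSix.uperm.range)).toEquiv, SUSix.card_range] at h1
  have h2 := Subgroup.card_mul_index toH.ker
  rw [Subgroup.index_ker, MonoidHom.range_eq_top.mpr toH_surj,
    Nat.card_congr (Subgroup.topEquiv (G := Fi22Cert.U62Act.Hsub)).toEquiv,
    Fi22Cert.U62Act.card_Hsub.2] at h2
  have h3 : Nat.card toH.ker = 6 := by
    rw [← kernel_card, ← Subgroup.card_map_of_injective (f := overU.subtype) Subtype.val_injective]
    refine Nat.card_congr (MulEquiv.subgroupCongr ?_).toEquiv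
    ext k
    constructor
    · rintro ⟨s, hs, rfl⟩
      exact MonoidHom.mem_ker.mpr (congrArg Subtype.val (MonoidHom.mem_ker.mp hs))
    · intro hk
      have hm : k ∈ overU := by rw [Subgroup.mem_comap, MonoidHom.mem_ker.mp hk]; exact one_mem _
      exact ⟨⟨k, hm⟩, MonoidHom.mem_ker.mpr (Subtype.ext (MonoidHom.mem_ker.mp hk)), rfl⟩
  rw [h3] at h2
  exact Nat.eq_of_mul_eq_mul_right (by norm_num : (0 : ℕ) < 9196830720)
    (h1.trans (h2.symm.trans (by norm_num : (6 : ℕ) * 18393661440 = 12 * 9196830720)))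

/-! ### perfectness -/

/-- a word of a conjugate of the transposition -/
def kW (i : ℕ) : List ℕ := U62CovCert.Dat.kC.getD i [] ++ [0] ++ (U62CovCert.Dat.kC.getD i []).reverse

/-- the commuting checks -/
def kCommW : List (List ℕ) := (List.range 8).map fun i => kW i ++ [0] ++ kW i ++ [0]

theorem kComm_one : Fi22Cert.Outer.oneOK kCommW = true := by decide +kernel

theorem kW_sq (i : ℕ) : ((kW i).map pres.gen).prod * ((kW i).map pres.gen).prod = 1 := by
  simp only [kW, List.map_append, List.prod_append, rev_prod, List.map_cons, List.map_nil, List.prod_cons,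
    List.prod_nil, mul_one]
  generalize ((U62CovCert.Dat.kC.getD i []).map pres.gen).prod = c
  calc c * pres.gen 0 * c⁻¹ * (c * pres.gen 0 * c⁻¹) = c * (pres.gen 0 * pres.gen 0) * c⁻¹ := by group
    _ = 1 := by rw [Pres.gen_sq pres_ok]; group

theorem kW_mem {i : ℕ} (hi : i < 8) : ((kW i).map pres.gen).prod ∈ overU := by
  rw [Subgroup.mem_comap, toFi_word, ← Fi22Cert.U62Act.centralizer_eq, Subgroup.mem_centralizer_singleton_iff]
  have h := Fi22Cert.Outer.oneOK_spec kComm_one (w := kW i ++ [0] ++ kW i ++ [0])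
    (List.mem_map.mpr ⟨i, List.mem_range.mpr hi, rfl⟩)
  simp only [List.map_append, List.prod_append, List.map_cons, List.map_nil, List.prod_cons, List.prod_nil,
    mul_one] at h
  have hd : ((kW i).map Fi22Cert.pres.gen).prod * ((kW i).map Fi22Cert.pres.gen).prod = 1 := by
    rw [← toFi_word, ← map_mul, kW_sq, map_one]
  show _ * Fi22Cert.pres.gen 0 = Fi22Cert.pres.gen 0 * _
  generalize ((kW i).map Fi22Cert.pres.gen).prod = d at h hd ⊢
  have hg := Pres.gen_sq Fi22Cert.pres_ok 0
  generalize Fi22Cert.pres.gen 0 = g at h hg ⊢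
  calc d * g = (d * g * d * g) * (g⁻¹ * d⁻¹) := by group
    _ = g * d := by rw [h, one_mul, inv_eq_of_mul_eq_one_left hd, inv_eq_of_mul_eq_one_left hg]

/-- the letters above the stabiliser -/
noncomputable def kU (i : ℕ) : overU := if hi : i < 8 then ⟨_, kW_mem hi⟩ else 1

theorem kU_val {l : List ℕ} (hl : ∀ i ∈ l, i < 8) :
    (((l.map kU).prod : overU) : pres.Grp) = ((l.flatMap kW).map pres.gen).prod := by
  induction l with
  | nil => simp
  | cons a l ih =>
    rw [List.map_cons, List.prod_cons, Subgroup.coe_mul, ih fun i hi => hl i (List.mem_cons_of_mem _ hi),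
      List.flatMap_cons, List.map_append, List.prod_append, kU, dif_pos (hl a (List.mem_cons_self ..))]

/-- all letters occur evenly -/
def evenOK (l : List ℕ) : Bool := l.all (fun i => decide (i < 8) && decide (l.count i % 2 = 0))

theorem even_comm {l : List ℕ} (h : evenOK l = true) (n : ℕ) :
    (l.map kU).prod ^ n ∈ commutator overU := by
  refine Subgroup.pow_mem _ ?_ n
  rw [← Abelianization.ker_of, MonoidHom.mem_ker, map_list_prod, List.map_map, Finset.prod_list_map_count]
  refine Finset.prod_eq_one fun x hx => ?_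
  have hx' := List.all_eq_true.mp h x (List.mem_toFinset.mp hx)
  simp only [Bool.and_eq_true, decide_eq_true_eq] at hx'
  obtain ⟨k, hk⟩ := Nat.dvd_of_mod_eq_zero hx'.2
  rw [hk, pow_mul, Function.comp_apply, pow_two, ← map_mul]
  have : kU x * kU x = 1 := Subtype.ext (by rw [Subgroup.coe_mul, kU, dif_pos hx'.1]; exact kW_sq x)
  rw [this, map_one, one_pow]

/-- the element of order three -/
def threeW : List ℕ := powW 2 (U62CovCert.Dat.evThree.flatMap kW)

/-- the element of order two -/
def twoW : List ℕ := powW 3 (U62CovCert.Dat.evTwo.flatMap kW)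

theorem words_ok : Fi22Cert.Outer.oneOK [threeW, twoW] = true ∧ lettersOK 9 [threeW, twoW] = true ∧
    evenOK U62CovCert.Dat.evThree = true ∧ evenOK U62CovCert.Dat.evTwo = true := by decide +kernel

theorem three_scalar : Mat.wordM threeW = Mat.omC := by decide +kernel

theorem two_moves : Fi23Cert.Mult.oneOK [twoW.map upL ++ twoW.map upL] = true ∧
    ev Fi23Cert.RepA.rows 10 (twoW.map upL) 1 ≠ 1 := by decide +kernel

theorem two_image : orderOf (toFi23 ((twoW.map pres.gen).prod)) = 2 := by
  haveI : Fact (Nat.Prime 2) := ⟨Nat.prime_two⟩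
  have hup : toFi23 ((twoW.map pres.gen).prod) = ((twoW.map upL).map Fi23Cert.pres.gen).prod := by
    rw [toFi23, SpiderCert.homOf_prod, List.map_map]; rfl
  rw [hup]
  refine orderOf_eq_prime ?_ ?_
  · have := Fi23Cert.Mult.oneOK_spec two_moves.1 (List.mem_singleton_self _)
    rwa [List.map_append, List.prod_append, ← pow_two] at this
  · intro e
    have h' := congrArg (fun p => ((Fi23Cert.rep.hom p ⟨1, by decide +kernel⟩ : Fin Fi23Cert.rep.P.n) : ℕ)) e
    simp only [map_one, Equiv.Perm.one_apply] at h'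
    rw [ev_eq Fi23Cert.rep.valid Fi23Cert.pres.gen Fi23Cert.rep.hom Fi23Cert.rep.hom_gen
      (fun x hx => lettersOK_spec (show lettersOK 10 [twoW.map upL] = true by decide +kernel)
        (List.mem_singleton_self _) hx)] at h'
    exact two_moves.2 h'

theorem spE_scalar_eq : Mat.hom spE = Mat.hom ((threeW.map pres.gen).prod) := by
  refine Equiv.ext fun v => Fin.ext ?_
  rw [spE, Mat.hom, SpiderCert.homOf_prod, SpiderCert.homOf_prod, Mat.g_word, Mat.g_word, Mat.spider_scalar,
    three_scalar]

theorem overU_perfect : commutator overU = ⊤ := by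
  haveI := card_le.1
  haveI := Fi22Cert.U62Act.card_Hsub.1
  -- the kernel over the stabiliser lies in the commutator subgroup
  let N : Subgroup pres.Grp := (commutator overU).map overU.subtype ⊓ toFi.ker
  have h3 : ((threeW.map pres.gen).prod) ∈ N := by
    obtain ⟨hone, -, he, -⟩ := words_ok
    refine Subgroup.mem_inf.mpr ⟨⟨_, even_comm he 2, ?_⟩, ?_⟩
    · rw [threeW, prod_powW, ← kU_val (fun i hi => ?_)]
      · rfl
      · have := List.all_eq_true.mp he i hi
        simp only [Bool.and_eq_true, decide_eq_true_eq] at this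
        exact this.1
    · rw [MonoidHom.mem_ker, toFi_word]
      exact Fi22Cert.Outer.oneOK_spec hone (by simp)
  have h2 : ((twoW.map pres.gen).prod) ∈ N := by
    obtain ⟨hone, -, -, he⟩ := words_ok
    refine Subgroup.mem_inf.mpr ⟨⟨_, even_comm he 3, ?_⟩, ?_⟩
    · rw [twoW, prod_powW, ← kU_val (fun i hi => ?_)]
      · rfl
      · have := List.all_eq_true.mp he i hi
        simp only [Bool.and_eq_true, decide_eq_true_eq] at this
        exact this.1
    · rw [MonoidHom.mem_ker, toFi_word]
      exact Fi22Cert.Outer.oneOK_spec hone (by simp)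
  have hN : N = toFi.ker := by
    refine Subgroup.eq_of_le_of_card_ge inf_le_right (kernel_card.le.trans ?_)
    have d2 : 2 ∣ Nat.card N := by
      have := (orderOf_map_dvd toFi23 _).trans (Subgroup.orderOf_dvd_natCard _ h2)
      rwa [two_image] at this
    have d3 : 3 ∣ Nat.card N := by
      have := (orderOf_map_dvd Mat.hom _).trans (Subgroup.orderOf_dvd_natCard _ h3)
      rwa [← spE_scalar_eq, spE_image] at this
    exact Nat.le_of_dvd Nat.card_pos
      (Nat.Coprime.mul_dvd_of_dvd_of_dvd (by norm_num : Nat.Coprime 2 3) d2 d3)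
  -- the rest maps onto the stabiliser, which is perfect
  rw [eq_top_iff]
  intro s _
  have hs : toH s ∈ (commutator overU).map toH := by
    rw [commutator_def, Subgroup.map_commutator, Subgroup.map_top_of_surjective _ toH_surj, ← commutator_def,
      Fi22Cert.SixLift.hsub_perfect]
    exact Subgroup.mem_top _
  obtain ⟨c, hc, hcs⟩ := hs
  have hk : ((c⁻¹ * s : overU) : pres.Grp) ∈ toFi.ker := by
    have e : toH (c⁻¹ * s) = 1 := by rw [map_mul, map_inv, hcs, inv_mul_cancel]
    exact MonoidHom.mem_ker.mpr (congrArg Subtype.val e)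
  rw [← hN] at hk
  obtain ⟨⟨q, hq, hqe⟩, -⟩ := Subgroup.mem_inf.mp hk
  have : c⁻¹ * s ∈ commutator overU := Subtype.ext hqe ▸ hq
  simpa using mul_mem hc this

theorem toU_stem : Cfsg.IsStemExtension toU := by
  refine ⟨toU_surj, fun s hs => Subgroup.mem_center_iff.mpr fun g => ?_,
    fun _ _ => overU_perfect ▸ Subgroup.mem_top _⟩
  apply Subtype.ext
  simp only [Subgroup.coe_mul]
  rcases ker_cases (MonoidHom.mem_ker.mp hs) with h | h
  · exact Subgroup.mem_center_iff.mp (stem.2.1 h) _
  · have hz : (s : pres.Grp) * (pres.gen 0)⁻¹ ∈ toFi.ker := by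
      rw [MonoidHom.mem_ker, map_mul, map_inv, h, toFi_gen, mul_inv_cancel]
    have hc := Subgroup.mem_center_iff.mp (stem.2.1 hz) (g : pres.Grp)
    have he : (s : pres.Grp) = (s : pres.Grp) * (pres.gen 0)⁻¹ * pres.gen 0 := by group
    generalize (s : pres.Grp) * (pres.gen 0)⁻¹ = z at hc he
    rw [he, ← mul_assoc, hc, mul_assoc, gen_zero_comm g.2, ← mul_assoc]

end Cfsg.Agent.Spor.Fi22SixCert
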