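import Cfsg.Agent.Lib.Spor.U62CovBound
import Cfsg.Agent.Lib.Spor.U62CovExist
import Cfsg.Agent.Lib.Lie.CoverUniversal
import Cfsg.Agent.Lib.Spor.PSUTransfer

/-!
The Schur multiplier of the projective unitary group of dimension six over four elements.
-/

set_option autoImplicit false
set_option maxRecDepth 100000

namespace Cfsg.Agent.Spor.U62CovCert

open Fi22SixCert (overU toU zero')

universe u

theorem kernel_equiv : Nonempty (toU.ker ≃* Multiplicative (ZMod 3 × ZMod 2 × ZMod 2)) := by
  haveI := Fi22SixCert.card_le.1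
  obtain ⟨e6⟩ := Fi22SixCert.kernel_cyclic
  have hz : zero' * zero' = 1 :=
    Subtype.ext (CC.Pres.gen_sq Fi22SixCert.pres_ok 0)
  have h2 : ∀ b : Multiplicative (ZMod 2), b = 1 ∨ b = Multiplicative.ofAdd 1 := by decide
  let g : Multiplicative (ZMod 2) →* overU :=
    { toFun := fun b => if b = 1 then 1 else zero'
      map_one' := if_pos rfl
      map_mul' := fun a b => by
        have hne : (Multiplicative.ofAdd (1 : ZMod 2)) ≠ 1 := by decide
        have hsum : (Multiplicative.ofAdd (1 : ZMod 2)) * Multiplicative.ofAdd 1 = 1 := by decide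
        rcases h2 a with rfl | rfl <;> rcases h2 b with rfl | rfl <;> simp [hne, hsum, hz] }
  have hg : ∀ b, g b ∈ toU.ker := by
    intro b
    have h0 : toU zero' = 1 := by
      show Fi22Cert.U62Act.theta (Fi22SixCert.toH zero') = 1
      rw [Fi22SixCert.toH_zero]
      exact MonoidHom.mem_ker.mp Fi22Cert.U62Act.cen_mem_ker
    rw [MonoidHom.mem_ker]
    show toU (if b = 1 then 1 else zero') = 1
    split
    · exact map_one _
    · exact h0
  have hk : ∀ k : Fi22SixCert.toFi.ker, (k : Fi22SixCert.pres.Grp) ∈ overU := fun k => by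
    rw [Subgroup.mem_comap, MonoidHom.mem_ker.mp k.2]
    exact one_mem _
  have hk' : ∀ k : Fi22SixCert.toFi.ker, (⟨_, hk k⟩ : overU) ∈ toU.ker := fun k => by
    rw [MonoidHom.mem_ker]
    show Fi22Cert.U62Act.theta _ = 1
    convert map_one Fi22Cert.U62Act.theta using 2
    exact Subtype.ext (MonoidHom.mem_ker.mp k.2)
  have hcomm : ∀ (x y : toU.ker), x * y = y * x := fun x y =>
    Subtype.ext (Subgroup.mem_center_iff.mp (Fi22SixCert.toU_stem.2.1 y.2) x)
  let f : Fi22SixCert.toFi.ker × Multiplicative (ZMod 2) →* toU.ker :=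
    { toFun := fun p => ⟨⟨_, hk p.1⟩, hk' p.1⟩ * ⟨g p.2, hg p.2⟩
      map_one' := Subtype.ext (by simp)
      map_mul' := fun p q => by
        have e1 : (⟨⟨_, hk (p * q).1⟩, hk' (p * q).1⟩ : toU.ker) =
            ⟨⟨_, hk p.1⟩, hk' p.1⟩ * ⟨⟨_, hk q.1⟩, hk' q.1⟩ := rfl
        have e2 : (⟨g (p * q).2, hg (p * q).2⟩ : toU.ker) = ⟨g p.2, hg p.2⟩ * ⟨g q.2, hg q.2⟩ :=
          Subtype.ext (map_mul g _ _)
        show (⟨⟨_, hk (p * q).1⟩, hk' (p * q).1⟩ : toU.ker) * ⟨g (p * q).2, hg (p * q).2⟩ = _
        rw [e1, e2, mul_assoc, ← mul_assoc _ (⟨g p.2, hg p.2⟩ : toU.ker), hcomm _ ⟨g p.2, hg p.2⟩]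
        group }
  have hinj : Function.Injective f := by
    rw [injective_iff_map_eq_one]
    rintro ⟨k, b⟩ h
    have h' : ((k : Fi22SixCert.pres.Grp) * ((g b : overU) : Fi22SixCert.pres.Grp)) = 1 :=
      congrArg (fun x : toU.ker => ((x : overU) : Fi22SixCert.pres.Grp)) h
    rcases h2 b with rfl | rfl
    · rw [map_one, Subgroup.coe_one, mul_one] at h'
      exact Prod.ext (Subtype.ext h') rfl
    · exfalso
      have hgb : ((g (Multiplicative.ofAdd 1) : overU) : Fi22SixCert.pres.Grp) = Fi22SixCert.pres.gen 0 := by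
        show (((if Multiplicative.ofAdd (1 : ZMod 2) = 1 then 1 else zero' : overU)) : Fi22SixCert.pres.Grp) = _
        rw [if_neg (by decide)]
        rfl
      rw [hgb] at h'
      have e := congrArg Fi22SixCert.toFi h'
      rw [map_mul, MonoidHom.mem_ker.mp k.2, one_mul, map_one, Fi22SixCert.toFi_gen,
        ← Fi22Cert.U62Act.cen_val] at e
      exact Fi22Cert.U62Act.cen_ne_one e
  have hcard : Nat.card (Fi22SixCert.toFi.ker × Multiplicative (ZMod 2)) = Nat.card toU.ker := by
    rw [Nat.card_prod, Fi22SixCert.kernel_card, Fi22SixCert.toU_card,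
      Nat.card_congr (Multiplicative.toAdd (α := ZMod 2)), Nat.card_zmod]
  let eA : ZMod 3 × ZMod 2 × ZMod 2 ≃+ ZMod 6 × ZMod 2 :=
    AddEquiv.prodAssoc.symm.trans
      (((ZMod.chineseRemainder (show Nat.Coprime 3 2 by norm_num)).toAddEquiv.symm).prodCongr (AddEquiv.refl _))
  exact ⟨((MulEquiv.ofBijective f ((Nat.bijective_iff_injective_and_card f).mpr ⟨hinj, hcard⟩)).symm.trans
    ((e6.prodCongr (MulEquiv.refl _)).trans
      (MulEquiv.prodMultiplicative (ZMod 6) (ZMod 2)).symm)).trans eA.symm.toMultiplicative⟩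

theorem multiplier {G : Type u} [Group G] (e : G ≃* R) :
    Cfsg.HasSchurMultiplier G (Multiplicative (ZMod 3 × ZMod 2 × ZMod 2)) := by
  haveI := finite_R
  haveI : Finite G := Finite.of_equiv R e.symm.toEquiv
  haveI := Fi22SixCert.card_le.1
  have hperf : commutator G = ⊤ := by
    have := congrArg (Subgroup.map e.symm.toMonoidHom) R_perfect
    rw [commutator_def, Subgroup.map_commutator, Subgroup.map_top_of_surjective _ e.symm.surjective] at this
    rwa [commutator_def]
  refine Lie.CoverUniversal.hasSchur_of hperf ?_ fun Γ _ _ σ hσ => ?_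
  · obtain ⟨eK⟩ := kernel_equiv
    let π : ULift.{u} overU →* G := e.symm.toMonoidHom.comp (toU.comp MulEquiv.ulift.toMonoidHom)
    have hmem : ∀ x, x ∈ π.ker ↔ x.down ∈ toU.ker := fun x => by
      simp only [MonoidHom.mem_ker, π, MonoidHom.comp_apply, MulEquiv.coe_toMonoidHom,
        EmbeddingLike.map_eq_one_iff]
      rfl
    refine ⟨ULift.{u} overU, inferInstance, inferInstance, π, ⟨?_, ?_, ?_⟩, ⟨?_⟩⟩
    · exact e.symm.surjective.comp (Fi22SixCert.toU_surj.comp MulEquiv.ulift.surjective)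
    · intro x hx
      rw [Subgroup.mem_center_iff]
      intro y
      exact ULift.ext _ _ (Subgroup.mem_center_iff.mp (Fi22SixCert.toU_stem.2.1 ((hmem x).mp hx)) y.down)
    · have h := congrArg (Subgroup.map (MulEquiv.ulift.{0, u} (α := ↥overU)).symm.toMonoidHom)
        Fi22SixCert.overU_perfect
      rw [commutator_def, Subgroup.map_commutator,
        Subgroup.map_top_of_surjective _ MulEquiv.ulift.symm.surjective] at h
      rw [commutator_def, h]
      exact le_top
    · exact MulEquiv.trans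
        { toFun := fun x => ⟨x.1.down, (hmem x.1).mp x.2⟩
          invFun := fun x => ⟨⟨x.1⟩, (hmem _).mpr x.2⟩
          left_inv := fun _ => rfl
          right_inv := fun _ => rfl
          map_mul' := fun _ _ => rfl } eK
  · let E : Shrink.{0} Γ ≃* Γ := Shrink.mulEquiv
    haveI : Finite (Shrink.{0} Γ) := Finite.of_equiv Γ E.symm.toEquiv
    let σ0 : Shrink.{0} Γ →* R := e.toMonoidHom.comp (σ.comp E.toMonoidHom)
    have hmem : ∀ x, x ∈ σ0.ker ↔ E x ∈ σ.ker := fun x => by
      simp only [MonoidHom.mem_ker, σ0, MonoidHom.comp_apply, MulEquiv.coe_toMonoidHom,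
        EmbeddingLike.map_eq_one_iff]
    have h0 : Cfsg.IsStemExtension σ0 := by
      refine ⟨e.surjective.comp (hσ.1.comp E.surjective), fun x hx => ?_, fun x hx => ?_⟩
      · rw [Subgroup.mem_center_iff]
        intro y
        apply E.injective
        rw [map_mul, map_mul]
        exact Subgroup.mem_center_iff.mp (hσ.2.1 ((hmem x).mp hx)) (E y)
      · have := Subgroup.mem_map_of_mem E.symm.toMonoidHom (hσ.2.2 ((hmem x).mp hx))
        rw [commutator_def, Subgroup.map_commutator, Subgroup.map_top_of_surjective _ E.symm.surjective,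
          ← commutator_def] at this
        simpa using this
    have hcard : Nat.card σ0.ker = Nat.card σ.ker :=
      Nat.card_congr (Equiv.subtypeEquiv E.toEquiv hmem)
    rw [← hcard, Nat.card_congr (Multiplicative.toAdd (α := ZMod 3 × ZMod 2 × ZMod 2)), Nat.card_prod,
      Nat.card_prod, Nat.card_zmod, Nat.card_zmod]
    exact kernel_le h0

theorem multiplier_psu {F : Type u} [Field F] [Fintype F] (hF : Fintype.card F = 4) :
    Cfsg.HasSchurMultiplier (Cfsg.PSU 6 F 2) (Multiplicative (ZMod 3 × ZMod 2 × ZMod 2)) := by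
  obtain ⟨e1⟩ := PSUTransfer.psu_congr (n := 6) (q := 2)
    (FiniteField.ringEquivOfCardEq (K := F) (K' := SpFour.F4) (hF.trans SpFour.F4.card.symm))
  obtain ⟨e2⟩ := SUSix.range_equiv
  exact multiplier (e1.trans e2.symm)

end Cfsg.Agent.Spor.U62CovCert
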