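import Cfsg.Agent.Lib.Spor.SpiderMain
import Cfsg.Prelude.Def_Spor_M

/-!
The spider relation implies the six arm relations of the Bimonster.
-/

set_option autoImplicit false
set_option maxRecDepth 100000

namespace Cfsg.Agent.Spor.BimonsterArms

open Cfsg.Agent.Spor.CC

open Cfsg.Spor.Bimonster in
/-- the relators: Coxeter relations and the spider relation -/
abbrev rels : Set (FreeGroup Gen) :=
  Cfsg.Spor.coxRelators edges ∪ {r' | r' ∈ [(a * b1 * c1 * a * b2 * c2 * a * b3 * c3) ^ 10]}

/-- the group with the spider relation alone -/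
abbrev G : Type := PresentedGroup rels

/-- the generator of a node -/
def node (x : Cfsg.Spor.Bimonster.Gen) : G := PresentedGroup.of x

open Cfsg.Spor.Bimonster in
/-- the six placements of the diagram with arms five, three, two -/
def places : List (List Gen) :=
  [[.d2, .c2, .b2, .a, .b1, .c1, .d1, .e1, .b3, .c3, .f1],
   [.d3, .c3, .b3, .a, .b1, .c1, .d1, .e1, .b2, .c2, .f1],
   [.d1, .c1, .b1, .a, .b2, .c2, .d2, .e2, .b3, .c3, .f2],
   [.d3, .c3, .b3, .a, .b2, .c2, .d2, .e2, .b1, .c1, .f2],
   [.d1, .c1, .b1, .a, .b3, .c3, .d3, .e3, .b2, .c2, .f3],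
   [.d2, .c2, .b2, .a, .b3, .c3, .d3, .e3, .b1, .c1, .f3]]

/-- the node at a number -/
def place (T : List Cfsg.Spor.Bimonster.Gen) (x : ℕ) : Cfsg.Spor.Bimonster.Gen := T.getD x .a

/-- labels agree and the nodes are in the graph -/
def placeOK (T : List Cfsg.Spor.Bimonster.Gen) : Bool :=
  ((List.range 11).all fun i => (List.range 11).all fun j =>
    Nat.beq (Cfsg.Spor.coxLabel Cfsg.Spor.Bimonster.edges (place T j) (place T i))
      (Cfsg.Spor.coxLabel SpiderCert.pres.edges (SpiderCert.pres.nm j) (SpiderCert.pres.nm i))) &&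
  ((List.range 11).all fun i => decide (place T i ∈ Cfsg.Spor.coxNodes Cfsg.Spor.Bimonster.edges))

theorem places_ok : places.all placeOK = true := by decide +kernel

/-- values on the numbered nodes -/
def val (T : List Cfsg.Spor.Bimonster.Gen) (x : ℕ) : G := if x < 11 then node (place T x) else 1

theorem cox_one {x y : Cfsg.Spor.Bimonster.Gen} (hx : x ∈ Cfsg.Spor.coxNodes Cfsg.Spor.Bimonster.edges)
    (hy : y ∈ Cfsg.Spor.coxNodes Cfsg.Spor.Bimonster.edges) :
    (node x * node y) ^ Cfsg.Spor.coxLabel Cfsg.Spor.Bimonster.edges x y = 1 :=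
  PresentedGroup.one_of_mem (rels := rels) (Or.inl ⟨x, hx, y, hy, rfl⟩)

theorem node_sq : ∀ x : Cfsg.Spor.Bimonster.Gen, node x * node x = 1 := by
  intro x
  have hx : x ∈ Cfsg.Spor.coxNodes Cfsg.Spor.Bimonster.edges := by cases x <;> decide
  simpa [Cfsg.Spor.coxLabel] using cox_one hx hx

theorem node_inv (x : Cfsg.Spor.Bimonster.Gen) : (node x)⁻¹ = node x :=
  inv_eq_of_mul_eq_one_left (node_sq x)

/-- the relator word of the spider, nine letters -/
def spider9 : List ℕ := [3, 2, 1, 3, 4, 5, 3, 8, 9]

/-- the product along a list of nodes -/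
def along (l : List Cfsg.Spor.Bimonster.Gen) : G := (l.map node).prod

theorem val_rels {T : List Cfsg.Spor.Bimonster.Gen} (hT : T ∈ places)
    (hs : along (spider9.map (place T)) ^ 10 = 1) : ∀ r ∈ SpiderCert.pres.relW, (r.map (val T)).prod = 1 := by
  have h := List.all_eq_true.mp places_ok T hT
  simp only [placeOK, Bool.and_eq_true, List.all_eq_true, List.mem_range, decide_eq_true_iff] at h
  intro r hr
  simp only [Pres.relW, List.mem_append, List.mem_map, List.mem_flatMap, List.mem_range] at hr
  rcases hr with (⟨i, hi, rfl⟩ | ⟨i, hi, j, hj, rfl⟩) | hr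
  · have hi' : i < 11 := hi
    simp [val, hi', node_sq]
  · have hi' : i < 11 := hi
    have hj' : j < 11 := hj.trans hi'
    rw [prod_powW, ← Nat.eq_of_beq_eq_true (h.1 i hi' j hj')]
    simpa [val, hi', hj'] using cox_one (h.2 j hj') (h.2 i hi')
  · simp only [SpiderCert.pres, List.mem_singleton] at hr
    subst hr
    rw [prod_powW]
    refine Eq.trans (congrArg (· ^ 10) ?_) hs
    simp [along, spider9, val]

theorem val_big (T : List Cfsg.Spor.Bimonster.Gen) (x : ℕ) (hx : ¬ x < SpiderCert.pres.ng) : val T x = 1 :=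
  if_neg hx

/-- the placement as a homomorphism -/
noncomputable def psi (T : List Cfsg.Spor.Bimonster.Gen) (hT : T ∈ places)
    (hs : along (spider9.map (place T)) ^ 10 = 1) : SpiderCert.pres.Grp →* G :=
  SpiderCert.homOf SpiderCert.pres_ok (val T) (val_big T) (val_rels hT hs)

theorem psi_word {T : List Cfsg.Spor.Bimonster.Gen} (hT : T ∈ places)
    (hs : along (spider9.map (place T)) ^ 10 = 1) {w : List ℕ} (hw : ∀ x ∈ w, x < 11)
    (h : (w.map SpiderCert.pres.gen).prod = 1) : along (w.map (place T)) = 1 := by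
  have e := congrArg (psi T hT hs) h
  rw [psi, SpiderCert.homOf_prod, map_one] at e
  rw [along, List.map_map, ← e]
  exact congrArg List.prod (List.map_congr_left fun x hx => by simp [val, hw x hx])

theorem along_append (l m : List Cfsg.Spor.Bimonster.Gen) : along (l ++ m) = along l * along m := by
  simp [along]

theorem pow_rotate {l m : List Cfsg.Spor.Bimonster.Gen} (h : along (l ++ m) ^ 10 = 1) :
    along (m ++ l) ^ 10 = 1 := by
  rw [along_append] at h ⊢
  have e : along m * along l = (along l)⁻¹ * (along l * along m) * ((along l)⁻¹)⁻¹ := by group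
  rw [e, conj_pow, h]
  group

open Cfsg.Spor.Bimonster in
theorem spider_std : along [.a, .b1, .c1, .a, .b2, .c2, .a, .b3, .c3] ^ 10 = 1 := by
  have h : PresentedGroup.mk rels ((a * b1 * c1 * a * b2 * c2 * a * b3 * c3) ^ 10) = 1 :=
    PresentedGroup.one_of_mem (Or.inr (List.mem_singleton.mpr rfl))
  rw [← h]
  simp [along, node, PresentedGroup.of, mul_assoc]

open Cfsg.Spor.Bimonster in
theorem spiders : ∀ T ∈ places, along (spider9.map (place T)) ^ 10 = 1 := by
  have r1 : along [.a, .b2, .c2, .a, .b3, .c3, .a, .b1, .c1] ^ 10 = 1 :=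
    pow_rotate (l := [.a, .b1, .c1]) (m := [.a, .b2, .c2, .a, .b3, .c3]) spider_std
  have r2 : along [.a, .b3, .c3, .a, .b1, .c1, .a, .b2, .c2] ^ 10 = 1 :=
    pow_rotate (l := [.a, .b1, .c1, .a, .b2, .c2]) (m := [.a, .b3, .c3]) spider_std
  -- the other orientation
  have hflip : along [.a, .b2, .c2, .a, .b1, .c1, .a, .b3, .c3] ^ 10 = 1 := by
    have h3 := psi_word (T := [.d1, .c1, .b1, .a, .b2, .c2, .d2, .e2, .b3, .c3, .f2]) (by decide)
      (by exact spider_std) (w := SpiderCert.flipW) (by decide +kernel) SpiderCert.flip_one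
    rw [← h3]
    simp [SpiderCert.flipW, along, place, powW, List.replicate, pow_succ, mul_assoc]
  have f1 : along [.a, .b1, .c1, .a, .b3, .c3, .a, .b2, .c2] ^ 10 = 1 :=
    pow_rotate (l := [.a, .b2, .c2]) (m := [.a, .b1, .c1, .a, .b3, .c3]) hflip
  have f2 : along [.a, .b3, .c3, .a, .b2, .c2, .a, .b1, .c1] ^ 10 = 1 :=
    pow_rotate (l := [.a, .b2, .c2, .a, .b1, .c1]) (m := [.a, .b3, .c3]) hflip
  intro T hT
  simp only [places, List.mem_cons, List.not_mem_nil, or_false] at hT
  rcases hT with rfl | rfl | rfl | rfl | rfl | rfl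
  exacts [hflip, r2, spider_std, f2, f1, r1]

theorem arm_rel {T : List Cfsg.Spor.Bimonster.Gen} (hT : T ∈ places) :
    node (place T 10) *
      ((node (place T 3) * node (place T 4) * node (place T 2) * node (place T 8) * node (place T 5) *
        node (place T 1) * node (place T 6)) ^ 9)⁻¹ = 1 := by
  have h := psi_word hT (spiders T hT) (w := SpiderCert.armW) (by decide +kernel) SpiderCert.arm_one
  rw [SpiderCert.armW, SpiderCert.endW, List.map_cons, along, List.map_cons, List.prod_cons] at h
  rw [← inv_pow, ← h]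
  congr 1
  simp only [_root_.mul_inv_rev, node_inv]
  simp [powW, List.replicate, pow_succ, mul_assoc]

open Cfsg.Spor.Bimonster in
theorem extra_one : ∀ r ∈ extra, PresentedGroup.mk rels r = 1 := by
  intro r hr
  simp only [extra, List.mem_cons, List.not_mem_nil, or_false] at hr
  rcases hr with rfl | rfl | rfl | rfl | rfl | rfl | rfl
  · exact PresentedGroup.one_of_mem (Or.inr (List.mem_singleton.mpr rfl))
  all_goals simp only [map_mul, map_inv, map_pow]
  · exact arm_rel (T := places[0]) (by decide)
  · exact arm_rel (T := places[1]) (by decide)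
  · exact arm_rel (T := places[2]) (by decide)
  · exact arm_rel (T := places[3]) (by decide)
  · exact arm_rel (T := places[4]) (by decide)
  · exact arm_rel (T := places[5]) (by decide)

end Cfsg.Agent.Spor.BimonsterArms
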