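import Cfsg.Agent.Lib.Spor.Fi23OutRigidDefs

/-!
Rigidity of the generators among transpositions: checks.
-/

set_option autoImplicit false
set_option maxRecDepth 100000
set_option Elab.async false

namespace Cfsg.Agent.Spor.Fi23Cert.Outer

open Cfsg.Agent.Spor.CC

theorem orb_ok1 : orbOK RepA.rows 10 (stepO 1) = true := by decide +kernel

theorem orb_ok2 : orbOK RepA.rows 10 (stepO 2) = true := by decide +kernel

theorem orb_ok3 : orbOK RepA.rows 10 (stepO 3) = true := by decide +kernel

theorem orb_ok4 : orbOK RepA.rows 10 (stepO 4) = true := by decide +kernel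

theorem orb_ok5 : orbOK RepA.rows 10 (stepO 5) = true := by decide +kernel

theorem orb_ok6 : orbOK RepA.rows 10 (stepO 6) = true := by decide +kernel

theorem orb_ok7 : orbOK RepA.rows 10 (stepO 7) = true := by decide +kernel

theorem orb_ok8 : orbOK RepA.rows 10 (stepO 8) = true := by decide +kernel

theorem orb_ok9 : orbOK RepA.rows 10 (stepO 9) = true := by decide +kernel

end Cfsg.Agent.Spor.Fi23Cert.Outer
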