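import Cfsg.Agent.Lib.Spor.Fi23OutRigidDefs

/-!
Rigidity of the generators among transpositions: checks.
-/

set_option autoImplicit false
set_option maxRecDepth 100000
set_option Elab.async false

namespace Cfsg.Agent.Spor.Fi23Cert.Outer

open Cfsg.Agent.Spor.CC

theorem scan4 : rangeOK scan 8000 2000 = true := by decide +kernel
theorem scan5 : rangeOK scan 10000 2000 = true := by decide +kernel
theorem scan6 : rangeOK scan 12000 2000 = true := by decide +kernel
theorem scan7 : rangeOK scan 14000 2000 = true := by decide +kernel

end Cfsg.Agent.Spor.Fi23Cert.Outer
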