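import Cfsg.Agent.Lib.Spor.Fi23OutRigidDefs

/-!
Rigidity of the generators among transpositions: checks.
-/

set_option autoImplicit false
set_option maxRecDepth 100000
set_option Elab.async false

namespace Cfsg.Agent.Spor.Fi23Cert.Outer

open Cfsg.Agent.Spor.CC

theorem scan12 : rangeOK scan 24000 2000 = true := by decide +kernel
theorem scan13 : rangeOK scan 26000 2000 = true := by decide +kernel
theorem scan14 : rangeOK scan 28000 2000 = true := by decide +kernel
theorem scan15 : rangeOK scan 30000 1671 = true := by decide +kernel

end Cfsg.Agent.Spor.Fi23Cert.Outer
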