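import Cfsg.Agent.Lib.Spor.Fi23OutRigidOrbs0
import Cfsg.Agent.Lib.Spor.Fi23OutRigidOrbs1
import Cfsg.Agent.Lib.Spor.Fi23OutRigidScan0
import Cfsg.Agent.Lib.Spor.Fi23OutRigidScan1
import Cfsg.Agent.Lib.Spor.Fi23OutRigidScan2
import Cfsg.Agent.Lib.Spor.Fi23OutRigidScan3

/-!
Rigidity of the generators among transpositions: checks.
-/

set_option autoImplicit false
set_option maxRecDepth 100000
set_option Elab.async false

namespace Cfsg.Agent.Spor.Fi23Cert.Outer

open Cfsg.Agent.Spor.CC

theorem stray_ok : ((List.range 10).all strayChk) = true := by decide +kernel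

theorem step_small : (∀ i < 10, lettersOK 10 (stepO i).ws = true ∧
      (stepO i).b = genP.getD (order.getD i 0) 0 ∧ (stepO i).b < 31671 ∧
      fixOK RepA.rows 10 (stepO i).ws ((order.take i).map fun y => genP.getD y 0) = true) ∧
    (∀ x < 10, ev RepA.rows 10 (Mult.gC.getD x []) 0 = genP.getD x 0) ∧
    (∀ x < 10, x ∈ order) ∧ order.length = 10 ∧ (∀ x ∈ order, x < 10) ∧
    (∀ i < 10, (strayOf i).length ≤ 10 - i) := by
  decide +kernel

theorem orbs_ok : ∀ i < 10, orbOK RepA.rows 10 (stepO i) = true := by
  intro i hi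
  interval_cases i
  exacts [orb_ok0, orb_ok1, orb_ok2, orb_ok3, orb_ok4, orb_ok5, orb_ok6, orb_ok7, orb_ok8, orb_ok9]

theorem step_facts : (∀ i < 10, orbOK RepA.rows 10 (stepO i) = true ∧ lettersOK 10 (stepO i).ws = true ∧
      (stepO i).b = genP.getD (order.getD i 0) 0 ∧ (stepO i).b < 31671 ∧
      fixOK RepA.rows 10 (stepO i).ws ((order.take i).map fun y => genP.getD y 0) = true) ∧
    (∀ x < 10, ev RepA.rows 10 (Mult.gC.getD x []) 0 = genP.getD x 0) ∧
    (∀ x < 10, x ∈ order) ∧ order.length = 10 ∧ (∀ x ∈ order, x < 10) ∧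
    (∀ i < 10, (strayOf i).length ≤ 10 - i) :=
  ⟨fun i hi => ⟨orbs_ok i hi, step_small.1 i hi⟩, step_small.2⟩

theorem scan_all {p : ℕ} (h : p < 31671) : scan p = true := by
  by_cases h0 : p < 2000; · exact all_range scan0 (Nat.zero_le _) h0
  by_cases h1 : p < 4000; · exact all_range scan1 (by omega) h1
  by_cases h2 : p < 6000; · exact all_range scan2 (by omega) h2
  by_cases h3 : p < 8000; · exact all_range scan3 (by omega) h3
  by_cases h4 : p < 10000; · exact all_range scan4 (by omega) h4
  by_cases h5 : p < 12000; · exact all_range scan5 (by omega) h5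
  by_cases h6 : p < 14000; · exact all_range scan6 (by omega) h6
  by_cases h7 : p < 16000; · exact all_range scan7 (by omega) h7
  by_cases h8 : p < 18000; · exact all_range scan8 (by omega) h8
  by_cases h9 : p < 20000; · exact all_range scan9 (by omega) h9
  by_cases h10 : p < 22000; · exact all_range scan10 (by omega) h10
  by_cases h11 : p < 24000; · exact all_range scan11 (by omega) h11
  by_cases h12 : p < 26000; · exact all_range scan12 (by omega) h12
  by_cases h13 : p < 28000; · exact all_range scan13 (by omega) h13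
  by_cases h14 : p < 30000; · exact all_range scan14 (by omega) h14
  exact all_range scan15 (by omega) h

end Cfsg.Agent.Spor.Fi23Cert.Outer
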