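import Cfsg.Agent.Lib.Spor.Fi23OutClass
import Cfsg.Agent.Lib.Spor.Fi23OutRigidCheck
import Cfsg.Prelude.Def_KGroupFacts

/-!
Every automorphism of Fi23 is inner.
-/

set_option autoImplicit false
set_option maxRecDepth 100000

namespace Cfsg.Agent.Spor.Fi23Cert.Outer

open Cfsg.Agent.Spor.CC
open Cfsg.Agent.Spor.Fi23Cert.Below

theorem isPt_gen {x : ℕ} (hx : x < 10) : IsPt (pres.gen x) (genP.getD x 0) := by
  refine ⟨_, (Mult.gC_spec hx).symm, ?_⟩
  rw [ev_eq rep.valid pres.gen rep.hom rep.hom_gen (fun y hy => by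
    by_cases hl : x < Mult.gC.length
    · exact lettersOK_spec genC_root.2 (by rw [List.getD_eq_getElem _ _ hl]; exact List.getElem_mem hl) hy
    · rw [List.getD_eq_default _ _ (by omega)] at hy; cases hy)]
  exact step_facts.2.1 x hx

theorem commB_iff {x y : ℕ} (hx : x < 10) (hy : y < 10) :
    pres.gen x * pres.gen y = pres.gen y * pres.gen x ↔ commB x y = true := by
  rw [(isPt_gen hy).commute_iff, Fin.ext_iff, rep.hom_gen x hx, rep.P.perm_val rep.valid hx]
  exact (Iff.of_eq Nat.beq_eq).symm

section

variable (f : pres.Grp ≃* pres.Grp)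

theorem pattern {x y : ℕ} (hx : x < 10) (hy : y < 10) {p : ℕ} {e : pres.Grp} (hfe : f (pres.gen y) = e)
    (hp : IsPt (f (pres.gen x)) p) {q : ℕ} (hq : IsPt e q) (hne : x ≠ y) :
    (p ≠ q) ∧ ((rep.hom e ⟨p, hp.lt⟩ : Fin rep.P.n) = ⟨p, hp.lt⟩ ↔ commB y x = true) := by
  refine ⟨fun h => ?_, ?_⟩
  · subst h
    have e1 : f (pres.gen x) = f (pres.gen y) := hp.inj (hfe ▸ hq)
    have e2 := (isPt_gen hx).unique (f.injective e1 ▸ isPt_gen hy)
    have : ∀ a < 10, ∀ b < 10, genP.getD a 0 = genP.getD b 0 → a = b := by decide +kernel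
    exact hne (this x hx y hy e2)
  · rw [← hp.commute_iff e, ← commB_iff hy hx, ← hfe, ← map_mul, ← map_mul, f.injective.eq_iff]

theorem dead_sound (hfD : ∀ x < 10, f (pres.gen x) ∈ conjugatesOf tA) :
    ∀ (rest : List (ℕ × List (ℕ × List ℕ))) (asg : List (ℕ × ℕ × List ℕ)), dead rest asg = true →
      (∀ zl ∈ rest, zl.1 < 10 ∧ (∀ e ∈ zl.2, lettersOK 10 [e.2] = true ∧ ev RepA.rows 10 e.2 8004 = e.1) ∧
        ∀ p, IsPt (f (pres.gen zl.1)) p → ∃ e ∈ zl.2, e.1 = p) →
      (rest.map Prod.fst ++ asg.map Prod.fst).Nodup →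
      (∀ a ∈ asg, a.1 < 10 ∧ lettersOK 10 [a.2.2] = true ∧ ev RepA.rows 10 a.2.2 8004 = a.2.1 ∧
        IsPt (f (pres.gen a.1)) a.2.1) → False
  | [], _, h, _, _, _ => by simp [dead] at h
  | (z, l) :: rest, asg, h, hrest, hnd, hasg => by
    obtain ⟨hz, hl, hcov⟩ := hrest (z, l) (by simp)
    obtain ⟨p, hp⟩ := exists_pt (hfD z hz)
    obtain ⟨e, he, hep⟩ := hcov p hp
    subst hep
    simp only [dead, List.all_eq_true, Bool.or_eq_true, Bool.not_eq_true'] at h
    simp only [List.map_cons, List.cons_append, List.nodup_cons] at hnd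
    rcases h e he with hbad | hgo
    · have hall : asg.all (okC z e) = true := by
        rw [List.all_eq_true]
        intro a ha
        obtain ⟨ha10, hal, hae, hap⟩ := hasg a ha
        have hne : z ≠ a.1 := fun e' => hnd.1 (List.mem_append.mpr (Or.inr (e' ▸ List.mem_map_of_mem ha)))
        have hcj : f (pres.gen a.1) = transp a.2.2 := hap.inj (hae ▸ isPt_transp hal)
        obtain ⟨h1, h2⟩ := pattern f hz ha10 hcj hp (hae ▸ isPt_transp hal) hne
        have hwl : ∀ x ∈ tW a.2.2, x < 10 := by
          intro x hx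
          simp only [tW, List.mem_append, List.mem_singleton, List.mem_reverse] at hx
          rcases hx with (h | rfl) | h
          · exact lettersOK_spec hal (List.mem_singleton_self _) h
          · norm_num
          · exact lettersOK_spec hal (List.mem_singleton_self _) h
        rw [Fin.ext_iff] at h2
        simp only [transp, ev_eq rep.valid pres.gen rep.hom rep.hom_gen hwl] at h2
        simp only [okC, Bool.and_eq_true, Bool.not_eq_true', beq_iff_eq]
        refine ⟨Bool.eq_false_iff.mpr fun hb => h1 (Nat.eq_of_beq_eq_true hb), ?_⟩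
        apply Bool.eq_iff_iff.mpr
        rw [Nat.beq_eq]
        exact h2
      rw [hall] at hbad
      cases hbad
    · refine dead_sound hfD rest ((z, e) :: asg) hgo (fun zl h => hrest zl (by simp [h])) ?_ ?_
      · rw [List.map_cons]
        exact List.perm_middle.nodup_iff.mpr (List.nodup_cons.mpr hnd)
      · intro a ha
        rcases List.mem_cons.mp ha with rfl | ha
        · exact ⟨hz, (hl e he).1, (hl e he).2, hp⟩
        · exact hasg a ha

end

theorem zip_fst_sublist {α β : Type} : ∀ (l : List α) (m : List β), ((l.zip m).map Prod.fst).Sublist l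
  | [], _ => by simp
  | _ :: _, [] => by simp
  | a :: l, b :: m => (zip_fst_sublist l m).cons_cons a

theorem rigid (φ : MulAut pres.Grp) : ∀ i, i ≤ 10 → ∃ g : pres.Grp, ∀ y ∈ order.take i,
    g * φ (pres.gen y) * g⁻¹ = pres.gen y
  | 0, _ => ⟨1, by simp⟩
  | i + 1, hi => by
    obtain ⟨g, hg⟩ := rigid φ i (by omega)
    let f : pres.Grp ≃* pres.Grp := φ.trans (MulAut.conj g)
    have hfy : ∀ y ∈ order.take i, f (pres.gen y) = pres.gen y := fun y hy => by
      show g * φ (pres.gen y) * g⁻¹ = pres.gen y
      exact hg y hy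
    have hfD : ∀ x < 10, f (pres.gen x) ∈ conjugatesOf tA := fun x hx => by
      have h1 : IsConj (φ tA) (φ (pres.gen x)) := MonoidHom.map_isConj φ.toMonoidHom (gen_mem_class hx)
      exact IsConj.trans (class_invariant φ) (IsConj.trans h1 (isConj_iff.mpr ⟨g, rfl⟩))
    obtain ⟨hsteps, -, -, hlen, hord, hslen⟩ := step_facts
    have hi' : i < order.length := by omega
    set x := order.getD i 0 with hxdef
    have hxe : x = order[i] := List.getD_eq_getElem _ _ hi'
    have hx : x < 10 := hord x (hxe ▸ List.getElem_mem hi')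
    have hnd : order.Nodup := by decide
    have hnotin : ∀ k, i ≤ k → k < order.length → ∀ y ∈ order.take i, order.getD k 0 ≠ y := by
      intro k hk hk' y hy e
      obtain ⟨j, hj, rfl⟩ := List.mem_iff_getElem.mp hy
      rw [List.getD_eq_getElem _ _ hk', List.getElem_take] at e
      have := (hnd.getElem_inj_iff).mp e
      simp only [List.length_take] at hj
      omega
    have hpat : ∀ k, i ≤ k → k < order.length → ∀ p, IsPt (f (pres.gen (order.getD k 0))) p →
        pat (order.take i) (order.getD k 0) p = true := by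
      intro k hk hk' p hp
      have hz : order.getD k 0 < 10 := hord _ (by rw [List.getD_eq_getElem _ _ hk']; exact List.getElem_mem hk')
      rw [pat, List.all_eq_true]
      intro y hy
      have hy10 : y < 10 := hord y (List.mem_of_mem_take hy)
      obtain ⟨h1, h2⟩ := pattern f hz hy10 (hfy y hy) hp (isPt_gen hy10) (hnotin k hk hk' y hy)
      rw [Fin.ext_iff, rep.hom_gen y hy10, rep.P.perm_val rep.valid hy10] at h2
      simp only [Bool.and_eq_true, Bool.not_eq_true', beq_iff_eq]
      refine ⟨Bool.eq_false_iff.mpr fun hb => h1 (Nat.eq_of_beq_eq_true hb), ?_⟩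
      apply Bool.eq_iff_iff.mpr
      rw [Nat.beq_eq]
      exact h2
    obtain ⟨p, hp⟩ := exists_pt (hfD x hx)
    have hscan : ∀ q, q < 31671 → ∀ k, k < 10 → _ := fun q hq k hk =>
      List.all_eq_true.mp (show (List.range 10).all _ = true from scan_all hq) k (List.mem_range.mpr hk)
    have hs := hscan p hp.lt i (by omega)
    simp only [Bool.and_eq_true, Bool.or_eq_true, Bool.not_eq_true'] at hs
    rcases hs.1 with (hno | horb) | hstray
    · rw [hpat i le_rfl hi' p hp] at hno
      cases hno
    · obtain ⟨hO, hl, hb, hblt, hfix⟩ := hsteps i (by omega)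
      simp only [inOrb, Bool.and_eq_true] at horb
      obtain ⟨s, hs', hse⟩ := orb_mem rep.valid pres.gen rep.hom rep.hom_gen hO hl
        (Subgroup.closure {t | ∃ w ∈ (stepO i).ws, t = (w.map pres.gen).prod})
        (fun w hw => Subgroup.subset_closure ⟨w, hw, rfl⟩) ⟨(stepO i).b, hblt⟩ rfl _
        (Nat.le_of_ble_eq_true horb.1)
      rw [Nat.eq_of_beq_eq_true horb.2] at hse
      have hcomm : ∀ y ∈ order.take i, s * pres.gen y = pres.gen y * s := by
        intro y hy
        have hy10 : y < 10 := hord y (List.mem_of_mem_take hy)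
        have : Subgroup.closure {t | ∃ w ∈ (stepO i).ws, t = (w.map pres.gen).prod} ≤
            Subgroup.centralizer ({pres.gen y} : Set pres.Grp) := by
          rw [Subgroup.closure_le]
          rintro _ ⟨w, hw, rfl⟩
          rw [SetLike.mem_coe, Subgroup.mem_centralizer_singleton_iff, (isPt_gen hy10).commute_iff]
          apply Fin.ext
          rw [ev_eq rep.valid pres.gen rep.hom rep.hom_gen (fun z hz => lettersOK_spec hl hw hz)]
          exact Nat.eq_of_beq_eq_true (List.all_eq_true.mp (List.all_eq_true.mp hfix w hw)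
            (genP.getD y 0) (List.mem_map.mpr ⟨y, hy, rfl⟩))
        exact Subgroup.mem_centralizer_singleton_iff.mp (this hs')
      have hfx : f (pres.gen x) = s * pres.gen x * s⁻¹ := by
        refine hp.inj ?_
        have h1 := (isPt_gen hx).conj s (isPt_gen hx).lt
        have hbx : (⟨(stepO i).b, hblt⟩ : Fin rep.P.n) = ⟨genP.getD x 0, (isPt_gen hx).lt⟩ := Fin.ext hb
        rw [hbx] at hse
        rwa [hse] at h1
      refine ⟨s⁻¹ * g, fun y hy => ?_⟩
      have hgo : ∀ a, s⁻¹ * g * φ a * (s⁻¹ * g)⁻¹ = s⁻¹ * f a * s := fun a => by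
        show _ = s⁻¹ * (g * φ a * g⁻¹) * s
        group
      rw [hgo]
      rw [List.take_succ_eq_append_getElem hi', List.mem_append, List.mem_singleton] at hy
      rcases hy with hy | rfl
      · rw [hfy y hy, mul_assoc, ← hcomm y hy]; group
      · rw [← hxe, hfx]; group
    · exfalso
      have hst : strayChk i = true := List.all_eq_true.mp stray_ok i (List.mem_range.mpr (by omega))
      simp only [strayChk, Bool.and_eq_true, List.all_eq_true] at hst
      obtain ⟨hent, hdead⟩ := hst
      rw [List.any_eq_true] at hstray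
      obtain ⟨e, he, hep⟩ := hstray
      have hep' : e.1 = p := Nat.eq_of_beq_eq_true hep
      have he' : ∀ l ∈ strayOf i, ∀ a ∈ l, lettersOK 10 [a.2] = true ∧ ev RepA.rows 10 a.2 8004 = a.1 :=
        fun l hl a ha => ⟨(hent l hl a ha).1, Nat.eq_of_beq_eq_true (hent l hl a ha).2⟩
      have hne : strayOf i ≠ [] := fun e0 => by rw [e0] at he; cases he
      have hhead : (strayOf i).headD [] ∈ strayOf i := by
        cases hc : strayOf i with
        | nil => exact absurd hc hne
        | cons a t => simp
      refine dead_sound f hfD _ _ (hdead e he) ?_ ?_ ?_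
      · intro zl hzl
        obtain ⟨k, hk, rfl⟩ := List.mem_iff_getElem.mp hzl
        simp only [List.length_zip, List.length_drop, List.length_tail] at hk
        simp only [List.getElem_zip, List.getElem_drop, List.getElem_tail]
        have hk1 : i + 1 + k < order.length := by omega
        refine ⟨hord _ (List.getElem_mem hk1), he' _ (List.getElem_mem _), fun q hq => ?_⟩
        rw [← List.getD_eq_getElem _ 0 hk1] at hq
        have hs2 := hscan q hq.lt i (by omega)
        simp only [Bool.and_eq_true, Bool.or_eq_true, Bool.not_eq_true', List.all_eq_true] at hs2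
        rcases hs2.2 k (List.mem_range.mpr (by omega)) with hno | hin
        · rw [hpat _ (by omega) hk1 q hq] at hno
          cases hno
        · rw [List.any_eq_true] at hin
          obtain ⟨a, ha, haq⟩ := hin
          rw [List.getD_eq_getElem _ _ (by omega)] at ha
          exact ⟨a, ha, Nat.eq_of_beq_eq_true haq⟩
      · have key : ∀ a < 10, (order.drop (a + 1) ++ [order.getD a 0]).Nodup := by decide
        exact ((zip_fst_sublist _ _).append (List.Sublist.refl _)).nodup (key i (by omega))
      · intro a ha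
        rw [List.mem_singleton] at ha
        subst ha
        exact ⟨hx, (he' _ hhead e he).1, (he' _ hhead e he).2, hep' ▸ hp⟩

theorem card_out : Nat.card (Cfsg.Out pres.Grp) = 1 := by
  have hinner : ∀ φ : MulAut pres.Grp, φ ∈ Cfsg.Inn pres.Grp := by
    intro φ
    obtain ⟨g, hg⟩ := rigid φ 10 le_rfl
    refine ⟨g⁻¹, MulEquiv.ext fun a => ?_⟩
    have hhom : ((MulAut.conj g⁻¹ : MulAut pres.Grp).toMonoidHom : pres.Grp →* pres.Grp) = φ.toMonoidHom := by
      refine MonoidHom.eq_of_eqOn_dense (Pres.closure_gen pres_ok) ?_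
      rintro _ ⟨x, hx, rfl⟩
      have h := hg x (by
        rw [List.take_of_length_le (by rw [step_facts.2.2.2.1])]
        exact step_facts.2.2.1 x hx)
      show g⁻¹ * pres.gen x * g⁻¹⁻¹ = φ (pres.gen x)
      calc g⁻¹ * pres.gen x * g⁻¹⁻¹ = g⁻¹ * (g * φ (pres.gen x) * g⁻¹) * g := by rw [h]; group
        _ = φ (pres.gen x) := by group
    exact DFunLike.congr_fun hhom a
  haveI : Subsingleton (Cfsg.Out pres.Grp) := by
    refine ⟨fun a b => ?_⟩
    induction a using QuotientGroup.induction_on with
    | H a => induction b using QuotientGroup.induction_on with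
      | H b => exact QuotientGroup.eq.mpr (hinner _)
  exact Nat.card_of_subsingleton (1 : Cfsg.Out pres.Grp)

end Cfsg.Agent.Spor.Fi23Cert.Outer
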