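import Cfsg.Agent.Lib.Spor.M24RelConn
import Cfsg.Agent.Lib.Spor.Fi23OutMain

/-!
In type M(24), only the powers of a member centralise all the members commuting with it.
-/

set_option autoImplicit false
set_option maxRecDepth 100000
set_option linter.unusedSectionVars false

namespace Cfsg.Agent.Spor.M24Rel.Fix

open Cfsg.Agent.Spor.M22U (nset)
open Cfsg.Agent.Spor.M23Rel
open Cfsg.Agent.Spor.M23Rel.Fix (dsub_top autH autQ autQ_mk autQ_mem)

theorem inner_fi23 (φ : MulAut Fi23Cert.pres.Grp) : ∃ g, MulAut.conj g = φ := by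
  haveI : (Cfsg.Inn Fi23Cert.pres.Grp).Normal := by
    constructor
    rintro _ ⟨g, rfl⟩ ψ
    exact ⟨ψ g, MulEquiv.ext fun y => by simp⟩
  have h := (Nat.card_eq_one_iff_unique.mp Fi23Cert.Outer.card_out).1
  have h' : (QuotientGroup.mk φ : Cfsg.Out Fi23Cert.pres.Grp) = 1 := Subsingleton.elim _ _
  exact (QuotientGroup.eq_one_iff φ).mp h'

/-- automorphisms of a group of type M(23) are inner -/
theorem inner_X {X : Type*} [Group X] [Finite X] {E : Set X} (hE : Cfsg.IsThreeTranspositionGroup E)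
    (hp : Cfsg.IsPrimitiveUnderConj E) (ht : Cfsg.IsOfTypeM23 X E) (φ : X ≃* X) :
    ∃ g, ∀ x, φ x = g * x * g⁻¹ := by
  obtain ⟨e, -⟩ := Iso.iso_fi23 hE hp ht
  obtain ⟨g, hg⟩ := inner_fi23 ((e.trans φ).trans e.symm)
  refine ⟨e g, fun x => ?_⟩
  have := congrArg e (DFunLike.congr_fun hg (e.symm x))
  simp only [MulAut.conj_apply, map_mul, map_inv, MulEquiv.apply_symm_apply, MulEquiv.trans_apply] at this
  exact this.symm

/-- an automorphism fixing a member and the members commuting with it is trivial or conjugation by it -/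
theorem aut_dichotomy {X : Type*} [Group X] [Finite X] {E : Set X} (hE : Cfsg.IsThreeTranspositionGroup E)
    (hp : Cfsg.IsPrimitiveUnderConj E) (ht : Cfsg.IsOfTypeM23 X E) {a : X} (ha : a ∈ E) (φ : X ≃* X)
    (hfa : φ a = a) (hfix : ∀ y ∈ E, Commute a y → φ y = y) :
    (∀ x, φ x = x) ∨ ∀ x, φ x = a * x * a⁻¹ := by
  obtain ⟨g, hg⟩ := inner_X hE hp ht φ
  set C := Subgroup.centralizer ({a} : Set X)
  have hgC : g ∈ C := Subgroup.mem_centralizer_singleton_iff.mpr (mul_inv_eq_iff_eq_mul.mp ((hg a).symm.trans hfa))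
  have hcl := Facts.closure_cent hE hp ht ha
  have hcs : ∀ y ∈ C, Commute g y := by
    intro y hy
    rw [show C = _ from hcl.symm] at hy
    induction hy using Subgroup.closure_induction with
    | mem u hu => exact mul_inv_eq_iff_eq_mul.mp ((hg u).symm.trans (hfix u hu.1 hu.2.2))
    | one => exact Commute.one_right g
    | mul u v _ _ iu iv => exact iu.mul_right iv
    | inv u _ iu => exact iu.inv_right
  have hz : (⟨g, hgC⟩ : C) ∈ Subgroup.center C :=
    Subgroup.mem_center_iff.mpr fun y => Subtype.ext (hcs y y.2).eq.symm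
  rw [Facts.center_cent hE hp ht ha, Subgroup.mem_subgroupOf, Subgroup.mem_zpowers_iff] at hz
  obtain ⟨n, hn⟩ := hz
  have haa := mul_self_of_order_two (hE.1.1 a ha)
  have hn' : a ^ n = g := hn
  rcases Int.even_or_odd' n with ⟨k, rfl | rfl⟩
  · left
    intro x
    rw [hg x, ← hn', zpow_mul, zpow_two, haa, one_zpow]
    simp
  · right
    intro x
    rw [hg x, ← hn', zpow_add, zpow_mul, zpow_two, haa, one_zpow, one_mul, zpow_one]

/-- the standing hypotheses -/
structure Setting {G : Type*} [Group G] (D : Set G) (d : G) : Prop where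
  hD : Cfsg.IsThreeTranspositionGroup D
  prim : Cfsg.IsPrimitiveUnderConj D
  mem : d ∈ D
  center : Subgroup.center G = ⊥
  sep : Sep D
  next : Cfsg.IsOfTypeM23 _ (nextSet D d)
  relSix : NoRel 6 D

variable {G : Type*} [Group G] [Finite G] {D : Set G} {d : G}

theorem type23_congr {A B : Type*} [Group A] [Group B] (e : A ≃* B) {E : Set A} (h : Cfsg.IsOfTypeM23 A E) :
    Cfsg.IsOfTypeM23 B (e '' E) := by
  obtain ⟨hZ, d, hd, c, hc, hnc, h22, c₃, hc₃, Q, hQ, hμ, ⟨ψ⟩⟩ := h
  refine ⟨?_, e d, ⟨d, hd, rfl⟩, e c, ⟨c, hc, rfl⟩, fun h => hnc ?_, ?_, c₃, hc₃, Q, hQ, hμ, ⟨?_⟩⟩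
  · rw [Subgroup.eq_bot_iff_forall]
    intro z hz
    rw [Subgroup.mem_center_iff] at hz
    have : e.symm z ∈ Subgroup.center A := Subgroup.mem_center_iff.mpr fun u =>
      e.injective (by rw [map_mul, map_mul, e.apply_symm_apply, hz])
    rw [hZ, Subgroup.mem_bot] at this
    rw [← e.apply_symm_apply z, this, map_one]
  · exact e.injective (by rw [map_mul, map_mul]; exact h.eq)
  · have h' := M23Rel.Shift.type22_congr (M23Rel.Shift.cq (M23Rel.Shift.clEquiv e (M23Rel.Shift.map_nset e E d))) h22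
    convert h' using 1
    ext q
    constructor
    · rintro ⟨y, hy, rfl⟩
      have hy' : (y : B) ∈ e '' nset E d := by rw [M23Rel.Shift.map_nset]; exact hy
      obtain ⟨u, hu, hue⟩ := hy'
      exact ⟨QuotientGroup.mk ⟨u, Subgroup.subset_closure hu⟩, ⟨_, hu, rfl⟩,
        (M23Rel.Shift.cq_mk _ _).trans (congrArg QuotientGroup.mk (Subtype.ext hue))⟩
    · rintro ⟨_, ⟨u, hu, rfl⟩, rfl⟩
      refine ⟨M23Rel.Shift.clEquiv e (M23Rel.Shift.map_nset e E d) u, ?_, (M23Rel.Shift.cq_mk _ _).symm⟩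
      show ((M23Rel.Shift.clEquiv e (M23Rel.Shift.map_nset e E d) u :
        ↥(Subgroup.closure (nset (e '' E) (e d)))) : B) ∈ nset (e '' E) (e d)
      rw [M23Rel.Shift.clEquiv_val, ← M23Rel.Shift.map_nset]
      exact ⟨_, hu, rfl⟩
  · exact (M23Rel.Shift.cq (M23Rel.Shift.clEquiv e (M23Rel.Shift.map_nset_inter e E d c))).symm.trans ψ

theorem setting_of (hD : Cfsg.IsThreeTranspositionGroup D) (hprim : Cfsg.IsPrimitiveUnderConj D)
    (ht : Cfsg.IsOfTypeM24 G D) {x : G} (hx : x ∈ D) : Setting D x := by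
  have hrel := Top.noRel_group hD hprim (Or.inr ht)
  obtain ⟨hZ, d, hd, c, hc, hnc, h23, -⟩ := ht
  have hsep : Sep D := by
    intro a ha b hb _ _ hab
    rcases relation_dichotomy hD hprim (SameV D) (fun _ _ _ _ => Iff.rfl) (fun _ _ _ _ h => h.symm)
        (fun _ _ _ _ _ _ h h' => h.trans h') (fun g _ _ _ _ h => h.conj hD.2.1 g) with h | h
    · exact h a ha b hb hab
    · exact absurd ((h d hd c hc).commute hd) hnc
  obtain ⟨g, hg⟩ := hprim.1 d hd x hx
  have hconj : (MulAut.conj g : G ≃* G) '' D = D := by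
    ext y
    constructor
    · rintro ⟨u, hu, rfl⟩; exact hD.2.1 g u hu
    · intro hy
      exact ⟨g⁻¹ * y * g, (Spor.conj_mem_iff hD.2.1 g).1 hy, by
        show g * (g⁻¹ * y * g) * g⁻¹ = y; group⟩
  have hset : (MulAut.conj g : G ≃* G) '' nset D d = nset D x := by
    rw [M23Rel.Shift.map_nset, hconj]
    exact congrArg (nset D) hg
  refine ⟨hD, hprim, hx, hZ, hsep, ?_, hrel.2⟩
  have h := type23_congr (M23Rel.Shift.cq (M23Rel.Shift.clEquiv (MulAut.conj g) hset)) h23
  convert h using 1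
  ext q
  constructor
  · rintro ⟨y, hy, rfl⟩
    have hy' : (y : G) ∈ (MulAut.conj g : G ≃* G) '' nset D d := by rw [hset]; exact hy
    obtain ⟨u, hu, hue⟩ := hy'
    exact ⟨QuotientGroup.mk ⟨u, Subgroup.subset_closure hu⟩, ⟨_, hu, rfl⟩,
      (M23Rel.Shift.cq_mk _ _).trans (congrArg QuotientGroup.mk (Subtype.ext hue))⟩
  · rintro ⟨_, ⟨u, hu, rfl⟩, rfl⟩
    refine ⟨M23Rel.Shift.clEquiv (MulAut.conj g) hset u, ?_, (M23Rel.Shift.cq_mk _ _).symm⟩
    show ((M23Rel.Shift.clEquiv (MulAut.conj g) hset u : ↥(Subgroup.closure (nset D x))) : G) ∈ nset D x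
    rw [M23Rel.Shift.clEquiv_val, ← hset]
    exact ⟨_, hu, rfl⟩

namespace Setting

variable (S : Setting D d)
include S

theorem pre : Pre D := pre_of_group S.hD

theorem ne_one : ∀ e ∈ D, e ≠ 1 := fun e he h1 => by
  have := S.hD.1.1 e he
  rw [h1, orderOf_one] at this
  norm_num at this

theorem one : M23Rel.One D := fun a ha b hb _ _ => S.prim.1 a ha b hb

theorem next_ne : ∀ f ∈ nextSet D d, f ≠ 1 := next_ne_one S.pre S.ne_one S.one S.sep S.mem

theorem group : Cfsg.IsThreeTranspositionGroup (nextSet D d) :=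
  next_group S.pre S.ne_one S.one S.sep S.mem

theorem next_prim : Cfsg.IsPrimitiveUnderConj (nextSet D d) := M24Rel.Conn.primitive23 S.group S.next

/-- the image of a member -/
abbrev img (_S : Setting D d) (y : G) (hy : y ∈ nset D d) :
    ↥(Subgroup.closure (nset D d)) ⧸ Subgroup.center ↥(Subgroup.closure (nset D d)) :=
  QuotientGroup.mk ⟨y, Subgroup.subset_closure hy⟩

theorem img_mem {y : G} (hy : y ∈ nset D d) : S.img y hy ∈ nextSet D d := ⟨_, hy, rfl⟩

theorem img_inj {y z : G} (hy : y ∈ nset D d) (hz : z ∈ nset D d) (h : S.img y hy = S.img z hz) : y = z :=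
  mk_inj S.pre d hy hz (S.next_ne _ (S.img_mem hy)) h

theorem exists_member : ∃ y, y ∈ nset D d := by
  obtain ⟨-, _, ⟨x, hx, -⟩, -⟩ := S.next
  exact ⟨x, hx⟩

/-- only 1 and the member centralise the members commuting with it -/
theorem fix_ext {w : G} (hw : Commute w d) (h : ∀ y ∈ nset D d, Commute w y) : w = 1 ∨ w = d := by
  have hE := S.pre
  obtain ⟨y0, hy0⟩ := S.exists_member
  obtain ⟨g, hg⟩ := S.prim.1 y0 hy0.1 d S.mem
  set a := g * d * g⁻¹ with hadef
  have ha : a ∈ nset D d := by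
    refine ⟨hE.conj g d S.mem, fun e => hy0.2.1 ?_, ?_⟩
    · exact (mul_left_cancel (mul_right_cancel (e.trans hg.symm))).symm
    · have := (commute_conj_iff (g := g)).mpr hy0.2.2.symm
      rwa [hg] at this
  set w' := g * w * g⁻¹ with hw'
  have hwy : Commute w' d := by
    have := (commute_conj_iff (g := g)).mpr (h y0 hy0)
    rwa [hg] at this
  have hwa : Commute w' a := commute_conj_iff.mpr hw
  have hfix : ∀ x ∈ nset D d, Commute a x → Commute w' x := by
    intro x hx hax
    rw [hw', ← show g * (g⁻¹ * x * g) * g⁻¹ = x by group, commute_conj_iff]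
    by_cases hxd : g⁻¹ * x * g = d
    · rw [hxd]; exact hw
    refine h _ ⟨(conj_mem_iff hE.conj g).1 hx.1, hxd, ?_⟩
    rw [← commute_conj_iff (g := g), show g * (g⁻¹ * x * g) * g⁻¹ = x by group]
    exact hax
  have conj_eq : ∀ (v x : G), Commute v x → v * x * v⁻¹ = x := fun v x h' => by
    rw [h'.eq, mul_inv_cancel_right]
  obtain ⟨u, hu, hvall⟩ : ∃ u, (u = w ∨ u = d⁻¹ * w) ∧ ∀ x ∈ nset D d, Commute (g * u * g⁻¹) x := by
    rcases aut_dichotomy S.group S.next_prim S.next (a := S.img a ha)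
      ⟨⟨a, Subgroup.subset_closure ha⟩, ha, rfl⟩ (autQ hE hwy)
      (congrArg QuotientGroup.mk (Subtype.ext (conj_eq w' a hwa)))
      (by
        rintro _ ⟨⟨x, hxH⟩, hx, rfl⟩ hc
        exact congrArg QuotientGroup.mk (Subtype.ext (conj_eq w' x (hfix x hx (commute_lift hE d ha hx hc)))))
      with hφ | hφ
    · refine ⟨w, Or.inl rfl, fun x hx => ?_⟩
      exact mul_inv_eq_iff_eq_mul.mp (S.img_inj (nset_conj hE hwy hx) hx (hφ (S.img x hx)))
    · refine ⟨d⁻¹ * w, Or.inr rfl, fun x hx => ?_⟩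
      have he : w' * x * w'⁻¹ = a * x * a⁻¹ :=
        S.img_inj (nset_conj hE hwy hx) (nset_conj hE ha.2.2.symm hx) (hφ (S.img x hx))
      have : g * (d⁻¹ * w) * g⁻¹ = a⁻¹ * w' := by rw [hadef, hw']; group
      rw [this]
      show a⁻¹ * w' * x = x * (a⁻¹ * w')
      calc a⁻¹ * w' * x = a⁻¹ * (w' * x * w'⁻¹) * w' := by group
        _ = _ := by rw [he]; group
  obtain ⟨c, hc, hdc⟩ := noncentral hE S.one S.sep hy0.1 (S.ne_one _ hy0.1)
    (show d ∈ nset D y0 from ⟨S.mem, Ne.symm hy0.2.1, hy0.2.2.symm⟩) (S.ne_one _ S.mem)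
  have hud : Commute u d := by
    rcases hu with rfl | rfl
    exacts [hw, (Commute.refl d).inv_left.mul_left hw]
  have hu1 : u = 1 := by
    have hK : Subgroup.centralizer ({u} : Set G) = ⊤ := by
      refine dsub_top S.hD S.prim ⟨d, S.mem, y0, hy0.1, Ne.symm hy0.2.1, hy0.2.2⟩ S.mem _
        (fun y hy hdy => Subgroup.mem_centralizer_singleton_iff.2 ?_) hc.1
        (Subgroup.mem_centralizer_singleton_iff.2 ?_) hdc
      · by_cases hyd : y = d
        · subst hyd; exact hud.symm.eq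
        have hy' : y ∈ nset D d := ⟨hy, hyd, hdy⟩
        rcases hu with rfl | rfl
        · exact (h y hy').symm.eq
        · exact (hdy.inv_left.mul_left (h y hy')).symm.eq
      · have hgc : g * c * g⁻¹ ∈ nset D d := by
          refine ⟨hE.conj g c hc.1, fun e => hc.2.1 ?_, ?_⟩
          · exact mul_left_cancel (mul_right_cancel (e.trans hg.symm))
          · have := (commute_conj_iff (g := g)).mpr hc.2.2
            rwa [hg] at this
        exact (commute_conj_iff.mp (hvall _ hgc)).symm.eq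
    have hcen : u ∈ Subgroup.center G := by
      rw [Subgroup.mem_center_iff]
      intro x
      exact Subgroup.mem_centralizer_singleton_iff.1 (hK ▸ Subgroup.mem_top x)
    rwa [S.center, Subgroup.mem_bot] at hcen
  rcases hu with rfl | rfl
  · exact Or.inl hu1
  · exact Or.inr (inv_mul_eq_one.mp hu1).symm

/-- an element of the centre of the subgroup of the members commuting with the member -/
theorem central_cases {x : ↥(Subgroup.closure (nset D d))}
    (h : (x : ↥(Subgroup.closure (nset D d)) ⧸ Subgroup.center ↥(Subgroup.closure (nset D d))) = 1) :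
    (x : G) = 1 ∨ (x : G) = d :=
  S.fix_ext (commute_of_mem x.2) ((mk_eq_one_iff d).mp h)

end Setting

end Cfsg.Agent.Spor.M24Rel.Fix
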