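import Cfsg.Agent.Lib.Spor.Fi22SixIdxE6Steps0
import Cfsg.Agent.Lib.Spor.Fi22SixIdxE6Edges0

/-!
Coset certificate `IdxE6` of Fi22Six: assembled.
-/

set_option autoImplicit false
set_option maxRecDepth 100000

namespace Cfsg.Agent.Spor.Fi22SixCert.IdxE6

open Cfsg.Agent.Spor.CC

theorem steps_all : ∀ k, 55 ≤ k → k < 308 → ∃ s, stepOK dat k s = true := by
  intro k hk0 hk
  exact stepsOK_spec _ _ stOK0 k (by omega) (lt_of_lt_of_eq hk (by decide +kernel))

theorem edges_all : ∀ k, k < 392 → ∃ s, edgeOK dat 308 k s = true := by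
  intro k hk
  exact edgesOK_spec _ _ edOK0 k (by omega) (lt_of_lt_of_eq hk (by decide +kernel))

theorem checked : Checked dat 308 where
  defs := defs_ok
  steps := steps_all
  edges := fun k hk => edges_all k hk
  pos := by decide
  ng_le := by decide

theorem words_ok : wordsOK dat letters 9 (Cfsg.Agent.Spor.Fi22SixCert.pres.relW ++ []) wit subW = true := by decide +kernel

end Cfsg.Agent.Spor.Fi22SixCert.IdxE6
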