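import Cfsg.Agent.Lib.Spor.Fi22SixIdxE7Steps0
import Cfsg.Agent.Lib.Spor.Fi22SixIdxE7Steps1
import Cfsg.Agent.Lib.Spor.Fi22SixIdxE7Steps2
import Cfsg.Agent.Lib.Spor.Fi22SixIdxE7Steps3
import Cfsg.Agent.Lib.Spor.Fi22SixIdxE7Edges0
import Cfsg.Agent.Lib.Spor.Fi22SixIdxE7Edges1
import Cfsg.Agent.Lib.Spor.Fi22SixIdxE7Edges2
import Cfsg.Agent.Lib.Spor.Fi22SixIdxE7Edges3
import Cfsg.Agent.Lib.Spor.Fi22SixIdxE7Edges4
import Cfsg.Agent.Lib.Spor.Fi22SixIdxE7Edges5
import Cfsg.Agent.Lib.Spor.Fi22SixIdxE7Edges6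
import Cfsg.Agent.Lib.Spor.Fi22SixIdxE7Edges7

/-!
Coset certificate `IdxE7` of Fi22Six: assembled.
-/

set_option autoImplicit false
set_option maxRecDepth 100000

namespace Cfsg.Agent.Spor.Fi22SixCert.IdxE7

open Cfsg.Agent.Spor.CC

theorem steps_all : ∀ k, 9476 ≤ k → k < 44712 → ∃ s, stepOK dat k s = true := by
  intro k hk0 hk
  by_cases h0 : k < 11976
  · exact stepsOK_spec _ _ stOK0 k (by omega) (lt_of_lt_of_eq h0 (by decide +kernel))
  by_cases h1 : k < 14476
  · exact stepsOK_spec _ _ stOK1 k (by omega) (lt_of_lt_of_eq h1 (by decide +kernel))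
  by_cases h2 : k < 16976
  · exact stepsOK_spec _ _ stOK2 k (by omega) (lt_of_lt_of_eq h2 (by decide +kernel))
  by_cases h3 : k < 19476
  · exact stepsOK_spec _ _ stOK3 k (by omega) (lt_of_lt_of_eq h3 (by decide +kernel))
  by_cases h4 : k < 21976
  · exact stepsOK_spec _ _ stOK4 k (by omega) (lt_of_lt_of_eq h4 (by decide +kernel))
  by_cases h5 : k < 24476
  · exact stepsOK_spec _ _ stOK5 k (by omega) (lt_of_lt_of_eq h5 (by decide +kernel))
  by_cases h6 : k < 26976
  · exact stepsOK_spec _ _ stOK6 k (by omega) (lt_of_lt_of_eq h6 (by decide +kernel))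
  by_cases h7 : k < 29476
  · exact stepsOK_spec _ _ stOK7 k (by omega) (lt_of_lt_of_eq h7 (by decide +kernel))
  by_cases h8 : k < 31976
  · exact stepsOK_spec _ _ stOK8 k (by omega) (lt_of_lt_of_eq h8 (by decide +kernel))
  by_cases h9 : k < 34476
  · exact stepsOK_spec _ _ stOK9 k (by omega) (lt_of_lt_of_eq h9 (by decide +kernel))
  by_cases h10 : k < 36976
  · exact stepsOK_spec _ _ stOK10 k (by omega) (lt_of_lt_of_eq h10 (by decide +kernel))
  by_cases h11 : k < 39476
  · exact stepsOK_spec _ _ stOK11 k (by omega) (lt_of_lt_of_eq h11 (by decide +kernel))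
  by_cases h12 : k < 41976
  · exact stepsOK_spec _ _ stOK12 k (by omega) (lt_of_lt_of_eq h12 (by decide +kernel))
  by_cases h13 : k < 44476
  · exact stepsOK_spec _ _ stOK13 k (by omega) (lt_of_lt_of_eq h13 (by decide +kernel))
  exact stepsOK_spec _ _ stOK14 k (by omega) (lt_of_lt_of_eq hk (by decide +kernel))

theorem edges_all : ∀ k, k < 75816 → ∃ s, edgeOK dat 44712 k s = true := by
  intro k hk
  by_cases h0 : k < 2500
  · exact edgesOK_spec _ _ edOK0 k (by omega) (lt_of_lt_of_eq h0 (by decide +kernel))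
  by_cases h1 : k < 5000
  · exact edgesOK_spec _ _ edOK1 k (by omega) (lt_of_lt_of_eq h1 (by decide +kernel))
  by_cases h2 : k < 7500
  · exact edgesOK_spec _ _ edOK2 k (by omega) (lt_of_lt_of_eq h2 (by decide +kernel))
  by_cases h3 : k < 10000
  · exact edgesOK_spec _ _ edOK3 k (by omega) (lt_of_lt_of_eq h3 (by decide +kernel))
  by_cases h4 : k < 12500
  · exact edgesOK_spec _ _ edOK4 k (by omega) (lt_of_lt_of_eq h4 (by decide +kernel))
  by_cases h5 : k < 15000
  · exact edgesOK_spec _ _ edOK5 k (by omega) (lt_of_lt_of_eq h5 (by decide +kernel))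
  by_cases h6 : k < 17500
  · exact edgesOK_spec _ _ edOK6 k (by omega) (lt_of_lt_of_eq h6 (by decide +kernel))
  by_cases h7 : k < 20000
  · exact edgesOK_spec _ _ edOK7 k (by omega) (lt_of_lt_of_eq h7 (by decide +kernel))
  by_cases h8 : k < 22500
  · exact edgesOK_spec _ _ edOK8 k (by omega) (lt_of_lt_of_eq h8 (by decide +kernel))
  by_cases h9 : k < 25000
  · exact edgesOK_spec _ _ edOK9 k (by omega) (lt_of_lt_of_eq h9 (by decide +kernel))
  by_cases h10 : k < 27500
  · exact edgesOK_spec _ _ edOK10 k (by omega) (lt_of_lt_of_eq h10 (by decide +kernel))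
  by_cases h11 : k < 30000
  · exact edgesOK_spec _ _ edOK11 k (by omega) (lt_of_lt_of_eq h11 (by decide +kernel))
  by_cases h12 : k < 32500
  · exact edgesOK_spec _ _ edOK12 k (by omega) (lt_of_lt_of_eq h12 (by decide +kernel))
  by_cases h13 : k < 35000
  · exact edgesOK_spec _ _ edOK13 k (by omega) (lt_of_lt_of_eq h13 (by decide +kernel))
  by_cases h14 : k < 37500
  · exact edgesOK_spec _ _ edOK14 k (by omega) (lt_of_lt_of_eq h14 (by decide +kernel))
  by_cases h15 : k < 40000
  · exact edgesOK_spec _ _ edOK15 k (by omega) (lt_of_lt_of_eq h15 (by decide +kernel))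
  by_cases h16 : k < 42500
  · exact edgesOK_spec _ _ edOK16 k (by omega) (lt_of_lt_of_eq h16 (by decide +kernel))
  by_cases h17 : k < 45000
  · exact edgesOK_spec _ _ edOK17 k (by omega) (lt_of_lt_of_eq h17 (by decide +kernel))
  by_cases h18 : k < 47500
  · exact edgesOK_spec _ _ edOK18 k (by omega) (lt_of_lt_of_eq h18 (by decide +kernel))
  by_cases h19 : k < 50000
  · exact edgesOK_spec _ _ edOK19 k (by omega) (lt_of_lt_of_eq h19 (by decide +kernel))
  by_cases h20 : k < 52500
  · exact edgesOK_spec _ _ edOK20 k (by omega) (lt_of_lt_of_eq h20 (by decide +kernel))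
  by_cases h21 : k < 55000
  · exact edgesOK_spec _ _ edOK21 k (by omega) (lt_of_lt_of_eq h21 (by decide +kernel))
  by_cases h22 : k < 57500
  · exact edgesOK_spec _ _ edOK22 k (by omega) (lt_of_lt_of_eq h22 (by decide +kernel))
  by_cases h23 : k < 60000
  · exact edgesOK_spec _ _ edOK23 k (by omega) (lt_of_lt_of_eq h23 (by decide +kernel))
  by_cases h24 : k < 62500
  · exact edgesOK_spec _ _ edOK24 k (by omega) (lt_of_lt_of_eq h24 (by decide +kernel))
  by_cases h25 : k < 65000
  · exact edgesOK_spec _ _ edOK25 k (by omega) (lt_of_lt_of_eq h25 (by decide +kernel))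
  by_cases h26 : k < 67500
  · exact edgesOK_spec _ _ edOK26 k (by omega) (lt_of_lt_of_eq h26 (by decide +kernel))
  by_cases h27 : k < 70000
  · exact edgesOK_spec _ _ edOK27 k (by omega) (lt_of_lt_of_eq h27 (by decide +kernel))
  by_cases h28 : k < 72500
  · exact edgesOK_spec _ _ edOK28 k (by omega) (lt_of_lt_of_eq h28 (by decide +kernel))
  by_cases h29 : k < 75000
  · exact edgesOK_spec _ _ edOK29 k (by omega) (lt_of_lt_of_eq h29 (by decide +kernel))
  exact edgesOK_spec _ _ edOK30 k (by omega) (lt_of_lt_of_eq hk (by decide +kernel))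

theorem checked : Checked dat 44712 where
  defs := defs_ok
  steps := steps_all
  edges := fun k hk => edges_all k hk
  pos := by decide
  ng_le := by decide

theorem words_ok : wordsOK dat letters 9 (Cfsg.Agent.Spor.Fi22SixCert.pres.relW ++ []) wit subW = true := by decide +kernel

end Cfsg.Agent.Spor.Fi22SixCert.IdxE7
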