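import Cfsg.Agent.Lib.Spor.Fi22OutPoints
import Cfsg.Prelude.Def_KGroupFacts

/-!
Canonical lifts of the generators of Fi22 to a stem extension: they satisfy the Coxeter relations exactly.
-/

set_option autoImplicit false
set_option maxRecDepth 100000

namespace Cfsg.Agent.Spor.Fi22Cert.SixLift

open Cfsg.Agent.Spor.CC
open Cfsg.Agent.Spor.Fi22Cert.U62Act
open Cfsg.Agent.Spor.Fi22Cert.Outer (oneOK oneOK_spec)
open scoped commutatorElement

theorem hsub_perfect : commutator Hsub = ⊤ := by
  haveI := card_Hsub.1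
  obtain ⟨hz2, -, hno⟩ := double_cover
  haveI := SUSix.simple_range
  have hP : commutator SUSix.uperm.range = ⊤ := by
    rcases (inferInstance : (commutator SUSix.uperm.range).Normal).eq_bot_or_eq_top with h | h
    · exfalso
      have hcomm : ∀ a b : SUSix.uperm.range, a * b = b * a := fun a b => by
        have hm : ⁅a, b⁆ ∈ commutator SUSix.uperm.range := by
          rw [commutator_def]
          exact Subgroup.commutator_mem_commutator (Subgroup.mem_top a) (Subgroup.mem_top b)
        rw [h, Subgroup.mem_bot] at hm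
        exact commutatorElement_eq_one_iff_mul_comm.mp hm
      letI : CommGroup SUSix.uperm.range :=
        { (inferInstance : Group SUSix.uperm.range) with mul_comm := hcomm }
      have hp : (Nat.card SUSix.uperm.range).Prime := IsSimpleGroup.prime_card
      rw [SUSix.card_range] at hp
      exact (by norm_num : ¬ Nat.Prime 9196830720) hp
    · exact h
  have hmap : (commutator Hsub).map theta = ⊤ := by
    rw [commutator_def, Subgroup.map_commutator, Subgroup.map_top_of_surjective _ theta_surjective,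
      ← commutator_def, hP]
  have hsup : commutator Hsub ⊔ Subgroup.center Hsub = ⊤ := by
    rw [center_eq, ← Subgroup.comap_map_eq, hmap, Subgroup.comap_top]
  by_contra hne
  apply hno (commutator Hsub)
  refine Subgroup.IsComplement'.symm (Subgroup.isComplement'_of_disjoint_and_mul_eq_univ ?_ ?_)
  · rw [disjoint_iff, eq_bot_iff]
    intro z hz
    rw [Subgroup.mem_bot]
    by_contra hz1
    apply hne
    have hle : Subgroup.center Hsub ≤ commutator Hsub := by
      haveI : Fact (Nat.Prime 2) := ⟨Nat.prime_two⟩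
      intro w hw
      have hgen : Subgroup.zpowers (⟨z, hz.2⟩ : Subgroup.center Hsub) = ⊤ :=
        zpowers_eq_top_of_prime_card hz2 (fun e => hz1 (congrArg Subtype.val e))
      have hw' : (⟨w, hw⟩ : Subgroup.center Hsub) ∈ Subgroup.zpowers (⟨z, hz.2⟩ : Subgroup.center Hsub) := by
        rw [hgen]; exact Subgroup.mem_top _
      obtain ⟨n, hn⟩ := Subgroup.mem_zpowers_iff.mp hw'
      have := congrArg (Subgroup.center Hsub).subtype hn
      rw [map_zpow] at this
      rw [← (show z ^ n = w from this)]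
      exact Subgroup.zpow_mem (commutator Hsub) hz.1 n
    rw [← hsup, sup_eq_left.mpr hle]
  · rw [← Subgroup.normal_mul, hsup, Subgroup.coe_top]

/-- conjugator from the transposition to each generator -/
def gC : List (List ℕ) :=
  [[], [0, 1], [1, 2, 0, 1], [2, 3, 1, 2, 0, 1], [3, 4, 2, 3, 1, 2, 0, 1], [4, 5, 3, 4, 2, 3, 1, 2, 0, 1], [5, 6, 4, 5, 3, 4, 2, 3, 1, 2, 0, 1], [3, 7, 2, 3, 1, 2, 0, 1], [7, 8, 3, 7, 2, 3, 1, 2, 0, 1]]

/-- the checks for the conjugators -/
def gCchk : List (List ℕ) :=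
  (List.range 9).map fun x => gC.getD x [] ++ [0] ++ (gC.getD x []).reverse ++ [x]

theorem gC_check : oneOK gCchk = true := by decide +kernel

theorem gC_spec {x : ℕ} (hx : x < 9) :
    ((gC.getD x []).map pres.gen).prod * tA * ((gC.getD x []).map pres.gen).prod⁻¹ = pres.gen x := by
  have := oneOK_spec gC_check (w := gC.getD x [] ++ [0] ++ (gC.getD x []).reverse ++ [x])
    (List.mem_map.mpr ⟨x, List.mem_range.mpr hx, rfl⟩)
  simp only [List.map_append, List.prod_append, List.map_cons, List.map_nil, List.prod_cons, List.prod_nil,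
    mul_one, ← prod_rev] at this
  rw [eq_inv_of_mul_eq_one_left this, inv_eq_of_mul_eq_one_left (Pres.gen_sq pres_ok x)]

theorem tA_sq : tA * tA = 1 := Pres.gen_sq pres_ok 0

/-- conjugators of seven commuting reflections of E7 -/
def seven : List (List ℕ × ℕ) := [([], 0), ([], 2), ([], 4), ([], 7), ([3, 7, 4, 3], 2), ([1, 2, 3, 7, 4, 3, 2, 1], 0), ([5, 4, 3, 7, 2, 3, 4, 1, 2, 3, 7, 5, 4, 3, 2, 1], 0)]

/-- the seven reflection words, with a mark at the place of the generator -/
def sevenW (p : List ℕ × ℕ) : List ℕ := p.1 ++ [p.2] ++ p.1.reverse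

/-- the checks for the seven reflections -/
def sevenChk : List (List ℕ) :=
  [seven.flatMap sevenW] ++ seven.flatMap fun p => seven.map fun q =>
    sevenW p ++ sevenW q ++ sevenW p ++ sevenW q

theorem seven_check : oneOK sevenChk = true ∧ seven.length = 7 ∧
    (∀ p ∈ seven, p.2 < 9) := by decide +kernel

section

variable {Γ : Type} [Group Γ] [Finite Γ] {π : Γ →* pres.Grp}

theorem stem_perfect (h : Cfsg.IsStemExtension π) : commutator Γ = ⊤ := by
  haveI := simple
  have hG : commutator pres.Grp = ⊤ := by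
    rcases (inferInstance : (commutator pres.Grp).Normal).eq_bot_or_eq_top with hb | ht
    · exfalso
      haveI := order.1
      have hcomm : ∀ a b : pres.Grp, a * b = b * a := fun a b => by
        have hm : ⁅a, b⁆ ∈ commutator pres.Grp := by
          rw [commutator_def]
          exact Subgroup.commutator_mem_commutator (Subgroup.mem_top a) (Subgroup.mem_top b)
        rw [hb, Subgroup.mem_bot] at hm
        exact commutatorElement_eq_one_iff_mul_comm.mp hm
      letI : CommGroup pres.Grp := { (inferInstance : Group pres.Grp) with mul_comm := hcomm }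
      have hp : (Nat.card pres.Grp).Prime := IsSimpleGroup.prime_card
      rw [order.2.1] at hp
      exact (by norm_num : ¬ Nat.Prime 64561751654400) hp
    · exact ht
  have hmap : (commutator Γ).map π = ⊤ := by
    rw [commutator_def, Subgroup.map_commutator, Subgroup.map_top_of_surjective _ h.1, ← commutator_def, hG]
  rw [eq_top_iff]
  intro x _
  obtain ⟨c, hc, hcx⟩ : π x ∈ (commutator Γ).map π := hmap ▸ Subgroup.mem_top _
  have hk : c⁻¹ * x ∈ π.ker := by rw [MonoidHom.mem_ker, map_mul, map_inv, hcx, inv_mul_cancel]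
  simpa using mul_mem hc (h.2.2 hk)

theorem ker_comm (h : Cfsg.IsStemExtension π) {k : Γ} (hk : π k = 1) (g : Γ) : g * k = k * g :=
  Subgroup.mem_center_iff.mp (h.2.1 hk) g

theorem lift_comm (h : Cfsg.IsStemExtension π) {t : Γ} (ht : π t = tA) {d : Γ} (hd : π d ∈ Hsub) :
    d * t * d⁻¹ = t := by
  let S : Subgroup Γ := Hsub.comap π
  have hle : ⁅S, S⁆ ≤ Subgroup.centralizer ({t} : Set Γ) := by
    rw [Subgroup.commutator_le]
    intro a ha b hb
    have hz : ∀ s ∈ S, π (s * t * s⁻¹ * t⁻¹) = 1 := fun s hs => by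
      rw [map_mul, map_mul, map_mul, map_inv, map_inv, ht, conj_tA hs, mul_inv_cancel]
    have hu := hz a ha
    have hv := hz b hb
    have ea : a * t * a⁻¹ = (a * t * a⁻¹ * t⁻¹) * t := by group
    have eb : b * t * b⁻¹ = (b * t * b⁻¹ * t⁻¹) * t := by group
    generalize a * t * a⁻¹ * t⁻¹ = u at hu ea
    generalize b * t * b⁻¹ * t⁻¹ = v at hv eb
    have ea' : a⁻¹ * t * a = u⁻¹ * t := by
      calc a⁻¹ * t * a = u⁻¹ * (a⁻¹ * (u * t) * a) := by
            rw [← mul_assoc a⁻¹ u t, ker_comm h hu a⁻¹]; group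
        _ = u⁻¹ * t := by rw [← ea]; group
    have eb' : b⁻¹ * t * b = v⁻¹ * t := by
      calc b⁻¹ * t * b = v⁻¹ * (b⁻¹ * (v * t) * b) := by
            rw [← mul_assoc b⁻¹ v t, ker_comm h hv b⁻¹]; group
        _ = v⁻¹ * t := by rw [← eb]; group
    have hu' : π u⁻¹ = 1 := by rw [map_inv, hu, inv_one]
    have hv' : π v⁻¹ = 1 := by rw [map_inv, hv, inv_one]
    have e1 : ⁅a, b⁆ * t * ⁅a, b⁆⁻¹ = t := by
      calc ⁅a, b⁆ * t * ⁅a, b⁆⁻¹ = a * (b * (a⁻¹ * (b⁻¹ * t * b) * a) * b⁻¹) * a⁻¹ := by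
            rw [commutatorElement_def]; group
        _ = a * (b * (a⁻¹ * v⁻¹ * t * a) * b⁻¹) * a⁻¹ := by rw [eb']; group
        _ = a * (b * (v⁻¹ * (a⁻¹ * t * a)) * b⁻¹) * a⁻¹ := by rw [ker_comm h hv' a⁻¹]; group
        _ = a * (b * v⁻¹ * u⁻¹ * t * b⁻¹) * a⁻¹ := by rw [ea']; group
        _ = a * (v⁻¹ * u⁻¹ * (b * t * b⁻¹)) * a⁻¹ := by
            rw [show b * v⁻¹ * u⁻¹ = v⁻¹ * u⁻¹ * b by
              rw [mul_assoc]; exact ker_comm h (by rw [map_mul, hu', hv', one_mul]) b]
            group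
        _ = a * (v⁻¹ * u⁻¹ * (v * t)) * a⁻¹ := by rw [eb]
        _ = a * (u⁻¹ * t) * a⁻¹ := by
            rw [ker_comm h hu' v⁻¹]; group
        _ = u⁻¹ * (a * t * a⁻¹) := by
            rw [← mul_assoc a u⁻¹ t, ker_comm h hu' a]; group
        _ = t := by rw [ea]; group
    rw [Subgroup.mem_centralizer_singleton_iff]
    exact mul_inv_eq_iff_eq_mul.mp e1
  have hmap : S.map π = Hsub := Subgroup.map_comap_eq_self_of_surjective h.1 _
  have hd' : π d ∈ (⁅S, S⁆ : Subgroup Γ).map π := by
    rw [Subgroup.map_commutator, hmap]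
    have hk : ⁅(Hsub : Subgroup pres.Grp), (Hsub : Subgroup pres.Grp)⁆ = Hsub := by
      have := congrArg (Subgroup.map Hsub.subtype) hsub_perfect
      rwa [commutator_def, Subgroup.map_commutator, ← MonoidHom.range_eq_map,
        Subgroup.range_subtype] at this
    rw [hk]; exact hd
  obtain ⟨c, hc, hcd⟩ := hd'
  have hk : π (c⁻¹ * d) = 1 := by rw [map_mul, map_inv, hcd, inv_mul_cancel]
  have hct : c * t = t * c := Subgroup.mem_centralizer_singleton_iff.mp (hle hc)
  calc d * t * d⁻¹ = c * ((c⁻¹ * d) * t) * d⁻¹ := by group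
    _ = c * (t * (c⁻¹ * d)) * d⁻¹ := by rw [ker_comm h hk t]
    _ = (c * t) * c⁻¹ := by group
    _ = t := by rw [hct]; group

theorem conj_lift (h : Cfsg.IsStemExtension π) {t : Γ} (ht : π t = tA) {γ δ : Γ}
    (e : π γ * tA * (π γ)⁻¹ = π δ * tA * (π δ)⁻¹) : γ * t * γ⁻¹ = δ * t * δ⁻¹ := by
  have hd : π (δ⁻¹ * γ) ∈ Hsub := by
    rw [← centralizer_eq, Subgroup.mem_centralizer_singleton_iff, map_mul, map_inv]
    calc (π δ)⁻¹ * π γ * tA = (π δ)⁻¹ * (π γ * tA * (π γ)⁻¹) * π γ := by group
      _ = (π δ)⁻¹ * (π δ * tA * (π δ)⁻¹) * π γ := by rw [e]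
      _ = tA * ((π δ)⁻¹ * π γ) := by group
  calc γ * t * γ⁻¹ = δ * ((δ⁻¹ * γ) * t * (δ⁻¹ * γ)⁻¹) * δ⁻¹ := by group
    _ = δ * t * δ⁻¹ := by rw [lift_comm h ht hd]

theorem sq_prod {z : Γ} (hz : ∀ g : Γ, g * z = z * g) : ∀ l : List Γ,
    (∀ a ∈ l, a * a = z) → (∀ a ∈ l, ∀ b ∈ l, a * b = b * a) → l.prod * l.prod = z ^ l.length
  | [], _, _ => by simp
  | a :: l, h1, h2 => by
    have ih := sq_prod hz l (fun b hb => h1 b (by simp [hb])) (fun b hb c hc => h2 b (by simp [hb]) c (by simp [hc]))
    have hc : Commute a l.prod := Commute.list_prod_right l a fun b hb => h2 a (by simp) b (by simp [hb])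
    rw [List.prod_cons, List.length_cons, pow_succ']
    calc a * l.prod * (a * l.prod) = a * (l.prod * a) * l.prod := by group
      _ = a * (a * l.prod) * l.prod := by rw [hc.eq]
      _ = a * a * (l.prod * l.prod) := by group
      _ = z * z ^ l.length := by rw [h1 a (by simp), ih]

theorem exists_involution_lift (h : Cfsg.IsStemExtension π) :
    ∃ t : Γ, π t = tA ∧ t * t = 1 := by
  obtain ⟨t, ht⟩ := h.1 tA
  obtain ⟨hone, hlen, hlt⟩ := seven_check
  obtain ⟨c, hc⟩ : ∃ c : ℕ → Γ, ∀ x, π (c x) = pres.gen x :=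
    ⟨fun x => (h.1 (pres.gen x)).choose, fun x => (h.1 (pres.gen x)).choose_spec⟩
  have hcw : ∀ w : List ℕ, π ((w.map c).prod) = (w.map pres.gen).prod := fun w => by
    rw [map_list_prod, List.map_map]; exact congrArg List.prod (List.map_congr_left fun x _ => hc x)
  let s : List ℕ × ℕ → Γ := fun p =>
    ((p.1.map c).prod * ((gC.getD p.2 []).map c).prod) * t * ((p.1.map c).prod * ((gC.getD p.2 []).map c).prod)⁻¹
  have hs : ∀ p ∈ seven, π (s p) = ((sevenW p).map pres.gen).prod := fun p hp => by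
    simp only [s, map_mul, map_inv, hcw, ht, sevenW, List.map_append, List.prod_append, List.map_cons,
      List.map_nil, List.prod_cons, List.prod_nil, mul_one, ← prod_rev, mul_inv_rev]
    conv_rhs => rw [← gC_spec (hlt p hp)]
    group
  have hkz : π (t * t) = 1 := by rw [map_mul, ht, tA_sq]
  have hsq : ∀ p ∈ seven, s p * s p = t * t := fun p _ => by
    show _ = t * t
    simp only [s]
    generalize (p.1.map c).prod * ((gC.getD p.2 []).map c).prod = γ
    calc γ * t * γ⁻¹ * (γ * t * γ⁻¹) = γ * (t * t) * γ⁻¹ := by group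
      _ = t * t := by rw [ker_comm h hkz γ]; group
  have hcomm : ∀ p ∈ seven, ∀ q ∈ seven, s p * s q = s q * s p := by
    intro p hp q hq
    have hG := oneOK_spec hone (w := sevenW p ++ sevenW q ++ sevenW p ++ sevenW q)
      (List.mem_append.mpr (Or.inr (List.mem_flatMap.mpr ⟨p, hp, List.mem_map.mpr ⟨q, hq, rfl⟩⟩)))
    simp only [List.map_append, List.prod_append, ← hs p hp, ← hs q hq] at hG
    have hi : ∀ r ∈ seven, (π (s r))⁻¹ = π (s r) := fun r hr => by
      apply inv_eq_of_mul_eq_one_left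
      rw [← map_mul, hsq r hr, hkz]
    have e : π (s p) * π (s q) * (π (s p))⁻¹ = π (s q) := by
      rw [hi p hp, eq_inv_of_mul_eq_one_left hG, hi q hq]
    have key : s p * s q * (s p)⁻¹ = s q := by
      have hq' : s q = ((q.1.map c).prod * ((gC.getD q.2 []).map c).prod) * t *
          ((q.1.map c).prod * ((gC.getD q.2 []).map c).prod)⁻¹ := rfl
      generalize (q.1.map c).prod * ((gC.getD q.2 []).map c).prod = γ at hq'
      generalize s p = a at e ⊢
      rw [hq'] at e ⊢
      calc a * (γ * t * γ⁻¹) * a⁻¹ = (a * γ) * t * (a * γ)⁻¹ := by group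
        _ = γ * t * γ⁻¹ := by
          apply conj_lift h ht
          rw [map_mul, mul_inv_rev]
          simp only [map_mul, map_inv, ht] at e
          calc π a * π γ * tA * ((π γ)⁻¹ * (π a)⁻¹) = π a * (π γ * tA * (π γ)⁻¹) * (π a)⁻¹ := by group
            _ = π γ * tA * (π γ)⁻¹ := e
    exact mul_inv_eq_iff_eq_mul.mp key
  have hE : π ((seven.map s).prod) = 1 := by
    rw [map_list_prod, List.map_map, List.map_congr_left (f := ⇑π ∘ s)
      (g := fun p => ((sevenW p).map pres.gen).prod) (fun p hp => hs p hp)]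
    have := oneOK_spec hone (w := seven.flatMap sevenW) (List.mem_append.mpr (Or.inl (List.mem_singleton_self _)))
    rwa [List.flatMap_def, List.map_flatten, List.prod_flatten, List.map_map, List.map_map] at this
  have hE2 : (seven.map s).prod * (seven.map s).prod = (t * t) ^ 7 := by
    have := sq_prod (fun g => ker_comm h hkz g) (seven.map s) (by
      intro a ha; obtain ⟨p, hp, rfl⟩ := List.mem_map.mp ha; exact hsq p hp) (by
      intro a ha b hb
      obtain ⟨p, hp, rfl⟩ := List.mem_map.mp ha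
      obtain ⟨q, hq, rfl⟩ := List.mem_map.mp hb
      exact hcomm p hp q hq)
    rwa [List.length_map, hlen] at this
  generalize (seven.map s).prod = E at hE hE2
  generalize hz : t * t = z at hkz hE2
  have ha : π (z ^ 3 * E⁻¹) = 1 := by rw [map_mul, map_pow, map_inv, hkz, hE]; simp
  refine ⟨z ^ 3 * E⁻¹ * t, by rw [map_mul, ha, one_mul, ht], ?_⟩
  have hEc : ∀ g : Γ, g * E = E * g := fun g => ker_comm h hE g
  have hzc : ∀ g : Γ, g * z = z * g := fun g => ker_comm h hkz g
  calc z ^ 3 * E⁻¹ * t * (z ^ 3 * E⁻¹ * t) = z ^ 3 * E⁻¹ * (t * (z ^ 3 * E⁻¹)) * t := by group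
    _ = z ^ 3 * E⁻¹ * (z ^ 3 * E⁻¹) * (t * t) := by rw [ker_comm h ha t]; group
    _ = z ^ 3 * (E⁻¹ * z ^ 3) * E⁻¹ * z := by rw [hz]; group
    _ = z ^ 3 * (z ^ 3 * E⁻¹) * E⁻¹ * z := by rw [((Commute.pow_right (hzc E⁻¹) 3)).eq]
    _ = z ^ 6 * (E * E)⁻¹ * z := by group
    _ = 1 := by rw [hE2]; group

/-- canonical lifts of the generators -/
structure Lifts (π : Γ →* pres.Grp) where
  /-- the lifts -/
  L : ℕ → Γ
  proj : ∀ x, π (L x) = pres.gen x
  sq : ∀ x, L x * L x = 1
  big : L 9 = 1
  conj : ∀ (γ : Γ) (x y : ℕ), x < 9 → y < 9 →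
    π γ * pres.gen x * (π γ)⁻¹ = pres.gen y → γ * L x * γ⁻¹ = L y

theorem exists_lifts (h : Cfsg.IsStemExtension π) : Nonempty (Lifts π) := by
  obtain ⟨t, ht, ht2⟩ := exists_involution_lift h
  obtain ⟨c, hc⟩ : ∃ c : ℕ → Γ, ∀ x, π (c x) = ((gC.getD x []).map pres.gen).prod :=
    ⟨fun x => (h.1 _).choose, fun x => (h.1 _).choose_spec⟩
  refine ⟨⟨fun x => if x < 9 then c x * t * (c x)⁻¹ else 1, fun x => ?_, fun x => ?_, if_neg (by omega),
    fun γ x y hx hy e => ?_⟩⟩
  · by_cases hx : x < 9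
    · rw [if_pos hx, map_mul, map_mul, map_inv, hc, ht, gC_spec hx]
    · rw [if_neg hx, map_one, Pres.gen_big (show ¬ x < pres.ng from hx)]
  · by_cases hx : x < 9
    · simp only [if_pos hx]
      calc c x * t * (c x)⁻¹ * (c x * t * (c x)⁻¹) = c x * (t * t) * (c x)⁻¹ := by group
        _ = 1 := by rw [ht2]; group
    · simp only [if_neg hx, one_mul]
  · simp only [if_pos hx, if_pos hy]
    calc γ * (c x * t * (c x)⁻¹) * γ⁻¹ = (γ * c x) * t * (γ * c x)⁻¹ := by group
      _ = c y * t * (c y)⁻¹ := by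
        apply conj_lift h ht
        rw [map_mul, hc, hc, gC_spec hy, mul_inv_rev]
        calc π γ * _ * tA * (_ * (π γ)⁻¹) = π γ * (((gC.getD x []).map pres.gen).prod * tA *
              ((gC.getD x []).map pres.gen).prod⁻¹) * (π γ)⁻¹ := by group
          _ = pres.gen y := by rw [gC_spec hx, e]

namespace Lifts

variable (W : Lifts π)

theorem proj_word (w : List ℕ) : π ((w.map W.L).prod) = (w.map pres.gen).prod := by
  rw [map_list_prod, List.map_map]; exact congrArg List.prod (List.map_congr_left fun x _ => W.proj x)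

theorem word_rev (w : List ℕ) : ((w.reverse).map W.L).prod = ((w.map W.L).prod)⁻¹ := by
  induction w with
  | nil => simp
  | cons a l ih =>
    rw [List.reverse_cons, List.map_append, List.prod_append, ih]
    simp only [List.map_cons, List.map_nil, List.prod_cons, List.prod_nil, mul_one, mul_inv_rev,
      inv_eq_of_mul_eq_one_left (W.sq a)]

theorem braid {p q : Γ} (hp : p * p = 1) (hq : q * q = 1) (e : p * q * p * (p * q)⁻¹ = q) :
    (p * q) ^ 3 = 1 := by
  rw [mul_inv_rev, inv_eq_of_mul_eq_one_left hp, inv_eq_of_mul_eq_one_left hq] at e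
  calc (p * q) ^ 3 = (p * q * p * (q * p)) * q := by rw [pow_succ, pow_two]; group
    _ = 1 := by rw [e, hq]

theorem comm_word (u : List ℕ) {y : ℕ} (hy : y < 9)
    (hG : ((u ++ [y] ++ u.reverse ++ [y]).map pres.gen).prod = 1) :
    ((u ++ [y] ++ u.reverse ++ [y]).map W.L).prod = 1 := by
  simp only [List.map_append, List.prod_append, List.map_cons, List.map_nil, List.prod_cons,
    List.prod_nil, mul_one, ← prod_rev] at hG
  simp only [List.map_append, List.prod_append, List.map_cons, List.map_nil, List.prod_cons,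
    List.prod_nil, mul_one, W.word_rev]
  rw [W.conj _ y y hy hy (by
    rw [W.proj_word]
    exact (eq_inv_of_mul_eq_one_left hG).trans (inv_eq_of_mul_eq_one_left (Pres.gen_sq pres_ok y))), W.sq]

theorem cube_word (c : List ℕ) {x y : ℕ} (hx : x < 9) (hy : y < 9)
    (hG : ((powW 3 (c ++ [x] ++ c.reverse ++ [y])).map pres.gen).prod = 1) :
    ((powW 3 (c ++ [x] ++ c.reverse ++ [y])).map W.L).prod = 1 := by
  rw [prod_powW] at hG ⊢
  simp only [List.map_append, List.prod_append, List.map_cons, List.map_nil, List.prod_cons,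
    List.prod_nil, mul_one, ← prod_rev] at hG
  simp only [List.map_append, List.prod_append, List.map_cons, List.map_nil, List.prod_cons,
    List.prod_nil, mul_one, W.word_rev]
  have hproj : π ((c.map W.L).prod * W.L x * ((c.map W.L).prod)⁻¹) =
      (c.map pres.gen).prod * pres.gen x * (c.map pres.gen).prod⁻¹ := by
    rw [map_mul, map_mul, map_inv, W.proj_word, W.proj]
  generalize hd : (c.map W.L).prod * W.L x * ((c.map W.L).prod)⁻¹ = d at hproj
  have hd2 : d * d = 1 := by
    rw [← hd]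
    calc _ = (c.map W.L).prod * (W.L x * W.L x) * ((c.map W.L).prod)⁻¹ := by group
      _ = 1 := by rw [W.sq]; group
  refine braid hd2 (W.sq y) ?_
  have key : d * W.L y * (c.map W.L).prod * W.L x * (d * W.L y * (c.map W.L).prod)⁻¹ = W.L y := by
    refine W.conj _ x y hx hy ?_
    have hdg : π d * π d = 1 := by rw [← map_mul, hd2, map_one]
    have hgg := Pres.gen_sq pres_ok y
    rw [← hproj] at hG
    rw [map_mul, map_mul, W.proj]
    generalize π d = P at *
    rw [W.proj_word]
    generalize (c.map pres.gen).prod = C at *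
    generalize pres.gen y = Q at *
    calc P * Q * C * pres.gen x * (P * Q * C)⁻¹ = P * Q * (C * pres.gen x * C⁻¹) * Q⁻¹ * P⁻¹ := by group
      _ = (P * Q) * P * (Q * P) := by
        rw [← hproj, inv_eq_of_mul_eq_one_left hdg, inv_eq_of_mul_eq_one_left hgg]; group
      _ = Q⁻¹ := eq_inv_of_mul_eq_one_left (by rw [← hG, pow_succ, pow_two]; group)
      _ = Q := inv_eq_of_mul_eq_one_left hgg
  calc d * W.L y * d * (d * W.L y)⁻¹ = d * W.L y * (c.map W.L).prod * W.L x *
        (d * W.L y * (c.map W.L).prod)⁻¹ := by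
          conv_lhs => enter [1, 2]; rw [← hd]
          group
    _ = W.L y := key

theorem cox (i j : ℕ) (hi : i < 9) (hj : j < 9) :
    (W.L i * W.L j) ^ Cfsg.Spor.coxLabel pres.edges (pres.nm i) (pres.nm j) = 1 := by
  have htab : ∀ a < 9, ∀ b < 9, (Cfsg.Spor.coxLabel pres.edges (pres.nm a) (pres.nm b) = 1 ∧ a = b) ∨
      Cfsg.Spor.coxLabel pres.edges (pres.nm a) (pres.nm b) = 2 ∨
      Cfsg.Spor.coxLabel pres.edges (pres.nm a) (pres.nm b) = 3 := by decide +kernel
  have hG := Pres.cox_one pres_ok (i := i) (j := j) hi hj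
  rcases htab i hi j hj with ⟨e, rfl⟩ | e | e <;> rw [e] at hG ⊢
  · rw [pow_one, W.sq]
  · have := W.comm_word [i] hj (by simpa [pow_two, mul_assoc] using hG)
    simpa [pow_two, mul_assoc] using this
  · have := W.cube_word [] hi hj (by rw [prod_powW]; simpa using hG)
    rw [prod_powW] at this
    simpa using this

end Lifts

end

end Cfsg.Agent.Spor.Fi22Cert.SixLift
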