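import Cfsg.Agent.Lib.Spor.Fi23Pres

/-!
Relators that hold exactly in every central extension of the presented group Fi23.
-/

set_option autoImplicit false

namespace Cfsg.Agent.Spor.Fi23Cert.Mult

open Cfsg.Agent.Spor.CC

/-- the Coxeter relators -/
def coxW : List (List ℕ) :=
  ((List.range 10).map fun i => [i, i]) ++
    ((List.range 10).flatMap fun i => (List.range i).map fun j =>
      powW (Cfsg.Spor.coxLabel pres.edges (pres.nm j) (pres.nm i)) [j, i])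

/-- a word commuting with generator 9 -/
def uA : List ℕ := [8, 3, 2, 1, 4, 3, 2, 5, 4, 3, 6, 5, 4, 8, 3, 2, 1, 4, 3, 2, 5, 4, 3, 6, 5, 4, 8, 3, 2, 1, 4, 3, 5, 4, 6, 5, 8, 3, 2, 4, 3, 8]

/-- a word commuting with generator 1 -/
def uB : List ℕ := [2, 3, 4, 5, 6, 8, 3, 2, 4, 3, 5, 4, 8, 3, 2, 9, 8, 3, 2, 4, 3, 5, 4, 6, 5, 8, 3, 2, 4, 3, 8, 9, 8, 3, 2, 4, 3, 5, 4, 8, 3, 2]

/-- conjugator of the reflection of the highest root of E6 -/
def rootC : List ℕ := [8, 3, 4, 2, 3, 8, 5, 4, 3, 2]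

/-- the derived relators -/
def derW : List (List ℕ) :=
  [uA ++ [9] ++ uA.reverse ++ [9], uB ++ [1] ++ uB.reverse ++ [1],
    powW 3 (rootC ++ [1] ++ rootC.reverse ++ [9])]

/-- the relators -/
def rels : List (List ℕ) := coxW ++ derW

/-- conjugators of seven commuting reflections of E7 -/
def seven : List (List ℕ × ℕ) := [([], 0), ([], 2), ([], 4), ([], 8), ([3, 8, 4, 3], 2), ([1, 2, 3, 8, 4, 3, 2, 1], 0), ([5, 4, 3, 8, 2, 3, 4, 1, 2, 3, 8, 5, 4, 3, 2, 1], 0)]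

/-- conjugator from the transposition to generator 1 -/
def genC : List ℕ := [2, 3, 8, 4, 5, 3, 4, 2, 3, 8, 6, 7, 5, 6, 4, 5, 3, 4, 2, 3, 8, 1, 2, 3, 4, 5, 6, 7]

end Cfsg.Agent.Spor.Fi23Cert.Mult
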