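import Cfsg.Agent.Lib.Spor.Fi22SixMat
import Cfsg.Agent.Lib.Spor.Fi22SixLift
import Cfsg.Agent.Lib.Spor.Fi22SixIdxOneCert
import Cfsg.Agent.Lib.Spor.Fi22SixIdxA3Cert
import Cfsg.Agent.Lib.Spor.Fi22SixIdxA4Cert
import Cfsg.Agent.Lib.Spor.Fi22SixIdxD5Cert
import Cfsg.Agent.Lib.Spor.Fi22SixIdxE6Cert
import Cfsg.Agent.Lib.Spor.Fi22SixIdxE7Cert
import Cfsg.Agent.Lib.Spor.Fi22SixIdxO7Cert
import Cfsg.Agent.Lib.Spor.Fi23MultLift

/-!
The six-fold cover of Fi22, and the Schur multiplier of Fi22.
-/

set_option autoImplicit false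
set_option maxRecDepth 100000

namespace Cfsg.Agent.Spor.Fi22SixCert

open Cfsg.Agent.Spor.CC
open scoped commutatorElement

/-! ### the order bound -/

theorem no_more : ∀ r ∈ ([] : List (List ℕ)), (r.map pres.gen).prod = 1 := by simp

theorem step {D : Data} {m : ℕ} (hc : Checked D m) {ks ks' : List ℕ} (hks : ks.length = D.ng)
    {wit : List (ℕ × ℕ × Bool)} {subW : List (List ℕ)}
    (hw : wordsOK D ks pres.ng (pres.relW ++ []) wit subW = true)
    (e : pres.wsub subW = pres.sub ks') {b c : ℕ}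
    (hH : Finite (pres.sub ks') ∧ Nat.card (pres.sub ks') ≤ b) (hnn : (D.nn * b).ble c = true) :
    Finite (pres.sub ks) ∧ Nat.card (pres.sub ks) ≤ c := by
  have h := Pres.sub_card_le pres_ok hc hks no_more hw (b := b) (e.symm ▸ hH)
  exact ⟨h.1, h.2.trans (Nat.le_of_ble_eq_true hnn)⟩

theorem cardOne : Finite (pres.sub IdxOne.letters) ∧ Nat.card (pres.sub IdxOne.letters) ≤ 24 := by
  have h := Pres.sub_card_le pres_ok IdxOne.checked (ks := IdxOne.letters) rfl no_more IdxOne.words_ok
    (b := 1) (by rw [show IdxOne.subW = [] from rfl, Pres.wsub_nil]; exact bot_card)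
  exact ⟨h.1, h.2.trans (Nat.le_of_ble_eq_true (by decide +kernel))⟩

theorem cardA3 : Finite (pres.sub IdxA3.letters) ∧ Nat.card (pres.sub IdxA3.letters) ≤ 120 :=
  step IdxA3.checked rfl IdxA3.words_ok (Pres.wsub_singles [1, 2, 3]) cardOne (by decide +kernel)

theorem cardA4 : Finite (pres.sub IdxA4.letters) ∧ Nat.card (pres.sub IdxA4.letters) ≤ 1920 :=
  step IdxA4.checked rfl IdxA4.words_ok (Pres.wsub_singles [1, 2, 3, 4]) cardA3 (by decide +kernel)

theorem cardD5 : Finite (pres.sub IdxD5.letters) ∧ Nat.card (pres.sub IdxD5.letters) ≤ 51840 :=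
  step IdxD5.checked rfl IdxD5.words_ok (Pres.wsub_singles [1, 2, 3, 4, 7]) cardA4 (by decide +kernel)

theorem cardE6 : Finite (pres.sub IdxE6.letters) ∧ Nat.card (pres.sub IdxE6.letters) ≤ 2903040 :=
  step IdxE6.checked rfl IdxE6.words_ok (Pres.wsub_singles [1, 2, 3, 4, 5, 7]) cardD5 (by decide +kernel)

theorem cardE7 : Finite (pres.sub IdxE7.letters) ∧ Nat.card (pres.sub IdxE7.letters) ≤ 27512110080 :=
  step IdxE7.checked rfl IdxE7.words_ok (Pres.wsub_singles [1, 2, 3, 4, 5, 6, 7]) cardE6 (by decide +kernel)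

theorem cardO7 : Finite (pres.sub IdxO7.letters) ∧ Nat.card (pres.sub IdxO7.letters) ≤ 387370509926400 :=
  step IdxO7.checked rfl IdxO7.words_ok (Pres.wsub_singles [1, 2, 3, 4, 5, 6, 7, 8]) cardE7 (by decide +kernel)

theorem card_le : Finite pres.Grp ∧ Nat.card pres.Grp ≤ 6 * 64561751654400 := by
  have h := cardO7
  rw [Pres.sub_all pres_ok (ks := IdxO7.letters) (by decide)] at h
  obtain ⟨hf, hc⟩ := h
  haveI := hf
  refine ⟨Finite.of_equiv _ Subgroup.topEquiv.toEquiv, ?_⟩
  rw [← Nat.card_congr (Subgroup.topEquiv (G := pres.Grp)).toEquiv]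
  exact hc.trans (Nat.le_of_ble_eq_true (by decide +kernel))

/-! ### the map to Fi22 and the map to Fi23 -/

theorem base_rels : Fi22Cert.Outer.oneOK pres.relW = true := by decide +kernel

theorem gen_big22 (x : ℕ) (hx : ¬ x < pres.ng) : Fi22Cert.pres.gen x = 1 :=
  Pres.gen_big (show ¬ x < Fi22Cert.pres.ng from hx)

/-- onto Fi22 -/
noncomputable def toFi : pres.Grp →* Fi22Cert.pres.Grp :=
  SpiderCert.homOf pres_ok Fi22Cert.pres.gen gen_big22 fun _ hr =>
    Fi22Cert.Outer.oneOK_spec base_rels hr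

theorem toFi_word (w : List ℕ) : toFi ((w.map pres.gen).prod) = (w.map Fi22Cert.pres.gen).prod :=
  SpiderCert.homOf_prod ..

theorem toFi_surj : Function.Surjective toFi := by
  rw [← MonoidHom.range_eq_top, eq_top_iff, ← Pres.closure_gen Fi22Cert.pres_ok, Subgroup.closure_le]
  rintro _ ⟨x, -, rfl⟩
  exact ⟨pres.gen x, SpiderCert.homOf_gen ..⟩

/-- letters in Fi23 -/
def upL (x : ℕ) : ℕ := [0, 1, 2, 3, 4, 5, 6, 8, 9].getD x 10

theorem up_rels : Fi23Cert.Mult.oneOK (pres.relW.map (List.map upL)) = true := by decide +kernel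

/-- into Fi23 -/
noncomputable def toFi23 : pres.Grp →* Fi23Cert.pres.Grp :=
  SpiderCert.homOf pres_ok (fun x => Fi23Cert.pres.gen (upL x))
    (fun x hx => by
      have h9 : ¬ x < 9 := hx
      rw [upL, List.getD_eq_default _ _ (by simp; omega)]
      exact Pres.gen_big (show ¬ 10 < Fi23Cert.pres.ng by decide))
    fun r hr => by
      have := Fi23Cert.Mult.oneOK_spec up_rels (List.mem_map.mpr ⟨r, hr, rfl⟩)
      rwa [List.map_map] at this

theorem seven_moves : ∃ u, u < 31671 ∧ ev Fi23Cert.RepA.rows 10 (sevenB.map upL) u ≠ u :=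
  ⟨1, by decide +kernel⟩

/-! ### the kernel -/

/-- the central spider element -/
noncomputable def spE : pres.Grp := (spider.map pres.gen).prod

/-- the central element of type E7 -/
noncomputable def svE : pres.Grp := (sevenB.map pres.gen).prod

theorem rev_prod (l : List ℕ) : (l.reverse.map pres.gen).prod = (l.map pres.gen).prod⁻¹ := by
  induction l with
  | nil => simp
  | cons a l ih =>
    rw [List.reverse_cons, List.map_append, List.prod_append, ih]
    simp [inv_eq_of_mul_eq_one_left (Pres.gen_sq pres_ok a)]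

theorem extra_mem {r : List ℕ} (h : r ∈ extras) : r ∈ pres.relW := by
  simp only [Pres.relW, List.mem_append]
  exact Or.inr h

theorem central_word {w : List ℕ} (h : ∀ x < 9, commW w x ∈ extras) :
    (w.map pres.gen).prod ∈ Subgroup.center pres.Grp := by
  rw [Subgroup.mem_center_iff]
  intro g
  have hg : g ∈ Subgroup.centralizer ({(w.map pres.gen).prod} : Set pres.Grp) := by
    have hle : (⊤ : Subgroup pres.Grp) ≤ Subgroup.centralizer ({(w.map pres.gen).prod} : Set pres.Grp) := by
      rw [← Pres.closure_gen pres_ok, Subgroup.closure_le]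
      rintro _ ⟨x, hx, rfl⟩
      rw [SetLike.mem_coe, Subgroup.mem_centralizer_singleton_iff]
      have := Pres.relW_one pres_ok (extra_mem (h x hx))
      simp only [commW, List.map_append, List.prod_append, rev_prod, List.map_cons, List.map_nil,
        List.prod_cons, List.prod_nil, mul_one] at this
      generalize (w.map pres.gen).prod = s at this ⊢
      have hs := Pres.gen_sq pres_ok x
      generalize pres.gen x = t at this hs ⊢
      calc t * s = (s * t * s⁻¹ * t) * (t * s) := by rw [this, one_mul]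
        _ = s * t * s⁻¹ * (t * t) * s := by group
        _ = s * t := by rw [hs]; group
    exact hle (Subgroup.mem_top g)
  exact Subgroup.mem_centralizer_singleton_iff.mp hg

theorem spE_central : spE ∈ Subgroup.center pres.Grp :=
  central_word fun x hx => List.mem_append.mpr (Or.inr (List.mem_map.mpr ⟨x, List.mem_range.mpr hx, rfl⟩))

theorem svE_central : svE ∈ Subgroup.center pres.Grp :=
  central_word fun x hx => List.mem_append.mpr (Or.inl (List.mem_append.mpr
    (Or.inr (List.mem_map.mpr ⟨x, List.mem_range.mpr hx, rfl⟩))))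

/-- the subgroup generated by the two central elements -/
noncomputable def centN : Subgroup pres.Grp := Subgroup.closure {spE, svE}

theorem centN_le : centN ≤ Subgroup.center pres.Grp := by
  rw [centN, Subgroup.closure_le]
  rintro _ (rfl | rfl)
  exacts [spE_central, svE_central]

theorem centN_normal : centN.Normal :=
  ⟨fun n hn g => by
    rw [Subgroup.mem_center_iff.mp (centN_le hn) g, mul_inv_cancel_right]
    exact hn⟩

theorem relW_base : Fi22Cert.pres.relW =
    pres.relW.take 45 ++ [spider, sevenA, sevenB] := by decide +kernel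

theorem ker_le : toFi.ker ≤ centN := by
  haveI := centN_normal
  let q := QuotientGroup.mk' centN
  let f : ℕ → pres.Grp ⧸ centN := fun x => q (pres.gen x)
  have hw : ∀ w : List ℕ, (w.map f).prod = q ((w.map pres.gen).prod) := fun w => by
    rw [map_list_prod, List.map_map]; rfl
  have hrel : ∀ r ∈ Fi22Cert.pres.relW, (r.map f).prod = 1 := by
    intro r hr
    rw [hw]
    rw [relW_base, List.mem_append] at hr
    rcases hr with hr | hr
    · rw [Pres.relW_one pres_ok (List.mem_of_mem_take hr), map_one]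
    · simp only [List.mem_cons, List.not_mem_nil, or_false] at hr
      rcases hr with rfl | rfl | rfl
      · exact (QuotientGroup.eq_one_iff _).mpr (Subgroup.subset_closure (Or.inl rfl))
      · rw [Pres.relW_one pres_ok (extra_mem (by simp [extras])), map_one]
      · exact (QuotientGroup.eq_one_iff _).mpr (Subgroup.subset_closure (Or.inr rfl))
  let ψ := SpiderCert.homOf Fi22Cert.pres_ok f
    (fun x hx => by show q _ = 1; rw [Pres.gen_big (show ¬ x < pres.ng from hx), map_one]) hrel
  intro s hs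
  have hc : ψ.comp toFi = q := by
    refine PresentedGroup.ext fun a => ?_
    show ψ (toFi (PresentedGroup.of a)) = q (PresentedGroup.of a)
    rw [← Pres.gen_of pres_ok a, toFi, SpiderCert.homOf_gen]
    exact SpiderCert.homOf_gen ..
  have := DFunLike.congr_fun hc s
  rw [MonoidHom.comp_apply, MonoidHom.mem_ker.mp hs, map_one] at this
  exact (QuotientGroup.eq_one_iff _).mp this.symm

theorem spE_ker : spE ∈ toFi.ker := by
  rw [MonoidHom.mem_ker, spE, toFi_word]
  exact Pres.relW_one Fi22Cert.pres_ok (by rw [relW_base]; simp)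

theorem svE_ker : svE ∈ toFi.ker := by
  rw [MonoidHom.mem_ker, svE, toFi_word]
  exact Pres.relW_one Fi22Cert.pres_ok (by rw [relW_base]; simp)

theorem svE_order : orderOf svE = 2 := by
  haveI : Fact (Nat.Prime 2) := ⟨Nat.prime_two⟩
  refine orderOf_eq_prime ?_ ?_
  · have := Pres.relW_one pres_ok (r := sevenB ++ sevenB) (extra_mem (by simp [extras]))
    rwa [List.map_append, List.prod_append, ← pow_two] at this
  · intro e
    obtain ⟨u, hu, hne⟩ := seven_moves
    have h := congrArg toFi23 e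
    rw [map_one, svE, toFi23, SpiderCert.homOf_prod] at h
    rw [show List.map (fun x => Fi23Cert.pres.gen (upL x)) sevenB = (sevenB.map upL).map Fi23Cert.pres.gen from
      by rw [List.map_map]; rfl] at h
    have h' := congrArg (fun p => ((Fi23Cert.rep.hom p ⟨u, hu⟩ : Fin Fi23Cert.rep.P.n) : ℕ)) h
    simp only [map_one, Equiv.Perm.one_apply] at h'
    rw [ev_eq Fi23Cert.rep.valid Fi23Cert.pres.gen Fi23Cert.rep.hom Fi23Cert.rep.hom_gen
      (fun x hx => lettersOK_spec (show lettersOK 10 [sevenB.map upL] = true by decide +kernel)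
        (List.mem_singleton_self _) hx)] at h'
    exact hne h'

theorem spider_cube : Mat.mulC Mat.omC (Mat.mulC Mat.omC Mat.omC) = Mat.idC := by decide +kernel

theorem spE_image : orderOf (Mat.hom spE) = 3 := by
  haveI : Fact (Nat.Prime 3) := ⟨Nat.prime_three⟩
  refine orderOf_eq_prime ?_ Mat.hom_spider
  refine Equiv.ext fun v => Fin.ext ?_
  have hv : ∀ v : Fin (2 ^ 54), ((Mat.hom spE v : Fin (2 ^ 54)) : ℕ) = Mat.appl Mat.omC v := fun v => by
    rw [spE, Mat.hom, SpiderCert.homOf_prod, Mat.g_word, Mat.spider_scalar]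
  simp only [pow_succ, pow_zero, one_mul, Equiv.Perm.mul_apply, hv, Equiv.Perm.one_apply]
  rw [← Mat.appl_comp, ← Mat.appl_comp, ← Mat.mulC, ← Mat.mulC]
  have h := spider_cube
  have hassoc : ∀ A B C : List ℕ, Mat.mulC (Mat.mulC A B) C = Mat.mulC A (Mat.mulC B C) := fun A B C => by
    simp only [Mat.mulC, List.map_map]
    exact List.map_congr_left fun c _ => Mat.appl_comp B A c
  simp only [Mat.mulC, List.map_map] at h ⊢
  first
    | exact (congrArg (fun A => Mat.appl A (v : ℕ)) h).trans (Mat.idC_apply v.2)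
    | (rw [show (Mat.appl Mat.omC ∘ Mat.appl Mat.omC) = fun c => Mat.appl Mat.omC (Mat.appl Mat.omC c) from rfl]
       exact (congrArg (fun A => Mat.appl A (v : ℕ)) h).trans (Mat.idC_apply v.2))

theorem kernel_card : Nat.card toFi.ker = 6 := by
  obtain ⟨hf, hle⟩ := card_le
  haveI := hf
  have h := Subgroup.card_mul_index toFi.ker
  rw [Subgroup.index_ker, MonoidHom.range_eq_top.mpr toFi_surj,
    Nat.card_congr (Subgroup.topEquiv (G := Fi22Cert.pres.Grp)).toEquiv, Fi22Cert.order.2.1] at h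
  have h6 : Nat.card toFi.ker ≤ 6 := by omega
  have h2 : 2 ∣ Nat.card toFi.ker := by
    have := Subgroup.orderOf_dvd_natCard _ svE_ker
    rw [svE_order] at this
    exact this
  have h3 : 3 ∣ Nat.card toFi.ker := by
    have := (orderOf_map_dvd Mat.hom spE).trans (Subgroup.orderOf_dvd_natCard _ spE_ker)
    rw [spE_image] at this
    exact this
  have hpos : 0 < Nat.card toFi.ker := Nat.card_pos
  exact le_antisymm h6 (Nat.le_of_dvd hpos (Nat.Coprime.mul_dvd_of_dvd_of_dvd (by norm_num : Nat.Coprime 2 3) h2 h3))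

theorem kernel_cyclic : Nonempty (toFi.ker ≃* Multiplicative (ZMod 6)) := by
  haveI := card_le.1
  haveI : Fact (Nat.Prime 3) := ⟨Nat.prime_three⟩
  obtain ⟨b, hb⟩ := exists_prime_orderOf_dvd_card' (G := toFi.ker) 3 (by rw [kernel_card]; norm_num)
  let a : toFi.ker := ⟨svE, svE_ker⟩
  have ha : orderOf a = 2 := (Subgroup.orderOf_coe a).symm.trans svE_order
  have hab : Commute a b := Subtype.ext (Subgroup.mem_center_iff.mp svE_central (b : pres.Grp)).symm
  have h6 : orderOf (a * b) = Nat.card toFi.ker := by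
    rw [hab.orderOf_mul_eq_mul_orderOf_of_coprime (by rw [ha, hb]; norm_num), ha, hb, kernel_card]
  haveI : IsCyclic toFi.ker := isCyclic_of_orderOf_eq_card _ h6
  have e := (zmodCyclicMulEquiv (G := toFi.ker) inferInstance).symm
  rw [kernel_card] at e
  exact ⟨e⟩

theorem perfect : commutator pres.Grp = ⊤ := by
  let a : ℕ → Abelianization pres.Grp := fun x => Abelianization.of (pres.gen x)
  have sq : ∀ x, a x * a x = 1 := fun x => by rw [← map_mul, Pres.gen_sq pres_ok, map_one]
  have edge : ∀ i j, (hi : i < 9) → (hj : j < 9) →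
      Cfsg.Spor.coxLabel pres.edges (pres.nm i) (pres.nm j) = 3 → a i = a j := by
    intro i j hi hj he
    have h := congrArg Abelianization.of (Pres.cox_one pres_ok (i := i) (j := j) hi hj)
    rw [he, map_pow, map_mul, map_one] at h
    calc a i = a i * 1 := (mul_one _).symm
      _ = a i * (a i * a j) ^ 3 := by rw [h]
      _ = a j * ((a i * a i) * (a i * a i) * (a j * a j)) := by
        simp only [pow_succ, pow_zero, one_mul]; ac_rfl
      _ = a j := by simp only [sq, mul_one]
  have e1 := edge 0 1 (by decide) (by decide) (by decide +kernel)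
  have e2 := edge 1 2 (by decide) (by decide) (by decide +kernel)
  have e3 := edge 2 3 (by decide) (by decide) (by decide +kernel)
  have e4 := edge 3 4 (by decide) (by decide) (by decide +kernel)
  have e5 := edge 4 5 (by decide) (by decide) (by decide +kernel)
  have e6 := edge 5 6 (by decide) (by decide) (by decide +kernel)
  have e7 := edge 3 7 (by decide) (by decide) (by decide +kernel)
  have e8 := edge 7 8 (by decide) (by decide) (by decide +kernel)
  have h63 := congrArg Abelianization.of (Pres.relW_one pres_ok (r := sevenA) (extra_mem (by simp [extras])))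
  rw [map_one, sevenA, prod_powW, map_pow, map_list_prod, List.map_map] at h63
  simp only [List.map_cons, List.map_nil, List.prod_cons, List.prod_nil, mul_one, Function.comp_apply] at h63
  change (a 0 * (a 1 * (a 2 * (a 3 * (a 4 * (a 5 * a 7)))))) ^ 9 = 1 at h63
  rw [← e7, ← e5, ← e4, ← e3, ← e2, ← e1] at h63
  simp only [← mul_assoc, sq, one_mul] at h63
  have h0 : a 0 = 1 := by
    rw [show (9 : ℕ) = 2 * 4 + 1 from rfl, pow_succ, pow_mul, pow_two, mul_one, sq, one_pow, one_mul] at h63
    exact h63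
  rw [eq_top_iff, ← Pres.closure_gen pres_ok, Subgroup.closure_le]
  rintro _ ⟨x, hx, rfl⟩
  have hx9 : x < 9 := hx
  rw [SetLike.mem_coe, ← Abelianization.ker_of, MonoidHom.mem_ker]
  show a x = 1
  interval_cases x <;> simp only [h0, ← e1, ← e2, ← e3, ← e4, ← e5, ← e6, ← e7, ← e8]

theorem stem : Cfsg.IsStemExtension toFi :=
  ⟨toFi_surj, fun _ h => centN_le (ker_le h), fun _ _ => perfect ▸ Subgroup.mem_top _⟩

/-! ### every stem extension is a quotient -/

section

open Fi22Cert.SixLift

variable {Γ : Type} [Group Γ] [Finite Γ] {π : Γ →* Fi22Cert.pres.Grp} (W : Lifts π)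

/-- rotations and allowed swaps take one word to another -/
def runOK : List ℕ → List ℕ → List ℕ → Bool
  | w, [], t => w == t
  | w, 0 :: st, t => runOK (w.rotate 1) st t
  | w, (i + 1) :: st, t =>
    Nat.blt (w.getD i 9) 9 && Nat.blt (w.getD (i + 1) 9) 9 &&
      Nat.beq (Cfsg.Spor.coxLabel Fi22Cert.pres.edges (Fi22Cert.pres.nm (w.getD i 9))
        (Fi22Cert.pres.nm (w.getD (i + 1) 9))) 2 &&
      (w == w.take i ++ [w.getD i 9, w.getD (i + 1) 9] ++ w.drop (i + 2)) &&
      runOK (w.take i ++ [w.getD (i + 1) 9, w.getD i 9] ++ w.drop (i + 2)) st t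

theorem run_conj : ∀ (st w t : List ℕ), runOK w st t = true →
    ∃ γ : Γ, (t.map W.L).prod = γ * (w.map W.L).prod * γ⁻¹
  | [], w, t, h => ⟨1, by simp only [runOK, beq_iff_eq] at h; simp [h]⟩
  | 0 :: st, w, t, h => by
    obtain ⟨γ, hγ⟩ := run_conj st _ t h
    cases w with
    | nil => exact ⟨γ, by simpa using hγ⟩
    | cons a l =>
      refine ⟨γ * (W.L a)⁻¹, ?_⟩
      rw [hγ, List.rotate_cons_succ, List.rotate_zero]
      simp only [List.map_append, List.map_cons, List.map_nil, List.prod_append, List.prod_cons, List.prod_nil,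
        mul_one]
      group
  | (i + 1) :: st, w, t, h => by
    simp only [runOK, Bool.and_eq_true, beq_iff_eq] at h
    obtain ⟨⟨⟨⟨hp, hq⟩, hl⟩, he⟩, hrest⟩ := h
    obtain ⟨γ, hγ⟩ := run_conj st _ t hrest
    refine ⟨γ, ?_⟩
    have hc := W.cox _ _ (Nat.le_of_ble_eq_true hp) (Nat.le_of_ble_eq_true hq)
    rw [Nat.eq_of_beq_eq_true hl, pow_two] at hc
    generalize w.getD i 9 = p at he hγ hc
    generalize w.getD (i + 1) 9 = q at he hγ hc
    have hpq : W.L q * W.L p = W.L p * W.L q := by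
      rw [eq_inv_of_mul_eq_one_left hc, mul_inv_rev, inv_eq_of_mul_eq_one_left (W.sq p),
        inv_eq_of_mul_eq_one_left (W.sq q)]
    rw [hγ]
    conv_rhs => rw [he]
    simp only [List.map_append, List.map_cons, List.map_nil, List.prod_append, List.prod_cons, List.prod_nil,
      mul_one, hpq]

/-- steps reversing the first Coxeter element -/
def revA : List ℕ := [0, 0, 0, 0, 0, 1, 0, 1, 0, 1, 0, 1, 0, 1, 0, 2, 1, 3, 2, 1, 0, 3, 2, 1, 0, 3, 2, 1, 0, 4, 3, 2, 1, 0, 4, 3, 2, 1, 0, 5, 4, 3, 2, 1, 0]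

/-- steps reversing the second Coxeter element -/
def revB : List ℕ := [0, 0, 0, 0, 0, 1, 0, 1, 0, 1, 0, 1, 0, 1, 0, 2, 1, 0, 2, 1, 0, 2, 1, 0, 2, 1, 0, 3, 2, 1, 4, 3, 2, 1, 0, 4, 3, 2, 1, 0, 5, 4, 3, 2, 1, 0]

theorem rev_ok : runOK [0, 1, 2, 3, 4, 5, 7] revA [7, 5, 4, 3, 2, 1, 0] = true ∧
    runOK [1, 2, 3, 4, 5, 6, 7] revB [7, 6, 5, 4, 3, 2, 1] = true := by decide +kernel

theorem power_invol (h : Cfsg.IsStemExtension π) {c st : List ℕ} {k : ℕ}
    (hrun : runOK c st c.reverse = true) (hk : π ((powW k c).map W.L).prod = 1) :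
    ((powW k c).map W.L).prod * ((powW k c).map W.L).prod = 1 := by
  obtain ⟨γ, hγ⟩ := run_conj W st c _ hrun
  rw [W.word_rev] at hγ
  have hcen := ker_comm h hk γ
  rw [prod_powW] at hcen ⊢
  generalize (c.map W.L).prod = P at hγ hcen
  have e : (P ^ k)⁻¹ = γ * P ^ k * γ⁻¹ := by rw [← inv_pow, hγ, conj_pow]
  rw [hcen, mul_inv_cancel_right] at e
  nth_rewrite 1 [← e]
  exact inv_mul_cancel _

theorem twist_prod {ε : Γ} (hε : ∀ g, g * ε = ε * g) (f g : ℕ → Γ) :
    ∀ w : List ℕ, (∀ x ∈ w, f x = g x * ε) → (w.map f).prod = (w.map g).prod * ε ^ w.length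
  | [], _ => by simp
  | a :: l, hw => by
    rw [List.map_cons, List.prod_cons, twist_prod hε f g l (fun x hx => hw x (by simp [hx])), hw a (by simp),
      List.map_cons, List.prod_cons, List.length_cons, pow_succ']
    calc g a * ε * ((l.map g).prod * ε ^ l.length) = g a * ((ε * (l.map g).prod) * ε ^ l.length) := by group
      _ = g a * (((l.map g).prod * ε) * ε ^ l.length) := by rw [hε]
      _ = g a * (l.map g).prod * (ε * ε ^ l.length) := by group

theorem relW_shape {r : List ℕ} (hr : r ∈ pres.relW) :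
    (∃ i, i < 9 ∧ r = [i, i]) ∨ (∃ i j, i < 9 ∧ j < i ∧
      r = powW (Cfsg.Spor.coxLabel Fi22Cert.pres.edges (Fi22Cert.pres.nm j) (Fi22Cert.pres.nm i)) [j, i]) ∨
      r ∈ extras := by
  simp only [Pres.relW, List.mem_append, List.mem_map, List.mem_flatMap, List.mem_range] at hr
  rcases hr with (⟨i, hi, rfl⟩ | ⟨i, hi, j, hj, rfl⟩) | hr
  · exact Or.inl ⟨i, hi, rfl⟩
  · exact Or.inr (Or.inl ⟨i, j, hi, hj, rfl⟩)
  · exact Or.inr (Or.inr hr)

theorem der_shape : derA = derA.take 42 ++ [8] ++ (derA.take 42).reverse ++ [8] ∧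
    derB = derB.take 42 ++ [1] ++ (derB.take 42).reverse ++ [1] ∧
    derC = powW 3 (derC.take 10 ++ [1] ++ (derC.take 10).reverse ++ [8]) := by decide +kernel

theorem lifted_rels (h : Cfsg.IsStemExtension π) {r : List ℕ} (hr : r ∈ pres.relW) :
    r = sevenA ∨ ((r.map W.L).prod = 1 ∧ 2 ∣ r.length) := by
  have hG := Fi22Cert.Outer.oneOK_spec base_rels hr
  rcases relW_shape hr with ⟨i, hi, rfl⟩ | ⟨i, j, hi, hj, rfl⟩ | he
  · exact Or.inr ⟨by simp [W.sq], by simp⟩
  · refine Or.inr ⟨?_, ?_⟩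
    · rw [prod_powW]
      simpa using W.cox j i (by omega) hi
    · simp [powW]
  · simp only [extras, List.mem_append, List.mem_map, List.mem_range, List.mem_cons, List.not_mem_nil,
      or_false] at he
    rcases he with ((rfl | rfl | rfl | rfl | rfl) | ⟨x, hx, rfl⟩) | ⟨x, hx, rfl⟩
    · refine Or.inr ⟨?_, by decide +kernel⟩
      rw [der_shape.1] at hG ⊢
      exact W.comm_word _ (by decide) hG
    · refine Or.inr ⟨?_, by decide +kernel⟩
      rw [der_shape.2.1] at hG ⊢
      exact W.comm_word _ (by decide) hG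
    · refine Or.inr ⟨?_, by decide +kernel⟩
      rw [der_shape.2.2] at hG ⊢
      exact W.cube_word _ (by decide) (by decide) hG
    · exact Or.inl rfl
    · refine Or.inr ⟨?_, by decide +kernel⟩
      rw [List.map_append, List.prod_append]
      refine power_invol W h (c := [1, 2, 3, 4, 5, 6, 7]) (k := 9) rev_ok.2 ?_
      rw [W.proj_word]
      exact Pres.relW_one Fi22Cert.pres_ok (by rw [relW_base]; simp [sevenB])
    · exact Or.inr ⟨W.comm_word sevenB hx hG, by simp [commW]; omega⟩
    · exact Or.inr ⟨W.comm_word spider hx hG, by simp [commW]; omega⟩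

theorem exists_onto (h : Cfsg.IsStemExtension π) :
    ∃ φ : pres.Grp →* Γ, Function.Surjective φ ∧ π.comp φ = toFi := by
  obtain ⟨W⟩ := exists_lifts h
  have hπ : π (sevenA.map W.L).prod = 1 := by
    rw [W.proj_word]
    exact Pres.relW_one Fi22Cert.pres_ok (by rw [relW_base]; simp)
  have hsv : (sevenA.map W.L).prod * (sevenA.map W.L).prod = 1 :=
    power_invol W h (c := [0, 1, 2, 3, 4, 5, 7]) (k := 9) rev_ok.1 hπ
  generalize hε : (sevenA.map W.L).prod = ε at hsv hπ
  have hc : ∀ g : Γ, g * ε = ε * g := fun g => ker_comm h hπ g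
  let f : ℕ → Γ := fun x => if x < 9 then W.L x * ε else 1
  have hbig : ∀ x, ¬ x < pres.ng → f x = 1 := fun x hx => if_neg hx
  have hrels : ∀ r ∈ pres.relW, (r.map f).prod = 1 := by
    intro r hr
    have hw : (r.map f).prod = (r.map W.L).prod * ε ^ r.length :=
      twist_prod hc f W.L r fun x hx => by
        simp only [f, if_pos (show x < 9 from lettersOK_spec relW_letters hr hx)]
    rw [hw]
    rcases lifted_rels W h hr with rfl | ⟨h1, ⟨k, hk⟩⟩
    · rw [hε, show sevenA.length = 2 * 31 + 1 from rfl, pow_succ, pow_mul, pow_two, hsv, one_pow, one_mul, hsv]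
    · rw [h1, hk, pow_mul, pow_two, hsv, one_pow, one_mul]
  let φ := SpiderCert.homOf pres_ok f hbig hrels
  have hφπ : π.comp φ = toFi := by
    refine PresentedGroup.ext fun a => ?_
    show π (φ (PresentedGroup.of a)) = toFi (PresentedGroup.of a)
    rw [← Pres.gen_of pres_ok a, toFi, SpiderCert.homOf_gen, SpiderCert.homOf_gen]
    simp [f, show pres.ix a < 9 from pres_ok.ix_lt a, W.proj, hπ]
  refine ⟨φ, ?_, hφπ⟩
  have hdec : ∀ c : Γ, ∃ s : pres.Grp, π (c * (φ s)⁻¹) = 1 := fun c => by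
    obtain ⟨s, hs⟩ := toFi_surj (π c)
    exact ⟨s, by rw [map_mul, map_inv, ← MonoidHom.comp_apply, hφπ, hs, mul_inv_cancel]⟩
  have hle : commutator Γ ≤ φ.range := by
    rw [commutator_def, Subgroup.commutator_le]
    intro a _ b _
    obtain ⟨s, hs⟩ := hdec a
    obtain ⟨t, ht⟩ := hdec b
    have hu := ker_comm h hs
    have hv := ker_comm h ht
    have hea : a = a * (φ s)⁻¹ * φ s := by group
    have heb : b = b * (φ t)⁻¹ * φ t := by group
    generalize a * (φ s)⁻¹ = u at hu hea
    generalize b * (φ t)⁻¹ = v at hv heb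
    have e : ⁅a, b⁆ = ⁅φ s, φ t⁆ := by
      generalize φ s = A at hea
      generalize φ t = B at heb
      subst hea heb
      simp only [commutatorElement_def]
      calc u * A * (v * B) * (u * A)⁻¹ * (v * B)⁻¹ = u * (A * v) * B * A⁻¹ * u⁻¹ * B⁻¹ * v⁻¹ := by group
        _ = u * (v * A) * B * A⁻¹ * u⁻¹ * B⁻¹ * v⁻¹ := by rw [hv A]
        _ = (u * (v * (A * B * A⁻¹))) * u⁻¹ * B⁻¹ * v⁻¹ := by group
        _ = ((v * (A * B * A⁻¹)) * u) * u⁻¹ * B⁻¹ * v⁻¹ := by rw [hu (v * (A * B * A⁻¹))]
        _ = (v * (A * B * A⁻¹ * B⁻¹)) * v⁻¹ := by group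
        _ = (A * B * A⁻¹ * B⁻¹ * v) * v⁻¹ := by rw [hv (A * B * A⁻¹ * B⁻¹)]
        _ = A * B * A⁻¹ * B⁻¹ := by group
    rw [e, ← map_commutatorElement]
    exact ⟨_, rfl⟩
  intro g
  exact hle (stem_perfect h ▸ Subgroup.mem_top g)

end

theorem multiplier : Cfsg.HasCyclicSchurMultiplier Cfsg.Spor.Fi22 6 := by
  obtain ⟨e⟩ := kernel_cyclic
  refine ⟨⟨pres.Grp, inferInstance, card_le.1, toFi, stem, ⟨e⟩⟩, fun Γ _ _ σ hσ => ?_⟩
  obtain ⟨φ, hφ, hcomp⟩ := exists_onto (π := σ) hσ
  have hmem : ∀ k : toFi.ker, φ k ∈ σ.ker := fun k => by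
    rw [MonoidHom.mem_ker]; exact (DFunLike.congr_fun hcomp (k : pres.Grp)).trans k.2
  let κ : toFi.ker →* σ.ker := (φ.comp toFi.ker.subtype).codRestrict σ.ker hmem
  suffices hκ : Function.Surjective κ by
    exact ⟨κ.comp e.symm.toMonoidHom, hκ.comp e.symm.surjective⟩
  rintro ⟨y, hy⟩
  obtain ⟨s, rfl⟩ := hφ y
  exact ⟨⟨s, (DFunLike.congr_fun hcomp s).symm.trans hy⟩, rfl⟩

end Cfsg.Agent.Spor.Fi22SixCert
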