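import Mathlib.GroupTheory.Sylow

/-!
Elementary abelian two-subgroups of a central extension by a group of order two in which involutions lift to
involutions.
-/

set_option autoImplicit false

namespace Cfsg.Agent.Spor.TSULift

/-- commuting subgroups of exponent two with at least the given order -/
def Elem {M : Type*} [Group M] (B : Subgroup M) (n : ℕ) : Prop :=
  (∀ x ∈ B, x * x = 1) ∧ n ≤ Nat.card B

theorem Elem.comm {M : Type*} [Group M] {B : Subgroup M} {n : ℕ} (h : Elem B n) {x y : M} (hx : x ∈ B)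
    (hy : y ∈ B) : Commute x y := by
  have e := h.1 _ (mul_mem hx hy)
  calc x * y = (x * y)⁻¹ := (inv_eq_of_mul_eq_one_left e).symm
    _ = y⁻¹ * x⁻¹ := mul_inv_rev x y
    _ = y * x := by rw [inv_eq_of_mul_eq_one_left (h.1 x hx), inv_eq_of_mul_eq_one_left (h.1 y hy)]

theorem Elem.pgroup {M : Type*} [Group M] {B : Subgroup M} {n : ℕ} (h : Elem B n) : IsPGroup 2 B :=
  fun x => ⟨1, Subtype.ext (by rw [pow_one, SubgroupClass.coe_pow, pow_two, h.1 _ x.2, Subgroup.coe_one])⟩

theorem Elem.map {M N : Type*} [Group M] [Group N] {B : Subgroup M} {n : ℕ} (h : Elem B n) (f : M →* N)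
    (hf : Function.Injective f) : Elem (B.map f) n := by
  refine ⟨?_, by rw [Subgroup.card_map_of_injective hf]; exact h.2⟩
  rintro _ ⟨x, hx, rfl⟩
  rw [← map_mul, h.1 x hx, map_one]

variable {L M : Type*} [Group L] [Group M] [Finite L] {q : L →* M}

theorem card_comap (hq : Function.Surjective q) (B : Subgroup M) :
    Nat.card (B.comap q) = Nat.card q.ker * Nat.card B := by
  haveI : Finite M := Finite.of_surjective q hq
  have h1 := Subgroup.card_mul_index (B.comap q)
  have h2 := Subgroup.card_mul_index q.ker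
  rw [Subgroup.index_ker, MonoidHom.range_eq_top.mpr hq, Nat.card_congr Subgroup.topEquiv.toEquiv,
    ← Subgroup.card_mul_index B] at h2
  rw [Subgroup.index_comap_of_surjective _ hq] at h1
  have hpos : 0 < B.index := Nat.pos_of_ne_zero Subgroup.index_ne_zero_of_finite
  refine Nat.eq_of_mul_eq_mul_right hpos ?_
  rw [h1, ← h2, mul_assoc]

variable (hq : Function.Surjective q) (hk : Nat.card q.ker = 2) (hc : q.ker ≤ Subgroup.center L)
variable (hl : ∀ x : M, x * x = 1 → ∃ y : L, q y = x ∧ y * y = 1)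

include hk in
theorem ker_sq {z : L} (hz : z ∈ q.ker) : z * z = 1 := by
  have h := congrArg Subtype.val (pow_card_eq_one' (x := (⟨z, hz⟩ : q.ker)))
  rw [hk] at h
  simpa [pow_two] using h

include hk hc hl in
theorem sq_lift {v : L} (h : q v * q v = 1) : v * v = 1 := by
  obtain ⟨y, hy, hy2⟩ := hl _ h
  have hz : y⁻¹ * v ∈ q.ker := by rw [MonoidHom.mem_ker, map_mul, map_inv, hy, inv_mul_cancel]
  have hzc := Subgroup.mem_center_iff.mp (hc hz)
  calc v * v = y * (y⁻¹ * v) * (y * (y⁻¹ * v)) := by group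
    _ = y * ((y⁻¹ * v) * y) * (y⁻¹ * v) := by group
    _ = y * (y * (y⁻¹ * v)) * (y⁻¹ * v) := by rw [hzc y]
    _ = y * y * ((y⁻¹ * v) * (y⁻¹ * v)) := by group
    _ = 1 := by rw [hy2, ker_sq hk hz, one_mul]

include hq hk hc hl in
theorem elem_comap {B : Subgroup M} {n : ℕ} (h : Elem B n) : Elem (B.comap q) (2 * n) :=
  ⟨fun _ hv => sq_lift hk hc hl (h.1 _ hv), by
    rw [card_comap hq, hk]
    exact Nat.mul_le_mul_left 2 h.2⟩

include hq hk in
theorem elem_image {B : Subgroup L} {n : ℕ} (h : Elem B (2 * n)) : Elem (B.map q) n := by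
  refine ⟨?_, ?_⟩
  · rintro _ ⟨x, hx, rfl⟩
    rw [← map_mul, h.1 x hx, map_one]
  · have h1 : Nat.card B ≤ Nat.card ((B.map q).comap q) := Subgroup.card_le_of_le (Subgroup.le_comap_map q B)
    rw [card_comap hq, hk] at h1
    have := h.2
    omega

include hq hk in
theorem pgroup_comap {B : Subgroup M} (h : IsPGroup 2 B) : IsPGroup 2 (B.comap q) := by
  haveI : Fact (Nat.Prime 2) := ⟨Nat.prime_two⟩
  haveI : Finite M := Finite.of_surjective q hq
  obtain ⟨k, hk'⟩ := IsPGroup.iff_card.mp h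
  exact IsPGroup.of_card (n := k + 1) (by rw [card_comap hq, hk, hk', pow_succ, mul_comm])

/-- large subgroups of exponent two are conjugate to one of them -/
def ConjTo {M : Type*} [Group M] (A : Subgroup M) (n : ℕ) : Prop :=
  ∀ B : Subgroup M, Elem B n → ∃ g : M, B.map (MulAut.conj g).toMonoidHom = A

/-- a two-subgroup has at most one large subgroup of exponent two -/
def UniqueIn (M : Type*) [Group M] (n : ℕ) : Prop :=
  ∀ Q A B : Subgroup M, IsPGroup 2 Q → Elem A n → Elem B n → A ≤ Q → B ≤ Q → A = B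

include hq hk in
theorem conjTo_up {A : Subgroup M} {n : ℕ} (hA : Nat.card A = n) (h : ConjTo A n) :
    ConjTo (A.comap q) (2 * n) := by
  intro B hB
  obtain ⟨g, hg⟩ := h _ (elem_image hq hk hB)
  obtain ⟨v, rfl⟩ := hq g
  refine ⟨v, Subgroup.eq_of_le_of_card_ge ?_ ?_⟩
  · rintro _ ⟨x, hx, rfl⟩
    show q (v * x * v⁻¹) ∈ A
    rw [← hg, map_mul, map_mul, map_inv]
    exact ⟨q x, ⟨x, hx, rfl⟩, rfl⟩
  · rw [card_comap hq, hk, hA, Subgroup.card_map_of_injective (MulAut.conj v).injective]
    exact hB.2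

include hq hk in
theorem unique_up {A : Subgroup M} {n : ℕ} (hA : Nat.card A = n) (h : ConjTo A n) (hu : UniqueIn M n) :
    UniqueIn L (2 * n) := by
  intro Q X Y hQ hX hY hXQ hYQ
  have e := hu (Q.map q) (X.map q) (Y.map q) (hQ.map q) (elem_image hq hk hX) (elem_image hq hk hY)
    (Subgroup.map_mono hXQ) (Subgroup.map_mono hYQ)
  have key : ∀ {Z : Subgroup L}, Elem Z (2 * n) → Z = (Z.map q).comap q := by
    intro Z hZ
    obtain ⟨g, hg⟩ := h _ (elem_image hq hk hZ)
    refine Subgroup.eq_of_le_of_card_ge (Subgroup.le_comap_map q Z) ?_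
    rw [card_comap hq, hk, ← Subgroup.card_map_of_injective (f := (MulAut.conj g).toMonoidHom) (K := Z.map q) (MulAut.conj g).injective]
    exact (congrArg (fun W : Subgroup M => 2 * Nat.card W) hg).le.trans (hA.symm ▸ hZ.2)
  rw [key hX, key hY, e]

end Cfsg.Agent.Spor.TSULift
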