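import Cfsg.Agent.Lib.Spor.TSUChecks
import Cfsg.Agent.Lib.Spor.M22UTransit
import Cfsg.Agent.Lib.Spor.TSULift
import Cfsg.Agent.Lib.Spor.M22UInvClasses

/-!
The elementary abelian subgroup of order 2^10 through the distinguished transposition of Fi22: it is the
largest elementary abelian subgroup up to conjugacy, its stabiliser is transitive on pairs of its members,
and it meets every class of involutions of the centraliser of the transposition.
-/

set_option autoImplicit false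
set_option maxRecDepth 100000

namespace Cfsg.Agent.Spor.TSU

open Cfsg.Agent.Spor.CC Cfsg.Agent.Spor.Fi22Cert Cfsg.Agent.Spor.Fi22Cert.U62Act
open Cfsg.Agent.Spor.M22U Cfsg.Agent.Spor.M22U.Cent
open Cfsg.Agent.Lead.Fi22Two Cfsg.Agent.Lead.Fi22Two.Syl
open Cfsg.Agent.Spor.M22U.Tuples (P p0)
open TDat (q0)
open TSULift (Elem)

theorem finGrp : Finite pres.Grp := order.1

theorem mm_zero : mm 0 = tA := by
  rw [mm, show bp 0 = 0 by decide +kernel]
  exact dp_zero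

theorem tA_mem : tA ∈ EE := mm_zero ▸ mem_EE (by norm_num)

theorem mem_Hsub {g : pres.Grp} : g ∈ Hsub ↔ g * tA = tA * g := by
  rw [← centralizer_eq, Subgroup.mem_centralizer_singleton_iff]

theorem EE_comm {x y : pres.Grp} (hx : x ∈ EE) (hy : y ∈ EE) : Commute x y := by
  obtain ⟨a, -, rfl⟩ := hx
  obtain ⟨b, -, rfl⟩ := hy
  exact eG_comm a b

theorem EE_sq {x : pres.Grp} (hx : x ∈ EE) : x * x = 1 := by
  obtain ⟨a, -, rfl⟩ := hx
  exact eG_sq a

theorem EE_le : EE ≤ Hsub := fun _ hx => mem_Hsub.mpr (EE_comm hx tA_mem).eq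

theorem mm_ne {i j : ℕ} (hi : i < 22) (hj : j < 22) (h : i ≠ j) : mm i ≠ mm j := fun e => by
  have e' : dp (bp i) = dp (bp j) := Subtype.ext e
  have h2 := congrArg (fun d : Fischer.Dc => (Fischer.theta d : ℕ)) e'
  simp only [theta_dp pts_ok (bp_lt hi), theta_dp pts_ok (bp_lt hj)] at h2
  exact h (bp_inj hi hj h2)

theorem member_of {x : pres.Grp} (hx : x ∈ Fischer.Dc) (hxS : x ∈ SY) : ∃ i < 22, x = mm i := by
  set p := (Fischer.theta ⟨x, hx⟩ : ℕ)
  have hp : p < 3510 := (Fischer.theta ⟨x, hx⟩).2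
  have e : x = (dp p : pres.Grp) := congrArg Subtype.val (dp_surj pts_ok ⟨x, hx⟩)
  have hs : scanOK p = true := by
    rcases lt_or_ge p 1755 with hk | hk
    · exact chunk _ _ _ scan0 (Nat.zero_le _) (by omega)
    · exact chunk _ _ _ scan1 hk (by omega)
  simp only [scanOK, Bool.or_eq_true, Bool.not_eq_true'] at hs
  rcases hs with hs | hs
  · exfalso
    rw [List.all_eq_false] at hs
    obtain ⟨i, hi, hne⟩ := hs
    rw [List.mem_range] at hi
    refine hne ?_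
    rw [adjb_iff pts_ok (bp_lt hi) hp, ← e]
    exact comm_in_SY (dp (bp i)).2 hx (SS_mono 7 (mem_EE hi)) hxS
  · obtain ⟨i, hi, hib⟩ := List.getElem_of_mem (mem'_iff.mp hs)
    exact ⟨i, syl_misc.1 ▸ hi, by rw [mm, bp, List.getD_eq_getElem _ _ hi, hib]; exact e⟩

/-- a conjugate of every two-subgroup lies in the Sylow subgroup -/
theorem into_SY {Q : Subgroup pres.Grp} (hQ : IsPGroup 2 Q) :
    ∃ g : pres.Grp, ∀ x ∈ Q, g * x * g⁻¹ ∈ SY := by
  haveI : Fact (Nat.Prime 2) := ⟨Nat.prime_two⟩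
  haveI := finGrp
  have hidx : ¬ 2 ∣ SY.index := by
    have h := SY.card_mul_index
    rw [card_SY, order.2.1] at h
    omega
  let T0 : Sylow 2 pres.Grp := two_group.toSylow hidx
  obtain ⟨T, hT⟩ := hQ.exists_le_sylow
  obtain ⟨g, hg⟩ := MulAction.exists_smul_eq pres.Grp T T0
  refine ⟨g, fun x hx => ?_⟩
  have h : ((g • T : Sylow 2 pres.Grp) : Subgroup pres.Grp) = SY := by rw [hg]; rfl
  rw [← h]
  exact ⟨x, hT hx, rfl⟩

theorem big_EE : Elem EE 1024 := ⟨fun _ hx => EE_sq hx, card_EE.ge⟩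

theorem big_eq {B : Subgroup pres.Grp} (h : Elem B 1024) (hle : B ≤ SY) : B = EE :=
  elemAb_le hle (fun _ hx _ hy => h.comm hx hy) h.1 h.2

theorem big_conj {B : Subgroup pres.Grp} (h : Elem B 1024) :
    ∃ g : pres.Grp, B.map (MulAut.conj g).toMonoidHom = EE := by
  obtain ⟨g, hg⟩ := into_SY h.pgroup
  refine ⟨g, big_eq (h.map _ (MulAut.conj g).injective) ?_⟩
  rintro _ ⟨x, hx, rfl⟩
  exact hg x hx

theorem big_unique {Q A B : Subgroup pres.Grp} (hQ : IsPGroup 2 Q) (hA : Elem A 1024) (hB : Elem B 1024)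
    (hAQ : A ≤ Q) (hBQ : B ≤ Q) : A = B := by
  obtain ⟨g, hg⟩ := into_SY hQ
  have key : ∀ {X : Subgroup pres.Grp}, Elem X 1024 → X ≤ Q → X.map (MulAut.conj g).toMonoidHom = EE :=
    fun {X} hX hXQ => big_eq (hX.map _ (MulAut.conj g).injective) (by
      rintro _ ⟨x, hx, rfl⟩
      exact hg x (hXQ hx))
  exact Subgroup.map_injective (MulAut.conj g).injective ((key hA hAQ).trans (key hB hBQ).symm)

/-! ### the normaliser of EE -/

/-- normalises EE -/
def Nrm (n : pres.Grp) : Prop := EE.map (MulAut.conj n).toMonoidHom = EE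

theorem Nrm.mem {n x : pres.Grp} (h : Nrm n) (hx : x ∈ EE) : n * x * n⁻¹ ∈ EE := by
  have := Subgroup.mem_map_of_mem (MulAut.conj n).toMonoidHom hx
  rwa [h] at this

theorem Nrm.mul {m n : pres.Grp} (hm : Nrm m) (hn : Nrm n) : Nrm (m * n) := by
  show _ = EE
  rw [map_mul, show (MulAut.conj m * MulAut.conj n).toMonoidHom =
      (MulAut.conj m).toMonoidHom.comp (MulAut.conj n).toMonoidHom from rfl, ← Subgroup.map_map, hn, hm]

theorem Nrm.inv {n : pres.Grp} (h : Nrm n) : Nrm n⁻¹ := by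
  show _ = EE
  conv_lhs => rw [← (h : EE.map (MulAut.conj n).toMonoidHom = EE), Subgroup.map_map]
  rw [show (MulAut.conj n⁻¹).toMonoidHom.comp (MulAut.conj n).toMonoidHom = MonoidHom.id _ from
    MonoidHom.ext fun x => by
      show n⁻¹ * (n * x * n⁻¹) * n⁻¹⁻¹ = x
      group, Subgroup.map_id]

/-- conjugation carrying one list of members to another can be made to normalise EE -/
theorem correct {S : Set pres.Grp} (hS : S ⊆ (EE : Set pres.Grp)) {g : pres.Grp}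
    (hg : ∀ x ∈ S, g * x * g⁻¹ ∈ EE) :
    ∃ n, Nrm n ∧ ∀ x ∈ S, n * x * n⁻¹ = g * x * g⁻¹ := by
  haveI := finGrp
  haveI : Fact (Nat.Prime 2) := ⟨Nat.prime_two⟩
  -- both groups centralise the images
  set S' := (fun x => g * x * g⁻¹) '' S
  set C := Subgroup.centralizer S'
  set E' := EE.map (MulAut.conj g).toMonoidHom
  have h1 : EE ≤ C := fun x hx => Subgroup.mem_centralizer_iff.mpr (by
    rintro _ ⟨s, hs, rfl⟩
    exact (EE_comm (hg s hs) hx).eq)
  have h2 : E' ≤ C := by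
    rintro _ ⟨x, hx, rfl⟩
    refine Subgroup.mem_centralizer_iff.mpr ?_
    rintro _ ⟨s, hs, rfl⟩
    exact ((EE_comm (hS hs) hx).map (MulAut.conj g).toMonoidHom).eq
  have hb := big_EE.map (MulAut.conj g).toMonoidHom (MulAut.conj g).injective
  obtain ⟨T1, hT1⟩ := (IsPGroup.comap_of_injective big_EE.pgroup C.subtype Subtype.val_injective).exists_le_sylow
  obtain ⟨T2, hT2⟩ := (IsPGroup.comap_of_injective hb.pgroup C.subtype Subtype.val_injective).exists_le_sylow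
  obtain ⟨c, hc⟩ := MulAction.exists_smul_eq C T2 T1
  have hQ : IsPGroup 2 ((T1 : Subgroup C).map C.subtype) := T1.isPGroup'.map _
  have heq : E'.map (MulAut.conj (c : pres.Grp)).toMonoidHom = EE := by
    refine big_unique hQ (hb.map _ (MulAut.conj (c : pres.Grp)).injective) big_EE ?_ ?_
    · rintro _ ⟨x, hx, rfl⟩
      have hx' : (⟨x, h2 hx⟩ : C) ∈ (T2 : Subgroup C) := hT2 hx
      refine ⟨c * ⟨x, h2 hx⟩ * c⁻¹, ?_, rfl⟩
      show _ ∈ ((T1 : Sylow 2 C) : Subgroup C)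
      rw [← hc]
      exact ⟨_, hx', rfl⟩
    · intro x hx
      exact ⟨⟨x, h1 hx⟩, hT1 hx, rfl⟩
  refine ⟨(c : pres.Grp) * g, ?_, fun x hx => ?_⟩
  · show _ = EE
    rw [map_mul, show (MulAut.conj (c : pres.Grp) * MulAut.conj g).toMonoidHom =
      (MulAut.conj (c : pres.Grp)).toMonoidHom.comp (MulAut.conj g).toMonoidHom from rfl, ← Subgroup.map_map]
    exact heq
  · have := Subgroup.mem_centralizer_iff.mp c.2 (g * x * g⁻¹) ⟨x, hx, rfl⟩
    calc (c : pres.Grp) * g * x * ((c : pres.Grp) * g)⁻¹ = (c : pres.Grp) * (g * x * g⁻¹) * (c : pres.Grp)⁻¹ := by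
          group
      _ = g * x * g⁻¹ := by rw [← this, mul_inv_cancel_right]

theorem pairs_move {i j i' j' : ℕ} (hi : i < 22) (hj : j < 22) (hi' : i' < 22) (hj' : j' < 22)
    (i0 : i ≠ 0) (j0 : j ≠ 0) (i'0 : i' ≠ 0) (j'0 : j' ≠ 0) (hij : i ≠ j) (hij' : i' ≠ j') :
    ∃ n, Nrm n ∧ n * tA * n⁻¹ = tA ∧ n * mm i * n⁻¹ = mm i' ∧ n * mm j * n⁻¹ = mm j' := by
  have key : ∀ {a b : ℕ}, a < 22 → b < 22 → a ≠ 0 → b ≠ 0 → a ≠ b →
      ∃ H, H * tA * H⁻¹ = tA ∧ H * P p0 * H⁻¹ = mm a ∧ H * P q0 * H⁻¹ = mm b := by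
    intro a b ha hb a0 b0 hab
    have hD : ∀ {k : ℕ}, k < 22 → mm k ∈ (MulEquiv.refl pres.Grp) '' Fischer.Dc :=
      fun {k} _ => ⟨_, (dp (bp k)).2, rfl⟩
    have hne : ∀ {k : ℕ}, k < 22 → k ≠ 0 → mm k ≠ tA := fun hk h0 => by
      rw [← mm_zero]; exact mm_ne hk (by norm_num) h0
    have hct : ∀ {k : ℕ}, k < 22 → Commute tA (mm k) := fun hk => EE_comm tA_mem (mem_EE hk)
    obtain ⟨p, hp, hpa⟩ := Tuples.member_pt (MulEquiv.refl pres.Grp) rfl (hD ha) (hne ha a0) (hct ha)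
    obtain ⟨w, hw, hwp⟩ := Pts.from_first hp
    set W := Fischer.frame.hw w
    have eA : W * tA * W⁻¹ = tA := by
      have hz := Fischer.frame.hw_comm_a hw
      rw [Tuples.frame_a] at hz
      exact mul_inv_eq_iff_eq_mul.mpr hz.symm.eq
    have eB : W * P p0 * W⁻¹ = mm a := by
      rw [Fischer.frame.hw_conj hw Tuples.p0_lt, hwp]; exact hpa
    set b' := W⁻¹ * mm b * W with hb'
    have hb'D : b' ∈ Fischer.Dc := (Spor.conj_mem_iff Fischer.three.2.1 W).1 (dp (bp b)).2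
    have back : ∀ {u : pres.Grp}, b' = u → W * u * W⁻¹ = mm b := fun h => by rw [← h, hb']; group
    obtain ⟨q, hq, hqb⟩ := Tuples.member_pt (MulEquiv.refl pres.Grp) rfl (y := b') ⟨_, hb'D, rfl⟩
      (fun h => hne hb b0 ((back h).symm.trans eA))
      (show Commute tA b' by
        have := (hct hb).map (MulAut.conj W⁻¹).toMonoidHom
        simp only [MulEquiv.coe_toMonoidHom, MulAut.conj_apply, inv_inv] at this
        rwa [show W⁻¹ * tA * W = tA by nth_rewrite 1 [← eA]; group] at this)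
    have horth : orth p0 q = true := (Tuples.orth_iff (MulEquiv.refl pres.Grp) Tuples.p0_lt hq).mp (by
      show Commute (P p0) ((MulEquiv.refl pres.Grp) (P q))
      rw [hqb]
      have := (EE_comm (mem_EE ha) (mem_EE hb)).map (MulAut.conj W⁻¹).toMonoidHom
      simp only [MulEquiv.coe_toMonoidHom, MulAut.conj_apply, inv_inv] at this
      rwa [show W⁻¹ * mm a * W = P p0 by rw [← eB]; group] at this)
    obtain ⟨v, hv, v1, v2⟩ := Tuples.two_word hq horth (fun h => mm_ne ha hb hab (by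
      rw [← eB]
      exact back (hqb.symm.trans (by rw [h]; rfl))))
    set V := Fischer.frame.hw v
    have vA : V * tA * V⁻¹ = tA := by
      have hz := Fischer.frame.hw_comm_a hv
      rw [Tuples.frame_a] at hz
      exact mul_inv_eq_iff_eq_mul.mpr hz.symm.eq
    refine ⟨W * V, ?_, ?_, ?_⟩
    · rw [show W * V * tA * (W * V)⁻¹ = W * (V * tA * V⁻¹) * W⁻¹ by group, vA, eA]
    · rw [show W * V * P p0 * (W * V)⁻¹ = W * (V * P p0 * V⁻¹) * W⁻¹ by group,
        Fischer.frame.hw_conj hv Tuples.p0_lt, v1, eB]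
    · rw [show W * V * P q0 * (W * V)⁻¹ = W * (V * P q0 * V⁻¹) * W⁻¹ by group,
        Fischer.frame.hw_conj hv Tuples.base_ok.1, v2]
      exact back hqb.symm
  obtain ⟨H1, a1, b1, c1⟩ := key hi hj i0 j0 hij
  obtain ⟨H2, a2, b2, c2⟩ := key hi' hj' i'0 j'0 hij'
  have hmap : ∀ {u v w : pres.Grp}, H1 * u * H1⁻¹ = v → H2 * u * H2⁻¹ = w →
      H2 * H1⁻¹ * v * (H2 * H1⁻¹)⁻¹ = w := fun e1 e2 => by rw [← e1, ← e2]; group
  obtain ⟨n, hn, hx⟩ := correct (S := {tA, mm i, mm j}) (g := H2 * H1⁻¹)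
    (fun x hx => by
      rcases hx with rfl | rfl | rfl
      exacts [tA_mem, mem_EE hi, mem_EE hj])
    (fun x hx => by
      rcases hx with rfl | rfl | rfl
      · rw [hmap a1 a2]; exact tA_mem
      · rw [hmap b1 b2]; exact mem_EE hi'
      · rw [hmap c1 c2]; exact mem_EE hj')
  exact ⟨n, hn, (hx _ (Or.inl rfl)).trans (hmap a1 a2), (hx _ (Or.inr (Or.inl rfl))).trans (hmap b1 b2),
    (hx _ (Or.inr (Or.inr rfl))).trans (hmap c1 c2)⟩

theorem one_move {i i' : ℕ} (hi : i < 22) (hi' : i' < 22) (i0 : i ≠ 0) (i'0 : i' ≠ 0) :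
    ∃ n, Nrm n ∧ n * tA * n⁻¹ = tA ∧ n * mm i * n⁻¹ = mm i' := by
  obtain ⟨j, hj, j0, hij⟩ : ∃ j < 22, j ≠ 0 ∧ i ≠ j := by
    by_cases h : i = 1
    · exact ⟨2, by norm_num, by norm_num, by omega⟩
    · exact ⟨1, by norm_num, by norm_num, h⟩
  obtain ⟨j', hj', j'0, hij'⟩ : ∃ j < 22, j ≠ 0 ∧ i' ≠ j := by
    by_cases h : i' = 1
    · exact ⟨2, by norm_num, by norm_num, by omega⟩
    · exact ⟨1, by norm_num, by norm_num, h⟩
  obtain ⟨n, a, b, c, -⟩ := pairs_move hi hj hi' hj' i0 j0 i'0 j'0 hij hij'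
  exact ⟨n, a, b, c⟩

theorem rr_nrm {m : ℕ} (hm : m < 128) : Nrm (rr m) := by
  haveI := finGrp
  refine Subgroup.eq_of_le_of_card_ge ?_ (le_of_eq (Subgroup.card_map_of_injective (MulAut.conj (rr m)).injective).symm)
  rintro _ ⟨x, ⟨c, -, rfl⟩, rfl⟩
  obtain ⟨h1, h2⟩ := cimg_spec hm c
  exact ⟨_, h1, h2⟩

theorem rr_mm {m i : ℕ} (hm : m < 128) (hi : i < 22) :
    rr m * mm i * (rr m)⁻¹ = mm (Syl.pim m i) ∧ Syl.pim m i < 22 := by
  obtain ⟨h1, h2⟩ := act_rr 7 le_rfl m hm i hi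
  exact ⟨by rw [conj_mm _ hi, h2]; rfl, h1⟩

theorem rr_Hsub {m : ℕ} (hm : m < 128) (h : Syl.pim m 0 = 0) : rr m ∈ Hsub := by
  have := (rr_mm hm (show 0 < 22 by norm_num)).1
  rw [h, mm_zero] at this
  exact mem_Hsub.mpr (mul_inv_eq_iff_eq_mul.mp this)

end Cfsg.Agent.Spor.TSU
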