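import Cfsg.Prelude.Def_SporadicB
import Cfsg.Prelude.Def_FischerSpaces
import Cfsg.Agent.Lib.Classical.OrthMatrix
import Cfsg.Agent.Lib.Classical.OrthClassRefl

/-!
Reflections of a given norm over the field with three elements.
-/

set_option autoImplicit false
set_option linter.unusedSectionVars false

namespace Cfsg.Agent.Spor.ReflThree

open Module QuadraticMap Matrix Cfsg.Agent.Classical.ORefl Cfsg.Agent.Classical.OCount
  Cfsg.Agent.Classical.OOmega

variable {ι : Type} [Fintype ι] [DecidableEq ι] {Q : QuadraticForm (ZMod 3) (ι → ZMod 3)}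

theorem two_ne_three : (2 : ZMod 3) ≠ 0 := by decide

theorem div_square {a c : ZMod 3} (hc : c ≠ 0) (ha : a ≠ 0) : IsSquare (a / c) ↔ a = c := by
  constructor
  · rintro ⟨r, hr⟩
    rw [div_eq_iff hc] at hr
    have key : ∀ r : ZMod 3, r = 0 ∨ r * r = 1 := by decide
    rcases key r with h | h
    · exact absurd (by rw [hr, h, mul_zero, zero_mul]) ha
    · rw [hr, h, one_mul]
  · rintro rfl
    rw [div_self hc]
    exact IsSquare.one

/-- the matrix reflections of a given norm -/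
theorem mem_refl_iff {c : ZMod 3} {g : ↥(Cfsg.isometryGroup (ZMod 3) ⇑Q)} :
    g ∈ Cfsg.reflectionsOfNorm ⇑Q c ↔ ∃ v, Q v = c ∧ g = toMat Q (rf Q v) := by
  constructor
  · rintro ⟨v, hv, h⟩
    exact ⟨v, hv, eq_toMat_refl h⟩
  · rintro ⟨v, hv, rfl⟩
    exact ⟨v, hv, toMat_refl v⟩

theorem reflectionSubgroup_eq {c : ZMod 3} (hc : c ≠ 0) :
    Cfsg.reflectionSubgroup ⇑Q c = (classGroup Q c).map (toMat Q).toMonoidHom := by
  rw [Cfsg.reflectionSubgroup, classGroup, MonoidHom.map_closure]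
  congr 1
  ext g
  rw [mem_refl_iff, Set.mem_image]
  constructor
  · rintro ⟨v, hv, rfl⟩
    exact ⟨_, ⟨v, by rw [hv]; exact hc, by rw [hv, div_self hc]; exact IsSquare.one, rfl⟩, rfl⟩
  · rintro ⟨_, ⟨v, hv0, hs, rfl⟩, rfl⟩
    exact ⟨v, (div_square hc hv0).1 hs, rfl⟩

theorem index_eq (hQ : PND Q) (hn : 5 ≤ Fintype.card ι) {c : ZMod 3} (hc : c ≠ 0) :
    (Cfsg.reflectionSubgroup ⇑Q c).index = 2 := by
  rw [reflectionSubgroup_eq hc, show (classGroup Q c).map (toMat Q).toMonoidHom =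
    (classGroup Q c).map (toMat Q : ↥(Iso Q) →* ↥(Cfsg.isometryGroup (ZMod 3) ⇑Q)) from rfl,
    Subgroup.index_map_equiv]
  exact index_classGroup two_ne_three hQ (by rw [finrank_fintype_fun_eq_card]; omega)
    (Or.inr (Or.inl (by rw [finrank_fintype_fun_eq_card]; exact hn))) hc

theorem conj_mat (g : ↥(Cfsg.isometryGroup (ZMod 3) ⇑Q)) (v : ι → ZMod 3) :
    g * toMat Q (rf Q v) * g⁻¹ = toMat Q (rf Q (((toMat Q).symm g).1 v)) := by
  conv_lhs => rw [← (toMat Q).apply_symm_apply g]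
  rw [← map_inv, ← map_mul, ← map_mul, conj_rf]

theorem rf_apply {c : ZMod 3} {v : ι → ZMod 3} (hv : Q v = c) (x : ι → ZMod 3) :
    (rf Q v).1 x = x - (c⁻¹ * polar Q v x) • v := by
  show refl Q v x = _
  rw [refl_apply, hv]

theorem rf_ne_one {c : ZMod 3} (hc : c ≠ 0) {v : ι → ZMod 3} (hv : Q v = c) : rf Q v ≠ 1 := by
  intro h
  have h1 : (rf Q v).1 v = v := by rw [h]; rfl
  change refl Q v v = v at h1
  rw [refl_self (by rw [hv]; exact hc), neg_eq_iff_add_eq_zero, ← two_smul (ZMod 3), smul_eq_zero] at h1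
  exact h1.elim two_ne_three fun h0 => hc (by rw [← hv, h0, QuadraticMap.map_zero])

theorem unit_cases : ∀ a : ZMod 3, a = 0 ∨ a = 1 ∨ a = -1 := by decide

/-- two reflections of equal norm commute or braid -/
theorem comm_or_braid {c : ZMod 3} {v w : ι → ZMod 3} (hv : Q v = c) (hw : Q w = c) :
    (c⁻¹ * polar Q v w = 0 ∧ rf Q v * rf Q w = rf Q w * rf Q v) ∨
      (c⁻¹ * polar Q v w ≠ 0 ∧ rf Q v * rf Q w * rf Q v = rf Q w * rf Q v * rf Q w) := by
  have h1 : rf Q v * rf Q w * rf Q v = rf Q (w - (c⁻¹ * polar Q v w) • v) := by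
    have := conj_rf (rf Q v) w
    rwa [rf_inv, rf_apply hv] at this
  have h2 : rf Q w * rf Q v * rf Q w = rf Q (v - (c⁻¹ * polar Q v w) • w) := by
    have := conj_rf (rf Q w) v
    rwa [rf_inv, rf_apply hw, polar_comm (⇑Q) w v] at this
  rcases eq_or_ne (c⁻¹ * polar Q v w) 0 with h | h
  · refine .inl ⟨h, ?_⟩
    rw [h, zero_smul, sub_zero] at h1
    have := congrArg (· * rf Q v) h1
    simpa [mul_assoc, rf_mul_self] using this
  · refine .inr ⟨h, ?_⟩
    rw [h1, h2]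
    rcases unit_cases (c⁻¹ * polar Q v w) with e | e | e
    · exact absurd e h
    · rw [e, one_smul, one_smul, ← neg_sub v w, ← neg_one_smul (ZMod 3) (v - w)]
      exact rf_smul (by decide) _
    · rw [e]; congr 1; simp [add_comm]

theorem pair_order {c : ZMod 3} {v w : ι → ZMod 3} (hv : Q v = c) (hw : Q w = c) :
    (rf Q v * rf Q w) ^ 2 = 1 ∨ (rf Q v * rf Q w) ^ 3 = 1 := by
  have hA := rf_mul_self (Q := Q) v
  have hB := rf_mul_self (Q := Q) w
  rcases comm_or_braid hv hw with ⟨-, e⟩ | ⟨-, e⟩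
  · left
    generalize rf Q v = A, rf Q w = B at e hA hB ⊢
    rw [pow_two, mul_assoc A B, ← mul_assoc B A, ← e, mul_assoc, hB, mul_one, hA]
  · right
    generalize rf Q v = A, rf Q w = B at e hA hB ⊢
    calc (A * B) ^ 3 = (A * B * A) * (B * A * B) := by
          rw [pow_succ, pow_two]; simp only [mul_assoc]
      _ = B * A * (B * B) * A * B := by rw [e]; simp only [mul_assoc]
      _ = 1 := by rw [hB, mul_one, mul_assoc B, hA, mul_one, hB]

/-- a common non-orthogonal neighbour of two orthogonal vectors -/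
theorem exists_mid (hQ : PND Q) (hn : 4 ≤ Fintype.card ι) {c : ZMod 3} (hc : c ≠ 0)
    {v w : ι → ZMod 3} (hv : Q v = c) (hw : Q w = c) (h : polar Q v w = 0) :
    ∃ u, Q u = c ∧ polar Q v u ≠ 0 ∧ polar Q w u ≠ 0 := by
  set K := LinearMap.ker (Q.polarBilin v) ⊓ LinearMap.ker (Q.polarBilin w) with hK
  have hmem : ∀ z, z ∈ K ↔ polar Q v z = 0 ∧ polar Q w z = 0 := fun z => by
    simp [hK, Submodule.mem_inf]
  have hK2 : 2 ≤ finrank (ZMod 3) K := by
    have hker : ∀ φ : (ι → ZMod 3) →ₗ[ZMod 3] ZMod 3,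
        finrank (ZMod 3) (ι → ZMod 3) ≤ finrank (ZMod 3) (LinearMap.ker φ) + 1 := fun φ => by
      have h3 := φ.finrank_range_add_finrank_ker
      have h4 := Submodule.finrank_le (LinearMap.range φ)
      rw [finrank_self] at h4
      omega
    have h1 := Submodule.finrank_sup_add_finrank_inf_eq (LinearMap.ker (Q.polarBilin v))
      (LinearMap.ker (Q.polarBilin w))
    have h2 := Submodule.finrank_le (LinearMap.ker (Q.polarBilin v) ⊔ LinearMap.ker (Q.polarBilin w))
    have ha := hker (Q.polarBilin v)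
    have hb := hker (Q.polarBilin w)
    rw [← hK] at h1
    rw [finrank_fintype_fun_eq_card] at h2 ha hb
    omega
  have hd2 : (2 * c : ZMod 3) ≠ 0 := mul_ne_zero two_ne_three hc
  have hKnd : PND (Q.comp K.subtype) := by
    intro z hz
    refine Subtype.ext (hQ z.1 fun y => ?_)
    obtain ⟨z1, z2⟩ := (hmem _).mp z.2
    have hkK : y - (polar Q v y / (2 * c)) • v - (polar Q w y / (2 * c)) • w ∈ K := by
      rw [hmem]
      simp only [polar_sub_right, polar_smul_right, smul_eq_mul, polar_self_two, hv, hw, h,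
        polar_comm (⇑Q) w v, mul_zero, sub_zero, div_mul_cancel₀ _ hd2, sub_self, and_self]
    have h1 := hz ⟨_, hkK⟩
    have h2 : polar Q (z : ι → ZMod 3) (y - (polar Q v y / (2 * c)) • v - (polar Q w y / (2 * c)) • w) = 0 := h1
    simpa [polar_sub_right, polar_smul_right, polar_comm (⇑Q) (z : ι → ZMod 3) v,
      polar_comm (⇑Q) (z : ι → ZMod 3) w, z1, z2] using h2
  obtain ⟨x, hx⟩ := exists_value two_ne_three hKnd hK2 (-c)
  obtain ⟨hvx, hwx⟩ := (hmem _).mp x.2
  have hx' : Q (x : ι → ZMod 3) = -c := hx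
  refine ⟨v + w + x, ?_, ?_, ?_⟩
  · rw [QuadraticMap.map_add (⇑Q), QuadraticMap.map_add (⇑Q) v w, polar_add_left, hv, hw, hx', h,
      hvx, hwx]
    ring
  · rw [polar_add_right, polar_add_right, polar_self_two, hv, h, hvx, add_zero, add_zero]
    exact hd2
  · rw [polar_add_right, polar_add_right, polar_self_two, hw, polar_comm (⇑Q) w v, h, hwx, zero_add,
      add_zero]
    exact hd2

/-- the reflections of equal norm are conjugate in the group they generate -/
theorem conj_in (hQ : PND Q) (hn : 4 ≤ Fintype.card ι) {c : ZMod 3} (hc : c ≠ 0)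
    {v w : ι → ZMod 3} (hv : Q v = c) (hw : Q w = c) :
    ∃ g ∈ classGroup Q c, g * rf Q v * g⁻¹ = rf Q w := by
  have hmem : ∀ u, Q u = c → rf Q u ∈ classGroup Q c := fun u hu =>
    rf_mem_class (by rw [hu]; exact hc) (by rw [hu, div_self hc]; exact IsSquare.one)
  have hbraid : ∀ u u', Q u = c → Q u' = c → polar Q u u' ≠ 0 →
      ∃ g ∈ classGroup Q c, g * rf Q u * g⁻¹ = rf Q u' := by
    intro u u' hu hu' h
    rcases comm_or_braid hu hu' with ⟨h0, -⟩ | ⟨-, e⟩
    · exact absurd h0 (mul_ne_zero (inv_ne_zero hc) h)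
    · refine ⟨rf Q u * rf Q u', mul_mem (hmem u hu) (hmem u' hu'), ?_⟩
      rw [_root_.mul_inv_rev, rf_inv, rf_inv]
      have hA := rf_mul_self (Q := Q) u
      have hB := rf_mul_self (Q := Q) u'
      generalize rf Q u = A, rf Q u' = B at e hA hB ⊢
      calc A * B * A * (B * A) = B * A * (B * B) * A := by rw [e]; simp only [mul_assoc]
        _ = B := by rw [hB, mul_one, mul_assoc, hA, mul_one]
  by_cases h : polar Q v w = 0
  · obtain ⟨u, hu, hvu, hwu⟩ := exists_mid hQ hn hc hv hw h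
    obtain ⟨a, ha, ha'⟩ := hbraid v u hv hu hvu
    obtain ⟨b, hb, hb'⟩ := hbraid u w hu hw (by rwa [polar_comm])
    refine ⟨b * a, mul_mem hb ha, ?_⟩
    rw [← hb', ← ha']
    group
  · exact hbraid v w hv hw h

/-- reflections of one norm form a class of 3-transpositions -/
theorem isClass (hQ : PND Q) (hn : 4 ≤ Fintype.card ι) {c : ZMod 3} (hc : c ≠ 0) :
    Cfsg.IsThreeTranspositionClass {g : ↥(Cfsg.reflectionSubgroup ⇑Q c) |
      (g : ↥(Cfsg.isometryGroup (ZMod 3) ⇑Q)) ∈ Cfsg.reflectionsOfNorm ⇑Q c} := by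
  obtain ⟨v₀, hv₀⟩ := exists_value two_ne_three hQ (by rw [finrank_fintype_fun_eq_card]; omega) c
  have hd₀ : toMat Q (rf Q v₀) ∈ Cfsg.reflectionsOfNorm ⇑Q c := mem_refl_iff.2 ⟨v₀, hv₀, rfl⟩
  refine ⟨⟨fun d hd => ?_, fun d hd e he => ?_⟩,
    ⟨⟨_, Subgroup.subset_closure hd₀⟩, hd₀, ?_⟩, ?_⟩
  · obtain ⟨v, hv, hdv⟩ := mem_refl_iff.1 hd
    have : Fact (Nat.Prime 2) := ⟨Nat.prime_two⟩
    refine orderOf_eq_prime (Subtype.ext ?_) fun h1 => ?_
    · show ((d : ↥(Cfsg.isometryGroup (ZMod 3) ⇑Q))) ^ 2 = 1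
      rw [hdv, pow_two, ← map_mul, rf_mul_self, map_one]
    · rw [h1] at hdv
      exact rf_ne_one hc hv ((toMat Q).injective ((map_one (toMat Q)).trans hdv).symm)
  · obtain ⟨v, hv, hdv⟩ := mem_refl_iff.1 hd
    obtain ⟨w, hw, hew⟩ := mem_refl_iff.1 he
    refine (pair_order hv hw).imp (fun h => Subtype.ext ?_) (fun h => Subtype.ext ?_) <;>
    · show ((d : ↥(Cfsg.isometryGroup (ZMod 3) ⇑Q)) * e) ^ _ = 1
      rw [hdv, hew, ← map_mul, ← map_pow, h, map_one]
  · ext g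
    show _ ↔ IsConj _ g
    rw [isConj_iff]
    constructor
    · intro hg
      obtain ⟨w, hw, hgw⟩ := mem_refl_iff.1 hg
      obtain ⟨h, hh, e⟩ := conj_in hQ hn hc hv₀ hw
      refine ⟨⟨toMat Q h, ?_⟩, Subtype.ext ?_⟩
      · rw [reflectionSubgroup_eq hc]; exact Subgroup.mem_map_of_mem _ hh
      · show toMat Q h * toMat Q (rf Q v₀) * (toMat Q h)⁻¹ = g
        rw [hgw, ← e, map_mul, map_mul, map_inv]
    · rintro ⟨h, rfl⟩
      show (h : ↥(Cfsg.isometryGroup (ZMod 3) ⇑Q)) * toMat Q (rf Q v₀) * (h : ↥(Cfsg.isometryGroup (ZMod 3) ⇑Q))⁻¹ ∈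
        Cfsg.reflectionsOfNorm ⇑Q c
      rw [conj_mat]
      exact mem_refl_iff.2 ⟨_, by rw [((toMat Q).symm (h : ↥(Cfsg.isometryGroup (ZMod 3) ⇑Q))).2]; exact hv₀, rfl⟩
  · exact Subgroup.closure_closure_coe_preimage

end Cfsg.Agent.Spor.ReflThree
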