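import Cfsg.Agent.Lib.Spor.Fi23MultLift

/-!
Transpositions of Fi23 and the points on which the group acts.
-/

set_option autoImplicit false
set_option maxRecDepth 100000

namespace Cfsg.Agent.Spor.Fi23Cert.Outer

open Cfsg.Agent.Spor.CC
open Cfsg.Agent.Spor.Fi23Cert.Below

/-- `d` is the transposition belonging to the point `p` -/
def IsPt (d : pres.Grp) (p : ℕ) : Prop :=
  ∃ g, d = g * tA * g⁻¹ ∧ ((rep.hom g rep.z : Fin rep.P.n) : ℕ) = p

theorem conj_same {g h : pres.Grp} : g * tA * g⁻¹ = h * tA * h⁻¹ ↔ rep.hom g rep.z = rep.hom h rep.z := by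
  have key : h⁻¹ * g ∈ Ksub ↔ rep.hom g rep.z = rep.hom h rep.z := by
    rw [show Ksub = stab rep.hom rep.z from stab_eq.1, mem_stab, map_mul, Equiv.Perm.mul_apply, map_inv,
      Equiv.Perm.inv_eq_iff_eq]
  rw [← key, ← centralizer_eq, Subgroup.mem_centralizer_singleton_iff]
  constructor
  · intro e
    calc h⁻¹ * g * tA = h⁻¹ * (g * tA * g⁻¹) * g := by group
      _ = h⁻¹ * (h * tA * h⁻¹) * g := by rw [e]
      _ = tA * (h⁻¹ * g) := by group
  · intro e
    calc g * tA * g⁻¹ = h * (h⁻¹ * g * tA) * g⁻¹ := by group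
      _ = h * (tA * (h⁻¹ * g)) * g⁻¹ := by rw [e]
      _ = h * tA * h⁻¹ := by group

theorem IsPt.inj {d e : pres.Grp} {p : ℕ} (hd : IsPt d p) (he : IsPt e p) : d = e := by
  obtain ⟨g, rfl, hg⟩ := hd
  obtain ⟨h, rfl, hh⟩ := he
  exact conj_same.mpr (Fin.ext (hg.trans hh.symm))

theorem IsPt.unique {d : pres.Grp} {p q : ℕ} (hd : IsPt d p) (he : IsPt d q) : p = q := by
  obtain ⟨g, rfl, hg⟩ := hd
  obtain ⟨h, e, hh⟩ := he
  rw [← hg, ← hh, conj_same.mp e]

theorem IsPt.lt {d : pres.Grp} {p : ℕ} (hd : IsPt d p) : p < 31671 := by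
  obtain ⟨g, -, hg⟩ := hd
  exact hg ▸ (rep.hom g rep.z).2

theorem exists_pt {d : pres.Grp} (hd : d ∈ conjugatesOf tA) : ∃ p, IsPt d p := by
  obtain ⟨c, rfl⟩ := isConj_iff.mp hd
  exact ⟨_, c, rfl, rfl⟩

theorem IsPt.conj {d : pres.Grp} {p : ℕ} (hd : IsPt d p) (s : pres.Grp) (hp : p < 31671) :
    IsPt (s * d * s⁻¹) (rep.hom s ⟨p, hp⟩ : Fin rep.P.n) := by
  obtain ⟨g, rfl, hg⟩ := hd
  refine ⟨s * g, by group, ?_⟩
  rw [map_mul, Equiv.Perm.mul_apply, show rep.hom g rep.z = ⟨p, hp⟩ from Fin.ext hg]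

theorem IsPt.commute_iff {e : pres.Grp} {q : ℕ} (he : IsPt e q) (d : pres.Grp) :
    d * e = e * d ↔ rep.hom d ⟨q, he.lt⟩ = ⟨q, he.lt⟩ := by
  have h := he.conj d he.lt
  constructor
  · intro hc
    rw [show d * e * d⁻¹ = e by rw [hc, mul_inv_cancel_right]] at h
    exact Fin.ext (h.unique he)
  · intro hf
    rw [hf] at h
    have e1 : d * e * d⁻¹ = e := h.inj he
    exact mul_inv_eq_iff_eq_mul.mp e1

/-- the word of a conjugate of generator 1 -/
def tW (c : List ℕ) : List ℕ := c ++ [1] ++ c.reverse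

/-- the transposition of a conjugator -/
noncomputable def transp (c : List ℕ) : pres.Grp := ((tW c).map pres.gen).prod

theorem gen_mem_class {x : ℕ} (hx : x < 10) : pres.gen x ∈ conjugatesOf tA :=
  isConj_iff.mpr ⟨_, Mult.gC_spec hx⟩

theorem genC_root : ev RepA.rows 10 (Mult.gC.getD 1 []) 0 = 8004 ∧
    lettersOK 10 Mult.gC = true := by decide +kernel

theorem isPt_transp {c : List ℕ} (hc : lettersOK 10 [c] = true) :
    IsPt (transp c) (ev RepA.rows 10 c 8004) := by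
  have h1 : IsPt (pres.gen 1) 8004 := by
    refine ⟨_, (Mult.gC_spec (x := 1) (by norm_num)).symm, ?_⟩
    rw [ev_eq rep.valid pres.gen rep.hom rep.hom_gen
      (fun x hx => lettersOK_spec genC_root.2 (by decide +kernel) hx)]
    exact genC_root.1
  have h2 := h1.conj ((c.map pres.gen).prod) h1.lt
  rw [ev_eq rep.valid pres.gen rep.hom rep.hom_gen (fun x hx => lettersOK_spec hc (by simp) hx)] at h2
  have e : transp c = (c.map pres.gen).prod * pres.gen 1 * (c.map pres.gen).prod⁻¹ := by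
    simp [transp, tW, prod_rev, mul_assoc]
  rw [e]
  exact h2

theorem transp_mem {c : List ℕ} (hc : lettersOK 10 [c] = true) : transp c ∈ conjugatesOf tA := by
  obtain ⟨g, e, -⟩ := isPt_transp hc
  exact isConj_iff.mpr ⟨g, e.symm⟩

end Cfsg.Agent.Spor.Fi23Cert.Outer
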