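import Cfsg.Agent.Lib.Spor.M22UInvClasses

/-!
Each of the three kinds of involution occurs in a group of type M(22).
-/

set_option autoImplicit false
set_option maxRecDepth 100000
set_option linter.unusedSectionVars false

namespace Cfsg.Agent.Spor.M22U.InvClassesEx

open Cfsg.Agent.Spor.CC Cfsg.Agent.Spor.Fi22Cert Cfsg.Agent.Spor.Fi22Cert.U62Act InvClasses

universe u
variable {G : Type u} [Group G] [Finite G] {D : Set G}
variable (hD : Cfsg.IsThreeTranspositionGroup D) (hprim : Cfsg.IsPrimitiveUnderConj D)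
  (ht : Cfsg.IsOfTypeM22 G D)

include hD hprim ht in
theorem exists_list {m : ℕ} (h1 : 1 ≤ m) (h3 : m ≤ 3) : ∃ l : List G, Good D l ∧ l.length = m := by
  obtain ⟨e, he⟩ := Norm.iso_fi22 hD hprim ht
  obtain ⟨hok1, -, hd1, -⟩ := TupChecks.lists_ok
  refine ⟨((List.range m).map T).map e, ⟨?_, ?_, ?_⟩, by simp⟩
  · refine ((T_ne hd1).sublist (List.Sublist.map T ?_)).map e.injective
    interval_cases m <;> decide
  · intro x hx
    obtain ⟨t, ht', rfl⟩ := List.mem_map.mp hx
    obtain ⟨i, -, rfl⟩ := List.mem_map.mp ht'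
    rw [← he]; exact ⟨_, (Fischer.mem (TupChecks.mw i)).2, rfl⟩
  · intro x hx y hy
    obtain ⟨t, ht', rfl⟩ := List.mem_map.mp hx
    obtain ⟨i, hi, rfl⟩ := List.mem_map.mp ht'
    obtain ⟨t', ht2, rfl⟩ := List.mem_map.mp hy
    obtain ⟨j, hj, rfl⟩ := List.mem_map.mp ht2
    rw [List.mem_range] at hi hj
    exact (T_comm hok1 (by simp; omega) (by simp; omega)).map e

include hD hprim ht in
theorem order_two {l : List G} (hl : Good D l) (h1 : 1 ≤ l.length) (h3 : l.length ≤ 3) : orderOf l.prod = 2 := by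
  have hf := fx_good hD hprim ht hl h1 h3
  have hfull : fx D (1 : G) = 3510 := by
    obtain ⟨F⟩ := Norm.exists_frame hD hprim ht
    rw [fx, show {d : G | d ∈ D ∧ Commute 1 d} = D from Set.ext fun d => ⟨And.left, fun h => ⟨h, Commute.one_left d⟩⟩]
    exact ncard_set F
  have hsq : ∀ l : List G, (∀ a ∈ l, a ∈ D) → (∀ a ∈ l, ∀ b ∈ l, Commute a b) → l.prod * l.prod = 1 := by
    intro l
    induction l with
    | nil => simp
    | cons a l ih =>
      intro hm hc
      have ha : a * a = 1 := Spor.mul_self_of_order_two (hD.1.1 a (hm a (by simp)))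
      have hal : Commute a l.prod := Commute.list_prod_right _ _ fun b hb => hc a (by simp) b (by simp [hb])
      rw [List.prod_cons, hal.eq, mul_assoc, ← mul_assoc a, hal.eq, mul_assoc, ha, mul_one]
      exact ih (fun b hb => hm b (by simp [hb])) (fun b hb d hd => hc b (by simp [hb]) d (by simp [hd]))
  refine orderOf_eq_prime (by rw [pow_two]; exact hsq l hl.2.1 hl.2.2) fun h => ?_
  rw [h, hfull] at hf
  obtain h' | h' | h' : l.length = 1 ∨ l.length = 2 ∨ l.length = 3 := by omega
  all_goals rw [h'] at hf; exact absurd hf (by decide)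

end Cfsg.Agent.Spor.M22U.InvClassesEx
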