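import Cfsg.Agent.Lib.Spor.M23RelCent
import Cfsg.Agent.Lib.Spor.M22UInvClassesEx

/-!
Involutions in type M(23): products of at most three commuting members.
-/

set_option autoImplicit false
set_option maxRecDepth 100000
set_option linter.unusedSectionVars false

namespace Cfsg.Agent.Spor.M23Rel.Invol

open Cfsg.Agent.Spor.M22U (nset)
open Cfsg.Agent.Spor.M22U.InvClasses (Good)

section Generic

variable {K : Type*} [Group K] {D : Set K}

theorem even_of_free {A : Set K} (hA : A.Finite) (f : K → K) (hf : ∀ a ∈ A, f a ∈ A ∧ f (f a) = a ∧ f a ≠ a) :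
    Even A.ncard := by
  classical
  rw [Set.ncard_eq_toFinset_card A hA]
  have h : ∑ _x ∈ hA.toFinset, (1 : ZMod 2) = 0 :=
    Finset.sum_involution (fun a _ => f a) (fun _ _ => by decide)
      (fun a ha _ => (hf a (hA.mem_toFinset.mp ha)).2.2)
      (fun a ha => hA.mem_toFinset.mpr (hf a (hA.mem_toFinset.mp ha)).1)
      (fun a ha => (hf a (hA.mem_toFinset.mp ha)).2.1)
  rw [Finset.sum_const, nsmul_eq_mul, mul_one] at h
  exact ZMod.natCast_eq_zero_iff_even.mp h

theorem prod_sq (hE : Pre D) : ∀ s : List K, (∀ a ∈ s, a ∈ D) → (∀ a ∈ s, ∀ b ∈ s, Commute a b) →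
    s.prod * s.prod = 1
  | [], _, _ => by simp
  | a :: s, hs, hcs => by
    have hcomm : Commute a s.prod := Commute.list_prod_right s a fun x hx => hcs a (by simp) x (by simp [hx])
    rw [List.prod_cons, mul_assoc, ← mul_assoc s.prod, ← hcomm.eq, mul_assoc a s.prod s.prod,
      prod_sq hE s (fun x hx => hs x (by simp [hx])) (fun x hx y hy => hcs x (by simp [hx]) y (by simp [hy])),
      mul_one, hE.sq a (hs a (by simp))]

theorem good_conjugate (hE : Pre D) {l : List K} (hl : Good D l) (g : K) :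
    Good D (l.map fun a => g * a * g⁻¹) ∧ (l.map fun a => g * a * g⁻¹).prod = g * l.prod * g⁻¹ := by
  refine ⟨⟨hl.1.map fun a b h => mul_left_cancel (mul_right_cancel h), ?_, ?_⟩, ?_⟩
  · intro a ha
    obtain ⟨u, hu, rfl⟩ := List.mem_map.mp ha
    exact hE.conj g u (hl.2.1 u hu)
  · intro a ha b hb
    obtain ⟨u, hu, rfl⟩ := List.mem_map.mp ha
    obtain ⟨v, hv, rfl⟩ := List.mem_map.mp hb
    exact commute_conj_iff.mpr (hl.2.2 u hu v hv)
  · have : ∀ m : List K, (m.map fun a => g * a * g⁻¹).prod = g * m.prod * g⁻¹ := by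
      intro m
      induction m with
      | nil => simp
      | cons a m ih => simp only [List.map_cons, List.prod_cons, ih]; group
    exact this l

variable [Finite K]

/-- the number of factors of a product of at most three commuting members is determined -/
theorem length_eq (hD : Cfsg.IsThreeTranspositionGroup D) (hrel : ∀ k, 1 ≤ k → k ≤ 6 → NoRel k D)
    {l l' : List K} (hl : Good D l) (hl' : Good D l') (h1 : 1 ≤ l.length) (h3 : l.length ≤ 3)
    (h3' : l'.length ≤ 3) (hp : l'.prod = l.prod) : l.length = l'.length := by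
  classical
  obtain ⟨hn, hm, hc⟩ := hl
  obtain ⟨hn', hm', hc'⟩ := hl'
  have hE := pre_of_group hD
  have hne : ∀ e ∈ D, e ≠ 1 := fun e he h1 => by
    have := hD.1.1 e he
    rw [h1, orderOf_one] at this
    norm_num at this
  have hx : ∀ a ∈ l, ∀ b ∈ l', Commute b a := by
    intro a ha b hb
    have hb' : Commute b l.prod := by
      rw [← hp]
      exact Commute.list_prod_right l' b fun x hx => hc' b hb x hx
    match l, h1, h3, hn, hm, hc, ha, hb' with
    | [p], _, _, _, _, _, ha, hb' =>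
      rw [List.mem_singleton.mp ha]
      simpa using hb'
    | [p, q], _, _, hn, hm, hc, ha, hb' =>
      simp only [List.nodup_cons, List.mem_singleton, List.not_mem_nil, not_false_eq_true, List.nodup_nil,
        and_true] at hn
      simp only [List.prod_cons, List.prod_nil, mul_one] at hb'
      obtain ⟨u, v⟩ := (commute_pair_iff hD.1 (hm p (by simp)) (hm q (by simp)) (hm' b hb) hn
        (hc p (by simp) q (by simp))).mp hb'
      simp only [List.mem_cons, List.not_mem_nil, or_false] at ha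
      rcases ha with rfl | rfl
      · exact u
      · exact v
    | [p, q, r], _, _, hn, hm, hc, ha, hb' =>
      simp only [List.nodup_cons, List.mem_cons, List.not_mem_nil, or_false, not_or, not_false_eq_true,
        List.nodup_nil, and_true] at hn
      simp only [List.prod_cons, List.prod_nil, mul_one, ← mul_assoc] at hb'
      obtain ⟨u, v, w⟩ := (commute_triple_iff hD.1 (hm p (by simp)) (hm q (by simp)) (hm r (by simp)) (hm' b hb)
        hn.1.1 hn.1.2 hn.2 (hc p (by simp) q (by simp)) (hc p (by simp) r (by simp))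
        (hc q (by simp) r (by simp))).mp hb'
      simp only [List.mem_cons, List.not_mem_nil, or_false] at ha
      rcases ha with rfl | rfl | rfl
      · exact u
      · exact v
      · exact w
  set C := l.filter (fun a => decide (a ∈ l'))
  set A := l.filter (fun a => !decide (a ∈ l'))
  set C' := l'.filter (fun a => decide (a ∈ l))
  set B := l'.filter (fun a => !decide (a ∈ l))
  have hCA : (C ++ A).Perm l := List.filter_append_perm _ l
  have hCB : (C' ++ B).Perm l' := List.filter_append_perm _ l'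
  have hCC : C.Perm C' := (List.perm_ext_iff_of_nodup (hn.filter _) (hn'.filter _)).mpr fun a => by
    simp [C, C', and_comm]
  have hprod : ∀ {s t : List K}, s.Perm t → (∀ a ∈ t, ∀ b ∈ t, Commute a b) → s.prod = t.prod :=
    fun {s t} hst hct => hst.prod_eq' (List.pairwise_of_forall_mem_list fun a ha b hb =>
      hct a (hst.mem_iff.mp ha) b (hst.mem_iff.mp hb))
  have hA : ∀ a ∈ A, a ∈ l ∧ a ∉ l' := fun a ha => by simpa [A] using ha
  have hB : ∀ a ∈ B, a ∈ l' ∧ a ∉ l := fun a ha => by simpa [B] using ha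
  have hAB : A.prod = B.prod := by
    have e1 := hprod hCA hc
    have e2 := hprod hCB hc'
    rw [List.prod_append] at e1 e2
    have e3 : C.prod = C'.prod := hprod hCC fun a ha b hb =>
      hc' a (List.mem_of_mem_filter ha) b (List.mem_of_mem_filter hb)
    rw [← e3] at e2
    exact mul_left_cancel (e1.trans (hp.symm.trans e2.symm))
  have hS1 : (A ++ B).prod = 1 := by
    rw [List.prod_append, ← hAB]
    exact prod_sq hE A (fun a ha => hm a (hA a ha).1) fun a ha b hb => hc a (hA a ha).1 b (hA b hb).1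
  have hSn : (A ++ B).Nodup := List.nodup_append.mpr
    ⟨hn.filter _, hn'.filter _, fun a ha b hb e => (hA a ha).2 (e ▸ (hB b hb).1)⟩
  have hSm : ∀ a ∈ A ++ B, a ∈ D ∧ a ≠ 1 := by
    intro a ha
    rcases List.mem_append.mp ha with h | h
    · exact ⟨hm a (hA a h).1, hne a (hm a (hA a h).1)⟩
    · exact ⟨hm' a (hB a h).1, hne a (hm' a (hB a h).1)⟩
  have hSc : ∀ a ∈ A ++ B, ∀ b ∈ A ++ B, Commute a b := by
    intro a ha b hb
    rcases List.mem_append.mp ha with h | h <;> rcases List.mem_append.mp hb with h' | h'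
    · exact hc a (hA a h).1 b (hA b h').1
    · exact (hx a (hA a h).1 b (hB b h').1).symm
    · exact hx b (hA b h').1 a (hB a h).1
    · exact hc' a (hB a h).1 b (hB b h').1
  have l1 := hCA.length_eq
  have l2 := hCB.length_eq
  have l3 := hCC.length_eq
  rw [List.length_append] at l1 l2
  by_contra hne'
  exact hrel (A ++ B).length (by rw [List.length_append]; omega) (by rw [List.length_append]; omega) _ hSn rfl
    hSm hSc hS1

end Generic

variable {G : Type*} [Group G] [Finite G] {D : Set G} {d : G}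

theorem noRel (hD : Cfsg.IsThreeTranspositionGroup D) (hprim : Cfsg.IsPrimitiveUnderConj D)
    (ht : Cfsg.IsOfTypeM23 G D) : ∀ k, 1 ≤ k → k ≤ 6 → NoRel k D := by
  have hE := pre_of_group hD
  obtain ⟨h4, h6⟩ := Top.noRel_group hD hprim (Or.inl ht)
  obtain ⟨d, S⟩ := Fix.exists_setting hD hprim ht
  obtain ⟨hlev, h5⟩ := Top.lev23 hE S.ne_one ht
  intro k hk1 hk6
  rcases (show k = 1 ∨ k = 2 ∨ k = 3 ∨ k = 4 ∨ k = 5 ∨ k = 6 by omega) with rfl | rfl | rfl | rfl | rfl | rfl
  · intro l _ hlen hm _ hp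
    obtain ⟨a, rfl⟩ := List.length_eq_one_iff.mp hlen
    exact (hm a (by simp)).2 (by simpa using hp)
  · intro l hn hlen hm _ hp
    obtain ⟨a, b, rfl⟩ := List.length_eq_two.mp hlen
    simp only [List.prod_cons, List.prod_nil, mul_one] at hp
    refine (by simpa using hn : a ≠ b) ?_
    rw [mul_eq_one_iff_eq_inv, inv_eq_of_mul_eq_one_right (hE.sq b (hm b (by simp)).1)] at hp
    exact hp
  · exact noRel_three hE hlev.sep
  exacts [h4, h5, h6]

variable (S : Fix.Setting D d)
include S

theorem ncard_nset : (nset D d).ncard = 3510 := by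
  obtain ⟨e, he⟩ := Cent.exists_coord S
  haveI := Fi22Cert.order.1
  rw [Set.ncard_congr (fun y hy => S.img y hy) (t := nextSet D d) (fun y hy => ⟨_, hy, rfl⟩)
    (fun y z hy hz h => S.img_inj hy hz h) (by rintro _ ⟨⟨x, hx'⟩, hx, rfl⟩; exact ⟨x, hx, rfl⟩), ← he,
    Set.ncard_image_of_injective _ e.injective, M22U.ncard_set M22U.Fischer.frame]

theorem odd_card : Odd D.ncard := by
  have hE := S.pre
  set Z := {y : G | y ∈ D ∧ ¬ Commute d y}
  have hZ : Even Z.ncard := by
    have hdd := hE.sq d S.mem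
    refine even_of_free (Set.toFinite _) (fun y => d * y * d⁻¹) fun y hy => ⟨⟨hE.conj d y hy.1, fun h => hy.2 ?_⟩, ?_, ?_⟩
    · have : Commute (d * d * d⁻¹) (d * y * d⁻¹) := by rwa [mul_inv_cancel_right]
      exact commute_conj_iff.mp this
    · calc d * (d * y * d⁻¹) * d⁻¹ = (d * d) * y * (d * d)⁻¹ := by group
        _ = y := by rw [hdd, one_mul, inv_one, mul_one]
    · exact fun h => hy.2 (mul_inv_eq_iff_eq_mul.mp h)
  have hsplit : D = insert d (nset D d ∪ Z) := by
    ext y
    constructor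
    · intro hy
      by_cases hyd : y = d
      · exact Or.inl hyd
      by_cases hc : Commute d y
      · exact Or.inr (Or.inl ⟨hy, hyd, hc⟩)
      · exact Or.inr (Or.inr ⟨hy, hc⟩)
    · rintro (rfl | h | h)
      exacts [S.mem, h.1, h.1]
  rw [hsplit, Set.ncard_insert_of_notMem (by
    rintro (h | h)
    · exact h.2.1 rfl
    · exact h.2 (Commute.refl d)),
    Set.ncard_union_eq (Set.disjoint_left.mpr fun y hy hy' => hy'.2 hy.2.2), ncard_nset S]
  obtain ⟨k, hk⟩ := hZ
  exact ⟨1755 + k, by omega⟩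

theorem exists_commute {x : G} (hx : x * x = 1) : ∃ y ∈ D, Commute x y := by
  by_contra h
  push Not at h
  refine (Nat.not_even_iff_odd.mpr (odd_card S)) (even_of_free (Set.toFinite _) (fun y => x * y * x⁻¹)
    fun y hy => ⟨S.pre.conj x y hy, ?_, fun e => h y hy (mul_inv_eq_iff_eq_mul.mp e)⟩)
  calc x * (x * y * x⁻¹) * x⁻¹ = (x * x) * y * (x * x)⁻¹ := by group
    _ = y := by rw [hx, one_mul, inv_one, mul_one]

theorem lift_good {m : List (↥(Subgroup.closure (nset D d)) ⧸ Subgroup.center ↥(Subgroup.closure (nset D d)))}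
    (hm : Good (nextSet D d) m) : ∃ (l : List G) (p : ↥(Subgroup.closure (nset D d))),
      l.length = m.length ∧ Good D l ∧ (∀ a ∈ l, a ∈ nset D d) ∧ (p : G) = l.prod ∧ QuotientGroup.mk p = m.prod := by
  classical
  obtain ⟨hn, hmem, hcom⟩ := hm
  set g : (↥(Subgroup.closure (nset D d)) ⧸ Subgroup.center ↥(Subgroup.closure (nset D d))) →
      ↥(Subgroup.closure (nset D d)) := fun u =>
    if h : ∃ x : ↥(Subgroup.closure (nset D d)), (x : G) ∈ nset D d ∧ QuotientGroup.mk x = u then h.choose else 1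
    with hg
  have hspec : ∀ u ∈ m, (g u : G) ∈ nset D d ∧ QuotientGroup.mk (g u) = u := fun u hu => by
    have h : ∃ x : ↥(Subgroup.closure (nset D d)), (x : G) ∈ nset D d ∧ QuotientGroup.mk x = u := by
      obtain ⟨x, hx, hxu⟩ := hmem u hu; exact ⟨x, hx, hxu⟩
    simp only [hg, dif_pos h]
    exact h.choose_spec
  refine ⟨m.map fun u => (g u : G), (m.map g).prod, by simp, ⟨?_, ?_, ?_⟩, ?_, ?_, ?_⟩
  · refine List.Nodup.map_on (fun u hu v hv h => ?_) hn
    rw [← (hspec u hu).2, ← (hspec v hv).2, show g u = g v from Subtype.ext h]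
  · intro a ha
    obtain ⟨u, hu, rfl⟩ := List.mem_map.mp ha
    exact (hspec u hu).1.1
  · intro a ha b hb
    obtain ⟨u, hu, rfl⟩ := List.mem_map.mp ha
    obtain ⟨v, hv, rfl⟩ := List.mem_map.mp hb
    refine commute_lift S.pre d (hspec u hu).1 (hspec v hv).1 ?_
    show Commute (QuotientGroup.mk (g u) : ↥(Subgroup.closure (nset D d)) ⧸ Subgroup.center ↥(Subgroup.closure (nset D d)))
      (QuotientGroup.mk (g v))
    rw [(hspec u hu).2, (hspec v hv).2]
    exact hcom u hu v hv
  · intro a ha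
    obtain ⟨u, hu, rfl⟩ := List.mem_map.mp ha
    exact (hspec u hu).1
  · rw [← Subgroup.coe_subtype, map_list_prod, List.map_map]; rfl
  · rw [← QuotientGroup.mk'_apply, map_list_prod, List.map_map]
    refine congrArg List.prod ((List.map_congr_left (g := id) fun u hu => ?_).trans (List.map_id m))
    exact (hspec u hu).2

/-- the images of a list of members commuting with the member -/
theorem image_good {l : List G} (hl : Good D l) (hm : ∀ a ∈ l, a ∈ nset D d) :
    ∃ (m : List (↥(Subgroup.closure (nset D d)) ⧸ Subgroup.center ↥(Subgroup.closure (nset D d))))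
      (p : ↥(Subgroup.closure (nset D d))), m.length = l.length ∧ Good (nextSet D d) m ∧ (p : G) = l.prod ∧
      QuotientGroup.mk p = m.prod := by
  refine ⟨l.attach.map fun a => S.img a.1 (hm a.1 a.2),
    (l.attach.map fun a => (⟨a.1, Subgroup.subset_closure (hm a.1 a.2)⟩ : ↥(Subgroup.closure (nset D d)))).prod,
    by simp, ⟨?_, ?_, ?_⟩, ?_, ?_⟩
  · refine List.Nodup.map_on (fun u _ v _ h => Subtype.ext (S.img_inj (hm u.1 u.2) (hm v.1 v.2) h)) hl.1.attach
  · intro u hu
    obtain ⟨a, -, rfl⟩ := List.mem_map.mp hu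
    exact ⟨_, hm a.1 a.2, rfl⟩
  · intro u hu v hv
    obtain ⟨a, -, rfl⟩ := List.mem_map.mp hu
    obtain ⟨b, -, rfl⟩ := List.mem_map.mp hv
    exact (Commute.map (x := (⟨a.1, Subgroup.subset_closure (hm a.1 a.2)⟩ : ↥(Subgroup.closure (nset D d))))
      (y := ⟨b.1, Subgroup.subset_closure (hm b.1 b.2)⟩) (Subtype.ext (hl.2.2 a.1 a.2 b.1 b.2).eq)
      (QuotientGroup.mk' (Subgroup.center ↥(Subgroup.closure (nset D d)))) :)
  · rw [← Subgroup.coe_subtype, map_list_prod, List.map_map]
    exact congrArg List.prod (List.attach_map_subtype_val l)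
  · rw [← QuotientGroup.mk'_apply, map_list_prod, List.map_map]; rfl

/-- products with equal images in the next level -/
theorem conj_or_mul {l l' : List G} (hl : Good D l) (hl' : Good D l') (hm : ∀ a ∈ l, a ∈ nset D d)
    (hm' : ∀ a ∈ l', a ∈ nset D d) (hlen : l.length = l'.length) (h1 : 1 ≤ l.length) (h3 : l.length ≤ 3) :
    ∃ h : G, Commute h d ∧ (h * l.prod * h⁻¹ = l'.prod ∨ h * l.prod * h⁻¹ = l'.prod * d) := by
  obtain ⟨m, p, hml, hmg, hp, hpm⟩ := image_good S hl hm
  obtain ⟨m', p', hml', hmg', hp', hpm'⟩ := image_good S hl' hm'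
  obtain ⟨u, hu⟩ := isConj_iff.mp (M22U.InvClasses.good_conj S.group S.next_prim S.next hmg hmg'
    (by omega) (by omega) (by omega))
  obtain ⟨h, rfl⟩ := QuotientGroup.mk_surjective u
  refine ⟨h, commute_of_mem h.2, ?_⟩
  rw [← hpm, ← hpm'] at hu
  rcases S.central_cases (x := p'⁻¹ * (h * p * h⁻¹)) (by
    rw [QuotientGroup.mk_mul, QuotientGroup.mk_inv, QuotientGroup.mk_mul, QuotientGroup.mk_mul,
      QuotientGroup.mk_inv, hu, inv_mul_cancel]) with e | e
  · left
    simp only [Subgroup.coe_mul, Subgroup.coe_inv, hp, hp'] at e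
    exact (inv_mul_eq_one.mp e).symm
  · right
    simp only [Subgroup.coe_mul, Subgroup.coe_inv, hp, hp'] at e
    exact eq_mul_of_inv_mul_eq e

theorem good_cons {l : List G} (hl : Good D l) (hm : ∀ a ∈ l, a ∈ nset D d) : Good D (d :: l) := by
  refine ⟨List.nodup_cons.mpr ⟨fun h => (hm d h).2.1 rfl, hl.1⟩, ?_, ?_⟩
  · intro a ha
    rcases List.mem_cons.mp ha with e | ha
    exacts [e ▸ S.mem, hl.2.1 a ha]
  · intro a ha b hb
    rcases List.mem_cons.mp ha with e | ha <;> rcases List.mem_cons.mp hb with e' | hb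
    · exact e ▸ e' ▸ Commute.refl _
    · rw [e]; exact (hm b hb).2.2
    · rw [e']; exact (hm a ha).2.2.symm
    · exact hl.2.2 a ha b hb

/-- every involution is a product of at most three commuting members -/
theorem exists_good {x : G} (hx : orderOf x = 2) :
    ∃ l : List G, Good D l ∧ 1 ≤ l.length ∧ l.length ≤ 3 ∧ l.prod = x := by
  have hE := S.pre
  obtain ⟨y, hy, hxy⟩ := exists_commute S (mul_self_of_order_two hx)
  obtain ⟨g, hg⟩ := S.prim.1 y hy d S.mem
  suffices H : ∃ l : List G, Good D l ∧ 1 ≤ l.length ∧ l.length ≤ 3 ∧ l.prod = g * x * g⁻¹ by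
    obtain ⟨l, hl, h1, h3, hp⟩ := H
    obtain ⟨hl', hp'⟩ := good_conjugate hE hl g⁻¹
    exact ⟨_, hl', by simpa using h1, by simpa using h3, by rw [hp', hp]; group⟩
  set x' := g * x * g⁻¹ with hx'
  have hx'd : Commute x' d := by rw [hx', ← hg]; exact commute_conj_iff.mpr hxy
  have hxH := Cent.cent_le S hx'd
  have hx'2 : x' * x' = 1 := by
    rw [hx']
    calc g * x * g⁻¹ * (g * x * g⁻¹) = g * (x * x) * g⁻¹ := by group
      _ = 1 := by rw [mul_self_of_order_two hx, mul_one, mul_inv_cancel]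
  have hx'1 : x' ≠ 1 := fun h => by
    rw [hx', conj_eq_one_iff] at h
    rw [h, orderOf_one] at hx
    norm_num at hx
  by_cases hmk : (QuotientGroup.mk (⟨x', hxH⟩ : ↥(Subgroup.closure (nset D d))) :
      ↥(Subgroup.closure (nset D d)) ⧸ Subgroup.center ↥(Subgroup.closure (nset D d))) = 1
  · have e : x' = d := (S.central_cases hmk).resolve_left hx'1
    exact ⟨[d], ⟨by simp, by simp [S.mem], by simp⟩, by simp, by simp, by simp [e]⟩
  have hord : orderOf (QuotientGroup.mk (⟨x', hxH⟩ : ↥(Subgroup.closure (nset D d))) :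
      ↥(Subgroup.closure (nset D d)) ⧸ Subgroup.center ↥(Subgroup.closure (nset D d))) = 2 :=
    orderOf_eq_prime (by rw [pow_two, ← QuotientGroup.mk_mul, show (⟨x', hxH⟩ : ↥(Subgroup.closure (nset D d))) *
      ⟨x', hxH⟩ = 1 from Subtype.ext hx'2, QuotientGroup.mk_one]) hmk
  obtain ⟨m, hm, hm1, hm3, hmp⟩ := M22U.InvClasses.exists_good S.group S.next_prim S.next hord
  obtain ⟨l, p, hlen, hl, hlm, hp, hpm⟩ := lift_good S hm
  rcases S.central_cases (x := p⁻¹ * ⟨x', hxH⟩) (by
    rw [QuotientGroup.mk_mul, QuotientGroup.mk_inv, hpm, hmp, inv_mul_cancel]) with e | e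
  · simp only [Subgroup.coe_mul, Subgroup.coe_inv, hp] at e
    exact ⟨l, hl, by omega, by omega, inv_mul_eq_one.mp e⟩
  simp only [Subgroup.coe_mul, Subgroup.coe_inv, hp] at e
  have hxe : x' = l.prod * d := eq_mul_of_inv_mul_eq e
  by_cases h2 : l.length ≤ 2
  · refine ⟨d :: l, good_cons S hl hlm, by simp, by simp; omega, ?_⟩
    rw [List.prod_cons, hxe]
    exact Commute.list_prod_right l d fun a ha => (hlm a ha).2.2
  obtain ⟨s, hsn, hsl, hsm, hsc, hsp⟩ := Cent.six_prod S
  have hP : Good D (s.take 3) := ⟨hsn.sublist (List.take_sublist 3 s), fun a ha => (hsm a (List.mem_of_mem_take ha)).1,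
    fun a ha b hb => hsc a (List.mem_of_mem_take ha) b (List.mem_of_mem_take hb)⟩
  have hQ : Good D (s.drop 3) := ⟨hsn.sublist (List.drop_sublist 3 s), fun a ha => (hsm a (List.mem_of_mem_drop ha)).1,
    fun a ha b hb => hsc a (List.mem_of_mem_drop ha) b (List.mem_of_mem_drop hb)⟩
  obtain ⟨h, hhd, hh⟩ := conj_or_mul S hP hl (fun a ha => hsm a (List.mem_of_mem_take ha)) hlm
    (by simp [hsl]; omega) (by simp [hsl]) (by simp [hsl])
  rcases hh with hh | hh
  · obtain ⟨hl', hp'⟩ := good_conjugate hE hQ h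
    refine ⟨_, hl', by simp [hsl], by simp [hsl], ?_⟩
    have hsplit : d = (s.take 3).prod * (s.drop 3).prod := by rw [← List.prod_append, List.take_append_drop, hsp]
    have hsq := prod_sq hE (s.take 3) hP.2.1 hP.2.2
    have hQd : (s.drop 3).prod = (s.take 3).prod * d := by rw [hsplit, ← mul_assoc, hsq, one_mul]
    rw [hp', hQd, hxe, ← hh]
    calc h * ((s.take 3).prod * d) * h⁻¹ = h * (s.take 3).prod * h⁻¹ * (h * d * h⁻¹) := by group
      _ = _ := by rw [hhd.eq, mul_inv_cancel_right]
  · obtain ⟨hl', hp'⟩ := good_conjugate hE hP h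
    exact ⟨_, hl', by simp [hsl], by simp [hsl], by rw [hp', hh, hxe]⟩

/-- there are products of each length -/
theorem exists_list {m : ℕ} (hm : m ≤ 6) : ∃ l : List G, Good D l ∧ l.length = m := by
  obtain ⟨s, hsn, hsl, hsm, hsc, -⟩ := Cent.six_prod S
  exact ⟨s.take m, ⟨hsn.sublist (List.take_sublist m s), fun a ha => (hsm a (List.mem_of_mem_take ha)).1,
    fun a ha b hb => hsc a (List.mem_of_mem_take ha) b (List.mem_of_mem_take hb)⟩, by simp [hsl]; omega⟩

/-- products of equally many members are conjugate -/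
theorem good_conj (hrel : ∀ k, 1 ≤ k → k ≤ 6 → NoRel k D) {l l' : List G} (hl : Good D l) (hl' : Good D l')
    (hlen : l.length = l'.length) (h1 : 1 ≤ l.length) (h3 : l.length ≤ 3) : IsConj l.prod l'.prod := by
  have hE := S.pre
  match l, l', hlen, h1, h3, hl, hl' with
  | a :: t, a' :: t', hlen, _, h3, hl, hl' =>
    obtain ⟨g, hg⟩ := S.prim.1 a (hl.2.1 a (by simp)) d S.mem
    obtain ⟨g', hg'⟩ := S.prim.1 a' (hl'.2.1 a' (by simp)) d S.mem
    obtain ⟨hc, hp⟩ := good_conjugate hE hl g
    obtain ⟨hc', hp'⟩ := good_conjugate hE hl' g'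
    suffices H : IsConj (g * (a :: t).prod * g⁻¹) (g' * (a' :: t').prod * g'⁻¹) from
      ((isConj_iff.mpr ⟨g, rfl⟩).trans H).trans (isConj_iff.mpr ⟨g'⁻¹, by group⟩)
    rw [← hp, ← hp', List.map_cons, List.map_cons, hg, hg', List.prod_cons, List.prod_cons]
    rw [List.map_cons, hg] at hc
    rw [List.map_cons, hg'] at hc'
    set u := t.map fun x => g * x * g⁻¹
    set u' := t'.map fun x => g' * x * g'⁻¹
    have hlen' : u.length = u'.length := by simpa [u, u'] using hlen
    have hu2 : u.length ≤ 2 := by simp [u] at h3 ⊢; omega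
    by_cases hu0 : u.length = 0
    · rw [List.length_eq_zero_iff.mp hu0, List.length_eq_zero_iff.mp (hlen'.symm.trans hu0)]
    have tail : ∀ {v : List G}, Good D (d :: v) → Good D v ∧ ∀ x ∈ v, x ∈ nset D d := fun {v} hv =>
      ⟨⟨(List.nodup_cons.mp hv.1).2, fun x hx => hv.2.1 x (by simp [hx]),
        fun x hx y hy => hv.2.2 x (by simp [hx]) y (by simp [hy])⟩,
        fun x hx => ⟨hv.2.1 x (by simp [hx]), fun e => (List.nodup_cons.mp hv.1).1 (e ▸ hx),
          hv.2.2 d (by simp) x (by simp [hx])⟩⟩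
    obtain ⟨h, hhd, hh | hh⟩ := conj_or_mul S (tail hc).1 (tail hc').1 (tail hc).2 (tail hc').2 hlen'
      (by omega) (by omega)
    · refine isConj_iff.mpr ⟨h, ?_⟩
      rw [← hh]
      calc h * (d * u.prod) * h⁻¹ = h * d * h⁻¹ * (h * u.prod * h⁻¹) := by group
        _ = _ := by rw [hhd.eq, mul_inv_cancel_right]
    · exfalso
      obtain ⟨hw, hwp⟩ := good_conjugate hE (tail hc).1 h
      have := length_eq S.hD hrel hw hc' (by simp; omega) (by simp; omega) (by simp; omega) (by
        rw [hwp, hh, List.prod_cons]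
        exact Commute.list_prod_right u' d fun x hx => ((tail hc').2 x hx).2.2)
      simp at this
      omega

/-- a product of one to three members is an involution -/
theorem order_two (hrel : ∀ k, 1 ≤ k → k ≤ 6 → NoRel k D) {l : List G} (hl : Good D l) (h1 : 1 ≤ l.length)
    (h3 : l.length ≤ 3) : orderOf l.prod = 2 := by
  refine orderOf_eq_prime (by rw [pow_two]; exact prod_sq S.pre l hl.2.1 hl.2.2) ?_
  exact hrel l.length h1 (by omega) l hl.1 rfl (fun a ha => ⟨hl.2.1 a ha, S.ne_one a (hl.2.1 a ha)⟩) hl.2.2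

end Cfsg.Agent.Spor.M23Rel.Invol
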