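import Cfsg.Agent.Lib.Spor.M23RelFix

/-!
Transport of the setting of type M(23) to every member.
-/

set_option autoImplicit false
set_option maxRecDepth 100000
set_option linter.unusedSectionVars false

namespace Cfsg.Agent.Spor.M23Rel.Shift

open Cfsg.Agent.Spor.M22U (nset)

variable {A B : Type*} [Group A] [Group B]

theorem map_nset (e : A ≃* B) (E : Set A) (d : A) : e '' nset E d = nset (e '' E) (e d) := by
  ext y
  constructor
  · rintro ⟨x, ⟨hx, hne, hc⟩, rfl⟩
    exact ⟨⟨x, hx, rfl⟩, fun h => hne (e.injective h), hc.map e.toMonoidHom⟩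
  · rintro ⟨⟨x, hx, rfl⟩, hne, hc⟩
    refine ⟨x, ⟨hx, fun h => hne (congrArg e h), ?_⟩, rfl⟩
    exact e.injective (by rw [map_mul, map_mul]; exact hc.eq)

theorem map_nset_inter (e : A ≃* B) (E : Set A) (d c : A) :
    e '' (nset E d ∩ nset E c) = nset (e '' E) (e d) ∩ nset (e '' E) (e c) := by
  rw [Set.image_inter e.injective, map_nset, map_nset]

/-- an isomorphism of two subgroups modulo their centres -/
noncomputable def cq {H : Subgroup A} {K : Subgroup B} (f : ↥H ≃* ↥K) :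
    (↥H ⧸ Subgroup.center ↥H) ≃* (↥K ⧸ Subgroup.center ↥K) :=
  QuotientGroup.congr _ _ f (by
    ext y
    simp only [Subgroup.mem_map, Subgroup.mem_center_iff]
    constructor
    · rintro ⟨u, hu, rfl⟩ v
      obtain ⟨v, rfl⟩ := f.surjective v
      show f v * f u = f u * f v
      rw [← map_mul, ← map_mul, hu]
    · intro hy
      exact ⟨f.symm y, fun v => f.injective (by rw [map_mul, map_mul, f.apply_symm_apply, hy]),
        f.apply_symm_apply y⟩)

theorem cq_mk {H : Subgroup A} {K : Subgroup B} (f : ↥H ≃* ↥K) (x : ↥H) :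
    cq f (QuotientGroup.mk x) = QuotientGroup.mk (f x) := rfl

/-- the closures of corresponding sets -/
noncomputable def clEquiv (e : A ≃* B) {s : Set A} {t : Set B} (h : e '' s = t) :
    ↥(Subgroup.closure s) ≃* ↥(Subgroup.closure t) :=
  (e.subgroupMap (Subgroup.closure s)).trans
    (MulEquiv.subgroupCongr (by rw [← MulEquiv.coe_toMonoidHom] at h; rw [← h, MonoidHom.map_closure]; rfl))

theorem clEquiv_val (e : A ≃* B) {s : Set A} {t : Set B} (h : e '' s = t) (x : ↥(Subgroup.closure s)) :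
    (clEquiv e h x : B) = e (x : A) := rfl

theorem type22_congr (e : A ≃* B) {E : Set A} (h : Cfsg.IsOfTypeM22 A E) :
    Cfsg.IsOfTypeM22 B (e '' E) := by
  obtain ⟨hZ, d, hd, c, hc, hnc, ⟨F, i1, i2, hF, ⟨φ⟩⟩, c₃, hc₃, Q, hQ, hμ, ⟨ψ⟩⟩ := h
  refine ⟨?_, e d, ⟨d, hd, rfl⟩, e c, ⟨c, hc, rfl⟩, fun h => hnc ?_, ⟨F, i1, i2, hF, ⟨?_⟩⟩, c₃, hc₃, Q, hQ,
    hμ, ⟨?_⟩⟩
  · rw [Subgroup.eq_bot_iff_forall]
    intro z hz
    rw [Subgroup.mem_center_iff] at hz
    have : e.symm z ∈ Subgroup.center A := Subgroup.mem_center_iff.mpr fun u =>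
      e.injective (by rw [map_mul, map_mul, e.apply_symm_apply, hz])
    rw [hZ, Subgroup.mem_bot] at this
    rw [← e.apply_symm_apply z, this, map_one]
  · exact e.injective (by rw [map_mul, map_mul]; exact h.eq)
  · exact (cq (clEquiv e (map_nset e E d))).symm.trans φ
  · exact (cq (clEquiv e (map_nset_inter e E d c))).symm.trans ψ

variable {G : Type*} [Group G] [Finite G] {D : Set G} {d : G}

theorem setting_at (S : Fix.Setting D d) {x : G} (hx : x ∈ D) : Fix.Setting D x := by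
  obtain ⟨g, hg⟩ := S.prim.1 d S.mem x hx
  have hconj : (MulAut.conj g : G ≃* G) '' D = D := by
    ext y
    constructor
    · rintro ⟨u, hu, rfl⟩; exact S.hD.2.1 g u hu
    · intro hy
      exact ⟨g⁻¹ * y * g, (Spor.conj_mem_iff S.hD.2.1 g).1 hy, by
        show g * (g⁻¹ * y * g) * g⁻¹ = y; group⟩
  have hset : (MulAut.conj g : G ≃* G) '' nset D d = nset D x := by
    rw [map_nset, hconj]
    exact congrArg (nset D) hg
  refine ⟨S.hD, S.prim, hx, S.center, S.sep, ?_, S.relSix⟩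
  have h := type22_congr (cq (clEquiv (MulAut.conj g) hset)) S.next
  convert h using 1
  ext q
  constructor
  · rintro ⟨y, hy, rfl⟩
    have hy' : (y : G) ∈ (MulAut.conj g : G ≃* G) '' nset D d := by rw [hset]; exact hy
    obtain ⟨u, hu, hue⟩ := hy'
    exact ⟨QuotientGroup.mk ⟨u, Subgroup.subset_closure hu⟩, ⟨_, hu, rfl⟩,
      (cq_mk _ _).trans (congrArg QuotientGroup.mk (Subtype.ext hue))⟩
  · rintro ⟨_, ⟨u, hu, rfl⟩, rfl⟩
    refine ⟨clEquiv (MulAut.conj g) hset u, ?_, (cq_mk _ _).symm⟩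
    show ((clEquiv (MulAut.conj g) hset u : ↥(Subgroup.closure (nset D x))) : G) ∈ nset D x
    rw [clEquiv_val, ← hset]
    exact ⟨_, hu, rfl⟩

theorem setting_of (hD : Cfsg.IsThreeTranspositionGroup D) (hprim : Cfsg.IsPrimitiveUnderConj D)
    (ht : Cfsg.IsOfTypeM23 G D) {x : G} (hx : x ∈ D) : Fix.Setting D x := by
  obtain ⟨d, S⟩ := Fix.exists_setting hD hprim ht
  exact setting_at S hx

end Cfsg.Agent.Spor.M23Rel.Shift
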