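import Cfsg.Agent.Lib.Spor.Fi22O7Check
import Cfsg.Agent.Lib.Classical.OrthPOmega

/-!
A maximal subgroup of Fi22 is the simple orthogonal group in dimension seven over the field with
three elements.
-/

set_option autoImplicit false
set_option maxRecDepth 100000

namespace Cfsg.Agent.Spor.Fi22Cert.O7Act

open Cfsg.Agent.Spor.CC Matrix

/-- the subgroup -/
abbrev Ksub : Subgroup pres.Grp := pres.wsub IdxO7.subW

theorem sub_eq_singles : Ksub = pres.sub [1, 2, 3, 4, 5, 6, 7, 8] :=
  Pres.wsub_singles [1, 2, 3, 4, 5, 6, 7, 8]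

theorem gen_memK {x : ℕ} (h1 : 1 ≤ x) (h2 : x ≤ 8) : pres.gen x ∈ Ksub := by
  rw [sub_eq_singles]
  exact Subgroup.subset_closure ⟨x, by interval_cases x <;> decide, rfl⟩

/-- the embedding of points -/
def mu (v : Fin 351) : Fin rep.P.n :=
  ⟨fld embTab 16 v, by
    have := compatO_spec v.2
    simp only [compatO, Bool.and_eq_true] at this
    exact Nat.le_of_ble_eq_true this.1.1⟩

theorem mu_injective : Function.Injective mu := by
  intro a b e
  have hh : ∀ v : Fin 351, fld embInv 16 (mu v : ℕ) = v := fun v => by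
    have := compatO_spec v.2
    simp only [compatO, Bool.and_eq_true] at this
    exact Nat.eq_of_beq_eq_true this.1.2
  exact Fin.ext ((hh a).symm.trans
    ((congrArg (fun q : Fin rep.P.n => fld embInv 16 (q : ℕ)) e).trans (hh b)))

/-- the relation between the two actions -/
def Match (s : pres.Grp) (σ : Equiv.Perm (Fin 351)) : Prop :=
  ∀ v, rep.hom s (mu v) = mu (σ v)

theorem compatO_gen (x : ℕ) (hx : x < 8) (v : Fin 351) :
    RepU62.rows (x + 1) (fld embTab 16 v) = fld embTab 16 (orows x v) ∧
      actN (matOf (matCodes.getD x 0)) v = orows x v := by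
  have := compatO_spec v.2
  simp only [compatO, Bool.and_eq_true, List.all_eq_true] at this
  have h := this.2 x (List.mem_range.mpr hx)
  exact ⟨Nat.eq_of_beq_eq_true h.1, Nat.eq_of_beq_eq_true h.2⟩

theorem match_gen (x : ℕ) (hx : x < 8) : Match (pres.gen (x + 1)) (operm (matG x hx)) := by
  intro v
  have hlt : x + 1 < rep.P.ng := show x + 1 < 9 by omega
  apply Fin.ext
  rw [rep.hom_gen _ hlt, rep.P.perm_val rep.valid hlt]
  show RepU62.rows (x + 1) (fld embTab 16 v) = fld embTab 16 (actN (toM (matG x hx)) v)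
  rw [show toM (matG x hx) = matOf (matCodes.getD x 0) from rfl, (compatO_gen x hx v).2,
    (compatO_gen x hx v).1]

theorem exists_match (s : pres.Grp) (hs : s ∈ Ksub) : ∃ σ ∈ operm.range, Match s σ := by
  rw [sub_eq_singles, Pres.sub] at hs
  induction hs using Subgroup.closure_induction with
  | mem y hy =>
    obtain ⟨x, hx, rfl⟩ := hy
    have h1 : 1 ≤ x ∧ x ≤ 8 := by
      simp only [Set.mem_setOf_eq, List.mem_cons, List.not_mem_nil, or_false] at hx
      omega
    obtain ⟨y, rfl⟩ : ∃ y, x = y + 1 := ⟨x - 1, by omega⟩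
    have hy8 : y < 8 := by omega
    exact ⟨operm (matG y hy8), ⟨_, rfl⟩, match_gen y hy8⟩
  | one => exact ⟨1, one_mem _, fun v => by simp⟩
  | mul p q _ _ hp hq =>
    obtain ⟨σ, hσ, h1⟩ := hp
    obtain ⟨τ, hτ, h2⟩ := hq
    exact ⟨σ * τ, mul_mem hσ hτ, fun v => by
      rw [map_mul, Equiv.Perm.mul_apply, h2, h1, Equiv.Perm.mul_apply]⟩
  | inv p _ hp =>
    obtain ⟨σ, hσ, h1⟩ := hp
    refine ⟨σ⁻¹, inv_mem hσ, fun v => ?_⟩
    rw [map_inv, Equiv.Perm.inv_eq_iff_eq, h1, ← Equiv.Perm.mul_apply, mul_inv_cancel,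
      Equiv.Perm.one_apply]

theorem match_unique {s : pres.Grp} {σ τ : Equiv.Perm (Fin 351)} (h1 : Match s σ)
    (h2 : Match s τ) : σ = τ :=
  Equiv.ext fun v => mu_injective ((h1 v).symm.trans (h2 v))

/-- the restriction to the 351 points -/
noncomputable def phi : Ksub →* Equiv.Perm (Fin 351) where
  toFun s := (exists_match _ s.2).choose
  map_one' := match_unique (exists_match _ (one_mem Ksub)).choose_spec.2 (fun v => by simp)
  map_mul' s t := match_unique (exists_match _ (s * t).2).choose_spec.2 (fun v => by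
    show rep.hom ((s : pres.Grp) * (t : pres.Grp)) (mu v) =
      mu (((exists_match _ s.2).choose * (exists_match _ t.2).choose) v)
    rw [map_mul, Equiv.Perm.mul_apply, (exists_match _ t.2).choose_spec.2,
      (exists_match _ s.2).choose_spec.2, Equiv.Perm.mul_apply])

theorem phi_range_le : phi.range ≤ operm.range := by
  rintro _ ⟨s, rfl⟩
  exact (exists_match _ s.2).choose_spec.1

theorem otab_inv : invOK orows 8 351 0 351 = true := by decide +kernel

theorem otab_valid : otab.Valid := fun _ hu _ hx =>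
  invOK_spec otab_inv (Nat.zero_le _) (lt_of_lt_of_eq hu (Nat.zero_add _).symm) hx

theorem olevels_ok : chainOK orows 8 351 olevels [] = true := by decide +kernel

theorem olevels_size : chainSize olevels = 4585351680 := by decide +kernel

theorem card_Ksub : Finite Ksub ∧ Nat.card Ksub = 4585351680 := by
  haveI := order.1
  refine ⟨inferInstance, ?_⟩
  have := Subgroup.card_mul_index Ksub
  rw [order.2.1, index_o7] at this
  exact Nat.eq_of_mul_eq_mul_right (by norm_num : (0:ℕ) < 14080)
    (this.trans (by norm_num : (64561751654400:ℕ) = 4585351680 * 14080))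

/-- generators of the subgroup -/
noncomputable def gK (x : ℕ) : Ksub :=
  if hx : x < 8 then ⟨pres.gen (x + 1), gen_memK (by omega) (by omega)⟩ else 1

theorem phi_gen : ∀ x, x < otab.ng → phi (gK x) = otab.perm otab_valid x := by
  intro x hx
  have hx8 : x < 8 := hx
  refine Eq.trans (match_unique (s := pres.gen (x + 1)) ?_ (match_gen x hx8))
    (Equiv.ext fun v => Fin.ext ?_)
  · have h := (exists_match _ (gK x).2).choose_spec.2
    have e : ((gK x : Ksub) : pres.Grp) = pres.gen (x + 1) := by rw [gK, dif_pos hx8]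
    intro v
    rw [← e]
    exact h v
  · exact (compatO_gen x hx8 v).2.trans (otab.perm_val otab_valid hx v).symm

theorem perfect : commutator Ksub = ⊤ := by
  let A := Abelianization Ksub
  let q : Ksub →* A := Abelianization.of
  let f : ℕ → A := fun x => q (gK x)
  have hval : ∀ x < 8, ((gK x : Ksub) : pres.Grp) = pres.gen (x + 1) := fun x hx => by
    rw [gK, dif_pos hx]
  have hsq : ∀ x < 8, f x * f x = 1 := fun x hx => by
    show q (gK x) * q (gK x) = 1
    rw [← map_mul, show gK x * gK x = 1 from Subtype.ext (by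
      rw [Subgroup.coe_mul, hval x hx, Pres.gen_sq pres_ok]; rfl), map_one]
  have hedge : ∀ i j, i < 8 → j < 8 →
      Cfsg.Spor.coxLabel pres.edges (pres.nm (i + 1)) (pres.nm (j + 1)) = 3 → f i = f j := by
    intro i j hi hj hl
    have h := Pres.cox_one pres_ok (i := i + 1) (j := j + 1) (show i + 1 < 9 by omega) (show j + 1 < 9 by omega)
    rw [hl] at h
    have h' : (gK i * gK j) ^ 3 = 1 := Subtype.ext (by
      rw [SubgroupClass.coe_pow, Subgroup.coe_mul, hval i hi, hval j hj]; exact h)
    have h3 := congrArg q h'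
    rw [map_pow, map_mul, map_one, mul_pow] at h3
    have e : ∀ k < 8, f k ^ 3 = f k := fun k hk => by rw [pow_succ, pow_two, hsq k hk, one_mul]
    rw [e i hi, e j hj] at h3
    rw [eq_inv_of_mul_eq_one_left h3]
    exact inv_eq_of_mul_eq_one_left (hsq j hj)
  have e1 := hedge 1 0 (by decide) (by decide) (by decide +kernel)
  have e2 := hedge 2 1 (by decide) (by decide) (by decide +kernel)
  have e3 := hedge 3 2 (by decide) (by decide) (by decide +kernel)
  have e4 := hedge 4 3 (by decide) (by decide) (by decide +kernel)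
  have e5 := hedge 5 4 (by decide) (by decide) (by decide +kernel)
  have e6 := hedge 6 2 (by decide) (by decide) (by decide +kernel)
  have e7 := hedge 7 6 (by decide) (by decide) (by decide +kernel)
  have hall : ∀ x < 8, f x = f 0 := by
    intro x hx
    interval_cases x <;> simp_all
  have hrel : ((powW 9 [1, 2, 3, 4, 5, 6, 7]).map pres.gen).prod = 1 :=
    Pres.relW_one pres_ok (by decide +kernel)
  have hlt : ∀ x ∈ powW 9 [0, 1, 2, 3, 4, 5, 6], x < 8 := by decide +kernel
  have hrelK : ((powW 9 [0, 1, 2, 3, 4, 5, 6]).map gK).prod = 1 := by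
    apply Subtype.ext
    rw [Subgroup.val_list_prod, List.map_map, Subgroup.coe_one]
    refine Eq.trans (congrArg List.prod ?_) hrel
    rw [show powW 9 [1, 2, 3, 4, 5, 6, 7] = (powW 9 [0, 1, 2, 3, 4, 5, 6]).map (· + 1) from
      by decide +kernel, List.map_map]
    refine List.map_congr_left fun x hx => ?_
    have hx8 : x < 8 := hlt x hx
    exact hval x hx8
  have h0 : f 0 = 1 := by
    have h := congrArg q hrelK
    rw [map_list_prod, List.map_map, map_one] at h
    rw [show (powW 9 [0, 1, 2, 3, 4, 5, 6]).map (q ∘ gK) = List.replicate 63 (f 0) from ?_,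
      List.prod_replicate, show 63 = 2 * 31 + 1 from rfl, pow_succ, pow_mul, pow_two,
      hsq 0 (by norm_num), one_pow, one_mul] at h
    · exact h
    · refine List.eq_replicate_iff.mpr ⟨by rw [List.length_map]; decide +kernel, fun b hb => ?_⟩
      obtain ⟨x, hx, rfl⟩ := List.mem_map.mp hb
      have hx8 : x < 8 := hlt x hx
      exact hall x hx8
  rw [eq_top_iff]
  rintro ⟨s, hs⟩ -
  have hs' : s ∈ pres.sub [1, 2, 3, 4, 5, 6, 7, 8] := sub_eq_singles ▸ hs
  rw [Pres.sub] at hs'
  induction hs' using Subgroup.closure_induction with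
  | mem y hy =>
    obtain ⟨x, hx, rfl⟩ := hy
    have h1 : 1 ≤ x ∧ x ≤ 8 := by
      simp only [Set.mem_setOf_eq, List.mem_cons, List.not_mem_nil, or_false] at hx
      omega
    obtain ⟨y, rfl⟩ : ∃ y, x = y + 1 := ⟨x - 1, by omega⟩
    have hy8 : y < 8 := by omega
    have : q (gK y) = 1 := (hall y hy8).trans h0
    rw [show (⟨pres.gen (y + 1), hs⟩ : Ksub) = gK y from Subtype.ext (hval y hy8).symm]
    exact (QuotientGroup.eq_one_iff _).mp this
  | one => exact one_mem _
  | mul p r hp hr ihp ihr =>
    have hp' : p ∈ Ksub := sub_eq_singles ▸ hp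
    have hr' : r ∈ Ksub := sub_eq_singles ▸ hr
    exact mul_mem (ihp hp') (ihr hr')
  | inv p hp ihp =>
    have hp' : p ∈ Ksub := sub_eq_singles ▸ hp
    exact inv_mem (ihp hp')

theorem card_omega7 : Nat.card (Cfsg.Omega (ZMod 3) qf) = 4585351680 := by
  have h2 : (2 : ZMod 3) ≠ 0 := by decide
  have hi : (Cfsg.Omega (ZMod 3) qf).index = 4 := by
    rw [qf, ← Cfsg.Agent.Classical.OOmega.coe_odd 3]
    exact Cfsg.Agent.Classical.OOmega.index_omega_odd h2 (Cfsg.Agent.Classical.OOmega.formOf_pnd (Cfsg.Agent.Classical.OOmega.pnd_line h2)) (by simp)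
  have h := Subgroup.card_mul_index (Cfsg.Omega (ZMod 3) qf)
  rw [hi, Cfsg.Agent.Classical.OCount.card_GO_odd h2 3, ZMod.card] at h
  rw [show 2 * 3 ^ 3 ^ 2 * ∏ i ∈ Finset.range 3, (3 ^ (2 * (i + 1)) - 1) = 4585351680 * 4 from by
    decide +kernel] at h
  exact Nat.eq_of_mul_eq_mul_right (by norm_num : (0:ℕ) < 4) h

theorem card_pomega7 : Nat.card (Cfsg.POmega (ZMod 3) qf) = 4585351680 := by
  have h := Cfsg.Agent.Classical.OOmega.card_POmega_odd (F := ZMod 3) (by rw [ZMod.card]; decide) (m := 3) (by norm_num)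
  rw [ZMod.card] at h
  rw [show 3 ^ 3 ^ 2 * ∏ i ∈ Finset.range 3, (3 ^ (2 * (i + 1)) - 1) = 2 * 4585351680 from by
    decide +kernel] at h
  exact Nat.eq_of_mul_eq_mul_left (by norm_num : (0:ℕ) < 2) h

theorem ksub_equiv : Nonempty (Ksub ≃* Cfsg.POmega (ZMod 3) qf) := by
  haveI := card_Ksub.1
  let g : Cfsg.Omega (ZMod 3) qf →* Equiv.Perm (Fin 351) :=
    operm.comp (Cfsg.Omega (ZMod 3) qf).subtype
  have hgr : g.range = (Cfsg.Omega (ZMod 3) qf).map operm := by
    rw [MonoidHom.range_eq_map, ← Subgroup.map_map, ← MonoidHom.range_eq_map, Subgroup.range_subtype]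
  have hle : phi.range ≤ g.range := by
    rw [hgr, MonoidHom.range_eq_map, ← perfect, commutator_def, Subgroup.map_commutator, Cfsg.Omega,
      commutator_def, Subgroup.map_commutator, ← MonoidHom.range_eq_map, ← MonoidHom.range_eq_map]
    exact Subgroup.commutator_mono phi_range_le phi_range_le
  have hlow := chain_le_image otab_valid gK phi phi_gen olevels_ok
  rw [olevels_size] at hlow
  have hup : Nat.card g.range ≤ 4585351680 :=
    card_omega7 ▸ Nat.card_le_card_of_surjective _ g.rangeRestrict_surjective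
  have heq : phi.range = g.range := Subgroup.eq_of_le_of_card_ge hle (hup.trans hlow)
  have hphi : Function.Injective phi := by
    have hb := (phi.rangeRestrict_surjective).bijective_of_nat_card_le (by rw [card_Ksub.2]; exact hlow)
    exact fun a b e => hb.1 (Subtype.ext e)
  have hg : Function.Injective g := by
    have hb := (g.rangeRestrict_surjective).bijective_of_nat_card_le
      (by rw [card_omega7, ← heq]; exact hlow)
    exact fun a b e => hb.1 (Subtype.ext e)
  have hz : Function.Bijective
      (QuotientGroup.mk' (Subgroup.center (Cfsg.Omega (ZMod 3) qf))) :=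
    (QuotientGroup.mk'_surjective _).bijective_of_nat_card_le
      (le_of_eq (card_omega7.trans card_pomega7.symm))
  exact ⟨(((MonoidHom.ofInjective hphi).trans (MulEquiv.subgroupCongr heq)).trans
    (MonoidHom.ofInjective hg).symm).trans (MulEquiv.ofBijective _ hz)⟩

end Cfsg.Agent.Spor.Fi22Cert.O7Act
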