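import Cfsg.Agent.Lib.Spor.M23RelTwoOrb
import Cfsg.Agent.Lib.Spor.Fi22O7
import Cfsg.Agent.Lib.Spor.Fi22OutMain
import Cfsg.Agent.Lib.Spor.ThreeRelations

/-!
The common centralizer of two non-commuting members of Fi23 is orthogonal in dimension seven over three
elements and is generated by members.
-/

set_option autoImplicit false
set_option maxRecDepth 100000
set_option linter.unusedSectionVars false

namespace Cfsg.Agent.Spor.M23Rel.TwoOrb

open Cfsg.Agent.Spor.CC Cfsg.Agent.Spor.Fi23Cert Cfsg.Agent.Spor.Fi23Cert.Below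
  Cfsg.Agent.Spor.M23Rel.Cyc
open Cfsg.Agent.Spor.Fi23Cert.Outer (IsPt)

/-- the common centralizer -/
noncomputable def C2 : Subgroup pres.Grp := Subgroup.centralizer ({tA, tB} : Set pres.Grp)

theorem mem_C2 {g : pres.Grp} : g ∈ C2 ↔ Commute g tA ∧ Commute g tB := by
  rw [C2, Subgroup.mem_centralizer_iff]
  constructor
  · exact fun h => ⟨(h tA (by simp)).symm, (h tB (by simp)).symm⟩
  · rintro ⟨h1, h2⟩ z (rfl | rfl)
    exacts [h1.symm.eq, h2.symm.eq]

theorem C2_le : C2 ≤ Below.Ksub := fun g hg => by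
  rw [← centralizer_eq, Subgroup.mem_centralizer_singleton_iff]
  exact (mem_C2.mp hg).1.eq

theorem K0_le : K0 ≤ C2 := fun _ hg => mem_C2.mpr (K0_comm hg)

theorem card_C2 : Nat.card C2 = 4585351680 := by
  haveI := order.1
  have hb : (1 : ℕ) < rep.P.n := by decide
  have hsub : C2.subgroupOf Below.Ksub = (stab rep.hom ⟨1, hb⟩).subgroupOf Below.Ksub := by
    ext ⟨g, hg⟩
    simp only [Subgroup.mem_subgroupOf, mem_stab]
    have hA : Commute g tA := by
      rw [← centralizer_eq, Subgroup.mem_centralizer_singleton_iff] at hg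
      exact hg
    have key : rep.hom g ⟨1, hb⟩ = ⟨1, hb⟩ ↔ act g 1 = 1 := by rw [act_def g hb, Fin.ext_iff]
    rw [key, mem_C2]
    exact ⟨fun h => fix_of_commute isPt_B h.2, fun h => ⟨hA, fixed_commute isPt_B h⟩⟩
  have horb := orbit_eq rep.valid pres.gen rep.hom rep.hom_gen (O := RepA.sub1) (by decide) (by decide)
    RepA.sub1_ok RepA.sub1_closed RepA.sub1_letters Below.Ksub rfl
  have hrel : (stab rep.hom ⟨1, hb⟩).relIndex Below.Ksub = 28160 :=
    (sorbit_ncard rep.hom Below.Ksub ⟨1, hb⟩).symm.trans horb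
  have h := Subgroup.card_mul_index (C2.subgroupOf Below.Ksub)
  rw [Nat.card_congr (Subgroup.subgroupOfEquivOfLe C2_le).toEquiv, card_Ksub.2, hsub] at h
  rw [show ((stab rep.hom ⟨1, hb⟩).subgroupOf Below.Ksub).index = 28160 from hrel] at h
  omega

theorem toFi22_gen {x : ℕ} (hx : x < 9) (h : pres.gen (lets.getD x 0) ∈ Below.Ksub) :
    toFi22 ⟨_, h⟩ = Fi22Cert.pres.gen x := by
  show (MonoidHom.ofInjective Fi22Cert.order.2.2).symm (theta ⟨_, h⟩) = Fi22Cert.pres.gen x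
  rw [MulEquiv.symm_apply_eq]
  exact Subtype.ext (match_unique (exists_match _ h).choose_spec.2 (match_gen x hx))

/-- the map to Fi22 -/
noncomputable def f0 : ↥K0 →* Fi22Cert.pres.Grp :=
  toFi22.comp (Subgroup.inclusion (K0_le.trans C2_le))

theorem f0_injective : Function.Injective f0 := by
  rw [injective_iff_map_eq_one]
  intro g hg
  haveI := card_Ksub.1
  have hmem : Subgroup.inclusion (K0_le.trans C2_le) g ∈ toFi22.ker := hg
  have hA : (⟨tA, tA_mem⟩ : Below.Ksub) ∈ toFi22.ker := tA_ker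
  have hne : (⟨⟨tA, tA_mem⟩, hA⟩ : toFi22.ker) ≠ 1 := fun e =>
    tA_ne_one (congrArg (fun q : toFi22.ker => ((q : Below.Ksub) : pres.Grp)) e)
  obtain ⟨a, b, -, hab⟩ := Nat.card_eq_two_iff.mp ker_card
  have hcases : ∀ q : toFi22.ker, q = 1 ∨ q = ⟨⟨tA, tA_mem⟩, hA⟩ := fun q => by
    have h1 : (1 : toFi22.ker) ∈ ({a, b} : Set toFi22.ker) := hab ▸ Set.mem_univ _
    have h2 : (⟨⟨tA, tA_mem⟩, hA⟩ : toFi22.ker) ∈ ({a, b} : Set toFi22.ker) := hab ▸ Set.mem_univ _
    have h3 : q ∈ ({a, b} : Set toFi22.ker) := hab ▸ Set.mem_univ _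
    simp only [Set.mem_insert_iff, Set.mem_singleton_iff] at h1 h2 h3
    rcases h1 with e | e <;> rcases h2 with e' | e' <;> rcases h3 with e'' | e'' <;>
      first | exact Or.inl (e''.trans e.symm) | exact Or.inr (e''.trans e'.symm) |
        exact absurd (e'.trans e.symm) hne
  rcases hcases ⟨_, hmem⟩ with e | e
  · exact Subtype.ext (congrArg (fun q : toFi22.ker => ((q : Below.Ksub) : pres.Grp)) e)
  · exfalso
    have : (g : pres.Grp) = tA := congrArg (fun q : toFi22.ker => ((q : Below.Ksub) : pres.Grp)) e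
    exact not_comm (this ▸ (K0_comm g.2).2)

theorem sw_letters : ∀ x ∈ ([1, 2, 3, 4, 5, 6, 7, 8] : List ℕ),
    x < 9 ∧ Fi22Cert.Outer.sw x < 9 ∧ lets.getD (Fi22Cert.Outer.sw x) 0 ∈ ks := by decide +kernel

theorem ks_cover : ∀ k ∈ ks, ∃ x ∈ ([1, 2, 3, 4, 5, 6, 7, 8] : List ℕ),
    lets.getD (Fi22Cert.Outer.sw x) 0 = k := by decide +kernel

theorem f0_range : f0.range = Fi22Cert.O7Act.Ksub.map Fi22Cert.Outer.sigma.toMonoidHom := by
  rw [Fi22Cert.O7Act.sub_eq_singles, Pres.sub, MonoidHom.map_closure]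
  have hgen : ∀ (x : ℕ) (hx : x ∈ ([1, 2, 3, 4, 5, 6, 7, 8] : List ℕ))
      (h : pres.gen (lets.getD (Fi22Cert.Outer.sw x) 0) ∈ K0),
      f0 ⟨_, h⟩ = Fi22Cert.Outer.sigma (Fi22Cert.pres.gen x) := fun x hx h => by
    rw [Fi22Cert.Outer.sigma_gen (sw_letters x hx).1]
    exact toFi22_gen (sw_letters x hx).2.1 _
  apply le_antisymm
  · rintro _ ⟨⟨g, hg⟩, rfl⟩
    have hg' := hg
    rw [K0, Pres.sub] at hg'
    induction hg' using Subgroup.closure_induction with
    | mem y hy =>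
      obtain ⟨k, hk, rfl⟩ := hy
      obtain ⟨x, hx, rfl⟩ := ks_cover k hk
      rw [hgen x hx hg]
      exact Subgroup.subset_closure ⟨_, ⟨x, hx, rfl⟩, rfl⟩
    | one => rw [show (⟨1, hg⟩ : ↥K0) = 1 from rfl, map_one]; exact one_mem _
    | mul a b ha hb iha ihb =>
      have ha' : a ∈ K0 := ha
      have hb' : b ∈ K0 := hb
      rw [show (⟨a * b, hg⟩ : ↥K0) = ⟨a, ha'⟩ * ⟨b, hb'⟩ from rfl, map_mul]
      exact mul_mem (iha ha') (ihb hb')
    | inv a ha iha =>
      have ha' : a ∈ K0 := ha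
      rw [show (⟨a⁻¹, hg⟩ : ↥K0) = ⟨a, ha'⟩⁻¹ from rfl, map_inv]
      exact inv_mem (iha ha')
  · rw [Subgroup.closure_le]
    rintro _ ⟨_, ⟨x, hx, rfl⟩, rfl⟩
    exact ⟨⟨_, Subgroup.subset_closure ⟨_, (sw_letters x hx).2.2, rfl⟩⟩, hgen x hx _⟩

theorem K0_equiv : Nonempty (↥K0 ≃* Cfsg.POmega (ZMod 3) (Cfsg.quadFormOdd 3 (ZMod 3))) := by
  obtain ⟨φ⟩ := Fi22Cert.O7Act.ksub_equiv
  exact ⟨(MonoidHom.ofInjective f0_injective).trans ((MulEquiv.subgroupCongr f0_range).trans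
    ((Subgroup.equivMapOfInjective _ _ Fi22Cert.Outer.sigma.injective).symm.trans φ))⟩

theorem K0_eq : K0 = C2 := by
  haveI := order.1
  refine Subgroup.eq_of_le_of_card_ge K0_le ?_
  obtain ⟨φ⟩ := K0_equiv
  rw [card_C2, Nat.card_congr φ.toEquiv]
  exact le_of_eq Fi22Cert.O7Act.card_pomega7.symm

theorem gen_TT {k : ℕ} (hk : k ∈ ks) : pres.gen k ∈ TT :=
  ⟨Outer.gen_mem_class (points_ok.2.2.2.2.2.2.2 k hk), (gen_fix hk).1.symm, (gen_fix hk).2.symm⟩

theorem closure_TT : Subgroup.closure TT = C2 := by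
  refine le_antisymm ((Subgroup.closure_le _).mpr fun u hu => mem_C2.mpr ⟨hu.2.1.symm, hu.2.2.symm⟩) ?_
  rw [← K0_eq, K0, Pres.sub]
  exact Subgroup.closure_mono fun y ⟨k, hk, hy⟩ => hy ▸ gen_TT hk

/-- two non-commuting members are conjugate to the standard ones -/
theorem pair_conj {a d : pres.Grp} (ha : a ∈ conjugatesOf tA) (hd : d ∈ conjugatesOf tA)
    (hnc : ¬ Commute a d) : ∃ g : pres.Grp, g * tA * g⁻¹ = a ∧ g * tB * g⁻¹ = d := by
  obtain ⟨s, rfl⟩ := isConj_iff.mp ha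
  obtain ⟨t, rfl⟩ := isConj_iff.mp hd
  obtain ⟨r, hr, h, hh, k, hk, he⟩ := exists_factor (s⁻¹ * t)
  have hkA := conj_tA hk
  have hhA := conj_tA hh
  have ht : t * tA * t⁻¹ = s * h * ((r.map pres.gen).prod * tA * (r.map pres.gen).prod⁻¹) * (s * h)⁻¹ := by
    calc t * tA * t⁻¹ = s * (s⁻¹ * t) * tA * (s * (s⁻¹ * t))⁻¹ := by group
      _ = s * h * ((r.map pres.gen).prod * (k * tA * k⁻¹) * (r.map pres.gen).prod⁻¹) * (s * h)⁻¹ := by
        rw [he]; group
      _ = _ := by rw [hkA]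
  have hs : s * h * tA * (s * h)⁻¹ = s * tA * s⁻¹ := by
    rw [show s * h * tA * (s * h)⁻¹ = s * (h * tA * h⁻¹) * s⁻¹ by group, hhA]
  refine ⟨s * h, hs, ?_⟩
  simp only [List.mem_cons, List.not_mem_nil, or_false] at hr
  rcases hr with rfl | rfl | rfl
  · exfalso
    rw [List.map_nil, List.prod_nil, inv_one, one_mul, mul_one, hs] at ht
    exact hnc (by rw [ht])
  · rw [ht, move1, List.map_cons, List.map_nil, List.prod_cons, List.prod_nil, mul_one, tB_eq]
  · exfalso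
    refine hnc ?_
    rw [← hs, ht, Spor.commute_conj_iff]
    have h2 := pair_base_two
    exact fixed_commute (isPt_pm) h2
where
  isPt_pm : IsPt ((move2.map pres.gen).prod * tA * (move2.map pres.gen).prod⁻¹) RepA.sub2.b := by
    have h := isPt_root.conj (el move2) (by norm_num)
    rw [← act_def (el move2) (show (0 : ℕ) < rep.P.n by decide),
      act_el (by decide +kernel) (by norm_num)] at h
    rwa [show e10 move2 0 = RepA.sub2.b from moves_ok.2.2.2] at h
  pair_base_two : act tA RepA.sub2.b = RepA.sub2.b := by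
    rw [← el_zW, act_el Below.zW_lt (by decide +kernel)]
    decide +kernel

end Cfsg.Agent.Spor.M23Rel.TwoOrb
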