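import Mathlib

/-!
Tables for the tuples of pairwise commuting members in a group of type M(22).
-/

set_option autoImplicit false

namespace Cfsg.Agent.Spor.M22U.TDat

/-- the second point -/
def q0 : ℕ :=
  5

/-- the other points of the line -/
def line : List ℕ :=
  [164, 337, 353]

/-- a point off the line -/
def r0 : ℕ :=
  14

/-- words fixing the first point -/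
def w2 : List (ℕ × List ℕ) :=
  [(5, []),
  (12, [6, 5, 7, 2, 0, 6, 7]),
  (13, [3, 4]),
  (14, [4, 5, 2, 3, 4, 3, 2]),
  (22, [6, 0, 1, 2, 6, 7, 2, 0, 7]),
  (27, [5, 3, 4, 2]),
  (30, [6, 4, 2, 7, 2, 6, 2]),
  (31, [7, 1, 0, 7, 4, 1]),
  (36, [3, 4, 7, 1, 0, 7, 1]),
  (40, [5, 4, 2]),
  (41, [6, 7, 2, 0, 6, 7, 2]),
  (53, [7, 6, 0, 7, 6, 5, 4, 2]),
  (56, [5, 4, 1, 2, 7, 1, 2, 1]),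
  (57, [6, 7, 0, 6, 7, 4]),
  (65, [4, 5, 3, 4, 2]),
  (68, [4, 5, 3, 4]),
  (70, [7, 2, 6, 1, 2, 7]),
  (74, [4, 2]),
  (76, [5, 2, 3, 4]),
  (79, [5, 4]),
  (80, [6, 5, 3, 7, 2, 0, 6, 7]),
  (87, [6, 1, 7, 0, 6, 3, 4, 1, 2]),
  (89, [3, 7, 1, 0, 7, 1, 2]),
  (90, [7, 6, 2, 0, 7, 6]),
  (98, [2, 6, 1, 7, 6, 4, 1]),
  (103, [6, 5, 2, 7, 2, 6]),
  (104, [6, 7, 0, 6, 7, 4, 2]),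
  (106, [5, 2, 3, 4, 3, 2]),
  (107, [2, 6, 3, 1, 2, 1, 0, 6, 2, 1]),
  (111, [6, 3, 7, 2, 0, 6, 7]),
  (118, [4, 3, 2]),
  (119, [1, 0, 6, 4, 0, 1, 2]),
  (120, [2, 3, 4, 2]),
  (132, [6, 7, 0, 6, 1, 2, 1, 7]),
  (133, [5, 7, 6, 0, 7, 6, 4, 2]),
  (136, [3, 1, 2, 7, 2, 1]),
  (144, [3, 7, 1, 2, 0, 7, 5, 4, 1]),
  (145, [3, 1, 2, 1, 7, 2, 1]),
  (154, [6, 3, 2, 7, 2, 6]),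
  (161, [5, 7, 1, 2, 1, 7]),
  (164, [7, 1, 0, 7, 1]),
  (167, [6, 5, 7, 2, 0, 6, 7, 2]),
  (170, [6, 7, 2, 0, 6, 7]),
  (173, [5, 4, 3, 2]),
  (175, [2, 3, 4, 3, 2]),
  (178, [6, 7, 2, 0, 6, 7, 5, 4]),
  (182, [5, 3, 4, 3, 2]),
  (185, [7, 6, 0, 7, 6, 3, 4, 2]),
  (188, [3, 4, 2, 7, 1, 0, 7, 1]),
  (194, [2, 7, 1, 0, 7, 5, 4, 1]),
  (196, [6, 1, 7, 6, 3, 4, 3, 1, 2]),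
  (197, [7, 1, 0, 7, 1, 2, 3, 4, 2]),
  (198, [7, 6, 0, 7, 6, 2]),
  (199, [2, 1, 7, 0, 1, 7, 2]),
  (208, [6, 2, 7, 2, 6, 2]),
  (210, [7, 1, 0, 7, 1, 2]),
  (211, [6, 1, 7, 0, 6, 1, 2]),
  (213, [3, 4, 1, 2, 7, 1, 2, 1]),
  (221, [7, 6, 0, 1, 2, 7, 6, 2]),
  (225, [7, 1, 0, 7, 5, 4, 1]),
  (234, [3, 4, 3, 2]),
  (235, [6, 1, 2, 1, 0, 6, 4, 2, 1]),
  (236, [4]),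
  (244, [6, 3, 1, 2, 1, 0, 6, 2, 1]),
  (245, [2, 3, 4]),
  (247, [2]),
  (248, [4, 5, 3, 4, 3, 2]),
  (253, [4, 5, 2, 3, 4]),
  (255, [3, 4, 2]),
  (257, [6, 2, 7, 2, 6, 5, 3, 4, 2]),
  (258, [7, 1, 2, 1, 7, 5, 4]),
  (265, [5, 1, 2, 7, 2, 1]),
  (268, [7, 2, 6, 2, 7, 3, 4, 2]),
  (276, [6, 5, 1, 7, 6, 3, 4, 3, 1, 2]),
  (277, [5, 4, 7, 1, 2, 1, 7]),
  (287, [7, 2, 6, 2, 7, 2]),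
  (292, [1, 2, 7, 5, 4, 1, 2, 1]),
  (293, [3, 1, 7, 0, 1, 7, 3, 2]),
  (301, [5, 7, 6, 0, 7, 6, 2]),
  (304, [2, 1, 7, 0, 1, 7, 3, 2]),
  (305, [5, 2, 3, 1, 2, 7, 2, 1]),
  (314, [5, 2, 3, 4, 2]),
  (316, [5, 3, 4]),
  (318, [4, 5, 2, 3, 4, 2]),
  (319, [6, 1, 2, 1, 0, 6, 1, 2, 1]),
  (324, [6, 3, 1, 2, 1, 0, 6, 1, 2, 1]),
  (326, [1, 0, 6, 0, 1, 2]),
  (329, [3, 2]),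
  (332, [6, 3, 7, 2, 0, 6, 7, 4]),
  (334, [4, 5, 7, 1, 2, 1, 7]),
  (337, [4, 3, 7, 1, 0, 7, 1, 2]),
  (339, [1, 7, 2, 0, 1, 7, 4]),
  (341, [6, 7, 2, 1, 0, 6, 7, 2]),
  (353, [7, 6, 0, 7, 6]),
  (357, [5, 3, 7, 2, 6, 2, 7]),
  (358, [5, 7, 2, 6, 2, 7, 3, 4, 2]),
  (365, [6, 1, 7, 6, 3, 1, 2]),
  (366, [6, 7, 0, 6, 7, 3, 4, 2]),
  (368, [6, 2, 7, 2, 6, 5, 4]),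
  (371, [5, 1, 7, 0, 1, 7, 4]),
  (376, [4, 5, 1, 7, 0, 1, 7, 2]),
  (382, [5, 7, 1, 0, 7, 4, 1, 2]),
  (383, [6, 3, 7, 0, 6, 7, 2]),
  (389, [7, 1, 0, 7, 3, 4, 1, 2]),
  (392, [6, 1, 2, 1, 0, 6, 2, 1]),
  (395, [3, 2, 7, 1, 0, 7, 1]),
  (400, [7, 2, 6, 2, 7, 5, 3, 4]),
  (401, [4, 7, 1, 0, 7, 4, 1]),
  (403, [3, 7, 2, 6, 2, 7]),
  (410, [5, 7, 1, 0, 7, 1, 2]),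
  (412, [2, 7, 1, 0, 7, 1, 2]),
  (414, [6, 4, 7, 0, 6, 7, 2]),
  (422, [5, 3, 7, 1, 0, 7, 1, 2]),
  (424, [6, 3, 7, 0, 6, 1, 2, 1, 7]),
  (432, [4, 1, 7, 0, 1, 7, 2]),
  (436, [2, 7, 6, 0, 7, 6, 2]),
  (439, [5, 3, 4, 1, 2, 7, 1, 2, 1]),
  (440, [4, 7, 1, 0, 7, 1]),
  (449, [7, 2, 6, 2, 7, 5, 4]),
  (455, [6, 7, 2, 0, 6, 7, 4]),
  (458, [1, 2, 7, 5, 4, 2, 1]),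
  (462, [7, 6, 0, 1, 7, 6, 3, 2]),
  (463, [6, 7, 0, 6, 7, 3, 2]),
  (464, [6, 2, 7, 2, 6, 3, 4]),
  (466, [2, 3, 4, 7, 1, 0, 7, 1]),
  (467, [3, 2, 7, 6, 0, 7, 6]),
  (471, [6, 3, 1, 7, 6, 4, 1]),
  (473, [7, 6, 0, 7, 6, 3, 4]),
  (476, [4, 7, 1, 0, 7, 4, 1, 2]),
  (484, [7, 2, 6, 1, 2, 7, 2]),
  (487, [7, 6, 0, 7, 6, 5, 2, 3, 4]),
  (489, [7, 1, 2, 1, 7]),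
  (493, [2, 3, 1, 2, 7, 2, 1]),
  (502, [6, 3, 7, 0, 6, 7, 3, 2]),
  (505, [5, 4, 7, 2, 6, 2, 7]),
  (506, [7, 2, 6, 2, 7]),
  (508, [1, 7, 0, 1, 7, 3, 2]),
  (517, [1, 7, 0, 1, 7, 2]),
  (526, [7, 1, 0, 6, 2, 7, 1]),
  (529, [6, 7, 0, 6, 7, 4, 3, 2]),
  (532, [6, 4, 7, 2, 1, 0, 6, 7, 2]),
  (533, [7, 6, 0, 7, 6, 4, 2]),
  (541, [3, 7, 1, 0, 7, 5, 4, 1]),
  (542, [4, 7, 6, 0, 7, 6, 4]),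
  (546, [3, 4, 7, 1, 0, 7, 4, 1, 2]),
  (548, [2, 7, 6, 0, 7, 6]),
  (554, [7, 1, 2, 0, 7, 5, 4, 1]),
  (556, [2, 7, 1, 0, 7, 1]),
  (559, [4, 7, 2, 6, 2, 7]),
  (560, [1, 2, 1, 7, 2, 1]),
  (567, [6, 7, 0, 6, 7, 2]),
  (577, [7, 1, 2, 0, 7, 1]),
  (578, [7, 1, 0, 7, 4, 1, 2]),
  (580, [7, 2, 6, 2, 7, 4]),
  (581, [3, 7, 6, 0, 7, 6, 2]),
  (588, [3, 4, 7, 1, 0, 7, 4, 1]),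
  (589, [5, 1, 7, 0, 1, 7, 2]),
  (591, [5, 7, 2, 6, 2, 7]),
  (603, [4, 2, 7, 1, 0, 7, 1]),
  (612, [1, 2, 7, 2, 1]),
  (615, [1, 7, 0, 1, 7, 4, 2]),
  (616, [5, 3, 1, 2, 7, 2, 1]),
  (623, [4, 1, 2, 7, 1, 2, 1]),
  (636, [6, 1, 0, 7, 6, 4, 1]),
  (637, [6, 5, 7, 0, 6, 7, 4]),
  (642, [6, 5, 3, 2, 7, 2, 6]),
  (645, [4, 7, 1, 2, 1, 7]),
  (646, [4, 7, 2, 6, 2, 7, 4]),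
  (647, [7, 6, 0, 7, 6, 4]),
  (653, [7, 1, 0, 7, 5, 4, 1, 2]),
  (654, [5, 2, 7, 1, 0, 7, 1, 2]),
  (658, [3, 7, 1, 0, 7, 4, 1]),
  (661, [1, 2, 7, 2, 3, 1, 2]),
  (673, [6, 2, 7, 2, 6]),
  (674, [6, 4, 7, 0, 6, 7, 4, 3, 2]),
  (675, [1, 2, 7, 1, 2, 1]),
  (676, [1, 7, 0, 1, 7, 4]),
  (681, [3, 7, 1, 0, 7, 4, 1, 2]),
  (684, [6, 1, 7, 6, 4, 1]),
  (689, [7, 1, 2, 1, 7, 4])]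

/-- words fixing the first two points -/
def w3 : List (ℕ × List ℕ) :=
  [(14, []),
  (27, [1, 0, 6, 0, 1]),
  (30, [3, 4, 1, 2, 7, 4, 2, 1]),
  (40, [1, 0, 6, 3, 0, 1]),
  (53, [4, 7, 0, 1, 2, 3, 2, 1, 0, 7, 4, 3]),
  (56, [6, 5, 4, 2, 7, 2, 6, 4, 3]),
  (68, [7, 5, 0, 1, 7, 5, 1, 0, 7, 3]),
  (70, [3]),
  (74, [1, 0, 6, 5, 3, 0, 1]),
  (87, [6, 1, 7, 6, 5, 1]),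
  (98, [6, 1, 7, 0, 6, 5, 3, 1]),
  (104, [2, 3, 7, 2, 6, 2, 7, 3, 2]),
  (107, [7, 5, 1, 0, 7, 5, 0, 1, 7]),
  (119, [5, 3]),
  (133, [3, 7, 1, 0, 7, 4, 3, 2, 7, 2, 1]),
  (144, [5, 4, 1, 2, 7, 4, 2, 1]),
  (164, []),
  (178, [7, 0, 6, 5, 7, 6, 5, 0, 7, 3]),
  (185, [6, 1, 7, 0, 6, 1]),
  (188, [1, 2, 3, 0, 7, 5, 3, 0, 1, 7, 2, 1]),
  (194, [7, 1, 2, 0, 7, 3, 2, 7, 4, 5, 2, 1]),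
  (213, [6, 4, 2, 7, 2, 6, 4]),
  (255, [1, 0, 6, 5, 0, 1]),
  (258, [5, 7, 1, 0, 7, 4, 3, 2, 7, 2, 1]),
  (304, [7, 1, 0, 6, 7, 4, 3, 2, 7, 2, 1]),
  (305, [7, 1, 0, 7, 5, 3, 7, 0, 1, 7]),
  (318, [5]),
  (334, [7, 1, 0, 7, 4, 3, 2, 7, 2, 1]),
  (337, [7, 1, 2, 0, 7, 3, 4, 1]),
  (341, [4, 3, 7, 2, 6, 2, 7, 3, 4]),
  (353, [4, 3, 1, 7, 2, 0, 1, 7]),
  (366, [4, 1, 2, 7, 4, 2, 1]),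
  (368, [4, 3, 1, 7, 2, 0, 1, 7, 3]),
  (376, [7, 1, 0, 7, 5, 4, 3, 2, 7, 5, 2, 1]),
  (382, [7, 1, 0, 6, 7, 5, 3, 7, 0, 1, 7]),
  (389, [7, 6, 5, 0, 7, 0, 6, 5, 7]),
  (439, [6, 5, 4, 2, 7, 2, 6, 4]),
  (449, [7, 0, 6, 7, 5, 3, 7, 6, 0, 7, 3]),
  (458, [2, 6, 3, 2, 7, 2, 6, 5, 3, 2]),
  (464, [2, 3, 1, 2, 6, 0, 1, 2, 7, 6, 3, 1]),
  (484, [6, 1, 7, 6, 3, 1]),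
  (493, [7, 0, 1, 7, 5, 3, 7, 1, 0, 7, 3]),
  (533, [6, 7, 6, 3, 0, 7, 6, 3, 1, 7, 0, 1]),
  (554, [5, 3, 4, 1, 2, 7, 4, 2, 1]),
  (578, [4, 5, 3, 1, 2, 7, 5, 2, 3, 4, 3, 1]),
  (603, [2, 6, 3, 4, 1, 7, 6, 4, 3, 1, 2]),
  (615, [7, 6, 3, 0, 7, 0, 6, 3, 7]),
  (623, [6, 4, 2, 7, 2, 6, 4, 3]),
  (653, [4, 3, 1, 7, 2, 0, 1, 7, 5]),
  (661, [7, 6, 0, 7, 5, 3, 7, 0, 6, 7]),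
  (681, [4, 5, 3, 1, 2, 7, 5, 2, 3, 4, 1])]

/-- words of ten members -/
def mws : List (List ℕ) :=
  [[],
  [5, 4, 3, 7, 8, 5, 2, 3, 4, 1, 2, 3, 7, 6, 5, 4, 3, 2, 1],
  [4, 2, 3, 1, 2, 0, 1],
  [5, 4, 3, 7, 8, 3, 4, 1, 2, 3, 7, 5, 4, 3, 2, 1],
  [6, 5, 3, 4, 2, 3, 7, 8, 3, 4, 1, 2, 3, 7, 5, 4, 3, 2, 1],
  [6, 5, 3, 4, 2, 3, 7, 8, 4, 5, 2, 3, 4, 1, 2, 3, 7, 6, 5, 4, 3, 2, 1],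
  [8, 7, 2, 3, 1, 2, 0, 1],
  [7, 8, 4, 3, 7, 5, 4, 3, 1, 2, 0, 1],
  [7, 3, 4, 2, 3, 7, 8, 3, 4, 1, 2, 3, 7, 6, 5, 4, 3, 2, 1],
  [8, 7, 6, 4, 5, 3, 4, 2, 3, 7, 8, 4, 5, 3, 4, 1, 2, 3, 7, 6, 5, 4, 3, 2, 1]]

end Cfsg.Agent.Spor.M22U.TDat
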