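import Cfsg.Agent.Lib.Spor.M22UFacts
import Cfsg.Agent.Lib.Spor.M22UTupData

/-!
The tuples of at most four pairwise commuting members in a group of type M(22): any two pairs are
conjugate, any two triples are conjugate, and for quadruples there are two kinds.
-/

set_option autoImplicit false
set_option maxRecDepth 100000
set_option linter.unusedSectionVars false

namespace Cfsg.Agent.Spor.M22U.Tuples

open Cfsg.Agent.Spor.CC Cfsg.Agent.Spor.Fi22Cert Cfsg.Agent.Spor.Fi22Cert.U62Act TDat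

/-- the first point -/
abbrev p0 : ℕ := gpt 0
/-- the point in line with the first two -/
abbrev l0 : ℕ := line.getD 0 0

/-- check of a second point -/
def twoOK (q : ℕ) : Bool :=
  !(orth p0 q) || Nat.beq q p0 || w2.any fun e => Nat.beq e.1 q

/-- check of a third point -/
def threeOK (r : ℕ) : Bool :=
  !(orth p0 r) || !(orth q0 r) || Nat.beq r p0 || Nat.beq r q0 || w3.any fun e => Nat.beq e.1 r

theorem two0 : rangeOK twoOK 0 693 = true := by decide +kernel
theorem three0 : rangeOK threeOK 0 693 = true := by decide +kernel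

theorem w2_ok : (w2.all fun e => below 8 e.2 && Nat.beq (pev e.2 p0) p0 && Nat.beq (pev e.2 q0) e.1) = true := by
  decide +kernel

theorem w3_ok : (w3.all fun e => below 8 e.2 && Nat.beq (pev e.2 p0) p0 && Nat.beq (pev e.2 q0) q0 &&
    Nat.beq (pev e.2 (bif line.any (fun l => Nat.beq l e.1) then l0 else r0)) e.1) = true := by
  decide +kernel

theorem base_ok : q0 < 693 ∧ r0 < 693 ∧ line.length = 3 ∧ line.Nodup ∧
    (∀ l ∈ line, l < 693 ∧ l ≠ p0 ∧ l ≠ q0 ∧ orth p0 l = true ∧ orth q0 l = true) ∧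
    r0 ≠ p0 ∧ r0 ≠ q0 ∧ r0 ∉ line ∧ orth p0 r0 = true ∧ orth q0 r0 = true ∧
    q0 ≠ p0 ∧ orth p0 q0 = true := by decide +kernel

theorem l0_lt : l0 < 693 := by decide +kernel

theorem p0_lt : p0 < 693 := gpt_lt (by norm_num)

theorem two_word {q : ℕ} (hq : q < 693) (h : orth p0 q = true) (hne : q ≠ p0) :
    ∃ w, below 8 w = true ∧ pev w p0 = p0 ∧ pev w q0 = q := by
  have := all_range (p := twoOK) two0 (Nat.zero_le _) (show q < 0 + 693 by omega)
  simp only [twoOK, Bool.or_eq_true, Bool.not_eq_true', List.any_eq_true, beq_iff] at this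
  rcases this with (h' | h') | ⟨e, he, h'⟩
  · rw [h] at h'; exact Bool.noConfusion h'
  · exact absurd h' hne
  · have := List.all_eq_true.mp w2_ok e he
    simp only [Bool.and_eq_true, beq_iff] at this
    exact ⟨e.2, this.1.1, this.1.2, this.2.trans h'⟩

theorem three_word {r : ℕ} (hr : r < 693) (h : orth p0 r = true) (h' : orth q0 r = true) (hp : r ≠ p0)
    (hq : r ≠ q0) : ∃ w, below 8 w = true ∧ pev w p0 = p0 ∧ pev w q0 = q0 ∧
      ((r ∈ line ∧ pev w l0 = r) ∨ (r ∉ line ∧ pev w r0 = r)) := by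
  have := all_range (p := threeOK) three0 (Nat.zero_le _) (show r < 0 + 693 by omega)
  simp only [threeOK, Bool.or_eq_true, Bool.not_eq_true', List.any_eq_true, beq_iff] at this
  rcases this with (((h1 | h1) | h1) | h1) | ⟨e, he, h1⟩
  · rw [h] at h1; exact Bool.noConfusion h1
  · rw [h'] at h1; exact Bool.noConfusion h1
  · exact absurd h1 hp
  · exact absurd h1 hq
  · have hk := List.all_eq_true.mp w3_ok e he
    simp only [Bool.and_eq_true, beq_iff] at hk
    obtain ⟨⟨⟨k1, k2⟩, k3⟩, k4⟩ := hk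
    refine ⟨e.2, k1, k2, k3, ?_⟩
    rw [h1] at k4
    by_cases hl : r ∈ line
    · left
      have : line.any (fun l => Nat.beq l r) = true := List.any_eq_true.mpr ⟨r, hl, Nat.beq_refl r⟩
      rw [this] at k4
      exact ⟨hl, k4⟩
    · right
      have : line.any (fun l => Nat.beq l r) = false := by
        rw [Bool.eq_false_iff]
        intro h2
        obtain ⟨l, hl1, hl2⟩ := List.any_eq_true.mp h2
        exact hl (Nat.eq_of_beq_eq_true hl2 ▸ hl1)
      rw [this] at k4
      exact ⟨hl, k4⟩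

/-- a member of the presented group -/
noncomputable abbrev P (x : ℕ) : pres.Grp := Fischer.frame.pt x

theorem frame_a : Fischer.frame.a = tA := Fischer.mem_nil

universe u
variable {G : Type u} [Group G] [Finite G] {D : Set G}

theorem step (e : pres.Grp ≃* G) (he : e '' Fischer.Dc = D) {w : List ℕ} (hw : below 8 w = true) :
    ∃ e' : pres.Grp ≃* G, e' '' Fischer.Dc = D ∧ e' tA = e tA ∧
      ∀ x < 693, e' (P x) = e (P (pev w x)) := by
  refine ⟨(MulAut.conj (Fischer.frame.hw w)).trans e, ?_, ?_, fun x hx => ?_⟩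
  · rw [← he]
    ext y
    constructor
    · rintro ⟨u, hu, rfl⟩
      exact ⟨_, Fischer.three.2.1 (Fischer.frame.hw w) u hu, rfl⟩
    · rintro ⟨u, hu, rfl⟩
      refine ⟨(Fischer.frame.hw w)⁻¹ * u * Fischer.frame.hw w,
        (Spor.conj_mem_iff Fischer.three.2.1 _).1 hu, ?_⟩
      show e (_ * (_ * u * _) * _) = e u
      congr 1
      group
  · show e (Fischer.frame.hw w * tA * (Fischer.frame.hw w)⁻¹) = e tA
    rw [← frame_a, mul_inv_eq_iff_eq_mul.mpr (Fischer.frame.hw_comm_a hw).symm.eq]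
  · show e (_ * P x * _) = _
    rw [Fischer.frame.hw_conj hw hx]

theorem member_pt (e : pres.Grp ≃* G) (he : e '' Fischer.Dc = D) {y : G} (hy : y ∈ D) (hne : y ≠ e tA)
    (hc : Commute (e tA) y) : ∃ k < 693, e (P k) = y := by
  rw [← he] at hy
  obtain ⟨u, hu, rfl⟩ := hy
  have hne' : u ≠ Fischer.frame.a := by rw [frame_a]; exact fun h => hne (congrArg e h)
  have hc' : Commute Fischer.frame.a u := by
    rw [frame_a]
    exact e.injective (by rw [map_mul, map_mul]; exact hc.eq)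
  obtain ⟨k, hk, hku⟩ := Fischer.frame.pt_surj hu hne' hc'
  exact ⟨k, hk, congrArg e hku⟩

theorem orth_iff (e : pres.Grp ≃* G) {j k : ℕ} (hj : j < 693) (hk : k < 693) :
    Commute (e (P j)) (e (P k)) ↔ orth j k = true := by
  rw [← Fischer.frame.commute_pt hj hk]
  exact ⟨fun h => e.injective (by rw [map_mul, map_mul]; exact h.eq), fun h => h.map e⟩

variable (hD : Cfsg.IsThreeTranspositionGroup D) (hprim : Cfsg.IsPrimitiveUnderConj D)
  (ht : Cfsg.IsOfTypeM22 G D)

include hD hprim ht in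
theorem normal2 {a b : G} (ha : a ∈ D) (hb : b ∈ D) (hab : a ≠ b) (cab : Commute a b) :
    ∃ e : pres.Grp ≃* G, e '' Fischer.Dc = D ∧ e tA = a ∧ e (P p0) = b := by
  obtain ⟨e, hea, he⟩ := Facts.exists_iso_at hD hprim ht ha
  obtain ⟨k, hk, hkb⟩ := member_pt e he hb (by rw [hea]; exact hab.symm) (by rw [hea]; exact cab)
  obtain ⟨w, hw, hwk⟩ := Pts.from_first hk
  obtain ⟨e', h1, h2, h3⟩ := step e he hw
  exact ⟨e', h1, h2.trans hea, by rw [h3 _ p0_lt, hwk, hkb]⟩

include hD hprim ht in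
theorem normal3 {a b c : G} (ha : a ∈ D) (hb : b ∈ D) (hc : c ∈ D) (hab : a ≠ b) (hac : a ≠ c) (hbc : b ≠ c)
    (cab : Commute a b) (cac : Commute a c) (cbc : Commute b c) :
    ∃ e : pres.Grp ≃* G, e '' Fischer.Dc = D ∧ e tA = a ∧ e (P p0) = b ∧ e (P q0) = c := by
  obtain ⟨e, he, hea, heb⟩ := normal2 hD hprim ht ha hb hab cab
  obtain ⟨k, hk, hkc⟩ := member_pt e he hc (by rw [hea]; exact hac.symm) (by rw [hea]; exact cac)
  have horth : orth p0 k = true := (orth_iff e p0_lt hk).mp (by rw [heb, hkc]; exact cbc)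
  obtain ⟨w, hw, w1, w2⟩ := two_word hk horth fun h => hbc (by rw [← heb, ← hkc, h])
  obtain ⟨e', h1, h2, h3⟩ := step e he hw
  exact ⟨e', h1, h2.trans hea, by rw [h3 _ p0_lt, w1, heb], by rw [h3 _ base_ok.1, w2, hkc]⟩

/-- a fourth member against a normalised triple -/
theorem normal4 (e : pres.Grp ≃* G) (he : e '' Fischer.Dc = D) {d : G} (hd : d ∈ D) (h0 : d ≠ e tA)
    (h1 : d ≠ e (P p0)) (h2 : d ≠ e (P q0)) (c0 : Commute (e tA) d) (c1 : Commute (e (P p0)) d)
    (c2 : Commute (e (P q0)) d) :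
    (∃ l ∈ line, e (P l) = d) ∨
      ∃ e' : pres.Grp ≃* G, e' '' Fischer.Dc = D ∧ e' tA = e tA ∧ e' (P p0) = e (P p0) ∧
        e' (P q0) = e (P q0) ∧ e' (P r0) = d := by
  obtain ⟨k, hk, hkd⟩ := member_pt e he hd h0 c0
  have o1 : orth p0 k = true := (orth_iff e p0_lt hk).mp (by rw [hkd]; exact c1)
  have o2 : orth q0 k = true := (orth_iff e base_ok.1 hk).mp (by rw [hkd]; exact c2)
  obtain ⟨w, hw, w1, w2, ⟨hl, -⟩ | ⟨-, w3⟩⟩ :=
    three_word hk o1 o2 (fun h => h1 (by rw [← hkd, h])) (fun h => h2 (by rw [← hkd, h]))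
  · exact Or.inl ⟨k, hl, hkd⟩
  · obtain ⟨e', g1, g2, g3⟩ := step e he hw
    exact Or.inr ⟨e', g1, g2, by rw [g3 _ p0_lt, w1], by rw [g3 _ base_ok.1, w2],
      by rw [g3 _ base_ok.2.1, w3, hkd]⟩

end Cfsg.Agent.Spor.M22U.Tuples
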