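import Cfsg.Agent.Lib.Spor.M22UNorm

/-!
A group of type M(22) has width 22: at most 21 isotropic points of a six-dimensional unitary space
over the field with four elements are pairwise orthogonal.
-/

set_option autoImplicit false
set_option maxRecDepth 100000
set_option linter.unusedSectionVars false

namespace Cfsg.Agent.Spor.M22U.Width

open Matrix Cfsg.Agent.Small.Unitary Cfsg.Agent.Spor.SpFour
open Cfsg.Agent.Spor.M22U.Invol (V6)
open Cfsg.Agent.Spor.M22U.Pts (gv)
open Cfsg.Agent.Spor.M22U.Norm (Coord coord_of)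

/-- the dot product as a bilinear form -/
noncomputable def dotB : LinearMap.BilinForm F4 V6 :=
  LinearMap.mk₂ F4 (fun u v => u ⬝ᵥ v) add_dotProduct smul_dotProduct dotProduct_add dotProduct_smul

theorem dotB_refl : dotB.IsRefl := fun u v h => by
  change u ⬝ᵥ v = 0 at h
  show v ⬝ᵥ u = 0
  rw [dotProduct_comm]; exact h

theorem dotB_nondeg : dotB.Nondegenerate := by
  refine dotB_refl.nondegenerate_iff_separatingLeft.mpr fun u hu => funext fun i => ?_
  have := hu (Pi.single i 1)
  change u ⬝ᵥ Pi.single i 1 = 0 at this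
  simpa using this

theorem span_small (W : Submodule F4 V6) (h : ∀ u ∈ W, ∀ v ∈ W, herm u v = 0) : Nat.card W ≤ 64 := by
  classical
  set B := LinearMap.BilinForm.orthogonal dotB W
  let f : W → B := fun u => ⟨star (u : V6), fun v hv => by
    show v ⬝ᵥ star (u : V6) = 0
    rw [dotProduct_comm]; exact h u u.2 v hv⟩
  have hf : Function.Injective f := fun u v e => Subtype.ext (star_injective (congrArg Subtype.val e :))
  have h1 : Nat.card W ≤ Nat.card B := Nat.card_le_card_of_injective f hf
  have hd : Module.finrank F4 B = Module.finrank F4 V6 - Module.finrank F4 W :=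
    LinearMap.BilinForm.finrank_orthogonal dotB_nondeg W
  have h4 : Nat.card F4 = 4 := by rw [Nat.card_eq_fintype_card, F4.card]
  rw [Module.natCard_eq_pow_finrank (K := F4), Module.natCard_eq_pow_finrank (K := F4) (V := B), h4, hd,
    Module.finrank_fin_fun] at h1
  have h2 := (pow_le_pow_iff_right₀ (show 1 < 4 by norm_num)).mp h1
  rw [Module.natCard_eq_pow_finrank (K := F4), h4]
  calc 4 ^ Module.finrank F4 W ≤ 4 ^ 3 := Nat.pow_le_pow_right (by norm_num) (by omega)
    _ = 64 := by norm_num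

theorem clique_le {S : Finset ℕ} (hS : ∀ i ∈ S, i < 693)
    (hpair : ∀ i ∈ S, ∀ j ∈ S, herm (gv i) (gv j) = 0) : S.card ≤ 21 := by
  classical
  set W := Submodule.span F4 (gv '' (S : Set ℕ))
  have hW : ∀ u ∈ W, ∀ v ∈ W, herm u v = 0 := by
    intro u hu v hv
    induction hv using Submodule.span_induction with
    | mem v hv =>
      obtain ⟨j, hj, rfl⟩ := hv
      induction hu using Submodule.span_induction with
      | mem u hu => obtain ⟨i, hi, rfl⟩ := hu; exact hpair i hi j hj
      | zero => exact herm_zero_left _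
      | add a b _ _ ha hb => rw [herm_add_left, ha, hb, add_zero]
      | smul c a _ ha => rw [herm_smul_left, ha, mul_zero]
    | zero => exact herm_zero_right _
    | add a b _ _ ha hb => rw [herm_add_right, ha, hb, add_zero]
    | smul c a _ ha => rw [herm_smul_right, ha, mul_zero]
  let f : Option (↥S × {c : F4 // c ≠ 0}) → W := fun o =>
    o.elim 0 fun p => ⟨p.2.1 • gv p.1.1, W.smul_mem _ (Submodule.subset_span ⟨p.1.1, p.1.2, rfl⟩)⟩
  have hne : ∀ p : ↥S × {c : F4 // c ≠ 0}, p.2.1 • gv p.1.1 ≠ 0 := fun p h => by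
    rcases smul_eq_zero.mp h with h | h
    · exact p.2.2 h
    · exact (Pts.gv_spec (hS _ p.1.2)).1 h
  have hf : Function.Injective f := by
    rintro (_ | p) (_ | q) h
    · rfl
    · exact absurd (congrArg Subtype.val h).symm (hne q)
    · exact absurd (congrArg Subtype.val h) (hne p)
    · have h' : p.2.1 • gv p.1.1 = q.2.1 • gv q.1.1 := congrArg Subtype.val h
      have e := congrArg (fun v => SUSix.idx (SUSix.code v)) h'
      simp only [SUSix.idx_smul _ p.2.2, SUSix.idx_smul _ q.2.2] at e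
      have ei : (p.1 : ℕ) = q.1 :=
        (SUSix.pt_spec (hS _ p.1.2)).1.symm.trans (e.trans (SUSix.pt_spec (hS _ q.1.2)).1)
      rw [ei] at h'
      have ec : p.2.1 = q.2.1 := smul_left_injective F4 (Pts.gv_spec (hS _ q.1.2)).1 h'
      exact congrArg some (Prod.ext (Subtype.ext ei) (Subtype.ext ec))
  have h1 : Nat.card (Option (↥S × {c : F4 // c ≠ 0})) ≤ 64 :=
    (Nat.card_le_card_of_injective f hf).trans (span_small W hW)
  have h3 : Nat.card {c : F4 // c ≠ 0} = 3 := by
    rw [Nat.card_eq_fintype_card]; decide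
  rw [Finite.card_option, Nat.card_prod, h3, Nat.card_eq_finsetCard] at h1
  omega

/-- twenty-one pairwise orthogonal points -/
def plane : List ℕ := [0, 10, 13, 18, 105, 107, 109, 127, 132, 139, 146, 242, 398, 422, 441, 664, 665, 668, 673, 679, 680]

theorem plane_lt : ∀ i ∈ plane, i < 693 := by decide +kernel

theorem plane_nodup : plane.Nodup ∧ plane.length = 21 := by decide +kernel

theorem plane_orth : ∀ i ∈ plane, ∀ j ∈ plane, herm (gv i) (gv j) = 0 := by decide +kernel

universe u
variable {G : Type u} [Group G] [Finite G] {D : Set G}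

theorem width_eq (hD : Cfsg.IsThreeTranspositionGroup D) (hprim : Cfsg.IsPrimitiveUnderConj D)
    (ht : Cfsg.IsOfTypeM22 G D) : Cfsg.commutingWidth D = 22 := by
  classical
  obtain ⟨-, d, hd, c, hc, hnc, hH, -⟩ := ht
  obtain ⟨C⟩ := coord_of hD hprim hd hc hnc hH
  refine IsGreatest.csSup_eq ⟨?_, ?_⟩
  · let pts : Set G := (fun i : Fin 693 => (C.e.symm i : G)) '' {i | (i : ℕ) ∈ plane}
    have hinj : Function.Injective fun i : Fin 693 => (C.e.symm i : G) :=
      fun i j h => C.e.symm.injective (Subtype.ext h)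
    have hpts : pts.ncard = 21 := by
      rw [Set.ncard_image_of_injective _ hinj, ← plane_nodup.2, ← List.toFinset_card_of_nodup plane_nodup.1,
        ← Set.ncard_image_of_injective _ Fin.val_injective, ← Set.ncard_coe_finset]
      congr 1
      ext k
      simp only [Set.mem_image, Set.mem_setOf_eq, List.coe_toFinset]
      exact ⟨fun ⟨i, hi, e⟩ => e ▸ hi, fun hk => ⟨⟨k, plane_lt k hk⟩, hk, rfl⟩⟩
    have hdn : d ∉ pts := by
      rintro ⟨i, -, e⟩; exact (C.e.symm i).2.2.1 e
    refine ⟨insert d pts, ?_, Set.toFinite _, ?_, by rw [Set.ncard_insert_of_notMem hdn, hpts]⟩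
    · rintro y (rfl | ⟨i, -, rfl⟩)
      · exact hd
      · exact (C.e.symm i).2.1
    · rintro x (rfl | ⟨i, hi, rfl⟩) y (rfl | ⟨j, hj, rfl⟩)
      · exact Commute.refl _
      · exact (C.e.symm j).2.2.2
      · exact (C.e.symm i).2.2.2.symm
      · rw [C.comm, Equiv.apply_symm_apply, Equiv.apply_symm_apply]; exact plane_orth _ hi _ hj
  · rintro n ⟨E, hE, -, hpw, rfl⟩
    rcases E.eq_empty_or_nonempty with rfl | ⟨x, hx⟩
    · simp
    obtain ⟨g, hg⟩ := hprim.1 x (hE hx) d hd
    set φ := (MulAut.conj g : G ≃* G)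
    set E' := φ '' E
    have hdE : d ∈ E' := ⟨x, hx, hg⟩
    have hE' : ∀ y ∈ E', y ∈ D ∧ ∀ z ∈ E', Commute y z := by
      rintro _ ⟨y, hy, rfl⟩
      refine ⟨hD.2.1 g y (hE hy), ?_⟩
      rintro _ ⟨z, hz, rfl⟩
      exact (hpw y hy z hz).map φ
    rw [← Set.ncard_image_of_injective E φ.injective, ← Set.ncard_diff_singleton_add_one hdE]
    have hmem : ∀ y ∈ E' \ {d}, y ∈ nset D d := fun y hy =>
      ⟨(hE' y hy.1).1, hy.2, ((hE' y hy.1).2 d hdE).symm⟩
    let φ' : G → ℕ := fun y => if h : y ∈ nset D d then (C.e ⟨y, h⟩ : ℕ) else 0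
    have hφ : ∀ y (h : y ∈ nset D d), φ' y = C.e ⟨y, h⟩ := fun y h => dif_pos h
    set F := (Set.toFinite (E' \ {d})).toFinset
    have hF : ∀ {y}, y ∈ F → y ∈ E' \ {d} := fun hy => (Set.Finite.mem_toFinset _).mp hy
    have hcard : (F.image φ').card = (E' \ {d}).ncard := by
      rw [Finset.card_image_of_injOn, ← Set.ncard_eq_toFinset_card _ (Set.toFinite _)]
      intro y hy z hz h
      rw [hφ y (hmem y (hF hy)), hφ z (hmem z (hF hz))] at h
      exact congrArg Subtype.val (C.e.injective (Fin.ext h))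
    have := clique_le (S := F.image φ') (fun i hi => by
      obtain ⟨y, hy, rfl⟩ := Finset.mem_image.mp hi
      rw [hφ y (hmem y (hF hy))]; exact (C.e _).2) (fun i hi j hj => by
      obtain ⟨y, hy, rfl⟩ := Finset.mem_image.mp hi
      obtain ⟨z, hz, rfl⟩ := Finset.mem_image.mp hj
      rw [hφ y (hmem y (hF hy)), hφ z (hmem z (hF hz)), ← C.comm]
      exact (hE' y (hF hy).1).2 z (hF hz).1)
    omega

end Cfsg.Agent.Spor.M22U.Width
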