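import Cfsg.Agent.Lib.Spor.M23RelIso
import Cfsg.Agent.Lib.Spor.M22UWidth

/-!
Order, width and centralizers of members in a group of type M(23).
-/

set_option autoImplicit false
set_option maxRecDepth 100000
set_option linter.unusedSectionVars false

namespace Cfsg.Agent.Spor.M23Rel.Facts

open Cfsg.Agent.Spor.M22U (nset)

variable {G : Type*} [Group G] [Finite G] {D : Set G}

/-- a perfect group from a nonsplit double cover of a non-abelian simple group -/
theorem cover_quasisimple {C K : Type*} [Group C] [Finite C] [Group K] (hs : IsSimpleGroup K)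
    (hnp : ¬ (Nat.card K).Prime) (h : Cfsg.IsNonsplitDoubleCover C K) : Cfsg.IsQuasisimple C := by
  obtain ⟨hz2, ⟨φ⟩, hns⟩ := h
  have hsq : IsSimpleGroup (C ⧸ Subgroup.center C) := φ.isSimpleGroup_congr.mpr hs
  refine ⟨⟨?_⟩, hsq⟩
  haveI := hsq
  rcases Subgroup.Normal.eq_bot_or_eq_top
      (H := (commutator C).map (QuotientGroup.mk' (Subgroup.center C)))
      ((inferInstance : (commutator C).Normal).map _ (QuotientGroup.mk'_surjective _)) with h | h
  · exfalso
    have hle : commutator C ≤ Subgroup.center C := by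
      intro u hu
      have : QuotientGroup.mk' (Subgroup.center C) u ∈ (⊥ : Subgroup _) := h ▸ Subgroup.mem_map_of_mem _ hu
      exact (QuotientGroup.eq_one_iff u).mp (Subgroup.mem_bot.mp this)
    letI : CommGroup (C ⧸ Subgroup.center C) :=
      { (inferInstance : Group (C ⧸ Subgroup.center C)) with
        mul_comm := fun a b => by
          obtain ⟨a, rfl⟩ := QuotientGroup.mk'_surjective _ a
          obtain ⟨b, rfl⟩ := QuotientGroup.mk'_surjective _ b
          rw [← commutatorElement_eq_one_iff_mul_comm, ← map_commutatorElement]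
          exact (QuotientGroup.eq_one_iff _).mpr
            (hle (Subgroup.commutator_mem_commutator (Subgroup.mem_top a) (Subgroup.mem_top b))) }
    have hp : (Nat.card (C ⧸ Subgroup.center C)).Prime := IsSimpleGroup.prime_card
    rw [Nat.card_congr φ.toEquiv] at hp
    exact hnp hp
  · by_contra hne
    have hsup : Subgroup.center C ⊔ commutator C = ⊤ := by
      rw [eq_top_iff]
      intro u _
      obtain ⟨v, hv, e⟩ := Subgroup.mem_map.mp (h ▸ Subgroup.mem_top (QuotientGroup.mk' (Subgroup.center C) u))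
      have hvu : v⁻¹ * u ∈ Subgroup.center C := by
        rw [← QuotientGroup.eq_one_iff]
        show QuotientGroup.mk' (Subgroup.center C) (v⁻¹ * u) = 1
        rw [map_mul, map_inv, e, inv_mul_cancel]
      have : u = v * (v⁻¹ * u) := by group
      rw [this]
      exact mul_mem (Subgroup.mem_sup_right hv) (Subgroup.mem_sup_left hvu)
    refine hns (commutator C) (Subgroup.isComplement'_of_disjoint_and_mul_eq_univ ?_ ?_)
    · rw [Subgroup.disjoint_def]
      intro u hu hu'
      by_contra hu1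
      apply hne
      have hlez : Subgroup.center C ≤ commutator C := by
        intro w hw
        rcases eq_or_ne w 1 with rfl | hw1
        · exact one_mem _
        · suffices w = u from this ▸ hu'
          obtain ⟨a, b, -, hu2⟩ := Nat.card_eq_two_iff.mp hz2
          have h1 : ∀ t : Subgroup.center C, t = a ∨ t = b := fun t => by
            have := Set.mem_univ t; rw [← hu2] at this; simpa using this
          rcases h1 1 with e1 | e1 <;> rcases h1 ⟨w, hw⟩ with e2 | e2 <;> rcases h1 ⟨u, hu⟩ with e3 | e3 <;>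
            first
            | exact absurd (congrArg Subtype.val (e2.trans e1.symm)) hw1
            | exact absurd (congrArg Subtype.val (e3.trans e1.symm)) hu1
            | exact congrArg Subtype.val (e2.trans e3.symm)
      exact (sup_eq_right.mpr hlez).symm.trans hsup
    · rw [← Subgroup.mul_normal, hsup]; rfl

theorem card_G (hD : Cfsg.IsThreeTranspositionGroup D) (hprim : Cfsg.IsPrimitiveUnderConj D)
    (ht : Cfsg.IsOfTypeM23 G D) : Nat.card G = 4089470473293004800 := by
  obtain ⟨e, -⟩ := Iso.iso_fi23 hD hprim ht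
  rw [← Nat.card_congr e.toEquiv, Fi23Cert.order.2.1]

theorem simple_G (hD : Cfsg.IsThreeTranspositionGroup D) (hprim : Cfsg.IsPrimitiveUnderConj D)
    (ht : Cfsg.IsOfTypeM23 G D) : IsSimpleGroup G := by
  obtain ⟨e, -⟩ := Iso.iso_fi23 hD hprim ht
  exact e.isSimpleGroup_congr.mp Fi23Cert.simple

theorem ncard_D (hD : Cfsg.IsThreeTranspositionGroup D) (hprim : Cfsg.IsPrimitiveUnderConj D)
    (ht : Cfsg.IsOfTypeM23 G D) : D.ncard = 31671 := by
  obtain ⟨e, he⟩ := Iso.iso_fi23 hD hprim ht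
  rw [← he, Set.ncard_image_of_injective _ e.injective, ← Nat.card_coe_set_eq,
    Fi23Cert.Below.card_class]

theorem closure_cent (hD : Cfsg.IsThreeTranspositionGroup D) (hprim : Cfsg.IsPrimitiveUnderConj D)
    (ht : Cfsg.IsOfTypeM23 G D) {x : G} (hx : x ∈ D) :
    Subgroup.closure (nset D x) = Subgroup.centralizer ({x} : Set G) := by
  obtain ⟨d, S⟩ := Fix.exists_setting hD hprim ht
  refine le_antisymm ((Subgroup.closure_le _).2 fun y hy =>
    Subgroup.mem_centralizer_singleton_iff.mpr hy.2.2.symm.eq) fun y hy => ?_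
  rw [Subgroup.mem_centralizer_singleton_iff] at hy
  obtain ⟨g, hg⟩ := hprim.1 d S.mem x hx
  have h1 : Commute (g⁻¹ * y * g) d := by
    rw [← Spor.commute_conj_iff (g := g), show g * (g⁻¹ * y * g) * g⁻¹ = y by group, hg]
    exact hy
  have h2 := Cent.cent_le S h1
  have hle : Subgroup.closure (nset D d) ≤ (Subgroup.closure (nset D x)).comap (MulAut.conj g).toMonoidHom := by
    rw [Subgroup.closure_le]
    intro z hz
    refine Subgroup.subset_closure ⟨hD.2.1 g z hz.1, fun e => hz.2.1 ?_, ?_⟩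
    · exact mul_left_cancel (mul_right_cancel ((show g * z * g⁻¹ = x from e).trans hg.symm))
    · rw [← hg]; exact Spor.commute_conj_iff.mpr hz.2.2
  have h3 : g * (g⁻¹ * y * g) * g⁻¹ ∈ Subgroup.closure (nset D x) := hle h2
  rwa [show g * (g⁻¹ * y * g) * g⁻¹ = y by group] at h3

theorem cover_at (hD : Cfsg.IsThreeTranspositionGroup D) (hprim : Cfsg.IsPrimitiveUnderConj D)
    (ht : Cfsg.IsOfTypeM23 G D) {x : G} (hx : x ∈ D) :
    Cfsg.IsNonsplitDoubleCover ↥(Subgroup.centralizer ({x} : Set G)) Cfsg.Spor.Fi22 := by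
  obtain ⟨e, he⟩ := Iso.iso_fi23 hD hprim ht
  obtain ⟨u, hu, rfl⟩ : x ∈ e '' conjugatesOf Fi23Cert.Below.tA := he.symm ▸ hx
  have hmap : (Subgroup.centralizer ({u} : Set Fi23Cert.pres.Grp)).map e.toMonoidHom =
      Subgroup.centralizer ({e u} : Set G) := by
    ext y
    simp only [Subgroup.mem_map, Subgroup.mem_centralizer_singleton_iff, MulEquiv.coe_toMonoidHom]
    constructor
    · rintro ⟨z, hz, rfl⟩; rw [← map_mul, ← map_mul, hz]
    · intro hy
      exact ⟨e.symm y, e.injective (by rw [map_mul, map_mul, e.apply_symm_apply, hy]), e.apply_symm_apply y⟩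
  exact Fi22Cert.U62Act.ndc_congr ((Subgroup.equivMapOfInjective _ _ e.injective).trans
    (MulEquiv.subgroupCongr hmap)) (Fi23Cert.Below.centralizer_cover u hu)

theorem quasisimple_cent (hD : Cfsg.IsThreeTranspositionGroup D) (hprim : Cfsg.IsPrimitiveUnderConj D)
    (ht : Cfsg.IsOfTypeM23 G D) {x : G} (hx : x ∈ D) :
    Cfsg.IsQuasisimple ↥(Subgroup.centralizer ({x} : Set G)) :=
  cover_quasisimple Fi22Cert.simple (by
    show ¬ (Nat.card Fi22Cert.pres.Grp).Prime
    rw [Fi22Cert.order.2.1]; norm_num) (cover_at hD hprim ht hx)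

theorem center_cent (hD : Cfsg.IsThreeTranspositionGroup D) (hprim : Cfsg.IsPrimitiveUnderConj D)
    (ht : Cfsg.IsOfTypeM23 G D) {x : G} (hx : x ∈ D) :
    Subgroup.center ↥(Subgroup.centralizer ({x} : Set G)) =
      (Subgroup.zpowers x).subgroupOf (Subgroup.centralizer ({x} : Set G)) := by
  set C := Subgroup.centralizer ({x} : Set G)
  have hxC : x ∈ C := Subgroup.mem_centralizer_singleton_iff.mpr rfl
  have hle : Subgroup.zpowers x ≤ C := Subgroup.zpowers_le.mpr hxC
  have h1 : (Subgroup.zpowers x).subgroupOf C ≤ Subgroup.center C := by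
    rintro ⟨y, hy⟩ hy'
    obtain ⟨n, rfl⟩ := Subgroup.mem_zpowers_iff.mp (Subgroup.mem_subgroupOf.mp hy')
    rw [Subgroup.mem_center_iff]
    exact fun v => Subtype.ext
      (Commute.zpow_right (Subgroup.mem_centralizer_singleton_iff.mp v.2) n)
  refine (Subgroup.eq_of_le_of_card_ge h1 ?_).symm
  rw [(cover_at hD hprim ht hx).1, Nat.card_congr (Subgroup.subgroupOfEquivOfLe hle).toEquiv,
    Nat.card_zpowers, hD.1.1 x hx]

theorem width_eq (hD : Cfsg.IsThreeTranspositionGroup D) (hprim : Cfsg.IsPrimitiveUnderConj D)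
    (ht : Cfsg.IsOfTypeM23 G D) : Cfsg.commutingWidth D = 23 := by
  classical
  obtain ⟨d, S⟩ := Fix.exists_setting hD hprim ht
  have hE := S.pre
  have hw := M22U.Width.width_eq S.group S.next_prim S.next
  set N := {n : ℕ | ∃ E : Set (↥(Subgroup.closure (nset D d)) ⧸ Subgroup.center ↥(Subgroup.closure (nset D d))),
    E ⊆ nextSet D d ∧ E.Finite ∧ (∀ a ∈ E, ∀ b ∈ E, Commute a b) ∧ E.ncard = n} with hN
  have hbd : BddAbove N := ⟨Nat.card _, fun n ⟨E, _, _, _, hn⟩ => hn ▸ Set.ncard_le_card _⟩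
  refine IsGreatest.csSup_eq ⟨?_, ?_⟩
  · have hmem : 22 ∈ N := by
      rw [← hw]; exact Nat.sSup_mem ⟨0, ∅, Set.empty_subset _, Set.finite_empty, by simp, Set.ncard_empty _⟩ hbd
    obtain ⟨E, hE1, -, hE3, hE4⟩ := hmem
    set F : Set G := {y | ∃ hy : y ∈ nset D d, S.img y hy ∈ E}
    have hF : F.ncard = 22 := by
      rw [← hE4]
      refine Set.ncard_congr (fun y hy => S.img y hy.choose) (fun y hy => hy.choose_spec) ?_ ?_
      · intro a b ha hb e; exact S.img_inj ha.choose hb.choose e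
      · intro z hz
        obtain ⟨x, hx, rfl⟩ := hE1 hz
        exact ⟨(x : G), ⟨hx, hz⟩, rfl⟩
    have hdF : d ∉ F := fun ⟨h, _⟩ => h.2.1 rfl
    refine ⟨insert d F, ?_, Set.toFinite _, ?_, by rw [Set.ncard_insert_of_notMem hdF, hF]⟩
    · rintro y (rfl | ⟨hy, -⟩)
      · exact S.mem
      · exact hy.1
    · rintro a (rfl | ⟨ha, ha'⟩) b (rfl | ⟨hb, hb'⟩)
      · exact Commute.refl _
      · exact hb.2.2
      · exact ha.2.2.symm
      · exact commute_lift hE d ha hb (hE3 _ ha' _ hb')
  · rintro n ⟨E, hE1, hEf, hE3, rfl⟩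
    by_contra hgt
    push Not at hgt
    obtain ⟨a, ha⟩ := Set.nonempty_of_ncard_ne_zero (s := E) (by omega)
    obtain ⟨g, hg⟩ := hprim.1 a (hE1 ha) d S.mem
    set E' := (fun y => g * y * g⁻¹) '' E
    have hE'c : E'.ncard = E.ncard :=
      Set.ncard_image_of_injective _ fun p q e => mul_left_cancel (mul_right_cancel e)
    have hd' : d ∈ E' := ⟨a, ha, hg⟩
    have hE'1 : ∀ y ∈ E', y ≠ d → y ∈ nset D d := by
      rintro _ ⟨y, hy, rfl⟩ hne
      refine ⟨hD.2.1 g y (hE1 hy), hne, ?_⟩
      rw [← hg]; exact Spor.commute_conj_iff.mpr (hE3 a ha y hy)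
    set T : Set (↥(Subgroup.closure (nset D d)) ⧸ Subgroup.center ↥(Subgroup.closure (nset D d))) :=
      {q | ∃ y, ∃ hy : y ∈ nset D d, y ∈ E' ∧ S.img y hy = q}
    have hcard : (E' \ {d}).ncard = T.ncard := by
      refine Set.ncard_congr (fun y hy => S.img y (hE'1 y hy.1 hy.2)) ?_ ?_ ?_
      · exact fun y hy => ⟨y, hE'1 y hy.1 hy.2, hy.1, rfl⟩
      · intro p q hp hq e; exact S.img_inj _ _ e
      · rintro _ ⟨y, hy, hyE, rfl⟩
        exact ⟨y, ⟨hyE, hy.2.1⟩, rfl⟩
    have hT : T.ncard ∈ N := by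
      refine ⟨T, ?_, Set.toFinite _, ?_, rfl⟩
      · rintro _ ⟨y, hy, -, rfl⟩; exact ⟨⟨y, Subgroup.subset_closure hy⟩, hy, rfl⟩
      · rintro _ ⟨p, hp, ⟨p', hp', rfl⟩, rfl⟩ _ ⟨q, hq, ⟨q', hq', rfl⟩, rfl⟩
        refine Commute.map (?_ : Commute (⟨_, Subgroup.subset_closure hp⟩ : ↥(Subgroup.closure (nset D d)))
          ⟨_, Subgroup.subset_closure hq⟩) (QuotientGroup.mk' _)
        exact Subtype.ext (Spor.commute_conj_iff.mpr (hE3 p' hp' q' hq')).eq
    have h22 : T.ncard ≤ 22 := hw ▸ le_csSup hbd hT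
    have := Set.ncard_sdiff_singleton_add_one hd' (Set.toFinite _)
    omega

end Cfsg.Agent.Spor.M23Rel.Facts
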