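import Cfsg.Agent.Lib.Spor.M23RelShift
import Cfsg.Agent.Lib.Spor.M23RelFacts
import Cfsg.Agent.Lib.Spor.M22UTransit

/-!
The centralizer of two commuting members, and of their product, in a group of type M(23).
-/

set_option autoImplicit false
set_option maxRecDepth 100000
set_option linter.unusedSectionVars false

namespace Cfsg.Agent.Spor.M23Rel.PairCent

open Cfsg.Agent.Spor.M22U (nset)
open Cfsg.Agent.Spor.M22U.InvClasses (T)
open Cfsg.Agent.Spor.Fi22Cert (pres)

variable {G : Type*} [Group G] [Finite G] {D : Set G} {d : G}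

theorem closure_eq (S : Fix.Setting D d) : Subgroup.closure (nset D d) = Subgroup.centralizer ({d} : Set G) :=
  (Cent.centralizer_eq S).symm

/-- seven commuting members, the first six with product the given member -/
theorem seven_members (S : Fix.Setting D d) : ∃ (l : List G) (z : G), z ∈ nset D d ∧ z ∉ l ∧ l.length = 6 ∧
    (∀ a ∈ l, a ∈ nset D d) ∧ (∀ a ∈ l, Commute z a) ∧ l.prod = d := by
  obtain ⟨e, he⟩ := Cent.exists_coord S
  have hT : ∀ i, T i ∈ M22U.Fischer.Dc := fun i => (M22U.Fischer.mem _).2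
  choose L hL hLe using fun i : ℕ => Cent.exists_lift S e he (hT i)
  have hc7 : M22U.TupChecks.commOK [0, 1, 2, 3, 4, 5, 6] = true := by decide +kernel
  obtain ⟨-, -, hd7, -⟩ := M22U.TupChecks.lists_ok
  have hne : ∀ i ∈ [0, 1, 2, 3, 4, 5, 6], ∀ j ∈ [0, 1, 2, 3, 4, 5, 6], (L i : G) = L j → i = j :=
    fun i hi j hj h => List.inj_on_of_nodup_map (M22U.InvClasses.T_ne hd7) hi hj (e.injective (by
      rw [← hLe i, ← hLe j, show L i = L j from Subtype.ext h]))
  have hcom : ∀ i ∈ [0, 1, 2, 3, 4, 5, 6], ∀ j ∈ [0, 1, 2, 3, 4, 5, 6], Commute (L i : G) (L j) := by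
    intro i hi j hj
    refine commute_lift S.pre d (hL i) (hL j) ?_
    show Commute (QuotientGroup.mk (L i) : (↥(Subgroup.closure (nset D d)) ⧸ Subgroup.center ↥(Subgroup.closure (nset D d)))) (QuotientGroup.mk (L j))
    rw [hLe, hLe]
    exact (M22U.InvClasses.T_comm hc7 hi hj).map e.toMonoidHom
  have hsub : ∀ i ∈ ([0, 1, 2, 3, 4, 5] : List ℕ), i ∈ [0, 1, 2, 3, 4, 5, 6] := by decide
  set l := [0, 1, 2, 3, 4, 5].map fun i => (L i : G) with hl
  refine ⟨l, L 6, hL 6, fun hm => ?_, rfl, fun a ha => ?_, fun a ha => ?_, ?_⟩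
  · obtain ⟨i, hi, h⟩ := List.mem_map.mp hm
    have := hne i (hsub i hi) 6 (by decide) h
    subst this
    simp at hi
  · obtain ⟨i, -, rfl⟩ := List.mem_map.mp ha; exact hL i
  · obtain ⟨i, hi, rfl⟩ := List.mem_map.mp ha; exact hcom 6 (by decide) i (hsub i hi)
  have hone : ([0, 1, 2, 3, 4, 5].map T).prod = 1 := by
    have hrel := M22U.InvClasses.rel (u := [0, 1, 2]) (v := [3, 4, 5]) (by simp)
    simp only [List.map_cons, List.map_nil, List.prod_cons, List.prod_nil, mul_one] at hrel ⊢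
    have hsq : ∀ i, T i * T i = 1 := fun i => mul_self_of_order_two (M22U.Fischer.three.1.1 _ (hT i))
    have c : ∀ i j, i < 6 → j < 6 → Commute (T i) (T j) := fun i j hi hj =>
      M22U.InvClasses.T_comm hc7 (i := i) (j := j) (by simp; omega) (by simp; omega)
    calc T 0 * (T 1 * (T 2 * (T 3 * (T 4 * T 5)))) = T 0 * (T 1 * T 2) * (T 3 * (T 4 * T 5)) := by
          simp only [mul_assoc]
      _ = T 0 * (T 1 * T 2) * (T 0 * (T 1 * T 2)) := by rw [hrel]
      _ = 1 := by
          rw [((c 1 0 (by norm_num) (by norm_num)).mul_left (c 2 0 (by norm_num) (by norm_num))).mul_mul_mul_comm,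
            hsq, one_mul, (c 2 1 (by norm_num) (by norm_num)).mul_mul_mul_comm, hsq, hsq, one_mul]
  have hmk : (QuotientGroup.mk ([0, 1, 2, 3, 4, 5].map L).prod : (↥(Subgroup.closure (nset D d)) ⧸ Subgroup.center ↥(Subgroup.closure (nset D d)))) = 1 := by
    have := map_list_prod (QuotientGroup.mk' (Subgroup.center ↥(Subgroup.closure (nset D d)))) ([0, 1, 2, 3, 4, 5].map L)
    rw [QuotientGroup.mk'_apply, List.map_map] at this
    rw [this, show ((QuotientGroup.mk' (Subgroup.center ↥(Subgroup.closure (nset D d)))) ∘ L) = e ∘ T from funext hLe, ← List.map_map,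
      ← map_list_prod e, hone, map_one]
  have hval : ((([0, 1, 2, 3, 4, 5].map L).prod : ↥(Subgroup.closure (nset D d))) : G) = l.prod := by
    simp [hl, mul_assoc]
  rcases S.central_cases hmk with h | h
  · exfalso
    have hnd : l.Nodup := List.Nodup.map_on (fun i hi j hj h => hne i (hsub i hi) j (hsub j hj) h) (by decide)
    refine S.relSix l hnd rfl (fun a ha => ?_) (fun a ha b hb => ?_) (hval ▸ h)
    · obtain ⟨i, -, rfl⟩ := List.mem_map.mp ha; exact ⟨(hL i).1, S.ne_one _ (hL i).1⟩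
    · obtain ⟨i, hi, rfl⟩ := List.mem_map.mp ha
      obtain ⟨j, hj, rfl⟩ := List.mem_map.mp hb
      exact hcom i (hsub i hi) j (hsub j hj)
  · exact hval ▸ h

theorem img_eq_conj (S : Fix.Setting D d) {u a : G} (hu : u ∈ Subgroup.closure (nset D d)) (ha : a ∈ nset D d) :
    (QuotientGroup.mk ⟨u, hu⟩ : (↥(Subgroup.closure (nset D d)) ⧸ Subgroup.center ↥(Subgroup.closure (nset D d)))) * S.img a ha * (QuotientGroup.mk ⟨u, hu⟩)⁻¹ =
      S.img (u * a * u⁻¹) (nset_conj S.pre (commute_of_mem hu) ha) := rfl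

theorem img_mem (S : Fix.Setting D d) {a : G} (ha : a ∈ nset D d) : S.img a ha ∈ nextSet D d :=
  ⟨⟨a, Subgroup.subset_closure ha⟩, ha, rfl⟩

theorem img_ne (S : Fix.Setting D d) {a b : G} (ha : a ∈ nset D d) (hb : b ∈ nset D d) (h : a ≠ b) :
    S.img a ha ≠ S.img b hb := fun e => h (S.img_inj ha hb e)

theorem img_comm (S : Fix.Setting D d) {a b : G} (ha : a ∈ nset D d) (hb : b ∈ nset D d) (h : Commute a b) :
    Commute (S.img a ha) (S.img b hb) :=
  Commute.map (show Commute (⟨a, Subgroup.subset_closure ha⟩ : ↥(Subgroup.closure (nset D d))) ⟨b, Subgroup.subset_closure hb⟩ from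
    Subtype.ext h.eq) (QuotientGroup.mk' _)

/-- transitivity on the members commuting with the member -/
theorem conj_member (S : Fix.Setting D d) {a b : G} (ha : a ∈ nset D d) (hb : b ∈ nset D d) :
    ∃ g : G, Commute g d ∧ g * a * g⁻¹ = b := by
  obtain ⟨q, hq⟩ := S.next_prim.1 _ (img_mem S ha) _ (img_mem S hb)
  obtain ⟨⟨g, hg⟩, rfl⟩ := QuotientGroup.mk_surjective q
  exact ⟨g, commute_of_mem hg, S.img_inj _ hb ((img_eq_conj S hg ha).symm.trans hq)⟩

/-- transitivity on the members commuting with two members -/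
theorem conj_pair (S : Fix.Setting D d) {y a b : G} (hy : y ∈ nset D d) (ha : a ∈ nset D d ∩ nset D y)
    (hb : b ∈ nset D d ∩ nset D y) : ∃ g : G, Commute g d ∧ Commute g y ∧ g * a * g⁻¹ = b := by
  obtain ⟨q, hq1, hq2⟩ := M22U.Transit.conj2 S.group S.next_prim S.next (img_mem S hy) (img_mem S ha.1)
    (img_ne S hy ha.1 (Ne.symm ha.2.2.1)) (img_comm S hy ha.1 ha.2.2.2) (img_mem S hy) (img_mem S hb.1)
    (img_ne S hy hb.1 (Ne.symm hb.2.2.1)) (img_comm S hy hb.1 hb.2.2.2)
  obtain ⟨⟨g, hg⟩, rfl⟩ := QuotientGroup.mk_surjective q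
  have h1 := S.img_inj _ hy ((img_eq_conj S hg hy).symm.trans hq1)
  exact ⟨g, commute_of_mem hg, mul_inv_eq_iff_eq_mul.mp h1,
    S.img_inj _ hb.1 ((img_eq_conj S hg ha.1).symm.trans hq2)⟩

/-- six members commuting with two given members whose product is the first of these -/
theorem six_in_pair (S : Fix.Setting D d) {y : G} (hy : y ∈ nset D d) :
    ∃ l : List G, l.length = 6 ∧ (∀ a ∈ l, a ∈ nset D d ∩ nset D y) ∧ l.prod = d := by
  obtain ⟨l, z, hz, hzl, hlen, hm, hc, hp⟩ := seven_members S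
  obtain ⟨g, hgd, hgz⟩ := conj_member S hz hy
  refine ⟨l.map (MulAut.conj g), by rw [List.length_map, hlen], ?_, ?_⟩
  · intro a ha
    obtain ⟨b, hb, rfl⟩ := List.mem_map.mp ha
    refine ⟨nset_conj S.pre hgd (hm b hb), S.hD.2.1 g b (hm b hb).1, fun e => hzl ?_, ?_⟩
    · have : g * b * g⁻¹ = g * z * g⁻¹ := e.trans hgz.symm
      rwa [mul_left_cancel (mul_right_cancel this)] at hb
    · show Commute y (g * b * g⁻¹)
      rw [← hgz]
      exact Spor.commute_conj_iff.mpr (hc b hb)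
  · rw [← map_list_prod, hp]
    show g * d * g⁻¹ = d
    exact mul_inv_eq_iff_eq_mul.mpr hgd.eq

/-- the centralizer of two members -/
abbrev Kp (d y : G) : Subgroup G := Subgroup.centralizer ({d, y} : Set G)

theorem mem_Kp {d y x : G} : x ∈ Kp d y ↔ Commute x d ∧ Commute x y := by
  rw [Subgroup.mem_centralizer_iff]
  simp only [Set.mem_insert_iff, Set.mem_singleton_iff, forall_eq_or_imp, forall_eq]
  exact ⟨fun h => ⟨h.1.symm, h.2.symm⟩, fun h => ⟨h.1.symm, h.2.symm⟩⟩

variable (S : Fix.Setting D d) {y : G} (hy : y ∈ nset D d)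

include S in
theorem Kp_le : Kp d y ≤ Subgroup.closure (nset D d) := fun x hx => Cent.cent_le S (mem_Kp.mp hx).1

/-- the projection to the next level -/
noncomputable def proj :
    ↥(Kp d y) →* ↥(Subgroup.centralizer ({S.img y hy} : Set (↥(Subgroup.closure (nset D d)) ⧸ Subgroup.center ↥(Subgroup.closure (nset D d))))) :=
  ((QuotientGroup.mk' (Subgroup.center ↥(Subgroup.closure (nset D d)))).comp (Subgroup.inclusion (Kp_le S))).codRestrict _ fun x => by
    rw [Subgroup.mem_centralizer_singleton_iff]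
    exact ((show Commute (Subgroup.inclusion (Kp_le S) x) (⟨y, Subgroup.subset_closure hy⟩ : ↥(Subgroup.closure (nset D d))) from
      Subtype.ext (mem_Kp.mp x.2).2.eq).map (QuotientGroup.mk' _)).eq

theorem proj_val (x : ↥(Kp d y)) :
    (proj S hy x : (↥(Subgroup.closure (nset D d)) ⧸ Subgroup.center ↥(Subgroup.closure (nset D d)))) = QuotientGroup.mk ⟨(x : G), Kp_le S x.2⟩ := rfl

theorem proj_surjective : Function.Surjective (proj S hy) := by
  rintro ⟨q, hq⟩
  obtain ⟨⟨g, hg⟩, rfl⟩ := QuotientGroup.mk_surjective q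
  rw [Subgroup.mem_centralizer_singleton_iff] at hq
  have h1 := S.img_inj (nset_conj S.pre (commute_of_mem hg) hy) hy
    ((img_eq_conj S hg hy).symm.trans (mul_inv_eq_iff_eq_mul.mpr hq))
  exact ⟨⟨g, mem_Kp.mpr ⟨commute_of_mem hg, mul_inv_eq_iff_eq_mul.mp h1⟩⟩, Subtype.ext rfl⟩

include hy in
theorem d_mem : d ∈ Kp d y := mem_Kp.mpr ⟨Commute.refl d, hy.2.2⟩

theorem proj_ker {x : ↥(Kp d y)} (h : proj S hy x = 1) : (x : G) = 1 ∨ (x : G) = d :=
  S.central_cases (congrArg Subtype.val h)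

theorem proj_d : proj S hy ⟨d, d_mem hy⟩ = 1 := by
  refine Subtype.ext ((mk_eq_one_iff d).mpr fun e he => ?_)
  exact he.2.2

include S hy in
theorem d_commutator : (⟨d, d_mem hy⟩ : ↥(Kp d y)) ∈ commutator ↥(Kp d y) := by
  set C := commutator ↥(Kp d y) with hC
  set dd : ↥(Kp d y) := ⟨d, d_mem hy⟩ with hdd
  by_contra hd'
  haveI hperf := M22U.Facts.quasisimple_cent S.group S.next_prim S.next (img_mem S hy)
  have hmap : C.map (proj S hy) = ⊤ := by
    rw [hC, commutator_def, Subgroup.map_commutator, Subgroup.map_top_of_surjective _ (proj_surjective S hy),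
      ← commutator_def]
    exact hperf.1.commutator_eq_top
  have hd2 : dd * dd = 1 := Subtype.ext (mul_self_of_order_two (S.hD.1.1 d S.mem))
  have hcases : ∀ x : ↥(Kp d y), x ∈ C ∨ x * dd ∈ C := by
    intro x
    obtain ⟨c, hc, hcx⟩ := Subgroup.mem_map.mp (hmap ▸ Subgroup.mem_top (proj S hy x))
    have h1 : proj S hy (c⁻¹ * x) = 1 := by rw [map_mul, map_inv, hcx, inv_mul_cancel]
    rcases proj_ker S hy h1 with h | h
    · left
      have : c⁻¹ * x = 1 := Subtype.ext h
      rwa [inv_mul_eq_one.mp this] at hc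
    · right
      have : c⁻¹ * x = dd := Subtype.ext h
      have hx : x = c * dd := by rw [← this]; group
      rw [hx, mul_assoc, hd2, mul_one]; exact hc
  have hmul : ∀ x z : ↥(Kp d y), x ∉ C → z ∉ C → x * z ∈ C := by
    intro x z hx hz
    have hxz : x * dd * (z * dd) ∈ C := mul_mem ((hcases x).resolve_left hx) ((hcases z).resolve_left hz)
    have hcz : dd * z = z * dd := Subtype.ext (mem_Kp.mp z.2).1.symm.eq
    rwa [show x * dd * (z * dd) = x * (dd * z) * dd by group, hcz, mul_assoc x, mul_assoc z, hd2, mul_one] at hxz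
  obtain ⟨l, hlen, hm, hp⟩ := six_in_pair S hy
  have hmK : ∀ a ∈ l, a ∈ Kp d y := fun a ha => mem_Kp.mpr ⟨(hm a ha).1.2.2.symm, (hm a ha).2.2.2.symm⟩
  obtain ⟨a0, ha0⟩ := List.exists_mem_of_length_pos (l := l) (by omega)
  have hsame : ∀ a, ∀ ha : a ∈ l, ((⟨a, hmK a ha⟩ : ↥(Kp d y)) ∈ C ↔ (⟨a0, hmK a0 ha0⟩ : ↥(Kp d y)) ∈ C) := by
    intro a ha
    obtain ⟨g, hgd, hgy, hg⟩ := conj_pair S hy (hm a0 ha0) (hm a ha)
    have hn : C.Normal := by rw [hC]; infer_instance
    have e : (⟨g, mem_Kp.mpr ⟨hgd, hgy⟩⟩ : ↥(Kp d y)) * ⟨a0, hmK a0 ha0⟩ * (⟨g, mem_Kp.mpr ⟨hgd, hgy⟩⟩)⁻¹ =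
        ⟨a, hmK a ha⟩ := Subtype.ext hg
    constructor
    · intro h
      have := hn.conj_mem _ h (⟨g, mem_Kp.mpr ⟨hgd, hgy⟩⟩)⁻¹
      rw [← e] at this
      convert this using 1
      group
    · intro h; rw [← e]; exact hn.conj_mem _ h _
  obtain ⟨a, b, c, a', b', c', rfl⟩ : ∃ a b c a' b' c', l = [a, b, c, a', b', c'] := by
    rcases l with _ | ⟨a, _ | ⟨b, _ | ⟨c, _ | ⟨a', _ | ⟨b', _ | ⟨c', _ | ⟨z, l⟩⟩⟩⟩⟩⟩⟩ <;>
      simp only [List.length_cons, List.length_nil] at hlen <;> try omega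
    exact ⟨a, b, c, a', b', c', rfl⟩
  apply hd'
  have key : ∀ p q : G, ∀ hp : p ∈ [a, b, c, a', b', c'], ∀ hq : q ∈ [a, b, c, a', b', c'],
      (⟨p, hmK p hp⟩ : ↥(Kp d y)) * ⟨q, hmK q hq⟩ ∈ C := by
    intro p q hp hq
    by_cases h : (⟨p, hmK p hp⟩ : ↥(Kp d y)) ∈ C
    · exact mul_mem h ((hsame q hq).mpr ((hsame p hp).mp h))
    · exact hmul _ _ h fun hq' => h ((hsame p hp).mpr ((hsame q hq).mp hq'))
  have e : dd = (⟨a, hmK a (by simp)⟩ : ↥(Kp d y)) * ⟨b, hmK b (by simp)⟩ *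
      (⟨c, hmK c (by simp)⟩ * ⟨a', hmK a' (by simp)⟩) * (⟨b', hmK b' (by simp)⟩ * ⟨c', hmK c' (by simp)⟩) := by
    apply Subtype.ext
    show d = a * b * (c * a') * (b' * c')
    rw [← hp]
    simp [mul_assoc]
  rw [e]
  exact mul_mem (mul_mem (key a b (by simp) (by simp)) (key c a' (by simp) (by simp)))
    (key b' c' (by simp) (by simp))

include S hy in
theorem perfect : Group.IsPerfect ↥(Kp d y) := by
  refine ⟨?_⟩
  have hperf := M22U.Facts.quasisimple_cent S.group S.next_prim S.next (img_mem S hy)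
  have hmap : (commutator ↥(Kp d y)).map (proj S hy) = ⊤ := by
    rw [commutator_def, Subgroup.map_commutator, Subgroup.map_top_of_surjective _ (proj_surjective S hy),
      ← commutator_def]
    exact hperf.1.commutator_eq_top
  rw [eq_top_iff]
  intro x _
  obtain ⟨c, hc, hcx⟩ := Subgroup.mem_map.mp (hmap ▸ Subgroup.mem_top (proj S hy x))
  have h1 : proj S hy (c⁻¹ * x) = 1 := by rw [map_mul, map_inv, hcx, inv_mul_cancel]
  have hx : x = c * (c⁻¹ * x) := by group
  rw [hx]
  refine mul_mem hc ?_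
  rcases proj_ker S hy h1 with h | h
  · rw [show c⁻¹ * x = 1 from Subtype.ext h]; exact one_mem _
  · rw [show c⁻¹ * x = ⟨d, d_mem hy⟩ from Subtype.ext h]; exact d_commutator S hy

/-- the subgroup generated by the two members -/
abbrev Vp (d y : G) : Subgroup G := Subgroup.closure ({d, y} : Set G)

include S hy in
theorem center_map : (Subgroup.center ↥(Kp d y)).map (Kp d y).subtype = Vp d y := by
  refine le_antisymm ?_ ?_
  · rintro _ ⟨z, hz, rfl⟩
    have hz' : proj S hy z ∈ Subgroup.center ↥(Subgroup.centralizer ({S.img y hy} : Set (↥(Subgroup.closure (nset D d)) ⧸ Subgroup.center ↥(Subgroup.closure (nset D d))))) := by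
      rw [Subgroup.mem_center_iff]
      intro v
      obtain ⟨v, rfl⟩ := proj_surjective S hy v
      rw [← map_mul, ← map_mul, Subgroup.mem_center_iff.mp hz v]
    rw [M22U.Facts.center_cent S.group S.next_prim S.next (img_mem S hy)] at hz'
    obtain ⟨n, hn⟩ := Subgroup.mem_zpowers_iff.mp (Subgroup.mem_subgroupOf.mp hz')
    have hyK : y ∈ Kp d y := mem_Kp.mpr ⟨hy.2.2.symm, Commute.refl y⟩
    have h1 : proj S hy (z * (⟨y, hyK⟩ ^ n)⁻¹) = 1 := by
      rw [map_mul, map_inv, map_zpow]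
      apply Subtype.ext
      simp only [Subgroup.coe_mul, Subgroup.coe_inv, SubgroupClass.coe_zpow, Subgroup.coe_one, mul_inv_eq_one]
      exact hn.symm
    have hyV : (y ^ n : G) ∈ Vp d y := zpow_mem (Subgroup.subset_closure (by simp)) n
    have hv : ((z * (⟨y, hyK⟩ ^ n)⁻¹ : ↥(Kp d y)) : G) ∈ Vp d y := by
      rcases proj_ker S hy h1 with h | h <;> rw [h]
      · exact one_mem _
      · exact Subgroup.subset_closure (by simp)
    have := mul_mem hv hyV
    simpa using this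
  · rw [Subgroup.closure_le]
    intro v hv
    have hvK : v ∈ Kp d y := by
      rcases hv with rfl | rfl
      · exact d_mem hy
      · exact mem_Kp.mpr ⟨hy.2.2.symm, Commute.refl _⟩
    refine ⟨⟨v, hvK⟩, Subgroup.mem_center_iff.mpr fun u => Subtype.ext ?_, rfl⟩
    rcases hv with rfl | rfl
    · exact (mem_Kp.mp u.2).1.eq
    · exact (mem_Kp.mp u.2).2.eq

/-- the quotient by the centre -/
noncomputable def quotEquiv :
    (↥(Kp d y) ⧸ Subgroup.center ↥(Kp d y)) ≃*
      (↥(Subgroup.centralizer ({S.img y hy} : Set (↥(Subgroup.closure (nset D d)) ⧸ Subgroup.center ↥(Subgroup.closure (nset D d))))) ⧸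
        Subgroup.center ↥(Subgroup.centralizer ({S.img y hy} : Set (↥(Subgroup.closure (nset D d)) ⧸ Subgroup.center ↥(Subgroup.closure (nset D d)))))) :=
  let f := (QuotientGroup.mk' (Subgroup.center ↥(Subgroup.centralizer ({S.img y hy} : Set (↥(Subgroup.closure (nset D d)) ⧸ Subgroup.center ↥(Subgroup.closure (nset D d))))))).comp (proj S hy)
  have hker : Subgroup.center ↥(Kp d y) = f.ker := by
    ext z
    constructor
    · intro hz
      refine (QuotientGroup.eq_one_iff _).mpr (Subgroup.mem_center_iff.mpr fun v => ?_)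
      obtain ⟨v, rfl⟩ := proj_surjective S hy v
      rw [← map_mul, ← map_mul, Subgroup.mem_center_iff.mp hz v]
    · intro hz
      have hz' : proj S hy z ∈ Subgroup.center _ := (QuotientGroup.eq_one_iff _).mp hz
      rw [M22U.Facts.center_cent S.group S.next_prim S.next (img_mem S hy)] at hz'
      obtain ⟨n, hn⟩ := Subgroup.mem_zpowers_iff.mp (Subgroup.mem_subgroupOf.mp hz')
      have hyK : y ∈ Kp d y := mem_Kp.mpr ⟨hy.2.2.symm, Commute.refl y⟩
      have hyc : (⟨y, hyK⟩ : ↥(Kp d y)) ∈ Subgroup.center ↥(Kp d y) :=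
        Subgroup.mem_center_iff.mpr fun u => Subtype.ext (mem_Kp.mp u.2).2.eq
      have hdc : (⟨d, d_mem hy⟩ : ↥(Kp d y)) ∈ Subgroup.center ↥(Kp d y) :=
        Subgroup.mem_center_iff.mpr fun u => Subtype.ext (mem_Kp.mp u.2).1.eq
      have h1 : proj S hy (z * (⟨y, hyK⟩ ^ n)⁻¹) = 1 := by
        rw [map_mul, map_inv, map_zpow]
        apply Subtype.ext
        simp only [Subgroup.coe_mul, Subgroup.coe_inv, SubgroupClass.coe_zpow, Subgroup.coe_one, mul_inv_eq_one]
        exact hn.symm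
      have e : z = z * (⟨y, hyK⟩ ^ n)⁻¹ * ⟨y, hyK⟩ ^ n := by group
      rw [e]
      refine mul_mem ?_ (zpow_mem hyc n)
      rcases proj_ker S hy h1 with h | h
      · rw [show (z * (⟨y, hyK⟩ ^ n)⁻¹) = 1 from Subtype.ext h]; exact one_mem _
      · rw [show (z * (⟨y, hyK⟩ ^ n)⁻¹) = ⟨d, d_mem hy⟩ from Subtype.ext h]; exact hdc
  (QuotientGroup.quotientMulEquivOfEq hker).trans
    (QuotientGroup.quotientKerEquivOfSurjective f
      ((QuotientGroup.mk'_surjective _).comp (proj_surjective S hy)))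

include S hy in
theorem quasisimple : Cfsg.IsQuasisimple ↥(Kp d y) :=
  ⟨perfect S hy, (quotEquiv S hy).isSimpleGroup_congr.mpr
    (M22U.Facts.quasisimple_cent S.group S.next_prim S.next (img_mem S hy)).2⟩

include S hy in
theorem psu : ∃ (F : Type) (_ : Field F) (_ : Fintype F), Fintype.card F = 4 ∧
    Nonempty (↥(Kp d y) ⧸ Subgroup.center ↥(Kp d y) ≃* Cfsg.PSU 6 F 2) := by
  obtain ⟨-, -, ⟨φ⟩, -⟩ := M22U.Facts.cover_at S.group S.next_prim S.next (img_mem S hy)
  exact ⟨SpFour.F4, inferInstance, inferInstance, SpFour.F4.card, ⟨(quotEquiv S hy).trans φ⟩⟩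

end Cfsg.Agent.Spor.M23Rel.PairCent
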