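import Cfsg.Agent.Lib.Spor.M22UFacts
import Cfsg.Agent.S0111

/-!
Every involution of a group of type M(22) commutes with a member of the class, and the class is the
only generating class of 3-transpositions.
-/

set_option autoImplicit false
set_option maxRecDepth 100000
set_option linter.unusedSectionVars false

namespace Cfsg.Agent.Spor.M22U.Classes

open Cfsg.Agent.Spor.CC Cfsg.Agent.Spor.Fi22Cert Cfsg.Agent.Spor.Fi22Cert.U62Act

universe u
variable {G : Type u} [Group G] [Finite G] {D : Set G}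

theorem exists_commute (hD : Cfsg.IsThreeTranspositionGroup D) (hprim : Cfsg.IsPrimitiveUnderConj D)
    (ht : Cfsg.IsOfTypeM22 G D) {u : G} (hu : orderOf u = 2) : ∃ x ∈ D, Commute x u := by
  haveI : Fact (Nat.Prime 2) := ⟨Nat.prime_two⟩
  obtain ⟨d, hd⟩ : D.Nonempty := by obtain ⟨a, ha, -⟩ := hprim.2.1; exact ⟨a, ha⟩
  haveI hs := Facts.simple_G hD hprim ht
  have hcard := Facts.card_G hD hprim ht
  set C := Subgroup.centralizer ({d} : Set G)
  have hC : Nat.card C = 18393661440 := (Facts.cover_at hD hprim ht hd).1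
  obtain ⟨Q⟩ : Nonempty (Sylow 2 C) := inferInstance
  set Q' := (Q : Subgroup C).map C.subtype
  have hQ : Nat.card Q' = 2 ^ 16 := by
    rw [← Nat.card_congr (Subgroup.equivMapOfInjective _ _ C.subtype_injective).toEquiv, Sylow.card_eq_multiplicity,
      hC, show (18393661440 : ℕ) = 2 ^ 16 * 280665 by norm_num, Nat.factorization_mul (by norm_num) (by norm_num),
      Finsupp.add_apply, Nat.Prime.factorization_pow Nat.prime_two, Finsupp.single_eq_same,
      Nat.factorization_eq_zero_of_not_dvd (by norm_num)]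
  obtain ⟨P, hP⟩ := (IsPGroup.of_card hQ).exists_le_sylow
  have hPc : Nat.card (P : Subgroup G) = 2 ^ 17 := by
    rw [Sylow.card_eq_multiplicity, hcard,
      show (2 ^ 17 * 3 ^ 9 * 5 ^ 2 * 7 * 11 * 13 : ℕ) = 2 ^ 17 * 492567075 by norm_num,
      Nat.factorization_mul (by norm_num) (by norm_num),
      Finsupp.add_apply, Nat.Prime.factorization_pow Nat.prime_two, Finsupp.single_eq_same,
      Nat.factorization_eq_zero_of_not_dvd (by norm_num)]
  have hrel : Q'.relIndex (P : Subgroup G) = 2 := by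
    have h := Subgroup.card_mul_index (Q'.subgroupOf (P : Subgroup G))
    rw [Nat.card_congr (Subgroup.subgroupOfEquivOfLe hP).toEquiv, hQ, hPc,
      show (2 : ℕ) ^ 17 = 2 ^ 16 * 2 by norm_num] at h
    exact Nat.eq_of_mul_eq_mul_left (by norm_num) h
  have hin : ∀ g : G, g * u * g⁻¹ ∈ Q' → ∃ x ∈ D, Commute x u := by
    intro g hg
    refine ⟨g⁻¹ * d * g, (Spor.conj_mem_iff hD.2.1 g).1 hd, ?_⟩
    have h' : g * u * g⁻¹ ∈ C := Subgroup.map_subtype_le _ hg
    rw [← Spor.commute_conj_iff (g := g)]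
    have e : g * (g⁻¹ * d * g) * g⁻¹ = d := by group
    rw [e]
    exact (Subgroup.mem_centralizer_singleton_iff.mp h').symm
  obtain ⟨T, hT⟩ := (IsPGroup.of_card (G := Subgroup.zpowers u) (n := 1)
    (by rw [Nat.card_zpowers, hu, pow_one]) : IsPGroup 2 (Subgroup.zpowers u)).exists_le_sylow
  obtain ⟨g, hg⟩ := MulAction.exists_smul_eq G T P
  have hmem : g * u * g⁻¹ ∈ (P : Subgroup G) := by
    rw [← hg, Sylow.coe_subgroup_smul, Subgroup.mem_pointwise_smul_iff_inv_smul_mem]
    have : (MulAut.conj g)⁻¹ • (g * u * g⁻¹) = u := by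
      simp [MulAut.smul_def]; group
    rw [this]
    exact hT (Subgroup.mem_zpowers u)
  by_cases hq : g * u * g⁻¹ ∈ Q'
  · exact hin g hq
  · rcases Cfsg.Agent.S0111.result P Q' hP hrel _ ((orderOf_injective (MulAut.conj g).toMonoidHom (MulAut.conj g).injective u).trans hu :
      orderOf (g * u * g⁻¹) = 2) hmem hq with ⟨M, hM, hi, hn⟩ | ⟨h, hh⟩
    · exfalso
      rcases hs.eq_bot_or_eq_top_of_normal M hM with e | e
      · rw [e, Subgroup.index_bot, hcard] at hi
        exact absurd hi (by norm_num)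
      · rw [e, Subgroup.index_top] at hi
        omega
    · refine hin (h * g) ?_
      have e : h * g * u * (h * g)⁻¹ = h * (g * u * g⁻¹) * h⁻¹ := by group
      rw [e]; exact hh

/-- a product of two commuting members -/
def pairW : List ℕ := 0 :: Fischer.tw' (Fischer.gwords.getD 0 [])

/-- the product with a conjugate -/
def witW : List ℕ := pairW ++ [2, 1] ++ pairW ++ [1, 2]

theorem wit_ok : (∀ x ∈ pairW, x < 9) ∧ (∀ x ∈ witW, x < 9) ∧
    ev RepU62.rows 9 (witW ++ witW) 0 ≠ 0 ∧ ev RepU62.rows 9 (witW ++ witW ++ witW) 0 ≠ 0 := by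
  decide +kernel

theorem gpt_move {x : ℕ} (hx : x < 693) (F : Frame D) :
    ∃ h : G, Commute F.a h ∧ h * F.pt (gpt 0) * h⁻¹ = F.pt x := by
  obtain ⟨w, hw', e⟩ := Pts.from_first hx
  exact ⟨F.hw w, F.hw_comm_a hw', by rw [F.hw_conj hw' (gpt_lt (by norm_num)), e]⟩

theorem pair_bad (hD : Cfsg.IsThreeTranspositionGroup D) (hprim : Cfsg.IsPrimitiveUnderConj D)
    (ht : Cfsg.IsOfTypeM22 G D) {x y : G} (hx : x ∈ D) (hy : y ∈ D) (hne : y ≠ x) (hc : Commute x y) :
    ∃ g : G, ((x * y) * (g * (x * y) * g⁻¹)) ^ 2 ≠ 1 ∧ ((x * y) * (g * (x * y) * g⁻¹)) ^ 3 ≠ 1 := by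
  obtain ⟨e, hex, heD⟩ := Facts.exists_iso_at hD hprim ht hx
  haveI := order.1
  have hmemD : e.symm y ∈ Fischer.Dc := by
    rw [← heD] at hy
    obtain ⟨v, hv, rfl⟩ := hy
    rw [e.symm_apply_apply]; exact hv
  set F := Fischer.frame
  have hFa : F.a = tA := Fischer.mem_nil
  have hne' : e.symm y ≠ F.a := fun h => hne (by
    have := congrArg e h
    rw [e.apply_symm_apply, hFa, hex] at this; exact this)
  have hc' : Commute F.a (e.symm y) := by
    rw [hFa]
    show tA * e.symm y = e.symm y * tA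
    apply e.injective
    rw [map_mul, map_mul, e.apply_symm_apply, hex]; exact hc.eq
  obtain ⟨k, hk, hky⟩ := F.pt_surj hmemD hne' hc'
  obtain ⟨h, hha, hh⟩ := gpt_move hk F
  -- the concrete pair
  have hg0 : F.pt (gpt 0) = (Fischer.mem (Fischer.gwords.getD 0 []) : pres.Grp) := by
    have lg := Fischer.gword_lt (show 0 < 8 by norm_num)
    obtain ⟨hm1, hm2, hm3⟩ := F.pt_mem (gpt_lt (show 0 < 8 by norm_num))
    have e2 : (⟨F.pt (gpt 0), hm1⟩ : Fischer.Dc) = Fischer.mem (Fischer.gwords.getD 0 []) := by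
      apply Fischer.theta_inj
      have h1 := Fischer.piFun_spec ⟨F.pt (gpt 0), hm1, hm2, hm3⟩
      rw [← h1]
      refine Fin.ext ?_
      rw [Fischer.theta_mem lg, Fischer.words_ok.2.2.1 0 (by norm_num)]
      have h2 : Fischer.piFun ⟨F.pt (gpt 0), hm1, hm2, hm3⟩ = ⟨gpt 0, gpt_lt (by norm_num)⟩ := by
        have h3 : (⟨F.pt (gpt 0), hm1, hm2, hm3⟩ : Fischer.Na) = F.pi.symm ⟨gpt 0, gpt_lt (by norm_num)⟩ :=
          Subtype.ext (by show F.pt (gpt 0) = _; rw [Frame.pt, dif_pos (gpt_lt (show 0 < 8 by norm_num))])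
        rw [h3]
        exact F.pi.apply_symm_apply _
      rw [h2]
      rfl
    exact congrArg Subtype.val e2
  set w : pres.Grp := (pairW.map pres.gen).prod
  have hpair : tA * F.pt (gpt 0) = w := by
    rw [hg0]
    show tA * (_ * tA * _) = _
    rw [prod_rev]
    simp only [w, pairW, Fischer.tw', List.map_cons, List.prod_cons, List.map_append, List.prod_append, mul_assoc]
  have hbad : (w * ((([2, 1] : List ℕ).map pres.gen).prod * w * ((([2, 1] : List ℕ).map pres.gen).prod)⁻¹)) ^ 2 ≠ 1 ∧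
      (w * ((([2, 1] : List ℕ).map pres.gen).prod * w * ((([2, 1] : List ℕ).map pres.gen).prod)⁻¹)) ^ 3 ≠ 1 := by
    have hW : w * ((([2, 1] : List ℕ).map pres.gen).prod * w * ((([2, 1] : List ℕ).map pres.gen).prod)⁻¹) =
        (witW.map pres.gen).prod := by
      rw [prod_rev]
      simp only [w, witW, List.map_append, List.prod_append, mul_assoc, List.reverse_cons, List.reverse_nil,
        List.nil_append, List.singleton_append]
    have key : ∀ l : List ℕ, (∀ z ∈ l, z < 9) → ev RepU62.rows 9 l 0 ≠ 0 → (l.map pres.gen).prod ≠ 1 := by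
      intro l hl hne1 h
      apply hne1
      have := Fischer.hom_val hl rep.z
      rw [h, map_one] at this
      exact this.symm
    obtain ⟨-, h2, h3, h4⟩ := wit_ok
    rw [hW, pow_two, pow_three', ← List.prod_append, ← List.map_append, ← List.prod_append, ← List.map_append]
    refine ⟨key _ (fun z hz => ?_) h3, key _ (fun z hz => ?_) h4⟩
    · rcases List.mem_append.mp hz with hz | hz <;> exact h2 z hz
    · rcases List.mem_append.mp hz with hz | hz
      · rcases List.mem_append.mp hz with hz | hz <;> exact h2 z hz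
      · exact h2 z hz
  set g := (([2, 1] : List ℕ).map pres.gen).prod
  refine ⟨e (h * g * h⁻¹), ?_⟩
  have hxy : x * y = e (h * w * h⁻¹) := by
    apply e.symm.injective
    rw [map_mul, e.symm_apply_apply, ← hky, ← hh, ← hpair, show e.symm x = tA from by rw [← hex, e.symm_apply_apply]]
    have h1 : h * tA * h⁻¹ = tA := by
      rw [← hFa]; exact mul_inv_eq_iff_eq_mul.mpr hha.symm.eq
    conv_lhs => rw [← h1]
    group
  have hprod : (x * y) * (e (h * g * h⁻¹) * (x * y) * (e (h * g * h⁻¹))⁻¹) = e (h * (w * (g * w * g⁻¹)) * h⁻¹) := by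
    rw [hxy, ← map_inv, ← map_mul, ← map_mul, ← map_mul]
    congr 1
    group
  have hp : ∀ n : ℕ, (e (h * (w * (g * w * g⁻¹)) * h⁻¹)) ^ n = 1 → (w * (g * w * g⁻¹)) ^ n = 1 := by
    intro n hn
    rw [← map_pow, MulEquiv.map_eq_one_iff, conj_pow, conj_eq_one_iff] at hn
    exact hn
  rw [hprod]
  exact ⟨fun hn => hbad.1 (hp 2 hn), fun hn => hbad.2 (hp 3 hn)⟩

theorem class_unique (hD : Cfsg.IsThreeTranspositionGroup D) (hprim : Cfsg.IsPrimitiveUnderConj D)
    (ht : Cfsg.IsOfTypeM22 G D) {D' : Set G} (hD' : Cfsg.IsThreeTranspositionClass D') : D' = D := by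
  obtain ⟨⟨hord, hpair⟩, ⟨e, he, hcls⟩, -⟩ := hD'
  have hself : ∀ g : G, g * e * g⁻¹ ∈ D' := fun g => by
    rw [hcls]; exact isConj_iff.mpr ⟨g, rfl⟩
  obtain ⟨x, hx, hxe⟩ := exists_commute hD hprim ht (hord e he)
  have heD : e ∈ D → D' = D := by
    intro h
    rw [hcls]
    ext z
    constructor
    · intro hz
      obtain ⟨c, rfl⟩ := isConj_iff.mp hz
      exact hD.2.1 c e h
    · intro hz
      exact isConj_iff.mpr (hprim.1 e h z hz)
  apply heD
  obtain ⟨hcard, hz2, ⟨φ⟩, -⟩ := Facts.cover_at hD hprim ht hx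
  set C := Subgroup.centralizer ({x} : Set G)
  have hcen := Facts.center_cent hD hprim ht hx
  let ψ : C →* Cfsg.PSU 6 SpFour.F4 2 := φ.toMonoidHom.comp (QuotientGroup.mk' (Subgroup.center C))
  have hψs : Function.Surjective ψ := φ.surjective.comp (QuotientGroup.mk'_surjective _)
  have hψk : ∀ v : C, ψ v = 1 → (v : G) ∈ Subgroup.zpowers x := fun v hv => by
    have h1 : φ (QuotientGroup.mk' (Subgroup.center C) v) = φ 1 := by rw [map_one]; exact hv
    have h2 := (QuotientGroup.eq_one_iff v).mp (φ.injective h1)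
    rw [hcen, Subgroup.mem_subgroupOf] at h2
    exact h2
  have hx2 : x * x = 1 := Spor.mul_self_of_order_two (hD.1.1 x hx)
  have hzx : ∀ z : G, z ∈ Subgroup.zpowers x → z = 1 ∨ z = x := by
    intro z hz
    obtain ⟨n, rfl⟩ := Subgroup.mem_zpowers_iff.mp hz
    rcases Int.even_or_odd' n with ⟨m, rfl | rfl⟩
    · left; rw [zpow_mul, zpow_two, hx2, _root_.one_zpow]
    · right; rw [zpow_add, zpow_mul, zpow_two, hx2, _root_.one_zpow, one_mul, zpow_one]
  set e' : C := ⟨e, Subgroup.mem_centralizer_singleton_iff.mpr hxe.symm.eq⟩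
  have he2 : e * e = 1 := Spor.mul_self_of_order_two (hord e he)
  by_cases h1 : ψ e' = 1
  · rcases hzx e (hψk e' h1) with h | h
    · exfalso
      have := hord e he
      rw [h, orderOf_one] at this
      omega
    · rw [h]; exact hx
  rcases Invol.dichotomy (x := ψ e') (by rw [← map_mul, show e' * e' = 1 from Subtype.ext he2, map_one]) h1 with
    ⟨v, hv0, hv, hve⟩ | ⟨q, n2, n3⟩
  · -- modulo the centre a member
    obtain ⟨hl, hptr⟩ := Pts.exists_ptr hv0 hv
    obtain ⟨F⟩ := Norm.exists_frame hD hprim ht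
    have hclo := Facts.closure_cent hD hprim ht hx
    have hmem : ∀ y (hy : y ∈ D ∧ y ≠ x ∧ Commute x y), y ∈ C := fun y hy =>
      Subgroup.mem_centralizer_singleton_iff.mpr hy.2.2.symm.eq
    -- the images of the members are transvections, and all of them occur
    have himg : ∀ k < 693, ∃ y, ∃ hy : y ∈ D ∧ y ≠ x ∧ Commute x y, ψ ⟨y, hmem y hy⟩ = Pts.ptr k := by
      obtain ⟨y0, hy0, hy0e⟩ : ∃ y0, ∃ hy : y0 ∈ D ∧ y0 ≠ x ∧ Commute x y0,
          ∃ j, j < 693 ∧ ψ ⟨y0, hmem y0 hy⟩ = Pts.ptr j := by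
        obtain ⟨y0, hy0⟩ : {y : G | y ∈ D ∧ y ≠ x ∧ Commute x y}.Nonempty := by
          rw [Set.nonempty_iff_ne_empty]
          intro h0
          rw [h0, Subgroup.closure_empty] at hclo
          have hx0 : x ∈ C := Subgroup.mem_centralizer_singleton_iff.mpr rfl
          rw [show C = ⊥ from hclo.symm, Subgroup.mem_bot] at hx0
          have := hD.1.1 x hx
          rw [hx0, orderOf_one] at this
          omega
        refine ⟨y0, hy0, ?_⟩
        have hne1 : ψ ⟨y0, hmem y0 hy0⟩ ≠ 1 := fun h => by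
          rcases hzx y0 (hψk _ h) with h | h
          · have := hD.1.1 y0 hy0.1; rw [h, orderOf_one] at this; omega
          · exact hy0.2.1 h
        rcases Invol.dichotomy (x := ψ ⟨y0, hmem y0 hy0⟩) (by
          rw [← map_mul, show (⟨y0, hmem y0 hy0⟩ : C) * ⟨y0, hmem y0 hy0⟩ = 1 from
            Subtype.ext (Spor.mul_self_of_order_two (hD.1.1 _ hy0.1)), map_one]) hne1 with ⟨a, ha0, ha, hae⟩ | ⟨q, n2, n3⟩
        · obtain ⟨hl', hp'⟩ := Pts.exists_ptr ha0 ha
          exact ⟨_, hl', hae.trans hp'⟩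
        · exfalso
          obtain ⟨g, rfl⟩ := hψs q
          rw [← map_inv, ← map_mul, ← map_mul, ← map_mul, ← map_pow] at n2 n3
          rcases hD.1.2 y0 hy0.1 _ (hD.2.1 g y0 hy0.1) with h | h
          · exact n2 ((congrArg ψ (Subtype.ext h)).trans (map_one ψ))
          · exact n3 ((congrArg ψ (Subtype.ext h)).trans (map_one ψ))
      obtain ⟨j, hj, hje⟩ := hy0e
      intro k hk
      obtain ⟨w1, hw1, hj1⟩ := Pts.from_first hj
      obtain ⟨w2, hw2, hk2⟩ := Pts.from_first hk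
      have hu := below_append hw2 (below_rev hw1)
      obtain ⟨g, hg⟩ := hψs (Pts.pw (w2 ++ w1.reverse))
      have hgx : (g : G) * x * (g : G)⁻¹ = x :=
        mul_inv_eq_iff_eq_mul.mpr (Subgroup.mem_centralizer_singleton_iff.mp g.2)
      have hy : (g : G) * y0 * (g : G)⁻¹ ∈ D ∧ (g : G) * y0 * (g : G)⁻¹ ≠ x ∧ Commute x ((g : G) * y0 * (g : G)⁻¹) := by
        refine ⟨hD.2.1 _ _ hy0.1, fun h => hy0.2.1 (mul_left_cancel (mul_right_cancel (h.trans hgx.symm))), ?_⟩
        have h' : Commute ((g : G) * x * (g : G)⁻¹) ((g : G) * y0 * (g : G)⁻¹) := Spor.commute_conj_iff.mpr hy0.2.2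
        rwa [hgx] at h'
      refine ⟨_, hy, ?_⟩
      rw [show (⟨_, hmem _ hy⟩ : C) = g * ⟨y0, hmem y0 hy0⟩ * g⁻¹ from Subtype.ext rfl, map_mul, map_mul, map_inv,
        hg, hje, Pts.pw_conj hu hj, pev_append, ← hj1, pev_rev hw1 (gpt_lt (by norm_num)), hk2]
    obtain ⟨y, hy, hye⟩ := himg _ hl
    have hq : ψ (⟨y, hmem y hy⟩⁻¹ * e') = 1 := by
      rw [map_mul, map_inv, hye, hve, hptr, inv_mul_cancel]
    have hyy : y * y = 1 := Spor.mul_self_of_order_two (hD.1.1 _ hy.1)
    rcases hzx _ (hψk _ hq) with h | h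
    · rw [show (((⟨y, hmem y hy⟩ : C)⁻¹ * e' : C) : G) = y⁻¹ * e from rfl, inv_mul_eq_one] at h
      rw [← h]; exact hy.1
    · exfalso
      rw [show (((⟨y, hmem y hy⟩ : C)⁻¹ * e' : C) : G) = y⁻¹ * e from rfl] at h
      have hexy : e = x * y := by rw [hy.2.2.eq, ← h]; group
      obtain ⟨g, n2, n3⟩ := pair_bad hD hprim ht hx hy.1 hy.2.1 hy.2.2
      rw [← hexy] at n2 n3
      rcases hpair e he _ (hself g) with h | h
      · exact n2 h
      · exact n3 h
  · exfalso
    obtain ⟨g, rfl⟩ := hψs q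
    rw [← map_inv, ← map_mul, ← map_mul, ← map_mul, ← map_pow] at n2 n3
    rcases hpair e he _ (hself g) with h | h
    · exact n2 ((congrArg ψ (Subtype.ext h)).trans (map_one ψ))
    · exact n3 ((congrArg ψ (Subtype.ext h)).trans (map_one ψ))

end Cfsg.Agent.Spor.M22U.Classes
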