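import Cfsg.Agent.Lib.Spor.M22UNorm

/-!
Order and centralizers of the members in a group of type M(22).
-/

set_option autoImplicit false
set_option maxRecDepth 100000
set_option linter.unusedSectionVars false

namespace Cfsg.Agent.Spor.M22U.Facts

open Cfsg.Agent.Spor.CC Cfsg.Agent.Spor.Fi22Cert Cfsg.Agent.Spor.Fi22Cert.U62Act

universe u
variable {G : Type u} [Group G] [Finite G] {D : Set G}

theorem exists_iso_at (hD : Cfsg.IsThreeTranspositionGroup D) (hprim : Cfsg.IsPrimitiveUnderConj D)
    (ht : Cfsg.IsOfTypeM22 G D) {x : G} (hx : x ∈ D) :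
    ∃ e : pres.Grp ≃* G, e tA = x ∧ e '' Fischer.Dc = D := by
  obtain ⟨e, he⟩ := Norm.iso_fi22 hD hprim ht
  have h0 : e tA ∈ D := by rw [← he]; exact ⟨tA, mem_conjugatesOf_self, rfl⟩
  obtain ⟨g, hg⟩ := hprim.1 _ h0 x hx
  refine ⟨e.trans (MulAut.conj g), hg, ?_⟩
  ext y
  constructor
  · rintro ⟨u, hu, rfl⟩
    exact hD.2.1 g _ (by rw [← he]; exact ⟨u, hu, rfl⟩)
  · intro hy
    have hy' : g⁻¹ * y * g ∈ D := (Spor.conj_mem_iff hD.2.1 g).1 hy
    rw [← he] at hy'
    obtain ⟨u, hu, hue⟩ := hy'
    refine ⟨u, hu, ?_⟩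
    show g * e u * g⁻¹ = y
    rw [hue]; group

theorem card_G (hD : Cfsg.IsThreeTranspositionGroup D) (hprim : Cfsg.IsPrimitiveUnderConj D)
    (ht : Cfsg.IsOfTypeM22 G D) : Nat.card G = 2 ^ 17 * 3 ^ 9 * 5 ^ 2 * 7 * 11 * 13 := by
  obtain ⟨e, -⟩ := Norm.iso_fi22 hD hprim ht
  rw [← Nat.card_congr e.toEquiv, order.2.1]
  norm_num

theorem simple_G (hD : Cfsg.IsThreeTranspositionGroup D) (hprim : Cfsg.IsPrimitiveUnderConj D)
    (ht : Cfsg.IsOfTypeM22 G D) : IsSimpleGroup G := by
  obtain ⟨e, -⟩ := Norm.iso_fi22 hD hprim ht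
  exact e.isSimpleGroup_congr.mp simple

theorem cover_at (hD : Cfsg.IsThreeTranspositionGroup D) (hprim : Cfsg.IsPrimitiveUnderConj D)
    (ht : Cfsg.IsOfTypeM22 G D) {x : G} (hx : x ∈ D) :
    Nat.card ↥(Subgroup.centralizer ({x} : Set G)) = 18393661440 ∧
      Cfsg.IsNonsplitDoubleCover ↥(Subgroup.centralizer ({x} : Set G)) (Cfsg.PSU 6 SpFour.F4 2) := by
  obtain ⟨e, hex, -⟩ := exists_iso_at hD hprim ht hx
  have hmap : Hsub.map e.toMonoidHom = Subgroup.centralizer ({x} : Set G) := by
    ext y
    rw [Subgroup.mem_map, ← centralizer_eq]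
    constructor
    · rintro ⟨u, hu, rfl⟩
      rw [Subgroup.mem_centralizer_singleton_iff] at hu ⊢
      show e u * x = x * e u
      rw [← hex, ← map_mul, ← map_mul, hu]
    · intro hy
      refine ⟨e.symm y, ?_, e.apply_symm_apply y⟩
      rw [Subgroup.mem_centralizer_singleton_iff] at hy ⊢
      apply e.injective
      rw [map_mul, map_mul, e.apply_symm_apply, hex]; exact hy
  let f : ↥Hsub ≃* ↥(Subgroup.centralizer ({x} : Set G)) :=
    (e.subgroupMap Hsub).trans (MulEquiv.subgroupCongr hmap)
  refine ⟨by rw [← Nat.card_congr f.toEquiv, card_Hsub.2], ?_⟩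
  obtain ⟨h1, ⟨h2⟩, h3⟩ := double_cover
  have hc : (Subgroup.center Hsub).map f.toMonoidHom = Subgroup.center _ := by
    ext y
    simp only [Subgroup.mem_map, Subgroup.mem_center_iff]
    constructor
    · rintro ⟨u, hu, rfl⟩ v
      obtain ⟨v, rfl⟩ := f.surjective v
      show f v * f u = f u * f v
      rw [← map_mul, ← map_mul, hu]
    · intro hy
      refine ⟨f.symm y, fun v => f.injective ?_, f.apply_symm_apply y⟩
      rw [map_mul, map_mul, f.apply_symm_apply, hy]
  refine ⟨?_, ⟨((QuotientGroup.congr _ _ f hc).symm).trans h2⟩, fun L hL => ?_⟩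
  · rw [← hc, ← Nat.card_congr (Subgroup.equivMapOfInjective _ _ f.injective).toEquiv, h1]
  · refine h3 (L.comap f.toMonoidHom) ?_
    have hfin : Finite Hsub := card_Hsub.1
    refine Subgroup.isComplement'_of_card_mul_and_disjoint ?_ ?_
    · have e1 : Nat.card ↥(L.comap f.toMonoidHom) = Nat.card L := by
        rw [Nat.card_congr (Subgroup.equivMapOfInjective (L.comap f.toMonoidHom) f.toMonoidHom f.injective).toEquiv,
          Subgroup.map_comap_eq_self_of_surjective f.surjective]
      have e2 : Nat.card ↥(Subgroup.center Hsub) = Nat.card ↥(Subgroup.center ↥(Subgroup.centralizer ({x} : Set G))) := by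
        rw [Nat.card_congr (Subgroup.equivMapOfInjective (Subgroup.center Hsub) f.toMonoidHom f.injective).toEquiv, hc]
      rw [e1, e2, hL.card_mul, Nat.card_congr f.toEquiv]
    · rw [Subgroup.disjoint_def]
      intro u hu hu'
      have h0 : f u = 1 := Subgroup.disjoint_def.mp hL.disjoint (hc ▸ Subgroup.mem_map_of_mem _ hu) hu'
      exact f.injective (h0.trans (map_one f).symm)

theorem center_cent (hD : Cfsg.IsThreeTranspositionGroup D) (hprim : Cfsg.IsPrimitiveUnderConj D)
    (ht : Cfsg.IsOfTypeM22 G D) {x : G} (hx : x ∈ D) :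
    Subgroup.center ↥(Subgroup.centralizer ({x} : Set G)) =
      (Subgroup.zpowers x).subgroupOf (Subgroup.centralizer ({x} : Set G)) := by
  set C := Subgroup.centralizer ({x} : Set G)
  have hxC : x ∈ C := Subgroup.mem_centralizer_singleton_iff.mpr rfl
  have hle : Subgroup.zpowers x ≤ C := Subgroup.zpowers_le.mpr hxC
  have h1 : (Subgroup.zpowers x).subgroupOf C ≤ Subgroup.center C := by
    rintro ⟨y, hy⟩ hy'
    obtain ⟨n, rfl⟩ := Subgroup.mem_zpowers_iff.mp (Subgroup.mem_subgroupOf.mp hy')
    rw [Subgroup.mem_center_iff]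
    exact fun v => Subtype.ext
      (Commute.zpow_right (Subgroup.mem_centralizer_singleton_iff.mp v.2) n)
  refine (Subgroup.eq_of_le_of_card_ge h1 ?_).symm
  rw [(cover_at hD hprim ht hx).2.1, Nat.card_congr (Subgroup.subgroupOfEquivOfLe hle).toEquiv,
    Nat.card_zpowers, hD.1.1 x hx]

theorem closure_cent (hD : Cfsg.IsThreeTranspositionGroup D) (hprim : Cfsg.IsPrimitiveUnderConj D)
    (ht : Cfsg.IsOfTypeM22 G D) {x : G} (hx : x ∈ D) :
    Subgroup.closure {y : G | y ∈ D ∧ y ≠ x ∧ Commute x y} = Subgroup.centralizer ({x} : Set G) := by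
  obtain ⟨-, d, hd, c, -, -, ⟨F, _, _, hF, ⟨φ⟩⟩, -⟩ := id ht
  have key : Subgroup.closure (nset D d) = Subgroup.centralizer ({d} : Set G) := by
    obtain ⟨hcard, hz2, -, hns⟩ := cover_at hD hprim ht hd
    set C := Subgroup.centralizer ({d} : Set G)
    set H := Subgroup.closure (nset D d)
    have hle : H ≤ C := by
      rw [Subgroup.closure_le]
      exact fun u hu => Subgroup.mem_centralizer_singleton_iff.mpr hu.2.2.symm.eq
    have hq : Nat.card (H ⧸ Subgroup.center H) = 9196830720 := by
      obtain ⟨ψ⟩ := PSUTransfer.psu_congr (n := 6) (q := 2)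
        (FiniteField.ringEquivOfCardEq (hF.trans SpFour.F4.card.symm) : F ≃+* SpFour.F4)
      obtain ⟨ρ⟩ := SUSix.range_equiv
      rw [Nat.card_congr ((φ.trans ψ).trans ρ.symm).toEquiv, SUSix.card_range]
    have hH := Subgroup.card_eq_card_quotient_mul_card_subgroup (Subgroup.center H)
    rw [hq] at hH
    obtain ⟨k, hk⟩ := Subgroup.card_dvd_of_le hle
    rw [hcard, hH] at hk
    have hpos : 0 < Nat.card (Subgroup.center H) := Nat.card_pos
    have hzk : Nat.card (Subgroup.center H) * k = 2 := by nlinarith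
    have hk1 : k = 1 := by
      have hz12 : Nat.card (Subgroup.center H) ∣ 2 := ⟨k, hzk.symm⟩
      rcases (Nat.dvd_prime Nat.prime_two).mp hz12 with h | h
      · exfalso
        have hidx : (H.subgroupOf C).index * Nat.card H = Nat.card C := by
          rw [mul_comm, ← Nat.card_congr (Subgroup.subgroupOfEquivOfLe hle).toEquiv]
          exact Subgroup.card_mul_index _
        have hdC : d ∈ C := Subgroup.mem_centralizer_singleton_iff.mpr rfl
        have hdH : d ∉ H := fun hdH => by
          have hmem : (⟨d, hdH⟩ : H) ∈ Subgroup.center H := Subgroup.mem_center_iff.mpr fun v =>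
            Subtype.ext (Subgroup.mem_centralizer_singleton_iff.mp (hle v.2))
          haveI : Subsingleton (Subgroup.center H) := (Nat.card_eq_one_iff_unique.mp h).1
          have := congrArg (fun t : Subgroup.center H => (t.1 : G))
            (Subsingleton.elim (⟨_, hmem⟩ : Subgroup.center H) 1)
          have h2 := hD.1.1 d hd
          simp only at this
          rw [show d = 1 from this, orderOf_one] at h2
          omega
        refine hns (H.subgroupOf C) (Subgroup.isComplement'_of_card_mul_and_disjoint ?_ ?_)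
        · rw [hz2, Nat.card_congr (Subgroup.subgroupOfEquivOfLe hle).toEquiv, hcard, hH, h]
        · rw [center_cent hD hprim ht hd, Subgroup.disjoint_def]
          intro u hu hu'
          rw [Subgroup.mem_subgroupOf] at hu hu'
          obtain ⟨n, hn⟩ := Subgroup.mem_zpowers_iff.mp hu
          rcases Int.even_or_odd' n with ⟨m, rfl | rfl⟩
          · apply Subtype.ext
            rw [← hn, zpow_mul, zpow_two, Spor.mul_self_of_order_two (hD.1.1 d hd), _root_.one_zpow]
            rfl
          · exfalso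
            apply hdH
            rw [zpow_add, zpow_mul, zpow_two, Spor.mul_self_of_order_two (hD.1.1 d hd), _root_.one_zpow, one_mul,
              zpow_one] at hn
            rw [hn]; exact hu'
      · rw [h] at hzk; omega
    refine Subgroup.eq_of_le_of_card_ge hle ?_
    rw [hcard, hH]
    rw [hk1, mul_one] at hk
    exact hk.le
  obtain ⟨g, hg⟩ := hprim.1 d hd x hx
  have h1 : nset D x = MulAut.conj g '' nset D d := by
    subst hg
    ext y
    constructor
    · rintro ⟨hy, hne, hcy⟩
      refine ⟨g⁻¹ * y * g, ⟨(Spor.conj_mem_iff hD.2.1 g).1 hy, fun h => hne ?_, ?_⟩, ?_⟩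
      · rw [← h]; group
      · rw [← Spor.commute_conj_iff (g := g)]
        have e : g * (g⁻¹ * y * g) * g⁻¹ = y := by group
        rw [e]; exact hcy
      · show g * (g⁻¹ * y * g) * g⁻¹ = y; group
    · rintro ⟨u, ⟨hu, hne, hcu⟩, rfl⟩
      exact ⟨hD.2.1 g u hu, fun h => hne ((MulAut.conj g).injective h), hcu.map (MulAut.conj g).toMonoidHom⟩
  show Subgroup.closure (nset D x) = _
  rw [h1, ← MulEquiv.coe_toMonoidHom, ← MonoidHom.map_closure, key]
  ext y
  rw [Subgroup.mem_map, Subgroup.mem_centralizer_singleton_iff, ← hg]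
  constructor
  · rintro ⟨u, hu, rfl⟩
    rw [Subgroup.mem_centralizer_singleton_iff] at hu
    show g * u * g⁻¹ * (g * d * g⁻¹) = g * d * g⁻¹ * (g * u * g⁻¹)
    calc g * u * g⁻¹ * (g * d * g⁻¹) = g * (u * d) * g⁻¹ := by group
      _ = g * (d * u) * g⁻¹ := by rw [hu]
      _ = _ := by group
  · intro hy
    refine ⟨g⁻¹ * y * g, ?_, by show g * (g⁻¹ * y * g) * g⁻¹ = y; group⟩
    rw [Subgroup.mem_centralizer_singleton_iff]
    calc g⁻¹ * y * g * d = g⁻¹ * (y * (g * d * g⁻¹)) * g := by group
      _ = g⁻¹ * (g * d * g⁻¹ * y) * g := by rw [hy]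
      _ = d * (g⁻¹ * y * g) := by group

theorem quasisimple_cent (hD : Cfsg.IsThreeTranspositionGroup D) (hprim : Cfsg.IsPrimitiveUnderConj D)
    (ht : Cfsg.IsOfTypeM22 G D) {x : G} (hx : x ∈ D) :
    Cfsg.IsQuasisimple ↥(Subgroup.centralizer ({x} : Set G)) := by
  obtain ⟨hcard, hz2, ⟨φ⟩, hns⟩ := cover_at hD hprim ht hx
  set C := Subgroup.centralizer ({x} : Set G)
  haveI hs : IsSimpleGroup (Cfsg.PSU 6 SpFour.F4 2) :=
    Cfsg.Agent.Small.Unitary.psu_simple SpFour.F4.star_eq_pow SpFour.F4.card_sq (n := 6) (by norm_num) (by omega)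
  have hsq : IsSimpleGroup (C ⧸ Subgroup.center C) := φ.isSimpleGroup_congr.mpr hs
  refine ⟨⟨?_⟩, hsq⟩
  haveI := hsq
  rcases Subgroup.Normal.eq_bot_or_eq_top
      (H := (commutator C).map (QuotientGroup.mk' (Subgroup.center C)))
      ((inferInstance : (commutator C).Normal).map _ (QuotientGroup.mk'_surjective _)) with h | h
  · exfalso
    have hle : commutator C ≤ Subgroup.center C := by
      intro u hu
      have : QuotientGroup.mk' (Subgroup.center C) u ∈ (⊥ : Subgroup _) := h ▸ Subgroup.mem_map_of_mem _ hu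
      exact (QuotientGroup.eq_one_iff u).mp (Subgroup.mem_bot.mp this)
    letI : CommGroup (C ⧸ Subgroup.center C) :=
      { (inferInstance : Group (C ⧸ Subgroup.center C)) with
        mul_comm := fun a b => by
          obtain ⟨a, rfl⟩ := QuotientGroup.mk'_surjective _ a
          obtain ⟨b, rfl⟩ := QuotientGroup.mk'_surjective _ b
          rw [← commutatorElement_eq_one_iff_mul_comm, ← map_commutatorElement]
          exact (QuotientGroup.eq_one_iff _).mpr
            (hle (Subgroup.commutator_mem_commutator (Subgroup.mem_top a) (Subgroup.mem_top b))) }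
    have hp : (Nat.card (C ⧸ Subgroup.center C)).Prime := IsSimpleGroup.prime_card
    have h2 := Subgroup.card_eq_card_quotient_mul_card_subgroup (Subgroup.center C)
    rw [hcard, hz2] at h2
    rw [show Nat.card (C ⧸ Subgroup.center C) = 9196830720 by omega] at hp
    exact (by norm_num : ¬ Nat.Prime 9196830720) hp
  · by_contra hne
    have hsup : Subgroup.center C ⊔ commutator C = ⊤ := by
      rw [eq_top_iff]
      intro u _
      obtain ⟨v, hv, e⟩ := Subgroup.mem_map.mp (h ▸ Subgroup.mem_top (QuotientGroup.mk' (Subgroup.center C) u))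
      have hvu : v⁻¹ * u ∈ Subgroup.center C := by
        rw [← QuotientGroup.eq_one_iff]
        show QuotientGroup.mk' (Subgroup.center C) (v⁻¹ * u) = 1
        rw [map_mul, map_inv, e, inv_mul_cancel]
      have : u = v * (v⁻¹ * u) := by group
      rw [this]
      exact mul_mem (Subgroup.mem_sup_right hv) (Subgroup.mem_sup_left hvu)
    refine hns (commutator C) (Subgroup.isComplement'_of_disjoint_and_mul_eq_univ ?_ ?_)
    · rw [Subgroup.disjoint_def]
      intro u hu hu'
      by_contra hu1
      apply hne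
      have hlez : Subgroup.center C ≤ commutator C := by
        intro w hw
        rcases eq_or_ne w 1 with rfl | hw1
        · exact one_mem _
        · suffices w = u from this ▸ hu'
          obtain ⟨a, b, -, hu2⟩ := Nat.card_eq_two_iff.mp hz2
          have h1 : ∀ t : Subgroup.center C, t = a ∨ t = b := fun t => by
            have := Set.mem_univ t; rw [← hu2] at this; simpa using this
          rcases h1 1 with e1 | e1 <;> rcases h1 ⟨w, hw⟩ with e2 | e2 <;> rcases h1 ⟨u, hu⟩ with e3 | e3 <;>
            first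
            | exact absurd (congrArg Subtype.val (e2.trans e1.symm)) hw1
            | exact absurd (congrArg Subtype.val (e3.trans e1.symm)) hu1
            | exact congrArg Subtype.val (e2.trans e3.symm)
      exact (sup_eq_right.mpr hlez).symm.trans hsup
    · rw [← Subgroup.mul_normal, hsup]; rfl

end Cfsg.Agent.Spor.M22U.Facts
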