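import Cfsg.Agent.Lib.Spor.M23RelBottom

/-!
Products of at most three commuting members determine the members in groups of type M(23) and M(24).
-/

set_option autoImplicit false
set_option linter.unusedSectionVars false

namespace Cfsg.Agent.Spor.M23Rel.Top

open Cfsg.Agent.Spor.M22U (nset)

variable {K : Type*} [Group K] [Finite K] {E : Set K}

theorem refl_not_dvd {X : Type*} [Group X] {n : ℕ} {μ c : ZMod 3} (hn : n ≤ 7)
    (h : Cfsg.IsProjReflectionGroupModThree X n μ c) : ¬ 2 ^ 15 ∣ Nat.card X := by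
  obtain ⟨Q, -, -, ⟨e⟩⟩ := h
  intro hd
  rw [Nat.card_congr e.toEquiv] at hd
  have h1 := ((hd.trans (Subgroup.card_quotient_dvd_card _)).trans (Subgroup.card_subgroup_dvd_card _)).trans
    (Subgroup.card_subgroup_dvd_card _)
  rw [Matrix.card_GL_field, ZMod.card] at h1
  interval_cases n <;> simp [Fin.prod_univ_succ] at h1

/-- the conclusions about a level -/
structure Lev (E : Set K) : Prop where
  one : One E
  sep : Sep E
  big : 2 ^ 15 ∣ Nat.card K
  member : ∃ f ∈ E, f ≠ 1

theorem lev_step (hE : Pre E) (hZ : Subgroup.center K = ⊥) {d c : K} (hd : d ∈ E) (hc : c ∈ E)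
    (hnc : ¬ Commute d c) (hX : Lev (nextSet E d))
    (hL : ¬ 2 ^ 15 ∣ Nat.card (↥(Subgroup.closure (nset E d ∩ nset E c)) ⧸
      Subgroup.center ↥(Subgroup.closure (nset E d ∩ nset E c)))) : Lev E := by
  have h1 := one_step hE hZ hd hc hnc hX.one hX.big hL
  exact ⟨h1, sep_step hE h1 hd hnc hX.member hX.sep,
    (hX.big.trans (Subgroup.card_quotient_dvd_card _)).trans (Subgroup.card_subgroup_dvd_card _),
    ⟨d, hd, ne_one_of_nc hnc⟩⟩

theorem lev22 (hE : Pre E) (ht : Cfsg.IsOfTypeM22 K E) :
    Lev E ∧ ((∀ e ∈ E, e ≠ 1) → NoRel 4 E ∧ NoRel 5 E) := by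
  obtain ⟨hZ, d, hd, c, hc, hnc, ⟨F, _, _, hF, ⟨φ⟩⟩, c₃, -, hL⟩ := ht
  let σ : F ≃+* SpFour.F4 := FiniteField.ringEquivOfCardEq (hF.trans SpFour.F4.card.symm)
  obtain ⟨ψ⟩ := PSUTransfer.psu_congr (n := 6) (q := 2) σ
  let e := φ.trans ψ
  have hp := pre_next hE d
  have hX : Lev (nextSet E d) := ⟨Bottom.one_bottom hp e, Bottom.sep_bottom hp e, Bottom.two_part e,
    Bottom.exists_member hp e⟩
  have hlev := lev_step hE hZ hd hc hnc hX (refl_not_dvd (by norm_num) hL)
  exact ⟨hlev, fun hne =>
    ⟨noRel_step hE hne hlev.one hlev.sep hd (Bottom.noRel_bottom hp e Bottom.not_bad_three),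
      noRel_step hE hne hlev.one hlev.sep hd (Bottom.noRel_bottom hp e Bottom.not_bad_four)⟩⟩

theorem lev23 (hE : Pre E) (hne : ∀ e ∈ E, e ≠ 1) (ht : Cfsg.IsOfTypeM23 K E) :
    Lev E ∧ NoRel 5 E := by
  obtain ⟨hZ, d, hd, c, hc, hnc, h22, c₃, -, hL⟩ := ht
  obtain ⟨hX, hrel⟩ := lev22 (pre_next hE d) h22
  have hlev := lev_step hE hZ hd hc hnc hX (refl_not_dvd le_rfl hL)
  exact ⟨hlev, noRel_step hE hne hlev.one hlev.sep hd (hrel (next_ne_one hE hne hlev.one hlev.sep hd)).1⟩

/-- four or six members -/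
theorem noRel_group {D : Set K} (hD : Cfsg.IsThreeTranspositionGroup D) (hprim : Cfsg.IsPrimitiveUnderConj D)
    (h : Cfsg.IsOfTypeM23 K D ∨ Cfsg.IsOfTypeM24 K D) : NoRel 4 D ∧ NoRel 6 D := by
  have hE := pre_of_group hD
  have hne : ∀ e ∈ D, e ≠ 1 := fun e he h1 => by
    have := hD.1.1 e he
    rw [h1, orderOf_one] at this
    norm_num at this
  have h1 : One D := fun a ha b hb _ _ => hprim.1 a ha b hb
  have hsep : (∃ d ∈ D, ∃ c ∈ D, ¬ Commute d c) → Sep D := by
    rintro ⟨d, hd, c, hc, hnc⟩ a ha b hb - - hab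
    rcases relation_dichotomy hD hprim (SameV D) (fun _ _ _ _ => Iff.rfl) (fun _ _ _ _ h => h.symm)
        (fun _ _ _ _ _ _ h h' => h.trans h') (fun g _ _ _ _ h => h.conj hD.2.1 g) with h | h
    · exact h a ha b hb hab
    · exact absurd ((h d hd c hc).commute hd) hnc
  rcases h with ⟨-, d, hd, c, hc, hnc, h22, -⟩ | ⟨-, d, hd, c, hc, hnc, h23, -⟩
  · have hS := hsep ⟨d, hd, c, hc, hnc⟩
    have hne' := next_ne_one hE hne h1 hS hd
    obtain ⟨hX, hrel⟩ := lev22 (pre_next hE d) h22
    exact ⟨noRel_step hE hne h1 hS hd (noRel_three (pre_next hE d) hX.sep),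
      noRel_step hE hne h1 hS hd (hrel hne').2⟩
  · have hS := hsep ⟨d, hd, c, hc, hnc⟩
    obtain ⟨hX, hrel⟩ := lev23 (pre_next hE d) (next_ne_one hE hne h1 hS hd) h23
    exact ⟨noRel_step hE hne h1 hS hd (noRel_three (pre_next hE d) hX.sep),
      noRel_step hE hne h1 hS hd hrel⟩

/-- the factors of a product of at most three commuting members are determined -/
theorem factors {D : Set K} (hD : Cfsg.IsThreeTranspositionGroup D) (hrel : NoRel 4 D ∧ NoRel 6 D)
    {l l' : List K} (hn : l.Nodup) (hn' : l'.Nodup) (hlen : l.length ≤ 3) (hlen' : l'.length = l.length)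
    (hm : ∀ a ∈ l, a ∈ D) (hm' : ∀ a ∈ l', a ∈ D) (hc : ∀ a ∈ l, ∀ b ∈ l, Commute a b)
    (hc' : ∀ a ∈ l', ∀ b ∈ l', Commute a b) (hp : l'.prod = l.prod) : ∀ x, x ∈ l ↔ x ∈ l' := by
  classical
  have hE := pre_of_group hD
  have hne : ∀ e ∈ D, e ≠ 1 := fun e he h1 => by
    have := hD.1.1 e he
    rw [h1, orderOf_one] at this
    norm_num at this
  -- all the factors commute
  have hx : ∀ a ∈ l, ∀ b ∈ l', Commute b a := by
    intro a ha b hb
    have hb' : Commute b l.prod := by
      rw [← hp]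
      exact Commute.list_prod_right l' b fun x hx => hc' b hb x hx
    match l, hlen, hn, hm, hc, ha, hb' with
    | [p], _, _, _, _, ha, hb' =>
      rw [List.mem_singleton.mp ha]
      simpa using hb'
    | [p, q], _, hn, hm, hc, ha, hb' =>
      simp only [List.nodup_cons, List.mem_singleton, List.not_mem_nil, not_false_eq_true, List.nodup_nil,
        and_true] at hn
      simp only [List.prod_cons, List.prod_nil, mul_one] at hb'
      obtain ⟨u, v⟩ := (commute_pair_iff hD.1 (hm p (by simp)) (hm q (by simp)) (hm' b hb) hn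
        (hc p (by simp) q (by simp))).mp hb'
      simp only [List.mem_cons, List.not_mem_nil, or_false] at ha
      rcases ha with rfl | rfl
      · exact u
      · exact v
    | [p, q, r], _, hn, hm, hc, ha, hb' =>
      simp only [List.nodup_cons, List.mem_cons, List.not_mem_nil, or_false, not_or, not_false_eq_true,
        List.nodup_nil, and_true] at hn
      simp only [List.prod_cons, List.prod_nil, mul_one, ← mul_assoc] at hb'
      obtain ⟨u, v, w⟩ := (commute_triple_iff hD.1 (hm p (by simp)) (hm q (by simp)) (hm r (by simp)) (hm' b hb)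
        hn.1.1 hn.1.2 hn.2 (hc p (by simp) q (by simp)) (hc p (by simp) r (by simp))
        (hc q (by simp) r (by simp))).mp hb'
      simp only [List.mem_cons, List.not_mem_nil, or_false] at ha
      rcases ha with rfl | rfl | rfl
      · exact u
      · exact v
      · exact w
  set C := l.filter (fun a => decide (a ∈ l'))
  set A := l.filter (fun a => !decide (a ∈ l'))
  set C' := l'.filter (fun a => decide (a ∈ l))
  set B := l'.filter (fun a => !decide (a ∈ l))
  have hCA : (C ++ A).Perm l := List.filter_append_perm _ l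
  have hCB : (C' ++ B).Perm l' := List.filter_append_perm _ l'
  have hCC : C.Perm C' := (List.perm_ext_iff_of_nodup (hn.filter _) (hn'.filter _)).mpr fun a => by
    simp [C, C', and_comm]
  have hprod : ∀ {s t : List K}, s.Perm t → (∀ a ∈ t, ∀ b ∈ t, Commute a b) → s.prod = t.prod :=
    fun {s t} hst hct => hst.prod_eq' (List.pairwise_of_forall_mem_list fun a ha b hb =>
      hct a (hst.mem_iff.mp ha) b (hst.mem_iff.mp hb))
  have hA : ∀ a ∈ A, a ∈ l ∧ a ∉ l' := fun a ha => by simpa [A] using ha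
  have hB : ∀ a ∈ B, a ∈ l' ∧ a ∉ l := fun a ha => by simpa [B] using ha
  have hAB : A.prod = B.prod := by
    have e1 := hprod hCA hc
    have e2 := hprod hCB hc'
    rw [List.prod_append] at e1 e2
    have e3 : C.prod = C'.prod := hprod hCC fun a ha b hb =>
      hc' a (List.mem_of_mem_filter ha) b (List.mem_of_mem_filter hb)
    rw [← e3] at e2
    exact mul_left_cancel (e1.trans (hp.symm.trans e2.symm))
  have hsq : ∀ s : List K, (∀ a ∈ s, a ∈ D) → (∀ a ∈ s, ∀ b ∈ s, Commute a b) → s.prod * s.prod = 1 := by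
    intro s
    induction s with
    | nil => simp
    | cons a s ih =>
      intro hs hcs
      have hcomm : Commute a s.prod := Commute.list_prod_right s a fun x hx => hcs a (by simp) x (by simp [hx])
      rw [List.prod_cons, mul_assoc, ← mul_assoc s.prod, ← hcomm.eq, mul_assoc a s.prod s.prod,
        ih (fun x hx => hs x (by simp [hx])) (fun x hx y hy => hcs x (by simp [hx]) y (by simp [hy])), mul_one,
        hE.sq a (hs a (by simp))]
  have hS1 : (A ++ B).prod = 1 := by
    rw [List.prod_append, ← hAB]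
    exact hsq A (fun a ha => hm a (hA a ha).1) fun a ha b hb => hc a (hA a ha).1 b (hA b hb).1
  have hSn : (A ++ B).Nodup := List.nodup_append.mpr
    ⟨hn.filter _, hn'.filter _, fun a ha b hb e => (hA a ha).2 (e ▸ (hB b hb).1)⟩
  have hSm : ∀ a ∈ A ++ B, a ∈ D ∧ a ≠ 1 := by
    intro a ha
    rcases List.mem_append.mp ha with h | h
    · exact ⟨hm a (hA a h).1, hne a (hm a (hA a h).1)⟩
    · exact ⟨hm' a (hB a h).1, hne a (hm' a (hB a h).1)⟩
  have hSc : ∀ a ∈ A ++ B, ∀ b ∈ A ++ B, Commute a b := by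
    intro a ha b hb
    rcases List.mem_append.mp ha with h | h <;> rcases List.mem_append.mp hb with h' | h'
    · exact hc a (hA a h).1 b (hA b h').1
    · exact (hx a (hA a h).1 b (hB b h').1).symm
    · exact hx b (hA b h').1 a (hB a h).1
    · exact hc' a (hB a h).1 b (hB b h').1
  have l1 := hCA.length_eq
  have l2 := hCB.length_eq
  have l3 := hCC.length_eq
  rw [List.length_append] at l1 l2
  have hlenAB : A.length = B.length := by omega
  have hA0 : A = [] := by
    by_contra hA1
    have hpos := List.length_pos_iff.mpr hA1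
    have hle : A.length ≤ 3 := by omega
    rcases (show A.length = 1 ∨ A.length = 2 ∨ A.length = 3 by omega) with h | h | h
    · obtain ⟨a, ea⟩ := List.length_eq_one_iff.mp h
      obtain ⟨b, eb⟩ := List.length_eq_one_iff.mp (hlenAB ▸ h)
      rw [ea, eb] at hAB
      simp only [List.prod_cons, List.prod_nil, mul_one] at hAB
      have h1 := hA a (by simp [ea])
      have h2 := hB b (by simp [eb])
      exact h2.2 (hAB ▸ h1.1)
    · exact hrel.1 _ hSn (by rw [List.length_append]; omega) hSm hSc hS1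
    · exact hrel.2 _ hSn (by rw [List.length_append]; omega) hSm hSc hS1
  have hB0 : B = [] := List.length_eq_zero_iff.mp (by rw [← hlenAB, hA0]; rfl)
  intro x
  constructor
  · intro hxl
    by_contra hxl'
    have : x ∈ A := by simp [A, hxl, hxl']
    rw [hA0] at this
    exact List.not_mem_nil this
  · intro hxl'
    by_contra hxl
    have : x ∈ B := by simp [B, hxl, hxl']
    rw [hB0] at this
    exact List.not_mem_nil this

end Cfsg.Agent.Spor.M23Rel.Top
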