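import Cfsg.Agent.Lib.Spor.M23RelFrame
import Cfsg.Agent.Lib.Spor.M23RelTop
import Cfsg.Agent.Lib.Spor.M22UFacts
import Cfsg.Agent.S5361

/-!
A level of type M(22) is primitive: it has no pair of members with the same neighbours and its commuting
graph is connected.
-/

set_option autoImplicit false
set_option maxRecDepth 100000
set_option linter.unusedSectionVars false

namespace Cfsg.Agent.Spor.M23Rel.Conn

open Cfsg.Agent.Spor.M22U (nset Frame)
open Cfsg.Agent.Spor.M22U.Norm (Coord)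
open Cfsg.Agent.Spor.CC

/-- no two members have the same other neighbours -/
def SepW {K : Type*} [Group K] (E : Set K) : Prop := ∀ a ∈ E, ∀ b ∈ E, SameW E a b → a = b

/-- check at one point -/
def sepWOK (k : ℕ) : Bool :=
  Nat.beq k (M22U.gpt 0) || (List.range 693).any fun z =>
    !(Nat.beq z (M22U.gpt 0)) && !(Nat.beq z k) && !(M22U.orth (M22U.gpt 0) z == M22U.orth k z)

theorem sepW0 : rangeOK sepWOK 0 693 = true := by decide +kernel

section Levels

variable {K : Type*} [Group K] [Finite K] {E : Set K}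

theorem sepW_step (hE : Pre E) (hne : ∀ e ∈ E, e ≠ 1) (h1 : One E) (hS : Sep E) {d : K} (hd : d ∈ E)
    (hmem : (nset E d).Nonempty) (hW : SepW (nextSet E d)) : SepW E := by
  intro a ha b hb hab
  by_contra hne'
  obtain ⟨y, hy⟩ := hmem
  obtain ⟨g, hg⟩ := h1 a ha y hy.1 (hne a ha) (hne y hy.1)
  set y' := g * b * g⁻¹ with hy'def
  have hsame : SameW E y y' := hg ▸ hab.conj hE.conj g
  have hyy' : y ≠ y' := fun e => hne' (mul_left_cancel (mul_right_cancel (hg.trans e)))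
  have hy'E : y' ∈ E := hE.conj g b hb
  obtain ⟨h1', h2'⟩ := (hsame d hd).mp ⟨hy.2.1.symm, hy.2.2.symm⟩
  have hy' : y' ∈ nset E d := ⟨hy'E, h1'.symm, h2'.symm⟩
  have hne1 := next_ne_one hE hne h1 hS hd
  refine hyy' (mk_inj hE d hy hy' (hne1 _ ⟨⟨y, Subgroup.subset_closure hy⟩, hy, rfl⟩)
    (hW _ ⟨⟨y, Subgroup.subset_closure hy⟩, hy, rfl⟩ _ ⟨⟨y', Subgroup.subset_closure hy'⟩, hy', rfl⟩ ?_))
  rintro _ ⟨⟨w, hwH⟩, hw, rfl⟩
  have tr : ∀ u (hu : u ∈ nset E d),
      ((QuotientGroup.mk (⟨w, hwH⟩ : ↥(Subgroup.closure (nset E d))) :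
        ↥(Subgroup.closure (nset E d)) ⧸ Subgroup.center ↥(Subgroup.closure (nset E d))) ≠
          QuotientGroup.mk (⟨u, Subgroup.subset_closure hu⟩ : ↥(Subgroup.closure (nset E d))) ∧
        Commute (QuotientGroup.mk (⟨u, Subgroup.subset_closure hu⟩ : ↥(Subgroup.closure (nset E d))) :
          ↥(Subgroup.closure (nset E d)) ⧸ Subgroup.center ↥(Subgroup.closure (nset E d)))
          (QuotientGroup.mk (⟨w, hwH⟩ : ↥(Subgroup.closure (nset E d))))) ↔ (w ≠ u ∧ Commute u w) := by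
    intro u hu
    constructor
    · rintro ⟨h, h'⟩
      exact ⟨fun e => h (by subst e; rfl), commute_lift hE d hu hw h'⟩
    · rintro ⟨h, h'⟩
      refine ⟨fun e => h (mk_inj hE d hw hu (hne1 _ ⟨⟨w, hwH⟩, hw, rfl⟩) e), ?_⟩
      exact (Commute.map (x := (⟨u, Subgroup.subset_closure hu⟩ : ↥(Subgroup.closure (nset E d))))
        (y := ⟨w, hwH⟩) (Subtype.ext h'.eq)
        (QuotientGroup.mk' (Subgroup.center ↥(Subgroup.closure (nset E d)))) :)
  rw [tr y hy, tr y' hy']
  exact hsame w hw.1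

theorem sepW_bottom {X : Type*} [Group X] [Finite X] {F : Set X} (hF : Pre F) (hne : ∀ f ∈ F, f ≠ 1)
    (φ : X ≃* Cfsg.PSU 6 SpFour.F4 2) : SepW F := by
  intro a ha b hb hab
  obtain ⟨i, hi, hai⟩ := Bottom.to_point hF φ ha (hne a ha)
  obtain ⟨k, hk, hbk⟩ := Bottom.to_point hF φ hb (hne b hb)
  obtain ⟨g, hg, hgp⟩ := Bottom.normalise hi
  obtain ⟨k', hk', hgk⟩ := hgp k hk
  set g0 := φ.symm g
  have hgl : M22U.gpt 0 < 693 := M22U.gpt_lt (by norm_num)
  have hab' : SameW F (g0 * a * g0⁻¹) (g0 * b * g0⁻¹) := hab.conj hF.conj g0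
  have hA : φ (g0 * a * g0⁻¹) = M22U.Pts.ptr (M22U.gpt 0) := by simp [g0, hai, hg]
  have hB : φ (g0 * b * g0⁻¹) = M22U.Pts.ptr k' := by simp [g0, hbk, hgk]
  have hk0 : k' = M22U.gpt 0 := by
    have := all_range (p := sepWOK) sepW0 (Nat.zero_le _) (show k' < 0 + 693 by omega)
    simp only [sepWOK, Bool.or_eq_true, List.any_eq_true, List.mem_range, Bool.and_eq_true,
      Bool.not_eq_true'] at this
    rcases this with h' | ⟨z, hz, ⟨hz0, hzk⟩, h'⟩
    · exact Nat.eq_of_beq_eq_true h'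
    exfalso
    have hz0' : z ≠ M22U.gpt 0 := fun e => by rw [e, Nat.beq_refl] at hz0; exact Bool.noConfusion hz0
    have hzk' : z ≠ k' := fun e => by rw [e, Nat.beq_refl] at hzk; exact Bool.noConfusion hzk
    set y := φ.symm (M22U.Pts.ptr z)
    have hy := Bottom.all_points hF φ hz
    have hφy : φ y = M22U.Pts.ptr z := φ.apply_symm_apply _
    have tr : ∀ u j, j < 693 → φ u = M22U.Pts.ptr j → z ≠ j →
        ((y ≠ u ∧ Commute u y) ↔ M22U.orth j z = true) := by
      intro u j hj hu hzj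
      rw [← Bottom.commute_orth hj hz, ← hu, ← hφy]
      constructor
      · exact fun h => h.2.map φ.toMonoidHom
      · intro h
        refine ⟨fun e => hzj (M22U.Pts.ptr_inj hz hj (by rw [← hφy, ← hu, e])), ?_⟩
        have := h.map φ.symm.toMonoidHom
        simpa using this
    have e := hab' y hy
    rw [tr _ _ hgl hA hz0', tr _ _ hk' hB hzk'] at e
    have e' : M22U.orth (M22U.gpt 0) z = M22U.orth k' z := Bool.eq_iff_iff.mpr e
    simp [e'] at h'
  apply φ.injective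
  rw [hai, hbk]
  exact mul_left_cancel (mul_right_cancel (hg.trans (hgk.trans (by rw [hk0])).symm))

end Levels

section Component

variable {K : Type*} [Group K] [Finite K] {E : Set K}

/-- joined by a chain of commuting members -/
abbrev Linked (E : Set K) : K → K → Prop :=
  Relation.ReflTransGen fun x y => x ∈ E ∧ y ∈ E ∧ Commute x y

/-- the component of a member -/
abbrev comp (E : Set K) (d : K) : Set K := {x | x ∈ E ∧ Linked E d x}

theorem linked_conj (hE : Pre E) (g : K) {x y : K} (h : Linked E x y) :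
    Linked E (g * x * g⁻¹) (g * y * g⁻¹) :=
  Relation.ReflTransGen.lift (fun z => g * z * g⁻¹)
    (fun p q (hpq : p ∈ E ∧ q ∈ E ∧ Commute p q) =>
      ⟨hE.conj g p hpq.1, hE.conj g q hpq.2.1, commute_conj_iff.2 hpq.2.2⟩) x y h

theorem linked_symm {x y : K} (h : Linked E x y) : Linked E y x := by
  induction h with
  | refl => exact Relation.ReflTransGen.refl
  | tail _ hpq ih => exact Relation.ReflTransGen.head ⟨hpq.2.1, hpq.1, hpq.2.2.symm⟩ ih

theorem comp_block (hE : Pre E) (d : K) :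
    ∀ g : K, cimg g (comp E d) = comp E d ∨ Disjoint (cimg g (comp E d)) (comp E d) := by
  intro g
  rw [or_iff_not_imp_right, Set.not_disjoint_iff]
  rintro ⟨y, ⟨u, ⟨hu, hdu⟩, hyu⟩, -, hdy⟩
  have hgy : Linked E (g * d * g⁻¹) y := hyu ▸ linked_conj hE g hdu
  have hgd : Linked E d (g * d * g⁻¹) := hdy.trans (linked_symm hgy)
  ext x
  constructor
  · rintro ⟨v, ⟨hv, hdv⟩, rfl⟩
    exact ⟨hE.conj g v hv, hgd.trans (linked_conj hE g hdv)⟩
  · rintro ⟨hx, hdx⟩
    refine ⟨g⁻¹ * x * g, ⟨(conj_mem_iff hE.conj g).1 hx, ?_⟩, by group⟩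
    have := linked_conj hE g⁻¹ ((linked_symm hgd).trans hdx)
    rwa [inv_inv, show g⁻¹ * (g * d * g⁻¹) * g = d by group] at this

theorem mem_comp_closure (hE : Pre E) {d : K} (hd : d ∈ E) {m : K} (hm : m ∈ Subgroup.closure (comp E d))
    {x : K} (hx : x ∈ comp E d) : m * x * m⁻¹ ∈ comp E d := by
  refine ⟨hE.conj m x hx.1, Relation.ReflTransGen.trans ?_ (linked_conj hE m hx.2)⟩
  induction hm using Subgroup.closure_induction'' with
  | one => simp only [one_mul, inv_one, mul_one]; exact Relation.ReflTransGen.refl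
  | mem e he =>
    have h := linked_conj hE e (linked_symm he.2)
    rw [mul_inv_cancel_right] at h
    exact he.2.trans h
  | inv_mem e he =>
    have h := linked_conj hE e⁻¹ (linked_symm he.2)
    rw [inv_inv, show e⁻¹ * e * e = e by group] at h
    rw [inv_inv]
    exact he.2.trans h
  | mul a b _ _ iha ihb =>
    have h := iha.trans (linked_conj hE a ihb)
    rwa [show a * b * d * (a * b)⁻¹ = a * (b * d * b⁻¹) * a⁻¹ by group]

/-- a group with a frame has a simple quotient by its centre -/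
theorem simple_quot {M : Type*} [Group M] [Finite M] {X : Set M} (F : Frame X) :
    IsSimpleGroup (M ⧸ Subgroup.center M) ∧ Subgroup.center (M ⧸ Subgroup.center M) = ⊥ := by
  set q := QuotientGroup.mk' (Subgroup.center M) with hq
  have hXX := pre_of_group F.three
  have hcomm : ∀ x ∈ X, ∀ y ∈ X, Commute (q x) (q y) → Commute x y := by
    intro x hx y hy h
    by_contra hn
    obtain ⟨h3, -⟩ := hXX.braid hx hy hn
    have hp2 : q (x * y) ^ 2 = 1 := by
      rw [map_mul, h.mul_pow, pow_two, pow_two, ← map_mul, ← map_mul, hXX.sq x hx, hXX.sq y hy, map_one,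
        mul_one]
    have hp3 : q (x * y) ^ 3 = 1 := by rw [← map_pow, h3, map_one]
    have hp1 : q (x * y) = 1 := by
      calc q (x * y) = q (x * y) ^ 2 * q (x * y) := by rw [hp2, one_mul]
        _ = 1 := by rw [← pow_succ, hp3]
    have hc : x * (x * y) = (x * y) * x := (Subgroup.mem_center_iff.mp ((QuotientGroup.eq_one_iff _).mp hp1) x)
    rw [← mul_assoc, hXX.sq x hx, one_mul] at hc
    apply hn
    show x * y = y * x
    calc x * y = x * y * (x * x) := by rw [hXX.sq x hx, mul_one]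
      _ = x * y * x * x := (mul_assoc _ _ _).symm
      _ = y * x := by rw [← hc]
  have hnc : ∀ x ∈ X, ∃ w ∈ X, ¬ Commute x w := by
    intro x hx
    obtain ⟨g, hg⟩ := F.trans _ F.ha x hx
    exact ⟨g * F.b * g⁻¹, F.three.2.1 g _ F.hb, fun h => F.nab (commute_conj_iff.1 (hg ▸ h))⟩
  have hinj : ∀ x ∈ X, ∀ y ∈ X, q x = q y → x = y := by
    intro x hx y hy h
    obtain ⟨w, hw, hxw⟩ := hnc x hx
    have hcen : y⁻¹ * x ∈ Subgroup.center M := (QuotientGroup.eq).mp h.symm
    have hyw : ¬ Commute y w := by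
      intro hc
      apply hxw
      apply hcomm x hx w hw
      rw [h]
      exact hc.map q
    have e1 := (hXX.braid hx hw hxw).2
    have e2 := (hXX.braid hy hw hyw).2
    have e3 : x * w * x = y * w * y := by
      have hc := Subgroup.mem_center_iff.mp hcen w
      calc x * w * x = y * (y⁻¹ * x * w) * x := by group
        _ = y * (w * (y⁻¹ * x)) * x := by rw [hc]
        _ = y * w * y⁻¹ * (x * x) := by group
        _ = y * w * y := by rw [hXX.sq x hx, mul_one, inv_eq_of_mul_eq_one_right (hXX.sq y hy)]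
    rw [e1, e2] at e3
    exact mul_left_cancel (mul_right_cancel e3)
  have hne1 : ∀ x ∈ X, q x ≠ 1 := by
    intro x hx h
    obtain ⟨w, hw, hxw⟩ := hnc x hx
    exact hxw ((Subgroup.mem_center_iff.mp ((QuotientGroup.eq_one_iff _).mp h) w).symm)
  have hqs : Function.Surjective q := QuotientGroup.mk'_surjective _
  have hset : ∀ u, u ∈ {y : M | y ∈ X ∧ y ≠ F.a ∧ Commute F.a y} →
      q u ∈ {y : M ⧸ Subgroup.center M | y ∈ q '' X ∧ y ≠ q F.a ∧ Commute (q F.a) y} := fun u hu =>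
    ⟨⟨u, hu.1, rfl⟩, fun e => hu.2.1 (hinj u hu.1 _ F.ha e), hu.2.2.map q⟩
  have hbij : Function.Bijective (fun u : ↥{y : M | y ∈ X ∧ y ≠ F.a ∧ Commute F.a y} =>
      (⟨q u, hset u u.2⟩ :
        ↥{y : M ⧸ Subgroup.center M | y ∈ q '' X ∧ y ≠ q F.a ∧ Commute (q F.a) y})) := by
    refine ⟨fun u v h => Subtype.ext (hinj u u.2.1 v v.2.1 (congrArg Subtype.val h :)), ?_⟩
    rintro ⟨_, ⟨u, hu, rfl⟩, h1, h2⟩
    exact ⟨⟨u, hu, fun e => h1 (by rw [e]), hcomm _ F.ha u hu h2⟩, rfl⟩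
  let θ := Equiv.ofBijective _ hbij
  have hthree : Cfsg.IsThreeTranspositionGroup (q '' X) := by
    refine ⟨⟨?_, ?_⟩, ?_, ?_⟩
    · rintro _ ⟨x, hx, rfl⟩
      exact orderOf_eq_prime (by rw [pow_two, ← map_mul, hXX.sq x hx, map_one]) (hne1 x hx)
    · rintro _ ⟨x, hx, rfl⟩ _ ⟨y, hy, rfl⟩
      rcases hXX.two x hx y hy with h | h
      · left; rw [← map_mul, ← map_pow, h, map_one]
      · right; rw [← map_mul, ← map_pow, h, map_one]
    · intro p
      rintro _ ⟨x, hx, rfl⟩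
      obtain ⟨g, rfl⟩ := hqs p
      exact ⟨g * x * g⁻¹, F.three.2.1 g x hx, by simp⟩
    · rw [← MonoidHom.map_closure, F.three.2.2, Subgroup.map_top_of_surjective _ hqs]
  have hconn : (Cfsg.commutingGraph (q '' X)).Connected := by
    have hreach : ∀ u v : X, (Cfsg.commutingGraph X).Reachable u v →
        (Cfsg.commutingGraph (q '' X)).Reachable ⟨q u, u, u.2, rfl⟩ ⟨q v, v, v.2, rfl⟩ := by
      rintro u v ⟨p⟩
      induction p with
      | nil => exact SimpleGraph.Reachable.refl _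
      | @cons a b c hadj _ ih =>
        refine SimpleGraph.Reachable.trans ?_ ih
        refine SimpleGraph.Adj.reachable ?_
        rw [Cfsg.commutingGraph, SimpleGraph.fromRel_adj] at hadj ⊢
        refine ⟨fun e => hadj.1 (Subtype.ext (hinj a a.2 b b.2 (congrArg Subtype.val e :))), ?_⟩
        exact hadj.2.imp (fun h => h.map q) fun h => h.map q
    haveI : Nonempty (q '' X) := ⟨⟨q F.a, F.a, F.ha, rfl⟩⟩
    refine ⟨?_⟩
    rintro ⟨_, x, hx, rfl⟩ ⟨_, y, hy, rfl⟩
    exact hreach ⟨x, hx⟩ ⟨y, hy⟩ (F.conn.preconnected _ _)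
  have hZ : Subgroup.center (M ⧸ Subgroup.center M) = ⊥ := by
    rw [eq_bot_iff]
    intro p hp
    obtain ⟨g, rfl⟩ := hqs p
    rw [Subgroup.mem_bot]
    refine (QuotientGroup.eq_one_iff _).mpr (mem_center_of_commutes F.three.2.2 fun x hx => ?_)
    have e : q (g * x * g⁻¹) = q x := by
      rw [map_mul, map_mul, map_inv, ← Subgroup.mem_center_iff.mp hp (q x), mul_inv_cancel_right]
    have := hinj _ (F.three.2.1 g x hx) x hx e
    exact mul_inv_eq_iff_eq_mul.mp this
  let F' : Frame (q '' X) :=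
    { three := hthree
      trans := by
        rintro _ ⟨x, hx, rfl⟩ _ ⟨y, hy, rfl⟩
        obtain ⟨g, rfl⟩ := F.trans x hx y hy
        exact ⟨q g, by simp⟩
      conn := hconn
      a := q F.a
      b := q F.b
      ha := ⟨_, F.ha, rfl⟩
      hb := ⟨_, F.hb, rfl⟩
      nab := fun h => F.nab (hcomm _ F.ha _ F.hb h)
      pi := θ.symm.trans F.pi
      pi_gen := by
        intro j hj x y z hx hz
        obtain ⟨u, rfl⟩ := θ.surjective x
        obtain ⟨v, rfl⟩ := θ.surjective y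
        obtain ⟨w, rfl⟩ := θ.surjective z
        simp only [Equiv.trans_apply, Equiv.symm_apply_apply] at hx ⊢
        refine F.pi_gen j hj u v w hx ?_
        refine hinj _ w.2.1 _ (F.three.2.1 _ _ v.2.1) ?_
        rw [map_mul, map_mul, map_inv]
        exact hz
      pi_T := by
        intro y
        obtain ⟨u, rfl⟩ := θ.surjective y
        simp only [Equiv.trans_apply, Equiv.symm_apply_apply]
        rw [← F.pi_T u]
        exact ⟨fun h => hcomm _ F.hb _ u.2.1 h, fun h => h.map q⟩ }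
  haveI := Fi22Cert.order.1
  obtain ⟨e, -⟩ := M22U.exists_equiv_of_frames M22U.Fischer.frame F' M22U.Fischer.center_bot hZ
  exact ⟨e.isSimpleGroup_congr.mp Fi22Cert.simple, hZ⟩

theorem connected (hD : Cfsg.IsThreeTranspositionGroup E) (h1 : One E) (hS : Sep E) {d c : K}
    (hd : d ∈ E) (hc : c ∈ E) (hnc : ¬ Commute d c)
    (φ : ↥(Subgroup.closure (nset E d)) ⧸ Subgroup.center ↥(Subgroup.closure (nset E d)) ≃*
      Cfsg.PSU 6 SpFour.F4 2) {c₃ : ZMod 3} (hc₃ : c₃ ≠ 0)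
    (hL : Cfsg.IsProjReflectionGroupModThree
      (↥(Subgroup.closure (nset E d ∩ nset E c)) ⧸
        Subgroup.center ↥(Subgroup.closure (nset E d ∩ nset E c))) 6 1 c₃) :
    ∀ e ∈ E, Linked E d e := by
  have hE := pre_of_group hD
  have hne : ∀ e ∈ E, e ≠ 1 := fun e he h1 => by
    have := hD.1.1 e he
    rw [h1, orderOf_one] at this
    norm_num at this
  obtain ⟨C⟩ := Frame22.coord_level hD h1 hS hd φ
  obtain ⟨C2, hT⟩ := Frame22.frame_data hD hd hc hnc hc₃ hL C
  set X := comp E d with hX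
  set M := Subgroup.closure X with hM
  have hdX : d ∈ X := ⟨hd, Relation.ReflTransGen.refl⟩
  have hnX : ∀ y ∈ nset E d, y ∈ X := fun y hy =>
    ⟨hy.1, Relation.ReflTransGen.single ⟨hd, hy.1, hy.2.2⟩⟩
  have hgl : M22U.gpt 0 < 693 := M22U.gpt_lt (by norm_num)
  set t0 := C2.e.symm ⟨M22U.gpt 0, hgl⟩
  have ht0 : Commute c (t0 : K) := (hT t0).mpr (by rw [Equiv.apply_symm_apply]; exact M22U.gpt_T (j := 0) (by norm_num))
  have hcX : c ∈ X := ⟨hc, (hnX t0 t0.2).2.trans (Relation.ReflTransGen.single ⟨t0.2.1, hc, ht0.symm⟩)⟩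
  have hp1 : M22U.Dat.p1 < 693 ∧ M22U.inT0 M22U.Dat.p1 = false :=
    ⟨M22U.misc_ok.2.2.2.2.2.1, M22U.misc_ok.2.2.2.2.2.2.1⟩
  set y0 := C2.e.symm ⟨M22U.Dat.p1, hp1.1⟩
  have hy0 : ¬ Commute c (y0 : K) := fun h => by
    have := (hT y0).mp h
    rw [Equiv.apply_symm_apply, hp1.2] at this
    exact Bool.noConfusion this
  -- the members commuting with d are conjugate to d in M
  have hmX : ∀ {x}, x ∈ X → x ∈ M := fun hx => Subgroup.subset_closure hx
  have hbr : ∀ {a b : K}, a ∈ X → b ∈ X → ¬ Commute a b → ∃ m ∈ M, m * a * m⁻¹ = b := by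
    intro a b ha hb h
    refine ⟨a * b, M.mul_mem (hmX ha) (hmX hb), ?_⟩
    have := (hE.braid ha.1 hb.1 h).2
    rw [mul_inv_rev, inv_eq_of_mul_eq_one_right (hE.sq a ha.1), inv_eq_of_mul_eq_one_right (hE.sq b hb.1)]
    calc a * b * a * (b * a) = (b * a * b) * (b * a) := by rw [this]
      _ = b * a * (b * b) * a := by simp only [mul_assoc]
      _ = b := by rw [hE.sq b hb.1, mul_one, mul_assoc, hE.sq a ha.1, mul_one]
  have hnb : ∀ y ∈ nset E d, ∃ m ∈ M, m * d * m⁻¹ = y := by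
    intro y hy
    obtain ⟨m1, hm1, e1⟩ := hbr hdX hcX hnc
    obtain ⟨m2, hm2, e2⟩ := hbr hcX (hnX y0 y0.2) hy0
    have hne1 := next_ne_one hE hne h1 hS hd
    obtain ⟨p, hp⟩ := Bottom.one_bottom (pre_next hE d) φ _
      ⟨⟨y0, Subgroup.subset_closure y0.2⟩, y0.2, rfl⟩ _ ⟨⟨y, Subgroup.subset_closure hy⟩, hy, rfl⟩
      (hne1 _ ⟨⟨y0, Subgroup.subset_closure y0.2⟩, y0.2, rfl⟩)
      (hne1 _ ⟨⟨y, Subgroup.subset_closure hy⟩, hy, rfl⟩)
    obtain ⟨⟨g, hg⟩, rfl⟩ := QuotientGroup.mk_surjective p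
    have hgy : g * (y0 : K) * g⁻¹ = y :=
      mk_inj hE d (nset_conj hE (commute_of_mem hg) y0.2) hy
        (hne1 _ ⟨⟨_, Subgroup.subset_closure (nset_conj hE (commute_of_mem hg) y0.2)⟩,
          nset_conj hE (commute_of_mem hg) y0.2, rfl⟩) hp
    have hgM : g ∈ M := (Subgroup.closure_le M).mpr (fun u hu => hmX (hnX u hu)) hg
    exact ⟨g * m2 * m1, M.mul_mem (M.mul_mem hgM hm2) hm1, by rw [← hgy, ← e2, ← e1]; group⟩
  have htr : ∀ x ∈ X, ∃ m ∈ M, m * d * m⁻¹ = x := by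
    rintro x ⟨-, hx⟩
    induction hx with
    | refl => exact ⟨1, M.one_mem, by group⟩
    | @tail p q hdp hpq ih =>
      obtain ⟨m, hm, hmp⟩ := ih
      by_cases hqp : q = p
      · exact ⟨m, hm, hmp.trans hqp.symm⟩
      set u := m⁻¹ * q * m
      have hu : u ∈ nset E d := by
        refine ⟨(conj_mem_iff hE.conj m).1 hpq.2.1, fun e => hqp ?_, ?_⟩
        · calc q = m * u * m⁻¹ := by simp only [u]; group
            _ = p := by rw [e, hmp]
        · rw [← commute_conj_iff (g := m), hmp, show m * u * m⁻¹ = q by simp only [u]; group]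
          exact hpq.2.2
      obtain ⟨m', hm', e⟩ := hnb u hu
      exact ⟨m * m', M.mul_mem hm hm', by
        rw [show m * m' * d * (m * m')⁻¹ = m * (m' * d * m'⁻¹) * m⁻¹ by group, e]; simp only [u]; group⟩
  -- the frame of the component
  set X' : Set M := {x | (x : K) ∈ X}
  have hthree : Cfsg.IsThreeTranspositionGroup X' := by
    refine ⟨⟨fun x hx => ?_, fun x hx y hy => ?_⟩, fun g x hx => ?_, ?_⟩
    · rw [← Subgroup.orderOf_coe]; exact hD.1.1 _ hx.1
    · rcases hE.two _ hx.1 _ hy.1 with h | h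
      · exact Or.inl (Subtype.ext h)
      · exact Or.inr (Subtype.ext h)
    · exact mem_comp_closure hE hd g.2 hx
    · show Subgroup.closure (Subtype.val ⁻¹' X) = ⊤
      exact Subgroup.closure_closure_coe_preimage
  have hconn : (Cfsg.commutingGraph X').Connected := by
    have hr : ∀ x, ∀ hx : Linked E d x, ∀ hxX : x ∈ X, (Cfsg.commutingGraph X').Reachable
        ⟨⟨d, hmX hdX⟩, hdX⟩ ⟨⟨x, hmX hxX⟩, hxX⟩ := by
      intro x hx
      induction hx with
      | refl => intro _; exact SimpleGraph.Reachable.refl _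
      | @tail p q hdp hpq ih =>
        intro hqX
        have hpX : p ∈ X := ⟨hpq.1, hdp⟩
        refine (ih hpX).trans ?_
        by_cases he : p = q
        · subst he; exact SimpleGraph.Reachable.refl _
        · refine SimpleGraph.Adj.reachable ?_
          rw [Cfsg.commutingGraph, SimpleGraph.fromRel_adj]
          exact ⟨fun e => he (congrArg (fun z : X' => ((z : M) : K)) e), Or.inl (Subtype.ext hpq.2.2.eq)⟩
    haveI : Nonempty X' := ⟨⟨⟨d, hmX hdX⟩, hdX⟩⟩
    exact ⟨fun u v => (hr _ u.2.2 u.2).symm.trans (hr _ v.2.2 v.2)⟩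
  have htrans : ∀ x ∈ X', ∀ y ∈ X', ∃ g : M, g * x * g⁻¹ = y := by
    intro x hx y hy
    obtain ⟨m, hm, e⟩ := htr _ hx
    obtain ⟨n, hn, e'⟩ := htr _ hy
    refine ⟨⟨n * m⁻¹, M.mul_mem hn (M.inv_mem hm)⟩, Subtype.ext ?_⟩
    show n * m⁻¹ * (x : K) * (n * m⁻¹)⁻¹ = y
    rw [← e, ← e']; group
  let toN : ↥{y : M | y ∈ X' ∧ y ≠ ⟨d, hmX hdX⟩ ∧ Commute (⟨d, hmX hdX⟩ : M) y} ≃ ↥(nset E d) :=
    { toFun := fun u => ⟨((u : M) : K), u.2.1.1, fun e => u.2.2.1 (Subtype.ext e),
        congrArg Subtype.val u.2.2.2.eq⟩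
      invFun := fun u => ⟨⟨u, hmX (hnX u u.2)⟩, hnX u u.2,
        fun e => u.2.2.1 (congrArg Subtype.val e), Subtype.ext u.2.2.2.eq⟩
      left_inv := fun u => rfl
      right_inv := fun u => rfl }
  let F : Frame X' :=
    { three := hthree
      trans := htrans
      conn := hconn
      a := ⟨d, hmX hdX⟩
      b := ⟨c, hmX hcX⟩
      ha := hdX
      hb := hcX
      nab := fun h => hnc (congrArg Subtype.val h.eq)
      pi := toN.trans C2.e
      pi_gen := fun j hj x y z hx hz => by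
        simp only [Equiv.trans_apply] at hx ⊢
        rw [C2.conj (toN x) (toN y) (toN z) (congrArg Subtype.val hz), hx]
        exact M22U.Sym.gen_timg hj (C2.e (toN y)).2
      pi_T := fun y => by
        rw [Equiv.trans_apply, ← hT (toN y)]
        exact ⟨fun h => congrArg Subtype.val h.eq, fun h => Subtype.ext h.eq⟩ }
  obtain ⟨hsimple, -⟩ := simple_quot F
  -- a second component gives a contradiction
  by_contra hcon
  push Not at hcon
  obtain ⟨e0, he0, hne0⟩ := hcon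
  obtain ⟨h, hh⟩ := h1 d hd e0 he0 (hne d hd) (hne e0 he0)
  have hB := comp_block hE d
  set C := cimg h X with hC
  set C' := cimg d C with hC'
  have he0C : e0 ∈ C := ⟨d, hdX, hh⟩
  have hCE : C ⊆ E := by rintro _ ⟨u, hu, rfl⟩; exact hE.conj h u hu.1
  have hC'E : C' ⊆ E := by rintro _ ⟨u, hu, rfl⟩; exact hE.conj d u (hCE hu)
  have hcross : ∀ x ∈ X, ∀ e, e ∈ E → e ∉ X → ¬ Commute x e := fun x hx e he hn hc' =>
    hn ⟨he, hx.2.trans (Relation.ReflTransGen.single ⟨hx.1, he, hc'⟩)⟩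
  have hXC : ∀ e ∈ C, e ∉ X := by
    intro e he heX
    have : cimg h X = X := (block_meet hB (g := h) (h := 1) he (by rwa [cimg_one])).trans (cimg_one _)
    exact hne0 (this ▸ he0C : e0 ∈ X).2
  have hsame : ∀ x ∈ X, cimg x C = C' := fun x hx =>
    block_same hD.1 (fun u hu => hu.1) hB hx hdX h hCE
  have hsame' : ∀ x ∈ X, cimg x C' = C := fun x hx => by
    rw [← hsame x hx, cimg_cimg, hE.sq x hx.1, cimg_one]
  have hXC' : ∀ e ∈ C', e ∉ X := by
    rintro _ ⟨u, hu, rfl⟩ heX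
    apply hXC u hu
    have := mem_comp_closure hE hd (hmX hdX) heX
    rwa [show d * (d * u * d⁻¹) * d⁻¹ = (d * d) * u * (d * d)⁻¹ by group, hE.sq d hd, one_mul, inv_one,
      mul_one] at this
  have hCC : C ≠ C' := by
    intro e
    have h2 : d * e0 * d⁻¹ ∈ C := e ▸ ⟨e0, he0C, rfl⟩
    obtain ⟨u, hu, hu'⟩ := h2
    have hl : Linked E e0 (d * e0 * d⁻¹) := by
      rw [← hu', ← hh]
      exact linked_conj hE h hu.2
    have hb2 := (hE.braid hd he0 (hcross d hdX e0 he0 (hXC e0 he0C))).2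
    rw [inv_eq_of_mul_eq_one_right (hE.sq d hd), hb2] at hl
    have := linked_conj hE e0 hl
    rw [mul_inv_cancel_right, show e0 * (e0 * d * e0) * e0⁻¹ = (e0 * e0) * d by group,
      hE.sq e0 he0, one_mul] at this
    exact hne0 (linked_symm this)
  -- the two permutations
  have hP : ∀ m ∈ M, (cimg m C = C ∧ cimg m C' = C') ∨ (cimg m C = C' ∧ cimg m C' = C) := by
    intro m hm
    induction hm using Subgroup.closure_induction'' with
    | one => exact Or.inl ⟨cimg_one _, cimg_one _⟩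
    | mem x hx => exact Or.inr ⟨hsame x hx, hsame' x hx⟩
    | inv_mem x hx =>
      rw [inv_eq_of_mul_eq_one_right (hE.sq x hx.1)]
      exact Or.inr ⟨hsame x hx, hsame' x hx⟩
    | mul a b _ _ iha ihb =>
      rw [← cimg_cimg, ← cimg_cimg]
      rcases ihb with ⟨e1, e2⟩ | ⟨e1, e2⟩ <;> rcases iha with ⟨e3, e4⟩ | ⟨e3, e4⟩ <;> rw [e1, e2]
      · exact Or.inl ⟨e3, e4⟩
      · exact Or.inr ⟨e3, e4⟩
      · exact Or.inr ⟨e4, e3⟩
      · exact Or.inl ⟨e4, e3⟩
  let N : Subgroup M :=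
    { carrier := {m | cimg (m : K) C = C}
      one_mem' := cimg_one _
      mul_mem' := fun {a b} ha hb => by
        show cimg ((a : K) * b) C = C
        rw [← cimg_cimg, hb, ha]
      inv_mem' := fun {a} ha => by
        show cimg ((a : K)⁻¹) C = C
        conv_lhs => rw [← (show cimg (a : K) C = C from ha)]
        rw [cimg_cimg, inv_mul_cancel, cimg_one] }
  haveI hNn : N.Normal := ⟨fun n hn g => by
    show cimg ((g : K) * n * (g : K)⁻¹) C = C
    have hn' : cimg (n : K) C = C := hn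
    rcases hP _ n.2 with ⟨n1, n2⟩ | ⟨n1, -⟩
    · rcases hP _ (M.inv_mem g.2) with ⟨g1, -⟩ | ⟨g1, -⟩
      · rw [← cimg_cimg, ← cimg_cimg, g1, n1]
        conv_lhs => rw [← g1]
        rw [cimg_cimg, mul_inv_cancel, cimg_one]
      · rw [← cimg_cimg, ← cimg_cimg, g1, n2]
        conv_lhs => rw [← g1]
        rw [cimg_cimg, mul_inv_cancel, cimg_one]
    · exact absurd (hn'.symm.trans n1) hCC⟩
  -- a central element exchanging the two components
  obtain ⟨z, hz, hzC⟩ : ∃ z : M, z ∈ Subgroup.center M ∧ cimg (z : K) C = C' := by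
    by_contra hno
    push Not at hno
    have hle : Subgroup.center M ≤ N := fun z hz => (hP _ z.2).elim (fun h => h.1) fun h => absurd h.1 (hno z hz)
    set q := QuotientGroup.mk' (Subgroup.center M)
    haveI := hsimple
    rcases (hNn.map q (QuotientGroup.mk'_surjective _)).eq_bot_or_eq_top with h' | h'
    · have hxy : ∀ u v : M, u ∈ X' → v ∈ X' → q u = q v := by
        intro u v hu hv
        have hmem : u * v ∈ N := by
          show cimg ((u : K) * v) C = C
          rw [← cimg_cimg, hsame _ hv, hsame' _ hu]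
        have h2 : q (u * v) = 1 := by
          have : q (u * v) ∈ N.map q := ⟨_, hmem, rfl⟩
          rwa [h', Subgroup.mem_bot] at this
        have hvv : q v * q v = 1 := by rw [← map_mul, show v * v = 1 from Subtype.ext (hE.sq _ hv.1), map_one]
        rw [map_mul] at h2
        rw [← mul_one (q u), ← hvv, ← mul_assoc, h2, one_mul]
      have e1 := hxy ⟨d, hmX hdX⟩ ⟨c, hmX hcX⟩ hdX hcX
      have hcen : (⟨d, hmX hdX⟩ : M)⁻¹ * ⟨c, hmX hcX⟩ ∈ Subgroup.center M := QuotientGroup.eq.mp e1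
      have hcd := congrArg Subtype.val (Subgroup.mem_center_iff.mp hcen ⟨d, hmX hdX⟩)
      simp only [Subgroup.coe_mul, Subgroup.coe_inv, mul_inv_cancel_left] at hcd
      apply hnc
      show d * c = c * d
      calc d * c = d * (d⁻¹ * c * d) := by rw [← hcd]
        _ = c * d := by group
    · have : (⟨d, hmX hdX⟩ : M) ∈ N := by
        have hq : q ⟨d, hmX hdX⟩ ∈ N.map q := h' ▸ Subgroup.mem_top _
        obtain ⟨n, hn, hn'⟩ := hq
        have hk : n⁻¹ * ⟨d, hmX hdX⟩ ∈ N := hle (QuotientGroup.eq.mp hn')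
        have := N.mul_mem hn hk
        rwa [mul_inv_cancel_left] at this
      exact hCC ((show cimg d C = C from this).symm)
  have hzc : ∀ x ∈ X, Commute (z : K) x := fun x hx =>
    (congrArg Subtype.val (Subgroup.mem_center_iff.mp hz ⟨x, hmX hx⟩)).symm
  have hzM : ∀ m ∈ M, Commute (z : K) m := fun m hm =>
    (congrArg Subtype.val (Subgroup.mem_center_iff.mp hz ⟨m, hm⟩)).symm
  -- the member of X attached to a member of C
  have hflip : ∀ x ∈ X, ∀ e ∈ C, x * e * x⁻¹ ∈ C' := fun x hx e he => hsame x hx ▸ ⟨e, he, rfl⟩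
  have hxinj : ∀ e ∈ C, ∀ x ∈ X, ∀ y ∈ X, x * e * x⁻¹ = y * e * y⁻¹ → x = y := by
    intro e he x hx y hy h'
    have b1 := (hE.braid hx.1 (hCE he) (hcross x hx e (hCE he) (hXC e he))).2
    have b2 := (hE.braid hy.1 (hCE he) (hcross y hy e (hCE he) (hXC e he))).2
    rw [inv_eq_of_mul_eq_one_right (hE.sq x hx.1), inv_eq_of_mul_eq_one_right (hE.sq y hy.1), b1, b2] at h'
    exact mul_left_cancel (mul_right_cancel h')
  have hcardC : C.ncard = X.ncard := Set.ncard_image_of_injective _ (MulAut.conj h).injective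
  have hcardC' : C'.ncard = X.ncard := (Set.ncard_image_of_injective _ (MulAut.conj d).injective).trans hcardC
  have hf : ∀ e : C, ∃ x : X, (x : K) * e * (x : K)⁻¹ = (z : K) * e * (z : K)⁻¹ := by
    intro e
    have himg : (fun x => x * (e : K) * x⁻¹) '' X = C' :=
      Set.eq_of_subset_of_ncard_le (by rintro _ ⟨x, hx, rfl⟩; exact hflip x hx e e.2)
        (by rw [hcardC', Set.ncard_image_of_injOn fun x hx y hy => hxinj e e.2 x hx y hy]) (Set.toFinite _)
    have : (z : K) * e * (z : K)⁻¹ ∈ C' := hzC ▸ ⟨e, e.2, rfl⟩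
    rw [← himg] at this
    obtain ⟨x, hx, hx'⟩ := this
    exact ⟨⟨x, hx⟩, hx'⟩
  choose f hf using hf
  have hmem : ∀ (m : K), cimg m C = C → ∀ e, e ∈ C → m * e * m⁻¹ ∈ C :=
    fun m h' e he => (Set.ext_iff.mp h' _).mp ⟨e, he, rfl⟩
  have hequi : ∀ (m : K) (hm : m ∈ M) (hmC : cimg m C = C) (e : C),
      (f ⟨m * e * m⁻¹, hmem m hmC e e.2⟩ : K) = m * f e * m⁻¹ := by
    intro m hm hmC e
    have hme : m * e * m⁻¹ ∈ C := hmem m hmC e e.2
    refine hxinj _ hme _ (f _).2 _ (mem_comp_closure hE hd hm (f e).2) ?_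
    rw [hf, show m * (f e : K) * m⁻¹ * (m * e * m⁻¹) * (m * (f e : K) * m⁻¹)⁻¹ =
      m * ((f e : K) * e * (f e : K)⁻¹) * m⁻¹ by group, hf e]
    calc (z : K) * (m * e * m⁻¹) * (z : K)⁻¹ = ((z : K) * m) * e * ((z : K) * m)⁻¹ := by group
      _ = (m * (z : K)) * e * (m * (z : K))⁻¹ := by rw [(hzM m hm).eq]
      _ = _ := by group
  have hfsurj : Function.Surjective f := by
    rintro ⟨w, hw⟩
    obtain ⟨n, hn, hne'⟩ := htr _ (f ⟨e0, he0C⟩).2
    obtain ⟨n', hn', hne''⟩ := htr _ hw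
    set m := n' * n⁻¹
    have hm : m ∈ M := M.mul_mem hn' (M.inv_mem hn)
    have hmw : m * (f ⟨e0, he0C⟩ : K) * m⁻¹ = w := by rw [← hne', ← hne'']; simp only [m]; group
    rcases hP m hm with ⟨hmC, -⟩ | ⟨hmC, hmC2⟩
    · exact ⟨⟨m * e0 * m⁻¹, hmem m hmC e0 he0C⟩, Subtype.ext ((hequi m hm hmC ⟨e0, he0C⟩).trans hmw)⟩
    · have hmz : cimg (m * (z : K)) C = C := by rw [← cimg_cimg, hzC, hmC2]
      refine ⟨⟨m * (z : K) * e0 * (m * (z : K))⁻¹, hmem _ hmz e0 he0C⟩, Subtype.ext ?_⟩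
      refine (hequi _ (M.mul_mem hm z.2) hmz ⟨e0, he0C⟩).trans (Eq.trans ?_ hmw)
      calc m * (z : K) * (f ⟨e0, he0C⟩ : K) * (m * (z : K))⁻¹
          = m * ((z : K) * (f ⟨e0, he0C⟩ : K) * (z : K)⁻¹) * m⁻¹ := by group
        _ = _ := by rw [(hzc _ (f ⟨e0, he0C⟩).2).eq, mul_inv_cancel_right]
  have hfinj : Function.Injective f := by
    have hc' : Nat.card C = Nat.card X := hcardC
    haveI := Fintype.ofFinite C
    haveI := Fintype.ofFinite X
    rw [Nat.card_eq_fintype_card, Nat.card_eq_fintype_card] at hc'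
    exact ((Fintype.bijective_iff_surjective_and_card f).mpr ⟨hfsurj, hc'⟩).1
  have hfix : ∀ (m : K) (hm : m ∈ M) (hmC : cimg m C = C) (e : C),
      m * (f e : K) * m⁻¹ = f e → m * (e : K) * m⁻¹ = e := fun m hm hmC e h' =>
    congrArg Subtype.val (hfinj (Subtype.ext ((hequi m hm hmC e).trans h')))
  -- a member commuting with the attached one
  set x := f ⟨e0, he0C⟩ with hx
  obtain ⟨n, hn, hnx⟩ := htr _ x.2
  set y := n * (t0 : K) * n⁻¹ with hy
  have hyX : y ∈ X := mem_comp_closure hE hd hn (hnX t0 t0.2)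
  have hxy : (x : K) ≠ y := fun e =>
    t0.2.2.1 (mul_left_cancel (mul_right_cancel ((hy ▸ e.symm).trans hnx.symm)))
  have hcxy : Commute (x : K) y := by rw [hy, ← hnx]; exact commute_conj_iff.mpr t0.2.2.2
  have hzy : cimg ((z : K) * y) C = C := by
    rw [← cimg_cimg, hsame y hyX]
    rcases hP _ z.2 with ⟨e, -⟩ | ⟨-, e⟩
    · exact absurd (e.symm.trans hzC) hCC
    · exact e
  have k1 := hfix _ (M.mul_mem z.2 (hmX hyX)) hzy ⟨e0, he0C⟩ (by
    rw [← hx, show (z : K) * y * (x : K) * ((z : K) * y)⁻¹ = (z : K) * (y * x * y⁻¹) * (z : K)⁻¹ by group,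
      ← hcxy.eq, mul_inv_cancel_right, (hzc _ x.2).eq, mul_inv_cancel_right])
  have hzz : cimg ((z : K) * z) C = C := by
    rw [← cimg_cimg, hzC]
    rcases hP _ z.2 with ⟨e, -⟩ | ⟨-, e⟩
    · exact absurd (e.symm.trans hzC) hCC
    · exact e
  have k2 := hfix _ (M.mul_mem z.2 z.2) hzz ⟨e0, he0C⟩ (by
    rw [← hx, ((hzc _ x.2).mul_left (hzc _ x.2)).eq, mul_inv_cancel_right])
  refine hxy (hxinj e0 he0C _ x.2 _ hyX ?_)
  rw [hx, hf ⟨e0, he0C⟩]
  calc (z : K) * e0 * (z : K)⁻¹ = (z : K) * ((z : K) * y * e0 * ((z : K) * y)⁻¹) * (z : K)⁻¹ := by rw [k1]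
    _ = ((z : K) * z) * y * e0 * (((z : K) * z) * y)⁻¹ := by group
    _ = (y * ((z : K) * z)) * e0 * (y * ((z : K) * z))⁻¹ := by
        rw [((hzc _ hyX).mul_left (hzc _ hyX)).eq]
    _ = y * ((z : K) * z * e0 * ((z : K) * z)⁻¹) * y⁻¹ := by group
    _ = y * e0 * y⁻¹ := by rw [k2]

/-- a level of type M(22) is primitive -/
theorem primitive22 (hD : Cfsg.IsThreeTranspositionGroup E) (ht : Cfsg.IsOfTypeM22 K E) :
    Cfsg.IsPrimitiveUnderConj E := by
  have hE := pre_of_group hD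
  have hne : ∀ e ∈ E, e ≠ 1 := fun e he h1 => by
    have := hD.1.1 e he
    rw [h1, orderOf_one] at this
    norm_num at this
  obtain ⟨hlev, -⟩ := Top.lev22 hE ht
  obtain ⟨hZ, d, hd, c, hc, hnc, ⟨F, _, _, hF, ⟨φ₀⟩⟩, c₃, hc₃, hL⟩ := ht
  let σ : F ≃+* SpFour.F4 := FiniteField.ringEquivOfCardEq (hF.trans SpFour.F4.card.symm)
  obtain ⟨ψ⟩ := PSUTransfer.psu_congr (n := 6) (q := 2) σ
  let φ := φ₀.trans ψ
  have hlink := connected hD hlev.one hlev.sep hd hc hnc φ hc₃ hL
  have hcl : Cfsg.IsThreeTranspositionClass E := by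
    refine ⟨hD.1, ⟨d, hd, ?_⟩, hD.2.2⟩
    ext x
    refine ⟨fun hx => isConj_iff.2 (hlev.one d hd x hx (hne d hd) (hne x hx)), fun hx => ?_⟩
    obtain ⟨g, rfl⟩ := isConj_iff.1 hx
    exact hE.conj g d hd
  obtain ⟨f, ⟨⟨y, hyH⟩, hy, rfl⟩, -⟩ := Bottom.exists_member (pre_next hE d) φ
  refine (Cfsg.Agent.S5361.result hcl hZ ⟨d, hd, y, hy.1, hy.2.1.symm, hy.2.2⟩).2.mpr ⟨?_, ?_, ?_⟩
  · refine le_bot_iff.mp ((core_two_central hcl hd fun v hv h => ?_).trans hZ.le)
    exact (hlev.sep d hd v hv (hne d hd) (hne v hv) h).symm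
  · refine le_bot_iff.mp ((core_three_central hcl hd fun v hv h => ?_).trans hZ.le)
    refine (sepW_step hE hne hlev.one hlev.sep hd ⟨y, hy⟩
      (sepW_bottom (pre_next hE d) (next_ne_one hE hne hlev.one hlev.sep hd) φ) d hd v hv h).symm
  · have hr : ∀ x, Linked E d x → ∀ hx : x ∈ E, (Cfsg.commutingGraph E).Reachable ⟨d, hd⟩ ⟨x, hx⟩ := by
      intro x hx
      induction hx with
      | refl => intro _; exact SimpleGraph.Reachable.refl _
      | @tail p q hdp hpq ih =>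
        intro hq
        refine (ih hpq.1).trans ?_
        by_cases he : p = q
        · subst he; exact SimpleGraph.Reachable.refl _
        · refine SimpleGraph.Adj.reachable ?_
          rw [Cfsg.commutingGraph, SimpleGraph.fromRel_adj]
          exact ⟨fun e => he (congrArg Subtype.val e), Or.inl hpq.2.2⟩
    haveI : Nonempty E := ⟨⟨d, hd⟩⟩
    exact ⟨fun u v => (hr _ (hlink u u.2) u.2).symm.trans (hr _ (hlink v v.2) v.2)⟩

end Component

end Cfsg.Agent.Spor.M23Rel.Conn
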