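import Cfsg.Agent.Lib.Spor.M22UForms
import Cfsg.Agent.Lib.Spor.PermCert

/-!
Finite checks on the 126 points of norm one of the standard six-dimensional space over the field
with three elements.
-/

set_option autoImplicit false
set_option linter.unusedSectionVars false
set_option maxRecDepth 100000
set_option Elab.async false

namespace Cfsg.Agent.Spor.M22U.Refl

open Matrix Cfsg.Agent.Spor.CC Cfsg.Agent.Spor.M22U.Forms

/-- vector with a code -/
def vof (k : ℕ) : Fin 6 → ZMod 3 := fun i => ((k / 3 ^ i.val % 3 : ℕ) : ZMod 3)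
/-- code of a vector -/
def cod (v : Fin 6 → ZMod 3) : ℕ :=
  (v 0).val + 3 * (v 1).val + 9 * (v 2).val + 27 * (v 3).val + 81 * (v 4).val + 243 * (v 5).val
/-- the vector of a point -/
def pv (i : ℕ) : Fin 6 → ZMod 3 := vof (fld RDat.ptTab 16 i)
/-- the point of a vector -/
def pnt (v : Fin 6 → ZMod 3) : ℕ := fld RDat.idxTab 8 (cod v)
/-- the inner product -/
def dot (u v : Fin 6 → ZMod 3) : ZMod 3 := ∑ i, u i * v i
/-- image of a point under a reflection -/
def rim (a i : ℕ) : ℕ := pnt (pv i + dot (pv a) (pv i) • pv a)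
/-- image of a point under a word -/
def rev' (w : List ℕ) (i : ℕ) : ℕ := w.foldr rim i
/-- the images of the six roots -/
def tup (w : List ℕ) : List ℕ := RDat.six.map (rev' w)
/-- a word as a product of generators -/
def gword (w : List ℕ) : List ℕ := (w.map fun k => RDat.pgens.getD k []).flatten
/-- the elements of the 2-subgroup -/
def pword (i : ℕ) : List ℕ := gword (RDat.pwords.getD i [])

theorem cases_vec : ∀ v : Fin 6 → ZMod 3, q0 v = 1 →
    pnt v < 126 ∧ (v = pv (pnt v) ∨ v = -pv (pnt v)) := by decide +kernel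

theorem point_ok : ∀ i < 126, q0 (pv i) = 1 ∧ pnt (pv i) = i ∧ pnt (-pv i) = i := by decide +kernel

theorem words_ok : (RDat.pgens.all fun w => w.all fun x => Nat.blt x 126) = true ∧
    (RDat.pwords.all fun w => w.all fun x => Nat.blt x 8) = true ∧ RDat.pwords.length = 256 ∧
    (RDat.moveW.all fun w => w.all fun x => Nat.blt x 126) = true ∧ RDat.moveW.length = 126 ∧
    RDat.pgens.length = 8 ∧ (∀ x ∈ RDat.seven, x < 126) ∧ (∀ x ∈ RDat.six, x < 126) ∧
    RDat.seven.length = 7 ∧ RDat.seven.take 6 = RDat.six := by decide +kernel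

theorem move_ok : ∀ i < 126, rev' (RDat.moveW.getD i []) 0 = i := by decide +kernel

/-- one element of the 2-subgroup -/
def elemOK (i : ℕ) : Bool :=
  (List.range 8).all (fun k => Nat.blt (fld RDat.multTab 8 (8 * i + k)) 256 &&
    (tup (RDat.pgens.getD k [] ++ pword i) == tup (pword (fld RDat.multTab 8 (8 * i + k))))) &&
  (let c := fld RDat.clsTab 20 i
   let a := c / 16 % 256
   let b := c / 4096
   if c % 16 = 0 then tup (pword i) == RDat.six
   else if c % 16 = 1 then !(tup (pword i ++ pword i) == RDat.six)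
   else if c % 16 = 2 then decide (a < 126) && (tup (pword i) == tup [a])
   else decide (a < 126) && decide (b < 126) &&
     !(tup ((List.replicate 2 (pword i ++ ([a, b] ++ pword i ++ [b, a]))).flatten) == RDat.six) &&
     !(tup ((List.replicate 3 (pword i ++ ([a, b] ++ pword i ++ [b, a]))).flatten) == RDat.six))

theorem elems : rangeOK elemOK 0 256 = true := by decide +kernel

theorem elem_distinct : ((List.range 256).map fun i => tup (pword i)).Nodup := by decide +kernel

theorem refl_distinct : ((List.range 126).map fun a => tup [a]).Nodup := by decide +kernel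

theorem pword_zero : pword 0 = [] := by decide +kernel

/-- inverse of the matrix of six roots -/
def sixInv : Matrix (Fin 6) (Fin 6) (ZMod 3) :=
  ((Matrix.of fun i j : Fin 6 => pv (RDat.six.getD j.val 0) i)ᵀ * (Matrix.of fun i j : Fin 6 => pv (RDat.six.getD j.val 0) i)).adjugate *
    (Matrix.of fun i j : Fin 6 => pv (RDat.six.getD j.val 0) i)ᵀ

theorem six_facts : sixInv * (Matrix.of fun i j : Fin 6 => pv (RDat.six.getD j.val 0) i) = 1 ∧
    (Matrix.of fun i j : Fin 6 => pv (RDat.six.getD j.val 0) i) * sixInv = 1 ∧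
    ∀ k < 5, dot (pv (RDat.six.getD k 0)) (pv (RDat.six.getD (k + 1) 0)) ≠ 0 := by decide +kernel

theorem pgen_lt : ∀ k, k < 8 → ∀ x ∈ RDat.pgens.getD k [], x < 126 := by decide +kernel

theorem seven_commute : ∀ i < 7, ∀ j < 7,
    (tup [RDat.seven.getD i 0, RDat.seven.getD j 0] == tup [RDat.seven.getD j 0, RDat.seven.getD i 0]) =
      decide (dot (pv (RDat.seven.getD i 0)) (pv (RDat.seven.getD j 0)) = 0 ∨ i = j) := by decide +kernel

theorem pword_table : ∀ i < 256, (pword i).all (fun x => Nat.blt x 126) = true := by decide +kernel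

end Cfsg.Agent.Spor.M22U.Refl
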