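import Cfsg.Agent.Lib.Spor.M22UData
import Cfsg.Agent.Lib.Spor.PermCert

/-!
Access to the tables and the checks on them.
-/

set_option autoImplicit false
set_option maxRecDepth 100000
set_option Elab.async false

namespace Cfsg.Agent.Spor.M22U

open Cfsg.Agent.Spor.CC Dat

/-- decode a word -/
def wdec : ℕ → ℕ → List ℕ
  | 0, _ => []
  | fuel + 1, n => bif Nat.beq (n % 16) 0 then [] else (n % 16 - 1) :: wdec fuel (n / 16)

/-- image of a point -/
def pim (j x : ℕ) : ℕ :=
  bif Nat.beq j 0 then fld pT0 16 x else bif Nat.beq j 1 then fld pT1 16 x else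
  bif Nat.beq j 2 then fld pT2 16 x else bif Nat.beq j 3 then fld pT3 16 x else
  bif Nat.beq j 4 then fld pT4 16 x else bif Nat.beq j 5 then fld pT5 16 x else
  bif Nat.beq j 6 then fld pT6 16 x else fld pT7 16 x

/-- image of a subset -/
def qim (j k : ℕ) : ℕ :=
  bif Nat.beq j 0 then fld qT0 16 k else bif Nat.beq j 1 then fld qT1 16 k else
  bif Nat.beq j 2 then fld qT2 16 k else bif Nat.beq j 3 then fld qT3 16 k else
  bif Nat.beq j 4 then fld qT4 16 k else bif Nat.beq j 5 then fld qT5 16 k else
  bif Nat.beq j 6 then fld qT6 16 k else fld qT7 16 k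

/-- image of a point under a word -/
def pev (w : List ℕ) (x : ℕ) : ℕ := w.foldr pim x
/-- image of a subset under a word -/
def qev (w : List ℕ) (k : ℕ) : ℕ := w.foldr qim k
/-- the generating points -/
def gpt (j : ℕ) : ℕ := gens.getD j 0
/-- the standard subset -/
def inT0 (x : ℕ) : Bool := Nat.testBit t0Mask x
/-- word of a subset -/
def kw (k : ℕ) : List ℕ := wdec 16 (fld kwTab 64 k)
/-- kind of a subset -/
def kind (k : ℕ) : ℕ := fld kindTab 4 k
/-- membership in a subset -/
def inS (k x : ℕ) : Bool := inT0 (pev (kw k).reverse x)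
/-- generator of a point -/
def pwJ (x : ℕ) : ℕ := fld pwJTab 4 x
/-- word of a point -/
def pwW (x : ℕ) : List ℕ := wdec 16 (fld pwWTab 64 x)
/-- the word of the involution of a point -/
def cwd (x : ℕ) : List ℕ := pwW x ++ pwJ x :: (pwW x).reverse
/-- orthogonality of points -/
def orth (x y : ℕ) : Bool := Nat.beq (pev (cwd x) y) y
/-- generator of a point of the standard subset -/
def twJ (x : ℕ) : ℕ := fld twJTab 4 x
/-- word of a point of the standard subset -/
def twW (x : ℕ) : List ℕ := wdec 16 (fld twWTab 64 x)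
/-- word fixing the standard subset, near -/
def sn (k : ℕ) : List ℕ := wdec 16 (fld snTab 64 k)
/-- word fixing the standard subset, far -/
def sf (k : ℕ) : List ℕ := wdec 16 (fld sfTab 64 k)
/-- word fixing the standard subset, points -/
def sp (x : ℕ) : List ℕ := wdec 16 (fld spTab 64 x)
/-- the point of a near subset -/
def qpt (k : ℕ) : ℕ := pev (sn k) p1
/-- the subset of an outside point -/
def invq (x : ℕ) : ℕ := fld invqTab 16 x
/-- adjacency of subsets -/
def adj (k l : ℕ) : Bool := Nat.beq (kind (qev (kw k).reverse l)) 1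
/-- letters -/
def below (n : ℕ) (w : List ℕ) : Bool := w.all fun x => Nat.blt x n

/-- check of one point -/
def ptOK (x : ℕ) : Bool :=
  (List.range 8).all (fun j => Nat.blt (pim j x) 693 && Nat.beq (pim j (pim j x)) x) &&
  Nat.blt (pwJ x) 8 && below 8 (pwW x) && Nat.beq (pev (pwW x) (gpt (pwJ x))) x &&
  (bif inT0 x then Nat.blt (twJ x) 7 && below 7 (twW x) && Nat.beq (pev (twW x) (gpt (twJ x))) x
    else below 7 (sp x) && Nat.beq (pev (sp x) p1) x &&
      Nat.beq (kind (invq x)) 1 && Nat.blt (invq x) 1408 && Nat.beq (qpt (invq x)) x &&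
      (Nat.beq x p1 || (inT0 (fld witTab 16 x) && Nat.blt (fld witTab 16 x) 693 &&
        orth p1 (fld witTab 16 x) && !orth x (fld witTab 16 x))))

/-- check of one subset -/
def setOK (k : ℕ) : Bool :=
  (List.range 8).all (fun j => Nat.blt (qim j k) 1408 && Nat.beq (qim j (qim j k)) k) &&
  below 8 (kw k) && Nat.beq (qev (kw k) 0) k &&
  (List.range 8).all (fun j => (List.range 7).all fun i =>
    inS (qim j k) (pim j (pev (kw k) (gpt i)))) &&
  (bif Nat.beq (kind k) 0 then Nat.beq k 0 else
    bif Nat.beq (kind k) 1 then below 7 (sn k) && Nat.beq (qev (sn k) k1) k && Nat.beq (invq (qpt k)) k &&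
        !inT0 (qpt k)
    else Nat.beq (kind k) 2 && below 7 (sf k) && Nat.beq (qev (sf k) k2) k) &&
  (Nat.beq k 0 || (Nat.blt (fld disTab 4 k) 7 && !inT0 (pev (kw k) (gpt (fld disTab 4 k)))))

/-- check of a near subset next to the far one -/
def comOK (k : ℕ) : Bool :=
  !(Nat.beq (kind k) 1 && adj k k2) ||
    (Nat.beq k root || (Nat.blt (fld parTab 16 k) 1408 && Nat.beq (kind (fld parTab 16 k)) 1 &&
      adj (fld parTab 16 k) k2 && adj k (fld parTab 16 k) &&
      Nat.blt (fld rankTab 16 (fld parTab 16 k)) (fld rankTab 16 k)))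

/-- check of a far subset next to the far one -/
def farOK (k : ℕ) : Bool :=
  !(Nat.beq (kind k) 2 && adj k2 k) ||
    (Nat.blt (fld farwTab 16 k) 1408 && Nat.beq (kind (fld farwTab 16 k)) 1 &&
      adj (fld farwTab 16 k) k2 && adj (fld farwTab 16 k) k)

theorem pts0 : rangeOK ptOK 0 693 = true := by decide +kernel
theorem sets0 : rangeOK setOK 0 704 = true := by decide +kernel
theorem sets1 : rangeOK setOK 704 704 = true := by decide +kernel
theorem com0 : rangeOK comOK 0 1408 = true := by decide +kernel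
theorem far0 : rangeOK farOK 0 1408 = true := by decide +kernel

theorem misc_ok : Nat.beq (kind 0) 0 = true ∧ Nat.beq (kind k1) 1 = true ∧ Nat.beq (kind k2) 2 = true ∧
    k1 < 1408 ∧ k2 < 1408 ∧ p1 < 693 ∧ inT0 p1 = false ∧ Nat.beq (kind root) 1 = true ∧ root < 1408 ∧
    adj root k2 = true ∧ gens.length = 8 ∧ (∀ j < 8, gpt j < 693) ∧ (∀ j < 7, inT0 (gpt j) = true) ∧
    inT0 (gpt 7) = false ∧ (∀ j < 7, qim j 0 = 0) ∧ gens.Nodup := by
  decide +kernel

theorem t0_ok : (List.range 693).filter inT0 = t0 ∧ t0.length = 126 := by decide +kernel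

theorem deg_ok : ∀ j < 8, ((List.range 693).filter fun y => orth (gpt j) y).length = 181 := by decide +kernel

theorem through_ok : ∀ j < 8, ((List.range 1408).filter fun k => inS k (gpt j)).length = 256 := by decide +kernel

theorem zero_ok : kw 0 = [] ∧ ∀ j < 7, ∃ i < 7, orth (gpt j) (gpt i) = false := by decide +kernel

theorem local_ok : (t0.filter fun t => inS k1 t) = (t0.filter fun t => orth p1 t) ∧
    (t0.filter fun t => orth p1 t).length = 30 ∧ (t0.filter fun t => inS k2 t).length = 18 := by
  decide +kernel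

theorem pt_spec {x : ℕ} (hx : x < 693) : ptOK x = true :=
  all_range (p := ptOK) pts0 (Nat.zero_le _) (by omega)

theorem set_spec {k : ℕ} (hk : k < 1408) : setOK k = true := by
  by_cases h : k < 704
  · exact all_range (p := setOK) sets0 (Nat.zero_le _) (by omega)
  · exact all_range (p := setOK) sets1 (by omega) (by omega)

end Cfsg.Agent.Spor.M22U
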