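import Cfsg.Agent.Lib.Spor.M22ULocal

/-!
Two groups of type M(22) with frames are isomorphic.
-/

set_option autoImplicit false
set_option maxRecDepth 100000

namespace Cfsg.Agent.Spor.M22U

open Cfsg.Agent.Spor.CC Dat

variable {G : Type*} [Group G] [Finite G] {D : Set G} {H : Type*} [Group H] [Finite H] {E : Set H}

omit [Finite G] in
theorem adj_zero {k : ℕ} : adj 0 k = true ↔ kind k = 1 := by
  simp [adj, zero_ok.1, qev]

theorem com_spec {k : ℕ} (hk : k < 1408) (h1 : kind k = 1) (h2 : adj k k2 = true) :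
    k = root ∨ (fld parTab 16 k < 1408 ∧ kind (fld parTab 16 k) = 1 ∧ adj (fld parTab 16 k) k2 = true ∧
      adj k (fld parTab 16 k) = true ∧ fld rankTab 16 (fld parTab 16 k) < fld rankTab 16 k) := by
  have := all_range (p := comOK) com0 (Nat.zero_le _) (show k < 0 + 1408 by omega)
  simp only [comOK, h1, Bool.or_eq_true, Bool.and_eq_true, Bool.not_eq_true', beq_iff, blt_iff,
    Bool.and_eq_false_iff] at this
  rcases this with h | h | h
  · rcases h with h | h
    · simp at h
    · rw [h2] at h; exact absurd h (by simp)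
  · exact Or.inl h
  · exact Or.inr ⟨h.1.1.1.1, h.1.1.1.2, h.1.1.2, h.1.2, h.2⟩

theorem far_spec {k : ℕ} (hk : k < 1408) (h1 : kind k = 2) (h2 : adj k2 k = true) :
    fld farwTab 16 k < 1408 ∧ kind (fld farwTab 16 k) = 1 ∧ adj (fld farwTab 16 k) k2 = true ∧
      adj (fld farwTab 16 k) k = true := by
  have := all_range (p := farOK) far0 (Nat.zero_le _) (show k < 0 + 1408 by omega)
  simp only [farOK, h1, Bool.or_eq_true, Bool.and_eq_true, Bool.not_eq_true', beq_iff, blt_iff,
    Bool.and_eq_false_iff] at this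
  rcases this with h | h
  · rcases h with h | h
    · simp at h
    · rw [h2] at h; exact absurd h (by simp)
  · exact ⟨h.1.1.1, h.1.1.2, h.1.2, h.2⟩

/-- the chosen near neighbour of a far subset -/
def link (k : ℕ) : ℕ := qev (sf k) root

theorem kind_stab (F : Frame D) {w : List ℕ} (hw : below 7 w = true) {k : ℕ} (hk : k < 1408)
    (h : kind k = 1) : kind (qev w k) = 1 := by
  have := F.adj_word (below_mono hw) (show (0 : ℕ) < 1408 by norm_num) hk (adj_zero.mpr h)
  rw [qev_stab hw] at this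
  exact adj_zero.mp this

theorem link_spec (F : Frame D) {k : ℕ} (hk : k < 1408) (h : kind k = 2) :
    link k < 1408 ∧ kind (link k) = 1 ∧ adj (link k) k = true := by
  obtain ⟨h0, -⟩ | ⟨h0, -⟩ | ⟨-, h1, h2⟩ := kind_cases hk
  · omega
  · omega
  · obtain ⟨-, -, -, -, hk2, -, -, hr, hrl, hra⟩ := Frame.misc_facts
    refine ⟨qev_lt (below_mono h1) hrl, kind_stab F h1 hrl hr, ?_⟩
    have := F.adj_word (below_mono h1) hrl hk2 hra
    rwa [h2] at this

namespace Frame

variable (F : Frame D)
include F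

/-- the sheet of a near subset commuting with the second member of the frame -/
noncomputable def nearE (k : ℕ) : Bool :=
  haveI := Classical.propDecidable (Commute F.b (F.sh k true))
  decide (Commute F.b (F.sh k true))

theorem nearE_spec {k : ℕ} (hk : k < 1408) (h : kind k = 1) (e : Bool) :
    Commute F.b (F.sh k e) ↔ e = F.nearE k := by
  have hk0 : k ≠ 0 := fun e => by rw [e, misc_facts.1] at h; omega
  obtain ⟨e0, he0, -⟩ := F.near_exists hk h
  have key : ∀ e', Commute F.b (F.sh k e') ↔ e' = e0 := fun e' =>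
    ⟨fun h' => F.near_unique hk hk0 h' he0, fun h' => h' ▸ he0⟩
  have : F.nearE k = e0 := by
    classical
    unfold nearE
    cases e0
    · rw [decide_eq_false]; exact fun h' => Bool.noConfusion ((key true).mp h')
    · rw [decide_eq_true]; exact he0
  rw [this]; exact key e

/-- commuting of the two sheets marked `true` -/
noncomputable def cz (k l : ℕ) : Bool :=
  haveI := Classical.propDecidable (Commute (F.sh k true) (F.sh l true))
  decide (Commute (F.sh k true) (F.sh l true))

theorem cz_spec {k l : ℕ} (hk : k < 1408) (hl : l < 1408) (h : adj k l = true) (e e' : Bool) :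
    Commute (F.sh k e) (F.sh l e') ↔ F.cz k l = (e == e') := by
  obtain ⟨hne, -⟩ := (F.adj_iff hk hl true).mp h
  have hflip : ∀ e e', Commute (F.sh k e) (F.sh l e') ↔ Commute (F.sh k (!e)) (F.sh l (!e')) := fun e e' => by
    rw [← F.conj_a_sh k e, ← F.conj_a_sh l e', commute_conj_iff]
  have huniq : Commute (F.sh k true) (F.sh l true) ↔ ¬ Commute (F.sh k true) (F.sh l false) := by
    obtain ⟨g, -, g2, g3⟩ := F.reduce hk true
    obtain ⟨a1, ha1⟩ := g3 l hl true
    obtain ⟨a2, ha2⟩ := g3 l hl false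
    have hr := below_rev (kw_spec hk).1
    have hl' := qev_lt hr hl
    have hne' : a1 ≠ a2 := fun e => by
      subst e
      exact Bool.noConfusion (F.sh_inj hl hl (mul_left_cancel (mul_right_cancel (ha1.trans ha2.symm)))).2
    have hk1 : kind (qev (kw k).reverse l) = 1 := beq_iff.mp h
    rw [← commute_conj_iff (g := g), g2, ha1, F.nearE_spec hl' hk1,
      ← commute_conj_iff (g := g) (a := F.sh k true) (b := F.sh l false), g2, ha2, F.nearE_spec hl' hk1]
    cases a1 <;> cases a2 <;> cases F.nearE (qev (kw k).reverse l) <;> simp_all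
  unfold cz
  cases e <;> cases e'
  · rw [hflip]; simp
  · rw [hflip, beq_eq_false_iff_ne.mpr (by simp : (false : Bool) ≠ true), decide_eq_false_iff_not, huniq,
      not_not]
    rfl
  · rw [beq_eq_false_iff_ne.mpr (by simp : (true : Bool) ≠ false), decide_eq_false_iff_not, huniq, not_not]
  · simp

/-- the marked sheet -/
noncomputable def pk (k : ℕ) : Bool :=
  bif Nat.beq (kind k) 1 then F.nearE k
  else bif Nat.beq (kind k) 2 then (F.cz (link k) k == F.nearE (link k))
  else true

/-- commuting of the marked sheets -/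
noncomputable def sg (k l : ℕ) : Bool := F.cz k l == (F.pk k == F.pk l)

/-- a sheet relative to the marked one -/
noncomputable def gv (k : ℕ) (e : Bool) : G := F.sh k (e == F.pk k)

theorem gv_commute {k l : ℕ} (hk : k < 1408) (hl : l < 1408) (h : adj k l = true) (e e' : Bool) :
    Commute (F.gv k e) (F.gv l e') ↔ F.sg k l = (e == e') := by
  rw [gv, gv, F.cz_spec hk hl h, sg]
  cases e <;> cases e' <;> cases F.pk k <;> cases F.pk l <;> cases F.cz k l <;> simp

theorem sg_symm {k l : ℕ} (hk : k < 1408) (hl : l < 1408) (h : adj k l = true) : F.sg l k = F.sg k l := by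
  have h1 := F.gv_commute hk hl h true true
  have h2 := F.gv_commute hl hk (F.adj_symm hk hl h) true true
  rw [Commute.symm_iff] at h1
  rw [Bool.eq_iff_iff]
  simp only [beq_self_eq_true] at h1 h2
  exact h2.symm.trans h1

theorem sg_zero {k : ℕ} (hk : k < 1408) (h : kind k = 1) : F.sg 0 k = true := by
  have h0 : (0 : ℕ) < 1408 := by norm_num
  have hp0 : F.pk 0 = true := by rw [pk, misc_facts.1]; rfl
  have := (F.gv_commute h0 hk (adj_zero.mpr h) true true).mp (by
    rw [gv, gv, hp0]
    show Commute (F.sh 0 true) _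
    rw [F.sh_zero, F.nearE_spec hk h]
    simp [pk, h])
  simpa using this

theorem sg_link {k : ℕ} (hk : k < 1408) (h : kind k = 2) : F.sg (link k) k = true := by
  obtain ⟨-, h1, -⟩ := link_spec F hk h
  simp only [sg, pk, h, h1]
  cases F.cz (link k) k <;> cases F.nearE (link k) <;> rfl

theorem parity {k l m : ℕ} (hk : k < 1408) (hl : l < 1408) (hm : m < 1408) (hkl : adj k l = true)
    (hkm : adj k m = true) (hlm : adj l m = true) :
    (F.sg l m == (F.sg k l == F.sg k m)) =
      orth (qpt (qev (kw k).reverse l)) (qpt (qev (kw k).reverse m)) := by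
  have n1 := ((F.adj_iff hk hl true).mp hkl).1
  have n2 := ((F.adj_iff hk hm true).mp hkm).1
  have h1 := (F.gv_commute hk hl hkl true (F.sg k l)).mpr (by cases F.sg k l <;> rfl)
  have h2 := (F.gv_commute hk hm hkm true (F.sg k m)).mpr (by cases F.sg k m <;> rfl)
  have h3 := F.triangle hk hl hm n1 n2 h1 h2
  have h4 := F.gv_commute hl hm hlm (F.sg k l) (F.sg k m)
  rw [gv, gv] at h4
  rw [h4] at h3
  rw [Bool.eq_iff_iff, ← h3, beq_iff_eq]

end Frame

variable (F : Frame D) (F' : Frame E)

theorem sg_near {k l : ℕ} (hk : k < 1408) (hl : l < 1408) (k1' : kind k = 1) (l1 : kind l = 1)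
    (h : adj k l = true) : F.sg k l = F'.sg k l := by
  have h0 : (0 : ℕ) < 1408 := by norm_num
  have e := (F.parity h0 hk hl (adj_zero.mpr k1') (adj_zero.mpr l1) h).trans
    (F'.parity h0 hk hl (adj_zero.mpr k1') (adj_zero.mpr l1) h).symm
  rw [F.sg_zero hk k1', F.sg_zero hl l1, F'.sg_zero hk k1', F'.sg_zero hl l1] at e
  simpa using e

theorem sg_near_far {r : ℕ} (hr : r < 1408) (r2 : kind r = 2) : ∀ n : ℕ, ∀ q, q < 1408 →
    fld rankTab 16 q = n → kind q = 1 → adj q k2 = true →
      F.sg (qev (sf r) q) r = F'.sg (qev (sf r) q) r := by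
  intro n
  induction n using Nat.strong_induction_on with
  | _ n ih =>
  intro q hq hn q1 qa
  obtain ⟨h0, -⟩ | ⟨h0, -⟩ | ⟨-, hs, hs'⟩ := kind_cases hr
  · omega
  · omega
  rcases com_spec hq q1 qa with rfl | ⟨hp, p1', pa, qp, hrank⟩
  · rw [show qev (sf r) root = link r from rfl, F.sg_link hr r2, F'.sg_link hr r2]
  · set p := fld parTab 16 q
    obtain ⟨-, -, -, -, hk2, -⟩ := Frame.misc_facts
    have hw := below_mono hs
    have eq1 := kind_stab F hs hq q1
    have ep1 := kind_stab F hs hp p1'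
    have a1 := F.adj_word hw hq hk2 qa
    have a2 := F.adj_word hw hp hk2 pa
    have a3 := F.adj_word hw hq hp qp
    rw [hs'] at a1 a2
    have b3 := F.adj_symm (qev_lt hw hq) (qev_lt hw hp) a3
    have i1 := ih _ (hn ▸ hrank) p hp rfl p1' pa
    have i2 := sg_near F F' (qev_lt hw hp) (qev_lt hw hq) ep1 eq1 b3
    have e := (F.parity (qev_lt hw hp) (qev_lt hw hq) hr b3 a2 a1).trans
      (F'.parity (qev_lt hw hp) (qev_lt hw hq) hr b3 a2 a1).symm
    rw [i1, i2] at e
    revert e
    cases F.sg (qev (sf r) q) r <;> cases F'.sg (qev (sf r) q) r <;>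
      cases F'.sg (qev (sf r) p) (qev (sf r) q) <;> cases F'.sg (qev (sf r) p) r <;> simp

theorem sg_mixed {q r : ℕ} (hq : q < 1408) (hr : r < 1408) (q1 : kind q = 1) (r2 : kind r = 2)
    (h : adj q r = true) : F.sg q r = F'.sg q r := by
  obtain ⟨h0, -⟩ | ⟨h0, -⟩ | ⟨-, hs, hs'⟩ := kind_cases hr
  · omega
  · omega
  have hw := below_rev (below_mono hs)
  have e := qev_rev' (below_mono hs) hq
  rw [← e]
  refine sg_near_far F F' hr r2 _ _ (qev_lt hw hq) rfl (kind_stab F (below_rev hs) hq q1) ?_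
  have := F.adj_word hw hq hr h
  rwa [show qev (sf r).reverse r = k2 from by
    conv_lhs => arg 2; rw [← hs']
    exact qev_rev (below_mono hs) Frame.misc_facts.2.2.2.2.1] at this

theorem sg_far {r s : ℕ} (hr : r < 1408) (hs0 : s < 1408) (r2 : kind r = 2) (s2 : kind s = 2)
    (h : adj r s = true) : F.sg r s = F'.sg r s := by
  obtain ⟨h0, -⟩ | ⟨h0, -⟩ | ⟨-, hs, hs'⟩ := kind_cases hr
  · omega
  · omega
  have hw := below_rev (below_mono hs)
  obtain ⟨-, -, -, -, hk2, -⟩ := Frame.misc_facts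
  set s' := qev (sf r).reverse s
  have hs'l : s' < 1408 := qev_lt hw hs0
  have a0 : adj k2 s' = true := by
    have := F.adj_word hw hr hs0 h
    rwa [show qev (sf r).reverse r = k2 from by
      conv_lhs => arg 2; rw [← hs']
      exact qev_rev (below_mono hs) hk2] at this
  have s'2 : kind s' = 2 := by
    obtain ⟨e, e'⟩ | ⟨e, -⟩ | ⟨e, -⟩ := kind_cases hs'l
    · exfalso
      have := qev_rev' (below_mono hs) hs0
      rw [show qev (sf r).reverse s = 0 from e', qev_stab hs] at this
      rw [← this, Frame.misc_facts.1] at s2; omega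
    · exfalso
      have := kind_stab F hs hs'l e
      rw [qev_rev' (below_mono hs) hs0] at this
      omega
    · exact e
  obtain ⟨w1, w2, w3, w4⟩ := far_spec hs'l s'2 a0
  set q := fld farwTab 16 s'
  have hql := qev_lt (below_mono hs) w1
  have q1 := kind_stab F hs w1 w2
  have a1 := F.adj_word (below_mono hs) w1 hk2 w3
  have a2 := F.adj_word (below_mono hs) w1 hs'l w4
  rw [hs'] at a1
  rw [qev_rev' (below_mono hs) hs0] at a2
  have i1 := sg_mixed F F' hql hr q1 r2 a1
  have i2 := sg_mixed F F' hql hs0 q1 s2 a2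
  have e := (F.parity hql hr hs0 a1 a2 h).trans (F'.parity hql hr hs0 a1 a2 h).symm
  rw [i1, i2] at e
  revert e
  cases F.sg r s <;> cases F'.sg r s <;> cases F'.sg (qev (sf r) q) r <;> cases F'.sg (qev (sf r) q) s <;> simp

theorem sg_eq {k l : ℕ} (hk : k < 1408) (hl : l < 1408) (h : adj k l = true) : F.sg k l = F'.sg k l := by
  have h' := F.adj_symm hk hl h
  obtain ⟨-, rfl⟩ | ⟨k1', -⟩ | ⟨k2', -⟩ := kind_cases hk
  · rw [F.sg_zero hl (adj_zero.mp h), F'.sg_zero hl (adj_zero.mp h)]
  · obtain ⟨-, rfl⟩ | ⟨l1, -⟩ | ⟨l2, -⟩ := kind_cases hl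
    · rw [← F.sg_symm hk hl h, ← F'.sg_symm hk hl h, F.sg_zero hk k1', F'.sg_zero hk k1']
    · exact sg_near F F' hk hl k1' l1 h
    · exact sg_mixed F F' hk hl k1' l2 h
  · obtain ⟨-, rfl⟩ | ⟨l1, -⟩ | ⟨l2, -⟩ := kind_cases hl
    · have := adj_zero.mp h'; omega
    · rw [← F.sg_symm hk hl h, ← F'.sg_symm hk hl h, sg_mixed F F' hl hk l1 k2' h']
    · exact sg_far F F' hk hl k2' l2 h

/-- names of the members -/
abbrev Vtx : Type := Unit ⊕ Fin 693 ⊕ (Fin 1408 × Bool)

/-- the member with a name -/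
noncomputable def val : Vtx → G
  | .inl _ => F.a
  | .inr (.inl x) => F.pt x
  | .inr (.inr (k, e)) => F.gv k e

theorem val_mem (v : Vtx) : val F v ∈ D := by
  rcases v with _ | x | ⟨k, e⟩
  · exact F.ha
  · exact (F.pt_mem x.2).1
  · exact (F.sh_mem k.2 _).1

theorem val_inj : Function.Injective (val F) := by
  rintro (_ | x | ⟨k, e⟩) (_ | y | ⟨l, e'⟩) h
  · rfl
  · exact absurd h.symm (F.pt_mem y.2).2.1
  · exact absurd (show Commute F.a (val F (.inr (.inr (l, e')))) from h ▸ Commute.refl F.a) (F.sh_mem l.2 _).2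
  · exact absurd h (F.pt_mem x.2).2.1
  · simp [Fin.ext (F.pt_inj x.2 y.2 h)]
  · exact absurd (show Commute F.a (val F (.inr (.inr (l, e')))) from h ▸ (F.pt_mem x.2).2.2) (F.sh_mem l.2 _).2
  · exact absurd (show Commute F.a (val F (.inr (.inr (k, e)))) from h.symm ▸ Commute.refl F.a) (F.sh_mem k.2 _).2
  · exact absurd (show Commute F.a (val F (.inr (.inr (k, e)))) from h.symm ▸ (F.pt_mem y.2).2.2)
      (F.sh_mem k.2 _).2
  · obtain ⟨h1, h2⟩ := F.sh_inj k.2 l.2 h
    have hkl : k = l := Fin.ext h1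
    subst hkl
    have : e = e' := by revert h2; cases e <;> cases e' <;> cases F.pk k <;> simp
    rw [this]

theorem val_surj (y : D) : ∃ v, val F v = y := by
  rcases F.mem_cases y.2 with h | ⟨x, hx, h⟩ | ⟨k, hk, e, h⟩
  · exact ⟨.inl (), h.symm⟩
  · exact ⟨.inr (.inl ⟨x, hx⟩), h.symm⟩
  · refine ⟨.inr (.inr (⟨k, hk⟩, e == F.pk k)), ?_⟩
    show F.sh k ((e == F.pk k) == F.pk k) = y
    rw [h]; congr 1; cases e <;> cases F.pk k <;> rfl

/-- the numbering of the members -/
noncomputable def vtxEquiv : Vtx ≃ D :=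
  Equiv.ofBijective (fun v => ⟨val F v, val_mem F v⟩)
    ⟨fun _ _ h => val_inj F (congrArg Subtype.val h), fun y => (val_surj F y).imp fun _ h => Subtype.ext h⟩

theorem gv_pair {k : ℕ} (hk : k < 1408) (e e' : Bool) : Commute (F.gv k e) (F.gv k e') ↔ e = e' := by
  refine ⟨fun h => ?_, fun h => h ▸ Commute.refl _⟩
  by_contra hne
  have h' : Commute (F.sh k true) (F.sh k false) := by
    revert h
    rw [Frame.gv, Frame.gv]
    cases e <;> cases e' <;> cases F.pk k <;> simp_all [Commute.symm_iff]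
  exact F.sh_pair hk h'

theorem val_commute (u v : Vtx) : Commute (val F u) (val F v) ↔ Commute (val F' u) (val F' v) := by
  rcases u with _ | x | ⟨k, e⟩ <;> rcases v with _ | y | ⟨l, e'⟩
  · exact iff_of_true (Commute.refl _) (Commute.refl _)
  · exact iff_of_true (F.pt_mem y.2).2.2 (F'.pt_mem y.2).2.2
  · exact iff_of_false (F.sh_mem l.2 _).2 (F'.sh_mem l.2 _).2
  · exact iff_of_true (F.pt_mem x.2).2.2.symm (F'.pt_mem x.2).2.2.symm
  · exact (F.commute_pt x.2 y.2).trans (F'.commute_pt x.2 y.2).symm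
  · show Commute (F.pt x) (F.sh l _) ↔ Commute (F'.pt x) (F'.sh l _)
    rw [Commute.symm_iff, F.sh_pt l.2 x.2, Commute.symm_iff, F'.sh_pt l.2 x.2]
  · exact iff_of_false (fun h => (F.sh_mem k.2 _).2 h.symm) (fun h => (F'.sh_mem k.2 _).2 h.symm)
  · show Commute (F.sh k _) (F.pt y) ↔ Commute (F'.sh k _) (F'.pt y)
    rw [F.sh_pt k.2 y.2, F'.sh_pt k.2 y.2]
  · show Commute (F.gv k e) (F.gv l e') ↔ Commute (F'.gv k e) (F'.gv l e')
    by_cases hkl : k = l
    · subst hkl
      exact (gv_pair F k.2 e e').trans (gv_pair F' k.2 e e').symm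
    · have hne : (k : ℕ) ≠ l := fun e => hkl (Fin.ext e)
      by_cases ha : adj (k : ℕ) l = true
      · rw [F.gv_commute k.2 l.2 ha, F'.gv_commute k.2 l.2 ha, sg_eq F F' k.2 l.2 ha]
      · exact iff_of_false (fun h => ha ((F.adj_iff k.2 l.2 _).mpr ⟨hne, _, h⟩))
          (fun h => ha ((F'.adj_iff k.2 l.2 _).mpr ⟨hne, _, h⟩))

include F in
theorem third (x y z : D) (hxy : ¬ Commute (x : G) (y : G)) (hzx : z ≠ x) (hzy : z ≠ y)
    (h : ∀ w : D, Commute (w : G) (x : G) → Commute (w : G) (y : G) → Commute (w : G) (z : G)) :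
    (z : G) = x * y * (x : G)⁻¹ := by
  obtain ⟨g, hg⟩ := F.trans _ x.2 _ F.ha
  set Y := g * (y : G) * g⁻¹ with hY
  set Z := g * (z : G) * g⁻¹ with hZ
  have hYa : ¬ Commute F.a Y := by rw [← hg, hY, commute_conj_iff]; exact hxy
  have hcommon : ∀ w ∈ D, Commute w F.a → Commute w Y → Commute w Z := by
    intro w hw h1 h2
    have := h ⟨g⁻¹ * w * g, by simpa using F.three.2.1 g⁻¹ w hw⟩
      (by rw [← commute_conj_iff (g := g), hg, show g * (g⁻¹ * w * g) * g⁻¹ = w by group]; exact h1)
      (by rw [← commute_conj_iff (g := g), show g * (g⁻¹ * w * g) * g⁻¹ = w by group]; exact h2)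
    rw [← commute_conj_iff (g := g), show g * (g⁻¹ * w * g) * g⁻¹ = w by group] at this
    exact this
  rcases F.mem_cases (F.three.2.1 g _ y.2) with e | ⟨p, hp, e⟩ | ⟨k, hk, ey, e⟩
  · exact absurd (show Commute F.a Y by rw [hY, e]) hYa
  · exact absurd (show Commute F.a Y by rw [hY, e]; exact (F.pt_mem hp).2.2) hYa
  rw [← hY] at e
  have hset : ∀ t < 693, inS k t = true → Commute (F.pt t) Z := fun t ht hin =>
    hcommon _ (F.pt_mem ht).1 (F.pt_mem ht).2.2.symm (e ▸ ((F.sh_pt hk ht ey).mpr hin).symm)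
  have hzk : ∀ e', Z = F.sh k e' → (z : G) = x * y * (x : G)⁻¹ := by
    intro e' he'
    have hne : e' = !ey := by
      by_contra hne
      have : e' = ey := by cases e' <;> cases ey <;> simp_all
      subst this
      exact hzy (Subtype.ext (mul_left_cancel (mul_right_cancel ((hZ.symm.trans he').trans e.symm))))
    rw [hne, ← F.conj_a_sh, ← e, hZ, hY, ← hg] at he'
    have : g * (z : G) * g⁻¹ = g * ((x : G) * y * (x : G)⁻¹) * g⁻¹ := by rw [he']; group
    exact mul_left_cancel (mul_right_cancel this)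
  rcases F.mem_cases (F.three.2.1 g _ z.2) with e' | ⟨p, hp, e'⟩ | ⟨l, hl, ez, e'⟩ <;> rw [← hZ] at e'
  · exact absurd (Subtype.ext (mul_left_cancel (mul_right_cancel ((hZ.symm.trans e').trans hg.symm)))) hzx
  · exfalso
    obtain ⟨h1, h2⟩ := kw_spec hk
    set p' := pev (kw k).reverse p with hp'
    have hp'l : p' < 693 := pev_lt (below_rev h1) hp
    have hall : ∀ t < 693, inT0 t = true → orth p' t = true := by
      intro t ht hT
      have htl := pev_lt h1 ht
      have hin : inS k (pev (kw k) t) = true := by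
        have e := F.inS_word h1 (show (0 : ℕ) < 1408 by norm_num) ht
        rw [h2, Frame.inS_zero] at e; rw [e]; exact hT
      have := hset _ htl hin
      rw [e', F.commute_pt htl hp] at this
      rw [← F.orth_conj h1 hp'l ht, hp', pev_rev' h1 hp, ← F.commute_pt hp htl, Commute.symm_iff,
        F.commute_pt htl hp]
      exact this
    by_cases hT : inT0 p' = true
    · obtain ⟨t1, t2, t3⟩ := tw_word hp'l hT
      obtain ⟨i, hi, hio⟩ := zero_ok.2 _ t1
      have hgl : gpt i < 693 := gpt_lt (by omega)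
      have := hall _ (pev_lt (below_mono t2) hgl) ((F.T_stab t2 hgl).trans (gpt_T hi))
      have e := F.orth_conj (below_mono t2) (gpt_lt (show twJ p' < 8 by omega)) hgl
      rw [t3, this, hio] at e
      exact Bool.noConfusion e
    · rw [Bool.not_eq_true] at hT
      have h30 := F.cnt_out hp'l hT
      rw [Frame.cnt_congr (g := fun _ => true) hall, Frame.cnt_list, List.filter_eq_self.mpr (fun _ _ => rfl),
        t0_ok.2] at h30
      omega
  · have hkl : k = l := F.set_inj hk hl fun t ht hin => by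
      rw [← F.sh_pt hl ht ez, ← e', Commute.symm_iff]; exact hset t ht hin
    subst hkl
    exact hzk ez e'

include F F' in
theorem exists_equiv_of_frames (hZ : Subgroup.center G = ⊥) (hZ' : Subgroup.center H = ⊥) :
    ∃ e : G ≃* H, e '' D = E := by
  refine exists_equiv F.three F'.three hZ hZ' ((vtxEquiv F).symm.trans (vtxEquiv F')) (fun x y => ?_)
    (third F')
  obtain ⟨u, rfl⟩ := (vtxEquiv F).surjective x
  obtain ⟨v, rfl⟩ := (vtxEquiv F).surjective y
  simp only [Equiv.trans_apply, Equiv.symm_apply_apply]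
  exact (val_commute F F' u v).symm

include F in
theorem ncard_set : D.ncard = 3510 := by
  rw [← Nat.card_coe_set_eq, ← Nat.card_congr (vtxEquiv F)]
  simp

end Cfsg.Agent.Spor.M22U
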