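import Cfsg.Agent.Lib.Spor.M22UInvClasses

/-!
A product of two commuting members determines them; a product of three comes from exactly two triples.
-/

set_option autoImplicit false
set_option maxRecDepth 100000
set_option linter.unusedSectionVars false

namespace Cfsg.Agent.Spor.M22U.Triples

open Cfsg.Agent.Spor.CC Cfsg.Agent.Spor.Fi22Cert Cfsg.Agent.Spor.Fi22Cert.U62Act TDat InvClasses
open Cfsg.Agent.Spor.M22U.Tuples (P p0)

universe u
variable {G : Type u} [Group G] [Finite G] {D : Set G}
variable (hD : Cfsg.IsThreeTranspositionGroup D) (hprim : Cfsg.IsPrimitiveUnderConj D)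
  (ht : Cfsg.IsOfTypeM22 G D)

include hD hprim ht in
theorem commute_parts_two {a b z : G} (ha : a ∈ D) (hb : b ∈ D) (hz : z ∈ D) (hab : a ≠ b) (cab : Commute a b)
    (h : Commute (a * b) z) : Commute a z ∧ Commute b z := by
  obtain ⟨e, he, hea, heb⟩ := Tuples.normal2 hD hprim ht ha hb hab cab
  rw [← he] at hz
  obtain ⟨v, hv, rfl⟩ := hz
  rw [← hea, ← heb, ← map_mul] at h
  have h' : Commute (([0, 1] : List ℕ).map T).prod v := by
    simp only [List.map_cons, List.map_nil, List.prod_cons, List.prod_nil, mul_one, T_zero, T_names.1]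
    exact e.injective ((map_mul e _ _).trans (h.eq.trans (map_mul e _ _).symm))
  have hk := all_range (p := TupChecks.twoFix) TupChecks.two_fix0 (Nat.zero_le _)
    (show (Fischer.theta ⟨v, hv⟩ : ℕ) < 0 + 3510 by rw [Nat.zero_add]; exact (Fischer.theta ⟨v, hv⟩).2)
  simp only [TupChecks.twoFix, (fixed_iff _ ⟨v, hv⟩).mp h', Bool.not_true, Bool.false_or, Bool.and_eq_true] at hk
  have k0 := (fixed_iff [0] ⟨v, hv⟩).mpr hk.1
  have k1 := (fixed_iff [1] ⟨v, hv⟩).mpr hk.2
  simp only [List.map_cons, List.map_nil, List.prod_cons, List.prod_nil, mul_one, T_zero, T_names.1] at k0 k1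
  rw [← hea, ← heb]
  exact ⟨k0.map e, k1.map e⟩

include hD hprim ht in
theorem pair_member {a b c d : G} (ha : a ∈ D) (hb : b ∈ D) (hc : c ∈ D) (hd : d ∈ D) (hab : a ≠ b)
    (cab : Commute a b) (ccd : Commute c d) (h : a * b = c * d) : c = a ∨ c = b := by
  by_contra hne
  push Not at hne
  have hc2 : c * c = 1 := Spor.mul_self_of_order_two (hD.1.1 c hc)
  have hcj : Commute (a * b) c := by
    rw [h]
    exact ((Commute.refl c).mul_left ccd.symm)
  obtain ⟨h1, h2⟩ := commute_parts_two hD hprim ht ha hb hc hab cab hcj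
  have e : a * b * c = d := by
    rw [h, ccd.eq, mul_assoc, hc2, mul_one]
  have f1 := fx_three hD hprim ht ha hb hc hab (Ne.symm hne.1) (Ne.symm hne.2) cab h1 h2
  rw [e, fx_one hD hprim ht hd] at f1
  omega

include hD hprim ht in
theorem pair_eq {a b c d : G} (ha : a ∈ D) (hb : b ∈ D) (hc : c ∈ D) (hd : d ∈ D) (hab : a ≠ b) (hcd : c ≠ d)
    (cab : Commute a b) (ccd : Commute c d) (h : a * b = c * d) :
    ∀ x : G, x ∈ [c, d] ↔ x ∈ [a, b] := by
  have h1 := pair_member hD hprim ht ha hb hc hd hab cab ccd h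
  have h2 := pair_member hD hprim ht ha hb hd hc hab cab ccd.symm (h.trans ccd.eq)
  intro x
  simp only [List.mem_cons, List.not_mem_nil, or_false]
  rcases h1 with rfl | rfl <;> rcases h2 with rfl | rfl
  · exact absurd rfl hcd
  · exact Iff.rfl
  · exact or_comm
  · exact absurd rfl hcd

include hD hprim ht in
theorem triples {a b c : G} (hl : Good D [a, b, c]) :
    ∃ l₂ : List G, (Good D l₂ ∧ l₂.length = 3 ∧ l₂.prod = a * b * c) ∧
      ¬ (∀ x : G, x ∈ [a, b, c] ↔ x ∈ l₂) ∧
      ∀ p q r : G, Good D [p, q, r] → p * q * r = a * b * c →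
        (∀ x : G, x ∈ [p, q, r] ↔ x ∈ [a, b, c]) ∨ ∀ x : G, x ∈ [p, q, r] ↔ x ∈ l₂ := by
  obtain ⟨hn, hmem, hcom⟩ := hl
  simp only [List.nodup_cons, List.mem_cons, List.not_mem_nil, or_false, not_or, List.nodup_nil, and_true,
    not_false_eq_true] at hn
  obtain ⟨⟨hab, hac⟩, hbc⟩ := hn
  have ha := hmem a (by simp)
  have hb := hmem b (by simp)
  have hc := hmem c (by simp)
  have cab := hcom a (by simp) b (by simp)
  have cac := hcom a (by simp) c (by simp)
  have cbc := hcom b (by simp) c (by simp)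
  obtain ⟨e, he, hea, heb, hec⟩ := Tuples.normal3 hD hprim ht ha hb hc hab hac hbc cab cac cbc
  obtain ⟨hok1, hok2, hd1, hd2⟩ := TupChecks.lists_ok
  obtain ⟨e1, e2, e3, e4, e5, e6⟩ := T_names
  have hTD : ∀ i, e (T i) ∈ D := fun i => by
    rw [← he]; exact ⟨_, (Fischer.mem (TupChecks.mw i)).2, rfl⟩
  have hrel : e (T 3) * e (T 4) * e (T 5) = a * b * c := by
    rw [← hea, ← heb, ← hec, ← map_mul, ← map_mul, ← map_mul, ← map_mul]
    congr 1
    have := rel (u := [0, 1, 2]) (v := [3, 4, 5]) (by simp)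
    simpa [T_zero, e1, e2, mul_assoc] using this.symm
  have hTc : ∀ i j, i ∈ [0, 1, 2, 3, 4, 5] → j ∈ [0, 1, 2, 3, 4, 5] → Commute (e (T i)) (e (T j)) :=
    fun i j hi hj => (T_comm hok1 hi hj).map e
  have hnd : ([0, 1, 2, 3, 4, 5, 6].map fun i => e (T i)).Nodup := by
    rw [show (fun i => e (T i)) = e ∘ T from rfl, ← List.map_map]
    exact (T_ne hd1).map e.injective
  have hneT : ∀ i j, i < 7 → j < 7 → e (T i) = e (T j) → i = j := by
    intro i j hi hj h
    rw [List.nodup_map_iff_inj_on (by decide)] at hnd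
    exact hnd i (by simp; omega) j (by simp; omega) h
  refine ⟨[e (T 3), e (T 4), e (T 5)], ⟨⟨?_, ?_, ?_⟩, rfl, by simpa [mul_assoc] using hrel⟩, ?_, ?_⟩
  · simp only [List.nodup_cons, List.mem_cons, List.not_mem_nil, or_false, not_or, List.nodup_nil, and_true,
      not_false_eq_true]
    exact ⟨⟨fun h => absurd (hneT 3 4 (by norm_num) (by norm_num) h) (by norm_num),
      fun h => absurd (hneT 3 5 (by norm_num) (by norm_num) h) (by norm_num)⟩,
      fun h => absurd (hneT 4 5 (by norm_num) (by norm_num) h) (by norm_num)⟩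
  · intro x hx
    simp only [List.mem_cons, List.not_mem_nil, or_false] at hx
    rcases hx with rfl | rfl | rfl <;> exact hTD _
  · intro x hx y hy
    simp only [List.mem_cons, List.not_mem_nil, or_false] at hx hy
    rcases hx with rfl | rfl | rfl <;> rcases hy with rfl | rfl | rfl <;> exact hTc _ _ (by simp) (by simp)
  · intro h
    have := (h a).mp (by simp)
    simp only [List.mem_cons, List.not_mem_nil, or_false] at this
    rw [← hea, ← T_zero] at this
    rcases this with h' | h' | h' <;> exact absurd (hneT _ _ (by norm_num) (by norm_num) h') (by norm_num)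
  intro p q r hpqr hprod
  obtain ⟨hn', hmem', hcom'⟩ := hpqr
  simp only [List.nodup_cons, List.mem_cons, List.not_mem_nil, or_false, not_or, List.nodup_nil, and_true,
    not_false_eq_true] at hn'
  obtain ⟨⟨hpq, hpr⟩, hqr⟩ := hn'
  have hp := hmem' p (by simp)
  have hq := hmem' q (by simp)
  have hr := hmem' r (by simp)
  have cqr := hcom' q (by simp) r (by simp)
  have hp2 : p * p = 1 := Spor.mul_self_of_order_two (hD.1.1 p hp)
  have hpj : Commute (a * b * c) p := by
    rw [← hprod]
    exact ((Commute.refl p).mul_left (hcom' q (by simp) p (by simp))).mul_left (hcom' r (by simp) p (by simp))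
  have hqrj : q * r = p * (a * b * c) := by
    rw [← hprod, ← mul_assoc, ← mul_assoc, hp2, one_mul]
  -- a member commuting with the product commutes with all three
  have hparts : Commute a p ∧ Commute b p ∧ Commute c p := by
    have hp' := hp
    rw [← he] at hp'
    obtain ⟨v, hv, hve⟩ := hp'
    rw [← hea, ← heb, ← hec, ← hve, ← map_mul, ← map_mul] at hpj
    have h' : Commute (([0, 1, 2] : List ℕ).map T).prod v := by
      simp only [List.map_cons, List.map_nil, List.prod_cons, List.prod_nil, mul_one, T_zero, e1, e2, ← mul_assoc]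
      exact e.injective ((map_mul e _ _).trans (hpj.eq.trans (map_mul e _ _).symm))
    have hk := all_range (p := TupChecks.threeFix) TupChecks.three_fix0 (Nat.zero_le _)
      (show (Fischer.theta ⟨v, hv⟩ : ℕ) < 0 + 3510 by rw [Nat.zero_add]; exact (Fischer.theta ⟨v, hv⟩).2)
    simp only [TupChecks.threeFix, (fixed_iff _ ⟨v, hv⟩).mp h', Bool.not_true, Bool.false_or,
      Bool.and_eq_true] at hk
    have k0 := (fixed_iff [0] ⟨v, hv⟩).mpr hk.1.1
    have k1 := (fixed_iff [1] ⟨v, hv⟩).mpr hk.1.2
    have k2 := (fixed_iff [2] ⟨v, hv⟩).mpr hk.2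
    simp only [List.map_cons, List.map_nil, List.prod_cons, List.prod_nil, mul_one, T_zero, e1, e2] at k0 k1 k2
    rw [← hea, ← heb, ← hec, ← hve]
    exact ⟨k0.map e, k1.map e, k2.map e⟩
  have hpair : ∀ s t : G, s ∈ D → t ∈ D → s ≠ t → Commute s t → s * t = q * r →
      ∀ x : G, x ∈ [q, r] ↔ x ∈ [s, t] := fun s t hs hs' hst cst h =>
    pair_eq hD hprim ht hs hs' hq hr hst hqr cst cqr h
  have hcase : ∀ s t w : G, p = s → (∀ x : G, x ∈ [q, r] ↔ x ∈ [t, w]) → ∀ x : G, x ∈ [p, q, r] ↔ x ∈ [s, t, w] := by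
    intro s t w hs h x
    rw [List.mem_cons, h x, hs]
    exact (List.mem_cons (a := x) (b := s) (l := [t, w])).symm
  by_cases hpa : p = a
  · left
    have e' : b * c = q * r := by
      rw [hqrj, hpa, mul_assoc a b c, ← mul_assoc, Spor.mul_self_of_order_two (hD.1.1 a ha), one_mul]
    exact hcase a b c hpa (hpair b c hb hc hbc cbc e')
  by_cases hpb : p = b
  · left
    have e' : a * c = q * r := by
      rw [hqrj, hpb, ← mul_assoc, ← mul_assoc, ← cab.eq, mul_assoc a b b,
        Spor.mul_self_of_order_two (hD.1.1 b hb), mul_one]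
    intro x
    rw [hcase b a c hpb (hpair a c ha hc hac cac e') x]
    simp only [List.mem_cons, List.not_mem_nil, or_false]
    exact or_left_comm
  by_cases hpc : p = c
  · left
    have hcab : Commute c (a * b) := cac.symm.mul_right cbc.symm
    have e' : a * b = q * r := by
      rw [hqrj, hpc, ← mul_assoc, hcab.eq, mul_assoc, Spor.mul_self_of_order_two (hD.1.1 c hc), mul_one]
    intro x
    rw [hcase c a b hpc (hpair a b ha hb hab cab e') x]
    simp only [List.mem_cons, List.not_mem_nil, or_false]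
    tauto
  rcases Tuples.normal4 e he hp (by rw [hea]; exact hpa) (by rw [heb]; exact hpb) (by rw [hec]; exact hpc)
    (by rw [hea]; exact hparts.1) (by rw [heb]; exact hparts.2.1) (by rw [hec]; exact hparts.2.2) with
    ⟨l, hl, hle⟩ | ⟨e', he', g1, g2, g3, g4⟩
  · right
    have hline : line = [line.getD 0 0, line.getD 1 0, line.getD 2 0] := by decide +kernel
    have c34 := hTc 3 4 (by simp) (by simp)
    have c35 := hTc 3 5 (by simp) (by simp)
    have c45 := hTc 4 5 (by simp) (by simp)
    have sq : ∀ i, e (T i) * e (T i) = 1 := fun i => Spor.mul_self_of_order_two (hD.1.1 _ (hTD i))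
    have ne' : ∀ i j, i < 7 → j < 7 → i ≠ j → e (T i) ≠ e (T j) := fun i j hi hj h h' => h (hneT i j hi hj h')
    rw [hline] at hl
    simp only [List.mem_cons, List.not_mem_nil, or_false] at hl
    rcases hl with rfl | rfl | rfl
    · rw [← e3] at hle
      have e' : e (T 4) * e (T 5) = q * r := by
        rw [hqrj, ← hrel, ← hle, ← mul_assoc, ← mul_assoc, sq, one_mul]
      exact hcase _ _ _ hle.symm (hpair _ _ (hTD 4) (hTD 5) (ne' 4 5 (by norm_num) (by norm_num) (by norm_num)) c45 e')
    · rw [← e4] at hle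
      have e' : e (T 3) * e (T 5) = q * r := by
        rw [hqrj, ← hrel, ← hle, ← mul_assoc, ← mul_assoc, ← c34.eq, mul_assoc (e (T 3)), sq, mul_one]
      intro x
      rw [hcase _ _ _ hle.symm (hpair _ _ (hTD 3) (hTD 5) (ne' 3 5 (by norm_num) (by norm_num) (by norm_num)) c35 e') x]
      simp only [List.mem_cons, List.not_mem_nil, or_false]
      exact or_left_comm
    · rw [← e5] at hle
      have e' : e (T 3) * e (T 4) = q * r := by
        rw [hqrj, ← hrel, ← hle, ← mul_assoc, (c35.symm.mul_right c45.symm).eq, mul_assoc, sq, mul_one]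
      intro x
      rw [hcase _ _ _ hle.symm (hpair _ _ (hTD 3) (hTD 4) (ne' 3 4 (by norm_num) (by norm_num) (by norm_num)) c34 e') x]
      simp only [List.mem_cons, List.not_mem_nil, or_false]
      tauto
  · exfalso
    have f2 := fx_two hD hprim ht hq hr hqr cqr
    have hr7 : e' (T 7) * e' (T 8) * e' (T 9) = a * b * c * p := by
      rw [← hea, ← heb, ← hec, ← g1, ← g2, ← g3, ← g4, ← map_mul, ← map_mul, ← map_mul, ← map_mul, ← map_mul]
      congr 1
      have := rel (u := [0, 1, 2, 6]) (v := [7, 8, 9]) (by simp)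
      simpa [T_zero, e1, e2, e6, mul_assoc] using this.symm
    rw [hqrj, ← hpj.eq, ← hr7] at f2
    have hnd' := T_ne hd2
    simp only [List.map_cons, List.map_nil, List.nodup_cons, List.mem_cons, List.not_mem_nil, or_false, not_or,
      List.nodup_nil, and_true, not_false_eq_true] at hnd'
    have hTD' : ∀ i, e' (T i) ∈ D := fun i => by
      rw [← he']; exact ⟨_, (Fischer.mem (TupChecks.mw i)).2, rfl⟩
    rw [fx_three hD hprim ht (hTD' 7) (hTD' 8) (hTD' 9) (fun h => hnd'.1.1 (e'.injective h))
      (fun h => hnd'.1.2 (e'.injective h)) (fun h => hnd'.2 (e'.injective h)) ((T_comm hok2 (by simp) (by simp)).map e')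
      ((T_comm hok2 (by simp) (by simp)).map e') ((T_comm hok2 (by simp) (by simp)).map e')] at f2
    omega

end Cfsg.Agent.Spor.M22U.Triples
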