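import Cfsg.Agent.Lib.Spor.ThreeLayer
import Cfsg.Agent.Lib.Spor.ThreeConnected
import Cfsg.Agent.Lib.Fischer.Transitive

/-!
The derived group of a 3-transposition group with central 2- and 3-core and perfect derived group.
-/

set_option autoImplicit false
set_option linter.unusedSectionVars false

namespace Cfsg.Agent.Spor

open scoped commutatorElement

variable {G : Type*} [Group G] [Finite G] {D : Set G}

theorem class_sup_zpowers (hD : Cfsg.IsThreeTranspositionClass D) {a : G}
    {L : Subgroup G} (h : ∀ b ∈ D, b ∈ L ⊔ Subgroup.zpowers a) :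
    L ⊔ Subgroup.zpowers a = ⊤ := by
  rw [eq_top_iff, ← (class_isGroup hD).2.2, Subgroup.closure_le]
  exact h

theorem derived_structure (hD : Cfsg.IsThreeTranspositionClass D) (hD2 : ∃ a ∈ D, ∃ b ∈ D, a ≠ b)
    (h2 : Cfsg.pCore 2 G ≤ Subgroup.center G) (h3 : Cfsg.pCore 3 G ≤ Subgroup.center G)
    (hperf : ⁅commutator G, commutator G⁆ = commutator G) :
    Cfsg.IsQuasisimple (commutator G) ∧ (commutator G).index ≤ 2 ∧
      Cfsg.generalizedFittingSubgroup G = Subgroup.center G ⊔ commutator G ∧
      Cfsg.IsPrimitiveUnderConj D := by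
  have hG := class_isGroup hD
  have hprim := (Cfsg.Agent.Fischer.primitive hD hD2 h2 h3 hperf).1
  obtain ⟨a, ha, -⟩ := hD2
  have hidx : (commutator G).index ≤ 2 := by
    have htop : commutator G ⊔ Subgroup.zpowers a = ⊤ :=
      class_sup_zpowers hD fun b hb => by
        obtain ⟨g, rfl⟩ := class_conj hD ha hb
        rw [show g * a * g⁻¹ = ⁅g, a⁆ * a by rw [commutatorElement_def]; group]
        exact mul_mem (Subgroup.mem_sup_left
            (Subgroup.commutator_mem_commutator (Subgroup.mem_top g) (Subgroup.mem_top a)))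
          (Subgroup.mem_sup_right (Subgroup.mem_zpowers a))
    have hgen : ∀ x : G ⧸ commutator G, x ∈ Subgroup.zpowers (QuotientGroup.mk' (commutator G) a) := by
      intro x
      obtain ⟨x, rfl⟩ := QuotientGroup.mk'_surjective _ x
      have hx : x ∈ commutator G ⊔ Subgroup.zpowers a := htop ▸ Subgroup.mem_top x
      rw [Subgroup.mem_sup_of_normal_left] at hx
      obtain ⟨n, hn, _, ⟨k, rfl⟩, rfl⟩ := hx
      refine ⟨k, ?_⟩
      simp [(QuotientGroup.eq_one_iff n).2 hn]
    calc (commutator G).index = Nat.card (G ⧸ commutator G) := rfl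
      _ = orderOf (QuotientGroup.mk' (commutator G) a) := (orderOf_eq_card_of_forall_mem_zpowers hgen).symm
      _ ≤ 2 := Nat.le_of_dvd two_pos (orderOf_dvd_of_pow_eq_one (by
          rw [← map_pow, pow_two, mul_self_of_order_two (hD.1.1 a ha), map_one]))
  obtain ⟨L, hLn, hL, hF⟩ := exists_qs hD hprim.2.1 h2 h3
  haveI := hLn
  have hLG : L ≤ commutator G := by
    haveI := hL.1
    intro x hx
    have h1 : (⟨x, hx⟩ : L) ∈ commutator ↥L := by
      rw [Group.IsPerfect.commutator_eq_top]; trivial
    have h2' : (commutator ↥L).map L.subtype ≤ commutator G := by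
      rw [commutator_def, Subgroup.map_commutator, commutator_def]
      exact Subgroup.commutator_mono le_top le_top
    exact h2' ⟨_, h1, rfl⟩
  have hGL : commutator G ≤ L := by
    rcases relation_dichotomy hG hprim (fun u v => ∃ x ∈ L, x * u * x⁻¹ = v)
        (fun u _ => ⟨1, one_mem _, by group⟩)
        (fun u _ v _ ⟨x, hx, e⟩ => ⟨x⁻¹, inv_mem hx, by rw [← e]; group⟩)
        (fun u _ v _ w _ ⟨x, hx, e⟩ ⟨y, hy, e'⟩ => ⟨y * x, mul_mem hy hx, by rw [← e', ← e]; group⟩)
        (fun g u _ v _ ⟨x, hx, e⟩ => ⟨g * x * g⁻¹, hLn.conj_mem x hx g, by rw [← e]; group⟩)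
      with hcase | hcase
    · exfalso
      have hcomm : ∀ x ∈ L, ∀ u ∈ D, x * u = u * x := fun x hx u hu => by
        have := hcase u hu (x * u * x⁻¹) (hG.2.1 x u hu) ⟨x, hx, rfl⟩
        exact mul_inv_eq_iff_eq_mul.1 this.symm
      have hLc : L ≤ Subgroup.center G := by
        intro x hx
        have hle : Subgroup.closure D ≤ Subgroup.centralizer ({x} : Set G) :=
          (Subgroup.closure_le _).2 fun u hu =>
            Subgroup.mem_centralizer_singleton_iff.2 (hcomm x hx u hu).symm
        rw [Subgroup.mem_center_iff]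
        intro g
        exact Subgroup.mem_centralizer_singleton_iff.1 (hle (hG.2.2 ▸ Subgroup.mem_top g))
      haveI := hL.2
      have htopc : Subgroup.center ↥L = ⊤ := eq_top_iff.2 fun x _ => Subgroup.mem_center_iff.2
        fun y => Subtype.ext ((Subgroup.mem_center_iff.1 (hLc x.2) y.1))
      exact not_subsingleton (↥L ⧸ Subgroup.center ↥L)
        (QuotientGroup.subsingleton_iff.2 htopc)
    · have htop := class_sup_zpowers hD (a := a) (L := L) (fun b hb => by
        obtain ⟨x, hx, rfl⟩ := hcase a ha b hb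
        exact mul_mem (mul_mem (Subgroup.mem_sup_left hx) (Subgroup.mem_sup_right (Subgroup.mem_zpowers a)))
          (inv_mem (Subgroup.mem_sup_left hx)))
      refine Subgroup.Normal.quotient_commutative_iff_commutator_le.1 ⟨⟨fun x y => ?_⟩⟩
      have hgen : ∀ x : G ⧸ L, x ∈ Subgroup.zpowers (QuotientGroup.mk' L a) := by
        intro x
        obtain ⟨x, rfl⟩ := QuotientGroup.mk'_surjective _ x
        have hx : x ∈ L ⊔ Subgroup.zpowers a := htop ▸ Subgroup.mem_top x
        rw [Subgroup.mem_sup_of_normal_left] at hx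
        obtain ⟨n, hn, _, ⟨k, rfl⟩, rfl⟩ := hx
        refine ⟨k, ?_⟩
        simp [(QuotientGroup.eq_one_iff n).2 hn]
      obtain ⟨i, hi⟩ := hgen x
      obtain ⟨j, hj⟩ := hgen y
      rw [← hi, ← hj]
      exact ((Commute.refl _).zpow_zpow i j).eq
  have heq : commutator G = L := le_antisymm hGL hLG
  refine ⟨heq ▸ hL, hidx, ?_, hprim⟩
  rw [hF, heq, sup_comm]

end Cfsg.Agent.Spor
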