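import Cfsg.Agent.Lib.Spor.ReflThree
import Cfsg.Agent.Lib.Spor.ThreeDerived
import Cfsg.Agent.Lib.Classical.OrthRoot
import Cfsg.Agent.Lib.Solv.Component

/-!
The reflection groups over the field with three elements: perfect derived group, central cores.
-/

set_option autoImplicit false
set_option linter.unusedSectionVars false

namespace Cfsg.Agent.Spor.ReflThree

open Module QuadraticMap Cfsg.Agent.Classical.ORefl Cfsg.Agent.Classical.OCount
  Cfsg.Agent.Classical.OOmega
open scoped commutatorElement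

variable {ι : Type} [Fintype ι] [DecidableEq ι] {Q : QuadraticForm (ZMod 3) (ι → ZMod 3)} {c : ZMod 3}

set_option quotPrecheck false in
local notation "RR" => ↥(Cfsg.reflectionSubgroup ⇑Q c)

/-- a reflection as an element of the group generated by the reflections of its norm -/
noncomputable def r (v : ι → ZMod 3) (hv : Q v = c) : RR :=
  ⟨toMat Q (rf Q v), Subgroup.subset_closure (mem_refl_iff.2 ⟨v, hv, rfl⟩)⟩

theorem r_congr {v w : ι → ZMod 3} (h : v = w) (hv : Q v = c) (hw : Q w = c) : r v hv = r w hw := by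
  subst h; rfl

theorem r_neg {v : ι → ZMod 3} (hv : Q v = c) (hv' : Q (-v) = c) : r (-v) hv' = r v hv := by
  apply Subtype.ext
  show toMat Q (rf Q (-v)) = toMat Q (rf Q v)
  rw [← neg_one_smul (ZMod 3) v, rf_smul (by decide)]

theorem r_sq {v : ι → ZMod 3} (hv : Q v = c) : r v hv * r v hv = 1 := by
  apply Subtype.ext
  show toMat Q (rf Q v) * toMat Q (rf Q v) = 1
  rw [← map_mul, rf_mul_self, map_one]

theorem r_inv {v : ι → ZMod 3} (hv : Q v = c) : (r v hv)⁻¹ = r v hv :=
  inv_eq_of_mul_eq_one_right (r_sq hv)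

theorem refl_value {h x : ι → ZMod 3} (hh : Q h = c) (hx : Q x = c) :
    Q (x - (c⁻¹ * polar Q h x) • h) = c := by
  rw [← rf_apply hh x, (rf Q h).2 x, hx]

theorem r_conj {h x x' : ι → ZMod 3} (hh : Q h = c) (hx : Q x = c) (hx' : Q x' = c)
    (e : x - (c⁻¹ * polar Q h x) • h = x') : r h hh * r x hx * (r h hh)⁻¹ = r x' hx' := by
  apply Subtype.ext
  show toMat Q (rf Q h) * toMat Q (rf Q x) * (toMat Q (rf Q h))⁻¹ = toMat Q (rf Q x')
  rw [← map_inv, ← map_mul, ← map_mul, conj_rf, rf_apply hh, e]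

theorem exists_r {d : RR} (hd : (d : ↥(Cfsg.isometryGroup (ZMod 3) ⇑Q)) ∈ Cfsg.reflectionsOfNorm ⇑Q c) :
    ∃ v, ∃ hv : Q v = c, d = r v hv := by
  obtain ⟨v, hv, e⟩ := mem_refl_iff.1 hd
  exact ⟨v, hv, Subtype.ext e⟩

theorem r_eq_span (hc : c ≠ 0) {v w : ι → ZMod 3} (hv : Q v = c) (hw : Q w = c) (h : r v hv = r w hw) :
    ∃ t : ZMod 3, w = t • v := by
  have e' : rf Q v = rf Q w := (toMat Q).injective (congrArg Subtype.val h)
  have h1 : (rf Q v).1 w = (rf Q w).1 w := by rw [e']
  rw [rf_apply hv, rf_apply hw, polar_self_two, hw, mul_left_comm, inv_mul_cancel₀ hc, mul_one] at h1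
  refine ⟨2 * (c⁻¹ * polar Q v w), ?_⟩
  generalize c⁻¹ * polar Q v w = k at h1
  ext i
  have h2 := congrFun h1 i
  simp only [Pi.sub_apply, Pi.smul_apply, smul_eq_mul] at h2 ⊢
  revert h2
  clear h1
  generalize w i = a, v i = b
  revert a b k
  decide

theorem r_braid {v w : ι → ZMod 3} (hv : Q v = c) (hw : Q w = c) (h : polar Q v w ≠ 0) (hc : c ≠ 0) :
    (r v hv * r w hw) ^ 3 = 1 := by
  rcases comm_or_braid hv hw with ⟨h0, -⟩ | ⟨-, e⟩
  · exact absurd h0 (mul_ne_zero (inv_ne_zero hc) h)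
  · have eR : r v hv * r w hw * r v hv = r w hw * r v hv * r w hw := Subtype.ext (by
      show toMat Q (rf Q v) * toMat Q (rf Q w) * toMat Q (rf Q v) =
        toMat Q (rf Q w) * toMat Q (rf Q v) * toMat Q (rf Q w)
      rw [← map_mul, ← map_mul, e, map_mul, map_mul])
    have hA := r_sq hv
    have hB := r_sq hw
    generalize r v hv = A, r w hw = B at eR hA hB ⊢
    calc (A * B) ^ 3 = (A * B * A) * (B * A * B) := by
          rw [pow_succ, pow_two]; simp only [mul_assoc]
      _ = B * A * (B * B) * A * B := by rw [eR]; simp only [mul_assoc]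
      _ = 1 := by rw [hB, mul_one, mul_assoc B, hA, mul_one, hB]

theorem r_perp {v w : ι → ZMod 3} (hv : Q v = c) (hw : Q w = c) (h : polar Q v w = 0) (hc : c ≠ 0) :
    (r v hv * r w hw) ^ 2 = 1 ∧ r v hv ≠ r w hw := by
  have hne : r v hv ≠ r w hw := by
    intro e
    have e' : rf Q v = rf Q w := (toMat Q).injective (congrArg Subtype.val e)
    have h1 : (rf Q v).1 v = (rf Q w).1 v := by rw [e']
    rw [rf_apply hv, rf_apply hw, polar_comm (⇑Q) w v, h, mul_zero, zero_smul, sub_zero, sub_eq_self,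
      smul_eq_zero, polar_self_two, hv] at h1
    exact h1.elim (mul_ne_zero (inv_ne_zero hc) (mul_ne_zero two_ne_three hc))
      fun h0 => hc (by rw [← hv, h0, QuadraticMap.map_zero])
  refine ⟨?_, hne⟩
  have e : r v hv * r w hw * (r v hv)⁻¹ = r w hw :=
    r_conj hv hw hw (by rw [h, mul_zero, zero_smul, sub_zero])
  rw [r_inv] at e
  rw [pow_two, ← mul_assoc, e, r_sq]

/-- the perpendicular space of two orthogonal vectors is not degenerate -/
theorem perp_pair (hQ : PND Q) (hc : c ≠ 0) {v w : ι → ZMod 3} (hv : Q v = c) (hw : Q w = c)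
    (h : polar Q v w = 0) : ∃ K : Submodule (ZMod 3) (ι → ZMod 3),
      (∀ z ∈ K, polar Q v z = 0 ∧ polar Q w z = 0) ∧ PND (Q.comp K.subtype) ∧
        Fintype.card ι ≤ finrank (ZMod 3) K + 2 := by
  set K := LinearMap.ker (Q.polarBilin v) ⊓ LinearMap.ker (Q.polarBilin w) with hK
  have hmem : ∀ z, z ∈ K ↔ polar Q v z = 0 ∧ polar Q w z = 0 := fun z => by
    simp [hK, Submodule.mem_inf]
  have hK2 : Fintype.card ι ≤ finrank (ZMod 3) K + 2 := by
    have hker : ∀ φ : (ι → ZMod 3) →ₗ[ZMod 3] ZMod 3,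
        finrank (ZMod 3) (ι → ZMod 3) ≤ finrank (ZMod 3) (LinearMap.ker φ) + 1 := fun φ => by
      have h3 := φ.finrank_range_add_finrank_ker
      have h4 := Submodule.finrank_le (LinearMap.range φ)
      rw [finrank_self] at h4
      omega
    have h1 := Submodule.finrank_sup_add_finrank_inf_eq (LinearMap.ker (Q.polarBilin v))
      (LinearMap.ker (Q.polarBilin w))
    have h2 := Submodule.finrank_le (LinearMap.ker (Q.polarBilin v) ⊔ LinearMap.ker (Q.polarBilin w))
    have ha := hker (Q.polarBilin v)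
    have hb := hker (Q.polarBilin w)
    rw [← hK] at h1
    rw [finrank_fintype_fun_eq_card] at h2 ha hb
    omega
  have hd2 : (2 * c : ZMod 3) ≠ 0 := mul_ne_zero two_ne_three hc
  refine ⟨K, fun z hz => (hmem z).1 hz, fun z hz => Subtype.ext (hQ z.1 fun y => ?_), hK2⟩
  obtain ⟨z1, z2⟩ := (hmem _).mp z.2
  have hkK : y - (polar Q v y / (2 * c)) • v - (polar Q w y / (2 * c)) • w ∈ K := by
    rw [hmem]
    simp only [polar_sub_right, polar_smul_right, smul_eq_mul, polar_self_two, hv, hw, h,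
      polar_comm (⇑Q) w v, mul_zero, sub_zero, div_mul_cancel₀ _ hd2, sub_self, and_self]
  have h2 : polar Q (z : ι → ZMod 3) (y - (polar Q v y / (2 * c)) • v - (polar Q w y / (2 * c)) • w) = 0 :=
    hz ⟨_, hkK⟩
  simpa [polar_sub_right, polar_smul_right, polar_comm (⇑Q) (z : ι → ZMod 3) v,
    polar_comm (⇑Q) (z : ι → ZMod 3) w, z1, z2] using h2

/-- the frame attached to a pair of vectors of norm `c` with polar value `c` -/
theorem exists_frame (hQ : PND Q) (hc : c ≠ 0) {v w : ι → ZMod 3} (hv : Q v = c) (hw : Q w = c)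
    (h : polar Q v w = c) (hne : v + w ≠ 0) : ∃ f, polar Q v f = 0 ∧ polar Q w f = 1 ∧ Q f = 0 := by
  have hz0 : Q (v + w) = 0 := by
    rw [QuadraticMap.map_add (⇑Q), hv, hw, h]; exact (show ∀ a : ZMod 3, a + a + a = 0 ∧ 2 * a + a = 0 by decide) c |>.1
  have hvz : polar Q v (v + w) = 0 := by
    rw [polar_add_right, polar_self_two, hv, h]; exact (show ∀ a : ZMod 3, a + a + a = 0 ∧ 2 * a + a = 0 by decide) c |>.2
  obtain ⟨g, hg⟩ : ∃ g, polar Q (v + w) g ≠ 0 := by
    by_contra hcon
    push Not at hcon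
    exact hne (hQ _ hcon)
  have hd2 : (2 * c : ZMod 3) ≠ 0 := mul_ne_zero two_ne_three hc
  obtain ⟨f0, hf0⟩ : ∃ f0, f0 = (polar Q (v + w) g)⁻¹ • (g - (polar Q v g / (2 * c)) • v) := ⟨_, rfl⟩
  have h1 : polar Q (v + w) f0 = 1 := by
    rw [hf0, polar_smul_right, polar_sub_right, polar_smul_right, polar_comm (⇑Q) (v + w) v, hvz, smul_zero,
      sub_zero, smul_eq_mul, inv_mul_cancel₀ hg]
  have h3 : polar Q v f0 = 0 := by
    rw [hf0, polar_smul_right, polar_sub_right, polar_smul_right, polar_self_two, hv, smul_eq_mul, smul_eq_mul,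
      div_mul_cancel₀ _ hd2, sub_self, mul_zero]
  have hv' : polar Q v (f0 - Q f0 • (v + w)) = 0 := by
    rw [polar_sub_right, polar_smul_right, hvz, h3, smul_zero, sub_zero]
  refine ⟨f0 - Q f0 • (v + w), hv', ?_, ?_⟩
  · have h4 : polar Q (v + w) (f0 - Q f0 • (v + w)) = 1 := by
      rw [polar_sub_right, polar_smul_right, polar_self_two, hz0, h1]; simp
    rwa [polar_add_left, hv', zero_add] at h4
  · rw [map_sub_two, QuadraticMap.map_smul, polar_smul_right, hz0, polar_comm (⇑Q) f0, h1]; simp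

/-- any value is taken on the perpendicular space of a frame -/
theorem frame_value (hQ : PND Q) (hn : 5 ≤ Fintype.card ι) (hc : c ≠ 0) {v w f : ι → ZMod 3} (hv : Q v = c)
    (hw : Q w = c) (h : polar Q v w = c) (hvf : polar Q v f = 0) (hwf : polar Q w f = 1) (hf : Q f = 0)
    (d : ZMod 3) : ∃ x, Q x = d ∧ polar Q v x = 0 ∧ polar Q w x = 0 ∧ polar Q f x = 0 := by
  obtain ⟨z, hz⟩ : ∃ z, z = v + w := ⟨_, rfl⟩
  have hz0 : Q z = 0 := by
    rw [hz, QuadraticMap.map_add (⇑Q), hv, hw, h]; exact (show ∀ a : ZMod 3, a + a + a = 0 ∧ 2 * a + a = 0 by decide) c |>.1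
  have hvz : polar Q v z = 0 := by
    rw [hz, polar_add_right, polar_self_two, hv, h]; exact (show ∀ a : ZMod 3, a + a + a = 0 ∧ 2 * a + a = 0 by decide) c |>.2
  have hzf : polar Q z f = 1 := by rw [hz, polar_add_left, hvf, hwf, zero_add]
  obtain ⟨K, hK⟩ : ∃ K, K = LinearMap.ker (Q.polarBilin v) ⊓ LinearMap.ker (Q.polarBilin z) ⊓
      LinearMap.ker (Q.polarBilin f) := ⟨_, rfl⟩
  have hd : ∀ φ : (ι → ZMod 3) →ₗ[ZMod 3] ZMod 3, ∀ W : Submodule (ZMod 3) (ι → ZMod 3),
      finrank (ZMod 3) W ≤ finrank (ZMod 3) ↥(W ⊓ LinearMap.ker φ) + 1 := by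
    intro φ W
    have h1 := Submodule.finrank_sup_add_finrank_inf_eq W (LinearMap.ker φ)
    have h3 := φ.finrank_range_add_finrank_ker
    have h4 := Submodule.finrank_le (LinearMap.range φ)
    have h5 := Submodule.finrank_le (W ⊔ LinearMap.ker φ)
    rw [finrank_self] at h4
    omega
  have hK2 : 2 ≤ finrank (ZMod 3) K := by
    have h0 := (Q.polarBilin v).finrank_range_add_finrank_ker
    have h4 := Submodule.finrank_le (LinearMap.range (Q.polarBilin v))
    have h1 := hd (Q.polarBilin z) (LinearMap.ker (Q.polarBilin v))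
    have h2' := hd (Q.polarBilin f) (LinearMap.ker (Q.polarBilin v) ⊓ LinearMap.ker (Q.polarBilin z))
    rw [finrank_self] at h4
    rw [finrank_fintype_fun_eq_card] at h0
    rw [hK]; omega
  have hmem : ∀ y, y ∈ K ↔ polar Q v y = 0 ∧ polar Q z y = 0 ∧ polar Q f y = 0 := fun y => by
    simp [hK, Submodule.mem_inf, and_assoc]
  have hd2 : (2 * c : ZMod 3) ≠ 0 := mul_ne_zero two_ne_three hc
  have hKnd : PND (Q.comp K.subtype) := by
    intro y hy
    refine Subtype.ext (hQ y.1 fun u => ?_)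
    obtain ⟨y1, y2, y3⟩ := (hmem _).mp y.2
    have hkK : u - (polar Q v u / (2 * c)) • v - polar Q f u • z - polar Q z u • f ∈ K := by
      rw [hmem]
      simp only [polar_sub_right, polar_smul_right, smul_eq_mul, polar_self_two, hv, hvz, hvf, hzf, hz0, hf,
        polar_comm (⇑Q) z v, polar_comm (⇑Q) f v, polar_comm (⇑Q) f z, mul_zero, sub_zero, mul_one,
        div_mul_cancel₀ _ hd2, sub_self, and_self]
    have h' : polar Q (y : ι → ZMod 3) _ = 0 := hy ⟨_, hkK⟩
    simpa [polar_sub_right, polar_smul_right, polar_comm (⇑Q) (y : ι → ZMod 3) v,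
      polar_comm (⇑Q) (y : ι → ZMod 3) z, polar_comm (⇑Q) (y : ι → ZMod 3) f, y1, y2, y3] using h'
  obtain ⟨x, hx⟩ := exists_value two_ne_three hKnd hK2 d
  obtain ⟨x1, x2, x3⟩ := (hmem _).mp x.2
  refine ⟨x.1, hx, x1, ?_, x3⟩
  rwa [hz, polar_add_left, x1, zero_add] at x2

theorem sum_ne_zero {v w : ι → ZMod 3} (hv : Q v = c) (hw : Q w = c) (hne : r v hv ≠ r w hw) : v + w ≠ 0 :=
  fun e => hne ((r_congr (eq_neg_of_add_eq_zero_left e) hv (by rw [QuadraticMap.map_neg, hw])).trans (r_neg hw _))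

/-- after a change of sign the polar value of a non-orthogonal pair is `c` -/
theorem normalise (hc : c ≠ 0) {v w : ι → ZMod 3} (hw : Q w = c) (h : polar Q v w ≠ 0) :
    ∃ w', ∃ hw' : Q w' = c, polar Q v w' = c ∧ r w' hw' = r w hw := by
  have key : ∀ c p : ZMod 3, c ≠ 0 → p ≠ 0 → p = c ∨ -p = c := by decide
  rcases key c _ hc h with e | e
  · exact ⟨w, hw, e, rfl⟩
  · exact ⟨-w, by rw [QuadraticMap.map_neg, hw], by rw [polar_neg_right]; exact e, r_neg hw _⟩

variable [Fact (5 ≤ Fintype.card ι)]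

/-- the product of two non-commuting reflections is a commutator in the derived group -/
theorem pair_mem_derived (hQ : PND Q) (hc : c ≠ 0) {v w : ι → ZMod 3} (hv : Q v = c) (hw : Q w = c)
    (h : polar Q v w ≠ 0) : r w hw * r v hv ∈ ⁅commutator RR, commutator RR⁆ := by
  have hn : 5 ≤ Fintype.card ι := Fact.out
  have hD := isClass hQ (show 4 ≤ Fintype.card ι by omega) hc
  obtain ⟨w', hw', hp, hr⟩ := normalise hc hw h
  rw [← hr]
  clear hr h hw w
  rcases eq_or_ne (r v hv) (r w' hw') with hne | hne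
  · rw [← hne, r_sq]; exact one_mem _
  obtain ⟨f, hvf, hwf, hf⟩ := exists_frame hQ hc hv hw' hp (sum_ne_zero hv hw' hne)
  obtain ⟨u, hu, hvu, hwu, -⟩ := frame_value hQ hn hc hv hw' hp hvf hwf hf c
  have hx : Q (v - w') = c := by
    rw [map_sub_two, hv, hw', hp]; ring
  have hprod : ∀ (a b : ι → ZMod 3) (ha : Q a = c) (hb : Q b = c), r a ha * r b hb ∈ commutator RR := by
    intro a b ha hb
    have hda : ((r a ha : RR) : ↥(Cfsg.isometryGroup (ZMod 3) ⇑Q)) ∈ Cfsg.reflectionsOfNorm ⇑Q c :=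
      mem_refl_iff.2 ⟨a, ha, rfl⟩
    have hdb : ((r b hb : RR) : ↥(Cfsg.isometryGroup (ZMod 3) ⇑Q)) ∈ Cfsg.reflectionsOfNorm ⇑Q c :=
      mem_refl_iff.2 ⟨b, hb, rfl⟩
    obtain ⟨g, hg⟩ := Spor.class_conj hD hda hdb
    rw [← hg, show r a ha * (g * r a ha * g⁻¹) = (r a ha) * g * (r a ha)⁻¹ * g⁻¹ by rw [r_inv]; simp only [mul_assoc]]
    exact Subgroup.commutator_mem_commutator (Subgroup.mem_top _) (Subgroup.mem_top _)
  have hA := hprod w' (v - w') hw' hx
  have hB := hprod v u hv hu
  have hm := Subgroup.commutator_mem_commutator hA hB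
  have hxv : polar Q (v - w') v = c := by
    rw [polar_sub_left, polar_self_two, hv, polar_comm (⇑Q) w' v, hp]; ring
  have hxu : polar Q (v - w') u = 0 := by rw [polar_sub_left, hvu, hwu, sub_self]
  have e1 : r (v - w') hx * r v hv * (r (v - w') hx)⁻¹ = r w' hw' :=
    r_conj hx hv hw' (by rw [hxv, inv_mul_cancel₀ hc, one_smul, sub_sub_cancel])
  have e2 : r (v - w') hx * r u hu * (r (v - w') hx)⁻¹ = r u hu :=
    r_conj hx hu hu (by rw [hxu, mul_zero, zero_smul, sub_zero])
  have e3 : r w' hw' * r u hu * (r w' hw')⁻¹ = r u hu :=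
    r_conj hw' hu hu (by rw [hwu, mul_zero, zero_smul, sub_zero])
  convert hm using 1
  rw [commutatorElement_def]
  calc r w' hw' * r v hv = (r w' hw' * r u hu) * (r u hu * r v hv) := by
        rw [mul_assoc (r w' hw'), ← mul_assoc (r u hu) (r u hu), r_sq, one_mul]
    _ = (r w' hw' * (r (v - w') hx * r v hv * (r (v - w') hx)⁻¹) * (r w' hw')⁻¹) *
        (r w' hw' * (r (v - w') hx * r u hu * (r (v - w') hx)⁻¹) * (r w' hw')⁻¹) * (r v hv * r u hu)⁻¹ := by
      rw [e1, e2, e3, mul_inv_rev, r_inv, r_inv, r_inv, r_sq, one_mul]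
    _ = _ := by simp only [mul_inv_rev, mul_assoc, inv_mul_cancel_left]

theorem derived_perfect (hQ : PND Q) (hc : c ≠ 0) :
    ⁅commutator RR, commutator RR⁆ = commutator RR := by
  have hn : 5 ≤ Fintype.card ι := Fact.out
  set D2 := ⁅commutator RR, commutator RR⁆ with hD2
  refine le_antisymm (Subgroup.commutator_mono le_top le_top) ?_
  set π := QuotientGroup.mk' D2 with hπ
  have heq : ∀ (a b : ι → ZMod 3) (ha : Q a = c) (hb : Q b = c), π (r a ha) = π (r b hb) := by
    have step : ∀ (a b : ι → ZMod 3) (ha : Q a = c) (hb : Q b = c), polar Q a b ≠ 0 →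
        π (r a ha) = π (r b hb) := by
      intro a b ha hb h
      have hm : π (r b hb * r a ha) = 1 := (QuotientGroup.eq_one_iff _).2 (pair_mem_derived hQ hc ha hb h)
      rw [map_mul] at hm
      rw [← inv_inj]
      conv_rhs => rw [← map_inv, r_inv]
      exact (eq_inv_of_mul_eq_one_left hm).symm
    intro a b ha hb
    by_cases h : polar Q a b = 0
    · obtain ⟨u, hu, hau, hbu⟩ := exists_mid hQ (by omega) hc ha hb h
      exact (step a u ha hu hau).trans (step b u hb hu hbu).symm
    · exact step a b ha hb h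
  obtain ⟨v₀, hv₀⟩ := exists_value two_ne_three hQ (by rw [finrank_fintype_fun_eq_card]; omega) c
  have hgen : ∀ x : RR ⧸ D2, x ∈ Subgroup.zpowers (π (r v₀ hv₀)) := by
    intro x
    obtain ⟨x, rfl⟩ := QuotientGroup.mk'_surjective _ x
    have hD := isClass hQ (show 4 ≤ Fintype.card ι by omega) hc
    have hle : Subgroup.closure {g : RR | (g : ↥(Cfsg.isometryGroup (ZMod 3) ⇑Q)) ∈
        Cfsg.reflectionsOfNorm ⇑Q c} ≤ (Subgroup.zpowers (π (r v₀ hv₀))).comap π := by
      rw [Subgroup.closure_le]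
      intro d hd
      obtain ⟨v, hv, rfl⟩ := exists_r hd
      show π (r v hv) ∈ Subgroup.zpowers (π (r v₀ hv₀))
      rw [heq v v₀ hv hv₀]
      exact Subgroup.mem_zpowers _
    exact hle ((Spor.class_isGroup hD).2.2 ▸ Subgroup.mem_top x)
  refine Subgroup.Normal.quotient_commutative_iff_commutator_le.1 ⟨⟨fun x y => ?_⟩⟩
  obtain ⟨i, hi⟩ := hgen x
  obtain ⟨j, hj⟩ := hgen y
  rw [← hi, ← hj]
  exact ((Commute.refl _).zpow_zpow i j).eq

theorem conj_pair {N : Subgroup RR} [N.Normal] {a b : RR} (g : RR) (h : a * b ∈ N) :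
    (g * a * g⁻¹) * (g * b * g⁻¹) ∈ N := by
  have := ‹N.Normal›.conj_mem _ h g
  rwa [show g * (a * b) * g⁻¹ = (g * a * g⁻¹) * (g * b * g⁻¹) by group] at this

theorem three_zero : (3 : ZMod 3) = 0 := by decide

theorem core_central (hQ : PND Q) (hc : c ≠ 0) {p : ℕ} (hp : p = 2 ∨ p = 3) :
    Cfsg.pCore p RR ≤ Subgroup.center RR := by
  have hn : 5 ≤ Fintype.card ι := Fact.out
  have hD := isClass hQ (show 4 ≤ Fintype.card ι by omega) hc
  have hG := Spor.class_isGroup hD
  haveI : Fact p.Prime := ⟨by rcases hp with rfl | rfl; exacts [Nat.prime_two, Nat.prime_three]⟩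
  haveI := Solv.pCore_normal (G := RR) p
  have hpN : IsPGroup p (Cfsg.pCore p RR) := Solv.pCore_isPGroup p
  set N := Cfsg.pCore p RR with hN
  have hord : ∀ x ∈ N, ∀ q : ℕ, q.Prime → q ≠ p → x ^ q = 1 → x = 1 := by
    intro x hx q hq hqp hxq
    obtain ⟨k, hk⟩ := hpN ⟨x, hx⟩
    have hk' : x ^ p ^ k = 1 := congrArg Subtype.val hk
    exact orderOf_eq_one_iff.1 (Nat.dvd_one.1
      (((Nat.coprime_primes hq (Fact.out : p.Prime)).2 hqp).pow_right k ▸
        Nat.dvd_gcd (orderOf_dvd_of_pow_eq_one hxq) (orderOf_dvd_of_pow_eq_one hk')))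
  -- no two distinct reflections have their product in `N`
  have key : ∀ (v w : ι → ZMod 3) (hv : Q v = c) (hw : Q w = c),
      r v hv * r w hw ∈ N → r v hv = r w hw := by
    intro v w hv hw hm
    by_contra hne
    have hne1 : r v hv * r w hw ≠ 1 := fun e => hne (by rw [eq_inv_of_mul_eq_one_left e, r_inv])
    by_cases h : polar Q v w = 0
    · rcases hp with rfl | rfl
      · obtain ⟨K, hK, hKnd, hK2⟩ := perp_pair hQ hc hv hw h
        obtain ⟨⟨x, hxK⟩, hx0, hx⟩ := exists_singular two_ne_three hKnd (by omega)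
        obtain ⟨hvx, hwx⟩ := hK x hxK
        have hx' : Q (x : ι → ZMod 3) = 0 := hx
        have hh : Q (w + x) = c := by rw [QuadraticMap.map_add (⇑Q), hw, hx', hwx]; ring
        have hf : Q (-w + x) = c := by
          rw [QuadraticMap.map_add (⇑Q), QuadraticMap.map_neg, hw, hx', polar_neg_left, hwx]; ring
        have e1 : r (w + x) hh * r v hv * (r (w + x) hh)⁻¹ = r v hv := r_conj hh hv hv (by
          rw [polar_comm (⇑Q), polar_add_right, h, hvx, add_zero, mul_zero, zero_smul, sub_zero])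
        have e2 : r (w + x) hh * r w hw * (r (w + x) hh)⁻¹ = r (-w + x) hf := r_conj hh hw hf (by
          rw [polar_comm (⇑Q), polar_add_right, polar_self_two, hw, hwx, add_zero, mul_left_comm,
            inv_mul_cancel₀ hc, mul_one]
          ext i
          simp only [Pi.sub_apply, Pi.smul_apply, Pi.add_apply, Pi.neg_apply, smul_eq_mul]
          generalize w i = a, x i = b
          revert a b
          decide)
        have hm2 := conj_pair (r (w + x) hh) hm
        rw [e1, e2] at hm2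
        have hmem : r w hw * r (-w + x) hf ∈ N := by
          have := mul_mem (inv_mem hm) hm2
          rwa [mul_inv_rev, r_inv, r_inv, mul_assoc, ← mul_assoc (r v hv) (r v hv), r_sq, one_mul] at this
        have h3 := r_braid hw hf (by
          rw [polar_add_right, polar_neg_right, polar_self_two, hw, hwx, add_zero]
          exact neg_ne_zero.2 (mul_ne_zero two_ne_three hc)) hc
        obtain ⟨t, ht⟩ := r_eq_span hc hw hf (show r w hw = r (-w + x) hf by
          rw [eq_inv_of_mul_eq_one_left (hord _ hmem 3 Nat.prime_three (by norm_num) h3), r_inv])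
        have hwd : polar Q w (-w + (x : ι → ZMod 3)) = polar Q w (t • w) := by rw [ht]
        rw [polar_add_right, polar_neg_right, polar_smul_right, polar_self_two, hw, hwx, add_zero,
          smul_eq_mul] at hwd
        have ht1 : t = -1 := by
          have : (t + 1) * (2 * c) = 0 := by linear_combination -hwd
          exact eq_neg_of_add_eq_zero_left ((mul_eq_zero.1 this).resolve_right (mul_ne_zero two_ne_three hc))
        rw [ht1, neg_one_smul, add_eq_left] at ht
        exact hx0 (Subtype.ext ht)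
      · exact hne1 (hord _ hm 2 Nat.prime_two (by norm_num) (r_perp hv hw h hc).1)
    · rcases hp with rfl | rfl
      · exact hne1 (hord _ hm 3 Nat.prime_three (by norm_num) (r_braid hv hw h hc))
      · obtain ⟨w', hw', hp', hr⟩ := normalise hc hw h
        rw [← hr] at hm hne
        clear hr h hw hne1 w
        obtain ⟨f, hvf, hwf, hf⟩ := exists_frame hQ hc hv hw' hp' (sum_ne_zero hv hw' hne)
        obtain ⟨x, hx, hvx, hwx, hfx⟩ := frame_value hQ hn hc hv hw' hp' hvf hwf hf (2 * c)
        obtain ⟨y, hy⟩ : ∃ y, y = w' + c • f := ⟨_, rfl⟩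
        have three := three_zero
        have hyy : Q y = 2 * c := by
          rw [hy, QuadraticMap.map_add (⇑Q), QuadraticMap.map_smul, hw', hf, polar_smul_right, hwf,
            smul_eq_mul, smul_eq_mul]; ring
        have hvy : polar Q v y = c := by
          rw [hy, polar_add_right, polar_smul_right, hp', hvf, smul_zero, add_zero]
        have hwy : polar Q w' y = 0 := by
          rw [hy, polar_add_right, polar_smul_right, polar_self_two, hw', hwf, smul_eq_mul]
          linear_combination c * three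
        have hyx : polar Q y x = 0 := by
          rw [hy, polar_add_left, polar_smul_left, hwx, hfx, smul_zero, add_zero]
        have hh1 : Q (y + (2 : ZMod 3) • (v + w')) = c := by
          rw [QuadraticMap.map_add (⇑Q), QuadraticMap.map_smul, QuadraticMap.map_add (⇑Q) v w', hv, hw', hp',
            hyy, polar_smul_right, polar_add_right, polar_comm (⇑Q) y v, polar_comm (⇑Q) y w', hvy, hwy,
            smul_eq_mul, smul_eq_mul]
          linear_combination 5 * c * three
        have hh2 : Q (y + x) = c := by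
          rw [QuadraticMap.map_add (⇑Q), hyy, hx, hyx]; linear_combination c * three
        have hvh1 : polar Q (y + (2 : ZMod 3) • (v + w')) v = c := by
          rw [polar_add_left, polar_smul_left, polar_add_left, polar_comm (⇑Q) y v, hvy, polar_self_two, hv,
            polar_comm (⇑Q) w' v, hp', smul_eq_mul]
          linear_combination 2 * c * three
        have hwh1 : polar Q (y + (2 : ZMod 3) • (v + w')) w' = 0 := by
          rw [polar_add_left, polar_smul_left, polar_add_left, polar_comm (⇑Q) y w', hwy, polar_self_two, hw',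
            hp', smul_eq_mul]
          linear_combination 2 * c * three
        have hvh2 : polar Q (y + x) v = c := by
          rw [polar_add_left, polar_comm (⇑Q) y v, hvy, polar_comm (⇑Q) x v, hvx, add_zero]
        have hwh2 : polar Q (y + x) w' = 0 := by
          rw [polar_add_left, polar_comm (⇑Q) y w', hwy, polar_comm (⇑Q) x w', hwx, add_zero]
        have hh12 : polar Q (y + x) (y + (2 : ZMod 3) • (v + w')) = 0 := by
          rw [polar_add_left, polar_add_right, polar_add_right, polar_smul_right, polar_smul_right,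
            polar_add_right, polar_add_right, polar_self_two, hyy, polar_comm (⇑Q) y v, hvy,
            polar_comm (⇑Q) y w', hwy, polar_comm (⇑Q) x y, hyx, polar_comm (⇑Q) x v, hvx,
            polar_comm (⇑Q) x w', hwx, smul_eq_mul, smul_eq_mul]
          linear_combination 2 * c * three
        obtain ⟨h1, rfl⟩ : ∃ h1, h1 = y + (2 : ZMod 3) • (v + w') := ⟨_, rfl⟩
        have hv1 : Q (v - (y + (2 : ZMod 3) • (v + w'))) = c := by
          have := refl_value hh1 hv
          rwa [hvh1, inv_mul_cancel₀ hc, one_smul] at this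
        have hpv : polar Q (y + x) (v - (y + (2 : ZMod 3) • (v + w'))) = c := by
          rw [polar_sub_right, hvh2, hh12, sub_zero]
        have hv2 : Q (v - (y + (2 : ZMod 3) • (v + w')) - (y + x)) = c := by
          have := refl_value hh2 hv1
          rwa [hpv, inv_mul_cancel₀ hc, one_smul] at this
        have e1 : r _ hh1 * r v hv * (r _ hh1)⁻¹ = r _ hv1 :=
          r_conj hh1 hv hv1 (by rw [hvh1, inv_mul_cancel₀ hc, one_smul])
        have e2 : r _ hh1 * r w' hw' * (r _ hh1)⁻¹ = r w' hw' :=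
          r_conj hh1 hw' hw' (by rw [hwh1, mul_zero, zero_smul, sub_zero])
        have e3 : r _ hh2 * r _ hv1 * (r _ hh2)⁻¹ = r _ hv2 :=
          r_conj hh2 hv1 hv2 (by rw [hpv, inv_mul_cancel₀ hc, one_smul])
        have e4 : r _ hh2 * r w' hw' * (r _ hh2)⁻¹ = r w' hw' :=
          r_conj hh2 hw' hw' (by rw [hwh2, mul_zero, zero_smul, sub_zero])
        have hm2 := conj_pair (r _ hh1) hm
        rw [e1, e2] at hm2
        have hm3 := conj_pair (r _ hh2) hm2
        rw [e3, e4] at hm3
        have hmem : r v hv * r _ hv2 ∈ N := by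
          have := mul_mem hm (inv_mem hm3)
          rwa [mul_inv_rev, r_inv, r_inv, mul_assoc, ← mul_assoc (r w' hw') (r w' hw'), r_sq, one_mul] at this
        obtain ⟨h4, hne4⟩ := r_perp hv hv2 (by
          rw [polar_sub_right, polar_sub_right, polar_self_two, hv, polar_comm (⇑Q) v, hvh1,
            polar_comm (⇑Q) v, hvh2]
          ring) hc
        exact hne4 (by rw [eq_inv_of_mul_eq_one_left (hord _ hmem 2 Nat.prime_two (by norm_num) h4), r_inv])
  intro x hx
  have hle : Subgroup.closure {g : RR | (g : ↥(Cfsg.isometryGroup (ZMod 3) ⇑Q)) ∈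
      Cfsg.reflectionsOfNorm ⇑Q c} ≤ Subgroup.centralizer ({x} : Set RR) := by
    rw [Subgroup.closure_le]
    intro d hd
    obtain ⟨v, hv, hdv⟩ := exists_r hd
    obtain ⟨w, hw, hdw⟩ := exists_r (hG.2.1 x d hd)
    have hmem : d * (x * d * x⁻¹) ∈ N := by
      have h1 : d * x * d⁻¹ * x⁻¹ ∈ N := mul_mem (‹N.Normal›.conj_mem x hx d) (inv_mem hx)
      rwa [inv_eq_of_mul_eq_one_right (Spor.mul_self_of_order_two (hD.1.1 d hd)),
        mul_assoc d, mul_assoc d] at h1
    rw [hdw, hdv] at hmem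
    have e := key v w hv hw hmem
    rw [← hdv, ← hdw] at e
    exact Subgroup.mem_centralizer_singleton_iff.2 (eq_mul_inv_iff_mul_eq.1 e)
  rw [Subgroup.mem_center_iff]
  intro g
  exact Subgroup.mem_centralizer_singleton_iff.1 (hle (hG.2.2 ▸ Subgroup.mem_top g))

theorem two_distinct (hQ : PND Q) (hc : c ≠ 0) :
    ∃ a ∈ {g : RR | (g : ↥(Cfsg.isometryGroup (ZMod 3) ⇑Q)) ∈ Cfsg.reflectionsOfNorm ⇑Q c},
      ∃ b ∈ {g : RR | (g : ↥(Cfsg.isometryGroup (ZMod 3) ⇑Q)) ∈ Cfsg.reflectionsOfNorm ⇑Q c}, a ≠ b := by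
  have hn : 5 ≤ Fintype.card ι := Fact.out
  obtain ⟨v, hv⟩ := exists_value two_ne_three hQ (by rw [finrank_fintype_fun_eq_card]; omega) c
  have hd2 : (2 * c : ZMod 3) ≠ 0 := mul_ne_zero two_ne_three hc
  obtain ⟨K, hK⟩ : ∃ K, K = LinearMap.ker (Q.polarBilin v) := ⟨_, rfl⟩
  have hK2 : 2 ≤ finrank (ZMod 3) K := by
    have h0 := (Q.polarBilin v).finrank_range_add_finrank_ker
    have h4 := Submodule.finrank_le (LinearMap.range (Q.polarBilin v))
    rw [finrank_self] at h4
    rw [finrank_fintype_fun_eq_card] at h0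
    rw [hK]; omega
  have hKnd : PND (Q.comp K.subtype) := by
    intro z hz
    refine Subtype.ext (hQ z.1 fun y => ?_)
    have z1 : polar Q v (z : ι → ZMod 3) = 0 := by
      have := z.2
      simp only [hK, LinearMap.mem_ker, polarBilin_apply_apply] at this
      exact this
    have hkK : y - (polar Q v y / (2 * c)) • v ∈ K := by
      simp only [hK, LinearMap.mem_ker, polarBilin_apply_apply, polar_sub_right, polar_smul_right, smul_eq_mul,
        polar_self_two, hv, div_mul_cancel₀ _ hd2, sub_self]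
    have h2 : polar Q (z : ι → ZMod 3) (y - (polar Q v y / (2 * c)) • v) = 0 := hz ⟨_, hkK⟩
    simpa [polar_sub_right, polar_smul_right, polar_comm (⇑Q) (z : ι → ZMod 3) v, z1] using h2
  obtain ⟨w, hw⟩ := exists_value two_ne_three hKnd hK2 c
  have hvw : polar Q v (w : ι → ZMod 3) = 0 := by
    have := w.2
    simp only [hK, LinearMap.mem_ker, polarBilin_apply_apply] at this
    exact this
  exact ⟨r v hv, mem_refl_iff.2 ⟨v, hv, rfl⟩, r w.1 hw, mem_refl_iff.2 ⟨_, hw, rfl⟩, (r_perp hv hw hvw hc).2⟩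

theorem structure_main (hQ : PND Q) (hc : c ≠ 0) :
    Cfsg.IsQuasisimple (commutator RR) ∧ (commutator RR).index ≤ 2 ∧
      Cfsg.generalizedFittingSubgroup RR = Subgroup.center RR ⊔ commutator RR ∧
      Cfsg.IsPrimitiveUnderConj {g : RR | (g : ↥(Cfsg.isometryGroup (ZMod 3) ⇑Q)) ∈
        Cfsg.reflectionsOfNorm ⇑Q c} :=
  Spor.derived_structure (isClass hQ (Nat.le_of_succ_le (show 5 ≤ Fintype.card ι from Fact.out)) hc)
    (two_distinct hQ hc) (core_central hQ hc (.inl rfl)) (core_central hQ hc (.inr rfl))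
    (derived_perfect hQ hc)

end Cfsg.Agent.Spor.ReflThree
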