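import Cfsg.Agent.Lib.Spor.M22UReflChecks
import Cfsg.Agent.Lib.Spor.ReflThreeQs

/-!
The classes of 3-transpositions of the projective reflection group of a six-dimensional space of
discriminant one over the field with three elements.
-/

set_option autoImplicit false
set_option linter.unusedSectionVars false
set_option maxRecDepth 100000
set_option maxHeartbeats 2000000

namespace Cfsg.Agent.Spor.M22U.Refl

open Matrix Cfsg.Agent.Spor.CC Cfsg.Agent.Spor.M22U.Forms

theorem rim_lt {a i : ℕ} (ha : a < 126) (hi : i < 126) : rim a i < 126 := by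
  have : ∀ a < 126, ∀ i < 126, Nat.blt (rim a i) 126 = true := rim_table
  exact Nat.le_of_ble_eq_true (this a ha i hi)
where
  rim_table : ∀ a < 126, ∀ i < 126, Nat.blt (rim a i) 126 = true := by
    intro a ha i hi
    have h : q0 (pv i + dot (pv a) (pv i) • pv a) = 1 := rim_value a ha i hi
    exact Nat.ble_eq_true_of_le (cases_vec _ h).1
  rim_value : ∀ a < 126, ∀ i < 126, q0 (pv i + dot (pv a) (pv i) • pv a) = 1 := by
    intro a ha i hi
    have h1 := (point_ok a ha).1
    have h2 := (point_ok i hi).1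
    simp only [q0, dot, Pi.add_apply, Pi.smul_apply, smul_eq_mul] at h1 h2 ⊢
    set s := ∑ j, pv a j * pv i j with hs
    have e : ∀ j, (pv i j + s * pv a j) * (pv i j + s * pv a j) =
        pv i j * pv i j + (2 * s) * (pv a j * pv i j) + (s * s) * (pv a j * pv a j) := fun j => by ring
    rw [Finset.sum_congr rfl fun j _ => e j, Finset.sum_add_distrib, Finset.sum_add_distrib, ← Finset.mul_sum,
      ← Finset.mul_sum, h1, h2, ← hs]
    linear_combination (s * s) * ((by decide : (3 : ZMod 3) = 0))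

theorem hQ : Cfsg.Agent.Classical.OCount.PND Q0 := fun v hv => by
  funext i
  have h := hv (Pi.single i 1)
  rw [QuadraticMap.polar, Q0_eq, q0, q0, q0] at h
  have e : ∀ j, (v j + (Pi.single i (1 : ZMod 3) : Fin 6 → ZMod 3) j) * (v j + (Pi.single i (1 : ZMod 3) : Fin 6 → ZMod 3) j) -
      v j * v j - (Pi.single i (1 : ZMod 3) : Fin 6 → ZMod 3) j * (Pi.single i (1 : ZMod 3) : Fin 6 → ZMod 3) j =
        2 * (v j * (Pi.single i (1 : ZMod 3) : Fin 6 → ZMod 3) j) := fun j => by ring
  simp only [Pi.add_apply] at h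
  rw [← Finset.sum_sub_distrib, ← Finset.sum_sub_distrib, Finset.sum_congr rfl fun j _ => e j,
    ← Finset.mul_sum] at h
  have h' := (mul_eq_zero.mp h).resolve_left (by decide)
  simpa [Pi.single_apply] using h'

/-- the reflection group -/
noncomputable abbrev R0 : Subgroup ↥(Cfsg.isometryGroup (ZMod 3) ⇑Q0) := Cfsg.reflectionSubgroup (⇑Q0) (1 : ZMod 3)

/-- the matrix of an element -/
abbrev mat (g : R0) : Matrix (Fin 6) (Fin 6) (ZMod 3) := g.1.1.1

theorem pres (g : R0) (v : Fin 6 → ZMod 3) : q0 (mat g *ᵥ v) = q0 v := by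
  have := g.1.2 v v
  rw [← Q0_eq]; exact this

theorem act_spec (g : R0) {i : ℕ} (hi : i < 126) :
    pnt (mat g *ᵥ pv i) < 126 ∧
      (mat g *ᵥ pv i = pv (pnt (mat g *ᵥ pv i)) ∨ mat g *ᵥ pv i = -pv (pnt (mat g *ᵥ pv i))) :=
  cases_vec _ ((pres g _).trans (point_ok i hi).1)

noncomputable instance : MulAction R0 (Fin 126) where
  smul g i := ⟨pnt (mat g *ᵥ pv i), (act_spec g i.2).1⟩
  one_smul i := Fin.ext (by
    show pnt ((1 : Matrix (Fin 6) (Fin 6) (ZMod 3)) *ᵥ pv i) = i
    rw [Matrix.one_mulVec]; exact (point_ok i i.2).2.1)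
  mul_smul g h i := Fin.ext (by
    show pnt ((mat g * mat h) *ᵥ pv i) = pnt (mat g *ᵥ pv (pnt (mat h *ᵥ pv i)))
    rw [← Matrix.mulVec_mulVec]
    rcases (act_spec h i.2).2 with e | e
    · conv_lhs => rw [e]
    · conv_lhs => rw [e]
      rw [Matrix.mulVec_neg]
      obtain ⟨hl, e'⟩ := act_spec g (act_spec h i.2).1
      rcases e' with e' | e' <;> conv_lhs => rw [e']
      · exact (point_ok _ hl).2.2
      · rw [neg_neg]; exact (point_ok _ hl).2.1)

/-- the action on the points -/
noncomputable def rho : R0 →* Equiv.Perm (Fin 126) := MulAction.toPermHom R0 (Fin 126)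

theorem rho_val (g : R0) (i : Fin 126) : (rho g i : ℕ) = pnt (mat g *ᵥ pv i) := rfl

theorem pv_value {a : ℕ} (ha : a < 126) : Q0 (pv a) = 1 := by rw [Q0_eq]; exact (point_ok a ha).1

/-- the reflection of a point -/
noncomputable def rfl' (a : ℕ) : R0 :=
  if ha : a < 126 then ReflThree.r (pv a) (pv_value ha) else 1

theorem rho_rfl {a : ℕ} (ha : a < 126) (i : Fin 126) : (rho (rfl' a) i : ℕ) = rim a i := by
  rw [rho_val, rfl', dif_pos ha]
  show pnt (_ *ᵥ pv i) = rim a i
  have e : mat (ReflThree.r (Q := Q0) (c := 1) (pv a) (pv_value ha)) *ᵥ pv i =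
      pv i + dot (pv a) (pv i) • pv a := by
    have h1 := Cfsg.Agent.Classical.ORefl.toMat_apply (Q := Q0) (Cfsg.Agent.Classical.OOmega.rf Q0 (pv a)) (pv i)
    show (Cfsg.Agent.Classical.ORefl.toMat Q0 (Cfsg.Agent.Classical.OOmega.rf Q0 (pv a))).1.1 *ᵥ pv i = _
    rw [h1, ReflThree.rf_apply (pv_value ha), QuadraticMap.polar, Q0_eq]
    have e2 : q0 (pv a + pv i.val) - q0 (pv a) - q0 (pv i.val) = 2 * dot (pv a) (pv i.val) := by
      simp only [q0, dot, Pi.add_apply, Finset.mul_sum, ← Finset.sum_sub_distrib]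
      exact Finset.sum_congr rfl fun j _ => by ring
    rw [e2, inv_one, one_mul, sub_eq_add_neg, ← neg_smul]
    congr 2
    linear_combination (-dot (pv a) (pv i.val)) * ((by decide : (3 : ZMod 3) = 0))
  rw [e]; rfl

/-- value of a word -/
noncomputable def rword (w : List ℕ) : R0 := (w.map rfl').prod

theorem rho_word : ∀ {w : List ℕ}, (∀ x ∈ w, x < 126) → ∀ i : Fin 126, (rho (rword w) i : ℕ) = rev' w i
  | [], _, i => by simp [rword, rev']
  | a :: w, hw, i => by
    rw [rword, List.map_cons, List.prod_cons, map_mul, Equiv.Perm.mul_apply, rho_rfl (hw a (by simp)),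
      ← rword, rho_word (fun x hx => hw x (by simp [hx])) i]
    rfl

theorem fixed_scalar {g : R0} (h : ∀ k < 6, pnt (mat g *ᵥ pv (RDat.six.getD k 0)) = RDat.six.getD k 0) :
    ∃ s : ZMod 3, s ≠ 0 ∧ mat g = s • 1 := by
  set v : ℕ → Fin 6 → ZMod 3 := fun k => pv (RDat.six.getD k 0)
  have hlt : ∀ k < 6, RDat.six.getD k 0 < 126 := by decide +kernel
  have hs : ∀ k < 6, ∃ s : ZMod 3, (s = 1 ∨ s = -1) ∧ mat g *ᵥ v k = s • v k := fun k hk => by
    rcases (act_spec g (hlt k hk)).2 with e | e <;> rw [h k hk] at e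
    · exact ⟨1, Or.inl rfl, by rw [one_smul]; exact e⟩
    · exact ⟨-1, Or.inr rfl, by rw [neg_one_smul]; exact e⟩
  choose s hs1 hs2 using hs
  have hpol : ∀ x y, dot (mat g *ᵥ x) (mat g *ᵥ y) = dot x y := by
    intro x y
    have e : ∀ a b : Fin 6 → ZMod 3, dot a b = 2 * (q0 (a + b) - q0 a - q0 b) := fun a b => by
      have e2 : q0 (a + b) - q0 a - q0 b = 2 * dot a b := by
        simp only [q0, dot, Pi.add_apply, Finset.mul_sum, ← Finset.sum_sub_distrib]
        exact Finset.sum_congr rfl fun j _ => by ring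
      rw [e2]
      linear_combination (-dot a b) * ((by decide : (3 : ZMod 3) = 0))
    rw [e, e x y, ← Matrix.mulVec_add, pres, pres, pres]
  have hstep : ∀ k (hk : k < 5), s k (by omega) = s (k + 1) (by omega) := by
    intro k hk
    have := hpol (v k) (v (k + 1))
    rw [hs2 k (by omega), hs2 (k + 1) (by omega)] at this
    have e : dot (s k (by omega) • v k) (s (k + 1) (by omega) • v (k + 1)) =
        s k (by omega) * s (k + 1) (by omega) * dot (v k) (v (k + 1)) := by
      simp only [dot, Pi.smul_apply, smul_eq_mul, Finset.mul_sum]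
      exact Finset.sum_congr rfl fun j _ => by ring
    rw [e] at this
    have h1 : s k (by omega) * s (k + 1) (by omega) = 1 :=
      mul_right_cancel₀ (six_facts.2.2 k hk) (this.trans (one_mul _).symm)
    rcases hs1 k (by omega) with e1 | e1 <;> rcases hs1 (k + 1) (by omega) with e2 | e2 <;>
      rw [e1, e2] at h1 ⊢ <;> revert h1 <;> decide
  have hall : ∀ k (hk : k < 6), s k hk = s 0 (by norm_num) := by
    intro k
    induction k with
    | zero => intro _; rfl
    | succ k ih => intro hk; rw [← hstep k (by omega)]; exact ih (by omega)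
  refine ⟨s 0 (by norm_num), by rcases hs1 0 (by norm_num) with e | e <;> rw [e] <;> decide, ?_⟩
  set M := Matrix.of fun i j : Fin 6 => pv (RDat.six.getD j.val 0) i
  have e : mat g * M = s 0 (by norm_num) • M := by
    ext i j
    have := congrFun (hs2 j.val j.2) i
    rw [hall j.val j.2] at this
    exact this
  calc mat g = mat g * (M * sixInv) := by rw [six_facts.2.1, Matrix.mul_one]
    _ = s 0 (by norm_num) • (1 : Matrix (Fin 6) (Fin 6) (ZMod 3)) := by
      rw [← Matrix.mul_assoc, e, Matrix.smul_mul, six_facts.2.1]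

theorem scalar_central {g : R0} {s : ZMod 3} (h : mat g = s • 1) : g ∈ Subgroup.center R0 := by
  rw [Subgroup.mem_center_iff]
  intro k
  apply Subtype.ext; apply Subtype.ext; apply Units.ext
  show mat k * mat g = mat g * mat k
  rw [h, Matrix.mul_smul, Matrix.smul_mul, Matrix.mul_one, Matrix.one_mul]

theorem ker_rho : rho.ker = Subgroup.center R0 := by
  apply le_antisymm
  · intro g hg
    obtain ⟨s, -, h⟩ := fixed_scalar (g := g) (fun k hk => by
      have hlt : RDat.six.getD k 0 < 126 := by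
        have : ∀ k < 6, RDat.six.getD k 0 < 126 := by decide +kernel
        exact this k hk
      have := congrArg Fin.val (Equiv.ext_iff.mp (MonoidHom.mem_ker.mp hg) ⟨_, hlt⟩)
      exact this)
    exact scalar_central h
  · intro g hg
    rw [MonoidHom.mem_ker]
    ext i
    show pnt (mat g *ᵥ pv i) = i
    obtain ⟨hl, e'⟩ := act_spec g i.2
    set j := pnt (mat g *ᵥ pv i)
    have hQj : Q0 (mat g *ᵥ pv i) = 1 := by rw [Q0_eq, pres]; exact (point_ok i i.2).1
    have h1 : g * ReflThree.r (pv i) (pv_value i.2) * g⁻¹ = ReflThree.r (mat g *ᵥ pv i) hQj := by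
      apply Subtype.ext
      have := ReflThree.conj_mat (Q := Q0) g.1 (pv i)
      refine this.trans ?_
      congr 2
    rw [← (Subgroup.mem_center_iff.mp hg) (ReflThree.r (pv i) (pv_value i.2)), mul_inv_cancel_right] at h1
    obtain ⟨t, ht⟩ := ReflThree.r_eq_span one_ne_zero (pv_value i.2) hQj h1
    rcases ReflThree.unit_cases t with rfl | rfl | rfl
    · exfalso; rw [ht, zero_smul, QuadraticMap.map_zero] at hQj; exact absurd hQj (by decide)
    · show j = i
      rw [show j = pnt (mat g *ᵥ pv i) from rfl, ht, one_smul]; exact (point_ok i i.2).2.1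
    · show j = i
      rw [show j = pnt (mat g *ᵥ pv i) from rfl, ht, neg_one_smul]; exact (point_ok i i.2).2.2

/-- the projective group -/
noncomputable abbrev K : Subgroup (Equiv.Perm (Fin 126)) := rho.range

/-- the element of a word -/
noncomputable def kw' (w : List ℕ) : K := ⟨rho (rword w), _, rfl⟩

theorem kw_append (u v : List ℕ) : kw' (u ++ v) = kw' u * kw' v := by
  apply Subtype.ext
  show rho (rword (u ++ v)) = rho (rword u) * rho (rword v)
  rw [← map_mul]; congr 1; simp [rword]

theorem kw_nil : kw' [] = 1 := Subtype.ext (by simp [kw', rword])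

theorem eq_of_tup {u v : List ℕ} (hu : ∀ x ∈ u, x < 126) (hv : ∀ x ∈ v, x < 126) (h : tup u = tup v) :
    kw' u = kw' v := by
  apply Subtype.ext
  show rho (rword u) = rho (rword v)
  have hfix : ∀ k < 6, pnt (mat ((rword v)⁻¹ * rword u) *ᵥ pv (RDat.six.getD k 0)) = RDat.six.getD k 0 := by
    intro k hk
    have hlt : RDat.six.getD k 0 < 126 := by
      have : ∀ k < 6, RDat.six.getD k 0 < 126 := by decide +kernel
      exact this k hk
    have hk' : rev' u (RDat.six.getD k 0) = rev' v (RDat.six.getD k 0) := by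
      have hlen : k < RDat.six.length := by
        rw [show RDat.six.length = 6 from rfl]; exact hk
      have := congrArg (fun l => l.getD k 0) h
      simp only [tup] at this
      rwa [List.getD_eq_getElem _ _ (by rw [List.length_map]; exact hlen),
        List.getD_eq_getElem _ _ (by rw [List.length_map]; exact hlen), List.getElem_map, List.getElem_map,
        ← List.getD_eq_getElem _ 0 hlen] at this
    have hp : rho (rword u) ⟨_, hlt⟩ = rho (rword v) ⟨_, hlt⟩ :=
      Fin.ext (by rw [rho_word hu, rho_word hv]; exact hk')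
    have e : rho ((rword v)⁻¹ * rword u) ⟨_, hlt⟩ = ⟨_, hlt⟩ := by
      rw [map_mul, Equiv.Perm.mul_apply, hp, map_inv]
      exact Equiv.symm_apply_apply _ _
    exact congrArg Fin.val e
  obtain ⟨s, -, hs⟩ := fixed_scalar hfix
  have := scalar_central hs
  rw [← ker_rho, MonoidHom.mem_ker, map_mul, map_inv, inv_mul_eq_one] at this
  exact this.symm

theorem tup_of_eq {u v : List ℕ} (hu : ∀ x ∈ u, x < 126) (hv : ∀ x ∈ v, x < 126) (h : kw' u = kw' v) :
    tup u = tup v := by
  refine List.map_congr_left fun i hi => ?_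
  have hlt := words_ok.2.2.2.2.2.2.2.1 i hi
  rw [← rho_word hu ⟨i, hlt⟩, ← rho_word hv ⟨i, hlt⟩]
  exact congrArg (fun q : K => ((q.1 ⟨i, hlt⟩ : Fin 126) : ℕ)) h

theorem tup_nil : tup [] = RDat.six := List.map_id _

/-- the reflection in a point -/
noncomputable def kr (a : ℕ) : K := kw' [a]

theorem card_center : Nat.card (Subgroup.center R0) = 2 := by
  have hneg : ∃ g : R0, mat g = (-1 : ZMod 3) • 1 := by
    have hq : ∀ i : Fin 6, Q0 (Pi.single i 1) = 1 := fun i => by
      rw [Q0_eq]
      have : ∀ i : Fin 6, q0 (Pi.single i 1) = 1 := by decide +kernel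
      exact this i
    refine ⟨((List.finRange 6).map fun i => ReflThree.r (Q := Q0) (c := 1) (Pi.single i 1) (hq i)).prod, ?_⟩
    have hm : ∀ l : List (Fin 6), mat (l.map fun i => ReflThree.r (Q := Q0) (c := 1) (Pi.single i 1) (hq i)).prod =
        (l.map fun i => Cfsg.reflectionMatrix q0 (Pi.single i 1)).prod := by
      intro l
      induction l with
      | nil => rfl
      | cons i l ih =>
        rw [List.map_cons, List.prod_cons, List.map_cons, List.prod_cons]
        show mat _ * mat _ = _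
        rw [ih, ← Q0_eq]
        congr 1
        exact Cfsg.Agent.Classical.ORefl.toMat_refl _
    rw [hm]
    decide +kernel
  obtain ⟨n, hn⟩ := hneg
  have hset : (Subgroup.center R0 : Set R0) = {1, n} := by
    ext g
    simp only [SetLike.mem_coe, Set.mem_insert_iff, Set.mem_singleton_iff]
    constructor
    · intro hg
      have hk : g ∈ rho.ker := ker_rho ▸ hg
      obtain ⟨s, hs0, hs⟩ := fixed_scalar (g := g) (fun k hk' => by
        have hlt : RDat.six.getD k 0 < 126 := by
          have : ∀ k < 6, RDat.six.getD k 0 < 126 := by decide +kernel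
          exact this k hk'
        exact congrArg Fin.val (Equiv.ext_iff.mp (MonoidHom.mem_ker.mp hk) ⟨_, hlt⟩))
      rcases ReflThree.unit_cases s with rfl | rfl | rfl
      · exact absurd rfl hs0
      · left
        apply Subtype.ext; apply Subtype.ext; apply Units.ext
        show mat g = 1
        rw [hs, one_smul]
      · right
        apply Subtype.ext; apply Subtype.ext; apply Units.ext
        exact hs.trans hn.symm
    · rintro (rfl | rfl)
      · exact Subgroup.one_mem _
      · exact scalar_central hn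
  rw [← SetLike.coe_sort_coe, Nat.card_coe_set_eq, hset, Set.ncard_pair]
  intro h
  have h' : mat (1 : R0) = (-1 : ZMod 3) • 1 := h ▸ hn
  have := congrFun (congrFun h' 0) 0
  revert this
  show ((1 : Matrix (Fin 6) (Fin 6) (ZMod 3)) 0 0 = ((-1 : ZMod 3) • (1 : Matrix (Fin 6) (Fin 6) (ZMod 3))) 0 0) → False
  decide

theorem card_K : Nat.card K = 6531840 := by
  have h1 : Nat.card R0 * 2 = 26127360 := by
    rw [← card_O, ← Subgroup.card_mul_index R0]
    congr 1
    exact (ReflThree.index_eq hQ (by simp) one_ne_zero).symm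
  have h2 : Nat.card (R0 ⧸ rho.ker) * 2 = Nat.card R0 := by
    rw [← card_center, ← ker_rho, ← Subgroup.card_eq_card_quotient_mul_card_subgroup]
  rw [← Nat.card_congr (QuotientGroup.quotientKerEquivRange rho).toEquiv]
  omega

theorem pword_lt {i : ℕ} (hi : i < 256) : ∀ x ∈ pword i, x < 126 := by
  have h : ∀ i < 256, (pword i).all (fun x => Nat.blt x 126) = true := pword_table
  exact fun x hx => Nat.le_of_ble_eq_true (List.all_eq_true.mp (h i hi) x hx)

theorem elem_spec {i : ℕ} (hi : i < 256) : elemOK i = true := all_range (p := elemOK) elems (Nat.zero_le _) (by omega)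

/-- the 2-subgroup -/
noncomputable def P : Subgroup K := Subgroup.closure {k | ∃ j < 8, k = kw' (RDat.pgens.getD j [])}

theorem mult_step {i j : ℕ} (hi : i < 256) (hj : j < 8) :
    ∃ m < 256, kw' (RDat.pgens.getD j []) * kw' (pword i) = kw' (pword m) := by
  have h := elem_spec hi
  simp only [elemOK, Bool.and_eq_true, List.all_eq_true, List.mem_range, beq_iff_eq] at h
  obtain ⟨h1, h2⟩ := h.1 j hj
  refine ⟨_, Nat.le_of_ble_eq_true h1, ?_⟩
  rw [← kw_append]
  refine eq_of_tup (fun x hx => ?_) (pword_lt (Nat.le_of_ble_eq_true h1)) h2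
  rcases List.mem_append.mp hx with hx | hx
  · exact pgen_lt j hj x hx
  · exact pword_lt hi x hx

theorem gword_mem : ∀ w : List ℕ, (∀ k ∈ w, k < 8) → kw' (gword w) ∈ P
  | [], _ => by rw [show gword [] = [] from rfl, kw_nil]; exact one_mem _
  | k :: w, hw => by
    rw [show gword (k :: w) = RDat.pgens.getD k [] ++ gword w by simp [gword], kw_append]
    exact mul_mem (Subgroup.subset_closure ⟨k, hw k (by simp), rfl⟩) (gword_mem w fun x hx => hw x (by simp [hx]))

theorem pword_mem {i : ℕ} (hi : i < 256) : kw' (pword i) ∈ P := by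
  refine gword_mem _ fun k hk => ?_
  have hl : i < RDat.pwords.length := words_ok.2.2.1.symm ▸ hi
  rw [List.getD_eq_getElem _ _ hl] at hk
  exact Nat.le_of_ble_eq_true (List.all_eq_true.mp (List.all_eq_true.mp words_ok.2.1 _ (List.getElem_mem hl)) k hk)

theorem P_cases {g : K} (hg : g ∈ P) : ∃ i < 256, g = kw' (pword i) := by
  have key : ∀ t ∈ P, ∀ i < 256, ∃ m < 256, t * kw' (pword i) = kw' (pword m) := by
    intro t ht
    rw [P, ← Subgroup.mem_toSubmonoid, Subgroup.closure_toSubmonoid_of_finite] at ht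
    induction ht using Submonoid.closure_induction with
    | mem t ht => obtain ⟨j, hj, rfl⟩ := ht; exact fun i hi => mult_step hi hj
    | one => exact fun i hi => ⟨i, hi, one_mul _⟩
    | mul p q _ _ hp hq =>
      intro i hi
      obtain ⟨m, hm, e⟩ := hq i hi
      obtain ⟨m', hm', e'⟩ := hp m hm
      exact ⟨m', hm', by rw [mul_assoc, e, e']⟩
  obtain ⟨m, hm, e⟩ := key g hg 0 (by norm_num)
  rw [pword_zero, kw_nil, mul_one] at e
  exact ⟨m, hm, e⟩

theorem card_P : Nat.card P = 256 := by
  let f : Fin 256 → P := fun i => ⟨kw' (pword i), pword_mem i.2⟩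
  have hf : Function.Bijective f := by
    refine ⟨fun i j h => ?_, fun g => ?_⟩
    · have h' := tup_of_eq (pword_lt i.2) (pword_lt j.2) (congrArg Subtype.val h)
      have hn := elem_distinct
      rw [List.nodup_map_iff_inj_on List.nodup_range] at hn
      exact Fin.ext (hn _ (List.mem_range.mpr i.2) _ (List.mem_range.mpr j.2) h')
    · obtain ⟨i, hi, e⟩ := P_cases g.2
      exact ⟨⟨i, hi⟩, Subtype.ext e.symm⟩
  rw [← Nat.card_congr (Equiv.ofBijective f hf), Nat.card_fin]

theorem sylow_mem {e : K} (he : e * e = 1) : ∃ g : K, g * e * g⁻¹ ∈ P := by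
  haveI : Fact (Nat.Prime 2) := ⟨Nat.prime_two⟩
  have hP : Nat.card P = 2 ^ (Nat.card K).factorization 2 := by
    rw [card_P, card_K, show (6531840 : ℕ) = 2 ^ 8 * 25515 by norm_num,
      Nat.factorization_mul (by norm_num) (by norm_num), Finsupp.add_apply, Nat.Prime.factorization_pow Nat.prime_two,
      Finsupp.single_eq_same, Nat.factorization_eq_zero_of_not_dvd (by norm_num)]
    norm_num
  let S : Sylow 2 K := Sylow.ofCard P hP
  have hp : IsPGroup 2 (Subgroup.zpowers e) := by
    intro x
    refine ⟨1, ?_⟩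
    obtain ⟨n, hn⟩ := x.2
    apply Subtype.ext
    show (x : K) ^ 2 ^ 1 = 1
    rw [← hn, ← zpow_natCast, ← _root_.zpow_mul, mul_comm, _root_.zpow_mul, zpow_natCast, pow_one, pow_two, he, _root_.one_zpow]
  obtain ⟨T, hT⟩ := hp.exists_le_sylow
  obtain ⟨g, hg⟩ := MulAction.exists_smul_eq K T S
  refine ⟨g, ?_⟩
  have hmem : g * e * g⁻¹ ∈ (g • T : Sylow 2 K) := by
    show g * e * g⁻¹ ∈ ((g • T : Sylow 2 K) : Subgroup K)
    rw [Sylow.coe_subgroup_smul, Subgroup.mem_pointwise_smul_iff_inv_smul_mem]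
    have : (MulAut.conj g)⁻¹ • (g * e * g⁻¹) = e := by
      simp [MulAut.smul_def, MulAut.conj_apply]; group
    rw [this]
    exact hT (Subgroup.mem_zpowers e)
  rw [hg] at hmem
  exact hmem

theorem kr_conj {w : List ℕ} (hw : ∀ x ∈ w, x < 126) {a : ℕ} (ha : a < 126) :
    ∃ b < 126, b = rev' w a ∧ kw' w * kr a * (kw' w)⁻¹ = kr b := by
  have hlt : rev' w a < 126 := by
    induction w with
    | nil => exact ha
    | cons x w ih => exact rim_lt (hw x (by simp)) (ih fun y hy => hw y (by simp [hy]))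
  refine ⟨_, hlt, rfl, Subtype.ext ?_⟩
  show rho (rword w) * rho (rword [a]) * (rho (rword w))⁻¹ = rho (rword [rev' w a])
  rw [← map_inv, ← map_mul, ← map_mul]
  congr 1
  simp only [rword, List.map_cons, List.map_nil, List.prod_cons, List.prod_nil, mul_one]
  rw [rfl', dif_pos ha, rfl', dif_pos hlt]
  set g := (w.map rfl').prod
  have hQ1 : Q0 (mat g *ᵥ pv a) = 1 := by rw [Q0_eq, pres]; exact (point_ok a ha).1
  have h1 : g * ReflThree.r (pv a) (pv_value ha) * g⁻¹ = ReflThree.r (mat g *ᵥ pv a) hQ1 := by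
    apply Subtype.ext
    have := ReflThree.conj_mat (Q := Q0) g.1 (pv a)
    refine this.trans ?_
    congr 2
  rw [h1]
  have hidx : pnt (mat g *ᵥ pv a) = rev' w a := by
    rw [← rho_word hw ⟨a, ha⟩, rho_val]; rfl
  rcases (act_spec g ha).2 with e | e <;> rw [hidx] at e
  · exact ReflThree.r_congr e _ _
  · have hneg : Q0 (-pv (rev' w a)) = 1 := by rw [QuadraticMap.map_neg]; exact pv_value hlt
    rw [ReflThree.r_congr e _ hneg]
    exact ReflThree.r_neg _ _

theorem kr_inj {a b : ℕ} (ha : a < 126) (hb : b < 126) (h : kr a = kr b) : a = b := by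
  have hn := refl_distinct
  rw [List.nodup_map_iff_inj_on List.nodup_range] at hn
  exact hn _ (List.mem_range.mpr ha) _ (List.mem_range.mpr hb)
    (tup_of_eq (by simp [ha]) (by simp [hb]) h)

theorem class_eq {E : Set K} (hne : E.Nonempty) (hconj : ∀ g : K, ∀ e ∈ E, g * e * g⁻¹ ∈ E)
    (hord : ∀ e ∈ E, orderOf e = 2) (hpair : ∀ x ∈ E, ∀ y ∈ E, (x * y) ^ 2 = 1 ∨ (x * y) ^ 3 = 1) :
    E = Set.range fun a : Fin 126 => kr a := by
  have hforward : ∀ e ∈ E, ∃ a : Fin 126, e = kr a := by
    intro e he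
    obtain ⟨g, hg⟩ := sylow_mem (Spor.mul_self_of_order_two (hord e he))
    obtain ⟨i, hi, hgi⟩ := P_cases hg
    have hmem : kw' (pword i) ∈ E := hgi ▸ hconj g e he
    have hsq : kw' (pword i) * kw' (pword i) = 1 := Spor.mul_self_of_order_two (hord _ hmem)
    have hne1 : kw' (pword i) ≠ 1 := fun h => by
      have := hord _ hmem; rw [h, orderOf_one] at this; omega
    have hl := pword_lt hi
    have hll : ∀ x ∈ pword i ++ pword i, x < 126 := fun x hx =>
      (List.mem_append.mp hx).elim (hl x) (hl x)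
    have hs := elem_spec hi
    simp only [elemOK, Bool.and_eq_true] at hs
    have hk := hs.2
    set c := fld RDat.clsTab 20 i
    by_cases c0 : c % 16 = 0
    · rw [if_pos c0, beq_iff_eq] at hk
      exact absurd ((eq_of_tup hl (by simp) (hk.trans tup_nil.symm)).trans kw_nil) hne1
    rw [if_neg c0] at hk
    by_cases c1 : c % 16 = 1
    · rw [if_pos c1, Bool.not_eq_true', beq_eq_false_iff_ne] at hk
      exact absurd ((tup_of_eq hll (by simp) (by rw [kw_append, hsq, kw_nil])).trans tup_nil) hk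
    rw [if_neg c1] at hk
    by_cases c2 : c % 16 = 2
    · rw [if_pos c2] at hk
      simp only [Bool.and_eq_true, decide_eq_true_eq, beq_iff_eq] at hk
      have hei : kw' (pword i) = kr (c / 16 % 256) :=
        eq_of_tup hl (by simp [hk.1]) hk.2
      obtain ⟨h, rfl⟩ : ∃ h : R0, (⟨rho h, h, rfl⟩ : K) = g := by
        obtain ⟨_, h, rfl⟩ := g; exact ⟨h, rfl⟩
      -- move back along the conjugating element
      have hexists : ∀ k : K, ∀ a < 126, ∃ b : Fin 126, k * kr a * k⁻¹ = kr b := by
        rintro ⟨_, h', rfl⟩ a ha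
        have hQ1 : Q0 (mat h' *ᵥ pv a) = 1 := by rw [Q0_eq, pres]; exact (point_ok a ha).1
        obtain ⟨hl', e'⟩ := act_spec h' ha
        refine ⟨⟨_, hl'⟩, Subtype.ext ?_⟩
        show rho h' * rho (rword [a]) * (rho h')⁻¹ = rho (rword [pnt (mat h' *ᵥ pv a)])
        rw [← map_inv, ← map_mul, ← map_mul]
        congr 1
        simp only [rword, List.map_cons, List.map_nil, List.prod_cons, List.prod_nil, mul_one]
        rw [rfl', dif_pos ha, rfl', dif_pos hl']
        have h1 : h' * ReflThree.r (pv a) (pv_value ha) * h'⁻¹ = ReflThree.r (mat h' *ᵥ pv a) hQ1 := by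
          apply Subtype.ext
          have := ReflThree.conj_mat (Q := Q0) h'.1 (pv a)
          refine this.trans ?_
          congr 2
        rw [h1]
        rcases e' with e | e
        · exact ReflThree.r_congr e _ _
        · have hneg : Q0 (-pv (pnt (mat h' *ᵥ pv a))) = 1 := by rw [QuadraticMap.map_neg]; exact pv_value hl'
          rw [ReflThree.r_congr e _ hneg]
          exact ReflThree.r_neg _ _
      obtain ⟨b, hb⟩ := hexists (⟨rho h, h, rfl⟩ : K)⁻¹ _ hk.1
      refine ⟨b, ?_⟩
      rw [← hb, ← hei, ← hgi]; group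
    rw [if_neg c2] at hk
    simp only [Bool.and_eq_true, decide_eq_true_eq, Bool.not_eq_true', beq_eq_false_iff_ne] at hk
    obtain ⟨⟨⟨ha, hb⟩, n2⟩, n3⟩ := hk
    set a := c / 16 % 256
    set b := c / 4096
    exfalso
    set W := pword i ++ ([a, b] ++ pword i ++ [b, a])
    have hW : ∀ x ∈ W, x < 126 := by
      intro x hx
      simp only [W, List.mem_append, List.mem_cons, List.not_mem_nil, or_false] at hx
      rcases hx with h | (((rfl | rfl) | h) | (rfl | rfl))
      all_goals first | exact hl x h | assumption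
    have hWk : kw' W = kw' (pword i) * (kw' [a, b] * kw' (pword i) * (kw' [a, b])⁻¹) := by
      have hinv : (kw' [a, b])⁻¹ = kw' [b, a] := by
        refine inv_eq_of_mul_eq_one_right ?_
        rw [← kw_append]
        refine Subtype.ext ?_
        show rho (rword [a, b, b, a]) = 1
        simp only [rword, List.map_cons, List.map_nil, List.prod_cons, List.prod_nil, mul_one, rfl', dif_pos ha,
          dif_pos hb]
        rw [← mul_assoc (ReflThree.r (pv b) _), ReflThree.r_sq, one_mul, ReflThree.r_sq, map_one]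
      simp only [W, kw_append, hinv]
    have hpow : ∀ n : ℕ, kw' ((List.replicate n W).flatten) = kw' W ^ n := by
      intro n
      induction n with
      | zero => simp [kw_nil]
      | succ n ih => rw [List.replicate_succ, List.flatten_cons, kw_append, ih, pow_succ']
    have hfl : ∀ n : ℕ, ∀ x ∈ (List.replicate n W).flatten, x < 126 := by
      intro n x hx
      obtain ⟨l, hl', hxl⟩ := List.mem_flatten.mp hx
      rw [List.eq_of_mem_replicate hl'] at hxl
      exact hW x hxl
    rcases hpair _ hmem _ (hconj (kw' [a, b]) _ hmem) with h | h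
    · exact n2 ((tup_of_eq (hfl 2) (by simp) (by rw [hpow, hWk, h, kw_nil])).trans tup_nil)
    · exact n3 ((tup_of_eq (hfl 3) (by simp) (by rw [hpow, hWk, h, kw_nil])).trans tup_nil)
  refine Set.eq_of_subset_of_subset (fun e he => ?_) ?_
  · obtain ⟨a, ha⟩ := hforward e he; exact ⟨a, ha.symm⟩
  · rintro _ ⟨a, rfl⟩
    obtain ⟨e, he⟩ := hne
    obtain ⟨a₀, rfl⟩ := hforward e he
    have hml : ∀ i : Fin 126, ∀ x ∈ RDat.moveW.getD i.val [], x < 126 := fun i x hx => by
      have hl : i.val < RDat.moveW.length := words_ok.2.2.2.2.1.symm ▸ i.2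
      rw [List.getD_eq_getElem _ _ hl] at hx
      exact Nat.le_of_ble_eq_true (List.all_eq_true.mp (List.all_eq_true.mp words_ok.2.2.2.1 _ (List.getElem_mem hl)) x hx)
    have hmove : ∀ i : Fin 126, kw' (RDat.moveW.getD i.val []) * kr 0 * (kw' (RDat.moveW.getD i.val []))⁻¹ = kr i := by
      intro i
      obtain ⟨b, -, hb, e⟩ := kr_conj (hml i) (show 0 < 126 by norm_num)
      rw [move_ok i.val i.2] at hb
      rw [e, hb]
    have h0 : kr 0 ∈ E := by
      have := hconj (kw' (RDat.moveW.getD a₀.val []))⁻¹ _ he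
      rw [← hmove a₀] at this
      convert this using 1
      group
    show kr a.val ∈ E
    rw [← hmove a]
    exact hconj _ _ h0

theorem commute_iff {a b : ℕ} (ha : a < 126) (hb : b < 126) :
    Commute (kr a) (kr b) ↔ tup [a, b] = tup [b, a] := by
  have e1 : kr a * kr b = kw' [a, b] := (kw_append [a] [b]).symm
  have e2 : kr b * kr a = kw' [b, a] := (kw_append [b] [a]).symm
  constructor
  · intro h
    exact tup_of_eq (by simp [ha, hb]) (by simp [ha, hb]) (by rw [← e1, ← e2, h.eq])
  · intro h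
    show kr a * kr b = kr b * kr a
    rw [e1, e2]; exact eq_of_tup (by simp [ha, hb]) (by simp [ha, hb]) h

theorem equiv_K {X : Type*} [Group X] {c : ZMod 3} (hc : c ≠ 0)
    (h : Cfsg.IsProjReflectionGroupModThree X 6 1 c) : Nonempty (X ≃* K) := by
  obtain ⟨Q, hQn, hdisc, ⟨φ⟩⟩ := h
  obtain ⟨M, N, hNM, hMN, hM⟩ := exists_similar Q hQn hdisc c hc
  have hM' : ∀ x, (⇑Q) (M *ᵥ x) = c * (⇑Q0) x := fun x => by rw [Q0_eq]; exact hM x
  let e := isoEquiv (⇑Q0) (⇑Q) M N hNM hMN hc hM'
  have hmap : R0.map e.toMonoidHom = Cfsg.reflectionSubgroup (⇑Q) c := by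
    show (Cfsg.reflectionSubgroup (⇑Q0) (1 : ZMod 3)).map e.toMonoidHom = _
    rw [Cfsg.reflectionSubgroup, Cfsg.reflectionSubgroup, MonoidHom.map_closure]
    congr 1
    have key : ∀ v : Fin 6 → ZMod 3, Q0 v = 1 →
        M * Cfsg.reflectionMatrix (⇑Q0) v * N = Cfsg.reflectionMatrix (⇑Q) (M *ᵥ v) := by
      intro v hv
      have hQv : Q (M *ᵥ v) = c := by rw [hM', hv, mul_one]
      refine Matrix.ext_iff_mulVec.mpr fun x => ?_
      obtain ⟨y, rfl⟩ : ∃ y, x = M *ᵥ y := ⟨N *ᵥ x, by rw [Matrix.mulVec_mulVec, hMN, Matrix.one_mulVec]⟩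
      have e1 : (M * Cfsg.reflectionMatrix (⇑Q0) v * N) *ᵥ (M *ᵥ y) = M *ᵥ (Cfsg.reflectionMatrix (⇑Q0) v *ᵥ y) := by
        rw [Matrix.mulVec_mulVec, Matrix.mul_assoc, hNM, Matrix.mul_one, ← Matrix.mulVec_mulVec]
      have r1 := Cfsg.Agent.Classical.ORefl.toMat_refl (Q := Q0) v
      have r2 := Cfsg.Agent.Classical.ORefl.toMat_refl (Q := Q) (M *ᵥ v)
      rw [e1, ← r1, ← r2, Cfsg.Agent.Classical.ORefl.toMat_apply, Cfsg.Agent.Classical.ORefl.toMat_apply]
      show M *ᵥ ((Cfsg.Agent.Classical.OOmega.rf Q0 v).1 y) = (Cfsg.Agent.Classical.OOmega.rf Q (M *ᵥ v)).1 (M *ᵥ y)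
      rw [ReflThree.rf_apply hv, ReflThree.rf_apply hQv, Matrix.mulVec_sub, Matrix.mulVec_smul]
      have hp : (1 : ZMod 3)⁻¹ * QuadraticMap.polar (⇑Q0) v y =
          c⁻¹ * QuadraticMap.polar (⇑Q) (M *ᵥ v) (M *ᵥ y) := by
        rw [QuadraticMap.polar, QuadraticMap.polar, ← Matrix.mulVec_add, hM', hM', hM', ← mul_sub,
          ← mul_sub, ← mul_assoc, inv_mul_cancel₀ hc, inv_one]
      rw [hp]
    ext g
    constructor
    · rintro ⟨g, ⟨v, hv, hg⟩, rfl⟩
      exact ⟨M *ᵥ v, by rw [hM', hv, mul_one], by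
        show M * g.1.1 * N = _
        rw [hg, key v hv]⟩
    · rintro ⟨w, hw, hg⟩
      have hv : Q0 (N *ᵥ w) = 1 := by
        have := hM' (N *ᵥ w)
        rw [Matrix.mulVec_mulVec, hMN, Matrix.one_mulVec, hw] at this
        exact mul_left_cancel₀ hc (this.symm.trans (mul_one c).symm)
      refine ⟨e.symm g, ⟨N *ᵥ w, hv, ?_⟩, e.apply_symm_apply g⟩
      show N * g.1.1 * M = _
      have hk := key _ hv
      rw [Matrix.mulVec_mulVec, hMN, Matrix.one_mulVec] at hk
      rw [hg, ← hk, show N * (M * Cfsg.reflectionMatrix (⇑Q0) (N *ᵥ w) * N) * M =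
        (N * M) * Cfsg.reflectionMatrix (⇑Q0) (N *ᵥ w) * (N * M) by simp only [Matrix.mul_assoc], hNM,
        Matrix.one_mul, Matrix.mul_one]
  let e' : R0 ≃* Cfsg.reflectionSubgroup (⇑Q) c :=
    (e.subgroupMap R0).trans (MulEquiv.subgroupCongr hmap)
  have hc' : (Subgroup.center R0).map e'.toMonoidHom = Subgroup.center (Cfsg.reflectionSubgroup (⇑Q) c) := by
    ext x
    simp only [Subgroup.mem_map, Subgroup.mem_center_iff]
    constructor
    · rintro ⟨y, hy, rfl⟩ g
      obtain ⟨g, rfl⟩ := e'.surjective g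
      show e' g * e' y = e' y * e' g
      rw [← map_mul, ← map_mul, hy]
    · intro hx
      refine ⟨e'.symm x, fun g => e'.injective ?_, e'.apply_symm_apply x⟩
      rw [map_mul, map_mul, e'.apply_symm_apply, hx]
  exact ⟨φ.trans ((QuotientGroup.congr _ _ e' hc').symm.trans
    ((QuotientGroup.quotientMulEquivOfEq ker_rho.symm).trans (QuotientGroup.quotientKerEquivRange rho)))⟩

end Cfsg.Agent.Spor.M22U.Refl
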