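import Cfsg.Agent.Lib.Spor.LargeExtraspecial
import Cfsg.Agent.Lib.Spor.LargeQuotient

/-!
A simplicity criterion from a large extraspecial subgroup.
-/

set_option autoImplicit false

namespace Cfsg.Agent.Spor.Large

variable {G : Type*} [Group G] [Finite G]

/-- a group with a large extraspecial subgroup is simple if every normal subgroup containing the
central involution contains its centralizer -/
theorem simple_of_large (Q : Subgroup G) (hQ : Cfsg.IsLargeExtraspecial Q) {z : G} (X : XT z Q)
    (hnorm : ∀ c : G, Commute c z → ∀ q ∈ Q, c * q * c⁻¹ ∈ Q)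
    (hgen : ∀ N : Subgroup G, N.Normal → z ∈ N → ∀ c, Commute c z → c ∈ N) :
    IsSimpleGroup G := by
  haveI : Fact (Nat.Prime 2) := ⟨Nat.prime_two⟩
  haveI : Nontrivial G := ⟨⟨z, 1, X.ne⟩⟩
  have hQ2 : IsPGroup 2 Q := hQ.1.1.1
  refine ⟨fun N hN => ?_⟩
  haveI := hN
  by_cases hzN : z ∈ N
  · right
    have hall := hgen N hN hzN
    have hQN : Q ≤ N := fun q hq => hall q (X.cen q hq).symm
    rw [eq_top_iff, ← frattini_large Q hQ N hQN]
    refine sup_le le_rfl fun c hc => ?_
    -- the normalizer fixes the central involution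
    refine hall c (mul_inv_eq_iff_eq_mul.1 ?_)
    have h1 : c * z * c⁻¹ ∈ Q := (Subgroup.mem_normalizer_iff.1 hc z).1 X.mem
    have hcc : ∀ b ∈ Q, Commute (c * z * c⁻¹) b := by
      intro b hb
      have hb' : c⁻¹ * b * c ∈ Q := by
        have := (Subgroup.mem_normalizer_iff.1 (inv_mem hc) b).1 hb
        rwa [inv_inv] at this
      have := (Commute.conj_iff c).2 (X.cen _ hb')
      rwa [show c * (c⁻¹ * b * c) * c⁻¹ = b by group] at this
    exact (X.eq_of_cen _ h1 hcc).resolve_left fun e => X.ne (conj_eq_one_iff.1 e)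
  · left
    -- the normal subgroup meets the centralizer trivially
    have hNQ : ∀ q ∈ Q, q ∈ N → q = 1 := by
      intro q hq hqN
      by_contra hq1
      by_cases hcq : ∀ b ∈ Q, Commute q b
      · rcases X.eq_of_cen q hq hcq with e | e
        exacts [hq1 e, hzN (e ▸ hqN)]
      · push Not at hcq
        obtain ⟨b, hb, hqb⟩ := hcq
        have hm := X.move hb hq fun e => hqb e.symm
        refine hzN ?_
        have := mul_mem (inv_mem hqN) (hN.conj_mem q hqN b)
        rwa [hm, inv_mul_cancel_left] at this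
    have hfix : ∀ n ∈ N, Commute n z → n = 1 := by
      intro n hn hnz
      have hcQ : ∀ q ∈ Q, q * n = n * q := by
        intro q hq
        have h1 : n * q * n⁻¹ * q⁻¹ = 1 := by
          refine hNQ _ (mul_mem (hnorm n hnz q hq) (inv_mem hq)) ?_
          rw [show n * q * n⁻¹ * q⁻¹ = n * (q * n⁻¹ * q⁻¹) by group]
          exact mul_mem hn (hN.conj_mem _ (inv_mem hn) q)
        exact (mul_inv_eq_iff_eq_mul.1 (mul_inv_eq_one.1 h1)).symm
      have hm : n ∈ (Subgroup.center ↥Q).map Q.subtype := hQ.2.1 ▸ Subgroup.mem_centralizer_iff.2 hcQ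
      exact hNQ n (Subgroup.map_subtype_le _ hm) hn
    set φ : N →* N :=
      { toFun := fun n => ⟨z * (n : G) * z⁻¹, hN.conj_mem _ n.2 z⟩
        map_one' := Subtype.ext (by simp)
        map_mul' := fun a c => Subtype.ext (by simp [mul_assoc]) } with hφ
    have hzi : z⁻¹ = z := inv_eq_of_mul_eq_one_right X.sq
    have hfpf : MonoidHom.FixedPointFree φ := fun a ha => by
      have e : z * (a : G) * z⁻¹ = a := congrArg Subtype.val ha
      exact Subtype.ext (hfix a a.2 (mul_inv_eq_iff_eq_mul.1 e).symm)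
    have hinv : Function.Involutive φ := fun a => Subtype.ext (by
      show z * (z * (a : G) * z⁻¹) * z⁻¹ = a
      rw [hzi, ← mul_assoc, ← mul_assoc, X.sq, one_mul, mul_assoc, X.sq, mul_one])
    refine hQ.2.2.2 N ?_ (fun q _ => (Subgroup.normalizer_eq_top N).symm ▸ Subgroup.mem_top q)
    rw [← Nat.not_even_iff_odd, even_iff_two_dvd]
    intro h2
    obtain ⟨a, ha⟩ := exists_prime_orderOf_dvd_card' (G := N) 2 h2
    have e := congrFun (hfpf.coe_eq_inv_of_involutive hinv) a
    have hai : a⁻¹ = a := inv_eq_of_mul_eq_one_right (by rw [← pow_two, ← ha, pow_orderOf_eq_one])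
    have hfa : φ a = a := e.trans hai
    have ha1 : (a : G) = 1 := hfix a a.2 (mul_inv_eq_iff_eq_mul.1 (congrArg Subtype.val hfa)).symm
    rw [show a = 1 from Subtype.ext ha1, orderOf_one] at ha
    omega

end Cfsg.Agent.Spor.Large
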