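import Cfsg.Agent.Lib.Spor.Co1SevenFix
import Cfsg.Agent.Lib.Small.PSLn.Simple

/-!
The centraliser in the first Conway group of an element of order seven induces the linear group of
degree three over the field with two elements on half of its fixed classes, with kernel generated by it.
-/

set_option autoImplicit false
set_option maxRecDepth 100000

namespace Cfsg.Agent.Spor.Co1Seven

open Cfsg Cfsg.Agent.Spor.MonsterFusion
open scoped Pointwise

local notation "Zv" => GolayPt → ℤ
set_option quotPrecheck false in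
local notation "Lv" => ↥leechLattice
local notation "V6" => Fin 6 → ZMod 2
local notation "V3" => Fin 3 → ZMod 2
local notation "SL3" => Matrix.SpecialLinearGroup (Fin 3) (ZMod 2)

/-- the projection to the first Conway group -/
noncomputable def pr : ↥Co0 →* Cfsg.Spor.Co1 := QuotientGroup.mk' (Subgroup.center ↥Co0)

/-- the element of order seven in the first Conway group -/
noncomputable def beta : Cfsg.Spor.Co1 := pr pel

theorem lift_rel {x y : ↥Co0} (h : pr x = pr y) (hx : x ^ 7 = 1) (hy : y ^ 7 = 1) : x = y := by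
  obtain ⟨n, hn⟩ := negation_exists
  have hc : x⁻¹ * y ∈ Subgroup.center ↥Co0 := QuotientGroup.eq.1 h
  rcases center_cases hn hc with e | e
  · exact inv_mul_eq_one.1 e
  · exfalso
    have hy' : y = x * n := by rw [← e]; group
    have hcn : Commute x n := (Subgroup.mem_center_iff.1 (negation_mem_center hn) x)
    have h7 : n ^ 7 = 1 := by rw [hy', hcn.mul_pow, hx, one_mul] at hy; exact hy
    have h2 : n * n = 1 := co0_ext fun v => by rw [mul_smul, hn, hn, neg_neg, one_smul]
    have h1 : n = 1 := by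
      rwa [show (7 : ℕ) = 2 * 3 + 1 from rfl, pow_succ, pow_mul, sq, h2, one_pow, one_mul] at h7
    have := congrArg (fun v : Lv => (v : Zv) none) (show n • e8 none = e8 none by rw [h1, one_smul])
    simp only [hn, Pi.neg_apply] at this
    simp [e8] at this

theorem conj_pow_seven (g : ↥Co0) (i : ℕ) : (g * pel ^ i * g⁻¹) ^ 7 = 1 := by
  rw [conj_pow, ← pow_mul, mul_comm i, pow_mul, pel_pow_seven, one_pow, mul_one, mul_inv_cancel]

theorem orderOf_beta : orderOf beta = 7 := by
  haveI : Fact (Nat.Prime 7) := ⟨by norm_num⟩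
  refine orderOf_eq_prime (by rw [beta, ← map_pow, pel_pow_seven, map_one]) fun h => ?_
  exact pel_ne_one (lift_rel (x := pel) (y := 1) (by rw [map_one]; exact h) pel_pow_seven (one_pow _))

theorem lift_conj {g : ↥Co0} {i : ℕ} (h : pr g * beta = beta ^ i * pr g) : g * pel = pel ^ i * g := by
  have h1 : pr (g * pel * g⁻¹) = pr (pel ^ i) := by
    rw [map_mul, map_mul, map_inv, map_pow, ← beta, h, mul_inv_cancel_right]
  have e := lift_rel h1 (by simpa using conj_pow_seven g 1)
    (by rw [← pow_mul, mul_comm, pow_mul, pel_pow_seven, one_pow])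
  rw [← e, inv_mul_cancel_right]

/-! ### the normaliser in the code group -/

theorem list_of_rep {σ : Equiv.Perm GolayPt} {l l' : List ℕ} (h : Rep σ l) (h' : Rep σ l') (hl : l.length = 24)
    (hl' : l'.length = 24) : l = l' := by
  refine List.ext_getElem (hl.trans hl'.symm) fun i hi hi' => ?_
  have hi24 : i < 24 := hl ▸ hi
  rw [← List.getD_eq_getElem _ 0 hi, ← List.getD_eq_getElem _ 0 hi', ← idx_pt i hi24, h (pt i), h' (pt i)]

theorem sevenG_val : ((sevenG : M24) : Equiv.Perm GolayPt) = sigma := rfl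

theorem rep_sigma_pow {i : ℕ} (hi : i ≤ 7) : Rep (sigma ^ i) (xpw i) := by
  rw [← sevenG_val, ← SubmonoidClass.coe_pow, sevenG_pow i hi]
  exact rep_lperm (List.all_eq_true.1 seven_facts.2.1 i (List.mem_range.2 (by omega)))

theorem norm_list {σ : Equiv.Perm GolayPt} (hσ : σ ∈ M24) {i : ℕ} (hi : i < 7) (h : σ * sigma = sigma ^ i * σ) :
    ∃ l ∈ sevenNorm, lok l = true ∧ σ = lperm l ∧ lmul l sevenX = lmul (xpw i) l := by
  classical
  obtain ⟨hall, hnd, hlen, -, -⟩ := seven_norm_facts
  have hl : ∀ l ∈ sevenNorm, lok l = true ∧ lperm l ∈ M24 ∧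
      ∃ j : Fin 7, lmul l sevenX = lmul (xpw j) l := by
    intro l hl
    have h := List.all_eq_true.1 hall l hl
    rw [Bool.and_eq_true, List.any_eq_true] at h
    obtain ⟨j, hj, hje⟩ := h.2
    exact ⟨m24ok_lok h.1, lperm_mem h.1, ⟨j, List.mem_range.1 hj⟩, beq_iff_eq.1 hje⟩
  have hnorm : ∀ l ∈ sevenNorm, ∀ hm : lperm l ∈ M24,
      (⟨lperm l, hm⟩ : M24) ∈ Subgroup.normalizer ((Subgroup.zpowers sevenG : Subgroup M24) : Set M24) := by
    intro l hl' hm
    obtain ⟨hok, -, j, hj⟩ := hl l hl'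
    refine mem_normalizer_sevenG.2 ⟨j, Subtype.ext ?_⟩
    show lperm l * lperm sevenX = ((sevenG ^ (j : ℕ) : M24) : Equiv.Perm GolayPt) * lperm l
    have r1 := (rep_lperm hok).mul (rep_lperm (m24ok_lok seven_facts.1))
    have r2 := (rep_sigma_pow j.2.le).mul (rep_lperm hok)
    rw [SubmonoidClass.coe_pow, sevenG_val]
    exact rep_unique r1 (hj ▸ r2)
  let f : ↥sevenNorm.toFinset → ↥(Subgroup.normalizer ((Subgroup.zpowers sevenG : Subgroup M24) : Set M24)) :=
    fun l => ⟨⟨lperm l.1, (hl l.1 (List.mem_toFinset.1 l.2)).2.1⟩, hnorm l.1 (List.mem_toFinset.1 l.2) _⟩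
  have hf : Function.Bijective f := (Nat.bijective_iff_injective_and_card f).2
    ⟨fun a b e => Subtype.ext (lperm_inj_on (hl a.1 (List.mem_toFinset.1 a.2)).1 (hl b.1 (List.mem_toFinset.1 b.2)).1
      (congrArg (fun g : Subgroup.normalizer ((Subgroup.zpowers sevenG : Subgroup M24) : Set M24) =>
        ((g : M24) : Equiv.Perm GolayPt)) e)), by
      rw [Nat.card_eq_fintype_card, Fintype.card_coe, List.toFinset_card_of_nodup hnd, hlen, seven_normalizer_card.1]⟩
  have hmem : (⟨σ, hσ⟩ : M24) ∈ Subgroup.normalizer ((Subgroup.zpowers sevenG : Subgroup M24) : Set M24) :=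
    mem_normalizer_sevenG.2 ⟨⟨i, hi⟩, Subtype.ext (by
      rw [Subgroup.coe_mul, Subgroup.coe_mul, SubmonoidClass.coe_pow, sevenG_val]; exact h)⟩
  obtain ⟨l, hlf⟩ := hf.2 ⟨⟨σ, hσ⟩, hmem⟩
  have hlσ : lperm l.1 = σ := congrArg (fun g : Subgroup.normalizer ((Subgroup.zpowers sevenG : Subgroup M24) : Set M24) =>
    ((g : M24) : Equiv.Perm GolayPt)) hlf
  obtain ⟨hok, -, -⟩ := hl l.1 (List.mem_toFinset.1 l.2)
  refine ⟨l.1, List.mem_toFinset.1 l.2, hok, hlσ.symm, list_of_rep (σ := σ * sigma)
    (hlσ ▸ (rep_lperm hok).mul (rep_lperm (m24ok_lok seven_facts.1))) ?_ (by simp [lmul]) (by simp [lmul])⟩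
  rw [h]
  exact (rep_sigma_pow hi.le).mul (hlσ ▸ rep_lperm hok)

theorem norm_six : ∀ l ∈ sevenNorm, lmul l sevenX ≠ lmul (xpw 6) l := by decide +kernel

theorem sigma_inv : sigma⁻¹ = sigma ^ 6 := inv_eq_of_mul_eq_one_right (by rw [← pow_succ']; exact sigma_pow_seven)

theorem pel_inv : pel⁻¹ = pel ^ 6 := inv_eq_of_mul_eq_one_right (by rw [← pow_succ']; exact pel_pow_seven)

/-- the monomial form -/
theorem mono_rel {g : ↥Co0} (hg : g ∈ monoSub) {i : ℕ} (h : g * pel = pel ^ i * g) :
    ∃ σ ∈ M24, ∃ w ∈ golayCode, (∀ v : Lv, ((g • v : Lv) : Zv) = sgn w (prm σ (v : Zv))) ∧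
      σ * sigma = sigma ^ i * σ ∧ w = actW (sigma ^ i) w := by
  obtain ⟨σ, hσ, w, hw, e⟩ := std_form (mem_monoSub.1 hg)
  have z : ∀ (n : ℕ) (v : Lv), ((pel ^ n • v : Lv) : Zv) = sgn 0 (prm (sigma ^ n) (v : Zv)) := fun n v => by
    rw [pel_pow_spec]; funext p; simp [sgn]
  have h1 := mono_unique (σ := σ * sigma) (τ := sigma ^ i * σ) (w := w + actW σ 0) (w' := 0 + actW (sigma ^ i) w)
    fun v => by
      rw [← mono_mul (h := pel) e (fun v => by simpa using z 1 v) v, ← mono_mul (g := pel ^ i) (z i) e v, h]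
  refine ⟨σ, hσ, w, hw, e, h1.1, ?_⟩
  have h2 := h1.2
  rwa [zero_add, show actW σ 0 = 0 from rfl, add_zero] at h2

theorem no_invert {g : ↥Co0} (hg : g ∈ monoSub) : g * pel ≠ pel⁻¹ * g := by
  intro h
  rw [pel_inv] at h
  obtain ⟨σ, hσ, w, -, -, hrel, -⟩ := mono_rel hg h
  obtain ⟨l, hl, -, -, e⟩ := norm_list hσ (by norm_num) hrel
  exact norm_six l hl e

/-! ### the monomial part of the centraliser -/

/-- the centralising permutations -/
def centL : List (List ℕ) := sevenNorm.filter fun l => lmul l sevenX == lmul sevenX l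

theorem fix_masks_complete : (codeMasks.all fun m =>
    !((List.range 24).all fun i => Nat.testBit m (sevenX.getD i 0) == Nat.testBit m i) || fixMasks.elem m) = true := by
  decide +kernel

theorem mono_cent {g : ↥Co0} (hg : g ∈ monoSub) (h : g * pel = pel * g) :
    ∃ l ∈ centL, ∃ m ∈ fixMasks, lok l = true ∧
      ∀ v : Lv, ((g • v : Lv) : Zv) = sgn (ofMaskW m) (prm (lperm l) (v : Zv)) := by
  obtain ⟨σ, hσ, w, hw, e, hrel, hwf⟩ := mono_rel hg (i := 1) (by rwa [pow_one])
  obtain ⟨l, hl, hok, rfl, he⟩ := norm_list hσ (by norm_num) hrel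
  have hx1 : xpw 1 = sevenX := by decide +kernel
  rw [hx1] at he
  refine ⟨l, List.mem_filter.2 ⟨hl, by rw [he]; exact beq_self_eq_true _⟩, wmask w, ?_, hok, ?_⟩
  · have hm := List.all_eq_true.1 fix_masks_complete _ (mem_code.1 hw)
    rw [Bool.or_eq_true, List.elem_iff] at hm
    refine hm.resolve_left ?_
    rw [Bool.not_eq_true', Bool.not_eq_false]
    refine List.all_eq_true.2 fun i hi => beq_iff_eq.2 ?_
    have hi24 := List.mem_range.1 hi
    have hp : w (sx (pt i)) = w (pt i) := by
      rw [pow_one] at hwf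
      conv_lhs => rw [hwf]
      show w (sigma.symm (sx (pt i))) = _
      rw [← sigma_apply, Equiv.symm_apply_apply]
    have htb : ∀ p : GolayPt, Nat.testBit (wmask w) (idx p) = true ↔ w p = 1 := by
      intro p
      rw [wmask, testBit_mask_idx, mem_support₂]
      rcases word_eq_one_or_zero (w p) with hwp | hwp <;> simp [hwp]
    rw [show sevenX.getD i 0 = idx (sx (pt i)) by
      rw [← sigma_apply]; have := rep_lperm (m24ok_lok seven_facts.1) (pt i); rw [idx_pt i hi24] at this; exact this]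
    conv_rhs => rw [← idx_pt i hi24]
    exact Bool.eq_iff_iff.2 (by rw [htb, htb, hp])
  · intro v
    rw [e]
    congr 1
    funext p
    rcases word_eq_one_or_zero (w p) with hp | hp
    · rw [ofMaskW, if_neg, hp]
      simp [wmask, testBit_mask_idx, mem_support₂, hp]
    · rw [ofMaskW, if_pos, hp]
      simp [wmask, testBit_mask_idx, mem_support₂, hp]

/-! ### the fourteen classes -/

/-- the first half -/
def up (a : V3) : V6 := ![a 0, a 1, a 2, 0, 0, 0]

/-- the second half -/
def dn (a : V3) : V6 := ![0, 0, 0, a 0, a 1, a 2]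

theorem up_inj : ∀ a b, up a = up b → a = b := by decide +kernel

theorem up_add : ∀ a b, up (a + b) = up a + up b := by decide +kernel

theorem dn_add : ∀ a b, dn (a + b) = dn a + dn b := by decide +kernel

theorem dn_spec : ∀ a : V3, dn a = ∑ j, if a j = 1 then dn (Pi.single j 1) else 0 := by decide +kernel

theorem half_cases : ∀ c : V6, c ≠ 0 → Half c → ∃ a : V3, a ≠ 0 ∧ (c = up a ∨ c = dn a) := by decide +kernel

theorem half_up : ∀ a : V3, a ≠ 0 → up a ≠ 0 ∧ Half (up a) := by decide +kernel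

theorem base_class : congB (fun p => if p = none then 8 else 0) (combF (up (Pi.single 0 1))) = true := by
  decide +kernel

theorem e8_cong (i : GolayPt) : Cong2 ((e8 i : Lv) : Zv) ((e8 none : Lv) : Zv) := by
  have h : ∀ i : GolayPt, congB (fun p => if p = i then 8 else 0) (fun p => if p = none then 8 else 0) = true := by
    decide +kernel
  have e : ∀ i, ((e8 i : Lv) : Zv) = fun q => if q = i then 8 else 0 := fun i => funext fun q => by
    simp [e8, Pi.single_apply]
  rw [e, e]
  exact congB_sound (h i)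

theorem base_cong : Cong2 ((e8 none : Lv) : Zv) ((comb (up (Pi.single 0 1)) : Lv) : Zv) := by
  rw [comb_val]
  have h := congB_sound base_class
  rwa [show (fun p : GolayPt => if p = none then (8 : ℤ) else 0) = ((e8 none : Lv) : Zv) from
    funext fun p => by simp [e8, Pi.single_apply]] at h

/-- a mover as a word -/
def moveW (k : ℕ) : List LOp := [LOp.sgO (moveL.getD k (0, [])).1, LOp.plO (moveL.getD k (0, [])).2]

/-- number of a triple -/
def num3 (a : V3) : ℕ := (a 0).val + 2 * (a 1).val + 4 * (a 2).val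

theorem moves_ok : ∀ k : Fin 6, (moveW k).all LOp.ok = true ∧ ∀ i p : GolayPt,
    wordApp (moveW k) (fun q => if q = sx i then 8 else 0) (sx p) =
      wordApp (moveW k) (fun q => if q = i then 8 else 0) p := by decide +kernel

theorem moves_image : ∀ a : V3, 2 ≤ num3 a →
    congB (wordApp (moveW (num3 a - 2)) (mat kWTr none)) (combF (up a)) = true := by decide +kernel

theorem exists_move (a : V3) (ha : a ≠ 0) : ∃ g : ↥Co0, g * pel = pel * g ∧
    Cong2 ((g • e8 none : Lv) : Zv) ((comb (up a) : Lv) : Zv) := by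
  by_cases h1 : a = Pi.single 0 1
  · exact ⟨1, by rw [one_mul, mul_one], by rw [one_smul, h1]; exact base_cong⟩
  have h2 : 2 ≤ num3 a ∧ num3 a - 2 < 6 := by revert a; decide +kernel
  obtain ⟨hok, hrel⟩ := moves_ok ⟨num3 a - 2, h2.2⟩
  obtain ⟨x, hx⟩ := exists_xi
  obtain ⟨h, -, hh⟩ := word_elem ⊤ (fun _ _ => Subgroup.mem_top _) (Subgroup.mem_top x) hx _ hok
  have he8 : ∀ i, ((e8 i : Lv) : Zv) = fun q => if q = i then 8 else 0 := fun i => funext fun q => by
    simp [e8, Pi.single_apply]
  have hc : h * pel = pel * h := units_ext fun i => by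
    rw [mul_smul, mul_smul, pel_e8]
    refine Subtype.ext (funext fun p => ?_)
    obtain ⟨q, rfl⟩ := sigma.surjective p
    rw [sigma_apply, pel_apply, hh, hh, he8, he8]
    exact hrel i q
  refine ⟨h * kel, by rw [mul_assoc, kel_comm, ← mul_assoc, hc, mul_assoc], ?_⟩
  rw [mul_smul, hh, kel_e8, comb_val]
  exact congB_sound (moves_image a h2.1)

theorem u_basis : ∀ j : Fin 3, congB (fun k => (∑ i, combF (up (Pi.single j 1)) i * mat uWTr i k) / 8)
    (combF (dn (Pi.single j 1))) = true := by decide +kernel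

theorem u_cong (a : V3) : Cong2 ((uel • comb (up a) : Lv) : Zv) ((comb (dn a) : Lv) : Zv) := by
  let T : AddSubgroup (Fin 3 → ZMod 2) :=
    { carrier := {b | Cong2 ((uel • comb (up b) : Lv) : Zv) ((comb (dn b) : Lv) : Zv)}
      zero_mem' := by
        show Cong2 ((uel • comb (up 0) : Lv) : Zv) ((comb (dn 0) : Lv) : Zv)
        rw [show up 0 = 0 by decide +kernel, show dn 0 = 0 by decide +kernel, comb_zero]
        rw [show uel • (0 : Lv) = 0 from Subtype.ext (map_zero (co0Hom uel))]
        exact Cong2.refl' _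
      add_mem' := by
        intro b c hb hc
        show Cong2 ((uel • comb (up (b + c)) : Lv) : Zv) ((comb (dn (b + c)) : Lv) : Zv)
        rw [up_add, dn_add]
        refine (cong_smul uel (cong_symm (comb_add_cong _ _))).trans ?_
        rw [co0_add]
        refine Cong2.trans ?_ (comb_add_cong _ _)
        rw [AddSubgroup.coe_add, AddSubgroup.coe_add]
        exact cong_add hb hc
      neg_mem' := by
        intro b hb
        rwa [show -b = b by funext j; exact ZMod.neg_eq_self_mod_two _] }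
  have h1 : ∀ j : Fin 3, (Pi.single j 1 : V3) ∈ T := fun j => by
    show Cong2 _ _
    have e : ((uel • comb (up (Pi.single j 1)) : Lv) : Zv) =
        fun k => (∑ i, combF (up (Pi.single j 1)) i * mat uWTr i k) / 8 := funext fun k => by
      rw [mat_apply uel_e8, comb_val]
    rw [e, comb_val]
    exact congB_sound (u_basis j)
  have e : a = ∑ j, (if a j = 1 then Pi.single j 1 else 0 : V3) := by revert a; decide +kernel
  show a ∈ T
  rw [e]
  exact sum_mem fun j _ => by
    split_ifs
    · exact h1 j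
    · exact zero_mem _

theorem pel_inv_uel : uel * pel = pel⁻¹ * uel := uel_inv

/-- elements centralising the element of order seven map the base class into the first half -/
theorem base_image {g : ↥Co0} (hg : g * pel = pel * g) :
    ∃ a : V3, Cong2 ((g • e8 none : Lv) : Zv) ((comb (up a) : Lv) : Zv) := by
  have hfix : Cong2 ((pel • (g • e8 none) : Lv) : Zv) ((g • e8 none : Lv) : Zv) := by
    rw [← mul_smul, ← hg, mul_smul, pel_e8]
    exact cong_smul g (e8_cong _)
  obtain ⟨c, hc⟩ := fixed_class hfix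
  obtain ⟨hc0, hH⟩ := half_of_norm ((g.2.2 _).trans (e8_norm none)) hc
  obtain ⟨a, ha, rfl | rfl⟩ := half_cases c hc0 hH
  · exact ⟨a, hc⟩
  · exfalso
    obtain ⟨m, hm, hm'⟩ := exists_move a ha
    have h1 : g⁻¹ * (uel * m) ∈ monoSub := by
      rw [← classStab_e8, mem_classStab, mul_smul, mul_smul]
      have h2 : Cong2 ((uel • (m • e8 none) : Lv) : Zv) ((g • e8 none : Lv) : Zv) :=
        ((cong_smul uel hm').trans (u_cong a)).trans (cong_symm hc)
      refine (cong_smul g⁻¹ h2).trans ?_
      rw [inv_smul_smul]; exact Cong2.refl' _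
    refine no_invert h1 ?_
    have hgi : g⁻¹ * pel⁻¹ = pel⁻¹ * g⁻¹ := by rw [← mul_inv_rev, ← mul_inv_rev, hg]
    calc g⁻¹ * (uel * m) * pel = g⁻¹ * (uel * (m * pel)) := by group
      _ = g⁻¹ * (uel * pel) * m := by rw [hm]; group
      _ = (g⁻¹ * pel⁻¹) * uel * m := by rw [uel_inv]; group
      _ = pel⁻¹ * (g⁻¹ * (uel * m)) := by rw [hgi]; group

/-- action on the first half -/
def Act (g : ↥Co0) (A : Matrix (Fin 3) (Fin 3) (ZMod 2)) : Prop :=
  ∀ a : V3, Cong2 ((g • comb (up a) : Lv) : Zv) ((comb (up (A.mulVec a)) : Lv) : Zv)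

theorem Act.mul {g h : ↥Co0} {A B : Matrix (Fin 3) (Fin 3) (ZMod 2)} (hg : Act g A) (hh : Act h B) :
    Act (g * h) (A * B) := fun a => by
  rw [mul_smul, ← Matrix.mulVec_mulVec]
  exact (cong_smul g (hh a)).trans (hg _)

theorem Act.one : Act 1 1 := fun a => by rw [one_smul, Matrix.one_mulVec]; exact Cong2.refl' _

theorem Act.unique {g : ↥Co0} {A B : Matrix (Fin 3) (Fin 3) (ZMod 2)} (hA : Act g A) (hB : Act g B) : A = B := by
  refine Matrix.ext_of_mulVec_single fun j => up_inj _ _ (comb_inj ?_)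
  exact (cong_symm (hA _)).trans (hB _)

theorem exists_act {g : ↥Co0} (hg : g * pel = pel * g) : ∃ A, Act g A := by
  have h : ∀ a : V3, ∃ b : V3, Cong2 ((g • comb (up a) : Lv) : Zv) ((comb (up b) : Lv) : Zv) := by
    intro a
    by_cases ha : a = 0
    · subst ha
      refine ⟨0, ?_⟩
      rw [show up 0 = 0 by decide +kernel, comb_zero, show g • (0 : Lv) = 0 from Subtype.ext (map_zero (co0Hom g))]
      exact Cong2.refl' _
    obtain ⟨m, hm, hm'⟩ := exists_move a ha
    obtain ⟨b, hb⟩ := base_image (g := g * m) (by rw [mul_assoc, hm, ← mul_assoc, hg, mul_assoc])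
    rw [mul_smul] at hb
    exact ⟨b, (cong_smul g (cong_symm hm')).trans hb⟩
  choose φ hφ using h
  have hadd : ∀ a b, φ (a + b) = φ a + φ b := fun a b => by
    refine up_inj _ _ (comb_inj ?_)
    rw [up_add (φ a)]
    refine (cong_symm (hφ _)).trans ?_
    rw [up_add]
    refine (cong_smul g (cong_symm (comb_add_cong _ _))).trans ?_
    rw [co0_add]
    refine Cong2.trans ?_ (comb_add_cong _ _)
    rw [AddSubgroup.coe_add, AddSubgroup.coe_add]
    exact cong_add (hφ a) (hφ b)
  let f := (AddMonoidHom.mk' φ hadd).toZModLinearMap 2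
  refine ⟨LinearMap.toMatrix' f, fun a => ?_⟩
  rw [LinearMap.toMatrix'_mulVec]
  exact hφ a

theorem exists_lift (a : Subgroup.centralizer ({beta} : Set Cfsg.Spor.Co1)) :
    ∃ g : ↥Co0, pr g = a ∧ g * pel = pel * g := by
  obtain ⟨g, hg⟩ := QuotientGroup.mk'_surjective (Subgroup.center ↥Co0) (a : Cfsg.Spor.Co1)
  refine ⟨g, hg, ?_⟩
  have := lift_conj (g := g) (i := 1) (by
    rw [pow_one, show pr g = (a : Cfsg.Spor.Co1) from hg]
    exact Subgroup.mem_centralizer_singleton_iff.1 a.2)
  rwa [pow_one] at this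

theorem act_center {g h : ↥Co0} (e : pr g = pr h) {A : Matrix (Fin 3) (Fin 3) (ZMod 2)} (hA : Act g A) :
    Act h A := by
  obtain ⟨n, hn⟩ := negation_exists
  have hc : g⁻¹ * h ∈ Subgroup.center ↥Co0 := QuotientGroup.eq.1 e
  intro a
  rcases center_cases hn hc with e' | e'
  · rw [← inv_mul_eq_one.1 e']; exact hA a
  · rw [show h = g * n by rw [← e']; group, mul_smul]
    have : n • comb (up a) = -comb (up a) := Subtype.ext (by rw [hn]; rfl)
    rw [this, co0_neg, AddSubgroup.coe_neg]
    exact (cong_neg (g • comb (up a) : Lv).2).trans (hA a)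

theorem det_one {g : ↥Co0} {A : Matrix (Fin 3) (Fin 3) (ZMod 2)} (hg : g * pel = pel * g) (hA : Act g A) :
    A.det = 1 := by
  obtain ⟨B, hB⟩ := exists_act (g := g⁻¹) (by
    rw [inv_mul_eq_iff_eq_mul, ← mul_assoc, hg, mul_inv_cancel_right])
  have h := congrArg Matrix.det (Act.unique (by rw [mul_inv_cancel]; exact Act.one) (hA.mul hB))
  rw [Matrix.det_one, Matrix.det_mul] at h
  revert h
  generalize A.det = x; generalize B.det = y
  revert x y; decide

theorem act_exists_unique (a : Subgroup.centralizer ({beta} : Set Cfsg.Spor.Co1)) :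
    ∃ A : SL3, ∀ g : ↥Co0, pr g = a → Act g (A : Matrix (Fin 3) (Fin 3) (ZMod 2)) := by
  obtain ⟨g, hg, hc⟩ := exists_lift a
  obtain ⟨A, hA⟩ := exists_act hc
  exact ⟨⟨A, det_one hc hA⟩, fun h hh => act_center (hg.trans hh.symm) hA⟩

/-- the representation on the first half -/
noncomputable def mu : ↥(Subgroup.centralizer ({beta} : Set Cfsg.Spor.Co1)) →* SL3 :=
  MonoidHom.mk' (fun a => (act_exists_unique a).choose) fun a b => by
    obtain ⟨g, hg, -⟩ := exists_lift a
    obtain ⟨h, hh, -⟩ := exists_lift b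
    refine Subtype.ext ?_
    exact ((act_exists_unique (a * b)).choose_spec (g * h) (by rw [map_mul, hg, hh]; rfl)).unique
      (((act_exists_unique a).choose_spec g hg).mul ((act_exists_unique b).choose_spec h hh))

theorem mu_spec (a : Subgroup.centralizer ({beta} : Set Cfsg.Spor.Co1)) {g : ↥Co0} (hg : pr g = a) :
    Act g (mu a : Matrix (Fin 3) (Fin 3) (ZMod 2)) :=
  (act_exists_unique a).choose_spec g hg

/-- inverse of a list -/
def linv (l : List ℕ) : List ℕ := (List.range 24).map fun i => l.idxOf i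

theorem kernel_check : (centL.all fun l => ((List.range 24).all fun i => l.getD ((linv l).getD i 0) 0 == i) &&
    fixMasks.all fun m => !(decide (∀ j : Fin 3, congB
        (sgn (ofMaskW m) fun p => combF (up (Pi.single j 1)) (pt ((linv l).getD (idx p) 0)))
        (combF (up (Pi.single j 1))) = true)) ||
      ((m == 0 || m == 16777215) && (List.range 7).any fun i => l == xpw i)) = true := by
  decide +kernel

theorem congB_complete {x y : Zv} (h : Cong2 x y) : congB x y = true := by
  obtain ⟨z, hz, e⟩ := h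
  have hp : ∀ p, x p - y p = 2 * z p := fun p => by
    have := congrFun e p
    simpa [two_nsmul, two_mul] using this
  have hzc : (fun p => (x p - y p) / 2) = z := funext fun p => by rw [hp]; omega
  simp only [congB, Bool.and_eq_true, decide_eq_true_eq]
  refine ⟨fun p => by rw [hp]; omega, ?_⟩
  rw [hzc]
  obtain ⟨m, hm, hs, hd⟩ := mem_leech.1 hz
  simp only [leechCheck, Bool.and_eq_true, decide_eq_true_eq]
  have hn := hm none
  exact ⟨⟨fun i => by have := hm i; omega, by omega⟩, inCode_of_mem (mem_code.1 hd)⟩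

theorem act_trivial {g : ↥Co0} (hg : g * pel = pel * g) (h : Act g 1) : pr g ∈ Subgroup.zpowers beta := by
  have hb : Cong2 ((g • e8 none : Lv) : Zv) ((e8 none : Lv) : Zv) := by
    refine ((cong_smul g base_cong).trans ?_).trans (cong_symm base_cong)
    have := h (Pi.single 0 1)
    rwa [Matrix.one_mulVec] at this
  obtain ⟨l, hl, m, hm, hok, e⟩ := mono_cent (g := g) (by rw [← classStab_e8]; exact hb) hg
  have hk := List.all_eq_true.1 kernel_check l hl
  rw [Bool.and_eq_true] at hk
  obtain ⟨hinv, hk⟩ := hk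
  have hk := List.all_eq_true.1 hk m hm
  rw [Bool.or_eq_true] at hk
  have hk := hk.resolve_left (by
    rw [Bool.not_eq_true', Bool.not_eq_false, decide_eq_true_eq]
    intro j
    refine congB_complete ?_
    have := h (Pi.single j 1)
    rw [Matrix.one_mulVec, e, comb_val] at this
    rwa [show (fun p => combF (up (Pi.single j 1)) (pt ((linv l).getD (idx p) 0))) =
      prm (lperm l) (combF (up (Pi.single j 1))) from funext fun p => ?_]
    show _ = combF _ ((lperm l).symm p)
    congr 1
    rw [Equiv.eq_symm_apply]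
    have h1 := List.all_eq_true.1 hinv (idx p) (List.mem_range.2 (idx_lt p))
    rw [beq_iff_eq] at h1
    rw [(rep_lperm hok).apply, idx_pt _ ?_, h1, pt_idx]
    rw [linv, List.getD_eq_getElem _ _ (by simpa using idx_lt p), List.getElem_map, List.getElem_range]
    have hlen : l.length = 24 := by
      simp only [lok, Bool.and_eq_true, beq_iff_eq] at hok; exact hok.1.1
    rw [← hlen]
    refine List.idxOf_lt_length_iff.2 ?_
    simp only [lok, Bool.and_eq_true, List.all_eq_true] at hok
    exact List.elem_iff.1 (hok.2 (idx p) (List.mem_range.2 (idx_lt p))))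
  simp only [Bool.and_eq_true, Bool.or_eq_true, beq_iff_eq, List.any_eq_true] at hk
  obtain ⟨hm0, i, hi, rfl⟩ := hk
  rw [List.mem_range] at hi
  have hperm : lperm (xpw i) = sigma ^ i := rep_unique (rep_lperm hok) (rep_sigma_pow (by omega))
  have key : g = pel ^ i ∨ ∀ v : Lv, ((g • v : Lv) : Zv) = -((pel ^ i • v : Lv) : Zv) := by
    rcases hm0 with rfl | rfl
    · left
      exact co0_ext fun v => by rw [e, pel_pow_spec, hperm]; funext p; simp [sgn, ofMaskW]
    · right
      intro v
      rw [e, pel_pow_spec, hperm]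
      funext p
      have : ∀ p : GolayPt, ofMaskW 16777215 p = 1 := by decide +kernel
      simp [sgn, this p]
  rcases key with rfl | key
  · rw [map_pow]; exact Subgroup.npow_mem_zpowers _ _
  · obtain ⟨n, hn⟩ := negation_exists
    have e2 : g = n * pel ^ i := co0_ext fun v => by rw [key, mul_smul, hn]
    rw [e2, map_mul, map_pow, show pr n = 1 from (QuotientGroup.eq_one_iff n).2 (negation_mem_center hn), one_mul]
    exact Subgroup.npow_mem_zpowers _ _

theorem beta_mem : beta ∈ Subgroup.centralizer ({beta} : Set Cfsg.Spor.Co1) :=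
  Subgroup.mem_centralizer_singleton_iff.2 rfl

theorem act_pel : Act pel 1 := fun a => by
  have h : ∀ j, pel • bv j = bv j := fun j => Subtype.ext (funext fun p => by
    obtain ⟨q, rfl⟩ := sigma.surjective p
    rw [sigma_apply, pel_apply]
    revert q j; decide +kernel)
  rw [Matrix.one_mulVec, comb]
  let f : Lv →+ Lv := AddMonoidHom.mk' (fun u => pel • u) (co0_add pel)
  have e : f (∑ j, if up a j = 1 then bv j else 0) = ∑ j, if up a j = 1 then bv j else 0 := by
    rw [map_sum]
    refine Finset.sum_congr rfl fun j _ => ?_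
    split_ifs
    · exact h j
    · exact map_zero f
  rw [show pel • (∑ j, if up a j = 1 then bv j else 0) = ∑ j, if up a j = 1 then bv j else 0 from e]
  exact Cong2.refl' _

theorem mu_ker (a : Subgroup.centralizer ({beta} : Set Cfsg.Spor.Co1)) :
    mu a = 1 ↔ (a : Cfsg.Spor.Co1) ∈ Subgroup.zpowers beta := by
  obtain ⟨g, hg, hc⟩ := exists_lift a
  constructor
  · intro h
    have := mu_spec a hg
    rw [h] at this
    rw [← hg]; exact act_trivial hc this
  · intro h
    have h1 : mu ⟨beta, beta_mem⟩ = 1 :=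
      Subtype.ext ((mu_spec ⟨beta, beta_mem⟩ (g := pel) rfl).unique act_pel)
    obtain ⟨k, hk⟩ := Subgroup.mem_zpowers_iff.1 h
    rw [show a = (⟨beta, beta_mem⟩ : Subgroup.centralizer ({beta} : Set Cfsg.Spor.Co1)) ^ k from Subtype.ext (by
      rw [SubgroupClass.coe_zpow]; exact hk.symm), map_zpow, h1, one_zpow]

theorem mono_count : centL.length = 42 ∧ fixMasks.length = 8 ∧ fixMasks.Nodup ∧
    (fixMasks.all fun m => inCode m && decide (m < 2 ^ 24) &&
      (List.range 24).all fun i => Nat.testBit m (sevenX.getD i 0) == Nat.testBit m i) = true := by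
  decide +kernel

theorem card_sl : Nat.card SL3 = 168 := by
  rw [Nat.card_eq_fintype_card]
  decide +kernel

theorem many_cent : ∃ F : (V3 × (ℕ × List ℕ)) → ↥Co0,
    Set.InjOn F {x | x.1 ≠ 0 ∧ x.2.1 ∈ fixMasks ∧ x.2.2 ∈ centL} ∧
    ∀ x, x.1 ≠ 0 → x.2.1 ∈ fixMasks → x.2.2 ∈ centL → F x * pel = pel * F x := by
  classical
  have hmono : ∀ x : ℕ × List ℕ, ∃ g : ↥Co0, x.1 ∈ fixMasks → x.2 ∈ centL →
      g ∈ monoSub ∧ g * pel = pel * g ∧
        ∀ v : Lv, ((g • v : Lv) : Zv) = sgn (ofMaskW x.1) (prm (lperm x.2) (v : Zv)) := by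
    rintro ⟨m, l⟩
    by_cases h : m ∈ fixMasks ∧ l ∈ centL
    · obtain ⟨hm, hl⟩ := h
      obtain ⟨hlf, hle⟩ := List.mem_filter.1 hl
      have h0 := List.all_eq_true.1 seven_norm_facts.1 l hlf
      rw [Bool.and_eq_true] at h0
      have hm' := List.all_eq_true.1 mono_count.2.2.2 m hm
      simp only [Bool.and_eq_true, decide_eq_true_eq, List.all_eq_true, List.mem_range, beq_iff_eq] at hm'
      obtain ⟨g, hg⟩ := mono_exists (lperm_mem h0.1) (dec_code hm'.1.1 hm'.1.2)
      refine ⟨g, fun _ _ => ⟨mem_monoSub.2 (mono_std hg), co0_ext fun v => ?_, hg⟩⟩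
      rw [mul_smul, mul_smul, hg, pel_spec, pel_spec, hg, prm_sgn]
      have e1 : lperm l * sigma = sigma * lperm l := by
        have r1 := (rep_lperm (m24ok_lok h0.1)).mul (rep_lperm (m24ok_lok seven_facts.1))
        have r2 := (rep_lperm (m24ok_lok seven_facts.1)).mul (rep_lperm (m24ok_lok h0.1))
        exact rep_unique r1 (beq_iff_eq.1 hle ▸ r2)
      have e2 : actW sigma (ofMaskW m) = ofMaskW m := by
        funext p
        obtain ⟨q, rfl⟩ := sigma.surjective p
        show ofMaskW m (sigma.symm (sigma q)) = _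
        rw [Equiv.symm_apply_apply, ofMaskW, ofMaskW, show idx (sigma q) = sevenX.getD (idx q) 0 from
          (rep_lperm (m24ok_lok seven_facts.1) q).symm, hm'.2 (idx q) (idx_lt q)]
      rw [e2, ← prm_comp, ← prm_comp, e1]
    · exact ⟨1, fun a b => (h ⟨a, b⟩).elim⟩
  choose mono hmono using hmono
  have hmove : ∀ a : V3, ∃ g : ↥Co0, a ≠ 0 → g * pel = pel * g ∧
      Cong2 ((g • e8 none : Lv) : Zv) ((comb (up a) : Lv) : Zv) := fun a => by
    by_cases ha : a = 0
    · exact ⟨1, fun h => (h ha).elim⟩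
    · obtain ⟨g, hg⟩ := exists_move a ha; exact ⟨g, fun _ => hg⟩
  choose mv hmv using hmove
  refine ⟨fun x => mv x.1 * mono x.2, ?_, fun x h1 h2 h3 => ?_⟩
  · rintro ⟨a, m, l⟩ ⟨ha, hm, hl⟩ ⟨b, m', l'⟩ ⟨hb, hm', hl'⟩ heq
    dsimp only at ha hm hl hb hm' hl' heq
    obtain ⟨hg, -, eg⟩ := hmono (m, l) hm hl
    obtain ⟨hg', -, eg'⟩ := hmono (m', l') hm' hl'
    have himg : ∀ (c : V3) (x : ↥Co0), x ∈ monoSub → c ≠ 0 →
        Cong2 (((mv c * x) • e8 none : Lv) : Zv) ((comb (up c) : Lv) : Zv) := fun c x hx hc => by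
      rw [← classStab_e8, mem_classStab] at hx
      rw [mul_smul]
      exact (cong_smul _ hx).trans (hmv c hc).2
    have h1 := himg a _ hg ha
    rw [heq] at h1
    obtain rfl := up_inj _ _ (comb_inj ((cong_symm h1).trans (himg b _ hg' hb)))
    have h2 := mul_left_cancel heq
    obtain ⟨el, ew⟩ := mono_unique (σ := lperm l) (τ := lperm l') (w := ofMaskW m) (w' := ofMaskW m') fun v => by
      rw [← eg, h2, eg']
    have hok : ∀ k ∈ centL, lok k = true := fun k hk => by
      have h0 := List.all_eq_true.1 seven_norm_facts.1 k (List.mem_filter.1 hk).1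
      rw [Bool.and_eq_true] at h0
      exact m24ok_lok h0.1
    obtain rfl := lperm_inj_on (hok l hl) (hok l' hl') el
    have hlt : ∀ k ∈ fixMasks, k < 2 ^ 24 := by decide +kernel
    have := congrArg wmask ew
    rw [wmask_ofMaskW (hlt m hm), wmask_ofMaskW (hlt m' hm')] at this
    rw [this]
  · rw [mul_assoc, (hmono x.2 h2 h3).2.1, ← mul_assoc, (hmv x.1 h1).1, mul_assoc]

theorem mu_surjective : Function.Surjective mu := by
  classical
  haveI := co0_finite
  obtain ⟨F, hinj, hF⟩ := many_cent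
  set C := Subgroup.centralizer ({beta} : Set Cfsg.Spor.Co1) with hC
  set C0 := Subgroup.centralizer ({pel} : Set ↥Co0) with hC0
  let p : ↥C0 →* ↥C := (pr.comp C0.subtype).codRestrict C fun g => by
    rw [hC, Subgroup.mem_centralizer_singleton_iff]
    show pr g * pr pel = pr pel * pr g
    rw [← map_mul, ← map_mul]
    exact congrArg pr (Subgroup.mem_centralizer_singleton_iff.1 g.2)
  have hcount : 2352 ≤ Nat.card C0 := by
    let T : Finset (V3 × (ℕ × List ℕ)) :=
      ((Finset.univ : Finset V3).filter fun a => a ≠ 0) ×ˢ (fixMasks.toFinset ×ˢ centL.toFinset)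
    have hT : T.card = 2352 := by
      rw [Finset.card_product, Finset.card_product, List.toFinset_card_of_nodup mono_count.2.2.1,
        List.toFinset_card_of_nodup (l := centL) (seven_norm_facts.2.1.filter _), mono_count.2.1, mono_count.1]
      rfl
    have hmem : ∀ x : ↥T, x.1.1 ≠ 0 ∧ x.1.2.1 ∈ fixMasks ∧ x.1.2.2 ∈ centL := fun x => by
      have := x.2
      simp only [T, Finset.mem_product, Finset.mem_filter, List.mem_toFinset] at this
      exact ⟨this.1.2, this.2.1, this.2.2⟩
    have h := Nat.card_le_card_of_injective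
      (fun x : ↥T => (⟨F x.1, Subgroup.mem_centralizer_singleton_iff.2
        (hF x.1 (hmem x).1 (hmem x).2.1 (hmem x).2.2)⟩ : ↥C0))
      (fun x y e => Subtype.ext (hinj (hmem x) (hmem y) (congrArg Subtype.val e)))
    rwa [Nat.card_eq_fintype_card, Fintype.card_coe, hT] at h
  have hker : Nat.card (mu.comp p).ker ≤ 14 := by
    let f : ↥(mu.comp p).ker → Fin 2 × ↥(Subgroup.zpowers beta) := fun g =>
      (if ∀ i : ℕ, ((g : ↥C0) : ↥Co0) ≠ pel ^ i then 1 else 0,
        ⟨pr ((g : ↥C0) : ↥Co0), (mu_ker (p g)).1 g.2⟩)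
    have hf : Function.Injective f := by
      intro g h e
      have e1 := congrArg Prod.fst e
      have e2 : pr ((g : ↥C0) : ↥Co0) = pr ((h : ↥C0) : ↥Co0) :=
        congrArg (fun z : Fin 2 × ↥(Subgroup.zpowers beta) => (z.2 : Cfsg.Spor.Co1)) e
      refine Subtype.ext (Subtype.ext ?_)
      by_cases hg : ∃ i : ℕ, ((g : ↥C0) : ↥Co0) = pel ^ i
      · by_cases hh : ∃ i : ℕ, ((h : ↥C0) : ↥Co0) = pel ^ i
        · obtain ⟨i, hi⟩ := hg
          obtain ⟨j, hj⟩ := hh
          refine lift_rel e2 ?_ ?_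
          · rw [hi, ← pow_mul, mul_comm, pow_mul, pel_pow_seven, one_pow]
          · rw [hj, ← pow_mul, mul_comm, pow_mul, pel_pow_seven, one_pow]
        · push_neg at hh
          obtain ⟨i, hi⟩ := hg
          simp only [f, if_pos hh, if_neg (fun c : ∀ i : ℕ, ((g : ↥C0) : ↥Co0) ≠ pel ^ i => c i hi)] at e1
          exact absurd e1 (by decide)
      · push_neg at hg
        by_cases hh : ∃ i : ℕ, ((h : ↥C0) : ↥Co0) = pel ^ i
        · obtain ⟨i, hi⟩ := hh
          simp only [f, if_pos hg, if_neg (fun c : ∀ i : ℕ, ((h : ↥C0) : ↥Co0) ≠ pel ^ i => c i hi)] at e1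
          exact absurd e1 (by decide)
        · push_neg at hh
          obtain ⟨n, hn⟩ := negation_exists
          obtain ⟨j, hj⟩ : ∃ j : ℕ, pr ((g : ↥C0) : ↥Co0) = pr (pel ^ j) := by
            have hb : pr ((g : ↥C0) : ↥Co0) ∈ Subgroup.zpowers beta := (mu_ker (p g)).1 g.2
            obtain ⟨j, -, hj⟩ := Finset.mem_image.1
              ((isOfFinOrder_of_finite beta).mem_zpowers_iff_mem_range_orderOf.1 hb)
            exact ⟨j, by rw [map_pow]; exact hj.symm⟩
          have key : ∀ x : ↥Co0, pr x = pr (pel ^ j) → (∀ i : ℕ, x ≠ pel ^ i) → x = pel ^ j * n := by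
            intro x hx hne
            rcases center_cases hn (QuotientGroup.eq.1 hx.symm) with e | e
            · exact absurd (inv_mul_eq_one.1 e).symm (hne j)
            · rw [← e]; group
          rw [key _ hj hg, key _ (e2 ▸ hj) hh]
    refine (Nat.card_le_card_of_injective f hf).trans ?_
    rw [Nat.card_prod, Nat.card_zpowers, orderOf_beta, Nat.card_fin]
  have hr := Subgroup.card_eq_card_quotient_mul_card_subgroup (mu.comp p).ker
  rw [Nat.card_congr (QuotientGroup.quotientKerEquivRange (mu.comp p)).toEquiv] at hr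
  have h1 : 168 ≤ Nat.card (mu.comp p).range := by nlinarith
  have h2 : (mu.comp p).range = ⊤ := Subgroup.eq_top_of_le_card _ (by rw [card_sl]; exact h1)
  intro A
  obtain ⟨g, hg⟩ : A ∈ (mu.comp p).range := h2 ▸ Subgroup.mem_top A
  exact ⟨p g, hg⟩

/-- an element of the first Conway group inverting the element, conjugate to a sign change -/
theorem beta_inverted : ∃ c s : Cfsg.Spor.Co1, s ∈ signSub1 ∧ s ≠ 1 ∧
    c * s * c⁻¹ * beta = beta⁻¹ * (c * s * c⁻¹) := by
  obtain ⟨g, s, hs, hs1, e⟩ := uel_sign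
  refine ⟨pr g, pr s, ⟨s, hs, rfl⟩, hs1, ?_⟩
  rw [← map_inv, ← map_mul, ← map_mul, ← e, beta, ← map_inv, ← map_mul, ← map_mul, uel_inv]

theorem beta_squared : ∃ c : Cfsg.Spor.Co1, c ∈ classStab1 (e8 none) ∧ c * beta = beta ^ 2 * c := by
  obtain ⟨l, hl, he⟩ : ∃ l ∈ sevenNorm, lmul l sevenX = lmul (xpw 2) l := by decide +kernel
  have h0 := List.all_eq_true.1 seven_norm_facts.1 l hl
  rw [Bool.and_eq_true] at h0
  obtain ⟨g, hg⟩ := exists_prm (lperm_mem h0.1)
  refine ⟨pr g, ⟨g, ?_, rfl⟩, ?_⟩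
  · rw [SetLike.mem_coe, classStab_e8]
    exact mem_monoSub.2 (mono_std (σ := lperm l) (w := 0) fun v => by rw [hg]; funext p; simp [sgn])
  · rw [beta, ← map_pow, ← map_mul, ← map_mul]
    refine congrArg pr (co0_ext fun v => ?_)
    rw [mul_smul, mul_smul, hg, pel_spec, pel_pow_spec, hg, ← prm_comp, ← prm_comp]
    exact congrArg (fun s => prm s (v : Zv)) (rep_unique
      ((rep_lperm (m24ok_lok h0.1)).mul (rep_lperm (m24ok_lok seven_facts.1)))
      (he ▸ (rep_sigma_pow (by norm_num)).mul (rep_lperm (m24ok_lok h0.1))))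

theorem beta_mem_stab : beta ∈ classStab1 (e8 none) := by
  refine ⟨pel, ?_, rfl⟩
  rw [SetLike.mem_coe, mem_classStab, pel_e8]
  exact e8_cong _

theorem stab_no_invert {a : Cfsg.Spor.Co1} (ha : a ∈ classStab1 (e8 none)) : a * beta ≠ beta⁻¹ * a := by
  intro h
  obtain ⟨g, hg, rfl⟩ := ha
  rw [SetLike.mem_coe, classStab_e8] at hg
  have h6 : beta⁻¹ = beta ^ 6 := inv_eq_of_mul_eq_one_right (by
    rw [← pow_succ', show 6 + 1 = orderOf beta from orderOf_beta.symm, pow_orderOf_eq_one])
  refine no_invert hg ?_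
  rw [pel_inv]
  exact lift_conj (g := g) (by rw [← h6]; exact h)

theorem zmod_cube : ∀ r : ZMod 2, r ^ Fintype.card (Fin 3) = 1 → r = 1 := by decide

theorem sl_simple : IsSimpleGroup SL3 := by
  haveI : Fact (Nat.Prime 2) := ⟨Nat.prime_two⟩
  haveI := Small.PSLn.psl_simple (F := ZMod 2) (n := 3) le_rfl
  let q : SL3 ≃* Matrix.ProjectiveSpecialLinearGroup (Fin 3) (ZMod 2) :=
    MulEquiv.ofBijective (QuotientGroup.mk' _) ⟨(injective_iff_map_eq_one _).2 fun A hA => by
      obtain ⟨r, hr, hA'⟩ := Matrix.SpecialLinearGroup.mem_center_iff.1 ((QuotientGroup.eq_one_iff A).1 hA)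
      have hr1 : r = 1 := zmod_cube r hr
      refine Subtype.ext ?_
      rw [← hA', hr1, map_one]
      rfl, QuotientGroup.mk'_surjective _⟩
  exact q.isSimpleGroup

end Cfsg.Agent.Spor.Co1Seven
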