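import Cfsg.Agent.Lib.Spor.CrossWordData

/-!
Data for the element of order seven of the lattice group: a basis of its fixed classes, representatives,
two further elements with traces.
-/

set_option autoImplicit false
set_option maxRecDepth 100000

namespace Cfsg.Agent.Spor.Co1Seven

/-- first points of the six cycles -/
def orbReps : List ℕ :=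
  [1, 6, 8, 0, 5, 18]

/-- cycle of a point -/
def orbNum : List ℕ :=
  [3, 0, 0, 0, 0, 4, 1, 0, 2, 2, 0, 1, 0, 1, 1, 2, 1, 1, 5, 1, 2, 2, 2, 2]

/-- position of a point in its cycle -/
def orbPos : List ℕ :=
  [0, 0, 4, 2, 5, 0, 0, 1, 0, 3, 6, 5, 3, 1, 2, 5, 4, 6, 0, 3, 2, 6, 4, 1]

/-- basis of the fixed classes -/
def basisL : List (List ℤ) :=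
  [[8, 0, 0, 0, 0, 0, 0, 0, 0, 0, 0, 0, 0, 0, 0, 0, 0, 0, 0, 0, 0, 0, 0, 0],
   [-2, 2, 2, 2, 2, -2, 0, 2, 2, 2, 2, 0, 2, 0, 0, 2, 0, 0, 0, 0, 2, 2, 2, 2],
   [-2, 2, 2, 2, 2, 0, 2, 2, 0, 0, 2, 2, 2, 2, 2, 0, 2, 2, -2, 2, 0, 0, 0, 0],
   [5, 1, 1, 1, 1, 3, -1, 1, -1, -1, 1, -1, 1, -1, -1, -1, -1, -1, 3, -1, -1, -1, -1, -1],
   [2, 2, 2, 2, 2, 2, 0, 2, 2, 2, 2, 0, 2, 0, 0, 2, 0, 0, 0, 0, 2, 2, 2, 2],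
   [2, 2, 2, 2, 2, 0, 2, 2, 0, 0, 2, 2, 2, 2, 2, 0, 2, 2, 2, 2, 0, 0, 0, 0]]

/-- shortest members of the non-zero fixed classes -/
def witL : List (List ℤ) :=
  [[8, 0, 0, 0, 0, 0, 0, 0, 0, 0, 0, 0, 0, 0, 0, 0, 0, 0, 0, 0, 0, 0, 0, 0],
   [-2, 2, 2, 2, 2, -2, 0, 2, 2, 2, 2, 0, 2, 0, 0, 2, 0, 0, 0, 0, 2, 2, 2, 2],
   [-2, 2, 2, 2, 2, 2, 0, 2, -2, -2, 2, 0, 2, 0, 0, -2, 0, 0, 0, 0, -2, -2, -2, -2],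
   [-2, 2, 2, 2, 2, 0, 2, 2, 0, 0, 2, 2, 2, 2, 2, 0, 2, 2, -2, 2, 0, 0, 0, 0],
   [-2, 2, 2, 2, 2, 0, -2, 2, 0, 0, 2, -2, 2, -2, -2, 0, -2, -2, 2, -2, 0, 0, 0, 0],
   [0, 0, 0, 0, 0, 2, 2, 0, -2, -2, 0, 2, 0, 2, 2, -2, 2, 2, -2, 2, -2, -2, -2, -2],
   [0, 0, 0, 0, 0, -2, 2, 0, 2, 2, 0, 2, 0, 2, 2, 2, 2, 2, -2, 2, 2, 2, 2, 2],
   [5, 1, 1, 1, 1, 3, -1, 1, -1, -1, 1, -1, 1, -1, -1, -1, -1, -1, 3, -1, -1, -1, -1, -1],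
   [-3, 1, 1, 1, 1, 3, -1, 1, -1, -1, 1, -1, 1, -1, -1, -1, -1, -1, 3, -1, -1, -1, -1, -1],
   [1, 1, 1, 1, 1, -1, 1, 1, -1, -1, 1, 1, 1, 1, 1, -1, 1, 1, -3, 1, -1, -1, -1, -1],
   [1, 1, 1, 1, 1, -1, 1, 1, -1, -1, 1, 1, 1, 1, 1, -1, 1, 1, 5, 1, -1, -1, -1, -1],
   [1, 1, 1, 1, 1, -3, -1, 1, 1, 1, 1, -1, 1, -1, -1, 1, -1, -1, -1, -1, 1, 1, 1, 1],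
   [1, 1, 1, 1, 1, 5, -1, 1, 1, 1, 1, -1, 1, -1, -1, 1, -1, -1, -1, -1, 1, 1, 1, 1],
   [-3, 1, 1, 1, 1, 1, 1, 1, 1, 1, 1, 1, 1, 1, 1, 1, 1, 1, 1, 1, 1, 1, 1, 1],
   [5, 1, 1, 1, 1, 1, 1, 1, 1, 1, 1, 1, 1, 1, 1, 1, 1, 1, 1, 1, 1, 1, 1, 1],
   [2, 2, 2, 2, 2, 2, 0, 2, 2, 2, 2, 0, 2, 0, 0, 2, 0, 0, 0, 0, 2, 2, 2, 2],
   [0, 0, 0, 0, 0, 0, 2, 0, 0, 0, 0, 2, 0, 2, 2, 0, 2, 2, 2, 2, 0, 0, 0, 0],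
   [4, 0, 0, 0, 0, 4, 0, 0, 0, 0, 0, 0, 0, 0, 0, 0, 0, 0, 0, 0, 0, 0, 0, 0],
   [4, 0, 0, 0, 0, -4, 0, 0, 0, 0, 0, 0, 0, 0, 0, 0, 0, 0, 0, 0, 0, 0, 0, 0],
   [-2, 2, 2, 2, 2, 0, 0, 2, 0, 0, 2, 0, 2, 0, 0, 0, 0, 0, 4, 0, 0, 0, 0, 0],
   [-2, 2, 2, 2, 2, 0, 0, 2, 0, 0, 2, 0, 2, 0, 0, 0, 0, 0, -4, 0, 0, 0, 0, 0],
   [0, 0, 0, 0, 0, -2, 0, 0, 2, 2, 0, 0, 0, 0, 0, 2, 0, 0, -4, 0, 2, 2, 2, 2],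
   [0, 0, 0, 0, 0, -2, 0, 0, 2, 2, 0, 0, 0, 0, 0, 2, 0, 0, 4, 0, 2, 2, 2, 2],
   [5, 1, 1, 1, 1, 3, 1, 1, -1, -1, 1, 1, 1, 1, 1, -1, 1, 1, -3, 1, -1, -1, -1, -1],
   [-3, 1, 1, 1, 1, 3, 1, 1, -1, -1, 1, 1, 1, 1, 1, -1, 1, 1, -3, 1, -1, -1, -1, -1],
   [1, 1, 1, 1, 1, -1, -1, 1, -1, -1, 1, -1, 1, -1, -1, -1, -1, -1, 3, -1, -1, -1, -1, -1],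
   [1, 1, 1, 1, 1, -1, -1, 1, -1, -1, 1, -1, 1, -1, -1, -1, -1, -1, -5, -1, -1, -1, -1, -1],
   [1, 1, 1, 1, 1, 5, 1, 1, 1, 1, 1, 1, 1, 1, 1, 1, 1, 1, 1, 1, 1, 1, 1, 1],
   [1, 1, 1, 1, 1, -3, 1, 1, 1, 1, 1, 1, 1, 1, 1, 1, 1, 1, 1, 1, 1, 1, 1, 1],
   [5, 1, 1, 1, 1, 1, -1, 1, 1, 1, 1, -1, 1, -1, -1, 1, -1, -1, -1, -1, 1, 1, 1, 1],
   [-3, 1, 1, 1, 1, 1, -1, 1, 1, 1, 1, -1, 1, -1, -1, 1, -1, -1, -1, -1, 1, 1, 1, 1],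
   [2, 2, 2, 2, 2, 0, 2, 2, 0, 0, 2, 2, 2, 2, 2, 0, 2, 2, 2, 2, 0, 0, 0, 0],
   [0, 0, 0, 0, 0, 2, 0, 0, 2, 2, 0, 0, 0, 0, 0, 2, 0, 0, 0, 0, 2, 2, 2, 2],
   [-2, 2, 2, 2, 2, 4, 0, 2, 0, 0, 2, 0, 2, 0, 0, 0, 0, 0, 0, 0, 0, 0, 0, 0],
   [-2, 2, 2, 2, 2, -4, 0, 2, 0, 0, 2, 0, 2, 0, 0, 0, 0, 0, 0, 0, 0, 0, 0, 0],
   [4, 0, 0, 0, 0, 0, 0, 0, 0, 0, 0, 0, 0, 0, 0, 0, 0, 0, 4, 0, 0, 0, 0, 0],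
   [4, 0, 0, 0, 0, 0, 0, 0, 0, 0, 0, 0, 0, 0, 0, 0, 0, 0, -4, 0, 0, 0, 0, 0],
   [0, 0, 0, 0, 0, -4, 2, 0, 0, 0, 0, 2, 0, 2, 2, 0, 2, 2, -2, 2, 0, 0, 0, 0],
   [0, 0, 0, 0, 0, 4, 2, 0, 0, 0, 0, 2, 0, 2, 2, 0, 2, 2, -2, 2, 0, 0, 0, 0],
   [5, 1, 1, 1, 1, -3, -1, 1, 1, 1, 1, -1, 1, -1, -1, 1, -1, -1, 3, -1, 1, 1, 1, 1],
   [-3, 1, 1, 1, 1, -3, -1, 1, 1, 1, 1, -1, 1, -1, -1, 1, -1, -1, 3, -1, 1, 1, 1, 1],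
   [1, 1, 1, 1, 1, 1, 1, 1, 1, 1, 1, 1, 1, 1, 1, 1, 1, 1, 5, 1, 1, 1, 1, 1],
   [1, 1, 1, 1, 1, 1, 1, 1, 1, 1, 1, 1, 1, 1, 1, 1, 1, 1, -3, 1, 1, 1, 1, 1],
   [1, 1, 1, 1, 1, 3, -1, 1, -1, -1, 1, -1, 1, -1, -1, -1, -1, -1, -1, -1, -1, -1, -1, -1],
   [1, 1, 1, 1, 1, -5, -1, 1, -1, -1, 1, -1, 1, -1, -1, -1, -1, -1, -1, -1, -1, -1, -1, -1],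
   [5, 1, 1, 1, 1, -1, 1, 1, -1, -1, 1, 1, 1, 1, 1, -1, 1, 1, 1, 1, -1, -1, -1, -1],
   [-3, 1, 1, 1, 1, -1, 1, 1, -1, -1, 1, 1, 1, 1, 1, -1, 1, 1, 1, 1, -1, -1, -1, -1],
   [-6, 2, 2, 2, 2, 0, 0, 2, 0, 0, 2, 0, 2, 0, 0, 0, 0, 0, 0, 0, 0, 0, 0, 0],
   [2, 2, 2, 2, 2, 0, 0, 2, 0, 0, 2, 0, 2, 0, 0, 0, 0, 0, 0, 0, 0, 0, 0, 0],
   [4, 0, 0, 0, 0, -2, 0, 0, 2, 2, 0, 0, 0, 0, 0, 2, 0, 0, 0, 0, 2, 2, 2, 2],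
   [-4, 0, 0, 0, 0, -2, 0, 0, 2, 2, 0, 0, 0, 0, 0, 2, 0, 0, 0, 0, 2, 2, 2, 2],
   [4, 0, 0, 0, 0, 0, 2, 0, 0, 0, 0, 2, 0, 2, 2, 0, 2, 2, -2, 2, 0, 0, 0, 0],
   [-4, 0, 0, 0, 0, 0, 2, 0, 0, 0, 0, 2, 0, 2, 2, 0, 2, 2, -2, 2, 0, 0, 0, 0],
   [0, 0, 0, 0, 0, 4, 0, 0, 0, 0, 0, 0, 0, 0, 0, 0, 0, 0, -4, 0, 0, 0, 0, 0],
   [0, 0, 0, 0, 0, 4, 0, 0, 0, 0, 0, 0, 0, 0, 0, 0, 0, 0, 4, 0, 0, 0, 0, 0],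
   [5, 1, 1, 1, 1, -3, 1, 1, 1, 1, 1, 1, 1, 1, 1, 1, 1, 1, -3, 1, 1, 1, 1, 1],
   [-3, 1, 1, 1, 1, -3, 1, 1, 1, 1, 1, 1, 1, 1, 1, 1, 1, 1, -3, 1, 1, 1, 1, 1],
   [1, 1, 1, 1, 1, 1, -1, 1, 1, 1, 1, -1, 1, -1, -1, 1, -1, -1, -5, -1, 1, 1, 1, 1],
   [1, 1, 1, 1, 1, 1, -1, 1, 1, 1, 1, -1, 1, -1, -1, 1, -1, -1, 3, -1, 1, 1, 1, 1],
   [1, 1, 1, 1, 1, -5, 1, 1, -1, -1, 1, 1, 1, 1, 1, -1, 1, 1, 1, 1, -1, -1, -1, -1],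
   [1, 1, 1, 1, 1, 3, 1, 1, -1, -1, 1, 1, 1, 1, 1, -1, 1, 1, 1, 1, -1, -1, -1, -1],
   [-3, 1, 1, 1, 1, -1, -1, 1, -1, -1, 1, -1, 1, -1, -1, -1, -1, -1, -1, -1, -1, -1, -1, -1],
   [5, 1, 1, 1, 1, -1, -1, 1, -1, -1, 1, -1, 1, -1, -1, -1, -1, -1, -1, -1, -1, -1, -1, -1]]

/-- fixed lattice vectors for the residues modulo four -/
def residL : List (ℕ × List ℤ × ℕ) :=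
  [(0, [0, 0, 0, 0, 0, 0, 0, 0, 0, 0, 0, 0, 0, 0, 0, 0, 0, 0, 0, 0, 0, 0, 0, 0], 0),
   (9, [2, 2, 2, 2, 2, 0, 0, 2, 0, 0, 2, 0, 2, 0, 0, 0, 0, 0, 0, 0, 0, 0, 0, 0], 49),
   (20, [0, 0, 0, 0, 0, 2, 0, 0, 2, 2, 0, 0, 0, 0, 0, 2, 0, 0, 0, 0, 2, 2, 2, 2], 33),
   (29, [2, 2, 2, 2, 2, 2, 0, 2, 2, 2, 2, 0, 2, 0, 0, 2, 0, 0, 0, 0, 2, 2, 2, 2], 16),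
   (34, [0, 0, 0, 0, 0, 0, 2, 0, 0, 0, 0, 2, 0, 2, 2, 0, 2, 2, 2, 2, 0, 0, 0, 0], 17),
   (43, [2, 2, 2, 2, 2, 0, 2, 2, 0, 0, 2, 2, 2, 2, 2, 0, 2, 2, 2, 2, 0, 0, 0, 0], 32),
   (54, [0, 0, 0, 0, 0, 2, 2, 0, 2, 2, 0, 2, 0, 2, 2, 2, 2, 2, 2, 2, 2, 2, 2, 2], 48),
   (63, [2, 2, 2, 2, 2, 2, 2, 2, 2, 2, 2, 2, 2, 2, 2, 2, 2, 2, 2, 2, 2, 2, 2, 2], 1),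
   (64, [5, 1, 1, 1, 1, 1, 1, 1, 1, 1, 1, 1, 1, 1, 1, 1, 1, 1, 1, 1, 1, 1, 1, 1], 15),
   (73, [7, 3, 3, 3, 3, 1, 1, 3, 1, 1, 3, 1, 3, 1, 1, 1, 1, 1, 1, 1, 1, 1, 1, 1], 62),
   (84, [5, 1, 1, 1, 1, 3, 1, 1, 3, 3, 1, 1, 1, 1, 1, 3, 1, 1, 1, 1, 3, 3, 3, 3], 46),
   (93, [7, 3, 3, 3, 3, 3, 1, 3, 3, 3, 3, 1, 3, 1, 1, 3, 1, 1, 1, 1, 3, 3, 3, 3], 31),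
   (98, [5, 1, 1, 1, 1, 1, 3, 1, 1, 1, 1, 3, 1, 3, 3, 1, 3, 3, 3, 3, 1, 1, 1, 1], 30),
   (107, [7, 3, 3, 3, 3, 1, 3, 3, 1, 1, 3, 3, 3, 3, 3, 1, 3, 3, 3, 3, 1, 1, 1, 1], 47),
   (118, [5, 1, 1, 1, 1, 3, 3, 1, 3, 3, 1, 3, 1, 3, 3, 3, 3, 3, 3, 3, 3, 3, 3, 3], 63),
   (127, [7, 3, 3, 3, 3, 3, 3, 3, 3, 3, 3, 3, 3, 3, 3, 3, 3, 3, 3, 3, 3, 3, 3, 3], 14)]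

/-- fixed vectors divisible by four -/
def quadL : List (List ℤ × ℕ) :=
  [([0, 4, 4, 4, 4, 0, 4, 4, 0, 0, 4, 4, 4, 4, 4, 0, 4, 4, 0, 4, 0, 0, 0, 0], 36),
   ([0, 0, 0, 0, 0, 0, 4, 0, 4, 4, 0, 4, 0, 4, 4, 4, 4, 4, 0, 4, 4, 4, 4, 4], 55),
   ([4, 0, 0, 0, 0, 0, 0, 0, 4, 4, 0, 0, 0, 0, 0, 4, 0, 0, 0, 0, 4, 4, 4, 4], 19),
   ([4, 0, 0, 0, 0, 4, 0, 0, 0, 0, 0, 0, 0, 0, 0, 0, 0, 0, 0, 0, 0, 0, 0, 0], 18),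
   ([0, 0, 0, 0, 0, 4, 0, 0, 0, 0, 0, 0, 0, 0, 0, 0, 0, 0, 4, 0, 0, 0, 0, 0], 55),
   ([0, 0, 0, 0, 0, 0, 0, 0, 0, 0, 0, 0, 0, 0, 0, 0, 0, 0, 8, 0, 0, 0, 0, 0], 1)]

/-- fixed code words -/
def fixMasks : List ℕ :=
  [0, 5279, 1009728, 1015007, 15762208, 15767487, 16771936, 16777215]

/-- monomial elements moving the image of the base class -/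
def moveL : List (ℕ × List ℕ) :=
  [(0, [0, 1, 2, 3, 4, 5, 6, 7, 8, 9, 10, 11, 12, 13, 14, 15, 16, 17, 18, 19, 20, 21, 22, 23]),
   (5279, [0, 1, 2, 3, 4, 5, 6, 7, 8, 9, 10, 11, 12, 13, 14, 15, 16, 17, 18, 19, 20, 21, 22, 23]),
   (0, [0, 1, 2, 3, 4, 18, 8, 7, 6, 19, 10, 15, 12, 23, 20, 11, 22, 21, 5, 9, 14, 17, 16, 13]),
   (5279, [0, 1, 2, 3, 4, 18, 8, 7, 6, 19, 10, 15, 12, 23, 20, 11, 22, 21, 5, 9, 14, 17, 16, 13]),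
   (1009728, [18, 6, 16, 14, 11, 0, 8, 13, 1, 12, 17, 15, 19, 23, 20, 4, 22, 21, 5, 9, 3, 10, 2, 7]),
   (0, [18, 6, 16, 14, 11, 0, 8, 13, 1, 12, 17, 15, 19, 23, 20, 4, 22, 21, 5, 9, 3, 10, 2, 7])]

/-- a word -/
def kW : List LOp :=
  [.plO [3, 17, 6, 14, 4, 2, 8, 11, 23, 0, 10, 16, 1, 21, 20, 12, 15, 18, 19, 13, 5, 7, 9, 22], .sgO 15169111, .xiO, .plO [8, 19, 23, 21, 9, 14, 3, 17, 10, 1, 13, 5, 6, 2, 20, 11, 15, 4, 22, 0, 16, 12, 18, 7], .sgO 39257, .xiO, .sgO 2348408, .plO [1, 16, 6, 2, 11, 23, 3, 4, 18, 14, 12, 7, 19, 22, 8, 17, 10, 9, 15, 0, 20, 21, 13, 5]]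

/-- traces of the unit vectors -/
def kWTr : List (List (List ℤ)) :=
  [
  [[4, 0, 0, 0, 0, -4, -2, 0, 0, 0, 0, -2, 0, -2, -2, 0, -2, -2, -2, -2, 0, 0, 0, 0],
    [0, 0, -4, 4, 0, 0, 0, 0, -2, 0, 0, 0, 0, -2, 0, -2, -2, 0, -2, -2, -2, -2, 0, 0],
    [0, 0, 4, 4, 0, 0, 0, 0, -2, 0, 0, 0, 0, 2, 0, -2, 2, 0, 2, -2, -2, 2, 0, 0],
    [-4, -4, 0, 0, 0, 0, 0, 0, 0, 0, 0, 0, 0, 0, 0, 0, -4, 0, 0, 0, 4, 0, 0, 0],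
    [0, 0, 0, 0, 0, 0, 0, 0, -4, 0, 0, 0, 0, 0, 0, -4, 4, 0, 0, -4, 0, 0, 0, 0],
    [0, 0, 0, 0, 0, 0, 0, 0, 4, 0, 0, 0, 0, 0, 0, 4, 4, 0, 0, -4, 0, 0, 0, 0],
    [0, 0, 0, 0, 0, 0, 0, 0, 0, 0, 0, 0, 0, 0, 0, 0, 0, 0, 0, 8, 0, 0, 0, 0],
    [0, 0, 0, 0, 0, 0, 0, 0, 0, 0, 0, 0, 0, 0, 0, 0, 0, 0, 0, 8, 0, 0, 0, 0],
    [8, 0, 0, 0, 0, 0, 0, 0, 0, 0, 0, 0, 0, 0, 0, 0, 0, 0, 0, 0, 0, 0, 0, 0]],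
  [[0, 0, 4, 0, 0, 0, -2, 0, 0, 0, 0, 2, 0, 2, -2, 0, -2, 2, 2, -2, 0, 0, -4, 0],
    [0, 0, 0, 0, 0, 0, 4, 0, -2, -4, 0, 0, 0, -2, 0, -2, 2, 0, 2, 2, -2, 2, 0, 0],
    [0, 0, 0, 0, 0, 0, -4, 0, -2, 4, 0, 0, 0, 2, 0, -2, -2, 0, -2, 2, -2, -2, 0, 0],
    [0, 0, 0, 0, 0, 0, 4, 0, 0, -4, 0, 0, 0, -4, 0, 0, 0, 0, 0, -4, 0, 0, 0, 0],
    [-4, -4, -4, 4, 0, 0, 0, 0, 0, 0, 0, 0, 0, 0, 0, 0, 0, 0, 0, 0, 0, 0, 0, 0],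
    [4, -4, -4, -4, 0, 0, 0, 0, 0, 0, 0, 0, 0, 0, 0, 0, 0, 0, 0, 0, 0, 0, 0, 0],
    [8, 0, 0, 0, 0, 0, 0, 0, 0, 0, 0, 0, 0, 0, 0, 0, 0, 0, 0, 0, 0, 0, 0, 0],
    [8, 0, 0, 0, 0, 0, 0, 0, 0, 0, 0, 0, 0, 0, 0, 0, 0, 0, 0, 0, 0, 0, 0, 0],
    [0, 8, 0, 0, 0, 0, 0, 0, 0, 0, 0, 0, 0, 0, 0, 0, 0, 0, 0, 0, 0, 0, 0, 0]],
  [[0, 0, 0, 0, 0, 0, -2, 4, 0, 0, 0, 2, 0, -2, 2, 0, -2, -2, 2, 2, 0, 0, 0, -4],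
    [0, 0, 0, 0, 0, 0, 0, 0, -2, 0, 0, 4, 0, 2, 0, -2, 2, 0, -2, 2, 2, -2, -4, 0],
    [0, 0, 0, 0, 0, 0, 0, 0, -2, 0, 0, 4, 0, -2, 0, -2, -2, 0, 2, 2, 2, 2, 4, 0],
    [0, 0, 0, 0, 0, 0, 4, 0, 0, 4, 0, 0, 0, 4, 0, 0, 0, 0, 0, -4, 0, 0, 0, 0],
    [-4, 4, 4, 4, 0, 0, 0, 0, 0, 0, 0, 0, 0, 0, 0, 0, 0, 0, 0, 0, 0, 0, 0, 0],
    [4, 4, 4, -4, 0, 0, 0, 0, 0, 0, 0, 0, 0, 0, 0, 0, 0, 0, 0, 0, 0, 0, 0, 0],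
    [0, 0, 0, -8, 0, 0, 0, 0, 0, 0, 0, 0, 0, 0, 0, 0, 0, 0, 0, 0, 0, 0, 0, 0],
    [0, 0, 0, 8, 0, 0, 0, 0, 0, 0, 0, 0, 0, 0, 0, 0, 0, 0, 0, 0, 0, 0, 0, 0],
    [0, 0, 8, 0, 0, 0, 0, 0, 0, 0, 0, 0, 0, 0, 0, 0, 0, 0, 0, 0, 0, 0, 0, 0]],
  [[0, 0, 0, 0, 0, 0, 2, 0, 0, 0, 4, -2, 0, 2, -2, 0, -2, -2, 2, 2, 0, -4, 0, 0],
    [0, 0, 0, 0, 0, 0, 0, -4, 2, 0, 4, 0, 0, 2, 0, -2, -2, 0, -2, 2, -2, 2, 0, 0],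
    [0, 0, 0, 0, 0, 0, 0, -4, 2, 0, -4, 0, 0, -2, 0, -2, 2, 0, 2, 2, -2, -2, 0, 0],
    [0, 0, 0, 0, -4, 0, 0, 0, 0, 0, 0, 0, -4, 0, 0, 4, 0, 0, -4, 0, 0, 0, 0, 0],
    [0, 0, 0, 0, 0, 0, -4, 0, 0, -4, 0, 4, 0, 0, 0, 0, 0, 0, 0, 0, 0, 0, -4, 0],
    [0, 0, 0, 0, 0, 0, 4, 0, 0, -4, 0, -4, 0, 0, 0, 0, 0, 0, 0, 0, 0, 0, -4, 0],
    [0, 0, 0, 0, 0, 0, -8, 0, 0, 0, 0, 0, 0, 0, 0, 0, 0, 0, 0, 0, 0, 0, 0, 0],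
    [0, 0, 0, 0, 0, 0, 8, 0, 0, 0, 0, 0, 0, 0, 0, 0, 0, 0, 0, 0, 0, 0, 0, 0],
    [0, 0, 0, 8, 0, 0, 0, 0, 0, 0, 0, 0, 0, 0, 0, 0, 0, 0, 0, 0, 0, 0, 0, 0]],
  [[0, 0, 0, 4, 0, 0, -2, 0, 0, 0, 0, -2, 0, -2, -2, 0, 2, 2, 2, 2, -4, 0, 0, 0],
    [0, 0, 0, 0, 0, -4, 0, 0, -2, 0, 0, 0, 0, 2, 4, 2, -2, 0, 2, 2, -2, -2, 0, 0],
    [0, 0, 0, 0, 0, -4, 0, 0, -2, 0, 0, 0, 0, -2, -4, 2, 2, 0, -2, 2, -2, 2, 0, 0],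
    [0, 0, 0, 0, 0, 0, 0, 0, 4, 0, 0, 0, 0, 0, 0, 0, 0, -4, 0, 0, 0, -4, 0, -4],
    [0, 0, 0, 0, -4, 0, 0, -4, 0, 0, 4, 0, -4, 0, 0, 0, 0, 0, 0, 0, 0, 0, 0, 0],
    [0, 0, 0, 0, 4, 0, 0, -4, 0, 0, 4, 0, 4, 0, 0, 0, 0, 0, 0, 0, 0, 0, 0, 0],
    [0, 0, 0, 0, 0, 0, 0, 8, 0, 0, 0, 0, 0, 0, 0, 0, 0, 0, 0, 0, 0, 0, 0, 0],
    [0, 0, 0, 0, 0, 0, 0, 8, 0, 0, 0, 0, 0, 0, 0, 0, 0, 0, 0, 0, 0, 0, 0, 0],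
    [0, 0, 0, 0, 8, 0, 0, 0, 0, 0, 0, 0, 0, 0, 0, 0, 0, 0, 0, 0, 0, 0, 0, 0]],
  [[2, -2, -2, -2, -2, 2, 0, -2, -2, -2, -2, 0, -2, 0, 0, -2, 0, 0, 0, 0, -2, -2, -2, -2],
    [-2, -2, 2, 2, -2, -2, -2, -2, 0, -2, -2, -2, -2, 0, -2, 0, 0, -2, 0, 0, 0, 0, -2, -2],
    [2, 2, -2, 2, 2, -2, 2, -2, 0, 2, 2, -2, 2, 0, 2, 0, 0, 2, 0, 0, 0, 0, 2, 2],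
    [0, 0, -4, 0, 0, 4, 0, 4, 0, 0, 0, 4, 0, 0, 0, 0, 0, 0, 0, 0, 0, 0, 0, 0],
    [0, 0, 0, 0, 0, 4, 0, 0, 0, 0, 0, 0, 0, 0, 4, 0, 0, 4, 0, 0, 0, 0, 0, -4],
    [0, 0, 0, 0, 0, 4, 0, 0, 0, 0, 0, 0, 0, 0, 4, 0, 0, 4, 0, 0, 0, 0, 0, -4],
    [0, 0, 0, 0, 0, 0, 0, 0, 0, 0, 0, 0, 0, 0, 0, 0, 0, 0, 0, 0, 0, 0, 0, 8],
    [0, 0, 0, 0, 0, 0, 0, 0, 0, 0, 0, 0, 0, 0, 0, 0, 0, 0, 0, 0, 0, 0, 0, 8],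
    [0, 0, 0, 0, 0, 8, 0, 0, 0, 0, 0, 0, 0, 0, 0, 0, 0, 0, 0, 0, 0, 0, 0, 0]],
  [[0, 0, 4, 0, 0, 0, 2, 0, 0, 0, 0, -2, 0, -2, 2, 0, 2, -2, -2, 2, 0, 0, -4, 0],
    [0, 0, 0, 0, 0, 0, 4, 0, 2, -4, 0, 0, 0, 2, 0, 2, -2, 0, -2, -2, 2, -2, 0, 0],
    [0, 0, 0, 0, 0, 0, -4, 0, 2, 4, 0, 0, 0, -2, 0, 2, 2, 0, 2, -2, 2, 2, 0, 0],
    [0, 0, 0, 0, 0, 0, 4, 0, 0, -4, 0, 0, 0, 4, 0, 0, 0, 0, 0, 4, 0, 0, 0, 0],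
    [4, -4, 4, 4, 0, 0, 0, 0, 0, 0, 0, 0, 0, 0, 0, 0, 0, 0, 0, 0, 0, 0, 0, 0],
    [-4, -4, 4, -4, 0, 0, 0, 0, 0, 0, 0, 0, 0, 0, 0, 0, 0, 0, 0, 0, 0, 0, 0, 0],
    [0, 0, 8, 0, 0, 0, 0, 0, 0, 0, 0, 0, 0, 0, 0, 0, 0, 0, 0, 0, 0, 0, 0, 0],
    [0, 0, 8, 0, 0, 0, 0, 0, 0, 0, 0, 0, 0, 0, 0, 0, 0, 0, 0, 0, 0, 0, 0, 0],
    [0, 0, 0, 0, 0, 0, 8, 0, 0, 0, 0, 0, 0, 0, 0, 0, 0, 0, 0, 0, 0, 0, 0, 0]],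
  [[0, 0, 0, 0, 4, 0, 2, 0, 0, 0, 0, -2, 0, -2, 2, -4, -2, 2, 2, -2, 0, 0, 0, 0],
    [0, 0, 0, 0, 4, 0, 0, 0, 2, 0, 0, 0, -4, -2, 0, -2, -2, 0, 2, 2, 2, -2, 0, 0],
    [0, 0, 0, 0, -4, 0, 0, 0, 2, 0, 0, 0, 4, 2, 0, -2, 2, 0, -2, 2, 2, 2, 0, 0],
    [0, 0, 0, 0, 4, 0, 0, 0, 0, 0, 0, 0, -4, 0, 0, 4, 0, 0, 4, 0, 0, 0, 0, 0],
    [0, 0, 0, 0, 0, 0, -4, 0, 0, 4, 0, 4, 0, 0, 0, 0, 0, 0, 0, 0, 0, 0, 4, 0],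
    [0, 0, 0, 0, 0, 0, 4, 0, 0, 4, 0, -4, 0, 0, 0, 0, 0, 0, 0, 0, 0, 0, 4, 0],
    [0, 0, 0, 0, 0, 0, 0, 0, 0, 0, 0, 8, 0, 0, 0, 0, 0, 0, 0, 0, 0, 0, 0, 0],
    [0, 0, 0, 0, 0, 0, 0, 0, 0, 0, 0, 8, 0, 0, 0, 0, 0, 0, 0, 0, 0, 0, 0, 0],
    [0, 0, 0, 0, 0, 0, 0, 8, 0, 0, 0, 0, 0, 0, 0, 0, 0, 0, 0, 0, 0, 0, 0, 0]],
  [[2, -2, 2, -2, 2, 2, 0, 2, -2, -2, 2, 0, -2, 0, 0, 2, 0, 0, 0, 0, -2, 2, 2, 2],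
    [-2, -2, 2, 2, 2, -2, 2, 2, 0, 2, 2, 2, 2, 0, -2, 0, 0, -2, 0, 0, 0, 0, 2, -2],
    [2, 2, -2, 2, -2, -2, -2, 2, 0, -2, -2, 2, -2, 0, 2, 0, 0, 2, 0, 0, 0, 0, -2, 2],
    [0, 0, -4, 0, 0, 4, 0, -4, 0, 0, 0, -4, 0, 0, 0, 0, 0, 0, 0, 0, 0, 0, 0, 0],
    [0, 0, 0, 0, 0, -4, 0, 0, 0, 0, 0, 0, 0, 0, 4, 0, 0, -4, 0, 0, 0, 0, 0, -4],
    [0, 0, 0, 0, 0, -4, 0, 0, 0, 0, 0, 0, 0, 0, 4, 0, 0, -4, 0, 0, 0, 0, 0, -4],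
    [0, 0, 0, 0, 0, 0, 0, 0, 0, 0, 0, 0, 0, 0, -8, 0, 0, 0, 0, 0, 0, 0, 0, 0],
    [0, 0, 0, 0, 0, 0, 0, 0, 0, 0, 0, 0, 0, 0, 8, 0, 0, 0, 0, 0, 0, 0, 0, 0],
    [0, 0, 0, 0, 0, 0, 0, 0, 8, 0, 0, 0, 0, 0, 0, 0, 0, 0, 0, 0, 0, 0, 0, 0]],
  [[2, 2, 2, 2, -2, 2, 0, 2, 2, -2, -2, 0, -2, 0, 0, -2, 0, 0, 0, 0, 2, -2, 2, 2],
    [-2, -2, 2, 2, -2, 2, 2, -2, 0, 2, -2, 2, -2, 0, 2, 0, 0, 2, 0, 0, 0, 0, 2, 2],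
    [2, 2, -2, 2, 2, 2, -2, -2, 0, -2, 2, 2, 2, 0, -2, 0, 0, -2, 0, 0, 0, 0, -2, -2],
    [0, 0, -4, 0, 0, -4, 0, 4, 0, 0, 0, -4, 0, 0, 0, 0, 0, 0, 0, 0, 0, 0, 0, 0],
    [0, 0, 0, 0, 0, -4, 0, 0, 0, 0, 0, 0, 0, 0, -4, 0, 0, 4, 0, 0, 0, 0, 0, -4],
    [0, 0, 0, 0, 0, -4, 0, 0, 0, 0, 0, 0, 0, 0, -4, 0, 0, 4, 0, 0, 0, 0, 0, -4],
    [0, 0, 0, 0, 0, 0, 0, 0, 0, 0, 0, 0, 0, 0, 0, 0, 0, -8, 0, 0, 0, 0, 0, 0],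
    [0, 0, 0, 0, 0, 0, 0, 0, 0, 0, 0, 0, 0, 0, 0, 0, 0, 8, 0, 0, 0, 0, 0, 0],
    [0, 0, 0, 0, 0, 0, 0, 0, 0, 8, 0, 0, 0, 0, 0, 0, 0, 0, 0, 0, 0, 0, 0, 0]],
  [[0, 0, 0, 0, 0, 0, 2, 0, 0, -4, 0, 2, 4, -2, -2, 0, 2, -2, 2, -2, 0, 0, 0, 0],
    [-4, 4, 0, 0, 0, 0, 0, 0, 2, 0, 0, 0, 0, -2, 0, 2, 2, 0, -2, 2, -2, -2, 0, 0],
    [4, -4, 0, 0, 0, 0, 0, 0, 2, 0, 0, 0, 0, 2, 0, 2, -2, 0, 2, 2, -2, 2, 0, 0],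
    [4, -4, 0, 0, 0, 0, 0, 0, 0, 0, 0, 0, 0, 0, 0, 0, 4, 0, 0, 0, 4, 0, 0, 0],
    [0, 0, 0, 0, 0, 0, 0, 0, 4, 0, 0, 0, 0, 0, 0, 4, 4, 0, 0, -4, 0, 0, 0, 0],
    [0, 0, 0, 0, 0, 0, 0, 0, -4, 0, 0, 0, 0, 0, 0, -4, 4, 0, 0, -4, 0, 0, 0, 0],
    [0, 0, 0, 0, 0, 0, 0, 0, 0, 0, 0, 0, 0, 0, 0, 0, -8, 0, 0, 0, 0, 0, 0, 0],
    [0, 0, 0, 0, 0, 0, 0, 0, 0, 0, 0, 0, 0, 0, 0, 0, 8, 0, 0, 0, 0, 0, 0, 0],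
    [0, 0, 0, 0, 0, 0, 0, 0, 0, 0, 8, 0, 0, 0, 0, 0, 0, 0, 0, 0, 0, 0, 0, 0]],
  [[0, 0, 0, 4, 0, 0, 2, 0, 0, 0, 0, 2, 0, 2, 2, 0, -2, -2, -2, -2, -4, 0, 0, 0],
    [0, 0, 0, 0, 0, -4, 0, 0, 2, 0, 0, 0, 0, -2, 4, -2, 2, 0, -2, -2, 2, 2, 0, 0],
    [0, 0, 0, 0, 0, -4, 0, 0, 2, 0, 0, 0, 0, 2, -4, -2, -2, 0, 2, -2, 2, -2, 0, 0],
    [0, 0, 0, 0, 0, 0, 0, 0, -4, 0, 0, 0, 0, 0, 0, 0, 0, -4, 0, 0, 0, 4, 0, -4],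
    [0, 0, 0, 0, -4, 0, 0, -4, 0, 0, -4, 0, 4, 0, 0, 0, 0, 0, 0, 0, 0, 0, 0, 0],
    [0, 0, 0, 0, 4, 0, 0, -4, 0, 0, -4, 0, -4, 0, 0, 0, 0, 0, 0, 0, 0, 0, 0, 0],
    [0, 0, 0, 0, -8, 0, 0, 0, 0, 0, 0, 0, 0, 0, 0, 0, 0, 0, 0, 0, 0, 0, 0, 0],
    [0, 0, 0, 0, 8, 0, 0, 0, 0, 0, 0, 0, 0, 0, 0, 0, 0, 0, 0, 0, 0, 0, 0, 0],
    [0, 0, 0, 0, 0, 0, 0, 0, 0, 0, 0, 8, 0, 0, 0, 0, 0, 0, 0, 0, 0, 0, 0, 0]],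
  [[0, 4, 0, 0, 0, 0, -2, 0, -4, 0, 0, -2, 0, 2, 2, 0, 2, -2, 2, -2, 0, 0, 0, 0],
    [0, 0, 0, 0, 0, 0, 0, 0, -2, 0, 0, 0, 0, -2, 0, 2, -2, 4, -2, 2, 2, 2, 0, -4],
    [0, 0, 0, 0, 0, 0, 0, 0, -2, 0, 0, 0, 0, 2, 0, 2, 2, -4, 2, 2, 2, -2, 0, 4],
    [0, 0, 0, 0, 0, 0, 0, 0, 4, 0, 0, 0, 0, 0, 0, 0, 0, 4, 0, 0, 0, 4, 0, -4],
    [0, 0, 0, 0, 4, 0, 0, -4, 0, 0, 4, 0, 4, 0, 0, 0, 0, 0, 0, 0, 0, 0, 0, 0],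
    [0, 0, 0, 0, -4, 0, 0, -4, 0, 0, 4, 0, -4, 0, 0, 0, 0, 0, 0, 0, 0, 0, 0, 0],
    [0, 0, 0, 0, 0, 0, 0, 0, 0, 0, -8, 0, 0, 0, 0, 0, 0, 0, 0, 0, 0, 0, 0, 0],
    [0, 0, 0, 0, 0, 0, 0, 0, 0, 0, 8, 0, 0, 0, 0, 0, 0, 0, 0, 0, 0, 0, 0, 0],
    [0, 0, 0, 0, 0, 0, 0, 0, 0, 0, 0, 0, 8, 0, 0, 0, 0, 0, 0, 0, 0, 0, 0, 0]],
  [[0, 0, 0, 0, 4, 0, -2, 0, 0, 0, 0, 2, 0, 2, -2, -4, 2, -2, -2, 2, 0, 0, 0, 0],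
    [0, 0, 0, 0, 4, 0, 0, 0, -2, 0, 0, 0, -4, 2, 0, 2, 2, 0, -2, -2, -2, 2, 0, 0],
    [0, 0, 0, 0, -4, 0, 0, 0, -2, 0, 0, 0, 4, -2, 0, 2, -2, 0, 2, -2, -2, -2, 0, 0],
    [0, 0, 0, 0, 4, 0, 0, 0, 0, 0, 0, 0, -4, 0, 0, -4, 0, 0, -4, 0, 0, 0, 0, 0],
    [0, 0, 0, 0, 0, 0, -4, 0, 0, 4, 0, -4, 0, 0, 0, 0, 0, 0, 0, 0, 0, 0, -4, 0],
    [0, 0, 0, 0, 0, 0, 4, 0, 0, 4, 0, 4, 0, 0, 0, 0, 0, 0, 0, 0, 0, 0, -4, 0],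
    [0, 0, 0, 0, 0, 0, 0, 0, 0, 0, 0, 0, 0, 0, 0, 0, 0, 0, 0, 0, 0, 0, 8, 0],
    [0, 0, 0, 0, 0, 0, 0, 0, 0, 0, 0, 0, 0, 0, 0, 0, 0, 0, 0, 0, 0, 0, 8, 0],
    [0, 0, 0, 0, 0, 0, 0, 0, 0, 0, 0, 0, 0, 8, 0, 0, 0, 0, 0, 0, 0, 0, 0, 0]],
  [[0, 0, 0, 0, 0, 0, -2, 0, 0, 0, 4, 2, 0, -2, 2, 0, 2, 2, -2, -2, 0, -4, 0, 0],
    [0, 0, 0, 0, 0, 0, 0, -4, -2, 0, 4, 0, 0, -2, 0, 2, 2, 0, 2, -2, 2, -2, 0, 0],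
    [0, 0, 0, 0, 0, 0, 0, -4, -2, 0, -4, 0, 0, 2, 0, 2, -2, 0, -2, -2, 2, 2, 0, 0],
    [0, 0, 0, 0, -4, 0, 0, 0, 0, 0, 0, 0, -4, 0, 0, -4, 0, 0, 4, 0, 0, 0, 0, 0],
    [0, 0, 0, 0, 0, 0, -4, 0, 0, -4, 0, -4, 0, 0, 0, 0, 0, 0, 0, 0, 0, 0, 4, 0],
    [0, 0, 0, 0, 0, 0, 4, 0, 0, -4, 0, 4, 0, 0, 0, 0, 0, 0, 0, 0, 0, 0, 4, 0],
    [0, 0, 0, 0, 0, 0, 0, 0, 0, 8, 0, 0, 0, 0, 0, 0, 0, 0, 0, 0, 0, 0, 0, 0],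
    [0, 0, 0, 0, 0, 0, 0, 0, 0, 8, 0, 0, 0, 0, 0, 0, 0, 0, 0, 0, 0, 0, 0, 0],
    [0, 0, 0, 0, 0, 0, 0, 0, 0, 0, 0, 0, 0, 0, 8, 0, 0, 0, 0, 0, 0, 0, 0, 0]],
  [[2, -2, 2, 2, -2, 2, 0, -2, -2, 2, 2, 0, 2, 0, 0, -2, 0, 0, 0, 0, 2, 2, 2, -2],
    [2, 2, 2, 2, -2, 2, 2, 2, 0, 2, 2, -2, -2, 0, 2, 0, 0, -2, 0, 0, 0, 0, -2, -2],
    [-2, -2, -2, 2, 2, 2, -2, 2, 0, -2, -2, -2, 2, 0, -2, 0, 0, 2, 0, 0, 0, 0, 2, 2],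
    [0, 0, 0, 4, 0, 0, 0, 0, 0, 0, 4, 0, 0, 0, 4, 0, 0, 0, 0, 0, 0, 0, -4, 0],
    [0, 0, 0, 0, 0, 0, 0, 0, 0, 0, 0, 0, 0, 4, 0, 0, 0, 0, -4, 0, 4, 4, 0, 0],
    [0, 0, 0, 0, 0, 0, 0, 0, 0, 0, 0, 0, 0, 4, 0, 0, 0, 0, -4, 0, 4, 4, 0, 0],
    [0, 0, 0, 0, 0, 0, 0, 0, 0, 0, 0, 0, 0, 0, 0, 0, 0, 0, 8, 0, 0, 0, 0, 0],
    [0, 0, 0, 0, 0, 0, 0, 0, 0, 0, 0, 0, 0, 0, 0, 0, 0, 0, 8, 0, 0, 0, 0, 0],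
    [0, 0, 0, 0, 0, 0, 0, 0, 0, 0, 0, 0, 0, 0, 0, 8, 0, 0, 0, 0, 0, 0, 0, 0]],
  [[0, 0, 0, 0, 0, 0, 2, 4, 0, 0, 0, -2, 0, 2, -2, 0, 2, 2, -2, -2, 0, 0, 0, -4],
    [0, 0, 0, 0, 0, 0, 0, 0, 2, 0, 0, 4, 0, -2, 0, 2, -2, 0, 2, -2, -2, 2, -4, 0],
    [0, 0, 0, 0, 0, 0, 0, 0, 2, 0, 0, 4, 0, 2, 0, 2, 2, 0, -2, -2, -2, -2, 4, 0],
    [0, 0, 0, 0, 0, 0, 4, 0, 0, 4, 0, 0, 0, -4, 0, 0, 0, 0, 0, 4, 0, 0, 0, 0],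
    [4, 4, -4, 4, 0, 0, 0, 0, 0, 0, 0, 0, 0, 0, 0, 0, 0, 0, 0, 0, 0, 0, 0, 0],
    [-4, 4, -4, -4, 0, 0, 0, 0, 0, 0, 0, 0, 0, 0, 0, 0, 0, 0, 0, 0, 0, 0, 0, 0],
    [0, 8, 0, 0, 0, 0, 0, 0, 0, 0, 0, 0, 0, 0, 0, 0, 0, 0, 0, 0, 0, 0, 0, 0],
    [0, 8, 0, 0, 0, 0, 0, 0, 0, 0, 0, 0, 0, 0, 0, 0, 0, 0, 0, 0, 0, 0, 0, 0],
    [0, 0, 0, 0, 0, 0, 0, 0, 0, 0, 0, 0, 0, 0, 0, 0, 8, 0, 0, 0, 0, 0, 0, 0]],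
  [[0, 0, 0, 0, 0, 0, -2, 0, 0, -4, 0, -2, 4, 2, 2, 0, -2, 2, -2, 2, 0, 0, 0, 0],
    [-4, 4, 0, 0, 0, 0, 0, 0, -2, 0, 0, 0, 0, 2, 0, -2, -2, 0, 2, -2, 2, 2, 0, 0],
    [4, -4, 0, 0, 0, 0, 0, 0, -2, 0, 0, 0, 0, -2, 0, -2, 2, 0, -2, -2, 2, -2, 0, 0],
    [4, -4, 0, 0, 0, 0, 0, 0, 0, 0, 0, 0, 0, 0, 0, 0, -4, 0, 0, 0, -4, 0, 0, 0],
    [0, 0, 0, 0, 0, 0, 0, 0, 4, 0, 0, 0, 0, 0, 0, -4, -4, 0, 0, -4, 0, 0, 0, 0],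
    [0, 0, 0, 0, 0, 0, 0, 0, -4, 0, 0, 0, 0, 0, 0, 4, -4, 0, 0, -4, 0, 0, 0, 0],
    [0, 0, 0, 0, 0, 0, 0, 0, 0, 0, 0, 0, 0, 0, 0, -8, 0, 0, 0, 0, 0, 0, 0, 0],
    [0, 0, 0, 0, 0, 0, 0, 0, 0, 0, 0, 0, 0, 0, 0, 8, 0, 0, 0, 0, 0, 0, 0, 0],
    [0, 0, 0, 0, 0, 0, 0, 0, 0, 0, 0, 0, 0, 0, 0, 0, 0, 8, 0, 0, 0, 0, 0, 0]],
  [[4, 0, 0, 0, 0, -4, 2, 0, 0, 0, 0, 2, 0, 2, 2, 0, 2, 2, 2, 2, 0, 0, 0, 0],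
    [0, 0, -4, 4, 0, 0, 0, 0, 2, 0, 0, 0, 0, 2, 0, 2, 2, 0, 2, 2, 2, 2, 0, 0],
    [0, 0, 4, 4, 0, 0, 0, 0, 2, 0, 0, 0, 0, -2, 0, 2, -2, 0, -2, 2, 2, -2, 0, 0],
    [-4, -4, 0, 0, 0, 0, 0, 0, 0, 0, 0, 0, 0, 0, 0, 0, 4, 0, 0, 0, -4, 0, 0, 0],
    [0, 0, 0, 0, 0, 0, 0, 0, -4, 0, 0, 0, 0, 0, 0, 4, -4, 0, 0, -4, 0, 0, 0, 0],
    [0, 0, 0, 0, 0, 0, 0, 0, 4, 0, 0, 0, 0, 0, 0, -4, -4, 0, 0, -4, 0, 0, 0, 0],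
    [0, 0, 0, 0, 0, 0, 0, 0, -8, 0, 0, 0, 0, 0, 0, 0, 0, 0, 0, 0, 0, 0, 0, 0],
    [0, 0, 0, 0, 0, 0, 0, 0, 8, 0, 0, 0, 0, 0, 0, 0, 0, 0, 0, 0, 0, 0, 0, 0],
    [0, 0, 0, 0, 0, 0, 0, 0, 0, 0, 0, 0, 0, 0, 0, 0, 0, 0, 8, 0, 0, 0, 0, 0]],
  [[0, 4, 0, 0, 0, 0, 2, 0, -4, 0, 0, 2, 0, -2, -2, 0, -2, 2, -2, 2, 0, 0, 0, 0],
    [0, 0, 0, 0, 0, 0, 0, 0, 2, 0, 0, 0, 0, 2, 0, -2, 2, 4, 2, -2, -2, -2, 0, -4],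
    [0, 0, 0, 0, 0, 0, 0, 0, 2, 0, 0, 0, 0, -2, 0, -2, -2, -4, -2, -2, -2, 2, 0, 4],
    [0, 0, 0, 0, 0, 0, 0, 0, -4, 0, 0, 0, 0, 0, 0, 0, 0, 4, 0, 0, 0, -4, 0, -4],
    [0, 0, 0, 0, 4, 0, 0, -4, 0, 0, -4, 0, -4, 0, 0, 0, 0, 0, 0, 0, 0, 0, 0, 0],
    [0, 0, 0, 0, -4, 0, 0, -4, 0, 0, -4, 0, 4, 0, 0, 0, 0, 0, 0, 0, 0, 0, 0, 0],
    [0, 0, 0, 0, 0, 0, 0, 0, 0, 0, 0, 0, -8, 0, 0, 0, 0, 0, 0, 0, 0, 0, 0, 0],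
    [0, 0, 0, 0, 0, 0, 0, 0, 0, 0, 0, 0, 8, 0, 0, 0, 0, 0, 0, 0, 0, 0, 0, 0],
    [0, 0, 0, 0, 0, 0, 0, 0, 0, 0, 0, 0, 0, 0, 0, 0, 0, 0, 0, 8, 0, 0, 0, 0]],
  [[2, 2, -2, -2, -2, 2, 0, 2, 2, 2, 2, 0, 2, 0, 0, -2, 0, 0, 0, 0, -2, 2, -2, 2],
    [2, 2, 2, 2, -2, -2, -2, 2, 0, -2, 2, 2, -2, 0, -2, 0, 0, 2, 0, 0, 0, 0, 2, 2],
    [-2, -2, -2, 2, 2, -2, 2, 2, 0, 2, -2, 2, 2, 0, 2, 0, 0, -2, 0, 0, 0, 0, -2, -2],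
    [0, 0, 0, 4, 0, 0, 0, 0, 0, 0, 4, 0, 0, 0, -4, 0, 0, 0, 0, 0, 0, 0, 4, 0],
    [0, 0, 0, 0, 0, 0, 0, 0, 0, 0, 0, 0, 0, 4, 0, 0, 0, 0, 4, 0, -4, 4, 0, 0],
    [0, 0, 0, 0, 0, 0, 0, 0, 0, 0, 0, 0, 0, 4, 0, 0, 0, 0, 4, 0, -4, 4, 0, 0],
    [0, 0, 0, 0, 0, 0, 0, 0, 0, 0, 0, 0, 0, 0, 0, 0, 0, 0, 0, 0, 8, 0, 0, 0],
    [0, 0, 0, 0, 0, 0, 0, 0, 0, 0, 0, 0, 0, 0, 0, 0, 0, 0, 0, 0, 8, 0, 0, 0],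
    [0, 0, 0, 0, 0, 0, 0, 0, 0, 0, 0, 0, 0, 0, 0, 0, 0, 0, 0, 0, 8, 0, 0, 0]],
  [[2, 2, 2, -2, 2, 2, 0, -2, 2, 2, -2, 0, 2, 0, 0, 2, 0, 0, 0, 0, -2, -2, 2, -2],
    [2, 2, 2, 2, 2, -2, 2, -2, 0, 2, -2, -2, 2, 0, -2, 0, 0, 2, 0, 0, 0, 0, -2, 2],
    [-2, -2, -2, 2, -2, -2, -2, -2, 0, -2, 2, -2, -2, 0, 2, 0, 0, -2, 0, 0, 0, 0, 2, -2],
    [0, 0, 0, 4, 0, 0, 0, 0, 0, 0, -4, 0, 0, 0, -4, 0, 0, 0, 0, 0, 0, 0, -4, 0],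
    [0, 0, 0, 0, 0, 0, 0, 0, 0, 0, 0, 0, 0, -4, 0, 0, 0, 0, -4, 0, -4, 4, 0, 0],
    [0, 0, 0, 0, 0, 0, 0, 0, 0, 0, 0, 0, 0, -4, 0, 0, 0, 0, -4, 0, -4, 4, 0, 0],
    [0, 0, 0, 0, 0, 0, 0, 0, 0, 0, 0, 0, 0, 0, 0, 0, 0, 0, 0, 0, 0, -8, 0, 0],
    [0, 0, 0, 0, 0, 0, 0, 0, 0, 0, 0, 0, 0, 0, 0, 0, 0, 0, 0, 0, 0, 8, 0, 0],
    [0, 0, 0, 0, 0, 0, 0, 0, 0, 0, 0, 0, 0, 0, 0, 0, 0, 0, 0, 0, 0, 8, 0, 0]],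
  [[2, -2, -2, 2, 2, 2, 0, 2, -2, 2, -2, 0, 2, 0, 0, 2, 0, 0, 0, 0, 2, -2, -2, 2],
    [2, 2, 2, 2, 2, 2, -2, -2, 0, -2, -2, 2, 2, 0, 2, 0, 0, -2, 0, 0, 0, 0, 2, -2],
    [-2, -2, -2, 2, -2, 2, 2, -2, 0, 2, 2, 2, -2, 0, -2, 0, 0, 2, 0, 0, 0, 0, -2, 2],
    [0, 0, 0, 4, 0, 0, 0, 0, 0, 0, -4, 0, 0, 0, 4, 0, 0, 0, 0, 0, 0, 0, 4, 0],
    [0, 0, 0, 0, 0, 0, 0, 0, 0, 0, 0, 0, 0, -4, 0, 0, 0, 0, 4, 0, 4, 4, 0, 0],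
    [0, 0, 0, 0, 0, 0, 0, 0, 0, 0, 0, 0, 0, -4, 0, 0, 0, 0, 4, 0, 4, 4, 0, 0],
    [0, 0, 0, 0, 0, 0, 0, 0, 0, 0, 0, 0, 0, 8, 0, 0, 0, 0, 0, 0, 0, 0, 0, 0],
    [0, 0, 0, 0, 0, 0, 0, 0, 0, 0, 0, 0, 0, 8, 0, 0, 0, 0, 0, 0, 0, 0, 0, 0],
    [0, 0, 0, 0, 0, 0, 0, 0, 0, 0, 0, 0, 0, 0, 0, 0, 0, 0, 0, 0, 0, 0, 8, 0]],
  [[2, 2, -2, 2, 2, 2, 0, -2, 2, -2, 2, 0, -2, 0, 0, 2, 0, 0, 0, 0, 2, 2, -2, -2],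
    [-2, -2, 2, 2, 2, 2, -2, 2, 0, -2, 2, -2, 2, 0, 2, 0, 0, 2, 0, 0, 0, 0, -2, 2],
    [2, 2, -2, 2, -2, 2, 2, 2, 0, 2, -2, -2, -2, 0, -2, 0, 0, -2, 0, 0, 0, 0, 2, -2],
    [0, 0, -4, 0, 0, -4, 0, -4, 0, 0, 0, 4, 0, 0, 0, 0, 0, 0, 0, 0, 0, 0, 0, 0],
    [0, 0, 0, 0, 0, 4, 0, 0, 0, 0, 0, 0, 0, 0, -4, 0, 0, -4, 0, 0, 0, 0, 0, -4],
    [0, 0, 0, 0, 0, 4, 0, 0, 0, 0, 0, 0, 0, 0, -4, 0, 0, -4, 0, 0, 0, 0, 0, -4],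
    [0, 0, 0, 0, 0, -8, 0, 0, 0, 0, 0, 0, 0, 0, 0, 0, 0, 0, 0, 0, 0, 0, 0, 0],
    [0, 0, 0, 0, 0, 8, 0, 0, 0, 0, 0, 0, 0, 0, 0, 0, 0, 0, 0, 0, 0, 0, 0, 0],
    [0, 0, 0, 0, 0, 0, 0, 0, 0, 0, 0, 0, 0, 0, 0, 0, 0, 0, 0, 0, 0, 0, 0, 8]]]

/-- a word -/
def gW : List LOp :=
  [.plO [9, 11, 0, 10, 14, 4, 18, 3, 20, 21, 12, 7, 23, 15, 1, 22, 5, 16, 6, 19, 17, 13, 2, 8], .sgO 1594898, .xiO, .plO [22, 11, 20, 10, 14, 7, 2, 13, 0, 1, 12, 4, 17, 15, 21, 9, 5, 8, 6, 19, 23, 3, 18, 16], .sgO 7203352, .xiO, .plO [5, 9, 22, 8, 21, 18, 12, 15, 19, 14, 23, 10, 20, 4, 1, 17, 2, 7, 0, 3, 6, 13, 16, 11], .sgO 13409620, .xiO]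

/-- traces of the unit vectors -/
def gWTr : List (List (List ℤ)) :=
  [
  [[-1, 1, -1, 3, -3, 1, -1, -1, -1, -1, 1, -1, -3, -3, 1, -1, 1, -1, 1, -1, 1, -1, 1, -3],
    [-1, 1, 1, -1, 1, 1, 1, -1, -3, -1, 3, 1, 1, -1, -3, -3, -1, 1, -1, -1, -1, -1, -1, -3],
    [-1, -1, 1, -1, -1, 1, 1, -1, -3, 1, -3, 1, -1, -1, 3, -3, -1, 1, -1, 1, 1, -1, -1, -3],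
    [0, 0, 2, 0, -2, 0, 0, -2, 0, 0, 0, 0, -2, 0, -2, 0, -2, 0, 0, -4, -2, 0, 2, 4],
    [0, 0, 0, 0, 0, -2, 0, 0, 0, 0, 0, 0, 0, -2, -2, 0, 4, -2, 2, -4, 2, -2, 0, -2],
    [0, 0, 0, 0, 0, -2, 0, 0, 0, 0, 0, 0, 0, 2, 2, 0, -4, -2, -2, 4, 2, 2, 0, -2],
    [0, 0, 0, 0, 0, 0, 0, 0, 0, 0, 0, 0, 0, 0, -4, 0, 4, 0, 4, -4, 0, 0, 0, 0],
    [4, -4, 4, -4, 0, 0, 0, 0, 0, 0, 0, 0, 0, 0, 0, 0, 0, 0, 0, 0, 0, 0, 0, 0],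
    [4, -4, -4, -4, 0, 0, 0, 0, 0, 0, 0, 0, 0, 0, 0, 0, 0, 0, 0, 0, 0, 0, 0, 0],
    [8, 0, 0, 0, 0, 0, 0, 0, 0, 0, 0, 0, 0, 0, 0, 0, 0, 0, 0, 0, 0, 0, 0, 0]],
  [[1, -1, 1, -3, -1, -1, 1, 1, 1, 1, -1, 1, -1, -1, -1, 1, 3, -3, -1, -3, 3, 1, -1, -1],
    [1, -1, -1, 1, -1, 3, -1, 1, -1, 1, -3, -1, -1, 1, -1, -1, -3, 3, 1, -3, 1, 1, 1, -1],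
    [1, 1, -1, 1, 1, 3, -1, 1, -1, -1, 3, -1, 1, 1, 1, -1, -3, 3, 1, 3, -1, 1, 1, -1],
    [0, 0, -2, 0, 2, 0, 0, 2, 0, 0, 0, 0, 2, 0, 2, 0, 2, 0, 0, -4, 2, 0, -2, 4],
    [0, 0, 0, 0, 0, 2, 0, 0, 0, 0, 0, 0, 0, 2, 2, 0, 4, 2, -2, -4, -2, 2, 0, 2],
    [0, 0, 0, 0, 0, 2, 0, 0, 0, 0, 0, 0, 0, -2, -2, 0, -4, 2, 2, 4, -2, -2, 0, 2],
    [0, 0, 0, 0, 0, 0, 0, 0, 0, 0, 0, 0, 0, 0, 4, 0, 4, 0, -4, -4, 0, 0, 0, 0],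
    [-4, 4, 4, -4, 0, 0, 0, 0, 0, 0, 0, 0, 0, 0, 0, 0, 0, 0, 0, 0, 0, 0, 0, 0],
    [-4, 4, -4, -4, 0, 0, 0, 0, 0, 0, 0, 0, 0, 0, 0, 0, 0, 0, 0, 0, 0, 0, 0, 0],
    [0, 8, 0, 0, 0, 0, 0, 0, 0, 0, 0, 0, 0, 0, 0, 0, 0, 0, 0, 0, 0, 0, 0, 0]],
  [[1, -1, 1, 1, 3, -1, 1, 1, -3, 1, -1, -3, -1, -1, -1, 1, -1, 1, -1, 1, 3, -3, -1, -1],
    [1, -1, -1, 1, -1, -1, -1, -3, -1, 1, 1, -1, -1, -3, 3, -1, 1, 3, 1, 1, -3, 1, 1, -1],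
    [1, 1, -1, 1, 1, -1, -1, -3, -1, -1, -1, -1, 1, -3, -3, -1, 1, 3, 1, -1, 3, 1, 1, -1],
    [0, 0, -2, 0, -2, 0, 0, 2, 0, 0, 0, 0, -2, 4, 2, 0, -2, -4, 0, 0, -2, 0, -2, 0],
    [0, 0, 0, 0, 0, -2, 0, 0, -4, 0, 0, 0, 0, 2, -2, 4, 0, -2, -2, 0, -2, 2, 0, -2],
    [0, 0, 0, 0, 0, -2, 0, 0, -4, 0, 0, 0, 0, -2, 2, -4, 0, -2, 2, 0, -2, -2, 0, -2],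
    [0, 0, 0, 0, 0, 0, 0, 0, 0, 0, 0, 0, 0, 0, -4, 0, -4, 0, -4, -4, 0, 0, 0, 0],
    [-4, -4, -4, -4, 0, 0, 0, 0, 0, 0, 0, 0, 0, 0, 0, 0, 0, 0, 0, 0, 0, 0, 0, 0],
    [-4, -4, 4, -4, 0, 0, 0, 0, 0, 0, 0, 0, 0, 0, 0, 0, 0, 0, 0, 0, 0, 0, 0, 0],
    [0, 0, 8, 0, 0, 0, 0, 0, 0, 0, 0, 0, 0, 0, 0, 0, 0, 0, 0, 0, 0, 0, 0, 0]],
  [[1, -1, 1, 1, -1, -1, -3, 1, 1, -3, -1, -3, 3, -1, -1, 1, 3, 1, -1, 1, -1, 1, -1, -1],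
    [1, -1, -1, 1, -1, 3, -1, -3, -1, 1, 1, -1, -1, 1, -1, -1, 1, -1, -3, 1, 1, -3, 1, 3],
    [1, 1, -1, 1, 1, 3, -1, -3, -1, -1, -1, -1, 1, 1, 1, -1, 1, -1, -3, -1, -1, -3, 1, 3],
    [0, 0, -2, 0, -2, 0, 0, 2, 0, 0, 0, 0, -2, -4, 2, 0, -2, 4, 0, 0, -2, 0, -2, 0],
    [0, 0, 0, 0, 0, -2, 0, 0, 4, 0, 0, 0, 0, 2, -2, -4, 0, -2, -2, 0, -2, 2, 0, -2],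
    [0, 0, 0, 0, 0, -2, 0, 0, 4, 0, 0, 0, 0, -2, 2, 4, 0, -2, 2, 0, -2, -2, 0, -2],
    [0, 0, 0, 0, 0, 0, 0, 0, 0, 0, 0, 0, 0, 0, -4, 0, 4, 0, -4, 4, 0, 0, 0, 0],
    [-4, -4, 4, 4, 0, 0, 0, 0, 0, 0, 0, 0, 0, 0, 0, 0, 0, 0, 0, 0, 0, 0, 0, 0],
    [-4, -4, -4, 4, 0, 0, 0, 0, 0, 0, 0, 0, 0, 0, 0, 0, 0, 0, 0, 0, 0, 0, 0, 0],
    [0, 0, 0, 8, 0, 0, 0, 0, 0, 0, 0, 0, 0, 0, 0, 0, 0, 0, 0, 0, 0, 0, 0, 0]],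
  [[1, -1, 1, 1, -1, -1, 1, -3, 1, 1, -1, -3, -1, -1, 3, 1, -1, 1, -1, -3, -1, 1, -1, 3],
    [1, 3, -1, -3, -1, -1, -1, -3, 3, 1, 1, -1, -1, 1, -1, -1, 1, -1, 1, -3, 1, 1, 1, -1],
    [1, -3, -1, -3, 1, -1, -1, -3, 3, -1, -1, -1, 1, 1, 1, -1, 1, -1, 1, 3, -1, 1, 1, -1],
    [4, 0, 2, 0, -2, 0, 0, 2, 0, 0, 0, 0, -2, 0, -2, 4, 2, 0, 0, 0, 2, 0, -2, 0],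
    [0, 0, 0, 0, 0, 2, 0, 0, 0, 4, 0, 0, 0, 2, -2, 0, 0, -2, -2, 0, 2, -2, 4, 2],
    [0, 0, 0, 0, 0, 2, 0, 0, 0, -4, 0, 0, 0, -2, 2, 0, 0, -2, 2, 0, 2, 2, -4, 2],
    [0, 0, 0, 0, 0, 0, -4, 0, 0, 0, 0, -4, 0, 4, 0, 0, 0, 4, 0, 0, 0, 0, 0, 0],
    [0, 0, 0, 0, 4, 0, 0, 4, 0, 0, -4, 0, -4, 0, 0, 0, 0, 0, 0, 0, 0, 0, 0, 0],
    [0, 0, 0, 0, -4, 0, 0, 4, 0, 0, 4, 0, 4, 0, 0, 0, 0, 0, 0, 0, 0, 0, 0, 0],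
    [0, 0, 0, 0, 8, 0, 0, 0, 0, 0, 0, 0, 0, 0, 0, 0, 0, 0, 0, 0, 0, 0, 0, 0]],
  [[-1, 1, -1, -1, 1, 1, -1, 3, -1, 3, 1, -1, 1, -3, 1, 3, 1, -1, 1, -1, -3, -1, 1, 1],
    [-1, 1, 1, 3, 1, 1, 1, -1, 1, -1, -1, 1, 1, -1, 1, -3, -1, -3, -1, -1, -1, 3, 3, 1],
    [-1, -1, 1, 3, -1, 1, 1, -1, 1, 1, 1, 1, -1, -1, -1, -3, -1, -3, -1, 1, 1, 3, 3, 1],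
    [-2, -2, 0, 2, 0, -2, 2, 0, -2, 2, -2, 2, 0, 2, 0, 2, 0, 2, 2, -2, 0, -2, 0, -2],
    [-2, 2, 2, -2, 2, 0, 2, -2, 2, 2, 2, -2, -2, 0, 0, 2, -2, 0, 0, -2, 0, 0, -2, 0],
    [-2, 2, 2, 2, -2, 0, 2, -2, 2, -2, 2, 2, -2, 0, 0, -2, 2, 0, 0, 2, 0, 0, 2, 0],
    [-4, 0, 0, 0, 0, 0, 0, 0, 0, 4, -4, 0, 0, 0, 0, 4, 0, 0, 0, 0, 0, 0, 0, 0],
    [0, 0, 0, 0, 0, -4, 0, 0, 0, 0, 0, 0, 0, 0, 4, 0, 0, 4, 0, 0, 0, 0, 0, -4],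
    [0, 0, 0, 0, 0, -4, 0, 0, 0, 0, 0, 0, 0, 0, 4, 0, 0, 4, 0, 0, 0, 0, 0, 4],
    [0, 0, 0, 0, 0, 8, 0, 0, 0, 0, 0, 0, 0, 0, 0, 0, 0, 0, 0, 0, 0, 0, 0, 0]],
  [[5, -1, 1, 1, -1, 3, 1, 1, 1, 1, -1, 1, -1, -1, -1, 1, -1, 1, 3, 1, -1, 1, -1, -1],
    [1, -1, -1, 1, 3, -1, 3, 1, -1, 5, 1, -1, -1, 1, -1, -1, 1, -1, 1, 1, 1, 1, 1, -1],
    [1, 1, -1, 1, -3, -1, 3, 1, -1, -5, -1, -1, 1, 1, 1, -1, 1, -1, 1, -1, -1, 1, 1, -1],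
    [0, 0, -2, 0, 2, 0, -4, -2, 0, 4, 0, 0, -2, 0, -2, 0, -2, 0, 0, 0, 2, 0, -2, 0],
    [0, 4, -4, 0, 0, -2, 0, 0, 0, 0, 0, 0, 0, -2, 2, 0, 0, -2, -2, 0, -2, -2, 0, 2],
    [0, 4, -4, 0, 0, -2, 0, 0, 0, 0, 0, 0, 0, 2, -2, 0, 0, -2, 2, 0, -2, 2, 0, 2],
    [0, 4, -4, 0, 0, 0, 0, 0, 0, 0, 0, 0, 0, 0, 0, 0, 0, 0, 0, 0, 4, 0, 0, -4],
    [0, 0, 0, 0, 0, 0, 4, 0, 0, 4, 0, -4, 0, 0, 0, 0, 0, 0, 0, 0, 0, 0, -4, 0],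
    [0, 0, 0, 0, 0, 0, -4, 0, 0, 4, 0, 4, 0, 0, 0, 0, 0, 0, 0, 0, 0, 0, 4, 0],
    [0, 0, 0, 0, 0, 0, 8, 0, 0, 0, 0, 0, 0, 0, 0, 0, 0, 0, 0, 0, 0, 0, 0, 0]],
  [[-1, 1, 3, -1, 1, 1, -1, -1, -1, -1, 1, 3, 1, -3, 1, -1, 1, 3, 1, -1, 1, -1, -3, 1],
    [3, 1, -3, -1, 1, 1, 1, 3, 1, -1, -1, 1, 1, -1, 1, -3, 3, 1, -1, -1, -1, -1, -1, 1],
    [3, -1, -3, -1, -1, 1, 1, 3, 1, 1, 1, 1, -1, -1, -1, -3, 3, 1, -1, 1, 1, -1, -1, 1],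
    [4, 0, -2, 0, 2, 0, 0, -2, 0, 0, 0, 0, 2, 0, 2, 4, -2, 0, 0, 0, -2, 0, 2, 0],
    [0, 0, 0, 0, 0, -2, 0, 0, 0, 4, 0, 0, 0, -2, 2, 0, 0, 2, 2, 0, -2, 2, 4, -2],
    [0, 0, 0, 0, 0, -2, 0, 0, 0, -4, 0, 0, 0, 2, -2, 0, 0, 2, -2, 0, -2, -2, -4, -2],
    [0, 0, 0, 0, 0, 0, -4, 0, 0, 0, 0, -4, 0, -4, 0, 0, 0, -4, 0, 0, 0, 0, 0, 0],
    [0, 0, 0, 0, -4, 0, 0, -4, 0, 0, -4, 0, -4, 0, 0, 0, 0, 0, 0, 0, 0, 0, 0, 0],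
    [0, 0, 0, 0, 4, 0, 0, -4, 0, 0, 4, 0, 4, 0, 0, 0, 0, 0, 0, 0, 0, 0, 0, 0],
    [0, 0, 0, 0, 0, 0, 0, 8, 0, 0, 0, 0, 0, 0, 0, 0, 0, 0, 0, 0, 0, 0, 0, 0]],
  [[-1, -3, 3, -1, -3, 1, -1, -1, -1, 3, 1, -1, 1, 1, 1, -1, 1, -1, 1, 3, 1, -1, 1, 1],
    [3, 1, 1, -1, 1, 1, 1, -1, 1, -1, -1, -3, 1, -1, -3, 1, -1, 1, -1, 3, -1, 3, -1, 1],
    [3, -1, 1, -1, -1, 1, 1, -1, 1, 1, 1, -3, -1, -1, 3, 1, -1, 1, -1, -3, 1, 3, -1, 1],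
    [2, -2, 0, -2, 0, 2, -2, 0, -2, -2, -2, 2, 0, 2, 0, -2, 0, 2, 2, 2, 0, -2, 0, 2],
    [-2, -2, -2, -2, 2, 0, 2, 2, 2, -2, -2, -2, -2, 0, 0, 2, 2, 0, 0, 2, 0, 0, 2, 0],
    [-2, -2, -2, 2, -2, 0, 2, 2, 2, 2, -2, 2, -2, 0, 0, -2, -2, 0, 0, -2, 0, 0, -2, 0],
    [0, 0, 0, 4, 0, 0, 0, -4, -4, 0, 0, 0, 0, 0, 0, 0, 0, 0, 0, 0, 0, 0, 4, 0],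
    [0, 0, 0, 0, 0, 0, 0, 0, 4, 0, 0, 0, 0, 0, 0, -4, 4, 0, 0, -4, 0, 0, 0, 0],
    [0, 0, 0, 0, 0, 0, 0, 0, -4, 0, 0, 0, 0, 0, 0, 4, 4, 0, 0, 4, 0, 0, 0, 0],
    [0, 0, 0, 0, 0, 0, 0, 0, 8, 0, 0, 0, 0, 0, 0, 0, 0, 0, 0, 0, 0, 0, 0, 0]],
  [[-1, 1, -1, -1, 1, 1, -1, -1, 3, 3, -3, -1, 1, 1, 1, -1, 1, 3, 1, -1, 1, -1, 1, -3],
    [-1, 1, 1, -1, 1, 1, 1, -1, -3, -1, -1, 1, -3, -1, 1, 1, 3, 1, -1, -1, 3, 3, -1, 1],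
    [-1, -1, 1, -1, -1, 1, 1, -1, -3, 1, 1, 1, 3, -1, -1, 1, 3, 1, -1, 1, -3, 3, -1, 1],
    [0, 0, 2, 0, 2, 0, 0, 2, 4, 0, 0, 0, -2, 0, 2, 0, -2, 0, 0, 0, 2, -4, 2, 0],
    [4, 0, 0, -4, 0, -2, 0, 0, 0, 0, 0, 0, 0, 2, 2, 0, 0, -2, 2, 0, 2, 2, 0, 2],
    [4, 0, 0, 4, 0, -2, 0, 0, 0, 0, 0, 0, 0, -2, -2, 0, 0, -2, -2, 0, 2, -2, 0, 2],
    [0, -4, -4, 0, 0, 0, 0, 0, 0, 0, 0, 0, 0, 0, 0, 0, 0, 0, 0, 0, -4, 0, 0, -4],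
    [0, 0, 0, 0, 0, 0, -4, 0, 0, -4, 0, -4, 0, 0, 0, 0, 0, 0, 0, 0, 0, 0, -4, 0],
    [0, 0, 0, 0, 0, 0, 4, 0, 0, -4, 0, 4, 0, 0, 0, 0, 0, 0, 0, 0, 0, 0, 4, 0],
    [0, 0, 0, 0, 0, 0, 0, 0, 0, 8, 0, 0, 0, 0, 0, 0, 0, 0, 0, 0, 0, 0, 0, 0]],
  [[-1, 1, -1, 3, 1, 1, -1, -1, -1, 3, 1, -1, 1, 1, -3, -1, 1, -1, 1, -1, 1, 3, -3, 1],
    [-1, -3, -3, -1, 1, 1, 1, -1, 1, -1, 3, 1, 1, 3, 1, 1, -1, 1, -1, -1, -1, 3, -1, 1],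
    [-1, 3, -3, -1, -1, 1, 1, -1, 1, 1, -3, 1, -1, 3, -1, 1, -1, 1, -1, 1, 1, 3, -1, 1],
    [0, 4, -2, 0, -2, 0, 0, -2, 0, 0, 0, 0, -2, 0, 2, 0, 2, 0, 4, 0, 2, 0, 2, 0],
    [0, 0, 0, 0, 0, 2, 4, 0, 0, 0, 0, 4, 0, -2, -2, 0, 0, -2, 2, 0, -2, 2, 0, 2],
    [0, 0, 0, 0, 0, 2, 4, 0, 0, 0, 0, -4, 0, 2, 2, 0, 0, -2, -2, 0, -2, -2, 0, 2],
    [0, 0, 0, 0, 0, 0, -4, 0, 0, 0, 0, 4, 0, -4, 0, 0, 0, 4, 0, 0, 0, 0, 0, 0],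
    [0, 0, 0, 0, -4, 0, 0, 4, 0, 0, 4, 0, -4, 0, 0, 0, 0, 0, 0, 0, 0, 0, 0, 0],
    [0, 0, 0, 0, 4, 0, 0, 4, 0, 0, -4, 0, 4, 0, 0, 0, 0, 0, 0, 0, 0, 0, 0, 0],
    [0, 0, 0, 0, 0, 0, 0, 0, 0, 0, 8, 0, 0, 0, 0, 0, 0, 0, 0, 0, 0, 0, 0, 0]],
  [[3, 1, -1, -1, 1, -3, -1, -1, -1, -1, 1, -1, 1, 1, 1, -1, 1, -1, 5, -1, 1, -1, 1, 1],
    [-1, 1, 1, -1, -3, 1, 5, -1, 1, 3, -1, 1, 1, -1, 1, 1, -1, 1, -1, -1, -1, -1, -1, 1],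
    [-1, -1, 1, -1, 3, 1, 5, -1, 1, -3, 1, 1, -1, -1, -1, 1, -1, 1, -1, 1, 1, -1, -1, 1],
    [0, 0, 2, 0, -2, 0, -4, 2, 0, 4, 0, 0, 2, 0, 2, 0, 2, 0, 0, 0, -2, 0, 2, 0],
    [0, 4, -4, 0, 0, 2, 0, 0, 0, 0, 0, 0, 0, 2, -2, 0, 0, 2, 2, 0, 2, 2, 0, -2],
    [0, 4, -4, 0, 0, 2, 0, 0, 0, 0, 0, 0, 0, -2, 2, 0, 0, 2, -2, 0, 2, -2, 0, -2],
    [0, 4, -4, 0, 0, 0, 0, 0, 0, 0, 0, 0, 0, 0, 0, 0, 0, 0, 0, 0, -4, 0, 0, 4],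
    [0, 0, 0, 0, 0, 0, -4, 0, 0, 4, 0, 4, 0, 0, 0, 0, 0, 0, 0, 0, 0, 0, -4, 0],
    [0, 0, 0, 0, 0, 0, 4, 0, 0, 4, 0, -4, 0, 0, 0, 0, 0, 0, 0, 0, 0, 0, 4, 0],
    [0, 0, 0, 0, 0, 0, 0, 0, 0, 0, 0, 8, 0, 0, 0, 0, 0, 0, 0, 0, 0, 0, 0, 0]],
  [[-1, 1, 3, 3, 1, 1, 3, 3, 3, -1, 1, -1, 1, 1, 1, -1, 1, -1, 1, -1, 1, -1, 1, 1],
    [3, 1, 1, 3, 1, 1, 1, -1, 1, -1, 3, 1, 1, -1, 1, 1, -1, 1, 3, -1, 3, -1, -1, 1],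
    [3, -1, 1, 3, -1, 1, 1, -1, 1, 1, -3, 1, -1, -1, -1, 1, -1, 1, 3, 1, -3, -1, -1, 1],
    [0, -4, -2, 0, -2, 0, 0, -2, 0, 0, 0, 0, -2, 0, 2, 0, 2, 0, -4, 0, 2, 0, 2, 0],
    [0, 0, 0, 0, 0, 2, -4, 0, 0, 0, 0, -4, 0, -2, -2, 0, 0, -2, 2, 0, -2, 2, 0, 2],
    [0, 0, 0, 0, 0, 2, -4, 0, 0, 0, 0, 4, 0, 2, 2, 0, 0, -2, -2, 0, -2, -2, 0, 2],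
    [0, 0, 0, 0, 0, 0, 4, 0, 0, 0, 0, -4, 0, -4, 0, 0, 0, 4, 0, 0, 0, 0, 0, 0],
    [0, 0, 0, 0, -4, 0, 0, 4, 0, 0, -4, 0, 4, 0, 0, 0, 0, 0, 0, 0, 0, 0, 0, 0],
    [0, 0, 0, 0, 4, 0, 0, 4, 0, 0, 4, 0, -4, 0, 0, 0, 0, 0, 0, 0, 0, 0, 0, 0],
    [0, 0, 0, 0, 0, 0, 0, 0, 0, 0, 0, 0, 8, 0, 0, 0, 0, 0, 0, 0, 0, 0, 0, 0]],
  [[-1, 1, -1, -1, -3, 1, -1, 3, -1, -1, -3, -1, 1, 1, 1, -1, -3, -1, 1, -1, 1, -1, -3, 1],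
    [-1, 1, -3, 3, 1, -3, 1, -1, 1, -1, -1, 1, -3, -1, -3, 1, -1, 1, -1, -1, -1, -1, -1, 1],
    [-1, -1, -3, 3, -1, -3, 1, -1, 1, 1, 1, 1, 3, -1, 3, 1, -1, 1, -1, 1, 1, -1, -1, 1],
    [0, 0, -2, 4, 2, 4, 0, 2, 0, 0, 0, 0, -2, 0, -2, 0, 2, 0, 0, 0, -2, 0, 2, 0],
    [0, 0, 0, 0, 0, 2, 0, 4, 0, 0, 4, 0, 0, 2, 2, 0, 0, -2, 2, 0, -2, -2, 0, -2],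
    [0, 0, 0, 0, 0, 2, 0, 4, 0, 0, 4, 0, 0, -2, -2, 0, 0, -2, -2, 0, -2, 2, 0, -2],
    [0, 0, 0, 0, 4, -4, 0, 0, 0, 0, 0, 0, 4, 0, 0, 0, 0, 0, 0, 0, 0, -4, 0, 0],
    [0, 0, 0, 0, 0, 0, 0, 0, 0, 0, 0, 0, 0, -4, 0, 0, 0, 0, -4, 0, 4, 4, 0, 0],
    [0, 0, 0, 0, 0, 0, 0, 0, 0, 0, 0, 0, 0, -4, 0, 0, 0, 0, 4, 0, 4, 4, 0, 0],
    [0, 0, 0, 0, 0, 0, 0, 0, 0, 0, 0, 0, 0, 8, 0, 0, 0, 0, 0, 0, 0, 0, 0, 0]],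
  [[-1, -3, -1, -1, 1, 1, 3, -1, -1, -1, 1, -1, 1, 1, 1, -1, 1, -1, 1, -1, -3, -1, -3, -3],
    [-1, 1, -3, -1, 1, 1, 1, -1, -3, -1, -1, -3, 1, -1, 1, 1, -1, -3, 3, -1, -1, -1, -1, 1],
    [-1, -1, -3, -1, -1, 1, 1, -1, -3, 1, 1, -3, -1, -1, -1, 1, -1, -3, 3, 1, 1, -1, -1, 1],
    [2, 2, 0, 2, 0, -2, -2, 0, 2, -2, -2, 2, 0, 2, 0, -2, 0, 2, -2, -2, 0, 2, 0, -2],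
    [2, -2, -2, 2, 2, 0, -2, -2, 2, -2, 2, 2, -2, 0, 0, 2, -2, 0, 0, -2, 0, 0, 2, 0],
    [2, -2, -2, -2, -2, 0, -2, -2, 2, 2, 2, -2, -2, 0, 0, -2, 2, 0, 0, 2, 0, 0, -2, 0],
    [4, 0, 0, 0, 0, 0, 0, 0, 0, -4, -4, 0, 0, 0, 0, 4, 0, 0, 0, 0, 0, 0, 0, 0],
    [0, 0, 0, 0, 0, 4, 0, 0, 0, 0, 0, 0, 0, 0, -4, 0, 0, 4, 0, 0, 0, 0, 0, -4],
    [0, 0, 0, 0, 0, 4, 0, 0, 0, 0, 0, 0, 0, 0, -4, 0, 0, 4, 0, 0, 0, 0, 0, 4],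
    [0, 0, 0, 0, 0, 0, 0, 0, 0, 0, 0, 0, 0, 0, 8, 0, 0, 0, 0, 0, 0, 0, 0, 0]],
  [[1, 3, 1, 1, -1, -1, 1, 1, -3, 1, -1, 1, -1, 3, 3, 1, 3, 1, -1, 1, -1, 1, -1, -1],
    [1, 3, -1, 1, -1, 3, -1, 1, -1, 1, 1, 3, -1, 1, -1, 3, 1, -1, 1, 1, -3, 1, 1, -1],
    [1, -3, -1, 1, 1, 3, -1, 1, -1, -1, -1, 3, 1, 1, 1, 3, 1, -1, 1, -1, 3, 1, 1, -1],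
    [2, -2, 0, 2, 0, -2, 2, 0, 2, 2, 2, -2, 0, 2, 0, -2, 0, 2, 2, 2, 0, 2, 0, 2],
    [2, 2, 2, 2, -2, 0, 2, -2, 2, -2, 2, -2, 2, 0, 0, 2, 2, 0, 0, 2, 0, 0, 2, 0],
    [2, 2, 2, -2, 2, 0, 2, -2, 2, 2, 2, 2, 2, 0, 0, -2, -2, 0, 0, -2, 0, 0, -2, 0],
    [0, 0, 0, -4, 0, 0, 0, 4, -4, 0, 0, 0, 0, 0, 0, 0, 0, 0, 0, 0, 0, 0, 4, 0],
    [0, 0, 0, 0, 0, 0, 0, 0, -4, 0, 0, 0, 0, 0, 0, 4, 4, 0, 0, -4, 0, 0, 0, 0],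
    [0, 0, 0, 0, 0, 0, 0, 0, 4, 0, 0, 0, 0, 0, 0, -4, 4, 0, 0, 4, 0, 0, 0, 0],
    [0, 0, 0, 0, 0, 0, 0, 0, 0, 0, 0, 0, 0, 0, 0, 8, 0, 0, 0, 0, 0, 0, 0, 0]],
  [[-1, 1, -1, -1, -3, 1, 3, -1, -1, -1, 1, -1, 1, 1, -3, 3, 1, 3, 1, -1, 1, -1, 1, 1],
    [-1, -3, 1, -1, 1, 1, 1, -1, 1, -1, -1, 1, 1, -1, -3, 1, 3, 1, 3, -1, -1, -1, 3, 1],
    [-1, 3, 1, -1, -1, 1, 1, -1, 1, 1, 1, 1, -1, -1, 3, 1, 3, 1, 3, 1, 1, -1, 3, 1],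
    [-2, 2, 0, -2, 0, 2, 2, 0, 2, 2, -2, 2, 0, 2, 0, 2, 0, 2, -2, 2, 0, 2, 0, 2],
    [2, 2, 2, 2, 2, 0, -2, 2, 2, 2, -2, 2, -2, 0, 0, 2, 2, 0, 0, 2, 0, 0, -2, 0],
    [2, 2, 2, -2, -2, 0, -2, 2, 2, -2, -2, -2, -2, 0, 0, -2, -2, 0, 0, -2, 0, 0, 2, 0],
    [0, 0, 0, -4, 0, 0, 0, -4, -4, 0, 0, 0, 0, 0, 0, 0, 0, 0, 0, 0, 0, 0, -4, 0],
    [0, 0, 0, 0, 0, 0, 0, 0, -4, 0, 0, 0, 0, 0, 0, -4, -4, 0, 0, -4, 0, 0, 0, 0],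
    [0, 0, 0, 0, 0, 0, 0, 0, 4, 0, 0, 0, 0, 0, 0, 4, -4, 0, 0, 4, 0, 0, 0, 0],
    [0, 0, 0, 0, 0, 0, 0, 0, 0, 0, 0, 0, 0, 0, 0, 0, 8, 0, 0, 0, 0, 0, 0, 0]],
  [[-1, -3, -1, -1, 1, 1, -1, 3, -1, -1, 1, -1, -3, 1, 1, -1, 1, 3, 1, -1, 1, 3, 1, 1],
    [-1, 1, 1, 3, 1, 1, 1, -1, 1, -1, -1, -3, 1, 3, 1, 1, 3, 1, -1, -1, -1, -1, -1, -3],
    [-1, -1, 1, 3, -1, 1, 1, -1, 1, 1, 1, -3, -1, 3, -1, 1, 3, 1, -1, 1, 1, -1, -1, -3],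
    [-2, -2, 0, 2, 0, -2, -2, 0, 2, -2, -2, 2, 0, -2, 0, 2, 0, -2, 2, 2, 0, 2, 0, 2],
    [2, -2, -2, 2, 2, 0, 2, -2, -2, 2, 2, -2, -2, 0, 0, -2, 2, 0, 0, 2, 0, 0, -2, 0],
    [2, -2, -2, -2, -2, 0, 2, -2, -2, -2, 2, 2, -2, 0, 0, 2, -2, 0, 0, -2, 0, 0, 2, 0],
    [4, 0, 0, 0, 0, 0, 0, 0, 0, 4, -4, 0, 0, 0, 0, -4, 0, 0, 0, 0, 0, 0, 0, 0],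
    [0, 0, 0, 0, 0, 4, 0, 0, 0, 0, 0, 0, 0, 0, 4, 0, 0, -4, 0, 0, 0, 0, 0, -4],
    [0, 0, 0, 0, 0, 4, 0, 0, 0, 0, 0, 0, 0, 0, 4, 0, 0, -4, 0, 0, 0, 0, 0, 4],
    [0, 0, 0, 0, 0, 0, 0, 0, 0, 0, 0, 0, 0, 0, 0, 0, 0, 8, 0, 0, 0, 0, 0, 0]],
  [[1, -1, -3, 1, -1, -1, 1, 1, 1, 1, 3, 1, 3, -1, 3, 1, -1, 1, -1, 1, 3, 1, -1, -1],
    [-3, 3, -1, 1, -1, -1, -1, 1, -1, 1, 1, -1, 3, 1, -1, -1, 1, 3, 1, 1, 1, 1, 1, 3],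
    [-3, -3, -1, 1, 1, -1, -1, 1, -1, -1, -1, -1, -3, 1, 1, -1, 1, 3, 1, -1, -1, 1, 1, 3],
    [0, 0, 2, 4, -2, 4, 0, -2, 0, 0, 0, 0, 2, 0, 2, 0, -2, 0, 0, 0, 2, 0, -2, 0],
    [0, 0, 0, 0, 0, -2, 0, 4, 0, 0, 4, 0, 0, -2, -2, 0, 0, 2, -2, 0, 2, 2, 0, 2],
    [0, 0, 0, 0, 0, -2, 0, 4, 0, 0, 4, 0, 0, 2, 2, 0, 0, 2, 2, 0, 2, -2, 0, 2],
    [0, 0, 0, 0, 4, 4, 0, 0, 0, 0, 0, 0, 4, 0, 0, 0, 0, 0, 0, 0, 0, 4, 0, 0],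
    [0, 0, 0, 0, 0, 0, 0, 0, 0, 0, 0, 0, 0, 4, 0, 0, 0, 0, 4, 0, 4, 4, 0, 0],
    [0, 0, 0, 0, 0, 0, 0, 0, 0, 0, 0, 0, 0, 4, 0, 0, 0, 0, -4, 0, 4, 4, 0, 0],
    [0, 0, 0, 0, 0, 0, 0, 0, 0, 0, 0, 0, 0, 0, 0, 0, 0, 0, 8, 0, 0, 0, 0, 0]],
  [[-1, 1, 3, -1, 1, 1, -1, -1, -1, -1, 1, -1, 1, 1, 1, 3, -3, -1, 1, -1, 1, 3, 1, -3],
    [3, 1, 1, -1, 1, -3, 1, -1, -3, -1, -1, 1, 1, 3, 1, 1, -1, 1, -1, -1, -1, -1, 3, 1],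
    [3, -1, 1, -1, -1, -3, 1, -1, -3, 1, 1, 1, -1, 3, -1, 1, -1, 1, -1, 1, 1, -1, 3, 1],
    [2, -2, 0, -2, 0, 2, 2, 0, 2, 2, -2, 2, 0, -2, 0, -2, 0, -2, 2, -2, 0, 2, 0, -2],
    [2, 2, 2, 2, 2, 0, 2, 2, -2, -2, -2, -2, -2, 0, 0, -2, -2, 0, 0, -2, 0, 0, 2, 0],
    [2, 2, 2, -2, -2, 0, 2, 2, -2, 2, -2, 2, -2, 0, 0, 2, 2, 0, 0, 2, 0, 0, -2, 0],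
    [0, 0, 0, -4, 0, 0, 0, -4, 4, 0, 0, 0, 0, 0, 0, 0, 0, 0, 0, 0, 0, 0, 4, 0],
    [0, 0, 0, 0, 0, 0, 0, 0, -4, 0, 0, 0, 0, 0, 0, -4, 4, 0, 0, 4, 0, 0, 0, 0],
    [0, 0, 0, 0, 0, 0, 0, 0, 4, 0, 0, 0, 0, 0, 0, 4, 4, 0, 0, -4, 0, 0, 0, 0],
    [0, 0, 0, 0, 0, 0, 0, 0, 0, 0, 0, 0, 0, 0, 0, 0, 0, 0, 0, 8, 0, 0, 0, 0]],
  [[-1, -3, -1, 3, 1, 1, -1, -1, -1, -1, -3, 3, 1, 1, 1, 3, 1, -1, 1, -1, 1, -1, 1, 1],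
    [-1, 1, 1, -1, 1, 1, 1, 3, 1, -1, 3, -3, -3, -1, 1, 1, -1, 1, -1, -1, -1, -1, 3, 1],
    [-1, -1, 1, -1, -1, 1, 1, 3, 1, 1, -3, -3, 3, -1, -1, 1, -1, 1, -1, 1, 1, -1, 3, 1],
    [0, 0, 2, 0, 2, 0, 0, -2, 0, 0, 4, 4, -2, 0, 2, 0, 2, 0, 0, 0, -2, 0, -2, 0],
    [0, 0, 0, 0, 4, 2, 0, 0, 0, 0, 0, 0, 4, -2, 2, 0, 0, -2, -2, 0, 2, 2, 0, -2],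
    [0, 0, 0, 0, -4, 2, 0, 0, 0, 0, 0, 0, 4, 2, -2, 0, 0, -2, 2, 0, 2, -2, 0, -2],
    [0, 0, 0, 0, 4, -4, 0, 0, 0, 0, 0, 0, -4, 0, 0, 0, 0, 0, 0, 0, 0, 4, 0, 0],
    [0, 0, 0, 0, 0, 0, 0, 0, 0, 0, 0, 0, 0, 4, 0, 0, 0, 0, -4, 0, -4, 4, 0, 0],
    [0, 0, 0, 0, 0, 0, 0, 0, 0, 0, 0, 0, 0, 4, 0, 0, 0, 0, 4, 0, -4, 4, 0, 0],
    [0, 0, 0, 0, 0, 0, 0, 0, 0, 0, 0, 0, 0, 0, 0, 0, 0, 0, 0, 0, 8, 0, 0, 0]],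
  [[3, 1, -1, -1, 1, 5, -1, -1, -1, -1, 1, -1, 1, 1, 1, -1, 1, -1, -3, -1, 1, -1, 1, 1],
    [-1, 1, 1, -1, 5, 1, -3, -1, 1, 3, -1, 1, 1, -1, 1, 1, -1, 1, -1, -1, -1, -1, -1, 1],
    [-1, -1, 1, -1, -5, 1, -3, -1, 1, -3, 1, 1, -1, -1, -1, 1, -1, 1, -1, 1, 1, -1, -1, 1],
    [0, 0, 2, 0, 2, 0, 0, -2, 0, 0, -4, -4, -2, 0, 2, 0, 2, 0, 0, 0, -2, 0, -2, 0],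
    [0, 0, 0, 0, -4, 2, 0, 0, 0, 0, 0, 0, -4, -2, 2, 0, 0, -2, -2, 0, 2, 2, 0, -2],
    [0, 0, 0, 0, 4, 2, 0, 0, 0, 0, 0, 0, -4, 2, -2, 0, 0, -2, 2, 0, 2, -2, 0, -2],
    [0, 0, 0, 0, -4, -4, 0, 0, 0, 0, 0, 0, 4, 0, 0, 0, 0, 0, 0, 0, 0, 4, 0, 0],
    [0, 0, 0, 0, 0, 0, 0, 0, 0, 0, 0, 0, 0, 4, 0, 0, 0, 0, -4, 0, 4, -4, 0, 0],
    [0, 0, 0, 0, 0, 0, 0, 0, 0, 0, 0, 0, 0, 4, 0, 0, 0, 0, 4, 0, 4, -4, 0, 0],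
    [0, 0, 0, 0, 0, 0, 0, 0, 0, 0, 0, 0, 0, 0, 0, 0, 0, 0, 0, 0, 0, 8, 0, 0]],
  [[-1, 1, -1, -1, 1, 1, 3, -1, -1, -1, -3, -1, 1, -3, 1, -1, 1, -1, 1, 3, 1, 3, 1, 1],
    [-1, 1, 1, -1, 1, 1, 1, -1, 1, -1, -1, 1, -3, 3, 1, -3, -1, 1, 3, 3, -1, -1, -1, 1],
    [-1, -1, 1, -1, -1, 1, 1, -1, 1, 1, 1, 1, 3, 3, -1, -3, -1, 1, 3, -3, 1, -1, -1, 1],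
    [0, 0, 2, 0, 2, 0, 0, 2, -4, 0, 0, 0, -2, 0, 2, 0, -2, 0, 0, 0, 2, 4, 2, 0],
    [-4, 0, 0, 4, 0, -2, 0, 0, 0, 0, 0, 0, 0, 2, 2, 0, 0, -2, 2, 0, 2, 2, 0, 2],
    [-4, 0, 0, -4, 0, -2, 0, 0, 0, 0, 0, 0, 0, -2, -2, 0, 0, -2, -2, 0, 2, -2, 0, 2],
    [0, 4, 4, 0, 0, 0, 0, 0, 0, 0, 0, 0, 0, 0, 0, 0, 0, 0, 0, 0, -4, 0, 0, -4],
    [0, 0, 0, 0, 0, 0, -4, 0, 0, 4, 0, -4, 0, 0, 0, 0, 0, 0, 0, 0, 0, 0, 4, 0],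
    [0, 0, 0, 0, 0, 0, 4, 0, 0, 4, 0, 4, 0, 0, 0, 0, 0, 0, 0, 0, 0, 0, -4, 0],
    [0, 0, 0, 0, 0, 0, 0, 0, 0, 0, 0, 0, 0, 0, 0, 0, 0, 0, 0, 0, 0, 0, 8, 0]],
  [[1, -1, 1, 1, -1, -1, 1, 1, -3, 1, -1, 1, 3, -1, -1, -3, -1, 1, -1, -3, -1, 1, 3, -1],
    [1, -1, 3, 1, -1, -1, -1, 1, -1, 1, 1, -1, -1, 1, -1, -1, 1, -1, 1, -3, -3, 1, -3, 3],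
    [1, 1, 3, 1, 1, -1, -1, 1, -1, -1, -1, -1, 1, 1, 1, -1, 1, -1, 1, 3, 3, 1, -3, 3],
    [-2, -2, 0, -2, 0, 2, -2, 0, 2, -2, 2, -2, 0, 2, 0, 2, 0, 2, 2, -2, 0, 2, 0, -2],
    [2, -2, -2, 2, -2, 0, 2, 2, 2, 2, -2, -2, 2, 0, 0, 2, -2, 0, 0, -2, 0, 0, -2, 0],
    [2, -2, -2, -2, 2, 0, 2, 2, 2, -2, -2, 2, 2, 0, 0, -2, 2, 0, 0, 2, 0, 0, 2, 0],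
    [4, 0, 0, 0, 0, 0, 0, 0, 0, 4, 4, 0, 0, 0, 0, 4, 0, 0, 0, 0, 0, 0, 0, 0],
    [0, 0, 0, 0, 0, 4, 0, 0, 0, 0, 0, 0, 0, 0, 4, 0, 0, 4, 0, 0, 0, 0, 0, 4],
    [0, 0, 0, 0, 0, 4, 0, 0, 0, 0, 0, 0, 0, 0, 4, 0, 0, 4, 0, 0, 0, 0, 0, -4],
    [0, 0, 0, 0, 0, 0, 0, 0, 0, 0, 0, 0, 0, 0, 0, 0, 0, 0, 0, 0, 0, 0, 0, 8]]]

/-- a word -/
def uW : List LOp :=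
  [.plO [9, 11, 0, 10, 14, 4, 18, 3, 20, 21, 12, 7, 23, 15, 1, 22, 5, 16, 6, 19, 17, 13, 2, 8], .sgO 1594898, .xiO, .plO [22, 11, 20, 10, 14, 7, 2, 13, 0, 1, 12, 4, 17, 15, 21, 9, 5, 8, 6, 19, 23, 3, 18, 16], .sgO 7203352, .xiO, .plO [5, 9, 22, 8, 21, 18, 12, 15, 19, 14, 23, 10, 20, 4, 1, 17, 2, 7, 0, 3, 6, 13, 16, 11], .sgO 13409620, .xiO, .sgO 849075, .xiO, .sgO 13409620, .plO [18, 14, 16, 19, 13, 0, 20, 17, 3, 1, 11, 23, 6, 21, 9, 7, 22, 15, 5, 8, 12, 4, 2, 10], .xiO, .sgO 7203352, .plO [8, 9, 6, 21, 11, 16, 18, 5, 17, 15, 3, 1, 10, 7, 4, 13, 23, 12, 22, 19, 2, 14, 0, 20], .xiO, .sgO 1594898, .plO [2, 14, 22, 7, 5, 16, 18, 11, 23, 0, 3, 1, 10, 21, 4, 13, 17, 20, 6,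 19, 8, 9, 15, 12]]

/-- traces of the unit vectors -/
def uWTr : List (List (List ℤ)) :=
  [
  [[5, 1, 1, 1, 1, 3, -1, 1, -1, -1, 1, -1, 1, -1, -1, -1, -1, -1, 3, -1, -1, -1, -1, -1],
    [1, -1, -1, 1, 3, -1, 3, -1, -1, 5, 1, 1, 1, -1, 1, -1, -1, -1, -1, -1, -1, -1, -1, 1],
    [1, 1, -1, 1, -3, -1, 3, -1, -1, -5, -1, 1, -1, -1, -1, -1, -1, -1, -1, 1, 1, -1, -1, 1],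
    [0, 0, -2, 0, 0, 0, -4, -2, 0, 4, -2, -2, -2, 0, 0, 0, 0, 0, 0, -2, -2, 0, 0, -2],
    [0, 4, -4, 0, -2, 0, 0, 0, 0, 0, 0, 0, -2, -2, 0, 0, -2, -2, 0, -2, -2, 0, 0, -2],
    [0, 4, -4, 0, 2, 0, 0, 0, 0, 0, 0, 0, -2, 2, 0, 0, 2, -2, 0, 2, -2, 0, 0, -2],
    [0, 4, -4, 0, -2, -2, 0, 0, 2, 0, 0, 0, 2, -2, -2, 2, 0, 0, 0, 0, 2, 0, 0, 0],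
    [0, -2, 0, 0, -2, 0, 2, 0, 0, 4, 0, 0, 0, 0, 0, 0, 0, 2, -2, 2, 2, -2, -4, 0],
    [0, -2, 0, 0, 2, 0, -2, 0, 0, 4, 0, 0, 0, 0, 0, 0, 0, 2, 2, -2, 2, -2, 4, 0],
    [1, -1, 1, 1, -1, 1, 5, 1, -1, -1, 1, 3, 1, 1, 1, -1, -1, -1, -1, 1, -1, 3, -1, 1],
    [-1, 1, 1, 1, 1, -1, 5, -1, -1, -1, -1, 3, -1, -1, -1, 1, -1, -1, 1, -1, -1, 3, -1, 1],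
    [-2, 0, 0, 0, -2, 0, -2, 0, 0, 4, 0, 0, 0, 2, 0, -2, 0, 0, 0, 0, 2, -2, 4, -2],
    [-2, 0, 0, 0, 2, 0, 2, 0, 0, 4, 0, 0, 0, 2, 0, 2, 0, 0, 0, 0, 2, -2, -4, 2],
    [0, 4, -4, 0, -2, 0, 0, 2, 0, 0, 2, 0, 2, 2, 0, 0, 0, 0, -2, 0, 2, 2, 0, 0],
    [0, 4, -4, 0, 4, 0, 0, 0, 0, 0, 0, 0, 0, 0, 0, 0, 0, 0, 4, 0, 0, 0, 0, 0],
    [0, 4, -4, 0, -4, 0, 0, 0, 0, 0, 0, 0, 0, 0, 0, 0, 0, 0, -4, 0, 0, 0, 0, 0],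
    [0, 0, 0, 0, 0, 0, -4, 0, 0, 4, 0, -4, 0, 0, 0, 0, 0, 0, 0, 0, 0, 0, -4, 0],
    [0, 0, 0, 0, 0, 0, 0, 0, 0, -8, 0, 0, 0, 0, 0, 0, 0, 0, 0, 0, 0, 0, 0, 0],
    [0, 0, 0, 0, 0, 0, 0, 0, 0, 8, 0, 0, 0, 0, 0, 0, 0, 0, 0, 0, 0, 0, 0, 0],
    [8, 0, 0, 0, 0, 0, 0, 0, 0, 0, 0, 0, 0, 0, 0, 0, 0, 0, 0, 0, 0, 0, 0, 0]],
  [[1, 1, -3, -3, 1, -1, 3, -3, 3, -1, 1, -1, 1, -1, -1, -1, -1, -1, -1, -1, -1, -1, -1, -1],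
    [-3, -1, -1, -3, -1, -1, -1, -1, -1, 1, -3, 1, 1, -1, 1, -1, -1, -1, 3, -1, 3, -1, -1, 1],
    [-3, 1, -1, -3, 1, -1, -1, -1, -1, -1, 3, 1, -1, -1, -1, -1, -1, -1, 3, 1, -3, -1, -1, 1],
    [0, 4, 2, 0, 0, 0, 0, 2, 0, 0, -2, -2, 2, 0, 0, 0, 0, 0, -4, -2, 2, 0, 0, -2],
    [0, 0, 0, 0, -2, 0, -4, 0, 0, 0, 0, 4, -2, 2, 0, 0, -2, 2, 0, -2, 2, 0, 0, 2],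
    [0, 0, 0, 0, 2, 0, -4, 0, 0, 0, 0, -4, -2, -2, 0, 0, 2, 2, 0, 2, 2, 0, 0, 2],
    [0, 0, 0, 0, -2, 2, 0, 0, 2, -4, 0, 0, 2, 2, 2, 2, 0, 0, 0, 0, -2, 0, -4, 0],
    [0, 2, 0, 0, 2, 0, -2, 0, 0, 0, 0, 0, 0, 0, -4, 0, -4, 2, 2, 2, 2, -2, 0, 0],
    [0, 2, 0, 0, -2, 0, 2, 0, 0, 0, 0, 0, 0, 0, -4, 0, -4, 2, -2, -2, 2, -2, 0, 0],
    [-1, 1, -1, -1, 1, -1, -1, -1, -3, 1, -1, 1, -1, -1, 3, -3, 1, -3, 1, -1, -3, 1, 1, -1],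
    [1, -1, -1, -1, -1, 1, -1, 1, -3, 1, 1, 1, 1, 1, -3, 3, 1, -3, -1, 1, -3, 1, 1, -1],
    [2, 0, 0, 0, 2, -4, 2, 0, 4, 0, 0, 0, 0, -2, 0, -2, 0, 0, 0, 0, 2, -2, 0, -2],
    [2, 0, 0, 0, -2, -4, -2, 0, -4, 0, 0, 0, 0, -2, 0, 2, 0, 0, 0, 0, 2, -2, 0, 2],
    [-4, 0, 0, -4, -2, 0, 0, 2, 0, 0, 2, 0, 2, -2, 0, 0, 0, 0, 2, 0, -2, -2, 0, 0],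
    [0, 4, 4, 0, 4, 0, 0, 0, 0, 0, 0, 0, 0, 0, 0, 0, 0, 0, -4, 0, 0, 0, 0, 0],
    [0, 4, 4, 0, -4, 0, 0, 0, 0, 0, 0, 0, 0, 0, 0, 0, 0, 0, 4, 0, 0, 0, 0, 0],
    [0, 0, 0, 0, 0, 0, 4, 0, 0, 4, 0, -4, 0, 0, 0, 0, 0, 0, 0, 0, 0, 0, 4, 0],
    [0, 0, 0, 0, 0, 0, 0, 0, 0, 0, 0, 8, 0, 0, 0, 0, 0, 0, 0, 0, 0, 0, 0, 0],
    [0, 0, 0, 0, 0, 0, 0, 0, 0, 0, 0, 8, 0, 0, 0, 0, 0, 0, 0, 0, 0, 0, 0, 0],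
    [0, 8, 0, 0, 0, 0, 0, 0, 0, 0, 0, 0, 0, 0, 0, 0, 0, 0, 0, 0, 0, 0, 0, 0]],
  [[1, -3, -3, 1, -3, -1, -1, 1, -1, 3, 1, -1, 1, -1, -1, -1, -1, -1, -1, 3, -1, -1, -1, -1],
    [-3, -1, -1, 1, -1, -1, -1, -1, -1, 1, 1, -3, 1, -1, -3, -1, -1, -1, -1, 3, -1, 3, -1, 1],
    [-3, 1, -1, 1, 1, -1, -1, -1, -1, -1, -1, -3, -1, -1, 3, -1, -1, -1, -1, -3, 1, 3, -1, 1],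
    [-2, 2, 0, 2, -2, 2, -2, 0, -2, -2, 0, 0, 0, 2, -2, -2, -2, 2, 2, 0, 0, -2, -2, 0],
    [-2, -2, -2, -2, 0, -2, 2, 2, 2, -2, 2, 2, 0, 0, -2, 2, 0, 0, -2, 0, 0, -2, -2, 0],
    [-2, -2, -2, 2, 0, -2, 2, 2, 2, 2, 2, -2, 0, 0, 2, -2, 0, 0, 2, 0, 0, 2, 2, 0],
    [0, 0, 0, 4, 2, 2, 0, 0, -2, 0, 0, 4, 2, 2, -2, 2, 0, 0, 0, 0, 2, 0, 0, 0],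
    [0, -2, 0, 0, 2, 0, 2, 0, 4, 0, 4, 0, 0, 0, 0, 0, 0, 2, 2, -2, 2, 2, 0, 0],
    [0, -2, 0, 0, -2, 0, -2, 0, -4, 0, -4, 0, 0, 0, 0, 0, 0, 2, -2, 2, 2, 2, 0, 0],
    [1, -1, 1, 1, -1, 1, 1, -3, 3, -1, 1, -1, -3, 1, 1, -1, -1, -1, 3, -3, -1, -1, -1, 1],
    [-1, 1, 1, 1, 1, -1, 1, 3, 3, -1, -1, -1, 3, -1, -1, 1, -1, -1, -3, 3, -1, -1, -1, 1],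
    [-2, 0, 0, 0, 2, 0, -2, 0, 0, 0, 4, 0, 0, -2, 0, 2, 4, 0, 0, 0, -2, -2, 0, -2],
    [-2, 0, 0, 0, -2, 0, 2, 0, 0, 0, -4, 0, 0, -2, 0, -2, 4, 0, 0, 0, -2, -2, 0, 2],
    [0, 0, 0, 0, -2, 0, 0, -2, 0, 0, 2, -4, -2, -2, 0, 0, 0, 0, -2, 0, 2, -2, 4, 0],
    [0, 0, 0, 0, 0, 0, 0, 0, 0, 0, -4, 4, 0, 0, 0, 0, 0, 0, 0, 0, -4, 0, -4, 0],
    [0, 0, 0, 0, 0, 0, 0, 0, 0, 0, -4, -4, 0, 0, 0, 0, 0, 0, 0, 0, -4, 0, 4, 0],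
    [4, -4, -4, -4, 0, 0, 0, 0, 0, 0, 0, 0, 0, 0, 0, 0, 0, 0, 0, 0, 0, 0, 0, 0],
    [8, 0, 0, 0, 0, 0, 0, 0, 0, 0, 0, 0, 0, 0, 0, 0, 0, 0, 0, 0, 0, 0, 0, 0],
    [8, 0, 0, 0, 0, 0, 0, 0, 0, 0, 0, 0, 0, 0, 0, 0, 0, 0, 0, 0, 0, 0, 0, 0],
    [0, 0, 8, 0, 0, 0, 0, 0, 0, 0, 0, 0, 0, 0, 0, 0, 0, 0, 0, 0, 0, 0, 0, 0]],
  [[1, -3, 1, -3, 1, -1, -1, 1, -1, -1, -3, 3, 1, -1, -1, 3, -1, -1, -1, -1, -1, -1, -1, -1],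
    [1, -1, -1, 1, -1, -1, -1, 3, -1, 1, -3, -3, -3, -1, 1, -1, -1, -1, -1, -1, -1, -1, 3, 1],
    [1, 1, -1, 1, 1, -1, -1, 3, -1, -1, 3, -3, 3, -1, -1, -1, -1, -1, -1, 1, 1, -1, 3, 1],
    [0, 0, -2, 0, 4, 0, 0, 2, 0, 0, 2, 2, 2, 0, 0, 0, 0, 0, 0, -2, -2, 0, -4, -2],
    [0, 0, 0, 0, 2, 0, 0, 0, 0, 0, 0, 0, 2, 2, 4, 0, -2, 2, -4, -2, -2, 0, 0, -2],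
    [0, 0, 0, 0, -2, 0, 0, 0, 0, 0, 0, 0, 2, -2, -4, 0, 2, 2, 4, 2, -2, 0, 0, -2],
    [0, 0, 0, 0, 2, -2, 0, 0, 2, 0, 0, 0, -2, 2, 2, 2, 0, -4, -4, 0, 2, 0, 0, 0],
    [-4, 2, 0, 0, 2, 0, 2, -4, 0, 0, 0, 0, 0, 0, 0, 0, 0, 2, -2, 2, -2, 2, 0, 0],
    [-4, 2, 0, 0, -2, 0, -2, -4, 0, 0, 0, 0, 0, 0, 0, 0, 0, 2, 2, -2, -2, 2, 0, 0],
    [-3, 3, 1, 1, -1, 1, 1, 1, -1, -1, -3, -1, -3, 1, 1, -1, -1, -1, -1, 1, 3, -1, -1, 1],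
    [3, -3, 1, 1, 1, -1, 1, -1, -1, -1, 3, -1, 3, -1, -1, 1, -1, -1, 1, -1, 3, -1, -1, 1],
    [2, -4, 0, 0, 2, 0, -2, 4, 0, 0, 0, 0, 0, 2, 0, -2, 0, 0, 0, 0, -2, 2, 0, -2],
    [2, -4, 0, 0, -2, 0, 2, 4, 0, 0, 0, 0, 0, 2, 0, 2, 0, 0, 0, 0, -2, 2, 0, 2],
    [0, 0, 0, 0, 2, 0, 0, 2, 0, 0, 2, 0, -2, -2, -4, 0, 0, 4, 2, 0, 2, 2, 0, 0],
    [0, 0, 0, 0, 0, 0, 0, 0, 0, 0, 0, 0, 4, 4, 4, 0, 0, -4, 0, 0, 0, 0, 0, 0],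
    [0, 0, 0, 0, 0, 0, 0, 0, 0, 0, 0, 0, 4, -4, -4, 0, 0, -4, 0, 0, 0, 0, 0, 0],
    [0, 0, 0, 0, -4, 0, 0, -4, 0, 0, 4, 0, -4, 0, 0, 0, 0, 0, 0, 0, 0, 0, 0, 0],
    [0, 0, 0, 0, 0, 0, 0, 0, 0, 0, -8, 0, 0, 0, 0, 0, 0, 0, 0, 0, 0, 0, 0, 0],
    [0, 0, 0, 0, 0, 0, 0, 0, 0, 0, 8, 0, 0, 0, 0, 0, 0, 0, 0, 0, 0, 0, 0, 0],
    [0, 0, 0, 8, 0, 0, 0, 0, 0, 0, 0, 0, 0, 0, 0, 0, 0, 0, 0, 0, 0, 0, 0, 0]],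
  [[1, 1, -3, 1, 1, -1, -1, 1, -1, -1, -3, -1, -3, -1, 3, -1, -1, -1, -1, -1, 3, -1, -1, -1],
    [-3, 3, -1, 1, -1, -1, -1, -1, -1, 1, 1, 1, -3, -1, 1, -1, -1, 3, -1, -1, -1, -1, -1, -3],
    [-3, -3, -1, 1, 1, -1, -1, -1, -1, -1, -1, 1, 3, -1, -1, -1, -1, 3, -1, 1, 1, -1, -1, -3],
    [0, 0, 2, 4, 0, 0, 0, 2, 0, 0, 2, -2, -2, 0, 0, 0, 0, -4, 0, -2, -2, 0, 0, 2],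
    [0, 0, 0, 0, -2, 0, 0, 0, -4, 0, 4, 0, 2, 2, 0, 0, 2, -2, 0, -2, 2, 0, 0, -2],
    [0, 0, 0, 0, 2, 0, 0, 0, -4, 0, 4, 0, 2, -2, 0, 0, -2, -2, 0, 2, 2, 0, 0, -2],
    [0, 0, 0, 0, 2, -2, 0, 4, 2, 0, 0, 0, 2, 2, -2, -2, 0, 0, 0, -4, -2, 0, 0, 0],
    [0, -2, 0, -4, 2, 0, -2, 0, 0, 0, 0, 0, 0, 0, 0, 4, 0, -2, -2, 2, 2, 2, 0, 0],
    [0, -2, 0, -4, -2, 0, 2, 0, 0, 0, 0, 0, 0, 0, 0, -4, 0, -2, 2, -2, 2, 2, 0, 0],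
    [3, 1, 3, -1, 1, -1, -1, -1, -3, 1, -1, 1, -1, 3, -1, 1, -3, 1, 1, -1, 1, 1, 1, -1],
    [-3, -1, 3, -1, -1, 1, -1, 1, -3, 1, 1, 1, 1, -3, 1, -1, -3, 1, -1, 1, 1, 1, 1, -1],
    [-2, 0, 4, 0, 2, 0, 2, 0, 0, 0, 0, 0, 0, 2, 0, -2, 0, 0, 0, -4, -2, -2, 0, 2],
    [-2, 0, -4, 0, -2, 0, -2, 0, 0, 0, 0, 0, 0, 2, 0, 2, 0, 0, 0, 4, -2, -2, 0, -2],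
    [0, 0, 0, 0, -2, 0, 0, 2, 4, 0, -2, 0, -2, -2, 0, 0, -4, 0, -2, 0, -2, 2, 0, 0],
    [0, 0, 0, 0, 0, 0, 0, -4, -4, 0, 0, 0, 0, 0, 0, 0, 4, 0, 0, 0, 0, -4, 0, 0],
    [0, 0, 0, 0, 0, 0, 0, -4, -4, 0, 0, 0, 0, 0, 0, 0, -4, 0, 0, 0, 0, 4, 0, 0],
    [0, 0, 0, 0, 0, -4, 0, 0, 0, 0, 0, 0, 0, 0, 4, 0, 0, -4, 0, 0, 0, 0, 0, -4],
    [0, 0, 0, 0, 0, 0, 0, 0, 0, 0, 0, 0, 0, 0, -8, 0, 0, 0, 0, 0, 0, 0, 0, 0],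
    [0, 0, 0, 0, 0, 0, 0, 0, 0, 0, 0, 0, 0, 0, 8, 0, 0, 0, 0, 0, 0, 0, 0, 0],
    [0, 0, 0, 0, 8, 0, 0, 0, 0, 0, 0, 0, 0, 0, 0, 0, 0, 0, 0, 0, 0, 0, 0, 0]],
  [[3, -1, -1, -1, -1, 5, 1, -1, 1, 1, -1, 1, -1, 1, 1, 1, 1, 1, -3, 1, 1, 1, 1, 1],
    [-1, 1, 1, -1, 5, 1, -3, 1, 1, 3, -1, -1, -1, 1, -1, 1, 1, 1, 1, 1, 1, 1, 1, -1],
    [-1, -1, 1, -1, -5, 1, -3, 1, 1, -3, 1, -1, 1, 1, 1, 1, 1, 1, 1, -1, -1, 1, 1, -1],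
    [0, 0, 2, 0, 4, 0, 0, -2, 0, 0, -2, -2, -2, 0, 0, 0, 0, 0, 0, 2, 2, 0, -4, 2],
    [0, 0, 0, 0, -2, 0, 0, 0, 0, 0, 0, 0, -2, -2, 4, 0, 2, -2, -4, 2, 2, 0, 0, 2],
    [0, 0, 0, 0, 2, 0, 0, 0, 0, 0, 0, 0, -2, 2, -4, 0, -2, -2, 4, -2, 2, 0, 0, 2],
    [0, 0, 0, 0, -2, -2, 0, 0, -2, 0, 0, 0, 2, 2, 2, -2, 0, 0, 0, 0, 2, 4, 0, -4],
    [0, 2, 0, 0, 2, 0, 2, 0, 0, 0, 0, -4, 0, 4, 0, 0, 0, -2, -2, -2, 2, -2, 0, 0],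
    [0, 2, 0, 0, -2, 0, -2, 0, 0, 0, 0, 4, 0, 4, 0, 0, 0, -2, 2, 2, 2, -2, 0, 0],
    [-1, 1, -1, -1, 1, -1, 3, -1, 1, 1, -1, -3, -1, -1, -1, 1, 1, 1, 1, -1, 1, 5, 1, -1],
    [1, -1, -1, -1, -1, 1, 3, 1, 1, 1, 1, -3, 1, 1, 1, -1, 1, 1, -1, 1, 1, 5, 1, -1],
    [2, 0, 0, 0, 2, 0, -2, 0, 0, 0, 0, 4, 0, 2, 0, 2, 0, 0, 4, 0, 2, -2, 0, 2],
    [2, 0, 0, 0, -2, 0, 2, 0, 0, 0, 0, -4, 0, 2, 0, -2, 0, 0, -4, 0, 2, -2, 0, -2],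
    [0, 0, 0, 0, -2, -4, 0, -2, 0, 0, -2, 0, 2, -2, 0, 0, 0, 0, 2, 0, 2, 2, 0, -4],
    [0, 0, 0, 0, 0, 0, 0, 0, 0, 0, 0, 0, -4, 4, -4, 0, 0, -4, 0, 0, 0, 0, 0, 0],
    [0, 0, 0, 0, 0, 0, 0, 0, 0, 0, 0, 0, -4, -4, 4, 0, 0, -4, 0, 0, 0, 0, 0, 0],
    [0, 0, 0, 0, 4, 0, 0, -4, 0, 0, -4, 0, -4, 0, 0, 0, 0, 0, 0, 0, 0, 0, 0, 0],
    [0, 0, 0, 0, -8, 0, 0, 0, 0, 0, 0, 0, 0, 0, 0, 0, 0, 0, 0, 0, 0, 0, 0, 0],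
    [0, 0, 0, 0, 8, 0, 0, 0, 0, 0, 0, 0, 0, 0, 0, 0, 0, 0, 0, 0, 0, 0, 0, 0],
    [0, 0, 0, 0, 0, 8, 0, 0, 0, 0, 0, 0, 0, 0, 0, 0, 0, 0, 0, 0, 0, 0, 0, 0]],
  [[-1, 3, -1, -1, -1, 1, 1, -1, -3, 1, -1, 1, -1, -3, -3, 1, -3, 1, 1, 1, 1, 1, 1, 1],
    [-1, -3, 1, -1, 1, -3, 1, 1, 1, -1, -1, 3, -1, 1, -1, -3, 1, 1, 1, 1, -3, 1, 1, -1],
    [-1, 3, 1, -1, -1, -3, 1, 1, 1, 1, 1, 3, 1, 1, 1, -3, 1, 1, 1, -1, 3, 1, 1, -1],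
    [-2, 2, 0, -2, 2, 2, 2, 0, -2, 2, 0, 0, 0, 2, -2, 2, -2, -2, 2, 0, 0, 2, 2, 0],
    [-2, 2, 2, 2, 0, -2, 2, 2, -2, 2, -2, 2, 0, 0, 2, 2, 0, 0, 2, 0, 0, -2, -2, 0],
    [-2, 2, 2, -2, 0, -2, 2, 2, -2, -2, -2, -2, 0, 0, -2, -2, 0, 0, -2, 0, 0, 2, 2, 0],
    [-2, 2, 2, -2, 0, 0, -2, -2, 0, 2, 2, 2, 0, 0, 0, 0, -2, -2, 2, -2, 0, -2, -2, -2],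
    [2, 0, -2, -2, 0, -2, 0, -2, -2, 2, 2, -2, -2, -2, 2, -2, -2, 0, 0, 0, 0, 0, 2, 2],
    [2, 0, 2, -2, 0, -2, 0, -2, 2, 2, -2, 2, 2, -2, 2, 2, -2, 0, 0, 0, 0, 0, -2, -2],
    [1, -1, 1, -3, -1, 1, 1, 1, -1, -1, 1, -1, -3, 1, -3, -1, 3, -1, -1, 1, -1, -1, 3, 1],
    [-1, 1, 1, -3, 1, -1, 1, -1, -1, -1, -1, -1, 3, -1, 3, 1, 3, -1, 1, -1, -1, -1, 3, 1],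
    [0, 2, 2, -2, 0, 2, 0, 2, 2, 2, 2, 2, -2, 0, -2, 0, -2, 2, -2, 2, 0, 0, -2, 0],
    [0, 2, -2, -2, 0, 2, 0, 2, -2, 2, -2, -2, 2, 0, -2, 0, -2, 2, 2, -2, 0, 0, 2, 0],
    [2, 2, 2, -2, 0, 2, 2, 0, -2, -2, 0, -2, 0, 0, 2, 2, -2, 2, 0, -2, 0, 0, -2, -2],
    [0, 0, 0, -4, 0, 0, -4, 0, 0, 0, 0, 0, 0, 0, 0, -4, 0, 0, 0, 0, 0, 0, 0, 4],
    [0, 0, 0, 4, 0, 0, -4, 0, 0, 0, 0, 0, 0, 0, 0, 4, 0, 0, 0, 0, 0, 0, 0, 4],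
    [0, 0, 0, 0, 0, 0, 0, 0, 0, 0, 0, 0, 0, 4, 0, 0, 0, 0, -4, 0, 4, 4, 0, 0],
    [0, 0, 0, 0, 0, 0, 0, 0, 0, 0, 0, 0, 0, 0, 0, 0, 0, 0, 8, 0, 0, 0, 0, 0],
    [0, 0, 0, 0, 0, 0, 0, 0, 0, 0, 0, 0, 0, 0, 0, 0, 0, 0, 8, 0, 0, 0, 0, 0],
    [0, 0, 0, 0, 0, 0, 8, 0, 0, 0, 0, 0, 0, 0, 0, 0, 0, 0, 0, 0, 0, 0, 0, 0]],
  [[1, -3, 1, 1, 1, -1, -1, -3, -1, -1, 1, -1, -3, -1, -1, -1, -1, 3, -1, -1, -1, 3, -1, -1],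
    [1, -1, -1, -3, -1, -1, -1, -1, -1, 1, 1, -3, 1, 3, 1, -1, 3, -1, -1, -1, -1, -1, -1, -3],
    [1, 1, -1, -3, 1, -1, -1, -1, -1, -1, -1, -3, -1, 3, -1, -1, 3, -1, -1, 1, 1, -1, -1, -3],
    [2, 2, 0, -2, -2, -2, -2, 0, 2, -2, 0, 0, 0, -2, -2, 2, -2, -2, 2, 0, 0, 2, -2, 0],
    [2, -2, -2, 2, 0, -2, 2, -2, -2, 2, -2, 2, 0, 0, -2, -2, 0, 0, -2, 0, 0, -2, 2, 0],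
    [2, -2, -2, -2, 0, -2, 2, -2, -2, -2, -2, -2, 0, 0, 2, 2, 0, 0, 2, 0, 0, 2, -2, 0],
    [4, 0, 0, 0, -2, 2, -4, 0, 2, 0, 0, 0, -2, 2, -2, -2, 0, 0, 0, 0, 2, 0, 0, 0],
    [0, -2, 0, 0, 2, 4, 2, 0, 0, 0, 0, 0, -4, 0, 0, 0, 0, -2, 2, 2, -2, -2, 0, 0],
    [0, -2, 0, 0, -2, 4, -2, 0, 0, 0, 0, 0, 4, 0, 0, 0, 0, -2, -2, -2, -2, -2, 0, 0],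
    [1, -1, 1, 1, 3, -3, 1, 1, -1, -1, 1, -1, -3, -3, 1, -1, -1, 3, -1, 1, -1, -1, -1, 1],
    [-1, 1, 1, 1, -3, 3, 1, -1, -1, -1, -1, -1, 3, 3, -1, 1, -1, 3, 1, -1, -1, -1, -1, 1],
    [-2, 0, 0, 0, 2, 0, -2, 0, 0, 0, 0, 0, -4, -2, 4, -2, 0, 0, 0, 0, 2, 2, 0, 2],
    [-2, 0, 0, 0, -2, 0, 2, 0, 0, 0, 0, 0, 4, -2, 4, 2, 0, 0, 0, 0, 2, 2, 0, -2],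
    [0, 0, 0, 0, 2, 0, 4, 2, 0, 4, -2, 0, 2, -2, 0, 0, 0, 0, -2, 0, 2, -2, 0, 0],
    [0, 0, 0, 0, 0, 0, 0, 0, 0, 0, 4, 4, 0, 0, 0, 0, 0, 0, 0, 0, -4, 0, 4, 0],
    [0, 0, 0, 0, 0, 0, 0, 0, 0, 0, 4, -4, 0, 0, 0, 0, 0, 0, 0, 0, -4, 0, -4, 0],
    [-4, -4, -4, 4, 0, 0, 0, 0, 0, 0, 0, 0, 0, 0, 0, 0, 0, 0, 0, 0, 0, 0, 0, 0],
    [0, 0, 0, 8, 0, 0, 0, 0, 0, 0, 0, 0, 0, 0, 0, 0, 0, 0, 0, 0, 0, 0, 0, 0],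
    [0, 0, 0, 8, 0, 0, 0, 0, 0, 0, 0, 0, 0, 0, 0, 0, 0, 0, 0, 0, 0, 0, 0, 0],
    [0, 0, 0, 0, 0, 0, 0, 8, 0, 0, 0, 0, 0, 0, 0, 0, 0, 0, 0, 0, 0, 0, 0, 0]],
  [[-1, 3, -1, -1, -1, 1, -3, -1, 1, 1, -1, 1, -1, 1, 1, 1, 1, 1, 1, 1, -3, 1, -3, -3],
    [-1, 1, -3, -1, 1, 1, 1, 1, -3, -1, -1, 3, -1, 1, -1, 1, 1, -3, -3, 1, 1, 1, 1, -1],
    [-1, -1, -3, -1, -1, 1, 1, 1, -3, 1, 1, 3, 1, 1, 1, 1, 1, -3, -3, -1, -1, 1, 1, -1],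
    [2, 2, 0, 2, 2, -2, 2, 0, 2, 2, 0, 0, 0, -2, -2, -2, -2, 2, 2, 0, 0, -2, 2, 0],
    [2, 2, 2, -2, 0, -2, 2, -2, 2, -2, 2, 2, 0, 0, 2, -2, 0, 0, 2, 0, 0, -2, 2, 0],
    [2, 2, 2, 2, 0, -2, 2, -2, 2, 2, 2, -2, 0, 0, -2, 2, 0, 0, -2, 0, 0, 2, -2, 0],
    [-2, -2, -2, -2, 0, 0, -2, 2, 0, -2, -2, 2, 0, 0, 0, 0, 2, -2, 2, 2, 0, -2, 2, -2],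
    [2, 0, 2, 2, 0, -2, 0, -2, -2, -2, 2, -2, -2, -2, -2, 2, 2, 0, 0, 0, 0, 0, -2, -2],
    [2, 0, -2, 2, 0, -2, 0, -2, 2, -2, -2, 2, 2, -2, -2, -2, 2, 0, 0, 0, 0, 0, 2, 2],
    [1, -1, -3, 1, -1, 1, 1, 1, -1, 3, 1, -1, -3, 1, 1, 3, -1, -1, -1, 1, -1, -1, -1, -3],
    [-1, 1, -3, 1, 1, -1, 1, -1, -1, 3, -1, -1, 3, -1, -1, -3, -1, -1, 1, -1, -1, -1, -1, -3],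
    [0, 2, -2, 2, 0, -2, 0, 2, -2, -2, 2, 2, -2, 0, -2, 0, -2, -2, -2, -2, 0, 0, 2, 0],
    [0, 2, 2, 2, 0, -2, 0, 2, 2, -2, -2, -2, 2, 0, -2, 0, -2, -2, 2, 2, 0, 0, -2, 0],
    [-2, -2, -2, 2, 0, 2, 2, 0, 2, -2, 0, -2, 0, 0, 2, -2, 2, 2, 0, 2, 0, 0, -2, -2],
    [0, 0, 0, 4, 0, 0, -4, 0, 0, 0, 0, 0, 0, 0, 0, 4, 0, 0, 0, 0, 0, 0, 0, 4],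
    [0, 0, 0, -4, 0, 0, -4, 0, 0, 0, 0, 0, 0, 0, 0, -4, 0, 0, 0, 0, 0, 0, 0, 4],
    [0, 0, 0, 0, 0, 0, 0, 0, 0, 0, 0, 0, 0, -4, 0, 0, 0, 0, -4, 0, 4, -4, 0, 0],
    [0, 0, 0, 0, 0, 0, 0, 0, 0, 0, 0, 0, 0, 0, 0, 0, 0, 0, 0, 0, -8, 0, 0, 0],
    [0, 0, 0, 0, 0, 0, 0, 0, 0, 0, 0, 0, 0, 0, 0, 0, 0, 0, 0, 0, 8, 0, 0, 0],
    [0, 0, 0, 0, 0, 0, 0, 0, 8, 0, 0, 0, 0, 0, 0, 0, 0, 0, 0, 0, 0, 0, 0, 0]],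
  [[-1, -1, 3, -1, -1, 1, 1, -1, 1, 1, -1, 1, -1, 1, 1, -3, -3, 1, 1, 1, 1, -3, 1, -3],
    [3, 1, 1, -1, 1, -3, 1, 1, -3, -1, -1, -1, -1, -3, -1, 1, 1, 1, 1, 1, 1, 1, -3, -1],
    [3, -1, 1, -1, -1, -3, 1, 1, -3, 1, 1, -1, 1, -3, 1, 1, 1, 1, 1, -1, -1, 1, -3, -1],
    [2, -2, 0, -2, 2, 2, -2, 0, 2, -2, 0, 0, 0, 2, -2, -2, -2, -2, -2, 0, 0, -2, 2, 0],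
    [2, -2, -2, -2, 0, -2, -2, 2, -2, -2, -2, -2, 0, 0, 2, 2, 0, 0, 2, 0, 0, -2, 2, 0],
    [2, -2, -2, 2, 0, -2, -2, 2, -2, 2, -2, 2, 0, 0, -2, -2, 0, 0, -2, 0, 0, 2, -2, 0],
    [2, -2, -2, 2, 0, 0, 2, -2, 0, -2, 2, -2, 0, 0, 0, 0, -2, -2, 2, -2, 0, -2, 2, -2],
    [2, 0, -2, -2, 0, 2, 0, -2, 2, -2, -2, -2, 2, -2, -2, -2, 2, 0, 0, 0, 0, 0, -2, 2],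
    [2, 0, 2, -2, 0, 2, 0, -2, -2, -2, 2, 2, -2, -2, -2, 2, 2, 0, 0, 0, 0, 0, 2, -2],
    [1, -1, 1, -3, -1, -3, 1, 1, 3, 3, -3, -1, 1, 1, 1, -1, -1, -1, -1, 1, -1, -1, -1, 1],
    [-1, 1, 1, -3, 1, 3, 1, -1, 3, 3, 3, -1, -1, -1, -1, 1, -1, -1, 1, -1, -1, -1, -1, 1],
    [0, 2, 2, -2, 0, -2, 0, 2, -2, -2, -2, 2, 2, 0, 2, 0, 2, 2, -2, 2, 0, 0, 2, 0],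
    [0, 2, -2, -2, 0, -2, 0, 2, 2, -2, 2, -2, -2, 0, 2, 0, 2, 2, 2, -2, 0, 0, -2, 0],
    [-2, -2, -2, 2, 0, 2, -2, 0, -2, 2, 0, 2, 0, 0, 2, 2, -2, 2, 0, -2, 0, 0, 2, -2],
    [0, 0, 0, 4, 0, 0, 4, 0, 0, 0, 0, 0, 0, 0, 0, -4, 0, 0, 0, 0, 0, 0, 0, 4],
    [0, 0, 0, -4, 0, 0, 4, 0, 0, 0, 0, 0, 0, 0, 0, 4, 0, 0, 0, 0, 0, 0, 0, 4],
    [0, 0, 0, 0, 0, 0, 0, 0, 0, 0, 0, 0, 0, 4, 0, 0, 0, 0, 4, 0, 4, -4, 0, 0],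
    [0, 0, 0, 0, 0, 0, 0, 0, 0, 0, 0, 0, 0, 0, 0, 0, 0, 0, 0, 0, 0, 8, 0, 0],
    [0, 0, 0, 0, 0, 0, 0, 0, 0, 0, 0, 0, 0, 0, 0, 0, 0, 0, 0, 0, 0, 8, 0, 0],
    [0, 0, 0, 0, 0, 0, 0, 0, 0, 8, 0, 0, 0, 0, 0, 0, 0, 0, 0, 0, 0, 0, 0, 0]],
  [[1, 1, 1, -3, -3, -1, -1, 1, -1, -1, 1, -1, -3, 3, -1, -1, -1, -1, -1, -1, -1, -1, -1, 3],
    [1, -1, -1, 1, -1, -1, -1, -1, 3, 1, -3, 1, 1, -1, -3, 3, -1, -1, -1, -1, -1, -1, -1, -3],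
    [1, 1, -1, 1, 1, -1, -1, -1, 3, -1, 3, 1, -1, -1, 3, 3, -1, -1, -1, 1, 1, -1, -1, -3],
    [0, 0, -2, 0, 0, 0, 0, 2, 0, 0, -2, -2, 2, 0, -4, 0, 4, 0, 0, 2, -2, 0, 0, 2],
    [0, 0, 0, 0, -2, 4, 0, 0, 0, 0, 0, 0, -2, 2, 0, 0, 2, 2, 0, 2, -2, -4, 0, -2],
    [0, 0, 0, 0, 2, 4, 0, 0, 0, 0, 0, 0, -2, -2, 0, 0, -2, 2, 0, -2, -2, 4, 0, -2],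
    [0, 0, 0, 0, -2, -2, 0, 0, -2, 0, 0, 0, 2, 2, 2, -2, 0, 0, 0, 0, 2, -4, 0, 4],
    [0, 2, 0, 0, 2, 0, 2, 0, 0, 0, 0, 4, 0, -4, 0, 0, 0, -2, -2, -2, 2, -2, 0, 0],
    [0, 2, 0, 0, -2, 0, -2, 0, 0, 0, 0, -4, 0, -4, 0, 0, 0, -2, 2, 2, 2, -2, 0, 0],
    [-1, 1, -1, -1, 1, -1, -1, -1, 1, -3, -1, 1, -1, 3, -1, 1, 1, 1, -3, -1, -3, 1, -3, -1],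
    [1, -1, -1, -1, -1, 1, -1, 1, 1, -3, 1, 1, 1, -3, 1, -1, 1, 1, 3, 1, -3, 1, -3, -1],
    [2, 0, 0, 0, 2, 0, -2, 0, 0, 0, 0, -4, 0, 2, 0, 2, 0, 0, -4, 0, 2, -2, 0, 2],
    [2, 0, 0, 0, -2, 0, 2, 0, 0, 0, 0, 4, 0, 2, 0, -2, 0, 0, 4, 0, 2, -2, 0, -2],
    [0, 0, 0, 0, -2, 4, 0, -2, 0, 0, -2, 0, 2, -2, 0, 0, 0, 0, 2, 0, 2, 2, 0, 4],
    [0, 0, 0, 0, 0, 0, 0, 0, 0, 0, 0, 0, -4, 4, 4, 0, 0, 4, 0, 0, 0, 0, 0, 0],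
    [0, 0, 0, 0, 0, 0, 0, 0, 0, 0, 0, 0, -4, -4, -4, 0, 0, 4, 0, 0, 0, 0, 0, 0],
    [0, 0, 0, 0, -4, 0, 0, -4, 0, 0, -4, 0, 4, 0, 0, 0, 0, 0, 0, 0, 0, 0, 0, 0],
    [0, 0, 0, 0, 0, 0, 0, 0, 0, 0, 0, 0, -8, 0, 0, 0, 0, 0, 0, 0, 0, 0, 0, 0],
    [0, 0, 0, 0, 0, 0, 0, 0, 0, 0, 0, 0, 8, 0, 0, 0, 0, 0, 0, 0, 0, 0, 0, 0],
    [0, 0, 0, 0, 0, 0, 0, 0, 0, 0, 8, 0, 0, 0, 0, 0, 0, 0, 0, 0, 0, 0, 0, 0]],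
  [[-1, -1, -1, 3, -1, 1, 1, -1, 1, 1, -1, 1, -1, 1, 1, 1, -3, -3, 1, -3, -3, 1, 1, 1],
    [-1, 1, 1, -1, 1, -3, 1, 1, 1, -1, 3, -1, -1, 1, -1, 1, -3, -3, 1, -3, 1, 1, 1, -1],
    [-1, -1, 1, -1, -1, -3, 1, 1, 1, 1, -3, -1, 1, 1, 1, 1, -3, -3, 1, 3, -1, 1, 1, -1],
    [0, 0, 2, 0, 0, 0, 0, -2, 0, 0, 2, 2, -2, 0, -4, 0, 4, 0, 0, -2, 2, 0, 0, -2],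
    [0, 0, 0, 0, 2, 4, 0, 0, 0, 0, 0, 0, 2, -2, 0, 0, -2, -2, 0, -2, 2, -4, 0, 2],
    [0, 0, 0, 0, -2, 4, 0, 0, 0, 0, 0, 0, 2, 2, 0, 0, 2, -2, 0, 2, 2, 4, 0, 2],
    [0, 0, 0, 0, 2, -2, 0, 0, 2, 0, 0, 0, -2, 2, 2, 2, 0, 4, 4, 0, 2, 0, 0, 0],
    [4, 2, 0, 0, 2, 0, 2, 4, 0, 0, 0, 0, 0, 0, 0, 0, 0, 2, -2, 2, -2, 2, 0, 0],
    [4, 2, 0, 0, -2, 0, -2, 4, 0, 0, 0, 0, 0, 0, 0, 0, 0, 2, 2, -2, -2, 2, 0, 0],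
    [1, -1, -3, -3, 3, 1, 1, -3, -1, -1, 1, -1, 1, 1, 1, -1, -1, -1, -1, 1, 3, -1, -1, 1],
    [-1, 1, -3, -3, -3, -1, 1, 3, -1, -1, -1, -1, -1, -1, -1, 1, -1, -1, 1, -1, 3, -1, -1, 1],
    [2, 4, 0, 0, 2, 0, -2, -4, 0, 0, 0, 0, 0, 2, 0, -2, 0, 0, 0, 0, -2, 2, 0, -2],
    [2, 4, 0, 0, -2, 0, 2, -4, 0, 0, 0, 0, 0, 2, 0, 2, 0, 0, 0, 0, -2, 2, 0, 2],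
    [0, 0, 0, 0, 2, 0, 0, 2, 0, 0, 2, 0, -2, -2, 4, 0, 0, -4, 2, 0, 2, 2, 0, 0],
    [0, 0, 0, 0, 0, 0, 0, 0, 0, 0, 0, 0, 4, 4, -4, 0, 0, 4, 0, 0, 0, 0, 0, 0],
    [0, 0, 0, 0, 0, 0, 0, 0, 0, 0, 0, 0, 4, -4, 4, 0, 0, 4, 0, 0, 0, 0, 0, 0],
    [0, 0, 0, 0, 4, 0, 0, -4, 0, 0, 4, 0, 4, 0, 0, 0, 0, 0, 0, 0, 0, 0, 0, 0],
    [0, 0, 0, 0, 0, 0, 0, 8, 0, 0, 0, 0, 0, 0, 0, 0, 0, 0, 0, 0, 0, 0, 0, 0],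
    [0, 0, 0, 0, 0, 0, 0, 8, 0, 0, 0, 0, 0, 0, 0, 0, 0, 0, 0, 0, 0, 0, 0, 0],
    [0, 0, 0, 0, 0, 0, 0, 0, 0, 0, 0, 8, 0, 0, 0, 0, 0, 0, 0, 0, 0, 0, 0, 0]],
  [[1, 1, 1, 1, -3, -1, -1, -3, -1, -1, -3, -1, 1, -1, -1, -1, 3, -1, -1, -1, -1, -1, 3, -1],
    [1, -1, 3, -3, -1, 3, -1, -1, -1, 1, 1, 1, -3, -1, -3, -1, -1, -1, -1, -1, -1, -1, -1, 1],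
    [1, 1, 3, -3, 1, 3, -1, -1, -1, -1, -1, 1, 3, -1, 3, -1, -1, -1, -1, 1, 1, -1, -1, 1],
    [0, 0, 2, -4, 0, 0, 0, 2, 0, 0, 2, -2, -2, 0, 0, 0, 0, 4, 0, -2, -2, 0, 0, 2],
    [0, 0, 0, 0, -2, 0, 0, 0, 4, 0, -4, 0, 2, 2, 0, 0, 2, -2, 0, -2, 2, 0, 0, -2],
    [0, 0, 0, 0, 2, 0, 0, 0, 4, 0, -4, 0, 2, -2, 0, 0, -2, -2, 0, 2, 2, 0, 0, -2],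
    [0, 0, 0, 0, -2, -2, 0, 0, -2, 0, 4, 0, -2, 2, -2, 2, 4, 0, 0, 0, -2, 0, 0, 0],
    [0, -2, 4, 0, 2, 0, -2, 0, 0, 0, 0, 0, 0, 0, 0, 0, 0, 2, -2, -2, -2, -2, 0, 4],
    [0, -2, -4, 0, -2, 0, 2, 0, 0, 0, 0, 0, 0, 0, 0, 0, 0, 2, 2, 2, -2, -2, 0, -4],
    [3, 1, -1, 3, 1, -1, -1, -1, 1, 1, -1, 1, -1, -1, -1, 1, 1, -3, -3, -1, 1, 1, 1, 3],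
    [-3, -1, -1, 3, -1, 1, -1, 1, 1, 1, 1, 1, 1, 1, 1, -1, 1, -3, 3, 1, 1, 1, 1, 3],
    [-2, 0, 0, 4, 2, 0, 2, 0, 0, 0, 0, 0, 0, 2, 0, 2, 0, 4, 0, 0, 2, 2, 0, -2],
    [-2, 0, 0, 4, -2, 0, -2, 0, 0, 0, 0, 0, 0, 2, 0, -2, 0, 4, 0, 0, 2, 2, 0, 2],
    [0, 0, 0, 0, 2, 0, 0, -2, 0, 0, 2, 0, 2, -2, 0, 4, 0, 0, -2, 4, -2, 2, 0, 0],
    [0, 0, 0, 0, 0, 0, 0, 4, 4, 0, 0, 0, 0, 0, 0, 0, 4, 0, 0, 0, 0, -4, 0, 0],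
    [0, 0, 0, 0, 0, 0, 0, 4, 4, 0, 0, 0, 0, 0, 0, 0, -4, 0, 0, 0, 0, 4, 0, 0],
    [0, 0, 0, 0, 0, 4, 0, 0, 0, 0, 0, 0, 0, 0, 4, 0, 0, 4, 0, 0, 0, 0, 0, -4],
    [0, 0, 0, 0, 0, 0, 0, 0, 0, 0, 0, 0, 0, 0, 0, 0, 0, 0, 0, 0, 0, 0, 0, 8],
    [0, 0, 0, 0, 0, 0, 0, 0, 0, 0, 0, 0, 0, 0, 0, 0, 0, 0, 0, 0, 0, 0, 0, 8],
    [0, 0, 0, 0, 0, 0, 0, 0, 0, 0, 0, 0, 8, 0, 0, 0, 0, 0, 0, 0, 0, 0, 0, 0]],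
  [[-1, -1, -1, -1, -1, 1, -3, -1, 1, 1, 3, 1, -1, -3, 1, 1, 1, 1, 1, -3, 1, -3, 1, 1],
    [-1, 1, 1, -1, 1, 1, 1, 1, 1, -1, -1, -1, 3, -3, -1, -3, 1, 1, -3, -3, 1, 1, 1, -1],
    [-1, -1, 1, -1, -1, 1, 1, 1, 1, 1, 1, -1, -3, -3, 1, -3, 1, 1, -3, 3, -1, 1, 1, -1],
    [0, 0, 2, 0, 0, 0, 0, -2, 0, 0, -2, 2, 2, 0, 0, 4, 0, 0, 0, -2, -2, -4, 0, 2],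
    [0, 0, 0, -4, 2, 0, 0, 0, 0, 4, 0, 0, -2, -2, 0, 0, 2, 2, 0, -2, 2, 0, 0, -2],
    [0, 0, 0, 4, -2, 0, 0, 0, 0, -4, 0, 0, -2, 2, 0, 0, -2, 2, 0, 2, 2, 0, 0, -2],
    [-2, -2, -2, 2, 0, 0, -2, -2, 0, 2, -2, -2, 0, 0, 0, 0, 2, -2, 2, -2, 0, 2, -2, 2],
    [2, 0, 2, -2, 0, -2, 0, -2, 2, -2, -2, 2, -2, 2, 2, -2, -2, 0, 0, 0, 0, 0, -2, -2],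
    [2, 0, -2, -2, 0, -2, 0, -2, -2, -2, 2, -2, 2, 2, 2, 2, -2, 0, 0, 0, 0, 0, 2, 2],
    [3, 1, -1, -1, 1, 3, -1, 3, 1, 1, -1, 1, -1, -1, -1, -3, 1, 1, 1, -1, 1, 1, -3, -1],
    [-3, -1, -1, -1, -1, -3, -1, -3, 1, 1, 1, 1, 1, 1, 1, 3, 1, 1, -1, 1, 1, 1, -3, -1],
    [0, 2, 2, 2, 0, 2, 0, 2, 2, -2, -2, -2, -2, 0, -2, 0, 2, -2, 2, 2, 0, 0, 2, 0],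
    [0, 2, -2, 2, 0, 2, 0, 2, -2, -2, 2, 2, 2, 0, -2, 0, 2, -2, -2, -2, 0, 0, -2, 0],
    [2, -2, -2, -2, 0, -2, 2, 0, -2, -2, 0, 2, 0, 0, 2, -2, -2, 2, 0, 2, 0, 0, 2, 2],
    [4, 0, 0, 0, 0, 4, 0, 0, 0, 4, 0, 0, 0, 0, 0, 0, 0, 0, 0, -4, 0, 0, 0, 0],
    [4, 0, 0, 0, 0, 4, 0, 0, 0, -4, 0, 0, 0, 0, 0, 0, 0, 0, 0, 4, 0, 0, 0, 0],
    [0, 0, 0, 0, 0, 0, 0, 0, 4, 0, 0, 0, 0, 0, 0, -4, 4, 0, 0, 4, 0, 0, 0, 0],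
    [0, 0, 0, 0, 0, 0, 0, 0, 0, 0, 0, 0, 0, 0, 0, 8, 0, 0, 0, 0, 0, 0, 0, 0],
    [0, 0, 0, 0, 0, 0, 0, 0, 0, 0, 0, 0, 0, 0, 0, 8, 0, 0, 0, 0, 0, 0, 0, 0],
    [0, 0, 0, 0, 0, 0, 0, 0, 0, 0, 0, 0, 0, 8, 0, 0, 0, 0, 0, 0, 0, 0, 0, 0]],
  [[-1, -1, -1, -1, 3, 1, -3, -1, 1, 1, -1, 1, -1, 1, -3, -3, 1, -3, 1, 1, 1, 1, 1, 1],
    [-1, -3, 1, -1, 1, 1, 1, 1, 1, -1, -1, -1, -1, 1, 3, 1, -3, 1, -3, 1, 1, 1, -3, -1],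
    [-1, 3, 1, -1, -1, 1, 1, 1, 1, 1, 1, -1, 1, 1, -3, 1, -3, 1, -3, -1, -1, 1, -3, -1],
    [-2, 2, 0, -2, 2, -2, -2, 0, -2, -2, 0, 0, 0, -2, 2, -2, 2, -2, 2, 0, 0, -2, 2, 0],
    [-2, -2, -2, -2, 0, 2, 2, -2, -2, -2, -2, 2, 0, 0, 2, -2, 0, 0, 2, 0, 0, 2, -2, 0],
    [-2, -2, -2, 2, 0, 2, 2, -2, -2, 2, -2, -2, 0, 0, -2, 2, 0, 0, -2, 0, 0, -2, 2, 0],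
    [0, 0, 0, 4, -2, -2, 0, 0, 2, 0, 0, 4, -2, -2, 2, -2, 0, 0, 0, 0, -2, 0, 0, 0],
    [0, 2, 0, 0, -2, 0, -2, 0, 4, 0, 4, 0, 0, 0, 0, 0, 0, -2, -2, 2, -2, -2, 0, 0],
    [0, 2, 0, 0, 2, 0, 2, 0, -4, 0, -4, 0, 0, 0, 0, 0, 0, -2, 2, -2, -2, -2, 0, 0],
    [-1, 1, -1, -1, -3, -1, -1, -1, 1, 1, 3, 1, -1, -1, -1, -3, -3, 1, -3, -1, 1, 1, 1, -1],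
    [1, -1, -1, -1, 3, 1, -1, 1, 1, 1, -3, 1, 1, 1, 1, 3, -3, 1, 3, 1, 1, 1, 1, -1],
    [2, 0, 0, 0, -2, 0, 2, 0, 0, 0, 4, 0, 0, 2, 0, -2, 4, 0, 0, 0, 2, 2, 0, 2],
    [2, 0, 0, 0, 2, 0, -2, 0, 0, 0, -4, 0, 0, 2, 0, 2, 4, 0, 0, 0, 2, 2, 0, -2],
    [0, 0, 0, 0, 2, 0, 0, 2, 0, 0, -2, -4, 2, 2, 0, 0, 0, 0, 2, 0, -2, 2, 4, 0],
    [0, 0, 0, 0, 0, 0, 0, 0, 0, 0, 4, 4, 0, 0, 0, 0, 0, 0, 0, 0, 4, 0, -4, 0],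
    [0, 0, 0, 0, 0, 0, 0, 0, 0, 0, 4, -4, 0, 0, 0, 0, 0, 0, 0, 0, 4, 0, 4, 0],
    [4, -4, 4, 4, 0, 0, 0, 0, 0, 0, 0, 0, 0, 0, 0, 0, 0, 0, 0, 0, 0, 0, 0, 0],
    [0, -8, 0, 0, 0, 0, 0, 0, 0, 0, 0, 0, 0, 0, 0, 0, 0, 0, 0, 0, 0, 0, 0, 0],
    [0, 8, 0, 0, 0, 0, 0, 0, 0, 0, 0, 0, 0, 0, 0, 0, 0, 0, 0, 0, 0, 0, 0, 0],
    [0, 0, 0, 0, 0, 0, 0, 0, 0, 0, 0, 0, 0, 0, 8, 0, 0, 0, 0, 0, 0, 0, 0, 0]],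
  [[-1, -1, -1, 3, -1, 1, 1, -1, 1, -3, -1, 1, -1, 1, -3, 1, 1, 1, 1, 1, 1, -3, -3, 1],
    [-1, -3, -3, -1, 1, 1, 1, 1, 1, -1, 3, -1, -1, -3, -1, 1, 1, 1, 1, 1, 1, -3, 1, -1],
    [-1, 3, -3, -1, -1, 1, 1, 1, 1, 1, -3, -1, 1, -3, 1, 1, 1, 1, 1, -1, -1, -3, 1, -1],
    [0, 4, -2, 0, 0, 0, 0, -2, 0, 0, 2, 2, -2, 0, 0, 0, 0, 0, -4, 2, -2, 0, 0, 2],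
    [0, 0, 0, 0, 2, 0, -4, 0, 0, 0, 0, 4, 2, -2, 0, 0, 2, -2, 0, 2, -2, 0, 0, -2],
    [0, 0, 0, 0, -2, 0, -4, 0, 0, 0, 0, -4, 2, 2, 0, 0, -2, -2, 0, -2, -2, 0, 0, -2],
    [0, 0, 0, 0, 2, -2, 0, 0, -2, -4, 0, 0, -2, -2, -2, -2, 0, 0, 0, 0, 2, 0, -4, 0],
    [0, -2, 0, 0, -2, 0, 2, 0, 0, 0, 0, 0, 0, 0, -4, 0, -4, -2, -2, -2, -2, 2, 0, 0],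
    [0, -2, 0, 0, 2, 0, -2, 0, 0, 0, 0, 0, 0, 0, -4, 0, -4, -2, 2, 2, -2, 2, 0, 0],
    [1, -1, 1, 1, -1, -3, 1, 1, -1, -1, 1, -1, 1, 1, 1, -1, 3, -1, -1, -3, 3, -1, -1, -3],
    [-1, 1, 1, 1, 1, 3, 1, -1, -1, -1, -1, -1, -1, -1, -1, 1, 3, -1, 1, 3, 3, -1, -1, -3],
    [-2, 0, 0, 0, -2, -4, -2, 0, 4, 0, 0, 0, 0, 2, 0, 2, 0, 0, 0, 0, -2, 2, 0, 2],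
    [-2, 0, 0, 0, 2, -4, 2, 0, -4, 0, 0, 0, 0, 2, 0, -2, 0, 0, 0, 0, -2, 2, 0, -2],
    [-4, 0, 0, -4, 2, 0, 0, -2, 0, 0, -2, 0, -2, 2, 0, 0, 0, 0, -2, 0, 2, 2, 0, 0],
    [0, 4, 4, 0, -4, 0, 0, 0, 0, 0, 0, 0, 0, 0, 0, 0, 0, 0, 4, 0, 0, 0, 0, 0],
    [0, 4, 4, 0, 4, 0, 0, 0, 0, 0, 0, 0, 0, 0, 0, 0, 0, 0, -4, 0, 0, 0, 0, 0],
    [0, 0, 0, 0, 0, 0, 4, 0, 0, 4, 0, 4, 0, 0, 0, 0, 0, 0, 0, 0, 0, 0, -4, 0],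
    [0, 0, 0, 0, 0, 0, 0, 0, 0, 0, 0, 0, 0, 0, 0, 0, 0, 0, 0, 0, 0, 0, 8, 0],
    [0, 0, 0, 0, 0, 0, 0, 0, 0, 0, 0, 0, 0, 0, 0, 0, 0, 0, 0, 0, 0, 0, 8, 0],
    [0, 0, 0, 0, 0, 0, 0, 0, 0, 0, 0, 0, 0, 0, 0, 8, 0, 0, 0, 0, 0, 0, 0, 0]],
  [[-1, -1, -1, -1, -1, 1, -3, -1, 1, -3, -1, -3, 3, 1, 1, 1, -3, 1, 1, 1, 1, 1, 1, 1],
    [-1, 1, 1, -1, 1, -3, 1, -3, 1, -1, -1, -1, -1, 1, -1, 1, 1, 1, -3, 1, 1, -3, 1, 3],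
    [-1, -1, 1, -1, -1, -3, 1, -3, 1, 1, 1, -1, 1, 1, 1, 1, 1, 1, -3, -1, -1, -3, 1, 3],
    [0, 0, 2, 0, 0, 4, 0, 2, 0, 0, -2, 2, -2, -4, 0, 0, 0, 0, 0, 2, -2, 0, 0, -2],
    [0, 0, 0, 0, 2, 0, 0, 4, 0, 0, 0, 0, -2, 2, 0, -4, -2, -2, 0, 2, 2, 0, 0, -2],
    [0, 0, 0, 0, -2, 0, 0, 4, 0, 0, 0, 0, -2, -2, 0, 4, 2, -2, 0, -2, 2, 0, 0, -2],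
    [0, 0, 0, 0, 2, -2, 0, -4, 2, 0, 0, 0, 2, 2, -2, -2, 0, 0, 0, 4, -2, 0, 0, 0],
    [0, -2, 0, 4, 2, 0, -2, 0, 0, 0, 0, 0, 0, 0, 0, -4, 0, -2, -2, 2, 2, 2, 0, 0],
    [0, -2, 0, 4, -2, 0, 2, 0, 0, 0, 0, 0, 0, 0, 0, 4, 0, -2, 2, -2, 2, 2, 0, 0],
    [-1, -3, -1, 3, 1, -1, -1, -1, 1, 1, -1, 1, -1, 3, -1, -3, 1, 1, 1, 3, 1, 1, 1, -1],
    [1, 3, -1, 3, -1, 1, -1, 1, 1, 1, 1, 1, 1, -3, 1, 3, 1, 1, -1, -3, 1, 1, 1, -1],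
    [-2, 0, -4, 0, 2, 0, 2, 0, 0, 0, 0, 0, 0, 2, 0, -2, 0, 0, 0, 4, -2, -2, 0, 2],
    [-2, 0, 4, 0, -2, 0, -2, 0, 0, 0, 0, 0, 0, 2, 0, 2, 0, 0, 0, -4, -2, -2, 0, -2],
    [0, 0, 0, 0, -2, 0, 0, 2, -4, 0, -2, 0, -2, -2, 0, 0, 4, 0, -2, 0, -2, 2, 0, 0],
    [0, 0, 0, 0, 0, 0, 0, -4, 4, 0, 0, 0, 0, 0, 0, 0, -4, 0, 0, 0, 0, -4, 0, 0],
    [0, 0, 0, 0, 0, 0, 0, -4, 4, 0, 0, 0, 0, 0, 0, 0, 4, 0, 0, 0, 0, 4, 0, 0],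
    [0, 0, 0, 0, 0, -4, 0, 0, 0, 0, 0, 0, 0, 0, 4, 0, 0, 4, 0, 0, 0, 0, 0, 4],
    [0, 0, 0, 0, 0, 8, 0, 0, 0, 0, 0, 0, 0, 0, 0, 0, 0, 0, 0, 0, 0, 0, 0, 0],
    [0, 0, 0, 0, 0, 8, 0, 0, 0, 0, 0, 0, 0, 0, 0, 0, 0, 0, 0, 0, 0, 0, 0, 0],
    [0, 0, 0, 0, 0, 0, 0, 0, 0, 0, 0, 0, 0, 0, 0, 0, 8, 0, 0, 0, 0, 0, 0, 0]],
  [[-1, -1, -1, -1, -1, 1, 1, 3, 1, 1, -1, -3, -1, 1, -3, 1, 1, 1, 1, -3, 1, 1, 1, -3],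
    [-1, -3, 1, 3, 1, 1, 1, -3, -3, -1, -1, -1, -1, 1, -1, 1, 1, 1, 1, -3, 1, 1, 1, -1],
    [-1, 3, 1, 3, -1, 1, 1, -3, -3, 1, 1, -1, 1, 1, 1, 1, 1, 1, 1, 3, -1, 1, 1, -1],
    [-4, 0, -2, 0, 0, 0, 0, 2, 4, 0, -2, 2, -2, 0, 0, 0, 0, 0, 0, -2, 2, 0, 0, 2],
    [4, 0, 0, 0, 2, 0, 0, 0, 0, 0, 0, 0, -2, 2, 0, 0, 2, -2, 0, -2, -2, 0, -4, 2],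
    [4, 0, 0, 0, -2, 0, 0, 0, 0, 0, 0, 0, -2, -2, 0, 0, -2, -2, 0, 2, -2, 0, 4, 2],
    [2, -2, -2, -2, 0, 0, 2, -2, 0, 2, -2, 2, 0, 0, 0, 0, 2, 2, -2, -2, 0, -2, -2, -2],
    [-2, 0, 2, -2, 0, 2, 0, 2, -2, -2, 2, -2, 2, -2, 2, -2, -2, 0, 0, 0, 0, 0, -2, -2],
    [-2, 0, -2, -2, 0, 2, 0, 2, 2, -2, -2, 2, -2, -2, 2, 2, -2, 0, 0, 0, 0, 0, 2, 2],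
    [1, 3, 1, 1, -1, 1, 1, -3, -1, 3, 1, -1, 1, 1, 1, -1, 3, 3, -1, 1, -1, -1, -1, 1],
    [-1, -3, 1, 1, 1, -1, 1, 3, -1, 3, -1, -1, -1, -1, -1, 1, 3, 3, 1, -1, -1, -1, -1, 1],
    [0, -2, 2, 2, 0, 2, 0, -2, 2, -2, 2, 2, 2, 0, 2, 0, -2, -2, -2, 2, 0, 0, 2, 0],
    [0, -2, -2, 2, 0, 2, 0, -2, -2, -2, -2, -2, -2, 0, 2, 0, -2, -2, 2, -2, 0, 0, -2, 0],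
    [2, -2, -2, -2, 0, 2, -2, 0, -2, 2, 0, -2, 0, 0, -2, -2, -2, -2, 0, 2, 0, 0, -2, -2],
    [4, 0, 0, 0, 0, -4, 0, 0, 0, -4, 0, 0, 0, 0, 0, 0, 0, 0, 0, -4, 0, 0, 0, 0],
    [4, 0, 0, 0, 0, -4, 0, 0, 0, 4, 0, 0, 0, 0, 0, 0, 0, 0, 0, 4, 0, 0, 0, 0],
    [0, 0, 0, 0, 0, 0, 0, 0, 4, 0, 0, 0, 0, 0, 0, 4, -4, 0, 0, 4, 0, 0, 0, 0],
    [0, 0, 0, 0, 0, 0, 0, 0, 0, 0, 0, 0, 0, 0, 0, 0, 8, 0, 0, 0, 0, 0, 0, 0],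
    [0, 0, 0, 0, 0, 0, 0, 0, 0, 0, 0, 0, 0, 0, 0, 0, 8, 0, 0, 0, 0, 0, 0, 0],
    [0, 0, 0, 0, 0, 0, 0, 0, 0, 0, 0, 0, 0, 0, 0, 0, 0, 8, 0, 0, 0, 0, 0, 0]],
  [[3, -1, -1, -1, -1, -3, 1, -1, 1, 1, -1, 1, -1, 1, 1, 1, 1, 1, 5, 1, 1, 1, 1, 1],
    [-1, 1, 1, -1, -3, 1, 5, 1, 1, 3, -1, -1, -1, 1, -1, 1, 1, 1, 1, 1, 1, 1, 1, -1],
    [-1, -1, 1, -1, 3, 1, 5, 1, 1, -3, 1, -1, 1, 1, 1, 1, 1, 1, 1, -1, -1, 1, 1, -1],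
    [0, 0, 2, 0, 0, 0, -4, 2, 0, 4, 2, 2, 2, 0, 0, 0, 0, 0, 0, 2, 2, 0, 0, 2],
    [0, 4, -4, 0, 2, 0, 0, 0, 0, 0, 0, 0, 2, 2, 0, 0, 2, 2, 0, 2, 2, 0, 0, 2],
    [0, 4, -4, 0, -2, 0, 0, 0, 0, 0, 0, 0, 2, -2, 0, 0, -2, 2, 0, -2, 2, 0, 0, 2],
    [0, 4, -4, 0, 2, 2, 0, 0, -2, 0, 0, 0, -2, 2, 2, -2, 0, 0, 0, 0, -2, 0, 0, 0],
    [0, 2, 0, 0, 2, 0, -2, 0, 0, 4, 0, 0, 0, 0, 0, 0, 0, -2, 2, -2, -2, 2, -4, 0],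
    [0, 2, 0, 0, -2, 0, 2, 0, 0, 4, 0, 0, 0, 0, 0, 0, 0, -2, -2, 2, -2, 2, 4, 0],
    [-1, 1, -1, -1, 1, -1, 3, -1, 1, 1, -1, 5, -1, -1, -1, 1, 1, 1, 1, -1, 1, -3, 1, -1],
    [1, -1, -1, -1, -1, 1, 3, 1, 1, 1, 1, 5, 1, 1, 1, -1, 1, 1, -1, 1, 1, -3, 1, -1],
    [2, 0, 0, 0, 2, 0, 2, 0, 0, 4, 0, 0, 0, -2, 0, 2, 0, 0, 0, 0, -2, 2, 4, 2],
    [2, 0, 0, 0, -2, 0, -2, 0, 0, 4, 0, 0, 0, -2, 0, -2, 0, 0, 0, 0, -2, 2, -4, -2],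
    [0, 4, -4, 0, 2, 0, 0, -2, 0, 0, -2, 0, -2, -2, 0, 0, 0, 0, 2, 0, -2, -2, 0, 0],
    [0, 4, -4, 0, -4, 0, 0, 0, 0, 0, 0, 0, 0, 0, 0, 0, 0, 0, -4, 0, 0, 0, 0, 0],
    [0, 4, -4, 0, 4, 0, 0, 0, 0, 0, 0, 0, 0, 0, 0, 0, 0, 0, 4, 0, 0, 0, 0, 0],
    [0, 0, 0, 0, 0, 0, -4, 0, 0, 4, 0, 4, 0, 0, 0, 0, 0, 0, 0, 0, 0, 0, 4, 0],
    [0, 0, 0, 0, 0, 0, 8, 0, 0, 0, 0, 0, 0, 0, 0, 0, 0, 0, 0, 0, 0, 0, 0, 0],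
    [0, 0, 0, 0, 0, 0, 8, 0, 0, 0, 0, 0, 0, 0, 0, 0, 0, 0, 0, 0, 0, 0, 0, 0],
    [0, 0, 0, 0, 0, 0, 0, 0, 0, 0, 0, 0, 0, 0, 0, 0, 0, 0, 8, 0, 0, 0, 0, 0]],
  [[-1, -1, 3, -1, -1, 1, 1, -1, 1, 1, -1, -3, -1, -3, 1, 1, 1, -3, 1, 1, 1, 1, -3, 1],
    [3, 1, -3, -1, 1, 1, 1, -3, 1, -1, -1, -1, -1, 1, -1, -3, -3, 1, 1, 1, 1, 1, 1, -1],
    [3, -1, -3, -1, -1, 1, 1, -3, 1, 1, 1, -1, 1, 1, 1, -3, -3, 1, 1, -1, -1, 1, 1, -1],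
    [4, 0, -2, 0, 0, 0, 0, 2, -4, 0, -2, 2, -2, 0, 0, 0, 0, 0, 0, -2, 2, 0, 0, 2],
    [-4, 0, 0, 0, 2, 0, 0, 0, 0, 0, 0, 0, -2, 2, 0, 0, 2, -2, 0, -2, -2, 0, 4, 2],
    [-4, 0, 0, 0, -2, 0, 0, 0, 0, 0, 0, 0, -2, -2, 0, 0, -2, -2, 0, 2, -2, 0, -4, 2],
    [-2, 2, 2, 2, 0, 0, -2, -2, 0, -2, -2, -2, 0, 0, 0, 0, 2, 2, -2, -2, 0, -2, 2, -2],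
    [-2, 0, 2, -2, 0, -2, 0, 2, 2, 2, -2, -2, -2, -2, -2, -2, 2, 0, 0, 0, 0, 0, 2, -2],
    [-2, 0, -2, -2, 0, -2, 0, 2, -2, 2, 2, 2, 2, -2, -2, 2, 2, 0, 0, 0, 0, 0, -2, 2],
    [1, 3, 1, 1, 3, 1, 1, 1, 3, -1, 1, -1, 1, 1, 1, -1, -1, -1, -1, 1, -1, -1, 3, -3],
    [-1, -3, 1, 1, -3, -1, 1, -1, 3, -1, -1, -1, -1, -1, -1, 1, -1, -1, 1, -1, -1, -1, 3, -3],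
    [0, -2, 2, 2, 0, -2, 0, -2, -2, 2, -2, 2, -2, 0, -2, 0, 2, -2, -2, 2, 0, 0, -2, 0],
    [0, -2, -2, 2, 0, -2, 0, -2, 2, 2, 2, -2, 2, 0, -2, 0, 2, -2, 2, -2, 0, 0, 2, 0],
    [-2, 2, 2, 2, 0, 2, 2, 0, -2, -2, 0, 2, 0, 0, -2, -2, -2, -2, 0, 2, 0, 0, 2, -2],
    [-4, 0, 0, 0, 0, -4, 0, 0, 0, 4, 0, 0, 0, 0, 0, 0, 0, 0, 0, -4, 0, 0, 0, 0],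
    [-4, 0, 0, 0, 0, -4, 0, 0, 0, -4, 0, 0, 0, 0, 0, 0, 0, 0, 0, 4, 0, 0, 0, 0],
    [0, 0, 0, 0, 0, 0, 0, 0, -4, 0, 0, 0, 0, 0, 0, -4, -4, 0, 0, 4, 0, 0, 0, 0],
    [0, 0, 0, 0, 0, 0, 0, 0, 0, 0, 0, 0, 0, 0, 0, 0, 0, 0, 0, -8, 0, 0, 0, 0],
    [0, 0, 0, 0, 0, 0, 0, 0, 0, 0, 0, 0, 0, 0, 0, 0, 0, 0, 0, 8, 0, 0, 0, 0],
    [0, 0, 0, 0, 0, 0, 0, 0, 0, 0, 0, 0, 0, 0, 0, 0, 0, 0, 0, 8, 0, 0, 0, 0]],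
  [[-1, -1, -1, -1, 3, 1, 1, -1, -3, 1, -1, -3, -1, 1, 1, 1, 1, 1, 1, 1, -3, -3, 1, 1],
    [-1, 1, 1, -1, 1, 1, 1, -3, 1, -1, -1, -1, -1, -3, 3, 1, 1, -3, 1, 1, -3, 1, 1, -1],
    [-1, -1, 1, -1, -1, 1, 1, -3, 1, 1, 1, -1, 1, -3, -3, 1, 1, -3, 1, -1, 3, 1, 1, -1],
    [0, 0, 2, 0, 0, -4, 0, 2, 0, 0, -2, 2, -2, 4, 0, 0, 0, 0, 0, 2, -2, 0, 0, -2],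
    [0, 0, 0, 0, 2, 0, 0, -4, 0, 0, 0, 0, -2, 2, 0, 4, -2, -2, 0, 2, 2, 0, 0, -2],
    [0, 0, 0, 0, -2, 0, 0, -4, 0, 0, 0, 0, -2, -2, 0, -4, 2, -2, 0, -2, 2, 0, 0, -2],
    [0, 0, 0, 0, -2, -2, 0, 0, -2, 0, -4, 0, -2, 2, -2, 2, -4, 0, 0, 0, -2, 0, 0, 0],
    [0, -2, -4, 0, 2, 0, -2, 0, 0, 0, 0, 0, 0, 0, 0, 0, 0, 2, -2, -2, -2, -2, 0, -4],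
    [0, -2, 4, 0, -2, 0, 2, 0, 0, 0, 0, 0, 0, 0, 0, 0, 0, 2, 2, 2, -2, -2, 0, 4],
    [-1, -3, 3, -1, 1, 3, -1, -1, 1, 1, -1, 1, -1, -1, 3, 1, 1, 1, -3, -1, 1, 1, 1, -1],
    [1, 3, 3, -1, -1, -3, -1, 1, 1, 1, 1, 1, 1, 1, -3, -1, 1, 1, 3, 1, 1, 1, 1, -1],
    [-2, 0, 0, -4, 2, 0, 2, 0, 0, 0, 0, 0, 0, 2, 0, 2, 0, -4, 0, 0, 2, 2, 0, -2],
    [-2, 0, 0, -4, -2, 0, -2, 0, 0, 0, 0, 0, 0, 2, 0, -2, 0, -4, 0, 0, 2, 2, 0, 2],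
    [0, 0, 0, 0, 2, 0, 0, -2, 0, 0, 2, 0, 2, -2, 0, -4, 0, 0, -2, -4, -2, 2, 0, 0],
    [0, 0, 0, 0, 0, 0, 0, 4, -4, 0, 0, 0, 0, 0, 0, 0, -4, 0, 0, 0, 0, -4, 0, 0],
    [0, 0, 0, 0, 0, 0, 0, 4, -4, 0, 0, 0, 0, 0, 0, 0, 4, 0, 0, 0, 0, 4, 0, 0],
    [0, 0, 0, 0, 0, 4, 0, 0, 0, 0, 0, 0, 0, 0, 4, 0, 0, -4, 0, 0, 0, 0, 0, 4],
    [0, 0, 0, 0, 0, 0, 0, 0, 0, 0, 0, 0, 0, 0, 0, 0, 0, 8, 0, 0, 0, 0, 0, 0],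
    [0, 0, 0, 0, 0, 0, 0, 0, 0, 0, 0, 0, 0, 0, 0, 0, 0, 8, 0, 0, 0, 0, 0, 0],
    [0, 0, 0, 0, 0, 0, 0, 0, 0, 0, 0, 0, 0, 0, 0, 0, 0, 0, 0, 0, 8, 0, 0, 0]],
  [[-1, -1, -1, -1, -1, 1, 1, 3, 1, -3, -1, 1, -1, -3, 1, -3, 1, 1, 1, 1, -3, 1, 1, 1],
    [-1, 1, 1, 3, 1, 1, 1, 1, 1, -1, -1, -1, -1, 1, -1, -3, 1, -3, 1, 1, 1, -3, -3, -1],
    [-1, -1, 1, 3, -1, 1, 1, 1, 1, 1, 1, -1, 1, 1, 1, -3, 1, -3, 1, -1, -1, -3, -3, -1],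
    [-2, -2, 0, 2, 2, -2, -2, 0, -2, -2, 0, 0, 0, -2, -2, 2, -2, 2, -2, 0, 0, 2, 2, 0],
    [-2, -2, -2, 2, 0, -2, -2, -2, 2, 2, 2, -2, 0, 0, 2, -2, 0, 0, 2, 0, 0, -2, -2, 0],
    [-2, -2, -2, -2, 0, -2, -2, -2, 2, -2, 2, 2, 0, 0, -2, 2, 0, 0, -2, 0, 0, 2, 2, 0],
    [2, 2, 2, 2, 0, 0, 2, 2, 0, 2, -2, -2, 0, 0, 0, 0, 2, -2, 2, 2, 0, -2, -2, -2],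
    [2, 0, 2, 2, 0, 2, 0, -2, 2, 2, -2, -2, 2, -2, 2, 2, -2, 0, 0, 0, 0, 0, 2, -2],
    [2, 0, -2, 2, 0, 2, 0, -2, -2, 2, 2, 2, -2, -2, 2, -2, -2, 0, 0, 0, 0, 0, -2, 2],
    [1, -1, -3, 1, -1, 1, 1, 1, -1, -1, -3, -1, 1, 1, 1, -1, -1, 3, -1, -3, -1, -1, 3, 1],
    [-1, 1, -3, 1, 1, -1, 1, -1, -1, -1, 3, -1, -1, -1, -1, 1, -1, 3, 1, 3, -1, -1, 3, 1],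
    [0, 2, -2, 2, 0, 2, 0, 2, 2, 2, -2, 2, 2, 0, 2, 0, 2, -2, -2, -2, 0, 0, -2, 0],
    [0, 2, 2, 2, 0, 2, 0, 2, -2, 2, 2, -2, -2, 0, 2, 0, 2, -2, 2, 2, 0, 0, 2, 0],
    [2, 2, 2, -2, 0, 2, -2, 0, 2, 2, 0, 2, 0, 0, 2, -2, 2, 2, 0, 2, 0, 0, 2, -2],
    [0, 0, 0, -4, 0, 0, 4, 0, 0, 0, 0, 0, 0, 0, 0, 4, 0, 0, 0, 0, 0, 0, 0, 4],
    [0, 0, 0, 4, 0, 0, 4, 0, 0, 0, 0, 0, 0, 0, 0, -4, 0, 0, 0, 0, 0, 0, 0, 4],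
    [0, 0, 0, 0, 0, 0, 0, 0, 0, 0, 0, 0, 0, -4, 0, 0, 0, 0, 4, 0, 4, 4, 0, 0],
    [0, 0, 0, 0, 0, 0, 0, 0, 0, 0, 0, 0, 0, 8, 0, 0, 0, 0, 0, 0, 0, 0, 0, 0],
    [0, 0, 0, 0, 0, 0, 0, 0, 0, 0, 0, 0, 0, 8, 0, 0, 0, 0, 0, 0, 0, 0, 0, 0],
    [0, 0, 0, 0, 0, 0, 0, 0, 0, 0, 0, 0, 0, 0, 0, 0, 0, 0, 0, 0, 0, 8, 0, 0]],
  [[-1, -1, -1, -1, -1, 1, 1, -1, -3, 1, -1, 1, 3, 1, 1, -3, 1, 1, 1, -3, 1, 1, -3, 1],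
    [-1, 1, -3, -1, 1, 1, 1, 1, 1, -1, -1, -1, -1, 1, -1, 1, 1, 1, 1, -3, -3, 1, -3, 3],
    [-1, -1, -3, -1, -1, 1, 1, 1, 1, 1, 1, -1, 1, 1, 1, 1, 1, 1, 1, 3, 3, 1, -3, 3],
    [2, 2, 0, 2, 2, 2, -2, 0, 2, -2, 0, 0, 0, 2, 2, 2, 2, 2, 2, 0, 0, 2, 2, 0],
    [2, -2, -2, 2, 0, 2, 2, 2, 2, 2, 2, 2, 0, 0, 2, 2, 0, 0, 2, 0, 0, 2, 2, 0],
    [2, -2, -2, -2, 0, 2, 2, 2, 2, -2, 2, -2, 0, 0, -2, -2, 0, 0, -2, 0, 0, -2, -2, 0],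
    [4, 0, 0, 0, 2, -2, -4, 0, -2, 0, 0, 0, 2, -2, 2, 2, 0, 0, 0, 0, -2, 0, 0, 0],
    [0, 2, 0, 0, -2, 4, -2, 0, 0, 0, 0, 0, -4, 0, 0, 0, 0, 2, -2, -2, 2, 2, 0, 0],
    [0, 2, 0, 0, 2, 4, 2, 0, 0, 0, 0, 0, 4, 0, 0, 0, 0, 2, 2, 2, 2, 2, 0, 0],
    [-1, 1, -1, -1, 1, -1, -1, 3, 1, 1, 3, 1, -1, 3, 3, 1, 1, 1, 1, -1, 1, 1, 1, 3],
    [1, -1, -1, -1, -1, 1, -1, -3, 1, 1, -3, 1, 1, -3, -3, -1, 1, 1, -1, 1, 1, 1, 1, 3],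
    [2, 0, 0, 0, -2, 0, 2, 0, 0, 0, 0, 0, -4, 2, 4, 2, 0, 0, 0, 0, -2, -2, 0, -2],
    [2, 0, 0, 0, 2, 0, -2, 0, 0, 0, 0, 0, 4, 2, 4, -2, 0, 0, 0, 0, -2, -2, 0, 2],
    [0, 0, 0, 0, -2, 0, 4, -2, 0, 4, 2, 0, -2, 2, 0, 0, 0, 0, 2, 0, -2, 2, 0, 0],
    [0, 0, 0, 0, 0, 0, 0, 0, 0, 0, -4, 4, 0, 0, 0, 0, 0, 0, 0, 0, 4, 0, 4, 0],
    [0, 0, 0, 0, 0, 0, 0, 0, 0, 0, -4, -4, 0, 0, 0, 0, 0, 0, 0, 0, 4, 0, -4, 0],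
    [-4, -4, 4, -4, 0, 0, 0, 0, 0, 0, 0, 0, 0, 0, 0, 0, 0, 0, 0, 0, 0, 0, 0, 0],
    [0, 0, 8, 0, 0, 0, 0, 0, 0, 0, 0, 0, 0, 0, 0, 0, 0, 0, 0, 0, 0, 0, 0, 0],
    [0, 0, 8, 0, 0, 0, 0, 0, 0, 0, 0, 0, 0, 0, 0, 0, 0, 0, 0, 0, 0, 0, 0, 0],
    [0, 0, 0, 0, 0, 0, 0, 0, 0, 0, 0, 0, 0, 0, 0, 0, 0, 0, 0, 0, 0, 0, 8, 0]],
  [[-1, -1, -1, -1, -1, 1, 1, -1, -3, -3, 3, 1, -1, 1, 1, 1, 1, -3, 1, 1, 1, 1, 1, -3],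
    [-1, 1, 1, -1, 1, 1, 1, 1, -3, -1, -1, -1, 3, 1, -1, 1, -3, 1, 1, 1, -3, -3, 1, -1],
    [-1, -1, 1, -1, -1, 1, 1, 1, -3, 1, 1, -1, -3, 1, 1, 1, -3, 1, 1, -1, 3, -3, 1, -1],
    [0, 0, 2, 0, 0, 0, 0, -2, 0, 0, -2, 2, 2, 0, 0, -4, 0, 0, 0, -2, -2, 4, 0, 2],
    [0, 0, 0, 4, 2, 0, 0, 0, 0, -4, 0, 0, -2, -2, 0, 0, 2, 2, 0, -2, 2, 0, 0, -2],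
    [0, 0, 0, -4, -2, 0, 0, 0, 0, 4, 0, 0, -2, 2, 0, 0, -2, 2, 0, 2, 2, 0, 0, -2],
    [2, 2, 2, -2, 0, 0, 2, -2, 0, -2, -2, 2, 0, 0, 0, 0, 2, -2, 2, -2, 0, 2, 2, 2],
    [2, 0, 2, -2, 0, 2, 0, -2, -2, 2, 2, 2, 2, 2, -2, -2, 2, 0, 0, 0, 0, 0, 2, -2],
    [2, 0, -2, -2, 0, 2, 0, -2, 2, 2, -2, -2, -2, 2, -2, 2, 2, 0, 0, 0, 0, 0, -2, 2],
    [3, 1, -1, -1, -3, -1, -1, -1, 1, -3, -1, 1, -1, -1, 3, 1, 1, 1, 1, 3, 1, 1, 1, -1],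
    [-3, -1, -1, -1, 3, 1, -1, 1, 1, -3, 1, 1, 1, 1, -3, -1, 1, 1, -1, -3, 1, 1, 1, -1],
    [0, 2, 2, 2, 0, -2, 0, 2, -2, 2, 2, -2, 2, 0, 2, 0, -2, -2, 2, 2, 0, 0, -2, 0],
    [0, 2, -2, 2, 0, -2, 0, 2, 2, 2, -2, 2, -2, 0, 2, 0, -2, -2, -2, -2, 0, 0, 2, 0],
    [-2, 2, 2, 2, 0, -2, -2, 0, -2, 2, 0, -2, 0, 0, 2, -2, -2, 2, 0, 2, 0, 0, -2, 2],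
    [-4, 0, 0, 0, 0, 4, 0, 0, 0, -4, 0, 0, 0, 0, 0, 0, 0, 0, 0, -4, 0, 0, 0, 0],
    [-4, 0, 0, 0, 0, 4, 0, 0, 0, 4, 0, 0, 0, 0, 0, 0, 0, 0, 0, 4, 0, 0, 0, 0],
    [0, 0, 0, 0, 0, 0, 0, 0, -4, 0, 0, 0, 0, 0, 0, 4, 4, 0, 0, 4, 0, 0, 0, 0],
    [0, 0, 0, 0, 0, 0, 0, 0, 8, 0, 0, 0, 0, 0, 0, 0, 0, 0, 0, 0, 0, 0, 0, 0],
    [0, 0, 0, 0, 0, 0, 0, 0, 8, 0, 0, 0, 0, 0, 0, 0, 0, 0, 0, 0, 0, 0, 0, 0],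
    [0, 0, 0, 0, 0, 0, 0, 0, 0, 0, 0, 0, 0, 0, 0, 0, 0, 0, 0, 0, 0, 0, 0, 8]]]

/-- a dodecad -/
def epsM : ℕ :=
  849075

end Cfsg.Agent.Spor.Co1Seven
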