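/-
Invariant quadratic forms on the Leech lattice modulo two.
-/
import Cfsg.Agent.Lib.Spor.LeechAuto

set_option autoImplicit false
set_option maxRecDepth 100000

namespace Cfsg.Agent.Spor

open Cfsg
open scoped Pointwise

local notation "Zv" => GolayPt → ℤ
set_option quotPrecheck false in
local notation "Lv" => ↥leechLattice

/-- polarisation -/
def bq (Q : Lv → ZMod 2) (u v : Lv) : ZMod 2 := Q (u + v) + Q u + Q v

/-- an invariant quadratic form on the lattice modulo two -/
structure InvQ (Q : Lv → ZMod 2) : Prop where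
  coset : ∀ v w : Lv, Q (v + (w + w)) = Q v
  quad : ∀ u v w : Lv, Q (u + v + w) + Q u + Q v + Q w = Q (u + v) + Q (u + w) + Q (v + w)
  inv : ∀ (g : ↥Co0) (v : Lv), Q (g • v) = Q v

theorem bit_polar : ∀ a b c d e f g : ZMod 2, a + b + c + d = e + f + g →
    a + e + d = (f + b + d) + (g + c + d) := by decide

theorem bit_zero : ∀ a : ZMod 2, a + a + a + a = a + a + a → a = 0 := by decide

theorem co0_smul_add (g : ↥Co0) (u v : Lv) : g • (u + v) = g • u + g • v := g.2.1 u v

variable {Q : Lv → ZMod 2}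

theorem InvQ.at_zero (h : InvQ Q) : Q 0 = 0 := by
  have := h.quad 0 0 0
  simp only [add_zero] at this
  exact bit_zero _ this

theorem InvQ.bq_add (h : InvQ Q) (u v w : Lv) : bq Q (u + v) w = bq Q u w + bq Q v w :=
  bit_polar _ _ _ _ _ _ _ (h.quad u v w)

theorem bq_comm (Q : Lv → ZMod 2) (u v : Lv) : bq Q u v = bq Q v u := by
  unfold bq; rw [add_comm u v, add_right_comm]

theorem InvQ.bq_inv (h : InvQ Q) (g : ↥Co0) (u v : Lv) : bq Q (g • u) (g • v) = bq Q u v := by
  unfold bq; rw [← co0_smul_add, h.inv, h.inv, h.inv]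

theorem InvQ.bq_self (h : InvQ Q) (u : Lv) : bq Q u u = 0 := by
  have h2 : Q (u + u) = 0 := by rw [← zero_add (u + u), h.coset, h.at_zero]
  rw [bq, h2, zero_add, ZModModule.add_self]

/-- polarisation at a vector -/
noncomputable def InvQ.hom (h : InvQ Q) (u : Lv) : Lv →+ ZMod 2 :=
  AddMonoidHom.mk' (bq Q u) fun v w => by
    rw [bq_comm, h.bq_add, bq_comm Q v, bq_comm Q w]

theorem InvQ.hom_apply (h : InvQ Q) (u v : Lv) : h.hom u v = bq Q u v := rfl

/-! ### the vectors -/

/-- four at two points -/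
def uv (i j : GolayPt) (hij : i ≠ j) : Lv := ⟨pairVec i j 1, (pairVec_spec hij (Or.inl rfl)).1⟩

theorem eight_check : ∀ i : GolayPt, leechCheck (fun k => if k = i then (8 : ℤ) else 0) = true := by
  decide +kernel

/-- eight at one point -/
def eight (i : GolayPt) : Lv := ⟨_, leechCheck_mem (eight_check i)⟩

/-- the odd vector -/
def oddL : Lv := ⟨oddVec, oddVec_mem⟩

/-- twice a code word -/
def dblL {c : GolayPt → ZMod 2} (hc : c ∈ golayCode) : Lv := ⟨dbl c, dbl_mem hc⟩

theorem eight_split (i : GolayPt) :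
    eight i = eight none + (⟨diffVec i, diffVec_mem i⟩ + ⟨diffVec i, diffVec_mem i⟩) := by
  refine Subtype.ext (funext fun k => ?_)
  show (if k = i then (8 : ℤ) else 0) =
    (if k = none then 8 else 0) + (diffVec i k + diffVec i k)
  unfold diffVec
  split_ifs <;> ring

theorem InvQ.bq_eight (h : InvQ Q) (i : GolayPt) (v : Lv) :
    bq Q (eight i) v = bq Q (eight none) v := by
  rw [eight_split, h.bq_add, h.bq_add, ZModModule.add_self, add_zero]

theorem prm_single {α : Type*} (σ : Equiv.Perm GolayPt) (i k : GolayPt) (a b : α) :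
    (if σ.symm k = i then a else b) = if k = σ i then a else b :=
  if_congr (Equiv.symm_apply_eq σ) rfl rfl

theorem smul_eight {g : ↥Co0} {σ : Equiv.Perm GolayPt}
    (hg : ∀ v : Lv, ((g • v : Lv) : Zv) = prm σ v) (i : GolayPt) : g • eight i = eight (σ i) :=
  Subtype.ext ((hg _).trans (funext fun k => prm_single σ i k 8 0))

theorem smul_uv {g : ↥Co0} {σ : Equiv.Perm GolayPt}
    (hg : ∀ v : Lv, ((g • v : Lv) : Zv) = prm σ v) (i j : GolayPt) (hij : i ≠ j) :
    g • uv i j hij = uv (σ i) (σ j) (fun e => hij (σ.injective e)) := by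
  refine Subtype.ext ((hg _).trans (funext fun k => ?_))
  show pairVec i j 1 (σ.symm k) = pairVec (σ i) (σ j) 1 k
  simp only [pairVec, prm_single]

theorem uv_triangle {i j k : GolayPt} (hij : i ≠ j) (hjk : j ≠ k) (hik : i ≠ k) :
    uv i j hij + uv j k hjk = uv i k hik + eight j := by
  refine Subtype.ext (funext fun p => ?_)
  show pairVec i j 1 p + pairVec j k 1 p = pairVec i k 1 p + (if p = j then 8 else 0)
  unfold pairVec
  by_cases h1 : p = i
  · subst h1; simp [hij, hik]
  · by_cases h2 : p = j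
    · subst h2; simp [h1, hjk]
    · by_cases h3 : p = k
      · subst h3; simp [h1, h2]
      · simp [h1, h2, h3]

/-- the base pair -/
abbrev u₀ : Lv := uv (some 0) none (by simp)

theorem bit_eq : ∀ a b : ZMod 2, a + a = a + b → a = b := by decide

theorem InvQ.eight_pair (h : InvQ Q) (i j : GolayPt) (hij : i ≠ j) :
    bq Q (eight none) (uv i j hij) = 0 := by
  have hinvσ : ∀ (a b : GolayPt) (hab : a ≠ b) (σ : Equiv.Perm GolayPt), σ ∈ M24 →
      bq Q (eight none) (uv (σ a) (σ b) (fun e => hab (σ.injective e))) =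
        bq Q (eight none) (uv a b hab) := by
    intro a b hab σ hσ
    obtain ⟨g, hg⟩ := exists_prm hσ
    rw [← smul_uv hg a b hab, ← h.bq_eight (σ none), ← smul_eight hg, h.bq_inv]
  have hconst : ∀ (a b : GolayPt) (hab : a ≠ b),
      bq Q (eight none) (uv a b hab) = bq Q (eight none) u₀ := by
    intro a b hab
    obtain ⟨σ, hσ, hm⟩ := M24_trans (k := 2) (by norm_num) ⟨![(some 0 : GolayPt), none], by decide⟩
      ⟨![a, b], by intro x y; fin_cases x <;> fin_cases y <;> simp [hab, Ne.symm hab]⟩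
    have e0 : σ (some 0) = a := hm 0
    have e1 : σ none = b := hm 1
    subst e0; subst e1
    exact hinvσ _ _ _ σ hσ
  have := congrArg (h.hom (eight none))
    (uv_triangle (i := some 0) (j := none) (k := some 1) (by simp) (by simp) (by decide))
  rw [map_add, map_add, h.hom_apply, h.hom_apply, h.hom_apply, h.hom_apply, hconst _ _ _,
    hconst none (some 1) (by simp), hconst (some 0) (some 1) (by decide), h.bq_eight none, h.bq_self,
    ] at this
  rw [hconst i j hij]
  exact bit_eq _ _ this

theorem InvQ.base_pair (h : InvQ Q) (i : GolayPt) (hi : i ≠ none) :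
    bq Q u₀ (uv i none hi) = 0 := by
  rcases eq_or_ne i (some 0) with rfl | hi0
  · exact h.bq_self _
  have hdis : ∀ (a b c d : GolayPt) (hab : a ≠ b) (hcd : c ≠ d), a ≠ c → a ≠ d → b ≠ c → b ≠ d →
      bq Q (uv a b hab) (uv c d hcd) = bq Q u₀ (uv (some 1) (some 2) (by decide)) := by
    intro a b c d hab hcd hac had hbc hbd
    obtain ⟨σ, hσ, hm⟩ := M24_trans (k := 4) (by norm_num)
      ⟨![(some 0 : GolayPt), none, some 1, some 2], by decide⟩
      ⟨![a, b, c, d], by
        intro x y
        fin_cases x <;> fin_cases y <;>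
          simp [hab, Ne.symm hab, hcd, Ne.symm hcd, hac, Ne.symm hac, had, Ne.symm had, hbc,
            Ne.symm hbc, hbd, Ne.symm hbd]⟩
    have e0 : σ (some 0) = a := hm 0
    have e1 : σ none = b := hm 1
    have e2 : σ (some 1) = c := hm 2
    have e3 : σ (some 2) = d := hm 3
    subst e0; subst e1; subst e2; subst e3
    obtain ⟨g, hg⟩ := exists_prm hσ
    rw [← smul_uv hg, ← smul_uv hg, h.bq_inv]
  have hg0 : bq Q u₀ (uv (some 1) (some 2) (by decide)) = 0 := by
    have := congrArg (h.hom u₀)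
      (uv_triangle (i := some 1) (j := some 2) (k := some 3) (by decide) (by decide) (by decide))
    rw [map_add, map_add, h.hom_apply, h.hom_apply, h.hom_apply, h.hom_apply,
      hdis _ _ (some 2) (some 3) _ _ (by decide) (by decide) (by decide) (by decide),
      hdis _ _ (some 1) (some 3) _ _ (by decide) (by decide) (by decide) (by decide),
      bq_comm Q u₀ (eight _), h.bq_eight, h.eight_pair] at this
    exact bit_eq _ _ this
  have hsh : ∀ (a b c : GolayPt) (hba : b ≠ a) (hca : c ≠ a), b ≠ c →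
      bq Q (uv b a hba) (uv c a hca) = bq Q u₀ (uv i none hi) := by
    intro a b c hba hca hbc
    obtain ⟨σ, hσ, hm⟩ := M24_trans (k := 3) (by norm_num)
      ⟨![(some 0 : GolayPt), none, i], by
        intro x y; fin_cases x <;> fin_cases y <;> simp [hi, Ne.symm hi, hi0, Ne.symm hi0]⟩
      ⟨![b, a, c], by
        intro x y; fin_cases x <;> fin_cases y <;>
          simp [hba, Ne.symm hba, hca, Ne.symm hca, hbc, Ne.symm hbc]⟩
    have e0 : σ (some 0) = b := hm 0
    have e1 : σ none = a := hm 1
    have e2 : σ i = c := hm 2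
    subst e0; subst e1; subst e2
    obtain ⟨g, hg⟩ := exists_prm hσ
    rw [← smul_uv hg, ← smul_uv hg, h.bq_inv]
  have hc : ofMaskW 5279 ∈ golayCode := mem_code.2 (inCode_mem (by decide +kernel))
  have hoct : uv (some 1) (some 0) (by decide) + uv (some 2) (some 3) (by decide) +
      uv (some 4) (some 7) (by decide) + uv (some 10) (some 12) (by decide) = dblL hc + dblL hc := by
    refine Subtype.ext (funext fun p => ?_)
    show pairVec (some 1) (some 0) 1 p + pairVec (some 2) (some 3) 1 p + pairVec (some 4) (some 7) 1 p +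
      pairVec (some 10) (some 12) 1 p = dbl (ofMaskW 5279) p + dbl (ofMaskW 5279) p
    revert p; decide +kernel
  have := congrArg (h.hom (uv none (some 0) (by simp))) hoct
  rw [map_add, map_add, map_add, map_add, ZModModule.add_self] at this
  simp only [h.hom_apply] at this
  rw [hsh (some 0) none (some 1) _ _ (by simp),
    hdis _ _ (some 2) (some 3) _ _ (by decide) (by decide) (by decide) (by decide),
    hdis _ _ (some 4) (some 7) _ _ (by decide) (by decide) (by decide) (by decide),
    hdis _ _ (some 10) (some 12) _ _ (by decide) (by decide) (by decide) (by decide), hg0] at this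
  simpa using this

/-- a homomorphism vanishing on pairs vanishes on multiples of four -/
theorem hom_four (f : Lv →+ ZMod 2) (h8 : f (eight none) = 0)
    (hp : ∀ (i : GolayPt) (hi : i ≠ none), f (uv i none hi) = 0) (x : Lv)
    (h4 : ∀ i, (x : Zv) i % 4 = 0) : f x = 0 := by
  have hd : ∀ i, (diffVec i : Zv) ∈ f.ker.map leechLattice.subtype := by
    intro i
    refine ⟨⟨diffVec i, diffVec_mem i⟩, ?_, rfl⟩
    rw [SetLike.mem_coe, AddMonoidHom.mem_ker]
    by_cases hi : i = none
    · subst hi
      rw [show (⟨diffVec none, diffVec_mem none⟩ : Lv) = 0 from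
        Subtype.ext (funext fun k => sub_self _), map_zero]
    · have : uv i none hi = ⟨diffVec i, diffVec_mem i⟩ + eight none := by
        refine Subtype.ext (funext fun k => ?_)
        show pairVec i none 1 k = diffVec i k + (if k = none then 8 else 0)
        unfold pairVec diffVec
        by_cases h1 : k = i
        · subst h1; simp [hi]
        · by_cases h2 : k = none <;> simp [h1, h2, hi, Ne.symm hi]
      have := congrArg f this
      rw [map_add, hp i hi, h8, add_zero] at this
      exact this.symm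
  obtain ⟨y, hy, e⟩ := four_mem _ hd ⟨eight none, h8, rfl⟩ x.2 h4
  rw [← Subtype.ext e]; exact hy

theorem InvQ.base_four (h : InvQ Q) (x : Lv) (h4 : ∀ i, (x : Zv) i % 4 = 0) : bq Q u₀ x = 0 :=
  hom_four (h.hom u₀) (by rw [h.hom_apply, bq_comm]; exact h.eight_pair _ _ _)
    (fun i hi => h.base_pair i hi) x h4

theorem InvQ.eight_four (h : InvQ Q) (x : Lv) (h4 : ∀ i, (x : Zv) i % 4 = 0) :
    bq Q (eight none) x = 0 :=
  hom_four (h.hom (eight none)) (h.bq_self _) (fun i hi => h.eight_pair i none hi) x h4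

theorem sgn_base {g : ↥Co0} {c : GolayPt → ZMod 2}
    (hg : ∀ v : Lv, ((g • v : Lv) : Zv) = sgn c v) :
    g • u₀ = u₀ - (if c (some 0) = 0 then 0 else eight (some 0)) - (if c none = 0 then 0 else eight none) := by
  refine Subtype.ext ((hg _).trans (funext fun k => ?_))
  show sgn c (pairVec (some 0) none 1) k = _
  by_cases h0 : k = some 0
  · subst h0; by_cases a : c (some 0) = 0 <;> by_cases b : c none = 0 <;> simp [sgn, pairVec, eight, a, b, uv]
  · by_cases h1 : k = none
    · subst h1; by_cases a : c (some 0) = 0 <;> by_cases b : c none = 0 <;> simp [sgn, pairVec, eight, a, b, uv]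
    · by_cases a : c (some 0) = 0 <;> by_cases b : c none = 0 <;> simp [sgn, pairVec, eight, a, b, uv, h0, h1]

theorem sgn_dbl_four (c d : GolayPt → ZMod 2) (i : GolayPt) :
    (sgn c (dbl d) i - dbl d i) % 4 = 0 := by
  unfold sgn dbl; split_ifs <;> rfl

theorem sgn_odd_four (c : GolayPt → ZMod 2) (i : GolayPt) :
    (sgn c oddVec i - (oddVec i + dbl c i)) % 4 = 0 := by
  unfold sgn dbl oddVec; split_ifs <;> rfl

theorem InvQ.eight_dbl (h : InvQ Q) {d : GolayPt → ZMod 2} (hd : d ∈ golayCode) :
    bq Q (eight none) (dblL hd) = 0 := by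
  have hc : ofMaskW 5279 ∈ golayCode := mem_code.2 (inCode_mem (by decide +kernel))
  obtain ⟨g, hg⟩ := exists_sgn hc
  have hu : g • u₀ + eight (some 0) = u₀ := by
    rw [sgn_base hg, if_neg (by decide), if_pos (by decide), sub_zero, sub_add_cancel]
  have h4 : ∀ i, ((g • dblL hd - dblL hd : Lv) : Zv) i % 4 = 0 := fun i => by
    rw [AddSubgroup.coe_sub, hg]; exact sgn_dbl_four _ _ i
  have e1 := h.base_four _ h4
  rw [← h.hom_apply, map_sub, sub_eq_zero, h.hom_apply, h.hom_apply] at e1
  have e2 := h.eight_four _ h4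
  rw [← h.hom_apply, map_sub, sub_eq_zero, h.hom_apply, h.hom_apply] at e2
  have h1 := h.bq_inv g u₀ (dblL hd)
  have h2 := h.bq_add (g • u₀) (eight (some 0)) (g • dblL hd)
  rw [hu, e1, h1, h.bq_eight, e2] at h2
  simpa using h2

/-- the degenerate case -/
structure InvQ0 (Q : Lv → ZMod 2) : Prop extends InvQ Q where
  deg : bq Q (eight none) oddL = 0

theorem InvQ0.eight_all (h : InvQ0 Q) (v : Lv) : bq Q (eight none) v = 0 := by
  have hle : leechLattice ≤ (h.toInvQ.hom (eight none)).ker.map leechLattice.subtype := by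
    refine leech_le_of _ (AddSubgroup.map_subtype_le _) (fun i hi => ⟨?_, ?_⟩) (fun o ho => ?_) ?_
    · exact ⟨uv i none hi, h.toInvQ.eight_pair i none hi, rfl⟩
    · refine ⟨⟨_, (pairVec_spec hi (Or.inr rfl)).1⟩, h.toInvQ.eight_four _ fun k => ?_, rfl⟩
      simp only [pairVec]; split_ifs <;> rfl
    · exact ⟨dblL (mem_code.2 (by rw [wmask_ofMaskW (octMasks_lt (octBasis_facts.1 o ho))]
                                  exact (List.mem_filter.1 (octBasis_facts.1 o ho)).1)),
        h.toInvQ.eight_dbl _, rfl⟩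
    · exact ⟨oddL, h.deg, rfl⟩
  obtain ⟨y, hy, e⟩ := hle v.2
  rw [← Subtype.ext e]; exact hy

theorem InvQ0.eight_all' (h : InvQ0 Q) (i : GolayPt) (v : Lv) : bq Q (eight i) v = 0 := by
  rw [h.toInvQ.bq_eight]; exact h.eight_all v

theorem InvQ0.base_sgn (h : InvQ0 Q) {g : ↥Co0} {c : GolayPt → ZMod 2}
    (hg : ∀ v : Lv, ((g • v : Lv) : Zv) = sgn c v) (v : Lv) :
    bq Q (g • u₀) v = bq Q u₀ v := by
  have h0 : ∀ (P : Prop) [Decidable P] (i : GolayPt), bq Q (if P then 0 else eight i) v = 0 := by
    intro P _ i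
    split_ifs
    · simp [bq, h.toInvQ.at_zero, ZModModule.add_self]
    · exact h.eight_all' i v
  rw [sgn_base hg, bq_comm, ← h.toInvQ.hom_apply, map_sub, map_sub]
  simp only [h.toInvQ.hom_apply, bq_comm Q v]
  rw [h0, h0, sub_zero, sub_zero]

theorem InvQ0.base_dbl (h : InvQ0 Q) {c : GolayPt → ZMod 2} (hc : c ∈ golayCode) :
    bq Q u₀ (dblL hc) = 0 := by
  obtain ⟨g, hg⟩ := exists_sgn hc
  have h1 := h.toInvQ.bq_inv g u₀ oddL
  have hx := h.toInvQ.base_four (g • oddL - (oddL + dblL hc)) fun i => by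
    rw [AddSubgroup.coe_sub, hg]; exact sgn_odd_four c i
  rw [← h.toInvQ.hom_apply, map_sub, sub_eq_zero, map_add] at hx
  simp only [h.toInvQ.hom_apply] at hx
  rw [h.base_sgn hg, hx] at h1
  simpa using h1

theorem InvQ0.pair_odd (h : InvQ0 Q) (i j : GolayPt) (hij : i ≠ j) :
    bq Q (uv i j hij) oddL = bq Q u₀ oddL := by
  obtain ⟨σ, hσ, hm⟩ := M24_trans (k := 2) (by norm_num) ⟨![(some 0 : GolayPt), none], by decide⟩
    ⟨![i, j], by intro x y; fin_cases x <;> fin_cases y <;> simp [hij, Ne.symm hij]⟩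
  have e0 : σ (some 0) = i := hm 0
  have e1 : σ none = j := hm 1
  subst e0; subst e1
  obtain ⟨g, hg⟩ := exists_prm hσ
  rw [← smul_uv hg, ← smul_inv_smul g oddL, h.toInvQ.bq_inv, smul_inv_smul]
  have hx : bq Q u₀ (g⁻¹ • oddL - oddL) = 0 := h.toInvQ.base_four _ fun k => by
    have e := congrFun (hg (g⁻¹ • oddL)) (σ k)
    rw [smul_inv_smul, prm, Equiv.symm_apply_apply] at e
    rw [AddSubgroup.coe_sub, Pi.sub_apply, ← e]
    show (oddVec (σ k) - oddVec k) % 4 = 0
    unfold oddVec; split_ifs <;> rfl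
  rw [← h.toInvQ.hom_apply, map_sub, sub_eq_zero] at hx
  exact hx

theorem InvQ0.base_all (h : InvQ0 Q) (v : Lv) : bq Q u₀ v = 0 := by
  have hν : bq Q u₀ oddL = 0 := by
    have := congrArg (fun x => bq Q x oddL)
      (uv_triangle (i := some 0) (j := none) (k := some 1) (by simp) (by simp) (by decide))
    simp only [h.toInvQ.bq_add] at this
    rw [h.pair_odd none (some 1), h.pair_odd (some 0) (some 1), h.eight_all' none, h.pair_odd (some 0) none] at this
    exact bit_eq _ _ this
  have hle : leechLattice ≤ (h.toInvQ.hom u₀).ker.map leechLattice.subtype := by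
    refine leech_le_of _ (AddSubgroup.map_subtype_le _) (fun i hi => ⟨?_, ?_⟩) (fun o ho => ?_) ?_
    · exact ⟨uv i none hi, h.toInvQ.base_pair i hi, rfl⟩
    · refine ⟨⟨_, (pairVec_spec hi (Or.inr rfl)).1⟩, h.toInvQ.base_four _ fun k => ?_, rfl⟩
      simp only [pairVec]; split_ifs <;> rfl
    · exact ⟨dblL (mem_code.2 (by rw [wmask_ofMaskW (octMasks_lt (octBasis_facts.1 o ho))]
                                  exact (List.mem_filter.1 (octBasis_facts.1 o ho)).1)),
        h.base_dbl _, rfl⟩
    · exact ⟨oddL, hν, rfl⟩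
  obtain ⟨y, hy, e⟩ := hle v.2
  rw [← Subtype.ext e]; exact hy

/-- the radical zeros -/
def InvQ.rad (h : InvQ Q) : AddSubgroup Lv where
  carrier := {v | Q v = 0 ∧ ∀ x, bq Q v x = 0}
  zero_mem' := ⟨h.at_zero, fun x => by simp [bq, h.at_zero, ZModModule.add_self]⟩
  add_mem' := by
    rintro a b ⟨ha, ha'⟩ ⟨hb, hb'⟩
    refine ⟨?_, fun x => by rw [h.bq_add, ha', hb', add_zero]⟩
    have := ha' b
    rw [bq, ha, hb, add_zero, add_zero] at this
    exact this
  neg_mem' := by
    rintro a ⟨ha, ha'⟩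
    have e : -a = a + (-a + -a) := by abel
    have hz : ∀ v w : Lv, bq Q (v + (w + w)) = bq Q v := fun v w => funext fun x => by
      rw [h.bq_add, h.bq_add, ZModModule.add_self, add_zero]
    refine ⟨by rw [e, h.coset, ha], fun x => ?_⟩
    rw [e, hz]; exact ha' x

theorem InvQ.rad_smul (h : InvQ Q) (g : ↥Co0) {v : Lv} (hv : v ∈ h.rad) : g • v ∈ h.rad :=
  ⟨(h.inv g v).trans hv.1, fun x => by rw [← smul_inv_smul g x, h.bq_inv]; exact hv.2 _⟩

theorem base_octad : (sgn (ofMaskW 5902343) (xi (pairVec (pt 3) (pt 12) 1))) = dbl (ofMaskW 5279) ∧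
    sgn (ofMaskW 12656663) (xi (dbl (ofMaskW 4415544))) = oddVec := by
  constructor <;> (funext p; revert p; decide +kernel)

theorem separating : ∀ i : GolayPt, i ≠ none → ∃ o ∈ octBasis, ofMaskW o i ≠ ofMaskW o none := by
  decide +kernel

theorem InvQ0.eq_zero (h : InvQ0 Q) (v : Lv) : Q v = 0 := by
  have hQ8 : Q (eight none) = 0 := by
    have hc : ofMaskW 5279 ∈ golayCode := mem_code.2 (inCode_mem (by decide +kernel))
    obtain ⟨g, hg⟩ := exists_sgn hc
    obtain ⟨σ, hσ, hm⟩ := M24_trans (k := 1) (by norm_num)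
      ⟨![(some 0 : GolayPt)], by decide⟩ ⟨![(none : GolayPt)], by decide⟩
    obtain ⟨p, hp⟩ := exists_prm hσ
    have e : Q (eight none) = Q (eight (some 0)) := by
      rw [← h.toInvQ.inv p (eight (some 0)), smul_eight hp]
      exact congrArg (fun i => Q (eight i)) (hm 0).symm
    have hu : g • u₀ + eight (some 0) = u₀ := by
      rw [sgn_base hg, if_neg (by decide), if_pos (by decide), sub_zero, sub_add_cancel]
    have hb : bq Q (g • u₀) (eight (some 0)) = 0 := by rw [h.base_sgn hg]; exact h.base_all _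
    rw [bq, hu, h.toInvQ.inv, ZModModule.add_self, zero_add] at hb
    rw [e, hb]
  have h8 : ∀ i, Q (eight i) = 0 := fun i => by rw [eight_split, h.toInvQ.coset, hQ8]
  have horb : ∀ (i j : GolayPt) (hij : i ≠ j), ∃ g : ↥Co0, g • u₀ = uv i j hij := by
    intro i j hij
    obtain ⟨σ, hσ, hm⟩ := M24_trans (k := 2) (by norm_num) ⟨![(some 0 : GolayPt), none], by decide⟩
      ⟨![i, j], by intro x y; fin_cases x <;> fin_cases y <;> simp [hij, Ne.symm hij]⟩
    have e0 : σ (some 0) = i := hm 0
    have e1 : σ none = j := hm 1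
    subst e0; subst e1
    obtain ⟨g, hg⟩ := exists_prm hσ
    exact ⟨g, smul_uv hg _ _ _⟩
  have hα : Q u₀ = 0 := by
    have hQ : ∀ (i j : GolayPt) (hij : i ≠ j), Q (uv i j hij) = Q u₀ := by
      intro i j hij; obtain ⟨g, hg⟩ := horb i j hij; rw [← hg, h.toInvQ.inv]
    have e := congrArg Q
      (uv_triangle (i := some 0) (j := none) (k := some 1) (by simp) (by simp) (by decide))
    have b1 : bq Q u₀ (uv none (some 1) (by simp)) = 0 := h.base_all _
    have b2 : bq Q (eight none) (uv (some 0) (some 1) (by decide)) = 0 := h.eight_all _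
    rw [bq, hQ none (some 1)] at b1
    rw [bq, h8, hQ (some 0) (some 1), add_comm (eight none)] at b2
    rw [e] at b1
    generalize Q (uv (some 0) (some 1) _ + eight none) = a at b1 b2
    generalize Q u₀ = b at b1 b2
    revert a b; decide
  have hu : u₀ ∈ h.toInvQ.rad := ⟨hα, h.base_all⟩
  have hpair : ∀ (i j : GolayPt) (hij : i ≠ j), uv i j hij ∈ h.toInvQ.rad := by
    intro i j hij; obtain ⟨g, hg⟩ := horb i j hij; rw [← hg]; exact h.toInvQ.rad_smul g hu
  have hin : ∀ {x : Zv}, (∃ y : Lv, y ∈ h.toInvQ.rad ∧ (y : Zv) = x) →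
      x ∈ h.toInvQ.rad.map leechLattice.subtype := fun ⟨y, hy, e⟩ => ⟨y, hy, e⟩
  have hle : leechLattice ≤ h.toInvQ.rad.map leechLattice.subtype := by
    obtain ⟨ξ, hξ⟩ := exists_xi
    obtain ⟨s1, hs1⟩ := exists_sgn (c := ofMaskW 5902343) (mem_code.2 (inCode_mem (by decide +kernel)))
    obtain ⟨s2, hs2⟩ := exists_sgn (c := ofMaskW 12656663) (mem_code.2 (inCode_mem (by decide +kernel)))
    have hO : ∀ o ∈ octMasks, dbl (ofMaskW o) ∈ h.toInvQ.rad.map leechLattice.subtype := by
      intro o ho
      obtain ⟨σ, hσ, e⟩ := octad_map (ofMask o) (mem_octads.2 (by rwa [mask_ofMask (octMasks_lt ho)]))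
      obtain ⟨p, hp⟩ := exists_prm hσ
      refine hin ⟨p • s1 • ξ • uv (pt 3) (pt 12) (by decide), h.toInvQ.rad_smul _
        (h.toInvQ.rad_smul _ (h.toInvQ.rad_smul _ (hpair _ _ _))), ?_⟩
      rw [hp, hs1, hξ]
      show prm σ (sgn (ofMaskW 5902343) (xi (pairVec (pt 3) (pt 12) 1))) = _
      rw [base_octad.1]
      funext k
      have hw : actW σ (ofMaskW 5279) = ofMaskW o :=
        support₂_injective (by rw [support₂_actW, support₂_ofMaskW, support₂_ofMaskW, e])
      rw [← hw]; rfl
    refine leech_le_of _ (AddSubgroup.map_subtype_le _) (fun i hi => ⟨?_, ?_⟩)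
      (fun o ho => hO o (octBasis_facts.1 o ho)) ?_
    · exact ⟨uv i none hi, hpair _ _ _, rfl⟩
    · obtain ⟨o, ho, hne⟩ := separating i hi
      have hoc : ofMaskW o ∈ golayCode := mem_code.2 (by
        rw [wmask_ofMaskW (octMasks_lt (octBasis_facts.1 o ho))]
        exact (List.mem_filter.1 (octBasis_facts.1 o ho)).1)
      obtain ⟨g, hg⟩ := exists_sgn hoc
      have hm := h.toInvQ.rad_smul g (hpair i none hi)
      rcases word_eq_one_or_zero (ofMaskW o i) with hz | hz
      · refine hin ⟨_, hm, ?_⟩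
        rw [hg]; funext k
        by_cases h1 : k = i
        · subst h1; simp [sgn, uv, pairVec, hz]
        · by_cases h2 : k = none
          · subst h2; simp [sgn, uv, pairVec, h1, Ne.symm (hz ▸ hne)]
          · simp [sgn, uv, pairVec, h1, h2]
      · refine hin ⟨_, neg_mem hm, ?_⟩
        rw [AddSubgroup.coe_neg, hg]; funext k
        have hn : ofMaskW o none = 0 := by
          rcases word_eq_one_or_zero (ofMaskW o none) with h' | h'
          · exact h'
          · exact absurd (hz.trans h'.symm) hne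
        by_cases h1 : k = i
        · subst h1; simp [sgn, uv, pairVec, hz]
        · by_cases h2 : k = none
          · subst h2; simp [sgn, uv, pairVec, h1, hn]
          · simp [sgn, uv, pairVec, h1, h2]
    · obtain ⟨y, hy, e⟩ := hO 4415544 (by decide +kernel)
      refine hin ⟨s2 • ξ • y, h.toInvQ.rad_smul _ (h.toInvQ.rad_smul _ hy), ?_⟩
      rw [hs2, hξ]
      show sgn _ (xi ((leechLattice.subtype y))) = _
      rw [e, base_octad.2]
  obtain ⟨y, hy, e⟩ := hle v.2
  rw [← Subtype.ext e]; exact hy.1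

/-- the squared length divided by sixteen, modulo two -/
noncomputable def normQ (v : Lv) : ZMod 2 := ((sqNorm (v : Zv) / 16 : ℤ) : ZMod 2)

theorem normQ_inv : InvQ normQ := by
  have key : ∀ v w : Lv, sqNorm ((v + (w + w) : Lv) : Zv) / 16 % 2 = sqNorm (v : Zv) / 16 % 2 := by
    intro v w
    have hs := leech_norm (v + w).2
    have := (leech_norm v.2).1
    have := (leech_norm w.2).1
    have e : sqNorm ((v + (w + w) : Lv) : Zv) =
        2 * sqNorm ((v + w : Lv) : Zv) - sqNorm (v : Zv) + 2 * sqNorm (w : Zv) := by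
      simp only [sqNorm, AddSubgroup.coe_add, Pi.add_apply, Finset.mul_sum, ← Finset.sum_sub_distrib,
        ← Finset.sum_add_distrib]
      exact Finset.sum_congr rfl fun i _ => by ring
    have := hs.1
    omega
  refine ⟨fun v w => (ZMod.intCast_eq_intCast_iff' _ _ 2).2 (key v w), fun u v w => ?_, fun g v => ?_⟩
  · have e : sqNorm ((u + v + w : Lv) : Zv) + sqNorm (u : Zv) + sqNorm (v : Zv) + sqNorm (w : Zv) =
        sqNorm ((u + v : Lv) : Zv) + sqNorm ((u + w : Lv) : Zv) + sqNorm ((v + w : Lv) : Zv) := by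
      simp only [sqNorm, AddSubgroup.coe_add, Pi.add_apply, ← Finset.sum_add_distrib]
      exact Finset.sum_congr rfl fun i _ => by ring
    have := (leech_norm (u + v + w).2).1
    have := (leech_norm u.2).1
    have := (leech_norm v.2).1
    have := (leech_norm w.2).1
    have := (leech_norm (u + v).2).1
    have := (leech_norm (u + w).2).1
    have := (leech_norm (v + w).2).1
    simp only [normQ, ← Int.cast_add]
    rw [ZMod.intCast_eq_intCast_iff']
    omega
  · exact congrArg (fun z : ℤ => ((z / 16 : ℤ) : ZMod 2)) (g.2.2 v)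

theorem InvQ.combine {R : Lv → ZMod 2} (h : InvQ Q) (hR : InvQ R) (l : ZMod 2) :
    InvQ (fun v => Q v + l * R v) := by
  refine ⟨fun v w => by simp only [h.coset, hR.coset], fun u v w => ?_, fun g v => by simp only [h.inv, hR.inv]⟩
  linear_combination h.quad u v w + l * hR.quad u v w

theorem invariant_quadratic (h : InvQ Q) (hne : ∃ v, Q v ≠ 0) (v : Lv) : Q v = normQ v := by
  have hn : bq normQ (eight none) oddL = 1 := by
    simp only [bq, normQ]
    decide +kernel
  set l := bq Q (eight none) oddL with hl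
  have h0 : InvQ0 (fun v => Q v + l * normQ v) :=
    { h.combine normQ_inv l with
      deg := by
        rw [bq] at hn hl
        rw [bq]
        calc _ = l + l * 1 := by rw [hl, ← hn]; ring
          _ = 0 := by rw [mul_one, ZModModule.add_self] }
  have hz : ∀ w, Q w = l * normQ w := fun w => by
    have := h0.eq_zero w
    rw [add_eq_zero_iff_eq_neg, ZModModule.neg_eq_self] at this
    exact this
  obtain ⟨w, hw⟩ := hne
  rcases word_eq_one_or_zero l with e | e
  · rw [hz w, e, zero_mul] at hw; exact absurd rfl hw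
  · rw [hz v, e, one_mul]

end Cfsg.Agent.Spor
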