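/-
The squaring form of the extraspecial subgroup of Monster type is the norm form; it has a totally singular
twelve-dimensional subspace.
-/
import Cfsg.Agent.Lib.Spor.LeechQuad
import Cfsg.Agent.Lib.Solv.Extraspecial
import Cfsg.Prelude.Def_MonsterType

set_option autoImplicit false
set_option maxRecDepth 100000

namespace Cfsg.Agent.Spor.MonsterForm

open Cfsg
open scoped Pointwise commutatorElement

local notation "Zv" => GolayPt → ℤ
set_option quotPrecheck false in
local notation "Lv" => ↥leechLattice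

section Extra

variable {P : Type*} [Group P]

/-- zero at the identity -/
noncomputable def bit (a : P) : ZMod 2 := by classical exact if a = 1 then 0 else 1

theorem bit_eq_zero {a : P} : bit a = 0 ↔ a = 1 := by
  classical
  unfold bit; split_ifs with h <;> simp [h]

theorem bit_mul [Finite P] (hP : IsExtraspecial 2 P) {a b : P} (ha : a ∈ Subgroup.center P)
    (hb : b ∈ Subgroup.center P) : bit (a * b) = bit a + bit b := by
  classical
  obtain ⟨w, hw, hw1⟩ : ∃ w : P, (∀ x ∈ Subgroup.center P, x = 1 ∨ x = w) ∧ w * w = 1 := by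
    obtain ⟨u, v, huv, huniv⟩ := Nat.card_eq_two_iff.1 hP.2
    have hall : ∀ x : Subgroup.center P, x = u ∨ x = v := fun x => by
      have := Set.mem_univ x
      rw [← huniv] at this
      exact this
    have hsq : ∀ x : Subgroup.center P, (x : P) * x = 1 := fun x => by
      have h := pow_card_eq_one' (x := x)
      rw [hP.2, sq] at h
      exact congrArg Subtype.val h
    rcases hall 1 with h | h
    · exact ⟨v, fun x hx => by
        rcases hall ⟨x, hx⟩ with e | e
        · exact Or.inl (congrArg Subtype.val (e.trans h.symm))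
        · exact Or.inr (congrArg Subtype.val e), hsq v⟩
    · exact ⟨u, fun x hx => by
        rcases hall ⟨x, hx⟩ with e | e
        · exact Or.inr (congrArg Subtype.val e)
        · exact Or.inl (congrArg Subtype.val (e.trans h.symm)), hsq u⟩
  rcases hw a ha with rfl | rfl
  · simp [bit]
  rcases hw b hb with rfl | rfl
  · simp [bit]
  · simp only [bit, hw1, if_true]
    exact (ZModModule.add_self _).symm

theorem sq_center [Finite P] (hP : IsExtraspecial 2 P) (x : P) : x * x ∈ Subgroup.center P := by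
  haveI : Fact (Nat.Prime 2) := ⟨Nat.prime_two⟩
  have := Cfsg.Agent.Solv.extraspecial_pow_mem_center hP x
  rwa [sq] at this

theorem comm_center (hP : IsExtraspecial 2 P) (x y : P) : x * y * x⁻¹ * y⁻¹ ∈ Subgroup.center P := by
  rw [← hP.1.2.2, commutator_def]
  exact Subgroup.commutator_mem_commutator (Subgroup.mem_top x) (Subgroup.mem_top y)

/-- the squaring map as a bit -/
noncomputable def qf (x : P) : ZMod 2 := bit (x * x)

theorem qf_mul [Finite P] (hP : IsExtraspecial 2 P) (x y : P) :
    qf (x * y) = qf x + qf y + bit (y * x * y⁻¹ * x⁻¹) := by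
  have hc := comm_center hP y x
  have e : x * y * (x * y) = x * x * (y * y) * (y * x * y⁻¹ * x⁻¹) := by
    calc x * y * (x * y) = x * ((y * x * y⁻¹ * x⁻¹) * (x * y)) * y := by group
      _ = x * ((x * y) * (y * x * y⁻¹ * x⁻¹)) * y := by rw [Subgroup.mem_center_iff.1 hc (x * y)]
      _ = x * x * y * ((y * x * y⁻¹ * x⁻¹) * y) := by group
      _ = x * x * y * (y * (y * x * y⁻¹ * x⁻¹)) := by rw [Subgroup.mem_center_iff.1 hc y]
      _ = _ := by group
  rw [qf, qf, qf, e, bit_mul hP (mul_mem (sq_center hP x) (sq_center hP y)) hc,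
    bit_mul hP (sq_center hP x) (sq_center hP y)]

theorem comm_bit_left [Finite P] (hP : IsExtraspecial 2 P) (x y z : P) :
    bit (z * (x * y) * z⁻¹ * (x * y)⁻¹) = bit (z * x * z⁻¹ * x⁻¹) + bit (z * y * z⁻¹ * y⁻¹) := by
  have hc := comm_center hP z y
  have e : z * (x * y) * z⁻¹ * (x * y)⁻¹ = (z * x * z⁻¹ * x⁻¹) * (z * y * z⁻¹ * y⁻¹) := by
    calc z * (x * y) * z⁻¹ * (x * y)⁻¹ = z * x * z⁻¹ * ((z * y * z⁻¹ * y⁻¹) * x⁻¹) := by group
      _ = z * x * z⁻¹ * (x⁻¹ * (z * y * z⁻¹ * y⁻¹)) := by rw [Subgroup.mem_center_iff.1 hc x⁻¹]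
      _ = _ := by group
  rw [e, bit_mul hP (comm_center hP z x) hc]

theorem qf_three [Finite P] (hP : IsExtraspecial 2 P) (x y z : P) :
    qf (x * y * z) + qf x + qf y + qf z = qf (x * y) + qf (x * z) + qf (y * z) := by
  rw [qf_mul hP (x * y) z, comm_bit_left hP, qf_mul hP x y, qf_mul hP x z, qf_mul hP y z]
  generalize qf x = a
  generalize qf y = b
  generalize qf z = c
  generalize bit (y * x * y⁻¹ * x⁻¹) = p
  generalize bit (z * x * z⁻¹ * x⁻¹) = q
  generalize bit (z * y * z⁻¹ * y⁻¹) = r
  revert a b c p q r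
  decide

theorem qf_center [Finite P] (hP : IsExtraspecial 2 P) {x y : P} (h : (x : P ⧸ Subgroup.center P) = y) :
    qf x = qf y := by
  rw [QuotientGroup.eq] at h
  have e : y = x * (x⁻¹ * y) := by group
  rw [e, qf_mul hP]
  have hc : (x⁻¹ * y) * x * (x⁻¹ * y)⁻¹ * x⁻¹ = 1 := by
    rw [← Subgroup.mem_center_iff.1 h x]; group
  have hz : qf (x⁻¹ * y) = 0 := by
    rw [qf, bit_eq_zero]
    have := pow_card_eq_one' (x := (⟨x⁻¹ * y, h⟩ : Subgroup.center P))
    rw [hP.2, sq] at this
    exact congrArg Subtype.val this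
  rw [hc, hz, add_zero, bit_eq_zero.2 rfl, add_zero]

theorem qf_ne_zero [Finite P] (hP : IsExtraspecial 2 P) : ∃ x : P, qf x ≠ 0 := by
  by_contra h
  push_neg at h
  have hsq : ∀ x : P, x * x = 1 := fun x => bit_eq_zero.1 (h x)
  have hcomm : ∀ x y : P, x * y = y * x := by
    intro x y
    have hi : ∀ u : P, u⁻¹ = u := fun u => inv_eq_of_mul_eq_one_right (hsq u)
    calc x * y = (x * y)⁻¹ := (hi _).symm
      _ = y * x := by rw [mul_inv_rev, hi, hi]
  have hbot : commutator P = ⊥ := by
    rw [commutator_def, eq_bot_iff, Subgroup.commutator_le]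
    intro a _ b _
    rw [Subgroup.mem_bot, commutatorElement_eq_one_iff_mul_comm]
    exact hcomm a b
  have h2 := hP.2
  rw [← hP.1.2.2, hbot, Subgroup.card_bot] at h2
  omega

end Extra

/-- twelve vectors spanning a totally singular subspace -/
noncomputable def basisVec (i : Fin 12) : Lv :=
  if h : i.val = 0 then eight (pt 0) else uv (pt i) (pt 0) (by
    intro e
    have := congrArg idx e
    rw [idx_pt _ (by omega), idx_pt 0 (by norm_num)] at this
    exact h this)

/-- their combinations -/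
noncomputable def comb (c : Fin 12 → ZMod 2) : Lv := ∑ i, if c i = 1 then basisVec i else 0

theorem comb_add (c d : Fin 12 → ZMod 2) : ∃ w : Lv, comb c + comb d = comb (c + d) + (w + w) := by
  refine ⟨∑ i, if c i = 1 ∧ d i = 1 then basisVec i else 0, ?_⟩
  simp only [comb, ← Finset.sum_add_distrib]
  refine Finset.sum_congr rfl fun i _ => ?_
  simp only [Pi.add_apply]
  have h2 : (1 : ZMod 2) + 1 = 0 := rfl
  rcases word_eq_one_or_zero (c i) with e | e <;> rcases word_eq_one_or_zero (d i) with e' | e' <;>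
    simp [e, e', h2]

theorem low_code : ∀ m ∈ codeMasks, (∀ i ∈ List.range 24, 12 ≤ i → Nat.testBit m i = false) → m = 0 := by
  decide +kernel

theorem basisVec_val (i : Fin 12) (k : GolayPt) : ((basisVec i : Lv) : Zv) k =
    if i.val = 0 then (if k = pt 0 then 8 else 0) else (if k = pt i then 4 else if k = pt 0 then 4 else 0) := by
  unfold basisVec
  split_ifs with h <;> simp_all [eight, uv, pairVec]

theorem comb_val (c : Fin 12 → ZMod 2) (k : GolayPt) :
    ((comb c : Lv) : Zv) k = ∑ i, if c i = 1 then ((basisVec i : Lv) : Zv) k else 0 := by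
  rw [comb, AddSubgroup.val_finset_sum, Finset.sum_apply]
  refine Finset.sum_congr rfl fun i _ => ?_
  split_ifs <;> rfl

theorem comb_four (c : Fin 12 → ZMod 2) (k : GolayPt) : (4 : ℤ) ∣ ((comb c : Lv) : Zv) k := by
  rw [comb_val]
  refine Finset.dvd_sum fun i _ => ?_
  rw [basisVec_val]
  split_ifs <;> norm_num

theorem four_norm {x : Lv} (h : ∀ k, (4 : ℤ) ∣ (x : Zv) k) : normQ x = 0 := by
  choose a ha using h
  obtain ⟨m, hpar, hsum, -⟩ := mem_leech.1 x.2
  have hm : m % 2 = 0 := by
    have := hpar none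
    rw [ha none] at this
    omega
  have hsum' : (∑ i, a i) % 2 = 0 := by
    simp only [ha, ← Finset.mul_sum] at hsum
    omega
  have hsq : (∑ i, a i ^ 2) % 2 = 0 := by rw [sum_emod_two, hsum']
  rw [normQ, ZMod.intCast_zmod_eq_zero_iff_dvd]
  have e : sqNorm (x : Zv) = 16 * ∑ i, a i ^ 2 := by
    rw [sqNorm, Finset.mul_sum]
    exact Finset.sum_congr rfl fun i _ => by rw [ha]; ring
  rw [e, Int.mul_ediv_cancel_left _ (by norm_num : (16 : ℤ) ≠ 0)]
  push_cast
  omega

theorem comb_double {c : Fin 12 → ZMod 2} {w : Lv} (h : comb c = w + w) : c = 0 := by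
  have hw : ∀ k, ((comb c : Lv) : Zv) k = 2 * (w : Zv) k := fun k => by
    rw [h, AddSubgroup.coe_add, Pi.add_apply]; ring
  obtain ⟨m, hpar, hsum, hdig⟩ := mem_leech.1 w.2
  have pne : ∀ (i : Fin 12) (j : ℕ), j < 24 → i.val ≠ j → pt i ≠ pt j := by
    intro i j hj hij e
    have := congrArg idx e
    rw [idx_pt _ (by omega), idx_pt _ hj] at this
    exact hij this
  have hhigh : ∀ j, 12 ≤ j → j < 24 → ((comb c : Lv) : Zv) (pt j) = 0 := by
    intro j h12 hj
    rw [comb_val]
    refine Finset.sum_eq_zero fun i _ => ?_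
    rw [basisVec_val]
    have h1 : pt j ≠ pt i := (pne i j hj (by omega)).symm
    have h2 : pt j ≠ pt 0 := (pne 0 j hj (by simp; omega)).symm
    simp [h1, h2]
  have hlow : ∀ i : Fin 12, i.val ≠ 0 → ((comb c : Lv) : Zv) (pt i) = if c i = 1 then 4 else 0 := by
    intro i hi
    rw [comb_val, Finset.sum_eq_single i]
    · rw [basisVec_val, if_neg hi, if_pos rfl]
    · intro j _ hji
      rw [basisVec_val]
      have h1 : pt i ≠ pt j := pne i j (by omega) (fun e => hji (Fin.ext e.symm))
      have h2 : pt i ≠ pt 0 := pne i 0 (by norm_num) hi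
      simp [h1, h2]
    · exact fun h => absurd (Finset.mem_univ i) h
  have hmask : wmask (digit (w : Zv)) = 0 := by
    refine low_code _ (mem_code.1 hdig) fun j hj h12 => ?_
    have hj' := List.mem_range.1 hj
    have hz : (w : Zv) (pt j) = 0 := by have := hhigh j h12 hj'; rw [hw] at this; omega
    have hd : digit (w : Zv) (pt j) = 0 := by simp [digit, hz]
    by_contra hb
    rw [Bool.not_eq_false, ← idx_pt j hj', wmask, testBit_mask_idx, mem_support₂] at hb
    exact hb hd
  have hd0 : ∀ k, digit (w : Zv) k = 0 := by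
    intro k
    by_contra hk
    have hb : Nat.testBit (wmask (digit (w : Zv))) (idx k) = true := by
      rw [wmask, testBit_mask_idx, mem_support₂]; exact hk
    rw [hmask, Nat.zero_testBit] at hb
    exact Bool.false_ne_true hb
  have hc : ∀ i : Fin 12, i.val ≠ 0 → c i = 0 := by
    intro i hi
    have hv := hlow i hi
    rw [hw] at hv
    have hdd : (((w : Zv) (pt i) / 2 : ℤ) : ZMod 2) = 0 := hd0 (pt i)
    rcases word_eq_one_or_zero (c i) with e | e
    · exact e
    · exfalso
      rw [if_pos e] at hv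
      have hv2 : (w : Zv) (pt i) = 2 := by omega
      rw [hv2] at hdd
      exact absurd hdd (by decide)
  funext i
  rcases eq_or_ne i.val 0 with hi | hi
  swap
  · exact hc i hi
  rcases word_eq_one_or_zero (c i) with e | e
  · exact e
  exfalso
  have i0 : i = 0 := Fin.ext hi
  subst i0
  have hall : ∀ k, (w : Zv) k = if k = pt 0 then 4 else 0 := by
    intro k
    have hk := hw k
    rw [comb_val, Finset.sum_eq_single (0 : Fin 12)] at hk
    · rw [if_pos e, basisVec_val, if_pos (by rfl)] at hk
      split_ifs at hk ⊢ <;> omega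
    · intro j _ hj
      rw [if_neg (by rw [hc j (fun h => hj (Fin.ext h))]; decide)]
    · exact fun h => absurd (Finset.mem_univ _) h
  simp only [hall, Finset.sum_ite_eq', Finset.mem_univ, if_true] at hsum
  have hm := hpar none
  rw [hall none, if_neg (by decide +kernel)] at hm
  omega

theorem form_eq {G : Type*} [Group G] [Finite G] {z : G} {Q : Subgroup (Subgroup.centralizer ({z} : Set G))}
    [Q.Normal] (hP : IsExtraspecial 2 Q) {e : (Subgroup.centralizer ({z} : Set G)) ⧸ Q ≃* Cfsg.Spor.Co1}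
    {ψ : Lv → Q ⧸ Subgroup.center Q} (hψ : IsLeechModTwoIso Q e ψ) :
    (∀ v w : Lv, ψ (v + (w + w)) = ψ v) ∧ ∀ (v : Lv) (q : Q), ψ v = QuotientGroup.mk q → qf q = normQ v := by
  classical
  obtain ⟨hadd, hsurj, hker, hact⟩ := hψ
  set F : Lv → ZMod 2 := fun v => qf (ψ v).out with hF
  have Fq : ∀ (v : Lv) (q : Q), ψ v = QuotientGroup.mk q → F v = qf q := fun v q h =>
    qf_center hP ((QuotientGroup.out_eq' _).trans h)
  have rep : ∀ u v : Lv, ψ (u + v) = QuotientGroup.mk ((ψ u).out * (ψ v).out) := fun u v => by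
    rw [hadd, QuotientGroup.mk_mul, QuotientGroup.out_eq', QuotientGroup.out_eq']
  have hcoset : ∀ v w : Lv, ψ (v + (w + w)) = ψ v := fun v w => by rw [hadd, (hker (w + w)).2 ⟨w, rfl⟩, mul_one]
  have hI : InvQ F := by
    refine ⟨fun v w => ?_, fun u v w => ?_, fun g v => ?_⟩
    · show qf (ψ (v + (w + w))).out = qf (ψ v).out
      rw [hcoset]
    · rw [Fq (u + v + w) ((ψ u).out * (ψ v).out * (ψ w).out) (by
          rw [hadd, QuotientGroup.mk_mul, ← rep, QuotientGroup.out_eq']),
        Fq (u + v) _ (rep u v), Fq (u + w) _ (rep u w), Fq (v + w) _ (rep v w)]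
      exact qf_three hP _ _ _
    · obtain ⟨hq, hh⟩ := e.surjective (QuotientGroup.mk g)
      obtain ⟨h, rfl⟩ := QuotientGroup.mk_surjective hq
      have := hact h g hh.symm v (ψ v).out (QuotientGroup.out_eq' _).symm
      rw [Fq _ _ this, hF]
      show bit (_ : Q) = bit (_ : Q)
      generalize (ψ v).out = q
      have key : ∀ a b : Q, ((a = 1) ↔ (b = 1)) → bit a = bit b := fun a b hab => by
        by_cases ha : a = 1
        · rw [bit_eq_zero.2 ha, bit_eq_zero.2 (hab.1 ha)]
        · rcases word_eq_one_or_zero (bit a) with h1 | h1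
          · exact absurd (bit_eq_zero.1 h1) ha
          · rcases word_eq_one_or_zero (bit b) with h2 | h2
            · exact absurd (hab.2 (bit_eq_zero.1 h2)) ha
            · rw [h1, h2]
      refine key _ _ (Iff.trans ?_ (MulEquiv.map_eq_one_iff (MulAut.conjNormal h : MulAut Q) (x := q * q)))
      rw [map_mul]
      exact Iff.of_eq (congrArg (fun x : Q => x * x = 1) (Subtype.ext (MulAut.conjNormal_apply h q).symm))
  have hne : ∃ v, F v ≠ 0 := by
    obtain ⟨x, hx⟩ := qf_ne_zero hP
    obtain ⟨v, hv⟩ := hsurj (QuotientGroup.mk x)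
    exact ⟨v, by rwa [Fq v x hv]⟩
  exact ⟨hcoset, fun v q h => (Fq v q h).symm.trans (invariant_quadratic hI hne v)⟩

theorem plus_type {G : Type*} [Group G] [Finite G] (z : G) (Q : Subgroup (Subgroup.centralizer ({z} : Set G)))
    [Q.Normal] (hM : IsOfMonsterType z Q) :
    ∃ E : Subgroup Q, IsElementaryAbelian 2 E ∧ Nat.card E = 2 ^ 13 := by
  classical
  obtain ⟨⟨-, -, hP, -, -⟩, e, ψ, hadd, hsurj, hker, hact⟩ := hM
  obtain ⟨hcoset, hform⟩ := form_eq hP ⟨hadd, hsurj, hker, hact⟩
  let f : Multiplicative (Fin 12 → ZMod 2) →* Q ⧸ Subgroup.center Q :=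
    MonoidHom.mk' (fun c => ψ (comb (Multiplicative.toAdd c))) fun c d => by
      obtain ⟨w, hw⟩ := comb_add (Multiplicative.toAdd c) (Multiplicative.toAdd d)
      rw [toAdd_mul, ← hadd, hw, hcoset]
  have hf : Function.Injective f := by
    rw [injective_iff_map_eq_one]
    intro c hc
    obtain ⟨w, hw⟩ := (hker _).1 hc
    exact Multiplicative.toAdd.injective (comb_double hw)
  set E : Subgroup Q := f.range.comap (QuotientGroup.mk' (Subgroup.center Q)) with hE
  have hsq : ∀ x ∈ E, x * x = 1 := by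
    rintro x ⟨c, hc⟩
    rw [← bit_eq_zero]
    show qf x = 0
    rw [hform (comb (Multiplicative.toAdd c)) x hc, four_norm (comb_four _)]
  refine ⟨E, ⟨⟨⟨fun a b => Subtype.ext ?_⟩⟩, fun a ha => by rw [sq]; exact hsq a ha⟩, ?_⟩
  · have hi : ∀ u : Q, u ∈ E → u⁻¹ = u := fun u hu => inv_eq_of_mul_eq_one_right (hsq u hu)
    show (a : Q) * b = b * a
    calc (a : Q) * b = ((a : Q) * b)⁻¹ := (hi _ (mul_mem a.2 b.2)).symm
      _ = (b : Q) * a := by rw [mul_inv_rev, hi _ a.2, hi _ b.2]
  · have hle : Subgroup.center Q ≤ E := fun x hx => ⟨1, by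
      rw [map_one]
      exact ((QuotientGroup.eq_one_iff x).2 hx).symm⟩
    have hmap : E.map (QuotientGroup.mk' (Subgroup.center Q)) = f.range :=
      Subgroup.map_comap_eq_self_of_surjective (QuotientGroup.mk'_surjective (Subgroup.center Q)) _
    have h1 := Subgroup.card_eq_card_quotient_mul_card_subgroup ((Subgroup.center Q).subgroupOf E)
    have h2 : Nat.card ((Subgroup.center Q).subgroupOf E) = 2 := by
      rw [Nat.card_congr (Subgroup.subgroupOfEquivOfLe hle).toEquiv, hP.2]
    have h3 : Nat.card (E ⧸ (Subgroup.center Q).subgroupOf E) = Nat.card f.range := by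
      let g : E →* f.range := ((QuotientGroup.mk' (Subgroup.center Q)).comp E.subtype).codRestrict _ fun x => x.2
      have hg : Function.Surjective g := by
        rintro ⟨y, hy⟩
        obtain ⟨x, rfl⟩ := QuotientGroup.mk_surjective y
        exact ⟨⟨x, hy⟩, rfl⟩
      have hk : g.ker = (Subgroup.center Q).subgroupOf E := by
        ext x
        rw [MonoidHom.mem_ker, Subgroup.mem_subgroupOf, Subtype.ext_iff]
        exact QuotientGroup.eq_one_iff (x : Q)
      exact Nat.card_congr ((QuotientGroup.quotientMulEquivOfEq hk.symm).trans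
        (QuotientGroup.quotientKerEquivOfSurjective g hg)).toEquiv
    rw [h2, h3, ← Nat.card_congr (MonoidHom.ofInjective hf).toEquiv, Nat.card_congr Multiplicative.toAdd,
      Nat.card_fun, Nat.card_zmod, Nat.card_fin] at h1
    rw [h1]; norm_num

end Cfsg.Agent.Spor.MonsterForm
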