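/-
Conjugates of the central involution inside the extraspecial subgroup of a group of Monster type.
-/
import Cfsg.Agent.Lib.Spor.LeechCentral
import Cfsg.Agent.Lib.Spor.MonsterForm

set_option autoImplicit false
set_option maxRecDepth 100000

namespace Cfsg.Agent.Spor.MonsterFusion

open Cfsg
open scoped Pointwise

local notation "Zv" => GolayPt → ℤ
set_option quotPrecheck false in
local notation "Lv" => ↥leechLattice

/-- the centre of the first Conway group is trivial -/
theorem co1_center {a : Cfsg.Spor.Co1} (ha : ∀ x : Cfsg.Spor.Co1, x * a = a * x) : a = 1 := by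
  haveI := simple_co1
  haveI := co0_finite
  haveI : Fact (Nat.Prime 23) := ⟨by norm_num⟩
  haveI : Fact (Nat.Prime 2) := ⟨Nat.prime_two⟩
  have hmem : a ∈ Subgroup.center Cfsg.Spor.Co1 := Subgroup.mem_center_iff.2 ha
  rcases IsSimpleGroup.eq_bot_or_eq_top_of_normal (Subgroup.center Cfsg.Spor.Co1) inferInstance with h | h
  · rw [h, Subgroup.mem_bot] at hmem; exact hmem
  · exfalso
    obtain ⟨u, hu⟩ := exists_prime_orderOf_dvd_card' (G := Cfsg.Spor.Co1) 23 (by rw [card_co1]; norm_num)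
    obtain ⟨t, ht⟩ := exists_prime_orderOf_dvd_card' (G := Cfsg.Spor.Co1) 2 (by rw [card_co1]; norm_num)
    have h1 := co1_commute_twentythree u t hu (by rw [← sq, ← ht, pow_orderOf_eq_one])
      (Subgroup.mem_center_iff.1 (h ▸ Subgroup.mem_top t) u)
    rw [h1, orderOf_one] at ht
    omega

/-- representatives fixed by the translation -/
theorem shift_reps : ∃ a : Cfsg.Spor.Co1, orderOf a = 23 ∧
    (∀ h : oddVec ∈ leechLattice, a ∈ classStab1 (⟨oddVec, h⟩ : Lv)) ∧ a ∈ classStab1 (e8 none) := by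
  haveI : Fact (Nat.Prime 23) := ⟨by norm_num⟩
  obtain ⟨a, haM, hao, ha⟩ := exists_shift
  refine ⟨QuotientGroup.mk' (Subgroup.center ↥Co0) a, orderOf_eq_prime ?_ ?_, fun h => ⟨a, ?_, rfl⟩, ⟨a, ?_, rfl⟩⟩
  · rw [← map_pow, ← hao, pow_orderOf_eq_one, map_one]
  · intro h1
    obtain ⟨n, hn⟩ := negation_exists
    rcases center_cases hn ((QuotientGroup.eq_one_iff a).1 h1) with h | h
    · rw [h, orderOf_one] at hao; omega
    · have h2 : a ^ 2 = 1 := by
        rw [h]; exact co0_ext fun v => by rw [sq, mul_smul, hn, hn, neg_neg, one_smul]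
      have := orderOf_dvd_of_pow_eq_one h2
      rw [hao] at this
      norm_num at this
  · rw [SetLike.mem_coe, mem_classStab, ha]
    rw [show prm genA oddVec = oddVec from funext (by decide +kernel)]
    exact Cong2.refl' _
  · rw [classStab_e8]; exact haM

variable {G : Type*} [Group G] [Finite G] {z : G}

/-- the involution in its own centraliser -/
def zC (z : G) : Subgroup.centralizer ({z} : Set G) := ⟨z, Subgroup.mem_centralizer_singleton_iff.2 rfl⟩

theorem zC_comm (h : (Subgroup.centralizer ({z} : Set G))) : h * zC z = zC z * h :=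
  Subtype.ext (Subgroup.mem_centralizer_singleton_iff.1 h.2)

variable {Q : Subgroup (Subgroup.centralizer ({z} : Set G))} [Q.Normal] {e : (Subgroup.centralizer ({z} : Set G)) ⧸ Q ≃* Cfsg.Spor.Co1} {ψ : Lv → Q ⧸ Subgroup.center Q}

/-- projection to the Conway group -/
def proj (e : (Subgroup.centralizer ({z} : Set G)) ⧸ Q ≃* Cfsg.Spor.Co1) : (Subgroup.centralizer ({z} : Set G)) →* Cfsg.Spor.Co1 := e.toMonoidHom.comp (QuotientGroup.mk' Q)

theorem proj_one (h : (Subgroup.centralizer ({z} : Set G))) : proj e h = 1 ↔ h ∈ Q := by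
  simp [proj, QuotientGroup.eq_one_iff]

theorem proj_surj : Function.Surjective (proj e) :=
  e.surjective.comp (QuotientGroup.mk'_surjective Q)

theorem z_mem (e : (Subgroup.centralizer ({z} : Set G)) ⧸ Q ≃* Cfsg.Spor.Co1) : zC z ∈ Q := by
  refine (proj_one (e := e) _).1 (co1_center fun x => ?_)
  obtain ⟨h, rfl⟩ := proj_surj (e := e) x
  rw [← map_mul, ← map_mul, zC_comm]

/-- hypotheses -/
structure Setting (z : G) (Q : Subgroup (Subgroup.centralizer ({z} : Set G))) [Q.Normal]
    (e : (Subgroup.centralizer ({z} : Set G)) ⧸ Q ≃* Cfsg.Spor.Co1) (ψ : Lv → Q ⧸ Subgroup.center Q) : Prop where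
  hS : IsExtraspecialCentralizerSetting z Q 12
  hψ : IsLeechModTwoIso Q e ψ

theorem Setting.extra (S : Setting z Q e ψ) : IsExtraspecial 2 Q := S.hS.2.2.1

theorem Setting.z_ne (S : Setting z Q e ψ) : z ≠ 1 := by
  intro h
  have := S.hS.1
  rw [h, orderOf_one] at this
  omega

theorem Setting.center_iff (S : Setting z Q e ψ) (x : Q) :
    x ∈ Subgroup.center Q ↔ ((x : (Subgroup.centralizer ({z} : Set G))) = 1 ∨ (x : (Subgroup.centralizer ({z} : Set G))) = zC z) := by
  have hz : (⟨zC z, z_mem e⟩ : Q) ∈ Subgroup.center Q :=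
    Subgroup.mem_center_iff.2 fun y => Subtype.ext (zC_comm (y : (Subgroup.centralizer ({z} : Set G))))
  constructor
  · intro hx
    obtain ⟨u, v, huv, huniv⟩ := Nat.card_eq_two_iff.1 S.extra.2
    have hall : ∀ x : Subgroup.center Q, x = u ∨ x = v := fun x => by
      have := Set.mem_univ x
      rw [← huniv] at this
      exact this
    have hne : (⟨_, hz⟩ : Subgroup.center Q) ≠ 1 := fun h => S.z_ne
      (congrArg (fun y : Subgroup.center Q => (((y : Q) : (Subgroup.centralizer ({z} : Set G))) : G)) h)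
    have key : (⟨x, hx⟩ : Subgroup.center Q) = 1 ∨ (⟨x, hx⟩ : Subgroup.center Q) = ⟨_, hz⟩ := by
      rcases hall ⟨x, hx⟩ with a | a <;> rcases hall 1 with b | b <;> rcases hall ⟨_, hz⟩ with c | c
      all_goals first
        | exact Or.inl (a.trans b.symm)
        | exact Or.inr (a.trans c.symm)
        | exact absurd (c.trans b.symm) hne
    rcases key with h | h
    · exact Or.inl (congrArg (fun y : Subgroup.center Q => ((y : Q) : (Subgroup.centralizer ({z} : Set G)))) h)
    · exact Or.inr (congrArg (fun y : Subgroup.center Q => ((y : Q) : (Subgroup.centralizer ({z} : Set G)))) h)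
  · rintro (h | h)
    · rw [show x = 1 from Subtype.ext h]; exact one_mem _
    · rw [show x = ⟨zC z, z_mem e⟩ from Subtype.ext h]; exact hz

theorem Setting.flip (S : Setting z Q e ψ) {x : Q} (hx : x ∉ Subgroup.center Q) :
    ∃ y : Q, (y : (Subgroup.centralizer ({z} : Set G))) * x * (y : (Subgroup.centralizer ({z} : Set G)))⁻¹ = x * zC z := by
  obtain ⟨y, hy⟩ : ∃ y : Q, y * x ≠ x * y := by
    by_contra h; push_neg at h; exact hx (Subgroup.mem_center_iff.2 h)
  refine ⟨y, ?_⟩
  have hc := (S.center_iff (y * x * y⁻¹ * x⁻¹)).1 (MonsterForm.comm_center S.extra y x)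
  simp only [Subgroup.coe_mul, InvMemClass.coe_inv] at hc
  rcases hc with h | h
  · exfalso
    refine hy (Subtype.ext ?_)
    simp only [Subgroup.coe_mul]
    rwa [mul_inv_eq_one, mul_inv_eq_iff_eq_mul] at h
  · rw [mul_inv_eq_iff_eq_mul] at h
    rw [h, zC_comm]

theorem Setting.coset_eq (S : Setting z Q e ψ) {v w : Lv} (h : Cong2 (v : Zv) (w : Zv)) : ψ v = ψ w := by
  obtain ⟨u, hu, heq⟩ := h
  have e1 : v = w + ((⟨u, hu⟩ : Lv) + ⟨u, hu⟩) := Subtype.ext (by
    show (v : Zv) = w + (u + u)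
    rw [← two_nsmul, ← heq]; abel)
  rw [e1, (MonsterForm.form_eq S.extra S.hψ).1]

theorem Setting.cong_of_eq (S : Setting z Q e ψ) {v w : Lv} (h : ψ v = ψ w) : Cong2 (v : Zv) (w : Zv) := by
  obtain ⟨hadd, -, hker, -⟩ := S.hψ
  have h1 : ψ (v - w) = 1 := by
    have := hadd (v - w) w
    rw [sub_add_cancel, h] at this
    exact mul_eq_right.1 this.symm
  obtain ⟨u, hu⟩ := (hker _).1 h1
  exact ⟨u, u.2, by rw [two_nsmul, ← AddSubgroup.coe_sub, hu, AddSubgroup.coe_add]⟩

theorem Setting.central_iff (S : Setting z Q e ψ) {v : Lv} {x : Q} (hx : ψ v = QuotientGroup.mk x) :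
    x ∈ Subgroup.center Q ↔ ∃ w : Lv, v = w + w := by
  rw [← QuotientGroup.eq_one_iff, ← hx]
  exact S.hψ.2.2.1 v

theorem Setting.noncentral (S : Setting z Q e ψ) {v : Lv} {x : Q} (hx : ψ v = QuotientGroup.mk x)
    (hv : sqNorm (v : Zv) = 32 ∨ sqNorm (v : Zv) = 64) : x ∉ Subgroup.center Q := by
  intro h
  obtain ⟨w, rfl⟩ := (S.central_iff hx).1 h
  have e4 : sqNorm ((w + w : Lv) : Zv) = 4 * sqNorm (w : Zv) := by
    rw [AddSubgroup.coe_add, ← two_zsmul, sqNorm_smul]; rfl
  rw [e4] at hv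
  by_cases h0 : (w : Zv) = 0
  · rw [h0] at hv; simp [sqNorm] at hv
  · have := (leech_norm w.2).2 h0
    omega

/-- involutions of the subgroup outside the centre -/
theorem Setting.classify (S : Setting z Q e ψ) {x : Q} (hx2 : x * x = 1) (hx : x ∉ Subgroup.center Q) :
    ∃ v : Lv, (sqNorm (v : Zv) = 32 ∨ sqNorm (v : Zv) = 64) ∧ ψ v = QuotientGroup.mk x := by
  obtain ⟨u, hu⟩ := S.hψ.2.1 (QuotientGroup.mk x)
  obtain ⟨y, hy, hy64, hc⟩ := short_rep u.2
  have hψy : ψ ⟨y, hy⟩ = QuotientGroup.mk x := by rw [← hu]; exact (S.coset_eq (v := u) (w := ⟨y, hy⟩) hc).symm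
  refine ⟨⟨y, hy⟩, ?_, hψy⟩
  have hy0 : y ≠ 0 := by
    intro h0
    refine hx ((S.central_iff hψy).2 ⟨0, Subtype.ext ?_⟩)
    simp [h0]
  rcases norm_cases hy hy0 hy64 with h | h | h
  · exact Or.inl h
  · exfalso
    have h1 := (MonsterForm.form_eq S.extra S.hψ).2 _ x hψy
    rw [MonsterForm.qf, MonsterForm.bit_eq_zero.2 hx2, normQ, show sqNorm ((⟨y, hy⟩ : Lv) : Zv) = 48 from h] at h1
    exact absurd h1 (by decide)
  · exact Or.inr h

theorem proj_spec {h : (Subgroup.centralizer ({z} : Set G))} {g : ↥Co0} (hg : QuotientGroup.mk' (Subgroup.center ↥Co0) g = proj e h) :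
    (QuotientGroup.mk g : Cfsg.Spor.Co1) = e (QuotientGroup.mk h) := hg

/-- the centraliser of an element maps into the stabiliser of its class -/
theorem Setting.stab_image (S : Setting z Q e ψ) {v : Lv} {x : Q} (hx : ψ v = QuotientGroup.mk x) {h : (Subgroup.centralizer ({z} : Set G))}
    (hh : h * x * h⁻¹ = (x : (Subgroup.centralizer ({z} : Set G)))) : proj e h ∈ classStab1 v := by
  obtain ⟨g, hg⟩ := QuotientGroup.mk'_surjective (Subgroup.center ↥Co0) (proj e h)
  refine ⟨g, S.cong_of_eq ?_, hg⟩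
  rw [S.hψ.2.2.2 h g (proj_spec hg) v x hx, hx]
  exact congrArg QuotientGroup.mk (Subtype.ext hh)

theorem Setting.conj_to (S : Setting z Q e ψ) {v w : Lv} {x y : Q} (hx : ψ v = QuotientGroup.mk x)
    (hy : ψ w = QuotientGroup.mk y) (hwn : y ∉ Subgroup.center Q) {g : ↥Co0}
    (hg : Cong2 ((g • v : Lv) : Zv) (w : Zv)) :
    ∃ h : (Subgroup.centralizer ({z} : Set G)), proj e h = QuotientGroup.mk' (Subgroup.center ↥Co0) g ∧ h * x * h⁻¹ = (y : (Subgroup.centralizer ({z} : Set G))) := by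
  obtain ⟨h, hh⟩ := proj_surj (e := e) (QuotientGroup.mk' (Subgroup.center ↥Co0) g)
  have h1 := S.hψ.2.2.2 h g (proj_spec hh.symm) v x hx
  rw [S.coset_eq hg, hy, QuotientGroup.eq] at h1
  rcases (S.center_iff _).1 h1 with h2 | h2
  · refine ⟨h, hh, ?_⟩
    simp only [Subgroup.coe_mul, InvMemClass.coe_inv] at h2
    rw [inv_mul_eq_one] at h2
    exact h2.symm
  · obtain ⟨y0, hy0⟩ := S.flip hwn
    refine ⟨y0 * h, by rw [map_mul, (proj_one _).2 y0.2, one_mul, hh], ?_⟩
    simp only [Subgroup.coe_mul, InvMemClass.coe_inv] at h2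
    rw [inv_mul_eq_iff_eq_mul] at h2
    have e2 : (y0 : (Subgroup.centralizer ({z} : Set G))) * y * (y0 : (Subgroup.centralizer ({z} : Set G)))⁻¹ = y * zC z := hy0
    rw [show (y0 : (Subgroup.centralizer ({z} : Set G))) * h * x * ((y0 : (Subgroup.centralizer ({z} : Set G))) * h)⁻¹ = y0 * (h * x * h⁻¹) * (y0 : (Subgroup.centralizer ({z} : Set G)))⁻¹ by group, h2,
      show (y0 : (Subgroup.centralizer ({z} : Set G))) * (y * zC z) * (y0 : (Subgroup.centralizer ({z} : Set G)))⁻¹ = (y0 * y * (y0 : (Subgroup.centralizer ({z} : Set G)))⁻¹) * (y0 * zC z * (y0 : (Subgroup.centralizer ({z} : Set G)))⁻¹) by group,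
      e2, zC_comm (y0 : (Subgroup.centralizer ({z} : Set G))), mul_inv_cancel_right]
    have hzz : zC z * zC z = 1 := Subtype.ext (by
      show z * z = 1
      rw [← sq, ← S.hS.1, pow_orderOf_eq_one])
    rw [mul_assoc, hzz, mul_one]

/-- one class for each type -/
theorem Setting.conj_class (S : Setting z Q e ψ) {v w : Lv} {x y : Q} (hx : ψ v = QuotientGroup.mk x)
    (hy : ψ w = QuotientGroup.mk y) (hn : sqNorm (v : Zv) = sqNorm (w : Zv))
    (hv : sqNorm (v : Zv) = 32 ∨ sqNorm (v : Zv) = 64) : ∃ h : (Subgroup.centralizer ({z} : Set G)), h * x * h⁻¹ = (y : (Subgroup.centralizer ({z} : Set G))) := by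
  have hwn := S.noncentral hy (hn ▸ hv)
  rcases hv with hv | hv
  · obtain ⟨g, hg⟩ := transitive_of_orb (fun y hy hn => orb_short hy hn) v w hv (hn ▸ hv)
    obtain ⟨h, -, hh⟩ := S.conj_to hx hy hwn (g := g) (hg ▸ Cong2.refl' _)
    exact ⟨h, hh⟩
  · obtain ⟨g, u, hu, hg⟩ := class_transitive v w hv (hn ▸ hv)
    obtain ⟨h, -, hh⟩ := S.conj_to hx hy hwn (g := g) ⟨u, hu, hg⟩
    exact ⟨h, hh⟩

/-- conjugation back -/
def back (x : Q) (g : G) (hg : g * z * g⁻¹ = ((x : (Subgroup.centralizer ({z} : Set G))) : G)) :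
    Subgroup.centralizer ({(x : (Subgroup.centralizer ({z} : Set G)))} : Set (Subgroup.centralizer ({z} : Set G))) →* (Subgroup.centralizer ({z} : Set G)) :=
  MonoidHom.mk' (fun h => ⟨g⁻¹ * (((h : (Subgroup.centralizer ({z} : Set G))) : G)) * g, by
    rw [Subgroup.mem_centralizer_singleton_iff]
    have h1 : ((h : (Subgroup.centralizer ({z} : Set G))) : G) * ((x : (Subgroup.centralizer ({z} : Set G))) : G) = ((x : (Subgroup.centralizer ({z} : Set G))) : G) * ((h : (Subgroup.centralizer ({z} : Set G))) : G) :=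
      congrArg Subtype.val (Subgroup.mem_centralizer_singleton_iff.1 h.2)
    rw [← hg] at h1
    calc g⁻¹ * ((h : (Subgroup.centralizer ({z} : Set G))) : G) * g * z = g⁻¹ * (((h : (Subgroup.centralizer ({z} : Set G))) : G) * (g * z * g⁻¹)) * g := by group
      _ = g⁻¹ * ((g * z * g⁻¹) * ((h : (Subgroup.centralizer ({z} : Set G))) : G)) * g := by rw [h1]
      _ = z * (g⁻¹ * ((h : (Subgroup.centralizer ({z} : Set G))) : G) * g) := by group⟩) fun a b => Subtype.ext (by
    simp only [Subgroup.coe_mul]; group)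

theorem back_injective (x : Q) (g : G) (hg : g * z * g⁻¹ = ((x : (Subgroup.centralizer ({z} : Set G))) : G)) :
    Function.Injective (back x g hg) := fun a b h => Subtype.ext (Subtype.ext
  (mul_left_cancel (mul_right_cancel (congrArg Subtype.val h : g⁻¹ * _ * g = g⁻¹ * _ * g))))

/-- the centraliser of an element of the subgroup -/
theorem card_cent (S : Setting z Q e ψ) {x : Q} (hx : x ∉ Subgroup.center Q) :
    Nat.card (Subgroup.centralizer ({x} : Set Q)) = 2 ^ 24 := by
  haveI : Fact (Nat.Prime 2) := ⟨Nat.prime_two⟩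
  have h := (Subgroup.centralizer ({x} : Set Q)).card_mul_index
  rw [Cfsg.Agent.Solv.extraspecial_centralizer_index S.extra hx, S.hS.2.2.2.1] at h
  omega

theorem abelian_le (S : Setting z Q e ψ) {B : Subgroup Q} (hB : IsMulCommutative B) : Nat.card B ≤ 2 ^ 13 := by
  haveI : Fact (Nat.Prime 2) := ⟨Nat.prime_two⟩
  obtain ⟨m, -, hm, hb⟩ := Cfsg.Agent.Solv.extraspecial_card S.extra
  rw [S.hS.2.2.2.1] at hm
  have : m = 12 := by have := Nat.pow_right_injective le_rfl hm; omega
  subst this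
  exact Nat.le_of_dvd (by positivity) (hb B hB)

/-- the symmetric situation: a conjugate of the involution with a representative fixed by the translation -/
theorem Setting.key (S : Setting z Q e ψ) {v : Lv} {x : Q} (hx : ψ v = QuotientGroup.mk x)
    (hv : sqNorm (v : Zv) = 32 ∨ v = e8 none) {s : Cfsg.Spor.Co1} (hs : s ∈ classStab1 v) (hso : orderOf s = 23)
    {g : G} (hg : g * z * g⁻¹ = ((x : (Subgroup.centralizer ({z} : Set G))) : G)) :
    sqNorm (v : Zv) ≠ 32 ∧
      Nat.card ↥((Q.map ((Subgroup.centralizer ({z} : Set G))).subtype) ⊓ (Q.map ((Subgroup.centralizer ({z} : Set G))).subtype).map (MulAut.conj g).toMonoidHom) = 2 ^ 13 := by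
  classical
  haveI : Fact (Nat.Prime 2) := ⟨Nat.prime_two⟩
  haveI : Fact (Nat.Prime 23) := ⟨by norm_num⟩
  have hv' : sqNorm (v : Zv) = 32 ∨ sqNorm (v : Zv) = 64 := by
    rcases hv with h | h
    · exact Or.inl h
    · exact Or.inr (by rw [h]; exact e8_norm none)
  have hxc := S.noncentral hx hv'
  set φ := back x g hg with hφ
  have hinj := back_injective x g hg
  -- an element of order 23
  obtain ⟨g0, hg0, hg0s⟩ := hs
  obtain ⟨h0, hh0, hh0x⟩ := S.conj_to hx hx hxc (g := g0) hg0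
  rw [hg0s] at hh0
  have hh0m : h0 ∈ Subgroup.centralizer ({(x : (Subgroup.centralizer ({z} : Set G)))} : Set (Subgroup.centralizer ({z} : Set G))) := by
    rw [Subgroup.mem_centralizer_singleton_iff]
    rwa [mul_inv_eq_iff_eq_mul] at hh0x
  set h1 : Subgroup.centralizer ({(x : (Subgroup.centralizer ({z} : Set G)))} : Set (Subgroup.centralizer ({z} : Set G))) := ⟨h0, hh0m⟩ with hh1
  have hd : 23 ∣ orderOf h1 := by
    have := orderOf_map_dvd ((proj e).comp (Subgroup.centralizer ({(x : (Subgroup.centralizer ({z} : Set G)))} : Set (Subgroup.centralizer ({z} : Set G)))).subtype) h1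
    rwa [show ((proj e).comp (Subgroup.centralizer ({(x : (Subgroup.centralizer ({z} : Set G)))} : Set (Subgroup.centralizer ({z} : Set G)))).subtype) h1 = s from hh0, hso] at this
  set h2 := h1 ^ (orderOf h1 / 23) with hh2
  have h2o : orderOf h2 = 23 := by
    rw [hh2, orderOf_pow' _ (Nat.div_pos (Nat.le_of_dvd (orderOf_pos h1) hd) (by norm_num)).ne',
      Nat.gcd_eq_right (Nat.div_dvd_of_dvd hd), Nat.div_div_self hd (orderOf_pos h1).ne']
  have huo : orderOf (proj e (φ h2)) = 23 := by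
    have h3 : orderOf (φ h2) = 23 := by rw [orderOf_injective φ hinj, h2o]
    refine orderOf_eq_prime (by rw [← map_pow, ← h3, pow_orderOf_eq_one, map_one]) fun h => ?_
    have h4 := Subgroup.orderOf_dvd_natCard Q ((proj_one _).1 h)
    rw [h3, S.hS.2.2.2.1] at h4
    have := (Nat.Prime.dvd_of_dvd_pow (by norm_num : Nat.Prime 23) h4)
    norm_num at this
  -- the image of the involution lies in the subgroup
  have hzm : zC z ∈ Subgroup.centralizer ({(x : (Subgroup.centralizer ({z} : Set G)))} : Set (Subgroup.centralizer ({z} : Set G))) :=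
    Subgroup.mem_centralizer_singleton_iff.2 (zC_comm (x : (Subgroup.centralizer ({z} : Set G)))).symm
  set r : (Subgroup.centralizer ({z} : Set G)) := φ ⟨zC z, hzm⟩ with hr
  have hrQ : r ∈ Q := by
    refine (proj_one (e := e) r).1 (co1_commute_twentythree _ _ huo ?_ ?_)
    · rw [← map_mul, hr, ← map_mul, show (⟨zC z, hzm⟩ : Subgroup.centralizer ({(x : (Subgroup.centralizer ({z} : Set G)))} : Set (Subgroup.centralizer ({z} : Set G)))) * ⟨zC z, hzm⟩ = 1
        from Subtype.ext (Subtype.ext (by show z * z = 1; rw [← sq, ← S.hS.1, pow_orderOf_eq_one])), map_one, map_one]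
    · rw [hr, ← map_mul, ← map_mul, ← map_mul, ← map_mul]
      exact congrArg (fun t => proj e (φ t)) (Subtype.ext (zC_comm _))
  have hrne : r ≠ 1 ∧ r ≠ zC z := by
    refine ⟨fun h => S.z_ne ?_, fun h => hxc ((S.center_iff x).2 (Or.inr (Subtype.ext ?_)))⟩
    · have h' : g⁻¹ * z * g = 1 := congrArg Subtype.val h
      rw [show z = g * (g⁻¹ * z * g) * g⁻¹ by group, h']; group
    · have h' : g⁻¹ * z * g = z := congrArg Subtype.val h
      show ((x : (Subgroup.centralizer ({z} : Set G))) : G) = z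
      rw [← hg]
      nth_rewrite 1 [← h']
      group
  have hrc : (⟨r, hrQ⟩ : Q) ∉ Subgroup.center Q := fun h => by
    rcases (S.center_iff _).1 h with h' | h'
    · exact hrne.1 h'
    · exact hrne.2 h'
  set D : Subgroup (Subgroup.centralizer ({(x : (Subgroup.centralizer ({z} : Set G)))} : Set (Subgroup.centralizer ({z} : Set G)))) := Q.subgroupOf _ with hD
  set N : Subgroup (Subgroup.centralizer ({(x : (Subgroup.centralizer ({z} : Set G)))} : Set (Subgroup.centralizer ({z} : Set G)))) := Q.comap φ with hN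
  have hDcard : Nat.card D = 2 ^ 24 := by
    rw [← card_cent S hxc]
    refine Nat.card_congr ⟨fun d => ⟨⟨((d : Subgroup.centralizer ({(x : (Subgroup.centralizer ({z} : Set G)))} : Set (Subgroup.centralizer ({z} : Set G)))) : (Subgroup.centralizer ({z} : Set G))), d.2⟩,
      Subgroup.mem_centralizer_singleton_iff.2 (Subtype.ext (Subgroup.mem_centralizer_singleton_iff.1 d.1.2))⟩,
      fun q => ⟨⟨((q : Q) : (Subgroup.centralizer ({z} : Set G))), Subgroup.mem_centralizer_singleton_iff.2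
        (congrArg Subtype.val (Subgroup.mem_centralizer_singleton_iff.1 q.2))⟩, (q : Q).2⟩,
      fun d => rfl, fun q => rfl⟩
  have hNcard : Nat.card N = 2 ^ 24 := by
    rw [← card_cent S hrc]
    refine Nat.card_eq_of_bijective (fun n => (⟨⟨φ n, n.2⟩, Subgroup.mem_centralizer_singleton_iff.2
      (Subtype.ext ?_)⟩ : Subgroup.centralizer ({(⟨r, hrQ⟩ : Q)} : Set Q))) ⟨?_, ?_⟩
    · show φ _ * r = r * φ _
      rw [hr, ← map_mul, ← map_mul]
      exact congrArg φ (Subtype.ext (zC_comm _))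
    · intro a b h
      exact Subtype.ext (hinj (congrArg (fun t => (((t : Subgroup.centralizer ({(⟨r, hrQ⟩ : Q)} : Set Q)) : Q) : (Subgroup.centralizer ({z} : Set G)))) h))
    · intro q
      set k : G := (((q : Q) : (Subgroup.centralizer ({z} : Set G))) : G) with hk
      have hq1 : k * z = z * k := Subgroup.mem_centralizer_singleton_iff.1 ((q : Q) : (Subgroup.centralizer ({z} : Set G))).2
      have hq2 : k * (g⁻¹ * z * g) = g⁻¹ * z * g * k := congrArg (fun t : Q => ((t : (Subgroup.centralizer ({z} : Set G))) : G))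
        (Subgroup.mem_centralizer_singleton_iff.1 q.2)
      have hm : g * k * g⁻¹ ∈ (Subgroup.centralizer ({z} : Set G)) := Subgroup.mem_centralizer_singleton_iff.2 (by
        calc g * k * g⁻¹ * z = g * (k * (g⁻¹ * z * g)) * g⁻¹ := by group
          _ = g * (g⁻¹ * z * g * k) * g⁻¹ := by rw [hq2]
          _ = z * (g * k * g⁻¹) := by group)
      have hm2 : (⟨_, hm⟩ : (Subgroup.centralizer ({z} : Set G))) ∈ Subgroup.centralizer ({(x : (Subgroup.centralizer ({z} : Set G)))} : Set (Subgroup.centralizer ({z} : Set G))) :=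
        Subgroup.mem_centralizer_singleton_iff.2 (Subtype.ext (by
          show g * k * g⁻¹ * ((x : (Subgroup.centralizer ({z} : Set G))) : G) = ((x : (Subgroup.centralizer ({z} : Set G))) : G) * (g * k * g⁻¹)
          rw [← hg]
          calc g * k * g⁻¹ * (g * z * g⁻¹) = g * (k * z) * g⁻¹ := by group
            _ = g * (z * k) * g⁻¹ := by rw [hq1]
            _ = g * z * g⁻¹ * (g * k * g⁻¹) := by group))
      have hφm : φ ⟨_, hm2⟩ = ((q : Q) : (Subgroup.centralizer ({z} : Set G))) := Subtype.ext (by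
        show g⁻¹ * (g * k * g⁻¹) * g = k
        group)
      exact ⟨⟨⟨_, hm2⟩, by rw [hN, Subgroup.mem_comap, hφm]; exact (q : Q).2⟩, Subtype.ext (Subtype.ext hφm)⟩
  -- image of the second subgroup
  set ρ := (proj e).comp (Subgroup.centralizer ({(x : (Subgroup.centralizer ({z} : Set G)))} : Set (Subgroup.centralizer ({z} : Set G)))).subtype with hρ
  have hQp : IsPGroup 2 Q := IsPGroup.of_card S.hS.2.2.2.1
  have hWp : IsPGroup 2 (N.map ρ) := (hQp.comap_of_injective φ hinj).map ρ
  have hWle : N.map ρ ≤ classStab1 v := by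
    rintro _ ⟨n, -, rfl⟩
    exact S.stab_image hx (by
      rw [mul_inv_eq_iff_eq_mul]; exact Subgroup.mem_centralizer_singleton_iff.1 n.2)
  have hWn : ∀ t ∈ classStab1 v, ∀ w ∈ N.map ρ, t * w * t⁻¹ ∈ N.map ρ := by
    rintro t ⟨gt, hgt, rfl⟩ w ⟨n, hn, rfl⟩
    obtain ⟨h, hh, hhx⟩ := S.conj_to hx hx hxc (g := gt) hgt
    have hhm : h ∈ Subgroup.centralizer ({(x : (Subgroup.centralizer ({z} : Set G)))} : Set (Subgroup.centralizer ({z} : Set G))) := by
      rw [Subgroup.mem_centralizer_singleton_iff]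
      rwa [mul_inv_eq_iff_eq_mul] at hhx
    refine ⟨⟨h, hhm⟩ * n * ⟨h, hhm⟩⁻¹, ?_, by simp [hρ, map_mul, map_inv, hh]⟩
    rw [SetLike.mem_coe, hN, Subgroup.mem_comap, map_mul, map_mul, map_inv]
    exact (inferInstance : Q.Normal).conj_mem _ hn _
  have hsplit : Nat.card N = Nat.card ↥(N ⊓ D) * Nat.card (N.map ρ) := by
    let f : N →* N.map ρ := ρ.subgroupMap N
    have e1 := Subgroup.card_eq_card_quotient_mul_card_subgroup f.ker
    rw [Nat.card_congr (QuotientGroup.quotientKerEquivOfSurjective f (ρ.subgroupMap_surjective N)).toEquiv] at e1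
    rw [e1, mul_comm]
    congr 1
    refine Nat.card_congr ⟨fun k => ⟨((k : N) : _), (k : N).2, ?_⟩, fun k => ⟨⟨(k : _), k.2.1⟩, ?_⟩,
      fun _ => rfl, fun _ => rfl⟩
    · exact (proj_one (e := e) _).1 (congrArg Subtype.val k.2)
    · exact Subtype.ext ((proj_one (e := e) _).2 k.2.2)
  -- commutators of the intersection vanish
  have habel : ∀ a b : Subgroup.centralizer ({(x : (Subgroup.centralizer ({z} : Set G)))} : Set (Subgroup.centralizer ({z} : Set G))), a ∈ N ⊓ D → b ∈ N ⊓ D → a * b = b * a := by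
    intro a b ha hb
    have hc1 := (S.center_iff _).1 (MonsterForm.comm_center S.extra ⟨_, ha.2⟩ ⟨_, hb.2⟩)
    have hc2 := (S.center_iff _).1 (MonsterForm.comm_center S.extra ⟨_, ha.1⟩ ⟨_, hb.1⟩)
    simp only [Subgroup.coe_mul, InvMemClass.coe_inv, Subgroup.coe_subtype] at hc1 hc2
    have hmap : φ (a * b * a⁻¹ * b⁻¹) = φ a * φ b * (φ a)⁻¹ * (φ b)⁻¹ := by simp [map_mul, map_inv]
    rcases hc1 with h | h
    · refine Subtype.ext ?_
      rw [mul_inv_eq_one, mul_inv_eq_iff_eq_mul] at h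
      exact h
    · exfalso
      have : a * b * a⁻¹ * b⁻¹ = ⟨zC z, hzm⟩ := Subtype.ext h
      rw [this, ← hr] at hmap
      rw [← hmap] at hc2
      exact hrne.1.elim (by rcases hc2 with h' | h'
                            · exact h'
                            · exact absurd h' hrne.2)
  have hMcard : Nat.card ↥((Q.map ((Subgroup.centralizer ({z} : Set G))).subtype) ⊓ (Q.map ((Subgroup.centralizer ({z} : Set G))).subtype).map (MulAut.conj g).toMonoidHom) =
      Nat.card ↥(N ⊓ D) := by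
    symm
    refine Nat.card_eq_of_bijective (fun k => ⟨(((k : Subgroup.centralizer ({(x : (Subgroup.centralizer ({z} : Set G)))} : Set (Subgroup.centralizer ({z} : Set G)))) : (Subgroup.centralizer ({z} : Set G))) : G),
      ⟨⟨_, k.2.2, rfl⟩, ⟨_, ⟨φ k, k.2.1, rfl⟩, ?_⟩⟩⟩) ⟨?_, ?_⟩
    · show g * (g⁻¹ * _ * g) * g⁻¹ = _
      group
    · intro a b h
      exact Subtype.ext (Subtype.ext (Subtype.ext (congrArg Subtype.val h :)))
    · rintro ⟨m, ⟨c, hcQ, rfl⟩, _, ⟨k, hkQ, rfl⟩, hkm⟩
      change g * (k : G) * g⁻¹ = (c : G) at hkm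
      have hcm : c ∈ Subgroup.centralizer ({(x : (Subgroup.centralizer ({z} : Set G)))} : Set (Subgroup.centralizer ({z} : Set G))) :=
        Subgroup.mem_centralizer_singleton_iff.2 (Subtype.ext (by
          show (c : G) * ((x : (Subgroup.centralizer ({z} : Set G))) : G) = ((x : (Subgroup.centralizer ({z} : Set G))) : G) * (c : G)
          have hk := Subgroup.mem_centralizer_singleton_iff.1 k.2
          rw [← hg, ← hkm]
          calc g * (k : G) * g⁻¹ * (g * z * g⁻¹) = g * ((k : G) * z) * g⁻¹ := by group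
            _ = g * (z * (k : G)) * g⁻¹ := by rw [hk]
            _ = g * z * g⁻¹ * (g * (k : G) * g⁻¹) := by group))
      refine ⟨⟨⟨c, hcm⟩, ?_, hcQ⟩, rfl⟩
      show φ ⟨c, hcm⟩ ∈ Q
      rw [show φ ⟨c, hcm⟩ = k from Subtype.ext (by
        show g⁻¹ * (c : G) * g = k
        rw [← hkm]; group)]
      exact hkQ
  have hupper : Nat.card ↥(N ⊓ D) ≤ 2 ^ 13 := by
    let ι : ↥(N ⊓ D) →* Q := MonoidHom.mk' (fun k => ⟨((k : _) : (Subgroup.centralizer ({z} : Set G))), k.2.2⟩) fun a b => rfl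
    have hι : Function.Injective ι := fun a b h => Subtype.ext (Subtype.ext (congrArg Subtype.val h :))
    rw [Nat.card_congr (MonoidHom.ofInjective hι).toEquiv]
    refine abelian_le S ⟨⟨fun a b => Subtype.ext ?_⟩⟩
    obtain ⟨a', ha'⟩ := a.2
    obtain ⟨b', hb'⟩ := b.2
    show (a : Q) * b = b * a
    rw [← ha', ← hb', ← map_mul, ← map_mul]
    exact congrArg ι (Subtype.ext (habel _ _ a'.2 b'.2))
  constructor
  · intro h32
    have hW := short_stab_trivial h32 hWp hWle hWn
    rw [hW, Subgroup.card_bot, mul_one, hNcard] at hsplit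
    omega
  · rw [hMcard]
    refine le_antisymm hupper ?_
    rcases hv with h32 | rfl
    · have hW := short_stab_trivial h32 hWp hWle hWn
      rw [hW, Subgroup.card_bot, mul_one, hNcard] at hsplit
      omega
    · have hW := cross_stab_small hWp hWle hWn
      rw [hNcard] at hsplit
      nlinarith [Nat.mul_le_mul_left (Nat.card ↥(N ⊓ D)) hW]

/-- the conjugates of the involution have norm-eight classes -/
theorem Setting.conj_type (S : Setting z Q e ψ) {x : Q} (hc : IsConj z ((x : (Subgroup.centralizer ({z} : Set G))) : G))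
    (hne : ((x : (Subgroup.centralizer ({z} : Set G))) : G) ≠ z) : ∃ v : Lv, sqNorm (v : Zv) = 64 ∧ ψ v = QuotientGroup.mk x := by
  obtain ⟨g, hg⟩ := isConj_iff.1 hc
  have hx2 : x * x = 1 := Subtype.ext (Subtype.ext (by
    show ((x : (Subgroup.centralizer ({z} : Set G))) : G) * ((x : (Subgroup.centralizer ({z} : Set G))) : G) = 1
    rw [← hg, show g * z * g⁻¹ * (g * z * g⁻¹) = g * (z * z) * g⁻¹ by group, ← sq, ← S.hS.1, pow_orderOf_eq_one]
    group))
  have hxc : x ∉ Subgroup.center Q := fun h => by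
    rcases (S.center_iff x).1 h with h' | h'
    · have h1 : ((x : (Subgroup.centralizer ({z} : Set G))) : G) = 1 := congrArg Subtype.val h'
      rw [h1] at hg
      exact S.z_ne (by rw [show z = g⁻¹ * (g * z * g⁻¹) * g by group, hg]; group)
    · exact hne (congrArg Subtype.val h')
  obtain ⟨v, hv, hψ⟩ := S.classify hx2 hxc
  refine ⟨v, hv.resolve_left fun h32 => ?_, hψ⟩
  obtain ⟨a, hao, haodd, -⟩ := shift_reps
  set v0 : Lv := ⟨oddVec, oddVec_mem⟩ with hv0
  obtain ⟨x0, hx0⟩ := QuotientGroup.mk_surjective (ψ v0)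
  obtain ⟨h, hh⟩ := S.conj_class hψ hx0.symm (h32.trans oddVec_norm.symm) (Or.inl h32)
  have hg' : ((h : G) * g) * z * ((h : G) * g)⁻¹ = ((x0 : (Subgroup.centralizer ({z} : Set G))) : G) := by
    have e0 : (h : G) * ((x : (Subgroup.centralizer ({z} : Set G))) : G) * (h : G)⁻¹ = ((x0 : (Subgroup.centralizer ({z} : Set G))) : G) := congrArg Subtype.val hh
    rw [← e0, ← hg]; group
  exact (S.key hx0.symm (Or.inl oddVec_norm) (haodd _) hao hg').1 oddVec_norm

theorem Setting.exists_conj (S : Setting z Q e ψ) :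
    ∃ (x : Q) (v : Lv), IsConj z ((x : (Subgroup.centralizer ({z} : Set G))) : G) ∧ sqNorm (v : Zv) = 64 ∧ ψ v = QuotientGroup.mk x := by
  obtain ⟨g, ⟨hq, hmem⟩, hne⟩ := S.hS.2.2.2.2
  have hc : IsConj z (g * z * g⁻¹) := isConj_iff.2 ⟨g, rfl⟩
  obtain ⟨v, hv⟩ := S.conj_type (x := ⟨_, hmem⟩) hc hne
  exact ⟨_, v, hc, hv⟩

theorem Setting.conj_iff (S : Setting z Q e ψ) (x : Q) :
    (IsConj z ((x : (Subgroup.centralizer ({z} : Set G))) : G) ∧ ((x : (Subgroup.centralizer ({z} : Set G))) : G) ≠ z) ↔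
      ∃ v : Lv, sqNorm (v : Zv) = 64 ∧ ψ v = QuotientGroup.mk x := by
  refine ⟨fun h => S.conj_type h.1 h.2, fun ⟨v, hv, hψ⟩ => ⟨?_, fun h => ?_⟩⟩
  · obtain ⟨x0, w, hc, hw, hψw⟩ := S.exists_conj
    obtain ⟨h, hh⟩ := S.conj_class hψw hψ (hw.trans hv.symm) (Or.inr hw)
    refine hc.trans (isConj_iff.2 ⟨(h : G), ?_⟩)
    exact congrArg Subtype.val hh
  · exact S.noncentral hψ (Or.inr hv) ((S.center_iff x).2 (Or.inr (Subtype.ext h)))

theorem Setting.transitive (S : Setting z Q e ψ) (x y : Q)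
    (hx : IsConj z ((x : (Subgroup.centralizer ({z} : Set G))) : G)) (hy : IsConj z ((y : (Subgroup.centralizer ({z} : Set G))) : G))
    (hx1 : ((x : (Subgroup.centralizer ({z} : Set G))) : G) ≠ z) (hy1 : ((y : (Subgroup.centralizer ({z} : Set G))) : G) ≠ z) :
    ∃ h ∈ (Subgroup.centralizer ({z} : Set G)), h * ((x : (Subgroup.centralizer ({z} : Set G))) : G) * h⁻¹ = ((y : (Subgroup.centralizer ({z} : Set G))) : G) := by
  obtain ⟨v, hv, hψv⟩ := S.conj_type hx hx1
  obtain ⟨w, hw, hψw⟩ := S.conj_type hy hy1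
  obtain ⟨h, hh⟩ := S.conj_class hψv hψw (hv.trans hw.symm) (Or.inr hv)
  exact ⟨_, h.2, congrArg Subtype.val hh⟩

theorem Setting.transitive_other (S : Setting z Q e ψ) (x y : Q)
    (hx2 : orderOf ((x : (Subgroup.centralizer ({z} : Set G))) : G) = 2) (hy2 : orderOf ((y : (Subgroup.centralizer ({z} : Set G))) : G) = 2)
    (hx : ¬ IsConj z ((x : (Subgroup.centralizer ({z} : Set G))) : G)) (hy : ¬ IsConj z ((y : (Subgroup.centralizer ({z} : Set G))) : G)) :
    ∃ h ∈ (Subgroup.centralizer ({z} : Set G)), h * ((x : (Subgroup.centralizer ({z} : Set G))) : G) * h⁻¹ = ((y : (Subgroup.centralizer ({z} : Set G))) : G) := by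
  have key : ∀ u : Q, orderOf ((u : (Subgroup.centralizer ({z} : Set G))) : G) = 2 → ¬ IsConj z ((u : (Subgroup.centralizer ({z} : Set G))) : G) →
      ∃ v : Lv, sqNorm (v : Zv) = 32 ∧ ψ v = QuotientGroup.mk u := by
    intro u hu2 hu
    have h2 : u * u = 1 := Subtype.ext (Subtype.ext (by
      show ((u : (Subgroup.centralizer ({z} : Set G))) : G) * ((u : (Subgroup.centralizer ({z} : Set G))) : G) = 1
      rw [← sq, ← hu2, pow_orderOf_eq_one]))
    have hc : u ∉ Subgroup.center Q := fun h => by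
      rcases (S.center_iff u).1 h with h' | h'
      · have h1 : ((u : (Subgroup.centralizer ({z} : Set G))) : G) = 1 := congrArg Subtype.val h'
        rw [h1, orderOf_one] at hu2
        omega
      · have h1 : ((u : (Subgroup.centralizer ({z} : Set G))) : G) = z := congrArg Subtype.val h'
        rw [h1] at hu
        exact hu (IsConj.refl z)
    obtain ⟨v, hv, hψ⟩ := S.classify h2 hc
    exact ⟨v, hv.resolve_right fun h => hu ((S.conj_iff u).2 ⟨v, h, hψ⟩).1, hψ⟩
  obtain ⟨v, hv, hψv⟩ := key x hx2 hx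
  obtain ⟨w, hw, hψw⟩ := key y hy2 hy
  obtain ⟨h, hh⟩ := S.conj_class hψv hψw (hv.trans hw.symm) (Or.inl hv)
  exact ⟨_, h.2, congrArg Subtype.val hh⟩

theorem Setting.meet_card (S : Setting z Q e ψ) (x : Q) {g : G} (hg : g * z * g⁻¹ = ((x : (Subgroup.centralizer ({z} : Set G))) : G))
    (hne : ((x : (Subgroup.centralizer ({z} : Set G))) : G) ≠ z) :
    Nat.card ↥((Q.map ((Subgroup.centralizer ({z} : Set G))).subtype) ⊓ (Q.map ((Subgroup.centralizer ({z} : Set G))).subtype).map (MulAut.conj g).toMonoidHom) = 2 ^ 13 := by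
  obtain ⟨v, hv, hψ⟩ := S.conj_type (isConj_iff.2 ⟨g, hg⟩) hne
  obtain ⟨a, hao, -, ha⟩ := shift_reps
  obtain ⟨x0, hx0⟩ := QuotientGroup.mk_surjective (ψ (e8 none))
  obtain ⟨h, hh⟩ := S.conj_class hψ hx0.symm (hv.trans (e8_norm none).symm) (Or.inr hv)
  have hg' : ((h : G) * g) * z * ((h : G) * g)⁻¹ = ((x0 : (Subgroup.centralizer ({z} : Set G))) : G) := by
    have e0 : (h : G) * ((x : (Subgroup.centralizer ({z} : Set G))) : G) * (h : G)⁻¹ = ((x0 : (Subgroup.centralizer ({z} : Set G))) : G) := congrArg Subtype.val hh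
    rw [← e0, ← hg]; group
  refine Eq.trans ?_ (S.key hx0.symm (Or.inr rfl) ha hao hg').2
  set K := Q.map ((Subgroup.centralizer ({z} : Set G))).subtype with hK
  have hKn : K.map (MulAut.conj (h : G)).toMonoidHom = K := by
    ext m
    constructor
    · rintro ⟨k, ⟨q, hq, rfl⟩, rfl⟩
      exact ⟨h * q * h⁻¹, (inferInstance : Q.Normal).conj_mem _ hq _, by simp⟩
    · rintro ⟨q, hq, rfl⟩
      refine ⟨_, ⟨h⁻¹ * q * h, by simpa using (inferInstance : Q.Normal).conj_mem _ hq h⁻¹, rfl⟩, ?_⟩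
      simp [mul_assoc]
  have e1 : K ⊓ K.map (MulAut.conj ((h : G) * g)).toMonoidHom =
      (K ⊓ K.map (MulAut.conj g).toMonoidHom).map (MulAut.conj (h : G)).toMonoidHom := by
    rw [Subgroup.map_inf_eq _ _ _ (MulAut.conj (h : G)).injective, hKn,
      Subgroup.map_map K (MulAut.conj (h : G)).toMonoidHom (MulAut.conj g).toMonoidHom]
    refine congrArg (fun f => K ⊓ K.map f) (MonoidHom.ext fun k => ?_)
    simp [mul_assoc]
  rw [e1]
  exact (Nat.card_congr (Subgroup.equivMapOfInjective _ _ (MulAut.conj (h : G)).injective).toEquiv)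

end Cfsg.Agent.Spor.MonsterFusion
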