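/-
In a group of Monster type the stabiliser of a conjugate of the central involution in the extraspecial subgroup
induces 2^11:M24 on the Conway group quotient.
-/
import Cfsg.Agent.Lib.Spor.MonsterFusion

set_option autoImplicit false
set_option maxRecDepth 100000

namespace Cfsg.Agent.Spor.MonsterFusion

open Cfsg
open scoped Pointwise

local notation "Zv" => GolayPt → ℤ
set_option quotPrecheck false in
local notation "Lv" => ↥leechLattice

/-- sign changes -/
def signSub : Subgroup ↥Co0 where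
  carrier := {g | ∃ w ∈ golayCode, ∀ v : Lv, ((g • v : Lv) : Zv) = sgn w (v : Zv)}
  one_mem' := ⟨0, zero_mem _, fun v => by rw [one_smul]; funext p; simp [sgn]⟩
  mul_mem' := by
    rintro g h ⟨w, hw, e⟩ ⟨w', hw', e'⟩
    exact ⟨w + w', add_mem hw hw', fun v => by rw [mul_smul, e, e', sgn_add_word]⟩
  inv_mem' := by
    rintro g ⟨w, hw, e⟩
    refine ⟨w, hw, fun v => ?_⟩
    have := e (g⁻¹ • v)
    rw [smul_inv_smul] at this
    rw [this, sgn_sgn]

/-- coordinate permutations -/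
def permSub : Subgroup ↥Co0 where
  carrier := {g | ∃ σ ∈ M24, ∀ v : Lv, ((g • v : Lv) : Zv) = prm σ (v : Zv)}
  one_mem' := ⟨1, one_mem _, fun v => by rw [one_smul]; funext p; simp [prm, Equiv.Perm.one_def]⟩
  mul_mem' := by
    rintro g h ⟨σ, hσ, e⟩ ⟨τ, hτ, e'⟩
    exact ⟨σ * τ, mul_mem hσ hτ, fun v => by rw [mul_smul, e, e']; rfl⟩
  inv_mem' := by
    rintro g ⟨σ, hσ, e⟩
    refine ⟨σ⁻¹, inv_mem hσ, fun v => ?_⟩
    have := e (g⁻¹ • v)
    rw [smul_inv_smul] at this
    rw [this, prm_inv_left]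

/-- their images -/
noncomputable def signSub1 : Subgroup Cfsg.Spor.Co1 := signSub.map (QuotientGroup.mk' (Subgroup.center ↥Co0))
noncomputable def permSub1 : Subgroup Cfsg.Spor.Co1 := permSub.map (QuotientGroup.mk' (Subgroup.center ↥Co0))

theorem center_le_sign : Subgroup.center ↥Co0 ≤ signSub := by
  intro g hg
  obtain ⟨n, hn⟩ := negation_exists
  rcases center_cases hn hg with rfl | rfl
  · exact one_mem _
  · exact ⟨1, one_word_mem, fun v => by rw [hn]; funext p; simp [sgn]⟩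

theorem card_signSub : Nat.card signSub = 4096 := by
  rw [← card_golayCode]
  have h : ∀ w : ↥golayCode, ∃ g : ↥Co0, ∀ v : Lv, ((g • v : Lv) : Zv) = sgn w (v : Zv) := fun w => exists_sgn w.2
  choose F hF using h
  refine (Nat.card_congr (Equiv.ofBijective (fun w => (⟨F w, w, w.2, hF w⟩ : signSub)) ⟨?_, ?_⟩)).symm
  · intro w w' h
    have e : F w = F w' := congrArg Subtype.val h
    exact Subtype.ext (mono_unique (σ := 1) (τ := 1) fun v => by
      have h1 : prm 1 (v : Zv) = (v : Zv) := funext fun p => by simp [prm, Equiv.Perm.one_def]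
      rw [h1, ← hF, ← hF, e]).2
  · rintro ⟨g, w, hw, e⟩
    exact ⟨⟨w, hw⟩, Subtype.ext (co0_ext fun v => (hF _ v).trans (e v).symm)⟩

theorem card_sign1 : Nat.card signSub1 = 2048 := by
  haveI := co0_finite
  let f : signSub →* signSub1 := (QuotientGroup.mk' (Subgroup.center ↥Co0)).subgroupMap signSub
  have e1 := Subgroup.card_eq_card_quotient_mul_card_subgroup f.ker
  rw [Nat.card_congr (QuotientGroup.quotientKerEquivOfSurjective f (MonoidHom.subgroupMap_surjective _ _)).toEquiv,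
    card_signSub] at e1
  have e2 : Nat.card f.ker = 2 := by
    rw [← card_center]
    exact Nat.card_congr ⟨fun k => ⟨((k : signSub) : ↥Co0), (QuotientGroup.eq_one_iff _).1 (congrArg Subtype.val k.2)⟩,
      fun c => ⟨⟨(c : ↥Co0), center_le_sign c.2⟩, Subtype.ext ((QuotientGroup.eq_one_iff _).2 c.2)⟩,
      fun _ => rfl, fun _ => rfl⟩
  rw [e2] at e1
  omega

theorem sign1_le : signSub1 ≤ classStab1 (e8 none) := by
  refine Subgroup.map_mono ?_
  rintro g ⟨w, hw, e⟩
  rw [classStab_e8]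
  exact mem_monoSub.2 (mono_std (σ := 1) (w := w) fun v => by rw [e]; congr 1)

theorem perm1_le : permSub1 ≤ classStab1 (e8 none) := by
  refine Subgroup.map_mono ?_
  rintro g ⟨σ, hσ, e⟩
  rw [classStab_e8]
  exact mem_monoSub.2 (mono_std (σ := σ) (w := 0) fun v => by rw [e]; funext p; simp [sgn])

theorem sign1_normal : ∀ s ∈ classStab1 (e8 none), ∀ w ∈ signSub1, s * w * s⁻¹ ∈ signSub1 := by
  rintro _ ⟨g, hg, rfl⟩ _ ⟨k, ⟨w, hw, e⟩, rfl⟩
  rw [SetLike.mem_coe, classStab_e8] at hg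
  obtain ⟨σ, hσ, u, hu, eg⟩ := std_form (mem_monoSub.1 hg)
  refine ⟨g * k * g⁻¹, ⟨actW σ w, actW_mem hσ hw, fun v => ?_⟩, by rw [map_mul, map_mul, map_inv]⟩
  have h' := eg (g⁻¹ • v)
  rw [smul_inv_smul] at h'
  rw [mul_smul, mul_smul, eg, e, prm_sgn, sgn_add_word, h', sgn_add_word]
  congr 1
  abel

theorem sign1_elem : IsElementaryAbelian 2 signSub1 := by
  have hmul : ∀ a b : signSub1, a * b = b * a := by
    rintro ⟨_, g, ⟨w, -, e⟩, rfl⟩ ⟨_, h, ⟨w', -, e'⟩, rfl⟩
    refine Subtype.ext ?_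
    show QuotientGroup.mk' _ g * QuotientGroup.mk' _ h = QuotientGroup.mk' _ h * QuotientGroup.mk' _ g
    rw [← map_mul, ← map_mul]
    exact congrArg _ (co0_ext fun v => by rw [mul_smul, mul_smul, e, e', e', e, sgn_add_word, sgn_add_word, add_comm])
  refine ⟨⟨⟨hmul⟩⟩, ?_⟩
  rintro _ ⟨g, ⟨w, -, e⟩, rfl⟩
  rw [← map_pow, show g ^ 2 = 1 from co0_ext fun v => by rw [sq, mul_smul, e, e, sgn_sgn, one_smul], map_one]

theorem sign1_meet_perm : signSub1 ⊓ permSub1 = ⊥ := by
  refine (Subgroup.eq_bot_iff_forall _).2 ?_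
  intro x hx
  obtain ⟨h1, h2⟩ := Subgroup.mem_inf.1 hx
  obtain ⟨g, hg, rfl⟩ := Subgroup.mem_map.1 h1
  obtain ⟨h, hh, eh⟩ := Subgroup.mem_map.1 h2
  obtain ⟨σ, hσ, e⟩ := hh
  have hc : h⁻¹ * g ∈ Subgroup.center ↥Co0 := QuotientGroup.eq.1 eh
  have hmem : h ∈ signSub := by
    have := mul_mem hg (inv_mem (center_le_sign hc))
    rwa [mul_inv_rev, inv_inv, mul_inv_cancel_left] at this
  obtain ⟨w, hw, ew⟩ := hmem
  have h1 := mono_unique (σ := σ) (τ := 1) (w := 0) (w' := w) fun v => by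
    have : prm 1 (v : Zv) = (v : Zv) := funext fun p => by simp [prm, Equiv.Perm.one_def]
    rw [this, ← ew, e]; funext p; simp [sgn]
  rw [← eh]
  have : h = 1 := co0_ext fun v => by rw [e, h1.1, one_smul]; funext p; simp [prm, Equiv.Perm.one_def]
  rw [this, map_one]

theorem sign1_sup_perm : signSub1 ⊔ permSub1 = classStab1 (e8 none) := by
  refine le_antisymm (sup_le sign1_le perm1_le) ?_
  rintro _ ⟨g, hg, rfl⟩
  rw [SetLike.mem_coe, classStab_e8] at hg
  obtain ⟨σ, hσ, w, hw, e⟩ := std_form (mem_monoSub.1 hg)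
  obtain ⟨a, ha⟩ := exists_sgn hw
  obtain ⟨b, hb⟩ := exists_prm hσ
  rw [show g = a * b from co0_ext fun v => by rw [e, mul_smul, ha, hb], map_mul]
  exact Subgroup.mul_mem_sup ⟨a, ⟨w, hw, ha⟩, rfl⟩ ⟨b, ⟨σ, hσ, hb⟩, rfl⟩

theorem perm1_iso : Nonempty (permSub1 ≃* ↥M24) := by
  have h : ∀ σ : ↥M24, ∃ g : ↥Co0, ∀ v : Lv, ((g • v : Lv) : Zv) = prm σ (v : Zv) := fun σ => exists_prm σ.2
  choose F hF using h
  let f : ↥M24 →* permSub1 := MonoidHom.mk'
    (fun σ => ⟨QuotientGroup.mk' (Subgroup.center ↥Co0) (F σ), F σ, ⟨σ, σ.2, hF σ⟩, rfl⟩) fun σ τ => Subtype.ext (by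
      show QuotientGroup.mk' _ (F (σ * τ)) = QuotientGroup.mk' _ (F σ) * QuotientGroup.mk' _ (F τ)
      rw [← map_mul]
      exact congrArg _ (co0_ext fun v => by rw [hF, mul_smul, hF, hF]; rfl))
  refine ⟨(MulEquiv.ofBijective f ⟨(injective_iff_map_eq_one f).2 fun σ hσ => ?_, ?_⟩).symm⟩
  · have hc : F σ ∈ Subgroup.center ↥Co0 := (QuotientGroup.eq_one_iff _).1 (congrArg Subtype.val hσ)
    obtain ⟨w, hw, ew⟩ := center_le_sign hc
    refine Subtype.ext (mono_unique (σ := (σ : Equiv.Perm GolayPt)) (τ := 1) (w := 0) (w' := w) fun v => ?_).1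
    have : prm 1 (v : Zv) = (v : Zv) := funext fun p => by simp [prm, Equiv.Perm.one_def]
    rw [this, ← ew, hF]; funext p; simp [sgn]
  · rintro ⟨_, g, ⟨σ, hσ, e⟩, rfl⟩
    exact ⟨⟨σ, hσ⟩, Subtype.ext (congrArg (QuotientGroup.mk' (Subgroup.center ↥Co0)) (co0_ext fun v => (hF ⟨σ, hσ⟩ v).trans (e v).symm))⟩

/-- a normal 2-subgroup of order 2048 in the stabiliser of the cross is the sign group -/
theorem eq_sign {W : Subgroup Cfsg.Spor.Co1} (hW : IsPGroup 2 W) (hle : W ≤ classStab1 (e8 none))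
    (hnorm : ∀ s ∈ classStab1 (e8 none), ∀ w ∈ W, s * w * s⁻¹ ∈ W) (hc : Nat.card W = 2048) : W = signSub1 := by
  haveI := co0_finite
  have hp : IsPGroup 2 signSub1 := IsPGroup.of_card (n := 11) (by rw [card_sign1]; norm_num)
  have hsn : signSub1 ≤ Subgroup.normalizer (W : Set Cfsg.Spor.Co1) := fun s hs =>
    Subgroup.mem_normalizer_iff.2 fun w => ⟨fun h => hnorm s (sign1_le hs) w h, fun h => by
      have := hnorm _ (inv_mem (sign1_le hs)) _ h
      rwa [show s⁻¹ * (s * w * s⁻¹) * s⁻¹⁻¹ = w by group] at this⟩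
  have hsup : IsPGroup 2 ↥(signSub1 ⊔ W) := hp.to_sup_of_normal_right' hW hsn
  have hsmall := cross_stab_small hsup (sup_le sign1_le hle) (fun s hs w hw => by
    have : (signSub1 ⊔ W).map (MulAut.conj s).toMonoidHom ≤ signSub1 ⊔ W := by
      rw [Subgroup.map_sup]
      refine sup_le_sup ?_ ?_
      · rintro _ ⟨a, ha, rfl⟩; exact sign1_normal s hs a ha
      · rintro _ ⟨a, ha, rfl⟩; exact hnorm s hs a ha
    exact this ⟨w, hw, rfl⟩)
  have h1 : signSub1 = signSub1 ⊔ W := Subgroup.eq_of_le_of_card_ge le_sup_left (by rw [card_sign1]; exact hsmall)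
  exact Subgroup.eq_of_le_of_card_ge (le_sup_right.trans h1.ge) (by rw [card_sign1, hc])

variable {G : Type*} [Group G] [Finite G] {z : G} {Q : Subgroup (Subgroup.centralizer ({z} : Set G))} [Q.Normal]
  {e : (Subgroup.centralizer ({z} : Set G)) ⧸ Q ≃* Cfsg.Spor.Co1} {ψ : Lv → Q ⧸ Subgroup.center Q}

theorem Setting.split (S : Setting z Q e ψ) (x : Q) {g : G}
    (hg : g * z * g⁻¹ = ((x : Subgroup.centralizer ({z} : Set G)) : G))
    (hne : ((x : Subgroup.centralizer ({z} : Set G)) : G) ≠ z)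
    (X E : Subgroup ((Subgroup.centralizer ({z} : Set G)) ⧸ Q))
    (hX : X = ((Subgroup.centralizer ({z} : Set G) ⊓
      Subgroup.centralizer ({((x : Subgroup.centralizer ({z} : Set G)) : G)} : Set G)).subgroupOf
        (Subgroup.centralizer ({z} : Set G))).map (QuotientGroup.mk' Q))
    (hE : E = (((Q.map (Subgroup.centralizer ({z} : Set G)).subtype).map (MulAut.conj g).toMonoidHom ⊓
      Subgroup.centralizer ({z} : Set G)).subgroupOf (Subgroup.centralizer ({z} : Set G))).map (QuotientGroup.mk' Q)) :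
    E ≤ X ∧ (∀ x ∈ X, ∀ y ∈ E, x * y * x⁻¹ ∈ E) ∧ IsElementaryAbelian 2 E ∧ Nat.card E = 2 ^ 11 ∧
      ∃ K : Subgroup ((Subgroup.centralizer ({z} : Set G)) ⧸ Q), K ≤ X ∧ E ⊓ K = ⊥ ∧ E ⊔ K = X ∧
        Nonempty (K ≃* ↥M24) := by
  classical
  haveI := co0_finite
  set KQ := Q.map (Subgroup.centralizer ({z} : Set G)).subtype with hKQ
  set M := (KQ.map (MulAut.conj g).toMonoidHom ⊓ (Subgroup.centralizer ({z} : Set G))).subgroupOf (Subgroup.centralizer ({z} : Set G)) with hM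
  set H := ((Subgroup.centralizer ({z} : Set G)) ⊓ Subgroup.centralizer ({((x : (Subgroup.centralizer ({z} : Set G))) : G)} : Set G)).subgroupOf (Subgroup.centralizer ({z} : Set G)) with hH
  have hgk : ∀ q : (Subgroup.centralizer ({z} : Set G)), g * (q : G) * g⁻¹ * ((x : (Subgroup.centralizer ({z} : Set G))) : G) = ((x : (Subgroup.centralizer ({z} : Set G))) : G) * (g * (q : G) * g⁻¹) := fun q => by
    have hq := Subgroup.mem_centralizer_singleton_iff.1 q.2
    rw [← hg]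
    calc g * (q : G) * g⁻¹ * (g * z * g⁻¹) = g * ((q : G) * z) * g⁻¹ := by group
      _ = g * (z * (q : G)) * g⁻¹ := by rw [hq]
      _ = g * z * g⁻¹ * (g * (q : G) * g⁻¹) := by group
  have hMH : M ≤ H := by
    rintro m ⟨⟨_, ⟨q, hq, rfl⟩, hm⟩, -⟩
    rw [hH, Subgroup.mem_subgroupOf]
    refine ⟨m.2, Subgroup.mem_centralizer_singleton_iff.2 ?_⟩
    have hm' : g * (q : G) * g⁻¹ = (m : G) := hm
    rw [← hm']; exact hgk q
  have hMn : ∀ h ∈ H, ∀ m ∈ M, h * m * h⁻¹ ∈ M := by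
    rintro h ⟨-, hh⟩ m ⟨⟨_, ⟨q, hq, rfl⟩, hm⟩, hmC⟩
    have hh' := Subgroup.mem_centralizer_singleton_iff.1 hh
    change (h : G) * ((x : (Subgroup.centralizer ({z} : Set G))) : G) = ((x : (Subgroup.centralizer ({z} : Set G))) : G) * (h : G) at hh'
    have hk : g⁻¹ * (h : G) * g ∈ (Subgroup.centralizer ({z} : Set G)) := Subgroup.mem_centralizer_singleton_iff.2 (by
      rw [← hg] at hh'
      calc g⁻¹ * (h : G) * g * z = g⁻¹ * ((h : G) * (g * z * g⁻¹)) * g := by group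
        _ = g⁻¹ * (g * z * g⁻¹ * (h : G)) * g := by rw [hh']
        _ = z * (g⁻¹ * (h : G) * g) := by group)
    refine ⟨⟨_, ⟨⟨_, hk⟩ * q * ⟨_, hk⟩⁻¹, (inferInstance : Q.Normal).conj_mem _ hq _, rfl⟩, ?_⟩, (h * m * h⁻¹).2⟩
    have hm' : g * (q : G) * g⁻¹ = (m : G) := hm
    show g * (g⁻¹ * (h : G) * g * (q : G) * (g⁻¹ * (h : G) * g)⁻¹) * g⁻¹ = (h : G) * (m : G) * (h : G)⁻¹
    rw [← hm']; group
  -- the intersection contains the involution
  set A := KQ ⊓ KQ.map (MulAut.conj g).toMonoidHom with hA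
  have hAcard : Nat.card A = 2 ^ 13 := S.meet_card x hg hne
  have hAab : ∀ a ∈ A, ∀ b ∈ A, a * b = b * a := by
    rintro a ⟨⟨a1, ha1, rfl⟩, ⟨_, ⟨a2, ha2, rfl⟩, ea⟩⟩ b ⟨⟨b1, hb1, rfl⟩, ⟨_, ⟨b2, hb2, rfl⟩, eb⟩⟩
    have ea' : g * (a2 : G) * g⁻¹ = (a1 : G) := ea
    have eb' : g * (b2 : G) * g⁻¹ = (b1 : G) := eb
    have h1 := (S.center_iff _).1 (MonsterForm.comm_center S.extra ⟨a1, ha1⟩ ⟨b1, hb1⟩)
    have h2 := (S.center_iff _).1 (MonsterForm.comm_center S.extra ⟨a2, ha2⟩ ⟨b2, hb2⟩)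
    show (a1 : G) * (b1 : G) = (b1 : G) * (a1 : G)
    have hc : (a1 : G) * (b1 : G) * (a1 : G)⁻¹ * (b1 : G)⁻¹ =
        g * ((a2 : G) * (b2 : G) * (a2 : G)⁻¹ * (b2 : G)⁻¹) * g⁻¹ := by rw [← ea', ← eb']; group
    rcases h1 with h | h
    · have h' : (a1 : G) * (b1 : G) * (a1 : G)⁻¹ * (b1 : G)⁻¹ = 1 := congrArg Subtype.val h
      rw [mul_inv_eq_one, mul_inv_eq_iff_eq_mul] at h'
      exact h'
    · exfalso
      have h' : (a1 : G) * (b1 : G) * (a1 : G)⁻¹ * (b1 : G)⁻¹ = z := congrArg Subtype.val h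
      rw [h'] at hc
      rcases h2 with h2 | h2
      · have h2' : (a2 : G) * (b2 : G) * (a2 : G)⁻¹ * (b2 : G)⁻¹ = 1 := congrArg Subtype.val h2
        rw [h2', mul_one, mul_inv_cancel] at hc
        exact S.z_ne hc
      · have h2' : (a2 : G) * (b2 : G) * (a2 : G)⁻¹ * (b2 : G)⁻¹ = z := congrArg Subtype.val h2
        rw [h2', hg] at hc
        exact hne hc.symm
  have hzA : z ∈ A := by
    have hzK : z ∈ KQ := ⟨zC z, z_mem e, rfl⟩
    set B := (A ⊔ Subgroup.zpowers z).comap ((Subgroup.centralizer ({z} : Set G)).subtype.comp Q.subtype) with hB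
    have hle : A ⊔ Subgroup.zpowers z ≤ KQ := sup_le inf_le_left (Subgroup.zpowers_le.2 hzK)
    have hcomm : IsMulCommutative (A ⊔ Subgroup.zpowers z : Subgroup G) := by
      haveI : IsMulCommutative A := ⟨⟨fun a b => Subtype.ext (hAab a a.2 b b.2)⟩⟩
      refine ⟨⟨fun a b => Subtype.ext ?_⟩⟩
      have hsub : A ⊔ Subgroup.zpowers z = Subgroup.closure ((A : Set G) ∪ {z}) := by
        rw [Subgroup.closure_union, Subgroup.closure_eq, Subgroup.zpowers_eq_closure]
      have := Subgroup.closure_induction₂ (p := fun u v _ _ => Commute u v) (k := (A : Set G) ∪ {z}) ?_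
        (fun _ _ => Commute.one_left _) (fun _ _ => Commute.one_right _)
        (fun _ _ _ _ _ _ h₁ h₂ => Commute.mul_left h₁ h₂) (fun _ _ _ _ _ _ h₁ h₂ => Commute.mul_right h₁ h₂)
        (fun _ _ _ _ h => Commute.inv_left h) (fun _ _ _ _ h => Commute.inv_right h)
        (by rw [← hsub]; exact a.2) (by rw [← hsub]; exact b.2)
      · exact this
      · have hz' : ∀ u ∈ A, Commute u z := fun u hu => by
          obtain ⟨u', -, rfl⟩ := hu.1
          exact Subgroup.mem_centralizer_singleton_iff.1 u'.2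
        rintro u v (hu | hu) (hv | hv)
        · exact hAab u hu v hv
        · rw [Set.mem_singleton_iff.1 hv]; exact hz' u hu
        · rw [Set.mem_singleton_iff.1 hu]; exact (hz' v hv).symm
        · rw [Set.mem_singleton_iff.1 hu, Set.mem_singleton_iff.1 hv]
    have hBc : IsMulCommutative B := ⟨⟨fun a b => Subtype.ext (Subtype.ext (Subtype.ext (by
      have := congrArg Subtype.val (hcomm.is_comm.comm ⟨_, a.2⟩ ⟨_, b.2⟩)
      simpa using this)))⟩⟩
    have hinj : Function.Injective ((Subgroup.centralizer ({z} : Set G)).subtype.comp Q.subtype) :=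
      (Subgroup.subtype_injective (Subgroup.centralizer ({z} : Set G))).comp (Subgroup.subtype_injective Q)
    have hmap : B.map ((Subgroup.centralizer ({z} : Set G)).subtype.comp Q.subtype) = A ⊔ Subgroup.zpowers z := by
      rw [hB, Subgroup.map_comap_eq, inf_eq_right]
      rwa [MonoidHom.range_comp, Subgroup.range_subtype]
    have hBle := abelian_le S hBc
    rw [Nat.card_congr (Subgroup.equivMapOfInjective B _ hinj).toEquiv, hmap, ← hAcard] at hBle
    rw [Subgroup.eq_of_le_of_card_ge le_sup_left hBle]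
    exact Subgroup.mem_sup_right (Subgroup.mem_zpowers z)
  obtain ⟨-, ⟨_, ⟨r, hr, rfl⟩, hrz⟩⟩ := hzA
  have hrz' : g * (r : G) * g⁻¹ = z := hrz
  have hrc : (⟨r, hr⟩ : Q) ∉ Subgroup.center Q := fun h => by
    rcases (S.center_iff _).1 h with h' | h'
    · have h'' : (r : G) = 1 := congrArg Subtype.val h'
      rw [h'', mul_one, mul_inv_cancel] at hrz'
      exact S.z_ne hrz'.symm
    · have h'' : (r : G) = z := congrArg Subtype.val h'
      rw [h'', hg] at hrz'
      exact hne hrz'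
  have hMcard : Nat.card M = 2 ^ 24 := by
    rw [← card_cent S hrc]
    symm
    have hin : ∀ q : Subgroup.centralizer ({(⟨r, hr⟩ : Q)} : Set Q), g * (((q : Q) : (Subgroup.centralizer ({z} : Set G))) : G) * g⁻¹ ∈ (Subgroup.centralizer ({z} : Set G)) := fun q => by
      have hq : (((q : Q) : (Subgroup.centralizer ({z} : Set G))) : G) * (r : G) = (r : G) * (((q : Q) : (Subgroup.centralizer ({z} : Set G))) : G) :=
        congrArg (fun t : Q => ((t : (Subgroup.centralizer ({z} : Set G))) : G)) (Subgroup.mem_centralizer_singleton_iff.1 q.2)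
      refine Subgroup.mem_centralizer_singleton_iff.2 ?_
      refine Eq.trans (congrArg (_ * ·) hrz'.symm) (Eq.trans ?_ (congrArg (· * _) hrz'))
      calc g * (((q : Q) : (Subgroup.centralizer ({z} : Set G))) : G) * g⁻¹ * (g * (r : G) * g⁻¹) = g * ((((q : Q) : (Subgroup.centralizer ({z} : Set G))) : G) * (r : G)) * g⁻¹ := by group
        _ = g * ((r : G) * (((q : Q) : (Subgroup.centralizer ({z} : Set G))) : G)) * g⁻¹ := by rw [hq]
        _ = _ := by group
    refine Nat.card_eq_of_bijective (fun q => (⟨⟨_, hin q⟩, ⟨_, ⟨_, (q : Q).2, rfl⟩, rfl⟩, hin q⟩ : M)) ⟨?_, ?_⟩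
    · intro a b h
      have h' : g * (((a : Q) : (Subgroup.centralizer ({z} : Set G))) : G) * g⁻¹ = g * (((b : Q) : (Subgroup.centralizer ({z} : Set G))) : G) * g⁻¹ :=
        congrArg (fun t : M => ((t : (Subgroup.centralizer ({z} : Set G))) : G)) h
      exact Subtype.ext (Subtype.ext (Subtype.ext (mul_left_cancel (mul_right_cancel h'))))
    · rintro ⟨m, ⟨_, ⟨q, hq, rfl⟩, hm⟩, hmC⟩
      have hm' : g * (q : G) * g⁻¹ = (m : G) := hm
      refine ⟨⟨⟨q, hq⟩, Subgroup.mem_centralizer_singleton_iff.2 (Subtype.ext (Subtype.ext ?_))⟩,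
        Subtype.ext (Subtype.ext hm')⟩
      show (q : G) * (r : G) = (r : G) * (q : G)
      have hmz := Subgroup.mem_centralizer_singleton_iff.1 hmC
      change (m : G) * z = z * (m : G) at hmz
      replace hmz := (congrArg (fun t => g * (q : G) * g⁻¹ * t) hrz').trans ((by rw [hm']; exact hmz :
        g * (q : G) * g⁻¹ * z = z * (g * (q : G) * g⁻¹)).trans (congrArg (fun t => t * (g * (q : G) * g⁻¹)) hrz'.symm))
      calc (q : G) * (r : G) = g⁻¹ * (g * (q : G) * g⁻¹ * (g * (r : G) * g⁻¹)) * g := by group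
        _ = g⁻¹ * (g * (r : G) * g⁻¹ * (g * (q : G) * g⁻¹)) * g := by rw [hmz]
        _ = (r : G) * (q : G) := by group
  -- the image has order 2^11
  set W := M.map (proj e) with hW
  have hWcard : Nat.card W = 2048 := by
    let f : M →* W := (proj e).subgroupMap M
    have e1 := Subgroup.card_eq_card_quotient_mul_card_subgroup f.ker
    rw [Nat.card_congr (QuotientGroup.quotientKerEquivOfSurjective f (MonoidHom.subgroupMap_surjective _ _)).toEquiv,
      hMcard] at e1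
    have e2 : Nat.card f.ker = 2 ^ 13 := by
      rw [← hAcard]
      refine Nat.card_eq_of_bijective (fun k => (⟨(((k : M) : (Subgroup.centralizer ({z} : Set G))) : G),
        ⟨_, (proj_one _).1 (congrArg Subtype.val k.2), rfl⟩, (k : M).2.1⟩ : A)) ⟨?_, ?_⟩
      · intro a b h
        exact Subtype.ext (Subtype.ext (Subtype.ext (congrArg (fun t : A => (t : G)) h)))
      · rintro ⟨_, ⟨c, hc, rfl⟩, ha⟩
        exact ⟨⟨⟨c, ha, c.2⟩, Subtype.ext ((proj_one _).2 hc)⟩, rfl⟩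
    rw [e2] at e1
    omega
  -- move to the standard cross
  obtain ⟨v, hv, hψ⟩ := S.conj_type (isConj_iff.2 ⟨g, hg⟩) hne
  obtain ⟨x0, hx0⟩ := QuotientGroup.mk_surjective (ψ (e8 none))
  obtain ⟨h, hh⟩ := S.conj_class hψ hx0.symm (hv.trans (e8_norm none).symm) (Or.inr hv)
  set t := proj e h with ht
  set T : Subgroup Cfsg.Spor.Co1 := classStab1 (e8 none) with hT
  set c := (MulAut.conj t).toMonoidHom with hc
  have hxH : ∀ k : (Subgroup.centralizer ({z} : Set G)), k ∈ H ↔ k * x * k⁻¹ = (x : (Subgroup.centralizer ({z} : Set G))) := fun k => by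
    rw [mul_inv_eq_iff_eq_mul, Subtype.ext_iff, hH, Subgroup.mem_subgroupOf, Subgroup.mem_inf,
      Subgroup.mem_centralizer_singleton_iff]
    simp only [Subgroup.mem_centralizer_singleton_iff, Subgroup.coe_mul]
    exact ⟨fun h => h.2, fun h => ⟨Subgroup.mem_centralizer_singleton_iff.1 k.2, h⟩⟩
  have hxx : (x : (Subgroup.centralizer ({z} : Set G))) = h⁻¹ * x0 * h := by rw [← hh]; group
  have hXT : (H.map (proj e)).map c = T := by
    apply le_antisymm
    · rintro _ ⟨_, ⟨k, hk, rfl⟩, rfl⟩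
      have h1 := S.stab_image hx0.symm (h := h * k * h⁻¹) (by
        rw [← hh]
        rw [show h * k * h⁻¹ * (h * x * h⁻¹) * (h * k * h⁻¹)⁻¹ = h * (k * x * k⁻¹) * h⁻¹ by group, (hxH k).1 hk])
      simpa [hc, map_mul, map_inv] using h1
    · rintro _ ⟨g0, hg0, rfl⟩
      have hx0c := S.noncentral hx0.symm (Or.inr (e8_norm none))
      obtain ⟨k, hk, hkx⟩ := S.conj_to hx0.symm hx0.symm hx0c (g := g0) hg0
      refine ⟨proj e (h⁻¹ * k * h), ⟨_, (hxH _).2 ?_, rfl⟩, ?_⟩
      · rw [hxx, show h⁻¹ * k * h * (h⁻¹ * x0 * h) * (h⁻¹ * k * h)⁻¹ = h⁻¹ * (k * x0 * k⁻¹) * h by group, hkx]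
      · rw [← hk]; simp [hc, ht, map_mul, map_inv]; group
  have hcinj : Function.Injective c := (MulAut.conj t).injective
  have hWT : W.map c = signSub1 := by
    refine eq_sign ?_ ?_ ?_ ?_
    · exact (IsPGroup.of_card (n := 11) (by rw [hWcard]; norm_num)).map c
    · rw [← hT, ← hXT]; exact Subgroup.map_mono (Subgroup.map_mono hMH)
    · rw [← hT, ← hXT]
      rintro _ ⟨_, ⟨k, hk, rfl⟩, rfl⟩ _ ⟨_, ⟨m, hm, rfl⟩, rfl⟩
      exact ⟨proj e (k * m * k⁻¹), ⟨_, hMn k hk m hm, rfl⟩, by simp [map_mul, map_inv]⟩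
    · rw [← Nat.card_congr (Subgroup.equivMapOfInjective _ c hcinj).toEquiv, hWcard]
  -- back to the quotient
  set ι : Cfsg.Spor.Co1 ≃* ((Subgroup.centralizer ({z} : Set G)) ⧸ Q) := (MulAut.conj t).symm.trans e.symm with hι
  have hback : ∀ Z : Subgroup (Subgroup.centralizer ({z} : Set G)), ((Z.map (proj e)).map c).map ι.toMonoidHom = Z.map (QuotientGroup.mk' Q) := fun Z => by
    rw [Subgroup.map_map, Subgroup.map_map]
    refine congrArg (fun f => Z.map f) (MonoidHom.ext fun k => ?_)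
    simp [hι, hc, proj, mul_assoc]
  have eE : E = signSub1.map ι.toMonoidHom := by rw [hE, ← hWT, hW, hback]
  have eX : X = T.map ι.toMonoidHom := by rw [hX, ← hXT, hback]
  have ιinj : Function.Injective ι.toMonoidHom := ι.injective
  subst eE eX
  refine ⟨Subgroup.map_mono sign1_le, ?_, ?_, ?_, permSub1.map ι.toMonoidHom, Subgroup.map_mono perm1_le, ?_, ?_, ?_⟩
  · rintro _ ⟨a, ha, rfl⟩ _ ⟨b, hb, rfl⟩
    exact ⟨a * b * a⁻¹, sign1_normal a ha b hb, by simp [map_mul, map_inv]⟩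
  · obtain ⟨hc1, hc2⟩ := sign1_elem
    let ε := Subgroup.equivMapOfInjective signSub1 ι.toMonoidHom ιinj
    refine ⟨⟨⟨fun a b => ?_⟩⟩, fun a ha => ?_⟩
    · obtain ⟨a, rfl⟩ := ε.surjective a
      obtain ⟨b, rfl⟩ := ε.surjective b
      rw [← map_mul, ← map_mul, hc1.is_comm.comm]
    · obtain ⟨a, ha, rfl⟩ := ha
      rw [← map_pow, hc2 a ha, map_one]
  · rw [← Nat.card_congr (Subgroup.equivMapOfInjective signSub1 ι.toMonoidHom ιinj).toEquiv, card_sign1]; norm_num
  · rw [← Subgroup.map_inf_eq _ _ _ ιinj, sign1_meet_perm, Subgroup.map_bot]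
  · rw [← Subgroup.map_sup, sign1_sup_perm]
  · exact ⟨(Subgroup.equivMapOfInjective permSub1 ι.toMonoidHom ιinj).symm.trans perm1_iso.some⟩

end Cfsg.Agent.Spor.MonsterFusion
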