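import Cfsg.Agent.Lib.Spor.Co1SevenData
import Cfsg.Agent.Lib.Spor.GolaySeven
import Cfsg.Agent.Lib.Spor.MonsterSplit

/-!
An element of order seven of the automorphism group of the lattice, an element centralising it and a
conjugate of a dodecad sign change inverting it.
-/

set_option autoImplicit false
set_option maxRecDepth 100000

namespace Cfsg.Agent.Spor.Co1Seven

open Cfsg Cfsg.Agent.Spor.MonsterFusion
open scoped Pointwise

local notation "Zv" => GolayPt → ℤ
set_option quotPrecheck false in
local notation "Lv" => ↥leechLattice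

theorem co0_neg (g : ↥Co0) (v : Lv) : g • -v = -(g • v) := Subtype.ext (map_neg (co0Hom g) v)

/-- the permutation of order seven -/
noncomputable def sigma : Equiv.Perm GolayPt := lperm sevenX

/-- its images -/
def sx (p : GolayPt) : GolayPt := pt (sevenX.getD (idx p) 0)

theorem sigma_mem : sigma ∈ M24 := lperm_mem seven_facts.1

theorem sigma_apply (p : GolayPt) : sigma p = sx p :=
  (rep_lperm (m24ok_lok seven_facts.1)).apply p

/-- the element of order seven -/
noncomputable def pel : ↥Co0 := (exists_prm sigma_mem).choose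

theorem pel_spec (v : Lv) : ((pel • v : Lv) : Zv) = prm sigma (v : Zv) := (exists_prm sigma_mem).choose_spec v

theorem pel_apply (v : Lv) (p : GolayPt) : ((pel • v : Lv) : Zv) (sx p) = (v : Zv) p := by
  rw [← sigma_apply, pel_spec]; simp [prm]

theorem pel_inv_apply (v : Lv) (p : GolayPt) : ((pel⁻¹ • v : Lv) : Zv) p = (v : Zv) (sx p) := by
  rw [← pel_apply (pel⁻¹ • v) p, smul_inv_smul]

theorem pel_e8 (i : GolayPt) : pel • e8 i = e8 (sx i) := Subtype.ext (by
  rw [pel_spec, ← sigma_apply]
  funext p
  simp [prm, e8, Pi.single_apply, Equiv.symm_apply_eq])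

theorem pel_pow_spec : ∀ (n : ℕ) (v : Lv), ((pel ^ n • v : Lv) : Zv) = prm (sigma ^ n) (v : Zv)
  | 0, v => by rw [pow_zero, pow_zero, one_smul]; funext p; simp [prm, Equiv.Perm.one_def]
  | n + 1, v => by rw [pow_succ', pow_succ', mul_smul, pel_spec, pel_pow_spec n]; rfl

theorem sigma_pow_seven : sigma ^ 7 = 1 := by
  have h := congrArg Subtype.val (orderOf_sevenG ▸ pow_orderOf_eq_one sevenG)
  rwa [SubmonoidClass.coe_pow, Subgroup.coe_one] at h

theorem pel_pow_seven : pel ^ 7 = 1 := co0_ext fun v => by
  rw [pel_pow_spec, sigma_pow_seven, one_smul]; funext p; simp [prm, Equiv.Perm.one_def]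

theorem pel_ne_one : pel ≠ 1 := by
  intro h
  obtain ⟨i, hi⟩ : ∃ i, sx i ≠ i := ⟨pt 1, by decide +kernel⟩
  have e := congrArg (fun v : Lv => (v : Zv) (sx i)) (pel_e8 i)
  rw [h, one_smul] at e
  simp [e8, hi] at e

theorem orderOf_pel : orderOf pel = 7 := by
  haveI : Fact (Nat.Prime 7) := ⟨by norm_num⟩
  exact orderOf_eq_prime pel_pow_seven pel_ne_one

/-- the vector with a single entry eight, as a list -/
def unitL (i : ℕ) : List ℤ := (List.range 24).map fun k => if k = i then 8 else 0

/-- validity of the traces of a word -/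
def trOk (w : List LOp) (T : List (List (List ℤ))) : Bool :=
  w.all LOp.ok && (List.range 24).all fun i =>
    traceOk w (T.getD i []) && (T.getD i []).getLastD [] == unitL i

/-- the images of the unit vectors -/
def mat (T : List (List (List ℤ))) (i : GolayPt) : Zv := vecOf ((T.getD (idx i) []).headD [])

theorem vecOf_unit : ∀ i : GolayPt, vecOf (unitL (idx i)) = Pi.single i 8 := by
  have : ∀ i p : GolayPt, vecOf (unitL (idx i)) p = if p = i then 8 else 0 := by decide +kernel
  intro i; funext p; rw [this, Pi.single_apply]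

theorem word_mat {w : List LOp} {T : List (List (List ℤ))} (h : trOk w T = true) :
    ∃ g : ↥Co0, (∀ v : Lv, ((g • v : Lv) : Zv) = wordApp w (v : Zv)) ∧
      ∀ i, ((g • e8 i : Lv) : Zv) = mat T i := by
  simp only [trOk, Bool.and_eq_true, List.all_eq_true, List.mem_range, beq_iff_eq] at h
  obtain ⟨x, hx⟩ := exists_xi
  obtain ⟨g, -, hg⟩ := word_elem ⊤ (fun _ _ => Subgroup.mem_top _) (Subgroup.mem_top x) hx w
    (List.all_eq_true.2 h.1)
  refine ⟨g, hg, fun i => ?_⟩
  obtain ⟨ht, he⟩ := h.2 (idx i) (idx_lt i)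
  have := (trace_sound w _ ht).2
  rw [he, vecOf_unit] at this
  rw [hg]; exact this

theorem units_ext {g h : ↥Co0} (e : ∀ i, g • e8 i = h • e8 i) : g = h :=
  co0_ext fun v => funext fun k => by
    have e1 := eight_expand g v k
    have e2 := eight_expand h v k
    simp only [e] at e1
    omega

theorem mat_apply {g : ↥Co0} {M : GolayPt → Zv} (hM : ∀ i, ((g • e8 i : Lv) : Zv) = M i) (v : Lv) (k : GolayPt) :
    ((g • v : Lv) : Zv) k = (∑ i, (v : Zv) i * M i k) / 8 := by
  have e := eight_expand g v k
  simp only [hM] at e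
  omega

theorem words_ok : trOk kW kWTr = true ∧ trOk gW gWTr = true ∧ trOk uW uWTr = true := by
  decide +kernel

theorem kel_rel : ∀ i p : GolayPt, mat kWTr (sx i) (sx p) = mat kWTr i p := by decide +kernel

theorem uel_rel : ∀ i p : GolayPt, mat uWTr (sx i) p = mat uWTr i (sx p) := by decide +kernel

theorem uel_conj : ∀ i k : GolayPt, (∑ j, mat gWTr i j * mat uWTr j k) =
    (if Nat.testBit epsM (idx i) then -8 else 8) * mat gWTr i k := by decide +kernel

theorem eps_ok : inCode epsM = true ∧ epsM < 2 ^ 24 ∧ Nat.testBit epsM 0 ≠ Nat.testBit epsM 1 ∨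
    inCode epsM = true ∧ epsM < 2 ^ 24 ∧ Nat.testBit epsM 1 ≠ Nat.testBit epsM 2 := by decide +kernel

/-- an element centralising the element of order seven -/
noncomputable def kel : ↥Co0 := (word_mat words_ok.1).choose

theorem kel_e8 (i : GolayPt) : ((kel • e8 i : Lv) : Zv) = mat kWTr i := (word_mat words_ok.1).choose_spec.2 i

theorem kel_comm : kel * pel = pel * kel := units_ext fun i => by
  rw [mul_smul, mul_smul, pel_e8]
  refine Subtype.ext (funext fun p => ?_)
  obtain ⟨q, rfl⟩ := sigma.surjective p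
  rw [sigma_apply, pel_apply, kel_e8, kel_e8, kel_rel]

/-- an element inverting the element of order seven -/
noncomputable def uel : ↥Co0 := (word_mat words_ok.2.2).choose

theorem uel_e8 (i : GolayPt) : ((uel • e8 i : Lv) : Zv) = mat uWTr i := (word_mat words_ok.2.2).choose_spec.2 i

theorem uel_inv : uel * pel = pel⁻¹ * uel := units_ext fun i => by
  rw [mul_smul, mul_smul, pel_e8]
  refine Subtype.ext (funext fun p => ?_)
  rw [pel_inv_apply, uel_e8, uel_e8, uel_rel]

/-- the dodecad -/
theorem eps_code : ofMaskW epsM ∈ golayCode := by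
  rcases eps_ok with h | h <;> exact dec_code h.1 h.2.1

theorem uel_sign : ∃ g s : ↥Co0, s ∈ signSub ∧ (QuotientGroup.mk' (Subgroup.center ↥Co0)) s ≠ 1 ∧
    uel = g * s * g⁻¹ := by
  obtain ⟨g, -, hg⟩ := word_mat words_ok.2.1
  obtain ⟨s, hs⟩ := exists_sgn eps_code
  refine ⟨g, s, ⟨_, eps_code, hs⟩, fun h => ?_, eq_mul_inv_iff_mul_eq.2 (units_ext fun i => ?_)⟩
  · obtain ⟨n, hn⟩ := negation_exists
    have key : ∀ a b : ℕ, a < 24 → b < 24 → Nat.testBit epsM a ≠ Nat.testBit epsM b → False := by
      intro a b ha hb hab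
      have hval : ∀ c : ℕ, c < 24 → ((s • e8 (pt c) : Lv) : Zv) (pt c) = if Nat.testBit epsM c then -8 else 8 := by
        intro c hc
        rw [hs]
        cases hbit : Nat.testBit epsM c <;> simp [sgn, ofMaskW, idx_pt c hc, e8, hbit]
      have hsame : ((s • e8 (pt a) : Lv) : Zv) (pt a) = ((s • e8 (pt b) : Lv) : Zv) (pt b) := by
        have h1 : ∀ c : GolayPt, ((e8 c : Lv) : Zv) c = 8 := fun c => by simp [e8]
        rcases center_cases hn ((QuotientGroup.eq_one_iff s).1 h) with e | e
        · rw [e, one_smul, one_smul, h1, h1]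
        · rw [e, hn, hn, Pi.neg_apply, Pi.neg_apply, h1, h1]
      rw [hval a ha, hval b hb] at hsame
      revert hsame hab
      cases Nat.testBit epsM a <;> cases Nat.testBit epsM b <;> decide
    rcases eps_ok with h' | h'
    · exact key 0 1 (by norm_num) (by norm_num) h'.2.2
    · exact key 1 2 (by norm_num) (by norm_num) h'.2.2
  · refine Subtype.ext (funext fun k => ?_)
    rw [mul_smul, mul_smul, mat_apply uel_e8, hg]
    have e2 : s • e8 i = if Nat.testBit epsM (idx i) then -e8 i else e8 i := by
      refine Subtype.ext ?_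
      rw [hs]
      funext p
      by_cases hp : p = i
      · subst hp
        by_cases hb : Nat.testBit epsM (idx p) = true <;> simp [sgn, ofMaskW, e8, hb]
      · by_cases hb : Nat.testBit epsM (idx i) = true <;> simp [sgn, e8, hb, Ne.symm hp]
    rw [e2]
    by_cases hb : Nat.testBit epsM (idx i) = true
    · rw [if_pos hb, co0_neg, AddSubgroup.coe_neg, Pi.neg_apply, hg,
        uel_conj, if_pos hb]
      omega
    · rw [if_neg hb, hg, uel_conj, if_neg hb]
      omega

end Cfsg.Agent.Spor.Co1Seven
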