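/-
In a group of Monster type the centraliser of an involution of the extraspecial subgroup that is not conjugate to
the central one is, modulo that involution, of Baby Monster type.
-/
import Cfsg.Agent.Lib.Spor.MonsterSplit
import Cfsg.Agent.Lib.Solv.Component
import Cfsg.Agent.Lib.Solv.Cores

set_option autoImplicit false
set_option maxRecDepth 100000
set_option maxHeartbeats 1000000

namespace Cfsg.Agent.Spor.MonsterFusion

open Cfsg
open scoped Pointwise commutatorElement

local notation "Zv" => GolayPt → ℤ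
set_option quotPrecheck false in
local notation "Lv" => ↥leechLattice

/-! ### lattice facts -/

theorem code_absorb : ∀ m ∈ codeMasks, (∀ b ∈ codeBasis, inCode (m &&& b) = true) → m = 0 ∨ m = 2 ^ 24 - 1 := by
  decide +kernel

theorem inCode_of_mem {m : ℕ} (h : m ∈ codeMasks) : inCode m = true :=
  (by decide +kernel : ∀ m ∈ codeMasks, inCode m = true) m h

theorem oddVec_odd : ∀ i, oddVec i % 2 = 1 := by decide +kernel

theorem mask_inter (s t : Finset GolayPt) : mask (s ∩ t) = mask s &&& mask t := by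
  refine Nat.eq_of_testBit_eq fun j => ?_
  rw [Nat.testBit_land, Bool.eq_iff_iff, Bool.and_eq_true, testBit_mask, testBit_mask, testBit_mask]
  constructor
  · rintro ⟨p, hp, rfl⟩
    rw [Finset.mem_inter] at hp
    exact ⟨⟨p, hp.1, rfl⟩, ⟨p, hp.2, rfl⟩⟩
  · rintro ⟨⟨p, hp, rfl⟩, ⟨q, hq, e⟩⟩
    exact ⟨p, Finset.mem_inter.2 ⟨hp, (idx_injective e) ▸ hq⟩, rfl⟩

/-- classes fixed by all sign changes are classes of vectors divisible by four -/
theorem four_class {w : Lv} (h : ∀ c ∈ golayCode, Cong2 (sgn c (w : Zv)) (w : Zv) ∨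
    Cong2 (sgn c (w : Zv)) ((w + e8 none : Lv) : Zv)) :
    ∃ w' : Lv, Cong2 (w : Zv) (w' : Zv) ∧ ∀ i, (4 : ℤ) ∣ (w' : Zv) i := by
  classical
  -- the half difference lies in the lattice
  have key : ∀ c ∈ golayCode, ∃ u ∈ leechLattice, ∀ i,
      (if c i = 0 then 0 else (w : Zv) i) = u i ∨
        (if c i = 0 then 0 else (w : Zv) i) + (if i = none then 4 else 0) = u i ∧
        ∀ j, (if c j = 0 then 0 else (w : Zv) j) + (if j = none then 4 else 0) = u j := by
    intro c hc
    rcases h c hc with ⟨u, hu, e⟩ | ⟨u, hu, e⟩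
    · refine ⟨-u, neg_mem hu, fun i => Or.inl ?_⟩
      have := congrFun e i
      simp [sgn] at this
      simp only [Pi.neg_apply]
      split_ifs at this ⊢ <;> omega
    · have h' : ∀ j, (if c j = 0 then 0 else (w : Zv) j) + (if j = none then 4 else 0) = (-u) j := fun j => by
        have := congrFun e j
        rw [AddSubgroup.coe_add] at this
        simp [sgn, e8, Pi.single_apply] at this
        simp only [Pi.neg_apply]
        split_ifs at this ⊢ <;> omega
      exact ⟨-u, neg_mem hu, fun i => Or.inr ⟨h' i, h'⟩⟩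
  obtain ⟨m, hpar, -, -⟩ := mem_leech.1 w.2
  have heven : ∀ i, (w : Zv) i % 2 = 0 := by
    intro i
    by_contra hodd
    obtain ⟨o, ho, hs⟩ := separate_codeword none (pt 0) (by decide +kernel)
    have hoc : ofMaskW o ∈ golayCode := mem_code.2 (by
      rw [wmask_ofMaskW (octMasks_lt (octBasis_facts.1 o ho))]
      exact (List.mem_filter.1 (octBasis_facts.1 o ho)).1)
    obtain ⟨u, hu, he⟩ := key _ hoc
    obtain ⟨m', hp', -, -⟩ := mem_leech.1 hu
    have := hpar i; have := hpar none; have := hpar (pt 0); have := hp' none; have := hp' (pt 0)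
    have h1 := he none; have h2 := he (pt 0)
    have hne : pt 0 ≠ (none : GolayPt) := by decide +kernel
    rcases hs with ⟨a, b⟩ | ⟨a, b⟩ <;> simp [a, b, hne] at h1 h2 <;>
      rcases h1 with h1 | ⟨h1, h1'⟩ <;> rcases h2 with h2 | ⟨h2, h2'⟩ <;> omega
  have habs : ∀ b ∈ codeBasis, inCode (mask (digSet (w : Zv)) &&& b) = true := by
    intro b hb
    have hbb : ∀ b ∈ codeBasis, inCode b = true ∧ b < 2 ^ 24 := by decide +kernel
    have hc := dec_code (hbb b hb).1 (hbb b hb).2
    obtain ⟨u, hu, he⟩ := key _ hc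
    have hset : digSet u = digSet (w : Zv) ∩ ofMask b := by
      ext i
      rw [Finset.mem_inter, mem_digSet, mem_digSet, mem_ofMask]
      have := he i
      have := heven i
      by_cases ht : Nat.testBit b (idx i) = true
      · have hci : ofMaskW b i ≠ 0 := by simp [ofMaskW, ht]
        simp only [hci, if_false] at *
        rcases he i with e | ⟨e, -⟩ <;> split_ifs at e <;> constructor <;>
          first | (intro hh; exact ⟨by omega, ht⟩) | (rintro ⟨hh, -⟩; omega)
      · have hci : ofMaskW b i = 0 := by simp [ofMaskW, ht]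
        constructor
        · intro hh
          rcases he i with e | ⟨e, -⟩ <;> simp [hci] at e <;> split_ifs at * <;> omega
        · rintro ⟨-, hh⟩; exact absurd hh ht
    have hmem := digSet_mem hu
    rw [hset] at hmem
    have := codeSets_iff.1 hmem
    rw [mask_inter, mask_ofMask (hbb b hb).2] at this
    exact inCode_of_mem this
  rcases code_absorb _ (codeSets_iff.1 (digSet_mem w.2)) habs with h0 | h1
  · refine ⟨w, Cong2.refl' _, fun i => ?_⟩
    have hi : i ∉ digSet (w : Zv) := fun hi => by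
      have := testBit_mask_idx.2 hi
      rw [h0, Nat.zero_testBit] at this
      exact Bool.false_ne_true this
    rw [mem_digSet] at hi
    have := heven i
    omega
  · refine ⟨w - (⟨oddVec, oddVec_mem⟩ + ⟨oddVec, oddVec_mem⟩), ⟨oddVec, oddVec_mem, ?_⟩, fun i => ?_⟩
    · rw [AddSubgroup.coe_sub, AddSubgroup.coe_add, two_nsmul]; abel
    · have hi : i ∈ digSet (w : Zv) := by
        rw [← testBit_mask_idx, h1]
        exact Nat.testBit_two_pow_sub_one 24 (idx i) ▸ decide_eq_true (idx_lt i)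
      rw [mem_digSet] at hi
      have := heven i
      have ho := oddVec_odd i
      rw [AddSubgroup.coe_sub, AddSubgroup.coe_add, Pi.sub_apply, Pi.add_apply]
      show (4 : ℤ) ∣ (w : Zv) i - (oddVec i + oddVec i)
      omega

theorem dot_normQ (u v : Lv) :
    normQ (u + v) = normQ u + normQ v + ((dotInt (u : Zv) (v : Zv) / 8 : ℤ) : ZMod 2) ∧
      (8 : ℤ) ∣ dotInt (u : Zv) (v : Zv) := by
  have e : sqNorm ((u + v : Lv) : Zv) = sqNorm (u : Zv) + sqNorm (v : Zv) + 2 * dotInt (u : Zv) (v : Zv) := by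
    simp only [sqNorm, dotInt, AddSubgroup.coe_add, Pi.add_apply, Finset.mul_sum, ← Finset.sum_add_distrib]
    exact Finset.sum_congr rfl fun i _ => by ring
  have h1 := (leech_norm u.2).1
  have h2 := (leech_norm v.2).1
  have h3 := (leech_norm (u + v).2).1
  refine ⟨?_, by omega⟩
  simp only [normQ, ← Int.cast_add]
  rw [ZMod.intCast_eq_intCast_iff']
  omega

/-- some automorphism fixing `leechU` moves a class orthogonal to it -/
theorem co2_moves : ∃ (g : ↥Co0) (x : Lv), g • Cfsg.Spor.leechU = Cfsg.Spor.leechU ∧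
    (16 : ℤ) ∣ dotInt (x : Zv) Cfsg.Spor.vecU ∧
    ¬ Cong2 ((g • x : Lv) : Zv) (x : Zv) ∧ ¬ Cong2 ((g • x : Lv) : Zv) ((x + Cfsg.Spor.leechU : Lv) : Zv) := by
  obtain ⟨σ, hσ, hm⟩ := M24_trans (k := 4) (by norm_num) ⟨![none, some 0, pt 3, pt 2], by decide +kernel⟩
    ⟨![none, some 0, pt 4, pt 2], by decide +kernel⟩
  have h0 : σ none = none := hm 0
  have h1 : σ (some 0) = some 0 := hm 1
  have h2 : σ (pt 3) = pt 4 := hm 2
  have h3 : σ (pt 2) = pt 2 := hm 3
  obtain ⟨g, hg⟩ := exists_prm hσ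
  have h32 : pt 3 ≠ pt 2 := by decide +kernel
  have h42 : pt 4 ≠ pt 2 := by decide +kernel
  have h34 : pt 4 ≠ pt 3 := by decide +kernel
  set x : Lv := uv (pt 3) (pt 2) h32 with hx
  set x' : Lv := uv (pt 4) (pt 2) h42 with hx'
  have hgx : g • x = x' := Subtype.ext ((hg x).trans (funext fun k => by
    obtain ⟨i, rfl⟩ := σ.surjective k
    show pairVec (pt 3) (pt 2) 1 (σ.symm (σ i)) = pairVec (pt 4) (pt 2) 1 (σ i)
    rw [Equiv.symm_apply_apply]
    simp only [pairVec]
    simp only [show (σ i = pt 4) ↔ (i = pt 3) from ⟨fun e => σ.injective (e.trans h2.symm), fun e => e ▸ h2⟩,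
      show (σ i = pt 2) ↔ (i = pt 2) from ⟨fun e => σ.injective (e.trans h3.symm), fun e => e ▸ h3⟩]))
  refine ⟨g, x, Subtype.ext ((hg _).trans (funext fun k => ?_)), ?_, ?_, ?_⟩
  · obtain ⟨i, rfl⟩ := σ.surjective k
    show Cfsg.Spor.vecU (σ.symm (σ i)) = Cfsg.Spor.vecU (σ i)
    rw [Equiv.symm_apply_apply]
    simp only [Cfsg.Spor.vecU]
    simp only [show (σ i = none) ↔ (i = none) from ⟨fun e => σ.injective (e.trans h0.symm), fun e => e ▸ h0⟩,
      show (σ i = some 0) ↔ (i = some 0) from ⟨fun e => σ.injective (e.trans h1.symm), fun e => e ▸ h1⟩]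
  · show (16 : ℤ) ∣ dotInt (pairVec (pt 3) (pt 2) 1) Cfsg.Spor.vecU
    decide +kernel
  all_goals rw [hgx]
  · intro hc
    have hn : sqNorm (x : Zv) = 32 := (pairVec_spec h32 (Or.inl rfl)).2
    have hn' : sqNorm (x' : Zv) = 32 := (pairVec_spec h42 (Or.inl rfl)).2
    have ha : (x' : Zv) ≠ (x : Zv) := by show pairVec (pt 4) (pt 2) 1 ≠ pairVec (pt 3) (pt 2) 1; decide +kernel
    have hb : (x' : Zv) ≠ -(x : Zv) := by show pairVec (pt 4) (pt 2) 1 ≠ -pairVec (pt 3) (pt 2) 1; decide +kernel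
    obtain ⟨e1, -, -⟩ := congruent_short x'.2 ha hb (by omega) (by omega) hc
    omega
  · intro hc
    obtain ⟨z, hz, e⟩ := hc
    have hdn : sqNorm ((x' : Zv) - (x : Zv)) = 32 := by
      show sqNorm (pairVec (pt 4) (pt 2) 1 - pairVec (pt 3) (pt 2) 1) = 32; decide +kernel
    have hun : sqNorm (Cfsg.Spor.leechU : Zv) = 32 := by show sqNorm Cfsg.Spor.vecU = 32; decide +kernel
    have ha : (x' : Zv) - (x : Zv) ≠ (Cfsg.Spor.leechU : Zv) := by
      show pairVec (pt 4) (pt 2) 1 - pairVec (pt 3) (pt 2) 1 ≠ Cfsg.Spor.vecU; decide +kernel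
    have hb : (x' : Zv) - (x : Zv) ≠ -(Cfsg.Spor.leechU : Zv) := by
      show pairVec (pt 4) (pt 2) 1 - pairVec (pt 3) (pt 2) 1 ≠ -Cfsg.Spor.vecU; decide +kernel
    obtain ⟨e1, -, -⟩ := congruent_short (x := (x' : Zv) - (x : Zv)) (y := (Cfsg.Spor.leechU : Zv))
      (sub_mem x'.2 x.2) ha hb (by omega) (by omega) ⟨z, hz, by rw [← e, AddSubgroup.coe_add]; abel⟩
    omega

/-! ### group theory -/

theorem quot_iso {H A B : Type*} [Group H] [Group A] [Group B] (ρ : H →* A) (θ : H →* B)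
    (hρ : Function.Surjective ρ) (hθ : Function.Surjective θ) (hk : ρ.ker = θ.ker) :
    ∃ e : A ≃* B, ∀ h, e (ρ h) = θ h := by
  refine ⟨((QuotientGroup.quotientKerEquivOfSurjective ρ hρ).symm.trans
    (QuotientGroup.quotientMulEquivOfEq hk)).trans (QuotientGroup.quotientKerEquivOfSurjective θ hθ), fun h => ?_⟩
  have : (QuotientGroup.quotientKerEquivOfSurjective ρ hρ).symm (ρ h) = QuotientGroup.mk h := by
    rw [MulEquiv.symm_apply_eq]; rfl
  rw [MulEquiv.trans_apply, MulEquiv.trans_apply, this]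
  rfl

theorem simple_not_nilpotent {A : Type*} [Group A] [Finite A] [IsSimpleGroup A] (h : Group.IsNilpotent A)
    {p q : ℕ} (hp : p.Prime) (hq : q.Prime) (hpq : p ≠ q) (hpd : p ∣ Nat.card A) (hqd : q ∣ Nat.card A) : False := by
  haveI := h
  have hc : ∀ a b : A, a * b = b * a := IsSimpleGroup.comm_iff_isSolvable.2 inferInstance
  letI : CommGroup A := { (inferInstance : Group A) with mul_comm := hc }
  have := IsSimpleGroup.prime_card (α := A)
  exact hpq (((Nat.prime_dvd_prime_iff_eq hp this).1 hpd).trans ((Nat.prime_dvd_prime_iff_eq hq this).1 hqd).symm)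

theorem gfit_eq {A : Type*} [Group A] [Finite A] (R : Subgroup A) [R.Normal] (hR : Group.IsNilpotent R)
    (hcent : Subgroup.centralizer (R : Set A) ≤ R) [IsSimpleGroup (A ⧸ R)] {p q : ℕ} (hp : p.Prime) (hq : q.Prime)
    (hpq : p ≠ q) (hpd : p ∣ Nat.card (A ⧸ R)) (hqd : q ∣ Nat.card (A ⧸ R)) :
    generalizedFittingSubgroup A = R := by
  refine le_antisymm (sup_le ?_ ?_) ((Cfsg.Agent.Solv.normal_le_fitting hR).trans le_sup_right)
  · refine sSup_le fun K hK => ?_
    rcases Cfsg.Agent.Solv.component_subnormal_dichotomy hK (Subgroup.Normal.isSubnormal inferInstance : R.IsSubnormal)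
      with h | h
    · exact h
    · exact (Subgroup.commutator_eq_bot_iff_le_centralizer.1 h).trans hcent
  · haveI := Cfsg.Agent.Solv.fittingSubgroup_normal (G := A)
    haveI := Cfsg.Agent.Solv.fittingSubgroup_nilpotent (G := A)
    set W := (fittingSubgroup A).map (QuotientGroup.mk' R) with hW
    haveI : W.Normal := Subgroup.Normal.map inferInstance _ (QuotientGroup.mk'_surjective R)
    rcases IsSimpleGroup.eq_bot_or_eq_top_of_normal W inferInstance with h | h
    · intro x hx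
      have : QuotientGroup.mk' R x ∈ W := ⟨x, hx, rfl⟩
      rw [h, Subgroup.mem_bot] at this
      exact (QuotientGroup.eq_one_iff x).1 this
    · exfalso
      let f : ↥(fittingSubgroup A) →* A ⧸ R := (QuotientGroup.mk' R).comp (fittingSubgroup A).subtype
      have hf : Function.Surjective f := fun y => by
        obtain ⟨x, hx, e⟩ : y ∈ W := h ▸ Subgroup.mem_top y
        exact ⟨⟨x, hx⟩, e⟩
      exact simple_not_nilpotent (Group.nilpotent_of_surjective f hf) hp hq hpq hpd hqd

variable {G : Type*} [Group G] [Finite G] {z : G} {Q : Subgroup (Subgroup.centralizer ({z} : Set G))} [Q.Normal]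
  {e : (Subgroup.centralizer ({z} : Set G)) ⧸ Q ≃* Cfsg.Spor.Co1} {ψ : Lv → Q ⧸ Subgroup.center Q}

/-- twisting the identification by an automorphism of the lattice -/
theorem Setting.twist (S : Setting z Q e ψ) (g0 : ↥Co0) :
    Setting z Q (e.trans (MulAut.conj (QuotientGroup.mk' (Subgroup.center ↥Co0) g0)⁻¹)) (fun x => ψ (g0 • x)) := by
  obtain ⟨hadd, hsurj, hker, hact⟩ := S.hψ
  refine ⟨S.hS, fun v w => ?_, fun y => ?_, fun v => ?_, fun h g hg v q hq => ?_⟩
  · show ψ (g0 • (v + w)) = _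
    rw [co0_add, hadd]
  · obtain ⟨v, hv⟩ := hsurj y
    exact ⟨g0⁻¹ • v, by show ψ (g0 • g0⁻¹ • v) = y; rw [smul_inv_smul, hv]⟩
  · show ψ (g0 • v) = 1 ↔ _
    rw [hker]
    constructor
    · rintro ⟨w, hw⟩
      exact ⟨g0⁻¹ • w, by rw [← co0_add, ← hw, inv_smul_smul]⟩
    · rintro ⟨w, rfl⟩
      exact ⟨g0 • w, by rw [co0_add]⟩
  · show ψ (g0 • g • v) = _
    have := hact h (g0 * g * g0⁻¹) (by
      have h1 : QuotientGroup.mk' (Subgroup.center ↥Co0) g =
          (QuotientGroup.mk' (Subgroup.center ↥Co0) g0)⁻¹ * e (QuotientGroup.mk h) *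
            (QuotientGroup.mk' (Subgroup.center ↥Co0) g0) := by
        refine hg.trans ?_
        simp [MulAut.conj_apply]
      show QuotientGroup.mk' (Subgroup.center ↥Co0) (g0 * g * g0⁻¹) = _
      rw [map_mul, map_mul, map_inv, h1]
      group) (g0 • v) q hq
    rwa [← mul_smul, inv_mul_cancel_right, mul_smul] at this

/-- the intersection of the two subgroups for the standard cross contains the class of `leechU` -/
theorem Setting.meet_four (S : Setting z Q e ψ) {x0 : Q} (hx0 : ψ (e8 none) = QuotientGroup.mk x0) {g : G}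
    (hg : g * z * g⁻¹ = ((x0 : Subgroup.centralizer ({z} : Set G)) : G)) {a : Q} {w : Lv}
    (ha : ψ w = QuotientGroup.mk a) (hw : ∀ i, (4 : ℤ) ∣ (w : Zv) i) :
    ((a : Subgroup.centralizer ({z} : Set G)) : G) ∈
      (Q.map (Subgroup.centralizer ({z} : Set G)).subtype).map (MulAut.conj g).toMonoidHom := by
  classical
  have hx0c := S.noncentral hx0 (Or.inr (e8_norm none))
  have hne : ((x0 : Subgroup.centralizer ({z} : Set G)) : G) ≠ z := fun h =>
    hx0c ((S.center_iff x0).2 (Or.inr (Subtype.ext h)))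
  set K := Q.map (Subgroup.centralizer ({z} : Set G)).subtype with hK
  -- the four subgroup
  let E : Subgroup Q :=
    { carrier := {q | ∃ w : Lv, (∀ i, (4 : ℤ) ∣ (w : Zv) i) ∧ ψ w = QuotientGroup.mk q}
      one_mem' := ⟨0, fun i => by simp, (S.hψ.2.2.1 0).2 ⟨0, by simp⟩⟩
      mul_mem' := by
        rintro p q ⟨u, hu, eu⟩ ⟨v, hv, ev⟩
        exact ⟨u + v, fun i => by rw [AddSubgroup.coe_add, Pi.add_apply]; exact dvd_add (hu i) (hv i),
          by rw [S.hψ.1, eu, ev, QuotientGroup.mk_mul]⟩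
      inv_mem' := by
        rintro p ⟨u, hu, eu⟩
        refine ⟨-u, fun i => by rw [AddSubgroup.coe_neg, Pi.neg_apply]; exact (hu i).neg_right, ?_⟩
        have h1 : ψ (-u) * ψ u = 1 := by rw [← S.hψ.1, neg_add_cancel]; exact (S.hψ.2.2.1 0).2 ⟨0, by simp⟩
        rw [QuotientGroup.mk_inv, ← eu, eq_inv_iff_mul_eq_one]
        exact h1 }
  have hE2 : ∀ q ∈ E, q * q = 1 := by
    rintro q ⟨u, hu, eu⟩
    rw [← MonsterForm.bit_eq_zero]
    show MonsterForm.qf q = 0
    rw [(MonsterForm.form_eq S.extra S.hψ).2 u q eu, MonsterForm.four_norm hu]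
  have hEc : IsMulCommutative E := ⟨⟨fun p q => Subtype.ext (by
    have hi : ∀ u : Q, u ∈ E → u⁻¹ = u := fun u hu => inv_eq_of_mul_eq_one_right (hE2 u hu)
    show (p : Q) * q = q * p
    calc (p : Q) * q = ((p : Q) * q)⁻¹ := (hi _ (mul_mem p.2 q.2)).symm
      _ = (q : Q) * p := by rw [mul_inv_rev, hi _ p.2, hi _ q.2])⟩⟩
  -- sign changes are realised inside
  obtain ⟨hle, hEn, -, hcard, -⟩ := S.split x0 hg hne _ _ rfl rfl
  set M := ((K.map (MulAut.conj g).toMonoidHom ⊓ Subgroup.centralizer ({z} : Set G)).subgroupOf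
    (Subgroup.centralizer ({z} : Set G))) with hM
  set W := (M.map (QuotientGroup.mk' Q)).map e.toMonoidHom with hW
  have hWc : Nat.card W = 2048 := by
    rw [hW, ← Nat.card_congr (Subgroup.equivMapOfInjective _ e.toMonoidHom e.injective).toEquiv, hcard]; norm_num
  have hXW : ∀ k ∈ ((Subgroup.centralizer ({z} : Set G) ⊓ Subgroup.centralizer
      ({((x0 : Subgroup.centralizer ({z} : Set G)) : G)} : Set G)).subgroupOf (Subgroup.centralizer ({z} : Set G))).map
        (QuotientGroup.mk' Q), e k ∈ classStab1 (e8 none) := by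
    rintro _ ⟨k, hk, rfl⟩
    refine S.stab_image hx0 ?_
    rw [mul_inv_eq_iff_eq_mul]
    exact Subtype.ext (Subgroup.mem_centralizer_singleton_iff.1 hk.2)
  have hWs : W = signSub1 := by
    refine eq_sign (IsPGroup.of_card (n := 11) (by rw [hWc]; norm_num)) ?_ ?_ hWc
    · rintro _ ⟨k, hk, rfl⟩
      exact hXW k (hle hk)
    · intro s hs w hw
      obtain ⟨g1, hg1, rfl⟩ := hs
      obtain ⟨h, hh, hhx⟩ := S.conj_to hx0 hx0 hx0c (g := g1) hg1
      obtain ⟨k, hk, rfl⟩ := hw
      refine ⟨QuotientGroup.mk' Q h * k * (QuotientGroup.mk' Q h)⁻¹, hEn _ ⟨h, ?_, rfl⟩ k hk, ?_⟩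
      · rw [SetLike.mem_coe, Subgroup.mem_subgroupOf]
        refine ⟨h.2, Subgroup.mem_centralizer_singleton_iff.2 ?_⟩
        rw [mul_inv_eq_iff_eq_mul] at hhx
        exact congrArg Subtype.val hhx
      · rw [map_mul, map_mul, map_inv]
        show e (QuotientGroup.mk' Q h) * e k * (e (QuotientGroup.mk' Q h))⁻¹ = _
        rw [← hh]; rfl
  -- the intersection lies in the four subgroup
  have hsub : ∀ q : Q, ((q : Subgroup.centralizer ({z} : Set G)) : G) ∈ K.map (MulAut.conj g).toMonoidHom → q ∈ E := by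
    intro q hq
    obtain ⟨u, hu⟩ := S.hψ.2.1 (QuotientGroup.mk q)
    have hfix : ∀ c ∈ golayCode, Cong2 (sgn c (u : Zv)) (u : Zv) ∨
        Cong2 (sgn c (u : Zv)) ((u + e8 none : Lv) : Zv) := by
      intro c hc
      obtain ⟨s, hs⟩ := exists_sgn hc
      have hsW : QuotientGroup.mk' (Subgroup.center ↥Co0) s ∈ W := hWs ▸ ⟨s, ⟨c, hc, hs⟩, rfl⟩
      obtain ⟨_, ⟨m, hm, rfl⟩, hms⟩ := hsW
      have hact := S.hψ.2.2.2 m s hms.symm u q hu
      obtain ⟨⟨_, ⟨m', hm', rfl⟩, em⟩, hmC⟩ := hm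
      obtain ⟨_, ⟨q', hq', rfl⟩, eq⟩ := hq
      have em' : g * (m' : G) * g⁻¹ = (m : G) := em
      have eq' : g * (q' : G) * g⁻¹ = ((q : Subgroup.centralizer ({z} : Set G)) : G) := eq
      have hc' := (S.center_iff _).1 (MonsterForm.comm_center S.extra ⟨m', hm'⟩ ⟨q', hq'⟩)
      rw [← hs]
      rcases hc' with h' | h'
      · left
        have h'' : (m' : G) * (q' : G) * (m' : G)⁻¹ * (q' : G)⁻¹ = 1 := congrArg Subtype.val h'
        refine S.cong_of_eq (hact.trans (hu.symm ▸ congrArg QuotientGroup.mk (Subtype.ext (Subtype.ext ?_))))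
        show (m : G) * ((q : Subgroup.centralizer ({z} : Set G)) : G) * (m : G)⁻¹ = _
        rw [← em', ← eq']
        rw [mul_inv_eq_one] at h''
        calc g * (m' : G) * g⁻¹ * (g * (q' : G) * g⁻¹) * (g * (m' : G) * g⁻¹)⁻¹
            = g * ((m' : G) * (q' : G) * (m' : G)⁻¹) * g⁻¹ := by group
          _ = _ := by rw [h'']
      · right
        have h'' : (m' : G) * (q' : G) * (m' : G)⁻¹ * (q' : G)⁻¹ = z := congrArg Subtype.val h'
        refine S.cong_of_eq (hact.trans (Eq.trans ?_ (S.hψ.1 u (e8 none)).symm))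
        rw [hu, hx0, ← QuotientGroup.mk_mul]
        refine congrArg QuotientGroup.mk (Subtype.ext (Subtype.ext ?_))
        show (m : G) * ((q : Subgroup.centralizer ({z} : Set G)) : G) * (m : G)⁻¹ =
          ((q : Subgroup.centralizer ({z} : Set G)) : G) * ((x0 : Subgroup.centralizer ({z} : Set G)) : G)
        have hqz : (q' : G) * z = z * (q' : G) := Subgroup.mem_centralizer_singleton_iff.1 q'.2
        rw [← em', ← eq', ← hg]
        rw [mul_inv_eq_iff_eq_mul] at h''
        calc g * (m' : G) * g⁻¹ * (g * (q' : G) * g⁻¹) * (g * (m' : G) * g⁻¹)⁻¹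
            = g * ((m' : G) * (q' : G) * (m' : G)⁻¹) * g⁻¹ := by group
          _ = g * (z * (q' : G)) * g⁻¹ := by rw [h'']
          _ = g * ((q' : G) * z) * g⁻¹ := by rw [hqz]
          _ = _ := by group
    obtain ⟨u', hc, h4⟩ := four_class hfix
    exact ⟨u', h4, (S.coset_eq hc).symm.trans hu⟩
  -- compare orders
  set A := (K.map (MulAut.conj g).toMonoidHom).comap
    ((Subgroup.centralizer ({z} : Set G)).subtype.comp Q.subtype) with hA
  have hAE : A ≤ E := fun q hq => hsub q hq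
  have hAcard : Nat.card A = 2 ^ 13 := by
    rw [← S.meet_card x0 hg hne, Nat.card_congr (Subgroup.equivMapOfInjective A
      ((Subgroup.centralizer ({z} : Set G)).subtype.comp Q.subtype)
      ((Subgroup.subtype_injective _).comp (Subgroup.subtype_injective Q))).toEquiv]
    congr 1
    rw [hA, Subgroup.map_comap_eq, MonoidHom.range_comp, Subgroup.range_subtype]
  have hAEeq : A = E := Subgroup.eq_of_le_of_card_ge hAE (by rw [hAcard]; exact abelian_le S hEc)
  have : a ∈ A := hAEeq ▸ ⟨w, hw, ha⟩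
  exact this

theorem Setting.baby (S : Setting z Q e ψ) (tQ : Q) (ht : ψ Cfsg.Spor.leechU = QuotientGroup.mk tQ)
    (ht2 : orderOf ((tQ : Subgroup.centralizer ({z} : Set G)) : G) = 2)
    (htn : ¬ IsConj z ((tQ : Subgroup.centralizer ({z} : Set G)) : G))
    [hn : ((Subgroup.zpowers ((tQ : Subgroup.centralizer ({z} : Set G)) : G)).subgroupOf
      (Subgroup.centralizer ({((tQ : Subgroup.centralizer ({z} : Set G)) : G)} : Set G))).Normal] :
    IsOfBabyMonsterType (↥(Subgroup.centralizer ({((tQ : Subgroup.centralizer ({z} : Set G)) : G)} : Set G)) ⧸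
      (Subgroup.zpowers ((tQ : Subgroup.centralizer ({z} : Set G)) : G)).subgroupOf
        (Subgroup.centralizer ({((tQ : Subgroup.centralizer ({z} : Set G)) : G)} : Set G))) := by
  classical
  haveI := co0_finite
  haveI : Fact (Nat.Prime 2) := ⟨Nat.prime_two⟩
  have hun : sqNorm (Cfsg.Spor.leechU : Zv) = 32 := by show sqNorm Cfsg.Spor.vecU = 32; decide +kernel
  have htc : tQ ∉ Subgroup.center Q := S.noncentral ht (Or.inl hun)
  generalize htdef : ((tQ : Subgroup.centralizer ({z} : Set G)) : G) = t at *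
  have htz : t * z = z * t := by rw [← htdef]; exact Subgroup.mem_centralizer_singleton_iff.1 (tQ : Subgroup.centralizer ({z} : Set G)).2
  set Gt := Subgroup.centralizer ({t} : Set G) with hGt
  set N := (Subgroup.zpowers t).subgroupOf Gt with hN
  set π := QuotientGroup.mk' N with hπ
  have hNmem : ∀ d : Gt, π d = 1 ↔ ((d : G) = 1 ∨ (d : G) = t) := by
    intro d
    rw [hπ, QuotientGroup.mk'_apply, QuotientGroup.eq_one_iff, hN, Subgroup.mem_subgroupOf, Subgroup.mem_zpowers_iff]
    constructor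
    · rintro ⟨k, hk⟩
      rw [← hk, ← zpow_mod_orderOf, ht2]
      rcases Int.emod_two_eq_zero_or_one k with h | h <;> simp [h]
    · rintro (h | h)
      · exact ⟨0, by rw [h, zpow_zero]⟩
      · exact ⟨1, by rw [h, zpow_one]⟩
  have hz2 : z * z = 1 := by rw [← sq, ← S.hS.1, pow_orderOf_eq_one]
  set zG : Gt := ⟨z, Subgroup.mem_centralizer_singleton_iff.2 htz.symm⟩ with hzG
  have hzt : z ≠ t := fun h => htn (h ▸ IsConj.refl z)
  have hz1 : π zG ≠ 1 := fun h => by
    rcases (hNmem zG).1 h with h | h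
    · exact S.z_ne h
    · exact hzt h
  set Hc := Subgroup.centralizer ({(tQ : Subgroup.centralizer ({z} : Set G))} :
    Set (Subgroup.centralizer ({z} : Set G))) with hHc
  have hHmem : ∀ h : Hc, ((h : Subgroup.centralizer ({z} : Set G)) : G) * t = t * ((h : Subgroup.centralizer ({z} : Set G)) : G) := fun h => by
    rw [← htdef]
    exact congrArg Subtype.val (Subgroup.mem_centralizer_singleton_iff.1 h.2)
  let μ : Hc →* Subgroup.centralizer ({π zG} : Set (Gt ⧸ N)) :=
    MonoidHom.mk' (fun h => ⟨π ⟨((h : Subgroup.centralizer ({z} : Set G)) : G),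
      Subgroup.mem_centralizer_singleton_iff.2 (hHmem h)⟩, Subgroup.mem_centralizer_singleton_iff.2 (by
        rw [← map_mul, ← map_mul]
        exact congrArg π (Subtype.ext (Subgroup.mem_centralizer_singleton_iff.1 (h : Subgroup.centralizer ({z} : Set G)).2)))⟩)
      fun a b => Subtype.ext (by
        show π _ = π _ * π _
        rw [← map_mul]; rfl)
  have hμ1 : ∀ h : Hc, μ h = 1 ↔ (((h : Subgroup.centralizer ({z} : Set G)) : G) = 1 ∨
      ((h : Subgroup.centralizer ({z} : Set G)) : G) = t) := fun h => by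
    rw [Subtype.ext_iff]; exact hNmem _
  have hμz : ∀ h : Hc, μ h = ⟨π zG, Subgroup.mem_centralizer_singleton_iff.2 rfl⟩ ↔
      (((h : Subgroup.centralizer ({z} : Set G)) : G) = z ∨ ((h : Subgroup.centralizer ({z} : Set G)) : G) = z * t) := fun h => by
    rw [Subtype.ext_iff]
    show π _ = π zG ↔ _
    rw [← inv_mul_eq_one, ← map_inv, ← map_mul, hNmem, or_comm]
    simp only [Subgroup.coe_mul, Subgroup.coe_inv]
    have ht' : t⁻¹ = t := inv_eq_of_mul_eq_one_right (by rw [← sq, ← ht2, pow_orderOf_eq_one])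
    constructor
    · rintro (h' | h')
      · rw [inv_mul_eq_iff_eq_mul] at h'
        exact Or.inr (by rw [eq_mul_inv_of_mul_eq h'.symm, ht'])
      · exact Or.inl (inv_mul_eq_one.1 h')
    · rintro (h' | h')
      · exact Or.inr (inv_mul_eq_one.2 h')
      · refine Or.inl ?_
        rw [h', mul_inv_rev, mul_assoc, inv_mul_cancel, mul_one, ht']
  -- lifting
  have hsurj : Function.Surjective μ := by
    rintro ⟨d, hd⟩
    obtain ⟨d0, rfl⟩ := QuotientGroup.mk'_surjective N d
    have hd' := Subgroup.mem_centralizer_singleton_iff.1 hd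
    have h1 : π (zG⁻¹ * (d0 * zG * d0⁻¹)) = 1 := by
      have hd'' : π d0 * π zG = π zG * π d0 := hd'
      rw [map_mul, map_inv, map_mul, map_mul, map_inv, hd'']; group
    rw [hNmem] at h1
    simp only [Subgroup.coe_mul, Subgroup.coe_inv] at h1
    have hmem : (d0 : G) ∈ Subgroup.centralizer ({z} : Set G) := by
      refine Subgroup.mem_centralizer_singleton_iff.2 ?_
      rcases h1 with h1 | h1
      · rw [inv_mul_eq_one, eq_mul_inv_iff_mul_eq] at h1
        exact h1.symm
      · exfalso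
        rw [inv_mul_eq_iff_eq_mul] at h1
        have hconj : IsConj z (z * t) := isConj_iff.2 ⟨d0, h1⟩
        set y : Q := ⟨zC z, z_mem e⟩ * tQ with hy
        have hyG : ((y : Subgroup.centralizer ({z} : Set G)) : G) = z * t := by
          show z * _ = z * t; rw [htdef]
        have hψy : ψ Cfsg.Spor.leechU = QuotientGroup.mk y := by
          rw [ht, hy, QuotientGroup.mk_mul, (QuotientGroup.eq_one_iff (⟨zC z, z_mem e⟩ : Q)).2 ((S.center_iff _).2 (Or.inr rfl)), one_mul]
        obtain ⟨v, hv, hψv⟩ := (S.conj_iff y).1 ⟨hyG ▸ hconj, by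
          rw [hyG]; intro h; exact htn (by rw [mul_eq_left] at h; rw [h, orderOf_one] at ht2; omega)⟩
        have hc := S.cong_of_eq (hψv.trans hψy.symm)
        by_cases ha : (v : Zv) = (Cfsg.Spor.leechU : Zv)
        · rw [ha] at hv; omega
        · by_cases hb : (v : Zv) = -(Cfsg.Spor.leechU : Zv)
          · rw [hb, sqNorm_neg] at hv; omega
          · obtain ⟨-, e2, -⟩ := congruent_short v.2 ha hb (by omega) (by omega) hc
            omega
    have hmem2 : (⟨d0, hmem⟩ : Subgroup.centralizer ({z} : Set G)) ∈ Hc :=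
      Subgroup.mem_centralizer_singleton_iff.2 (Subtype.ext (by
        show (d0 : G) * _ = _ * (d0 : G)
        rw [htdef]
        exact Subgroup.mem_centralizer_singleton_iff.1 d0.2))
    exact ⟨⟨_, hmem2⟩, rfl⟩
  set Qc := Q.subgroupOf Hc with hQc
  set R := Qc.map μ with hR
  haveI hQcn : Qc.Normal := (inferInstance : Q.Normal).subgroupOf _
  haveI hRn : R.Normal := Subgroup.Normal.map hQcn μ hsurj
  have hkerle : μ.ker ≤ Qc := fun h hh => by
    rcases (hμ1 h).1 hh with h' | h'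
    · rw [hQc, Subgroup.mem_subgroupOf, show (h : Subgroup.centralizer ({z} : Set G)) = 1 from Subtype.ext h']
      exact one_mem _
    · rw [hQc, Subgroup.mem_subgroupOf, show (h : Subgroup.centralizer ({z} : Set G)) = tQ from Subtype.ext (h'.trans htdef.symm)]
      exact tQ.2
  have hcomapR : R.comap μ = Qc := by rw [hR, Subgroup.comap_map_eq, sup_eq_left.2 hkerle]
  -- orders
  have hQccard : Nat.card Qc = 2 ^ 24 := by
    rw [← card_cent S htc]
    refine Nat.card_congr ⟨fun d => ⟨⟨((d : Hc) : Subgroup.centralizer ({z} : Set G)), d.2⟩,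
      Subgroup.mem_centralizer_singleton_iff.2 (Subtype.ext (Subgroup.mem_centralizer_singleton_iff.1 d.1.2))⟩,
      fun q => ⟨⟨((q : Q) : Subgroup.centralizer ({z} : Set G)), Subgroup.mem_centralizer_singleton_iff.2
        (congrArg Subtype.val (Subgroup.mem_centralizer_singleton_iff.1 q.2))⟩, (q : Q).2⟩,
      fun d => rfl, fun q => rfl⟩
  have htH : (tQ : Subgroup.centralizer ({z} : Set G)) ∈ Hc := Subgroup.mem_centralizer_singleton_iff.2 rfl
  have hker2 : Nat.card μ.ker = 2 := by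
    rw [Nat.card_eq_two_iff' (1 : μ.ker)]
    refine ⟨⟨⟨_, htH⟩, (hμ1 _).2 (Or.inr htdef)⟩, fun h => ?_, fun k hk => ?_⟩
    · have : t = 1 := htdef.symm.trans (congrArg (fun k : μ.ker => (((k : Hc) : Subgroup.centralizer ({z} : Set G)) : G)) h)
      rw [this, orderOf_one] at ht2; omega
    · rcases (hμ1 k).1 k.2 with h' | h'
      · exact absurd (Subtype.ext (Subtype.ext (Subtype.ext h'))) hk
      · exact Subtype.ext (Subtype.ext (Subtype.ext (h'.trans htdef.symm)))
  have hRcard : Nat.card R = 2 ^ 23 := by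
    let f : Qc →* R := μ.subgroupMap Qc
    have e1 := Subgroup.card_eq_card_quotient_mul_card_subgroup f.ker
    rw [Nat.card_congr (QuotientGroup.quotientKerEquivOfSurjective f (MonoidHom.subgroupMap_surjective _ _)).toEquiv,
      hQccard] at e1
    have e2 : Nat.card f.ker = 2 := by
      rw [← hker2]
      exact Nat.card_congr ⟨fun k => ⟨((k : Qc) : Hc), congrArg Subtype.val k.2⟩,
        fun k => ⟨⟨(k : Hc), hkerle k.2⟩, Subtype.ext k.2⟩, fun _ => rfl, fun _ => rfl⟩
    rw [e2] at e1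
    omega
  -- the centre
  have hzH : zC z ∈ Hc := Subgroup.mem_centralizer_singleton_iff.2 (zC_comm _).symm
  set zb : Subgroup.centralizer ({π zG} : Set (Gt ⧸ N)) := ⟨π zG, Subgroup.mem_centralizer_singleton_iff.2 rfl⟩ with hzb
  have hzbR : zb ∈ R := ⟨⟨zC z, hzH⟩, z_mem e, (hμz _).2 (Or.inl rfl)⟩
  have hcommR : ∀ a b : R, (a * b * a⁻¹ * b⁻¹ : R) = 1 ∨ (a * b * a⁻¹ * b⁻¹ : R) = ⟨zb, hzbR⟩ := by
    rintro ⟨_, a, ha, rfl⟩ ⟨_, b, hb, rfl⟩
    rcases (S.center_iff _).1 (MonsterForm.comm_center S.extra ⟨_, ha⟩ ⟨_, hb⟩) with h | h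
    · left
      refine Subtype.ext ?_
      show μ a * μ b * (μ a)⁻¹ * (μ b)⁻¹ = 1
      rw [← map_inv, ← map_inv, ← map_mul, ← map_mul, ← map_mul]
      exact (hμ1 _).2 (Or.inl (congrArg Subtype.val h))
    · right
      refine Subtype.ext ?_
      show μ a * μ b * (μ a)⁻¹ * (μ b)⁻¹ = zb
      rw [← map_inv, ← map_inv, ← map_mul, ← map_mul, ← map_mul]
      exact (hμz _).2 (Or.inl (congrArg Subtype.val h))
  have hzcent : ∀ a : R, a * ⟨zb, hzbR⟩ = ⟨zb, hzbR⟩ * a := fun a => Subtype.ext (Subtype.ext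
    (Subgroup.mem_centralizer_singleton_iff.1 (a : Subgroup.centralizer ({π zG} : Set (Gt ⧸ N))).2))
  have hzbne : (⟨zb, hzbR⟩ : R) ≠ 1 := fun h => hz1 (congrArg (fun a : R => ((a : Subgroup.centralizer ({π zG} : Set (Gt ⧸ N))) : Gt ⧸ N)) h)
  -- central elements
  have hcen : ∀ a : R, a ∈ Subgroup.center R → a = 1 ∨ a = ⟨zb, hzbR⟩ := by
    rintro ⟨_, a, ha, rfl⟩ hac
    set qa : Q := ⟨(a : Subgroup.centralizer ({z} : Set G)), ha⟩ with hqa
    have hcd : ∀ b : Q, b ∈ Subgroup.centralizer ({tQ} : Set Q) → qa * b = b * qa := by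
      intro b hb
      have hbH : (b : Subgroup.centralizer ({z} : Set G)) ∈ Hc :=
        Subgroup.mem_centralizer_singleton_iff.2 (congrArg Subtype.val (Subgroup.mem_centralizer_singleton_iff.1 hb))
      have h1 := congrArg Subtype.val (Subgroup.mem_center_iff.1 hac ⟨_, ⟨_, hbH⟩, b.2, rfl⟩)
      simp only [Subgroup.coe_mul] at h1
      have h2 : μ (a * ⟨_, hbH⟩ * a⁻¹ * ⟨_, hbH⟩⁻¹) = 1 := by
        rw [map_mul, map_mul, map_mul, map_inv, map_inv, ← h1]; group
      rcases (S.center_iff _).1 (MonsterForm.comm_center S.extra qa b) with h | h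
      · have h' : (qa * b * qa⁻¹ * b⁻¹ : Q) = 1 := Subtype.ext h
        rwa [mul_inv_eq_one, mul_inv_eq_iff_eq_mul] at h'
      · exfalso
        have hval : (((a * ⟨_, hbH⟩ * a⁻¹ * ⟨_, hbH⟩⁻¹ : Hc) : Subgroup.centralizer ({z} : Set G)) : G) = z :=
          congrArg Subtype.val h
        rcases (hμ1 _).1 h2 with h3 | h3
        · exact S.z_ne (hval.symm.trans h3)
        · exact hzt (hval.symm.trans h3)
    obtain ⟨y, hy⟩ := S.flip htc
    have hidx := Cfsg.Agent.Solv.extraspecial_centralizer_index S.extra htc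
    have hyn : y ∉ Subgroup.centralizer ({tQ} : Set Q) := fun h => by
      have h' := congrArg Subtype.val (Subgroup.mem_centralizer_singleton_iff.1 h)
      simp only [Subgroup.coe_mul] at h'
      rw [h', mul_inv_cancel_right, eq_comm, mul_eq_left] at hy
      exact S.z_ne (congrArg Subtype.val hy)
    have hgen : ∀ c : Q, c ∈ Subgroup.centralizer ({tQ} : Set Q) ∨ c * y⁻¹ ∈ Subgroup.centralizer ({tQ} : Set Q) := fun c => by
      by_cases hc : c ∈ Subgroup.centralizer ({tQ} : Set Q)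
      · exact Or.inl hc
      · exact Or.inr ((Subgroup.mul_mem_iff_of_index_two hidx).2 (iff_of_false hc (by rwa [inv_mem_iff])))
    have hcenter : ∀ q : Q, (∀ b ∈ Subgroup.centralizer ({tQ} : Set Q), q * b = b * q) → q * y = y * q → q ∈ Subgroup.center Q := by
      intro q h1 h2
      refine Subgroup.mem_center_iff.2 fun c => ?_
      rcases hgen c with h | h
      · exact (h1 c h).symm
      · have := h1 _ h
        calc c * q = (c * y⁻¹) * (y * q) := by group
          _ = (c * y⁻¹) * (q * y) := by rw [h2]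
          _ = ((c * y⁻¹) * q) * y := by group
          _ = (q * (c * y⁻¹)) * y := by rw [this]
          _ = q * c := by group
    have hfinal : qa ∈ Subgroup.center Q ∨ qa * tQ ∈ Subgroup.center Q := by
      by_cases h2 : qa * y = y * qa
      · exact Or.inl (hcenter qa hcd h2)
      · right
        refine hcenter _ (fun b hb => ?_) ?_
        · rw [mul_assoc, ← Subgroup.mem_centralizer_singleton_iff.1 hb, ← mul_assoc, hcd b hb, mul_assoc]
        · have hz' : ∀ u : Q, y * u * y⁻¹ * u⁻¹ ≠ 1 → (((y * u * y⁻¹ * u⁻¹ : Q)) : Subgroup.centralizer ({z} : Set G)) = zC z := fun u hu => by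
            rcases (S.center_iff _).1 (MonsterForm.comm_center S.extra y u) with h | h
            · exact absurd (Subtype.ext h) hu
            · exact h
          have e1 := hz' qa (fun h => h2 (by rw [mul_inv_eq_one, mul_inv_eq_iff_eq_mul] at h; exact h.symm))
          simp only [Subgroup.coe_mul, Subgroup.coe_inv] at e1
          refine Subtype.ext ?_
          simp only [Subgroup.coe_mul]
          set Y := (y : Subgroup.centralizer ({z} : Set G))
          set A := (qa : Subgroup.centralizer ({z} : Set G))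
          set T := (tQ : Subgroup.centralizer ({z} : Set G))
          rw [mul_inv_eq_iff_eq_mul] at e1
          have hzz : zC z * zC z = 1 := Subtype.ext hz2
          symm
          calc Y * (A * T) = (Y * A * Y⁻¹) * (Y * T * Y⁻¹) * Y := by group
            _ = (zC z * A) * (T * zC z) * Y := by rw [e1, hy]
            _ = zC z * (A * T * zC z) * Y := by group
            _ = zC z * (zC z * (A * T)) * Y := by rw [zC_comm]
            _ = A * T * Y := by rw [← mul_assoc, hzz, one_mul]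
    rcases hfinal with h | h <;> rcases (S.center_iff _).1 h with h' | h'
    · exact Or.inl (Subtype.ext ((hμ1 a).2 (Or.inl (congrArg Subtype.val h'))))
    · exact Or.inr (Subtype.ext ((hμz a).2 (Or.inl (congrArg Subtype.val h'))))
    · refine Or.inl (Subtype.ext ((hμ1 a).2 (Or.inr ?_)))
      have h3 : ((a : Subgroup.centralizer ({z} : Set G)) : G) * t = 1 := by rw [← htdef]; exact congrArg Subtype.val h'
      rw [mul_eq_one_iff_eq_inv] at h3
      rw [h3]
      exact inv_eq_of_mul_eq_one_right (by rw [← sq, ← ht2, pow_orderOf_eq_one])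
    · refine Or.inr (Subtype.ext ((hμz a).2 (Or.inr ?_)))
      have h3 : ((a : Subgroup.centralizer ({z} : Set G)) : G) * t = z := by rw [← htdef]; exact congrArg Subtype.val h'
      exact (by rw [mul_assoc, show t * t = 1 by rw [← sq, ← ht2, pow_orderOf_eq_one], mul_one] :
        ((a : Subgroup.centralizer ({z} : Set G)) : G) * t * t = ((a : Subgroup.centralizer ({z} : Set G)) : G)).symm.trans (congrArg (· * t) h3)
  have hcenter2 : Nat.card (Subgroup.center R) = 2 := by
    rw [Nat.card_eq_two_iff' (1 : Subgroup.center R)]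
    refine ⟨⟨⟨zb, hzbR⟩, Subgroup.mem_center_iff.2 hzcent⟩, fun h => hzbne (congrArg Subtype.val h), fun k hk => ?_⟩
    rcases hcen k k.2 with h | h
    · exact absurd (Subtype.ext h) hk
    · exact Subtype.ext h
  have hRp : IsPGroup 2 R := IsPGroup.of_card hRcard
  have hRextra : IsExtraspecial 2 R := by
    refine Cfsg.Agent.Solv.isExtraspecial_of hRp hcenter2 (le_antisymm ?_ ?_) fun x => ?_
    · rw [commutator_def, Subgroup.commutator_le]
      intro a _ b _
      rw [commutatorElement_def]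
      rcases hcommR a b with h | h <;> rw [h]
      · exact one_mem _
      · exact Subgroup.mem_center_iff.2 hzcent
    · intro a ha
      rcases hcen a ha with h | h <;> rw [h]
      · exact one_mem _
      · obtain ⟨p, q, hpq⟩ : ∃ p q : Q, p ∈ Subgroup.centralizer ({tQ} : Set Q) ∧ q ∈ Subgroup.centralizer ({tQ} : Set Q) ∧ p * q ≠ q * p := by
          by_contra hcon
          push_neg at hcon
          have := abelian_le S (B := Subgroup.centralizer ({tQ} : Set Q))
            ⟨⟨fun p q => Subtype.ext (hcon p q p.2 q.2)⟩⟩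
          rw [card_cent S htc] at this
          norm_num at this
        obtain ⟨hp, hq, hne⟩ := hpq
        have hin : ∀ u : Q, u ∈ Subgroup.centralizer ({tQ} : Set Q) → (u : Subgroup.centralizer ({z} : Set G)) ∈ Hc :=
          fun u hu => Subgroup.mem_centralizer_singleton_iff.2 (congrArg Subtype.val (Subgroup.mem_centralizer_singleton_iff.1 hu))
        set a' : R := ⟨μ ⟨_, hin p hp⟩, _, p.2, rfl⟩
        set b' : R := ⟨μ ⟨_, hin q hq⟩, _, q.2, rfl⟩
        have hc : a' * b' * a'⁻¹ * b'⁻¹ = ⟨zb, hzbR⟩ := by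
          rcases (S.center_iff _).1 (MonsterForm.comm_center S.extra p q) with h' | h'
          · exfalso
            have h'' : p * q * p⁻¹ * q⁻¹ = 1 := Subtype.ext h'
            rw [mul_inv_eq_one, mul_inv_eq_iff_eq_mul] at h''
            exact hne h''
          · refine Subtype.ext ?_
            show μ _ * μ _ * (μ _)⁻¹ * (μ _)⁻¹ = zb
            rw [← map_inv, ← map_inv, ← map_mul, ← map_mul, ← map_mul]
            exact (hμz _).2 (Or.inl (congrArg Subtype.val h'))
        rw [← hc, ← commutatorElement_def, commutator_def]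
        exact Subgroup.commutator_mem_commutator (Subgroup.mem_top a') (Subgroup.mem_top b')
    · obtain ⟨a, ha, hax⟩ := x.2
      rcases (S.center_iff _).1 (MonsterForm.sq_center S.extra ⟨_, ha⟩) with h | h
      · have e1 : x ^ 2 = 1 := Subtype.ext (by
          rw [Subgroup.coe_pow, ← hax, sq, ← map_mul]
          exact (hμ1 _).2 (Or.inl (congrArg Subtype.val h)))
        rw [e1]; exact one_mem _
      · have e1 : x ^ 2 = ⟨zb, hzbR⟩ := Subtype.ext (by
          rw [Subgroup.coe_pow, ← hax, sq, ← map_mul]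
          exact (hμz _).2 (Or.inl (congrArg Subtype.val h)))
        rw [e1]; exact Subgroup.mem_center_iff.2 hzcent
  have hperp : ∀ {v : Lv} {q : Q}, ψ v = QuotientGroup.mk q →
      ((q * tQ = tQ * q → (16 : ℤ) ∣ dotInt (v : Zv) Cfsg.Spor.vecU) ∧
        ((16 : ℤ) ∣ dotInt (v : Zv) Cfsg.Spor.vecU → q * tQ = tQ * q)) := by
    intro v q hq
    have h1 := MonsterForm.qf_mul S.extra q tQ
    have hF := (MonsterForm.form_eq S.extra S.hψ).2
    rw [hF (v + Cfsg.Spor.leechU) (q * tQ) (by rw [S.hψ.1, hq, ht, QuotientGroup.mk_mul]), hF v q hq,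
      hF Cfsg.Spor.leechU tQ ht, (dot_normQ v Cfsg.Spor.leechU).1, add_left_cancel_iff] at h1
    have h8 : (8 : ℤ) ∣ dotInt (v : Zv) Cfsg.Spor.vecU := (dot_normQ v Cfsg.Spor.leechU).2
    have hz : ((dotInt (v : Zv) (Cfsg.Spor.leechU : Zv) / 8 : ℤ) : ZMod 2) = 0 ↔ (16 : ℤ) ∣ dotInt (v : Zv) Cfsg.Spor.vecU := by
      rw [ZMod.intCast_zmod_eq_zero_iff_dvd]
      show ((2 : ℕ) : ℤ) ∣ dotInt (v : Zv) Cfsg.Spor.vecU / 8 ↔ _
      push_cast
      omega
    constructor
    · intro hcm
      refine hz.1 (h1.trans (MonsterForm.bit_eq_zero.2 ?_))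
      rw [← hcm]; group
    · intro h16
      have hb := MonsterForm.bit_eq_zero.1 (h1.symm.trans (hz.2 h16))
      rw [mul_inv_eq_one, mul_inv_eq_iff_eq_mul] at hb
      exact hb.symm
  -- identification with the second Conway group
  have hch : ∀ h : Hc, ∃! g : ↥Co0, g • Cfsg.Spor.leechU = Cfsg.Spor.leechU ∧
      QuotientGroup.mk' (Subgroup.center ↥Co0) g = proj e (h : Subgroup.centralizer ({z} : Set G)) := by
    intro h
    have hst := S.stab_image ht (h := (h : Subgroup.centralizer ({z} : Set G))) (by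
      rw [mul_inv_eq_iff_eq_mul]; exact Subgroup.mem_centralizer_singleton_iff.1 h.2)
    obtain ⟨g1, hg1, hg1e⟩ := hst
    obtain ⟨n, hn⟩ := negation_exists
    have huniq : ∀ a b : ↥Co0, a • Cfsg.Spor.leechU = Cfsg.Spor.leechU → b • Cfsg.Spor.leechU = Cfsg.Spor.leechU →
        QuotientGroup.mk' (Subgroup.center ↥Co0) a = QuotientGroup.mk' (Subgroup.center ↥Co0) b → a = b := by
      intro a b ha hb hab
      rcases center_cases hn (QuotientGroup.eq.1 hab) with h' | h'
      · exact inv_mul_eq_one.1 h'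
      · exfalso
        have h1 : b • Cfsg.Spor.leechU = a • (n • Cfsg.Spor.leechU) := by
          rw [← mul_smul, ← h', mul_inv_cancel_left]
        rw [hb, show n • Cfsg.Spor.leechU = -Cfsg.Spor.leechU from Subtype.ext (hn _)] at h1
        have h2 := congrArg (fun v : Lv => (v : Zv)) h1
        have h3 : a • (-Cfsg.Spor.leechU) = -(a • Cfsg.Spor.leechU) := map_neg
          (AddMonoidHom.mk' (fun v : Lv => a • v) fun u v => co0_add a u v) _
        rw [h3, ha] at h2
        revert h2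
        show Cfsg.Spor.vecU = -Cfsg.Spor.vecU → False
        decide +kernel
    rcases classStab_short hun hg1 with h' | h'
    · exact ⟨g1, ⟨h', hg1e⟩, fun g' hg' => huniq _ _ hg'.1 h' (hg'.2.trans hg1e.symm)⟩
    · have hst' : (n * g1) • Cfsg.Spor.leechU = Cfsg.Spor.leechU := Subtype.ext (by
        rw [mul_smul, hn, h', AddSubgroup.coe_neg, neg_neg])
      have hmk : QuotientGroup.mk' (Subgroup.center ↥Co0) (n * g1) = proj e (h : Subgroup.centralizer ({z} : Set G)) := by
        rw [map_mul, show QuotientGroup.mk' (Subgroup.center ↥Co0) n = 1 from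
          (QuotientGroup.eq_one_iff n).2 (negation_mem_center hn), one_mul, hg1e]
      exact ⟨n * g1, ⟨hst', hmk⟩, fun g' hg' => huniq _ _ hg'.1 hst' (hg'.2.trans hmk.symm)⟩
  choose θ0 hθ0 hθu using hch
  let θ : Hc →* ↥Cfsg.Spor.Co2 := MonoidHom.mk'
    (fun h => ⟨(θ0 h : Equiv.Perm Lv), (θ0 h).2, (hθ0 h).1⟩) fun a b => Subtype.ext (congrArg Subtype.val
      (hθu (a * b) (θ0 a * θ0 b) ⟨by rw [mul_smul, (hθ0 b).1, (hθ0 a).1],
        by rw [map_mul, (hθ0 a).2, (hθ0 b).2, Subgroup.coe_mul, map_mul]⟩).symm : _)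
  have hθsurj : Function.Surjective θ := by
    rintro ⟨p, hp0, hpu⟩
    obtain ⟨h, hh, hhx⟩ := S.conj_to ht ht htc (g := ⟨p, hp0⟩) (by
      rw [show (⟨p, hp0⟩ : ↥Co0) • Cfsg.Spor.leechU = Cfsg.Spor.leechU from hpu]; exact Cong2.refl' _)
    have hhm : h ∈ Hc := by
      rw [hHc, Subgroup.mem_centralizer_singleton_iff]
      rwa [mul_inv_eq_iff_eq_mul] at hhx
    exact ⟨⟨h, hhm⟩, Subtype.ext (congrArg Subtype.val (hθu ⟨h, hhm⟩ ⟨p, hp0⟩ ⟨hpu, hh.symm⟩).symm : _)⟩
  have hθker : θ.ker = Qc := by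
    ext h
    rw [MonoidHom.mem_ker, hQc, Subgroup.mem_subgroupOf, ← proj_one (e := e)]
    constructor
    · intro h1
      have : θ0 h = 1 := Subtype.ext (congrArg (fun p : ↥Cfsg.Spor.Co2 => (p : Equiv.Perm Lv)) h1)
      rw [← (hθ0 h).2, this, map_one]
    · intro h1
      exact Subtype.ext (congrArg Subtype.val (hθu h 1 ⟨one_smul _ _, by rw [map_one, h1]⟩).symm : _)
  obtain ⟨eD, heD⟩ := quot_iso ((QuotientGroup.mk' R).comp μ) θ
    ((QuotientGroup.mk'_surjective R).comp hsurj) hθsurj (by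
      rw [hθker, ← MonoidHom.comap_ker, QuotientGroup.ker_mk', hcomapR])
  -- simplicity of the quotient
  obtain ⟨hsimp, hc2card⟩ := co2_spec hun
  let c2e : ↥Cfsg.Spor.Co2 ≃* MulAction.stabilizer ↥Co0 Cfsg.Spor.leechU :=
    { toFun := fun p => ⟨⟨p.1, p.2.1⟩, p.2.2⟩
      invFun := fun g => ⟨g.1.1, g.1.2, g.2⟩
      left_inv := fun _ => rfl
      right_inv := fun _ => rfl
      map_mul' := fun _ _ => rfl }
  haveI hsimpCo2 : IsSimpleGroup ↥Cfsg.Spor.Co2 := by haveI := hsimp; exact c2e.isSimpleGroup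
  haveI : IsSimpleGroup (Subgroup.centralizer ({π zG} : Set (Gt ⧸ N)) ⧸ R) := eD.isSimpleGroup
  have hqcard : Nat.card (Subgroup.centralizer ({π zG} : Set (Gt ⧸ N)) ⧸ R) = 42305421312000 := by
    rw [Nat.card_congr (eD.trans c2e).toEquiv, hc2card]
  -- self-centralising
  have hcentR : Subgroup.centralizer (R : Set (Subgroup.centralizer ({π zG} : Set (Gt ⧸ N)))) ≤ R := by
    haveI := Subgroup.Normal.map (H := (Subgroup.centralizer (R : Set (Subgroup.centralizer ({π zG} : Set (Gt ⧸ N))))).comap μ)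
      inferInstance θ hθsurj
    rcases hsimpCo2.eq_bot_or_eq_top_of_normal (((Subgroup.centralizer (R : Set (Subgroup.centralizer ({π zG} : Set (Gt ⧸ N))))).comap μ).map θ) inferInstance with hb | ht'
    · intro d hd
      obtain ⟨h, rfl⟩ := hsurj d
      have : θ h = 1 := by
        have : θ h ∈ ((Subgroup.centralizer (R : Set (Subgroup.centralizer ({π zG} : Set (Gt ⧸ N))))).comap μ).map θ := ⟨h, hd, rfl⟩
        rwa [hb, Subgroup.mem_bot] at this
      exact ⟨h, hθker ▸ this, rfl⟩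
    · exfalso
      obtain ⟨g, x, hgu, hx16, hn1, hn2⟩ := co2_moves
      obtain ⟨h, hhK, hhg⟩ : (⟨(g : Equiv.Perm Lv), g.2, hgu⟩ : ↥Cfsg.Spor.Co2) ∈
          ((Subgroup.centralizer (R : Set (Subgroup.centralizer ({π zG} : Set (Gt ⧸ N))))).comap μ).map θ :=
        ht' ▸ Subgroup.mem_top _
      have hg' : θ0 h = g := Subtype.ext (congrArg Subtype.val hhg : _)
      obtain ⟨qx, hqx⟩ := QuotientGroup.mk_surjective (ψ x)
      have hqt := (hperp hqx.symm).2 hx16
      have hqH : (qx : Subgroup.centralizer ({z} : Set G)) ∈ Hc :=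
        Subgroup.mem_centralizer_singleton_iff.2 (congrArg Subtype.val hqt)
      have h1 : μ (h * ⟨_, hqH⟩ * h⁻¹ * ⟨_, hqH⟩⁻¹) = 1 := by
        have := (Subgroup.mem_centralizer_iff.1 (show μ h ∈ Subgroup.centralizer (R : Set _) from hhK)) (μ ⟨_, hqH⟩) ⟨_, qx.2, rfl⟩
        rw [map_mul, map_mul, map_mul, map_inv, map_inv, ← this]; group
      have hact := S.hψ.2.2.2 (h : Subgroup.centralizer ({z} : Set G)) g (by rw [← hg']; exact (hθ0 h).2) x qx hqx.symm
      rcases (hμ1 _).1 h1 with h2 | h2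
      · refine hn1 (S.cong_of_eq (hact.trans (Eq.trans (congrArg QuotientGroup.mk (Subtype.ext (Subtype.ext ?_))) hqx)))
        simp only [Subgroup.coe_mul, Subgroup.coe_inv] at h2 ⊢
        rw [mul_inv_eq_one] at h2
        exact h2
      · refine hn2 (S.cong_of_eq (hact.trans (Eq.trans ?_ (S.hψ.1 x Cfsg.Spor.leechU).symm)))
        rw [← hqx, ht, ← QuotientGroup.mk_mul]
        refine congrArg QuotientGroup.mk (Subtype.ext (Subtype.ext ?_))
        simp only [Subgroup.coe_mul, Subgroup.coe_inv] at h2 ⊢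
        rw [mul_inv_eq_iff_eq_mul] at h2
        rw [h2, htdef]
        have := congrArg (fun u : Q => ((u : Subgroup.centralizer ({z} : Set G)) : G)) hqt
        simp only [Subgroup.coe_mul, htdef] at this
        exact this.symm
  -- the generalised Fitting subgroup
  have hgf : generalizedFittingSubgroup (Subgroup.centralizer ({π zG} : Set (Gt ⧸ N))) = R :=
    gfit_eq R hRp.isNilpotent hcentR (p := 2) (q := 23) Nat.prime_two (by norm_num) (by norm_num)
      (by rw [hqcard]; norm_num) (by rw [hqcard]; norm_num)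
  -- fusion inside the centraliser
  obtain ⟨x0, hx0⟩ := QuotientGroup.mk_surjective (ψ (e8 none))
  obtain ⟨hx0c, hx0z⟩ := (S.conj_iff x0).2 ⟨e8 none, e8_norm none, hx0.symm⟩
  obtain ⟨g, hg⟩ := isConj_iff.1 hx0c
  have hU4 : ∀ i, (4 : ℤ) ∣ (Cfsg.Spor.leechU : Zv) i := by
    show ∀ i, (4 : ℤ) ∣ Cfsg.Spor.vecU i
    decide +kernel
  obtain ⟨_, ⟨k, hk, rfl⟩, hkt⟩ := S.meet_four hx0.symm hg ht hU4
  have hkt' : g * (k : G) * g⁻¹ = t := by rw [← htdef]; exact hkt
  have hk2 : orderOf (k : G) = 2 := by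
    rw [← ht2, ← hkt', ← MulAut.conj_apply, MulEquiv.orderOf_eq]
  have hkn : ¬ IsConj z (k : G) := fun h => htn (h.trans (isConj_iff.2 ⟨g, hkt'⟩))
  obtain ⟨h, hhC, hh⟩ := S.transitive_other tQ ⟨k, hk⟩ (by rw [htdef, ht2]) hk2 (by rw [htdef]; exact htn) hkn
  rw [htdef] at hh
  have hh' : h * t * h⁻¹ = (k : G) := hh
  have hhz := Subgroup.mem_centralizer_singleton_iff.1 hhC
  have hgt : g * h ∈ Gt := Subgroup.mem_centralizer_singleton_iff.2 (by
    rw [← mul_inv_eq_iff_eq_mul, show g * h * t * (g * h)⁻¹ = g * (h * t * h⁻¹) * g⁻¹ by group, hh', hkt'])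
  have hgz : g * h * z * (g * h)⁻¹ = ((x0 : Subgroup.centralizer ({z} : Set G)) : G) := by
    rw [← hg, show g * h * z * (g * h)⁻¹ = g * (h * z * h⁻¹) * g⁻¹ by group, mul_inv_eq_iff_eq_mul.2 hhz]
  set x0G : Gt := ⟨g * h, hgt⟩ * zG * ⟨g * h, hgt⟩⁻¹ with hx0G
  have hx0G' : (x0G : G) = ((x0 : Subgroup.centralizer ({z} : Set G)) : G) := by rw [← hgz]; rfl
  have hx0H : (x0 : Subgroup.centralizer ({z} : Set G)) ∈ Hc := Subgroup.mem_centralizer_singleton_iff.2 (Subtype.ext (by
    show ((x0 : Subgroup.centralizer ({z} : Set G)) : G) * _ = _ * ((x0 : Subgroup.centralizer ({z} : Set G)) : G)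
    rw [htdef, ← hx0G']
    exact Subgroup.mem_centralizer_singleton_iff.1 x0G.2))
  have hπx0 : π x0G = ((μ ⟨_, hx0H⟩ : Subgroup.centralizer ({π zG} : Set (Gt ⧸ N))) : Gt ⧸ N) :=
    congrArg π (Subtype.ext hx0G')
  have hweak : π x0G ≠ π zG := by
    intro heq
    rcases (hμz ⟨_, hx0H⟩).1 (Subtype.ext (hπx0.symm.trans heq)) with h1 | h1
    · exact hx0z h1
    · have he : x0 = ⟨zC z, z_mem e⟩ * tQ := Subtype.ext (Subtype.ext (by
        show ((x0 : Subgroup.centralizer ({z} : Set G)) : G) = z * _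
        rw [htdef]; exact h1))
      have hcl : ψ (e8 none) = ψ Cfsg.Spor.leechU := by
        rw [← hx0, he, QuotientGroup.mk_mul,
          (QuotientGroup.eq_one_iff (⟨zC z, z_mem e⟩ : Q)).2 ((S.center_iff _).2 (Or.inr rfl)), one_mul, ht]
      have hc := S.cong_of_eq hcl
      have ha : (e8 none : Zv) ≠ (Cfsg.Spor.leechU : Zv) := fun e' => by
        have := e8_norm none; rw [e', hun] at this; omega
      have hb : (e8 none : Zv) ≠ -(Cfsg.Spor.leechU : Zv) := fun e' => by
        have := e8_norm none; rw [e', sqNorm_neg, hun] at this; omega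
      obtain ⟨-, e2, -⟩ := congruent_short (e8 none).2 ha hb (by rw [e8_norm]) (by rw [hun]; norm_num) hc
      omega
  -- the module
  have hin : ∀ x : Cfsg.leechPerpU, ((ψ (x : Lv)).out : Subgroup.centralizer ({z} : Set G)) ∈ Hc := fun x =>
    Subgroup.mem_centralizer_singleton_iff.2 (congrArg Subtype.val
      ((hperp (QuotientGroup.out_eq' (ψ (x : Lv))).symm).2 x.2))
  let ψ' : Cfsg.leechPerpU → R ⧸ Subgroup.center R := fun x =>
    QuotientGroup.mk ⟨μ ⟨_, hin x⟩, ⟨_, (ψ (x : Lv)).out.2, rfl⟩⟩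
  have hψ' : ∀ (x : Cfsg.leechPerpU) (q : Q) (hq : ψ (x : Lv) = QuotientGroup.mk q)
      (hm : (q : Subgroup.centralizer ({z} : Set G)) ∈ Hc),
      ψ' x = QuotientGroup.mk ⟨μ ⟨_, hm⟩, ⟨_, q.2, rfl⟩⟩ := by
    intro x q hq hm
    have hc : (ψ (x : Lv)).out⁻¹ * q ∈ Subgroup.center Q :=
      QuotientGroup.eq.1 ((QuotientGroup.out_eq' _).trans hq)
    refine QuotientGroup.eq.2 ?_
    rcases (S.center_iff _).1 hc with h1 | h1
    · have : (⟨μ ⟨_, hin x⟩, ⟨_, (ψ (x : Lv)).out.2, rfl⟩⟩ : R)⁻¹ * ⟨μ ⟨_, hm⟩, ⟨_, q.2, rfl⟩⟩ = 1 :=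
        Subtype.ext (by
          show (μ _)⁻¹ * μ _ = 1
          rw [← map_inv, ← map_mul]
          exact (hμ1 _).2 (Or.inl (congrArg (fun u : Subgroup.centralizer ({z} : Set G) => (u : G)) h1 :)))
      rw [this]; exact one_mem _
    · have : (⟨μ ⟨_, hin x⟩, ⟨_, (ψ (x : Lv)).out.2, rfl⟩⟩ : R)⁻¹ * ⟨μ ⟨_, hm⟩, ⟨_, q.2, rfl⟩⟩ = ⟨zb, hzbR⟩ :=
        Subtype.ext (by
          show (μ _)⁻¹ * μ _ = zb
          rw [← map_inv, ← map_mul]
          exact (hμz _).2 (Or.inl (congrArg (fun u : Subgroup.centralizer ({z} : Set G) => (u : G)) h1 :)))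
      rw [this]; exact Subgroup.mem_center_iff.2 hzcent
  have h1mem : ∀ r : R, (r : Subgroup.centralizer ({π zG} : Set (Gt ⧸ N))) = 1 → r ∈ Subgroup.center R :=
    fun r hr => by rw [show r = 1 from Subtype.ext hr]; exact one_mem _
  have h2mem : ∀ r : R, (r : Subgroup.centralizer ({π zG} : Set (Gt ⧸ N))) = zb → r ∈ Subgroup.center R :=
    fun r hr => by rw [show r = ⟨zb, hzbR⟩ from Subtype.ext hr]; exact Subgroup.mem_center_iff.2 hzcent
  refine ⟨π zG, R, hRn, ⟨orderOf_eq_prime ?_ hz1, hgf, hRextra, hRcard, π ⟨g * h, hgt⟩, ⟨?_, ?_⟩, ?_⟩,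
    eD, ψ', fun x y => ?_, ?_, fun x => ?_, ?_⟩
  · rw [← map_pow]; exact (hNmem _).2 (Or.inl (by rw [Subgroup.coe_pow, sq]; exact hz2))
  · rw [← map_inv, ← map_mul, ← map_mul, ← hx0G, hπx0]; exact SetLike.coe_mem _
  · exact ⟨⟨_, hx0H⟩, x0.2, Subtype.ext (hπx0.symm.trans (by simp only [hx0G, map_mul, map_inv]))⟩
  · rw [← map_inv, ← map_mul, ← map_mul, ← hx0G]; exact hweak
  · rw [hψ' (x + y) ((ψ (x : Lv)).out * (ψ (y : Lv)).out)
      (by rw [AddSubgroup.coe_add, S.hψ.1, QuotientGroup.mk_mul, QuotientGroup.out_eq', QuotientGroup.out_eq'])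
      (mul_mem (hin x) (hin y))]
    show _ = QuotientGroup.mk _ * QuotientGroup.mk _
    rw [← QuotientGroup.mk_mul]
    exact congrArg QuotientGroup.mk (Subtype.ext (map_mul μ ⟨_, hin x⟩ ⟨_, hin y⟩))
  · intro r
    obtain ⟨⟨_, a, ha, rfl⟩, rfl⟩ := QuotientGroup.mk_surjective r
    obtain ⟨v, hv⟩ := S.hψ.2.1 (QuotientGroup.mk ⟨_, ha⟩)
    have hcomm : (⟨_, ha⟩ : Q) * tQ = tQ * ⟨_, ha⟩ := Subtype.ext (Subgroup.mem_centralizer_singleton_iff.1 a.2)
    exact ⟨⟨v, (hperp hv).1 hcomm⟩, hψ' ⟨v, (hperp hv).1 hcomm⟩ _ hv a.2⟩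
  · rw [show ψ' x = QuotientGroup.mk _ from rfl, QuotientGroup.eq_one_iff]
    constructor
    · intro hc
      have hq : ψ (x : Lv) = 1 ∨ ψ (x : Lv) = ψ Cfsg.Spor.leechU := by
        rw [← QuotientGroup.out_eq' (ψ (x : Lv))]
        rcases hcen _ hc with h1 | h1
        · rcases (hμ1 _).1 (congrArg Subtype.val h1) with h2 | h2
          · exact Or.inl ((QuotientGroup.eq_one_iff _).2 ((S.center_iff _).2 (Or.inl (Subtype.ext h2))))
          · exact Or.inr (by rw [ht]; exact congrArg QuotientGroup.mk (Subtype.ext (Subtype.ext (h2.trans htdef.symm))))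
        · rcases (hμz _).1 (congrArg Subtype.val h1) with h2 | h2
          · exact Or.inl ((QuotientGroup.eq_one_iff _).2 ((S.center_iff _).2 (Or.inr (Subtype.ext h2))))
          · refine Or.inr ?_
            rw [show (ψ (x : Lv)).out = ⟨zC z, z_mem e⟩ * tQ from Subtype.ext (Subtype.ext (by
              show _ = z * _; rw [htdef]; exact h2)), QuotientGroup.mk_mul,
              (QuotientGroup.eq_one_iff (⟨zC z, z_mem e⟩ : Q)).2 ((S.center_iff _).2 (Or.inr rfl)), one_mul, ht]
      rcases hq with hq | hq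
      · exact Or.inl ((S.hψ.2.2.1 _).1 hq)
      · obtain ⟨w, hw, ew⟩ := S.cong_of_eq hq
        refine Or.inr ⟨⟨w, hw⟩, Subtype.ext ?_⟩
        rw [AddSubgroup.coe_add, AddSubgroup.coe_add]
        show ((x : Lv) : Zv) = (Cfsg.Spor.leechU : Zv) + (w + w)
        rw [← two_nsmul, ← ew]; abel
    · intro hx
      have hq : ψ (x : Lv) = 1 ∨ ψ (x : Lv) = ψ Cfsg.Spor.leechU := by
        rcases hx with hx | ⟨w, hw⟩
        · exact Or.inl ((S.hψ.2.2.1 _).2 hx)
        · exact Or.inr (by rw [hw, (MonsterForm.form_eq S.extra S.hψ).1])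
      rcases hq with hq | hq
      · have := hψ' x 1 (hq.trans (QuotientGroup.mk_one _).symm) (one_mem _)
        rw [← QuotientGroup.eq_one_iff]
        exact this.trans ((QuotientGroup.eq_one_iff _).2 (h1mem _ (map_one μ)))
      · have := hψ' x tQ (hq.trans ht) htH
        rw [← QuotientGroup.eq_one_iff]
        exact this.trans ((QuotientGroup.eq_one_iff _).2 (h1mem _ ((hμ1 ⟨_, htH⟩).2 (Or.inr htdef))))
  · intro d gg hgg x y hxy r hr
    obtain ⟨a, rfl⟩ := hsurj d
    have hga : ((θ0 a : ↥Co0) : Equiv.Perm Lv) = (gg : Equiv.Perm Lv) :=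
      congrArg (fun p : ↥Cfsg.Spor.Co2 => (p : Equiv.Perm Lv)) ((heD a).symm.trans hgg)
    have hq := (QuotientGroup.out_eq' (ψ (x : Lv))).symm
    have hact := S.hψ.2.2.2 (a : Subgroup.centralizer ({z} : Set G)) (θ0 a) (hθ0 a).2 (x : Lv) _ hq
    rw [show θ0 a • (x : Lv) = (y : Lv) by rw [← hxy]; exact congrArg (fun p : Equiv.Perm Lv => p (x : Lv)) hga] at hact
    rw [hψ' y _ hact (mul_mem (mul_mem a.2 (hin x)) (inv_mem a.2))]
    have hx' : ψ' x = QuotientGroup.mk r := hr
    have hc := QuotientGroup.eq.1 hx'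
    refine QuotientGroup.eq.2 ?_
    rcases hcen _ hc with h1 | h1
    · refine h1mem _ ?_
      have h1' : (μ ⟨_, hin x⟩)⁻¹ * (r : Subgroup.centralizer ({π zG} : Set (Gt ⧸ N))) = 1 := congrArg Subtype.val h1
      show (μ (a * ⟨_, hin x⟩ * a⁻¹))⁻¹ * (μ a * (r : Subgroup.centralizer ({π zG} : Set (Gt ⧸ N))) * (μ a)⁻¹) = 1
      rw [map_mul, map_mul, map_inv, ← inv_mul_eq_one.1 h1']; group
    · refine h2mem _ ?_
      have h1' : (μ ⟨_, hin x⟩)⁻¹ * (r : Subgroup.centralizer ({π zG} : Set (Gt ⧸ N))) = zb := congrArg Subtype.val h1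
      have hzc : zb * (μ a)⁻¹ = (μ a)⁻¹ * zb :=
        Subtype.ext (Subgroup.mem_centralizer_singleton_iff.1 ((μ a)⁻¹).2).symm
      show (μ (a * ⟨_, hin x⟩ * a⁻¹))⁻¹ * (μ a * (r : Subgroup.centralizer ({π zG} : Set (Gt ⧸ N))) * (μ a)⁻¹) = zb
      rw [map_mul, map_mul, map_inv, inv_mul_eq_iff_eq_mul.1 h1']
      calc (μ a * μ ⟨_, hin x⟩ * (μ a)⁻¹)⁻¹ * (μ a * (μ ⟨_, hin x⟩ * zb) * (μ a)⁻¹)
          = μ a * (zb * (μ a)⁻¹) := by group
        _ = zb := by rw [hzc, mul_inv_cancel_left]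

end Cfsg.Agent.Spor.MonsterFusion
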