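import Cfsg.Agent.Lib.Spor.Co1SevenElem
import Cfsg.Agent.Lib.Spor.MonsterBaby

/-!
The classes modulo two fixed by the element of order seven.
-/

set_option autoImplicit false
set_option maxRecDepth 100000

namespace Cfsg.Agent.Spor.Co1Seven

open Cfsg Cfsg.Agent.Spor.MonsterFusion
open scoped Pointwise

local notation "Zv" => GolayPt → ℤ
set_option quotPrecheck false in
local notation "Lv" => ↥leechLattice
local notation "V6" => Fin 6 → ZMod 2
local notation "V3" => Fin 3 → ZMod 2

/-- congruence modulo twice the lattice, as a check -/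
def congB (x y : Zv) : Bool :=
  decide (∀ p, (x p - y p) % 2 = 0) && leechCheck fun p => (x p - y p) / 2

theorem congB_sound {x y : Zv} (h : congB x y = true) : Cong2 x y := by
  simp only [congB, Bool.and_eq_true, decide_eq_true_eq] at h
  refine ⟨_, leechCheck_mem h.2, funext fun p => ?_⟩
  have := h.1 p
  simp only [Pi.sub_apply, Pi.smul_apply, nsmul_eq_mul, Nat.cast_ofNat]
  omega

theorem cong_symm {x y : Zv} (h : Cong2 x y) : Cong2 y x := by
  obtain ⟨z, hz, e⟩ := h
  exact ⟨-z, neg_mem hz, by rw [smul_neg, ← e, neg_sub]⟩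

theorem cong_add {x y x' y' : Zv} (h : Cong2 x y) (h' : Cong2 x' y') : Cong2 (x + x') (y + y') := by
  obtain ⟨z, hz, e⟩ := h
  obtain ⟨z', hz', e'⟩ := h'
  exact ⟨z + z', add_mem hz hz', by rw [smul_add, ← e, ← e']; abel⟩

theorem cong_sum {ι : Type*} {s : Finset ι} (f g : ι → Zv) (h : ∀ i ∈ s, Cong2 (f i) (g i)) :
    Cong2 (∑ i ∈ s, f i) (∑ i ∈ s, g i) := by
  classical
  induction s using Finset.induction_on with
  | empty => exact Cong2.refl' _
  | insert a t ha ih =>
    rw [Finset.sum_insert ha, Finset.sum_insert ha]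
    exact cong_add (h a (Finset.mem_insert_self a t)) (ih fun i hi => h i (Finset.mem_insert_of_mem hi))

theorem cong_neg {x : Zv} (hx : x ∈ leechLattice) : Cong2 (-x) x :=
  ⟨-x, neg_mem hx, by rw [two_nsmul]; abel⟩

theorem cong_smul (g : ↥Co0) {v w : Lv} (h : Cong2 (v : Zv) (w : Zv)) :
    Cong2 ((g • v : Lv) : Zv) ((g • w : Lv) : Zv) := by
  obtain ⟨z, hz, e⟩ := h
  refine ⟨((g • (⟨z, hz⟩ : Lv) : Lv) : Zv), (g • (⟨z, hz⟩ : Lv)).2, ?_⟩
  have hv : v = w + ((⟨z, hz⟩ : Lv) + ⟨z, hz⟩) := Subtype.ext (by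
    show (v : Zv) = w + (z + z)
    rw [← two_nsmul, ← e]; abel)
  conv_lhs => rw [hv, co0_add, co0_add]
  rw [AddSubgroup.coe_add, AddSubgroup.coe_add, two_nsmul]
  abel

theorem basis_ok : ∀ j : Fin 6, leechCheck (vecOf (basisL.getD j [])) = true := by decide +kernel

/-- the basis of the fixed classes -/
def bv (j : Fin 6) : Lv := ⟨vecOf (basisL.getD j []), leechCheck_mem (basis_ok j)⟩

/-- the combination of the basis -/
def comb (c : V6) : Lv := ∑ j, if c j = 1 then bv j else 0

/-- its coordinates -/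
def combF (c : V6) (p : GolayPt) : ℤ := ∑ j, if c j = 1 then vecOf (basisL.getD j []) p else 0

theorem comb_val (c : V6) : ((comb c : Lv) : Zv) = combF c := by
  funext p
  simp only [comb, combF, AddSubgroup.val_finsetSum, Finset.sum_apply]
  exact Finset.sum_congr rfl fun j _ => by split_ifs <;> rfl

theorem comb_zero : comb 0 = 0 := by simp [comb]

theorem comb_add_cong (c d : V6) : Cong2 ((comb c + comb d : Lv) : Zv) ((comb (c + d) : Lv) : Zv) := by
  have h : ∀ j : Fin 6, Cong2 ((((if c j = 1 then bv j else 0) + if d j = 1 then bv j else 0) : Lv) : Zv)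
      (((if (c + d) j = 1 then bv j else 0) : Lv) : Zv) := by
    intro j
    rw [Pi.add_apply]
    rcases word_eq_one_or_zero (c j) with e | e <;> rcases word_eq_one_or_zero (d j) with e' | e' <;> rw [e, e'] <;>
      simp only [zero_ne_one, if_true, if_false, add_zero, zero_add, AddSubgroup.coe_add, AddSubgroup.coe_zero] <;>
      first
        | exact Cong2.refl' _
        | (rw [show (1 : ZMod 2) + 1 = 0 from rfl, if_neg zero_ne_one]
           exact ⟨(bv j : Zv), (bv j).2, by rw [AddSubgroup.coe_zero, sub_zero, two_nsmul]⟩)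
  rw [comb, comb, comb, ← Finset.sum_add_distrib, AddSubgroup.val_finsetSum, AddSubgroup.val_finsetSum]
  exact cong_sum _ _ fun j _ => h j

/-- classes in one of the two halves -/
def Half (c : V6) : Prop := (c 3 = 0 ∧ c 4 = 0 ∧ c 5 = 0) ∨ (c 0 = 0 ∧ c 1 = 0 ∧ c 2 = 0)

instance (c : V6) : Decidable (Half c) := inferInstanceAs (Decidable (_ ∨ _))

/-- number of a combination -/
def num (c : V6) : ℕ := ∑ j : Fin 6, (c j).val * 2 ^ (j : ℕ)

/-- the shortest member -/
def wit (c : V6) : Zv := vecOf (witL.getD (num c - 1) [])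

theorem wit_ok : ∀ c : V6, c ≠ 0 → congB (combF c) (wit c) = true ∧ leechCheck (wit c) = true ∧
    (sqNorm (wit c) = 32 ∨ sqNorm (wit c) = 48 ∨ sqNorm (wit c) = 64) ∧
    (sqNorm (wit c) = 64 ↔ Half c) := by decide +kernel

theorem comb_eq_zero {c : V6} (h : Cong2 ((comb c : Lv) : Zv) 0) : c = 0 := by
  by_contra hc
  obtain ⟨h1, h2, h3, -⟩ := wit_ok c hc
  rw [comb_val] at h
  obtain ⟨z, hz, e⟩ := (cong_symm (congB_sound h1)).trans h
  rw [sub_zero] at e
  have h4 := congrArg sqNorm e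
  rw [← natCast_zsmul, sqNorm_smul] at h4
  have hz0 : z ≠ 0 := by
    intro h0
    rw [h0, show sqNorm (0 : Zv) = 0 by simp [sqNorm]] at h4
    omega
  have := (leech_norm hz).2 hz0
  norm_num at h4
  omega

theorem comb_inj {c d : V6} (h : Cong2 ((comb c : Lv) : Zv) ((comb d : Lv) : Zv)) : c = d := by
  have h1 : Cong2 ((comb (c + d) : Lv) : Zv) 0 := by
    refine (cong_symm (comb_add_cong c d)).trans ?_
    rw [AddSubgroup.coe_add]
    refine (cong_add h (Cong2.refl' _)).trans ⟨(comb d : Zv), (comb d).2, ?_⟩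
    rw [sub_zero, two_nsmul]
  have h2 := comb_eq_zero h1
  funext j
  have := congrFun h2 j
  simp only [Pi.add_apply, Pi.zero_apply] at this
  revert this
  generalize c j = a; generalize d j = b
  revert a b; decide

theorem half_of_norm {v : Lv} (hv : sqNorm (v : Zv) = 64) {c : V6} (h : Cong2 (v : Zv) ((comb c : Lv) : Zv)) :
    c ≠ 0 ∧ Half c := by
  have hc : c ≠ 0 := by
    rintro rfl
    rw [comb_zero, AddSubgroup.coe_zero] at h
    obtain ⟨z, hz, e⟩ := h
    rw [sub_zero] at e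
    rw [e, ← natCast_zsmul, sqNorm_smul] at hv
    by_cases hz0 : z = 0
    · rw [hz0] at hv; simp [sqNorm] at hv
    · have := (leech_norm hz).2 hz0
      norm_num at hv
      omega
  obtain ⟨h1, h2, h3, h4⟩ := wit_ok c hc
  refine ⟨hc, h4.1 ?_⟩
  rw [comb_val] at h
  have hvw := h.trans (congB_sound h1)
  by_cases e1 : (v : Zv) = wit c
  · rw [← e1]; exact hv
  by_cases e2 : (v : Zv) = -wit c
  · rw [← hv, e2, sqNorm_neg]
  · exact (congruent_short v.2 e1 e2 hv.le (by omega) hvw).2.1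

theorem norm_of_half {c : V6} (hc : c ≠ 0) (h : Half c) :
    ∃ v : Lv, sqNorm (v : Zv) = 64 ∧ Cong2 (v : Zv) ((comb c : Lv) : Zv) := by
  obtain ⟨h1, h2, -, h4⟩ := wit_ok c hc
  exact ⟨⟨wit c, leechCheck_mem h2⟩, h4.2 h, by rw [comb_val]; exact cong_symm (congB_sound h1)⟩

/-- classes of combinations -/
def combSpan : AddSubgroup Zv where
  carrier := {x | x ∈ leechLattice ∧ ∃ c, Cong2 x ((comb c : Lv) : Zv)}
  zero_mem' := ⟨zero_mem _, 0, by rw [comb_zero]; exact Cong2.refl' _⟩
  add_mem' := by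
    rintro x y ⟨hx, c, h⟩ ⟨hy, d, h'⟩
    refine ⟨add_mem hx hy, c + d, (cong_add h h').trans ?_⟩
    rw [← AddSubgroup.coe_add]
    exact comb_add_cong c d
  neg_mem' := by
    rintro x ⟨hx, c, h⟩
    exact ⟨neg_mem hx, c, (cong_neg hx).trans h⟩

/-- the cycle of a point -/
def orb (p : GolayPt) : Fin 6 := Fin.ofNat 6 (orbNum.getD (idx p) 0)

/-- the first point of a cycle -/
def orep (j : Fin 6) : GolayPt := pt (orbReps.getD j 0)

theorem orb_reach : ∀ p, sx^[orbPos.getD (idx p) 0] (orep (orb p)) = p := by decide +kernel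

theorem orb_orep : ∀ j, orb (orep j) = j := by decide +kernel

theorem const_of_fixed {v : Lv} (h : pel • v = v) (p : GolayPt) : (v : Zv) p = (v : Zv) (orep (orb p)) := by
  have key : ∀ (n : ℕ) (q : GolayPt), (v : Zv) (sx^[n] q) = (v : Zv) q := by
    intro n
    induction n with
    | zero => intro q; rfl
    | succ n ih =>
      intro q
      rw [Function.iterate_succ_apply', ← ih q]
      conv_lhs => rw [← h]
      exact pel_apply v _
  conv_lhs => rw [← orb_reach p]
  exact key _ _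

/-- residues modulo four of fixed vectors -/
def resVec (m : Fin 2) (d : Fin 6 → Fin 2) : Zv := fun p => (m : ℤ) + 2 * (d (orb p) : ℤ)

theorem resid_ok : (residL.all fun e => leechCheck (vecOf e.2.1) &&
      decide (∀ p, vecOf e.2.1 p = vecOf e.2.1 (orep (orb p))) &&
      congB (vecOf e.2.1) (combF fun j => if Nat.testBit e.2.2 j then 1 else 0)) = true := by
  decide +kernel

set_option synthInstance.maxSize 512 in
theorem resid_complete : ∀ m : Fin 2, ∀ d : Fin 6 → Fin 2, inCode (wmask (digit (resVec m d))) = true →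
    (residL.any fun e => decide (∀ j, vecOf e.2.1 (orep j) % 4 = (m : ℤ) + 2 * (d j : ℤ))) = true := by
  decide +kernel

/-- the coefficients of the six vectors divisible by four -/
def quadVec (j : Fin 6) : Fin 6 → ℤ :=
  ![![1, 1, 0, 0, 0, 0], ![0, 1, 1, 0, 0, 0], ![0, 0, 1, 1, 0, 0], ![0, 0, 0, 1, 1, 0], ![0, 0, 0, 0, 1, 1],
    ![0, 0, 0, 0, 0, 2]] j

theorem quad_ok : ∀ j : Fin 6, leechCheck (fun p => 4 * quadVec j (orb p)) = true ∧
    congB (fun p => 4 * quadVec j (orb p))
      (combF fun i => if Nat.testBit (quadL.getD j ([], 0)).2 i then 1 else 0) = true := by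
  decide +kernel

theorem orb_sizes (f : Fin 6 → ℤ) :
    ∑ p, f (orb p) = 7 * f 0 + 7 * f 1 + 7 * f 2 + f 3 + f 4 + f 5 := by
  have hc : ∀ j : Fin 6, (Finset.univ.filter fun p => orb p = j).card = if (j : ℕ) < 3 then 7 else 1 := by
    decide +kernel
  rw [← Finset.sum_fiberwise Finset.univ orb]
  have e : ∀ j, ∑ p ∈ Finset.univ.filter (fun p => orb p = j), f (orb p) =
      ((if (j : ℕ) < 3 then 7 else 1 : ℕ) : ℤ) * f j := fun j => by
    rw [Finset.sum_congr rfl (g := fun _ => f j) (fun p hp => by rw [(Finset.mem_filter.1 hp).2]),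
      Finset.sum_const, hc, nsmul_eq_mul]
  simp only [e, Fin.sum_univ_six]
  norm_num

theorem quad_span (s : Fin 6 → ℤ) (hs : (2 : ℤ) ∣ s 0 + s 1 + s 2 + s 3 + s 4 + s 5) :
    (fun p => 4 * s (orb p)) ∈ combSpan := by
  obtain ⟨k, hk⟩ := hs
  have hq : ∀ j, (fun p => 4 * quadVec j (orb p)) ∈ combSpan := fun j =>
    ⟨leechCheck_mem (quad_ok j).1, _, by rw [comb_val]; exact congB_sound (quad_ok j).2⟩
  let a : Fin 6 → ℤ := ![s 0, s 1 - s 0, s 2 - (s 1 - s 0), s 3 - (s 2 - (s 1 - s 0)),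
    s 4 - (s 3 - (s 2 - (s 1 - s 0))), k - (s 4 + s 2 + s 0)]
  have e : (fun p => 4 * s (orb p)) = ∑ j, a j • (fun p => 4 * quadVec j (orb p) : Zv) := by
    funext p
    simp only [Finset.sum_apply, Pi.smul_apply, smul_eq_mul, Fin.sum_univ_six]
    generalize orb p = o
    fin_cases o <;> simp [a, quadVec] <;> omega
  rw [e]
  exact sum_mem fun j _ => zsmul_mem (hq j) _

theorem fixed_vector {v : Lv} (h : pel • v = v) : (v : Zv) ∈ combSpan := by
  obtain ⟨m, hm, hsum, hdig⟩ := mem_leech.1 v.2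
  set t : Fin 6 → ℤ := fun j => (v : Zv) (orep j) with ht
  have hconst := const_of_fixed h
  let m' : Fin 2 := ⟨(m % 2).toNat, by omega⟩
  let d : Fin 6 → Fin 2 := fun j => ⟨(t j / 2 % 2).toNat, by omega⟩
  have hd : digit (resVec m' d) = digit (v : Zv) := by
    funext p
    simp only [digit, resVec]
    rw [ZMod.intCast_eq_intCast_iff_dvd_sub, hconst p]
    show (2 : ℤ) ∣ t (orb p) / 2 - (((m % 2).toNat : ℤ) + 2 * ((t (orb p) / 2 % 2).toNat : ℤ)) / 2
    omega
  have hcode : inCode (wmask (digit (resVec m' d))) = true := by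
    rw [hd]; exact inCode_of_mem (mem_code.1 hdig)
  obtain ⟨e, he, hres⟩ := List.any_eq_true.1 (resid_complete m' d hcode)
  rw [decide_eq_true_eq] at hres
  have hok := List.all_eq_true.1 resid_ok e he
  simp only [Bool.and_eq_true, decide_eq_true_eq] at hok
  obtain ⟨⟨hmem, hec⟩, hcg⟩ := hok
  have hw : vecOf e.2.1 ∈ combSpan := ⟨leechCheck_mem hmem, _, by rw [comb_val]; exact congB_sound hcg⟩
  set x : Zv := vecOf e.2.1 with hx
  have hdiv : ∀ j, ∃ k : ℤ, t j - x (orep j) = 4 * k := fun j => by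
    refine ⟨(t j - x (orep j)) / 4, ?_⟩
    have h1 : x (orep j) % 4 = ((m % 2).toNat : ℤ) + 2 * ((t j / 2 % 2).toNat : ℤ) := hres j
    have h2 : t j % 2 = m % 2 := hm (orep j)
    omega
  choose s hs using hdiv
  have hsub : (v : Zv) - x = fun p => 4 * s (orb p) := by
    funext p
    rw [Pi.sub_apply, hconst p, hec p]
    exact hs _
  have hmem2 : (v : Zv) - x ∈ leechLattice := sub_mem v.2 hw.1
  obtain ⟨m2, hm2, hsum2, -⟩ := mem_leech.1 hmem2
  rw [hsub] at hm2 hsum2
  rw [orb_sizes (fun j => 4 * s j)] at hsum2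
  have hpar := hm2 none
  have : (v : Zv) = x + fun p => 4 * s (orb p) := by rw [← hsub]; abel
  rw [this]
  refine add_mem hw (quad_span s ?_)
  simp only at hpar hsum2
  omega

theorem fixed_class {v : Lv} (h : Cong2 ((pel • v : Lv) : Zv) (v : Zv)) :
    ∃ c, Cong2 (v : Zv) ((comb c : Lv) : Zv) := by
  have hp : ∀ n : ℕ, Cong2 ((pel ^ n • v : Lv) : Zv) (v : Zv) := by
    intro n
    induction n with
    | zero => rw [pow_zero, one_smul]; exact Cong2.refl' _
    | succ n ih => rw [pow_succ', mul_smul]; exact (cong_smul pel ih).trans h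
  let y : Lv := ∑ i ∈ Finset.range 7, pel ^ i • v
  have hy : pel • y = y := by
    let f : Lv →+ Lv := AddMonoidHom.mk' (fun u => pel • u) (co0_add pel)
    show f y = y
    rw [map_sum]
    show ∑ i ∈ Finset.range 7, pel • pel ^ i • v = y
    simp only [← mul_smul, ← pow_succ']
    have e := Finset.sum_range_succ' (fun i => pel ^ i • v) 7
    rw [Finset.sum_range_succ, pel_pow_seven, pow_zero] at e
    exact (add_right_cancel e).symm
  obtain ⟨-, c, hc⟩ := fixed_vector hy
  refine ⟨c, Cong2.trans (cong_symm ?_) hc⟩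
  have h7 : Cong2 (y : Zv) ((∑ _i ∈ Finset.range 7, v : Lv) : Zv) := by
    rw [AddSubgroup.val_finsetSum, AddSubgroup.val_finsetSum]
    exact cong_sum _ _ fun i _ => hp i
  refine h7.trans ⟨((3 : ℕ) • v : Lv), ((3 : ℕ) • v : Lv).2, ?_⟩
  rw [Finset.sum_const, Finset.card_range, AddSubgroup.coe_nsmul, AddSubgroup.coe_nsmul]
  funext p
  simp only [Pi.sub_apply, Pi.smul_apply, smul_eq_mul, nsmul_eq_mul, Pi.mul_apply, Pi.natCast_apply]
  push_cast
  ring

end Cfsg.Agent.Spor.Co1Seven
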