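/-
The second Conway group acts faithfully on the 23-dimensional quotient by its vector, modulo 13.
-/
import Cfsg.Agent.Lib.Spor.LeechClasses
import Cfsg.Prelude.Def_Spor_Conway

set_option autoImplicit false
set_option maxRecDepth 100000

namespace Cfsg.Agent.Spor

open Cfsg
open scoped Matrix

local notation "Zv" => GolayPt → ℤ

instance factThirteen : Fact (Nat.Prime 13) := ⟨by norm_num⟩

/-- reduction of coordinates -/
def red13 (y : Zv) : GolayPt → ZMod 13 := fun p => (y p : ZMod 13)

/-- the matrix of an automorphism -/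
def mat13 (g : ↥Co0) : Matrix GolayPt GolayPt (ZMod 13) :=
  fun p i => 5 * (((g • e8 i : ↥leechLattice) : Zv) p : ZMod 13)

theorem mat13_mulVec (g : ↥Co0) (v : ↥leechLattice) :
    mat13 g *ᵥ red13 (v : Zv) = red13 ((g • v : ↥leechLattice) : Zv) := by
  funext p
  have h := congrArg (fun z : ℤ => (z : ZMod 13)) (eight_expand g v p)
  simp only [Int.cast_mul, Int.cast_sum] at h
  have e : ∀ a : ZMod 13, a = 5 * ((8 : ZMod 13) * a) := fun a => by
    rw [← mul_assoc, show (5 : ZMod 13) * 8 = 1 by decide, one_mul]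
  show ∑ i, mat13 g p i * red13 (v : Zv) i = red13 _ p
  rw [show red13 ((g • v : ↥leechLattice) : Zv) p = _ from e _]
  simp only [red13, mat13]
  have hh : ((8 : ℤ) : ZMod 13) = 8 := by norm_num
  rw [← hh, h, Finset.mul_sum]
  exact Finset.sum_congr rfl fun i _ => by ring

theorem mat13_one : mat13 1 = 1 := by
  funext p i
  simp only [mat13, one_smul, e8, Pi.single_apply, Matrix.one_apply]
  split_ifs <;> simp <;> decide

theorem mat13_mul (g h : ↥Co0) : mat13 (g * h) = mat13 g * mat13 h := by
  funext p i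
  have := congrFun (mat13_mulVec g (h • e8 i)) p
  rw [← mul_smul] at this
  show 5 * _ = ∑ k, mat13 g p k * mat13 h k i
  calc 5 * _ = 5 * ∑ k, mat13 g p k * red13 ((h • e8 i : ↥leechLattice) : Zv) k := congrArg (5 * ·) this.symm
    _ = _ := by
      rw [Finset.mul_sum]
      exact Finset.sum_congr rfl fun k _ => by simp only [mat13, red13]; ring

/-- the inclusion -/
def co2Incl : ↥Cfsg.Spor.Co2 →* ↥Co0 := Subgroup.inclusion inf_le_left

theorem co2Incl_fix (x : ↥Cfsg.Spor.Co2) : co2Incl x • Cfsg.Spor.leechU = Cfsg.Spor.leechU :=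
  MulAction.mem_stabilizer_iff.1 x.2.2

/-- the line -/
def line13 : Submodule (ZMod 13) (GolayPt → ZMod 13) :=
  Submodule.span (ZMod 13) {red13 (Cfsg.Spor.leechU : Zv)}

theorem line13_map (x : ↥Cfsg.Spor.Co2) :
    line13 ≤ line13.comap (Matrix.mulVecLin (mat13 (co2Incl x))) := by
  intro y hy
  obtain ⟨c, rfl⟩ := Submodule.mem_span_singleton.1 hy
  rw [Submodule.mem_comap, Matrix.mulVecLin_apply, Matrix.mulVec_smul, mat13_mulVec, co2Incl_fix]
  exact Submodule.mem_span_singleton.2 ⟨c, rfl⟩

set_option maxHeartbeats 1000000 in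
/-- the action on the quotient -/
noncomputable def rep13 : ↥Cfsg.Spor.Co2 →* Module.End (ZMod 13) ((GolayPt → ZMod 13) ⧸ line13) where
  toFun x := line13.mapQ line13 (Matrix.mulVecLin (mat13 (co2Incl x))) (line13_map x)
  map_one' := by
    refine Submodule.linearMap_qext _ (LinearMap.ext fun v => ?_)
    simp [mat13_one]
  map_mul' x y := by
    refine Submodule.linearMap_qext _ (LinearMap.ext fun v => ?_)
    simp [mat13_mul, Matrix.mulVec_mulVec]

theorem rep13_mk (x : ↥Cfsg.Spor.Co2) (w : GolayPt → ZMod 13) :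
    rep13 x (Submodule.Quotient.mk w) = Submodule.Quotient.mk (mat13 (co2Incl x) *ᵥ w) := rfl

theorem red13_inj {g : ↥Co0} (h : ∀ v : ↥leechLattice, sqNorm (v : Zv) = 32 →
    red13 ((g • v : ↥leechLattice) : Zv) = red13 (v : Zv)) : g = 1 := by
  have fix : ∀ v : ↥leechLattice, sqNorm (v : Zv) = 32 → g • v = v := by
    intro v hv
    refine Subtype.ext (sub_eq_zero.1 ?_)
    set d := ((g • v : ↥leechLattice) : Zv) - (v : Zv) with hd
    have hdvd : ∀ p, (13 : ℤ) ∣ d p := fun p => by
      have := congrFun (h v hv) p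
      rw [red13, red13, ← sub_eq_zero, ← Int.cast_sub, ZMod.intCast_zmod_eq_zero_iff_dvd] at this
      exact this
    have hn : sqNorm d ≤ 128 := by
      have h1 : sqNorm d + sqNorm (((g • v : ↥leechLattice) : Zv) + (v : Zv)) =
          2 * sqNorm ((g • v : ↥leechLattice) : Zv) + 2 * sqNorm (v : Zv) := by
        rw [hd, sqNorm_sub, sqNorm_add]; ring
      have h2 : 0 ≤ sqNorm (((g • v : ↥leechLattice) : Zv) + (v : Zv)) := Finset.sum_nonneg fun _ _ => sq_nonneg _
      have h3 : sqNorm ((g • v : ↥leechLattice) : Zv) = 32 := (g.2.2 v).trans hv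
      rw [h3, hv] at h1
      omega
    funext p
    obtain ⟨c, hc⟩ := hdvd p
    have hp : d p ^ 2 ≤ sqNorm d :=
      Finset.single_le_sum (f := fun i => d i ^ 2) (fun _ _ => sq_nonneg _) (Finset.mem_univ p)
    show d p = 0
    rw [hc] at hp ⊢
    have : c = 0 := by
      by_contra h
      have := sq_pos_of_ne_zero h
      nlinarith
    rw [this, mul_zero]
  refine co0_ext fun v => ?_
  rw [one_smul]
  have e8fix : ∀ i, g • e8 i = e8 i := by
    intro i
    have hex : ∀ i : GolayPt, ∃ j : GolayPt, i ≠ j := by decide +kernel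
    obtain ⟨j, hj⟩ := hex i
    obtain ⟨a1, a2⟩ := pairVec_spec hj (Or.inl (rfl : (1 : ℤ) = 1))
    obtain ⟨b1, b2⟩ := pairVec_spec hj (Or.inr (rfl : (-1 : ℤ) = -1))
    have e : e8 i = (⟨_, a1⟩ : ↥leechLattice) + ⟨_, b1⟩ := Subtype.ext (funext fun k => by
      by_cases hk : k = i
      · subst hk; simp [e8, pairVec]
      · by_cases hk' : k = j <;> simp [e8, pairVec, hk, hk', Ne.symm hj])
    rw [e, co0_add, fix _ a2, fix _ b2]
  funext k
  have := eight_expand g v k
  simp only [e8fix] at this
  rw [show ∑ i, (v : Zv) i * ((e8 i : ↥leechLattice) : Zv) k = 8 * (v : Zv) k by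
    simp [e8, Pi.single_apply, mul_comm]] at this
  omega

theorem rep13_injective : Function.Injective rep13 := by
  refine (injective_iff_map_eq_one rep13).2 fun x hx => ?_
  suffices hh : co2Incl x = 1 from
    Subgroup.inclusion_injective inf_le_left (hh.trans (map_one co2Incl).symm)
  refine red13_inj fun v hv => ?_
  have h := LinearMap.congr_fun hx (Submodule.Quotient.mk (red13 (v : Zv)))
  rw [rep13_mk, mat13_mulVec, Module.End.one_apply, Submodule.Quotient.eq] at h
  obtain ⟨c, hc⟩ := Submodule.mem_span_singleton.1 h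
  set u := (Cfsg.Spor.leechU : Zv)
  have hlin : ∀ a b : Zv, ((dotInt a b : ℤ) : ZMod 13) = ∑ p, red13 a p * red13 b p := fun a b => by
    simp [dotInt, red13]
  have hdot := co0_dot (co2Incl x) Cfsg.Spor.leechU v
  rw [co2Incl_fix] at hdot
  have h1 := congrArg (fun z : ℤ => (z : ZMod 13)) hdot
  simp only [hlin] at h1
  have h2 : ∑ p, red13 u p * (c * red13 u p) = 0 := by
    rw [Finset.sum_congr rfl fun p _ => show red13 u p * (c * red13 u p) =
      red13 u p * red13 ((co2Incl x • v : ↥leechLattice) : Zv) p - red13 u p * red13 (v : Zv) p by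
        rw [← mul_sub]; exact congrArg _ (congrFun hc p),
      Finset.sum_sub_distrib, h1, sub_self]
  have h32 : ((dotInt u u : ℤ) : ZMod 13) ≠ 0 := by decide +kernel
  rw [hlin] at h32
  have h3 : c * ∑ p, red13 u p * red13 u p = 0 := by
    rw [Finset.mul_sum, ← h2]; exact Finset.sum_congr rfl fun p _ => by ring
  have hc0 : c = 0 := (mul_eq_zero.1 h3).resolve_right h32
  rw [hc0, zero_smul] at hc
  exact sub_eq_zero.1 hc.symm

theorem co2_embeds : ∃ f : ↥Cfsg.Spor.Co2 →* GL (Fin 23) (ZMod 13), Function.Injective f := by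
  have hne : red13 (Cfsg.Spor.leechU : Zv) ≠ 0 := fun h => by
    have := congrFun h none
    revert this
    decide +kernel
  have hd : Module.finrank (ZMod 13) ((GolayPt → ZMod 13) ⧸ line13) = 23 := by
    have := line13.finrank_quotient_add_finrank
    rw [show Module.finrank (ZMod 13) line13 = 1 from finrank_span_singleton hne, Module.finrank_fintype_fun_eq_card,
      show Fintype.card GolayPt = 24 from rfl] at this
    omega
  let b := Module.finBasisOfFinrankEq (ZMod 13) _ hd
  let E : Module.End (ZMod 13) ((GolayPt → ZMod 13) ⧸ line13) →* Matrix (Fin 23) (Fin 23) (ZMod 13) :=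
    (LinearMap.toMatrixAlgEquiv b).toMulEquiv.toMonoidHom
  refine ⟨(E.comp rep13).toHomUnits, fun x y h => rep13_injective ?_⟩
  have := congrArg Units.val h
  exact (LinearMap.toMatrixAlgEquiv b).injective this

end Cfsg.Agent.Spor
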