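import Cfsg.Agent.Lib.Spor.SuzEOneCert

/-!
Two words tracing back to the start in the coset table of the trivial subgroup.
-/

set_option autoImplicit false
set_option maxRecDepth 100000

namespace Cfsg.Agent.Spor.SuzECert.One

open Cfsg.Agent.Spor.CC

/-- word -/
def wU15 : ℕ := 0x3232132321323213232132321323213232132321323213232132321323213232132321323214b

/-- path -/
def pU15 : ℕ := 0x1c000320003b0003b8003540976c04c01000d5800a64007aa0056f003ba8131dc0129404459004a402299c022b400923005cb80375c01ef60104f0085680433c1100409148048ae81d45c0a278010da008650042981208607c2f046bf804e58020740103d047858072f001fe80885c009760232d409f0400b68004790121640122e04865043b9813f38109da019aa022dc01f3c8026d0046730262f82106002460010b5008698230700f35207bdf045fb022ef81118e01e60045c88224940e69201dea0086a01e3f00f0a60779300d580224881187401cba007f7012bcc01d3400c8e023168242ac09f6407dcd027cc01f14409bb400a8a0237a001830095940045e001810007e8092d4000b6000310000b80002000002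

theorem walkU15 : Nat.beq (walk dat.facts wU15 18823 false 107 pU15 0 0) 76 = true := by decide +kernel

theorem decU15 : wDecode wU15 = [1, 2, 3, 2, 3, 1, 2, 3, 2, 3, 1, 2, 3, 2, 3, 1, 2, 3, 2, 3, 1, 2, 3, 2, 3, 1, 2, 3, 2, 3, 1, 2, 3, 2, 3, 1, 2, 3, 2, 3, 1, 2, 3, 2, 3, 1, 2, 3, 2, 3, 1, 2, 3, 2, 3, 1, 2, 3, 2, 3, 1, 2, 3, 2, 3, 1, 2, 3, 2, 3, 1, 2, 3, 2, 3] := by decide +kernel

/-- word -/
def wUComm : ℕ := 0x1123231232312323123231232310323213232132321323213232136

/-- path -/
def pUComm : ℕ := 0x800024000100000b00011800134096ce000d5025d50008ec006ba04c05002b5811cfc0137604d4900426023e4802cf4047e20041f802a8c0995800d3504413020f18036ac0101d0084d822e6003bb408ba000efa02192411a7001e30045c88224940e69201dea0086a01e3f00f0a60779300d580224881187401cba007f7012bcc01d3400c8e023168242ac09f6407dcd027cc01f14409bb400a8a0237a001830095940045e001810007e8092d4000b6000310000b80002000002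

theorem walkUComm : Nat.beq (walk dat.facts wUComm 18823 false 72 pUComm 0 0) 55 = true := by decide +kernel

theorem decUComm : wDecode wUComm = [1, 2, 3, 2, 3, 1, 2, 3, 2, 3, 1, 2, 3, 2, 3, 1, 2, 3, 2, 3, 1, 2, 3, 2, 3, 0, 1, 3, 2, 3, 2, 1, 3, 2, 3, 2, 1, 3, 2, 3, 2, 1, 3, 2, 3, 2, 1, 3, 2, 3, 2, 1, 1, 0] := by decide +kernel

end Cfsg.Agent.Spor.SuzECert.One
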