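import Cfsg.Agent.Lib.Spor.SuzJOneCert

/-!
Two words tracing back to the start in the coset table of the trivial subgroup.
-/

set_option autoImplicit false
set_option maxRecDepth 100000

namespace Cfsg.Agent.Spor.SuzJCert.One

open Cfsg.Agent.Spor.CC

/-- word -/
def wAB : ℕ := 0x1002

/-- path -/
def pAB : ℕ := 0xa7180506602a068000580a7ec0491b029da014fc40a86e0000a

theorem walkAB : Nat.beq (walk dat.facts wAB 10795 false 10 pAB 0 0) 3 = true := by decide +kernel

theorem decAB : wDecode wAB = [0, 1] := by decide +kernel

end Cfsg.Agent.Spor.SuzJCert.One
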