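import Cfsg.Agent.Lib.Spor.CoTypeMain
import Cfsg.Agent.Lib.Lie.HallJankoPairs
import Cfsg.Agent.Lib.Solv.Component

/-!
Groups of Conway type: from the printed hypothesis to the internal one.
-/

set_option autoImplicit false
set_option linter.unusedSectionVars false

namespace Cfsg.Agent.Spor.CoT

open Cfsg.Agent.Classical

universe u

theorem card_omega : Nat.card ↥(Cfsg.Omega (ZMod 2) (Cfsg.quadFormPlus 4 (ZMod 2))) = 174182400 := by
  show Nat.card ↥(Cfsg.Omega (ZMod 2) qm) = 174182400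
  rw [← coe_QF]
  have e : (commutator OG).map (ORefl.toMat QF).toMonoidHom = commutator ↥(Cfsg.isometryGroup (ZMod 2) ⇑QF) := by
    rw [commutator_def, Subgroup.map_commutator, Subgroup.map_top_of_surjective _ (ORefl.toMat QF).surjective,
      ← commutator_def]
  show Nat.card ↥(commutator ↥(Cfsg.isometryGroup (ZMod 2) ⇑QF)) = 174182400
  rw [← e, Subgroup.card_map_of_injective (ORefl.toMat QF).injective]
  have hidx := OOmega.index_two QF_pnd (by rw [Module.finrank_fintype_fun_eq_card]; simp)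
    (Or.inr (by rw [Module.finrank_fintype_fun_eq_card]; simp))
  have hc := Subgroup.card_mul_index (commutator OG)
  rw [hidx, card_OG] at hc
  have hc2 : Nat.card (commutator OG) = 174182400 := by omega
  exact hc2

theorem hyp_of_statement {G : Type u} [Group G] [Finite G] (z : G) (hz : orderOf z = 2)
    (Q : Subgroup (Subgroup.centralizer ({z} : Set G))) [Q.Normal]
    (hF : Cfsg.generalizedFittingSubgroup (Subgroup.centralizer ({z} : Set G)) = Q)
    (hQ : Cfsg.IsExtraspecial 2 Q) (hcard : Nat.card Q = 2 ^ 9)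
    (e : (Subgroup.centralizer ({z} : Set G)) ⧸ Q ≃* Cfsg.Omega (ZMod 2) (Cfsg.quadFormPlus 4 (ZMod 2)))
    (hnwc : ∃ g : G, (∃ hq : g * z * g⁻¹ ∈ Subgroup.centralizer ({z} : Set G),
      (⟨g * z * g⁻¹, hq⟩ : Subgroup.centralizer ({z} : Set G)) ∈ Q) ∧ g * z * g⁻¹ ≠ z) :
    Hyp z (Q.map (Subgroup.centralizer ({z} : Set G)).subtype) := by
  have hinj := (Subgroup.centralizer ({z} : Set G)).subtype_injective
  have hcentQ : Subgroup.centralizer (Q : Set (Subgroup.centralizer ({z} : Set G))) ≤ Q :=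
    hF ▸ Solv.centralizer_gfit_le
  have hzC : z ∈ Subgroup.centralizer ({z} : Set G) := Subgroup.mem_centralizer_singleton_iff.2 rfl
  have hzQ : (⟨z, hzC⟩ : Subgroup.centralizer ({z} : Set G)) ∈ Q :=
    hcentQ (Subgroup.mem_centralizer_iff.2 fun q _ => Subtype.ext (Subgroup.mem_centralizer_singleton_iff.1 q.2))
  refine ⟨hz, Subgroup.map_subtype_le Q, ?_,
    Cfsg.Agent.Lie.HallJankoPairs.extraspecial_congr (Subgroup.equivMapOfInjective _ _ hinj) hQ, ?_, ?_, ?_, ?_⟩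
  · rintro c hc _ ⟨q, hq, rfl⟩
    exact ⟨_, ‹Q.Normal›.conj_mem q hq ⟨c, mem_C.2 hc⟩, rfl⟩
  · rw [Subgroup.card_map_of_injective hinj, hcard]; norm_num
  · intro a ha
    have haC : a ∈ Subgroup.centralizer ({z} : Set G) :=
      mem_C.2 (Subgroup.mem_centralizer_iff.1 ha z ⟨⟨z, hzC⟩, hzQ, rfl⟩).symm
    exact ⟨⟨a, haC⟩, hcentQ (Subgroup.mem_centralizer_iff.2 fun q hq => Subtype.ext
      (Subgroup.mem_centralizer_iff.1 ha q ⟨q, hq, rfl⟩)), rfl⟩
  · rw [Subgroup.card_eq_card_quotient_mul_card_subgroup Q, Nat.card_congr e.toEquiv, card_omega, hcard]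
    norm_num
  · obtain ⟨g, ⟨hq, hgQ⟩, hne⟩ := hnwc
    exact ⟨g * z * g⁻¹, ⟨⟨_, hq⟩, hgQ, rfl⟩, hne, isConj_iff.2 ⟨g, rfl⟩⟩

theorem main {G : Type u} [Group G] [Finite G] (z : G) (hz : orderOf z = 2)
    (Q : Subgroup (Subgroup.centralizer ({z} : Set G))) [Q.Normal]
    (hF : Cfsg.generalizedFittingSubgroup (Subgroup.centralizer ({z} : Set G)) = Q)
    (hQ : Cfsg.IsExtraspecial 2 Q) (hcard : Nat.card Q = 2 ^ 9)
    (e : (Subgroup.centralizer ({z} : Set G)) ⧸ Q ≃* Cfsg.Omega (ZMod 2) (Cfsg.quadFormPlus 4 (ZMod 2)))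
    (hnwc : ∃ g : G, (∃ hq : g * z * g⁻¹ ∈ Subgroup.centralizer ({z} : Set G),
      (⟨g * z * g⁻¹, hq⟩ : Subgroup.centralizer ({z} : Set G)) ∈ Q) ∧ g * z * g⁻¹ ≠ z) :
    ∃ a b c : G, orderOf a = 2 ∧ orderOf b = 2 ∧ orderOf c = 2 ∧ ¬ IsConj a b ∧ ¬ IsConj a c ∧ ¬ IsConj b c ∧
      ∀ x : G, orderOf x = 2 → IsConj x a ∨ IsConj x b ∨ IsConj x c := by
  have h := hyp_of_statement z hz Q hF hQ hcard e hnwc
  obtain ⟨F⟩ := exists_frame h
  obtain ⟨x, B⟩ := exists_base F h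
  exact three_classes F h B

end Cfsg.Agent.Spor.CoT
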