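import Mathlib

/-!
Checker for coset enumeration certificates of groups generated by involutions.
A certificate is a numbered sequence of coset equalities, each obtained by tracing a relator
or subgroup word through earlier ones.
-/

set_option autoImplicit false

namespace Cfsg.Agent.Spor.CC

/-! ### packed data -/

/-- the `i`-th field of width `w` -/
def fld (v w i : ℕ) : ℕ := Nat.land (Nat.shiftRight v (Nat.mul w i)) (Nat.sub (Nat.pow 2 w) 1)

/-- source of a packed equality -/
def fU (f : ℕ) : ℕ := Nat.land f 262143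
/-- target of a packed equality -/
def fV (f : ℕ) : ℕ := Nat.land (Nat.shiftRight f 18) 262143
/-- letter of a packed equality (15 for none) -/
def fX (f : ℕ) : ℕ := Nat.shiftRight f 36

/-- length of a packed word -/
def wLen (w : ℕ) : ℕ := Nat.land w 255
/-- letter of a packed word -/
def wLet (w i : ℕ) : ℕ := Nat.land (Nat.shiftRight w (Nat.add 8 (Nat.mul 4 i))) 15

/-- the letters of a packed word -/
def wDecode (w : ℕ) : List ℕ := (List.range (wLen w)).map (wLet w)

/-- the position read after `i` letters -/
def pos (rv : Bool) (w i : ℕ) : ℕ := bif rv then Nat.sub (Nat.sub (wLen w) 1) i else i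

/-- one move along a recorded equality -/
def mvFrom (d f : ℕ) : ℕ := bif Nat.beq d 0 then fU f else fV f
/-- end of a move along a recorded equality -/
def mvTo (d f : ℕ) : ℕ := bif Nat.beq d 0 then fV f else fU f

/-- follow a list of recorded equalities, reading a word; 0 means failure -/
noncomputable def walk (F : ℕ → ℕ) (w lim : ℕ) (rv : Bool) (fuel : ℕ) : ℕ → ℕ → ℕ → ℕ :=
  Nat.rec (motive := fun _ => ℕ → ℕ → ℕ → ℕ) (fun _ cur i => Nat.add (Nat.add (Nat.mul cur 256) i) 1)
    (fun _ ih ids cur i =>
      bif Nat.ble lim (Nat.land (Nat.shiftRight ids 1) 1048575) then 0 else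
      bif Nat.beq (mvFrom (Nat.land ids 1) (F (Nat.land (Nat.shiftRight ids 1) 1048575))) cur then
        bif Nat.beq (fX (F (Nat.land (Nat.shiftRight ids 1) 1048575))) 15 then
          ih (Nat.shiftRight ids 21) (mvTo (Nat.land ids 1) (F (Nat.land (Nat.shiftRight ids 1) 1048575))) i
        else bif Nat.blt i (wLen w) &&
            Nat.beq (fX (F (Nat.land (Nat.shiftRight ids 1) 1048575))) (wLet w (pos rv w i)) then
          ih (Nat.shiftRight ids 21) (mvTo (Nat.land ids 1) (F (Nat.land (Nat.shiftRight ids 1) 1048575)))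
            (Nat.add i 1)
        else 0
      else 0) fuel

/-- the node reached -/
def rNode (r : ℕ) : ℕ := Nat.div (Nat.sub r 1) 256
/-- the number of letters read -/
def rPos (r : ℕ) : ℕ := Nat.mod (Nat.sub r 1) 256

/-- does the gap between two walks give the equality `f`? -/
def gapOK (f w r1 r2 : ℕ) : Bool :=
  Nat.blt 0 r1 && Nat.blt 0 r2 && Nat.beq (fU f) (rNode r1) && Nat.beq (fV f) (rNode r2) &&
    (bif Nat.beq (fX f) 15 then Nat.beq (Nat.add (rPos r1) (rPos r2)) (wLen w)
     else Nat.beq (Nat.add (Nat.add (rPos r1) (rPos r2)) 1) (wLen w) &&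
       Nat.beq (fX f) (wLet w (rPos r1)))

/-- data shared by the steps -/
structure Data where
  /-- number of generators -/
  ng : ℕ
  /-- number of nodes -/
  na : ℕ
  /-- number of cosets kept -/
  nn : ℕ
  /-- the recorded equalities -/
  facts : ℕ → ℕ
  /-- packed words -/
  words : ℕ
  /-- number of relator words -/
  nr : ℕ
  /-- number of words -/
  nw : ℕ

/-- the word used in a step -/
def stWord (D : Data) (s : ℕ) : ℕ := fld D.words 512 (Nat.land (Nat.shiftRight s 18) 16383)

/-- check that equality number `id` follows from earlier ones -/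
noncomputable def stepOK (D : Data) (id s : ℕ) : Bool :=
  Nat.blt (Nat.land (Nat.shiftRight s 18) 16383) D.nw &&
  (Nat.blt (Nat.land (Nat.shiftRight s 18) 16383) D.nr || Nat.beq (Nat.land s 262143) 0) &&
  gapOK (D.facts id) (stWord D s)
    (walk D.facts (stWord D s) id false (Nat.land (Nat.shiftRight s 32) 1023)
      (Nat.shiftRight s 52) (Nat.land s 262143) 0)
    (walk D.facts (stWord D s) id true (Nat.land (Nat.shiftRight s 42) 1023)
      (Nat.shiftRight s (Nat.add 52 (Nat.mul 21 (Nat.land (Nat.shiftRight s 32) 1023))))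
      (Nat.land s 262143) 0)

/-- check consecutive steps -/
noncomputable def stepsOK (D : Data) (l : List ℕ) : ℕ → Bool :=
  List.rec (motive := fun _ => ℕ → Bool) (fun _ => true)
    (fun s _ ih id => stepOK D id s && ih (Nat.add id 1)) l

/-- check one defining equality -/
def defOK (D : Data) (k : ℕ) : Bool :=
  Nat.ble (fU (D.facts k)) k && Nat.beq (fV (D.facts k)) (Nat.add k 1) &&
    Nat.blt (fX (D.facts k)) D.ng

/-- check one table entry -/
noncomputable def edgeOK (D : Data) (m k s : ℕ) : Bool :=
  (fun r => Nat.blt 0 r && Nat.beq (rPos r) 1 && Nat.blt (rNode r) D.nn)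
    (walk D.facts (Nat.add 1 (Nat.mul 256 (Nat.mod k D.ng))) m false (Nat.land s 1023)
      (Nat.shiftRight s 10) (Nat.div k D.ng) 0)

/-- check consecutive table entries -/
noncomputable def edgesOK (D : Data) (m : ℕ) (l : List ℕ) : ℕ → Bool :=
  List.rec (motive := fun _ => ℕ → Bool) (fun _ => true)
    (fun s _ ih k => edgeOK D m k s && ih (Nat.add k 1)) l

/-! ### meaning -/

variable {G : Type*} [Group G]

/-- the same right coset -/
def Rel (H : Subgroup G) (p q : G) : Prop := p * q⁻¹ ∈ H

theorem Rel.refl {H : Subgroup G} (p : G) : Rel H p p := by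
  rw [Rel, mul_inv_cancel]; exact one_mem H

theorem Rel.symm {H : Subgroup G} {p q : G} (h : Rel H p q) : Rel H q p := by
  have := inv_mem h
  rw [mul_inv_rev, inv_inv] at this
  exact this

theorem Rel.trans {H : Subgroup G} {p q r : G} (h : Rel H p q) (h' : Rel H q r) : Rel H p r := by
  have := mul_mem h h'
  rw [mul_assoc, inv_mul_cancel_left] at this
  exact this

theorem Rel.mul {H : Subgroup G} {p q : G} (h : Rel H p q) (z : G) : Rel H (p * z) (q * z) := by
  have : p * z * (q * z)⁻¹ = p * q⁻¹ := by group
  rw [Rel, this]; exact h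

/-- product of the first letters -/
def pre (g : ℕ → G) (w : ℕ) : ℕ → G
  | 0 => 1
  | i + 1 => pre g w i * g (wLet w i)

/-- product of the last letters, read backwards -/
def suf (g : ℕ → G) (w : ℕ) : ℕ → G
  | 0 => 1
  | i + 1 => suf g w i * g (wLet w (wLen w - 1 - i))

/-- product along a reading direction -/
def rd (g : ℕ → G) (w : ℕ) : Bool → ℕ → G
  | false => pre g w
  | true => suf g w

theorem pre_eq_prod (g : ℕ → G) (w : ℕ) : ∀ i, pre g w i = (((List.range i).map (wLet w)).map g).prod
  | 0 => rfl
  | i + 1 => by simp [pre, pre_eq_prod g w i, List.range_succ]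

theorem pre_len (g : ℕ → G) (w : ℕ) : pre g w (wLen w) = ((wDecode w).map g).prod :=
  pre_eq_prod g w _

theorem pre_mul_suf (g : ℕ → G) (hg : ∀ x, g x * g x = 1) (w : ℕ) :
    ∀ j i, i + j = wLen w → pre g w i * (suf g w j)⁻¹ = pre g w (wLen w)
  | 0, i, h => by simp [suf, show i = wLen w by omega]
  | j + 1, i, h => by
    rw [← pre_mul_suf g hg w j (i + 1) (by omega)]
    have e : wLen w - 1 - j = i := by omega
    simp only [suf, pre, e, mul_inv_rev, inv_eq_of_mul_eq_one_left (hg (wLet w i)), mul_assoc]

/-- equality number `k` holds -/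
def Holds (D : Data) (g : ℕ → G) (H : Subgroup G) (v : ℕ → G) (k : ℕ) : Prop :=
  Rel H (v (fU (D.facts k)) * g (fX (D.facts k))) (v (fV (D.facts k)))

theorem walk_sound {D : Data} {g : ℕ → G} {H : Subgroup G} {v : ℕ → G}
    (hg : ∀ x, g x * g x = 1) (h15 : g 15 = 1) {w lim : ℕ} (hl : ∀ k, k < lim → Holds D g H v k)
    (rv : Bool) (a : ℕ) (hL : wLen w < 256) :
    ∀ fuel ids cur i r, walk D.facts w lim rv fuel ids cur i = r → r ≠ 0 → i ≤ wLen w →
      Rel H (v a * rd g w rv i) (v cur) →
      Rel H (v a * rd g w rv (rPos r)) (v (rNode r)) := by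
  intro fuel
  induction fuel with
  | zero =>
    intro ids cur i r hr _ hi h
    simp only [walk, Nat.rec, Nat.add_eq, Nat.mul_eq] at hr
    have hr' : cur * 256 + i + 1 = r := hr
    subst hr'
    clear hr
    have e1 : rNode (cur * 256 + i + 1) = cur := by
      show (cur * 256 + i + 1 - 1) / 256 = cur; omega
    have e2 : rPos (cur * 256 + i + 1) = i := by
      show (cur * 256 + i + 1 - 1) % 256 = i; omega
    rw [e1, e2]; exact h
  | succ fuel ih =>
    intro ids cur i r hr hr0 hi h
    simp only [walk] at hr
    generalize hid : Nat.land (Nat.shiftRight ids 1) 1048575 = id at hr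
    generalize hd : Nat.land ids 1 = d at hr
    cases hlim : Nat.ble lim id with
    | true => simp [hlim] at hr; exact absurd hr.symm hr0
    | false =>
      simp only [hlim, cond_false] at hr
      have hid' : id < lim := by
        by_contra hc
        rw [Nat.ble_eq_true_of_le (by omega : lim ≤ id)] at hlim
        cases hlim
      have hf := hl id hid'
      unfold Holds at hf
      generalize D.facts id = f at hr hf
      cases hc : Nat.beq (mvFrom d f) cur with
      | false => simp [hc] at hr; exact absurd hr.symm hr0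
      | true =>
        simp only [hc, cond_true] at hr
        have hcur : mvFrom d f = cur := Nat.eq_of_beq_eq_true hc
        have hstep : Rel H (v cur * g (fX f)) (v (mvTo d f)) := by
          subst hcur
          unfold mvFrom mvTo
          cases hd0 : Nat.beq d 0 with
          | true => exact hf
          | false =>
            simp only [cond_false]
            have := (hf.symm).mul (g (fX f))
            rwa [mul_assoc, hg, mul_one] at this
        cases hx : Nat.beq (fX f) 15 with
        | true =>
          simp only [hx, cond_true] at hr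
          refine ih _ _ _ r hr hr0 hi ?_
          rw [Nat.eq_of_beq_eq_true hx, h15, mul_one] at hstep
          exact h.trans hstep
        | false =>
          simp only [hx, cond_false] at hr
          cases hb : (Nat.blt i (wLen w) && Nat.beq (fX f) (wLet w (pos rv w i))) with
          | false => simp [hb] at hr; exact absurd hr.symm hr0
          | true =>
            simp only [hb, cond_true] at hr
            obtain ⟨hb1, hb2⟩ := Bool.and_eq_true_iff.mp hb
            have hi' : i < wLen w := Nat.le_of_ble_eq_true hb1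
            have hxe : fX f = wLet w (pos rv w i) := Nat.eq_of_beq_eq_true hb2
            refine ih _ _ _ r hr hr0 hi' ?_
            have := (h.mul (g (fX f))).trans hstep
            rw [hxe] at this
            cases rv <;> simpa [rd, pre, suf, pos, mul_assoc] using this

theorem stepsOK_spec {D : Data} : ∀ (l : List ℕ) (st : ℕ), stepsOK D l st = true →
    ∀ id, st ≤ id → id < st + l.length → ∃ s, stepOK D id s = true
  | [], st, _, id, h1, h2 => by simp at h2; omega
  | s :: l, st, h, id, h1, h2 => by
    have h' : stepOK D st s = true ∧ stepsOK D l (st + 1) = true := Bool.and_eq_true_iff.mp h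
    rcases Nat.eq_or_lt_of_le h1 with rfl | hlt
    · exact ⟨s, h'.1⟩
    · exact stepsOK_spec l (st + 1) h'.2 id hlt (by simp at h2; omega)

theorem edgesOK_spec {D : Data} {m : ℕ} : ∀ (l : List ℕ) (st : ℕ), edgesOK D m l st = true →
    ∀ k, st ≤ k → k < st + l.length → ∃ s, edgeOK D m k s = true
  | [], st, _, k, h1, h2 => by simp at h2; omega
  | s :: l, st, h, k, h1, h2 => by
    have h' : edgeOK D m st s = true ∧ edgesOK D m l (st + 1) = true := Bool.and_eq_true_iff.mp h
    rcases Nat.eq_or_lt_of_le h1 with rfl | hlt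
    · exact ⟨s, h'.1⟩
    · exact edgesOK_spec l (st + 1) h'.2 k hlt (by simp at h2; omega)

/-- everything a certificate has to pass -/
structure Checked (D : Data) (m : ℕ) : Prop where
  defs : ∀ k, k < D.na - 1 → defOK D k = true
  steps : ∀ id, D.na - 1 ≤ id → id < m → ∃ s, stepOK D id s = true
  edges : ∀ k, k < D.nn * D.ng → ∃ s, edgeOK D m k s = true
  pos : 0 < D.nn
  ng_le : D.ng ≤ 15

theorem exists_val (D : Data) (g : ℕ → G) (hd : ∀ k, k < D.na - 1 → defOK D k = true) :
    ∀ N, N ≤ D.na - 1 → ∃ v : ℕ → G, v 0 = 1 ∧ ∀ k, k < N →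
      v (k + 1) = v (fU (D.facts k)) * g (fX (D.facts k))
  | 0, _ => ⟨fun _ => 1, rfl, fun k hk => absurd hk (Nat.not_lt_zero k)⟩
  | N + 1, hN => by
    obtain ⟨v, h0, hv⟩ := exists_val D g hd N (by omega)
    classical
    refine ⟨Function.update v (N + 1) (v (fU (D.facts N)) * g (fX (D.facts N))), ?_, ?_⟩
    · rw [Function.update_of_ne (by omega)]; exact h0
    · intro k hk
      have hle : ∀ k, k < D.na - 1 → fU (D.facts k) ≤ k := by
        intro k hk
        have := hd k hk
        simp only [defOK, Bool.and_eq_true] at this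
        exact Nat.le_of_ble_eq_true this.1.1
      rw [Function.update_of_ne (a := fU (D.facts k)) (by have := hle k (by omega); omega)]
      rcases Nat.eq_or_lt_of_le (Nat.le_of_lt_succ hk) with rfl | hlt
      · rw [Function.update_self]
      · rw [Function.update_of_ne (by omega)]; exact hv k hlt

/-- the cosets listed by a certificate are all of them -/
theorem cover {D : Data} {m : ℕ} (hc : Checked D m) (g : ℕ → G) (H : Subgroup G)
    (hg : ∀ x, g x * g x = 1) (h15 : g 15 = 1)
    (hrel : ∀ k, k < D.nw → wLen (fld D.words 512 k) < 256 ∧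
      (k < D.nr → ((wDecode (fld D.words 512 k)).map g).prod = 1) ∧
      ((wDecode (fld D.words 512 k)).map g).prod ∈ H) :
    ∃ v : ℕ → G, v 0 = 1 ∧ ∀ p ∈ Subgroup.closure (g '' {x | x < D.ng}),
      ∃ u, u < D.nn ∧ Rel H p (v u) := by
  obtain ⟨v, h0, hv⟩ := exists_val D g hc.defs _ le_rfl
  refine ⟨v, h0, ?_⟩
  have hall : ∀ k, k < m → Holds D g H v k := by
    intro k
    induction k using Nat.strong_induction_on with
    | _ k ih =>
      intro hk
      by_cases hkd : k < D.na - 1
      · have hd := hc.defs k hkd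
        simp only [defOK, Bool.and_eq_true] at hd
        unfold Holds
        rw [Nat.eq_of_beq_eq_true hd.1.2]
        show Rel H _ (v (k + 1))
        rw [hv k hkd]
        exact Rel.refl _
      · obtain ⟨s, hs⟩ := hc.steps k (by omega) hk
        simp only [stepOK, stWord] at hs
        generalize hW : Nat.land (Nat.shiftRight s 18) 16383 = wi at hs
        generalize ha : Nat.land s 262143 = a at hs
        simp only [Bool.and_eq_true, Bool.or_eq_true] at hs
        obtain ⟨⟨hw, hor⟩, hgap⟩ := hs
        obtain ⟨hL, hone, hmem⟩ := hrel wi (Nat.le_of_ble_eq_true hw)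
        generalize fld D.words 512 wi = w at hgap hL hone hmem
        simp only [gapOK, Bool.and_eq_true] at hgap
        obtain ⟨⟨⟨⟨h1, h2⟩, hu⟩, hv'⟩, hgap⟩ := hgap
        have hl : ∀ j, j < k → Holds D g H v j := fun j hj => ih j hj (by omega)
        have hne : ∀ r : ℕ, Nat.blt 0 r = true → r ≠ 0 := by
          intro r hr
          have := Nat.le_of_ble_eq_true hr
          omega
        have R1 := walk_sound hg h15 hl false a hL _ _ a 0 _ rfl (hne _ h1) (Nat.zero_le _)
          (by simpa [rd, pre] using Rel.refl (H := H) (v a))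
        have R2 := walk_sound hg h15 hl true a hL _ _ a 0 _ rfl (hne _ h2) (Nat.zero_le _)
          (by simpa [rd, suf] using Rel.refl (H := H) (v a))
        generalize walk D.facts w k false _ _ a 0 = r1 at R1 hu hgap
        generalize walk D.facts w k true _ _ a 0 = r2 at R2 hv' hgap
        simp only [rd] at R1 R2
        have hloop : Rel H (v a * pre g w (wLen w)) (v a) := by
          rw [pre_len]
          rcases hor with hr | hz
          · rw [hone (Nat.le_of_ble_eq_true hr), mul_one]; exact Rel.refl _
          · rw [Nat.eq_of_beq_eq_true hz, h0, one_mul, Rel, inv_one, mul_one]; exact hmem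
        unfold Holds
        rw [Nat.eq_of_beq_eq_true hu, Nat.eq_of_beq_eq_true hv']
        generalize fX (D.facts k) = x at hgap
        cases hx : Nat.beq x 15 with
        | true =>
          simp only [hx, cond_true] at hgap
          rw [Nat.eq_of_beq_eq_true hx, h15, mul_one]
          have := hloop.mul (suf g w (rPos r2))
          rw [← pre_mul_suf g hg w _ (rPos r1) (Nat.eq_of_beq_eq_true hgap), mul_assoc, mul_assoc,
            inv_mul_cancel, mul_one] at this
          exact (R1.symm.trans this).trans R2
        | false =>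
          simp only [hx, cond_false, Bool.and_eq_true] at hgap
          obtain ⟨hlen, hxe⟩ := hgap
          rw [Nat.eq_of_beq_eq_true hxe]
          have hlen' : rPos r1 + 1 + rPos r2 = wLen w := by
            have := Nat.eq_of_beq_eq_true hlen
            simp only [Nat.add_eq] at this
            omega
          have := hloop.mul (suf g w (rPos r2))
          rw [← pre_mul_suf g hg w _ _ hlen', mul_assoc, mul_assoc, inv_mul_cancel, mul_one, pre,
            ← mul_assoc] at this
          exact ((R1.mul _).symm.trans this).trans R2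
  have hedge : ∀ u x, u < D.nn → x < D.ng → ∃ c, c < D.nn ∧ Rel H (v u * g x) (v c) := by
    intro u x hu hx
    have hk : u * D.ng + x < D.nn * D.ng := by
      have : (u + 1) * D.ng ≤ D.nn * D.ng := Nat.mul_le_mul_right _ hu
      rw [Nat.succ_mul] at this
      omega
    obtain ⟨s, hs⟩ := hc.edges _ hk
    simp only [edgeOK, Bool.and_eq_true] at hs
    have e1 : Nat.div (u * D.ng + x) D.ng = u := by
      show (u * D.ng + x) / D.ng = u
      rw [Nat.mul_comm, Nat.mul_add_div (by omega), Nat.div_eq_of_lt hx, Nat.add_zero]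
    have e2 : Nat.mod (u * D.ng + x) D.ng = x := by
      show (u * D.ng + x) % D.ng = x
      rw [Nat.mul_comm, Nat.mul_add_mod, Nat.mod_eq_of_lt hx]
    rw [e1, e2] at hs
    obtain ⟨⟨h1, h2⟩, h3⟩ := hs
    have hwl : wLen (Nat.add 1 (Nat.mul 256 x)) = 1 := by
      show (1 + 256 * x) &&& 255 = 1
      rw [show (255 : ℕ) = 2 ^ 8 - 1 from rfl, Nat.and_two_pow_sub_one_eq_mod]
      omega
    have hne : walk D.facts (Nat.add 1 (Nat.mul 256 x)) m false (Nat.land s 1023) (Nat.shiftRight s 10) u 0 ≠ 0 := by
      have := Nat.le_of_ble_eq_true h1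
      omega
    have R := walk_sound hg h15 hall false u (by omega) _ _ u 0 _ rfl hne (Nat.zero_le _)
      (by simpa [rd, pre] using Rel.refl (H := H) (v u))
    rw [Nat.eq_of_beq_eq_true h2] at R
    refine ⟨_, Nat.le_of_ble_eq_true h3, ?_⟩
    have hx15 := hc.ng_le
    have hlet : wLet (Nat.add 1 (Nat.mul 256 x)) 0 = x := by
      show ((1 + 256 * x) >>> 8) &&& 15 = x
      rw [show (15 : ℕ) = 2 ^ 4 - 1 from rfl, Nat.and_two_pow_sub_one_eq_mod, Nat.shiftRight_eq_div_pow]
      omega
    simp only [rd, pre, one_mul, hlet] at R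
    exact R
  intro p hp
  induction hp using Subgroup.closure_induction_right with
  | one => exact ⟨0, hc.pos, by rw [h0]; exact Rel.refl _⟩
  | mul_right p z _ hz ih =>
    obtain ⟨x, hx, rfl⟩ := hz
    obtain ⟨u, hu, h⟩ := ih
    obtain ⟨c, hc', h'⟩ := hedge u x hu hx
    exact ⟨c, hc', (h.mul _).trans h'⟩
  | mul_inv_cancel p z _ hz ih =>
    obtain ⟨x, hx, rfl⟩ := hz
    obtain ⟨u, hu, h⟩ := ih
    obtain ⟨c, hc', h'⟩ := hedge u x hu hx
    rw [inv_eq_of_mul_eq_one_left (hg x)]
    exact ⟨c, hc', (h.mul _).trans h'⟩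

/-- cosets of `H` in the subgroup generated by the letters are at most `nn` in number -/
theorem card_le {D : Data} {m : ℕ} (hc : Checked D m) (g : ℕ → G) (H : Subgroup G) [Finite H]
    (hg : ∀ x, g x * g x = 1) (h15 : g 15 = 1)
    (hrel : ∀ k, k < D.nw → wLen (fld D.words 512 k) < 256 ∧
      (k < D.nr → ((wDecode (fld D.words 512 k)).map g).prod = 1) ∧
      ((wDecode (fld D.words 512 k)).map g).prod ∈ H) :
    Finite (Subgroup.closure (g '' {x | x < D.ng})) ∧
      Nat.card (Subgroup.closure (g '' {x | x < D.ng})) ≤ D.nn * Nat.card H := by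
  obtain ⟨v, _, hv⟩ := cover hc g H hg h15 hrel
  have hsub : ((Subgroup.closure (g '' {x | x < D.ng}) : Subgroup G) : Set G) ⊆
      Set.range (fun q : Fin D.nn × H => (q.2 : G) * v q.1) := by
    intro p hp
    obtain ⟨u, hu, h⟩ := hv p hp
    exact ⟨(⟨u, hu⟩, ⟨_, h⟩), by simp⟩
  have hfin : ((Subgroup.closure (g '' {x | x < D.ng}) : Subgroup G) : Set G).Finite :=
    (Set.finite_range _).subset hsub
  refine ⟨hfin.to_subtype, ?_⟩
  rw [← SetLike.coe_sort_coe, Nat.card_coe_set_eq]
  calc _ ≤ (Set.range (fun q : Fin D.nn × H => (q.2 : G) * v q.1)).ncard :=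
        Set.ncard_le_ncard hsub (Set.finite_range _)
    _ ≤ Nat.card (Fin D.nn × H) := by
        rw [← Nat.card_coe_set_eq]; exact Finite.card_range_le _
    _ = _ := by simp

/-- index bound -/
theorem index_le {D : Data} {m : ℕ} (hc : Checked D m) (g : ℕ → G) (H : Subgroup G)
    (hg : ∀ x, g x * g x = 1) (h15 : g 15 = 1)
    (hgen : Subgroup.closure (g '' {x | x < D.ng}) = ⊤)
    (hrel : ∀ k, k < D.nw → wLen (fld D.words 512 k) < 256 ∧
      (k < D.nr → ((wDecode (fld D.words 512 k)).map g).prod = 1) ∧
      ((wDecode (fld D.words 512 k)).map g).prod ∈ H) :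
    H.index ≠ 0 ∧ H.index ≤ D.nn := by
  obtain ⟨v, _, hv⟩ := cover hc g H hg h15 hrel
  have hsurj : Function.Surjective (fun u : Fin D.nn => (((v u)⁻¹ : G) : G ⧸ H)) := by
    intro q
    induction q using QuotientGroup.induction_on with
    | H p =>
      obtain ⟨u, hu, h⟩ := hv p⁻¹ (by rw [hgen]; trivial)
      refine ⟨⟨u, hu⟩, ?_⟩
      rw [QuotientGroup.eq, inv_inv]
      have := inv_mem h
      rw [mul_inv_rev, inv_inv, inv_inv] at this
      exact this
  haveI : Finite (G ⧸ H) := Finite.of_surjective _ hsurj
  refine ⟨Nat.card_pos.ne', ?_⟩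
  have := Nat.card_le_card_of_surjective _ hsurj
  rwa [Nat.card_fin] at this

end Cfsg.Agent.Spor.CC
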