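import Cfsg.Agent.Lib.Spor.CoTypeSep

/-!
Groups of Conway type have exactly three classes of involutions.
-/

set_option autoImplicit false
set_option maxRecDepth 100000
set_option linter.unusedSectionVars false

namespace Cfsg.Agent.Spor.CoT

open Cfsg.Agent.Classical

universe u

variable {G : Type u} [Group G] [Finite G] {z : G} {Q : Subgroup G} (F : Frame z Q)
include F

variable {x : G}

theorem center_Q (h : Hyp z Q) {a : G} (ha : a ∈ Q) (hc : ∀ q ∈ Q, Commute a q) : a = 1 ∨ a = z := by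
  refine (F.vec_zero a ha).1 (QF_pnd _ fun w => ?_)
  obtain ⟨q, hq, rfl⟩ := F.vec_surj w
  rw [← pol_eq_polar]
  exact (F.comm_iff a ha q hq).1 (hc q hq)

theorem into_C (h : Hyp z Q) {w : G} (hw : orderOf w = 2) : ∃ g : G, Commute (g * w * g⁻¹) z := by
  haveI : Fact (Nat.Prime 2) := ⟨Nat.prime_two⟩
  obtain ⟨T, hT⟩ := h.ext.1.1.exists_le_sylow
  have hTz : ∀ a ∈ (T : Subgroup G), Commute a z := by
    haveI : Nontrivial (T : Subgroup G) := by
      refine ⟨⟨z, hT (zQ h)⟩, 1, fun e => z_ne h (congrArg Subtype.val e)⟩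
    haveI := T.isPGroup'.center_nontrivial
    obtain ⟨c, hc⟩ := exists_ne (1 : Subgroup.center (T : Subgroup G))
    have hcomm : ∀ a ∈ (T : Subgroup G), Commute ((c : (T : Subgroup G)) : G) a := fun a ha =>
      (congrArg Subtype.val (Subgroup.mem_center_iff.1 c.2 ⟨a, ha⟩)).symm
    have hcQ : ((c : (T : Subgroup G)) : G) ∈ Q := h.cent (Subgroup.mem_centralizer_iff.2 fun q hq =>
      (hcomm q (hT hq)).symm.eq)
    rcases center_Q F h hcQ (fun q hq => hcomm q (hT hq)) with e | e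
    · exact absurd (Subtype.ext (Subtype.ext e)) hc
    · intro a ha; exact e ▸ (hcomm a ha).symm
  have hp : IsPGroup 2 (Subgroup.zpowers w) := IsPGroup.of_card (n := 1) (by rw [Nat.card_zpowers, hw, pow_one])
  obtain ⟨S, hS⟩ := hp.exists_le_sylow
  obtain ⟨g, hg⟩ := MulAction.exists_smul_eq G S T
  exact ⟨g, hTz _ (by rw [← hg]; exact ⟨w, hS (Subgroup.mem_zpowers w), rfl⟩)⟩

theorem three_classes (h : Hyp z Q) (B : Base F x) :
    ∃ a b c : G, orderOf a = 2 ∧ orderOf b = 2 ∧ orderOf c = 2 ∧ ¬ IsConj a b ∧ ¬ IsConj a c ∧ ¬ IsConj b c ∧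
      ∀ w : G, orderOf w = 2 → IsConj w a ∨ IsConj w b ∨ IsConj w c := by
  obtain ⟨c0, b0, hc, hb⟩ := exists_reps F h B
  have hne : ∀ {t : G} {a v : V}, Form F x t a v → a ≠ 0 → t ≠ 1 := by
    intro t a v hf ha e
    subst e
    have h1 : F.π (cC (hf.comm F h B).2) = 1 := (F.π_ker _).2 (one_mem Q)
    refine ha (R_inj (hf.inP F).1 inP_facts.1 ?_)
    rw [R_zero, ← h1, hf.π F h B]
  refine ⟨z, c0, b0, h.ord, orderOf_eq_prime (by rw [pow_two, c0_sq F h B hc]) (hne hc nonzero_facts.1),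
    orderOf_eq_prime (by rw [pow_two, b0_sq F h B hb]) (hne hb nonzero_facts.2.2),
    c0_not_z F h B hc, b0_not_z F h B hb, fun e => b0_not_c0 F h B hc hb e.symm, fun w hw => ?_⟩
  obtain ⟨g, hg⟩ := into_C F h hw
  have hconj : IsConj w (g * w * g⁻¹) := isConj_iff.2 ⟨g, rfl⟩
  have hw1 : g * w * g⁻¹ ≠ 1 := fun e => by rw [conj_eq_one_iff.1 e, orderOf_one] at hw; omega
  have hww : g * w * g⁻¹ * (g * w * g⁻¹) = 1 := by
    rw [conj_mul, ← pow_two, ← hw, pow_orderOf_eq_one]; group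
  rcases classify F h B hc hb (t := cC hg) hww hw1 with e | e | e
  exacts [Or.inl (hconj.trans e), Or.inr (Or.inl (hconj.trans e)), Or.inr (Or.inr (hconj.trans e))]

end Cfsg.Agent.Spor.CoT
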