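import Cfsg.Agent.Lib.Spor.PermCert
import Cfsg.Prelude.Def_SporCoxeter

/-!
Glue between graph presentations and the enumeration / permutation checkers, with a simplicity criterion.
-/

set_option autoImplicit false

namespace Cfsg.Agent.Spor.CC

/-- a graph presentation with numbered generators -/
structure Pres (α : Type) where
  /-- edges -/
  edges : List (α × ℕ × α)
  /-- further relators -/
  extra : List (FreeGroup α)
  /-- number of generators -/
  ng : ℕ
  /-- numbering -/
  ix : α → ℕ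
  /-- names -/
  nm : ℕ → α
  /-- further relators as words -/
  extraW : List (List ℕ)

variable {α : Type} [DecidableEq α]

/-- a word repeated -/
def powW (m : ℕ) (w : List ℕ) : List ℕ := (List.replicate m w).flatten

theorem prod_powW {M : Type*} [Monoid M] (f : ℕ → M) (m : ℕ) (w : List ℕ) :
    ((powW m w).map f).prod = (w.map f).prod ^ m := by
  induction m with
  | zero => simp [powW]
  | succ m ih =>
    rw [powW, List.replicate_succ, List.flatten_cons, List.map_append, List.prod_append, pow_succ']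
    exact congrArg _ ih

/-- all relator words -/
def Pres.relW (Q : Pres α) : List (List ℕ) :=
  ((List.range Q.ng).map fun i => [i, i]) ++
    ((List.range Q.ng).flatMap fun i => (List.range i).map fun j =>
      powW (Cfsg.Spor.coxLabel Q.edges (Q.nm j) (Q.nm i)) [j, i]) ++ Q.extraW

/-- the presented group -/
abbrev Pres.Grp (Q : Pres α) : Type := Cfsg.Spor.CoxPresented α Q.edges Q.extra

/-- side conditions -/
structure Pres.OK (Q : Pres α) : Prop where
  ix_lt : ∀ a, Q.ix a < Q.ng
  nm_ix : ∀ a, Q.nm (Q.ix a) = a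
  ix_nm : ∀ x, x < Q.ng → Q.ix (Q.nm x) = x
  node : ∀ x, x < Q.ng → Q.nm x ∈ Cfsg.Spor.coxNodes Q.edges
  symm : ∀ i, i < Q.ng → ∀ j, j < Q.ng →
    Cfsg.Spor.coxLabel Q.edges (Q.nm i) (Q.nm j) = Cfsg.Spor.coxLabel Q.edges (Q.nm j) (Q.nm i)
  ng_le : Q.ng ≤ 15
  extra_eq : ∀ (M : Type) [Group M] (f : ℕ → M), (∀ x, f x * f x = 1) →
    Q.extra.map (FreeGroup.lift (f ∘ Q.ix)) = Q.extraW.map fun w => (w.map f).prod

/-- the generator with a given number, 1 out of range -/
def Pres.gen (Q : Pres α) (x : ℕ) : Q.Grp :=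
  if x < Q.ng then PresentedGroup.of (Q.nm x) else 1

variable {Q : Pres α}

theorem Pres.gen_of (hQ : Q.OK) (a : α) : Q.gen (Q.ix a) = PresentedGroup.of a := by
  rw [Pres.gen, if_pos (hQ.ix_lt a), hQ.nm_ix]

theorem Pres.gen_big {x : ℕ} (h : ¬ x < Q.ng) : Q.gen x = 1 := by rw [Pres.gen, if_neg h]

theorem Pres.cox_one (hQ : Q.OK) {i j : ℕ} (hi : i < Q.ng) (hj : j < Q.ng) :
    (Q.gen i * Q.gen j) ^ Cfsg.Spor.coxLabel Q.edges (Q.nm i) (Q.nm j) = 1 := by
  rw [Pres.gen, if_pos hi, Pres.gen, if_pos hj]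
  exact PresentedGroup.one_of_mem (Or.inl ⟨_, hQ.node i hi, _, hQ.node j hj, rfl⟩)

theorem Pres.gen_sq (hQ : Q.OK) (x : ℕ) : Q.gen x * Q.gen x = 1 := by
  by_cases h : x < Q.ng
  · simpa [Cfsg.Spor.coxLabel] using Pres.cox_one hQ h h
  · rw [Pres.gen_big h, one_mul]

theorem Pres.gen_fifteen (hQ : Q.OK) : Q.gen 15 = 1 :=
  Pres.gen_big (by have := hQ.ng_le; omega)

theorem Pres.relW_one (hQ : Q.OK) {r : List ℕ} (hr : r ∈ Q.relW) : (r.map Q.gen).prod = 1 := by
  simp only [Pres.relW, List.mem_append, List.mem_map, List.mem_flatMap, List.mem_range] at hr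
  rcases hr with (⟨i, hi, rfl⟩ | ⟨i, hi, j, hj, rfl⟩) | hr
  · simpa using Pres.gen_sq hQ i
  · rw [prod_powW]
    simpa using Pres.cox_one hQ (show j < Q.ng by omega) hi
  · have key := hQ.extra_eq Q.Grp Q.gen (Pres.gen_sq hQ)
    have hlift : (Q.gen ∘ Q.ix) = PresentedGroup.of := funext fun a => Pres.gen_of hQ a
    rw [hlift] at key
    have hmem : (r.map Q.gen).prod ∈ Q.extra.map (FreeGroup.lift (PresentedGroup.of (rels := _))) := by
      rw [key]; exact List.mem_map.mpr ⟨r, hr, rfl⟩
    obtain ⟨e, he, hee⟩ := List.mem_map.mp hmem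
    rw [← hee]
    have : FreeGroup.lift (PresentedGroup.of (rels := Cfsg.Spor.coxRelators Q.edges ∪ {r | r ∈ Q.extra}))
        = PresentedGroup.mk _ := FreeGroup.ext_hom _ _ (fun a => by simp [PresentedGroup.of])
    rw [this]
    exact PresentedGroup.one_of_mem (Or.inr he)

theorem Pres.closure_gen (hQ : Q.OK) :
    Subgroup.closure (Q.gen '' {x | x < Q.ng}) = (⊤ : Subgroup Q.Grp) := by
  rw [eq_top_iff, ← PresentedGroup.closure_range_of]
  refine Subgroup.closure_mono ?_
  rintro _ ⟨a, rfl⟩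
  exact ⟨Q.ix a, hQ.ix_lt a, Pres.gen_of hQ a⟩

/-- the action given by a checked table -/
noncomputable def Pres.hom (Q : Pres α) (hQ : Q.OK) (P : Table) (h : P.Valid) (hng : P.ng = Q.ng)
    (hl : lettersOK P.ng Q.relW = true) (hL : P.Loops Q.relW) :
    Q.Grp →* Equiv.Perm (Fin P.n) :=
  PresentedGroup.toGroup (f := P.perm h ∘ Q.ix) (by
    intro r hr
    have hone : ∀ w ∈ Q.relW, (w.map (P.perm h)).prod = 1 := fun w hw =>
      P.loops_prod h hL hw fun x hx => lettersOK_spec hl hw hx
    rcases hr with ⟨x, -, y, -, rfl⟩ | hr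
    · rw [map_pow, map_mul, FreeGroup.lift_apply_of, FreeGroup.lift_apply_of, Function.comp_apply,
        Function.comp_apply]
      rcases lt_trichotomy (Q.ix x) (Q.ix y) with hlt | heq | hgt
      · have := hone _ (show powW (Cfsg.Spor.coxLabel Q.edges (Q.nm (Q.ix x)) (Q.nm (Q.ix y)))
            [Q.ix x, Q.ix y] ∈ Q.relW by
          simp only [Pres.relW, List.mem_append, List.mem_map, List.mem_flatMap, List.mem_range]
          exact Or.inl (Or.inr ⟨_, hQ.ix_lt y, _, hlt, rfl⟩))
        rw [prod_powW, hQ.nm_ix, hQ.nm_ix] at this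
        simpa using this
      · rw [heq, P.perm_sq, one_pow]
      · have := hone _ (show powW (Cfsg.Spor.coxLabel Q.edges (Q.nm (Q.ix y)) (Q.nm (Q.ix x)))
            [Q.ix y, Q.ix x] ∈ Q.relW by
          simp only [Pres.relW, List.mem_append, List.mem_map, List.mem_flatMap, List.mem_range]
          exact Or.inl (Or.inr ⟨_, hQ.ix_lt x, _, hgt, rfl⟩))
        rw [prod_powW, hQ.symm _ (hQ.ix_lt y) _ (hQ.ix_lt x), hQ.nm_ix, hQ.nm_ix] at this
        simp only [List.map_cons, List.map_nil, List.prod_cons, List.prod_nil, mul_one] at this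
        have e : P.perm h (Q.ix x) * P.perm h (Q.ix y) = (P.perm h (Q.ix y) * P.perm h (Q.ix x))⁻¹ := by
          rw [mul_inv_rev, inv_eq_of_mul_eq_one_left (P.perm_sq h _),
            inv_eq_of_mul_eq_one_left (P.perm_sq h _)]
        rw [e, inv_pow, this, inv_one]
    · have key := hQ.extra_eq (Equiv.Perm (Fin P.n)) (P.perm h) (P.perm_sq h)
      have hmem : FreeGroup.lift (P.perm h ∘ Q.ix) r ∈ Q.extra.map (FreeGroup.lift (P.perm h ∘ Q.ix)) :=
        List.mem_map.mpr ⟨r, hr, rfl⟩
      rw [key] at hmem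
      obtain ⟨w, hw, e⟩ := List.mem_map.mp hmem
      rw [← e]
      exact hone w (by simp [Pres.relW, hw]))

theorem Pres.hom_gen (hQ : Q.OK) (P : Table) (h : P.Valid) (hng : P.ng = Q.ng)
    (hl : lettersOK P.ng Q.relW = true) (hL : P.Loops Q.relW) :
    ∀ x, x < P.ng → Q.hom hQ P h hng hl hL (Q.gen x) = P.perm h x := by
  intro x hx
  rw [hng] at hx
  rw [Pres.gen, if_pos hx, Pres.hom, PresentedGroup.toGroup.of, Function.comp_apply, hQ.ix_nm x hx]

/-! ### word tables -/

/-- a variant of a known word: rotated, possibly reversed -/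
def variant (R : List (List ℕ)) (t : ℕ × ℕ × Bool) : List ℕ :=
  bif t.2.2 then ((R.getD t.1 []).rotate t.2.1).reverse else (R.getD t.1 []).rotate t.2.1

theorem variant_one {M : Type*} [Group M] (f : ℕ → M) (hf : ∀ x, f x * f x = 1) {R : List (List ℕ)}
    (hR : ∀ r ∈ R, (r.map f).prod = 1) (t : ℕ × ℕ × Bool) : ((variant R t).map f).prod = 1 := by
  have h0 : ((R.getD t.1 []).map f).prod = 1 := by
    by_cases h : t.1 < R.length
    · rw [List.getD_eq_getElem _ _ h]; exact hR _ (List.getElem_mem h)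
    · rw [List.getD_eq_default _ _ (by omega)]; simp
  have h1 : (((R.getD t.1 []).rotate t.2.1).map f).prod = 1 := by
    rw [List.map_rotate]
    exact List.prod_rotate_eq_one_of_prod_eq_one h0 _
  unfold variant
  cases t.2.2 with
  | false => exact h1
  | true =>
    simp only [cond_true]
    generalize (R.getD t.1 []).rotate t.2.1 = l at h1 ⊢
    have e : ∀ l : List ℕ, (l.reverse.map f).prod = ((l.map f).prod)⁻¹ := by
      intro l
      induction l with
      | nil => simp
      | cons a l ih =>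
        rw [List.reverse_cons, List.map_append, List.prod_append, ih]
        simp only [List.map_cons, List.map_nil, List.prod_cons, List.prod_nil, mul_one, mul_inv_rev,
          inv_eq_of_mul_eq_one_left (hf a)]
    rw [e, h1, inv_one]

/-- check the packed word table against witnesses and subgroup words; letters are renumbered by `ks` -/
def wordsOK (D : Data) (ks : List ℕ) (ng : ℕ) (R : List (List ℕ)) (wit : List (ℕ × ℕ × Bool))
    (subW : List (List ℕ)) : Bool :=
  Nat.beq wit.length D.nr && Nat.beq (wit.length + subW.length) D.nw &&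
  ((List.range wit.length).all fun k =>
    (wDecode (fld D.words 512 k)).map (fun x => ks.getD x ng) == variant R (wit.getD k (0, 0, false))) &&
  ((List.range subW.length).all fun k =>
    (wDecode (fld D.words 512 (D.nr + k))).map (fun x => ks.getD x ng) == subW.getD k [])

/-- the subgroup generated by some generators -/
def Pres.sub (Q : Pres α) (ks : List ℕ) : Subgroup Q.Grp := Subgroup.closure (Q.gen '' {x | x ∈ ks})

/-- the subgroup generated by some words -/
def Pres.wsub (Q : Pres α) (W : List (List ℕ)) : Subgroup Q.Grp :=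
  Subgroup.closure {s | ∃ w ∈ W, s = (w.map Q.gen).prod}

theorem Pres.wsub_singles (ks : List ℕ) : Q.wsub (ks.map fun x => [x]) = Q.sub ks := by
  rw [Pres.wsub, Pres.sub]
  congr 1
  ext s
  simp [eq_comm]

theorem Pres.wsub_nil : Q.wsub [] = ⊥ := by simp [Pres.wsub]

theorem Pres.cert_data (hQ : Q.OK) {D : Data} {ks : List ℕ} (hks : ks.length = D.ng)
    (hng : D.ng ≤ 15) {more : List (List ℕ)} (hmore : ∀ r ∈ more, (r.map Q.gen).prod = 1)
    {wit : List (ℕ × ℕ × Bool)} {subW : List (List ℕ)}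
    (hw : wordsOK D ks Q.ng (Q.relW ++ more) wit subW = true) :
    let g := fun x => Q.gen (ks.getD x Q.ng)
    (∀ x, g x * g x = 1) ∧ g 15 = 1 ∧ Subgroup.closure (g '' {x | x < D.ng}) = Q.sub ks ∧
    ∀ k, k < D.nw → wLen (fld D.words 512 k) < 256 ∧
      (k < D.nr → ((wDecode (fld D.words 512 k)).map g).prod = 1) ∧
      ((wDecode (fld D.words 512 k)).map g).prod ∈ Q.wsub subW := by
  intro g
  refine ⟨fun x => Pres.gen_sq hQ _, ?_, ?_, ?_⟩
  · show Q.gen (ks.getD 15 Q.ng) = 1
    rw [List.getD_eq_default _ _ (by omega)]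
    exact Pres.gen_big (lt_irrefl _)
  · rw [Pres.sub]
    congr 1
    ext s
    constructor
    · rintro ⟨x, hx, rfl⟩
      exact ⟨_, by rw [List.getD_eq_getElem _ _ (by rw [hks]; exact hx)]; exact List.getElem_mem _, rfl⟩
    · rintro ⟨y, hy, rfl⟩
      obtain ⟨i, hi, rfl⟩ := List.mem_iff_getElem.mp hy
      exact ⟨i, by rw [← hks]; exact hi, congrArg Q.gen (List.getD_eq_getElem _ _ hi)⟩
  · simp only [wordsOK, Bool.and_eq_true, List.all_eq_true, List.mem_range, beq_iff_eq] at hw
    obtain ⟨⟨⟨h1, h2⟩, hr⟩, hs⟩ := hw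
    have h1' := Nat.eq_of_beq_eq_true h1
    have h2' := Nat.eq_of_beq_eq_true h2
    intro k hk
    refine ⟨?_, ?_⟩
    · show fld D.words 512 k &&& 255 < 256
      exact lt_of_le_of_lt Nat.and_le_right (by omega)
    have hone : k < D.nr → ((wDecode (fld D.words 512 k)).map g).prod = 1 := by
      intro hkr
      rw [show g = Q.gen ∘ (fun x => ks.getD x Q.ng) from rfl, ← List.map_map, hr k (by omega)]
      refine variant_one Q.gen (Pres.gen_sq hQ) (fun r hr => ?_) _
      rcases List.mem_append.mp hr with h | h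
      · exact Pres.relW_one hQ h
      · exact hmore r h
    refine ⟨hone, ?_⟩
    by_cases hkr : k < D.nr
    · rw [hone hkr]; exact one_mem _
    · have hj : k - D.nr < subW.length := by omega
      have := hs (k - D.nr) hj
      rw [show D.nr + (k - D.nr) = k by omega] at this
      rw [show g = Q.gen ∘ (fun x => ks.getD x Q.ng) from rfl, ← List.map_map, this,
        List.getD_eq_getElem _ _ hj]
      exact Subgroup.subset_closure ⟨_, List.getElem_mem hj, rfl⟩

/-- order bound for a subgroup from a certificate -/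
theorem Pres.sub_card_le (hQ : Q.OK) {D : Data} {m : ℕ} (hc : Checked D m) {ks : List ℕ}
    (hks : ks.length = D.ng) {more : List (List ℕ)} (hmore : ∀ r ∈ more, (r.map Q.gen).prod = 1)
    {wit : List (ℕ × ℕ × Bool)} {subW : List (List ℕ)}
    (hw : wordsOK D ks Q.ng (Q.relW ++ more) wit subW = true)
    {b : ℕ} (hH : Finite (Q.wsub subW) ∧ Nat.card (Q.wsub subW) ≤ b) :
    Finite (Q.sub ks) ∧ Nat.card (Q.sub ks) ≤ D.nn * b := by
  obtain ⟨hg, h15, hcl, hrel⟩ := Pres.cert_data hQ hks hc.ng_le hmore hw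
  haveI := hH.1
  have := card_le hc _ (Q.wsub subW) hg h15 hrel
  rw [hcl] at this
  exact ⟨this.1, this.2.trans (Nat.mul_le_mul_left _ hH.2)⟩

theorem Pres.sub_all (hQ : Q.OK) {ks : List ℕ} (hall : ∀ x, x < Q.ng → x ∈ ks) : Q.sub ks = ⊤ := by
  rw [eq_top_iff, ← Pres.closure_gen hQ]
  exact Subgroup.closure_mono (Set.image_mono hall)

/-- index bound from a certificate -/
theorem Pres.sub_index_le (hQ : Q.OK) {D : Data} {m : ℕ} (hc : Checked D m) {ks : List ℕ}
    (hks : ks.length = D.ng) (hall : ∀ x, x < Q.ng → x ∈ ks)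
    {more : List (List ℕ)} (hmore : ∀ r ∈ more, (r.map Q.gen).prod = 1)
    {wit : List (ℕ × ℕ × Bool)} {subW : List (List ℕ)}
    (hw : wordsOK D ks Q.ng (Q.relW ++ more) wit subW = true) :
    (Q.wsub subW).index ≠ 0 ∧ (Q.wsub subW).index ≤ D.nn := by
  obtain ⟨hg, h15, hcl, hrel⟩ := Pres.cert_data hQ hks hc.ng_le hmore hw
  exact index_le hc _ (Q.wsub subW) hg h15 (hcl.trans (Pres.sub_all hQ hall)) hrel

theorem bot_card {G : Type*} [Group G] : Finite (⊥ : Subgroup G) ∧ Nat.card (⊥ : Subgroup G) ≤ 1 :=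
  ⟨inferInstance, by simp⟩

end Cfsg.Agent.Spor.CC
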