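import Cfsg.Agent.Lib.Spor.GolayModules

/-!
Linear maps of the code preserving the weight classes modulo the all-ones word come from `M24`.
-/

set_option autoImplicit false

open scoped Pointwise symmDiff

namespace Cfsg.Agent.Spor

open Cfsg

local notation "Wd" => GolayPt → ZMod 2

theorem mem_M24_of_actW {σ : Equiv.Perm GolayPt} (h : ∀ c : Wd, c ∈ golayCode → actW σ c ∈ golayCode) :
    σ ∈ M24 := by
  rw [mem_M24]
  intro g hg
  have hlt : g < 2 ^ 24 := by revert g hg; decide +kernel
  have hw : ofMaskW g ∈ golayCode := by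
    rw [mem_code, wmask_ofMaskW hlt]
    revert g hg; decide +kernel
  have := mem_code.1 (h _ hw)
  rwa [wmask, support₂_actW, support₂_ofMaskW] at this

/-- the sum of a word over a set -/
def sumOn (T : Finset GolayPt) (c : Wd) : ZMod 2 := ∑ p ∈ T, c p

theorem sumOn_symmDiff (T U : Finset GolayPt) (c : Wd) : sumOn (T ∆ U) c = sumOn T c + sumOn U c := by
  have h1 : sumOn (T ∪ U) c + sumOn (T ∩ U) c = sumOn T c + sumOn U c := Finset.sum_union_inter
  have h2 : sumOn (T ∆ U) c + sumOn (T ∩ U) c = sumOn (T ∪ U) c := by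
    rw [show T ∆ U = (T ∪ U) \ (T ∩ U) from symmDiff_eq_sup_sdiff_inf T U]
    exact Finset.sum_sdiff Finset.inter_subset_union
  rw [← h1, ← h2, add_assoc, CharTwo.add_self_eq_zero, add_zero]

theorem sumOn_eq_zero {T : Finset GolayPt} (h : ∀ c ∈ golayCode, sumOn T c = 0) (hT : T.card < 8) :
    T = ∅ := by
  classical
  let v : Wd := fun p => if p ∈ T then 1 else 0
  have hv : v ∈ golayCode := by
    rw [← orth_code, mem_orth]
    intro w hw
    rw [← h w hw, sumOn]
    simp only [v, mul_ite, mul_one, mul_zero, Finset.sum_ite_mem, Finset.univ_inter]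
  have hsup : support₂ v = T := by ext p; simp [mem_support₂, v]
  have hn : hammingNorm v = T.card := by rw [← hsup]; rfl
  rcases weight_mem_code hv with e | e | e | e | e <;> rw [hn] at e
  · exact Finset.card_eq_zero.1 e
  all_goals omega

theorem sumOn_inj {T U : Finset GolayPt} (h : ∀ c ∈ golayCode, sumOn T c = sumOn U c)
    (hc : T.card + U.card < 8) : T = U := by
  refine symmDiff_eq_bot.1 (sumOn_eq_zero (T := T ∆ U) (fun c hc => ?_) ?_)
  · rw [sumOn_symmDiff, h c hc, CharTwo.add_self_eq_zero]
  · have : T ∆ U ⊆ T ∪ U := by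
      intro x hx
      rw [Finset.mem_symmDiff] at hx
      rcases hx with ⟨h, -⟩ | ⟨h, -⟩
      · exact Finset.mem_union_left _ h
      · exact Finset.mem_union_right _ h
    exact lt_of_le_of_lt ((Finset.card_le_card this).trans (Finset.card_union_le T U)) hc

/-- the sign of a parity -/
def sgn2 (a : ZMod 2) : ℤ := if a = 0 then 1 else -1

theorem sgn2_add : ∀ a b : ZMod 2, sgn2 (a + b) = sgn2 a * sgn2 b := by decide

theorem sgn2_sum_zero {V : Type*} [AddCommGroup V] [Fintype V] (h : V →+ ZMod 2) (hne : ∃ v, h v ≠ 0) :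
    ∑ v, sgn2 (h v) = 0 := by
  obtain ⟨v₀, hv₀⟩ := hne
  have h1 : h v₀ = 1 := (by decide : ∀ a : ZMod 2, a ≠ 0 → a = 1) _ hv₀
  have h2 : ∑ v, sgn2 (h v) = -∑ v, sgn2 (h v) := by
    conv_lhs => rw [← Equiv.sum_comp (Equiv.addLeft v₀) (fun v => sgn2 (h v))]
    rw [← Finset.sum_neg_distrib]
    refine Finset.sum_congr rfl fun v _ => ?_
    show sgn2 (h (v₀ + v)) = -sgn2 (h v)
    rw [map_add, h1, sgn2_add]
    exact neg_one_mul _
  omega

section

variable (x : ↥golayCode ≃ₗ[ZMod 2] ↥golayCode)

/-- the hypothesis on orbits -/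
def OrbitPreserving : Prop :=
  ∀ c : ↥golayCode, ∃ (σ : Equiv.Perm GolayPt) (k : ZMod 2),
    ((x c : ↥golayCode) : Wd) = actW σ (c : Wd) + fun _ => k

variable {x}

theorem OrbitPreserving.pair_exists (hx : OrbitPreserving x) (p q : GolayPt) :
    ∃ r s : GolayPt, ∀ c : ↥golayCode,
      ((x c : ↥golayCode) : Wd) p + ((x c : ↥golayCode) : Wd) q = (c : Wd) r + (c : Wd) s := by
  classical
  by_contra hno
  push Not at hno
  haveI : Fintype ↥golayCode := Fintype.ofFinite _
  let g : ↥golayCode →+ ZMod 2 :=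
    AddMonoidHom.mk' (fun c => ((x c : ↥golayCode) : Wd) p + ((x c : ↥golayCode) : Wd) q) (fun a b => by
      simp only [map_add, Submodule.coe_add, Pi.add_apply]
      abel)
  let d : GolayPt × GolayPt → (↥golayCode →+ ZMod 2) := fun rs =>
    AddMonoidHom.mk' (fun c => (c : Wd) rs.1 + (c : Wd) rs.2) (fun a b => by
      simp only [Submodule.coe_add, Pi.add_apply]
      abel)
  -- the squared class of a word is preserved
  have hS : ∀ c, ∑ rs : GolayPt × GolayPt, sgn2 (d rs (x c)) = ∑ rs, sgn2 (d rs c) := by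
    intro c
    obtain ⟨σ, k, e⟩ := hx c
    rw [← Equiv.sum_comp (σ.prodCongr σ) (fun rs => sgn2 (d rs (x c)))]
    refine Finset.sum_congr rfl fun rs _ => ?_
    show sgn2 (((x c : ↥golayCode) : Wd) (σ rs.1) + ((x c : ↥golayCode) : Wd) (σ rs.2)) = _
    rw [e]
    show sgn2 ((c : Wd) (σ.symm (σ rs.1)) + k + ((c : Wd) (σ.symm (σ rs.2)) + k)) = _
    rw [σ.symm_apply_apply, σ.symm_apply_apply, add_add_add_comm, CharTwo.add_self_eq_zero, add_zero]
    rfl
  have hzero : ∑ c, sgn2 (g c) * ∑ rs, sgn2 (d rs c) = 0 := by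
    rw [show ∑ c, sgn2 (g c) * ∑ rs, sgn2 (d rs c) = ∑ rs, ∑ c, sgn2 ((g + d rs) c) by
      rw [Finset.sum_comm]
      refine Finset.sum_congr rfl fun c _ => ?_
      rw [Finset.mul_sum]
      exact Finset.sum_congr rfl fun rs _ => (sgn2_add _ _).symm]
    refine Finset.sum_eq_zero fun rs _ => sgn2_sum_zero _ ?_
    obtain ⟨c, hc⟩ := hno rs.1 rs.2
    refine ⟨c, fun e => hc ?_⟩
    exact CharTwo.add_eq_zero.1 e
  have hpos : 0 < ∑ c, sgn2 (g c) * ∑ rs, sgn2 (d rs c) := by
    rw [show ∑ c, sgn2 (g c) * ∑ rs, sgn2 (d rs c) = ∑ rs, ∑ c, sgn2 ((d (p, q) + d rs) c) by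
      rw [Finset.sum_comm]
      refine (Finset.sum_congr rfl fun c _ => ?_).trans
        (x.toEquiv.sum_comp (fun c => ∑ rs, sgn2 ((d (p, q) + d rs) c)))
      rw [← hS c, Finset.mul_sum]
      exact Finset.sum_congr rfl fun rs _ => (sgn2_add _ _).symm]
    refine Finset.sum_pos' (fun rs _ => ?_) ⟨(p, q), Finset.mem_univ _, ?_⟩
    · by_cases h : ∃ c, (d (p, q) + d rs) c ≠ 0
      · rw [sgn2_sum_zero _ h]
      · push Not at h
        exact Finset.sum_nonneg fun c _ => by rw [h c]; decide
    · rw [Finset.sum_congr rfl (fun c _ => show sgn2 ((d (p, q) + d (p, q)) c) = 1 by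
        rw [AddMonoidHom.add_apply, CharTwo.add_self_eq_zero]; rfl)]
      simp [Finset.card_univ, Fintype.card_pos]
  omega

theorem OrbitPreserving.induced (hx : OrbitPreserving x) :
    ∃ σ ∈ M24, ∀ c : ↥golayCode, ∃ k : ZMod 2, ((x c : ↥golayCode) : Wd) = actW σ (c : Wd) + fun _ => k := by
  classical
  -- the images of duads
  have hE : ∀ p q : GolayPt, p ≠ q → ∃ T : Finset GolayPt, T.card = 2 ∧ ∀ c : ↥golayCode,
      ((x c : ↥golayCode) : Wd) p + ((x c : ↥golayCode) : Wd) q = sumOn T (c : Wd) := by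
    intro p q hpq
    obtain ⟨r, s, h⟩ := hx.pair_exists p q
    have hrs : r ≠ s := by
      rintro rfl
      have h0 := sumOn_eq_zero (T := {p, q}) (fun c hc => ?_) (by rw [Finset.card_pair hpq]; norm_num)
      · exact Finset.insert_ne_empty _ _ h0
      · have := h (x.symm ⟨c, hc⟩)
        rw [LinearEquiv.apply_symm_apply, CharTwo.add_self_eq_zero] at this
        rw [sumOn, Finset.sum_pair hpq]
        exact this
    exact ⟨{r, s}, Finset.card_pair hrs, fun c => by rw [h c, sumOn, Finset.sum_pair hrs]⟩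
  choose E hEcard hEsum using hE
  have hinter : ∀ q q' (hq : none ≠ q) (hq' : none ≠ q'), q ≠ q' →
      (E none q hq ∩ E none q' hq').card = 1 := by
    intro q q' hq hq' hne
    have key : E none q hq ∆ E none q' hq' = E q q' hne := by
      have e : ∀ c : ↥golayCode, sumOn (E none q hq) (c : Wd) + sumOn (E none q' hq') (c : Wd) =
          sumOn (E q q' hne) (c : Wd) := fun c => by
        rw [← hEsum, ← hEsum, ← hEsum, add_add_add_comm, CharTwo.add_self_eq_zero, zero_add]
      refine sumOn_inj (fun c hc => ?_) ?_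
      · rw [sumOn_symmDiff]
        exact e ⟨c, hc⟩
      · have h4 : (E none q hq ∆ E none q' hq').card ≤ 4 := by
          refine (Finset.card_le_card (?_ : _ ⊆ E none q hq ∪ E none q' hq')).trans
            ((Finset.card_union_le _ _).trans ?_)
          · intro y hy
            rw [Finset.mem_symmDiff] at hy
            rcases hy with ⟨h, -⟩ | ⟨h, -⟩
            · exact Finset.mem_union_left _ h
            · exact Finset.mem_union_right _ h
          · rw [hEcard, hEcard]
        rw [hEcard]
        omega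
    have h1 : (E none q hq ∆ E none q' hq').card = 2 := by rw [key, hEcard]
    rw [show E none q hq ∆ E none q' hq' = (E none q hq ∪ E none q' hq') \ (E none q hq ∩ E none q' hq')
      from symmDiff_eq_sup_sdiff_inf _ _, Finset.card_sdiff_of_subset Finset.inter_subset_union] at h1
    have h2 := Finset.card_union_add_card_inter (E none q hq) (E none q' hq')
    rw [hEcard, hEcard] at h2
    omega
  -- the common point
  obtain ⟨r, hr⟩ : ∃ r, ∀ q (hq : none ≠ q), r ∈ E none q hq := by
    let a : GolayPt := some 0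
    let b : GolayPt := some 1
    have ha : none ≠ a := fun h => Option.some_ne_none _ h.symm
    have hb : none ≠ b := fun h => Option.some_ne_none _ h.symm
    have hab : a ≠ b := by decide
    obtain ⟨r, hr⟩ := Finset.card_eq_one.1 (hinter a b ha hb hab)
    have hra : r ∈ E none a ha := (Finset.mem_inter.1 (hr ▸ Finset.mem_singleton_self r)).1
    have hrb : r ∈ E none b hb := (Finset.mem_inter.1 (hr ▸ Finset.mem_singleton_self r)).2
    obtain ⟨s, hs⟩ := Finset.card_eq_one.1 (show ((E none a ha).erase r).card = 1 by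
      rw [Finset.card_erase_of_mem hra, hEcard])
    obtain ⟨t, ht⟩ := Finset.card_eq_one.1 (show ((E none b hb).erase r).card = 1 by
      rw [Finset.card_erase_of_mem hrb, hEcard])
    have hA : ∀ y, y ∈ E none a ha → y = r ∨ y = s := fun y hy => by
      rcases eq_or_ne y r with h | h
      · exact Or.inl h
      · exact Or.inr (Finset.mem_singleton.1 (hs ▸ Finset.mem_erase.2 ⟨h, hy⟩))
    have hB : ∀ y, y ∈ E none b hb → y = r ∨ y = t := fun y hy => by
      rcases eq_or_ne y r with h | h
      · exact Or.inl h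
      · exact Or.inr (Finset.mem_singleton.1 (ht ▸ Finset.mem_erase.2 ⟨h, hy⟩))
    -- a set avoiding the point must be the pair of the other two ends
    have hbad : ∀ q (hq : none ≠ q), r ∉ E none q hq → s ∈ E none q hq ∧ t ∈ E none q hq ∧ s ≠ t := by
      intro q hq hrq
      have hqa : q ≠ a := fun e => hrq (by subst e; exact hra)
      have hqb : q ≠ b := fun e => hrq (by subst e; exact hrb)
      obtain ⟨y, hy⟩ := Finset.card_eq_one.1 (hinter q a hq ha hqa)
      obtain ⟨z, hz⟩ := Finset.card_eq_one.1 (hinter q b hq hb hqb)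
      obtain ⟨hy1, hy2⟩ := Finset.mem_inter.1 (hy ▸ Finset.mem_singleton_self y)
      obtain ⟨hz1, hz2⟩ := Finset.mem_inter.1 (hz ▸ Finset.mem_singleton_self z)
      have ey : y = s := (hA y hy2).resolve_left fun e => hrq (e ▸ hy1)
      have ez : z = t := (hB z hz2).resolve_left fun e => hrq (e ▸ hz1)
      subst ey ez
      refine ⟨hy1, hz1, fun e => ?_⟩
      have h2 : y ∈ E none a ha ∩ E none b hb := Finset.mem_inter.2 ⟨hy2, e ▸ hz2⟩
      rw [hr, Finset.mem_singleton] at h2
      exact hrq (h2 ▸ hy1)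
    refine ⟨r, fun q hq => ?_⟩
    by_contra hrq
    obtain ⟨hsq, htq, hst⟩ := hbad q hq hrq
    have hEq : E none q hq = {s, t} := (Finset.eq_of_subset_of_card_le
      (Finset.insert_subset hsq (Finset.singleton_subset_iff.2 htq))
      (by rw [hEcard, Finset.card_pair hst])).symm
    -- a further point
    obtain ⟨u, hu⟩ : ∃ u : GolayPt, u ∉ ({none, a, b, q} : Finset GolayPt) := by
      by_contra hall
      push Not at hall
      have h4 := Finset.card_le_card (fun y (_ : y ∈ (Finset.univ : Finset GolayPt)) => hall y)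
      have h5 : ({none, a, b, q} : Finset GolayPt).card ≤ 4 := Finset.card_le_four
      rw [Finset.card_univ, show Fintype.card GolayPt = 24 from rfl] at h4
      omega
    simp only [Finset.mem_insert, Finset.mem_singleton, not_or] at hu
    obtain ⟨hu0, hua, hub, huq⟩ := hu
    by_cases hru : r ∈ E none u (Ne.symm hu0)
    · obtain ⟨y, hy⟩ := Finset.card_eq_one.1 (hinter u q (Ne.symm hu0) hq huq)
      obtain ⟨hy1, hy2⟩ := Finset.mem_inter.1 (hy ▸ Finset.mem_singleton_self y)
      have hyr : y ≠ r := fun e => hrq (e ▸ hy2)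
      have hsub : ∀ w (hw : none ≠ w), r ∈ E none w hw → y ∈ E none w hw → E none w hw = {r, y} :=
        fun w hw h1 h2 => (Finset.eq_of_subset_of_card_le
          (Finset.insert_subset h1 (Finset.singleton_subset_iff.2 h2))
          (by rw [hEcard, Finset.card_pair (Ne.symm hyr)])).symm
      rw [hEq, Finset.mem_insert, Finset.mem_singleton] at hy2
      rcases hy2 with e | e <;> subst e
      · have hya : y ∈ E none a ha := Finset.mem_of_mem_erase (hs ▸ Finset.mem_singleton_self y)
        have := hinter u a (Ne.symm hu0) ha hua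
        rw [hsub u _ hru hy1, hsub a ha hra hya, Finset.inter_self, Finset.card_pair (Ne.symm hyr)] at this
        omega
      · have hyb : y ∈ E none b hb := Finset.mem_of_mem_erase (ht ▸ Finset.mem_singleton_self y)
        have := hinter u b (Ne.symm hu0) hb hub
        rw [hsub u _ hru hy1, hsub b hb hrb hyb, Finset.inter_self, Finset.card_pair (Ne.symm hyr)] at this
        omega
    · obtain ⟨hsu, htu, -⟩ := hbad u _ hru
      have := hinter u q (Ne.symm hu0) hq huq
      have h2 : ({s, t} : Finset GolayPt) ⊆ E none u (Ne.symm hu0) ∩ E none q hq := by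
        rw [hEq]
        exact Finset.subset_inter (Finset.insert_subset hsu (Finset.singleton_subset_iff.2 htu)) subset_rfl
      have h3 := Finset.card_le_card h2
      rw [Finset.card_pair hst] at h3
      omega
  -- the permutation
  have hex : ∀ q : GolayPt, ∃ w, (q = none → w = r) ∧ ∀ hq : none ≠ q, E none q hq = {r, w} ∧ r ≠ w := by
    intro q
    by_cases hq : q = none
    · exact ⟨r, fun _ => rfl, fun h => absurd hq.symm h⟩
    obtain ⟨w, hw⟩ := Finset.card_eq_one.1 (show ((E none q (Ne.symm hq)).erase r).card = 1 by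
      rw [Finset.card_erase_of_mem (hr q _), hEcard])
    refine ⟨w, fun h => absurd h hq, fun h => ?_⟩
    have hins : E none q h = insert r {w} := by rw [← hw, Finset.insert_erase (hr q _)]
    exact ⟨hins, fun e => Finset.notMem_erase r (E none q (Ne.symm hq)) (by rw [hw, e]; exact Finset.mem_singleton_self w)⟩
  choose f hf0 hf1 using hex
  have hinj : Function.Injective f := by
    intro q q' e
    by_contra hne
    rcases eq_or_ne none q with h | hq
    · rw [hf0 q h.symm] at e
      rcases eq_or_ne none q' with h' | hq'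
      · exact hne (h.symm.trans h')
      · exact (hf1 q' hq').2 e
    rcases eq_or_ne none q' with h' | hq'
    · rw [hf0 q' h'.symm] at e
      exact (hf1 q hq).2 e.symm
    have := hinter q q' hq hq' hne
    rw [(hf1 q hq).1, (hf1 q' hq').1, e, Finset.inter_self, Finset.card_pair (hf1 q' hq').2] at this
    omega
  let σ : Equiv.Perm GolayPt := Equiv.ofBijective f (Finite.injective_iff_bijective.1 hinj)
  have hform : ∀ c : ↥golayCode,
      ((x c : ↥golayCode) : Wd) = actW σ⁻¹ (c : Wd) + fun _ => ((x c : ↥golayCode) : Wd) none + (c : Wd) r := by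
    intro c
    funext q
    show _ = (c : Wd) (σ q) + (((x c : ↥golayCode) : Wd) none + (c : Wd) r)
    rcases eq_or_ne none q with h | hq
    · subst h
      rw [show σ none = r from hf0 none rfl, add_comm (((x c : ↥golayCode) : Wd) none) _, ← add_assoc,
        CharTwo.add_self_eq_zero, zero_add]
    · have h := hEsum none q hq c
      rw [(hf1 q hq).1, sumOn, Finset.sum_pair (hf1 q hq).2] at h
      show _ = (c : Wd) (f q) + _
      generalize ((x c : ↥golayCode) : Wd) none = a at h ⊢
      generalize ((x c : ↥golayCode) : Wd) q = b at h ⊢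
      generalize (c : Wd) r = a' at h ⊢
      generalize (c : Wd) (f q) = b' at h ⊢
      revert a b a' b'
      decide
  refine ⟨σ⁻¹, mem_M24_of_actW fun c hc => ?_, fun c => ⟨_, hform c⟩⟩
  have h := hform ⟨c, hc⟩
  rcases (by decide : ∀ a : ZMod 2, a = 0 ∨ a = 1) (((x ⟨c, hc⟩ : ↥golayCode) : Wd) none + c r) with e | e
  · rw [e, show (fun _ => (0 : ZMod 2) : Wd) = 0 from rfl, add_zero] at h
    exact h ▸ (x ⟨c, hc⟩).2
  · rw [e] at h
    have h2 : actW σ⁻¹ c = ((x ⟨c, hc⟩ : ↥golayCode) : Wd) + fun _ => 1 := by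
      rw [h, add_assoc, CharTwo.add_self_eq_zero, add_zero]
    exact h2 ▸ add_mem (x ⟨c, hc⟩).2 one_mem_code'

end

end Cfsg.Agent.Spor
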