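import Cfsg.Agent.Lib.Spor.U43Main

/-!
Large Fischer type: the extension of a group of order three by U4(3) has no fixed vector on a faithful
module of order 2^12.
-/

set_option autoImplicit false
set_option maxRecDepth 100000

namespace Cfsg.Agent.Spor.LFT

open Cfsg.Agent.Spor.U43
open Cfsg.Agent.Spor.SUSix (G6)

/-- automorphisms of an elementary abelian group as matrices -/
theorem toGL {V : Type*} [CommGroup V] [Finite V] (h2 : ∀ v : V, v * v = 1) {n : ℕ}
    (hc : Nat.card V = 2 ^ n) :
    ∃ f : MulAut V →* GL (Fin n) (ZMod 2), Function.Injective f := by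
  classical
  haveI : Fact (Nat.Prime 2) := ⟨Nat.prime_two⟩
  letI : Module (ZMod 2) (Additive V) := AddCommGroup.zmodModule fun x => by
    rw [two_nsmul]; exact h2 (Additive.toMul x)
  have hr : Module.finrank (ZMod 2) (Additive V) = n := by
    have h := Module.natCard_eq_pow_finrank (K := ZMod 2) (V := Additive V)
    rw [Nat.card_zmod, show Nat.card (Additive V) = 2 ^ n from hc] at h
    exact (Nat.pow_right_injective (le_refl 2) h).symm
  let b := Module.finBasisOfFinrankEq (ZMod 2) (Additive V) hr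
  let lin : MulAut V →* Module.End (ZMod 2) (Additive V) :=
    { toFun := fun a => (MonoidHom.toAdditive a.toMonoidHom).toZModLinearMap 2
      map_one' := LinearMap.ext fun _ => rfl
      map_mul' := fun _ _ => LinearMap.ext fun _ => rfl }
  let m : MulAut V →* Matrix (Fin n) (Fin n) (ZMod 2) :=
    ((LinearMap.toMatrixAlgEquiv b).toRingEquiv.toMulEquiv.toMonoidHom).comp lin
  refine ⟨m.toHomUnits, fun a c e => MulEquiv.ext fun v => ?_⟩
  have e1 := (LinearMap.toMatrixAlgEquiv b).injective (congrArg Units.val e : m a = m c)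
  exact congrArg Additive.toMul (LinearMap.congr_fun e1 (Additive.ofMul v))

theorem gl_three : ∀ n ≤ 11, ¬ 3 ^ 7 ∣ Nat.card (GL (Fin n) (ZMod 2)) := by
  intro n hn
  haveI : Fact (Nat.Prime 2) := ⟨Nat.prime_two⟩
  rw [Matrix.card_GL_field, ZMod.card]
  interval_cases n <;> decide +kernel

theorem gl_ten : (Nat.card (GL (Fin 10) (ZMod 2))).factorization 3 = 6 := by
  haveI : Fact (Nat.Prime 2) := ⟨Nat.prime_two⟩
  rw [Matrix.card_GL_field, ZMod.card,
    show (∏ i : Fin 10, (2 ^ 10 - 2 ^ (i : ℕ))) = 3 ^ 6 * 502661368038337624722636800 / 1 by decide +kernel]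
  rw [Nat.div_one, fact_three _ _ (by decide +kernel)]

/-- an abelian subgroup of order 243 in the linear group of dimension ten -/
theorem gl_abelian : ∃ D : Subgroup (GL (Fin 10) (ZMod 2)),
    Nat.card D = 243 ∧ ∀ x ∈ D, ∀ y ∈ D, x * y = y * x := by
  classical
  haveI : Fact (Nat.Prime 3) := ⟨Nat.prime_three⟩
  let W2 := Multiplicative (ZMod 2 × ZMod 2)
  let a : MulAut W2 := AddEquiv.toMultiplicative
    { toFun := fun p => (p.2, p.1 + p.2)
      invFun := fun p => (p.2 - p.1, p.1)
      left_inv := by decide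
      right_inv := by decide
      map_add' := by decide }
  have ha : orderOf a = 3 := orderOf_eq_prime
    (MulEquiv.ext (by revert a; decide +kernel))
    (fun e => absurd (MulEquiv.congr_fun e (Multiplicative.ofAdd (1, 0))) (by revert a; decide +kernel))
  let ρ : (Fin 5 → Subgroup.zpowers a) →* MulAut (Fin 5 → W2) :=
    { toFun := fun f => MulEquiv.piCongrRight fun i => (f i : MulAut W2)
      map_one' := rfl
      map_mul' := fun _ _ => rfl }
  have hρ : Function.Injective ρ := fun f g e => funext fun i => Subtype.ext (MulEquiv.ext fun x => by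
    have := congrFun (MulEquiv.congr_fun e (fun _ => x)) i
    exact this)
  obtain ⟨t, ht⟩ := toGL (V := Fin 5 → W2) (fun v => funext fun i => by
    show v i * v i = 1
    generalize v i = x
    revert x
    decide) (n := 10) (by simp [W2, Nat.card_pi, Nat.card_prod])
  refine ⟨(t.comp ρ).range, ?_, ?_⟩
  · rw [← Nat.card_congr (MonoidHom.ofInjective (f := t.comp ρ) (ht.comp hρ)).toEquiv, Nat.card_pi]
    rw [Finset.prod_const, Finset.card_univ, Fintype.card_fin, Nat.card_zpowers, ha]
    norm_num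
  · rintro _ ⟨f, rfl⟩ _ ⟨g, rfl⟩
    rw [← map_mul, ← map_mul]
    refine congrArg _ (funext fun i => Subtype.ext ?_)
    obtain ⟨x, hx⟩ := (f i).2
    obtain ⟨y, hy⟩ := (g i).2
    simp only [Pi.mul_apply, Subgroup.coe_mul, ← hx, ← hy]
    exact ((Commute.refl a).zpow_zpow x y).eq

/-- a group of three-part 3^6 acting faithfully on an elementary group of order 2^10 -/
theorem abelian_of_act {L : Type*} [Group L] [Finite L] (h6 : 3 ^ 6 ∣ Nat.card L) {W : Type*} [CommGroup W]
    [Finite W] (h2 : ∀ v : W, v * v = 1) (hc : Nat.card W = 2 ^ 10) (ψ : L →* MulAut W)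
    (hψ : Function.Injective ψ) :
    ∃ H : Subgroup L, Nat.card H = 243 ∧ ∀ x ∈ H, ∀ y ∈ H, x * y = y * x := by
  haveI : Fact (Nat.Prime 3) := ⟨Nat.prime_three⟩
  haveI : Fact (Nat.Prime 2) := ⟨Nat.prime_two⟩
  obtain ⟨t, ht⟩ := toGL h2 hc
  obtain ⟨D, hD, hDc⟩ := gl_abelian
  set f := t.comp ψ with hf
  have hinj : Function.Injective f := ht.comp hψ
  obtain ⟨P, hP⟩ := Sylow.exists_subgroup_card_pow_prime 3 h6
  obtain ⟨S, hS⟩ := (IsPGroup.of_card (n := 5) (by rw [hD]; norm_num) : IsPGroup 3 D).exists_le_sylow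
  have hSc : Nat.card S = 3 ^ 6 := by rw [Sylow.card_eq_multiplicity, gl_ten]
  obtain ⟨g, -, hg⟩ := exists_conj_of_card (K := ⊤) (P := (S : Subgroup (GL (Fin 10) (ZMod 2))))
    (Q := P.map f) (p := 3) (n := 6) (by rw [Subgroup.card_top, gl_ten]) le_top le_top hSc
    (by rw [Subgroup.card_map_of_injective hinj, hP])
  set D' := D.map (MulAut.conj g).toMonoidHom with hD'
  have hle : D' ≤ f.range := (Subgroup.map_mono hS).trans (hg ▸ Subgroup.map_le_range f P)
  refine ⟨D'.comap f, ?_, fun x hx y hy => hinj ?_⟩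
  · rw [← Subgroup.card_map_of_injective hinj, Subgroup.map_comap_eq_self hle,
      Subgroup.card_map_of_injective (MulAut.conj g).injective, hD]
  · obtain ⟨a, ha, ea⟩ := hx
    obtain ⟨b, hb, eb⟩ := hy
    rw [map_mul, map_mul, ← ea, ← eb, ← map_mul, ← map_mul, hDc a ha b hb]

theorem p6_small {H : Subgroup G6} (hle : H ≤ P6) (hc : 729 ≤ Nat.card H) :
    ¬ ∀ x ∈ H, ∀ y ∈ H, Comm1 x y := by
  classical
  intro hab
  have hN : H ≤ NN := hle.trans P6_le
  have h1 := card_mpOn hN
  have hR : (mpOn H hN).range ≤ S9 := by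
    rintro p ⟨x, rfl⟩
    exact (mem_lift6.mp (hle x.2)).choose_spec
  have hI : ∀ P : Fin 243 → Bool, (∀ e, dE e ∈ H → P e = true) →
      Nat.card (↥(H ⊓ DD) : Type) ≤ (Finset.univ.filter fun e => P e = true).card := by
    intro P hP
    have hsurj : Function.Surjective
        (fun e : {e : Fin 243 // dE e ∈ H} => (⟨dE e.1, e.2, dE_mem e.1⟩ : ↥(H ⊓ DD))) := by
      rintro ⟨A, hA, hA'⟩
      obtain ⟨e, rfl⟩ := exists_dE hA'
      exact ⟨⟨e, hA⟩, rfl⟩
    refine (Nat.card_le_card_of_surjective _ hsurj).trans ?_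
    rw [Nat.card_eq_fintype_card, Fintype.card_subtype]
    exact Finset.card_le_card (Finset.monotone_filter_right _ fun e _ he => hP e he)
  rcases eq_or_ne (mpOn H hN).range ⊥ with hb | hb
  · have hd : H ≤ DD := fun A hA => mem_lift6.mpr ⟨hN hA, Subgroup.mem_bot.mpr
      (Subgroup.mem_bot.mp (hb ▸ ⟨⟨A, hA⟩, rfl⟩ : mpOn H hN ⟨A, hA⟩ ∈ (⊥ : Subgroup (Equiv.Perm (Fin 6)))))⟩
    have := Subgroup.card_le_of_le hd
    rw [card_DD] at this
    omega
  · obtain ⟨⟨_, x, rfl⟩, hp1⟩ := Subgroup.ne_bot_iff_exists_ne_one.mp hb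
    have h2 := hI (fun e => CV (mpOn H hN x) e) fun e he => CV_of_comm (hN x.2) (hab _ x.2 _ he)
    have h3 := CV_small _ (hR ⟨x, rfl⟩) (fun e => hp1 (Subtype.ext e))
    have h4 : Nat.card (mpOn H hN).range ≤ 9 := card_S9 ▸ Subgroup.card_le_of_le hR
    have := Nat.mul_le_mul h4 (h2.trans h3)
    omega

/-- the group U4(3) has no abelian subgroup of order 243 -/
theorem psu_abelian (F : Type) [Field F] [Fintype F] (hF : Fintype.card F = 9)
    (H : Subgroup (Cfsg.PSU 4 F 3)) (hc : Nat.card H = 243) : ¬ ∀ x ∈ H, ∀ y ∈ H, x * y = y * x := by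
  intro hab
  haveI : Fact (Nat.Prime 3) := ⟨Nat.prime_three⟩
  obtain ⟨e⟩ := K1_iso F hF
  let q : K1 →* Cfsg.PSU 4 F 3 := e.toMonoidHom.comp (QuotientGroup.mk' _)
  have hq : Function.Surjective q := e.surjective.comp (QuotientGroup.mk'_surjective _)
  set H' := (H.comap q).map K1.subtype with hH'
  have hH'c : Nat.card H' = 729 := by
    rw [hH', Subgroup.card_map_of_injective K1.subtype_injective]
    have hi := Subgroup.index_comap_of_surjective H hq
    have h1 := (H.comap q).card_mul_index
    have h2 := H.card_mul_index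
    rw [hi, card_K1] at h1
    rw [hc, (Local.FS.McLSmall.Unitary.exists_psu_action hF).1] at h2
    rw [show H.index = 13440 by omega] at h1
    omega
  obtain ⟨S, hS⟩ := (IsPGroup.of_card (n := 6) (p := 3) (G := (H.comap q))
    (by rw [← Subgroup.card_map_of_injective K1.subtype_injective, ← hH', hH'c]; norm_num)).exists_le_sylow
  have hSc : Nat.card ((S : Subgroup K1).map K1.subtype) = 3 ^ 7 := by
    rw [Subgroup.card_map_of_injective K1.subtype_injective, Sylow.card_eq_multiplicity, card_K1, fact37]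
  obtain ⟨k, hk, hkP⟩ := exists_conj_of_card (K := K1) (P := (S : Subgroup K1).map K1.subtype) (Q := P6)
    (p := 3) (n := 7) (by rw [card_K1, fact37]) (Subgroup.map_subtype_le _)
    (P6_le_MM.trans MM_le_K1) hSc (by rw [card_P6]; norm_num)
  refine p6_small (H := H'.map (MulAut.conj k).toMonoidHom)
    (hkP ▸ Subgroup.map_mono (Subgroup.map_mono hS))
    (by rw [Subgroup.card_map_of_injective (MulAut.conj k).injective, hH'c]) ?_
  rintro _ ⟨_, ⟨x, hx, rfl⟩, rfl⟩ _ ⟨_, ⟨y, hy, rfl⟩, rfl⟩
  refine comm1_of_center ?_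
  have h1 : q (x * y) = q (y * x) := by rw [map_mul, map_mul]; exact hab _ hx _ hy
  have h2 : (y * x)⁻¹ * (x * y) ∈ Subgroup.center K1 :=
    QuotientGroup.eq.mp (e.injective h1).symm
  rw [center_K1, Subgroup.mem_subgroupOf] at h2
  have hz := (Subgroup.mem_center_iff.1 h2 k)
  show (MulAut.conj k (y : G6) * MulAut.conj k (x : G6))⁻¹ * (MulAut.conj k (x : G6) * MulAut.conj k (y : G6)) ∈ _
  rw [← map_mul, ← map_mul, ← map_inv, ← map_mul]
  rw [show MulAut.conj k (((y : G6) * x)⁻¹ * ((x : G6) * y)) = ((y : G6) * x)⁻¹ * ((x : G6) * y) by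
    show k * _ * k⁻¹ = _
    exact mul_inv_eq_iff_eq_mul.2 hz]
  exact h2

/-- the fixed point free action -/
theorem fpf {Γ : Type*} [Group Γ] [Finite Γ] {V : Type*} [CommGroup V] [Finite V] (h2 : ∀ v : V, v * v = 1)
    (hcard : Nat.card V = 2 ^ 12) (ψ : Γ →* MulAut V) (hψ : Function.Injective ψ) (w : Γ)
    (hw : orderOf w = 3) (hc : ∀ g : Γ, Commute w g) [hn : (Subgroup.zpowers w).Normal]
    (F : Type) [Field F] [Fintype F] (hF : Fintype.card F = 9)
    (hU : Nonempty (Γ ⧸ Subgroup.zpowers w ≃* Cfsg.PSU 4 F 3)) : ∀ v : V, ψ w v = v → v = 1 := by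
  obtain ⟨hUc, -⟩ := Local.FS.McLSmall.Unitary.exists_psu_action hF
  obtain ⟨eU⟩ := hU
  haveI : Fact (Nat.Prime 3) := ⟨Nat.prime_three⟩
  haveI : Fact (Nat.Prime 2) := ⟨Nat.prime_two⟩
  obtain ⟨-, -, σ, -, -, -, -, hσ⟩ := Cfsg.Agent.Classical.exists_usigma (F := F) (q := 3) (by rw [hF]; norm_num)
  haveI hsimp : IsSimpleGroup (Cfsg.PSU 4 F 3) := by
    letI : StarRing F := Cfsg.Agent.Small.Hermitian.starRingOfInvolution (σ : F →+* F) hσ.involutive
    exact Cfsg.Agent.Small.Unitary.psu_simple (fun x => hσ.apply_eq x) (by rw [hF]; norm_num) (by norm_num) (by norm_num)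
  haveI : IsSimpleGroup (Γ ⧸ Subgroup.zpowers w) := eU.isSimpleGroup_congr.mpr inferInstance
  have hΓ : Nat.card Γ = 9797760 := by
    rw [Subgroup.card_eq_card_quotient_mul_card_subgroup (Subgroup.zpowers w), Nat.card_congr eU.toEquiv,
      hUc, Nat.card_zpowers, hw]
  intro v0 hv0
  by_contra hne
  set W := ψ w with hW
  let d : V →* V := { toFun := fun v => W v * v
                      map_one' := by simp
                      map_mul' := fun a b => by rw [map_mul]; exact mul_mul_mul_comm _ _ _ _ }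
  have hinv : ∀ v : V, v⁻¹ = v := fun v => inv_eq_of_mul_eq_one_right (h2 v)
  have hd0 : ∀ v, d v = 1 ↔ W v = v := fun v => by
    show W v * v = 1 ↔ _
    rw [mul_eq_one_iff_eq_inv, hinv]
  have hW3 : ∀ v, W (W (W v)) = v := fun v => by
    show (W * W * W) v = v
    rw [hW, ← map_mul, ← map_mul, show w * w * w = w ^ orderOf w by rw [hw, pow_succ, pow_two], pow_orderOf_eq_one,
      map_one]
    rfl
  have hdd : ∀ v, d (d v) = 1 → d v = 1 := fun v hv => by
    rw [hd0] at hv ⊢
    have h1 : W (W v) * W v = W v * v := by rw [← map_mul]; exact hv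
    have h3 : W (W v) = v := by rw [mul_comm (W v) v] at h1; exact mul_right_cancel h1
    have h4 := hW3 v
    rwa [h3] at h4
  have hker : 2 ≤ Nat.card d.ker := by
    haveI : Nontrivial d.ker := ⟨⟨v0, (hd0 v0).2 hv0⟩, 1, fun e => hne (congrArg Subtype.val e)⟩
    exact Finite.one_lt_card
  have hmul : Nat.card d.range * Nat.card d.ker = 2 ^ 12 := by
    rw [← hcard, Subgroup.card_eq_card_quotient_mul_card_subgroup d.ker,
      Nat.card_congr (QuotientGroup.quotientKerEquivRange d).toEquiv]
  obtain ⟨k, hk, hk'⟩ := (Nat.dvd_prime_pow Nat.prime_two).1 (Dvd.intro _ hmul)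
  have hk11 : k ≤ 11 := by
    by_contra hh
    obtain rfl : k = 12 := by omega
    rw [hk'] at hmul
    omega
  have hcomm : ∀ g v, ψ g (W v) = W (ψ g v) := fun g v => by
    show (ψ g * ψ w) v = (ψ w * ψ g) v
    rw [← map_mul, ← map_mul, (hc g).eq]
  have hdg : ∀ g v, ψ g (d v) = d (ψ g v) := fun g v => by
    show ψ g (W v * v) = W (ψ g v) * ψ g v
    rw [map_mul, hcomm]
  have hmem : ∀ g, ∀ x ∈ d.range, ψ g x ∈ d.range := by
    rintro g _ ⟨v, rfl⟩
    exact ⟨ψ g v, (hdg g v).symm⟩
  let r : Γ →* MulAut d.range :=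
    { toFun := fun g =>
        { toFun := fun x => ⟨ψ g x, hmem g x x.2⟩
          invFun := fun x => ⟨ψ g⁻¹ x, hmem _ x x.2⟩
          left_inv := fun x => Subtype.ext (show ψ g⁻¹ (ψ g x) = x by
            rw [map_inv]; exact (ψ g).symm_apply_apply _)
          right_inv := fun x => Subtype.ext (show ψ g (ψ g⁻¹ x) = x by
            rw [map_inv]; exact (ψ g).apply_symm_apply _)
          map_mul' := fun x y => Subtype.ext (map_mul (ψ g) _ _) }
      map_one' := MulEquiv.ext fun x => Subtype.ext (by show ψ 1 (x : V) = x; rw [map_one]; rfl)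
      map_mul' := fun a b => MulEquiv.ext fun x => Subtype.ext (by
        show ψ (a * b) (x : V) = ψ a (ψ b x); rw [map_mul]; rfl) }
  have hL : ∀ g, g ∈ r.ker ↔ ∀ v, ψ g (d v) = d v := fun g => by
    rw [MonoidHom.mem_ker]
    refine ⟨fun e v => congrArg Subtype.val (MulEquiv.congr_fun e ⟨d v, v, rfl⟩), fun e => ?_⟩
    refine MulEquiv.ext fun x => Subtype.ext ?_
    obtain ⟨v, hv⟩ := x.2
    show ψ g (x : V) = x
    rw [← hv]; exact e v
  have hwL : w ∉ r.ker := by
    intro hwL
    refine absurd (hψ (MulEquiv.ext fun v => ?_ : ψ w = ψ 1)) fun e => by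
      rw [e, orderOf_one] at hw; omega
    rw [map_one]
    exact (hd0 v).1 (hdd v ((hd0 _).2 ((hL w).1 hwL v)))
  have hdisj : ∀ g ∈ r.ker, g ∈ Subgroup.zpowers w → g = 1 := by
    intro g hg hgz
    by_contra hg1
    apply hwL
    have hp : (Nat.card (Subgroup.zpowers w)).Prime := by rw [Nat.card_zpowers, hw]; exact Nat.prime_three
    haveI := Fact.mk hp
    have := zpowers_eq_top_of_prime_card (g := (⟨g, hgz⟩ : Subgroup.zpowers w)) rfl
      (fun e => hg1 (congrArg Subtype.val e))
    obtain ⟨m, hm⟩ := (this ▸ Subgroup.mem_top (⟨w, Subgroup.mem_zpowers w⟩ : Subgroup.zpowers w) :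
      (⟨w, Subgroup.mem_zpowers w⟩ : Subgroup.zpowers w) ∈ Subgroup.zpowers (⟨g, hgz⟩ : Subgroup.zpowers w))
    rw [show w = g ^ m from (congrArg Subtype.val hm).symm]
    exact zpow_mem hg m
  let qL : r.ker →* Γ ⧸ Subgroup.zpowers w := (QuotientGroup.mk' _).comp r.ker.subtype
  have hqL : Function.Injective qL := (injective_iff_map_eq_one _).2 fun g hg =>
    Subtype.ext (hdisj g g.2 ((QuotientGroup.eq_one_iff _).1 hg))
  haveI : qL.range.Normal := by
    rw [show qL.range = r.ker.map (QuotientGroup.mk' _) by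
      rw [MonoidHom.range_comp, Subgroup.range_subtype]]
    exact Subgroup.Normal.map inferInstance _ (QuotientGroup.mk'_surjective _)
  rcases IsSimpleGroup.eq_bot_or_eq_top_of_normal qL.range inferInstance with hb | ht
  · -- faithful on the moved part
    have hr : Function.Injective r := (injective_iff_map_eq_one _).2 fun g hg => by
      have : qL ⟨g, hg⟩ = 1 := Subgroup.mem_bot.1 (hb ▸ ⟨_, rfl⟩)
      exact congrArg Subtype.val (hqL (this.trans (map_one qL).symm))
    obtain ⟨t, ht⟩ := toGL (V := d.range) (fun x => Subtype.ext (h2 x)) hk'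
    exact gl_three k hk11 (dvd_trans (by rw [hΓ]; norm_num)
      (Subgroup.card_dvd_of_injective (t.comp r) (ht.comp hr)))
  · let eL : r.ker ≃* Cfsg.PSU 4 F 3 := ((MonoidHom.ofInjective hqL).trans
      ((MulEquiv.subgroupCongr ht).trans Subgroup.topEquiv)).trans eU
    obtain ⟨u, hu⟩ : ∃ u, d u ≠ 1 := by
      by_contra hh
      push Not at hh
      exact hwL ((hL w).2 fun v => by rw [hh v, map_one])
    set e := d u with he
    set Ee : Subgroup V := Subgroup.closure {e, W e} with hEe
    have hEd : Ee ≤ d.range := (Subgroup.closure_le _).2 (by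
      rintro x (rfl | rfl)
      · exact ⟨u, rfl⟩
      · exact hmem w e ⟨u, rfl⟩)
    have hne' : W e ≠ e := fun h => hu (hdd u ((hd0 _).2 h))
    let E4 : Subgroup V :=
      { carrier := {x | x = 1 ∨ x = e ∨ x = W e ∨ x = e * W e}
        one_mem' := Or.inl rfl
        mul_mem' := by
          have kl : ∀ p q x y : V, (x = 1 ∨ x = p ∨ x = q ∨ x = p * q) → (y = 1 ∨ y = p ∨ y = q ∨ y = p * q) →
              (x * y = 1 ∨ x * y = p ∨ x * y = q ∨ x * y = p * q) := by
            intro p q x y hx hy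
            have a : p * (p * q) = q := by rw [← mul_assoc, h2, one_mul]
            have b : q * p = p * q := mul_comm _ _
            have c : q * (p * q) = p := by rw [← mul_assoc, b, mul_assoc, h2, mul_one]
            have d : p * q * p = q := by rw [mul_comm (p * q), a]
            have e : p * q * q = p := by rw [mul_assoc, h2, mul_one]
            rcases hx with rfl | rfl | rfl | rfl <;> rcases hy with rfl | rfl | rfl | rfl <;>
              simp only [one_mul, mul_one, h2, a, b, c, d, e, true_or, or_true]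
          exact fun {x y} hx hy => kl e (W e) x y hx hy
        inv_mem' := fun {x} hx => by rw [hinv]; exact hx }
    have hE4 : Ee = E4 := le_antisymm ((Subgroup.closure_le _).2 (by
        rintro x (rfl | rfl)
        · exact Or.inr (Or.inl rfl)
        · exact Or.inr (Or.inr (Or.inl rfl))))
      (by
        have m1 : e ∈ Ee := Subgroup.subset_closure (Or.inl rfl)
        have m2 : W e ∈ Ee := Subgroup.subset_closure (Or.inr rfl)
        rintro x (rfl | rfl | rfl | rfl)
        exacts [one_mem _, m1, m2, mul_mem m1 m2])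
    have hEc : Nat.card E4 = 4 := by
      have hs : (E4 : Set V) = {1, e, W e, e * W e} := by
        ext x; simp [E4]
      rw [← SetLike.coe_sort_coe, hs, Nat.card_coe_set_eq]
      have n1 : W e ≠ 1 := fun h => hu (by simpa using h)
      have n2 : e * W e ≠ 1 := fun h => hne' (by rw [mul_eq_one_iff_eq_inv, hinv] at h; exact h.symm)
      rw [Set.ncard_insert_of_notMem (by simp [Ne.symm hu, Ne.symm n1, Ne.symm n2]),
        Set.ncard_insert_of_notMem (by simp [Ne.symm hne', n1]),
        Set.ncard_pair (by simp [hu])]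
    have hfixE : ∀ g : r.ker, Ee ≤ Ee.comap (ψ g).toMonoidHom := by
      intro g x hx
      obtain ⟨v, rfl⟩ := hEd hx
      show ψ g (d v) ∈ Ee
      rw [(hL g).1 g.2 v]; exact hx
    let χ : r.ker →* MulAut (V ⧸ Ee) :=
      { toFun := fun g => QuotientGroup.congr Ee Ee (ψ g) (by
          refine Subgroup.eq_of_le_of_card_ge (Subgroup.map_le_iff_le_comap.2 (hfixE g)) ?_
          rw [Subgroup.card_map_of_injective (ψ g).injective])
        map_one' := MulEquiv.ext fun x => by
          obtain ⟨v, rfl⟩ := QuotientGroup.mk_surjective x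
          show QuotientGroup.mk (ψ ((1 : r.ker) : Γ) v) = _
          rw [OneMemClass.coe_one, map_one]; rfl
        map_mul' := fun a b => MulEquiv.ext fun x => by
          obtain ⟨v, rfl⟩ := QuotientGroup.mk_surjective x
          show QuotientGroup.mk (ψ ((a * b : r.ker) : Γ) v) = QuotientGroup.mk (ψ a (ψ b v))
          rw [Subgroup.coe_mul, map_mul]; rfl }
    have hsplit : ∀ v, ∃ a ∈ d.ker, ∃ b ∈ d.range, a * b = v := by
      let f : d.ker × d.range → V := fun p => p.1.1 * p.2.1
      have hf : Function.Injective f := by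
        rintro ⟨a, b⟩ ⟨a', b'⟩ h
        have h1 : (a : V) * (a' : V) = (b : V) * (b' : V) := by
          have h' : (a : V) * b = a' * b' := h
          calc (a : V) * a' = (a * b) * (b * a') := by rw [← mul_assoc, mul_assoc (a : V), h2, mul_one]
            _ = _ := by rw [h', mul_assoc, mul_comm (b : V), ← mul_assoc (b' : V), mul_comm (b' : V) a',
                          mul_assoc (a' : V), ← mul_assoc (a' : V), h2, one_mul, mul_comm]
        obtain ⟨y, hy⟩ := mul_mem b.2 b'.2
        have h3 : d y = 1 := hdd y (by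
          rw [hy, ← h1]; exact (MonoidHom.mem_ker).1 (mul_mem a.2 a'.2))
        rw [← hy, h3] at h1
        have e1 : (a : V) = a' := by rw [mul_eq_one_iff_eq_inv, hinv] at h1; exact h1
        have e2 : (b : V) = b' := by
          have := h3.symm.trans hy; rw [eq_comm, mul_eq_one_iff_eq_inv, hinv] at this; exact this
        exact Prod.ext (Subtype.ext e1) (Subtype.ext e2)
      have hb : Function.Bijective f := by
        refine (Nat.bijective_iff_injective_and_card f).2 ⟨hf, ?_⟩
        rw [Nat.card_prod, hcard, mul_comm, hmul]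
      intro v
      obtain ⟨p, hp⟩ := hb.2 v
      exact ⟨_, p.1.2, _, p.2.2, hp⟩
    have hχ : Function.Injective χ := (injective_iff_map_eq_one _).2 fun g hg => by
      refine Subtype.ext (hψ ?_)
      rw [OneMemClass.coe_one, map_one]
      refine MulEquiv.ext fun v => ?_
      obtain ⟨a, ha, b, hb, rfl⟩ := hsplit v
      obtain ⟨y, rfl⟩ := hb
      rw [map_mul, (hL g).1 g.2 y]
      show ψ g a * d y = a * d y
      congr 1
      have hq : (QuotientGroup.mk (ψ g a) : V ⧸ Ee) = QuotientGroup.mk a := by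
        have := MulEquiv.congr_fun hg (QuotientGroup.mk a)
        exact this
      obtain ⟨y', hy'⟩ := hEd (QuotientGroup.eq.1 hq)
      have h1 : d ((ψ g a)⁻¹ * a) = 1 := by
        rw [map_mul, map_inv, ← hdg, MonoidHom.mem_ker.1 ha, map_one, inv_one, one_mul]
      rw [← hy'] at h1
      have h3 := hdd y' h1
      rw [h3] at hy'
      exact inv_mul_eq_one.1 hy'.symm
    haveI : Finite (Cfsg.PSU 4 F 3) := Finite.of_equiv _ eL.toEquiv
    obtain ⟨H, hH, hHc⟩ := abelian_of_act (L := r.ker) (by rw [Nat.card_congr eL.toEquiv, hUc]; norm_num)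
      (W := V ⧸ Ee) (fun x => by
        obtain ⟨v, rfl⟩ := QuotientGroup.mk_surjective x
        rw [← QuotientGroup.mk_mul, h2]; rfl) (by
        have := Subgroup.card_eq_card_quotient_mul_card_subgroup Ee
        rw [hcard, hE4, hEc] at this
        rw [hE4]; omega) χ hχ
    refine psu_abelian F hF (H.map eL.toMonoidHom)
      (by rw [Subgroup.card_map_of_injective eL.injective, hH]) ?_
    rintro _ ⟨x, hx, rfl⟩ _ ⟨y, hy, rfl⟩
    rw [← map_mul, ← map_mul, hHc x hx y hy]

end Cfsg.Agent.Spor.LFT
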