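import Cfsg.Agent.Lib.Spor.CoTypeShape

/-!
Involutions of rank four in the commutator subgroup of the isometry group of a plus form in dimension eight,
and the centraliser of an element of order seven.
-/

set_option autoImplicit false
set_option maxRecDepth 100000
set_option linter.unusedSectionVars false

namespace Cfsg.Agent.Spor.CoT

open Chk Dat Cfsg.Agent.Classical

/-- parameters in the last plane -/
def Big (a : V) : Prop := a = e3 ∨ a = f3 ∨ a = n0

theorem big_facts {a : V} (h : Big a) : InP a ∧ pol a e1 = 0 ∧ pol a e2 = 0 ∧ a ≠ 0 := by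
  rcases h with rfl | rfl | rfl <;> (simp only [InP]; decide +kernel)

set_option synthInstance.maxSize 4000 in
theorem plane_cases : ∀ a : V, InP a → pol a e1 = 0 → pol a e2 = 0 →
    a + (a (.inl 1) • e1 + a (.inl 2) • e2) = 0 ∨ a + (a (.inl 1) • e1 + a (.inl 2) • e2) = e3 ∨
      a + (a (.inl 1) • e1 + a (.inl 2) • e2) = f3 ∨ a + (a (.inl 1) • e1 + a (.inl 2) • e2) = n0 := by
  simp only [InP]; decide +kernel

theorem shift_val : ∀ x y : ZMod 2, InP (x • f2 + y • f1) ∧ pol (x • f2 + y • f1) e2 = x ∧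
    pol (x • f2 + y • f1) e1 = y ∧ InP (x • e1 + y • e2) := by
  simp only [InP]; decide +kernel

theorem small_Sg : Small Sg := by
  obtain ⟨c, hc⟩ := isConj_iff.1 Sg_conj
  exact ⟨c, by rw [hc]; exact (R_spec inP_facts.2.1).1⟩

theorem decomp_big {s : Ga} (hs : s * s = 1) (h0 : s • e0 = e0)
    (hP : ∀ v, pol e0 v = 0 → qm (s • v + v) = 0) :
    ∃ c ∈ St, RadAt ((c * s * c⁻¹ : Ga) : OG) ∨ c * s * c⁻¹ = Sg ∨ ∃ a, Big a ∧ c * s * c⁻¹ = Sg * R a := by
  obtain ⟨c, hc, hr | ⟨a, ha, a1, a2, he⟩⟩ :=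
    decomp (s := (s : OG)) (by rw [← Subgroup.coe_mul, hs]; rfl) h0 hP
  · exact ⟨c, hc, Or.inl hr⟩
  have he' : c * s * c⁻¹ = Sg * R a := Subtype.ext he
  obtain ⟨hk, k2, k1, hl⟩ := shift_val (a (.inl 1)) (a (.inl 2))
  set k := a (.inl 1) • f2 + a (.inl 2) • f1 with hkd
  have s0 : Sg ∈ St := Sg_fix.1
  have e : R k * c * s * (R k * c)⁻¹ = Sg * R (a + (a (.inl 1) • e1 + a (.inl 2) • e2)) := by
    have h1 : R (nz (Sg • k)) = Sg * R k * Sg := by
      rw [← R_conj s0 hk, inv_eq_of_mul_eq_one_right Sg_sq]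
    have h2 : nz (Sg • k) = k + (a (.inl 1) • e1 + a (.inl 2) • e2) := by
      rw [Sg_act, k2, k1, add_assoc, nz_add, nz_of_inP hk, nz_of_inP hl]
    have h3 : R k * (Sg * R a) * R k = Sg * (R (nz (Sg • k)) * R a * R k) := by
      rw [h1, show Sg * (Sg * R k * Sg * R a * R k) = (Sg * Sg) * (R k * (Sg * R a) * R k) by group, Sg_sq, one_mul]
    rw [show R k * c * s * (R k * c)⁻¹ = R k * (c * s * c⁻¹) * (R k)⁻¹ by group, he',
      inv_eq_of_mul_eq_one_right (R_sq hk), h3, h2, R_mul (inP_add hk hl) ha, R_mul (inP_add (inP_add hk hl) ha) hk,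
      show k + (a (.inl 1) • e1 + a (.inl 2) • e2) + a + k =
        a + (a (.inl 1) • e1 + a (.inl 2) • e2) + (k + k) by abel, ZModModule.add_self, add_zero]
  refine ⟨R k * c, mul_mem (R_e0 hk) hc, Or.inr ?_⟩
  rcases plane_cases a ha a1 a2 with h | h | h | h <;> rw [h] at e
  · exact Or.inl (by rw [e, R_zero, mul_one])
  · exact Or.inr ⟨_, Or.inl rfl, e⟩
  · exact Or.inr ⟨_, Or.inr (Or.inl rfl), e⟩
  · exact Or.inr ⟨_, Or.inr (Or.inr rfl), e⟩

theorem big_jump {a : V} (h : Big a) : ∃ v, pol e0 v = 0 ∧ (Sg * R a) • v + v = e0 := by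
  obtain ⟨v, hv0, hv, hv1, hv2⟩ : ∃ v, pol e0 v = 0 ∧ pol v a = 1 ∧ pol v e1 = 0 ∧ pol v e2 = 0 := by
    rcases h with rfl | rfl | rfl
    · exact ⟨f3, by decide +kernel, by decide +kernel, by decide +kernel, by decide +kernel⟩
    · exact ⟨e3, by decide +kernel, by decide +kernel, by decide +kernel, by decide +kernel⟩
    · exact ⟨e3, by decide +kernel, by decide +kernel, by decide +kernel, by decide +kernel⟩
  refine ⟨v, hv0, ?_⟩
  rw [mul_smul, R_act (big_facts h).1 hv0, hv, one_smul, smul_add', Sg_fix.1, Sg_act, hv1, hv2, zero_smul, zero_smul,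
    add_zero, add_zero, add_right_comm, ZModModule.add_self, zero_add]

theorem big_fix {a : V} (h : Big a) {w : V} (hw : (Sg * R a) • w = w) : ∃ u, (Sg * R a) • u + u = w := by
  have hb := List.all_eq_true.mp big_ok (enc a) (by
    rcases h with rfl | rfl | rfl <;> simp [e3, f3, n0, enc_vec])
  simp only [List.all_eq_true, List.mem_range, Bool.or_eq_true, List.any_eq_true, Bool.not_eq_true'] at hb
  have hcols : IsCols ((Sg * R a : Ga) : OG) (mulL sgc (radL (enc a))) :=
    Sg_cols.mul (R_spec (big_facts h).1).2.2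
  rcases hb (enc w) (enc_lt w) with e | ⟨u, hu, e⟩
  · rw [← enc_osmul hcols, coe_smul, hw, Nat.beq_refl] at e; cases e
  refine ⟨vec u, enc_injective ?_⟩
  rw [enc_add, ← coe_smul, enc_osmul hcols, enc_vec u hu]
  exact Nat.eq_of_beq_eq_true e

theorem rf_act {d : V} (hd : qm d = 1) (v : V) : (OOmega.rf QF d : OG) • v = v + pol d v • d := by
  show ORefl.refl QF d v = _
  rw [ORefl.refl_apply, show QF d = 1 by rw [coe_QF, hd], inv_one, one_mul, ← pol_eq_polar, ZModModule.sub_eq_add]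

theorem rf_not_mem {d : V} (hd : qm d = 1) : (OOmega.rf QF d : OG) ∉ Ga := by
  intro hm
  obtain ⟨D, hD⟩ := OOmega.exists_dickson (Q := QF) QF_pnd
  have hidx := OOmega.index_two QF_pnd (by rw [Module.finrank_fintype_fun_eq_card]; simp)
    (Or.inr (by rw [Module.finrank_fintype_fun_eq_card]; simp))
  have hc := Subgroup.card_mul_index (commutator OG)
  rw [hidx, card_OG] at hc
  have hc' : Nat.card (commutator OG) = 174182400 := by omega
  have h1 := Abelianization.commutator_subset_ker D (index_sq hc' hm)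
  rw [MonoidHom.mem_ker, hD d (by rw [coe_QF, hd]; exact one_ne_zero), ← ofAdd_zero] at h1
  exact one_ne_zero (Multiplicative.ofAdd.injective h1)

theorem diag_sing {s : Ga} (hs : s * s = 1) {d : V} (hd : ∀ v, qm (s • v + v) = pol v d) (hfix : s • d = d) :
    qm d = 0 := by
  by_contra hn
  have hd1 : qm d = 1 := (show ∀ b : ZMod 2, b ≠ 0 → b = 1 by decide) _ hn
  set r : OG := OOmega.rf QF d with hrd
  have hr : r * r = 1 := OOmega.rf_mul_self d
  have hsO : (s : OG) * s = 1 := by rw [← Subgroup.coe_mul, hs]; rfl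
  have hcomm : (s : OG) * r = r * s := by
    have := OOmega.conj_rf (s : OG) d
    rw [show ((s : OG)).1 d = d from hfix] at this
    exact mul_inv_eq_iff_eq_mul.1 this
  set t : OG := r * s with htd
  have ht : t * t = 1 := by
    rw [htd, show r * s * (r * s) = r * ((s : OG) * r) * s by group, hcomm, show r * (r * s) * s = (r * r) * ((s : OG) * s) by group,
      hr, hsO, one_mul]
  have hA : ∀ v, qm (t • v + v) = 0 := by
    intro v
    have hp : pol d (s • v) = pol d v := by conv_lhs => rw [← hfix, smul_pol]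
    have hu : pol (s • v + v) d = 0 := by
      rw [pol_comm', pol_add_right, hp, ZModModule.add_self]
    rw [htd, mul_smul, hrd, rf_act hd1, coe_smul, hp, add_right_comm, qm_add, qm_smul, hd1, mul_one, pol_smul_right,
      hu, mul_zero, add_zero, hd v, pol_comm' v d, ZModModule.add_self]
  have hnot : t ∉ Ga := fun hm => rf_not_mem hd1 (by
    have := Ga.mul_mem hm s.2
    rwa [htd, mul_assoc, hsO, mul_one] at this)
  obtain ⟨v, hv⟩ : ∃ v : V, t • v + v ≠ 0 := by
    by_contra! hall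
    refine hnot ?_
    have : t = 1 := Subtype.ext (LinearEquiv.ext fun v => by
      show t • v = v
      rw [eq_neg_of_add_eq_zero_left (hall v), ZModModule.neg_eq_self])
    rw [this]; exact Ga.one_mem
  obtain ⟨g, hg⟩ := exists_smul hv (hA v)
  set t' : OG := (g : OG)⁻¹ * t * (g : OG) with ht'
  have hg' : (g : OG) • e0 = t • v + v := hg
  obtain ⟨c, -, hr' | ⟨a, -, -, -, he⟩⟩ := decomp (s := t')
    (by rw [ht', show (g : OG)⁻¹ * t * g * ((g : OG)⁻¹ * t * g) = (g : OG)⁻¹ * (t * t) * g by group, ht]; group)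
    (by rw [ht', mul_smul, mul_smul, hg', img_fix ht, inv_smul_eq_iff, hg'])
    (fun w _ => by
      rw [ht', mul_smul, mul_smul, ← osmul_qm (g : OG), osmul_add, smul_inv_smul]
      exact hA _)
  all_goals
    refine hnot ?_
    rw [show t = (g : OG) * (c : OG)⁻¹ * ((c : OG) * t' * (c : OG)⁻¹) * ((g : OG) * (c : OG)⁻¹)⁻¹ by rw [ht']; group]
    refine Ga.mul_mem (Ga.mul_mem (Ga.mul_mem g.2 (Ga.inv_mem c.2)) ?_) (Ga.inv_mem (Ga.mul_mem g.2 (Ga.inv_mem c.2)))
  · exact rad_mem hr'
  · rw [he]; exact (Sg * R a : Ga).2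

theorem small_one : Small 1 := ⟨1, by rw [one_mul, one_mul, inv_one]; exact rad_one.1⟩

theorem big_form {s : Ga} (hs : s * s = 1) (hn : ¬ Small s) : ∃ c : Ga, ∃ a, Big a ∧ c * s * c⁻¹ = Sg * R a := by
  have hsO : (s : OG) * s = 1 := by rw [← Subgroup.coe_mul, hs]; rfl
  obtain ⟨d, hd, hfix⟩ := exists_diag hsO
  obtain ⟨x, hx0, hxq, hxs, hxd⟩ : ∃ x, x ≠ 0 ∧ qm x = 0 ∧ s • x = x ∧ (d = 0 ∨ d = x) := by
    by_cases h : d = 0
    · obtain ⟨v, hv⟩ : ∃ v : V, s • v + v ≠ 0 := by
        by_contra! hall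
        refine hn ?_
        rw [show s = 1 from Subtype.ext (Subtype.ext (LinearEquiv.ext fun v => by
          show s • v = v
          rw [eq_neg_of_add_eq_zero_left (hall v), ZModModule.neg_eq_self]))]
        exact small_one
      exact ⟨_, hv, by rw [← coe_smul, hd, h, pol_zero_right], img_fix hsO v, Or.inl h⟩
    · exact ⟨d, h, diag_sing hs hd hfix, hfix, Or.inr rfl⟩
  obtain ⟨g, hg⟩ := exists_smul hx0 hxq
  obtain ⟨c, -, h⟩ := decomp_big (s := g⁻¹ * s * g)
    (by rw [show g⁻¹ * s * g * (g⁻¹ * s * g) = g⁻¹ * (s * s) * g by group, hs]; group)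
    (by rw [mul_smul, mul_smul, hg, hxs, inv_smul_eq_iff, hg])
    (fun v hv => by
      rw [mul_smul, mul_smul, ← smul_qm g, smul_add', smul_inv_smul, ← coe_smul s, hd]
      rcases hxd with e | e
      · rw [e, pol_zero_right]
      · rw [e, ← hg, smul_pol, pol_comm', hv])
  have e : c * (g⁻¹ * s * g) * c⁻¹ = c * g⁻¹ * s * (c * g⁻¹)⁻¹ := by group
  rcases h with h | h | ⟨a, ha, h⟩ <;> rw [e] at h
  · exact absurd ⟨_, h⟩ hn
  · refine absurd ?_ hn
    rw [show s = (c * g⁻¹)⁻¹ * (c * g⁻¹ * s * (c * g⁻¹)⁻¹) * (c * g⁻¹)⁻¹⁻¹ by group, h]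
    exact small_Sg.conj _
  · exact ⟨_, a, ha, h⟩

theorem crit {s : Ga} (hs : s * s = 1) (h0 : s • e0 = e0)
    (hj : ∀ v, pol e0 v = 0 → s • v + v = e0 → False) : Small s := by
  by_contra hn
  obtain ⟨c, a, ha, he⟩ := big_form hs hn
  have hw : (Sg * R a) • (c • e0) = c • e0 := by rw [← he, mul_smul, mul_smul, inv_smul_smul, h0]
  obtain ⟨u, hu⟩ := big_fix ha hw
  have hv : s • (c⁻¹ • u) + c⁻¹ • u = e0 := by
    rw [← he, mul_smul, mul_smul] at hu
    calc s • (c⁻¹ • u) + c⁻¹ • u = c⁻¹ • (c • (s • (c⁻¹ • u)) + u) := by rw [smul_add', inv_smul_smul]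
      _ = e0 := by rw [hu, inv_smul_smul]
  refine hj _ ?_ hv
  conv_lhs => rw [← hv]
  rw [pol_add_left, pol_self, add_zero, ← coe_smul, ← qm_img, coe_smul, hv, basic.1]

theorem sA_conj_type {s : Ga} (h : IsConj s sA) (v : V) : qm (s • v + v) = 0 := by
  obtain ⟨c, rfl⟩ := isConj_iff.1 h.symm
  rw [qm_conj, sA_type]

theorem sC_cases {s : Ga} (h : IsConj s sC) (hr : ¬ RadAt (s : OG)) : ∃ v, pol e0 v = 0 ∧ qm (s • v + v) = 1 := by
  obtain ⟨c, rfl⟩ := isConj_iff.1 h.symm
  by_contra! hn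
  refine hr ?_
  have hp : ∀ v, pol e0 v = 0 → pol (c • e0) v = 0 := fun v hv => by
    have := (show ∀ b : ZMod 2, b ≠ 1 → b = 0 by decide) _ (hn v hv)
    rwa [qm_conj, sC_diag, ← smul_pol c, smul_inv_smul, pol_comm'] at this
  rcases perp_perp hp with e | e
  · exact absurd ((smul_eq_iff_eq_inv_smul c).1 e |>.trans (smul_zero' _)) e0_facts.1
  · exact (rad_conj (c := (c : OG)) e (R_spec inP_facts.2.2.2.2.2.2.2.1).1).1

theorem seven_pow : gel 0 ^ 7 = 1 ∧ gel 0 ≠ 1 := by
  have h1 : IsCols (gel 0) (gn 0) := gel_cols (by norm_num)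
  have hw : IsCols ((List.replicate 7 0).map gel).prod (wp (List.replicate 7 0)) :=
    wel_cols fun i hi => by rw [List.eq_of_mem_replicate hi]; norm_num
  rw [List.map_replicate, List.prod_replicate] at hw
  refine ⟨hw.ext ?_, fun e => ?_⟩
  · rw [show wp (List.replicate 7 0) = idL by decide +kernel]; exact IsCols.one
  · rw [e] at h1
    exact absurd (IsCols.one.unique h1) (by decide +kernel)

theorem seven_key {s : Ga} (hs : s * s = 1) (hc : Commute (s : OG) (gel 0)) : s = 1 := by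
  have hsv := seven_ok
  simp only [sevenOK, Bool.and_eq_true, List.all_eq_true, List.mem_range, beq_iff_eq] at hsv
  obtain ⟨⟨⟨⟨hA, hB⟩, hid⟩, hfix⟩, hall⟩ := hsv
  have hp : IsCols (gel 0) (gens.getD 0 []) := gel_cols (by norm_num)
  set p := gens.getD 0 [] with hpd
  set L := cols (s : OG) with hLd
  have hL : IsCols (s : OG) L := isCols_cols _
  have hmem : ∀ c < 256, app p c = c → app L c ∈ [0, 29, 170, 183] := by
    intro c hc' hpc
    have hv : gel 0 • vec c = vec c := enc_injective (by rw [enc_osmul hp, enc_vec c hc', hpc])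
    have e : app p (app L c) = app L c := by
      rw [← enc_vec c hc', ← enc_osmul hL, ← enc_osmul hp, ← mul_smul, ← hc.eq, mul_smul, hv]
    have hlt : app L c < 256 := by rw [← enc_vec c hc', ← enc_osmul hL]; exact enc_lt _
    rcases Bool.eq_false_or_eq_true (Nat.beq (app p (app L c)) (app L c)) with h | h
    · have := hfix _ hlt
      rw [h] at this
      simpa using this
    · rw [e, Nat.beq_refl] at h; cases h
  have happ : ∀ c, c < 256 → app L (app p c) = app p (app L c) := fun c hc' => by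
    rw [← enc_vec c hc', ← enc_osmul hp, ← enc_osmul hL, ← enc_osmul hL, ← enc_osmul hp, ← mul_smul, ← mul_smul, hc.eq]
  have hplt : ∀ c, c < 256 → app p c < 256 := fun c hc' => by
    rw [← enc_vec c hc', ← enc_osmul hp]; exact enc_lt _
  set b := [2, app p 2, app p (app p 2), app p (app p (app p 2)), app p (app p (app p (app p 2))),
    app p (app p (app p (app p (app p 2)))), 29, 170] with hbd
  have hid' : mulL b co7 = idL := hid
  have hcand : cand7 (app L 2) (app L 29) (app L 170) = mulL (mulL L b) co7 := by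
    have l1 := hplt 2 (by norm_num)
    have l2 := hplt _ l1
    have l3 := hplt _ l2
    have l4 := hplt _ l3
    rw [hbd]
    simp only [cand7, mulL, List.map_cons, List.map_nil]
    rw [happ _ l4, happ _ l3, happ _ l2, happ _ l1, happ _ (by norm_num)]
  have heq : cand7 (app L 2) (app L 29) (app L 170) = L := by
    rw [hcand]
    refine List.ext_getElem (by simp [mulL, co7, hL.1]) fun k h1 h2 => ?_
    have hk : k < 8 := by rw [← hL.1]; exact h2
    have hck : k < co7.length := hk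
    simp only [mulL, List.getElem_map]
    have hblt : ∀ x ∈ b, x < 256 := by rw [hbd, hpd]; decide +kernel
    have hLlt : ∀ x ∈ L, x < 256 := fun x hx => by
      obtain ⟨i, -, rfl⟩ := List.mem_map.mp hx; exact enc_lt _
    have hmlt : ∀ x ∈ mulL L b, x < 256 := fun x hx => by
      obtain ⟨y, -, rfl⟩ := List.mem_map.mp hx; exact app_lt hLlt y
    show app (mulL L b) co7[k] = L[k]
    rw [← enc_vec _ (app_lt hmlt co7[k]), app_mulL (by simp [hbd]), enc_vec _ (app_lt hLlt _)]
    have e : app b co7[k] = 2 ^ k := by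
      have := congrArg (fun l : List ℕ => l.getD k 0) hid'
      simp only [mulL, List.getD_eq_getElem?_getD, List.getElem?_map, List.getElem?_eq_getElem hck] at this
      simp only [Option.map_some, Option.getD_some] at this
      rw [this]
      interval_cases k <;> rfl
    rw [e, app_unit L k hk]
    exact List.getD_eq_getElem _ _ h2
  have hLw : app L 2 < 256 := by rw [← enc_vec 2 (by norm_num : (2 : ℕ) < 256), ← enc_osmul hL]; exact enc_lt _
  have h := hall _ hLw _ (hmem 29 (by norm_num) (Nat.eq_of_beq_eq_true hA)) _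
    (hmem 170 (by norm_num) (Nat.eq_of_beq_eq_true hB))
  rw [heq] at h
  simp only [Bool.or_eq_true, Bool.not_eq_true', beq_eq_false_iff_ne, ne_eq, beq_iff_eq] at h
  rcases h with ((h | h) | h) | h
  · exfalso
    rw [List.all_eq_false] at h
    obtain ⟨k, hk, hbad⟩ := h
    have hk' := List.mem_range.mp hk
    have es : Nat.shiftLeft 1 k = 2 ^ k := (Nat.shiftLeft_eq 1 k).trans (one_mul _)
    have hlt : 2 ^ k < 256 := Nat.pow_lt_pow_right (by norm_num : 1 < 2) hk'
    refine hbad ?_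
    rw [Bool.and_eq_true, List.all_eq_true]
    refine ⟨?_, fun j hj => ?_⟩
    · have e := osmul_qm (s : OG) (vec (2 ^ k))
      rw [qm_enc, qm_enc (vec _), show enc ((s : OG) • vec (2 ^ k)) = L.getD k 0 from (hL.getD hk').symm,
        enc_vec _ hlt] at e
      have e' := (ZMod.natCast_eq_natCast_iff' _ _ 2).mp e
      rw [Nat.mod_eq_of_lt (qc_lt _), Nat.mod_eq_of_lt (qc_lt _)] at e'
      rw [es, e']; exact Nat.beq_refl _
    · have hj' := List.mem_range.mp hj
      have es' : Nat.shiftLeft 1 j = 2 ^ j := (Nat.shiftLeft_eq 1 j).trans (one_mul _)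
      have e := osmul_pol (s : OG) (vec (2 ^ k)) (vec (2 ^ j))
      rw [pol_enc, pol_enc, show enc ((s : OG) • vec (2 ^ k)) = L.getD k 0 from (hL.getD hk').symm,
        show enc ((s : OG) • vec (2 ^ j)) = L.getD j 0 from (hL.getD hj').symm, enc_vec _ hlt,
        enc_vec _ (Nat.pow_lt_pow_right (by norm_num : 1 < 2) hj')] at e
      have e' := (ZMod.natCast_eq_natCast_iff' _ _ 2).mp e
      have hl : ∀ a b, pc a b < 2 := fun a b => Nat.mod_lt _ (by norm_num)
      rw [Nat.mod_eq_of_lt (hl _ _), Nat.mod_eq_of_lt (hl _ _)] at e'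
      rw [es, es', e']; exact Nat.beq_refl _
  · exact absurd ((hL.mul hL).unique (by rw [← Subgroup.coe_mul, hs]; exact IsCols.one)) h
  · exact Subtype.ext (hL.ext (h ▸ IsCols.one))
  · exfalso
    have h29 := ref7_ok
    simp only [ref7OK, Bool.and_eq_true, List.all_eq_true, List.mem_range] at h29
    have hd : qm (vec 29) = 1 := by
      rw [qm_enc, enc_vec 29 (by norm_num), Nat.eq_of_beq_eq_true h29.1, Nat.cast_one]
    refine rf_not_mem hd ?_
    have e : (OOmega.rf QF (vec 29) : OG) = s := by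
      refine Subtype.ext (LinearEquiv.ext fun v => enc_injective ?_)
      show enc ((OOmega.rf QF (vec 29) : OG) • v) = enc ((s : OG) • v)
      rw [rf_act hd, enc_osmul hL, h, Nat.eq_of_beq_eq_true (h29.2 _ (enc_lt v)), pol_comm']
      rcases pol_cases v (vec 29) with ⟨a, a'⟩ | ⟨a, a'⟩ <;> rw [enc_vec 29 (by norm_num)] at a' <;> rw [a, a']
      · rw [zero_smul, add_zero]; rfl
      · rw [one_smul, enc_add, enc_vec 29 (by norm_num)]; rfl
    rw [e]; exact s.2

theorem no_seven {s p : Ga} (hs : s * s = 1) (hs1 : s ≠ 1) (hp : p ^ 7 = 1) (hc : Commute p s) : p = 1 := by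
  by_contra hp1
  haveI : Fact (Nat.Prime 7) := ⟨by norm_num⟩
  obtain ⟨h7, hne⟩ := seven_pow
  let q : Ga := ⟨gel 0, gel_mem (by norm_num)⟩
  have oq : orderOf q = 7 := orderOf_eq_prime (Subtype.ext (by simpa [q] using h7)) (fun e => hne (congrArg Subtype.val e))
  have op : orderOf p = 7 := orderOf_eq_prime hp hp1
  have hf : (Nat.card Ga).factorization 7 = 1 := by
    rw [card_Ga, show (174182400 : ℕ) = 7 * 24883200 from rfl, Nat.factorization_mul (by norm_num) (by norm_num)]
    simp [Nat.Prime.factorization_self (show Nat.Prime 7 by norm_num),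
      Nat.factorization_eq_zero_of_not_dvd (show ¬ 7 ∣ 24883200 by norm_num)]
  let P : Sylow 7 Ga := Sylow.ofCard (Subgroup.zpowers p) (by rw [Nat.card_zpowers, op, hf, pow_one])
  let P' : Sylow 7 Ga := Sylow.ofCard (Subgroup.zpowers q) (by rw [Nat.card_zpowers, oq, hf, pow_one])
  obtain ⟨c, hcP⟩ := MulAction.exists_smul_eq Ga P' P
  have hmem : c * q * c⁻¹ ∈ (P : Subgroup Ga) := by
    rw [← hcP]; exact ⟨q, Subgroup.mem_zpowers q, rfl⟩
  obtain ⟨k, hk⟩ := Subgroup.mem_zpowers_iff.1 hmem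
  have hcomm : Commute (c * q * c⁻¹) s := hk ▸ hc.zpow_left k
  have h2 : Commute (c⁻¹ * s * c) q := by
    have := ((Commute.conj_iff c⁻¹).2 hcomm).symm
    simpa [show c⁻¹ * (c * q * c⁻¹) * c = q by group] using this
  have h3 := seven_key (s := c⁻¹ * s * c)
    (by rw [show c⁻¹ * s * c * (c⁻¹ * s * c) = c⁻¹ * (s * s) * c by group, hs]; group)
    (show Commute ((c⁻¹ * s * c : Ga) : OG) ((q : Ga) : OG) from h2.map Ga.subtype)
  exact hs1 (by rw [show s = c * (c⁻¹ * s * c) * c⁻¹ by group, h3]; group)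

end Cfsg.Agent.Spor.CoT
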