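import Cfsg.Agent.Lib.Spor.CoTypeDefs

/-!
The checks on the commutator subgroup of the isometry group of a plus form in dimension eight, evaluated.
-/

set_option autoImplicit false
set_option maxRecDepth 100000

namespace Cfsg.Agent.Spor.CoT.Chk

open Dat

theorem gen_ok : genOK = true := by decide +kernel

theorem ext_ok : extOK = true := by decide +kernel

theorem chain_ok : chainOK [] levels = true := by decide +kernel

theorem sing_ok : singOK = true := by decide +kernel

theorem rad_ok : radOK = true := by decide +kernel

theorem rep_ok : repOK = true := by decide +kernel

theorem line_ok : lineOK = true := by decide +kernel

theorem fix_ok : fixOK = true := by decide +kernel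

theorem u2_ok : u2OK = true := by decide +kernel

theorem v0_ok : v0OK = true := by decide +kernel

theorem adj_ok : adjOK = true := by decide +kernel

theorem sg_ok : sgOK = true := by decide +kernel

theorem swap_ok : swapOK = true := by decide +kernel

theorem cA_ok : cAOK = true := by decide +kernel

theorem span_ok : spanOK = true := by decide +kernel

theorem big_ok : bigOK = true := by decide +kernel

theorem chain_size : chainSize levels = 174182400 := by decide +kernel

end Cfsg.Agent.Spor.CoT.Chk
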