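import Cfsg.Agent.Lib.Spor.CoTypeDefs

/-!
Further checks: explicit forms of the column lists and the centraliser of an element of order seven.
-/

set_option autoImplicit false
set_option maxRecDepth 100000

namespace Cfsg.Agent.Spor.CoT.Chk

open Dat

/-- the radical elements fix the first point and move vectors orthogonal to it within their classes -/
def radActOK : Bool :=
  (List.range 256).all fun a => !inP6 a ||
    (let L := radL a; Nat.beq (app L 1) 1 && Nat.beq (m1 (Nat.xor (app L 16) 16)) a &&
      (List.range 256).all fun c => Nat.beq (pc c 1) 1 || Nat.beq (app L c) c || Nat.beq (app L c) (Nat.xor c 1))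

/-- the Siegel element on all codes -/
def sgActOK : Bool :=
  (List.range 256).all fun c => Nat.beq (app sgc c) (Nat.xor (Nat.xor c (pc c 4 * 2)) (pc c 2 * 4))

/-- coordinates for a basis adapted to the element of order seven -/
def co7 : List Nat := [236, 1, 113, 55, 234, 16, 185, 166]

/-- a candidate commuting with the element of order seven -/
def cand7 (w a b : Nat) : List Nat :=
  let g := gens.getD 0 []
  mulL [w, app g w, app g (app g w), app g (app g (app g w)), app g (app g (app g (app g w))),
    app g (app g (app g (app g (app g w)))), a, b] co7

/-- the other involutory candidate -/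
def ref7 : List Nat := [28, 2, 4, 8, 13, 32, 93, 157]

/-- only two isometric involutory candidates -/
def sevenOK : Bool :=
  let g := gens.getD 0 []
  Nat.beq (app g 29) 29 && Nat.beq (app g 170) 170 && cand7 2 29 170 == idL &&
    ((List.range 256).all fun c => !Nat.beq (app g c) c || [0, 29, 170, 183].contains c) &&
      (List.range 256).all fun w => [0, 29, 170, 183].all fun a => [0, 29, 170, 183].all fun b =>
        let L := cand7 w a b
        !((List.range 8).all fun k => Nat.beq (qc (L.getD k 0)) (qc (Nat.shiftLeft 1 k)) &&
            (List.range 8).all fun j => Nat.beq (pc (L.getD k 0) (L.getD j 0)) (pc (Nat.shiftLeft 1 k) (Nat.shiftLeft 1 j))) ||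
          !(mulL L L == idL) || L == idL || L == ref7

/-- the other candidate is the reflection at a fixed nonsingular vector -/
def ref7OK : Bool :=
  Nat.beq (qc 29) 1 && (List.range 256).all fun c => Nat.beq (app ref7 c) (bif Nat.beq (pc c 29) 1 then Nat.xor c 29 else c)

theorem radAct_ok : radActOK = true := by decide +kernel

theorem sgAct_ok : sgActOK = true := by decide +kernel

theorem seven_ok : sevenOK = true := by decide +kernel

theorem ref7_ok : ref7OK = true := by decide +kernel

end Cfsg.Agent.Spor.CoT.Chk
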