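import Cfsg.Agent.Lib.Spor.CoTypePair

/-!
Groups of Conway type: every involution of the centraliser is conjugate to the central one or to one of two
representatives over the radical.
-/

set_option autoImplicit false
set_option maxRecDepth 100000
set_option linter.unusedSectionVars false

namespace Cfsg.Agent.Spor.CoT

open Cfsg.Agent.Classical

theorem lin3 : ∀ i j k : ZMod 2, i • e1 + j • e2 + k • e0 = 0 → i = 0 ∧ j = 0 ∧ k = 0 := by decide +kernel

theorem lin2 : ∀ i j : ZMod 2, nz (i • e1 + j • e2) = 0 → i = 0 ∧ j = 0 := by decide +kernel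

theorem plane_q : ∀ v : V, pol e0 v = 0 → pol v e1 = 0 → pol v e2 = 0 →
    (pol v e3 = qm e3 ∨ pol v f3 = qm f3 ∨ pol v n0 = qm n0) → qm v = 0 := by decide +kernel

theorem plane_pol :
    pol e3 f3 = 1 ∧ pol f3 e3 = 1 ∧ pol n0 e3 = 1 ∧ pol n0 f3 = 1 ∧ pol e3 e3 = 0 ∧ pol f3 f3 = 0 ∧
      pol f2 e2 = 1 ∧ pol f2 e1 = 0 ∧ pol f1 e2 = 0 ∧ pol f1 e1 = 1 ∧ pol e3 n0 = 1 ∧ pol e3 w0 = 0 ∧
      pol f2 n0 = 0 ∧ pol f2 w0 = 1 ∧ pol f1 f2 = 0 := by
  decide +kernel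

theorem nonzero_facts : e1 ≠ 0 ∧ e2 ≠ 0 ∧ n0 ≠ 0 := by decide +kernel

theorem nz_low : ∀ v : V, pol e0 v = 0 → nz v ≠ 0 → nz v ≠ e1 → v ≠ 0 ∧ v ≠ e0 ∧ v ≠ e1 ∧ v ≠ e0 + e1 := by
  decide +kernel

theorem commute_perp {b : V} (hb : InP b) (hc : Commute (R b) Sg) : pol b e1 = 0 ∧ pol b e2 = 0 := by
  have s0 : Sg ∈ St := Sg_fix.1
  have h : nz (Sg • b) = b := R_inj (St_inP s0 hb) hb (by rw [← R_conj s0 hb, ← hc.eq, mul_inv_cancel_right])
  rw [Sg_act, add_assoc, nz_add, nz_of_inP hb, add_eq_left] at h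
  exact ⟨(lin2 _ _ h).2, (lin2 _ _ h).1⟩

theorem perp_commute {b : V} (hb : InP b) (h1 : pol b e1 = 0) (h2 : pol b e2 = 0) : Commute (R b) Sg := by
  have e : nz (Sg • b) = b := by
    rw [Sg_act, h1, h2, zero_smul, zero_smul, add_zero, add_zero, nz_of_inP hb]
  have := R_conj (c := Sg) Sg_fix.1 hb
  rw [e] at this
  exact (mul_inv_eq_iff_eq_mul.1 this : Sg * R b = R b * Sg).symm

theorem R_comm {a b : V} (ha : InP a) (hb : InP b) : Commute (R a) (R b) := by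
  show R a * R b = R b * R a
  rw [R_mul ha hb, R_mul hb ha, add_comm]

universe u

variable {G : Type u} [Group G] [Finite G] {z : G} {Q : Subgroup G} (F : Frame z Q)
include F

variable {x : G}

theorem lift_Sg (h : Hyp z Q) (B : Base F x) :
    ∃ e : Subgroup.centralizer ({z} : Set G), (e : G) * e = 1 ∧ F.π e = Sg ∧ Commute (e : G) x ∧
      (∃ y ∈ Q, F.vec y = e1 ∧ InQ z Q y e ∧ InQ z Q y z ∧ ¬ InQ z Q y x) ∧
      ∀ q ∈ Q, pol (F.vec q) e1 = 0 → pol (F.vec q) e2 = 0 → Commute q (e : G) := by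
  obtain ⟨g, hg0, hgA, hg2⟩ := cA_spec
  obtain ⟨k, rfl⟩ := F.π_surj g
  obtain ⟨-, Pe1, -⟩ := inP_facts
  obtain ⟨m, hm⟩ := Mem.exists F h B Pe1
  have hee : ((k * m * k⁻¹ : Subgroup.centralizer ({z} : Set G)) : G) * (k * m * k⁻¹ :
      Subgroup.centralizer ({z} : Set G)) = 1 := by
    show (k : G) * m * (k : G)⁻¹ * ((k : G) * m * (k : G)⁻¹) = 1
    rw [conj_mul, Msq F h B hm, val_facts.1, Iel_00 F]; group
  have hge1 : ∃ i : ZMod 2, F.π k • e1 = i • e1 + e2 := by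
    have e : F.π k • sA • f0 = Sg • F.π k • f0 := by
      rw [← hgA, mul_smul, mul_smul, inv_smul_smul]
    rw [show sA • f0 = f0 + e1 by rw [sA, R_f0 Pe1, val_facts.1, zero_smul, add_zero], smul_add', Sg_act,
      show pol (F.π k • f0) e1 = 1 by rw [← hg0, smul_pol, pol_comm', basic.2.2.1], one_smul, add_assoc] at e
    exact ⟨_, add_left_cancel e⟩
  have hcomm : ∀ q ∈ Q, pol (F.vec q) e1 = 0 → pol (F.vec q) e2 = 0 →
      Commute q ((k * m * k⁻¹ : Subgroup.centralizer ({z} : Set G)) : G) := by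
    intro q hq h1 h2
    obtain ⟨i, hi⟩ := hge1
    have hq' : (k : G)⁻¹ * q * (k : G)⁻¹⁻¹ ∈ Q := h.norm _ (mem_C.1 k⁻¹.2) q hq
    have hv' : F.vec ((k : G)⁻¹ * q * (k : G)⁻¹⁻¹) = (F.π k)⁻¹ • F.vec q := by
      rw [← map_inv]; exact F.vec_conj k⁻¹ q hq
    have p0 : pol e0 ((F.π k)⁻¹ • F.vec q) = 0 := by
      rw [← smul_pol (F.π k), smul_inv_smul, hg0, pol_comm', h1]
    have p1 : pol ((F.π k)⁻¹ • F.vec q) e1 = 0 := by
      rw [← smul_pol (F.π k), smul_inv_smul, hi, pol_add_right, pol_smul_right, h1, h2, mul_zero, add_zero]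
    have e := pairing F h B hm hq' (by rw [hv', p0])
    rw [hv', p1, Iel_00 F, one_mul] at e
    have := (Commute.conj_iff (k : G)).2 (show Commute _ (m : G) from e)
    rwa [show (k : G) * ((k : G)⁻¹ * q * (k : G)⁻¹⁻¹) * (k : G)⁻¹ = q by group] at this
  have hy : (k : G) * x * (k : G)⁻¹ ∈ Q := h.norm k (mem_C.1 k.2) x B.mem
  refine ⟨k * m * k⁻¹, hee, by rw [map_mul, map_mul, map_inv, hm.2.2, ← hgA]; rfl, ?_,
    ⟨_, hy, by rw [F.vec_conj k x B.mem, B.vec, hg0], hm.2.1.conj (k : G), ?_, ?_⟩, hcomm⟩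
  · exact (hcomm x B.mem (by rw [B.vec]; exact val_facts.2.2.2.2.2.2.2.2.1)
      (by rw [B.vec]; exact val_facts.2.2.2.2.2.2.2.2.2.1)).symm
  · have := (base_mem F h B).conj (k : G)
    rwa [(mem_C.1 k.2).eq, mul_inv_cancel_right] at this
  · intro hn
    have h1 := hn.conj (k : G)⁻¹
    rw [show (k : G)⁻¹ * ((k : G) * x * (k : G)⁻¹) * (k : G)⁻¹⁻¹ = x by group] at h1
    obtain ⟨i, j, e⟩ := sect_Iel F h B (h.norm _ (mem_C.1 k⁻¹.2) x B.mem) h1
    have e' := congrArg F.vec e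
    rw [(Iel_mem F h B i j).2.2, F.vec_conj k⁻¹ x B.mem, map_inv, B.vec, inv_smul_eq_iff.2 hg2.symm] at e'
    have := congrArg nz e'
    rw [nz_add, nz_e0, nz_of_inP inP_facts.2.2.1, zero_add] at this
    refine nonzero_facts.2.1 (this.trans ?_)
    rcases zm2 i with rfl | rfl
    · rw [zero_smul, nz_of_inP inP_facts.1]
    · rw [one_smul, nz_e0]

theorem big_comm_x (h : Hyp z Q) (B : Base F x) {t : Subgroup.centralizer ({z} : Set G)}
    (htt : (t : G) * t = 1) {a : V} (ha : Big a) (hπ : F.π t = Sg * R a) : Commute (t : G) x := by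
  obtain ⟨v, -, hv⟩ := big_jump ha
  obtain ⟨q, hq, rfl⟩ := F.vec_surj v
  have hc := h.norm t (mem_C.1 t.2) q hq
  have hti : (t : G)⁻¹ = t := inv_eq_of_mul_eq_one_right htt
  obtain ⟨j, hj⟩ := vec_Iel F h B (mul_mem hc (inv_mem hq)) (i := 1)
    (by rw [F.vec_mul _ hc _ (inv_mem hq), vec_inv F h hq, F.vec_conj t q hq, hπ, hv, one_smul])
  have e : (t : G) * Iel z x 1 j * (t : G)⁻¹ = Iel z x 1 j := by
    conv_rhs => rw [← Iel_inv F h B 1 j, ← hj]
    rw [← hj]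
    simp only [mul_inv_rev, inv_inv, hti]
    rw [show (t : G) * ((t : G) * q * t * q⁻¹) * t = (t : G) * t * (q * t * q⁻¹ * t) by group, htt]
    group
  have h1 : Commute (t : G) (Iel z x 1 j) := mul_inv_eq_iff_eq_mul.1 e
  have h2 := h1.mul_right (show Commute (t : G) (Iel z x 0 j) by
    rcases zm2 j with rfl | rfl
    · rw [Iel_00 F]; exact Commute.one_right _
    · rw [Iel_01 F]; exact mem_C.1 t.2)
  rwa [Iel_mul F h B, add_zero, ZModModule.add_self, Iel_10 F] at h2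

/-- commutators with the elements over parameters orthogonal to the two Siegel points lie on one axis -/
def Ok (F : Frame z Q) (x : G) (t : G) : Prop :=
  ∀ b : V, pol b e1 = 0 → pol b e2 = 0 → ∀ m, Mem F x b m → ∃ i, t * (m : G) = Iel z x i 0 * ((m : G) * t)

theorem big_ok (h : Hyp z Q) (B : Base F x) {t : Subgroup.centralizer ({z} : Set G)} (htt : (t : G) * t = 1)
    {a : V} (ha : Big a) (hπ : F.π t = Sg * R a) :
    ∃ t' : Subgroup.centralizer ({z} : Set G), IsConj (t : G) t' ∧ F.π t' = Sg * R a ∧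
      Commute (t' : G) x ∧ Ok F x (t' : G) := by
  classical
  obtain ⟨Pa, a1, a2, -⟩ := big_facts ha
  have htx := big_comm_x F h B htt ha hπ
  have htz : Commute (t : G) z := mem_C.1 t.2
  obtain ⟨e, hee, heπ, hex, ⟨y, hy, hyv, hye, hyz, hyx⟩, hecomm⟩ := lift_Sg F h B
  have hei : (e : G)⁻¹ = e := inv_eq_of_mul_eq_one_right hee
  have hez : Commute (e : G) z := mem_C.1 e.2
  obtain ⟨m, hm⟩ := Mem.exists F h B Pa
  obtain ⟨mx, mz⟩ := hm.comm F h
  obtain ⟨ε, hε⟩ : ∃ ε, (e : G) * m * (e : G)⁻¹ = Iel z x 0 ε * m := by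
    have hQ : ((e * m * e⁻¹ * m⁻¹ : Subgroup.centralizer ({z} : Set G)) : G) ∈ Q := (F.π_ker _).1 (by
      rw [map_mul, map_mul, map_mul, map_inv, map_inv, heπ, hm.2.2, ← (perp_commute Pa a1 a2).eq,
        mul_inv_cancel_right, mul_inv_cancel])
    change (e : G) * m * (e : G)⁻¹ * (m : G)⁻¹ ∈ Q at hQ
    have hX : InQ z Q x ((e : G) * m * (e : G)⁻¹ * (m : G)⁻¹) := (hm.2.1.conj' hex).mul h hm.2.1.inv
    have hmy : Commute (m : G) y := by
      have := pairing F h B hm hy (by rw [hyv]; exact val_facts.2.2.2.2.2.2.2.2.1)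
      rw [hyv, pol_comm', a1, Iel_00 F, one_mul] at this
      exact this.symm
    have hY : InQ z Q y ((e : G) * m * (e : G)⁻¹ * (m : G)⁻¹) := by
      rw [show (e : G) * m * (e : G)⁻¹ * (m : G)⁻¹ = (e : G) * ((m : G) * (e : G)⁻¹ * (m : G)⁻¹) by group]
      exact hye.mul h (hye.inv.conj' hmy)
    obtain ⟨i, j, hij⟩ := sect_Iel F h B hQ hX
    rcases zm2 i with rfl | rfl
    · exact ⟨j, by rw [← hij]; group⟩
    exfalso
    rw [hij] at hY
    rcases zm2 j with rfl | rfl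
    · rw [Iel_10 F] at hY; exact hyx hY
    · rw [Iel_11 F] at hY
      have := hY.mul h hyz
      rw [mul_assoc, zz h, mul_one] at this
      exact hyx this
  set q := (m : G)⁻¹ * (e : G)⁻¹ * t with hqd
  have hq : q ∈ Q := by
    refine (F.π_ker (m⁻¹ * e⁻¹ * t)).1 ?_
    rw [map_mul, map_mul, map_inv, map_inv, heπ, hm.2.2, hπ]; group
  have hqx : Commute q x := (mx.inv_left.mul_left hex.inv_left).mul_left htx
  have hv0 : pol e0 (F.vec q) = 0 := comm_x_iff F B hq hqx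
  set v := F.vec q with hvd
  have ht : (t : G) = (e : G) * m * q := by rw [hqd]; group
  set p := pol v a with hp
  have hem : (e : G) * m * ((e : G) * m) = Iel z x (qm a) ε := by
    rw [show (e : G) * m * ((e : G) * m) = (e : G) * m * e * m by group]
    nth_rewrite 2 [← hei]
    rw [hε, mul_assoc, Msq F h B hm, Iel_mul F h B, zero_add, add_zero]
  have hvec : pol v e2 = 0 ∧ pol v e1 = 0 ∧ p + qm a = 0 := by
    have hc := h.norm _ (hez.mul_left mz) q hq
    have e' : (e : G) * m * q * ((e : G) * m)⁻¹ * ((e : G) * m * ((e : G) * m)) * q = 1 := by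
      rw [← htt, ht]; group
    rw [hem] at e'
    obtain ⟨hI, -, hIv⟩ := Iel_mem F h B (qm a) ε
    have := congrArg F.vec e'
    rw [F.vec_mul _ (mul_mem hc hI) q hq, F.vec_mul _ hc _ hI, hIv,
      show F.vec ((e : G) * m * q * ((e : G) * m)⁻¹) = F.π (e * m) • v from F.vec_conj (e * m) q hq, map_mul, heπ,
      hm.2.2, vec_one F h, mul_smul, R_act Pa hv0, smul_add', smul_smul', Sg_fix.1, Sg_act,
      show v + pol v e2 • e1 + pol v e1 • e2 + pol v a • e0 + qm a • e0 + v =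
        pol v e2 • e1 + pol v e1 • e2 + (pol v a + qm a) • e0 + (v + v) by rw [add_smul]; abel,
      ZModModule.add_self, add_zero] at this
    exact lin3 _ _ _ this
  obtain ⟨v2, v1, hpa⟩ := hvec
  have hpa' : p = qm a := by rw [eq_neg_of_add_eq_zero_left hpa, ZModModule.neg_eq_self]
  have hq0 : qm v = 0 := plane_q v hv0 v1 v2 (by
    rcases ha with e' | e' | e' <;> rw [e'] at hp hpa'
    exacts [Or.inl (hp ▸ hpa'), Or.inr (Or.inl (hp ▸ hpa')), Or.inr (Or.inr (hp ▸ hpa'))])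
  have hqe : Commute q (e : G) := hecomm q hq v1 v2
  have heps : p + ε = 0 := by
    have : (t : G) * t = Iel z x (p + qm a) (p + ε) := by
      rw [ht]
      calc (e : G) * m * q * ((e : G) * m * q) = (e : G) * m * (q * e) * m * q := by group
        _ = (e : G) * m * e * (q * (m : G)) * q := by rw [hqe.eq]; group
        _ = ((e : G) * m * e) * Iel z x p p * ((m : G) * (q * q)) := by
          rw [pairing F h B hm hq hv0]; simp only [← hvd, ← hp]; group
        _ = Iel z x p p * ((e : G) * m * ((e : G) * m)) * (q * q) := by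
          rw [(Iel_comm F p p ((hex.mul_left mx).mul_left hex) ((hez.mul_left mz).mul_left hez)).eq]; group
        _ = _ := by
          rw [hem, Qsq F h (x := x) hq, ← hvd, hq0, Iel_00 F, mul_one, Iel_mul F h B]
    exact (Iel_eq_one F h B (this.symm.trans htt)).2
  -- the commutator functional
  have hμ : ∀ b, ∃ μ : ZMod 2, pol b e1 = 0 → pol b e2 = 0 → ∀ n, Mem F x b n →
      ∃ i, (t : G) * n = Iel z x i μ * ((n : G) * t) := by
    intro b
    by_cases hb : InP b ∧ pol b e1 = 0 ∧ pol b e2 = 0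
    · obtain ⟨Pb, b1, b2⟩ := hb
      obtain ⟨n, hn⟩ := Mem.exists F h B Pb
      obtain ⟨nx, nz'⟩ := hn.comm F h
      have hQ : ((t * n * t⁻¹ * n⁻¹ : Subgroup.centralizer ({z} : Set G)) : G) ∈ Q := (F.π_ker _).1 (by
        rw [map_mul, map_mul, map_mul, map_inv, map_inv, hπ, hn.2.2,
          (((perp_commute Pb b1 b2).symm.mul_left (R_comm Pa Pb))).eq, mul_inv_cancel_right, mul_inv_cancel])
      obtain ⟨i, j, hij⟩ := sect_Iel F h B hQ ((hn.2.1.conj' htx).mul h hn.2.1.inv)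
      change (t : G) * n * (t : G)⁻¹ * (n : G)⁻¹ = _ at hij
      refine ⟨j, fun _ _ n' hn' => ⟨i, ?_⟩⟩
      obtain ⟨i', j', e'⟩ := hn.indep F h B hn'
      have hc := Iel_comm F i' j' htx htz
      rw [e', ← hij]
      calc (t : G) * ((n : G) * Iel z x i' j') = (t : G) * n * (t : G)⁻¹ * ((t : G) * Iel z x i' j') := by group
        _ = (t : G) * n * (t : G)⁻¹ * (Iel z x i' j' * (t : G)) := by rw [hc.eq]
        _ = _ := by group
    · exact ⟨0, fun b1 b2 n hn => absurd ⟨hn.1, b1, b2⟩ hb⟩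
  choose μ hμ using hμ
  have huniq : ∀ b n, pol b e1 = 0 → pol b e2 = 0 → Mem F x b n → ∀ i j,
      (t : G) * n = Iel z x i j * ((n : G) * t) → μ b = j := fun b n b1 b2 hn i j e' => by
    obtain ⟨i', e''⟩ := hμ b b1 b2 n hn
    exact (Iel_inj F h B (mul_right_cancel (e''.symm.trans e'))).2
  have hadd : ∀ b c, InP b → InP c → pol b e1 = 0 → pol b e2 = 0 → pol c e1 = 0 → pol c e2 = 0 →
      μ (b + c) = μ b + μ c := by
    intro b c Pb Pc b1 b2 c1 c2
    obtain ⟨n, hn⟩ := Mem.exists F h B Pb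
    obtain ⟨k, hk⟩ := Mem.exists F h B Pc
    obtain ⟨i, ei⟩ := hμ b b1 b2 n hn
    obtain ⟨j, ej⟩ := hμ c c1 c2 k hk
    refine huniq _ _ (by rw [pol_add_left, b1, c1, add_zero]) (by rw [pol_add_left, b2, c2, add_zero])
      (hn.mul F h hk) (i + j) _ ?_
    show (t : G) * ((n : G) * k) = _ * ((n : G) * k * t)
    calc (t : G) * ((n : G) * k) = (t : G) * n * k := (mul_assoc _ _ _).symm
      _ = Iel z x i (μ b) * (n : G) * ((t : G) * k) := by rw [ei]; group
      _ = Iel z x i (μ b) * ((n : G) * Iel z x j (μ c)) * (k * (t : G)) := by rw [ej]; group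
      _ = _ := by rw [(Iel_comm F j (μ c) (hn.comm F h).1 (hn.comm F h).2).eq, ← mul_assoc (Iel z x i (μ b)),
            Iel_mul F h B]; group
  have hLpt : ∀ f l : V, InP f → InP l → nz (Sg • f) = f + l → qm l = 0 → pol l e1 = 0 → pol l e2 = 0 →
      μ l = 0 := by
    intro f l Pf Pl hfl hql l1 l2
    obtain ⟨k, hk⟩ := Mem.exists F h B Pf
    have hu : Mem F x l (t * k * t⁻¹ * k⁻¹) := ⟨Pl, (hk.2.1.conj' htx).mul h hk.2.1.inv, by
      rw [map_mul, map_mul, map_mul, map_inv, map_inv, hk.2.2, hπ, R_inv Pf,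
        show Sg * R a * R f * (Sg * R a)⁻¹ = Sg * (R a * R f * (R a)⁻¹) * Sg⁻¹ by group, (R_comm Pa Pf).eq,
        mul_inv_cancel_right, R_conj Sg_fix.1 Pf, hfl, R_mul (inP_add Pf Pl) Pf, add_comm f l, add_assoc,
        ZModModule.add_self, add_zero]⟩
    have huu := Msq F h B hu
    rw [hql, Iel_00 F] at huu
    have hti : (t : G)⁻¹ = t := inv_eq_of_mul_eq_one_right htt
    refine huniq l _ l1 l2 hu 0 0 ?_
    rw [Iel_00 F, one_mul]
    change (t : G) * k * (t : G)⁻¹ * (k : G)⁻¹ * ((t : G) * k * (t : G)⁻¹ * (k : G)⁻¹) = 1 at huu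
    show (t : G) * ((t : G) * k * (t : G)⁻¹ * (k : G)⁻¹) = (t : G) * k * (t : G)⁻¹ * (k : G)⁻¹ * t
    rw [show (t : G) * k * (t : G)⁻¹ * (k : G)⁻¹ * t = ((t : G) * k * (t : G)⁻¹ * (k : G)⁻¹)⁻¹ * t by
      rw [inv_eq_of_mul_eq_one_right huu]]
    rw [hti]
    simp only [mul_inv_rev, inv_inv, hti]
    rw [show (t : G) * ((t : G) * k * t * (k : G)⁻¹) = (t : G) * t * (k * t * (k : G)⁻¹) by group, htt,
      show (k : G) * ((t : G) * ((k : G)⁻¹ * t)) * t = (k : G) * t * (k : G)⁻¹ * ((t : G) * t) by group, htt]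
    group
  obtain ⟨-, Pe1, Pe2, Pe3, Pf1, Pf2, Pf3, Pn, -⟩ := inP_facts
  obtain ⟨q1, q2, -, -, -, -, -, -, -, -, p12, -, -, -, -, -, p1n, -⟩ := val_facts
  obtain ⟨p33, p33', pn3, pn3', p3, p3', pf22, pf21, pf12, pf11, -⟩ := plane_pol
  have μe1 : μ e1 = 0 := hLpt f2 e1 Pf2 Pe1 (by
    rw [Sg_act, pf22, pf21, one_smul, zero_smul, add_zero, nz_of_inP (inP_add Pf2 Pe1)]) q1 (pol_self _) p12
  have μe2 : μ e2 = 0 := hLpt f1 e2 Pf1 Pe2 (by
    rw [Sg_act, pf12, pf11, one_smul, zero_smul, add_zero, nz_of_inP (inP_add Pf1 Pe2)]) q2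
    (by rw [pol_comm']; exact p12) (pol_self _)
  have μ0 : μ 0 = 0 := by
    have := hadd 0 0 inP_facts.1 inP_facts.1 (pol_zero_left _) (pol_zero_left _) (pol_zero_left _) (pol_zero_left _)
    rwa [add_zero, ZModModule.add_self] at this
  have μa : μ a = 0 := huniq a m a1 a2 hm p _ (by
    show (t : G) * m = Iel z x p 0 * ((m : G) * t)
    calc (t : G) * m = (e : G) * m * (q * (m : G)) := by rw [ht]; group
      _ = ((e : G) * m) * Iel z x p p * ((m : G) * q) := by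
        rw [pairing F h B hm hq hv0]; simp only [← hvd, ← hp]; group
      _ = Iel z x p p * ((e : G) * m * (e : G)⁻¹) * ((e : G) * m * q) := by
        rw [(Iel_comm F p p (hex.mul_left mx) (hez.mul_left mz)).eq]; group
      _ = Iel z x p p * Iel z x 0 ε * ((m : G) * t) := by rw [hε, ← ht]; group
      _ = _ := by rw [Iel_mul F h B, add_zero, heps])
  have e3n : μ n0 = μ e3 + μ f3 := by
    obtain ⟨P3, Q3, -, -, h33⟩ := qn_split
    rw [← h33]
    exact hadd _ _ P3 Q3 (big_facts (Or.inl rfl)).2.1 (big_facts (Or.inl rfl)).2.2.1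
      (big_facts (Or.inr (Or.inl rfl))).2.1 (big_facts (Or.inr (Or.inl rfl))).2.2.1
  obtain ⟨k, hk⟩ : ∃ k, ∀ c, Big c → μ c = k * pol a c := by
    rcases ha with e' | e' | e' <;> subst e'
    · refine ⟨μ f3, ?_⟩
      rintro c (rfl | rfl | rfl)
      · rw [μa, pol_self, mul_zero]
      · rw [p33, mul_one]
      · rw [e3n, μa, zero_add, qn_split.2.2.2.2.symm, pol_add_right, pol_self, p33, zero_add, mul_one]
    · refine ⟨μ e3, ?_⟩
      rintro c (rfl | rfl | rfl)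
      · rw [p33', mul_one]
      · rw [μa, pol_self, mul_zero]
      · rw [e3n, μa, add_zero, qn_split.2.2.2.2.symm, pol_add_right, pol_self, p33', add_zero, mul_one]
    · refine ⟨μ e3, ?_⟩
      rintro c (rfl | rfl | rfl)
      · rw [pn3, mul_one]
      · have := e3n
        rw [μa] at this
        rw [pn3', mul_one, eq_neg_of_add_eq_zero_right this.symm, ZModModule.neg_eq_self]
      · rw [μa, pol_self, mul_zero]
  have hall : ∀ b, InP b → pol b e1 = 0 → pol b e2 = 0 → μ b = k * pol a b := by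
    intro b Pb b1 b2
    obtain ⟨-, -, -, Pl⟩ := shift_val (b (.inl 1)) (b (.inl 2))
    set l := b (.inl 1) • e1 + b (.inl 2) • e2 with hl
    have l1 : pol l e1 = 0 := by
      rw [hl, pol_add_left, pol_smul_left, pol_smul_left, pol_self, pol_comm' e2 e1, p12]; simp
    have l2 : pol l e2 = 0 := by
      rw [hl, pol_add_left, pol_smul_left, pol_smul_left, pol_self, p12]; simp
    have al : pol a l = 0 := by
      rw [hl, pol_add_right, pol_smul_right, pol_smul_right, a1, a2]; simp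
    have μl : μ l = 0 := by
      rw [hl]
      rcases zm2 (b (.inl 1)) with e' | e' <;> rcases zm2 (b (.inl 2)) with e'' | e'' <;>
        simp only [e', e'', zero_smul, one_smul, add_zero, zero_add, μ0, μe1, μe2]
      rw [hadd _ _ Pe1 Pe2 (pol_self _) p12 (by rw [pol_comm']; exact p12) (pol_self _), μe1, μe2, add_zero]
    have hbl : μ b = μ (b + l) + μ l := by
      rw [← hadd _ _ (inP_add Pb Pl) Pl (by rw [pol_add_left, b1, l1, add_zero])
        (by rw [pol_add_left, b2, l2, add_zero]) l1 l2, add_assoc, ZModModule.add_self, add_zero]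
    have hpl : pol a (b + l) = pol a b := by rw [pol_add_right, al, add_zero]
    rw [hbl, μl, add_zero, ← hpl]
    rcases plane_cases b Pb b1 b2 with e' | e' | e' | e' <;> rw [← hl] at e' <;> rw [e']
    · rw [μ0, pol_zero_right, mul_zero]
    · exact hk _ (Or.inl rfl)
    · exact hk _ (Or.inr (Or.inl rfl))
    · exact hk _ (Or.inr (Or.inr rfl))
  rcases zm2 k with rfl | rfl
  · refine ⟨t, IsConj.refl _, hπ, htx, fun b b1 b2 n hn => ?_⟩
    obtain ⟨i, ei⟩ := hμ b b1 b2 n hn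
    rw [hall b hn.1 b1 b2, zero_mul] at ei
    exact ⟨i, ei⟩
  obtain ⟨l, hl, hlv⟩ := F.vec_surj f0
  have hlx : l * x * l⁻¹ = x * z := swap_x F h B hl (by rw [hlv]; exact basic.2.2.1)
  set t' : Subgroup.centralizer ({z} : Set G) := cC (Qz h hl) * t * (cC (Qz h hl))⁻¹ with ht'
  have ht'x : Commute (t' : G) x := by
    have h1 : Commute (l * (t : G) * l⁻¹) (x * z) := by rw [← hlx]; exact (Commute.conj_iff l).2 htx
    have h2 : Commute (l * (t : G) * l⁻¹) z := ((Qz h hl).mul_left htz).mul_left (Qz h (inv_mem hl))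
    have h3 := h1.mul_right h2
    rw [show x * z * z = x by rw [mul_assoc, zz h, mul_one]] at h3
    exact h3
  refine ⟨t', isConj_iff.2 ⟨l, rfl⟩, by rw [ht', map_mul, map_mul, map_inv, π_Q F h hl]; group; exact hπ,
    ht'x, fun b b1 b2 n hn => ?_⟩
  obtain ⟨i, ei⟩ := hμ b b1 b2 n hn
  set r := (t : G)⁻¹ * l * (t : G)⁻¹⁻¹ * l⁻¹ with hr
  have hr1 : (t : G)⁻¹ * l * (t : G)⁻¹⁻¹ ∈ Q := h.norm _ htz.inv_left l hl
  have hrQ : r ∈ Q := mul_mem hr1 (inv_mem hl)
  have hrv : F.vec r = a + qm a • e0 := by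
    rw [hr, F.vec_mul _ hr1 _ (inv_mem hl), vec_inv F h hl,
      show F.vec ((t : G)⁻¹ * l * (t : G)⁻¹⁻¹) = F.π t⁻¹ • F.vec l from F.vec_conj t⁻¹ l hl, map_inv, hπ, hlv,
      mul_inv_rev, inv_eq_of_mul_eq_one_right Sg_sq, R_inv Pa, mul_smul, Sg_fix.2.2.2, R_f0 Pa,
      show f0 + a + qm a • e0 + f0 = a + qm a • e0 + (f0 + f0) by abel, ZModModule.add_self, add_zero]
  have hrb : pol (F.vec r) b = pol a b := by
    rw [hrv, pol_add_left, pol_smul_left, (inP_perp hn.1).1, mul_zero, add_zero]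
  have hr0 : pol e0 (F.vec r) = 0 := by
    rw [hrv, pol_add_right, pol_smul_right, pol_self, (inP_perp Pa).1, mul_zero, add_zero]
  have ht'r : (t' : G) = (t : G) * r := by
    rw [hr]; show l * (t : G) * l⁻¹ = _; group
  refine ⟨i + pol a b, ?_⟩
  rw [ht'r]
  calc (t : G) * r * n = (t : G) * (r * (n : G)) := mul_assoc _ _ _
    _ = (t : G) * Iel z x (pol a b) (pol a b) * ((n : G) * r) := by rw [pairing F h B hn hrQ hr0, hrb]; group
    _ = Iel z x (pol a b) (pol a b) * ((t : G) * n) * r := by rw [(Iel_comm F _ _ htx htz).eq]; group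
    _ = Iel z x (pol a b) (pol a b) * Iel z x i (μ b) * ((n : G) * ((t : G) * r)) := by rw [ei]; group
    _ = _ := by rw [Iel_mul F h B, hall b hn.1 b1 b2, one_mul, ZModModule.add_self, add_comm (pol a b)]

theorem big_small (h : Hyp z Q) (B : Base F x) {t : Subgroup.centralizer ({z} : Set G)} (htt : (t : G) * t = 1)
    {a : V} (ha : Big a) (hπ : F.π t = Sg * R a) :
    ∃ r : Subgroup.centralizer ({z} : Set G), IsConj (t : G) r ∧ (r : G) * r = 1 ∧ Small (F.π r) := by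
  obtain ⟨Pa, -⟩ := big_facts ha
  obtain ⟨t', hc, hπ', htx, hok⟩ := big_ok F h B htt ha hπ
  obtain ⟨τ, h1, h2⟩ := exists_swap F h B
  have hrz : Commute (τ * (t' : G) * τ⁻¹) z := by
    have := (Commute.conj_iff τ).2 htx
    rwa [h1] at this
  have hrx : Commute (τ * (t' : G) * τ⁻¹) x := (swap_comm F h2 _).1 (mem_C.1 t'.2)
  have htt' : (t' : G) * t' = 1 := by
    obtain ⟨g, hg⟩ := isConj_iff.1 hc
    rw [← hg, conj_mul, htt]; group
  have hrr : τ * (t' : G) * τ⁻¹ * (τ * (t' : G) * τ⁻¹) = 1 := by rw [conj_mul, htt']; group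
  refine ⟨cC hrz, hc.trans (isConj_iff.2 ⟨τ, rfl⟩), hrr,
    crit (by rw [← map_mul, show cC hrz * cC hrz = 1 from Subtype.ext hrr, map_one])
      (comm_St F h B (k := cC hrz) hrx) fun v hv hj => ?_⟩
  obtain ⟨q, hq, rfl⟩ := F.vec_surj v
  have hc' := h.norm _ hrz q hq
  obtain ⟨j, ej⟩ := vec_Iel F h B (mul_mem hc' (inv_mem hq)) (i := 1) (by
    rw [F.vec_mul _ hc' _ (inv_mem hq), vec_inv F h hq,
      show F.vec (τ * (t' : G) * τ⁻¹ * q * (τ * (t' : G) * τ⁻¹)⁻¹) = F.π (cC hrz) • F.vec q from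
        F.vec_conj (cC hrz) q hq, hj, one_smul])
  have hnz : Commute (τ⁻¹ * q * τ) z := by
    rw [swap_comm F h2, show τ * (τ⁻¹ * q * τ) * τ⁻¹ = q by group]; exact comm_x F B hq hv
  have hnx : InQ z Q x (τ⁻¹ * q * τ) := by
    rw [inQ_swap F h h1, show τ * (τ⁻¹ * q * τ) * τ⁻¹ = q by group]; exact hq
  have hn := Mem.of_inQ F h B (m := cC hnz) hnx
  set b := param (F.π (cC hnz) : OG)
  have hx' : τ⁻¹ * x * τ = z := by rw [← h2]; group
  have hz' : τ⁻¹ * z * τ = x := by rw [← h1]; group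
  have key : (t' : G) * (τ⁻¹ * q * τ) = Iel z x j 1 * (τ⁻¹ * q * τ * (t' : G)) := by
    have : τ⁻¹ * Iel z x 1 j * τ = Iel z x j 1 := by
      rcases zm2 j with rfl | rfl
      · rw [Iel_10 F, Iel_01 F, hx']
      · rw [Iel_11 F, show τ⁻¹ * (x * z) * τ = τ⁻¹ * x * τ * (τ⁻¹ * z * τ) by group, hx', hz', (xz_comm F h B).eq]
    rw [← this, ← ej]; group
  have hperp : pol b e1 = 0 ∧ pol b e2 = 0 := by
    have e : F.π t' * F.π (cC hnz) = F.π (cC hnz) * F.π t' := by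
      have hQ := (Iel_mem F h B j 1).1
      have : t' * cC hnz = cC (Qz h hQ) * (cC hnz * t') := Subtype.ext key
      rw [← map_mul, this, map_mul, π_Q F h hQ, one_mul, map_mul]
    rw [hn.2.2, hπ', mul_assoc, (R_comm Pa hn.1).eq, ← mul_assoc, ← mul_assoc] at e
    exact commute_perp hn.1 (mul_right_cancel e).symm
  obtain ⟨i, ei⟩ := hok b hperp.1 hperp.2 _ hn
  exact one_ne_zero (Iel_inj F h B (mul_right_cancel (key.symm.trans ei))).2

theorem to_small (h : Hyp z Q) (B : Base F x) {t : Subgroup.centralizer ({z} : Set G)}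
    (htt : (t : G) * t = 1) :
    ∃ r : Subgroup.centralizer ({z} : Set G), IsConj (t : G) r ∧ (r : G) * r = 1 ∧ Small (F.π r) := by
  by_cases hs : Small (F.π t)
  · exact ⟨t, IsConj.refl _, htt, hs⟩
  obtain ⟨c, a, ha, e⟩ := big_form (by rw [← map_mul, show t * t = 1 from Subtype.ext htt, map_one]) hs
  obtain ⟨k, rfl⟩ := F.π_surj c
  have h2 : ((k * t * k⁻¹ : Subgroup.centralizer ({z} : Set G)) : G) * (k * t * k⁻¹ :
      Subgroup.centralizer ({z} : Set G)) = 1 := by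
    show (k : G) * t * (k : G)⁻¹ * ((k : G) * t * (k : G)⁻¹) = 1
    rw [conj_mul, htt]; group
  obtain ⟨r, hr, hrr, hrs⟩ := big_small F h B h2 ha (by rw [map_mul, map_mul, map_inv, e])
  exact ⟨r, (isConj_iff.2 ⟨(k : G), rfl⟩ : IsConj (t : G) _).trans hr, hrr, hrs⟩

variable {c0 b0 : G}

theorem exists_reps (h : Hyp z Q) (B : Base F x) :
    ∃ c0 b0 : G, Form F x c0 e1 e2 ∧ Form F x b0 n0 w0 := by
  obtain ⟨-, Pe1, -, -, -, -, -, Pn, -⟩ := inP_facts
  obtain ⟨-, -, -, -, -, -, -, -, -, p02, -, -, -, -, p0w, -⟩ := val_facts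
  obtain ⟨m, hm⟩ := Mem.exists F h B Pe1
  obtain ⟨n, hn⟩ := Mem.exists F h B Pn
  obtain ⟨q, hq, hqv⟩ := F.vec_surj e2
  obtain ⟨p, hp, hpv⟩ := F.vec_surj w0
  exact ⟨_, _, ⟨m, hm, q, hq, hqv, p02, rfl⟩, ⟨n, hn, p, hp, hpv, p0w, rfl⟩⟩

theorem c0_sq (h : Hyp z Q) (B : Base F x) (hc : Form F x c0 e1 e2) : c0 * c0 = 1 := by
  obtain ⟨q1, q2, -, -, -, -, -, -, -, -, p12, -⟩ := val_facts
  rw [hc.sq F h B, q1, q2, pol_comm', p12, add_zero, Iel_00 F]

theorem b0_sq (h : Hyp z Q) (B : Base F x) (hb : Form F x b0 n0 w0) : b0 * b0 = 1 := by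
  obtain ⟨-, -, -, -, -, -, qn, qw, -, -, -, -, -, -, -, pwn, -⟩ := val_facts
  rw [hb.sq F h B, qn, qw, pwn, ZModModule.add_self, Iel_00 F]

theorem conj_c0 (h : Hyp z Q) (B : Base F x) (hc : Form F x c0 e1 e2) {t : G} {v : V} (hf : Form F x t e1 v)
    (hv : nz v = e2 ∨ nz v = e2 + e1) : ∃ q ∈ Q, q * t * q⁻¹ = c0 := by
  obtain ⟨-, -, -, -, -, -, pf22, pf21, pf12, pf11, -, -, -, -, pff⟩ := plane_pol
  obtain ⟨-, Pe1, Pe2, -, Pf1, Pf2, -⟩ := inP_facts
  have key : ∀ {s : G} {w : V}, Form F x s e1 w → nz w = e2 → ∃ q ∈ Q, q * s * q⁻¹ = c0 := by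
    intro s w hs hw
    obtain ⟨i, j, e⟩ := hc.eq_or F h B hs ((nz_of_inP Pe2).trans hw.symm)
    obtain ⟨l, hl, -, el⟩ := hc.kill F h B (inP_perp Pf1).1 (inP_perp Pf2).1 pf11 pf12 pf21 pf22 i j
    exact ⟨l, hl, by rw [e]; exact el⟩
  rcases hv with hv | hv
  · exact key hf hv
  obtain ⟨l, hl, -, hs⟩ := hf.shift F h B
  obtain ⟨q, hq, e⟩ := key hs (by
    rw [val_facts.1, zero_smul, add_zero, nz_add, nz_of_inP Pe1, hv, add_assoc, ZModModule.add_self, add_zero])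
  exact ⟨q * l, mul_mem hq hl, by rw [← e]; group⟩

theorem conj_b0 (h : Hyp z Q) (B : Base F x) (hb : Form F x b0 n0 w0) {t : G} {v : V} (hf : Form F x t n0 v) :
    (nz v = w0 → ∃ q ∈ Q, Commute q x ∧ q * t * q⁻¹ = b0) ∧
      (nz v = w0 + n0 → ∃ q ∈ Q, q * x * q⁻¹ = x * z ∧ q * t * q⁻¹ = b0) := by
  obtain ⟨-, -, -, -, -, -, -, -, -, -, p3n, p3w, p2n, p2w, -⟩ := plane_pol
  obtain ⟨-, -, -, Pe3, -, Pf2, -, Pn, Pw⟩ := inP_facts
  have key : ∀ {s : G} {w : V}, Form F x s n0 w → nz w = w0 → ∃ q ∈ Q, Commute q x ∧ q * s * q⁻¹ = b0 := by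
    intro s w hs hw
    obtain ⟨i, j, e⟩ := hb.eq_or F h B hs ((nz_of_inP Pw).trans hw.symm)
    obtain ⟨l, hl, hlx, el⟩ := hb.kill F h B (inP_perp Pe3).1 (inP_perp Pf2).1 p3n p3w p2n p2w i j
    exact ⟨l, hl, hlx, by rw [e]; exact el⟩
  refine ⟨fun hv => key hf hv, fun hv => ?_⟩
  obtain ⟨l, hl, hlx, hs⟩ := hf.shift F h B
  obtain ⟨q, hq, hqx, e⟩ := key hs (by
    rw [val_facts.2.2.2.2.2.2.1, one_smul, nz_add, nz_add, nz_e0, nz_of_inP Pn, hv, add_zero, add_assoc,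
      ZModModule.add_self, add_zero])
  refine ⟨q * l, mul_mem hq hl, ?_, by rw [← e]; group⟩
  rw [show q * l * x * (q * l)⁻¹ = q * (l * x * l⁻¹) * q⁻¹ by group, hlx,
    (hqx.mul_right (Qz h hq)).eq, mul_inv_cancel_right]

theorem classA (h : Hyp z Q) (B : Base F x) (hc : Form F x c0 e1 e2) {t : Subgroup.centralizer ({z} : Set G)}
    (htt : (t : G) * t = 1) (hπ : F.π t = sA) : IsConj z (t : G) ∨ IsConj (t : G) c0 := by
  obtain ⟨-, Pe1, -⟩ := inP_facts
  have ht1 : F.π t ≠ 1 := fun e => nonzero_facts.1 (R_inj Pe1 inP_facts.1 (by rw [R_zero, ← e, hπ, sA]))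
  have toz : ∀ {s : G} {v : V}, Form F x s e1 v → s * s = 1 → nz v = 0 → IsConj z s := by
    intro s v hs hss hv
    obtain ⟨m, hm, q, hq, rfl, hv0, rfl⟩ := hs
    obtain ⟨i, j, hI⟩ : ∃ i j, q = Iel z x i j := by
      rcases (nz_eq_iff _).1 hv with e | e
      · exact ⟨0, vec_Iel F h B hq (by rw [e, zero_smul])⟩
      · exact ⟨1, vec_Iel F h B hq (by rw [e, one_smul])⟩
    have hsQ : (m : G) * q ∉ Q := fun e => by
      have hmQ : (m : G) ∈ Q := by simpa using mul_mem e (inv_mem hq)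
      exact nonzero_facts.1 (R_inj Pe1 inP_facts.1 (by rw [R_zero, ← hm.2.2, (F.π_ker _).2 hmQ]))
    exact (mem_symm F h B.conj (hm.2.1.mul h (hI ▸ (Iel_mem F h B i j).2.1)) hss
      (fun e => hsQ (e ▸ one_mem Q)) (fun e => hsQ (e ▸ B.mem))).1
  obtain ⟨v, hf, hva, hvq⟩ := exists_form F h B htt Pe1 nonzero_facts.1 hπ
  have hv0 := (hf.inP F).2
  by_cases h0 : nz v = 0
  · exact Or.inl (toz hf htt h0)
  by_cases h1 : nz v = e1
  · obtain ⟨l, hl, -, hs⟩ := hf.shift F h B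
    refine Or.inl ((toz hs ?_ ?_).trans (isConj_iff.2 ⟨l, rfl⟩ : IsConj (t : G) _).symm)
    · rw [conj_mul, htt]; group
    · rw [val_facts.1, zero_smul, add_zero, nz_add, nz_of_inP Pe1, h1, ZModModule.add_self]
  refine Or.inr ?_
  obtain ⟨g, hg, hg1, hg2⟩ := u2_move (by rw [hvq, val_facts.1]) hv0
    (by rw [pol_comm', hva, val_facts.1]) (nz_low v hv0 h0 h1)
  obtain ⟨k, rfl, hk⟩ := move_x F h B hg
  have hf' := hf.conj_C F h B hk
  rw [hg1] at hf'
  obtain ⟨q, hq, e⟩ := conj_c0 F h B hc hf' hg2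
  exact isConj_iff.2 ⟨q * k, by rw [← e]; group⟩

theorem classC (h : Hyp z Q) (B : Base F x) (hb : Form F x b0 n0 w0) {t : Subgroup.centralizer ({z} : Set G)}
    (htt : (t : G) * t = 1) (hπ : F.π t = sC) : IsConj (t : G) b0 := by
  have Pn : InP n0 := inP_facts.2.2.2.2.2.2.2.1
  have qn : qm n0 = 1 := val_facts.2.2.2.2.2.2.1
  obtain ⟨v, hf, hva, hvq⟩ := exists_form F h B htt Pn nonzero_facts.2.2 hπ
  obtain ⟨g, hg, hg1, hg2⟩ := v0_move (hf.inP F).2 (hvq.trans qn) (hva.trans qn)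
  obtain ⟨k, rfl, hk⟩ := move_x F h B hg
  have hf' := hf.conj_C F h B hk
  rw [hg1] at hf'
  obtain ⟨q, hq, -, e⟩ := (conj_b0 F h B hb hf').1 hg2
  exact isConj_iff.2 ⟨q * k, by rw [← e]; group⟩

theorem classify (h : Hyp z Q) (B : Base F x) (hc : Form F x c0 e1 e2) (hb : Form F x b0 n0 w0)
    {t : Subgroup.centralizer ({z} : Set G)} (htt : (t : G) * t = 1) (ht : (t : G) ≠ 1) :
    IsConj (t : G) z ∨ IsConj (t : G) c0 ∨ IsConj (t : G) b0 := by
  obtain ⟨r, hr, hrr, hrs⟩ := to_small F h B htt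
  suffices IsConj (r : G) z ∨ IsConj (r : G) c0 ∨ IsConj (r : G) b0 by
    rcases this with e | e | e
    exacts [Or.inl (hr.trans e), Or.inr (Or.inl (hr.trans e)), Or.inr (Or.inr (hr.trans e))]
  have lift : ∀ g : Ga, ∀ s : Ga, g * F.π r * g⁻¹ = s →
      ∃ u : Subgroup.centralizer ({z} : Set G), IsConj (r : G) u ∧ (u : G) * u = 1 ∧ F.π u = s := by
    intro g s e
    obtain ⟨k, rfl⟩ := F.π_surj g
    refine ⟨k * r * k⁻¹, isConj_iff.2 ⟨(k : G), rfl⟩, ?_, by rw [map_mul, map_mul, map_inv, e]⟩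
    show (k : G) * r * (k : G)⁻¹ * ((k : G) * r * (k : G)⁻¹) = 1
    rw [conj_mul, hrr]; group
  rcases small_class hrs with e | e | e
  · refine Or.inl ?_
    have hQ := (F.π_ker r).1 e
    by_cases hz : (r : G) = z
    · rw [hz]
    have h1 : (r : G) ≠ 1 := by
      intro e1'
      obtain ⟨g, hg⟩ := isConj_iff.1 hr
      rw [e1', conj_eq_one_iff] at hg
      exact ht hg
    exact (core_conj F h hQ hrr h1 hz).symm
  · obtain ⟨g, hg⟩ := isConj_iff.1 e
    obtain ⟨u, hu, huu, hπ⟩ := lift g _ hg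
    rcases classA F h B hc huu hπ with e' | e'
    · exact Or.inl (hu.trans e'.symm)
    · exact Or.inr (Or.inl (hu.trans e'))
  · obtain ⟨g, hg⟩ := isConj_iff.1 e
    obtain ⟨u, hu, huu, hπ⟩ := lift g _ hg
    exact Or.inr (Or.inr (hu.trans (classC F h B hb huu hπ)))

end Cfsg.Agent.Spor.CoT
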