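/-!
Data on the commutator subgroup of the isometry group of a plus form in dimension eight over two elements.
-/

set_option autoImplicit false

namespace Cfsg.Agent.Spor.CoT.Dat

/-- square roots of the two generators -/
def roots : List (List Nat) :=
  [[45, 32, 44, 236, 240, 111, 153, 9],
   [6, 225, 11, 159, 160, 144, 96, 224]]

/-- inverse roots -/
def rinvs : List (List Nat) :=
  [[5, 243, 131, 133, 30, 2, 210, 222],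
   [130, 45, 44, 171, 224, 208, 144, 192]]

/-- the two generators -/
def gens : List (List Nat) :=
  [[130, 111, 175, 63, 15, 59, 56, 193],
   [234, 22, 120, 51, 112, 64, 240, 16]]

/-- their inverses -/
def ginvs : List (List Nat) :=
  [[134, 230, 40, 88, 235, 243, 225, 231],
   [237, 213, 87, 20, 128, 176, 32, 80]]

/-- further elements as words -/
def extw : List (List Nat) :=
  [[0, 0, 0, 0, 0, 0, 0, 0, 0, 0, 0, 0, 1, 1, 1, 1, 1, 1, 0, 0, 0, 0, 0, 0, 1, 1, 1, 1, 1, 1, 0, 1, 1, 0, 0, 0, 1, 1],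
   [1, 1, 1, 1, 1, 1, 1, 1, 1, 1, 1, 1, 0, 0, 0, 0, 0, 0, 1, 1, 1, 1, 1, 1, 0, 1, 1, 1, 0, 1, 0, 0],
   [0, 0, 0, 0, 0, 0, 1, 1, 1, 1, 1, 1, 1, 1, 1, 1, 1, 1, 0, 0, 0, 0, 0, 0, 1, 1, 1, 1, 1, 1, 0, 0, 0, 0, 0, 0, 1, 0, 1, 0, 1, 0, 0],
   [1, 1, 1, 1, 1, 1, 0, 0, 0, 0, 0, 0, 1, 1, 1, 1, 1, 1, 0, 0, 0, 0, 0, 0, 0, 0, 0, 0, 0, 0, 0, 0, 0, 0, 0, 0, 1, 1, 1, 1, 1, 1, 0, 0, 0, 1, 0, 1, 1]]

/-- their columns -/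
def extc : List (List Nat) :=
  [[1, 13, 7, 15, 82, 110, 192, 236],
   [1, 237, 104, 7, 213, 9, 11, 72],
   [1, 40, 175, 5, 250, 15, 9, 97],
   [1, 11, 230, 174, 51, 97, 15, 7]]

/-- orbit chain -/
def levels : List (Nat × List (List Nat)) :=
  [(1, [[],
     [1, 1, 1, 1, 0, 0, 0, 0],
     [0, 0, 0, 1, 0, 0],
     [0, 0, 1, 0, 1, 0, 1],
     [0, 0, 0],
     [1, 0],
     [1, 1, 1, 0, 1, 1],
     [0, 0, 0, 0, 1, 1],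
     [1, 0, 0, 1, 0],
     [0, 0, 0, 0, 1, 0, 1],
     [1, 1, 1, 0, 0, 0, 1],
     [0, 0, 0, 0, 1, 0],
     [1, 0, 0],
     [0, 1, 0, 0, 1, 1],
     [0, 0, 1, 0, 1, 1],
     [0, 1, 0, 1, 1],
     [0, 1, 0, 0],
     [0, 0, 1, 0, 1, 0, 0],
     [0, 0, 0, 0, 1, 1, 0],
     [0, 1, 0, 0, 0, 1, 1],
     [1, 1, 1, 1, 1, 0, 1, 0, 0],
     [0, 1, 0, 1, 1, 0],
     [1, 0, 0, 0, 0, 1, 1, 0],
     [0, 1, 0, 0, 0, 1],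
     [1, 0, 0, 1, 1, 0],
     [1, 0, 0, 1, 0, 0, 1, 0],
     [0, 0, 0, 1, 1, 0],
     [0, 1, 0, 1, 0, 1],
     [0, 0, 0, 0, 0],
     [1, 1, 0, 0, 0, 1],
     [0, 0, 0, 0],
     [0, 0, 1, 0, 0, 0, 1, 1],
     [0, 0, 0, 0, 1],
     [0, 0, 0, 1, 0, 0, 0, 1, 1],
     [0, 1, 1, 1, 0, 1, 0],
     [0, 0, 1, 0, 0, 0, 0],
     [1, 0, 1, 0, 1, 1, 0],
     [1, 0, 1, 0, 0, 0, 0, 0],
     [0, 0, 0, 0, 0, 1, 1],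
     [0, 1, 0, 0, 0, 0],
     [1, 1, 1, 1, 0, 1, 0, 0],
     [0, 1, 1, 1, 0, 1, 1],
     [0, 1, 0, 1, 0, 0, 1, 0],
     [0, 1, 1, 0, 0, 0, 0, 0],
     [1, 1, 1, 0, 0, 1, 0],
     [1, 1, 0, 0, 0, 0],
     [1, 0, 0, 0, 0, 1, 0],
     [1, 1, 1, 0, 1, 0],
     [0, 0, 1, 1],
     [0, 1, 1, 0, 0, 1, 0, 1, 1],
     [0, 0, 1, 1, 1, 0, 1, 1],
     [0, 0, 0, 1, 1],
     [0, 0, 0, 0, 1, 0, 0, 1],
     [0, 0, 1, 1, 0],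
     [1, 0, 1, 1, 1, 0, 0, 0, 0],
     [0, 0, 1, 0, 0],
     [1, 1, 0, 0, 0, 1, 0, 1],
     [1, 0, 1, 0, 0],
     [1, 0, 0, 1, 0, 0, 1, 1],
     [0, 1, 1, 0, 0, 0, 0],
     [0, 0, 1, 0, 1],
     [1, 1, 0],
     [1, 1, 0, 1, 1],
     [0, 0, 0, 1, 0],
     [0, 1, 0, 0, 0, 0, 0],
     [1, 1, 1, 0, 0, 1, 1, 0],
     [1, 0, 1],
     [0, 0, 0, 1],
     [1, 1, 0, 1, 0, 0, 0, 0, 0],
     [1, 0, 0, 0, 1, 0, 1],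
     [0, 1, 1, 0, 1, 1],
     [1, 1, 1, 1, 0, 1, 0],
     [1, 0, 1, 0, 0, 1, 0],
     [0],
     [1, 0, 1, 1, 0, 0, 0, 0],
     [1, 1, 1, 1, 0, 1, 1],
     [1, 1],
     [0, 0, 0, 0, 0, 0],
     [0, 1, 1, 0, 1, 1, 0],
     [1, 0, 1, 1, 1, 0],
     [0, 1],
     [1, 0, 1, 1, 0, 1, 1, 0],
     [1, 0, 0, 1, 1],
     [1, 0, 0, 0, 0, 0],
     [1, 0, 1, 1, 0],
     [0, 0, 1, 1, 0, 1, 0],
     [1, 1, 0, 1, 0, 1],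
     [1, 1, 0, 1, 0],
     [0, 0, 1],
     [1, 1, 0, 0, 1, 0, 1, 1],
     [0, 1, 0, 0, 1],
     [1, 1, 0, 0, 1, 1, 0],
     [1, 0, 1, 0, 1],
     [0, 0],
     [1, 1, 0, 1, 1, 0],
     [1, 0, 0, 1, 0, 0],
     [1, 0, 0, 0, 1, 1],
     [0, 0, 0, 1, 0, 0, 1],
     [1, 0, 0, 1, 0, 1, 1],
     [1, 1, 0, 0, 0, 0, 0],
     [1, 0, 0, 1],
     [0, 1, 0, 0, 1, 0],
     [0, 0, 0, 1, 0, 1],
     [0, 1, 0],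
     [1, 0, 0, 1, 1, 0, 1, 0],
     [0, 1, 0, 1, 0],
     [0, 1, 0, 1, 0, 0],
     [0, 1, 0, 1],
     [1, 1, 1, 0, 1, 0, 0],
     [0, 1, 0, 1, 1, 1, 0],
     [0, 0, 0, 0, 0, 1, 1, 0],
     [0, 1, 1, 1, 0],
     [1, 0, 0, 0, 1, 1, 0],
     [1, 1, 1, 0, 0, 0, 0],
     [0, 0, 1, 0, 0, 1],
     [1, 1, 0, 0, 1, 0],
     [0, 1, 1, 1, 0, 0, 0, 0],
     [1, 1, 0, 0, 0, 1, 1],
     [1, 1, 0, 1, 0, 0],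
     [1, 0, 1, 0],
     [1, 0, 0, 0, 0],
     [0, 1, 0, 1, 0, 1, 1, 0],
     [0, 0, 1, 0, 0, 1, 0],
     [1],
     [1, 0, 1, 1],
     [0, 1, 1],
     [1, 1, 1, 0],
     [1, 0, 1, 0, 0, 0, 0],
     [1, 0, 0, 0, 1],
     [0, 1, 0, 0, 1, 0, 0],
     [1, 0, 1, 0, 1, 0],
     [0, 0, 1, 0],
     [0, 1, 1, 0, 1, 0],
     [0, 1, 1, 0],
     [0, 0, 1, 0, 0, 1, 1]]),
   (2, [[],
     [2, 5],
     [4, 2, 2],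
     [2, 3, 4],
     [3, 2, 2],
     [4, 2, 4],
     [5, 3, 5, 4],
     [2, 2],
     [4, 4],
     [5],
     [2, 2, 5],
     [2],
     [3, 4],
     [4, 5, 3],
     [5, 3],
     [4, 4, 4, 2],
     [3, 3],
     [4, 2, 3],
     [4],
     [4, 2, 5],
     [4, 5],
     [5, 3, 2],
     [5, 4, 3],
     [2, 3, 5],
     [4, 4, 2],
     [5, 3, 4],
     [3, 3, 3, 2],
     [5, 2],
     [5, 5, 4],
     [2, 3],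
     [4, 2, 4, 2],
     [2, 4],
     [2, 4, 5],
     [2, 5, 3, 2],
     [3, 4, 2, 2],
     [2, 3, 3],
     [3, 2],
     [5, 2, 4],
     [3, 3, 2],
     [2, 4, 2],
     [3, 3, 4],
     [3, 4, 5, 3],
     [4, 3, 2],
     [2, 5, 5],
     [2, 5, 2, 2],
     [5, 3, 3],
     [5, 5, 2],
     [3, 3, 5],
     [5, 5],
     [5, 4, 4],
     [3, 4, 2],
     [4, 2],
     [3, 5, 4, 2],
     [5, 2, 2],
     [3, 5, 4],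
     [4, 5, 5],
     [5, 4, 2],
     [2, 2, 3],
     [4, 3],
     [5, 3, 5],
     [2, 5, 2],
     [5, 4],
     [3, 2, 3],
     [5, 4, 3, 2],
     [5, 4, 2, 2],
     [2, 5, 3, 3],
     [3, 4, 4],
     [3, 5],
     [3, 2, 5],
     [3]]),
   (4, [[],
     [4, 2, 2, 4, 3],
     [5, 4, 5, 4, 5, 4],
     [3, 2, 4, 2, 5],
     [3, 2, 2, 2, 5, 2],
     [3, 2, 4, 3, 2, 4],
     [4, 3, 5, 5, 2, 2, 2],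
     [2, 3, 3, 5, 5, 2],
     [2, 4, 5, 5, 3, 2],
     [5, 2, 2, 3],
     [5, 5, 3, 4, 2],
     [4, 3, 3, 4, 3, 5, 4],
     [3, 5, 5, 3, 2, 5],
     [3, 2, 5, 4, 5],
     [5, 5, 2, 5, 2, 4],
     [3, 4, 2, 5, 2, 3],
     [5, 4, 2, 4, 4, 2],
     [3, 3, 4, 2, 3],
     [3, 4, 2, 4, 2],
     [2, 4, 4],
     [3, 2, 3, 5, 5],
     [4, 4, 3, 2, 5, 2],
     [5, 5, 3, 2, 3, 2],
     [2, 5, 2, 5],
     [3, 4, 5, 5, 4, 4],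
     [4, 3, 2, 2, 2, 2],
     [2, 3, 3, 4, 3, 3],
     [4, 2, 3, 3],
     [2, 5, 5, 5, 4, 2],
     [2, 2, 3, 2, 2],
     [4, 4, 5, 2, 3, 3],
     [2, 5, 5, 4, 4, 3],
     [5, 5, 3, 5, 2, 3],
     [4, 2, 5, 5, 2, 2],
     [2, 2, 3, 3, 5, 3],
     [5, 2, 2, 2, 2, 4, 2]]),
   (8, [[],
     [3, 5, 2, 3, 2, 5, 5, 3],
     [3, 3, 3, 2, 2, 3, 4, 2],
     [4, 4, 4, 2, 3, 4, 5],
     [3, 5, 4, 4, 4, 2],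
     [3, 2, 5, 3, 4, 5, 3, 2, 2],
     [4, 2, 2, 2, 5, 2, 2, 2],
     [3, 2, 5, 2, 3, 5, 4]]),
   (16, [[],
     [2, 5, 2, 3, 4, 5, 3, 3, 4, 2],
     [4, 4, 4, 5, 5, 2, 4, 4],
     [2, 5, 4, 4, 2, 3, 3, 3, 5],
     [2, 5, 2, 3, 5, 4, 3],
     [4, 3, 2, 3, 4, 4, 3, 2, 3, 4],
     [2, 4, 3, 5, 4, 3, 4, 4, 5],
     [3, 2, 4, 5, 3, 2, 2, 4]]),
   (32, [[],
     [4, 3, 3, 3, 3, 3, 2, 3, 4],
     [4, 3, 2, 4, 3, 5, 4, 4, 3, 2, 2],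
     [5, 4, 2, 2, 4, 3, 2, 3, 2, 3]]),
   (64, [[],
     [5, 2, 3, 5, 4, 3, 2]])]

/-- words for the singular points -/
def sing : List (Nat × List Nat) :=
  [(1, []),
   (2, [1, 1, 1, 1, 0, 0, 0, 0]),
   (3, [0, 0, 0, 1, 0, 0]),
   (4, [0, 0, 1, 0, 1, 0, 1]),
   (5, [0, 0, 0]),
   (6, [1, 0]),
   (7, [1, 1, 1, 0, 1, 1]),
   (8, [0, 0, 0, 0, 1, 1]),
   (9, [1, 0, 0, 1, 0]),
   (10, [0, 0, 0, 0, 1, 0, 1]),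
   (11, [1, 1, 1, 0, 0, 0, 1]),
   (12, [0, 0, 0, 0, 1, 0]),
   (13, [1, 0, 0]),
   (14, [0, 1, 0, 0, 1, 1]),
   (15, [0, 0, 1, 0, 1, 1]),
   (16, [0, 1, 0, 1, 1]),
   (18, [0, 1, 0, 0]),
   (20, [0, 0, 1, 0, 1, 0, 0]),
   (22, [0, 0, 0, 0, 1, 1, 0]),
   (24, [0, 1, 0, 0, 0, 1, 1]),
   (26, [1, 1, 1, 1, 1, 0, 1, 0, 0]),
   (28, [0, 1, 0, 1, 1, 0]),
   (30, [1, 0, 0, 0, 0, 1, 1, 0]),
   (32, [0, 1, 0, 0, 0, 1]),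
   (33, [1, 0, 0, 1, 1, 0]),
   (36, [1, 0, 0, 1, 0, 0, 1, 0]),
   (37, [0, 0, 0, 1, 1, 0]),
   (40, [0, 1, 0, 1, 0, 1]),
   (41, [0, 0, 0, 0, 0]),
   (44, [1, 1, 0, 0, 0, 1]),
   (45, [0, 0, 0, 0]),
   (48, [0, 0, 1, 0, 0, 0, 1, 1]),
   (51, [0, 0, 0, 0, 1]),
   (52, [0, 0, 0, 1, 0, 0, 0, 1, 1]),
   (55, [0, 1, 1, 1, 0, 1, 0]),
   (56, [0, 0, 1, 0, 0, 0, 0]),
   (59, [1, 0, 1, 0, 1, 1, 0]),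
   (60, [1, 0, 1, 0, 0, 0, 0, 0]),
   (63, [0, 0, 0, 0, 0, 1, 1]),
   (64, [0, 1, 0, 0, 0, 0]),
   (65, [1, 1, 1, 1, 0, 1, 0, 0]),
   (66, [0, 1, 1, 1, 0, 1, 1]),
   (67, [0, 1, 0, 1, 0, 0, 1, 0]),
   (72, [0, 1, 1, 0, 0, 0, 0, 0]),
   (73, [1, 1, 1, 0, 0, 1, 0]),
   (74, [1, 1, 0, 0, 0, 0]),
   (75, [1, 0, 0, 0, 0, 1, 0]),
   (80, [1, 1, 1, 0, 1, 0]),
   (82, [0, 0, 1, 1]),
   (85, [0, 1, 1, 0, 0, 1, 0, 1, 1]),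
   (87, [0, 0, 1, 1, 1, 0, 1, 1]),
   (88, [0, 0, 0, 1, 1]),
   (90, [0, 0, 0, 0, 1, 0, 0, 1]),
   (93, [0, 0, 1, 1, 0]),
   (95, [1, 0, 1, 1, 1, 0, 0, 0, 0]),
   (96, [0, 0, 1, 0, 0]),
   (97, [1, 1, 0, 0, 0, 1, 0, 1]),
   (102, [1, 0, 1, 0, 0]),
   (103, [1, 0, 0, 1, 0, 0, 1, 1]),
   (104, [0, 1, 1, 0, 0, 0, 0]),
   (105, [0, 0, 1, 0, 1]),
   (110, [1, 1, 0]),
   (111, [1, 1, 0, 1, 1]),
   (112, [0, 0, 0, 1, 0]),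
   (115, [0, 1, 0, 0, 0, 0, 0]),
   (117, [1, 1, 1, 0, 0, 1, 1, 0]),
   (118, [1, 0, 1]),
   (120, [0, 0, 0, 1]),
   (123, [1, 1, 0, 1, 0, 0, 0, 0, 0]),
   (125, [1, 0, 0, 0, 1, 0, 1]),
   (126, [0, 1, 1, 0, 1, 1]),
   (128, [1, 1, 1, 1, 0, 1, 0]),
   (129, [1, 0, 1, 0, 0, 1, 0]),
   (130, [0]),
   (131, [1, 0, 1, 1, 0, 0, 0, 0]),
   (132, [1, 1, 1, 1, 0, 1, 1]),
   (133, [1, 1]),
   (134, [0, 0, 0, 0, 0, 0]),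
   (135, [0, 1, 1, 0, 1, 1, 0]),
   (144, [1, 0, 1, 1, 1, 0]),
   (146, [0, 1]),
   (148, [1, 0, 1, 1, 0, 1, 1, 0]),
   (150, [1, 0, 0, 1, 1]),
   (153, [1, 0, 0, 0, 0, 0]),
   (155, [1, 0, 1, 1, 0]),
   (157, [0, 0, 1, 1, 0, 1, 0]),
   (159, [1, 1, 0, 1, 0, 1]),
   (160, [1, 1, 0, 1, 0]),
   (161, [0, 0, 1]),
   (164, [1, 1, 0, 0, 1, 0, 1, 1]),
   (165, [0, 1, 0, 0, 1]),
   (170, [1, 1, 0, 0, 1, 1, 0]),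
   (171, [1, 0, 1, 0, 1]),
   (174, [0, 0]),
   (175, [1, 1, 0, 1, 1, 0]),
   (176, [1, 0, 0, 1, 0, 0]),
   (179, [1, 0, 0, 0, 1, 1]),
   (180, [0, 0, 0, 1, 0, 0, 1]),
   (183, [1, 0, 0, 1, 0, 1, 1]),
   (185, [1, 1, 0, 0, 0, 0, 0]),
   (186, [1, 0, 0, 1]),
   (189, [0, 1, 0, 0, 1, 0]),
   (190, [0, 0, 0, 1, 0, 1]),
   (192, [0, 1, 0]),
   (193, [1, 0, 0, 1, 1, 0, 1, 0]),
   (194, [0, 1, 0, 1, 0]),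
   (195, [0, 1, 0, 1, 0, 0]),
   (204, [0, 1, 0, 1]),
   (205, [1, 1, 1, 0, 1, 0, 0]),
   (206, [0, 1, 0, 1, 1, 1, 0]),
   (207, [0, 0, 0, 0, 0, 1, 1, 0]),
   (208, [0, 1, 1, 1, 0]),
   (210, [1, 0, 0, 0, 1, 1, 0]),
   (213, [1, 1, 1, 0, 0, 0, 0]),
   (215, [0, 0, 1, 0, 0, 1]),
   (217, [1, 1, 0, 0, 1, 0]),
   (219, [0, 1, 1, 1, 0, 0, 0, 0]),
   (220, [1, 1, 0, 0, 0, 1, 1]),
   (222, [1, 1, 0, 1, 0, 0]),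
   (224, [1, 0, 1, 0]),
   (225, [1, 0, 0, 0, 0]),
   (230, [0, 1, 0, 1, 0, 1, 1, 0]),
   (231, [0, 0, 1, 0, 0, 1, 0]),
   (234, [1]),
   (235, [1, 0, 1, 1]),
   (236, [0, 1, 1]),
   (237, [1, 1, 1, 0]),
   (240, [1, 0, 1, 0, 0, 0, 0]),
   (243, [1, 0, 0, 0, 1]),
   (245, [0, 1, 0, 0, 1, 0, 0]),
   (246, [1, 0, 1, 0, 1, 0]),
   (249, [0, 0, 1, 0]),
   (250, [0, 1, 1, 0, 1, 0]),
   (252, [0, 1, 1, 0]),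
   (255, [0, 0, 1, 0, 0, 1, 1])]

/-- words for the elements trivial around the first point -/
def radw : List (Nat × List Nat) :=
  [(0, []),
   (2, [4, 5, 2, 5, 3, 3, 4, 4, 2, 2, 4]),
   (4, [3, 4, 5, 5, 5, 5, 2, 5, 5, 4]),
   (6, [3, 4, 5, 2, 3, 4, 3, 3, 4, 3, 3]),
   (8, [4, 5, 2, 3, 4, 3, 3, 4, 3, 3, 3]),
   (10, [4, 3, 2, 3, 4, 4, 3, 2, 3, 4]),
   (12, [4, 4, 4, 4, 4, 4, 3, 3, 3, 3, 4]),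
   (14, [5, 3, 5, 2, 4, 5, 2, 2, 5]),
   (32, [2, 2, 2, 2, 2, 3, 3, 3, 3, 2, 2]),
   (34, [4, 5, 4, 5, 5, 5, 5, 5, 5, 3, 5]),
   (36, [2, 2, 5, 5, 3, 5, 2, 4, 5]),
   (38, [2, 4, 2, 3, 4, 2, 4, 2, 3, 4]),
   (40, [3, 2, 3, 4, 4, 3, 2, 3, 4, 4]),
   (42, [3, 4, 5, 3, 4, 2, 4, 4, 2, 2, 3]),
   (44, [4, 4, 3, 2, 3, 4, 4, 3, 2, 3]),
   (46, [5, 5, 2, 5, 5, 4, 5, 4, 5, 3]),
   (64, [3, 5, 2, 4, 5, 2, 2, 5, 5]),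
   (66, [5, 5, 3, 5, 2, 4, 5, 2, 2]),
   (68, [2, 4, 2, 5, 4, 2, 4, 2, 5, 4]),
   (70, [5, 5, 4, 5, 4, 5, 3, 5, 5, 2]),
   (72, [2, 4, 5, 2, 2, 5, 5, 3, 5]),
   (74, [2, 2, 4, 4, 2, 2, 4, 4, 3, 3]),
   (76, [5, 5, 2, 4, 3, 5, 5, 2, 4, 3]),
   (78, [3, 4, 2, 4, 2, 3, 4, 2, 4, 2]),
   (96, [2, 4, 4, 5, 2, 5, 3, 3, 4, 4, 2]),
   (98, [4, 3, 4, 2, 5, 4, 3, 4, 2, 5]),
   (100, [5, 4, 3, 4, 2, 5, 4, 3, 4, 2]),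
   (102, [3, 4, 4, 3, 2, 3, 4, 4, 3, 2]),
   (104, [4, 5, 5, 5, 5, 2, 5, 5, 4, 3]),
   (106, [4, 2, 5, 4, 3, 4, 2, 5, 4, 3]),
   (108, [4, 4, 4, 2, 3, 3, 3, 4, 4, 2, 4]),
   (110, [4, 3, 4, 5, 2, 4, 5, 3, 4, 2]),
   (128, [4, 4, 2, 2, 4, 4, 3, 3, 2, 2]),
   (130, [2, 4, 4, 3, 3, 2, 2, 4, 4, 2]),
   (132, [5, 3, 4, 2, 4, 3, 4, 5, 2, 4]),
   (134, [5, 2, 2, 5, 5, 3, 5, 2, 4]),
   (136, [5, 4, 3, 4, 4, 3, 5, 5, 2, 2]),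
   (138, [5, 4, 2, 4, 2, 5, 4, 2, 4, 2]),
   (140, [2, 4, 3, 5, 5, 2, 4, 3, 5, 5]),
   (142, [3, 5, 5, 2, 2, 5, 4, 3, 4, 4]),
   (160, [5, 2, 4, 5, 2, 2, 5, 5, 3]),
   (162, [5, 3, 5, 5, 2, 5, 5, 4, 5, 4]),
   (164, [2, 3, 4, 4, 3, 2, 3, 4, 4, 3]),
   (166, [4, 2, 4, 2, 5, 4, 2, 4, 2, 5]),
   (168, [4, 3, 5, 5, 2, 4, 3, 5, 5, 2]),
   (170, [3, 3, 3, 3]),
   (172, [5, 2, 5, 5, 4, 5, 4, 5, 3, 5]),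
   (174, [4, 3, 4, 5, 5, 5, 5, 2, 5, 5]),
   (192, [5, 5, 5, 5, 2, 5, 5, 4, 3, 4]),
   (194, [2, 2, 2, 2, 3, 3, 3, 3, 2, 2, 2]),
   (196, [2, 3, 4, 2, 4, 2, 3, 4, 2, 4]),
   (198, [4, 2, 3, 4, 2, 4, 2, 3, 4, 2]),
   (200, [4, 4, 2, 3, 3, 3, 4, 4, 2, 4, 4]),
   (202, [2, 5, 5, 4, 5, 4, 5, 3, 5, 5]),
   (204, [2, 5, 5, 3, 5, 2, 4, 5, 2]),
   (206, [4, 5, 3, 4, 2, 4, 3, 4, 5, 2]),
   (224, [3, 2, 2, 4, 4, 2, 2, 4, 4, 3]),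
   (226, [2, 5, 4, 3, 4, 4, 3, 5, 5, 2]),
   (228, [4, 2, 5, 4, 2, 4, 2, 5, 4, 2]),
   (230, [4, 5, 2, 2, 5, 5, 3, 5, 2]),
   (232, [3, 4, 2, 5, 4, 3, 4, 2, 5, 4]),
   (234, [4, 5, 2, 4, 5, 3, 4, 2, 4, 3]),
   (236, [2, 4, 4, 2, 2, 4, 4, 3, 3, 2]),
   (238, [2, 5, 4, 2, 4, 2, 5, 4, 2, 4])]

/-- words moving parameters to the two representatives -/
def repw : List (Nat × List Nat) :=
  [(2, []),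
   (4, [4, 3]),
   (6, [2, 2]),
   (8, [2, 2, 3]),
   (10, [2]),
   (12, [5, 5, 4]),
   (14, [4, 3, 2]),
   (32, [3, 5]),
   (34, [4, 4]),
   (36, [4, 2]),
   (38, [4]),
   (40, [3, 2]),
   (42, [2, 2, 2]),
   (44, [3, 2, 5]),
   (46, [4, 3, 4]),
   (64, [2, 3]),
   (66, [5, 4, 2]),
   (68, [2, 4]),
   (70, [3, 2, 5]),
   (72, [3, 2, 2, 2]),
   (74, [5, 2]),
   (76, [5, 3]),
   (78, [3]),
   (96, [3]),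
   (98, [5, 5]),
   (100, [5]),
   (102, [3, 4, 4]),
   (104, [4]),
   (106, [5, 3, 2, 3]),
   (108, [2, 2]),
   (110, [5, 5, 2]),
   (128, [3, 4]),
   (130, [4, 5, 2]),
   (132, [3, 5, 3]),
   (134, [5, 4, 3]),
   (136, []),
   (138, [5, 3, 4]),
   (140, [4, 3]),
   (142, [3, 2, 4]),
   (160, [2, 3, 3]),
   (162, [2, 2, 5]),
   (164, [3, 2, 3]),
   (166, [2]),
   (168, [4, 3, 2]),
   (170, [5, 5]),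
   (172, [5, 3, 4, 2]),
   (174, [5, 3]),
   (192, [4, 4]),
   (194, [5]),
   (196, [4, 2, 4]),
   (198, [4, 2]),
   (200, [2, 5]),
   (202, [2, 4, 4]),
   (204, [5, 4]),
   (206, [3, 2, 2]),
   (224, [4, 5]),
   (226, [3, 2]),
   (228, [2, 4, 2]),
   (230, [4, 5, 4]),
   (232, [5, 3, 2]),
   (234, [2, 3, 2]),
   (236, [5, 2, 2]),
   (238, [2, 5, 3])]

/-- words moving singular vectors to non-orthogonal ones -/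
def linew : List (Nat × List Nat) :=
  [(2, [3]),
   (3, [3]),
   (4, [3]),
   (5, [3]),
   (6, [4, 2]),
   (7, [4, 2]),
   (8, [5]),
   (9, [5]),
   (10, [4]),
   (11, [4]),
   (12, [3]),
   (13, [3]),
   (14, [3]),
   (15, [3]),
   (32, [2]),
   (33, [2]),
   (36, [2]),
   (37, [2]),
   (40, [3]),
   (41, [3]),
   (44, [4]),
   (45, [4]),
   (64, [5]),
   (65, [5]),
   (66, [2]),
   (67, [2]),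
   (72, [3]),
   (73, [3]),
   (74, [2]),
   (75, [2]),
   (96, [3]),
   (97, [3]),
   (102, [5]),
   (103, [5]),
   (104, [2]),
   (105, [2]),
   (110, [2]),
   (111, [2]),
   (128, [2]),
   (129, [2]),
   (130, [2]),
   (131, [2]),
   (132, [5]),
   (133, [5]),
   (134, [5]),
   (135, [5]),
   (160, [2]),
   (161, [2]),
   (164, [3]),
   (165, [3]),
   (170, [2]),
   (171, [2]),
   (174, [3]),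
   (175, [3]),
   (192, [4]),
   (193, [4]),
   (194, [2]),
   (195, [2]),
   (204, [2]),
   (205, [2]),
   (206, [4, 2]),
   (207, [4, 2]),
   (224, [2]),
   (225, [2]),
   (230, [5]),
   (231, [5]),
   (234, [5]),
   (235, [5]),
   (236, [2]),
   (237, [2])]

/-- words fixing the second point -/
def fixw : List (List Nat) :=
  [[2, 5],
   [3, 2, 4]]

/-- words moving second line vectors -/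
def u2w : List (Nat × List Nat) :=
  [(4, []),
   (5, []),
   (6, []),
   (7, []),
   (8, [5, 5, 3, 4, 2]),
   (9, [5, 5, 3, 4, 2]),
   (10, [5, 5, 3, 4, 2]),
   (11, [5, 5, 3, 4, 2]),
   (12, [5, 2, 2, 3]),
   (13, [5, 2, 2, 3]),
   (14, [5, 2, 2, 3]),
   (15, [5, 2, 2, 3]),
   (64, [2, 5]),
   (65, [2, 5]),
   (66, [2, 5]),
   (67, [2, 5]),
   (72, [3, 2, 4]),
   (73, [3, 2, 4]),
   (74, [3, 2, 4]),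
   (75, [3, 2, 4]),
   (128, [4, 2, 3, 3]),
   (129, [4, 2, 3, 3]),
   (130, [4, 2, 3, 3]),
   (131, [4, 2, 3, 3]),
   (132, [2, 5, 2, 5]),
   (133, [2, 5, 2, 5]),
   (134, [2, 5, 2, 5]),
   (135, [2, 5, 2, 5]),
   (192, [5, 5, 4, 2]),
   (193, [5, 5, 4, 2]),
   (194, [5, 5, 4, 2]),
   (195, [5, 5, 4, 2]),
   (204, [5, 3, 5, 2, 2]),
   (205, [5, 3, 5, 2, 2]),
   (206, [5, 3, 5, 2, 2]),
   (207, [5, 3, 5, 2, 2])]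

/-- words moving nonsingular partners -/
def v0w : List (Nat × List Nat) :=
  [(42, [3, 3, 5, 4]),
   (43, [3, 3, 5, 4]),
   (46, [2, 3, 2]),
   (47, [2, 3, 2]),
   (76, []),
   (77, []),
   (78, [5, 4, 3, 2, 2]),
   (79, [5, 4, 3, 2, 2]),
   (106, [3, 3]),
   (107, [3, 3]),
   (108, [3, 4, 2]),
   (109, [3, 4, 2]),
   (162, [3, 2, 2]),
   (163, [3, 2, 2]),
   (166, [3, 3, 3, 4, 2]),
   (167, [3, 3, 3, 4, 2]),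
   (196, [5, 4, 3, 3]),
   (197, [5, 4, 3, 3]),
   (198, [5, 5, 5, 2]),
   (199, [5, 5, 5, 2]),
   (226, [5, 4]),
   (227, [5, 4]),
   (228, [2, 5, 5, 5]),
   (229, [2, 5, 5, 5])]

/-- words moving neighbours -/
def adjw : List (Nat × List Nat) :=
  [(2, []),
   (3, [3, 3, 3, 3]),
   (32, [4, 5, 4, 5, 2, 4]),
   (33, [5, 3, 5, 3]),
   (102, [4, 5, 5, 5, 4, 3]),
   (103, [5, 5, 4, 3, 3, 4]),
   (174, [2, 5, 3, 5, 2, 3]),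
   (175, [2, 4, 4, 4, 2, 5]),
   (234, [2, 5, 5, 2, 4]),
   (235, [3, 4, 2, 5, 4])]

/-- word of the Siegel element -/
def sgw : List Nat :=
  [4, 2, 2, 3, 5, 3, 5, 3, 3, 5, 3]

/-- its columns -/
def sgc : List Nat :=
  [1, 2, 4, 8, 16, 36, 66, 128]

/-- word exchanging two lines -/
def swapw : List Nat :=
  [2, 2, 3, 5, 4, 4, 5, 3, 2]

/-- word conjugating to the Siegel element -/
def cAw : List Nat :=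
  [1, 1, 1, 1, 0, 0, 0, 0, 4, 2, 2]

end Cfsg.Agent.Spor.CoT.Dat
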