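import Cfsg.Agent.Lib.Spor.CoTypeData

/-!
Checks on the commutator subgroup of the isometry group of a plus form in dimension eight over two elements,
on codes below 256.
-/

set_option autoImplicit false
set_option maxRecDepth 100000

namespace Cfsg.Agent.Spor.CoT.Chk

open Dat

/-- one bit -/
def bit (c i : Nat) : Nat := Nat.land (Nat.shiftRight c i) 1

/-- the form on codes -/
def qc (c : Nat) : Nat := (bit c 0 * bit c 4 + bit c 1 * bit c 5 + bit c 2 * bit c 6 + bit c 3 * bit c 7) % 2

/-- the polar form on codes -/
def pc (a b : Nat) : Nat :=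
  (bit a 0 * bit b 4 + bit a 4 * bit b 0 + bit a 1 * bit b 5 + bit a 5 * bit b 1 + bit a 2 * bit b 6 +
    bit a 6 * bit b 2 + bit a 3 * bit b 7 + bit a 7 * bit b 3) % 2

/-- image of a code under the columns -/
def app (L : List Nat) (c : Nat) : Nat :=
  (List.range 8).foldl (fun r k => bif Nat.testBit c k then Nat.xor r (L.getD k 0) else r) 0

/-- product of column lists -/
def mulL (A B : List Nat) : List Nat := B.map (app A)

/-- the identity -/
def idL : List Nat := [1, 2, 4, 8, 16, 32, 64, 128]

/-- a letter -/
def gn (i : Nat) : List Nat := bif Nat.blt i 2 then gens.getD i [] else extc.getD (i - 2) []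

/-- the product of a word -/
def wp (w : List Nat) : List Nat := w.foldr (fun i acc => mulL (gn i) acc) idL

/-- letters of a word -/
def wlt (w : List Nat) : Bool := w.all fun i => Nat.blt i 6

/-- letters of a word in the generators -/
def wlt2 (w : List Nat) : Bool := w.all fun i => Nat.blt i 2

/-- a column list of an isometry on all codes -/
def isoL (L : List Nat) : Bool :=
  Nat.beq L.length 8 && L.all (fun x => Nat.blt x 256) &&
    (List.range 256).all fun c => Nat.blt (app L c) 256 && Nat.beq (qc (app L c)) (qc c)

/-- the generators are squares of isometries -/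
def genOK : Bool :=
  (List.range 2).all fun i =>
    isoL (roots.getD i []) && isoL (rinvs.getD i []) && isoL (gens.getD i []) && isoL (ginvs.getD i []) &&
      mulL (roots.getD i []) (rinvs.getD i []) == idL && mulL (rinvs.getD i []) (roots.getD i []) == idL &&
      mulL (gens.getD i []) (ginvs.getD i []) == idL && mulL (ginvs.getD i []) (gens.getD i []) == idL &&
      mulL (roots.getD i []) (roots.getD i []) == gens.getD i []

/-- the further letters are products of the generators -/
def extOK : Bool :=
  Nat.beq extw.length 4 && (List.range 4).all fun j => wlt2 (extw.getD j []) && wp (extw.getD j []) == extc.getD j []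

/-- an orbit chain -/
def chainOK : List Nat → List (Nat × List (List Nat)) → Bool
  | _, [] => true
  | done, (v, ws) :: rest =>
    Nat.blt v 256 && ws.all (fun w => wlt w && done.all fun d => Nat.beq (app (wp w) d) d) &&
      decide ((ws.map fun w => app (wp w) v).Nodup) && chainOK (v :: done) rest

/-- size of the chain -/
def chainSize : List (Nat × List (List Nat)) → Nat
  | [] => 1
  | (_, ws) :: rest => ws.length * chainSize rest

/-- transitivity on singular codes -/
def singOK : Bool :=
  (List.range 256).all fun c => Nat.beq c 0 || Nat.beq (qc c) 1 ||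
    sing.any fun e => Nat.beq e.1 c && wlt e.2 && Nat.beq (app (wp e.2) 1) c

/-- drop the first coordinate -/
def m1 (c : Nat) : Nat := bif Nat.testBit c 0 then Nat.xor c 1 else c

/-- a code without first coordinates -/
def inP6 (a : Nat) : Bool := Nat.beq (bit a 0) 0 && Nat.beq (bit a 4) 0

/-- the element trivial around the first point with a given parameter -/
def radL (a : Nat) : List Nat :=
  (List.range 8).map fun k => bif Nat.beq k 4 then Nat.xor (Nat.xor 16 a) (qc a) else Nat.xor (Nat.shiftLeft 1 k) (pc (Nat.shiftLeft 1 k) a)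

/-- the elements trivial around the first point are products of letters -/
def radOK : Bool :=
  (List.range 256).all fun a => !inP6 a || radw.any fun e => Nat.beq e.1 a && wlt e.2 && wp e.2 == radL a

/-- the representatives: singular parameter and nonsingular one -/
def repOf (a : Nat) : Nat := bif Nat.beq (qc a) 0 then 2 else 136

/-- parameters move to the representatives -/
def repOK : Bool :=
  (List.range 256).all fun a => !inP6 a || Nat.beq a 0 || repw.any fun e =>
    Nat.beq e.1 a && wlt e.2 && Nat.beq (app (wp e.2) 1) 1 && Nat.beq (m1 (app (wp e.2) a)) (repOf a)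

/-- singular vectors orthogonal to the first point move to non-orthogonal ones -/
def lineOK : Bool :=
  (List.range 256).all fun v => Nat.ble v 1 || Nat.beq (pc 1 v) 1 || Nat.beq (qc v) 1 ||
    linew.any fun e => Nat.beq e.1 v && wlt e.2 && Nat.beq (app (wp e.2) 1) 1 && Nat.beq (pc v (app (wp e.2) v)) 1

/-- fixers of the second point -/
def fixOK : Bool :=
  fixw.all (fun w => wlt w && Nat.beq (app (wp w) 1) 1 && Nat.beq (m1 (app (wp w) 2)) 2) &&
    (List.range 256).all fun c => !inP6 c || !(fixw.all fun w => Nat.beq (m1 (app (wp w) c)) c) || Nat.beq c 0 ||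
      Nat.beq c 2

/-- membership in the span of the first two points -/
def sp2 (c : Nat) : Bool := Nat.blt c 4

/-- membership in the span of the first three points -/
def sp3 (c : Nat) : Bool := Nat.blt c 8

/-- second vectors of lines move to the standard one -/
def u2OK : Bool :=
  (List.range 256).all fun u => Nat.beq (qc u) 1 || Nat.beq (pc u 1) 1 || Nat.beq (pc u 2) 1 || sp2 u ||
    u2w.any fun e => Nat.beq e.1 u && wlt e.2 && Nat.beq (app (wp e.2) 1) 1 && Nat.beq (m1 (app (wp e.2) 2)) 2 &&
      sp2 (Nat.xor (app (wp e.2) u) 4)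

/-- nonsingular partners move to the standard one -/
def v0OK : Bool :=
  (List.range 256).all fun v => Nat.beq (pc v 1) 1 || Nat.beq (qc v) 0 || Nat.beq (pc v 136) 0 ||
    v0w.any fun e => Nat.beq e.1 v && wlt e.2 && Nat.beq (app (wp e.2) 1) 1 && Nat.beq (m1 (app (wp e.2) 136)) 136 &&
      Nat.beq (m1 (app (wp e.2) v)) 76

/-- neighbours move to the standard one -/
def adjOK : Bool :=
  (List.range 256).all fun u => Nat.ble u 1 || Nat.beq (qc u) 1 || Nat.beq (pc u 1) 1 || Nat.beq (pc u 136) 1 ||
    Nat.beq (pc u 76) 1 ||
    adjw.any fun e => Nat.beq e.1 u && wlt e.2 && Nat.beq (app (wp e.2) 1) 1 && Nat.beq (m1 (app (wp e.2) 136)) 136 &&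
      Nat.beq (m1 (app (wp e.2) 76)) 76 && Nat.beq (app (wp e.2) u) 2

/-- the Siegel element on codes -/
def sgOK : Bool :=
  wlt sgw && wp sgw == sgc && mulL sgc sgc == idL &&
    (List.range 8).all fun k => Nat.beq (sgc.getD k 0)
      (Nat.xor (Nat.xor (Nat.shiftLeft 1 k) (pc (Nat.shiftLeft 1 k) 4 * 2)) (pc (Nat.shiftLeft 1 k) 2 * 4))

/-- the exchange -/
def swapOK : Bool :=
  wlt swapw && (let g := wp swapw; Nat.beq (app g 1) 1 && Nat.beq (app g 2) 2 && Nat.beq (app g 4) 64 &&
    Nat.beq (app g 64) 4 && Nat.beq (app g 136) 136)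

/-- conjugation to the Siegel element -/
def cAOK : Bool :=
  wlt cAw && (let g := wp cAw; Nat.beq (app g 1) 2 && mulL g (radL 2) == mulL sgc g && Nat.beq (app g 5) 1)

/-- maximality of totally singular spaces over three points -/
def spanOK : Bool :=
  (List.range 256).all fun a => Nat.beq (qc a) 1 || Nat.beq (pc a 1) 1 || Nat.beq (pc a 2) 1 || Nat.beq (pc a 4) 1 ||
    sp3 a || (List.range 256).all fun b => Nat.beq (qc b) 1 || Nat.beq (pc b 1) 1 || Nat.beq (pc b 2) 1 ||
      Nat.beq (pc b 4) 1 || Nat.beq (pc a b) 1 || sp3 b || sp3 (Nat.xor a b)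

/-- an involution of rank four: its fixed vectors are images -/
def bigOK : Bool :=
  [8, 128, 136].all fun a => let s := mulL sgc (radL a)
    (List.range 256).all fun v => !Nat.beq (app s v) v ||
      (List.range 256).any fun u => Nat.beq (Nat.xor (app s u) u) v

end Cfsg.Agent.Spor.CoT.Chk
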