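import Cfsg.Agent.Lib.Spor.CoTypeBig

/-!
The extraspecial subgroup of order 512 in a group of Conway type as a coordinatised space with an
action of the centraliser of its central involution.
-/

set_option autoImplicit false
set_option maxRecDepth 100000
set_option linter.unusedSectionVars false

namespace Cfsg.Agent.Spor.CoT

open Cfsg.Agent.Classical Cfsg.Agent.Classical.OCount Cfsg.Agent.Solv.ExtTwo

universe u

variable {G : Type u} [Group G] [Finite G]

/-- the hypothesis -/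
structure Hyp (z : G) (Q : Subgroup G) : Prop where
  ord : orderOf z = 2
  le : Q ≤ Subgroup.centralizer ({z} : Set G)
  norm : ∀ c : G, Commute c z → ∀ q ∈ Q, c * q * c⁻¹ ∈ Q
  ext : Cfsg.IsExtraspecial 2 Q
  card : Nat.card Q = 512
  cent : Subgroup.centralizer (Q : Set G) ≤ Q
  cardC : Nat.card (Subgroup.centralizer ({z} : Set G)) = 512 * 174182400
  nwc : ∃ x ∈ Q, x ≠ z ∧ IsConj z x

/-- coordinates -/
structure Frame (z : G) (Q : Subgroup G) where
  /-- the vector of an element -/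
  vec : G → V
  /-- the action of the centraliser -/
  π : Subgroup.centralizer ({z} : Set G) →* Ga
  vec_mul : ∀ a ∈ Q, ∀ b ∈ Q, vec (a * b) = vec a + vec b
  vec_surj : ∀ v, ∃ a ∈ Q, vec a = v
  vec_zero : ∀ a ∈ Q, (vec a = 0 ↔ a = 1 ∨ a = z)
  sq_iff : ∀ a ∈ Q, (a * a = 1 ↔ qm (vec a) = 0)
  sq_or : ∀ a ∈ Q, a * a = 1 ∨ a * a = z
  comm_iff : ∀ a ∈ Q, ∀ b ∈ Q, (Commute a b ↔ pol (vec a) (vec b) = 0)
  comm_or : ∀ a ∈ Q, ∀ b ∈ Q, b * a = a * b ∨ b * a = a * b * z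
  vec_conj : ∀ (c : Subgroup.centralizer ({z} : Set G)), ∀ a ∈ Q, vec ((c : G) * a * (c : G)⁻¹) = π c • vec a
  π_surj : Function.Surjective π
  π_ker : ∀ c : Subgroup.centralizer ({z} : Set G), π c = 1 ↔ (c : G) ∈ Q

variable {z : G} {Q : Subgroup G}

theorem mem_C {c : G} : c ∈ Subgroup.centralizer ({z} : Set G) ↔ Commute c z :=
  Subgroup.mem_centralizer_singleton_iff

/-- conjugation on the extraspecial subgroup -/
noncomputable def conjQ (h : Hyp z Q) : Subgroup.centralizer ({z} : Set G) →* MulAut Q where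
  toFun c :=
    { toFun := fun q => ⟨(c : G) * q * (c : G)⁻¹, h.norm c (mem_C.1 c.2) q q.2⟩
      invFun := fun q => ⟨(c : G)⁻¹ * q * (c : G), by
        simpa using h.norm (c : G)⁻¹ (mem_C.1 c.2).inv_left q q.2⟩
      left_inv := fun q => Subtype.ext (show (c : G)⁻¹ * ((c : G) * q * (c : G)⁻¹) * c = (q : G) by group)
      right_inv := fun q => Subtype.ext (show (c : G) * ((c : G)⁻¹ * q * c) * (c : G)⁻¹ = (q : G) by group)
      map_mul' := fun a b => Subtype.ext (show (c : G) * (a * b) * (c : G)⁻¹ =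
        (c : G) * a * (c : G)⁻¹ * ((c : G) * b * (c : G)⁻¹) by group) }
  map_one' := MulEquiv.ext fun q => Subtype.ext (show (1 : G) * q * (1 : G)⁻¹ = q by group)
  map_mul' a b := MulEquiv.ext fun q => Subtype.ext (show (a : G) * b * q * ((a : G) * b)⁻¹ =
    (a : G) * ((b : G) * q * (b : G)⁻¹) * (a : G)⁻¹ by group)

theorem conjQ_inn (h : Hyp z Q) (c : Subgroup.centralizer ({z} : Set G)) :
    conjQ h c ∈ Cfsg.Inn Q ↔ (c : G) ∈ Q := by
  constructor
  · rintro ⟨r, hr⟩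
    have hrc : (r : G)⁻¹ * c ∈ Q := h.cent (Subgroup.mem_centralizer_iff.2 fun q hq => by
      have e := congrArg Subtype.val (MulEquiv.congr_fun hr ⟨q, hq⟩)
      change (r : G) * q * (r : G)⁻¹ = (c : G) * q * (c : G)⁻¹ at e
      calc q * ((r : G)⁻¹ * c) = (r : G)⁻¹ * ((r : G) * q * (r : G)⁻¹) * c := by group
        _ = (r : G)⁻¹ * c * q := by rw [e]; group)
    simpa using mul_mem r.2 hrc
  · intro hc
    exact ⟨⟨c, hc⟩, MulEquiv.ext fun q => rfl⟩

theorem card_kernel (h : Hyp z Q) {X : Type*} [Group X] (f : Subgroup.centralizer ({z} : Set G) →* X)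
    (hf : ∀ c, f c = 1 ↔ (c : G) ∈ Q) : Nat.card f.range = 174182400 := by
  have e : f.ker = Q.subgroupOf (Subgroup.centralizer ({z} : Set G)) := by
    ext c; rw [MonoidHom.mem_ker, hf]; rfl
  have h1 := Subgroup.card_eq_card_quotient_mul_card_subgroup f.ker
  rw [Nat.card_congr (QuotientGroup.quotientKerEquivRange f).toEquiv, h.cardC, e,
    Nat.card_congr (Subgroup.subgroupOfEquivOfLe h.le).toEquiv, h.card] at h1
  omega

theorem plus_model :
    (∀ v, ExtOut.betaPlus 4 v v = QF v) ∧ IsRk (ExtOut.M (ExtOut.betaPlus 4)) (2 ^ (4 + 1)) := by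
  have hβ : ∀ v, ExtOut.betaPlus 4 v v = QF v := fun v => by rw [coe_QF]; rfl
  have hcM : Nat.card (ExtOut.M (ExtOut.betaPlus 4)) = 2 ^ (2 * 4 + 1) := by
    rw [ExtOut.card_M]; simp
  obtain ⟨hrM, -⟩ := Cfsg.Agent.Solv.ExtTwo.main.{0, 0} 4 (by norm_num) _ _ (ExtOut.ext2 hβ QF_pnd) hcM
  obtain ⟨hh1, hh2⟩ := ExtOut.half_card 4
  refine ⟨hβ, hrM.resolve_left fun h => ?_⟩
  have := h.2 _ hh2
  omega

theorem exists_frame (h : Hyp z Q) : Nonempty (Frame z Q) := by
  obtain ⟨z', hz'⟩ := of_extraspecial h.ext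
  have hzQ : z ∈ Q := h.cent (Subgroup.mem_centralizer_iff.2 fun q hq => mem_C.1 (h.le hq))
  have hz1 : z ≠ 1 := fun e => by have := h.ord; rw [e, orderOf_one] at this; omega
  have hzz : z' = ⟨z, hzQ⟩ := by
    rcases hz'.center ⟨z, hzQ⟩ fun q => Subtype.ext (mem_C.1 (h.le q.2)).symm.eq with e | e
    · exact absurd (congrArg Subtype.val e) hz1
    · exact e.symm
  subst hzz
  have hcard : Nat.card Q = 2 ^ (2 * 4 + 1) := by rw [h.card]; norm_num
  obtain ⟨hrk, hiso⟩ := Cfsg.Agent.Solv.ExtTwo.main.{u, 0} 4 (by norm_num) Q _ hz' hcard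
  obtain ⟨hβ, hRM⟩ := plus_model
  have hR : IsRk Q (2 ^ (4 + 1)) := by
    refine hrk.resolve_left fun hsm => ?_
    have hno : ¬ ∃ A : Subgroup Q, Cfsg.IsElementaryAbelian 2 A ∧ Nat.card ↥A = 2 ^ (4 + 1) := by
      rintro ⟨A, hA, hAc⟩
      have := hsm.2 A hA
      omega
    obtain ⟨o⟩ := (ExtOut.main h.ext 4 (by norm_num) hcard).2 hno
    let f : Subgroup.centralizer ({z} : Set G) →* _ :=
      o.toMonoidHom.comp ((QuotientGroup.mk' (Cfsg.Inn Q)).comp (conjQ h))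
    have hf : ∀ c, f c = 1 ↔ (c : G) ∈ Q := fun c => by
      show o (QuotientGroup.mk (conjQ h c)) = 1 ↔ _
      rw [MulEquiv.map_eq_one_iff, QuotientGroup.eq_one_iff, conjQ_inn]
    have hd := Subgroup.card_subgroup_dvd_card f.range
    rw [card_kernel h f hf, show (4 : ℕ) - 1 = 3 from rfl, OCount.card_GO_minus 3 1 1 (by decide), ZMod.card] at hd
    revert hd
    decide
  obtain ⟨e, he⟩ := hiso _ _ (ExtOut.ext2 hβ QF_pnd) (by rw [ExtOut.card_M]; simp) _ hR hRM
  classical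
  let w : G → V := fun a => if ha : a ∈ Q then (e ⟨a, ha⟩).vec else 0
  have hw : ∀ a (ha : a ∈ Q), w a = (e ⟨a, ha⟩).vec := fun a ha => dif_pos ha
  let p : Subgroup.centralizer ({z} : Set G) →* OG :=
    ((ExtOut.linHom hβ QF_pnd).comp (ExtOut.autCongr e).toMonoidHom).comp (conjQ h)
  have hp : ∀ c, p c = 1 ↔ (c : G) ∈ Q := fun c => by
    rw [← conjQ_inn h c, ← MonoidHom.mem_ker]
    show ExtOut.autCongr e (conjQ h c) ∈ (ExtOut.linHom hβ QF_pnd).ker ↔ _
    rw [ExtOut.linHom_ker, ← ExtOut.map_inn e]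
    exact Subgroup.mem_map_iff_mem (ExtOut.autCongr e).injective
  have hrange : p.range = Ga := eq_Ga (card_kernel h p hp)
  have hmem : ∀ c, p c ∈ Ga := fun c => by rw [← hrange]; exact ⟨c, rfl⟩
  refine ⟨⟨w, p.codRestrict Ga hmem, ?_, ?_, ?_, ?_, ?_, ?_, ?_, ?_, ?_, ?_⟩⟩
  · intro a ha b hb
    rw [hw a ha, hw b hb, hw _ (mul_mem ha hb),
      show (⟨a * b, mul_mem ha hb⟩ : Q) = ⟨a, ha⟩ * ⟨b, hb⟩ from rfl, map_mul, ExtOut.mul_vec]
  · intro v
    refine ⟨(e.symm ⟨v, 0⟩ : Q), (e.symm ⟨v, 0⟩).2, ?_⟩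
    rw [hw _ (e.symm ⟨v, 0⟩).2]
    simp
  · intro a ha
    rw [hw a ha]
    constructor
    · intro hv
      rcases ExtOut.bit_cases (e ⟨a, ha⟩).bit with eb | eb
      · refine Or.inl (congrArg Subtype.val (e.injective (a₁ := ⟨a, ha⟩) (a₂ := 1) ?_))
        rw [map_one]; exact ExtOut.M.ext hv eb
      · refine Or.inr (congrArg Subtype.val (e.injective (a₁ := ⟨a, ha⟩) (a₂ := ⟨z, hzQ⟩) ?_))
        rw [he]; exact ExtOut.M.ext hv eb
    · rintro (rfl | rfl)
      · rw [show (⟨1, ha⟩ : Q) = 1 from rfl, map_one]; rfl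
      · rw [he]; rfl
  · intro a ha
    rw [hw a ha, ← coe_QF, ← hβ]
    have hm : (⟨a, ha⟩ : Q) * ⟨a, ha⟩ = 1 ↔ a * a = 1 :=
      ⟨fun e => congrArg Subtype.val e, fun e => Subtype.ext e⟩
    rw [← hm, ← map_eq_one_iff e e.injective, map_mul]
    constructor
    · intro h1
      have := congrArg ExtOut.M.bit h1
      rw [ExtOut.mul_bit, ExtOut.one_bit, ZModModule.add_self, zero_add] at this
      exact this
    · intro h1
      refine ExtOut.M.ext ?_ ?_
      · rw [ExtOut.mul_vec, ExtOut.one_vec, ZModModule.add_self]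
      · rw [ExtOut.mul_bit, ExtOut.one_bit, h1, ZModModule.add_self, add_zero]
  · intro a ha
    rcases hz'.sq ⟨a, ha⟩ with e | e
    exacts [Or.inl (congrArg Subtype.val e), Or.inr (congrArg Subtype.val e)]
  · intro a ha b hb
    rw [hw a ha, hw b hb]
    have : Commute (e ⟨a, ha⟩) (e ⟨b, hb⟩) ↔ Commute a b := by
      rw [commute_iff_eq, ← map_mul, ← map_mul, e.injective.eq_iff, Subtype.ext_iff]
      exact Iff.rfl
    rw [← this, ExtOut.mem_center_iff' hβ]
    simp only [QuadraticMap.polar, coe_QF, pol, sub_eq_add_neg, ZModModule.neg_eq_self]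
  · intro a ha b hb
    rcases hz'.comm ⟨a, ha⟩ ⟨b, hb⟩ with e | e
    exacts [Or.inl (congrArg Subtype.val e), Or.inr (congrArg Subtype.val e)]
  · intro c a ha
    rw [hw _ (h.norm c (mem_C.1 c.2) a ha), hw a ha]
    show (e (conjQ h c ⟨a, ha⟩)).vec = (p c).1 _
    rw [show e (conjQ h c ⟨a, ha⟩) = (ExtOut.autCongr e (conjQ h c)) (e ⟨a, ha⟩) by simp [ExtOut.autCongr],
      ExtOut.vec_apply hβ QF_pnd]
    rfl
  · intro g
    obtain ⟨c, hc⟩ : (g : OG) ∈ p.range := by rw [hrange]; exact g.2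
    exact ⟨c, Subtype.ext hc⟩
  · intro c
    rw [← hp c]
    exact ⟨fun e => congrArg Subtype.val e, fun e => Subtype.ext e⟩

end Cfsg.Agent.Spor.CoT
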