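import Cfsg.Agent.Lib.Spor.CoTypeModel
import Cfsg.Agent.Lib.Classical.OrthIndex

/-!
The subgroup generated by the two squares: its order, transitivity, involution classes and their centralisers.
-/

set_option autoImplicit false
set_option maxRecDepth 100000
set_option linter.unusedSectionVars false

namespace Cfsg.Agent.Spor.CoT

open Chk Dat Cfsg.Agent.Classical Cfsg.Agent.Classical.OCount

instance : Finite OG := Nat.finite_of_card_ne_zero (by rw [card_OG]; norm_num)

theorem gen_spec {i : ℕ} (hi : i < 2) :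
    (∃ r : OG, IsCols r (roots.getD i []) ∧ IsCols (r * r) (gens.getD i [])) ∧
      ∃ g : OG, IsCols g (ginvs.getD i []) := by
  have h := List.all_eq_true.mp gen_ok i (List.mem_range.mpr hi)
  simp only [Bool.and_eq_true, beq_iff_eq] at h
  obtain ⟨⟨⟨⟨⟨⟨⟨⟨hr, hri⟩, hg⟩, hgi⟩, e1⟩, e2⟩, e3⟩, e5⟩, e4⟩ := h
  obtain ⟨r, hr'⟩ := exists_of_isoL hr hri e1
  exact ⟨⟨r, hr', e4 ▸ hr'.mul hr'⟩, exists_of_isoL hgi hg e5⟩

/-- a generator -/
noncomputable def gel2 (i : ℕ) : OG := if h : i < 2 then (gen_spec h).1.choose * (gen_spec h).1.choose else 1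

theorem gel2_cols {i : ℕ} (hi : i < 2) : IsCols (gel2 i) (gens.getD i []) := by
  rw [gel2, dif_pos hi]; exact (gen_spec hi).1.choose_spec.2

/-- the subgroup -/
noncomputable def Ga : Subgroup OG := Subgroup.closure {gel2 0, gel2 1}

theorem gel2_mem {i : ℕ} (hi : i < 2) : gel2 i ∈ Ga := by
  interval_cases i <;> exact Subgroup.subset_closure (by simp)

theorem gn_small {i : ℕ} (hi : i < 2) : gn i = gens.getD i [] := by interval_cases i <;> rfl

theorem base_cols : ∀ {w : List ℕ}, (∀ i ∈ w, i < 2) → IsCols ((w.map gel2).prod) (wp w)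
  | [], _ => IsCols.one
  | i :: w, h => by
    show IsCols (gel2 i * (w.map gel2).prod) (mulL (gn i) (wp w))
    rw [gn_small (h i (by simp))]
    exact (gel2_cols (h i (by simp))).mul (base_cols fun x hx => h x (by simp [hx]))

/-- a letter -/
noncomputable def gel (i : ℕ) : OG := if i < 2 then gel2 i else ((extw.getD (i - 2) []).map gel2).prod

theorem ext_spec {j : ℕ} (hj : j < 4) :
    (∀ i ∈ extw.getD j [], i < 2) ∧ wp (extw.getD j []) = extc.getD j [] := by
  have h := ext_ok
  simp only [extOK, Bool.and_eq_true, List.all_eq_true, List.mem_range, wlt2, beq_iff_eq] at h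
  exact ⟨fun i hi => Nat.le_of_ble_eq_true ((h.2 j hj).1 i hi), (h.2 j hj).2⟩

theorem gel_cols {i : ℕ} (hi : i < 6) : IsCols (gel i) (gn i) := by
  rw [gel]
  split_ifs with h
  · rw [gn_small h]; exact gel2_cols h
  · obtain ⟨h1, h2⟩ := ext_spec (j := i - 2) (by omega)
    have e : gn i = extc.getD (i - 2) [] := by
      rw [gn, show Nat.blt i 2 = false from Bool.eq_false_iff.2 fun e => h (Nat.le_of_ble_eq_true e)]; rfl
    rw [e, ← h2]
    exact base_cols h1

theorem gel_mem {i : ℕ} (hi : i < 6) : gel i ∈ Ga := by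
  rw [gel]
  split_ifs with h
  · exact gel2_mem h
  · refine list_prod_mem fun x hx => ?_
    obtain ⟨k, hk, rfl⟩ := List.mem_map.mp hx
    exact gel2_mem ((ext_spec (j := i - 2) (by omega)).1 k hk)

/-- a word -/
noncomputable def wel (w : List ℕ) : OG := (w.map gel).prod

theorem wlt_spec {w : List ℕ} (h : wlt w = true) : ∀ i ∈ w, i < 6 := fun i hi =>
  Nat.le_of_ble_eq_true (List.all_eq_true.mp h i hi)

theorem wel_mem {w : List ℕ} (h : wlt w = true) : wel w ∈ Ga :=
  list_prod_mem fun x hx => by obtain ⟨i, hi, rfl⟩ := List.mem_map.mp hx; exact gel_mem (wlt_spec h i hi)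

theorem wel_cols : ∀ {w : List ℕ}, (∀ i ∈ w, i < 6) → IsCols (wel w) (wp w)
  | [], _ => IsCols.one
  | i :: w, h => by
    show IsCols (gel i * wel w) (mulL (gn i) (wp w))
    exact (gel_cols (h i (by simp))).mul (wel_cols fun x hx => h x (by simp [hx]))

/-- an element of the subgroup from a word -/
noncomputable def we (w : List ℕ) : Ga := if h : wlt w = true then ⟨wel w, wel_mem h⟩ else 1

theorem we_cols {w : List ℕ} (h : wlt w = true) : IsCols (we w : OG) (wp w) := by
  rw [we, dif_pos h]; exact wel_cols (wlt_spec h)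

theorem we_app {w : List ℕ} (h : wlt w = true) {c : ℕ} (hc : c < 256) :
    (we w : OG).1 (vec c) = vec (app (wp w) c) := by
  rw [← vec_enc ((we w : OG).1 (vec c)), (we_cols h).2, enc_vec c hc]

/-- pointwise stabiliser of codes -/
def stabK (done : List ℕ) : Subgroup Ga where
  carrier := {g | ∀ d ∈ done, (g : OG).1 (vec d) = vec d}
  one_mem' := fun _ _ => rfl
  mul_mem' := fun {a b} ha hb d hd => by
    show (a : OG).1 ((b : OG).1 (vec d)) = vec d
    rw [hb d hd, ha d hd]
  inv_mem' := fun {a} ha d hd => (congrArg _ (ha d hd)).symm.trans ((a : OG).1.symm_apply_apply _)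

theorem level {n : ℕ} (done : List ℕ) (v : ℕ) (W : Fin n → Ga) (hW : ∀ c, W c ∈ stabK done)
    (hinj : Function.Injective fun c => (W c : OG).1 (vec v)) :
    n * Nat.card (stabK (v :: done)) ≤ Nat.card (stabK done) := by
  let f : Fin n × stabK (v :: done) → stabK done := fun q =>
    ⟨W q.1 * q.2, mul_mem (hW q.1) fun d hd => q.2.2 d (List.mem_cons_of_mem _ hd)⟩
  have hf : Function.Injective f := fun a b e => by
    have e' : W a.1 * (a.2 : Ga) = W b.1 * (b.2 : Ga) := congrArg Subtype.val e
    have h1 : ∀ q : Fin n × stabK (v :: done), ((W q.1 * (q.2 : Ga) : Ga) : OG).1 (vec v) = (W q.1 : OG).1 (vec v) :=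
      fun q => by
        show (W q.1 : OG).1 (((q.2 : Ga) : OG).1 (vec v)) = _
        rw [q.2.2 v List.mem_cons_self]
    have hi : a.1 = b.1 := hinj (by
      show (W a.1 : OG).1 (vec v) = (W b.1 : OG).1 (vec v)
      rw [← h1 a, ← h1 b, e'])
    refine Prod.ext hi (Subtype.ext ?_)
    rw [hi] at e'
    exact mul_left_cancel e'
  have h := Nat.card_le_card_of_injective f hf
  rwa [Nat.card_prod, Nat.card_fin] at h

theorem chain_le : ∀ (lev : List (ℕ × List (List ℕ))) (done : List ℕ), (∀ d ∈ done, d < 256) →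
    chainOK done lev = true → chainSize lev ≤ Nat.card (stabK done)
  | [], done, _, _ => Nat.card_pos
  | (v, ws) :: rest, done, hd, h => by
    rw [chainOK] at h
    simp only [Bool.and_eq_true, List.all_eq_true, decide_eq_true_eq] at h
    obtain ⟨⟨⟨hv, hws⟩, hnd⟩, hrest⟩ := h
    have hv' : v < 256 := Nat.le_of_ble_eq_true hv
    have hd' : ∀ d ∈ v :: done, d < 256 := fun d h => by rcases List.mem_cons.mp h with rfl | h; exacts [hv', hd d h]
    have ih := chain_le rest (v :: done) hd' hrest
    have hlt : ∀ w ∈ ws, app (wp w) v < 256 := fun w hw => by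
      have h := (we_cols (hws w hw).1).2 (vec v)
      rw [enc_vec v hv'] at h
      exact lt_of_eq_of_lt h.symm (enc_lt _)
    refine le_trans (Nat.mul_le_mul_left _ ih) (level done v (fun c : Fin ws.length => we ws[c.1]) (fun c => ?_) ?_)
    · obtain ⟨h1, h2⟩ := hws _ (List.getElem_mem c.2)
      intro d hdd
      rw [we_app h1 (hd d hdd), Nat.eq_of_beq_eq_true (h2 d hdd)]
    · intro a b e
      simp only at e
      rw [we_app (hws _ (List.getElem_mem a.2)).1 hv', we_app (hws _ (List.getElem_mem b.2)).1 hv'] at e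
      have e3 := congrArg enc e
      rw [enc_vec _ (hlt _ (List.getElem_mem a.2)), enc_vec _ (hlt _ (List.getElem_mem b.2))] at e3
      exact Fin.ext ((List.Nodup.getElem_inj_iff hnd (i := a.1) (j := b.1) (hi := by simp) (hj := by simp)).mp
        (by simpa using e3))

theorem index_sq {H : Subgroup OG} (hH : Nat.card H = 174182400) : Ga ≤ H := by
  have hidx : H.index = 2 := by
    have := Subgroup.card_mul_index H
    rw [hH, card_OG] at this
    omega
  refine (Subgroup.closure_le _).mpr ?_
  rintro x (rfl | rfl) <;> (rw [gel2, dif_pos (by norm_num)]; exact Subgroup.mul_self_mem_of_index_two hidx _)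

theorem card_Ga : Nat.card Ga = 174182400 := by
  refine le_antisymm ?_ ?_
  · have hidx := OOmega.index_two QF_pnd (by rw [Module.finrank_fintype_fun_eq_card]; simp)
      (Or.inr (by rw [Module.finrank_fintype_fun_eq_card]; simp))
    have hc := Subgroup.card_mul_index (commutator OG)
    rw [hidx, card_OG] at hc
    have hc' : Nat.card (commutator OG) = 174182400 := by omega
    exact (Nat.card_le_card_of_injective _ (Subgroup.inclusion_injective (index_sq hc'))).trans (le_of_eq hc')
  · rw [← chain_size]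
    exact (chain_le levels [] (by simp) chain_ok).trans (Subgroup.card_le_card_group _)

theorem eq_Ga {H : Subgroup OG} (hH : Nat.card H = 174182400) : H = Ga :=
  (Subgroup.eq_of_le_of_card_ge (index_sq hH) (by rw [hH, card_Ga])).symm

noncomputable instance : MulAction Ga V where
  smul g v := (g : OG).1 v
  one_smul _ := rfl
  mul_smul _ _ _ := rfl

theorem smul_def (g : Ga) (v : V) : g • v = (g : OG).1 v := rfl

theorem we_smul {w : List ℕ} (h : wlt w = true) {c : ℕ} (hc : c < 256) : we w • vec c = vec (app (wp w) c) :=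
  we_app h hc

/-- the first point -/
def e0 : V := vec 1

theorem exists_smul {v : V} (h0 : v ≠ 0) (hq : qm v = 0) : ∃ g : Ga, g • e0 = v := by
  have h := List.all_eq_true.mp sing_ok (enc v) (List.mem_range.mpr (enc_lt v))
  simp only [Bool.or_eq_true, List.any_eq_true, Bool.and_eq_true] at h
  rcases h with (h | h) | ⟨e, -, ⟨he, hw⟩, ha⟩
  · exact absurd (enc_injective ((Nat.eq_of_beq_eq_true h).trans enc_zero.symm)) h0
  · have := qm_eq_zero.mp hq
    have := Nat.eq_of_beq_eq_true h
    omega
  · exact ⟨we e.2, by rw [e0, we_smul hw (by norm_num), Nat.eq_of_beq_eq_true ha, vec_enc]⟩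

theorem e0_facts : e0 ≠ 0 ∧ qm e0 = 0 ∧ enc e0 = 1 := by decide +kernel

theorem sing_card : (Finset.univ.filter fun v : V => v ≠ 0 ∧ qm v = 0).card = 135 := by decide +kernel

theorem orbit_e0 : MulAction.orbit Ga e0 = {v : V | v ≠ 0 ∧ qm v = 0} := by
  ext v
  constructor
  · rintro ⟨g, rfl⟩
    refine ⟨fun h => e0_facts.1 (((g : OG).1.map_eq_zero_iff).mp h), ?_⟩
    show qm ((g : OG).1 e0) = 0
    rw [iso_q, e0_facts.2.1]
  · rintro ⟨h0, hq⟩; exact exists_smul h0 hq

/-- the stabiliser of the first point -/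
noncomputable abbrev St : Subgroup Ga := MulAction.stabilizer Ga e0

theorem card_St : Nat.card St = 1290240 := by
  have h := MulAction.index_stabilizer Ga e0
  rw [orbit_e0, show ({v : V | v ≠ 0 ∧ qm v = 0}).ncard = 135 by
    rw [← sing_card, ← Set.ncard_coe_finset, Finset.coe_filter]; simp] at h
  have hc := Subgroup.card_mul_index St
  rw [h, card_Ga] at hc
  omega

theorem cols_inj {g h : Ga} (e : cols (g : OG) = cols (h : OG)) : g = h :=
  Subtype.ext ((isCols_cols _).ext (e ▸ isCols_cols _))

theorem conj_we {w : List ℕ} (hw : wlt w = true) {A B : List ℕ} {s t : Ga} (hs : IsCols (s : OG) A)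
    (ht : IsCols (t : OG) B) (h : mulL (wp w) A = mulL B (wp w)) : we w * s * (we w)⁻¹ = t := by
  rw [mul_inv_eq_iff_eq_mul]
  refine Subtype.ext (((we_cols hw).mul hs).ext ?_)
  rw [h]
  exact ht.mul (we_cols hw)

end Cfsg.Agent.Spor.CoT
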