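import Cfsg.Prelude.Def_KGroupFacts
import Cfsg.Agent.Lib.Solv.ExtraspecialTwo
import Cfsg.Agent.Lib.Classical.OrthMatrix
import Cfsg.Agent.Lib.Classical.OrthForms
import Cfsg.Agent.Lib.Classical.OrthEvenSplit

/-!
The outer automorphism group of an extraspecial 2-group is the orthogonal group of its squaring form.
-/

set_option autoImplicit false
set_option linter.unusedSectionVars false

namespace Cfsg.Agent.Spor.ExtOut

open Module QuadraticMap Cfsg.Agent.Classical.ORefl Cfsg.Agent.Classical.OCount Cfsg.Agent.Solv.ExtTwo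

variable {ι : Type} [Fintype ι] [DecidableEq ι]

/-- the central extension of a vector space given by a bilinear cocycle -/
@[ext]
structure M (β : (ι → ZMod 2) →ₗ[ZMod 2] (ι → ZMod 2) →ₗ[ZMod 2] ZMod 2) where
  vec : ι → ZMod 2
  bit : ZMod 2

variable {β : (ι → ZMod 2) →ₗ[ZMod 2] (ι → ZMod 2) →ₗ[ZMod 2] ZMod 2}

instance : Mul (M β) := ⟨fun x y => ⟨x.vec + y.vec, x.bit + y.bit + β x.vec y.vec⟩⟩
instance : One (M β) := ⟨⟨0, 0⟩⟩
instance : Inv (M β) := ⟨fun x => ⟨x.vec, x.bit + β x.vec x.vec⟩⟩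

theorem mul_vec (x y : M β) : (x * y).vec = x.vec + y.vec := rfl
theorem mul_bit (x y : M β) : (x * y).bit = x.bit + y.bit + β x.vec y.vec := rfl
theorem one_vec : (1 : M β).vec = 0 := rfl
theorem one_bit : (1 : M β).bit = 0 := rfl
theorem inv_vec (x : M β) : x⁻¹.vec = x.vec := rfl
theorem inv_bit (x : M β) : x⁻¹.bit = x.bit + β x.vec x.vec := rfl

instance : Group (M β) := Group.ofLeftAxioms
  (fun a b c => by
    apply M.ext
    · simp [mul_vec, add_assoc]
    · simp only [mul_bit, mul_vec, map_add, LinearMap.add_apply]; ring)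
  (fun a => by apply M.ext <;> simp [mul_vec, mul_bit, one_vec, one_bit])
  (fun a => by
    apply M.ext
    · simp [mul_vec, inv_vec, one_vec, ZModModule.add_self]
    · simp only [mul_bit, inv_bit, inv_vec, one_bit]
      rw [show a.bit + β a.vec a.vec + a.bit + β a.vec a.vec =
        (a.bit + a.bit) + (β a.vec a.vec + β a.vec a.vec) by ring, ZModModule.add_self, ZModModule.add_self, add_zero])

/-- coordinates -/
def prodEquiv : M β ≃ ((ι → ZMod 2) × ZMod 2) where
  toFun x := (x.vec, x.bit)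
  invFun p := ⟨p.1, p.2⟩
  left_inv _ := rfl
  right_inv _ := rfl

instance : Finite (M β) := Finite.of_equiv _ prodEquiv.symm

theorem card_M : Nat.card (M β) = 2 ^ (Fintype.card ι + 1) := by
  rw [Nat.card_congr prodEquiv, Nat.card_prod, Nat.card_fun, Nat.card_zmod, Nat.card_eq_fintype_card, pow_succ]

variable (β) in
/-- the central involution -/
def zz : M β := ⟨0, 1⟩

theorem bit_cases : ∀ a : ZMod 2, a = 0 ∨ a = 1 := by decide

variable {Q : QuadraticForm (ZMod 2) (ι → ZMod 2)}

theorem polar_eq (hβ : ∀ v, β v v = Q v) (v w : (ι → ZMod 2)) : β v w + β w v = polar Q v w := by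
  rw [polar, ← hβ, ← hβ, ← hβ]
  simp only [map_add, LinearMap.add_apply]
  ring

theorem mem_center_iff' (hβ : ∀ v, β v v = Q v) (x : M β) (y : M β) :
    Commute x y ↔ polar Q x.vec y.vec = 0 := by
  rw [← polar_eq hβ]
  constructor
  · intro h
    have := congrArg M.bit h.eq
    rw [mul_bit, mul_bit] at this
    linear_combination this + ZModModule.add_self (β y.vec x.vec)
  · intro h
    apply M.ext
    · simp [mul_vec, add_comm]
    · rw [mul_bit, mul_bit]
      linear_combination h - ZModModule.add_self (β y.vec x.vec)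

theorem ext2 (hβ : ∀ v, β v v = Q v) (hQ : PND Q) : Ext2 (M β) (zz β) where
  ne h := one_ne_zero (congrArg M.bit h)
  central g := (mem_center_iff' hβ _ _).2 (by
    show polar Q 0 g.vec = 0
    exact QuadraticMap.polar_zero_left Q _)
  center g h := by
    have hv : g.vec = 0 := hQ _ fun w => (mem_center_iff' hβ g ⟨w, 0⟩).1 (h _)
    rcases bit_cases g.bit with e | e
    · exact .inl (M.ext hv e)
    · exact .inr (M.ext hv e)
  sq g := by
    rcases bit_cases (β g.vec g.vec) with e | e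
    · refine .inl (M.ext ?_ ?_)
      · simp [mul_vec, one_vec, ZModModule.add_self]
      · simp [mul_bit, one_bit, e, ZModModule.add_self]
    · refine .inr (M.ext ?_ ?_)
      · simp [mul_vec, zz, ZModModule.add_self]
      · simp [mul_bit, zz, e, ZModModule.add_self]
  comm g h := by
    rcases bit_cases (β g.vec h.vec + β h.vec g.vec) with e | e
    · refine .inl (M.ext ?_ ?_)
      · simp [mul_vec, add_comm]
      · rw [mul_bit, mul_bit]
        linear_combination e - ZModModule.add_self (β g.vec h.vec)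
    · refine .inr (M.ext ?_ ?_)
      · simp [mul_vec, zz, add_comm]
      · simp only [mul_bit, mul_vec, zz, map_zero, add_zero]
        linear_combination e - ZModModule.add_self (β g.vec h.vec)

theorem zz_fixed (hβ : ∀ v, β v v = Q v) (hQ : PND Q) (φ : MulAut (M β)) : φ (zz β) = zz β := by
  refine ((ext2 hβ hQ).center _ fun k => ?_).resolve_left fun h => (ext2 hβ hQ).ne
    (φ.injective (h.trans (map_one φ).symm))
  have := ((ext2 hβ hQ).central (φ.symm k)).map φ.toMonoidHom
  simpa using this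

theorem split (x : M β) : x = ⟨x.vec, 0⟩ * ⟨0, x.bit⟩ := by
  apply M.ext <;> simp [mul_vec, mul_bit]

theorem vec_apply (hβ : ∀ v, β v v = Q v) (hQ : PND Q) (φ : MulAut (M β)) (x : M β) :
    (φ x).vec = (φ ⟨x.vec, 0⟩).vec := by
  conv_lhs => rw [split x]
  rw [map_mul, mul_vec]
  rcases bit_cases x.bit with e | e <;> rw [e]
  · rw [show (⟨0, 0⟩ : M β) = 1 from rfl, map_one, one_vec, add_zero]
  · rw [show (⟨0, 1⟩ : M β) = zz β from rfl, zz_fixed hβ hQ]
    exact add_zero _

/-- the additive part of an automorphism -/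
def vecHom (hβ : ∀ v, β v v = Q v) (hQ : PND Q) (φ : MulAut (M β)) : (ι → ZMod 2) →ₗ[ZMod 2] (ι → ZMod 2) :=
  AddMonoidHom.toZModLinearMap 2
    { toFun := fun v => (φ ⟨v, 0⟩).vec
      map_zero' := by
        show (φ (1 : M β)).vec = 0
        rw [map_one, one_vec]
      map_add' := fun v w => by
        have h := congrArg M.vec (map_mul φ (⟨v, 0⟩ : M β) ⟨w, 0⟩)
        rw [vec_apply hβ hQ, mul_vec, mul_vec] at h
        exact h }

/-- the linear part of an automorphism -/
def lin (hβ : ∀ v, β v v = Q v) (hQ : PND Q) (φ : MulAut (M β)) : (ι → ZMod 2) ≃ₗ[ZMod 2] (ι → ZMod 2) :=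
  LinearEquiv.ofLinear (vecHom hβ hQ φ) (vecHom hβ hQ φ.symm)
    (LinearMap.ext fun v => by
      show (φ ⟨(φ.symm ⟨v, 0⟩).vec, 0⟩).vec = v
      rw [← vec_apply hβ hQ, MulEquiv.apply_symm_apply])
    (LinearMap.ext fun v => by
      show (φ.symm ⟨(φ ⟨v, 0⟩).vec, 0⟩).vec = v
      rw [← vec_apply hβ hQ, MulEquiv.symm_apply_apply])

theorem lin_apply (hβ : ∀ v, β v v = Q v) (hQ : PND Q) (φ : MulAut (M β)) (v : (ι → ZMod 2)) :
    lin hβ hQ φ v = (φ ⟨v, 0⟩).vec := rfl

theorem lin_mem (hβ : ∀ v, β v v = Q v) (hQ : PND Q) (φ : MulAut (M β)) : lin hβ hQ φ ∈ Iso Q := by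
  intro v
  rw [lin_apply, ← hβ, ← hβ]
  have hsq : ∀ x : M β, x * x = ⟨0, β x.vec x.vec⟩ := fun x => by
    apply M.ext
    · simp [mul_vec, ZModModule.add_self]
    · simp [mul_bit, ZModModule.add_self]
  have h : φ ⟨0, β v v⟩ = ⟨0, β v v⟩ := by
    rcases bit_cases (β v v) with e | e <;> rw [e]
    · exact map_one φ
    · exact zz_fixed hβ hQ φ
  have h2 := congrArg M.bit (hsq (φ ⟨v, 0⟩))
  rw [← map_mul, hsq ⟨v, 0⟩, h] at h2
  exact h2.symm

/-- automorphisms to isometries -/
def linHom (hβ : ∀ v, β v v = Q v) (hQ : PND Q) : MulAut (M β) →* ↥(Iso Q) where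
  toFun φ := ⟨lin hβ hQ φ, lin_mem hβ hQ φ⟩
  map_one' := Subtype.ext (LinearEquiv.ext fun v => by rfl)
  map_mul' φ ψ := Subtype.ext (LinearEquiv.ext fun v => by
    show (φ (ψ ⟨v, 0⟩)).vec = (φ ⟨(ψ ⟨v, 0⟩).vec, 0⟩).vec
    exact vec_apply hβ hQ φ _)

theorem exists_potential (γ : (ι → ZMod 2) →ₗ[ZMod 2] (ι → ZMod 2) →ₗ[ZMod 2] ZMod 2) (h0 : ∀ v, γ v v = 0) :
    ∃ h : (ι → ZMod 2) → ZMod 2, ∀ v w, h (v + w) = h v + h w + γ v w := by
  classical
  let e := Fintype.equivFin ι
  set c : ι → ι → ZMod 2 := fun i j => γ (Pi.single i 1) (Pi.single j 1) with hc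
  have hexp : ∀ v w : (ι → ZMod 2), γ v w = ∑ i, ∑ j, c i j * v i * w j := by
    intro v w
    conv_lhs => rw [pi_eq_sum_univ' v, pi_eq_sum_univ' w]
    simp only [map_sum, map_smul, LinearMap.sum_apply, LinearMap.smul_apply, smul_eq_mul, Finset.mul_sum]
    rw [Finset.sum_comm]
    exact Finset.sum_congr rfl fun i _ => Finset.sum_congr rfl fun j _ => by rw [hc]; ring
  have hsym : ∀ i j, c j i = c i j := by
    intro i j
    have h := h0 (Pi.single i 1 + Pi.single j 1)
    rw [map_add, map_add, LinearMap.add_apply, LinearMap.add_apply, h0, h0, zero_add, add_zero] at h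
    exact CharTwo.add_eq_zero.1 h
  refine ⟨fun v => ∑ i, ∑ j, if e i < e j then c i j * v i * v j else 0, fun v w => ?_⟩
  have h1 : ∑ i, ∑ j, (if e i < e j then c i j * w i * v j else 0) =
      ∑ i, ∑ j, (if e j < e i then c i j * v i * w j else 0) := by
    rw [Finset.sum_comm]
    exact Finset.sum_congr rfl fun i _ => Finset.sum_congr rfl fun j _ => by rw [hsym i j]; split_ifs <;> ring
  rw [hexp, show (∑ i, ∑ j, c i j * v i * w j) = (∑ i, ∑ j, (if e i < e j then c i j * v i * w j else 0)) +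
      ∑ i, ∑ j, (if e i < e j then c i j * w i * v j else 0) from ?_]
  · simp only [Pi.add_apply, ← Finset.sum_add_distrib]
    refine Finset.sum_congr rfl fun i _ => Finset.sum_congr rfl fun j _ => ?_
    split_ifs <;> ring
  · rw [h1]
    simp only [← Finset.sum_add_distrib]
    refine Finset.sum_congr rfl fun i _ => Finset.sum_congr rfl fun j _ => ?_
    rcases lt_trichotomy (e i) (e j) with h | h | h
    · rw [if_pos h, if_neg (not_lt.2 h.le), add_zero]
    · rw [e.injective h, if_neg (lt_irrefl _), add_zero, show c j j = 0 from h0 _, zero_mul, zero_mul]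
    · rw [if_neg (not_lt.2 h.le), if_pos h, zero_add]

theorem linHom_surjective (hβ : ∀ v, β v v = Q v) (hQ : PND Q) :
    Function.Surjective (linHom hβ hQ) := by
  rintro ⟨g, hg⟩
  obtain ⟨h, hh⟩ := exists_potential (β.compl₁₂ (g : (ι → ZMod 2) →ₗ[ZMod 2] (ι → ZMod 2)) (g : (ι → ZMod 2) →ₗ[ZMod 2] (ι → ZMod 2)) + β)
    (fun v => by
      simp only [LinearMap.add_apply, LinearMap.compl₁₂_apply, LinearEquiv.coe_coe, hβ, hg v]
      exact ZModModule.add_self _)
  let φ : M β ≃* M β :=
    { toFun := fun x => ⟨g x.vec, x.bit + h x.vec⟩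
      invFun := fun x => ⟨g.symm x.vec, x.bit + h (g.symm x.vec)⟩
      left_inv := fun x => by
        apply M.ext
        · exact g.symm_apply_apply _
        · show x.bit + h x.vec + h (g.symm (g x.vec)) = x.bit
          rw [g.symm_apply_apply, add_assoc, ZModModule.add_self, add_zero]
      right_inv := fun x => by
        apply M.ext
        · exact g.apply_symm_apply _
        · show x.bit + h (g.symm x.vec) + h (g.symm x.vec) = x.bit
          rw [add_assoc, ZModModule.add_self, add_zero]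
      map_mul' := fun x y => by
        apply M.ext
        · exact map_add g _ _
        · show x.bit + y.bit + β x.vec y.vec + h (x.vec + y.vec) =
            x.bit + h x.vec + (y.bit + h y.vec) + β (g x.vec) (g y.vec)
          rw [hh, LinearMap.add_apply, LinearMap.add_apply, LinearMap.compl₁₂_apply, LinearEquiv.coe_coe]
          linear_combination ZModModule.add_self (β x.vec y.vec) }
  exact ⟨φ, Subtype.ext (LinearEquiv.ext fun v => rfl)⟩

theorem linHom_ker (hβ : ∀ v, β v v = Q v) (hQ : PND Q) : (linHom hβ hQ).ker = Cfsg.Inn (M β) := by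
  ext φ
  rw [MonoidHom.mem_ker]
  constructor
  · intro h
    have hv : ∀ x, (φ x).vec = x.vec := fun x => by
      rw [vec_apply hβ hQ]
      exact LinearEquiv.congr_fun (congrArg Subtype.val h) x.vec
    let l : (ι → ZMod 2) →+ ZMod 2 :=
      { toFun := fun v => (φ ⟨v, 0⟩).bit
        map_zero' := by
          show (φ (1 : M β)).bit = 0
          rw [map_one, one_bit]
        map_add' := fun v w => by
          have h1 := congrArg M.bit (map_mul φ (⟨v, 0⟩ : M β) ⟨w, 0⟩)
          rw [mul_bit (φ ⟨v, 0⟩), hv, hv, split ((⟨v, 0⟩ : M β) * (⟨w, 0⟩ : M β)), map_mul, mul_bit (φ _), hv, hv] at h1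
          simp only [mul_vec, mul_bit, zero_add, map_zero, add_zero] at h1
          have h2 : (φ ⟨0, β v w⟩).bit = β v w := by
            rcases bit_cases (β v w) with e | e <;> rw [e]
            · exact congrArg M.bit (map_one φ)
            · exact congrArg M.bit (zz_fixed hβ hQ φ)
          rw [h2] at h1
          exact add_right_cancel h1 }
    obtain ⟨u, hu⟩ := exists_polar hQ (l.toZModLinearMap 2)
    refine ⟨⟨u, 0⟩, MulEquiv.ext fun x => ?_⟩
    show (⟨u, 0⟩ : M β) * x * (⟨u, 0⟩ : M β)⁻¹ = φ x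
    apply M.ext
    · rw [hv, mul_vec, mul_vec, inv_vec, add_right_comm, ZModModule.add_self, zero_add]
    · have hb : (φ x).bit = x.bit + polar Q u x.vec := by
        conv_lhs => rw [split x, map_mul, mul_bit, hv, hv]
        have h2 : (φ ⟨0, x.bit⟩).bit = x.bit := by
          rcases bit_cases x.bit with e | e <;> rw [e]
          · exact congrArg M.bit (map_one φ)
          · exact congrArg M.bit (zz_fixed hβ hQ φ)
        rw [h2, hu x.vec, map_zero, add_zero, add_comm]
        rfl
      rw [hb, ← polar_eq hβ, mul_bit, mul_bit, mul_vec, inv_bit, inv_vec]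
      simp only [map_add, LinearMap.add_apply, zero_add]
      linear_combination ZModModule.add_self (β u u)
  · rintro ⟨a, rfl⟩
    refine Subtype.ext (LinearEquiv.ext fun v => ?_)
    show (a * (⟨v, 0⟩ : M β) * a⁻¹).vec = v
    rw [mul_vec, mul_vec, inv_vec, add_right_comm, ZModModule.add_self, zero_add]

/-- Out of the model is the isometry group -/
noncomputable def outEquiv (hβ : ∀ v, β v v = Q v) (hQ : PND Q) :
    Cfsg.Out (M β) ≃* ↥(Cfsg.isometryGroup (ZMod 2) ⇑Q) :=
  ((QuotientGroup.quotientMulEquivOfEq (linHom_ker hβ hQ).symm).trans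
    (QuotientGroup.quotientKerEquivOfSurjective _ (linHom_surjective hβ hQ))).trans (toMat Q)

universe u v

/-- isomorphic groups have isomorphic outer automorphism groups -/
noncomputable def autCongr {G : Type u} {H : Type v} [Group G] [Group H] (e : G ≃* H) : MulAut G ≃* MulAut H where
  toFun φ := e.symm.trans (φ.trans e)
  invFun ψ := e.trans (ψ.trans e.symm)
  left_inv φ := MulEquiv.ext fun x => by simp
  right_inv φ := MulEquiv.ext fun x => by simp
  map_mul' φ ψ := MulEquiv.ext fun x => by simp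

theorem map_inn {G : Type u} {H : Type v} [Group G] [Group H] (e : G ≃* H) :
    (Cfsg.Inn G).map (autCongr e).toMonoidHom = Cfsg.Inn H := by
  ext φ
  constructor
  · rintro ⟨_, ⟨g, rfl⟩, rfl⟩
    exact ⟨e g, MulEquiv.ext fun x => by simp [autCongr]⟩
  · rintro ⟨g, rfl⟩
    exact ⟨_, ⟨e.symm g, rfl⟩, MulEquiv.ext fun x => by simp [autCongr]⟩

/-- isomorphism of outer automorphism groups -/
noncomputable def outCongr {G : Type u} {H : Type v} [Group G] [Group H] (e : G ≃* H) :
    Cfsg.Out G ≃* Cfsg.Out H :=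
  QuotientGroup.congr _ _ (autCongr e) (map_inn e)

/-- images of elementary abelian subgroups are totally singular -/
theorem singular_image (hβ : ∀ v, β v v = Q v) (A : Subgroup (M β)) (hA : Cfsg.IsElementaryAbelian 2 A) :
    ∃ U : Submodule (ZMod 2) (ι → ZMod 2), (∀ u ∈ U, Q u = 0) ∧ Nat.card A ≤ 2 * 2 ^ finrank (ZMod 2) U := by
  let π : Additive A →+ (ι → ZMod 2) :=
    { toFun := fun a => ((Additive.toMul a : A) : M β).vec
      map_zero' := one_vec
      map_add' := fun a b => mul_vec _ _ }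
  let U : Submodule (ZMod 2) (ι → ZMod 2) :=
    { carrier := {v | ∃ a ∈ A, a.vec = v}
      zero_mem' := ⟨1, one_mem A, one_vec⟩
      add_mem' := fun {v w} ⟨a, ha, ea⟩ ⟨b, hb, eb⟩ => ⟨a * b, mul_mem ha hb, by rw [mul_vec, ea, eb]⟩
      smul_mem' := fun c v ⟨a, ha, ea⟩ => by
        rcases bit_cases c with e | e <;> rw [e]
        · exact ⟨1, one_mem A, by rw [zero_smul, one_vec]⟩
        · exact ⟨a, ha, by rw [one_smul, ea]⟩ }
  refine ⟨U, fun u ⟨a, ha, ea⟩ => ?_, ?_⟩
  · have h := hA.2 a ha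
    rw [pow_two] at h
    have h2 := congrArg M.bit h
    rw [mul_bit, one_bit, ZModModule.add_self, zero_add, hβ, ea] at h2
    exact h2
  · let f : A → U × ZMod 2 := fun a => (⟨(a : M β).vec, a, a.2, rfl⟩, (a : M β).bit)
    have hf : Function.Injective f := fun a b h => by
      rw [Prod.mk.injEq, Subtype.mk.injEq] at h
      exact Subtype.ext (M.ext h.1 h.2)
    calc Nat.card A ≤ Nat.card (U × ZMod 2) := Nat.card_le_card_of_injective f hf
      _ = 2 * 2 ^ finrank (ZMod 2) U := by
        rw [Nat.card_prod, Module.natCard_eq_pow_finrank (K := ZMod 2), Nat.card_zmod, mul_comm]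

section models

variable (m : ℕ)

/-- a cocycle for the hyperbolic form -/
def betaPlus : (Fin m ⊕ Fin m → ZMod 2) →ₗ[ZMod 2] (Fin m ⊕ Fin m → ZMod 2) →ₗ[ZMod 2] ZMod 2 :=
  LinearMap.mk₂ (ZMod 2) (fun v w => ∑ i, v (.inl i) * w (.inr i))
    (fun a b c => by simp [add_mul, Finset.sum_add_distrib])
    (fun a b c => by simp [Finset.mul_sum, mul_assoc])
    (fun a b c => by simp [mul_add, Finset.sum_add_distrib])
    (fun a b c => by simp [Finset.mul_sum, mul_left_comm])

/-- a cocycle for the elliptic form -/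
def betaMinus : ((Fin m ⊕ Fin m) ⊕ Fin 2 → ZMod 2) →ₗ[ZMod 2]
    ((Fin m ⊕ Fin m) ⊕ Fin 2 → ZMod 2) →ₗ[ZMod 2] ZMod 2 :=
  LinearMap.mk₂ (ZMod 2) (fun v w => (∑ i, v (.inl (.inl i)) * w (.inl (.inr i))) +
      (v (.inr 0) * w (.inr 0) + v (.inr 0) * w (.inr 1) + v (.inr 1) * w (.inr 1)))
    (fun a b c => by simp [add_mul, Finset.sum_add_distrib]; ring)
    (fun a b c => by simp [Finset.mul_sum, mul_assoc, mul_add])
    (fun a b c => by simp [mul_add, Finset.sum_add_distrib]; ring)
    (fun a b c => by simp [Finset.mul_sum, mul_left_comm, mul_add])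

/-- an elementary abelian subgroup of maximal order in the hyperbolic model -/
def halfPlus : Subgroup (M (betaPlus m)) where
  carrier := {x | ∀ i, x.vec (.inr i) = 0}
  one_mem' := fun i => rfl
  mul_mem' := fun {a b} ha hb i => by rw [mul_vec, Pi.add_apply, ha i, hb i, add_zero]
  inv_mem' := fun {a} ha i => ha i

theorem half_card : Nat.card (halfPlus m) = 2 ^ (m + 1) ∧ Cfsg.IsElementaryAbelian 2 (halfPlus m) := by
  have hb : ∀ x ∈ halfPlus m, ∀ y : M (betaPlus m), betaPlus m y.vec x.vec = 0 := fun x hx y => by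
    show ∑ i, y.vec (.inl i) * x.vec (.inr i) = 0
    exact Finset.sum_eq_zero fun i _ => by rw [hx i, mul_zero]
  refine ⟨?_, ⟨⟨fun a b => Subtype.ext (M.ext ?_ ?_)⟩⟩, fun a ha => ?_⟩
  · have e : halfPlus m ≃ (Fin m → ZMod 2) × ZMod 2 :=
      { toFun := fun x => (fun i => x.1.vec (.inl i), x.1.bit)
        invFun := fun p => ⟨⟨Sum.elim p.1 0, p.2⟩, fun i => rfl⟩
        left_inv := fun x => Subtype.ext (M.ext (funext fun k => by
          cases k with
          | inl i => rfl
          | inr i => exact (x.2 i).symm) rfl)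
        right_inv := fun p => rfl }
    rw [Nat.card_congr e, Nat.card_prod, Nat.card_fun, Nat.card_zmod, Nat.card_fin, pow_succ]
  · show ((a : M (betaPlus m)) * b).vec = ((b : M (betaPlus m)) * a).vec
    rw [mul_vec, mul_vec, add_comm]
  · show ((a : M (betaPlus m)) * b).bit = ((b : M (betaPlus m)) * a).bit
    rw [mul_bit, mul_bit, hb _ b.2, hb _ a.2, add_comm (a : M (betaPlus m)).bit]
  · rw [pow_two]
    apply M.ext
    · rw [mul_vec, one_vec, ZModModule.add_self]
    · rw [mul_bit, one_bit, hb _ ha, ZModModule.add_self, add_zero]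

end models

/-- the two types -/
theorem main {E : Type u} [Group E] [Finite E] (hE : Cfsg.IsExtraspecial 2 E) (n : ℕ) (hn : 1 ≤ n)
    (hcard : Nat.card E = 2 ^ (2 * n + 1)) :
    ((∃ A : Subgroup E, Cfsg.IsElementaryAbelian 2 A ∧ Nat.card ↥A = 2 ^ (n + 1)) →
      Nonempty (Cfsg.Out E ≃* Cfsg.isometryGroup (ZMod 2) (Cfsg.quadFormPlus n (ZMod 2)))) ∧
    ((¬ ∃ A : Subgroup E, Cfsg.IsElementaryAbelian 2 A ∧ Nat.card ↥A = 2 ^ (n + 1)) →
      Nonempty (Cfsg.Out E ≃* Cfsg.isometryGroup (ZMod 2) (Cfsg.quadFormMinus (n - 1) (ZMod 2) 1 1))) := by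
  obtain ⟨z, hz⟩ := of_extraspecial hE
  obtain ⟨hrk, hiso⟩ := Cfsg.Agent.Solv.ExtTwo.main.{u, 0} n hn E z hz hcard
  have hle : 2 ^ n < 2 ^ (n + 1) := Nat.pow_lt_pow_right (by norm_num) (Nat.lt_succ_self n)
  constructor
  · rintro ⟨A, hA, hAc⟩
    have hR : IsRk E (2 ^ (n + 1)) := hrk.resolve_left fun h => by
      have := h.2 A hA
      omega
    have hc := Cfsg.Agent.Classical.OOmega.coe_plus (F := ZMod 2) n
    have hP := Cfsg.Agent.Classical.OOmega.formOf_pnd (m := n)
      (e := (Equiv.sumEmpty (Fin n ⊕ Fin n) Empty).symm)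
      (Cfsg.Agent.Classical.OOmega.pnd_empty (F := ZMod 2))
    have hβ : ∀ v, betaPlus n v v = (Cfsg.Agent.Classical.OOmega.formOf n
        (Equiv.sumEmpty (Fin n ⊕ Fin n) Empty).symm (0 : QuadraticForm (ZMod 2) (Empty → ZMod 2))) v :=
      fun v => by rw [hc]; rfl
    have hM := ext2 hβ hP
    have hcM : Nat.card (M (betaPlus n)) = 2 ^ (2 * n + 1) := by
      rw [card_M]; congr 1; simp; omega
    obtain ⟨hrM, -⟩ := Cfsg.Agent.Solv.ExtTwo.main.{0, 0} n hn _ _ hM hcM
    obtain ⟨hh1, hh2⟩ := half_card n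
    have hRM : IsRk (M (betaPlus n)) (2 ^ (n + 1)) := hrM.resolve_left fun h => by
      have := h.2 _ hh2
      omega
    obtain ⟨e, -⟩ := hiso _ _ hM hcM _ hR hRM
    rw [← hc]
    exact ⟨(outCongr e).trans (outEquiv hβ hP)⟩
  · intro hno
    have hR : IsRk E (2 ^ n) := hrk.resolve_right fun h => hno h.1
    have hc := Cfsg.Agent.Classical.OOmega.coe_minus (F := ZMod 2) (n - 1) 1 1
    have hP := Cfsg.Agent.Classical.OOmega.formOf_pnd (m := n - 1)
      (e := Equiv.refl ((Fin (n - 1) ⊕ Fin (n - 1)) ⊕ Fin 2))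
      (Cfsg.Agent.Classical.OOmega.pnd_plane (F := ZMod 2) (a := 1) (b := 1) (by decide))
    have hβ : ∀ v, betaMinus (n - 1) v v = (Cfsg.Agent.Classical.OOmega.formOf (n - 1)
        (Equiv.refl ((Fin (n - 1) ⊕ Fin (n - 1)) ⊕ Fin 2))
        (planeForm (1 : ZMod 2) 1)) v := fun v => by
      rw [hc]
      simp [betaMinus, Cfsg.quadFormMinus, pow_two]
    have hM := ext2 hβ hP
    have hcM : Nat.card (M (betaMinus (n - 1))) = 2 ^ (2 * n + 1) := by
      rw [card_M]; congr 1; simp; omega
    obtain ⟨hrM, -⟩ := Cfsg.Agent.Solv.ExtTwo.main.{0, 0} n hn _ _ hM hcM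
    have hRM : IsRk (M (betaMinus (n - 1))) (2 ^ n) := hrM.resolve_right fun h => by
      obtain ⟨A, hA, hAc⟩ := h.1
      obtain ⟨U, hU, hle'⟩ := singular_image hβ A hA
      have h1 := Cfsg.Agent.Classical.OEven.minus_model_no_half (F := ZMod 2) (a := 1) (c := 1) (by decide)
        (U := U) (fun u hu => by rw [← hc]; exact hU u hu)
      have h2 : 2 ^ finrank (ZMod 2) U ≤ 2 ^ (n - 1) := Nat.pow_le_pow_right (by norm_num) h1
      have h3 : 2 ^ n = 2 * 2 ^ (n - 1) := by rw [← pow_succ']; congr 1; omega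
      omega
    obtain ⟨e, -⟩ := hiso _ _ hM hcM _ hR hRM
    rw [← hc]
    exact ⟨(outCongr e).trans (outEquiv hβ hP)⟩

end Cfsg.Agent.Spor.ExtOut
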