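import Cfsg.Agent.Lib.Spor.CoTypeChecks
import Cfsg.Agent.Lib.Spor.ExtraspecialOut
import Cfsg.Agent.Lib.Classical.OrthClosed
import Cfsg.Agent.Lib.Classical.OrthPOmega

/-!
Isometries of a plus form in dimension eight over two elements as column lists, and the subgroup
generated by the two listed squares.
-/

set_option autoImplicit false
set_option maxRecDepth 100000
set_option linter.unusedSectionVars false

namespace Cfsg.Agent.Spor.CoT

open Chk Dat Cfsg.Agent.Classical Cfsg.Agent.Classical.OCount

/-- the coordinates -/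
abbrev I8 : Type := Fin 4 ⊕ Fin 4

/-- the space -/
abbrev V : Type := I8 → ZMod 2

/-- the quadratic form -/
noncomputable abbrev QF : QuadraticForm (ZMod 2) V :=
  OOmega.formOf 4 (Equiv.sumEmpty (Fin 4 ⊕ Fin 4) Empty).symm (0 : QuadraticForm (ZMod 2) (Empty → ZMod 2))

/-- the form -/
abbrev qm : V → ZMod 2 := Cfsg.quadFormPlus 4 (ZMod 2)

theorem coe_QF : ⇑QF = qm := OOmega.coe_plus 4

theorem QF_pnd : PND QF := OOmega.formOf_pnd OOmega.pnd_empty

/-- the polar form -/
def pol (v w : V) : ZMod 2 := qm (v + w) + qm v + qm w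

/-- position of a coordinate -/
def pos : I8 → ℕ
  | .inl i => i.val
  | .inr i => 4 + i.val

/-- vector of a code -/
def vec (c : ℕ) : V := fun i => bif Nat.testBit c (pos i) then 1 else 0

/-- code of a vector -/
def enc (v : V) : ℕ :=
  (v (.inl 0)).val + 2 * (v (.inl 1)).val + 4 * (v (.inl 2)).val + 8 * (v (.inl 3)).val +
    16 * (v (.inr 0)).val + 32 * (v (.inr 1)).val + 64 * (v (.inr 2)).val + 128 * (v (.inr 3)).val

theorem enc_lt : ∀ v : V, enc v < 256 := by decide +kernel

theorem vec_enc : ∀ v : V, vec (enc v) = v := by decide +kernel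

theorem enc_vec : ∀ c < 256, enc (vec c) = c := by decide +kernel

theorem vec_xor (a b : ℕ) : vec (Nat.xor a b) = vec a + vec b := by
  funext i
  show (bif Nat.testBit (a ^^^ b) (pos i) then (1 : ZMod 2) else 0) = _
  rw [Nat.testBit_xor]
  show _ = (bif Nat.testBit a (pos i) then (1 : ZMod 2) else 0) + (bif Nat.testBit b (pos i) then (1 : ZMod 2) else 0)
  cases Nat.testBit a (pos i) <;> cases Nat.testBit b (pos i) <;> simp [CharTwo.add_self_eq_zero]

theorem enc_injective : Function.Injective enc := fun v w h => by rw [← vec_enc v, h, vec_enc]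

theorem qm_enc : ∀ v : V, qm v = (qc (enc v) : ZMod 2) := by decide +kernel

theorem qc_lt (c : ℕ) : qc c < 2 := Nat.mod_lt _ (by norm_num)

theorem enc_zero : enc 0 = 0 := by decide +kernel

theorem bit_enc : ∀ v : V, (∀ i : Fin 4, ((bit (enc v) i.val : ℕ) : ZMod 2) = v (.inl i)) ∧
    ∀ i : Fin 4, ((bit (enc v) (4 + i.val) : ℕ) : ZMod 2) = v (.inr i) := by decide +kernel

theorem pol_eq (v w : V) : pol v w = ∑ i : Fin 4, (v (.inl i) * w (.inr i) + v (.inr i) * w (.inl i)) := by
  simp only [pol, qm, Cfsg.quadFormPlus, Pi.add_apply, ← Finset.sum_add_distrib]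
  refine Finset.sum_congr rfl fun i _ => ?_
  generalize v (.inl i) = a; generalize v (.inr i) = b; generalize w (.inl i) = c; generalize w (.inr i) = d
  revert a b c d; decide

theorem pol_enc (v w : V) : pol v w = (pc (enc v) (enc w) : ZMod 2) := by
  obtain ⟨h1, h2⟩ := bit_enc v
  obtain ⟨h3, h4⟩ := bit_enc w
  rw [pol_eq, pc, ZMod.natCast_mod, Fin.sum_univ_four, ← h1 0, ← h1 1, ← h1 2, ← h1 3, ← h2 0, ← h2 1, ← h2 2, ← h2 3,
    ← h3 0, ← h3 1, ← h3 2, ← h3 3, ← h4 0, ← h4 1, ← h4 2, ← h4 3]
  simp only [Fin.val_zero, Fin.val_one, show ((2 : Fin 4).val) = 2 from rfl, show ((3 : Fin 4).val) = 3 from rfl,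
    Nat.cast_add, Nat.cast_mul, Nat.add_zero]
  abel

theorem enc_add (v w : V) : enc (v + w) = Nat.xor (enc v) (enc w) := by
  have h := congrArg enc (vec_xor (enc v) (enc w))
  rw [vec_enc, vec_enc, enc_vec _ (show Nat.xor (enc v) (enc w) < 256 from Nat.xor_lt_two_pow (n := 8) (enc_lt v) (enc_lt w))] at h
  exact h.symm

theorem qm_eq_zero {v : V} : qm v = 0 ↔ qc (enc v) = 0 := by
  rw [qm_enc]
  have := qc_lt (enc v)
  interval_cases qc (enc v) <;> simp

theorem pol_eq_zero {v w : V} : pol v w = 0 ↔ pc (enc v) (enc w) = 0 := by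
  rw [pol_enc]
  have : pc (enc v) (enc w) < 2 := Nat.mod_lt _ (by norm_num)
  interval_cases pc (enc v) (enc w) <;> simp

/-- the isometries -/
abbrev OG : Type := ↥(ORefl.Iso QF)

theorem iso_q (g : OG) (v : V) : qm (g.1 v) = qm v := by rw [← coe_QF]; exact g.2 v

theorem iso_pol (g : OG) (v w : V) : pol (g.1 v) (g.1 w) = pol v w := by
  rw [pol, ← map_add, iso_q, iso_q, iso_q]; rfl

theorem card_OG : Nat.card OG = 348364800 := by
  rw [Nat.card_congr (ORefl.toMat QF).toEquiv, coe_QF]
  refine (OCount.card_GO_plus (F := ZMod 2) 3).trans ?_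
  rw [ZMod.card]
  decide

/-- the columns describe the map -/
def IsCols (g : OG) (L : List ℕ) : Prop := L.length = 8 ∧ ∀ v : V, enc (g.1 v) = app L (enc v)

theorem vec_app (L : List ℕ) (c : ℕ) :
    vec (app L c) = (List.range 8).foldl (fun r k => bif Nat.testBit c k then r + vec (L.getD k 0) else r) 0 := by
  have h0 : vec 0 = 0 := funext fun i => by simp [vec]
  have key : ∀ (l : List ℕ) (r : ℕ),
      vec (l.foldl (fun r k => bif Nat.testBit c k then Nat.xor r (L.getD k 0) else r) r) =
        l.foldl (fun r k => bif Nat.testBit c k then r + vec (L.getD k 0) else r) (vec r) := by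
    intro l
    induction l with
    | nil => intro r; rfl
    | cons k l ih =>
      intro r
      rw [List.foldl_cons, List.foldl_cons, ih]
      cases Nat.testBit c k
      · rfl
      · simp only [cond_true]; rw [vec_xor]
  rw [app, key, h0]

theorem app_lt {L : List ℕ} (hL : ∀ x ∈ L, x < 256) (c : ℕ) : app L c < 256 := by
  have hd : ∀ k, L.getD k 0 < 256 := fun k => by
    rcases Nat.lt_or_ge k L.length with h | h
    · rw [List.getD_eq_getElem _ _ h]; exact hL _ (List.getElem_mem h)
    · rw [List.getD_eq_default _ _ h]; norm_num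
  have key : ∀ (l : List ℕ) (r : ℕ), r < 256 →
      l.foldl (fun r k => bif Nat.testBit c k then Nat.xor r (L.getD k 0) else r) r < 256 := by
    intro l
    induction l with
    | nil => exact fun r h => h
    | cons k l ih =>
      intro r hr
      rw [List.foldl_cons]
      refine ih _ ?_
      cases Nat.testBit c k
      · exact hr
      · exact Nat.xor_lt_two_pow (n := 8) hr (hd k)
  exact key _ 0 (by norm_num)

theorem unit_split : ∀ v : V, v = (List.range 8).foldl
    (fun r k => bif Nat.testBit (enc v) k then r + vec (2 ^ k) else r) 0 := by decide +kernel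

/-- the columns of an isometry -/
noncomputable def cols (g : OG) : List ℕ := (List.range 8).map fun k => enc (g.1 (vec (2 ^ k)))

theorem isCols_cols (g : OG) : IsCols g (cols g) := by
  refine ⟨by simp [cols], fun v => ?_⟩
  refine Eq.trans (congrArg enc ?_) (enc_vec _ (app_lt (fun x hx => ?_) _))
  rotate_left
  · obtain ⟨k, -, rfl⟩ := List.mem_map.mp hx
    exact enc_lt _
  rw [vec_app]
  conv_lhs => rw [unit_split v]
  have key : ∀ (l : List ℕ), (∀ k ∈ l, k < 8) → ∀ r : V,
      g.1 (l.foldl (fun r k => bif Nat.testBit (enc v) k then r + vec (2 ^ k) else r) r) =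
        l.foldl (fun r k => bif Nat.testBit (enc v) k then r + vec ((cols g).getD k 0) else r) (g.1 r) := by
    intro l
    induction l with
    | nil => intros; rfl
    | cons k l ih =>
      intro hl r
      rw [List.foldl_cons, List.foldl_cons, ih fun x hx => hl x (by simp [hx])]
      cases Nat.testBit (enc v) k
      · rfl
      · have hk : k < 8 := hl k (by simp)
        simp only [cond_true, map_add, cols]
        rw [List.getD_eq_getElem _ _ (by simpa using hk), List.getElem_map, List.getElem_range, vec_enc]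
  rw [key _ (fun k hk => List.mem_range.mp hk), map_zero]

theorem IsCols.ext {g h : OG} {L : List ℕ} (hg : IsCols g L) (hh : IsCols h L) : g = h :=
  Subtype.ext (LinearEquiv.ext fun v => enc_injective ((hg.2 v).trans (hh.2 v).symm))

theorem IsCols.one : IsCols (1 : OG) idL := by
  refine ⟨rfl, fun v => ?_⟩
  show enc v = app idL (enc v)
  exact (by decide +kernel : ∀ v : V, enc v = app idL (enc v)) v

theorem app_unit (L : List ℕ) : ∀ k < 8, app L (2 ^ k) = L.getD k 0 := by
  intro k hk
  interval_cases k <;> exact Nat.zero_xor _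

theorem IsCols.getD {g : OG} {L : List ℕ} (hg : IsCols g L) {k : ℕ} (hk : k < 8) :
    L.getD k 0 = enc (g.1 (vec (2 ^ k))) := by
  rw [hg.2, enc_vec _ (Nat.pow_lt_pow_right (by norm_num) hk : 2 ^ k < 2 ^ 8), app_unit L k hk]

theorem IsCols.eq_cols {g : OG} {L : List ℕ} (hg : IsCols g L) : L = cols g := by
  refine List.ext_getElem (by simpa [cols] using hg.1) fun k h1 h2 => ?_
  have hk : k < 8 := by simpa [cols] using h2
  rw [← List.getD_eq_getElem L 0 h1, hg.getD hk]
  simp [cols]

theorem IsCols.unique {g : OG} {L M : List ℕ} (h : IsCols g L) (h' : IsCols g M) : L = M :=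
  h.eq_cols.trans h'.eq_cols.symm

theorem IsCols.mul {g h : OG} {A B : List ℕ} (hg : IsCols g A) (hh : IsCols h B) :
    IsCols (g * h) (mulL A B) := by
  have e : mulL A B = cols (g * h) := by
    refine List.ext_getElem (by simp [mulL, cols, hh.1]) fun k h1 h2 => ?_
    have hk : k < 8 := by simpa [cols] using h2
    have hkB : k < B.length := hh.1 ▸ hk
    simp only [mulL, List.getElem_map, cols, List.getElem_range]
    show app A B[k] = enc (g.1 (h.1 (vec (2 ^ k))))
    rw [hg.2, ← hh.getD hk, List.getD_eq_getElem _ _ hkB]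
  rw [e]
  exact isCols_cols _

/-- the linear map of columns -/
noncomputable def ofL (L : List ℕ) (v : V) : V := vec (app L (enc v))

theorem app_xor (L : List ℕ) (a b : ℕ) : vec (app L (Nat.xor a b)) = vec (app L a) + vec (app L b) := by
  rw [vec_app, vec_app, vec_app]
  have key : ∀ (l : List ℕ) (x y : V),
      l.foldl (fun r k => bif Nat.testBit (Nat.xor a b) k then r + vec (L.getD k 0) else r) (x + y) =
        l.foldl (fun r k => bif Nat.testBit a k then r + vec (L.getD k 0) else r) x +
          l.foldl (fun r k => bif Nat.testBit b k then r + vec (L.getD k 0) else r) y := by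
    intro l
    induction l with
    | nil => intros; rfl
    | cons k l ih =>
      intro x y
      rw [List.foldl_cons, List.foldl_cons, List.foldl_cons, ← ih]
      congr 1
      rw [show Nat.testBit (Nat.xor a b) k = (Nat.testBit a k ^^ Nat.testBit b k) from Nat.testBit_xor a b k]
      cases Nat.testBit a k <;> cases Nat.testBit b k <;> simp [add_assoc, add_left_comm, ZModModule.add_self]
      all_goals abel
  simpa using key (List.range 8) 0 0

theorem app_mulL {A B : List ℕ} (hB : B.length = 8) (c : ℕ) :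
    vec (app (mulL A B) c) = vec (app A (app B c)) := by
  have key : ∀ (l : List ℕ) (r : ℕ), (∀ k ∈ l, k < 8) →
      vec (app A (l.foldl (fun r k => bif Nat.testBit c k then Nat.xor r (B.getD k 0) else r) r)) =
        l.foldl (fun r k => bif Nat.testBit c k then r + vec ((mulL A B).getD k 0) else r) (vec (app A r)) := by
    intro l
    induction l with
    | nil => intros; rfl
    | cons k l ih =>
      intro r hl
      rw [List.foldl_cons, List.foldl_cons, ih _ fun x hx => hl x (by simp [hx])]
      cases Nat.testBit c k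
      · rfl
      · have hk : k < B.length := hB ▸ hl k (by simp)
        simp only [cond_true]
        rw [app_xor, List.getD_eq_getElem _ _ hk, List.getD_eq_getElem _ _ (by simpa [mulL] using hk)]
        simp [mulL]
  rw [vec_app]
  have h := key (List.range 8) 0 fun k hk => List.mem_range.mp hk
  have h0 : vec (app A 0) = 0 := by
    rw [vec_app]; simp [List.range_succ]
  rw [h0] at h
  exact h.symm

theorem IsCols.of_mul {x w : OG} {A W : List ℕ} (hl : A.length = 8) (hA : ∀ a ∈ A, a < 256) (hw : IsCols w W)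
    (h : IsCols (x * w) (mulL A W)) : IsCols x A := by
  refine ⟨hl, fun v => ?_⟩
  rw [← enc_vec _ (app_lt hA (enc v))]
  refine (congrArg enc ?_).trans rfl
  have e := h.2 (w⁻¹.1 v)
  have e1 : (x * w).1 (w⁻¹.1 v) = x.1 v := congrArg x.1 (w.1.apply_symm_apply v)
  rw [e1] at e
  have e' := congrArg vec e
  rw [vec_enc, app_mulL hw.1, ← hw.2] at e'
  rw [e', show w.1 (w⁻¹.1 v) = v from w.1.apply_symm_apply v]

theorem IsCols.of_mul_left {x w : OG} {A W : List ℕ} (hl : A.length = 8) (hA : ∀ a ∈ A, a < 256)
    (hw : IsCols w W) (h : IsCols (w * x) (mulL W A)) : IsCols x A := by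
  refine ⟨hl, fun v => ?_⟩
  have hlt := app_lt hA (enc v)
  have e := congrArg vec (h.2 v)
  rw [vec_enc, app_mulL hl] at e
  have e2 : vec (app W (app A (enc v))) = w.1 (vec (app A (enc v))) := by
    rw [← enc_vec _ hlt, ← hw.2, vec_enc, enc_vec _ hlt]
  rw [e2] at e
  have e3 : x.1 v = vec (app A (enc v)) := w.1.injective e
  rw [e3, enc_vec _ hlt]

theorem exists_of_isoL {L M : List ℕ} (hL : isoL L = true) (hM : isoL M = true) (he : mulL L M = idL) :
    ∃ g : OG, IsCols g L := by
  simp only [isoL, Bool.and_eq_true, List.all_eq_true, List.mem_range] at hL hM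
  obtain ⟨⟨hLl, hLx⟩, hLc⟩ := hL
  obtain ⟨⟨hMl, hMx⟩, hMc⟩ := hM
  have hlt : ∀ c, app L c < 256 := app_lt fun x hx => Nat.le_of_ble_eq_true (hLx x hx)
  let f : V →ₗ[ZMod 2] V := AddMonoidHom.toZModLinearMap 2
    (AddMonoidHom.mk' (ofL L) fun a b => by simp only [ofL, enc_add, app_xor])
  have hq : ∀ v, qm (f v) = qm v := fun v => by
    show qm (vec (app L (enc v))) = _
    rw [qm_enc, qm_enc v, enc_vec _ (hlt _), Nat.eq_of_beq_eq_true (hLc _ (enc_lt v)).2]
  have hker : LinearMap.ker f = ⊥ := by
    rw [eq_bot_iff]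
    intro v hv
    refine QF_pnd v fun w => ?_
    have h0 : f v = 0 := hv
    rw [QuadraticMap.polar, coe_QF, ← hq (v + w), ← hq v, ← hq w, map_add, h0, zero_add,
      show qm (0 : V) = 0 by rw [← coe_QF]; exact map_zero _]
    ring
  let e := LinearEquiv.ofBijective f
    ⟨LinearMap.ker_eq_bot.mp hker, LinearMap.surjective_of_injective (LinearMap.ker_eq_bot.mp hker)⟩
  refine ⟨⟨e, fun v => ?_⟩, Nat.eq_of_beq_eq_true hLl, fun v => ?_⟩
  · rw [coe_QF]; exact hq v
  · exact enc_vec _ (hlt _)

end Cfsg.Agent.Spor.CoT
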