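import Cfsg.Agent.Lib.Spor.CoTypeSiegel

/-!
Groups of Conway type: commutators between the extraspecial subgroup and the part of the one of the adjacent
conjugate inside the centraliser, and normal forms of elements over the radical.
-/

set_option autoImplicit false
set_option maxRecDepth 100000
set_option linter.unusedSectionVars false

namespace Cfsg.Agent.Spor.CoT

open Cfsg.Agent.Classical

theorem zm2 : ∀ b : ZMod 2, b = 0 ∨ b = 1 := by decide

theorem zm2_one {b : ZMod 2} (h : b ≠ 0) : b = 1 := (zm2 b).resolve_left h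

theorem smul_e0_inj {i j : ZMod 2} (e : i • e0 = j • e0) : i = j := by
  have := congrFun e (.inl 0)
  simpa [basic.2.2.2.1] using this

theorem nz_smul_nz {c : Ga} (hc : c ∈ St) (v : V) : nz (c • nz v) = nz (c • v) := by
  rw [show nz v = v + v (.inl 0) • e0 from rfl, smul_add', smul_smul', show c • e0 = e0 from hc, nz_add]
  rcases zm2 (v (.inl 0)) with e | e <;> rw [e]
  · rw [zero_smul, nz_of_inP inP_facts.1, add_zero]
  · rw [one_smul, nz_e0, add_zero]

theorem St_perp {c : Ga} (hc : c ∈ St) (v : V) : pol e0 (c • v) = pol e0 v := by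
  conv_lhs => rw [← show c • e0 = e0 from hc, smul_pol]

theorem St_inP {c : Ga} (hc : c ∈ St) {a : V} (ha : InP a) : InP (nz (c • a)) :=
  nz_inP (by rw [St_perp hc]; exact (inP_perp ha).1)

theorem R_inv {a : V} (ha : InP a) : (R a)⁻¹ = R a := inv_eq_of_mul_eq_one_right (R_sq ha)

theorem R_inj {a b : V} (ha : InP a) (hb : InP b) (e : R a = R b) : a = b := by
  rw [← (R_spec ha).2.1, e, (R_spec hb).2.1]

theorem qn_split : InP e3 ∧ InP f3 ∧ qm e3 = 0 ∧ qm f3 = 0 ∧ e3 + f3 = n0 :=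
  ⟨inP_facts.2.2.2.1, inP_facts.2.2.2.2.2.2.1, val_facts.2.2.1, val_facts.2.2.2.2.2.1, by decide +kernel⟩

universe u

variable {G : Type u} [Group G] [Finite G] {z : G} {Q : Subgroup G}

/-- the elements of the section of two adjacent subgroups -/
def Iel (z x : G) (a b : ZMod 2) : G := x ^ a.val * z ^ b.val

variable (F : Frame z Q)
include F

variable {x : G} {a b : V}

theorem xz_comm (h : Hyp z Q) (B : Base F x) : Commute x z := Qz h B.mem

theorem Iel_comm (i j : ZMod 2) {g : G} (gx : Commute g x) (gz : Commute g z) : Commute g (Iel z x i j) :=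
  (gx.pow_right _).mul_right (gz.pow_right _)

theorem Iel_mul (h : Hyp z Q) (B : Base F x) (i j i' j' : ZMod 2) :
    Iel z x i j * Iel z x i' j' = Iel z x (i + i') (j + j') := by
  have hp : ∀ w : G, w * w = 1 → ∀ c d : ZMod 2, w ^ c.val * w ^ d.val = w ^ (c + d).val := fun w hw c d => by
    rcases zm2 c with rfl | rfl <;> rcases zm2 d with rfl | rfl <;>
      simp [ZMod.val_one, hw, show (1 : ZMod 2) + 1 = 0 by decide]
  have hc : Commute (x ^ i'.val) (z ^ j.val) := ((xz_comm F h B).pow_left _).pow_right _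
  show x ^ i.val * z ^ j.val * (x ^ i'.val * z ^ j'.val) = _
  rw [hc.symm.mul_mul_mul_comm, hp x B.sq, hp z (zz h)]
  rfl

theorem Iel_00 : Iel z x 0 0 = 1 := by simp [Iel]

theorem Iel_10 : Iel z x 1 0 = x := by simp [Iel, ZMod.val_one]

theorem Iel_01 : Iel z x 0 1 = z := by simp [Iel, ZMod.val_one]

theorem Iel_11 : Iel z x 1 1 = x * z := by simp [Iel, ZMod.val_one]

theorem Iel_inv (h : Hyp z Q) (B : Base F x) (i j : ZMod 2) : (Iel z x i j)⁻¹ = Iel z x i j :=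
  inv_eq_of_mul_eq_one_right (by rw [Iel_mul F h B, ZModModule.add_self, ZModModule.add_self, Iel_00 F])

theorem Iel_eq_one (h : Hyp z Q) (B : Base F x) {i j : ZMod 2} (e : Iel z x i j = 1) : i = 0 ∧ j = 0 := by
  rcases zm2 i with rfl | rfl <;> rcases zm2 j with rfl | rfl
  · exact ⟨rfl, rfl⟩
  · rw [Iel_01 F] at e; exact absurd e (z_ne h)
  · rw [Iel_10 F] at e; exact absurd e B.ne1
  · rw [Iel_11 F] at e
    exact absurd (eq_inv_of_mul_eq_one_left e |>.trans (inv_eq_of_mul_eq_one_right (zz h))) B.nez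

theorem Iel_inj (h : Hyp z Q) (B : Base F x) {i j i' j' : ZMod 2} (e : Iel z x i j = Iel z x i' j') :
    i = i' ∧ j = j' := by
  have := Iel_eq_one F h B (i := i + i') (j := j + j')
    (by rw [← Iel_mul F h B, e, Iel_mul F h B, ZModModule.add_self, ZModModule.add_self, Iel_00 F])
  exact ⟨by rw [eq_neg_of_add_eq_zero_left this.1, ZModModule.neg_eq_self],
    by rw [eq_neg_of_add_eq_zero_left this.2, ZModModule.neg_eq_self]⟩

theorem vec_z (h : Hyp z Q) : F.vec z = 0 := (F.vec_zero z (zQ h)).2 (Or.inr rfl)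

theorem Iel_mem (h : Hyp z Q) (B : Base F x) (i j : ZMod 2) :
    Iel z x i j ∈ Q ∧ InQ z Q x (Iel z x i j) ∧ F.vec (Iel z x i j) = i • e0 := by
  rcases zm2 i with rfl | rfl <;> rcases zm2 j with rfl | rfl
  · rw [Iel_00 F]
    refine ⟨one_mem Q, ?_, by rw [vec_one F h, zero_smul]⟩
    obtain ⟨g, hg⟩ := isConj_iff.1 B.conj
    exact ⟨g, hg, by simp⟩
  · rw [Iel_01 F]; exact ⟨zQ h, base_mem F h B, by rw [vec_z F h, zero_smul]⟩
  · rw [Iel_10 F]; exact ⟨B.mem, InQ.self h B.conj, by rw [B.vec, one_smul]⟩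
  · rw [Iel_11 F]
    exact ⟨mul_mem B.mem (zQ h), (InQ.self h B.conj).mul h (base_mem F h B),
      by rw [vec_mul_z F h B.mem, B.vec, one_smul]⟩

theorem sect_Iel (h : Hyp z Q) (B : Base F x) {w : G} (hw : w ∈ Q) (hwx : InQ z Q x w) :
    ∃ i j, w = Iel z x i j := by
  rcases sect F h B hw hwx with e | e | e | e
  · exact ⟨0, 0, e.trans (Iel_00 F).symm⟩
  · exact ⟨0, 1, e.trans (Iel_01 F).symm⟩
  · exact ⟨1, 0, e.trans (Iel_10 F).symm⟩
  · exact ⟨1, 1, e.trans (Iel_11 F).symm⟩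

theorem vec_Iel (h : Hyp z Q) (B : Base F x) {w : G} (hw : w ∈ Q) {i : ZMod 2} (e : F.vec w = i • e0) :
    ∃ j, w = Iel z x i j := by
  obtain ⟨h1, -, h3⟩ := Iel_mem F h B i 0
  rcases vec_eq F hw h1 h (e.trans h3.symm) with e' | e'
  · exact ⟨0, e'⟩
  · refine ⟨1, ?_⟩
    calc w = Iel z x i 0 * z := e'
      _ = Iel z x i 0 * Iel z x 0 1 := by rw [Iel_01 F]
      _ = _ := by rw [Iel_mul F h B, add_zero, zero_add]

theorem comm_x (B : Base F x) {q : G} (hq : q ∈ Q) (hv : pol e0 (F.vec q) = 0) : Commute q x :=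
  ((F.comm_iff x B.mem q hq).2 (by rw [B.vec]; exact hv)).symm

theorem comm_x_iff (B : Base F x) {q : G} (hq : q ∈ Q) (hc : Commute q x) : pol e0 (F.vec q) = 0 := by
  rw [← B.vec]; exact (F.comm_iff x B.mem q hq).1 hc.symm

theorem swap_x (h : Hyp z Q) (B : Base F x) {q : G} (hq : q ∈ Q) (hv : pol e0 (F.vec q) = 1) :
    q * x * q⁻¹ = x * z := by
  rcases F.comm_or x B.mem q hq with e | e
  · have := comm_x_iff F B hq e
    rw [hv] at this
    exact absurd this one_ne_zero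
  · rw [e, mul_assoc, mul_assoc, ← (Qz h (inv_mem hq)).eq, mul_inv_cancel_left]

theorem Qmul (h : Hyp z Q) {p q : G} (hp : p ∈ Q) (hq : q ∈ Q) :
    p * q = Iel z x 0 (pol (F.vec p) (F.vec q)) * (q * p) := by
  rcases zm2 (pol (F.vec p) (F.vec q)) with e | e <;> rw [e]
  · rw [Iel_00 F, one_mul]; exact (F.comm_iff p hp q hq).2 e
  · rw [Iel_01 F, ← (Qz h (mul_mem hq hp)).eq]
    refine (F.comm_or q hq p hp).resolve_left fun e' => ?_
    rw [(F.comm_iff p hp q hq).1 e'] at e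
    exact zero_ne_one e

theorem Qsq (h : Hyp z Q) {q : G} (hq : q ∈ Q) : q * q = Iel z x 0 (qm (F.vec q)) := by
  rcases zm2 (qm (F.vec q)) with e | e <;> rw [e]
  · rw [Iel_00 F]; exact (F.sq_iff q hq).2 e
  · rw [Iel_01 F]
    exact (F.sq_or q hq).resolve_left fun e' => by
      rw [(F.sq_iff q hq).1 e'] at e; exact zero_ne_one e

/-- the part of the second subgroup over a parameter -/
def Mem (F : Frame z Q) (x : G) (a : V) (m : Subgroup.centralizer ({z} : Set G)) : Prop :=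
  InP a ∧ InQ z Q x m ∧ F.π m = R a

theorem Mem.comm (h : Hyp z Q) {m : Subgroup.centralizer ({z} : Set G)} (hm : Mem F x a m) :
    Commute (m : G) x ∧ Commute (m : G) z := ⟨hm.2.1.commute h, mem_C.1 m.2⟩

theorem Mem.exists (h : Hyp z Q) (B : Base F x) (ha : InP a) : ∃ m, Mem F x a m := by
  obtain ⟨m, hm, e⟩ := exists_M F h B ha
  exact ⟨m, ha, hm, e⟩

theorem Mem.of_inQ (h : Hyp z Q) (B : Base F x) {m : Subgroup.centralizer ({z} : Set G)} (hm : InQ z Q x m) :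
    Mem F x (param (F.π m : OG)) m :=
  ⟨param_inP (radAt F h B hm), hm, R_eq (radAt F h B hm)⟩

theorem Mem.mul (h : Hyp z Q) {m n : Subgroup.centralizer ({z} : Set G)} (hm : Mem F x a m) (hn : Mem F x b n) :
    Mem F x (a + b) (m * n) :=
  ⟨inP_add hm.1 hn.1, hm.2.1.mul h hn.2.1, by rw [map_mul, hm.2.2, hn.2.2, R_mul hm.1 hn.1]⟩

theorem Mem.indep (h : Hyp z Q) (B : Base F x) {m n : Subgroup.centralizer ({z} : Set G)} (hm : Mem F x a m)
    (hn : Mem F x a n) : ∃ i j, (n : G) = (m : G) * Iel z x i j := by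
  have hQ : ((m⁻¹ * n : Subgroup.centralizer ({z} : Set G)) : G) ∈ Q :=
    (F.π_ker _).1 (by rw [map_mul, map_inv, hm.2.2, hn.2.2, inv_mul_cancel])
  obtain ⟨i, j, e⟩ := sect_Iel F h B hQ (hm.2.1.inv.mul h hn.2.1)
  exact ⟨i, j, inv_mul_eq_iff_eq_mul.1 e⟩

theorem Mem.conj (h : Hyp z Q) {m k : Subgroup.centralizer ({z} : Set G)} (hm : Mem F x a m)
    (hk : Commute (k : G) x) (hc : F.π k ∈ St) : Mem F x (nz (F.π k • a)) (k * m * k⁻¹) :=
  ⟨St_inP hc hm.1, hm.2.1.conj' hk, by rw [map_mul, map_mul, map_inv, hm.2.2, R_conj hc hm.1]⟩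

theorem comm_St (h : Hyp z Q) (B : Base F x) {k : Subgroup.centralizer ({z} : Set G)} (hk : Commute (k : G) x) :
    F.π k ∈ St := by
  rw [MulAction.mem_stabilizer_iff, ← B.vec, ← F.vec_conj k x B.mem, hk.eq, mul_inv_cancel_right]

theorem move_x (h : Hyp z Q) (B : Base F x) {c : Ga} (hc : c ∈ St) :
    ∃ k : Subgroup.centralizer ({z} : Set G), F.π k = c ∧ Commute (k : G) x := by
  obtain ⟨k, hk, e⟩ := move F h B.mem B.mem (by rw [B.vec]; exact e0_facts.1) (g := c) (by rw [B.vec]; exact hc)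
  exact ⟨k, hk, mul_inv_eq_iff_eq_mul.1 e⟩

theorem Msq (h : Hyp z Q) (B : Base F x) {m : Subgroup.centralizer ({z} : Set G)} (hm : Mem F x a m) :
    (m : G) * m = Iel z x (qm a) 0 := by
  rw [sq_param F h B hm.2.1, hm.2.2, (R_spec hm.1).2.1]
  simp [Iel]

theorem Mmul (h : Hyp z Q) (B : Base F x) {m n : Subgroup.centralizer ({z} : Set G)} (hm : Mem F x a m)
    (hn : Mem F x b n) : (m : G) * n = Iel z x (pol a b) 0 * ((n : G) * m) := by
  have nx := (hn.comm F h).1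
  have mx := (hm.comm F h).1
  obtain ⟨k, hk⟩ : ∃ k, (m : G) * n = Iel z x k 0 * ((n : G) * m) := by
    rcases InQ.comm_or F hn.2.1 h hm.2.1 with e | e
    · exact ⟨0, by rw [Iel_00 F, one_mul]; exact e⟩
    · exact ⟨1, by rw [Iel_10 F, e]; exact (nx.mul_left mx).eq⟩
  refine hk.trans ?_
  have mI : ∀ i j, Commute (m : G) (Iel z x i j) := fun i j => Iel_comm F i j mx (mem_C.1 m.2)
  have nI : ∀ i j, Commute (n : G) (Iel z x i j) := fun i j => Iel_comm F i j nx (mem_C.1 n.2)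
  have key : Iel z x (qm (a + b)) 0 = Iel z x (qm a + qm b + k) 0 := by
    rw [← Msq F h B (hm.mul F h hn)]
    show (m : G) * n * ((m : G) * n) = _
    calc (m : G) * n * ((m : G) * n) = (m : G) * ((n : G) * (Iel z x k 0 * ((n : G) * m))) := by rw [← hk]; group
      _ = (m : G) * Iel z x k 0 * ((n : G) * n) * m := by rw [← mul_assoc (n : G), (nI k 0).eq]; group
      _ = Iel z x k 0 * ((m : G) * Iel z x (qm b) 0 * m) := by rw [Msq F h B hn, (mI k 0).eq]; group
      _ = Iel z x k 0 * (Iel z x (qm b) 0 * ((m : G) * m)) := by rw [(mI (qm b) 0).eq]; group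
      _ = Iel z x (qm a + qm b + k) 0 := by
        rw [Msq F h B hm, Iel_mul F h B, Iel_mul F h B, add_zero, add_zero]
        congr 1; ring
  obtain ⟨e, -⟩ := Iel_inj F h B key
  rw [qm_add] at e
  rw [add_left_cancel e]

theorem pair_ex (h : Hyp z Q) (B : Base F x) {m : Subgroup.centralizer ({z} : Set G)} (hm : Mem F x a m) {q : G}
    (hq : q ∈ Q) (hv : pol e0 (F.vec q) = 0) :
    ∃ j, q * m = Iel z x (pol (F.vec q) a) j * ((m : G) * q) := by
  have hc := h.norm m (mem_C.1 m.2) _ (inv_mem hq)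
  have hx : InQ z Q x (q * (m : G) * q⁻¹ * (m : G)⁻¹) :=
    (hm.2.1.conj' (comm_x F B hq hv)).mul h hm.2.1.inv
  have hQ : q * ((m : G) * q⁻¹ * (m : G)⁻¹) ∈ Q := mul_mem hq hc
  rw [show q * (m : G) * q⁻¹ * (m : G)⁻¹ = q * ((m : G) * q⁻¹ * (m : G)⁻¹) by group] at hx
  have hvec : F.vec (q * ((m : G) * q⁻¹ * (m : G)⁻¹)) = pol (F.vec q) a • e0 := by
    rw [F.vec_mul q hq _ hc, F.vec_conj m _ (inv_mem hq), vec_inv F h hq, hm.2.2, R_act hm.1 hv, ← add_assoc,
      ZModModule.add_self, zero_add]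
  obtain ⟨j, e⟩ := vec_Iel F h B hQ hvec
  exact ⟨j, by rw [← e]; group⟩

/-- the second component of the commutator is given by a vector -/
def PairTo (F : Frame z Q) (x : G) (a d : V) : Prop :=
  InP d ∧ ∀ m, Mem F x a m → ∀ q ∈ Q, pol e0 (F.vec q) = 0 →
    q * m = Iel z x (pol (F.vec q) a) (pol (F.vec q) d) * ((m : G) * q)

theorem qI_comm (h : Hyp z Q) (B : Base F x) {q : G} (hq : q ∈ Q) (hv : pol e0 (F.vec q) = 0) (i j : ZMod 2) :
    Commute q (Iel z x i j) := Iel_comm F i j (comm_x F B hq hv) (Qz h hq)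

theorem pair_some (h : Hyp z Q) (B : Base F x) (ha : InP a) : ∃ d, PairTo F x a d := by
  obtain ⟨m, hm⟩ := Mem.exists F h B ha
  obtain ⟨mx, mz⟩ := hm.comm F h
  have hj : ∀ v : V, ∃ j : ZMod 2, pol e0 v = 0 → ∀ q ∈ Q, F.vec q = v →
      q * m = Iel z x (pol v a) j * ((m : G) * q) := fun v => by
    by_cases hv : pol e0 v = 0
    · obtain ⟨q, hq, rfl⟩ := F.vec_surj v
      obtain ⟨j, hj⟩ := pair_ex F h B hm hq hv
      refine ⟨j, fun _ q' hq' e => ?_⟩
      rcases vec_eq F hq' hq h e with rfl | rfl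
      · exact hj
      · rw [mul_assoc, ← mz.eq, ← mul_assoc, hj]; group
    · exact ⟨0, fun e => absurd e hv⟩
  choose j hj using hj
  have jadd : ∀ v w, pol e0 v = 0 → pol e0 w = 0 → j (v + w) = j v + j w := fun v w hv hw => by
    obtain ⟨p, hp, rfl⟩ := F.vec_surj v
    obtain ⟨q, hq, rfl⟩ := F.vec_surj w
    have hs : pol e0 (F.vec p + F.vec q) = 0 := by rw [pol_add_right, hv, hw, add_zero]
    have e1 := hj _ hs (p * q) (mul_mem hp hq) (F.vec_mul p hp q hq)
    have e2 : p * q * m = Iel z x (pol (F.vec p + F.vec q) a) (j (F.vec p) + j (F.vec q)) * ((m : G) * (p * q)) := by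
      calc p * q * m = p * (q * (m : G)) := mul_assoc _ _ _
        _ = p * Iel z x (pol (F.vec q) a) (j (F.vec q)) * m * q := by rw [hj _ hw q hq rfl]; group
        _ = Iel z x (pol (F.vec q) a) (j (F.vec q)) * (p * (m : G)) * q := by
          rw [(qI_comm F h B hp hv _ _).eq]; group
        _ = Iel z x (pol (F.vec q) a) (j (F.vec q)) * Iel z x (pol (F.vec p) a) (j (F.vec p)) *
            ((m : G) * (p * q)) := by rw [hj _ hv p hp rfl]; group
        _ = _ := by rw [Iel_mul F h B, pol_add_left, add_comm (pol (F.vec q) a), add_comm (j (F.vec q))]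
    exact (Iel_inj F h B (mul_right_cancel (e1.symm.trans e2))).2
  let φ : V →ₗ[ZMod 2] ZMod 2 := AddMonoidHom.toZModLinearMap 2
    (AddMonoidHom.mk' (fun v => j (v + v (.inr 0) • f0)) fun v w => by
      rw [show v + w + (v + w) (.inr 0) • f0 = (v + v (.inr 0) • f0) + (w + w (.inr 0) • f0) by
        rw [Pi.add_apply, add_smul]; abel, jadd _ _ (split_f0 v) (split_f0 w)])
  obtain ⟨d, hd⟩ := ORefl.exists_polar QF_pnd φ
  have hd' : ∀ v, pol v d = j (v + v (.inr 0) • f0) := fun v => by rw [pol_comm', pol_eq_polar, hd]; rfl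
  have hfix : ∀ v, pol e0 v = 0 → pol v d = j v := fun v hv => by
    rw [pol_e0] at hv; rw [hd', hv, zero_smul, add_zero]
  have hj0 : j 0 = 0 := by
    have := jadd 0 0 (pol_zero_right _) (pol_zero_right _)
    rw [add_zero, ZModModule.add_self] at this
    exact this
  have hd1 : d (.inl 0) = 0 := by
    rw [← pol_f0 d, hd', basic.2.2.2.2.2.1, one_smul, ZModModule.add_self, hj0]
  have hd2 : d (.inr 0) = 0 := by
    rw [← pol_e0 d, hfix e0 (pol_self e0)]
    have e := hj e0 (pol_self e0) x B.mem B.vec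
    rw [(inP_perp ha).1, ← mx.eq] at e
    exact (Iel_eq_one F h B (mul_eq_right.1 e.symm)).2
  refine ⟨d, ⟨hd1, hd2⟩, fun n hn q hq hv => ?_⟩
  obtain ⟨i, k, e⟩ := hm.indep F h B hn
  rw [e, hfix _ hv]
  calc q * ((m : G) * Iel z x i k) = q * (m : G) * Iel z x i k := (mul_assoc _ _ _).symm
    _ = Iel z x (pol (F.vec q) a) (j (F.vec q)) * (m : G) * (q * Iel z x i k) := by rw [hj _ hv q hq rfl]; group
    _ = _ := by rw [(qI_comm F h B hq hv i k).eq]; group

theorem pair_unique (h : Hyp z Q) (B : Base F x) (ha : InP a) {d d' : V} (hd : PairTo F x a d)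
    (hd' : PairTo F x a d') : d = d' := by
  obtain ⟨m, hm⟩ := Mem.exists F h B ha
  refine inP_ext hd.1 hd'.1 fun v hv => ?_
  obtain ⟨q, hq, rfl⟩ := F.vec_surj v
  exact (Iel_inj F h B (mul_right_cancel ((hd.2 m hm q hq hv).symm.trans (hd'.2 m hm q hq hv)))).2

theorem pair_conj (h : Hyp z Q) (B : Base F x) {d : V} (ha : InP a) (hd : PairTo F x a d) {c : Ga} (hc : c ∈ St) :
    PairTo F x (nz (c • a)) (nz (c • d)) := by
  refine ⟨St_inP hc hd.1, fun n hn q hq hv => ?_⟩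
  obtain ⟨k, rfl, hk⟩ := move_x F h B hc
  have hc' : (F.π k)⁻¹ ∈ St := inv_mem hc
  have hn' : Mem F x a (k⁻¹ * n * k⁻¹⁻¹) := by
    have h1 := hn.conj F h (k := k⁻¹) hk.inv_left (by rw [map_inv]; exact hc')
    rwa [map_inv, nz_smul_nz hc', inv_smul_smul, nz_of_inP ha] at h1
  have hq' : (k : G)⁻¹ * q * (k : G)⁻¹⁻¹ ∈ Q := h.norm _ (mem_C.1 k⁻¹.2) q hq
  have hv' : F.vec ((k : G)⁻¹ * q * (k : G)⁻¹⁻¹) = (F.π k)⁻¹ • F.vec q := by
    rw [← map_inv]; exact F.vec_conj k⁻¹ q hq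
  have hp : ∀ w, pol ((F.π k)⁻¹ • F.vec q) w = pol (F.vec q) (nz (F.π k • w)) := fun w => by
    rw [pol_nz hv, ← smul_pol (F.π k), smul_inv_smul]
  have e := hd.2 _ hn' _ hq' (by rw [hv', St_perp hc', hv])
  rw [hv', hp, hp] at e
  have hI : Commute (k : G) (Iel z x (pol (F.vec q) (nz (F.π k • a))) (pol (F.vec q) (nz (F.π k • d)))) :=
    Iel_comm F _ _ hk (mem_C.1 k.2)
  calc q * (n : G) = (k : G) * ((k : G)⁻¹ * q * (k : G)⁻¹⁻¹ * ((k : G)⁻¹ * n * (k : G)⁻¹⁻¹)) * (k : G)⁻¹ := by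
        group
    _ = (k : G) * (Iel z x (pol (F.vec q) (nz (F.π k • a))) (pol (F.vec q) (nz (F.π k • d))) *
        ((k : G)⁻¹ * n * (k : G)⁻¹⁻¹ * ((k : G)⁻¹ * q * (k : G)⁻¹⁻¹))) * (k : G)⁻¹ :=
          congrArg (fun g => (k : G) * g * (k : G)⁻¹) e
    _ = _ := by rw [← mul_assoc (k : G), hI.eq]; group

theorem pair_add (h : Hyp z Q) (B : Base F x) {d d' : V} (ha : InP a) (hb : InP b) (hd : PairTo F x a d)
    (hd' : PairTo F x b d') : PairTo F x (a + b) (d + d') := by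
  refine ⟨inP_add hd.1 hd'.1, fun n hn q hq hv => ?_⟩
  obtain ⟨m, hm⟩ := Mem.exists F h B ha
  have hn' : Mem F x b (m⁻¹ * n) := ⟨hb, hm.2.1.inv.mul h hn.2.1, by
    rw [map_mul, map_inv, hm.2.2, hn.2.2, R_inv ha, R_mul ha (inP_add ha hb), ← add_assoc, ZModModule.add_self,
      zero_add]⟩
  have e1 := hd.2 m hm q hq hv
  have e2 : q * ((m : G)⁻¹ * n) = Iel z x (pol (F.vec q) b) (pol (F.vec q) d') * ((m : G)⁻¹ * n * q) :=
    hd'.2 _ hn' q hq hv
  have mI : Commute (m : G) (Iel z x (pol (F.vec q) b) (pol (F.vec q) d')) :=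
    Iel_comm F _ _ (hm.comm F h).1 (hm.comm F h).2
  calc q * (n : G) = q * (m : G) * ((m : G)⁻¹ * n) := by group
    _ = Iel z x (pol (F.vec q) a) (pol (F.vec q) d) * (m : G) * (q * ((m : G)⁻¹ * n)) := by rw [e1]; group
    _ = Iel z x (pol (F.vec q) a) (pol (F.vec q) d) * ((m : G) * Iel z x (pol (F.vec q) b) (pol (F.vec q) d')) *
        ((m : G)⁻¹ * n * q) := by rw [e2]; group
    _ = Iel z x (pol (F.vec q) a) (pol (F.vec q) d) * Iel z x (pol (F.vec q) b) (pol (F.vec q) d') *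
        ((n : G) * q) := by rw [mI.eq]; group
    _ = _ := by rw [Iel_mul F h B, pol_add_right, pol_add_right]

theorem pairing (h : Hyp z Q) (B : Base F x) {m : Subgroup.centralizer ({z} : Set G)} (hm : Mem F x a m) {q : G}
    (hq : q ∈ Q) (hv : pol e0 (F.vec q) = 0) :
    q * m = Iel z x (pol (F.vec q) a) (pol (F.vec q) a) * ((m : G) * q) := by
  obtain ⟨-, Pe1, -, -, Pf1, -, -, Pn, -⟩ := inP_facts
  obtain ⟨P3, Q3, q3, r3, h33⟩ := qn_split
  obtain ⟨d, hd⟩ := pair_some F h B Pe1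
  obtain ⟨k, rfl⟩ : ∃ k : ZMod 2, d = k • e1 := by
    rcases fix_only hd.1 (fun g hg he => pair_unique F h B Pe1 (he ▸ pair_conj F h B Pe1 hd hg) hd) with e | e
    exacts [⟨0, by rw [e, zero_smul]⟩, ⟨1, by rw [e, one_smul]⟩]
  have hsing : ∀ c, InP c → c ≠ 0 → qm c = 0 → PairTo F x c (k • c) := fun c hc h0 hq0 => by
    obtain ⟨g, hg, e⟩ := rep_move hc h0
    rw [if_pos hq0] at e
    have := pair_conj F h B Pe1 hd (inv_mem hg)
    rwa [← e, nz_smul_nz (inv_mem hg), inv_smul_smul, nz_of_inP hc, show nz (g⁻¹ • k • nz (g • c)) = k • c by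
      rcases zm2 k with rfl | rfl
      · rw [zero_smul, zero_smul, smul_zero', nz_of_inP inP_facts.1]
      · rw [one_smul, one_smul, nz_smul_nz (inv_mem hg), inv_smul_smul, nz_of_inP hc]] at this
  have h3 : e3 ≠ 0 ∧ f3 ≠ 0 := by decide +kernel
  have hn : PairTo F x n0 (k • n0) := by
    have := pair_add F h B P3 Q3 (hsing _ P3 h3.1 q3) (hsing _ Q3 h3.2 r3)
    rwa [h33, ← smul_add, h33] at this
  have hall : ∀ c, InP c → PairTo F x c (k • c) := fun c hc => by
    by_cases h0 : c = 0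
    · subst h0
      have := pair_add F h B Pn Pn hn hn
      rwa [ZModModule.add_self, ZModModule.add_self, ← smul_zero (M := ZMod 2) (A := V) k] at this
    rcases zm2 (qm c) with hq0 | hq1
    · exact hsing c hc h0 hq0
    obtain ⟨g, hg, e⟩ := rep_move hc h0
    rw [if_neg (by rw [hq1]; exact one_ne_zero)] at e
    have := pair_conj F h B Pn hn (inv_mem hg)
    rwa [← e, nz_smul_nz (inv_mem hg), inv_smul_smul, nz_of_inP hc, show nz (g⁻¹ • k • nz (g • c)) = k • c by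
      rcases zm2 k with rfl | rfl
      · rw [zero_smul, zero_smul, smul_zero', nz_of_inP inP_facts.1]
      · rw [one_smul, one_smul, nz_smul_nz (inv_mem hg), inv_smul_smul, nz_of_inP hc]] at this
  rcases zm2 k with rfl | rfl
  swap
  · have := (hall a hm.1).2 m hm q hq hv
    rwa [one_smul] at this
  exfalso
  obtain ⟨t, ht1, ht2⟩ := exists_swap F h B
  obtain ⟨p, hp, hpv⟩ := F.vec_surj f1
  obtain ⟨n, hn'⟩ := Mem.exists F h B Pe1
  have hp0 : pol e0 (F.vec p) = 0 := by rw [hpv]; exact (inP_perp Pf1).1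
  have e := (hall e1 Pe1).2 n hn' p hp hp0
  rw [zero_smul, pol_zero_right, hpv, show pol f1 e1 = 1 by decide +kernel, Iel_10 F] at e
  have hQ' : t * (n : G) * t⁻¹ ∈ Q := by
    have := hn'.2.1.conj t
    rw [ht1] at this
    exact (inQ_z h).1 this
  have hx' : InQ z Q x (t * p * t⁻¹) := by
    have := ((inQ_z h).2 hp).conj t
    rwa [ht2] at this
  have hzc : Commute (t * p * t⁻¹) z := by
    have := (Commute.conj_iff t).2 (comm_x F B hp hp0)
    rwa [ht1] at this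
  have hv' : pol e0 (F.vec (t * (n : G) * t⁻¹)) = 0 :=
    comm_x_iff F B hQ' ((swap_comm F ht2 _).1 (mem_C.1 n.2))
  have hm' : Mem F x _ (cC hzc) := Mem.of_inQ F h B (m := cC hzc) hx'
  have e' := (hall _ hm'.1).2 _ hm' _ hQ' hv'
  rw [zero_smul, pol_zero_right] at e'
  have e'' : t * p * t⁻¹ * (t * (n : G) * t⁻¹) = z * (t * (n : G) * t⁻¹ * (t * p * t⁻¹)) := by
    rw [show t * p * t⁻¹ * (t * (n : G) * t⁻¹) = t * (p * (n : G)) * t⁻¹ by group, e]
    calc t * (x * ((n : G) * p)) * t⁻¹ = t * x * t⁻¹ * (t * (n : G) * t⁻¹ * (t * p * t⁻¹)) := by group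
      _ = _ := by rw [ht1]
  generalize hpp : pol (F.vec (t * (n : G) * t⁻¹)) (param (F.π (cC hzc) : OG)) = r at e'
  have e3 : t * (n : G) * t⁻¹ * (t * p * t⁻¹) =
      Iel z x r 0 * (z * (t * (n : G) * t⁻¹ * (t * p * t⁻¹))) := by rw [← e'']; exact e'
  have h0 : Iel z x r 0 * z = 1 := mul_eq_right.1 ((mul_assoc _ _ _).trans e3.symm)
  have h0' : Iel z x r 1 = 1 := by
    rw [← h0]
    calc Iel z x r 1 = Iel z x r 0 * Iel z x 0 1 := by rw [Iel_mul F h B, add_zero, zero_add]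
      _ = Iel z x r 0 * z := by rw [Iel_01 F]
  exact one_ne_zero (Iel_eq_one F h B h0').2

/-- a product of the two subgroups with given parameters -/
def Form (F : Frame z Q) (x : G) (t : G) (a v : V) : Prop :=
  ∃ m, Mem F x a m ∧ ∃ q ∈ Q, F.vec q = v ∧ pol e0 v = 0 ∧ t = m * q

variable {t t' : G} {v w : V}

theorem Form.inP (hf : Form F x t a v) : InP a ∧ pol e0 v = 0 := by
  obtain ⟨m, hm, q, -, -, hv, -⟩ := hf; exact ⟨hm.1, hv⟩

theorem Form.comm (h : Hyp z Q) (B : Base F x) (hf : Form F x t a v) : Commute t x ∧ Commute t z := by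
  obtain ⟨m, hm, q, hq, rfl, hv, rfl⟩ := hf
  exact ⟨(hm.comm F h).1.mul_left (comm_x F B hq hv), (hm.comm F h).2.mul_left (Qz h hq)⟩

theorem Form.π (h : Hyp z Q) (B : Base F x) (hf : Form F x t a v) :
    F.π (cC (hf.comm F h B).2) = R a := by
  obtain ⟨m, hm, q, hq, rfl, hv, rfl⟩ := hf
  rw [π_mul F (mem_C.1 m.2) (Qz h hq), π_Q F h hq, mul_one, ← hm.2.2]
  rfl

theorem Form.sq (h : Hyp z Q) (B : Base F x) (hf : Form F x t a v) :
    t * t = Iel z x (qm a + pol v a) (pol v a + qm v) := by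
  obtain ⟨m, hm, q, hq, rfl, hv, rfl⟩ := hf
  obtain ⟨mx, mz⟩ := hm.comm F h
  calc (m : G) * q * ((m : G) * q) = (m : G) * (q * (m : G)) * q := by group
    _ = (m : G) * Iel z x (pol (F.vec q) a) (pol (F.vec q) a) * ((m : G) * (q * q)) := by
      rw [pairing F h B hm hq hv]; group
    _ = Iel z x (pol (F.vec q) a) (pol (F.vec q) a) * ((m : G) * m) * (q * q) := by
      rw [(Iel_comm F _ _ mx mz).eq]; group
    _ = _ := by
      rw [Msq F h B hm, Qsq F h (x := x) hq, Iel_mul F h B, Iel_mul F h B, add_zero, add_zero, add_comm (qm a)]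

theorem Form.conj_Q (h : Hyp z Q) (B : Base F x) (hf : Form F x t a v) {l : G} (hl : l ∈ Q)
    (hu : pol e0 (F.vec l) = 0) :
    l * t * l⁻¹ = Iel z x (pol (F.vec l) a) (pol (F.vec l) a + pol (F.vec l) v) * t := by
  obtain ⟨m, hm, q, hq, rfl, hv, rfl⟩ := hf
  obtain ⟨mx, mz⟩ := hm.comm F h
  calc l * ((m : G) * q) * l⁻¹ = l * (m : G) * q * l⁻¹ := by group
    _ = Iel z x (pol (F.vec l) a) (pol (F.vec l) a) * (m : G) * (l * q) * l⁻¹ := by
      rw [pairing F h B hm hl hu]; group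
    _ = Iel z x (pol (F.vec l) a) (pol (F.vec l) a) * ((m : G) * Iel z x 0 (pol (F.vec l) (F.vec q))) * q := by
      rw [Qmul F h (x := x) hl hq]; group
    _ = _ := by rw [(Iel_comm F _ _ mx mz).eq, ← mul_assoc, Iel_mul F h B, add_zero]; group

theorem Form.conj_C (h : Hyp z Q) (B : Base F x) (hf : Form F x t a v)
    {k : Subgroup.centralizer ({z} : Set G)} (hk : Commute (k : G) x) :
    Form F x ((k : G) * t * (k : G)⁻¹) (nz (F.π k • a)) (F.π k • v) := by
  obtain ⟨m, hm, q, hq, rfl, hv, rfl⟩ := hf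
  have hc := comm_St F h B hk
  refine ⟨_, hm.conj F h hk hc, _, h.norm k (mem_C.1 k.2) q hq, F.vec_conj k q hq, by rw [St_perp hc, hv], ?_⟩
  show _ = (k : G) * m * (k : G)⁻¹ * ((k : G) * q * (k : G)⁻¹)
  group

theorem Form.shift (h : Hyp z Q) (B : Base F x) (hf : Form F x t a v) :
    ∃ l ∈ Q, l * x * l⁻¹ = x * z ∧ Form F x (l * t * l⁻¹) a (v + a + qm a • e0) := by
  obtain ⟨l, hl, hlv⟩ := F.vec_surj f0
  refine ⟨l, hl, swap_x F h B hl (by rw [hlv]; exact basic.2.2.1), ?_⟩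
  obtain ⟨m, hm, q, hq, rfl, hv, rfl⟩ := hf
  have hc1 : (m : G)⁻¹ * l * (m : G)⁻¹⁻¹ ∈ Q := h.norm _ (mem_C.1 m⁻¹.2) l hl
  have hc2 : l * q * l⁻¹ ∈ Q := mul_mem (mul_mem hl hq) (inv_mem hl)
  have hv1 : F.vec ((m : G)⁻¹ * l * (m : G)⁻¹⁻¹ * l⁻¹) = a + qm a • e0 := by
    rw [F.vec_mul _ hc1 _ (inv_mem hl), vec_inv F h hl,
      show F.vec ((m : G)⁻¹ * l * (m : G)⁻¹⁻¹) = F.π m⁻¹ • F.vec l from F.vec_conj m⁻¹ l hl, map_inv, hm.2.2,
      R_inv hm.1, hlv, R_f0 hm.1, show f0 + a + qm a • e0 + f0 = a + qm a • e0 + (f0 + f0) by abel,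
      ZModModule.add_self, add_zero]
  have hv2 : F.vec (l * q * l⁻¹) = F.vec q := by
    rw [F.vec_mul _ (mul_mem hl hq) _ (inv_mem hl), F.vec_mul l hl q hq, vec_inv F h hl, add_comm (F.vec l),
      add_assoc, ZModModule.add_self, add_zero]
  refine ⟨m, hm, _, mul_mem (mul_mem hc1 (inv_mem hl)) hc2, ?_, ?_, ?_⟩
  · rw [F.vec_mul _ (mul_mem hc1 (inv_mem hl)) _ hc2, hv1, hv2]; abel
  · rw [pol_add_right, pol_add_right, hv, (inP_perp hm.1).1, pol_smul_right, pol_self]; simp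
  · group

theorem Form.eq_or (h : Hyp z Q) (B : Base F x) (hf : Form F x t a v) (hf' : Form F x t' a w)
    (e : nz v = nz w) : ∃ i j, t' = Iel z x i j * t := by
  obtain ⟨m, hm, q, hq, rfl, hv, rfl⟩ := hf
  obtain ⟨n, hn, p, hp, rfl, hw, rfl⟩ := hf'
  obtain ⟨mx, mz⟩ := hm.comm F h
  obtain ⟨i, j, he⟩ := hm.indep F h B hn
  have hpq : p * q⁻¹ ∈ Q := mul_mem hp (inv_mem hq)
  have h0 : F.vec (p * q⁻¹) = 0 ∨ F.vec (p * q⁻¹) = e0 := by
    rw [F.vec_mul p hp _ (inv_mem hq), vec_inv F h hq]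
    exact (nz_eq_iff _).1 (by rw [nz_add, e, ZModModule.add_self])
  obtain ⟨i', j', he'⟩ : ∃ i' j', p * q⁻¹ = Iel z x i' j' := by
    rcases h0 with e' | e'
    · exact ⟨0, vec_Iel F h B hpq (by rw [e', zero_smul])⟩
    · exact ⟨1, vec_Iel F h B hpq (by rw [e', one_smul])⟩
  refine ⟨i + i', j + j', ?_⟩
  calc (n : G) * p = (m : G) * (Iel z x i j * (p * q⁻¹)) * q := by rw [he]; group
    _ = _ := by rw [he', Iel_mul F h B, (Iel_comm F _ _ mx mz).eq]; group

theorem Form.unique (h : Hyp z Q) (B : Base F x) (hf : Form F x t a v) (hf' : Form F x t b w) :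
    a = b ∧ nz v = nz w := by
  have e := (hf.π F h B).symm.trans (hf'.π F h B)
  have hab := R_inj (hf.inP F).1 (hf'.inP F).1 e
  subst hab
  refine ⟨rfl, ?_⟩
  obtain ⟨m, hm, q, hq, rfl, hv, rfl⟩ := hf
  obtain ⟨n, hn, p, hp, rfl, hw, he⟩ := hf'
  obtain ⟨i, j, hi⟩ := hm.indep F h B hn
  obtain ⟨hI, -, hIv⟩ := Iel_mem F h B i j
  rw [hi, mul_assoc] at he
  rw [mul_left_cancel he, F.vec_mul _ hI p hp, hIv, nz_add]
  rcases zm2 i with rfl | rfl
  · rw [zero_smul, nz_of_inP inP_facts.1, zero_add]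
  · rw [one_smul, nz_e0, zero_add]

theorem exists_form (h : Hyp z Q) (B : Base F x) {c : Subgroup.centralizer ({z} : Set G)}
    (hcc : (c : G) * c = 1) (ha : InP a) (ha0 : a ≠ 0) (hπ : F.π c = R a) :
    ∃ v, Form F x (c : G) a v ∧ pol v a = qm a ∧ qm v = qm a := by
  obtain ⟨m, hm⟩ := Mem.exists F h B ha
  have hQ : ((m⁻¹ * c : Subgroup.centralizer ({z} : Set G)) : G) ∈ Q :=
    (F.π_ker _).1 (by rw [map_mul, map_inv, hm.2.2, hπ, inv_mul_cancel])
  change (m : G)⁻¹ * c ∈ Q at hQ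
  set q := (m : G)⁻¹ * c with hqd
  have hc : (c : G) = (m : G) * q := by rw [hqd]; group
  rw [hc] at hcc
  have hv : pol e0 (F.vec q) = 0 := by
    have hm' := Msq F h B hm
    have hcq := h.norm m (mem_C.1 m.2) q hQ
    have e : (m : G) * q * (m : G)⁻¹ * ((m : G) * m) * q = 1 := by rw [← hcc]; group
    rw [hm'] at e
    obtain ⟨hI, -, hIv⟩ := Iel_mem F h B (qm a) 0
    have := congrArg F.vec e
    rw [F.vec_mul _ (mul_mem hcq hI) q hQ, F.vec_mul _ hcq _ hI, hIv, F.vec_conj m q hQ, hm.2.2, vec_one F h] at this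
    set v := F.vec q
    have hw := split_f0 v
    have h2 : v = v + v (.inr 0) • f0 + v (.inr 0) • f0 := by rw [add_assoc, ZModModule.add_self, add_zero]
    rw [pol_e0]
    by_contra hne
    have h1 := zm2_one hne
    rw [h1, one_smul] at hw h2
    rw [h2, smul_add', R_act ha hw, R_f0 ha] at this
    refine ha0 ?_
    have h3 : a + (pol (v + f0) a + qm a + qm a) • e0 = 0 := by
      rw [← this, add_smul, add_smul]
      rw [show v + f0 + pol (v + f0) a • e0 + (f0 + a + qm a • e0) + qm a • e0 + (v + f0 + f0) =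
        a + (pol (v + f0) a • e0 + qm a • e0 + qm a • e0) + ((v + v) + (f0 + f0) + (f0 + f0)) by abel,
        ZModModule.add_self, ZModModule.add_self, add_zero, add_zero, add_zero]
    have h4 := congrArg nz h3
    rw [nz_add, nz_of_inP ha, nz_of_inP inP_facts.1] at h4
    rcases zm2 (pol (v + f0) a + qm a + qm a) with e' | e' <;> rw [e'] at h4
    · rwa [zero_smul, nz_of_inP inP_facts.1, add_zero] at h4
    · rwa [one_smul, nz_e0, add_zero] at h4
  have hf : Form F x (c : G) a (F.vec q) := ⟨m, hm, q, hQ, rfl, hv, hc⟩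
  have e := hf.sq F h B
  rw [hc, hcc] at e
  obtain ⟨e1, e2⟩ := Iel_eq_one F h B e.symm
  refine ⟨_, hf, ?_, ?_⟩
  · rw [eq_neg_of_add_eq_zero_right e1, ZModModule.neg_eq_self]
  · rw [eq_neg_of_add_eq_zero_right e2, ZModModule.neg_eq_self, eq_neg_of_add_eq_zero_right e1,
      ZModModule.neg_eq_self]

theorem Form.kill (h : Hyp z Q) (B : Base F x) (hf : Form F x t a v) {u1 u2 : V} (h1 : pol e0 u1 = 0)
    (h2 : pol e0 u2 = 0) (a1 : pol u1 a = 1) (v1 : pol u1 v = 0) (a2 : pol u2 a = 0) (v2 : pol u2 v = 1)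
    (i j : ZMod 2) : ∃ l ∈ Q, Commute l x ∧ l * (Iel z x i j * t) * l⁻¹ = t := by
  obtain ⟨l1, hl1, rfl⟩ := F.vec_surj u1
  obtain ⟨l2, hl2, rfl⟩ := F.vec_surj u2
  obtain ⟨l, hl, hlv⟩ := F.vec_surj (i • F.vec l1 + (i + j) • F.vec l2)
  have hu : pol e0 (F.vec l) = 0 := by
    rw [hlv, pol_add_right, pol_smul_right, pol_smul_right, h1, h2]; simp
  refine ⟨l, hl, comm_x F B hl hu, ?_⟩
  have e := hf.conj_Q F h B hl hu
  rw [show pol (F.vec l) a = i by
      rw [hlv, pol_add_left, pol_smul_left, pol_smul_left, a1, a2, mul_one, mul_zero, add_zero],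
    show pol (F.vec l) v = i + j by
      rw [hlv, pol_add_left, pol_smul_left, pol_smul_left, v1, v2, mul_one, mul_zero, zero_add],
    ← add_assoc, ZModModule.add_self, zero_add] at e
  rw [← mul_assoc, (qI_comm F h B hl hu i j).eq,
    show Iel z x i j * l * t * l⁻¹ = Iel z x i j * (l * t * l⁻¹) by group, e, ← mul_assoc, Iel_mul F h B,
    ZModModule.add_self, ZModModule.add_self, Iel_00 F, one_mul]

end Cfsg.Agent.Spor.CoT
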