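import Cfsg.Agent.Lib.Spor.CoTypeGroup
import Cfsg.Agent.Lib.Spor.CoTypeChecksB

/-!
The elements trivial around the first point of a plus form in dimension eight over two elements.
-/

set_option autoImplicit false
set_option maxRecDepth 100000
set_option linter.unusedSectionVars false

namespace Cfsg.Agent.Spor.CoT

open Chk Dat Cfsg.Agent.Classical

theorem pol_comm' (v w : V) : pol v w = pol w v := by
  simp only [pol_eq]; exact Finset.sum_congr rfl fun i _ => by ring

theorem pol_add_left (u v w : V) : pol (u + v) w = pol u w + pol v w := by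
  simp only [pol_eq, ← Finset.sum_add_distrib, Pi.add_apply]; exact Finset.sum_congr rfl fun i _ => by ring

theorem pol_add_right (u v w : V) : pol u (v + w) = pol u v + pol u w := by
  simp only [pol_eq, ← Finset.sum_add_distrib, Pi.add_apply]; exact Finset.sum_congr rfl fun i _ => by ring

theorem pol_smul_left (c : ZMod 2) (v w : V) : pol (c • v) w = c * pol v w := by
  simp only [pol_eq, Finset.mul_sum, Pi.smul_apply, smul_eq_mul]; exact Finset.sum_congr rfl fun i _ => by ring

theorem pol_smul_right (c : ZMod 2) (v w : V) : pol v (c • w) = c * pol v w := by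
  rw [pol_comm', pol_smul_left, pol_comm']

theorem pol_self (v : V) : pol v v = 0 := by
  rw [pol_eq]
  refine Finset.sum_eq_zero fun i _ => ?_
  rw [mul_comm (v (.inr i)), ZModModule.add_self]

theorem pol_zero_left (w : V) : pol 0 w = 0 := by simp [pol_eq]

theorem pol_zero_right (w : V) : pol w 0 = 0 := by simp [pol_eq]

theorem qm_zero : qm (0 : V) = 0 := by simp [qm, Cfsg.quadFormPlus]

theorem qm_add (v w : V) : qm (v + w) = qm v + qm w + pol v w := by
  have h : ∀ a b c : ZMod 2, a = b + c + (a + b + c) := by decide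
  exact h _ _ _

theorem qm_smul (c : ZMod 2) (v : V) : qm (c • v) = c * qm v := by
  rcases (show ∀ b : ZMod 2, b = 0 ∨ b = 1 by decide) c with rfl | rfl
  · rw [zero_smul, qm_zero, zero_mul]
  · rw [one_smul, one_mul]

noncomputable instance : MulAction OG V where
  smul g v := g.1 v
  one_smul _ := rfl
  mul_smul _ _ _ := rfl

theorem coe_smul (g : Ga) (v : V) : (g : OG) • v = g • v := rfl

theorem osmul_add (g : OG) (v w : V) : g • (v + w) = g • v + g • w := g.1.map_add v w

theorem osmul_zero (g : OG) : g • (0 : V) = 0 := g.1.map_zero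

theorem osmul_smul (g : OG) (c : ZMod 2) (v : V) : g • (c • v) = c • (g • v) := g.1.map_smul c v

theorem osmul_qm (g : OG) (v : V) : qm (g • v) = qm v := iso_q g v

theorem osmul_pol (g : OG) (v w : V) : pol (g • v) (g • w) = pol v w := iso_pol g v w

theorem smul_add' (g : Ga) (v w : V) : g • (v + w) = g • v + g • w := (g : OG).1.map_add v w

theorem smul_zero' (g : Ga) : g • (0 : V) = 0 := (g : OG).1.map_zero

theorem smul_smul' (g : Ga) (c : ZMod 2) (v : V) : g • (c • v) = c • (g • v) := (g : OG).1.map_smul c v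

theorem smul_qm (g : Ga) (v : V) : qm (g • v) = qm v := iso_q (g : OG) v

theorem smul_pol (g : Ga) (v w : V) : pol (g • v) (g • w) = pol v w := iso_pol (g : OG) v w

theorem enc_osmul {g : OG} {L : List ℕ} (h : IsCols g L) (v : V) : enc (g • v) = app L (enc v) := h.2 v

/-- the second point -/
def e1 : V := vec 2
/-- the third point -/
def e2 : V := vec 4
/-- the fourth point -/
def e3 : V := vec 8
/-- the partner of the first point -/
def f0 : V := vec 16
/-- the partner of the second point -/
def f1 : V := vec 32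
/-- the partner of the third point -/
def f2 : V := vec 64
/-- the partner of the fourth point -/
def f3 : V := vec 128
/-- a nonsingular parameter -/
def n0 : V := vec 136
/-- a nonsingular partner of it -/
def w0 : V := vec 76

theorem pol_e0 : ∀ v : V, pol e0 v = v (.inr 0) := by decide +kernel

theorem pol_f0 : ∀ v : V, pol f0 v = v (.inl 0) := by decide +kernel

theorem basic :
    qm e0 = 0 ∧ qm f0 = 0 ∧ pol e0 f0 = 1 ∧ e0 (.inl 0) = 1 ∧ e0 (.inr 0) = 0 ∧ f0 (.inr 0) = 1 ∧ f0 (.inl 0) = 0 := by
  decide +kernel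

/-- membership in the six coordinates away from the first point -/
def InP (v : V) : Prop := v (.inl 0) = 0 ∧ v (.inr 0) = 0

/-- drop the first coordinate -/
def nz (v : V) : V := v + v (.inl 0) • e0

theorem nz_enc : ∀ v : V, enc (nz v) = m1 (enc v) := by decide +kernel

theorem inP_enc : ∀ v : V, InP v ↔ inP6 (enc v) = true := by
  unfold InP; decide +kernel

theorem nz_inP {v : V} (h : pol e0 v = 0) : InP (nz v) := by
  rw [pol_e0] at h
  constructor
  · simp [nz, basic.2.2.2.1, ZModModule.add_self]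
  · simp [nz, basic.2.2.2.2.1, h]

theorem nz_of_inP {v : V} (h : InP v) : nz v = v := by simp [nz, h.1]

theorem nz_add (v w : V) : nz (v + w) = nz v + nz w := by simp [nz, add_smul]; abel

theorem nz_e0 : nz e0 = 0 := by simp [nz, basic.2.2.2.1, ZModModule.add_self]

theorem nz_eq_iff : ∀ v : V, nz v = 0 ↔ v = 0 ∨ v = e0 := by decide +kernel

theorem inP_perp {a : V} (h : InP a) : pol e0 a = 0 ∧ pol f0 a = 0 := by
  rw [pol_e0, pol_f0]; exact ⟨h.2, h.1⟩

theorem pol_nz {v w : V} (h : pol e0 v = 0) : pol v (nz w) = pol v w := by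
  rw [nz, pol_add_right, pol_smul_right, pol_comm' v e0, h, mul_zero, add_zero]

theorem perp_perp {u : V} (h : ∀ v, pol e0 v = 0 → pol u v = 0) : u = 0 ∨ u = e0 := by
  have key : ∀ i : Fin 4, i ≠ 0 → u (.inl i) = 0 ∧ u (.inr i) = 0 := by
    intro i hi
    have h1 := h (Pi.single (.inr i) 1) (by rw [pol_e0]; simp [hi, eq_comm])
    have h2 := h (Pi.single (.inl i) 1) (by rw [pol_e0]; simp)
    rw [pol_eq, Finset.sum_eq_single i (fun j _ hj => by simp [hj]) (by simp)] at h1 h2
    simp at h1 h2
    exact ⟨h1, h2⟩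
  have h3 : u (.inr 0) = 0 := by
    have := h e0 (pol_self e0)
    rwa [pol_comm', pol_e0] at this
  have : nz u = 0 := by
    funext i
    rcases i with i | i <;> by_cases hi : i = 0
    · subst hi; simp [nz, basic.2.2.2.1, ZModModule.add_self]
    · rw [nz, Pi.add_apply, (key i hi).1, zero_add, Pi.smul_apply,
        show e0 (.inl i) = 0 from (show ∀ j : Fin 4, j ≠ 0 → e0 (.inl j) = 0 by decide +kernel) i hi, smul_zero]
      rfl
    · subst hi; simp [nz, basic.2.2.2.2.1, h3]
    · rw [nz, Pi.add_apply, (key i hi).2, zero_add, Pi.smul_apply,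
        show e0 (.inr i) = 0 from (show ∀ j : Fin 4, e0 (.inr j) = 0 by decide +kernel) i, smul_zero]
      rfl
  exact (nz_eq_iff u).1 this

theorem inP_ext {a b : V} (ha : InP a) (hb : InP b) (h : ∀ v, pol e0 v = 0 → pol v a = pol v b) : a = b := by
  rcases perp_perp (u := a + b) (fun v hv => by
    rw [pol_comm', pol_add_right, h v hv, ZModModule.add_self]) with e | e
  · rw [← sub_eq_zero, ZModModule.sub_eq_add]; exact e
  · have h0 := congrFun e (.inl 0)
    rw [Pi.add_apply, ha.1, hb.1, basic.2.2.2.1, add_zero] at h0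
    exact absurd h0 zero_ne_one

/-- trivial around the first point -/
def RadAt (g : OG) : Prop := g • e0 = e0 ∧ ∀ v, pol e0 v = 0 → g • v = v ∨ g • v = v + e0

/-- the parameter -/
noncomputable def param (g : OG) : V := nz (g • f0 + f0)

theorem param_inP {g : OG} (h : RadAt g) : InP (param g) := by
  refine nz_inP ?_
  rw [pol_add_right, show pol e0 (g • f0) = pol e0 f0 by conv_lhs => rw [← h.1, osmul_pol]]
  exact ZModModule.add_self _

theorem rad_act {g : OG} (h : RadAt g) :
    (∀ v, pol e0 v = 0 → g • v = v + pol v (param g) • e0) ∧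
      g • f0 = f0 + param g + qm (param g) • e0 := by
  obtain ⟨ha1, ha2⟩ := param_inP h
  obtain ⟨hq0, hqf, h0f, -⟩ := basic
  set a := param g with had
  obtain ⟨c, hc⟩ : ∃ c : ZMod 2, g • f0 = f0 + a + c • e0 :=
    ⟨(g • f0 + f0) (.inl 0), by
      rw [had, param, nz, show f0 + (g • f0 + f0 + (g • f0 + f0) (.inl 0) • e0) + (g • f0 + f0) (.inl 0) • e0 =
        g • f0 + (f0 + f0) + ((g • f0 + f0) (.inl 0) • e0 + (g • f0 + f0) (.inl 0) • e0) by abel,
        ZModModule.add_self, ZModModule.add_self, add_zero, add_zero]⟩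
  obtain ⟨p0, pf⟩ := inP_perp ⟨ha1, ha2⟩
  have hcq : c = qm a := by
    have := osmul_qm g f0
    rw [hc, qm_add, qm_add, hqf, qm_smul, hq0, mul_zero, pf, pol_smul_right, pol_add_left, pol_comm' f0 e0, h0f,
      pol_comm' a e0, p0] at this
    revert this; generalize qm a = q; clear hc; revert c q; decide
  refine ⟨fun v hv => ?_, by rw [hc, hcq]⟩
  obtain ⟨d, hd⟩ : ∃ d : ZMod 2, g • v = v + d • e0 := by
    rcases h.2 v hv with e | e
    exacts [⟨0, by rw [zero_smul, add_zero, e]⟩, ⟨1, by rw [one_smul, e]⟩]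
  have e := osmul_pol g v f0
  rw [hd, hc, pol_add_left, pol_smul_left, pol_add_right, pol_add_right, pol_add_right, pol_add_right, pol_smul_right,
    pol_smul_right, pol_comm' v e0, hv, h0f, p0, pol_self] at e
  rw [hd]
  congr 2
  revert e; generalize pol v f0 = p; generalize pol v a = r; clear hd hc hcq; revert d p r c; decide

theorem split_f0 (v : V) : pol e0 (v + v (.inr 0) • f0) = 0 := by
  rw [pol_add_right, pol_smul_right, basic.2.2.1, mul_one, pol_e0, ZModModule.add_self]

theorem rad_ext {g h : OG} (hg : RadAt g) (hh : RadAt h) (e : param g = param h) : g = h := by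
  refine Subtype.ext (LinearEquiv.ext fun v => ?_)
  show g • v = h • v
  have key : ∀ w, pol e0 w = 0 → ∀ c : ZMod 2, g • (w + c • f0) = h • (w + c • f0) := fun w hw c => by
    rw [osmul_add, osmul_add, osmul_smul, osmul_smul, (rad_act hg).1 w hw, (rad_act hh).1 w hw, (rad_act hg).2,
      (rad_act hh).2, e]
  have := key _ (split_f0 v) (v (.inr 0))
  rwa [add_assoc, ZModModule.add_self, add_zero] at this

theorem rad_exists {a : V} (ha : InP a) :
    ∃ g : Ga, RadAt (g : OG) ∧ param (g : OG) = a ∧ IsCols (g : OG) (radL (enc a)) := by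
  have h := List.all_eq_true.mp rad_ok (enc a) (List.mem_range.mpr (enc_lt a))
  have h' := List.all_eq_true.mp radAct_ok (enc a) (List.mem_range.mpr (enc_lt a))
  rw [(inP_enc a).1 ha] at h h'
  simp only [Bool.not_true, Bool.false_or, List.any_eq_true, Bool.and_eq_true, beq_iff_eq, List.all_eq_true,
    List.mem_range, Bool.or_eq_true] at h h'
  obtain ⟨w, -, ⟨-, hw⟩, hc⟩ := h
  obtain ⟨⟨h1, h2⟩, h3⟩ := h'
  have hcols : IsCols (we w.2 : OG) (radL (enc a)) := hc ▸ we_cols hw
  refine ⟨we w.2, ⟨enc_injective ?_, fun v hv => ?_⟩, enc_injective ?_, hcols⟩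
  · rw [enc_osmul hcols, e0_facts.2.2, Nat.eq_of_beq_eq_true h1]
  · rw [pol_eq_zero, e0_facts.2.2] at hv
    rcases h3 (enc v) (enc_lt v) with (e | e) | e
    · exfalso
      have e' := Nat.eq_of_beq_eq_true e
      have hs : pc (enc v) 1 = pc 1 (enc v) := by simp [pc]; ring_nf
      omega
    · exact Or.inl (enc_injective ((enc_osmul hcols v).trans (Nat.eq_of_beq_eq_true e)))
    · refine Or.inr (enc_injective ?_)
      rw [enc_osmul hcols, Nat.eq_of_beq_eq_true e, enc_add, e0_facts.2.2]
  · rw [param, nz_enc, enc_add, enc_osmul hcols, f0, enc_vec 16 (by norm_num)]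
    exact Nat.eq_of_beq_eq_true h2

theorem rad_mem {g : OG} (h : RadAt g) : g ∈ Ga := by
  obtain ⟨r, hr, hp, -⟩ := rad_exists (param_inP h)
  rw [rad_ext h hr hp.symm]
  exact r.2

theorem rad_one : RadAt (1 : OG) ∧ param (1 : OG) = 0 := by
  refine ⟨⟨rfl, fun v _ => Or.inl rfl⟩, ?_⟩
  rw [param, one_smul, ZModModule.add_self, nz, Pi.zero_apply, zero_smul, add_zero]

theorem param_eq_zero {g : OG} (h : RadAt g) (e : param g = 0) : g = 1 :=
  rad_ext h rad_one.1 (e.trans rad_one.2.symm)

theorem param_of {g : OG} (h : RadAt g) {b : V} (hb : InP b)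
    (e : ∀ v, pol e0 v = 0 → g • v = v + pol v b • e0) : param g = b := by
  refine inP_ext (param_inP h) hb fun v hv => ?_
  have e1 := ((rad_act h).1 v hv).symm.trans (e v hv)
  have e2 := congrFun (add_left_cancel e1) (.inl 0)
  simpa [basic.2.2.2.1] using e2

theorem rad_mul {g h : OG} (hg : RadAt g) (hh : RadAt h) : RadAt (g * h) ∧ param (g * h) = param g + param h := by
  have act : ∀ v, pol e0 v = 0 → (g * h) • v = v + pol v (param g + param h) • e0 := fun v hv => by
    rw [mul_smul, (rad_act hh).1 v hv, osmul_add, osmul_smul, hg.1, (rad_act hg).1 v hv, pol_add_right, add_smul]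
    abel
  have hr : RadAt (g * h) := ⟨by rw [mul_smul, hh.1, hg.1], fun v hv => by
    rcases (show ∀ b : ZMod 2, b = 0 ∨ b = 1 by decide) (pol v (param g + param h)) with e | e <;>
      rw [act v hv, e]
    exacts [Or.inl (by rw [zero_smul, add_zero]), Or.inr (by rw [one_smul])]⟩
  refine ⟨hr, param_of hr ?_ act⟩
  exact ⟨by rw [Pi.add_apply, (param_inP hg).1, (param_inP hh).1, add_zero],
    by rw [Pi.add_apply, (param_inP hg).2, (param_inP hh).2, add_zero]⟩

theorem rad_conj {c g : OG} (hc : c • e0 = e0) (hg : RadAt g) :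
    RadAt (c * g * c⁻¹) ∧ param (c * g * c⁻¹) = nz (c • param g) := by
  have hci : c⁻¹ • e0 = e0 := by rw [inv_smul_eq_iff, hc]
  have hperp : ∀ v, pol e0 v = 0 → pol e0 (c⁻¹ • v) = 0 := fun v hv => by
    rw [← osmul_pol c, hc, smul_inv_smul, hv]
  have act : ∀ v, pol e0 v = 0 → (c * g * c⁻¹) • v = v + pol v (nz (c • param g)) • e0 := fun v hv => by
    rw [mul_smul, mul_smul, (rad_act hg).1 _ (hperp v hv), osmul_add, osmul_smul, hc, smul_inv_smul, pol_nz hv,
      ← osmul_pol c (c⁻¹ • v), smul_inv_smul]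
  have hr : RadAt (c * g * c⁻¹) := ⟨by rw [mul_smul, mul_smul, hci, hg.1, hc], fun v hv => by
    rcases (show ∀ b : ZMod 2, b = 0 ∨ b = 1 by decide) (pol v (nz (c • param g))) with e | e <;> rw [act v hv, e]
    exacts [Or.inl (by rw [zero_smul, add_zero]), Or.inr (by rw [one_smul])]⟩
  refine ⟨hr, param_of hr (nz_inP ?_) act⟩
  rw [show pol e0 (c • param g) = pol e0 (param g) by conv_lhs => rw [← hc, osmul_pol]]
  exact (inP_perp (param_inP hg)).1

theorem rad_sq {g : OG} (hg : RadAt g) : g * g = 1 := by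
  obtain ⟨h1, h2⟩ := rad_mul hg hg
  exact param_eq_zero h1 (by rw [h2, ZModModule.add_self])

end Cfsg.Agent.Spor.CoT
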