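import Cfsg.Agent.Lib.Spor.CoTypeBig

/-!
The stabiliser of the first point acting on parameters: orbits and orders of stabilisers; elements fixing five
vectors of the two representatives.
-/

set_option autoImplicit false
set_option maxRecDepth 100000
set_option linter.unusedSectionVars false

namespace Cfsg.Agent.Spor.CoT

open Cfsg.Agent.Classical

theorem nz_nz_smul {c : Ga} (hc : c ∈ St) (v : V) : nz (c • nz v) = nz (c • v) := by
  rw [show nz v = v + v (.inl 0) • e0 from rfl, smul_add', smul_smul', show c • e0 = e0 from hc, nz_add]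
  rcases (show ∀ b : ZMod 2, b = 0 ∨ b = 1 by decide) (v (.inl 0)) with e | e <;> rw [e]
  · rw [zero_smul, nz_of_inP inP_facts.1, add_zero]
  · rw [one_smul, nz_e0, add_zero]

/-- parameters -/
abbrev P6 : Type := {v : V // InP v}

theorem St_nz_inP {c : Ga} (hc : c ∈ St) {a : V} (ha : InP a) : InP (nz (c • a)) := by
  refine nz_inP ?_
  conv_lhs => rw [← show c • e0 = e0 from hc, smul_pol]
  exact (inP_perp ha).1

noncomputable instance : MulAction St P6 where
  smul c v := ⟨nz ((c : Ga) • v.1), St_nz_inP c.2 v.2⟩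
  one_smul v := Subtype.ext (show nz ((1 : Ga) • v.1) = v.1 by rw [one_smul, nz_of_inP v.2])
  mul_smul a b v := Subtype.ext (show nz (((a : Ga) * b) • v.1) = nz ((a : Ga) • nz ((b : Ga) • v.1)) by
    rw [nz_nz_smul a.2, mul_smul])

theorem P6_smul (c : St) (v : P6) : (c • v).1 = nz ((c : Ga) • v.1) := rfl

theorem P6_form (c : St) (v w : P6) : qm (c • v).1 = qm v.1 ∧ pol (c • v).1 (c • w).1 = pol v.1 w.1 := by
  have hp : ∀ u : P6, pol e0 ((c : Ga) • u.1) = 0 := fun u => by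
    conv_lhs => rw [← show (c : Ga) • e0 = e0 from c.2, smul_pol]
    exact (inP_perp u.2).1
  have hq : ∀ u : V, pol e0 u = 0 → qm (nz u) = qm u := fun u hu => by
    rw [nz, qm_add, qm_smul, basic.1, mul_zero, pol_smul_right, pol_comm', hu, mul_zero, add_zero, add_zero]
  refine ⟨by rw [P6_smul, hq _ (hp v), smul_qm], ?_⟩
  rw [P6_smul, P6_smul, pol_nz (inP_perp (St_nz_inP c.2 v.2)).1, pol_comm', pol_nz (hp w), pol_comm', smul_pol]

/-- the singular representative -/
def pA : P6 := ⟨e1, inP_facts.2.1⟩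
/-- its partner -/
def pA' : P6 := ⟨e2, inP_facts.2.2.1⟩
/-- the nonsingular representative -/
def pC : P6 := ⟨n0, inP_facts.2.2.2.2.2.2.2.1⟩
/-- its partner -/
def pC' : P6 := ⟨w0, inP_facts.2.2.2.2.2.2.2.2⟩

theorem P6_cards :
    (Finset.univ.filter fun a : P6 => qm a.1 = 0 ∧ a.1 ≠ 0).card = 35 ∧
      (Finset.univ.filter fun a : P6 => qm a.1 = 1).card = 28 ∧
      (Finset.univ.filter fun a : P6 => qm a.1 = 0 ∧ pol a.1 e1 = 0 ∧ a.1 ≠ 0 ∧ a.1 ≠ e1).card = 18 ∧
      (Finset.univ.filter fun a : P6 => qm a.1 = 1 ∧ pol a.1 n0 = 1).card = 12 := by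
  decide +kernel

theorem card_stab {M : Type*} [Group M] [Finite M] {α : Type*} [MulAction M α] [Fintype α] (a : α)
    (s : Finset α) (h : MulAction.orbit M a = ↑s) :
    s.card * Nat.card (MulAction.stabilizer M a) = Nat.card M := by
  have h1 := MulAction.index_stabilizer M a
  rw [h, Set.ncard_coe_finset] at h1
  rw [← h1, mul_comm]
  exact Subgroup.card_mul_index _

theorem card_stabA : Nat.card (MulAction.stabilizer St pA) = 36864 := by
  have ho : MulAction.orbit St pA = ↑(Finset.univ.filter fun a : P6 => qm a.1 = 0 ∧ a.1 ≠ 0) := by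
    ext a
    simp only [Finset.coe_filter, Finset.mem_univ, true_and, Set.mem_ofPred_eq]
    constructor
    · rintro ⟨c, rfl⟩
      refine ⟨(P6_form c pA pA).1.trans val_facts.1, fun e => ?_⟩
      have hr := (P6_form c pA ⟨f1, inP_facts.2.2.2.2.1⟩).2
      change (c • pA).1 = 0 at e
      rw [e, pol_zero_left] at hr
      exact zero_ne_one (hr.trans (show pol e1 f1 = 1 by decide +kernel))
    · rintro ⟨hq, h0⟩
      obtain ⟨c, hc, e⟩ := rep_move a.2 h0
      rw [if_pos hq] at e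
      exact ⟨(⟨c, hc⟩ : St)⁻¹, inv_smul_eq_iff.2 (Subtype.ext e.symm)⟩
  have h := card_stab pA _ ho
  rw [P6_cards.1, card_St] at h
  omega

theorem card_stabC : Nat.card (MulAction.stabilizer St pC) = 46080 := by
  have ho : MulAction.orbit St pC = ↑(Finset.univ.filter fun a : P6 => qm a.1 = 1) := by
    ext a
    simp only [Finset.coe_filter, Finset.mem_univ, true_and, Set.mem_ofPred_eq]
    constructor
    · rintro ⟨c, rfl⟩; exact (P6_form c pC pC).1.trans val_facts.2.2.2.2.2.2.1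
    · intro hq
      obtain ⟨c, hc, e⟩ := rep_move a.2 (fun e => by rw [e, qm_zero] at hq; exact zero_ne_one hq)
      rw [if_neg (by rw [hq]; exact one_ne_zero)] at e
      exact ⟨(⟨c, hc⟩ : St)⁻¹, inv_smul_eq_iff.2 (Subtype.ext e.symm)⟩
  have h := card_stab pC _ ho
  rw [P6_cards.2.1, card_St] at h
  omega

theorem pA_sum : InP (e2 + e1) ∧ InP (w0 + n0) := by simp only [InP]; decide +kernel

/-- the partner moved by the representative -/
def pA'' : P6 := ⟨e2 + e1, pA_sum.1⟩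
/-- the partner moved by the representative -/
def pC'' : P6 := ⟨w0 + n0, pA_sum.2⟩

theorem swapA : ∃ c : St, c • pA = pA ∧ c • pA' = pA'' := by
  obtain ⟨d, hd, d1, d2, d3, -⟩ := swap_spec
  refine ⟨⟨d * Sg * d⁻¹, mul_mem (mul_mem hd Sg_fix.1) (inv_mem hd)⟩, Subtype.ext ?_, Subtype.ext ?_⟩
  · show nz ((d * Sg * d⁻¹) • e1) = e1
    rw [mul_smul, mul_smul, inv_smul_eq_iff.2 d1.symm, Sg_fix.2.1, d1, nz_of_inP inP_facts.2.1]
  · show nz ((d * Sg * d⁻¹) • e2) = e2 + e1
    rw [mul_smul, mul_smul, inv_smul_eq_iff.2 d3.symm, Sg_act, show pol f2 e2 = 1 by decide +kernel,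
      show pol f2 e1 = 0 by decide +kernel, one_smul, zero_smul, add_zero, smul_add', d3, d1, nz_of_inP pA_sum.1]

theorem stab_mul {M : Type*} [Group M] [Finite M] {α : Type*} [MulAction M α] [Fintype α] (a : α) :
    ∃ s : Finset α, MulAction.orbit M a = ↑s ∧ s.card * Nat.card (MulAction.stabilizer M a) = Nat.card M := by
  classical
  exact ⟨(MulAction.orbit M a).toFinset, by simp, card_stab a _ (by simp)⟩

/-- elements of the stabiliser of the first parameter preserving the pair of partners -/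
def HA : Subgroup (MulAction.stabilizer St pA) where
  carrier := {c | c • pA' = pA' ∧ c • pA'' = pA'' ∨ c • pA' = pA'' ∧ c • pA'' = pA'}
  one_mem' := Or.inl ⟨one_smul _ _, one_smul _ _⟩
  mul_mem' := fun {a b} ha hb => by
    rcases ha with ⟨a1, a2⟩ | ⟨a1, a2⟩ <;> rcases hb with ⟨b1, b2⟩ | ⟨b1, b2⟩
    exacts [Or.inl ⟨by rw [mul_smul, b1, a1], by rw [mul_smul, b2, a2]⟩,
      Or.inr ⟨by rw [mul_smul, b1, a2], by rw [mul_smul, b2, a1]⟩,
      Or.inr ⟨by rw [mul_smul, b1, a1], by rw [mul_smul, b2, a2]⟩,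
      Or.inl ⟨by rw [mul_smul, b1, a2], by rw [mul_smul, b2, a1]⟩]
  inv_mem' := fun {a} ha => by
    rcases ha with ⟨a1, a2⟩ | ⟨a1, a2⟩
    exacts [Or.inl ⟨inv_smul_eq_iff.2 a1.symm, inv_smul_eq_iff.2 a2.symm⟩,
      Or.inr ⟨inv_smul_eq_iff.2 a2.symm, inv_smul_eq_iff.2 a1.symm⟩]

/-- elements of the stabiliser of the second parameter preserving the pair of partners -/
def HC : Subgroup (MulAction.stabilizer St pC) where
  carrier := {c | c • pC' = pC' ∧ c • pC'' = pC'' ∨ c • pC' = pC'' ∧ c • pC'' = pC'}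
  one_mem' := Or.inl ⟨one_smul _ _, one_smul _ _⟩
  mul_mem' := fun {a b} ha hb => by
    rcases ha with ⟨a1, a2⟩ | ⟨a1, a2⟩ <;> rcases hb with ⟨b1, b2⟩ | ⟨b1, b2⟩
    exacts [Or.inl ⟨by rw [mul_smul, b1, a1], by rw [mul_smul, b2, a2]⟩,
      Or.inr ⟨by rw [mul_smul, b1, a2], by rw [mul_smul, b2, a1]⟩,
      Or.inr ⟨by rw [mul_smul, b1, a1], by rw [mul_smul, b2, a2]⟩,
      Or.inl ⟨by rw [mul_smul, b1, a2], by rw [mul_smul, b2, a1]⟩]
  inv_mem' := fun {a} ha => by
    rcases ha with ⟨a1, a2⟩ | ⟨a1, a2⟩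
    exacts [Or.inl ⟨inv_smul_eq_iff.2 a1.symm, inv_smul_eq_iff.2 a2.symm⟩,
      Or.inr ⟨inv_smul_eq_iff.2 a2.symm, inv_smul_eq_iff.2 a1.symm⟩]

theorem add_flip {c : Ga} (hc : c ∈ St) {a b : V} (ha : InP a) (hca : nz (c • a) = a) {d : V}
    (hcb : nz (c • b) = d) : nz (c • (b + a)) = d + a := by
  rw [smul_add', nz_add, hca, hcb]

set_option maxHeartbeats 800000 in
theorem card_HA : 4096 ∣ Nat.card HA := by
  classical
  obtain ⟨cs, cs1, cs2⟩ := swapA
  let K := MulAction.stabilizer St pA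
  have ho : MulAction.orbit K pA' = ↑(Finset.univ.filter fun a : P6 =>
      qm a.1 = 0 ∧ pol a.1 e1 = 0 ∧ a.1 ≠ 0 ∧ a.1 ≠ e1) := by
    ext a
    simp only [Finset.coe_filter, Finset.mem_univ, true_and, Set.mem_ofPred_eq]
    constructor
    · rintro ⟨c, rfl⟩
      have hfix : ((c : K) : St) • pA = pA := c.2
      obtain ⟨h1, h2⟩ := P6_form ((c : K) : St) pA' pA
      rw [hfix] at h2
      refine ⟨h1.trans val_facts.2.1, h2.trans (by decide +kernel), fun e => ?_, fun e => ?_⟩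
      · have hr := (P6_form ((c : K) : St) pA' ⟨f2, inP_facts.2.2.2.2.2.1⟩).2
        change (((c : K) : St) • pA').1 = 0 at e
        rw [e, pol_zero_left] at hr
        exact (show pol e2 f2 ≠ 0 by decide +kernel) hr.symm
      · have e' : ((c : K) : St) • pA' = ((c : K) : St) • pA := (Subtype.ext e).trans hfix.symm
        exact (show e2 ≠ e1 by decide +kernel) (congrArg Subtype.val (MulAction.injective _ e'))
    · rintro ⟨hq, hp, h0, h1⟩
      obtain ⟨g, hg, g1, g2⟩ := u2_move hq (inP_perp a.2).1 (by rw [pol_comm']; exact hp)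
        ⟨h0, fun e => one_ne_zero (basic.2.2.2.1.symm.trans ((congrFun e.symm (.inl 0)).trans a.2.1)), h1,
          fun e => by
            have := congrFun e (.inl 0)
            rw [a.2.1, Pi.add_apply, basic.2.2.2.1, inP_facts.2.1.1, add_zero] at this
            exact zero_ne_one this⟩
      have gK : (⟨g, hg⟩ : St) ∈ K := Subtype.ext g1
      rcases g2 with e | e
      · exact ⟨(⟨_, gK⟩ : K)⁻¹, inv_smul_eq_iff.2 (Subtype.ext e.symm)⟩
      · refine ⟨(⟨_, gK⟩ : K)⁻¹ * ⟨cs, cs1⟩, ?_⟩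
        show (_ * _ : K) • pA' = a
        rw [mul_smul, inv_smul_eq_iff]
        exact cs2.trans (Subtype.ext e.symm)
  have h := card_stab (M := K) pA' _ ho
  rw [P6_cards.2.2.1, show Nat.card K = 36864 from card_stabA] at h
  have hst : Nat.card (MulAction.stabilizer K pA') = 2048 := by omega
  have hinv : ∀ c : K, c • pA' = pA' → c ∈ HA := fun c hc => by
    refine Or.inl ⟨hc, Subtype.ext ?_⟩
    exact add_flip (c := ((c : St) : Ga)) (c : St).2 inP_facts.2.1 (congrArg Subtype.val c.2)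
      (congrArg Subtype.val hc)
  have hswap : (⟨cs, cs1⟩ : K) ∈ HA := by
    refine Or.inr ⟨cs2, Subtype.ext ?_⟩
    have e := add_flip (c := (cs : Ga)) cs.2 inP_facts.2.1 (congrArg Subtype.val cs1) (congrArg Subtype.val cs2)
    exact e.trans (show e2 + e1 + e1 = e2 by rw [add_assoc, ZModModule.add_self, add_zero])
  obtain ⟨s, hs, hsc⟩ := stab_mul (M := HA) pA'
  have h2 : s.card = 2 := by
    have : s = {pA', pA''} := by
      rw [← Finset.coe_inj, ← hs]
      ext a
      simp only [Finset.coe_insert, Finset.coe_singleton, Set.mem_insert_iff, Set.mem_singleton_iff]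
      constructor
      · rintro ⟨⟨c, hc⟩, rfl⟩
        rcases hc with ⟨e, -⟩ | ⟨e, -⟩
        exacts [Or.inl e, Or.inr e]
      · rintro (rfl | rfl)
        exacts [MulAction.mem_orbit_self _, ⟨⟨_, hswap⟩, cs2⟩]
    rw [this, Finset.card_pair (fun e => (show e2 ≠ e2 + e1 by decide +kernel) (congrArg Subtype.val e))]
  have h3 : Nat.card (MulAction.stabilizer K pA') = Nat.card (MulAction.stabilizer HA pA') :=
    Nat.card_congr
      { toFun := fun c => ⟨⟨c.1, hinv c.1 c.2⟩, c.2⟩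
        invFun := fun c => ⟨c.1.1, c.2⟩
        left_inv := fun _ => rfl
        right_inv := fun _ => rfl }
  rw [h2, ← h3, hst] at hsc
  exact ⟨1, by omega⟩

set_option maxHeartbeats 800000 in
theorem card_HC : Nat.card HC ∣ 7680 := by
  classical
  let K := MulAction.stabilizer St pC
  have ho : MulAction.orbit K pC' = ↑(Finset.univ.filter fun a : P6 => qm a.1 = 1 ∧ pol a.1 n0 = 1) := by
    ext a
    simp only [Finset.coe_filter, Finset.mem_univ, true_and, Set.mem_ofPred_eq]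
    constructor
    · rintro ⟨c, rfl⟩
      have hfix : ((c : K) : St) • pC = pC := c.2
      obtain ⟨h1, h2⟩ := P6_form ((c : K) : St) pC' pC
      rw [hfix] at h2
      exact ⟨h1.trans val_facts.2.2.2.2.2.2.2.1, h2.trans (by decide +kernel)⟩
    · rintro ⟨hq, hp⟩
      obtain ⟨g, hg, g1, g2⟩ := v0_move (inP_perp a.2).1 hq hp
      exact ⟨(⟨⟨g, hg⟩, Subtype.ext g1⟩ : K)⁻¹, inv_smul_eq_iff.2 (Subtype.ext g2.symm)⟩
  have h := card_stab (M := K) pC' _ ho
  rw [P6_cards.2.2.2, show Nat.card K = 46080 from card_stabC] at h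
  have hst : Nat.card (MulAction.stabilizer K pC') = 3840 := by omega
  obtain ⟨s, hs, hsc⟩ := stab_mul (M := HC) pC'
  have h2 : s.card ≤ 2 := by
    refine (Finset.card_le_card (t := {pC', pC''}) fun a ha => ?_).trans Finset.card_le_two
    have : a ∈ MulAction.orbit HC pC' := by rw [hs]; exact ha
    obtain ⟨⟨c, hc⟩, rfl⟩ := this
    rcases hc with ⟨e, -⟩ | ⟨e, -⟩
    · exact Finset.mem_insert.2 (Or.inl e)
    · exact Finset.mem_insert.2 (Or.inr (Finset.mem_singleton.2 e))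
  have h3 : Nat.card (MulAction.stabilizer HC pC') ∣ 3840 := by
    rw [← hst]
    exact Subgroup.card_dvd_of_injective
      (MonoidHom.codRestrict (HC.subtype.comp (MulAction.stabilizer HC pC').subtype) (MulAction.stabilizer K pC')
        fun c => c.2) (MonoidHom.injective_codRestrict _ _ _ |>.2
          ((Subgroup.subtype_injective _).comp (Subgroup.subtype_injective _)))
  have hpos : 0 < Nat.card HC := Nat.card_pos
  rw [← hsc]
  refine dvd_trans (Nat.mul_dvd_mul (show s.card ∣ 2 from ?_) h3) (by norm_num)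
  have h0 : s.card ≠ 0 := fun e => by rw [e, zero_mul] at hsc; omega
  interval_cases s.card <;> first | omega | norm_num

theorem basis_ext {g g' : Ga} (h0 : g • e0 = g' • e0) (h1 : g • e1 = g' • e1) (h2 : g • e2 = g' • e2)
    (h3 : g • e3 = g' • e3) (k0 : g • f0 = g' • f0) (k1 : g • f1 = g' • f1) (k2 : g • f2 = g' • f2)
    (k3 : g • f3 = g' • f3) : g = g' := by
  refine cols_inj (List.map_congr_left fun k hk => congrArg enc ?_)
  have hk := List.mem_range.1 hk
  interval_cases k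
  exacts [h0, h1, h2, h3, k0, k1, k2, k3]

set_option synthInstance.maxSize 4000 in
theorem five_A : ∀ u : V, qm u = 0 → pol u e3 = 0 → pol u f3 = 0 →
    (pol u e0 = 1 → pol u e1 = 0 → pol u e2 = 0 → u = f0 + pol u f1 • e1 + pol u f2 • e2) ∧
      (pol u e0 = 0 → pol u e1 = 1 → pol u e2 = 0 → u = f1 + pol u f0 • e0 + pol u f2 • e2) ∧
      (pol u e0 = 0 → pol u e1 = 0 → pol u e2 = 1 → u = f2 + pol u f0 • e0 + pol u f1 • e1) := by
  decide +kernel

theorem basis_extO {g g' : OG} (h0 : g • e0 = g' • e0) (h1 : g • e1 = g' • e1) (h2 : g • e2 = g' • e2)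
    (h3 : g • e3 = g' • e3) (k0 : g • f0 = g' • f0) (k1 : g • f1 = g' • f1) (k2 : g • f2 = g' • f2)
    (k3 : g • f3 = g' • f3) : g = g' := by
  have e : cols g = cols g' := List.map_congr_left fun k hk => congrArg enc (by
    have hk := List.mem_range.1 hk
    interval_cases k
    exacts [h0, h1, h2, h3, k0, k1, k2, k3])
  exact (isCols_cols g).ext (e.symm ▸ isCols_cols g')

theorem rn_vals :
    pol n0 e1 = 0 ∧ pol n0 e2 = 0 ∧ pol n0 f0 = 0 ∧ pol n0 f1 = 0 ∧ pol n0 f2 = 0 ∧ pol n0 e3 = 1 ∧ pol n0 f3 = 1 ∧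
      pol n0 e0 = 0 := by decide +kernel

theorem five_A_pol : ∀ i j k l : ZMod 2,
    pol (f0 + i • e1 + j • e2) (f1 + k • e0 + l • e2) = i + k ∧
      pol (f0 + i • e1 + j • e2) (f2 + k • e0 + l • e1) = j + k ∧
      pol (f1 + i • e0 + j • e2) (f2 + k • e0 + l • e1) = j + l := by
  decide +kernel

/-- fixing the five vectors of the first representative -/
def FixA (g : Ga) : Prop := g • e0 = e0 ∧ g • e1 = e1 ∧ g • e2 = e2 ∧ g • e3 = e3 ∧ g • f3 = f3

theorem card_FixA : Nat.card {g : Ga // FixA g} ≤ 8 := by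
  have hform : ∀ g : Ga, FixA g → ∃ i j k : ZMod 2, pol (g • f0) f1 = i ∧ pol (g • f0) f2 = j ∧ pol (g • f1) f2 = k ∧
      g • f0 = f0 + i • e1 + j • e2 ∧ g • f1 = f1 + i • e0 + k • e2 ∧ g • f2 = f2 + j • e0 + k • e1 := by
    intro g hg
    obtain ⟨g0, g1, g2, g3, g3'⟩ := hg
    have hp : ∀ u w : V, g • w = w → pol (g • u) w = pol u w := fun u w e => by conv_lhs => rw [← e, smul_pol]
    have A := (five_A (g • f0) (by rw [smul_qm]; exact basic.2.1) ((hp _ _ g3).trans (by decide +kernel))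
      ((hp _ _ g3').trans (by decide +kernel))).1 ((hp _ _ g0).trans (by decide +kernel))
      ((hp _ _ g1).trans (by decide +kernel)) ((hp _ _ g2).trans (by decide +kernel))
    have Bq := (five_A (g • f1) (by rw [smul_qm]; exact val_facts.2.2.2.1) ((hp _ _ g3).trans (by decide +kernel))
      ((hp _ _ g3').trans (by decide +kernel))).2.1 ((hp _ _ g0).trans (by decide +kernel))
      ((hp _ _ g1).trans (by decide +kernel)) ((hp _ _ g2).trans (by decide +kernel))
    have Cq := (five_A (g • f2) (by rw [smul_qm]; exact val_facts.2.2.2.2.1) ((hp _ _ g3).trans (by decide +kernel))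
      ((hp _ _ g3').trans (by decide +kernel))).2.2 ((hp _ _ g0).trans (by decide +kernel))
      ((hp _ _ g1).trans (by decide +kernel)) ((hp _ _ g2).trans (by decide +kernel))
    have eAB : pol (g • f0) (g • f1) = 0 := by rw [smul_pol]; decide +kernel
    have eAC : pol (g • f0) (g • f2) = 0 := by rw [smul_pol]; decide +kernel
    have eBC : pol (g • f1) (g • f2) = 0 := by rw [smul_pol]; decide +kernel
    generalize pol (g • f0) f1 = i at A ⊢
    generalize pol (g • f0) f2 = j at A ⊢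
    generalize pol (g • f1) f0 = i' at Bq
    generalize pol (g • f1) f2 = k at Bq ⊢
    generalize pol (g • f2) f0 = j' at Cq
    generalize pol (g • f2) f1 = k' at Cq
    rw [A, Bq, (five_A_pol i j i' k).1] at eAB
    rw [A, Cq, (five_A_pol i j j' k').2.1] at eAC
    rw [Bq, Cq, (five_A_pol i' k j' k').2.2] at eBC
    have hz : ∀ a b : ZMod 2, a + b = 0 → b = a := by decide
    rw [hz _ _ eAB] at Bq
    rw [hz _ _ eAC, hz _ _ eBC] at Cq
    exact ⟨i, j, k, rfl, rfl, rfl, A, Bq, Cq⟩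
  refine (Nat.card_le_card_of_injective (fun g : {g : Ga // FixA g} =>
    (pol (g.1 • f0) f1, pol (g.1 • f0) f2, pol (g.1 • f1) f2)) fun g g' e => ?_).trans (le_of_eq ?_)
  · obtain ⟨i, j, k, ei, ej, ek, A, Bq, Cq⟩ := hform _ g.2
    obtain ⟨i', j', k', ei', ej', ek', A', Bq', Cq'⟩ := hform _ g'.2
    simp only [Prod.mk.injEq, ei, ej, ek, ei', ej', ek'] at e
    obtain ⟨rfl, rfl, rfl⟩ := e
    exact Subtype.ext (basis_ext (g.2.1.trans g'.2.1.symm) (g.2.2.1.trans g'.2.2.1.symm)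
      (g.2.2.2.1.trans g'.2.2.2.1.symm) (g.2.2.2.2.1.trans g'.2.2.2.2.1.symm) (A.trans A'.symm) (Bq.trans Bq'.symm)
      (Cq.trans Cq'.symm) (g.2.2.2.2.2.trans g'.2.2.2.2.2.symm))
  · simp [Nat.card_prod]

set_option synthInstance.maxSize 4000 in
theorem five_C : ∀ u : V, pol u e1 = 0 → pol u f1 = 0 →
    (pol u e0 = 0 → pol u (e2 + f2) = 0 → pol u (e2 + n0) = 0 → pol u n0 = 1 →
      u = w0 + u (.inl 0) • e0 + u (.inr 3) • n0) ∧
      (qm u = 0 → pol u e0 = 1 → pol u (e2 + f2) = 0 → pol u (e2 + n0) = 0 → pol u n0 = 0 → pol u w0 = 0 →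
        u = f0) := by
  decide +kernel

theorem five_C_vals :
    pol w0 e0 = 0 ∧ pol w0 e1 = 0 ∧ pol w0 f1 = 0 ∧ pol w0 (e2 + f2) = 0 ∧ pol w0 (e2 + n0) = 0 ∧
      pol f0 e1 = 0 ∧ pol f0 f1 = 0 ∧ pol f0 (e2 + f2) = 0 ∧ pol f0 (e2 + n0) = 0 ∧ pol f0 n0 = 0 ∧
      pol f0 w0 = 0 ∧ pol n0 w0 = 1 ∧ pol e1 w0 = 0 ∧ pol f1 n0 = 0 ∧ pol f1 w0 = 0 ∧ pol (e2 + f2) n0 = 0 ∧
      pol (e2 + f2) w0 = 0 ∧ pol (e2 + n0) n0 = 0 ∧ pol (e2 + n0) w0 = 0 ∧ pol f0 e0 = 1 ∧ pol e0 f1 = 0 ∧
      pol e0 (e2 + f2) = 0 ∧ pol e0 (e2 + n0) = 0 := by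
  decide +kernel

theorem five_C_basis : e2 = (e2 + n0) + n0 ∧ f2 = (e2 + f2) + ((e2 + n0) + n0) ∧ e3 = w0 + (e2 + f2) ∧
    f3 = n0 + (w0 + (e2 + f2)) := by decide +kernel

/-- fixing the five vectors of the second representative -/
def FixC (g : Ga) : Prop :=
  g • e0 = e0 ∧ g • e1 = e1 ∧ g • f1 = f1 ∧ g • (e2 + f2) = e2 + f2 ∧ g • (e2 + n0) = e2 + n0

set_option maxHeartbeats 1000000 in
theorem fixC_rad {g : Ga} (hg : FixC g) (hc : Commute g sC) :
    g = R 0 ∨ g = R n0 ∨ g = R w0 ∨ g = R (w0 + n0) := by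
  obtain ⟨g0, g1, h1, g22, g2n⟩ := hg
  obtain ⟨a1, a2, a3, a4, a5, b1, b2, b3, b4, b5, b6, pnw, e1w, f1n, f1w, ufn, ufw, unn, unw, b0', e0f, e0u, e0n⟩ :=
    five_C_vals
  have Pn : InP n0 := inP_facts.2.2.2.2.2.2.2.1
  have Pw : InP w0 := inP_facts.2.2.2.2.2.2.2.2
  obtain ⟨-, -, -, -, -, -, qn, qw, p01, -, -, -, -, p0n, p0w, pwn, p1n, -⟩ := val_facts
  have hn : nz (g • n0) = n0 := by
    have e := R_conj (show g ∈ St from g0) Pn
    rw [show g * R n0 * g⁻¹ = R n0 from mul_inv_eq_iff_eq_mul.2 hc] at e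
    have := congrArg (fun r : Ga => param (r : OG)) e
    simp only [(R_spec Pn).2.1, (R_spec (St_nz_inP (show g ∈ St from g0) Pn)).2.1] at this
    exact this.symm
  obtain ⟨α, hα⟩ : ∃ α : ZMod 2, g • n0 = n0 + α • e0 := ⟨(g • n0) (.inl 0), by
    have e := congrArg (fun u => u + (g • n0) (.inl 0) • e0) hn
    simp only [nz, add_assoc, ZModModule.add_self, add_zero] at e
    exact e⟩
  have hp : ∀ u w : V, g • w = w → pol (g • u) w = pol u w := fun u w e => by conv_lhs => rw [← e, smul_pol]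
  obtain ⟨β, γ, hw⟩ : ∃ β γ : ZMod 2, g • w0 = w0 + β • e0 + γ • n0 := by
    refine ⟨_, _, (five_C (g • w0) ((hp _ _ g1).trans a2) ((hp _ _ h1).trans a3)).1 ((hp _ _ g0).trans a1)
      ((hp _ _ g22).trans a4) ((hp _ _ g2n).trans a5) ?_⟩
    have e := smul_pol g w0 n0
    rw [hα, pol_add_right, pol_smul_right, hp _ _ g0, a1, mul_zero, add_zero, pwn] at e
    exact e
  set c := α • w0 + (β + γ * α) • n0 with hcd
  have Pc : InP c := by
    constructor <;>
      rw [hcd, Pi.add_apply, Pi.smul_apply, Pi.smul_apply] <;> simp [Pn.1, Pn.2, Pw.1, Pw.2]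
  have hRfix : ∀ u, pol e0 u = 0 → pol u w0 = 0 → pol u n0 = 0 → g • u = u → (R c * g) • u = u := by
    intro u hu h1' h2' e
    rw [mul_smul, e, R_act Pc hu, hcd, pol_add_right, pol_smul_right, pol_smul_right, h1', h2']; simp
  have f0' := hRfix e0 (pol_self _) p0w p0n g0
  have f1' := hRfix e1 p01 e1w p1n g1
  have f2' := hRfix f1 e0f f1w f1n h1
  have f3' := hRfix _ e0u ufw ufn g22
  have f4' := hRfix _ e0n unw unn g2n
  have pnc : pol n0 c = α := by
    rw [hcd, pol_add_right, pol_smul_right, pol_smul_right, pnw, pol_self]; simp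
  have pwc : pol w0 c = β + γ * α := by
    rw [hcd, pol_add_right, pol_smul_right, pol_smul_right, pol_self, pwn]; simp
  have f5' : (R c * g) • n0 = n0 := by
    rw [mul_smul, hα, smul_add', smul_smul', R_act Pc p0n, R_e0 Pc, pnc, add_assoc, ZModModule.add_self, add_zero]
  have f6' : (R c * g) • w0 = w0 + γ • n0 := by
    rw [mul_smul, hw, smul_add', smul_add', smul_smul', smul_smul', R_act Pc p0w, R_act Pc p0n, R_e0 Pc, pnc, pwc,
      smul_add, smul_smul,
      show w0 + (β + γ * α) • e0 + β • e0 + (γ • n0 + (γ * α) • e0) =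
        w0 + γ • n0 + ((β + γ * α) • e0 + β • e0 + (γ * α) • e0) by abel, ← add_smul, ← add_smul,
      show β + γ * α + β + γ * α = 0 by linear_combination (β + γ * α) * (CharTwo.two_eq_zero : (2 : ZMod 2) = 0),
      zero_smul, add_zero]
  have f7' : (R c * g) • f0 = f0 := by
    set g' := R c * g
    have hq : ∀ u w : V, g' • w = w → pol (g' • u) w = pol u w := fun u w e => by conv_lhs => rw [← e, smul_pol]
    have hw' : pol (g' • f0) w0 = 0 := by
      have e := smul_pol g' f0 w0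
      rwa [f6', pol_add_right, pol_smul_right, hq _ _ f5', b5, mul_zero, add_zero, b6] at e
    exact (five_C _ ((hq _ _ f1').trans b1) ((hq _ _ f2').trans b2)).2 (by rw [smul_qm]; exact basic.2.1)
      ((hq _ _ f0').trans b0') ((hq _ _ f3').trans b3) ((hq _ _ f4').trans b4) ((hq _ _ f5').trans b5) hw'
  obtain ⟨hb2, hbf, hb3, hb3'⟩ := five_C_basis
  rcases (show ∀ b : ZMod 2, b = 0 ∨ b = 1 by decide) γ with rfl | rfl
  · have hone : R c * g = 1 := by
      rw [zero_smul, add_zero] at f6'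
      refine basis_ext ?_ ?_ ?_ ?_ ?_ ?_ ?_ ?_ <;> rw [one_smul]
      · exact f0'
      · exact f1'
      · rw [hb2, smul_add' _ (e2 + n0) n0, f4', f5']
      · rw [hb3, smul_add' _ w0 (e2 + f2), f6', f3']
      · exact f7'
      · exact f2'
      · rw [hbf, smul_add' _ (e2 + f2) (e2 + n0 + n0), smul_add' _ (e2 + n0) n0, f3', f4', f5']
      · rw [hb3', smul_add' _ n0 (w0 + (e2 + f2)), smul_add' _ w0 (e2 + f2), f5', f6', f3']
    have hg : g = R c := by rw [← inv_eq_of_mul_eq_one_right hone, inv_eq_of_mul_eq_one_right (R_sq Pc)]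
    rw [zero_mul, add_zero] at hcd
    rw [hg, hcd]
    rcases (show ∀ b : ZMod 2, b = 0 ∨ b = 1 by decide) α with rfl | rfl <;>
      rcases (show ∀ b : ZMod 2, b = 0 ∨ b = 1 by decide) β with rfl | rfl <;>
      simp only [zero_smul, one_smul, add_zero, zero_add, true_or, or_true]
  · exfalso
    rw [one_smul] at f6'
    refine rf_not_mem qn ?_
    set g' := R c * g
    have h2 : g' • e2 = e2 := by rw [hb2, smul_add' _ (e2 + n0) n0, f4', f5']
    have hf2 : g' • f2 = f2 := by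
      rw [hbf, smul_add' _ (e2 + f2) (e2 + n0 + n0), smul_add' _ (e2 + n0) n0, f3', f4', f5']
    have h3 : g' • e3 = e3 + n0 := by
      rw [hb3, smul_add' _ w0 (e2 + f2), f6', f3', add_right_comm]
    have hf3 : g' • f3 = f3 + n0 := by
      rw [hb3', smul_add' _ n0 (w0 + (e2 + f2)), smul_add' _ w0 (e2 + f2), f5', f6', f3']; abel
    obtain ⟨r1, r2, r0, s1, s2, r3, s3, re0⟩ := rn_vals
    have e : (OOmega.rf QF n0 : OG) = ((g' : Ga) : OG) := by
      refine basis_extO ?_ ?_ ?_ ?_ ?_ ?_ ?_ ?_ <;> rw [rf_act qn, coe_smul]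
      · rw [re0, f0', zero_smul, add_zero]
      · rw [r1, f1', zero_smul, add_zero]
      · rw [r2, h2, zero_smul, add_zero]
      · rw [r3, h3, one_smul]
      · rw [r0, f7', zero_smul, add_zero]
      · rw [s1, f2', zero_smul, add_zero]
      · rw [s2, hf2, zero_smul, add_zero]
      · rw [s3, hf3, one_smul]
    rw [e]; exact g'.2

end Cfsg.Agent.Spor.CoT
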