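import Cfsg.Agent.Lib.Spor.CoTypeClass
import Cfsg.Agent.Lib.Spor.CoTypeStab

/-!
Groups of Conway type: the three representatives lie in different classes.
-/

set_option autoImplicit false
set_option maxRecDepth 100000
set_option linter.unusedSectionVars false

namespace Cfsg.Agent.Spor.CoT

open Cfsg.Agent.Classical

theorem R_fix {a : V} (ha : InP a) (h0 : a ≠ 0) {v : V} (e : R a • v = v) : pol e0 v = 0 ∧ pol v a = 0 := by
  have hw := split_f0 v
  have hv : v = v + v (.inr 0) • f0 + v (.inr 0) • f0 := by rw [add_assoc, ZModModule.add_self, add_zero]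
  rcases (show ∀ b : ZMod 2, b = 0 ∨ b = 1 by decide) (v (.inr 0)) with hc | hc
  · rw [hc, zero_smul, add_zero] at hw
    refine ⟨hw, smul_e0_inj ?_⟩
    rw [zero_smul]
    rwa [R_act ha hw, add_eq_left] at e
  · exfalso
    rw [hc, one_smul] at hw hv
    set w := v + f0
    rw [hv, smul_add', R_act ha hw, R_f0 ha] at e
    have e' : a + (pol w a + qm a) • e0 = 0 := by
      have := congrArg (fun u => u + (w + f0)) e
      rwa [ZModModule.add_self, show w + pol w a • e0 + (f0 + a + qm a • e0) + (w + f0) =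
        a + (pol w a • e0 + qm a • e0) + ((w + w) + (f0 + f0)) by abel, ZModModule.add_self, ZModModule.add_self,
        add_zero, add_zero, ← add_smul] at this
    have := congrArg nz e'
    rw [nz_add, nz_of_inP ha, nz_of_inP inP_facts.1] at this
    rcases (show ∀ b : ZMod 2, b = 0 ∨ b = 1 by decide) (pol w a + qm a) with h | h <;> rw [h] at this
    · rw [zero_smul, nz_of_inP inP_facts.1, add_zero] at this; exact h0 this
    · rw [one_smul, nz_e0, add_zero] at this; exact h0 this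

theorem five_C_zero : ∀ v : V, pol e0 v = 0 → pol v e1 = 0 → pol v f1 = 0 → pol v (e2 + f2) = 0 →
    pol v (e2 + n0) = 0 → pol v n0 = 0 → pol v w0 = 0 → v = 0 ∨ v = e0 := by decide +kernel

theorem five_facts :
    (∀ u ∈ [e0, e1, e2, e3, f3], pol e0 u = 0 ∧ pol u e1 = 0 ∧ pol u e2 = 0) ∧
      (∀ u ∈ [e0, e1, f1, e2 + f2, e2 + n0], pol e0 u = 0 ∧ pol u n0 = 0 ∧ pol u w0 = 0) ∧
      (∀ u ∈ [e1, f1, e2 + f2, e2 + n0], InP u ∧ pol u n0 = 0 ∧ pol u w0 = 0) ∧
      pol e0 f2 = 0 ∧ pol f2 e1 = 0 ∧ pol f2 e2 = 1 ∧ pol f2 n0 = 0 ∧ pol f2 w0 = 1 := by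
  simp only [List.mem_cons, List.not_mem_nil, or_false, forall_eq_or_imp, forall_eq, InP]
  decide +kernel

universe u

variable {G : Type u} [Group G] [Finite G] {z : G} {Q : Subgroup G} (F : Frame z Q)
include F

/-- vectors fixed by the image only come from commuting elements -/
def Lam0 (F : Frame z Q) (t : Subgroup.centralizer ({z} : Set G)) : Prop :=
  ∀ q ∈ Q, F.π t • F.vec q = F.vec q → Commute q (t : G)

theorem lam_conj (h : Hyp z Q) {t : Subgroup.centralizer ({z} : Set G)}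
    (k : Subgroup.centralizer ({z} : Set G)) (hl : Lam0 F t) : Lam0 F (k * t * k⁻¹) := by
  intro q hq hfix
  have hq' : (k : G)⁻¹ * q * (k : G)⁻¹⁻¹ ∈ Q := h.norm _ (mem_C.1 k⁻¹.2) q hq
  have hv : F.vec ((k : G)⁻¹ * q * (k : G)⁻¹⁻¹) = (F.π k)⁻¹ • F.vec q := by
    rw [← map_inv]; exact F.vec_conj k⁻¹ q hq
  have := hl _ hq' (by
    rw [hv]
    conv_rhs => rw [← hfix]
    simp only [map_mul, map_inv, mul_smul, inv_smul_smul])
  have h2 := (Commute.conj_iff (k : G)).2 this
  rwa [show (k : G) * ((k : G)⁻¹ * q * (k : G)⁻¹⁻¹) * (k : G)⁻¹ = q by group] at h2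

variable {x : G} {c0 b0 : G}

theorem lam_mem (h : Hyp z Q) (B : Base F x) {m : Subgroup.centralizer ({z} : Set G)} (hm : InQ z Q x m)
    (hπ : F.π m ≠ 1) : Lam0 F m := by
  intro q hq hfix
  have hM := Mem.of_inQ F h B hm
  have ha0 : param (F.π m : OG) ≠ 0 := fun e => hπ (by rw [hM.2.2, e, R_zero])
  rw [hM.2.2] at hfix
  obtain ⟨h0, hp⟩ := R_fix hM.1 ha0 hfix
  have := pairing F h B hM hq h0
  rwa [hp, Iel_00 F, one_mul] at this

theorem not_lam (h : Hyp z Q) (B : Base F x) {t : Subgroup.centralizer ({z} : Set G)} {a v u : V}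
    (hf : Form F x (t : G) a v) (u0 : pol e0 u = 0) (ua : pol u a = 0) (uv : pol u v = 1) : ¬ Lam0 F t := by
  intro hl
  obtain ⟨l, hl', rfl⟩ := F.vec_surj u
  have hπ : F.π t = R a := hf.π F h B
  have hfix : F.π t • F.vec l = F.vec l := by
    rw [hπ, R_act (hf.inP F).1 u0, ua, zero_smul, add_zero]
  have e := hf.conj_Q F h B hl' u0
  rw [(hl l hl' hfix).eq, mul_inv_cancel_right, ua, uv, zero_add, Iel_01 F] at e
  exact z_ne h (mul_eq_right.1 e.symm)

theorem comm_of_form (h : Hyp z Q) (B : Base F x) {t : G} {a v : V} (hf : Form F x t a v) {q : G} (hq : q ∈ Q)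
    (q0 : pol e0 (F.vec q) = 0) (qa : pol (F.vec q) a = 0) (qv : pol (F.vec q) v = 0) : Commute q t := by
  have e := hf.conj_Q F h B hq q0
  rw [qa, qv, add_zero, Iel_00 F, one_mul] at e
  exact mul_inv_eq_iff_eq_mul.1 e

theorem no_I (h : Hyp z Q) (B : Base F x) {t : Subgroup.centralizer ({z} : Set G)} (htt : (t : G) * t = 1)
    (ht : F.π t ≠ 1) (hl : ¬ Lam0 F t) (hzt : IsConj z (t : G)) {i : G} (hi : i ∈ Q) (hit : InQ z Q t i) :
    i = 1 := by
  by_contra hi1
  have htQ : (t : G) ∉ Q := fun e => ht ((F.π_ker t).2 e)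
  have htz : (t : G) ≠ z := fun e => htQ (by rw [e]; exact zQ h)
  have hii : i * i = 1 := by
    rcases F.sq_or i hi with e | e
    · exact e
    rcases InQ.sq F hit with e' | e'
    · exact e'
    · exact absurd (e'.symm.trans e) htz
  have hiz : i ≠ z := fun e => htQ ((inQ_z h).1 (mem_symm F h hzt (e ▸ hit) (zz h) (z_ne h) (Ne.symm htz)).2)
  have hit' := (mem_symm F h hzt hit hii hi1 fun e => htQ (e ▸ hi)).2
  obtain ⟨c, hc⟩ := move_sing F h B.mem B.sq B.ne1 B.nez hi hii hi1 hiz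
  have hm : InQ z Q x ((c⁻¹ * t * c : Subgroup.centralizer ({z} : Set G)) : G) := by
    have := hit'.conj (c : G)⁻¹
    rwa [← hc, show (c : G)⁻¹ * ((c : G) * x * (c : G)⁻¹) * (c : G)⁻¹⁻¹ = x by group, inv_inv] at this
  have := lam_conj F h c (lam_mem F h B hm (fun e => ht (by
    rw [map_mul, map_mul, map_inv] at e
    rw [show F.π t = F.π c * ((F.π c)⁻¹ * F.π t * F.π c) * (F.π c)⁻¹ by group, e]; group)))
  rw [show c * (c⁻¹ * t * c) * c⁻¹ = t by group] at this
  exact hl this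

theorem card_centQ_invol (h : Hyp z Q) {y : Subgroup.centralizer ({z} : Set G)} (hyy : (y : G) * y = 1) :
    16 ≤ Nat.card ↥(Q ⊓ Subgroup.centralizer ({(y : G)} : Set G)) := by
  classical
  let φ : V →+ V := AddMonoidHom.mk' (fun v => F.π y • v + v) fun v w => by rw [smul_add']; abel
  have hss : F.π y * F.π y = 1 := by rw [← map_mul, show y * y = 1 from Subtype.ext hyy, map_one]
  have hrange : φ.range ≤ φ.ker := by
    rintro _ ⟨u, rfl⟩
    show F.π y • (F.π y • u + u) + (F.π y • u + u) = 0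
    rw [smul_add', ← mul_smul, hss, one_smul, add_comm u, ZModModule.add_self]
  have h256 : Nat.card V = 256 := by simp [Nat.card_eq_fintype_card]
  have h16 : 16 ≤ Nat.card φ.ker := by
    have h1 := φ.ker.card_eq_card_quotient_mul_card_addSubgroup
    rw [Nat.card_congr (QuotientAddGroup.quotientKerEquivRange φ).toEquiv, h256] at h1
    have h2 := AddSubgroup.card_le_of_le hrange
    by_contra hlt
    push Not at hlt
    have : Nat.card φ.range * Nat.card φ.ker ≤ 15 * 15 := Nat.mul_le_mul (by omega) (by omega)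
    omega
  have hsel : ∀ v : V, ∃ q ∈ Q, F.vec q = v := F.vec_surj
  choose s hs hsv using hsel
  have hconj : ∀ q ∈ Q, F.π y • F.vec q = F.vec q → ¬ Commute q (y : G) → (y : G) * q * (y : G)⁻¹ = q * z := by
    intro q hq hfix hn
    refine (vec_eq F (h.norm y (mem_C.1 y.2) q hq) hq h (by rw [F.vec_conj y q hq, hfix])).resolve_left fun e => ?_
    exact hn (mul_inv_eq_iff_eq_mul.1 e : (y : G) * q = q * y).symm
  have hfixker : ∀ v : φ.ker, F.π y • (v : V) = v := fun v => by
    have : F.π y • (v : V) + v = 0 := v.2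
    rw [eq_neg_of_add_eq_zero_left this, ZModModule.neg_eq_self]
  by_cases hall : ∀ q ∈ Q, F.π y • F.vec q = F.vec q → Commute q (y : G)
  · refine h16.trans (Nat.card_le_card_of_injective (fun v : φ.ker =>
      (⟨s v, hs v, Subgroup.mem_centralizer_singleton_iff.2 (hall _ (hs v) (by rw [hsv]; exact hfixker v))⟩ :
        ↥(Q ⊓ Subgroup.centralizer ({(y : G)} : Set G)))) fun a b e => ?_)
    have := congrArg (fun q : ↥(Q ⊓ Subgroup.centralizer ({(y : G)} : Set G)) => F.vec (q : G)) e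
    simp only [hsv] at this
    exact Subtype.ext this
  push Not at hall
  obtain ⟨q0, hq0, hfix0, hn0⟩ := hall
  have e0' := hconj q0 hq0 hfix0 hn0
  have hgood : ∀ q ∈ Q, F.π y • F.vec q = F.vec q → ¬ Commute q (y : G) → Commute (q * q0) (y : G) := by
    intro q hq hfix hn
    have e := hconj q hq hfix hn
    refine (mul_inv_eq_iff_eq_mul.1 (?_ : (y : G) * (q * q0) * (y : G)⁻¹ = q * q0)).symm
    rw [show (y : G) * (q * q0) * (y : G)⁻¹ = (y : G) * q * (y : G)⁻¹ * ((y : G) * q0 * (y : G)⁻¹) by group, e, e0',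
      mul_assoc q, ← mul_assoc z, ← (Qz h hq0).eq, mul_assoc q0, zz h, mul_one]
  let S := ↥(Q ⊓ Subgroup.centralizer ({(y : G)} : Set G))
  let w : φ.ker × Bool → G := fun p => s p.1 * (bif p.2 then z else 1)
  have hw : ∀ p, w p ∈ Q ∧ F.vec (w p) = p.1 := by
    rintro ⟨v, _ | _⟩ <;> simp only [w, cond_true, cond_false, mul_one]
    · exact ⟨hs v, hsv v⟩
    · exact ⟨mul_mem (hs v) (zQ h), (vec_mul_z F h (hs v)).trans (hsv v)⟩
  let f : φ.ker × Bool → S × Bool := fun p =>
    if hc : Commute (w p) (y : G) then (⟨w p, (hw p).1, Subgroup.mem_centralizer_singleton_iff.2 hc⟩, true)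
    else (⟨w p * q0, mul_mem (hw p).1 hq0, Subgroup.mem_centralizer_singleton_iff.2
      (hgood _ (hw p).1 (by rw [(hw p).2]; exact hfixker p.1) hc)⟩, false)
  have hf : Function.Injective f := by
    intro a b e
    have e1 := congrArg (fun p : S × Bool => (p.1 : G)) e
    have e2 := congrArg Prod.snd e
    simp only [f] at e1 e2
    have ew : w a = w b := by
      split_ifs at e1 e2 <;> first | exact e1 | exact mul_right_cancel e1
    have hv : a.1 = b.1 := Subtype.ext (by rw [← (hw a).2, ← (hw b).2, ew])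
    refine Prod.ext hv ?_
    simp only [w, hv] at ew
    have := mul_left_cancel ew
    revert this
    generalize a.2 = s1; generalize b.2 = s2
    rcases s1 with _ | _ <;> rcases s2 with _ | _ <;> intro this <;> simp only [cond_true, cond_false] at this ⊢
    · exact absurd this.symm (z_ne h)
    · exact absurd this (z_ne h)
  have hle := Nat.card_le_card_of_injective f hf
  rw [Nat.card_prod, Nat.card_prod, Nat.card_eq_fintype_card (α := Bool), Fintype.card_bool] at hle
  exact h16.trans (Nat.le_of_mul_le_mul_right hle (by norm_num))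

theorem not_conj_z (h : Hyp z Q) (B : Base F x) {t : Subgroup.centralizer ({z} : Set G)} (htt : (t : G) * t = 1)
    (ht : F.π t ≠ 1) (hl : ¬ Lam0 F t) {S : Type*} [Finite S] (hS : Nat.card S < 16) (f : Ga → S)
    (hf : ∀ g g' : Ga, Commute g (F.π t) → Commute g' (F.π t) →
      (∀ q ∈ Q, Commute q (t : G) → g • F.vec q = F.vec q) → (∀ q ∈ Q, Commute q (t : G) → g' • F.vec q = F.vec q) →
      f g = f g' → g = g') : ¬ IsConj z (t : G) := by
  intro hzt
  obtain ⟨g, hg⟩ := isConj_iff.1 hzt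
  set y := g⁻¹ * z * g with hy
  have hyz : Commute y z := by
    have := (Commute.conj_iff g⁻¹).2 (mem_C.1 t.2).symm
    rwa [← hg, show g⁻¹ * z * g⁻¹⁻¹ = y by rw [hy]; group,
      show g⁻¹ * (g * z * g⁻¹) * g⁻¹⁻¹ = z by group] at this
  have hyy : y * y = 1 := by rw [hy, show g⁻¹ * z * g * (g⁻¹ * z * g) = g⁻¹ * (z * z) * g by group, zz h]; group
  have hgy : g * y * g⁻¹ = z := by rw [hy]; group
  let D := ↥(Q ⊓ Subgroup.centralizer ({((cC hyz : Subgroup.centralizer ({z} : Set G)) : G)} : Set G))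
  have hn : ∀ q : D, Commute (g * (q : G) * g⁻¹) z ∧ InQ z Q t (g * (q : G) * g⁻¹) := fun q => by
    refine ⟨?_, g, hg, by rw [show g⁻¹ * (g * (q : G) * g⁻¹) * g = q by group]; exact q.2.1⟩
    have := (Commute.conj_iff g).2 (Subgroup.mem_centralizer_singleton_iff.1 q.2.2 : Commute (q : G) y)
    rwa [hgy] at this
  have hfixes : ∀ q : D, ∀ s ∈ Q, Commute s (t : G) → F.π (cC (hn q).1) • F.vec s = F.vec s := by
    intro q s hs hst
    obtain ⟨hnz, hnt⟩ := hn q
    set n := g * (q : G) * g⁻¹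
    have h1 : s * n * s⁻¹ * n⁻¹ ∈ Q := by
      rw [show s * n * s⁻¹ * n⁻¹ = s * (n * s⁻¹ * n⁻¹) by group]
      exact mul_mem hs (h.norm n hnz _ (inv_mem hs))
    have hsn : s * n = n * s := mul_inv_eq_iff_eq_mul.1 (mul_inv_eq_one.1
      (no_I F h B htt ht hl hzt h1 ((hnt.conj' hst).mul h hnt.inv)))
    rw [← F.vec_conj (cC hnz) s hs, show ((cC hnz : Subgroup.centralizer ({z} : Set G)) : G) = n from rfl, ← hsn,
      mul_inv_cancel_right]
  have hcomm : ∀ q : D, Commute (F.π (cC (hn q).1)) (F.π t) := fun q =>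
    (show Commute (cC (hn q).1) t from Subtype.ext ((hn q).2.commute h).eq).map F.π
  have hinj : Function.Injective fun q : D => f (F.π (cC (hn q).1)) := by
    intro q q' e
    have e' := hf _ _ (hcomm q) (hcomm q') (hfixes q) (hfixes q') e
    have hQ : ((cC (hn q).1)⁻¹ * cC (hn q').1 : Subgroup.centralizer ({z} : Set G)).1 ∈ Q :=
      (F.π_ker _).1 (by rw [map_mul, map_inv, e', inv_mul_cancel])
    have h1 := no_I F h B htt ht hl hzt hQ (((hn q).2.inv).mul h (hn q').2)
    exact Subtype.ext (mul_left_cancel (mul_right_cancel (inv_mul_eq_one.1 h1)))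
  have h1 : 16 ≤ Nat.card D := card_centQ_invol F h (y := cC hyz) hyy
  have h2 : Nat.card D ≤ Nat.card S := Nat.card_le_card_of_injective _ hinj
  omega

theorem c0_not_z (h : Hyp z Q) (B : Base F x) (hc : Form F x c0 e1 e2) : ¬ IsConj z c0 := by
  classical
  obtain ⟨hA, -, -, u0, u1, u2, -⟩ := five_facts
  have htz := (hc.comm F h B).2
  have hπ : F.π (cC htz) = R e1 := hc.π F h B
  have hne : F.π (cC htz) ≠ 1 := fun e =>
    nonzero_facts.1 (R_inj inP_facts.2.1 inP_facts.1 (by rw [R_zero, ← hπ, e]))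
  have hl : ¬ Lam0 F (cC htz) := not_lam F h B (t := cC htz) hc u0 u1 u2
  have hfix : ∀ g : Ga, (∀ q ∈ Q, Commute q c0 → g • F.vec q = F.vec q) → FixA g := fun g hg => by
    have key : ∀ u ∈ [e0, e1, e2, e3, f3], g • u = u := fun u hu => by
      obtain ⟨q, hq, rfl⟩ := F.vec_surj u
      obtain ⟨a, b, c⟩ := hA _ hu
      exact hg q hq (comm_of_form F h B hc hq a b c)
    exact ⟨key _ (by simp), key _ (by simp), key _ (by simp), key _ (by simp), key _ (by simp)⟩
  have h8 := card_FixA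
  refine not_conj_z F h B (t := cC htz) (c0_sq F h B hc) hne hl (S := Option {g : Ga // FixA g})
    (by rw [Finite.card_option]; omega) (fun g => if hg : FixA g then some ⟨g, hg⟩ else none)
    fun g g' _ _ hg hg' e => ?_
  rw [dif_pos (hfix g hg), dif_pos (hfix g' hg')] at e
  simpa using e

theorem b0_fix (h : Hyp z Q) (B : Base F x) (hb : Form F x b0 n0 w0) {g : Ga}
    (hg : ∀ q ∈ Q, Commute q b0 → g • F.vec q = F.vec q) : FixC g := by
  obtain ⟨-, hC, -⟩ := five_facts
  have key : ∀ u ∈ [e0, e1, f1, e2 + f2, e2 + n0], g • u = u := fun u hu => by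
    obtain ⟨q, hq, rfl⟩ := F.vec_surj u
    obtain ⟨a, b, c⟩ := hC _ hu
    exact hg q hq (comm_of_form F h B hb hq a b c)
  exact ⟨key _ (by simp), key _ (by simp), key _ (by simp), key _ (by simp), key _ (by simp)⟩

theorem b0_not_z (h : Hyp z Q) (B : Base F x) (hb : Form F x b0 n0 w0) : ¬ IsConj z b0 := by
  classical
  obtain ⟨-, -, -, u0, -, -, u1, u2⟩ := five_facts
  have htz := (hb.comm F h B).2
  have hπ : F.π (cC htz) = R n0 := hb.π F h B
  have hne : F.π (cC htz) ≠ 1 := fun e =>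
    nonzero_facts.2.2 (R_inj inP_facts.2.2.2.2.2.2.2.1 inP_facts.1 (by rw [R_zero, ← hπ, e]))
  have hl : ¬ Lam0 F (cC htz) := not_lam F h B (t := cC htz) hb u0 u1 u2
  let T : Finset Ga := {R 0, R n0, R w0, R (w0 + n0)}
  refine not_conj_z F h B (t := cC htz) (b0_sq F h B hb) hne hl (S := Option {g : Ga // g ∈ T})
    ?_ (fun g => if hg : g ∈ T then some ⟨g, hg⟩ else none) fun g g' hc hc' hg hg' e => ?_
  · rw [Finite.card_option, Nat.card_eq_fintype_card, Fintype.card_coe]
    have : T.card ≤ 4 := Finset.card_le_four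
    omega
  · have key : ∀ k : Ga, Commute k (F.π (cC htz)) → (∀ q ∈ Q, Commute q b0 → k • F.vec q = F.vec q) → k ∈ T := by
      intro k hk hk'
      rw [hπ] at hk
      rcases fixC_rad (b0_fix F h B hb hk') hk with e | e | e | e <;> simp [T, e]
    rw [dif_pos (key g hc hg), dif_pos (key g' hc' hg')] at e
    simpa using e

theorem exists_mover (h : Hyp z Q) (B : Base F x) (hb : Form F x b0 n0 w0) :
    ∃ k : Subgroup.centralizer ({z} : Set G), Commute (k : G) b0 ∧ (k : G) * x * (k : G)⁻¹ = x * z ∧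
      F.π k * R w0 * (F.π k)⁻¹ = R (w0 + n0) ∧ Commute (F.π k) (R n0) ∧ F.π k ∈ St := by
  have Pn : InP n0 := inP_facts.2.2.2.2.2.2.2.1
  have Pw : InP w0 := inP_facts.2.2.2.2.2.2.2.2
  obtain ⟨-, -, -, -, -, -, qn, qw, -, -, -, -, -, -, p0w, pwn, -⟩ := val_facts
  obtain ⟨c, hc, hc1, hc2⟩ := v0_move (v := w0 + n0) (by rw [pol_add_right, p0w, (inP_perp Pn).1, add_zero])
    (by rw [qm_add, qw, qn, pwn]; decide) (by rw [pol_add_left, pwn, pol_self, add_zero])
  have hcw : nz (c • w0) = w0 + n0 := by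
    have e : c • w0 = c • (w0 + n0) + c • n0 := by
      rw [smul_add', add_assoc, ZModModule.add_self, add_zero]
    rw [e, nz_add, hc2, hc1]
  obtain ⟨k, rfl, hk⟩ := move_x F h B hc
  have hf := hb.conj_C F h B hk
  rw [hc1] at hf
  obtain ⟨q, hq, hqx, e⟩ := (conj_b0 F h B hb hf).2 hcw
  refine ⟨cC (Qz h hq) * k, ?_, ?_, ?_, ?_, ?_⟩
  · refine mul_inv_eq_iff_eq_mul.1 ?_
    show q * (k : G) * b0 * (q * (k : G))⁻¹ = b0
    conv_rhs => rw [← e]
    group
  · show q * (k : G) * x * (q * (k : G))⁻¹ = x * z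
    rw [show q * (k : G) * x * (q * (k : G))⁻¹ = q * ((k : G) * x * (k : G)⁻¹) * q⁻¹ by group, hk.eq,
      mul_inv_cancel_right, hqx]
  · rw [map_mul, π_Q F h hq, one_mul, R_conj hc Pw, hcw]
  · rw [map_mul, π_Q F h hq, one_mul]
    refine mul_inv_eq_iff_eq_mul.1 ?_
    rw [R_conj hc Pn, hc1]
  · rw [map_mul, π_Q F h hq, one_mul]; exact hc

theorem perp_M_comm (h : Hyp z Q) (B : Base F x) (hb : Form F x b0 n0 w0) {m : Subgroup.centralizer ({z} : Set G)}
    {a : V} (hm : Mem F x a m) (an : pol a n0 = 0) (aw : pol a w0 = 0) : Commute (m : G) b0 := by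
  obtain ⟨n, hn, q, hq, hqv, hv0, rfl⟩ := hb
  have h1 : Commute (m : G) n := by
    have := Mmul F h B hm hn
    rwa [an, Iel_00 F, one_mul] at this
  have h2 : Commute q (m : G) := by
    have := pairing F h B hm hq (by rw [hqv]; exact hv0)
    rwa [hqv, pol_comm', aw, Iel_00 F, one_mul] at this
  exact h1.mul_right h2.symm

theorem centre_Q (h : Hyp z Q) (B : Base F x) (hb : Form F x b0 n0 w0) {w k : G}
    (hk : Commute k z) (hkx : k * x * k⁻¹ = x * z) (hw : w ∈ Q) (hwb : Commute w b0)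
    (hwM : ∀ m : Subgroup.centralizer ({z} : Set G), InQ z Q x m → Commute (m : G) b0 → Commute w (m : G))
    (hwk : Commute k w) : w = 1 ∨ w = z := by
  obtain ⟨-, -, hU, -⟩ := five_facts
  have hpa : ∀ a ∈ [e1, f1, e2 + f2, e2 + n0], a ≠ 0 → pol e0 (F.vec w) = 0 ∧ pol (F.vec w) a = 0 := by
    intro a ha ha0
    obtain ⟨Pa, an, aw⟩ := hU a ha
    obtain ⟨m, hm⟩ := Mem.exists F h B Pa
    have hc := hwM m hm.2.1 (perp_M_comm F h B hb hm an aw)
    refine R_fix Pa ha0 ?_
    rw [← hm.2.2, ← F.vec_conj m w hw, hc.symm.eq, mul_inv_cancel_right]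
  have hne : e1 ≠ 0 ∧ f1 ≠ 0 ∧ e2 + f2 ≠ 0 ∧ e2 + n0 ≠ 0 := by decide +kernel
  obtain ⟨v0, v1⟩ := hpa e1 (by simp) hne.1
  have e := hb.conj_Q F h B hw v0
  rw [hwb.eq, mul_inv_cancel_right] at e
  obtain ⟨a1, a2⟩ := Iel_eq_one F h B (mul_eq_right.1 e.symm)
  rw [a1, zero_add] at a2
  have hv := five_C_zero _ v0 v1 (hpa f1 (by simp) hne.2.1).2 (hpa _ (by simp) hne.2.2.1).2
    (hpa _ (by simp) hne.2.2.2).2 a1 a2
  obtain ⟨i, j, rfl⟩ : ∃ i j, w = Iel z x i j := by
    rcases hv with e | e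
    · exact ⟨0, vec_Iel F h B hw (by rw [e, zero_smul])⟩
    · exact ⟨1, vec_Iel F h B hw (by rw [e, one_smul])⟩
  rcases zm2 i with rfl | rfl
  · rcases zm2 j with rfl | rfl
    · exact Or.inl (Iel_00 F)
    · exact Or.inr (Iel_01 F)
  exfalso
  have e1' : k * Iel z x 1 j * k⁻¹ = Iel z x 1 (1 + j) := by
    rcases zm2 j with rfl | rfl
    · rw [Iel_10 F, hkx, add_zero, Iel_11 F]
    · rw [Iel_11 F, show k * (x * z) * k⁻¹ = k * x * k⁻¹ * (k * z * k⁻¹) by group, hkx, hk.eq, mul_inv_cancel_right,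
        mul_assoc, zz h, mul_one, show (1 : ZMod 2) + 1 = 0 by decide, Iel_10 F]
  rw [hwk.eq, mul_inv_cancel_right] at e1'
  have := (Iel_inj F h B e1').2
  exact one_ne_zero (add_eq_right.1 this.symm)

theorem centre_elt (h : Hyp z Q) (B : Base F x) (hb : Form F x b0 n0 w0) {w : Subgroup.centralizer ({z} : Set G)}
    {k : Subgroup.centralizer ({z} : Set G)} (hkb : Commute (k : G) b0) (hkx : (k : G) * x * (k : G)⁻¹ = x * z)
    (hkw : F.π k * R w0 * (F.π k)⁻¹ = R (w0 + n0)) (hkn : Commute (F.π k) (R n0)) (hwb : Commute (w : G) b0)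
    (hwQ : ∀ q ∈ Q, Commute q b0 → Commute (w : G) q)
    (hwM : ∀ m : Subgroup.centralizer ({z} : Set G), InQ z Q x m → Commute (m : G) b0 → Commute (w : G) (m : G))
    (hwk : Commute (k : G) w) : (w : G) = 1 ∨ (w : G) = z ∨ (w : G) = b0 ∨ (w : G) = b0 * z := by
  have Pn : InP n0 := inP_facts.2.2.2.2.2.2.2.1
  have Pw : InP w0 := inP_facts.2.2.2.2.2.2.2.2
  have hbz := (hb.comm F h B).2
  have hπb : F.π (cC hbz) = R n0 := hb.π F h B
  have hfix : FixC (F.π w) := b0_fix F h B hb fun q hq hc => by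
    rw [← F.vec_conj w q hq, (hwQ q hq hc).eq, mul_inv_cancel_right]
  have hcm : Commute (F.π w) sC := by
    have := (show Commute w (cC hbz) from Subtype.ext hwb.eq).map F.π
    rwa [hπb] at this
  have hkk : Commute (F.π k) (F.π w) := (show Commute k w from Subtype.ext hwk.eq).map F.π
  have hne : R (w0 + n0) ≠ R w0 := fun e => nonzero_facts.2.2 (add_eq_left.1 (R_inj (inP_add Pw Pn) Pw e))
  rcases fixC_rad hfix hcm with e | e | e | e
  · have hQ := (F.π_ker w).1 (by rw [e, R_zero])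
    rcases centre_Q F h B hb (mem_C.1 k.2) hkx hQ hwb hwM hwk with e' | e'
    exacts [Or.inl e', Or.inr (Or.inl e')]
  · have hQ : ((cC hbz * w : Subgroup.centralizer ({z} : Set G)) : G) ∈ Q :=
      (F.π_ker _).1 (by rw [map_mul, hπb, e, R_mul Pn Pn, ZModModule.add_self, R_zero])
    change b0 * (w : G) ∈ Q at hQ
    have hbb := b0_sq F h B hb
    have hbM : ∀ m : Subgroup.centralizer ({z} : Set G), InQ z Q x m → Commute (m : G) b0 →
        Commute (b0 * (w : G)) (m : G) := fun m hm hc => hc.symm.mul_left (hwM m hm hc)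
    rcases centre_Q F h B hb (mem_C.1 k.2) hkx hQ ((Commute.refl b0).mul_left hwb) hbM (hkb.mul_right hwk)
      with e' | e'
    · refine Or.inr (Or.inr (Or.inl ?_))
      rw [eq_inv_of_mul_eq_one_right e', inv_eq_of_mul_eq_one_right hbb]
    · refine Or.inr (Or.inr (Or.inr ?_))
      calc (w : G) = b0 * (b0 * (w : G)) := by rw [← mul_assoc, hbb, one_mul]
        _ = b0 * z := congrArg (b0 * ·) e'
  · exfalso
    refine hne ?_
    rw [← hkw, ← e, hkk.eq, mul_inv_cancel_right]
  · exfalso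
    refine hne ?_
    have e2 : F.π k * R (w0 + n0) * (F.π k)⁻¹ = R w0 := by
      rw [← R_mul Pw Pn, show F.π k * (R w0 * R n0) * (F.π k)⁻¹ =
        F.π k * R w0 * (F.π k)⁻¹ * (F.π k * R n0 * (F.π k)⁻¹) by group, hkw, hkn.eq, mul_inv_cancel_right,
        R_mul (inP_add Pw Pn) Pn, add_assoc, ZModModule.add_self, add_zero]
    rw [← e2, ← e, hkk.eq, mul_inv_cancel_right]

/-- elements of the radical -/
noncomputable def RadS : Subgroup Ga where
  carrier := {g | RadAt (g : OG)}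
  one_mem' := rad_one.1
  mul_mem' := fun ha hb => (rad_mul ha hb).1
  inv_mem' := fun {g} hg => by
    show RadAt ((g⁻¹ : Ga) : OG)
    rw [Subgroup.coe_inv, inv_eq_of_mul_eq_one_right (rad_sq hg)]
    exact hg

/-- the part of the centraliser of the second representative over the radical -/
noncomputable def Dsub (F : Frame z Q) (b : G) : Subgroup G :=
  (RadS.comap F.π).map (Subgroup.centralizer ({z} : Set G)).subtype ⊓ Subgroup.centralizer ({b} : Set G)

theorem mem_Dsub {b : G} {d : Subgroup.centralizer ({z} : Set G)} (hd : RadAt (F.π d : OG))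
    (hc : Commute (d : G) b) : (d : G) ∈ Dsub F b :=
  ⟨⟨d, hd, rfl⟩, Subgroup.mem_centralizer_singleton_iff.2 hc⟩

theorem odd_mover (h : Hyp z Q) (B : Base F x) (hb : Form F x b0 n0 w0) :
    ∃ k : Subgroup.centralizer ({z} : Set G), IsPGroup 2 (Subgroup.zpowers (k : G)) ∧
      Commute (k : G) b0 ∧ (k : G) * x * (k : G)⁻¹ = x * z ∧
      F.π k * R w0 * (F.π k)⁻¹ = R (w0 + n0) ∧ Commute (F.π k) (R n0) ∧ F.π k ∈ St := by
  obtain ⟨k, hkb, hkx, hkw, hkn, hks⟩ := exists_mover F h B hb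
  have Pn : InP n0 := inP_facts.2.2.2.2.2.2.2.1
  have Pw : InP w0 := inP_facts.2.2.2.2.2.2.2.2
  have hkz : Commute (k : G) z := mem_C.1 k.2
  obtain ⟨v, r, hr, hn⟩ := Nat.exists_eq_two_pow_mul_odd (orderOf_pos (k : G)).ne'
  obtain ⟨i, rfl⟩ := hr
  have hxz2 : (k : G) * (x * z) * (k : G)⁻¹ = x := by
    rw [show (k : G) * (x * z) * (k : G)⁻¹ = (k : G) * x * (k : G)⁻¹ * ((k : G) * z * (k : G)⁻¹) by group, hkx,
      hkz.eq, mul_inv_cancel_right, mul_assoc, zz h, mul_one]
  have hk2x : Commute ((k : G) ^ 2) x := mul_inv_eq_iff_eq_mul.1 (by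
    rw [pow_two, show (k : G) * k * x * ((k : G) * k)⁻¹ = (k : G) * ((k : G) * x * (k : G)⁻¹) * (k : G)⁻¹ by group,
      hkx, hxz2])
  have hk2w : Commute (F.π k ^ 2) (R w0) := mul_inv_eq_iff_eq_mul.1 (by
    rw [pow_two, show F.π k * F.π k * R w0 * (F.π k * F.π k)⁻¹ = F.π k * (F.π k * R w0 * (F.π k)⁻¹) * (F.π k)⁻¹
      by group, hkw, ← R_mul Pw Pn, show F.π k * (R w0 * R n0) * (F.π k)⁻¹ =
        F.π k * R w0 * (F.π k)⁻¹ * (F.π k * R n0 * (F.π k)⁻¹) by group, hkw, hkn.eq, mul_inv_cancel_right,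
      R_mul (inP_add Pw Pn) Pn, add_assoc, ZModModule.add_self, add_zero])
  refine ⟨k ^ (2 * i + 1), IsPGroup.of_card (n := v) ?_, ?_, ?_, ?_, ?_, ?_⟩
  · rw [Nat.card_zpowers, Subgroup.coe_pow, orderOf_pow' _ (by omega), hn,
      Nat.gcd_eq_right (dvd_mul_left _ _), Nat.mul_div_cancel _ (by omega)]
  · rw [Subgroup.coe_pow]; exact hkb.pow_left _
  · have hc : Commute ((k : G) ^ (2 * i)) x := by rw [pow_mul]; exact hk2x.pow_left i
    rw [Subgroup.coe_pow, pow_succ', show (k : G) * (k : G) ^ (2 * i) * x * ((k : G) * (k : G) ^ (2 * i))⁻¹ =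
      (k : G) * ((k : G) ^ (2 * i) * x * ((k : G) ^ (2 * i))⁻¹) * (k : G)⁻¹ by group, hc.eq, mul_inv_cancel_right,
      hkx]
  · have hc : Commute (F.π k ^ (2 * i)) (R w0) := by rw [pow_mul]; exact hk2w.pow_left i
    rw [map_pow, pow_succ', show F.π k * F.π k ^ (2 * i) * R w0 * (F.π k * F.π k ^ (2 * i))⁻¹ =
      F.π k * (F.π k ^ (2 * i) * R w0 * (F.π k ^ (2 * i))⁻¹) * (F.π k)⁻¹ by group, hc.eq, mul_inv_cancel_right,
      hkw]
  · rw [map_pow]; exact hkn.pow_left _
  · rw [map_pow]; exact pow_mem hks _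

set_option maxHeartbeats 1000000 in
theorem two_part_b0 (h : Hyp z Q) (B : Base F x) (hb : Form F x b0 n0 w0) :
    ∀ n : ℕ, 2 ^ n ∣ Nat.card (Subgroup.centralizer ({b0} : Set G)) →
      2 ^ n ∣ Nat.card ↥(Subgroup.centralizer ({b0} : Set G) ⊓ Subgroup.centralizer ({z} : Set G)) := by
  classical
  haveI : Fact (Nat.Prime 2) := ⟨Nat.prime_two⟩
  set K := Subgroup.centralizer ({b0} : Set G) with hK
  have hbz := (hb.comm F h B).2
  have hπb : F.π (cC hbz) = R n0 := hb.π F h B
  have Pn : InP n0 := inP_facts.2.2.2.2.2.2.2.1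
  obtain ⟨k, hk2, hkb, hkx, hkw, hkn, hks⟩ := odd_mover F h B hb
  set D := Dsub F b0
  have hDp : IsPGroup 2 D := fun d => by
    obtain ⟨⟨c, hc, hcd⟩, -⟩ := d.2
    refine ⟨3, Subtype.ext ?_⟩
    rw [Subgroup.coe_pow, ← hcd]
    show (c : G) ^ 2 ^ 3 = ((1 : D) : G)
    have hQ : ((c ^ 2 : Subgroup.centralizer ({z} : Set G)) : G) ∈ Q := (F.π_ker _).1 (by
      rw [map_pow, pow_two]; exact Subtype.ext (rad_sq hc))
    rw [Subgroup.coe_pow] at hQ
    rw [show (2 : ℕ) ^ 3 = 2 * 4 from rfl, pow_mul]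
    rcases F.sq_or _ hQ with e | e <;>
      rw [show ((c : G) ^ 2) ^ 4 = (c : G) ^ 2 * (c : G) ^ 2 * ((c : G) ^ 2 * (c : G) ^ 2) by
        simp [pow_succ, mul_assoc], e]
    · exact one_mul 1
    · exact zz h
  have hDnorm : Subgroup.zpowers (k : G) ≤ Subgroup.normalizer (D : Set G) := by
    have key : ∀ l : Subgroup.centralizer ({z} : Set G), Commute (l : G) b0 → F.π l ∈ St → ∀ d ∈ D,
        (l : G) * d * (l : G)⁻¹ ∈ D := by
      intro l hlb hls d hd
      obtain ⟨⟨c, hc, rfl⟩, hcb⟩ := hd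
      refine mem_Dsub F (d := l * c * l⁻¹) ?_ ?_
      · rw [map_mul, map_mul, map_inv]
        exact (rad_conj (c := (F.π l : OG)) hls hc).1
      · show Commute ((l : G) * c * (l : G)⁻¹) b0
        exact (hlb.mul_left (Subgroup.mem_centralizer_singleton_iff.1 hcb)).mul_left hlb.inv_left
    refine Subgroup.zpowers_le.2 (Subgroup.mem_normalizer_iff.2 fun d => ⟨key k hkb hks d, fun hd => ?_⟩)
    have := key k⁻¹ hkb.inv_left (by rw [map_inv]; exact inv_mem hks) _ hd
    rwa [show ((k⁻¹ : Subgroup.centralizer ({z} : Set G)) : G) * ((k : G) * d * (k : G)⁻¹) *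
      ((k⁻¹ : Subgroup.centralizer ({z} : Set G)) : G)⁻¹ = d by
        rw [Subgroup.coe_inv]; group] at this
  have hPp : IsPGroup 2 ↥(D ⊔ Subgroup.zpowers (k : G) : Subgroup G) :=
    IsPGroup.to_sup_of_normal_left' hDp hk2 hDnorm
  have hPK : D ⊔ Subgroup.zpowers (k : G) ≤ K :=
    sup_le inf_le_right (Subgroup.zpowers_le.2 (Subgroup.mem_centralizer_singleton_iff.2 hkb))
  obtain ⟨T, hT⟩ := (hPp.comap_of_injective (K.subtype) K.subtype_injective).exists_le_sylow
  set T' := (T : Subgroup K).map K.subtype with hT'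
  have hT'p : IsPGroup 2 T' := T.isPGroup'.map _
  have hPT : D ⊔ Subgroup.zpowers (k : G) ≤ T' := fun g hg => ⟨⟨g, hPK hg⟩, hT hg, rfl⟩
  have hT'K : T' ≤ K := Subgroup.map_subtype_le _
  suffices hTC : T' ≤ Subgroup.centralizer ({z} : Set G) by
    intro n hn
    have h1 : 2 ^ n ∣ Nat.card T' := by
      rw [hT', Subgroup.card_map_of_injective K.subtype_injective]
      exact T.pow_dvd_card_of_pow_dvd_card hn
    exact h1.trans (Subgroup.card_dvd_of_le (le_inf hT'K hTC))
  by_contra hnot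
  set T0 := (Subgroup.centralizer ({z} : Set G)).subgroupOf T' with hT0
  haveI : Group.IsNilpotent T' := hT'p.isNilpotent
  have hlt : T0 < ⊤ := lt_top_iff_ne_top.2 fun e => hnot (Subgroup.subgroupOf_eq_top.1 e)
  obtain ⟨⟨n, hnT⟩, hnN, hnot0⟩ := SetLike.exists_of_lt (normalizerCondition_of_isNilpotent T0 hlt)
  have hnz : ¬ Commute n z := fun e => hnot0 (mem_C.2 e)
  have hzD : z ∈ D := by
    refine mem_Dsub F (d := cC (Commute.refl z)) ?_ hbz.symm
    have e : F.π (cC (Commute.refl z)) = 1 := (F.π_ker _).2 (zQ h)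
    rw [e]; exact rad_one.1
  have hnb : Commute n b0 := Subgroup.mem_centralizer_singleton_iff.1 (hT'K hnT)
  have hmemT0 : ∀ g : G, g ∈ T' → Commute g z → Commute (n⁻¹ * g * n) z ∧ Commute (n * g * n⁻¹) z := by
    intro g hg hgz
    constructor
    · have := (Subgroup.mem_normalizer_iff.1 (inv_mem hnN) ⟨g, hg⟩).1 (mem_C.2 hgz)
      have h' := mem_C.1 (Subgroup.mem_subgroupOf.1 this)
      simpa using h'
    · have := (Subgroup.mem_normalizer_iff.1 hnN ⟨g, hg⟩).1 (mem_C.2 hgz)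
      exact mem_C.1 (Subgroup.mem_subgroupOf.1 this)
  have hzT : z ∈ T' := hPT (Subgroup.mem_sup_left hzD)
  have hwz : Commute (n * z * n⁻¹) z := (hmemT0 z hzT (Commute.refl z)).2
  have hwc : ∀ g ∈ T', Commute g z → Commute (n * z * n⁻¹) g := fun g hg hgz => by
    have := (Commute.conj_iff n).2 (hmemT0 g hg hgz).1.symm
    rwa [show n * (n⁻¹ * g * n) * n⁻¹ = g by group] at this
  have hDT : ∀ d : Subgroup.centralizer ({z} : Set G), RadAt (F.π d : OG) → Commute (d : G) b0 →
      Commute (n * z * n⁻¹) d := fun d hd hdb =>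
    hwc _ (hPT (Subgroup.mem_sup_left (mem_Dsub F hd hdb))) (mem_C.1 d.2)
  have hne : n * z * n⁻¹ ≠ z := fun e => hnz (mul_inv_eq_iff_eq_mul.1 e)
  have hw := centre_elt F h B hb (w := cC hwz) (k := k) hkb hkx hkw hkn
    (hDT (cC hbz) (by rw [hπb]; exact (R_spec Pn).1) (Commute.refl b0))
    (fun q hq hc => hDT (cC (Qz h hq)) (by rw [π_Q F h hq]; exact rad_one.1) hc)
    (fun m hm hc => hDT m (radAt F h B hm) hc)
    (hwc _ (hPT (Subgroup.mem_sup_right (Subgroup.mem_zpowers _))) (mem_C.1 k.2)).symm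
  change n * z * n⁻¹ = 1 ∨ n * z * n⁻¹ = z ∨ n * z * n⁻¹ = b0 ∨ n * z * n⁻¹ = b0 * z at hw
  have hzb := b0_not_z F h B hb
  rcases hw with e | e | e | e
  · exact z_ne h (conj_eq_one_iff.1 e)
  · exact hne e
  · exact hzb (isConj_iff.2 ⟨n, e⟩)
  · refine hzb ((isConj_iff.2 ⟨n, e⟩ : IsConj z (b0 * z)).trans ?_)
    obtain ⟨l, -, -, el⟩ := hb.kill F h B (inP_perp inP_facts.2.2.2.1).1 (inP_perp inP_facts.2.2.2.2.2.1).1
      plane_pol.2.2.2.2.2.2.2.2.2.2.1 plane_pol.2.2.2.2.2.2.2.2.2.2.2.1 plane_pol.2.2.2.2.2.2.2.2.2.2.2.2.1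
      plane_pol.2.2.2.2.2.2.2.2.2.2.2.2.2.1 0 1
    rw [Iel_01 F, ← hbz.eq] at el
    exact isConj_iff.2 ⟨l, el⟩

set_option maxHeartbeats 1000000 in
theorem card_centb0 (h : Hyp z Q) (B : Base F x) (hb : Form F x b0 n0 w0) :
    Nat.card ↥(Subgroup.centralizer ({b0} : Set G) ⊓ Subgroup.centralizer ({z} : Set G)) ∣ 64 * 7680 := by
  classical
  have Pn : InP n0 := inP_facts.2.2.2.2.2.2.2.1
  have Pw : InP w0 := inP_facts.2.2.2.2.2.2.2.2
  have qn : qm n0 = 1 := val_facts.2.2.2.2.2.2.1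
  have hbz := (hb.comm F h B).2
  have hπb : F.π (cC hbz) = R n0 := hb.π F h B
  set S := Subgroup.centralizer ({b0} : Set G) ⊓ Subgroup.centralizer ({z} : Set G)
  let ι : S →* Subgroup.centralizer ({z} : Set G) := Subgroup.inclusion inf_le_right
  have hSb : ∀ s : S, Commute (s : G) b0 := fun s => Subgroup.mem_centralizer_singleton_iff.1 s.2.1
  have hst : ∀ s : S, F.π (ι s) ∈ St ∧ nz (F.π (ι s) • n0) = n0 := by
    intro s
    have hc : Commute (F.π (ι s)) (R n0) := by
      rw [← hπb]; exact (show Commute (ι s) (cC hbz) from Subtype.ext (hSb s).eq).map F.π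
    have h0 : F.π (ι s) ∈ St := by
      rw [MulAction.mem_stabilizer_iff]
      have hp : ∀ v, pol e0 v = pol (F.π (ι s) • e0) v := fun v => by
        rw [pol_comm' e0 v, ← sC_diag v, ← smul_pol (F.π (ι s))⁻¹ (F.π (ι s) • e0) v, inv_smul_smul, pol_comm',
          ← sC_diag, ← qm_conj, show F.π (ι s) * sC * (F.π (ι s))⁻¹ = sC from mul_inv_eq_iff_eq_mul.2 hc.eq]
      rcases perp_perp (u := F.π (ι s) • e0) (fun v hv => by rw [← hp, hv]) with e | e
      · exact absurd ((smul_eq_iff_eq_inv_smul _).1 e |>.trans (smul_zero' _)) e0_facts.1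
      · exact e
    refine ⟨h0, R_inj (St_inP h0 Pn) Pn ?_⟩
    rw [← R_conj h0 Pn, hc.eq, mul_inv_cancel_right]
  let g : S →* MulAction.stabilizer St pC :=
    MonoidHom.codRestrict (MonoidHom.codRestrict (F.π.comp ι) St fun s => (hst s).1)
      (MulAction.stabilizer St pC) fun s => Subtype.ext (hst s).2
  have hpair : ∀ s : S, nz (F.π (ι s) • w0) = w0 ∨ nz (F.π (ι s) • w0) = w0 + n0 := by
    intro s
    have hsx : (s : G) * x * (s : G)⁻¹ = x ∨ (s : G) * x * (s : G)⁻¹ = x * z := by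
      refine vec_eq F (h.norm _ (mem_C.1 (ι s).2) x B.mem) B.mem h ?_
      rw [show F.vec ((s : G) * x * (s : G)⁻¹) = F.π (ι s) • F.vec x from F.vec_conj (ι s) x B.mem, B.vec]
      exact (hst s).1
    have hn := (hst s).2
    have hsb : (s : G) * b0 * (s : G)⁻¹ = b0 := by rw [(hSb s).eq, mul_inv_cancel_right]
    rcases hsx with e | e
    · have hk : Commute ((ι s : Subgroup.centralizer ({z} : Set G)) : G) x := mul_inv_eq_iff_eq_mul.1 e
      have hf := hb.conj_C F h B hk
      rw [hn, show ((ι s : Subgroup.centralizer ({z} : Set G)) : G) * b0 *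
        ((ι s : Subgroup.centralizer ({z} : Set G)) : G)⁻¹ = b0 from hsb] at hf
      exact Or.inl ((hb.unique F h B hf).2.symm.trans (nz_of_inP Pw))
    · obtain ⟨l, hl, hlx, hf0⟩ := hb.shift F h B
      have hlx' : l * (x * z) * l⁻¹ = x := by
        rw [show l * (x * z) * l⁻¹ = l * x * l⁻¹ * (l * z * l⁻¹) by group, hlx, (Qz h hl).eq, mul_inv_cancel_right,
          mul_assoc, zz h, mul_one]
      have hk : Commute ((cC (Qz h hl) * ι s : Subgroup.centralizer ({z} : Set G)) : G) x := by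
        refine mul_inv_eq_iff_eq_mul.1 ?_
        show l * (s : G) * x * (l * (s : G))⁻¹ = x
        rw [show l * (s : G) * x * (l * (s : G))⁻¹ = l * ((s : G) * x * (s : G)⁻¹) * l⁻¹ by group, e, hlx']
      have hf := hb.conj_C F h B hk
      rw [map_mul, π_Q F h hl, one_mul, hn, show ((cC (Qz h hl) * ι s : Subgroup.centralizer ({z} : Set G)) : G) *
          b0 * ((cC (Qz h hl) * ι s : Subgroup.centralizer ({z} : Set G)) : G)⁻¹ = l * b0 * l⁻¹ by
        show l * (s : G) * b0 * (l * (s : G))⁻¹ = l * b0 * l⁻¹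
        rw [show l * (s : G) * b0 * (l * (s : G))⁻¹ = l * ((s : G) * b0 * (s : G)⁻¹) * l⁻¹ by group, hsb]] at hf
      refine Or.inr ((hf0.unique F h B hf).2.symm.trans ?_)
      rw [qn, one_smul, nz_add, nz_add, nz_of_inP Pw, nz_of_inP Pn, nz_e0, add_zero]
  have hrange : g.range ≤ HC := by
    rintro _ ⟨s, rfl⟩
    have hn : nz (F.π (ι s) • n0) = n0 := (hst s).2
    rcases hpair s with e | e
    · exact Or.inl ⟨Subtype.ext e, Subtype.ext (add_flip (hst s).1 Pn hn e)⟩
    · refine Or.inr ⟨Subtype.ext e, Subtype.ext ((add_flip (hst s).1 Pn hn e).trans ?_)⟩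
      rw [add_assoc, ZModModule.add_self, add_zero]; rfl
  have hker : Nat.card g.ker ∣ 64 := by
    have hmem : ∀ s : g.ker, ((s : S) : G) ∈ Q := fun s => by
      refine (F.π_ker (ι s)).1 ?_
      have := congrArg (fun c : MulAction.stabilizer St pC => ((c : St) : Ga)) (MonoidHom.mem_ker.1 s.2)
      exact this
    let j : g.ker →* Q := MonoidHom.codRestrict (S.subtype.comp g.ker.subtype) Q hmem
    have hj : Function.Injective j := fun a b e => Subtype.ext (Subtype.ext (congrArg (fun q : Q => (q : G)) e))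
    have h512 := Subgroup.card_dvd_of_injective j hj
    rw [h.card, show (512 : ℕ) = 2 ^ 9 by norm_num, Nat.dvd_prime_pow Nat.prime_two] at h512
    obtain ⟨e, -, he⟩ := h512
    have hle : Nat.card g.ker ≤ 64 := by
      let U := Finset.univ.filter fun v : V => pol e0 v = 0 ∧ pol v n0 = 0 ∧ pol v w0 = 0
      have hU : U.card = 32 := by decide +kernel
      have hv : ∀ s : g.ker, F.vec ((s : S) : G) ∈ U := by
        intro s
        have hq := hmem s
        have hc := hSb (s : S)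
        have hfix : R n0 • F.vec ((s : S) : G) = F.vec ((s : S) : G) := by
          rw [← hπb, ← F.vec_conj (cC hbz) _ hq,
            show ((cC hbz : Subgroup.centralizer ({z} : Set G)) : G) = b0 from rfl, hc.symm.eq, mul_inv_cancel_right]
        obtain ⟨v0, v1⟩ := R_fix Pn nonzero_facts.2.2 hfix
        have e := hb.conj_Q F h B hq v0
        rw [hc.eq, mul_inv_cancel_right] at e
        obtain ⟨a1, a2⟩ := Iel_eq_one F h B (mul_eq_right.1 e.symm)
        rw [a1, zero_add] at a2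
        exact Finset.mem_filter.2 ⟨Finset.mem_univ _, v0, a1, a2⟩
      choose sec hsec hsecv using F.vec_surj
      refine (Nat.card_le_card_of_injective (fun s : g.ker =>
        ((⟨F.vec ((s : S) : G), hv s⟩ : {v // v ∈ U}), decide (((s : S) : G) = sec (F.vec ((s : S) : G)))))
        fun a b e' => ?_).trans ?_
      · simp only [Prod.mk.injEq, Subtype.mk.injEq, decide_eq_decide] at e'
        obtain ⟨ev, ed⟩ := e'
        refine Subtype.ext (Subtype.ext ?_)
        rw [← ev] at ed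
        have k : ∀ q ∈ Q, q = sec (F.vec q) ∨ q = sec (F.vec q) * z := fun q hq =>
          vec_eq F hq (hsec _) h (hsecv _).symm
        rcases k _ (hmem a) with ea | ea <;> rcases k _ (hmem b) with eb | eb <;> rw [← ev] at eb
        · exact ea.trans eb.symm
        · exact ea.trans (ed.1 ea).symm
        · exact (ed.2 eb).trans eb.symm
        · exact ea.trans eb.symm
      · rw [Nat.card_prod, Nat.card_eq_fintype_card (α := Bool), Fintype.card_bool, Nat.card_eq_fintype_card,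
          Fintype.card_coe, hU]
    rw [he] at hle ⊢
    exact Nat.pow_dvd_pow 2 (m := e) (n := 6) ((Nat.pow_le_pow_iff_right (by norm_num : 1 < 2)).1
      (hle.trans (le_of_eq (by norm_num))))
  have h1 := Subgroup.card_eq_card_quotient_mul_card_subgroup g.ker
  rw [Nat.card_congr (QuotientGroup.quotientKerEquivRange g).toEquiv] at h1
  rw [h1, mul_comm]
  exact Nat.mul_dvd_mul hker ((Subgroup.card_dvd_of_le hrange).trans card_HC)

set_option maxHeartbeats 1000000 in
theorem card_centc0 (h : Hyp z Q) (B : Base F x) (hc : Form F x c0 e1 e2) :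
    65536 ∣ Nat.card ↥(Subgroup.centralizer ({c0} : Set G) ⊓ Subgroup.centralizer ({z} : Set G)) := by
  classical
  have hcz := (hc.comm F h B).2
  set S := Subgroup.centralizer ({c0} : Set G) ⊓ Subgroup.centralizer ({z} : Set G)
  let g : S →* Ga := F.π.comp (Subgroup.inclusion inf_le_right)
  have hker : 16 ∣ Nat.card g.ker := by
    let j : ↥(Q ⊓ Subgroup.centralizer ({c0} : Set G)) → g.ker := fun q =>
      ⟨⟨q, q.2.2, h.le q.2.1⟩, (F.π_ker _).2 q.2.1⟩
    have hj : Function.Injective j := fun a b e =>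
      Subtype.ext (congrArg (fun s : g.ker => ((s : S) : G)) e)
    have hle : 16 ≤ Nat.card g.ker := (card_centQ_invol F h (y := cC hcz) (c0_sq F h B hc)).trans
      (Nat.card_le_card_of_injective j hj)
    have hmem : ∀ s : g.ker, ((s : S) : G) ∈ Q := fun s => (F.π_ker _).1 s.2
    let i : g.ker →* Q := MonoidHom.codRestrict (S.subtype.comp g.ker.subtype) Q hmem
    have hi : Function.Injective i := fun a b e => Subtype.ext (Subtype.ext (congrArg (fun q : Q => (q : G)) e))
    have h512 := Subgroup.card_dvd_of_injective i hi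
    rw [h.card, show (512 : ℕ) = 2 ^ 9 by norm_num, Nat.dvd_prime_pow Nat.prime_two] at h512
    obtain ⟨e, -, he⟩ := h512
    rw [he] at hle ⊢
    exact Nat.pow_dvd_pow 2 (m := 4) ((Nat.pow_le_pow_iff_right (by norm_num : 1 < 2)).1
      ((le_of_eq (by norm_num)).trans hle))
  let p : HA →* Ga := St.subtype.comp ((MulAction.stabilizer St pA).subtype.comp HA.subtype)
  have hp : Function.Injective p :=
    St.subtype_injective.comp ((MulAction.stabilizer St pA).subtype_injective.comp HA.subtype_injective)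
  have hrange : p.range ≤ g.range := by
    rintro _ ⟨⟨c, hcH⟩, rfl⟩
    obtain ⟨k, hk, hkx⟩ := move_x F h B (c : St).2
    have hf := hc.conj_C F h B hkx
    rw [hk, show nz (((c : St) : Ga) • e1) = e1 from congrArg Subtype.val c.2] at hf
    have hv : nz (((c : St) : Ga) • e2) = e2 ∨ nz (((c : St) : Ga) • e2) = e2 + e1 := by
      rcases hcH with ⟨e, -⟩ | ⟨e, -⟩
      exacts [Or.inl (congrArg Subtype.val e), Or.inr (congrArg Subtype.val e)]
    obtain ⟨q, hq, e⟩ := conj_c0 F h B hc hf hv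
    refine ⟨⟨((cC (Qz h hq) * k : Subgroup.centralizer ({z} : Set G)) : G),
      Subgroup.mem_centralizer_singleton_iff.2 ?_, (cC (Qz h hq) * k).2⟩, ?_⟩
    · have e2 : q * (k : G) * c0 * (q * (k : G))⁻¹ = c0 := by
        rw [show q * (k : G) * c0 * (q * (k : G))⁻¹ = q * ((k : G) * c0 * (k : G)⁻¹) * q⁻¹ by group, e]
      exact mul_inv_eq_iff_eq_mul.1 e2
    · show F.π (cC (Qz h hq) * k) = _
      rw [map_mul, π_Q F h hq, one_mul, hk]; rfl
  have h4 : 4096 ∣ Nat.card g.range := by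
    refine card_HA.trans ?_
    rw [← Nat.card_congr (MonoidHom.ofInjective hp).toEquiv.symm]
    exact Subgroup.card_dvd_of_le hrange
  have h1 := Subgroup.card_eq_card_quotient_mul_card_subgroup g.ker
  rw [Nat.card_congr (QuotientGroup.quotientKerEquivRange g).toEquiv] at h1
  rw [h1, show (65536 : ℕ) = 4096 * 16 by norm_num]
  exact Nat.mul_dvd_mul h4 hker

theorem b0_not_c0 (h : Hyp z Q) (B : Base F x) (hc : Form F x c0 e1 e2) (hb : Form F x b0 n0 w0) :
    ¬ IsConj b0 c0 := by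
  intro hconj
  obtain ⟨g, hg⟩ := isConj_iff.1 hconj
  let f : ↥(Subgroup.centralizer ({c0} : Set G) ⊓ Subgroup.centralizer ({z} : Set G)) →*
      Subgroup.centralizer ({b0} : Set G) :=
    MonoidHom.codRestrict ((MulAut.conj g⁻¹).toMonoidHom.comp (Subgroup.subtype _)) _ fun s => by
      refine Subgroup.mem_centralizer_singleton_iff.2 ?_
      have := (Commute.conj_iff g⁻¹).2 (Subgroup.mem_centralizer_singleton_iff.1 s.2.1 : Commute (s : G) c0)
      rw [show g⁻¹ * c0 * g⁻¹⁻¹ = b0 by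
        calc g⁻¹ * c0 * g⁻¹⁻¹ = g⁻¹ * (g * b0 * g⁻¹) * g⁻¹⁻¹ := by rw [hg]
          _ = b0 := by group] at this
      exact this
  have hf : Function.Injective f := fun a b e =>
    Subtype.ext ((MulAut.conj g⁻¹).injective (congrArg Subtype.val e))
  have h1 := (card_centc0 F h B hc).trans (Subgroup.card_dvd_of_injective f hf)
  have h2 := (two_part_b0 F h B hb 16 h1).trans (card_centb0 F h B hb)
  norm_num at h2

end Cfsg.Agent.Spor.CoT
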