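import Cfsg.Agent.Lib.Spor.CoTypeRad

/-!
Shapes of involutions in the commutator subgroup of the isometry group of a plus form in dimension eight.
-/

set_option autoImplicit false
set_option maxRecDepth 100000
set_option linter.unusedSectionVars false

namespace Cfsg.Agent.Spor.CoT

open Chk Dat Cfsg.Agent.Classical

theorem inP_facts : InP (0 : V) ∧ InP e1 ∧ InP e2 ∧ InP e3 ∧ InP f1 ∧ InP f2 ∧ InP f3 ∧ InP n0 ∧ InP w0 := by
  simp only [InP]; decide +kernel

theorem val_facts :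
    qm e1 = 0 ∧ qm e2 = 0 ∧ qm e3 = 0 ∧ qm f1 = 0 ∧ qm f2 = 0 ∧ qm f3 = 0 ∧ qm n0 = 1 ∧ qm w0 = 1 ∧
      pol e0 e1 = 0 ∧ pol e0 e2 = 0 ∧ pol e1 e2 = 0 ∧ pol e1 f1 = 1 ∧ pol e2 f2 = 1 ∧ pol e0 n0 = 0 ∧
      pol e0 w0 = 0 ∧ pol w0 n0 = 1 ∧ pol e1 n0 = 0 ∧ pol e1 w0 = 0 := by
  decide +kernel

theorem we_St {w : List ℕ} (hw : wlt w = true) (hf : Nat.beq (app (wp w) 1) 1 = true) : we w ∈ St := by
  rw [MulAction.mem_stabilizer_iff, e0, we_smul hw (by norm_num), Nat.eq_of_beq_eq_true hf]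

theorem enc_we {w : List ℕ} (hw : wlt w = true) (v : V) : enc (we w • v) = app (wp w) (enc v) :=
  enc_osmul (we_cols hw) v

theorem st_coe {c : Ga} (hc : c ∈ St) : (c : OG) • e0 = e0 := hc

theorem rep_move {a : V} (ha : InP a) (h0 : a ≠ 0) :
    ∃ c ∈ St, nz (c • a) = if qm a = 0 then e1 else n0 := by
  have h := List.all_eq_true.mp rep_ok (enc a) (List.mem_range.mpr (enc_lt a))
  rw [(inP_enc a).1 ha] at h
  simp only [Bool.not_true, Bool.false_or, Bool.or_eq_true, List.any_eq_true, Bool.and_eq_true] at h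
  rcases h with h | ⟨w, -, ⟨⟨-, hw⟩, hf⟩, hr⟩
  · exact absurd (enc_injective ((Nat.eq_of_beq_eq_true h).trans enc_zero.symm)) h0
  refine ⟨we w.2, we_St hw hf, enc_injective ?_⟩
  rw [nz_enc, enc_we hw, Nat.eq_of_beq_eq_true hr, repOf]
  by_cases hq : qm a = 0
  · rw [if_pos hq, qm_eq_zero.1 hq]; exact (enc_vec 2 (by norm_num)).symm
  · rw [if_neg hq, show Nat.beq (qc (enc a)) 0 = false from
      Bool.eq_false_iff.2 fun e => hq (qm_eq_zero.2 (Nat.eq_of_beq_eq_true e))]
    exact (enc_vec 136 (by norm_num)).symm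

theorem line_move {v : V} (hp : pol e0 v = 0) (hq : qm v = 0) (h0 : v ≠ 0) (h1 : v ≠ e0) :
    ∃ c ∈ St, pol v (c • v) = 1 := by
  have h := List.all_eq_true.mp line_ok (enc v) (List.mem_range.mpr (enc_lt v))
  simp only [Bool.or_eq_true, List.any_eq_true, Bool.and_eq_true] at h
  rcases h with ((h | h) | h) | ⟨w, -, ⟨⟨-, hw⟩, hf⟩, hr⟩
  · rcases Nat.le_one_iff_eq_zero_or_eq_one.mp (Nat.le_of_ble_eq_true h) with e | e
    · exact absurd (enc_injective (e.trans enc_zero.symm)) h0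
    · exact absurd (enc_injective (e.trans e0_facts.2.2.symm)) h1
  · have hp' := pol_eq_zero.mp hp
    rw [e0_facts.2.2] at hp'
    have := Nat.eq_of_beq_eq_true h
    omega
  · have := Nat.eq_of_beq_eq_true h
    have := qm_eq_zero.mp hq
    omega
  exact ⟨we w.2, we_St hw hf, by rw [pol_enc, enc_we hw, Nat.eq_of_beq_eq_true hr, Nat.cast_one]⟩

theorem fix_only {c : V} (hc : InP c) (h : ∀ g ∈ St, nz (g • e1) = e1 → nz (g • c) = c) : c = 0 ∨ c = e1 := by
  have hf := fix_ok
  simp only [fixOK, Bool.and_eq_true, List.all_eq_true] at hf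
  have h2 := hf.2 (enc c) (List.mem_range.mpr (enc_lt c))
  rw [(inP_enc c).1 hc] at h2
  have h3 : (fixw.all fun w => Nat.beq (m1 (app (wp w) (enc c))) (enc c)) = true := by
    rw [List.all_eq_true]
    intro w hw
    obtain ⟨⟨h4, h5⟩, h6⟩ := hf.1 w hw
    have hg := h _ (we_St h4 h5) (enc_injective (by
      rw [nz_enc, enc_we h4, e1, enc_vec 2 (by norm_num)]; exact Nat.eq_of_beq_eq_true h6))
    have := congrArg enc hg
    rw [nz_enc, enc_we h4] at this
    rw [this]; exact Nat.beq_refl _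
  rw [h3] at h2
  simp only [Bool.not_true, Bool.false_or, Bool.or_eq_true] at h2
  rcases h2 with e | e
  · exact Or.inl (enc_injective ((Nat.eq_of_beq_eq_true e).trans enc_zero.symm))
  · exact Or.inr (enc_injective ((Nat.eq_of_beq_eq_true e).trans (enc_vec 2 (by norm_num)).symm))

theorem small_enc : ∀ v : V, enc v < 4 → v = 0 ∨ v = e0 ∨ v = e1 ∨ v = e0 + e1 := by decide +kernel

theorem u2_move {u : V} (hq : qm u = 0) (h0 : pol e0 u = 0) (h1 : pol e1 u = 0)
    (hs : u ≠ 0 ∧ u ≠ e0 ∧ u ≠ e1 ∧ u ≠ e0 + e1) :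
    ∃ c ∈ St, nz (c • e1) = e1 ∧ (nz (c • u) = e2 ∨ nz (c • u) = e2 + e1) := by
  have h := List.all_eq_true.mp u2_ok (enc u) (List.mem_range.mpr (enc_lt u))
  simp only [Bool.or_eq_true, List.any_eq_true, Bool.and_eq_true, sp2] at h
  have hp0 : pc (enc u) 1 = 0 := by
    have := pol_eq_zero.1 (show pol u e0 = 0 by rw [pol_comm']; exact h0)
    rwa [e0_facts.2.2] at this
  have hp1 : pc (enc u) 2 = 0 := by
    have := pol_eq_zero.1 (show pol u e1 = 0 by rw [pol_comm']; exact h1)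
    rwa [e1, enc_vec 2 (by norm_num)] at this
  rw [qm_eq_zero.1 hq, hp0, hp1] at h
  rcases h with (((h | h) | h) | h) | ⟨w, -, ⟨⟨⟨-, hw⟩, hf⟩, he⟩, hu⟩
  · cases h
  · cases h
  · cases h
  · rcases small_enc u (Nat.le_of_ble_eq_true h) with e | e | e | e
    exacts [absurd e hs.1, absurd e hs.2.1, absurd e hs.2.2.1, absurd e hs.2.2.2]
  refine ⟨we w.2, we_St hw hf, enc_injective ?_, ?_⟩
  · rw [nz_enc, enc_we hw, e1, enc_vec 2 (by norm_num)]; exact Nat.eq_of_beq_eq_true he
  have hlt : enc (we w.2 • u + e2) < 4 := by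
    rw [enc_add, enc_we hw, e2, enc_vec 4 (by norm_num)]; exact Nat.le_of_ble_eq_true hu
  have back : ∀ k, we w.2 • u + e2 = k → nz (we w.2 • u) = nz k + e2 := fun k e => by
    rw [← e, nz_add, nz_of_inP inP_facts.2.2.1, add_assoc, ZModModule.add_self, add_zero]
  rcases small_enc _ hlt with e | e | e | e
  · left; rw [back _ e, nz_of_inP inP_facts.1, zero_add]
  · left; rw [back _ e, nz_e0, zero_add]
  · right; rw [back _ e, nz_of_inP inP_facts.2.1, add_comm]
  · right; rw [back _ e, nz_add, nz_e0, nz_of_inP inP_facts.2.1, zero_add, add_comm]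

theorem v0_move {v : V} (h0 : pol e0 v = 0) (hq : qm v = 1) (hn : pol v n0 = 1) :
    ∃ c ∈ St, nz (c • n0) = n0 ∧ nz (c • v) = w0 := by
  have h := List.all_eq_true.mp v0_ok (enc v) (List.mem_range.mpr (enc_lt v))
  simp only [Bool.or_eq_true, List.any_eq_true, Bool.and_eq_true] at h
  rcases h with ((h | h) | h) | ⟨w, -, ⟨⟨⟨-, hw⟩, hf⟩, he⟩, hu⟩
  · have := pol_eq_zero.1 (show pol v e0 = 0 by rw [pol_comm']; exact h0)
    rw [e0_facts.2.2, Nat.eq_of_beq_eq_true h] at this
    cases this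
  · rw [qm_eq_zero.2 (Nat.eq_of_beq_eq_true h)] at hq; exact absurd hq zero_ne_one
  · rw [pol_enc, n0, enc_vec 136 (by norm_num), Nat.eq_of_beq_eq_true h, Nat.cast_zero] at hn
    exact absurd hn zero_ne_one
  refine ⟨we w.2, we_St hw hf, enc_injective ?_, enc_injective ?_⟩
  · rw [nz_enc, enc_we hw, n0, enc_vec 136 (by norm_num)]; exact Nat.eq_of_beq_eq_true he
  · rw [nz_enc, enc_we hw, w0, enc_vec 76 (by norm_num)]; exact Nat.eq_of_beq_eq_true hu

theorem adj_move {u : V} (h00 : u ≠ 0) (h01 : u ≠ e0) (hq : qm u = 0) (h0 : pol e0 u = 0) (hn : pol u n0 = 0)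
    (hw0 : pol u w0 = 0) : ∃ c ∈ St, nz (c • n0) = n0 ∧ nz (c • w0) = w0 ∧ c • u = e1 := by
  have h := List.all_eq_true.mp adj_ok (enc u) (List.mem_range.mpr (enc_lt u))
  simp only [Bool.or_eq_true, List.any_eq_true, Bool.and_eq_true] at h
  have h0' : pc (enc u) 1 = 0 := by
    have := pol_eq_zero.1 (show pol u e0 = 0 by rw [pol_comm']; exact h0)
    rwa [e0_facts.2.2] at this
  have hn' := pol_eq_zero.1 hn
  have hw' := pol_eq_zero.1 hw0
  rw [n0, enc_vec 136 (by norm_num)] at hn'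
  rw [w0, enc_vec 76 (by norm_num)] at hw'
  rw [qm_eq_zero.1 hq, h0', hn', hw'] at h
  rcases h with ((((h | h) | h) | h) | h) | ⟨w, -, ⟨⟨⟨⟨-, hw⟩, hf⟩, he⟩, hv⟩, hu⟩
  · rcases Nat.le_one_iff_eq_zero_or_eq_one.mp (Nat.le_of_ble_eq_true h) with e | e
    · exact absurd (enc_injective (e.trans enc_zero.symm)) h00
    · exact absurd (enc_injective (e.trans e0_facts.2.2.symm)) h01
  · cases h
  · cases h
  · cases h
  · cases h
  refine ⟨we w.2, we_St hw hf, enc_injective ?_, enc_injective ?_, enc_injective ?_⟩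
  · rw [nz_enc, enc_we hw, n0, enc_vec 136 (by norm_num)]; exact Nat.eq_of_beq_eq_true he
  · rw [nz_enc, enc_we hw, w0, enc_vec 76 (by norm_num)]; exact Nat.eq_of_beq_eq_true hv
  · rw [enc_we hw, e1, enc_vec 2 (by norm_num)]; exact Nat.eq_of_beq_eq_true hu

instance : DecidablePred InP := fun v => inferInstanceAs (Decidable (v (.inl 0) = 0 ∧ v (.inr 0) = 0))

/-- the element with a given parameter -/
noncomputable def R (a : V) : Ga := if h : InP a then (rad_exists h).choose else 1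

theorem R_spec {a : V} (h : InP a) :
    RadAt (R a : OG) ∧ param (R a : OG) = a ∧ IsCols (R a : OG) (radL (enc a)) := by
  rw [R, dif_pos h]; exact (rad_exists h).choose_spec

theorem R_zero : R (0 : V) = 1 := Subtype.ext (param_eq_zero (R_spec inP_facts.1).1 (R_spec inP_facts.1).2.1)

theorem R_eq {g : Ga} (h : RadAt (g : OG)) : g = R (param (g : OG)) :=
  Subtype.ext (rad_ext h (R_spec (param_inP h)).1 (R_spec (param_inP h)).2.1.symm)

theorem R_conj {c : Ga} (hc : c ∈ St) {a : V} (ha : InP a) : c * R a * c⁻¹ = R (nz (c • a)) := by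
  obtain ⟨h1, h2⟩ := rad_conj (st_coe hc) (R_spec ha).1
  rw [R_eq (g := c * R a * c⁻¹) h1, show param ((c * R a * c⁻¹ : Ga) : OG) = nz (c • a) from
    h2.trans (by rw [(R_spec ha).2.1]; rfl)]

theorem inP_add {a b : V} (ha : InP a) (hb : InP b) : InP (a + b) :=
  ⟨by rw [Pi.add_apply, ha.1, hb.1, add_zero], by rw [Pi.add_apply, ha.2, hb.2, add_zero]⟩

theorem R_mul {a b : V} (ha : InP a) (hb : InP b) : R a * R b = R (a + b) := by
  obtain ⟨h1, h2⟩ := rad_mul (R_spec ha).1 (R_spec hb).1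
  rw [R_eq (g := R a * R b) h1, show param ((R a * R b : Ga) : OG) = a + b from
    h2.trans (by rw [(R_spec ha).2.1, (R_spec hb).2.1])]

theorem R_sq {a : V} (ha : InP a) : R a * R a = 1 := Subtype.ext (rad_sq (R_spec ha).1)

theorem R_act {a : V} (ha : InP a) {v : V} (hv : pol e0 v = 0) : R a • v = v + pol v a • e0 := by
  have h := (rad_act (R_spec ha).1).1 v hv
  rwa [(R_spec ha).2.1] at h

theorem R_f0 {a : V} (ha : InP a) : R a • f0 = f0 + a + qm a • e0 := by
  have h := (rad_act (R_spec ha).1).2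
  rwa [(R_spec ha).2.1] at h

theorem R_e0 {a : V} (ha : InP a) : R a • e0 = e0 := (R_spec ha).1.1

/-- the first representative -/
noncomputable def sA : Ga := R e1
/-- the second representative -/
noncomputable def sC : Ga := R n0
/-- the Siegel element -/
noncomputable def Sg : Ga := we sgw

theorem Sg_cols : IsCols (Sg : OG) sgc := by
  have h := sg_ok
  simp only [sgOK, Bool.and_eq_true, beq_iff_eq] at h
  exact h.1.1.2 ▸ we_cols h.1.1.1

theorem Sg_sq : Sg * Sg = 1 := by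
  have h := sg_ok
  simp only [sgOK, Bool.and_eq_true, beq_iff_eq] at h
  exact Subtype.ext ((Sg_cols.mul Sg_cols).ext (h.1.2 ▸ IsCols.one))

theorem pol_cases (v w : V) : pol v w = 0 ∧ pc (enc v) (enc w) = 0 ∨ pol v w = 1 ∧ pc (enc v) (enc w) = 1 := by
  rw [pol_enc]
  have : pc (enc v) (enc w) < 2 := Nat.mod_lt _ (by norm_num)
  interval_cases pc (enc v) (enc w) <;> simp

theorem Sg_act (v : V) : Sg • v = v + pol v e2 • e1 + pol v e1 • e2 := by
  have h := List.all_eq_true.mp sgAct_ok (enc v) (List.mem_range.mpr (enc_lt v))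
  have E2 := pol_cases v e2
  have E1 := pol_cases v e1
  rw [e2, enc_vec 4 (by norm_num)] at E2
  rw [e1, enc_vec 2 (by norm_num)] at E1
  refine enc_injective ?_
  rw [← coe_smul, enc_osmul Sg_cols, Nat.eq_of_beq_eq_true h]
  rcases E2 with ⟨a, a'⟩ | ⟨a, a'⟩ <;> rcases E1 with ⟨b, b'⟩ | ⟨b, b'⟩ <;>
    rw [e1, e2, a, a', b, b'] <;>
    simp [enc_add, enc_zero, enc_vec 2 (by norm_num), enc_vec 4 (by norm_num)]

theorem Sg_fix : Sg • e0 = e0 ∧ Sg • e1 = e1 ∧ Sg • e2 = e2 ∧ Sg • f0 = f0 := by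
  refine ⟨?_, ?_, ?_, ?_⟩ <;> rw [Sg_act]
  · simp [val_facts.2.2.2.2.2.2.2.2.1, val_facts.2.2.2.2.2.2.2.2.2.1]
  · simp [pol_self, val_facts.2.2.2.2.2.2.2.2.2.2.1]
  · simp [pol_self, pol_comm' e2 e1, val_facts.2.2.2.2.2.2.2.2.2.2.1]
  · simp [pol_f0, inP_facts.2.1.1, inP_facts.2.2.1.1]

theorem Sg_conj : IsConj Sg sA := by
  have h := cA_ok
  simp only [cAOK, Bool.and_eq_true, beq_iff_eq] at h
  obtain ⟨hw, ⟨-, hm⟩, -⟩ := h
  have hA : IsCols (sA : OG) (radL 2) := by
    have := (R_spec inP_facts.2.1).2.2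
    rwa [show enc e1 = 2 from enc_vec 2 (by norm_num)] at this
  exact (isConj_iff.2 ⟨we cAw, conj_we hw hA Sg_cols hm⟩).symm

theorem cA_spec : ∃ c : Ga, c • e0 = e1 ∧ c * sA * c⁻¹ = Sg ∧ c • (e0 + e2) = e0 := by
  have h := cA_ok
  simp only [cAOK, Bool.and_eq_true, beq_iff_eq] at h
  obtain ⟨hw, ⟨h1, hm⟩, h5⟩ := h
  have hA : IsCols (sA : OG) (radL 2) := by
    have := (R_spec inP_facts.2.1).2.2
    rwa [show enc e1 = 2 from enc_vec 2 (by norm_num)] at this
  refine ⟨we cAw, enc_injective ?_, conj_we hw hA Sg_cols hm, enc_injective ?_⟩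
  · rw [enc_we hw, e0_facts.2.2, Nat.eq_of_beq_eq_true h1, e1, enc_vec 2 (by norm_num)]
  · rw [enc_we hw, enc_add, e0_facts.2.2, e2, enc_vec 4 (by norm_num)]
    exact (Nat.eq_of_beq_eq_true h5).trans e0_facts.2.2.symm

theorem swap_spec : ∃ c ∈ St, c • e1 = e1 ∧ c • e2 = f2 ∧ c • f2 = e2 ∧ c • n0 = n0 := by
  have h := swap_ok
  simp only [swapOK, Bool.and_eq_true] at h
  obtain ⟨hw, ⟨⟨⟨h1, h2⟩, h3⟩, h4⟩, h5⟩ := h
  refine ⟨we swapw, we_St hw h1, ?_, ?_, ?_, ?_⟩ <;> refine enc_injective ?_ <;> rw [enc_we hw]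
  · rw [e1, enc_vec 2 (by norm_num)]; exact Nat.eq_of_beq_eq_true h2
  · rw [e2, f2, enc_vec 4 (by norm_num), enc_vec 64 (by norm_num)]; exact Nat.eq_of_beq_eq_true h3
  · rw [e2, f2, enc_vec 4 (by norm_num), enc_vec 64 (by norm_num)]; exact Nat.eq_of_beq_eq_true h4
  · rw [n0, enc_vec 136 (by norm_num)]; exact Nat.eq_of_beq_eq_true h5

theorem pol_eq_polar (v w : V) : pol v w = QuadraticMap.polar (⇑QF) v w := by
  simp only [QuadraticMap.polar, coe_QF, pol, sub_eq_add_neg, ZModModule.neg_eq_self]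

theorem osmul_inv_pol (s : OG) (hs : s * s = 1) (u w : V) : pol (s • u) w = pol u (s • w) := by
  conv_lhs => rw [← osmul_pol s, ← mul_smul, hs, one_smul]

theorem img_perp {s : OG} (hs : s * s = 1) (u w : V) : pol (s • u + u) w = pol u (s • w + w) := by
  rw [pol_add_left, pol_add_right, osmul_inv_pol s hs]

theorem img_fix {s : OG} (hs : s * s = 1) (u : V) : s • (s • u + u) = s • u + u := by
  rw [osmul_add, ← mul_smul, hs, one_smul, add_comm]

theorem img_img {s : OG} (hs : s * s = 1) (u w : V) : pol (s • u + u) (s • w + w) = 0 := by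
  rw [img_perp hs, img_fix hs, ZModModule.add_self, pol_zero_right]

theorem qm_img {s : OG} (u : V) : qm (s • u + u) = pol (s • u) u := by
  rw [qm_add, osmul_qm, ZModModule.add_self, zero_add]

theorem exists_diag {s : OG} (hs : s * s = 1) :
    ∃ d : V, (∀ v, qm (s • v + v) = pol v d) ∧ s • d = d := by
  let φ : V →ₗ[ZMod 2] ZMod 2 := AddMonoidHom.toZModLinearMap 2 (AddMonoidHom.mk' (fun v => qm (s • v + v))
    fun v w => by rw [show s • (v + w) + (v + w) = (s • v + v) + (s • w + w) by rw [osmul_add]; abel, qm_add,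
      img_img hs, add_zero])
  obtain ⟨d, hd⟩ := ORefl.exists_polar QF_pnd φ
  have hd' : ∀ v, qm (s • v + v) = pol v d := fun v => by rw [pol_comm', pol_eq_polar, hd]; rfl
  refine ⟨d, hd', ?_⟩
  have hz : ∀ v, pol v (s • d + d) = 0 := fun v => by
    rw [pol_add_right, ← osmul_inv_pol s hs, ← hd', ← hd', ← mul_smul, hs, one_smul, add_comm v, ZModModule.add_self]
  have h0 : s • d + d = 0 := QF_pnd _ fun w => by rw [← pol_eq_polar, pol_comm', hz]
  rw [eq_neg_of_add_eq_zero_left h0, ZModModule.neg_eq_self]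

theorem mem_img {s : OG} (hs : s * s = 1) {d : V} (h : ∀ v, s • v = v → pol v d = 0) : ∃ u, s • u + u = d := by
  by_contra hn
  let H : Submodule (ZMod 2) V := LinearMap.range ((s.1 : V →ₗ[ZMod 2] V) + LinearMap.id)
  have hd : d ∉ H := by rintro ⟨u, hu⟩; exact hn ⟨u, hu⟩
  obtain ⟨v, hv, hv1⟩ := ORefl.exists_polar_sep QF_pnd hd 1
  have hfix : s • v = v := by
    have h0 : s • v + v = 0 := QF_pnd _ fun w => by
      rw [← pol_eq_polar, img_perp hs, pol_eq_polar]; exact hv _ ⟨w, rfl⟩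
    rw [eq_neg_of_add_eq_zero_left h0, ZModModule.neg_eq_self]
  rw [← pol_eq_polar, h v hfix] at hv1
  exact zero_ne_one hv1

theorem sA_type : ∀ v, qm (sA • v + v) = 0 := fun v => by
  obtain ⟨q1, -⟩ := val_facts
  obtain ⟨q0, -⟩ := basic
  have hw := split_f0 v
  set w := v + v (.inr 0) • f0 with hwd
  have hv : v = w + v (.inr 0) • f0 := by rw [hwd, add_assoc, ZModModule.add_self, add_zero]
  generalize v (.inr 0) = c at hv
  rw [hv, sA, smul_add', smul_smul', R_act inP_facts.2.1 hw, R_f0 inP_facts.2.1, q1, zero_smul, add_zero, smul_add,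
    show w + pol w e1 • e0 + (c • f0 + c • e1) + (w + c • f0) = pol w e1 • e0 + c • e1 + ((w + w) + (c • f0 + c • f0)) by abel,
    ZModModule.add_self, ZModModule.add_self, add_zero, add_zero, qm_add, qm_smul, qm_smul, q0, q1, pol_smul_left,
    pol_smul_right, val_facts.2.2.2.2.2.2.2.2.1]
  simp

theorem sC_diag : ∀ v, qm (sC • v + v) = pol v e0 := fun v => by
  have q1 : qm n0 = 1 := val_facts.2.2.2.2.2.2.1
  obtain ⟨q0, -⟩ := basic
  have hw := split_f0 v
  rw [pol_comm', pol_e0]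
  set w := v + v (.inr 0) • f0 with hwd
  have hv : v = w + v (.inr 0) • f0 := by rw [hwd, add_assoc, ZModModule.add_self, add_zero]
  generalize v (.inr 0) = c at hv ⊢
  rw [hv, sC, smul_add', smul_smul', R_act inP_facts.2.2.2.2.2.2.2.1 hw, R_f0 inP_facts.2.2.2.2.2.2.2.1, q1, one_smul,
    smul_add, smul_add,
    show w + pol w n0 • e0 + (c • f0 + c • n0 + c • e0) + (w + c • f0) =
      (pol w n0 • e0 + c • e0) + c • n0 + ((w + w) + (c • f0 + c • f0)) by abel,
    ZModModule.add_self, ZModModule.add_self, add_zero, add_zero, ← add_smul, qm_add, qm_smul, qm_smul, q0, q1,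
    pol_smul_left, pol_smul_right, val_facts.2.2.2.2.2.2.2.2.2.2.2.2.2.1]
  simp

theorem qm_conj (c s : Ga) (v : V) :
    qm ((c * s * c⁻¹) • v + v) = qm (s • (c⁻¹ • v) + c⁻¹ • v) := by
  conv_lhs => rw [show (c * s * c⁻¹) • v + v = c • (s • (c⁻¹ • v) + c⁻¹ • v) by
    rw [smul_add', smul_inv_smul, mul_smul, mul_smul], smul_qm]

theorem not_conj : ¬ IsConj sA sC := by
  intro h
  obtain ⟨c, hc⟩ := isConj_iff.1 h
  have e := sC_diag f0
  rw [← hc, qm_conj, sA_type, pol_comm', basic.2.2.1] at e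
  exact zero_ne_one e

/-- conjugate to an element trivial around the first point -/
def Small (s : Ga) : Prop := ∃ c : Ga, RadAt ((c * s * c⁻¹ : Ga) : OG)

theorem Small.conj {s : Ga} (h : Small s) (c : Ga) : Small (c * s * c⁻¹) := by
  obtain ⟨d, hd⟩ := h
  exact ⟨d * c⁻¹, by rwa [show d * c⁻¹ * (c * s * c⁻¹) * (d * c⁻¹)⁻¹ = d * s * d⁻¹ by group]⟩

theorem small_class {s : Ga} (h : Small s) : s = 1 ∨ IsConj s sA ∨ IsConj s sC := by
  obtain ⟨c, hc⟩ := h
  by_cases h0 : param ((c * s * c⁻¹ : Ga) : OG) = 0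
  · exact Or.inl (conj_eq_one_iff.1 (Subtype.ext (param_eq_zero hc h0)))
  obtain ⟨d, hd, hd'⟩ := rep_move (param_inP hc) h0
  have e : (d * c) * s * (d * c)⁻¹ = R (nz (d • param ((c * s * c⁻¹ : Ga) : OG))) := by
    rw [show (d * c) * s * (d * c)⁻¹ = d * (c * s * c⁻¹) * d⁻¹ by group]
    conv_lhs => rw [R_eq hc]
    exact R_conj hd (param_inP hc)
  rw [hd'] at e
  split_ifs at e
  · exact Or.inr (Or.inl (isConj_iff.2 ⟨_, e⟩))
  · exact Or.inr (Or.inr (isConj_iff.2 ⟨_, e⟩))

theorem sp_enc : ∀ v : V, enc v < 8 → ∃ x y t : ZMod 2, v = x • e0 + y • e1 + t • e2 := by decide +kernel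

theorem decomp {s : OG} (hs : s * s = 1) (h0 : s • e0 = e0) (hP : ∀ v, pol e0 v = 0 → qm (s • v + v) = 0) :
    ∃ c ∈ St, RadAt ((c : OG) * s * (c : OG)⁻¹) ∨
      ∃ a, InP a ∧ pol a e1 = 0 ∧ pol a e2 = 0 ∧ (c : OG) * s * (c : OG)⁻¹ = (Sg * R a : Ga) := by
  by_cases hall : ∀ v, pol e0 v = 0 → s • v + v = 0 ∨ s • v + v = e0
  · refine ⟨1, one_mem _, Or.inl ?_⟩
    rw [Subgroup.coe_one, one_mul, inv_one, mul_one]
    refine ⟨h0, fun v hv => ?_⟩
    rcases hall v hv with e | e
    · exact Or.inl (by rw [eq_neg_of_add_eq_zero_left e, ZModModule.neg_eq_self])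
    · exact Or.inr (by rw [← e, add_comm (s • v), ← add_assoc, ZModModule.add_self, zero_add])
  push Not at hall
  obtain ⟨v1, hv1, hne0, hne1⟩ := hall
  have p0img : ∀ v, pol e0 (s • v + v) = 0 := fun v => by
    rw [pol_comm', img_perp hs, h0, ZModModule.add_self, pol_zero_right]
  set u1 := s • v1 + v1 with hu1
  obtain ⟨v2, hv2, h12⟩ : ∃ v2, pol e0 v2 = 0 ∧ pol u1 v2 = 1 := by
    by_contra hn
    push Not at hn
    rcases perp_perp fun v hv => ((show ∀ b : ZMod 2, b ≠ 1 → b = 0 by decide) _ (hn v hv)) with e | e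
    exacts [hne0 e, hne1 e]
  have hu1ne : nz u1 ≠ 0 := fun e => ((nz_eq_iff u1).1 e).elim hne0 hne1
  obtain ⟨c1, hc1, e1'⟩ := rep_move (nz_inP (p0img v1)) hu1ne
  have hqn : qm (nz u1) = 0 := by
    rw [nz, qm_add, hP v1 hv1, qm_smul, basic.1, mul_zero, pol_smul_right, pol_comm', p0img, mul_zero, add_zero,
      add_zero]
  rw [if_pos hqn] at e1'
  set s1 := (c1 : OG) * s * (c1 : OG)⁻¹ with hs1d
  have himg1 : ∀ v : V, s1 • ((c1 : OG) • v) + (c1 : OG) • v = (c1 : OG) • (s • v + v) := fun v => by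
    rw [hs1d, osmul_add, mul_smul, mul_smul, inv_smul_smul]
  have hc1e : (c1 : OG) • e0 = e0 := st_coe hc1
  have hp1 : ∀ v, pol e0 ((c1 : OG) • v) = pol e0 v := fun v => by conv_lhs => rw [← hc1e, osmul_pol]
  have hnzc : ∀ (c : Ga), c ∈ St → ∀ v, nz (c • nz v) = nz (c • v) := fun c hc v => by
    rw [show nz v = v + v (.inl 0) • e0 from rfl, smul_add', smul_smul', show c • e0 = e0 from hc, nz_add,
      show nz (v (.inl 0) • e0) = 0 by
        rcases (show ∀ b : ZMod 2, b = 0 ∨ b = 1 by decide) (v (.inl 0)) with e | e <;> rw [e]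
        · rw [zero_smul, nz_of_inP inP_facts.1]
        · rw [one_smul, nz_e0], add_zero]
  rw [hnzc c1 hc1] at e1'
  obtain ⟨hqe1, -⟩ := val_facts
  set u2 := (c1 : OG) • (s • v2 + v2) with hu2
  have hu1' : pol e1 u2 = 0 := by
    rw [← e1', pol_comm', pol_nz (by rw [hu2, hp1, p0img]), hu2, coe_smul, smul_pol, pol_comm', img_img hs]
  have hu2ne : u2 ≠ 0 ∧ u2 ≠ e0 ∧ u2 ≠ e1 ∧ u2 ≠ e0 + e1 := by
    have hk : pol u2 ((c1 : OG) • v1) = 1 := by
      rw [hu2, osmul_pol, img_perp hs, pol_comm', ← hu1, h12]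
    have hk0 : pol e0 ((c1 : OG) • v1) = 0 := by rw [hp1, hv1]
    have hk1 : pol e1 ((c1 : OG) • v1) = 0 := by
      rw [← e1', pol_comm', pol_nz hk0, coe_smul, smul_pol, pol_comm', pol_add_left, pol_self,
        add_zero, ← qm_img]
      exact hP v1 hv1
    refine ⟨?_, ?_, ?_, ?_⟩ <;> intro e <;> rw [e] at hk
    · rw [pol_zero_left] at hk; exact zero_ne_one hk
    · rw [hk0] at hk; exact zero_ne_one hk
    · rw [hk1] at hk; exact zero_ne_one hk
    · rw [pol_add_left, hk0, hk1, add_zero] at hk; exact zero_ne_one hk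
  obtain ⟨c2, hc2, he1, he2⟩ := u2_move (by rw [hu2, osmul_qm, hP v2 hv2]) (by rw [hu2, hp1, p0img]) hu1' hu2ne
  set c := c2 * c1 with hcd
  have hc : c ∈ St := mul_mem hc2 hc1
  have hce : (c : OG) • e0 = e0 := st_coe hc
  set t := (c : OG) * s * (c : OG)⁻¹ with htd
  have ht : t * t = 1 := by rw [htd, conj_mul, hs]; group
  have ht0 : t • e0 = e0 := by
    rw [htd, mul_smul, mul_smul, show (c : OG)⁻¹ • e0 = e0 by rw [inv_smul_eq_iff, hce], h0, hce]
  have himg : ∀ v : V, t • ((c : OG) • v) + (c : OG) • v = (c : OG) • (s • v + v) := fun v => by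
    rw [htd, osmul_add, mul_smul, mul_smul, inv_smul_smul]
  have hpc : ∀ v, pol e0 ((c : OG) • v) = pol e0 v := fun v => by conv_lhs => rw [← hce, osmul_pol]
  have hP' : ∀ v, pol e0 v = 0 → qm (t • v + v) = 0 := fun v hv => by
    rw [show v = (c : OG) • ((c : OG)⁻¹ • v) from (smul_inv_smul _ _).symm, himg, osmul_qm]
    exact hP _ (by rw [← hpc, smul_inv_smul, hv])
  set w1 := (c : OG) • v1 with hw1
  have hw1p : pol e0 w1 = 0 := by rw [hw1, hpc, hv1]
  have hi1 : nz (t • w1 + w1) = e1 := by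
    rw [hw1, himg, ← hu1, hcd, coe_smul, mul_smul, ← hnzc c2 hc2, e1', he1]
  have hi2 : nz (t • ((c : OG) • v2) + (c : OG) • v2) = e2 ∨ nz (t • ((c : OG) • v2) + (c : OG) • v2) = e2 + e1 := by
    rw [himg, hcd, coe_smul, mul_smul]; exact he2
  obtain ⟨w2, hw2p, hi2⟩ : ∃ w2, pol e0 w2 = 0 ∧ nz (t • w2 + w2) = e2 := by
    rcases hi2 with e | e
    · exact ⟨_, by rw [hpc, hv2], e⟩
    · refine ⟨(c : OG) • v2 + w1, by rw [pol_add_right, hpc, hv2, hw1p, add_zero], ?_⟩
      rw [show t • ((c : OG) • v2 + w1) + ((c : OG) • v2 + w1) =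
        (t • ((c : OG) • v2) + (c : OG) • v2) + (t • w1 + w1) by rw [osmul_add]; abel, nz_add, e, hi1,
        add_assoc, ZModModule.add_self, add_zero]
  obtain ⟨-, -, -, -, -, -, -, -, p01, p02, p12, -⟩ := val_facts
  have pimg : ∀ v, pol e0 v = 0 → pol v e1 = pol w1 (t • v + v) ∧ pol v e2 = pol w2 (t • v + v) := fun v hv => by
    constructor
    · rw [← hi1, pol_nz hv, pol_comm', img_perp ht]
    · rw [← hi2, pol_nz hv, pol_comm', img_perp ht]
  have p0t : ∀ v, pol e0 (t • v + v) = 0 := fun v => by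
    rw [pol_comm', img_perp ht, ht0, ZModModule.add_self, pol_zero_right]
  have pe : ∀ v, pol (t • v + v) e1 = 0 ∧ pol (t • v + v) e2 = 0 := fun v => by
    constructor
    · rw [← hi1, pol_nz (p0t v), img_img ht]
    · rw [← hi2, pol_nz (p0t v), img_img ht]
  have hw11 : pol w1 e1 = 0 := by
    rw [← hi1, pol_nz hw1p, pol_comm', pol_add_left, pol_self, add_zero, ← qm_img]; exact hP' _ hw1p
  have hw22 : pol w2 e2 = 0 := by
    rw [← hi2, pol_nz hw2p, pol_comm', pol_add_left, pol_self, add_zero, ← qm_img]; exact hP' _ hw2p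
  have hw12 : pol w1 e2 = 1 := by
    have e : (c : OG) • (s • v2 + v2) + (c : OG) • (s • v2 + v2) = 0 := ZModModule.add_self _
    have h' : pol w1 ((c : OG) • (s • v2 + v2)) = 1 := by
      rw [hw1, osmul_pol, pol_comm', img_perp hs, pol_comm', ← hu1, h12]
    rw [← himg] at h'
    rcases he2 with e2' | e2'
    · rw [← e2', pol_nz hw1p, hu2, ← coe_smul, ← mul_smul, ← Subgroup.coe_mul, ← hcd, ← himg]; exact h'
    · have e3 : e2 = nz (c2 • u2) + e1 := by rw [e2', add_assoc, ZModModule.add_self, add_zero]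
      rw [e3, pol_add_right, hw11, add_zero, pol_nz hw1p, hu2, ← coe_smul, ← mul_smul, ← Subgroup.coe_mul, ← hcd,
        ← himg]
      exact h'
  have hw21 : pol w2 e1 = 1 := by
    rw [(pimg w2 hw2p).1, ← pol_nz hw1p, hi2, hw12]
  have htriv : ∀ v, pol e0 v = 0 → ∃ k : ZMod 2, t • v + v = pol v e2 • e1 + pol v e1 • e2 + k • e0 := by
    intro v hv
    set v' := v + pol v e2 • w1 + pol v e1 • w2 with hv'd
    have hv'0 : pol e0 v' = 0 := by
      rw [hv'd, pol_add_right, pol_add_right, pol_smul_right, pol_smul_right, hv, hw1p, hw2p]; simp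
    have hv'1 : pol v' e1 = 0 := by
      rw [hv'd, pol_add_left, pol_add_left, pol_smul_left, pol_smul_left, hw11, hw21, mul_zero, add_zero, mul_one,
        ZModModule.add_self]
    have hv'2 : pol v' e2 = 0 := by
      rw [hv'd, pol_add_left, pol_add_left, pol_smul_left, pol_smul_left, hw12, hw22, mul_zero, add_zero, mul_one,
        ZModModule.add_self]
    set x := t • v' + v' with hx
    have hx3 : enc x < 8 := by
      by_contra hx8
      have h' := List.all_eq_true.mp span_ok (enc x) (List.mem_range.mpr (enc_lt x))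
      have z0 : pc (enc x) 1 = 0 := by
        have := pol_eq_zero.1 (show pol x e0 = 0 by rw [pol_comm']; exact p0t v')
        rwa [e0_facts.2.2] at this
      have z1 : pc (enc x) 2 = 0 := by
        have := pol_eq_zero.1 (pe v').1; rwa [e1, enc_vec 2 (by norm_num)] at this
      have z2 : pc (enc x) 4 = 0 := by
        have := pol_eq_zero.1 (pe v').2; rwa [e2, enc_vec 4 (by norm_num)] at this
      rw [qm_eq_zero.1 (hP' v' hv'0), z0, z1, z2, show sp3 (enc x) = false from
        Bool.eq_false_iff.2 fun e => hx8 (Nat.le_of_ble_eq_true e)] at h'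
      simp only [Bool.or_eq_true, List.all_eq_true, List.mem_range] at h'
      have h'' : ∀ b < 256, _ := fun b hb => ((h'.resolve_left (by simp)) b hb)
      have hspan : ∀ y, enc y < 8 → pol v' y = 0 := fun y hy => by
        obtain ⟨a, b, d, rfl⟩ := sp_enc y hy
        rw [pol_add_right, pol_add_right, pol_smul_right, pol_smul_right, pol_smul_right, pol_comm' v' e0, hv'0, hv'1,
          hv'2]
        simp
      have hperp : ∀ w, pol e0 w = 0 → pol x w = 0 := by
        intro w hw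
        rw [hx, img_perp ht]
        set y := t • w + w with hy
        rcases h'' (enc y) (enc_lt y) with (((((h9 | h9) | h9) | h9) | h9) | h9) | h9
        · have := Nat.eq_of_beq_eq_true h9
          rw [qm_eq_zero.1 (hP' w hw)] at this; cases this
        · have := pol_eq_zero.1 (show pol y e0 = 0 by rw [pol_comm']; exact p0t w)
          rw [e0_facts.2.2, Nat.eq_of_beq_eq_true h9] at this; cases this
        · have := pol_eq_zero.1 (pe w).1
          rw [e1, enc_vec 2 (by norm_num), Nat.eq_of_beq_eq_true h9] at this; cases this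
        · have := pol_eq_zero.1 (pe w).2
          rw [e2, enc_vec 4 (by norm_num), Nat.eq_of_beq_eq_true h9] at this; cases this
        · have := pol_eq_zero.1 (img_img ht v' w)
          rw [Nat.eq_of_beq_eq_true h9] at this; cases this
        · exact hspan y (Nat.le_of_ble_eq_true h9)
        · have e := hspan (x + y) (by rw [enc_add]; exact Nat.le_of_ble_eq_true h9)
          rwa [pol_add_right, hx, pol_comm' v' (t • v' + v'), pol_add_left, pol_self, add_zero, ← qm_img,
            hP' v' hv'0, zero_add] at e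
      rcases perp_perp hperp with e | e <;> rw [e] at hx8
      · exact hx8 (by rw [enc_zero]; norm_num)
      · exact hx8 (by rw [e0_facts.2.2]; norm_num)
    obtain ⟨k, b, d, hk⟩ := sp_enc x hx3
    have hd : d = 0 := by
      have e := (pimg v' hv'0).1
      rw [← hx, hk, hv'1, pol_add_right, pol_add_right, pol_smul_right, pol_smul_right, pol_smul_right,
        pol_comm' w1 e0, hw1p, hw11, hw12] at e
      simpa using e.symm
    have hb : b = 0 := by
      have e := (pimg v' hv'0).2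
      rw [← hx, hk, hv'2, pol_add_right, pol_add_right, pol_smul_right, pol_smul_right, pol_smul_right,
        pol_comm' w2 e0, hw2p, hw21, hw22] at e
      simpa using e.symm
    subst hd hb
    rw [zero_smul, zero_smul, add_zero, add_zero] at hk
    have n1 : t • w1 + w1 = e1 + (t • w1 + w1) (.inl 0) • e0 := by
      rw [← hi1, nz, add_assoc, ZModModule.add_self, add_zero]
    have n2 : t • w2 + w2 = e2 + (t • w2 + w2) (.inl 0) • e0 := by
      rw [← hi2, nz, add_assoc, ZModModule.add_self, add_zero]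
    generalize (t • w1 + w1) (.inl 0) = a1 at n1
    generalize (t • w2 + w2) (.inl 0) = a2 at n2
    refine ⟨k + pol v e2 * a1 + pol v e1 * a2, ?_⟩
    have hv : v = v' + pol v e2 • w1 + pol v e1 • w2 := by
      rw [hv'd, show v + pol v e2 • w1 + pol v e1 • w2 + pol v e2 • w1 + pol v e1 • w2 =
        v + (pol v e2 • w1 + pol v e2 • w1) + (pol v e1 • w2 + pol v e1 • w2) by abel, ZModModule.add_self,
        ZModModule.add_self, add_zero, add_zero]
    generalize pol v e2 = p at hv ⊢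
    generalize pol v e1 = q at hv ⊢
    clear_value x
    clear_value v'
    rw [hv, osmul_add, osmul_add, osmul_smul, osmul_smul,
      show t • v' + p • (t • w1) + q • (t • w2) + (v' + p • w1 + q • w2) =
        (t • v' + v') + p • (t • w1 + w1) + q • (t • w2 + w2) by rw [smul_add, smul_add]; abel,
      ← hx, hk, n1, n2, smul_add, smul_add, smul_smul, smul_smul, add_smul, add_smul]
    abel
  obtain ⟨s0, se1, se2, -⟩ := Sg_fix
  have hr : RadAt ((Sg : OG) * t) := by
    refine ⟨by rw [mul_smul, ht0, coe_smul, s0], fun v hv => ?_⟩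
    obtain ⟨k, hk⟩ := htriv v hv
    have hk' : t • v = v + (pol v e2 • e1 + pol v e1 • e2 + k • e0) := by
      rw [← hk, add_comm (t • v), ← add_assoc, ZModModule.add_self, zero_add]
    have e : ((Sg : OG) * t) • v = v + k • e0 := by
      rw [mul_smul, hk', coe_smul, smul_add', smul_add', smul_add', smul_smul', smul_smul', smul_smul', s0, se1, se2,
        Sg_act v, show v + pol v e2 • e1 + pol v e1 • e2 + (pol v e2 • e1 + pol v e1 • e2 + k • e0) =
          v + k • e0 + ((pol v e2 • e1 + pol v e2 • e1) + (pol v e1 • e2 + pol v e1 • e2)) by abel,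
        ZModModule.add_self, ZModModule.add_self, add_zero, add_zero]
    rcases (show ∀ b : ZMod 2, b = 0 ∨ b = 1 by decide) k with rfl | rfl
    · exact Or.inl (by rw [e, zero_smul, add_zero])
    · exact Or.inr (by rw [e, one_smul])
  set a := param ((Sg : OG) * t) with had
  have ha := param_inP hr
  have heq : t = ((Sg * R a : Ga) : OG) := by
    rw [Subgroup.coe_mul, rad_ext (R_spec ha).1 hr (R_spec ha).2.1, ← mul_assoc, ← Subgroup.coe_mul, Sg_sq,
      Subgroup.coe_one, one_mul]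
  have hcm : Sg * R a * (Sg * R a) = 1 := Subtype.ext (by rw [Subgroup.coe_mul, ← heq, ht]; rfl)
  have hfixa : nz (Sg • a) = a := by
    have e1' : R (nz (Sg • a)) = R a := by
      rw [← R_conj (show Sg ∈ St from s0) ha]
      have : Sg * R a * Sg⁻¹ * R a = 1 := by rw [inv_eq_of_mul_eq_one_right Sg_sq]; rwa [mul_assoc _ Sg]
      rw [eq_inv_of_mul_eq_one_left this, inv_eq_of_mul_eq_one_right (R_sq ha)]
    have := congrArg (fun g : Ga => param (g : OG)) e1'
    rwa [(R_spec ha).2.1, (R_spec (nz_inP (by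
      rw [show pol e0 (Sg • a) = pol e0 a by conv_lhs => rw [← s0, smul_pol]]; exact (inP_perp ha).1))).2.1] at this
  have hlin : ∀ x y : ZMod 2, nz (x • e1 + y • e2) = 0 → x = 0 ∧ y = 0 := by decide +kernel
  rw [Sg_act, show a + pol a e2 • e1 + pol a e1 • e2 = a + (pol a e2 • e1 + pol a e1 • e2) by abel, nz_add,
    nz_of_inP ha, add_eq_left] at hfixa
  obtain ⟨h2', h1'⟩ := hlin _ _ hfixa
  exact ⟨c, hc, Or.inr ⟨a, ha, h1', h2', heq⟩⟩

end Cfsg.Agent.Spor.CoT
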