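import Cfsg.Agent.Lib.Spor.CoTypeCore

/-!
Groups of Conway type: the part of the subgroup of a second conjugate of the central involution inside the
centraliser of the first one, and its image.
-/

set_option autoImplicit false
set_option maxRecDepth 100000
set_option linter.unusedSectionVars false

namespace Cfsg.Agent.Spor.CoT

theorem inP_count :
    (Finset.univ.filter fun v : V => InP v).card = 64 ∧
      (Finset.univ.filter fun v : V => InP v ∧ qm v = 0 ∧ v ≠ 0).card = 35 ∧
      (Finset.univ.filter fun v : V => InP v ∧ qm v = 1).card = 28 := by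
  decide +kernel

theorem coord_e0 : e0 (.inl 0) = 1 := basic.2.2.2.1

theorem nz_qm {v : V} (h : pol e0 v = 0) : qm (nz v) = qm v := by
  rw [nz, qm_add, qm_smul, basic.1, mul_zero, pol_smul_right, pol_comm', h, mul_zero, add_zero, add_zero]

universe u

variable {G : Type u} [Group G] [Finite G] {z : G} {Q : Subgroup G} (F : Frame z Q)
include F

theorem InQ.comm_or {a b c : G} (hb : InQ z Q a b) (h : Hyp z Q) (hc : InQ z Q a c) :
    c * b = b * c ∨ c * b = b * c * a := by
  obtain ⟨g, hg, hb⟩ := hb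
  have hc := (inQ_iff h hg).1 hc
  rcases F.comm_or _ hb _ hc with e | e
  · left
    calc c * b = g * (g⁻¹ * c * g * (g⁻¹ * b * g)) * g⁻¹ := by group
      _ = b * c := by rw [e]; group
  · right
    calc c * b = g * (g⁻¹ * c * g * (g⁻¹ * b * g)) * g⁻¹ := by group
      _ = b * c * a := by rw [e, ← hg]; group

variable {x : G}

theorem sect (h : Hyp z Q) (B : Base F x) {a : G} (ha : a ∈ Q) (hax : InQ z Q x a) :
    a = 1 ∨ a = z ∨ a = x ∨ a = x * z := by
  have hsq : ∀ b ∈ Q, InQ z Q x b → b * b = 1 := fun b hb hbx => by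
    rcases F.sq_or b hb with e | e
    · exact e
    rcases InQ.sq F hbx with e' | e'
    · exact e'
    · exact absurd (e'.symm.trans e) B.nez
  have hcomm : ∀ b ∈ Q, InQ z Q x b → Commute a b := fun b hb hbx => by
    rcases F.comm_or a ha b hb with e | e
    · exact e.symm
    rcases InQ.comm_or F hax h hbx with e' | e'
    · exact e'.symm
    · exact absurd (mul_left_cancel (e'.symm.trans e)) B.nez
  by_cases h0 : F.vec a = 0
  · rcases (F.vec_zero a ha).1 h0 with e | e
    exacts [Or.inl e, Or.inr (Or.inl e)]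
  by_cases h1 : F.vec a = e0
  · rcases vec_eq F ha B.mem h (h1.trans B.vec.symm) with e | e
    exacts [Or.inr (Or.inr (Or.inl e)), Or.inr (Or.inr (Or.inr e))]
  exfalso
  have hq : qm (F.vec a) = 0 := (F.sq_iff a ha).1 (hsq a ha hax)
  have hp : pol e0 (F.vec a) = 0 := by
    rw [← B.vec]; exact (F.comm_iff x B.mem a ha).1 (hax.commute h).symm
  obtain ⟨g, hg, hne⟩ := line_move hp hq h0 h1
  obtain ⟨c, hc, hcx⟩ := move F h B.mem B.mem (by rw [B.vec]; exact e0_facts.1) (g := g)
    (by rw [B.vec]; exact hg)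
  have hbQ : (c : G) * a * (c : G)⁻¹ ∈ Q := h.norm c (mem_C.1 c.2) a ha
  have hbx : InQ z Q x ((c : G) * a * (c : G)⁻¹) := hax.conj' (mul_inv_eq_iff_eq_mul.1 hcx)
  have hv : F.vec ((c : G) * a * (c : G)⁻¹) = g • F.vec a := by rw [F.vec_conj c a ha, hc]
  have hpp := (F.comm_iff a ha _ hbQ).1 (hcomm _ hbQ hbx)
  rw [hv, hne] at hpp
  exact one_ne_zero hpp

theorem card_centQ (h : Hyp z Q) (B : Base F x) :
    256 ≤ Nat.card ↥(Q ⊓ Subgroup.centralizer ({x} : Set G)) := by
  classical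
  obtain ⟨q1, hq1, h1⟩ := swap F h B.mem (by rw [B.vec]; exact e0_facts.1)
  have hstep : ∀ q : Q, ¬ Commute (q : G) x → Commute (q1⁻¹ * q) x := fun q hq => by
    have e : (q : G) * x = x * q * z := (F.comm_or x B.mem q q.2).resolve_left hq
    have e1 : q1 * x = x * z * q1 := mul_inv_eq_iff_eq_mul.1 h1
    calc q1⁻¹ * (q : G) * x = q1⁻¹ * ((q : G) * x) := mul_assoc _ _ _
      _ = q1⁻¹ * (x * z * q1) * q1⁻¹ * q := by rw [e, mul_assoc x, (Qz h q.2).eq]; group
      _ = x * (q1⁻¹ * q) := by rw [← e1]; group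
  let f : Q → ↥(Q ⊓ Subgroup.centralizer ({x} : Set G)) × Bool := fun q =>
    if hq : Commute (q : G) x then (⟨q, q.2, Subgroup.mem_centralizer_singleton_iff.2 hq⟩, true)
    else (⟨q1⁻¹ * q, Q.mul_mem (Q.inv_mem hq1) q.2, Subgroup.mem_centralizer_singleton_iff.2 (hstep q hq)⟩, false)
  have hf : Function.Injective f := fun a b e => by
    have e1 := congrArg (fun p => ((p.1 : ↥(Q ⊓ Subgroup.centralizer ({x} : Set G))) : G)) e
    have e2 := congrArg Prod.snd e
    simp only [f] at e1 e2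
    split_ifs at e1 e2 <;> first | exact Subtype.ext e1 | exact Subtype.ext (mul_left_cancel e1)
  have := Nat.card_le_card_of_injective f hf
  rw [h.card, Nat.card_prod, Nat.card_eq_fintype_card (α := Bool), Fintype.card_bool] at this
  omega

theorem exists_swap (h : Hyp z Q) (B : Base F x) :
    ∃ t : G, t * x * t⁻¹ = z ∧ t * z * t⁻¹ = x := by
  obtain ⟨g, hg⟩ := isConj_iff.1 B.conj
  have hy := (inQ_iff h hg).1 (base_mem F h B)
  have hyy : g⁻¹ * z * g * (g⁻¹ * z * g) = 1 := by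
    rw [show g⁻¹ * z * g * (g⁻¹ * z * g) = g⁻¹ * (z * z) * g by group, zz h]; group
  have hy1 : g⁻¹ * z * g ≠ 1 := fun e => z_ne h (by rw [show z = g * (g⁻¹ * z * g) * g⁻¹ by group, e]; group)
  have hyz : g⁻¹ * z * g ≠ z := fun e => B.nez (by
    rw [← hg]
    calc g * z * g⁻¹ = g * (g⁻¹ * z * g) * g⁻¹ := by rw [e]
      _ = z := by group)
  obtain ⟨c, hc⟩ := move_sing F h hy hyy hy1 hyz B.mem B.sq B.ne1 B.nez
  refine ⟨(c : G) * g⁻¹, ?_, ?_⟩
  · rw [← hg, show (c : G) * g⁻¹ * (g * z * g⁻¹) * ((c : G) * g⁻¹)⁻¹ = (c : G) * z * (c : G)⁻¹ by group,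
      (mem_C.1 c.2).eq, mul_inv_cancel_right]
  · conv_rhs => rw [← hc]
    group

theorem radAt (h : Hyp z Q) (B : Base F x) {m : Subgroup.centralizer ({z} : Set G)} (hm : InQ z Q x m) :
    RadAt (F.π m : OG) := by
  have hmx : Commute (m : G) x := hm.commute h
  refine ⟨?_, fun v hv => ?_⟩
  · rw [coe_smul, ← B.vec, ← F.vec_conj m x B.mem, hmx.eq, mul_inv_cancel_right]
  rw [coe_smul]
  obtain ⟨a, ha, rfl⟩ := F.vec_surj v
  have hax : Commute a x := ((F.comm_iff x B.mem a ha).2 (by rw [B.vec]; exact hv)).symm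
  have hcQ := h.norm m (mem_C.1 m.2) a ha
  have hx' : InQ z Q x ((m : G) * (a * (m : G)⁻¹ * a⁻¹)) := hm.mul h (hm.inv.conj' hax)
  rw [show (m : G) * (a * (m : G)⁻¹ * a⁻¹) = (m : G) * a * (m : G)⁻¹ * a⁻¹ by group] at hx'
  have hv' : F.vec ((m : G) * a * (m : G)⁻¹ * a⁻¹) = F.π m • F.vec a + F.vec a := by
    rw [F.vec_mul _ hcQ _ (inv_mem ha), vec_inv F h ha, F.vec_conj m a ha]
  have h2 : F.vec ((m : G) * a * (m : G)⁻¹ * a⁻¹) = 0 ∨ F.vec ((m : G) * a * (m : G)⁻¹ * a⁻¹) = e0 := by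
    rcases sect F h B (mul_mem hcQ (inv_mem ha)) hx' with e | e | e | e <;> rw [e]
    · exact Or.inl (vec_one F h)
    · exact Or.inl ((F.vec_zero z (zQ h)).2 (Or.inr rfl))
    · exact Or.inr B.vec
    · exact Or.inr ((vec_mul_z F h B.mem).trans B.vec)
  rw [hv'] at h2
  rcases h2 with e | e
  · exact Or.inl (by rw [eq_neg_of_add_eq_zero_left e, ZModModule.neg_eq_self])
  · refine Or.inr ?_
    rw [← e, add_comm, add_assoc, ZModModule.add_self, add_zero]

theorem xz_sq (h : Hyp z Q) (B : Base F x) : x * z * (x * z) = 1 := by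
  rw [show x * z * (x * z) = x * (z * x) * z by group, ← (Qz h B.mem).eq,
    show x * (x * z) * z = x * x * (z * z) by group, B.sq, zz h, mul_one]

theorem inQ_swap (h : Hyp z Q) {t : G} (ht1 : t * x * t⁻¹ = z) (b : G) :
    InQ z Q x b ↔ t * b * t⁻¹ ∈ Q := by
  have hti : t⁻¹ * z * t⁻¹⁻¹ = x := by
    calc t⁻¹ * z * t⁻¹⁻¹ = t⁻¹ * (t * x * t⁻¹) * t := by rw [ht1, inv_inv]
      _ = x := by group
  rw [inQ_iff h hti, inv_inv]

theorem swap_comm {t : G} (ht2 : t * z * t⁻¹ = x) (m : G) : Commute m z ↔ Commute (t * m * t⁻¹) x := by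
  rw [← ht2]; exact (Commute.conj_iff t).symm

theorem rad_surj (h : Hyp z Q) (B : Base F x) {r : Ga} (hr : RadAt (r : OG)) :
    ∃ m : Subgroup.centralizer ({z} : Set G), InQ z Q x m ∧ F.π m = r := by
  classical
  obtain ⟨t, ht1, ht2⟩ := exists_swap F h B
  let M : Subgroup (Subgroup.centralizer ({z} : Set G)) :=
    { carrier := {c | InQ z Q x c}
      one_mem' := (inQ_swap F h ht1 _).2 (by simp)
      mul_mem' := fun ha hb => InQ.mul h ha hb
      inv_mem' := fun ha => InQ.inv ha }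
  let f := F.π.comp M.subtype
  have hker : Nat.card f.ker ≤ 4 := by
    let g : f.ker → ({1, z, x, x * z} : Finset G) := fun m => ⟨((m : M) : Subgroup.centralizer ({z} : Set G)), by
      have hQ := (F.π_ker ((m : M) : Subgroup.centralizer ({z} : Set G))).1 m.2
      simpa using sect F h B hQ (m : M).2⟩
    refine (Nat.card_le_card_of_injective g fun a b e => ?_).trans ?_
    · have e' := congrArg (fun p : ({1, z, x, x * z} : Finset G) => (p : G)) e
      exact Subtype.ext (Subtype.ext (Subtype.ext e'))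
    · rw [Nat.card_eq_fintype_card, Fintype.card_coe]
      exact Finset.card_le_four
  have hM : 256 ≤ Nat.card M := by
    refine (card_centQ F h B).trans (Nat.card_le_card_of_injective (fun q =>
      (⟨⟨t⁻¹ * (q : G) * t, mem_C.2 ?_⟩, ?_⟩ : M)) fun a b e => ?_)
    · rw [swap_comm F ht2, show t * (t⁻¹ * (q : G) * t) * t⁻¹ = q by group]
      exact Subgroup.mem_centralizer_singleton_iff.1 q.2.2
    · show InQ z Q x (t⁻¹ * (q : G) * t)
      rw [inQ_swap F h ht1, show t * (t⁻¹ * (q : G) * t) * t⁻¹ = q by group]; exact q.2.1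
    · exact Subtype.ext (mul_left_cancel (mul_right_cancel (congrArg (fun m : M => ((m : Subgroup.centralizer ({z} : Set G)) : G)) e)))
  have hrange : 64 ≤ Nat.card f.range := by
    have h1 := Subgroup.card_eq_card_quotient_mul_card_subgroup f.ker
    rw [Nat.card_congr (QuotientGroup.quotientKerEquivRange f).toEquiv] at h1
    have h2 := Nat.mul_le_mul_left (Nat.card f.range) hker
    omega
  have hsub : (f.range : Set Ga) ⊆ {g : Ga | RadAt (g : OG)} := by
    rintro _ ⟨m, rfl⟩; exact radAt F h B m.2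
  have hle : Nat.card {g : Ga // RadAt (g : OG)} ≤ 64 := by
    refine (Nat.card_le_card_of_injective (fun g : {g : Ga // RadAt (g : OG)} =>
      (⟨param (g.1 : OG), Finset.mem_filter.2 ⟨Finset.mem_univ _, param_inP g.2⟩⟩ :
        {v // v ∈ Finset.univ.filter fun v : V => InP v})) fun a b e => ?_).trans ?_
    · exact Subtype.ext (Subtype.ext (rad_ext a.2 b.2 (congrArg Subtype.val e)))
    · rw [Nat.card_eq_fintype_card, Fintype.card_coe, inP_count.1]
  have heq := Set.eq_of_subset_of_ncard_le hsub (by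
    rw [← Nat.card_coe_set_eq, ← Nat.card_coe_set_eq]
    exact hle.trans hrange) (Set.toFinite _)
  have : r ∈ (f.range : Set Ga) := by rw [heq]; exact hr
  obtain ⟨m, hm⟩ := this
  exact ⟨m, m.2, hm⟩

theorem exists_M (h : Hyp z Q) (B : Base F x) {a : V} (ha : InP a) :
    ∃ m : Subgroup.centralizer ({z} : Set G), InQ z Q x m ∧ F.π m = R a :=
  rad_surj F h B (R_spec ha).1

theorem back {t : G} (h : Hyp z Q) (B : Base F x) (ht1 : t * x * t⁻¹ = z) (ht2 : t * z * t⁻¹ = x) {a : G}
    (ha : a ∈ Q) (hv : F.vec a = 0 ∨ F.vec a = e0) : t⁻¹ * a * t ∈ Q := by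
  have hz' : t⁻¹ * z * t ∈ Q := by
    rw [← ht1, show t⁻¹ * (t * x * t⁻¹) * t = x by group]; exact B.mem
  have hx' : t⁻¹ * x * t ∈ Q := by
    rw [← ht2, show t⁻¹ * (t * z * t⁻¹) * t = z by group]; exact zQ h
  rcases hv with e | e
  · rcases (F.vec_zero a ha).1 e with rfl | rfl
    · simp
    · exact hz'
  · rcases vec_eq F ha B.mem h (e.trans B.vec.symm) with rfl | rfl
    · exact hx'
    · rw [show t⁻¹ * (x * z) * t = t⁻¹ * x * t * (t⁻¹ * z * t) by group]; exact mul_mem hx' hz'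

theorem sq_iff_param (h : Hyp z Q) (B : Base F x) {m : Subgroup.centralizer ({z} : Set G)} (hm : InQ z Q x m) :
    (m : G) * m = 1 ↔ qm (param (F.π m : OG)) = 0 := by
  classical
  obtain ⟨t, ht1, ht2⟩ := exists_swap F h B
  have hex : ∀ a : V, ∃ n : Subgroup.centralizer ({z} : Set G), InP a → InQ z Q x n ∧ F.π n = R a := fun a => by
    by_cases ha : InP a
    · obtain ⟨n, hn⟩ := exists_M F h B ha; exact ⟨n, fun _ => hn⟩
    · exact ⟨1, fun h' => absurd h' ha⟩
  choose n hn using hex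
  let q : Subgroup.centralizer ({z} : Set G) → G := fun k => t * (k : G) * t⁻¹
  let w : Subgroup.centralizer ({z} : Set G) → V := fun k => nz (F.vec (q k))
  have hq : ∀ k : Subgroup.centralizer ({z} : Set G), InQ z Q x k → q k ∈ Q ∧ pol e0 (F.vec (q k)) = 0 := by
    intro k hk
    have hkQ := (inQ_swap F h ht1 _).1 hk
    refine ⟨hkQ, ?_⟩
    rw [← B.vec]
    exact (F.comm_iff x B.mem _ hkQ).1 ((swap_comm F ht2 _).1 (mem_C.1 k.2)).symm
  have hsq : ∀ k : Subgroup.centralizer ({z} : Set G), InQ z Q x k → ((k : G) * k = 1 ↔ qm (w k) = 0) := by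
    intro k hk
    rw [show qm (w k) = qm (F.vec (q k)) from nz_qm (hq k hk).2, ← F.sq_iff _ (hq k hk).1]
    show _ ↔ t * (k : G) * t⁻¹ * (t * (k : G) * t⁻¹) = 1
    rw [conj_mul, conj_eq_one_iff]
  have hwP : ∀ k : Subgroup.centralizer ({z} : Set G), InQ z Q x k → InP (w k) := fun k hk => nz_inP (hq k hk).2
  have hdiff : ∀ k k' : Subgroup.centralizer ({z} : Set G), InQ z Q x k → InQ z Q x k' → w k = w k' →
      param (F.π k : OG) = param (F.π k' : OG) := by
    intro k k' hk hk' e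
    have hv : F.vec (q k * q k') = F.vec (q k) + F.vec (q k') := F.vec_mul _ (hq k hk).1 _ (hq k' hk').1
    have hb := back F h B ht1 ht2 (mul_mem (hq k hk).1 (hq k' hk').1) (by
      rw [hv]
      refine (nz_eq_iff _).1 ?_
      rw [nz_add]
      show w k + w k' = 0
      rw [e, ZModModule.add_self])
    rw [show t⁻¹ * (t * (k : G) * t⁻¹ * (t * (k' : G) * t⁻¹)) * t = (k : G) * k' by group] at hb
    have h1 : F.π k * F.π k' = 1 := by rw [← map_mul]; exact (F.π_ker _).2 hb
    have h2 := (rad_mul (radAt F h B hk) (radAt F h B hk')).2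
    rw [← Subgroup.coe_mul, h1, Subgroup.coe_one, rad_one.2] at h2
    rw [eq_neg_of_add_eq_zero_left h2.symm, ZModModule.neg_eq_self]
  have hpar : ∀ a, InP a → param (F.π (n a) : OG) = a := fun a ha => by rw [(hn a ha).2]; exact (R_spec ha).2.1
  have hinj : ∀ a b, InP a → InP b → w (n a) = w (n b) → a = b := fun a b ha hb e => by
    rw [← hpar a ha, ← hpar b hb]; exact hdiff _ _ (hn a ha).1 (hn b hb).1 e
  have hw1 : ∀ k : Subgroup.centralizer ({z} : Set G), InQ z Q x k → w k = 0 → param (F.π k : OG) = 0 := by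
    intro k hk e
    have h1 : InQ z Q x (1 : Subgroup.centralizer ({z} : Set G)) := (inQ_swap F h ht1 _).2 (by simp)
    have := hdiff k 1 hk h1 (by
      rw [e]
      show 0 = nz (F.vec (t * ((1 : Subgroup.centralizer ({z} : Set G)) : G) * t⁻¹))
      simp [vec_one F h, nz_of_inP inP_facts.1])
    rw [this, map_one]; exact rad_one.2
  -- squares only depend on the class of the parameter
  have hinv : ∀ k k' : Subgroup.centralizer ({z} : Set G), InQ z Q x k → InQ z Q x k' →
      param (F.π k : OG) = param (F.π k' : OG) → ((k : G) * k = 1 ↔ (k' : G) * k' = 1) := by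
    intro k k' hk hk' e
    have hd : (k : G)⁻¹ * k' ∈ Q := (F.π_ker (k⁻¹ * k')).1 (by
      rw [map_mul, map_inv, show F.π k = F.π k' from Subtype.ext (rad_ext (radAt F h B hk) (radAt F h B hk') e),
        inv_mul_cancel])
    have hx : InQ z Q x ((k : G)⁻¹ * k') := hk.inv.mul h hk'
    have hc : ∀ i, (i = 1 ∨ i = z ∨ i = x ∨ i = x * z) → Commute i (k : G) ∧ i * i = 1 := by
      intro i hi
      have c1 : Commute z (k : G) := (mem_C.1 k.2).symm
      have c2 : Commute x (k : G) := (hk.commute h).symm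
      rcases hi with rfl | rfl | rfl | rfl
      · exact ⟨Commute.one_left _, mul_one _⟩
      · exact ⟨c1, zz h⟩
      · exact ⟨c2, B.sq⟩
      · exact ⟨c2.mul_left c1, xz_sq F h B⟩
    obtain ⟨c1, c2⟩ := hc _ (sect F h B hd hx)
    have e2 : (k' : G) * k' = (k : G) * k := by
      calc (k' : G) * k' = (k : G) * ((k : G)⁻¹ * k') * ((k : G) * ((k : G)⁻¹ * k')) := by group
        _ = (k : G) * k * (((k : G)⁻¹ * k') * ((k : G)⁻¹ * k')) := c1.mul_mul_mul_comm _ _
        _ = (k : G) * k := by rw [c2, mul_one]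
    rw [e2]
  have hcls : ∀ a b, InP a → InP b → a ≠ 0 → b ≠ 0 → qm a = qm b →
      ((n a : G) * n a = 1 ↔ (n b : G) * n b = 1) := by
    intro a b ha hb ha0 hb0 e
    obtain ⟨c, hc, hca⟩ := rep_move ha ha0
    obtain ⟨d, hd, hdb⟩ := rep_move hb hb0
    rw [e] at hca
    obtain ⟨k, hk, hkx⟩ := move F h B.mem B.mem (by rw [B.vec]; exact e0_facts.1) (g := d⁻¹ * c)
      (by rw [B.vec]; exact mul_mem (inv_mem hd) hc)
    have hmem : InQ z Q x (k * n a * k⁻¹ : Subgroup.centralizer ({z} : Set G)) :=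
      (hn a ha).1.conj' (mul_inv_eq_iff_eq_mul.1 hkx)
    have hp : param (F.π (k * n a * k⁻¹) : OG) = b := by
      rw [map_mul, map_mul, map_inv, hk, (hn a ha).2, show d⁻¹ * c * R a * (d⁻¹ * c)⁻¹ = d⁻¹ * (c * R a * c⁻¹) * d by group,
        R_conj hc ha, hca, ← hdb, ← R_conj hd hb, show d⁻¹ * (d * R b * d⁻¹) * d = R b by group]
      exact (R_spec hb).2.1
    rw [← hinv _ _ hmem (hn b hb).1 (hp.trans (hpar b hb).symm)]
    show _ ↔ (k : G) * n a * (k : G)⁻¹ * ((k : G) * n a * (k : G)⁻¹) = 1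
    rw [conj_mul, conj_eq_one_iff]
  have hne0 : e1 ≠ 0 := by decide +kernel
  have hn0 : n0 ≠ 0 := by decide +kernel
  obtain ⟨-, Pe1, -, -, -, -, -, Pn, -⟩ := inP_facts
  obtain ⟨q1, -, -, -, -, -, qn, -⟩ := val_facts
  have hA : (n e1 : G) * n e1 = 1 := by
    by_contra hA
    have := Finset.card_le_card_of_injOn (s := Finset.univ.filter fun v : V => InP v ∧ qm v = 0 ∧ v ≠ 0)
      (t := Finset.univ.filter fun v : V => InP v ∧ qm v = 1) (fun a => w (n a)) (fun a ha => by
        obtain ⟨-, ha1, ha2, ha3⟩ := Finset.mem_filter.1 ha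
        refine Finset.mem_filter.2 ⟨Finset.mem_univ _, hwP _ (hn a ha1).1, ?_⟩
        refine (show ∀ b : ZMod 2, b ≠ 0 → b = 1 by decide) _ fun e => ?_
        exact hA ((hcls a e1 ha1 Pe1 ha3 hne0 (ha2.trans q1.symm)).1 ((hsq _ (hn a ha1).1).2 e)))
      (fun a ha b hb e => hinj a b (Finset.mem_filter.1 ha).2.1 (Finset.mem_filter.1 hb).2.1 e)
    rw [inP_count.2.1, inP_count.2.2] at this
    omega
  have hB : (n n0 : G) * n n0 ≠ 1 := by
    intro hB
    have := Finset.card_le_card_of_injOn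
      (s := (Finset.univ.filter fun v : V => InP v ∧ qm v = 0 ∧ v ≠ 0) ∪ {n0})
      (t := Finset.univ.filter fun v : V => InP v ∧ qm v = 0 ∧ v ≠ 0) (fun a => w (n a)) (fun a ha => by
        have hh : InP a ∧ a ≠ 0 ∧ (n a : G) * n a = 1 := by
          rcases Finset.mem_union.1 ha with ha | ha
          · obtain ⟨-, ha1, ha2, ha3⟩ := Finset.mem_filter.1 ha
            exact ⟨ha1, ha3, (hcls a e1 ha1 Pe1 ha3 hne0 (ha2.trans q1.symm)).2 hA⟩
          · rw [Finset.mem_singleton.1 ha]; exact ⟨Pn, hn0, hB⟩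
        refine Finset.mem_filter.2 ⟨Finset.mem_univ _, hwP _ (hn a hh.1).1, (hsq _ (hn a hh.1).1).1 hh.2.2, fun e => ?_⟩
        exact hh.2.1 ((hpar a hh.1).symm.trans (hw1 _ (hn a hh.1).1 e)))
      (fun a ha b hb e => by
        have hh : ∀ c ∈ (Finset.univ.filter fun v : V => InP v ∧ qm v = 0 ∧ v ≠ 0) ∪ {n0}, InP c := fun c hc => by
          rcases Finset.mem_union.1 hc with hc | hc
          · exact (Finset.mem_filter.1 hc).2.1
          · rw [Finset.mem_singleton.1 hc]; exact Pn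
        exact hinj a b (hh a ha) (hh b hb) e)
    rw [Finset.card_union_of_disjoint (by simp [qn]), Finset.card_singleton, inP_count.2.1] at this
    omega
  set a := param (F.π m : OG) with had
  have ha : InP a := param_inP (radAt F h B hm)
  rw [hinv m (n a) hm (hn a ha).1 (hpar a ha).symm]
  rcases (show ∀ b : ZMod 2, b = 0 ∨ b = 1 by decide) (qm a) with e | e
  · simp only [e, iff_true]
    by_cases ha0 : a = 0
    · have hQ : ((n a) : G) ∈ Q := (F.π_ker _).1 (by rw [(hn a ha).2, ha0, R_zero])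
      rcases sect F h B hQ (hn a ha).1 with e' | e' | e' | e' <;> rw [e']
      · exact mul_one 1
      · exact zz h
      · exact B.sq
      · exact xz_sq F h B
    · exact (hcls a e1 ha Pe1 ha0 hne0 (e.trans q1.symm)).2 hA
  · simp only [e, one_ne_zero, iff_false]
    exact fun h' => hB ((hcls a n0 ha Pn (fun e0' => by rw [e0', qm_zero] at e; exact zero_ne_one e) hn0
      (e.trans qn.symm)).1 h')

theorem sq_param (h : Hyp z Q) (B : Base F x) {m : Subgroup.centralizer ({z} : Set G)} (hm : InQ z Q x m) :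
    (m : G) * m = x ^ (qm (param (F.π m : OG))).val := by
  rcases (show ∀ b : ZMod 2, b = 0 ∨ b = 1 by decide) (qm (param (F.π m : OG))) with e | e <;> rw [e]
  · rw [ZMod.val_zero, pow_zero]; exact (sq_iff_param F h B hm).2 e
  · rw [ZMod.val_one, pow_one]
    refine (InQ.sq F hm).resolve_left fun e' => ?_
    exact one_ne_zero (e.symm.trans ((sq_iff_param F h B hm).1 e'))

end Cfsg.Agent.Spor.CoT
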