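import Cfsg.Agent.Lib.Spor.SuzTypeModel
import Cfsg.Agent.Lib.Classical.OrthIndex

/-!
The subgroup generated by the two squares: its order, transitivity, involution classes and their centralisers.
-/

set_option autoImplicit false
set_option maxRecDepth 100000
set_option linter.unusedSectionVars false

namespace Cfsg.Agent.Spor.SuzT

open Chk Dat Cfsg.Agent.Classical Cfsg.Agent.Classical.OCount

instance : Finite OG := Nat.finite_of_card_ne_zero (by rw [card_OG]; norm_num)

theorem gen_spec {i : ℕ} (hi : i < 2) :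
    (∃ r : OG, IsCols r (roots.getD i []) ∧ IsCols (r * r) (gn i)) ∧ (∀ x ∈ gn i, x < 64) ∧
      mulL (gn i) (ginvs.getD i []) = idL ∧ ∃ g : OG, IsCols g (ginvs.getD i []) := by
  have h := List.all_eq_true.mp gen_ok i (List.mem_range.mpr hi)
  simp only [Bool.and_eq_true, beq_iff_eq] at h
  obtain ⟨⟨⟨⟨⟨⟨⟨⟨hr, hri⟩, hg⟩, hgi⟩, e1⟩, e2⟩, e3⟩, e5⟩, e4⟩ := h
  obtain ⟨r, hr'⟩ := exists_of_isoL hr hri e1
  refine ⟨⟨r, hr', e4 ▸ hr'.mul hr'⟩, ?_, e3, exists_of_isoL hgi hg e5⟩
  simp only [isoL, Bool.and_eq_true, List.all_eq_true] at hg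
  exact fun x hx => Nat.le_of_ble_eq_true (hg.1.2 x hx)

/-- a generator -/
noncomputable def gel (i : ℕ) : OG := if h : i < 2 then (gen_spec h).1.choose * (gen_spec h).1.choose else 1

theorem gel_cols {i : ℕ} (hi : i < 2) : IsCols (gel i) (gn i) := by
  rw [gel, dif_pos hi]; exact (gen_spec hi).1.choose_spec.2

theorem gel_inv_cols {i : ℕ} (hi : i < 2) : IsCols (gel i)⁻¹ (ginvs.getD i []) := by
  obtain ⟨-, -, e, g, hg⟩ := gen_spec hi
  have : gel i * g = 1 := ((gel_cols hi).mul hg).ext (e ▸ IsCols.one)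
  rwa [inv_eq_of_mul_eq_one_right this]

/-- the subgroup -/
noncomputable def Ga : Subgroup OG := Subgroup.closure {gel 0, gel 1}

theorem gel_mem {i : ℕ} (hi : i < 2) : gel i ∈ Ga := by
  interval_cases i <;> exact Subgroup.subset_closure (by simp)

/-- a word -/
noncomputable def wel (w : List ℕ) : OG := (w.map gel).prod

theorem wlt_spec {w : List ℕ} (h : wlt w = true) : ∀ i ∈ w, i < 2 := fun i hi =>
  Nat.le_of_ble_eq_true (List.all_eq_true.mp h i hi)

theorem wel_mem {w : List ℕ} (h : wlt w = true) : wel w ∈ Ga :=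
  list_prod_mem fun x hx => by obtain ⟨i, hi, rfl⟩ := List.mem_map.mp hx; exact gel_mem (wlt_spec h i hi)

theorem wel_cols : ∀ {w : List ℕ}, (∀ i ∈ w, i < 2) → IsCols (wel w) (wp w)
  | [], _ => IsCols.one
  | i :: w, h => by
    show IsCols (gel i * wel w) (mulL (gn i) (wp w))
    exact (gel_cols (h i (by simp))).mul (wel_cols fun x hx => h x (by simp [hx]))

/-- an element of the subgroup from a word -/
noncomputable def we (w : List ℕ) : Ga := if h : wlt w = true then ⟨wel w, wel_mem h⟩ else 1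

theorem we_cols {w : List ℕ} (h : wlt w = true) : IsCols (we w : OG) (wp w) := by
  rw [we, dif_pos h]; exact wel_cols (wlt_spec h)

theorem we_app {w : List ℕ} (h : wlt w = true) {c : ℕ} (hc : c < 64) :
    (we w : OG).1 (vec c) = vec (app (wp w) c) := by
  rw [← vec_enc ((we w : OG).1 (vec c)), (we_cols h).2, enc_vec c hc]

/-- pointwise stabiliser of codes -/
def stabK (done : List ℕ) : Subgroup Ga where
  carrier := {g | ∀ d ∈ done, (g : OG).1 (vec d) = vec d}
  one_mem' := fun _ _ => rfl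
  mul_mem' := fun {a b} ha hb d hd => by
    show (a : OG).1 ((b : OG).1 (vec d)) = vec d
    rw [hb d hd, ha d hd]
  inv_mem' := fun {a} ha d hd => (congrArg _ (ha d hd)).symm.trans ((a : OG).1.symm_apply_apply _)

theorem level {n : ℕ} (done : List ℕ) (v : ℕ) (W : Fin n → Ga) (hW : ∀ c, W c ∈ stabK done)
    (hinj : Function.Injective fun c => (W c : OG).1 (vec v)) :
    n * Nat.card (stabK (v :: done)) ≤ Nat.card (stabK done) := by
  let f : Fin n × stabK (v :: done) → stabK done := fun q =>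
    ⟨W q.1 * q.2, mul_mem (hW q.1) fun d hd => q.2.2 d (List.mem_cons_of_mem _ hd)⟩
  have hf : Function.Injective f := fun a b e => by
    have e' : W a.1 * (a.2 : Ga) = W b.1 * (b.2 : Ga) := congrArg Subtype.val e
    have h1 : ∀ q : Fin n × stabK (v :: done), ((W q.1 * (q.2 : Ga) : Ga) : OG).1 (vec v) = (W q.1 : OG).1 (vec v) :=
      fun q => by
        show (W q.1 : OG).1 (((q.2 : Ga) : OG).1 (vec v)) = _
        rw [q.2.2 v List.mem_cons_self]
    have hi : a.1 = b.1 := hinj (by
      show (W a.1 : OG).1 (vec v) = (W b.1 : OG).1 (vec v)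
      rw [← h1 a, ← h1 b, e'])
    refine Prod.ext hi (Subtype.ext ?_)
    rw [hi] at e'
    exact mul_left_cancel e'
  have h := Nat.card_le_card_of_injective f hf
  rwa [Nat.card_prod, Nat.card_fin] at h

theorem chain_le : ∀ (lev : List (ℕ × List (List ℕ))) (done : List ℕ), (∀ d ∈ done, d < 64) →
    chainOK done lev = true → chainSize lev ≤ Nat.card (stabK done)
  | [], done, _, _ => Nat.card_pos
  | (v, ws) :: rest, done, hd, h => by
    rw [chainOK] at h
    simp only [Bool.and_eq_true, List.all_eq_true, decide_eq_true_eq] at h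
    obtain ⟨⟨⟨hv, hws⟩, hnd⟩, hrest⟩ := h
    have hv' : v < 64 := Nat.le_of_ble_eq_true hv
    have hd' : ∀ d ∈ v :: done, d < 64 := fun d h => by rcases List.mem_cons.mp h with rfl | h; exacts [hv', hd d h]
    have ih := chain_le rest (v :: done) hd' hrest
    have hlt : ∀ w ∈ ws, app (wp w) v < 64 := fun w hw => by
      have h := (we_cols (hws w hw).1).2 (vec v)
      rw [enc_vec v hv'] at h
      exact lt_of_eq_of_lt h.symm (enc_lt _)
    refine le_trans (Nat.mul_le_mul_left _ ih) (level done v (fun c : Fin ws.length => we ws[c.1]) (fun c => ?_) ?_)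
    · obtain ⟨h1, h2⟩ := hws _ (List.getElem_mem c.2)
      intro d hdd
      rw [we_app h1 (hd d hdd), Nat.eq_of_beq_eq_true (h2 d hdd)]
    · intro a b e
      simp only at e
      rw [we_app (hws _ (List.getElem_mem a.2)).1 hv', we_app (hws _ (List.getElem_mem b.2)).1 hv'] at e
      have e3 := congrArg enc e
      rw [enc_vec _ (hlt _ (List.getElem_mem a.2)), enc_vec _ (hlt _ (List.getElem_mem b.2))] at e3
      exact Fin.ext ((List.Nodup.getElem_inj_iff hnd (i := a.1) (j := b.1) (hi := by simp) (hj := by simp)).mp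
        (by simpa using e3))

theorem index_sq {H : Subgroup OG} (hH : Nat.card H = 25920) : Ga ≤ H := by
  have hidx : H.index = 2 := by
    have := Subgroup.card_mul_index H
    rw [hH, card_OG] at this
    omega
  refine (Subgroup.closure_le _).mpr ?_
  rintro x (rfl | rfl) <;> (rw [gel, dif_pos (by norm_num)]; exact Subgroup.mul_self_mem_of_index_two hidx _)

theorem card_Ga : Nat.card Ga = 25920 := by
  refine le_antisymm ?_ ?_
  · have hidx := OOmega.index_two QF_pnd (by rw [Module.finrank_fintype_fun_eq_card]; simp)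
      (Or.inr (by rw [Module.finrank_fintype_fun_eq_card]; simp))
    have hc := Subgroup.card_mul_index (commutator OG)
    rw [hidx, card_OG] at hc
    have hc' : Nat.card (commutator OG) = 25920 := by omega
    exact (Nat.card_le_card_of_injective _ (Subgroup.inclusion_injective (index_sq hc'))).trans (le_of_eq hc')
  · rw [← chain_size]
    exact (chain_le levels [] (by simp) chain_ok).trans (Subgroup.card_le_card_group _)

theorem eq_Ga {H : Subgroup OG} (hH : Nat.card H = 25920) : H = Ga :=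
  (Subgroup.eq_of_le_of_card_ge (index_sq hH) (by rw [hH, card_Ga])).symm

noncomputable instance : MulAction Ga V where
  smul g v := (g : OG).1 v
  one_smul _ := rfl
  mul_smul _ _ _ := rfl

theorem smul_def (g : Ga) (v : V) : g • v = (g : OG).1 v := rfl

theorem we_smul {w : List ℕ} (h : wlt w = true) {c : ℕ} (hc : c < 64) : we w • vec c = vec (app (wp w) c) :=
  we_app h hc

/-- the first point -/
def e0 : V := vec 1

theorem exists_smul {v : V} (h0 : v ≠ 0) (hq : qm v = 0) : ∃ g : Ga, g • e0 = v := by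
  have h := List.all_eq_true.mp sing_ok (enc v) (List.mem_range.mpr (enc_lt v))
  simp only [Bool.or_eq_true, List.any_eq_true, Bool.and_eq_true] at h
  rcases h with (h | h) | ⟨e, -, ⟨he, hw⟩, ha⟩
  · exact absurd (enc_injective ((Nat.eq_of_beq_eq_true h).trans enc_zero.symm)) h0
  · have := qm_eq_zero.mp hq
    have := Nat.eq_of_beq_eq_true h
    omega
  · exact ⟨we e.2, by rw [e0, we_smul hw (by norm_num), Nat.eq_of_beq_eq_true ha, vec_enc]⟩

theorem e0_facts : e0 ≠ 0 ∧ qm e0 = 0 ∧ enc e0 = 1 := by decide +kernel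

theorem sing_card : (Finset.univ.filter fun v : V => v ≠ 0 ∧ qm v = 0).card = 27 := by decide +kernel

theorem orbit_e0 : MulAction.orbit Ga e0 = {v : V | v ≠ 0 ∧ qm v = 0} := by
  ext v
  constructor
  · rintro ⟨g, rfl⟩
    refine ⟨fun h => e0_facts.1 (((g : OG).1.map_eq_zero_iff).mp h), ?_⟩
    show qm ((g : OG).1 e0) = 0
    rw [iso_q, e0_facts.2.1]
  · rintro ⟨h0, hq⟩; exact exists_smul h0 hq

/-- the stabiliser of the first point -/
noncomputable abbrev St : Subgroup Ga := MulAction.stabilizer Ga e0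

theorem card_St : Nat.card St = 960 := by
  have h := MulAction.index_stabilizer Ga e0
  rw [orbit_e0, show ({v : V | v ≠ 0 ∧ qm v = 0}).ncard = 27 by
    rw [← sing_card, ← Set.ncard_coe_finset, Finset.coe_filter]; simp] at h
  have hc := Subgroup.card_mul_index St
  rw [h, card_Ga] at hc
  omega

theorem cols_inj {g h : Ga} (e : cols (g : OG) = cols (h : OG)) : g = h :=
  Subtype.ext ((isCols_cols _).ext (e ▸ isCols_cols _))

theorem conj_we {w : List ℕ} (hw : wlt w = true) {A B : List ℕ} {s t : Ga} (hs : IsCols (s : OG) A)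
    (ht : IsCols (t : OG) B) (h : mulL (wp w) A = mulL B (wp w)) : we w * s * (we w)⁻¹ = t := by
  rw [mul_inv_eq_iff_eq_mul]
  refine Subtype.ext (((we_cols hw).mul hs).ext ?_)
  rw [h]
  exact ht.mul (we_cols hw)

/-- the Sylow list as a set -/
def InSyl (g : Ga) : Prop := ∃ e ∈ syl, IsCols (g : OG) e.1

theorem exists_sylow : ∃ P : Sylow 2 Ga, ∀ g, g ∈ (P : Subgroup Ga) ↔ InSyl g := by
  haveI : Fact (Nat.Prime 2) := ⟨Nat.prime_two⟩
  have h1 := syl_closed
  have h2 := syl_words
  simp only [sylClosed, Bool.and_eq_true, List.all_eq_true, List.any_eq_true, decide_eq_true_eq, beq_iff_eq] at h1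
  simp only [sylWords, Bool.and_eq_true, List.all_eq_true, beq_iff_eq] at h2
  obtain ⟨⟨⟨hlen, hnd⟩, hone⟩, hmul⟩ := h1
  have hlen' : syl.length = 64 := Nat.eq_of_beq_eq_true hlen
  let S : Submonoid Ga :=
    { carrier := {g | InSyl g}
      one_mem' := by obtain ⟨e, he, e'⟩ := hone; exact ⟨e, he, e' ▸ IsCols.one⟩
      mul_mem' := fun {a b} ⟨e, he, ha⟩ ⟨f, hf, hb⟩ => by
        obtain ⟨c, hc, e'⟩ := hmul e he f hf
        exact ⟨c, hc, e' ▸ ha.mul hb⟩ }
  let P0 : Subgroup Ga :=
    { S with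
      inv_mem' := fun {a} ha => by
        have h := S.pow_mem ha (orderOf a - 1)
        rwa [show a ^ (orderOf a - 1) = a⁻¹ from eq_inv_of_mul_eq_one_left (by
          rw [← pow_succ, Nat.sub_add_cancel (orderOf_pos a), pow_orderOf_eq_one])] at h }
  have hel : ∀ k : Fin syl.length, InSyl (we syl[k.1].2.1) := fun k =>
    ⟨syl[k.1], List.getElem_mem _, by
      have h := h2 _ (List.getElem_mem k.2)
      exact h.2 ▸ we_cols h.1⟩
  have hcard : Nat.card P0 = 64 := by
    refine le_antisymm ?_ ?_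
    · refine (Nat.card_le_card_of_injective
        (fun g : P0 => (⟨(g.2 : InSyl g).choose, (g.2 : InSyl g).choose_spec.1⟩ : {e // e ∈ syl})) ?_).trans ?_
      · intro a b e
        have e' := congrArg (fun z : {e // e ∈ syl} => z.1.1) e
        refine Subtype.ext (Subtype.ext ((a.2 : InSyl a).choose_spec.2.ext ?_))
        simp only at e'
        rw [e']; exact (b.2 : InSyl b).choose_spec.2
      · rw [← hlen']
        refine (Nat.card_le_card_of_surjective (fun k : Fin syl.length => (⟨syl[k.1], List.getElem_mem _⟩ : {e // e ∈ syl}))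
          fun z => ?_).trans (le_of_eq (Nat.card_fin _))
        obtain ⟨i, hi, e⟩ := List.getElem_of_mem z.2
        exact ⟨⟨i, hi⟩, Subtype.ext e⟩
    · rw [← hlen', ← Nat.card_fin syl.length]
      refine Nat.card_le_card_of_injective (fun k => (⟨we syl[k.1].2.1, hel k⟩ : P0)) fun a b e => ?_
      have h3 := fun k : Fin syl.length => h2 _ (List.getElem_mem k.2)
      have e' : we syl[a.1].2.1 = we syl[b.1].2.1 := congrArg Subtype.val e
      have := (we_cols (h3 a).1).unique (e' ▸ we_cols (h3 b).1)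
      rw [show wp syl[a.1].2.1 = syl[a.1].1 from (h3 a).2, show wp syl[b.1].2.1 = syl[b.1].1 from (h3 b).2] at this
      exact Fin.ext ((List.Nodup.getElem_inj_iff hnd (hi := by simp) (hj := by simp)).mp (by simpa using this))
  refine ⟨Sylow.ofCard P0 ?_, fun g => Iff.rfl⟩
  rw [hcard, card_Ga, show (25920 : ℕ) = 2 ^ 6 * 405 from rfl, Nat.factorization_mul (by norm_num) (by norm_num),
    Nat.factorization_pow]
  simp [Nat.Prime.factorization_self Nat.prime_two, Nat.factorization_eq_zero_of_not_dvd (show ¬ 2 ∣ 405 by norm_num)]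

theorem cls_spec {s : List ℕ} {L : List (List ℕ × List ℕ)} (h : clsOK s L = true) {g : Ga} (hg : IsCols (g : OG) s) :
    Nat.card (conjugatesOf g) = L.length ∧ ∀ x ∈ conjugatesOf g, ∃ e ∈ L, IsCols (x : OG) e.1 := by
  simp only [clsOK, Bool.and_eq_true, List.all_eq_true, List.any_eq_true, decide_eq_true_eq, beq_iff_eq,
    List.mem_range] at h
  obtain ⟨⟨hnd, ⟨e1, he1, hs⟩⟩, hall⟩ := h
  have hstep : ∀ k, ∀ hk : k < 2, ∀ x : Ga, (∃ e ∈ L, IsCols (x : OG) e.1) →
      ∃ e ∈ L, IsCols ((⟨gel k, gel_mem hk⟩ * x * (⟨gel k, gel_mem hk⟩ : Ga)⁻¹ : Ga) : OG) e.1 := by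
    rintro k hk x ⟨e, he, hx⟩
    obtain ⟨f, hf, hf'⟩ := (hall e he).2 k hk
    exact ⟨f, hf, hf' ▸ ((gel_cols hk).mul hx).mul (gel_inv_cols hk)⟩
  have hin : ∀ x ∈ conjugatesOf g, ∃ e ∈ L, IsCols (x : OG) e.1 := by
    intro x hx
    obtain ⟨c, rfl⟩ := isConj_iff.mp hx
    obtain ⟨c, hcG⟩ := c
    have hc : c ∈ Submonoid.closure ({gel 0, gel 1} : Set OG) := by
      rw [← Subgroup.closure_toSubmonoid_of_finite]; exact hcG
    induction hc using Submonoid.closure_induction_left with
    | one => exact ⟨e1, he1, by simpa [hs] using hg⟩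
    | mul_left a ha y hy ih =>
      have hyG : y ∈ Ga := by
        rw [Ga, ← Subgroup.mem_toSubmonoid, Subgroup.closure_toSubmonoid_of_finite]; exact hy
      obtain ⟨k, hk, rfl⟩ : ∃ k, k < 2 ∧ a = gel k := by
        rcases ha with rfl | rfl
        exacts [⟨0, by norm_num, rfl⟩, ⟨1, by norm_num, rfl⟩]
      obtain ⟨e, he, hx'⟩ := hstep k hk _ (ih hyG (isConj_iff.mpr ⟨⟨y, hyG⟩, rfl⟩))
      refine ⟨e, he, ?_⟩
      rw [show ((⟨gel k * y, hcG⟩ : Ga) * g * (⟨gel k * y, hcG⟩ : Ga)⁻¹) =
        ⟨gel k, gel_mem hk⟩ * (⟨y, hyG⟩ * g * (⟨y, hyG⟩ : Ga)⁻¹) * (⟨gel k, gel_mem hk⟩ : Ga)⁻¹ from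
        Subtype.ext (by push_cast; group)]
      exact hx'
  have hcon : ∀ k : Fin L.length, we L[k.1].2 * g * (we L[k.1].2)⁻¹ ∈ conjugatesOf g := fun k => isConj_iff.mpr ⟨_, rfl⟩
  have hck : ∀ k : Fin L.length, IsCols ((we L[k.1].2 * g * (we L[k.1].2)⁻¹ : Ga) : OG) L[k.1].1 := fun k => by
    obtain ⟨⟨⟨⟨hw, he⟩, hl⟩, hA⟩, -⟩ := hall _ (List.getElem_mem k.2)
    refine IsCols.of_mul (Nat.eq_of_beq_eq_true hl) (fun a ha => Nat.le_of_ble_eq_true (hA a ha)) (we_cols hw) ?_
    rw [show ((we L[k.1].2 * g * (we L[k.1].2)⁻¹ : Ga) : OG) * ((we L[k.1].2 : Ga) : OG) = ((we L[k.1].2 : Ga) : OG) * g by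
      push_cast; group, ← show mulL (wp L[k.1].2) s = mulL L[k.1].1 (wp L[k.1].2) from he]
    exact (we_cols hw).mul hg
  refine ⟨le_antisymm ?_ ?_, hin⟩
  · refine (Nat.card_le_card_of_injective (fun x : conjugatesOf g =>
      (⟨(hin x x.2).choose, (hin x x.2).choose_spec.1⟩ : {e // e ∈ L})) fun a b e => ?_).trans ?_
    · have e' := congrArg (fun z : {e // e ∈ L} => z.1.1) e
      simp only at e'
      exact Subtype.ext (Subtype.ext ((hin a a.2).choose_spec.2.ext (e' ▸ (hin b b.2).choose_spec.2)))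
    · refine (Nat.card_le_card_of_surjective (fun k : Fin L.length => (⟨L[k.1], List.getElem_mem _⟩ : {e // e ∈ L}))
        fun z => ?_).trans (le_of_eq (Nat.card_fin _))
      obtain ⟨i, hi, e⟩ := List.getElem_of_mem z.2
      exact ⟨⟨i, hi⟩, Subtype.ext e⟩
  · rw [← Nat.card_fin L.length]
    refine Nat.card_le_card_of_injective (fun k => (⟨_, hcon k⟩ : conjugatesOf g)) fun a b e => ?_
    have e' : we L[a.1].2 * g * (we L[a.1].2)⁻¹ = we L[b.1].2 * g * (we L[b.1].2)⁻¹ := congrArg Subtype.val e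
    have := (hck a).unique (e'.symm ▸ hck b)
    exact Fin.ext ((List.Nodup.getElem_inj_iff hnd (hi := by simp) (hj := by simp)).mp (by simpa using this))

end Cfsg.Agent.Spor.SuzT
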