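import Cfsg.Agent.Lib.Spor.SelfDualCode
import Mathlib

/-!
All self-orthogonal binary codes of length 24, dimension 12 and minimum weight 8 are equivalent.
-/

set_option autoImplicit false

namespace Cfsg.Agent.Spor.Code24

open Finset

variable {ι κ : Type*} [Fintype ι] [DecidableEq ι] [Fintype κ] [DecidableEq κ]
variable {C : Submodule (ZMod 2) (ι → ZMod 2)} {D : Submodule (ZMod 2) (κ → ZMod 2)}

/-- the pairing with a word -/
def dotL (v : ι → ZMod 2) : (ι → ZMod 2) →ₗ[ZMod 2] ZMod 2 where
  toFun w := ∑ i, v i * w i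
  map_add' w w' := by simp [mul_add, sum_add_distrib]
  map_smul' a w := by simp [mul_sum, mul_left_comm]

omit [DecidableEq ι] in
theorem dotL_apply (v w : ι → ZMod 2) : dotL v w = ∑ i, v i * w i := rfl

theorem mem_of_orth (h : Good C) {v : ι → ZMod 2} (hv : ∀ c ∈ C, ∑ i, v i * c i = 0) : v ∈ C := by
  let Φ : (ι → ZMod 2) →ₗ[ZMod 2] Module.Dual (ZMod 2) C :=
    { toFun := fun w => (dotL w).comp C.subtype
      map_add' := fun w w' => LinearMap.ext fun c => by simp [dotL_apply, add_mul, sum_add_distrib]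
      map_smul' := fun a w => LinearMap.ext fun c => by simp [dotL_apply, mul_sum, mul_assoc] }
  have hsurj : Function.Surjective Φ := by
    intro f
    obtain ⟨g, hg⟩ := LinearMap.dualMap_surjective_of_injective C.injective_subtype f
    refine ⟨fun i => g (Pi.single i 1), LinearMap.ext fun c => ?_⟩
    rw [← hg]
    show ∑ i, g (Pi.single i 1) * (c : ι → ZMod 2) i = g (c : ι → ZMod 2)
    conv_rhs => rw [pi_eq_sum_univ' (c : ι → ZMod 2)]
    rw [map_sum]
    exact sum_congr rfl fun i _ => by rw [map_smul, smul_eq_mul, mul_comm]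
  have hk : C ≤ LinearMap.ker Φ := fun c hc => LinearMap.ext fun d => h.orth c hc d d.2
  have e := LinearMap.finrank_range_add_finrank_ker Φ
  rw [LinearMap.range_eq_top.2 hsurj, finrank_top, Subspace.dual_finrank_eq, h.dim,
    Module.finrank_fintype_fun_eq_card, h.card] at e
  have hle := Submodule.eq_of_le_of_finrank_le hk (by rw [h.dim]; omega)
  rw [hle]
  exact LinearMap.ext fun c => hv c c.2

theorem one_mem (h : Good C) : (fun _ => 1 : ι → ZMod 2) ∈ C := mem_of_orth h fun c hc => by
  have e : ∀ i, (1 : ZMod 2) * c i = c i * c i := fun i => by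
    rcases zmod_two (c i) with e | e <;> simp [e]
  simp only [e]
  exact h.orth c hc c hc

theorem weight_compl (c : ι → ZMod 2) :
    hammingNorm (c + fun _ => 1) + hammingNorm c = Fintype.card ι := by
  rw [norm_eq, norm_eq, supp_add, show supp (fun _ => (1 : ZMod 2)) = (univ : Finset ι) from by
    ext i; simp [supp], ← card_univ]
  have h := card_sd (supp c) univ
  rw [inter_univ] at h
  omega

theorem weights (h : Good C) {c : ι → ZMod 2} (hc : c ∈ C) : hammingNorm c = 0 ∨ hammingNorm c = 8 ∨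
    hammingNorm c = 12 ∨ hammingNorm c = 16 ∨ hammingNorm c = 24 := by
  have hd := four_dvd h c hc
  have hw := weight_compl c
  rw [h.card] at hw
  have a : hammingNorm c = 0 ∨ 8 ≤ hammingNorm c := by
    by_cases h0 : c = 0
    · left; rw [h0]; simp
    · exact Or.inr (h.min c hc h0)
  have b : hammingNorm (c + fun _ => 1) = 0 ∨ 8 ≤ hammingNorm (c + fun _ => 1) := by
    by_cases h0 : (c + fun _ => 1) = 0
    · left; rw [h0]; simp
    · exact Or.inr (h.min _ (C.add_mem hc (one_mem h)) h0)
  omega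

theorem small_zero (h : Good C) {c : ι → ZMod 2} (hc : c ∈ C) (hn : hammingNorm c < 8) : c = 0 := by
  by_contra h0
  have := h.min c hc h0
  omega

/-- the words vanishing on a set -/
def vanish (C : Submodule (ZMod 2) (ι → ZMod 2)) (o : Finset ι) : Submodule (ZMod 2) (ι → ZMod 2) where
  carrier := {c | c ∈ C ∧ ∀ i ∈ o, c i = 0}
  add_mem' ha hb := ⟨C.add_mem ha.1 hb.1, fun i hi => by simp [ha.2 i hi, hb.2 i hi]⟩
  zero_mem' := ⟨C.zero_mem, fun _ _ => rfl⟩
  smul_mem' a _ hc := ⟨C.smul_mem a hc.1, fun i hi => by simp [hc.2 i hi]⟩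

omit [Fintype ι] [DecidableEq ι] in
theorem mem_vanish {o : Finset ι} {c : ι → ZMod 2} : c ∈ vanish C o ↔ c ∈ C ∧ ∀ i ∈ o, c i = 0 := Iff.rfl

theorem ind_mem {o : Finset ι} (ho : o ∈ octs C) : ind o ∈ C ∧ o.card = 8 := by
  obtain ⟨c, hc, hc8, rfl⟩ := mem_octs.1 ho
  exact ⟨by rw [ind_supp]; exact hc, hc8⟩

theorem even_on (h : Good C) {o : Finset ι} (ho : o ∈ octs C) {c : ι → ZMod 2} (hc : c ∈ C) :
    ∑ i ∈ o, c i = 0 := by
  have e := h.orth _ (ind_mem ho).1 c hc
  simpa [ind, sum_ite_mem] using e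

/-- a word orthogonal to the words vanishing on o extends to a word of the code -/
theorem extend_out (h : Good C) {o : Finset ι} {v : ι → ZMod 2}
    (hv : ∀ s ∈ vanish C o, ∑ i, v i * s i = 0) :
    ∃ z : ι → ZMod 2, (∀ i ∉ o, z i = 0) ∧ v + z ∈ C := by
  let π : C →ₗ[ZMod 2] (ι → ZMod 2) :=
    { toFun := fun c i => if i ∈ o then (c : ι → ZMod 2) i else 0
      map_add' := fun c d => funext fun i => by by_cases hi : i ∈ o <;> simp [hi]
      map_smul' := fun a c => funext fun i => by by_cases hi : i ∈ o <;> simp [hi] }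
  let ℓ : Module.Dual (ZMod 2) C := (dotL v).comp C.subtype
  have hℓ : ℓ ∈ LinearMap.range π.dualMap := by
    rw [LinearMap.range_dualMap_eq_dualAnnihilator_ker, Submodule.mem_dualAnnihilator]
    intro c hc
    refine hv _ ⟨c.2, fun i hi => ?_⟩
    have := congrFun (LinearMap.mem_ker.1 hc) i
    simpa [π, hi] using this
  obtain ⟨φ, hφ⟩ := hℓ
  refine ⟨fun i => if i ∈ o then φ (Pi.single i 1) else 0, fun i hi => by simp [hi], mem_of_orth h fun c hc => ?_⟩
  have e1 : φ (π ⟨c, hc⟩) = ∑ i, v i * c i := LinearMap.congr_fun hφ ⟨c, hc⟩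
  have e2 : φ (π ⟨c, hc⟩) = ∑ i, (if i ∈ o then φ (Pi.single i 1) else 0) * c i := by
    conv_lhs => rw [pi_eq_sum_univ' (π ⟨c, hc⟩)]
    rw [map_sum]
    refine sum_congr rfl fun i _ => ?_
    rw [map_smul, smul_eq_mul]
    by_cases hi : i ∈ o <;> simp [π, hi, mul_comm]
  simp only [Pi.add_apply, add_mul, sum_add_distrib, ← e2, e1]
  exact CharTwo.add_self_eq_zero _

omit [Fintype ι] in
theorem flip_on {o : Finset ι} (z : ι → ZMod 2) (hz : ∀ i ∉ o, z i = 0) : ∀ i ∉ o, (z + ind o) i = 0 :=
  fun i hi => by simp [ind, hz i hi, hi]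

theorem flip_card {o : Finset ι} {z : ι → ZMod 2} (hz : ∀ i ∉ o, z i = 0) :
    hammingNorm (z + ind o) + hammingNorm z = o.card := by
  have hsub : supp z ⊆ o := fun i hi => by
    by_contra h
    simp [supp, hz i h] at hi
  have := norm_add z (ind o)
  rw [supp_ind, inter_eq_left.2 hsub, ← norm_eq, norm_eq (ind o), supp_ind] at this
  omega

/-- the coordinates outside an octad are distinguished by the words vanishing on it -/
theorem out_separated (h : Good C) {o : Finset ι} (ho : o ∈ octs C) {i j : ι} (hi : i ∉ o) (hj : j ∉ o)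
    (hij : i ≠ j) : ∃ s ∈ vanish C o, s i ≠ s j := by
  by_contra hne
  push Not at hne
  set v : ι → ZMod 2 := ind {i, j} with hv
  obtain ⟨z, hz, hzC⟩ := extend_out h (o := o) (v := v) fun s hs => by
    have : ∑ p, v p * s p = s i + s j := by
      simp only [hv, ind, ite_mul, one_mul, zero_mul]
      rw [sum_ite_mem, univ_inter, sum_pair hij]
    rw [this, hne s hs]
    exact CharTwo.add_self_eq_zero _
  obtain ⟨hoC, ho8⟩ := ind_mem ho
  have hsv : supp v = {i, j} := supp_ind _
  have key : ∀ z : ι → ZMod 2, (∀ i ∉ o, z i = 0) → v + z ∈ C → hammingNorm z ≤ 4 → False := by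
    intro z hz hzC h4
    have hd : supp v ∩ supp z = ∅ := by
      rw [hsv]
      ext p
      simp only [mem_inter, mem_insert, mem_singleton, notMem_empty, iff_false, not_and]
      rintro (rfl | rfl) <;> simp [supp, hz _ hi, hz _ hj]
    have hn := norm_add v z
    rw [hd, card_empty, norm_eq v, hsv, card_pair hij] at hn
    have h0 := small_zero h hzC (by omega)
    rw [h0, hammingNorm_zero] at hn
    omega
  have hfl := flip_card hz
  by_cases h4 : hammingNorm z ≤ 4
  · exact key z hz hzC h4
  · refine key (z + ind o) (flip_on z hz) (by rw [← add_assoc]; exact C.add_mem hzC hoC) ?_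
    omega

/-- weights outside an octad -/
theorem vanish_weights (h : Good C) {o : Finset ι} (ho : o ∈ octs C) {s : ι → ZMod 2} (hs : s ∈ vanish C o) :
    hammingNorm s = 0 ∨ hammingNorm s = 8 ∨ hammingNorm s = 16 := by
  obtain ⟨hoC, ho8⟩ := ind_mem ho
  have hd : supp s ∩ supp (ind o) = ∅ := by
    rw [supp_ind]
    ext p
    simp only [mem_inter, notMem_empty, iff_false, not_and]
    exact fun h1 h2 => by simp [supp, hs.2 p h2] at h1
  have hn := norm_add s (ind o)
  rw [hd, card_empty, norm_eq (ind o), supp_ind, ho8] at hn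
  have w1 := weights h hs.1
  have w2 := weights h (C.add_mem hs.1 hoC)
  omega

/-- the outside of an octad as a word -/
theorem out_mem (h : Good C) {o : Finset ι} (ho : o ∈ octs C) : ((fun _ => 1) + ind o : ι → ZMod 2) ∈ vanish C o :=
  ⟨C.add_mem (one_mem h) (ind_mem ho).1, fun i hi => by simp [ind, hi]; decide⟩

theorem fun_count {V : Type*} [AddCommGroup V] [Module (ZMod 2) V] [Fintype V] (φ : V →ₗ[ZMod 2] ZMod 2) {x : V}
    (hx : φ x = 1) : 2 * (univ.filter fun y => φ y = 1).card = Fintype.card V := by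
  classical
  have hsw : (univ.filter fun y => φ y = 1).card = (univ.filter fun y => ¬ φ y = 1).card := by
    refine card_nbij' (fun y => y + x) (fun y => y - x) ?_ ?_ ?_ ?_
    · intro y hy
      simp only [mem_coe, mem_filter, mem_univ, true_and, map_add] at hy ⊢
      rw [hy, hx]; decide
    · intro y hy
      simp only [mem_coe, mem_filter, mem_univ, true_and, map_sub, hx] at hy ⊢
      rcases zmod_two (φ y) with e | e
      · rw [e]; decide
      · exact absurd e hy
    · intro y _; simp
    · intro y _; simp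
  have := card_filter_add_card_filter_not (s := (univ : Finset V)) (fun y => φ y = 1)
  rw [card_univ] at this
  omega

theorem vanish_card (h : Good C) {o : Finset ι} (ho : o ∈ octs C) :
    Module.finrank (ZMod 2) (vanish C o) = 5 := by
  classical
  set S := vanish C o
  haveI : Fintype S := Fintype.ofFinite _
  have hone : ∀ i ∉ o, ((fun _ => 1) + ind o : ι → ZMod 2) i = 1 := fun i hi => by simp [ind, hi]
  set n := (univ : Finset S).card with hn
  have pr : ∀ i ∈ oᶜ, ∀ j ∈ oᶜ,
      4 * (univ.filter fun s : S => (s : ι → ZMod 2) i = 1 ∧ (s : ι → ZMod 2) j = 1).card =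
        if i = j then 2 * n else n := by
    intro i hi j hj
    rw [mem_compl] at hi hj
    let ev : ι → (S →ₗ[ZMod 2] ZMod 2) := fun i => (LinearMap.proj i).comp S.subtype
    have h1 : 2 * (univ.filter fun t : S => (t : ι → ZMod 2) i = 1).card = Fintype.card S :=
      fun_count (ev i) (x := ⟨_, out_mem h ho⟩) (hone i hi)
    have h2 : 2 * (univ.filter fun t : S => (t : ι → ZMod 2) j = 1).card = Fintype.card S :=
      fun_count (ev j) (x := ⟨_, out_mem h ho⟩) (hone j hj)
    split_ifs with e
    · subst e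
      rw [filter_congr fun (x : S) _ => (and_self_iff (a := (x : ι → ZMod 2) i = 1)), hn, card_univ]
      omega
    · obtain ⟨s, hs, hne⟩ := out_separated h ho hi hj e
      have h3 : 2 * (univ.filter fun t : S => (t : ι → ZMod 2) i + (t : ι → ZMod 2) j = 1).card = Fintype.card S :=
        fun_count (ev i + ev j) (x := ⟨s, hs⟩) (by
          show s i + s j = 1
          rcases zmod_two (s i) with a | a <;> rcases zmod_two (s j) with b | b <;> simp [a, b] at hne ⊢)
      -- inclusion and exclusion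
      set A := univ.filter fun t : S => (t : ι → ZMod 2) i = 1
      set B := univ.filter fun t : S => (t : ι → ZMod 2) j = 1
      have eAB : (univ.filter fun t : S => (t : ι → ZMod 2) i = 1 ∧ (t : ι → ZMod 2) j = 1) = A ∩ B := by
        ext t; simp [A, B]
      have eX : (univ.filter fun t : S => (t : ι → ZMod 2) i + (t : ι → ZMod 2) j = 1) = symmDiff A B := by
        ext t
        simp only [A, B, mem_filter, mem_univ, true_and, Finset.mem_symmDiff]
        rcases zmod_two ((t : ι → ZMod 2) i) with a | a <;> rcases zmod_two ((t : ι → ZMod 2) j) with b | b <;>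
          simp [a, b] <;> decide
      rw [eX] at h3
      have := card_sd A B
      rw [eAB, hn, card_univ]
      omega
  -- the sum of squares of the weights
  have hpair : ∀ s : S, hammingNorm (s : ι → ZMod 2) ^ 2 = ((oᶜ ×ˢ oᶜ).filter fun q =>
      (s : ι → ZMod 2) q.1 = 1 ∧ (s : ι → ZMod 2) q.2 = 1).card := by
    intro s
    rw [filter_product (p := fun i => (s : ι → ZMod 2) i = 1) (q := fun i => (s : ι → ZMod 2) i = 1), card_product,
      sq, norm_eq]
    have : (oᶜ.filter fun i => (s : ι → ZMod 2) i = 1) = supp (s : ι → ZMod 2) := by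
      ext i
      simp only [mem_filter, mem_compl, mem_supp, and_iff_right_iff_imp]
      exact fun hi ho' => by rw [s.2.2 i ho'] at hi; exact zero_ne_one hi
    rw [this]
  have hsum : 4 * ∑ s : S, hammingNorm (s : ι → ZMod 2) ^ 2 = 272 * n := by
    rw [sum_congr rfl fun s _ => hpair s]
    simp only [card_filter]
    rw [sum_comm, mul_sum, sum_product]
    rw [sum_congr rfl fun i hi => sum_congr rfl fun j hj => (by rw [← card_filter]; exact pr i hi j hj :
      4 * (∑ s : S, if (s : ι → ZMod 2) (i, j).1 = 1 ∧ (s : ι → ZMod 2) (i, j).2 = 1 then 1 else 0) =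
        if i = j then 2 * n else n)]
    rw [sum_congr rfl fun i hi => (show ∑ j ∈ oᶜ, (if i = j then 2 * n else n) = 17 * n by
      rw [← add_sum_erase _ _ hi, if_pos rfl,
        sum_congr rfl fun j hj => if_neg (Ne.symm (mem_erase.1 hj).1), sum_const,
        card_erase_of_mem hi, card_compl, h.card, (ind_mem ho).2]
      simp only [smul_eq_mul]; omega), sum_const, card_compl, h.card, (ind_mem ho).2, smul_eq_mul]
    ring
  have hsum2 : ∑ s : S, hammingNorm (s : ι → ZMod 2) ^ 2 + 128 = 64 * n + 256 := by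
    set s0 : S := ⟨_, out_mem h ho⟩
    have n0 : hammingNorm (s0 : ι → ZMod 2) = 16 := by
      have e := weight_compl (ind o)
      rw [norm_eq (ind o), supp_ind, (ind_mem ho).2, h.card] at e
      show hammingNorm ((fun _ => 1) + ind o) = 16
      rw [add_comm]; omega
    have hne : s0 ≠ 0 := fun e => by rw [e] at n0; simp at n0
    have w : ∀ s : S, s ≠ 0 → s ≠ s0 → hammingNorm (s : ι → ZMod 2) ^ 2 = 64 := by
      intro s hs hs0
      rcases vanish_weights h ho s.2 with e | e | e
      · exact absurd (Subtype.ext (hammingNorm_eq_zero.1 e)) hs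
      · rw [e]; norm_num
      · refine absurd (Subtype.ext ?_) hs0
        have hz : supp (s : ι → ZMod 2) = oᶜ := eq_of_subset_of_card_le
          (fun i hi => mem_compl.2 fun hio => by simp [supp, s.2.2 i hio] at hi)
          (by rw [card_compl, h.card, (ind_mem ho).2, ← norm_eq, e])
        rw [← ind_supp (s : ι → ZMod 2), hz]
        funext i
        by_cases hi : i ∈ o
        · simp [s0, ind, hi]; decide
        · simp [s0, ind, hi]
    rw [← sum_erase_add _ _ (mem_univ (0 : S)), ← sum_erase_add _ _ (mem_erase.2 ⟨hne, mem_univ s0⟩),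
      sum_congr rfl fun s hs => w s (mem_erase.1 (mem_erase.1 hs).2).1 (mem_erase.1 hs).1, sum_const,
      card_erase_of_mem (mem_erase.2 ⟨hne, mem_univ s0⟩), card_erase_of_mem (mem_univ _), ← hn, n0]
    simp only [ZeroMemClass.coe_zero, hammingNorm_zero, smul_eq_mul]
    have : 2 ≤ n := by
      rw [hn]; exact one_lt_card.2 ⟨s0, mem_univ _, 0, mem_univ _, hne⟩
    omega
  have hn32 : n = 2 ^ 5 := by omega
  rw [hn, card_univ, Module.card_eq_pow_finrank (K := ZMod 2), ZMod.card] at hn32
  exact Nat.pow_right_injective le_rfl hn32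

theorem separating_functional {V : Type*} [AddCommGroup V] [Module (ZMod 2) V] {u v : V} (hu : u ≠ 0)
    (hv : v ≠ 0) : ∃ φ : Module.Dual (ZMod 2) V, φ u = 1 ∧ φ v = 1 := by
  have ex : ∀ {w : V}, w ≠ 0 → ∃ φ : Module.Dual (ZMod 2) V, φ w = 1 := fun {w} hw => by
    by_contra hne
    push Not at hne
    exact hw ((Module.forall_dual_apply_eq_zero_iff (ZMod 2) w).1 fun φ =>
      (zmod_two (φ w)).resolve_right (hne φ))
  obtain ⟨g1, h1⟩ := ex hu
  obtain ⟨g2, h2⟩ := ex hv
  rcases zmod_two (g1 v) with a | a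
  · rcases zmod_two (g2 u) with b | b
    · exact ⟨g1 + g2, by simp [h1, b], by simp [h2, a]⟩
    · exact ⟨g2, b, h2⟩
  · exact ⟨g1, h1, a⟩

theorem exists_equiv_mapping {V W : Type*} [AddCommGroup V] [Module (ZMod 2) V] [FiniteDimensional (ZMod 2) V]
    [AddCommGroup W] [Module (ZMod 2) W] [FiniteDimensional (ZMod 2) W]
    (he : Module.finrank (ZMod 2) V = Module.finrank (ZMod 2) W) {u : V} {v : W} (hu : u ≠ 0) (hv : v ≠ 0) :
    ∃ L : V ≃ₗ[ZMod 2] W, L u = v := by
  obtain ⟨L⟩ := FiniteDimensional.nonempty_linearEquiv_of_finrank_eq he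
  obtain ⟨φ, h1, h2⟩ := separating_functional (fun h => hu (L.map_eq_zero_iff.1 h) : L u ≠ 0) hv
  set d := L u + v
  have hd : φ d = 0 := by rw [map_add, h1, h2]; decide
  have two : ∀ x : W, x + x = 0 := fun x => by
    rw [← one_smul (ZMod 2) x, ← add_smul, show (1 : ZMod 2) + 1 = 0 by decide, zero_smul]
  let T : W →ₗ[ZMod 2] W := LinearMap.id + φ.smulRight d
  have hTT : T.comp T = LinearMap.id := LinearMap.ext fun x => by
    simp only [T, LinearMap.comp_apply, LinearMap.add_apply, LinearMap.id_apply, LinearMap.smulRight_apply, map_add,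
      map_smul, hd, smul_zero, zero_smul, add_zero]
    rw [add_assoc, two, add_zero]
  refine ⟨L.trans (LinearEquiv.ofInvolutive T fun x => LinearMap.congr_fun hTT x), ?_⟩
  show L u + φ (L u) • d = v
  rw [h1, one_smul]
  show L u + (L u + v) = v
  rw [← add_assoc, two, zero_add]

/-- pairwise meeting pairs, more than three of them, form a star -/
theorem star_of_meet {β : Type*} [DecidableEq β] (F : Finset (Finset β)) (h2 : ∀ p ∈ F, p.card = 2)
    (hm : ∀ p ∈ F, ∀ q ∈ F, p ≠ q → (p ∩ q).Nonempty) (h4 : 4 ≤ F.card) : ∃ c, ∀ p ∈ F, c ∈ p := by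
  obtain ⟨p0, hp0⟩ := card_pos.1 (show 0 < F.card by omega)
  obtain ⟨a, b, hab, e0⟩ := card_eq_two.1 (h2 p0 hp0)
  by_contra hne
  push Not at hne
  obtain ⟨p, hp, hap⟩ := hne a
  obtain ⟨q, hq, hbq⟩ := hne b
  have hpair : ∀ r ∈ F, ∀ x y, x ∈ r → y ∈ r → x ≠ y → r = {x, y} := fun r hr x y hx hy hxy =>
    (eq_of_subset_of_card_le (insert_subset hx (singleton_subset_iff.2 hy))
      (by rw [h2 r hr, card_pair hxy])).symm
  have hbp : b ∈ p := by
    obtain ⟨t, ht⟩ := hm p0 hp0 p hp (fun e => hap (e ▸ e0 ▸ mem_insert_self a {b}))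
    rw [mem_inter, e0, mem_insert, mem_singleton] at ht
    rcases ht with ⟨rfl | rfl, h⟩
    · exact absurd h hap
    · exact h
  have haq : a ∈ q := by
    obtain ⟨t, ht⟩ := hm p0 hp0 q hq (fun e => hbq (e ▸ e0 ▸ mem_insert_of_mem (mem_singleton_self b)))
    rw [mem_inter, e0, mem_insert, mem_singleton] at ht
    rcases ht with ⟨rfl | rfl, h⟩
    · exact h
    · exact absurd h hbq
  have hpq : p ≠ q := fun e => hap (e ▸ haq)
  obtain ⟨x, hx⟩ := hm p hp q hq hpq
  rw [mem_inter] at hx
  have xa : x ≠ a := fun e => hap (e ▸ hx.1)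
  have xb : x ≠ b := fun e => hbq (e ▸ hx.2)
  have ep := hpair p hp b x hbp hx.1 (Ne.symm xb)
  have eq' := hpair q hq a x haq hx.2 (Ne.symm xa)
  have hall : ∀ r ∈ F, r ∈ ({p0, p, q} : Finset (Finset β)) := by
    intro r hr
    simp only [mem_insert, mem_singleton]
    by_contra hn
    push Not at hn
    obtain ⟨t, ht⟩ := hm r hr p0 hp0 hn.1
    obtain ⟨t', ht'⟩ := hm r hr p hp hn.2.1
    obtain ⟨t'', ht''⟩ := hm r hr q hq hn.2.2
    simp only [mem_inter, e0, ep, eq', mem_insert, mem_singleton] at ht ht' ht''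
    rcases ht with ⟨h1, rfl | rfl⟩
    · rcases ht' with ⟨h2', rfl | rfl⟩
      · exact hn.1 (e0 ▸ hpair r hr _ _ h1 h2' hab)
      · exact hn.2.2 (eq' ▸ hpair r hr _ _ h1 h2' (Ne.symm xa))
    · rcases ht'' with ⟨h2', rfl | rfl⟩
      · exact hn.1 (e0 ▸ hpair r hr _ _ h2' h1 hab)
      · exact hn.2.1 (ep ▸ hpair r hr _ _ h1 h2' (Ne.symm xb))
  have := (card_le_card hall).trans card_le_three
  omega

theorem norm_split {α : Type*} [Fintype α] [DecidableEq α] (x : α → ZMod 2) (T : Finset α) :
    hammingNorm x = (T.filter fun a => x a = 1).card + (Tᶜ.filter fun a => x a = 1).card := by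
  rw [← card_union_of_disjoint (disjoint_filter_filter disjoint_compl_right), ← filter_union, union_compl,
    norm_eq]
  congr 1
  ext a; simp [mem_supp]

/-- equivalence of codes -/
theorem good_equiv (h : Good C) (h' : Good D) : ∃ e : ι ≃ κ, ∀ w : κ → ZMod 2, w ∈ D ↔ (fun i => w (e i)) ∈ C := by
  classical
  obtain ⟨c0, hc0, h80⟩ := exists_eight h
  obtain ⟨d0, hd0, h80'⟩ := exists_eight h'
  set o := supp c0
  set o' := supp d0
  have ho : o ∈ octs C := mem_octs.2 ⟨c0, hc0, h80, rfl⟩
  have ho' : o' ∈ octs D := mem_octs.2 ⟨d0, hd0, h80', rfl⟩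
  obtain ⟨hoC, ho8⟩ := ind_mem ho
  obtain ⟨hoD, ho8'⟩ := ind_mem ho'
  -- outside
  set S := vanish C o
  set S' := vanish D o'
  set one : S := ⟨_, out_mem h ho⟩
  set one' : S' := ⟨_, out_mem h' ho'⟩
  have hone : ∀ i ∉ o, (one : ι → ZMod 2) i = 1 := fun i hi => by simp [one, ind, hi]
  have hone' : ∀ i ∉ o', (one' : κ → ZMod 2) i = 1 := fun i hi => by simp [one', ind, hi]
  obtain ⟨i1, hi1⟩ : ∃ i, i ∉ o := by
    by_contra hh; push Not at hh
    rw [eq_univ_iff_forall.2 hh, card_univ, h.card] at ho8; omega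
  obtain ⟨k1, hk1⟩ : ∃ i, i ∉ o' := by
    by_contra hh; push Not at hh
    rw [eq_univ_iff_forall.2 hh, card_univ, h'.card] at ho8'; omega
  obtain ⟨L, hL⟩ := exists_equiv_mapping (V := S) (W := S') ((vanish_card h ho).trans (vanish_card h' ho').symm)
    (u := one) (v := one')
    (fun e => by have := hone i1 hi1; rw [e] at this; exact zero_ne_one this)
    (fun e => by have := hone' k1 hk1; rw [e] at this; exact zero_ne_one this)
  haveI : Finite (Module.Dual (ZMod 2) S) := Finite.of_injective _ DFunLike.coe_injective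
  haveI : Fintype (Module.Dual (ZMod 2) S) := Fintype.ofFinite _
  set H := univ.filter fun f : Module.Dual (ZMod 2) S => f one = 1
  let ev : ι → Module.Dual (ZMod 2) S := fun i => (LinearMap.proj i).comp S.subtype
  let ev' : κ → Module.Dual (ZMod 2) S := fun k => ((LinearMap.proj k).comp S'.subtype).comp L.toLinearMap
  have hH : H.card = 16 := by
    have : 2 * H.card = Fintype.card (Module.Dual (ZMod 2) S) :=
      fun_count (Module.Dual.eval (ZMod 2) S one) (x := ev i1) (hone i1 hi1)
    rw [Module.card_eq_pow_finrank (K := ZMod 2), Subspace.dual_finrank_eq, vanish_card h ho, ZMod.card] at this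
    omega
  have bij : ∀ f ∈ H, ∃ i ∉ o, ev i = f := by
    have inj : Set.InjOn ev ↑oᶜ := by
      intro i hi j hj e
      by_contra hne
      obtain ⟨s, hs, hs'⟩ := out_separated h ho (mem_compl.1 hi) (mem_compl.1 hj) hne
      exact hs' (LinearMap.congr_fun e ⟨s, hs⟩)
    have sub : oᶜ.image ev ⊆ H := by
      intro f hf
      obtain ⟨i, hi, rfl⟩ := mem_image.1 hf
      exact mem_filter.2 ⟨mem_univ _, hone i (mem_compl.1 hi)⟩
    have he := eq_of_subset_of_card_le sub (by
      rw [hH, card_image_of_injOn inj, card_compl, h.card, ho8])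
    intro f hf
    rw [← he, mem_image] at hf
    obtain ⟨i, hi, e⟩ := hf
    exact ⟨i, mem_compl.1 hi, e⟩
  have bij' : ∀ f ∈ H, ∃ k ∉ o', ev' k = f := by
    have inj : Set.InjOn ev' ↑o'ᶜ := by
      intro i hi j hj e
      by_contra hne
      obtain ⟨s, hs, hs'⟩ := out_separated h' ho' (mem_compl.1 hi) (mem_compl.1 hj) hne
      refine hs' ?_
      have := LinearMap.congr_fun e (L.symm ⟨s, hs⟩)
      simpa [ev'] using this
    have sub : o'ᶜ.image ev' ⊆ H := by
      intro f hf
      obtain ⟨i, hi, rfl⟩ := mem_image.1 hf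
      refine mem_filter.2 ⟨mem_univ _, ?_⟩
      show (L one : κ → ZMod 2) i = 1
      rw [hL]; exact hone' i (mem_compl.1 hi)
    have he := eq_of_subset_of_card_le sub (by
      rw [hH, card_image_of_injOn inj, card_compl, h'.card, ho8'])
    intro f hf
    rw [← he, mem_image] at hf
    obtain ⟨i, hi, e⟩ := hf
    exact ⟨i, mem_compl.1 hi, e⟩
  have hev : ∀ i ∉ o, ev i ∈ H := fun i hi => mem_filter.2 ⟨mem_univ _, hone i hi⟩
  have hev' : ∀ k ∉ o', ev' k ∈ H := fun k hk => mem_filter.2 ⟨mem_univ _, by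
    show (L one : κ → ZMod 2) k = 1
    rw [hL]; exact hone' k hk⟩
  choose f hf hfe using fun (i : ι) (hi : i ∉ o) => bij' _ (hev i hi)
  choose g hg hge using fun (k : κ) (hk : k ∉ o') => bij _ (hev' k hk)
  have f_inj : ∀ i j (hi : i ∉ o) (hj : j ∉ o), f i hi = f j hj → i = j := by
    intro i j hi hj e
    by_contra hne
    obtain ⟨s, hs, hs'⟩ := out_separated h ho hi hj hne
    exact hs' (LinearMap.congr_fun ((hfe i hi).symm.trans ((congrArg ev' e).trans (hfe j hj))) ⟨s, hs⟩)
  have hS : ∀ (s : S) i (hi : i ∉ o), (L s : κ → ZMod 2) (f i hi) = (s : ι → ZMod 2) i := fun s i hi =>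
    LinearMap.congr_fun (hfe i hi) s
  have f_surj : ∀ k (hk : k ∉ o'), ∃ i, ∃ hi : i ∉ o, f i hi = k := by
    intro k hk
    refine ⟨g k hk, hg k hk, ?_⟩
    by_contra hne
    obtain ⟨s, hs, hs'⟩ := out_separated h' ho' (hf _ (hg k hk)) hk hne
    refine hs' ?_
    have e1 := LinearMap.congr_fun ((hfe _ (hg k hk)).trans (hge k hk)) (L.symm ⟨s, hs⟩)
    simpa [ev'] using e1
  -- a word with given pair
  obtain ⟨q, hq⟩ := card_pos.1 (show 0 < o.card by omega)
  have step : ∀ i ∈ o, i ≠ q → ∃ c ∈ C, (∀ a ∈ o, c a = if a = i ∨ a = q then 1 else 0) ∧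
      ∃ c' ∈ D, (∀ a (ha : a ∉ o), c' (f a ha) = c a) ∧ (o'.filter fun k => c' k = 1).card = 2 := by
    intro i hi hiq
    -- pairs are projections of code words
    obtain ⟨c, hc, hca⟩ : ∃ c ∈ C, ∀ a ∈ o, c a = if a = i ∨ a = q then 1 else 0 := by
      by_contra hne
      push Not at hne
      let E : Submodule (ZMod 2) (ι → ZMod 2) := C.map
        ({ toFun := fun c a => if a ∈ o then c a else 0
           map_add' := fun c d => funext fun a => by by_cases ha : a ∈ o <;> simp [ha]
           map_smul' := fun r c => funext fun a => by by_cases ha : a ∈ o <;> simp [ha] } :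
          (ι → ZMod 2) →ₗ[ZMod 2] (ι → ZMod 2))
      have hnot : ind {i, q} ∉ E := by
        rintro ⟨c, hc, e⟩
        obtain ⟨a, ha, hca⟩ := hne c hc
        have := congrFun e a
        simp [ind, ha] at this
        exact hca this
      obtain ⟨φ, hφ1, hφ2⟩ := Submodule.exists_dual_map_eq_bot_of_notMem hnot inferInstance
      have hφE : ∀ x ∈ E, φ x = 0 := fun x hx => by
        have : φ x ∈ Submodule.map φ E := Submodule.mem_map_of_mem hx
        rwa [hφ2, Submodule.mem_bot] at this
      set z : ι → ZMod 2 := fun a => if a ∈ o then φ (Pi.single a 1) else 0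
      have hexp : ∀ x : ι → ZMod 2, φ x = ∑ a, x a * φ (Pi.single a 1) := fun x => by
        conv_lhs => rw [pi_eq_sum_univ' x]
        simp [map_sum]
      have hzC : z ∈ C := mem_of_orth h fun c hc => by
        have := hφE _ (Submodule.mem_map_of_mem hc)
        rw [hexp] at this
        rw [← this]
        refine sum_congr rfl fun a _ => ?_
        by_cases ha : a ∈ o <;> simp [z, ha, mul_comm]
      have hsub : supp z ⊆ o := fun a ha => by
        by_contra hh; simp [supp, z, hh] at ha
      have hval : φ (ind {i, q}) = z i + z q := by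
        rw [hexp]
        simp only [ind, ite_mul, one_mul, zero_mul]
        rw [sum_ite_mem, univ_inter, sum_pair hiq]
        simp [z, hi, hq]
      have hcase := weights h hzC
      have hle : hammingNorm z ≤ 8 := by rw [norm_eq, ← ho8]; exact card_le_card hsub
      rcases hcase with e | e | e | e | e
      · rw [hammingNorm_eq_zero.1 e] at hval; simp at hval; exact hφ1 hval
      · have e2 : supp z = o := eq_of_subset_of_card_le hsub (by rw [← norm_eq z, e, ho8])
        rw [(mem_supp z i).1 (e2 ▸ hi), (mem_supp z q).1 (e2 ▸ hq)] at hval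
        exact hφ1 (hval.trans (by decide))
      all_goals omega
    refine ⟨c, hc, hca, ?_⟩
    -- transport the outside
    set v : κ → ZMod 2 := fun k => if hk : k ∈ o' then 0 else c (g k hk) with hv
    have hgf : ∀ a (ha : a ∉ o), g (f a ha) (hf a ha) = a := fun a ha => by
      by_contra hne
      obtain ⟨s, hs, hs'⟩ := out_separated h ho (hg _ (hf a ha)) ha hne
      exact hs' (LinearMap.congr_fun ((hge _ (hf a ha)).trans (hfe a ha)) ⟨s, hs⟩)
    obtain ⟨z, hz, hzD⟩ := extend_out h' (o := o') (v := v) fun s hs => by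
      have e1 : ∑ k, v k * s k = ∑ k ∈ o'ᶜ, v k * s k := (sum_subset (subset_univ _) fun k _ hk => by
        rw [mem_compl, not_not] at hk; simp [hs.2 k hk]).symm
      set t := L.symm ⟨s, hs⟩
      have e2 : ∑ a, c a * (t : ι → ZMod 2) a = ∑ a ∈ oᶜ, c a * (t : ι → ZMod 2) a :=
        (sum_subset (subset_univ _) fun a _ ha => by
          rw [mem_compl, not_not] at ha; simp [t.2.2 a ha]).symm
      rw [e1, ← h.orth c hc _ t.2.1, e2]
      refine (sum_bij (fun a ha => f a (mem_compl.1 ha)) (fun a ha => mem_compl.2 (hf _ _))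
        (fun a ha b hb e => f_inj _ _ _ _ e) (fun k hk => ?_) (fun a ha => ?_)).symm
      · obtain ⟨a, ha, e⟩ := f_surj k (mem_compl.1 hk)
        exact ⟨a, mem_compl.2 ha, e⟩
      · have e3 := hS t a (mem_compl.1 ha)
        rw [LinearEquiv.apply_symm_apply] at e3
        rw [← e3]
        simp [hv, hf a (mem_compl.1 ha), hgf a (mem_compl.1 ha)]
    have hout : ∀ a (ha : a ∉ o), (v + z) (f a ha) = c a := fun a ha => by
      simp [hv, hz _ (hf a ha), hf a ha, hgf a ha]
    -- weights
    have wC := four_dvd h c hc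
    have hin : (o.filter fun a => c a = 1) = {i, q} := by
      ext a
      simp only [mem_filter, mem_insert, mem_singleton]
      constructor
      · rintro ⟨ha, e⟩
        rw [hca a ha] at e
        by_contra hn
        rw [if_neg hn] at e
        exact zero_ne_one e
      · intro hh
        have ha : a ∈ o := by rcases hh with rfl | rfl <;> assumption
        exact ⟨ha, by rw [hca a ha, if_pos hh]⟩
    have eC := norm_split c o
    rw [hin, card_pair hiq] at eC
    have same : ∀ w : κ → ZMod 2, (∀ a (ha : a ∉ o), w (f a ha) = c a) →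
        (o'ᶜ.filter fun a => w a = 1).card = (oᶜ.filter fun a => c a = 1).card := by
      intro w hw
      refine (card_bij (fun a ha => f a (mem_compl.1 (mem_filter.1 ha).1)) (fun a ha => ?_)
        (fun a ha b hb e => f_inj _ _ _ _ e) (fun k hk => ?_)).symm
      · rw [mem_filter] at ha ⊢
        exact ⟨mem_compl.2 (hf _ _), by rw [hw]; exact ha.2⟩
      · rw [mem_filter] at hk
        obtain ⟨a, ha, e⟩ := f_surj k (mem_compl.1 hk.1)
        exact ⟨a, mem_filter.2 ⟨mem_compl.2 ha, by rw [← hw a ha, e]; exact hk.2⟩, e⟩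
    have wD := four_dvd h' _ hzD
    have eD := norm_split (v + z) o'
    rw [same _ hout] at eD
    have hle : (o'.filter fun a => (v + z) a = 1).card ≤ 8 := ho8' ▸ card_filter_le _ _
    by_cases h2 : (o'.filter fun a => (v + z) a = 1).card = 2
    · exact ⟨v + z, hzD, hout, h2⟩
    refine ⟨v + z + ind o', D.add_mem hzD hoD, fun a ha => by
      rw [Pi.add_apply, hout]; simp [ind, hf a ha], ?_⟩
    have ecompl : (o'.filter fun a => (v + z + ind o') a = 1).card + (o'.filter fun a => (v + z) a = 1).card = 8 := by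
      rw [← ho8', ← card_filter_add_card_filter_not (s := o') (fun a => (v + z) a = 1), add_comm]
      congr 2
      refine filter_congr fun a ha => ?_
      rcases zmod_two ((v + z) a) with e | e <;> rw [Pi.add_apply, e] <;> simp [ind, ha] <;> decide
    omega
  choose cw hcw hcin cw' hcw' hcout hc2 using step
  -- the star
  set pr : ∀ i ∈ o, i ≠ q → Finset κ := fun i hi hq' => o'.filter fun k => cw' i hi hq' k = 1
  have meet : ∀ i j (hi : i ∈ o) (hiq : i ≠ q) (hj : j ∈ o) (hjq : j ≠ q), i ≠ j →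
      pr i hi hiq ≠ pr j hj hjq ∧ (pr i hi hiq ∩ pr j hj hjq).Nonempty := by
    intro i j hi hiq hj hjq hij
    set x := cw i hi hiq + cw j hj hjq
    set x' := cw' i hi hiq + cw' j hj hjq
    have hx : x ∈ C := C.add_mem (hcw i hi hiq) (hcw j hj hjq)
    have hx' : x' ∈ D := D.add_mem (hcw' i hi hiq) (hcw' j hj hjq)
    have hin : (o.filter fun a => x a = 1) = {i, j} := by
      ext a
      simp only [mem_filter, mem_insert, mem_singleton]
      constructor
      · rintro ⟨ha, e⟩
        simp only [x, Pi.add_apply, hcin i hi hiq a ha, hcin j hj hjq a ha] at e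
        by_contra hn
        push Not at hn
        by_cases haq : a = q <;> simp [hn.1, hn.2, haq] at e
      · rintro (rfl | rfl)
        · exact ⟨hi, by simp [x, hcin a hi hiq a hi, hcin j hj hjq a hi, hij, hiq]⟩
        · exact ⟨hj, by simp [x, hcin i hi hiq a hj, hcin a hj hjq a hj, Ne.symm hij, hjq]⟩
    have houts : (o'ᶜ.filter fun a => x' a = 1).card = (oᶜ.filter fun a => x a = 1).card := by
      refine (card_bij (fun a ha => f a (mem_compl.1 (mem_filter.1 ha).1)) (fun a ha => ?_)
        (fun a ha b hb e => f_inj _ _ _ _ e) (fun k hk => ?_)).symm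
      · rw [mem_filter] at ha ⊢
        exact ⟨mem_compl.2 (hf _ _), by simp only [x', Pi.add_apply, hcout]; exact ha.2⟩
      · rw [mem_filter] at hk
        obtain ⟨a, ha, e⟩ := f_surj k (mem_compl.1 hk.1)
        refine ⟨a, mem_filter.2 ⟨mem_compl.2 ha, ?_⟩, e⟩
        have := hk.2
        rw [← e] at this
        simpa [x', x, hcout] using this
    have e1 := norm_split x o
    have e2 := norm_split x' o'
    rw [hin, card_pair hij] at e1
    rw [houts] at e2
    have hsd : (o'.filter fun a => x' a = 1) = symmDiff (pr i hi hiq) (pr j hj hjq) := by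
      ext a
      simp only [pr, mem_filter, Finset.mem_symmDiff, x', Pi.add_apply]
      rcases zmod_two (cw' i hi hiq a) with e | e <;> rcases zmod_two (cw' j hj hjq a) with e' | e' <;>
        simp [e, e'] <;> decide
    have hcs := card_sd (pr i hi hiq) (pr j hj hjq)
    rw [← hsd, show (pr i hi hiq).card = 2 from hc2 i hi hiq, show (pr j hj hjq).card = 2 from hc2 j hj hjq] at hcs
    have d1 := four_dvd h x hx
    have d2 := four_dvd h' x' hx'
    refine ⟨fun e => ?_, ?_⟩
    · rw [hsd, e, symmDiff_self, bot_eq_empty, card_empty] at e2; omega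
    · rw [← card_pos]; omega
  set idx7 := (o.erase q).attach
  have mi : ∀ a : {x // x ∈ o.erase q}, (a : ι) ∈ o ∧ (a : ι) ≠ q := fun a =>
    ⟨(mem_erase.1 a.2).2, (mem_erase.1 a.2).1⟩
  set F : Finset (Finset κ) := idx7.image fun a : {x // x ∈ o.erase q} => pr a.1 (mi a).1 (mi a).2
  have hFc : F.card = 7 := by
    rw [card_image_of_injective _ fun a b e => Subtype.ext (by
      by_contra hne
      exact (meet a b (mi a).1 (mi a).2 (mi b).1 (mi b).2 hne).1 e), card_attach, card_erase_of_mem hq, ho8]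
  obtain ⟨c, hcF⟩ := star_of_meet F (fun p hp => by
      obtain ⟨a, -, rfl⟩ := mem_image.1 hp; exact hc2 _ _ _)
    (fun p hp p' hp' hne => by
      obtain ⟨a, -, rfl⟩ := mem_image.1 hp
      obtain ⟨b, -, rfl⟩ := mem_image.1 hp'
      exact (meet a b _ _ _ _ fun e => hne (by rw [Subtype.ext e])).2) (by omega)
  have hcp : ∀ i (hi : i ∈ o) (hiq : i ≠ q), c ∈ pr i hi hiq := fun i hi hiq =>
    hcF _ (mem_image.2 ⟨⟨i, mem_erase.2 ⟨hiq, hi⟩⟩, mem_attach _ _, rfl⟩)
  obtain ⟨i2, hi2⟩ := card_pos.1 (show 0 < (o.erase q).card by rw [card_erase_of_mem hq, ho8]; norm_num)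
  have hco : c ∈ o' := (mem_filter.1 (hcp i2 (mem_erase.1 hi2).2 (mem_erase.1 hi2).1)).1
  have hother : ∀ i (hi : i ∈ o) (hiq : i ≠ q), ∃ k, k ≠ c ∧ k ∈ o' ∧ pr i hi hiq = {c, k} := by
    intro i hi hiq
    obtain ⟨k, hk⟩ := card_eq_one.1 (show ((pr i hi hiq).erase c).card = 1 by
      rw [card_erase_of_mem (hcp i hi hiq), show (pr i hi hiq).card = 2 from hc2 i hi hiq])
    have hk' := mem_erase.1 (hk ▸ mem_singleton_self k : k ∈ (pr i hi hiq).erase c)
    exact ⟨k, hk'.1, (mem_filter.1 hk'.2).1, by rw [← hk, insert_erase (hcp i hi hiq)]⟩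
  choose ot hot1 hot2 hot3 using hother
  -- the bijection
  let E : ι → κ := fun i => if hi : i ∈ o then (if hiq : i = q then c else ot i hi hiq) else f i hi
  have Eq' : E q = c := by simp [E, hq]
  have Ei : ∀ i (hi : i ∈ o) (hiq : i ≠ q), E i = ot i hi hiq := fun i hi hiq => by simp [E, hi, hiq]
  have Ef : ∀ i (hi : i ∉ o), E i = f i hi := fun i hi => by simp [E, hi]
  have Ein : ∀ i ∈ o, E i ∈ o' := fun i hi => by
    by_cases hiq : i = q
    · rw [hiq, Eq']; exact hco
    · rw [Ei i hi hiq]; exact hot2 _ _ _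
  have Einj : Function.Injective E := by
    intro a b e
    by_cases ha : a ∈ o <;> by_cases hb : b ∈ o
    · by_cases haq : a = q <;> by_cases hbq : b = q
      · rw [haq, hbq]
      · rw [haq, Eq', Ei b hb hbq] at e; exact absurd e.symm (hot1 _ _ _)
      · rw [hbq, Eq', Ei a ha haq] at e; exact absurd e (hot1 _ _ _)
      · by_contra hne
        rw [Ei a ha haq, Ei b hb hbq] at e
        exact (meet a b ha haq hb hbq hne).1 (by rw [hot3, hot3, e])
    · rw [Ef b hb] at e; exact absurd (e ▸ Ein a ha) (hf _ _)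
    · rw [Ef a ha] at e; exact absurd (e.symm ▸ Ein b hb) (hf _ _)
    · rw [Ef a ha, Ef b hb] at e; exact f_inj _ _ _ _ e
  let e : ι ≃ κ := Equiv.ofBijective E ((Fintype.bijective_iff_injective_and_card E).2
    ⟨Einj, h.card.trans h'.card.symm⟩)
  let T : (κ → ZMod 2) ≃ₗ[ZMod 2] (ι → ZMod 2) := LinearEquiv.funCongrLeft (ZMod 2) (ZMod 2) e
  refine ⟨e, ?_⟩
  have hsub : C ≤ D.map T.toLinearMap := by
    intro x hx
    set Z := (o.erase q).filter fun a => x a = 1
    set y := x + ∑ a ∈ Z.attach, cw a (mem_erase.1 (mem_filter.1 a.2).1).2 (mem_erase.1 (mem_filter.1 a.2).1).1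
    have hmem : ∀ i (hi : i ∈ o) (hiq : i ≠ q), cw i hi hiq ∈ D.map T.toLinearMap := by
      intro i hi hiq
      refine ⟨cw' i hi hiq, hcw' i hi hiq, funext fun a => ?_⟩
      show cw' i hi hiq (E a) = cw i hi hiq a
      by_cases ha : a ∈ o
      · rw [hcin i hi hiq a ha]
        have hp : cw' i hi hiq (E a) = 1 ↔ E a ∈ pr i hi hiq := by simp [pr, Ein a ha]
        rw [hot3 i hi hiq, mem_insert, mem_singleton, ← Eq', ← Ei i hi hiq, Einj.eq_iff, Einj.eq_iff, or_comm] at hp
        split_ifs with hh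
        · exact hp.2 hh
        · exact (zmod_two _).resolve_right fun e => hh (hp.1 e)
      · rw [Ef a ha]; exact hcout i hi hiq a ha
    have hyC : y ∈ C := C.add_mem hx (C.sum_mem fun a _ => hcw _ _ _)
    have hy0 : ∀ a ∈ o, a ≠ q → y a = 0 := by
      intro a ha haq
      simp only [y, Pi.add_apply, Finset.sum_apply]
      rw [sum_congr rfl fun (b : {z // z ∈ Z}) _ => hcin b.1 (mem_erase.1 (mem_filter.1 b.2).1).2
        (mem_erase.1 (mem_filter.1 b.2).1).1 a ha]
      simp only [haq, or_false]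
      rcases zmod_two (x a) with e0 | e0
      · rw [e0, zero_add, sum_eq_zero fun b _ => if_neg fun hb => ?_]
        have hmb := (mem_filter.1 b.2).2
        rw [← hb, e0] at hmb
        exact zero_ne_one hmb
      · rw [e0, sum_eq_single (⟨a, mem_filter.2 ⟨mem_erase.2 ⟨haq, ha⟩, e0⟩⟩ : {z // z ∈ Z}) (fun b _ hb =>
          if_neg fun hh => hb (Subtype.ext hh.symm)) (fun hh => absurd (mem_attach _ _) hh), if_pos rfl]
        decide
    have hyS : y ∈ S := ⟨hyC, fun a ha => by
      by_cases haq : a = q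
      · have := even_on h ho hyC
        rw [← add_sum_erase _ _ hq, sum_eq_zero (fun b hb => hy0 b (mem_erase.1 hb).2 (mem_erase.1 hb).1),
          add_zero] at this
        rw [haq]; exact this
      · exact hy0 a ha haq⟩
    have hyT : y ∈ D.map T.toLinearMap := by
      refine ⟨(L ⟨y, hyS⟩ : κ → ZMod 2), (L ⟨y, hyS⟩).2.1, funext fun a => ?_⟩
      show (L ⟨y, hyS⟩ : κ → ZMod 2) (E a) = y a
      by_cases ha : a ∈ o
      · rw [(L ⟨y, hyS⟩).2.2 _ (Ein a ha), hyS.2 a ha]
      · rw [Ef a ha]; exact hS _ a ha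
    have hsum : ∑ a ∈ Z.attach, cw a (mem_erase.1 (mem_filter.1 a.2).1).2 (mem_erase.1 (mem_filter.1 a.2).1).1 ∈
        D.map T.toLinearMap := Submodule.sum_mem _ fun a _ => hmem _ _ _
    have := Submodule.sub_mem _ hyT hsum
    simpa [y] using this
  have heq : C = D.map T.toLinearMap := Submodule.eq_of_le_of_finrank_le hsub
    (by rw [LinearEquiv.finrank_map_eq, h.dim, h'.dim])
  intro w
  constructor
  · intro hw
    rw [heq]; exact ⟨w, hw, rfl⟩
  · intro hw
    rw [heq] at hw
    obtain ⟨d, hd, e1⟩ := hw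
    have : d = w := T.injective e1
    exact this ▸ hd

end Cfsg.Agent.Spor.Code24
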