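import Cfsg.Agent.Lib.Spor.PresCert

/-!
Using coset certificates on lifts of a presented group: single traced words, and a descent for
elements of the kernel by points of a permutation action.
-/

set_option autoImplicit false

namespace Cfsg.Agent.Spor.CC

variable {G : Type*} [Group G]

/-- a certificate without table entries: all recorded equalities hold -/
theorem holds_all {D : Data} {m : ℕ} (hdefs : ∀ k, k < D.na - 1 → defOK D k = true)
    (hsteps : ∀ id, D.na - 1 ≤ id → id < m → ∃ s, stepOK D id s = true) (g : ℕ → G) (H : Subgroup G)
    (hg : ∀ x, g x * g x = 1) (h15 : g 15 = 1)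
    (hrel : ∀ k, k < D.nw → wLen (fld D.words 512 k) < 256 ∧
      (k < D.nr → ((wDecode (fld D.words 512 k)).map g).prod = 1) ∧
      ((wDecode (fld D.words 512 k)).map g).prod ∈ H)
    {v : ℕ → G} (h0 : v 0 = 1)
    (hv : ∀ k, k < D.na - 1 → v (k + 1) = v (fU (D.facts k)) * g (fX (D.facts k))) :
    ∀ k, k < m → Holds D g H v k := by
    intro k
    induction k using Nat.strong_induction_on with
    | _ k ih =>
      intro hk
      by_cases hkd : k < D.na - 1
      · have hd := hdefs k hkd
        simp only [defOK, Bool.and_eq_true] at hd
        unfold Holds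
        rw [Nat.eq_of_beq_eq_true hd.1.2]
        show Rel H _ (v (k + 1))
        rw [hv k hkd]
        exact Rel.refl _
      · obtain ⟨s, hs⟩ := hsteps k (by omega) hk
        simp only [stepOK, stWord] at hs
        generalize hW : Nat.land (Nat.shiftRight s 18) 16383 = wi at hs
        generalize ha : Nat.land s 262143 = a at hs
        simp only [Bool.and_eq_true, Bool.or_eq_true] at hs
        obtain ⟨⟨hw, hor⟩, hgap⟩ := hs
        obtain ⟨hL, hone, hmem⟩ := hrel wi (Nat.le_of_ble_eq_true hw)
        generalize fld D.words 512 wi = w at hgap hL hone hmem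
        simp only [gapOK, Bool.and_eq_true] at hgap
        obtain ⟨⟨⟨⟨h1, h2⟩, hu⟩, hv'⟩, hgap⟩ := hgap
        have hl : ∀ j, j < k → Holds D g H v j := fun j hj => ih j hj (by omega)
        have hne : ∀ r : ℕ, Nat.blt 0 r = true → r ≠ 0 := by
          intro r hr
          have := Nat.le_of_ble_eq_true hr
          omega
        have R1 := walk_sound hg h15 hl false a hL _ _ a 0 _ rfl (hne _ h1) (Nat.zero_le _)
          (by simpa [rd, pre] using Rel.refl (H := H) (v a))
        have R2 := walk_sound hg h15 hl true a hL _ _ a 0 _ rfl (hne _ h2) (Nat.zero_le _)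
          (by simpa [rd, suf] using Rel.refl (H := H) (v a))
        generalize walk D.facts w k false _ _ a 0 = r1 at R1 hu hgap
        generalize walk D.facts w k true _ _ a 0 = r2 at R2 hv' hgap
        simp only [rd] at R1 R2
        have hloop : Rel H (v a * pre g w (wLen w)) (v a) := by
          rw [pre_len]
          rcases hor with hr | hz
          · rw [hone (Nat.le_of_ble_eq_true hr), mul_one]; exact Rel.refl _
          · rw [Nat.eq_of_beq_eq_true hz, h0, one_mul, Rel, inv_one, mul_one]; exact hmem
        unfold Holds
        rw [Nat.eq_of_beq_eq_true hu, Nat.eq_of_beq_eq_true hv']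
        generalize fX (D.facts k) = x at hgap
        cases hx : Nat.beq x 15 with
        | true =>
          simp only [hx, cond_true] at hgap
          rw [Nat.eq_of_beq_eq_true hx, h15, mul_one]
          have := hloop.mul (suf g w (rPos r2))
          rw [← pre_mul_suf g hg w _ (rPos r1) (Nat.eq_of_beq_eq_true hgap), mul_assoc, mul_assoc,
            inv_mul_cancel, mul_one] at this
          exact (R1.symm.trans this).trans R2
        | false =>
          simp only [hx, cond_false, Bool.and_eq_true] at hgap
          obtain ⟨hlen, hxe⟩ := hgap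
          rw [Nat.eq_of_beq_eq_true hxe]
          have hlen' : rPos r1 + 1 + rPos r2 = wLen w := by
            have := Nat.eq_of_beq_eq_true hlen
            simp only [Nat.add_eq] at this
            omega
          have := hloop.mul (suf g w (rPos r2))
          rw [← pre_mul_suf g hg w _ _ hlen', mul_assoc, mul_assoc, inv_mul_cancel, mul_one, pre,
            ← mul_assoc] at this
          exact ((R1.mul _).symm.trans this).trans R2

/-- the packed word `w` leads from node `a` to node `c` -/
noncomputable def pathOK (D : Data) (lim w a c fuel ids : ℕ) : Bool :=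
  Nat.blt (wLen w) 256 && (fun r => Nat.blt 0 r && Nat.beq (rPos r) (wLen w) && Nat.beq (rNode r) c)
    (walk D.facts w lim false fuel ids a 0)

theorem pathOK_spec {D : Data} {g : ℕ → G} {H : Subgroup G} {v : ℕ → G}
    (hg : ∀ x, g x * g x = 1) (h15 : g 15 = 1) {lim : ℕ} (hl : ∀ k, k < lim → Holds D g H v k)
    {w a c fuel ids : ℕ} (h : pathOK D lim w a c fuel ids = true) :
    Rel H (v a * ((wDecode w).map g).prod) (v c) := by
  simp only [pathOK, Bool.and_eq_true] at h
  obtain ⟨hL, ⟨h1, h2⟩, h3⟩ := h
  have hne : walk D.facts w lim false fuel ids a 0 ≠ 0 := by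
    have := Nat.le_of_ble_eq_true h1
    omega
  have R := walk_sound hg h15 hl false a (Nat.le_of_ble_eq_true hL) fuel ids a 0 _ rfl hne
    (Nat.zero_le _) (by simpa [rd, pre] using Rel.refl (H := H) (v a))
  rw [Nat.eq_of_beq_eq_true h2, Nat.eq_of_beq_eq_true h3] at R
  simpa only [rd, pre_len] using R

end Cfsg.Agent.Spor.CC
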