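import Cfsg.Prelude.Def_Classical
import Cfsg.Agent.Lib.Spor.CoverThreeFour
import Cfsg.Agent.Lib.Spor.UnitaryTransvection

/-!
In a central extension of the projective unitary group over the field with four elements, of
dimension at least six, by a group of exponent two, every involution lifts to an involution.
-/

set_option autoImplicit false
set_option linter.unusedSectionVars false

namespace Cfsg.Agent.Spor.CoverUnitarySix

open Matrix Cfsg.Agent.Small Cfsg.Agent.Small.Unitary Cfsg.Agent.Spor.UnitaryTrans
open scoped commutatorElement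

variable {F : Type} [Field F] [Fintype F] [DecidableEq F] [StarRing F] [CharP F 2] {n : ℕ}
variable (hstar : ∀ x : F, star x = x ^ 2)
include hstar

theorem vadd_self (x : Fin n → F) : x + x = 0 := funext fun i => CharTwo.add_self_eq_zero (x i)

theorem vsub (x y : Fin n → F) : x - y = x + y := funext fun i => CharTwo.sub_eq_add (x i) (y i)

/-- the transvection of an isotropic vector, the identity otherwise -/
noncomputable def T (v : Fin n → F) : Cfsg.SU n F 2 :=
  if h : herm v v = 0 then tv hstar v h else 1

theorem T_iso {v : Fin n → F} (h : herm v v = 0) : T hstar v = tv hstar v h := dif_pos h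

theorem act_T {v : Fin n → F} (h : herm v v = 0) (x : Fin n → F) :
    act (T hstar v) x = x + herm v x • v := by rw [T_iso hstar h, act_tv]

theorem T_sq (v : Fin n → F) : T hstar v * T hstar v = 1 := by
  by_cases h : herm v v = 0
  · rw [T_iso hstar h, tv_sq]
  · rw [T, dif_neg h, one_mul]

theorem T_conj (g : Cfsg.SU n F 2) (v : Fin n → F) :
    g * T hstar v * g⁻¹ = T hstar (act g v) := by
  by_cases h : herm v v = 0
  · rw [T_iso hstar h, T_iso hstar (v := act g v) (by rw [herm_act hstar]; exact h), tv_conj]
  · rw [T, T, dif_neg h, dif_neg (by rw [herm_act hstar]; exact h), mul_one, mul_inv_cancel]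

theorem T_smul (hF : Fintype.card F = 4) {c : F} (hc : c ≠ 0) {v : Fin n → F} (h : herm v v = 0) :
    T hstar (c • v) = T hstar v := by
  have h' : herm (c • v) (c • v) = 0 := by rw [herm_smul_left, herm_smul_right, h, mul_zero, mul_zero]
  rw [T_iso hstar h, T_iso hstar h', tv_smul hstar hF hc v h h']

theorem T_zero : T hstar (0 : Fin n → F) = 1 := by
  rw [T_iso hstar (herm_zero_left 0)]
  exact eq_one_of_act fun k => by rw [act_tv, herm_zero_left, zero_smul, add_zero]

theorem pT_conj' (g : Cfsg.SU n F 2) (v : Fin n → F) :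
    QuotientGroup.mk' (Subgroup.center (Cfsg.SU n F 2)) g * QuotientGroup.mk' _ (T hstar v) *
        (QuotientGroup.mk' _ g)⁻¹ = QuotientGroup.mk' _ (T hstar (act g v)) := by
  rw [← map_inv, ← map_mul, ← map_mul, T_conj]

theorem T_comm {u v : Fin n → F} (huv : herm u v = 0) :
    T hstar u * T hstar v = T hstar v * T hstar u := by
  rw [← mul_inv_eq_iff_eq_mul, T_conj]
  by_cases hu : herm u u = 0
  · rw [act_T hstar hu, huv, zero_smul, add_zero]
  · congr 1
    rw [T, dif_neg hu, act_one]

theorem omega_mul (hF : Fintype.card F = 4) {w : F} (hw0 : w ≠ 0) (hw1 : w ≠ 1) :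
    w * w = w + 1 ∧ star w = w * w ∧ w * w * w = 1 := by
  have h3 := CoverThreeFour.cube_eq_one hF hw0
  have h : (w - 1) * (w * w + w + 1) = 0 := by linear_combination h3
  have h' := (mul_eq_zero.mp h).resolve_left (sub_ne_zero.mpr hw1)
  refine ⟨?_, by rw [hstar, pow_two], by rw [← h3]; ring⟩
  linear_combination h' - CharTwo.add_self_eq_zero (w + 1)

theorem self_conj_cases {a : F} (h : star a = a) : a = 0 ∨ a = 1 := by
  rw [hstar] at h
  rcases mul_eq_zero.1 (show a * (a - 1) = 0 by linear_combination h) with h' | h'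
  · exact .inl h'
  · exact .inr (sub_eq_zero.1 h')

omit hstar in
/-- a vector orthogonal to some vectors, outside a subspace -/
theorem exists_out {k : ℕ} (a : Fin k → Fin n → F) (W : Submodule F (Fin n → F))
    (h : k + Module.finrank F W < n) : ∃ x, (∀ i, herm (a i) x = 0) ∧ x ∉ W := by
  let L : (Fin n → F) →ₗ[F] (Fin k → F) :=
    { toFun := fun x i => herm (a i) x
      map_add' := fun x y => funext fun i => herm_add_right _ _ _
      map_smul' := fun c x => funext fun i => by simp [herm_smul_right] }
  by_contra hne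
  push Not at hne
  have hle : LinearMap.ker L ≤ W := fun x hx =>
    hne x fun i => congrFun (LinearMap.mem_ker.mp hx) i
  have e := L.finrank_range_add_finrank_ker
  have h1 : Module.finrank F (LinearMap.range L) ≤ k :=
    (LinearMap.range L).finrank_le.trans_eq (Module.finrank_fin_fun F)
  have h2 := Submodule.finrank_mono hle
  rw [Module.finrank_fin_fun] at e
  omega

/-- a vector orthogonal to `u` and not to `v` -/
theorem exists_nonorth {u v : Fin n → F} (hv : v ∉ Submodule.span F {u}) :
    ∃ y, herm u y = 0 ∧ herm v y ≠ 0 := by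
  by_contra hne
  push Not at hne
  apply hv
  rw [Submodule.mem_span_singleton]
  by_cases hu : u = 0
  · refine ⟨0, ?_⟩
    funext k
    have := hne (Pi.single k 1) (by rw [hu, herm_zero_left])
    rw [herm_single_right, mul_one] at this
    rw [zero_smul, Pi.zero_apply, (star_eq_zero.1 this)]
  · obtain ⟨j, hj⟩ : ∃ j, u j ≠ 0 := Function.ne_iff.mp hu
    refine ⟨v j / u j, funext fun k => ?_⟩
    have hs : star (u j) ≠ 0 := star_ne_zero.mpr hj
    have := hne (Pi.single k 1 - Pi.single j (star (u k) / star (u j))) (by
      rw [herm_sub_right, herm_single_right, herm_single_right]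
      field_simp
      ring)
    rw [herm_sub_right, herm_single_right, herm_single_right, sub_eq_zero, mul_one] at this
    have e : v k = u k / u j * v j := by
      have e' := congrArg star this
      rw [star_star, star_mul', star_div₀, star_star, star_star, star_star] at e'
      rw [e']; ring
    rw [Pi.smul_apply, smul_eq_mul, e]
    ring

/-- moving one isotropic vector to another orthogonal to `u`, fixing `u` -/
theorem exists_swap (hF : Fintype.card F = 4) {u v v' : Fin n → F} (hv : herm v v = 0)
    (hv' : herm v' v' = 0) (huv : herm u v = 0) (huv' : herm u v' = 0) (hne : herm v v' ≠ 0) :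
    ∃ g : Cfsg.SU n F 2, act g u = u ∧ ∃ c : F, c ≠ 0 ∧ act g v = c • v' := by
  refine ⟨T hstar (v + (herm v v')⁻¹ • v'), ?_, (herm v v')⁻¹, inv_ne_zero hne, ?_⟩
  all_goals
    have hxv : herm (v + (herm v v')⁻¹ • v') v = 1 := by
      rw [herm_add_left, herm_smul_left, hv, zero_add, star_inv₀, star_herm, inv_mul_cancel₀]
      intro h
      exact hne (by rw [← star_herm, h, star_zero])
    have hxx : herm (v + (herm v v')⁻¹ • v') (v + (herm v v')⁻¹ • v') = 0 := by
      rw [herm_add_right, hxv, herm_smul_right, herm_add_left, herm_smul_left, hv', mul_zero, add_zero,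
        inv_mul_cancel₀ hne, CharTwo.add_self_eq_zero]
    rw [act_T hstar hxx]
  · have : herm (v + (herm v v')⁻¹ • v') u = 0 := by
      rw [← star_herm, herm_add_right, herm_smul_right, huv, huv', mul_zero, add_zero, star_zero]
    rw [this, zero_smul, add_zero]
  · rw [hxv, one_smul, ← add_assoc, vadd_self hstar, zero_add]

theorem exists_move (hF : Fintype.card F = 4) {u v v' : Fin n → F} (hv : herm v v = 0)
    (hv' : herm v' v' = 0) (huv : herm u v = 0) (huv' : herm u v' = 0)
    (hvu : v ∉ Submodule.span F {u}) (hv'u : v' ∉ Submodule.span F {u}) (hu : herm u u = 0) :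
    ∃ g : Cfsg.SU n F 2, act g u = u ∧ T hstar (act g v) = T hstar v' := by
  by_cases hne : herm v v' = 0
  · obtain ⟨a, hua, hva⟩ := exists_nonorth hstar hvu
    obtain ⟨b, hub, hvb⟩ := exists_nonorth hstar hv'u
    obtain ⟨y, huy, hvy, hvy'⟩ : ∃ y, herm u y = 0 ∧ herm v y ≠ 0 ∧ herm v' y ≠ 0 := by
      by_cases h1 : herm v' a = 0
      · by_cases h2 : herm v b = 0
        · exact ⟨a + b, by rw [herm_add_right, hua, hub, add_zero],
            by rw [herm_add_right, h2, add_zero]; exact hva,
            by rw [herm_add_right, h1, zero_add]; exact hvb⟩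
        · exact ⟨b, hub, h2, hvb⟩
      · exact ⟨a, hua, hva, h1⟩
    obtain ⟨w, hw0, hw1⟩ := CoverThreeFour.exists_omega hF
    obtain ⟨hww, hws, -⟩ := omega_mul hstar hF hw0 hw1
    have htr : w + star w = 1 := by
      rw [hws, hww, ← add_assoc, CharTwo.add_self_eq_zero, zero_add]
    rcases self_conj_cases hstar (star_herm y y) with hyy | hyy
    · obtain ⟨g, hg, c, hc, hgv⟩ := exists_swap hstar hF hv hyy huv huy hvy
      obtain ⟨g', hg', c', hc', hgy⟩ := exists_swap hstar hF hyy hv' huy huv' (fun h => hvy' (by rw [← star_herm, h, star_zero]))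
      refine ⟨g' * g, by rw [act_mul, hg, hg'], ?_⟩
      rw [act_mul, hgv, act_smul, hgy, smul_smul, T_smul hstar hF (mul_ne_zero hc hc') hv']
    · have hyv : herm y v ≠ 0 := fun h => hvy (by rw [← star_herm, h, star_zero])
      set z := y + (w / herm y v) • v with hz
      have hzz : herm z z = 0 := by
        simp only [hz, herm_add_left, herm_add_right, herm_smul_left, herm_smul_right, hyy, hv]
        rw [mul_zero, add_zero, div_mul_cancel₀ _ hyv,
          show star (w / herm y v) * herm v y = star w by
            rw [star_div₀, star_herm, div_mul_cancel₀ _ hvy]]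
        linear_combination htr + CharTwo.add_self_eq_zero (1 : F)
      have huz : herm u z = 0 := by rw [hz, herm_add_right, herm_smul_right, huy, huv, mul_zero, add_zero]
      have hvz : herm v z ≠ 0 := by
        rw [hz, herm_add_right, herm_smul_right, hv, mul_zero, add_zero]; exact hvy
      have hzv' : herm z v' ≠ 0 := by
        intro h
        apply hvy'
        rw [hz, herm_add_left, herm_smul_left, hne, mul_zero, add_zero] at h
        rw [← star_herm, h, star_zero]
      obtain ⟨g, hg, c, hc, hgv⟩ := exists_swap hstar hF hv hzz huv huz hvz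
      obtain ⟨g', hg', c', hc', hgy⟩ := exists_swap hstar hF hzz hv' huz huv' hzv'
      refine ⟨g' * g, by rw [act_mul, hg, hg'], ?_⟩
      rw [act_mul, hgv, act_smul, hgy, smul_smul, T_smul hstar hF (mul_ne_zero hc hc') hv']
  · obtain ⟨g, hg, c, hc, hgv⟩ := exists_swap hstar hF hv hv' huv huv' hne
    exact ⟨g, hg, by rw [hgv, T_smul hstar hF hc hv']⟩

/-- a third isotropic vector orthogonal to two -/
theorem exists_third (hF : Fintype.card F = 4) (hn : 6 ≤ n) {u v : Fin n → F} (hu : herm u u = 0)
    (hv : herm v v = 0) (huv : herm u v = 0) :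
    ∃ x, herm x x = 0 ∧ herm u x = 0 ∧ herm v x = 0 ∧ x ∉ Submodule.span F {u, v} := by
  have hfin : Module.finrank F (Submodule.span F ({u, v} : Set (Fin n → F))) ≤ 2 := by
    classical
    have h := finrank_span_finset_le_card (R := F) ({u, v} : Finset (Fin n → F))
    rw [Finset.coe_insert, Finset.coe_singleton] at h
    exact h.trans Finset.card_le_two
  obtain ⟨y, hy, hyo⟩ := exists_out ![u, v] (Submodule.span F {u, v}) (by omega)
  rcases self_conj_cases hstar (star_herm y y) with hyy | hyy
  · exact ⟨y, hyy, hy 0, hy 1, hyo⟩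
  obtain ⟨z, hz, hzo⟩ := exists_out ![u, v, y] (Submodule.span F {u, v}) (by omega)
  rcases self_conj_cases hstar (star_herm z z) with hzz | hzz
  · exact ⟨z, hzz, hz 0, hz 1, hzo⟩
  have hyz : herm y z = 0 := hz 2
  have hzy : herm z y = 0 := by rw [← star_herm, hyz, star_zero]
  refine ⟨y + z, ?_, ?_, ?_, fun hmem => ?_⟩
  · rw [herm_add_left, herm_add_right, herm_add_right, hyy, hzz, hyz, hzy, add_zero, zero_add,
      CharTwo.add_self_eq_zero]
  · rw [herm_add_right, show herm u y = 0 from hy 0, show herm u z = 0 from hz 0, add_zero]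
  · rw [herm_add_right, show herm v y = 0 from hy 1, show herm v z = 0 from hz 1, add_zero]
  · obtain ⟨a, b, hab⟩ := Submodule.mem_span_pair.mp hmem
    have h1 : herm y (y + z) = 1 := by rw [herm_add_right, hyy, hyz, add_zero]
    have hyu : herm y u = 0 := by rw [← star_herm, show herm u y = 0 from hy 0, star_zero]
    have hyv : herm y v = 0 := by rw [← star_herm, show herm v y = 0 from hy 1, star_zero]
    rw [← hab, herm_add_right, herm_smul_right, herm_smul_right, hyu, hyv, mul_zero, mul_zero,
      add_zero] at h1
    exact zero_ne_one h1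

/-- the five transvections of a totally isotropic plane -/
theorem five (hF : Fintype.card F = 4) {w : F} (hw0 : w ≠ 0) (hw1 : w ≠ 1) {u v : Fin n → F}
    (hu : herm u u = 0) (hv : herm v v = 0) (huv : herm u v = 0) :
    T hstar u * T hstar v =
      T hstar (u + v) * T hstar (u + w • v) * T hstar (u + (w * w) • v) := by
  obtain ⟨hww, hws, hw3⟩ := omega_mul hstar hF hw0 hw1
  have hvu : herm v u = 0 := by rw [← star_herm, huv, star_zero]
  have hiso : ∀ a : F, herm (u + a • v) (u + a • v) = 0 := fun a => by
    simp [herm_add_left, herm_add_right, herm_smul_left, herm_smul_right, hu, hv, huv, hvu]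
  have hiso1 : herm (u + v) (u + v) = 0 := by simpa using hiso 1
  apply Cfsg.Agent.Classical.URoot.eq_of_act
  intro x
  have hws' : star (w * w) = w := by
    rw [star_mul', hws]; linear_combination w * hw3
  simp only [act_mul, act_T hstar hu, act_T hstar hv, act_T hstar hiso1, act_T hstar (hiso _),
    herm_add_right, herm_smul_right, herm_add_left, herm_smul_left, hu, hv, huv, hvu, hws, hws',
    mul_zero, add_zero, zero_add, smul_add, add_smul, smul_smul, zero_smul]
  funext k
  simp only [Pi.add_apply, Pi.smul_apply, smul_eq_mul]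
  grind

variable {L : Type*} [Group L] (q : L →* Cfsg.PSU n F 2) (hs : Function.Surjective q)

/-- the image of a transvection -/
noncomputable def pT (v : Fin n → F) : Cfsg.PSU n F 2 := QuotientGroup.mk' _ (T hstar v)

variable (hF : Fintype.card F = 4) (hn : 6 ≤ n) (hc : q.ker ≤ Subgroup.center L)
variable (h2 : ∀ z ∈ q.ker, z * z = 1)
include hF hn hc h2 hs

theorem lifts_commute {u v : Fin n → F} (hu : herm u u = 0) (hv : herm v v = 0) (huv : herm u v = 0)
    (a b : L) (ha : q a = pT hstar u) (hb : q b = pT hstar v) : a * b = b * a := by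
  rw [← commutatorElement_eq_one_iff_mul_comm, CoverThreeFour.kap_eq q hs hc, ha, hb]
  by_cases hdep : v ∈ Submodule.span F {u}
  · obtain ⟨c, rfl⟩ := Submodule.mem_span_singleton.mp hdep
    by_cases hc0 : c = 0
    · have h1 := CoverThreeFour.kap_eq q hs hc (CoverThreeFour.up q hs (pT hstar u)) 1
      rw [CoverThreeFour.proj_up, map_one, commutatorElement_one_right] at h1
      rw [show pT hstar (c • u) = 1 by rw [pT, hc0, zero_smul, T_zero, map_one]]
      exact h1.symm
    · rw [show pT hstar (c • u) = pT hstar u by rw [pT, pT, T_smul hstar hF hc0 hu]]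
      exact commutatorElement_self _
  have hkc : ∀ {x y : Cfsg.PSU n F 2}, x * y = y * x → ∀ g : L,
      g * CoverThreeFour.kap q hs x y = CoverThreeFour.kap q hs x y * g := fun {x y} hxy g => by
    refine Subgroup.mem_center_iff.mp (hc ?_) g
    rw [MonoidHom.mem_ker, CoverThreeFour.kap, map_commutatorElement, CoverThreeFour.proj_up,
      CoverThreeFour.proj_up, commutatorElement_eq_one_iff_mul_comm.mpr hxy]
  have hcomm : ∀ x, herm u x = 0 → pT hstar u * pT hstar x = pT hstar x * pT hstar u :=
    fun x hx => by rw [pT, pT, ← map_mul, ← map_mul, T_comm hstar hx]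
  set c := CoverThreeFour.kap q hs (pT hstar u) (pT hstar v) with hcdef
  have hconst : ∀ x, herm x x = 0 → herm u x = 0 → x ∉ Submodule.span F {u} →
      CoverThreeFour.kap q hs (pT hstar u) (pT hstar x) = c := by
    intro x hx hux hxu
    obtain ⟨g, hgu, hgv⟩ := exists_move hstar hF hv hx huv hux hdep hxu hu
    let G := CoverThreeFour.up q hs (QuotientGroup.mk' _ g)
    have e : G * c * G⁻¹ = CoverThreeFour.kap q hs (pT hstar u) (pT hstar x) := by
      rw [hcdef, CoverThreeFour.kap, show G * ⁅CoverThreeFour.up q hs (pT hstar u), CoverThreeFour.up q hs (pT hstar v)⁆ * G⁻¹ =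
        ⁅G * CoverThreeFour.up q hs (pT hstar u) * G⁻¹, G * CoverThreeFour.up q hs (pT hstar v) * G⁻¹⁆ by
          simp only [commutatorElement_def]; group, CoverThreeFour.kap_eq q hs hc]
      simp only [G, map_mul, map_inv, CoverThreeFour.proj_up, pT]
      rw [pT_conj' hstar, pT_conj' hstar, hgu, hgv]
    rw [← e, hcdef, hkc (hcomm v huv) G]
    group
  obtain ⟨x, hx, hux, hvx, hxo⟩ := exists_third hstar hF hn hu hv huv
  have hxv : herm x v = 0 := by rw [← star_herm, hvx, star_zero]
  obtain ⟨w, hw0, hw1⟩ := CoverThreeFour.exists_omega hF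
  have hout : ∀ a : F, v + a • x ∉ Submodule.span F {u} := by
    intro a hmem
    obtain ⟨r, hr⟩ := Submodule.mem_span_singleton.mp hmem
    by_cases ha : a = 0
    · exact hdep (Submodule.mem_span_singleton.mpr ⟨r, by rw [hr, ha, zero_smul, add_zero]⟩)
    · refine hxo (Submodule.mem_span_pair.mpr ⟨r / a, -1 / a, ?_⟩)
      rw [div_eq_inv_mul, div_eq_inv_mul, ← smul_smul, ← smul_smul, ← smul_add, hr, neg_one_smul,
        ← sub_eq_add_neg, add_sub_cancel_left, smul_smul, inv_mul_cancel₀ ha, one_smul]
  have hxu : x ∉ Submodule.span F {u} := fun h => hxo (Submodule.span_mono (by simp) h)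
  have hisoA : ∀ a : F, herm (v + a • x) (v + a • x) = 0 := fun a => by
    simp [herm_add_left, herm_add_right, herm_smul_left, herm_smul_right, hv, hx, hvx, hxv]
  have horthA : ∀ a : F, herm u (v + a • x) = 0 := fun a => by
    simp [herm_add_right, herm_smul_right, huv, hux]
  have hA := fun a : F => hconst _ (hisoA a) (horthA a) (hout a)
  have hmulk : ∀ y z : Cfsg.PSU n F 2, pT hstar u * z = z * pT hstar u →
      CoverThreeFour.kap q hs (pT hstar u) (y * z) =
        CoverThreeFour.kap q hs (pT hstar u) y * CoverThreeFour.kap q hs (pT hstar u) z := by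
    intro y z hz
    have e := CoverThreeFour.kap_eq q hs hc (CoverThreeFour.up q hs (pT hstar u))
      (CoverThreeFour.up q hs y * CoverThreeFour.up q hs z)
    rw [map_mul, CoverThreeFour.proj_up, CoverThreeFour.proj_up, CoverThreeFour.proj_up] at e
    rw [← e]
    have := hkc hz (CoverThreeFour.up q hs y)
    calc ⁅CoverThreeFour.up q hs (pT hstar u), CoverThreeFour.up q hs y * CoverThreeFour.up q hs z⁆
        = CoverThreeFour.kap q hs (pT hstar u) y * (CoverThreeFour.up q hs y *
            CoverThreeFour.kap q hs (pT hstar u) z * (CoverThreeFour.up q hs y)⁻¹) := by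
          simp only [CoverThreeFour.kap, commutatorElement_def]; group
      _ = _ := by rw [this]; group
  have e5 : pT hstar v * pT hstar x =
      pT hstar (v + (1 : F) • x) * pT hstar (v + w • x) * pT hstar (v + (w * w) • x) := by
    simp only [pT, ← map_mul, one_smul]
    rw [five hstar hF hw0 hw1 hv hx hvx]
  have e6 := congrArg (CoverThreeFour.kap q hs (pT hstar u)) e5
  rw [hmulk _ _ (hcomm x hux), hmulk _ _ (hcomm _ (horthA _)), hmulk _ _ (hcomm _ (horthA _)), hA, hA, hA,
    hconst x hx hux hxu] at e6
  exact mul_left_cancel (a := c * c) (e6.symm.trans (mul_one _).symm)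

theorem lift_tv_sq {v : Fin n → F} (hv : herm v v = 0) (a : L) (ha : q a = pT hstar v) :
    a * a = 1 := by
  have hker : ∀ a b : L, q a = q b → ∃ z ∈ q.ker, a = b * z := fun a b e =>
    ⟨b⁻¹ * a, by rw [MonoidHom.mem_ker, map_mul, map_inv, e, inv_mul_cancel], by group⟩
  have hsqeq : ∀ a b : L, q a = q b → a * a = b * b := fun a b e => by
    obtain ⟨z, hz, rfl⟩ := hker a b e
    have hzc := Subgroup.mem_center_iff.mp (hc hz)
    calc b * z * (b * z) = b * (z * b) * z := by group
      _ = b * (b * z) * z := by rw [hzc b]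
      _ = b * b * (z * z) := by group
      _ = b * b := by rw [h2 z hz, mul_one]
  by_cases hv0 : v = 0
  · rw [hsqeq a 1 (by rw [ha, pT, hv0, T_zero, map_one, map_one]), one_mul]
  have hconst : ∀ x, herm x x = 0 → x ≠ 0 → ∀ b : L, q b = pT hstar x → b * b = a * a := by
    intro x hx hx0 b hb
    have hnot : ∀ y : Fin n → F, y ≠ 0 → y ∉ Submodule.span F {(0 : Fin n → F)} := fun y hy h => by
      obtain ⟨r, hr⟩ := Submodule.mem_span_singleton.mp h
      exact hy (by rw [← hr, smul_zero])
    obtain ⟨g, -, hg⟩ := exists_move hstar hF hv hx (herm_zero_left _) (herm_zero_left _)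
      (hnot v hv0) (hnot x hx0) (herm_zero_left 0)
    let G := CoverThreeFour.up q hs (QuotientGroup.mk' _ g)
    rw [hsqeq b (G * a * G⁻¹) (by
      simp only [hb, G, map_mul, map_inv, CoverThreeFour.proj_up, ha, pT]
      rw [pT_conj' hstar, hg])]
    have haa : a * a ∈ q.ker := by
      rw [MonoidHom.mem_ker, map_mul, ha, pT, ← map_mul, T_sq, map_one]
    calc G * a * G⁻¹ * (G * a * G⁻¹) = G * (a * a) * G⁻¹ := by group
      _ = a * a := by rw [Subgroup.mem_center_iff.mp (hc haa) G]; group
  obtain ⟨x, hx, hvx', hvx, hxo⟩ := exists_third hstar hF hn hv hv hv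
  have hxv : herm x v = 0 := by rw [← star_herm, hvx, star_zero]
  have hx0 : x ≠ 0 := fun h => hxo (h ▸ zero_mem _)
  obtain ⟨w, hw0, hw1⟩ := CoverThreeFour.exists_omega hF
  have hne : ∀ c : F, v + c • x ≠ 0 := fun c h => by
    by_cases hc0 : c = 0
    · exact hv0 (by simpa [hc0] using h)
    · refine hxo (Submodule.mem_span_pair.mpr ⟨-c⁻¹, 0, ?_⟩)
      rw [zero_smul, add_zero, show v = -(c • x) from eq_neg_of_add_eq_zero_left h, neg_smul_neg,
        smul_smul, inv_mul_cancel₀ hc0, one_smul]
  have hiso : ∀ c : F, herm (v + c • x) (v + c • x) = 0 := fun c => by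
    simp [herm_add_left, herm_add_right, herm_smul_left, herm_smul_right, hv, hx, hvx, hxv]
  have horth : ∀ c d : F, herm (v + c • x) (v + d • x) = 0 := fun c d => by
    simp [herm_add_left, herm_add_right, herm_smul_left, herm_smul_right, hv, hx, hvx, hxv]
  obtain ⟨b, hb⟩ := hs (pT hstar x)
  obtain ⟨p, hp⟩ := hs (pT hstar (v + (1 : F) • x))
  obtain ⟨r, hr⟩ := hs (pT hstar (v + w • x))
  obtain ⟨t, ht⟩ := hs (pT hstar (v + (w * w) • x))
  have e5 : q (a * b) = q (p * r * t) := by
    simp only [map_mul, ha, hb, hp, hr, ht, pT]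
    simp only [← map_mul, one_smul]
    rw [five hstar hF hw0 hw1 hv hx hvx]
  have key := hsqeq _ _ e5
  have cab : a * b = b * a := lifts_commute hstar q hs hF hn hc h2 hv hx hvx a b ha hb
  have cpr : p * r = r * p := lifts_commute hstar q hs hF hn hc h2 (hiso _) (hiso _) (horth _ _) p r hp hr
  have cpt : p * t = t * p := lifts_commute hstar q hs hF hn hc h2 (hiso _) (hiso _) (horth _ _) p t hp ht
  have crt : r * t = t * r := lifts_commute hstar q hs hF hn hc h2 (hiso _) (hiso _) (horth _ _) r t hr ht
  have sb := hconst x hx hx0 b hb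
  have sp := hconst _ (hiso _) (hne _) p hp
  have sr := hconst _ (hiso _) (hne _) r hr
  have st := hconst _ (hiso _) (hne _) t ht
  have e1 : a * b * (a * b) = (a * a) * (b * b) := by
    calc a * b * (a * b) = a * (b * a) * b := by group
      _ = a * (a * b) * b := by rw [cab]
      _ = _ := by group
  have e2 : p * r * t * (p * r * t) = (p * p) * (r * r) * (t * t) := by
    have c1 : Commute (p * r) t := Commute.mul_left cpt crt
    calc p * r * t * (p * r * t) = (p * r) * (t * (p * r)) * t := by group
      _ = (p * r) * ((p * r) * t) * t := by rw [c1.eq]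
      _ = p * (r * p) * r * (t * t) := by group
      _ = p * (p * r) * r * (t * t) := by rw [cpr]
      _ = _ := by group
  rw [e1, e2, sb, sp, sr, st] at key
  exact mul_left_cancel (a := a * a * (a * a)) (key.symm.trans (mul_one _).symm)

omit hs hc h2 in
/-- the fixed vectors -/
noncomputable def fixN (g : Cfsg.SU n F 2) : ℕ := {v : Fin n → F | act g v = v}.ncard

theorem involution_lift (m : ℕ) : ∀ g : Cfsg.SU n F 2, g * g = 1 → Fintype.card (Fin n → F) - fixN g = m →
    ∃ y : L, q y = QuotientGroup.mk' _ g ∧ y * y = 1 ∧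
      ∀ x, herm x x = 0 → (∀ z, herm x (act g z - z) = 0) → ∀ a : L, q a = pT hstar x → a * y = y * a := by
  induction m using Nat.strong_induction_on with
  | _ m ih =>
  intro g hg hm
  by_cases hg1 : g = 1
  · exact ⟨1, by rw [hg1, map_one, map_one], one_mul _, fun x _ _ a _ => by rw [one_mul, mul_one]⟩
  have hinv : ∀ v, act g (act g v) = v := fun v => by rw [← act_mul, hg, act_one]
  have hadj : ∀ x y, herm (act g x) y = herm x (act g y) := fun x y => by
    conv_lhs => rw [← hinv y]
    exact herm_act hstar g x (act g y)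
  obtain ⟨v, hv⟩ : ∃ v, herm (act g v - v) v ≠ 0 := by
    by_contra hno
    push Not at hno
    apply hg1
    refine eq_one_of_act fun k => ?_
    obtain ⟨w, hw0, hw1⟩ := CoverThreeFour.exists_omega hF
    have hall : ∀ a b, herm (act g a - a) b = 0 := by
      intro a b
      have h1 := hno (a + b)
      have h3 := hno (a + w • b)
      simp only [act_add, act_smul, herm_sub_left, herm_add_left, herm_add_right, herm_smul_left,
        herm_smul_right] at h1 h3
      have ha := hno a
      have hb := hno b
      rw [herm_sub_left] at ha hb ⊢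
      obtain ⟨hww, hws, -⟩ := omega_mul hstar hF hw0 hw1
      rw [hws] at h3
      have hp : herm (act g a) b - herm a b + (herm (act g b) a - herm b a) = 0 := by
        linear_combination h1 - ha - hb
      have hq : w * (herm (act g a) b - herm a b) + w * w * (herm (act g b) a - herm b a) = 0 := by
        linear_combination h3 - ha - w * (w * w) * hb
      have : (w * w - w) * (herm (act g a) b - herm a b) = 0 := by
        linear_combination (w * w) * hp - hq
      rcases mul_eq_zero.mp this with h | h
      · exact absurd (mul_left_cancel₀ hw0 ((sub_eq_zero.mp h).trans (mul_one w).symm)) hw1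
      · exact h
    funext i
    have := hall (Pi.single k 1) (Pi.single i 1)
    rw [herm_single_right, mul_one, star_eq_zero, Pi.sub_apply, sub_eq_zero] at this
    exact this
  set u := act g v - v with hu
  have hgu : act g u = u := by
    rw [hu, act_sub, hinv, vsub hstar, vsub hstar, add_comm]
  have huu : herm u u = 0 := by
    have h1 : herm (act g v) (act g v) = herm v v := herm_act hstar g v v
    have h2' : herm (act g v) v = herm v (act g v) := hadj v v
    rw [hu, herm_sub_left, herm_sub_right, herm_sub_right, h1, h2']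
    simp [CharTwo.sub_eq_add, CharTwo.add_self_eq_zero, add_comm]
  have huv : herm u v = 1 := by
    refine (self_conj_cases hstar ?_).resolve_left hv
    rw [star_herm, hu, herm_sub_left, herm_sub_right, hadj v v]
  have huo : ∀ z, herm u (act g z - z) = 0 := fun z => by
    rw [herm_sub_right, ← hadj, hgu, sub_self]
  have hTg : T hstar u * g = g * T hstar u := by
    have := T_conj hstar g u
    rw [hgu, mul_inv_eq_iff_eq_mul] at this
    exact this.symm
  set g' := T hstar u * g with hg'
  have hg'2 : g' * g' = 1 := by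
    calc g' * g' = T hstar u * (g * T hstar u) * g := by rw [hg']; group
      _ = (T hstar u * T hstar u) * (g * g) := by rw [← hTg, hg']; group
      _ = 1 := by rw [T_sq, hg, one_mul]
  have hsub : {x | act g x = x} ⊂ {x | act g' x = x} := by
    rw [Set.ssubset_iff_of_subset]
    · refine ⟨v, ?_, fun h : act g v = v => hv (by rw [hu, h, sub_self, herm_zero_left])⟩
      show act g' v = v
      rw [hg', act_mul, act_T hstar huu]
      have : herm u (act g v) = 1 := by rw [← hadj, hgu, huv]
      rw [this, one_smul, hu, vsub hstar, ← add_assoc, vadd_self hstar, zero_add]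
    · intro x (hx : act g x = x)
      show act g' x = x
      rw [hg', act_mul, hx, act_T hstar huu]
      have : herm u x = 0 := by rw [hu, herm_sub_left, hadj, hx, sub_self]
      rw [this, zero_smul, add_zero]
  have hlt : fixN g < fixN g' := Set.ncard_lt_ncard hsub (Set.toFinite _)
  have hle : fixN g' ≤ Fintype.card (Fin n → F) := by
    rw [← Nat.card_eq_fintype_card]; exact Set.ncard_le_card _
  obtain ⟨y, hy, hy2, hyc⟩ := ih _ (by omega) g' hg'2 rfl
  have himg : ∀ z, act g' z - z = (act g z - z) + herm u (act g z) • u := fun z => by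
    rw [hg', act_mul, act_T hstar huu]; abel
  have hu' : ∀ z, herm u (act g' z - z) = 0 := fun z => by
    rw [himg, herm_add_right, herm_smul_right, huo, huu, mul_zero, add_zero]
  obtain ⟨a, ha⟩ := hs (pT hstar u)
  have hay := hyc u huu hu' a ha
  refine ⟨a * y, ?_, ?_, ?_⟩
  · rw [map_mul, ha, hy, pT, ← map_mul, hg', ← mul_assoc, T_sq, one_mul]
  · calc a * y * (a * y) = a * (y * a) * y := by group
      _ = (a * a) * (y * y) := by rw [← hay]; group
      _ = 1 := by rw [lift_tv_sq hstar q hs hF hn hc h2 huu a ha, hy2, one_mul]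
  · intro x hx hxg b hb
    have hxu : herm x u = 0 := by rw [hu]; exact hxg v
    have hba := lifts_commute hstar q hs hF hn hc h2 hx huu hxu b a hb ha
    have hby := hyc x hx (fun z => by
      rw [himg, herm_add_right, herm_smul_right, hxg, hxu, mul_zero, add_zero]) b hb
    calc b * (a * y) = a * (b * y) := by rw [← mul_assoc, hba, mul_assoc]
      _ = a * y * b := by rw [hby, mul_assoc]

omit hs hc h2 in
theorem no_central_involution (g : Cfsg.SU n F 2) (hg : g * g = 1)
    (hz : g ∈ Subgroup.center (Cfsg.SU n F 2)) : g = 1 := by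
  by_contra hg1
  obtain ⟨k, hk⟩ : ∃ k : Fin n, act g (Pi.single k 1) ≠ Pi.single k 1 := by
    by_contra h; push Not at h; exact hg1 (eq_one_of_act h)
  set u := act g (Pi.single k 1) - Pi.single k 1 with hu
  have hadj : ∀ x y, herm (act g x) y = herm x (act g y) := fun x y => by
    have : act g (act g y) = y := by rw [← act_mul, hg, act_one]
    conv_lhs => rw [← this]
    exact herm_act hstar g x (act g y)
  -- an isotropic vector not orthogonal to the moved one
  have hu0 : u ≠ 0 := sub_ne_zero.mpr hk
  obtain ⟨y, hy⟩ := Cfsg.Agent.Classical.URoot.exists_herm_one hu0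
  have hgu : act g u = u := by
    rw [hu, act_sub, show act g (act g (Pi.single k 1)) = Pi.single k 1 by rw [← act_mul, hg, act_one],
      vsub hstar, vsub hstar, add_comm]
  have huu : herm u u = 0 := by
    conv_lhs => arg 1; rw [hu]
    rw [herm_sub_left, hadj, hgu, sub_self]
  obtain ⟨w, hw0, hw1⟩ := CoverThreeFour.exists_omega hF
  obtain ⟨hww, hws, -⟩ := omega_mul hstar hF hw0 hw1
  obtain ⟨z, hzz, huz⟩ : ∃ z, herm z z = 0 ∧ herm u z = 1 := by
    rcases self_conj_cases hstar (star_herm y y) with hyy | hyy
    · exact ⟨y, hyy, hy⟩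
    · refine ⟨y + w • u, ?_, by rw [herm_add_right, herm_smul_right, hy, huu, mul_zero, add_zero]⟩
      have hyu : herm y u = 1 := by rw [← star_herm, hy, star_one]
      rw [herm_add_left, herm_add_right, herm_add_right, herm_smul_left, herm_smul_left,
        herm_smul_right, herm_smul_right, hyy, hy, hyu, huu, mul_one, mul_one, mul_zero, mul_zero,
        add_zero, hws, hww]
      linear_combination CharTwo.add_self_eq_zero (1 + w)
  have hfix : act g z = z := by
    have h := Subgroup.mem_center_iff.mp hz (T hstar z)
    have e := T_conj hstar g z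
    rw [mul_inv_eq_iff_eq_mul.mpr h.symm] at e
    have hzz' : herm (act g z) (act g z) = 0 := by rw [herm_act hstar]; exact hzz
    have hk' : ∀ x, herm z x • z = herm (act g z) x • act g z := fun x => by
      have := congrArg (fun t => act t x) e
      simpa [act_T hstar hzz, act_T hstar hzz'] using this
    obtain ⟨p, hp⟩ := Cfsg.Agent.Classical.URoot.exists_herm_one (show z ≠ 0 from fun h0 => by
      rw [h0, herm_zero_right] at huz; exact zero_ne_one huz)
    have h1 := hk' p
    rw [hp, one_smul] at h1
    set c := herm (act g z) p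
    -- act g z is a multiple of z, hence z
    have hgz : act g z = c⁻¹ • z := by
      conv_rhs => rw [h1, smul_smul]
      by_cases hc0 : c = 0
      · exfalso; rw [hc0, zero_smul] at h1; rw [h1, herm_zero_right] at huz; exact zero_ne_one huz
      · rw [inv_mul_cancel₀ hc0, one_smul]
    have hzero : herm u (act g z) = herm u z := by rw [← hadj, hgu]
    rw [hgz, herm_smul_right, huz, mul_one] at hzero
    rw [hgz, hzero, one_smul]
  have : herm u z = 0 := by rw [hu, herm_sub_left, hadj, hfix, sub_self]
  rw [this] at huz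
  exact zero_ne_one huz

theorem exists_lift {x : Cfsg.PSU n F 2} (hx : x * x = 1) : ∃ y : L, q y = x ∧ y * y = 1 := by
  obtain ⟨g, rfl⟩ := QuotientGroup.mk'_surjective _ x
  rw [← map_mul] at hx
  have hz : g * g ∈ Subgroup.center (Cfsg.SU n F 2) := (QuotientGroup.eq_one_iff _).mp hx
  have hord : Odd (orderOf (g * g)) := by
    by_contra hev
    rw [Nat.not_odd_iff_even] at hev
    obtain ⟨j, hj⟩ := hev
    have hpos := orderOf_pos (g * g)
    have h1 : (g * g) ^ j * (g * g) ^ j = 1 := by rw [← pow_add, ← hj, pow_orderOf_eq_one]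
    have := no_central_involution hstar hF hn _ h1 (pow_mem hz j)
    have := orderOf_le_of_pow_eq_one (by omega) this
    omega
  obtain ⟨j, hj⟩ := hord
  have hk : g ^ orderOf (g * g) * g ^ orderOf (g * g) = 1 := by
    rw [← pow_add, ← two_mul, pow_mul, pow_two, pow_orderOf_eq_one]
  obtain ⟨y, hy, hy2, -⟩ := involution_lift hstar q hs hF hn hc h2 _ _ hk rfl
  refine ⟨y, hy.trans ?_, hy2⟩
  rw [hj, map_pow, pow_succ, pow_mul, pow_two, ← map_mul, hx, one_pow, one_mul]

end Cfsg.Agent.Spor.CoverUnitarySix
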