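import Cfsg.Agent.Lib.Spor.Fi22Main
import Cfsg.Agent.Lib.Spor.Fi22Deg78Prod

/-!
Fi22 as a group of matrices of degree seventy-eight over the field with thirteen elements.
-/

set_option autoImplicit false
set_option maxRecDepth 100000
set_option Elab.async false

namespace Cfsg.Agent.Spor.Fi22Deg78

open Cfsg.Agent.Spor.CC Cfsg.Agent.Spor.Fi22Cert

/-- a slot of a packed column -/
def dig (c i : ℕ) : ℕ := Nat.land (Nat.shiftRight c (Nat.mul 32 i)) 4294967295

/-- packing of slots reduced modulo 13 -/
def reduce (c : ℕ) : ℕ :=
  (List.range 78).foldr (fun i r => Nat.add (Nat.shiftLeft r 32) (Nat.mod (dig c i) 13)) 0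

/-- combination of columns -/
def comb (A : List ℕ) (x : ℕ) : ℕ → ℕ
  | 0 => 0
  | k + 1 => Nat.add (Nat.mul (A.getD k 0) (dig x k)) (comb A x k)

/-- matrix product -/
def mulM (A B : List ℕ) : List ℕ := B.map fun x => reduce (comb A x 78)

/-- unit matrix -/
def idM : List ℕ := (List.range 78).map fun j => Nat.shiftLeft 1 (Nat.mul 32 j)

/-- the matrix -/
def toM (A : List ℕ) : Matrix (Fin 78) (Fin 78) (ZMod 13) :=
  Matrix.of fun i j => (dig (A.getD j 0) i : ZMod 13)

/-- all slots are reduced -/
def Good (A : List ℕ) : Prop := A.length = 78 ∧ ∀ j < 78, ∀ i < 78, dig (A.getD j 0) i < 13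

attribute [local irreducible] dotProduct

theorem dig_eq (c i : ℕ) : dig c i = c / (2 ^ 32) ^ i % 2 ^ 32 := by
  show (c >>> (32 * i)) &&& (2 ^ 32 - 1) = _
  rw [Nat.shiftRight_eq_div_pow, Nat.and_two_pow_sub_one_eq_mod, pow_mul]

theorem dig_succ (c i : ℕ) : dig c (i + 1) = dig (c / 2 ^ 32) i := by
  rw [dig_eq, dig_eq, pow_succ', Nat.div_div_eq_div_mul]

theorem dig_zero (c : ℕ) : dig c 0 = c % 2 ^ 32 := by rw [dig_eq, pow_zero, Nat.div_one]

theorem dig_lin (x : ℕ) : ∀ (i a b : ℕ), (∀ j ≤ i, dig a j * x + dig b j < 2 ^ 32) →
    dig (a * x + b) i = dig a i * x + dig b i := by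
  have hsplit : ∀ a b, dig a 0 * x + dig b 0 < 2 ^ 32 →
      (a * x + b) % 2 ^ 32 = dig a 0 * x + dig b 0 ∧
      (a * x + b) / 2 ^ 32 = a / 2 ^ 32 * x + b / 2 ^ 32 := fun a b h => by
    rw [dig_zero, dig_zero] at h ⊢
    have e : a * x + b = (a % 2 ^ 32 * x + b % 2 ^ 32) + 2 ^ 32 * (a / 2 ^ 32 * x + b / 2 ^ 32) := by
      conv_lhs => rw [← Nat.mod_add_div a (2 ^ 32), ← Nat.mod_add_div b (2 ^ 32)]
      ring
    exact ⟨by rw [e, Nat.add_mul_mod_self_left, Nat.mod_eq_of_lt h],
      by rw [e, Nat.add_mul_div_left _ _ (by norm_num), Nat.div_eq_of_lt h, Nat.zero_add]⟩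
  intro i
  induction i with
  | zero =>
    intro a b h
    rw [dig_zero]
    exact (hsplit a b (h 0 le_rfl)).1
  | succ i ih =>
    intro a b h
    rw [dig_succ, (hsplit a b (h 0 (Nat.zero_le _))).2, dig_succ, dig_succ]
    exact ih _ _ fun j hj => by simpa only [← dig_succ] using h (j + 1) (by omega)

theorem dig_null (i : ℕ) : dig 0 i = 0 := by rw [dig_eq, Nat.zero_div, Nat.zero_mod]

theorem dig_comb {A : List ℕ} {x : ℕ} (hA : Good A) (hx : ∀ k < 78, dig x k < 13) :
    ∀ n ≤ 78, ∀ i < 78, dig (comb A x n) i = ∑ k ∈ Finset.range n, dig (A.getD k 0) i * dig x k ∧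
      dig (comb A x n) i ≤ n * 144 := by
  intro n
  induction n with
  | zero => intro _ i _; simp [comb, dig_null]
  | succ n ih =>
    intro hn i hi
    have hb : ∀ j < 78, dig (A.getD n 0) j * dig x n ≤ 144 := fun j hj =>
      le_trans (Nat.mul_le_mul (Nat.le_of_lt_succ (hA.2 n (by omega) j hj))
        (Nat.le_of_lt_succ (hx n (by omega)))) (by norm_num)
    have e : dig (comb A x (n + 1)) i = dig (A.getD n 0) i * dig x n + dig (comb A x n) i :=
      dig_lin _ i _ _ fun j hj => by
        have := (ih (by omega) j (by omega)).2
        have := hb j (by omega)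
        omega
    refine ⟨by rw [e, (ih (by omega) i hi).1, Finset.sum_range_succ, Nat.add_comm], ?_⟩
    have := (ih (by omega) i hi).2
    have := hb i hi
    omega

theorem dig_fold : ∀ (n : ℕ) (f : ℕ → ℕ), (∀ i, f i < 2 ^ 32) → ∀ i < n,
    dig ((List.range n).foldr (fun k r => r * 2 ^ 32 + f k) 0) i = f i := by
  intro n
  induction n with
  | zero => intro f _ i hi; omega
  | succ n ih =>
    intro f hf i hi
    rw [List.range_succ_eq_map, List.foldr_cons, List.foldr_map]
    rcases i with _ | i
    · rw [dig_zero, Nat.mul_comm, Nat.mul_add_mod, Nat.mod_eq_of_lt (hf 0)]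
    · rw [dig_succ, Nat.mul_comm, Nat.mul_add_div (by norm_num), Nat.div_eq_of_lt (hf 0), Nat.add_zero]
      exact ih (fun k => f (k + 1)) (fun k => hf _) i (by omega)

theorem dig_reduce (c : ℕ) {i : ℕ} (hi : i < 78) : dig (reduce c) i = dig c i % 13 := by
  have e : (fun i r => Nat.add (Nat.shiftLeft r 32) (Nat.mod (dig c i) 13)) =
      fun i r => r * 2 ^ 32 + dig c i % 13 := by
    funext i r
    show r <<< 32 + dig c i % 13 = _
    rw [Nat.shiftLeft_eq]
  rw [reduce, e]
  exact dig_fold 78 (fun k => dig c k % 13) (fun k => (Nat.mod_lt _ (by norm_num)).trans (by norm_num)) i hi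

theorem mul_good {A B : List ℕ} (hB : B.length = 78) : Good (mulM A B) := by
  refine ⟨by rw [mulM, List.length_map, hB], fun j hj i hi => ?_⟩
  rw [mulM, List.getD_eq_getElem _ _ (by rw [List.length_map, hB]; exact hj), List.getElem_map,
    dig_reduce _ hi]
  exact Nat.mod_lt _ (by norm_num)

theorem toM_mul {A B : List ℕ} (hA : Good A) (hB : Good B) : toM (mulM A B) = toM A * toM B := by
  ext i j
  rw [Matrix.mul_apply, toM, Matrix.of_apply, mulM,
    List.getD_eq_getElem _ _ (by rw [List.length_map, hB.1]; exact j.2), List.getElem_map, dig_reduce _ i.2,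
    ZMod.natCast_mod, (dig_comb hA (fun k hk => ?_) 78 le_rfl i i.2).1, Nat.cast_sum, Finset.sum_range]
  · refine Finset.sum_congr rfl fun k _ => ?_
    rw [Nat.cast_mul, toM, Matrix.of_apply, toM, Matrix.of_apply,
      List.getD_eq_getElem B 0 (by rw [hB.1]; exact j.2)]
  · have := hB.2 j j.2 k hk
    rwa [List.getD_eq_getElem B 0 (by rw [hB.1]; exact j.2)] at this

/-- combination of columns, by recursion on the list -/
noncomputable def combL (A : List ℕ) : ℕ → ℕ :=
  A.rec (fun _ => 0) (fun a _ ih x => Nat.add (Nat.mul a (Nat.land x 4294967295)) (ih (Nat.shiftRight x 32)))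

theorem combL_sum : ∀ (A : List ℕ) (x : ℕ), combL A x = ∑ k ∈ Finset.range A.length, A.getD k 0 * dig x k
  | [], x => by simp [combL]
  | a :: A, x => by
    have e : combL (a :: A) x = a * (x &&& (2 ^ 32 - 1)) + combL A (x >>> 32) := rfl
    rw [e, combL_sum A, List.length_cons, Finset.sum_range_succ', Nat.and_two_pow_sub_one_eq_mod,
      Nat.shiftRight_eq_div_pow, ← dig_zero, Nat.add_comm]
    simp only [List.getD_cons_succ, List.getD_cons_zero, dig_succ]

theorem comb_sum (A : List ℕ) (x : ℕ) : ∀ n, comb A x n = ∑ k ∈ Finset.range n, A.getD k 0 * dig x k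
  | 0 => by simp [comb]
  | n + 1 => by
    rw [Finset.sum_range_succ, ← comb_sum A x n]
    exact Nat.add_comm _ _

/-- one column of a product, against a given one -/
noncomputable def colOK (A B C : List ℕ) (j : ℕ) : Bool :=
  Nat.beq (reduce (combL A (B.getD j 0))) (C.getD j 0)

/-- one column of two products -/
noncomputable def colOK2 (A B C D : List ℕ) (j : ℕ) : Bool :=
  Nat.beq (reduce (combL A (B.getD j 0))) (reduce (combL C (D.getD j 0)))

/-- six consecutive columns -/
def six (f : ℕ → Bool) (c : ℕ) : Bool := (List.range 6).all fun i => f (Nat.add (Nat.mul 6 c) i)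

theorem of_six (f : ℕ → Bool) (h0 : six f 0 = true) (h1 : six f 1 = true) (h2 : six f 2 = true)
    (h3 : six f 3 = true) (h4 : six f 4 = true) (h5 : six f 5 = true) (h6 : six f 6 = true)
    (h7 : six f 7 = true) (h8 : six f 8 = true) (h9 : six f 9 = true) (h10 : six f 10 = true)
    (h11 : six f 11 = true) (h12 : six f 12 = true) : ∀ j < 78, f j = true := by
  intro j hj
  have h : six f (j / 6) = true := by
    have : j / 6 < 13 := by omega
    interval_cases hc : j / 6 <;> assumption
  have := List.all_eq_true.1 h (j % 6) (List.mem_range.2 (Nat.mod_lt _ (by norm_num)))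
  rwa [show Nat.add (Nat.mul 6 (j / 6)) (j % 6) = j from Nat.div_add_mod j 6] at this

theorem mulM_getD {A B : List ℕ} (hA : A.length = 78) (hB : B.length = 78) {j : ℕ} (hj : j < 78) :
    (mulM A B).getD j 0 = reduce (combL A (B.getD j 0)) := by
  rw [mulM, List.getD_eq_getElem _ _ (by rw [List.length_map, hB]; exact hj), List.getElem_map,
    List.getD_eq_getElem B 0 (by rw [hB]; exact hj), combL_sum, hA, ← comb_sum]

theorem list_eq {X Y : List ℕ} (hX : X.length = 78) (hY : Y.length = 78)
    (h : ∀ j < 78, X.getD j 0 = Y.getD j 0) : X = Y := by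
  refine List.ext_getElem (hX.trans hY.symm) fun j h1 h2 => ?_
  have := h j (hX ▸ h1)
  rwa [List.getD_eq_getElem _ _ h1, List.getD_eq_getElem _ _ h2] at this

theorem mul_eq {A B C : List ℕ} (hA : A.length = 78) (hB : B.length = 78) (hC : C.length = 78)
    (h : ∀ j < 78, colOK A B C j = true) : mulM A B = C :=
  list_eq (by rw [mulM, List.length_map, hB]) hC fun j hj => by
    rw [mulM_getD hA hB hj]; exact Nat.eq_of_beq_eq_true (h j hj)

theorem mul_eq2 {A B C D : List ℕ} (hA : A.length = 78) (hB : B.length = 78) (hC : C.length = 78)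
    (hD : D.length = 78) (h : ∀ j < 78, colOK2 A B C D j = true) : mulM A B = mulM C D :=
  list_eq (by rw [mulM, List.length_map, hB]) (by rw [mulM, List.length_map, hD]) fun j hj => by
    rw [mulM_getD hA hB hj, mulM_getD hC hD hj]; exact Nat.eq_of_beq_eq_true (h j hj)

attribute [local irreducible] mulM genL

theorem id_spec : idM.length = 78 ∧ ∀ j < 78, ∀ i < 78, dig (idM.getD j 0) i = if i = j then 1 else 0 := by
  decide +kernel

theorem id_good : Good idM := ⟨id_spec.1, fun j hj i hi => by rw [id_spec.2 j hj i hi]; split <;> omega⟩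

theorem toM_id : toM idM = 1 := by
  ext i j
  rw [toM, Matrix.of_apply, id_spec.2 j j.2 i i.2, Matrix.one_apply]
  rcases eq_or_ne i j with h | h
  · simp [h]
  · rw [if_neg h, if_neg (fun e => h (Fin.ext e)), Nat.cast_zero]

theorem gen_good : ∀ k < 9, Good (genL k) := by
  have h : ∀ k < 9, (genL k).length = 78 ∧
      ((List.range 78).all fun j => (List.range 78).all fun i => Nat.blt (dig ((genL k).getD j 0) i) 13) = true := by
    decide +kernel
  exact fun k hk => ⟨(h k hk).1, fun j hj i hi => Nat.le_of_ble_eq_true
    (List.all_eq_true.1 (List.all_eq_true.1 (h k hk).2 j (List.mem_range.2 hj)) i (List.mem_range.2 hi))⟩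

theorem square0 : mulM (genL 0) (genL 0) = idM :=
  (mul_eq (A := (genL 0)) (B := (genL 0)) (C := idM) (gen_good 0 (by norm_num)).1 (gen_good 0 (by norm_num)).1 id_good.1
    (of_six _ (by decide +kernel) (by decide +kernel) (by decide +kernel) (by decide +kernel) (by decide +kernel) (by decide +kernel) (by decide +kernel) (by decide +kernel) (by decide +kernel) (by decide +kernel) (by decide +kernel) (by decide +kernel) (by decide +kernel)))

theorem square1 : mulM (genL 1) (genL 1) = idM :=
  (mul_eq (A := (genL 1)) (B := (genL 1)) (C := idM) (gen_good 1 (by norm_num)).1 (gen_good 1 (by norm_num)).1 id_good.1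
    (of_six _ (by decide +kernel) (by decide +kernel) (by decide +kernel) (by decide +kernel) (by decide +kernel) (by decide +kernel) (by decide +kernel) (by decide +kernel) (by decide +kernel) (by decide +kernel) (by decide +kernel) (by decide +kernel) (by decide +kernel)))

theorem square2 : mulM (genL 2) (genL 2) = idM :=
  (mul_eq (A := (genL 2)) (B := (genL 2)) (C := idM) (gen_good 2 (by norm_num)).1 (gen_good 2 (by norm_num)).1 id_good.1
    (of_six _ (by decide +kernel) (by decide +kernel) (by decide +kernel) (by decide +kernel) (by decide +kernel) (by decide +kernel) (by decide +kernel) (by decide +kernel) (by decide +kernel) (by decide +kernel) (by decide +kernel) (by decide +kernel) (by decide +kernel)))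

theorem square3 : mulM (genL 3) (genL 3) = idM :=
  (mul_eq (A := (genL 3)) (B := (genL 3)) (C := idM) (gen_good 3 (by norm_num)).1 (gen_good 3 (by norm_num)).1 id_good.1
    (of_six _ (by decide +kernel) (by decide +kernel) (by decide +kernel) (by decide +kernel) (by decide +kernel) (by decide +kernel) (by decide +kernel) (by decide +kernel) (by decide +kernel) (by decide +kernel) (by decide +kernel) (by decide +kernel) (by decide +kernel)))

theorem square4 : mulM (genL 4) (genL 4) = idM :=
  (mul_eq (A := (genL 4)) (B := (genL 4)) (C := idM) (gen_good 4 (by norm_num)).1 (gen_good 4 (by norm_num)).1 id_good.1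
    (of_six _ (by decide +kernel) (by decide +kernel) (by decide +kernel) (by decide +kernel) (by decide +kernel) (by decide +kernel) (by decide +kernel) (by decide +kernel) (by decide +kernel) (by decide +kernel) (by decide +kernel) (by decide +kernel) (by decide +kernel)))

theorem square5 : mulM (genL 5) (genL 5) = idM :=
  (mul_eq (A := (genL 5)) (B := (genL 5)) (C := idM) (gen_good 5 (by norm_num)).1 (gen_good 5 (by norm_num)).1 id_good.1
    (of_six _ (by decide +kernel) (by decide +kernel) (by decide +kernel) (by decide +kernel) (by decide +kernel) (by decide +kernel) (by decide +kernel) (by decide +kernel) (by decide +kernel) (by decide +kernel) (by decide +kernel) (by decide +kernel) (by decide +kernel)))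

theorem square6 : mulM (genL 6) (genL 6) = idM :=
  (mul_eq (A := (genL 6)) (B := (genL 6)) (C := idM) (gen_good 6 (by norm_num)).1 (gen_good 6 (by norm_num)).1 id_good.1
    (of_six _ (by decide +kernel) (by decide +kernel) (by decide +kernel) (by decide +kernel) (by decide +kernel) (by decide +kernel) (by decide +kernel) (by decide +kernel) (by decide +kernel) (by decide +kernel) (by decide +kernel) (by decide +kernel) (by decide +kernel)))

theorem square7 : mulM (genL 7) (genL 7) = idM :=
  (mul_eq (A := (genL 7)) (B := (genL 7)) (C := idM) (gen_good 7 (by norm_num)).1 (gen_good 7 (by norm_num)).1 id_good.1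
    (of_six _ (by decide +kernel) (by decide +kernel) (by decide +kernel) (by decide +kernel) (by decide +kernel) (by decide +kernel) (by decide +kernel) (by decide +kernel) (by decide +kernel) (by decide +kernel) (by decide +kernel) (by decide +kernel) (by decide +kernel)))

theorem square8 : mulM (genL 8) (genL 8) = idM :=
  (mul_eq (A := (genL 8)) (B := (genL 8)) (C := idM) (gen_good 8 (by norm_num)).1 (gen_good 8 (by norm_num)).1 id_good.1
    (of_six _ (by decide +kernel) (by decide +kernel) (by decide +kernel) (by decide +kernel) (by decide +kernel) (by decide +kernel) (by decide +kernel) (by decide +kernel) (by decide +kernel) (by decide +kernel) (by decide +kernel) (by decide +kernel) (by decide +kernel)))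

theorem squares {k : ℕ} (hk : k < 9) : mulM (genL k) (genL k) = idM := by
  interval_cases k
  exacts [square0, square1, square2, square3, square4, square5, square6, square7, square8]

theorem gen_mul {k : ℕ} (hk : k < 9) : toM (genL k) * toM (genL k) = 1 := by
  rw [← toM_mul (gen_good k hk) (gen_good k hk), squares hk, toM_id]

/-- the units -/
def unitOf (k : ℕ) : GL (Fin 78) (ZMod 13) :=
  if h : k < 9 then ⟨toM (genL k), toM (genL k), gen_mul h, gen_mul h⟩ else 1

theorem unitOf_val {k : ℕ} (hk : k < 9) : (unitOf k : Matrix (Fin 78) (Fin 78) (ZMod 13)) = toM (genL k) := by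
  rw [unitOf, dif_pos hk]

theorem unitOf_sq (k : ℕ) : unitOf k * unitOf k = 1 := by
  by_cases hk : k < 9
  · refine Units.ext ?_
    rw [Units.val_mul, unitOf_val hk, gen_mul hk, Units.val_one]
  · rw [unitOf, dif_neg hk, one_mul]

theorem step {A B C : List ℕ} (hA : Good A) (hB : Good B) (h : mulM A B = C) :
    Good C ∧ toM C = toM A * toM B := by
  rw [← h]
  exact ⟨mul_good hB.1, toM_mul hA hB⟩

/-- the eight edges -/
def adjPair (i j : ℕ) : Bool :=
  [(0, 1), (1, 2), (2, 3), (3, 4), (3, 7), (4, 5), (5, 6), (7, 8)].contains (i, j)

theorem com02 : mulM (genL 0) (genL 2) = mulM (genL 2) (genL 0) :=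
  mul_eq2 (gen_good 0 (by norm_num)).1 (gen_good 2 (by norm_num)).1 (gen_good 2 (by norm_num)).1 (gen_good 0 (by norm_num)).1
    (of_six _ (by decide +kernel) (by decide +kernel) (by decide +kernel) (by decide +kernel) (by decide +kernel) (by decide +kernel) (by decide +kernel) (by decide +kernel) (by decide +kernel) (by decide +kernel) (by decide +kernel) (by decide +kernel) (by decide +kernel))

theorem com03 : mulM (genL 0) (genL 3) = mulM (genL 3) (genL 0) :=
  mul_eq2 (gen_good 0 (by norm_num)).1 (gen_good 3 (by norm_num)).1 (gen_good 3 (by norm_num)).1 (gen_good 0 (by norm_num)).1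
    (of_six _ (by decide +kernel) (by decide +kernel) (by decide +kernel) (by decide +kernel) (by decide +kernel) (by decide +kernel) (by decide +kernel) (by decide +kernel) (by decide +kernel) (by decide +kernel) (by decide +kernel) (by decide +kernel) (by decide +kernel))

theorem com04 : mulM (genL 0) (genL 4) = mulM (genL 4) (genL 0) :=
  mul_eq2 (gen_good 0 (by norm_num)).1 (gen_good 4 (by norm_num)).1 (gen_good 4 (by norm_num)).1 (gen_good 0 (by norm_num)).1
    (of_six _ (by decide +kernel) (by decide +kernel) (by decide +kernel) (by decide +kernel) (by decide +kernel) (by decide +kernel) (by decide +kernel) (by decide +kernel) (by decide +kernel) (by decide +kernel) (by decide +kernel) (by decide +kernel) (by decide +kernel))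

theorem com05 : mulM (genL 0) (genL 5) = mulM (genL 5) (genL 0) :=
  mul_eq2 (gen_good 0 (by norm_num)).1 (gen_good 5 (by norm_num)).1 (gen_good 5 (by norm_num)).1 (gen_good 0 (by norm_num)).1
    (of_six _ (by decide +kernel) (by decide +kernel) (by decide +kernel) (by decide +kernel) (by decide +kernel) (by decide +kernel) (by decide +kernel) (by decide +kernel) (by decide +kernel) (by decide +kernel) (by decide +kernel) (by decide +kernel) (by decide +kernel))

theorem com06 : mulM (genL 0) (genL 6) = mulM (genL 6) (genL 0) :=
  mul_eq2 (gen_good 0 (by norm_num)).1 (gen_good 6 (by norm_num)).1 (gen_good 6 (by norm_num)).1 (gen_good 0 (by norm_num)).1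
    (of_six _ (by decide +kernel) (by decide +kernel) (by decide +kernel) (by decide +kernel) (by decide +kernel) (by decide +kernel) (by decide +kernel) (by decide +kernel) (by decide +kernel) (by decide +kernel) (by decide +kernel) (by decide +kernel) (by decide +kernel))

theorem com07 : mulM (genL 0) (genL 7) = mulM (genL 7) (genL 0) :=
  mul_eq2 (gen_good 0 (by norm_num)).1 (gen_good 7 (by norm_num)).1 (gen_good 7 (by norm_num)).1 (gen_good 0 (by norm_num)).1
    (of_six _ (by decide +kernel) (by decide +kernel) (by decide +kernel) (by decide +kernel) (by decide +kernel) (by decide +kernel) (by decide +kernel) (by decide +kernel) (by decide +kernel) (by decide +kernel) (by decide +kernel) (by decide +kernel) (by decide +kernel))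

theorem com08 : mulM (genL 0) (genL 8) = mulM (genL 8) (genL 0) :=
  mul_eq2 (gen_good 0 (by norm_num)).1 (gen_good 8 (by norm_num)).1 (gen_good 8 (by norm_num)).1 (gen_good 0 (by norm_num)).1
    (of_six _ (by decide +kernel) (by decide +kernel) (by decide +kernel) (by decide +kernel) (by decide +kernel) (by decide +kernel) (by decide +kernel) (by decide +kernel) (by decide +kernel) (by decide +kernel) (by decide +kernel) (by decide +kernel) (by decide +kernel))

theorem com13 : mulM (genL 1) (genL 3) = mulM (genL 3) (genL 1) :=
  mul_eq2 (gen_good 1 (by norm_num)).1 (gen_good 3 (by norm_num)).1 (gen_good 3 (by norm_num)).1 (gen_good 1 (by norm_num)).1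
    (of_six _ (by decide +kernel) (by decide +kernel) (by decide +kernel) (by decide +kernel) (by decide +kernel) (by decide +kernel) (by decide +kernel) (by decide +kernel) (by decide +kernel) (by decide +kernel) (by decide +kernel) (by decide +kernel) (by decide +kernel))

theorem com14 : mulM (genL 1) (genL 4) = mulM (genL 4) (genL 1) :=
  mul_eq2 (gen_good 1 (by norm_num)).1 (gen_good 4 (by norm_num)).1 (gen_good 4 (by norm_num)).1 (gen_good 1 (by norm_num)).1
    (of_six _ (by decide +kernel) (by decide +kernel) (by decide +kernel) (by decide +kernel) (by decide +kernel) (by decide +kernel) (by decide +kernel) (by decide +kernel) (by decide +kernel) (by decide +kernel) (by decide +kernel) (by decide +kernel) (by decide +kernel))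

theorem com15 : mulM (genL 1) (genL 5) = mulM (genL 5) (genL 1) :=
  mul_eq2 (gen_good 1 (by norm_num)).1 (gen_good 5 (by norm_num)).1 (gen_good 5 (by norm_num)).1 (gen_good 1 (by norm_num)).1
    (of_six _ (by decide +kernel) (by decide +kernel) (by decide +kernel) (by decide +kernel) (by decide +kernel) (by decide +kernel) (by decide +kernel) (by decide +kernel) (by decide +kernel) (by decide +kernel) (by decide +kernel) (by decide +kernel) (by decide +kernel))

theorem com16 : mulM (genL 1) (genL 6) = mulM (genL 6) (genL 1) :=
  mul_eq2 (gen_good 1 (by norm_num)).1 (gen_good 6 (by norm_num)).1 (gen_good 6 (by norm_num)).1 (gen_good 1 (by norm_num)).1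
    (of_six _ (by decide +kernel) (by decide +kernel) (by decide +kernel) (by decide +kernel) (by decide +kernel) (by decide +kernel) (by decide +kernel) (by decide +kernel) (by decide +kernel) (by decide +kernel) (by decide +kernel) (by decide +kernel) (by decide +kernel))

theorem com17 : mulM (genL 1) (genL 7) = mulM (genL 7) (genL 1) :=
  mul_eq2 (gen_good 1 (by norm_num)).1 (gen_good 7 (by norm_num)).1 (gen_good 7 (by norm_num)).1 (gen_good 1 (by norm_num)).1
    (of_six _ (by decide +kernel) (by decide +kernel) (by decide +kernel) (by decide +kernel) (by decide +kernel) (by decide +kernel) (by decide +kernel) (by decide +kernel) (by decide +kernel) (by decide +kernel) (by decide +kernel) (by decide +kernel) (by decide +kernel))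

theorem com18 : mulM (genL 1) (genL 8) = mulM (genL 8) (genL 1) :=
  mul_eq2 (gen_good 1 (by norm_num)).1 (gen_good 8 (by norm_num)).1 (gen_good 8 (by norm_num)).1 (gen_good 1 (by norm_num)).1
    (of_six _ (by decide +kernel) (by decide +kernel) (by decide +kernel) (by decide +kernel) (by decide +kernel) (by decide +kernel) (by decide +kernel) (by decide +kernel) (by decide +kernel) (by decide +kernel) (by decide +kernel) (by decide +kernel) (by decide +kernel))

theorem com24 : mulM (genL 2) (genL 4) = mulM (genL 4) (genL 2) :=
  mul_eq2 (gen_good 2 (by norm_num)).1 (gen_good 4 (by norm_num)).1 (gen_good 4 (by norm_num)).1 (gen_good 2 (by norm_num)).1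
    (of_six _ (by decide +kernel) (by decide +kernel) (by decide +kernel) (by decide +kernel) (by decide +kernel) (by decide +kernel) (by decide +kernel) (by decide +kernel) (by decide +kernel) (by decide +kernel) (by decide +kernel) (by decide +kernel) (by decide +kernel))

theorem com25 : mulM (genL 2) (genL 5) = mulM (genL 5) (genL 2) :=
  mul_eq2 (gen_good 2 (by norm_num)).1 (gen_good 5 (by norm_num)).1 (gen_good 5 (by norm_num)).1 (gen_good 2 (by norm_num)).1
    (of_six _ (by decide +kernel) (by decide +kernel) (by decide +kernel) (by decide +kernel) (by decide +kernel) (by decide +kernel) (by decide +kernel) (by decide +kernel) (by decide +kernel) (by decide +kernel) (by decide +kernel) (by decide +kernel) (by decide +kernel))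

theorem com26 : mulM (genL 2) (genL 6) = mulM (genL 6) (genL 2) :=
  mul_eq2 (gen_good 2 (by norm_num)).1 (gen_good 6 (by norm_num)).1 (gen_good 6 (by norm_num)).1 (gen_good 2 (by norm_num)).1
    (of_six _ (by decide +kernel) (by decide +kernel) (by decide +kernel) (by decide +kernel) (by decide +kernel) (by decide +kernel) (by decide +kernel) (by decide +kernel) (by decide +kernel) (by decide +kernel) (by decide +kernel) (by decide +kernel) (by decide +kernel))

theorem com27 : mulM (genL 2) (genL 7) = mulM (genL 7) (genL 2) :=
  mul_eq2 (gen_good 2 (by norm_num)).1 (gen_good 7 (by norm_num)).1 (gen_good 7 (by norm_num)).1 (gen_good 2 (by norm_num)).1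
    (of_six _ (by decide +kernel) (by decide +kernel) (by decide +kernel) (by decide +kernel) (by decide +kernel) (by decide +kernel) (by decide +kernel) (by decide +kernel) (by decide +kernel) (by decide +kernel) (by decide +kernel) (by decide +kernel) (by decide +kernel))

theorem com28 : mulM (genL 2) (genL 8) = mulM (genL 8) (genL 2) :=
  mul_eq2 (gen_good 2 (by norm_num)).1 (gen_good 8 (by norm_num)).1 (gen_good 8 (by norm_num)).1 (gen_good 2 (by norm_num)).1
    (of_six _ (by decide +kernel) (by decide +kernel) (by decide +kernel) (by decide +kernel) (by decide +kernel) (by decide +kernel) (by decide +kernel) (by decide +kernel) (by decide +kernel) (by decide +kernel) (by decide +kernel) (by decide +kernel) (by decide +kernel))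

theorem com35 : mulM (genL 3) (genL 5) = mulM (genL 5) (genL 3) :=
  mul_eq2 (gen_good 3 (by norm_num)).1 (gen_good 5 (by norm_num)).1 (gen_good 5 (by norm_num)).1 (gen_good 3 (by norm_num)).1
    (of_six _ (by decide +kernel) (by decide +kernel) (by decide +kernel) (by decide +kernel) (by decide +kernel) (by decide +kernel) (by decide +kernel) (by decide +kernel) (by decide +kernel) (by decide +kernel) (by decide +kernel) (by decide +kernel) (by decide +kernel))

theorem com36 : mulM (genL 3) (genL 6) = mulM (genL 6) (genL 3) :=
  mul_eq2 (gen_good 3 (by norm_num)).1 (gen_good 6 (by norm_num)).1 (gen_good 6 (by norm_num)).1 (gen_good 3 (by norm_num)).1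
    (of_six _ (by decide +kernel) (by decide +kernel) (by decide +kernel) (by decide +kernel) (by decide +kernel) (by decide +kernel) (by decide +kernel) (by decide +kernel) (by decide +kernel) (by decide +kernel) (by decide +kernel) (by decide +kernel) (by decide +kernel))

theorem com38 : mulM (genL 3) (genL 8) = mulM (genL 8) (genL 3) :=
  mul_eq2 (gen_good 3 (by norm_num)).1 (gen_good 8 (by norm_num)).1 (gen_good 8 (by norm_num)).1 (gen_good 3 (by norm_num)).1
    (of_six _ (by decide +kernel) (by decide +kernel) (by decide +kernel) (by decide +kernel) (by decide +kernel) (by decide +kernel) (by decide +kernel) (by decide +kernel) (by decide +kernel) (by decide +kernel) (by decide +kernel) (by decide +kernel) (by decide +kernel))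

theorem com46 : mulM (genL 4) (genL 6) = mulM (genL 6) (genL 4) :=
  mul_eq2 (gen_good 4 (by norm_num)).1 (gen_good 6 (by norm_num)).1 (gen_good 6 (by norm_num)).1 (gen_good 4 (by norm_num)).1
    (of_six _ (by decide +kernel) (by decide +kernel) (by decide +kernel) (by decide +kernel) (by decide +kernel) (by decide +kernel) (by decide +kernel) (by decide +kernel) (by decide +kernel) (by decide +kernel) (by decide +kernel) (by decide +kernel) (by decide +kernel))

theorem com47 : mulM (genL 4) (genL 7) = mulM (genL 7) (genL 4) :=
  mul_eq2 (gen_good 4 (by norm_num)).1 (gen_good 7 (by norm_num)).1 (gen_good 7 (by norm_num)).1 (gen_good 4 (by norm_num)).1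
    (of_six _ (by decide +kernel) (by decide +kernel) (by decide +kernel) (by decide +kernel) (by decide +kernel) (by decide +kernel) (by decide +kernel) (by decide +kernel) (by decide +kernel) (by decide +kernel) (by decide +kernel) (by decide +kernel) (by decide +kernel))

theorem com48 : mulM (genL 4) (genL 8) = mulM (genL 8) (genL 4) :=
  mul_eq2 (gen_good 4 (by norm_num)).1 (gen_good 8 (by norm_num)).1 (gen_good 8 (by norm_num)).1 (gen_good 4 (by norm_num)).1
    (of_six _ (by decide +kernel) (by decide +kernel) (by decide +kernel) (by decide +kernel) (by decide +kernel) (by decide +kernel) (by decide +kernel) (by decide +kernel) (by decide +kernel) (by decide +kernel) (by decide +kernel) (by decide +kernel) (by decide +kernel))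

theorem com57 : mulM (genL 5) (genL 7) = mulM (genL 7) (genL 5) :=
  mul_eq2 (gen_good 5 (by norm_num)).1 (gen_good 7 (by norm_num)).1 (gen_good 7 (by norm_num)).1 (gen_good 5 (by norm_num)).1
    (of_six _ (by decide +kernel) (by decide +kernel) (by decide +kernel) (by decide +kernel) (by decide +kernel) (by decide +kernel) (by decide +kernel) (by decide +kernel) (by decide +kernel) (by decide +kernel) (by decide +kernel) (by decide +kernel) (by decide +kernel))

theorem com58 : mulM (genL 5) (genL 8) = mulM (genL 8) (genL 5) :=
  mul_eq2 (gen_good 5 (by norm_num)).1 (gen_good 8 (by norm_num)).1 (gen_good 8 (by norm_num)).1 (gen_good 5 (by norm_num)).1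
    (of_six _ (by decide +kernel) (by decide +kernel) (by decide +kernel) (by decide +kernel) (by decide +kernel) (by decide +kernel) (by decide +kernel) (by decide +kernel) (by decide +kernel) (by decide +kernel) (by decide +kernel) (by decide +kernel) (by decide +kernel))

theorem com67 : mulM (genL 6) (genL 7) = mulM (genL 7) (genL 6) :=
  mul_eq2 (gen_good 6 (by norm_num)).1 (gen_good 7 (by norm_num)).1 (gen_good 7 (by norm_num)).1 (gen_good 6 (by norm_num)).1
    (of_six _ (by decide +kernel) (by decide +kernel) (by decide +kernel) (by decide +kernel) (by decide +kernel) (by decide +kernel) (by decide +kernel) (by decide +kernel) (by decide +kernel) (by decide +kernel) (by decide +kernel) (by decide +kernel) (by decide +kernel))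

theorem com68 : mulM (genL 6) (genL 8) = mulM (genL 8) (genL 6) :=
  mul_eq2 (gen_good 6 (by norm_num)).1 (gen_good 8 (by norm_num)).1 (gen_good 8 (by norm_num)).1 (gen_good 6 (by norm_num)).1
    (of_six _ (by decide +kernel) (by decide +kernel) (by decide +kernel) (by decide +kernel) (by decide +kernel) (by decide +kernel) (by decide +kernel) (by decide +kernel) (by decide +kernel) (by decide +kernel) (by decide +kernel) (by decide +kernel) (by decide +kernel))

theorem com_all {i j : ℕ} (hj : j < 9) (hij : i < j) (hn : ¬ adjPair i j = true) :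
    mulM (genL i) (genL j) = mulM (genL j) (genL i) := by
  interval_cases j <;> interval_cases i <;>
    first
    | exact absurd (by decide) hn
    | exact com02
    | exact com03
    | exact com04
    | exact com05
    | exact com06
    | exact com07
    | exact com08
    | exact com13
    | exact com14
    | exact com15
    | exact com16
    | exact com17
    | exact com18
    | exact com24
    | exact com25
    | exact com26
    | exact com27
    | exact com28
    | exact com35
    | exact com36
    | exact com38
    | exact com46
    | exact com47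
    | exact com48
    | exact com57
    | exact com58
    | exact com67
    | exact com68

theorem braid_of {i j : ℕ} {P : List ℕ} (hi : i < 9) (hj : j < 9)
    (h1 : mulM (genL i) (genL j) = P) (h2 : mulM P (genL i) = mulM (genL j) P) :
    (unitOf i * unitOf j) ^ 3 = 1 := by
  obtain ⟨hP, e⟩ := step (gen_good i hi) (gen_good j hj) h1
  have e' := congrArg toM h2
  rw [toM_mul hP (gen_good i hi), toM_mul (gen_good j hj) hP, e, ← unitOf_val hi, ← unitOf_val hj] at e'
  have hb : unitOf i * unitOf j * unitOf i = unitOf j * (unitOf i * unitOf j) :=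
    Units.ext (by simpa only [Units.val_mul] using e')
  calc (unitOf i * unitOf j) ^ 3
      = (unitOf i * unitOf j * unitOf i) * (unitOf j * (unitOf i * unitOf j)) := by
        simp only [pow_succ, pow_zero, one_mul, mul_assoc]
    _ = (unitOf i * unitOf j * unitOf i) * (unitOf i * unitOf j * unitOf i) := by rw [← hb]
    _ = (unitOf i * unitOf j) * (unitOf i * unitOf i) * (unitOf j * unitOf i) := by simp only [mul_assoc]
    _ = unitOf i * (unitOf j * unitOf j) * unitOf i := by rw [unitOf_sq, mul_one]; simp only [mul_assoc]
    _ = 1 := by rw [unitOf_sq, mul_one, unitOf_sq]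

theorem pp01_ok : Good pp01 ∧ toM pp01 = toM (genL 0) * toM (genL 1) := step (gen_good 0 (by norm_num)) (gen_good 1 (by norm_num))
  (mul_eq (A := (genL 0)) (B := (genL 1)) (C := pp01) (gen_good 0 (by norm_num)).1 (gen_good 1 (by norm_num)).1 (by decide +kernel)
    (of_six _ (by decide +kernel) (by decide +kernel) (by decide +kernel) (by decide +kernel) (by decide +kernel) (by decide +kernel) (by decide +kernel) (by decide +kernel) (by decide +kernel) (by decide +kernel) (by decide +kernel) (by decide +kernel) (by decide +kernel)))

theorem br01 : (unitOf 0 * unitOf 1) ^ 3 = 1 :=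
  braid_of (P := pp01) (by norm_num) (by norm_num)
    (mul_eq (A := (genL 0)) (B := (genL 1)) (C := pp01) (gen_good 0 (by norm_num)).1 (gen_good 1 (by norm_num)).1 pp01_ok.1.1
    (of_six _ (by decide +kernel) (by decide +kernel) (by decide +kernel) (by decide +kernel) (by decide +kernel) (by decide +kernel) (by decide +kernel) (by decide +kernel) (by decide +kernel) (by decide +kernel) (by decide +kernel) (by decide +kernel) (by decide +kernel)))
    (mul_eq2 pp01_ok.1.1 (gen_good 0 (by norm_num)).1 (gen_good 1 (by norm_num)).1 pp01_ok.1.1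
    (of_six _ (by decide +kernel) (by decide +kernel) (by decide +kernel) (by decide +kernel) (by decide +kernel) (by decide +kernel) (by decide +kernel) (by decide +kernel) (by decide +kernel) (by decide +kernel) (by decide +kernel) (by decide +kernel) (by decide +kernel)))

theorem pp12_ok : Good pp12 ∧ toM pp12 = toM (genL 1) * toM (genL 2) := step (gen_good 1 (by norm_num)) (gen_good 2 (by norm_num))
  (mul_eq (A := (genL 1)) (B := (genL 2)) (C := pp12) (gen_good 1 (by norm_num)).1 (gen_good 2 (by norm_num)).1 (by decide +kernel)
    (of_six _ (by decide +kernel) (by decide +kernel) (by decide +kernel) (by decide +kernel) (by decide +kernel) (by decide +kernel) (by decide +kernel) (by decide +kernel) (by decide +kernel) (by decide +kernel) (by decide +kernel) (by decide +kernel) (by decide +kernel)))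

theorem br12 : (unitOf 1 * unitOf 2) ^ 3 = 1 :=
  braid_of (P := pp12) (by norm_num) (by norm_num)
    (mul_eq (A := (genL 1)) (B := (genL 2)) (C := pp12) (gen_good 1 (by norm_num)).1 (gen_good 2 (by norm_num)).1 pp12_ok.1.1
    (of_six _ (by decide +kernel) (by decide +kernel) (by decide +kernel) (by decide +kernel) (by decide +kernel) (by decide +kernel) (by decide +kernel) (by decide +kernel) (by decide +kernel) (by decide +kernel) (by decide +kernel) (by decide +kernel) (by decide +kernel)))
    (mul_eq2 pp12_ok.1.1 (gen_good 1 (by norm_num)).1 (gen_good 2 (by norm_num)).1 pp12_ok.1.1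
    (of_six _ (by decide +kernel) (by decide +kernel) (by decide +kernel) (by decide +kernel) (by decide +kernel) (by decide +kernel) (by decide +kernel) (by decide +kernel) (by decide +kernel) (by decide +kernel) (by decide +kernel) (by decide +kernel) (by decide +kernel)))

theorem pp23_ok : Good pp23 ∧ toM pp23 = toM (genL 2) * toM (genL 3) := step (gen_good 2 (by norm_num)) (gen_good 3 (by norm_num))
  (mul_eq (A := (genL 2)) (B := (genL 3)) (C := pp23) (gen_good 2 (by norm_num)).1 (gen_good 3 (by norm_num)).1 (by decide +kernel)
    (of_six _ (by decide +kernel) (by decide +kernel) (by decide +kernel) (by decide +kernel) (by decide +kernel) (by decide +kernel) (by decide +kernel) (by decide +kernel) (by decide +kernel) (by decide +kernel) (by decide +kernel) (by decide +kernel) (by decide +kernel)))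

theorem br23 : (unitOf 2 * unitOf 3) ^ 3 = 1 :=
  braid_of (P := pp23) (by norm_num) (by norm_num)
    (mul_eq (A := (genL 2)) (B := (genL 3)) (C := pp23) (gen_good 2 (by norm_num)).1 (gen_good 3 (by norm_num)).1 pp23_ok.1.1
    (of_six _ (by decide +kernel) (by decide +kernel) (by decide +kernel) (by decide +kernel) (by decide +kernel) (by decide +kernel) (by decide +kernel) (by decide +kernel) (by decide +kernel) (by decide +kernel) (by decide +kernel) (by decide +kernel) (by decide +kernel)))
    (mul_eq2 pp23_ok.1.1 (gen_good 2 (by norm_num)).1 (gen_good 3 (by norm_num)).1 pp23_ok.1.1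
    (of_six _ (by decide +kernel) (by decide +kernel) (by decide +kernel) (by decide +kernel) (by decide +kernel) (by decide +kernel) (by decide +kernel) (by decide +kernel) (by decide +kernel) (by decide +kernel) (by decide +kernel) (by decide +kernel) (by decide +kernel)))

theorem pp34_ok : Good pp34 ∧ toM pp34 = toM (genL 3) * toM (genL 4) := step (gen_good 3 (by norm_num)) (gen_good 4 (by norm_num))
  (mul_eq (A := (genL 3)) (B := (genL 4)) (C := pp34) (gen_good 3 (by norm_num)).1 (gen_good 4 (by norm_num)).1 (by decide +kernel)
    (of_six _ (by decide +kernel) (by decide +kernel) (by decide +kernel) (by decide +kernel) (by decide +kernel) (by decide +kernel) (by decide +kernel) (by decide +kernel) (by decide +kernel) (by decide +kernel) (by decide +kernel) (by decide +kernel) (by decide +kernel)))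

theorem br34 : (unitOf 3 * unitOf 4) ^ 3 = 1 :=
  braid_of (P := pp34) (by norm_num) (by norm_num)
    (mul_eq (A := (genL 3)) (B := (genL 4)) (C := pp34) (gen_good 3 (by norm_num)).1 (gen_good 4 (by norm_num)).1 pp34_ok.1.1
    (of_six _ (by decide +kernel) (by decide +kernel) (by decide +kernel) (by decide +kernel) (by decide +kernel) (by decide +kernel) (by decide +kernel) (by decide +kernel) (by decide +kernel) (by decide +kernel) (by decide +kernel) (by decide +kernel) (by decide +kernel)))
    (mul_eq2 pp34_ok.1.1 (gen_good 3 (by norm_num)).1 (gen_good 4 (by norm_num)).1 pp34_ok.1.1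
    (of_six _ (by decide +kernel) (by decide +kernel) (by decide +kernel) (by decide +kernel) (by decide +kernel) (by decide +kernel) (by decide +kernel) (by decide +kernel) (by decide +kernel) (by decide +kernel) (by decide +kernel) (by decide +kernel) (by decide +kernel)))

theorem pp37_ok : Good pp37 ∧ toM pp37 = toM (genL 3) * toM (genL 7) := step (gen_good 3 (by norm_num)) (gen_good 7 (by norm_num))
  (mul_eq (A := (genL 3)) (B := (genL 7)) (C := pp37) (gen_good 3 (by norm_num)).1 (gen_good 7 (by norm_num)).1 (by decide +kernel)
    (of_six _ (by decide +kernel) (by decide +kernel) (by decide +kernel) (by decide +kernel) (by decide +kernel) (by decide +kernel) (by decide +kernel) (by decide +kernel) (by decide +kernel) (by decide +kernel) (by decide +kernel) (by decide +kernel) (by decide +kernel)))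

theorem br37 : (unitOf 3 * unitOf 7) ^ 3 = 1 :=
  braid_of (P := pp37) (by norm_num) (by norm_num)
    (mul_eq (A := (genL 3)) (B := (genL 7)) (C := pp37) (gen_good 3 (by norm_num)).1 (gen_good 7 (by norm_num)).1 pp37_ok.1.1
    (of_six _ (by decide +kernel) (by decide +kernel) (by decide +kernel) (by decide +kernel) (by decide +kernel) (by decide +kernel) (by decide +kernel) (by decide +kernel) (by decide +kernel) (by decide +kernel) (by decide +kernel) (by decide +kernel) (by decide +kernel)))
    (mul_eq2 pp37_ok.1.1 (gen_good 3 (by norm_num)).1 (gen_good 7 (by norm_num)).1 pp37_ok.1.1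
    (of_six _ (by decide +kernel) (by decide +kernel) (by decide +kernel) (by decide +kernel) (by decide +kernel) (by decide +kernel) (by decide +kernel) (by decide +kernel) (by decide +kernel) (by decide +kernel) (by decide +kernel) (by decide +kernel) (by decide +kernel)))

theorem pp45_ok : Good pp45 ∧ toM pp45 = toM (genL 4) * toM (genL 5) := step (gen_good 4 (by norm_num)) (gen_good 5 (by norm_num))
  (mul_eq (A := (genL 4)) (B := (genL 5)) (C := pp45) (gen_good 4 (by norm_num)).1 (gen_good 5 (by norm_num)).1 (by decide +kernel)
    (of_six _ (by decide +kernel) (by decide +kernel) (by decide +kernel) (by decide +kernel) (by decide +kernel) (by decide +kernel) (by decide +kernel) (by decide +kernel) (by decide +kernel) (by decide +kernel) (by decide +kernel) (by decide +kernel) (by decide +kernel)))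

theorem br45 : (unitOf 4 * unitOf 5) ^ 3 = 1 :=
  braid_of (P := pp45) (by norm_num) (by norm_num)
    (mul_eq (A := (genL 4)) (B := (genL 5)) (C := pp45) (gen_good 4 (by norm_num)).1 (gen_good 5 (by norm_num)).1 pp45_ok.1.1
    (of_six _ (by decide +kernel) (by decide +kernel) (by decide +kernel) (by decide +kernel) (by decide +kernel) (by decide +kernel) (by decide +kernel) (by decide +kernel) (by decide +kernel) (by decide +kernel) (by decide +kernel) (by decide +kernel) (by decide +kernel)))
    (mul_eq2 pp45_ok.1.1 (gen_good 4 (by norm_num)).1 (gen_good 5 (by norm_num)).1 pp45_ok.1.1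
    (of_six _ (by decide +kernel) (by decide +kernel) (by decide +kernel) (by decide +kernel) (by decide +kernel) (by decide +kernel) (by decide +kernel) (by decide +kernel) (by decide +kernel) (by decide +kernel) (by decide +kernel) (by decide +kernel) (by decide +kernel)))

theorem pp56_ok : Good pp56 ∧ toM pp56 = toM (genL 5) * toM (genL 6) := step (gen_good 5 (by norm_num)) (gen_good 6 (by norm_num))
  (mul_eq (A := (genL 5)) (B := (genL 6)) (C := pp56) (gen_good 5 (by norm_num)).1 (gen_good 6 (by norm_num)).1 (by decide +kernel)
    (of_six _ (by decide +kernel) (by decide +kernel) (by decide +kernel) (by decide +kernel) (by decide +kernel) (by decide +kernel) (by decide +kernel) (by decide +kernel) (by decide +kernel) (by decide +kernel) (by decide +kernel) (by decide +kernel) (by decide +kernel)))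

theorem br56 : (unitOf 5 * unitOf 6) ^ 3 = 1 :=
  braid_of (P := pp56) (by norm_num) (by norm_num)
    (mul_eq (A := (genL 5)) (B := (genL 6)) (C := pp56) (gen_good 5 (by norm_num)).1 (gen_good 6 (by norm_num)).1 pp56_ok.1.1
    (of_six _ (by decide +kernel) (by decide +kernel) (by decide +kernel) (by decide +kernel) (by decide +kernel) (by decide +kernel) (by decide +kernel) (by decide +kernel) (by decide +kernel) (by decide +kernel) (by decide +kernel) (by decide +kernel) (by decide +kernel)))
    (mul_eq2 pp56_ok.1.1 (gen_good 5 (by norm_num)).1 (gen_good 6 (by norm_num)).1 pp56_ok.1.1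
    (of_six _ (by decide +kernel) (by decide +kernel) (by decide +kernel) (by decide +kernel) (by decide +kernel) (by decide +kernel) (by decide +kernel) (by decide +kernel) (by decide +kernel) (by decide +kernel) (by decide +kernel) (by decide +kernel) (by decide +kernel)))

theorem pp78_ok : Good pp78 ∧ toM pp78 = toM (genL 7) * toM (genL 8) := step (gen_good 7 (by norm_num)) (gen_good 8 (by norm_num))
  (mul_eq (A := (genL 7)) (B := (genL 8)) (C := pp78) (gen_good 7 (by norm_num)).1 (gen_good 8 (by norm_num)).1 (by decide +kernel)
    (of_six _ (by decide +kernel) (by decide +kernel) (by decide +kernel) (by decide +kernel) (by decide +kernel) (by decide +kernel) (by decide +kernel) (by decide +kernel) (by decide +kernel) (by decide +kernel) (by decide +kernel) (by decide +kernel) (by decide +kernel)))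

theorem br78 : (unitOf 7 * unitOf 8) ^ 3 = 1 :=
  braid_of (P := pp78) (by norm_num) (by norm_num)
    (mul_eq (A := (genL 7)) (B := (genL 8)) (C := pp78) (gen_good 7 (by norm_num)).1 (gen_good 8 (by norm_num)).1 pp78_ok.1.1
    (of_six _ (by decide +kernel) (by decide +kernel) (by decide +kernel) (by decide +kernel) (by decide +kernel) (by decide +kernel) (by decide +kernel) (by decide +kernel) (by decide +kernel) (by decide +kernel) (by decide +kernel) (by decide +kernel) (by decide +kernel)))
    (mul_eq2 pp78_ok.1.1 (gen_good 7 (by norm_num)).1 (gen_good 8 (by norm_num)).1 pp78_ok.1.1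
    (of_six _ (by decide +kernel) (by decide +kernel) (by decide +kernel) (by decide +kernel) (by decide +kernel) (by decide +kernel) (by decide +kernel) (by decide +kernel) (by decide +kernel) (by decide +kernel) (by decide +kernel) (by decide +kernel) (by decide +kernel)))

theorem w0_0_ok : Good w0_0 ∧ toM w0_0 = toM (genL 3) * toM (genL 2) := step (gen_good 3 (by norm_num)) (gen_good 2 (by norm_num))
  (mul_eq (A := (genL 3)) (B := (genL 2)) (C := w0_0) (gen_good 3 (by norm_num)).1 (gen_good 2 (by norm_num)).1 (by decide +kernel)
    (of_six _ (by decide +kernel) (by decide +kernel) (by decide +kernel) (by decide +kernel) (by decide +kernel) (by decide +kernel) (by decide +kernel) (by decide +kernel) (by decide +kernel) (by decide +kernel) (by decide +kernel) (by decide +kernel) (by decide +kernel)))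

theorem w0_1_ok : Good w0_1 ∧ toM w0_1 = toM w0_0 * toM (genL 1) := step w0_0_ok.1 (gen_good 1 (by norm_num))
  (mul_eq (A := w0_0) (B := (genL 1)) (C := w0_1) w0_0_ok.1.1 (gen_good 1 (by norm_num)).1 (by decide +kernel)
    (of_six _ (by decide +kernel) (by decide +kernel) (by decide +kernel) (by decide +kernel) (by decide +kernel) (by decide +kernel) (by decide +kernel) (by decide +kernel) (by decide +kernel) (by decide +kernel) (by decide +kernel) (by decide +kernel) (by decide +kernel)))

theorem w0_2_ok : Good w0_2 ∧ toM w0_2 = toM w0_1 * toM (genL 3) := step w0_1_ok.1 (gen_good 3 (by norm_num))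
  (mul_eq (A := w0_1) (B := (genL 3)) (C := w0_2) w0_1_ok.1.1 (gen_good 3 (by norm_num)).1 (by decide +kernel)
    (of_six _ (by decide +kernel) (by decide +kernel) (by decide +kernel) (by decide +kernel) (by decide +kernel) (by decide +kernel) (by decide +kernel) (by decide +kernel) (by decide +kernel) (by decide +kernel) (by decide +kernel) (by decide +kernel) (by decide +kernel)))

theorem w0_3_ok : Good w0_3 ∧ toM w0_3 = toM w0_2 * toM (genL 4) := step w0_2_ok.1 (gen_good 4 (by norm_num))
  (mul_eq (A := w0_2) (B := (genL 4)) (C := w0_3) w0_2_ok.1.1 (gen_good 4 (by norm_num)).1 (by decide +kernel)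
    (of_six _ (by decide +kernel) (by decide +kernel) (by decide +kernel) (by decide +kernel) (by decide +kernel) (by decide +kernel) (by decide +kernel) (by decide +kernel) (by decide +kernel) (by decide +kernel) (by decide +kernel) (by decide +kernel) (by decide +kernel)))

theorem w0_4_ok : Good w0_4 ∧ toM w0_4 = toM w0_3 * toM (genL 5) := step w0_3_ok.1 (gen_good 5 (by norm_num))
  (mul_eq (A := w0_3) (B := (genL 5)) (C := w0_4) w0_3_ok.1.1 (gen_good 5 (by norm_num)).1 (by decide +kernel)
    (of_six _ (by decide +kernel) (by decide +kernel) (by decide +kernel) (by decide +kernel) (by decide +kernel) (by decide +kernel) (by decide +kernel) (by decide +kernel) (by decide +kernel) (by decide +kernel) (by decide +kernel) (by decide +kernel) (by decide +kernel)))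

theorem w0_5_ok : Good w0_5 ∧ toM w0_5 = toM w0_4 * toM (genL 3) := step w0_4_ok.1 (gen_good 3 (by norm_num))
  (mul_eq (A := w0_4) (B := (genL 3)) (C := w0_5) w0_4_ok.1.1 (gen_good 3 (by norm_num)).1 (by decide +kernel)
    (of_six _ (by decide +kernel) (by decide +kernel) (by decide +kernel) (by decide +kernel) (by decide +kernel) (by decide +kernel) (by decide +kernel) (by decide +kernel) (by decide +kernel) (by decide +kernel) (by decide +kernel) (by decide +kernel) (by decide +kernel)))

theorem w0_6_ok : Good w0_6 ∧ toM w0_6 = toM w0_5 * toM (genL 7) := step w0_5_ok.1 (gen_good 7 (by norm_num))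
  (mul_eq (A := w0_5) (B := (genL 7)) (C := w0_6) w0_5_ok.1.1 (gen_good 7 (by norm_num)).1 (by decide +kernel)
    (of_six _ (by decide +kernel) (by decide +kernel) (by decide +kernel) (by decide +kernel) (by decide +kernel) (by decide +kernel) (by decide +kernel) (by decide +kernel) (by decide +kernel) (by decide +kernel) (by decide +kernel) (by decide +kernel) (by decide +kernel)))

theorem w0_7_ok : Good w0_7 ∧ toM w0_7 = toM w0_6 * toM (genL 8) := step w0_6_ok.1 (gen_good 8 (by norm_num))
  (mul_eq (A := w0_6) (B := (genL 8)) (C := w0_7) w0_6_ok.1.1 (gen_good 8 (by norm_num)).1 (by decide +kernel)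
    (of_six _ (by decide +kernel) (by decide +kernel) (by decide +kernel) (by decide +kernel) (by decide +kernel) (by decide +kernel) (by decide +kernel) (by decide +kernel) (by decide +kernel) (by decide +kernel) (by decide +kernel) (by decide +kernel) (by decide +kernel)))

theorem w0A2_ok : Good w0A2 ∧ toM w0A2 = toM w0_7 * toM w0_7 := step w0_7_ok.1 w0_7_ok.1
  (mul_eq (A := w0_7) (B := w0_7) (C := w0A2) w0_7_ok.1.1 w0_7_ok.1.1 (by decide +kernel)
    (of_six _ (by decide +kernel) (by decide +kernel) (by decide +kernel) (by decide +kernel) (by decide +kernel) (by decide +kernel) (by decide +kernel) (by decide +kernel) (by decide +kernel) (by decide +kernel) (by decide +kernel) (by decide +kernel) (by decide +kernel)))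

theorem w0A4_ok : Good w0A4 ∧ toM w0A4 = toM w0A2 * toM w0A2 := step w0A2_ok.1 w0A2_ok.1
  (mul_eq (A := w0A2) (B := w0A2) (C := w0A4) w0A2_ok.1.1 w0A2_ok.1.1 (by decide +kernel)
    (of_six _ (by decide +kernel) (by decide +kernel) (by decide +kernel) (by decide +kernel) (by decide +kernel) (by decide +kernel) (by decide +kernel) (by decide +kernel) (by decide +kernel) (by decide +kernel) (by decide +kernel) (by decide +kernel) (by decide +kernel)))

theorem w0A5_ok : Good w0A5 ∧ toM w0A5 = toM w0A4 * toM w0_7 := step w0A4_ok.1 w0_7_ok.1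
  (mul_eq (A := w0A4) (B := w0_7) (C := w0A5) w0A4_ok.1.1 w0_7_ok.1.1 (by decide +kernel)
    (of_six _ (by decide +kernel) (by decide +kernel) (by decide +kernel) (by decide +kernel) (by decide +kernel) (by decide +kernel) (by decide +kernel) (by decide +kernel) (by decide +kernel) (by decide +kernel) (by decide +kernel) (by decide +kernel) (by decide +kernel)))

theorem w0end_ok : Good idM ∧ toM idM = toM w0A5 * toM w0A5 := step w0A5_ok.1 w0A5_ok.1
  (mul_eq (A := w0A5) (B := w0A5) (C := idM) w0A5_ok.1.1 w0A5_ok.1.1 (by decide +kernel)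
    (of_six _ (by decide +kernel) (by decide +kernel) (by decide +kernel) (by decide +kernel) (by decide +kernel) (by decide +kernel) (by decide +kernel) (by decide +kernel) (by decide +kernel) (by decide +kernel) (by decide +kernel) (by decide +kernel) (by decide +kernel)))

theorem w1_0_ok : Good w1_0 ∧ toM w1_0 = toM (genL 0) * toM (genL 1) := step (gen_good 0 (by norm_num)) (gen_good 1 (by norm_num))
  (mul_eq (A := (genL 0)) (B := (genL 1)) (C := w1_0) (gen_good 0 (by norm_num)).1 (gen_good 1 (by norm_num)).1 (by decide +kernel)
    (of_six _ (by decide +kernel) (by decide +kernel) (by decide +kernel) (by decide +kernel) (by decide +kernel) (by decide +kernel) (by decide +kernel) (by decide +kernel) (by decide +kernel) (by decide +kernel) (by decide +kernel) (by decide +kernel) (by decide +kernel)))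

theorem w1_1_ok : Good w1_1 ∧ toM w1_1 = toM w1_0 * toM (genL 2) := step w1_0_ok.1 (gen_good 2 (by norm_num))
  (mul_eq (A := w1_0) (B := (genL 2)) (C := w1_1) w1_0_ok.1.1 (gen_good 2 (by norm_num)).1 (by decide +kernel)
    (of_six _ (by decide +kernel) (by decide +kernel) (by decide +kernel) (by decide +kernel) (by decide +kernel) (by decide +kernel) (by decide +kernel) (by decide +kernel) (by decide +kernel) (by decide +kernel) (by decide +kernel) (by decide +kernel) (by decide +kernel)))

theorem w1_2_ok : Good w1_2 ∧ toM w1_2 = toM w1_1 * toM (genL 3) := step w1_1_ok.1 (gen_good 3 (by norm_num))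
  (mul_eq (A := w1_1) (B := (genL 3)) (C := w1_2) w1_1_ok.1.1 (gen_good 3 (by norm_num)).1 (by decide +kernel)
    (of_six _ (by decide +kernel) (by decide +kernel) (by decide +kernel) (by decide +kernel) (by decide +kernel) (by decide +kernel) (by decide +kernel) (by decide +kernel) (by decide +kernel) (by decide +kernel) (by decide +kernel) (by decide +kernel) (by decide +kernel)))

theorem w1_3_ok : Good w1_3 ∧ toM w1_3 = toM w1_2 * toM (genL 4) := step w1_2_ok.1 (gen_good 4 (by norm_num))
  (mul_eq (A := w1_2) (B := (genL 4)) (C := w1_3) w1_2_ok.1.1 (gen_good 4 (by norm_num)).1 (by decide +kernel)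
    (of_six _ (by decide +kernel) (by decide +kernel) (by decide +kernel) (by decide +kernel) (by decide +kernel) (by decide +kernel) (by decide +kernel) (by decide +kernel) (by decide +kernel) (by decide +kernel) (by decide +kernel) (by decide +kernel) (by decide +kernel)))

theorem w1_4_ok : Good w1_4 ∧ toM w1_4 = toM w1_3 * toM (genL 5) := step w1_3_ok.1 (gen_good 5 (by norm_num))
  (mul_eq (A := w1_3) (B := (genL 5)) (C := w1_4) w1_3_ok.1.1 (gen_good 5 (by norm_num)).1 (by decide +kernel)
    (of_six _ (by decide +kernel) (by decide +kernel) (by decide +kernel) (by decide +kernel) (by decide +kernel) (by decide +kernel) (by decide +kernel) (by decide +kernel) (by decide +kernel) (by decide +kernel) (by decide +kernel) (by decide +kernel) (by decide +kernel)))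

theorem w1_5_ok : Good w1_5 ∧ toM w1_5 = toM w1_4 * toM (genL 7) := step w1_4_ok.1 (gen_good 7 (by norm_num))
  (mul_eq (A := w1_4) (B := (genL 7)) (C := w1_5) w1_4_ok.1.1 (gen_good 7 (by norm_num)).1 (by decide +kernel)
    (of_six _ (by decide +kernel) (by decide +kernel) (by decide +kernel) (by decide +kernel) (by decide +kernel) (by decide +kernel) (by decide +kernel) (by decide +kernel) (by decide +kernel) (by decide +kernel) (by decide +kernel) (by decide +kernel) (by decide +kernel)))

theorem w1A2_ok : Good w1A2 ∧ toM w1A2 = toM w1_5 * toM w1_5 := step w1_5_ok.1 w1_5_ok.1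
  (mul_eq (A := w1_5) (B := w1_5) (C := w1A2) w1_5_ok.1.1 w1_5_ok.1.1 (by decide +kernel)
    (of_six _ (by decide +kernel) (by decide +kernel) (by decide +kernel) (by decide +kernel) (by decide +kernel) (by decide +kernel) (by decide +kernel) (by decide +kernel) (by decide +kernel) (by decide +kernel) (by decide +kernel) (by decide +kernel) (by decide +kernel)))

theorem w1A4_ok : Good w1A4 ∧ toM w1A4 = toM w1A2 * toM w1A2 := step w1A2_ok.1 w1A2_ok.1
  (mul_eq (A := w1A2) (B := w1A2) (C := w1A4) w1A2_ok.1.1 w1A2_ok.1.1 (by decide +kernel)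
    (of_six _ (by decide +kernel) (by decide +kernel) (by decide +kernel) (by decide +kernel) (by decide +kernel) (by decide +kernel) (by decide +kernel) (by decide +kernel) (by decide +kernel) (by decide +kernel) (by decide +kernel) (by decide +kernel) (by decide +kernel)))

theorem w1A8_ok : Good w1A8 ∧ toM w1A8 = toM w1A4 * toM w1A4 := step w1A4_ok.1 w1A4_ok.1
  (mul_eq (A := w1A4) (B := w1A4) (C := w1A8) w1A4_ok.1.1 w1A4_ok.1.1 (by decide +kernel)
    (of_six _ (by decide +kernel) (by decide +kernel) (by decide +kernel) (by decide +kernel) (by decide +kernel) (by decide +kernel) (by decide +kernel) (by decide +kernel) (by decide +kernel) (by decide +kernel) (by decide +kernel) (by decide +kernel) (by decide +kernel)))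

theorem w1end_ok : Good idM ∧ toM idM = toM w1A8 * toM w1_5 := step w1A8_ok.1 w1_5_ok.1
  (mul_eq (A := w1A8) (B := w1_5) (C := idM) w1A8_ok.1.1 w1_5_ok.1.1 (by decide +kernel)
    (of_six _ (by decide +kernel) (by decide +kernel) (by decide +kernel) (by decide +kernel) (by decide +kernel) (by decide +kernel) (by decide +kernel) (by decide +kernel) (by decide +kernel) (by decide +kernel) (by decide +kernel) (by decide +kernel) (by decide +kernel)))

theorem w2_0_ok : Good w2_0 ∧ toM w2_0 = toM (genL 1) * toM (genL 2) := step (gen_good 1 (by norm_num)) (gen_good 2 (by norm_num))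
  (mul_eq (A := (genL 1)) (B := (genL 2)) (C := w2_0) (gen_good 1 (by norm_num)).1 (gen_good 2 (by norm_num)).1 (by decide +kernel)
    (of_six _ (by decide +kernel) (by decide +kernel) (by decide +kernel) (by decide +kernel) (by decide +kernel) (by decide +kernel) (by decide +kernel) (by decide +kernel) (by decide +kernel) (by decide +kernel) (by decide +kernel) (by decide +kernel) (by decide +kernel)))

theorem w2_1_ok : Good w2_1 ∧ toM w2_1 = toM w2_0 * toM (genL 3) := step w2_0_ok.1 (gen_good 3 (by norm_num))
  (mul_eq (A := w2_0) (B := (genL 3)) (C := w2_1) w2_0_ok.1.1 (gen_good 3 (by norm_num)).1 (by decide +kernel)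
    (of_six _ (by decide +kernel) (by decide +kernel) (by decide +kernel) (by decide +kernel) (by decide +kernel) (by decide +kernel) (by decide +kernel) (by decide +kernel) (by decide +kernel) (by decide +kernel) (by decide +kernel) (by decide +kernel) (by decide +kernel)))

theorem w2_2_ok : Good w2_2 ∧ toM w2_2 = toM w2_1 * toM (genL 4) := step w2_1_ok.1 (gen_good 4 (by norm_num))
  (mul_eq (A := w2_1) (B := (genL 4)) (C := w2_2) w2_1_ok.1.1 (gen_good 4 (by norm_num)).1 (by decide +kernel)
    (of_six _ (by decide +kernel) (by decide +kernel) (by decide +kernel) (by decide +kernel) (by decide +kernel) (by decide +kernel) (by decide +kernel) (by decide +kernel) (by decide +kernel) (by decide +kernel) (by decide +kernel) (by decide +kernel) (by decide +kernel)))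

theorem w2_3_ok : Good w2_3 ∧ toM w2_3 = toM w2_2 * toM (genL 5) := step w2_2_ok.1 (gen_good 5 (by norm_num))
  (mul_eq (A := w2_2) (B := (genL 5)) (C := w2_3) w2_2_ok.1.1 (gen_good 5 (by norm_num)).1 (by decide +kernel)
    (of_six _ (by decide +kernel) (by decide +kernel) (by decide +kernel) (by decide +kernel) (by decide +kernel) (by decide +kernel) (by decide +kernel) (by decide +kernel) (by decide +kernel) (by decide +kernel) (by decide +kernel) (by decide +kernel) (by decide +kernel)))

theorem w2_4_ok : Good w2_4 ∧ toM w2_4 = toM w2_3 * toM (genL 6) := step w2_3_ok.1 (gen_good 6 (by norm_num))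
  (mul_eq (A := w2_3) (B := (genL 6)) (C := w2_4) w2_3_ok.1.1 (gen_good 6 (by norm_num)).1 (by decide +kernel)
    (of_six _ (by decide +kernel) (by decide +kernel) (by decide +kernel) (by decide +kernel) (by decide +kernel) (by decide +kernel) (by decide +kernel) (by decide +kernel) (by decide +kernel) (by decide +kernel) (by decide +kernel) (by decide +kernel) (by decide +kernel)))

theorem w2_5_ok : Good w2_5 ∧ toM w2_5 = toM w2_4 * toM (genL 7) := step w2_4_ok.1 (gen_good 7 (by norm_num))
  (mul_eq (A := w2_4) (B := (genL 7)) (C := w2_5) w2_4_ok.1.1 (gen_good 7 (by norm_num)).1 (by decide +kernel)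
    (of_six _ (by decide +kernel) (by decide +kernel) (by decide +kernel) (by decide +kernel) (by decide +kernel) (by decide +kernel) (by decide +kernel) (by decide +kernel) (by decide +kernel) (by decide +kernel) (by decide +kernel) (by decide +kernel) (by decide +kernel)))

theorem w2A2_ok : Good w2A2 ∧ toM w2A2 = toM w2_5 * toM w2_5 := step w2_5_ok.1 w2_5_ok.1
  (mul_eq (A := w2_5) (B := w2_5) (C := w2A2) w2_5_ok.1.1 w2_5_ok.1.1 (by decide +kernel)
    (of_six _ (by decide +kernel) (by decide +kernel) (by decide +kernel) (by decide +kernel) (by decide +kernel) (by decide +kernel) (by decide +kernel) (by decide +kernel) (by decide +kernel) (by decide +kernel) (by decide +kernel) (by decide +kernel) (by decide +kernel)))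

theorem w2A4_ok : Good w2A4 ∧ toM w2A4 = toM w2A2 * toM w2A2 := step w2A2_ok.1 w2A2_ok.1
  (mul_eq (A := w2A2) (B := w2A2) (C := w2A4) w2A2_ok.1.1 w2A2_ok.1.1 (by decide +kernel)
    (of_six _ (by decide +kernel) (by decide +kernel) (by decide +kernel) (by decide +kernel) (by decide +kernel) (by decide +kernel) (by decide +kernel) (by decide +kernel) (by decide +kernel) (by decide +kernel) (by decide +kernel) (by decide +kernel) (by decide +kernel)))

theorem w2A8_ok : Good w2A8 ∧ toM w2A8 = toM w2A4 * toM w2A4 := step w2A4_ok.1 w2A4_ok.1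
  (mul_eq (A := w2A4) (B := w2A4) (C := w2A8) w2A4_ok.1.1 w2A4_ok.1.1 (by decide +kernel)
    (of_six _ (by decide +kernel) (by decide +kernel) (by decide +kernel) (by decide +kernel) (by decide +kernel) (by decide +kernel) (by decide +kernel) (by decide +kernel) (by decide +kernel) (by decide +kernel) (by decide +kernel) (by decide +kernel) (by decide +kernel)))

theorem w2end_ok : Good idM ∧ toM idM = toM w2A8 * toM w2_5 := step w2A8_ok.1 w2_5_ok.1
  (mul_eq (A := w2A8) (B := w2_5) (C := idM) w2A8_ok.1.1 w2_5_ok.1.1 (by decide +kernel)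
    (of_six _ (by decide +kernel) (by decide +kernel) (by decide +kernel) (by decide +kernel) (by decide +kernel) (by decide +kernel) (by decide +kernel) (by decide +kernel) (by decide +kernel) (by decide +kernel) (by decide +kernel) (by decide +kernel) (by decide +kernel)))

theorem swap_pow {a b : GL (Fin 78) (ZMod 13)} (ha : a * a = 1) (hb : b * b = 1) {m : ℕ}
    (h : (b * a) ^ m = 1) : (a * b) ^ m = 1 := by
  have e1 : (a * b) * (b * a) = 1 := by rw [mul_assoc, ← mul_assoc b b a, hb, one_mul, ha]
  have hc : Commute (a * b) (b * a) := by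
    show (a * b) * (b * a) = (b * a) * (a * b)
    rw [e1, mul_assoc, ← mul_assoc a a b, ha, one_mul, hb]
  have e2 := hc.mul_pow m
  rw [e1, one_pow, h, mul_one] at e2
  exact e2.symm

attribute [local irreducible] idM unitOf toM

theorem cox_check : ∀ i j, i < 9 → j < 9 →
    (unitOf i * unitOf j) ^ Cfsg.Spor.coxLabel pres.edges (pres.nm i) (pres.nm j) = 1 := by
  have lab : ∀ i < 9, ∀ j < 9, i < j →
      Cfsg.Spor.coxLabel pres.edges (pres.nm i) (pres.nm j) = if adjPair i j then 3 else 2 := by decide +kernel
  have hlt : ∀ i j, i < j → j < 9 →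
      (unitOf i * unitOf j) ^ Cfsg.Spor.coxLabel pres.edges (pres.nm i) (pres.nm j) = 1 := fun i j h hj => by
    have hi : i < 9 := by omega
    rw [lab i hi j hj h]
    by_cases hadj : adjPair i j = true
    · rw [if_pos hadj]
      have hmem := hadj
      simp only [adjPair, List.contains_iff_mem, List.mem_cons, List.not_mem_nil, or_false, Prod.mk.injEq] at hmem
      rcases hmem with ⟨rfl, rfl⟩ | ⟨rfl, rfl⟩ | ⟨rfl, rfl⟩ | ⟨rfl, rfl⟩ | ⟨rfl, rfl⟩ | ⟨rfl, rfl⟩ |
        ⟨rfl, rfl⟩ | ⟨rfl, rfl⟩

      · exact br01
      · exact br12
      · exact br23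
      · exact br34
      · exact br37
      · exact br45
      · exact br56
      · exact br78
    · rw [if_neg hadj]
      have e := congrArg toM (com_all hj h hadj)
      rw [toM_mul (gen_good i hi) (gen_good j hj), toM_mul (gen_good j hj) (gen_good i hi), ← unitOf_val hi,
        ← unitOf_val hj] at e
      have hc : unitOf i * unitOf j = unitOf j * unitOf i := Units.ext (by simpa only [Units.val_mul] using e)
      rw [pow_two]
      nth_rewrite 2 [hc]
      rw [mul_assoc, ← mul_assoc (unitOf j), unitOf_sq, one_mul, unitOf_sq]
  intro i j hi hj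
  rcases lt_trichotomy i j with h | rfl | h
  · exact hlt i j h hj
  · rw [unitOf_sq, one_pow]
  · have := hlt j i h hi
    rw [pres_ok.symm j hj i hi] at this
    exact swap_pow (unitOf_sq i) (unitOf_sq j) this

theorem extra1 : (([3, 2, 1, 3, 4, 5, 3, 7, 8] : List ℕ).map unitOf).prod ^ 10 = (1 : GL (Fin 78) (ZMod 13)) := by
  have hp : ((([3, 2, 1, 3, 4, 5, 3, 7, 8] : List ℕ).map unitOf).prod : GL (Fin 78) (ZMod 13)).val = toM w0_7 := by
    rw [w0_7_ok.2, w0_6_ok.2, w0_5_ok.2, w0_4_ok.2, w0_3_ok.2, w0_2_ok.2, w0_1_ok.2, w0_0_ok.2]
    simp [unitOf_val, mul_assoc]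
  refine Units.ext ?_
  rw [Units.val_pow_eq_pow_val, Units.val_one, hp, ← toM_id, w0end_ok.2, w0A5_ok.2, w0A4_ok.2, w0A2_ok.2]
  simp only [pow_succ, pow_zero, one_mul, mul_assoc]

theorem extra2 : (([0, 1, 2, 3, 4, 5, 7] : List ℕ).map unitOf).prod ^ 9 = (1 : GL (Fin 78) (ZMod 13)) := by
  have hp : ((([0, 1, 2, 3, 4, 5, 7] : List ℕ).map unitOf).prod : GL (Fin 78) (ZMod 13)).val = toM w1_5 := by
    rw [w1_5_ok.2, w1_4_ok.2, w1_3_ok.2, w1_2_ok.2, w1_1_ok.2, w1_0_ok.2]
    simp [unitOf_val, mul_assoc]
  refine Units.ext ?_
  rw [Units.val_pow_eq_pow_val, Units.val_one, hp, ← toM_id, w1end_ok.2, w1A8_ok.2, w1A4_ok.2, w1A2_ok.2]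
  simp only [pow_succ, pow_zero, one_mul, mul_assoc]

theorem extra3 : (([1, 2, 3, 4, 5, 6, 7] : List ℕ).map unitOf).prod ^ 9 = (1 : GL (Fin 78) (ZMod 13)) := by
  have hp : ((([1, 2, 3, 4, 5, 6, 7] : List ℕ).map unitOf).prod : GL (Fin 78) (ZMod 13)).val = toM w2_5 := by
    rw [w2_5_ok.2, w2_4_ok.2, w2_3_ok.2, w2_2_ok.2, w2_1_ok.2, w2_0_ok.2]
    simp [unitOf_val, mul_assoc]
  refine Units.ext ?_
  rw [Units.val_pow_eq_pow_val, Units.val_one, hp, ← toM_id, w2end_ok.2, w2A8_ok.2, w2A4_ok.2, w2A2_ok.2]
  simp only [pow_succ, pow_zero, one_mul, mul_assoc]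

theorem gen_ne : toM (genL 0) ≠ 1 := fun h => by
  have h' : ∀ j < 78, ∀ i < 78, (dig ((genL 0).getD j 0) i : ZMod 13) = if i = j then 1 else 0 :=
    fun j hj i hi => by
      have := congrFun (congrFun h ⟨i, hi⟩) ⟨j, hj⟩
      rw [Matrix.one_apply] at this
      simpa [toM] using this
  have hd : ∀ j < 78, ∀ i < 78, dig ((genL 0).getD j 0) i < 13 := (gen_good 0 (by norm_num)).2
  have : ∀ j < 78, ∀ i < 78, dig ((genL 0).getD j 0) i = if i = j then 1 else 0 := fun j hj i hi => by
    have := congrArg ZMod.val (h' j hj i hi)
    rw [ZMod.val_natCast, Nat.mod_eq_of_lt (hd j hj i hi)] at this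
    rw [this]; split <;> rfl
  exact absurd this (by decide +kernel)

theorem embeds : ∃ f : Cfsg.Spor.Fi22 →* GL (Fin 78) (ZMod 13), Function.Injective f := by
  have hrel : ∀ r ∈ Cfsg.Spor.coxRelators pres.edges ∪ {r | r ∈ pres.extra},
      FreeGroup.lift (unitOf ∘ pres.ix) r = 1 := by
    rintro r (⟨x, -, y, -, rfl⟩ | hr)
    · rw [map_pow, map_mul, FreeGroup.lift_apply_of, FreeGroup.lift_apply_of, Function.comp_apply,
        Function.comp_apply]
      have := cox_check (pres.ix x) (pres.ix y) (pres_ok.ix_lt x) (pres_ok.ix_lt y)
      rwa [pres_ok.nm_ix, pres_ok.nm_ix] at this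
    · have key := pres_ok.extra_eq (GL (Fin 78) (ZMod 13)) unitOf unitOf_sq
      have hmem : FreeGroup.lift (unitOf ∘ pres.ix) r ∈ pres.extra.map (FreeGroup.lift (unitOf ∘ pres.ix)) :=
        List.mem_map.mpr ⟨r, hr, rfl⟩
      rw [key, List.mem_map] at hmem
      obtain ⟨w, hw, e⟩ := hmem
      rw [← e]
      simp only [pres, List.mem_cons, List.not_mem_nil, or_false] at hw
      rcases hw with rfl | rfl | rfl <;> rw [prod_powW]
      · exact extra1
      · exact extra2
      · exact extra3
  let f : pres.Grp →* GL (Fin 78) (ZMod 13) := PresentedGroup.toGroup hrel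
  refine ⟨f, (MonoidHom.ker_eq_bot_iff f).1 ?_⟩
  haveI := simple
  rcases IsSimpleGroup.eq_bot_or_eq_top_of_normal f.ker (MonoidHom.normal_ker f) with h | h
  · exact h
  · exfalso
    refine gen_ne ?_
    have h1 : f (PresentedGroup.of (Cfsg.Spor.Fi22.Gen.a)) = 1 :=
      MonoidHom.mem_ker.1 (h ▸ Subgroup.mem_top _)
    rw [PresentedGroup.toGroup.of] at h1
    rw [← unitOf_val (k := 0) (by norm_num)]
    exact congrArg Units.val h1

end Cfsg.Agent.Spor.Fi22Deg78
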