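import Cfsg.Agent.Lib.Spor.Fi22IdxD5Data

/-!
Coset certificate `IdxD5` of Fi22: checks.
-/

set_option autoImplicit false
set_option maxRecDepth 100000

namespace Cfsg.Agent.Spor.Fi22Cert.IdxD5

open Cfsg.Agent.Spor.CC

/-- checked entries -/
def stL0 : List ℕ := [
0xa8000520002d0000300000017,
0x980004a0002b0000300040016,
0x8800042000250000300080013,
0x600002e0001d00003000c000f,
0x880003c0003b004020010000f,
0x30000160000f0000300140008,
0x48000200003f0040200180008,
0x60000280004100402001c000a,
0x780003400043004020020000d,
0x200000e0000d0000300240007,
0x780000,
0x7c0000,
0x800000,
0x840000,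
0x880000,
0x500040200040000,
0x800004000520040200000001,
0x80000200002000008000540080300280002,
0x10000230000400008c0005600803002c0005,
0x160002000005800080000580080300300009,
0x5000028000580040200340009,
0x3a000210000e8000840005c008030030000b,
0x68000340005c004020010000b,
0x3c000220000f00008800060008030030000e,
0xe000070000620040200180012,
0xa0000500006400402001c0013,
0x940004a000640040200200013,
0xa800054000640040200380013,
0xd0000680006a00402001c0016,
0xdc0006e0006a0040200200016,
0xb80005c0006c0040200180017,
0x32000180000c8000600007000803003c0018,
0x200000000008000000004e0080300400000,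
0x1000008000740040200080002,
0x180000c000760040200440003,
0x2000010000760040200480003,
0x1180008c0007a0040200440005,
0xf80007c0007c00402004c0007,
0x40000200007c0040200080007,
0x100000800008000402004c0009,
0x1a0000a00006800028000800080300500009,
0x1100008800084004020054000e,
0xf0000780008600402000c0010,
0x280001c0000a000070000880080300580012,
0x1d0001180007400046000880080300400012,
0x2e000160000b8000580008a00803005c0015,
0xc0000600008e0040200240018,
0xc800064000900040200140019,
0x3c0001e0007e0040200480008,
0x4c0040200600000,
0x40000100001000004000960080300640001,
0x180000c0009800402000c0003,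
0x2000010000980040200680003,
0x1180008c0009c00402000c0005,
0xf80007c0009e0040200540007,
0x1400008000050000200009e0080300580007,
0x10800084000a200402006c000b,
0x6800034000a2004020060000b,
0x11000088000a600402006c000e,
0x380001e0000e000078000a800803002c0010,
0xa000050000aa0040200340013,
0x940004a000aa0040200100013,
0xa800054000aa0040200700013,
0xd000068000b00040200340016,
0xdc0006e000b00040200100016,
0x30000170000c00005c000b20080300740017,
0xc800064000b600402006c0019,
0x3c0001e000a00040200680008,
0x4a0040200100000,
0x800004000bc0040200340001,
0x60000200001800008000be0080300740002,
0x2800014000c000402006c0004,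
0x100000600004000018000c000803005c0004,
0x10000080000c40040200140009,
0x5000028000c40040200000009,
0x10800084000c8004020014000b,
0x6800034000c8004020004000b,
0x11000088000cc004020014000e,
0xf000078000ce0040200240010,
0x2a0001c0000a800070000d00080300280012,
0x8c00046000d00040200040012,
0x260001000009800040000d4008030028000f,
0x740003a000d4004020000000f,
0x2e0001a0000b800068000d20080300640016,
0xc000060000da00402000c0018,
0xc800064000dc0040200540019,
0x480040200200000,
0x800004000e000402001c0001,
0x1000008000e20040200180002,
0xa000030000280000c000e400803003c0003,
0x2000010000e40040200380003,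
0x3e000230000f80008c000e800803003c0005,
0x160000900005800024000ea0080300740008,
0x200000e00008000038000ec008030064000c,
0x28000120000a000048000ee0080300400011,
0x980004c000ee0040200680011,
0x340001b0000d00006c000f20080300400014,
0xb80005c000f40040200080017,
0xc000060000f60040200440018,
0xc800064000f800402004c0019]

theorem stOK0 : stepsOK dat stL0 26 = true := by decide +kernel

end Cfsg.Agent.Spor.Fi22Cert.IdxD5
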