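import Cfsg.Agent.Lib.Spor.Fi22O7Data
import Cfsg.Agent.Lib.Spor.Fi22Main
import Cfsg.Prelude.Def_Classical

/-!
A maximal subgroup of Fi22 is the simple orthogonal group in dimension seven over the field with
three elements.
-/

set_option autoImplicit false
set_option maxRecDepth 100000

namespace Cfsg.Agent.Spor.Fi22Cert.O7Act

open Cfsg.Agent.Spor.CC Matrix

/-- index set of coordinates -/
abbrev I7 : Type := Unit ⊕ (Fin 3 ⊕ Fin 3)

/-- column vectors -/
abbrev V7 : Type := I7 → ZMod 3

/-- the form -/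
abbrev qf : V7 → ZMod 3 := Cfsg.quadFormOdd 3 (ZMod 3)

/-- the isometry group -/
abbrev G7 : Type := Cfsg.isometryGroup (ZMod 3) qf

/-- a residue with a number -/
def z3 (k : ℕ) : ZMod 3 := (⟨k % 3, Nat.mod_lt _ (by norm_num)⟩ : Fin 3)

/-- number of a vector -/
def code (f : V7) : ℕ :=
  (f (Sum.inl ())).val + 3 * (f (Sum.inr (Sum.inl 0))).val + 9 * (f (Sum.inr (Sum.inl 1))).val +
    27 * (f (Sum.inr (Sum.inl 2))).val + 81 * (f (Sum.inr (Sum.inr 0))).val +
    243 * (f (Sum.inr (Sum.inr 1))).val + 729 * (f (Sum.inr (Sum.inr 2))).val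

/-- vector with a number -/
def vecOf (k : ℕ) : V7 :=
  Sum.elim (fun _ => z3 k)
    (Sum.elim ![z3 (k / 3), z3 (k / 9), z3 (k / 27)] ![z3 (k / 81), z3 (k / 243), z3 (k / 729)])

theorem code_lt (f : V7) : code f < 2187 := by
  have := (f (Sum.inl ())).val_lt; have := (f (Sum.inr (Sum.inl 0))).val_lt
  have := (f (Sum.inr (Sum.inl 1))).val_lt; have := (f (Sum.inr (Sum.inl 2))).val_lt
  have := (f (Sum.inr (Sum.inr 0))).val_lt; have := (f (Sum.inr (Sum.inr 1))).val_lt
  have := (f (Sum.inr (Sum.inr 2))).val_lt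
  unfold code; omega

theorem z3_eq {k : ℕ} {x : ZMod 3} (h : k % 3 = x.val) : z3 k = x := Fin.ext h

theorem vecOf_code (f : V7) : vecOf (code f) = f := by
  have := (f (Sum.inl ())).val_lt; have := (f (Sum.inr (Sum.inl 0))).val_lt
  have := (f (Sum.inr (Sum.inl 1))).val_lt; have := (f (Sum.inr (Sum.inl 2))).val_lt
  have := (f (Sum.inr (Sum.inr 0))).val_lt; have := (f (Sum.inr (Sum.inr 1))).val_lt
  have := (f (Sum.inr (Sum.inr 2))).val_lt
  funext s
  rcases s with u | (j | j)
  · cases u
    show _ = f (Sum.inl ())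
    exact z3_eq (by unfold code; omega)
  · fin_cases j
    · show _ = f (Sum.inr (Sum.inl 0))
      exact z3_eq (by unfold code; omega)
    · show _ = f (Sum.inr (Sum.inl 1))
      exact z3_eq (by unfold code; omega)
    · show _ = f (Sum.inr (Sum.inl 2))
      exact z3_eq (by unfold code; omega)
  · fin_cases j
    · show _ = f (Sum.inr (Sum.inr 0))
      exact z3_eq (by unfold code; omega)
    · show _ = f (Sum.inr (Sum.inr 1))
      exact z3_eq (by unfold code; omega)
    · show _ = f (Sum.inr (Sum.inr 2))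
      exact z3_eq (by unfold code; omega)

/-- the vector of a point -/
def pt (i : ℕ) : ℕ := fld ptTab 16 i
/-- the point of a vector -/
def idx (k : ℕ) : ℕ := fld idxTab 16 k

/-- one vector of the point check -/
def vecOK (k : ℕ) : Bool :=
  Nat.beq (idx (code ((2 : ZMod 3) • vecOf k))) (idx k) &&
    (!decide (qf (vecOf k) = (qval : ZMod 3)) || (Nat.blt (idx k) 351 &&
      (Nat.beq k (pt (idx k)) || Nat.beq k (code ((2 : ZMod 3) • vecOf (pt (idx k)))))))

theorem vec0 : rangeOK vecOK 0 1094 = true := by decide +kernel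
theorem vec1 : rangeOK vecOK 1094 1093 = true := by decide +kernel

theorem vec_ok (f : V7) : vecOK (code f) = true := by
  have h := code_lt f
  by_cases h1 : code f < 1094
  · exact all_range (p := vecOK) vec0 (Nat.zero_le _) (by omega)
  · exact all_range (p := vecOK) vec1 (by omega) (by omega)

/-- one point of the point check -/
def ptOK (i : ℕ) : Bool :=
  Nat.beq (idx (pt i)) i && decide (qf (vecOf (pt i)) = (qval : ZMod 3)) &&
    Nat.beq (code (vecOf (pt i))) (pt i)

theorem pts_ok : rangeOK ptOK 0 351 = true := by decide +kernel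

theorem pt_spec {i : ℕ} (hi : i < 351) :
    idx (code (vecOf (pt i))) = i ∧ qf (vecOf (pt i)) = (qval : ZMod 3) := by
  have h := all_range (p := ptOK) pts_ok (u := i) (Nat.zero_le _) (by omega)
  simp only [ptOK, Bool.and_eq_true, decide_eq_true_eq] at h
  obtain ⟨⟨h1, h2⟩, h3⟩ := h
  exact ⟨by rw [Nat.eq_of_beq_eq_true h3]; exact Nat.eq_of_beq_eq_true h1, h2⟩

theorem idx_smul (c : ZMod 3) (hc : c ≠ 0) (f : V7) : idx (code (c • f)) = idx (code f) := by
  have h := vec_ok f
  simp only [vecOK, Bool.and_eq_true] at h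
  have := Nat.eq_of_beq_eq_true h.1
  rw [vecOf_code] at this
  have hh : c = 1 ∨ c = 2 := by revert hc; revert c; decide
  rcases hh with rfl | rfl
  · rw [one_smul]
  · exact this

theorem exists_pt (f : V7) (hf : qf f = (qval : ZMod 3)) :
    idx (code f) < 351 ∧ ∃ c : ZMod 3, c ≠ 0 ∧ f = c • vecOf (pt (idx (code f))) := by
  have h := vec_ok f
  simp only [vecOK, Bool.and_eq_true, Bool.or_eq_true, Bool.not_eq_true', vecOf_code,
    decide_eq_false_iff_not] at h
  rcases h.2 with h0 | ⟨hlt, h1 | h1⟩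
  · exact absurd hf h0
  · refine ⟨Nat.le_of_ble_eq_true hlt, 1, by decide, ?_⟩
    rw [one_smul, ← Nat.eq_of_beq_eq_true h1, vecOf_code]
  · refine ⟨Nat.le_of_ble_eq_true hlt, 2, by decide, ?_⟩
    have e := congrArg vecOf (Nat.eq_of_beq_eq_true h1)
    rwa [vecOf_code, vecOf_code] at e

/-- matrix of an isometry -/
def toM (A : G7) : Matrix I7 I7 (ZMod 3) := (A.1 : GL I7 (ZMod 3))

theorem toM_q (A : G7) (v : V7) : qf (toM A *ᵥ v) = qf v := A.2 v v

/-- image of a point under a matrix -/
def actN (A : Matrix I7 I7 (ZMod 3)) (i : ℕ) : ℕ := idx (code (A *ᵥ vecOf (pt i)))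

theorem img_ok (A : G7) {i : ℕ} (hi : i < 351) : qf (toM A *ᵥ vecOf (pt i)) = (qval : ZMod 3) :=
  (toM_q A _).trans (pt_spec hi).2

theorem actN_lt (A : G7) {i : ℕ} (hi : i < 351) : actN (toM A) i < 351 :=
  (exists_pt _ (img_ok A hi)).1

theorem toM_one : toM 1 = 1 := rfl

theorem toM_mul (A B : G7) : toM (A * B) = toM A * toM B := rfl

noncomputable instance : MulAction G7 (Fin 351) where
  smul A i := ⟨actN (toM A) i, actN_lt A i.2⟩
  one_smul i := Fin.ext (show actN (toM 1) i = i by
    rw [actN, toM_one, Matrix.one_mulVec]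
    exact (pt_spec i.2).1)
  mul_smul A B i := Fin.ext (by
    show actN (toM (A * B)) i = actN (toM A) (actN (toM B) i)
    obtain ⟨-, c, hc, he⟩ := exists_pt _ (img_ok B i.2)
    unfold actN
    rw [toM_mul, ← Matrix.mulVec_mulVec]
    conv_lhs => rw [he]
    rw [Matrix.mulVec_smul, idx_smul c hc])

/-- the action as a homomorphism -/
noncomputable def operm : G7 →* Equiv.Perm (Fin 351) := MulAction.toPermHom G7 (Fin 351)

theorem operm_val (A : G7) (i : Fin 351) : (operm A i : ℕ) = actN (toM A) i := rfl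

/-- a packed matrix -/
def matOf (k : ℕ) : Matrix I7 I7 (ZMod 3) :=
  let ix : I7 → ℕ := Sum.elim (fun _ => 0) (Sum.elim (fun j => 1 + j.val) (fun j => 4 + j.val))
  Matrix.of fun r c => z3 (k / 3 ^ (7 * ix r + ix c))

/-- one vector of the isometry check -/
def isoOK (x : ℕ) (k : ℕ) : Bool :=
  decide (qf (matOf (matCodes.getD x 0) *ᵥ vecOf k) = qf (vecOf k))

theorem iso0 : rangeOK (isoOK 0) 0 2187 = true := by decide +kernel
theorem iso1 : rangeOK (isoOK 1) 0 2187 = true := by decide +kernel
theorem iso2 : rangeOK (isoOK 2) 0 2187 = true := by decide +kernel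
theorem iso3 : rangeOK (isoOK 3) 0 2187 = true := by decide +kernel
theorem iso4 : rangeOK (isoOK 4) 0 2187 = true := by decide +kernel
theorem iso5 : rangeOK (isoOK 5) 0 2187 = true := by decide +kernel
theorem iso6 : rangeOK (isoOK 6) 0 2187 = true := by decide +kernel
theorem iso7 : rangeOK (isoOK 7) 0 2187 = true := by decide +kernel

theorem mat_sq : ∀ x < 8, matOf (matCodes.getD x 0) * matOf (matCodes.getD x 0) = 1 := by
  decide +kernel

theorem mat_iso (x : ℕ) (hx : x < 8) (v : V7) : qf (matOf (matCodes.getD x 0) *ᵥ v) = qf v := by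
  have key : rangeOK (isoOK x) 0 2187 = true := by
    interval_cases x
    exacts [iso0, iso1, iso2, iso3, iso4, iso5, iso6, iso7]
  have := all_range (p := isoOK x) key (u := code v) (Nat.zero_le _) (by have := code_lt v; omega)
  simpa [isoOK, vecOf_code] using this

/-- the matrix of a generator -/
noncomputable def matG (x : ℕ) (hx : x < 8) : G7 :=
  ⟨⟨matOf (matCodes.getD x 0), matOf (matCodes.getD x 0), mat_sq x hx, mat_sq x hx⟩,
    fun u _ => mat_iso x hx u⟩

/-- one point of the compatibility check -/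
noncomputable def compatO (v : ℕ) : Bool :=
  Nat.blt (fld embTab 16 v) 3510 && Nat.beq (fld embInv 16 (fld embTab 16 v)) v &&
  (List.range 8).all fun x => Nat.beq (RepU62.rows (x + 1) (fld embTab 16 v))
    (fld embTab 16 (orows x v)) &&
    Nat.beq (actN (matOf (matCodes.getD x 0)) v) (orows x v)

theorem compatO_all : rangeOK compatO 0 351 = true := by decide +kernel

theorem compatO_spec {v : ℕ} (hv : v < 351) : compatO v = true :=
  all_range (p := compatO) compatO_all (Nat.zero_le _) (by omega)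

end Cfsg.Agent.Spor.Fi22Cert.O7Act
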