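import Cfsg.Agent.Lib.Spor.Fi22Three
import Cfsg.Agent.Lib.Spor.Fi22OutData
import Cfsg.Agent.Lib.Spor.ChainMem

/-!
Transpositions of Fi22 and the points on which the group acts.
-/

set_option autoImplicit false
set_option maxRecDepth 100000

namespace Cfsg.Agent.Spor.Fi22Cert.Outer

open Cfsg.Agent.Spor.CC
open Cfsg.Agent.Spor.Fi22Cert.U62Act

/-- `d` is the transposition belonging to the point `p` -/
def IsPt (d : pres.Grp) (p : ℕ) : Prop :=
  ∃ g, d = g * tA * g⁻¹ ∧ ((rep.hom g rep.z : Fin rep.P.n) : ℕ) = p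

theorem conj_same {g h : pres.Grp} : g * tA * g⁻¹ = h * tA * h⁻¹ ↔ rep.hom g rep.z = rep.hom h rep.z := by
  have key : h⁻¹ * g ∈ Hsub ↔ rep.hom g rep.z = rep.hom h rep.z := by
    rw [show Hsub = stab rep.hom rep.z from stab_eq.1, mem_stab, map_mul, Equiv.Perm.mul_apply, map_inv,
      Equiv.Perm.inv_eq_iff_eq]
  rw [← key, ← centralizer_eq, Subgroup.mem_centralizer_singleton_iff]
  constructor
  · intro e
    calc h⁻¹ * g * tA = h⁻¹ * (g * tA * g⁻¹) * g := by group
      _ = h⁻¹ * (h * tA * h⁻¹) * g := by rw [e]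
      _ = tA * (h⁻¹ * g) := by group
  · intro e
    calc g * tA * g⁻¹ = h * (h⁻¹ * g * tA) * g⁻¹ := by group
      _ = h * (tA * (h⁻¹ * g)) * g⁻¹ := by rw [e]
      _ = h * tA * h⁻¹ := by group

theorem IsPt.inj {d e : pres.Grp} {p : ℕ} (hd : IsPt d p) (he : IsPt e p) : d = e := by
  obtain ⟨g, rfl, hg⟩ := hd
  obtain ⟨h, rfl, hh⟩ := he
  exact conj_same.mpr (Fin.ext (hg.trans hh.symm))

theorem IsPt.unique {d : pres.Grp} {p q : ℕ} (hd : IsPt d p) (he : IsPt d q) : p = q := by
  obtain ⟨g, rfl, hg⟩ := hd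
  obtain ⟨h, e, hh⟩ := he
  rw [← hg, ← hh, conj_same.mp e]

theorem IsPt.lt {d : pres.Grp} {p : ℕ} (hd : IsPt d p) : p < 3510 := by
  obtain ⟨g, -, hg⟩ := hd
  exact hg ▸ (rep.hom g rep.z).2

theorem exists_pt {d : pres.Grp} (hd : d ∈ conjugatesOf tA) : ∃ p, IsPt d p := by
  obtain ⟨c, rfl⟩ := isConj_iff.mp hd
  exact ⟨_, c, rfl, rfl⟩

theorem IsPt.conj {d : pres.Grp} {p : ℕ} (hd : IsPt d p) (s : pres.Grp) (hp : p < 3510) :
    IsPt (s * d * s⁻¹) (rep.hom s ⟨p, hp⟩ : Fin rep.P.n) := by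
  obtain ⟨g, rfl, hg⟩ := hd
  refine ⟨s * g, by group, ?_⟩
  rw [map_mul, Equiv.Perm.mul_apply, show rep.hom g rep.z = ⟨p, hp⟩ from Fin.ext hg]

theorem IsPt.commute_iff {e : pres.Grp} {q : ℕ} (he : IsPt e q) (d : pres.Grp) :
    d * e = e * d ↔ rep.hom d ⟨q, he.lt⟩ = ⟨q, he.lt⟩ := by
  have h := he.conj d he.lt
  constructor
  · intro hc
    rw [show d * e * d⁻¹ = e by rw [hc, mul_inv_cancel_right]] at h
    exact Fin.ext (h.unique he)
  · intro hf
    rw [hf] at h
    have e1 : d * e * d⁻¹ = e := h.inj he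
    exact mul_inv_eq_iff_eq_mul.mp e1

/-- the word of a conjugate of the transposition -/
def tW (c : List ℕ) : List ℕ := c ++ [0] ++ c.reverse

/-- the transposition of a conjugator -/
noncomputable def transp (c : List ℕ) : pres.Grp := ((tW c).map pres.gen).prod

theorem tW_lt {c : List ℕ} (hc : lettersOK 9 [c] = true) : ∀ x ∈ tW c, x < 9 := by
  intro x hx
  simp only [tW, List.mem_append, List.mem_singleton, List.mem_reverse] at hx
  rcases hx with (h | rfl) | h
  · exact lettersOK_spec hc (List.mem_singleton_self _) h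
  · norm_num
  · exact lettersOK_spec hc (List.mem_singleton_self _) h

theorem isPt_transp {c : List ℕ} (hc : lettersOK 9 [c] = true) {p : ℕ}
    (hp : ev RepU62.rows 9 c 0 = p) : IsPt (transp c) p := by
  refine ⟨(c.map pres.gen).prod, by simp [transp, tW, prod_rev, mul_assoc], ?_⟩
  rw [ev_eq rep.valid pres.gen rep.hom rep.hom_gen (fun x hx => lettersOK_spec hc (by simp) hx)]
  exact hp

/-- words act as one -/
noncomputable def oneOK (W : List (List ℕ)) : Bool :=
  lettersOK 9 W && fixOK RepU62.rows 9 W (RepU62.levels.map Orb.b)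

theorem oneOK_spec {W : List (List ℕ)} (h : oneOK W = true) {w : List ℕ} (hw : w ∈ W) :
    (w.map pres.gen).prod = 1 := by
  haveI := order.1
  obtain ⟨hl, hf⟩ := Bool.and_eq_true_iff.mp h
  have hf' : fixOK RepU62.rows 9 [w] (RepU62.levels.map Orb.b) = true := by
    simpa [fixOK] using List.all_eq_true.mp hf w hw
  exact eq_one_of_fix rep.valid pres.gen rep.hom rep.hom_gen RepU62.chain_ok
    (by rw [order.2.1, RepU62.chain_size]) (fun x hx => lettersOK_spec hl hw hx) hf' 

/-- conjugating words to the generators -/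
def genChk : List (List ℕ) :=
  (List.range 9).map fun x => tW (genC.getD x []) ++ [x]

theorem gen_check : oneOK genChk = true := by decide +kernel

theorem gen_facts : ∀ x < 9, lettersOK 9 [genC.getD x []] = true ∧
    ev RepU62.rows 9 (genC.getD x []) 0 = genP.getD x 0 := by decide +kernel

theorem isPt_gen {x : ℕ} (hx : x < 9) : IsPt (pres.gen x) (genP.getD x 0) := by
  obtain ⟨hl, he⟩ := gen_facts x hx
  have h := isPt_transp hl he
  have e := oneOK_spec gen_check (w := tW (genC.getD x []) ++ [x])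
    (List.mem_map.mpr ⟨x, List.mem_range.mpr hx, rfl⟩)
  rw [List.map_append, List.prod_append] at e
  simp only [List.map_cons, List.map_nil, List.prod_cons, List.prod_nil, mul_one] at e
  rw [show pres.gen x = transp (genC.getD x []) from by
    rw [transp, eq_inv_of_mul_eq_one_left e, inv_eq_of_mul_eq_one_left (Pres.gen_sq pres_ok x)]]
  exact h

theorem gen_mem_class {x : ℕ} (hx : x < 9) : pres.gen x ∈ conjugatesOf tA := by
  obtain ⟨g, e, -⟩ := isPt_gen hx
  exact isConj_iff.mpr ⟨g, e.symm⟩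

end Cfsg.Agent.Spor.Fi22Cert.Outer
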