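import Cfsg.Agent.Lib.Spor.Fi22O7
import Cfsg.Agent.Lib.Spor.Fi22O7OutData
import Cfsg.Agent.Lib.Spor.Fi22OutPoints

/-!
Checks for the automorphisms of a maximal subgroup of Fi22 acting on 351 points.
-/

set_option autoImplicit false
set_option maxRecDepth 100000
set_option Elab.async false

namespace Cfsg.Agent.Spor.Fi22Cert.O7Out

open Cfsg.Agent.Spor.CC
open Cfsg.Agent.Spor.Fi22Cert.O7Act (orows otab embTab)
open Cfsg.Agent.Spor.Fi22Cert.Outer (tW genP)

/-- conjugator to a point -/
def cjW (q : ℕ) : List ℕ := conjs.getD q []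

/-- iterated image under the element of order seven -/
noncomputable def xPw (k q : ℕ) : ℕ :=
  Nat.rec (motive := fun _ => ℕ) q (fun _ r => ev orows 8 xW r) k

/-- one point -/
noncomputable def conjOK (q : ℕ) : Bool :=
  lettersOK 8 [cjW q] && Nat.beq (ev orows 8 (cjW q) 0) q && Nat.beq (ev orows 8 (powW 7 xW) q) q

theorem conj_all : rangeOK conjOK 0 351 = true := by decide +kernel

/-- the only fixed point, and the candidates for an image of the cycle -/
noncomputable def candO (q : ℕ) : Bool :=
  (Nat.beq q 56 || !(Nat.beq (ev orows 8 xW q) q)) &&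
  (Nat.beq q 56 || !(Nat.beq (orows 7 q) q) || cyc.contains q ||
    ((List.range 7).any fun k => Nat.beq q (xPw k stray)) ||
    (List.range 7).any fun k => !(
      Nat.beq (ev orows 8 (tW (cjW q)) (xPw k q)) (xPw k q) ==
      Nat.beq (ev orows 8 (tW (cjW 0)) (cyc.getD k 0)) (cyc.getD k 0)))

theorem cand_all : rangeOK candO 0 351 = true := by decide +kernel

theorem gen_points : ∀ x < 8, gp.getD x 0 < 351 ∧ fld embTab 16 (gp.getD x 0) = genP.getD (x + 1) 0 := by
  decide +kernel

theorem x_facts : lettersOK 8 [xW] = true ∧ cyc.length = 7 ∧ ev orows 8 xW 56 = 56 ∧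
    (∀ k < 7, ev orows 8 xW (cyc.getD k 0) = cyc.getD ((k + 1) % 7) 0) ∧ cyc.getD 0 0 = 0 ∧
    ev orows 8 xW 0 ≠ 0 ∧ orows 7 0 = 0 ∧ gp.getD 0 0 = 0 ∧ gp.getD 7 0 = 56 ∧
    (xchain.take 8).map Orb.b = 56 :: cyc ∧ (∀ q ∈ cyc, q < 351) := by decide +kernel

theorem stray_facts : lettersOK 8 [strayW] = true ∧ stray < 351 ∧ ev orows 8 strayW 56 = 56 ∧
    (∀ k < 4, ev orows 8 strayW (cyc.getD k 0) = xPw k stray) ∧
    ev orows 8 strayW.reverse (xPw 4 stray) ∉ ([53, 70] : List ℕ) ∧ cyc.getD 4 0 ∈ ([53, 70] : List ℕ) ∧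
    (∀ O ∈ xchain.drop 5, ∀ w ∈ O.ws, ∀ v ∈ ([53, 70] : List ℕ),
      ev orows 8 w v ∈ ([53, 70] : List ℕ)) := by decide +kernel

/-- a word acts as the last generator -/
noncomputable def asSeven (w : List ℕ) : Bool :=
  rangeOK (fun v => Nat.beq (ev orows 8 w v) (orows 7 v)) 0 351

theorem last_level : ((xchain.drop 8).all fun O => O.ws.all asSeven) = true := by decide +kernel

theorem xchain_ok : chainOK orows 8 351 xchain [] = true := by decide +kernel

theorem xchain_size : chainSize xchain = 4585351680 := by decide +kernel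

/-- a point with the commutation pattern of generator `i` against earlier ones -/
noncomputable def patO (i p : ℕ) : Bool :=
  (List.range i).all fun y => !(Nat.beq p (gp.getD y 0)) &&
    (Nat.beq (orows y p) p == Nat.beq (orows y (gp.getD i 0)) (gp.getD i 0))

/-- number of candidates for a generator -/
noncomputable def cnt (i : ℕ) : ℕ := ((List.range 351).filter (patO i)).length

theorem count_bound : ((List.range 8).map cnt).prod < 3 * 4585351680 := by decide +kernel

end Cfsg.Agent.Spor.Fi22Cert.O7Out
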