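import Cfsg.Agent.Lib.Spor.Fi22O7ThreesCheck
import Cfsg.Agent.Lib.Spor.PermBig

/-!
The orthogonal group in dimension seven over the field with three elements has seven classes of
subgroups of order three.
-/

set_option autoImplicit false
set_option maxRecDepth 100000

namespace Cfsg.Agent.Spor.Fi22Cert.O7Threes

open Cfsg.Agent.Spor.CC Cfsg.Agent.Spor.Fi22Cert.O7Act Matrix

theorem phi_injective : Function.Injective phi := by
  haveI := card_Ksub.1
  have hlow := chain_le_image otab_valid gK phi phi_gen olevels_ok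
  rw [olevels_size] at hlow
  have hb := (phi.rangeRestrict_surjective).bijective_of_nat_card_le (by rw [card_Ksub.2]; exact hlow)
  exact fun a b e => hb.1 (Subtype.ext e)

/-- a Sylow generator -/
noncomputable def hK (k : ℕ) : Ksub := ((hWords.getD k []).map gK).prod

/-- element of a word -/
noncomputable def mk (t : List ℕ) : Ksub := (t.map hK).prod

theorem hK_val {k : ℕ} (hk : k < 3) (u : Fin 351) :
    (phi (hK k) u : ℕ) = hrow k u ∧ hrow k u < 351 := by
  have h := all_range (p := hOK) h_all (u := (u : ℕ)) (Nat.zero_le _) (by omega)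
  simp only [hOK, List.all_eq_true, Bool.and_eq_true] at h
  obtain ⟨h1, h2⟩ := h k (List.mem_range.mpr hk)
  refine ⟨?_, Nat.le_of_ble_eq_true h1⟩
  exact (ev_eq otab_valid gK phi phi_gen (words_lt k hk) u).trans (Nat.eq_of_beq_eq_true h2)

theorem mk_val (t : List ℕ) (ht : ∀ k ∈ t, k < 3) (u : Fin 351) : (phi (mk t) u : ℕ) = evH t u := by
  induction t with
  | nil => simp [mk, evH]
  | cons k t ih =>
    have e : mk (k :: t) = hK k * mk t := by simp [mk]
    rw [e, map_mul, Equiv.Perm.mul_apply, (hK_val (ht k (List.mem_cons_self ..)) _).1,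
      ih fun x hx => ht x (List.mem_cons_of_mem _ hx)]
    rfl

theorem mk_powW (m : ℕ) (t : List ℕ) : mk (powW m t) = mk t ^ m := prod_powW hK m t

theorem powW_lt {m : ℕ} {t : List ℕ} (ht : ∀ k ∈ t, k < 3) : ∀ k ∈ powW m t, k < 3 := by
  intro k hk
  simp only [powW, List.mem_flatten, List.mem_replicate] at hk
  obtain ⟨l, ⟨-, rfl⟩, hk⟩ := hk
  exact ht k hk

/-- a base point -/
def bpt (i : ℕ) (hi : i < 6) : Fin 351 := ⟨bases.getD i 0, bases_lt i hi⟩

theorem eq_of_bases {s t : Ksub}
    (h : ∀ (i : ℕ) (hi : i < 6), phi s (bpt i hi) = phi t (bpt i hi)) : s = t := by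
  haveI := card_Ksub.1
  have hbase : ∀ O ∈ olevels, ∀ u : Fin 351, (u : ℕ) = O.b → phi (t⁻¹ * s) u = u := by
    intro O hO u hu
    have hm : O.b ∈ bases := bases_levels ▸ List.mem_map.mpr ⟨O, hO, rfl⟩
    obtain ⟨i, hi, he⟩ := List.mem_iff_getElem.mp hm
    have hi6 : i < 6 := lt_of_lt_of_eq hi (by decide)
    have hu' : u = bpt i hi6 :=
      Fin.ext (hu.trans (he.symm.trans (List.getD_eq_getElem _ _ hi).symm))
    rw [hu', map_mul, map_inv, Equiv.Perm.mul_apply, h i hi6, ← Equiv.Perm.mul_apply, inv_mul_cancel,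
      Equiv.Perm.one_apply]
  have hle := chain_fix_le otab_valid gK phi phi_gen olevels [] olevels_ok ⊤
    (fun _ _ _ => trivial) (Subgroup.zpowers (t⁻¹ * s)) le_top (fun q hq O hO u hu => by
      obtain ⟨k, rfl⟩ := Subgroup.mem_zpowers_iff.mp hq
      exact (Equiv.congr_fun (map_zpow phi (t⁻¹ * s) k) u).trans
        (Equiv.Perm.zpow_apply_eq_self_of_apply_eq_self (hbase O hO u hu) k))
  rw [Nat.card_congr Subgroup.topEquiv.toEquiv, olevels_size, card_Ksub.2] at hle
  have hF : Nat.card (Subgroup.zpowers (t⁻¹ * s)) = 1 := by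
    have h0 : 0 < Nat.card (Subgroup.zpowers (t⁻¹ * s)) := Nat.card_pos
    have h1 : Nat.card (Subgroup.zpowers (t⁻¹ * s)) ≤ 1 :=
      Nat.le_of_mul_le_mul_left (by rwa [mul_one]) (by norm_num : 0 < 4585351680)
    omega
  have := Subgroup.eq_bot_iff_forall _ |>.mp (Subgroup.card_eq_one.mp hF) _ (Subgroup.mem_zpowers _)
  exact (inv_mul_eq_one.mp this).symm

/-- a tracked point -/
def cpt (i : ℕ) (hi : i < 22) : Fin 351 := ⟨cols.getD i 0, cols_lt i hi⟩

/-- the element has this row -/
def Row (s : Ksub) (a : ℕ) : Prop := ∀ (i : ℕ) (hi : i < 22), (phi s (cpt i hi) : ℕ) = img i a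

theorem cpt_base (i : ℕ) (hi : i < 6) : cpt i (by omega) = bpt i hi := Fin.ext (cols_bases i hi)

theorem row_ext {s t : Ksub} {a : ℕ} (hs : Row s a) (ht : Row t a) : s = t :=
  eq_of_bases fun i hi => by
    rw [← cpt_base i hi]
    exact Fin.ext ((hs i _).trans (ht i _).symm)

theorem close_spec {a : ℕ} (ha : a < 19683) {k : ℕ} (hk : k < 3) :
    nbr k a < 19683 ∧ ∀ i < 22, img i (nbr k a) = hrow k (img i a) := by
  have h : closeOK a = true := by
    by_cases h1 : a < 4000
    · exact all_range (p := closeOK) close0 (Nat.zero_le _) (by omega)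
    by_cases h2 : a < 8000
    · exact all_range (p := closeOK) close1 (by omega) (by omega)
    by_cases h3 : a < 12000
    · exact all_range (p := closeOK) close2 (by omega) (by omega)
    by_cases h4 : a < 16000
    · exact all_range (p := closeOK) close3 (by omega) (by omega)
    exact all_range (p := closeOK) close4 (by omega) (by omega)
  simp only [closeOK, List.all_eq_true, Bool.and_eq_true, List.mem_range] at h
  obtain ⟨h1, h2⟩ := h k hk
  exact ⟨Nat.le_of_ble_eq_true h1, fun i hi => Nat.eq_of_beq_eq_true (h2 i hi)⟩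

theorem row_step {s : Ksub} {a : ℕ} (ha : a < 19683) (hs : Row s a) {k : ℕ} (hk : k < 3) :
    Row (hK k * s) (nbr k a) := fun i hi => by
  rw [map_mul, Equiv.Perm.mul_apply, (hK_val hk _).1, hs i hi, (close_spec ha hk).2 i hi]

theorem row_one : Row 1 0 := fun i hi => by
  rw [map_one, Equiv.Perm.one_apply, row_zero i hi]
  rfl

/-- the Sylow subgroup -/
noncomputable def Psub : Subgroup Ksub := Subgroup.closure {s | ∃ k, k < 3 ∧ s = hK k}

theorem cover (s : Ksub) (hs : s ∈ Psub) : ∃ a, a < 19683 ∧ Row s a := by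
  haveI := card_Ksub.1
  rw [Psub, ← Subgroup.mem_toSubmonoid, Subgroup.closure_toSubmonoid_of_finite] at hs
  induction hs using Submonoid.closure_induction_left with
  | one => exact ⟨0, by norm_num, row_one⟩
  | mul_left x hx y _ ih =>
    obtain ⟨k, hk, rfl⟩ := hx
    obtain ⟨a, ha, hr⟩ := ih
    exact ⟨nbr k a, (close_spec ha hk).1, row_step ha hr hk⟩

theorem reach : ∀ a, a < 19683 → ∃ s ∈ Psub, Row s a := by
  intro a
  induction a using Nat.strong_induction_on with
  | _ a ih =>
    intro ha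
    by_cases h0 : a = 0
    · subst h0; exact ⟨1, one_mem _, row_one⟩
    have h : treeOK a = true := by
      by_cases h1 : a < 10000
      · exact all_range (p := treeOK) tree0 (Nat.zero_le _) (by omega)
      · exact all_range (p := treeOK) tree1 (by omega) (by omega)
    simp only [treeOK, Bool.and_eq_true, Bool.or_eq_true] at h
    rcases h with h | ⟨⟨h1, h2⟩, h3⟩
    · exact absurd (Nat.eq_of_beq_eq_true h) h0
    have hp := Nat.le_of_ble_eq_true h1
    have hk : treeTab a % 4 < 3 := Nat.le_of_ble_eq_true h2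
    obtain ⟨s, hs, hr⟩ := ih _ hp (by omega)
    refine ⟨hK (treeTab a % 4) * s, mul_mem (Subgroup.subset_closure ⟨_, hk, rfl⟩) hs, ?_⟩
    have := row_step (lt_trans hp ha) hr hk
    rwa [Nat.eq_of_beq_eq_true h3] at this

theorem key_congr {a b : ℕ} (h : ∀ i < 6, img i a = img i b) : key a = key b := by
  unfold key
  apply List.foldr_ext
  intro i hi r
  rw [h i (List.mem_range.mp hi)]

theorem key_inj {a b : ℕ} (ha : a < 19683) (hb : b < 19683) (e : key a = key b) : a = b := by
  let f : ℕ → ℕ := fun i => key (srtTab i)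
  have hs : ∀ i, i < 19682 → f i < f (i + 1) := fun i hi => by
    have h : srtOK i = true := by
      by_cases h1 : i < 10000
      · exact all_range (p := srtOK) srt0 (Nat.zero_le _) (by omega)
      · exact all_range (p := srtOK) srt1 (by omega) (by omega)
    simp only [srtOK, Bool.or_eq_true] at h
    rcases h with h | h
    · have := Nat.eq_of_beq_eq_true h; omega
    · exact Nat.le_of_ble_eq_true h
  have hlt : ∀ i j, i < j → j < 19683 → f i < f j := by
    intro i j hij hj
    induction j with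
    | zero => omega
    | succ j ih =>
      rcases Nat.lt_succ_iff_lt_or_eq.mp hij with h | h
      · exact (ih h (by omega)).trans (hs j (by omega))
      · subst h; exact hs i (by omega)
  have hr : ∀ k, k < 19683 → rankTab k < 19683 ∧ srtTab (rankTab k) = k := fun k hk => by
    have h : rankOK k = true := by
      by_cases h1 : k < 10000
      · exact all_range (p := rankOK) rank0 (Nat.zero_le _) (by omega)
      · exact all_range (p := rankOK) rank1 (by omega) (by omega)
    simp only [rankOK, Bool.and_eq_true] at h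
    exact ⟨Nat.le_of_ble_eq_true h.1, Nat.eq_of_beq_eq_true h.2⟩
  obtain ⟨a1, a2⟩ := hr a ha
  obtain ⟨b1, b2⟩ := hr b hb
  rcases lt_trichotomy (rankTab a) (rankTab b) with h | h | h
  · have := hlt _ _ h b1
    simp only [f, a2, b2, e, lt_irrefl] at this
  · rw [← a2, ← b2, h]
  · have := hlt _ _ h a1
    simp only [f, a2, b2, e, lt_irrefl] at this

theorem card_Psub : Nat.card Psub = 3 ^ 9 := by
  let f : Fin 19683 → Psub := fun a => ⟨(reach a a.2).choose, (reach a a.2).choose_spec.1⟩
  have hf : Function.Bijective f := by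
    refine ⟨fun a b e => ?_, fun ⟨s, hs⟩ => ?_⟩
    · have e' : (reach a a.2).choose = (reach b b.2).choose := congrArg Subtype.val e
      have ra := (reach a a.2).choose_spec.2
      have rb := (reach b b.2).choose_spec.2
      rw [e'] at ra
      exact Fin.ext (key_inj a.2 b.2 (key_congr fun i hi => (ra i (by omega)).symm.trans (rb i (by omega))))
    · obtain ⟨a, ha, hr⟩ := cover s hs
      exact ⟨⟨a, ha⟩, Subtype.ext (row_ext (reach a ha).choose_spec.2 hr)⟩
  rw [← Nat.card_eq_of_bijective f hf, Nat.card_eq_fintype_card, Fintype.card_fin]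
  norm_num

/-- a representative -/
noncomputable def rp (c : ℕ) : Ksub := mk (repWord.getD c [])

/-- what is claimed for an element -/
def Good (s : Ksub) : Prop :=
  s = 1 ∨ s ^ 3 ≠ 1 ∨ ∃ c e : ℕ, c < 7 ∧ (e = 1 ∨ e = 2) ∧ ∃ g : Ksub, g * s * g⁻¹ = rp c ^ e

theorem good_conj {s : Ksub} (h : Good s) (x : Ksub) : Good (x * s * x⁻¹) := by
  rcases h with h | h | ⟨c, e, hc, he, g, hg⟩
  · exact Or.inl (by rw [h]; group)
  · refine Or.inr (Or.inl fun q => h ?_)
    rw [conj_pow] at q
    simpa using q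
  · exact Or.inr (Or.inr ⟨c, e, hc, he, g * x⁻¹, by rw [← hg]; group⟩)

theorem good_root {r : ℕ} (hr : r < 163) {s : Ksub} (hs : Row s (rootTab r)) : Good s := by
  have h := all_range (p := rootOK) roots_ok (u := r) (Nat.zero_le _) (by omega)
  simp only [rootOK, Bool.and_eq_true, List.all_eq_true, List.mem_range] at h
  obtain ⟨⟨⟨hw, hc⟩, hrow⟩, hkind⟩ := h
  have hw' : ∀ k ∈ rootWord.getD r [], k < 3 := fun k hk => Nat.le_of_ble_eq_true (hw k hk)
  have hsval : s = mk (rootWord.getD r []) := eq_of_bases fun i hi => Fin.ext (by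
    rw [mk_val _ hw', ← cpt_base i hi, hs i _, cpt_base i hi]
    exact Nat.eq_of_beq_eq_true (hrow i hi))
  subst hsval
  generalize rootKind.getD r (0, 0, 0, 0) = kd at hkind
  obtain ⟨k, c, e, m⟩ := kd
  rcases k with _ | _ | k
  · left
    simp only [List.all_eq_true, List.mem_range] at hkind
    exact eq_of_bases fun i hi => Fin.ext (by
      rw [mk_val _ hw', map_one, Equiv.Perm.one_apply]
      exact Nat.eq_of_beq_eq_true (hkind i hi))
  · right; right
    simp only [Bool.and_eq_true, Bool.or_eq_true, List.all_eq_true, List.mem_range] at hkind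
    obtain ⟨⟨hc7, he⟩, hall⟩ := hkind
    have hc7' : c < 7 := Nat.le_of_ble_eq_true hc7
    refine ⟨c, e, hc7', he.imp Nat.eq_of_beq_eq_true Nat.eq_of_beq_eq_true,
      ((rootConj.getD r []).map gK).prod, mul_inv_eq_iff_eq_mul.mpr (eq_of_bases fun i hi => Fin.ext ?_)⟩
    have hl : ∀ x ∈ rootConj.getD r [], x < otab.ng := fun x hx => Nat.le_of_ble_eq_true (hc x hx)
    rw [rp, ← mk_powW]
    simp only [map_mul, Equiv.Perm.mul_apply]
    refine (ev_eq otab_valid gK phi phi_gen hl _).trans (Eq.trans ?_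
      (mk_val _ (powW_lt (reps_ok c hc7').1) _).symm)
    refine Eq.trans ?_ (congrArg _ (ev_eq otab_valid gK phi phi_gen hl _).symm)
    refine (congrArg _ (mk_val _ hw' _)).trans ?_
    exact Nat.eq_of_beq_eq_true (hall i hi)
  · right; left
    simp only [Bool.and_eq_true, Bool.not_eq_true'] at hkind
    intro q
    have hm : m < 351 := Nat.le_of_ble_eq_true hkind.1
    have h1 := mk_val (powW 3 (rootWord.getD r [])) (powW_lt hw') ⟨m, hm⟩
    rw [mk_powW, q, map_one, Equiv.Perm.one_apply] at h1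
    have h2 := hkind.2
    rw [← h1] at h2
    simp at h2

theorem forest_spec {a : ℕ} (ha : a < 19683) : forestOK a = true := by
  by_cases h1 : a < 10000
  · exact all_range (p := forestOK) forest0 (Nat.zero_le _) (by omega)
  · exact all_range (p := forestOK) forest1 (by omega) (by omega)

theorem good_row : ∀ (p a : ℕ), posTab a = p → a < 19683 → ∀ s : Ksub, Row s a → Good s := by
  intro p
  induction p using Nat.strong_induction_on with
  | _ p ih =>
    intro a hp ha s hs
    have h := forest_spec ha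
    unfold forestOK at h
    cases hc : Nat.blt (conjTab a % 4) 3 with
    | false =>
      simp only [hc, cond_false, Bool.and_eq_true] at h
      obtain ⟨h1, h2⟩ := h
      have hs' : Row s (rootTab (conjTab a / 4)) := by
        rw [Nat.eq_of_beq_eq_true h2]; exact hs
      exact good_root (Nat.le_of_ble_eq_true h1) hs'
    | true =>
      simp only [hc, cond_true, Bool.and_eq_true, List.all_eq_true, List.mem_range] at h
      obtain ⟨⟨h1, h2⟩, h3⟩ := h
      have hb : conjTab a / 4 < 19683 := Nat.le_of_ble_eq_true h1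
      have hk : conjTab a % 4 < 3 := Nat.le_of_ble_eq_true hc
      obtain ⟨t, -, ht⟩ := reach _ hb
      have hpos : posTab (conjTab a / 4) < p := hp ▸ Nat.le_of_ble_eq_true h2
      have gt := ih _ hpos _ rfl hb t ht
      generalize conjTab a % 4 = k at hk h3
      generalize conjTab a / 4 = b at hb ht h3
      have hst : s * hK k = hK k * t := eq_of_bases fun i hi => Fin.ext (by
        obtain ⟨hc1, hc2⟩ := colImg_ok k hk i hi
        have e1 : phi (hK k) (bpt i hi) = cpt _ hc1 :=
          Fin.ext ((hK_val hk _).1.trans hc2.symm)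
        rw [map_mul, map_mul, Equiv.Perm.mul_apply, Equiv.Perm.mul_apply, e1, hs _ hc1,
          (hK_val hk _).1, ← cpt_base i hi, ht i _]
        exact Nat.eq_of_beq_eq_true (h3 i hi))
      have : s = hK k * t * (hK k)⁻¹ := eq_mul_inv_of_mul_eq hst
      rw [this]
      exact good_conj gt _

theorem classify (s : Ksub) (h3 : s ^ 3 = 1) (hne : s ≠ 1) :
    ∃ c e : ℕ, c < 7 ∧ (e = 1 ∨ e = 2) ∧ ∃ g : Ksub, g * s * g⁻¹ = rp c ^ e := by
  haveI := card_Ksub.1
  haveI : Fact (Nat.Prime 3) := ⟨by norm_num⟩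
  obtain ⟨Q, hQ⟩ := (IsPGroup.of_card card_Psub).exists_le_sylow
  have hQcard : Nat.card (Q : Subgroup Ksub) = 3 ^ 9 := by
    have hdvd := Subgroup.card_subgroup_dvd_card (Q : Subgroup Ksub)
    have hge := Subgroup.card_dvd_of_le hQ
    rw [card_Psub] at hge
    rw [card_Ksub.2] at hdvd
    obtain ⟨m, hm⟩ := IsPGroup.iff_card.mp Q.2
    rw [hm] at hdvd hge ⊢
    have h9 : 9 ≤ m := (Nat.pow_dvd_pow_iff_le_right (by norm_num)).mp hge
    by_contra hne'
    have h10 : 10 ≤ m := by
      rcases Nat.lt_or_ge m 10 with h | h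
      · exact absurd (by rw [show m = 9 by omega]) hne'
      · exact h
    have : 3 ^ 10 ∣ 4585351680 := (pow_dvd_pow 3 h10).trans hdvd
    norm_num at this
  have hPQ : Psub = (Q : Subgroup Ksub) :=
    Subgroup.eq_of_le_of_card_ge hQ (by rw [hQcard, card_Psub])
  have hz : IsPGroup 3 (Subgroup.zpowers s) := IsPGroup.of_card (n := 1) (by
    rw [Nat.card_zpowers, orderOf_eq_prime h3 hne]; norm_num)
  obtain ⟨R, hR⟩ := hz.exists_le_sylow
  obtain ⟨x, hx⟩ := MulAction.exists_smul_eq Ksub Q R
  have hm : s ∈ ((x • Q : Sylow 3 Ksub) : Subgroup Ksub) := by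
    rw [hx]; exact hR (Subgroup.mem_zpowers s)
  rw [Sylow.coe_subgroup_smul, Subgroup.mem_smul_pointwise_iff_exists] at hm
  obtain ⟨y, hy, hys⟩ := hm
  have hys' : x * y * x⁻¹ = s := hys
  rw [← hPQ] at hy
  obtain ⟨a, ha, hr⟩ := cover y hy
  have hg := good_conj (good_row _ a rfl ha y hr) x
  rw [hys'] at hg
  rcases hg with h | h | h
  · exact absurd h hne
  · exact absurd h3 h
  · exact h

theorem count_fin {n : ℕ} (p : Fin n → Prop) (q : ℕ → Bool) (h : ∀ u : Fin n, p u ↔ q u = true) :
    Nat.card {u : Fin n // p u} = ((List.range n).filter q).length := by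
  classical
  rw [Nat.card_eq_fintype_card, Fintype.card_subtype,
    ← List.toFinset_card_of_nodup (List.nodup_range.filter _)]
  refine Finset.card_bij (fun u _ => (u : ℕ)) (fun u hu => ?_) (fun u _ v _ e => Fin.ext e) (fun m hm => ?_)
  · simp only [Finset.mem_filter, Finset.mem_univ, true_and] at hu
    simp [(h u).mp hu]
  · simp only [List.mem_toFinset, List.mem_filter, List.mem_range] at hm
    exact ⟨⟨m, hm.1⟩, by simp [(h ⟨m, hm.1⟩).mpr hm.2], rfl⟩

theorem card_fixed_conj {α : Type*} (σ τ : Equiv.Perm α) :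
    Nat.card {u // (τ * σ * τ⁻¹) u = u} = Nat.card {u // σ u = u} :=
  (Nat.card_congr (τ.subtypeEquiv fun u => by simp)).symm

theorem qf_lin (c d : ZMod 3) (a b : V7) :
    qf (c • a + d • b) - c * c * qf a - d * d * qf b = c * d * (qf (a + b) - qf a - qf b) := by
  simp only [qf, Cfsg.quadFormOdd, Fin.sum_univ_three, Pi.add_apply, Pi.smul_apply, smul_eq_mul]
  ring

theorem qf_smul (c : ZMod 3) (a : V7) : qf (c • a) = c * c * qf a := by
  simp only [qf, Cfsg.quadFormOdd, Fin.sum_univ_three, Pi.smul_apply, smul_eq_mul]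
  ring

theorem orth_iff (u v : ℕ) :
    orth u v = true ↔ qf (vecOf (pt u) + vecOf (pt v)) - qf (vecOf (pt u)) - qf (vecOf (pt v)) = 0 := by
  rw [orth, decide_eq_true_eq, sub_sub, sub_eq_zero]

theorem orth_act (A : G7) (u v : Fin 351) :
    orth (operm A u) (operm A v) = orth u v := by
  rw [Bool.eq_iff_iff, orth_iff, orth_iff]
  obtain ⟨-, c, hc, hu⟩ := exists_pt _ (img_ok A u.2)
  obtain ⟨-, d, hd, hv⟩ := exists_pt _ (img_ok A v.2)
  change toM A *ᵥ vecOf (pt u) = c • vecOf (pt (operm A u : ℕ)) at hu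
  change toM A *ᵥ vecOf (pt v) = d • vecOf (pt (operm A v : ℕ)) at hv
  have hsum : qf (c • vecOf (pt (operm A u : ℕ)) + d • vecOf (pt (operm A v : ℕ))) =
      qf (vecOf (pt u) + vecOf (pt v)) := by
    rw [← hu, ← hv, ← Matrix.mulVec_add, toM_q]
  have e := qf_lin c d (vecOf (pt (operm A u : ℕ))) (vecOf (pt (operm A v : ℕ)))
  rw [hsum, ← qf_smul c, ← qf_smul d, ← hu, ← hv, toM_q, toM_q] at e
  constructor
  · intro h; rw [e, h, mul_zero]
  · intro h
    rw [h] at e
    exact (mul_eq_zero.mp e.symm).resolve_left (mul_ne_zero hc hd)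

/-- the invariants -/
noncomputable def inv3 (s : Ksub) : ℕ × ℕ × ℕ :=
  (Nat.card {u : Fin 351 // phi s u = u},
   Nat.card {u : Fin rep.P.n // rep.hom (s : pres.Grp) u = u},
   Nat.card {u : Fin 351 // orth u (phi s u) = true})

theorem inv3_conj (g s : Ksub) : inv3 (g * s * g⁻¹) = inv3 s := by
  obtain ⟨A, hA⟩ := phi_range_le ⟨g, rfl⟩
  refine Prod.ext ?_ (Prod.ext ?_ ?_)
  · simp only [inv3, map_mul, map_inv]
    exact card_fixed_conj _ _
  · simp only [inv3, Subgroup.coe_mul, InvMemClass.coe_inv, map_mul, map_inv]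
    exact card_fixed_conj _ _
  · simp only [inv3, map_mul, map_inv]
    refine (Nat.card_congr ((phi g).subtypeEquiv fun u => ?_)).symm
    rw [Equiv.Perm.mul_apply, Equiv.Perm.mul_apply, show (phi g)⁻¹ (phi g u) = u from (phi g).symm_apply_apply u, ← hA, orth_act]

theorem brow_val {k : ℕ} (hk : k < 3) (u : Fin rep.P.n) :
    (rep.hom (hK k : pres.Grp) u : ℕ) = brow k u := by
  have hu : (u : ℕ) < 3510 := u.2
  have h : bOK u = true := by
    by_cases h1 : (u : ℕ) < 1200
    · exact all_range (p := bOK) b0 (Nat.zero_le _) (by omega)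
    by_cases h2 : (u : ℕ) < 2400
    · exact all_range (p := bOK) b1 (by omega) (by omega)
    exact all_range (p := bOK) b2 (by omega) (by omega)
  simp only [bOK, List.all_eq_true, Bool.and_eq_true, List.mem_range] at h
  have e : (hK k : pres.Grp) = (((hWords.getD k []).map (· + 1)).map pres.gen).prod := by
    rw [hK, Subgroup.val_list_prod, List.map_map, List.map_map]
    refine congrArg List.prod (List.map_congr_left fun x hx => ?_)
    show ((gK x : Ksub) : pres.Grp) = pres.gen (x + 1)
    rw [gK, dif_pos (words_lt k hk x hx)]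
  have hl : ∀ x ∈ (hWords.getD k []).map (· + 1), x < rep.P.ng := by
    intro x hx
    obtain ⟨y, hy, rfl⟩ := List.mem_map.mp hx
    have := words_lt k hk y hy
    show y + 1 < 9
    omega
  rw [e, ev_eq rep.valid pres.gen rep.hom rep.hom_gen hl]
  exact Nat.eq_of_beq_eq_true (h k hk).2

theorem mk_bval (t : List ℕ) (ht : ∀ k ∈ t, k < 3) (u : Fin rep.P.n) :
    (rep.hom (mk t : pres.Grp) u : ℕ) = evB t u := by
  induction t with
  | nil => simp [mk, evB]
  | cons k t ih =>
    have e : mk (k :: t) = hK k * mk t := by simp [mk]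
    rw [e, Subgroup.coe_mul, map_mul, Equiv.Perm.mul_apply, brow_val (ht k (List.mem_cons_self ..)),
      ih fun x hx => ht x (List.mem_cons_of_mem _ hx)]
    rfl

theorem inv3_word (t : List ℕ) (ht : ∀ k ∈ t, k < 3) : inv3 (mk t) = invs t := by
  refine Prod.ext ?_ (Prod.ext ?_ ?_)
  · exact count_fin _ (fun u => Nat.beq (evH t u) u) fun u => by
      rw [Fin.ext_iff, mk_val t ht, Nat.beq_eq]
  · exact count_fin (n := 3510) _ (fun u => Nat.beq (evB t u) u) fun u =>
      ⟨fun h => by
        have e := mk_bval t ht u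
        rw [h] at e
        rw [← e]
        exact Nat.beq_refl _,
       fun h => Fin.ext ((mk_bval t ht u).trans (Nat.eq_of_beq_eq_true h))⟩
  · exact count_fin _ (fun u => orth u (evH t u)) fun u => by rw [mk_val t ht]

theorem orderOf_rp {c : ℕ} (hc : c < 7) : orderOf (rp c) = 3 := by
  obtain ⟨hl, h1, h2⟩ := reps_ok c hc
  simp only [List.all_eq_true, List.mem_range] at h1
  refine orderOf_eq_prime ?_ ?_
  · rw [rp, ← mk_powW]
    exact eq_of_bases fun i hi => Fin.ext (by
      rw [mk_val _ (powW_lt hl), map_one, Equiv.Perm.one_apply]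
      exact Nat.eq_of_beq_eq_true (h1 i hi))
  · intro e
    obtain ⟨u, hu, hne⟩ := List.any_eq_true.mp h2
    have h := mk_val _ hl ⟨u, List.mem_range.mp hu⟩
    rw [← rp, e, map_one, Equiv.Perm.one_apply] at h
    rw [← h] at hne
    simp at hne

theorem vals_inj : ∀ i < 7, ∀ j < 7, invVals.getD i (0, 0, 0) = invVals.getD j (0, 0, 0) → i = j := by
  decide +kernel

theorem ksub_classes : ∃ Y : Fin 7 → Subgroup Ksub, (∀ i, Nat.card (Y i) = 3) ∧
    (∀ i j, (∃ g : Ksub, (Y i).map (MulAut.conj g).toMonoidHom = Y j) → i = j) ∧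
    ∀ X : Subgroup Ksub, Nat.card X = 3 → ∃ i, ∃ g : Ksub, X.map (MulAut.conj g).toMonoidHom = Y i := by
  haveI := card_Ksub.1
  refine ⟨fun i => Subgroup.zpowers (rp i), fun i => by rw [Nat.card_zpowers, orderOf_rp i.2], ?_, ?_⟩
  · rintro i j ⟨g, hg⟩
    simp only at hg
    have hm : g * rp i * g⁻¹ ∈ Subgroup.zpowers (rp j) := by
      rw [← hg]; exact ⟨rp i, Subgroup.mem_zpowers _, rfl⟩
    obtain ⟨k, hk⟩ := (Submonoid.mem_powers_iff _ _).mp
      ((isOfFinOrder_of_finite (rp j)).mem_powers_iff_mem_zpowers.mpr hm)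
    have h3 : rp j ^ 3 = 1 := by rw [← orderOf_rp j.2]; exact pow_orderOf_eq_one _
    have hne : g * rp i * g⁻¹ ≠ 1 := fun e => by
      have h := orderOf_rp i.2
      rw [show rp i = 1 by simpa using e, orderOf_one] at h
      omega
    have hinv : inv3 (g * rp i * g⁻¹) = invVals.getD j (0, 0, 0) := by
      have hkr : rp j ^ (k % 3) = g * rp i * g⁻¹ := by
        rw [← orderOf_rp j.2, pow_mod_orderOf]; exact hk
      have hlt : k % 3 < 3 := Nat.mod_lt _ (by norm_num)
      generalize k % 3 = r at hkr hlt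
      rw [← hkr]
      interval_cases r
      · exact absurd (by rw [← hkr, pow_zero]) hne
      · rw [pow_one, rp, inv3_word _ (reps_ok j j.2).1]; exact (invs_ok j j.2).1
      · rw [rp, ← mk_powW, inv3_word _ (powW_lt (reps_ok j j.2).1)]; exact (invs_ok j j.2).2
    rw [inv3_conj, rp, inv3_word _ (reps_ok i i.2).1, (invs_ok i i.2).1] at hinv
    exact Fin.ext (vals_inj i i.2 j j.2 hinv)
  · intro X hX
    haveI : Fact (Nat.Prime 3) := ⟨by norm_num⟩
    haveI : Nontrivial X := Finite.one_lt_card_iff_nontrivial.mp (by omega)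
    obtain ⟨⟨s, hs⟩, hs1⟩ := exists_ne (1 : X)
    have hne : s ≠ 1 := fun e => hs1 (Subtype.ext e)
    have h3 : s ^ 3 = 1 := by
      have h := pow_card_eq_one' (x := (⟨s, hs⟩ : X))
      rw [hX] at h
      exact congrArg Subtype.val h
    obtain ⟨c, e, hc, he, g, hg⟩ := classify s h3 hne
    refine ⟨⟨c, hc⟩, g, Subgroup.eq_of_le_of_card_ge ?_ ?_⟩
    · have hXs : Subgroup.zpowers s = X := Subgroup.eq_of_le_of_card_ge
        ((Subgroup.zpowers_le).mpr hs) (by rw [hX, Nat.card_zpowers, orderOf_eq_prime h3 hne])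
      rw [← hXs, MonoidHom.map_zpowers, Subgroup.zpowers_le]
      show g * s * g⁻¹ ∈ _
      rw [hg]
      exact pow_mem (Subgroup.mem_zpowers _) e
    · rw [Nat.card_zpowers, orderOf_rp hc,
        Nat.card_congr (Subgroup.equivMapOfInjective _ _ (MulAut.conj g).injective).toEquiv.symm, hX]

theorem classes_congr {H H' : Type*} [Group H] [Group H'] (e : H ≃* H') {n m : ℕ}
    (h : ∃ Y : Fin n → Subgroup H, (∀ i, Nat.card (Y i) = m) ∧
      (∀ i j, (∃ g : H, (Y i).map (MulAut.conj g).toMonoidHom = Y j) → i = j) ∧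
      ∀ X : Subgroup H, Nat.card X = m → ∃ i, ∃ g : H, X.map (MulAut.conj g).toMonoidHom = Y i) :
    ∃ Y : Fin n → Subgroup H', (∀ i, Nat.card (Y i) = m) ∧
      (∀ i j, (∃ g : H', (Y i).map (MulAut.conj g).toMonoidHom = Y j) → i = j) ∧
      ∀ X : Subgroup H', Nat.card X = m → ∃ i, ∃ g : H', X.map (MulAut.conj g).toMonoidHom = Y i := by
  obtain ⟨Y, h1, h2, h3⟩ := h
  have hcard : ∀ X : Subgroup H, Nat.card (X.map e.toMonoidHom) = Nat.card X := fun X =>
    Nat.card_congr (Subgroup.equivMapOfInjective X e.toMonoidHom e.injective).toEquiv.symm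
  have hconj : ∀ (X : Subgroup H) (g : H),
      (X.map e.toMonoidHom).map (MulAut.conj (e g)).toMonoidHom =
        (X.map (MulAut.conj g).toMonoidHom).map e.toMonoidHom := fun X g => by
    rw [Subgroup.map_map, Subgroup.map_map]
    congr 1
    ext x
    simp
  refine ⟨fun i => (Y i).map e.toMonoidHom, fun i => (hcard _).trans (h1 i), ?_, ?_⟩
  · rintro i j ⟨g, hg⟩
    obtain ⟨g, rfl⟩ := e.surjective g
    rw [hconj] at hg
    exact h2 i j ⟨g, Subgroup.map_injective e.injective hg⟩
  · intro X hX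
    have hXe : (X.comap e.toMonoidHom).map e.toMonoidHom = X :=
      Subgroup.map_comap_eq_self_of_surjective e.surjective X
    obtain ⟨i, g, hg⟩ := h3 (X.comap e.toMonoidHom) (by rw [← hcard, hXe]; exact hX)
    refine ⟨i, e g, ?_⟩
    have := hconj (X.comap e.toMonoidHom) g
    rw [hXe, hg] at this
    exact this

end Cfsg.Agent.Spor.Fi22Cert.O7Threes
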