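import Cfsg.Agent.Lib.Spor.Fi22O7ThreesData
import Cfsg.Agent.Lib.Spor.Fi22O7

/-!
Checks for the elements of order three in a Sylow three subgroup of the orthogonal group in
dimension seven over the field with three elements.
-/

set_option autoImplicit false
set_option maxRecDepth 100000
set_option Elab.async false

namespace Cfsg.Agent.Spor.Fi22Cert.O7Threes

open Cfsg.Agent.Spor.CC Cfsg.Agent.Spor.Fi22Cert.O7Act

/-- two adjacent ranges -/
theorem range_join (f : ℕ → Bool) (st a b n c : ℕ) (hn : a + b = n) (hc : st + a = c)
    (h1 : rangeOK f st a = true) (h2 : rangeOK f c b = true) : rangeOK f st n = true := by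
  subst hn hc
  unfold rangeOK at h1 h2 ⊢
  simp only [List.all_eq_true, List.mem_range, Nat.add_eq] at h1 h2 ⊢
  intro j hj
  rcases Nat.lt_or_ge j a with h | h
  · exact h1 j h
  · have := h2 (j - a) (by omega)
    rwa [show st + a + (j - a) = st + j by omega] at this

/-- a word in the three generators, on the 351 points -/
noncomputable def evH (t : List ℕ) (u : ℕ) : ℕ := t.foldr hrow u

/-- a word in the three generators, on cosets -/
noncomputable def evB (t : List ℕ) (u : ℕ) : ℕ := t.foldr brow u

/-- the code of a row -/
noncomputable def key (a : ℕ) : ℕ :=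
  (List.range 6).foldr (fun i r => img i a + 512 * r) 0

/-- one point of the check of the generators -/
noncomputable def hOK (u : ℕ) : Bool := (List.range 3).all fun k =>
  Nat.blt (hrow k u) 351 && Nat.beq (ev orows 8 (hWords.getD k []) u) (hrow k u)

theorem h_all : rangeOK hOK 0 351 = true := by decide +kernel

/-- one coset of the check of the generators -/
noncomputable def bOK (u : ℕ) : Bool := (List.range 3).all fun k =>
  Nat.blt (brow k u) 3510 &&
    Nat.beq (ev RepU62.rows 9 ((hWords.getD k []).map (· + 1)) u) (brow k u)

theorem b0 : rangeOK bOK 0 1200 = true := by decide +kernel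
theorem b1 : rangeOK bOK 1200 1200 = true := by decide +kernel
theorem b2 : rangeOK bOK 2400 1110 = true := by decide +kernel

theorem words_lt : ∀ k < 3, ∀ x ∈ hWords.getD k [], x < 8 := by decide +kernel

theorem bases_levels : olevels.map Orb.b = bases := by decide +kernel

theorem cols_bases : ∀ i < 6, cols.getD i 0 = bases.getD i 0 := by decide +kernel

theorem bases_lt : ∀ i < 6, bases.getD i 0 < 351 := by decide +kernel

theorem cols_lt : ∀ i < 22, cols.getD i 0 < 351 := by decide +kernel

theorem colImg_ok : ∀ k < 3, ∀ i < 6, (colImg.getD k []).getD i 0 < 22 ∧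
    cols.getD ((colImg.getD k []).getD i 0) 0 = hrow k (bases.getD i 0) := by decide +kernel

theorem row_zero : ∀ i < 22, img i 0 = cols.getD i 0 := by decide +kernel

/-- one element of the closure check -/
noncomputable def closeOK (a : ℕ) : Bool :=
  (List.range 3).all fun k => Nat.blt (nbr k a) 19683 &&
    (List.range 22).all fun i => Nat.beq (img i (nbr k a)) (hrow k (img i a))

theorem close0_0 : rangeOK closeOK 0 1000 = true := by decide +kernel
theorem close0_1 : rangeOK closeOK 1000 1000 = true := by decide +kernel
theorem close0_2 : rangeOK closeOK 2000 1000 = true := by decide +kernel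
theorem close0_3 : rangeOK closeOK 3000 1000 = true := by decide +kernel
theorem close0 : rangeOK closeOK 0 4000 = true :=
  (range_join closeOK 0 3000 1000 4000 3000 (by decide) (by decide) (range_join closeOK 0 2000 1000 3000 2000 (by decide) (by decide) (range_join closeOK 0 1000 1000 2000 1000 (by decide) (by decide) close0_0 close0_1) close0_2) close0_3)
theorem close1_0 : rangeOK closeOK 4000 1000 = true := by decide +kernel
theorem close1_1 : rangeOK closeOK 5000 1000 = true := by decide +kernel
theorem close1_2 : rangeOK closeOK 6000 1000 = true := by decide +kernel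
theorem close1_3 : rangeOK closeOK 7000 1000 = true := by decide +kernel
theorem close1 : rangeOK closeOK 4000 4000 = true :=
  (range_join closeOK 4000 3000 1000 4000 7000 (by decide) (by decide) (range_join closeOK 4000 2000 1000 3000 6000 (by decide) (by decide) (range_join closeOK 4000 1000 1000 2000 5000 (by decide) (by decide) close1_0 close1_1) close1_2) close1_3)
theorem close2_0 : rangeOK closeOK 8000 1000 = true := by decide +kernel
theorem close2_1 : rangeOK closeOK 9000 1000 = true := by decide +kernel
theorem close2_2 : rangeOK closeOK 10000 1000 = true := by decide +kernel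
theorem close2_3 : rangeOK closeOK 11000 1000 = true := by decide +kernel
theorem close2 : rangeOK closeOK 8000 4000 = true :=
  (range_join closeOK 8000 3000 1000 4000 11000 (by decide) (by decide) (range_join closeOK 8000 2000 1000 3000 10000 (by decide) (by decide) (range_join closeOK 8000 1000 1000 2000 9000 (by decide) (by decide) close2_0 close2_1) close2_2) close2_3)
theorem close3_0 : rangeOK closeOK 12000 1000 = true := by decide +kernel
theorem close3_1 : rangeOK closeOK 13000 1000 = true := by decide +kernel
theorem close3_2 : rangeOK closeOK 14000 1000 = true := by decide +kernel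
theorem close3_3 : rangeOK closeOK 15000 1000 = true := by decide +kernel
theorem close3 : rangeOK closeOK 12000 4000 = true :=
  (range_join closeOK 12000 3000 1000 4000 15000 (by decide) (by decide) (range_join closeOK 12000 2000 1000 3000 14000 (by decide) (by decide) (range_join closeOK 12000 1000 1000 2000 13000 (by decide) (by decide) close3_0 close3_1) close3_2) close3_3)
theorem close4_0 : rangeOK closeOK 16000 1000 = true := by decide +kernel
theorem close4_1 : rangeOK closeOK 17000 1000 = true := by decide +kernel
theorem close4_2 : rangeOK closeOK 18000 1000 = true := by decide +kernel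
theorem close4_3 : rangeOK closeOK 19000 683 = true := by decide +kernel
theorem close4 : rangeOK closeOK 16000 3683 = true :=
  (range_join closeOK 16000 3000 683 3683 19000 (by decide) (by decide) (range_join closeOK 16000 2000 1000 3000 18000 (by decide) (by decide) (range_join closeOK 16000 1000 1000 2000 17000 (by decide) (by decide) close4_0 close4_1) close4_2) close4_3)

/-- one element of the tree check -/
noncomputable def treeOK (a : ℕ) : Bool :=
  Nat.beq a 0 || (Nat.blt (treeTab a / 4) a && Nat.blt (treeTab a % 4) 3 &&
    Nat.beq (nbr (treeTab a % 4) (treeTab a / 4)) a)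

theorem tree0_0 : rangeOK treeOK 0 2500 = true := by decide +kernel
theorem tree0_1 : rangeOK treeOK 2500 2500 = true := by decide +kernel
theorem tree0_2 : rangeOK treeOK 5000 2500 = true := by decide +kernel
theorem tree0_3 : rangeOK treeOK 7500 2500 = true := by decide +kernel
theorem tree0 : rangeOK treeOK 0 10000 = true :=
  (range_join treeOK 0 7500 2500 10000 7500 (by decide) (by decide) (range_join treeOK 0 5000 2500 7500 5000 (by decide) (by decide) (range_join treeOK 0 2500 2500 5000 2500 (by decide) (by decide) tree0_0 tree0_1) tree0_2) tree0_3)
theorem tree1_0 : rangeOK treeOK 10000 2500 = true := by decide +kernel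
theorem tree1_1 : rangeOK treeOK 12500 2500 = true := by decide +kernel
theorem tree1_2 : rangeOK treeOK 15000 2500 = true := by decide +kernel
theorem tree1_3 : rangeOK treeOK 17500 2183 = true := by decide +kernel
theorem tree1 : rangeOK treeOK 10000 9683 = true :=
  (range_join treeOK 10000 7500 2183 9683 17500 (by decide) (by decide) (range_join treeOK 10000 5000 2500 7500 15000 (by decide) (by decide) (range_join treeOK 10000 2500 2500 5000 12500 (by decide) (by decide) tree1_0 tree1_1) tree1_2) tree1_3)

/-- one element of the rank check -/
noncomputable def rankOK (a : ℕ) : Bool :=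
  Nat.blt (rankTab a) 19683 && Nat.beq (srtTab (rankTab a)) a

theorem rank0_0 : rangeOK rankOK 0 2500 = true := by decide +kernel
theorem rank0_1 : rangeOK rankOK 2500 2500 = true := by decide +kernel
theorem rank0_2 : rangeOK rankOK 5000 2500 = true := by decide +kernel
theorem rank0_3 : rangeOK rankOK 7500 2500 = true := by decide +kernel
theorem rank0 : rangeOK rankOK 0 10000 = true :=
  (range_join rankOK 0 7500 2500 10000 7500 (by decide) (by decide) (range_join rankOK 0 5000 2500 7500 5000 (by decide) (by decide) (range_join rankOK 0 2500 2500 5000 2500 (by decide) (by decide) rank0_0 rank0_1) rank0_2) rank0_3)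
theorem rank1_0 : rangeOK rankOK 10000 2500 = true := by decide +kernel
theorem rank1_1 : rangeOK rankOK 12500 2500 = true := by decide +kernel
theorem rank1_2 : rangeOK rankOK 15000 2500 = true := by decide +kernel
theorem rank1_3 : rangeOK rankOK 17500 2183 = true := by decide +kernel
theorem rank1 : rangeOK rankOK 10000 9683 = true :=
  (range_join rankOK 10000 7500 2183 9683 17500 (by decide) (by decide) (range_join rankOK 10000 5000 2500 7500 15000 (by decide) (by decide) (range_join rankOK 10000 2500 2500 5000 12500 (by decide) (by decide) rank1_0 rank1_1) rank1_2) rank1_3)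

/-- one place of the order check -/
noncomputable def srtOK (i : ℕ) : Bool :=
  Nat.beq i 19682 || Nat.blt (key (srtTab i)) (key (srtTab (i + 1)))

theorem srt0_0 : rangeOK srtOK 0 2500 = true := by decide +kernel
theorem srt0_1 : rangeOK srtOK 2500 2500 = true := by decide +kernel
theorem srt0_2 : rangeOK srtOK 5000 2500 = true := by decide +kernel
theorem srt0_3 : rangeOK srtOK 7500 2500 = true := by decide +kernel
theorem srt0 : rangeOK srtOK 0 10000 = true :=
  (range_join srtOK 0 7500 2500 10000 7500 (by decide) (by decide) (range_join srtOK 0 5000 2500 7500 5000 (by decide) (by decide) (range_join srtOK 0 2500 2500 5000 2500 (by decide) (by decide) srt0_0 srt0_1) srt0_2) srt0_3)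
theorem srt1_0 : rangeOK srtOK 10000 2500 = true := by decide +kernel
theorem srt1_1 : rangeOK srtOK 12500 2500 = true := by decide +kernel
theorem srt1_2 : rangeOK srtOK 15000 2500 = true := by decide +kernel
theorem srt1_3 : rangeOK srtOK 17500 2183 = true := by decide +kernel
theorem srt1 : rangeOK srtOK 10000 9683 = true :=
  (range_join srtOK 10000 7500 2183 9683 17500 (by decide) (by decide) (range_join srtOK 10000 5000 2500 7500 15000 (by decide) (by decide) (range_join srtOK 10000 2500 2500 5000 12500 (by decide) (by decide) srt1_0 srt1_1) srt1_2) srt1_3)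

/-- one element of the forest check -/
noncomputable def forestOK (a : ℕ) : Bool :=
  bif Nat.blt (conjTab a % 4) 3 then
    Nat.blt (conjTab a / 4) 19683 &&
      Nat.blt (posTab (conjTab a / 4)) (posTab a) &&
      (List.range 6).all fun i =>
        Nat.beq (img ((colImg.getD (conjTab a % 4) []).getD i 0) a)
          (hrow (conjTab a % 4) (img i (conjTab a / 4)))
  else Nat.blt (conjTab a / 4) 163 && Nat.beq (rootTab (conjTab a / 4)) a

theorem forest0_0 : rangeOK forestOK 0 2500 = true := by decide +kernel
theorem forest0_1 : rangeOK forestOK 2500 2500 = true := by decide +kernel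
theorem forest0_2 : rangeOK forestOK 5000 2500 = true := by decide +kernel
theorem forest0_3 : rangeOK forestOK 7500 2500 = true := by decide +kernel
theorem forest0 : rangeOK forestOK 0 10000 = true :=
  (range_join forestOK 0 7500 2500 10000 7500 (by decide) (by decide) (range_join forestOK 0 5000 2500 7500 5000 (by decide) (by decide) (range_join forestOK 0 2500 2500 5000 2500 (by decide) (by decide) forest0_0 forest0_1) forest0_2) forest0_3)
theorem forest1_0 : rangeOK forestOK 10000 2500 = true := by decide +kernel
theorem forest1_1 : rangeOK forestOK 12500 2500 = true := by decide +kernel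
theorem forest1_2 : rangeOK forestOK 15000 2500 = true := by decide +kernel
theorem forest1_3 : rangeOK forestOK 17500 2183 = true := by decide +kernel
theorem forest1 : rangeOK forestOK 10000 9683 = true :=
  (range_join forestOK 10000 7500 2183 9683 17500 (by decide) (by decide) (range_join forestOK 10000 5000 2500 7500 15000 (by decide) (by decide) (range_join forestOK 10000 2500 2500 5000 12500 (by decide) (by decide) forest1_0 forest1_1) forest1_2) forest1_3)

/-- one root -/
noncomputable def rootOK (r : ℕ) : Bool :=
  (rootWord.getD r []).all (fun k => Nat.blt k 3) &&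
  (rootConj.getD r []).all (fun x => Nat.blt x 8) &&
  ((List.range 6).all fun i =>
    Nat.beq (img i (rootTab r)) (evH (rootWord.getD r []) (bases.getD i 0))) &&
  match rootKind.getD r (0, 0, 0, 0) with
  | (0, _, _, _) => (List.range 6).all fun i =>
      Nat.beq (evH (rootWord.getD r []) (bases.getD i 0)) (bases.getD i 0)
  | (1, c, e, _) => Nat.blt c 7 && (Nat.beq e 1 || Nat.beq e 2) &&
      (List.range 6).all fun i =>
        Nat.beq (ev orows 8 (rootConj.getD r []) (evH (rootWord.getD r []) (bases.getD i 0)))
          (evH (powW e (repWord.getD c [])) (ev orows 8 (rootConj.getD r []) (bases.getD i 0)))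
  | (_, _, _, m) => Nat.blt m 351 &&
      !Nat.beq (evH (powW 3 (rootWord.getD r [])) m) m

theorem roots_ok : rangeOK rootOK 0 163 = true := by decide +kernel

theorem reps_ok : ∀ c < 7, (∀ k ∈ repWord.getD c [], k < 3) ∧
    (List.range 6).all (fun i => Nat.beq (evH (powW 3 (repWord.getD c [])) (bases.getD i 0))
      (bases.getD i 0)) = true ∧
    (List.range 351).any (fun u => !Nat.beq (evH (repWord.getD c []) u) u) = true := by decide +kernel

/-- fixed points on the 351 points -/
noncomputable def invA (t : List ℕ) : ℕ :=
  ((List.range 351).filter fun u => Nat.beq (evH t u) u).length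

/-- fixed cosets -/
noncomputable def invB (t : List ℕ) : ℕ :=
  ((List.range 3510).filter fun u => Nat.beq (evB t u) u).length

/-- orthogonality of two points -/
def orth (u v : ℕ) : Bool :=
  decide (qf (vecOf (pt u) + vecOf (pt v)) = qf (vecOf (pt u)) + qf (vecOf (pt v)))

/-- points sent to orthogonal points -/
noncomputable def invC (t : List ℕ) : ℕ :=
  ((List.range 351).filter fun u => orth u (evH t u)).length

/-- the invariants of a word -/
noncomputable def invs (t : List ℕ) : ℕ × ℕ × ℕ := (invA t, invB t, invC t)

/-- the values of the invariants -/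
def invVals : List (ℕ × ℕ × ℕ) :=
  [(0, 0, 81), (45, 126, 0), (36, 36, 243), (9, 36, 162), (0, 27, 243), (0, 0, 243), (27, 27, 0)]

theorem invs_ok : ∀ c < 7, invs (repWord.getD c []) = invVals.getD c (0, 0, 0) ∧
    invs (powW 2 (repWord.getD c [])) = invVals.getD c (0, 0, 0) := by decide +kernel

end Cfsg.Agent.Spor.Fi22Cert.O7Threes
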