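import Cfsg.Agent.Lib.Spor.Fi22OutPoints

/-!
The transposition class of Fi22 under automorphisms: checks.
-/

set_option autoImplicit false
set_option maxRecDepth 100000
set_option Elab.async false

namespace Cfsg.Agent.Spor.Fi22Cert.Outer

open Cfsg.Agent.Spor.CC

/-- conjugator to a point, read off the tree of the orbit of everything -/
noncomputable def pathW (fuel : ℕ) : ℕ → List ℕ :=
  Nat.rec (motive := fun _ => ℕ → List ℕ) (fun _ => [])
    (fun _ ih j => bif Nat.beq j 0 then [] else
      RepU62.allOrb.ws.getD (Nat.shiftRight (fld RepU62.allOrb.tree 24 (Nat.sub j 1)) 16) [] ++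
        ih (Nat.land (fld RepU62.allOrb.tree 24 (Nat.sub j 1)) 65535)) fuel

/-- conjugator to a point -/
noncomputable def ptW (q : ℕ) : List ℕ := pathW 40 (fld RepU62.allOrb.posn 16 q)

/-- iterated image under the element of order eleven -/
noncomputable def xPow (k q : ℕ) : ℕ :=
  Nat.rec (motive := fun _ => ℕ) q (fun _ r => ev RepU62.rows 9 xW r) k

/-- the only fixed point, and the candidates for an image of the cycle -/
noncomputable def candChk (q : ℕ) : Bool :=
  (Nat.beq q 0 || !(Nat.beq (ev RepU62.rows 9 xW q) q)) &&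
  (Nat.beq q 0 || !(Nat.beq (RepU62.rows 0 q) q) || cyc.contains q ||
    (fun c => lettersOK 9 [c] && Nat.beq (ev RepU62.rows 9 c 0) q &&
      (List.range 11).any fun k => !(
        Nat.beq (ev RepU62.rows 9 (tW c) (xPow k q)) (xPow k q) ==
        Nat.beq (ev RepU62.rows 9 (tW (cycC.getD 0 [])) (cyc.getD k 0)) (cyc.getD k 0))) (ptW q))

theorem cand0 : rangeOK candChk 0 700 = true := by decide +kernel
theorem cand1 : rangeOK candChk 700 700 = true := by decide +kernel
theorem cand2 : rangeOK candChk 1400 700 = true := by decide +kernel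
theorem cand3 : rangeOK candChk 2100 700 = true := by decide +kernel
theorem cand4 : rangeOK candChk 2800 710 = true := by decide +kernel

theorem cand_all {q : ℕ} (h : q < 3510) : candChk q = true := by
  by_cases h0 : q < 700; · exact all_range cand0 (Nat.zero_le _) h0
  by_cases h1 : q < 1400; · exact all_range cand1 (by omega) h1
  by_cases h2 : q < 2100; · exact all_range cand2 (by omega) h2
  by_cases h3 : q < 2800; · exact all_range cand3 (by omega) h3
  exact all_range cand4 (by omega) h

theorem x_one : oneOK [powW 11 xW] = true := by decide +kernel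

theorem x_facts : lettersOK 9 [xW] = true ∧ cyc.length = 11 ∧ ev RepU62.rows 9 xW 0 = 0 ∧
    (∀ k < 11, ev RepU62.rows 9 xW (cyc.getD k 0) = cyc.getD ((k + 1) % 11) 0) ∧
    lettersOK 9 [cycC.getD 0 []] = true ∧ ev RepU62.rows 9 (cycC.getD 0 []) 0 = cyc.getD 0 0 ∧
    cyc.getD 0 0 < 3510 ∧ cyc.getD 0 0 ≠ 0 ∧ ev RepU62.rows 9 [0] (cyc.getD 0 0) = cyc.getD 0 0 ∧
    ev RepU62.rows 9 xW (cyc.getD 0 0) ≠ cyc.getD 0 0 ∧
    (∀ b ∈ (chainX.take 6).map Orb.b, b = 0 ∨ b ∈ cyc) ∧ (chainX.drop 6).map Orb.ws = [[[0]]] := by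
  decide +kernel

theorem chainX_ok : chainOK RepU62.rows 9 3510 chainX [] = true := by decide +kernel

theorem chainX_size : chainSize chainX = 64561751654400 := by decide +kernel

end Cfsg.Agent.Spor.Fi22Cert.Outer
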