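import Cfsg.Agent.Lib.Spor.Fi22RepU62Data

/-!
Checks for table `RepU62` of Fi22.
-/

set_option autoImplicit false
set_option maxRecDepth 100000

namespace Cfsg.Agent.Spor.Fi22Cert.RepU62

open Cfsg.Agent.Spor.CC

theorem inv0 : invOK rows 9 3510 0 304 = true := by decide +kernel

theorem loop0 : loopOK rows 9 Cfsg.Agent.Spor.Fi22Cert.pres.relW 0 304 = true :=
  relW_eq ▸ loop_of (fun u => rel_eq u) (by decide +kernel : rangeOK relAll 0 304 = true)

theorem loopMore0 : loopOK rows 9 more 0 304 = true :=
  extraRelW_eq ▸ loop_of (fun u => extraRel_eq u) (by decide +kernel : rangeOK extraRelAll 0 304 = true)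

theorem inv1 : invOK rows 9 3510 304 304 = true := by decide +kernel

theorem loop1 : loopOK rows 9 Cfsg.Agent.Spor.Fi22Cert.pres.relW 304 304 = true :=
  relW_eq ▸ loop_of (fun u => rel_eq u) (by decide +kernel : rangeOK relAll 304 304 = true)

theorem loopMore1 : loopOK rows 9 more 304 304 = true :=
  extraRelW_eq ▸ loop_of (fun u => extraRel_eq u) (by decide +kernel : rangeOK extraRelAll 304 304 = true)

theorem inv2 : invOK rows 9 3510 608 304 = true := by decide +kernel

theorem loop2 : loopOK rows 9 Cfsg.Agent.Spor.Fi22Cert.pres.relW 608 304 = true :=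
  relW_eq ▸ loop_of (fun u => rel_eq u) (by decide +kernel : rangeOK relAll 608 304 = true)

theorem loopMore2 : loopOK rows 9 more 608 304 = true :=
  extraRelW_eq ▸ loop_of (fun u => extraRel_eq u) (by decide +kernel : rangeOK extraRelAll 608 304 = true)

theorem inv3 : invOK rows 9 3510 912 304 = true := by decide +kernel

theorem loop3 : loopOK rows 9 Cfsg.Agent.Spor.Fi22Cert.pres.relW 912 304 = true :=
  relW_eq ▸ loop_of (fun u => rel_eq u) (by decide +kernel : rangeOK relAll 912 304 = true)

theorem loopMore3 : loopOK rows 9 more 912 304 = true :=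
  extraRelW_eq ▸ loop_of (fun u => extraRel_eq u) (by decide +kernel : rangeOK extraRelAll 912 304 = true)

end Cfsg.Agent.Spor.Fi22Cert.RepU62
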