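import Cfsg.Agent.Lib.Spor.Fi22SixIdxA4Data

/-!
Coset certificate `IdxA4` of Fi22Six: checks.
-/

set_option autoImplicit false
set_option maxRecDepth 100000

namespace Cfsg.Agent.Spor.Fi22SixCert.IdxA4

open Cfsg.Agent.Spor.CC

/-- checked entries -/
def stL0 : List ℕ := [
0x580002a00019000030000000d,
0x28000120000d0000300040007,
0x400001c000210040200080007,
0x58000240002300402000c0009,
0x180000a0000b0000300100006,
0x500000,
0x540000,
0x580000,
0x5c0000,
0x2e0040200140000,
0x60000100001800004000300080300180001,
0xe000130000380004c0003200803001c0004,
0x140001100005000044000340080300200008,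
0x4800024000340040200240008,
0x1e000120000780004800038008030020000a,
0x68000340003a004020008000d,
0x70000380003c004020028000e,
0x200000000008000000002c00803002c0000,
0x1000008000400040200000002,
0x180000c000400040200300002,
0x980004c000440040200000004,
0x8000040000460040200340006,
0x12000070000480001c000460080300380006,
0x90000480004a00402003c000a,
0x1a0000f0000680003c0004c00803001c000c,
0x70000380004e004020040000e,
0x340001a000480040200300007,
0x2a0040200240000,
0x40000100001000004000540080300440001,
0x20000100005600402003c0003,
0xe0000500003800014000560080300480003,
0x88000440005a0040200040008,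
0x48000240005a0040200140008,
0x90000480005e004020004000a,
0x780003c00060004020010000c,
0x1c0000d0000700003400062008030018000d,
0x640003200062004020014000d,
0x2800402000c0000,
0x800004000680040200080001,
0x800002000020000080006a00803004c0002,
0x180000c0006a0040200280002,
0x20000130000800004c0006e00803004c0004,
0x140000800005000020000700080300440007,
0x1a0000c000068000300007200803002c000b,
0x700003800074004020030000e]

theorem stOK0 : stepsOK dat stL0 15 = true := by decide +kernel

end Cfsg.Agent.Spor.Fi22SixCert.IdxA4
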