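import Cfsg.Agent.Lib.Spor.OrbitCert
import Cfsg.Agent.Lib.Spor.Fi22Pres

/-!
A presentation of the six-fold cover of Fi22 in numbered form.
-/

set_option autoImplicit false

namespace Cfsg.Agent.Spor.Fi22SixCert

open Cfsg.Agent.Spor.CC

/-- a word commuting with generator 8 -/
def derA : List ℕ := [7, 3, 2, 1, 4, 3, 2, 5, 4, 3, 6, 5, 4, 7, 3, 2, 1, 4, 3, 2, 5, 4, 3, 6, 5, 4, 7, 3, 2, 1, 4, 3, 5, 4, 6, 5, 7, 3, 2, 4, 3, 7, 8, 7, 3, 4, 2, 3, 7, 5, 6, 4, 5, 3, 4, 1, 2, 3, 7, 4, 5, 6, 3, 4, 5, 2, 3, 4, 1, 2, 3, 7, 4, 5, 6, 3, 4, 5, 2, 3, 4, 1, 2, 3, 7, 8]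

/-- a word commuting with generator 1 -/
def derB : List ℕ := [2, 3, 4, 5, 6, 7, 3, 2, 4, 3, 5, 4, 7, 3, 2, 8, 7, 3, 2, 4, 3, 5, 4, 6, 5, 7, 3, 2, 4, 3, 7, 8, 7, 3, 2, 4, 3, 5, 4, 7, 3, 2, 1, 2, 3, 7, 4, 5, 3, 4, 2, 3, 7, 8, 7, 3, 4, 2, 3, 7, 5, 6, 4, 5, 3, 4, 2, 3, 7, 8, 2, 3, 7, 4, 5, 3, 4, 2, 3, 7, 6, 5, 4, 3, 2, 1]

/-- a braid between a root reflection and generator 8 -/
def derC : List ℕ := [7, 3, 4, 2, 3, 7, 5, 4, 3, 2, 1, 2, 3, 4, 5, 7, 3, 2, 4, 3, 7, 8, 7, 3, 4, 2, 3, 7, 5, 4, 3, 2, 1, 2, 3, 4, 5, 7, 3, 2, 4, 3, 7, 8, 7, 3, 4, 2, 3, 7, 5, 4, 3, 2, 1, 2, 3, 4, 5, 7, 3, 2, 4, 3, 7, 8]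

/-- the first word of Coxeter type E7 -/
def sevenA : List ℕ := powW 9 [0, 1, 2, 3, 4, 5, 7]

/-- the second word of Coxeter type E7 -/
def sevenB : List ℕ := powW 9 [1, 2, 3, 4, 5, 6, 7]

/-- the spider word -/
def spider : List ℕ := powW 10 [3, 2, 1, 3, 4, 5, 3, 7, 8]

/-- commutation of a word with a generator -/
def commW (w : List ℕ) (x : ℕ) : List ℕ := w ++ [x] ++ w.reverse ++ [x]

/-- the further relators as words -/
def extras : List (List ℕ) :=
  [derA, derB, derC, sevenA, sevenB ++ sevenB] ++ (List.range 9).map (commW sevenB) ++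
    (List.range 9).map (commW spider)

/-- a word in the free group -/
def freeW (w : List ℕ) : FreeGroup Cfsg.Spor.Fi22.Gen :=
  (w.map fun x => FreeGroup.of (Fi22Cert.nmGen x)).prod

/-- the numbered presentation -/
def pres : Pres Cfsg.Spor.Fi22.Gen where
  edges := Cfsg.Spor.Fi22.edges
  extra := extras.map freeW
  ng := 9
  ix := Fi22Cert.ixGen
  nm := Fi22Cert.nmGen
  extraW := extras

theorem extras_letters : lettersOK 9 extras = true := by decide +kernel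

theorem pres_ok : pres.OK where
  ix_lt := fun a => by cases a <;> decide
  nm_ix := fun a => by cases a <;> rfl
  ix_nm := by decide +kernel
  node := by decide +kernel
  symm := by decide +kernel
  ng_le := by decide
  extra_eq := by
    intro M _ f _
    show (extras.map freeW).map (FreeGroup.lift (f ∘ Fi22Cert.ixGen)) = extras.map fun w => (w.map f).prod
    rw [List.map_map]
    refine List.map_congr_left fun w hw => ?_
    rw [Function.comp_apply, freeW, map_list_prod, List.map_map]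
    refine congrArg List.prod (List.map_congr_left fun x hx => ?_)
    rw [Function.comp_apply, FreeGroup.lift_apply_of, Function.comp_apply]
    exact congrArg f (Fi22Cert.pres_ok.ix_nm x (lettersOK_spec extras_letters hw hx))

theorem relW_letters : lettersOK 9 pres.relW = true := by decide +kernel

end Cfsg.Agent.Spor.Fi22SixCert
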