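import Cfsg.Agent.Lib.Spor.SpiderPres

/-!
Homomorphisms out of a numbered graph presentation, given on the numbered generators.
-/

set_option autoImplicit false

namespace Cfsg.Agent.Spor.SpiderCert

open Cfsg.Agent.Spor.CC

section

variable {α : Type} [DecidableEq α] {Q : Pres α} (hQ : Q.OK) {M : Type} [Group M] (f : ℕ → M)
  (hbig : ∀ x, ¬ x < Q.ng → f x = 1) (hr : ∀ r ∈ Q.relW, (r.map f).prod = 1)

include hbig hr in
theorem f_sq (x : ℕ) : f x * f x = 1 := by
  by_cases hx : x < Q.ng
  · simpa using hr [x, x] (by simp [Pres.relW, hx])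
  · rw [hbig x hx, one_mul]

include hQ hbig hr in
theorem f_cox {x y : ℕ} (hx : x < Q.ng) (hy : y < Q.ng) :
    (f x * f y) ^ Cfsg.Spor.coxLabel Q.edges (Q.nm x) (Q.nm y) = 1 := by
  have key : ∀ i j, i < Q.ng → j < i → (f j * f i) ^ Cfsg.Spor.coxLabel Q.edges (Q.nm j) (Q.nm i) = 1 := by
    intro i j hi hj
    have := hr (powW (Cfsg.Spor.coxLabel Q.edges (Q.nm j) (Q.nm i)) [j, i]) (by
      simp only [Pres.relW, List.mem_append, List.mem_map, List.mem_flatMap, List.mem_range]
      exact Or.inl (Or.inr ⟨i, hi, j, hj, rfl⟩))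
    rw [prod_powW] at this
    simpa using this
  rcases lt_trichotomy x y with hlt | rfl | hgt
  · exact key y x hy hlt
  · rw [f_sq f hbig hr, one_pow]
  · have := key x y hx hgt
    rw [hQ.symm _ hy _ hx] at this
    have e : f x * f y = (f y * f x)⁻¹ := by
      rw [mul_inv_rev, inv_eq_of_mul_eq_one_left (f_sq f hbig hr x), inv_eq_of_mul_eq_one_left (f_sq f hbig hr y)]
    rw [e, inv_pow, this, inv_one]

/-- the homomorphism with the given values -/
noncomputable def homOf : Q.Grp →* M :=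
  PresentedGroup.toGroup (f := f ∘ Q.ix) (by
    intro r h
    rcases h with ⟨x, -, y, -, rfl⟩ | h
    · rw [map_pow, map_mul, FreeGroup.lift_apply_of, FreeGroup.lift_apply_of]
      have := f_cox hQ f hbig hr (hQ.ix_lt x) (hQ.ix_lt y)
      rwa [hQ.nm_ix, hQ.nm_ix] at this
    · have key := hQ.extra_eq M f (f_sq f hbig hr)
      have hmem : FreeGroup.lift (f ∘ Q.ix) r ∈ Q.extra.map (FreeGroup.lift (f ∘ Q.ix)) :=
        List.mem_map.mpr ⟨r, h, rfl⟩
      rw [key] at hmem
      obtain ⟨w, hw, e⟩ := List.mem_map.mp hmem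
      rw [← e]
      exact hr w (by simp [Pres.relW, hw]))

theorem homOf_gen (x : ℕ) : homOf hQ f hbig hr (Q.gen x) = f x := by
  by_cases hx : x < Q.ng
  · rw [Pres.gen, if_pos hx, homOf, PresentedGroup.toGroup.of, Function.comp_apply, hQ.ix_nm x hx]
  · rw [Pres.gen_big hx, map_one, hbig x hx]

theorem homOf_prod (w : List ℕ) : homOf hQ f hbig hr ((w.map Q.gen).prod) = (w.map f).prod := by
  rw [map_list_prod, List.map_map]
  exact congrArg List.prod (List.map_congr_left fun x _ => homOf_gen hQ f hbig hr x)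

end

end Cfsg.Agent.Spor.SpiderCert
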