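import Cfsg.Agent.Lib.Spor.Fi22SixMatData
import Cfsg.Agent.Lib.Spor.Fi22SixPres
import Cfsg.Agent.Lib.Spor.SpiderHom

/-!
A representation of the six-fold cover of Fi22 on which the spider word is a scalar of order three.
-/

set_option autoImplicit false
set_option maxRecDepth 100000

namespace Cfsg.Agent.Spor.Fi22SixCert.Mat

open Cfsg.Agent.Spor.CC

/-- an additive map given by the images of the powers of two -/
noncomputable def appl (A : List ℕ) : ℕ → ℕ :=
  A.rec (fun _ => 0) fun a _ ih v => Nat.xor (bif Nat.beq (Nat.land v 1) 1 then a else 0) (ih (Nat.shiftRight v 1))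

theorem appl_cons (a : ℕ) (A : List ℕ) (v : ℕ) :
    appl (a :: A) v = (bif Nat.beq (v &&& 1) 1 then a else 0) ^^^ appl A (v >>> 1) := rfl

theorem beq01 : Nat.beq 0 1 = false ∧ Nat.beq 1 1 = true := ⟨rfl, rfl⟩

theorem appl_xor : ∀ (A : List ℕ) (v w : ℕ), appl A (v ^^^ w) = appl A v ^^^ appl A w
  | [], _, _ => (Nat.xor_self 0).symm
  | a :: A, v, w => by
    rw [appl_cons, appl_cons, appl_cons, Nat.shiftRight_xor_distrib, appl_xor A]
    have h : ((v ^^^ w) &&& 1) = (v &&& 1) ^^^ (w &&& 1) := Nat.and_xor_distrib_right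
    have hv : v &&& 1 = 0 ∨ v &&& 1 = 1 := by
      have := @Nat.and_le_right v 1
      omega
    have hw : w &&& 1 = 0 ∨ w &&& 1 = 1 := by
      have := @Nat.and_le_right w 1
      omega
    rw [h]
    rcases hv with e | e <;> rcases hw with e' | e' <;> rw [e, e']
    · simp [beq01]
    · simp [beq01]; ac_rfl
    · simp [beq01]; ac_rfl
    · simp [beq01]
      rw [Nat.xor_assoc, ← Nat.xor_assoc (appl A _), Nat.xor_comm (appl A (v >>> 1)) a, Nat.xor_assoc,
        ← Nat.xor_assoc a a, Nat.xor_self, Nat.zero_xor]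

theorem appl_zero : ∀ A : List ℕ, appl A 0 = 0
  | [] => rfl
  | a :: A => by rw [appl_cons, Nat.zero_shiftRight, appl_zero A]; simp [beq01]

theorem appl_comp : ∀ (B A : List ℕ) (v : ℕ), appl (B.map (appl A)) v = appl A (appl B v)
  | [], A, v => (appl_zero A).symm
  | b :: B, A, v => by
    rw [List.map_cons, appl_cons, appl_cons, appl_xor, appl_comp B A]
    cases Nat.beq (v &&& 1) 1
    · simp [appl_zero]
    · simp

theorem appl_lt {m : ℕ} : ∀ A : List ℕ, (∀ a ∈ A, a < 2 ^ m) → ∀ v, appl A v < 2 ^ m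
  | [], _, v => Nat.two_pow_pos m
  | a :: A, h, v => by
    rw [appl_cons]
    refine Nat.xor_lt_two_pow ?_ (appl_lt A (fun b hb => h b (List.mem_cons_of_mem _ hb)) _)
    cases Nat.beq (v &&& 1) 1
    · exact Nat.two_pow_pos m
    · exact h a (List.mem_cons_self ..)

theorem appl_pow : ∀ n s v : ℕ, appl ((List.range' s n).map (2 ^ ·)) v = 2 ^ s * (v % 2 ^ n)
  | 0, s, v => by simp [appl, Nat.mod_one]
  | n + 1, s, v => by
    rw [List.range'_succ, List.map_cons, appl_cons, appl_pow n (s + 1), Nat.shiftRight_eq_div_pow, pow_one]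
    have h2 : v % 2 ^ (n + 1) = v % 2 + 2 * (v / 2 % 2 ^ n) := by
      rw [pow_succ', Nat.mod_mul]
    rw [h2, Nat.mul_add, ← Nat.mul_assoc, ← pow_succ]
    have hlo : (bif Nat.beq (v &&& 1) 1 then 2 ^ s else 0) = 2 ^ s * (v % 2) := by
      rw [Nat.and_one_is_mod]
      rcases Nat.mod_two_eq_zero_or_one v with e | e <;> simp [e, beq01]
    rw [hlo, Nat.add_comm (2 ^ s * (v % 2))]
    rw [Nat.two_pow_add_eq_or_of_lt (a := v / 2 % 2 ^ n) (i := s + 1) (b := 2 ^ s * (v % 2))]
    · apply Nat.eq_of_testBit_eq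
      intro i
      simp only [Nat.testBit_xor, Nat.testBit_or]
      by_cases hi : s + 1 ≤ i
      · rw [Nat.testBit_lt_two_pow (x := 2 ^ s * (v % 2))]
        · simp
        · refine lt_of_lt_of_le ?_ (Nat.pow_le_pow_right (by norm_num) hi)
          rw [pow_succ]
          exact Nat.mul_lt_mul_of_pos_left (Nat.mod_lt _ (by norm_num)) (Nat.two_pow_pos s)
      · simp [Nat.testBit_two_pow_mul, hi]
    · rw [pow_succ]
      exact Nat.mul_lt_mul_of_pos_left (Nat.mod_lt _ (by norm_num)) (Nat.two_pow_pos s)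

/-- the columns of the identity -/
def idC : List ℕ := (List.range' 0 54).map (2 ^ ·)

/-- composition -/
noncomputable def mulC (A B : List ℕ) : List ℕ := B.map (appl A)

/-- columns of a generator -/
def colG (x : ℕ) : List ℕ := cols.getD x idC

/-- columns of a word -/
noncomputable def wordM (w : List ℕ) : List ℕ := w.foldr (fun x P => mulC (colG x) P) idC

theorem cols_ok : cols.length = 9 ∧ (∀ x < 9, (colG x).all (fun a => Nat.blt a (2 ^ 54)) = true ∧
    mulC (colG x) (colG x) = idC) := by decide +kernel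

theorem colG_lt {x : ℕ} {a : ℕ} (ha : a ∈ colG x) : a < 2 ^ 54 := by
  by_cases hx : x < 9
  · exact Nat.le_of_ble_eq_true (List.all_eq_true.mp (cols_ok.2 x hx).1 a ha)
  · rw [colG, List.getD_eq_default _ _ (by rw [cols_ok.1]; omega)] at ha
    obtain ⟨i, hi, rfl⟩ := List.mem_map.mp ha
    exact Nat.pow_lt_pow_right (by norm_num) (by rw [List.mem_range'_1] at hi; omega)

theorem idC_apply {v : ℕ} (hv : v < 2 ^ 54) : appl idC v = v := by
  rw [idC, appl_pow, pow_zero, one_mul, Nat.mod_eq_of_lt hv]

theorem colG_invol {x : ℕ} (v : Fin (2 ^ 54)) : appl (colG x) (appl (colG x) v) = v := by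
  by_cases hx : x < 9
  · rw [← appl_comp, show (colG x).map (appl (colG x)) = idC from (cols_ok.2 x hx).2, idC_apply v.2]
  · rw [colG, List.getD_eq_default _ _ (by rw [cols_ok.1]; omega), idC_apply v.2, idC_apply v.2]

/-- the permutation of a generator -/
noncomputable def g (x : ℕ) : Equiv.Perm (Fin (2 ^ 54)) :=
  Function.Involutive.toPerm (fun v => ⟨appl (colG x) v, appl_lt _ (fun a => colG_lt) _⟩)
    (fun v => Fin.ext (colG_invol v))

theorem g_big (x : ℕ) (hx : ¬ x < pres.ng) : g x = 1 := by
  have h9 : ¬ x < 9 := hx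
  refine Equiv.ext fun v => Fin.ext ?_
  show appl (colG x) v = v
  rw [colG, List.getD_eq_default _ _ (by rw [cols_ok.1]; omega), idC_apply v.2]

theorem g_word : ∀ (w : List ℕ) (v : Fin (2 ^ 54)),
    (((w.map g).prod v : Fin (2 ^ 54)) : ℕ) = appl (wordM w) v
  | [], v => by
    show (v : ℕ) = appl idC v
    rw [idC_apply v.2]
  | x :: w, v => by
    rw [List.map_cons, List.prod_cons, Equiv.Perm.mul_apply]
    show appl (colG x) _ = appl (mulC (colG x) (wordM w)) v
    rw [g_word w v, mulC, appl_comp]

theorem word_one {w : List ℕ} (h : wordM w = idC) : (w.map g).prod = 1 :=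
  Equiv.ext fun v => Fin.ext (by rw [g_word, h, idC_apply v.2]; rfl)

theorem word_comm {w : List ℕ} {x : ℕ} (h : mulC (wordM w) (colG x) = mulC (colG x) (wordM w)) :
    (w.map g).prod * g x = g x * (w.map g).prod :=
  Equiv.ext fun v => Fin.ext (by
    rw [Equiv.Perm.mul_apply, Equiv.Perm.mul_apply, g_word]
    show _ = appl (colG x) (((w.map g).prod v : Fin (2 ^ 54)) : ℕ)
    rw [g_word]
    show appl (wordM w) (appl (colG x) v) = _
    rw [← appl_comp, ← appl_comp]
    exact congrArg (fun A => appl A (v : ℕ)) h)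

theorem short_ok : ((pres.relW.take 45).all fun r => wordM r == idC) = true := by decide +kernel

theorem der_ok : ((extras.take 5).all fun r => wordM r == idC) = true := by decide +kernel

theorem seven_scalar : wordM sevenB = idC := by decide +kernel

theorem spider_scalar : wordM spider = omC := by decide +kernel

theorem omC_ok : omC ≠ idC ∧ ∀ x < 9, mulC omC (colG x) = mulC (colG x) omC := by decide +kernel

theorem commW_one (w : List ℕ) (x : ℕ) (h : (w.map g).prod * g x = g x * (w.map g).prod) :
    ((commW w x).map g).prod = 1 := by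
  have hsq : ∀ y, g y * g y = 1 := fun y => Equiv.ext fun v => Fin.ext (colG_invol v)
  have hrev : ∀ l : List ℕ, (l.reverse.map g).prod = (l.map g).prod⁻¹ := fun l => by
    induction l with
    | nil => simp
    | cons a l ih =>
      rw [List.reverse_cons, List.map_append, List.prod_append, ih]
      simp [inv_eq_of_mul_eq_one_left (hsq a)]
  simp only [commW, List.map_append, List.prod_append, hrev, List.map_cons, List.map_nil, List.prod_cons,
    List.prod_nil, mul_one]
  rw [h, mul_assoc (g x), mul_inv_cancel, mul_one, hsq]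

theorem g_rel : ∀ r ∈ pres.relW, (r.map g).prod = 1 := by
  intro r hr
  rw [← List.take_append_drop 45 pres.relW, List.mem_append] at hr
  rcases hr with hr | hr
  · exact word_one (beq_iff_eq.mp (List.all_eq_true.mp short_ok r hr))
  · rw [show pres.relW.drop 45 = extras from List.drop_left' (by decide +kernel)] at hr
    rw [← List.take_append_drop 5 extras, List.mem_append] at hr
    rcases hr with hr | hr
    · exact word_one (beq_iff_eq.mp (List.all_eq_true.mp der_ok r hr))
    · rw [show extras.drop 5 = (List.range 9).map (commW sevenB) ++ (List.range 9).map (commW spider) from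
        rfl] at hr
      simp only [List.mem_append, List.mem_map, List.mem_range] at hr
      rcases hr with ⟨x, hx, rfl⟩ | ⟨x, hx, rfl⟩
      · exact commW_one _ _ (by rw [word_one seven_scalar, one_mul, mul_one])
      · exact commW_one _ _ (word_comm (by rw [spider_scalar]; exact omC_ok.2 x hx))

/-- the representation -/
noncomputable def hom : pres.Grp →* Equiv.Perm (Fin (2 ^ 54)) :=
  SpiderCert.homOf pres_ok g g_big g_rel

theorem hom_spider : hom ((spider.map pres.gen).prod) ≠ 1 := by
  intro h
  rw [hom, SpiderCert.homOf_prod] at h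
  obtain ⟨j, hj, hne⟩ : ∃ j < 54, appl omC (2 ^ j) ≠ 2 ^ j := ⟨0, by decide +kernel⟩
  have hlt : 2 ^ j < 2 ^ 54 := Nat.pow_lt_pow_right (by norm_num) hj
  have := congrArg (fun p : Equiv.Perm (Fin (2 ^ 54)) => ((p ⟨2 ^ j, hlt⟩ : Fin (2 ^ 54)) : ℕ)) h
  simp only [g_word, spider_scalar, Equiv.Perm.one_apply] at this
  exact hne this

end Cfsg.Agent.Spor.Fi22SixCert.Mat
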