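import Cfsg.Agent.Lib.Spor.SUSixPoints
import Cfsg.Agent.Lib.Spor.Fi22Main
import Cfsg.Agent.Lib.Spor.PermBig
import Cfsg.Prelude.Def_SporadicB

/-!
The point stabiliser in Fi22 is a nonsplit double cover of the six-dimensional unitary group over
the field with four elements.
-/

set_option autoImplicit false
set_option maxRecDepth 100000

namespace Cfsg.Agent.Spor.Fi22Cert.U62Act

open Cfsg.Agent.Spor.CC

/-- the stabiliser -/
abbrev Hsub : Subgroup pres.Grp := pres.wsub IdxU62.subW

/-- the generating words -/
def wordOf (x : ℕ) : List ℕ := IdxU62.subW.getD x []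

theorem subW_len : IdxU62.subW.length = 9 := by decide +kernel

theorem letters_ok : lettersOK 9 IdxU62.subW = true := by decide +kernel

theorem wordOf_mem {x : ℕ} (hx : x < 9) : wordOf x ∈ IdxU62.subW := by
  rw [wordOf, List.getD_eq_getElem _ _ (subW_len.symm ▸ hx)]
  exact List.getElem_mem _

theorem wordOf_lt {x : ℕ} (hx : x < 9) : ∀ y ∈ wordOf x, y < rep.P.ng := fun _ hy =>
  lettersOK_spec letters_ok (wordOf_mem hx) hy

theorem word_mem {x : ℕ} (hx : x < 9) : ((wordOf x).map pres.gen).prod ∈ Hsub :=
  Subgroup.subset_closure ⟨_, wordOf_mem hx, rfl⟩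

/-- one point of the compatibility check -/
noncomputable def compatU (v : ℕ) : Bool :=
  Nat.blt (fld RepU62.sub2.pts 16 v) 3510 &&
  Nat.beq (fld RepU62.sub2.posn 16 (fld RepU62.sub2.pts 16 v)) v &&
  (List.range 9).all fun x => Nat.beq (ev RepU62.rows 9 (wordOf x) (fld RepU62.sub2.pts 16 v))
    (fld RepU62.sub2.pts 16 (urows x v))

theorem compatU_all : rangeOK compatU 0 693 = true := by decide +kernel

theorem compatU_spec {v : ℕ} (hv : v < 693) : compatU v = true :=
  all_range (p := compatU) compatU_all (Nat.zero_le _) (by omega)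

/-- the embedding of points -/
def mu (v : Fin 693) : Fin rep.P.n :=
  ⟨fld RepU62.sub2.pts 16 v, by
    have := compatU_spec v.2
    simp only [compatU, Bool.and_eq_true] at this
    exact Nat.le_of_ble_eq_true this.1.1⟩

theorem mu_injective : Function.Injective mu := by
  intro a b e
  have hh : ∀ v : Fin 693, fld RepU62.sub2.posn 16 (mu v : ℕ) = v := fun v => by
    have := compatU_spec v.2
    simp only [compatU, Bool.and_eq_true] at this
    exact Nat.eq_of_beq_eq_true this.1.2
  exact Fin.ext ((hh a).symm.trans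
    ((congrArg (fun q : Fin rep.P.n => fld RepU62.sub2.posn 16 (q : ℕ)) e).trans (hh b)))

open SpFour in
theorem mat_ok : ∀ x < 9, (SUSix.matOf (matCodes.getD x 0)).conjTranspose * SUSix.matOf (matCodes.getD x 0) = 1 ∧
    SUSix.matOf (matCodes.getD x 0) * SUSix.matOf (matCodes.getD x 0) = 1 := by decide +kernel

/-- one point of the matrix check -/
noncomputable def matAct (v : ℕ) : Bool :=
  (List.range 9).all fun x => Nat.beq (SUSix.actN (SUSix.matOf (matCodes.getD x 0)) v) (urows x v)

theorem matAct0 : rangeOK matAct 0 350 = true := by decide +kernel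
theorem matAct1 : rangeOK matAct 350 343 = true := by decide +kernel

theorem matAct_spec {v : ℕ} (hv : v < 693) : matAct v = true := by
  by_cases h : v < 350
  · exact all_range (p := matAct) matAct0 (Nat.zero_le _) (by omega)
  · exact all_range (p := matAct) matAct1 (by omega) (by omega)

/-- the matrix of a generator -/
noncomputable def matSU (x : ℕ) (hx : x < 9) : SUSix.G6 :=
  Small.Unitary.mkSU SpFour.F4.star_eq_pow (SUSix.matOf (matCodes.getD x 0)) (mat_ok x hx).1
    (SUSix.det_of_sq (mat_ok x hx).2)

theorem matSU_val (x : ℕ) (hx : x < 9) (v : Fin 693) :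
    (SUSix.uperm (matSU x hx) v : ℕ) = urows x v := by
  rw [SUSix.uperm_val]
  exact Nat.eq_of_beq_eq_true
    (List.all_eq_true.mp (matAct_spec v.2) x (List.mem_range.mpr hx))

/-- the relation between the two actions -/
def Match (s : pres.Grp) (σ : Equiv.Perm (Fin 693)) : Prop :=
  ∀ v, rep.hom s (mu v) = mu (σ v)

theorem match_gen (x : ℕ) (hx : x < 9) :
    Match ((wordOf x).map pres.gen).prod (SUSix.uperm (matSU x hx)) := by
  intro v
  apply Fin.ext
  rw [ev_eq rep.valid pres.gen rep.hom rep.hom_gen (wordOf_lt hx)]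
  show ev RepU62.rows 9 (wordOf x) (fld RepU62.sub2.pts 16 v) = fld RepU62.sub2.pts 16 _
  rw [matSU_val]
  have := compatU_spec v.2
  simp only [compatU, Bool.and_eq_true, List.all_eq_true] at this
  exact Nat.eq_of_beq_eq_true (this.2 x (List.mem_range.mpr hx))

theorem exists_match (s : pres.Grp) (hs : s ∈ Hsub) : ∃ σ ∈ SUSix.uperm.range, Match s σ := by
  rw [Hsub, Pres.wsub] at hs
  induction hs using Subgroup.closure_induction with
  | mem y hy =>
    obtain ⟨w, hw, rfl⟩ := hy
    obtain ⟨x, hx, rfl⟩ := List.mem_iff_getElem.mp hw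
    have hx9 : x < 9 := subW_len ▸ hx
    refine ⟨SUSix.uperm (matSU x hx9), ⟨_, rfl⟩, ?_⟩
    rw [← List.getD_eq_getElem IdxU62.subW [] hx]
    exact match_gen x hx9
  | one => exact ⟨1, one_mem _, fun v => by simp⟩
  | mul p q _ _ hp hq =>
    obtain ⟨σ, hσ, h1⟩ := hp
    obtain ⟨τ, hτ, h2⟩ := hq
    exact ⟨σ * τ, mul_mem hσ hτ, fun v => by
      rw [map_mul, Equiv.Perm.mul_apply, h2, h1, Equiv.Perm.mul_apply]⟩
  | inv p _ hp =>
    obtain ⟨σ, hσ, h1⟩ := hp
    refine ⟨σ⁻¹, inv_mem hσ, fun v => ?_⟩
    rw [map_inv, Equiv.Perm.inv_eq_iff_eq, h1, ← Equiv.Perm.mul_apply, mul_inv_cancel,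
      Equiv.Perm.one_apply]

theorem match_unique {s : pres.Grp} {σ τ : Equiv.Perm (Fin 693)} (h1 : Match s σ)
    (h2 : Match s τ) : σ = τ :=
  Equiv.ext fun v => mu_injective ((h1 v).symm.trans (h2 v))

/-- the restriction to the suborbit -/
noncomputable def theta : Hsub →* SUSix.uperm.range where
  toFun s := ⟨_, (exists_match _ s.2).choose_spec.1⟩
  map_one' := Subtype.ext (match_unique (exists_match _ (one_mem Hsub)).choose_spec.2 (fun v => by simp))
  map_mul' s t := Subtype.ext (match_unique (exists_match _ (s * t).2).choose_spec.2 (fun v => by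
    show rep.hom ((s : pres.Grp) * (t : pres.Grp)) (mu v) =
      mu (((exists_match _ s.2).choose * (exists_match _ t.2).choose) v)
    rw [map_mul, Equiv.Perm.mul_apply, (exists_match _ t.2).choose_spec.2,
      (exists_match _ s.2).choose_spec.2, Equiv.Perm.mul_apply]))

theorem utab_inv : invOK urows 9 693 0 693 = true := by decide +kernel

theorem utab_valid : utab.Valid := fun _ hu _ hx =>
  invOK_spec utab_inv (Nat.zero_le _) (lt_of_lt_of_eq hu (Nat.zero_add _).symm) hx

theorem ulevels_ok : chainOK urows 9 693 ulevels [] = true := by decide +kernel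

theorem ulevels_size : chainSize ulevels = 9196830720 := by decide +kernel

/-- generators of the stabiliser -/
noncomputable def gH (x : ℕ) : Hsub :=
  if hx : x < 9 then ⟨_, word_mem hx⟩ else 1

theorem theta_surjective : Function.Surjective theta := by
  let φ : Hsub →* Equiv.Perm (Fin 693) := SUSix.uperm.range.subtype.comp theta
  have hφ : ∀ x, x < utab.ng → φ (gH x) = utab.perm utab_valid x := by
    intro x hx
    have hx9 : x < 9 := hx
    refine Eq.trans (match_unique (s := ((wordOf x).map pres.gen).prod) ?_ (match_gen x hx9))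
      (Equiv.ext fun v => Fin.ext ?_)
    · have h := (exists_match _ (gH x).2).choose_spec.2
      have e : ((gH x : Hsub) : pres.Grp) = ((wordOf x).map pres.gen).prod := by rw [gH, dif_pos hx9]
      intro v
      rw [← e]
      exact h v
    · exact (matSU_val x hx9 v).trans (utab.perm_val utab_valid hx v).symm
  have hcard := chain_le_image utab_valid gH φ hφ ulevels_ok
  rw [ulevels_size] at hcard
  have hle : φ.range ≤ SUSix.uperm.range := by
    rintro _ ⟨s, rfl⟩
    exact (theta s).2
  have heq : φ.range = SUSix.uperm.range :=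
    Subgroup.eq_of_le_of_card_ge hle (SUSix.card_range.le.trans hcard)
  rintro ⟨σ, hσ⟩
  rw [← heq] at hσ
  obtain ⟨s, hs⟩ := hσ
  exact ⟨s, Subtype.ext hs⟩

theorem card_Hsub : Finite Hsub ∧ Nat.card Hsub = 18393661440 := by
  haveI := order.1
  refine ⟨inferInstance, ?_⟩
  have := Subgroup.card_mul_index Hsub
  rw [order.2.1, stab_eq.2] at this
  omega

theorem ker_card : Nat.card theta.ker = 2 := by
  haveI := card_Hsub.1
  have h := Subgroup.card_mul_index theta.ker
  rw [Subgroup.index_ker, MonoidHom.range_eq_top.mpr theta_surjective,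
    Nat.card_congr Subgroup.topEquiv.toEquiv, SUSix.card_range, card_Hsub.2] at h
  exact Nat.eq_of_mul_eq_mul_right (by norm_num : (0:ℕ) < 9196830720)
    (h.trans (by norm_num : (18393661440:ℕ) = 2 * 9196830720))

theorem center_eq : Subgroup.center Hsub = theta.ker := by
  haveI := card_Hsub.1
  apply le_antisymm
  · intro z hz
    rw [MonoidHom.mem_ker]
    haveI := SUSix.simple_range
    have hzc : theta z ∈ Subgroup.center SUSix.uperm.range := Subgroup.mem_center_iff.mpr fun y => by
      obtain ⟨x, rfl⟩ := theta_surjective y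
      rw [← map_mul, ← map_mul, Subgroup.mem_center_iff.mp hz x]
    rcases (inferInstance : (Subgroup.center SUSix.uperm.range).Normal).eq_bot_or_eq_top with h | h
    · rw [h] at hzc; exact hzc
    · exfalso
      letI : CommGroup SUSix.uperm.range :=
        { (inferInstance : Group SUSix.uperm.range) with
          mul_comm := fun a b => Subgroup.mem_center_iff.mp (h ▸ Subgroup.mem_top b) a }
      have hp : (Nat.card SUSix.uperm.range).Prime := IsSimpleGroup.prime_card
      rw [SUSix.card_range] at hp
      exact (by norm_num : ¬ Nat.Prime 9196830720) hp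
  · intro z hz
    rw [Subgroup.mem_center_iff]
    intro g
    by_cases hz1 : z = 1
    · subst hz1; simp
    · have hc : g * z * g⁻¹ ∈ theta.ker := (inferInstance : theta.ker.Normal).conj_mem z hz g
      have hne : g * z * g⁻¹ ≠ 1 := fun e => hz1 (by simpa using e)
      obtain ⟨a, b, hab, huniv⟩ := Nat.card_eq_two_iff.mp ker_card
      have key : ∀ p q : theta.ker, p ≠ 1 → q ≠ 1 → p = q := by
        intro p q hp hq
        have h1 : ∀ r : theta.ker, r = a ∨ r = b := fun r => by
          have : r ∈ ({a, b} : Set theta.ker) := huniv ▸ Set.mem_univ r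
          simpa using this
        rcases h1 1 with h | h <;> rcases h1 p with h' | h' <;> rcases h1 q with h'' | h'' <;> simp_all
      have := key ⟨_, hc⟩ ⟨z, hz⟩ (fun e => hne (congrArg Subtype.val e))
        (fun e => hz1 (congrArg Subtype.val e))
      exact mul_inv_eq_iff_eq_mul.mp (congrArg Subtype.val this)

/-- the central involution -/
noncomputable def cen : Hsub := gH 0

theorem cen_val : (cen : pres.Grp) = pres.gen 0 := by
  rw [cen, gH, dif_pos (by norm_num : (0:ℕ) < 9)]
  show ((wordOf 0).map pres.gen).prod = _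
  rw [show wordOf 0 = [0] from rfl]
  simp

theorem mat_zero : SUSix.matOf (matCodes.getD 0 0) = 1 := by decide +kernel

theorem cen_mem_ker : cen ∈ theta.ker := by
  rw [MonoidHom.mem_ker]
  refine Subtype.ext (match_unique (exists_match _ cen.2).choose_spec.2 fun v => ?_)
  have h := match_gen 0 (by norm_num) v
  have e : ((wordOf 0).map pres.gen).prod = (cen : pres.Grp) := by
    rw [cen, gH, dif_pos (by norm_num : (0:ℕ) < 9)]
  have e1 : matSU 0 (by norm_num) = 1 := Subtype.ext (Subtype.ext mat_zero)
  rw [e, e1, map_one] at h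
  exact h

theorem cen_ne_one : (cen : pres.Grp) ≠ 1 := by
  intro e
  have h := congrArg (fun p => ((rep.hom p ⟨movedPt, by decide +kernel⟩ : Fin rep.P.n) : ℕ)) e
  simp only [cen_val, map_one, Equiv.Perm.one_apply] at h
  rw [rep.hom_gen 0 (by decide +kernel), rep.P.perm_val rep.valid (by decide +kernel)] at h
  exact (by decide +kernel : RepU62.rows 0 movedPt ≠ movedPt) h

/-- the letters of the element of odd order -/
def oddW : List ℕ := ((0 :: oddRest).map wordOf).flatten

theorem odd_letters : lettersOK 9 [powW oddExp oddW] = true := by decide +kernel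

theorem odd_fix : fixOK RepU62.rows 9 [powW oddExp oddW] (RepU62.levels.map Orb.b) = true := by
  decide +kernel

theorem odd_pow : ((oddW.map pres.gen).prod) ^ oddExp = 1 := by
  haveI := order.1
  rw [← prod_powW]
  exact eq_one_of_fix rep.valid pres.gen rep.hom rep.hom_gen RepU62.chain_ok
    (by rw [order.2.1, RepU62.chain_size])
    (fun x hx => lettersOK_spec odd_letters (List.mem_cons_self ..) hx) odd_fix

theorem oddRest_lt : ∀ x ∈ oddRest, x < 9 := by decide +kernel

theorem odd_count : (List.range 9).all (fun x => decide (oddRest.count x % 2 = 0)) = true := by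
  decide +kernel

theorem prod_gH (l : List ℕ) (hl : ∀ x ∈ l, x < 9) :
    (((l.map gH).prod : Hsub) : pres.Grp) = (((l.map wordOf).flatten).map pres.gen).prod := by
  induction l with
  | nil => simp
  | cons a l ih =>
    have ha := hl a (List.mem_cons_self ..)
    rw [List.map_cons, List.prod_cons, Subgroup.coe_mul, ih fun x hx => hl x (List.mem_cons_of_mem _ hx),
      List.map_cons, List.flatten_cons, List.map_append, List.prod_append, gH, dif_pos ha]

theorem prod_even {M : Type*} [CommGroup M] (hsq : ∀ m : M, m ^ 2 = 1) (f : ℕ → M) (l : List ℕ)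
    (heven : ∀ x ∈ l, l.count x % 2 = 0) : (l.map f).prod = 1 := by
  classical
  rw [Finset.prod_list_map_count]
  refine Finset.prod_eq_one fun x hx => ?_
  obtain ⟨k, hk⟩ := Nat.dvd_of_mod_eq_zero (heven x (List.mem_toFinset.mp hx))
  rw [hk, pow_mul, hsq, one_pow]

theorem double_cover : Cfsg.IsNonsplitDoubleCover Hsub (Cfsg.PSU 6 SpFour.F4 2) := by
  obtain ⟨eU⟩ := SUSix.range_equiv
  refine ⟨by rw [center_eq]; exact ker_card,
    ⟨((QuotientGroup.quotientMulEquivOfEq center_eq).trans
      (QuotientGroup.quotientKerEquivOfSurjective _ theta_surjective)).trans eU⟩, ?_⟩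
  intro L hL
  haveI := card_Hsub.1
  have hcard := hL.card_mul
  rw [center_eq, ker_card] at hcard
  have hidx : L.index = 2 := by
    have := Subgroup.card_mul_index L
    have h0 : 0 < Nat.card L := Nat.card_pos
    exact Nat.eq_of_mul_eq_mul_left h0 (this.trans (hcard.symm.trans (mul_comm _ _)))
  haveI : L.Normal := Subgroup.normal_of_index_eq_two hidx
  have hsq : ∀ q : Hsub ⧸ L, q ^ 2 = 1 := fun q => by
    rw [← hidx, Subgroup.index]; exact pow_card_eq_one'
  letI : CommGroup (Hsub ⧸ L) :=
    { (inferInstance : Group (Hsub ⧸ L)) with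
      mul_comm := fun a b => by
        have hinv : ∀ q : Hsub ⧸ L, q⁻¹ = q := fun q =>
          inv_eq_of_mul_eq_one_left (by rw [← pow_two]; exact hsq q)
        calc a * b = (a * b)⁻¹ := (hinv _).symm
          _ = b⁻¹ * a⁻¹ := mul_inv_rev a b
          _ = b * a := by rw [hinv, hinv] }
  let ψ : Hsub →* Hsub ⧸ L := QuotientGroup.mk' L
  have hX : (((0 :: oddRest).map gH).prod : Hsub) ^ oddExp = 1 := by
    apply Subtype.ext
    rw [SubgroupClass.coe_pow, prod_gH _ (by decide +kernel)]
    exact odd_pow
  have hrest : (oddRest.map fun x => ψ (gH x)).prod = 1 := prod_even hsq _ _ fun x hx =>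
    of_decide_eq_true (List.all_eq_true.mp odd_count x (List.mem_range.mpr (oddRest_lt x hx)))
  have hψ : ψ cen = 1 := by
    have h := congrArg ψ hX
    rw [map_pow, map_one, List.map_cons, List.prod_cons, map_mul, map_list_prod, List.map_map] at h
    rw [show (oddRest.map (ψ ∘ gH)).prod = 1 from hrest, mul_one,
      show oddExp = 2 * (oddExp / 2) + 1 from by decide +kernel, pow_succ, pow_mul, hsq, one_pow,
      one_mul] at h
    exact h
  have hmem : cen ∈ L := (QuotientGroup.eq_one_iff _).mp hψ
  have hz : cen ∈ Subgroup.center Hsub := center_eq ▸ cen_mem_ker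
  exact cen_ne_one (congrArg Subtype.val
    ((Subgroup.disjoint_def.mp hL.disjoint) hz hmem))

end Cfsg.Agent.Spor.Fi22Cert.U62Act
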