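import Cfsg.Agent.Lib.Spor.Fi23Main
import Cfsg.Agent.Lib.Spor.Fi23Sub22Data
import Cfsg.Agent.Lib.Spor.Fi22Main
import Cfsg.Prelude.Def_SporadicB

/-!
The point stabiliser in Fi23 is a nonsplit double cover of Fi22.
-/

set_option autoImplicit false
set_option maxRecDepth 100000

namespace Cfsg.Agent.Spor.Fi23Cert.Below

open Cfsg.Agent.Spor.CC

/-- the stabiliser -/
abbrev Ksub : Subgroup pres.Grp := pres.wsub IdxA.subW

/-- the embedding of points -/
def mu (v : Fin Fi22Cert.rep.P.n) : Fin rep.P.n :=
  ⟨fld muTab 16 v, by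
    have := compat_all v (Nat.zero_le _) v.2
    simp only [compatOne, Bool.and_eq_true] at this
    exact Nat.le_of_ble_eq_true this.1.1⟩

theorem mu_injective : Function.Injective mu := by
  intro a b e
  have hh : ∀ v : Fin Fi22Cert.rep.P.n, fld muInv 16 (mu v : ℕ) = v := fun v => by
    have := compat_all v (Nat.zero_le _) v.2
    simp only [compatOne, Bool.and_eq_true] at this
    exact Nat.eq_of_beq_eq_true this.1.2
  exact Fin.ext ((hh a).symm.trans ((congrArg (fun q : Fin rep.P.n => fld muInv 16 (q : ℕ)) e).trans (hh b)))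

/-- the relation between the two actions -/
def Match (s : pres.Grp) (σ : Equiv.Perm (Fin Fi22Cert.rep.P.n)) : Prop :=
  ∀ v, rep.hom s (mu v) = mu (σ v)

theorem match_gen (x : ℕ) (hx : x < 9) :
    Match (pres.gen (lets.getD x 0)) (Fi22Cert.rep.hom (Fi22Cert.pres.gen x)) := by
  intro v
  have hl : lets.getD x 0 < 10 := by interval_cases x <;> decide
  rw [rep.hom_gen _ hl, Fi22Cert.rep.hom_gen x hx]
  apply Fin.ext
  rw [rep.P.perm_val rep.valid hl]
  show RepA.rows (lets.getD x 0) (fld muTab 16 v) = fld muTab 16 _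
  rw [Fi22Cert.rep.P.perm_val Fi22Cert.rep.valid hx]
  have := compat_all v (Nat.zero_le _) v.2
  simp only [compatOne, Bool.and_eq_true, List.all_eq_true] at this
  exact Nat.eq_of_beq_eq_true (this.2 x (List.mem_range.mpr hx))

theorem sub_eq_singles : Ksub = pres.sub lets := Pres.wsub_singles lets

theorem exists_match (s : pres.Grp) (hs : s ∈ Ksub) :
    ∃ σ ∈ Fi22Cert.rep.hom.range, Match s σ := by
  rw [sub_eq_singles, Pres.sub] at hs
  induction hs using Subgroup.closure_induction with
  | mem y hy =>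
    obtain ⟨y, hy, rfl⟩ := hy
    obtain ⟨x, hx, rfl⟩ := List.mem_iff_getElem.mp hy
    refine ⟨Fi22Cert.rep.hom (Fi22Cert.pres.gen x), ⟨_, rfl⟩, ?_⟩
    rw [← List.getD_eq_getElem lets 0 hx]
    exact match_gen x hx
  | one => exact ⟨1, one_mem _, fun v => by simp⟩
  | mul p q _ _ hp hq =>
    obtain ⟨σ, hσ, h1⟩ := hp
    obtain ⟨τ, hτ, h2⟩ := hq
    exact ⟨σ * τ, mul_mem hσ hτ, fun v => by
      rw [map_mul, Equiv.Perm.mul_apply, h2, h1, Equiv.Perm.mul_apply]⟩
  | inv p _ hp =>
    obtain ⟨σ, hσ, h1⟩ := hp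
    refine ⟨σ⁻¹, inv_mem hσ, fun v => ?_⟩
    rw [map_inv, Equiv.Perm.inv_eq_iff_eq, h1, ← Equiv.Perm.mul_apply, mul_inv_cancel,
      Equiv.Perm.one_apply]

theorem match_unique {s : pres.Grp} {σ τ : Equiv.Perm (Fin Fi22Cert.rep.P.n)} (h1 : Match s σ)
    (h2 : Match s τ) : σ = τ :=
  Equiv.ext fun v => mu_injective ((h1 v).symm.trans (h2 v))

/-- the restriction to the suborbit -/
noncomputable def theta : Ksub →* Fi22Cert.rep.hom.range where
  toFun s := ⟨_, (exists_match _ s.2).choose_spec.1⟩
  map_one' := Subtype.ext (match_unique (exists_match _ (one_mem Ksub)).choose_spec.2 (fun v => by simp))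
  map_mul' s t := Subtype.ext (match_unique (exists_match _ (s * t).2).choose_spec.2 (fun v => by
    show rep.hom ((s : pres.Grp) * (t : pres.Grp)) (mu v) =
      mu (((exists_match _ s.2).choose * (exists_match _ t.2).choose) v)
    rw [map_mul, Equiv.Perm.mul_apply, (exists_match _ t.2).choose_spec.2,
      (exists_match _ s.2).choose_spec.2, Equiv.Perm.mul_apply]))

/-- the map to Fi22 -/
noncomputable def toFi22 : Ksub →* Fi22Cert.pres.Grp :=
  (MonoidHom.ofInjective Fi22Cert.order.2.2).symm.toMonoidHom.comp theta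

theorem toFi22_surjective : Function.Surjective toFi22 := by
  have h : (⊤ : Subgroup Fi22Cert.pres.Grp) ≤ toFi22.range := by
    rw [← Pres.closure_gen Fi22Cert.pres_ok, Subgroup.closure_le]
    rintro _ ⟨x, hx, rfl⟩
    have hx9 : x < 9 := hx
    have hmem : pres.gen (lets.getD x 0) ∈ Ksub := by
      rw [sub_eq_singles]
      refine Subgroup.subset_closure ⟨_, ?_, rfl⟩
      interval_cases x <;> decide
    refine ⟨⟨_, hmem⟩, ?_⟩
    show (MonoidHom.ofInjective Fi22Cert.order.2.2).symm (theta ⟨_, hmem⟩) = Fi22Cert.pres.gen x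
    rw [MulEquiv.symm_apply_eq]
    exact Subtype.ext (match_unique (exists_match _ hmem).choose_spec.2 (match_gen x hx9))
  intro y
  exact h (Subgroup.mem_top y)

theorem card_Ksub : Finite Ksub ∧ Nat.card Ksub = 129123503308800 := by
  haveI := order.1
  refine ⟨inferInstance, ?_⟩
  have := Subgroup.card_mul_index Ksub
  rw [order.2.1, stab_eq.2] at this
  omega

theorem ker_card : Nat.card toFi22.ker = 2 := by
  haveI := card_Ksub.1
  have h := Subgroup.card_mul_index toFi22.ker
  rw [Subgroup.index_ker, MonoidHom.range_eq_top.mpr toFi22_surjective,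
    Nat.card_congr Subgroup.topEquiv.toEquiv, Fi22Cert.order.2.1, card_Ksub.2] at h
  exact Nat.eq_of_mul_eq_mul_right (by norm_num : (0:ℕ) < 64561751654400)
    (h.trans (by norm_num : (129123503308800:ℕ) = 2 * 64561751654400))

theorem center_eq : Subgroup.center Ksub = toFi22.ker := by
  apply le_antisymm
  · intro z hz
    rw [MonoidHom.mem_ker]
    haveI : IsSimpleGroup Fi22Cert.pres.Grp := Fi22Cert.simple
    have hzc : toFi22 z ∈ Subgroup.center Fi22Cert.pres.Grp := Subgroup.mem_center_iff.mpr fun y => by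
      obtain ⟨x, rfl⟩ := toFi22_surjective y
      rw [← map_mul, ← map_mul, Subgroup.mem_center_iff.mp hz x]
    rcases (inferInstance : (Subgroup.center Fi22Cert.pres.Grp).Normal).eq_bot_or_eq_top with h | h
    · rw [h] at hzc; exact hzc
    · exfalso
      haveI := Fi22Cert.order.1
      letI : CommGroup Fi22Cert.pres.Grp :=
        { (inferInstance : Group Fi22Cert.pres.Grp) with
          mul_comm := fun a b => Subgroup.mem_center_iff.mp (h ▸ Subgroup.mem_top b) a }
      have hp : (Nat.card Fi22Cert.pres.Grp).Prime := IsSimpleGroup.prime_card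
      rw [Fi22Cert.order.2.1] at hp
      exact (by norm_num : ¬ Nat.Prime 64561751654400) hp
  · intro z hz
    rw [Subgroup.mem_center_iff]
    intro g
    haveI := card_Ksub.1
    by_cases hz1 : z = 1
    · subst hz1; simp
    · have hc : g * z * g⁻¹ ∈ toFi22.ker :=
        (inferInstance : toFi22.ker.Normal).conj_mem z hz g
      have hne : g * z * g⁻¹ ≠ 1 := fun e => hz1 (by simpa using e)
      obtain ⟨u, v, huv, huniv⟩ := Nat.card_eq_two_iff.mp ker_card
      have key : ∀ p q : toFi22.ker, p ≠ 1 → q ≠ 1 → p = q := by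
        intro p q hp hq
        have h1 : ∀ r : toFi22.ker, r = u ∨ r = v := fun r => by
          have : r ∈ ({u, v} : Set toFi22.ker) := huniv ▸ Set.mem_univ r
          simpa using this
        rcases h1 1 with h | h <;> rcases h1 p with h' | h' <;> rcases h1 q with h'' | h'' <;> simp_all
      have := key ⟨_, hc⟩ ⟨z, hz⟩ (fun e => hne (congrArg Subtype.val e)) (fun e => hz1 (congrArg Subtype.val e))
      have := congrArg Subtype.val this
      exact mul_inv_eq_iff_eq_mul.mp this

theorem double_cover : Cfsg.IsNonsplitDoubleCover Ksub Cfsg.Spor.Fi22 := by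
  refine ⟨by rw [center_eq]; exact ker_card,
    ⟨(QuotientGroup.quotientMulEquivOfEq center_eq).trans
      (QuotientGroup.quotientKerEquivOfSurjective _ toFi22_surjective)⟩, ?_⟩
  intro L hL
  haveI := card_Ksub.1
  have hcard := hL.card_mul
  rw [center_eq, ker_card] at hcard
  have hidx : L.index = 2 := by
    have := Subgroup.card_mul_index L
    have h0 : 0 < Nat.card L := Nat.card_pos
    exact Nat.eq_of_mul_eq_mul_left h0 (this.trans (hcard.symm.trans (mul_comm _ _)))
  haveI : L.Normal := Subgroup.normal_of_index_eq_two hidx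
  have hsq : ∀ q : Ksub ⧸ L, q ^ 2 = 1 := fun q => by
    rw [← hidx, Subgroup.index]; exact pow_card_eq_one'
  have hmem : ∀ x ∈ lets, pres.gen x ∈ Ksub := fun x hx => by
    rw [sub_eq_singles]; exact Subgroup.subset_closure ⟨x, hx, rfl⟩
  let q : ℕ → Ksub ⧸ L := fun x => if h : x ∈ lets then ((⟨_, hmem x h⟩ : Ksub) : Ksub ⧸ L) else 1
  have hq : ∀ (x : ℕ) (hx : x ∈ lets), q x = ((⟨_, hmem x hx⟩ : Ksub) : Ksub ⧸ L) := fun x hx => dif_pos hx
  have hedge : ∀ i j, i ∈ lets → j ∈ lets → i < 10 → j < 10 →
      Cfsg.Spor.coxLabel pres.edges (pres.nm i) (pres.nm j) = 3 → q i = q j := by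
    intro i j hi hj hi' hj' hl
    have h := Pres.cox_one pres_ok (i := i) (j := j) hi' hj'
    rw [hl] at h
    have h' : ((⟨_, hmem i hi⟩ : Ksub) * ⟨_, hmem j hj⟩) ^ 3 = 1 := Subtype.ext h
    have h3 := congrArg (QuotientGroup.mk' L) h'
    rw [map_pow, map_mul, map_one, QuotientGroup.mk'_apply, QuotientGroup.mk'_apply, ← hq i hi, ← hq j hj,
      pow_succ, hsq, one_mul] at h3
    rw [eq_inv_of_mul_eq_one_left h3]
    exact inv_eq_of_mul_eq_one_left (by rw [← pow_two]; exact hsq _)
  have e1 := hedge 1 0 (by decide) (by decide) (by decide) (by decide) (by decide +kernel)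
  have e2 := hedge 2 1 (by decide) (by decide) (by decide) (by decide) (by decide +kernel)
  have e3 := hedge 3 2 (by decide) (by decide) (by decide) (by decide) (by decide +kernel)
  have e4 := hedge 4 3 (by decide) (by decide) (by decide) (by decide) (by decide +kernel)
  have e5 := hedge 5 4 (by decide) (by decide) (by decide) (by decide) (by decide +kernel)
  have e6 := hedge 6 5 (by decide) (by decide) (by decide) (by decide) (by decide +kernel)
  have e8 := hedge 8 3 (by decide) (by decide) (by decide) (by decide) (by decide +kernel)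
  have e9 := hedge 9 8 (by decide) (by decide) (by decide) (by decide) (by decide +kernel)
  have hall : ∀ x ∈ lets, q x = q 0 := by
    intro x hx
    simp only [lets, List.mem_cons, List.not_mem_nil, or_false] at hx
    rcases hx with rfl | rfl | rfl | rfl | rfl | rfl | rfl | rfl | rfl <;> simp_all
  let w : List ℕ := powW 9 [0, 1, 2, 3, 4, 5, 8]
  have hw : ∀ x ∈ w, x ∈ lets := by decide +kernel
  have hrel : (w.map pres.gen).prod = 1 := Pres.relW_one pres_ok (by decide +kernel)
  have key : ∀ (l : List ℕ) (hl : ∀ x ∈ l, x ∈ lets) (hp : (l.map pres.gen).prod ∈ Ksub),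
      ((⟨_, hp⟩ : Ksub) : Ksub ⧸ L) = q 0 ^ l.length := by
    intro l
    induction l with
    | nil =>
      intro _ hp
      rw [List.length_nil, pow_zero]
      exact congrArg (QuotientGroup.mk' L) (show (⟨_, hp⟩ : Ksub) = 1 from Subtype.ext rfl) |>.trans (map_one _)
    | cons a l ih =>
      intro hl hp
      have hl' : ∀ x ∈ l, x ∈ lets := fun x hx => hl x (List.mem_cons_of_mem _ hx)
      have hp' : (l.map pres.gen).prod ∈ Ksub := list_prod_mem fun y hy => by
        obtain ⟨x, hx, rfl⟩ := List.mem_map.mp hy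
        exact hmem x (hl' x hx)
      have ha := hl a (List.mem_cons_self ..)
      rw [List.length_cons, pow_succ', ← ih hl' hp', ← hall a ha, hq a ha]
      rfl
  have hq0 : q 0 = 1 := by
    have hp : (w.map pres.gen).prod ∈ Ksub := hrel ▸ one_mem _
    have h1 := key w hw hp
    rw [show (⟨_, hp⟩ : Ksub) = 1 from Subtype.ext hrel, show w.length = 2 * 31 + 1 from rfl, pow_succ,
      pow_mul, hsq, one_pow, one_mul] at h1
    exact h1.symm
  have htop : L = ⊤ := by
    rw [eq_top_iff]
    rintro ⟨s, hs⟩ -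
    have hs' : s ∈ pres.sub lets := sub_eq_singles ▸ hs
    rw [Pres.sub] at hs'
    induction hs' using Subgroup.closure_induction with
    | mem y hy =>
      obtain ⟨x, hx, rfl⟩ := hy
      have := hall x hx
      rw [hq0, hq x hx] at this
      exact (QuotientGroup.eq_one_iff _).mp this
    | one => exact one_mem L
    | mul p r hp hr ihp ihr =>
      have hp' : p ∈ Ksub := sub_eq_singles ▸ hp
      have hr' : r ∈ Ksub := sub_eq_singles ▸ hr
      exact mul_mem (ihp hp') (ihr hr')
    | inv p hp ihp =>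
      have hp' : p ∈ Ksub := sub_eq_singles ▸ hp
      exact inv_mem (ihp hp')
  rw [htop, Subgroup.index_top] at hidx
  omega

end Cfsg.Agent.Spor.Fi23Cert.Below
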