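import Cfsg.Agent.Lib.Spor.Fi23FrameOrbDefs

/-!
The certificate for the orbits of the group of 23 commuting transpositions of Fi23.
-/

set_option autoImplicit false
set_option maxRecDepth 100000
set_option Elab.async false

namespace Cfsg.Agent.Spor.Fi23Cert.FrameOrb

open Cfsg.Agent.Spor.CC

theorem chk0 : orbs0.all orbChk = true := by decide +kernel
theorem chk1 : orbs1.all orbChk = true := by decide +kernel
theorem chk2 : orbs2.all orbChk = true := by decide +kernel
theorem chk3 : orbs3.all orbChk = true := by decide +kernel
theorem chk4 : orbs4.all orbChk = true := by decide +kernel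
theorem chk5 : orbs5.all orbChk = true := by decide +kernel

theorem cover : coverOf orbs = 2 ^ 31671 - 1 := by decide +kernel

theorem total : (orbs.map fun o => 2 ^ o.2.1.length).sum = 31671 := by decide +kernel

theorem seven_facts : sevens.length = 253 ∧ (sevens.map Prod.fst).Nodup := by decide +kernel

end Cfsg.Agent.Spor.Fi23Cert.FrameOrb
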