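import Cfsg.Agent.Lib.Spor.Fi23OutClassDefs
import Cfsg.Agent.Lib.Spor.Fi23FrameOrbData

/-!
Checks of the orbits of the group of 23 commuting transpositions of Fi23.
-/

set_option autoImplicit false
set_option maxRecDepth 100000
set_option Elab.async false

namespace Cfsg.Agent.Spor.Fi23Cert.FrameOrb

open Cfsg.Agent.Spor.CC
open Cfsg.Agent.Spor.Fi23Cert.Outer

/-- the short word of one of the 23 -/
def shortW (j : ℕ) : List ℕ := tW (shortC.getD j [])

/-- the points of an orbit -/
def ptsL (o : ℕ × List ℕ × ℕ) : List ℕ := (List.range (2 ^ o.2.1.length)).map fun i => fld o.2.2 16 i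

/-- the bits of a mask -/
def bits (F : ℕ) : List ℕ := (List.range 23).filter fun j => F.testBit j

/-- one orbit -/
noncomputable def orbChk (o : ℕ × List ℕ × ℕ) : Bool :=
  o.2.1.all (fun g => Nat.blt g 23) && Nat.blt (fld o.2.2 16 0) 31671 &&
  (List.range o.2.1.length).all (fun h => (List.range (2 ^ h)).all fun i =>
    Nat.beq (ev RepA.rows 10 (shortW (o.2.1.getD h 0)) (fld o.2.2 16 i)) (fld o.2.2 16 (2 ^ h + i))) &&
  (List.range 23).all (fun j =>
    Nat.beq (ev RepA.rows 10 (shortW j) (fld o.2.2 16 0)) (fld o.2.2 16 0) == o.1.testBit j) &&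
  (bif Nat.beq (bits o.1).length 7 then Nat.beq o.2.1.length 5 else true)

/-- all points in a bit mask -/
def coverOf (l : List (ℕ × List ℕ × ℕ)) : ℕ :=
  (l.map fun o => (ptsL o).foldl (fun a p => Nat.lor a (2 ^ p)) 0).foldl Nat.lor 0

/-- the orbits with seven fixing transpositions -/
def sevens : List (ℕ × List ℕ × ℕ) := orbs.filter fun o => Nat.beq (bits o.1).length 7

theorem short_facts : lettersOK 10 shortC = true ∧ shortC.length = 23 ∧
    (∀ j < 23, ev RepA.rows 10 (shortC.getD j []) 8004 = comP.getD j 0) := by decide +kernel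


end Cfsg.Agent.Spor.Fi23Cert.FrameOrb
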