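import Cfsg.Agent.Lib.Spor.Fi23OutClassDefs

/-!
The transposition class of Fi23 is invariant under all automorphisms.
-/

set_option autoImplicit false
set_option maxRecDepth 100000
set_option Elab.async false

namespace Cfsg.Agent.Spor.Fi23Cert.Outer

open Cfsg.Agent.Spor.CC
open Cfsg.Agent.Spor.Fi23Cert.Below

theorem mask0 : rangeOK maskChk 0 128 = true := by decide +kernel
theorem mask1 : rangeOK maskChk 128 128 = true := by decide +kernel
theorem mask2 : rangeOK maskChk 256 128 = true := by decide +kernel
theorem mask3 : rangeOK maskChk 384 128 = true := by decide +kernel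
theorem mask4 : rangeOK maskChk 512 128 = true := by decide +kernel
theorem mask5 : rangeOK maskChk 640 128 = true := by decide +kernel
theorem mask6 : rangeOK maskChk 768 128 = true := by decide +kernel
theorem mask7 : rangeOK maskChk 896 128 = true := by decide +kernel

end Cfsg.Agent.Spor.Fi23Cert.Outer
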