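import Cfsg.Agent.Lib.Spor.Fi23OutClassDefs

/-!
The transposition class of Fi23 is invariant under all automorphisms.
-/

set_option autoImplicit false
set_option maxRecDepth 100000
set_option Elab.async false

namespace Cfsg.Agent.Spor.Fi23Cert.Outer

open Cfsg.Agent.Spor.CC
open Cfsg.Agent.Spor.Fi23Cert.Below

theorem mask8 : rangeOK maskChk 1024 128 = true := by decide +kernel
theorem mask9 : rangeOK maskChk 1152 128 = true := by decide +kernel
theorem mask10 : rangeOK maskChk 1280 128 = true := by decide +kernel
theorem mask11 : rangeOK maskChk 1408 128 = true := by decide +kernel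
theorem mask12 : rangeOK maskChk 1536 128 = true := by decide +kernel
theorem mask13 : rangeOK maskChk 1664 128 = true := by decide +kernel
theorem mask14 : rangeOK maskChk 1792 128 = true := by decide +kernel
theorem mask15 : rangeOK maskChk 1920 128 = true := by decide +kernel

end Cfsg.Agent.Spor.Fi23Cert.Outer
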