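import Cfsg.Agent.Lib.Spor.Fi23OutClassCheck
import Cfsg.Agent.Lib.Spor.Fi23OutMask0
import Cfsg.Agent.Lib.Spor.Fi23OutMask1

/-!
The transposition class of Fi23 is invariant under all automorphisms.
-/

set_option autoImplicit false
set_option maxRecDepth 100000
set_option Elab.async false

namespace Cfsg.Agent.Spor.Fi23Cert.Outer

open Cfsg.Agent.Spor.CC
open Cfsg.Agent.Spor.Fi23Cert.Below

theorem mask_all {m : ℕ} (h : m < 2048) : maskChk m = true := by
  by_cases h0 : m < 128; · exact all_range mask0 (Nat.zero_le _) h0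
  by_cases h1 : m < 256; · exact all_range mask1 (by omega) h1
  by_cases h2 : m < 384; · exact all_range mask2 (by omega) h2
  by_cases h3 : m < 512; · exact all_range mask3 (by omega) h3
  by_cases h4 : m < 640; · exact all_range mask4 (by omega) h4
  by_cases h5 : m < 768; · exact all_range mask5 (by omega) h5
  by_cases h6 : m < 896; · exact all_range mask6 (by omega) h6
  by_cases h7 : m < 1024; · exact all_range mask7 (by omega) h7
  by_cases h8 : m < 1152; · exact all_range mask8 (by omega) h8
  by_cases h9 : m < 1280; · exact all_range mask9 (by omega) h9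
  by_cases h10 : m < 1408; · exact all_range mask10 (by omega) h10
  by_cases h11 : m < 1536; · exact all_range mask11 (by omega) h11
  by_cases h12 : m < 1664; · exact all_range mask12 (by omega) h12
  by_cases h13 : m < 1792; · exact all_range mask13 (by omega) h13
  by_cases h14 : m < 1920; · exact all_range mask14 (by omega) h14
  exact all_range mask15 (by omega) h

/-- the transpositions of the chosen 23 -/
noncomputable def com (j : ℕ) : pres.Grp := ((comW j).map pres.gen).prod

theorem com_sq (j : ℕ) : com j * com j = 1 := by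
  simp only [com, comW, tW, List.map_append, List.prod_append, List.map_cons, List.map_nil, List.prod_cons,
    List.prod_nil, mul_one, ← prod_rev]
  generalize ((comC.getD j []).map pres.gen).prod = C
  calc C * pres.gen 1 * C⁻¹ * (C * pres.gen 1 * C⁻¹) = C * (pres.gen 1 * pres.gen 1) * C⁻¹ := by group
    _ = 1 := by rw [Pres.gen_sq pres_ok]; group

theorem basis_comm (i j : ℕ) (hi : i < 11) (hj : j < 11) :
    Commute (com (basisI.getD i 0)) (com (basisI.getD j 0)) := by
  have h := Mult.oneOK_spec com_check
    (w := comW (basisI.getD i 0) ++ comW (basisI.getD j 0) ++ comW (basisI.getD i 0) ++ comW (basisI.getD j 0))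
    (List.mem_append.mpr (Or.inl (List.mem_flatMap.mpr
      ⟨i, List.mem_range.mpr hi, List.mem_map.mpr ⟨j, List.mem_range.mpr hj, rfl⟩⟩)))
  simp only [List.map_append, List.prod_append] at h
  show com (basisI.getD i 0) * com (basisI.getD j 0) = com (basisI.getD j 0) * com (basisI.getD i 0)
  have e := com_sq (basisI.getD i 0)
  have f := com_sq (basisI.getD j 0)
  change com _ * com _ * com _ * com _ = 1 at h
  generalize com (basisI.getD i 0) = a at *
  generalize com (basisI.getD j 0) = b at *
  calc a * b = (a * b * a * b) * (b⁻¹ * a⁻¹) := by group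
    _ = b * a := by rw [h, inv_eq_of_mul_eq_one_left e, inv_eq_of_mul_eq_one_left f, one_mul]

/-- a product of the basis given by a mask -/
noncomputable def el (n m : ℕ) : pres.Grp :=
  (((List.range n).filter fun i => m.testBit i).map fun i => com (basisI.getD i 0)).prod

theorem el_succ (n m : ℕ) : el (n + 1) m = el n m * if m.testBit n then com (basisI.getD n 0) else 1 := by
  simp only [el, List.range_succ, List.filter_append, List.map_append, List.prod_append]
  by_cases h : m.testBit n <;> simp [h]

theorem el_comm : ∀ n, n ≤ 11 → ∀ m j, j < 11 → Commute (el n m) (com (basisI.getD j 0))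
  | 0, _, m, j, _ => by simp [el]
  | n + 1, hn, m, j, hj => by
    rw [el_succ]
    refine (el_comm n (by omega) m j hj).mul_left ?_
    split
    · exact basis_comm n j (by omega) hj
    · exact Commute.one_left _

theorem el_xor : ∀ n, n ≤ 11 → ∀ a b, el n (a ^^^ b) = el n a * el n b
  | 0, _, a, b => by simp [el]
  | n + 1, hn, a, b => by
    rw [el_succ, el_succ, el_succ, el_xor n (by omega), Nat.testBit_xor]
    have hc := el_comm n (by omega) b n (by omega)
    have hs := com_sq (basisI.getD n 0)
    generalize com (basisI.getD n 0) = d at *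
    generalize el n a = A at *
    generalize el n b = B at *
    cases a.testBit n <;> cases b.testBit n <;> simp
    · group
    · calc A * B * d = A * (B * d) := by group
        _ = A * (d * B) := by rw [hc.eq]
        _ = A * d * B := by group
    · calc A * B = A * B * (d * d) := by rw [hs, mul_one]
        _ = A * (B * d) * d := by group
        _ = A * (d * B) * d := by rw [hc.eq]
        _ = A * d * (B * d) := by group

theorem prodW_el (m : ℕ) : ((prodW m).map pres.gen).prod = el 11 m := by
  rw [prodW, el, List.flatMap_def, List.map_flatten, List.prod_flatten, List.map_map, List.map_map]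
  rfl

theorem com_el {j : ℕ} (hj : j < 23) : com j = el 11 (maskOf.getD j 0) := by
  have h := Mult.oneOK_spec com_check (w := comW j ++ prodW (maskOf.getD j 0))
    (List.mem_append.mpr (Or.inr (List.mem_map.mpr ⟨j, List.mem_range.mpr hj, rfl⟩)))
  rw [List.map_append, List.prod_append, prodW_el] at h
  have h2 : el 11 (maskOf.getD j 0) * el 11 (maskOf.getD j 0) = 1 := by
    rw [← el_xor 11 le_rfl, Nat.xor_self]
    simp [el]
  exact (eq_inv_of_mul_eq_one_left h).trans (inv_eq_of_mul_eq_one_left h2)

theorem el_list : ∀ l : List ℕ, (∀ j ∈ l, j < 23) →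
    ∀ a, el 11 ((l.map fun j => maskOf.getD j 0).foldl Nat.xor a) = el 11 a * (l.map com).prod
  | [], _, a => by simp
  | j :: l, h, a => by
    rw [List.map_cons, List.foldl_cons, el_list l (fun k hk => h k (by simp [hk])),
      show Nat.xor a (maskOf.getD j 0) = a ^^^ maskOf.getD j 0 from rfl, el_xor 11 le_rfl, ← com_el (h j (by simp)),
      List.map_cons, List.prod_cons, mul_assoc]

/-- the group of the 23 transpositions -/
noncomputable def X : Subgroup pres.Grp where
  carrier := {x | ∃ m, m < 2048 ∧ x = el 11 m}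
  one_mem' := ⟨0, by norm_num, by simp [el]⟩
  mul_mem' := by
    rintro _ _ ⟨a, ha, rfl⟩ ⟨b, hb, rfl⟩
    exact ⟨a ^^^ b, Nat.xor_lt_two_pow (n := 11) ha hb, (el_xor 11 le_rfl a b).symm⟩
  inv_mem' := by
    rintro _ ⟨a, ha, rfl⟩
    refine ⟨a, ha, inv_eq_of_mul_eq_one_left ?_⟩
    rw [← el_xor 11 le_rfl, Nat.xor_self]
    simp [el]

theorem X_pgroup : IsPGroup 2 X := by
  rintro ⟨x, a, ha, rfl⟩
  refine ⟨1, Subtype.ext ?_⟩
  show el 11 a ^ 2 ^ 1 = 1
  rw [pow_one, pow_two, ← el_xor 11 le_rfl, Nat.xor_self]
  simp [el]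

theorem com_mem_X {j : ℕ} (hj : j < 23) : com j ∈ X := ⟨_, com_facts.2.2.2.1 j hj, com_el hj⟩

theorem isPt_com {j : ℕ} (hj : j < 23) : IsPt (com j) (comP.getD j 0) := by
  obtain ⟨hl, he⟩ := com_facts.2.1 j hj
  rw [← he]
  exact isPt_transp hl

theorem mem_X_of_commute {u : pres.Grp} (hu : ∀ x ∈ X, u * x = x * u) : u ∈ X := by
  haveI := order.1
  have hfix : ∀ b ∈ (chain.take 6).map Orb.b, ∀ v : Fin rep.P.n, (v : ℕ) = b → rep.hom u v = v := by
    intro b hb v hv
    obtain ⟨i, hi, rfl⟩ := List.mem_iff_getElem.mp (com_facts.2.2.2.2.1 b hb)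
    have hi' : i < 23 := com_facts.1 ▸ hi
    have hp := isPt_com hi'
    have := (hp.commute_iff u).mp (hu _ (com_mem_X hi'))
    have hv' : v = ⟨comP.getD i 0, hp.lt⟩ := Fin.ext (hv.trans (List.getD_eq_getElem (l := comP) (d := 0) hi).symm)
    rw [hv']
    exact this
  have h := chain_mem rep.valid pres.gen rep.hom rep.hom_gen chain [] chain_ok ⊤ (fun _ _ _ => trivial)
    (by rw [Nat.card_congr Subgroup.topEquiv.toEquiv, order.2.1, chain_size]) 6 u trivial hfix
  refine (Subgroup.closure_le X).mpr ?_ h
  rintro _ ⟨O, hO, w, hw, rfl⟩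
  have hmem : O.ws ∈ lastM.map (fun l => l.map prodW) := com_facts.2.2.2.2.2.1 ▸ List.mem_map_of_mem hO
  obtain ⟨l, hl, hle⟩ := List.mem_map.mp hmem
  rw [← hle] at hw
  obtain ⟨m, hm, rfl⟩ := List.mem_map.mp hw
  exact ⟨m, com_facts.2.2.2.2.2.2 l hl m hm, prodW_el m⟩

theorem class_invariant (φ : MulAut pres.Grp) : φ tA ∈ conjugatesOf tA := by
  haveI := order.1
  let u0 := φ tA
  let E : Set pres.Grp := {u | IsConj u0 u}
  have hE : E = φ '' conjugatesOf tA := by
    ext u
    constructor
    · intro hu
      obtain ⟨c, hc⟩ := isConj_iff.mp hu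
      refine ⟨φ.symm u, isConj_iff.mpr ⟨φ.symm c, ?_⟩, φ.apply_symm_apply u⟩
      rw [← hc]
      simp [u0]
    · rintro ⟨d, hd, rfl⟩
      exact MonoidHom.map_isConj φ.toMonoidHom hd
  have hcardE : Nat.card E = 31671 := by
    rw [hE, Nat.card_image_of_injective φ.injective]
    exact card_class
  have htrans : ∀ d ∈ E, ∀ e ∈ E, (d * e) ^ 2 = 1 ∨ (d * e) ^ 3 = 1 := by
    rw [hE]
    rintro _ ⟨d, hd, rfl⟩ _ ⟨e, he, rfl⟩
    rcases class_transp.1.2 d hd e he with h | h
    · exact Or.inl (by rw [← map_mul, ← map_pow, h, map_one])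
    · exact Or.inr (by rw [← map_mul, ← map_pow, h, map_one])
  letI : MulAction X E :=
    { smul := fun x u => ⟨(x : pres.Grp) * (u : pres.Grp) * (x : pres.Grp)⁻¹,
        IsConj.trans u.2 (isConj_iff.mpr ⟨(x : pres.Grp), rfl⟩)⟩
      one_smul := fun u => Subtype.ext (show (1 : pres.Grp) * u.1 * (1 : pres.Grp)⁻¹ = u.1 by simp)
      mul_smul := fun x y u => Subtype.ext (show (x.1 * y.1) * u.1 * (x.1 * y.1)⁻¹ =
        x.1 * (y.1 * u.1 * y.1⁻¹) * x.1⁻¹ by group) }
  haveI : Fact (Nat.Prime 2) := ⟨Nat.prime_two⟩
  obtain ⟨u, hu⟩ := X_pgroup.nonempty_fixed_point_of_prime_not_dvd_card E (by rw [hcardE]; norm_num)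
  have hcomm : ∀ x ∈ X, (u : pres.Grp) * x = x * u := fun x hx => by
    have h : x * (u : pres.Grp) * x⁻¹ = u := congrArg Subtype.val (hu ⟨x, hx⟩)
    exact (mul_inv_eq_iff_eq_mul.mp h).symm
  obtain ⟨m, hm, hum⟩ := mem_X_of_commute hcomm
  have hne : (u : pres.Grp) ≠ 1 := by
    intro e
    have h := u.2
    rw [e] at h
    have h' : u0 = 1 := isConj_one_left.mp h
    exact tA_ne_one (φ.injective (h'.trans (map_one φ).symm))
  have hchk := mask_all hm
  simp only [maskChk, Bool.and_eq_true, List.all_eq_true] at hchk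
  obtain ⟨⟨hlt, hx⟩, hw⟩ := hchk
  have hlt' : ∀ j ∈ repL m, j < 23 := fun j hj => Nat.le_of_ble_eq_true (hlt j hj)
  have hud : (u : pres.Grp) = ((repL m).map com).prod := by
    rw [hum]
    conv_lhs => rw [← Nat.eq_of_beq_eq_true hx]
    rw [el_list _ hlt']
    simp [el]
  cases hb : Nat.ble 2 (repL m).length with
  | false =>
    simp only [hb, cond_false, Bool.or_eq_true] at hw
    rcases hw with h0 | h1
    · exact absurd (by rw [hum, Nat.eq_of_beq_eq_true h0]; simp [el]) hne
    · obtain ⟨j, hj⟩ := List.length_eq_one_iff.mp (Nat.eq_of_beq_eq_true h1)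
      have hcj : (u : pres.Grp) = com j := by rw [hud, hj]; simp
      have hmem : com j ∈ conjugatesOf tA :=
        transp_mem (com_facts.2.1 j (hlt' j (by simp [hj]))).1
      have h2 : IsConj u0 (com j) := hcj ▸ u.2
      exact IsConj.trans hmem h2.symm
  | true =>
    exfalso
    simp only [hb, cond_true, Bool.and_eq_true, Bool.not_eq_true'] at hw
    generalize hg : witG.getD (Nat.land (fld witT 44 m) 4095) [] = g at hw
    generalize Nat.land (Nat.shiftRight (fld witT 44 m) 12) 65535 = a at hw
    generalize Nat.shiftRight (fld witT 44 m) 28 = b at hw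
    obtain ⟨⟨⟨hgl, ha⟩, hb'⟩, h2, h3⟩ := hw
    have hwl : ∀ x ∈ (repL m).flatMap comW ++ g ++ (repL m).flatMap comW ++ g.reverse, x < 10 := by
      intro x hx
      have hcom : ∀ x ∈ (repL m).flatMap comW, x < 10 := by
        intro x hx
        obtain ⟨j, hj, hxj⟩ := List.mem_flatMap.mp hx
        simp only [comW, tW, List.mem_append, List.mem_singleton, List.mem_reverse] at hxj
        have hcl := (com_facts.2.1 j (hlt' j hj)).1
        rcases hxj with (h | rfl) | h
        · exact lettersOK_spec hcl (List.mem_singleton_self _) h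
        · norm_num
        · exact lettersOK_spec hcl (List.mem_singleton_self _) h
      simp only [List.mem_append, List.mem_reverse] at hx
      rcases hx with ((h | h) | h) | h
      · exact hcom x h
      · exact lettersOK_spec hgl (List.mem_singleton_self _) h
      · exact hcom x h
      · exact lettersOK_spec hgl (List.mem_singleton_self _) h
    have hval : ((((repL m).flatMap comW ++ g ++ (repL m).flatMap comW ++ g.reverse).map pres.gen).prod) =
        (u : pres.Grp) * ((g.map pres.gen).prod * u * ((g.map pres.gen).prod)⁻¹) := by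
      have e : (((repL m).flatMap comW).map pres.gen).prod = (u : pres.Grp) := by
        rw [hud, List.flatMap_def, List.map_flatten, List.prod_flatten, List.map_map, List.map_map]
        rfl
      simp only [List.map_append, List.prod_append, e, ← prod_rev, mul_assoc]
    have hu' : (g.map pres.gen).prod * (u : pres.Grp) * ((g.map pres.gen).prod)⁻¹ ∈ E :=
      IsConj.trans u.2 (isConj_iff.mpr ⟨_, rfl⟩)
    rcases htrans _ u.2 _ hu' with h | h <;> rw [← hval] at h
    · have e := congrArg (fun p => ((rep.hom p ⟨a, Nat.le_of_ble_eq_true ha⟩ : Fin rep.P.n) : ℕ)) h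
      simp only [pow_two, map_mul, Equiv.Perm.mul_apply, map_one, Equiv.Perm.one_apply,
        ev_eq rep.valid pres.gen rep.hom rep.hom_gen hwl] at e
      exact Bool.false_ne_true (h2.symm.trans (Nat.beq_eq.mpr e))
    · have e := congrArg (fun p => ((rep.hom p ⟨b, Nat.le_of_ble_eq_true hb'⟩ : Fin rep.P.n) : ℕ)) h
      simp only [pow_succ, pow_zero, one_mul, map_mul, Equiv.Perm.mul_apply, map_one, Equiv.Perm.one_apply,
        ev_eq rep.valid pres.gen rep.hom rep.hom_gen hwl] at e
      exact Bool.false_ne_true (h3.symm.trans (Nat.beq_eq.mpr e))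

end Cfsg.Agent.Spor.Fi23Cert.Outer
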