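import Cfsg.Agent.Lib.Spor.Fi23FrameOrbCheck
import Cfsg.Agent.Lib.Spor.Fi23OutClass

/-!
The transpositions of Fi23 commuting with exactly seven of the 23: there are 8096, in orbits of length 32.
-/

set_option autoImplicit false
set_option maxRecDepth 100000
set_option Elab.async false

namespace Cfsg.Agent.Spor.Fi23Cert.FrameOrb

open Cfsg.Agent.Spor.CC
open Cfsg.Agent.Spor.Fi23Cert.Below
open Cfsg.Agent.Spor.Fi23Cert.Outer

theorem chk_all {o : ℕ × List ℕ × ℕ} (ho : o ∈ orbs) : orbChk o = true := by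
  simp only [orbs, List.mem_append] at ho
  rcases ho with ((((h | h) | h) | h) | h) | h
  exacts [List.all_eq_true.mp chk0 o h, List.all_eq_true.mp chk1 o h, List.all_eq_true.mp chk2 o h,
    List.all_eq_true.mp chk3 o h, List.all_eq_true.mp chk4 o h, List.all_eq_true.mp chk5 o h]

theorem testBit_foldl_lor : ∀ (l : List ℕ) (a i : ℕ),
    (l.foldl Nat.lor a).testBit i = true ↔ a.testBit i = true ∨ ∃ x ∈ l, x.testBit i = true
  | [], a, i => by simp
  | x :: l, a, i => by
    rw [List.foldl_cons, testBit_foldl_lor l, show Nat.lor a x = a ||| x from rfl, Nat.testBit_lor]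
    simp [or_assoc]

theorem testBit_points : ∀ (l : List ℕ) (a i : ℕ),
    (l.foldl (fun a p => Nat.lor a (2 ^ p)) a).testBit i = true ↔ a.testBit i = true ∨ i ∈ l
  | [], a, i => by simp
  | x :: l, a, i => by
    rw [List.foldl_cons, testBit_points l, show Nat.lor a (2 ^ x) = a ||| 2 ^ x from rfl, Nat.testBit_lor,
      Nat.testBit_two_pow]
    simp only [Bool.or_eq_true, decide_eq_true_eq, List.mem_cons, @eq_comm _ x i, or_assoc]

/-- all points -/
def allPts : List ℕ := orbs.flatMap ptsL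

theorem allPts_length : allPts.length = 31671 := by
  rw [allPts, List.length_flatMap]
  simp only [ptsL, List.length_map, List.length_range]
  exact total

theorem mem_allPts {p : ℕ} (hp : p < 31671) : p ∈ allPts := by
  have h : (coverOf orbs).testBit p = true := by rw [cover, Nat.testBit_two_pow_sub_one]; simpa
  rw [coverOf, testBit_foldl_lor] at h
  rcases h with h | ⟨x, hx, h⟩
  · simp at h
  obtain ⟨o, ho, rfl⟩ := List.mem_map.mp hx
  rw [testBit_points] at h
  rcases h with h | h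
  · simp at h
  · exact List.mem_flatMap.mpr ⟨o, ho, h⟩

theorem allPts_nodup : allPts.Nodup := by
  refine List.dedup_eq_self.mp ((List.dedup_sublist _).eq_of_length_le ?_)
  rw [← List.card_toFinset]
  rw [allPts_length, ← Finset.card_range 31671]
  exact Finset.card_le_card fun p hp => List.mem_toFinset.mpr (mem_allPts (Finset.mem_range.mp hp))

theorem exists_elem {p : ℕ} (hp : p < 31671) : ∃ u, u ∈ conjugatesOf tA ∧ IsPt u p := by
  haveI := order.1
  choose f hf using fun u : conjugatesOf tA => exists_pt u.2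
  let F : conjugatesOf tA → Fin 31671 := fun u => ⟨f u, (hf u).lt⟩
  have hinj : Function.Injective F := fun a b h => Subtype.ext ((hf a).inj (by rw [show f a = f b from Fin.val_eq_of_eq h]; exact hf b))
  haveI := Fintype.ofFinite (conjugatesOf tA)
  have hb : Function.Bijective F := (Fintype.bijective_iff_injective_and_card F).mpr
    ⟨hinj, by rw [← Nat.card_eq_fintype_card, Fi23Cert.Below.card_class, Fintype.card_fin]⟩
  obtain ⟨u, hu⟩ := hb.2 ⟨p, hp⟩
  exact ⟨u, u.2, by rw [show p = f u from (Fin.val_eq_of_eq hu).symm]; exact hf u⟩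

theorem short_letters {j : ℕ} (hj : j < 23) : ∀ x ∈ shortW j, x < 10 := by
  intro x hx
  have hm : shortC.getD j [] ∈ shortC := by
    have hl := short_facts.2.1
    rw [List.getD_eq_getElem _ _ (by omega)]
    exact List.getElem_mem _
  simp only [shortW, tW, List.mem_append, List.mem_singleton, List.mem_reverse] at hx
  rcases hx with (h | rfl) | h
  · exact lettersOK_spec short_facts.1 hm h
  · norm_num
  · exact lettersOK_spec short_facts.1 hm h

theorem com_short {j : ℕ} (hj : j < 23) : com j = ((shortW j).map pres.gen).prod := by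
  have hm : shortC.getD j [] ∈ shortC := by
    have hl := short_facts.2.1
    rw [List.getD_eq_getElem _ _ (by omega)]
    exact List.getElem_mem _
  have hc : lettersOK 10 [shortC.getD j []] = true := by
    simp only [lettersOK, List.all_cons, List.all_nil, Bool.and_true]
    exact List.all_eq_true.mp short_facts.1 _ hm
  have h := isPt_transp hc
  rw [short_facts.2.2 j hj] at h
  exact (isPt_com hj).inj h

theorem com_act {j : ℕ} (hj : j < 23) (u : Fin rep.P.n) :
    (rep.hom (com j) u : ℕ) = ev RepA.rows 10 (shortW j) u := by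
  rw [com_short hj]
  exact ev_eq rep.valid pres.gen rep.hom rep.hom_gen (short_letters hj) u

theorem com_commutes {i : ℕ} (hi : i < 23) {x : pres.Grp} (hx : x ∈ X) : Commute (com i) x := by
  obtain ⟨m, -, rfl⟩ := hx
  show com i * el 11 m = el 11 m * com i
  rw [com_el hi, ← el_xor 11 le_rfl, ← el_xor 11 le_rfl, Nat.xor_comm]

variable {o : ℕ × List ℕ × ℕ}

theorem orb_spec (ho : o ∈ orbs) :
    fld o.2.2 16 0 < 31671 ∧
    (∀ h < o.2.1.length, o.2.1.getD h 0 < 23 ∧ ∀ i < 2 ^ h,
      ev RepA.rows 10 (shortW (o.2.1.getD h 0)) (fld o.2.2 16 i) = fld o.2.2 16 (2 ^ h + i)) ∧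
    (∀ j < 23, (ev RepA.rows 10 (shortW j) (fld o.2.2 16 0) = fld o.2.2 16 0 ↔ o.1.testBit j = true)) ∧
    ((bits o.1).length = 7 → o.2.1.length = 5) := by
  have h := chk_all ho
  simp only [orbChk, Bool.and_eq_true, List.all_eq_true, List.mem_range, beq_iff_eq] at h
  obtain ⟨⟨⟨⟨h1, h2⟩, h3⟩, h4⟩, h5⟩ := h
  refine ⟨Nat.le_of_ble_eq_true h2, fun k hk => ⟨Nat.le_of_ble_eq_true (h1 _ ?_), fun i hi =>
    Nat.eq_of_beq_eq_true (h3 k hk i hi)⟩, fun j hj => ?_, fun h7 => ?_⟩
  · rw [List.getD_eq_getElem _ _ hk]; exact List.getElem_mem _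
  · have := h4 j hj
    constructor
    · intro e; rw [← this, e, Nat.beq_refl]
    · intro e; rw [e] at this; exact Nat.eq_of_beq_eq_true this
  · rw [h7, Nat.beq_refl] at h5
    exact Nat.eq_of_beq_eq_true h5

theorem reach (ho : o ∈ orbs) {r : pres.Grp} (hr : IsPt r (fld o.2.2 16 0)) :
    ∀ h ≤ o.2.1.length, ∀ i < 2 ^ h, ∃ x ∈ X, IsPt (x * r * x⁻¹) (fld o.2.2 16 i) := by
  intro h
  induction h with
  | zero =>
    intro _ i hi
    obtain rfl : i = 0 := by simpa using hi
    exact ⟨1, one_mem _, by simpa using hr⟩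
  | succ h ih =>
    intro hh i hi
    by_cases hlt : i < 2 ^ h
    · exact ih (by omega) i hlt
    obtain ⟨x, hx, hxp⟩ := ih (by omega) (i - 2 ^ h) (by rw [pow_succ] at hi; omega)
    obtain ⟨hg, hstep⟩ := (orb_spec ho).2.1 h (by omega)
    refine ⟨com (o.2.1.getD h 0) * x, mul_mem (com_mem_X hg) hx, ?_⟩
    have hp := hxp.conj (com (o.2.1.getD h 0)) hxp.lt
    have e : (rep.hom (com (o.2.1.getD h 0)) ⟨_, hxp.lt⟩ : ℕ) = fld o.2.2 16 i := by
      rw [com_act hg]
      have := hstep (i - 2 ^ h) (by rw [pow_succ] at hi; omega)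
      rw [Nat.add_sub_cancel' (not_lt.mp hlt)] at this
      exact this
    rw [e] at hp
    convert hp using 1
    group

theorem rep_elem (ho : o ∈ orbs) : ∃ r ∈ conjugatesOf tA, IsPt r (fld o.2.2 16 0) :=
  exists_elem (orb_spec ho).1

theorem mask_of (ho : o ∈ orbs) {u : pres.Grp} {p : ℕ} (hu : IsPt u p) (hp : p ∈ ptsL o) :
    ∀ j < 23, (Commute (com j) u ↔ o.1.testBit j = true) := by
  intro j hj
  obtain ⟨r, -, hr⟩ := rep_elem ho
  obtain ⟨i, hi, rfl⟩ := List.mem_map.mp hp
  obtain ⟨x, hx, hxr⟩ := reach ho hr _ le_rfl i (List.mem_range.mp hi)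
  rw [hu.inj hxr]
  have hc := com_commutes hj hx
  conv_lhs => rw [show com j = x * com j * x⁻¹ by rw [← hc.eq, mul_inv_cancel_right]]
  rw [Commute.conj_iff, ← (orb_spec ho).2.2.1 j hj]
  show com j * r = r * com j ↔ _
  rw [hr.commute_iff, Fin.ext_iff, com_act hj]

theorem orbit_of {u : pres.Grp} (hu : u ∈ conjugatesOf tA) :
    ∃ o ∈ orbs, ∃ p ∈ ptsL o, IsPt u p := by
  obtain ⟨p, hp⟩ := exists_pt hu
  obtain ⟨o, ho, hpo⟩ := List.mem_flatMap.mp (mem_allPts hp.lt)
  exact ⟨o, ho, p, hpo, hp⟩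

/-- the transpositions commuting with exactly seven of the 23 -/
def sevenSet : Set pres.Grp :=
  {u | u ∈ conjugatesOf tA ∧ {j | j < 23 ∧ Commute (com j) u}.ncard = 7}

theorem fix_card (ho : o ∈ orbs) {u : pres.Grp} {p : ℕ} (hu : IsPt u p) (hp : p ∈ ptsL o) :
    {j | j < 23 ∧ Commute (com j) u}.ncard = (bits o.1).length := by
  classical
  have e : {j | j < 23 ∧ Commute (com j) u} = ↑(bits o.1).toFinset := by
    ext j
    simp only [bits, Set.mem_setOf_eq, List.coe_toFinset, List.mem_filter, List.mem_range]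
    exact ⟨fun h => ⟨h.1, (mask_of ho hu hp j h.1).1 h.2⟩, fun h => ⟨h.1, (mask_of ho hu hp j h.1).2 h.2⟩⟩
  rw [e, Set.ncard_coe_finset]
  exact List.toFinset_card_of_nodup (List.Nodup.filter _ List.nodup_range)

theorem ncard_sevenSet : sevenSet.ncard = 8096 := by
  classical
  set L := sevens.flatMap ptsL with hL
  have hnd : L.Nodup := List.Nodup.sublist (List.Sublist.flatMap List.filter_sublist _) allPts_nodup
  have hlen : L.length = 8096 := by
    rw [hL, List.length_flatMap]
    have : sevens.map (fun o => (ptsL o).length) = List.replicate 253 32 := by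
      rw [List.eq_replicate_iff]
      refine ⟨by rw [List.length_map, seven_facts.1], fun b hb => ?_⟩
      obtain ⟨o, ho, rfl⟩ := List.mem_map.mp hb
      obtain ⟨ho1, ho2⟩ := List.mem_filter.mp ho
      rw [ptsL, List.length_map, List.length_range, (orb_spec ho1).2.2.2 (Nat.eq_of_beq_eq_true ho2)]
      norm_num
    rw [this, List.sum_replicate]
    norm_num
  rw [← hlen, ← List.toFinset_card_of_nodup hnd, ← Set.ncard_coe_finset]
  have hseven : ∀ o ∈ orbs, ∀ (u : pres.Grp) (p : ℕ), IsPt u p → p ∈ ptsL o →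
      ({j | j < 23 ∧ Commute (com j) u}.ncard = 7 ↔ o ∈ sevens) := fun o ho u p hu hp => by
    rw [fix_card ho hu hp]
    exact ⟨fun h => List.mem_filter.mpr ⟨ho, by rw [h]; rfl⟩,
      fun h => Nat.eq_of_beq_eq_true (List.mem_filter.mp h).2⟩
  refine Set.ncard_congr (fun u hu => (orbit_of hu.1).choose_spec.2.choose) ?_ ?_ ?_
  · intro u hu
    obtain ⟨ho, hp⟩ := (orbit_of hu.1).choose_spec
    obtain ⟨hpo, hup⟩ := hp.choose_spec
    rw [List.coe_toFinset]
    exact List.mem_flatMap.mpr ⟨_, (hseven _ ho u _ hup hpo).mp hu.2, hpo⟩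
  · intro u v hu hv h
    exact ((orbit_of hu.1).choose_spec.2.choose_spec.2).inj
      (h ▸ (orbit_of hv.1).choose_spec.2.choose_spec.2)
  · intro p hp
    rw [List.coe_toFinset] at hp
    obtain ⟨o, ho, hpo⟩ := List.mem_flatMap.mp hp
    have ho' := (List.mem_filter.mp ho).1
    have hlt : p < 31671 := by
      obtain ⟨r, -, hr⟩ := rep_elem ho'
      obtain ⟨i, hi, rfl⟩ := List.mem_map.mp hpo
      obtain ⟨x, -, hxr⟩ := reach ho' hr _ le_rfl i (List.mem_range.mp hi)
      exact hxr.lt
    obtain ⟨u, hu, hup⟩ := exists_elem hlt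
    refine ⟨u, ⟨hu, (hseven o ho' u p hup hpo).mpr ho⟩, ?_⟩
    exact (orbit_of hu).choose_spec.2.choose_spec.2.unique hup

theorem orbit_card {u : pres.Grp} (hu : u ∈ sevenSet) :
    ((fun x : pres.Grp => x * u * x⁻¹) '' (X : Set pres.Grp)).ncard = 32 := by
  classical
  obtain ⟨o, ho, p, hpo, hup⟩ := orbit_of hu.1
  have h7 : (bits o.1).length = 7 := (fix_card ho hup hpo).symm.trans hu.2
  have hsv : o ∈ sevens := List.mem_filter.mpr ⟨ho, by rw [h7]; rfl⟩
  have hnd : (ptsL o).Nodup :=
    allPts_nodup.sublist (by rw [allPts]; exact List.sublist_flatten_of_mem (List.mem_map_of_mem ho))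
  have hlen : (ptsL o).length = 32 := by
    rw [ptsL, List.length_map, List.length_range, (orb_spec ho).2.2.2 h7]; norm_num
  obtain ⟨r, -, hr⟩ := rep_elem ho
  obtain ⟨iu, hiu, hiup⟩ := List.mem_map.mp hpo
  obtain ⟨xu, hxu, hxur⟩ := reach ho hr _ le_rfl iu (List.mem_range.mp hiu)
  rw [hiup] at hxur
  have hur : u = xu * r * xu⁻¹ := hup.inj hxur
  rw [← hlen, ← List.toFinset_card_of_nodup hnd, ← Set.ncard_coe_finset]
  have key : ∀ x ∈ X, ∃ q ∈ ptsL o, IsPt (x * u * x⁻¹) q := by
    intro x hx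
    have hcl : x * u * x⁻¹ ∈ conjugatesOf tA := by
      obtain ⟨g, rfl⟩ := isConj_iff.mp hu.1
      exact isConj_iff.mpr ⟨x * g, by group⟩
    obtain ⟨o', ho', q, hq, hxq⟩ := orbit_of hcl
    have hb : bits o'.1 = bits o.1 := by
      refine List.filter_congr fun j hj => ?_
      have hj' := List.mem_range.mp hj
      rw [Bool.eq_iff_iff, ← mask_of ho' hxq hq j hj', ← mask_of ho hup hpo j hj']
      have hc := com_commutes hj' hx
      conv_lhs => rw [show com j = x * com j * x⁻¹ by rw [← hc.eq, mul_inv_cancel_right]]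
      exact Commute.conj_iff x
    have hsv' : o' ∈ sevens := List.mem_filter.mpr ⟨ho', by rw [hb, h7]; rfl⟩
    have hF : o'.1 = o.1 := by
      apply Nat.eq_of_testBit_eq
      intro j
      have hlim : ∀ s ∈ sevens, s.1 < 2 ^ 23 := by decide +kernel
      by_cases hj : j < 23
      · have := congrArg (j ∈ ·) hb
        simp only [bits, List.mem_filter, List.mem_range, hj, true_and, eq_iff_iff] at this
        exact Bool.eq_iff_iff.mpr this
      · rw [Nat.testBit_lt_two_pow ((hlim _ hsv').trans_le (Nat.pow_le_pow_right (by norm_num) (not_lt.mp hj))),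
          Nat.testBit_lt_two_pow ((hlim _ hsv).trans_le (Nat.pow_le_pow_right (by norm_num) (not_lt.mp hj)))]
    exact ⟨q, List.inj_on_of_nodup_map seven_facts.2 hsv' hsv hF ▸ hq, hxq⟩
  symm
  refine Set.ncard_congr (fun q hq => ?_) ?_ ?_ ?_
  · exact (exists_elem (show q < 31671 from by
      rw [List.coe_toFinset] at hq
      obtain ⟨i, hi, rfl⟩ := List.mem_map.mp hq
      obtain ⟨x, -, hxr⟩ := reach ho hr _ le_rfl i (List.mem_range.mp hi)
      exact hxr.lt)).choose
  · intro q hq
    have hspec := (exists_elem (p := q) (by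
      rw [List.coe_toFinset] at hq
      obtain ⟨i, hi, rfl⟩ := List.mem_map.mp hq
      obtain ⟨x, -, hxr⟩ := reach ho hr _ le_rfl i (List.mem_range.mp hi)
      exact hxr.lt)).choose_spec.2
    rw [List.coe_toFinset] at hq
    obtain ⟨i, hi, rfl⟩ := List.mem_map.mp hq
    obtain ⟨x, hx, hxr⟩ := reach ho hr _ le_rfl i (List.mem_range.mp hi)
    refine ⟨x * xu⁻¹, mul_mem hx (inv_mem hxu), ?_⟩
    show x * xu⁻¹ * u * (x * xu⁻¹)⁻¹ = _
    rw [hur, hspec.inj hxr]
    group
  · intro a b ha hb h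
    have hlt : ∀ q ∈ (↑(ptsL o).toFinset : Set ℕ), q < 31671 := by
      intro q hq
      rw [List.coe_toFinset] at hq
      obtain ⟨i, hi, rfl⟩ := List.mem_map.mp hq
      obtain ⟨x, -, hxr⟩ := reach ho hr _ le_rfl i (List.mem_range.mp hi)
      exact hxr.lt
    exact IsPt.unique ((exists_elem (hlt a ha)).choose_spec.2) (h ▸ (exists_elem (hlt b hb)).choose_spec.2)
  · rintro _ ⟨x, hx, rfl⟩
    obtain ⟨q, hq, hxq⟩ := key x hx
    exact ⟨q, by rw [List.coe_toFinset]; exact hq, (exists_elem hxq.lt).choose_spec.2.inj hxq⟩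

end Cfsg.Agent.Spor.Fi23Cert.FrameOrb
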