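import Cfsg.Agent.Lib.Spor.Fi23FrameOrbMain

/-!
A transposition of Fi23 commutes with 1, 7 or all of the 23 commuting ones.
-/

set_option autoImplicit false
set_option maxRecDepth 100000
set_option Elab.async false

namespace Cfsg.Agent.Spor.Fi23Cert.FrameOrb

open Cfsg.Agent.Spor.CC
open Cfsg.Agent.Spor.Fi23Cert.Below

/-- the number of fixing transpositions of an orbit -/
noncomputable def popOK (o : ℕ × List ℕ × ℕ) : Bool :=
  Nat.beq (bits o.1).length 1 || Nat.beq (bits o.1).length 7 || Nat.beq (bits o.1).length 23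

theorem pop_all : orbs.all popOK = true := by decide +kernel

theorem ncard_fix_cases {u : pres.Grp} (hu : u ∈ conjugatesOf tA) :
    {j | j < 23 ∧ Commute (Outer.com j) u}.ncard = 1 ∨ {j | j < 23 ∧ Commute (Outer.com j) u}.ncard = 7 ∨
      {j | j < 23 ∧ Commute (Outer.com j) u}.ncard = 23 := by
  obtain ⟨o, ho, p, hp, hup⟩ := orbit_of hu
  rw [fix_card ho hup hp]
  have := List.all_eq_true.mp pop_all o ho
  simp only [popOK, Bool.or_eq_true] at this
  rcases this with (h | h) | h
  exacts [Or.inl (Nat.eq_of_beq_eq_true h), Or.inr (Or.inl (Nat.eq_of_beq_eq_true h)),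
    Or.inr (Or.inr (Nat.eq_of_beq_eq_true h))]

end Cfsg.Agent.Spor.Fi23Cert.FrameOrb
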