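import Cfsg.Agent.Lib.Spor.Fi23IdxE7Data

/-!
Coset certificate `IdxE7` of Fi23: checks.
-/

set_option autoImplicit false
set_option maxRecDepth 100000

namespace Cfsg.Agent.Spor.Fi23Cert.IdxE7

open Cfsg.Agent.Spor.CC

/-- checked entries -/
def edL10 : List ℕ := [
0x229ec01,
0x17f7001,
0x61a401,
0x229d401,
0x921401,
0x229b401,
0x2336401,
0x2337401,
0x229fc01,
0x1778801,
0xd46401,
0x61ac01,
0x628801,
0x436e01f87c02,
0x11b7c01,
0x629001,
0x845e00e1a822a0403,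
0x17ca801,
0x910c01,
0x90b001,
0x2338401,
0x421082339402,
0x2315801,
0x61b401,
0xc6fc01,
0x165a001,
0x61bc01,
0xfd6c01,
0x2266c01,
0x2198c01,
0x2196c01,
0x219b401,
0xc6a401,
0x1ba6001,
0x61c401,
0x2194401,
0x91fc01,
0x2043401,
0xfd7401,
0x404601d3d002,
0xc6e401,
0x1c1c001,
0x83b500f0802026c03,
0x61cc01,
0x629801,
0x3f28020e0c02,
0xfd8401,
0x62a001,
0xc6d401,
0x1c19801,
0x910401,
0x90a801,
0x404601d3c802,
0x3f25020cf402,
0x2355001,
0x61d401,
0x10abc0236804505021a2c04,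
0x1a97001,
0x61dc01,
0xfcd401,
0x85fa00f9d0206ac03,
0x4504021a2c02,
0x1017821a2c02,
0x4371021a2c02,
0x84b800dec821a8403,
0xe39401,
0x61e401,
0x206cc01,
0x91ec01,
0x2044c01,
0xfcb401,
0x2066c01,
0x234e801,
0xe3ac01,
0x90fc01,
0x206ec01,
0x206d401,
0xc5fc01,
0x62a801,
0x61ec01,
0x2336c01,
0xd33401,
0x61f401,
0xfd2c01,
0x417381dfe002,
0x22f4c01,
0x21cf401,
0xbba401,
0x8a9200e29022ee803,
0x14f7001,
0x61fc01,
0x44cc0067e802,
0x91dc01,
0x21a8c01,
0xfd2401,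
0x439082313c02,
0x7dfe03e6f820e7403,
0x14f7801,
0x90f401,
0x3a92820e7402,
0x872103a93820e7403,
0x3ff8820e7402,
0x407601cb9802,
0x620401,
0xc6e801,
0xe3e401,
0xd4b801,
0x40780203ac02,
0x620c01,
0x39878203ac02,
0xd038203ac02,
0x80e9039888203ac03,
0xc6d801,
0xe3d401,
0xd47801,
0x90ec01,
0x203c801,
0x435a82351c02,
0x203f801,
0x621401,
0x1c20001,
0xe3c001,
0x1595001,
0x2070401,
0x206fc01,
0x2070c01,
0x621c01,
0xfca401,
0xd15c01,
0x165a801,
0x90e401,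
0x2280801,
0x2281001,
0x622401,
0x2315401,
0x42ba02281802,
0xd16401,
0x1658001,
0x435a81cb8002,
0x842101035821adc03,
0x21acc01,
0x21b8401,
0x622c01,
0x436e021b6c02,
0xd15401,
0x22b3001,
0x623401,
0x46ab80676002,
0x8966011a182285403,
0x21f3401,
0x435a80675802,
0x21a9801,
0xd18401,
0x1ba3001,
0x623c01,
0x4076021aa402,
0x21a3c01,
0x919c01,
0x2045c01,
0x21a9401,
0xd17c01,
0x1ba5001,
0x46ab81cb9002,
0x624401,
0x3a9a82025402,
0x407602367402,
0x46ac82025402,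
0x404c81d1e002,
0xd18c01,
0x1ba6801,
0x90dc01,
0x404c80782002,
0x936c01,
0x21aac01,
0x2040401,
0x624c01,
0x3a0b820fd402,
0x1a96801,
0x90d401,
0x857400e81020fd403,
0x84210103302053c03,
0x625401,
0x3e4f02053c02,
0x3a0d820fd402,
0x21a4401,
0x408f81cac802,
0x625c01,
0x2058401,
0xd05c01,
0x917c01,
0x2047401,
0x204c401,
0x439082314402,
0xf03c01,
0x90cc01,
0x2335c01,
0x933401,
0x2058c01,
0x2059c01,
0x626401,
0x2354001,
0xf0e401,
0x2353801,
0x2046801,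
0x2066401,
0x407481cb4802,
0x626c01,
0xfca801,
0x86b50396f02037803,
0x14f4001,
0x406d01cb6802,
0x90c401,
0x86dc0396682037803,
0x41ad01f93402,
0xce682037802,
0x627401,
0x8d570397102039c03,
0x14f5001,
0x407480674002,
0xce782039c02,
0x407b806be802,
0x46a902039c02,
0x627c01,
0x407600676802,
0x8bca00e160205cc03,
0xe1b401,
0x106b401bf003e1d82035404,
0x111d82035402,
0x206f001,
0x90bc01,
0x628401,
0x7e5803e1d82035403,
0x2354401,
0x177a801,
0xd4bc01,
0x43540203b402,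
0x628c01,
0x46ce0203b402,
0x39738203b402,
0xced8203b402,
0x817200e16822f2c03,
0x1777801,
0xd47c01,
0x90b401,
0xd7d8203d802,
0x21b8001,
0x2315001,
0x629401,
0xc6ec01,
0x1c1d001,
0x2353c01,
0xf0482026002,
0x629c01,
0x407302354c02,
0x2355401,
0x404a01d4d802,
0xc6dc01,
0x1c1e001,
0x101a807c3a00df8820d6c04,
0x90ac01,
0x404a01d4d002,
0x3f26020d6c02,
0x2040001,
0x62a401,
0x80e60397182355803,
0xe3c401,
0x397282355802,
0xcec82355802,
0x206f401,
0x407501cc3802,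
0x62ac01,
0xfcac01]

theorem edOK10 : edgesOK dat 18172 edL10 25000 = true := by decide +kernel

end Cfsg.Agent.Spor.Fi23Cert.IdxE7
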