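import Cfsg.Agent.Lib.Spor.Fi23Pres

/-!
Coset certificate `IdxOne` of Fi23: data.
-/

set_option autoImplicit false
set_option maxRecDepth 100000

namespace Cfsg.Agent.Spor.Fi23Cert.IdxOne

open Cfsg.Agent.Spor.CC

/-- packed equalities -/
def factC0 : ℕ := 0x1400030100044000e020005c001602000500012010002400060100058001300000300007020004c000e02000340008010005c0015000003c000a020005400110200040000b000005c001400000580012000005400100100050000f000004c000d0100048000c0000044000b0100040000a020003c0009000003800080100034000702000300006010002c0005020002800040000024000401000200003020001c0002000001800020200014000101000100001020000c00000100008000000000040000

/-- the recorded equalities -/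
def facts (id : ℕ) : ℕ :=
  fld factC0 44 (Nat.sub id 0)

/-- packed words -/
def words : ℕ := 0x101010600000000000000000000000000000000000000000000000000000000000000000000000000000000000000000000000000000000000000000000000012121206000000000000000000000000000000000000000000000000000000000000000000000000000000000000000000000000000000000000000000000000101010060000000000000000000000000000000000000000000000000000000000000000000000000000000000000000000000000000000000000000000000000002020400000000000000000000000000000000000000000000000000000000000000000000000000000000000000000000000000000000000000000000000021212106

/-- the certificate -/
def dat : Data where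
  ng := 3
  na := 24
  nn := 24
  facts := facts
  words := words
  nr := 5
  nw := 5

/-- witnesses for the words -/
def wit : List (ℕ × ℕ × Bool) := [
  (15, 0, false),
  (14, 0, true),
  (12, 0, false),
  (15, 0, true),
  (12, 0, true)]

/-- subgroup words -/
def subW : List (List ℕ) := []

/-- letters -/
def letters : List ℕ := [1, 2, 3]

theorem defs_ok : ∀ k, k < dat.na - 1 → defOK dat k = true := by decide +kernel

end Cfsg.Agent.Spor.Fi23Cert.IdxOne
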