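import Cfsg.Agent.Lib.Spor.Fi23LongSeriesDefs

/-!
Kernel evaluation: chain, base, generation.
-/

set_option autoImplicit false
set_option maxRecDepth 100000
set_option Elab.async false

namespace Cfsg.Agent.Spor.Fi23Cert.LongSeries

open Cfsg.Agent.Spor.CC

theorem base_ok : baseOK = true := by decide +kernel

theorem chain_ok : chainOK RepA.rows 10 31671 hL [] = true := by decide +kernel

theorem chain_size : chainSize hL = 2 ^ 11 * 3 ^ 13 := by decide +kernel

theorem lev_ok : [0, 1, 2, 3, 4, 5, 7].all levOK = true := by decide +kernel

theorem tailIn_ok : tailInOK = true := by decide +kernel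

theorem joint_ok : jointOK = true := by decide +kernel

theorem top_ok : topOK = true := by decide +kernel

theorem gen_ok : genOK = true := by decide +kernel

theorem last_ok : lastOK = true := by decide +kernel

end Cfsg.Agent.Spor.Fi23Cert.LongSeries
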