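import Cfsg.Agent.Lib.Spor.Fi23LongSeriesDefs

/-!
Kernel evaluation: scans of all points.
-/

set_option autoImplicit false
set_option maxRecDepth 100000
set_option Elab.async false

namespace Cfsg.Agent.Spor.Fi23Cert.LongSeries

open Cfsg.Agent.Spor.CC

theorem levSix0_ok : levSixOK 0 8000 = true := by decide +kernel

theorem levSix1_ok : levSixOK 8000 8000 = true := by decide +kernel

theorem levSix2_ok : levSixOK 16000 8000 = true := by decide +kernel

theorem levSix3_ok : levSixOK 24000 7671 = true := by decide +kernel

theorem tailOne0_ok : tailOutOK 1 0 8000 = true := by decide +kernel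

theorem tailOne1_ok : tailOutOK 1 8000 8000 = true := by decide +kernel

theorem tailOne2_ok : tailOutOK 1 16000 8000 = true := by decide +kernel

theorem tailOne3_ok : tailOutOK 1 24000 7671 = true := by decide +kernel

theorem tailTwo0_ok : tailOutOK 2 0 8000 = true := by decide +kernel

theorem tailTwo1_ok : tailOutOK 2 8000 8000 = true := by decide +kernel

theorem tailTwo2_ok : tailOutOK 2 16000 8000 = true := by decide +kernel

theorem tailTwo3_ok : tailOutOK 2 24000 7671 = true := by decide +kernel

theorem cover0_ok : coverOK 0 8000 = true := by decide +kernel

theorem cover1_ok : coverOK 8000 8000 = true := by decide +kernel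

theorem cover2_ok : coverOK 16000 8000 = true := by decide +kernel

theorem cover3_ok : coverOK 24000 7671 = true := by decide +kernel

end Cfsg.Agent.Spor.Fi23Cert.LongSeries
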