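import Cfsg.Agent.Lib.Spor.Fi23LongSeriesCheck
import Cfsg.Agent.Lib.Spor.Fi23LongSeriesScan
import Cfsg.Agent.Lib.Char.Burnside

/-!
A subgroup of Fi23 of order `2 ^ 11 * 3 ^ 13`: the stabiliser of 324 transpositions.
-/

set_option autoImplicit false
set_option maxRecDepth 100000

namespace Cfsg.Agent.Spor.Fi23Cert.LongSeries

open Cfsg.Agent.Spor.CC
open Cfsg.Agent.Spor.Fi23Cert.Outer

/-- the permutation of an element -/
noncomputable abbrev act (g : pres.Grp) : Equiv.Perm (Fin rep.P.n) := rep.hom g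

/-- the element of a word -/
noncomputable def gw (w : List ℕ) : pres.Grp := (w.map pres.gen).prod

theorem act_gw {w : List ℕ} (hw : ∀ x ∈ w, x < 10) (u : Fin rep.P.n) :
    ((act (gw w) u : Fin rep.P.n) : ℕ) = ev RepA.rows 10 w u :=
  ev_eq rep.valid pres.gen rep.hom rep.hom_gen hw u

theorem gw_single (x : ℕ) : gw [x] = pres.gen x := by simp [gw]

theorem gw_tW (c : List ℕ) : gw (tW c) = transp c := rfl

theorem blt_all {w : List ℕ} {m : ℕ} (h : w.all (fun x => Nat.blt x m) = true) :
    ∀ x ∈ w, x < m := fun x hx => Nat.le_of_ble_eq_true (List.all_eq_true.mp h x hx)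

theorem inD_pts {u : ℕ} (h : inD u = true) : ∃ j, j < h0.k ∧ fld h0.pts 16 j = u := by
  simp only [inD, inO, Bool.and_eq_true] at h
  exact ⟨_, Nat.le_of_ble_eq_true h.1, Nat.eq_of_beq_eq_true h.2⟩

theorem onD_spec {f : ℕ → Bool} (h : onD f = true) {u : ℕ} (hu : inD u = true) : f u = true := by
  obtain ⟨j, hj, rfl⟩ := inD_pts hu
  exact List.all_eq_true.mp h j (List.mem_range.mpr hj)

/-- the stabiliser of the 324 points -/
def Hs : Subgroup pres.Grp where
  carrier := {g | ∀ u : Fin rep.P.n, inD (act g u : Fin rep.P.n) = inD u}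
  one_mem' := by intro u; simp [act]
  mul_mem' := by
    intro a b ha hb u
    simp only [act, map_mul, Equiv.Perm.mul_apply]
    rw [ha, hb]
  inv_mem' := by
    intro a ha u
    have := ha (act a⁻¹ u)
    simp only [act, ← Equiv.Perm.mul_apply, ← map_mul, mul_inv_cancel, map_one,
      Equiv.Perm.one_apply] at this ⊢
    exact this.symm

theorem mem_Hs_of_into {g : pres.Grp}
    (h : ∀ u : Fin rep.P.n, inD u = true → inD (act g u : Fin rep.P.n) = true) : g ∈ Hs := by
  intro u
  by_cases hu : inD u = true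
  · rw [hu, h u hu]
  · by_contra hne
    have hgu : inD (act g u : Fin rep.P.n) = true := by
      rw [Bool.not_eq_true] at hu
      rw [hu, Bool.not_eq_false] at hne
      exact hne
    let D : Set (Fin rep.P.n) := {v | inD v = true}
    have hsub : act g '' D ⊆ D := by rintro _ ⟨v, hv, rfl⟩; exact h v hv
    have he : act g '' D = D := Set.eq_of_subset_of_ncard_le hsub
      (Set.ncard_image_of_injective D (act g).injective).ge (Set.toFinite D)
    obtain ⟨v, hv, hvu⟩ : act g u ∈ act g '' D := he.symm ▸ hgu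
    exact hu ((act g).injective hvu ▸ hv)

theorem keep_spec {w : List ℕ} (h : keepOK w = true) : gw w ∈ Hs := by
  simp only [keepOK, Bool.and_eq_true] at h
  refine mem_Hs_of_into fun u hu => ?_
  rw [act_gw (blt_all h.1)]
  exact onD_spec h.2 hu

theorem act_n : rep.P.n = 31671 := rfl

theorem bool_beq {a b : Bool} (h : (a == b) = true) : a = b := beq_iff_eq.mp h

theorem bpt_lt {i : ℕ} (hi : i < 11) : bpt i < 31671 := by
  have h := base_ok
  simp only [baseOK, Bool.and_eq_true] at h
  have hlen : base.length = 11 := Nat.eq_of_beq_eq_true h.1.1.1.1.1.1.1.1.1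
  have := List.all_eq_true.mp h.1.1.1.1.1.1.1.1.2 (base.getD i 0)
    (by rw [List.getD_eq_getElem _ _ (by omega)]; exact List.getElem_mem _)
  exact Nat.le_of_ble_eq_true this

theorem bpt_ne {i j : ℕ} (hi : i < 11) (hj : j < i) : bpt i ≠ bpt j := by
  have h := base_ok
  simp only [baseOK, Bool.and_eq_true] at h
  have := List.all_eq_true.mp (List.all_eq_true.mp h.1.1.1.1.1.1.1.2 i (List.mem_range.mpr hi)) j
    (List.mem_range.mpr hj)
  intro e
  simp [e] at this

theorem bW_lt {i : ℕ} (hi : i < 11) : ∀ x ∈ bW i, x < 10 := by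
  have h := base_ok
  simp only [baseOK, Bool.and_eq_true] at h
  exact blt_all (List.all_eq_true.mp h.1.1.1.1.1.1.2 i (List.mem_range.mpr hi))

theorem genPt_lt {x : ℕ} (hx : x < 10) : genPt x < 31671 := by
  have h := base_ok
  simp only [baseOK, Bool.and_eq_true] at h
  exact Nat.le_of_ble_eq_true (List.all_eq_true.mp h.2 x (List.mem_range.mpr hx))

theorem isPt_genPt {x : ℕ} (hx : x < 10) : IsPt (pres.gen x) (genPt x) := by
  refine ⟨_, (Mult.gC_spec hx).symm, ?_⟩
  refine ev_eq rep.valid pres.gen rep.hom rep.hom_gen (fun y hy => ?_) _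
  by_cases hl : x < Mult.gC.length
  · exact lettersOK_spec genC_root.2 (by rw [List.getD_eq_getElem _ _ hl]; exact List.getElem_mem hl) hy
  · rw [List.getD_eq_default _ _ (by omega)] at hy; cases hy

theorem isPt_base {i : ℕ} (hi : i < 11) : IsPt (gw (bW i)) (bpt i) := by
  have hl := bW_lt hi
  have h := base_ok
  simp only [baseOK, Bool.and_eq_true] at h
  have h2 := List.all_eq_true.mp h.1.1.1.1.1.2 i (List.mem_range.mpr hi)
  cases hb : Nat.beq i 4 with
  | true =>
    simp only [hb, cond_true, Bool.and_eq_true] at h2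
    rw [beq_iff_eq.mp h2.1.1, gw_tW, ← Nat.eq_of_beq_eq_true h2.2]
    exact isPt_transp (by simp only [lettersOK, List.all_cons, List.all_nil, Bool.and_true]; exact h2.1.2)
  | false =>
    simp only [hb, cond_false] at h2
    generalize bW i = w at h2 hl ⊢
    match w, h2, hl with
    | [x], h2, hl =>
      rw [gw_single, ← Nat.eq_of_beq_eq_true h2]
      exact isPt_genPt (hl x (by simp))

theorem gen_in_base {x : ℕ} (hx : x < 10) : ∃ i, i < 11 ∧ bW i = [x] := by
  have h := base_ok
  simp only [baseOK, Bool.and_eq_true] at h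
  obtain ⟨i, hi, he⟩ := List.any_eq_true.mp (List.all_eq_true.mp h.1.1.1.1.2 x (List.mem_range.mpr hx))
  exact ⟨i, List.mem_range.mp hi, beq_iff_eq.mp he⟩

/-- a point of the base -/
noncomputable def bp (i : ℕ) : Fin rep.P.n := if hi : i < 11 then ⟨bpt i, bpt_lt hi⟩ else rep.z

theorem bp_val {i : ℕ} (hi : i < 11) : ((bp i : Fin rep.P.n) : ℕ) = bpt i := by simp [bp, hi]

/-- the elements fixing the first `i` base points -/
def Fixes (g : pres.Grp) (i : ℕ) : Prop := ∀ j < i, act g (bp j) = bp j

theorem Fixes.commute {g : pres.Grp} {i j : ℕ} (hg : Fixes g i) (hj : j < i) (hi : i ≤ 11) :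
    g * gw (bW j) = gw (bW j) * g := by
  have hp := isPt_base (i := j) (by omega)
  rw [hp.commute_iff]
  have := hg j hj
  rw [show (⟨bpt j, hp.lt⟩ : Fin rep.P.n) = bp j from Fin.ext (bp_val (by omega)).symm]
  exact this

theorem center_bot : Subgroup.center pres.Grp = ⊥ := by
  rcases simple.eq_bot_or_eq_top_of_normal _ (inferInstance : (Subgroup.center pres.Grp).Normal) with h | h
  · exact h
  · exfalso
    have h0 : (act (pres.gen 0) ⟨genPt 1, genPt_lt (by norm_num)⟩ : Fin rep.P.n) =
        ⟨genPt 1, genPt_lt (by norm_num)⟩ :=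
      ((isPt_genPt (x := 1) (by norm_num)).commute_iff _).mp
        ((Subgroup.mem_center_iff.mp (h ▸ Subgroup.mem_top _) _))
    rw [Fin.ext_iff, ← gw_single, act_gw (by simp)] at h0
    exact absurd h0 (by decide +kernel)

theorem eq_one_of_fixes {g : pres.Grp} (hg : Fixes g 11) : g = 1 := by
  have hc : g ∈ Subgroup.centralizer (Set.range pres.gen) := by
    rw [Subgroup.mem_centralizer_iff]
    rintro _ ⟨x, rfl⟩
    by_cases hx : x < 10
    · obtain ⟨i, hi, e⟩ := gen_in_base hx
      have := hg.commute hi le_rfl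
      rw [e, gw_single] at this
      exact this.symm
    · rw [Pres.gen_big (Q := pres) hx, one_mul, mul_one]
  have : g ∈ Subgroup.center pres.Grp := by
    rw [Subgroup.mem_center_iff]
    intro h
    have hh : h ∈ Subgroup.centralizer {g} := by
      have hle : Subgroup.closure (Set.range pres.gen) ≤ Subgroup.centralizer {g} := by
        rw [Subgroup.closure_le]
        rintro y hy
        rw [SetLike.mem_coe, Subgroup.mem_centralizer_singleton_iff]
        exact ((Subgroup.mem_centralizer_iff.mp hc) y hy)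
      refine hle ?_
      have hce := Pres.closure_gen pres_ok
      have : Subgroup.closure (Set.range pres.gen) = ⊤ := by
        rw [eq_top_iff, ← hce]
        refine Subgroup.closure_mono ?_
        rintro _ ⟨x, -, rfl⟩
        exact ⟨x, rfl⟩
      rw [this]
      exact Subgroup.mem_top _
    exact Subgroup.mem_centralizer_singleton_iff.mp hh
  rwa [center_bot, Subgroup.mem_bot] at this

theorem eq_of_agree {a b : pres.Grp} (h : ∀ i < 11, act a (bp i) = act b (bp i)) : a = b := by
  have : Fixes (b⁻¹ * a) 11 := fun j hj => by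
    simp only [act, map_mul, map_inv, Equiv.Perm.mul_apply, Equiv.Perm.inv_eq_iff_eq]
    exact h j hj
  exact (inv_mul_eq_one.mp (eq_one_of_fixes this)).symm

theorem flat_lt {w : List ℕ} {m : ℕ} (hm : m ≤ 11) (hw : ∀ j ∈ w, j < m) :
    ∀ x ∈ w.flatMap bW, x < 10 := by
  intro x hx
  obtain ⟨j, hj, hx⟩ := List.mem_flatMap.mp hx
  exact bW_lt (lt_of_lt_of_le (hw j hj) hm) x hx

theorem Fixes.commute_word {g : pres.Grp} {m : ℕ} (hg : Fixes g m) (hm : m ≤ 11) :
    ∀ w : List ℕ, (∀ j ∈ w, j < m) → g * gw (w.flatMap bW) = gw (w.flatMap bW) * g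
  | [], _ => by simp [gw]
  | j :: w, h => by
    have e : gw ((j :: w).flatMap bW) = gw (bW j) * gw (w.flatMap bW) := by simp [gw]
    rw [e, ← mul_assoc, hg.commute (h j (by simp)) hm, mul_assoc,
      Fixes.commute_word hg hm w (fun k hk => h k (by simp [hk])), mul_assoc]

theorem pass_image {g : pres.Grp} (hg : g ∈ Hs) {m i : ℕ} (hi : i < 11) (hm : Nat.min i 8 = m)
    (hf : Fixes g m) :
    passOK m i (act g (bp i) : Fin rep.P.n) = true ∧ inD (act g (bp i) : Fin rep.P.n) = inD (bpt i) := by
  have hm' : m ≤ 11 ∧ m ≤ i := by subst hm; exact ⟨(Nat.min_le_left i 8).trans hi.le, Nat.min_le_left i 8⟩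
  refine ⟨?_, by rw [hg, bp_val hi]⟩
  simp only [passOK, Bool.and_eq_true, List.all_eq_true, Bool.not_eq_true', sameAt]
  refine ⟨fun w hw => ?_, ?_⟩
  · have hlt : ∀ j ∈ w, j < m := fun j hj => by
      have h := base_ok
      simp only [baseOK, testIdxOK, Bool.and_eq_true, List.all_eq_true] at h
      exact hm ▸ Nat.le_of_ble_eq_true (h.1.2 i (List.mem_range.mpr hi) w hw j hj)
    have hc := hf.commute_word hm'.1 w hlt
    have hev : ∀ v : Fin rep.P.n, ev RepA.rows 10 (w.flatMap bW) v = (act (gw (w.flatMap bW)) v : Fin rep.P.n) :=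
      fun v => (act_gw (flat_lt hm'.1 hlt) v).symm
    have hswap : act (gw (w.flatMap bW)) (act g (bp i)) = act g (act (gw (w.flatMap bW)) (bp i)) := by
      simp only [act, ← Equiv.Perm.mul_apply, ← map_mul, hc]
    rw [hev, ← bp_val hi, hev, hswap]
    refine ⟨beq_iff_eq.mpr ?_, beq_iff_eq.mpr (hg _)⟩
    rw [Bool.eq_iff_iff, Nat.beq_eq, Nat.beq_eq]
    constructor
    · intro e
      exact congrArg Fin.val ((act g).injective (Fin.ext e))
    · intro e
      rw [Fin.ext e]
  · rw [Bool.eq_false_iff]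
    intro hc
    rw [List.contains_iff_mem] at hc
    obtain ⟨j, hjl, hj⟩ := List.getElem_of_mem hc
    rw [List.length_take] at hjl
    have hjm : j < m := lt_of_lt_of_le hjl (Nat.min_le_left _ _)
    rw [List.getElem_take] at hj
    have e : act g (bp i) = bp j := Fin.ext (by
      rw [← hj, bp_val (by omega), bpt, List.getD_eq_getElem _ _ (lt_of_lt_of_le hjl (Nat.min_le_right _ _))])
    rw [← hf j hjm] at e
    have := congrArg Fin.val ((act g).injective e)
    rw [bp_val hi, bp_val (by omega)] at this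
    exact bpt_ne hi (lt_of_lt_of_le hjm hm'.2) this

theorem range_split {f : ℕ → Bool} (h1 : rangeOK f 0 8000 = true) (h2 : rangeOK f 8000 8000 = true)
    (h3 : rangeOK f 16000 8000 = true) (h4 : rangeOK f 24000 7671 = true) {u : ℕ} (hu : u < 31671) :
    f u = true := by
  by_cases a : u < 8000
  · exact all_range h1 (by omega) (by omega)
  by_cases b : u < 16000
  · exact all_range h2 (by omega) (by omega)
  by_cases c : u < 24000
  · exact all_range h3 (by omega) (by omega)
  exact all_range h4 (by omega) (by omega)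

theorem level_image {g : pres.Grp} (hg : g ∈ Hs) {i : ℕ} (hi : i < 8) (hf : Fixes g i) :
    inO (lvl i) (act g (bp i) : Fin rep.P.n) = true := by
  obtain ⟨hp, hd⟩ := pass_image hg (i := i) (by omega) (m := i) (by simp; omega) hf
  generalize hy : ((act g (bp i) : Fin rep.P.n) : ℕ) = y at hp hd ⊢
  have hyn : y < 31671 := hy ▸ (act g (bp i)).2
  by_cases h6 : i = 6
  · subst h6
    have := range_split (f := fun y => !passOK 6 6 y || inD y || inO (lvl 6) y)
      levSix0_ok levSix1_ok levSix2_ok levSix3_ok hyn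
    simp only [hp, Bool.not_true, Bool.false_or, Bool.or_eq_true] at this
    refine this.resolve_left fun h => ?_
    rw [h] at hd
    exact absurd hd (by decide +kernel)
  · have hmem : i ∈ [0, 1, 2, 3, 4, 5, 7] := by simp; omega
    have hl := List.all_eq_true.mp lev_ok i hmem
    simp only [levOK, Bool.and_eq_true] at hl
    have := onD_spec hl.2 (u := y) (hd.trans hl.1)
    simpa [hp] using this

theorem fixes_eleven {g : pres.Grp} (hg : g ∈ Hs) (hf : Fixes g 8) : Fixes g 11 := by
  have hy : ∀ k < 3, ((act g (bp (8 + k)) : Fin rep.P.n) : ℕ) ∈ tailPts k := by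
    intro k hk
    obtain ⟨hp, hd⟩ := pass_image hg (i := 8 + k) (by omega) (m := 8) (by simp) hf
    generalize hy : ((act g (bp (8 + k)) : Fin rep.P.n) : ℕ) = y at hp hd ⊢
    have hyn : y < 31671 := hy ▸ (act g (bp (8 + k))).2
    rw [← List.contains_iff_mem]
    interval_cases k
    · have h := tailIn_ok
      simp only [tailInOK, Bool.and_eq_true] at h
      have := onD_spec h.2 (u := y) (hd.trans h.1)
      simpa [hp] using this
    · have := range_split (f := fun y => !passOK 8 (Nat.add 8 1) y || inD y || (tailPts 1).contains y)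
        tailOne0_ok tailOne1_ok tailOne2_ok tailOne3_ok hyn
      simp only [show Nat.add 8 1 = 8 + 1 from rfl, hp, Bool.not_true, Bool.false_or, Bool.or_eq_true] at this
      refine this.resolve_left fun h => ?_
      rw [h] at hd
      exact absurd hd (by decide +kernel)
    · have := range_split (f := fun y => !passOK 8 (Nat.add 8 2) y || inD y || (tailPts 2).contains y)
        tailTwo0_ok tailTwo1_ok tailTwo2_ok tailTwo3_ok hyn
      simp only [show Nat.add 8 2 = 8 + 2 from rfl, hp, Bool.not_true, Bool.false_or, Bool.or_eq_true] at this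
      refine this.resolve_left fun h => ?_
      rw [h] at hd
      exact absurd hd (by decide +kernel)
  have h := joint_ok
  simp only [jointOK, Bool.and_eq_true, List.all_eq_true] at h
  obtain ⟨⟨htrue, hlist⟩, hcomb⟩ := h
  obtain ⟨a, ha, ha'⟩ := List.mem_map.mp (hy 0 (by norm_num))
  obtain ⟨b, hb, hb'⟩ := List.mem_map.mp (hy 1 (by norm_num))
  obtain ⟨c, hc, hc'⟩ := List.mem_map.mp (hy 2 (by norm_num))
  have hsame : ([a.1, b.1, c.1] == [bpt 8, bpt 9, bpt 10]) = true := by
    rcases Bool.or_eq_true _ _ ▸ hcomb a ha b hb c hc with h | h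
    · exact h
    exfalso
    have hpt : ∀ k < 3, ∀ p ∈ tails.getD k [], lettersOK 10 [p.2] = true ∧ IsPt (transp p.2) p.1 := by
      intro k hk p hp
      have h1 := hlist k (List.mem_range.mpr hk) p hp
      simp only [lettersOK, List.all_cons, List.all_nil, Bool.and_true]
      refine ⟨List.all_eq_true.mpr h1.1, ?_⟩
      rw [← Nat.eq_of_beq_eq_true h1.2]
      exact isPt_transp (by simp only [lettersOK, List.all_cons, List.all_nil, Bool.and_true]; exact List.all_eq_true.mpr h1.1)
    obtain ⟨p, q, r, hmem, heq⟩ : ∃ p q r, (p ∈ tails.getD 0 [] ∧ q ∈ tails.getD 1 [] ∧ r ∈ tails.getD 2 []) ∧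
        trueTail = [p, q, r] := by
      refine ⟨_, _, _, ⟨?_, ?_, ?_⟩, rfl⟩ <;> decide +kernel
    have hv : vec [a, b, c] = vec trueTail := by
      rw [heq] at htrue ⊢
      simp only [List.map_cons, List.map_nil, beq_iff_eq, List.cons.injEq, and_true] at htrue
      have key : ∀ P Q : ℕ × List ℕ, (∃ k < 3, P ∈ tails.getD k []) → (∃ k < 3, Q ∈ tails.getD k []) →
          ∀ (kP kQ : ℕ), kP < 11 → kQ < 11 → P.1 = bpt kP → Q.1 = bpt kQ →
          ∀ P' Q' : ℕ × List ℕ, (∃ k < 3, P' ∈ tails.getD k []) → (∃ k < 3, Q' ∈ tails.getD k []) →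
          P'.1 = (act g (bp kP) : Fin rep.P.n) → Q'.1 = (act g (bp kQ) : Fin rep.P.n) →
          Nat.beq (ev RepA.rows 10 (tW P'.2) Q'.1) Q'.1 = Nat.beq (ev RepA.rows 10 (tW P.2) Q.1) Q.1 ∧
          inD (ev RepA.rows 10 (tW P'.2) Q'.1) = inD (ev RepA.rows 10 (tW P.2) Q.1) := by
        rintro P Q ⟨k1, hk1, hP⟩ - kP kQ hkP hkQ eP eQ P' Q' ⟨k2, hk2, hP'⟩ - eP' eQ'
        obtain ⟨hl, hPt⟩ := hpt k1 hk1 P hP
        obtain ⟨hl', hPt'⟩ := hpt k2 hk2 P' hP'
        have hlw : ∀ c : List ℕ, lettersOK 10 [c] = true → ∀ x ∈ tW c, x < 10 := by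
          intro c hc x hx
          simp only [tW, List.mem_append, List.mem_cons, List.not_mem_nil, or_false, List.mem_reverse] at hx
          rcases hx with (hx | hx) | hx
          · exact lettersOK_spec hc (by simp) hx
          · omega
          · exact lettersOK_spec hc (by simp) hx
        have hconj : g * transp P.2 * g⁻¹ = transp P'.2 := by
          refine IsPt.inj ?_ hPt'
          have := hPt.conj g hPt.lt
          rwa [show (⟨P.1, hPt.lt⟩ : Fin rep.P.n) = bp kP from Fin.ext (by rw [bp_val hkP, ← eP]), ← eP'] at this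
        have hswap : act (transp P'.2) (act g (bp kQ)) = act g (act (transp P.2) (bp kQ)) := by
          rw [← hconj]
          simp only [act, map_mul, map_inv, Equiv.Perm.mul_apply, Equiv.Perm.coe_inv, Equiv.symm_apply_apply]
        have e1 : ev RepA.rows 10 (tW P'.2) Q'.1 = (act (transp P'.2) (act g (bp kQ)) : Fin rep.P.n) := by
          rw [eQ', ← gw_tW, act_gw (hlw _ hl')]
        have e2 : ev RepA.rows 10 (tW P.2) Q.1 = (act (transp P.2) (bp kQ) : Fin rep.P.n) := by
          rw [← gw_tW, act_gw (hlw _ hl), bp_val hkQ, eQ]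
        rw [e1, e2, hswap, eQ', eQ, ← bp_val hkQ]
        refine ⟨?_, hg _⟩
        rw [Bool.eq_iff_iff, Nat.beq_eq, Nat.beq_eq]
        exact ⟨fun e => congrArg Fin.val ((act g).injective (Fin.ext e)), fun e => by rw [Fin.ext e]⟩
      obtain ⟨t1, t2, t3⟩ := htrue
      have hm0 : ∀ {x : ℕ × List ℕ}, x ∈ tails.getD 0 [] → ∃ k < 3, x ∈ tails.getD k [] := fun h => ⟨0, by norm_num, h⟩
      have hm1 : ∀ {x : ℕ × List ℕ}, x ∈ tails.getD 1 [] → ∃ k < 3, x ∈ tails.getD k [] := fun h => ⟨1, by norm_num, h⟩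
      have hm2 : ∀ {x : ℕ × List ℕ}, x ∈ tails.getD 2 [] → ∃ k < 3, x ∈ tails.getD k [] := fun h => ⟨2, by norm_num, h⟩
      have A := hm0 ha; have B := hm1 hb; have C := hm2 hc
      have P := hm0 hmem.1; have Q := hm1 hmem.2.1; have R := hm2 hmem.2.2
      have e8 : (8 : ℕ) < 11 := by norm_num
      have e9 : (9 : ℕ) < 11 := by norm_num
      have e10 : (10 : ℕ) < 11 := by norm_num
      simp only [vec, List.map_cons, List.map_nil, List.flatMap_cons, List.flatMap_nil, List.append_nil,
        List.cons_append, List.nil_append]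
      rw [(key p p P P 8 8 e8 e8 t1 t1 a a A A ha' ha').1, (key p p P P 8 8 e8 e8 t1 t1 a a A A ha' ha').2,
        (key p q P Q 8 9 e8 e9 t1 t2 a b A B ha' hb').1, (key p q P Q 8 9 e8 e9 t1 t2 a b A B ha' hb').2,
        (key p r P R 8 10 e8 e10 t1 t3 a c A C ha' hc').1, (key p r P R 8 10 e8 e10 t1 t3 a c A C ha' hc').2,
        (key q p Q P 9 8 e9 e8 t2 t1 b a B A hb' ha').1, (key q p Q P 9 8 e9 e8 t2 t1 b a B A hb' ha').2,
        (key q q Q Q 9 9 e9 e9 t2 t2 b b B B hb' hb').1, (key q q Q Q 9 9 e9 e9 t2 t2 b b B B hb' hb').2,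
        (key q r Q R 9 10 e9 e10 t2 t3 b c B C hb' hc').1, (key q r Q R 9 10 e9 e10 t2 t3 b c B C hb' hc').2,
        (key r p R P 10 8 e10 e8 t3 t1 c a C A hc' ha').1, (key r p R P 10 8 e10 e8 t3 t1 c a C A hc' ha').2,
        (key r q R Q 10 9 e10 e9 t3 t2 c b C B hc' hb').1, (key r q R Q 10 9 e10 e9 t3 t2 c b C B hc' hb').2,
        (key r r R R 10 10 e10 e10 t3 t3 c c C C hc' hc').1, (key r r R R 10 10 e10 e10 t3 t3 c c C C hc' hc').2,
        t1, t2, t3, ha', hb', hc', hg, hg, hg, bp_val e8, bp_val e9, bp_val e10]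
    simp [hv] at h
  simp only [beq_iff_eq, List.cons.injEq, and_true] at hsame
  intro j hj
  by_cases h8 : j < 8
  · exact hf j h8
  interval_cases j
  · exact Fin.ext (by rw [← ha', hsame.1, bp_val (by norm_num)])
  · exact Fin.ext (by rw [← hb', hsame.2.1, bp_val (by norm_num)])
  · exact Fin.ext (by rw [← hc', hsame.2.2, bp_val (by norm_num)])

/-- the elements of `Hs` fixing the first `i` base points -/
def Sfix (i : ℕ) : Subgroup pres.Grp where
  carrier := {g | g ∈ Hs ∧ Fixes g i}
  one_mem' := ⟨one_mem _, fun j _ => by simp [act]⟩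
  mul_mem' := fun {a b} ha hb => ⟨mul_mem ha.1 hb.1, fun j hj => by
    show rep.hom (a * b) (bp j) = bp j
    rw [map_mul, Equiv.Perm.mul_apply, hb.2 j hj, ha.2 j hj]⟩
  inv_mem' := fun {a} ha => ⟨inv_mem ha.1, fun j hj => by
    show rep.hom a⁻¹ (bp j) = bp j
    rw [map_inv, Equiv.Perm.inv_eq_iff_eq]
    exact (ha.2 j hj).symm⟩

theorem hL_facts : hL.length = 8 ∧ ∀ i < 8, (lvl i).b = bpt i := by
  have h := base_ok
  simp only [baseOK, Bool.and_eq_true, List.all_eq_true] at h
  exact ⟨Nat.eq_of_beq_eq_true h.1.1.2,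
    fun i hi => Nat.eq_of_beq_eq_true (h.1.1.1.2 i (List.mem_range.mpr hi))⟩

theorem card_step {i : ℕ} (hi : i < 8) :
    Nat.card (Sfix i) ≤ (lvl i).k * Nat.card (Sfix (i + 1)) := by
  haveI := order.1
  letI : MulAction (Sfix i) (Fin rep.P.n) := MulAction.compHom _ (rep.hom.comp (Sfix i).subtype)
  have hstab : (MulAction.stabilizer (Sfix i) (bp i)).map (Sfix i).subtype = Sfix (i + 1) := by
    ext g
    constructor
    · rintro ⟨s, hs, rfl⟩
      refine ⟨s.2.1, fun j hj => ?_⟩
      rcases Nat.lt_succ_iff_lt_or_eq.mp hj with h | h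
      · exact s.2.2 j h
      · subst h; exact hs
    · intro hg
      exact ⟨⟨g, hg.1, fun j hj => hg.2 j (by omega)⟩, hg.2 i (by omega), rfl⟩
  have hcard : Nat.card (MulAction.stabilizer (Sfix i) (bp i)) = Nat.card (Sfix (i + 1)) := by
    rw [← hstab]
    exact Nat.card_congr (Subgroup.equivMapOfInjective _ _ (Sfix i).subtype_injective).toEquiv
  rw [← Nat.card_congr (MulAction.orbitProdStabilizerEquivGroup (Sfix i) (bp i)), Nat.card_prod, hcard]
  refine Nat.mul_le_mul_right _ ?_
  let f : MulAction.orbit (Sfix i) (bp i) → Fin (lvl i).k := fun y =>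
    ⟨fld (lvl i).posn 16 ((y : Fin rep.P.n) : ℕ), by
      obtain ⟨_, s, rfl⟩ := y
      have := level_image s.2.1 hi s.2.2
      simp only [inO, Bool.and_eq_true] at this
      exact Nat.le_of_ble_eq_true this.1⟩
  have hf : Function.Injective f := by
    rintro ⟨_, s, rfl⟩ ⟨_, t, rfl⟩ e
    have h1 := level_image s.2.1 hi s.2.2
    have h2 := level_image t.2.1 hi t.2.2
    simp only [inO, Bool.and_eq_true] at h1 h2
    have e' := congrArg (fun z => fld (lvl i).pts 16 (Fin.val z)) e
    simp only [f] at e'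
    refine Subtype.ext (Fin.ext ?_)
    exact (Nat.eq_of_beq_eq_true h1.2).symm.trans (e'.trans (Nat.eq_of_beq_eq_true h2.2))
  simpa using Nat.card_le_card_of_injective f hf

theorem keep_top {w : List ℕ} (hw : w ∈ h0.ws) : gw w ∈ Hs := by
  have h := top_ok
  simp only [topOK, Bool.and_eq_true, List.all_eq_true] at h
  exact keep_spec (h.1.1 w hw)

theorem card_Hs : Nat.card Hs = 2 ^ 11 * 3 ^ 13 := by
  haveI := order.1
  refine le_antisymm ?_ ?_
  · have hz : Sfix 0 = Hs := by
      ext g
      exact ⟨fun h => h.1, fun h => ⟨h, fun j hj => absurd hj (by omega)⟩⟩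
    have h8 : Nat.card (Sfix 8) = 1 := by
      rw [Subgroup.card_eq_one, eq_bot_iff]
      exact fun g hg => Subgroup.mem_bot.mpr (eq_one_of_fixes (fixes_eleven hg.1 hg.2))
    have s7 := card_step (i := 7) (by norm_num)
    rw [h8, mul_one] at s7
    have := (card_step (i := 0) (by norm_num)).trans (Nat.mul_le_mul_left _
      ((card_step (i := 1) (by norm_num)).trans (Nat.mul_le_mul_left _
      ((card_step (i := 2) (by norm_num)).trans (Nat.mul_le_mul_left _
      ((card_step (i := 3) (by norm_num)).trans (Nat.mul_le_mul_left _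
      ((card_step (i := 4) (by norm_num)).trans (Nat.mul_le_mul_left _
      ((card_step (i := 5) (by norm_num)).trans (Nat.mul_le_mul_left _
      ((card_step (i := 6) (by norm_num)).trans (Nat.mul_le_mul_left _ s7)))))))))))))
    rw [hz] at this
    refine this.trans (le_of_eq ?_)
    rw [← chain_size]
    simp [chainSize, hL, lvl, mul_assoc]
  · rw [← chain_size]
    refine chain_le rep.valid pres.gen rep.hom rep.hom_gen hL [] chain_ok Hs fun s _ hs => ?_
    obtain ⟨O, hO, w, hw, rfl⟩ := hs
    have h := top_ok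
    simp only [topOK, Bool.and_eq_true, List.all_eq_true] at h
    exact keep_top (List.contains_iff_mem.mp (h.1.2 O hO w hw))

theorem solvable : Group.IsSolvable Hs := by
  haveI := order.1
  refine Cfsg.Agent.Char.isSolvable_of_two_primes (p := 2) (q := 3) Nat.prime_two Nat.prime_three _ card_Hs
    fun r hr hd => ?_
  rcases hr.dvd_mul.mp hd with h | h
  · exact Or.inl ((Nat.prime_dvd_prime_iff_eq hr Nat.prime_two).mp (hr.dvd_of_dvd_pow h))
  · exact Or.inr ((Nat.prime_dvd_prime_iff_eq hr Nat.prime_three).mp (hr.dvd_of_dvd_pow h))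

end Cfsg.Agent.Spor.Fi23Cert.LongSeries
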