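import Cfsg.Agent.Lib.Spor.Fi23LongSeriesDefs

/-!
Kernel evaluation: the orbits outside the 324 points.
-/

set_option autoImplicit false
set_option maxRecDepth 100000
set_option Elab.async false

namespace Cfsg.Agent.Spor.Fi23Cert.LongSeries

open Cfsg.Agent.Spor.CC

theorem cov0_orb : orbOK RepA.rows 10 cov0 = true := by decide +kernel

theorem cov1_orb : orbOK RepA.rows 10 cov1 = true := by decide +kernel

theorem cov2_orb : orbOK RepA.rows 10 cov2 = true := by decide +kernel

theorem cov_ok : covL.all (fun O => Nat.blt O.b 31671 && lettersOK 10 O.ws) = true := by decide +kernel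

end Cfsg.Agent.Spor.Fi23Cert.LongSeries
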