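import Cfsg.Agent.Lib.Spor.Fi23OutPoints
import Cfsg.Agent.Lib.Spor.Fi23LongSeriesData

/-!
The checks behind a maximal subgroup of Fi23 with a long derived series.
-/

set_option autoImplicit false
set_option maxRecDepth 100000

namespace Cfsg.Agent.Spor.Fi23Cert.LongSeries

open Cfsg.Agent.Spor.CC
open Cfsg.Agent.Spor.Fi23Cert.Outer

/-- is a point in the list of an orbit -/
def inO (O : Orb) (x : ℕ) : Bool :=
  Nat.blt (fld O.posn 16 x) O.k && Nat.beq (fld O.pts 16 (fld O.posn 16 x)) x

/-- is a point among the 324 -/
def inD (x : ℕ) : Bool := inO h0 x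

/-- check a property of the 324 points -/
def onD (f : ℕ → Bool) : Bool := (List.range h0.k).all fun j => f (fld h0.pts 16 j)

/-- the chain of the subgroup -/
def hL : List Orb := [h0, h1, h2, h3, h4, h5, h6, h7]

/-- a level of the chain -/
def lvl (i : ℕ) : Orb := hL.getD i h0

/-- a base point -/
def bpt (i : ℕ) : ℕ := base.getD i 0

/-- the word of the transposition of a base point -/
def bW (i : ℕ) : List ℕ := baseW.getD i []

/-- how two points relate to a word -/
noncomputable def sameAt (w : List ℕ) (b y : ℕ) : Bool :=
  (Nat.beq (ev RepA.rows 10 w y) y == Nat.beq (ev RepA.rows 10 w b) b) &&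
    (inD (ev RepA.rows 10 w y) == inD (ev RepA.rows 10 w b))

/-- is a point a possible image of base point `i` when the first `m` base points are fixed -/
noncomputable def passOK (m i y : ℕ) : Bool :=
  (tests.getD i []).all (fun w => sameAt (w.flatMap bW) (bpt i) y) && !((base.take m).contains y)

/-- the tests use only earlier indices -/
def testIdxOK : Bool :=
  (List.range 11).all fun i => (tests.getD i []).all fun w => w.all fun j => Nat.blt j (Nat.min i 8)

/-- levels with base point among the 324 -/
noncomputable def levOK (i : ℕ) : Bool :=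
  inD (bpt i) && onD fun y => !passOK i i y || inO (lvl i) y

/-- the seventh level -/
noncomputable def levSixOK (st len : ℕ) : Bool :=
  rangeOK (fun y => !passOK 6 6 y || inD y || inO (lvl 6) y) st len

/-- the listed images of a late base point -/
def tailPts (k : ℕ) : List ℕ := (tails.getD k []).map Prod.fst

/-- level nine, base point among the 324 -/
noncomputable def tailInOK : Bool :=
  inD (bpt 8) && onD fun y => !passOK 8 8 y || (tailPts 0).contains y

/-- levels ten and eleven -/
noncomputable def tailOutOK (k st len : ℕ) : Bool :=
  rangeOK (fun y => !passOK 8 (Nat.add 8 k) y || inD y || (tailPts k).contains y) st len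

/-- relations inside a triple of points with conjugators -/
noncomputable def vec (t : List (ℕ × List ℕ)) : List Bool :=
  (t.map fun p => inD p.1) ++ t.flatMap fun p => t.flatMap fun q =>
    [Nat.beq (ev RepA.rows 10 (tW p.2) q.1) q.1, inD (ev RepA.rows 10 (tW p.2) q.1)]

/-- the true triple -/
def trueTail : List (ℕ × List ℕ) :=
  [((tails.getD 0 []).getLast?).getD (0, []), ((tails.getD 1 []).getLast?).getD (0, []),
    ((tails.getD 2 []).getLast?).getD (0, [])]

/-- the last three base points have no other images -/
noncomputable def jointOK : Bool :=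
  (trueTail.map Prod.fst == [bpt 8, bpt 9, bpt 10]) &&
  (List.range 3).all (fun k => (tails.getD k []).all fun p =>
    p.2.all (fun x => Nat.blt x 10) && Nat.beq (ev RepA.rows 10 p.2 8004) p.1) &&
  (tails.getD 0 []).all fun a => (tails.getD 1 []).all fun b => (tails.getD 2 []).all fun c =>
    ([a.1, b.1, c.1] == [bpt 8, bpt 9, bpt 10]) || !(vec [a, b, c] == vec trueTail)

/-- does a word keep the 324 points -/
noncomputable def keepOK (w : List ℕ) : Bool :=
  w.all (fun x => Nat.blt x 10) && onD fun p => inD (ev RepA.rows 10 w p)

/-- the point of a generator -/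
noncomputable def genPt (x : ℕ) : ℕ := ev RepA.rows 10 (Mult.gC.getD x []) 0

/-- base points, their transpositions, the generators -/
noncomputable def baseOK : Bool :=
  Nat.beq base.length 11 && base.all (fun b => Nat.blt b 31671) &&
  (List.range 11).all (fun i => (List.range i).all fun j => !Nat.beq (bpt i) (bpt j)) &&
  (List.range 11).all (fun i => (bW i).all fun x => Nat.blt x 10) &&
  (List.range 11).all (fun i => bif Nat.beq i 4 then
      (bW i == tW oddConj) && oddConj.all (fun x => Nat.blt x 10) &&
        Nat.beq (ev RepA.rows 10 oddConj 8004) (bpt i)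
    else match bW i with
      | [x] => Nat.beq (genPt x) (bpt i)
      | _ => false) &&
  (List.range 10).all (fun x => (List.range 11).any fun i => bW i == [x]) &&
  (List.range 8).all (fun i => Nat.beq (lvl i).b (bpt i)) &&
  Nat.beq hL.length 8 && testIdxOK && (List.range 10).all (fun x => Nat.blt (genPt x) 31671)

/-- the words of the chain keep the 324 points -/
noncomputable def topOK : Bool :=
  h0.ws.all keepOK && hL.all (fun O => O.ws.all fun w => h0.ws.contains w) && keepOK (bW 0)

/-- one way of reaching a missing generator -/
noncomputable def reachOK (c : List ℕ) (r x : ℕ) (l : List ℕ) : Bool :=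
  l.all (fun i => Nat.blt i (Nat.add 1 h0.ws.length)) &&
    Nat.beq (ev RepA.rows 10 (l.flatMap fun i => (tW c :: h0.ws).getD i []) r) (genPt x)

/-- generation from the orbit `k` outside -/
noncomputable def genOK1 (k : ℕ) : Bool :=
  let d := genData.getD k ([], [])
  d.1.all (fun x => Nat.blt x 10) &&
    Nat.beq (ev RepA.rows 10 d.1 8004) (covL.getD k h0).b &&
    Nat.beq d.2.length missing.length &&
    (List.range missing.length).all fun i =>
      reachOK d.1 (covL.getD k h0).b (missing.getD i 0) (d.2.getD i [])

/-- generation -/
noncomputable def genOK : Bool :=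
  (List.range covL.length).all genOK1 && covL.all (fun O => O.ws.all keepOK) &&
    (List.range 10).all fun x => missing.contains x || keepOK [x]

/-- the cover -/
noncomputable def coverOK (st len : ℕ) : Bool :=
  rangeOK (fun u => inD u || covL.any fun O => inO O u) st len

/-- the right side of a step of the tree -/
def treeRhs (k : ℕ) : List ℕ :=
  match treeOp.getD k (0, 0, 0) with
  | (1, a, b) =>
    treeW.getD a [] ++ treeW.getD b [] ++ (treeW.getD a []).reverse ++ (treeW.getD b []).reverse
  | (2, a, b) => h0.ws.getD a [] ++ treeW.getD b [] ++ (h0.ws.getD a []).reverse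
  | _ => []

/-- is a step of the tree well formed -/
def treeShape (k : ℕ) : Bool :=
  match treeOp.getD k (0, 0, 0) with
  | (0, _, _) => Nat.beq (treeDepth.getD k 0) 0
  | (1, a, b) => Nat.blt a k && Nat.blt b k &&
      Nat.beq (treeDepth.getD k 0) (treeDepth.getD a 0 + 1) &&
      Nat.beq (treeDepth.getD a 0) (treeDepth.getD b 0)
  | (2, a, b) => Nat.blt a h0.ws.length && Nat.blt b k &&
      Nat.beq (treeDepth.getD k 0) (treeDepth.getD b 0)
  | _ => false

/-- check one step of the tree -/
noncomputable def treeOK1 (k : ℕ) : Bool :=
  treeShape k && (treeW.getD k []).all (fun x => Nat.blt x 10) &&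
    bif Nat.beq (treeOp.getD k (0, 0, 0)).1 0 then keepOK (treeW.getD k [])
    else base.all fun b =>
      Nat.beq (ev RepA.rows 10 (treeW.getD k []) b) (ev RepA.rows 10 (treeRhs k) b)

/-- the last step -/
noncomputable def lastOK : Bool :=
  Nat.beq (treeDepth.getD (treeW.length - 1) 0) 9 && Nat.blt 0 treeW.length &&
    Nat.blt movedPt 31671 &&
    !Nat.beq (ev RepA.rows 10 (treeW.getD (treeW.length - 1) []) movedPt) movedPt

end Cfsg.Agent.Spor.Fi23Cert.LongSeries
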