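import Cfsg.Agent.Lib.Spor.Fi23LongSeriesDefs

/-!
Kernel evaluation: the commutator tree.
-/

set_option autoImplicit false
set_option maxRecDepth 100000
set_option Elab.async false

namespace Cfsg.Agent.Spor.Fi23Cert.LongSeries

open Cfsg.Agent.Spor.CC

theorem tree0_ok : (List.range' 0 6).all treeOK1 = true := by decide +kernel

theorem tree6_ok : (List.range' 6 6).all treeOK1 = true := by decide +kernel

theorem tree12_ok : (List.range' 12 6).all treeOK1 = true := by decide +kernel

theorem tree18_ok : (List.range' 18 6).all treeOK1 = true := by decide +kernel

theorem tree24_ok : (List.range' 24 6).all treeOK1 = true := by decide +kernel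

theorem tree30_ok : (List.range' 30 6).all treeOK1 = true := by decide +kernel

theorem tree36_ok : (List.range' 36 6).all treeOK1 = true := by decide +kernel

theorem tree42_ok : (List.range' 42 2).all treeOK1 = true := by decide +kernel

end Cfsg.Agent.Spor.Fi23Cert.LongSeries
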