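import Cfsg.Agent.Lib.Spor.Fi23LongSeriesCore
import Cfsg.Agent.Lib.Spor.Fi23LongSeriesCover
import Cfsg.Agent.Lib.Spor.Fi23LongSeriesTree

/-!
The subgroup of order `2 ^ 11 * 3 ^ 13` of Fi23 is maximal and has derived length ten.
-/

set_option autoImplicit false
set_option maxRecDepth 100000

namespace Cfsg.Agent.Spor.Fi23Cert.LongSeries

open Cfsg.Agent.Spor.CC
open Cfsg.Agent.Spor.Fi23Cert.Outer

theorem isPt_move {e : pres.Grp} {p q : ℕ} (he : IsPt e p) (s : pres.Grp)
    (h : ∀ u : Fin rep.P.n, (u : ℕ) = p → ((act s u : Fin rep.P.n) : ℕ) = q) :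
    IsPt (s * e * s⁻¹) q := by
  have := he.conj s he.lt
  rwa [h ⟨p, he.lt⟩ rfl] at this

/-- the 324 transpositions lie in the subgroup -/
theorem isPt_inD {q : ℕ} (hq : inD q = true) : ∃ d ∈ Hs, IsPt d q := by
  obtain ⟨j, hj, rfl⟩ := inD_pts hq
  have hc := chain_ok
  simp only [hL, chainOK, Bool.and_eq_true] at hc
  obtain ⟨⟨⟨⟨-, hO⟩, hl⟩, -⟩, -⟩ := hc
  have hb : ((bp 0 : Fin rep.P.n) : ℕ) = h0.b :=
    (bp_val (by norm_num)).trans (hL_facts.2 0 (by norm_num)).symm
  obtain ⟨s, hs, hse⟩ := orb_mem rep.valid pres.gen rep.hom rep.hom_gen hO hl Hs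
    (fun w hw => keep_top hw) (bp 0) hb j hj
  have ht : gw (bW 0) ∈ Hs := by
    have h := top_ok
    simp only [topOK, Bool.and_eq_true] at h
    exact keep_spec h.2
  exact ⟨_, mul_mem (mul_mem hs ht) (inv_mem hs),
    isPt_move (isPt_base (by norm_num)) s fun u hu => by
      rw [show u = bp 0 from Fin.ext (by rw [hu, bp_val (by norm_num)])]
      exact hse⟩

theorem Hs_ne_top : Hs ≠ ⊤ := by
  intro h
  haveI := order.1
  have := card_Hs
  rw [h, Nat.card_congr Subgroup.topEquiv.toEquiv, order.2.1] at this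
  norm_num at this

theorem outside_mem {M : Subgroup pres.Grp} (hM : Hs < M) :
    ∃ e ∈ M, ∃ r, IsPt e r ∧ inD r = false := by
  obtain ⟨g, hgM, hgH⟩ := SetLike.exists_of_lt hM
  obtain ⟨u, hu, hgu⟩ : ∃ u : Fin rep.P.n, inD u = true ∧ inD (act g u : Fin rep.P.n) = false := by
    by_contra hne
    push_neg at hne
    exact hgH (mem_Hs_of_into fun u hu => by simpa using hne u hu)
  obtain ⟨d, hd, hp⟩ := isPt_inD hu
  exact ⟨_, mul_mem (mul_mem hgM (hM.le hd)) (inv_mem hgM), _,
    isPt_move hp g (fun v hv => by rw [show v = u from Fin.ext hv]), hgu⟩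

theorem covL_mem {O : Orb} (hO : O ∈ covL) :
    orbOK RepA.rows 10 O = true ∧ lettersOK 10 O.ws = true ∧ O.b < 31671 ∧ ∀ w ∈ O.ws, gw w ∈ Hs := by
  have h := cov_ok
  simp only [List.all_eq_true, Bool.and_eq_true] at h
  have hg := gen_ok
  simp only [genOK, Bool.and_eq_true, List.all_eq_true] at hg
  refine ⟨?_, (h O hO).2, Nat.le_of_ble_eq_true (h O hO).1, fun w hw => keep_spec (hg.1.2 O hO w hw)⟩
  simp only [covL, List.mem_cons, List.not_mem_nil, or_false] at hO
  rcases hO with rfl | rfl | rfl
  · exact cov0_orb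
  · exact cov1_orb
  · exact cov2_orb

theorem coatom : IsCoatom Hs := by
  refine ⟨Hs_ne_top, fun M hM => ?_⟩
  obtain ⟨e, heM, r, he, hr⟩ := outside_mem hM
  have hcov := range_split (f := fun u => inD u || covL.any fun O => inO O u)
    cover0_ok cover1_ok cover2_ok cover3_ok he.lt
  simp only [hr, Bool.false_or, List.any_eq_true] at hcov
  obtain ⟨O, hO, hrO⟩ := hcov
  obtain ⟨k, hk, hkO⟩ := List.getElem_of_mem hO
  obtain ⟨hok, hl, hb, hws⟩ := covL_mem hO
  simp only [inO, Bool.and_eq_true] at hrO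
  obtain ⟨s, hs, hse⟩ := orb_mem rep.valid pres.gen rep.hom rep.hom_gen hok hl Hs hws ⟨O.b, hb⟩ rfl
    (fld O.posn 16 r) (Nat.le_of_ble_eq_true hrO.1)
  have hse' : ((act s ⟨O.b, hb⟩ : Fin rep.P.n) : ℕ) = r := hse.trans (Nat.eq_of_beq_eq_true hrO.2)
  have hback : IsPt (s⁻¹ * e * s⁻¹⁻¹) O.b := isPt_move he s⁻¹ fun u hu => by
    rw [show u = act s ⟨O.b, hb⟩ from Fin.ext (hu.trans hse'.symm)]
    simp [act]
  have hinM : s⁻¹ * e * s⁻¹⁻¹ ∈ M :=
    mul_mem (mul_mem (inv_mem (hM.le hs)) heM) (inv_mem (inv_mem (hM.le hs)))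
  have hg := gen_ok
  simp only [genOK, Bool.and_eq_true, List.all_eq_true] at hg
  have h1 := hg.1.1 k (List.mem_range.mpr hk)
  simp only [genOK1, Bool.and_eq_true, List.getD_eq_getElem _ h0 hk, hkO] at h1
  generalize genData.getD k ([], []) = d at h1
  obtain ⟨⟨⟨hd1, hdb⟩, hdlen⟩, hreach⟩ := h1
  have hdl : lettersOK 10 [d.1] = true := by
    simp only [lettersOK, List.all_cons, List.all_nil, Bool.and_true]; exact hd1
  have htM : transp d.1 ∈ M := by
    have hp := isPt_transp hdl
    rw [Nat.eq_of_beq_eq_true hdb] at hp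
    exact hp.inj hback ▸ hinM
  have hpd : IsPt (transp d.1) O.b := by
    have hp := isPt_transp hdl
    rwa [Nat.eq_of_beq_eq_true hdb] at hp
  have hgens : ∀ x < 10, pres.gen x ∈ M := by
    intro x hx
    rcases Bool.or_eq_true _ _ ▸ hg.2 x (List.mem_range.mpr hx) with hmiss | hkeep
    · rw [List.contains_iff_mem] at hmiss
      obtain ⟨i, hi, hix⟩ := List.getElem_of_mem hmiss
      have h2 := List.all_eq_true.mp hreach i (List.mem_range.mpr hi)
      simp only [reachOK, Bool.and_eq_true, List.getD_eq_getElem _ 0 hi, hix, List.all_eq_true] at h2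
      generalize d.2.getD i [] = l at h2
      obtain ⟨hlk, hev⟩ := h2
      have hw : ∀ j ∈ l, (∀ y ∈ (tW d.1 :: h0.ws).getD j [], y < 10) ∧ gw ((tW d.1 :: h0.ws).getD j []) ∈ M := by
        intro j hj
        have hjl : j < (tW d.1 :: h0.ws).length := by
          have := Nat.le_of_ble_eq_true (hlk j hj)
          simp only [List.length_cons, show Nat.add 1 h0.ws.length = 1 + h0.ws.length from rfl] at this ⊢
          omega
        rw [List.getD_eq_getElem _ _ hjl]
        rcases List.mem_cons.mp (List.getElem_mem hjl) with h | h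
        · rw [h, gw_tW]
          refine ⟨fun y hy => ?_, htM⟩
          simp only [tW, List.mem_append, List.mem_cons, List.not_mem_nil, or_false, List.mem_reverse] at hy
          rcases hy with (hy | hy) | hy
          · exact lettersOK_spec hdl (by simp) hy
          · omega
          · exact lettersOK_spec hdl (by simp) hy
        · refine ⟨?_, hM.le (keep_top h)⟩
          have ht := top_ok
          simp only [topOK, keepOK, Bool.and_eq_true, List.all_eq_true] at ht
          exact fun y hy => Nat.le_of_ble_eq_true ((ht.1.1 _ h).1 y hy)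
      have hflat : ∀ (l : List ℕ), (∀ j ∈ l, gw ((tW d.1 :: h0.ws).getD j []) ∈ M) →
          gw (l.flatMap fun i => (tW d.1 :: h0.ws).getD i []) ∈ M := by
        intro l
        induction l with
        | nil => intro _; simp [gw]
        | cons j l ih =>
          intro h
          have e : gw ((j :: l).flatMap fun i => (tW d.1 :: h0.ws).getD i []) =
              gw ((tW d.1 :: h0.ws).getD j []) * gw (l.flatMap fun i => (tW d.1 :: h0.ws).getD i []) := by
            simp [gw]
          rw [e]
          exact mul_mem (h j (by simp)) (ih fun i hi => h i (by simp [hi]))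
      have hm := hflat l fun j hj => (hw j hj).2
      generalize hW : (l.flatMap fun i => (tW d.1 :: h0.ws).getD i []) = W at hm hev
      have hWl : ∀ y ∈ W, y < 10 := by
        subst hW
        intro y hy
        obtain ⟨j, hj, hy⟩ := List.mem_flatMap.mp hy
        exact (hw j hj).1 y hy
      have hnew : IsPt (gw W * transp d.1 * (gw W)⁻¹) (genPt x) := isPt_move hpd (gw W) fun u hu => by
        rw [act_gw hWl, hu]
        exact Nat.eq_of_beq_eq_true hev
      rw [← hnew.inj (isPt_genPt hx)]
      exact mul_mem (mul_mem hm htM) (inv_mem hm)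
    · rw [← gw_single]
      exact hM.le (keep_spec hkeep)
  rw [eq_top_iff, ← Pres.closure_gen pres_ok]
  refine (Subgroup.closure_le _).mpr ?_
  rintro _ ⟨x, -, rfl⟩
  by_cases hx : x < 10
  · exact hgens x hx
  · rw [Pres.gen_big (Q := pres) hx]
    exact one_mem M

/-- the derived series of the subgroup inside the group -/
def Ds (n : ℕ) : Subgroup pres.Grp := (derivedSeries Hs n).map Hs.subtype

theorem Ds_succ (n : ℕ) : Ds (n + 1) = ⁅Ds n, Ds n⁆ := by
  rw [Ds, derivedSeries_succ, Subgroup.map_commutator, Ds]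

theorem Ds_conj {n : ℕ} {a b : pres.Grp} (ha : a ∈ Hs) (hb : b ∈ Ds n) : a * b * a⁻¹ ∈ Ds n := by
  obtain ⟨b', hb', rfl⟩ := hb
  exact ⟨⟨a, ha⟩ * b' * ⟨a, ha⟩⁻¹, (derivedSeries_normal (G := Hs) n).conj_mem b' hb' _, rfl⟩

theorem gw_append (a b : List ℕ) : gw (a ++ b) = gw a * gw b := by simp [gw]

theorem gw_rev (a : List ℕ) : gw a.reverse = (gw a)⁻¹ := (Below.prod_rev a).symm

theorem tree_all {k : ℕ} (hk : k < treeW.length) : treeOK1 k = true := by
  have hlen : treeW.length = 44 := by decide +kernel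
  rw [hlen] at hk
  have key : ∀ a b, (List.range' a b).all treeOK1 = true → a ≤ k → k < a + b → treeOK1 k = true :=
    fun a b h h1 h2 => List.all_eq_true.mp h k (List.mem_range'_1.mpr ⟨h1, h2⟩)
  by_cases k < 6
  · exact key _ _ tree0_ok (by omega) (by omega)
  by_cases k < 12
  · exact key _ _ tree6_ok (by omega) (by omega)
  by_cases k < 18
  · exact key _ _ tree12_ok (by omega) (by omega)
  by_cases k < 24
  · exact key _ _ tree18_ok (by omega) (by omega)
  by_cases k < 30
  · exact key _ _ tree24_ok (by omega) (by omega)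
  by_cases k < 36
  · exact key _ _ tree30_ok (by omega) (by omega)
  by_cases k < 42
  · exact key _ _ tree36_ok (by omega) (by omega)
  exact key _ _ tree42_ok (by omega) (by omega)

theorem tree_mem : ∀ k, k < treeW.length →
    (∀ x ∈ treeW.getD k [], x < 10) ∧ gw (treeW.getD k []) ∈ Ds (treeDepth.getD k 0) := by
  intro k
  induction k using Nat.strong_induction_on with
  | _ k ih =>
    intro hk
    have h := tree_all hk
    simp only [treeOK1, Bool.and_eq_true] at h
    obtain ⟨⟨hshape, hlet⟩, heq⟩ := h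
    have hl := blt_all hlet
    refine ⟨hl, ?_⟩
    have agree : ∀ w : List ℕ, (∀ x ∈ w, x < 10) → (base.all fun b =>
        Nat.beq (ev RepA.rows 10 (treeW.getD k []) b) (ev RepA.rows 10 w b)) = true →
        gw (treeW.getD k []) = gw w := by
      intro w hw h
      refine eq_of_agree fun i hi => Fin.ext ?_
      rw [act_gw hl, act_gw hw]
      refine Nat.eq_of_beq_eq_true (List.all_eq_true.mp h _ ?_)
      rw [bp_val hi, bpt]
      have hb := base_ok
      simp only [baseOK, Bool.and_eq_true] at hb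
      have hlen : base.length = 11 := Nat.eq_of_beq_eq_true hb.1.1.1.1.1.1.1.1.1
      rw [List.getD_eq_getElem _ _ (by omega)]
      exact List.getElem_mem _
    simp only [treeRhs] at heq
    simp only [treeShape] at hshape
    rcases hop : treeOp.getD k (0, 0, 0) with ⟨o, a, b⟩
    rw [hop] at hshape heq
    match o with
    | 0 =>
      simp only [Nat.eq_of_beq_eq_true hshape]
      exact ⟨⟨_, keep_spec (by simpa using heq)⟩, by simp, rfl⟩
    | 1 =>
      simp only [Bool.and_eq_true] at hshape
      obtain ⟨⟨⟨ha, hb⟩, hd⟩, hab⟩ := hshape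
      have ha' : a < k := Nat.le_of_ble_eq_true ha
      have hb' : b < k := Nat.le_of_ble_eq_true hb
      obtain ⟨hla, hma⟩ := ih a ha' (by omega)
      obtain ⟨hlb, hmb⟩ := ih b hb' (by omega)
      have e := agree (treeW.getD a [] ++ treeW.getD b [] ++ (treeW.getD a []).reverse ++
        (treeW.getD b []).reverse) (fun x hx => by
          simp only [List.mem_append, List.mem_reverse] at hx
          rcases hx with ((hx | hx) | hx) | hx
          exacts [hla x hx, hlb x hx, hla x hx, hlb x hx]) (by simpa using heq)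
      rw [e, Nat.eq_of_beq_eq_true hd, gw_append, gw_append, gw_append, gw_rev, gw_rev, Ds_succ]
      exact Subgroup.commutator_mem_commutator hma (Nat.eq_of_beq_eq_true hab ▸ hmb)
    | 2 =>
      simp only [Bool.and_eq_true] at hshape
      obtain ⟨⟨ha, hb⟩, hd⟩ := hshape
      have hb' : b < k := Nat.le_of_ble_eq_true hb
      obtain ⟨hlb, hmb⟩ := ih b hb' (by omega)
      have hmem : h0.ws.getD a [] ∈ h0.ws := by
        rw [List.getD_eq_getElem _ _ (Nat.le_of_ble_eq_true ha)]
        exact List.getElem_mem _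
      have hla : ∀ x ∈ h0.ws.getD a [], x < 10 := by
        have ht := top_ok
        simp only [topOK, keepOK, Bool.and_eq_true, List.all_eq_true] at ht
        exact fun y hy => Nat.le_of_ble_eq_true ((ht.1.1 _ hmem).1 y hy)
      have e := agree (h0.ws.getD a [] ++ treeW.getD b [] ++ (h0.ws.getD a []).reverse) (fun x hx => by
          simp only [List.mem_append, List.mem_reverse] at hx
          rcases hx with (hx | hx) | hx
          exacts [hla x hx, hlb x hx, hla x hx]) (by simpa using heq)
      rw [e, Nat.eq_of_beq_eq_true hd, gw_append, gw_append, gw_rev]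
      exact Ds_conj (keep_top hmem) hmb
    | o + 3 => simp at hshape

theorem not_stationary : derivedSeries Hs 10 ≠ derivedSeries Hs 9 := by
  intro h
  have h9 : derivedSeries Hs 9 ≠ ⊥ := by
    intro hb
    have hl := last_ok
    simp only [lastOK, Bool.and_eq_true, Bool.not_eq_true'] at hl
    obtain ⟨⟨⟨hd, hpos⟩, hmv⟩, hne⟩ := hl
    have hpos' : 0 < treeW.length := Nat.le_of_ble_eq_true hpos
    obtain ⟨hlet, hm⟩ := tree_mem (treeW.length - 1) (by omega)
    rw [Nat.eq_of_beq_eq_true hd, Ds, hb, Subgroup.map_bot, Subgroup.mem_bot] at hm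
    have e := act_gw hlet ⟨movedPt, Nat.le_of_ble_eq_true hmv⟩
    simp only [act, hm, map_one, Equiv.Perm.one_apply] at e
    rw [← e] at hne
    simp at hne
  have hall : ∀ n, derivedSeries Hs (9 + n) = derivedSeries Hs 9 := by
    intro n
    induction n with
    | zero => rfl
    | succ n ih => rw [← Nat.add_assoc, derivedSeries_succ, ih, ← derivedSeries_succ, h]
  obtain ⟨m, hm⟩ := solvable.solvable
  refine h9 (le_bot_iff.mp ?_)
  rw [← hm, ← hall m]
  exact derivedSeries_antitone _ (Nat.le_add_left m 9)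

theorem exists_example :
    ∃ (G : Type) (_ : Group G) (_ : Finite G) (S H : Subgroup G), S.Normal ∧ IsSimpleGroup S ∧
      ¬ IsMulCommutative S ∧ Subgroup.centralizer (S : Set G) = ⊥ ∧ IsCoatom H ∧
      derivedSeries H 10 ≠ derivedSeries H 9 := by
  haveI := order.1
  haveI := simple
  refine ⟨pres.Grp, inferInstance, order.1, ⊤, Hs, inferInstance,
    (Subgroup.topEquiv (G := pres.Grp)).isSimpleGroup, ?_, ?_, coatom, not_stationary⟩
  · intro hc
    have hne : Subgroup.center pres.Grp ≠ ⊤ := by
      rw [center_bot]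
      exact fun h => Hs_ne_top (eq_top_iff.mpr (h ▸ bot_le))
    refine hne (eq_top_iff.mpr fun g _ => Subgroup.mem_center_iff.mpr fun h => ?_)
    exact congrArg Subtype.val (hc.is_comm.comm (⟨h, Subgroup.mem_top h⟩ : (⊤ : Subgroup pres.Grp)) ⟨g, Subgroup.mem_top g⟩)
  · rw [Subgroup.coe_top, Subgroup.centralizer_univ, center_bot]

end Cfsg.Agent.Spor.Fi23Cert.LongSeries
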