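import Cfsg.Agent.Lib.Spor.Fi23RepAData

/-!
Checks for table `RepA` of Fi23.
-/

set_option autoImplicit false
set_option maxRecDepth 100000

namespace Cfsg.Agent.Spor.Fi23Cert.RepA

open Cfsg.Agent.Spor.CC

theorem inv4 : invOK rows 10 31671 1292 323 = true := by decide +kernel

theorem loop4 : loopOK rows 10 Cfsg.Agent.Spor.Fi23Cert.pres.relW 1292 323 = true :=
  relW_eq ▸ loop_of (fun u => rel_eq u) (by decide +kernel : rangeOK relAll 1292 323 = true)

theorem inv5 : invOK rows 10 31671 1615 323 = true := by decide +kernel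

theorem loop5 : loopOK rows 10 Cfsg.Agent.Spor.Fi23Cert.pres.relW 1615 323 = true :=
  relW_eq ▸ loop_of (fun u => rel_eq u) (by decide +kernel : rangeOK relAll 1615 323 = true)

theorem inv6 : invOK rows 10 31671 1938 323 = true := by decide +kernel

theorem loop6 : loopOK rows 10 Cfsg.Agent.Spor.Fi23Cert.pres.relW 1938 323 = true :=
  relW_eq ▸ loop_of (fun u => rel_eq u) (by decide +kernel : rangeOK relAll 1938 323 = true)

theorem inv7 : invOK rows 10 31671 2261 323 = true := by decide +kernel

theorem loop7 : loopOK rows 10 Cfsg.Agent.Spor.Fi23Cert.pres.relW 2261 323 = true :=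
  relW_eq ▸ loop_of (fun u => rel_eq u) (by decide +kernel : rangeOK relAll 2261 323 = true)

end Cfsg.Agent.Spor.Fi23Cert.RepA
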