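import Cfsg.Agent.Lib.Spor.Fi23RepAData

/-!
Checks for table `RepA` of Fi23.
-/

set_option autoImplicit false
set_option maxRecDepth 100000

namespace Cfsg.Agent.Spor.Fi23Cert.RepA

open Cfsg.Agent.Spor.CC

theorem inv76 : invOK rows 10 31671 24548 323 = true := by decide +kernel

theorem loop76 : loopOK rows 10 Cfsg.Agent.Spor.Fi23Cert.pres.relW 24548 323 = true :=
  relW_eq ▸ loop_of (fun u => rel_eq u) (by decide +kernel : rangeOK relAll 24548 323 = true)

theorem inv77 : invOK rows 10 31671 24871 323 = true := by decide +kernel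

theorem loop77 : loopOK rows 10 Cfsg.Agent.Spor.Fi23Cert.pres.relW 24871 323 = true :=
  relW_eq ▸ loop_of (fun u => rel_eq u) (by decide +kernel : rangeOK relAll 24871 323 = true)

theorem inv78 : invOK rows 10 31671 25194 323 = true := by decide +kernel

theorem loop78 : loopOK rows 10 Cfsg.Agent.Spor.Fi23Cert.pres.relW 25194 323 = true :=
  relW_eq ▸ loop_of (fun u => rel_eq u) (by decide +kernel : rangeOK relAll 25194 323 = true)

theorem inv79 : invOK rows 10 31671 25517 323 = true := by decide +kernel

theorem loop79 : loopOK rows 10 Cfsg.Agent.Spor.Fi23Cert.pres.relW 25517 323 = true :=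
  relW_eq ▸ loop_of (fun u => rel_eq u) (by decide +kernel : rangeOK relAll 25517 323 = true)

end Cfsg.Agent.Spor.Fi23Cert.RepA
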