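import Cfsg.Agent.Lib.Spor.Fi23RepAData

/-!
Checks for table `RepA` of Fi23.
-/

set_option autoImplicit false
set_option maxRecDepth 100000

namespace Cfsg.Agent.Spor.Fi23Cert.RepA

open Cfsg.Agent.Spor.CC

theorem inv88 : invOK rows 10 31671 28424 323 = true := by decide +kernel

theorem loop88 : loopOK rows 10 Cfsg.Agent.Spor.Fi23Cert.pres.relW 28424 323 = true :=
  relW_eq ▸ loop_of (fun u => rel_eq u) (by decide +kernel : rangeOK relAll 28424 323 = true)

theorem inv89 : invOK rows 10 31671 28747 323 = true := by decide +kernel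

theorem loop89 : loopOK rows 10 Cfsg.Agent.Spor.Fi23Cert.pres.relW 28747 323 = true :=
  relW_eq ▸ loop_of (fun u => rel_eq u) (by decide +kernel : rangeOK relAll 28747 323 = true)

theorem inv90 : invOK rows 10 31671 29070 323 = true := by decide +kernel

theorem loop90 : loopOK rows 10 Cfsg.Agent.Spor.Fi23Cert.pres.relW 29070 323 = true :=
  relW_eq ▸ loop_of (fun u => rel_eq u) (by decide +kernel : rangeOK relAll 29070 323 = true)

theorem inv91 : invOK rows 10 31671 29393 323 = true := by decide +kernel

theorem loop91 : loopOK rows 10 Cfsg.Agent.Spor.Fi23Cert.pres.relW 29393 323 = true :=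
  relW_eq ▸ loop_of (fun u => rel_eq u) (by decide +kernel : rangeOK relAll 29393 323 = true)

end Cfsg.Agent.Spor.Fi23Cert.RepA
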