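import Cfsg.Agent.Lib.Spor.PermBig
import Cfsg.Agent.Lib.Spor.Fi23RepAData

/-!
Orbit chunk checks for table `RepA` of Fi23.
-/

set_option autoImplicit false
set_option maxRecDepth 100000

namespace Cfsg.Agent.Spor.Fi23Cert.RepA

open Cfsg.Agent.Spor.CC

theorem allOrb_r0 : rangeOK (orbOK1 rows 10 allOrb) 0 1200 = true := by decide +kernel

theorem allOrb_r1 : rangeOK (orbOK1 rows 10 allOrb) 1200 1200 = true := by decide +kernel

theorem allOrb_r2 : rangeOK (orbOK1 rows 10 allOrb) 2400 1200 = true := by decide +kernel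

theorem allOrb_r3 : rangeOK (orbOK1 rows 10 allOrb) 3600 1200 = true := by decide +kernel

theorem allOrb_r4 : rangeOK (orbOK1 rows 10 allOrb) 4800 1200 = true := by decide +kernel

theorem allOrb_r5 : rangeOK (orbOK1 rows 10 allOrb) 6000 1200 = true := by decide +kernel

theorem allOrb_r6 : rangeOK (orbOK1 rows 10 allOrb) 7200 1200 = true := by decide +kernel

theorem allOrb_r7 : rangeOK (orbOK1 rows 10 allOrb) 8400 1200 = true := by decide +kernel

end Cfsg.Agent.Spor.Fi23Cert.RepA
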