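import Cfsg.Agent.Lib.Spor.PermBig
import Cfsg.Agent.Lib.Spor.Fi23RepAData

/-!
Orbit chunk checks for table `RepA` of Fi23.
-/

set_option autoImplicit false
set_option maxRecDepth 100000

namespace Cfsg.Agent.Spor.Fi23Cert.RepA

open Cfsg.Agent.Spor.CC

theorem lev0_r25 : rangeOK (orbOK1 rows 10 lev0) 30000 1200 = true := by decide +kernel

theorem lev0_r26 : rangeOK (orbOK1 rows 10 lev0) 31200 471 = true := by decide +kernel

theorem lev1_r0 : rangeOK (orbOK1 rows 10 lev1) 0 1200 = true := by decide +kernel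

theorem lev1_r1 : rangeOK (orbOK1 rows 10 lev1) 1200 1200 = true := by decide +kernel

theorem lev1_r2 : rangeOK (orbOK1 rows 10 lev1) 2400 1110 = true := by decide +kernel

theorem lev2_r0 : rangeOK (orbOK1 rows 10 lev2) 0 172 = true := by decide +kernel

theorem lev2_r1 : rangeOK (orbOK1 rows 10 lev2) 172 172 = true := by decide +kernel

theorem lev2_r2 : rangeOK (orbOK1 rows 10 lev2) 344 172 = true := by decide +kernel

end Cfsg.Agent.Spor.Fi23Cert.RepA
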