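import Cfsg.Agent.Lib.Spor.PermBig
import Cfsg.Agent.Lib.Spor.Fi23RepAData

/-!
Orbit chunk checks for table `RepA` of Fi23.
-/

set_option autoImplicit false
set_option maxRecDepth 100000

namespace Cfsg.Agent.Spor.Fi23Cert.RepA

open Cfsg.Agent.Spor.CC

theorem lev2_r3 : rangeOK (orbOK1 rows 10 lev2) 516 172 = true := by decide +kernel

theorem lev2_r4 : rangeOK (orbOK1 rows 10 lev2) 688 172 = true := by decide +kernel

theorem lev2_r5 : rangeOK (orbOK1 rows 10 lev2) 860 172 = true := by decide +kernel

theorem lev2_r6 : rangeOK (orbOK1 rows 10 lev2) 1032 172 = true := by decide +kernel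

theorem lev2_r7 : rangeOK (orbOK1 rows 10 lev2) 1204 172 = true := by decide +kernel

theorem lev2_r8 : rangeOK (orbOK1 rows 10 lev2) 1376 172 = true := by decide +kernel

theorem lev2_r9 : rangeOK (orbOK1 rows 10 lev2) 1548 172 = true := by decide +kernel

theorem lev2_r10 : rangeOK (orbOK1 rows 10 lev2) 1720 172 = true := by decide +kernel

end Cfsg.Agent.Spor.Fi23Cert.RepA
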