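import Cfsg.Agent.Lib.Spor.PermBig
import Cfsg.Agent.Lib.Spor.Fi23RepAData

/-!
Orbit chunk checks for table `RepA` of Fi23.
-/

set_option autoImplicit false
set_option maxRecDepth 100000

namespace Cfsg.Agent.Spor.Fi23Cert.RepA

open Cfsg.Agent.Spor.CC

theorem lev3_r10 : rangeOK (orbOK1 rows 10 lev3) 1000 100 = true := by decide +kernel

theorem lev3_r11 : rangeOK (orbOK1 rows 10 lev3) 1100 100 = true := by decide +kernel

theorem lev3_r12 : rangeOK (orbOK1 rows 10 lev3) 1200 100 = true := by decide +kernel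

theorem lev3_r13 : rangeOK (orbOK1 rows 10 lev3) 1300 100 = true := by decide +kernel

theorem lev3_r14 : rangeOK (orbOK1 rows 10 lev3) 1400 100 = true := by decide +kernel

theorem lev3_r15 : rangeOK (orbOK1 rows 10 lev3) 1500 100 = true := by decide +kernel

theorem lev3_r16 : rangeOK (orbOK1 rows 10 lev3) 1600 80 = true := by decide +kernel

theorem lev4_r0 : rangeOK (orbOK1 rows 10 lev4) 0 100 = true := by decide +kernel

end Cfsg.Agent.Spor.Fi23Cert.RepA
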