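import Cfsg.Agent.Lib.Spor.PermBig
import Cfsg.Agent.Lib.Spor.Fi23RepAData

/-!
Orbit chunk checks for table `RepA` of Fi23.
-/

set_option autoImplicit false
set_option maxRecDepth 100000

namespace Cfsg.Agent.Spor.Fi23Cert.RepA

open Cfsg.Agent.Spor.CC

theorem lev4_r1 : rangeOK (orbOK1 rows 10 lev4) 100 100 = true := by decide +kernel

theorem lev4_r2 : rangeOK (orbOK1 rows 10 lev4) 200 43 = true := by decide +kernel

theorem lev5_r0 : rangeOK (orbOK1 rows 10 lev5) 0 16 = true := by decide +kernel

theorem lev6_r0 : rangeOK (orbOK1 rows 10 lev6) 0 2 = true := by decide +kernel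

theorem sub0_c0 : rangeOK (closedOK1 rows 10 sub0) 0 1 = true := by decide +kernel

theorem sub0_l0 : rangeOK (labOK1 sub0 labels 0) 0 1 = true := by decide +kernel

theorem sub1_c0 : rangeOK (closedOK1 rows 10 sub1) 0 444 = true := by decide +kernel

theorem sub1_c1 : rangeOK (closedOK1 rows 10 sub1) 444 444 = true := by decide +kernel

end Cfsg.Agent.Spor.Fi23Cert.RepA
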