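import Cfsg.Agent.Lib.Spor.PermBig
import Cfsg.Agent.Lib.Spor.Fi23RepAData

/-!
Orbit chunk checks for table `RepA` of Fi23.
-/

set_option autoImplicit false
set_option maxRecDepth 100000

namespace Cfsg.Agent.Spor.Fi23Cert.RepA

open Cfsg.Agent.Spor.CC

theorem sub1_c10 : rangeOK (closedOK1 rows 10 sub1) 4440 444 = true := by decide +kernel

theorem sub1_c11 : rangeOK (closedOK1 rows 10 sub1) 4884 444 = true := by decide +kernel

theorem sub1_c12 : rangeOK (closedOK1 rows 10 sub1) 5328 444 = true := by decide +kernel

theorem sub1_c13 : rangeOK (closedOK1 rows 10 sub1) 5772 444 = true := by decide +kernel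

theorem sub1_c14 : rangeOK (closedOK1 rows 10 sub1) 6216 444 = true := by decide +kernel

theorem sub1_c15 : rangeOK (closedOK1 rows 10 sub1) 6660 444 = true := by decide +kernel

theorem sub1_c16 : rangeOK (closedOK1 rows 10 sub1) 7104 444 = true := by decide +kernel

theorem sub1_c17 : rangeOK (closedOK1 rows 10 sub1) 7548 444 = true := by decide +kernel

end Cfsg.Agent.Spor.Fi23Cert.RepA
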