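import Cfsg.Agent.Lib.Spor.PermBig
import Cfsg.Agent.Lib.Spor.Fi23RepAData

/-!
Orbit chunk checks for table `RepA` of Fi23.
-/

set_option autoImplicit false
set_option maxRecDepth 100000

namespace Cfsg.Agent.Spor.Fi23Cert.RepA

open Cfsg.Agent.Spor.CC

theorem sub1_c18 : rangeOK (closedOK1 rows 10 sub1) 7992 444 = true := by decide +kernel

theorem sub1_c19 : rangeOK (closedOK1 rows 10 sub1) 8436 444 = true := by decide +kernel

theorem sub1_c20 : rangeOK (closedOK1 rows 10 sub1) 8880 444 = true := by decide +kernel

theorem sub1_c21 : rangeOK (closedOK1 rows 10 sub1) 9324 444 = true := by decide +kernel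

theorem sub1_c22 : rangeOK (closedOK1 rows 10 sub1) 9768 444 = true := by decide +kernel

theorem sub1_c23 : rangeOK (closedOK1 rows 10 sub1) 10212 444 = true := by decide +kernel

theorem sub1_c24 : rangeOK (closedOK1 rows 10 sub1) 10656 444 = true := by decide +kernel

theorem sub1_c25 : rangeOK (closedOK1 rows 10 sub1) 11100 444 = true := by decide +kernel

end Cfsg.Agent.Spor.Fi23Cert.RepA
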