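import Cfsg.Agent.Lib.Spor.PermBig
import Cfsg.Agent.Lib.Spor.Fi23RepAData

/-!
Orbit chunk checks for table `RepA` of Fi23.
-/

set_option autoImplicit false
set_option maxRecDepth 100000

namespace Cfsg.Agent.Spor.Fi23Cert.RepA

open Cfsg.Agent.Spor.CC

theorem sub1_c26 : rangeOK (closedOK1 rows 10 sub1) 11544 444 = true := by decide +kernel

theorem sub1_c27 : rangeOK (closedOK1 rows 10 sub1) 11988 444 = true := by decide +kernel

theorem sub1_c28 : rangeOK (closedOK1 rows 10 sub1) 12432 444 = true := by decide +kernel

theorem sub1_c29 : rangeOK (closedOK1 rows 10 sub1) 12876 444 = true := by decide +kernel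

theorem sub1_c30 : rangeOK (closedOK1 rows 10 sub1) 13320 444 = true := by decide +kernel

theorem sub1_c31 : rangeOK (closedOK1 rows 10 sub1) 13764 444 = true := by decide +kernel

theorem sub1_c32 : rangeOK (closedOK1 rows 10 sub1) 14208 444 = true := by decide +kernel

theorem sub1_c33 : rangeOK (closedOK1 rows 10 sub1) 14652 444 = true := by decide +kernel

end Cfsg.Agent.Spor.Fi23Cert.RepA
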