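import Cfsg.Agent.Lib.Spor.PermBig
import Cfsg.Agent.Lib.Spor.Fi23RepAData

/-!
Orbit chunk checks for table `RepA` of Fi23.
-/

set_option autoImplicit false
set_option maxRecDepth 100000

namespace Cfsg.Agent.Spor.Fi23Cert.RepA

open Cfsg.Agent.Spor.CC

theorem allOrb_r16 : rangeOK (orbOK1 rows 10 allOrb) 19200 1200 = true := by decide +kernel

theorem allOrb_r17 : rangeOK (orbOK1 rows 10 allOrb) 20400 1200 = true := by decide +kernel

theorem allOrb_r18 : rangeOK (orbOK1 rows 10 allOrb) 21600 1200 = true := by decide +kernel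

theorem allOrb_r19 : rangeOK (orbOK1 rows 10 allOrb) 22800 1200 = true := by decide +kernel

theorem allOrb_r20 : rangeOK (orbOK1 rows 10 allOrb) 24000 1200 = true := by decide +kernel

theorem allOrb_r21 : rangeOK (orbOK1 rows 10 allOrb) 25200 1200 = true := by decide +kernel

theorem allOrb_r22 : rangeOK (orbOK1 rows 10 allOrb) 26400 1200 = true := by decide +kernel

theorem allOrb_r23 : rangeOK (orbOK1 rows 10 allOrb) 27600 1200 = true := by decide +kernel

end Cfsg.Agent.Spor.Fi23Cert.RepA
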