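import Cfsg.Agent.Lib.Spor.PermBig
import Cfsg.Agent.Lib.Spor.Fi23RepAData

/-!
Orbit chunk checks for table `RepA` of Fi23.
-/

set_option autoImplicit false
set_option maxRecDepth 100000

namespace Cfsg.Agent.Spor.Fi23Cert.RepA

open Cfsg.Agent.Spor.CC

theorem sub1_c34 : rangeOK (closedOK1 rows 10 sub1) 15096 444 = true := by decide +kernel

theorem sub1_c35 : rangeOK (closedOK1 rows 10 sub1) 15540 444 = true := by decide +kernel

theorem sub1_c36 : rangeOK (closedOK1 rows 10 sub1) 15984 444 = true := by decide +kernel

theorem sub1_c37 : rangeOK (closedOK1 rows 10 sub1) 16428 444 = true := by decide +kernel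

theorem sub1_c38 : rangeOK (closedOK1 rows 10 sub1) 16872 444 = true := by decide +kernel

theorem sub1_c39 : rangeOK (closedOK1 rows 10 sub1) 17316 444 = true := by decide +kernel

theorem sub1_c40 : rangeOK (closedOK1 rows 10 sub1) 17760 444 = true := by decide +kernel

theorem sub1_c41 : rangeOK (closedOK1 rows 10 sub1) 18204 444 = true := by decide +kernel

end Cfsg.Agent.Spor.Fi23Cert.RepA
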