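import Cfsg.Agent.Lib.Spor.PermBig
import Cfsg.Agent.Lib.Spor.Fi23RepAData

/-!
Orbit chunk checks for table `RepA` of Fi23.
-/

set_option autoImplicit false
set_option maxRecDepth 100000

namespace Cfsg.Agent.Spor.Fi23Cert.RepA

open Cfsg.Agent.Spor.CC

theorem sub1_c42 : rangeOK (closedOK1 rows 10 sub1) 18648 444 = true := by decide +kernel

theorem sub1_c43 : rangeOK (closedOK1 rows 10 sub1) 19092 444 = true := by decide +kernel

theorem sub1_c44 : rangeOK (closedOK1 rows 10 sub1) 19536 444 = true := by decide +kernel

theorem sub1_c45 : rangeOK (closedOK1 rows 10 sub1) 19980 444 = true := by decide +kernel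

theorem sub1_c46 : rangeOK (closedOK1 rows 10 sub1) 20424 444 = true := by decide +kernel

theorem sub1_c47 : rangeOK (closedOK1 rows 10 sub1) 20868 444 = true := by decide +kernel

theorem sub1_c48 : rangeOK (closedOK1 rows 10 sub1) 21312 444 = true := by decide +kernel

theorem sub1_c49 : rangeOK (closedOK1 rows 10 sub1) 21756 444 = true := by decide +kernel

end Cfsg.Agent.Spor.Fi23Cert.RepA
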