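import Cfsg.Agent.Lib.Spor.PermBig
import Cfsg.Agent.Lib.Spor.Fi23RepAData

/-!
Orbit chunk checks for table `RepA` of Fi23.
-/

set_option autoImplicit false
set_option maxRecDepth 100000

namespace Cfsg.Agent.Spor.Fi23Cert.RepA

open Cfsg.Agent.Spor.CC

theorem sub1_c50 : rangeOK (closedOK1 rows 10 sub1) 22200 444 = true := by decide +kernel

theorem sub1_c51 : rangeOK (closedOK1 rows 10 sub1) 22644 444 = true := by decide +kernel

theorem sub1_c52 : rangeOK (closedOK1 rows 10 sub1) 23088 444 = true := by decide +kernel

theorem sub1_c53 : rangeOK (closedOK1 rows 10 sub1) 23532 444 = true := by decide +kernel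

theorem sub1_c54 : rangeOK (closedOK1 rows 10 sub1) 23976 444 = true := by decide +kernel

theorem sub1_c55 : rangeOK (closedOK1 rows 10 sub1) 24420 444 = true := by decide +kernel

theorem sub1_c56 : rangeOK (closedOK1 rows 10 sub1) 24864 444 = true := by decide +kernel

theorem sub1_c57 : rangeOK (closedOK1 rows 10 sub1) 25308 444 = true := by decide +kernel

end Cfsg.Agent.Spor.Fi23Cert.RepA
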