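import Cfsg.Agent.Lib.Spor.PermBig
import Cfsg.Agent.Lib.Spor.Fi23RepAData

/-!
Orbit chunk checks for table `RepA` of Fi23.
-/

set_option autoImplicit false
set_option maxRecDepth 100000

namespace Cfsg.Agent.Spor.Fi23Cert.RepA

open Cfsg.Agent.Spor.CC

theorem sub1_c58 : rangeOK (closedOK1 rows 10 sub1) 25752 444 = true := by decide +kernel

theorem sub1_c59 : rangeOK (closedOK1 rows 10 sub1) 26196 444 = true := by decide +kernel

theorem sub1_c60 : rangeOK (closedOK1 rows 10 sub1) 26640 444 = true := by decide +kernel

theorem sub1_c61 : rangeOK (closedOK1 rows 10 sub1) 27084 444 = true := by decide +kernel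

theorem sub1_c62 : rangeOK (closedOK1 rows 10 sub1) 27528 444 = true := by decide +kernel

theorem sub1_c63 : rangeOK (closedOK1 rows 10 sub1) 27972 188 = true := by decide +kernel

theorem sub1_l0 : rangeOK (labOK1 sub1 labels 1) 0 3000 = true := by decide +kernel

theorem sub1_l1 : rangeOK (labOK1 sub1 labels 1) 3000 3000 = true := by decide +kernel

end Cfsg.Agent.Spor.Fi23Cert.RepA
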