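import Cfsg.Agent.Lib.Spor.PermBig
import Cfsg.Agent.Lib.Spor.Fi23RepAData

/-!
Orbit chunk checks for table `RepA` of Fi23.
-/

set_option autoImplicit false
set_option maxRecDepth 100000

namespace Cfsg.Agent.Spor.Fi23Cert.RepA

open Cfsg.Agent.Spor.CC

theorem sub1_l2 : rangeOK (labOK1 sub1 labels 1) 6000 3000 = true := by decide +kernel

theorem sub1_l3 : rangeOK (labOK1 sub1 labels 1) 9000 3000 = true := by decide +kernel

theorem sub1_l4 : rangeOK (labOK1 sub1 labels 1) 12000 3000 = true := by decide +kernel

theorem sub1_l5 : rangeOK (labOK1 sub1 labels 1) 15000 3000 = true := by decide +kernel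

theorem sub1_l6 : rangeOK (labOK1 sub1 labels 1) 18000 3000 = true := by decide +kernel

theorem sub1_l7 : rangeOK (labOK1 sub1 labels 1) 21000 3000 = true := by decide +kernel

theorem sub1_l8 : rangeOK (labOK1 sub1 labels 1) 24000 3000 = true := by decide +kernel

theorem sub1_l9 : rangeOK (labOK1 sub1 labels 1) 27000 1160 = true := by decide +kernel

end Cfsg.Agent.Spor.Fi23Cert.RepA
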