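import Cfsg.Agent.Lib.Spor.PermBig
import Cfsg.Agent.Lib.Spor.Fi23RepAData

/-!
Orbit chunk checks for table `RepA` of Fi23.
-/

set_option autoImplicit false
set_option maxRecDepth 100000

namespace Cfsg.Agent.Spor.Fi23Cert.RepA

open Cfsg.Agent.Spor.CC

theorem sub2_l0 : rangeOK (labOK1 sub2 labels 2) 0 3000 = true := by decide +kernel

theorem sub2_l1 : rangeOK (labOK1 sub2 labels 2) 3000 510 = true := by decide +kernel

theorem cov_r0 : rangeOK (covOK1 subs labels) 0 2000 = true := by decide +kernel

theorem cov_r1 : rangeOK (covOK1 subs labels) 2000 2000 = true := by decide +kernel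

theorem cov_r2 : rangeOK (covOK1 subs labels) 4000 2000 = true := by decide +kernel

theorem cov_r3 : rangeOK (covOK1 subs labels) 6000 2000 = true := by decide +kernel

theorem cov_r4 : rangeOK (covOK1 subs labels) 8000 2000 = true := by decide +kernel

theorem cov_r5 : rangeOK (covOK1 subs labels) 10000 2000 = true := by decide +kernel

end Cfsg.Agent.Spor.Fi23Cert.RepA
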