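import Cfsg.Agent.Lib.Spor.PermBig
import Cfsg.Agent.Lib.Spor.Fi23RepAData

/-!
Orbit chunk checks for table `RepA` of Fi23.
-/

set_option autoImplicit false
set_option maxRecDepth 100000

namespace Cfsg.Agent.Spor.Fi23Cert.RepA

open Cfsg.Agent.Spor.CC

theorem cov_r6 : rangeOK (covOK1 subs labels) 12000 2000 = true := by decide +kernel

theorem cov_r7 : rangeOK (covOK1 subs labels) 14000 2000 = true := by decide +kernel

theorem cov_r8 : rangeOK (covOK1 subs labels) 16000 2000 = true := by decide +kernel

theorem cov_r9 : rangeOK (covOK1 subs labels) 18000 2000 = true := by decide +kernel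

theorem cov_r10 : rangeOK (covOK1 subs labels) 20000 2000 = true := by decide +kernel

theorem cov_r11 : rangeOK (covOK1 subs labels) 22000 2000 = true := by decide +kernel

theorem cov_r12 : rangeOK (covOK1 subs labels) 24000 2000 = true := by decide +kernel

theorem cov_r13 : rangeOK (covOK1 subs labels) 26000 2000 = true := by decide +kernel

end Cfsg.Agent.Spor.Fi23Cert.RepA
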