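import Cfsg.Agent.Lib.Spor.PermBig
import Cfsg.Agent.Lib.Spor.Fi23RepAData

/-!
Orbit chunk checks for table `RepA` of Fi23.
-/

set_option autoImplicit false
set_option maxRecDepth 100000

namespace Cfsg.Agent.Spor.Fi23Cert.RepA

open Cfsg.Agent.Spor.CC

theorem cov_r14 : rangeOK (covOK1 subs labels) 28000 2000 = true := by decide +kernel

theorem cov_r15 : rangeOK (covOK1 subs labels) 30000 1671 = true := by decide +kernel

end Cfsg.Agent.Spor.Fi23Cert.RepA
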