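import Cfsg.Agent.Lib.Spor.PermBig
import Cfsg.Agent.Lib.Spor.Fi23RepAData

/-!
Orbit chunk checks for table `RepA` of Fi23.
-/

set_option autoImplicit false
set_option maxRecDepth 100000

namespace Cfsg.Agent.Spor.Fi23Cert.RepA

open Cfsg.Agent.Spor.CC

theorem lev0_r17 : rangeOK (orbOK1 rows 10 lev0) 20400 1200 = true := by decide +kernel

theorem lev0_r18 : rangeOK (orbOK1 rows 10 lev0) 21600 1200 = true := by decide +kernel

theorem lev0_r19 : rangeOK (orbOK1 rows 10 lev0) 22800 1200 = true := by decide +kernel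

theorem lev0_r20 : rangeOK (orbOK1 rows 10 lev0) 24000 1200 = true := by decide +kernel

theorem lev0_r21 : rangeOK (orbOK1 rows 10 lev0) 25200 1200 = true := by decide +kernel

theorem lev0_r22 : rangeOK (orbOK1 rows 10 lev0) 26400 1200 = true := by decide +kernel

theorem lev0_r23 : rangeOK (orbOK1 rows 10 lev0) 27600 1200 = true := by decide +kernel

theorem lev0_r24 : rangeOK (orbOK1 rows 10 lev0) 28800 1200 = true := by decide +kernel

end Cfsg.Agent.Spor.Fi23Cert.RepA
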