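import Cfsg.Agent.Lib.Spor.PermBig
import Cfsg.Agent.Lib.Spor.Fi23RepAData

/-!
Orbit chunk checks for table `RepA` of Fi23.
-/

set_option autoImplicit false
set_option maxRecDepth 100000

namespace Cfsg.Agent.Spor.Fi23Cert.RepA

open Cfsg.Agent.Spor.CC

theorem lev2_r11 : rangeOK (orbOK1 rows 10 lev2) 1892 172 = true := by decide +kernel

theorem lev2_r12 : rangeOK (orbOK1 rows 10 lev2) 2064 172 = true := by decide +kernel

theorem lev2_r13 : rangeOK (orbOK1 rows 10 lev2) 2236 172 = true := by decide +kernel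

theorem lev2_r14 : rangeOK (orbOK1 rows 10 lev2) 2408 172 = true := by decide +kernel

theorem lev2_r15 : rangeOK (orbOK1 rows 10 lev2) 2580 172 = true := by decide +kernel

theorem lev2_r16 : rangeOK (orbOK1 rows 10 lev2) 2752 64 = true := by decide +kernel

theorem lev3_r0 : rangeOK (orbOK1 rows 10 lev3) 0 100 = true := by decide +kernel

theorem lev3_r1 : rangeOK (orbOK1 rows 10 lev3) 100 100 = true := by decide +kernel

end Cfsg.Agent.Spor.Fi23Cert.RepA
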