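import Cfsg.Agent.Lib.Spor.PermBig
import Cfsg.Agent.Lib.Spor.Fi23RepAData

/-!
Orbit chunk checks for table `RepA` of Fi23.
-/

set_option autoImplicit false
set_option maxRecDepth 100000

namespace Cfsg.Agent.Spor.Fi23Cert.RepA

open Cfsg.Agent.Spor.CC

theorem sub2_c0 : rangeOK (closedOK1 rows 10 sub2) 0 444 = true := by decide +kernel

theorem sub2_c1 : rangeOK (closedOK1 rows 10 sub2) 444 444 = true := by decide +kernel

theorem sub2_c2 : rangeOK (closedOK1 rows 10 sub2) 888 444 = true := by decide +kernel

theorem sub2_c3 : rangeOK (closedOK1 rows 10 sub2) 1332 444 = true := by decide +kernel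

theorem sub2_c4 : rangeOK (closedOK1 rows 10 sub2) 1776 444 = true := by decide +kernel

theorem sub2_c5 : rangeOK (closedOK1 rows 10 sub2) 2220 444 = true := by decide +kernel

theorem sub2_c6 : rangeOK (closedOK1 rows 10 sub2) 2664 444 = true := by decide +kernel

theorem sub2_c7 : rangeOK (closedOK1 rows 10 sub2) 3108 402 = true := by decide +kernel

end Cfsg.Agent.Spor.Fi23Cert.RepA
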