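import Cfsg.Agent.Lib.Spor.Fi23RepAOrb0
import Cfsg.Agent.Lib.Spor.Fi23RepAOrb1
import Cfsg.Agent.Lib.Spor.Fi23RepAOrb2
import Cfsg.Agent.Lib.Spor.Fi23RepAOrb3
import Cfsg.Agent.Lib.Spor.Fi23RepAOrb4
import Cfsg.Agent.Lib.Spor.Fi23RepAOrb5
import Cfsg.Agent.Lib.Spor.Fi23RepAOrb6
import Cfsg.Agent.Lib.Spor.Fi23RepAOrb7
import Cfsg.Agent.Lib.Spor.Fi23RepAOrb8
import Cfsg.Agent.Lib.Spor.Fi23RepAOrb9
import Cfsg.Agent.Lib.Spor.Fi23RepAOrb10
import Cfsg.Agent.Lib.Spor.Fi23RepAOrb11
import Cfsg.Agent.Lib.Spor.Fi23RepAOrb12
import Cfsg.Agent.Lib.Spor.Fi23RepAOrb13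
import Cfsg.Agent.Lib.Spor.Fi23RepAOrb14
import Cfsg.Agent.Lib.Spor.Fi23RepAOrb15
import Cfsg.Agent.Lib.Spor.Fi23RepAOrb16
import Cfsg.Agent.Lib.Spor.Fi23RepAOrb17
import Cfsg.Agent.Lib.Spor.Fi23RepAOrb18
import Cfsg.Agent.Lib.Spor.Fi23RepAOrb19
import Cfsg.Agent.Lib.Spor.Fi23RepAOrb20
import Cfsg.Agent.Lib.Spor.Fi23RepAOrb21
import Cfsg.Agent.Lib.Spor.Fi23RepAOrb22
import Cfsg.Agent.Lib.Spor.Fi23RepAOrb23
import Cfsg.Agent.Lib.Spor.Fi23RepAOrb24
import Cfsg.Agent.Lib.Spor.Fi23RepAOrb25
import Cfsg.Agent.Lib.Spor.Fi23RepAOrb26
import Cfsg.Agent.Lib.Spor.Fi23RepAOrb27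
import Cfsg.Agent.Lib.Spor.Fi23RepAOrb28

/-!
Orbit checks for table `RepA` of Fi23.
-/

set_option autoImplicit false
set_option maxRecDepth 100000

namespace Cfsg.Agent.Spor.Fi23Cert.RepA

open Cfsg.Agent.Spor.CC

theorem allOrb_r_all : Range (orbOK1 rows 10 allOrb) 0 31671 := (((((((((((((((((((((((((((range_of_ok allOrb_r0).append (range_of_ok allOrb_r1)).append (range_of_ok allOrb_r2)).append (range_of_ok allOrb_r3)).append (range_of_ok allOrb_r4)).append (range_of_ok allOrb_r5)).append (range_of_ok allOrb_r6)).append (range_of_ok allOrb_r7)).append (range_of_ok allOrb_r8)).append (range_of_ok allOrb_r9)).append (range_of_ok allOrb_r10)).append (range_of_ok allOrb_r11)).append (range_of_ok allOrb_r12)).append (range_of_ok allOrb_r13)).append (range_of_ok allOrb_r14)).append (range_of_ok allOrb_r15)).append (range_of_ok allOrb_r16)).append (range_of_ok allOrb_r17)).append (range_of_ok allOrb_r18)).append (range_of_ok allOrb_r19)).append (range_of_ok allOrb_r20)).append (range_of_ok allOrb_r21)).append (range_of_ok allOrb_r22)).append (range_of_ok allOrb_r23)).append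 (range_of_ok allOrb_r24)).append (range_of_ok allOrb_r25)).append (range_of_ok allOrb_r26))

theorem sub0_r_all : Range (orbOK1 rows 10 sub0) 0 1 := (range_of_ok sub0_r0)

theorem sub1_r_all : Range (orbOK1 rows 10 sub1) 0 28160 := ((((((((((((((((((((((((range_of_ok sub1_r0).append (range_of_ok sub1_r1)).append (range_of_ok sub1_r2)).append (range_of_ok sub1_r3)).append (range_of_ok sub1_r4)).append (range_of_ok sub1_r5)).append (range_of_ok sub1_r6)).append (range_of_ok sub1_r7)).append (range_of_ok sub1_r8)).append (range_of_ok sub1_r9)).append (range_of_ok sub1_r10)).append (range_of_ok sub1_r11)).append (range_of_ok sub1_r12)).append (range_of_ok sub1_r13)).append (range_of_ok sub1_r14)).append (range_of_ok sub1_r15)).append (range_of_ok sub1_r16)).append (range_of_ok sub1_r17)).append (range_of_ok sub1_r18)).append (range_of_ok sub1_r19)).append (range_of_ok sub1_r20)).append (range_of_ok sub1_r21)).append (range_of_ok sub1_r22)).append (range_of_ok sub1_r23))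

theorem sub2_r_all : Range (orbOK1 rows 10 sub2) 0 3510 := (((range_of_ok sub2_r0).append (range_of_ok sub2_r1)).append (range_of_ok sub2_r2))

theorem lev0_r_all : Range (orbOK1 rows 10 lev0) 0 31671 := (((((((((((((((((((((((((((range_of_ok lev0_r0).append (range_of_ok lev0_r1)).append (range_of_ok lev0_r2)).append (range_of_ok lev0_r3)).append (range_of_ok lev0_r4)).append (range_of_ok lev0_r5)).append (range_of_ok lev0_r6)).append (range_of_ok lev0_r7)).append (range_of_ok lev0_r8)).append (range_of_ok lev0_r9)).append (range_of_ok lev0_r10)).append (range_of_ok lev0_r11)).append (range_of_ok lev0_r12)).append (range_of_ok lev0_r13)).append (range_of_ok lev0_r14)).append (range_of_ok lev0_r15)).append (range_of_ok lev0_r16)).append (range_of_ok lev0_r17)).append (range_of_ok lev0_r18)).append (range_of_ok lev0_r19)).append (range_of_ok lev0_r20)).append (range_of_ok lev0_r21)).append (range_of_ok lev0_r22)).append (range_of_ok lev0_r23)).append (range_of_ok lev0_r24)).append (range_of_ok lev0_r25)).append (range_of_ok lev0_r26))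

theorem lev1_r_all : Range (orbOK1 rows 10 lev1) 0 3510 := (((range_of_ok lev1_r0).append (range_of_ok lev1_r1)).append (range_of_ok lev1_r2))

theorem lev2_r_all : Range (orbOK1 rows 10 lev2) 0 2816 := (((((((((((((((((range_of_ok lev2_r0).append (range_of_ok lev2_r1)).append (range_of_ok lev2_r2)).append (range_of_ok lev2_r3)).append (range_of_ok lev2_r4)).append (range_of_ok lev2_r5)).append (range_of_ok lev2_r6)).append (range_of_ok lev2_r7)).append (range_of_ok lev2_r8)).append (range_of_ok lev2_r9)).append (range_of_ok lev2_r10)).append (range_of_ok lev2_r11)).append (range_of_ok lev2_r12)).append (range_of_ok lev2_r13)).append (range_of_ok lev2_r14)).append (range_of_ok lev2_r15)).append (range_of_ok lev2_r16))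

theorem lev3_r_all : Range (orbOK1 rows 10 lev3) 0 1680 := (((((((((((((((((range_of_ok lev3_r0).append (range_of_ok lev3_r1)).append (range_of_ok lev3_r2)).append (range_of_ok lev3_r3)).append (range_of_ok lev3_r4)).append (range_of_ok lev3_r5)).append (range_of_ok lev3_r6)).append (range_of_ok lev3_r7)).append (range_of_ok lev3_r8)).append (range_of_ok lev3_r9)).append (range_of_ok lev3_r10)).append (range_of_ok lev3_r11)).append (range_of_ok lev3_r12)).append (range_of_ok lev3_r13)).append (range_of_ok lev3_r14)).append (range_of_ok lev3_r15)).append (range_of_ok lev3_r16))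

theorem lev4_r_all : Range (orbOK1 rows 10 lev4) 0 243 := (((range_of_ok lev4_r0).append (range_of_ok lev4_r1)).append (range_of_ok lev4_r2))

theorem lev5_r_all : Range (orbOK1 rows 10 lev5) 0 16 := (range_of_ok lev5_r0)

theorem lev6_r_all : Range (orbOK1 rows 10 lev6) 0 2 := (range_of_ok lev6_r0)

theorem sub0_c_all : Range (closedOK1 rows 10 sub0) 0 1 := (range_of_ok sub0_c0)

theorem sub0_l_all : Range (labOK1 sub0 labels 0) 0 1 := (range_of_ok sub0_l0)

theorem sub1_c_all : Range (closedOK1 rows 10 sub1) 0 28160 := ((((((((((((((((((((((((((((((((((((((((((((((((((((((((((((((((range_of_ok sub1_c0).append (range_of_ok sub1_c1)).append (range_of_ok sub1_c2)).append (range_of_ok sub1_c3)).append (range_of_ok sub1_c4)).append (range_of_ok sub1_c5)).append (range_of_ok sub1_c6)).append (range_of_ok sub1_c7)).append (range_of_ok sub1_c8)).append (range_of_ok sub1_c9)).append (range_of_ok sub1_c10)).append (range_of_ok sub1_c11)).append (range_of_ok sub1_c12)).append (range_of_ok sub1_c13)).append (range_of_ok sub1_c14)).append (range_of_ok sub1_c15)).append (range_of_ok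 sub1_c16)).append (range_of_ok sub1_c17)).append (range_of_ok sub1_c18)).append (range_of_ok sub1_c19)).append (range_of_ok sub1_c20)).append (range_of_ok sub1_c21)).append (range_of_ok sub1_c22)).append (range_of_ok sub1_c23)).append (range_of_ok sub1_c24)).append (range_of_ok sub1_c25)).append (range_of_ok sub1_c26)).append (range_of_ok sub1_c27)).append (range_of_ok sub1_c28)).append (range_of_ok sub1_c29)).append (range_of_ok sub1_c30)).append (range_of_ok sub1_c31)).append (range_of_ok sub1_c32)).append (range_of_ok sub1_c33)).append (range_of_ok sub1_c34)).append (range_of_ok sub1_c35)).append (range_of_ok sub1_c36)).append (range_of_ok sub1_c37)).append (range_of_ok sub1_c38)).append (range_of_ok sub1_c39)).append (range_of_ok sub1_c40)).append (range_of_ok sub1_c41)).append (range_of_ok sub1_c42)).append (range_of_ok sub1_c43)).append (range_of_ok sub1_c44)).append (range_of_ok sub1_c45)).append (range_of_ok sub1_c46)).append (range_of_ok sub1_c47)).append (range_of_ok sub1_c48)).append (range_of_ok sub1_c49)).append (range_of_ok sub1_c50)).append (range_of_ok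 sub1_c51)).append (range_of_ok sub1_c52)).append (range_of_ok sub1_c53)).append (range_of_ok sub1_c54)).append (range_of_ok sub1_c55)).append (range_of_ok sub1_c56)).append (range_of_ok sub1_c57)).append (range_of_ok sub1_c58)).append (range_of_ok sub1_c59)).append (range_of_ok sub1_c60)).append (range_of_ok sub1_c61)).append (range_of_ok sub1_c62)).append (range_of_ok sub1_c63))

theorem sub1_l_all : Range (labOK1 sub1 labels 1) 0 28160 := ((((((((((range_of_ok sub1_l0).append (range_of_ok sub1_l1)).append (range_of_ok sub1_l2)).append (range_of_ok sub1_l3)).append (range_of_ok sub1_l4)).append (range_of_ok sub1_l5)).append (range_of_ok sub1_l6)).append (range_of_ok sub1_l7)).append (range_of_ok sub1_l8)).append (range_of_ok sub1_l9))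

theorem sub2_c_all : Range (closedOK1 rows 10 sub2) 0 3510 := ((((((((range_of_ok sub2_c0).append (range_of_ok sub2_c1)).append (range_of_ok sub2_c2)).append (range_of_ok sub2_c3)).append (range_of_ok sub2_c4)).append (range_of_ok sub2_c5)).append (range_of_ok sub2_c6)).append (range_of_ok sub2_c7))

theorem sub2_l_all : Range (labOK1 sub2 labels 2) 0 3510 := ((range_of_ok sub2_l0).append (range_of_ok sub2_l1))

theorem cov_r_all : Range (covOK1 subs labels) 0 31671 := ((((((((((((((((range_of_ok cov_r0).append (range_of_ok cov_r1)).append (range_of_ok cov_r2)).append (range_of_ok cov_r3)).append (range_of_ok cov_r4)).append (range_of_ok cov_r5)).append (range_of_ok cov_r6)).append (range_of_ok cov_r7)).append (range_of_ok cov_r8)).append (range_of_ok cov_r9)).append (range_of_ok cov_r10)).append (range_of_ok cov_r11)).append (range_of_ok cov_r12)).append (range_of_ok cov_r13)).append (range_of_ok cov_r14)).append (range_of_ok cov_r15))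

theorem allOrb_ok : orbOK rows 10 allOrb = true := orbOK_of allOrb_r_all

theorem allOrb_letters : lettersOK 10 allOrb.ws = true := by decide +kernel

theorem sub0_ok : orbOK rows 10 sub0 = true := orbOK_of sub0_r_all

theorem sub0_letters : lettersOK 10 sub0.ws = true := by decide +kernel

theorem sub1_ok : orbOK rows 10 sub1 = true := orbOK_of sub1_r_all

theorem sub1_letters : lettersOK 10 sub1.ws = true := by decide +kernel

theorem sub2_ok : orbOK rows 10 sub2 = true := orbOK_of sub2_r_all

theorem sub2_letters : lettersOK 10 sub2.ws = true := by decide +kernel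

theorem lev0_ok : orbOK rows 10 lev0 = true := orbOK_of lev0_r_all

theorem lev0_letters : lettersOK 10 lev0.ws = true := by decide +kernel

theorem lev1_ok : orbOK rows 10 lev1 = true := orbOK_of lev1_r_all

theorem lev1_letters : lettersOK 10 lev1.ws = true := by decide +kernel

theorem lev2_ok : orbOK rows 10 lev2 = true := orbOK_of lev2_r_all

theorem lev2_letters : lettersOK 10 lev2.ws = true := by decide +kernel

theorem lev3_ok : orbOK rows 10 lev3 = true := orbOK_of lev3_r_all

theorem lev3_letters : lettersOK 10 lev3.ws = true := by decide +kernel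

theorem lev4_ok : orbOK rows 10 lev4 = true := orbOK_of lev4_r_all

theorem lev4_letters : lettersOK 10 lev4.ws = true := by decide +kernel

theorem lev5_ok : orbOK rows 10 lev5 = true := orbOK_of lev5_r_all

theorem lev5_letters : lettersOK 10 lev5.ws = true := by decide +kernel

theorem lev6_ok : orbOK rows 10 lev6 = true := orbOK_of lev6_r_all

theorem lev6_letters : lettersOK 10 lev6.ws = true := by decide +kernel

theorem all_ok : orbOK rows 10 allOrb = true := allOrb_ok

theorem all_letters : lettersOK 10 allOrb.ws = true := allOrb_letters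

theorem sub0_closed : closedOK rows 10 sub0 = true := closedOK_of sub0_c_all

theorem sub1_closed : closedOK rows 10 sub1 = true := closedOK_of sub1_c_all

theorem sub2_closed : closedOK rows 10 sub2 = true := closedOK_of sub2_c_all

theorem part_ok : partOK rows 10 31671 subs labels = true := by
  refine partOK_of ?_ cov_r_all
  intro i hi
  replace hi : i < 3 := hi
  interval_cases i
  · exact ⟨(by decide : 0 < sub0.k), (by decide : sub0.b < 31671), sub0_ok, sub0_letters, sub0_l_all⟩
  · exact ⟨(by decide : 0 < sub1.k), (by decide : sub1.b < 31671), sub1_ok, sub1_letters, sub1_l_all⟩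
  · exact ⟨(by decide : 0 < sub2.k), (by decide : sub2.b < 31671), sub2_ok, sub2_letters, sub2_l_all⟩

theorem sums_ok : sumsOK 31671 (subs.map Orb.k) = true := by decide +kernel

theorem lev0_fix : fixOK rows 10 lev0.ws [] = true := by decide +kernel

theorem lev1_fix : fixOK rows 10 lev1.ws [0] = true := by decide +kernel

theorem lev2_fix : fixOK rows 10 lev2.ws [11589, 0] = true := by decide +kernel

theorem lev3_fix : fixOK rows 10 lev3.ws [9592, 11589, 0] = true := by decide +kernel

theorem lev4_fix : fixOK rows 10 lev4.ws [1862, 9592, 11589, 0] = true := by decide +kernel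

theorem lev5_fix : fixOK rows 10 lev5.ws [1563, 1862, 9592, 11589, 0] = true := by decide +kernel

theorem lev6_fix : fixOK rows 10 lev6.ws [4965, 1563, 1862, 9592, 11589, 0] = true := by decide +kernel

theorem more_fix : fixOK rows 10 more (levels.map Orb.b) = true := by decide +kernel

theorem more_letters : lettersOK 10 more = true := by decide +kernel

theorem chain_ok : chainOK rows 10 31671 levels [] = true :=
  chainOK_cons (by decide) lev0_ok lev0_letters lev0_fix
    (chainOK_cons (by decide) lev1_ok lev1_letters lev1_fix
    (chainOK_cons (by decide) lev2_ok lev2_letters lev2_fix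
    (chainOK_cons (by decide) lev3_ok lev3_letters lev3_fix
    (chainOK_cons (by decide) lev4_ok lev4_letters lev4_fix
    (chainOK_cons (by decide) lev5_ok lev5_letters lev5_fix
    (chainOK_cons (by decide) lev6_ok lev6_letters lev6_fix
    (rfl)))))))

theorem chain_size : chainSize levels = 4089470473293004800 := by decide +kernel

end Cfsg.Agent.Spor.Fi23Cert.RepA
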