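import Cfsg.Agent.Lib.Spor.Fi23RepALoops0
import Cfsg.Agent.Lib.Spor.Fi23RepALoops1
import Cfsg.Agent.Lib.Spor.Fi23RepALoops2
import Cfsg.Agent.Lib.Spor.Fi23RepALoops3
import Cfsg.Agent.Lib.Spor.Fi23RepALoops4
import Cfsg.Agent.Lib.Spor.Fi23RepALoops5
import Cfsg.Agent.Lib.Spor.Fi23RepALoops6
import Cfsg.Agent.Lib.Spor.Fi23RepALoops7
import Cfsg.Agent.Lib.Spor.Fi23RepALoops8
import Cfsg.Agent.Lib.Spor.Fi23RepALoops9
import Cfsg.Agent.Lib.Spor.Fi23RepALoops10
import Cfsg.Agent.Lib.Spor.Fi23RepALoops11
import Cfsg.Agent.Lib.Spor.Fi23RepALoops12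
import Cfsg.Agent.Lib.Spor.Fi23RepALoops13
import Cfsg.Agent.Lib.Spor.Fi23RepALoops14
import Cfsg.Agent.Lib.Spor.Fi23RepALoops15
import Cfsg.Agent.Lib.Spor.Fi23RepALoops16
import Cfsg.Agent.Lib.Spor.Fi23RepALoops17
import Cfsg.Agent.Lib.Spor.Fi23RepALoops18
import Cfsg.Agent.Lib.Spor.Fi23RepALoops19
import Cfsg.Agent.Lib.Spor.Fi23RepALoops20
import Cfsg.Agent.Lib.Spor.Fi23RepALoops21
import Cfsg.Agent.Lib.Spor.Fi23RepALoops22
import Cfsg.Agent.Lib.Spor.Fi23RepALoops23
import Cfsg.Agent.Lib.Spor.Fi23RepALoops24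
import Cfsg.Agent.Lib.Spor.Fi23RepAOrb0
import Cfsg.Agent.Lib.Spor.Fi23RepAOrb1
import Cfsg.Agent.Lib.Spor.Fi23RepAOrb2
import Cfsg.Agent.Lib.Spor.Fi23RepAOrb3
import Cfsg.Agent.Lib.Spor.Fi23RepAOrb4
import Cfsg.Agent.Lib.Spor.Fi23RepAOrb5
import Cfsg.Agent.Lib.Spor.Fi23RepAOrb6
import Cfsg.Agent.Lib.Spor.Fi23RepAOrb7
import Cfsg.Agent.Lib.Spor.Fi23RepAOrb8
import Cfsg.Agent.Lib.Spor.Fi23RepAOrb9
import Cfsg.Agent.Lib.Spor.Fi23RepAOrb10
import Cfsg.Agent.Lib.Spor.Fi23RepAOrb11
import Cfsg.Agent.Lib.Spor.Fi23RepAOrb12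
import Cfsg.Agent.Lib.Spor.Fi23RepAOrb13
import Cfsg.Agent.Lib.Spor.Fi23RepAOrb14
import Cfsg.Agent.Lib.Spor.Fi23RepAOrb15
import Cfsg.Agent.Lib.Spor.Fi23RepAOrb16
import Cfsg.Agent.Lib.Spor.Fi23RepAOrb17
import Cfsg.Agent.Lib.Spor.Fi23RepAOrb18
import Cfsg.Agent.Lib.Spor.Fi23RepAOrb19
import Cfsg.Agent.Lib.Spor.Fi23RepAOrb20
import Cfsg.Agent.Lib.Spor.Fi23RepAOrb21
import Cfsg.Agent.Lib.Spor.Fi23RepAOrb22
import Cfsg.Agent.Lib.Spor.Fi23RepAOrb23
import Cfsg.Agent.Lib.Spor.Fi23RepAOrb24
import Cfsg.Agent.Lib.Spor.Fi23RepAOrb25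
import Cfsg.Agent.Lib.Spor.Fi23RepAOrb26
import Cfsg.Agent.Lib.Spor.Fi23RepAOrb27
import Cfsg.Agent.Lib.Spor.Fi23RepAOrb28
import Cfsg.Agent.Lib.Spor.Fi23RepAOrbits

/-!
Table `RepA` of Fi23: assembled.
-/

set_option autoImplicit false
set_option maxRecDepth 100000

namespace Cfsg.Agent.Spor.Fi23Cert.RepA

open Cfsg.Agent.Spor.CC

theorem valid : tab.Valid := by
  intro u hu x hx
  replace hu : u < 31671 := hu
  by_cases h0 : u < 323
  · exact invOK_spec inv0 (by omega) h0 hx
  by_cases h1 : u < 646
  · exact invOK_spec inv1 (by omega) h1 hx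
  by_cases h2 : u < 969
  · exact invOK_spec inv2 (by omega) h2 hx
  by_cases h3 : u < 1292
  · exact invOK_spec inv3 (by omega) h3 hx
  by_cases h4 : u < 1615
  · exact invOK_spec inv4 (by omega) h4 hx
  by_cases h5 : u < 1938
  · exact invOK_spec inv5 (by omega) h5 hx
  by_cases h6 : u < 2261
  · exact invOK_spec inv6 (by omega) h6 hx
  by_cases h7 : u < 2584
  · exact invOK_spec inv7 (by omega) h7 hx
  by_cases h8 : u < 2907
  · exact invOK_spec inv8 (by omega) h8 hx
  by_cases h9 : u < 3230
  · exact invOK_spec inv9 (by omega) h9 hx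
  by_cases h10 : u < 3553
  · exact invOK_spec inv10 (by omega) h10 hx
  by_cases h11 : u < 3876
  · exact invOK_spec inv11 (by omega) h11 hx
  by_cases h12 : u < 4199
  · exact invOK_spec inv12 (by omega) h12 hx
  by_cases h13 : u < 4522
  · exact invOK_spec inv13 (by omega) h13 hx
  by_cases h14 : u < 4845
  · exact invOK_spec inv14 (by omega) h14 hx
  by_cases h15 : u < 5168
  · exact invOK_spec inv15 (by omega) h15 hx
  by_cases h16 : u < 5491
  · exact invOK_spec inv16 (by omega) h16 hx
  by_cases h17 : u < 5814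
  · exact invOK_spec inv17 (by omega) h17 hx
  by_cases h18 : u < 6137
  · exact invOK_spec inv18 (by omega) h18 hx
  by_cases h19 : u < 6460
  · exact invOK_spec inv19 (by omega) h19 hx
  by_cases h20 : u < 6783
  · exact invOK_spec inv20 (by omega) h20 hx
  by_cases h21 : u < 7106
  · exact invOK_spec inv21 (by omega) h21 hx
  by_cases h22 : u < 7429
  · exact invOK_spec inv22 (by omega) h22 hx
  by_cases h23 : u < 7752
  · exact invOK_spec inv23 (by omega) h23 hx
  by_cases h24 : u < 8075
  · exact invOK_spec inv24 (by omega) h24 hx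
  by_cases h25 : u < 8398
  · exact invOK_spec inv25 (by omega) h25 hx
  by_cases h26 : u < 8721
  · exact invOK_spec inv26 (by omega) h26 hx
  by_cases h27 : u < 9044
  · exact invOK_spec inv27 (by omega) h27 hx
  by_cases h28 : u < 9367
  · exact invOK_spec inv28 (by omega) h28 hx
  by_cases h29 : u < 9690
  · exact invOK_spec inv29 (by omega) h29 hx
  by_cases h30 : u < 10013
  · exact invOK_spec inv30 (by omega) h30 hx
  by_cases h31 : u < 10336
  · exact invOK_spec inv31 (by omega) h31 hx
  by_cases h32 : u < 10659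
  · exact invOK_spec inv32 (by omega) h32 hx
  by_cases h33 : u < 10982
  · exact invOK_spec inv33 (by omega) h33 hx
  by_cases h34 : u < 11305
  · exact invOK_spec inv34 (by omega) h34 hx
  by_cases h35 : u < 11628
  · exact invOK_spec inv35 (by omega) h35 hx
  by_cases h36 : u < 11951
  · exact invOK_spec inv36 (by omega) h36 hx
  by_cases h37 : u < 12274
  · exact invOK_spec inv37 (by omega) h37 hx
  by_cases h38 : u < 12597
  · exact invOK_spec inv38 (by omega) h38 hx
  by_cases h39 : u < 12920
  · exact invOK_spec inv39 (by omega) h39 hx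
  by_cases h40 : u < 13243
  · exact invOK_spec inv40 (by omega) h40 hx
  by_cases h41 : u < 13566
  · exact invOK_spec inv41 (by omega) h41 hx
  by_cases h42 : u < 13889
  · exact invOK_spec inv42 (by omega) h42 hx
  by_cases h43 : u < 14212
  · exact invOK_spec inv43 (by omega) h43 hx
  by_cases h44 : u < 14535
  · exact invOK_spec inv44 (by omega) h44 hx
  by_cases h45 : u < 14858
  · exact invOK_spec inv45 (by omega) h45 hx
  by_cases h46 : u < 15181
  · exact invOK_spec inv46 (by omega) h46 hx
  by_cases h47 : u < 15504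
  · exact invOK_spec inv47 (by omega) h47 hx
  by_cases h48 : u < 15827
  · exact invOK_spec inv48 (by omega) h48 hx
  by_cases h49 : u < 16150
  · exact invOK_spec inv49 (by omega) h49 hx
  by_cases h50 : u < 16473
  · exact invOK_spec inv50 (by omega) h50 hx
  by_cases h51 : u < 16796
  · exact invOK_spec inv51 (by omega) h51 hx
  by_cases h52 : u < 17119
  · exact invOK_spec inv52 (by omega) h52 hx
  by_cases h53 : u < 17442
  · exact invOK_spec inv53 (by omega) h53 hx
  by_cases h54 : u < 17765
  · exact invOK_spec inv54 (by omega) h54 hx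
  by_cases h55 : u < 18088
  · exact invOK_spec inv55 (by omega) h55 hx
  by_cases h56 : u < 18411
  · exact invOK_spec inv56 (by omega) h56 hx
  by_cases h57 : u < 18734
  · exact invOK_spec inv57 (by omega) h57 hx
  by_cases h58 : u < 19057
  · exact invOK_spec inv58 (by omega) h58 hx
  by_cases h59 : u < 19380
  · exact invOK_spec inv59 (by omega) h59 hx
  by_cases h60 : u < 19703
  · exact invOK_spec inv60 (by omega) h60 hx
  by_cases h61 : u < 20026
  · exact invOK_spec inv61 (by omega) h61 hx
  by_cases h62 : u < 20349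
  · exact invOK_spec inv62 (by omega) h62 hx
  by_cases h63 : u < 20672
  · exact invOK_spec inv63 (by omega) h63 hx
  by_cases h64 : u < 20995
  · exact invOK_spec inv64 (by omega) h64 hx
  by_cases h65 : u < 21318
  · exact invOK_spec inv65 (by omega) h65 hx
  by_cases h66 : u < 21641
  · exact invOK_spec inv66 (by omega) h66 hx
  by_cases h67 : u < 21964
  · exact invOK_spec inv67 (by omega) h67 hx
  by_cases h68 : u < 22287
  · exact invOK_spec inv68 (by omega) h68 hx
  by_cases h69 : u < 22610
  · exact invOK_spec inv69 (by omega) h69 hx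
  by_cases h70 : u < 22933
  · exact invOK_spec inv70 (by omega) h70 hx
  by_cases h71 : u < 23256
  · exact invOK_spec inv71 (by omega) h71 hx
  by_cases h72 : u < 23579
  · exact invOK_spec inv72 (by omega) h72 hx
  by_cases h73 : u < 23902
  · exact invOK_spec inv73 (by omega) h73 hx
  by_cases h74 : u < 24225
  · exact invOK_spec inv74 (by omega) h74 hx
  by_cases h75 : u < 24548
  · exact invOK_spec inv75 (by omega) h75 hx
  by_cases h76 : u < 24871
  · exact invOK_spec inv76 (by omega) h76 hx
  by_cases h77 : u < 25194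
  · exact invOK_spec inv77 (by omega) h77 hx
  by_cases h78 : u < 25517
  · exact invOK_spec inv78 (by omega) h78 hx
  by_cases h79 : u < 25840
  · exact invOK_spec inv79 (by omega) h79 hx
  by_cases h80 : u < 26163
  · exact invOK_spec inv80 (by omega) h80 hx
  by_cases h81 : u < 26486
  · exact invOK_spec inv81 (by omega) h81 hx
  by_cases h82 : u < 26809
  · exact invOK_spec inv82 (by omega) h82 hx
  by_cases h83 : u < 27132
  · exact invOK_spec inv83 (by omega) h83 hx
  by_cases h84 : u < 27455
  · exact invOK_spec inv84 (by omega) h84 hx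
  by_cases h85 : u < 27778
  · exact invOK_spec inv85 (by omega) h85 hx
  by_cases h86 : u < 28101
  · exact invOK_spec inv86 (by omega) h86 hx
  by_cases h87 : u < 28424
  · exact invOK_spec inv87 (by omega) h87 hx
  by_cases h88 : u < 28747
  · exact invOK_spec inv88 (by omega) h88 hx
  by_cases h89 : u < 29070
  · exact invOK_spec inv89 (by omega) h89 hx
  by_cases h90 : u < 29393
  · exact invOK_spec inv90 (by omega) h90 hx
  by_cases h91 : u < 29716
  · exact invOK_spec inv91 (by omega) h91 hx
  by_cases h92 : u < 30039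
  · exact invOK_spec inv92 (by omega) h92 hx
  by_cases h93 : u < 30362
  · exact invOK_spec inv93 (by omega) h93 hx
  by_cases h94 : u < 30685
  · exact invOK_spec inv94 (by omega) h94 hx
  by_cases h95 : u < 31008
  · exact invOK_spec inv95 (by omega) h95 hx
  by_cases h96 : u < 31331
  · exact invOK_spec inv96 (by omega) h96 hx
  by_cases h97 : u < 31654
  · exact invOK_spec inv97 (by omega) h97 hx
  exact invOK_spec inv98 (by omega) hu hx

theorem loops : tab.Loops Cfsg.Agent.Spor.Fi23Cert.pres.relW := by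
  intro u hu r hr
  replace hu : u < 31671 := hu
  by_cases h0 : u < 323
  · exact loopOK_spec loop0 (by omega) h0 hr
  by_cases h1 : u < 646
  · exact loopOK_spec loop1 (by omega) h1 hr
  by_cases h2 : u < 969
  · exact loopOK_spec loop2 (by omega) h2 hr
  by_cases h3 : u < 1292
  · exact loopOK_spec loop3 (by omega) h3 hr
  by_cases h4 : u < 1615
  · exact loopOK_spec loop4 (by omega) h4 hr
  by_cases h5 : u < 1938
  · exact loopOK_spec loop5 (by omega) h5 hr
  by_cases h6 : u < 2261
  · exact loopOK_spec loop6 (by omega) h6 hr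
  by_cases h7 : u < 2584
  · exact loopOK_spec loop7 (by omega) h7 hr
  by_cases h8 : u < 2907
  · exact loopOK_spec loop8 (by omega) h8 hr
  by_cases h9 : u < 3230
  · exact loopOK_spec loop9 (by omega) h9 hr
  by_cases h10 : u < 3553
  · exact loopOK_spec loop10 (by omega) h10 hr
  by_cases h11 : u < 3876
  · exact loopOK_spec loop11 (by omega) h11 hr
  by_cases h12 : u < 4199
  · exact loopOK_spec loop12 (by omega) h12 hr
  by_cases h13 : u < 4522
  · exact loopOK_spec loop13 (by omega) h13 hr
  by_cases h14 : u < 4845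
  · exact loopOK_spec loop14 (by omega) h14 hr
  by_cases h15 : u < 5168
  · exact loopOK_spec loop15 (by omega) h15 hr
  by_cases h16 : u < 5491
  · exact loopOK_spec loop16 (by omega) h16 hr
  by_cases h17 : u < 5814
  · exact loopOK_spec loop17 (by omega) h17 hr
  by_cases h18 : u < 6137
  · exact loopOK_spec loop18 (by omega) h18 hr
  by_cases h19 : u < 6460
  · exact loopOK_spec loop19 (by omega) h19 hr
  by_cases h20 : u < 6783
  · exact loopOK_spec loop20 (by omega) h20 hr
  by_cases h21 : u < 7106
  · exact loopOK_spec loop21 (by omega) h21 hr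
  by_cases h22 : u < 7429
  · exact loopOK_spec loop22 (by omega) h22 hr
  by_cases h23 : u < 7752
  · exact loopOK_spec loop23 (by omega) h23 hr
  by_cases h24 : u < 8075
  · exact loopOK_spec loop24 (by omega) h24 hr
  by_cases h25 : u < 8398
  · exact loopOK_spec loop25 (by omega) h25 hr
  by_cases h26 : u < 8721
  · exact loopOK_spec loop26 (by omega) h26 hr
  by_cases h27 : u < 9044
  · exact loopOK_spec loop27 (by omega) h27 hr
  by_cases h28 : u < 9367
  · exact loopOK_spec loop28 (by omega) h28 hr
  by_cases h29 : u < 9690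
  · exact loopOK_spec loop29 (by omega) h29 hr
  by_cases h30 : u < 10013
  · exact loopOK_spec loop30 (by omega) h30 hr
  by_cases h31 : u < 10336
  · exact loopOK_spec loop31 (by omega) h31 hr
  by_cases h32 : u < 10659
  · exact loopOK_spec loop32 (by omega) h32 hr
  by_cases h33 : u < 10982
  · exact loopOK_spec loop33 (by omega) h33 hr
  by_cases h34 : u < 11305
  · exact loopOK_spec loop34 (by omega) h34 hr
  by_cases h35 : u < 11628
  · exact loopOK_spec loop35 (by omega) h35 hr
  by_cases h36 : u < 11951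
  · exact loopOK_spec loop36 (by omega) h36 hr
  by_cases h37 : u < 12274
  · exact loopOK_spec loop37 (by omega) h37 hr
  by_cases h38 : u < 12597
  · exact loopOK_spec loop38 (by omega) h38 hr
  by_cases h39 : u < 12920
  · exact loopOK_spec loop39 (by omega) h39 hr
  by_cases h40 : u < 13243
  · exact loopOK_spec loop40 (by omega) h40 hr
  by_cases h41 : u < 13566
  · exact loopOK_spec loop41 (by omega) h41 hr
  by_cases h42 : u < 13889
  · exact loopOK_spec loop42 (by omega) h42 hr
  by_cases h43 : u < 14212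
  · exact loopOK_spec loop43 (by omega) h43 hr
  by_cases h44 : u < 14535
  · exact loopOK_spec loop44 (by omega) h44 hr
  by_cases h45 : u < 14858
  · exact loopOK_spec loop45 (by omega) h45 hr
  by_cases h46 : u < 15181
  · exact loopOK_spec loop46 (by omega) h46 hr
  by_cases h47 : u < 15504
  · exact loopOK_spec loop47 (by omega) h47 hr
  by_cases h48 : u < 15827
  · exact loopOK_spec loop48 (by omega) h48 hr
  by_cases h49 : u < 16150
  · exact loopOK_spec loop49 (by omega) h49 hr
  by_cases h50 : u < 16473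
  · exact loopOK_spec loop50 (by omega) h50 hr
  by_cases h51 : u < 16796
  · exact loopOK_spec loop51 (by omega) h51 hr
  by_cases h52 : u < 17119
  · exact loopOK_spec loop52 (by omega) h52 hr
  by_cases h53 : u < 17442
  · exact loopOK_spec loop53 (by omega) h53 hr
  by_cases h54 : u < 17765
  · exact loopOK_spec loop54 (by omega) h54 hr
  by_cases h55 : u < 18088
  · exact loopOK_spec loop55 (by omega) h55 hr
  by_cases h56 : u < 18411
  · exact loopOK_spec loop56 (by omega) h56 hr
  by_cases h57 : u < 18734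
  · exact loopOK_spec loop57 (by omega) h57 hr
  by_cases h58 : u < 19057
  · exact loopOK_spec loop58 (by omega) h58 hr
  by_cases h59 : u < 19380
  · exact loopOK_spec loop59 (by omega) h59 hr
  by_cases h60 : u < 19703
  · exact loopOK_spec loop60 (by omega) h60 hr
  by_cases h61 : u < 20026
  · exact loopOK_spec loop61 (by omega) h61 hr
  by_cases h62 : u < 20349
  · exact loopOK_spec loop62 (by omega) h62 hr
  by_cases h63 : u < 20672
  · exact loopOK_spec loop63 (by omega) h63 hr
  by_cases h64 : u < 20995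
  · exact loopOK_spec loop64 (by omega) h64 hr
  by_cases h65 : u < 21318
  · exact loopOK_spec loop65 (by omega) h65 hr
  by_cases h66 : u < 21641
  · exact loopOK_spec loop66 (by omega) h66 hr
  by_cases h67 : u < 21964
  · exact loopOK_spec loop67 (by omega) h67 hr
  by_cases h68 : u < 22287
  · exact loopOK_spec loop68 (by omega) h68 hr
  by_cases h69 : u < 22610
  · exact loopOK_spec loop69 (by omega) h69 hr
  by_cases h70 : u < 22933
  · exact loopOK_spec loop70 (by omega) h70 hr
  by_cases h71 : u < 23256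
  · exact loopOK_spec loop71 (by omega) h71 hr
  by_cases h72 : u < 23579
  · exact loopOK_spec loop72 (by omega) h72 hr
  by_cases h73 : u < 23902
  · exact loopOK_spec loop73 (by omega) h73 hr
  by_cases h74 : u < 24225
  · exact loopOK_spec loop74 (by omega) h74 hr
  by_cases h75 : u < 24548
  · exact loopOK_spec loop75 (by omega) h75 hr
  by_cases h76 : u < 24871
  · exact loopOK_spec loop76 (by omega) h76 hr
  by_cases h77 : u < 25194
  · exact loopOK_spec loop77 (by omega) h77 hr
  by_cases h78 : u < 25517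
  · exact loopOK_spec loop78 (by omega) h78 hr
  by_cases h79 : u < 25840
  · exact loopOK_spec loop79 (by omega) h79 hr
  by_cases h80 : u < 26163
  · exact loopOK_spec loop80 (by omega) h80 hr
  by_cases h81 : u < 26486
  · exact loopOK_spec loop81 (by omega) h81 hr
  by_cases h82 : u < 26809
  · exact loopOK_spec loop82 (by omega) h82 hr
  by_cases h83 : u < 27132
  · exact loopOK_spec loop83 (by omega) h83 hr
  by_cases h84 : u < 27455
  · exact loopOK_spec loop84 (by omega) h84 hr
  by_cases h85 : u < 27778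
  · exact loopOK_spec loop85 (by omega) h85 hr
  by_cases h86 : u < 28101
  · exact loopOK_spec loop86 (by omega) h86 hr
  by_cases h87 : u < 28424
  · exact loopOK_spec loop87 (by omega) h87 hr
  by_cases h88 : u < 28747
  · exact loopOK_spec loop88 (by omega) h88 hr
  by_cases h89 : u < 29070
  · exact loopOK_spec loop89 (by omega) h89 hr
  by_cases h90 : u < 29393
  · exact loopOK_spec loop90 (by omega) h90 hr
  by_cases h91 : u < 29716
  · exact loopOK_spec loop91 (by omega) h91 hr
  by_cases h92 : u < 30039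
  · exact loopOK_spec loop92 (by omega) h92 hr
  by_cases h93 : u < 30362
  · exact loopOK_spec loop93 (by omega) h93 hr
  by_cases h94 : u < 30685
  · exact loopOK_spec loop94 (by omega) h94 hr
  by_cases h95 : u < 31008
  · exact loopOK_spec loop95 (by omega) h95 hr
  by_cases h96 : u < 31331
  · exact loopOK_spec loop96 (by omega) h96 hr
  by_cases h97 : u < 31654
  · exact loopOK_spec loop97 (by omega) h97 hr
  exact loopOK_spec loop98 (by omega) hu hr

end Cfsg.Agent.Spor.Fi23Cert.RepA
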