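import Cfsg.Agent.Lib.Spor.Fi23MultE6TSteps0
import Cfsg.Agent.Lib.Spor.Fi23MultE6TEdges0

/-!
Coset certificate `MultE6T` of Fi23: assembled.
-/

set_option autoImplicit false
set_option maxRecDepth 100000

namespace Cfsg.Agent.Spor.Fi23Cert.MultE6T

open Cfsg.Agent.Spor.CC

theorem steps_all : ∀ k, 728 ≤ k → k < 3402 → ∃ s, stepOK dat k s = true := by
  intro k hk0 hk
  by_cases h0 : k < 3228
  · exact stepsOK_spec _ _ stOK0 k (by omega) (lt_of_lt_of_eq h0 (by decide +kernel))
  exact stepsOK_spec _ _ stOK1 k (by omega) (lt_of_lt_of_eq hk (by decide +kernel))

theorem edges_all : ∀ k, k < 5103 → ∃ s, edgeOK dat 3402 k s = true := by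
  intro k hk
  by_cases h0 : k < 2500
  · exact edgesOK_spec _ _ edOK0 k (by omega) (lt_of_lt_of_eq h0 (by decide +kernel))
  by_cases h1 : k < 5000
  · exact edgesOK_spec _ _ edOK1 k (by omega) (lt_of_lt_of_eq h1 (by decide +kernel))
  exact edgesOK_spec _ _ edOK2 k (by omega) (lt_of_lt_of_eq hk (by decide +kernel))

theorem checked : Checked dat 3402 where
  defs := defs_ok
  steps := steps_all
  edges := fun k hk => edges_all k hk
  pos := by decide
  ng_le := by decide

/-- a traced word -/
def spiderAW : ℕ := 0x65243201265243201265243201265243201265243201265243201265243201265243201265243201265243201265243201265243201265243201265243201265243201287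

/-- its path -/
def spiderAP : ℕ := 0x484002c2001a9004a40006b4013d000a4b00418800954017200028100670001ee400ea20038b0080800102c02d48004870027a80151401a8400549009a200190c00b72005a100cf10016a402d6800e4200839005ad0022980141e00b5a0016bc033d0016b6007220041d002d6c0114e00a10005ad800b5c005a8002d00038f800b240106e008a20015e000a8c01a1e0027b005a3801a7600cf1004ea80172000bb00060800234000fa801266012e4001f0001c2800eca00a820037f802f540089e0097f0030e0060c0012f40077e00d2700262c0088a015be004c4001b4401e18009850039080372001304004c000227001b48006a4002da0055d0008180036000166005a50003f00188000ada0059a0030c80241c00cb800a2d0001080006000cfa0000c00004002e4c0000a0000300001001aac0000200a20004330023e80144000b9d005c800288000000006aa00353801aa400d50006a700352801a9800d4e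

theorem spiderA_ok : pathOK dat 3402 spiderAW 0 116 135 spiderAP = true := by decide +kernel

/-- a traced word -/
def spiderBW : ℕ := 0x65243201265243201265243201265243201265243201265243201265243201265243201265243201265243201265243201265243201265243201265243201265243201287

/-- its path -/
def spiderBP : ℕ := 0x4000060000500868000024023f001742006a380004c01d2c0001d00a2b0033dc01956000450068d8001b4019820009f000658003ec0330c0013500530802a2c0104e0027b005d3800ce40120e0069f006ba00240000f3e00fba0048980140c02b28009100034d004b080121a00748008a8002428007680033800161000b14011b6006e30039b8018ac014a000c0c0023780137400cb0004e100588006418018c00161e0023e8013b400a7a005fd002c6803dd80194c005bb002cf804ef800b4e0161000c04006a4002c2000e5a007be00584000b5a013c000b0900602803524016120072e003df802c24005ac002d3001678030080058e00d4600393800ae40053e009d80013b802bf80064800355001bd00191e007560062b800e00006080028a007a4000888015fa00218000e00005c80169a00160004ab8022f00234000954004f7804988011ca0015200a7d0004500022e019980048e80280802f1c0098c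

theorem spiderB_ok : pathOK dat 3402 spiderBW 116 0 135 spiderBP = true := by decide +kernel

theorem words_ok : wordsOK dat letters 10 Cfsg.Agent.Spor.Fi23Cert.Mult.rels wit subW = true := by decide +kernel

end Cfsg.Agent.Spor.Fi23Cert.MultE6T
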