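import Cfsg.Agent.Lib.Spor.Fi23MultE7AData

/-!
Coset certificate `MultE7A` of Fi23: checks.
-/

set_option autoImplicit false
set_option maxRecDepth 100000

namespace Cfsg.Agent.Spor.Fi23Cert.MultE7A

open Cfsg.Agent.Spor.CC

/-- checked entries -/
def edL0 : List ℕ := [
0x1,
0x2a001,
0x2a801,
0x2b001,
0x2b801,
0x2c001,
0x2c801,
0x401,
0x801,
0x77001,
0x62801,
0x4f801,
0x3f801,
0x2d001,
0x8a001,
0xc01,
0x1001,
0x63001,
0x50001,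
0x40001,
0x2d801,
0x8a801,
0x77801,
0x1401,
0x1801,
0x50801,
0x40801,
0x2e001,
0x8b001,
0x78001,
0x63801,
0x1c01,
0x2001,
0x41001,
0x2801,
0x8b801,
0x78801,
0x64001,
0x51001,
0x2401,
0x3001,
0x3801,
0x8c001,
0x79001,
0x64801,
0x2e801,
0x29801,
0x42001,
0x2c01,
0x8e801,
0x7b801,
0x67001,
0x51801,
0x41801,
0x3401,
0x4001,
0x8c801,
0x79801,
0x65001,
0x4801,
0x29c01,
0x27001,
0x3c01,
0x8d801,
0x7a801,
0x66001,
0x5001,
0x42801,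
0x27401,
0x4401,
0x8d001,
0x7a001,
0x5801,
0x4c01,
0x2f001,
0x27801,
0x52001,
0x8e001,
0x7b001,
0x6001,
0x5401,
0x6801,
0x27c01,
0x53001,
0x99801,
0x7001,
0x5c01,
0x65801,
0x2f801,
0x28001,
0x52801,
0x8f001,
0x7801,
0x6401,
0x66801,
0x8001,
0x28401,
0x53801,
0x8f801,
0x7c801,
0x26801,
0x43001,
0x6c01,
0x30001,
0x54001,
0x8801,
0x7401,
0x89801,
0x6f001,
0x38801,
0x28801,
0x62001,
0x9001,
0x7c01,
0x7c001,
0x67801,
0x9801,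
0x28c01,
0x61001,
0x90001,
0x25001,
0x26c01,
0xa001,
0x8401,
0x30801,
0x54801,
0x8c01,
0x99001,
0x89001,
0x6e801,
0x38001,
0x29001,
0x61801,
0x9401,
0x98801,
0x88801,
0x6e001,
0xa801,
0x29401,
0x60801,
0x21001,
0x25401,
0x7d001,
0xb001,
0x9c01,
0x31001,
0x55001,
0x91001,
0x25801,
0x43801,
0xa401,
0x68001,
0x31801,
0xb801,
0x21401,
0x90801,
0x7d801,
0xc001,
0xac01,
0x37801,
0x60001,
0x21801,
0x25c01,
0xc801,
0xb401,
0x68801,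
0x32001,
0xd001,
0x92001,
0x26001,
0x44801,
0x55801,
0x69001,
0x32801,
0xbc01,
0x21c01,
0x91801,
0xd801,
0xc401,
0x6d801,
0x37001,
0xe001,
0x22001,
0x44001,
0xcc01,
0x7e001,
0x6c001,
0x35801,
0xe801,
0x22801,
0x26401,
0x20801,
0x56001,
0x69801,
0x33001,
0xd401,
0x22401,
0xf001,
0xdc01,
0x7e801,
0x6c801,
0x36001,
0xf801,
0x22c01,
0x92801,
0x20001,
0x56801,
0x6a001,
0x33801,
0xe401,
0x23001,
0x45001,
0x20c01,
0x10001,
0x6a801,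
0x34001,
0xec01,
0x4f001,
0xf401,
0x94001,
0x85001,
0x6d001,
0x36801,
0x10801,
0x23401,
0x1e001,
0x20401,
0x11001,
0x6b001,
0x34801,
0xfc01,
0x23801,
0x46001,
0x57001,
0x10401,
0x11801,
0x35001,
0x7f001,
0x45801,
0x1e401,
0x93001,
0x12001,
0x6f801,
0x39001,
0x10c01,
0x23c01,
0x1e801,
0x57801,
0x11401,
0x12801,
0x3a001,
0x7f801,
0x24001,
0x47001,
0x58001,
0x6b801,
0x11c01,
0x13001,
0x80001,
0x46801,
0x1ec01,
0x13801,
0x12401,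
0x14001,
0x39801,
0x84001,
0x24401,
0x1f001,
0x58801,
0x70801,
0x12c01,
0x14801,
0x80801,
0x24801,
0x48001,
0x59001,
0x76801,
0x3f001,
0x13401,
0x81001,
0x4b001,
0x5c001,
0x13c01,
0x93801,
0x15001,
0x3a801,
0x84801,
0x47801,
0x1f401,
0x1d001,
0x70001,
0x14401,
0x15801,
0x83001,
0x24c01,
0x1f801,
0x59801,
0x72001,
0x3b801,
0x14c01,
0x81801,
0x4a001,
0x5b001,
0x1d401,
0x16001,
0x15401,
0x16801,
0x83801,
0x48801,
0x1fc01,
0x1d801,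
0x71801,
0x3b001,
0x15c01,
0x82001,
0x4a801,
0x5b801,
0x71001,
0x16401,
0x94801,
0x17001,
0x17801,
0x49001,
0x5a001,
0x1dc01,
0x1c801,
0x3c001,
0x16c01,
0x82801,
0x49801,
0x5a801,
0x72801,
0x1cc01,
0x18001,
0x17401,
0x18801,
0x4b801,
0x5c801,
0x74801,
0x85801,
0x95801,
0x1c001,
0x17c01,
0x4d801,
0x5e801,
0x73001,
0x3c801,
0x18401,
0x95001,
0x19001,
0x4c001,
0x5d001,
0x73801,
0x86001,
0x1b801,
0x1c401,
0x18c01,
0x4c801,
0x5d801,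
0x74001,
0x19801,
0x1bc01,
0x96001,
0x19401,
0x4d001,
0x5e001,
0x1a001,
0x19c01,
0x86801,
0x96801,
0x3d001,
0x4e001,
0x1a801,
0x1a401,
0x75001,
0x87001,
0x97001,
0x3d801,
0x1b001,
0x1ac01,
0x5f001,
0x75801,
0x87801,
0x97801,
0x3e001,
0x1b401,
0x4e801,
0x5f801,
0x76001,
0x88001,
0x98001,
0x3e801]

theorem edOK0 : edgesOK dat 308 edL0 0 = true := by decide +kernel

end Cfsg.Agent.Spor.Fi23Cert.MultE7A
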