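import Cfsg.Agent.Lib.Spor.Fi23MultE7ACert
import Cfsg.Agent.Lib.Spor.Fi23MultE8Cert

/-!
Witness points separating the cosets of the small subgroups of Fi23.
-/

set_option autoImplicit false
set_option maxRecDepth 100000

namespace Cfsg.Agent.Spor.Fi23Cert.Mult.IdxOneW

/-- stable sets with the images of a point -/
def wits : List (List ℕ × List ℕ) := [([4], [4, 4, 4, 5, 4, 5, 4, 5, 6, 4, 5, 6, 5, 6, 8, 5, 6, 8, 6, 8, 6, 8, 8, 8]), ([5], [5, 5, 6, 4, 6, 4, 8, 6, 4, 8, 6, 4, 8, 5, 4, 8, 5, 4, 8, 5, 8, 5, 6, 6]), ([6], [6, 8, 5, 6, 8, 8, 5, 4, 5, 6, 8, 8, 4, 4, 5, 6, 8, 6, 4, 4, 5, 6, 4, 5])]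

/-- cosets not excluded -/
def rest : List ℕ := [0]

end Cfsg.Agent.Spor.Fi23Cert.Mult.IdxOneW

namespace Cfsg.Agent.Spor.Fi23Cert.Mult.IdxA3W

/-- stable sets with the images of a point -/
def wits : List (List ℕ × List ℕ) := [([3], [3, 4, 5, 6, 8])]

/-- cosets not excluded -/
def rest : List ℕ := [0]

end Cfsg.Agent.Spor.Fi23Cert.Mult.IdxA3W

namespace Cfsg.Agent.Spor.Fi23Cert.Mult.IdxA4W

/-- stable sets with the images of a point -/
def wits : List (List ℕ × List ℕ) := [([11], [11, 15, 20, 28, 29, 39, 40, 56, 58, 80, 85, 115, 117, 166, 243, 356])]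

/-- cosets not excluded -/
def rest : List ℕ := [0]

end Cfsg.Agent.Spor.Fi23Cert.Mult.IdxA4W

namespace Cfsg.Agent.Spor.Fi23Cert.Mult.IdxD5W

/-- stable sets with the images of a point -/
def wits : List (List ℕ × List ℕ) := [([2], [2, 3, 4, 5, 6, 7, 8, 9, 12, 13, 16, 18, 22, 23, 25, 31, 33, 45, 46, 65, 66, 95, 97, 139, 205, 301, 442])]

/-- cosets not excluded -/
def rest : List ℕ := [0]

end Cfsg.Agent.Spor.Fi23Cert.Mult.IdxD5W

namespace Cfsg.Agent.Spor.Fi23Cert.Mult.IdxE6W

/-- stable sets with the images of a point -/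
def wits : List (List ℕ × List ℕ) := [([1], [1, 2, 3, 4, 5, 6, 7, 8, 9, 12, 13, 16, 18, 22, 23, 25, 31, 33, 36, 45, 46, 49, 65, 66, 68, 95, 96, 97, 138, 139, 142, 201, 203, 205, 294, 298, 301, 432, 438, 442, 625, 626, 634, 891, 892, 1250, 1251, 1731, 1732, 2364, 2365, 3180, 4150, 5268, 6531, 8006])]

/-- cosets not excluded -/
def rest : List ℕ := [0]

end Cfsg.Agent.Spor.Fi23Cert.Mult.IdxE6W

namespace Cfsg.Agent.Spor.Fi23Cert.Mult.MultE7AW

/-- stable sets with the images of a point -/
def wits : List (List ℕ × List ℕ) := [([560, 743, 799, 1006, 1042, 1122, 1380, 1387, 1440, 1558, 1559, 1877, 1969, 2138, 2140, 2524, 2663, 2897, 2898, 3839, 3840, 4964, 4965, 6290, 7834, 9592, 11589], [560, 429, 429, 429, 429, 429, 620, 429, 620, 620, 883, 883, 1237, 1237, 1238, 1712, 1712, 1713, 1712, 1712, 2341, 2342, 2341, 3152, 3155, 3152, 4131, 4133, 4131, 4133, 5257, 4131, 5257, 6524, 5257, 6524, 8002, 6524, 8002, 8002, 6524, 8002, 8002, 8002, 8002, 8002, 8002, 8002, 8002, 6524, 8002,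 6524, 5257, 4133, 3155, 3840])]

/-- cosets not excluded -/
def rest : List ℕ := [0, 55]

end Cfsg.Agent.Spor.Fi23Cert.Mult.MultE7AW

namespace Cfsg.Agent.Spor.Fi23Cert.Mult.MultE8W

/-- stable sets with the images of a point -/
def wits : List (List ℕ × List ℕ) := [([0], [0, 1, 2, 3, 4, 5, 6, 7, 8, 9, 12, 13, 16, 18, 22, 23, 25, 31, 33, 36, 45, 46, 49, 52, 65, 66, 68, 72, 95, 96, 97, 101, 138, 139, 141, 142, 201, 202, 203, 205, 208, 293, 294, 296, 298, 301, 429, 430, 432, 435, 438, 442, 620, 622, 625, 626, 630, 634, 883, 886, 887, 891, 892, 899, 1237, 1238, 1242, 1243, 1250, 1251, 1712, 1713, 1715, 1721, 1722, 1731, 1732, 2341, 2342, 2343, 2353, 2354, 2364, 2365, 3152, 3153, 3154, 3155, 3167, 3168, 3180, 4131, 4132, 4133, 4134, 4135, 4143, 4150, 5256, 5257, 5258, 5259, 5260, 5265, 5268, 6522, 6523, 6524, 6525, 6526, 6529, 6531, 7999, 8000, 8001, 8002, 8003, 8004, 8005, 8006, 7999, 8000, 8001, 8002, 8003, 8004, 8005, 8006, 6522, 6525, 6523, 6524, 6529, 6526, 6531, 5258, 5256,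 5260, 5259, 5257, 5265, 5268, 4134, 4132, 4131, 4135, 4133, 4143, 4150, 3154, 3153, 3152, 3167, 3155, 3168, 3180, 2343, 2342, 2341, 2353, 2364, 2354, 2365, 1715, 1713, 1722, 1712, 1721, 1731, 1732, 1238, 1237, 1243, 1251, 1242, 1250, 883, 887, 886, 892, 899, 891, 620, 622, 626, 630, 625, 634, 430, 429, 435, 432, 438, 442, 296, 294, 293, 298, 301, 208, 203, 202, 201, 205, 142, 141, 139, 138, 97, 96, 101, 95, 66, 65, 68, 72, 45, 46, 49, 52, 31, 33, 36, 23, 22, 25, 18, 16, 13, 12, 9, 8, 7, 6, 5, 4, 3, 2, 1, 0])]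

/-- cosets not excluded -/
def rest : List ℕ := [0, 239]

end Cfsg.Agent.Spor.Fi23Cert.Mult.MultE8W

namespace Cfsg.Agent.Spor.Fi23Cert.MultE7A

open Cfsg.Agent.Spor.CC

/-- a traced word -/
def qFromW : ℕ := 0x123645342361234012365432101b

/-- its path -/
def qFromP : ℕ := 0x1b0000d40006800033000190000c00005c0002c0001500009c00048000210000f00006c00030000150000900003c000180000a0000400001800008000030000100000400000

theorem qFrom_ok : pathOK dat 308 qFromW 0 55 27 qFromP = true := by decide +kernel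

/-- a traced word -/
def qBackW : ℕ := 0x123645342361234012365432101b

/-- its path -/
def qBackP : ℕ := 0x400006000050000380002c0014e0009d0000a80006c001360002900017800264001060004100023800244000fa000750002c80017c000e20006f000338001a4000d60006d

theorem qBack_ok : pathOK dat 308 qBackW 55 0 27 qBackP = true := by decide +kernel

end Cfsg.Agent.Spor.Fi23Cert.MultE7A

namespace Cfsg.Agent.Spor.Fi23Cert.MultE8

open Cfsg.Agent.Spor.CC

/-- a traced word -/
def qFromW : ℕ := 0x65432712301274563452341230127234123012756453423127012345639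

/-- its path -/
def qFromP : ℕ := 0x1dc000ed000760003ac001d4000e900073800394001c6000e10006f00036c001ae000d30006780032c0018c000c10005d8002d40015e000a90005100026c001280008d000430001fc000ee0006f00034000184000b400053000260001140007e00039000198000b400050000230000f80006c0002e000130000800003400016000090000380001400008000030000100000400000

theorem qFrom_ok : pathOK dat 1464 qFromW 0 239 57 qFromP = true := by decide +kernel

/-- a traced word -/
def qBackW : ℕ := 0x65432712301274563452341230127234123012756453423127012345639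

/-- its path -/
def qBackP : ℕ := 0x1000018000140000e0000900006800e3c0002a00019001c3800dec0004e00031001b9800d9c006ba0036d001a7800bfc000e60008100047800bcc005aa000bb0016f800b1c001be000ef0007f80043c0023e002790012680052c004d600237000b58005e4004320020f001098007e400412001e9000db8006fc003ce001c9000e6800794003be001d5000eb800764003b6001dd

theorem qBack_ok : pathOK dat 1464 qBackW 239 0 57 qBackP = true := by decide +kernel

end Cfsg.Agent.Spor.Fi23Cert.MultE8
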