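import Cfsg.Agent.Lib.Spor.Fi23MultY242Steps0
import Cfsg.Agent.Lib.Spor.Fi23MultY242Steps1
import Cfsg.Agent.Lib.Spor.Fi23MultY242Steps2
import Cfsg.Agent.Lib.Spor.Fi23MultY242Steps3
import Cfsg.Agent.Lib.Spor.Fi23MultY242Steps4
import Cfsg.Agent.Lib.Spor.Fi23MultY242Steps5
import Cfsg.Agent.Lib.Spor.Fi23MultY242Steps6
import Cfsg.Agent.Lib.Spor.Fi23MultY242Steps7

/-!
Coset certificate `MultY242` of Fi23: assembled.
-/

set_option autoImplicit false
set_option maxRecDepth 100000

namespace Cfsg.Agent.Spor.Fi23Cert.MultY242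

open Cfsg.Agent.Spor.CC

theorem steps_all : ∀ k, 26671 ≤ k → k < 86037 → ∃ s, stepOK dat k s = true := by
  intro k hk0 hk
  by_cases h0 : k < 29171
  · exact stepsOK_spec _ _ stOK0 k (by omega) (lt_of_lt_of_eq h0 (by decide +kernel))
  by_cases h1 : k < 31671
  · exact stepsOK_spec _ _ stOK1 k (by omega) (lt_of_lt_of_eq h1 (by decide +kernel))
  by_cases h2 : k < 34171
  · exact stepsOK_spec _ _ stOK2 k (by omega) (lt_of_lt_of_eq h2 (by decide +kernel))
  by_cases h3 : k < 36671
  · exact stepsOK_spec _ _ stOK3 k (by omega) (lt_of_lt_of_eq h3 (by decide +kernel))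
  by_cases h4 : k < 39171
  · exact stepsOK_spec _ _ stOK4 k (by omega) (lt_of_lt_of_eq h4 (by decide +kernel))
  by_cases h5 : k < 41671
  · exact stepsOK_spec _ _ stOK5 k (by omega) (lt_of_lt_of_eq h5 (by decide +kernel))
  by_cases h6 : k < 44171
  · exact stepsOK_spec _ _ stOK6 k (by omega) (lt_of_lt_of_eq h6 (by decide +kernel))
  by_cases h7 : k < 46671
  · exact stepsOK_spec _ _ stOK7 k (by omega) (lt_of_lt_of_eq h7 (by decide +kernel))
  by_cases h8 : k < 49171
  · exact stepsOK_spec _ _ stOK8 k (by omega) (lt_of_lt_of_eq h8 (by decide +kernel))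
  by_cases h9 : k < 51671
  · exact stepsOK_spec _ _ stOK9 k (by omega) (lt_of_lt_of_eq h9 (by decide +kernel))
  by_cases h10 : k < 54171
  · exact stepsOK_spec _ _ stOK10 k (by omega) (lt_of_lt_of_eq h10 (by decide +kernel))
  by_cases h11 : k < 56671
  · exact stepsOK_spec _ _ stOK11 k (by omega) (lt_of_lt_of_eq h11 (by decide +kernel))
  by_cases h12 : k < 59171
  · exact stepsOK_spec _ _ stOK12 k (by omega) (lt_of_lt_of_eq h12 (by decide +kernel))
  by_cases h13 : k < 61671
  · exact stepsOK_spec _ _ stOK13 k (by omega) (lt_of_lt_of_eq h13 (by decide +kernel))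
  by_cases h14 : k < 64171
  · exact stepsOK_spec _ _ stOK14 k (by omega) (lt_of_lt_of_eq h14 (by decide +kernel))
  by_cases h15 : k < 66671
  · exact stepsOK_spec _ _ stOK15 k (by omega) (lt_of_lt_of_eq h15 (by decide +kernel))
  by_cases h16 : k < 69171
  · exact stepsOK_spec _ _ stOK16 k (by omega) (lt_of_lt_of_eq h16 (by decide +kernel))
  by_cases h17 : k < 71671
  · exact stepsOK_spec _ _ stOK17 k (by omega) (lt_of_lt_of_eq h17 (by decide +kernel))
  by_cases h18 : k < 74171
  · exact stepsOK_spec _ _ stOK18 k (by omega) (lt_of_lt_of_eq h18 (by decide +kernel))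
  by_cases h19 : k < 76671
  · exact stepsOK_spec _ _ stOK19 k (by omega) (lt_of_lt_of_eq h19 (by decide +kernel))
  by_cases h20 : k < 79171
  · exact stepsOK_spec _ _ stOK20 k (by omega) (lt_of_lt_of_eq h20 (by decide +kernel))
  by_cases h21 : k < 81671
  · exact stepsOK_spec _ _ stOK21 k (by omega) (lt_of_lt_of_eq h21 (by decide +kernel))
  by_cases h22 : k < 84171
  · exact stepsOK_spec _ _ stOK22 k (by omega) (lt_of_lt_of_eq h22 (by decide +kernel))
  exact stepsOK_spec _ _ stOK23 k (by omega) (lt_of_lt_of_eq hk (by decide +kernel))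

/-- a traced word -/
def spiderW : ℕ := 0x8724320128724320128724320128724320128724320128724320128724320128724320128724320128724320125a

/-- its path -/
def spiderP : ℕ := 0x20000300002897c48000122786212f3608b48c0002623c0e0000f8a50f84589222ab90003488b1fc0019222b35000b580083c005e226b7e00214882154410fa2a029002dd087de400a641f8590f88209d6503f0ac1ff4d144fd07c44c00a3827b88001d9000ed44c8f41f12f0ffb10966683f0dc003c100299801c4c3f0a8007170ffa407fe1c538ae0053c10fbb000bd84543c2165410ee20884d04f10822ad2143e50001800007c22c4c0000d0000404eda00000a0000300001045a740000214276097c384f0bc284ec12f3a09db58509d8000001169c08b4b845a6422d301169708b4a845a5822d2e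

theorem spider_ok : pathOK dat 86037 spiderW 0 0 90 spiderP = true := by decide +kernel

theorem words_ok : wordsOK dat letters 10 Cfsg.Agent.Spor.Fi23Cert.Mult.rels wit subW = true := by decide +kernel

end Cfsg.Agent.Spor.Fi23Cert.MultY242
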