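import Cfsg.Agent.Lib.Spor.OrbitCert

/-!
A checked permutation representation of a presented group: order, index, orbits, simplicity.
-/

set_option autoImplicit false

namespace Cfsg.Agent.Spor.CC

variable {α : Type} [DecidableEq α]

/-- a checked representation -/
structure Rep (Q : Pres α) where
  /-- the table -/
  P : Table
  ok : Q.OK
  valid : P.Valid
  hng : P.ng = Q.ng
  letters : lettersOK P.ng Q.relW = true
  loops : P.Loops Q.relW
  /-- the base point -/
  z : Fin P.n
  /-- the orbit of everything -/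
  all : Orb
  all_b : all.b = (z : ℕ)
  all_k : all.k = P.n
  all_ok : orbOK P.T P.ng all = true
  all_letters : lettersOK P.ng all.ws = true

namespace Rep

variable {Q : Pres α} (R : Rep Q)

/-- the homomorphism -/
noncomputable def hom : Q.Grp →* Equiv.Perm (Fin R.P.n) :=
  Q.hom R.ok R.P R.valid R.hng R.letters R.loops

theorem hom_gen : ∀ x, x < R.P.ng → R.hom (Q.gen x) = R.P.perm R.valid x :=
  Pres.hom_gen R.ok R.P R.valid R.hng R.letters R.loops

theorem exists_move (u : Fin R.P.n) : ∃ p : Q.Grp, R.hom p R.z = u := by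
  classical
  have horb := orb_mem R.valid Q.gen R.hom R.hom_gen R.all_ok R.all_letters ⊤
    (fun _ _ => trivial) R.z R.all_b.symm
  have hinj := orb_inj R.all_ok
  let f : Fin R.all.k → Fin R.P.n := fun j => R.hom (horb j j.2).choose R.z
  have hf : Function.Injective f := by
    intro i j e
    have e' := congrArg (fun q : Fin R.P.n => (q : ℕ)) e
    simp only [f] at e'
    rw [(horb i i.2).choose_spec.2, (horb j j.2).choose_spec.2] at e'
    exact Fin.ext (hinj i.2 j.2 e')
  obtain ⟨j, hj⟩ := ((Fintype.bijective_iff_injective_and_card f).mpr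
    ⟨hf, by simp [R.all_k]⟩).2 u
  exact ⟨_, hj⟩

theorem transitive : (sorbit R.hom ⊤ R.z).ncard = R.P.n := by
  have : sorbit R.hom ⊤ R.z = Set.univ := by
    ext u
    obtain ⟨p, hp⟩ := R.exists_move u
    simp only [Set.mem_univ, iff_true]
    exact ⟨p, trivial, hp⟩
  rw [this, Set.ncard_univ, Nat.card_fin]

/-- a chain and an upper bound give the order and faithfulness -/
theorem order_eq {L : List Orb} (hL : chainOK R.P.T R.P.ng R.P.n L [] = true) {N : ℕ}
    (hN : chainSize L = N) (hup : Finite (⊤ : Subgroup Q.Grp) ∧ Nat.card (⊤ : Subgroup Q.Grp) ≤ N) :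
    Finite Q.Grp ∧ Nat.card Q.Grp = N ∧ Function.Injective R.hom := by
  haveI := hup.1
  haveI : Finite Q.Grp := Finite.of_surjective _ (Subgroup.topEquiv (G := Q.Grp)).surjective
  have hle : Nat.card Q.Grp ≤ N := by
    rw [← Nat.card_congr Subgroup.topEquiv.toEquiv]; exact hup.2
  have h1 : N ≤ Nat.card R.hom.range := hN ▸ chain_le_image R.valid Q.gen R.hom R.hom_gen hL
  have h2 : Nat.card R.hom.range ≤ Nat.card Q.Grp :=
    Nat.card_le_card_of_surjective _ R.hom.rangeRestrict_surjective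
  refine ⟨inferInstance, by omega, ?_⟩
  have hbij := (R.hom.rangeRestrict_surjective).bijective_of_nat_card_le (by omega)
  exact fun a b e => hbij.1 (Subtype.ext e)

/-- words fixing the base point -/
theorem wsub_le_stab {W : List (List ℕ)} (hl : lettersOK R.P.ng W = true)
    (hfix : fixOK R.P.T R.P.ng W [(R.z : ℕ)] = true) : Q.wsub W ≤ stab R.hom R.z := by
  refine (Subgroup.closure_le _).mpr ?_
  rintro _ ⟨w, hw, rfl⟩
  refine mem_stab.mpr (Fin.ext ?_)
  rw [ev_eq R.valid Q.gen R.hom R.hom_gen (fun x hx => lettersOK_spec hl hw hx)]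
  exact Nat.eq_of_beq_eq_true
    (List.all_eq_true.mp (List.all_eq_true.mp hfix w hw) (R.z : ℕ) (by simp))

/-- the subgroup is the point stabiliser -/
theorem wsub_eq_stab {W : List (List ℕ)} (hl : lettersOK R.P.ng W = true)
    (hfix : fixOK R.P.T R.P.ng W [(R.z : ℕ)] = true)
    (hidx : (Q.wsub W).index ≠ 0 ∧ (Q.wsub W).index ≤ R.P.n) :
    Q.wsub W = stab R.hom R.z ∧ (Q.wsub W).index = R.P.n :=
  eq_stab R.hom R.z _ (R.wsub_le_stab hl hfix) R.transitive hidx

/-- an orbit on cosets of prescribed size -/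
theorem exists_coset_orbit [Finite Q.Grp] {W : List (List ℕ)} (heq : Q.wsub W = stab R.hom R.z)
    (O : Orb) (hb : O.b < R.P.n) (hk : 0 < O.k) (hO : orbOK R.P.T R.P.ng O = true)
    (hcl : closedOK R.P.T R.P.ng O = true) (hl : lettersOK R.P.ng O.ws = true) (hW : O.ws = W) :
    ∃ p : Q.Grp, (MulAction.orbit (Q.wsub W) (p : Q.Grp ⧸ Q.wsub W)).ncard = O.k := by
  obtain ⟨p, hp⟩ := R.exists_move ⟨O.b, hb⟩
  refine ⟨p, ?_⟩
  rw [coset_orbit R.hom R.z _ heq p, hp]
  exact orbit_eq R.valid Q.gen R.hom R.hom_gen hb hk hO hcl hl _ (by rw [hW]; rfl)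

/-- the step towards simplicity: a nontrivial normal subgroup contains a given generator -/
theorem gen_mem_normal [Finite Q.Grp] (hinj : Function.Injective R.hom) {L : List Orb} {Lb : ℕ}
    (hpart : partOK R.P.T R.P.ng R.P.n L Lb = true) (hsum : sumsOK R.P.n (L.map Orb.k) = true)
    (hz : fld Lb 4 R.z = 0) {W : List (List ℕ)} (hLW : ∀ O ∈ L, O.ws = W)
    (heq : Q.wsub W = stab R.hom R.z) {q e : ℕ} (hq : q.Prime) (he : q ^ e ∣ R.P.n)
    (hfull : ¬ q ^ (e + 1) ∣ Nat.card Q.Grp) {o1 o2 : ℕ} {j1 j2 : ℕ} (ho1 : o1 = q ^ j1)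
    (ho2 : o2 = q ^ j2) {w1 w2 : List ℕ} {a : ℕ}
    (hl : lettersOK R.P.ng [powW o1 w1, powW o2 w2, w1 ++ w2 ++ [a]] = true)
    (hloop : R.P.Loops [powW o1 w1, powW o2 w2, w1 ++ w2 ++ [a]])
    (N : Subgroup Q.Grp) [N.Normal] : N = ⊥ ∨ Q.gen a ∈ N := by
  have hone : ∀ w ∈ [powW o1 w1, powW o2 w2, w1 ++ w2 ++ [a]], (w.map Q.gen).prod = 1 := by
    intro w hw
    apply hinj
    rw [map_one]
    ext u
    rw [ev_eq R.valid Q.gen R.hom R.hom_gen (fun x hx => lettersOK_spec hl hw hx)]
    exact hloop u u.2 w hw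
  have hprim := fun M hM => primitive R.valid Q.gen R.hom R.hom_gen hpart hsum R.z hz R.transitive
    (fun O hO w hw => heq ▸ Subgroup.subset_closure ⟨w, (hLW O hO) ▸ hw, rfl⟩) M hM
  rcases normal_cases R.hom hinj R.z R.transitive hprim N hq he hfull with h | h
  · exact Or.inl h
  · right
    have h1 : (w1.map Q.gen).prod ∈ N := by
      refine h _ j1 ?_
      have := hone _ (List.mem_cons_self ..)
      rwa [prod_powW, ho1] at this
    have h2 : (w2.map Q.gen).prod ∈ N := by
      refine h _ j2 ?_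
      have := hone _ (List.mem_cons_of_mem _ (List.mem_cons_self ..))
      rwa [prod_powW, ho2] at this
    have h3 := hone _ (List.mem_cons_of_mem _ (List.mem_cons_of_mem _ (List.mem_cons_self ..)))
    simp only [List.map_append, List.prod_append, List.map_cons, List.map_nil, List.prod_cons,
      List.prod_nil, mul_one] at h3
    have : Q.gen a = (w1.map Q.gen).prod * (w2.map Q.gen).prod := by
      have := eq_inv_of_mul_eq_one_left h3
      rw [this, inv_eq_of_mul_eq_one_left (Pres.gen_sq R.ok a)]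
    rw [this]
    exact mul_mem h1 h2

end Rep

end Cfsg.Agent.Spor.CC
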