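import Cfsg.Agent.Lib.Spor.CosetLift
import Cfsg.Agent.Lib.Spor.RepCert

/-!
Descent along coset certificates for elements in the kernel of a lift of a permutation group.
-/

set_option autoImplicit false

namespace Cfsg.Agent.Spor.CC

variable {Γ : Type*} [Group Γ]

/-- the kept cosets are all, for given representatives -/
theorem cover_of {D : Data} {m : ℕ} (hc : Checked D m) (g : ℕ → Γ) (H : Subgroup Γ)
    (hg : ∀ x, g x * g x = 1) (h15 : g 15 = 1) {v : ℕ → Γ} (h0 : v 0 = 1)
    (hall : ∀ k, k < m → Holds D g H v k) :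
    ∀ p ∈ Subgroup.closure (g '' {x | x < D.ng}), ∃ u, u < D.nn ∧ Rel H p (v u) := by
  have hedge : ∀ u x, u < D.nn → x < D.ng → ∃ c, c < D.nn ∧ Rel H (v u * g x) (v c) := by
    intro u x hu hx
    have hk : u * D.ng + x < D.nn * D.ng := by
      have : (u + 1) * D.ng ≤ D.nn * D.ng := Nat.mul_le_mul_right _ hu
      rw [Nat.succ_mul] at this
      omega
    obtain ⟨s, hs⟩ := hc.edges _ hk
    simp only [edgeOK, Bool.and_eq_true] at hs
    have e1 : Nat.div (u * D.ng + x) D.ng = u := by
      show (u * D.ng + x) / D.ng = u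
      rw [Nat.mul_comm, Nat.mul_add_div (by omega), Nat.div_eq_of_lt hx, Nat.add_zero]
    have e2 : Nat.mod (u * D.ng + x) D.ng = x := by
      show (u * D.ng + x) % D.ng = x
      rw [Nat.mul_comm, Nat.mul_add_mod, Nat.mod_eq_of_lt hx]
    rw [e1, e2] at hs
    obtain ⟨⟨h1, h2⟩, h3⟩ := hs
    have hwl : wLen (Nat.add 1 (Nat.mul 256 x)) = 1 := by
      show (1 + 256 * x) &&& 255 = 1
      rw [show (255 : ℕ) = 2 ^ 8 - 1 from rfl, Nat.and_two_pow_sub_one_eq_mod]
      omega
    have hne : walk D.facts (Nat.add 1 (Nat.mul 256 x)) m false (Nat.land s 1023) (Nat.shiftRight s 10) u 0 ≠ 0 := by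
      have := Nat.le_of_ble_eq_true h1
      omega
    have R := walk_sound hg h15 hall false u (by omega) _ _ u 0 _ rfl hne (Nat.zero_le _)
      (by simpa [rd, pre] using Rel.refl (H := H) (v u))
    rw [Nat.eq_of_beq_eq_true h2] at R
    refine ⟨_, Nat.le_of_ble_eq_true h3, ?_⟩
    have hx15 := hc.ng_le
    have hlet : wLet (Nat.add 1 (Nat.mul 256 x)) 0 = x := by
      show ((1 + 256 * x) >>> 8) &&& 15 = x
      rw [show (15 : ℕ) = 2 ^ 4 - 1 from rfl, Nat.and_two_pow_sub_one_eq_mod, Nat.shiftRight_eq_div_pow]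
      omega
    simp only [rd, pre, one_mul, hlet] at R
    exact R
  intro p hp
  induction hp using Subgroup.closure_induction_right with
  | one => exact ⟨0, hc.pos, by rw [h0]; exact Rel.refl _⟩
  | mul_right p z _ hz ih =>
    obtain ⟨x, hx, rfl⟩ := hz
    obtain ⟨u, hu, h⟩ := ih
    obtain ⟨c, hc', h'⟩ := hedge u x hu hx
    exact ⟨c, hc', (h.mul _).trans h'⟩
  | mul_inv_cancel p z _ hz ih =>
    obtain ⟨x, hx, rfl⟩ := hz
    obtain ⟨u, hu, h⟩ := ih
    obtain ⟨c, hc', h'⟩ := hedge u x hu hx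
    rw [inv_eq_of_mul_eq_one_left (hg x)]
    exact ⟨c, hc', (h.mul _).trans h'⟩

/-- the subgroup generated by some letters of a family -/
def lsub (L : ℕ → Γ) (ks : List ℕ) : Subgroup Γ := Subgroup.closure (L '' {x | x ∈ ks})

theorem prod_mem_lsub (L : ℕ → Γ) {ks : List ℕ} : ∀ w : List ℕ, (∀ x ∈ w, x ∈ ks) →
    (w.map L).prod ∈ lsub L ks
  | [], _ => by simp
  | x :: l, h => by
    rw [List.map_cons, List.prod_cons]
    exact mul_mem (Subgroup.subset_closure ⟨x, h x (by simp), rfl⟩)
      (prod_mem_lsub L l fun y hy => h y (by simp [hy]))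

/-- the data needed to run a certificate in the lifted group -/
theorem lift_data {D : Data} {ks : List ℕ} (hks : ks.length = D.ng) (hng : D.ng ≤ 15)
    (L : ℕ → Γ) (hL : ∀ x, L x * L x = 1) {ng : ℕ} (hbig : L ng = 1)
    {R : List (List ℕ)} (hR : ∀ r ∈ R, (r.map L).prod = 1)
    {wit : List (ℕ × ℕ × Bool)} {sub : List ℕ} {subW : List (List ℕ)}
    (hsub : subW.flatten = sub) (hw : wordsOK D ks ng R wit subW = true) :
    let g := fun x => L (ks.getD x ng)
    (∀ x, g x * g x = 1) ∧ g 15 = 1 ∧ Subgroup.closure (g '' {x | x < D.ng}) = lsub L ks ∧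
    ∀ k, k < D.nw → wLen (fld D.words 512 k) < 256 ∧
      (k < D.nr → ((wDecode (fld D.words 512 k)).map g).prod = 1) ∧
      ((wDecode (fld D.words 512 k)).map g).prod ∈ lsub L sub := by
  intro g
  refine ⟨fun x => hL _, ?_, ?_, ?_⟩
  · show L (ks.getD 15 ng) = 1
    rw [List.getD_eq_default _ _ (by omega)]
    exact hbig
  · rw [lsub]
    congr 1
    ext s
    constructor
    · rintro ⟨x, hx, rfl⟩
      exact ⟨_, by rw [List.getD_eq_getElem _ _ (by rw [hks]; exact hx)]; exact List.getElem_mem _, rfl⟩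
    · rintro ⟨y, hy, rfl⟩
      obtain ⟨i, hi, rfl⟩ := List.mem_iff_getElem.mp hy
      exact ⟨i, by rw [← hks]; exact hi, congrArg L (List.getD_eq_getElem _ _ hi)⟩
  · simp only [wordsOK, Bool.and_eq_true, List.all_eq_true, List.mem_range, beq_iff_eq] at hw
    obtain ⟨⟨⟨h1, h2⟩, hr⟩, hs⟩ := hw
    have h1' := Nat.eq_of_beq_eq_true h1
    have h2' := Nat.eq_of_beq_eq_true h2
    intro k hk
    refine ⟨?_, ?_⟩
    · show fld D.words 512 k &&& 255 < 256
      exact lt_of_le_of_lt Nat.and_le_right (by omega)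
    have hone : k < D.nr → ((wDecode (fld D.words 512 k)).map g).prod = 1 := by
      intro hkr
      rw [show g = L ∘ (fun x => ks.getD x ng) from rfl, ← List.map_map, hr k (by omega)]
      exact variant_one L hL hR _
    refine ⟨hone, ?_⟩
    by_cases hkr : k < D.nr
    · rw [hone hkr]; exact one_mem _
    · have hj : k - D.nr < subW.length := by omega
      have := hs (k - D.nr) hj
      rw [show D.nr + (k - D.nr) = k by omega] at this
      rw [show g = L ∘ (fun x => ks.getD x ng) from rfl, ← List.map_map, this,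
        List.getD_eq_getElem _ _ hj]
      refine prod_mem_lsub L _ fun x hx => ?_
      rw [← hsub]
      exact List.mem_flatten.mpr ⟨_, List.getElem_mem hj, hx⟩

/-- a table of images of a point follows the definitions -/
noncomputable def tabOK (D : Data) (T : ℕ → ℕ → ℕ) (ks : List ℕ) (t : List ℕ) : Bool :=
  (List.range (D.nn - 1)).all fun k => Nat.blt (fU (D.facts k)) D.nn &&
    Nat.beq (t.getD (Nat.add k 1) 0) (T (ks.getD (fX (D.facts k)) 0) (t.getD (fU (D.facts k)) 0))

/-- a set of points is stable under some letters -/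
noncomputable def stableOK (T : ℕ → ℕ → ℕ) (n : ℕ) (sub S : List ℕ) : Bool :=
  S.all fun u => Nat.blt u n && sub.all fun x => S.contains (T x u)

/-- all cosets but those listed are excluded by witness points -/
noncomputable def exclOK (D : Data) (T : ℕ → ℕ → ℕ) (n : ℕ) (ks sub : List ℕ)
    (wits : List (List ℕ × List ℕ)) (rest : List ℕ) : Bool :=
  (wits.all fun w => tabOK D T ks w.2 && stableOK T n sub w.1 && w.1.contains (w.2.getD 0 0)) &&
    (List.range D.nn).all fun k => rest.contains k || wits.any fun w => !(w.1.contains (w.2.getD k 0))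

theorem stable_prod {T : ℕ → ℕ → ℕ} {n : ℕ} {sub S : List ℕ} (hS : stableOK T n sub S = true)
    {P : Table} (hT : P.T = T) (_hn : P.n = n) (hP : P.Valid) {K : Type*} [Group K] (g : ℕ → K)
    (φ : K →* Equiv.Perm (Fin P.n)) (hφ : ∀ x, x < P.ng → φ (g x) = P.perm hP x)
    (hsub : ∀ x ∈ sub, x < P.ng) {h : K} (hh : h ∈ Subgroup.closure (g '' {x | x ∈ sub})) :
    ∀ u : Fin P.n, (u : ℕ) ∈ S → (φ h u : ℕ) ∈ S ∧ (φ h⁻¹ u : ℕ) ∈ S := by
  have base : ∀ x ∈ sub, ∀ u : Fin P.n, (u : ℕ) ∈ S → (φ (g x) u : ℕ) ∈ S := by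
    intro x hx u hu
    have h1 := List.all_eq_true.mp hS _ hu
    simp only [Bool.and_eq_true, List.all_eq_true] at h1
    rw [hφ x (hsub x hx), P.perm_val hP (hsub x hx), img, hT]
    exact List.contains_iff_mem.mp (h1.2 x hx)
  induction hh using Subgroup.closure_induction with
  | mem y hy =>
    obtain ⟨x, hx, rfl⟩ := hy
    intro u hu
    refine ⟨base x hx u hu, ?_⟩
    have e : φ (g x)⁻¹ = φ (g x) := by
      rw [map_inv, hφ x (hsub x hx)]
      exact inv_eq_of_mul_eq_one_left (P.perm_sq hP x)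
    rw [e]
    exact base x hx u hu
  | one => intro u hu; simpa using hu
  | mul a b _ _ ha hb =>
    intro u hu
    refine ⟨?_, ?_⟩
    · rw [map_mul, Equiv.Perm.mul_apply]
      exact (ha _ (hb u hu).1).1
    · rw [mul_inv_rev, map_mul, Equiv.Perm.mul_apply]
      exact (hb _ (ha u hu).2).2
  | inv a _ ha =>
    intro u hu
    rw [inv_inv]
    exact ⟨(ha u hu).2, (ha u hu).1⟩

/-- an element of the kernel inside a subgroup lies in one of the cosets that are not excluded -/
theorem descent {α : Type} [DecidableEq α] {Q : Pres α} (rep : Rep Q) (π : Γ →* Q.Grp)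
    (L : ℕ → Γ) (hL : ∀ x, L x * L x = 1) (hbig : L Q.ng = 1) (hπ : ∀ x, π (L x) = Q.gen x)
    {R : List (List ℕ)} (hR : ∀ r ∈ R, (r.map L).prod = 1)
    {D : Data} {m : ℕ} (hc : Checked D m) {ks : List ℕ} (hks : ks.length = D.ng)
    (hks' : ∀ x ∈ ks, x < Q.ng) {sub : List ℕ} (hsub' : ∀ x ∈ sub, x < Q.ng)
    {wit : List (ℕ × ℕ × Bool)} {subW : List (List ℕ)} (hsub : subW.flatten = sub)
    (hw : wordsOK D ks Q.ng R wit subW = true)
    {wits : List (List ℕ × List ℕ)} {rest : List ℕ}
    (he : exclOK D rep.P.T rep.P.n ks sub wits rest = true) (hna : D.nn ≤ D.na)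
    {y : Γ} (hy : y ∈ lsub L ks) (hy1 : π y = 1) :
    ∃ v : ℕ → Γ, v 0 = 1 ∧ (∀ k, k < m → Holds D (fun x => L (ks.getD x Q.ng)) (lsub L sub) v k) ∧
      ∃ k ∈ rest, k < D.nn ∧ Rel (lsub L sub) y (v k) := by
  obtain ⟨hg, h15, hcl, hrel⟩ := lift_data hks hc.ng_le L hL hbig hR hsub hw
  obtain ⟨v', h0', hv'⟩ := exists_val D (fun x => L (ks.getD x Q.ng)) hc.defs _ le_rfl
  have hall' := holds_all hc.defs hc.steps _ (lsub L sub) hg h15 hrel h0' hv'
  refine ⟨v', h0', hall', ?_⟩
  -- recover the cover for these representatives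
  have hcov' : ∀ p ∈ Subgroup.closure ((fun x => L (ks.getD x Q.ng)) '' {x | x < D.ng}),
      ∃ u, u < D.nn ∧ Rel (lsub L sub) p (v' u) :=
    cover_of hc _ (lsub L sub) hg h15 h0' hall'
  rw [hcl] at hcov'
  obtain ⟨k, hk, hrk⟩ := hcov' y hy
  refine ⟨k, ?_, hk, hrk⟩
  simp only [exclOK, Bool.and_eq_true, List.all_eq_true, List.mem_range, Bool.or_eq_true,
    List.any_eq_true] at he
  obtain ⟨hwits, hex⟩ := he
  rcases hex k hk with h | ⟨w, hw', hne⟩
  · exact List.contains_iff_mem.mp h
  exfalso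
  obtain ⟨⟨htab, hst⟩, hroot⟩ := hwits w hw'
  have hrootS : w.2.getD 0 0 ∈ w.1 := List.contains_iff_mem.mp hroot
  have hlt : ∀ u ∈ w.1, u < rep.P.n := by
    intro u hu
    have h1 := List.all_eq_true.mp hst _ hu
    simp only [Bool.and_eq_true] at h1
    exact Nat.le_of_ble_eq_true h1.1
  -- the table gives the images of the root point
  have htabv : ∀ j, j < D.nn →
      ∀ p : Fin rep.P.n, (p : ℕ) = w.2.getD 0 0 → (rep.hom (π (v' j))⁻¹ p : ℕ) = w.2.getD j 0 := by
    intro j
    induction j using Nat.strong_induction_on with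
    | _ j ih =>
      intro hj p hp
      rcases j with _ | j
      · rw [h0', map_one, inv_one, map_one, Equiv.Perm.one_apply, hp]
      · have ht := List.all_eq_true.mp htab j (List.mem_range.mpr (by omega))
        simp only [Bool.and_eq_true] at ht
        have hd := hc.defs j (by omega)
        simp only [defOK, Bool.and_eq_true] at hd
        have hule : fU (D.facts j) ≤ j := Nat.le_of_ble_eq_true hd.1.1
        have hxlt : fX (D.facts j) < D.ng := Nat.le_of_ble_eq_true hd.2
        have hkey : ks.getD (fX (D.facts j)) Q.ng = ks.getD (fX (D.facts j)) 0 := by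
          rw [List.getD_eq_getElem _ _ (by omega), List.getD_eq_getElem _ _ (by omega)]
        have hxq : ks.getD (fX (D.facts j)) 0 < rep.P.ng := by
          rw [rep.hng, List.getD_eq_getElem _ _ (by omega)]
          exact hks' _ (List.getElem_mem _)
        have hih := ih (fU (D.facts j)) (by omega) (by omega) p hp
        rw [hv' j (by omega), map_mul, mul_inv_rev, map_mul, Equiv.Perm.mul_apply, hπ, hkey,
          inv_eq_of_mul_eq_one_left (Pres.gen_sq rep.ok _), rep.hom_gen _ hxq,
          rep.P.perm_val rep.valid hxq, hih, Nat.eq_of_beq_eq_true ht.2]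
        rfl
  -- the coset representative maps into the image of the smaller subgroup
  have himg : (π (v' k))⁻¹ ∈ Subgroup.closure (Q.gen '' {x | x ∈ sub}) := by
    have hmem : y * (v' k)⁻¹ ∈ lsub L sub := hrk
    have := Subgroup.mem_map_of_mem π hmem
    rw [lsub, MonoidHom.map_closure, map_mul, map_inv, hy1, one_mul, Set.image_image] at this
    simpa only [hπ] using this
  let p : Fin rep.P.n := ⟨w.2.getD 0 0, hlt _ hrootS⟩
  have hmem := (stable_prod hst rfl rfl rep.valid Q.gen rep.hom rep.hom_gen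
    (fun x hx => rep.hng ▸ hsub' x hx) himg p hrootS).1
  rw [htabv k hk p rfl] at hmem
  rw [List.contains_iff_mem.mpr hmem] at hne
  cases hne

end Cfsg.Agent.Spor.CC
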