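import Cfsg.Agent.Lib.Spor.Fi23MultLift
import Cfsg.Agent.Lib.Spor.Fi23MultPts
import Cfsg.Agent.Lib.Spor.Fi23MultE6TCert
import Cfsg.Agent.Lib.Spor.Fi23MultY242Cert
import Cfsg.Agent.Lib.Spor.Fi23IdxE6Cert
import Cfsg.Agent.Lib.Spor.LiftDescent
import Cfsg.Agent.Lib.Solv.SchurSmall

/-!
Every stem extension of Fi23 is trivial.
-/

set_option autoImplicit false
set_option maxRecDepth 100000

namespace Cfsg.Agent.Spor.Fi23Cert.Mult

open Cfsg.Agent.Spor.CC
open scoped commutatorElement

section

variable {Γ : Type} [Group Γ] {π : Γ →* pres.Grp} (W : Lifts π)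

/-- the kernel meets the subgroup of the letters trivially -/
def Free (ks : List ℕ) : Prop := ∀ y ∈ lsub W.L ks, π y = 1 → y = 1

theorem free_nil : Free W [] := by
  intro y hy _
  simpa [lsub] using hy

theorem step_free [Finite Γ] {D : Data} {m : ℕ} (hc : Checked D m) {ks sub : List ℕ} (hks : ks.length = D.ng)
    (hl : lettersOK 10 [ks, sub] = true)
    {wit : List (ℕ × ℕ × Bool)} {subW : List (List ℕ)} (hsub : subW.flatten = sub)
    (hw : wordsOK D ks 10 rels wit subW = true)
    {wits : List (List ℕ × List ℕ)}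
    (he : exclOK D RepA.rows 31671 ks sub wits [0] = true) (hna : D.nn ≤ D.na)
    (h : Free W sub) : Free W ks := by
  intro y hy hy1
  obtain ⟨v, h0, -, k, hk, -, hrel⟩ := descent rep π W.L W.sq W.big W.proj W.rels_one hc hks
    (fun x hx => lettersOK_spec hl (by simp) hx) (fun x hx => lettersOK_spec hl (by simp) hx) hsub hw
    he hna hy hy1
  rw [List.mem_singleton] at hk
  subst hk
  rw [h0, CC.Rel, inv_one, mul_one] at hrel
  exact h y hrel hy1

theorem step_square (hcen : ∀ y : Γ, π y = 1 → ∀ g, g * y = y * g) [Finite Γ]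
    {D : Data} {m : ℕ} (hc : Checked D m) {ks sub : List ℕ} (hks : ks.length = D.ng)
    (hl : lettersOK 10 [ks, sub] = true)
    {wit : List (ℕ × ℕ × Bool)} {subW : List (List ℕ)} (hsub : subW.flatten = sub)
    (hw : wordsOK D ks 10 rels wit subW = true)
    {wits : List (List ℕ × List ℕ)} {q : ℕ}
    (he : exclOK D RepA.rows 31671 ks sub wits [0, q] = true) (hna : D.nn ≤ D.na)
    {w1 w2 f1 f2 p1 p2 : ℕ} (h1 : pathOK D m w1 0 q f1 p1 = true) (h2 : pathOK D m w2 q 0 f2 p2 = true)
    (heq : wDecode w1 = wDecode w2)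
    (h : Free W sub) {y : Γ} (hy : y ∈ lsub W.L ks) (hy1 : π y = 1) : y * y = 1 := by
  obtain ⟨v, h0, hall, k, hk, -, hrel⟩ := descent rep π W.L W.sq W.big W.proj W.rels_one hc hks
    (fun x hx => lettersOK_spec hl (by simp) hx) (fun x hx => lettersOK_spec hl (by simp) hx) hsub hw
    he hna hy hy1
  obtain ⟨hg, h15, -, -⟩ := lift_data hks hc.ng_le W.L W.sq (ng := 10) W.big W.rels_one hsub hw
  refine h _ ?_ (by rw [map_mul, hy1, one_mul])
  simp only [List.mem_cons, List.not_mem_nil, or_false] at hk
  rcases hk with rfl | rfl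
  · rw [h0, CC.Rel, inv_one, mul_one] at hrel
    exact mul_mem hrel hrel
  · have e1 := pathOK_spec hg h15 hall h1
    have e2 := pathOK_spec hg h15 hall h2
    rw [h0, one_mul] at e1
    rw [h0, ← heq] at e2
    generalize ((wDecode w1).map fun x => W.L (ks.getD x 10)).prod = wq at e1 e2
    have hsq : wq * wq ∈ lsub W.L sub := by
      have := (e1.mul wq).trans e2
      rwa [CC.Rel, inv_one, mul_one] at this
    have hyw : y * wq⁻¹ ∈ lsub W.L sub := hrel.trans e1.symm
    have e : y * y = y * wq⁻¹ * (y * wq⁻¹) * (wq * wq) := by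
      have hc' := hcen y hy1 wq⁻¹
      calc y * y = y * (y * wq⁻¹) * wq := by group
        _ = y * (wq⁻¹ * y) * wq := by rw [hc']
        _ = y * wq⁻¹ * (y * wq⁻¹) * (wq * wq) := by group
    rw [e]
    exact mul_mem (mul_mem hyw hyw) hsq

end

section

variable {Γ : Type} [Group Γ] [Finite Γ] {π : Γ →* pres.Grp}

/-- the spider relator -/
def spiderR : List ℕ := powW 10 [3, 2, 1, 3, 4, 5, 3, 8, 9]

/-- the relator of a Coxeter element of E7 -/
def sevenR : List ℕ := powW 9 [0, 1, 2, 3, 4, 5, 8]

theorem decode_facts :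
    (wDecode MultY242.spiderW).map (fun x => MultY242.letters.getD x 10) = spiderR ∧
    (wDecode MultE6T.spiderAW).map (fun x => MultE6T.letters.getD x 10) ++
      (wDecode MultE6T.spiderBW).map (fun x => MultE6T.letters.getD x 10) = powW 3 spiderR ∧
    wDecode MultE7A.qFromW = wDecode MultE7A.qBackW ∧ wDecode MultE8.qFromW = wDecode MultE8.qBackW := by
  decide +kernel

theorem excl_One : exclOK IdxOne.dat RepA.rows 31671 IdxOne.letters [] IdxOneW.wits IdxOneW.rest = true := by
  decide +kernel

theorem excl_A3 : exclOK IdxA3.dat RepA.rows 31671 IdxA3.letters IdxOne.letters IdxA3W.wits IdxA3W.rest = true := by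
  decide +kernel

theorem excl_A4 : exclOK IdxA4.dat RepA.rows 31671 IdxA4.letters IdxA3.letters IdxA4W.wits IdxA4W.rest = true := by
  decide +kernel

theorem excl_D5 : exclOK IdxD5.dat RepA.rows 31671 IdxD5.letters IdxA4.letters IdxD5W.wits IdxD5W.rest = true := by
  decide +kernel

theorem excl_E6 : exclOK IdxE6.dat RepA.rows 31671 IdxE6.letters IdxD5.letters IdxE6W.wits IdxE6W.rest = true := by
  decide +kernel

theorem excl_E7A : exclOK MultE7A.dat RepA.rows 31671 MultE7A.letters IdxD5.letters MultE7AW.wits MultE7AW.rest = true := by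
  decide +kernel

theorem excl_E8 : exclOK MultE8.dat RepA.rows 31671 MultE8.letters IdxE6.letters MultE8W.wits MultE8W.rest = true := by
  decide +kernel

theorem words_old :
    wordsOK IdxOne.dat IdxOne.letters 10 rels IdxOne.wit IdxOne.subW = true ∧
    wordsOK IdxA3.dat IdxA3.letters 10 rels IdxA3.wit IdxA3.subW = true ∧
    wordsOK IdxA4.dat IdxA4.letters 10 rels IdxA4.wit IdxA4.subW = true ∧
    wordsOK IdxD5.dat IdxD5.letters 10 rels IdxD5.wit IdxD5.subW = true ∧
    wordsOK IdxE6.dat IdxE6.letters 10 rels IdxE6.wit IdxE6.subW = true := by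
  decide +kernel

theorem extras_die (h : Cfsg.IsStemExtension π) (W : Lifts π) :
    (spiderR.map W.L).prod = 1 ∧
      (sevenR.map W.L).prod * (sevenR.map W.L).prod = 1 ∧ π (sevenR.map W.L).prod = 1 := by
  obtain ⟨wOne, wA3, wA4, wD5, wE6⟩ := words_old
  obtain ⟨dY, dE, d7, d8⟩ := decode_facts
  have f0 := step_free W IdxOne.checked (ks := IdxOne.letters) rfl (by decide) rfl wOne excl_One (by decide) (free_nil W)
  have f1 := step_free W IdxA3.checked (ks := IdxA3.letters) (sub := IdxOne.letters) rfl (by decide) rfl wA3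
    excl_A3 (by decide) f0
  have f2 := step_free W IdxA4.checked (ks := IdxA4.letters) (sub := IdxA3.letters) rfl (by decide) rfl wA4
    excl_A4 (by decide) f1
  have f6 := step_free W IdxD5.checked (ks := IdxD5.letters) (sub := IdxA4.letters) rfl (by decide) rfl wD5
    excl_D5 (by decide) f2
  have f7 := step_free W IdxE6.checked (ks := IdxE6.letters) (sub := IdxD5.letters) rfl (by decide) rfl wE6
    excl_E6 (by decide) f6
  have hcen : ∀ y : Γ, π y = 1 → ∀ g, g * y = y * g := fun y hy g => ker_comm h hy g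
  have sp1 : π ((spiderR.map W.L).prod) = 1 := by
    rw [W.proj_word]; exact Pres.relW_one pres_ok (by simp [Pres.relW, pres, spiderR])
  have sv1 : π ((sevenR.map W.L).prod) = 1 := by
    rw [W.proj_word]; exact Pres.relW_one pres_ok (by simp [Pres.relW, pres, sevenR])
  refine ⟨?_, ?_, sv1⟩
  · -- order dividing two
    have hsq : (spiderR.map W.L).prod * (spiderR.map W.L).prod = 1 := by
      refine step_square W hcen MultE8.checked (ks := MultE8.letters) (sub := IdxE6.letters) rfl
        (by decide) rfl MultE8.words_ok (q := 239) excl_E8 (by decide) MultE8.qFrom_ok MultE8.qBack_ok d8 f7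
        ?_ sp1
      obtain ⟨hg, h15, -, hrel⟩ := lift_data (D := MultY242.dat) (ks := MultY242.letters) rfl (by decide) W.L W.sq
        (ng := 10) W.big W.rels_one (sub := MultE8.letters) rfl MultY242.words_ok
      obtain ⟨v, h0, hv⟩ := exists_val MultY242.dat (fun x => W.L (MultY242.letters.getD x 10))
        MultY242.defs_ok _ le_rfl
      have e := pathOK_spec hg h15 (holds_all MultY242.defs_ok MultY242.steps_all _ _ hg h15 hrel h0 hv)
        MultY242.spider_ok
      rw [h0, one_mul, CC.Rel, inv_one, mul_one] at e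
      rw [← dY, List.map_map]
      exact e
    -- order dividing three
    have hcube : (spiderR.map W.L).prod ^ 3 = 1 := by
      refine f6 _ ?_ (by rw [map_pow, sp1, one_pow])
      obtain ⟨hg, h15, -, hrel⟩ := lift_data (D := MultE6T.dat) (ks := MultE6T.letters) rfl (by decide) W.L W.sq
        (ng := 10) W.big W.rels_one (sub := IdxD5.letters) rfl MultE6T.words_ok
      obtain ⟨v, h0, hv⟩ := exists_val MultE6T.dat (fun x => W.L (MultE6T.letters.getD x 10))
        MultE6T.defs_ok _ le_rfl
      have hall := holds_all MultE6T.defs_ok MultE6T.steps_all _ _ hg h15 hrel h0 hv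
      have e1 := pathOK_spec hg h15 hall MultE6T.spiderA_ok
      have e2 := pathOK_spec hg h15 hall MultE6T.spiderB_ok
      rw [h0, one_mul] at e1
      rw [h0] at e2
      have e := (e1.mul _).trans e2
      rw [CC.Rel, inv_one, mul_one] at e
      rw [← prod_powW, ← dE, List.map_append, List.prod_append, List.map_map, List.map_map]
      exact e
    generalize (spiderR.map W.L).prod = e at hsq hcube
    simpa [pow_succ, hsq] using hcube
  · refine step_square W hcen MultE7A.checked (ks := MultE7A.letters) (sub := IdxD5.letters) rfl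
      (by decide) rfl MultE7A.words_ok (q := 55) excl_E7A (by decide) MultE7A.qFrom_ok MultE7A.qBack_ok d7 f6
      (prod_mem_lsub W.L _ (by decide +kernel)) sv1

theorem twist_prod {ε : Γ} (hε : ∀ g, g * ε = ε * g) (f g : ℕ → Γ) :
    ∀ w : List ℕ, (∀ x ∈ w, f x = g x * ε) → (w.map f).prod = (w.map g).prod * ε ^ w.length
  | [], _ => by simp
  | a :: l, hw => by
    rw [List.map_cons, List.prod_cons, twist_prod hε f g l (fun x hx => hw x (by simp [hx])), hw a (by simp),
      List.map_cons, List.prod_cons, List.length_cons, pow_succ']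
    calc g a * ε * ((l.map g).prod * ε ^ l.length) = g a * ((ε * (l.map g).prod) * ε ^ l.length) := by group
      _ = g a * (((l.map g).prod * ε) * ε ^ l.length) := by rw [hε]
      _ = g a * (l.map g).prod * (ε * ε ^ l.length) := by group

theorem ker_trivial (h : Cfsg.IsStemExtension π) : ∀ k ∈ π.ker, k = 1 := by
  obtain ⟨W⟩ := exists_lifts h
  obtain ⟨hsp, hsv, hπ⟩ := extras_die h W
  generalize hε : (sevenR.map W.L).prod = ε at hsv hπ
  have hc : ∀ g : Γ, g * ε = ε * g := fun g => ker_comm h hπ g
  let f : ℕ → Γ := fun x => if x < 10 then W.L x * ε else 1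
  have hf : ∀ x, f x * f x = 1 := fun x => by
    by_cases hx : x < 10
    · simp only [f, if_pos hx]
      calc W.L x * ε * (W.L x * ε) = W.L x * (ε * W.L x) * ε := by group
        _ = W.L x * (W.L x * ε) * ε := by rw [← hc (W.L x)]
        _ = W.L x * W.L x * (ε * ε) := by group
        _ = 1 := by rw [W.sq, hsv, one_mul]
    · simp only [f, if_neg hx, one_mul]
  have hfw : ∀ w : List ℕ, (∀ x ∈ w, x < 10) → (w.map f).prod = (w.map W.L).prod * ε ^ w.length :=
    fun w hw => twist_prod hc f W.L w fun x hx => by simp [f, hw x hx]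
  have hε2 : ∀ n, ε ^ (2 * n) = 1 := fun n => by rw [pow_mul, pow_two, hsv, one_pow]
  have hrels : ∀ r ∈ Cfsg.Spor.coxRelators pres.edges ∪ {r | r ∈ pres.extra},
      FreeGroup.lift (f ∘ pres.ix) r = 1 := by
    intro r hr
    rcases hr with ⟨x, -, y, -, rfl⟩ | hr
    · rw [map_pow, map_mul, FreeGroup.lift_apply_of, FreeGroup.lift_apply_of, Function.comp_apply,
        Function.comp_apply]
      have hx := pres_ok.ix_lt x
      have hy := pres_ok.ix_lt y
      have he : f (pres.ix x) * f (pres.ix y) = W.L (pres.ix x) * W.L (pres.ix y) := by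
        have := hfw [pres.ix x, pres.ix y] (by simp; exact ⟨hx, hy⟩)
        simpa [pow_two, hsv] using this
      rw [he]
      have := W.cox _ _ hx hy
      rwa [pres_ok.nm_ix, pres_ok.nm_ix] at this
    · have key := pres_ok.extra_eq Γ f hf
      have hmem : FreeGroup.lift (f ∘ pres.ix) r ∈ pres.extra.map (FreeGroup.lift (f ∘ pres.ix)) :=
        List.mem_map.mpr ⟨r, hr, rfl⟩
      rw [key, show pres.extraW = [spiderR, sevenR] from rfl] at hmem
      simp only [List.map_cons, List.map_nil, List.mem_cons, List.not_mem_nil, or_false] at hmem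
      rcases hmem with e | e <;> rw [e]
      · rw [hfw _ (by decide +kernel), hsp, show spiderR.length = 2 * 45 from rfl, hε2, one_mul]
      · rw [hfw _ (by decide +kernel), hε, show sevenR.length = 2 * 31 + 1 from rfl, pow_succ, hε2,
          one_mul, hsv]
  let φ : pres.Grp →* Γ := PresentedGroup.toGroup hrels
  have hφπ : π.comp φ = MonoidHom.id pres.Grp := by
    refine PresentedGroup.ext fun a => ?_
    rw [MonoidHom.comp_apply, MonoidHom.id_apply]
    show π (φ (PresentedGroup.of a)) = _
    rw [PresentedGroup.toGroup.of, ← Pres.gen_of pres_ok a, Function.comp_apply]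
    simp [f, show pres.ix a < 10 from pres_ok.ix_lt a, W.proj, hπ]
  have hsur : ∀ g : Γ, g ∈ φ.range := by
    have hle : commutator Γ ≤ φ.range := by
      rw [commutator_def, Subgroup.commutator_le]
      intro a _ b _
      have hdec : ∀ c : Γ, π (c * (φ (π c))⁻¹) = 1 := fun c => by
        rw [map_mul, map_inv, show π (φ (π c)) = π c from DFunLike.congr_fun hφπ (π c), mul_inv_cancel]
      have ha := ker_comm h (hdec a)
      have hb := ker_comm h (hdec b)
      have hea : a = a * (φ (π a))⁻¹ * φ (π a) := by group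
      have heb : b = b * (φ (π b))⁻¹ * φ (π b) := by group
      generalize a * (φ (π a))⁻¹ = u at ha hea
      generalize b * (φ (π b))⁻¹ = v at hb heb
      have e : ⁅a, b⁆ = ⁅φ (π a), φ (π b)⁆ := by
        generalize φ (π a) = A at hea
        generalize φ (π b) = B at heb
        subst hea heb
        simp only [commutatorElement_def]
        calc u * A * (v * B) * (u * A)⁻¹ * (v * B)⁻¹ = u * (A * v) * B * A⁻¹ * u⁻¹ * B⁻¹ * v⁻¹ := by group
          _ = u * (v * A) * B * A⁻¹ * u⁻¹ * B⁻¹ * v⁻¹ := by rw [hb A]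
          _ = (u * (v * (A * B * A⁻¹))) * u⁻¹ * B⁻¹ * v⁻¹ := by group
          _ = ((v * (A * B * A⁻¹)) * u) * u⁻¹ * B⁻¹ * v⁻¹ := by rw [ha (v * (A * B * A⁻¹))]
          _ = (v * (A * B * A⁻¹ * B⁻¹)) * v⁻¹ := by group
          _ = (A * B * A⁻¹ * B⁻¹ * v) * v⁻¹ := by rw [hb (A * B * A⁻¹ * B⁻¹)]
          _ = A * B * A⁻¹ * B⁻¹ := by group
      rw [e, ← map_commutatorElement]
      exact ⟨_, rfl⟩
    intro g
    exact hle (stem_perfect h ▸ Subgroup.mem_top g)
  intro k hk
  obtain ⟨g, rfl⟩ := hsur k
  have : g = 1 := (DFunLike.congr_fun hφπ g).symm.trans (MonoidHom.mem_ker.mp hk)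
  rw [this, map_one]

end

theorem multiplier_trivial : Cfsg.HasCyclicSchurMultiplier Cfsg.Spor.Fi23 1 := by
  haveI : Finite Cfsg.Spor.Fi23 := order.1
  exact Cfsg.Agent.Solv.hasCyclicSchur_one_of fun Γ _ _ σ hσ => ker_trivial (π := σ) hσ

end Cfsg.Agent.Spor.Fi23Cert.Mult
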