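import Cfsg.Agent.Lib.Spor.Fi23OutClassDefs

/-!
The transposition class of Fi23 is invariant under all automorphisms.
-/

set_option autoImplicit false
set_option maxRecDepth 100000
set_option Elab.async false

namespace Cfsg.Agent.Spor.Fi23Cert.Outer

open Cfsg.Agent.Spor.CC
open Cfsg.Agent.Spor.Fi23Cert.Below

theorem com_check : Mult.oneOK comChk = true := by decide +kernel

theorem com_facts : comP.length = 23 ∧
    (∀ j < 23, lettersOK 10 [comC.getD j []] = true ∧ ev RepA.rows 10 (comC.getD j []) 8004 = comP.getD j 0) ∧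
    (∀ i < 11, basisI.getD i 0 < 23) ∧ (∀ j < 23, maskOf.getD j 0 < 2048) ∧
    (∀ b ∈ (chain.take 6).map Orb.b, b ∈ comP) ∧
    (chain.drop 6).map Orb.ws = lastM.map (fun l => l.map prodW) ∧ (∀ l ∈ lastM, ∀ m ∈ l, m < 2048) := by
  decide +kernel

theorem chain_ok : chainOK RepA.rows 10 31671 chain [] = true := by decide +kernel

theorem chain_size : chainSize chain = 4089470473293004800 := by decide +kernel

end Cfsg.Agent.Spor.Fi23Cert.Outer
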