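import Cfsg.Agent.Lib.Spor.Fi23OutPoints
import Cfsg.Agent.Lib.Spor.Fi23OutChainData
import Cfsg.Agent.Lib.Spor.ChainMem

/-!
The transposition class of Fi23 is invariant under all automorphisms.
-/

set_option autoImplicit false
set_option maxRecDepth 100000
set_option Elab.async false

namespace Cfsg.Agent.Spor.Fi23Cert.Outer

open Cfsg.Agent.Spor.CC
open Cfsg.Agent.Spor.Fi23Cert.Below

/-- the word of one of the 23 transpositions -/
def comW (j : ℕ) : List ℕ := tW (comC.getD j [])

/-- the word of a product of basis transpositions -/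
def prodW (m : ℕ) : List ℕ := ((List.range 11).filter fun i => m.testBit i).flatMap fun i => comW (basisI.getD i 0)

/-- the checks among the 23 -/
def comChk : List (List ℕ) :=
  ((List.range 11).flatMap fun i => (List.range 11).map fun j =>
    comW (basisI.getD i 0) ++ comW (basisI.getD j 0) ++ comW (basisI.getD i 0) ++ comW (basisI.getD j 0)) ++
  (List.range 23).map fun j => comW j ++ prodW (maskOf.getD j 0)

/-- decode a short expression -/
def repL (m : ℕ) : List ℕ :=
  (List.range (Nat.land (fld repT 20 m) 3)).map fun k => Nat.land (Nat.shiftRight (fld repT 20 m) (2 + 5 * k)) 31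

/-- the checks for one product -/
noncomputable def maskChk (m : ℕ) : Bool :=
  (repL m).all (fun j => Nat.blt j 23) && Nat.beq (((repL m).map fun j => maskOf.getD j 0).foldl Nat.xor 0) m &&
    bif Nat.ble 2 (repL m).length then
      (fun w g a b => lettersOK 10 [g] && Nat.blt a 31671 && Nat.blt b 31671 &&
        (fun u => !(Nat.beq (ev RepA.rows 10 u (ev RepA.rows 10 u a)) a) &&
          !(Nat.beq (ev RepA.rows 10 u (ev RepA.rows 10 u (ev RepA.rows 10 u b))) b))
          (w ++ g ++ w ++ g.reverse))
      ((repL m).flatMap comW) (witG.getD (Nat.land (fld witT 44 m) 4095) [])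
      (Nat.land (Nat.shiftRight (fld witT 44 m) 12) 65535) (Nat.shiftRight (fld witT 44 m) 28)
    else Nat.beq m 0 || Nat.beq (repL m).length 1

end Cfsg.Agent.Spor.Fi23Cert.Outer
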