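import Cfsg.Agent.Lib.Spor.Fi23OutPoints
import Cfsg.Agent.Lib.Spor.Fi23OutRigidData

/-!
Rigidity of the generators among transpositions: checks.
-/

set_option autoImplicit false
set_option maxRecDepth 100000
set_option Elab.async false

namespace Cfsg.Agent.Spor.Fi23Cert.Outer

open Cfsg.Agent.Spor.CC

/-- the two generators commute -/
noncomputable def commB (x y : ℕ) : Bool := Nat.beq (RepA.rows x (genP.getD y 0)) (genP.getD y 0)

/-- a point with the commutation pattern of generator `x` against earlier ones -/
noncomputable def pat (prev : List ℕ) (x p : ℕ) : Bool :=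
  prev.all fun y => !(Nat.beq p (genP.getD y 0)) && (Nat.beq (RepA.rows y p) p == commB y x)

/-- membership in an orbit -/
noncomputable def inOrb (O : Orb) (p : ℕ) : Bool :=
  Nat.blt (fld O.posn 16 p) O.k && Nat.beq (fld O.pts 16 (fld O.posn 16 p)) p

/-- the step -/
def stepO (i : ℕ) : Orb := steps.getD i step0

/-- strays of a step -/
def strayOf (i : ℕ) : List (List (ℕ × List ℕ)) :=
  ((strays.find? fun e => Nat.beq e.1 i).map Prod.snd).getD []

/-- scan of one point -/
noncomputable def scan (p : ℕ) : Bool :=
  (List.range 10).all fun i =>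
    (!(pat (order.take i) (order.getD i 0) p) || inOrb (stepO i) p ||
      ((strayOf i).headD []).any (fun e => Nat.beq e.1 p)) &&
    (List.range ((strayOf i).length - 1)).all fun k =>
      !(pat (order.take i) (order.getD (i + 1 + k) 0) p) ||
        ((strayOf i).getD (k + 1) []).any (fun e => Nat.beq e.1 p)

/-- agreement of a candidate with an assigned one -/
noncomputable def okC (z : ℕ) (q : ℕ × List ℕ) (a : ℕ × ℕ × List ℕ) : Bool :=
  !(Nat.beq q.1 a.2.1) && (Nat.beq (ev RepA.rows 10 (tW a.2.2) q.1) q.1 == commB a.1 z)

/-- no assignment agrees -/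
noncomputable def dead : List (ℕ × List (ℕ × List ℕ)) → List (ℕ × ℕ × List ℕ) → Bool
  | [], _ => false
  | (z, l) :: rest, asg => l.all fun q => !(asg.all (okC z q)) || dead rest ((z, q) :: asg)

/-- everything about the strays -/
noncomputable def strayChk (i : ℕ) : Bool :=
  ((strayOf i).all fun l => l.all fun e =>
    lettersOK 10 [e.2] && Nat.beq (ev RepA.rows 10 e.2 8004) e.1) &&
  ((strayOf i).headD []).all fun e =>
    dead ((order.drop (i + 1)).zip (strayOf i).tail) [(order.getD i 0, e)]

end Cfsg.Agent.Spor.Fi23Cert.Outer
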