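import Cfsg.Agent.Lib.Spor.Fi23RepAData

/-!
Checks for table `RepA` of Fi23.
-/

set_option autoImplicit false
set_option maxRecDepth 100000

namespace Cfsg.Agent.Spor.Fi23Cert.RepA

open Cfsg.Agent.Spor.CC

theorem inv96 : invOK rows 10 31671 31008 323 = true := by decide +kernel

theorem loop96 : loopOK rows 10 Cfsg.Agent.Spor.Fi23Cert.pres.relW 31008 323 = true :=
  relW_eq ▸ loop_of (fun u => rel_eq u) (by decide +kernel : rangeOK relAll 31008 323 = true)

theorem inv97 : invOK rows 10 31671 31331 323 = true := by decide +kernel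

theorem loop97 : loopOK rows 10 Cfsg.Agent.Spor.Fi23Cert.pres.relW 31331 323 = true :=
  relW_eq ▸ loop_of (fun u => rel_eq u) (by decide +kernel : rangeOK relAll 31331 323 = true)

theorem inv98 : invOK rows 10 31671 31654 17 = true := by decide +kernel

theorem loop98 : loopOK rows 10 Cfsg.Agent.Spor.Fi23Cert.pres.relW 31654 17 = true :=
  relW_eq ▸ loop_of (fun u => rel_eq u) (by decide +kernel : rangeOK relAll 31654 17 = true)

end Cfsg.Agent.Spor.Fi23Cert.RepA
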