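import Cfsg.Agent.Lib.Spor.Fi23SylTwoDefs

/-!
Checks of the products with the generators, part 0.
-/

set_option autoImplicit false
set_option maxRecDepth 100000
set_option Elab.async false

namespace Cfsg.Agent.Spor.Fi23Cert.SylTwo

open Cfsg.Agent.Spor.CC

theorem edgeB0 : Mult.oneOK (edgeChk 0 16) = true := by decide +kernel

theorem edgeB1 : Mult.oneOK (edgeChk 16 16) = true := by decide +kernel

theorem edgeB2 : Mult.oneOK (edgeChk 32 16) = true := by decide +kernel

theorem edgeB3 : Mult.oneOK (edgeChk 48 16) = true := by decide +kernel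

theorem edgeB4 : Mult.oneOK (edgeChk 64 16) = true := by decide +kernel

theorem edgeB5 : Mult.oneOK (edgeChk 80 16) = true := by decide +kernel

theorem edgeB6 : Mult.oneOK (edgeChk 96 16) = true := by decide +kernel

theorem edgeB7 : Mult.oneOK (edgeChk 112 16) = true := by decide +kernel

theorem edgeB8 : Mult.oneOK (edgeChk 128 16) = true := by decide +kernel

theorem edgeB9 : Mult.oneOK (edgeChk 144 16) = true := by decide +kernel

theorem edgeB10 : Mult.oneOK (edgeChk 160 16) = true := by decide +kernel

theorem edgeB11 : Mult.oneOK (edgeChk 176 16) = true := by decide +kernel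

theorem edgeB12 : Mult.oneOK (edgeChk 192 16) = true := by decide +kernel

theorem edgeB13 : Mult.oneOK (edgeChk 208 16) = true := by decide +kernel

theorem edgeB14 : Mult.oneOK (edgeChk 224 16) = true := by decide +kernel

theorem edgeB15 : Mult.oneOK (edgeChk 240 16) = true := by decide +kernel

end Cfsg.Agent.Spor.Fi23Cert.SylTwo
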