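import Cfsg.Agent.Lib.Spor.Fi23SylTwoDefs

/-!
Checks of the products with the generators, part 1.
-/

set_option autoImplicit false
set_option maxRecDepth 100000
set_option Elab.async false

namespace Cfsg.Agent.Spor.Fi23Cert.SylTwo

open Cfsg.Agent.Spor.CC

theorem edgeB16 : Mult.oneOK (edgeChk 256 16) = true := by decide +kernel

theorem edgeB17 : Mult.oneOK (edgeChk 272 16) = true := by decide +kernel

theorem edgeB18 : Mult.oneOK (edgeChk 288 16) = true := by decide +kernel

theorem edgeB19 : Mult.oneOK (edgeChk 304 16) = true := by decide +kernel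

theorem edgeB20 : Mult.oneOK (edgeChk 320 16) = true := by decide +kernel

theorem edgeB21 : Mult.oneOK (edgeChk 336 16) = true := by decide +kernel

theorem edgeB22 : Mult.oneOK (edgeChk 352 16) = true := by decide +kernel

theorem edgeB23 : Mult.oneOK (edgeChk 368 16) = true := by decide +kernel

theorem edgeB24 : Mult.oneOK (edgeChk 384 16) = true := by decide +kernel

theorem edgeB25 : Mult.oneOK (edgeChk 400 16) = true := by decide +kernel

theorem edgeB26 : Mult.oneOK (edgeChk 416 16) = true := by decide +kernel

theorem edgeB27 : Mult.oneOK (edgeChk 432 16) = true := by decide +kernel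

theorem edgeB28 : Mult.oneOK (edgeChk 448 16) = true := by decide +kernel

theorem edgeB29 : Mult.oneOK (edgeChk 464 16) = true := by decide +kernel

theorem edgeB30 : Mult.oneOK (edgeChk 480 16) = true := by decide +kernel

theorem edgeB31 : Mult.oneOK (edgeChk 496 16) = true := by decide +kernel

end Cfsg.Agent.Spor.Fi23Cert.SylTwo
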