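import Cfsg.Agent.Lib.Spor.Fi23SylTwoDefs

/-!
Checks of the vectors.
-/

set_option autoImplicit false
set_option maxRecDepth 100000
set_option Elab.async false

namespace Cfsg.Agent.Spor.Fi23Cert.SylTwo

open Cfsg.Agent.Spor.CC

theorem movesB0 : ((List.range 128).all fun m => movesOK (0 + m + 1)) = true := by decide +kernel

theorem movesB1 : ((List.range 128).all fun m => movesOK (128 + m + 1)) = true := by decide +kernel

theorem movesB2 : ((List.range 128).all fun m => movesOK (256 + m + 1)) = true := by decide +kernel

theorem movesB3 : ((List.range 128).all fun m => movesOK (384 + m + 1)) = true := by decide +kernel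

theorem movesB4 : ((List.range 128).all fun m => movesOK (512 + m + 1)) = true := by decide +kernel

theorem movesB5 : ((List.range 128).all fun m => movesOK (640 + m + 1)) = true := by decide +kernel

theorem movesB6 : ((List.range 128).all fun m => movesOK (768 + m + 1)) = true := by decide +kernel

theorem movesB7 : ((List.range 128).all fun m => movesOK (896 + m + 1)) = true := by decide +kernel

theorem movesB8 : ((List.range 128).all fun m => movesOK (1024 + m + 1)) = true := by decide +kernel

theorem movesB9 : ((List.range 128).all fun m => movesOK (1152 + m + 1)) = true := by decide +kernel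

theorem movesB10 : ((List.range 128).all fun m => movesOK (1280 + m + 1)) = true := by decide +kernel

theorem movesB11 : ((List.range 128).all fun m => movesOK (1408 + m + 1)) = true := by decide +kernel

theorem movesB12 : ((List.range 128).all fun m => movesOK (1536 + m + 1)) = true := by decide +kernel

theorem movesB13 : ((List.range 128).all fun m => movesOK (1664 + m + 1)) = true := by decide +kernel

theorem movesB14 : ((List.range 128).all fun m => movesOK (1792 + m + 1)) = true := by decide +kernel

theorem movesB15 : ((List.range 127).all fun m => movesOK (1920 + m + 1)) = true := by decide +kernel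

theorem fixB0 : (((List.range 3).map fun r => Dat.invs.getD (0 + r) 0).all fun i => fixOKI i) = true := by decide +kernel

theorem fixB1 : (((List.range 3).map fun r => Dat.invs.getD (3 + r) 0).all fun i => fixOKI i) = true := by decide +kernel

theorem fixB2 : (((List.range 3).map fun r => Dat.invs.getD (6 + r) 0).all fun i => fixOKI i) = true := by decide +kernel

theorem fixB3 : (((List.range 3).map fun r => Dat.invs.getD (9 + r) 0).all fun i => fixOKI i) = true := by decide +kernel

theorem fixB4 : (((List.range 3).map fun r => Dat.invs.getD (12 + r) 0).all fun i => fixOKI i) = true := by decide +kernel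

theorem fixB5 : (((List.range 3).map fun r => Dat.invs.getD (15 + r) 0).all fun i => fixOKI i) = true := by decide +kernel

theorem fixB6 : (((List.range 3).map fun r => Dat.invs.getD (18 + r) 0).all fun i => fixOKI i) = true := by decide +kernel

theorem fixB7 : (((List.range 3).map fun r => Dat.invs.getD (21 + r) 0).all fun i => fixOKI i) = true := by decide +kernel

theorem fixB8 : (((List.range 3).map fun r => Dat.invs.getD (24 + r) 0).all fun i => fixOKI i) = true := by decide +kernel

theorem fixB9 : (((List.range 3).map fun r => Dat.invs.getD (27 + r) 0).all fun i => fixOKI i) = true := by decide +kernel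

theorem fixB10 : (((List.range 3).map fun r => Dat.invs.getD (30 + r) 0).all fun i => fixOKI i) = true := by decide +kernel

theorem fixB11 : (((List.range 3).map fun r => Dat.invs.getD (33 + r) 0).all fun i => fixOKI i) = true := by decide +kernel

end Cfsg.Agent.Spor.Fi23Cert.SylTwo
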