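import Cfsg.Agent.Lib.Spor.Fi23SylTwoCheckS
import Cfsg.Agent.Lib.Spor.Fi23SylTwoCheckV
import Cfsg.Agent.Lib.Spor.Fi23SylTwoCheckE0
import Cfsg.Agent.Lib.Spor.Fi23SylTwoCheckE1

/-!
The checks for a Sylow 2-subgroup of Fi23, assembled.
-/

set_option autoImplicit false

namespace Cfsg.Agent.Spor.Fi23Cert.SylTwo

open Cfsg.Agent.Spor.CC

theorem all_drop {l : List ℕ} {f : ℕ → Bool} (n : ℕ) :
    ∀ k, (∀ c < k, ((l.drop (n * c)).take n).all f = true) → l.length ≤ n * k → l.all f = true := by
  intro k h hl
  rw [List.all_eq_true]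
  intro x hx
  obtain ⟨i, hi, rfl⟩ := List.getElem_of_mem hx
  have hn : 0 < n := Nat.pos_of_ne_zero fun h0 => by subst h0; rw [Nat.zero_mul] at hl; omega
  have hc : i / n < k := (Nat.div_lt_iff_lt_mul hn).mpr (by rw [mul_comm]; omega)
  have hm := Nat.mod_lt i hn
  have hd := Nat.div_add_mod i n
  have := List.all_eq_true.mp (h _ hc)
  refine this _ (List.mem_iff_getElem.mpr ⟨i % n, ?_, ?_⟩)
  · rw [List.length_take, List.length_drop]; omega
  · rw [List.getElem_take, List.getElem_drop]
    congr 1

theorem comm_ok : ∀ i < 23, Mult.oneOK (commChk i) = true := by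
  intro i hi
  have key : ∀ st ln, ((List.range' st ln).all fun i => Mult.oneOK (commChk i)) = true → st ≤ i → i < st + ln →
      Mult.oneOK (commChk i) = true := fun st ln h h1 h2 =>
    List.all_eq_true.mp h i (List.mem_range'_1.mpr ⟨h1, h2⟩)
  by_cases h1 : i < 12
  · exact key 0 12 commA (Nat.zero_le _) (by omega)
  by_cases h2 : i < 17
  · exact key 12 5 commB (by omega) (by omega)
  by_cases h3 : i < 20
  · exact key 17 3 commC (by omega) (by omega)
  · exact key 20 3 commD (by omega) (by omega)

theorem conj_ok : ∀ j < 4, Mult.oneOK (conjChk1 j) = true := by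
  intro j hj
  interval_cases j
  exacts [conjB0, conjB1, conjB2, conjB3]

theorem moves_ok : ∀ m, 1 ≤ m → m < 2048 → movesOK m = true := by
  intro m h1 h2
  have key : ∀ st ln, ((List.range ln).all fun r => movesOK (st + r + 1)) = true → st < m → m ≤ st + ln →
      movesOK m = true := fun st ln h a b => by
    have := List.all_eq_true.mp h (m - st - 1) (List.mem_range.mpr (by omega))
    rwa [show st + (m - st - 1) + 1 = m by omega] at this
  by_cases h0 : m ≤ 128
  · exact key 0 128 movesB0 (by omega) (by omega)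
  by_cases h1 : m ≤ 256
  · exact key 128 128 movesB1 (by omega) (by omega)
  by_cases h2 : m ≤ 384
  · exact key 256 128 movesB2 (by omega) (by omega)
  by_cases h3 : m ≤ 512
  · exact key 384 128 movesB3 (by omega) (by omega)
  by_cases h4 : m ≤ 640
  · exact key 512 128 movesB4 (by omega) (by omega)
  by_cases h5 : m ≤ 768
  · exact key 640 128 movesB5 (by omega) (by omega)
  by_cases h6 : m ≤ 896
  · exact key 768 128 movesB6 (by omega) (by omega)
  by_cases h7 : m ≤ 1024
  · exact key 896 128 movesB7 (by omega) (by omega)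
  by_cases h8 : m ≤ 1152
  · exact key 1024 128 movesB8 (by omega) (by omega)
  by_cases h9 : m ≤ 1280
  · exact key 1152 128 movesB9 (by omega) (by omega)
  by_cases h10 : m ≤ 1408
  · exact key 1280 128 movesB10 (by omega) (by omega)
  by_cases h11 : m ≤ 1536
  · exact key 1408 128 movesB11 (by omega) (by omega)
  by_cases h12 : m ≤ 1664
  · exact key 1536 128 movesB12 (by omega) (by omega)
  by_cases h13 : m ≤ 1792
  · exact key 1664 128 movesB13 (by omega) (by omega)
  by_cases h14 : m ≤ 1920
  · exact key 1792 128 movesB14 (by omega) (by omega)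
  · exact key 1920 127 movesB15 (by omega) (by omega)

theorem edge_ok : ∀ st, st % 16 = 0 → st < 512 → Mult.oneOK (edgeChk st 16) = true := by
  intro st h1 h2
  obtain ⟨c, rfl⟩ : ∃ c, st = 16 * c := ⟨st / 16, by omega⟩
  have hc : c < 32 := by omega
  interval_cases c
  exacts [edgeB0, edgeB1, edgeB2, edgeB3, edgeB4, edgeB5, edgeB6, edgeB7, edgeB8, edgeB9, edgeB10, edgeB11, edgeB12, edgeB13, edgeB14, edgeB15, edgeB16, edgeB17, edgeB18, edgeB19, edgeB20, edgeB21, edgeB22, edgeB23, edgeB24, edgeB25, edgeB26, edgeB27, edgeB28, edgeB29, edgeB30, edgeB31]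

theorem fix_ok : ∀ i ∈ Dat.invs, fixOKI i = true := by
  intro i hi
  have hlen : Dat.invs.length ≤ 36 := by decide +kernel
  obtain ⟨k, hk, rfl⟩ := List.getElem_of_mem hi
  have key : ∀ c, ((((List.range 3).map fun r => Dat.invs.getD (3 * c + r) 0).all fun i => fixOKI i) = true) →
      c = k / 3 → fixOKI Dat.invs[k] = true := fun c h e => by
    refine List.all_eq_true.mp h _ (List.mem_map.mpr ⟨k % 3, List.mem_range.mpr (Nat.mod_lt _ (by norm_num)), ?_⟩)
    subst e
    rw [Nat.div_add_mod k 3, List.getD_eq_getElem _ _ hk]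
  generalize hq : k / 3 = q
  have : q < 12 := by omega
  interval_cases q
  · exact key 0 fixB0 hq.symm
  · exact key 1 fixB1 hq.symm
  · exact key 2 fixB2 hq.symm
  · exact key 3 fixB3 hq.symm
  · exact key 4 fixB4 hq.symm
  · exact key 5 fixB5 hq.symm
  · exact key 6 fixB6 hq.symm
  · exact key 7 fixB7 hq.symm
  · exact key 8 fixB8 hq.symm
  · exact key 9 fixB9 hq.symm
  · exact key 10 fixB10 hq.symm
  · exact key 11 fixB11 hq.symm

theorem ab_ok : (Dat.abList.all fun E => abOK E) = true := by
  refine all_drop 18 9 (fun c hc => ?_) (by decide +kernel)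
  interval_cases c
  exacts [abB0, abB1, abB2, abB3, abB4, abB5, abB6, abB7, abB8]

theorem bound_ok : (Dat.abList.all fun E => boundOK E) = true := by
  refine all_drop 15 11 (fun c hc => ?_) (by decide +kernel)
  interval_cases c
  exacts [boundB0, boundB1, boundB2, boundB3, boundB4, boundB5, boundB6, boundB7, boundB8, boundB9, boundB10]

end Cfsg.Agent.Spor.Fi23Cert.SylTwo
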