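import Cfsg.Agent.Lib.Spor.Fi23SylTwoDefs

/-!
Smaller checks.
-/

set_option autoImplicit false
set_option maxRecDepth 100000
set_option Elab.async false

namespace Cfsg.Agent.Spor.Fi23Cert.SylTwo

open Cfsg.Agent.Spor.CC

theorem base_letters : lettersOK 10 Dat.baseC = true ∧ Dat.baseC.length = 23 ∧ lettersOK 10 Dat.genW = true := by
  decide +kernel

theorem commA : ((List.range' 0 12).all fun i => Mult.oneOK (commChk i)) = true := by decide +kernel

theorem commB : ((List.range' 12 5).all fun i => Mult.oneOK (commChk i)) = true := by decide +kernel

theorem commC : ((List.range' 17 3).all fun i => Mult.oneOK (commChk i)) = true := by decide +kernel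

theorem commD : ((List.range' 20 3).all fun i => Mult.oneOK (commChk i)) = true := by decide +kernel

theorem coord_ok : Mult.oneOK coordChk = true := by decide +kernel

/-- the conjugation checks of one generator -/
def conjChk1 (j : ℕ) : List (List ℕ) := (List.range 23).map fun i =>
  Dat.genW.getD j [] ++ tWd i ++ (Dat.genW.getD j []).reverse ++ tWd ((Dat.genP.getD j []).getD i 0)

theorem conjB0 : Mult.oneOK (conjChk1 0) = true := by decide +kernel

theorem conjB1 : Mult.oneOK (conjChk1 1) = true := by decide +kernel

theorem conjB2 : Mult.oneOK (conjChk1 2) = true := by decide +kernel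

theorem conjB3 : Mult.oneOK (conjChk1 3) = true := by decide +kernel

theorem perm_len : ((List.range 4).all fun j => Nat.beq (Dat.genP.getD j []).length 23 &&
    (Dat.genP.getD j []).all fun x => Nat.blt x 23) = true := by decide +kernel

theorem perm_word : ((List.range 128).all fun i =>
    eP i == (Dat.elJ.getD i []).foldl (fun p j => compP p (Dat.genP.getD j [])) (List.range 23)) = true := by
  decide +kernel

theorem perm_nodup : ((List.range 128).all fun i => (List.range i).all fun k => !(eP i == eP k)) = true ∧
    Dat.elP.length = 128 := by decide +kernel

theorem elJ_lt : ((List.range 128).all fun i => (Dat.elJ.getD i []).all fun j => Nat.blt j 4) = true := by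
  decide +kernel

theorem edgeK_lt : Dat.edgeK.all (fun k => Nat.blt k 128) = true ∧ Dat.edgeK.length = 512 := by decide +kernel

theorem edgeM_lt : Dat.edgeM.all (fun k => Nat.blt k 2048) = true ∧ Dat.edgeM.length = 512 := by decide +kernel

theorem vec_ok : Dat.vecs.Nodup ∧ Dat.vecs.length = 23 ∧ (Dat.vecs.all fun v => Nat.blt v 2048) = true ∧
    Dat.indep.length = 11 ∧ (Dat.indep.all fun v => Nat.blt v 23) = true := by decide +kernel

theorem ab_zero : (Dat.abList.all fun E => bitOf E 0) = true ∧ Dat.abList.contains 1 = true := by decide +kernel

theorem ab_invs : ((List.range 128).all fun i =>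
    Nat.beq i 0 || !(compP (eP i) (eP i) == eP 0) || Dat.invs.contains i) = true := by decide +kernel

theorem fix_zero : fixOKI 0 = true := by decide +kernel

theorem abB0 : ((Dat.abList.drop 0).take 18).all (fun E => abOK E) = true := by decide +kernel

theorem abB1 : ((Dat.abList.drop 18).take 18).all (fun E => abOK E) = true := by decide +kernel

theorem abB2 : ((Dat.abList.drop 36).take 18).all (fun E => abOK E) = true := by decide +kernel

theorem abB3 : ((Dat.abList.drop 54).take 18).all (fun E => abOK E) = true := by decide +kernel

theorem abB4 : ((Dat.abList.drop 72).take 18).all (fun E => abOK E) = true := by decide +kernel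

theorem abB5 : ((Dat.abList.drop 90).take 18).all (fun E => abOK E) = true := by decide +kernel

theorem abB6 : ((Dat.abList.drop 108).take 18).all (fun E => abOK E) = true := by decide +kernel

theorem abB7 : ((Dat.abList.drop 126).take 18).all (fun E => abOK E) = true := by decide +kernel

theorem abB8 : ((Dat.abList.drop 144).take 18).all (fun E => abOK E) = true := by decide +kernel

theorem boundB0 : ((Dat.abList.drop 0).take 15).all (fun E => boundOK E) = true := by decide +kernel

theorem boundB1 : ((Dat.abList.drop 15).take 15).all (fun E => boundOK E) = true := by decide +kernel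

theorem boundB2 : ((Dat.abList.drop 30).take 15).all (fun E => boundOK E) = true := by decide +kernel

theorem boundB3 : ((Dat.abList.drop 45).take 15).all (fun E => boundOK E) = true := by decide +kernel

theorem boundB4 : ((Dat.abList.drop 60).take 15).all (fun E => boundOK E) = true := by decide +kernel

theorem boundB5 : ((Dat.abList.drop 75).take 15).all (fun E => boundOK E) = true := by decide +kernel

theorem boundB6 : ((Dat.abList.drop 90).take 15).all (fun E => boundOK E) = true := by decide +kernel

theorem boundB7 : ((Dat.abList.drop 105).take 15).all (fun E => boundOK E) = true := by decide +kernel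

theorem boundB8 : ((Dat.abList.drop 120).take 15).all (fun E => boundOK E) = true := by decide +kernel

theorem boundB9 : ((Dat.abList.drop 135).take 15).all (fun E => boundOK E) = true := by decide +kernel

theorem boundB10 : ((Dat.abList.drop 150).take 15).all (fun E => boundOK E) = true := by decide +kernel

end Cfsg.Agent.Spor.Fi23Cert.SylTwo
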