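import Cfsg.Agent.Lib.Spor.Fi23OutPoints
import Cfsg.Agent.Lib.Spor.Fi23SylTwoData

/-!
Words and checkers for a Sylow 2-subgroup of Fi23.
-/

set_option autoImplicit false

namespace Cfsg.Agent.Spor.Fi23Cert.SylTwo

open Cfsg.Agent.Spor.CC

/-- the word of a base transposition -/
def tWd (i : ℕ) : List ℕ := Outer.tW (Dat.baseC.getD i [])

/-- is the bit set -/
def bitOf (m k : ℕ) : Bool := Nat.beq (Nat.land (Nat.shiftRight m k) 1) 1

/-- the word of a vector -/
def vWd (m : ℕ) : List ℕ :=
  ((List.range 11).map fun k => bif bitOf m k then tWd (Dat.indep.getD k 0) else []).flatten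

/-- the word of a generator word -/
def uWd (l : List ℕ) : List ℕ := l.flatMap fun j => Dat.genW.getD j []

/-- the word of an element -/
def eWd (i : ℕ) : List ℕ := uWd (Dat.elJ.getD i [])

/-- the permutation of an element -/
def eP (i : ℕ) : List ℕ := Dat.elP.getD i []

/-- composition of permutations as lists -/
def compP (p q : List ℕ) : List ℕ := q.map fun x => p.getD x 0

/-- the product of two elements -/
def mulI (i j : ℕ) : ℕ := fld Dat.mulTab 8 (Nat.add (Nat.mul i 128) j)

/-- the coordinates after an element -/
def actI (i m : ℕ) : ℕ :=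
  (List.range 11).foldl (fun r k =>
    bif bitOf m k then Nat.xor r (Dat.vecs.getD ((eP i).getD (Dat.indep.getD k 0) 0) 0) else r) 0

/-- the fixed vectors of an element -/
def fixI (i : ℕ) : ℕ := fld Dat.fixTab 2048 i

/-- the members of a set -/
def memI (E : ℕ) : List ℕ := (List.range 128).filter (bitOf E)

/-- commuting checks -/
def commChk (i : ℕ) : List (List ℕ) := (List.range i).map fun j => tWd i ++ tWd j ++ tWd i ++ tWd j

/-- coordinate checks -/
def coordChk : List (List ℕ) := (List.range 23).map fun i => tWd i ++ vWd (Dat.vecs.getD i 0)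

/-- conjugation checks -/
def conjChk : List (List ℕ) :=
  (List.range 4).flatMap fun j => (List.range 23).map fun i =>
    Dat.genW.getD j [] ++ tWd i ++ (Dat.genW.getD j []).reverse ++ tWd ((Dat.genP.getD j []).getD i 0)

/-- closure checks -/
def edgeChk (st len : ℕ) : List (List ℕ) :=
  (List.range len).map fun r =>
    eWd ((st + r) / 4) ++ Dat.genW.getD ((st + r) % 4) [] ++ (eWd (Dat.edgeK.getD (st + r) 0)).reverse ++
      vWd (Dat.edgeM.getD (st + r) 0)

/-- a vector moves one of the base points -/
noncomputable def movesOK (m : ℕ) : Bool :=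
  (RepA.levels.map Orb.b).any fun b => !(Nat.beq (ev RepA.rows 10 (vWd m) b) b)

/-- the closure property of the list of elementary abelian subgroups -/
def abOK (E : ℕ) : Bool :=
  Dat.invs.all fun x =>
    bitOf E x || (memI E).any (fun i => !(compP (eP x) (eP i) == compP (eP i) (eP x))) ||
      ((memI E).all (fun i => Nat.blt (mulI x i) 128 && eP (mulI x i) == compP (eP x) (eP i)) &&
        Dat.abList.contains ((memI E).foldl (fun F i => Nat.lor F (Nat.shiftLeft 1 (mulI x i))) E))

/-- the vectors fixed by all members -/
def commonFix (E : ℕ) : ℕ := (memI E).foldl (fun F i => Nat.land F (fixI i)) (Nat.sub (Nat.pow 2 2048) 1)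

/-- the bound for one set -/
def boundOK (E : ℕ) : Bool :=
  Nat.beq E 1 || Nat.ble (Nat.mul (memI E).length ((List.range 2048).filter (bitOf (commonFix E))).length) 1024

/-- the fixed vectors of an involution are recorded -/
def fixOKI (i : ℕ) : Bool :=
  (List.range 2048).all fun m => !(Nat.beq (actI i m) m) || bitOf (fixI i) m

end Cfsg.Agent.Spor.Fi23Cert.SylTwo
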