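import Cfsg.Agent.Lib.Spor.Fi23SylTwoCheck
import Cfsg.Prelude.Def_Transfer

/-!
A Sylow 2-subgroup of Fi23 has a unique normal elementary abelian subgroup of order `2 ^ 11`, and none larger.
-/

set_option autoImplicit false
set_option maxRecDepth 100000

namespace Cfsg.Agent.Spor.Fi23Cert.SylTwo

open Cfsg.Agent.Spor.CC

/-- the element of a word -/
noncomputable def wh (w : List ℕ) : pres.Grp := (w.map pres.gen).prod

theorem wh_append (u w : List ℕ) : wh (u ++ w) = wh u * wh w := by
  rw [wh, wh, wh, List.map_append, List.prod_append]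

theorem wh_nil : wh [] = 1 := rfl

theorem wh_rev (w : List ℕ) : wh w.reverse = (wh w)⁻¹ := (Below.prod_rev w).symm

theorem wh_one {W : List (List ℕ)} (h : Mult.oneOK W = true) {w : List ℕ} (hw : w ∈ W) : wh w = 1 :=
  Mult.oneOK_spec h hw

theorem bitOf_eq (m k : ℕ) : bitOf m k = m.testBit k := by
  show Nat.beq ((m >>> k) &&& 1) 1 = _
  rw [Nat.and_one_is_mod, Nat.shiftRight_eq_div_pow, Nat.testBit_eq_decide_div_mod_eq]
  rcases Nat.mod_two_eq_zero_or_one (m / 2 ^ k) with e | e <;> rw [e] <;> rfl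

/-- the transpositions of the base -/
noncomputable def bT (i : ℕ) : pres.Grp := wh (tWd i)

theorem bT_sq (i : ℕ) : bT i * bT i = 1 := by
  rw [bT, tWd, Outer.tW, wh_append, wh_append, wh_rev]
  simp only [wh, List.map_cons, List.map_nil, List.prod_cons, List.prod_nil, mul_one]
  generalize ((Dat.baseC.getD i []).map pres.gen).prod = c
  calc c * pres.gen 1 * c⁻¹ * (c * pres.gen 1 * c⁻¹) = c * (pres.gen 1 * pres.gen 1) * c⁻¹ := by group
    _ = 1 := by rw [Pres.gen_sq pres_ok]; group

theorem bT_comm {i j : ℕ} (hi : i < 23) (hj : j < 23) : bT i * bT j = bT j * bT i := by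
  have key : ∀ a b, a < 23 → b < a → bT a * bT b = bT b * bT a := by
    intro a b ha hb
    have h := wh_one (comm_ok a ha)
      (w := tWd a ++ tWd b ++ tWd a ++ tWd b) (List.mem_map.mpr ⟨b, List.mem_range.mpr hb, rfl⟩)
    simp only [wh_append] at h
    change bT a * bT b * bT a * bT b = 1 at h
    calc bT a * bT b = bT a * bT b * bT a * bT b * ((bT b)⁻¹ * (bT a)⁻¹) := by group
      _ = bT b * bT a := by
        rw [h, one_mul, inv_eq_of_mul_eq_one_left (bT_sq a), inv_eq_of_mul_eq_one_left (bT_sq b)]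
  rcases lt_trichotomy i j with h | rfl | h
  · exact (key j i hj h).symm
  · rfl
  · exact key i j hi h

/-- a factor of a vector -/
noncomputable def piece (m k : ℕ) : pres.Grp := bif bitOf m k then bT (Dat.indep.getD k 0) else 1

/-- the element of a vector, built from the first `n` coordinates -/
noncomputable def vPart : ℕ → ℕ → pres.Grp
  | 0, _ => 1
  | n + 1, m => vPart n m * piece m n

/-- the element of a vector -/
noncomputable def vv (m : ℕ) : pres.Grp := wh (vWd m)

theorem vv_eq (m : ℕ) : vv m = vPart 11 m := by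
  have key : ∀ n, wh (((List.range n).map fun k => bif bitOf m k then tWd (Dat.indep.getD k 0) else []).flatten) =
      vPart n m := by
    intro n
    induction n with
    | zero => rfl
    | succ n ih =>
      rw [List.range_succ, List.map_append, List.flatten_append, wh_append, ih, vPart]
      simp only [List.map_cons, List.map_nil, List.flatten_cons, List.flatten_nil, List.append_nil, piece]
      cases bitOf m n <;> rfl
  exact key 11

theorem indep_lt {k : ℕ} (hk : k < 11) : Dat.indep.getD k 0 < 23 := by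
  obtain ⟨-, -, -, hl, hall⟩ := vec_ok
  rw [List.getD_eq_getElem _ _ (by omega)]
  exact Nat.le_of_ble_eq_true (List.all_eq_true.mp hall _ (List.getElem_mem _))

theorem vec_lt {i : ℕ} (hi : i < 23) : Dat.vecs.getD i 0 < 2048 := by
  obtain ⟨-, hl, hall, -, -⟩ := vec_ok
  rw [List.getD_eq_getElem _ _ (by omega)]
  exact Nat.le_of_ble_eq_true (List.all_eq_true.mp hall _ (List.getElem_mem _))

theorem bT_vPart {i : ℕ} (hi : i < 23) (m : ℕ) : ∀ n, n ≤ 11 → bT i * vPart n m = vPart n m * bT i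
  | 0, _ => by simp [vPart]
  | n + 1, hn => by
    have ih := bT_vPart hi m n (by omega)
    have hp : bT i * piece m n = piece m n * bT i := by
      unfold piece
      cases bitOf m n
      · simp
      · exact bT_comm hi (indep_lt (by omega))
    rw [vPart, ← mul_assoc, ih, mul_assoc, hp, mul_assoc]

theorem vPart_mul (a b : ℕ) : ∀ n, n ≤ 11 → vPart n a * vPart n b = vPart n (a ^^^ b)
  | 0, _ => by simp [vPart]
  | n + 1, hn => by
    have ih := vPart_mul a b n (by omega)
    have hp : piece a n * vPart n b = vPart n b * piece a n := by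
      unfold piece
      cases bitOf a n
      · simp
      · exact bT_vPart (indep_lt (by omega)) b n (by omega)
    have hx : piece a n * piece b n = piece (a ^^^ b) n := by
      simp only [piece, bitOf_eq, Nat.testBit_xor]
      cases a.testBit n <;> cases b.testBit n <;> simp [bT_sq]
    rw [vPart, vPart, vPart, ← ih, ← hx]
    calc vPart n a * piece a n * (vPart n b * piece b n)
        = vPart n a * (piece a n * vPart n b) * piece b n := by group
      _ = _ := by rw [hp]; group

theorem vv_mul (a b : ℕ) : vv a * vv b = vv (a ^^^ b) := by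
  rw [vv_eq, vv_eq, vv_eq, vPart_mul a b 11 le_rfl]

theorem vv_zero : vv 0 = 1 := by
  have h := vv_mul 0 0
  rw [Nat.xor_self] at h
  exact mul_left_cancel (h.trans (mul_one _).symm)

theorem vv_sq (a : ℕ) : vv a * vv a = 1 := by rw [vv_mul, Nat.xor_self, vv_zero]

theorem vv_inv (a : ℕ) : (vv a)⁻¹ = vv a := inv_eq_of_mul_eq_one_left (vv_sq a)

theorem vv_comm (a b : ℕ) : vv a * vv b = vv b * vv a := by rw [vv_mul, vv_mul, Nat.xor_comm]

theorem xor_lt {a b : ℕ} (ha : a < 2048) (hb : b < 2048) : a ^^^ b < 2048 :=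
  Nat.xor_lt_two_pow (n := 11) ha hb

theorem vv_inj {a b : ℕ} (ha : a < 2048) (hb : b < 2048) (e : vv a = vv b) : a = b := by
  by_contra hne
  have h1 : vv (a ^^^ b) = 1 := by rw [← vv_mul, e, vv_sq]
  have hpos : a ^^^ b ≠ 0 := fun h => hne (Nat.eq_of_xor_eq_zero h)
  have hlt := xor_lt ha hb
  have hm := moves_ok (a ^^^ b) (Nat.pos_of_ne_zero hpos) hlt
  simp only [movesOK, List.any_eq_true] at hm
  obtain ⟨u, hu, hne'⟩ := hm
  have hu' : u < rep.P.n :=
    (show ∀ u ∈ RepA.levels.map Orb.b, u < 31671 by decide +kernel) u hu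
  have h2 := congrArg (fun p => ((rep.hom p ⟨u, hu'⟩ : Fin rep.P.n) : ℕ)) h1
  simp only [vv, wh, map_one, Equiv.Perm.one_apply] at h2
  rw [ev_eq rep.valid pres.gen rep.hom rep.hom_gen (fun x hx => ?_)] at h2
  · change ev RepA.rows 10 (vWd (a ^^^ b)) u = u at h2
    rw [h2] at hne'
    simp at hne'
  · have hl : lettersOK 10 ((List.range 11).map fun k => tWd (Dat.indep.getD k 0)) = true := by decide +kernel
    simp only [vWd, List.mem_flatten, List.mem_map, List.mem_range] at hx
    obtain ⟨l, ⟨k, hk, rfl⟩, hxl⟩ := hx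
    cases hb' : bitOf (a ^^^ b) k <;> rw [hb'] at hxl
    · simp at hxl
    · exact lettersOK_spec hl (List.mem_map.mpr ⟨k, List.mem_range.mpr hk, rfl⟩) hxl

theorem bT_vec {i : ℕ} (hi : i < 23) : bT i = vv (Dat.vecs.getD i 0) := by
  have h := wh_one coord_ok (w := tWd i ++ vWd (Dat.vecs.getD i 0)) (List.mem_map.mpr ⟨i, List.mem_range.mpr hi, rfl⟩)
  rw [wh_append] at h
  change bT i * vv (Dat.vecs.getD i 0) = 1 at h
  rw [eq_inv_of_mul_eq_one_left h, vv_inv]

theorem bT_inj {i j : ℕ} (hi : i < 23) (hj : j < 23) (e : bT i = bT j) : i = j := by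
  obtain ⟨hnd, hlen, -, -⟩ := vec_ok
  rw [bT_vec hi, bT_vec hj] at e
  have := vv_inj (vec_lt hi) (vec_lt hj) e
  rw [List.getD_eq_getElem _ _ (by omega), List.getD_eq_getElem _ _ (by omega)] at this
  exact (List.Nodup.getElem_inj_iff hnd).mp this

theorem genP_ok {j : ℕ} (hj : j < 4) : (Dat.genP.getD j []).length = 23 ∧
    ∀ x < 23, (Dat.genP.getD j []).getD x 0 < 23 := by
  have := List.all_eq_true.mp perm_len j (List.mem_range.mpr hj)
  simp only [Bool.and_eq_true] at this
  obtain ⟨h1, h2⟩ := this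
  have hl := Nat.eq_of_beq_eq_true h1
  refine ⟨hl, fun x hx => ?_⟩
  rw [List.getD_eq_getElem _ _ (by omega)]
  exact Nat.le_of_ble_eq_true (List.all_eq_true.mp h2 _ (List.getElem_mem _))

theorem eP_word {i : ℕ} (hi : i < 128) :
    eP i = (Dat.elJ.getD i []).foldl (fun p j => compP p (Dat.genP.getD j [])) (List.range 23) :=
  eq_of_beq (List.all_eq_true.mp perm_word i (List.mem_range.mpr hi))

theorem elJ_four {i : ℕ} (hi : i < 128) : ∀ j ∈ Dat.elJ.getD i [], j < 4 := fun j hj =>
  Nat.le_of_ble_eq_true (List.all_eq_true.mp (List.all_eq_true.mp elJ_lt i (List.mem_range.mpr hi)) j hj)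

theorem edge_lt {r : ℕ} (hr : r < 512) : Dat.edgeK.getD r 128 < 128 ∧ Dat.edgeM.getD r 2048 < 2048 := by
  obtain ⟨h1, l1⟩ := edgeK_lt
  obtain ⟨h2, l2⟩ := edgeM_lt
  rw [List.getD_eq_getElem _ _ (by omega), List.getD_eq_getElem _ _ (by omega)]
  exact ⟨Nat.le_of_ble_eq_true (List.all_eq_true.mp h1 _ (List.getElem_mem _)),
    Nat.le_of_ble_eq_true (List.all_eq_true.mp h2 _ (List.getElem_mem _))⟩

/-! ### the elements above the base -/

/-- the element of a list of generators -/
noncomputable def uu (l : List ℕ) : pres.Grp := wh (uWd l)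

/-- the chosen elements -/
noncomputable def ww (i : ℕ) : pres.Grp := wh (eWd i)

theorem uu_append (l k : List ℕ) : uu (l ++ k) = uu l * uu k := by
  simp only [uu, uWd, List.flatMap_append, wh_append]

theorem uu_conj : ∀ l : List ℕ, (∀ j ∈ l, j < 4) →
    (l.foldl (fun p j => compP p (Dat.genP.getD j [])) (List.range 23)).length = 23 ∧
    ∀ x < 23, (l.foldl (fun p j => compP p (Dat.genP.getD j [])) (List.range 23)).getD x 0 < 23 ∧
      uu l * bT x * (uu l)⁻¹ = bT ((l.foldl (fun p j => compP p (Dat.genP.getD j [])) (List.range 23)).getD x 0) := by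
  intro l
  induction l using List.reverseRecOn with
  | nil =>
    intro _
    refine ⟨List.length_range, fun x hx => ?_⟩
    simp only [List.foldl_nil]
    rw [List.getD_eq_getElem _ _ (by rw [List.length_range]; exact hx), List.getElem_range]
    refine ⟨hx, ?_⟩
    rw [show uu [] = 1 from rfl]
    group
  | append_singleton l j ih =>
    intro hl
    obtain ⟨ih1, ih2⟩ := ih fun y hy => hl y (List.mem_append.mpr (Or.inl hy))
    have hj : j < 4 := hl j (List.mem_append.mpr (Or.inr (List.mem_singleton_self j)))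
    obtain ⟨hq, hq'⟩ := genP_ok hj
    rw [List.foldl_append, List.foldl_cons, List.foldl_nil]
    generalize l.foldl (fun p j => compP p (Dat.genP.getD j [])) (List.range 23) = p at ih1 ih2
    refine ⟨by rw [compP, List.length_map, hq], fun x hx => ?_⟩
    have hy := hq' x hx
    have he : (compP p (Dat.genP.getD j [])).getD x 0 = p.getD ((Dat.genP.getD j []).getD x 0) 0 := by
      rw [compP, List.getD_eq_getElem _ _ (by rw [List.length_map, hq]; exact hx), List.getElem_map,
        List.getD_eq_getElem _ _ (show x < (Dat.genP.getD j []).length by rw [hq]; exact hx)]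
    rw [he]
    refine ⟨(ih2 _ hy).1, ?_⟩
    have h := wh_one (conj_ok j hj)
      (w := Dat.genW.getD j [] ++ tWd x ++ (Dat.genW.getD j []).reverse ++ tWd ((Dat.genP.getD j []).getD x 0))
      (List.mem_map.mpr ⟨x, List.mem_range.mpr hx, rfl⟩)
    simp only [wh_append, wh_rev] at h
    rw [← (ih2 _ hy).2, uu_append, show uu [j] = wh (Dat.genW.getD j []) by simp [uu, uWd]]
    generalize wh (Dat.genW.getD j []) = u at h ⊢
    change u * bT x * u⁻¹ * bT _ = 1 at h
    calc uu l * u * bT x * (uu l * u)⁻¹ = uu l * (u * bT x * u⁻¹) * (uu l)⁻¹ := by group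
      _ = uu l * bT ((Dat.genP.getD j []).getD x 0) * (uu l)⁻¹ := by
        rw [eq_inv_of_mul_eq_one_left h, inv_eq_of_mul_eq_one_left (bT_sq _)]

theorem eP_facts {i : ℕ} (hi : i < 128) : (eP i).length = 23 ∧ ∀ x < 23, (eP i).getD x 0 < 23 ∧
    ww i * bT x * (ww i)⁻¹ = bT ((eP i).getD x 0) := by
  rw [eP_word hi]
  exact uu_conj _ (elJ_four hi)

theorem eP_inj {i k : ℕ} (hi : i < 128) (hk : k < 128) (e : eP i = eP k) : i = k := by
  obtain ⟨h, -⟩ := perm_nodup
  rcases lt_trichotomy i k with hlt | heq | hgt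
  · have := List.all_eq_true.mp (List.all_eq_true.mp h k (List.mem_range.mpr hk)) i (List.mem_range.mpr hlt)
    simp [e] at this
  · exact heq
  · have := List.all_eq_true.mp (List.all_eq_true.mp h i (List.mem_range.mpr hi)) k (List.mem_range.mpr hgt)
    simp [e] at this

theorem ww_zero : ww 0 = 1 := by
  rw [ww, eWd, show Dat.elJ.getD 0 [] = [] from by decide +kernel]
  rfl

theorem ww_conjV {i : ℕ} (hi : i < 128) {m : ℕ} :
    actI i m < 2048 ∧ ww i * vv m * (ww i)⁻¹ = vv (actI i m) := by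
  let f : ℕ → ℕ → ℕ := fun r k =>
    bif bitOf m k then Nat.xor r (Dat.vecs.getD ((eP i).getD (Dat.indep.getD k 0) 0) 0) else r
  have key : ∀ n, n ≤ 11 → (List.range n).foldl f 0 < 2048 ∧
      ww i * vPart n m * (ww i)⁻¹ = vv ((List.range n).foldl f 0) := by
    intro n
    induction n with
    | zero => intro _; refine ⟨by rw [List.range_zero, List.foldl_nil]; norm_num, ?_⟩; rw [vPart, List.range_zero, List.foldl_nil, vv_zero]; group
    | succ n ih =>
      intro hn
      obtain ⟨hlt, he⟩ := ih (by omega)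
      rw [List.range_succ, List.foldl_append, List.foldl_cons, List.foldl_nil]
      generalize (List.range n).foldl f 0 = r at hlt he
      obtain ⟨hy, hc⟩ := (eP_facts hi).2 _ (indep_lt (show n < 11 by omega))
      have e2 : ww i * piece m n * (ww i)⁻¹ = bif bitOf m n then
          vv (Dat.vecs.getD ((eP i).getD (Dat.indep.getD n 0) 0) 0) else 1 := by
        unfold piece
        cases bitOf m n
        · simp
        · rw [cond_true, cond_true, hc, bT_vec hy]
      show f r n < 2048 ∧ _ = vv (f r n)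
      have hmul : ww i * vPart (n + 1) m * (ww i)⁻¹ = vv r * (ww i * piece m n * (ww i)⁻¹) := by
        rw [vPart, ← he]; group
      rw [hmul, e2]
      simp only [f]
      cases bitOf m n
      · simp [hlt]
      · exact ⟨xor_lt hlt (vec_lt hy), vv_mul _ _⟩
  obtain ⟨h1, h2⟩ := key 11 le_rfl
  rw [← vv_eq] at h2
  exact ⟨h1, h2⟩

theorem edge_step {i j : ℕ} (hi : i < 128) (hj : j < 4) :
    ∃ m k, m < 2048 ∧ k < 128 ∧ ww i * wh (Dat.genW.getD j []) = vv m * ww k := by
  obtain ⟨hk, hm⟩ := edge_lt (r := 4 * i + j) (by omega)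
  refine ⟨Dat.edgeM.getD (4 * i + j) 2048, Dat.edgeK.getD (4 * i + j) 128, hm, hk, ?_⟩
  have hlen : Dat.edgeK.length = 512 ∧ Dat.edgeM.length = 512 := by decide +kernel
  have hd : (4 * i + j) / 4 = i ∧ (4 * i + j) % 4 = j := by omega
  have h : wh (eWd i ++ Dat.genW.getD j [] ++ (eWd (Dat.edgeK.getD (4 * i + j) 128)).reverse ++
      vWd (Dat.edgeM.getD (4 * i + j) 2048)) = 1 := by
    refine wh_one (edge_ok (16 * ((4 * i + j) / 16)) (by omega) (by omega))
      (List.mem_map.mpr ⟨(4 * i + j) % 16, List.mem_range.mpr (by omega), ?_⟩)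
    rw [show 16 * ((4 * i + j) / 16) + (4 * i + j) % 16 = 4 * i + j by omega, hd.1, hd.2,
      List.getD_eq_getElem _ _ (by omega : 4 * i + j < Dat.edgeK.length),
      List.getD_eq_getElem _ _ (by omega : 4 * i + j < Dat.edgeK.length),
      List.getD_eq_getElem _ _ (by omega : 4 * i + j < Dat.edgeM.length),
      List.getD_eq_getElem _ _ (by omega : 4 * i + j < Dat.edgeM.length)]
  simp only [wh_append, wh_rev] at h
  rw [← vv, ← ww, ← ww] at h
  generalize ww (Dat.edgeK.getD (4 * i + j) 128) = b at h ⊢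
  have hvi := vv_inv (Dat.edgeM.getD (4 * i + j) 2048)
  generalize vv (Dat.edgeM.getD (4 * i + j) 2048) = v at h hvi ⊢
  calc ww i * wh (Dat.genW.getD j []) = (ww i * wh (Dat.genW.getD j []) * b⁻¹ * v) * v⁻¹ * b := by group
    _ = v⁻¹ * b := by rw [h, one_mul]
    _ = v * b := by rw [hvi]

/-! ### the subgroup -/

/-- the elementary subgroup -/
noncomputable def baseV : Subgroup pres.Grp where
  carrier := {x | ∃ m < 2048, vv m = x}
  one_mem' := ⟨0, by norm_num, vv_zero⟩
  mul_mem' := by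
    rintro _ _ ⟨a, ha, rfl⟩ ⟨b, hb, rfl⟩
    exact ⟨a ^^^ b, xor_lt ha hb, (vv_mul a b).symm⟩
  inv_mem' := by
    rintro _ ⟨a, ha, rfl⟩
    exact ⟨a, ha, (vv_inv a).symm⟩

/-- the Sylow subgroup -/
noncomputable def sylT : Subgroup pres.Grp :=
  baseV ⊔ Subgroup.closure {x | ∃ j < 4, wh (Dat.genW.getD j []) = x}

theorem ww_mem {i : ℕ} (hi : i < 128) : ww i ∈ sylT := by
  have key : ∀ l : List ℕ, (∀ j ∈ l, j < 4) → uu l ∈ sylT := by
    intro l
    induction l with
    | nil => intro _; exact one_mem _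
    | cons a l ih =>
      intro hl
      rw [← List.singleton_append, uu_append, show uu [a] = wh (Dat.genW.getD a []) by simp [uu, uWd]]
      exact mul_mem (Subgroup.mem_sup_right (Subgroup.subset_closure ⟨a, hl a (by simp), rfl⟩))
        (ih fun y hy => hl y (List.mem_cons_of_mem _ hy))
  exact key _ (elJ_four hi)

theorem mem_sylT {x : pres.Grp} : x ∈ sylT ↔ ∃ m < 2048, ∃ i < 128, vv m * ww i = x := by
  haveI := order.1
  constructor
  · intro hx
    have hcl : sylT = Subgroup.closure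
        ((baseV : Set pres.Grp) ∪ {x | ∃ j < 4, wh (Dat.genW.getD j []) = x}) := by
      rw [Subgroup.closure_union, Subgroup.closure_eq]; rfl
    rw [hcl, ← Subgroup.mem_toSubmonoid, Subgroup.closure_toSubmonoid_of_finite] at hx
    induction hx using Submonoid.closure_induction_right with
    | one => exact ⟨0, by norm_num, 0, by norm_num, by rw [vv_zero, ww_zero, one_mul]⟩
    | mul_right y hy z hz ih =>
      obtain ⟨m, hm, i, hi, rfl⟩ := ih
      rcases hz with ⟨n, hn, rfl⟩ | ⟨j, hj, rfl⟩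
      · obtain ⟨h1, h2⟩ := ww_conjV hi (m := n)
        refine ⟨m ^^^ actI i n, xor_lt hm h1, i, hi, ?_⟩
        rw [← vv_mul, ← h2]; group
      · obtain ⟨n, k, hn, hk, e⟩ := edge_step hi hj
        refine ⟨m ^^^ n, xor_lt hm hn, k, hk, ?_⟩
        rw [← vv_mul, mul_assoc, ← e]; group
  · rintro ⟨m, hm, i, hi, rfl⟩
    exact mul_mem (Subgroup.mem_sup_left ⟨m, hm, rfl⟩) (ww_mem hi)

theorem nf_conj {m i : ℕ} (hi : i < 128) {x : ℕ} (hx : x < 23) :
    vv m * ww i * bT x * (vv m * ww i)⁻¹ = bT ((eP i).getD x 0) := by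
  obtain ⟨hy, hc⟩ := (eP_facts hi).2 x hx
  calc vv m * ww i * bT x * (vv m * ww i)⁻¹ = vv m * (ww i * bT x * (ww i)⁻¹) * (vv m)⁻¹ := by group
    _ = bT ((eP i).getD x 0) := by rw [hc, bT_vec hy, vv_comm, mul_inv_cancel_right]

theorem nf_unique {m n i k : ℕ} (hi : i < 128) (hk : k < 128) (hm : m < 2048) (hn : n < 2048)
    (e : vv m * ww i = vv n * ww k) : m = n ∧ i = k := by
  have hik : i = k := by
    refine eP_inj hi hk (List.ext_getElem ((eP_facts hi).1.trans (eP_facts hk).1.symm) fun x h1 h2 => ?_)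
    have hx : x < 23 := (eP_facts hi).1 ▸ h1
    have h := nf_conj (m := m) hi hx
    rw [e, nf_conj hk hx] at h
    have := bT_inj ((eP_facts hk).2 x hx).1 ((eP_facts hi).2 x hx).1 h
    rw [List.getD_eq_getElem _ _ h1, List.getD_eq_getElem _ _ h2] at this
    exact this.symm
  subst hik
  exact ⟨vv_inj hm hn (mul_right_cancel e), rfl⟩

theorem eP_zero : eP 0 = List.range 23 := by
  rw [eP_word (by norm_num : (0 : ℕ) < 128), show Dat.elJ.getD 0 [] = [] from by decide +kernel, List.foldl_nil]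

theorem nf_mul {a b c i k l : ℕ} (hi : i < 128) (hk : k < 128) (hl : l < 128)
    (e : vv a * ww i * (vv b * ww k) = vv c * ww l) : eP l = compP (eP i) (eP k) := by
  refine List.ext_getElem ((eP_facts hl).1.trans ?_) fun x h1 h2 => ?_
  · rw [compP, List.length_map, (eP_facts hk).1]
  have hx : x < 23 := (eP_facts hl).1 ▸ h1
  have h := nf_conj (m := c) hl hx
  rw [← e] at h
  have hy := ((eP_facts hk).2 x hx).1
  have e' : vv a * ww i * (vv b * ww k) * bT x * (vv a * ww i * (vv b * ww k))⁻¹ =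
      bT ((eP i).getD ((eP k).getD x 0) 0) := by
    rw [← nf_conj (m := a) hi hy, ← nf_conj (m := b) hk hx]; group
  rw [e'] at h
  have := bT_inj ((eP_facts hi).2 _ hy).1 ((eP_facts hl).2 x hx).1 h
  rw [List.getD_eq_getElem _ _ h1, List.getD_eq_getElem (eP k) 0 (show x < (eP k).length by rw [(eP_facts hk).1]; exact hx)] at this
  simp only [compP, List.getElem_map]
  exact this.symm

theorem card_baseV : Nat.card baseV = 2 ^ 11 := by
  let f : Fin 2048 → baseV := fun m => ⟨vv m, m, m.2, rfl⟩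
  have hf : Function.Bijective f :=
    ⟨fun a b e => Fin.ext (vv_inj a.2 b.2 (congrArg Subtype.val e)),
      fun ⟨x, m, hm, e⟩ => ⟨⟨m, hm⟩, Subtype.ext e⟩⟩
  rw [← Nat.card_eq_of_bijective f hf, Nat.card_fin]; rfl

theorem card_sylT : Nat.card sylT = 2 ^ 18 := by
  let f : Fin 2048 × Fin 128 → sylT := fun p => ⟨vv p.1 * ww p.2, mem_sylT.mpr ⟨p.1, p.1.2, p.2, p.2.2, rfl⟩⟩
  have hf : Function.Bijective f := by
    refine ⟨fun p q e => ?_, fun ⟨x, hx⟩ => ?_⟩
    · obtain ⟨h1, h2⟩ := nf_unique p.2.2 q.2.2 p.1.2 q.1.2 (congrArg Subtype.val e)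
      exact Prod.ext (Fin.ext h1) (Fin.ext h2)
    · obtain ⟨m, hm, i, hi, rfl⟩ := mem_sylT.mp hx
      exact ⟨(⟨m, hm⟩, ⟨i, hi⟩), rfl⟩
  rw [← Nat.card_eq_of_bijective f hf, Nat.card_prod, Nat.card_fin, Nat.card_fin]; rfl

theorem baseV_elem : Cfsg.IsElementaryAbelian 2 baseV := by
  refine ⟨⟨⟨?_⟩⟩, ?_⟩
  · rintro ⟨_, a, -, rfl⟩ ⟨_, b, -, rfl⟩
    exact Subtype.ext (vv_comm a b)
  · rintro _ ⟨a, -, rfl⟩
    rw [pow_two, vv_sq]

theorem baseV_le : baseV ≤ sylT := le_sup_left

theorem baseV_normal : (baseV.subgroupOf sylT).Normal := by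
  refine ⟨fun n hn g => ?_⟩
  obtain ⟨m, hm, e⟩ := Subgroup.mem_subgroupOf.mp hn
  obtain ⟨a, ha, i, hi, eg⟩ := mem_sylT.mp g.2
  obtain ⟨h1, h2⟩ := ww_conjV hi (m := m)
  refine Subgroup.mem_subgroupOf.mpr ⟨actI i m, h1, ?_⟩
  simp only [Subgroup.coe_mul, InvMemClass.coe_inv]
  rw [← e, ← eg, show vv a * ww i * vv m * (vv a * ww i)⁻¹ = vv a * (ww i * vv m * (ww i)⁻¹) * (vv a)⁻¹ by group,
    h2, vv_comm, mul_inv_cancel_right]

theorem commonFix_bit {m : ℕ} (hm : m < 2048) :
    ∀ l : List ℕ, (∀ i ∈ l, bitOf (fixI i) m = true) →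
      ∀ F, bitOf F m = true → bitOf (l.foldl (fun F i => Nat.land F (fixI i)) F) m = true
  | [], _, F, hF => hF
  | a :: l, hl, F, hF => by
    rw [List.foldl_cons]
    refine commonFix_bit hm l (fun i hi => hl i (List.mem_cons_of_mem _ hi)) _ ?_
    rw [bitOf_eq, show Nat.land F (fixI a) = F &&& fixI a from rfl, Nat.testBit_and, ← bitOf_eq, ← bitOf_eq, hF,
      hl a (List.mem_cons_self ..)]
    rfl

theorem lor_bit (x : ℕ) : ∀ (l : List ℕ) (F y : ℕ),
    bitOf (l.foldl (fun F i => Nat.lor F (Nat.shiftLeft 1 (mulI x i))) F) y = true ↔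
      bitOf F y = true ∨ ∃ i ∈ l, mulI x i = y
  | [], F, y => by simp
  | a :: l, F, y => by
    rw [List.foldl_cons, lor_bit x l]
    have e : bitOf (Nat.lor F (Nat.shiftLeft 1 (mulI x a))) y = (bitOf F y || decide (mulI x a = y)) := by
      rw [bitOf_eq, bitOf_eq, show Nat.lor F (Nat.shiftLeft 1 (mulI x a)) = F ||| (1 <<< mulI x a) from rfl,
        Nat.testBit_or, Nat.one_shiftLeft, Nat.testBit_two_pow]
    rw [e, Bool.or_eq_true, decide_eq_true_iff, List.exists_mem_cons_iff, or_assoc]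

theorem card_filter_range (n : ℕ) (f : ℕ → Bool) :
    ((Finset.range n).filter fun i => f i = true).card = ((List.range n).filter f).length := by
  rw [← List.toFinset_card_of_nodup (List.nodup_range.filter _)]
  congr 1
  ext x
  simp

theorem elem_le {A : Subgroup pres.Grp} (hA : A ≤ sylT) (hel : Cfsg.IsElementaryAbelian 2 A) :
    A ≤ baseV ∨ Nat.card A ≤ 2 ^ 10 := by
  classical
  haveI := order.1
  obtain ⟨⟨⟨hcomm⟩⟩, hsq⟩ := hel
  let I : Finset ℕ := (Finset.range 128).filter fun i => ∃ m < 2048, vv m * ww i ∈ A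
  have hI : ∀ {i}, i ∈ I ↔ i < 128 ∧ ∃ m < 2048, vv m * ww i ∈ A := by simp [I]
  have hmul : ∀ {i k}, i ∈ I → k ∈ I → ∃ l ∈ I, eP l = compP (eP i) (eP k) := by
    intro i k hi hk
    obtain ⟨hi1, a, ha, hiA⟩ := hI.mp hi
    obtain ⟨hk1, b, hb, hkA⟩ := hI.mp hk
    obtain ⟨c, hc, l, hl, e⟩ := mem_sylT.mp (hA (mul_mem hiA hkA))
    exact ⟨l, hI.mpr ⟨hl, c, hc, e ▸ mul_mem hiA hkA⟩, nf_mul hi1 hk1 hl e.symm⟩
  have hcommI : ∀ {i k}, i ∈ I → k ∈ I → compP (eP i) (eP k) = compP (eP k) (eP i) := by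
    intro i k hi hk
    obtain ⟨hi1, a, ha, hiA⟩ := hI.mp hi
    obtain ⟨hk1, b, hb, hkA⟩ := hI.mp hk
    obtain ⟨c, hc, l, hl, e⟩ := mem_sylT.mp (hA (mul_mem hiA hkA))
    have hcm : vv b * ww k * (vv a * ww i) = vv a * ww i * (vv b * ww k) :=
      congrArg Subtype.val (hcomm ⟨_, hkA⟩ ⟨_, hiA⟩)
    rw [← nf_mul hi1 hk1 hl e.symm, ← nf_mul hk1 hi1 hl (hcm.trans e.symm)]
  have hinv : ∀ {i}, i ∈ I → compP (eP i) (eP i) = eP 0 := by
    intro i hi
    obtain ⟨hi1, a, ha, hiA⟩ := hI.mp hi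
    have h := hsq _ hiA
    rw [pow_two] at h
    exact (nf_mul hi1 hi1 (by norm_num) (h.trans (by rw [vv_zero, ww_zero, one_mul] : (1 : pres.Grp) = vv 0 * ww 0))).symm
  have h0 : 0 ∈ I := hI.mpr ⟨by norm_num, 0, by norm_num, by rw [vv_zero, ww_zero, one_mul]; exact one_mem A⟩
  -- the set of the elements is one of the listed sets
  let ms : ℕ → Finset ℕ := fun E => (Finset.range 128).filter fun i => bitOf E i = true
  let cand : Finset ℕ := Dat.abList.toFinset.filter fun E => ms E ⊆ I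
  have hclosed := ab_ok
  have hone := ab_zero.2
  have hinvs : ∀ y < 128, 0 < y → compP (eP y) (eP y) = eP 0 → y ∈ Dat.invs := fun y hy hy0 he => by
    have := List.all_eq_true.mp ab_invs y (List.mem_range.mpr hy)
    simp only [he, beq_self_eq_true, Bool.not_true, Bool.or_false, Bool.or_eq_true, List.contains_iff_mem] at this
    rcases this with h | h
    · exact absurd (Nat.eq_of_beq_eq_true h) (by omega)
    · exact h
  have hc1 : 1 ∈ cand := by
    refine Finset.mem_filter.mpr ⟨List.mem_toFinset.mpr (List.contains_iff_mem.mp hone), fun i hi => ?_⟩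
    have hi' := (Finset.mem_filter.mp hi).2
    rw [bitOf_eq, Nat.testBit_one_eq_true_iff_self_eq_zero] at hi'
    exact hi' ▸ h0
  obtain ⟨E, hE, hmax⟩ := Finset.exists_max_image cand (fun E => (ms E).card) ⟨1, hc1⟩
  obtain ⟨hEl, hEI⟩ := Finset.mem_filter.mp hE
  have hEmem : E ∈ Dat.abList := List.mem_toFinset.mp hEl
  have hzero : bitOf E 0 = true :=
    List.all_eq_true.mp ab_zero.1 E hEmem
  have hmemI : ∀ {F i}, i ∈ memI F ↔ i < 128 ∧ bitOf F i = true := by simp [memI]
  have hIE : I ⊆ ms E := by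
    intro x hx
    by_contra hxE
    have hx1 := (hI.mp hx).1
    have hxb : bitOf E x = false := by
      by_contra hb
      exact hxE (Finset.mem_filter.mpr ⟨Finset.mem_range.mpr hx1, (Bool.not_eq_false _).mp hb⟩)
    have hx0 : 0 < x := Nat.pos_of_ne_zero fun h => by rw [h, hzero] at hxb; exact Bool.noConfusion hxb
    have hok := List.all_eq_true.mp (List.all_eq_true.mp hclosed E hEmem) x (hinvs x hx1 hx0 (hinv hx))
    have hEi : ∀ i ∈ memI E, i ∈ I := fun i hi =>
      hEI (Finset.mem_filter.mpr ⟨Finset.mem_range.mpr (hmemI.mp hi).1, (hmemI.mp hi).2⟩)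
    have hnc : ((memI E).any fun i => !(compP (eP x) (eP i) == compP (eP i) (eP x))) = false := by
      rw [List.any_eq_false]
      intro i hi
      simp [hcommI hx (hEi i hi)]
    rw [hxb, hnc, Bool.false_or, Bool.false_or, Bool.and_eq_true, List.all_eq_true] at hok
    obtain ⟨hall, hcon⟩ := hok
    set E' := (memI E).foldl (fun F i => Nat.lor F (Nat.shiftLeft 1 (mulI x i))) E with hE'
    have hprod : ∀ i ∈ memI E, mulI x i < 128 ∧ mulI x i ∈ I ∧ eP (mulI x i) = compP (eP x) (eP i) := by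
      intro i hi
      have := hall i hi
      simp only [Bool.and_eq_true, beq_iff_eq] at this
      obtain ⟨l, hl, hle⟩ := hmul hx (hEi i hi)
      have hlt : mulI x i < 128 := Nat.le_of_ble_eq_true this.1
      rw [eP_inj hlt (hI.mp hl).1 (this.2.trans hle.symm)]
      exact ⟨(hI.mp hl).1, hl, hle⟩
    have hE'cand : E' ∈ cand := by
      refine Finset.mem_filter.mpr ⟨List.mem_toFinset.mpr (List.contains_iff_mem.mp hcon), fun y hy => ?_⟩
      rcases (lor_bit x (memI E) E y).mp (Finset.mem_filter.mp hy).2 with h | ⟨i, hi, rfl⟩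
      · exact hEI (Finset.mem_filter.mpr ⟨(Finset.mem_filter.mp hy).1, h⟩)
      · exact (hprod i hi).2.1
    have hlt : (ms E).card < (ms E').card := by
      refine Finset.card_lt_card ⟨fun y hy => Finset.mem_filter.mpr ⟨(Finset.mem_filter.mp hy).1,
        (lor_bit x (memI E) E y).mpr (Or.inl (Finset.mem_filter.mp hy).2)⟩, fun hss => hxE (hss ?_)⟩
      have h0m : 0 ∈ memI E := hmemI.mpr ⟨by norm_num, hzero⟩
      obtain ⟨hl0, -, he0⟩ := hprod 0 h0m
      have hxx : mulI x 0 = x := by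
        refine eP_inj hl0 hx1 (he0.trans ?_)
        rw [eP_zero, compP]
        refine List.ext_getElem (by rw [List.length_map, List.length_range, (eP_facts hx1).1]) fun y h1 h2 => ?_
        rw [List.getElem_map, List.getElem_range, List.getD_eq_getElem _ _ h2]
      exact Finset.mem_filter.mpr ⟨Finset.mem_range.mpr hx1,
        (lor_bit x (memI E) E x).mpr (Or.inr ⟨0, h0m, hxx⟩)⟩
    exact absurd (hmax E' hE'cand) (not_le.mpr hlt)
  have hb := List.all_eq_true.mp bound_ok E hEmem
  simp only [boundOK, Bool.or_eq_true] at hb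
  rcases hb with hb | hb
  · left
    intro a haA
    obtain ⟨m, hm, i, hi, rfl⟩ := mem_sylT.mp (hA haA)
    have := (Finset.mem_filter.mp (hIE (hI.mpr ⟨hi, m, hm, haA⟩))).2
    rw [Nat.eq_of_beq_eq_true hb, bitOf_eq, Nat.testBit_one_eq_true_iff_self_eq_zero] at this
    rw [this, ww_zero, mul_one]
    exact ⟨m, hm, rfl⟩
  · right
    let F : Finset ℕ := (Finset.range 2048).filter fun m => bitOf (commonFix E) m = true
    have hF : ∀ m < 2048, vv m ∈ A → m ∈ F := by
      intro m hm hmA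
      refine Finset.mem_filter.mpr ⟨Finset.mem_range.mpr hm, commonFix_bit hm _ (fun i hi => ?_) _ ?_⟩
      · obtain ⟨hi1, hib⟩ := hmemI.mp hi
        obtain ⟨-, a, ha, hiA⟩ := hI.mp (hEI (Finset.mem_filter.mpr ⟨Finset.mem_range.mpr hi1, hib⟩))
        have hcm : vv a * ww i * vv m = vv m * (vv a * ww i) := congrArg Subtype.val (hcomm ⟨_, hiA⟩ ⟨_, hmA⟩)
        obtain ⟨h1, h2⟩ := ww_conjV hi1 (m := m)
        have hfix : actI i m = m := by
          refine vv_inj h1 hm (h2.symm.trans ?_)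
          calc ww i * vv m * (ww i)⁻¹ = (vv a)⁻¹ * (vv a * ww i * vv m) * (ww i)⁻¹ := by group
            _ = (vv a)⁻¹ * (vv m * vv a) := by rw [hcm]; group
            _ = vv m := by rw [vv_comm m a]; group
        have hok : fixOKI i = true := by
          by_cases hi0 : i = 0
          · exact hi0 ▸ fix_zero
          · exact fix_ok i (hinvs i hi1 (Nat.pos_of_ne_zero hi0)
              (hinv (hEI (Finset.mem_filter.mpr ⟨Finset.mem_range.mpr hi1, hib⟩))))
        have := List.all_eq_true.mp hok m (List.mem_range.mpr hm)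
        simpa [hfix] using this
      · rw [bitOf_eq, show Nat.sub (Nat.pow 2 2048) 1 = 2 ^ 2048 - 1 from rfl, Nat.testBit_two_pow_sub_one]
        simpa using hm
    have hrep : ∀ i : ℕ, ∃ r ∈ A, i ∈ I → ∃ b < 2048, r = vv b * ww i := fun i => by
      by_cases hi : i ∈ I
      · obtain ⟨-, b, hb', hbA⟩ := hI.mp hi
        exact ⟨_, hbA, fun _ => ⟨b, hb', rfl⟩⟩
      · exact ⟨1, one_mem A, fun h => absurd h hi⟩
    choose r hrA hr using hrep
    have hnf : ∀ a : A, ∃ p : F × ms E, (a : pres.Grp) = vv p.1 * r p.2 := by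
      rintro ⟨a, haA⟩
      obtain ⟨m, hm, i, hi, rfl⟩ := mem_sylT.mp (hA haA)
      have hiI : i ∈ I := hI.mpr ⟨hi, m, hm, haA⟩
      obtain ⟨b, hb', hbe⟩ := hr i hiI
      have e : vv m * ww i = vv (m ^^^ b) * r i := by
        rw [hbe, ← vv_mul, mul_assoc, ← mul_assoc (vv b), vv_sq, one_mul]
      have hmemA : vv (m ^^^ b) ∈ A := by
        have := mul_mem haA (inv_mem (hrA i))
        rwa [e, mul_inv_cancel_right] at this
      exact ⟨(⟨_, hF _ (xor_lt hm hb') hmemA⟩, ⟨i, hIE hiI⟩), e⟩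
    choose f hf using hnf
    have hfi : Function.Injective f := fun a b e => Subtype.ext (by rw [hf a, hf b, e])
    refine (Nat.card_le_card_of_injective f hfi).trans ?_
    have hF1 : F.card = ((List.range 2048).filter (bitOf (commonFix E))).length :=
      card_filter_range 2048 (bitOf (commonFix E))
    rw [Nat.card_prod, Nat.card_eq_finsetCard, Nat.card_eq_finsetCard, mul_comm]
    refine le_trans (le_of_eq ?_) (Nat.le_of_ble_eq_true hb)
    show _ = (memI E).length * _
    rw [← hF1]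
    exact congrArg (fun k => k * F.card) (card_filter_range 128 (bitOf E))

theorem sylow_unique (T : Sylow 2 pres.Grp) :
    (∀ A : Subgroup pres.Grp, A ≤ T → (A.subgroupOf T).Normal → Cfsg.IsElementaryAbelian 2 A →
        Nat.card A ≤ 2 ^ 11) ∧
    ∃! A : Subgroup pres.Grp, A ≤ T ∧ (A.subgroupOf T).Normal ∧ Cfsg.IsElementaryAbelian 2 A ∧
        Nat.card A = 2 ^ 11 := by
  haveI := order.1
  haveI : Fact (Nat.Prime 2) := ⟨Nat.prime_two⟩
  have hfac : (Nat.card pres.Grp).factorization 2 = 18 := by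
    rw [order.2.1, show (4089470473293004800 : ℕ) = 2 ^ 18 * 15600091832325 from by norm_num,
      Nat.factorization_mul (by norm_num) (by norm_num), Nat.Prime.factorization_pow Nat.prime_two]
    simp [Nat.factorization_eq_zero_of_not_dvd (show ¬ 2 ∣ 15600091832325 by norm_num)]
  let T0 : Sylow 2 pres.Grp := Sylow.ofCard sylT (by rw [card_sylT, hfac])
  obtain ⟨g, hg⟩ := MulAction.exists_smul_eq pres.Grp T0 T
  have hT : (T : Subgroup pres.Grp) = sylT.map (MulAut.conj g).toMonoidHom := by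
    rw [← hg, Sylow.coe_subgroup_smul]; rfl
  have hinj : Function.Injective (MulAut.conj g).toMonoidHom := (MulAut.conj g).injective
  have pull : ∀ A : Subgroup pres.Grp, A ≤ T → Cfsg.IsElementaryAbelian 2 A →
      A ≤ baseV.map (MulAut.conj g).toMonoidHom ∨ Nat.card A ≤ 2 ^ 10 := by
    intro A hA hel
    let B := A.comap (MulAut.conj g).toMonoidHom
    have hmap : B.map (MulAut.conj g).toMonoidHom = A :=
      Subgroup.map_comap_eq_self_of_surjective (MulAut.conj g).surjective A
    have hB : B ≤ sylT := by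
      rw [← Subgroup.map_le_map_iff_of_injective hinj, hmap, ← hT]; exact hA
    have hBel : Cfsg.IsElementaryAbelian 2 B := by
      obtain ⟨⟨⟨hc⟩⟩, hs⟩ := hel
      refine ⟨⟨⟨fun a b => Subtype.ext (hinj ?_)⟩⟩, fun a ha => hinj ?_⟩
      · simp only [Subgroup.coe_mul, map_mul]
        exact congrArg Subtype.val (hc ⟨_, a.2⟩ ⟨_, b.2⟩)
      · rw [map_pow, map_one]; exact hs _ ha
    rcases elem_le hB hBel with h | h
    · exact Or.inl (hmap ▸ Subgroup.map_mono h)
    · right; rwa [← hmap, Subgroup.card_map_of_injective hinj]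
  have hcardV : Nat.card (baseV.map (MulAut.conj g).toMonoidHom) = 2 ^ 11 := by
    rw [Subgroup.card_map_of_injective hinj, card_baseV]
  refine ⟨fun A hA _ hel => ?_, baseV.map (MulAut.conj g).toMonoidHom, ⟨?_, ?_, ?_, hcardV⟩, ?_⟩
  · rcases pull A hA hel with h | h
    · exact (Subgroup.card_le_of_le h).trans hcardV.le
    · exact h.trans (by norm_num)
  · rw [hT]; exact Subgroup.map_mono baseV_le
  · have hn := (Subgroup.normal_subgroupOf_iff baseV_le).mp baseV_normal
    rw [Subgroup.normal_subgroupOf_iff (by rw [hT]; exact Subgroup.map_mono baseV_le)]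
    intro n k hn' hk
    rw [hT] at hk
    obtain ⟨n, hn0, rfl⟩ := hn'
    obtain ⟨k, hk0, rfl⟩ := hk
    exact ⟨k * n * k⁻¹, hn n k hn0 hk0, by simp only [map_mul, map_inv]⟩
  · obtain ⟨⟨⟨hc⟩⟩, hs⟩ := baseV_elem
    refine ⟨⟨⟨?_⟩⟩, ?_⟩
    · rintro ⟨_, a, ha, rfl⟩ ⟨_, b, hb, rfl⟩
      apply Subtype.ext
      simp only [Subgroup.coe_mul, ← map_mul]
      exact congrArg (MulAut.conj g).toMonoidHom (congrArg Subtype.val (hc ⟨a, ha⟩ ⟨b, hb⟩))
    · rintro _ ⟨a, ha, rfl⟩
      rw [← map_pow, hs a ha, map_one]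
  · rintro A ⟨hA, -, hel, hcard⟩
    rcases pull A hA hel with h | h
    · exact Subgroup.eq_of_le_of_card_ge h (by rw [hcardV, hcard])
    · rw [hcard] at h; norm_num at h

end Cfsg.Agent.Spor.Fi23Cert.SylTwo
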