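import Cfsg.Agent.Lib.Spor.ThreeElementary

/-!
Involutions fixing a unique coset.
-/

set_option autoImplicit false

namespace Cfsg.Agent.Spor

variable {G : Type*} [Group G]

theorem smul_coset_iff (x g : G) (H : Subgroup G) :
    x • (g : G ⧸ H) = (g : G ⧸ H) ↔ g⁻¹ * x * g ∈ H := by
  rw [MulAction.Quotient.smul_coe, smul_eq_mul, eq_comm, QuotientGroup.eq, mul_assoc]

theorem mem_map_conj_iff (x g : G) (H : Subgroup G) :
    x ∈ H.map (MulAut.conj g).toMonoidHom ↔ g⁻¹ * x * g ∈ H := by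
  constructor
  · rintro ⟨y, hy, rfl⟩
    simpa [mul_assoc] using hy
  · intro h
    exact ⟨_, h, by simp [mul_assoc]⟩

theorem strong_class_equiv (I : Set G) (hIc : ∀ g : G, ∀ x ∈ I, g * x * g⁻¹ ∈ I)
    (H : Subgroup G) :
    ((∀ x ∈ I, x ∈ H → (∀ g : G, g * x * g⁻¹ ∈ H → ∃ h ∈ H, h * x * h⁻¹ = g * x * g⁻¹) ∧
        Subgroup.centralizer ({x} : Set G) ≤ H) ↔
      (∀ g : G, g ∉ H → ∀ x ∈ I, ¬ (x ∈ H ∧ x ∈ (H : Subgroup G).map (MulAut.conj g).toMonoidHom))) ∧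
    ((∀ g : G, g ∉ H → ∀ x ∈ I, ¬ (x ∈ H ∧ x ∈ (H : Subgroup G).map (MulAut.conj g).toMonoidHom)) ↔
      ∀ x ∈ I, x ∈ H → ∃! c : G ⧸ H, x • c = c) := by
  refine ⟨⟨fun h g hg x hx hxx => hg ?_, fun h x hx hxH => ?_⟩, ⟨fun h x hx hxH => ?_, ?_⟩⟩
  · obtain ⟨hxH, hxg⟩ := hxx
    rw [mem_map_conj_iff] at hxg
    obtain ⟨h', hh', he⟩ := (h x hx hxH).1 g⁻¹ (by rwa [inv_inv])
    rw [inv_inv] at he
    have hc : g * h' ∈ Subgroup.centralizer ({x} : Set G) := by
      rw [Subgroup.mem_centralizer_singleton_iff]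
      calc g * h' * x = g * (h' * x * h'⁻¹) * h' := by group
        _ = g * (g⁻¹ * x * g) * h' := by rw [he]
        _ = x * (g * h') := by group
    have := mul_mem ((h x hx hxH).2 hc) (inv_mem hh')
    rwa [mul_inv_cancel_right] at this
  · refine ⟨fun g hg => ⟨g, ?_, rfl⟩, fun c hc => ?_⟩
    · by_contra hgH
      exact h g⁻¹ (fun h' => hgH (by simpa using inv_mem h')) x hx
        ⟨hxH, (mem_map_conj_iff _ _ _).2 (by rwa [inv_inv])⟩
    · by_contra hcH
      refine h c hcH x hx ⟨hxH, (mem_map_conj_iff _ _ _).2 ?_⟩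
      rw [Subgroup.mem_centralizer_singleton_iff] at hc
      rw [mul_assoc, ← hc, inv_mul_cancel_left]; exact hxH
  · refine ⟨(1 : G), (smul_coset_iff _ _ _).2 (by simpa using hxH), fun c hc => ?_⟩
    induction c using QuotientGroup.induction_on with
    | H g =>
      rw [QuotientGroup.eq, mul_one]
      refine inv_mem ?_
      by_contra hg
      exact h g hg x hx ⟨hxH, (mem_map_conj_iff _ _ _).2 ((smul_coset_iff _ _ _).1 hc)⟩
  · intro h g hg x hx ⟨hxH, hxg⟩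
    obtain ⟨c, -, hc⟩ := h x hx hxH
    have h1 := hc (g : G ⧸ H) ((smul_coset_iff _ _ _).2 ((mem_map_conj_iff _ _ _).1 hxg))
    have h2 := hc ((1 : G) : G ⧸ H) ((smul_coset_iff _ _ _).2 (by simpa using hxH))
    have h3 := QuotientGroup.eq.1 (h1.trans h2.symm)
    rw [mul_one] at h3
    exact hg (by simpa using inv_mem h3)

theorem two_central_fusion [Finite G] (z : G) (hz : Cfsg.IsTwoCentralInvolution z)
    (H : Subgroup G) (hzH : z ∈ H) (hfix : ∀ g : G, g⁻¹ * z * g ∈ H → g ∈ H) :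
    Odd H.index ∧ ∀ x ∈ H, (∃ k : ℕ, orderOf x = 2 ^ k) →
      ∀ g : G, g * x * g⁻¹ ∈ H → ∃ h ∈ H, h * x * h⁻¹ = g * x * g⁻¹ := by
  haveI : Fact (Nat.Prime 2) := ⟨Nat.prime_two⟩
  obtain ⟨hz2, P, hzP, hPz⟩ := hz
  have hPH : (P : Subgroup G) ≤ H := fun y hy => hfix y (by
    rw [mul_assoc, ← hPz y hy, inv_mul_cancel_left]; exact hzH)
  have hzH' : ∀ g : G, g * z * g⁻¹ ∈ H → g ∈ H := fun g hg => by
    have := hfix g⁻¹ (by rwa [inv_inv])
    simpa using inv_mem this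
  refine ⟨Nat.not_even_iff_odd.1 fun h =>
    P.not_dvd_index ((even_iff_two_dvd.1 h).trans (Subgroup.index_dvd_of_le hPH)), ?_⟩
  have near : ∀ y ∈ H, (∃ k : ℕ, orderOf y = 2 ^ k) →
      ∃ h ∈ H, Commute y (h * z * h⁻¹) := by
    intro y hy ⟨k, hk⟩
    have hy2 : IsPGroup 2 (Subgroup.zpowers (⟨y, hy⟩ : H)) := IsPGroup.of_card (n := k) (by
      rw [Nat.card_zpowers, ← Subgroup.orderOf_coe, hk])
    obtain ⟨R, hR⟩ := hy2.exists_le_sylow
    obtain ⟨h, hh⟩ := MulAction.exists_smul_eq H (P.subtype hPH) R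
    refine ⟨h, h.2, ?_⟩
    have hyR : (⟨y, hy⟩ : H) ∈ (R : Subgroup H) := hR (Subgroup.mem_zpowers _)
    rw [← hh, Sylow.coe_subgroup_smul, Subgroup.mem_pointwise_smul_iff_inv_smul_mem] at hyR
    have hyP : (h : G)⁻¹ * y * h ∈ P := by
      rw [MulAut.smul_def, ← map_inv, MulAut.conj_apply] at hyR
      have h' : ((h⁻¹ * ⟨y, hy⟩ * h⁻¹⁻¹ : H) : G) ∈ P := hyR
      simpa using h'
    have hc := hPz _ hyP
    show y * (h * z * (h : G)⁻¹) = h * z * (h : G)⁻¹ * y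
    calc y * (h * z * (h : G)⁻¹) = h * ((h : G)⁻¹ * y * h * z) * (h : G)⁻¹ := by group
      _ = h * (z * ((h : G)⁻¹ * y * h)) * (h : G)⁻¹ := by rw [hc]
      _ = _ := by group
  intro x hx hx2 g hgx
  obtain ⟨h₁, hh₁, hc₁⟩ := near x hx hx2
  obtain ⟨h₂, hh₂, hc₂⟩ := near (g * x * g⁻¹) hgx (by
    obtain ⟨k, hk⟩ := hx2
    exact ⟨k, by rw [← MulAut.conj_apply, MulEquiv.orderOf_eq, hk]⟩)
  set y := g * x * g⁻¹ with hy
  set C := Subgroup.centralizer ({y} : Set G) with hC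
  set z₁ := (g * h₁) * z * (g * h₁)⁻¹ with hz₁
  set z₂ := h₂ * z * h₂⁻¹ with hz₂
  have hz₁C : z₁ ∈ C := by
    rw [hC, Subgroup.mem_centralizer_singleton_iff]
    calc z₁ * y = g * ((h₁ * z * h₁⁻¹) * x) * g⁻¹ := by rw [hz₁, hy]; group
      _ = g * (x * (h₁ * z * h₁⁻¹)) * g⁻¹ := by rw [hc₁.eq]
      _ = y * z₁ := by rw [hz₁, hy]; group
  have hz₂C : z₂ ∈ C := Subgroup.mem_centralizer_singleton_iff.2 hc₂.eq.symm
  have sylC : ∀ u : G, (hu : u ∈ C) → orderOf u = 2 →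
      ∃ R : Sylow 2 C, (⟨u, hu⟩ : C) ∈ (R : Subgroup C) := by
    intro u hu hu2
    have h2 : IsPGroup 2 (Subgroup.zpowers (⟨u, hu⟩ : C)) := IsPGroup.of_card (n := 1) (by
      rw [Nat.card_zpowers, ← Subgroup.orderOf_coe, hu2, pow_one])
    obtain ⟨R, hR⟩ := h2.exists_le_sylow
    exact ⟨R, hR (Subgroup.mem_zpowers _)⟩
  have hord : ∀ u : G, orderOf (u * z * u⁻¹) = 2 := fun u => by
    rw [← MulAut.conj_apply, MulEquiv.orderOf_eq, hz2]
  obtain ⟨R₁, hR₁⟩ := sylC z₁ hz₁C (hord _)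
  obtain ⟨R₂, hR₂⟩ := sylC z₂ hz₂C (hord _)
  obtain ⟨S, hS⟩ := (R₂.isPGroup'.map C.subtype).exists_le_sylow
  obtain ⟨k, hk⟩ := MulAction.exists_smul_eq G P S
  have hz₂S : z₂ ∈ (S : Subgroup G) := hS ⟨⟨z₂, hz₂C⟩, hR₂, rfl⟩
  have hkP : ∀ u, u ∈ (S : Subgroup G) → k⁻¹ * u * k ∈ (P : Subgroup G) := by
    intro u hu
    rw [← hk, Sylow.coe_subgroup_smul, Subgroup.mem_pointwise_smul_iff_inv_smul_mem] at hu
    simpa [MulAut.smul_def] using hu
  have hkH : k ∈ H := by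
    have h1 := hfix (h₂⁻¹ * k) (by
      have h2 := hPH (hkP _ hz₂S)
      have e : (h₂⁻¹ * k)⁻¹ * z * (h₂⁻¹ * k) = k⁻¹ * z₂ * k := by rw [hz₂]; group
      rwa [e])
    have := mul_mem hh₂ h1
    rwa [mul_inv_cancel_left] at this
  have hSH : (S : Subgroup G) ≤ H := by
    intro u hu
    have := mul_mem (mul_mem hkH (hPH (hkP u hu))) (inv_mem hkH)
    have e : k * (k⁻¹ * u * k) * k⁻¹ = u := by group
    rwa [e] at this
  obtain ⟨c, hc⟩ := MulAction.exists_smul_eq C R₁ R₂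
  have hcz : (c : G) * z₁ * (c : G)⁻¹ ∈ H := by
    have h1 : c * ⟨z₁, hz₁C⟩ * c⁻¹ ∈ (R₂ : Subgroup C) := by
      rw [← hc, Sylow.coe_subgroup_smul]
      exact Subgroup.smul_mem_pointwise_smul _ (MulAut.conj c) _ hR₁
    exact hSH (hS ⟨_, h1, by simp⟩)
  have hcgH : (c : G) * g ∈ H := by
    have h1 := hzH' ((c : G) * g * h₁) (by
      have e : (c : G) * g * h₁ * z * ((c : G) * g * h₁)⁻¹ = (c : G) * z₁ * (c : G)⁻¹ := by
        rw [hz₁]; group
      rwa [e])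
    have := mul_mem h1 (inv_mem hh₁)
    rwa [mul_inv_cancel_right] at this
  refine ⟨(c : G) * g, hcgH, ?_⟩
  have hcy := Subgroup.mem_centralizer_singleton_iff.1 c.2
  calc (c : G) * g * x * ((c : G) * g)⁻¹ = (c : G) * y * (c : G)⁻¹ := by rw [hy]; group
    _ = y := by rw [hcy, mul_inv_cancel_right]

theorem two_classes_top [Finite G] (I J : Set G) (a₀ b₀ : G) (ha₀ : orderOf a₀ = 2)
    (hb₀ : orderOf b₀ = 2) (hI : I = {x | IsConj a₀ x}) (hJ : J = {x | IsConj b₀ x}) (hIJ : I ≠ J)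
    (H : Subgroup G) (hfix : ∀ x ∈ I ∪ J, ∃! c : G ⧸ H, x • c = c)
    (hcent : ∀ a ∈ I, a ∈ H → ∀ b ∈ I ∪ J, b ∈ H → a ≠ b → a * b = b * a →
      Subgroup.centralizer ({a * b} : Set G) ≤ H) : H = ⊤ := by
  have hIc : ∀ g : G, ∀ x ∈ I, g * x * g⁻¹ ∈ I := fun g x hx => by
    rw [hI] at hx ⊢; exact IsConj.trans hx (isConj_iff.2 ⟨g, rfl⟩)
  have hJc : ∀ g : G, ∀ x ∈ J, g * x * g⁻¹ ∈ J := fun g x hx => by
    rw [hJ] at hx ⊢; exact IsConj.trans hx (isConj_iff.2 ⟨g, rfl⟩)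
  have hIJc : ∀ g : G, ∀ x ∈ I ∪ J, g * x * g⁻¹ ∈ I ∪ J := fun g x hx =>
    hx.imp (hIc g x) (hJc g x)
  have hord : ∀ x ∈ I ∪ J, orderOf x = 2 := by
    intro x hx
    rw [hI, hJ] at hx
    rcases hx with hx | hx <;> obtain ⟨g, rfl⟩ := isConj_iff.1 hx <;>
      rw [← MulAut.conj_apply, MulEquiv.orderOf_eq] <;> assumption
  choose! F hF hFu using hfix
  -- commuting members share their fixed coset
  have comm : ∀ a ∈ I ∪ J, ∀ b ∈ I ∪ J, Commute a b → F a = F b := by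
    intro a ha b hb hab
    have h1 : b • (a • F b) = a • F b := by rw [← mul_smul, ← hab.eq, mul_smul, hF b hb]
    exact (hFu a ha (F b) (hFu b hb _ h1)).symm
  have same : ∀ a ∈ I, ∀ b ∈ J, F a = F b := by
    intro a ha b hb
    have haU : a ∈ I ∪ J := Or.inl ha
    have hbU : b ∈ I ∪ J := Or.inr hb
    have hao := hord a haU
    have hbo := hord b hbU
    have haa := mul_self_of_order_two hao
    have hbb := mul_self_of_order_two hbo
    have hai := inv_of_order_two hao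
    have hbi := inv_of_order_two hbo
    have hev : Even (orderOf (a * b)) := by
      rw [← Nat.not_odd_iff_even]
      rintro ⟨m, hm⟩
      apply hIJ
      have hc : IsConj a b := by
        refine isConj_iff.2 ⟨(a * b) ^ m, ?_⟩
        have h1 := invol_conj_pow haa hbb m
        have h2 : ((a * b) ^ m)⁻¹ = (a * b) ^ m * (a * b) :=
          inv_eq_of_mul_eq_one_right (by
            rw [← mul_assoc, ← pow_add, ← pow_succ, ← two_mul, ← hm, pow_orderOf_eq_one])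
        have h3 : a * ((a * b) ^ m)⁻¹ = (a * b) ^ m * a := by
          rw [← h1, ← mul_assoc, ← mul_assoc, haa, one_mul]
        calc (a * b) ^ m * a * ((a * b) ^ m)⁻¹ = (a * b) ^ m * (a * ((a * b) ^ m)⁻¹) := mul_assoc _ _ _
          _ = (a * b) ^ m * ((a * b) ^ m * a) := by rw [h3]
          _ = b := by
            rw [← mul_assoc, ← pow_add, ← two_mul]
            have h4 : (a * b) ^ (2 * m) = b * a := by
              have h5 : (a * b) ^ (2 * m) * (a * b) = 1 := by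
                rw [← pow_succ, ← hm, pow_orderOf_eq_one]
              rw [eq_inv_of_mul_eq_one_left h5, mul_inv_rev, hai, hbi]
            rw [h4, mul_assoc, haa, mul_one]
      subst hI hJ
      ext x
      exact ⟨fun hx => ((IsConj.trans hb hc.symm).trans (IsConj.trans (IsConj.symm ha) hx) :),
        fun hx => ((IsConj.trans ha hc).trans (IsConj.trans (IsConj.symm hb) hx) :)⟩
    obtain ⟨m, hm⟩ := hev
    have hpos := orderOf_pos (a * b)
    set u := (a * b) ^ m with hu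
    have hu1 : u ≠ 1 := pow_ne_one_of_lt_orderOf (by omega) (by omega)
    have huu : u * u = 1 := by rw [hu, ← pow_add, ← hm, pow_orderOf_eq_one]
    have hua : Commute u a := by
      have h1 : a * u * a = u := by
        rw [hu, invol_conj_pow haa hbb, ← hu]; exact inv_eq_of_mul_eq_one_right huu
      calc u * a = a * u * a * a := by rw [h1]
        _ = a * u := by rw [mul_assoc, haa, mul_one]
    have hub : Commute u b := by
      have h1 : Commute u (a * (a * b)) := hua.mul_right ((Commute.refl (a * b)).pow_left m)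
      rwa [← mul_assoc, haa, one_mul] at h1
    set a' := u * a with ha'
    have ha'U : a' ∈ I ∪ J :=
      refl_mem hIJc haU hbU hai hbi m
    have ha'a : Commute a a' := hua.symm.mul_right (Commute.refl a)
    have hFa : F a = F a' := comm a haU a' ha'U ha'a
    obtain ⟨g, hg⟩ := QuotientGroup.mk_surjective (F a)
    have hgA : g⁻¹ * a * g ∈ H := (smul_coset_iff _ _ _).1 (by rw [hg]; exact hF a haU)
    have hgA' : g⁻¹ * a' * g ∈ H := (smul_coset_iff _ _ _).1 (by rw [hg, hFa]; exact hF a' ha'U)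
    have hne : g⁻¹ * a * g ≠ g⁻¹ * a' * g := fun h => hu1 (by
      have h' : a = a' := by simpa using h
      exact (mul_eq_right.1 h'.symm))
    have hcm : (g⁻¹ * a * g) * (g⁻¹ * a' * g) = (g⁻¹ * a' * g) * (g⁻¹ * a * g) := by
      calc _ = g⁻¹ * (a * a') * g := by group
        _ = g⁻¹ * (a' * a) * g := by rw [ha'a.eq]
        _ = _ := by group
    have hle := hcent _ (by simpa using hIc g⁻¹ a ha) hgA _
      (by simpa using hIJc g⁻¹ a' ha'U) hgA' hne hcm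
    have hbmem : g⁻¹ * b * g ∈ H := by
      refine hle (Subgroup.mem_centralizer_singleton_iff.2 ?_)
      have hprod : (g⁻¹ * a * g) * (g⁻¹ * a' * g) = g⁻¹ * u * g := by
        calc _ = g⁻¹ * (a * a') * g := by group
          _ = g⁻¹ * u * g := by rw [ha'a.eq, ha', mul_assoc u, haa, mul_one]
      rw [hprod]
      calc g⁻¹ * b * g * (g⁻¹ * u * g) = g⁻¹ * (b * u) * g := by group
        _ = g⁻¹ * (u * b) * g := by rw [hub.eq]
        _ = _ := by group
    exact (hFu b hbU (g : G ⧸ H) ((smul_coset_iff _ _ _).2 hbmem) |>.trans rfl |> fun h => hg ▸ h)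
  have haI : a₀ ∈ I := hI ▸ IsConj.refl a₀
  have hbJ : b₀ ∈ J := hJ ▸ IsConj.refl b₀
  have hmove : ∀ g : G, g • F a₀ = F a₀ := by
    intro g
    have hg : g * a₀ * g⁻¹ ∈ I := hIc g a₀ haI
    have h1 : (g * a₀ * g⁻¹) • (g • F a₀) = g • F a₀ := by
      rw [← mul_smul, inv_mul_cancel_right, mul_smul, hF a₀ (Or.inl haI)]
    rw [hFu _ (Or.inl hg) _ h1, same _ hg b₀ hbJ, ← same a₀ haI b₀ hbJ]
  obtain ⟨c, hc⟩ := QuotientGroup.mk_surjective (F a₀)
  refine (Subgroup.eq_top_iff' H).2 fun g => ?_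
  have h1 := hmove (c * g * c⁻¹)
  rw [← hc, smul_coset_iff] at h1
  simpa [mul_assoc] using h1

end Cfsg.Agent.Spor
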