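/-
Commuting elements of orders two and three in `M24`, and elements of a dodecad stabiliser.
-/
import Cfsg.Agent.Lib.Spor.GolayElemCent
import Cfsg.Prelude.Def_Spor_Mathieu

set_option autoImplicit false
set_option maxRecDepth 100000

namespace Cfsg.Agent.Spor

open scoped Pointwise

theorem noCommute_ok : (fix4Packed.all fun v =>
    !(cubeTestP (nget v)) || ((List.range 24).all fun i => nget v i == i) ||
      freePacked.all fun w =>
        !((List.range 24).all fun i => nget v (nget w i) == nget w (nget v i))) = true := by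
  decide +kernel

theorem no_commute_free_six {x s : Equiv.Perm GolayPt} (hx : x ∈ M24) (h₃ : orderOf x = 3)
    (hs : s ∈ freeInvols) (hc : Commute x s) : (fixSet x).card ≠ 6 := by
  intro h6
  obtain ⟨hsM, hs2, hfree⟩ := hs
  have hsq : s * s = 1 := by rw [← pow_two, ← hs2, pow_orderOf_eq_one]
  have hss : ∀ y, s (s y) = y := fun y => by rw [← Equiv.Perm.mul_apply, hsq]; rfl
  have hFs : ∀ y ∈ fixSet x, s y ∈ fixSet x := fun y hy => by
    simp only [Finset.mem_filter, Finset.mem_univ, true_and] at hy ⊢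
    rw [← Equiv.Perm.mul_apply, hc.eq, Equiv.Perm.mul_apply, hy]
  obtain ⟨a, ha⟩ : (fixSet x).Nonempty := Finset.card_pos.1 (by omega)
  obtain ⟨b, hb, hbn⟩ : ∃ b ∈ fixSet x, b ∉ ({a, s a} : Finset GolayPt) := by
    by_contra h
    push Not at h
    have := (Finset.card_le_card h).trans Finset.card_le_two
    omega
  simp only [Finset.mem_insert, Finset.mem_singleton, not_or] at hbn
  have ha1 := hfree a
  have hb1 := hfree b
  have n1 : s b ≠ a := fun h => hbn.2 (by rw [← h, hss])
  have n2 : s b ≠ s a := fun h => hbn.1 (s.injective h)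
  have hinj : Function.Injective ![a, s a, b, s b] := by
    intro i j h
    fin_cases i <;> fin_cases j <;> first
      | rfl
      | exact absurd h ha1
      | exact absurd h.symm ha1
      | exact absurd h hb1
      | exact absurd h.symm hb1
      | exact absurd h hbn.1
      | exact absurd h.symm hbn.1
      | exact absurd h hbn.2
      | exact absurd h.symm hbn.2
      | exact absurd h n1
      | exact absurd h.symm n1
      | exact absurd h n2
      | exact absurd h.symm n2
  obtain ⟨σ, hσ, hs'⟩ := normalise (k := 4) (by norm_num) _ hinj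
  have h0 := hs' 0; have h1 := hs' 1; have h2 := hs' 2; have h3 := hs' 3
  simp at h0 h1 h2 h3
  have hsf : σ * s * σ⁻¹ ∈ freeInvols := freeInvols_conj hσ ⟨hsM, hs2, hfree⟩
  have hxf : ∀ y, y ∈ fixSet x → x y = y := fun y hy => (Finset.mem_filter.1 hy).2
  have hx4 : σ * x * σ⁻¹ ∈ fixL M24 (chainBase.take 4) := by
    refine mem_fixL.2 ⟨mul_mem (mul_mem hσ hx) (inv_mem hσ), fun p hp => ?_⟩
    have hp4 : idx p ∈ [0, 1, 2, 3] := hp
    simp only [List.mem_cons, List.not_mem_nil, or_false] at hp4
    rw [← pt_idx p]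
    rcases hp4 with h | h | h | h <;> rw [h]
    · rw [← h0, conj_apply, hxf a ha]
    · rw [← h1, conj_apply, hxf _ (hFs a ha)]
    · rw [← h2, conj_apply, hxf b hb]
    · rw [← h3, conj_apply, hxf _ (hFs b hb)]
  obtain ⟨v, hv, hrep⟩ := fix4_small hx4
  have happ : ∀ y, (σ * s * σ⁻¹) (σ y) = σ (s y) := conj_apply σ s
  obtain ⟨m, hm, hmrep⟩ := mem_freeList hsf.1 (by rw [conj_mul, hsq, mul_one, mul_inv_cancel]) hsf.2.2
    (fun i hi => by
      rw [invol_ok.2.2.2.1 i hi]
      interval_cases i
      · rw [← h0, happ, h1]; rfl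
      · rw [← h1, happ, hss, h0]; rfl
      · rw [← h2, happ, h3]; rfl
      · rw [← h3, happ, hss, h2]; rfl)
  have hno := List.all_eq_true.1 noCommute_ok v hv
  have hcube : cubeTestP (nget v) = true := by
    refine cubeTestP_of hrep ?_
    have hcu : x * x * x = 1 := by
      have h : x ^ 3 = 1 := by rw [← h₃, pow_orderOf_eq_one]
      rw [← h, pow_three, mul_assoc]
    rw [conj_mul, conj_mul, hcu, mul_one, mul_inv_cancel]
  rw [hcube, Bool.not_true, Bool.false_or, Bool.or_eq_true] at hno
  rcases hno with hid | hno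
  · have : σ * x * σ⁻¹ = 1 := Equiv.ext fun p => idx_injective (by
      have := List.all_eq_true.1 hid (idx p) (List.mem_range.2 (idx_lt p))
      rw [beq_iff_eq, hrep p] at this
      rw [this]; rfl)
    rw [← orderOf_conj σ x, this, orderOf_one] at h₃
    norm_num at h₃
  obtain ⟨-, -, hall, hpk⟩ := freeList_facts
  have hok := List.all_eq_true.1 hall m hm
  simp only [Bool.and_eq_true] at hok
  have hw := List.all_eq_true.1 hno (packList m) (hpk ▸ List.mem_map.2 ⟨m, hm, rfl⟩)
  have hm' := hmrep.repP (lok_lt (m24ok_lok hok.1.1))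
  rw [Bool.not_eq_true', ← Bool.not_eq_true, List.all_eq_true] at hw
  refine hw fun i hi => beq_iff_eq.2 ?_
  rw [← idx_pt i (List.mem_range.1 hi), hm', hrep, hrep, hm', ← Equiv.Perm.mul_apply,
    ← Equiv.Perm.mul_apply, conj_mul, conj_mul, hc.eq]

theorem threeFixed_dodecads : ∀ m ∈ dodMasks, pm threeFixed m 0 = m →
    ¬ (m &&& fixMask threeFixed = fixMask threeFixed) := by decide +kernel

theorem six_not_subset {x : Equiv.Perm GolayPt} (hx : x ∈ M24) (h₃ : orderOf x = 3)
    (h6 : (fixSet x).card = 6) {d : Finset GolayPt} (hd : d ∈ dodecads) (hxd : x • d = d) :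
    ¬ fixSet x ⊆ d := by
  intro hsub
  rcases three_by_fix hx h₃ with ⟨h, -⟩ | ⟨-, k, hk, e⟩
  · omega
  have hl : lok threeFixed = true := invol_free_ok.2.2.2
  refine threeFixed_dodecads _ (mem_dodecads.1 (smul_dodecad hk hd)) ?_ ?_
  · rw [← mask_smul_lperm hl, ← e, ← mul_smul, inv_mul_cancel_right, mul_smul, hxd]
  · have hs : fixSet (lperm threeFixed) ⊆ k • d := by
      rw [← e, fixSet_conj]; exact Finset.smul_finset_subset_smul_finset hsub
    have e2 := congrArg mask (Finset.inter_eq_right.2 hs)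
    rwa [mask_inter, fixSet_lperm hl, mask_ofMask fix_facts.2.2.2.2.2] at e2

end Cfsg.Agent.Spor
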