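/-
Certificates for the structure of the stabilisers of a sextet and of a trio.
-/
import Cfsg.Agent.Lib.Spor.GolayConfs

set_option autoImplicit false

namespace Cfsg.Agent.Spor

/-- an element exchanging two tetrads of the base sextet, for each pair -/
def sxSwaps : List (List ℕ) :=
  [[4, 7, 10, 12, 0, 5, 6, 1, 8, 22, 2, 11, 3, 13, 17, 15, 19, 14, 18, 16, 21, 20, 9, 23],
   [8, 15, 19, 16, 4, 5, 9, 7, 0, 6, 12, 11, 10, 13, 17, 1, 3, 14, 21, 2, 20, 18, 22, 23],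
   [13, 18, 21, 20, 4, 5, 6, 7, 8, 22, 12, 11, 10, 0, 14, 19, 16, 23, 1, 15, 3, 2, 9, 17],
   [6, 9, 22, 11, 4, 5, 1, 10, 16, 0, 7, 2, 12, 21, 14, 19, 15, 23, 13, 8, 18, 20, 3, 17],
   [5, 14, 17, 23, 4, 0, 9, 10, 8, 6, 7, 11, 12, 13, 1, 19, 16, 2, 18, 15, 21, 20, 22, 3],
   [0, 1, 3, 2, 8, 5, 22, 15, 4, 9, 16, 11, 19, 13, 17, 7, 10, 14, 20, 12, 18, 21, 6, 23],
   [0, 1, 3, 2, 13, 5, 6, 18, 8, 22, 20, 11, 21, 4, 23, 16, 15, 17, 7, 19, 10, 12, 9, 14],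
   [0, 1, 3, 2, 6, 5, 12, 11, 19, 4, 22, 10, 9, 20, 14, 8, 15, 23, 21, 16, 18, 13, 7, 17],
   [0, 1, 3, 2, 5, 4, 9, 23, 8, 6, 17, 11, 14, 13, 12, 15, 19, 10, 21, 16, 20, 18, 22, 7],
   [0, 1, 3, 2, 4, 5, 9, 10, 13, 6, 7, 11, 12, 8, 14, 20, 18, 23, 16, 21, 15, 19, 22, 17],
   [0, 1, 3, 2, 4, 5, 19, 12, 11, 16, 10, 8, 7, 13, 23, 22, 9, 17, 21, 6, 20, 18, 15, 14],
   [0, 1, 3, 2, 4, 8, 6, 7, 5, 22, 12, 11, 10, 13, 16, 23, 14, 19, 18, 17, 21, 20, 9, 15],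
   [0, 1, 3, 2, 4, 5, 18, 7, 8, 21, 12, 13, 10, 11, 17, 15, 19, 14, 6, 16, 22, 9, 20, 23],
   [0, 1, 3, 2, 4, 13, 22, 12, 8, 9, 10, 11, 7, 5, 18, 19, 16, 20, 14, 15, 17, 23, 6, 21],
   [0, 1, 3, 2, 4, 6, 14, 10, 15, 5, 7, 23, 12, 18, 9, 19, 8, 11, 21, 16, 13, 20, 17, 22]]

/-- generators of the elementary abelian normal subgroup of the sextet stabiliser -/
def sxNGens : List (List ℕ) :=
  [[0, 1, 2, 3, 4, 14, 9, 7, 19, 6, 10, 22, 12, 21, 5, 16, 15, 23, 20, 8, 18, 13, 11, 17],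
   [0, 1, 2, 3, 4, 17, 22, 7, 16, 11, 10, 9, 12, 20, 23, 19, 8, 5, 21, 15, 13, 18, 6, 14],
   [0, 1, 2, 3, 7, 5, 22, 4, 15, 11, 12, 9, 10, 21, 14, 8, 19, 17, 20, 16, 18, 13, 6, 23],
   [0, 1, 2, 3, 10, 5, 11, 12, 19, 22, 4, 6, 7, 20, 14, 16, 15, 17, 21, 8, 13, 18, 9, 23],
   [1, 0, 3, 2, 4, 5, 9, 7, 15, 6, 10, 22, 12, 20, 14, 8, 19, 17, 21, 16, 13, 18, 11, 23],
   [2, 3, 0, 1, 4, 5, 11, 7, 16, 22, 10, 6, 12, 21, 14, 19, 8, 17, 20, 15, 18, 13, 9, 23]]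

/-- an element of order three fixing every tetrad -/
def sxThree : List ℕ :=
  [0, 2, 3, 1, 4, 5, 9, 12, 8, 22, 7, 11, 10, 13, 23, 16, 19, 14, 20, 15, 21, 18, 6, 17]

/-- the sextets refining the base trio, indexed by the non-zero vectors of a three-space -/
def trSxList : List (List ℕ) :=
  [[],
   [29, 5250, 346112, 663616, 5275680, 10486528],
   [142, 5137, 90176, 919552, 2130464, 13631744],
   [147, 5132, 272448, 737280, 7340544, 8421664],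
   [1031, 4248, 458816, 550912, 6291744, 9470464],
   [1050, 4229, 149568, 860160, 3178752, 12583456],
   [1161, 4118, 417792, 591936, 4227840, 11534368],
   [1172, 4107, 206848, 802880, 1049376, 14712832]]

/-- elements inducing the elementary transvections -/
def trTransList : List (List ℕ) :=
  [[0, 1, 2, 3, 4, 5, 6, 7, 8, 9, 10, 11, 12, 13, 14, 15, 16, 17, 18, 19, 20, 21, 22, 23],
   [0, 10, 2, 3, 4, 5, 19, 12, 21, 23, 1, 18, 7, 17, 16, 15, 14, 13, 11, 6, 20, 8, 22, 9],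
   [0, 7, 2, 3, 4, 5, 17, 1, 23, 21, 12, 16, 10, 19, 18, 15, 11, 6, 14, 13, 20, 9, 22, 8],
   [0, 2, 1, 7, 4, 5, 13, 3, 22, 9, 10, 17, 12, 6, 16, 15, 14, 11, 19, 18, 23, 21, 8, 20],
   [0, 1, 2, 3, 4, 5, 6, 7, 8, 9, 10, 11, 12, 13, 14, 15, 16, 17, 18, 19, 20, 21, 22, 23],
   [0, 7, 3, 2, 4, 5, 14, 1, 23, 9, 10, 19, 12, 16, 6, 15, 13, 18, 17, 11, 22, 21, 20, 8],
   [0, 1, 2, 7, 12, 5, 18, 3, 8, 15, 10, 14, 4, 19, 11, 9, 17, 16, 6, 13, 23, 21, 22, 20],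
   [0, 1, 2, 4, 3, 5, 16, 12, 8, 23, 10, 13, 7, 11, 19, 20, 6, 18, 17, 14, 15, 21, 22, 9],
   [0, 1, 2, 3, 4, 5, 6, 7, 8, 9, 10, 11, 12, 13, 14, 15, 16, 17, 18, 19, 20, 21, 22, 23]]

/-- elements exchanging two octads of the base trio -/
def trSwapList : List (List ℕ) :=
  [[0, 1, 2, 3, 4, 5, 6, 7, 8, 9, 10, 11, 12, 13, 14, 15, 16, 17, 18, 19, 20, 21, 22, 23],
   [6, 18, 17, 19, 13, 5, 0, 11, 8, 9, 16, 7, 14, 4, 12, 15, 10, 2, 1, 3, 20, 21, 22, 23],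
   [5, 8, 22, 20, 15, 0, 6, 23, 1, 12, 21, 11, 9, 13, 14, 4, 16, 17, 18, 19, 3, 10, 2, 7],
   [6, 18, 17, 19, 13, 5, 0, 11, 8, 9, 16, 7, 14, 4, 12, 15, 10, 2, 1, 3, 20, 21, 22, 23],
   [0, 1, 2, 3, 4, 5, 6, 7, 8, 9, 10, 11, 12, 13, 14, 15, 16, 17, 18, 19, 20, 21, 22, 23],
   [0, 1, 2, 3, 4, 6, 5, 7, 18, 14, 10, 23, 12, 15, 9, 13, 21, 22, 8, 20, 19, 16, 17, 11],
   [5, 8, 22, 20, 15, 0, 6, 23, 1, 12, 21, 11, 9, 13, 14, 4, 16, 17, 18, 19, 3, 10, 2, 7],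
   [0, 1, 2, 3, 4, 6, 5, 7, 18, 14, 10, 23, 12, 15, 9, 13, 21, 22, 8, 20, 19, 16, 17, 11],
   [0, 1, 2, 3, 4, 5, 6, 7, 8, 9, 10, 11, 12, 13, 14, 15, 16, 17, 18, 19, 20, 21, 22, 23]]

/-- generators of the elementary abelian normal subgroup of the trio stabiliser -/
def trNGens : List (List ℕ) :=
  [[0, 1, 2, 3, 4, 8, 18, 7, 5, 20, 10, 13, 12, 11, 19, 23, 17, 16, 6, 14, 9, 22, 21, 15],
   [0, 1, 2, 3, 4, 9, 14, 7, 20, 5, 10, 17, 12, 16, 6, 21, 13, 11, 19, 18, 8, 15, 23, 22],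
   [0, 1, 2, 3, 4, 15, 13, 7, 23, 21, 10, 18, 12, 6, 16, 5, 14, 19, 11, 17, 22, 9, 20, 8],
   [1, 0, 10, 12, 7, 5, 18, 4, 8, 9, 2, 13, 3, 11, 19, 15, 17, 16, 6, 14, 20, 21, 22, 23],
   [2, 10, 0, 4, 3, 5, 17, 12, 8, 9, 1, 14, 7, 19, 11, 15, 18, 6, 16, 13, 20, 21, 22, 23],
   [3, 12, 4, 0, 2, 5, 19, 10, 8, 9, 7, 16, 1, 17, 18, 15, 11, 13, 14, 6, 20, 21, 22, 23]]

end Cfsg.Agent.Spor
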