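/-
Orbits of the stabiliser of a tuple of sets on a family of sets.
-/
import Cfsg.Agent.Lib.Spor.GolayDomains

set_option autoImplicit false
set_option maxRecDepth 100000

namespace Cfsg.Agent.Spor

open scoped Pointwise

/-- the elements of `M24` fixing each of the sets with the given masks -/
def tupStab (A : List ℕ) : Subgroup M24 :=
  fixingSubgroup M24 {s : Finset GolayPt | ∃ m ∈ A, ofMask m = s}

theorem mem_tupStab {A : List ℕ} {k : M24} : k ∈ tupStab A ↔ ∀ m ∈ A, k • ofMask m = ofMask m := by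
  rw [tupStab, mem_fixingSubgroup_iff]
  exact ⟨fun h m hm => h _ ⟨m, hm, rfl⟩, fun h s ⟨m, hm, e⟩ => e ▸ h m hm⟩

/-- the certificate for a tuple: fixing generators, representatives, and a tagged cover -/
noncomputable def tupCert (A : List ℕ) (gs R : List (List ℕ)) (ts : List (ℕ × ℕ)) (ws : List ℕ) : Bool :=
  !gs.isEmpty && gs.all (fun g => m24ok g && A.all fun m => decide (m < 2 ^ 24) && (pm g m 0 == m)) &&
    R.all (fun r => decide (r.getD 0 0 < 2 ^ 24)) && cover (keyTest 1 R) gs ts ws

/-- intersection sizes with the listed sets -/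
def tupInv (A : List (Finset GolayPt)) (s : Finset GolayPt) : List ℕ := A.map fun a => (a ∩ s).card

theorem tupInv_stab {A : List ℕ} {k : M24} (hk : k ∈ tupStab A) (s : Finset GolayPt) :
    tupInv (A.map ofMask) (k • s) = tupInv (A.map ofMask) s := by
  simp only [tupInv, List.map_map]
  refine List.map_congr_left fun m hm => ?_
  show (ofMask m ∩ k • s).card = (ofMask m ∩ s).card
  conv_lhs => rw [← mem_tupStab.1 hk m hm]
  rw [← Finset.smul_finset_inter, Finset.card_smul_finset]

/-- two targets with the same invariant are conjugate under the stabiliser of the tuple -/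
theorem tuple_classes {A : List ℕ} {gs R : List (List ℕ)} {keys tags ws : List ℕ}
    {S : Set (Finset GolayPt)} (h : tupCert A gs R (keys.zip tags) ws = true)
    (hkeys : ∀ s, s ∈ S ↔ mask s ∈ keys) (hnd : keys.Nodup)
    (hinvS : ∀ σ ∈ M24, ∀ s ∈ S, σ • s ∈ S) (hlen : keys.length = tags.length)
    (htags : tags.all (fun c => decide (c < R.length)) = true)
    (hRS : R.all (fun r => keys.elem (r.getD 0 0)) = true)
    {β : Type*} (inv : Finset GolayPt → β) (hinv : ∀ k ∈ tupStab A, ∀ s, inv (k • s) = inv s)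
    (hsep : ∀ c ∈ List.range R.length, ∀ c' ∈ List.range R.length,
      inv (ofMask ((R.getD c []).getD 0 0)) = inv (ofMask ((R.getD c' []).getD 0 0)) → c = c') :
    ∀ s ∈ S, ∀ s' ∈ S, inv s = inv s' →
      ∃ g ∈ M24, (∀ m ∈ A, g • ofMask m = ofMask m) ∧ g • s = s' := by
  simp only [tupCert, Bool.and_eq_true, Bool.not_eq_true', List.isEmpty_eq_false_iff, List.all_eq_true,
    decide_eq_true_eq, beq_iff_eq] at h
  obtain ⟨⟨⟨hne, hg⟩, hR⟩, hc⟩ := h
  simp only [List.all_eq_true, List.elem_iff] at hRS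
  have hgs : GensIn (tupStab A) gs := by
    have hl : ∀ g ∈ gs, lok g = true := fun g hgm => by
      have := (hg g hgm).1; simp only [m24ok, Bool.and_eq_true] at this; exact this.1
    refine ⟨hne, List.all_eq_true.2 hl, fun g hgm => ⟨⟨lperm g, lperm_mem (hg g hgm).1⟩, ?_, rfl⟩⟩
    refine mem_tupStab.2 fun m hm => ?_
    exact ofMask_eq_smul (hl g hgm) ((hg g hgm).2 m hm).1 ((hg g hgm).2 m hm).2
  have hfst : (keys.zip tags).map Prod.fst = keys := List.map_fst_zip (by omega)
  obtain ⟨-, -, h3⟩ := orbit_classes (K := tupStab A) (S := S) (fun k s hs => hinvS _ (k : M24).2 s hs)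
    (code := mask) mask_injective.injOn (L := keys.zip tags) (hfst.symm ▸ hnd)
    (fun s hs => hfst.symm ▸ (hkeys s).1 hs) (cs := List.range R.length)
    (fun p hp => List.mem_range.2 (of_decide_eq_true (List.all_eq_true.1 htags _ (List.of_mem_zip hp).2)))
    (r := fun c => ofMask ((R.getD c []).getD 0 0))
    (fun c hc => by
      have hm := getD_mem_all (d := ([] : List ℕ)) (List.mem_range.1 hc)
      rw [hkeys, mask_ofMask (hR _ hm)]; exact hRS _ hm)
    (fun p hp => by
      obtain ⟨k, f, hf, ht⟩ := coverK_sound hgs hc hp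
      refine ⟨k, ?_⟩
      rw [keyTest, beq_iff_eq, Nat.mod_one, Nat.div_one] at ht
      have hm := getD_mem_all (d := ([] : List ℕ))
        (of_decide_eq_true (List.all_eq_true.1 htags _ (List.of_mem_zip hp).2) : p.2 < R.length)
      exact (hf _).trans (by rw [mask_ofMask (hR _ hm), ht]))
    inv (fun k s => hinv k k.2 s) hsep
  intro s hs s' hs' he
  obtain ⟨k, hk⟩ := h3 s hs s' hs' he
  exact ⟨_, (k : M24).2, mem_tupStab.1 k.2, hk⟩

/-- moving a tuple criterion -/
theorem tuple_transfer {A : List ℕ} {S : Set (Finset GolayPt)} (hinvS : ∀ σ ∈ M24, ∀ s ∈ S, σ • s ∈ S)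
    {β : Type*} {inv inv' : Finset GolayPt → β} {σ : Equiv.Perm GolayPt} (hσ : σ ∈ M24)
    (hinv : ∀ s, inv' (σ • s) = inv s)
    (h : ∀ s ∈ S, ∀ s' ∈ S, inv s = inv s' → ∃ g ∈ M24, (∀ m ∈ A, g • ofMask m = ofMask m) ∧ g • s = s') :
    ∀ s ∈ S, ∀ s' ∈ S, inv' s = inv' s' →
      ∃ g ∈ M24, (∀ m ∈ A, g • σ • ofMask m = σ • ofMask m) ∧ g • s = s' := by
  intro s hs s' hs' he
  have e : ∀ z, inv' z = inv (σ⁻¹ • z) := fun z => by rw [← hinv, smul_inv_smul]
  rw [e, e] at he
  obtain ⟨g, hg, hfix, hgs⟩ := h _ (hinvS _ (inv_mem hσ) s hs) _ (hinvS _ (inv_mem hσ) s' hs') he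
  refine ⟨σ * g * σ⁻¹, mul_mem (mul_mem hσ hg) (inv_mem hσ), fun m hm => ?_, ?_⟩
  · rw [mul_smul, mul_smul, inv_smul_smul, hfix m hm]
  · rw [mul_smul, mul_smul, hgs, smul_inv_smul]

theorem tupInv_smul (σ : Equiv.Perm GolayPt) (A : List (Finset GolayPt)) (s : Finset GolayPt) :
    tupInv (A.map (σ • ·)) (σ • s) = tupInv A s := by
  simp only [tupInv, List.map_map]
  refine List.map_congr_left fun a _ => ?_
  show (σ • a ∩ σ • s).card = _
  rw [← Finset.smul_finset_inter, Finset.card_smul_finset]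

/-- `g` fixes the point when it fixes its singleton -/
theorem fix_of_singleton {g : Equiv.Perm GolayPt} {p : GolayPt}
    (h : g • ({p} : Finset GolayPt) = {p}) : g p = p := by
  rw [Finset.smul_finset_singleton] at h
  exact Finset.singleton_injective h

theorem card_singleton_inter (p : GolayPt) (s : Finset GolayPt) :
    (({p} : Finset GolayPt) ∩ s).card = if p ∈ s then 1 else 0 := by
  split <;> simp_all

end Cfsg.Agent.Spor
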