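/-
Small word certificates: trios through an octad, the triple stabiliser in a dodecad.
-/
import Cfsg.Agent.Lib.Spor.GolayTuples

set_option autoImplicit false
set_option maxRecDepth 100000

namespace Cfsg.Agent.Spor

/-- generators fixing the base trio and the base octad -/
def trioOctGens : List (List ℕ) :=
  [[0, 12, 3, 4, 2, 13, 20, 7, 16, 14, 1, 21, 10, 15, 23, 19, 9, 5, 8, 22, 6, 11, 17, 18],
  [2, 4, 12, 10, 3, 6, 8, 0, 19, 14, 1, 21, 7, 23, 20, 13, 22, 15, 9, 5, 18, 16, 11, 17],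
  [12, 1, 7, 3, 4, 6, 22, 2, 19, 14, 10, 9, 0, 8, 23, 16, 20, 5, 15, 21, 18, 13, 17, 11],
  [4, 12, 10, 2, 7, 21, 17, 3, 5, 20, 0, 6, 1, 16, 14, 22, 19, 11, 18, 13, 23, 9, 15, 8]]

/-- the other trios through the base octad -/
def trioOctOthers : List (List ℕ) :=
  [[5279, 1256224, 15515712],
  [5279, 1852256, 14919680],
  [5279, 5621792, 11150144],
  [5279, 5939296, 10832640],
  [5279, 4645632, 12126304],
  [5279, 4819776, 11952160],
  [5279, 6842656, 9929280],
  [5279, 6750560, 10021376],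
  [5279, 8077824, 8694112],
  [5279, 7612992, 9158944],
  [5279, 4038912, 12733024],
  [5279, 3328320, 13443616],
  [5279, 3050016, 13721920],
  [5279, 2220640, 14551296]]

/-- words to the other trios -/
def trioOctWords : List ℕ :=
  [0, 3, 24, 81, 4, 23, 36, 6, 21, 9, 46, 34, 11, 1]

/-- a dodecad and three of its points -/
def tupDpqrA : List ℕ := [165759, 1, 2, 4]

/-- generators fixing them -/
def tupDpqrG : List (List ℕ) :=
  [[0, 1, 2, 15, 10, 5, 3, 20, 4, 8, 9, 16, 23, 14, 12, 17, 11, 6, 22, 21, 7, 18, 19, 13],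
  [0, 1, 2, 4, 15, 9, 3, 21, 8, 10, 17, 12, 11, 22, 19, 6, 14, 5, 23, 20, 16, 13, 7, 18],
  [0, 1, 2, 8, 17, 6, 5, 7, 3, 10, 9, 21, 13, 12, 14, 15, 19, 4, 18, 16, 23, 11, 22, 20],
  [0, 1, 2, 3, 9, 15, 4, 22, 5, 10, 6, 7, 11, 21, 19, 17, 14, 8, 20, 23, 18, 13, 12, 16]]

/-- the points outside -/
def tupDpqrKeys : List ℕ := [128, 2048, 4096, 8192, 16384, 65536, 262144, 524288, 1048576, 2097152, 4194304, 8388608]

/-- words to them -/
def tupDpqrW : List ℕ :=
  [0, 17, 24, 12, 61, 11, 21, 9, 1, 2, 4, 16]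

theorem tupDpqr_cover : tupCert tupDpqrA tupDpqrG [[128]] (tupDpqrKeys.zip (List.replicate 12 0)) tupDpqrW = true := by
  decide +kernel

end Cfsg.Agent.Spor
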