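/-
The fifteen trios through an octad.
-/
import Cfsg.Agent.Lib.Spor.GolayOrbitFacts
import Cfsg.Agent.Lib.Spor.GolaySmallCerts
import Cfsg.Agent.Lib.Spor.GolayStabCount

set_option autoImplicit false
set_option maxRecDepth 100000
set_option Elab.async false

namespace Cfsg.Agent.Spor

open scoped Pointwise

/-- trios through `o` -/
def triosAt (o : Finset GolayPt) : Set (Finset (Finset GolayPt)) := {T | T ∈ trios ∧ o ∈ T}

/-- the fifteen base trios -/
def trioOctAll : List (List ℕ) := confTr :: trioOctOthers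

theorem trioOct_list : trioOctAll.all (fun r => trioOk r && r.elem 5279) = true ∧
    (trioOctAll.map fun r => r.toFinset).Nodup ∧ trioOctAll.length = 15 := by decide +kernel

theorem trioOct_complete : (trioDec.filter fun t => (t.1 == 5279) || ((t.2.1 == 5279) || (t.2.2 == 5279))).all
    (fun t => trioOctAll.any fun r => r.all fun m => (m == t.1) || ((m == t.2.1) || (m == t.2.2))) = true := by
  decide +kernel

theorem confOf_image_mask {r : List ℕ} (h : ∀ m ∈ r, m < 2 ^ 24) : (confOf r).image mask = r.toFinset := by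
  ext x
  simp only [Finset.mem_image, mem_confOf, List.mem_toFinset]
  constructor
  · rintro ⟨_, ⟨m, hm, rfl⟩, rfl⟩
    rwa [mask_ofMask (h m hm)]
  · exact fun hx => ⟨_, ⟨x, hx, rfl⟩, mask_ofMask (h x hx)⟩

theorem triosAt_base {T : Finset (Finset GolayPt)} (hT : T ∈ triosAt (ofMask 5279)) :
    ∃ r ∈ trioOctAll, confOf r = T := by
  obtain ⟨t, ht, rfl⟩ := trioOf_surj hT.1
  have himg := (trioOf_mem ht).2
  have h5 : 5279 ∈ ({t.1, t.2.1, t.2.2} : Finset ℕ) := by
    rw [← himg, ← mask_ofMask (show (5279 : ℕ) < 2 ^ 24 by norm_num)]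
    exact Finset.mem_image_of_mem _ hT.2
  simp only [Finset.mem_insert, Finset.mem_singleton] at h5
  have hf : t ∈ trioDec.filter fun t => (t.1 == 5279) || ((t.2.1 == 5279) || (t.2.2 == 5279)) := by
    refine List.mem_filter.2 ⟨mem_trioDec.2 ht, ?_⟩
    rcases h5 with h | h | h <;> simp [← h]
  have hany := List.all_eq_true.1 trioOct_complete t hf
  simp only [List.any_eq_true, List.all_eq_true, Bool.or_eq_true, beq_iff_eq] at hany
  obtain ⟨r, hr, hsub⟩ := hany
  have hok := List.all_eq_true.1 trioOct_list.1 r hr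
  simp only [Bool.and_eq_true] at hok
  have hTr := trioOk_sound hok.1
  simp only [trioOk, Bool.and_eq_true, beq_iff_eq] at hok
  obtain ⟨hlt, -⟩ := confOk_sound hok.1.1.2
  refine ⟨r, hr, Finset.image_injective mask_injective ?_⟩
  refine Finset.eq_of_subset_of_card_le ?_ ?_
  · rw [confOf_image_mask hlt, himg]
    intro m hm
    rw [List.mem_toFinset] at hm
    simp only [Finset.mem_insert, Finset.mem_singleton]
    exact hsub m hm
  · rw [Finset.card_image_of_injective _ mask_injective, Finset.card_image_of_injective _ mask_injective,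
      hT.1.1, hTr.1]

theorem smul_triosAt {σ : Equiv.Perm GolayPt} (hσ : σ ∈ M24) {o : Finset GolayPt}
    {T : Finset (Finset GolayPt)} : σ • T ∈ triosAt (σ • o) ↔ T ∈ triosAt o := by
  constructor
  · rintro ⟨h1, h2⟩
    refine ⟨?_, Finset.smul_mem_smul_finset_iff _ |>.1 h2⟩
    have := smul_trio (inv_mem hσ) h1
    rwa [inv_smul_smul] at this
  · exact fun h => ⟨smul_trio hσ h.1, Finset.smul_mem_smul_finset h.2⟩

theorem ncard_triosAt {o : Finset GolayPt} (ho : o ∈ octads) : (triosAt o).ncard = 15 := by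
  obtain ⟨σ, hσ, rfl⟩ := octad_map o ho
  have e : triosAt (σ • ofMask 5279) = (fun T => σ • T) '' triosAt (ofMask 5279) := by
    ext T
    constructor
    · intro h
      refine ⟨σ⁻¹ • T, ?_, smul_inv_smul σ T⟩
      rw [← smul_triosAt hσ, smul_inv_smul]
      exact h
    · rintro ⟨U, hU, rfl⟩
      exact (smul_triosAt hσ).2 hU
  have hb : triosAt (ofMask 5279) = ((trioOctAll.map confOf).toFinset : Set (Finset (Finset GolayPt))) := by
    ext T
    rw [SetLike.mem_coe, List.mem_toFinset, List.mem_map]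
    constructor
    · exact fun h => triosAt_base h
    · rintro ⟨r, hr, rfl⟩
      have hok := List.all_eq_true.1 trioOct_list.1 r hr
      simp only [Bool.and_eq_true, List.elem_iff] at hok
      exact ⟨trioOk_sound hok.1, mem_confOf.2 ⟨_, hok.2, rfl⟩⟩
  rw [e, Set.ncard_image_of_injective _ (MulAction.injective σ), hb, Set.ncard_coe_finset,
    List.toFinset_card_of_nodup, List.length_map, trioOct_list.2.2]
  refine List.Nodup.of_map (fun T : Finset (Finset GolayPt) => T.image mask) ?_
  rw [List.map_map]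
  refine (List.map_congr_left fun r hr => ?_) ▸ trioOct_list.2.1
  have hok := List.all_eq_true.1 trioOct_list.1 r hr
  simp only [Bool.and_eq_true, trioOk] at hok
  exact (confOf_image_mask (confOk_sound hok.1.1.2).1).symm

/-- the stabiliser of the base trio and the base octad -/
def trioOctStab : Subgroup M24 :=
  MulAction.stabilizer M24 (confOf confTr) ⊓ MulAction.stabilizer M24 (ofMask 5279)

theorem trioOct_gens : GensIn trioOctStab trioOctGens :=
  GensIn.mk' (P := fun g => fixesConf confTr g && (pm g 5279 0 == 5279)) (by decide +kernel) fun g hg hP => by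
    have hl : lok g = true := by simp only [m24ok, Bool.and_eq_true] at hg; exact hg.1
    simp only [Bool.and_eq_true, beq_iff_eq] at hP
    exact ⟨fixesConf_sound hl hP.1, ofMask_eq_smul hl (by norm_num) hP.2⟩

/-- the test sending the first other trio to the target -/
def trioOctTest (f : ℕ → ℕ) (r : List ℕ) : Bool := (trioOctOthers.getD 0 []).all fun m => r.elem (f m)

theorem trioOct_cover : cover trioOctTest trioOctGens trioOctOthers trioOctWords = true := by decide +kernel

theorem trioOct_root : ∃ σ ∈ M24, σ • ofMask 5279 = ofMask 5279 ∧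
    σ • confOf confTr = confOf (trioOctOthers.getD 0 []) := by
  have hb : confOf confTr ∈ trios := trioOk_sound (by decide +kernel)
  have h1 : confOf (trioOctOthers.getD 0 []) ∈ trios := trioOk_sound (by decide +kernel)
  obtain ⟨k, hk, e⟩ := orbOcTrio_orbits.2.2 _ hb _ h1 (by decide +kernel)
  refine ⟨_, k.2, ?_, e⟩
  rw [show confOf confOc = {ofMask 5279} from rfl, stabilizer_singleton_conf] at hk
  exact hk

theorem trioOct_to_root {U : Finset (Finset GolayPt)} (hU : U ∈ triosAt (ofMask 5279))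
    (hne : U ≠ confOf confTr) : ∃ k ∈ trioOctStab, k • confOf (trioOctOthers.getD 0 []) = U := by
  obtain ⟨r, hr, rfl⟩ := triosAt_base hU
  rcases List.mem_cons.1 hr with rfl | hr
  · exact absurd rfl hne
  obtain ⟨k, f, hf, ht⟩ := coverK_sound trioOct_gens trioOct_cover hr
  simp only [trioOctTest, List.all_eq_true, List.elem_iff] at ht
  refine ⟨k, k.2, ?_⟩
  have hR : confOk (trioOctOthers.getD 0 []) = true ∧ (trioOctOthers.getD 0 []).length = 3 := by decide +kernel
  have hok := List.all_eq_true.1 trioOct_list.1 r (List.mem_cons_of_mem _ hr)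
  simp only [Bool.and_eq_true, trioOk, beq_iff_eq] at hok
  obtain ⟨hlt, hnd⟩ := confOk_sound hok.1.1.2
  exact smul_confOf_eq hf (confOk_sound hR.1).1 hlt (confOk_sound hR.1).2 hnd (hR.2.trans hok.1.1.1.symm) ht

/-- the stabiliser of `o` is doubly transitive on the trios through `o` -/
theorem trios_two_trans {o : Finset GolayPt} (ho : o ∈ octads) {T₁ T₂ : Finset (Finset GolayPt)}
    (h₁ : T₁ ∈ triosAt o) (h₂ : T₂ ∈ triosAt o) (hne : T₁ ≠ T₂) :
    ∃ σ ∈ M24, σ • ofMask 5279 = o ∧ σ • confOf confTr = T₁ ∧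
      σ • confOf (trioOctOthers.getD 0 []) = T₂ := by
  obtain ⟨σ, hσ, rfl⟩ := octad_map o ho
  have hU : σ⁻¹ • T₁ ∈ triosAt (ofMask 5279) := by
    rw [← smul_triosAt hσ, smul_inv_smul]; exact h₁
  obtain ⟨k, hk, e⟩ := orbOcTrio_orbits.2.2 (confOf confTr) (trioOk_sound (by decide +kernel)) _ hU.1 (by
    obtain ⟨r, hr, er⟩ := triosAt_base hU
    rw [← er]
    have : ∀ r ∈ trioOctAll, pinv (confOf confOc) (confOf confTr) = pinv (confOf confOc) (confOf r) := by
      decide +kernel
    exact this r hr)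
  rw [show confOf confOc = {ofMask 5279} from rfl, stabilizer_singleton_conf] at hk
  set τ := σ * (k : Equiv.Perm GolayPt) with hτ
  have hτM : τ ∈ M24 := mul_mem hσ k.2
  have hτo : τ • ofMask 5279 = σ • ofMask 5279 := by
    rw [hτ, mul_smul, show (k : Equiv.Perm GolayPt) • ofMask 5279 = ofMask 5279 from hk]
  have hτT : τ • confOf confTr = T₁ := by
    rw [hτ, mul_smul, show (k : Equiv.Perm GolayPt) • confOf confTr = σ⁻¹ • T₁ from e, smul_inv_smul]
  obtain ⟨l, hl, el⟩ := trioOct_to_root (U := τ⁻¹ • T₂) (by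
      rw [← smul_triosAt hτM, smul_inv_smul, hτo]; exact h₂)
    (fun h => hne (by rw [← hτT, ← h, smul_inv_smul]))
  obtain ⟨hl1, hl2⟩ := hl
  refine ⟨τ * (l : Equiv.Perm GolayPt), mul_mem hτM l.2, ?_, ?_, ?_⟩
  · rw [mul_smul, show (l : Equiv.Perm GolayPt) • ofMask 5279 = ofMask 5279 from hl2, hτo]
  · rw [mul_smul, show (l : Equiv.Perm GolayPt) • confOf confTr = confOf confTr from hl1, hτT]
  · rw [mul_smul, show (l : Equiv.Perm GolayPt) • confOf (trioOctOthers.getD 0 []) = τ⁻¹ • T₂ from el, smul_inv_smul]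

theorem fix_preserves_trios : ∀ l ∈ octFixElems, ∀ r ∈ trioOctAll, fixesConf r l = true := by decide +kernel

theorem fixM_fixes_trios {o : Finset GolayPt} (ho : o ∈ octads) {g : Equiv.Perm GolayPt}
    (hg : g ∈ fixM o) {T : Finset (Finset GolayPt)} (hT : T ∈ triosAt o) : g • T = T := by
  obtain ⟨σ, hσ, rfl⟩ := octad_map o ho
  obtain ⟨l, hl, e⟩ := fixSix_elem (fixSix_le ((fixM_smul hσ _).1 hg))
  obtain ⟨r, hr, er⟩ := triosAt_base (T := σ⁻¹ • T) (by rw [← smul_triosAt hσ, smul_inv_smul]; exact hT)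
  have hlok : lok l = true := by
    have := (octFix_ok l hl).1; simp only [m24ok, Bool.and_eq_true] at this; exact this.1
  have h := fixesConf_sound hlok (fix_preserves_trios l hl r hr)
  rw [← e, er, mul_smul, mul_smul, smul_inv_smul, inv_smul_eq_iff, smul_inv_smul] at h
  exact h

/-- an element of the stabiliser of `o` fixing all trios through `o` fixes `o` pointwise -/
theorem fixes_trios_fixM {o : Finset GolayPt} (ho : o ∈ octads) {g : Equiv.Perm GolayPt}
    (hg : g ∈ stabM o) (h : ∀ T ∈ triosAt o, g • T = T) : g ∈ fixM o := by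
  let N : Subgroup (stabM o) :=
    { carrier := {k | ∀ T ∈ triosAt o, (k : Equiv.Perm GolayPt) • T = T}
      one_mem' := fun T _ => one_smul _ T
      mul_mem' := fun {a b} ha hb T hT => by
        show ((a : Equiv.Perm GolayPt) * b) • T = T
        rw [mul_smul, hb T hT, ha T hT]
      inv_mem' := fun {a} ha T hT => by
        show (a : Equiv.Perm GolayPt)⁻¹ • T = T
        rw [inv_smul_eq_iff, ha T hT] }
  have hNn : N.Normal := ⟨fun n hn k T hT => by
    show ((k : Equiv.Perm GolayPt) * n * (k : Equiv.Perm GolayPt)⁻¹) • T = T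
    have hT' : (k : Equiv.Perm GolayPt)⁻¹ • T ∈ triosAt o := by
      rw [← smul_triosAt k.2.1, smul_inv_smul, show (k : Equiv.Perm GolayPt) • o = o from k.2.2]
      exact hT
    rw [mul_smul, mul_smul, hn _ hT', smul_inv_smul]⟩
  let r := octRestrict o
  have hfact : Fact (5 ≤ Nat.card o) := ⟨by rw [Nat.card_eq_fintype_card, Fintype.card_coe, ho.2]; norm_num⟩
  have hsimp : IsSimpleGroup (alternatingGroup o) := alternatingGroup.isSimpleGroup (by
    rw [Nat.card_eq_fintype_card, Fintype.card_coe, ho.2]; norm_num)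
  let r' : stabM o →* alternatingGroup o := r.codRestrict _ fun k => by
    rw [← octRestrict_range ho]; exact ⟨k, rfl⟩
  have hsurj : Function.Surjective r' := by
    rintro ⟨x, hx⟩
    rw [← octRestrict_range ho] at hx
    obtain ⟨k, rfl⟩ := hx
    exact ⟨k, rfl⟩
  rcases (hNn.map r' hsurj).eq_bot_or_eq_top with hb | ht
  · have hgN : r' ⟨g, hg⟩ ∈ N.map r' := Subgroup.mem_map_of_mem r' (show (⟨g, hg⟩ : stabM o) ∈ N from h)
    rw [hb, Subgroup.mem_bot] at hgN
    exact octRestrict_ker.1 (MonoidHom.mem_ker.2 (congrArg Subtype.val hgN) : (⟨g, hg⟩ : stabM o) ∈ _)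
  · exfalso
    obtain ⟨σ, hσ, hσo⟩ := octad_map o ho
    obtain ⟨ρ, hρ, hρo, hρT⟩ := trioOct_root
    have hT : σ • confOf confTr ∈ triosAt o := by
      rw [← hσo, smul_triosAt hσ]
      exact ⟨trioOk_sound (by decide +kernel), by decide +kernel⟩
    have hk : σ * ρ * σ⁻¹ ∈ stabM o := by
      refine Subgroup.mem_inf.2 ⟨mul_mem (mul_mem hσ hρ) (inv_mem hσ), ?_⟩
      show (σ * ρ * σ⁻¹) • o = o
      conv_lhs => rw [← hσo, mul_smul, mul_smul, inv_smul_smul, hρo, hσo]
    obtain ⟨n, hn, e⟩ := (Subgroup.mem_map.1 (ht ▸ Subgroup.mem_top (r' ⟨_, hk⟩) : r' ⟨_, hk⟩ ∈ N.map r'))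
    have he : n⁻¹ * ⟨_, hk⟩ ∈ r.ker := by
      rw [MonoidHom.mem_ker, map_mul, map_inv, show r n = r ⟨_, hk⟩ from congrArg Subtype.val e, inv_mul_cancel]
    have h1 := fixM_fixes_trios ho (octRestrict_ker.1 he) hT
    have h2 : (σ * ρ * σ⁻¹) • σ • confOf confTr = σ • confOf confTr := by
      have h3 := hn (σ • confOf confTr) hT
      have e4 : ((n⁻¹ * ⟨_, hk⟩ : stabM o) : Equiv.Perm GolayPt) = (n : Equiv.Perm GolayPt)⁻¹ * (σ * ρ * σ⁻¹) := rfl
      rw [e4, mul_smul, inv_smul_eq_iff, h3] at h1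
      exact h1
    rw [mul_smul, mul_smul, inv_smul_smul, hρT] at h2
    have h4 := MulAction.injective σ h2
    revert h4
    decide +kernel

end Cfsg.Agent.Spor
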