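/-
Certificate: orbits of the stabiliser of a tuple of sets on a family of sets (P2Pair).
-/
import Cfsg.Agent.Lib.Spor.GolayTuples

set_option autoImplicit false
set_option maxRecDepth 100000

namespace Cfsg.Agent.Spor

/-- the fixed sets -/
def tupP2PairA : List ℕ := [1, 2]

/-- generators fixing the sets -/
def tupP2PairG : List (List ℕ) :=
  [[0, 1, 19, 22, 16, 5, 9, 11, 20, 23, 21, 8, 18, 4, 13, 2, 17, 3, 10, 12, 6, 15, 14, 7],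
  [0, 1, 9, 16, 6, 7, 8, 19, 21, 10, 20, 11, 13, 17, 18, 2, 12, 3, 5, 14, 15, 22, 4, 23],
  [0, 1, 17, 9, 21, 20, 4, 19, 15, 23, 3, 12, 10, 13, 11, 5, 22, 18, 8, 16, 2, 7, 6, 14],
  [0, 1, 23, 11, 15, 19, 12, 6, 22, 18, 14, 2, 16, 5, 3, 10, 7, 20, 13, 17, 21, 9, 8, 4],
  [0, 1, 7, 18, 16, 4, 20, 23, 2, 19, 3, 8, 9, 21, 11, 22, 15, 6, 17, 14, 5, 12, 10, 13]]

/-- representatives -/
def tupP2PairR : List (List ℕ) :=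
  [[12582912],
  [8388610],
  [8388609],
  [3]]

/-- tags of the targets -/
def tupP2PairT : List ℕ :=
  [0, 0, 0, 0, 0, 0, 0, 0, 0, 0, 0, 0, 0, 0, 0, 0, 0, 0, 0, 0, 0, 0, 0, 0, 0, 0, 0, 0, 0, 0, 0, 0, 0, 0, 0, 0, 0, 0, 0, 0, 0, 0, 0, 0, 0, 0, 0, 0, 0, 0, 0, 0, 0, 0, 0, 0, 0, 0, 0, 0, 0, 0, 0, 0, 0, 0, 0, 0, 0, 0, 0, 0, 0, 0, 0, 0, 0, 0, 0, 0, 0, 0, 0, 0, 0, 0, 0, 0, 0, 0, 0, 0, 0, 0, 0, 0, 0, 0, 0, 0, 0, 0, 0, 0, 0, 0, 0, 0, 0, 0, 0, 0, 0, 0, 0, 0, 0, 0, 0, 0, 0, 0, 0, 0, 0, 0, 0, 0, 0, 0, 0, 0, 0, 0, 0, 0, 0, 0, 0, 0, 0, 0, 0, 0, 0, 0, 0, 0, 0, 0, 0, 0, 0, 0, 0, 0, 0, 0, 0, 0, 0, 0, 0, 0, 0, 0, 0, 0, 0, 0, 0, 0, 0, 0, 0, 0, 0, 0, 0, 0, 0, 0, 0, 0, 0, 0, 0, 0, 0, 0, 0, 0, 0, 0, 0, 0, 0, 0, 0, 0, 0, 0, 0, 0, 0, 0, 0, 0, 0, 0, 0, 0, 0, 0, 0, 0, 0, 0, 0, 0, 0, 0, 0, 0, 0, 0, 0, 0, 0, 0, 0, 1, 1, 1,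 1, 1, 1, 1, 1, 1, 1, 1, 1, 1, 1, 1, 1, 1, 1, 1, 1, 1, 1, 2, 2, 2, 2, 2, 2, 2, 2, 2, 2, 2, 2, 2, 2, 2, 2, 2, 2, 2, 2, 2, 2, 3]

/-- words of the targets -/
def tupP2PairW : List ℕ :=
  [0, 781, 619, 1027, 1591, 161, 1015, 116, 189, 824, 376, 92, 203, 205, 13, 549, 142, 823, 17, 70, 343, 349, 206, 1060, 10, 1213, 374, 95, 188, 28, 22, 403, 715, 997, 626, 47, 277, 621, 20, 945, 334, 999, 193, 913, 734, 117, 140, 487, 194, 1017, 805, 157, 32, 56, 512, 962, 202, 129, 196, 80, 215, 104, 127, 82, 139, 115, 31, 5479, 770, 33, 19, 841, 79, 171, 105, 91, 7, 169, 1029, 208, 806, 51, 1141, 752, 81, 728, 170, 1196, 5, 49, 787, 812, 61, 1195, 285, 314, 207, 1053, 1238, 52, 1160, 9, 160, 179, 135, 86, 88, 187, 801, 584, 15, 980, 121, 123, 199, 211, 55, 1171, 172, 1249, 178, 985, 154, 302, 608, 101, 825, 8, 214,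 1, 4375, 1257, 128, 777, 50, 67, 14, 83, 16, 1126, 1040, 914, 46, 764, 736, 3, 590, 1016, 93, 565, 607, 69, 152, 700, 1075, 134, 1021, 367, 153, 1285, 979, 190, 29, 65, 753, 167, 920, 1276, 213, 176, 136, 2, 59, 11, 427, 800, 331, 68, 3655, 26, 122, 634, 158, 21, 493, 133, 4, 124, 410, 524, 783, 1063, 35, 1057, 173, 625, 589, 1003, 89, 502, 23, 27, 511, 697, 164, 295, 6097, 25, 818, 373, 1147, 118, 177, 943, 381, 125, 163, 34, 165, 64, 1166, 141, 1279, 969, 1135, 853, 404, 98, 151, 175, 955, 0, 63, 22, 205, 13, 15, 17, 10, 28, 3, 5, 115, 7, 51, 61, 43, 1, 25, 29, 4, 27, 151, 0, 63, 22, 205, 13, 15, 17, 10, 28, 3, 5, 115, 7, 51, 61, 43, 1, 25, 29, 4, 27, 151, 0]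

theorem tupP2Pair_cover : tupCert tupP2PairA tupP2PairG tupP2PairR ((subMasks 2).zip tupP2PairT) tupP2PairW = true := by decide +kernel

end Cfsg.Agent.Spor
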