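/-
Certificate: orbits of the stabiliser of a tuple of sets on a family of sets (P2sPair).
-/
import Cfsg.Agent.Lib.Spor.GolayTuples

set_option autoImplicit false
set_option maxRecDepth 100000

namespace Cfsg.Agent.Spor

/-- the fixed sets -/
def tupP2sPairA : List ℕ := [1, 2, 12]

/-- generators fixing the sets -/
def tupP2sPairG : List (List ℕ) :=
  [[0, 1, 3, 2, 13, 23, 22, 18, 19, 6, 20, 9, 21, 12, 5, 15, 16, 14, 10, 8, 7, 4, 11, 17],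
  [0, 1, 2, 3, 23, 16, 18, 14, 11, 13, 5, 21, 17, 10, 8, 6, 9, 19, 4, 22, 12, 7, 20, 15],
  [0, 1, 2, 3, 8, 5, 20, 15, 4, 21, 19, 13, 16, 11, 14, 7, 12, 17, 22, 10, 6, 9, 18, 23],
  [0, 1, 2, 3, 5, 9, 12, 17, 15, 4, 23, 7, 14, 21, 6, 16, 8, 11, 18, 19, 13, 20, 10, 22],
  [0, 1, 3, 2, 17, 11, 15, 23, 7, 16, 14, 19, 5, 18, 6, 10, 4, 9, 13, 12, 20, 21, 8, 22]]

/-- representatives -/
def tupP2sPairR : List (List ℕ) :=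
  [[12582912],
  [3145728],
  [8388616],
  [12],
  [8388610],
  [10],
  [8388609],
  [9],
  [3]]

/-- tags of the targets -/
def tupP2sPairT : List ℕ :=
  [0, 0, 0, 0, 0, 1, 0, 0, 0, 0, 0, 0, 1, 1, 0, 1, 0, 0, 0, 0, 0, 0, 0, 0, 0, 1, 0, 0, 0, 0, 0, 0, 1, 0, 0, 1, 1, 0, 0, 0, 0, 0, 1, 0, 0, 0, 0, 1, 1, 0, 1, 0, 0, 0, 0, 0, 0, 0, 0, 0, 0, 0, 0, 0, 0, 0, 0, 1, 0, 0, 0, 0, 0, 0, 0, 0, 0, 0, 0, 0, 0, 0, 0, 0, 0, 0, 0, 0, 0, 1, 0, 0, 1, 0, 0, 0, 0, 0, 0, 0, 0, 0, 0, 1, 0, 0, 0, 0, 0, 1, 0, 0, 1, 1, 0, 0, 0, 0, 0, 0, 0, 0, 0, 0, 0, 0, 0, 0, 0, 0, 0, 1, 0, 1, 0, 0, 0, 1, 0, 0, 0, 0, 0, 0, 0, 0, 0, 0, 1, 0, 1, 0, 0, 1, 0, 0, 0, 0, 0, 1, 0, 0, 1, 0, 0, 0, 0, 0, 0, 0, 0, 0, 0, 0, 0, 0, 0, 0, 0, 0, 0, 0, 1, 0, 1, 0, 0, 1, 0, 0, 2, 2, 2, 2, 2, 2, 2, 2, 2, 2, 2, 2, 2, 2, 2, 2, 2, 2, 2, 2, 2, 2, 2, 2,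 2, 2, 2, 2, 2, 2, 2, 2, 2, 2, 2, 2, 2, 2, 2, 2, 3, 4, 4, 4, 4, 4, 4, 4, 4, 4, 4, 4, 4, 4, 4, 4, 4, 4, 4, 4, 4, 5, 5, 6, 6, 6, 6, 6, 6, 6, 6, 6, 6, 6, 6, 6, 6, 6, 6, 6, 6, 6, 6, 7, 7, 8]

/-- words of the targets -/
def tupP2sPairW : List ℕ :=
  [0, 320, 50, 1003, 2101, 0, 205, 1069, 13, 157, 3, 27, 8, 34, 22, 31, 734, 566, 64, 117, 86, 173, 403, 997, 122, 97, 475, 152, 200, 637, 943, 2, 55, 44, 179, 20, 13, 208, 115, 212, 601, 92, 14, 1201, 484, 176, 33, 28, 4, 265, 7, 19, 26, 133, 1251, 531, 589, 193, 835, 191, 370, 164, 211, 349, 55, 202, 153, 115, 163, 10, 11, 141, 1, 850, 1123, 107, 310, 134, 28, 4, 139, 32, 91, 171, 9, 839, 29, 209, 119, 16, 63, 1249, 211, 350, 279, 31, 199, 643, 841, 605, 7, 160, 907, 169, 121, 1165, 5, 170, 799, 86, 213, 487, 164, 19, 34, 79, 1051, 106, 58, 47, 52,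 85, 595, 68, 155, 1159, 169, 338, 8, 998, 154, 2, 25, 199, 46, 35, 87, 9, 1195, 979, 140, 956, 712, 187, 178, 80, 118, 14, 22, 805, 3, 67, 20, 32, 523, 1273, 16, 81, 167, 25, 159, 194, 50, 553, 104, 1184, 308, 1244, 641, 571, 43, 95, 94, 409, 99, 175, 23, 910, 599, 15, 142, 631, 27, 727, 79, 379, 49, 1, 151, 331, 0, 4, 139, 16, 205, 22, 164, 26, 2, 7, 103, 193, 11, 28, 31, 35, 20, 14, 100, 175, 200, 5, 97, 17, 13, 23, 1, 211, 8, 208, 133, 89, 25, 32, 47, 34, 169, 187, 43, 206, 0, 0, 4, 97, 16, 13, 22, 1, 26, 2, 7, 133, 193, 25, 32, 31, 34, 20, 14, 43, 175, 0, 1, 0, 4, 97, 16, 13, 22, 1, 26, 2, 7, 133, 193, 25, 32, 31, 34, 20, 14, 43, 175, 0, 1, 0]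

theorem tupP2sPair_cover : tupCert tupP2sPairA tupP2sPairG tupP2sPairR ((subMasks 2).zip tupP2sPairT) tupP2sPairW = true := by decide +kernel

end Cfsg.Agent.Spor
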