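/-
Classes of octads, dodecads and pairs under stabilisers of points and sets.
-/
import Cfsg.Agent.Lib.Spor.GolaySmallSets
import Cfsg.Agent.Lib.Spor.GolayTupP1Oct
import Cfsg.Agent.Lib.Spor.GolayTupP1Dod
import Cfsg.Agent.Lib.Spor.GolayTupP2Oct
import Cfsg.Agent.Lib.Spor.GolayTupP2Pair
import Cfsg.Agent.Lib.Spor.GolayTupIn2Oct
import Cfsg.Agent.Lib.Spor.GolayTupPq2Oct
import Cfsg.Agent.Lib.Spor.GolayTupIn1Oct
import Cfsg.Agent.Lib.Spor.GolayTupOut1Oct
import Cfsg.Agent.Lib.Spor.GolayTupP1dDod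
import Cfsg.Agent.Lib.Spor.GolayTupP2sPair

set_option autoImplicit false
set_option maxRecDepth 100000
set_option Elab.async false

namespace Cfsg.Agent.Spor

open scoped Pointwise

theorem pairs_inv : ∀ σ ∈ M24, ∀ s ∈ {s : Finset GolayPt | s.card = 2}, σ • s ∈ {s : Finset GolayPt | s.card = 2} :=
  fun σ _ s hs => (Finset.card_smul_finset σ s).trans hs

theorem octads_inv : ∀ σ ∈ M24, ∀ s ∈ octads, σ • s ∈ octads := fun _ hσ _ hs => smul_octad hσ hs

theorem dodecads_inv : ∀ σ ∈ M24, ∀ s ∈ dodecads, σ • s ∈ dodecads := fun _ hσ _ hs => smul_dodecad hσ hs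

theorem tupP1Oct_classes : ∀ s ∈ octads, ∀ s' ∈ octads,
    tupInv (tupP1OctA.map ofMask) s = tupInv (tupP1OctA.map ofMask) s' →
      ∃ g ∈ M24, (∀ m ∈ tupP1OctA, g • ofMask m = ofMask m) ∧ g • s = s' :=
  tuple_classes tupP1Oct_cover (fun _ => mem_octads) octMasks_nodup octads_inv (by decide +kernel) (by decide +kernel) (by decide +kernel)
    (tupInv (tupP1OctA.map ofMask)) (fun _ hk s => tupInv_stab hk s) (by decide +kernel)

theorem tupP1Dod_classes : ∀ s ∈ dodecads, ∀ s' ∈ dodecads,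
    tupInv (tupP1DodA.map ofMask) s = tupInv (tupP1DodA.map ofMask) s' →
      ∃ g ∈ M24, (∀ m ∈ tupP1DodA, g • ofMask m = ofMask m) ∧ g • s = s' :=
  tuple_classes tupP1Dod_cover (fun _ => mem_dodecads) dodMasks_nodup dodecads_inv (by decide +kernel) (by decide +kernel) (by decide +kernel)
    (tupInv (tupP1DodA.map ofMask)) (fun _ hk s => tupInv_stab hk s) (by decide +kernel)

theorem tupP2Oct_classes : ∀ s ∈ octads, ∀ s' ∈ octads,
    tupInv (tupP2OctA.map ofMask) s = tupInv (tupP2OctA.map ofMask) s' →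
      ∃ g ∈ M24, (∀ m ∈ tupP2OctA, g • ofMask m = ofMask m) ∧ g • s = s' :=
  tuple_classes tupP2Oct_cover (fun _ => mem_octads) octMasks_nodup octads_inv (by decide +kernel) (by decide +kernel) (by decide +kernel)
    (tupInv (tupP2OctA.map ofMask)) (fun _ hk s => tupInv_stab hk s) (by decide +kernel)

theorem tupP2Pair_classes : ∀ s ∈ {s : Finset GolayPt | s.card = 2}, ∀ s' ∈ {s : Finset GolayPt | s.card = 2},
    tupInv (tupP2PairA.map ofMask) s = tupInv (tupP2PairA.map ofMask) s' →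
      ∃ g ∈ M24, (∀ m ∈ tupP2PairA, g • ofMask m = ofMask m) ∧ g • s = s' :=
  tuple_classes tupP2Pair_cover card_iff_subMasks (subMasks_nodup 2) pairs_inv (by decide +kernel) (by decide +kernel) (by decide +kernel)
    (tupInv (tupP2PairA.map ofMask)) (fun _ hk s => tupInv_stab hk s) (by decide +kernel)

theorem tupIn2Oct_classes : ∀ s ∈ octads, ∀ s' ∈ octads,
    tupInv (tupIn2OctA.map ofMask) s = tupInv (tupIn2OctA.map ofMask) s' →
      ∃ g ∈ M24, (∀ m ∈ tupIn2OctA, g • ofMask m = ofMask m) ∧ g • s = s' :=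
  tuple_classes tupIn2Oct_cover (fun _ => mem_octads) octMasks_nodup octads_inv (by decide +kernel) (by decide +kernel) (by decide +kernel)
    (tupInv (tupIn2OctA.map ofMask)) (fun _ hk s => tupInv_stab hk s) (by decide +kernel)

theorem tupPq2Oct_classes : ∀ s ∈ octads, ∀ s' ∈ octads,
    tupInv (tupPq2OctA.map ofMask) s = tupInv (tupPq2OctA.map ofMask) s' →
      ∃ g ∈ M24, (∀ m ∈ tupPq2OctA, g • ofMask m = ofMask m) ∧ g • s = s' :=
  tuple_classes tupPq2Oct_cover (fun _ => mem_octads) octMasks_nodup octads_inv (by decide +kernel) (by decide +kernel) (by decide +kernel)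
    (tupInv (tupPq2OctA.map ofMask)) (fun _ hk s => tupInv_stab hk s) (by decide +kernel)

theorem tupIn1Oct_classes : ∀ s ∈ octads, ∀ s' ∈ octads,
    tupInv (tupIn1OctA.map ofMask) s = tupInv (tupIn1OctA.map ofMask) s' →
      ∃ g ∈ M24, (∀ m ∈ tupIn1OctA, g • ofMask m = ofMask m) ∧ g • s = s' :=
  tuple_classes tupIn1Oct_cover (fun _ => mem_octads) octMasks_nodup octads_inv (by decide +kernel) (by decide +kernel) (by decide +kernel)
    (tupInv (tupIn1OctA.map ofMask)) (fun _ hk s => tupInv_stab hk s) (by decide +kernel)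

theorem tupOut1Oct_classes : ∀ s ∈ octads, ∀ s' ∈ octads,
    tupInv (tupOut1OctA.map ofMask) s = tupInv (tupOut1OctA.map ofMask) s' →
      ∃ g ∈ M24, (∀ m ∈ tupOut1OctA, g • ofMask m = ofMask m) ∧ g • s = s' :=
  tuple_classes tupOut1Oct_cover (fun _ => mem_octads) octMasks_nodup octads_inv (by decide +kernel) (by decide +kernel) (by decide +kernel)
    (tupInv (tupOut1OctA.map ofMask)) (fun _ hk s => tupInv_stab hk s) (by decide +kernel)

theorem tupP1dDod_classes : ∀ s ∈ dodecads, ∀ s' ∈ dodecads,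
    tupInv (tupP1dDodA.map ofMask) s = tupInv (tupP1dDodA.map ofMask) s' →
      ∃ g ∈ M24, (∀ m ∈ tupP1dDodA, g • ofMask m = ofMask m) ∧ g • s = s' :=
  tuple_classes tupP1dDod_cover (fun _ => mem_dodecads) dodMasks_nodup dodecads_inv (by decide +kernel) (by decide +kernel) (by decide +kernel)
    (tupInv (tupP1dDodA.map ofMask)) (fun _ hk s => tupInv_stab hk s) (by decide +kernel)

/-- invariant of a pair relative to two points and a pair -/
def pqsInv (s : Finset GolayPt) : List ℕ × Bool :=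
  (tupInv (tupP2sPairA.map ofMask) s, inSomeOctad (ofMask 15 ∪ s))

theorem pqsInv_stab : ∀ k ∈ tupStab tupP2sPairA, ∀ s : Finset GolayPt, pqsInv (k • s) = pqsInv s := by
  intro k hk s
  have hf : ∀ m ∈ tupP2sPairA, k • ofMask m = ofMask m := mem_tupStab.1 hk
  have h15 : k • ofMask 15 = ofMask 15 := by
    rw [show ofMask 15 = ofMask 1 ∪ ofMask 2 ∪ ofMask 12 by decide +kernel, Finset.smul_finset_union,
      Finset.smul_finset_union, hf 1 (by decide), hf 2 (by decide), hf 12 (by decide)]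
  have e : ofMask 15 ∪ k • s = (k : Equiv.Perm GolayPt) • (ofMask 15 ∪ s) := by
    conv_lhs => rw [← h15, ← Finset.smul_finset_union]
    rfl
  rw [pqsInv, pqsInv, tupInv_stab hk, e, inSomeOctad_smul k.2]

theorem tupP2sPair_classes : ∀ s ∈ {s : Finset GolayPt | s.card = 2}, ∀ s' ∈ {s : Finset GolayPt | s.card = 2},
    pqsInv s = pqsInv s' → ∃ g ∈ M24, (∀ m ∈ tupP2sPairA, g • ofMask m = ofMask m) ∧ g • s = s' :=
  tuple_classes tupP2sPair_cover card_iff_subMasks (subMasks_nodup 2) pairs_inv (by decide +kernel)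
    (by decide +kernel) (by decide +kernel) pqsInv pqsInv_stab (by decide +kernel)

theorem ofMask_pow (i : ℕ) (hi : i < 24) : ofMask (2 ^ i) = {pt i} := by
  ext p
  rw [mem_ofMask, Nat.testBit_two_pow, decide_eq_true_eq, Finset.mem_singleton]
  exact ⟨fun h => by rw [← pt_idx p, ← h], fun h => by rw [h, idx_pt i hi]⟩

theorem exists_map_point (p : GolayPt) : ∃ σ ∈ M24, σ • ofMask 1 = {p} := by
  obtain ⟨σ, hσ, h⟩ := exists_map_set (s := ({p} : Finset GolayPt)) (by simp)
  exact ⟨σ, hσ, by simpa using h⟩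

theorem exists_map_points {p q : GolayPt} (hpq : p ≠ q) :
    ∃ σ ∈ M24, σ • ofMask 1 = {p} ∧ σ • ofMask 2 = {q} := by
  have h01 : pt 0 ≠ pt 1 := by decide +kernel
  obtain ⟨σ, hσ, h⟩ := M24_trans (show 2 ≤ 5 by norm_num) ⟨![pt 0, pt 1], by
      intro i j e; fin_cases i <;> fin_cases j <;> simp_all⟩
    ⟨![p, q], by intro i j e; fin_cases i <;> fin_cases j <;> simp_all⟩
  refine ⟨σ, hσ, ?_, ?_⟩
  · rw [show (1 : ℕ) = 2 ^ 0 from rfl, ofMask_pow 0 (by norm_num), Finset.smul_finset_singleton]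
    exact congrArg (fun z => ({z} : Finset GolayPt)) (h 0)
  · rw [show (2 : ℕ) = 2 ^ 1 from rfl, ofMask_pow 1 (by norm_num), Finset.smul_finset_singleton]
    exact congrArg (fun z => ({z} : Finset GolayPt)) (h 1)

theorem mem_smul_singleton_iff {σ : Equiv.Perm GolayPt} {a b : Finset GolayPt} {p : GolayPt} (h : σ • a = {p}) :
    (σ • b ∩ {p}).card = (b ∩ a).card := by
  rw [← h, ← Finset.smul_finset_inter, Finset.card_smul_finset]

theorem ncard_transfer {T : Set (Finset GolayPt)} {σ : Equiv.Perm GolayPt} (hσ : σ ∈ M24)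
    (hT : ∀ τ ∈ M24, ∀ s ∈ T, τ • s ∈ T) {P P' : Finset GolayPt → Prop} (hP : ∀ s, P' (σ • s) ↔ P s) :
    {s | s ∈ T ∧ P' s}.ncard = {s | s ∈ T ∧ P s}.ncard := by
  have e : {s | s ∈ T ∧ P' s} = (fun s => σ • s) '' {s | s ∈ T ∧ P s} := by
    ext s
    constructor
    · rintro ⟨h1, h2⟩
      refine ⟨σ⁻¹ • s, ⟨hT _ (inv_mem hσ) s h1, ?_⟩, smul_inv_smul σ s⟩
      rw [← hP, smul_inv_smul]; exact h2
    · rintro ⟨t, ⟨h1, h2⟩, rfl⟩
      exact ⟨hT _ hσ t h1, (hP t).2 h2⟩
  rw [e, Set.ncard_image_of_injective _ (MulAction.injective σ)]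

theorem ncard_octad_pred {P : Finset GolayPt → Prop} (b : ℕ → Bool) (h : ∀ s, P s ↔ b (mask s) = true) :
    {s | s ∈ octads ∧ P s}.ncard = (octMasks.filter b).length := by
  refine ncard_of_masks (octMasks_nodup.filter _) (fun m hm => octMasks_lt (List.mem_filter.1 hm).1) fun s => ?_
  rw [Set.mem_setOf_eq, List.mem_filter, mem_octads, h]

theorem ncard_dodecad_pred {P : Finset GolayPt → Prop} (b : ℕ → Bool) (h : ∀ s, P s ↔ b (mask s) = true) :
    {s | s ∈ dodecads ∧ P s}.ncard = (dodMasks.filter b).length := by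
  refine ncard_of_masks (dodMasks_nodup.filter _) (fun m hm => dodMasks_lt (List.mem_filter.1 hm).1) fun s => ?_
  rw [Set.mem_setOf_eq, List.mem_filter, mem_dodecads, h]

theorem ncard_pair_pred {P : Finset GolayPt → Prop} (b : ℕ → Bool) (h : ∀ s, P s ↔ b (mask s) = true) :
    {s | s ∈ {s : Finset GolayPt | s.card = 2} ∧ P s}.ncard = ((subMasks 2).filter b).length := by
  refine ncard_of_masks ((subMasks_nodup 2).filter _) (fun m hm => (subMasks_card (List.mem_filter.1 hm).1).1)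
    fun s => ?_
  rw [Set.mem_setOf_eq, Set.mem_setOf_eq, List.mem_filter, card_iff_subMasks, h]

theorem mem_iff_inter_pos {a : Finset GolayPt} {p : GolayPt} : p ∈ a ↔ ({p} ∩ a).card = 1 := by
  rw [card_singleton_inter]; split <;> simp_all

theorem smul_mem_iff {σ : Equiv.Perm GolayPt} {a : Finset GolayPt} {p : GolayPt} (h : σ • a = {p})
    (ha : a.card = 1) (s : Finset GolayPt) : p ∈ σ • s ↔ (a ∩ s).card = 1 := by
  rw [mem_iff_inter_pos, ← h, ← Finset.smul_finset_inter, Finset.card_smul_finset]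

end Cfsg.Agent.Spor
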