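import Cfsg.Agent.Lib.Spor.MathieuOut
import Cfsg.Agent.Lib.Spor.GolayModules

/-!
# The outer automorphism group of M22 has order two

Subgroups of order 20160 of M22 fix a point, so an automorphism comes from a permutation of 22 points; it preserves
the subcode spanned by the octads through the two extra points, and exactly one of its two extensions preserves the code.
-/

set_option autoImplicit false
set_option maxRecDepth 100000

namespace Cfsg.Agent.Spor.MathieuOutTwo

open Cfsg Cfsg.Agent.Spor MulAction MathieuOut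
open scoped Pointwise

/-- the second fixed point -/
abbrev o₀ : GolayPt := some 0

theorem card_stabilizer_three {p q r : GolayPt} (hpq : p ≠ q) (hpr : p ≠ r) (hqr : q ≠ r) :
    Nat.card ↥(stabilizer M24 p ⊓ stabilizer M24 q ⊓ stabilizer M24 r) = 20160 := by
  have hinj : Function.Injective ![p, q, r] := by
    intro i j h
    fin_cases i <;> fin_cases j <;> simp_all [Ne.symm hpq, Ne.symm hpr, Ne.symm hqr]
  have h := card_fix (show (3:ℕ) ≤ 5 by norm_num) ⟨_, hinj⟩
  refine (Nat.card_congr ?_).trans h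
  refine
    { toFun := fun g => ⟨g.1.1, g.1.2, (mem_fixingSubgroup_iff _).2 (by
        rintro y ⟨i, rfl⟩
        fin_cases i
        exacts [g.2.1.1, g.2.1.2, g.2.2])⟩
      invFun := fun g => ⟨⟨g.1, g.2.1⟩, ⟨(mem_fixingSubgroup_iff _).1 g.2.2 p ⟨0, rfl⟩,
        (mem_fixingSubgroup_iff _).1 g.2.2 q ⟨1, rfl⟩⟩, (mem_fixingSubgroup_iff _).1 g.2.2 r ⟨2, rfl⟩⟩
      left_inv := fun _ => rfl
      right_inv := fun _ => rfl }

/-- Restriction to an invariant finite set, as a homomorphism. -/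
def restrictHom (H : Subgroup M24) (O : Finset GolayPt)
    (hs : ∀ g : M24, g ∈ H → ∀ x, x ∈ O → (g : Equiv.Perm GolayPt) x ∈ O) :
    H →* Equiv.Perm {x // x ∈ O} :=
  letI := restrictAct H (· ∈ O) hs
  MulAction.toPermHom H {x // x ∈ O}

theorem restrictHom_apply (H : Subgroup M24) (O : Finset GolayPt)
    (hs : ∀ g : M24, g ∈ H → ∀ x, x ∈ O → (g : Equiv.Perm GolayPt) x ∈ O) (h : H) (x : {x // x ∈ O}) :
    (restrictHom H O hs h x).1 = ((h : M24) : Equiv.Perm GolayPt) x.1 := rfl

theorem prime_dvd_20160 {r : ℕ} (hr : r.Prime) (h : r ∣ 20160) : r = 2 ∨ r = 3 ∨ r = 5 ∨ r = 7 := by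
  have hmem : r ∈ Nat.primeFactors 20160 := Nat.mem_primeFactors.2 ⟨hr, h, by norm_num⟩
  have e : Nat.primeFactors 20160 = {2, 3, 5, 7} := by
    apply le_antisymm
    · intro p hp
      obtain ⟨hp1, hp2, -⟩ := Nat.mem_primeFactors.1 hp
      rw [show 20160 = 2 ^ 6 * (3 ^ 2 * (5 * 7)) by norm_num] at hp2
      simp only [Finset.mem_insert, Finset.mem_singleton]
      rcases hp1.dvd_mul.1 hp2 with h | h
      · exact Or.inl ((Nat.prime_dvd_prime_iff_eq hp1 Nat.prime_two).1 (hp1.dvd_of_dvd_pow h))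
      rcases hp1.dvd_mul.1 h with h | h
      · exact Or.inr (Or.inl ((Nat.prime_dvd_prime_iff_eq hp1 Nat.prime_three).1 (hp1.dvd_of_dvd_pow h)))
      rcases hp1.dvd_mul.1 h with h | h
      · exact Or.inr (Or.inr (Or.inl ((Nat.prime_dvd_prime_iff_eq hp1 (by norm_num)).1 h)))
      · exact Or.inr (Or.inr (Or.inr ((Nat.prime_dvd_prime_iff_eq hp1 (by norm_num)).1 h)))
    · intro p hp
      simp only [Finset.mem_insert, Finset.mem_singleton] at hp
      rw [Nat.mem_primeFactors]
      rcases hp with rfl | rfl | rfl | rfl <;> norm_num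
  simpa [e] using hmem

/-- A subgroup of index 22 in a two-point stabiliser fixes a third point. -/
theorem eq_stab_three_of_card {H : Subgroup M24} (hn : H ≤ stabilizer M24 (none : GolayPt))
    (h0 : H ≤ stabilizer M24 o₀) (hH : Nat.card H = 20160) :
    ∃ q : GolayPt, q ≠ none ∧ q ≠ o₀ ∧
      H = stabilizer M24 (none : GolayPt) ⊓ stabilizer M24 o₀ ⊓ stabilizer M24 q := by
  haveI : Fact (Nat.Prime 7) := ⟨by norm_num⟩
  obtain ⟨x, hx⟩ := exists_prime_orderOf_dvd_card' (G := H) 7 (by rw [hH]; norm_num)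
  set g : Equiv.Perm GolayPt := ((x : M24) : Equiv.Perm GolayPt) with hgdef
  have ho : orderOf g = 7 := by rw [hgdef, Subgroup.orderOf_coe, Subgroup.orderOf_coe, hx]
  have hgn : g none = none := hn x.2
  have hg0 : g o₀ = o₀ := h0 x.2
  have hno : (none : GolayPt) ≠ o₀ := Option.some_ne_none _ ∘ Eq.symm
  have hsub : ({none, o₀} : Finset GolayPt) ⊆ fixSet g := by
    intro a ha
    simp only [Finset.mem_insert, Finset.mem_singleton] at ha
    rcases ha with rfl | rfl <;> simp [hgn, hg0]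
  obtain ⟨q, hq⟩ := Finset.card_eq_one.1 (show (fixSet g \ {none, o₀}).card = 1 by
    rw [Finset.card_sdiff_of_subset hsub, fix_card_7 (x : M24).2 ho, Finset.card_pair hno])
  have hmem : ∀ a, (g a = a ∧ a ≠ none ∧ a ≠ o₀) ↔ a = q := fun a => by
    have := Finset.ext_iff.1 hq a
    simpa using this
  obtain ⟨hgq, hqn, hq0⟩ := (hmem q).2 rfl
  have hqO : q ∈ orbitSet H q := by simp [orbitSet]
  have havoid : ∀ b : GolayPt, H ≤ stabilizer M24 b → q ≠ b → b ∉ orbitSet H q := by
    intro b hb hqb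
    rw [orbitSet, Set.Finite.mem_toFinset]
    rintro ⟨k, hk⟩
    exact hqb (((k : M24) : Equiv.Perm GolayPt).injective (hk.trans (hb k.2).symm))
  have hnO := havoid none hn hqn
  have h0O := havoid o₀ h0 hq0
  have hOsub : orbitSet H q ⊆ Finset.univ \ {none, o₀} := fun a ha => by
    simp only [Finset.mem_sdiff, Finset.mem_univ, true_and, Finset.mem_insert, Finset.mem_singleton, not_or]
    exact ⟨fun e => hnO (e ▸ ha), fun e => h0O (e ▸ ha)⟩
  have h22 : (Finset.univ \ ({none, o₀} : Finset GolayPt)).card = 22 := by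
    rw [Finset.card_sdiff_of_subset (Finset.subset_univ _), Finset.card_pair hno, Finset.card_univ,
      Fintype.card_option, ZMod.card]
  have hle : (orbitSet H q).card ≤ 22 := h22 ▸ Finset.card_le_card hOsub
  have hmoved := dvd_card_moved (r := 7) (ho ▸ pow_orderOf_eq_one g) (orbitSet H q)
    (orbitSet_inv H q x.2)
  have hfilter : ((orbitSet H q).filter fun a => g a ≠ a) = (orbitSet H q).erase q := by
    ext y
    simp only [Finset.mem_filter, Finset.mem_erase, ne_eq]
    constructor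
    · exact fun h => ⟨fun e => h.2 (e ▸ hgq), h.1⟩
    · rintro ⟨hyq, hy⟩
      exact ⟨hy, fun hfy => hyq ((hmem y).1 ⟨hfy, fun e => hnO (e ▸ hy), fun e => h0O (e ▸ hy)⟩)⟩
  rw [hfilter, Finset.card_erase_of_mem hqO] at hmoved
  have hpos : 0 < (orbitSet H q).card := Finset.card_pos.2 ⟨q, hqO⟩
  refine ⟨q, hqn, hq0, Subgroup.eq_of_le_of_card_ge (le_inf (le_inf hn h0) (le_stab_of_orbit_one ?_))
    (by rw [card_stabilizer_three hno (Ne.symm hqn) (Ne.symm hq0), hH])⟩
  by_contra hne
  have hdvd : (orbitSet H q).card ∣ 20160 := by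
    rw [orbitSet_card, ← hH]; exact Subgroup.index_dvd_card _
  have h815 : (orbitSet H q).card = 8 ∨ (orbitSet H q).card = 15 := by
    obtain ⟨t, ht⟩ := hmoved
    have : (orbitSet H q).card ≠ 22 := fun e => by rw [e] at hdvd; norm_num at hdvd
    omega
  rcases h815 with h8 | h15
  · -- three-cycles would fix too many points
    have hO : ∀ g : M24, g ∈ H → ∀ a, a ∈ orbitSet H q → (g : Equiv.Perm GolayPt) a ∈ orbitSet H q :=
      fun g hg => orbitSet_inv H q hg
    set φ := restrictHom H (orbitSet H q) hO with hφ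
    have hinj : Function.Injective φ := by
      rw [injective_iff_map_eq_one]
      intro h hh
      refine Subtype.ext (Subtype.ext (eq_one_of_fix_ten (h : M24).2
        (F := orbitSet H q ∪ {none, o₀}) ?_ ?_))
      · rw [Finset.card_union_of_disjoint (by simp [hnO, h0O]), h8, Finset.card_pair hno]
      · intro a ha
        simp only [Finset.mem_union, Finset.mem_insert, Finset.mem_singleton] at ha
        rcases ha with ha | rfl | rfl
        · exact (restrictHom_apply H _ hO h ⟨a, ha⟩).symm.trans (by rw [← hφ, hh]; rfl)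
        · exact hn h.2
        · exact h0 h.2
    have hidx : φ.range.index = 2 := by
      have h1 := φ.range.card_mul_index
      rw [show Nat.card φ.range = 20160 from (Nat.card_congr (MonoidHom.ofInjective hinj).toEquiv).symm.trans hH,
        Nat.card_perm, Nat.card_eq_fintype_card, Fintype.card_coe, h8,
        show Nat.factorial 8 = 40320 from rfl] at h1
      omega
    obtain ⟨a, b, c, ha, hb, hc, hab, hac, hbc⟩ := Finset.two_lt_card_iff.1 (h8 ▸ (by norm_num : 2 < 8))
    let σ : Equiv.Perm {x // x ∈ orbitSet H q} := Equiv.swap ⟨a, ha⟩ ⟨b, hb⟩ * Equiv.swap ⟨a, ha⟩ ⟨c, hc⟩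
    have hσ3 : σ.IsThreeCycle := Equiv.Perm.isThreeCycle_swap_mul_swap_same (by simpa using hab)
      (by simpa using hac) (by simpa using hbc)
    obtain ⟨h, hh⟩ : σ ∈ φ.range := by
      have e : σ = (σ ^ 2) * (σ ^ 2) := by
        rw [← pow_add, show 2 + 2 = orderOf σ + 1 by rw [hσ3.orderOf], pow_succ, pow_orderOf_eq_one, one_mul]
      rw [e]
      exact Subgroup.mul_self_mem_of_index_two hidx _
    set f : Equiv.Perm GolayPt := ((h : M24) : Equiv.Perm GolayPt) with hfdef
    have hfo : orderOf f = 3 := by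
      rw [hfdef, Subgroup.orderOf_coe, Subgroup.orderOf_coe, ← orderOf_injective φ hinj, hh, hσ3.orderOf]
    have hfix : (orbitSet H q \ {a, b, c}) ∪ {none, o₀} ⊆ fixSet f := by
      intro y hy
      simp only [Finset.mem_union, Finset.mem_sdiff, Finset.mem_insert, Finset.mem_singleton, not_or] at hy
      simp only [Finset.mem_filter, Finset.mem_univ, true_and]
      rcases hy with ⟨hyO, hya, hyb, hyc⟩ | rfl | rfl
      · refine (restrictHom_apply H _ hO h ⟨y, hyO⟩).symm.trans ?_
        rw [← hφ, hh]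
        simp only [σ, Equiv.Perm.mul_apply]
        rw [show Equiv.swap (⟨a, ha⟩ : {x // x ∈ orbitSet H q}) ⟨c, hc⟩ ⟨y, hyO⟩ = ⟨y, hyO⟩ from
            Equiv.swap_apply_of_ne_of_ne (by simpa using hya) (by simpa using hyc),
          Equiv.swap_apply_of_ne_of_ne (by simpa using hya) (by simpa using hyb)]
      · exact hn h.2
      · exact h0 h.2
    have hcard := Finset.card_le_card hfix
    rw [Finset.card_union_of_disjoint (by simp [hnO, h0O]), Finset.card_pair hno,
      Finset.card_sdiff_of_subset (by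
        intro y hy
        simp only [Finset.mem_insert, Finset.mem_singleton] at hy
        rcases hy with rfl | rfl | rfl <;> assumption),
      h8, Finset.card_eq_three.2 ⟨a, b, c, hab, hac, hbc, rfl⟩] at hcard
    rcases three_by_fix (h : M24).2 hfo with ⟨e, -⟩ | ⟨e, -⟩ <;> rw [← hfdef] at e <;> omega
  · -- the kernel on the seven remaining points is too large
    set R : Finset GolayPt := (Finset.univ \ {none, o₀}) \ orbitSet H q with hR
    have hR7 : R.card = 7 := by rw [hR, Finset.card_sdiff_of_subset hOsub, h22, h15]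
    have hRinv : ∀ g : M24, g ∈ H → ∀ a, a ∈ R → (g : Equiv.Perm GolayPt) a ∈ R := by
      intro g hg a ha
      simp only [hR, Finset.mem_sdiff, Finset.mem_univ, true_and, Finset.mem_insert, Finset.mem_singleton,
        not_or] at ha ⊢
      refine ⟨⟨fun e => ha.1.1 ((g : Equiv.Perm GolayPt).injective (e.trans (hn hg).symm)),
        fun e => ha.1.2 ((g : Equiv.Perm GolayPt).injective (e.trans (h0 hg).symm))⟩, fun hga => ha.2 ?_⟩
      have := orbitSet_inv H q (inv_mem hg) _ hga
      rwa [show ((g⁻¹ : M24) : Equiv.Perm GolayPt) ((g : Equiv.Perm GolayPt) a) = a from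
        (g : Equiv.Perm GolayPt).symm_apply_apply a] at this
    set φ := restrictHom H R hRinv with hφ
    have hker : ∀ r : ℕ, r.Prime → r ∣ Nat.card φ.ker → r = 5 := by
      intro r hr hrd
      haveI := Fact.mk hr
      obtain ⟨k, hk⟩ := exists_prime_orderOf_dvd_card' (G := φ.ker) r hrd
      set f : Equiv.Perm GolayPt := (((k : H) : M24) : Equiv.Perm GolayPt) with hfdef
      have hfo : orderOf f = r := by
        rw [hfdef, Subgroup.orderOf_coe, Subgroup.orderOf_coe, Subgroup.orderOf_coe, hk]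
      have hfM : f ∈ M24 := ((k : H) : M24).2
      have h9 : 9 ≤ (fixSet f).card := by
        have hsub' : R ∪ {none, o₀} ⊆ fixSet f := by
          intro a ha
          simp only [Finset.mem_union, Finset.mem_insert, Finset.mem_singleton] at ha
          simp only [Finset.mem_filter, Finset.mem_univ, true_and]
          rcases ha with ha | rfl | rfl
          · refine (restrictHom_apply H _ hRinv (k : H) ⟨a, ha⟩).symm.trans ?_
            rw [← hφ, MonoidHom.mem_ker.1 k.2]
            rfl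
          · exact hn (k : H).2
          · exact h0 (k : H).2
        refine le_trans (le_of_eq ?_) (Finset.card_le_card hsub')
        rw [Finset.card_union_of_disjoint (by simp [hR]), hR7, Finset.card_pair hno]
      rcases prime_dvd_20160 hr (hrd.trans (hH ▸ Subgroup.card_subgroup_dvd_card φ.ker)) with
        rfl | rfl | rfl | rfl
      · rcases invol_by_fix hfM hfo with ⟨e, -⟩ | ⟨e, -⟩ <;> omega
      · rcases three_by_fix hfM hfo with ⟨e, -⟩ | ⟨e, -⟩ <;> omega
      · rfl
      · have := fix_card_7 hfM hfo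
        omega
    obtain ⟨n, hn5⟩ : ∃ n, Nat.card φ.ker = 5 ^ n :=
      ⟨_, Nat.eq_prime_pow_of_unique_prime_dvd Nat.card_pos.ne' fun {d} hd hdc => hker d hd hdc⟩
    have hn2 : n < 2 := by
      by_contra hn2
      have := (pow_dvd_pow 5 (not_lt.1 hn2)).trans (hn5 ▸ hH ▸ Subgroup.card_subgroup_dvd_card φ.ker)
      norm_num at this
    have h1 := φ.ker.card_mul_index
    rw [Subgroup.index_ker, hn5, hH] at h1
    have h2 := Subgroup.card_subgroup_dvd_card φ.range
    rw [Nat.card_perm, Nat.card_eq_fintype_card (α := {x // x ∈ R}), Fintype.card_coe, hR7,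
      show Nat.factorial 7 = 5040 from rfl] at h2
    interval_cases n
    · rw [pow_zero, one_mul] at h1
      rw [h1] at h2
      norm_num at h2
    · rw [pow_one] at h1
      rw [show Nat.card φ.range = 4032 by omega] at h2
      norm_num at h2

/-- eleven octads through both points; with one more octad they span the code -/
def twoOctads : List ℕ :=
  [8391797, 8398155, 8412681, 8421811, 8471941, 8524371, 8657159, 8922769, 9440193, 10486557, 12587685]

/-- an octad through the extra point only -/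
def oneOctad : ℕ := 8394986

theorem twoOctads_facts : (∀ g ∈ twoOctads, g < 2 ^ 24 ∧ g ∈ octMasks ∧ Nat.testBit g (idx none) = true ∧
      Nat.testBit g (idx o₀) = true) ∧
    (oneOctad < 2 ^ 24 ∧ oneOctad ∈ codeMasks ∧ Nat.testBit oneOctad (idx none) = true ∧
      Nat.testBit oneOctad (idx o₀) = false) ∧
    ∀ g ∈ codeBasis, g ∈ xorSpan (oneOctad :: twoOctads) := by
  decide +kernel

theorem ofMaskW_mem {m : ℕ} (h : m < 2 ^ 24) (hm : m ∈ codeMasks) : ofMaskW m ∈ golayCode := by
  rw [mem_code, wmask_ofMaskW h]; exact hm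

/-- membership in `M24` is decided on the spanning octads -/
theorem mem_M24_of_words {ρ : Equiv.Perm GolayPt}
    (h : ∀ g ∈ oneOctad :: twoOctads, actW ρ (ofMaskW g) ∈ golayCode) : ρ ∈ M24 := by
  rw [Spor.mem_M24]
  have key : ∀ m ∈ xorSpan (oneOctad :: twoOctads), m < 2 ^ 24 ∧ mask (ρ • ofMask m) ∈ codeMasks := by
    apply xorSpan_induction
    · refine ⟨by norm_num, ?_⟩
      rw [show ofMask 0 = ∅ from by decide +kernel, Finset.smul_finset_empty]
      exact xorSpan_zero _
    · rintro a b ⟨ha, ha'⟩ ⟨hb, hb'⟩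
      refine ⟨Nat.xor_lt_two_pow ha hb, ?_⟩
      have : ofMask (a ^^^ b) = symmDiff (ofMask a) (ofMask b) := by
        apply mask_injective
        rw [mask_symmDiff, mask_ofMask ha, mask_ofMask hb, mask_ofMask (Nat.xor_lt_two_pow ha hb)]
      rw [this, smul_symmDiff', mask_symmDiff]
      exact codeMasks_xor ha' hb'
    · intro g hg
      refine ⟨?_, ?_⟩
      · rcases List.mem_cons.1 hg with rfl | hg'
        · exact twoOctads_facts.2.1.1
        · exact (twoOctads_facts.1 g hg').1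
      · have := mem_code.1 (h g hg)
        rwa [wmask, support₂_actW, support₂_ofMaskW] at this
  intro g hg
  exact (key g (twoOctads_facts.2.2 g hg)).2

/-- A permutation fixing both points and normalising the two-point stabiliser lies in `M24`, possibly after the swap. -/
theorem mem_M24_or_swap {τ : Equiv.Perm GolayPt} (hn : τ none = none) (h0 : τ o₀ = o₀)
    (hτ : ∀ g ∈ Cfsg.Spor.M22, τ * g * τ⁻¹ ∈ Cfsg.Spor.M22)
    (hτ' : ∀ g ∈ Cfsg.Spor.M22, τ⁻¹ * g * τ ∈ Cfsg.Spor.M22) :
    τ ∈ M24 ∨ Equiv.swap none o₀ * τ ∈ M24 := by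
  have image : ∀ ρ : Equiv.Perm GolayPt, (∀ g ∈ Cfsg.Spor.M22, ρ * g * ρ⁻¹ ∈ Cfsg.Spor.M22) →
      ∀ g ∈ twoOctads, actW ρ (ofMaskW g) ∈ golayCode := by
    intro ρ hρ g hg
    obtain ⟨hlt, hoct, hbn, hb0⟩ := twoOctads_facts.1 g hg
    have ho : ofMask g ∈ octads := by rw [mem_octads, mask_ofMask hlt]; exact hoct
    obtain ⟨u, hu, hu2, hfu⟩ := exists_invol ho
    have huM : u ∈ Cfsg.Spor.M22 := by
      have hh : ∀ a, a ∈ ofMask g → u a = a := fun a ha => by
        rw [← hfu] at ha
        simpa using ha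
      exact ⟨⟨hu, hh none (mem_ofMask.2 hbn)⟩, hh o₀ (mem_ofMask.2 hb0)⟩
    have hv := (hρ u huM).1.1
    have hv2 : orderOf (ρ * u * ρ⁻¹) = 2 := by rw [← MulAut.conj_apply, MulEquiv.orderOf_eq, hu2]
    rcases invol_by_fix hv hv2 with ⟨h, -⟩ | ⟨-, h, -⟩
    · rw [card_fixSet_conj, hfu, ho.2] at h
      omega
    · refine mem_code.2 ?_
      rw [wmask, support₂_actW, support₂_ofMaskW, ← hfu, ← fixSet_conj]
      exact mem_supports.1 h.1
  obtain ⟨hlt, hcode, hbn, hb0⟩ := twoOctads_facts.2.1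
  have hc := ofMaskW_mem hlt hcode
  set x := actW τ (ofMaskW oneOctad) with hx
  set e : GolayPt → ZMod 2 := fun p => if p = none ∨ p = o₀ then 1 else 0 with he
  have hxn : x none = 1 := by
    show ofMaskW oneOctad (τ.symm none) = 1
    rw [show τ.symm none = none from (Equiv.symm_apply_eq τ).2 hn.symm, ofMaskW, if_pos hbn]
  have hx0 : x o₀ = 0 := by
    show ofMaskW oneOctad (τ.symm o₀) = 0
    rw [show τ.symm o₀ = o₀ from (Equiv.symm_apply_eq τ).2 h0.symm, ofMaskW, if_neg (by simp [hb0])]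
  have hno : (none : GolayPt) ≠ o₀ := Option.some_ne_none _ ∘ Eq.symm
  have edot : ∀ w : GolayPt → ZMod 2, ∑ p, w p * e p = w none + w o₀ := by
    intro w
    have hs : ∀ p, w p * e p = if p ∈ ({none, o₀} : Finset GolayPt) then w p else 0 := by
      intro p
      simp [he]
    simp only [hs, Finset.sum_ite_mem, Finset.univ_inter, Finset.sum_pair hno]
  -- one of the two candidates is orthogonal to the code
  have horth : ∀ y, (y = x ∨ y = x + e) → ∑ p, ofMaskW oneOctad p * y p = 0 → y ∈ golayCode := by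
    intro y hy hyc
    rw [← orth_code, mem_orth]
    intro w hw
    have gen : ∀ g ∈ oneOctad :: twoOctads, ∑ p, ofMaskW g p * y p = 0 := by
      intro g hg
      rcases List.mem_cons.1 hg with rfl | hg'
      · exact hyc
      have hx' : ∑ p, ofMaskW g p * x p = 0 := by
        calc ∑ p, ofMaskW g p * x p = ∑ p, actW τ (ofMaskW oneOctad) p * ofMaskW g p :=
              Finset.sum_congr rfl fun p _ => mul_comm _ _
          _ = ∑ p, ofMaskW oneOctad p * actW τ⁻¹ (ofMaskW g) p := dot_actW τ _ _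
          _ = 0 := code_orth hc (image τ⁻¹ (fun k hk => by rw [inv_inv]; exact hτ' k hk) g hg')
      rcases hy with rfl | rfl
      · exact hx'
      · simp only [Pi.add_apply, mul_add, Finset.sum_add_distrib, hx', edot]
        obtain ⟨-, -, gn, g0⟩ := twoOctads_facts.1 g hg'
        simp [ofMaskW, gn, g0]
        decide
    have span : ∀ m ∈ xorSpan (oneOctad :: twoOctads), m < 2 ^ 24 ∧ ∑ p, ofMaskW m p * y p = 0 := by
      apply xorSpan_induction
      · exact ⟨by norm_num, Finset.sum_eq_zero fun p _ => by simp [ofMaskW]⟩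
      · rintro a b ⟨ha, ha'⟩ ⟨hb, hb'⟩
        refine ⟨Nat.xor_lt_two_pow ha hb, ?_⟩
        have : ∀ p, ofMaskW (a ^^^ b) p = ofMaskW a p + ofMaskW b p := fun p => by
          simp only [ofMaskW, Nat.testBit_xor]
          cases Nat.testBit a (idx p) <;> cases Nat.testBit b (idx p) <;> simp <;> decide
        simp only [this, add_mul, Finset.sum_add_distrib, ha', hb', add_zero]
      · intro g hg
        refine ⟨?_, gen g hg⟩
        rcases List.mem_cons.1 hg with rfl | hg'
        · exact hlt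
        · exact (twoOctads_facts.1 g hg').1
    have all : ∀ m ∈ xorSpan codeBasis, m < 2 ^ 24 ∧ ∑ p, ofMaskW m p * y p = 0 := by
      apply xorSpan_induction
      · exact ⟨by norm_num, Finset.sum_eq_zero fun p _ => by simp [ofMaskW]⟩
      · rintro a b ⟨ha, ha'⟩ ⟨hb, hb'⟩
        refine ⟨Nat.xor_lt_two_pow ha hb, ?_⟩
        have : ∀ p, ofMaskW (a ^^^ b) p = ofMaskW a p + ofMaskW b p := fun p => by
          simp only [ofMaskW, Nat.testBit_xor]
          cases Nat.testBit a (idx p) <;> cases Nat.testBit b (idx p) <;> simp <;> decide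
        simp only [this, add_mul, Finset.sum_add_distrib, ha', hb', add_zero]
      · exact fun g hg => span g (twoOctads_facts.2.2 g hg)
    obtain ⟨hm, hz⟩ := all _ (mem_code.1 hw)
    rwa [show ofMaskW (wmask w) = w from wmask_injective (wmask_ofMaskW hm)] at hz
  by_cases hdot : ∑ p, ofMaskW oneOctad p * x p = 0
  · refine Or.inl (mem_M24_of_words fun g hg => ?_)
    rcases List.mem_cons.1 hg with rfl | hg'
    · exact horth x (Or.inl rfl) hdot
    · exact image τ hτ g hg'
  · refine Or.inr (mem_M24_of_words fun g hg => ?_)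
    rw [actW_mul]
    have hswap : ∀ y : GolayPt → ZMod 2, y none + 1 = y o₀ → actW (Equiv.swap none o₀) y = y + e := by
      intro y hy
      funext p
      show y ((Equiv.swap none o₀).symm p) = y p + e p
      rw [Equiv.symm_swap, he]
      by_cases h1 : p = none
      · subst h1; rw [Equiv.swap_apply_left, ← hy]; simp
      · by_cases h2 : p = o₀
        · subst h2; rw [Equiv.swap_apply_right]; simp [← hy, add_assoc, ZModModule.add_self]
        · rw [Equiv.swap_apply_of_ne_of_ne h1 h2]; simp [h1, h2]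
    rcases List.mem_cons.1 hg with rfl | hg'
    · rw [← hx, hswap x (by rw [hxn, hx0]; decide)]
      refine horth _ (Or.inr rfl) ?_
      simp only [Pi.add_apply, mul_add, Finset.sum_add_distrib, edot]
      have h01 : ∀ a : ZMod 2, a ≠ 0 → a = 1 := by decide
      rw [h01 _ hdot]
      simp [ofMaskW, hbn, hb0]
      decide
    · have hy := image τ hτ g hg'
      obtain ⟨-, -, gn, g0⟩ := twoOctads_facts.1 g hg'
      have e1 : actW τ (ofMaskW g) none = 1 := by
        show ofMaskW g (τ.symm none) = 1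
        rw [show τ.symm none = none from (Equiv.symm_apply_eq τ).2 hn.symm, ofMaskW, if_pos gn]
      have e2 : actW τ (ofMaskW g) o₀ = 1 := by
        show ofMaskW g (τ.symm o₀) = 1
        rw [show τ.symm o₀ = o₀ from (Equiv.symm_apply_eq τ).2 h0.symm, ofMaskW, if_pos g0]
      have : actW (Equiv.swap none o₀) (actW τ (ofMaskW g)) = actW τ (ofMaskW g) := by
        generalize actW τ (ofMaskW g) = y at e1 e2
        funext p
        show y ((Equiv.swap none o₀).symm p) = y p
        rw [Equiv.symm_swap]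
        by_cases h1 : p = none
        · subst h1; rw [Equiv.swap_apply_left, e1, e2]
        · by_cases h2 : p = o₀
          · subst h2; rw [Equiv.swap_apply_right, e1, e2]
          · rw [Equiv.swap_apply_of_ne_of_ne h1 h2]
      rw [this]
      exact hy

/-- the twenty-two remaining points -/
@[implicit_reducible]
def actM22 : MulAction Cfsg.Spor.M22 {p : GolayPt // p ≠ none ∧ p ≠ o₀} where
  smul g x := ⟨(g : Equiv.Perm GolayPt) x.1,
    fun h => x.2.1 ((g : Equiv.Perm GolayPt).injective (h.trans g.2.1.2.symm)),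
    fun h => x.2.2 ((g : Equiv.Perm GolayPt).injective (h.trans g.2.2.symm))⟩
  one_smul _ := rfl
  mul_smul _ _ _ := rfl

theorem M22_pretransitive : letI := actM22
    IsPretransitive Cfsg.Spor.M22 {p : GolayPt // p ≠ none ∧ p ≠ o₀} := by
  letI := actM22
  refine ⟨fun a b => ?_⟩
  obtain ⟨σ, hσ, h⟩ := M24_trans (k := 3) (by norm_num)
    ⟨![none, o₀, a.1], by
      intro i j h; fin_cases i <;> fin_cases j <;> simp_all [Ne.symm a.2.1, a.2.1, Ne.symm a.2.2, a.2.2]⟩
    ⟨![none, o₀, b.1], by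
      intro i j h; fin_cases i <;> fin_cases j <;> simp_all [Ne.symm b.2.1, b.2.1, Ne.symm b.2.2, b.2.2]⟩
  exact ⟨⟨σ, ⟨hσ, h 0⟩, h 1⟩, Subtype.ext (h 2)⟩

theorem stab_M22_inj : letI := actM22
    ∀ x y : {p : GolayPt // p ≠ none ∧ p ≠ o₀},
      stabilizer Cfsg.Spor.M22 x = stabilizer Cfsg.Spor.M22 y → x = y := by
  letI := actM22
  intro x y exy
  by_contra hne
  have hxy : x.1 ≠ y.1 := fun e => hne (Subtype.ext e)
  obtain ⟨z, hz⟩ : (({none, o₀, x.1, y.1} : Finset GolayPt)ᶜ).Nonempty := by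
    rw [← Finset.card_pos, Finset.card_compl]
    have := Finset.card_le_four (a := (none : GolayPt)) (b := o₀) (c := x.1) (d := y.1)
    rw [Fintype.card_option, ZMod.card]
    omega
  simp only [Finset.mem_compl, Finset.mem_insert, Finset.mem_singleton, not_or] at hz
  obtain ⟨hzn, hz0, hzx, hzy⟩ := hz
  obtain ⟨k, hk, hm⟩ := M24_trans (k := 4) (by norm_num)
    ⟨![none, o₀, x.1, y.1], by
      intro i j h
      fin_cases i <;> fin_cases j <;> simp_all [Ne.symm x.2.1, x.2.1, Ne.symm x.2.2, x.2.2,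
        Ne.symm y.2.1, y.2.1, Ne.symm y.2.2, y.2.2, Ne.symm hxy]⟩
    ⟨![none, o₀, x.1, z], by
      intro i j h
      fin_cases i <;> fin_cases j <;> simp_all [Ne.symm x.2.1, x.2.1, Ne.symm x.2.2, x.2.2,
        Ne.symm hzn, hzn, Ne.symm hz0, hz0, Ne.symm hzx, hzx]⟩
  have hmem : (⟨k, ⟨hk, hm 0⟩, hm 1⟩ : Cfsg.Spor.M22) ∈ stabilizer Cfsg.Spor.M22 y :=
    exy ▸ Subtype.ext (hm 2)
  exact hzy ((hm 3).symm.trans (congrArg Subtype.val hmem))

/-- Every automorphism is conjugation by an element of `M24` permuting the two fixed points. -/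
theorem aut_M22_conj (α : MulAut Cfsg.Spor.M22) :
    ∃ τ ∈ M24, ((τ none = none ∧ τ o₀ = o₀) ∨ (τ none = o₀ ∧ τ o₀ = none)) ∧
      ∀ g : Cfsg.Spor.M22, τ * (g : Equiv.Perm GolayPt) * τ⁻¹ = (α g : Equiv.Perm GolayPt) := by
  letI := actM22
  haveI := M22_pretransitive
  let e : Cfsg.Spor.M22 →* M24 := Subgroup.inclusion (inf_le_left.trans inf_le_left)
  have he : Function.Injective e := Subgroup.inclusion_injective _
  have hrange : e.range = stabilizer M24 (none : GolayPt) ⊓ stabilizer M24 o₀ := by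
    ext g
    exact ⟨fun ⟨k, hk⟩ => hk ▸ ⟨k.2.1.2, k.2.2⟩, fun h => ⟨⟨g.1, ⟨g.2, h.1⟩, h.2⟩, rfl⟩⟩
  have hstab : ∀ x : {p : GolayPt // p ≠ none ∧ p ≠ o₀}, (stabilizer Cfsg.Spor.M22 x).map e =
      stabilizer M24 (none : GolayPt) ⊓ stabilizer M24 o₀ ⊓ stabilizer M24 x.1 := fun x => by
    ext g
    exact ⟨fun ⟨k, hk, hkg⟩ => hkg ▸ ⟨⟨k.2.1.2, k.2.2⟩, congrArg Subtype.val hk⟩,
      fun h => ⟨⟨g.1, ⟨g.2, h.1.1⟩, h.1.2⟩, Subtype.ext h.2, rfl⟩⟩
  have hno : (none : GolayPt) ≠ o₀ := Option.some_ne_none _ ∘ Eq.symm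
  have hcard : Nat.card Cfsg.Spor.M22 = 443520 := by
    rw [← card_stabilizer_two hno, ← hrange]
    exact Nat.card_congr (MonoidHom.ofInjective he).toEquiv
  have hX : Nat.card {p : GolayPt // p ≠ none ∧ p ≠ o₀} = 22 := by
    rw [Nat.card_eq_fintype_card, Fintype.card_subtype]
    have : (Finset.univ.filter fun x => x ≠ none ∧ x ≠ o₀) = ({none, o₀} : Finset GolayPt)ᶜ := by
      ext x; simp
    rw [this, Finset.card_compl, Finset.card_pair hno, Fintype.card_option, ZMod.card]
  obtain ⟨σ, hσ⟩ := perm_of_aut (G := Cfsg.Spor.M22) (X := {p : GolayPt // p ≠ none ∧ p ≠ o₀}) (fun H hH => by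
      have h1 := H.card_mul_index
      rw [hH, hX, hcard] at h1
      have hle := hrange ▸ Subgroup.map_le_range e H
      obtain ⟨q, hqn, hq0, h2⟩ := eq_stab_three_of_card (H := H.map e) (hle.trans inf_le_left)
        (hle.trans inf_le_right) (by rw [Subgroup.card_map_of_injective he]; omega)
      exact ⟨⟨q, hqn, hq0⟩, Subgroup.map_injective he (h2.trans (hstab ⟨q, hqn, hq0⟩).symm)⟩)
    stab_M22_inj α
  let τ : Equiv.Perm GolayPt := Equiv.Perm.ofSubtype σ
  have hτ : ∀ x : {p : GolayPt // p ≠ none ∧ p ≠ o₀}, τ x.1 = (σ x).1 := Equiv.Perm.ofSubtype_apply_coe σ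
  have hτn : τ none = none := Equiv.Perm.ofSubtype_apply_of_not_mem σ (by simp)
  have hτ0 : τ o₀ = o₀ := Equiv.Perm.ofSubtype_apply_of_not_mem σ (by simp)
  have hconj : ∀ g : Cfsg.Spor.M22, τ * (g : Equiv.Perm GolayPt) * τ⁻¹ = (α g : Equiv.Perm GolayPt) := fun g => by
    ext1 y
    obtain ⟨x, rfl⟩ := τ.surjective y
    rw [Equiv.Perm.mul_apply, Equiv.Perm.mul_apply, show τ⁻¹ (τ x) = x from τ.symm_apply_apply x]
    by_cases hx : x = none
    · subst hx
      rw [show (g : Equiv.Perm GolayPt) none = none from g.2.1.2, hτn]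
      exact (α g).2.1.2.symm
    by_cases hx0 : x = o₀
    · subst hx0
      rw [show (g : Equiv.Perm GolayPt) o₀ = o₀ from g.2.2, hτ0]
      exact (α g).2.2.symm
    rw [hτ ⟨x, hx, hx0⟩]
    exact (hτ (g • ⟨x, hx, hx0⟩)).trans (congrArg Subtype.val (hσ g ⟨x, hx, hx0⟩))
  rcases mem_M24_or_swap hτn hτ0 (fun g hg => (hconj ⟨g, hg⟩).symm ▸ (α ⟨g, hg⟩).2) (fun g hg => by
    have h := hconj (α.symm ⟨g, hg⟩)
    rw [MulEquiv.apply_symm_apply] at h
    simp only at h
    rw [← h]
    simpa [mul_assoc] using (α.symm ⟨g, hg⟩).2) with h | h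
  · exact ⟨τ, h, Or.inl ⟨hτn, hτ0⟩, hconj⟩
  · refine ⟨_, h, Or.inr ⟨by rw [Equiv.Perm.mul_apply, hτn, Equiv.swap_apply_left],
      by rw [Equiv.Perm.mul_apply, hτ0, Equiv.swap_apply_right]⟩, fun g => ?_⟩
    rw [mul_inv_rev, ← mul_assoc, show Equiv.swap none o₀ * τ * (g : Equiv.Perm GolayPt) * τ⁻¹ =
      Equiv.swap none o₀ * (τ * (g : Equiv.Perm GolayPt) * τ⁻¹) by simp [mul_assoc], hconj g]
    -- the swap centralises M22
    ext1 y
    rw [Equiv.Perm.mul_apply, Equiv.Perm.mul_apply, Equiv.swap_inv]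
    have a1 : (α g : Equiv.Perm GolayPt) none = none := (α g).2.1.2
    have a2 : (α g : Equiv.Perm GolayPt) o₀ = o₀ := (α g).2.2
    by_cases h1 : y = none
    · subst h1; rw [Equiv.swap_apply_left, a2, Equiv.swap_apply_right, a1]
    by_cases h2 : y = o₀
    · subst h2; rw [Equiv.swap_apply_right, a1, Equiv.swap_apply_left, a2]
    rw [Equiv.swap_apply_of_ne_of_ne h1 h2, Equiv.swap_apply_of_ne_of_ne
      (fun e => h1 ((α g : Equiv.Perm GolayPt).injective (e.trans a1.symm)))
      (fun e => h2 ((α g : Equiv.Perm GolayPt).injective (e.trans a2.symm)))]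

theorem card_out_M22 : Nat.card (Cfsg.Out Cfsg.Spor.M22) = 2 := by
  show (Cfsg.Inn Cfsg.Spor.M22).index = 2
  have hno : (none : GolayPt) ≠ o₀ := Option.some_ne_none _ ∘ Eq.symm
  obtain ⟨s, hs, hsv⟩ := M24_trans (k := 2) (by norm_num)
    ⟨![none, o₀], by intro i j h; fin_cases i <;> fin_cases j <;> simp_all [Ne.symm hno]⟩
    ⟨![o₀, none], by intro i j h; fin_cases i <;> fin_cases j <;> simp_all [Ne.symm hno]⟩
  have s1 : s none = o₀ := hsv 0
  have s2 : s o₀ = none := hsv 1
  have mem : ∀ u : Equiv.Perm GolayPt, u ∈ M24 →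
      ((u none = none ∧ u o₀ = o₀) ∨ (u none = o₀ ∧ u o₀ = none)) →
      ∀ g ∈ Cfsg.Spor.M22, u * g * u⁻¹ ∈ Cfsg.Spor.M22 := by
    intro u hu hcase g hg
    have gn : g none = none := hg.1.2
    have g0 : g o₀ = o₀ := hg.2
    have ui : ∀ p q, u p = q → (u * g * u⁻¹) q = u (g p) := fun p q e => by
      rw [Equiv.Perm.mul_apply, Equiv.Perm.mul_apply, show u⁻¹ q = p from (Equiv.symm_apply_eq u).2 e.symm]
    have hM : g ∈ M24 := hg.1.1
    refine ⟨⟨M24.mul_mem (M24.mul_mem hu hM) (M24.inv_mem hu), ?_⟩, ?_⟩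
    · show (u * g * u⁻¹) none = none
      rcases hcase with ⟨a, b⟩ | ⟨a, b⟩
      · rw [ui none none a, gn, a]
      · rw [ui o₀ none b, g0, b]
    · show (u * g * u⁻¹) o₀ = o₀
      rcases hcase with ⟨a, b⟩ | ⟨a, b⟩
      · rw [ui o₀ o₀ b, g0, b]
      · rw [ui none o₀ a, gn, a]
  have s1' : s⁻¹ none = o₀ := (Equiv.symm_apply_eq s).2 s2.symm
  have s2' : s⁻¹ o₀ = none := (Equiv.symm_apply_eq s).2 s1.symm
  let a : MulAut Cfsg.Spor.M22 :=
    { toFun := fun g => ⟨s * g * s⁻¹, mem s hs (Or.inr ⟨s1, s2⟩) g g.2⟩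
      invFun := fun g => ⟨s⁻¹ * g * s⁻¹⁻¹, mem s⁻¹ (inv_mem hs) (Or.inr ⟨s1', s2'⟩) g g.2⟩
      left_inv := fun g => Subtype.ext (by simp [mul_assoc])
      right_inv := fun g => Subtype.ext (by simp [mul_assoc])
      map_mul' := fun g h => Subtype.ext (by simp [mul_assoc]) }
  -- an element of M24 centralising M22 fixes the other points
  have central : ∀ v : Equiv.Perm GolayPt, v ∈ M24 →
      ((v none = none ∧ v o₀ = o₀) ∨ (v none = o₀ ∧ v o₀ = none)) →
      (∀ g : Cfsg.Spor.M22, v * (g : Equiv.Perm GolayPt) * v⁻¹ = (g : Equiv.Perm GolayPt)) →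
      v = 1 := by
    intro v hv hcase hvc
    letI := actM22
    refine eq_one_of_fix_ten hv (F := ({none, o₀} : Finset GolayPt)ᶜ) (by
      rw [Finset.card_compl, Finset.card_pair hno, Fintype.card_option, ZMod.card]; norm_num) fun p hp => ?_
    simp only [Finset.mem_compl, Finset.mem_insert, Finset.mem_singleton, not_or] at hp
    have hv1 : v p ≠ none ∧ v p ≠ o₀ := by
      rcases hcase with ⟨a, b⟩ | ⟨a, b⟩
      · exact ⟨fun e => hp.1 (v.injective (e.trans a.symm)), fun e => hp.2 (v.injective (e.trans b.symm))⟩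
      · exact ⟨fun e => hp.2 (v.injective (e.trans b.symm)), fun e => hp.1 (v.injective (e.trans a.symm))⟩
    have := stab_M22_inj ⟨v p, hv1⟩ ⟨p, hp⟩ (by
      ext g
      rw [mem_stabilizer_iff, mem_stabilizer_iff, Subtype.ext_iff, Subtype.ext_iff]
      show (g : Equiv.Perm GolayPt) (v p) = v p ↔ (g : Equiv.Perm GolayPt) p = p
      conv_lhs => rw [← hvc g]
      rw [Equiv.Perm.mul_apply, Equiv.Perm.mul_apply, show v⁻¹ (v p) = p from v.symm_apply_apply p]
      exact v.injective.eq_iff)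
    exact congrArg Subtype.val this
  have ha : a ∉ Cfsg.Inn Cfsg.Spor.M22 := by
    rintro ⟨k, hk⟩
    have hk' : ∀ g : Cfsg.Spor.M22, (k : Equiv.Perm GolayPt) * g * (k : Equiv.Perm GolayPt)⁻¹ =
        s * (g : Equiv.Perm GolayPt) * s⁻¹ :=
      fun g => congrArg (fun f : MulAut Cfsg.Spor.M22 => ((f g : Cfsg.Spor.M22) : Equiv.Perm GolayPt)) hk
    have hk1 : (k : Equiv.Perm GolayPt) none = none := k.2.1.2
    have hk2 : (k : Equiv.Perm GolayPt) o₀ = o₀ := k.2.2
    have e := central ((k : Equiv.Perm GolayPt)⁻¹ * s) (mul_mem (inv_mem k.2.1.1) hs)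
      (Or.inr ⟨by rw [Equiv.Perm.mul_apply, s1]; exact (Equiv.symm_apply_eq _).2 hk2.symm,
        by rw [Equiv.Perm.mul_apply, s2]; exact (Equiv.symm_apply_eq _).2 hk1.symm⟩) fun g => by
      calc (k : Equiv.Perm GolayPt)⁻¹ * s * g * ((k : Equiv.Perm GolayPt)⁻¹ * s)⁻¹
          = (k : Equiv.Perm GolayPt)⁻¹ * (s * g * s⁻¹) * k := by simp [mul_assoc]
        _ = g := by rw [← hk' g]; simp [mul_assoc]
    rw [inv_mul_eq_one] at e
    exact hno (by rw [← s1, ← e, hk1])
  refine Subgroup.index_eq_two_iff.2 ⟨a, fun b => ?_⟩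
  by_cases hb : b ∈ Cfsg.Inn Cfsg.Spor.M22
  · exact Or.inr ⟨hb, fun h => ha (by simpa using mul_mem (inv_mem hb) h)⟩
  · refine Or.inl ⟨?_, hb⟩
    obtain ⟨τ, hτ, hcase, hτg⟩ := aut_M22_conj b
    rcases hcase with ⟨c1, c2⟩ | ⟨c1, c2⟩
    · exact absurd ⟨⟨τ, ⟨hτ, c1⟩, c2⟩, MulEquiv.ext fun g => Subtype.ext (hτg g)⟩ hb
    · refine ⟨⟨τ * s, ⟨mul_mem hτ hs, ?_⟩, ?_⟩, MulEquiv.ext fun g => Subtype.ext ?_⟩
      · show (τ * s) none = none
        rw [Equiv.Perm.mul_apply, s1, c2]
      · show (τ * s) o₀ = o₀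
        rw [Equiv.Perm.mul_apply, s2, c1]
      · show τ * s * (g : Equiv.Perm GolayPt) * (τ * s)⁻¹ = ((b (a g)) : Equiv.Perm GolayPt)
        rw [← hτg]
        show _ = τ * (s * (g : Equiv.Perm GolayPt) * s⁻¹) * τ⁻¹
        simp [mul_assoc]

end Cfsg.Agent.Spor.MathieuOutTwo
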