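import Cfsg.Agent.Lib.Spor.HSUnique
import Cfsg.Agent.Lib.Spor.HsConfig
import Cfsg.Agent.Lib.Spor.MathieuOutTwo
import Cfsg.Prelude.Def_Spor_Conway
import Cfsg.Prelude.Def_Spor_Mathieu

/-!
A transitive group of degree 100 with point stabiliser M22 and subdegrees 1, 22, 77 is the
Higman-Sims group.
-/

set_option autoImplicit false
set_option maxRecDepth 100000

namespace Cfsg.Agent.Spor.HSUnique

open Cfsg MulAction Finset

section generic

variable {P Ω : Type*} [Group P] [MulAction P Ω] [Fintype Ω] [DecidableEq Ω] {Γ : SimpleGraph Ω}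
  [DecidableRel Γ.Adj]

theorem nb_smul (inv : ∀ (g : P) (x y : Ω), Γ.Adj (g • x) (g • y) ↔ Γ.Adj x y) (g : P) (x : Ω) :
    nb Γ (g • x) = (nb Γ x).map ⟨_, MulAction.injective g⟩ := by
  ext y
  simp only [mem_nb, mem_map, Function.Embedding.coeFn_mk]
  constructor
  · intro hy
    refine ⟨g⁻¹ • y, ?_, smul_inv_smul g y⟩
    rw [← inv g, smul_inv_smul]
    exact hy
  · rintro ⟨z, hz, rfl⟩
    exact (inv g x z).2 hz

theorem rank3_params [IsPretransitive P Ω]
    (inv : ∀ (g : P) (x y : Ω), Γ.Adj (g • x) (g • y) ↔ Γ.Adj x y) (hcard : Fintype.card Ω = 100) (a : Ω)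
    (hdeg : (nb Γ a).card = 22) (hlam : ∀ y z, Γ.Adj a y → Γ.Adj a z → ¬ Γ.Adj y z)
    (htr : ∀ y y', y ≠ a → ¬ Γ.Adj a y → y' ≠ a → ¬ Γ.Adj a y' → ∃ g : P, g • a = a ∧ g • y = y') :
    Params Γ := by
  have hnb := nb_smul (Γ := Γ) inv
  have hdeg' : ∀ v, (nb Γ v).card = 22 := fun v => by
    obtain ⟨g, rfl⟩ := exists_smul_eq P a v
    rw [hnb, card_map, hdeg]
  have hlam0 : ∀ y, Γ.Adj a y → nb Γ a ∩ nb Γ y = ∅ := fun y hy =>
    eq_empty_iff_forall_notMem.2 fun z hz => by
      rw [mem_inter, mem_nb, mem_nb] at hz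
      exact hlam y z hy hz.1 hz.2
  have hconst : ∀ y y', y ≠ a → ¬ Γ.Adj a y → y' ≠ a → ¬ Γ.Adj a y' →
      (nb Γ a ∩ nb Γ y).card = (nb Γ a ∩ nb Γ y').card := fun y y' h1 h2 h3 h4 => by
    obtain ⟨g, ga, gy⟩ := htr y y' h1 h2 h3 h4
    conv_rhs => rw [← gy, ← ga]
    rw [hnb, hnb, ← map_inter, card_map]
  have hmu0 : ∀ y, y ≠ a → ¬ Γ.Adj a y → (nb Γ a ∩ nb Γ y).card = 6 := by
    intro y h1 h2
    have hsum : ∑ w ∈ far Γ a, (nb Γ a ∩ nb Γ w).card = 462 := by
      rw [swap_count]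
      have : ∀ x ∈ nb Γ a, ((far Γ a).filter fun w => x ∈ nb Γ w).card = 21 := by
        intro x hx
        rw [mem_nb] at hx
        have e : ((far Γ a).filter fun w => x ∈ nb Γ w) = (nb Γ x).erase a := by
          ext w
          simp only [mem_filter, mem_far, mem_nb, mem_erase]
          constructor
          · rintro ⟨⟨h, -⟩, h'⟩; exact ⟨h, h'.symm⟩
          · rintro ⟨h, h'⟩; exact ⟨⟨h, fun ha => hlam x w hx ha h'⟩, h'.symm⟩
        rw [e, card_erase_of_mem ((mem_nb Γ).2 hx.symm), hdeg']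
      rw [sum_congr rfl this, sum_const, hdeg]
      rfl
    have hfc : (far Γ a).card = 77 := by
      have e : far Γ a = univ \ insert a (nb Γ a) := by
        ext v
        simp [mem_far, mem_nb]
      rw [e, card_sdiff_of_subset (subset_univ _), card_univ, hcard,
        card_insert_of_notMem (fun hm => Γ.irrefl ((mem_nb Γ).1 hm)), hdeg]
    rw [sum_congr rfl (fun w hw => hconst w y ((mem_far a).1 hw).1 ((mem_far a).1 hw).2 h1 h2), sum_const,
      hfc, smul_eq_mul] at hsum
    omega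
  refine ⟨hcard, hdeg', fun v w hvw => ?_, fun v w hne hvw => ?_⟩
  · obtain ⟨g, rfl⟩ := exists_smul_eq P a v
    rw [← smul_inv_smul g w] at hvw ⊢
    rw [hnb, hnb, ← map_inter, hlam0 _ ((inv g _ _).1 hvw), map_empty]
  · obtain ⟨g, rfl⟩ := exists_smul_eq P a v
    rw [← smul_inv_smul g w] at hvw hne ⊢
    rw [hnb, hnb, ← map_inter, card_map,
      hmu0 _ (fun e => hne (by rw [e])) (fun e => hvw ((inv g _ _).2 e))]

/-- the model graph -/
abbrev modelB : Set (Finset (Fin 22)) := (HSGraph.model : Set (Finset (Fin 22)))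

/-- the model group -/
noncomputable def modelH : Subgroup (HSGraph.autSub modelB) :=
  (HSGraph.hs_group (Fintype.card_fin 22) HSGraph.model_steiner).2.choose

theorem modelH_spec : IsHS ↥modelH :=
  (HSGraph.hs_group (Fintype.card_fin 22) HSGraph.model_steiner).2.choose_spec

omit [DecidableRel Γ.Adj] in
theorem eq_model [FaithfulSMul P Ω] (inv : ∀ (g : P) (x y : Ω), Γ.Adj (g • x) (g • y) ↔ Γ.Adj x y)
    [DecidableRel Γ.Adj] (hp : Params Γ) (hc : Nat.card P = 44352000) : Nonempty (P ≃* ↥modelH) := by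
  classical
  obtain ⟨φ⟩ := exists_model_iso hp
  have hmem : ∀ g : P, φ.toEquiv.permCongrHom (toPermHom P Ω g) ∈ HSGraph.autSub modelB := fun g x y => by
    obtain ⟨x, rfl⟩ := φ.toEquiv.surjective x
    obtain ⟨y, rfl⟩ := φ.toEquiv.surjective y
    simp only [Equiv.permCongrHom_coe, Equiv.permCongr_apply, Equiv.symm_apply_apply, toPermHom_apply,
      toPerm_apply]
    exact φ.map_rel_iff.trans ((inv g x y).trans φ.map_rel_iff.symm)
  let f : P →* HSGraph.autSub modelB :=
    (φ.toEquiv.permCongrHom.toMonoidHom.comp (toPermHom P Ω)).codRestrict _ hmem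
  have hfi : Function.Injective f := fun a b e =>
    MulAction.toPerm_injective (φ.toEquiv.permCongrHom.injective (congrArg Subtype.val e))
  set R := f.range with hR
  have hRc : Nat.card R = 44352000 := by
    rw [hR, ← Nat.card_congr (MonoidHom.ofInjective hfi).toEquiv, hc]
  have hA := (HSGraph.hs_group (Fintype.card_fin 22) HSGraph.model_steiner).1
  obtain ⟨hs, hH⟩ := modelH_spec
  haveI : Finite (HSGraph.autSub modelB) := Nat.finite_of_card_ne_zero (by rw [hA]; norm_num)
  have hidx : R.index = 2 := by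
    have := R.card_mul_index
    rw [hRc, hA] at this
    omega
  haveI : R.Normal := Subgroup.normal_of_index_eq_two hidx
  haveI := hs
  have hle : modelH ≤ R := by
    rcases IsSimpleGroup.eq_bot_or_eq_top_of_normal (R.subgroupOf modelH) inferInstance with h | h
    · exfalso
      have hd : (R.subgroupOf modelH).index ≤ 2 :=
        hidx ▸ Nat.le_of_dvd (by omega) (Subgroup.relIndex_dvd_index_of_normal R modelH)
      rw [h, Subgroup.index_bot, hH] at hd
      omega
    · exact Subgroup.subgroupOf_eq_top.1 h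
  have heq : modelH = R := Subgroup.eq_of_le_of_card_ge hle (le_of_eq (hRc.trans hH.symm))
  exact ⟨(MonoidHom.ofInjective hfi).trans (MulEquiv.subgroupCongr heq.symm)⟩

end generic

/-! ### the lattice group -/

section lattice

local notation "Zv" => GolayPt → ℤ

/-- the hundred vectors as elements of the lattice -/
abbrev Om : Type := {x : ↥leechLattice // (x : Zv) ∈ hs100}

theorem hs_lam : ((hsList.filter fun l => decide (dotInt hsPt (vecOf l) = 8)).all fun l =>
    (hsList.filter fun m => decide (dotInt hsPt (vecOf m) = 8)).all fun m =>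
      decide (dotInt (vecOf l) (vecOf m) ≠ 8)) = true := by decide +kernel

theorem hs_graph_group : ∃ e : ↥(pairStab hsVec) ≃* ↥modelH, True := by
  classical
  set P := pairStab hsVec
  set v : ↥leechLattice := refU
  set w : ↥leechLattice := hsVec - refU with hw
  have hone : ∀ x : ↥leechLattice, x ∈ hsSet v w ↔ (x : Zv) ∈ hs100 := fun x => by
    have := hsSet_image (v := v) (w := w) (k := 1) (one_smul _ _) (one_smul _ _) x
    rwa [one_smul] at this
  have hclosed : ∀ (g : P) (x : ↥leechLattice), (x : Zv) ∈ hs100 → (((g : ↥Co0) • x : ↥leechLattice) : Zv) ∈ hs100 := by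
    intro g x hx
    obtain ⟨g1, g2⟩ : (g : ↥Co0) • refU = refU ∧ (g : ↥Co0) • hsVec = hsVec := g.2
    have g3 : (g : ↥Co0) • w = w := by rw [hw, sub_eq_add_neg, co0_add, co0_neg, g1, g2]
    obtain ⟨a, b, c⟩ := (hone x).2 hx
    refine (hone _).1 ⟨(g.1.2.2 x).trans a, ?_, ?_⟩
    · have := co0_dot (g : ↥Co0) v x
      rw [show (g : ↥Co0) • v = v from g1] at this
      exact this.trans b
    · have := co0_dot (g : ↥Co0) w x
      rw [g3] at this
      exact this.trans c
  letI : MulAction P Om :=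
    { smul := fun g x => ⟨(g : ↥Co0) • x.1, hclosed g x.1 x.2⟩
      one_smul := fun x => Subtype.ext (one_smul _ x.1)
      mul_smul := fun g g' x => Subtype.ext (mul_smul (g : ↥Co0) (g' : ↥Co0) x.1) }
  haveI : Finite Om := by
    have : (Finite ↥hs100) := Set.finite_of_ncard_ne_zero (by rw [card_hs100]; norm_num)
    exact Finite.of_injective (fun x : Om => (⟨(x.1 : Zv), x.2⟩ : ↥hs100))
      fun a b e => Subtype.ext (Subtype.ext (congrArg Subtype.val e :))
  haveI : Fintype Om := Fintype.ofFinite _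
  have hOc : Fintype.card Om = 100 := by
    rw [← Nat.card_eq_fintype_card, ← card_hs100, ← Nat.card_coe_set_eq]
    exact Nat.card_congr ⟨fun x => ⟨(x.1 : Zv), x.2⟩, fun y => ⟨⟨y.1, y.2.1.1⟩, y.2⟩, fun _ => rfl, fun _ => rfl⟩
  let a : Om := ⟨⟨hsPt, hsPt_mem.1.1⟩, hsPt_mem⟩
  obtain ⟨-, -, -, -, htr⟩ := hs_free_inv
  haveI : IsPretransitive P Om := by
    have hr : ∀ x : Om, ∃ g : P, g • a = x := fun x => by
      obtain ⟨ha, g, hg, e⟩ := htr _ x.2
      exact ⟨⟨g, hg.1, hg.2⟩, Subtype.ext (Subtype.ext e)⟩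
    exact ⟨fun x y => by
      obtain ⟨g, rfl⟩ := hr x
      obtain ⟨g', rfl⟩ := hr y
      exact ⟨g' * g⁻¹, by rw [mul_smul, inv_smul_smul]⟩⟩
  let Γ : SimpleGraph Om :=
    { Adj := fun x y => x ≠ y ∧ dotInt (x.1 : Zv) (y.1 : Zv) = 8
      symm := ⟨fun x y h => ⟨h.1.symm, by rw [dot_comm']; exact h.2⟩⟩
      loopless := ⟨fun x h => h.1 rfl⟩ }
  have inv : ∀ (g : P) (x y : Om), Γ.Adj (g • x) (g • y) ↔ Γ.Adj x y := fun g x y => by
    show (g • x ≠ g • y ∧ _) ↔ (x ≠ y ∧ _)
    rw [(MulAction.injective g).ne_iff]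
    refine and_congr_right fun _ => ?_
    rw [← co0_dot (g : ↥Co0) x.1 y.1]
    rfl
  have hpp : dotInt hsPt hsPt = 32 := by decide +kernel
  have hadj : ∀ y : Om, Γ.Adj a y ↔ dotInt hsPt (y.1 : Zv) = 8 := fun y => by
    refine ⟨fun h => h.2, fun h => ⟨fun e => ?_, h⟩⟩
    subst e
    rw [show ((a.1 : ↥leechLattice) : Zv) = hsPt from rfl, hpp] at h
    omega
  have hr3 := hs_rank_three v w a.1
  have hv48 : sqNorm (v : Zv) = 48 := uRef_spec.2
  have hw48 : sqNorm (w : Zv) = 48 ∧ dotInt (v : Zv) (w : Zv) = -32 := by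
    constructor <;> decide +kernel
  obtain ⟨h22, -, htr2⟩ := hr3 hv48 hw48.1 hw48.2 ((hone _).2 a.2)
  have hp : Params Γ := by
    refine rank3_params inv hOc a ?_ (fun y z hy hz hyz => ?_) (fun y y' h1 h2 h3 h4 => ?_)
    · refine Eq.trans ?_ h22
      rw [← Set.ncard_coe_finset, ← Set.ncard_image_of_injective _
        (f := fun x : Om => x.1) Subtype.val_injective]
      congr 1
      ext x
      constructor
      · rintro ⟨y, hy, rfl⟩
        rw [mem_coe, mem_nb, hadj] at hy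
        exact ⟨(hone _).2 y.2, hy⟩
      · rintro ⟨hx, hd⟩
        exact ⟨⟨x, (hone x).1 hx⟩, by rw [mem_coe, mem_nb, hadj]; exact hd, rfl⟩
    · rw [hadj] at hy hz
      have hl := hs_lam
      simp only [List.all_eq_true, List.mem_filter, decide_eq_true_eq] at hl
      have := hl (lstOf (y.1 : Zv)) ⟨hs100_iff.1 y.2, by rwa [vecOf_lstOf]⟩ (lstOf (z.1 : Zv))
        ⟨hs100_iff.1 z.2, by rwa [vecOf_lstOf]⟩
      rw [vecOf_lstOf, vecOf_lstOf] at this
      exact this hyz.2
    · rw [hadj] at h2 h4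
      obtain ⟨g, g1, g2, g3, g4⟩ := htr2 y.1 ((hone _).2 y.2) y'.1 ((hone _).2 y'.2)
        (fun e => h1 (Subtype.ext e)) (fun e => h3 (Subtype.ext e)) (iff_of_false h2 h4)
      have g5 : g • hsVec = hsVec := by
        have e : hsVec = v + w := by rw [hw]; abel
        rw [e, co0_add, g1, g2]
      exact ⟨⟨g, g1, g5⟩, Subtype.ext g3, Subtype.ext g4⟩
  obtain ⟨hc, hs⟩ := hs_ref
  haveI := hs
  haveI : FaithfulSMul P Om := by
    have hker : (toPermHom P Om).ker = ⊥ := by
      rcases IsSimpleGroup.eq_bot_or_eq_top_of_normal (toPermHom P Om).ker inferInstance with h | h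
      · exact h
      · exfalso
        obtain ⟨y, hy⟩ : ∃ y : Om, y ≠ a := Fintype.exists_ne_of_one_lt_card (by rw [hOc]; norm_num) a
        obtain ⟨g, hg⟩ := exists_smul_eq P a y
        have : toPermHom P Om g = 1 := MonoidHom.mem_ker.1 (h ▸ Subgroup.mem_top g)
        exact hy (hg ▸ congrFun (congrArg DFunLike.coe this) a)
    exact ⟨fun {g g'} h => (MonoidHom.ker_eq_bot_iff _).1 hker (Equiv.ext h)⟩
  obtain ⟨e⟩ := eq_model (P := P) (Γ := Γ) inv hp hc
  exact ⟨e, trivial⟩

theorem leech_vectors : (Spor.leechV : ↥leechLattice) = -refU ∧ (Spor.leechU' : ↥leechLattice) = hsVec := by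
  constructor <;> refine Subtype.ext (funext ?_) <;> decide +kernel

theorem hs_equiv : Nonempty (↥(pairStab hsVec) ≃* ↥Cfsg.Spor.HS) := by
  obtain ⟨eV, eU⟩ := leech_vectors
  let f : ↥(pairStab hsVec) →* ↥Cfsg.Spor.HS :=
    { toFun := fun g => ⟨((g : ↥Co0) : Equiv.Perm ↥leechLattice), ⟨(g : ↥Co0).2, by
          show (g : ↥Co0) • Spor.leechV = Spor.leechV
          rw [eV, co0_neg, g.2.1]⟩, by
        show (g : ↥Co0) • Spor.leechU' = Spor.leechU'
        rw [eU]; exact g.2.2⟩
      map_one' := rfl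
      map_mul' := fun _ _ => rfl }
  refine ⟨MulEquiv.ofBijective f ⟨fun a b e => ?_, fun g => ?_⟩⟩
  · exact Subtype.ext (Subtype.ext (congrArg Subtype.val e :))
  · obtain ⟨σ, ⟨hσ, h1⟩, h2⟩ := g
    change σ • Spor.leechV = Spor.leechV at h1
    change σ • Spor.leechU' = Spor.leechU' at h2
    refine ⟨⟨⟨σ, hσ⟩, ?_, ?_⟩, rfl⟩
    · show (⟨σ, hσ⟩ : ↥Co0) • refU = refU
      have h3 : (⟨σ, hσ⟩ : ↥Co0) • (-refU) = -refU := eV ▸ h1
      rwa [co0_neg, neg_inj] at h3
    · show (⟨σ, hσ⟩ : ↥Co0) • hsVec = hsVec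
      exact eU ▸ h2

end lattice

/-! ### recognition -/

theorem m22_two_trans : letI := MathieuOutTwo.actM22
    ∀ x y x' y' : {p : GolayPt // p ≠ none ∧ p ≠ MathieuOutTwo.o₀}, x ≠ y → x' ≠ y' →
      ∃ g : Cfsg.Spor.M22, g • x = x' ∧ g • y = y' := by
  letI := MathieuOutTwo.actM22
  intro x y x' y' hxy hxy'
  have hno : (none : GolayPt) ≠ MathieuOutTwo.o₀ := Option.some_ne_none _ ∘ Eq.symm
  have mk : ∀ a b : {p : GolayPt // p ≠ none ∧ p ≠ MathieuOutTwo.o₀}, a ≠ b →
      Function.Injective ![none, MathieuOutTwo.o₀, a.1, b.1] := fun a b hab => by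
    have hab' : a.1 ≠ b.1 := fun e => hab (Subtype.ext e)
    intro i j h
    fin_cases i <;> fin_cases j <;> simp_all [Ne.symm a.2.1, a.2.1, Ne.symm a.2.2, a.2.2,
      Ne.symm b.2.1, b.2.1, Ne.symm b.2.2, b.2.2, Ne.symm hab']
  obtain ⟨σ, hσ, h⟩ := M24_trans (k := 4) (by norm_num) ⟨_, mk x y hxy⟩ ⟨_, mk x' y' hxy'⟩
  exact ⟨⟨σ, ⟨hσ, h 0⟩, h 1⟩, Subtype.ext (h 2), Subtype.ext (h 3)⟩

theorem card_M22 : Nat.card ↥Cfsg.Spor.M22 = 443520 := by
  have hno : (none : GolayPt) ≠ MathieuOutTwo.o₀ := Option.some_ne_none _ ∘ Eq.symm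
  rw [← card_stabilizer_two hno]
  exact Nat.card_congr
    { toFun := fun g => ⟨⟨g.1, g.2.1.1⟩, g.2.1.2, g.2.2⟩
      invFun := fun g => ⟨g.1.1, ⟨g.1.2, g.2.1⟩, g.2.2⟩
      left_inv := fun _ => rfl
      right_inv := fun _ => rfl }

/-- a subgroup of index twenty-two of M22 fixes one of the twenty-two points -/
theorem m22_index {H : Subgroup ↥Cfsg.Spor.M22} (hH : Nat.card H = 20160) : letI := MathieuOutTwo.actM22
    ∃ x : {p : GolayPt // p ≠ none ∧ p ≠ MathieuOutTwo.o₀}, H = stabilizer ↥Cfsg.Spor.M22 x := by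
  letI := MathieuOutTwo.actM22
  let e : ↥Cfsg.Spor.M22 →* M24 := Subgroup.inclusion (inf_le_left.trans inf_le_left)
  have he : Function.Injective e := Subgroup.inclusion_injective _
  obtain ⟨q, hqn, hq0, h2⟩ := MathieuOutTwo.eq_stab_three_of_card (H := H.map e)
    (by rintro _ ⟨k, -, rfl⟩; exact k.2.1.2) (by rintro _ ⟨k, -, rfl⟩; exact k.2.2)
    (by rw [Subgroup.card_map_of_injective he, hH])
  refine ⟨⟨q, hqn, hq0⟩, Subgroup.map_injective he (h2.trans ?_)⟩
  ext g
  exact ⟨fun h => ⟨⟨g.1, ⟨g.2, h.1.1⟩, h.1.2⟩, Subtype.ext h.2, rfl⟩,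
    fun ⟨k, hk, hkg⟩ => hkg ▸ ⟨⟨k.2.1.2, k.2.2⟩, congrArg Subtype.val hk⟩⟩

theorem recognition {Ω : Type*} [Fintype Ω] [DecidableEq Ω] (hΩ : Fintype.card Ω = 100)
    (G : Subgroup (Equiv.Perm Ω)) [IsPretransitive G Ω] (a : Ω)
    (e : stabilizer G a ≃* ↥Cfsg.Spor.M22) (b c : Ω)
    (hb : (orbit (stabilizer G a) b).ncard = 22) (hc : (orbit (stabilizer G a) c).ncard = 77) :
    Cfsg.Spor.IsoHS G := by
  classical
  have hK : Nat.card (stabilizer G a) = 443520 := (Nat.card_congr e.toEquiv).trans card_M22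
  have hG : Nat.card G = 44352000 := by
    rw [← (stabilizer G a).card_mul_index, hK, index_stabilizer_of_transitive, Nat.card_eq_fintype_card, hΩ]
  have hfix : ∀ y, y = a → (orbit (stabilizer G a) y).ncard = 1 := fun y hy => by
    subst hy
    rw [Set.ncard_eq_one]
    exact ⟨y, Set.eq_singleton_iff_unique_mem.2 ⟨mem_orbit_self y, fun z ⟨k, hk⟩ => hk ▸ k.2⟩⟩
  have hab : b ≠ a := fun e => by rw [hfix b e] at hb; omega
  have hac : c ≠ a := fun e => by rw [hfix c e] at hc; omega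
  have hcover : ∀ y, y ≠ a → y ∈ orbit (stabilizer G a) b ∨ y ∈ orbit (stabilizer G a) c := by
    intro y hy
    by_contra hno
    rw [not_or] at hno
    have hd : Disjoint (orbit (stabilizer G a) b) (orbit (stabilizer G a) c) := by
      rcases orbit.eq_or_disjoint (G := stabilizer G a) b c with h | h
      · rw [h] at hb; omega
      · exact h
    have hnot : ∀ d, d ≠ a → a ∉ orbit (stabilizer G a) d := by
      rintro d hd ⟨k, hk⟩
      exact hd (MulAction.injective (k : G)
        ((show (k : G) • d = a from hk).trans (show (k : G) • a = a from k.2).symm))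
    have hsub : orbit (stabilizer G a) b ∪ orbit (stabilizer G a) c ⊆ ({a, y} : Set Ω)ᶜ := by
      intro z hz hz'
      rcases hz' with rfl | hz'
      · rcases hz with h | h
        exacts [hnot b hab h, hnot c hac h]
      · rw [Set.mem_singleton_iff] at hz'
        subst hz'
        rcases hz with h | h
        exacts [hno.1 h, hno.2 h]
    have := Set.ncard_le_ncard hsub
    rw [Set.ncard_union_eq hd, hb, hc, Set.ncard_compl, Set.ncard_pair hy.symm,
      Nat.card_eq_fintype_card, hΩ] at this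
    omega
  let rel : Ω → Ω → Prop := fun x y => ∃ g : G, g • a = x ∧ g • b = y
  let Γ : SimpleGraph Ω :=
    { Adj := fun x y => x ≠ y ∧ (rel x y ∨ rel y x)
      symm := ⟨fun x y h => ⟨h.1.symm, h.2.symm⟩⟩
      loopless := ⟨fun x h => h.1 rfl⟩ }
  have relinv : ∀ (g : G) x y, rel (g • x) (g • y) ↔ rel x y := fun g x y => by
    constructor
    · rintro ⟨k, k1, k2⟩
      exact ⟨g⁻¹ * k, by rw [mul_smul, k1, inv_smul_smul], by rw [mul_smul, k2, inv_smul_smul]⟩
    · rintro ⟨k, k1, k2⟩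
      exact ⟨g * k, by rw [mul_smul, k1], by rw [mul_smul, k2]⟩
  have inv : ∀ (g : G) (x y : Ω), Γ.Adj (g • x) (g • y) ↔ Γ.Adj x y := fun g x y =>
    and_congr (MulAction.injective g).ne_iff (or_congr (relinv g x y) (relinv g y x))
  have hnocb : ¬ ∃ g : G, g • a = c ∧ g • b = a := by
    rintro ⟨g, g1, g2⟩
    have hsz : ∀ y : Ω, Nat.card (stabilizer (stabilizer G a) y) * (orbit (stabilizer G a) y).ncard = 443520 :=
      fun y => by rw [← index_stabilizer, Subgroup.card_mul_index, hK]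
    have h1 : Nat.card (stabilizer (stabilizer G a) b) = Nat.card (stabilizer (stabilizer G a) c) := by
      refine Nat.card_congr
        { toFun := fun k => ⟨⟨g * (k : stabilizer G a) * g⁻¹, ?_⟩, ?_⟩
          invFun := fun k => ⟨⟨g⁻¹ * (k : stabilizer G a) * g, ?_⟩, ?_⟩
          left_inv := fun k => by apply Subtype.ext; apply Subtype.ext; simp [mul_assoc]
          right_inv := fun k => by apply Subtype.ext; apply Subtype.ext; simp [mul_assoc] }
      · rw [mem_stabilizer_iff, mul_smul, mul_smul, inv_smul_eq_iff.2 g2.symm,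
          show ((k : stabilizer G a) : G) • b = b from k.2, g2]
      · rw [mem_stabilizer_iff]
        show (g * ((k : stabilizer G a) : G) * g⁻¹) • c = c
        rw [mul_smul, mul_smul, inv_smul_eq_iff.2 g1.symm, show ((k : stabilizer G a) : G) • a = a from k.1.2, g1]
      · rw [mem_stabilizer_iff, mul_smul, mul_smul, g1,
          show ((k : stabilizer G a) : G) • c = c from k.2, inv_smul_eq_iff, g1]
      · rw [mem_stabilizer_iff]
        show (g⁻¹ * ((k : stabilizer G a) : G) * g) • b = b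
        rw [mul_smul, mul_smul, g2, show ((k : stabilizer G a) : G) • a = a from k.1.2, inv_smul_eq_iff, g2]
    have hbb := hsz b
    have hcc := hsz c
    rw [hb] at hbb
    rw [hc, ← h1] at hcc
    omega
  have hNb : ∀ y, Γ.Adj a y ↔ y ∈ orbit (stabilizer G a) b := by
    intro y
    constructor
    · rintro ⟨hne, ⟨g, g1, g2⟩ | ⟨g, g1, g2⟩⟩
      · exact ⟨⟨g, g1⟩, g2⟩
      · rcases hcover y hne.symm with h | ⟨k, hk⟩
        · exact h
        · exfalso
          refine hnocb ⟨(k : G)⁻¹ * g, ?_, ?_⟩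
          · rw [mul_smul, g1, inv_smul_eq_iff]; exact hk.symm
          · rw [mul_smul, g2, inv_smul_eq_iff]; exact (show (k : G) • a = a from k.2).symm
    · rintro ⟨k, rfl⟩
      refine ⟨fun h => hab ?_, Or.inl ⟨k, k.2, rfl⟩⟩
      exact MulAction.injective (k : G) (h.symm.trans (show (k : G) • a = a from k.2).symm)
  letI := MathieuOutTwo.actM22
  haveI := MathieuOutTwo.M22_pretransitive
  set Kb := stabilizer (stabilizer G a) b
  have hKb : Nat.card Kb = 20160 := by
    have := Subgroup.card_mul_index Kb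
    rw [index_stabilizer, hb, hK] at this
    omega
  obtain ⟨x0, hx0⟩ := m22_index (H := Kb.map e.toMonoidHom)
    (by rw [Subgroup.card_map_of_injective e.injective, hKb])
  have hstabx : ∀ k, e k • x0 = x0 ↔ k • b = b := fun k => by
    rw [← mem_stabilizer_iff, ← hx0, ← mem_stabilizer_iff]
    constructor
    · rintro ⟨k', hk', h'⟩; exact e.injective h' ▸ hk'
    · exact fun h => ⟨k, h, rfl⟩
  have heq : ∀ k k' : stabilizer G a, k • b = k' • b ↔ e k • x0 = e k' • x0 := fun k k' => by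
    rw [← inv_smul_eq_iff, ← mul_smul, ← hstabx, map_mul, map_inv, mul_smul, inv_smul_eq_iff]
  have two : ∀ y z y' z', y ∈ orbit (stabilizer G a) b → z ∈ orbit (stabilizer G a) b →
      y' ∈ orbit (stabilizer G a) b → z' ∈ orbit (stabilizer G a) b → y ≠ z → y' ≠ z' →
      ∃ k : stabilizer G a, k • y = y' ∧ k • z = z' := by
    rintro _ _ _ _ ⟨p, rfl⟩ ⟨q, rfl⟩ ⟨p', rfl⟩ ⟨q', rfl⟩ h1 h2
    dsimp only at h1 h2 ⊢
    obtain ⟨m, m1, m2⟩ := m22_two_trans (e p • x0) (e q • x0) (e p' • x0) (e q' • x0)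
      (fun h => h1 ((heq p q).2 h)) (fun h => h2 ((heq p' q').2 h))
    obtain ⟨k, rfl⟩ := e.surjective m
    refine ⟨k, ?_, ?_⟩
    · rw [← mul_smul, heq, map_mul, mul_smul, m1]
    · rw [← mul_smul, heq, map_mul, mul_smul, m2]
  have hdeg : (nb Γ a).card = 22 := by
    rw [← hb, ← Set.ncard_coe_finset]
    congr 1
    ext y
    rw [mem_coe, mem_nb, hNb]
  have hlam : ∀ y z, Γ.Adj a y → Γ.Adj a z → ¬ Γ.Adj y z := by
    intro y z hy hz hyz
    have hd : ∀ v, (nb Γ v).card = 22 := fun v => by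
      obtain ⟨g, rfl⟩ := exists_smul_eq G a v
      rw [nb_smul inv, card_map, hdeg]
    have hall : ∀ p q, Γ.Adj a p → Γ.Adj a q → p ≠ q → Γ.Adj p q := fun p q hp hq hpq => by
      obtain ⟨k, k1, k2⟩ := two y z p q ((hNb y).1 hy) ((hNb z).1 hz) ((hNb p).1 hp) ((hNb q).1 hq)
        hyz.ne hpq
      have := (inv (k : G) y z).2 hyz
      rwa [show (k : G) • y = p from k1, show (k : G) • z = q from k2] at this
    -- the closed neighbourhoods would be components
    let C : Ω → Finset Ω := fun x => insert x (nb Γ x)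
    have hsame : ∀ x v, v ∈ C x → C v = C x := by
      intro x v hv
      rcases mem_insert.1 hv with rfl | hv
      · rfl
      obtain ⟨g, rfl⟩ := exists_smul_eq G a x
      rw [mem_nb] at hv
      refine (eq_of_subset_of_card_le (fun w hw => ?_) ?_).symm
      · rcases mem_insert.1 hw with rfl | hw
        · exact mem_insert_of_mem ((mem_nb Γ).2 hv.symm)
        rw [mem_nb] at hw
        rcases eq_or_ne w v with rfl | hwv
        · exact mem_insert_self _ _
        refine mem_insert_of_mem ((mem_nb Γ).2 ?_)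
        have hv' : Γ.Adj a (g⁻¹ • v) := by rw [← inv g, smul_inv_smul]; exact hv
        have hw' : Γ.Adj a (g⁻¹ • w) := by rw [← inv g, smul_inv_smul]; exact hw
        have := (inv g _ _).2 (hall _ _ hv' hw' ((MulAction.injective g⁻¹).ne hwv.symm))
        rwa [smul_inv_smul, smul_inv_smul] at this
      · rw [card_insert_of_notMem (fun hm => Γ.irrefl ((mem_nb Γ).1 hm)),
          card_insert_of_notMem (fun hm => Γ.irrefl ((mem_nb Γ).1 hm)), hd, hd]
    have hcount := card_eq_sum_card_image C (univ : Finset Ω)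
    rw [card_univ, hΩ, sum_const_nat (m := 23)] at hcount
    · omega
    intro s hs
    obtain ⟨x, -, rfl⟩ := mem_image.1 hs
    have : (univ.filter fun v => C v = C x) = C x := by
      ext v
      simp only [mem_filter, mem_univ, true_and]
      exact ⟨fun h => h ▸ mem_insert_self v _, hsame x v⟩
    rw [this]
    show (insert x (nb Γ x)).card = 23
    rw [card_insert_of_notMem (fun hm => Γ.irrefl ((mem_nb Γ).1 hm)), hd]
  have hp : Params Γ := by
    refine rank3_params inv hΩ a hdeg hlam fun y y' h1 h2 h3 h4 => ?_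
    rw [hNb] at h2 h4
    obtain ⟨k, rfl⟩ := (hcover y h1).resolve_left h2
    obtain ⟨k', rfl⟩ := (hcover y' h3).resolve_left h4
    refine ⟨(k' : G) * (k : G)⁻¹, ?_, ?_⟩
    · rw [mul_smul, inv_smul_eq_iff.2 (show (k : G) • a = a from k.2).symm]; exact k'.2
    · show ((k' : G) * (k : G)⁻¹) • ((k : G) • c) = (k' : G) • c
      rw [mul_smul, inv_smul_smul]
  obtain ⟨e1⟩ := eq_model (P := G) (Γ := Γ) inv hp hG
  obtain ⟨e2, -⟩ := hs_graph_group
  obtain ⟨e3⟩ := hs_equiv
  exact ⟨(e1.trans e2.symm).trans e3⟩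

end Cfsg.Agent.Spor.HSUnique
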