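import Cfsg.Agent.Lib.Spor.SteinerGraphs

/-!
The strongly regular graphs on 77 and 100 vertices of a system S(3,6,22).
-/

set_option autoImplicit false

namespace Cfsg.Agent.Spor.Steiner

open Finset

theorem srg_of_ncard {V : Type*} [Fintype V] {G : SimpleGraph V} [DecidableRel G.Adj]
    {n k l m : ℕ} (hn : Nat.card V = n) (hk : ∀ v, (G.neighborSet v).ncard = k)
    (hl : ∀ v w, G.Adj v w → (G.commonNeighbors v w).ncard = l)
    (hm : ∀ v w, v ≠ w → ¬ G.Adj v w → (G.commonNeighbors v w).ncard = m) :
    G.IsSRGWith n k l m where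
  card := by rw [← Nat.card_eq_fintype_card, hn]
  regular v := by rw [← SimpleGraph.card_neighborSet_eq_degree, ← Nat.card_eq_fintype_card, Nat.card_coe_set_eq, hk v]
  of_adj v w h := by rw [← Nat.card_eq_fintype_card, Nat.card_coe_set_eq, hl v w h]
  of_not_adj v w hvw h := by rw [← Nat.card_eq_fintype_card, Nat.card_coe_set_eq, hm v w hvw h]

theorem ncard_subtype_pred {β : Type*} [DecidableEq β] (F : Finset β) (P : β → Prop) [DecidablePred P] :
    {x : ↥(F : Set β) | P x}.ncard = (F.filter P).card := by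
  rw [← Set.ncard_image_of_injective _ Subtype.val_injective, ← Set.ncard_coe_finset]
  congr 1
  ext x
  constructor
  · rintro ⟨y, hy, rfl⟩; exact mem_coe.2 (mem_filter.2 ⟨y.2, hy⟩)
  · intro hx
    rw [mem_coe, mem_filter] at hx
    exact ⟨⟨x, hx.1⟩, hx.2, rfl⟩

theorem blockGraph_adj {α : Type*} {B : Set (Finset α)} (hne : ∀ b ∈ B, b.Nonempty) (v w : B) :
    (Cfsg.blockGraph B).Adj v w ↔ Disjoint (v : Finset α) (w : Finset α) := by
  rw [Cfsg.blockGraph, SimpleGraph.fromRel_adj]
  constructor
  · rintro ⟨-, h | h⟩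
    exacts [h, h.symm]
  · intro h
    refine ⟨fun e => ?_, Or.inl h⟩
    subst e
    exact (hne _ v.2).ne_empty (disjoint_self_iff_empty _ |>.1 h)

variable {α : Type*} [Fintype α] [DecidableEq α] {B : Finset (Finset α)}
variable (hα : Fintype.card α = 22) (hB : Cfsg.IsSteinerSystem 3 6 (B : Set (Finset α)))
include hα hB

theorem B_card : B.card = 77 := by
  have := ncard_mul hB
  norm_num [Nat.choose, hα] at this
  omega

theorem deg_disjoint {b : Finset α} (hb : b ∈ B) : (B.filter fun a => Disjoint b a).card = 16 := by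
  rw [← (three_six hα hB hb).1]
  congr 1
  ext a
  simp [disjoint_iff_inter_eq_empty]

theorem blockGraph_srg [Fintype (B : Set (Finset α))]
    [DecidableRel (Cfsg.blockGraph (B : Set (Finset α))).Adj] :
    (Cfsg.blockGraph (B : Set (Finset α))).IsSRGWith 77 16 0 4 := by
  have hne : ∀ b ∈ (B : Set (Finset α)), b.Nonempty := fun b hb =>
    card_pos.1 (by rw [hB.1 b hb]; norm_num)
  have common : ∀ v w : (B : Set (Finset α)), v ≠ w →
      ((Cfsg.blockGraph (B : Set (Finset α))).commonNeighbors v w).ncard =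
        if Disjoint (v : Finset α) (w : Finset α) then 0 else 4 := by
    intro v w hvw
    rw [← common_disjoint hα hB v.2 w.2 (fun h => hvw (Subtype.ext h)),
      ← ncard_subtype_pred B (fun a => Disjoint (v : Finset α) a ∧ Disjoint (w : Finset α) a)]
    congr 1
    ext a
    simp only [SimpleGraph.mem_commonNeighbors, blockGraph_adj hne, Set.mem_setOf_eq]
  refine srg_of_ncard ?_ (fun v => ?_) (fun v w h => ?_) fun v w hvw h => ?_
  · rw [Nat.card_coe_set_eq, Set.ncard_coe_finset, B_card hα hB]
  · rw [← deg_disjoint hα hB v.2, ← ncard_subtype_pred B (fun a => Disjoint (v : Finset α) a)]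
    congr 1
    ext a
    simp only [SimpleGraph.mem_neighborSet, blockGraph_adj hne, Set.mem_setOf_eq]
  · rw [common v w h.ne, if_pos ((blockGraph_adj hne v w).1 h)]
  · rw [common v w hvw, if_neg (fun h' => h ((blockGraph_adj hne v w).2 h'))]

theorem pointBlock_srg [Fintype (B : Set (Finset α))]
    [DecidableRel (Cfsg.pointBlockGraph (B : Set (Finset α))).Adj] :
    (Cfsg.pointBlockGraph (B : Set (Finset α))).IsSRGWith 100 22 0 6 := by
  classical
  have hne : ∀ b ∈ B, b.Nonempty := fun b hb => card_pos.1 (by rw [hB.1 b hb]; norm_num)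
  -- adjacency table
  let A : Option (α ⊕ (B : Set (Finset α))) → Option (α ⊕ (B : Set (Finset α))) → Prop
    | none, some (Sum.inl _) => True
    | some (Sum.inl _), none => True
    | some (Sum.inl p), some (Sum.inr b) => p ∈ (b : Finset α)
    | some (Sum.inr b), some (Sum.inl p) => p ∈ (b : Finset α)
    | some (Sum.inr b), some (Sum.inr c) => Disjoint (b : Finset α) (c : Finset α)
    | _, _ => False
  have adj : ∀ x y, (Cfsg.pointBlockGraph (B : Set (Finset α))).Adj x y ↔ A x y := by
    intro x y
    rw [Cfsg.pointBlockGraph, SimpleGraph.fromRel_adj]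
    rcases x with _ | (p | b) <;> rcases y with _ | (q | c) <;>
      simp [A, Cfsg.pointBlockRel, disjoint_comm]
    intro hd e
    subst e
    exact (hne _ b.2).ne_empty (disjoint_self_iff_empty _ |>.1 hd)
  -- splitting a set of vertices
  have split : ∀ S : Set (Option (α ⊕ (B : Set (Finset α)))), S.ncard =
      (if none ∈ S then 1 else 0) + (univ.filter fun p : α => some (Sum.inl p) ∈ S).card +
        (B.filter fun b => ∃ h : b ∈ B, some (Sum.inr ⟨b, h⟩) ∈ S).card := by
    intro S
    rw [show S.ncard = (univ.filter fun x => x ∈ S).card from by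
      rw [← Set.ncard_coe_finset]; congr 1; ext x; simp]
    rw [card_filter, Fintype.sum_option, Fintype.sum_sum_type, ← card_filter, ← card_filter, add_assoc]
    congr 2
    rw [← Finset.card_map (Function.Embedding.subtype _)]
    congr 1
    ext b
    simp only [mem_map, mem_filter, mem_univ, true_and, Function.Embedding.coe_subtype]
    constructor
    · rintro ⟨⟨y, hy⟩, hyS, rfl⟩; exact ⟨hy, hy, hyS⟩
    · rintro ⟨-, h, hS⟩; exact ⟨⟨b, h⟩, hS, rfl⟩
  have hcov1 : ∀ p : α, (B.filter fun b => p ∈ b).card = 21 := fun p => by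
    rw [← cov_one hα hB p]; simp [cov]
  have hcov2 : ∀ p q : α, p ≠ q → (B.filter fun b => p ∈ b ∧ q ∈ b).card = 5 := fun p q h => by
    rw [← cov_two hα hB h]; simp [cov, insert_subset_iff]
  have hblock : ∀ b ∈ B, (univ.filter fun p : α => p ∈ b).card = 6 := fun b hb => by
    rw [← hB.1 b hb]; congr 1; ext; simp
  have hempty : ∀ b c : Finset α, Disjoint b c →
      (univ.filter fun p : α => p ∈ b ∧ p ∈ c).card = 0 := fun b c h => by
    rw [card_eq_zero, filter_eq_empty_iff]
    exact fun p _ hp => disjoint_left.1 h hp.1 hp.2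
  have hnone : ∀ p : α, ∀ b : Finset α, p ∈ b →
      (B.filter fun a => Disjoint b a ∧ p ∈ a).card = 0 := fun p b hp => by
    rw [card_eq_zero, filter_eq_empty_iff]
    exact fun a _ ha => disjoint_left.1 ha.1 hp ha.2
  refine srg_of_ncard ?_ (fun v => ?_) (fun v w h => ?_) fun v w hvw h => ?_
  · rw [Finite.card_option, Nat.card_sum, Nat.card_coe_set_eq, Set.ncard_coe_finset, B_card hα hB,
      Nat.card_eq_fintype_card, hα]
  · rw [split]
    rcases v with _ | (p | ⟨b, hb⟩) <;> simp [adj, A, hα, filter_false_of_mem]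
    · rw [filter_congr (q := fun x => p ∈ x) (fun x hx => by simp [hx]), hcov1]
    · rw [filter_congr (q := fun x => Disjoint b x) (fun x hx => by simp [hx]),
        deg_disjoint hα hB hb, hB.1 b hb]
  · rw [adj] at h
    rw [split]
    rcases v with _ | (p | ⟨b, hb⟩) <;> rcases w with _ | (q | ⟨c, hc⟩) <;>
      simp [A] at h <;> simp [SimpleGraph.mem_commonNeighbors, adj, A, filter_false_of_mem]
    · exact fun a _ h1 _ h2 => disjoint_left.1 h2 h h1
    · exact fun a _ h1 _ h2 => disjoint_left.1 h1 h h2
    · refine ⟨fun x hx hx' => disjoint_left.1 h hx hx', fun a ha h1 _ h2 => ?_⟩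
      have := common_disjoint hα hB hb hc (fun e => by
        subst e; exact (hne _ hb).ne_empty (disjoint_self_iff_empty _ |>.1 h))
      rw [if_pos h, card_eq_zero, filter_eq_empty_iff] at this
      exact this ha ⟨h1, h2⟩
  · rw [adj] at h
    rw [split]
    rcases v with _ | (p | ⟨b, hb⟩) <;> rcases w with _ | (q | ⟨c, hc⟩) <;>
      simp [A] at h hvw <;> simp [SimpleGraph.mem_commonNeighbors, adj, A, filter_false_of_mem]
    · exact hB.1 c hc
    · rw [filter_congr (q := fun x => p ∈ x ∧ q ∈ x) (fun x hx => by simp [hx]), hcov2 p q hvw]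
    · rw [filter_congr (q := fun x => p ∈ x ∧ Disjoint c x) (fun x hx => by simp [hx]),
        through_point_disjoint hα hB hc h]
    · exact hB.1 b hb
    · rw [filter_congr (q := fun x => q ∈ x ∧ Disjoint b x) (fun x hx => by simp [hx, and_comm]),
        through_point_disjoint hα hB hb h]
    · rw [filter_congr (s := B) (q := fun x => Disjoint b x ∧ Disjoint c x) (fun x hx => by simp [hx]),
        common_disjoint hα hB hb hc hvw, if_neg h]
      have h2 : (b ∩ c).card = 2 := (inter_sizes_three_six hα hB hb hc hvw).resolve_left fun h0 =>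
        h (disjoint_iff_inter_eq_empty.2 (card_eq_zero.1 h0))
      rw [show (univ.filter fun p : α => p ∈ b ∧ p ∈ c) = b ∩ c by ext; simp, h2]

end Cfsg.Agent.Spor.Steiner
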