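import Cfsg.Agent.Lib.Spor.HSGraphData
import Cfsg.Agent.Lib.Spor.SteinerSRG
import Cfsg.Agent.Lib.Spor.SimpleCriteria
import Cfsg.Agent.S0410
import Cfsg.Agent.S0414
import Cfsg.Prelude.Def_Sporadic

/-!
The automorphism group of the point-block graph of a Steiner system with parameters 3, 6, 22 has
order 88704000, and its even elements form a simple group of order 44352000.
-/

set_option autoImplicit false
set_option maxRecDepth 100000

namespace Cfsg.Agent.Spor.HSGraph

open Cfsg MulAction
open scoped Pointwise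

/-- block number `k` as a set of points -/
def blk (k : Fin 77) : Finset (Fin 22) :=
  Finset.univ.filter fun i => Nat.testBit (blocks.getD k 0) i

theorem mem_blk {k : Fin 77} {i : Fin 22} : i ∈ blk k ↔ Nat.testBit (blocks.getD k 0) i = true := by
  simp [blk]

theorem blocks_ok : blocks.length = 77 ∧ blocks.Nodup ∧
    blocks.all (fun m => decide (m < 2 ^ 22) &&
      (((List.range 22).filter fun i => Nat.testBit m i).length == 6)) = true := by decide +kernel

theorem blk_injective : Function.Injective blk := by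
  intro k l h
  obtain ⟨hlen, hnd, hall⟩ := blocks_ok
  simp only [List.all_eq_true, Bool.and_eq_true, decide_eq_true_eq] at hall
  have hk : (k : ℕ) < blocks.length := by omega
  have hl : (l : ℕ) < blocks.length := by omega
  have e : blocks.getD k 0 = blocks.getD l 0 := by
    refine Nat.eq_of_testBit_eq fun j => ?_
    rcases Nat.lt_or_ge j 22 with hj | hj
    · have := Finset.ext_iff.1 h ⟨j, hj⟩
      rw [mem_blk, mem_blk] at this
      exact Bool.eq_iff_iff.2 this
    · have a := (hall _ (List.getElem_mem hk)).1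
      have b := (hall _ (List.getElem_mem hl)).1
      have hp : (2 : ℕ) ^ 22 ≤ 2 ^ j := Nat.pow_le_pow_right two_pos hj
      rw [List.getD_eq_getElem _ _ hk, List.getD_eq_getElem _ _ hl,
        Nat.testBit_lt_two_pow (lt_of_lt_of_le a hp), Nat.testBit_lt_two_pow (lt_of_lt_of_le b hp)]
  rw [List.getD_eq_getElem _ _ hk, List.getD_eq_getElem _ _ hl] at e
  exact Fin.ext ((hnd.getElem_inj_iff).1 e)

/-- the model system -/
def model : Finset (Finset (Fin 22)) := Finset.univ.image blk

theorem triples_ok : ∀ i : Fin 22, ∀ j : Fin 22, ∀ k : Fin 22, i < j → j < k →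
    ((List.range 77).filter fun b => Nat.testBit (blocks.getD b 0) i && Nat.testBit (blocks.getD b 0) j &&
      Nat.testBit (blocks.getD b 0) k).length = 1 := by decide +kernel

theorem model_steiner : IsSteinerSystem 3 6 (model : Set (Finset (Fin 22))) := by
  constructor
  · intro b hb
    obtain ⟨k, -, rfl⟩ := Finset.mem_image.1 (Finset.mem_coe.1 hb)
    have h := blocks_ok.2.2
    simp only [List.all_eq_true, Bool.and_eq_true, beq_iff_eq] at h
    have hk : (k : ℕ) < blocks.length := by have := blocks_ok.1; omega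
    rw [← (h _ (List.getElem_mem hk)).2, ← Finset.card_map Fin.valEmbedding,
      ← List.toFinset_card_of_nodup (List.nodup_range.filter _)]
    congr 1
    ext i
    simp only [Finset.mem_map, Fin.valEmbedding_apply, List.mem_toFinset, List.mem_filter,
      List.mem_range, mem_blk, List.getD_eq_getElem _ _ hk]
    exact ⟨fun ⟨a, ha, e⟩ => e ▸ ⟨a.2, ha⟩, fun ⟨hi, ha⟩ => ⟨⟨i, hi⟩, ha, rfl⟩⟩
  · intro s hs
    set e := s.orderEmbOfFin hs with he
    have h := triples_ok (e 0) (e 1) (e 2) (e.strictMono (by decide)) (e.strictMono (by decide))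
    have hiff : ∀ k : Fin 77, s ⊆ blk k ↔ (Nat.testBit (blocks.getD k 0) (e 0) &&
        Nat.testBit (blocks.getD k 0) (e 1) && Nat.testBit (blocks.getD k 0) (e 2)) = true := by
      intro k
      simp only [Bool.and_eq_true, ← mem_blk]
      constructor
      · exact fun hsub => ⟨⟨hsub (Finset.orderEmbOfFin_mem s hs 0), hsub (Finset.orderEmbOfFin_mem s hs 1)⟩,
          hsub (Finset.orderEmbOfFin_mem s hs 2)⟩
      · intro ⟨⟨a, b⟩, c⟩ x hx
        rw [← Finset.mem_coe, ← Finset.range_orderEmbOfFin s hs] at hx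
        obtain ⟨i, rfl⟩ := hx
        fin_cases i
        exacts [a, b, c]
    obtain ⟨b, hb⟩ := List.length_eq_one_iff.1 h
    have hb' : b < 77 ∧ (Nat.testBit (blocks.getD b 0) (e 0) && Nat.testBit (blocks.getD b 0) (e 1) &&
        Nat.testBit (blocks.getD b 0) (e 2)) = true := by
      have := hb ▸ List.mem_singleton_self b
      rw [List.mem_filter, List.mem_range] at this
      exact this
    refine ⟨blk ⟨b, hb'.1⟩, ⟨Finset.mem_image_of_mem _ (Finset.mem_univ _), (hiff _).2 hb'.2⟩, ?_⟩
    rintro c ⟨hc, hsub⟩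
    obtain ⟨k, -, rfl⟩ := Finset.mem_image.1 (Finset.mem_coe.1 hc)
    have : (k : ℕ) ∈ [b] := hb ▸ List.mem_filter.2 ⟨List.mem_range.2 k.2, (hiff k).1 hsub⟩
    rw [List.mem_singleton] at this
    exact congrArg blk (Fin.ext this)

/-- adjacency on numbers -/
def adjN (i j : ℕ) : Bool :=
  if i = 0 then decide (1 ≤ j ∧ j ≤ 22)
  else if i ≤ 22 then
    (if j = 0 then true else if j ≤ 22 then false else Nat.testBit (blocks.getD (j - 23) 0) (i - 1))
  else
    (if j = 0 then false else if j ≤ 22 then Nat.testBit (blocks.getD (i - 23) 0) (j - 1)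
      else decide (i ≠ j) && (blocks.getD (i - 23) 0 &&& blocks.getD (j - 23) 0 == 0))

/-- the two lists are inverse permutations preserving adjacency -/
def autOK (l l' : List ℕ) : Bool :=
  (List.range 100).all fun i => decide (l.getD i 0 < 100 ∧ l'.getD i 0 < 100) &&
    (l'.getD (l.getD i 0) 0 == i) && (l.getD (l'.getD i 0) 0 == i) &&
    (List.range 100).all fun j => adjN (l.getD i 0) (l.getD j 0) == adjN i j

theorem move_ok : autOK move moveInv = true := by decide +kernel
theorem odd_ok : autOK odd oddInv = true := by decide +kernel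

/-- the permutation of a pair of lists -/
def lp (l l' : List ℕ) (h : autOK l l' = true) : Equiv.Perm (Fin 100) where
  toFun i := ⟨l.getD i 0, by
    simp only [autOK, List.all_eq_true, Bool.and_eq_true, decide_eq_true_eq, List.mem_range] at h
    exact (h i i.2).1.1.1.1⟩
  invFun i := ⟨l'.getD i 0, by
    simp only [autOK, List.all_eq_true, Bool.and_eq_true, decide_eq_true_eq, List.mem_range] at h
    exact (h i i.2).1.1.1.2⟩
  left_inv i := by
    simp only [autOK, List.all_eq_true, Bool.and_eq_true, beq_iff_eq, List.mem_range] at h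
    exact Fin.ext (h i i.2).1.1.2
  right_inv i := by
    simp only [autOK, List.all_eq_true, Bool.and_eq_true, beq_iff_eq, List.mem_range] at h
    exact Fin.ext (h i i.2).1.2

theorem lp_adj {l l' : List ℕ} (h : autOK l l' = true) (i j : Fin 100) :
    adjN (lp l l' h i) (lp l l' h j) = adjN i j := by
  have h' := h
  simp only [autOK, List.all_eq_true, Bool.and_eq_true, beq_iff_eq, List.mem_range] at h'
  exact (h' i i.2).2 j j.2

/-- the fixed point -/
def oddP : Fin 100 := ⟨oddPt, by decide⟩

theorem odd_sign : Equiv.Perm.sign (lp odd oddInv odd_ok) = -1 ∧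
    lp odd oddInv odd_ok 0 = 0 ∧ oddP ≠ 0 ∧ (oddP : ℕ) ≤ 22 ∧
    lp odd oddInv odd_ok oddP = oddP ∧
    lp odd oddInv odd_ok 23 = 23 := by decide +kernel

theorem move_facts : (1 ≤ (lp move moveInv move_ok 0 : ℕ) ∧ (lp move moveInv move_ok 0 : ℕ) ≤ 22) ∧
    ∃ i : Fin 100, (1 ≤ (i : ℕ) ∧ (i : ℕ) ≤ 22) ∧ 23 ≤ (lp move moveInv move_ok i : ℕ) := by
  decide +kernel

section graph

variable {α : Type*} [Fintype α] [DecidableEq α] {B : Set (Finset α)}

abbrev V (B : Set (Finset α)) := Option (α ⊕ B)

/-- adjacency -/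
theorem adj_iff (hne : ∀ b ∈ B, (b : Finset α).Nonempty) :
    (∀ a, (pointBlockGraph B).Adj none (some (Sum.inl a))) ∧
    (¬ (pointBlockGraph B).Adj none none) ∧
    (∀ b, ¬ (pointBlockGraph B).Adj none (some (Sum.inr b))) ∧
    (∀ a a', ¬ (pointBlockGraph B).Adj (some (Sum.inl a)) (some (Sum.inl a'))) ∧
    (∀ a (b : B), (pointBlockGraph B).Adj (some (Sum.inl a)) (some (Sum.inr b)) ↔ a ∈ (b : Finset α)) ∧
    (∀ b c : B, (pointBlockGraph B).Adj (some (Sum.inr b)) (some (Sum.inr c)) ↔
      Disjoint (b : Finset α) (c : Finset α)) := by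
  refine ⟨fun a => ?_, ?_, fun b => ?_, fun a a' => ?_, fun a b => ?_, fun b c => ?_⟩ <;>
    simp only [pointBlockGraph, SimpleGraph.fromRel_adj, pointBlockRel, ne_eq, not_and, not_or]
  · simp
  · simp
  · simp
  · simp
  · simp
  · constructor
    · rintro ⟨-, h | h⟩
      exacts [h, h.symm]
    · intro h
      refine ⟨fun e => ?_, Or.inl h⟩
      simp only [Option.some.injEq, Sum.inr.injEq] at e
      subst e
      exact (hne _ b.2).ne_empty (Finset.disjoint_self_iff_empty _ |>.1 h)

/-- the automorphisms as permutations -/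
def autSub (B : Set (Finset α)) : Subgroup (Equiv.Perm (V B)) where
  carrier := {σ | ∀ x y, (pointBlockGraph B).Adj (σ x) (σ y) ↔ (pointBlockGraph B).Adj x y}
  one_mem' := fun _ _ => Iff.rfl
  mul_mem' := fun {a b} ha hb x y => (ha (b x) (b y)).trans (hb x y)
  inv_mem' := fun {a} ha x y => by
    have := ha (a⁻¹ x) (a⁻¹ y)
    rw [show a (a⁻¹ x) = x from a.apply_symm_apply x, show a (a⁻¹ y) = y from a.apply_symm_apply y] at this
    exact this.symm

/-- automorphisms and permutations -/
def autEquiv (B : Set (Finset α)) : (pointBlockGraph B ≃g pointBlockGraph B) ≃* autSub B where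
  toFun g := ⟨g.toEquiv, fun x y => g.map_rel_iff⟩
  invFun σ := ⟨σ.1, fun {a b} => σ.2 a b⟩
  left_inv _ := rfl
  right_inv _ := rfl
  map_mul' _ _ := rfl

theorem smul_block {g : setSystemAut B} {b : Finset α} (hb : b ∈ B) :
    (g : Equiv.Perm α) • b ∈ B := by
  have h : (g : Equiv.Perm α) • b ∈ (g : Equiv.Perm α) • B := Set.smul_mem_smul_set hb
  rwa [mem_stabilizer_iff.1 g.2] at h

/-- a design automorphism on the blocks -/
def onBlocks (g : setSystemAut B) : Equiv.Perm B where
  toFun b := ⟨(g : Equiv.Perm α) • (b : Finset α), smul_block b.2⟩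
  invFun b := ⟨((g⁻¹ : setSystemAut B) : Equiv.Perm α) • (b : Finset α), smul_block b.2⟩
  left_inv b := Subtype.ext (inv_smul_smul (g : Equiv.Perm α) (b : Finset α))
  right_inv b := Subtype.ext (smul_inv_smul (g : Equiv.Perm α) (b : Finset α))

/-- a design automorphism on the vertices -/
def extend (g : setSystemAut B) : Equiv.Perm (V B) :=
  Equiv.optionCongr (Equiv.sumCongr (g : Equiv.Perm α) (onBlocks g))

theorem extend_mem (hne : ∀ b ∈ B, (b : Finset α).Nonempty) (g : setSystemAut B) :
    extend g ∈ autSub B := by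
  obtain ⟨a1, a2, a3, a4, a5, a6⟩ := adj_iff hne
  intro x y
  have hd : ∀ b c : Finset α, Disjoint ((g : Equiv.Perm α) • b) ((g : Equiv.Perm α) • c) ↔ Disjoint b c :=
    fun b c => by rw [Finset.disjoint_iff_inter_eq_empty, ← Finset.smul_finset_inter,
      Finset.smul_finset_eq_empty, Finset.disjoint_iff_inter_eq_empty]
  rcases x with _ | (a | b) <;> rcases y with _ | (a' | b') <;>
    simp only [extend, Equiv.optionCongr_apply, Option.map_none, Option.map_some, Equiv.sumCongr_apply,
      Sum.map_inl, Sum.map_inr]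
  · exact iff_of_true (a1 _) (a1 _)
  · exact iff_of_false (a3 _) (a3 _)
  · exact iff_of_true (a1 _).symm (a1 _).symm
  · exact iff_of_false (a4 _ _) (a4 _ _)
  · rw [a5, a5]
    exact Finset.smul_mem_smul_finset_iff (g : Equiv.Perm α)
  · exact iff_of_false (fun h => a3 _ h.symm) (fun h => a3 _ h.symm)
  · rw [SimpleGraph.adj_comm, a5, SimpleGraph.adj_comm, a5]
    exact Finset.smul_mem_smul_finset_iff (g : Equiv.Perm α)
  · rw [a6, a6]
    exact hd _ _

/-- the point part of an automorphism fixing the extra vertex -/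
theorem restrict_exists (hne : ∀ b ∈ B, (b : Finset α).Nonempty) {σ : Equiv.Perm (V B)}
    (hσ : σ ∈ autSub B) (h0 : σ none = none) : ∃ g : setSystemAut B, extend g = σ := by
  obtain ⟨a1, a2, a3, a4, a5, a6⟩ := adj_iff hne
  have hpt : ∀ a, ∃ a', σ (some (Sum.inl a)) = some (Sum.inl a') := fun a => by
    have h := (hσ none (some (Sum.inl a))).2 (a1 a)
    rw [h0] at h
    rcases e : σ (some (Sum.inl a)) with _ | (a' | b)
    · rw [e] at h; exact absurd h a2
    · exact ⟨a', rfl⟩
    · rw [e] at h; exact absurd h (a3 b)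
  choose f hf using hpt
  have hfinj : Function.Injective f := fun a a' e => by
    have := σ.injective ((hf a).trans (e ▸ (hf a').symm))
    simpa using this
  let g : Equiv.Perm α := Equiv.ofBijective f (Finite.injective_iff_bijective.1 hfinj)
  have hblk : ∀ b : B, ∃ b' : B, σ (some (Sum.inr b)) = some (Sum.inr b') ∧
      (b' : Finset α) = g • (b : Finset α) := fun b => by
    rcases e : σ (some (Sum.inr b)) with _ | (a' | b')
    · exact absurd (σ.injective (e.trans h0.symm)) (by simp)
    · have hnone : (pointBlockGraph B).Adj (σ none) (σ (some (Sum.inr b))) := by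
        rw [e, h0]; exact a1 a'
      exact absurd ((hσ _ _).1 hnone) (a3 b)
    · refine ⟨b', rfl, ?_⟩
      ext a
      obtain ⟨a₀, rfl⟩ := g.surjective a
      rw [show g a₀ = g • a₀ from rfl, Finset.smul_mem_smul_finset_iff, ← a5, ← a5]
      show (pointBlockGraph B).Adj (some (Sum.inl (f a₀))) (some (Sum.inr b')) ↔ _
      rw [← hf, ← e]
      exact hσ _ _
  have hgB : g ∈ setSystemAut B := by
    rw [mem_stabilizer_iff]
    refine Set.eq_of_subset_of_ncard_le ?_ (le_of_eq (Set.ncard_smul_set g B).symm) (Set.toFinite _)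
    rintro _ ⟨b, hb, rfl⟩
    obtain ⟨b', -, e⟩ := hblk ⟨b, hb⟩
    show g • b ∈ B
    rw [← e]
    exact b'.2
  refine ⟨⟨g, hgB⟩, Equiv.ext fun x => ?_⟩
  rcases x with _ | (a | b)
  · exact h0.symm
  · exact (hf a).symm
  · obtain ⟨b', e, e'⟩ := hblk b
    rw [e]
    simp only [extend, Equiv.optionCongr_apply, Option.map_some, Equiv.sumCongr_apply, Sum.map_inr]
    exact congrArg (fun u => some (Sum.inr u)) (Subtype.ext e'.symm)

theorem extend_mul (g h : setSystemAut B) : extend (g * h) = extend g * extend h := by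
  refine Equiv.ext fun x => ?_
  rcases x with _ | (a | b)
  · rfl
  · rfl
  · simp only [extend, Equiv.Perm.mul_apply, Equiv.optionCongr_apply, Option.map_some,
      Equiv.sumCongr_apply, Sum.map_inr]
    exact congrArg (fun u => some (Sum.inr u)) (Subtype.ext (mul_smul (g : Equiv.Perm α) _ _))

theorem extend_injective : Function.Injective (extend (B := B)) := fun g h e => by
  refine Subtype.ext (Equiv.ext fun a => ?_)
  have := Equiv.congr_fun e (some (Sum.inl a))
  simpa [extend] using this

end graph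

section transfer

variable {α : Type*} [Fintype α] [DecidableEq α] {B : Set (Finset α)} (e : Fin 22 ≃ α)
  (he : (fun b => b.image e) '' (model : Set (Finset (Fin 22))) = B)

include he in
theorem blk_mem (k : Fin 77) : (blk k).image e ∈ B :=
  he ▸ ⟨blk k, Finset.mem_coe.2 (Finset.mem_image_of_mem _ (Finset.mem_univ k)), rfl⟩

/-- the vertex with a number -/
def vert (i : Fin 100) : V B :=
  if h0 : (i : ℕ) = 0 then none
  else if h : (i : ℕ) ≤ 22 then some (Sum.inl (e ⟨i - 1, by omega⟩))
  else some (Sum.inr ⟨(blk ⟨i - 23, by omega⟩).image e, blk_mem e he _⟩)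

theorem vert_bij : Function.Bijective (vert e he) := by
  constructor
  · intro i j h
    unfold vert at h
    split_ifs at h with a b c d <;>
      simp only [Option.some.injEq, Sum.inl.injEq, Sum.inr.injEq, reduceCtorEq, EmbeddingLike.apply_eq_iff_eq,
        Fin.ext_iff, Subtype.mk.injEq] at h <;> first
      | exact Fin.ext (by omega)
      | (have h' := congrArg Fin.val (blk_injective (Finset.image_injective e.injective h))
         exact Fin.ext (by simp only at h'; omega))
  · intro v
    rcases v with _ | (a | b)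
    · exact ⟨0, by rfl⟩
    · refine ⟨⟨(e.symm a : ℕ) + 1, by omega⟩, ?_⟩
      rw [vert, dif_neg (by simp), dif_pos (by simp)]
      simp
    · obtain ⟨c, hc, ec⟩ : (b : Finset α) ∈ (fun b => b.image e) '' (model : Set (Finset (Fin 22))) :=
        he.symm ▸ b.2
      obtain ⟨k, -, rfl⟩ := Finset.mem_image.1 (Finset.mem_coe.1 hc)
      refine ⟨⟨(k : ℕ) + 23, by omega⟩, ?_⟩
      rw [vert, dif_neg (by simp), dif_neg (by simp)]
      simp only [Option.some.injEq, Sum.inr.injEq]
      exact Subtype.ext (by simpa using ec)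

theorem vert_adj (hne : ∀ b ∈ B, (b : Finset α).Nonempty) (i j : Fin 100) :
    (pointBlockGraph B).Adj (vert e he i) (vert e he j) ↔ adjN i j = true := by
  obtain ⟨a1, a2, a3, a4, a5, a6⟩ := adj_iff hne
  have hmem : ∀ (x : Fin 22) (k : Fin 77),
      e x ∈ (blk k).image e ↔ Nat.testBit (blocks.getD k 0) x = true := fun x k => by
    rw [Finset.mem_image, ← mem_blk]
    exact ⟨fun ⟨y, hy, h⟩ => e.injective h ▸ hy, fun h => ⟨x, h, rfl⟩⟩
  have hdis : ∀ k l : Fin 77, Disjoint ((blk k).image e) ((blk l).image e) ↔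
      (blocks.getD k 0 &&& blocks.getD l 0 == 0) = true := fun k l => by
    rw [Finset.disjoint_image e.injective, Finset.disjoint_left, beq_iff_eq]
    constructor
    · intro h
      refine Nat.eq_of_testBit_eq fun n => ?_
      rw [Nat.testBit_and, Nat.zero_testBit]
      by_contra hn
      rw [Bool.not_eq_false, Bool.and_eq_true] at hn
      have hlt : n < 22 := by
        by_contra hge
        obtain ⟨hlen, -, hall⟩ := blocks_ok
        simp only [List.all_eq_true, Bool.and_eq_true, decide_eq_true_eq] at hall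
        have hk : (k : ℕ) < blocks.length := by omega
        have a := (hall _ (List.getElem_mem hk)).1
        rw [List.getD_eq_getElem _ _ hk,
          Nat.testBit_lt_two_pow (lt_of_lt_of_le a (Nat.pow_le_pow_right two_pos (not_lt.1 hge)))] at hn
        exact Bool.false_ne_true hn.1
      exact h (a := ⟨n, hlt⟩) (mem_blk.2 hn.1) (mem_blk.2 hn.2)
    · intro h x hx hy
      have := congrArg (fun m => Nat.testBit m x) h
      simp only [Nat.testBit_and, mem_blk.1 hx, mem_blk.1 hy, Nat.zero_testBit, Bool.and_self] at this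
      exact Bool.false_ne_true this.symm
  have hi := i.2
  have hj := j.2
  unfold vert adjN
  by_cases i0 : (i : ℕ) = 0
  · rw [dif_pos i0, if_pos i0]
    by_cases j0 : (j : ℕ) = 0
    · rw [dif_pos j0]; exact iff_of_false a2 (by simp [j0])
    · by_cases j1 : (j : ℕ) ≤ 22
      · rw [dif_neg j0, dif_pos j1]; exact iff_of_true (a1 _) (by simp; omega)
      · rw [dif_neg j0, dif_neg j1]; exact iff_of_false (a3 _) (by simp; omega)
  · by_cases i1 : (i : ℕ) ≤ 22
    · rw [dif_neg i0, dif_pos i1, if_neg i0, if_pos i1]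
      by_cases j0 : (j : ℕ) = 0
      · rw [dif_pos j0, if_pos j0]; exact iff_of_true (a1 _).symm rfl
      · by_cases j1 : (j : ℕ) ≤ 22
        · rw [dif_neg j0, dif_pos j1, if_neg j0, if_pos j1]; exact iff_of_false (a4 _ _) (by simp)
        · rw [dif_neg j0, dif_neg j1, if_neg j0, if_neg j1, a5]
          exact hmem _ _
    · rw [dif_neg i0, dif_neg i1, if_neg i0, if_neg i1]
      by_cases j0 : (j : ℕ) = 0
      · rw [dif_pos j0, if_pos j0]; exact iff_of_false (fun h => a3 _ h.symm) (by simp)
      · by_cases j1 : (j : ℕ) ≤ 22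
        · rw [dif_neg j0, dif_pos j1, if_neg j0, if_pos j1, SimpleGraph.adj_comm, a5]
          exact hmem _ _
        · rw [dif_neg j0, dif_neg j1, if_neg j0, if_neg j1, a6, hdis]
          by_cases hij : (i : ℕ) = j
          · rw [← hdis]
            refine iff_of_false (fun h => ?_) (by simp [hij])
            have h' : (⟨(i : ℕ) - 23, by omega⟩ : Fin 77) = ⟨(j : ℕ) - 23, by omega⟩ := Fin.ext (by simp only; omega)
            rw [h', Finset.disjoint_self_iff_empty] at h
            exact (hne _ (blk_mem e he _)).ne_empty h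
          · simp [hij]

/-- an explicit automorphism -/
noncomputable def transport (hne : ∀ b ∈ B, (b : Finset α).Nonempty) {l l' : List ℕ}
    (h : autOK l l' = true) : autSub B :=
  ⟨(Equiv.ofBijective _ (vert_bij e he)).permCongr (lp l l' h), fun x y => by
    obtain ⟨i, rfl⟩ := (vert_bij e he).2 x
    obtain ⟨j, rfl⟩ := (vert_bij e he).2 y
    rw [Equiv.permCongr_apply, Equiv.permCongr_apply, Equiv.ofBijective_symm_apply_apply,
      Equiv.ofBijective_symm_apply_apply, Equiv.ofBijective_apply, Equiv.ofBijective_apply,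
      vert_adj e he hne, vert_adj e he hne, lp_adj]⟩

theorem transport_apply (hne : ∀ b ∈ B, (b : Finset α).Nonempty) {l l' : List ℕ}
    (h : autOK l l' = true) (i : Fin 100) :
    (transport e he hne h : Equiv.Perm (V B)) (vert e he i) = vert e he (lp l l' h i) := by
  simp only [transport]
  rw [Equiv.permCongr_apply, Equiv.ofBijective_symm_apply_apply]
  rfl

end transfer

/-! ### the group -/

/-- the facts about the automorphism group -/
theorem hs_group {α : Type*} [Fintype α] [DecidableEq α] (hα : Fintype.card α = 22)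
    {B : Set (Finset α)} (hB : IsSteinerSystem 3 6 B) :
    Nat.card (autSub B) = 88704000 ∧ ∃ H : Subgroup (autSub B), IsHS H := by
  classical
  haveI : Fintype B := Fintype.ofFinite _
  have hne : ∀ b ∈ B, (b : Finset α).Nonempty := fun b hb =>
    Finset.card_pos.1 (by rw [hB.1 b hb]; norm_num)
  obtain ⟨e, he⟩ := Cfsg.Agent.S0410.result (Fintype.card_fin 22) hα model_steiner hB
  obtain ⟨hc, h3, -⟩ := Cfsg.Agent.S0414.result hα hB
  have hBc : Fintype.card (V B) = 100 := by
    rw [← Fintype.card_congr (Equiv.ofBijective _ (vert_bij e he)), Fintype.card_fin]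
  set A := autSub B with hA
  set o : V B := none
  -- the stabiliser of the extra vertex
  let Φ : setSystemAut B →* A :=
    { toFun := fun g => ⟨extend g, extend_mem hne g⟩
      map_one' := Subtype.ext (Equiv.ext fun x => by
        rcases x with _ | (a | b) <;> simp [extend, onBlocks])
      map_mul' := fun g h => Subtype.ext (extend_mul g h) }
  have hΦi : Function.Injective Φ := fun g h e => extend_injective (congrArg Subtype.val e)
  have hΦr : Φ.range = stabilizer A o := by
    ext σ
    constructor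
    · rintro ⟨g, rfl⟩
      rfl
    · intro hσ
      obtain ⟨g, hg⟩ := restrict_exists hne σ.2 hσ
      exact ⟨g, Subtype.ext hg⟩
  have hstab : Nat.card (stabilizer A o) = 887040 := by
    rw [← hΦr, ← hc, Nat.card_congr (MonoidHom.ofInjective hΦi).toEquiv]
  have htrans2 : IsPretransitive (setSystemAut B) α := by
    haveI := h3
    haveI : IsMultiplyPretransitive (setSystemAut B) α 2 :=
      isMultiplyPretransitive_of_le (n := 3) (by norm_num) (by rw [Nat.card_eq_fintype_card, hα]; norm_num)
    exact isPretransitive_of_is_two_pretransitive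
  have hpts : ∀ a a' : α, ∃ σ ∈ stabilizer A o, σ • (some (Sum.inl a) : V B) = some (Sum.inl a') := by
    intro a a'
    obtain ⟨g, hg⟩ := exists_smul_eq (setSystemAut B) a a'
    exact ⟨Φ g, rfl, congrArg (fun u => some (Sum.inl u)) hg⟩
  have hblks : ∀ b b' : B, ∃ σ ∈ stabilizer A o, σ • (some (Sum.inr b) : V B) = some (Sum.inr b') := by
    intro b b'
    obtain ⟨s, hs, hs3⟩ := Finset.exists_subset_card_eq (s := (b : Finset α)) (n := 3)
      (by rw [hB.1 b b.2]; norm_num)
    obtain ⟨s', hs', hs3'⟩ := Finset.exists_subset_card_eq (s := (b' : Finset α)) (n := 3)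
      (by rw [hB.1 b' b'.2]; norm_num)
    let x : Fin 3 ↪ α := (s.equivFinOfCardEq hs3).symm.toEmbedding.trans (Function.Embedding.subtype _)
    let x' : Fin 3 ↪ α := (s'.equivFinOfCardEq hs3').symm.toEmbedding.trans (Function.Embedding.subtype _)
    obtain ⟨g, hg⟩ := exists_smul_eq (setSystemAut B) x x'
    refine ⟨Φ g, rfl, ?_⟩
    show extend g (some (Sum.inr b)) = some (Sum.inr b')
    simp only [extend, Equiv.optionCongr_apply, Option.map_some, Equiv.sumCongr_apply, Sum.map_inr]
    congr 2
    refine Subtype.ext ?_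
    have hsub : s' ⊆ (g : Equiv.Perm α) • (b : Finset α) := by
      intro q hq
      have e1 : x' (s'.equivFinOfCardEq hs3' ⟨q, hq⟩) = q := by simp [x']
      rw [← e1, ← hg]
      exact Finset.smul_mem_smul_finset (a := (g : Equiv.Perm α)) (hs (by simp [x]))
    exact (hB.2 s' hs3').unique ⟨smul_block b.2, hsub⟩ ⟨b'.2, hs'⟩
  -- transitivity
  have hv0 : vert e he 0 = o := rfl
  have hvp : ∀ i : Fin 100, 1 ≤ (i : ℕ) → (i : ℕ) ≤ 22 → ∃ a, vert e he i = some (Sum.inl a) := by
    intro i h1 h2
    exact ⟨e ⟨i - 1, by omega⟩, by rw [vert, dif_neg (by omega), dif_pos h2]⟩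
  have hvb : ∀ i : Fin 100, 23 ≤ (i : ℕ) → ∃ b, vert e he i = some (Sum.inr b) := by
    intro i h1
    exact ⟨_, by rw [vert, dif_neg (by omega), dif_neg (by omega)]⟩
  obtain ⟨⟨m1, m2⟩, i₀, ⟨i1, i2⟩, i3⟩ := move_facts
  set M : A := transport e he hne move_ok
  obtain ⟨p₀, hp₀⟩ := hvp _ m1 m2
  obtain ⟨p₁, hp₁⟩ := hvp i₀ i1 i2
  obtain ⟨b₀, hb₀⟩ := hvb _ i3
  have hMo : M • o = some (Sum.inl p₀) := by
    rw [← hv0, ← hp₀]; exact transport_apply e he hne move_ok 0
  have hMp : M • (some (Sum.inl p₁) : V B) = some (Sum.inr b₀) := by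
    rw [← hp₁, ← hb₀]; exact transport_apply e he hne move_ok i₀
  have hreach : ∀ v : V B, ∃ σ : A, σ • o = v := by
    intro v
    rcases v with _ | (a | b)
    · exact ⟨1, one_smul _ _⟩
    · obtain ⟨σ, -, hσ⟩ := hpts p₀ a
      exact ⟨σ * M, by rw [mul_smul, hMo, hσ]⟩
    · obtain ⟨σ, -, hσ⟩ := hpts p₀ p₁
      obtain ⟨τ, -, hτ⟩ := hblks b₀ b
      exact ⟨τ * (M * (σ * M)), by rw [mul_smul, mul_smul, mul_smul, hMo, hσ, hMp, hτ]⟩
  haveI hA_trans : IsPretransitive A (V B) := ⟨fun v w => by
    obtain ⟨σ, rfl⟩ := hreach v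
    obtain ⟨τ, rfl⟩ := hreach w
    exact ⟨τ * σ⁻¹, by rw [mul_smul, inv_smul_smul]⟩⟩
  have hAcard : Nat.card A = 88704000 := by
    rw [← (stabilizer A o).card_mul_index, hstab, index_stabilizer_of_transitive,
      Nat.card_eq_fintype_card, hBc]
  refine ⟨hAcard, ?_⟩
  -- the even automorphisms
  let sgn : A →* ℤˣ := Equiv.Perm.sign.comp A.subtype
  set T : A := transport e he hne odd_ok
  obtain ⟨t1, t2, t3, t3', t4, t5⟩ := odd_sign
  have hTs : sgn T = -1 := by
    show Equiv.Perm.sign ((Equiv.ofBijective _ (vert_bij e he)).permCongr (lp odd oddInv odd_ok)) = -1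
    rw [Equiv.Perm.sign_permCongr, t1]
  have hTo : T • o = o := by
    rw [← hv0]
    exact (transport_apply e he hne odd_ok 0).trans (by rw [t2])
  obtain ⟨pT, hpT⟩ := hvp oddP (Nat.one_le_iff_ne_zero.2 fun h => t3 (Fin.ext h)) t3'
  have hTp : T • (some (Sum.inl pT) : V B) = some (Sum.inl pT) := by
    rw [← hpT]
    exact (transport_apply e he hne odd_ok _).trans (by rw [t4])
  obtain ⟨bT, hbT⟩ := hvb 23 le_rfl
  have hTb : T • (some (Sum.inr bT) : V B) = some (Sum.inr bT) := by
    rw [← hbT]
    exact (transport_apply e he hne odd_ok _).trans (by rw [t5])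
  set H := sgn.ker with hH
  have hfix : ∀ (σ : A) (v : V B), T • v = v → ∃ τ : A, τ ∈ H ∧ τ • v = σ • v ∧
      (T • o = o → σ • o = o → τ • o = o) := by
    intro σ v hv
    rcases Int.units_eq_one_or (sgn σ) with h | h
    · exact ⟨σ, h, rfl, fun _ h' => h'⟩
    · refine ⟨σ * T, ?_, by rw [mul_smul, hv], fun h1 h2 => by rw [mul_smul, h1, h2]⟩
      rw [hH, MonoidHom.mem_ker, map_mul, h, hTs]
      decide
  haveI hH_trans : IsPretransitive H (V B) := ⟨fun v w => by
    obtain ⟨σ, rfl⟩ := hreach v
    obtain ⟨τ, rfl⟩ := hreach w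
    obtain ⟨σ', hσ', eσ, -⟩ := hfix σ o hTo
    obtain ⟨τ', hτ', eτ, -⟩ := hfix τ o hTo
    refine ⟨⟨τ' * σ'⁻¹, mul_mem hτ' (inv_mem hσ')⟩, ?_⟩
    show (τ' * σ'⁻¹) • σ • o = τ • o
    rw [← eσ, ← eτ, mul_smul, inv_smul_smul]⟩
  have hptsH : ∀ a a' : α, ∃ τ : H, τ • o = o ∧ τ • (some (Sum.inl a) : V B) = some (Sum.inl a') := by
    intro a a'
    obtain ⟨σ₁, s1, e1⟩ := hpts pT a
    obtain ⟨σ₂, s2, e2⟩ := hpts pT a'
    obtain ⟨τ₁, h1, f1, g1⟩ := hfix σ₁ _ hTp
    obtain ⟨τ₂, h2, f2, g2⟩ := hfix σ₂ _ hTp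
    refine ⟨⟨τ₂ * τ₁⁻¹, mul_mem h2 (inv_mem h1)⟩, ?_, ?_⟩
    · show (τ₂ * τ₁⁻¹) • o = o
      rw [mul_smul, inv_smul_eq_iff.2 (g1 hTo s1).symm, g2 hTo s2]
    · show (τ₂ * τ₁⁻¹) • (some (Sum.inl a) : V B) = _
      rw [mul_smul, ← e1, ← f1, inv_smul_smul, f2, e2]
  have hblksH : ∀ b b' : B, ∃ τ : H, τ • o = o ∧ τ • (some (Sum.inr b) : V B) = some (Sum.inr b') := by
    intro a a'
    obtain ⟨σ₁, s1, e1⟩ := hblks bT a
    obtain ⟨σ₂, s2, e2⟩ := hblks bT a'
    obtain ⟨τ₁, h1, f1, g1⟩ := hfix σ₁ _ hTb
    obtain ⟨τ₂, h2, f2, g2⟩ := hfix σ₂ _ hTb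
    refine ⟨⟨τ₂ * τ₁⁻¹, mul_mem h2 (inv_mem h1)⟩, ?_, ?_⟩
    · show (τ₂ * τ₁⁻¹) • o = o
      rw [mul_smul, inv_smul_eq_iff.2 (g1 hTo s1).symm, g2 hTo s2]
    · show (τ₂ * τ₁⁻¹) • (some (Sum.inr a) : V B) = _
      rw [mul_smul, ← e1, ← f1, inv_smul_smul, f2, e2]
  have hHidx : H.index = 2 := by
    rw [hH, Subgroup.index_ker, MonoidHom.range_eq_top.2 fun u => ?_, Subgroup.card_top,
      Nat.card_eq_fintype_card]
    · rfl
    · rcases Int.units_eq_one_or u with rfl | rfl
      exacts [⟨1, map_one _⟩, ⟨T, hTs⟩]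
  have hHcard : Nat.card H = 44352000 := by
    have := H.card_mul_index
    rw [hHidx, hAcard] at this
    omega
  have hKcard : Nat.card (stabilizer H o) = 443520 := by
    have := (stabilizer H o).card_mul_index
    rw [index_stabilizer_of_transitive, Nat.card_eq_fintype_card (α := V B), hBc, hHcard] at this
    omega
  -- the stabiliser in the even group is simple
  haveI hKsimple : IsSimpleGroup (stabilizer H o) := by
    obtain ⟨N, hN, hNM⟩ := (Cfsg.Agent.S0414.result hα hB).2.2
    haveI : IsSimpleGroup N := hNM.1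
    let Ψ : setSystemAut B ≃* stabilizer A o :=
      (MonoidHom.ofInjective hΦi).trans (MulEquiv.subgroupCongr hΦr)
    set K : Subgroup (stabilizer A o) := H.subgroupOf (stabilizer A o) with hK
    have eK : K ≃* stabilizer H o :=
      { toFun := fun k => ⟨⟨k.1.1, k.2⟩, k.1.2⟩
        invFun := fun k => ⟨⟨k.1.1, k.2⟩, k.1.2⟩
        left_inv := fun _ => rfl
        right_inv := fun _ => rfl
        map_mul' := fun _ _ => rfl }
    haveI : IsSimpleGroup (N.map Ψ.toMonoidHom) :=
      (N.equivMapOfInjective _ Ψ.injective).symm.isSimpleGroup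
    have hcN : Nat.card (N.map Ψ.toMonoidHom) = 443520 := by
      rw [Subgroup.card_map_of_injective Ψ.injective]
      exact hNM.2
    have hcK : Nat.card K = 443520 := by rw [Nat.card_congr eK.toEquiv, hKcard]
    set L := K.subgroupOf (N.map Ψ.toMonoidHom) with hL
    haveI : K.Normal := Subgroup.Normal.subgroupOf (MonoidHom.normal_ker sgn) _
    have hLtop : L = ⊤ := by
      refine (IsSimpleGroup.eq_bot_or_eq_top_of_normal L inferInstance).resolve_left fun h => ?_
      have hi : K.relIndex (N.map Ψ.toMonoidHom) ∣ K.index := Subgroup.relIndex_dvd_index_of_normal K _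
      have hK2 : K.index = 2 := by
        have := K.card_mul_index
        rw [hcK, hstab] at this
        omega
      rw [Subgroup.relIndex, ← hL, h, Subgroup.index_bot, hcN, hK2] at hi
      norm_num at hi
    have hle : N.map Ψ.toMonoidHom ≤ K := Subgroup.subgroupOf_eq_top.1 hLtop
    have heq : N.map Ψ.toMonoidHom = K := Subgroup.eq_of_le_of_card_ge hle (by rw [hcN, hcK])
    haveI : IsSimpleGroup K := heq ▸ ‹IsSimpleGroup (N.map Ψ.toMonoidHom)›
    exact eK.symm.isSimpleGroup
  refine ⟨H, ?_, hHcard⟩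
  -- simplicity
  have hfaith : ∀ h : H, (∀ v : V B, h • v = v) → h = 1 := fun h hh =>
    Subtype.ext (Subtype.ext (Equiv.ext hh))
  have hnormal : ∀ N : Subgroup H, N.Normal →
      N = ⊥ ∨ ((∀ v : V B, ∃ n : H, n ∈ N ∧ n • o = v) ∧ 100 ∣ Nat.card N) := by
    intro N hN
    have hinv : ∀ k : H, k • o = o → ∀ v ∈ orbit N o, k • v ∈ orbit N o := by
      rintro k hk _ ⟨n, rfl⟩
      refine ⟨⟨k * n * k⁻¹, hN.conj_mem _ n.2 k⟩, ?_⟩
      show (k * (n : H) * k⁻¹) • o = k • ((n : H) • o)
      rw [mul_smul, mul_smul, inv_smul_eq_iff.2 hk.symm]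
    set O := (orbit N o).toFinset with hO
    have hmem : ∀ v, v ∈ O ↔ v ∈ orbit N o := fun v => Set.mem_toFinset
    have hcd : O.card ∣ Nat.card N := by
      rw [hO, ← Set.ncard_eq_toFinset_card', ← index_stabilizer]
      exact Subgroup.index_dvd_card _
    let P : Finset (V B) := Finset.univ.image fun a : α => some (Sum.inl a)
    let Q : Finset (V B) := Finset.univ.image fun b : B => some (Sum.inr b)
    have hPQ : (∀ a, some (Sum.inl a) ∈ O → P ⊆ O) ∧ ∀ b, some (Sum.inr b) ∈ O → Q ⊆ O := by
      constructor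
      · intro a ha v hv
        obtain ⟨a', -, rfl⟩ := Finset.mem_image.1 hv
        obtain ⟨k, hk, e⟩ := hptsH a a'
        rw [hmem] at ha ⊢
        exact e ▸ hinv k hk _ ha
      · intro b hb v hv
        obtain ⟨b', -, rfl⟩ := Finset.mem_image.1 hv
        obtain ⟨k, hk, e⟩ := hblksH b b'
        rw [hmem] at hb ⊢
        exact e ▸ hinv k hk _ hb
    have hPc : P.card = 22 := by
      rw [Finset.card_image_of_injective _ (fun a b h => by simpa using h), Finset.card_univ, hα]
    have hQc : Q.card = 77 := by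
      rw [Finset.card_image_of_injective _ (fun a b h => by simpa using h), Finset.card_univ]
      have h100 := hBc
      rw [Fintype.card_option, Fintype.card_sum, hα] at h100
      omega
    have hoO : o ∈ O := (hmem o).2 (mem_orbit_self o)
    have hd : Nat.card N ∣ 44352000 := hHcard ▸ Subgroup.card_subgroup_dvd_card N
    by_cases hP : ∃ a, some (Sum.inl a) ∈ O <;> by_cases hQ : ∃ b, some (Sum.inr b) ∈ O
    · obtain ⟨a, ha⟩ := hP
      obtain ⟨b, hb⟩ := hQ
      refine Or.inr ?_
      have : O = Finset.univ := by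
        refine Finset.eq_univ_iff_forall.2 fun v => ?_
        rcases v with _ | (a' | b')
        · exact hoO
        · exact hPQ.1 a ha (Finset.mem_image_of_mem _ (Finset.mem_univ a'))
        · exact hPQ.2 b hb (Finset.mem_image_of_mem _ (Finset.mem_univ b'))
      refine ⟨fun v => ?_, ?_⟩
      · obtain ⟨n, hn⟩ := (hmem v).1 (this ▸ Finset.mem_univ v)
        exact ⟨n, n.2, hn⟩
      · rw [this, Finset.card_univ, hBc] at hcd
        exact hcd
    · obtain ⟨a, ha⟩ := hP
      exfalso
      have : O = insert o P := by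
        refine Finset.Subset.antisymm (fun v hv => ?_) (Finset.insert_subset hoO (hPQ.1 a ha))
        rcases v with _ | (a' | b')
        · exact Finset.mem_insert_self _ _
        · exact Finset.mem_insert_of_mem (Finset.mem_image_of_mem _ (Finset.mem_univ a'))
        · exact absurd ⟨b', hv⟩ hQ
      rw [this, Finset.card_insert_of_notMem (by simp [P, o]), hPc] at hcd
      exact absurd (hcd.trans hd) (by norm_num)
    · obtain ⟨b, hb⟩ := hQ
      exfalso
      have : O = insert o Q := by
        refine Finset.Subset.antisymm (fun v hv => ?_) (Finset.insert_subset hoO (hPQ.2 b hb))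
        rcases v with _ | (a' | b')
        · exact Finset.mem_insert_self _ _
        · exact absurd ⟨a', hv⟩ hP
        · exact Finset.mem_insert_of_mem (Finset.mem_image_of_mem _ (Finset.mem_univ b'))
      rw [this, Finset.card_insert_of_notMem (by simp [Q, o]), hQc] at hcd
      exact absurd (hcd.trans hd) (by norm_num)
    · refine Or.inl (eq_bot_iff.2 fun n hn => ?_)
      have hn0 : ∀ m : H, m ∈ N → m • o = o := fun m hm => by
        have hmo : m • o ∈ O := (hmem _).2 ⟨⟨m, hm⟩, rfl⟩
        rcases hv : m • o with _ | (a' | b')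
        · rfl
        · exact absurd ⟨a', hv ▸ hmo⟩ hP
        · exact absurd ⟨b', hv ▸ hmo⟩ hQ
      rw [Subgroup.mem_bot]
      refine hfaith n fun v => ?_
      obtain ⟨k, rfl⟩ := exists_smul_eq H o v
      have := hn0 (k⁻¹ * n * k) (by simpa using hN.conj_mem n hn k⁻¹)
      rw [mul_smul, mul_smul, inv_smul_eq_iff] at this
      exact this
  haveI : Nontrivial H := (Subgroup.nontrivial_iff_ne_bot H).2 fun h => by
    rw [h, Subgroup.card_bot] at hHcard; omega
  refine IsSimpleGroup.mk fun N hN => ?_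
  rcases hnormal N hN with h | ⟨hall, h100⟩
  · exact Or.inl h
  rcases IsSimpleGroup.eq_bot_or_eq_top_of_normal (N.subgroupOf (stabilizer H o)) (hN.subgroupOf _) with
    h | h
  · -- a regular normal subgroup
    exfalso
    have hinj : Nat.card N ≤ 100 := by
      rw [← hBc, ← Nat.card_eq_fintype_card]
      refine Nat.card_le_card_of_injective (fun n : N => (n : H) • o) fun n m e => ?_
      have hs : (m : H)⁻¹ * n ∈ stabilizer H o := by
        rw [mem_stabilizer_iff, mul_smul, inv_smul_eq_iff]
        exact e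
      have hmem' : (⟨(m : H)⁻¹ * n, hs⟩ : stabilizer H o) ∈ N.subgroupOf (stabilizer H o) :=
        mul_mem (inv_mem m.2) n.2
      rw [h, Subgroup.mem_bot] at hmem'
      exact (Subtype.ext (inv_mul_eq_one.1 (congrArg Subtype.val hmem'))).symm
    have hN100 : Nat.card N = 100 := le_antisymm hinj (Nat.le_of_dvd Nat.card_pos h100)
    haveI : Fact (Nat.Prime 5) := ⟨by norm_num⟩
    obtain ⟨P⟩ : Nonempty (Sylow 5 N) := inferInstance
    have h1 : Nat.card (Sylow 5 N) = 1 := by
      have a := card_sylow_modEq_one 5 N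
      have b : Nat.card (Sylow 5 N) ∣ 100 := hN100 ▸ P.card_dvd_index.trans (Subgroup.index_dvd_card _)
      have key : ∀ s ∈ Nat.divisors 100, s % 5 = 1 → s = 1 := by decide +kernel
      exact key _ (Nat.mem_divisors.2 ⟨b, by norm_num⟩) a
    haveI : Subsingleton (Sylow 5 N) := (Nat.card_eq_one_iff_unique.1 h1).1
    haveI hchar : (P : Subgroup N).Characteristic := Sylow.characteristic_of_subsingleton P
    have hPn : ((P : Subgroup N).map N.subtype).Normal := inferInstance
    have hP5 : Nat.card P = 5 ^ 2 := by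
      rw [P.card_eq_multiplicity, hN100, show (100 : ℕ) = 5 ^ 2 * 4 by norm_num,
        Nat.factorization_mul (by norm_num) (by norm_num), Finsupp.add_apply,
        (Fact.out : Nat.Prime 5).factorization_pow, Finsupp.single_eq_same,
        Nat.factorization_eq_zero_of_not_dvd (by norm_num), add_zero]
    rcases hnormal _ hPn with h' | ⟨-, h'⟩ <;>
      rw [← Subgroup.card_map_of_injective (K := (P : Subgroup N)) N.subtype_injective] at hP5
    · rw [h', Subgroup.card_bot] at hP5; norm_num at hP5
    · rw [hP5] at h'; norm_num at h'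
  · refine Or.inr (eq_top_iff.2 fun k _ => ?_)
    have hle := Subgroup.subgroupOf_eq_top.1 h
    obtain ⟨n, hn, hnk⟩ := hall (k • o)
    have hk : n⁻¹ * k ∈ stabilizer H o := by
      rw [mem_stabilizer_iff, mul_smul, inv_smul_eq_iff]
      exact hnk.symm
    have := mul_mem hn (hle hk)
    rwa [mul_inv_cancel_left] at this

end Cfsg.Agent.Spor.HSGraph
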