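/-!
The point-block graph of a Steiner system with parameters 3, 6, 22 on numbers below 100, and two of
its automorphisms.
-/

set_option autoImplicit false
set_option maxRecDepth 100000

namespace Cfsg.Agent.Spor.HSGraph

/-- the blocks as masks on 22 points -/
def blocks : List Nat := [1594, 4773, 12036, 16601, 21574, 41666, 55680, 58401, 67881, 73751, 78984, 102512, 115212, 134275, 137244, 143650, 150112, 164165, 197520, 267080, 278836, 288778, 297489, 329924, 361730, 402512, 426152, 479233, 525792, 538689, 541443, 559142, 565528, 609296, 680068, 693760, 720970, 787469, 790674, 860704, 1048974, 1053969, 1058992, 1084488, 1120770, 1139008, 1188361, 1228818, 1246244, 1310819, 1328768, 1355780, 1573460, 1593384, 1671297, 1968384, 2099538, 2105452, 2126352, 2131092, 2134027, 2164289, 2179234, 2245896, 2336768, 2366496, 2367873, 2490886, 2624136, 2691332, 2752561, 2932800, 3164165, 3179296, 3281088, 3473432, 3679234]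

/-- an automorphism moving the extra vertex to a point -/
def move : List Nat := [1, 89, 32, 53, 83, 93, 40, 84, 0, 72, 31, 52, 69, 64, 50, 95, 77, 24, 30, 45, 26, 36, 60, 73, 9, 82, 22, 49, 17, 21, 23, 56, 66, 13, 44, 48, 14, 46, 91, 61, 37, 6, 57, 33, 51, 27, 10, 86, 63, 16, 59, 7, 54, 58, 88, 25, 47, 15, 90, 78, 71, 5, 99, 2, 35, 18, 43, 94, 55, 75, 42, 98, 76, 12, 80, 74, 62, 8, 92, 29, 65, 28, 20, 39, 70, 3, 41, 79, 85, 19, 97, 4, 87, 67, 38, 34, 81, 11, 68, 96]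

/-- its inverse -/
def moveInv : List Nat := [8, 0, 63, 85, 91, 61, 41, 51, 77, 24, 46, 97, 73, 33, 36, 57, 49, 28, 65, 89, 82, 29, 26, 30, 17, 55, 20, 45, 81, 79, 18, 10, 2, 43, 95, 64, 21, 40, 94, 83, 6, 86, 70, 66, 34, 19, 37, 56, 35, 27, 14, 44, 11, 3, 52, 68, 31, 42, 53, 50, 22, 39, 76, 48, 13, 80, 32, 93, 98, 12, 84, 60, 9, 23, 75, 69, 72, 16, 59, 87, 74, 96, 25, 4, 7, 88, 47, 92, 54, 1, 58, 38, 78, 5, 67, 15, 99, 90, 71, 62]

/-- an odd automorphism fixing the extra vertex, a point and a block -/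
def odd : List Nat := [0, 12, 2, 20, 4, 6, 11, 1, 17, 7, 5, 10, 21, 15, 3, 9, 14, 16, 13, 8, 22, 18, 19, 23, 56, 75, 31, 53, 32, 68, 25, 66, 54, 35, 30, 55, 67, 76, 27, 64, 52, 34, 26, 51, 63, 65, 77, 28, 24, 33, 29, 84, 95, 79, 99, 80, 96, 92, 81, 83, 91, 85, 82, 59, 39, 71, 69, 70, 40, 37, 38, 58, 36, 41, 57, 93, 86, 87, 97, 72, 60, 43, 62, 44, 45, 47, 42, 74, 73, 46, 61, 98, 94, 88, 89, 78, 48, 50, 49, 90]

/-- its inverse -/
def oddInv : List Nat := [0, 7, 2, 14, 4, 10, 5, 9, 19, 15, 11, 6, 1, 18, 16, 13, 17, 8, 21, 22, 3, 12, 20, 23, 48, 30, 42, 38, 47, 50, 34, 26, 28, 49, 41, 33, 72, 69, 70, 64, 68, 73, 86, 81, 83, 84, 89, 85, 96, 98, 97, 43, 40, 27, 32, 35, 24, 74, 71, 63, 80, 90, 82, 44, 39, 45, 31, 36, 29, 66, 67, 65, 79, 88, 87, 25, 37, 46, 95, 53, 55, 58, 62, 59, 51, 61, 76, 77, 93, 94, 99, 60, 57, 75, 92, 52, 56, 78, 91, 54]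

/-- the point fixed by the odd automorphism -/
def oddPt : Nat := 2

end Cfsg.Agent.Spor.HSGraph
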