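import Cfsg.Agent.Lib.Spor.HSGraph
import Cfsg.Agent.S0410

/-!
A strongly regular graph with parameters (100, 22, 0, 6) is the point-block graph of a Steiner system
with parameters 3, 6, 22, so there is only one such graph.
-/

set_option autoImplicit false

namespace Cfsg.Agent.Spor.HSUnique

open Cfsg Finset

variable {V : Type*} [Fintype V] [DecidableEq V] (G : SimpleGraph V) [DecidableRel G.Adj]

/-- the neighbours -/
def nb (v : V) : Finset V := univ.filter (G.Adj v)

omit [DecidableEq V] in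
theorem mem_nb {v w : V} : w ∈ nb G v ↔ G.Adj v w := by simp [nb]

/-- the parameters -/
structure Params : Prop where
  card : Fintype.card V = 100
  deg : ∀ v, (nb G v).card = 22
  lam : ∀ v w, G.Adj v w → nb G v ∩ nb G w = ∅
  mu : ∀ v w, v ≠ w → ¬ G.Adj v w → (nb G v ∩ nb G w).card = 6

theorem params_of_srg (h : G.IsSRGWith 100 22 0 6) : Params G := by
  have hc : ∀ v w, Fintype.card (G.commonNeighbors v w) = (nb G v ∩ nb G w).card := fun v w => by
    rw [← Set.toFinset_card]
    congr 1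
    ext x
    simp [nb, SimpleGraph.mem_commonNeighbors]
  refine ⟨h.card, fun v => ?_, fun v w a => card_eq_zero.1 ((hc v w).symm.trans (h.of_adj v w a)),
    fun v w a b => (hc v w).symm.trans (h.of_not_adj a b)⟩
  rw [← h.regular v, ← SimpleGraph.card_neighborFinset_eq_degree]
  congr 1
  ext x
  simp [nb]

variable {G}

omit [Fintype V] in
theorem swap_count {ι : Type*} (M : Finset V) (f : V → Finset ι) (A : Finset ι) [DecidableEq ι] :
    ∑ c ∈ M, (A ∩ f c).card = ∑ x ∈ A, (M.filter fun c => x ∈ f c).card := by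
  calc ∑ c ∈ M, (A ∩ f c).card = ∑ c ∈ M, ∑ x ∈ A, if x ∈ f c then 1 else 0 :=
        sum_congr rfl fun c _ => by
          rw [← card_filter]
          exact congrArg Finset.card (Finset.filter_mem_eq_inter).symm
    _ = ∑ x ∈ A, (M.filter fun c => x ∈ f c).card := by
        rw [sum_comm]
        exact sum_congr rfl fun x _ => (card_filter _ _).symm

omit [Fintype V] in
theorem swap_count_sq {ι : Type*} (M : Finset V) (f : V → Finset ι) (A : Finset ι) [DecidableEq ι] :
    ∑ c ∈ M, (A ∩ f c).card * (A ∩ f c).card =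
      ∑ x ∈ A, ∑ y ∈ A, (M.filter fun c => x ∈ f c ∧ y ∈ f c).card := by
  have h := swap_count M (fun c => f c ×ˢ f c) (A ×ˢ A)
  rw [sum_product] at h
  refine Eq.trans ?_ (h.trans (sum_congr rfl fun x _ => sum_congr rfl fun y _ => ?_))
  · refine sum_congr rfl fun c _ => ?_
    rw [← card_product, Finset.product_inter_product]
  · congr 1
    ext c
    simp

variable (h : Params G) (o : V)
include h

/-- the points -/
abbrev Pt (G : SimpleGraph V) (o : V) : Type _ := {x : V // G.Adj o x}

/-- the block of a vertex -/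
def blkOf (G : SimpleGraph V) [DecidableRel G.Adj] (o v : V) : Finset (Pt G o) :=
  univ.filter fun x => G.Adj v x.1

/-- the remaining vertices -/
def far (G : SimpleGraph V) [DecidableRel G.Adj] (o : V) : Finset V :=
  univ.filter fun v => v ≠ o ∧ ¬ G.Adj o v

omit h in
theorem mem_far {v : V} : v ∈ far G o ↔ v ≠ o ∧ ¬ G.Adj o v := by simp [far]

omit h in
theorem mem_blkOf {v : V} {x : Pt G o} : x ∈ blkOf G o v ↔ G.Adj v x.1 := by simp [blkOf]

theorem card_pt : Fintype.card (Pt G o) = 22 := by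
  rw [Fintype.card_subtype, ← h.deg o]
  rfl

theorem card_far : (far G o).card = 77 := by
  have e : far G o = (univ \ insert o (nb G o)) := by
    ext v
    simp [mem_far, mem_nb]
  rw [e, card_sdiff_of_subset (subset_univ _), card_univ, h.card,
    card_insert_of_notMem (fun hm => G.irrefl (mem_nb G |>.1 hm)), h.deg]

theorem card_blk {v : V} (hv : v ∈ far G o) : (blkOf G o v).card = 6 := by
  rw [mem_far] at hv
  rw [← h.mu o v (Ne.symm hv.1) hv.2, ← card_map (Function.Embedding.subtype _)]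
  congr 1
  ext x
  simp [blkOf, mem_nb, and_comm]

theorem point_count (x : Pt G o) : ((far G o).filter fun c => x ∈ blkOf G o c).card = 21 := by
  have e : ((far G o).filter fun c => x ∈ blkOf G o c) = (nb G x.1).erase o := by
    ext c
    simp only [mem_filter, mem_far, mem_blkOf, mem_erase, mem_nb]
    constructor
    · rintro ⟨⟨a, -⟩, b⟩; exact ⟨a, b.symm⟩
    · rintro ⟨a, b⟩
      refine ⟨⟨a, fun ha => ?_⟩, b.symm⟩
      have : c ∈ nb G o ∩ nb G x.1 := mem_inter.2 ⟨(mem_nb G).2 ha, (mem_nb G).2 b⟩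
      rw [h.lam o x.1 x.2] at this
      exact notMem_empty c this
  rw [e, card_erase_of_mem ((mem_nb G).2 x.2.symm), h.deg]

theorem pair_count {x y : Pt G o} (hxy : x ≠ y) :
    ((far G o).filter fun c => x ∈ blkOf G o c ∧ y ∈ blkOf G o c).card = 5 := by
  have hne : x.1 ≠ y.1 := fun e => hxy (Subtype.ext e)
  have hna : ¬ G.Adj x.1 y.1 := fun ha => by
    have : y.1 ∈ nb G o ∩ nb G x.1 := mem_inter.2 ⟨(mem_nb G).2 y.2, (mem_nb G).2 ha⟩
    rw [h.lam o x.1 x.2] at this
    exact notMem_empty _ this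
  have e : ((far G o).filter fun c => x ∈ blkOf G o c ∧ y ∈ blkOf G o c) = (nb G x.1 ∩ nb G y.1).erase o := by
    ext c
    simp only [mem_filter, mem_far, mem_blkOf, mem_erase, mem_inter, mem_nb]
    constructor
    · rintro ⟨⟨a, -⟩, b, b'⟩; exact ⟨a, b.symm, b'.symm⟩
    · rintro ⟨a, b, b'⟩
      refine ⟨⟨a, fun ha => ?_⟩, b.symm, b'.symm⟩
      have : c ∈ nb G o ∩ nb G x.1 := mem_inter.2 ⟨(mem_nb G).2 ha, (mem_nb G).2 b⟩
      rw [h.lam o x.1 x.2] at this
      exact notMem_empty c this
  rw [e, card_erase_of_mem (mem_inter.2 ⟨(mem_nb G).2 x.2.symm, (mem_nb G).2 y.2.symm⟩), h.mu _ _ hne hna]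

/-- two blocks meet in two points or are joined -/
theorem meet {b c : V} (hb : b ∈ far G o) (hc : c ∈ far G o) (hne : b ≠ c) :
    (G.Adj b c → (blkOf G o b ∩ blkOf G o c).card = 0) ∧
      (¬ G.Adj b c → (blkOf G o b ∩ blkOf G o c).card = 2) := by
  classical
  set A := blkOf G o b
  have hadj : ∀ d, G.Adj b d → (A ∩ blkOf G o d).card = 0 := fun d hd => by
    rw [card_eq_zero, eq_empty_iff_forall_notMem]
    intro x hx
    rw [mem_inter, mem_blkOf, mem_blkOf] at hx
    have : x.1 ∈ nb G b ∩ nb G d := mem_inter.2 ⟨(mem_nb G).2 hx.1, (mem_nb G).2 hx.2⟩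
    rw [h.lam b d hd] at this
    exact notMem_empty _ this
  refine ⟨hadj c, fun hna => ?_⟩
  have hA : A.card = 6 := card_blk h o hb
  have h1 : ∑ d ∈ far G o, (A ∩ blkOf G o d).card = 126 := by
    rw [swap_count, sum_congr rfl (fun x _ => point_count h o x), sum_const, hA]
    rfl
  have h2 : ∑ d ∈ far G o, (A ∩ blkOf G o d).card * (A ∩ blkOf G o d).card = 276 := by
    rw [swap_count_sq]
    have : ∀ x ∈ A, ∑ y ∈ A, ((far G o).filter fun d => x ∈ blkOf G o d ∧ y ∈ blkOf G o d).card = 46 := by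
      intro x hx
      rw [← add_sum_erase _ _ hx, sum_congr rfl (fun y hy => pair_count h o (Ne.symm (mem_erase.1 hy).1)),
        sum_const, card_erase_of_mem hx, hA]
      simp only [and_self, point_count h o x]
      rfl
    rw [sum_congr rfl this, sum_const, hA]
    rfl
  set R := ((far G o).erase b).filter fun d => ¬ G.Adj b d with hR
  have hsplit : ∀ F : V → ℕ, (∀ d, G.Adj b d → F d = 0) →
      ∑ d ∈ far G o, F d = F b + ∑ d ∈ R, F d := fun F hF => by
    rw [← add_sum_erase _ _ hb, hR, sum_filter]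
    congr 1
    refine sum_congr rfl fun d _ => ?_
    by_cases hd : G.Adj b d
    · rw [if_neg (not_not.2 hd), hF d hd]
    · rw [if_pos hd]
  have hRc : R.card = 60 := by
    have e : ((far G o).erase b).filter (G.Adj b) = nb G b \ nb G o := by
      ext d
      simp only [mem_filter, mem_erase, mem_far, mem_sdiff, mem_nb]
      constructor
      · rintro ⟨⟨-, -, a⟩, a'⟩; exact ⟨a', a⟩
      · rintro ⟨a, a'⟩
        refine ⟨⟨(G.ne_of_adj a).symm, fun e => ?_, a'⟩, a⟩
        exact ((mem_far o).1 hb).2 (e ▸ a).symm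
    have hd16 : (nb G b \ nb G o).card = 16 := by
      have h6 : (nb G b ∩ nb G o).card = 6 := by
        rw [inter_comm]
        exact h.mu o b (Ne.symm ((mem_far o).1 hb).1) ((mem_far o).1 hb).2
      have := card_sdiff_add_card_inter (nb G b) (nb G o)
      rw [h.deg, h6] at this
      omega
    have := card_filter_add_card_filter_not (s := (far G o).erase b) (G.Adj b)
    rw [e, hd16, card_erase_of_mem hb, card_far h o] at this
    rw [hR]
    omega
  have e1 := hsplit (fun d => (A ∩ blkOf G o d).card) hadj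
  have e2 := hsplit (fun d => (A ∩ blkOf G o d).card * (A ∩ blkOf G o d).card)
    (fun d hd => by rw [hadj d hd])
  rw [h1] at e1
  rw [h2] at e2
  simp only [inter_self, hA, A] at e1 e2
  have hz : ∑ d ∈ R, (((A ∩ blkOf G o d).card : ℤ) - 2) ^ 2 = 0 := by
    have : ∀ d, (((A ∩ blkOf G o d).card : ℤ) - 2) ^ 2 =
        ((A ∩ blkOf G o d).card * (A ∩ blkOf G o d).card : ℕ) - 4 * ((A ∩ blkOf G o d).card : ℤ) + 4 :=
      fun d => by push_cast; ring
    rw [sum_congr rfl (fun d _ => this d), sum_add_distrib, sum_sub_distrib, sum_const, hRc, ← mul_sum,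
      ← Nat.cast_sum, ← Nat.cast_sum]
    simp only [A] at *
    rw [show (∑ d ∈ R, (blkOf G o b ∩ blkOf G o d).card * (blkOf G o b ∩ blkOf G o d).card) = 240 by omega,
      show (∑ d ∈ R, (blkOf G o b ∩ blkOf G o d).card) = 120 by omega]
    norm_num
  have := (sum_eq_zero_iff_of_nonneg fun d _ => sq_nonneg _).1 hz c
    (mem_filter.2 ⟨mem_erase.2 ⟨hne.symm, hc⟩, hna⟩)
  have := pow_eq_zero_iff (n := 2) two_ne_zero |>.1 this
  omega

theorem blk_inj {b c : V} (hb : b ∈ far G o) (hc : c ∈ far G o) (e : blkOf G o b = blkOf G o c) : b = c := by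
  by_contra hne
  have h6 := card_blk h o hb
  rcases em (G.Adj b c) with a | a
  · have := (meet h o hb hc hne).1 a
    rw [← e, inter_self, h6] at this
    omega
  · have := (meet h o hb hc hne).2 a
    rw [← e, inter_self, h6] at this
    omega

theorem steiner : IsSteinerSystem 3 6 (↑((far G o).image (blkOf G o)) : Set (Finset (Pt G o))) := by
  classical
  refine ⟨fun b hb => ?_, ?_⟩
  · obtain ⟨v, hv, rfl⟩ := mem_image.1 (mem_coe.1 hb)
    exact card_blk h o hv
  have hone : ∀ {s : Finset (Pt G o)}, s.card = 3 → ∀ {b c}, b ∈ far G o → c ∈ far G o →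
      s ⊆ blkOf G o b → s ⊆ blkOf G o c → b = c := by
    intro s hs b c hb hc sb sc
    by_contra hne
    have hle := card_le_card (subset_inter sb sc)
    rcases em (G.Adj b c) with a | a
    · rw [(meet h o hb hc hne).1 a] at hle; omega
    · rw [(meet h o hb hc hne).2 a] at hle; omega
  intro s hs
  have hU : ((far G o).biUnion fun v => (blkOf G o v).powersetCard 3) = (univ : Finset (Pt G o)).powersetCard 3 := by
    refine eq_of_subset_of_card_le (fun t ht => ?_) ?_
    · obtain ⟨v, -, ht⟩ := mem_biUnion.1 ht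
      rw [mem_powersetCard] at ht ⊢
      exact ⟨subset_univ _, ht.2⟩
    · rw [card_powersetCard, card_univ, card_pt h o, card_biUnion]
      · rw [sum_congr rfl (fun v hv => by rw [card_powersetCard, card_blk h o hv]), sum_const, card_far h o]
        decide
      · intro b hb c hc hne
        rw [Function.onFun, disjoint_left]
        intro t tb tc
        rw [mem_powersetCard] at tb tc
        exact hne (hone tb.2 hb hc tb.1 tc.1)
  have : s ∈ ((far G o).biUnion fun v => (blkOf G o v).powersetCard 3) := by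
    rw [hU, mem_powersetCard]; exact ⟨subset_univ _, hs⟩
  obtain ⟨v, hv, hsv⟩ := mem_biUnion.1 this
  rw [mem_powersetCard] at hsv
  refine ⟨blkOf G o v, ⟨mem_coe.2 (mem_image_of_mem _ hv), hsv.1⟩, ?_⟩
  rintro b ⟨hb, hsb⟩
  obtain ⟨w, hw, rfl⟩ := mem_image.1 (mem_coe.1 hb)
  rw [hone hs hw hv hsb hsv.1]

/-- a graph with these parameters is a point-block graph -/
theorem exists_system : ∃ B : Set (Finset (Pt G o)), IsSteinerSystem 3 6 B ∧
    Nonempty (G ≃g pointBlockGraph B) := by
  classical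
  set B : Set (Finset (Pt G o)) := ↑((far G o).image (blkOf G o)) with hBdef
  have hst : IsSteinerSystem 3 6 B := steiner h o
  haveI : Fintype B := Fintype.ofFinite _
  have hne : ∀ b ∈ B, (b : Finset (Pt G o)).Nonempty := fun b hb => card_pos.1 (by rw [hst.1 b hb]; norm_num)
  refine ⟨B, hst, ?_⟩
  have hfar : ∀ v, v ≠ o → ¬ G.Adj o v → blkOf G o v ∈ B := fun v a b =>
    mem_coe.2 (mem_image_of_mem _ ((mem_far o).2 ⟨a, b⟩))
  let f : V → Option (Pt G o ⊕ B) := fun v =>
    if hv : v = o then none else if ha : G.Adj o v then some (Sum.inl ⟨v, ha⟩)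
    else some (Sum.inr ⟨blkOf G o v, hfar v hv ha⟩)
  have hf0 : f o = none := dif_pos rfl
  have hf1 : ∀ v (ha : G.Adj o v), f v = some (Sum.inl ⟨v, ha⟩) := fun v ha => by
    simp only [f]
    rw [dif_neg (G.ne_of_adj ha).symm, dif_pos ha]
  have hf2 : ∀ v (hv : v ≠ o) (ha : ¬ G.Adj o v), f v = some (Sum.inr ⟨blkOf G o v, hfar v hv ha⟩) :=
    fun v hv ha => by
      simp only [f]
      rw [dif_neg hv, dif_neg ha]
  have hbij : Function.Bijective f := by
    constructor
    · intro v w e
      rcases eq_or_ne v o with hv | hv <;> rcases eq_or_ne w o with hw | hw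
      · exact hv.trans hw.symm
      · rw [hv, hf0] at e
        by_cases ha : G.Adj o w
        · rw [hf1 w ha] at e; simp at e
        · rw [hf2 w hw ha] at e; simp at e
      · rw [hw, hf0] at e
        by_cases ha : G.Adj o v
        · rw [hf1 v ha] at e; simp at e
        · rw [hf2 v hv ha] at e; simp at e
      · by_cases ha : G.Adj o v <;> by_cases hb : G.Adj o w
        · rw [hf1 v ha, hf1 w hb] at e
          exact congrArg Subtype.val (Sum.inl.inj (Option.some.inj e))
        · rw [hf1 v ha, hf2 w hw hb] at e; simp at e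
        · rw [hf2 v hv ha, hf1 w hb] at e; simp at e
        · rw [hf2 v hv ha, hf2 w hw hb] at e
          exact blk_inj h o ((mem_far o).2 ⟨hv, ha⟩) ((mem_far o).2 ⟨hw, hb⟩)
            (congrArg Subtype.val (Sum.inr.inj (Option.some.inj e)))
    · rintro (_ | (x | ⟨b, hb⟩))
      · exact ⟨o, hf0⟩
      · exact ⟨x.1, hf1 x.1 x.2⟩
      · obtain ⟨v, hv, rfl⟩ := mem_image.1 (mem_coe.1 hb)
        rw [mem_far] at hv
        exact ⟨v, hf2 v hv.1 hv.2⟩
  obtain ⟨a1, a2, a3, a4, a5, a6⟩ := HSGraph.adj_iff hne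
  refine ⟨⟨Equiv.ofBijective f hbij, ?_⟩⟩
  intro v w
  rw [Equiv.ofBijective_apply, Equiv.ofBijective_apply]
  have hpb : ∀ (x : Pt G o) (c : V) (hc : c ≠ o) (hcn : ¬ G.Adj o c),
      (pointBlockGraph B).Adj (f x.1) (f c) ↔ G.Adj x.1 c := fun x c hc hcn => by
    rw [hf1 x.1 x.2, hf2 c hc hcn, a5, mem_blkOf, SimpleGraph.adj_comm]
  rcases eq_or_ne v o with rfl | hv <;> rcases eq_or_ne w v with rfl | hwv
  · exact iff_of_false (by rw [hf0]; exact a2) G.irrefl
  · rw [hf0]
    by_cases ha : G.Adj v w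
    · rw [hf1 w ha]; exact iff_of_true (a1 _) ha
    · rw [hf2 w hwv ha]; exact iff_of_false (a3 _) ha
  · exact iff_of_false (SimpleGraph.irrefl _) G.irrefl
  rcases eq_or_ne w o with rfl | hw
  · rw [hf0]
    by_cases ha : G.Adj w v
    · rw [hf1 v ha]; exact iff_of_true (a1 _).symm ha.symm
    · rw [hf2 v hv ha]; exact iff_of_false (fun e => a3 _ e.symm) fun e => ha e.symm
  by_cases ha : G.Adj o v <;> by_cases hb : G.Adj o w
  · rw [hf1 v ha, hf1 w hb]
    refine iff_of_false (a4 _ _) fun hvw => ?_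
    have : w ∈ nb G o ∩ nb G v := mem_inter.2 ⟨(mem_nb G).2 hb, (mem_nb G).2 hvw⟩
    rw [h.lam o v ha] at this
    exact notMem_empty w this
  · exact hpb ⟨v, ha⟩ w hw hb
  · rw [SimpleGraph.adj_comm, hpb ⟨w, hb⟩ v hv ha, SimpleGraph.adj_comm]
  · rw [hf2 v hv ha, hf2 w hw hb, a6]
    obtain ⟨m0, m2⟩ := meet h o ((mem_far o).2 ⟨hv, ha⟩) ((mem_far o).2 ⟨hw, hb⟩) hwv.symm
    rw [disjoint_iff_inter_eq_empty]
    constructor
    · intro hd
      by_contra hna
      have := m2 hna
      rw [hd, card_empty] at this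
      omega
    · exact fun hd => card_eq_zero.1 (m0 hd)

/-- a graph with these parameters is the model graph -/
theorem exists_model_iso :
    Nonempty (G ≃g pointBlockGraph (HSGraph.model : Set (Finset (Fin 22)))) := by
  classical
  obtain ⟨o⟩ : Nonempty V := Fintype.card_pos_iff.1 (by rw [h.card]; norm_num)
  obtain ⟨B, hB, ⟨φ⟩⟩ := exists_system h o
  haveI : Fintype B := Fintype.ofFinite _
  have hm := HSGraph.model_steiner
  obtain ⟨e, he⟩ := Cfsg.Agent.S0410.result (Fintype.card_fin 22) (card_pt h o) hm hB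
  have hne : ∀ b ∈ B, (b : Finset (Pt G o)).Nonempty := fun b hb => card_pos.1 (by rw [hB.1 b hb]; norm_num)
  have hne' : ∀ b ∈ (HSGraph.model : Set (Finset (Fin 22))), (b : Finset (Fin 22)).Nonempty := fun b hb =>
    card_pos.1 (by rw [hm.1 b hb]; norm_num)
  have heid : (fun b : Finset (Fin 22) => b.image (Equiv.refl (Fin 22))) ''
      (HSGraph.model : Set (Finset (Fin 22))) = (HSGraph.model : Set (Finset (Fin 22))) := by simp
  let u : Fin 100 ≃ Option (Pt G o ⊕ B) := Equiv.ofBijective _ (HSGraph.vert_bij e he)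
  let u' := Equiv.ofBijective _ (HSGraph.vert_bij (Equiv.refl (Fin 22)) heid)
  refine ⟨φ.trans ⟨u.symm.trans u', ?_⟩⟩
  intro x y
  obtain ⟨i, rfl⟩ := u.surjective x
  obtain ⟨j, rfl⟩ := u.surjective y
  rw [Equiv.trans_apply, Equiv.trans_apply, Equiv.symm_apply_apply, Equiv.symm_apply_apply]
  exact (HSGraph.vert_adj (Equiv.refl (Fin 22)) heid hne' i j).trans (HSGraph.vert_adj e he hne i j).symm

end Cfsg.Agent.Spor.HSUnique
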