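import Cfsg.Agent.Lib.Spor.HePres

/-!
Coset certificate `IdxABC` of He: data.
-/

set_option autoImplicit false
set_option maxRecDepth 100000

namespace Cfsg.Agent.Spor.HeCert.IdxABC

open Cfsg.Agent.Spor.CC

/-- packed equalities -/
def factC0 : ℕ := 0x140003000006c0017000008c001f00000ac00260000094001e000003400070100098001f0200058000f0200038000800000bc002e00000b0002a000006000140000040000c00000b4002900000a000220000044000a01000a40023020006800130200048000b01000b8002b0200090001d0200070001501000bc002d020009c00210200080001902000bc002c02000b8002a02000b4002801000b0002702000ac002501000a8002402000a4002201000a00021000009c00200200098001e0100094001d0000090001c020008c001b0100088001a0000084001901000800018020007c0017010007800160000074001501000700014010006c0013000006800120100064001102000600010010005c000f0000058000e0100054000d0200050000c000004c000b0100048000a0200044000901000400009000003c0008010003800070200034000601000300006010002c0005020002800040000024000401000200003020001c0002000001800020200014000101000100001020000c00000100008000000000040000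

/-- the recorded equalities -/
def facts (id : ℕ) : ℕ :=
  fld factC0 44 (Nat.sub id 0)

/-- packed words -/
def words : ℕ := 0x1010101080000000000000000000000000000000000000000000000000000000000000000000000000000000000000000000000000000000000000000000000000020200400000000000000000000000000000000000000000000000000000000000000000000000000000000000000000000000000000000000000000000001010101008000000000000000000000000000000000000000000000000000000000000000000000000000000000000000000000000000000000000000000000000121212060000000000000000000000000000000000000000000000000000000000000000000000000000000000000000000000000000000000000000000000000002020400000000000000000000000000000000000000000000000000000000000000000000000000000000000000000000000000000000000000000000000021212106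

/-- the certificate -/
def dat : Data where
  ng := 3
  na := 48
  nn := 48
  facts := facts
  words := words
  nr := 6
  nw := 6

/-- witnesses for the words -/
def wit : List (ℕ × ℕ × Bool) := [
  (9, 0, false),
  (8, 0, true),
  (9, 0, true),
  (7, 0, false),
  (8, 0, false),
  (7, 0, true)]

/-- subgroup words -/
def subW : List (List ℕ) := []

/-- letters -/
def letters : List ℕ := [0, 1, 2]

theorem defs_ok : ∀ k, k < dat.na - 1 → defOK dat k = true := by decide +kernel

end Cfsg.Agent.Spor.HeCert.IdxABC
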