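import Cfsg.Agent.Lib.Spor.HeIdxABCData

/-!
Coset certificate `IdxABC` of He: checks.
-/

set_option autoImplicit false
set_option maxRecDepth 100000

namespace Cfsg.Agent.Spor.HeCert.IdxABC

open Cfsg.Agent.Spor.CC

/-- checked entries -/
def stL0 : List ℕ := [
0x300001000007c0005e0003f0000500000020,
0x130000800005f0040200040020,
0x5c0002b0001600009c000610080300080027,
0x280000c00005c0004e00037000050000001c,
0x1180007000065004020004001c,
0x5a0002900015000090000670080300080024,
0x140000400001c00026000230000500000012,
0xc8000480006b0040200040012,
0x5000021000110000680006d008030008001a,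
0x4800022000210000300040011,
0x1380008000030000210000c8000440007100c04000c0011,
0x160000a0000730040200100028,
0x5800014000020000080001c000220001f0000700140010,
0xb80004c000770040200100010,
0x158000980003e000290001180006c0007900c04000c0018,
0x170000b40007b004020010002c,
0xe0000200000c0001a0001b000050000000e,
0xa8000380007f004020004000e,
0x4a0001d0000f000058000810080300080016,
0x300001600019000030004000d,
0x12000070000280001d0000a8000340008500c04000c000d,
0x15000094000870040200100025,
0x1bc000ea000630003e0001a0001060008901402000c002b,
0x1140007a0008b0040200100023,
0x540004a00035000078000740005a0008d00c04000c001b]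

theorem stOK0 : stepsOK dat stL0 47 = true := by decide +kernel

end Cfsg.Agent.Spor.HeCert.IdxABC
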