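import Cfsg.Agent.Lib.Spor.HePres

/-!
Coset certificate `IdxACD` of He: data.
-/

set_option autoImplicit false
set_option maxRecDepth 100000

namespace Cfsg.Agent.Spor.HeCert.IdxACD

open Cfsg.Agent.Spor.CC

/-- packed equalities -/
def factC0 : ℕ := 0x30000a00000100002000001400030000040000e00000200006020004400120000034000b0000044000f00000240007010004c0010000004c0012020004c000f0100048000e0100044000d0200040000c010003c000b0200038000a0200034000901000300008020002c0007010002800060100024000502000200004010001c0003020001800020200014000101000100001020000c00000100008000000000040000

/-- the recorded equalities -/
def facts (id : ℕ) : ℕ :=
  fld factC0 44 (Nat.sub id 0)

/-- packed words -/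
def words : ℕ := 0x121021212120b0000000000000000000000000000000000000000000000000000000000000000000000000000000000000000000000000000000000000000000121212120120b0000000000000000000000000000000000000000000000000000000000000000000000000000000000000000000000000000000000000000000121212012120b00000000000000000000000000000000000000000000000000000000000000000000000000000000000000000000000000000000000000000000000000202004000000000000000000000000000000000000000000000000000000000000000000000000000000000000000000000000000000000000000000000000001010040000000000000000000000000000000000000000000000000000000000000000000000000000000000000000000000000000000000000000000121212121020b0000000000000000000000000000000000000000000000000000000000000000000000000000000000000000000000000000000000000000000121212102120b0000000000000000000000000000000000000000000000000000000000000000000000000000000000000000000000000000000000000000000121210212120b0000000000000000000000000000000000000000000000000000000000000000000000000000000000000000000000000000000000000000000012121212120b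

/-- the certificate -/
def dat : Data where
  ng := 3
  na := 20
  nn := 20
  facts := facts
  words := words
  nr := 9
  nw := 9

/-- witnesses for the words -/
def wit : List (ℕ × ℕ × Bool) := [
  (30, 1, false),
  (30, 6, true),
  (30, 4, true),
  (30, 2, true),
  (8, 0, false),
  (10, 0, false),
  (30, 7, false),
  (30, 9, false),
  (30, 8, true)]

/-- subgroup words -/
def subW : List (List ℕ) := []

/-- letters -/
def letters : List ℕ := [0, 2, 3]

theorem defs_ok : ∀ k, k < dat.na - 1 → defOK dat k = true := by decide +kernel

end Cfsg.Agent.Spor.HeCert.IdxACD
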