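import Cfsg.Agent.Lib.Spor.HeIdxACDData

/-!
Coset certificate `IdxACD` of He: checks.
-/

set_option autoImplicit false
set_option maxRecDepth 100000

namespace Cfsg.Agent.Spor.HeCert.IdxACD

open Cfsg.Agent.Spor.CC

/-- checked entries -/
def stL0 : List ℕ := [
0x440001a000090000280000400005000068000540003a000250000a00000013,
0x3c00016000070000180000000005000068000540003a000250000a00040013,
0x20000080000380003c0002e0001f000148000540003a0002501c0300080013,
0x4000018000080000200000e0000f0000b80007c000520002502401000c0013,
0x840003a0002d0040200100011,
0x9c000480002d0000300140011,
0x1c000060000480004400032000210000980006c00046000310180400180011,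
0x3c000160000700001800012000110000c800084000460003102002001c0011,
0x220001900010800010000060000b0000980006c000460003100c0700200011,
0xc0000900008800064000420000b0000980006c00046000310140500040011,
0x2c0000e0000300002400022000190001080006c000460003101c0300080011]

theorem stOK0 : stepsOK dat stL0 19 = true := by decide +kernel

end Cfsg.Agent.Spor.HeCert.IdxACD
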