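import Cfsg.Agent.Lib.Spor.HeIdxMainSteps0
import Cfsg.Agent.Lib.Spor.HeIdxMainSteps1
import Cfsg.Agent.Lib.Spor.HeIdxMainSteps2
import Cfsg.Agent.Lib.Spor.HeIdxMainSteps3
import Cfsg.Agent.Lib.Spor.HeIdxMainSteps4
import Cfsg.Agent.Lib.Spor.HeIdxMainSteps5
import Cfsg.Agent.Lib.Spor.HeIdxMainSteps6
import Cfsg.Agent.Lib.Spor.HeIdxMainSteps7
import Cfsg.Agent.Lib.Spor.HeIdxMainSteps8
import Cfsg.Agent.Lib.Spor.HeIdxMainSteps9
import Cfsg.Agent.Lib.Spor.HeIdxMainSteps10
import Cfsg.Agent.Lib.Spor.HeIdxMainSteps11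
import Cfsg.Agent.Lib.Spor.HeIdxMainSteps12
import Cfsg.Agent.Lib.Spor.HeIdxMainEdges0
import Cfsg.Agent.Lib.Spor.HeIdxMainEdges1
import Cfsg.Agent.Lib.Spor.HeIdxMainEdges2
import Cfsg.Agent.Lib.Spor.HeIdxMainEdges3
import Cfsg.Agent.Lib.Spor.HeIdxMainEdges4
import Cfsg.Agent.Lib.Spor.HeIdxMainEdges5
import Cfsg.Agent.Lib.Spor.HeIdxMainEdges6
import Cfsg.Agent.Lib.Spor.HeIdxMainEdges7
import Cfsg.Agent.Lib.Spor.HeIdxMainEdges8
import Cfsg.Agent.Lib.Spor.HeIdxMainEdges9
import Cfsg.Agent.Lib.Spor.HeIdxMainEdges10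
import Cfsg.Agent.Lib.Spor.HeIdxMainEdges11
import Cfsg.Agent.Lib.Spor.HeIdxMainEdges12
import Cfsg.Agent.Lib.Spor.HeIdxMainEdges13
import Cfsg.Agent.Lib.Spor.HeIdxMainEdges14
import Cfsg.Agent.Lib.Spor.HeIdxMainEdges15
import Cfsg.Agent.Lib.Spor.HeIdxMainEdges16
import Cfsg.Agent.Lib.Spor.HeIdxMainEdges17
import Cfsg.Agent.Lib.Spor.HeIdxMainEdges18
import Cfsg.Agent.Lib.Spor.HeIdxMainEdges19
import Cfsg.Agent.Lib.Spor.HeIdxMainEdges20
import Cfsg.Agent.Lib.Spor.HeIdxMainEdges21
import Cfsg.Agent.Lib.Spor.HeIdxMainEdges22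
import Cfsg.Agent.Lib.Spor.HeIdxMainEdges23
import Cfsg.Agent.Lib.Spor.HeIdxMainEdges24
import Cfsg.Agent.Lib.Spor.HeIdxMainEdges25
import Cfsg.Agent.Lib.Spor.HeIdxMainEdges26
import Cfsg.Agent.Lib.Spor.HeIdxMainEdges27
import Cfsg.Agent.Lib.Spor.HeIdxMainEdges28
import Cfsg.Agent.Lib.Spor.HeIdxMainEdges29
import Cfsg.Agent.Lib.Spor.HeIdxMainEdges30
import Cfsg.Agent.Lib.Spor.HeIdxMainEdges31
import Cfsg.Agent.Lib.Spor.HeIdxMainEdges32
import Cfsg.Agent.Lib.Spor.HeIdxMainEdges33
import Cfsg.Agent.Lib.Spor.HeIdxMainEdges34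

/-!
Coset certificate `IdxMain` of He: assembled.
-/

set_option autoImplicit false
set_option maxRecDepth 100000

namespace Cfsg.Agent.Spor.HeCert.IdxMain

open Cfsg.Agent.Spor.CC

theorem steps_all : ∀ k, 49979 ≤ k → k < 176388 → ∃ s, stepOK dat k s = true := by
  intro k hk0 hk
  by_cases h0 : k < 52479
  · exact stepsOK_spec _ _ stOK0 k (by omega) (lt_of_lt_of_eq h0 (by decide +kernel))
  by_cases h1 : k < 54979
  · exact stepsOK_spec _ _ stOK1 k (by omega) (lt_of_lt_of_eq h1 (by decide +kernel))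
  by_cases h2 : k < 57479
  · exact stepsOK_spec _ _ stOK2 k (by omega) (lt_of_lt_of_eq h2 (by decide +kernel))
  by_cases h3 : k < 59979
  · exact stepsOK_spec _ _ stOK3 k (by omega) (lt_of_lt_of_eq h3 (by decide +kernel))
  by_cases h4 : k < 62479
  · exact stepsOK_spec _ _ stOK4 k (by omega) (lt_of_lt_of_eq h4 (by decide +kernel))
  by_cases h5 : k < 64979
  · exact stepsOK_spec _ _ stOK5 k (by omega) (lt_of_lt_of_eq h5 (by decide +kernel))
  by_cases h6 : k < 67479
  · exact stepsOK_spec _ _ stOK6 k (by omega) (lt_of_lt_of_eq h6 (by decide +kernel))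
  by_cases h7 : k < 69979
  · exact stepsOK_spec _ _ stOK7 k (by omega) (lt_of_lt_of_eq h7 (by decide +kernel))
  by_cases h8 : k < 72479
  · exact stepsOK_spec _ _ stOK8 k (by omega) (lt_of_lt_of_eq h8 (by decide +kernel))
  by_cases h9 : k < 74979
  · exact stepsOK_spec _ _ stOK9 k (by omega) (lt_of_lt_of_eq h9 (by decide +kernel))
  by_cases h10 : k < 77479
  · exact stepsOK_spec _ _ stOK10 k (by omega) (lt_of_lt_of_eq h10 (by decide +kernel))
  by_cases h11 : k < 79979
  · exact stepsOK_spec _ _ stOK11 k (by omega) (lt_of_lt_of_eq h11 (by decide +kernel))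
  by_cases h12 : k < 82479
  · exact stepsOK_spec _ _ stOK12 k (by omega) (lt_of_lt_of_eq h12 (by decide +kernel))
  by_cases h13 : k < 84979
  · exact stepsOK_spec _ _ stOK13 k (by omega) (lt_of_lt_of_eq h13 (by decide +kernel))
  by_cases h14 : k < 87479
  · exact stepsOK_spec _ _ stOK14 k (by omega) (lt_of_lt_of_eq h14 (by decide +kernel))
  by_cases h15 : k < 89979
  · exact stepsOK_spec _ _ stOK15 k (by omega) (lt_of_lt_of_eq h15 (by decide +kernel))
  by_cases h16 : k < 92479
  · exact stepsOK_spec _ _ stOK16 k (by omega) (lt_of_lt_of_eq h16 (by decide +kernel))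
  by_cases h17 : k < 94979
  · exact stepsOK_spec _ _ stOK17 k (by omega) (lt_of_lt_of_eq h17 (by decide +kernel))
  by_cases h18 : k < 97479
  · exact stepsOK_spec _ _ stOK18 k (by omega) (lt_of_lt_of_eq h18 (by decide +kernel))
  by_cases h19 : k < 99979
  · exact stepsOK_spec _ _ stOK19 k (by omega) (lt_of_lt_of_eq h19 (by decide +kernel))
  by_cases h20 : k < 102479
  · exact stepsOK_spec _ _ stOK20 k (by omega) (lt_of_lt_of_eq h20 (by decide +kernel))
  by_cases h21 : k < 104979
  · exact stepsOK_spec _ _ stOK21 k (by omega) (lt_of_lt_of_eq h21 (by decide +kernel))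
  by_cases h22 : k < 107479
  · exact stepsOK_spec _ _ stOK22 k (by omega) (lt_of_lt_of_eq h22 (by decide +kernel))
  by_cases h23 : k < 109979
  · exact stepsOK_spec _ _ stOK23 k (by omega) (lt_of_lt_of_eq h23 (by decide +kernel))
  by_cases h24 : k < 112479
  · exact stepsOK_spec _ _ stOK24 k (by omega) (lt_of_lt_of_eq h24 (by decide +kernel))
  by_cases h25 : k < 114979
  · exact stepsOK_spec _ _ stOK25 k (by omega) (lt_of_lt_of_eq h25 (by decide +kernel))
  by_cases h26 : k < 117479
  · exact stepsOK_spec _ _ stOK26 k (by omega) (lt_of_lt_of_eq h26 (by decide +kernel))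
  by_cases h27 : k < 119979
  · exact stepsOK_spec _ _ stOK27 k (by omega) (lt_of_lt_of_eq h27 (by decide +kernel))
  by_cases h28 : k < 122479
  · exact stepsOK_spec _ _ stOK28 k (by omega) (lt_of_lt_of_eq h28 (by decide +kernel))
  by_cases h29 : k < 124979
  · exact stepsOK_spec _ _ stOK29 k (by omega) (lt_of_lt_of_eq h29 (by decide +kernel))
  by_cases h30 : k < 127479
  · exact stepsOK_spec _ _ stOK30 k (by omega) (lt_of_lt_of_eq h30 (by decide +kernel))
  by_cases h31 : k < 129979
  · exact stepsOK_spec _ _ stOK31 k (by omega) (lt_of_lt_of_eq h31 (by decide +kernel))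
  by_cases h32 : k < 132479
  · exact stepsOK_spec _ _ stOK32 k (by omega) (lt_of_lt_of_eq h32 (by decide +kernel))
  by_cases h33 : k < 134979
  · exact stepsOK_spec _ _ stOK33 k (by omega) (lt_of_lt_of_eq h33 (by decide +kernel))
  by_cases h34 : k < 137479
  · exact stepsOK_spec _ _ stOK34 k (by omega) (lt_of_lt_of_eq h34 (by decide +kernel))
  by_cases h35 : k < 139979
  · exact stepsOK_spec _ _ stOK35 k (by omega) (lt_of_lt_of_eq h35 (by decide +kernel))
  by_cases h36 : k < 142479
  · exact stepsOK_spec _ _ stOK36 k (by omega) (lt_of_lt_of_eq h36 (by decide +kernel))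
  by_cases h37 : k < 144979
  · exact stepsOK_spec _ _ stOK37 k (by omega) (lt_of_lt_of_eq h37 (by decide +kernel))
  by_cases h38 : k < 147479
  · exact stepsOK_spec _ _ stOK38 k (by omega) (lt_of_lt_of_eq h38 (by decide +kernel))
  by_cases h39 : k < 149979
  · exact stepsOK_spec _ _ stOK39 k (by omega) (lt_of_lt_of_eq h39 (by decide +kernel))
  by_cases h40 : k < 152479
  · exact stepsOK_spec _ _ stOK40 k (by omega) (lt_of_lt_of_eq h40 (by decide +kernel))
  by_cases h41 : k < 154979
  · exact stepsOK_spec _ _ stOK41 k (by omega) (lt_of_lt_of_eq h41 (by decide +kernel))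
  by_cases h42 : k < 157479
  · exact stepsOK_spec _ _ stOK42 k (by omega) (lt_of_lt_of_eq h42 (by decide +kernel))
  by_cases h43 : k < 159979
  · exact stepsOK_spec _ _ stOK43 k (by omega) (lt_of_lt_of_eq h43 (by decide +kernel))
  by_cases h44 : k < 162479
  · exact stepsOK_spec _ _ stOK44 k (by omega) (lt_of_lt_of_eq h44 (by decide +kernel))
  by_cases h45 : k < 164979
  · exact stepsOK_spec _ _ stOK45 k (by omega) (lt_of_lt_of_eq h45 (by decide +kernel))
  by_cases h46 : k < 167479
  · exact stepsOK_spec _ _ stOK46 k (by omega) (lt_of_lt_of_eq h46 (by decide +kernel))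
  by_cases h47 : k < 169979
  · exact stepsOK_spec _ _ stOK47 k (by omega) (lt_of_lt_of_eq h47 (by decide +kernel))
  by_cases h48 : k < 172479
  · exact stepsOK_spec _ _ stOK48 k (by omega) (lt_of_lt_of_eq h48 (by decide +kernel))
  by_cases h49 : k < 174979
  · exact stepsOK_spec _ _ stOK49 k (by omega) (lt_of_lt_of_eq h49 (by decide +kernel))
  exact stepsOK_spec _ _ stOK50 k (by omega) (lt_of_lt_of_eq hk (by decide +kernel))

theorem edges_all : ∀ k, k < 349860 → ∃ s, edgeOK dat 176388 k s = true := by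
  intro k hk
  by_cases h0 : k < 2500
  · exact edgesOK_spec _ _ edOK0 k (by omega) (lt_of_lt_of_eq h0 (by decide +kernel))
  by_cases h1 : k < 5000
  · exact edgesOK_spec _ _ edOK1 k (by omega) (lt_of_lt_of_eq h1 (by decide +kernel))
  by_cases h2 : k < 7500
  · exact edgesOK_spec _ _ edOK2 k (by omega) (lt_of_lt_of_eq h2 (by decide +kernel))
  by_cases h3 : k < 10000
  · exact edgesOK_spec _ _ edOK3 k (by omega) (lt_of_lt_of_eq h3 (by decide +kernel))
  by_cases h4 : k < 12500
  · exact edgesOK_spec _ _ edOK4 k (by omega) (lt_of_lt_of_eq h4 (by decide +kernel))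
  by_cases h5 : k < 15000
  · exact edgesOK_spec _ _ edOK5 k (by omega) (lt_of_lt_of_eq h5 (by decide +kernel))
  by_cases h6 : k < 17500
  · exact edgesOK_spec _ _ edOK6 k (by omega) (lt_of_lt_of_eq h6 (by decide +kernel))
  by_cases h7 : k < 20000
  · exact edgesOK_spec _ _ edOK7 k (by omega) (lt_of_lt_of_eq h7 (by decide +kernel))
  by_cases h8 : k < 22500
  · exact edgesOK_spec _ _ edOK8 k (by omega) (lt_of_lt_of_eq h8 (by decide +kernel))
  by_cases h9 : k < 25000
  · exact edgesOK_spec _ _ edOK9 k (by omega) (lt_of_lt_of_eq h9 (by decide +kernel))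
  by_cases h10 : k < 27500
  · exact edgesOK_spec _ _ edOK10 k (by omega) (lt_of_lt_of_eq h10 (by decide +kernel))
  by_cases h11 : k < 30000
  · exact edgesOK_spec _ _ edOK11 k (by omega) (lt_of_lt_of_eq h11 (by decide +kernel))
  by_cases h12 : k < 32500
  · exact edgesOK_spec _ _ edOK12 k (by omega) (lt_of_lt_of_eq h12 (by decide +kernel))
  by_cases h13 : k < 35000
  · exact edgesOK_spec _ _ edOK13 k (by omega) (lt_of_lt_of_eq h13 (by decide +kernel))
  by_cases h14 : k < 37500
  · exact edgesOK_spec _ _ edOK14 k (by omega) (lt_of_lt_of_eq h14 (by decide +kernel))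
  by_cases h15 : k < 40000
  · exact edgesOK_spec _ _ edOK15 k (by omega) (lt_of_lt_of_eq h15 (by decide +kernel))
  by_cases h16 : k < 42500
  · exact edgesOK_spec _ _ edOK16 k (by omega) (lt_of_lt_of_eq h16 (by decide +kernel))
  by_cases h17 : k < 45000
  · exact edgesOK_spec _ _ edOK17 k (by omega) (lt_of_lt_of_eq h17 (by decide +kernel))
  by_cases h18 : k < 47500
  · exact edgesOK_spec _ _ edOK18 k (by omega) (lt_of_lt_of_eq h18 (by decide +kernel))
  by_cases h19 : k < 50000
  · exact edgesOK_spec _ _ edOK19 k (by omega) (lt_of_lt_of_eq h19 (by decide +kernel))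
  by_cases h20 : k < 52500
  · exact edgesOK_spec _ _ edOK20 k (by omega) (lt_of_lt_of_eq h20 (by decide +kernel))
  by_cases h21 : k < 55000
  · exact edgesOK_spec _ _ edOK21 k (by omega) (lt_of_lt_of_eq h21 (by decide +kernel))
  by_cases h22 : k < 57500
  · exact edgesOK_spec _ _ edOK22 k (by omega) (lt_of_lt_of_eq h22 (by decide +kernel))
  by_cases h23 : k < 60000
  · exact edgesOK_spec _ _ edOK23 k (by omega) (lt_of_lt_of_eq h23 (by decide +kernel))
  by_cases h24 : k < 62500
  · exact edgesOK_spec _ _ edOK24 k (by omega) (lt_of_lt_of_eq h24 (by decide +kernel))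
  by_cases h25 : k < 65000
  · exact edgesOK_spec _ _ edOK25 k (by omega) (lt_of_lt_of_eq h25 (by decide +kernel))
  by_cases h26 : k < 67500
  · exact edgesOK_spec _ _ edOK26 k (by omega) (lt_of_lt_of_eq h26 (by decide +kernel))
  by_cases h27 : k < 70000
  · exact edgesOK_spec _ _ edOK27 k (by omega) (lt_of_lt_of_eq h27 (by decide +kernel))
  by_cases h28 : k < 72500
  · exact edgesOK_spec _ _ edOK28 k (by omega) (lt_of_lt_of_eq h28 (by decide +kernel))
  by_cases h29 : k < 75000
  · exact edgesOK_spec _ _ edOK29 k (by omega) (lt_of_lt_of_eq h29 (by decide +kernel))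
  by_cases h30 : k < 77500
  · exact edgesOK_spec _ _ edOK30 k (by omega) (lt_of_lt_of_eq h30 (by decide +kernel))
  by_cases h31 : k < 80000
  · exact edgesOK_spec _ _ edOK31 k (by omega) (lt_of_lt_of_eq h31 (by decide +kernel))
  by_cases h32 : k < 82500
  · exact edgesOK_spec _ _ edOK32 k (by omega) (lt_of_lt_of_eq h32 (by decide +kernel))
  by_cases h33 : k < 85000
  · exact edgesOK_spec _ _ edOK33 k (by omega) (lt_of_lt_of_eq h33 (by decide +kernel))
  by_cases h34 : k < 87500
  · exact edgesOK_spec _ _ edOK34 k (by omega) (lt_of_lt_of_eq h34 (by decide +kernel))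
  by_cases h35 : k < 90000
  · exact edgesOK_spec _ _ edOK35 k (by omega) (lt_of_lt_of_eq h35 (by decide +kernel))
  by_cases h36 : k < 92500
  · exact edgesOK_spec _ _ edOK36 k (by omega) (lt_of_lt_of_eq h36 (by decide +kernel))
  by_cases h37 : k < 95000
  · exact edgesOK_spec _ _ edOK37 k (by omega) (lt_of_lt_of_eq h37 (by decide +kernel))
  by_cases h38 : k < 97500
  · exact edgesOK_spec _ _ edOK38 k (by omega) (lt_of_lt_of_eq h38 (by decide +kernel))
  by_cases h39 : k < 100000
  · exact edgesOK_spec _ _ edOK39 k (by omega) (lt_of_lt_of_eq h39 (by decide +kernel))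
  by_cases h40 : k < 102500
  · exact edgesOK_spec _ _ edOK40 k (by omega) (lt_of_lt_of_eq h40 (by decide +kernel))
  by_cases h41 : k < 105000
  · exact edgesOK_spec _ _ edOK41 k (by omega) (lt_of_lt_of_eq h41 (by decide +kernel))
  by_cases h42 : k < 107500
  · exact edgesOK_spec _ _ edOK42 k (by omega) (lt_of_lt_of_eq h42 (by decide +kernel))
  by_cases h43 : k < 110000
  · exact edgesOK_spec _ _ edOK43 k (by omega) (lt_of_lt_of_eq h43 (by decide +kernel))
  by_cases h44 : k < 112500
  · exact edgesOK_spec _ _ edOK44 k (by omega) (lt_of_lt_of_eq h44 (by decide +kernel))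
  by_cases h45 : k < 115000
  · exact edgesOK_spec _ _ edOK45 k (by omega) (lt_of_lt_of_eq h45 (by decide +kernel))
  by_cases h46 : k < 117500
  · exact edgesOK_spec _ _ edOK46 k (by omega) (lt_of_lt_of_eq h46 (by decide +kernel))
  by_cases h47 : k < 120000
  · exact edgesOK_spec _ _ edOK47 k (by omega) (lt_of_lt_of_eq h47 (by decide +kernel))
  by_cases h48 : k < 122500
  · exact edgesOK_spec _ _ edOK48 k (by omega) (lt_of_lt_of_eq h48 (by decide +kernel))
  by_cases h49 : k < 125000
  · exact edgesOK_spec _ _ edOK49 k (by omega) (lt_of_lt_of_eq h49 (by decide +kernel))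
  by_cases h50 : k < 127500
  · exact edgesOK_spec _ _ edOK50 k (by omega) (lt_of_lt_of_eq h50 (by decide +kernel))
  by_cases h51 : k < 130000
  · exact edgesOK_spec _ _ edOK51 k (by omega) (lt_of_lt_of_eq h51 (by decide +kernel))
  by_cases h52 : k < 132500
  · exact edgesOK_spec _ _ edOK52 k (by omega) (lt_of_lt_of_eq h52 (by decide +kernel))
  by_cases h53 : k < 135000
  · exact edgesOK_spec _ _ edOK53 k (by omega) (lt_of_lt_of_eq h53 (by decide +kernel))
  by_cases h54 : k < 137500
  · exact edgesOK_spec _ _ edOK54 k (by omega) (lt_of_lt_of_eq h54 (by decide +kernel))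
  by_cases h55 : k < 140000
  · exact edgesOK_spec _ _ edOK55 k (by omega) (lt_of_lt_of_eq h55 (by decide +kernel))
  by_cases h56 : k < 142500
  · exact edgesOK_spec _ _ edOK56 k (by omega) (lt_of_lt_of_eq h56 (by decide +kernel))
  by_cases h57 : k < 145000
  · exact edgesOK_spec _ _ edOK57 k (by omega) (lt_of_lt_of_eq h57 (by decide +kernel))
  by_cases h58 : k < 147500
  · exact edgesOK_spec _ _ edOK58 k (by omega) (lt_of_lt_of_eq h58 (by decide +kernel))
  by_cases h59 : k < 150000
  · exact edgesOK_spec _ _ edOK59 k (by omega) (lt_of_lt_of_eq h59 (by decide +kernel))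
  by_cases h60 : k < 152500
  · exact edgesOK_spec _ _ edOK60 k (by omega) (lt_of_lt_of_eq h60 (by decide +kernel))
  by_cases h61 : k < 155000
  · exact edgesOK_spec _ _ edOK61 k (by omega) (lt_of_lt_of_eq h61 (by decide +kernel))
  by_cases h62 : k < 157500
  · exact edgesOK_spec _ _ edOK62 k (by omega) (lt_of_lt_of_eq h62 (by decide +kernel))
  by_cases h63 : k < 160000
  · exact edgesOK_spec _ _ edOK63 k (by omega) (lt_of_lt_of_eq h63 (by decide +kernel))
  by_cases h64 : k < 162500
  · exact edgesOK_spec _ _ edOK64 k (by omega) (lt_of_lt_of_eq h64 (by decide +kernel))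
  by_cases h65 : k < 165000
  · exact edgesOK_spec _ _ edOK65 k (by omega) (lt_of_lt_of_eq h65 (by decide +kernel))
  by_cases h66 : k < 167500
  · exact edgesOK_spec _ _ edOK66 k (by omega) (lt_of_lt_of_eq h66 (by decide +kernel))
  by_cases h67 : k < 170000
  · exact edgesOK_spec _ _ edOK67 k (by omega) (lt_of_lt_of_eq h67 (by decide +kernel))
  by_cases h68 : k < 172500
  · exact edgesOK_spec _ _ edOK68 k (by omega) (lt_of_lt_of_eq h68 (by decide +kernel))
  by_cases h69 : k < 175000
  · exact edgesOK_spec _ _ edOK69 k (by omega) (lt_of_lt_of_eq h69 (by decide +kernel))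
  by_cases h70 : k < 177500
  · exact edgesOK_spec _ _ edOK70 k (by omega) (lt_of_lt_of_eq h70 (by decide +kernel))
  by_cases h71 : k < 180000
  · exact edgesOK_spec _ _ edOK71 k (by omega) (lt_of_lt_of_eq h71 (by decide +kernel))
  by_cases h72 : k < 182500
  · exact edgesOK_spec _ _ edOK72 k (by omega) (lt_of_lt_of_eq h72 (by decide +kernel))
  by_cases h73 : k < 185000
  · exact edgesOK_spec _ _ edOK73 k (by omega) (lt_of_lt_of_eq h73 (by decide +kernel))
  by_cases h74 : k < 187500
  · exact edgesOK_spec _ _ edOK74 k (by omega) (lt_of_lt_of_eq h74 (by decide +kernel))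
  by_cases h75 : k < 190000
  · exact edgesOK_spec _ _ edOK75 k (by omega) (lt_of_lt_of_eq h75 (by decide +kernel))
  by_cases h76 : k < 192500
  · exact edgesOK_spec _ _ edOK76 k (by omega) (lt_of_lt_of_eq h76 (by decide +kernel))
  by_cases h77 : k < 195000
  · exact edgesOK_spec _ _ edOK77 k (by omega) (lt_of_lt_of_eq h77 (by decide +kernel))
  by_cases h78 : k < 197500
  · exact edgesOK_spec _ _ edOK78 k (by omega) (lt_of_lt_of_eq h78 (by decide +kernel))
  by_cases h79 : k < 200000
  · exact edgesOK_spec _ _ edOK79 k (by omega) (lt_of_lt_of_eq h79 (by decide +kernel))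
  by_cases h80 : k < 202500
  · exact edgesOK_spec _ _ edOK80 k (by omega) (lt_of_lt_of_eq h80 (by decide +kernel))
  by_cases h81 : k < 205000
  · exact edgesOK_spec _ _ edOK81 k (by omega) (lt_of_lt_of_eq h81 (by decide +kernel))
  by_cases h82 : k < 207500
  · exact edgesOK_spec _ _ edOK82 k (by omega) (lt_of_lt_of_eq h82 (by decide +kernel))
  by_cases h83 : k < 210000
  · exact edgesOK_spec _ _ edOK83 k (by omega) (lt_of_lt_of_eq h83 (by decide +kernel))
  by_cases h84 : k < 212500
  · exact edgesOK_spec _ _ edOK84 k (by omega) (lt_of_lt_of_eq h84 (by decide +kernel))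
  by_cases h85 : k < 215000
  · exact edgesOK_spec _ _ edOK85 k (by omega) (lt_of_lt_of_eq h85 (by decide +kernel))
  by_cases h86 : k < 217500
  · exact edgesOK_spec _ _ edOK86 k (by omega) (lt_of_lt_of_eq h86 (by decide +kernel))
  by_cases h87 : k < 220000
  · exact edgesOK_spec _ _ edOK87 k (by omega) (lt_of_lt_of_eq h87 (by decide +kernel))
  by_cases h88 : k < 222500
  · exact edgesOK_spec _ _ edOK88 k (by omega) (lt_of_lt_of_eq h88 (by decide +kernel))
  by_cases h89 : k < 225000
  · exact edgesOK_spec _ _ edOK89 k (by omega) (lt_of_lt_of_eq h89 (by decide +kernel))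
  by_cases h90 : k < 227500
  · exact edgesOK_spec _ _ edOK90 k (by omega) (lt_of_lt_of_eq h90 (by decide +kernel))
  by_cases h91 : k < 230000
  · exact edgesOK_spec _ _ edOK91 k (by omega) (lt_of_lt_of_eq h91 (by decide +kernel))
  by_cases h92 : k < 232500
  · exact edgesOK_spec _ _ edOK92 k (by omega) (lt_of_lt_of_eq h92 (by decide +kernel))
  by_cases h93 : k < 235000
  · exact edgesOK_spec _ _ edOK93 k (by omega) (lt_of_lt_of_eq h93 (by decide +kernel))
  by_cases h94 : k < 237500
  · exact edgesOK_spec _ _ edOK94 k (by omega) (lt_of_lt_of_eq h94 (by decide +kernel))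
  by_cases h95 : k < 240000
  · exact edgesOK_spec _ _ edOK95 k (by omega) (lt_of_lt_of_eq h95 (by decide +kernel))
  by_cases h96 : k < 242500
  · exact edgesOK_spec _ _ edOK96 k (by omega) (lt_of_lt_of_eq h96 (by decide +kernel))
  by_cases h97 : k < 245000
  · exact edgesOK_spec _ _ edOK97 k (by omega) (lt_of_lt_of_eq h97 (by decide +kernel))
  by_cases h98 : k < 247500
  · exact edgesOK_spec _ _ edOK98 k (by omega) (lt_of_lt_of_eq h98 (by decide +kernel))
  by_cases h99 : k < 250000
  · exact edgesOK_spec _ _ edOK99 k (by omega) (lt_of_lt_of_eq h99 (by decide +kernel))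
  by_cases h100 : k < 252500
  · exact edgesOK_spec _ _ edOK100 k (by omega) (lt_of_lt_of_eq h100 (by decide +kernel))
  by_cases h101 : k < 255000
  · exact edgesOK_spec _ _ edOK101 k (by omega) (lt_of_lt_of_eq h101 (by decide +kernel))
  by_cases h102 : k < 257500
  · exact edgesOK_spec _ _ edOK102 k (by omega) (lt_of_lt_of_eq h102 (by decide +kernel))
  by_cases h103 : k < 260000
  · exact edgesOK_spec _ _ edOK103 k (by omega) (lt_of_lt_of_eq h103 (by decide +kernel))
  by_cases h104 : k < 262500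
  · exact edgesOK_spec _ _ edOK104 k (by omega) (lt_of_lt_of_eq h104 (by decide +kernel))
  by_cases h105 : k < 265000
  · exact edgesOK_spec _ _ edOK105 k (by omega) (lt_of_lt_of_eq h105 (by decide +kernel))
  by_cases h106 : k < 267500
  · exact edgesOK_spec _ _ edOK106 k (by omega) (lt_of_lt_of_eq h106 (by decide +kernel))
  by_cases h107 : k < 270000
  · exact edgesOK_spec _ _ edOK107 k (by omega) (lt_of_lt_of_eq h107 (by decide +kernel))
  by_cases h108 : k < 272500
  · exact edgesOK_spec _ _ edOK108 k (by omega) (lt_of_lt_of_eq h108 (by decide +kernel))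
  by_cases h109 : k < 275000
  · exact edgesOK_spec _ _ edOK109 k (by omega) (lt_of_lt_of_eq h109 (by decide +kernel))
  by_cases h110 : k < 277500
  · exact edgesOK_spec _ _ edOK110 k (by omega) (lt_of_lt_of_eq h110 (by decide +kernel))
  by_cases h111 : k < 280000
  · exact edgesOK_spec _ _ edOK111 k (by omega) (lt_of_lt_of_eq h111 (by decide +kernel))
  by_cases h112 : k < 282500
  · exact edgesOK_spec _ _ edOK112 k (by omega) (lt_of_lt_of_eq h112 (by decide +kernel))
  by_cases h113 : k < 285000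
  · exact edgesOK_spec _ _ edOK113 k (by omega) (lt_of_lt_of_eq h113 (by decide +kernel))
  by_cases h114 : k < 287500
  · exact edgesOK_spec _ _ edOK114 k (by omega) (lt_of_lt_of_eq h114 (by decide +kernel))
  by_cases h115 : k < 290000
  · exact edgesOK_spec _ _ edOK115 k (by omega) (lt_of_lt_of_eq h115 (by decide +kernel))
  by_cases h116 : k < 292500
  · exact edgesOK_spec _ _ edOK116 k (by omega) (lt_of_lt_of_eq h116 (by decide +kernel))
  by_cases h117 : k < 295000
  · exact edgesOK_spec _ _ edOK117 k (by omega) (lt_of_lt_of_eq h117 (by decide +kernel))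
  by_cases h118 : k < 297500
  · exact edgesOK_spec _ _ edOK118 k (by omega) (lt_of_lt_of_eq h118 (by decide +kernel))
  by_cases h119 : k < 300000
  · exact edgesOK_spec _ _ edOK119 k (by omega) (lt_of_lt_of_eq h119 (by decide +kernel))
  by_cases h120 : k < 302500
  · exact edgesOK_spec _ _ edOK120 k (by omega) (lt_of_lt_of_eq h120 (by decide +kernel))
  by_cases h121 : k < 305000
  · exact edgesOK_spec _ _ edOK121 k (by omega) (lt_of_lt_of_eq h121 (by decide +kernel))
  by_cases h122 : k < 307500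
  · exact edgesOK_spec _ _ edOK122 k (by omega) (lt_of_lt_of_eq h122 (by decide +kernel))
  by_cases h123 : k < 310000
  · exact edgesOK_spec _ _ edOK123 k (by omega) (lt_of_lt_of_eq h123 (by decide +kernel))
  by_cases h124 : k < 312500
  · exact edgesOK_spec _ _ edOK124 k (by omega) (lt_of_lt_of_eq h124 (by decide +kernel))
  by_cases h125 : k < 315000
  · exact edgesOK_spec _ _ edOK125 k (by omega) (lt_of_lt_of_eq h125 (by decide +kernel))
  by_cases h126 : k < 317500
  · exact edgesOK_spec _ _ edOK126 k (by omega) (lt_of_lt_of_eq h126 (by decide +kernel))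
  by_cases h127 : k < 320000
  · exact edgesOK_spec _ _ edOK127 k (by omega) (lt_of_lt_of_eq h127 (by decide +kernel))
  by_cases h128 : k < 322500
  · exact edgesOK_spec _ _ edOK128 k (by omega) (lt_of_lt_of_eq h128 (by decide +kernel))
  by_cases h129 : k < 325000
  · exact edgesOK_spec _ _ edOK129 k (by omega) (lt_of_lt_of_eq h129 (by decide +kernel))
  by_cases h130 : k < 327500
  · exact edgesOK_spec _ _ edOK130 k (by omega) (lt_of_lt_of_eq h130 (by decide +kernel))
  by_cases h131 : k < 330000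
  · exact edgesOK_spec _ _ edOK131 k (by omega) (lt_of_lt_of_eq h131 (by decide +kernel))
  by_cases h132 : k < 332500
  · exact edgesOK_spec _ _ edOK132 k (by omega) (lt_of_lt_of_eq h132 (by decide +kernel))
  by_cases h133 : k < 335000
  · exact edgesOK_spec _ _ edOK133 k (by omega) (lt_of_lt_of_eq h133 (by decide +kernel))
  by_cases h134 : k < 337500
  · exact edgesOK_spec _ _ edOK134 k (by omega) (lt_of_lt_of_eq h134 (by decide +kernel))
  by_cases h135 : k < 340000
  · exact edgesOK_spec _ _ edOK135 k (by omega) (lt_of_lt_of_eq h135 (by decide +kernel))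
  by_cases h136 : k < 342500
  · exact edgesOK_spec _ _ edOK136 k (by omega) (lt_of_lt_of_eq h136 (by decide +kernel))
  by_cases h137 : k < 345000
  · exact edgesOK_spec _ _ edOK137 k (by omega) (lt_of_lt_of_eq h137 (by decide +kernel))
  by_cases h138 : k < 347500
  · exact edgesOK_spec _ _ edOK138 k (by omega) (lt_of_lt_of_eq h138 (by decide +kernel))
  exact edgesOK_spec _ _ edOK139 k (by omega) (lt_of_lt_of_eq hk (by decide +kernel))

theorem checked : Checked dat 176388 where
  defs := defs_ok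
  steps := steps_all
  edges := fun k hk => edges_all k hk
  pos := by decide
  ng_le := by decide

theorem words_ok : wordsOK dat letters 7 (Cfsg.Agent.Spor.HeCert.pres.relW ++ []) wit subW = true := by decide +kernel

end Cfsg.Agent.Spor.HeCert.IdxMain
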