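import Cfsg.Agent.Lib.Spor.HeInvBound

/-!
The centralizer of an involution in the Held group is isomorphic to the centralizer of a transvection in
SL(5,2): it permutes sixteen sets of pairs of points as the latter permutes the moved vectors.
-/

set_option autoImplicit false
set_option maxRecDepth 100000

namespace Cfsg.Agent.Spor.HeCert.HeInv

open Cfsg.Agent.Spor.CC

/-- the image of a word -/
noncomputable def gel (j : Fin 3) : pres.Grp := ((genW.getD j []).map pres.gen).prod

theorem gel_letters (j : Fin 3) : lettersOK 7 [genW.getD j []] = true := by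
  have := List.all_eq_true.mp gen_ok j (List.mem_range.2 j.2)
  simp only [Bool.and_eq_true] at this
  exact this.1

theorem gel_val (j : Fin 3) (u : Fin rep.P.n) :
    (rep.hom (gel j) u : ℕ) = ev RepS44.rows 7 (genW.getD j []) u :=
  ev_eq rep.valid pres.gen rep.hom rep.hom_gen
    (fun _ hx => lettersOK_spec (gel_letters j) (List.mem_singleton.2 rfl) hx) u

theorem gel_mem (j : Fin 3) : gel j ∈ Subgroup.centralizer ({pres.gen 3} : Set pres.Grp) := by
  refine Subgroup.mem_centralizer_singleton_iff.2 (order.2.2 (Equiv.ext fun u => Fin.ext ?_))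
  rw [map_mul, map_mul, Equiv.Perm.mul_apply, Equiv.Perm.mul_apply, gel_val, z_val, z_val, gel_val]
  have := List.all_eq_true.mp gen_ok j (List.mem_range.2 j.2)
  simp only [Bool.and_eq_true, List.all_eq_true, beq_iff_eq] at this
  exact this.2 u (List.mem_range.2 u.2)

/-- the pair is in a set -/
def InX (i : Fin 16) (p : Fin rep.P.n × Fin rep.P.n) : Prop :=
  ∃ k : ℕ, k < 336 ∧ (p.1 : ℕ) = pfst i k ∧ (p.2 : ℕ) = psnd i k

theorem inX_unique {a b : Fin 16} {p : Fin rep.P.n × Fin rep.P.n} (ha : InX a p) (hb : InX b p) : a = b := by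
  obtain ⟨k, hk, h1, h2⟩ := ha
  obtain ⟨l, hl, h3, h4⟩ := hb
  have hkey : pairKey (a * 336 + k) = pairKey (b * 336 + l) := by
    rw [pairKey, pairKey]
    show pfst a k * 2058 + psnd a k = pfst b l * 2058 + psnd b l
    rw [← h1, ← h2, h3, h4]
  have hmono : StrictMono fun r : Fin 5376 => pairKey (fld pairOrd 16 r) :=
    Fin.strictMono_iff_lt_succ.2 fun i =>
      Nat.le_of_ble_eq_true (List.all_eq_true.mp ord_mono i (List.mem_range.2 i.2))
  have hr : ∀ q, q < 5376 → fld pairRank 16 q < 5376 ∧ fld pairOrd 16 (fld pairRank 16 q) = q := by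
    intro q hq
    have := List.all_eq_true.mp rank_ok q (List.mem_range.2 hq)
    simp only [Bool.and_eq_true, beq_iff_eq] at this
    exact ⟨Nat.le_of_ble_eq_true this.1, this.2⟩
  obtain ⟨r1, e1⟩ := hr (a * 336 + k) (by omega)
  obtain ⟨r2, e2⟩ := hr (b * 336 + l) (by omega)
  have he : (⟨_, r1⟩ : Fin 5376) = ⟨_, r2⟩ := hmono.injective (by
    show pairKey (fld pairOrd 16 _) = pairKey (fld pairOrd 16 _)
    rw [e1, e2, hkey])
  have : (a : ℕ) * 336 + k = b * 336 + l := by
    rw [← e1, ← e2]; exact congrArg (fun r : Fin 5376 => fld pairOrd 16 r) he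
  exact Fin.ext (by omega)

/-- an element permutes the sets as prescribed -/
def Moves (g : pres.Grp) (σ : Equiv.Perm (Fin 16)) : Prop :=
  ∀ i p, InX i p → InX (σ i) (rep.hom g p.1, rep.hom g p.2)

theorem moves_gen (j : Fin 3) : Moves (gel j) (TransvectionType.img16 j) := by
  rintro i p ⟨k, hk, h1, h2⟩
  have h := List.all_eq_true.mp (List.all_eq_true.mp (List.all_eq_true.mp move_ok j (List.mem_range.2 j.2)) i
    (List.mem_range.2 i.2)) k (List.mem_range.2 hk)
  simp only [Bool.and_eq_true, beq_iff_eq] at h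
  obtain ⟨⟨⟨hm, hs⟩, e1⟩, e2⟩ := h
  have hσ : ((TransvectionType.img16 j i : Fin 16) : ℕ) = sigmaN j i := by
    have hs' : sigmaN j i < 16 := Nat.le_of_ble_eq_true hs
    fin_cases j <;> exact Nat.mod_eq_of_lt hs'
  exact ⟨_, Nat.le_of_ble_eq_true hm, by rw [hσ, gel_val, h1, e1], by rw [hσ, gel_val, h2, e2]⟩

theorem moves_exists {g : pres.Grp} (hg : g ∈ Subgroup.closure (Set.range gel)) : ∃ σ, Moves g σ := by
  haveI := order.1
  rw [← Subgroup.mem_toSubmonoid, Subgroup.closure_toSubmonoid_of_finite] at hg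
  induction hg using Submonoid.closure_induction with
  | mem g hg =>
    obtain ⟨j, rfl⟩ := hg
    exact ⟨_, moves_gen j⟩
  | one => exact ⟨1, fun i p hp => by rw [map_one]; exact hp⟩
  | mul a b _ _ ha hb =>
    obtain ⟨σ, hσ⟩ := ha
    obtain ⟨τ, hτ⟩ := hb
    exact ⟨σ * τ, fun i p hp => by rw [map_mul]; exact hσ _ _ (hτ _ _ hp)⟩

theorem moves_unique {g : pres.Grp} {σ τ : Equiv.Perm (Fin 16)} (h : Moves g σ) (h' : Moves g τ) : σ = τ := by
  refine Equiv.ext fun i => ?_
  have hb := List.all_eq_true.mp (List.all_eq_true.mp pair_ok i (List.mem_range.2 i.2)) 0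
    (List.mem_range.2 (by norm_num))
  simp only [Bool.and_eq_true] at hb
  have hp : InX i (⟨pfst i 0, Nat.le_of_ble_eq_true hb.1⟩, ⟨psnd i 0, Nat.le_of_ble_eq_true hb.2⟩) :=
    ⟨0, by norm_num, rfl, rfl⟩
  exact inX_unique (h i _ hp) (h' i _ hp)

/-- the subgroup generated by the words -/
abbrev C16 : Subgroup pres.Grp := Subgroup.closure (Set.range gel)

/-- the action on sixteen sets -/
noncomputable def iota : C16 →* Equiv.Perm (Fin 16) where
  toFun g := (moves_exists g.2).choose
  map_one' := moves_unique (moves_exists (one_mem _)).choose_spec fun i p hp => by rw [map_one]; exact hp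
  map_mul' a b := moves_unique (moves_exists (a * b).2).choose_spec fun i p hp => by
    rw [Subgroup.coe_mul, map_mul]
    exact (moves_exists a.2).choose_spec _ _ ((moves_exists b.2).choose_spec _ _ hp)

theorem main (s : Matrix.SpecialLinearGroup (Fin 5) (ZMod 2))
    (hs : (s : Matrix (Fin 5) (Fin 5) (ZMod 2)) = Matrix.transvection 0 1 1) :
    ∃ z : Cfsg.Spor.He, orderOf z = 2 ∧ Nonempty (↥(Subgroup.centralizer ({z} : Set Cfsg.Spor.He)) ≃*
      ↥(Subgroup.centralizer ({s} : Set (Matrix.SpecialLinearGroup (Fin 5) (ZMod 2))))) := by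
  haveI := order.1
  refine ⟨pres.gen 3, orderOf_eq_prime ?_ fun h => ?_, ?_⟩
  · exact (sq (pres.gen 3)).trans (Pres.gen_sq pres_ok 3)
  · have hne : ∃ u : Fin rep.P.n, RepS44.rows 3 u ≠ u := ⟨⟨2, by decide⟩, by decide +kernel⟩
    obtain ⟨u, hu⟩ := hne
    refine hu ?_
    rw [← z_val, show pres.gen 3 = (1 : pres.Grp) from h, map_one, Equiv.Perm.one_apply]
  set C := Subgroup.centralizer ({pres.gen 3} : Set pres.Grp)
  have hle : C16 ≤ C := (Subgroup.closure_le _).2 (by rintro _ ⟨j, rfl⟩; exact gel_mem j)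
  have hcard : Nat.card C16 ≤ 21504 := (Subgroup.card_le_of_le hle).trans card_cent
  obtain ⟨hr, hinj⟩ := TransvectionType.range_eq iota hcard fun j =>
    ⟨⟨gel j, Subgroup.subset_closure ⟨j, rfl⟩⟩, moves_unique (moves_exists (Subgroup.subset_closure ⟨j, rfl⟩ : gel j ∈ C16)).choose_spec (moves_gen j)⟩
  have e : C16 ≃* TransvectionType.K := (MonoidHom.ofInjective hinj).trans (MulEquiv.subgroupCongr hr)
  have heq : C16 = C := Subgroup.eq_of_le_of_card_ge hle
    (card_cent.trans ((Nat.card_congr e.toEquiv) ▸ TransvectionType.card_K))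
  obtain ⟨f⟩ := TransvectionType.restr_L s hs
  exact ⟨((MulEquiv.subgroupCongr heq.symm).trans e).trans f.symm⟩

end Cfsg.Agent.Spor.HeCert.HeInv
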