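import Cfsg.Agent.Lib.Spor.HeInvCheck

/-!
An upper bound for the order of the centralizer of an involution in the Held group.
-/

set_option autoImplicit false
set_option maxRecDepth 100000

namespace Cfsg.Agent.Spor.HeCert.HeInv

open Cfsg.Agent.Spor.CC Cfsg.Agent.Spor.HeCert.Sp4Blocks

section General

variable {G : Type*} [Group G] [Finite G] {n : ℕ}

theorem card_stab_inf (φ : G →* Equiv.Perm (Fin n)) (S : Subgroup G) (x : Fin n) :
    letI : MulAction S (Fin n) := MulAction.compHom _ (φ.comp S.subtype)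
    Nat.card (MulAction.orbit S x) * Nat.card (S ⊓ stab φ x : Subgroup G) = Nat.card S := by
  letI : MulAction S (Fin n) := MulAction.compHom _ (φ.comp S.subtype)
  have e : Nat.card (S ⊓ stab φ x : Subgroup G) = Nat.card (MulAction.stabilizer S x) :=
    Nat.card_congr
      { toFun := fun s => ⟨⟨s.1, s.2.1⟩, (mem_stab.1 s.2.2 : φ s.1 x = x)⟩
        invFun := fun s => ⟨s.1.1, ⟨s.1.2, mem_stab.2 s.2⟩⟩
        left_inv := fun s => rfl
        right_inv := fun s => rfl }
  rw [e, ← Nat.card_prod]
  exact Nat.card_congr (MulAction.orbitProdStabilizerEquivGroup S x)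

theorem card_le_mul (φ : G →* Equiv.Perm (Fin n)) (S : Subgroup G) (x : Fin n) (T : List ℕ)
    (hT : ∀ s ∈ S, (φ s x : ℕ) ∈ T) : Nat.card S ≤ T.length * Nat.card (S ⊓ stab φ x : Subgroup G) := by
  letI : MulAction S (Fin n) := MulAction.compHom _ (φ.comp S.subtype)
  rw [← card_stab_inf φ S x]
  refine Nat.mul_le_mul_right _ ?_
  let f : MulAction.orbit S x → {a // a ∈ T.toFinset} := fun u => ⟨(u.1 : ℕ), by
    obtain ⟨s, hs⟩ := u.2
    rw [List.mem_toFinset, ← hs]
    exact hT s.1 s.2⟩
  have hf : Function.Injective f := fun u v h => Subtype.ext (Fin.ext (congrArg (fun a => a.1) h))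
  refine (Nat.card_le_card_of_injective f hf).trans ?_
  rw [Nat.card_eq_fintype_card, Fintype.card_coe]
  exact T.toFinset_card_le

theorem mul_le_card (φ : G →* Equiv.Perm (Fin n)) (S : Subgroup G) (x : Fin n) {m : ℕ} (s : Fin m → G)
    (hs : ∀ i, s i ∈ S) (hinj : Function.Injective fun i => φ (s i) x) :
    m * Nat.card (S ⊓ stab φ x : Subgroup G) ≤ Nat.card S := by
  letI : MulAction S (Fin n) := MulAction.compHom _ (φ.comp S.subtype)
  rw [← card_stab_inf φ S x]
  refine Nat.mul_le_mul_right _ ?_
  let f : Fin m → MulAction.orbit S x := fun i => ⟨φ (s i) x, ⟨⟨s i, hs i⟩, rfl⟩⟩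
  have hf : Function.Injective f := fun i j h => hinj (congrArg (fun a => a.1) h)
  simpa using Nat.card_le_card_of_injective f hf

end General

/-- an element of the point stabiliser from a word -/
noncomputable def bel (w : List ℕ) : Hsub := (w.map gH).prod

theorem bel_val {w : List ℕ} (hw : lettersOK 7 [w] = true) (u : Fin 85) :
    (bhom (bel w) u : ℕ) = ev brows 7 w u :=
  ev_eq bvalid gH bhom bhom_gen (fun _ hx => lettersOK_spec hw (List.mem_singleton.2 rfl) hx) u

/-- the involution in the point stabiliser -/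
noncomputable def dH : Hsub := gH 2

theorem dH_val (u : Fin 85) : (bhom dH u : ℕ) = dB u := by
  rw [dH, bhom_gen 2 (by decide)]
  exact btab.perm_val bvalid (x := 2) (by decide) u

theorem dH_coe : (dH : pres.Grp) = pres.gen 3 := by
  show ((lets.getD 2 []).map pres.gen).prod = _
  rw [show lets.getD 2 [] = [3] by decide +kernel]
  simp

theorem closure_gH : Subgroup.closure (Set.range gH) = ⊤ := by
  haveI := finite_Hsub
  refine Subgroup.eq_top_of_le_card _ ?_
  rw [card_Hsub]
  refine le_of_eq_of_le full_size.symm (chain_le bvalid gH bhom bhom_gen full [] full_ok _ ?_)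
  rintro s - ⟨O, -, w, -, rfl⟩
  exact list_prod_mem fun a ha => by
    obtain ⟨x, -, rfl⟩ := List.mem_map.1 ha
    exact Subgroup.subset_closure ⟨x, rfl⟩

theorem gH_big {x : ℕ} (hx : ¬ x < 7) : gH x = 1 := by
  apply Subtype.ext
  show ((lets.getD x []).map pres.gen).prod = 1
  rw [List.getD_eq_default _ _ (by rw [lets_len]; omega)]
  rfl

theorem adj_inv (g : Hsub) : ∀ u v : Fin 85, adj (bhom g u : ℕ) (bhom g v) = adj u v := by
  have hg : g ∈ Subgroup.closure (Set.range gH) := closure_gH ▸ Subgroup.mem_top g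
  induction hg using Subgroup.closure_induction with
  | mem g hg =>
    obtain ⟨x, rfl⟩ := hg
    intro u v
    by_cases hx : x < 7
    · have hval : ∀ w : Fin 85, (bhom (gH x) w : ℕ) = brows x w := fun w => by
        rw [bhom_gen x hx]; exact btab.perm_val bvalid (x := x) hx w
      rw [hval, hval]
      exact eq_of_beq (List.all_eq_true.mp (List.all_eq_true.mp (List.all_eq_true.mp adj_ok x
        (List.mem_range.2 hx)) u (List.mem_range.2 u.2)) v (List.mem_range.2 v.2))
    · rw [gH_big hx, map_one]; rfl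
  | one => intro u v; rw [map_one]; rfl
  | mul a b _ _ ha hb => intro u v; rw [map_mul]; exact (ha _ _).trans (hb u v)
  | inv a _ ha =>
    intro u v
    have := ha (bhom a⁻¹ u) (bhom a⁻¹ v)
    rw [← Equiv.Perm.mul_apply, ← Equiv.Perm.mul_apply, ← map_mul, mul_inv_cancel, map_one] at this
    exact this.symm

/-- the base blocks -/
def b3 : Fin 85 := ⟨3, by decide⟩

/-- the second base block -/
def b0 : Fin 85 := ⟨0, by decide⟩

variable {g : Hsub} (hg : g * dH = dH * g)

include hg in
theorem comm_apply (u : Fin 85) : bhom g (bhom dH u) = bhom dH (bhom g u) := by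
  rw [← Equiv.Perm.mul_apply, ← map_mul, hg, map_mul, Equiv.Perm.mul_apply]

include hg in
theorem fix_three : bhom g b3 = b3 := by
  have h := special_ok
  have hsp : special (b3 : ℕ) = true := by
    have := eq_of_beq (List.all_eq_true.mp h 3 (List.mem_range.2 (by norm_num)))
    exact this
  simp only [special, Bool.and_eq_true, beq_iff_eq, List.all_eq_true] at hsp
  obtain ⟨h1, h2⟩ := hsp
  have hv : special (bhom g b3 : ℕ) = true := by
    simp only [special, Bool.and_eq_true, beq_iff_eq, List.all_eq_true]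
    refine ⟨?_, fun v hv => ?_⟩
    · rw [← dH_val, ← comm_apply hg, show bhom dH b3 = b3 from Fin.ext ((dH_val b3).trans h1)]
    · obtain ⟨v', hv'⟩ := (bhom g).surjective ⟨v, List.mem_range.1 hv⟩
      have e1 : v = (bhom g v' : ℕ) := (congrArg Fin.val hv').symm
      have := h2 v' (List.mem_range.2 v'.2)
      simp only [Bool.or_eq_true, Bool.not_eq_true', Bool.and_eq_false_iff, bne_eq_false_iff_eq] at this ⊢
      rw [e1, ← dH_val, ← comm_apply hg, adj_inv, adj_inv, dH_val]
      rcases this with (h | h) | h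
      · exact Or.inl (Or.inl (congrArg (fun a : Fin 85 => (bhom g a : ℕ))
          (Fin.ext ((dH_val v').trans h) : bhom dH v' = v')))
      · exact Or.inl (Or.inr h)
      · exact Or.inr h
  have := eq_of_beq (List.all_eq_true.mp h _ (List.mem_range.2 (bhom g b3).2))
  rw [hv] at this
  exact Fin.ext (eq_of_beq this.symm)

include hg in
theorem move_zero : (bhom g b0 : ℕ) ∈ sixteen := by
  obtain ⟨h, -, h0, h1⟩ := sixteen_ok
  have := List.all_eq_true.mp h _ (List.mem_range.2 (bhom g b0).2)
  rw [← dH_val, ← comm_apply hg, adj_inv, dH_val] at this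
  rw [show adj (b0 : ℕ) (dB b0) = true from h1, Bool.and_true, Bool.or_eq_true] at this
  rcases this with h | h
  · simp only [Bool.not_eq_true', bne_eq_false_iff_eq] at h
    exact absurd ((dH_val b0).symm.trans (congrArg Fin.val ((bhom g).injective (Fin.ext h)))) h0
  · exact List.contains_iff_mem.1 h

omit hg

/-- a leaf -/
noncomputable def leaf (k : Fin 1152) : Hsub := bel (leafWord k)

theorem leaf_val (k : Fin 1152) (u : Fin 85) : (bhom (leaf k) u : ℕ) = ev brows 7 (leafWord k) u :=
  bel_val (List.all_eq_true.mp leaf_letters k (List.mem_range.2 k.2)) u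

/-- the stabiliser of the first block -/
noncomputable def S1 : Subgroup Hsub := ⊤ ⊓ stab bhom b3

/-- the stabiliser of two blocks -/
noncomputable def S2 : Subgroup Hsub := S1 ⊓ stab bhom b0

theorem card_S2 : Nat.card S2 ≤ 1152 := by
  haveI := finite_Hsub
  obtain ⟨hl0, hn0, hd0⟩ := top0_ok
  obtain ⟨hl1, hn1, hf1, hd1⟩ := top1_ok
  have h1 : 85 * Nat.card S1 ≤ 1958400 := by
    refine (mul_le_card bhom ⊤ b3 (fun i : Fin 85 => bel (top0.getD i [])) (fun i => Subgroup.mem_top _) ?_).trans_eq
      (by rw [Subgroup.card_top, card_Hsub])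
    intro i j e
    have e' := congrArg Fin.val e
    have hlen : ∀ i : Fin 85, (i : ℕ) < top0.length := fun i => lt_of_lt_of_eq i.2 hn0.symm
    have hval : ∀ i : Fin 85, (bhom (bel (top0.getD i [])) b3 : ℕ) = ev brows 7 (top0.getD i []) 3 := fun i =>
      bel_val (by
        rw [List.getD_eq_getElem _ _ (hlen i), lettersOK, List.all_cons, List.all_nil, Bool.and_true]
        exact List.all_eq_true.mp hl0 _ (List.getElem_mem _)) b3
    rw [hval, hval, List.getD_eq_getElem _ _ (hlen i), List.getD_eq_getElem _ _ (hlen j)] at e'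
    exact Fin.ext ((hd0.getElem_inj_iff (hi := by simp [hlen i]) (hj := by simp [hlen j])).1 (by simpa using e'))
  have h2 : 20 * Nat.card S2 ≤ Nat.card S1 := by
    have hlen : ∀ i : Fin 20, (i : ℕ) < top1.length := fun i => lt_of_lt_of_eq i.2 hn1.symm
    have hval : ∀ (i : Fin 20) (u : Fin 85), (bhom (bel (top1.getD i [])) u : ℕ) = ev brows 7 (top1.getD i []) u :=
      fun i u => bel_val (by
        rw [List.getD_eq_getElem _ _ (hlen i), lettersOK, List.all_cons, List.all_nil, Bool.and_true]
        exact List.all_eq_true.mp hl1 _ (List.getElem_mem _)) u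
    refine mul_le_card bhom S1 b0 (fun i : Fin 20 => bel (top1.getD i [])) (fun i => ⟨Subgroup.mem_top _, ?_⟩) ?_
    · refine mem_stab.2 (Fin.ext ?_)
      rw [hval, List.getD_eq_getElem _ _ (hlen i)]
      exact eq_of_beq (List.all_eq_true.mp hf1 _ (List.getElem_mem _))
    · intro i j e
      have e' := congrArg Fin.val e
      rw [hval, hval, List.getD_eq_getElem _ _ (hlen i), List.getD_eq_getElem _ _ (hlen j)] at e'
      change ev brows 7 _ 0 = ev brows 7 _ 0 at e'
      exact Fin.ext ((hd1.getElem_inj_iff (hi := by simp [hlen i]) (hj := by simp [hlen j])).1 (by simpa using e'))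
  omega

theorem leaf_mem (k : Fin 1152) : leaf k ∈ S2 := by
  have h := List.all_eq_true.mp leaf_fix k (List.mem_range.2 k.2)
  simp only [Bool.and_eq_true, beq_iff_eq] at h
  exact ⟨⟨Subgroup.mem_top _, mem_stab.2 (Fin.ext ((leaf_val k b3).trans h.1))⟩,
    mem_stab.2 (Fin.ext ((leaf_val k b0).trans h.2))⟩

theorem leaf_surj {x : Hsub} (hx : x ∈ S2) : ∃ k, leaf k = x := by
  haveI := finite_Hsub
  have hmono : StrictMono fun k : Fin 1152 => leafKey k := Fin.strictMono_iff_lt_succ.2 fun i =>
    Nat.le_of_ble_eq_true (List.all_eq_true.mp leaf_mono i (List.mem_range.2 i.2))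
  have hinj : Function.Injective fun k : Fin 1152 => (⟨leaf k, leaf_mem k⟩ : S2) := by
    intro i j e
    have e' : leaf i = leaf j := congrArg (fun a : S2 => (a : Hsub)) e
    refine hmono.injective ?_
    show leafKey i = leafKey j
    rw [leafKey, leafKey]
    have a := fun u : Fin 85 => congrArg (fun a : Hsub => (bhom a u : ℕ)) e'
    simp only [leaf_val] at a
    rw [show ev brows 7 (leafWord i) 5 = ev brows 7 (leafWord j) 5 from a ⟨5, by decide⟩,
      show ev brows 7 (leafWord i) 38 = ev brows 7 (leafWord j) 38 from a ⟨38, by decide⟩]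
  have hbij := hinj.bijective_of_nat_card_le (by simpa using card_S2)
  obtain ⟨k, hk⟩ := hbij.2 ⟨x, hx⟩
  exact ⟨k, congrArg (fun a : S2 => (a : Hsub)) hk⟩

theorem card_cent_H : Nat.card (Subgroup.centralizer ({dH} : Set Hsub)) ≤ 512 := by
  classical
  haveI := finite_Hsub
  set C := Subgroup.centralizer ({dH} : Set Hsub)
  have hc : ∀ {s : Hsub}, s ∈ C → s * dH = dH * s := fun h => Subgroup.mem_centralizer_singleton_iff.1 h
  have h3 : C ⊓ stab bhom b3 = C := inf_eq_left.2 fun s hs => mem_stab.2 (fix_three (hc hs))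
  have h1 := card_le_mul bhom C b0 sixteen fun s hs => move_zero (hc hs)
  rw [sixteen_ok.2.1] at h1
  have h2 : Nat.card (C ⊓ stab bhom b0 : Subgroup Hsub) ≤ 32 := by
    have hk : ∀ s : (C ⊓ stab bhom b0 : Subgroup Hsub), ∃ k : Fin 1152, leafComm k = true ∧ leaf k = s := by
      intro s
      obtain ⟨k, hk⟩ := leaf_surj (x := (s : Hsub))
        ⟨⟨Subgroup.mem_top _, mem_stab.2 (fix_three (hc s.2.1))⟩, s.2.2⟩
      refine ⟨k, List.all_eq_true.mpr fun u hu => beq_iff_eq.2 ?_, hk⟩
      have := congrArg Fin.val (comm_apply (hc s.2.1) ⟨u, List.mem_range.1 hu⟩)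
      rw [← hk, leaf_val, dH_val, dH_val, leaf_val] at this
      exact this
    choose k hk1 hk2 using hk
    let f : (C ⊓ stab bhom b0 : Subgroup Hsub) → {a // a ∈ ((List.range 1152).filter leafComm).toFinset} :=
      fun s => ⟨(k s : ℕ), List.mem_toFinset.2 (List.mem_filter.2 ⟨List.mem_range.2 (k s).2, hk1 s⟩)⟩
    have hf : Function.Injective f := fun s t e => Subtype.ext (by
      rw [← hk2 s, ← hk2 t, Fin.ext (congrArg (fun a => a.1) e)])
    refine (Nat.card_le_card_of_injective f hf).trans ?_
    rw [Nat.card_eq_fintype_card, Fintype.card_coe]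
    exact (List.toFinset_card_le _).trans leaf_comm
  omega

theorem z_val (u : Fin rep.P.n) : (rep.hom (pres.gen 3) u : ℕ) = RepS44.rows 3 u := by
  rw [rep.hom_gen 3 (by decide), Table.perm_val _ _ (by decide)]
  rfl

theorem card_cent : Nat.card (Subgroup.centralizer ({pres.gen 3} : Set pres.Grp)) ≤ 21504 := by
  haveI := order.1
  haveI := finite_Hsub
  set C := Subgroup.centralizer ({pres.gen 3} : Set pres.Grp)
  have h1 := card_le_mul rep.hom C rep.z fixPts fun s hs => by
    have hc := congrArg rep.hom (Subgroup.mem_centralizer_singleton_iff.1 hs)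
    rw [map_mul, map_mul] at hc
    have hz : rep.hom (pres.gen 3) rep.z = rep.z := Fin.ext ((z_val _).trans (by decide +kernel))
    have h : (rep.hom (pres.gen 3) (rep.hom s rep.z) : ℕ) = rep.hom s rep.z := by
      rw [← Equiv.Perm.mul_apply, ← hc, Equiv.Perm.mul_apply, hz]
    rw [z_val] at h
    have := List.all_eq_true.mp fix_ok _ (List.mem_range.2 (rep.hom s rep.z).2)
    rw [h, bne_self_eq_false, Bool.false_or] at this
    exact List.contains_iff_mem.1 this
  rw [fix_len, ← stab_eq.1] at h1
  have h2 : Nat.card (C ⊓ Hsub : Subgroup pres.Grp) ≤ 512 := by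
    refine le_trans ?_ card_cent_H
    refine Nat.card_le_card_of_injective (fun s => (⟨⟨s.1, s.2.2⟩, ?_⟩ :
      Subgroup.centralizer ({dH} : Set Hsub))) fun s t e => Subtype.ext ?_
    · refine Subgroup.mem_centralizer_singleton_iff.2 (Subtype.ext ?_)
      show (s : pres.Grp) * dH = dH * (s : pres.Grp)
      rw [dH_coe]
      exact Subgroup.mem_centralizer_singleton_iff.1 s.2.1
    · exact congrArg (fun a : Subgroup.centralizer ({dH} : Set Hsub) => ((a : Hsub) : pres.Grp)) e
  have h3 : Nat.card (C ⊓ pres.wsub IdxS44.subW : Subgroup pres.Grp) ≤ 512 := h2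
  omega

end Cfsg.Agent.Spor.HeCert.HeInv
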