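import Cfsg.Agent.Lib.Spor.HeRepS44Data

/-!
Orbit checks for table `RepS44` of He.
-/

set_option autoImplicit false
set_option maxRecDepth 100000

namespace Cfsg.Agent.Spor.HeCert.RepS44

open Cfsg.Agent.Spor.CC

theorem all_ok : orbOK rows 7 allOrb = true := by decide +kernel

theorem all_letters : lettersOK 7 allOrb.ws = true := by decide +kernel

theorem sub0_ok : orbOK rows 7 sub0 = true := by decide +kernel

theorem sub0_closed : closedOK rows 7 sub0 = true := by decide +kernel

theorem sub0_letters : lettersOK 7 sub0.ws = true := by decide +kernel

theorem sub1_ok : orbOK rows 7 sub1 = true := by decide +kernel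

theorem sub1_closed : closedOK rows 7 sub1 = true := by decide +kernel

theorem sub1_letters : lettersOK 7 sub1.ws = true := by decide +kernel

theorem sub2_ok : orbOK rows 7 sub2 = true := by decide +kernel

theorem sub2_closed : closedOK rows 7 sub2 = true := by decide +kernel

theorem sub2_letters : lettersOK 7 sub2.ws = true := by decide +kernel

theorem sub3_ok : orbOK rows 7 sub3 = true := by decide +kernel

theorem sub3_closed : closedOK rows 7 sub3 = true := by decide +kernel

theorem sub3_letters : lettersOK 7 sub3.ws = true := by decide +kernel

theorem sub4_ok : orbOK rows 7 sub4 = true := by decide +kernel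

theorem sub4_closed : closedOK rows 7 sub4 = true := by decide +kernel

theorem sub4_letters : lettersOK 7 sub4.ws = true := by decide +kernel

theorem part_ok : partOK rows 7 2058 subs labels = true := by decide +kernel

theorem sums_ok : sumsOK 2058 (subs.map Orb.k) = true := by decide +kernel

theorem chain_ok : chainOK rows 7 2058 levels [] = true := by decide +kernel

theorem chain_size : chainSize levels = 4030387200 := by decide +kernel

end Cfsg.Agent.Spor.HeCert.RepS44
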