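import Cfsg.Agent.Lib.Spor.HeRepS44Loops0
import Cfsg.Agent.Lib.Spor.HeRepS44Orbits

/-!
Table `RepS44` of He: assembled.
-/

set_option autoImplicit false
set_option maxRecDepth 100000

namespace Cfsg.Agent.Spor.HeCert.RepS44

open Cfsg.Agent.Spor.CC

theorem valid : tab.Valid := by
  intro u hu x hx
  replace hu : u < 2058 := hu
  by_cases h0 : u < 697
  · exact invOK_spec inv0 (by omega) h0 hx
  by_cases h1 : u < 1394
  · exact invOK_spec inv1 (by omega) h1 hx
  exact invOK_spec inv2 (by omega) hu hx

theorem loops : tab.Loops Cfsg.Agent.Spor.HeCert.pres.relW := by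
  intro u hu r hr
  replace hu : u < 2058 := hu
  by_cases h0 : u < 697
  · exact loopOK_spec loop0 (by omega) h0 hr
  by_cases h1 : u < 1394
  · exact loopOK_spec loop1 (by omega) h1 hr
  exact loopOK_spec loop2 (by omega) hu hr

theorem loops_more : tab.Loops more := by
  intro u hu r hr
  replace hu : u < 2058 := hu
  by_cases h0 : u < 697
  · exact loopOK_spec loopMore0 (by omega) h0 hr
  by_cases h1 : u < 1394
  · exact loopOK_spec loopMore1 (by omega) h1 hr
  exact loopOK_spec loopMore2 (by omega) hu hr

end Cfsg.Agent.Spor.HeCert.RepS44
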