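import Cfsg.Agent.Lib.Spor.RepCert
import Cfsg.Agent.Lib.Spor.HeIdxACDCert
import Cfsg.Agent.Lib.Spor.HeIdxABCCert
import Cfsg.Agent.Lib.Spor.HeIdxM5Cert
import Cfsg.Agent.Lib.Spor.HeIdxKCert
import Cfsg.Agent.Lib.Spor.HeIdxS44Cert
import Cfsg.Agent.Lib.Spor.HeIdxMainCert
import Cfsg.Agent.Lib.Spor.HeRepS44Perm
import Cfsg.Agent.Lib.Spor.HeM5Chain
import Cfsg.Prelude.Def_Sporadic

/-!
The presented group He: order, simplicity, the action on cosets.
-/

set_option autoImplicit false
set_option maxRecDepth 100000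

namespace Cfsg.Agent.Spor.HeCert

open Cfsg.Agent.Spor.CC

theorem no_more : ∀ r ∈ ([] : List (List ℕ)), (r.map pres.gen).prod = 1 := by simp

/-- the action on 2058 points -/
noncomputable def rep : Rep pres where
  P := RepS44.tab
  ok := pres_ok
  valid := RepS44.valid
  hng := rfl
  letters := relW_letters
  loops := RepS44.loops
  z := ⟨0, by decide⟩
  all := RepS44.allOrb
  all_b := rfl
  all_k := rfl
  all_ok := RepS44.all_ok
  all_letters := RepS44.all_letters

/-- the derived relator in four generators -/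
def derived : List ℕ := [2, 3, 2, 3, 4, 3, 2, 3, 2, 3, 4, 3, 2, 3, 4]

theorem derived_loop (u : Fin rep.P.n) : ev rep.P.T rep.P.ng derived u = u :=
  loopOK_spec M5Chain.loop (Nat.zero_le _) (lt_of_lt_of_eq u.2 (Nat.zero_add _).symm) (List.mem_cons_self ..)

theorem derived_one : (derived.map pres.gen).prod = 1 := by
  have h0 := Pres.sub_card_le pres_ok IdxABC.checked (ks := IdxABC.letters) rfl no_more IdxABC.words_ok
    (b := 1) (by rw [show IdxABC.subW = [] from rfl, Pres.wsub_nil]; exact bot_card)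
  have e1 : pres.wsub IdxM5.subW = pres.sub IdxABC.letters := Pres.wsub_singles [0, 1, 2]
  have h1 := Pres.sub_card_le pres_ok IdxM5.checked (ks := IdxM5.letters) rfl no_more IdxM5.words_ok (e1 ▸ h0)
  have h1' : Nat.card (pres.sub IdxM5.letters) ≤ 15120 := h1.2.trans (le_of_eq rfl)
  haveI := h1.1
  let S := (pres.sub IdxM5.letters).map rep.hom
  haveI : Finite S := Finite.of_surjective
    (fun s : pres.sub IdxM5.letters => (⟨rep.hom s, ⟨s, s.2, rfl⟩⟩ : S))
    (fun ⟨p, q, hq, e⟩ => ⟨⟨q, hq⟩, Subtype.ext e⟩)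
  have hlow : 15120 ≤ Nat.card S := by
    refine le_of_eq_of_le M5Chain.size.symm ?_
    refine chain_le rep.valid (rep.P.perm rep.valid) (MonoidHom.id _) (fun x _ => rfl) M5Chain.levels []
      M5Chain.ok S ?_
    rintro s - ⟨O, hO, w, hw, rfl⟩
    have hw' : ∀ x ∈ w, x ∈ IdxM5.letters := fun x hx => by
      have := List.all_eq_true.mp (List.all_eq_true.mp (List.all_eq_true.mp M5Chain.inside O hO) w hw) x hx
      exact List.contains_iff_mem.mp this
    refine ⟨(w.map pres.gen).prod, list_prod_mem fun y hy => ?_, ?_⟩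
    · obtain ⟨x, hx, rfl⟩ := List.mem_map.mp hy
      exact Subgroup.subset_closure ⟨x, hw' x hx, rfl⟩
    · rw [map_list_prod, List.map_map]
      refine congrArg List.prod (List.map_congr_left fun x hx => rep.hom_gen x ?_)
      have := hw' x hx
      simp only [IdxM5.letters, List.mem_cons, List.not_mem_nil, or_false] at this
      show x < 7
      omega
  have hbij : Function.Bijective (fun s : pres.sub IdxM5.letters => (⟨rep.hom s, ⟨s, s.2, rfl⟩⟩ : S)) :=
    Function.Surjective.bijective_of_nat_card_le (fun ⟨p, q, hq, e⟩ => ⟨⟨q, hq⟩, Subtype.ext e⟩) (by omega)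
  have hmem : (derived.map pres.gen).prod ∈ pres.sub IdxM5.letters := list_prod_mem fun y hy => by
    obtain ⟨x, hx, rfl⟩ := List.mem_map.mp hy
    refine Subgroup.subset_closure ⟨x, ?_, rfl⟩
    simp only [derived, List.mem_cons, List.not_mem_nil, or_false] at hx
    show x ∈ IdxM5.letters
    simp only [IdxM5.letters, List.mem_cons, List.not_mem_nil, or_false]
    omega
  have himg : rep.hom (derived.map pres.gen).prod = 1 := by
    ext u
    rw [ev_eq rep.valid pres.gen rep.hom rep.hom_gen (by decide +kernel)]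
    exact derived_loop u
  exact congrArg Subtype.val
    (hbij.1 (a₁ := ⟨_, hmem⟩) (a₂ := 1) (Subtype.ext (by simpa using himg)))

theorem more_one : ∀ r ∈ [derived], (r.map pres.gen).prod = 1 := by
  intro r hr
  rw [List.mem_singleton.mp hr]
  exact derived_one

theorem card_top : Finite (⊤ : Subgroup pres.Grp) ∧ Nat.card (⊤ : Subgroup pres.Grp) ≤ 4030387200 := by
  have h0 := Pres.sub_card_le pres_ok IdxACD.checked (ks := IdxACD.letters) rfl no_more IdxACD.words_ok
    (b := 1) (by rw [show IdxACD.subW = [] from rfl, Pres.wsub_nil]; exact bot_card)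
  have e1 : pres.wsub IdxK.subW = pres.sub IdxACD.letters := Pres.wsub_singles [0, 2, 3]
  have h1 := Pres.sub_card_le pres_ok IdxK.checked (ks := IdxK.letters) rfl more_one IdxK.words_ok (e1 ▸ h0)
  have e2 : pres.wsub IdxMain.subW = pres.sub IdxK.letters := Pres.wsub_singles [0, 2, 3, 4, 5, 6]
  have h2 := Pres.sub_card_le pres_ok IdxMain.checked (ks := IdxMain.letters) rfl no_more IdxMain.words_ok (e2 ▸ h1)
  rw [Pres.sub_all pres_ok (ks := IdxMain.letters) (by decide)] at h2
  exact ⟨h2.1, h2.2.trans (le_of_eq rfl)⟩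

theorem order : Finite pres.Grp ∧ Nat.card pres.Grp = 4030387200 ∧ Function.Injective rep.hom :=
  rep.order_eq RepS44.chain_ok RepS44.chain_size card_top

theorem stab_eq : pres.wsub IdxS44.subW = stab rep.hom rep.z ∧ (pres.wsub IdxS44.subW).index = 2058 :=
  rep.wsub_eq_stab (by decide +kernel) (by decide +kernel)
    (Pres.sub_index_le pres_ok IdxS44.checked (ks := IdxS44.letters) rfl (by decide) no_more IdxS44.words_ok)

theorem orbits : ∀ O ∈ RepS44.subs, ∃ p : pres.Grp, rep.hom p rep.z = ⟨O.b % 2058, Nat.mod_lt _ (by norm_num)⟩ ∧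
    (MulAction.orbit (pres.wsub IdxS44.subW) (p : pres.Grp ⧸ pres.wsub IdxS44.subW)).ncard = O.k := by
  intro O hO
  have hchk : O.b < 2058 ∧ 0 < O.k ∧ orbOK rep.P.T rep.P.ng O = true ∧ closedOK rep.P.T rep.P.ng O = true ∧
      lettersOK rep.P.ng O.ws = true ∧ O.ws = IdxS44.subW := by
    simp only [RepS44.subs, List.mem_cons, List.not_mem_nil, or_false] at hO
    rcases hO with rfl | rfl | rfl | rfl | rfl
    · exact ⟨by decide +kernel, by decide, RepS44.sub0_ok, RepS44.sub0_closed, RepS44.sub0_letters, rfl⟩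
    · exact ⟨by decide +kernel, by decide, RepS44.sub1_ok, RepS44.sub1_closed, RepS44.sub1_letters, rfl⟩
    · exact ⟨by decide +kernel, by decide, RepS44.sub2_ok, RepS44.sub2_closed, RepS44.sub2_letters, rfl⟩
    · exact ⟨by decide +kernel, by decide, RepS44.sub3_ok, RepS44.sub3_closed, RepS44.sub3_letters, rfl⟩
    · exact ⟨by decide +kernel, by decide, RepS44.sub4_ok, RepS44.sub4_closed, RepS44.sub4_letters, rfl⟩
  obtain ⟨hb, hk, h1, h2, h3, h4⟩ := hchk
  haveI := order.1
  obtain ⟨p, hp⟩ := rep.exists_move ⟨O.b, hb⟩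
  refine ⟨p, hp.trans (Fin.ext (Nat.mod_eq_of_lt hb).symm), ?_⟩
  rw [coset_orbit rep.hom rep.z _ stab_eq.1 p, hp]
  exact orbit_eq rep.valid pres.gen rep.hom rep.hom_gen hb hk h1 h2 h3 _ (by rw [h4]; rfl)

theorem quotient_trivial {M : Type*} [Group M] (f : pres.Grp →* M) (hb : f (pres.gen 1) = 1) :
    ∀ x, f (pres.gen x) = 1 := by
  have cox := fun i j (hi : i < 7) (hj : j < 7) => congrArg f (Pres.cox_one pres_ok (i := i) (j := j) hi hj)
  have sq : ∀ x, f (pres.gen x) * f (pres.gen x) = 1 := fun x => by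
    rw [← map_mul, Pres.gen_sq pres_ok, map_one]
  have odd : ∀ i j, (hi : i < 7) → (hj : j < 7) →
      Cfsg.Spor.coxLabel pres.edges (pres.nm i) (pres.nm j) % 2 = 1 →
      f (pres.gen i) = 1 → f (pres.gen j) = 1 := by
    intro i j hi hj hodd h1
    have := cox i j hi hj
    rw [map_pow, map_mul, h1, one_mul, map_one, ← Nat.div_add_mod
      (Cfsg.Spor.coxLabel pres.edges (pres.nm i) (pres.nm j)) 2, hodd, pow_add, pow_one, pow_mul,
      pow_two, sq, one_pow, one_mul] at this
    exact this
  have hc : f (pres.gen 2) = 1 := odd 1 2 (by decide) (by decide) (by decide +kernel) hb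
  have w1 := congrArg f (Pres.relW_one pres_ok (r := [4, 6, 5, 6, 5]) (by decide +kernel))
  have w2 := congrArg f (Pres.relW_one pres_ok (r := 4 :: powW 3 [2, 1, 0]) (by decide +kernel))
  have w3 := congrArg f (Pres.relW_one pres_ok (r := 0 :: powW 5 [3, 2]) (by decide +kernel))
  rw [List.map_cons, List.prod_cons, prod_powW, map_mul, map_pow, map_one] at w2 w3
  simp only [List.map_cons, List.map_nil, List.prod_cons, List.prod_nil, mul_one, map_mul, hb, hc, one_mul,
    mul_one, map_one] at w1 w2 w3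
  generalize ha : f (pres.gen 0) = A at *
  generalize hD : f (pres.gen 3) = D at *
  generalize hE : f (pres.gen 4) = E at *
  generalize hF : f (pres.gen 5) = F at *
  generalize hG : f (pres.gen 6) = K at *
  have sA : A * A = 1 := ha ▸ sq 0
  have sD : D * D = 1 := hD ▸ sq 3
  have sE : E * E = 1 := hE ▸ sq 4
  have sF : F * F = 1 := hF ▸ sq 5
  have sK : K * K = 1 := hG ▸ sq 6
  have c := fun i j hi hj => cox i j hi hj
  have tri : ∀ (P Q : M), P * P = 1 → Q * Q = 1 → (P * Q) ^ 2 = 1 → (P * Q) ^ 3 = 1 → P = Q := by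
    intro P Q hP hQ h2 h3
    rw [pow_succ, h2, one_mul] at h3
    rw [eq_inv_of_mul_eq_one_left h3, inv_eq_of_mul_eq_one_left hQ]
  have hEA : E = A := by
    rw [pow_succ, pow_two, sA, one_mul] at w2
    rw [eq_inv_of_mul_eq_one_left w2, inv_eq_of_mul_eq_one_left sA]
  have hDA : D = A := by
    rw [show D ^ 5 = D by simp [pow_succ, mul_assoc, sD]] at w3
    rw [eq_inv_of_mul_eq_one_left w3, inv_eq_of_mul_eq_one_left sD]
  have key : ∀ j (hj : j < 7), Cfsg.Spor.coxLabel pres.edges (pres.nm 3) (pres.nm j) = 3 →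
      Cfsg.Spor.coxLabel pres.edges (pres.nm 0) (pres.nm j) = 2 → f (pres.gen j) = A := by
    intro j hj l3 l2
    have h3 := cox 3 j (by decide) hj
    have h2 := cox 0 j (by decide) hj
    rw [l3, map_pow, map_mul, hD, hDA, map_one] at h3
    rw [l2, map_pow, map_mul, ha, map_one] at h2
    exact (tri A _ sA (sq j) h2 h3).symm
  have hFA : F = A := hF ▸ key 5 (by decide) (by decide +kernel) (by decide +kernel)
  have hKA : K = A := hG ▸ key 6 (by decide) (by decide +kernel) (by decide +kernel)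
  have hA : A = 1 := by
    rw [hEA, hFA, hKA, sA, mul_one, sA, mul_one] at w1
    exact w1
  intro x
  by_cases hx : x < 7
  · interval_cases x
    · exact ha.trans hA
    · exact hb
    · exact hc
    · exact hD.trans (hDA.trans hA)
    · exact hE.trans (hEA.trans hA)
    · exact hF.trans (hFA.trans hA)
    · exact hG.trans (hKA.trans hA)
  · rw [Pres.gen_big (Q := pres) hx, map_one]

theorem subs_ws : ∀ O ∈ RepS44.subs, O.ws = IdxS44.subW := by
  intro O hO
  simp only [RepS44.subs, List.mem_cons, List.not_mem_nil, or_false] at hO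
  rcases hO with rfl | rfl | rfl | rfl | rfl <;> rfl

theorem simple : IsSimpleGroup pres.Grp := by
  obtain ⟨hfin, hcard, hinj⟩ := order
  haveI : Nontrivial pres.Grp := Finite.one_lt_card_iff_nontrivial.mp (by rw [hcard]; norm_num)
  refine ⟨fun N hN => ?_⟩
  haveI := hN
  rcases rep.gen_mem_normal hinj RepS44.part_ok RepS44.sums_ok (by decide +kernel)
      (W := IdxS44.subW) subs_ws
      stab_eq.1 (q := 7) (e := 3) (by norm_num) (by decide +kernel) (by rw [hcard]; norm_num)
      (o1 := 7) (o2 := 7) (j1 := 1) (j2 := 1) rfl rfl (w1 := RepS44.fac1) (w2 := RepS44.fac2) (a := 1)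
      (by decide +kernel) RepS44.loops_more N with h | h
  · exact Or.inl h
  · right
    have hq := quotient_trivial (QuotientGroup.mk' N) ((QuotientGroup.eq_one_iff _).mpr h)
    rw [eq_top_iff, ← Pres.closure_gen pres_ok]
    refine (Subgroup.closure_le _).mpr ?_
    rintro _ ⟨x, -, rfl⟩
    exact (QuotientGroup.eq_one_iff _).mp (hq x)

theorem isHe : Cfsg.IsHe Cfsg.Spor.He := ⟨simple, order.2.1⟩

end Cfsg.Agent.Spor.HeCert
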