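import Cfsg.Agent.Lib.Spor.HeSp4Data
import Cfsg.Agent.Lib.Spor.HeMain

/-!
The point stabiliser in He acts faithfully on 85 blocks and contains a symplectic group of index 2.
-/

set_option autoImplicit false
set_option maxRecDepth 100000

namespace Cfsg.Agent.Spor.HeCert.Sp4Blocks

open Cfsg.Agent.Spor.CC

/-- the stabiliser -/
abbrev Hsub : Subgroup pres.Grp := pres.wsub IdxS44.subW

/-- in the chosen orbit -/
def InO (u : ℕ) : Bool :=
  Nat.blt (fld RepS44.sub2.posn 16 u) 425 && Nat.beq (fld RepS44.sub2.pts 16 (fld RepS44.sub2.posn 16 u)) u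

/-- block of a point -/
def blk (u : ℕ) : ℕ := fld blkTab 8 (fld RepS44.sub2.posn 16 u)

theorem blk_lt_ok : ((List.range 425).all fun j => decide (fld blkTab 8 j < 85)) = true := by
  decide +kernel

theorem rep_ok : ((List.range 85).all fun b =>
    decide (fld repTab 16 b < 2058) && InO (fld repTab 16 b) && blk (fld repTab 16 b) == b) = true := by
  decide +kernel

theorem letters_ok : lettersOK 7 lets = true := by decide +kernel

theorem lets_fix : fixOK RepS44.rows 7 lets [0] = true := by decide +kernel

theorem lets_len : lets.length = 7 := by decide +kernel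

theorem lets_act : ((List.range 7).all fun x => (List.range 85).all fun b =>
    blk (ev RepS44.rows 7 (lets.getD x []) (fld repTab 16 b)) == brows x b) = true := by decide +kernel

theorem gen_act : (IdxS44.subW.all fun w => (List.range 425).all fun j =>
    InO (ev RepS44.rows 7 w (fld RepS44.sub2.pts 16 j)) &&
      blk (ev RepS44.rows 7 w (fld RepS44.sub2.pts 16 j)) ==
        blk (ev RepS44.rows 7 w (fld repTab 16 (fld blkTab 8 j)))) = true := by decide +kernel

theorem inO_spec {u : ℕ} (h : InO u = true) :
    fld RepS44.sub2.posn 16 u < 425 ∧ fld RepS44.sub2.pts 16 (fld RepS44.sub2.posn 16 u) = u := by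
  rw [InO, Bool.and_eq_true_iff] at h
  exact ⟨Nat.le_of_ble_eq_true h.1, Nat.eq_of_beq_eq_true h.2⟩

theorem blk_lt {u : ℕ} (h : InO u = true) : blk u < 85 :=
  of_decide_eq_true (List.all_eq_true.mp blk_lt_ok _ (List.mem_range.mpr (inO_spec h).1))

/-- a point in each block -/
def repPt (b : Fin 85) : Fin rep.P.n :=
  ⟨fld repTab 16 b, by
    have := List.all_eq_true.mp rep_ok b (List.mem_range.mpr b.2)
    simp only [Bool.and_eq_true, decide_eq_true_eq] at this
    exact this.1.1⟩

theorem repPt_spec (b : Fin 85) : InO (repPt b) = true ∧ blk (repPt b) = b := by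
  have := List.all_eq_true.mp rep_ok b (List.mem_range.mpr b.2)
  simp only [Bool.and_eq_true, beq_iff_eq] at this
  exact ⟨this.1.2, this.2⟩

/-- respects the blocks -/
def Good (s : pres.Grp) : Prop :=
  ∀ u : Fin rep.P.n, InO u = true → InO (rep.hom s u : ℕ) = true ∧
    ∀ u' : Fin rep.P.n, InO u' = true → blk u = blk u' → blk (rep.hom s u : ℕ) = blk (rep.hom s u' : ℕ)

theorem good (s : pres.Grp) (hs : s ∈ Hsub) : Good s := by
  haveI := order.1
  rw [Hsub, Pres.wsub, ← Subgroup.mem_toSubmonoid, Subgroup.closure_toSubmonoid_of_finite] at hs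
  induction hs using Submonoid.closure_induction with
  | mem x hx =>
    obtain ⟨w, hw, rfl⟩ := hx
    have hl : ∀ y ∈ w, y < rep.P.ng := fun y hy =>
      lettersOK_spec (ng := 7) (W := IdxS44.subW) (by decide +kernel) hw hy
    have key : ∀ u : Fin rep.P.n, InO u = true →
        InO (rep.hom (w.map pres.gen).prod u : ℕ) = true ∧
        blk (rep.hom (w.map pres.gen).prod u : ℕ) = blk (ev RepS44.rows 7 w (fld repTab 16 (blk u))) := by
      intro u hu
      obtain ⟨hj, hp⟩ := inO_spec hu
      have := List.all_eq_true.mp (List.all_eq_true.mp gen_act w hw) _ (List.mem_range.mpr hj)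
      rw [hp, Bool.and_eq_true_iff] at this
      rw [ev_eq rep.valid pres.gen rep.hom rep.hom_gen hl]
      exact ⟨this.1, eq_of_beq this.2⟩
    intro u hu
    refine ⟨(key u hu).1, fun u' hu' e => ?_⟩
    rw [(key u hu).2, (key u' hu').2, e]
  | one => intro u hu; rw [map_one]; exact ⟨hu, fun u' _ e => e⟩
  | mul p q _ _ hp hq =>
    intro u hu
    rw [map_mul, Equiv.Perm.mul_apply]
    refine ⟨(hp _ (hq u hu).1).1, fun u' hu' e => ?_⟩
    rw [Equiv.Perm.mul_apply]
    exact (hp _ (hq u hu).1).2 _ (hq u' hu').1 ((hq u hu).2 u' hu' e)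

noncomputable instance : MulAction Hsub (Fin 85) where
  smul s b := ⟨blk (rep.hom (s : pres.Grp) (repPt b) : ℕ),
    blk_lt (good _ s.2 _ (repPt_spec b).1).1⟩
  one_smul b := Fin.ext (show blk (rep.hom ((1 : Hsub) : pres.Grp) (repPt b) : ℕ) = b by
    rw [OneMemClass.coe_one, map_one, Equiv.Perm.one_apply]; exact (repPt_spec b).2)
  mul_smul s t b := Fin.ext (by
    show blk (rep.hom ((s * t : Hsub) : pres.Grp) (repPt b) : ℕ) = blk (rep.hom (s : pres.Grp) (repPt _) : ℕ)
    rw [Subgroup.coe_mul, map_mul, Equiv.Perm.mul_apply]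
    refine (good _ s.2 _ (good _ t.2 _ (repPt_spec b).1).1).2 _ (repPt_spec _).1 ?_
    exact ((repPt_spec ⟨blk (rep.hom (t : pres.Grp) (repPt b) : ℕ), blk_lt (good _ t.2 _ (repPt_spec b).1).1⟩).2).symm)

/-- the action on blocks -/
noncomputable def bhom : Hsub →* Equiv.Perm (Fin 85) := MulAction.toPermHom Hsub (Fin 85)

theorem let_mem (x : ℕ) : ((lets.getD x []).map pres.gen).prod ∈ Hsub := by
  by_cases h : x < lets.length
  · rw [List.getD_eq_getElem _ _ h]
    rw [Hsub, stab_eq.1, mem_stab]
    apply Fin.ext
    rw [ev_eq rep.valid pres.gen rep.hom rep.hom_gen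
      (fun y hy => lettersOK_spec letters_ok (List.getElem_mem h) hy)]
    exact Nat.eq_of_beq_eq_true
      (List.all_eq_true.mp (List.all_eq_true.mp lets_fix _ (List.getElem_mem h)) 0 (by simp))
  · rw [List.getD_eq_default _ _ (by omega)]; exact one_mem _

/-- generators of the stabiliser -/
noncomputable def gH (x : ℕ) : Hsub := ⟨((lets.getD x []).map pres.gen).prod, let_mem x⟩

theorem bvalid : btab.Valid := fun _ hu _ hx =>
  invOK_spec btab_inv (Nat.zero_le _) (lt_of_lt_of_eq hu (Nat.zero_add _).symm) hx

theorem bhom_gen : ∀ x, x < btab.ng → bhom (gH x) = btab.perm bvalid x := by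
  intro x hx
  refine Equiv.ext fun b => Fin.ext ?_
  refine Eq.trans ?_ (btab.perm_val bvalid hx b).symm
  show blk (rep.hom (gH x : pres.Grp) (repPt b) : ℕ) = brows x b
  have hlen : x < lets.length := lt_of_lt_of_eq hx lets_len.symm
  rw [gH, ev_eq rep.valid pres.gen rep.hom rep.hom_gen (fun y hy => by
    rw [List.getD_eq_getElem _ _ hlen] at hy
    exact lettersOK_spec letters_ok (List.getElem_mem hlen) hy)]
  exact eq_of_beq (List.all_eq_true.mp (List.all_eq_true.mp lets_act x (List.mem_range.mpr hx)) b
    (List.mem_range.mpr b.2))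

theorem card_Hsub : Nat.card Hsub = 1958400 := by
  haveI := order.1
  have := Subgroup.card_mul_index Hsub
  rw [order.2.1, stab_eq.2] at this
  omega

theorem finite_Hsub : Finite Hsub := by haveI := order.1; infer_instance

theorem bhom_injective : Function.Injective bhom := by
  haveI := finite_Hsub
  have h := le_of_eq_of_le full_size.symm (chain_le_image bvalid gH bhom bhom_gen full_ok)
  have hb := (bhom.rangeRestrict_surjective).bijective_of_nat_card_le (by rw [card_Hsub]; exact h)
  exact fun a b e => hb.1 (Subtype.ext e)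

theorem mats_mem (e : List ℕ × ℕ) (he : e ∈ mats) :
    matOf e.2 ∈ Matrix.symplecticGroup (Fin 2) SpFour.F4 :=
  SymplecticGroup.mem_iff.mpr (mats_symp e he)

/-- the symplectic part -/
noncomputable def sympPart : Subgroup Hsub := SpFour.perm.range.comap bhom

theorem range_le : SpFour.perm.range ≤ bhom.range := by
  classical
  let S : Subgroup (Equiv.Perm (Fin 85)) := SpFour.perm.range ⊓ bhom.range
  have hlow : 979200 ≤ Nat.card S := by
    refine le_of_eq_of_le half_size.symm ?_
    refine chain_le bvalid (btab.perm bvalid) (MonoidHom.id _) (fun x _ => rfl) half [] half_ok S ?_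
    rintro s - ⟨O, hO, w, hw, rfl⟩
    obtain ⟨e, he, hew⟩ := List.any_eq_true.mp
      (List.all_eq_true.mp (List.all_eq_true.mp mats_cover O hO) w hw)
    have hl : ∀ y ∈ w, y < btab.ng := fun y hy => by
      have hok := half_ok
      revert hy
      have : lettersOK 7 O.ws = true := List.all_eq_true.mp half_letters O hO
      exact fun hy => lettersOK_spec this hw hy
    refine ⟨⟨⟨_, mats_mem e he⟩, ?_⟩, ⟨(w.map gH).prod, ?_⟩⟩
    · refine Equiv.ext fun i => Fin.ext ?_
      refine Eq.trans ?_ (Table.perm_prod btab bvalid w hl i).symm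
      rw [SpFour.perm_val, ← eq_of_beq hew]
      exact eq_of_beq (List.all_eq_true.mp (List.all_eq_true.mp mats_act e he) i (List.mem_range.mpr i.2))
    · rw [map_list_prod, List.map_map]
      exact congrArg List.prod (List.map_congr_left fun x hx => bhom_gen x (hl x hx))
  have hle : Nat.card SpFour.perm.range ≤ Nat.card S := by
    rw [← Nat.card_congr (MonoidHom.ofInjective SpFour.perm_injective).toEquiv, SpFour.card_sp4]
    exact hlow
  exact (Subgroup.eq_of_le_of_card_ge inf_le_left hle).ge.trans inf_le_right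

theorem sympPart_map : sympPart.map bhom = SpFour.perm.range :=
  Subgroup.map_comap_eq_self range_le

theorem sympPart_equiv : Nonempty (sympPart ≃* SpFour.Sp4) :=
  ⟨((Subgroup.equivMapOfInjective sympPart bhom bhom_injective).trans
    (MulEquiv.subgroupCongr sympPart_map)).trans (MonoidHom.ofInjective SpFour.perm_injective).symm⟩

theorem sympPart_index : sympPart.index = 2 := by
  haveI := finite_Hsub
  have h := Subgroup.card_mul_index sympPart
  obtain ⟨e⟩ := sympPart_equiv
  rw [Nat.card_congr e.toEquiv, SpFour.card_sp4, card_Hsub] at h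
  omega

theorem sympPart_normal : sympPart.Normal := Subgroup.normal_of_index_eq_two sympPart_index

end Cfsg.Agent.Spor.HeCert.Sp4Blocks
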