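import Cfsg.Agent.Lib.Spor.TransvectionTypeData
import Cfsg.Agent.Lib.Local.FS.SimpleM24

/-!
The centraliser of an involution of M24 fixing an octad is isomorphic to the centraliser of a transvection in
SL(5,2): both restrict to the same group of order 21504 on sixteen moved points.
-/

set_option autoImplicit false
set_option maxRecDepth 100000

namespace Cfsg.Agent.Spor.TransvectionType

open Cfsg

/-- A permutation of sixteen points from two lists. -/
def mk16 (l k : List ℕ) (h1 : ∀ i : Fin 16, Fin.ofNat 16 (k.getD ((Fin.ofNat 16 (l.getD i 0) : Fin 16) : ℕ) 0) = i)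
    (h2 : ∀ i : Fin 16, Fin.ofNat 16 (l.getD ((Fin.ofNat 16 (k.getD i 0) : Fin 16) : ℕ) 0) = i) :
    Equiv.Perm (Fin 16) :=
  ⟨fun i => Fin.ofNat 16 (l.getD i 0), fun i => Fin.ofNat 16 (k.getD i 0), h1, h2⟩

/-- The three images. -/
def img16 : Fin 3 → Equiv.Perm (Fin 16) :=
  ![mk16 (gen16.getD 0 ([], [])).1 (gen16.getD 0 ([], [])).2 (by decide +kernel) (by decide +kernel),
    mk16 (gen16.getD 1 ([], [])).1 (gen16.getD 1 ([], [])).2 (by decide +kernel) (by decide +kernel),
    mk16 (gen16.getD 2 ([], [])).1 (gen16.getD 2 ([], [])).2 (by decide +kernel) (by decide +kernel)]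

/-- The common image. -/
abbrev K : Subgroup (Equiv.Perm (Fin 16)) := Subgroup.closure (Set.range img16)

/-- Evaluation of a word. -/
def wordP : List ℕ → Equiv.Perm (Fin 16)
  | [] => 1
  | j :: w => img16 (Fin.ofNat 3 j) * wordP w

theorem wordP_mem : ∀ w, wordP w ∈ K
  | [] => one_mem _
  | j :: w => mul_mem (Subgroup.subset_closure ⟨_, rfl⟩) (wordP_mem w)

/-- The conditions on the levels: distinct images of the base point, all earlier base points fixed. -/
def levelsOK : List (ℕ × List (List ℕ)) → List ℕ → Bool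
  | [], _ => true
  | (b, T) :: rest, fixed =>
    decide (b < 16) && decide ((T.map fun w => wordP w (Fin.ofNat 16 b)).Nodup) &&
      (T.all fun w => fixed.all fun a => decide (wordP w (Fin.ofNat 16 a) = Fin.ofNat 16 a)) &&
      levelsOK rest (b :: fixed)

theorem chain_bound : ∀ (Ls : List (ℕ × List (List ℕ))) (fixed : List ℕ), levelsOK Ls fixed = true →
    ∃ S : Finset (Equiv.Perm (Fin 16)), S.card = (Ls.map fun L => L.2.length).prod ∧
      (∀ σ ∈ S, σ ∈ K) ∧ ∀ σ ∈ S, ∀ a ∈ fixed, σ (Fin.ofNat 16 a) = Fin.ofNat 16 a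
  | [], _, _ => ⟨{1}, by simp, by simp [one_mem], by simp⟩
  | (b, T) :: rest, fixed, h => by
    simp only [levelsOK, Bool.and_eq_true, decide_eq_true_eq, List.all_eq_true] at h
    obtain ⟨⟨⟨-, hnd⟩, hfix⟩, hrest⟩ := h
    obtain ⟨S, hS, hSK, hSfix⟩ := chain_bound rest (b :: fixed) hrest
    refine ⟨((Finset.univ : Finset (Fin T.length)) ×ˢ S).image fun q => wordP T[(q.1 : ℕ)] * q.2, ?_, ?_, ?_⟩
    · rw [Finset.card_image_of_injOn, Finset.card_product, Finset.card_univ, Fintype.card_fin, hS,
        List.map_cons, List.prod_cons]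
      rintro ⟨i, s⟩ hi ⟨j, t⟩ hj e
      simp only [Finset.coe_product, Set.mem_prod, Finset.mem_coe] at hi hj
      simp only at e
      have e' := congrArg (fun g : Equiv.Perm (Fin 16) => g (Fin.ofNat 16 b)) e
      simp only [Equiv.Perm.mul_apply, hSfix s hi.2 b List.mem_cons_self, hSfix t hj.2 b List.mem_cons_self] at e'
      have hij : (i : ℕ) = j := by
        refine (hnd.getElem_inj_iff (hi := by simp) (hj := by simp)).1 ?_
        simpa using e'
      obtain rfl := Fin.ext hij
      rw [mul_left_cancel e]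
    · rintro σ hσ
      obtain ⟨⟨i, s⟩, hq, rfl⟩ := Finset.mem_image.1 hσ
      exact mul_mem (wordP_mem _) (hSK s (Finset.mem_product.1 hq).2)
    · rintro σ hσ a ha
      obtain ⟨⟨i, s⟩, hq, rfl⟩ := Finset.mem_image.1 hσ
      rw [Equiv.Perm.mul_apply, hSfix s (Finset.mem_product.1 hq).2 a (List.mem_cons_of_mem b ha)]
      exact hfix _ (List.getElem_mem _) a ha

theorem levels_ok : levelsOK levels [] = true ∧ (levels.map fun L => L.2.length).prod = 21504 := by
  decide +kernel

theorem card_K : 21504 ≤ Nat.card K := by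
  obtain ⟨S, hS, hSK, -⟩ := chain_bound levels [] levels_ok.1
  rw [levels_ok.2] at hS
  have := Nat.card_le_card_of_injective (fun x : S => (⟨x.1, hSK x.1 x.2⟩ : K))
    fun x y h => Subtype.ext (congrArg (fun z : K => (z : Equiv.Perm (Fin 16))) h)
  simpa [hS] using this

/-- A group of order at most 21504 which maps its generators onto those of the image. -/
theorem range_eq {G : Type*} [Group G] [Finite G] (ι : G →* Equiv.Perm (Fin 16)) (hG : Nat.card G ≤ 21504)
    (hgen : ∀ j, ∃ g, ι g = img16 j) : ι.range = K ∧ Function.Injective ι := by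
  have hle : K ≤ ι.range := (Subgroup.closure_le _).2 fun x ⟨j, hj⟩ => by
    obtain ⟨g, hg⟩ := hgen j
    exact ⟨g, hg.trans hj⟩
  have h2 : Nat.card ι.range ≤ Nat.card G :=
    Nat.card_le_card_of_surjective _ ι.rangeRestrict_surjective
  refine ⟨(Subgroup.eq_of_le_of_card_ge hle ((h2.trans hG).trans card_K)).symm, ?_⟩
  have hbij : Function.Bijective ι.rangeRestrict :=
    ι.rangeRestrict_surjective.bijective_of_nat_card_le ((hG.trans card_K).trans (Subgroup.card_le_of_le hle))
  exact fun x y h => hbij.1 (Subtype.ext h)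

/-- Restriction of a centraliser to the moved points. -/
theorem exists_restr {G X : Type*} [Group G] (act : G →* Equiv.Perm X) (z : G) (f : Fin 16 → X)
    (hinj : Function.Injective f) (hran : ∀ x, (∃ i, f i = x) ↔ act z x ≠ x) :
    ∃ ι : Subgroup.centralizer ({z} : Set G) →* Equiv.Perm (Fin 16),
      ∀ (g : Subgroup.centralizer ({z} : Set G)) (π : Equiv.Perm (Fin 16)), (∀ i, act g (f i) = f (π i)) → ι g = π := by
  classical
  have hmove : ∀ (g : Subgroup.centralizer ({z} : Set G)) (i : Fin 16), ∃ j, f j = act g (f i) := by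
    intro g i
    refine (hran _).2 fun h => (hran (f i)).1 ⟨i, rfl⟩ ?_
    have hc : act g * act z = act z * act g := by
      rw [← map_mul, ← map_mul, (Subgroup.mem_centralizer_singleton_iff.1 g.2)]
    have := congrArg (fun σ : Equiv.Perm X => σ (f i)) hc
    simp only [Equiv.Perm.mul_apply] at this
    rw [h] at this
    exact (act g).injective this
  choose F hF using hmove
  have hone : ∀ i, F 1 i = i := fun i => hinj (by rw [hF, OneMemClass.coe_one, map_one]; rfl)
  have hmul : ∀ g h i, F (g * h) i = F g (F h i) := fun g h i => hinj (by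
    rw [hF, hF, hF, Subgroup.coe_mul, map_mul]; rfl)
  let E : Subgroup.centralizer ({z} : Set G) → Equiv.Perm (Fin 16) := fun g =>
    ⟨F g, F g⁻¹, fun i => by rw [← hmul, inv_mul_cancel, hone], fun i => by rw [← hmul, mul_inv_cancel, hone]⟩
  refine ⟨MonoidHom.mk' E fun g h => Equiv.ext fun i => hmul g h i, fun g π hπ => Equiv.ext fun i => hinj ?_⟩
  show f (F g i) = f (π i)
  rw [hF, hπ]

/-! ### The side of M24 -/

/-- The involution. -/
def zM : M24 := Cfsg.Agent.Local.FS.Mathieu.m24Gens.getD 31 1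

theorem card_centralizer_M : Nat.card (Subgroup.centralizer ({zM} : Set M24)) ≤ 21504 := by
  classical
  have h1 := Cfsg.Agent.Local.FS.Mathieu.m24_class
  have h2 : (MulAction.stabilizer (ConjAct M24) zM).index = Nat.card {y : M24 // IsConj zM y} := by
    rw [MulAction.index_stabilizer, ← Nat.card_coe_set_eq]
    exact Nat.card_congr (Equiv.subtypeEquivRight fun y => by
      rw [ConjAct.mem_orbit_conjAct, isConj_comm])
  have h3 := (MulAction.stabilizer (ConjAct M24) zM).card_mul_index
  have h4 : Nat.card (MulAction.stabilizer (ConjAct M24) zM) = Nat.card (Subgroup.centralizer ({zM} : Set M24)) :=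
    Nat.card_congr
      { toFun := fun g => ⟨ConjAct.ofConjAct g.1, Subgroup.mem_centralizer_singleton_iff.2 (by
          have := g.2
          rw [MulAction.mem_stabilizer_iff, ConjAct.smul_def, mul_inv_eq_iff_eq_mul] at this
          exact this)⟩
        invFun := fun g => ⟨ConjAct.toConjAct g.1, by
          rw [MulAction.mem_stabilizer_iff, ConjAct.smul_def, ConjAct.ofConjAct_toConjAct, mul_inv_eq_iff_eq_mul]
          exact Subgroup.mem_centralizer_singleton_iff.1 g.2⟩
        left_inv := fun _ => rfl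
        right_inv := fun _ => rfl }
  rw [h4, h2, show Nat.card (ConjAct M24) = 244823040 from Cfsg.Agent.Local.FS.Mathieu.card_m24] at h3
  unfold zM at h3 ⊢
  nlinarith

/-- The sixteen points. -/
def fM (i : Fin 16) : GolayPt := Cfsg.Agent.Spor.pt (pts.getD i 0)

/-- A permutation of the points from two lists. -/
abbrev mk24 := @Cfsg.Agent.Local.FS.Mathieu.mkPerm

/-- The three generators in degree twenty-four. -/
def gM : Fin 3 → Equiv.Perm GolayPt :=
  ![mk24 (gen24.getD 0 ([], [])).1 (gen24.getD 0 ([], [])).2 (by decide +kernel) (by decide +kernel),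
    mk24 (gen24.getD 1 ([], [])).1 (gen24.getD 1 ([], [])).2 (by decide +kernel) (by decide +kernel),
    mk24 (gen24.getD 2 ([], [])).1 (gen24.getD 2 ([], [])).2 (by decide +kernel) (by decide +kernel)]

theorem gM_facts : ∀ j, Cfsg.Agent.Local.FS.Mathieu.inCode (Cfsg.Agent.Local.FS.Mathieu.lst (gM j)) = true ∧
    (∀ p, gM j ((zM : Equiv.Perm GolayPt) p) = (zM : Equiv.Perm GolayPt) (gM j p)) ∧
    ∀ i, gM j (fM i) = fM (img16 j i) := by decide +kernel

theorem fM_facts : (∀ i k, fM i = fM k → i = k) ∧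
    (∀ p, (∃ i, fM i = p) ↔ (zM : Equiv.Perm GolayPt) p ≠ p) ∧
    (∀ p, (zM : Equiv.Perm GolayPt) ((zM : Equiv.Perm GolayPt) p) = p) ∧
    ∃ p, (zM : Equiv.Perm GolayPt) p ≠ p := by decide +kernel

theorem order_zM : orderOf zM = 2 := by
  obtain ⟨-, -, h, p, hp⟩ := fM_facts
  refine orderOf_eq_prime (Subtype.ext (Equiv.ext fun q => ?_)) fun e => hp ?_
  · rw [pow_two, Subgroup.coe_mul, Equiv.Perm.mul_apply, h]; rfl
  · rw [e]; rfl

theorem restr_M : Nonempty (Subgroup.centralizer ({zM} : Set M24) ≃* K) := by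
  classical
  obtain ⟨ι, hι⟩ := exists_restr M24.subtype zM fM (fun i k => fM_facts.1 i k) fM_facts.2.1
  have hgen : ∀ j, ∃ g, ι g = img16 j := fun j => by
    obtain ⟨h1, h2, h3⟩ := gM_facts j
    exact ⟨⟨⟨gM j, Cfsg.Agent.Local.FS.Mathieu.m24_mem_of_lst h1⟩, Subgroup.mem_centralizer_singleton_iff.2
      (Subtype.ext (Equiv.ext h2))⟩, hι _ _ h3⟩
  obtain ⟨hr, hinj⟩ := range_eq ι card_centralizer_M hgen
  exact ⟨(MonoidHom.ofInjective hinj).trans (MulEquiv.subgroupCongr hr)⟩

/-! ### The linear side -/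

/-- Vectors. -/
abbrev V5 := Fin 5 → ZMod 2

/-- The natural action. -/
def actL : Matrix.SpecialLinearGroup (Fin 5) (ZMod 2) →* Equiv.Perm V5 where
  toFun g :=
    { toFun := fun v => (g : Matrix (Fin 5) (Fin 5) (ZMod 2)).mulVec v
      invFun := fun v => ((g⁻¹ : Matrix.SpecialLinearGroup (Fin 5) (ZMod 2)) : Matrix (Fin 5) (Fin 5) (ZMod 2)).mulVec v
      left_inv := fun v => by
        show Matrix.mulVec _ (Matrix.mulVec _ v) = v
        rw [Matrix.mulVec_mulVec, ← Matrix.SpecialLinearGroup.coe_mul, inv_mul_cancel,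
          Matrix.SpecialLinearGroup.coe_one, Matrix.one_mulVec]
      right_inv := fun v => by
        show Matrix.mulVec _ (Matrix.mulVec _ v) = v
        rw [Matrix.mulVec_mulVec, ← Matrix.SpecialLinearGroup.coe_mul, mul_inv_cancel,
          Matrix.SpecialLinearGroup.coe_one, Matrix.one_mulVec] }
  map_one' := by ext v : 1; simp
  map_mul' g h := by ext v : 1; simp [Matrix.mulVec_mulVec]

/-- The sixteen vectors outside the hyperplane. -/
def fL (i : Fin 16) : V5 := fun c => ([(i : ℕ) % 2, 1, (i : ℕ) / 2 % 2, (i : ℕ) / 4 % 2, (i : ℕ) / 8 % 2].getD c 0 : ℕ)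

/-- A matrix of the data. -/
def matL (j : Fin 3) : Matrix (Fin 5) (Fin 5) (ZMod 2) :=
  Matrix.of fun a b => ((((gen5.getD j []).getD a []).getD b 0 : ℕ) : ZMod 2)

theorem matL_facts : ∀ j, (matL j).det = 1 ∧
    matL j * Matrix.transvection 0 1 1 = Matrix.transvection 0 1 1 * matL j ∧
    ∀ i, (matL j).mulVec (fL i) = fL (img16 j i) := by decide +kernel

theorem fL_facts : (∀ i k, fL i = fL k → i = k) ∧
    ∀ v, (∃ i, fL i = v) ↔ (Matrix.transvection (0 : Fin 5) 1 (1 : ZMod 2)).mulVec v ≠ v := by decide +kernel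

theorem card_det : Fintype.card {D : Matrix (Fin 3) (Fin 3) (ZMod 2) // D.det ≠ 0} ≤ 168 := by decide +kernel

theorem card_centralizer_L (s : Matrix.SpecialLinearGroup (Fin 5) (ZMod 2))
    (hs : (s : Matrix (Fin 5) (Fin 5) (ZMod 2)) = Matrix.transvection 0 1 1) :
    Nat.card (Subgroup.centralizer ({s} : Set (Matrix.SpecialLinearGroup (Fin 5) (ZMod 2)))) ≤ 21504 := by
  classical
  have hone : ∀ x : ZMod 2, x ≠ 0 → x = 1 := by decide
  have key : ∀ g ∈ Subgroup.centralizer ({s} : Set (Matrix.SpecialLinearGroup (Fin 5) (ZMod 2))),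
      (∀ i : Fin 5, i ≠ 0 → (g : Matrix (Fin 5) (Fin 5) (ZMod 2)) i 0 = 0) ∧
      (∀ j : Fin 5, j ≠ 1 → (g : Matrix (Fin 5) (Fin 5) (ZMod 2)) 1 j = 0) ∧
      (g : Matrix (Fin 5) (Fin 5) (ZMod 2)) 1 1 = (g : Matrix (Fin 5) (Fin 5) (ZMod 2)) 0 0 := by
    intro g hg
    have h := congrArg (fun x : Matrix.SpecialLinearGroup (Fin 5) (ZMod 2) => (x : Matrix (Fin 5) (Fin 5) (ZMod 2)))
      (Subgroup.mem_centralizer_singleton_iff.1 hg)
    simp only [Matrix.SpecialLinearGroup.coe_mul, hs] at h
    refine ⟨fun i hi => ?_, fun j hj => ?_, ?_⟩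
    · have := congrFun (congrFun h i) 1
      simp [Matrix.mul_transvection_apply_same, Matrix.transvection_mul_apply_of_ne, hi] at this
      exact this
    · have := congrFun (congrFun h 0) j
      simp [Matrix.mul_transvection_apply_of_ne, Matrix.transvection_mul_apply_same, hj] at this
      exact this
    · have := congrFun (congrFun h 0) 1
      simp [Matrix.mul_transvection_apply_same, Matrix.transvection_mul_apply_same] at this
      linear_combination -this
  have hdiag : ∀ g ∈ Subgroup.centralizer ({s} : Set (Matrix.SpecialLinearGroup (Fin 5) (ZMod 2))),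
      (g : Matrix (Fin 5) (Fin 5) (ZMod 2)) 0 0 = 1 ∧
      (Matrix.of fun i j : Fin 3 => (g : Matrix (Fin 5) (Fin 5) (ZMod 2)) i.succ.succ j.succ.succ).det ≠ 0 := by
    intro g hg
    obtain ⟨c1, r1, -⟩ := key g hg
    obtain ⟨c2, r2, -⟩ := key g⁻¹ (inv_mem hg)
    have h : ((g * g⁻¹ : Matrix.SpecialLinearGroup (Fin 5) (ZMod 2)) : Matrix (Fin 5) (Fin 5) (ZMod 2)) = 1 := by
      rw [mul_inv_cancel, Matrix.SpecialLinearGroup.coe_one]
    rw [Matrix.SpecialLinearGroup.coe_mul] at h
    have h' : ((g⁻¹ * g : Matrix.SpecialLinearGroup (Fin 5) (ZMod 2)) : Matrix (Fin 5) (Fin 5) (ZMod 2)) = 1 := by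
      rw [inv_mul_cancel, Matrix.SpecialLinearGroup.coe_one]
    rw [Matrix.SpecialLinearGroup.coe_mul] at h'
    refine ⟨hone _ fun h0 => ?_, ?_⟩
    · have e := congrFun (congrFun h' 0) 0
      rw [Matrix.mul_apply, Matrix.one_apply_eq] at e
      refine zero_ne_one ((Finset.sum_eq_zero fun k _ => ?_).symm.trans e)
      by_cases hk : k = 0
      · rw [hk, h0, mul_zero]
      · rw [c1 k hk, mul_zero]
    · have hD : Matrix.of (fun i j : Fin 3 => (g : Matrix (Fin 5) (Fin 5) (ZMod 2)) i.succ.succ j.succ.succ) *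
          Matrix.of (fun i j : Fin 3 => ((g⁻¹ : Matrix.SpecialLinearGroup (Fin 5) (ZMod 2)) :
            Matrix (Fin 5) (Fin 5) (ZMod 2)) i.succ.succ j.succ.succ) = 1 := by
        ext i j
        have e := congrFun (congrFun h i.succ.succ) j.succ.succ
        rw [Matrix.mul_apply, Fin.sum_univ_succ, Fin.sum_univ_succ, c1 _ (Fin.succ_ne_zero _),
          zero_mul, zero_add, Fin.succ_zero_eq_one, r2 _ (by fin_cases j <;> decide), mul_zero, zero_add] at e
        rw [Matrix.mul_apply]
        simp only [Matrix.of_apply]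
        rw [e]
        simp [Matrix.one_apply]
      intro h0
      have := congrArg Matrix.det hD
      rw [Matrix.det_mul, h0, zero_mul, Matrix.det_one] at this
      exact zero_ne_one this
  let enc : Subgroup.centralizer ({s} : Set (Matrix.SpecialLinearGroup (Fin 5) (ZMod 2))) →
      ZMod 2 × (Fin 3 → ZMod 2) × (Fin 3 → ZMod 2) × {D : Matrix (Fin 3) (Fin 3) (ZMod 2) // D.det ≠ 0} :=
    fun g => ((g.1 : Matrix (Fin 5) (Fin 5) (ZMod 2)) 0 1, fun j => (g.1 : Matrix (Fin 5) (Fin 5) (ZMod 2)) 0 j.succ.succ,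
      fun i => (g.1 : Matrix (Fin 5) (Fin 5) (ZMod 2)) i.succ.succ 1,
      ⟨Matrix.of fun i j : Fin 3 => (g.1 : Matrix (Fin 5) (Fin 5) (ZMod 2)) i.succ.succ j.succ.succ, (hdiag g g.2).2⟩)
  have hinj : Function.Injective enc := by
    intro g h e
    simp only [enc, Prod.mk.injEq, Subtype.mk.injEq] at e
    obtain ⟨e1, e2, e3, e4⟩ := e
    refine Subtype.ext (Subtype.ext (Matrix.ext fun i j => ?_))
    obtain ⟨a1, a2, a3⟩ := key g g.2
    obtain ⟨b1, b2, b3⟩ := key h h.2
    have ha := (hdiag g g.2).1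
    have hb := (hdiag h h.2).1
    induction i using Fin.cases with
    | zero =>
      induction j using Fin.cases with
      | zero => rw [ha, hb]
      | succ j =>
        induction j using Fin.cases with
        | zero => exact e1
        | succ j => exact congrFun e2 j
    | succ i =>
      induction j using Fin.cases with
      | zero => rw [a1 _ (Fin.succ_ne_zero _), b1 _ (Fin.succ_ne_zero _)]
      | succ j =>
        induction i using Fin.cases with
        | zero =>
          induction j using Fin.cases with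
          | zero => rw [Fin.succ_zero_eq_one, a3, b3, ha, hb]
          | succ j =>
            rw [Fin.succ_zero_eq_one, a2 _ (by fin_cases j <;> decide), b2 _ (by fin_cases j <;> decide)]
        | succ i =>
          induction j using Fin.cases with
          | zero => exact congrFun e3 i
          | succ j => exact congrFun (congrFun e4 i) j
  refine (Nat.card_le_card_of_injective enc hinj).trans ?_
  simp only [Nat.card_eq_fintype_card, Fintype.card_prod, Fintype.card_fun, ZMod.card, Fintype.card_fin]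
  have := card_det
  omega

theorem restr_L (s : Matrix.SpecialLinearGroup (Fin 5) (ZMod 2))
    (hs : (s : Matrix (Fin 5) (Fin 5) (ZMod 2)) = Matrix.transvection 0 1 1) :
    Nonempty (Subgroup.centralizer ({s} : Set (Matrix.SpecialLinearGroup (Fin 5) (ZMod 2))) ≃* K) := by
  classical
  obtain ⟨ι, hι⟩ := exists_restr actL s fL (fun i k => fL_facts.1 i k) (fun v => by
    show _ ↔ (s : Matrix (Fin 5) (Fin 5) (ZMod 2)).mulVec v ≠ v
    rw [hs]; exact fL_facts.2 v)
  have hgen : ∀ j, ∃ g, ι g = img16 j := fun j => by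
    obtain ⟨h1, h2, h3⟩ := matL_facts j
    exact ⟨⟨⟨matL j, h1⟩, Subgroup.mem_centralizer_singleton_iff.2 (Subtype.ext (by
      show matL j * (s : Matrix (Fin 5) (Fin 5) (ZMod 2)) = (s : Matrix (Fin 5) (Fin 5) (ZMod 2)) * matL j
      rw [hs]; exact h2))⟩, hι _ _ h3⟩
  obtain ⟨hr, hinj⟩ := range_eq ι (card_centralizer_L s hs) hgen
  exact ⟨(MonoidHom.ofInjective hinj).trans (MulEquiv.subgroupCongr hr)⟩

end Cfsg.Agent.Spor.TransvectionType
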