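import Cfsg.Agent.Lib.Spor.HeInvData
import Cfsg.Agent.Lib.Spor.HeSp4
import Cfsg.Agent.Lib.Spor.TransvectionType

/-!
Checks on the data for the centralizer of an involution in the Held group.
-/

set_option autoImplicit false
set_option maxRecDepth 100000

namespace Cfsg.Agent.Spor.HeCert.HeInv

open Cfsg.Agent.Spor.CC Cfsg.Agent.Spor.HeCert.Sp4Blocks

/-- first coordinate of a pair -/
def pfst (i k : ℕ) : ℕ := fld pairFst 16 (i * 336 + k)

/-- second coordinate of a pair -/
def psnd (i k : ℕ) : ℕ := fld pairSnd 16 (i * 336 + k)

/-- the code of a pair -/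
def pairKey (q : ℕ) : ℕ := fld pairFst 16 q * 2058 + fld pairSnd 16 q

/-- image of a set -/
def sigmaN (j i : ℕ) : ℕ := (TransvectionType.gen16.getD j ([], [])).1.getD i 0

/-- position of an image -/
def moveN (j i k : ℕ) : ℕ :=
  if j = 1 then k else fld (if j = 0 then moveA else moveB) 16 (i * 336 + k)

/-- the relation on blocks -/
def adj (u v : ℕ) : Bool := Nat.testBit adjMask (u * 85 + v)

/-- the involution on blocks -/
def dB (u : ℕ) : ℕ := brows 2 u

/-- the distinguished property of a block -/
def special (u : ℕ) : Bool :=
  dB u == u && (List.range 85).all fun v => !(dB v != v && adj v (dB v)) || adj u v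

/-- the word of a leaf -/
def leafWord (k : ℕ) : List ℕ :=
  (rest.getD 0 []).getD (fld leafCode 32 k / 64) [] ++ (rest.getD 1 []).getD (fld leafCode 32 k % 64) []

/-- the code of a leaf -/
noncomputable def leafKey (k : ℕ) : ℕ := ev brows 7 (leafWord k) 5 * 85 + ev brows 7 (leafWord k) 38

/-- whether a leaf commutes with the involution -/
noncomputable def leafComm (k : ℕ) : Bool :=
  (List.range 85).all fun u => ev brows 7 (leafWord k) (dB u) == dB (ev brows 7 (leafWord k) u)

theorem fix_ok : ((List.range 2058).all fun u => RepS44.rows 3 u != u || fixPts.contains u) = true := by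
  decide +kernel

theorem fix_len : fixPts.length = 42 := by decide +kernel

theorem gen_ok : ((List.range 3).all fun j => lettersOK 7 [genW.getD j []] &&
    (List.range 2058).all fun u =>
      ev RepS44.rows 7 (genW.getD j []) (RepS44.rows 3 u) == RepS44.rows 3 (ev RepS44.rows 7 (genW.getD j []) u)) =
    true := by
  decide +kernel

theorem move_ok : ((List.range 3).all fun j => (List.range 16).all fun i => (List.range 336).all fun k =>
    Nat.blt (moveN j i k) 336 && Nat.blt (sigmaN j i) 16 &&
    ev RepS44.rows 7 (genW.getD j []) (pfst i k) == pfst (sigmaN j i) (moveN j i k) &&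
    ev RepS44.rows 7 (genW.getD j []) (psnd i k) == psnd (sigmaN j i) (moveN j i k)) = true := by
  decide +kernel

theorem pair_ok : ((List.range 16).all fun i => (List.range 336).all fun k =>
    Nat.blt (pfst i k) 2058 && Nat.blt (psnd i k) 2058) = true := by
  decide +kernel

theorem ord_mono : ((List.range 5375).all fun r => Nat.blt (pairKey (fld pairOrd 16 r))
    (pairKey (fld pairOrd 16 (r + 1)))) = true := by
  decide +kernel

theorem rank_ok : ((List.range 5376).all fun q => Nat.blt (fld pairRank 16 q) 5376 &&
    fld pairOrd 16 (fld pairRank 16 q) == q) = true := by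
  decide +kernel

theorem adj_ok : ((List.range 7).all fun x => (List.range 85).all fun u => (List.range 85).all fun v =>
    adj (brows x u) (brows x v) == adj u v) = true := by
  decide +kernel

theorem special_ok : ((List.range 85).all fun u => special u == (u == 3)) = true := by decide +kernel

theorem sixteen_ok : ((List.range 85).all fun v => !(dB v != v && adj v (dB v)) || sixteen.contains v) = true ∧
    sixteen.length = 16 ∧ dB 0 ≠ 0 ∧ adj 0 (dB 0) = true := by
  decide +kernel

theorem top0_ok : lettersOK 7 top0 = true ∧ top0.length = 85 ∧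
    (top0.map fun w => ev brows 7 w 3).Nodup := by
  decide +kernel

theorem top1_ok : lettersOK 7 top1 = true ∧ top1.length = 20 ∧ (top1.all fun w => ev brows 7 w 3 == 3) = true ∧
    (top1.map fun w => ev brows 7 w 0).Nodup := by
  decide +kernel

theorem leaf_letters : ((List.range 1152).all fun k => lettersOK 7 [leafWord k]) = true := by decide +kernel

theorem leaf_fix : ((List.range 1152).all fun k =>
    ev brows 7 (leafWord k) 3 == 3 && ev brows 7 (leafWord k) 0 == 0) = true := by
  decide +kernel

theorem leaf_mono : ((List.range 1151).all fun k => Nat.blt (leafKey k) (leafKey (k + 1))) = true := by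
  decide +kernel

theorem leaf_comm : ((List.range 1152).filter leafComm).length ≤ 32 := by decide +kernel

end Cfsg.Agent.Spor.HeCert.HeInv
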