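import Cfsg.Agent.Lib.Spor.HeOutSigDefs

/-!
Scan of the points for the element of order seventeen.
-/

set_option autoImplicit false
set_option maxRecDepth 100000
set_option Elab.async false

namespace Cfsg.Agent.Spor.HeCert.Outer

open Cfsg.Agent.Spor.CC

theorem scanX_1 : rangeOK scanX 686 686 = true := by decide +kernel

theorem scanT_1 : rangeOK scanT 686 686 = true := by decide +kernel

end Cfsg.Agent.Spor.HeCert.Outer
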