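import Cfsg.Agent.Lib.Spor.HeOutScanX0
import Cfsg.Agent.Lib.Spor.HeOutScanX1
import Cfsg.Agent.Lib.Spor.HeOutScanX2

/-!
Checks of the two generators of He and of the outer automorphism.
-/

set_option autoImplicit false
set_option maxRecDepth 100000
set_option Elab.async false

namespace Cfsg.Agent.Spor.HeCert.Outer

open Cfsg.Agent.Spor.CC

/-- a product of powers of the first generator and the second one -/
noncomputable def pieceW (k : ℕ) (v : List ℕ) (e : ℕ) : List ℕ :=
  bif Nat.beq e 0 then v else powW (e * k % 17) xW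

/-- substitution in a product -/
noncomputable def substW (k : ℕ) (v : List ℕ) (p : List ℕ) : List ℕ := p.flatMap (pieceW k v)

/-- all elements commuting with `tW` -/
noncomputable def candW : List (List ℕ) := centW ++ centW.map fun h => cS ++ h

/-- the image of a word under the outer automorphism -/
noncomputable def tauOf (a : List ℕ) : List ℕ := a.flatMap fun y => tauW.getD y []

/-- a candidate breaks a relation -/
noncomputable def breaks (k : ℕ) (wit : List ℕ) (j : ℕ) : Bool :=
  movesW (powW (tests.getD (wit.getD j 0) ([], 0)).2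
    (substW k (candW.getD j []) (tests.getD (wit.getD j 0) ([], 0)).1))

/-- the witness of a candidate, unless it is the expected one -/
noncomputable def witOK (k : ℕ) (wit : List ℕ) (idx : ℕ) (j : ℕ) : Bool :=
  Nat.beq j idx || (Nat.blt (wit.getD j 0) tests.length && breaks k wit j)

theorem x_pow_one : oneW (powW 17 xW) = true := by decide +kernel

theorem x_facts : lettersOK 7 [xW] = true ∧ ev RepS44.rows 7 xW 0 = 0 ∧ ev RepS44.rows 7 xW 1 ≠ 1 ∧
    (∀ O ∈ chainX, O.b = 0 ∨ ∃ i < 17, powPt xW i 1 = O.b) := by decide +kernel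

theorem chainX_ok : chainOK RepS44.rows 7 2058 chainX [] = true := by decide +kernel

theorem chainX_size : chainSize chainX = 4030387200 := by decide +kernel

theorem z_conj : eqW (zW ++ xW ++ zW.reverse) (powW 2 xW) = true := by decide +kernel

theorem t_facts : lettersOK 7 [tW] = true ∧ eqW tW (zW ++ zW) = true ∧ lettersOK 7 centW = true ∧
    lettersOK 7 [cS] = true ∧ ev RepS44.rows 7 cS 0 = 456 ∧ eqW (cS ++ tW) (tW ++ cS) = true ∧
    (∀ O ∈ chainT, O.b = 0 ∨ ∃ i < 4, powPt tW i 1601 = O.b ∨ powPt tW i 56 = O.b) := by decide +kernel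

theorem cent_fix : ∀ h ∈ centW, ev RepS44.rows 7 h 0 = 0 ∧ eqW (h ++ tW) (tW ++ h) = true := by decide +kernel

theorem chainT_ok : chainOK RepS44.rows 7 2058 chainT [] = true := by decide +kernel

theorem chainT_size : chainSize chainT = 4030387200 := by decide +kernel

theorem w_comm : eqW (wW ++ tW) (tW ++ wW) = true := by decide +kernel

theorem w_at : eqW (candW.getD wIdx []) wW = true := by decide +kernel

theorem gens_check : ∀ y < 7, eqW (substW 1 wW (gensW.getD y [])) [y] = true := by decide +kernel

theorem tests_hold : ∀ p ∈ tests, eqW (powW p.2 (substW 1 wW p.1)) [] = true := by decide +kernel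

theorem wit_one : ∀ j < 128, witOK 1 wit1 wIdx j = true := by decide +kernel

theorem wit_three : ∀ j < 128, witOK 3 wit3 vIdx j = true := by decide +kernel

theorem cand_length : candW.length = 128 := by decide +kernel

theorem tau_inv : ∀ y < 7, eqW (tauW.getD y [] ++ tauW.getD y []) [] = true := by decide +kernel

theorem tau_cox : ∀ i < 7, ∀ j < 7,
    eqW (powW (Cfsg.Spor.coxLabel pres.edges (pres.nm i) (pres.nm j))
      (tauW.getD i [] ++ tauW.getD j [])) [] = true := by decide +kernel

theorem tau_extra : ∀ r ∈ pres.extraW, eqW (tauOf r) [] = true := by decide +kernel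

theorem tau_x : eqW (tauOf xW) (powW 3 xW) = true := by decide +kernel

theorem tau_w : eqW (tauOf wW) (candW.getD vIdx []) = true := by decide +kernel

theorem small_arith : (∀ k < 17, k ≠ 0 → ∃ j < 8, k * 2 ^ j % 17 = 1 ∨ k * 2 ^ j % 17 = 3) ∧
    (∀ k < 17, k ≠ 0 → ∃ j < 16, 3 ^ j % 17 = k) ∧
    (∀ i < 16, ∀ j < 16, 3 ^ i % 17 = 3 ^ j % 17 → i = j) := by decide +kernel

end Cfsg.Agent.Spor.HeCert.Outer
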