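import Cfsg.Agent.Lib.Spor.HeOutCheck
import Cfsg.Prelude.Def_KGroupFacts
import Mathlib.GroupTheory.Sylow

/-!
The outer automorphism group of He has order two.
-/

set_option autoImplicit false
set_option maxRecDepth 100000

namespace Cfsg.Agent.Spor.HeCert.Outer

open Cfsg.Agent.Spor.CC

/-- the element of order seventeen -/
noncomputable def xEl : pres.Grp := el xW

/-- the element squaring it -/
noncomputable def zEl : pres.Grp := el zW

/-- the second generator -/
noncomputable def wEl : pres.Grp := el wW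

theorem x_pow : xEl ^ 17 = 1 := by rw [xEl, ← el_powW]; exact oneW_spec x_pow_one

theorem x_order : orderOf xEl = 17 := by
  haveI : Fact (Nat.Prime 17) := ⟨by norm_num⟩
  refine orderOf_eq_prime x_pow fun e => ?_
  obtain ⟨hl, -, hne, -⟩ := x_facts
  apply hne
  have h := el_apply hl (⟨1, by decide⟩ : Fin rep.P.n)
  rw [← xEl, e, map_one, Equiv.Perm.one_apply] at h
  exact h.symm

theorem x_pow_mod (n : ℕ) : xEl ^ (n % 17) = xEl ^ n := by
  conv_rhs => rw [← pow_mod_orderOf, x_order]

theorem x_conj : zEl * xEl * zEl⁻¹ = xEl ^ 2 := by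
  have h := eqW_spec z_conj
  rwa [el_append, el_append, el_reverse, el_powW] at h

theorem scanX_all {q : ℕ} (h : q < 2058) : scanX q = true := by
  by_cases h0 : q < 686; · exact all_range scanX_0 (Nat.zero_le _) h0
  by_cases h1 : q < 1372; · exact all_range scanX_1 (by omega) h1
  exact all_range scanX_2 (by omega) h

theorem scanT_all {q : ℕ} (h : q < 2058) : scanT q = true := by
  by_cases h0 : q < 686; · exact all_range scanT_0 (Nat.zero_le _) h0
  by_cases h1 : q < 1372; · exact all_range scanT_1 (by omega) h1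
  exact all_range scanT_2 (by omega) h

theorem path_all (p : Fin rep.P.n) : pathOK p = true := by
  have h := scanX_all (show (p : ℕ) < 2058 from p.2)
  simp only [scanX, Bool.and_eq_true] at h
  exact h.1.1

theorem sig_transfer {a : List ℕ} (ha : lettersOK 7 [a] = true) {g : pres.Grp} (hcom : Commute (el a) g)
    (hz : rep.hom g rep.z = rep.z) (n : ℕ) (p : Fin rep.P.n) :
    sigEq a n (rep.hom g p : Fin rep.P.n) p = true := by
  simp only [sigEq, Bool.and_eq_true, List.all_eq_true, List.mem_range]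
  refine ⟨Nat.beq_eq.mpr (lab_stab hz p), fun i _ => ?_⟩
  rw [← powPt_apply ha, ← powPt_apply ha]
  refine Nat.beq_eq.mpr (rel_inv g (path_all _) (path_all _) rfl ?_)
  rw [← Equiv.Perm.mul_apply, ← map_mul, ← (hcom.pow_left i).eq, map_mul, Equiv.Perm.mul_apply]

theorem fix_pow {a : List ℕ} {g : pres.Grp} (hcom : Commute (el a) g) {p : Fin rep.P.n}
    (hp : rep.hom g p = p) (i : ℕ) : rep.hom g (rep.hom (el a ^ i) p) = rep.hom (el a ^ i) p := by
  rw [← Equiv.Perm.mul_apply, ← map_mul, ← (hcom.pow_left i).eq, map_mul, Equiv.Perm.mul_apply, hp]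

theorem chain_fix {L : List Orb} (hL : chainOK RepS44.rows 7 2058 L [] = true)
    (hsize : chainSize L = 4030387200) {g : pres.Grp}
    (hfix : ∀ O ∈ L, ∀ u : Fin rep.P.n, (u : ℕ) = O.b → rep.hom g u = u) : g = 1 := by
  haveI := order.1
  have h := chain_mem rep.valid pres.gen rep.hom rep.hom_gen L [] hL ⊤ (fun _ _ _ => trivial)
    (by rw [Nat.card_congr Subgroup.topEquiv.toEquiv, order.2.1, hsize]) L.length g trivial
    (fun b hb u hu => by
      rw [List.take_length] at hb
      obtain ⟨O, hO, rfl⟩ := List.mem_map.mp hb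
      exact hfix O hO u hu)
  rw [List.drop_length] at h
  have h2 : Subgroup.closure {t : pres.Grp | ∃ O ∈ ([] : List Orb), ∃ w ∈ O.ws, t = (w.map pres.gen).prod} ≤ ⊥ :=
    (Subgroup.closure_le _).mpr (by rintro _ ⟨O, hO, -⟩; simp at hO)
  exact Subgroup.mem_bot.mp (h2 h)

theorem cent_x {g : pres.Grp} (hg : Commute xEl g) : ∃ i, g = xEl ^ i := by
  obtain ⟨hl, hx0, -, hbase⟩ := x_facts
  have hz : rep.hom g rep.z = rep.z := by
    have h1 : rep.hom xEl (rep.hom g rep.z) = rep.hom g rep.z := by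
      rw [← Equiv.Perm.mul_apply, ← map_mul, hg.eq, map_mul, Equiv.Perm.mul_apply,
        show rep.hom xEl rep.z = rep.z from Fin.ext ((el_apply hl rep.z).trans hx0)]
    have h2 := congrArg (fun v : Fin rep.P.n => (v : ℕ)) h1
    simp only [xEl, el_apply hl] at h2
    generalize rep.hom g rep.z = v at h2
    have h := scanX_all (show (v : ℕ) < 2058 from v.2)
    simp only [scanX, Bool.and_eq_true, Bool.or_eq_true, Bool.not_eq_true'] at h
    rcases h.1.2 with h | h
    · exact Fin.ext (Nat.eq_of_beq_eq_true h)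
    · exact absurd (Nat.beq_eq.mpr h2) (by simp [h])
  let one : Fin rep.P.n := ⟨1, by decide⟩
  have hs : sigEq xW 17 (rep.hom g one : Fin rep.P.n) 1 = true := sig_transfer hl hg hz 17 one
  have h := scanX_all (show ((rep.hom g one : Fin rep.P.n) : ℕ) < 2058 from (rep.hom g one).2)
  simp only [scanX, Bool.and_eq_true, Bool.or_eq_true, Bool.not_eq_true'] at h
  obtain ⟨-, h2⟩ := h
  rw [hs] at h2
  simp only [Bool.true_eq_false, false_or] at h2
  obtain ⟨i, -, hi⟩ := List.any_eq_true.mp h2
  have hi' : rep.hom (xEl ^ i) one = rep.hom g one :=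
    Fin.ext ((powPt_apply hl i one).trans (Nat.eq_of_beq_eq_true hi))
  refine ⟨i, ?_⟩
  have hg' : Commute (el xW) ((xEl ^ i)⁻¹ * g) :=
    (((Commute.refl xEl).pow_right i).inv_right).mul_right hg
  have hone : rep.hom ((xEl ^ i)⁻¹ * g) one = one := by
    rw [map_mul, Equiv.Perm.mul_apply, map_inv, Equiv.Perm.inv_eq_iff_eq, hi']
  have hzero : rep.hom ((xEl ^ i)⁻¹ * g) rep.z = rep.z := by
    rw [map_mul, Equiv.Perm.mul_apply, hz, map_inv, Equiv.Perm.inv_eq_iff_eq]
    have : ∀ n, rep.hom (xEl ^ n) rep.z = rep.z := fun n => by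
      induction n with
      | zero => rw [pow_zero, map_one, Equiv.Perm.one_apply]
      | succ n ih =>
        rw [pow_succ', map_mul, Equiv.Perm.mul_apply, ih]
        exact Fin.ext ((el_apply hl rep.z).trans hx0)
    exact (this i).symm
  have := chain_fix chainX_ok chainX_size (g := (xEl ^ i)⁻¹ * g) fun O hO u hu => by
    rcases hbase O hO with e | ⟨k, -, hk⟩
    · rw [show u = rep.z from Fin.ext (hu.trans e)]; exact hzero
    · rw [show u = rep.hom (el xW ^ k) one from Fin.ext (by rw [hu, powPt_apply hl]; exact hk.symm)]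
      exact fix_pow hg' hone k
  exact (inv_mul_eq_one.mp this).symm

theorem pow_conj {g : pres.Grp} {m : ℕ} (h : g * xEl * g⁻¹ = xEl ^ m) :
    ∀ j : ℕ, g ^ j * xEl * (g ^ j)⁻¹ = xEl ^ (m ^ j)
  | 0 => by simp
  | j + 1 => by
    calc g ^ (j + 1) * xEl * (g ^ (j + 1))⁻¹ = g * (g ^ j * xEl * (g ^ j)⁻¹) * g⁻¹ := by
          rw [pow_succ']; group
      _ = (g * xEl * g⁻¹) ^ (m ^ j) := by rw [pow_conj h j, conj_pow]
      _ = xEl ^ (m ^ (j + 1)) := by rw [h, ← pow_mul, pow_succ']

theorem not_conj_cube (g : pres.Grp) : g * xEl * g⁻¹ ≠ xEl ^ 3 := by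
  intro hg
  haveI := order.1
  haveI : Fact (Nat.Prime 17) := ⟨by norm_num⟩
  obtain ⟨-, hsurj, hinj⟩ := small_arith
  set X := Subgroup.zpowers xEl with hX
  let P : Sylow 17 pres.Grp := Sylow.ofCard X (by
    rw [hX, Nat.card_zpowers, x_order, order.2.1,
      show (4030387200 : ℕ).factorization 17 = 1 by
        rw [show (4030387200 : ℕ) = 17 * 237081600 by norm_num,
          Nat.factorization_mul (by norm_num) (by norm_num), Finsupp.add_apply,
          Nat.Prime.factorization_self (by norm_num), Nat.factorization_eq_zero_of_not_dvd (by norm_num)],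
      pow_one])
  set Nm := Subgroup.normalizer (X : Set pres.Grp) with hNm
  have hpow : ∀ j i : ℕ, (g ^ j * xEl ^ i) * xEl * (g ^ j * xEl ^ i)⁻¹ = xEl ^ (3 ^ j % 17) := by
    intro j i
    rw [x_pow_mod]
    calc (g ^ j * xEl ^ i) * xEl * (g ^ j * xEl ^ i)⁻¹
        = g ^ j * (xEl ^ i * xEl * (xEl ^ i)⁻¹) * (g ^ j)⁻¹ := by group
      _ = g ^ j * xEl * (g ^ j)⁻¹ := by
          rw [((Commute.refl xEl).pow_left i).eq, mul_inv_cancel_right]
      _ = _ := pow_conj hg j
  have hmem : ∀ j i : ℕ, g ^ j * xEl ^ i ∈ Nm := by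
    intro j i
    rw [hNm, Subgroup.mem_normalizer_iff_map_conj_eq, hX, MonoidHom.map_zpowers]
    have hle : Subgroup.zpowers (MulAut.conj (g ^ j * xEl ^ i) xEl) ≤ Subgroup.zpowers xEl := by
      rw [Subgroup.zpowers_le, MulAut.conj_apply, hpow]
      exact Subgroup.npow_mem_zpowers _ _
    refine Subgroup.eq_of_le_of_card_ge hle (le_of_eq ?_)
    rw [Nat.card_zpowers, Nat.card_zpowers]
    exact (orderOf_injective (MulAut.conj (g ^ j * xEl ^ i)).toMonoidHom (MulAut.conj _).injective xEl).symm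
  let F : Fin 16 × Fin 17 → Nm := fun p => ⟨g ^ (p.1 : ℕ) * xEl ^ (p.2 : ℕ), hmem _ _⟩
  have hF : Function.Bijective F := by
    constructor
    · rintro ⟨j, i⟩ ⟨j', i'⟩ e
      have e' : g ^ (j : ℕ) * xEl ^ (i : ℕ) = g ^ (j' : ℕ) * xEl ^ (i' : ℕ) := congrArg Subtype.val e
      have h1 := hpow j i
      rw [e', hpow j' i', pow_inj_mod, x_order, Nat.mod_mod, Nat.mod_mod] at h1
      have hj : j' = j := Fin.ext (hinj _ j'.2 _ j.2 h1)
      subst hj
      have h2 : xEl ^ (i : ℕ) = xEl ^ (i' : ℕ) := mul_left_cancel e'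
      rw [pow_inj_mod, x_order, Nat.mod_eq_of_lt i.2, Nat.mod_eq_of_lt i'.2] at h2
      rw [Prod.mk.injEq]
      exact ⟨rfl, Fin.ext h2⟩
    · rintro ⟨n, hn⟩
      have hn' : n * xEl * n⁻¹ ∈ X := by
        have h := hn
        rw [hNm, Subgroup.mem_normalizer_iff_map_conj_eq] at h
        have h1 : MulAut.conj n xEl ∈ X.map (MulAut.conj n).toMonoidHom :=
          ⟨xEl, Subgroup.mem_zpowers _, rfl⟩
        rw [MulAut.conj_apply] at h1
        exact h ▸ h1
      obtain ⟨k, hk⟩ := ((isOfFinOrder_of_finite xEl).mem_powers_iff_mem_zpowers).mpr hn'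
      have hk' : xEl ^ k = n * xEl * n⁻¹ := hk
      have hk0 : k % 17 ≠ 0 := by
        intro e
        rw [← x_pow_mod, e, pow_zero] at hk'
        have : xEl = 1 := by
          calc xEl = n⁻¹ * (n * xEl * n⁻¹) * n := by group
            _ = 1 := by rw [← hk']; group
        have := x_order
        simp [‹xEl = 1›] at this
      obtain ⟨j, hj, hjk⟩ := hsurj _ (Nat.mod_lt _ (by norm_num)) hk0
      have hc : Commute xEl ((g ^ j)⁻¹ * n) := by
        have e : n * xEl * n⁻¹ = g ^ j * xEl * (g ^ j)⁻¹ := by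
          rw [← hk', pow_conj hg, ← x_pow_mod k, ← x_pow_mod (3 ^ j), hjk]
        show xEl * ((g ^ j)⁻¹ * n) = (g ^ j)⁻¹ * n * xEl
        calc xEl * ((g ^ j)⁻¹ * n) = (g ^ j)⁻¹ * (g ^ j * xEl * (g ^ j)⁻¹) * n := by group
          _ = (g ^ j)⁻¹ * n * xEl := by rw [← e]; group
      obtain ⟨i, hi⟩ := cent_x hc
      refine ⟨(⟨j, hj⟩, ⟨i % 17, Nat.mod_lt _ (by norm_num)⟩), Subtype.ext ?_⟩
      show g ^ j * xEl ^ (i % 17) = n
      rw [x_pow_mod, ← hi]; group
  have hcard : Nat.card Nm = 272 := by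
    rw [← Nat.card_congr (Equiv.ofBijective F hF)]; simp
  have hidx := Subgroup.card_mul_index Nm
  rw [hcard, order.2.1] at hidx
  have h1 : Nat.card (Sylow 17 pres.Grp) = Nm.index := P.card_eq_index_normalizer
  have h2 : Nat.card (Sylow 17 pres.Grp) % 17 = 1 % 17 := card_sylow_modEq_one 17 pres.Grp
  rw [h1] at h2
  omega

/-- evaluation of a product of powers -/
noncomputable def valP (X V : pres.Grp) (p : List ℕ) : pres.Grp :=
  (p.map fun e => if e = 0 then V else X ^ e).prod

theorem el_subst (k : ℕ) (v : List ℕ) : ∀ p : List ℕ, el (substW k v p) = valP (xEl ^ k) (el v) p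
  | [] => rfl
  | e :: p => by
    rw [substW, List.flatMap_cons, el_append, ← substW, el_subst k v p, valP, valP, List.map_cons,
      List.prod_cons]
    congr 1
    by_cases he : e = 0
    · subst he; rfl
    · rw [if_neg he, pieceW, show Nat.beq e 0 = false from Bool.eq_false_iff.mpr
        (fun h => he (Nat.eq_of_beq_eq_true h)), cond_false, el_powW, ← xEl, x_pow_mod, ← pow_mul, mul_comm]

theorem map_valP (f : pres.Grp →* pres.Grp) (X V : pres.Grp) (p : List ℕ) :
    f (valP X V p) = valP (f X) (f V) p := by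
  rw [valP, valP, map_list_prod, List.map_map]
  congr 1
  refine List.map_congr_left fun e _ => ?_
  by_cases he : e = 0 <;> simp [he]

theorem gens_top : Subgroup.closure {xEl, wEl} = (⊤ : Subgroup pres.Grp) := by
  rw [eq_top_iff, ← Pres.closure_gen pres_ok, Subgroup.closure_le]
  rintro _ ⟨y, hy, rfl⟩
  have h := eqW_spec (gens_check y hy)
  rw [el_subst, el_single, pow_one] at h
  rw [← h, SetLike.mem_coe]
  refine list_prod_mem fun a ha => ?_
  obtain ⟨e, -, rfl⟩ := List.mem_map.mp ha
  by_cases he : e = 0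
  · rw [if_pos he]; exact Subgroup.subset_closure (Or.inr rfl)
  · rw [if_neg he]; exact pow_mem (Subgroup.subset_closure (show xEl ∈ ({xEl, wEl} : Set pres.Grp) from Or.inl rfl)) _

theorem ext_gens {f g : pres.Grp →* pres.Grp} (hx : f xEl = g xEl) (hw : f wEl = g wEl) : f = g :=
  MonoidHom.eq_of_eqOn_dense gens_top (by
    rintro a (rfl | rfl)
    · exact hx
    · exact hw)

/-- images of the generators under the outer automorphism -/
noncomputable def tauG (y : ℕ) : pres.Grp := el (tauW.getD y [])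

theorem el_tauOf : ∀ a : List ℕ, el (tauOf a) = (a.map tauG).prod
  | [] => rfl
  | y :: a => by
    rw [tauOf, List.flatMap_cons, el_append, ← tauOf, el_tauOf a, List.map_cons, List.prod_cons]; rfl

theorem tauG_sq (y : ℕ) : tauG y * tauG y = 1 := by
  by_cases hy : y < 7
  · have h := eqW_spec (tau_inv y hy)
    rwa [el_append] at h
  · rw [tauG, List.getD_eq_default _ _ (by
      have : tauW.length = 7 := rfl
      omega), el_nil, one_mul]

theorem tau_rels : ∀ r ∈ Cfsg.Spor.coxRelators pres.edges ∪ {r | r ∈ pres.extra},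
    FreeGroup.lift (fun a => tauG (pres.ix a)) r = 1 := by
  intro r hr
  rcases hr with ⟨a, -, b, -, rfl⟩ | hr
  · rw [map_pow, map_mul, FreeGroup.lift_apply_of, FreeGroup.lift_apply_of]
    have h := eqW_spec (tau_cox _ (pres_ok.ix_lt a) _ (pres_ok.ix_lt b))
    rw [el_powW, el_append, pres_ok.nm_ix, pres_ok.nm_ix] at h
    exact h
  · have key := pres_ok.extra_eq pres.Grp tauG tauG_sq
    have hmem : FreeGroup.lift (tauG ∘ pres.ix) r ∈ pres.extra.map (FreeGroup.lift (tauG ∘ pres.ix)) :=
      List.mem_map.mpr ⟨r, hr, rfl⟩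
    rw [key] at hmem
    obtain ⟨w, hw, e⟩ := List.mem_map.mp hmem
    show FreeGroup.lift (tauG ∘ pres.ix) r = 1
    rw [← e, ← el_tauOf]
    exact eqW_spec (tau_extra w hw)

/-- the outer automorphism as a homomorphism -/
noncomputable def tauHom : pres.Grp →* pres.Grp := PresentedGroup.toGroup tau_rels

theorem tauHom_gen (y : ℕ) : tauHom (pres.gen y) = tauG y := by
  by_cases hy : y < 7
  · rw [show pres.gen y = PresentedGroup.of (pres.nm y) from if_pos hy, tauHom, PresentedGroup.toGroup.of,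
      pres_ok.ix_nm y hy]
  · rw [Pres.gen_big (Q := pres) hy, map_one, tauG, List.getD_eq_default _ _ (by
      have : tauW.length = 7 := rfl
      omega), el_nil]

theorem tauHom_el (a : List ℕ) : tauHom (el a) = el (tauOf a) := by
  rw [el_tauOf, el, map_list_prod, List.map_map]
  exact congrArg List.prod (List.map_congr_left fun y _ => tauHom_gen y)

theorem tauHom_x : tauHom xEl = xEl ^ 3 := by
  rw [xEl, tauHom_el, eqW_spec tau_x, el_powW]

theorem tauHom_injective : Function.Injective tauHom := by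
  haveI := simple
  rw [← MonoidHom.ker_eq_bot_iff]
  refine ((MonoidHom.normal_ker tauHom).eq_bot_or_eq_top).resolve_right fun e => ?_
  have h : tauHom xEl = 1 := MonoidHom.mem_ker.mp (e ▸ Subgroup.mem_top xEl)
  rw [tauHom_x] at h
  have := orderOf_dvd_of_pow_eq_one h
  rw [x_order] at this
  omega

/-- the outer automorphism -/
noncomputable def tau : MulAut pres.Grp :=
  MulEquiv.ofBijective tauHom (haveI := order.1; Finite.injective_iff_bijective.mp tauHom_injective)

theorem tau_apply (a : pres.Grp) : tau a = tauHom a := rfl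

theorem tau_not_inner : tau ∉ Cfsg.Inn pres.Grp := by
  rintro ⟨g, hg⟩
  apply not_conj_cube g
  rw [← MulAut.conj_apply, hg, tau_apply, tauHom_x]

theorem cent_t {g : pres.Grp} (hg : Commute (el tW) g) : ∃ j < 128, g = el (candW.getD j []) := by
  obtain ⟨hl, -, hcl, hsl, hs0, hscom, hbase⟩ := t_facts
  have hcS : Commute (el tW) (el cS) := by
    have h := eqW_spec hscom
    rw [el_append, el_append] at h
    exact h.symm
  -- elements fixing the base point
  have main : ∀ g : pres.Grp, Commute (el tW) g → rep.hom g rep.z = rep.z → ∃ h ∈ centW, g = el h := by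
    intro g hg hz
    let p : Fin rep.P.n := ⟨1601, by decide⟩
    let r : Fin rep.P.n := ⟨56, by decide⟩
    have hq := scanT_all (show ((rep.hom g p : Fin rep.P.n) : ℕ) < 2058 from (rep.hom g p).2)
    have hr := scanT_all (show ((rep.hom g r : Fin rep.P.n) : ℕ) < 2058 from (rep.hom g r).2)
    simp only [scanT, Bool.and_eq_true, Bool.or_eq_true, Bool.not_eq_true'] at hq hr
    have s1 : sigEq tW 4 (rep.hom g p : Fin rep.P.n) 1601 = true := sig_transfer hl hg hz 4 p
    have s2 : sigEq tW 4 (rep.hom g r : Fin rep.P.n) 56 = true := sig_transfer hl hg hz 4 r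
    have hmem : ((rep.hom g p : Fin rep.P.n) : ℕ) ∈ secondPts := by
      rcases hq.1.2 with h | h
      · rw [s1] at h; cases h
      · exact List.contains_iff_mem.mp h
    have hm : matchT (rep.hom g p : Fin rep.P.n) (rep.hom g r : Fin rep.P.n) = true := by
      rcases hr.2 with h | h
      · rw [s2] at h; cases h
      · exact List.all_eq_true.mp h _ hmem
    simp only [matchT, Bool.or_eq_true, Bool.not_eq_true'] at hm
    rcases hm with hm | hm
    · exfalso
      have : ((List.range 4).all fun i => Nat.beq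
          (relOf (powPt tW i (rep.hom g p : Fin rep.P.n)) (rep.hom g r : Fin rep.P.n))
          (relOf (powPt tW i 1601) 56)) = true := by
        rw [List.all_eq_true]
        intro i _
        rw [← powPt_apply hl, show powPt tW i 1601 = ((rep.hom (el tW ^ i) p : Fin rep.P.n) : ℕ) from
          (powPt_apply hl i p).symm]
        refine Nat.beq_eq.mpr (rel_inv g (q := r) (path_all _) (path_all _) ?_ rfl)
        rw [← Equiv.Perm.mul_apply, ← map_mul, ← (hg.pow_left i).eq, map_mul, Equiv.Perm.mul_apply]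
      rw [this] at hm
      cases hm
    · obtain ⟨h, hh, he⟩ := List.any_eq_true.mp hm
      simp only [Bool.and_eq_true] at he
      obtain ⟨h0, hcomW⟩ := cent_fix h hh
      have hlh : lettersOK 7 [h] = true := by
        simpa [lettersOK] using List.all_eq_true.mp hcl h hh
      have hcomh : Commute (el tW) (el h) := by
        have e := eqW_spec hcomW
        rw [el_append, el_append] at e
        exact e.symm
      refine ⟨h, hh, (inv_mul_eq_one.mp (chain_fix chainT_ok chainT_size (g := (el h)⁻¹ * g) ?_)).symm⟩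
      have hd : Commute (el tW) ((el h)⁻¹ * g) := hcomh.inv_right.mul_right hg
      have fz : rep.hom ((el h)⁻¹ * g) rep.z = rep.z := by
        rw [map_mul, Equiv.Perm.mul_apply, hz, map_inv, Equiv.Perm.inv_eq_iff_eq]
        have e : rep.hom (el h) rep.z = rep.z := Fin.ext ((el_apply hlh rep.z).trans h0)
        exact e.symm
      have fp : rep.hom ((el h)⁻¹ * g) p = p := by
        rw [map_mul, Equiv.Perm.mul_apply, map_inv, Equiv.Perm.inv_eq_iff_eq]
        exact Fin.ext ((Nat.eq_of_beq_eq_true he.1).symm.trans (el_apply hlh p).symm)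
      have fr : rep.hom ((el h)⁻¹ * g) r = r := by
        rw [map_mul, Equiv.Perm.mul_apply, map_inv, Equiv.Perm.inv_eq_iff_eq]
        exact Fin.ext ((Nat.eq_of_beq_eq_true he.2).symm.trans (el_apply hlh r).symm)
      intro O hO u hu
      rcases hbase O hO with e | ⟨i, -, e | e⟩
      · rw [show u = rep.z from Fin.ext (hu.trans e)]; exact fz
      · rw [show u = rep.hom (el tW ^ i) p from Fin.ext (by rw [hu, powPt_apply hl]; exact e.symm)]
        exact fix_pow hd fp i
      · rw [show u = rep.hom (el tW ^ i) r from Fin.ext (by rw [hu, powPt_apply hl]; exact e.symm)]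
        exact fix_pow hd fr i
  have hfixed : rep.hom g rep.z = rep.z ∨ rep.hom g rep.z = rep.hom (el cS) rep.z := by
    have hzt : ev RepS44.rows 7 tW 0 = 0 := by decide +kernel
    have h1 : rep.hom (el tW) (rep.hom g rep.z) = rep.hom g rep.z := by
      rw [← Equiv.Perm.mul_apply, ← map_mul, hg.eq, map_mul, Equiv.Perm.mul_apply,
        show rep.hom (el tW) rep.z = rep.z from Fin.ext ((el_apply hl rep.z).trans hzt)]
    have h2 := congrArg (fun v : Fin rep.P.n => (v : ℕ)) h1
    simp only [el_apply hl] at h2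
    generalize rep.hom g rep.z = v at h2 ⊢
    have h := scanT_all (show (v : ℕ) < 2058 from v.2)
    simp only [scanT, Bool.and_eq_true, Bool.or_eq_true, Bool.not_eq_true'] at h
    rcases h.1.1 with (h | h) | h
    · exact Or.inl (Fin.ext (Nat.eq_of_beq_eq_true h))
    · exact Or.inr (Fin.ext ((Nat.eq_of_beq_eq_true h).trans (((el_apply hsl rep.z).trans hs0).symm)))
    · exact absurd (Nat.beq_eq.mpr h2) (by simp [h])
  have hget : ∀ a ∈ candW, g = el a → ∃ j < 128, g = el (candW.getD j []) := by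
    intro a ha e
    obtain ⟨j, hj, rfl⟩ := List.mem_iff_getElem.mp ha
    exact ⟨j, cand_length ▸ hj, by rw [List.getD_eq_getElem _ _ hj]; exact e⟩
  rcases hfixed with h | h
  · obtain ⟨a, ha, e⟩ := main g hg h
    exact hget a (List.mem_append_left _ ha) e
  · obtain ⟨a, ha, e⟩ := main ((el cS)⁻¹ * g) (hcS.inv_right.mul_right hg) (by
      rw [map_mul, Equiv.Perm.mul_apply, h, map_inv, Equiv.Perm.inv_def, Equiv.symm_apply_apply])
    refine hget (cS ++ a) (List.mem_append_right _ (List.mem_map.mpr ⟨a, ha, rfl⟩)) ?_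
    rw [el_append, ← e, mul_inv_cancel_left]

theorem wit_elim {k idx : ℕ} {wit : List ℕ} (hwit : ∀ j < 128, witOK k wit idx j = true)
    (f : pres.Grp →* pres.Grp) (hx : f xEl = xEl ^ k) {j : ℕ} (hj : j < 128)
    (hw : f wEl = el (candW.getD j [])) : j = idx := by
  have h := hwit j hj
  simp only [witOK, Bool.or_eq_true, Bool.and_eq_true] at h
  rcases h with h | ⟨hlt, hb⟩
  · exact Nat.eq_of_beq_eq_true h
  · exfalso
    have hlt' : wit.getD j 0 < tests.length := Nat.le_of_ble_eq_true hlt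
    have hmem : tests.getD (wit.getD j 0) ([], 0) ∈ tests := by
      rw [List.getD_eq_getElem _ _ hlt']; exact List.getElem_mem hlt'
    have h1 := eqW_spec (tests_hold _ hmem)
    rw [el_powW, el_subst, pow_one, ← wEl, el_nil] at h1
    have h2 := movesW_spec hb
    rw [el_powW, el_subst, ← hw, ← hx, ← map_valP, ← map_pow, h1, map_one] at h2
    exact h2 rfl

theorem classify (φ : MulAut pres.Grp) :
    ∃ χ ∈ Cfsg.Inn pres.Grp, χ * φ = 1 ∨ χ * φ = tau := by
  haveI := order.1
  haveI : Fact (Nat.Prime 17) := ⟨by norm_num⟩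
  have hfac : Nat.card (Subgroup.zpowers xEl) = 17 ^ (Nat.card pres.Grp).factorization 17 := by
    rw [Nat.card_zpowers, x_order, order.2.1,
      show (4030387200 : ℕ).factorization 17 = 1 by
        rw [show (4030387200 : ℕ) = 17 * 237081600 by norm_num,
          Nat.factorization_mul (by norm_num) (by norm_num), Finsupp.add_apply,
          Nat.Prime.factorization_self (by norm_num), Nat.factorization_eq_zero_of_not_dvd (by norm_num)],
      pow_one]
  let P : Sylow 17 pres.Grp := Sylow.ofCard (Subgroup.zpowers xEl) hfac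
  let Q : Sylow 17 pres.Grp := Sylow.ofCard (Subgroup.zpowers (φ xEl))
    (by rw [← hfac, Nat.card_zpowers, Nat.card_zpowers, MulEquiv.orderOf_eq])
  obtain ⟨g, hg⟩ := MulAction.exists_smul_eq pres.Grp Q P
  have hmem : g * φ xEl * g⁻¹ ∈ Subgroup.zpowers xEl := by
    have h : MulAut.conj g (φ xEl) ∈ ((g • Q : Sylow 17 pres.Grp) : Subgroup pres.Grp) := by
      rw [Sylow.coe_subgroup_smul]
      exact Subgroup.smul_mem_pointwise_smul _ _ _ (Subgroup.mem_zpowers (φ xEl))
    rw [hg, MulAut.conj_apply] at h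
    exact h
  obtain ⟨k, hk⟩ := ((isOfFinOrder_of_finite xEl).mem_powers_iff_mem_zpowers).mpr hmem
  have hk' : xEl ^ (k % 17) = g * φ xEl * g⁻¹ := (x_pow_mod k).trans hk
  have hk0 : k % 17 ≠ 0 := by
    intro e
    rw [e, pow_zero] at hk'
    have h1 : φ xEl = 1 := by
      calc φ xEl = g⁻¹ * (g * φ xEl * g⁻¹) * g := by group
        _ = 1 := by rw [← hk']; group
    have h2 := x_order
    rw [show xEl = 1 from φ.injective (h1.trans (map_one φ).symm), orderOf_one] at h2
    omega
  obtain ⟨j, -, hj⟩ := small_arith.1 _ (Nat.mod_lt _ (by norm_num)) hk0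
  set k' := k % 17 * 2 ^ j % 17 with hk'def
  let f1 : MulAut pres.Grp := MulAut.conj (zEl ^ j * g) * φ
  have hf1 : f1 xEl = xEl ^ k' := by
    show MulAut.conj (zEl ^ j * g) (φ xEl) = _
    rw [MulAut.conj_apply, hk'def, x_pow_mod, mul_comm, pow_mul, ← pow_conj x_conj j, conj_pow, hk']
    group
  obtain ⟨m, hm⟩ : ∃ m, k' * m % 17 = 1 := by
    rcases hj with h | h
    · exact ⟨1, by rw [show k' = 1 from h]⟩
    · exact ⟨6, by rw [show k' = 3 from h]⟩
  have hz1 : f1 zEl * xEl * (f1 zEl)⁻¹ = xEl ^ 2 := by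
    have h : f1 zEl * xEl ^ k' * (f1 zEl)⁻¹ = (xEl ^ k') ^ 2 := by
      rw [← hf1, ← map_inv, ← map_mul, ← map_mul, x_conj, map_pow]
    have e : xEl = (xEl ^ k') ^ m := by rw [← pow_mul, ← x_pow_mod, hm, pow_one]
    calc f1 zEl * xEl * (f1 zEl)⁻¹ = (f1 zEl * xEl ^ k' * (f1 zEl)⁻¹) ^ m := by
          rw [conj_pow, ← e]
      _ = xEl ^ 2 := by rw [h, pow_right_comm, ← e]
  have hc : Commute xEl (zEl⁻¹ * f1 zEl) := by
    show xEl * (zEl⁻¹ * f1 zEl) = zEl⁻¹ * f1 zEl * xEl
    calc xEl * (zEl⁻¹ * f1 zEl) = zEl⁻¹ * (zEl * xEl * zEl⁻¹) * f1 zEl := by group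
      _ = zEl⁻¹ * (f1 zEl * xEl * (f1 zEl)⁻¹) * f1 zEl := by rw [x_conj, hz1]
      _ = zEl⁻¹ * f1 zEl * xEl := by group
  obtain ⟨i, hi⟩ := cent_x hc
  have hzi : f1 zEl = zEl * xEl ^ i := by rw [← hi]; group
  let f : MulAut pres.Grp := MulAut.conj (xEl ^ (2 * i)) * f1
  have hfx : f xEl = xEl ^ k' := by
    show MulAut.conj (xEl ^ (2 * i)) (f1 xEl) = _
    rw [hf1, MulAut.conj_apply, (Commute.pow_pow_self xEl (2 * i) k').eq, mul_inv_cancel_right]
  have hfz : f zEl = zEl := by
    show MulAut.conj (xEl ^ (2 * i)) (f1 zEl) = _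
    have e : xEl ^ (2 * i) * zEl = zEl * xEl ^ i := by
      rw [pow_mul, ← x_conj, conj_pow, inv_mul_cancel_right]
    rw [hzi, MulAut.conj_apply, ← mul_assoc (xEl ^ (2 * i)), e, mul_assoc zEl, ← pow_add, two_mul,
      mul_inv_cancel_right]
  have hft : f (el tW) = el tW := by
    rw [eqW_spec t_facts.2.1, el_append, ← zEl, map_mul, hfz]
  have hwt : Commute (el tW) (f wEl) := by
    have h := eqW_spec w_comm
    rw [el_append, el_append] at h
    show el tW * f wEl = f wEl * el tW
    rw [← hft, ← map_mul, ← map_mul, show el tW * wEl = wEl * el tW from h.symm]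
  obtain ⟨c, hc128, hcw⟩ := cent_t hwt
  refine ⟨MulAut.conj (xEl ^ (2 * i) * (zEl ^ j * g)), ⟨_, rfl⟩, ?_⟩
  have hcomp : MulAut.conj (xEl ^ (2 * i) * (zEl ^ j * g)) * φ = f := by
    rw [map_mul MulAut.conj, mul_assoc]
  rw [hcomp]
  rcases hj with h | h
  · left
    rw [show k' = 1 from h] at hfx
    have hci := wit_elim wit_one f.toMonoidHom hfx hc128 hcw
    rw [hci, eqW_spec w_at, ← wEl] at hcw
    exact MulEquiv.toMonoidHom_injective (ext_gens (f := f.toMonoidHom) (g := MonoidHom.id _)
      (hfx.trans (pow_one xEl)) hcw)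
  · right
    rw [show k' = 3 from h] at hfx
    have hci := wit_elim wit_three f.toMonoidHom hfx hc128 hcw
    rw [hci] at hcw
    refine MulEquiv.toMonoidHom_injective (ext_gens (f := f.toMonoidHom) (g := tau.toMonoidHom) ?_ ?_)
    · exact hfx.trans tauHom_x.symm
    · refine hcw.trans ?_
      show _ = tauHom (el wW)
      rw [tauHom_el, eqW_spec tau_w]

theorem card_out : Nat.card (Cfsg.Out pres.Grp) = 2 := by
  let mk := QuotientGroup.mk' (Cfsg.Inn pres.Grp)
  have hne : mk tau ≠ 1 := fun e => tau_not_inner ((QuotientGroup.eq_one_iff _).mp e)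
  refine Nat.card_eq_two_iff.mpr ⟨1, mk tau, hne.symm, Set.eq_univ_iff_forall.mpr fun q => ?_⟩
  obtain ⟨φ, rfl⟩ := QuotientGroup.mk'_surjective (Cfsg.Inn pres.Grp) q
  obtain ⟨χ, hχ, h⟩ := classify φ
  have e : mk χ = 1 := (QuotientGroup.eq_one_iff _).mpr hχ
  rcases h with h | h
  · left
    show mk φ = 1
    rw [show mk φ = mk (χ * φ) by rw [map_mul, e, one_mul], h, map_one]
  · right
    show mk φ = mk tau
    rw [← h, map_mul, e, one_mul]

end Cfsg.Agent.Spor.HeCert.Outer
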