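import Cfsg.Agent.Lib.Spor.HeMain
import Cfsg.Agent.Lib.Spor.HeOutData
import Cfsg.Agent.Lib.Spor.ChainMem
import Cfsg.Agent.Lib.Spor.PermBig

/-!
Words, points and suborbit labels of He.
-/

set_option autoImplicit false
set_option maxRecDepth 100000

namespace Cfsg.Agent.Spor.HeCert.Outer

open Cfsg.Agent.Spor.CC

/-- the element given by a word -/
noncomputable def el (l : List ℕ) : pres.Grp := (l.map pres.gen).prod

theorem el_append (a b : List ℕ) : el (a ++ b) = el a * el b := by
  simp [el, List.map_append, List.prod_append]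

theorem el_nil : el [] = 1 := rfl

theorem el_single (x : ℕ) : el [x] = pres.gen x := by simp [el]

theorem el_reverse (a : List ℕ) : el a.reverse = (el a)⁻¹ := by
  induction a with
  | nil => simp [el]
  | cons x l ih =>
    rw [List.reverse_cons, el_append, ih, show x :: l = [x] ++ l from rfl, el_append, mul_inv_rev, el_single,
      inv_eq_of_mul_eq_one_left (Pres.gen_sq pres_ok x)]

theorem el_powW (n : ℕ) (a : List ℕ) : el (powW n a) = el a ^ n := prod_powW _ n a

theorem el_apply {a : List ℕ} (ha : lettersOK 7 [a] = true) (u : Fin rep.P.n) :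
    ((rep.hom (el a) u : Fin rep.P.n) : ℕ) = ev RepS44.rows 7 a u :=
  ev_eq rep.valid pres.gen rep.hom rep.hom_gen
    (fun _ hx => lettersOK_spec ha (List.mem_singleton_self _) hx) u

theorem letters_rev {a : List ℕ} (ha : lettersOK 7 [a] = true) : lettersOK 7 [a.reverse] = true := by
  simpa [lettersOK] using ha

theorem letters_append {a b : List ℕ} (ha : lettersOK 7 [a] = true) (hb : lettersOK 7 [b] = true) :
    lettersOK 7 [a ++ b] = true := by
  simp only [lettersOK, List.all_cons, List.all_nil, Bool.and_true, List.all_append, Bool.and_eq_true] at *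
  exact ⟨ha, hb⟩

/-- base of the faithful action -/
def baseP : List ℕ := [0, 1, 15, 34]

theorem baseP_eq : RepS44.levels.map Orb.b = baseP := rfl

/-- a word acts as one -/
noncomputable def oneW (a : List ℕ) : Bool :=
  lettersOK 7 [a] && fixOK RepS44.rows 7 [a] baseP

theorem oneW_spec {a : List ℕ} (h : oneW a = true) : el a = 1 := by
  haveI := order.1
  obtain ⟨hl, hf⟩ := Bool.and_eq_true_iff.mp h
  exact eq_one_of_fix rep.valid pres.gen rep.hom rep.hom_gen RepS44.chain_ok
    (by rw [order.2.1, RepS44.chain_size]) (fun _ hx => lettersOK_spec hl (List.mem_singleton_self _) hx) hf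

/-- two words are equal in the group -/
noncomputable def eqW (a b : List ℕ) : Bool := oneW (a ++ b.reverse)

theorem eqW_spec {a b : List ℕ} (h : eqW a b = true) : el a = el b := by
  have := oneW_spec h
  rw [el_append, el_reverse] at this
  exact mul_inv_eq_one.mp this

/-- a word moves a base point -/
noncomputable def movesW (a : List ℕ) : Bool :=
  lettersOK 7 [a] && baseP.any fun u => !(Nat.beq (ev RepS44.rows 7 a u) u)

theorem movesW_spec {a : List ℕ} (h : movesW a = true) : el a ≠ 1 := by
  intro e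
  obtain ⟨hl, hm⟩ := Bool.and_eq_true_iff.mp h
  obtain ⟨u, hu, hne⟩ := List.any_eq_true.mp hm
  have hlt : ∀ u ∈ baseP, u < 2058 := by decide
  have h' := el_apply hl ⟨u, hlt u hu⟩
  rw [e, map_one, Equiv.Perm.one_apply] at h'
  have h2 : Nat.beq (ev RepS44.rows 7 a u) u = true := Nat.beq_eq.mpr h'.symm
  rw [h2] at hne
  cases hne

/-- iterated image -/
noncomputable def powPt (a : List ℕ) (k q : ℕ) : ℕ :=
  Nat.rec (motive := fun _ => ℕ) q (fun _ r => ev RepS44.rows 7 a r) k

theorem powPt_apply {a : List ℕ} (ha : lettersOK 7 [a] = true) (k : ℕ) (u : Fin rep.P.n) :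
    ((rep.hom (el a ^ k) u : Fin rep.P.n) : ℕ) = powPt a k u := by
  induction k with
  | zero => rw [pow_zero, map_one, Equiv.Perm.one_apply]; rfl
  | succ k ih =>
    rw [pow_succ', map_mul, Equiv.Perm.mul_apply, el_apply ha, ih]
    rfl

/-- conjugator to a point, read off the tree of the orbit of everything -/
noncomputable def pathW (fuel : ℕ) : ℕ → List ℕ :=
  Nat.rec (motive := fun _ => ℕ → List ℕ) (fun _ => [])
    (fun _ ih j => bif Nat.beq j 0 then [] else
      RepS44.allOrb.ws.getD (Nat.shiftRight (fld RepS44.allOrb.tree 24 (Nat.sub j 1)) 16) [] ++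
        ih (Nat.land (fld RepS44.allOrb.tree 24 (Nat.sub j 1)) 65535)) fuel

/-- a word moving the base point to the given point -/
noncomputable def pathTo (q : ℕ) : List ℕ := pathW 20 (fld RepS44.allOrb.posn 16 q)

/-- that word is as wanted -/
noncomputable def pathOK (q : ℕ) : Bool :=
  lettersOK 7 [pathTo q] && Nat.beq (ev RepS44.rows 7 (pathTo q) 0) q

/-- suborbit of a point -/
noncomputable def labOf (q : ℕ) : ℕ := fld RepS44.labels 4 q

/-- suborbit of the second point seen from the first -/
noncomputable def relOf (p q : ℕ) : ℕ := labOf (ev RepS44.rows 7 (pathTo p).reverse q)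

theorem lab_step {w : List ℕ} (hw : w ∈ IdxS44.subW) (u : Fin rep.P.n) :
    labOf (rep.hom (el w) u : Fin rep.P.n) = labOf u := by
  have hpart := RepS44.part_ok
  simp only [partOK, Bool.and_eq_true, List.all_eq_true, List.mem_range] at hpart
  obtain ⟨horbs, hcov⟩ := hpart
  have hclosed : ∀ O ∈ RepS44.subs, closedOK rep.P.T 7 O = true ∧ lettersOK 7 O.ws = true := by
    intro O hO
    simp only [RepS44.subs, List.mem_cons, List.not_mem_nil, or_false] at hO
    rcases hO with rfl | rfl | rfl | rfl | rfl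
    · exact ⟨RepS44.sub0_closed, RepS44.sub0_letters⟩
    · exact ⟨RepS44.sub1_closed, RepS44.sub1_letters⟩
    · exact ⟨RepS44.sub2_closed, RepS44.sub2_letters⟩
    · exact ⟨RepS44.sub3_closed, RepS44.sub3_letters⟩
    · exact ⟨RepS44.sub4_closed, RepS44.sub4_letters⟩
  have hu := hcov u u.2
  obtain ⟨O, hOi⟩ : ∃ O, RepS44.subs[fld RepS44.labels 4 (u : ℕ)]? = some O := by
    cases hc : RepS44.subs[fld RepS44.labels 4 (u : ℕ)]? with
    | none => rw [hc] at hu; cases hu
    | some O => exact ⟨O, rfl⟩
  have hlt : fld RepS44.labels 4 (u : ℕ) < RepS44.subs.length := (List.getElem?_eq_some_iff.mp hOi).1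
  have hmem : O ∈ RepS44.subs := List.mem_of_getElem? hOi
  obtain ⟨hcl, hl⟩ := hclosed O hmem
  rw [hOi] at hu
  simp only [Bool.and_eq_true] at hu
  have hh := horbs _ hlt
  simp only [hOi, Bool.and_eq_true, List.all_eq_true, List.mem_range] at hh
  obtain ⟨-, hlbl⟩ := hh
  have hw' : w ∈ O.ws := by rw [subs_ws O hmem]; exact hw
  have := List.all_eq_true.mp (List.all_eq_true.mp hcl _
    (List.mem_range.mpr (Nat.le_of_ble_eq_true hu.1))) w hw'
  simp only [Bool.and_eq_true] at this
  rw [el, ev_eq rep.valid pres.gen rep.hom rep.hom_gen (fun _ hx => lettersOK_spec hl hw' hx)]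
  have e := Nat.eq_of_beq_eq_true (hlbl _ (Nat.le_of_ble_eq_true this.1))
  rw [Nat.eq_of_beq_eq_true this.2] at e
  have hp := Nat.eq_of_beq_eq_true hu.2
  rw [hp] at e
  exact e

/-- the stabiliser keeps every suborbit -/
theorem lab_stab {g : pres.Grp} (hg : rep.hom g rep.z = rep.z) (u : Fin rep.P.n) :
    labOf (rep.hom g u : Fin rep.P.n) = labOf u := by
  haveI := order.1
  have h : g ∈ pres.wsub IdxS44.subW := stab_eq.1 ▸ mem_stab.mpr hg
  clear hg
  rw [Pres.wsub, ← Subgroup.mem_toSubmonoid, Subgroup.closure_toSubmonoid_of_finite] at h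
  induction h using Submonoid.closure_induction generalizing u with
  | mem t ht =>
    obtain ⟨w, hw, rfl⟩ := ht
    exact lab_step hw u
  | one => rw [map_one, Equiv.Perm.one_apply]
  | mul a b _ _ ha hb => rw [map_mul, Equiv.Perm.mul_apply, ha, hb]

theorem rel_eq {p : Fin rep.P.n} (hp : pathOK p = true) (q : Fin rep.P.n) :
    relOf p q = labOf (rep.hom (el (pathTo p))⁻¹ q : Fin rep.P.n) := by
  obtain ⟨hl, -⟩ := Bool.and_eq_true_iff.mp hp
  rw [relOf, ← el_reverse, el_apply (letters_rev hl)]

theorem path_apply {p : Fin rep.P.n} (hp : pathOK p = true) : rep.hom (el (pathTo p)) rep.z = p := by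
  obtain ⟨hl, he⟩ := Bool.and_eq_true_iff.mp hp
  exact Fin.ext ((el_apply hl rep.z).trans (Nat.eq_of_beq_eq_true he))

/-- suborbits seen from points are kept by the group -/
theorem rel_inv (g : pres.Grp) {p p' q q' : Fin rep.P.n} (hp : pathOK p = true) (hp' : pathOK p' = true)
    (hgp : rep.hom g p = p') (hgq : rep.hom g q = q') : relOf p' q' = relOf p q := by
  rw [rel_eq hp, rel_eq hp']
  have hz : rep.hom ((el (pathTo p'))⁻¹ * g * el (pathTo p)) rep.z = rep.z := by
    rw [map_mul, map_mul, Equiv.Perm.mul_apply, Equiv.Perm.mul_apply, path_apply hp, hgp, map_inv,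
      Equiv.Perm.inv_eq_iff_eq, path_apply hp']
  rw [← lab_stab hz (rep.hom (el (pathTo p))⁻¹ q)]
  rw [← Equiv.Perm.mul_apply, ← map_mul, mul_inv_cancel_right, map_mul, Equiv.Perm.mul_apply, hgq]

end Cfsg.Agent.Spor.HeCert.Outer
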