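import Cfsg.Agent.Lib.Spor.HeOutPoints

/-!
Signatures of points relative to two elements of He.
-/

set_option autoImplicit false
set_option maxRecDepth 100000

namespace Cfsg.Agent.Spor.HeCert.Outer

open Cfsg.Agent.Spor.CC

/-- same suborbits along the cycle under a word as the given point -/
noncomputable def sigEq (a : List ℕ) (n q b : ℕ) : Bool :=
  Nat.beq (labOf q) (labOf b) &&
    (List.range n).all fun i => Nat.beq (relOf q (powPt a i q)) (relOf b (powPt a i b))

/-- only one fixed point and one matching cycle -/
noncomputable def scanX (q : ℕ) : Bool :=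
  pathOK q && (Nat.beq q 0 || !(Nat.beq (ev RepS44.rows 7 xW q) q)) &&
    (!(sigEq xW 17 q 1) || (List.range 17).any fun i => Nat.beq (powPt xW i 1) q)

/-- images of the second reference point -/
def secondPts : List ℕ := [167, 545, 607, 840, 916, 1110, 1312, 1601]

/-- the third point is matched by a word in the list -/
noncomputable def matchT (q r : ℕ) : Bool :=
  !((List.range 4).all fun i => Nat.beq (relOf (powPt tW i q) r) (relOf (powPt tW i 1601) 56)) ||
    centW.any fun h => Nat.beq (ev RepS44.rows 7 h 1601) q && Nat.beq (ev RepS44.rows 7 h 56) r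

/-- two fixed points and the matched images of the reference points -/
noncomputable def scanT (q : ℕ) : Bool :=
  (Nat.beq q 0 || Nat.beq q 456 || !(Nat.beq (ev RepS44.rows 7 tW q) q)) &&
    (!(sigEq tW 4 q 1601) || secondPts.contains q) &&
    (!(sigEq tW 4 q 56) || secondPts.all fun p => matchT p q)

end Cfsg.Agent.Spor.HeCert.Outer
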