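import Cfsg.Agent.Lib.Spor.HeRepS44Data

/-!
Checks for table `RepS44` of He.
-/

set_option autoImplicit false
set_option maxRecDepth 100000

namespace Cfsg.Agent.Spor.HeCert.RepS44

open Cfsg.Agent.Spor.CC

theorem inv0 : invOK rows 7 2058 0 697 = true := by decide +kernel

theorem loop0 : loopOK rows 7 Cfsg.Agent.Spor.HeCert.pres.relW 0 697 = true :=
  relW_eq ▸ loop_of (fun u => rel_eq u) (by decide +kernel : rangeOK relAll 0 697 = true)

theorem loopMore0 : loopOK rows 7 more 0 697 = true :=
  extraRelW_eq ▸ loop_of (fun u => extraRel_eq u) (by decide +kernel : rangeOK extraRelAll 0 697 = true)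

theorem inv1 : invOK rows 7 2058 697 697 = true := by decide +kernel

theorem loop1 : loopOK rows 7 Cfsg.Agent.Spor.HeCert.pres.relW 697 697 = true :=
  relW_eq ▸ loop_of (fun u => rel_eq u) (by decide +kernel : rangeOK relAll 697 697 = true)

theorem loopMore1 : loopOK rows 7 more 697 697 = true :=
  extraRelW_eq ▸ loop_of (fun u => extraRel_eq u) (by decide +kernel : rangeOK extraRelAll 697 697 = true)

theorem inv2 : invOK rows 7 2058 1394 664 = true := by decide +kernel

theorem loop2 : loopOK rows 7 Cfsg.Agent.Spor.HeCert.pres.relW 1394 664 = true :=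
  relW_eq ▸ loop_of (fun u => rel_eq u) (by decide +kernel : rangeOK relAll 1394 664 = true)

theorem loopMore2 : loopOK rows 7 more 1394 664 = true :=
  extraRelW_eq ▸ loop_of (fun u => extraRel_eq u) (by decide +kernel : rangeOK extraRelAll 1394 664 = true)

end Cfsg.Agent.Spor.HeCert.RepS44
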