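import Cfsg.Agent.Lib.Spor.HeSp4
import Cfsg.Prelude.Def_Spor_He

/-!
A group isomorphic to He contains the symplectic group of dimension 4 over four elements extended by two.
-/

set_option autoImplicit false

namespace Cfsg.Agent.Spor.HeCert.Sp4Blocks

theorem exists_sp4_two_of_isoHe {G : Type*} [Group G] (h : Cfsg.Spor.IsoHe G) :
    ∃ (H : Subgroup G) (N : Subgroup H) (K : Type) (_ : Field K) (_ : Fintype K),
      N.Normal ∧ N.index = 2 ∧ Fintype.card K = 4 ∧ Nonempty (N ≃* Matrix.symplecticGroup (Fin 2) K) := by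
  obtain ⟨e⟩ := h
  let e' : pres.Grp ≃* G := e.symm
  let j : Hsub ≃* Hsub.map e'.toMonoidHom := Hsub.equivMapOfInjective e'.toMonoidHom e'.injective
  obtain ⟨E⟩ := sympPart_equiv
  refine ⟨Hsub.map e'.toMonoidHom, sympPart.map j.toMonoidHom, SpFour.F4, inferInstance, inferInstance, ?_, ?_,
    SpFour.F4.card, ⟨(sympPart.equivMapOfInjective j.toMonoidHom j.injective).symm.trans E⟩⟩
  · exact sympPart_normal.map _ j.surjective
  · rw [Subgroup.index_map_of_bijective j.bijective, sympPart_index]

end Cfsg.Agent.Spor.HeCert.Sp4Blocks
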