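import Cfsg.Agent.Lib.Spor.WedgeFiveChecks
import Mathlib

/-!
A group acting faithfully and additively on the exterior square of a binary space of dimension five and keeping
the decomposable members is the special linear group, as soon as it is at least as large.
-/

set_option autoImplicit false
set_option maxRecDepth 100000

namespace Cfsg.Agent.Spor.Wedge5

open Chk

theorem bt_testBit (m j : ℕ) : bt m j = m.testBit j := by
  show Nat.beq ((m >>> j) &&& 1) 1 = _
  rw [Nat.and_comm, Nat.testBit]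
  rcases (by omega : 1 &&& m >>> j = 0 ∨ 1 &&& m >>> j = 1 ∨ 2 ≤ 1 &&& m >>> j) with e | e | e
  · rw [e]; rfl
  · rw [e]; rfl
  · exact absurd (Nat.and_le_left : 1 &&& m >>> j ≤ 1) (by omega)

theorem foldl_bits {α : Type*} (g : α → ℕ) (P : α → Bool) : ∀ (L : List α) (m n : ℕ),
    (L.foldl (fun m a => bif P a then Nat.lor m (Nat.shiftLeft 1 (g a)) else m) m).testBit n = true ↔
      m.testBit n = true ∨ ∃ a ∈ L, P a = true ∧ g a = n
  | [], m, n => by simp
  | a :: L, m, n => by
    rw [List.foldl_cons, foldl_bits g P L]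
    cases h : P a
    · simp [h]
    · rw [cond_true]
      show ((m ||| 1 <<< g a).testBit n = true ∨ _) ↔ _
      rw [Nat.testBit_or, Nat.one_shiftLeft, Nat.testBit_two_pow, Bool.or_eq_true, decide_eq_true_iff, or_assoc]
      simp [h]

/-- membership in a table -/
def InSt (p c : ℕ) : Prop := (starM p).testBit c = true

theorem inSt_iff {p : ℕ} (hp : p < 32) (hp0 : p ≠ 0) (c : ℕ) :
    InSt p c ↔ ∃ q < 32, q ≠ 0 ∧ q ≠ p ∧ wg p q = c := by
  have h := List.all_eq_true.1 star_ok p (List.mem_range.2 hp)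
  rw [starOK, Bool.or_eq_true] at h
  rcases h with h | h
  · exact absurd (Nat.eq_of_beq_eq_true h) hp0
  rw [InSt, Nat.eq_of_beq_eq_true h]
  have e : (fun m q => bif Nat.beq q 0 || Nat.beq q p then m else Nat.lor m (Nat.shiftLeft 1 (wg p q))) =
      fun m q => bif !(Nat.beq q 0 || Nat.beq q p) then Nat.lor m (Nat.shiftLeft 1 (wg p q)) else m := by
    funext m q
    cases Nat.beq q 0 || Nat.beq q p <;> rfl
  rw [e, foldl_bits]
  simp [List.mem_range, ← Bool.not_eq_true, and_assoc]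

theorem foldl_lor (g : ℕ → ℕ) : ∀ (L : List ℕ) (m n : ℕ),
    (L.foldl (fun m k => Nat.lor m (g k)) m).testBit n = true ↔
      m.testBit n = true ∨ ∃ k ∈ L, (g k).testBit n = true
  | [], m, n => by simp
  | a :: L, m, n => by
    rw [List.foldl_cons, foldl_lor g L]
    show ((m ||| g a).testBit n = true ∨ _) ↔ _
    rw [Nat.testBit_or, Bool.or_eq_true, or_assoc]
    simp

theorem isD_iff (c : ℕ) : isD c = true ↔ ∃ p < 32, InSt p c := by
  have h := dm_ok
  simp only [dmOK, Bool.and_eq_true] at h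
  rw [isD, bt_testBit, Nat.eq_of_beq_eq_true h.1.1, foldl_lor]
  simp [InSt, List.mem_range]

theorem isD_zero : isD 0 = false := by
  have h := dm_ok
  simp only [dmOK, Bool.and_eq_true, Bool.not_eq_true'] at h
  exact h.2

theorem isD_entry {c : ℕ} : isD c = true ↔ ∃ e ∈ Dat.nbL, e.1 = c := by
  have h := dm_ok
  simp only [dmOK, Bool.and_eq_true] at h
  rw [isD, bt_testBit, Nat.eq_of_beq_eq_true h.1.2]
  have key := foldl_bits (fun e : ℕ × ℕ => e.1) (fun _ => true) Dat.nbL 0 c
  simpa using key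

theorem nb_iff {e : ℕ × ℕ} (he : e ∈ Dat.nbL) (c : ℕ) :
    e.2.testBit c = true ↔ isD c = true ∧ (c = e.1 ∨ isD (c ^^^ e.1) = true) := by
  have h := nb_ok
  simp only [nbOK, List.all_eq_true] at h
  rw [Nat.eq_of_beq_eq_true (h e he), foldl_bits (fun d : ℕ × ℕ => d.1)
    (fun d : ℕ × ℕ => Nat.beq d.1 e.1 || isD (Nat.xor d.1 e.1))]
  simp only [Nat.zero_testBit, Bool.false_eq_true, false_or, Bool.or_eq_true]
  constructor
  · rintro ⟨d, hd, hP, rfl⟩
    exact ⟨isD_entry.2 ⟨d, hd, rfl⟩, hP.imp_left Nat.eq_of_beq_eq_true⟩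
  · rintro ⟨hc, hP⟩
    obtain ⟨d, hd, rfl⟩ := isD_entry.1 hc
    exact ⟨d, hd, hP.imp_left (fun e' => by rw [e']; exact Nat.beq_refl _), rfl⟩

theorem low_bit : ∀ m : ℕ, m ≠ 0 → ∃ j, ∀ v, m.testBit v = true → v = j ∨ (clr m).testBit v = true := by
  intro m
  induction m using Nat.strong_induction_on with
  | _ m ih =>
    intro hm
    show ∃ j, ∀ v, _ → v = j ∨ (m &&& (m - 1)).testBit v = true
    rcases Nat.mod_two_eq_zero_or_one m with h | h
    · obtain ⟨j, hj⟩ := ih (m / 2) (by omega) (by omega)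
      refine ⟨j + 1, fun v hv => ?_⟩
      rcases v with _ | v
      · rw [Nat.testBit_zero, h] at hv; simp at hv
      · rw [Nat.testBit_succ] at hv
        rcases hj v hv with e | e
        · exact Or.inl (by rw [e])
        · refine Or.inr ?_
          have e' : (m / 2 &&& (m / 2 - 1)).testBit v = true := e
          rw [Nat.testBit_and, Bool.and_eq_true] at e' ⊢
          rw [Nat.testBit_succ, Nat.testBit_succ, show (m - 1) / 2 = m / 2 - 1 by omega]
          exact e'
    · refine ⟨0, fun v hv => ?_⟩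
      rcases v with _ | v
      · exact Or.inl rfl
      · refine Or.inr ?_
        rw [Nat.testBit_and, Bool.and_eq_true, hv, Nat.testBit_succ, show (m - 1) / 2 = m / 2 by omega,
          ← Nat.testBit_succ, hv]
        exact ⟨rfl, rfl⟩

theorem clr_card {s : Finset ℕ} {m n : ℕ} (hs : ∀ v ∈ s, m.testBit v = true)
    (h : ∀ t : Finset ℕ, (∀ v ∈ t, (clr m).testBit v = true) → t.card ≤ n) : s.card ≤ n + 1 := by
  classical
  rcases eq_or_ne m 0 with rfl | hm
  · rw [Finset.card_eq_zero.2 (Finset.eq_empty_of_forall_notMem fun v hv => by simpa using hs v hv)]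
    omega
  obtain ⟨j, hj⟩ := low_bit m hm
  have h1 := h (s.erase j) fun v hv => (hj v (hs v (Finset.mem_of_mem_erase hv))).resolve_left
    (Finset.ne_of_mem_erase hv)
  have := Finset.pred_card_le_card_erase (s := s) (a := j)
  omega

theorem few8_card {m : ℕ} (h : few8 m = true) (s : Finset ℕ) (hs : ∀ v ∈ s, m.testBit v = true) : s.card ≤ 8 :=
  clr_card hs fun _ h1 => clr_card h1 fun _ h2 => clr_card h2 fun _ h3 => clr_card h3 fun _ h4 =>
    clr_card h4 fun _ h5 => clr_card h5 fun _ h6 => clr_card h6 fun _ h7 => clr_card (n := 0) h7 fun t ht => by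
      rw [Finset.card_eq_zero.2 (Finset.eq_empty_of_forall_notMem fun v hv => by
        have := ht v hv
        rw [Nat.eq_of_beq_eq_true h] at this
        simp at this)]

/-- fifteen pairwise compatible members lie on one vector -/
theorem clique {s : Finset ℕ} (hc : 15 ≤ s.card) (hD : ∀ c ∈ s, isD c = true)
    (hp : ∀ c ∈ s, ∀ d ∈ s, c ≠ d → isD (c ^^^ d) = true) : ∃ p < 32, ∀ c ∈ s, InSt p c := by
  classical
  obtain ⟨a, ha, b, hb, hab⟩ := Finset.one_lt_card.1 (by omega : 1 < s.card)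
  wlog h : a < b generalizing a b
  · exact this b hb a ha (Ne.symm hab) (by omega)
  obtain ⟨c, hcs⟩ : ∃ c ∈ s, c ≠ a ∧ c ≠ b ∧ c ≠ a ^^^ b := by
    by_contra hne
    push Not at hne
    have h3 : s ⊆ {a, b, a ^^^ b} := fun d hd => by
      simp only [Finset.mem_insert, Finset.mem_singleton]
      by_cases e1 : d = a
      · exact Or.inl e1
      by_cases e2 : d = b
      · exact Or.inr (Or.inl e2)
      exact Or.inr (Or.inr (hne d hd e1 e2))
    have := (Finset.card_le_card h3).trans Finset.card_le_three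
    omega
  obtain ⟨hcs, hca, hcb, hcab⟩ := hcs
  obtain ⟨ea, hea, rfl⟩ := isD_entry.1 (hD a ha)
  obtain ⟨eb, heb, rfl⟩ := isD_entry.1 (hD b hb)
  obtain ⟨ec, hec, rfl⟩ := isD_entry.1 (hD c hcs)
  have hin : ∀ e ∈ Dat.nbL, e.1 ∈ s → ∀ d ∈ s, e.2.testBit d = true := fun e he hes d hd =>
    (nb_iff he d).2 ⟨hD d hd, (eq_or_ne d e.1).imp id (hp d hd e.1 hes)⟩
  have hall := clique_ok
  simp only [List.all_eq_true, cliqueOK] at hall
  have h1 := hall ea hea eb heb
  simp only [cliqueB, Bool.or_eq_true, List.all_eq_true, Bool.not_eq_true'] at h1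
  rcases h1 with (h1 | h1) | h1
  · have := Nat.le_of_ble_eq_true h1; omega
  · rw [bt_testBit, hin ea hea ha _ hb] at h1; simp at h1
  have h2 := h1 ec hec
  simp only [cliqueC, Bool.or_eq_true, Bool.not_eq_true', List.any_eq_true] at h2
  rcases h2 with (((h2 | h2) | h2) | h2) | h2
  · rw [bt_testBit] at h2
    rw [show (Nat.land ea.2 eb.2).testBit ec.1 = true by
      show (ea.2 &&& eb.2).testBit ec.1 = true
      rw [Nat.testBit_and, hin ea hea ha _ hcs, hin eb heb hb _ hcs]; rfl] at h2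
    simp at h2
  · exact absurd (Nat.eq_of_beq_eq_true h2) hca
  · exact absurd (Nat.eq_of_beq_eq_true h2) hcb
  · exact absurd (Nat.eq_of_beq_eq_true h2) hcab
  set T := Nat.land (Nat.land ea.2 eb.2) ec.2 with hT
  have hsT : ∀ d ∈ s, T.testBit d = true := fun d hd => by
    show ((ea.2 &&& eb.2) &&& ec.2).testBit d = true
    rw [Nat.testBit_and, Nat.testBit_and, hin ea hea ha _ hd, hin eb heb hb _ hd, hin ec hec hcs _ hd]; rfl
  rcases h2 with h2 | ⟨p, hpL, h2⟩
  · have := few8_card h2 s hsT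
    omega
  refine ⟨p, List.mem_range.1 (List.mem_filter.1 hpL).1, fun d hd => ?_⟩
  have e := hsT d hd
  rw [← Nat.eq_of_beq_eq_true h2] at e
  have e' : (T &&& starM p).testBit d = true := e
  rw [Nat.testBit_and, Bool.and_eq_true] at e'
  exact e'.2

theorem inSt_lt {p c : ℕ} (hp : p < 32) (h : InSt p c) : c < 1024 := by
  have key : ∀ p < 32, starM p < 2 ^ 1024 := by decide +kernel
  by_contra hge
  have := Nat.testBit_lt_two_pow (lt_of_lt_of_le (key p hp) (Nat.pow_le_pow_right (by norm_num) (not_lt.1 hge)))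
  rw [InSt, this] at h
  simp at h

/-- the members through a vector -/
def St (p : ℕ) : Finset ℕ := (Finset.range 1024).filter fun c => (starM p).testBit c

theorem mem_St {p c : ℕ} (hp : p < 32) : c ∈ St p ↔ InSt p c := by
  rw [St, Finset.mem_filter, Finset.mem_range]
  exact ⟨fun h => h.2, fun h => ⟨inSt_lt hp h, h⟩⟩

theorem St_card : ∀ p < 32, p ≠ 0 → (St p).card = 15 := by
  intro p hp hp0
  have e : St p = ((Finset.range 32).filter fun q => q ≠ 0 ∧ q ≠ p).image (wg p) ∧
      (((Finset.range 32).filter fun q => q ≠ 0 ∧ q ≠ p).image (wg p)).card = 15 := by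
    constructor
    · ext c
      rw [mem_St hp, inSt_iff hp hp0, Finset.mem_image]
      simp [Finset.mem_filter, and_assoc]
    · revert p
      decide +kernel
  rw [e.1, e.2]

theorem St_pair {p : ℕ} (hp : p < 32) (hp0 : p ≠ 0) {c d : ℕ} (hc : c ∈ St p) (hd : d ∈ St p) (hne : c ≠ d) :
    isD (c ^^^ d) = true := by
  rw [mem_St hp, inSt_iff hp hp0] at hc hd
  obtain ⟨q, hq, hq0, hqp, rfl⟩ := hc
  obtain ⟨r, hr, hr0, hrp, rfl⟩ := hd
  have key : ∀ p < 32, ∀ q < 32, ∀ r < 32, wg p q ≠ wg p r → isD (wg p q ^^^ wg p r) = true := by decide +kernel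
  exact key p hp q hq r hr hne

/-- two tables have one member in common -/
theorem meet {x y : ℕ} (hx : x < 32) (hy : y < 32) (hx0 : x ≠ 0) (hy0 : y ≠ 0) (hxy : x ≠ y) :
    (∀ c, c ∈ St x → c ∈ St y → c = wg x y) ∧ wg x y ∈ St x ∧ wg x y ∈ St y ∧
      ∀ u < 32, wg x y ∈ St u → u = x ∨ u = y ∨ u = x ^^^ y := by
  have hl := List.all_eq_true.1 line_ok x (List.mem_range.2 hx)
  simp only [lineOK, Bool.or_eq_true, List.all_eq_true, List.mem_range, Bool.and_eq_true] at hl
  rcases hl with hl | hl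
  · exact absurd (Nat.eq_of_beq_eq_true hl) hx0
  rcases hl y hy with (h | h) | ⟨hm, hu⟩
  · exact absurd (Nat.eq_of_beq_eq_true h) hy0
  · exact absurd (Nat.eq_of_beq_eq_true h).symm hxy
  have hm' : starM x &&& starM y = 1 <<< wg x y := Nat.eq_of_beq_eq_true hm
  have hiff : ∀ c, ((starM x).testBit c = true ∧ (starM y).testBit c = true) ↔ wg x y = c := fun c => by
    rw [← Bool.and_eq_true, ← Nat.testBit_and, hm', Nat.one_shiftLeft, Nat.testBit_two_pow, decide_eq_true_iff]
  have hw := (hiff _).2 rfl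
  refine ⟨fun c h1 h2 => ((hiff c).1 ⟨(mem_St hx).1 h1, (mem_St hy).1 h2⟩).symm, (mem_St hx).2 hw.1,
    (mem_St hy).2 hw.2, fun u hu' hcu => ?_⟩
  rcases hu u hu' with ((h | h) | h) | h
  · exact Or.inl (Nat.eq_of_beq_eq_true h)
  · exact Or.inr (Or.inl (Nat.eq_of_beq_eq_true h))
  · exact Or.inr (Or.inr (Nat.eq_of_beq_eq_true h))
  · have e : (starM x &&& starM y &&& starM u).testBit (wg x y) = true := by
      rw [Nat.testBit_and, Nat.testBit_and, hw.1, hw.2, (mem_St hu').1 hcu]; rfl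
    rw [show starM x &&& starM y &&& starM u = 0 from Nat.eq_of_beq_eq_true h] at e
    simp at e

theorem wg_facts : (∀ p < 32, ∀ q < 32, wg (p ^^^ q) q = wg p q) := by decide +kernel

theorem St_inj {p q : ℕ} (hp : p < 32) (hq : q < 32) (hp0 : p ≠ 0) (hq0 : q ≠ 0) (h : St p = St q) : p = q := by
  by_contra hne
  have hsub : St p ⊆ {wg p q} := fun c hc =>
    Finset.mem_singleton.2 ((meet hp hq hp0 hq0 hne).1 c hc (h ▸ hc))
  have := Finset.card_le_card hsub
  rw [St_card p hp hp0, Finset.card_singleton] at this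
  omega

theorem line_third {p q : ℕ} (hp : p < 32) (hq : q < 32) (hp0 : p ≠ 0) (hq0 : q ≠ 0) (hpq : p ≠ q) :
    wg p q ∈ St (p ^^^ q) := by
  have hr : p ^^^ q < 32 := Nat.xor_lt_two_pow (n := 5) hp hq
  have hr0 : p ^^^ q ≠ 0 := fun e => hpq (Nat.xor_eq_zero_iff.1 e)
  rw [mem_St hr, inSt_iff hr hr0]
  exact ⟨q, hq, hq0, fun e' => hp0 (by simpa [Nat.xor_assoc] using (congrArg (· ^^^ q) e').symm),
    wg_facts p hp q hq⟩

/-! ### the recognition -/

/-- numbers below 32 as vectors -/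
def vec (n : Fin 32) : Fin 5 → ZMod 2 := fun i => if n.val.testBit i.val then 1 else 0

theorem vec_facts : Function.Bijective vec ∧ (∀ a b : Fin 32, ∀ c : Fin 32, c.val = a.val ^^^ b.val →
    vec c = vec a + vec b) := by
  refine ⟨(Fintype.bijective_iff_injective_and_card _).2 ⟨by decide +kernel, by simp⟩, fun a b c h => ?_⟩
  funext i
  have e : c.val.testBit i.val = (a.val.testBit i.val ^^ b.val.testBit i.val) := by rw [h, Nat.testBit_xor]
  simp only [vec, Pi.add_apply, e]
  cases a.val.testBit i.val <;> cases b.val.testBit i.val <;> decide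

attribute [local irreducible] St starM wg Chk.isD

/-- the decomposable members are permuted with the tables -/
structure Sig {B : Type*} (L : B → ℕ → ℕ) (σ : B → Fin 32 → Fin 32) : Prop where
  zero : ∀ g, σ g 0 = 0
  spec : ∀ g (p : Fin 32), p ≠ 0 → σ g p ≠ 0 ∧ (St p.val).image (L g) = St (σ g p).val
  inj : ∀ g, Function.Injective (σ g)

theorem exists_sigma {B : Type*} [Group B] (L : B → ℕ → ℕ) (h1 : ∀ c, c < 1024 → L 1 c = c)
    (hmul : ∀ g h c, c < 1024 → L (g * h) c = L g (L h c))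
    (hadd : ∀ g a b, a < 1024 → b < 1024 → L g (a ^^^ b) = L g a ^^^ L g b)
    (hD : ∀ g c, c < 1024 → isD c = true → isD (L g c) = true) :
    ∃ σ : B → Fin 32 → Fin 32, Sig L σ ∧ (∀ g h p, σ (g * h) p = σ g (σ h p)) ∧ ∀ p, σ 1 p = p := by
  classical
  have hinv : ∀ g c, c < 1024 → L g⁻¹ (L g c) = c := fun g c hc => by rw [← hmul _ _ c hc, inv_mul_cancel, h1 c hc]
  have hinj : ∀ g a b, a < 1024 → b < 1024 → L g a = L g b → a = b := fun g a b ha hb e => by
    rw [← hinv g a ha, e, hinv g b hb]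
  -- the image of a table is a table
  have hσ : ∀ (g : B) (p : ℕ), p < 32 → p ≠ 0 → ∃ r, r < 32 ∧ r ≠ 0 ∧ (St p).image (L g) = St r := by
    intro g p hp hp0
    have hlt' : ∀ c ∈ St p, c < 1024 := fun c hc => inSt_lt hp ((mem_St hp).1 hc)
    have hc15 : ((St p).image (L g)).card = 15 := by
      rw [Finset.card_image_of_injOn fun a ha b hb e => hinj g a b (hlt' a ha) (hlt' b hb) e, St_card p hp hp0]
    obtain ⟨r, hr, hsub⟩ := clique (s := (St p).image (L g)) (by omega) (fun c hc => by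
        obtain ⟨a, ha, rfl⟩ := Finset.mem_image.1 hc
        exact hD g a (hlt' a ha) ((isD_iff a).2 ⟨p, hp, (mem_St hp).1 ha⟩)) (fun c hc d hd hne => by
        obtain ⟨a, ha, rfl⟩ := Finset.mem_image.1 hc
        obtain ⟨b, hb, rfl⟩ := Finset.mem_image.1 hd
        rw [← hadd g a b (hlt' a ha) (hlt' b hb)]
        exact hD g _ (Nat.xor_lt_two_pow (n := 10) (hlt' a ha) (hlt' b hb))
          (St_pair hp hp0 ha hb fun e => hne (by rw [e])))
    have hr0 : r ≠ 0 := by
      rintro rfl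
      obtain ⟨c, hc⟩ := Finset.card_pos.1 (by omega : 0 < ((St p).image (L g)).card)
      have := hsub c hc
      rw [InSt, show starM 0 = 0 by decide +kernel] at this
      simp at this
    refine ⟨r, hr, hr0, Finset.eq_of_subset_of_card_le (fun c hc => (mem_St hr).2 (hsub c hc)) ?_⟩
    rw [St_card r hr hr0]
    omega
  let σ : B → Fin 32 → Fin 32 := fun g p =>
    if h : p.val = 0 then 0 else ⟨(hσ g p.val p.2 h).choose, (hσ g p.val p.2 h).choose_spec.1⟩
  have hσ0 : ∀ g, σ g 0 = 0 := fun g => by simp [σ]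
  have hσs : ∀ g (p : Fin 32), p ≠ 0 → σ g p ≠ 0 ∧ (St p.val).image (L g) = St (σ g p).val := by
    intro g p hp
    have h : ¬ p.val = 0 := fun e => hp (Fin.ext e)
    have e := (hσ g p.val p.2 h).choose_spec
    simp only [σ, dif_neg h]
    exact ⟨fun e' => e.2.1 (congrArg Fin.val e'), e.2.2⟩
  have hσu : ∀ g (p r : Fin 32), p ≠ 0 → r ≠ 0 → (St p.val).image (L g) = St r.val → σ g p = r := by
    intro g p r hp hr e
    obtain ⟨h1', h2'⟩ := hσs g p hp
    exact Fin.ext (St_inj (σ g p).2 r.2 (fun e' => h1' (Fin.ext e')) (fun e' => hr (Fin.ext e')) (h2'.symm.trans e))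
  have hσm : ∀ g h p, σ (g * h) p = σ g (σ h p) := by
    intro g h p
    by_cases hp : p = 0
    · subst hp; rw [hσ0, hσ0, hσ0]
    obtain ⟨h0, e⟩ := hσs h p hp
    obtain ⟨h0', e'⟩ := hσs g _ h0
    refine hσu _ _ _ hp h0' ?_
    rw [← e', ← e, Finset.image_image]
    exact Finset.image_congr fun c hc => hmul g h c (inSt_lt p.2 ((mem_St p.2).1 hc))
  have hσ1 : ∀ p, σ 1 p = p := by
    intro p
    by_cases hp : p = 0
    · subst hp; exact hσ0 1
    refine hσu _ _ _ hp hp ?_
    conv_rhs => rw [← Finset.image_id (s := St p.val)]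
    exact Finset.image_congr fun c hc => h1 c (inSt_lt p.2 ((mem_St p.2).1 hc))
  have hσi : ∀ g, Function.Injective (σ g) := fun g a b e => by
    have := congrArg (σ g⁻¹) e
    rwa [← hσm, ← hσm, inv_mul_cancel, hσ1, hσ1] at this
  exact ⟨σ, ⟨hσ0, hσs, hσi⟩, hσm, hσ1⟩

theorem Sig.linear {B : Type*} {L : B → ℕ → ℕ} {σ : B → Fin 32 → Fin 32} (hS : Sig L σ) :
    ∀ g (p q r : Fin 32), r.val = p.val ^^^ q.val → (σ g r).val = (σ g p).val ^^^ (σ g q).val := by
  have hσ0 := hS.zero
  have hσs := hS.spec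
  have hσi := hS.inj
  intro g p q r hr
  by_cases hp : p = 0
  · subst hp
    have : r = q := Fin.ext (by rw [hr]; exact Nat.zero_xor _)
    rw [this, hσ0]; exact (Nat.zero_xor _).symm
  by_cases hq : q = 0
  · subst hq
    have : r = p := Fin.ext (by rw [hr]; exact Nat.xor_zero _)
    rw [this, hσ0]; exact (Nat.xor_zero _).symm
  by_cases hpq : p = q
  · subst hpq
    have : r = 0 := Fin.ext (by rw [hr]; exact Nat.xor_self _)
    rw [this, hσ0]; exact (Nat.xor_self _).symm
  have hp' : p.val ≠ 0 := fun e => hp (Fin.ext e)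
  have hq' : q.val ≠ 0 := fun e => hq (Fin.ext e)
  have hpq' : p.val ≠ q.val := fun e => hpq (Fin.ext e)
  have hr0 : r ≠ 0 := fun e => hpq' (Nat.xor_eq_zero_iff.1 (by rw [← hr, e]; rfl))
  obtain ⟨-, hcp, hcq, -⟩ := meet p.2 q.2 hp' hq' hpq'
  have hcr : wg p.val q.val ∈ St r.val := hr ▸ line_third p.2 q.2 hp' hq' hpq'
  set c := wg p.val q.val
  have hmem : ∀ s : Fin 32, s ≠ 0 → c ∈ St s.val → L g c ∈ St (σ g s).val := fun s hs h =>
    (hσs g s hs).2 ▸ Finset.mem_image_of_mem (L g) h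
  have hne : (σ g p).val ≠ (σ g q).val := fun e => hpq (hσi g (Fin.ext e))
  have hn0 : ∀ s : Fin 32, s ≠ 0 → (σ g s).val ≠ 0 := fun s hs e => (hσs g s hs).1 (Fin.ext e)
  obtain ⟨huniq, -, -, hd⟩ := meet (σ g p).2 (σ g q).2 (hn0 p hp) (hn0 q hq) hne
  have hu := huniq _ (hmem p hp hcp) (hmem q hq hcq)
  rcases hd (σ g r).val (σ g r).2 (hu ▸ hmem r hr0 hcr) with e | e | e
  · have e2 : p.val ^^^ q.val = p.val := hr ▸ congrArg Fin.val (hσi g (Fin.ext e))
    exact absurd (by simpa using congrArg (p.val ^^^ ·) e2) hq'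
  · have e2 : p.val ^^^ q.val = q.val := hr ▸ congrArg Fin.val (hσi g (Fin.ext e))
    exact absurd (by simpa [Nat.xor_assoc] using congrArg (· ^^^ q.val) e2) hp'
  · exact e

theorem Sig.faith {B : Type*} {L : B → ℕ → ℕ} {σ : B → Fin 32 → Fin 32} (hS : Sig L σ)
    (hadd : ∀ g a b, a < 1024 → b < 1024 → L g (a ^^^ b) = L g a ^^^ L g b) {g : B} (hid : ∀ p, σ g p = p) {c : ℕ}
    (hc : c < 1024) : L g c = c := by
  have hσs := hS.spec
  -- a decomposable member is the common one of two tables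
  have hfix : ∀ d, isD d = true → L g d = d := by
    intro d hd
    obtain ⟨p, hp, hdp⟩ := (isD_iff d).1 hd
    have hp0 : p ≠ 0 := by
      rintro rfl
      rw [InSt, show starM 0 = 0 by decide +kernel] at hdp
      simp at hdp
    obtain ⟨q, hq, hq0, hqp, e'⟩ := (inSt_iff hp hp0 d).1 hdp
    have hm : ∀ s : Fin 32, s ≠ 0 → d ∈ St s.val → L g d ∈ St s.val := fun s hs h => by
      have := (hσs g s hs).2 ▸ Finset.mem_image_of_mem (L g) h
      rwa [hid] at this
    obtain ⟨huniq, h1', h2', -⟩ := meet hp hq hp0 hq0 (Ne.symm hqp)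
    rw [e'] at h1' h2' huniq
    exact huniq _ (hm ⟨p, hp⟩ (fun e => hp0 (congrArg Fin.val e)) h1')
      (hm ⟨q, hq⟩ (fun e => hq0 (congrArg Fin.val e)) h2')
  -- the ten units are decomposable
  have hunit : ∀ i, i < 10 → isD (2 ^ i) = true := by decide +kernel
  have hall : ∀ n, n ≤ 10 → ∀ c, c < 2 ^ n → L g c = c := by
    intro n
    induction n with
    | zero =>
      intro _ c hc
      obtain rfl : c = 0 := by omega
      have := hadd g 0 0 (by norm_num) (by norm_num)
      rwa [Nat.xor_self, Nat.xor_self] at this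
    | succ n ih =>
      intro hn c hc
      by_cases hb : c < 2 ^ n
      · exact ih (by omega) c hb
      have ht : c.testBit n = true := by
        rw [Nat.testBit_eq_decide_div_mod_eq, decide_eq_true_iff]
        have h1 : c / 2 ^ n = 1 := Nat.div_eq_of_lt_le (by omega) (by rw [← pow_succ']; omega)
        rw [h1]
      have hlow : c ^^^ 2 ^ n < 2 ^ n := by
        refine Nat.lt_of_testBit n (by rw [Nat.testBit_xor, ht, Nat.testBit_two_pow_self]; rfl)
          (Nat.testBit_two_pow_self) fun j hj => ?_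
        rw [Nat.testBit_xor, Nat.testBit_two_pow_of_ne (by omega), Bool.xor_false]
        exact Nat.testBit_lt_two_pow (lt_of_lt_of_le hc (Nat.pow_le_pow_right (by norm_num) hj))
      have h2 : (2:ℕ) ^ n < 1024 := lt_of_lt_of_le (Nat.pow_lt_pow_succ (by norm_num)) (Nat.pow_le_pow_right (by norm_num) hn : 2 ^ (n+1) ≤ 2 ^ 10)
      have h3 := hadd g (c ^^^ 2 ^ n) (2 ^ n) (lt_trans hlow h2) h2
      rwa [Nat.xor_assoc, Nat.xor_self, Nat.xor_zero, ih (by omega) _ hlow, hfix _ (hunit n (by omega)),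
        Nat.xor_assoc, Nat.xor_self, Nat.xor_zero] at h3
  exact hall 10 le_rfl c hc

theorem linear_rep {B : Type*} [Group B] (σ : B → Fin 32 → Fin 32) (hσm : ∀ g h p, σ (g * h) p = σ g (σ h p))
    (hσ1 : ∀ p, σ 1 p = p)
    (hσx : ∀ g (p q r : Fin 32), r.val = p.val ^^^ q.val → (σ g r).val = (σ g p).val ^^^ (σ g q).val) :
    ∃ Φ : B →* Matrix.SpecialLinearGroup (Fin 5) (ZMod 2), ∀ g, Φ g = 1 → ∀ p, σ g p = p := by
  let ev : Fin 32 ≃ (Fin 5 → ZMod 2) := Equiv.ofBijective vec vec_facts.1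
  have hev : ∀ a b : Fin 32, ev ⟨a.val ^^^ b.val, Nat.xor_lt_two_pow (n := 5) a.2 b.2⟩ = ev a + ev b :=
    fun a b => vec_facts.2 a b _ rfl
  let T : B → (Fin 5 → ZMod 2) →+ (Fin 5 → ZMod 2) := fun g => AddMonoidHom.mk' (fun v => ev (σ g (ev.symm v)))
    fun u v => by
      have e : ev.symm (u + v) = ⟨(ev.symm u).val ^^^ (ev.symm v).val,
          Nat.xor_lt_two_pow (n := 5) (ev.symm u).2 (ev.symm v).2⟩ := by
        rw [Equiv.symm_apply_eq, hev]; simp
      show ev (σ g (ev.symm (u + v))) = ev (σ g (ev.symm u)) + ev (σ g (ev.symm v))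
      rw [← hev]
      congr 1
      exact Fin.ext (hσx g _ _ _ (by rw [e]))
  let Φ : B →* Matrix.SpecialLinearGroup (Fin 5) (ZMod 2) :=
    { toFun := fun g => ⟨LinearMap.toMatrix' ((T g).toZModLinearMap 2), by
        have hu : IsUnit (LinearMap.toMatrix' ((T g).toZModLinearMap 2)) := by
          refine isUnit_iff_exists.2 ⟨LinearMap.toMatrix' ((T g⁻¹).toZModLinearMap 2), ?_, ?_⟩ <;>
            rw [← LinearMap.toMatrix'_comp, ← LinearMap.toMatrix'_id] <;> congr 1 <;>
            refine LinearMap.ext fun v => ?_ <;>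
            show ev (σ _ (ev.symm (ev (σ _ (ev.symm v))))) = v <;> simp [← hσm, hσ1]
        have key : ∀ d : ZMod 2, d ≠ 0 → d = 1 := by decide
        exact key _ ((Matrix.isUnit_iff_isUnit_det _).1 hu).ne_zero⟩
      map_one' := by
        refine Subtype.ext ?_
        show LinearMap.toMatrix' ((T 1).toZModLinearMap 2) = 1
        rw [← LinearMap.toMatrix'_id]
        congr 1
        refine LinearMap.ext fun v => ?_
        show ev (σ 1 (ev.symm v)) = v
        simp [hσ1]
      map_mul' := fun g h => by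
        refine Subtype.ext ?_
        show LinearMap.toMatrix' ((T (g * h)).toZModLinearMap 2) = _ * _
        rw [← LinearMap.toMatrix'_comp]
        congr 1
        refine LinearMap.ext fun v => ?_
        show ev (σ (g * h) (ev.symm v)) = ev (σ g (ev.symm (ev (σ h (ev.symm v)))))
        simp [hσm] }
  refine ⟨Φ, fun g hg p => ?_⟩
  have e : LinearMap.toMatrix' ((T g).toZModLinearMap 2) = LinearMap.toMatrix' LinearMap.id := by
    rw [LinearMap.toMatrix'_id]
    exact congrArg Subtype.val hg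
  have h' : ev (σ g (ev.symm (ev p))) = ev p := LinearMap.congr_fun (LinearMap.toMatrix'.injective e) (ev p)
  simpa using h'

theorem z2key : ∀ d : ZMod 2, d ≠ 0 → d = 1 := by decide
theorem gl5 : Nat.card (GL (Fin 5) (ZMod 2)) = 9999360 := by
  have : Fact (Nat.Prime 2) := ⟨Nat.prime_two⟩
  rw [Matrix.card_GL_field, ZMod.card]
  decide
theorem card_SL5 : Nat.card (Matrix.SpecialLinearGroup (Fin 5) (ZMod 2)) = 9999360 := by
  rw [← gl5]
  refine Nat.card_congr (Equiv.ofBijective Matrix.SpecialLinearGroup.toGL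
    ⟨Matrix.SpecialLinearGroup.toGL_injective, fun u => ?_⟩)
  have h : (u : Matrix (Fin 5) (Fin 5) (ZMod 2)).det = 1 := z2key _ (Matrix.isUnits_det_units u).ne_zero
  refine ⟨⟨(u : Matrix (Fin 5) (Fin 5) (ZMod 2)), h⟩, Units.ext ?_⟩
  exact Matrix.SpecialLinearGroup.coe_GL_coe_matrix _

/-- recognition of the special linear group -/
theorem recognise {B : Type*} [Group B] [Finite B] (L : B → ℕ → ℕ) (h1 : ∀ c, c < 1024 → L 1 c = c)
    (hmul : ∀ g h c, c < 1024 → L (g * h) c = L g (L h c))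
    (hadd : ∀ g a b, a < 1024 → b < 1024 → L g (a ^^^ b) = L g a ^^^ L g b)
    (hfaith : ∀ g, (∀ c < 1024, L g c = c) → g = 1)
    (hD : ∀ g c, c < 1024 → isD c = true → isD (L g c) = true)
    (hcard : 9999360 ≤ Nat.card B) : Nonempty (B ≃* Matrix.SpecialLinearGroup (Fin 5) (ZMod 2)) := by
  obtain ⟨σ, hS, hσm, hσ1⟩ := exists_sigma L h1 hmul hadd hD
  obtain ⟨Φ, hΦ'⟩ := linear_rep σ hσm hσ1 hS.linear
  have hΦ : Function.Injective Φ := (injective_iff_map_eq_one Φ).2 fun g hg =>
    hfaith g fun c hc => hS.faith hadd (hΦ' g hg) hc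
  refine ⟨MulEquiv.ofBijective Φ ((Nat.bijective_iff_injective_and_card _).2 ⟨hΦ, ?_⟩)⟩
  refine le_antisymm (Nat.card_le_card_of_injective Φ hΦ) (le_trans (le_of_eq ?_) hcard)
  exact card_SL5

end Cfsg.Agent.Spor.Wedge5
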