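/-
The hexacode: weights and monomial automorphisms.
-/
import Cfsg.Prelude.Def_SporadicCombinatorics

set_option autoImplicit false
set_option maxRecDepth 100000

namespace Cfsg.Agent.Spor

open Cfsg

/-! ### a model of the field of order four -/

/-- addition on codes -/
def add4 (a b : Fin 4) : Fin 4 := ![![0, 1, 2, 3], ![1, 0, 3, 2], ![2, 3, 0, 1], ![3, 2, 1, 0]] a b

/-- multiplication on codes -/
def mul4 (a b : Fin 4) : Fin 4 := ![![0, 0, 0, 0], ![0, 1, 2, 3], ![0, 2, 3, 1], ![0, 3, 1, 2]] a b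

/-- the systematic word -/
def hword (a b c : Fin 4) : Fin 6 → Fin 4 :=
  ![a, b, c, add4 (add4 a b) c, add4 (add4 (mul4 3 a) (mul4 2 b)) c, add4 (add4 (mul4 2 a) (mul4 3 b)) c]

/-- membership in the model -/
def inHex (w : Fin 6 → Fin 4) : Bool := decide (hword (w 0) (w 1) (w 2) = w)

/-- number of nonzero entries -/
def hweight (w : Fin 6 → Fin 4) : ℕ := (Finset.univ.filter fun i => w i ≠ 0).card

variable {F : Type*} [Field F] {ω : F}

/-- the field element of a code -/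
def io (ω : F) (a : Fin 4) : F := ![0, 1, ω, ω + 1] a

theorem two_zero [Fintype F] (hF : Fintype.card F = 4) : (2 : F) = 0 := by
  have h := Nat.cast_card_eq_zero F
  rw [hF] at h
  have h2 : (2 : F) * 2 = 0 := by rw [← h]; norm_num
  exact mul_self_eq_zero.1 h2

section

variable (h2 : (2 : F) = 0) (hω : ω ^ 2 + ω + 1 = 0)
include h2 hω

theorem io_add (a b : Fin 4) : io ω (add4 a b) = io ω a + io ω b := by
  fin_cases a <;> fin_cases b <;> simp [io, add4] <;> grind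

theorem io_mul (a b : Fin 4) : io ω (mul4 a b) = io ω a * io ω b := by
  fin_cases a <;> fin_cases b <;> simp [io, mul4] <;> grind

theorem io_injective : Function.Injective (io ω) := by
  intro a b h
  fin_cases a <;> fin_cases b <;> simp [io] at h ⊢ <;> grind

end

/-- the standing hypotheses -/
structure IsF4 (F : Type*) [Field F] (ω : F) : Prop where
  two : (2 : F) = 0
  root : ω ^ 2 + ω + 1 = 0
  surj : Function.Surjective (io ω)

theorem isF4_mk [Fintype F] (hF : Fintype.card F = 4) (hω : ω ^ 2 + ω + 1 = 0) : IsF4 F ω := by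
  refine ⟨two_zero hF, hω, ?_⟩
  exact ((Fintype.bijective_iff_injective_and_card _).2
    ⟨io_injective (two_zero hF) hω, by rw [hF, Fintype.card_fin]⟩).2

theorem IsF4.inj (h : IsF4 F ω) : Function.Injective (io ω) := io_injective h.two h.root

theorem io_zero : io ω 0 = 0 := rfl
theorem io_one : io ω 1 = 1 := rfl

theorem IsF4.io_ne (h : IsF4 F ω) {a : Fin 4} : io ω a ≠ 0 ↔ a ≠ 0 :=
  ⟨fun h' e => h' (e ▸ io_zero), fun h' e => h' (h.inj (e.trans io_zero.symm))⟩

/-- image of a model word -/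
def iow (ω : F) (w : Fin 6 → Fin 4) : Fin 6 → F := fun i => io ω (w i)

theorem IsF4.hword_eq (h : IsF4 F ω) (a b c : Fin 4) :
    iow ω (hword a b c) = io ω a • iow ω (hword 1 0 0) + io ω b • iow ω (hword 0 1 0) +
      io ω c • iow ω (hword 0 0 1) := by
  funext i
  fin_cases i <;>
    simp [iow, hword, io_add h.two h.root, io_mul h.two h.root, io_zero, io_one, mul_comm]

/-- the three spanning words -/
theorem spanning : (![2, 3, 3, 2, 3, 2] : Fin 6 → Fin 4) = hword 2 3 3 ∧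
    (![3, 2, 2, 3, 3, 2] : Fin 6 → Fin 4) = hword 3 2 2 ∧
    (![3, 2, 3, 2, 2, 3] : Fin 6 → Fin 4) = hword 3 2 3 ∧
    ∀ a b c : Fin 4, ∃ x y z : Fin 4, ∀ i, hword a b c i =
      add4 (add4 (mul4 x (hword 2 3 3 i)) (mul4 y (hword 3 2 2 i))) (mul4 z (hword 3 2 3 i)) := by
  refine ⟨by decide +kernel, by decide +kernel, by decide +kernel, fun a b c => ?_⟩
  refine ⟨add4 (mul4 2 a) (mul4 3 b), add4 (add4 (mul4 3 a) (mul4 3 b)) c, add4 b c, fun i => ?_⟩
  revert a b c i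
  decide +kernel

theorem IsF4.mem_hexacode (h : IsF4 F ω) {x : Fin 6 → F} :
    x ∈ hexacode F ω ↔ ∃ a b c, x = iow ω (hword a b c) := by
  have hw : ω ^ 2 = ω + 1 := by linear_combination h.root - (ω + 1) * h.two
  have e1 : (![ω, ω ^ 2, ω ^ 2, ω, ω ^ 2, ω] : Fin 6 → F) = iow ω (hword 2 3 3) := by
    rw [← spanning.1]; funext i; fin_cases i <;> simp [iow, io, hw]
  have e2 : (![ω ^ 2, ω, ω, ω ^ 2, ω ^ 2, ω] : Fin 6 → F) = iow ω (hword 3 2 2) := by
    rw [← spanning.2.1]; funext i; fin_cases i <;> simp [iow, io, hw]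
  have e3 : (![ω ^ 2, ω, ω ^ 2, ω, ω, ω ^ 2] : Fin 6 → F) = iow ω (hword 3 2 3) := by
    rw [← spanning.2.2.1]; funext i; fin_cases i <;> simp [iow, io, hw]
  rw [hexacode, e1, e2, e3, Submodule.mem_span_triple]
  constructor
  · rintro ⟨r, s, t, rfl⟩
    obtain ⟨x, rfl⟩ := h.surj r
    obtain ⟨y, rfl⟩ := h.surj s
    obtain ⟨z, rfl⟩ := h.surj t
    obtain ⟨a, ha⟩ := h.surj (io ω x * io ω 2 + io ω y * io ω 3 + io ω z * io ω 3)
    obtain ⟨b, hb⟩ := h.surj (io ω x * io ω 3 + io ω y * io ω 2 + io ω z * io ω 2)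
    obtain ⟨c, hc⟩ := h.surj (io ω x * io ω 3 + io ω y * io ω 2 + io ω z * io ω 3)
    refine ⟨a, b, c, ?_⟩
    rw [h.hword_eq 2 3 3, h.hword_eq 3 2 2, h.hword_eq 3 2 3, h.hword_eq a b c, ha, hb, hc]
    module
  · rintro ⟨a, b, c, rfl⟩
    obtain ⟨x, y, z, e⟩ := spanning.2.2.2 a b c
    refine ⟨io ω x, io ω y, io ω z, funext fun i => ?_⟩
    simp only [iow, Pi.add_apply, Pi.smul_apply, smul_eq_mul, e, io_add h.two h.root, io_mul h.two h.root]

theorem IsF4.mem_iff (h : IsF4 F ω) {w : Fin 6 → Fin 4} :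
    iow ω w ∈ hexacode F ω ↔ inHex w = true := by
  rw [h.mem_hexacode, inHex, decide_eq_true_eq]
  constructor
  · rintro ⟨a, b, c, e⟩
    have : w = hword a b c := funext fun i => h.inj (congrFun e i)
    subst this
    rfl
  · exact fun e => ⟨_, _, _, by rw [e]⟩

theorem IsF4.iow_injective (h : IsF4 F ω) : Function.Injective (iow ω) :=
  fun _ _ e => funext fun i => h.inj (congrFun e i)

theorem IsF4.code_eq (h : IsF4 F ω) :
    (hexacode F ω : Set (Fin 6 → F)) = Set.range fun q : Fin 4 × Fin 4 × Fin 4 => iow ω (hword q.1 q.2.1 q.2.2) := by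
  ext x
  rw [SetLike.mem_coe, h.mem_hexacode, Set.mem_range]
  exact ⟨fun ⟨a, b, c, e⟩ => ⟨(a, b, c), e.symm⟩, fun ⟨q, e⟩ => ⟨_, _, _, e.symm⟩⟩

theorem IsF4.param_injective (h : IsF4 F ω) :
    Function.Injective fun q : Fin 4 × Fin 4 × Fin 4 => iow ω (hword q.1 q.2.1 q.2.2) := by
  rintro ⟨a, b, c⟩ ⟨a', b', c'⟩ e
  have e' := h.iow_injective e
  exact Prod.ext (congrFun e' 0) (Prod.ext (congrFun e' 1) (congrFun e' 2))

theorem IsF4.card_hexacode (h : IsF4 F ω) : Nat.card ↥(hexacode F ω) = 64 := by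
  rw [← SetLike.coe_sort_coe, h.code_eq, Nat.card_range_of_injective h.param_injective]
  simp

theorem IsF4.weight_eq [DecidableEq F] (h : IsF4 F ω) (w : Fin 6 → Fin 4) :
    (Finset.univ.filter fun i => iow ω w i ≠ 0).card = hweight w :=
  congrArg Finset.card (Finset.filter_congr fun _ _ => h.io_ne)

theorem hweight_facts : (∀ a b c : Fin 4, (a, b, c) = (0, 0, 0) ∨ hweight (hword a b c) = 4 ∨ hweight (hword a b c) = 6) ∧
    (Finset.univ.filter fun q : Fin 4 × Fin 4 × Fin 4 => hweight (hword q.1 q.2.1 q.2.2) = 4).card = 45 ∧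
    (Finset.univ.filter fun q : Fin 4 × Fin 4 × Fin 4 => hweight (hword q.1 q.2.1 q.2.2) = 6).card = 18 := by
  decide +kernel

theorem IsF4.ncard_weight [DecidableEq F] (h : IsF4 F ω) (n : ℕ) :
    {x : Fin 6 → F | x ∈ hexacode F ω ∧ (Finset.univ.filter fun i => x i ≠ 0).card = n}.ncard =
      (Finset.univ.filter fun q : Fin 4 × Fin 4 × Fin 4 => hweight (hword q.1 q.2.1 q.2.2) = n).card := by
  rw [← Set.ncard_coe_finset, ← Set.ncard_image_of_injective _ h.param_injective]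
  congr 1
  ext x
  simp only [Set.mem_image, Finset.coe_filter, Finset.mem_univ, true_and, Set.mem_setOf_eq]
  constructor
  · rintro ⟨hx, hc⟩
    obtain ⟨a, b, c, rfl⟩ := h.mem_hexacode.1 hx
    exact ⟨(a, b, c), (h.weight_eq _).symm.trans hc, rfl⟩
  · rintro ⟨q, hq, rfl⟩
    exact ⟨h.mem_hexacode.2 ⟨_, _, _, rfl⟩, (h.weight_eq _).trans hq⟩

/-! ### monomial automorphisms -/

/-- monomial action on the model -/
def mon4 (σ : Equiv.Perm (Fin 6)) (k : Fin 6 → Fin 4) (w : Fin 6 → Fin 4) : Fin 6 → Fin 4 :=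
  fun i => mul4 (k i) (w (σ.symm i))

/-- the model test -/
def okHex (σ : Equiv.Perm (Fin 6)) (k : Fin 6 → Fin 4) : Bool :=
  inHex (mon4 σ k (hword 1 0 0)) && inHex (mon4 σ k (hword 0 1 0)) && inHex (mon4 σ k (hword 0 0 1))

theorem IsF4.mon_iow (h : IsF4 F ω) (σ : Equiv.Perm (Fin 6)) {c : Fin 6 → Fˣ} {k : Fin 6 → Fin 4}
    (hk : ∀ i, (c i : F) = io ω (k i)) (w : Fin 6 → Fin 4) :
    monomialMap σ c (iow ω w) = iow ω (mon4 σ k w) :=
  funext fun i => by simp only [monomialMap, iow, mon4, io_mul h.two h.root, hk]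

theorem hex_mono_smul (σ : Equiv.Perm (Fin 6)) (c : Fin 6 → Fˣ) (a : F) (x : Fin 6 → F) :
    monomialMap σ c (a • x) = a • monomialMap σ c x :=
  funext fun _ => mul_left_comm _ _ _

theorem hex_mono_add (σ : Equiv.Perm (Fin 6)) (c : Fin 6 → Fˣ) (x y : Fin 6 → F) :
    monomialMap σ c (x + y) = monomialMap σ c x + monomialMap σ c y :=
  funext fun _ => mul_add _ _ _

theorem IsF4.ok_iff (h : IsF4 F ω) (σ : Equiv.Perm (Fin 6)) {c : Fin 6 → Fˣ} {k : Fin 6 → Fin 4}
    (hk : ∀ i, (c i : F) = io ω (k i)) :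
    (∀ x ∈ hexacode F ω, monomialMap σ c x ∈ hexacode F ω) ↔ okHex σ k = true := by
  rw [okHex, Bool.and_eq_true, Bool.and_eq_true, ← h.mem_iff, ← h.mem_iff, ← h.mem_iff,
    ← h.mon_iow σ hk, ← h.mon_iow σ hk, ← h.mon_iow σ hk]
  constructor
  · intro H
    exact ⟨⟨H _ (h.mem_hexacode.2 ⟨_, _, _, rfl⟩), H _ (h.mem_hexacode.2 ⟨_, _, _, rfl⟩)⟩,
      H _ (h.mem_hexacode.2 ⟨_, _, _, rfl⟩)⟩
  · rintro ⟨⟨H1, H2⟩, H3⟩ x hx
    obtain ⟨a, b, c', rfl⟩ := h.mem_hexacode.1 hx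
    rw [h.hword_eq]
    simp only [hex_mono_add, hex_mono_smul]
    exact add_mem (add_mem (Submodule.smul_mem _ _ H1) (Submodule.smul_mem _ _ H2)) (Submodule.smul_mem _ _ H3)

theorem IsF4.exists_codes (h : IsF4 F ω) (c : Fin 6 → Fˣ) :
    ∃ k : Fin 6 → Fin 4, (∀ i, k i ≠ 0) ∧ ∀ i, (c i : F) = io ω (k i) := by
  choose k hk using fun i => h.surj (c i : F)
  exact ⟨k, fun i e => (c i).ne_zero (by rw [← hk i, e]; rfl), fun i => (hk i).symm⟩

/-- nonzero codes -/
def nz (j : Fin 3) : Fin 4 := j.succ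

theorem diag_scan : ∀ a b c d e f : Fin 3,
    okHex 1 ![nz a, nz b, nz c, nz d, nz e, nz f] = true → a = b ∧ a = c ∧ a = d ∧ a = e ∧ a = f := by
  decide +kernel

theorem odd_scan : ∀ a b c d e f : Fin 3,
    okHex (Equiv.swap 0 1) ![nz a, nz b, nz c, nz d, nz e, nz f] = false := by
  decide +kernel

theorem nz_cases (k : Fin 6 → Fin 4) (hk : ∀ i, k i ≠ 0) :
    ∃ a b c d e f : Fin 3, k = ![nz a, nz b, nz c, nz d, nz e, nz f] := by
  have H : ∀ x : Fin 4, x ≠ 0 → ∃ j, nz j = x := fun x hx => ⟨x.pred hx, Fin.succ_pred x hx⟩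
  choose g hg using fun i => H (k i) (hk i)
  exact ⟨g 0, g 1, g 2, g 3, g 4, g 5, funext fun i => by fin_cases i <;> simp [hg]⟩

theorem IsF4.diag_const (h : IsF4 F ω) (c : Fin 6 → Fˣ)
    (hc : ∀ x ∈ hexacode F ω, monomialMap 1 c x ∈ hexacode F ω) (i j : Fin 6) : c i = c j := by
  obtain ⟨k, hk0, hk⟩ := h.exists_codes c
  obtain ⟨a, b, c', d, e, f, rfl⟩ := nz_cases k hk0
  obtain ⟨rfl, rfl, rfl, rfl, rfl⟩ := diag_scan _ _ _ _ _ _ ((h.ok_iff 1 hk).1 hc)
  refine Units.ext ?_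
  rw [hk, hk]
  fin_cases i <;> fin_cases j <;> rfl

variable (F ω) in
/-- permutation parts -/
def hexParts : Set (Equiv.Perm (Fin 6)) :=
  {σ | ∃ c : Fin 6 → Fˣ, ∀ x ∈ hexacode F ω, monomialMap σ c x ∈ hexacode F ω}

theorem hexParts_mul {σ τ : Equiv.Perm (Fin 6)} (hσ : σ ∈ hexParts F ω) (hτ : τ ∈ hexParts F ω) :
    σ * τ ∈ hexParts F ω := by
  obtain ⟨c, hc⟩ := hσ
  obtain ⟨d, hd⟩ := hτ
  refine ⟨fun i => c i * d (σ.symm i), fun x hx => ?_⟩
  convert hc _ (hd x hx) using 1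
  funext i
  simp only [monomialMap, Units.val_mul, mul_assoc]
  rfl

/-- multipliers for the generators -/
theorem pair_scan : ∀ x y : Fin 6, x = y ∨ ∃ a b c d e f : Fin 3,
    okHex (Equiv.swap x y * Equiv.swap 0 1) ![nz a, nz b, nz c, nz d, nz e, nz f] = true := by
  decide +kernel

theorem pair_scan' : ∀ x y : Fin 6, x = y ∨ ∃ a b c d e f : Fin 3,
    okHex (Equiv.swap 0 1 * Equiv.swap x y) ![nz a, nz b, nz c, nz d, nz e, nz f] = true := by
  decide +kernel

theorem IsF4.parts_of_model (h : IsF4 F ω) {σ : Equiv.Perm (Fin 6)} {k : Fin 6 → Fin 4}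
    (hk : ∀ i, k i ≠ 0) (hok : okHex σ k = true) : σ ∈ hexParts F ω :=
  ⟨fun i => Units.mk0 (io ω (k i)) (h.io_ne.2 (hk i)), (h.ok_iff σ fun _ => rfl).2 hok⟩

theorem nz_vec (a b c d e f : Fin 3) (i : Fin 6) : ![nz a, nz b, nz c, nz d, nz e, nz f] i ≠ 0 := by
  fin_cases i <;> simp [nz]

theorem IsF4.even_mem (h : IsF4 F ω) (σ : Equiv.Perm (Fin 6)) :
    (Equiv.Perm.sign σ = 1 → σ ∈ hexParts F ω) ∧
      (Equiv.Perm.sign σ = -1 → Equiv.swap 0 1 * σ ∈ hexParts F ω) := by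
  induction σ using Equiv.Perm.swap_induction_on with
  | one =>
    refine ⟨fun _ => ?_, fun h' => ?_⟩
    · refine ⟨1, fun x hx => ?_⟩
      convert hx using 1
      funext i
      simp [monomialMap, show ((Equiv.symm (1 : Equiv.Perm (Fin 6))) i) = i from rfl]
    · rw [Equiv.Perm.sign_one] at h'; exact absurd h' (by decide)
  | swap_mul f x y hxy ih =>
    rw [Equiv.Perm.sign_mul, Equiv.Perm.sign_swap hxy]
    obtain ⟨a, b, c, d, e, g, h1⟩ := (pair_scan x y).resolve_left hxy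
    obtain ⟨a', b', c', d', e', g', h2⟩ := (pair_scan' x y).resolve_left hxy
    have g1 := h.parts_of_model (nz_vec _ _ _ _ _ _) h1
    have g2 := h.parts_of_model (nz_vec _ _ _ _ _ _) h2
    refine ⟨fun hs => ?_, fun hs => ?_⟩
    · have := hexParts_mul g1 (ih.2 (by rw [← hs]; simp))
      rwa [mul_assoc, ← mul_assoc (Equiv.swap (0 : Fin 6) 1), Equiv.swap_mul_self, one_mul] at this
    · have := hexParts_mul g2 (ih.1 (by simpa using hs))
      rwa [mul_assoc] at this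

theorem IsF4.parts_eq (h : IsF4 F ω) :
    hexParts F ω = (alternatingGroup (Fin 6) : Set (Equiv.Perm (Fin 6))) := by
  refine Set.Subset.antisymm (fun σ hσ => ?_) fun σ hσ => (h.even_mem σ).1 (Equiv.Perm.mem_alternatingGroup.1 hσ)
  rw [SetLike.mem_coe, Equiv.Perm.mem_alternatingGroup]
  rcases Int.units_eq_one_or (Equiv.Perm.sign σ) with h1 | h1
  · exact h1
  exfalso
  have hinv : σ⁻¹ * Equiv.swap 0 1 ∈ hexParts F ω := by
    refine (h.even_mem _).1 ?_
    rw [map_mul, map_inv, h1, Equiv.Perm.sign_swap (by decide)]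
    decide
  have := hexParts_mul hσ hinv
  rw [← mul_assoc, mul_inv_cancel, one_mul] at this
  obtain ⟨c, hc⟩ := this
  obtain ⟨k, hk0, hk⟩ := h.exists_codes c
  obtain ⟨a, b, c', d, e, f, rfl⟩ := nz_cases k hk0
  exact Bool.false_ne_true ((odd_scan a b c' d e f).symm.trans ((h.ok_iff _ hk).1 hc))

theorem IsF4.mono_surj (h : IsF4 F ω) {σ : Equiv.Perm (Fin 6)} {c : Fin 6 → Fˣ}
    (hc : ∀ x ∈ hexacode F ω, monomialMap σ c x ∈ hexacode F ω) {x : Fin 6 → F}
    (hx : x ∈ hexacode F ω) : ∃ y ∈ hexacode F ω, monomialMap σ c y = x := by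
  have : Finite ↥(hexacode F ω) := Nat.finite_of_card_ne_zero (by rw [h.card_hexacode]; norm_num)
  have hs : Function.Surjective (fun y : ↥(hexacode F ω) => (⟨_, hc y y.2⟩ : ↥(hexacode F ω))) :=
    Finite.injective_iff_surjective.1 fun a b e => Subtype.ext (funext fun i => by
      have := congrFun (Subtype.ext_iff.1 e) (σ i)
      simp only [monomialMap, Equiv.symm_apply_apply] at this
      exact (Units.mul_right_inj _).1 this)
  obtain ⟨y, hy⟩ := hs ⟨x, hx⟩
  exact ⟨y, y.2, Subtype.ext_iff.1 hy⟩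

theorem IsF4.card_monomial [Fintype F] (h : IsF4 F ω) (hF : Fintype.card F = 4) :
    Nat.card {f : Equiv.Perm (Fin 6) × (Fin 6 → Fˣ) //
      (∀ x ∈ hexacode F ω, monomialMap f.1 f.2 x ∈ hexacode F ω)} = 1080 := by
  let Φ : {f : Equiv.Perm (Fin 6) × (Fin 6 → Fˣ) //
      (∀ x ∈ hexacode F ω, monomialMap f.1 f.2 x ∈ hexacode F ω)} → hexParts F ω × Fˣ :=
    fun f => (⟨f.1.1, f.1.2, f.2⟩, f.1.2 0)
  have hbij : Function.Bijective Φ := by
    constructor
    · rintro ⟨⟨σ, c⟩, hc⟩ ⟨⟨τ, d⟩, hd⟩ e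
      obtain rfl : σ = τ := congrArg (fun q => q.1.1) e
      have h0 : c 0 = d 0 := congrArg Prod.snd e
      have hr : ∀ x ∈ hexacode F ω, monomialMap 1 (fun i => d i * (c i)⁻¹) x ∈ hexacode F ω := fun x hx => by
        obtain ⟨y, hy, rfl⟩ := h.mono_surj hc hx
        convert hd y hy using 1
        funext i
        show ((d i * (c i)⁻¹ : Fˣ) : F) * ((c i : F) * y (σ.symm i)) = (d i : F) * y (σ.symm i)
        rw [← mul_assoc, ← Units.val_mul, inv_mul_cancel_right]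
      refine Subtype.ext (Prod.ext rfl (funext fun i => ?_))
      have := h.diag_const _ hr i 0
      simp only [h0, mul_inv_cancel] at this
      exact (mul_inv_eq_one.1 this).symm
    · rintro ⟨⟨σ, c, hc⟩, u⟩
      refine ⟨⟨(σ, fun i => u * (c 0)⁻¹ * c i), fun x hx => ?_⟩, ?_⟩
      · have e : monomialMap σ (fun i => u * (c 0)⁻¹ * c i) x =
            ((u * (c 0)⁻¹ : Fˣ) : F) • monomialMap σ c x :=
          funext fun i => by simp only [monomialMap, Pi.smul_apply, smul_eq_mul, Units.val_mul, mul_assoc]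
        rw [e]
        exact Submodule.smul_mem _ _ (hc x hx)
      · exact Prod.ext rfl (inv_mul_cancel_right _ _)
  rw [Nat.card_eq_of_bijective Φ hbij, Nat.card_prod, h.parts_eq, Nat.card_units F,
    Nat.card_eq_fintype_card (α := F), hF]
  have := two_mul_card_alternatingGroup (α := Fin 6)
  simp only [Fintype.card_perm, Fintype.card_fin, Nat.factorial] at this
  rw [SetLike.coe_sort_coe, Nat.card_eq_fintype_card]
  omega

end Cfsg.Agent.Spor
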