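import Cfsg.Agent.Lib.Spor.GolayDodecad
import Cfsg.Agent.S0385
import Cfsg.Prelude.Def_SporadicCombinatorics

/-!
The stabiliser of a dodecad and a hexad on it.
-/

set_option autoImplicit false

namespace Cfsg.Agent.Spor

open Cfsg Finset
open scoped Pointwise

variable {d C : Finset GolayPt}

theorem hexad_octad (hC : C ∈ hexadsOn d) : C.card = 6 ∧ C ⊆ d ∧ ∃ o ∈ octads, o ∩ d = C := by
  obtain ⟨h6, o, ho, e⟩ := hC
  exact ⟨h6, e ▸ inter_subset_right, o, ho, e⟩

theorem hexad_compl (hd : d ∈ dodecads) (hC : C ∈ hexadsOn d) : (d \ C).card = 6 := by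
  rw [card_sdiff_of_subset (hexad_octad hC).2.1, hd.2, (hexad_octad hC).1]

/-- fixing five points of the dodecad from a six-subset -/
theorem fix_six_eq_one (hd : d ∈ dodecads) {E : Finset GolayPt} (hE : E ⊆ d) (h5 : 5 ≤ E.card) {g : M24}
    (hg : g • d = d) (hfix : ∀ p ∈ E, (g : Equiv.Perm GolayPt) p = p) : g = 1 := by
  obtain ⟨T, hT, hTc⟩ := exists_subset_card_eq h5
  let x : Fin 5 ↪ GolayPt := (T.equivFinOfCardEq hTc).symm.toEmbedding.trans (Function.Embedding.subtype _)
  exact Subtype.ext (dodecad_fix_five hd g.2 hg x (fun i => hE (hT ((T.equivFinOfCardEq hTc).symm i).2))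
    fun i => hfix _ (hT ((T.equivFinOfCardEq hTc).symm i).2))

theorem smul_mem_set {g : M24} {E : Finset GolayPt} (h : g • E = E) {p : GolayPt} :
    (g : Equiv.Perm GolayPt) p ∈ E ↔ p ∈ E := by
  have h' : (g : Equiv.Perm GolayPt) • E = E := h
  constructor
  · intro hp
    exact (Finset.smul_mem_smul_finset_iff _).1 (h'.ge hp)
  · intro hp
    exact h'.le ((Finset.smul_mem_smul_finset_iff _).2 hp)

/-- the joint stabiliser is the symmetric group on the hexad -/
theorem hexad_stab_iso (hd : d ∈ dodecads) (hC : C ∈ hexadsOn d) :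
    Nonempty (↥(MulAction.stabilizer M24 d ⊓ MulAction.stabilizer M24 C) ≃* Equiv.Perm {p // p ∈ C}) := by
  classical
  obtain ⟨h6, hCd, o, ho, hoC⟩ := hexad_octad hC
  set S := MulAction.stabilizer M24 d ⊓ MulAction.stabilizer M24 C
  let f : S →* Equiv.Perm {p // p ∈ C} := MonoidHom.mk'
    (fun g => ((g : M24) : Equiv.Perm GolayPt).subtypePerm fun p => smul_mem_set g.2.2)
    (fun g h => Equiv.ext fun p => Subtype.ext rfl)
  refine ⟨MulEquiv.ofBijective f ⟨?_, ?_⟩⟩
  · rw [injective_iff_map_eq_one]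
    intro g hg
    refine Subtype.ext (fix_six_eq_one hd hCd (by omega) g.2.1 fun p hp => ?_)
    exact congrArg Subtype.val (Equiv.congr_fun hg ⟨p, hp⟩)
  · intro π
    obtain ⟨T, hT, hTc⟩ := exists_subset_card_eq (s := C) (n := 5) (by omega)
    let x : Fin 5 ↪ GolayPt := (T.equivFinOfCardEq hTc).symm.toEmbedding.trans (Function.Embedding.subtype _)
    have hx : ∀ i, x i ∈ C := fun i => hT ((T.equivFinOfCardEq hTc).symm i).2
    let y : Fin 5 ↪ GolayPt := ⟨fun i => (π ⟨x i, hx i⟩ : GolayPt), fun i j e => x.injective (by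
      have h := π.injective (Subtype.ext e : π ⟨x i, hx i⟩ = π ⟨x j, hx j⟩)
      exact congrArg (fun z : {p // p ∈ C} => (z : GolayPt)) h)⟩
    obtain ⟨g, hg, -⟩ := dodecad_five_trans hd x y (fun i => hCd (hx i)) (fun i => hCd (π ⟨x i, hx i⟩).2)
    have hgd : ((g : M24) : Equiv.Perm GolayPt) • d = d := g.2
    have hgC : ((g : M24) : Equiv.Perm GolayPt) • C = C := by
      have ho' : ((g : M24) : Equiv.Perm GolayPt) • o = o := by
        refine octad_eq_of_five (smul_octad (g : M24).2 ho) ho ?_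
        have hc : (univ.image y).card = 5 := by rw [card_image_of_injective _ y.injective]; simp
        rw [← hc]
        refine card_le_card fun p hp => ?_
        obtain ⟨i, -, rfl⟩ := mem_image.1 hp
        refine mem_inter.2 ⟨?_, ?_⟩
        · rw [← hg i]
          exact Finset.smul_mem_smul_finset (inter_subset_left (hoC.symm.le (hx i)))
        · exact inter_subset_left (hoC.symm.le (π ⟨x i, hx i⟩).2)
      calc ((g : M24) : Equiv.Perm GolayPt) • C = ((g : M24) : Equiv.Perm GolayPt) • (o ∩ d) := by rw [hoC]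
        _ = o ∩ d := by rw [Finset.smul_finset_inter, ho', hgd]
        _ = C := hoC
    refine ⟨⟨g, g.2, hgC⟩, Equiv.ext fun p => ?_⟩
    -- five values agree, so the sixth does
    set q := f ⟨g, g.2, hgC⟩
    have hagree : ∀ p : {p // p ∈ C}, (p : GolayPt) ∈ T → q p = π p := by
      intro p hp
      refine Subtype.ext ?_
      have := hg (T.equivFinOfCardEq hTc ⟨p, hp⟩)
      have e : x (T.equivFinOfCardEq hTc ⟨p, hp⟩) = p := by simp [x]
      show ((g : M24) : Equiv.Perm GolayPt) p = _
      rw [← e, this]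
      show (π ⟨_, _⟩ : GolayPt) = _
      congr 2
      exact Subtype.ext e
    by_cases hp : (p : GolayPt) ∈ T
    · exact hagree p hp
    have : π.symm (q p) = p := by
      by_contra hne
      have hmem : ((π.symm (q p) : {p // p ∈ C}) : GolayPt) ∈ T := by
        by_contra hnT
        obtain ⟨z, hz⟩ := card_eq_one.1 (show (C \ T).card = 1 by rw [card_sdiff_of_subset hT]; omega)
        have a1 : (p : GolayPt) ∈ C \ T := mem_sdiff.2 ⟨p.2, hp⟩
        have a2 : ((π.symm (q p) : {p // p ∈ C}) : GolayPt) ∈ C \ T := mem_sdiff.2 ⟨(π.symm (q p)).2, hnT⟩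
        rw [hz, mem_singleton] at a1 a2
        exact hne (Subtype.ext (a2.trans a1.symm))
      have h1 := hagree _ hmem
      rw [Equiv.apply_symm_apply] at h1
      exact hne (q.injective h1)
    exact (Equiv.symm_apply_eq π).1 this

theorem hexad_stab_fin (hd : d ∈ dodecads) (hC : C ∈ hexadsOn d) :
    Nonempty (↥(MulAction.stabilizer M24 d ⊓ MulAction.stabilizer M24 C) ≃* Equiv.Perm (Fin 6)) := by
  obtain ⟨e⟩ := hexad_stab_iso hd hC
  exact ⟨e.trans (C.equivFinOfCardEq (hexad_octad hC).1).permCongrHom⟩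

end Cfsg.Agent.Spor
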