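import Cfsg.Agent.Lib.Spor.HsConfig
import Cfsg.Agent.Lib.Spor.HsRankData

/-!
The five orbits of the Higman-Sims group on the 11178 minimal vectors at a given product with a vector of norm 48.
-/

set_option autoImplicit false
set_option maxRecDepth 100000
set_option Elab.async false

namespace Cfsg.Agent.Spor

open Cfsg

local notation "Zv" => GolayPt → ℤ

namespace HsRank

/-- a slot of a table of width `w` -/
def slot (T : List ℕ) (w i : ℕ) : ℕ :=
  Nat.mod (Nat.shiftRight (T.getD (Nat.div i 256) 0) (Nat.mul w (Nat.mod i 256))) (Nat.pow 2 w)

/-- the code of a vector -/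
def cd (i : ℕ) : ℕ := slot vecTab 80 i
/-- parent -/
def par (i : ℕ) : ℕ := Nat.mod (slot infoTab 32 i) 16384
/-- generator -/
def gen (i : ℕ) : ℕ := Nat.mod (Nat.div (slot infoTab 32 i) 16384) 4
/-- depth -/
def dep (i : ℕ) : ℕ := Nat.mod (Nat.div (slot infoTab 32 i) 65536) 256
/-- class -/
def lab (i : ℕ) : ℕ := Nat.div (slot infoTab 32 i) 16777216

/-- a digit -/
def dgt (c k : ℕ) : ℕ := Nat.mod (Nat.div c (9 ^ k)) 9

/-- the vector of a code -/
def vecC (c : ℕ) : Zv := fun p => (dgt c (idx p) : ℤ) - 4

/-- digits of `b` are permuted digits of `a` -/
noncomputable def permOK (w : List (ℕ × ℕ)) (a b : ℕ) : Bool :=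
  w.rec true fun t _ ih => Nat.beq (Nat.mod (Nat.div b t.1) 9) (Nat.mod (Nat.div a t.2) 9) && ih

/-- the words of the generators -/
def genW (k : ℕ) : List LOp := [[LOp.plO perm0], [LOp.plO perm1], extraW].getD k []

/-- one vector of the trees -/
noncomputable def nodeOK (i : ℕ) : Bool :=
  Nat.blt (lab i) 5 && Nat.blt (cd i) (9 ^ 24) &&
  (bif Nat.beq (gen i) 3 then Nat.beq (rootAt.getD (lab i) 0) i
  else Nat.blt (par i) 11178 && Nat.blt (dep (par i)) (dep i) && Nat.beq (lab (par i)) (lab i) &&
    (bif Nat.beq (gen i) 0 then permOK pw0 (cd (par i)) (cd i)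
     else bif Nat.beq (gen i) 1 then permOK pw1 (cd (par i)) (cd i)
     else edgeAt.contains i))

/-- strictly increasing -/
def srtOK (i : ℕ) : Bool := Nat.beq i 11177 || Nat.blt (cd i) (cd (i + 1))

/-- a range -/
def rngOK (f : ℕ → Bool) (c : ℕ) : Bool :=
  (List.range 250).all fun i => Nat.ble 11178 (Nat.add (Nat.mul 250 c) i) || f (Nat.add (Nat.mul 250 c) i)

theorem of_rng {f : ℕ → Bool} (h : ∀ c < 45, rngOK f c = true) : ∀ i < 11178, f i = true := by
  intro i hi
  have := List.all_eq_true.1 (h (i / 250) (by omega)) (i % 250) (List.mem_range.2 (Nat.mod_lt _ (by norm_num)))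
  rw [show Nat.add (Nat.mul 250 (i / 250)) (i % 250) = i from Nat.div_add_mod i 250, Bool.or_eq_true] at this
  exact this.resolve_left fun e => by have := Nat.le_of_ble_eq_true e; omega

theorem node0 : rngOK nodeOK 0 = true := by decide +kernel
theorem node1 : rngOK nodeOK 1 = true := by decide +kernel
theorem node2 : rngOK nodeOK 2 = true := by decide +kernel
theorem node3 : rngOK nodeOK 3 = true := by decide +kernel
theorem node4 : rngOK nodeOK 4 = true := by decide +kernel
theorem node5 : rngOK nodeOK 5 = true := by decide +kernel
theorem node6 : rngOK nodeOK 6 = true := by decide +kernel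
theorem node7 : rngOK nodeOK 7 = true := by decide +kernel
theorem node8 : rngOK nodeOK 8 = true := by decide +kernel
theorem node9 : rngOK nodeOK 9 = true := by decide +kernel
theorem node10 : rngOK nodeOK 10 = true := by decide +kernel
theorem node11 : rngOK nodeOK 11 = true := by decide +kernel
theorem node12 : rngOK nodeOK 12 = true := by decide +kernel
theorem node13 : rngOK nodeOK 13 = true := by decide +kernel
theorem node14 : rngOK nodeOK 14 = true := by decide +kernel
theorem node15 : rngOK nodeOK 15 = true := by decide +kernel
theorem node16 : rngOK nodeOK 16 = true := by decide +kernel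
theorem node17 : rngOK nodeOK 17 = true := by decide +kernel
theorem node18 : rngOK nodeOK 18 = true := by decide +kernel
theorem node19 : rngOK nodeOK 19 = true := by decide +kernel
theorem node20 : rngOK nodeOK 20 = true := by decide +kernel
theorem node21 : rngOK nodeOK 21 = true := by decide +kernel
theorem node22 : rngOK nodeOK 22 = true := by decide +kernel
theorem node23 : rngOK nodeOK 23 = true := by decide +kernel
theorem node24 : rngOK nodeOK 24 = true := by decide +kernel
theorem node25 : rngOK nodeOK 25 = true := by decide +kernel
theorem node26 : rngOK nodeOK 26 = true := by decide +kernel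
theorem node27 : rngOK nodeOK 27 = true := by decide +kernel
theorem node28 : rngOK nodeOK 28 = true := by decide +kernel
theorem node29 : rngOK nodeOK 29 = true := by decide +kernel
theorem node30 : rngOK nodeOK 30 = true := by decide +kernel
theorem node31 : rngOK nodeOK 31 = true := by decide +kernel
theorem node32 : rngOK nodeOK 32 = true := by decide +kernel
theorem node33 : rngOK nodeOK 33 = true := by decide +kernel
theorem node34 : rngOK nodeOK 34 = true := by decide +kernel
theorem node35 : rngOK nodeOK 35 = true := by decide +kernel
theorem node36 : rngOK nodeOK 36 = true := by decide +kernel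
theorem node37 : rngOK nodeOK 37 = true := by decide +kernel
theorem node38 : rngOK nodeOK 38 = true := by decide +kernel
theorem node39 : rngOK nodeOK 39 = true := by decide +kernel
theorem node40 : rngOK nodeOK 40 = true := by decide +kernel
theorem node41 : rngOK nodeOK 41 = true := by decide +kernel
theorem node42 : rngOK nodeOK 42 = true := by decide +kernel
theorem node43 : rngOK nodeOK 43 = true := by decide +kernel
theorem node44 : rngOK nodeOK 44 = true := by decide +kernel

theorem node_all : ∀ i < 11178, nodeOK i = true := of_rng fun c hc => by
  interval_cases c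
  exacts [node0, node1, node2, node3, node4, node5, node6, node7, node8, node9, node10, node11, node12, node13, node14, node15, node16, node17, node18, node19, node20, node21, node22, node23, node24, node25, node26, node27, node28, node29, node30, node31, node32, node33, node34, node35, node36, node37, node38, node39, node40, node41, node42, node43, node44]

theorem srt0 : rngOK srtOK 0 = true := by decide +kernel
theorem srt1 : rngOK srtOK 1 = true := by decide +kernel
theorem srt2 : rngOK srtOK 2 = true := by decide +kernel
theorem srt3 : rngOK srtOK 3 = true := by decide +kernel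
theorem srt4 : rngOK srtOK 4 = true := by decide +kernel
theorem srt5 : rngOK srtOK 5 = true := by decide +kernel
theorem srt6 : rngOK srtOK 6 = true := by decide +kernel
theorem srt7 : rngOK srtOK 7 = true := by decide +kernel
theorem srt8 : rngOK srtOK 8 = true := by decide +kernel
theorem srt9 : rngOK srtOK 9 = true := by decide +kernel
theorem srt10 : rngOK srtOK 10 = true := by decide +kernel
theorem srt11 : rngOK srtOK 11 = true := by decide +kernel
theorem srt12 : rngOK srtOK 12 = true := by decide +kernel
theorem srt13 : rngOK srtOK 13 = true := by decide +kernel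
theorem srt14 : rngOK srtOK 14 = true := by decide +kernel
theorem srt15 : rngOK srtOK 15 = true := by decide +kernel
theorem srt16 : rngOK srtOK 16 = true := by decide +kernel
theorem srt17 : rngOK srtOK 17 = true := by decide +kernel
theorem srt18 : rngOK srtOK 18 = true := by decide +kernel
theorem srt19 : rngOK srtOK 19 = true := by decide +kernel
theorem srt20 : rngOK srtOK 20 = true := by decide +kernel
theorem srt21 : rngOK srtOK 21 = true := by decide +kernel
theorem srt22 : rngOK srtOK 22 = true := by decide +kernel
theorem srt23 : rngOK srtOK 23 = true := by decide +kernel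
theorem srt24 : rngOK srtOK 24 = true := by decide +kernel
theorem srt25 : rngOK srtOK 25 = true := by decide +kernel
theorem srt26 : rngOK srtOK 26 = true := by decide +kernel
theorem srt27 : rngOK srtOK 27 = true := by decide +kernel
theorem srt28 : rngOK srtOK 28 = true := by decide +kernel
theorem srt29 : rngOK srtOK 29 = true := by decide +kernel
theorem srt30 : rngOK srtOK 30 = true := by decide +kernel
theorem srt31 : rngOK srtOK 31 = true := by decide +kernel
theorem srt32 : rngOK srtOK 32 = true := by decide +kernel
theorem srt33 : rngOK srtOK 33 = true := by decide +kernel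
theorem srt34 : rngOK srtOK 34 = true := by decide +kernel
theorem srt35 : rngOK srtOK 35 = true := by decide +kernel
theorem srt36 : rngOK srtOK 36 = true := by decide +kernel
theorem srt37 : rngOK srtOK 37 = true := by decide +kernel
theorem srt38 : rngOK srtOK 38 = true := by decide +kernel
theorem srt39 : rngOK srtOK 39 = true := by decide +kernel
theorem srt40 : rngOK srtOK 40 = true := by decide +kernel
theorem srt41 : rngOK srtOK 41 = true := by decide +kernel
theorem srt42 : rngOK srtOK 42 = true := by decide +kernel
theorem srt43 : rngOK srtOK 43 = true := by decide +kernel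
theorem srt44 : rngOK srtOK 44 = true := by decide +kernel

theorem srt_all : ∀ i < 11178, srtOK i = true := of_rng fun c hc => by
  interval_cases c
  exacts [srt0, srt1, srt2, srt3, srt4, srt5, srt6, srt7, srt8, srt9, srt10, srt11, srt12, srt13, srt14, srt15, srt16, srt17, srt18, srt19, srt20, srt21, srt22, srt23, srt24, srt25, srt26, srt27, srt28, srt29, srt30, srt31, srt32, srt33, srt34, srt35, srt36, srt37, srt38, srt39, srt40, srt41, srt42, srt43, srt44]

theorem class_counts : ([0, 1, 2, 3, 4] : List ℕ).map (fun j => ((List.range 11178).filter fun i => Nat.beq (lab i) j).length)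
    = [1, 1100, 5600, 4125, 352] := by decide +kernel

theorem words_ok : m24ok perm0 = true ∧ m24ok perm1 = true ∧
    (fixTr.all (traceOk extraW)) = true ∧ (edgeTr.all (traceOk extraW)) = true := by decide +kernel

theorem weights_ok : pw0 = (List.range 24).map (fun k => (9 ^ k, 9 ^ perm0.getD k 0)) ∧
    pw1 = (List.range 24).map (fun k => (9 ^ k, 9 ^ perm1.getD k 0)) := by decide +kernel


end HsRank

end Cfsg.Agent.Spor
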