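import Cfsg.Agent.Lib.Spor.PlaneFour

/-!
Hyperovals of the plane of order four: 168 of them, each a frame for the automorphisms.
-/

set_option autoImplicit false
set_option maxHeartbeats 1000000

namespace Cfsg.Agent.Spor.PlaneFour

open Finset

variable {α : Type*} [Fintype α] [DecidableEq α] {B : Finset (Finset α)}

theorem model_pair : ∀ k, ∃ d d', secant d ∩ secant d' = {(Sum.inr k : Fin 6 ⊕ Fin 15)} := by decide +kernel

theorem model_off : (univ \ (secant 0 ∪ secant 1 ∪ secant 2 ∪ secant 5 ∪ secant 6 ∪ secant 9) :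
    Finset (Fin 6 ⊕ Fin 15)) = {Sum.inl 4, Sum.inl 5} := by decide +kernel

theorem model_pairs_four : ∀ d ∈ ({0, 1, 2, 5, 6, 9} : Finset (Fin 15)),
    (duad d).1 ≠ (duad d).2 ∧ (duad d).1.val < 4 ∧ (duad d).2.val < 4 := by decide +kernel

theorem lines_secant {d : Fin 15} {l : Finset (Fin 6 ⊕ Fin 15)} (hl : l ∈ lines) (h1 : Sum.inl (duad d).1 ∈ l)
    (h2 : Sum.inl (duad d).2 ∈ l) : l = secant d := by
  have key : ∀ d d' : Fin 15, ((duad d).1 = (duad d').1 ∨ (duad d).1 = (duad d').2) →
      ((duad d).2 = (duad d').1 ∨ (duad d).2 = (duad d').2) → d' = d := by decide +kernel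
  simp only [lines, mem_union, mem_image, mem_univ, true_and] at hl
  rcases hl with ⟨d', rfl⟩ | ⟨t, rfl⟩
  · simp only [secant, inl_mem_disjSum, mem_insert, mem_singleton] at h1 h2
    rw [key d d' h1 h2]
  · simp [external] at h1

theorem secant_mem (d : Fin 15) : secant d ∈ lines := mem_union_left _ (mem_image_of_mem _ (mem_univ d))

section Plane

variable (hα : Fintype.card α = 21) (hB : Cfsg.IsSteinerSystem 2 5 (B : Set (Finset α)))
include hα hB

/-- a four-arc lies in exactly one hyperoval -/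
theorem hyperoval_unique {S : Finset α} (hS : S.card = 4) (gen : ∀ l ∈ B, (l ∩ S).card ≤ 2) :
    ∃! H : Finset α, (H.card = 6 ∧ ∀ l ∈ B, (l ∩ H).card ≤ 2) ∧ S ⊆ H := by
  classical
  obtain ⟨H, hH6, hSH, hle⟩ := hyperoval_of_quad hα hB hS gen
  refine ⟨H, ⟨⟨hH6, hle⟩, hSH⟩, ?_⟩
  rintro H' ⟨⟨hH'6, hle'⟩, hSH'⟩
  -- enumerate H beginning with S
  let u : Fin 4 ≃ S := (S.equivFinOfCardEq hS).symm
  have hR : (H \ S).card = 2 := by rw [card_sdiff_of_subset hSH, hH6, hS]
  let v : Fin 2 ≃ ↥(H \ S) := ((H \ S).equivFinOfCardEq hR).symm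
  let e0 : Fin 4 ⊕ Fin 2 → H := Sum.elim (fun i => ⟨u i, hSH (u i).2⟩) (fun j => ⟨v j, (mem_sdiff.1 (v j).2).1⟩)
  have he0 : Function.Injective e0 := by
    rintro (i | i) (j | j) e
    · exact congrArg Sum.inl (u.injective (Subtype.ext (congrArg (fun z : H => (z : α)) e)))
    · exact absurd ((congrArg (fun z : H => (z : α)) e) ▸ (u i).2) (mem_sdiff.1 (v j).2).2
    · exact absurd ((congrArg (fun z : H => (z : α)) e).symm ▸ (u j).2) (mem_sdiff.1 (v i).2).2
    · exact congrArg Sum.inr (v.injective (Subtype.ext (congrArg (fun z : H => (z : α)) e)))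
  let ε : Fin 6 ≃ H := finSumFinEquiv.symm.trans (Equiv.ofBijective e0
    ((Fintype.bijective_iff_injective_and_card e0).2 ⟨he0, by rw [Fintype.card_coe, hH6]; rfl⟩))
  have hεS : ∀ i : Fin 6, i.val < 4 → (ε i : α) ∈ S := by
    intro i hi
    have e : (finSumFinEquiv.symm i : Fin 4 ⊕ Fin 2) = Sum.inl ⟨i.val, hi⟩ := by
      rw [Equiv.symm_apply_eq]; rfl
    show ((e0 (finSumFinEquiv.symm i) : H) : α) ∈ S
    rw [e]
    exact (u _).2
  obtain ⟨Ψ, hΨε, hΨ⟩ := coord_of hα hB (zero_or_two hα hB hH6 hle) ε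
  have hsub : H' ⊆ H := by
    intro x hx
    by_cases hxS : x ∈ S
    · exact hSH hxS
    have hoff : ∀ d ∈ ({0, 1, 2, 5, 6, 9} : Finset (Fin 15)), Ψ x ∉ secant d := by
      intro d hd hmem
      obtain ⟨hne, h1, h2⟩ := model_pairs_four d hd
      have hlB : (secant d).image Ψ.symm ∈ B := by
        rw [hΨ, image_image, Equiv.self_comp_symm, image_id]
        exact secant_mem d
      have inl : ∀ i, Sum.inl i ∈ secant d → (ε i : α) ∈ (secant d).image Ψ.symm := fun i hi =>
        mem_image.2 ⟨_, hi, by rw [← hΨε, Equiv.symm_apply_apply]⟩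
      have hsub3 : ({x, (ε (duad d).1 : α), (ε (duad d).2 : α)} : Finset α) ⊆ (secant d).image Ψ.symm ∩ H' := by
        intro t ht
        simp only [mem_insert, mem_singleton] at ht
        rcases ht with rfl | rfl | rfl
        · exact mem_inter.2 ⟨mem_image.2 ⟨_, hmem, Equiv.symm_apply_apply _ _⟩, hx⟩
        · exact mem_inter.2 ⟨inl _ (by simp [secant]), hSH' (hεS _ h1)⟩
        · exact mem_inter.2 ⟨inl _ (by simp [secant]), hSH' (hεS _ h2)⟩
      have := card_le_card hsub3
      rw [card_eq_three.2 ⟨x, _, _, fun e => hxS (e ▸ hεS _ h1), fun e => hxS (e ▸ hεS _ h2),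
        fun e => hne (ε.injective (Subtype.ext e)), rfl⟩] at this
      have := hle' _ hlB
      omega
    have hmem : Ψ x ∈ ({Sum.inl 4, Sum.inl 5} : Finset (Fin 6 ⊕ Fin 15)) := by
      rw [← model_off]
      simp only [mem_sdiff, mem_univ, true_and, mem_union, not_or]
      exact ⟨⟨⟨⟨⟨hoff 0 (by simp), hoff 1 (by simp)⟩, hoff 2 (by simp)⟩, hoff 5 (by simp)⟩, hoff 6 (by simp)⟩,
        hoff 9 (by simp)⟩
    simp only [mem_insert, mem_singleton] at hmem
    rcases hmem with h | h <;>
    · rw [← hΨε] at h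
      rw [Ψ.injective h]
      exact (ε _).2
  exact eq_of_subset_of_card_le hsub (by rw [hH6, hH'6])

/-- permutations of a hyperoval extend in exactly one way -/
theorem hyperoval_extend {H : Finset α} (hH6 : H.card = 6) (hle : ∀ l ∈ B, (l ∩ H).card ≤ 2) (σ : Equiv.Perm ↥H) :
    ∃! g : Equiv.Perm α, (∀ l, l ∈ B ↔ l.image g ∈ B) ∧ ∀ p : ↥H, g p = σ p := by
  classical
  let ε : Fin 6 ≃ H := (Fintype.equivFinOfCardEq (by rw [Fintype.card_coe, hH6])).symm
  have hz := zero_or_two hα hB hH6 hle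
  obtain ⟨Ψ, hΨε, hΨ⟩ := coord_of hα hB hz ε
  obtain ⟨Ψ', hΨ'ε, hΨ'⟩ := coord_of hα hB hz (ε.trans σ)
  refine ⟨Ψ.trans Ψ'.symm, ⟨fun l => ?_, fun p => ?_⟩, ?_⟩
  · rw [hΨ, hΨ', image_image]
    have : Ψ' ∘ (Ψ.trans Ψ'.symm) = Ψ := funext fun x => Ψ'.apply_symm_apply _
    rw [this]
  · obtain ⟨i, rfl⟩ := ε.surjective p
    show Ψ'.symm (Ψ (ε i : α)) = _
    rw [hΨε, ← hΨ'ε, Equiv.symm_apply_apply]
    rfl
  · rintro g ⟨hg, hgσ⟩
    set ρ : Equiv.Perm (Fin 6 ⊕ Fin 15) := Ψ.symm.trans (g.trans Ψ') with hρ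
    have hρl : ∀ i, ρ (Sum.inl i) = Sum.inl i := fun i => by
      show Ψ' (g (Ψ.symm (Sum.inl i))) = Sum.inl i
      rw [← hΨε, Equiv.symm_apply_apply, hgσ]
      exact (hΨ'ε i).trans (hΨε i).symm
    have hlines : ∀ L ∈ lines, L.image ρ ∈ lines := by
      intro L hL
      have h1 : L.image Ψ.symm ∈ B := by
        rw [hΨ, image_image, Equiv.self_comp_symm, image_id]; exact hL
      rw [hg, hΨ', image_image, image_image] at h1
      exact h1
    have hsec : ∀ d, (secant d).image ρ = secant d := fun d =>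
      lines_secant (hlines _ (secant_mem d))
        (mem_image.2 ⟨_, by simp [secant], hρl _⟩) (mem_image.2 ⟨_, by simp [secant], hρl _⟩)
    have hid : ∀ z, ρ z = z := by
      rintro (i | k)
      · exact hρl i
      · obtain ⟨d, d', e⟩ := model_pair k
        have : ({Sum.inr k} : Finset (Fin 6 ⊕ Fin 15)).image ρ = {Sum.inr k} := by
          rw [← e, image_inter _ _ ρ.injective, hsec, hsec]
        rwa [image_singleton, singleton_inj] at this
    refine Equiv.ext fun x => ?_
    have := hid (Ψ x)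
    simp only [hρ, Equiv.trans_apply, Equiv.symm_apply_apply] at this
    show g x = Ψ'.symm (Ψ x)
    rw [← this, Equiv.symm_apply_apply]

theorem card_triangles :
    ((univ : Finset α).powersetCard 3 |>.filter fun T => ∀ l ∈ B, ¬ T ⊆ l).card = 1120 := by
  classical
  have h := card_filter_add_card_filter_not (s := (univ : Finset α).powersetCard 3) (fun T => ∀ l ∈ B, ¬ T ⊆ l)
  have hcol : (((univ : Finset α).powersetCard 3).filter fun T => ¬ ∀ l ∈ B, ¬ T ⊆ l) =
      B.biUnion fun l => l.powersetCard 3 := by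
    ext T
    simp only [mem_filter, mem_powersetCard, subset_univ, true_and, mem_biUnion, not_forall, not_not, exists_prop]
    exact ⟨fun ⟨hT, l, hl, hTl⟩ => ⟨l, hl, hTl, hT⟩, fun ⟨l, hl, hTl, hT⟩ => ⟨hT, l, hl, hTl⟩⟩
  rw [hcol, card_biUnion, sum_congr rfl (g := fun _ => 10) (fun l hl => by
    rw [card_powersetCard, hB.1 l hl]; rfl), sum_const, card_B hα hB, card_powersetCard, card_univ, hα] at h
  · rw [show Nat.choose 21 3 = 1330 by decide, smul_eq_mul] at h
    omega
  · intro l hl l' hl' hne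
    rw [Function.onFun, disjoint_left]
    intro T hT hT'
    rw [mem_powersetCard] at hT hT'
    exact hne (Steiner.block_eq hB hl hl' (le_trans (by rw [hT.2]; norm_num : 2 ≤ T.card)
      (card_le_card (subset_inter hT.1 hT'.1))))

/-- a triangle extends in nine ways to a four-arc -/
theorem triangle_ext {T : Finset α} (hT : T.card = 3) (hnl : ∀ l ∈ B, ¬ T ⊆ l) :
    (((univ : Finset α).powersetCard 4).filter fun S => T ⊆ S ∧ ∀ l ∈ B, (l ∩ S).card ≤ 2).card = 9 := by
  classical
  obtain ⟨a, b, c, hab, hac, hbc, rfl⟩ := card_eq_three.1 hT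
  obtain ⟨ab, hlab, haab, hbab⟩ := line_ex hB hab
  obtain ⟨ac, hlac, haac, hcac⟩ := line_ex hB hac
  obtain ⟨bc, hlbc, hbbc, hcbc⟩ := line_ex hB hbc
  have hcab : c ∉ ab := fun h => hnl ab hlab (by
    simp only [insert_subset_iff, singleton_subset_iff]; exact ⟨haab, hbab, h⟩)
  have hbac : b ∉ ac := fun h => hnl ac hlac (by
    simp only [insert_subset_iff, singleton_subset_iff]; exact ⟨haac, h, hcac⟩)
  have habc : a ∉ bc := fun h => hnl bc hlbc (by
    simp only [insert_subset_iff, singleton_subset_iff]; exact ⟨h, hbbc, hcbc⟩)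
  set U := ab ∪ ac ∪ bc
  have hU : U.card = 12 := by
    have h1 := card_union_add_card_inter ab ac
    rw [meet hα hB hlab hlac (fun e => hcab (e ▸ hcac)), hB.1 _ hlab, hB.1 _ hlac] at h1
    have h2 := card_union_add_card_inter (ab ∪ ac) bc
    have h3 : (ab ∪ ac) ∩ bc = {b, c} := by
      refine (eq_of_subset_of_card_le ?_ ?_).symm
      · simp [insert_subset_iff, hbab, hbbc, hcac, hcbc]
      · rw [union_inter_distrib_right, card_pair hbc]
        refine (card_union_le _ _).trans ?_
        rw [meet hα hB hlab hlbc (fun e => hcab (e ▸ hcbc)), meet hα hB hlac hlbc (fun e => hbac (e ▸ hbbc))]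
    rw [h3, card_pair hbc, hB.1 _ hlbc] at h2
    show (ab ∪ ac ∪ bc).card = 12
    omega
  have hsub : ({a, b, c} : Finset α) ⊆ U := by
    intro t ht
    simp only [mem_insert, mem_singleton] at ht
    rcases ht with rfl | rfl | rfl <;> simp [U, haab, hbab, hcac]
  have hset : (((univ : Finset α).powersetCard 4).filter fun S => ({a, b, c} : Finset α) ⊆ S ∧
      ∀ l ∈ B, (l ∩ S).card ≤ 2) = (univ \ U).image fun d => insert d {a, b, c} := by
    ext S
    simp only [mem_filter, mem_powersetCard, subset_univ, true_and, mem_image, mem_sdiff, mem_univ]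
    constructor
    · rintro ⟨hS, hTS, hle⟩
      obtain ⟨d, hd⟩ := card_eq_one.1 (show (S \ {a, b, c}).card = 1 by rw [card_sdiff_of_subset hTS, hS, hT])
      have hd' := mem_sdiff.1 (hd ▸ mem_singleton_self d : d ∈ S \ {a, b, c})
      refine ⟨d, fun hdU => ?_, ?_⟩
      · have bad : ∀ L ∈ B, ∀ x y, x ≠ y → x ∈ L → y ∈ L → x ∈ ({a, b, c} : Finset α) →
            y ∈ ({a, b, c} : Finset α) → d ∈ L → False := by
          intro L hL x y hxy hx hy hxT hyT hdL
          have h3 : ({d, x, y} : Finset α) ⊆ L ∩ S := by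
            intro t ht
            simp only [mem_insert, mem_singleton] at ht
            rcases ht with rfl | rfl | rfl
            exacts [mem_inter.2 ⟨hdL, hd'.1⟩, mem_inter.2 ⟨hx, hTS hxT⟩, mem_inter.2 ⟨hy, hTS hyT⟩]
          have := card_le_card h3
          rw [card_eq_three.2 ⟨d, x, y, fun e => hd'.2 (e ▸ hxT), fun e => hd'.2 (e ▸ hyT), hxy, rfl⟩] at this
          have := hle L hL
          omega
        simp only [U, mem_union] at hdU
        rcases hdU with (h | h) | h
        · exact bad ab hlab a b hab haab hbab (by simp) (by simp) h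
        · exact bad ac hlac a c hac haac hcac (by simp) (by simp) h
        · exact bad bc hlbc b c hbc hbbc hcbc (by simp) (by simp) h
      · refine eq_of_subset_of_card_le (insert_subset hd'.1 hTS) ?_
        rw [hS, card_insert_of_notMem hd'.2, hT]
    · rintro ⟨d, hdU, rfl⟩
      have hdT : d ∉ ({a, b, c} : Finset α) := fun h => hdU (hsub h)
      refine ⟨by rw [card_insert_of_notMem hdT, hT], subset_insert _ _, fun l hl => ?_⟩
      by_contra h3
      simp only [U, mem_union, not_or] at hdU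
      by_cases hd : d ∈ l
      · rw [inter_insert_of_mem hd, card_insert_of_notMem (fun h => hdT (mem_inter.1 h).2)] at h3
        obtain ⟨x, hx, y, hy, hxy⟩ := one_lt_card.1 (show 1 < (l ∩ {a, b, c}).card by omega)
        rw [mem_inter] at hx hy
        have key : ∀ x y L, L ∈ B → x ≠ y → x ∈ l → y ∈ l → x ∈ L → y ∈ L → d ∉ L → False :=
          fun x y L hL hxy hx hy hx' hy' hdL => hdL (line_eq hB hxy hl hL hx hy hx' hy' ▸ hd)
        simp only [mem_insert, mem_singleton] at hx hy
        obtain ⟨hxl, hx⟩ := hx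
        obtain ⟨hyl, hy⟩ := hy
        rcases hx with rfl | rfl | rfl <;> rcases hy with rfl | rfl | rfl <;>
          first
            | exact hxy rfl
            | exact key _ _ ab hlab hxy hxl hyl (by assumption) (by assumption) hdU.1.1
            | exact key _ _ ac hlac hxy hxl hyl (by assumption) (by assumption) hdU.1.2
            | exact key _ _ bc hlbc hxy hxl hyl (by assumption) (by assumption) hdU.2
      · rw [inter_insert_of_notMem hd] at h3
        refine hnl l hl (inter_eq_right.1 (eq_of_subset_of_card_le inter_subset_right ?_))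
        rw [hT]; omega
  rw [hset, card_image_of_injOn, card_sdiff_of_subset (subset_univ _), card_univ, hα, hU]
  intro d hd d' _ e
  have hdT : d ∉ ({a, b, c} : Finset α) := fun h => (mem_sdiff.1 hd).2 (hsub h)
  simp only at e
  have : d ∈ insert d' ({a, b, c} : Finset α) := e ▸ mem_insert_self _ _
  exact (mem_insert.1 this).resolve_right hdT

theorem card_arcs :
    (((univ : Finset α).powersetCard 4).filter fun S => ∀ l ∈ B, (l ∩ S).card ≤ 2).card = 2520 := by
  classical
  have h := sum_card_bipartiteAbove_eq_sum_card_bipartiteBelow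
    (s := ((univ : Finset α).powersetCard 4).filter fun S => ∀ l ∈ B, (l ∩ S).card ≤ 2)
    (t := ((univ : Finset α).powersetCard 3).filter fun T => ∀ l ∈ B, ¬ T ⊆ l)
    (fun (S T : Finset α) => T ⊆ S)
  rw [sum_congr rfl (g := fun _ => 4) (fun S hS => ?_), sum_const,
    sum_congr rfl (g := fun _ => 9) (fun T hT => ?_), sum_const, card_triangles hα hB, smul_eq_mul, smul_eq_mul] at h
  · omega
  · rw [mem_filter, mem_powersetCard] at hT
    rw [← triangle_ext hα hB hT.1.2 hT.2]
    congr 1
    ext S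
    simp only [bipartiteBelow, mem_filter]
    tauto
  · rw [mem_filter, mem_powersetCard] at hS
    have : bipartiteAbove (fun (S T : Finset α) => T ⊆ S)
        (((univ : Finset α).powersetCard 3).filter fun T => ∀ l ∈ B, ¬ T ⊆ l) S = S.powersetCard 3 := by
      ext T
      simp only [bipartiteAbove, mem_filter, mem_powersetCard, subset_univ, true_and]
      refine ⟨fun h => ⟨h.2, h.1.1⟩, fun h => ⟨⟨h.2, fun l hl hTl => ?_⟩, h.1⟩⟩
      have := card_le_card (subset_inter hTl h.1)
      have := hS.2 l hl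
      omega
    rw [this, card_powersetCard, hS.1.2]
    rfl

theorem card_hyperovals :
    (((univ : Finset α).powersetCard 6).filter fun H => ∀ l ∈ B, (l ∩ H).card ≤ 2).card = 168 := by
  classical
  have h := sum_card_bipartiteAbove_eq_sum_card_bipartiteBelow
    (s := ((univ : Finset α).powersetCard 6).filter fun H => ∀ l ∈ B, (l ∩ H).card ≤ 2)
    (t := ((univ : Finset α).powersetCard 4).filter fun S => ∀ l ∈ B, (l ∩ S).card ≤ 2)
    (fun (H S : Finset α) => S ⊆ H)
  rw [sum_congr rfl (g := fun _ => 15) (fun H hH => ?_), sum_const,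
    sum_congr rfl (g := fun _ => 1) (fun S hS => ?_), sum_const, card_arcs hα hB, smul_eq_mul, smul_eq_mul] at h
  · omega
  · rw [mem_filter, mem_powersetCard] at hS
    obtain ⟨H, hH, hu⟩ := hyperoval_unique hα hB hS.1.2 hS.2
    rw [card_eq_one]
    refine ⟨H, eq_singleton_iff_unique_mem.2 ⟨?_, fun H' hH' => ?_⟩⟩
    · simp only [bipartiteBelow, mem_filter, mem_powersetCard, subset_univ, true_and]
      exact ⟨⟨hH.1.1, hH.1.2⟩, hH.2⟩
    · simp only [bipartiteBelow, mem_filter, mem_powersetCard, subset_univ, true_and] at hH'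
      exact hu H' ⟨⟨hH'.1.1, hH'.1.2⟩, hH'.2⟩
  · rw [mem_filter, mem_powersetCard] at hH
    have : bipartiteAbove (fun (H S : Finset α) => S ⊆ H)
        (((univ : Finset α).powersetCard 4).filter fun S => ∀ l ∈ B, (l ∩ S).card ≤ 2) H = H.powersetCard 4 := by
      ext S
      simp only [bipartiteAbove, mem_filter, mem_powersetCard, subset_univ, true_and]
      exact ⟨fun h => ⟨h.2, h.1.1⟩, fun h => ⟨⟨h.2, fun l hl =>
        (card_le_card (inter_subset_inter_left h.1)).trans (hH.2 l hl)⟩, h.1⟩⟩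
    rw [this, card_powersetCard, hH.1.2]
    rfl

end Plane

end Cfsg.Agent.Spor.PlaneFour
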