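/-
Homomorphisms from a small group to permutations of the 24 points, from a checked table of words.
-/
import Cfsg.Agent.Lib.Spor.GolayWords

set_option autoImplicit false
set_option maxRecDepth 100000

namespace Cfsg.Agent.Spor.Table

open scoped Pointwise

/-- the identity list -/
def idList : List ℕ := List.range 24

theorem rep_idList : Rep 1 idList := fun p => by
  rw [idList, List.getD_eq_getElem _ _ (by simpa using idx_lt p)]
  simp

theorem rep_unique {σ τ : Equiv.Perm GolayPt} {l : List ℕ} (hσ : Rep σ l) (hτ : Rep τ l) : σ = τ :=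
  Equiv.ext fun p => by rw [hσ.apply, hτ.apply]

/-- value of a word in the listed generators -/
def evalWord (mulc : ℕ → ℕ → ℕ) (one : ℕ) (gs : List (ℕ × List ℕ)) (w : List ℕ) : ℕ × List ℕ :=
  w.foldr (fun i acc => (mulc (gs.getD i (0, [])).1 acc.1, lmul (gs.getD i (0, [])).2 acc.2)) (one, idList)

/-- association lookup -/
noncomputable def assoc (c : ℕ) (L : List (ℕ × List ℕ)) : Option (List ℕ) :=
  List.rec none (fun e _ ih => cond (Nat.beq e.1 c) (some e.2) ih) L

/-- bucket by number -/
noncomputable def bucket (L : List (List (ℕ × List ℕ))) : ℕ → List (ℕ × List ℕ) :=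
  List.rec (fun _ => []) (fun b _ ih i => cond (Nat.beq i 0) b (ih (Nat.sub i 1))) L

/-- lookup in the buckets, by code modulo 37 -/
noncomputable def look (bkt : List (List (ℕ × List ℕ))) (c : ℕ) : Option (List ℕ) :=
  assoc c (bucket bkt (Nat.mod c 37))

theorem assoc_mem {c : ℕ} {l : List ℕ} : ∀ {L : List (ℕ × List ℕ)}, assoc c L = some l → (c, l) ∈ L
  | [], h => by simp [assoc] at h
  | e :: L, h => by
      have h' : cond (Nat.beq e.1 c) (some e.2) (assoc c L) = some l := h
      cases hb : Nat.beq e.1 c with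
      | true =>
          rw [hb, cond_true, Option.some.injEq] at h'
          rw [← Nat.eq_of_beq_eq_true hb, ← h']
          exact List.mem_cons_self
      | false =>
          rw [hb, cond_false] at h'
          exact List.mem_cons_of_mem _ (assoc_mem h')

theorem bucket_sub {e : ℕ × List ℕ} : ∀ {L : List (List (ℕ × List ℕ))} {i : ℕ}, e ∈ bucket L i → e ∈ L.flatten
  | [], _, h => by simp [bucket] at h
  | b :: L, i, h => by
      have h' : e ∈ cond (Nat.beq i 0) b (bucket L (i - 1)) := h
      rw [List.flatten_cons, List.mem_append]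
      cases hb : Nat.beq i 0 with
      | true => rw [hb, cond_true] at h'; exact Or.inl h'
      | false => rw [hb, cond_false] at h'; exact Or.inr (bucket_sub h')

theorem look_mem {bkt : List (List (ℕ × List ℕ))} {c : ℕ} {l : List ℕ} (h : look bkt c = some l) :
    (c, l) ∈ bkt.flatten :=
  bucket_sub (assoc_mem h)

theorem mem_keys_of_look {bkt : List (List (ℕ × List ℕ))} {c : ℕ} (h : (look bkt c).isSome = true) :
    c ∈ bkt.flatten.map Prod.fst := by
  obtain ⟨l, hl⟩ := Option.isSome_iff_exists.1 h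
  exact List.mem_map.2 ⟨_, look_mem hl, rfl⟩

/-- the entries are the values of the words -/
noncomputable def wordsOk (mulc : ℕ → ℕ → ℕ) (one : ℕ) (gs : List (ℕ × List ℕ)) (ws : List (List ℕ))
    (bkt : List (List (ℕ × List ℕ))) : Bool :=
  (bkt.flatten == ws.map (evalWord mulc one gs)) && ws.all (fun w => w.all fun i => decide (i < gs.length)) &&
    (look bkt one == some idList) && decide (bkt.flatten.map Prod.fst).Nodup

/-- the table is closed under the generators -/
noncomputable def closedOk (mulc : ℕ → ℕ → ℕ) (gs : List (ℕ × List ℕ)) (bkt : List (List (ℕ × List ℕ))) : Bool :=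
  gs.all fun g => bkt.all fun b => b.all fun e => look bkt (mulc g.1 e.1) == some (lmul g.2 e.2)

/-- a correct table -/
def TabOk (mulc : ℕ → ℕ → ℕ) (one : ℕ) (gs : List (ℕ × List ℕ)) (ws : List (List ℕ))
    (bkt : List (List (ℕ × List ℕ))) : Prop :=
  wordsOk mulc one gs ws bkt = true ∧ closedOk mulc gs bkt = true

variable {G : Type*} [Group G] [Finite G]

/-- a homomorphism from a table -/
theorem exists_hom (enc : G → ℕ) (henc : Function.Injective enc) (mulc : ℕ → ℕ → ℕ)
    (hmul : ∀ a b, enc (a * b) = mulc (enc a) (enc b)) {k : ℕ} (gen : Fin k → G) (gs : List (ℕ × List ℕ))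
    (hlen : gs.length = k) (hgs : ∀ i : Fin k, (gs.getD i (0, [])).1 = enc (gen i)) (one : ℕ) (hone : enc 1 = one)
    {ws : List (List ℕ)} {bkt : List (List (ℕ × List ℕ))} (h : TabOk mulc one gs ws bkt)
    (hall : ∀ g : G, enc g ∈ bkt.flatten.map Prod.fst) (H : Subgroup (Equiv.Perm GolayPt))
    (hH : ∀ i : Fin k, lok (gs.getD i (0, [])).2 = true ∧ lperm (gs.getD i (0, [])).2 ∈ H) :
    ∃ φ : G →* H, (∀ g, ∃ l, (enc g, l) ∈ bkt.flatten ∧ Rep (φ g : Equiv.Perm GolayPt) l) ∧
      ∀ i, (φ (gen i) : Equiv.Perm GolayPt) = lperm (gs.getD i (0, [])).2 := by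
  classical
  simp only [TabOk, wordsOk, closedOk, Bool.and_eq_true, beq_iff_eq, decide_eq_true_eq, List.all_eq_true] at h
  obtain ⟨⟨⟨⟨htab, hws⟩, hhead⟩, hnd⟩, hcl⟩ := h
  set tab := bkt.flatten with htabdef
  let x : Fin k → G × Equiv.Perm GolayPt := fun i => (gen i, lperm (gs.getD i (0, [])).2)
  set Γ := Subgroup.closure (Set.range x) with hΓ
  let T : G × Equiv.Perm GolayPt → Prop := fun y => ∃ l, (enc y.1, l) ∈ tab ∧ Rep y.2 l
  have hT1 : T 1 := ⟨idList, by rw [show enc (1 : G × Equiv.Perm GolayPt).1 = one from hone]; exact look_mem hhead, rep_idList⟩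
  have hTstep : ∀ i y, T y → T (x i * y) := by
    rintro i y ⟨l, hl, hr⟩
    have hi : (i : ℕ) < gs.length := by omega
    have hg : gs.getD i (0, []) ∈ gs := by rw [List.getD_eq_getElem _ _ hi]; exact List.getElem_mem _
    obtain ⟨b, hb, hlb⟩ := List.mem_flatten.1 hl
    have h := look_mem (hcl _ hg b hb _ hlb)
    refine ⟨lmul (gs.getD i (0, [])).2 l, ?_, (rep_lperm (hH i).1).mul hr⟩
    rw [show enc (x i * y).1 = mulc (gs.getD i (0, [])).1 (enc y.1) by rw [hgs]; exact hmul _ _]
    exact h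
  have hΓT : ∀ y ∈ Γ, T y := by
    intro y hy
    have hclo : y ∈ Submonoid.closure (Set.range x) := by
      rw [← Subgroup.closure_toSubmonoid_of_finite]; exact hy
    clear hy
    induction hclo using Submonoid.closure_induction_left with
    | one => exact hT1
    | mul_left a ha b hb ih =>
        obtain ⟨i, rfl⟩ := ha
        exact hTstep i _ ih
  have hfun : ∀ {g σ τ}, (g, σ) ∈ Γ → (g, τ) ∈ Γ → σ = τ := by
    intro g σ τ hσ hτ
    obtain ⟨l, hl, hr⟩ := hΓT _ hσ
    obtain ⟨l', hl', hr'⟩ := hΓT _ hτ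
    have e : (enc g, l) = (enc g, l') := List.inj_on_of_nodup_map hnd hl hl' rfl
    obtain rfl : l = l' := congrArg Prod.snd e
    exact rep_unique hr hr'
  have hword : ∀ w : List ℕ, (∀ i ∈ w, i < k) → ∃ y ∈ Γ, enc y.1 = (evalWord mulc one gs w).1 := by
    intro w
    induction w with
    | nil => exact fun _ => ⟨1, one_mem _, hone⟩
    | cons a w ih =>
        intro hw
        obtain ⟨y, hy, e⟩ := ih fun i hi => hw i (List.mem_cons_of_mem a hi)
        refine ⟨x ⟨a, hw a List.mem_cons_self⟩ * y, mul_mem (Subgroup.subset_closure ⟨_, rfl⟩) hy, ?_⟩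
        show enc (gen _ * y.1) = mulc _ (evalWord mulc one gs w).1
        rw [hmul, e, ← hgs]
  have htot : ∀ g, ∃ σ, (g, σ) ∈ Γ := by
    intro g
    obtain ⟨e, he, heg⟩ := List.mem_map.1 (hall g)
    rw [htab] at he
    obtain ⟨w, hw, rfl⟩ := List.mem_map.1 he
    obtain ⟨y, hy, e⟩ := hword w fun i hi => hlen ▸ hws w hw i hi
    refine ⟨y.2, ?_⟩
    rwa [← henc (e.trans heg)]
  choose f hf using htot
  have hfH : ∀ g, f g ∈ H := by
    intro g
    have hle : Γ ≤ Subgroup.comap (MonoidHom.snd G (Equiv.Perm GolayPt)) H := by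
      rw [hΓ, Subgroup.closure_le]
      rintro _ ⟨i, rfl⟩
      exact (hH i).2
    exact hle (hf g)
  refine ⟨MonoidHom.mk' (fun g => ⟨f g, hfH g⟩) fun a b => Subtype.ext (hfun (hf (a * b)) ?_),
    fun g => hΓT _ (hf g), fun i => hfun (hf (gen i)) (Subgroup.subset_closure ⟨i, rfl⟩)⟩
  exact mul_mem (hf a) (hf b)

/-- entries of the table that act trivially -/
def trivKeys (bkt : List (List (ℕ × List ℕ))) : List ℕ := (bkt.flatten.filter fun e => e.2 == idList).map Prod.fst

/-- lists in the table have standard form -/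
theorem tab_lists {mulc : ℕ → ℕ → ℕ} {one : ℕ} {gs : List (ℕ × List ℕ)} {ws : List (List ℕ)}
    {bkt : List (List (ℕ × List ℕ))} (h : TabOk mulc one gs ws bkt) :
    ∀ e ∈ bkt.flatten, e.2.length = 24 := by
  simp only [TabOk, wordsOk, Bool.and_eq_true, beq_iff_eq] at h
  rw [h.1.1.1.1]
  intro e he
  obtain ⟨w, -, rfl⟩ := List.mem_map.1 he
  cases w with
  | nil => simp [evalWord, idList]
  | cons a w => simp [evalWord, lmul]

theorem triv_of_rep {mulc : ℕ → ℕ → ℕ} {one : ℕ} {gs : List (ℕ × List ℕ)} {ws : List (List ℕ)}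
    {bkt : List (List (ℕ × List ℕ))} (h : TabOk mulc one gs ws bkt) {c : ℕ} {l : List ℕ} (he : (c, l) ∈ bkt.flatten)
    (hr : Rep 1 l) : c ∈ trivKeys bkt := by
  refine List.mem_map.2 ⟨(c, l), List.mem_filter.2 ⟨he, beq_iff_eq.2 ?_⟩, rfl⟩
  refine List.ext_getElem (by rw [tab_lists h _ he]; simp [idList]) fun i h1 h2 => ?_
  have hi : i < 24 := by simpa [idList] using h2
  have := hr (pt i)
  rw [idx_pt i hi, Equiv.Perm.one_apply, idx_pt i hi, List.getD_eq_getElem _ _ h1] at this
  rw [this]
  simp [idList]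

end Cfsg.Agent.Spor.Table
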