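import Cfsg.Prelude.Def_Spor_J3

/-!
Vectors of length nine over the field with four elements, and square matrices on them, as packed numbers.
-/

set_option autoImplicit false

namespace Cfsg.Agent.Spor.J3Cert

open Cfsg Matrix

/-- a bit -/
def bitN (v i : ℕ) : Bool := Nat.beq (Nat.land (Nat.shiftRight v i) 1) 1

/-- a column -/
def colN (M z : ℕ) : ℕ := Nat.land (Nat.shiftRight M (Nat.mul 18 z)) 262143

/-- multiplication by the cube root of unity -/
def wmN (v : ℕ) : ℕ :=
  Nat.lor (Nat.shiftRight v 9)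
    (Nat.shiftLeft (Nat.xor (Nat.land v 511) (Nat.shiftRight v 9)) 9)

/-- the contribution of one column -/
def stepV (M v z r : ℕ) : ℕ :=
  Nat.xor (Nat.xor (bif bitN v z then colN M z else 0)
    (bif bitN v (Nat.add 9 z) then wmN (colN M z) else 0)) r

/-- matrix times vector -/
def mvN (M v : ℕ) : ℕ := (List.range 9).foldr (stepV M v) 0

/-- multiplication by a scalar number -/
def sclN (c v : ℕ) : ℕ :=
  bif Nat.beq c 1 then v else bif Nat.beq c 2 then wmN v else wmN (wmN v)

/-- parity of the support -/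
def parN (v : ℕ) : Bool :=
  (List.range 9).foldr (fun z r => xor (bitN v z || bitN v (Nat.add 9 z)) r) false

/-- the lowest nonzero entry is one -/
def isNormN (v : ℕ) : Bool :=
  (fun m => (fun low => !Nat.beq low 0 && !Nat.beq (Nat.land v low) 0 &&
      Nat.beq (Nat.land (Nat.shiftRight v 9) low) 0)
    (Nat.xor m (Nat.land m (Nat.sub m 1))))
  (Nat.lor (Nat.land v 511) (Nat.shiftRight v 9))

/-- the first matrix times the second is the third -/
def mulOK (A B C : ℕ) : Bool := (List.range 9).all fun z => Nat.beq (mvN A (colN B z)) (colN C z)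

/-- two products agree -/
def mul22OK (A B C D : ℕ) : Bool :=
  (List.range 9).all fun z => Nat.beq (mvN A (colN B z)) (mvN C (colN D z))

/-- a product of two and a product of three agree -/
def mul23OK (A B C D E : ℕ) : Bool :=
  (List.range 9).all fun z => Nat.beq (mvN A (colN B z)) (mvN C (mvN D (colN E z)))

theorem bitN_eq (v i : ℕ) : bitN v i = v.testBit i := by
  show Nat.beq ((v >>> i) &&& 1) 1 = v.testBit i
  rw [Nat.and_one_is_mod, Nat.testBit_eq_decide_div_mod_eq, Nat.shiftRight_eq_div_pow,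
    Bool.eq_iff_iff, Nat.beq_eq, decide_eq_true_eq]

theorem colN_lt (M z : ℕ) : colN M z < 262144 :=
  Nat.lt_succ_of_le Nat.and_le_right

theorem testBit_high {v : ℕ} (hv : v < 262144) {i : ℕ} (hi : 18 ≤ i) : v.testBit i = false :=
  Nat.testBit_lt_two_pow (lt_of_lt_of_le (show v < 2 ^ 18 from hv) (Nat.pow_le_pow_right two_pos hi))

theorem colN_bit (M z : ℕ) {i : ℕ} (hi : i < 18) : (colN M z).testBit i = M.testBit (18 * z + i) := by
  show ((M >>> (18 * z)) &&& 262143).testBit i = _
  rw [Nat.testBit_and, Nat.testBit_shiftRight, show (262143 : ℕ) = 2 ^ 18 - 1 from rfl,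
    Nat.testBit_two_pow_sub_one, decide_eq_true hi, Bool.and_true]

theorem wmN_low (v : ℕ) {i : ℕ} (hi : i < 9) : (wmN v).testBit i = v.testBit (9 + i) := by
  show ((v >>> 9) ||| (((v &&& 511) ^^^ (v >>> 9)) <<< 9)).testBit i = _
  rw [Nat.testBit_or, Nat.testBit_shiftRight, Nat.testBit_shiftLeft,
    decide_eq_false (show ¬ i ≥ 9 by omega), Bool.false_and, Bool.or_false]

theorem wmN_high {v : ℕ} (hv : v < 262144) {i : ℕ} (hi : i < 9) :
    (wmN v).testBit (9 + i) = xor (v.testBit i) (v.testBit (9 + i)) := by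
  show ((v >>> 9) ||| (((v &&& 511) ^^^ (v >>> 9)) <<< 9)).testBit (9 + i) = _
  rw [Nat.testBit_or, Nat.testBit_shiftRight, testBit_high hv (by omega), Nat.testBit_shiftLeft,
    decide_eq_true (show 9 + i ≥ 9 by omega), Nat.testBit_xor, Nat.add_sub_cancel_left,
    Nat.testBit_and, Nat.testBit_shiftRight, show (511 : ℕ) = 2 ^ 9 - 1 from rfl,
    Nat.testBit_two_pow_sub_one, decide_eq_true hi, Bool.and_true, Bool.false_or, Bool.true_and]

theorem wmN_lt {v : ℕ} (hv : v < 262144) : wmN v < 262144 := by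
  show (v >>> 9) ||| (((v &&& 511) ^^^ (v >>> 9)) <<< 9) < 2 ^ 18
  have h : v >>> 9 < 2 ^ 9 := by rw [Nat.shiftRight_eq_div_pow]; omega
  refine Nat.or_lt_two_pow (lt_of_lt_of_le h (by norm_num)) ?_
  rw [Nat.shiftLeft_eq]
  have := Nat.xor_lt_two_pow (n := 9) (lt_of_le_of_lt Nat.and_le_right (by norm_num : 511 < 2 ^ 9))
    (y := v >>> 9) h (x := v &&& 511)
  omega

theorem sclN_lt {c v : ℕ} (hv : v < 262144) : sclN c v < 262144 := by
  unfold sclN
  cases Nat.beq c 1 <;> cases Nat.beq c 2 <;> simp only [cond_true, cond_false] <;>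
    first | exact hv | exact wmN_lt hv | exact wmN_lt (wmN_lt hv)

theorem mvN_lt (M v : ℕ) : mvN M v < 262144 := by
  unfold mvN
  induction List.range 9 with
  | nil => simp
  | cons z l ih =>
    rw [List.foldr_cons]
    show Nat.xor (Nat.xor _ _) _ < 2 ^ 18
    refine Nat.xor_lt_two_pow (Nat.xor_lt_two_pow ?_ ?_) ih
    · cases bitN v z <;> simp [colN_lt]
    · cases bitN v (Nat.add 9 z) <;> simp [wmN_lt, colN_lt]

/-- place of a basis index -/
def idx (z : Spor.F9) : ℕ := 3 * z.1.val + z.2.val

/-- basis index at a place -/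
def pt (i : ℕ) : Spor.F9 := (((i / 3 : ℕ) : ZMod 3), ((i % 3 : ℕ) : ZMod 3))

theorem idx_lt : ∀ z : Spor.F9, idx z < 9 := by decide
theorem idx_pt : ∀ i < 9, idx (pt i) = i := by decide
theorem pt_idx : ∀ z : Spor.F9, pt (idx z) = z := by decide

section field

variable {F : Type*} [Field F] (ω : F)

/-- a bit as a field element -/
def bitF (b : Bool) : F := bif b then 1 else 0

/-- two bits as a field element -/
def pairF (a b : Bool) : F := bitF a + bitF b * ω

/-- the vector of a number -/
def vecF (v : ℕ) : Spor.F9 → F := fun w => pairF ω (v.testBit (idx w)) (v.testBit (9 + idx w))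

/-- the matrix of a number -/
def matF (M : ℕ) : Matrix Spor.F9 Spor.F9 F := Matrix.of fun w z => vecF ω (colN M (idx z)) w

/-- a scalar number -/
def sclF (c : ℕ) : F := bif Nat.beq c 1 then 1 else bif Nat.beq c 2 then ω else ω * ω

theorem two_zero [Fintype F] (hF : Fintype.card F = 4) : (2 : F) = 0 := by
  have h : ((Fintype.card F : ℕ) : F) = 0 := FiniteField.cast_card_eq_zero F
  rw [hF] at h
  have : (2 : F) * 2 = 0 := by rw [← h]; norm_num
  exact (mul_self_eq_zero.1 this)

variable (h2 : (2 : F) = 0) (hω : ω ^ 2 + ω + 1 = 0)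

include h2 in
theorem bitF_xor (a b : Bool) : (bitF (xor a b) : F) = bitF a + bitF b := by
  cases a <;> cases b <;> simp only [bitF, Bool.xor_false, Bool.xor_true, Bool.not_false,
    Bool.not_true, Bool.false_xor, Bool.true_xor, cond_true, cond_false, add_zero, zero_add]
  rw [← h2]; norm_num

include h2 in
theorem vecF_xor (u v : ℕ) : vecF ω (u ^^^ v) = vecF ω u + vecF ω v := by
  funext w
  simp only [vecF, pairF, Nat.testBit_xor, bitF_xor h2, Pi.add_apply]
  ring

theorem vecF_zero : vecF ω 0 = 0 := by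
  funext w; simp [vecF, pairF, bitF]

include h2 hω in
theorem omega_sq : ω * ω = ω + 1 := by
  linear_combination hω - (ω + 1) * h2

include h2 hω in
theorem vecF_wm {v : ℕ} (hv : v < 262144) : vecF ω (wmN v) = ω • vecF ω v := by
  funext w
  simp only [vecF, pairF, wmN_low v (idx_lt w), wmN_high hv (idx_lt w), bitF_xor h2, Pi.smul_apply,
    smul_eq_mul]
  linear_combination -(bitF (v.testBit (9 + idx w)) : F) * omega_sq ω h2 hω

include h2 hω in
theorem vecF_scl (c : ℕ) {v : ℕ} (hv : v < 262144) : vecF ω (sclN c v) = sclF ω c • vecF ω v := by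
  unfold sclN sclF
  cases Nat.beq c 1 <;> cases Nat.beq c 2 <;> simp only [cond_true, cond_false, one_smul]
  · rw [vecF_wm ω h2 hω (wmN_lt hv), vecF_wm ω h2 hω hv, smul_smul]
  · exact vecF_wm ω h2 hω hv

include hω in
theorem omega_ne : ω ≠ 0 := fun e => by simp [e] at hω

include hω in
theorem sclF_ne (c : ℕ) : sclF ω c ≠ 0 := by
  unfold sclF
  cases Nat.beq c 1 <;> cases Nat.beq c 2 <;>
    simp [omega_ne ω hω]

theorem sum9 (f : Spor.F9 → F) : ∑ z, f z = ((List.range 9).map fun i => f (pt i)).sum := by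
  rw [← List.sum_toFinset _ (List.nodup_range)]
  refine Finset.sum_bij (fun z _ => idx z) (fun z _ => by simp [idx_lt z]) (fun a _ b _ e => ?_)
    (fun i hi => ⟨pt i, Finset.mem_univ _, idx_pt i (by simpa using hi)⟩) (fun z _ => by rw [pt_idx])
  rw [← pt_idx a, e, pt_idx]

include h2 hω in
theorem vecF_fold (M v : ℕ) (w : Spor.F9) : ∀ l : List ℕ,
    vecF ω (l.foldr (stepV M v) 0) w =
      (l.map fun z => pairF ω (v.testBit z) (v.testBit (9 + z)) * vecF ω (colN M z) w).sum
  | [] => by simp [vecF_zero]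
  | z :: l => by
    rw [List.foldr_cons, List.map_cons, List.sum_cons, ← vecF_fold M v w l]
    show vecF ω (((bif bitN v z then colN M z else 0) ^^^
      (bif bitN v (9 + z) then wmN (colN M z) else 0)) ^^^ _) w = _
    rw [vecF_xor ω h2, vecF_xor ω h2, Pi.add_apply, Pi.add_apply, bitN_eq, bitN_eq]
    congr 1
    cases v.testBit z <;> cases v.testBit (9 + z) <;>
      simp only [cond_true, cond_false, vecF_zero, vecF_wm ω h2 hω (colN_lt M z), Pi.zero_apply,
        Pi.smul_apply, smul_eq_mul, pairF, bitF] <;> ring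

include h2 hω in
theorem vecF_mv (M v : ℕ) : vecF ω (mvN M v) = matF ω M *ᵥ vecF ω v := by
  funext w
  rw [mvN, vecF_fold ω h2 hω, Matrix.mulVec, dotProduct, sum9]
  refine congrArg List.sum (List.map_congr_left fun i hi => ?_)
  have hi' := List.mem_range.1 hi
  rw [matF, Matrix.of_apply]
  show _ = vecF ω (colN M (idx (pt i))) w * pairF ω (v.testBit (idx (pt i))) (v.testBit (9 + idx (pt i)))
  rw [idx_pt i hi', mul_comm]

theorem mul_vec_col (A : Matrix Spor.F9 Spor.F9 F) (B : ℕ) (w z : Spor.F9) :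
    (A * matF ω B) w z = (A *ᵥ vecF ω (colN B (idx z))) w := rfl

include h2 hω in
theorem mulOK_spec {A B C : ℕ} (h : mulOK A B C = true) : matF ω A * matF ω B = matF ω C := by
  ext w z
  rw [mul_vec_col, ← vecF_mv ω h2 hω,
    Nat.eq_of_beq_eq_true (List.all_eq_true.1 h (idx z) (List.mem_range.2 (idx_lt z)))]
  rfl

include h2 hω in
theorem mul22OK_spec {A B C D : ℕ} (h : mul22OK A B C D = true) :
    matF ω A * matF ω B = matF ω C * matF ω D := by
  ext w z
  rw [mul_vec_col, mul_vec_col, ← vecF_mv ω h2 hω, ← vecF_mv ω h2 hω,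
    Nat.eq_of_beq_eq_true (List.all_eq_true.1 h (idx z) (List.mem_range.2 (idx_lt z)))]

include h2 hω in
theorem mul23OK_spec {A B C D E : ℕ} (h : mul23OK A B C D E = true) :
    matF ω A * matF ω B = matF ω C * (matF ω D * matF ω E) := by
  ext w z
  rw [← Matrix.mul_assoc, mul_vec_col, mul_vec_col, ← Matrix.mulVec_mulVec, ← vecF_mv ω h2 hω,
    ← vecF_mv ω h2 hω, ← vecF_mv ω h2 hω,
    Nat.eq_of_beq_eq_true (List.all_eq_true.1 h (idx z) (List.mem_range.2 (idx_lt z)))]

include hω in
theorem omega_ne_one (h2 : (2 : F) = 0) : ω ≠ 1 := fun e => by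
  subst e
  exact one_ne_zero (α := F) (by linear_combination hω - h2)

include h2 hω in
theorem pairF_inj {a b c d : Bool} (h : pairF ω a b = pairF ω c d) : a = c ∧ b = d := by
  have e1 := omega_ne ω hω
  have e2 := omega_ne_one ω hω h2
  have e3 : (1 : F) + ω ≠ 0 := fun e => e2 (by linear_combination e - h2)
  have e4 : (1 : F) + ω ≠ 1 := fun e => e1 (by linear_combination e)
  have e5 : (1 : F) + ω ≠ ω := fun e => one_ne_zero (α := F) (by linear_combination e)
  cases a <;> cases b <;> cases c <;> cases d <;>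
    simp only [pairF, bitF, cond_true, cond_false, one_mul, zero_mul, add_zero, zero_add] at h <;>
    first
    | exact ⟨rfl, rfl⟩
    | exact absurd h one_ne_zero
    | exact absurd h.symm one_ne_zero
    | exact absurd h e1
    | exact absurd h.symm e1
    | exact absurd h e2
    | exact absurd h.symm e2
    | exact absurd h e3
    | exact absurd h.symm e3
    | exact absurd h e4
    | exact absurd h.symm e4
    | exact absurd h e5
    | exact absurd h.symm e5

include h2 hω in
theorem vecF_inj {u v : ℕ} (hu : u < 262144) (hv : v < 262144) (h : vecF ω u = vecF ω v) : u = v := by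
  refine Nat.eq_of_testBit_eq fun i => ?_
  rcases Nat.lt_or_ge i 9 with h9 | h9
  · have := (pairF_inj ω h2 hω (congrFun h (pt i))).1
    rwa [idx_pt i h9] at this
  rcases Nat.lt_or_ge i 18 with h18 | h18
  · have := (pairF_inj ω h2 hω (congrFun h (pt (i - 9)))).2
    rwa [idx_pt (i - 9) (by omega), show 9 + (i - 9) = i by omega] at this
  · rw [testBit_high hu h18, testBit_high hv h18]

include h2 hω in
theorem vecF_surj [Fintype F] (hF : Fintype.card F = 4) (f : Spor.F9 → F) :
    ∃ v, v < 262144 ∧ vecF ω v = f := by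
  classical
  have hb : Function.Bijective (fun v : Fin 262144 => vecF ω (v : ℕ)) := by
    rw [Fintype.bijective_iff_injective_and_card]
    refine ⟨fun a b e => Fin.ext (vecF_inj ω h2 hω a.2 b.2 e), ?_⟩
    rw [Fintype.card_fin, Fintype.card_fun, hF, Fintype.card_prod, ZMod.card]
    rfl
  obtain ⟨v, hv⟩ := hb.2 f
  exact ⟨v, v.2, hv⟩

include h2 hω in
theorem matF_inj {A B : ℕ} (hA : A < 2 ^ 162) (hB : B < 2 ^ 162) (h : matF ω A = matF ω B) : A = B := by
  refine Nat.eq_of_testBit_eq fun n => ?_
  rcases Nat.lt_or_ge n 162 with hn | hn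
  · have hc : colN A (n / 18) = colN B (n / 18) := by
      refine vecF_inj ω h2 hω (colN_lt _ _) (colN_lt _ _) (funext fun w => ?_)
      have := congrFun (congrFun h w) (pt (n / 18))
      rwa [matF, matF, Matrix.of_apply, Matrix.of_apply, idx_pt (n / 18) (by omega)] at this
    have e := congrArg (fun v => Nat.testBit v (n % 18)) hc
    simpa [colN_bit _ _ (Nat.mod_lt n (by norm_num : 18 > 0)), Nat.div_add_mod] using e
  · rw [Nat.testBit_lt_two_pow (lt_of_lt_of_le hA (Nat.pow_le_pow_right two_pos hn)),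
      Nat.testBit_lt_two_pow (lt_of_lt_of_le hB (Nat.pow_le_pow_right two_pos hn))]

include h2 hω in
theorem parN_spec (v : ℕ) : ∑ z : Spor.F9, (vecF ω v z) ^ 3 = bitF (parN v) := by
  have hc : ∀ a b : Bool, pairF ω a b ^ 3 = bitF (a || b) := by
    have h3 : ω ^ 3 = 1 := by linear_combination (ω - 1) * hω
    intro a b
    cases a <;> cases b <;> simp only [pairF, bitF, Bool.or_false, Bool.or_true, Bool.or_self,
      cond_true, cond_false, one_mul, zero_mul, add_zero, zero_add]
    · norm_num
    · exact h3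
    · norm_num
    · linear_combination h3 + 3 * hω - h2
  rw [sum9]
  show _ = bitF ((List.range 9).foldr _ false)
  have key : ∀ l : List ℕ, (∀ i ∈ l, i < 9) → (l.map fun i => vecF ω v (pt i) ^ 3).sum =
      bitF (l.foldr (fun z r => xor (bitN v z || bitN v (9 + z)) r) false) := by
    intro l hl
    induction l with
    | nil => simp [bitF]
    | cons i l ih =>
      rw [List.map_cons, List.sum_cons, List.foldr_cons, bitF_xor h2,
        ih fun j hj => hl j (List.mem_cons_of_mem _ hj), vecF, hc, idx_pt i (hl i (List.mem_cons_self ..)),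
        bitN_eq, bitN_eq]
  exact key _ fun i hi => List.mem_range.1 hi

end field

end Cfsg.Agent.Spor.J3Cert
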