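import Cfsg.Agent.Lib.Spor.J3Arith
import Cfsg.Agent.Lib.Spor.PermCert
import Cfsg.Agent.Lib.Spor.J3CosetData

/-!
Kernel checks on the certificate data for the triple cover of the third Janko group.
-/

set_option autoImplicit false
set_option maxRecDepth 100000
set_option Elab.async false

namespace Cfsg.Agent.Spor.J3Cert

open Cfsg.Agent.Spor.CC

/-- a step of a program -/
noncomputable def progOK (mat op : ℕ → ℕ) (n0 k : ℕ) : Bool :=
  Nat.blt k n0 || (Nat.blt (Nat.land (op k) 65535) k && Nat.blt (Nat.shiftRight (op k) 16) k &&
    mulOK (mat (Nat.land (op k) 65535)) (mat (Nat.shiftRight (op k) 16)) (mat k))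

/-- a generator of order 19, by its number -/
def genN (k : ℕ) : ℕ := bif Nat.beq k 0 then gen0 else gen1
/-- a generator of the subgroup of index 6156 -/
def kgenN (k : ℕ) : ℕ := bif Nat.beq k 0 then kgen0 else kgen1
/-- a generator of the inner subgroup -/
def lgenN (k : ℕ) : ℕ := bif Nat.beq k 0 then lgen0 else lgen1
/-- a generator of the line stabiliser -/
def sgenN (k : ℕ) : ℕ := bif Nat.beq k 0 then sgen0 else sgen1

/-- the unit matrix -/
def idN : ℕ := (List.range 9).foldr (fun z r => Nat.lor (Nat.shiftLeft (Nat.shiftLeft 1 z) (Nat.mul 18 z)) r) 0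

/-- a step in the inner subgroup -/
noncomputable def lOK (i : ℕ) : Bool :=
  (fun e => Nat.blt e 1440 && mulOK (lgenN (Nat.mod i 2)) (lTab (Nat.div i 2)) (lTab e)) (lEdge i)

/-- the tree in the inner subgroup -/
noncomputable def lTreeOK (a : ℕ) : Bool :=
  Nat.beq a 0 || (fun q => Nat.blt (Nat.land q 2047) a && Nat.blt (Nat.shiftRight q 11) 2 &&
    Nat.beq (lEdge (Nat.add (Nat.mul 2 (Nat.land q 2047)) (Nat.shiftRight q 11))) a) (lPar a)

/-- a step among the seventeen cosets -/
noncomputable def uOK (i : ℕ) : Bool :=
  (fun e => Nat.blt (Nat.land e 31) 17 && Nat.blt (Nat.shiftRight e 5) 1440 &&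
    mul22OK (kgenN (Nat.mod i 2)) (uTab (Nat.div i 2)) (uTab (Nat.land e 31)) (lTab (Nat.shiftRight e 5)))
    (uEdge i)

/-- the tree among the seventeen cosets -/
noncomputable def uTreeOK (a : ℕ) : Bool :=
  Nat.beq a 0 || (fun q => Nat.blt (Nat.land q 31) a && Nat.blt (Nat.shiftRight q 5) 2 &&
    Nat.beq (Nat.land (uEdge (Nat.add (Nat.mul 2 (Nat.land q 31)) (Nat.shiftRight q 5))) 31) a) (uPar a)

/-- a step among the 6156 cosets -/
noncomputable def tOK (i : ℕ) : Bool :=
  (fun e => Nat.blt (Nat.land e 8191) 6156 && Nat.blt (Nat.land (Nat.shiftRight e 13) 31) 17 &&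
    Nat.blt (Nat.shiftRight e 18) 1440 &&
    mul23OK (genN (Nat.mod i 2)) (tTab (Nat.div i 2)) (tTab (Nat.land e 8191))
      (uTab (Nat.land (Nat.shiftRight e 13) 31)) (lTab (Nat.shiftRight e 18))) (tEdge i)

theorem start_ok : lTab 0 = idN ∧ uTab 0 = idN ∧ tTab 0 = idN ∧ lOmega < 1440 ∧
    Nat.beq (lTab lOmega) ((List.range 9).foldr (fun z r =>
      Nat.lor (Nat.shiftLeft (wmN (Nat.shiftLeft 1 z)) (Nat.mul 18 z)) r) 0) = true := by decide +kernel

theorem prog_places : genAt.all (fun x => Nat.blt x onePLen) = true ∧
    defAt.all (fun x => Nat.blt x twoPLen) = true ∧ kAt.all (fun x => Nat.blt x twoPLen) = true ∧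
    sAt.all (fun x => Nat.blt x twoPLen) = true ∧ lAt.all (fun x => Nat.blt x threePLen) = true ∧
    defAt.length = 43 := by decide +kernel

theorem prog_inits : ∀ k < 2, Nat.beq (onePMat (genAt.getD k 0)) (genN k) = true ∧
    Nat.beq (twoPMat k) (genN k) = true ∧ Nat.beq (twoPMat (kAt.getD k 0)) (kgenN k) = true ∧
    Nat.beq (twoPMat (sAt.getD k 0)) (sgenN k) = true ∧ Nat.beq (threePMat k) (kgenN k) = true ∧
    Nat.beq (threePMat (lAt.getD k 0)) (lgenN k) = true := by decide +kernel

theorem def_same : ∀ k < 43, Nat.beq (twoPMat (defAt.getD k 0)) (onePMat k) = true := by decide +kernel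

theorem prog10 : rangeOK (progOK onePMat onePOp 43) 0 73 = true := by decide +kernel

theorem prog1_all : ∀ u < 73, (progOK onePMat onePOp 43) u = true := fun _ hu => all_range prog10 (Nat.zero_le _) (by omega)

theorem prog20 : rangeOK (progOK twoPMat twoPOp 2) 0 336 = true := by decide +kernel

theorem prog2_all : ∀ u < 336, (progOK twoPMat twoPOp 2) u = true := fun _ hu => all_range prog20 (Nat.zero_le _) (by omega)

theorem prog30 : rangeOK (progOK threePMat threePOp 2) 0 26 = true := by decide +kernel

theorem prog3_all : ∀ u < 26, (progOK threePMat threePOp 2) u = true := fun _ hu => all_range prog30 (Nat.zero_le _) (by omega)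

theorem lstep0 : rangeOK lOK 0 720 = true := by decide +kernel

theorem lstep1 : rangeOK lOK 720 720 = true := by decide +kernel

theorem lstep2 : rangeOK lOK 1440 720 = true := by decide +kernel

theorem lstep3 : rangeOK lOK 2160 720 = true := by decide +kernel

theorem lstep_all : ∀ u < 2880, lOK u = true := fun u hu => by
  by_cases h0 : u < 720
  · exact all_range lstep0 (by omega) (by omega)
  by_cases h1 : u < 1440
  · exact all_range lstep1 (by omega) (by omega)
  by_cases h2 : u < 2160
  · exact all_range lstep2 (by omega) (by omega)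
  exact all_range lstep3 (by omega) (by omega)

theorem ltree0 : rangeOK lTreeOK 0 1440 = true := by decide +kernel

theorem ltree_all : ∀ u < 1440, lTreeOK u = true := fun _ hu => all_range ltree0 (Nat.zero_le _) (by omega)

theorem ustep0 : rangeOK uOK 0 34 = true := by decide +kernel

theorem ustep_all : ∀ u < 34, uOK u = true := fun _ hu => all_range ustep0 (Nat.zero_le _) (by omega)

theorem utree0 : rangeOK uTreeOK 0 17 = true := by decide +kernel

theorem utree_all : ∀ u < 17, uTreeOK u = true := fun _ hu => all_range utree0 (Nat.zero_le _) (by omega)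

theorem tstep0 : rangeOK tOK 0 513 = true := by decide +kernel

theorem tstep1 : rangeOK tOK 513 513 = true := by decide +kernel

theorem tstep2 : rangeOK tOK 1026 513 = true := by decide +kernel

theorem tstep3 : rangeOK tOK 1539 513 = true := by decide +kernel

theorem tstep4 : rangeOK tOK 2052 513 = true := by decide +kernel

theorem tstep5 : rangeOK tOK 2565 513 = true := by decide +kernel

theorem tstep6 : rangeOK tOK 3078 513 = true := by decide +kernel

theorem tstep7 : rangeOK tOK 3591 513 = true := by decide +kernel

theorem tstep8 : rangeOK tOK 4104 513 = true := by decide +kernel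

theorem tstep9 : rangeOK tOK 4617 513 = true := by decide +kernel

theorem tstep10 : rangeOK tOK 5130 513 = true := by decide +kernel

theorem tstep11 : rangeOK tOK 5643 513 = true := by decide +kernel

theorem tstep12 : rangeOK tOK 6156 513 = true := by decide +kernel

theorem tstep13 : rangeOK tOK 6669 513 = true := by decide +kernel

theorem tstep14 : rangeOK tOK 7182 513 = true := by decide +kernel

theorem tstep15 : rangeOK tOK 7695 513 = true := by decide +kernel

theorem tstep16 : rangeOK tOK 8208 513 = true := by decide +kernel

theorem tstep17 : rangeOK tOK 8721 513 = true := by decide +kernel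

theorem tstep18 : rangeOK tOK 9234 513 = true := by decide +kernel

theorem tstep19 : rangeOK tOK 9747 513 = true := by decide +kernel

theorem tstep20 : rangeOK tOK 10260 513 = true := by decide +kernel

theorem tstep21 : rangeOK tOK 10773 513 = true := by decide +kernel

theorem tstep22 : rangeOK tOK 11286 513 = true := by decide +kernel

theorem tstep23 : rangeOK tOK 11799 513 = true := by decide +kernel

theorem tstep_all : ∀ u < 12312, tOK u = true := fun u hu => by
  by_cases h0 : u < 513
  · exact all_range tstep0 (by omega) (by omega)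
  by_cases h1 : u < 1026
  · exact all_range tstep1 (by omega) (by omega)
  by_cases h2 : u < 1539
  · exact all_range tstep2 (by omega) (by omega)
  by_cases h3 : u < 2052
  · exact all_range tstep3 (by omega) (by omega)
  by_cases h4 : u < 2565
  · exact all_range tstep4 (by omega) (by omega)
  by_cases h5 : u < 3078
  · exact all_range tstep5 (by omega) (by omega)
  by_cases h6 : u < 3591
  · exact all_range tstep6 (by omega) (by omega)
  by_cases h7 : u < 4104
  · exact all_range tstep7 (by omega) (by omega)
  by_cases h8 : u < 4617
  · exact all_range tstep8 (by omega) (by omega)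
  by_cases h9 : u < 5130
  · exact all_range tstep9 (by omega) (by omega)
  by_cases h10 : u < 5643
  · exact all_range tstep10 (by omega) (by omega)
  by_cases h11 : u < 6156
  · exact all_range tstep11 (by omega) (by omega)
  by_cases h12 : u < 6669
  · exact all_range tstep12 (by omega) (by omega)
  by_cases h13 : u < 7182
  · exact all_range tstep13 (by omega) (by omega)
  by_cases h14 : u < 7695
  · exact all_range tstep14 (by omega) (by omega)
  by_cases h15 : u < 8208
  · exact all_range tstep15 (by omega) (by omega)
  by_cases h16 : u < 8721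
  · exact all_range tstep16 (by omega) (by omega)
  by_cases h17 : u < 9234
  · exact all_range tstep17 (by omega) (by omega)
  by_cases h18 : u < 9747
  · exact all_range tstep18 (by omega) (by omega)
  by_cases h19 : u < 10260
  · exact all_range tstep19 (by omega) (by omega)
  by_cases h20 : u < 10773
  · exact all_range tstep20 (by omega) (by omega)
  by_cases h21 : u < 11286
  · exact all_range tstep21 (by omega) (by omega)
  by_cases h22 : u < 11799
  · exact all_range tstep22 (by omega) (by omega)
  exact all_range tstep23 (by omega) (by omega)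

end Cfsg.Agent.Spor.J3Cert
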