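import Cfsg.Agent.Lib.Spor.J3Arith
import Cfsg.Agent.Lib.Spor.PermCert
import Cfsg.Agent.Lib.Spor.J3LineData
import Cfsg.Agent.Lib.Spor.J3CosetCheck

/-!
Kernel checks on the certificate data for the triple cover of the third Janko group.
-/

set_option autoImplicit false
set_option maxRecDepth 100000
set_option Elab.async false

namespace Cfsg.Agent.Spor.J3Cert

open Cfsg.Agent.Spor.CC

/-- one line -/
noncomputable def lineOK (i : ℕ) : Bool :=
  (fun v => Nat.blt v 262144 && isNormN v && !isNormN (wmN v) && !isNormN (wmN (wmN v)) &&
    (Nat.beq i 0 && Nat.beq v 1 || (fun e => Nat.blt (Nat.land e 32767) 23256 &&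
      Nat.blt (Nat.shiftRight (linePar (Nat.land e 32767)) 18) (Nat.shiftRight e 18) &&
      Nat.beq (mvN (genN (Nat.land (Nat.shiftRight e 15) 1)) (lineTab (Nat.land e 32767)))
        (sclN (Nat.land (Nat.shiftRight e 16) 3) v)) (linePar i))) (lineTab i)

/-- the lines increase -/
noncomputable def lineSortOK (i : ℕ) : Bool := Nat.blt (lineTab i) (lineTab (Nat.add i 1))

/-- one element fixing the first line -/
noncomputable def stabOK (i : ℕ) : Bool :=
  (fun m => Nat.blt m (Nat.pow 2 162) && (Nat.beq (colN m 0) 1 || Nat.beq (colN m 0) (wmN 1) ||
      Nat.beq (colN m 0) (wmN (wmN 1))) &&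
    (Nat.beq i stabRoot && Nat.beq m idN || (fun e => Nat.blt (Nat.land e 8191) 6480 &&
      Nat.blt (Nat.shiftRight (stabPar (Nat.land e 8191)) 14) (Nat.shiftRight e 14) &&
      mulOK (sgenN (Nat.land (Nat.shiftRight e 13) 1)) (stabTab (Nat.land e 8191)) m) (stabPar i))) (stabTab i)

/-- the elements increase -/
noncomputable def stabSortOK (i : ℕ) : Bool := Nat.blt (stabTab i) (stabTab (Nat.add i 1))

theorem omega_ok : stabOmega < 6480 ∧ Nat.beq (stabTab stabOmega) ((List.range 9).foldr (fun z r =>
      Nat.lor (Nat.shiftLeft (wmN (Nat.shiftLeft 1 z)) (Nat.mul 18 z)) r) 0) = true := by decide +kernel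

theorem line0 : rangeOK lineOK 0 2000 = true := by decide +kernel

theorem line1 : rangeOK lineOK 2000 2000 = true := by decide +kernel

theorem line2 : rangeOK lineOK 4000 2000 = true := by decide +kernel

theorem line3 : rangeOK lineOK 6000 2000 = true := by decide +kernel

theorem line4 : rangeOK lineOK 8000 2000 = true := by decide +kernel

theorem line5 : rangeOK lineOK 10000 2000 = true := by decide +kernel

theorem line6 : rangeOK lineOK 12000 2000 = true := by decide +kernel

theorem line7 : rangeOK lineOK 14000 2000 = true := by decide +kernel

theorem line8 : rangeOK lineOK 16000 2000 = true := by decide +kernel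

theorem line9 : rangeOK lineOK 18000 2000 = true := by decide +kernel

theorem line10 : rangeOK lineOK 20000 2000 = true := by decide +kernel

theorem line11 : rangeOK lineOK 22000 1256 = true := by decide +kernel

theorem line_all : ∀ u < 23256, lineOK u = true := fun u hu => by
  by_cases h0 : u < 2000
  · exact all_range line0 (by omega) (by omega)
  by_cases h1 : u < 4000
  · exact all_range line1 (by omega) (by omega)
  by_cases h2 : u < 6000
  · exact all_range line2 (by omega) (by omega)
  by_cases h3 : u < 8000
  · exact all_range line3 (by omega) (by omega)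
  by_cases h4 : u < 10000
  · exact all_range line4 (by omega) (by omega)
  by_cases h5 : u < 12000
  · exact all_range line5 (by omega) (by omega)
  by_cases h6 : u < 14000
  · exact all_range line6 (by omega) (by omega)
  by_cases h7 : u < 16000
  · exact all_range line7 (by omega) (by omega)
  by_cases h8 : u < 18000
  · exact all_range line8 (by omega) (by omega)
  by_cases h9 : u < 20000
  · exact all_range line9 (by omega) (by omega)
  by_cases h10 : u < 22000
  · exact all_range line10 (by omega) (by omega)
  exact all_range line11 (by omega) (by omega)

theorem linesort0 : rangeOK lineSortOK 0 6000 = true := by decide +kernel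

theorem linesort1 : rangeOK lineSortOK 6000 6000 = true := by decide +kernel

theorem linesort2 : rangeOK lineSortOK 12000 6000 = true := by decide +kernel

theorem linesort3 : rangeOK lineSortOK 18000 5255 = true := by decide +kernel

theorem linesort_all : ∀ u < 23255, lineSortOK u = true := fun u hu => by
  by_cases h0 : u < 6000
  · exact all_range linesort0 (by omega) (by omega)
  by_cases h1 : u < 12000
  · exact all_range linesort1 (by omega) (by omega)
  by_cases h2 : u < 18000
  · exact all_range linesort2 (by omega) (by omega)
  exact all_range linesort3 (by omega) (by omega)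

theorem stab0 : rangeOK stabOK 0 1080 = true := by decide +kernel

theorem stab1 : rangeOK stabOK 1080 1080 = true := by decide +kernel

theorem stab2 : rangeOK stabOK 2160 1080 = true := by decide +kernel

theorem stab3 : rangeOK stabOK 3240 1080 = true := by decide +kernel

theorem stab4 : rangeOK stabOK 4320 1080 = true := by decide +kernel

theorem stab5 : rangeOK stabOK 5400 1080 = true := by decide +kernel

theorem stab_all : ∀ u < 6480, stabOK u = true := fun u hu => by
  by_cases h0 : u < 1080
  · exact all_range stab0 (by omega) (by omega)
  by_cases h1 : u < 2160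
  · exact all_range stab1 (by omega) (by omega)
  by_cases h2 : u < 3240
  · exact all_range stab2 (by omega) (by omega)
  by_cases h3 : u < 4320
  · exact all_range stab3 (by omega) (by omega)
  by_cases h4 : u < 5400
  · exact all_range stab4 (by omega) (by omega)
  exact all_range stab5 (by omega) (by omega)

theorem stabsort0 : rangeOK stabSortOK 0 3240 = true := by decide +kernel

theorem stabsort1 : rangeOK stabSortOK 3240 3239 = true := by decide +kernel

theorem stabsort_all : ∀ u < 6479, stabSortOK u = true := fun u hu => by
  by_cases h0 : u < 3240
  · exact all_range stabsort0 (by omega) (by omega)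
  exact all_range stabsort1 (by omega) (by omega)

end Cfsg.Agent.Spor.J3Cert
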