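import Mathlib

/-!
A group generated by elements of prime order `p` is simple when the `p`-part is `p` and no prime power
dividing the order is one modulo `p`, provided the centre is trivial.
-/

set_option autoImplicit false

namespace Cfsg.Agent.Spor.PrimeGen

open MulAction Subgroup
open scoped Pointwise

variable {G : Type*} [Group G] [Finite G] {p : ℕ} [Fact p.Prime]

theorem commute_of_coprime (N : Subgroup G) [N.Normal] (hpN : ¬ p ∣ Nat.card N)
    (hcop : ∀ r m : ℕ, r.Prime → r ≠ p → r ^ m ∣ Nat.card N → r ^ m % p = 1 → m = 0)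
    {s : G} (hs : s ^ p = 1) : N ≤ Subgroup.centralizer {s} := by
  classical
  have hp : p.Prime := Fact.out
  set P := Subgroup.zpowers s with hP
  have hPg : IsPGroup p P := fun q => ⟨1, Subtype.ext (by
    obtain ⟨i, hi⟩ := Subgroup.mem_zpowers_iff.1 q.2
    rw [pow_one, SubmonoidClass.coe_pow, ← hi, OneMemClass.coe_one, ← zpow_natCast (s ^ i), ← zpow_mul,
      mul_comm i, zpow_mul, zpow_natCast, hs, one_zpow])⟩
  letI : MulDistribMulAction P N :=
    MulDistribMulAction.compHom N ((MulAut.conjNormal (H := N)).comp P.subtype)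
  have hsm : ∀ (q : P) (n : N), ((q • n : N) : G) = (q : G) * n * (q : G)⁻¹ := fun q n =>
    MulAut.conjNormal_apply (q : G) n
  set Cn := (Subgroup.centralizer ({s} : Set G)).subgroupOf N with hCn
  suffices h : Cn = ⊤ by exact Subgroup.subgroupOf_eq_top.1 h
  refine Subgroup.eq_top_of_card_eq _ (Nat.dvd_antisymm (Subgroup.card_subgroup_dvd_card _) ?_)
  refine (Nat.factorization_le_iff_dvd Nat.card_pos.ne' Nat.card_pos.ne').1 fun r => ?_
  by_cases hr : r.Prime
  swap
  · simp [Nat.factorization_eq_zero_of_not_prime _ hr]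
  by_cases hrN : r ∣ Nat.card N
  swap
  · simp [Nat.factorization_eq_zero_of_not_dvd hrN]
  haveI := Fact.mk hr
  have hrp : r ≠ p := fun e => hpN (e ▸ hrN)
  have hfix : (fixedPoints P (Sylow r N)).Nonempty := by
    refine hPg.nonempty_fixed_point_of_prime_not_dvd_card _ fun h => hpN ?_
    obtain ⟨R⟩ : Nonempty (Sylow r N) := inferInstance
    exact h.trans (R.card_dvd_index.trans (Subgroup.index_dvd_card _))
  obtain ⟨R, hR⟩ := hfix
  have hmem : ∀ (q : P) (a : N), a ∈ (R : Subgroup N) → q • a ∈ (R : Subgroup N) := fun q a ha => by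
    have e := hR q
    have : q • a ∈ ((q • R : Sylow r N) : Subgroup N) := by
      rw [Sylow.pointwise_smul_def]
      exact Subgroup.smul_mem_pointwise_smul a q _ ha
    rwa [e] at this
  letI : MulAction P (R : Subgroup N) :=
    { smul := fun q a => ⟨q • (a : N), hmem q a a.2⟩
      one_smul := fun a => Subtype.ext (one_smul P (a : N))
      mul_smul := fun q q' a => Subtype.ext (mul_smul q q' (a : N)) }
  obtain ⟨k, hk⟩ := IsPGroup.iff_card.1 R.2
  obtain ⟨j, hj⟩ := IsPGroup.iff_card.1 (R.2.to_le (inf_le_left (b := Cn)))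
  have hfixe : Nat.card (fixedPoints P (R : Subgroup N)) = Nat.card ((R : Subgroup N) ⊓ Cn : Subgroup N) := by
    refine Nat.card_congr
      { toFun := fun a => ⟨a.1.1, a.1.2, ?_⟩
        invFun := fun a => ⟨⟨a.1, a.2.1⟩, fun q => ?_⟩
        left_inv := fun _ => rfl
        right_inv := fun _ => rfl }
    · have e := congrArg (fun x : (R : Subgroup N) => ((x : N) : G))
        (a.2 ⟨s, Subgroup.mem_zpowers s⟩)
      change ((((⟨s, _⟩ : P) • (a.1 : N)) : N) : G) = ((a.1 : N) : G) at e
      rw [hsm, mul_inv_eq_iff_eq_mul] at e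
      exact Subgroup.mem_centralizer_singleton_iff.2 e.symm
    · refine Subtype.ext (Subtype.ext ?_)
      show ((q • (a : N) : N) : G) = ((a : N) : G)
      rw [hsm]
      obtain ⟨i, hi⟩ := Subgroup.mem_zpowers_iff.1 q.2
      have hc : Commute ((a : N) : G) s := Subgroup.mem_centralizer_singleton_iff.1 a.2.2
      rw [← hi, (hc.symm.zpow_left i).eq, mul_inv_cancel_right]
  have hmod := hPg.card_modEq_card_fixedPoints ((R : Subgroup N) : Subgroup N)
  rw [hfixe, hk, hj] at hmod
  have hjk : j ≤ k := by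
    have := Subgroup.card_dvd_of_le (inf_le_left : (R : Subgroup N) ⊓ Cn ≤ _)
    rw [hk, hj] at this
    exact (Nat.pow_dvd_pow_iff_le_right hr.one_lt).1 this
  have hone : r ^ (k - j) % p = 1 := by
    have hcp : Nat.gcd p (r ^ j) = 1 :=
      Nat.Coprime.pow_right _ ((Nat.coprime_primes hp hr).2 hrp.symm)
    have h1 : r ^ (k - j) * r ^ j ≡ 1 * r ^ j [MOD p] := by
      rw [one_mul, ← pow_add, Nat.sub_add_cancel hjk]; exact hmod
    have h2 := Nat.ModEq.cancel_right_of_coprime hcp h1
    rw [Nat.ModEq, Nat.one_mod_eq_one.2 hp.ne_one] at h2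
    exact h2
  have h0 := hcop r (k - j) hr hrp
    ((Nat.pow_dvd_pow r (Nat.sub_le k j)).trans (hk ▸ Subgroup.card_subgroup_dvd_card _)) hone
  have heq : (R : Subgroup N) ⊓ Cn = R :=
    Subgroup.eq_of_le_of_card_ge inf_le_left (by rw [hk, hj]; exact Nat.pow_le_pow_right hr.pos (by omega))
  have hd : r ^ (Nat.card N).factorization r ∣ Nat.card Cn := by
    rw [← R.card_eq_multiplicity]
    exact Subgroup.card_dvd_of_le (heq ▸ inf_le_right)
  exact (hr.pow_dvd_iff_le_factorization Nat.card_pos.ne').1 hd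

theorem isSimpleGroup [Nontrivial G] (hp2 : ¬ p * p ∣ Nat.card G)
    (hcop : ∀ r m : ℕ, r.Prime → r ≠ p → r ^ m ∣ Nat.card G → r ^ m % p = 1 → m = 0)
    (S : Set G) (hS : Subgroup.closure S = ⊤) (hSp : ∀ s ∈ S, s ^ p = 1)
    (hZ : Subgroup.center G = ⊥) : IsSimpleGroup G := by
  have hp : p.Prime := Fact.out
  refine IsSimpleGroup.mk fun N hN => ?_
  by_cases hpN : p ∣ Nat.card N
  · refine Or.inr (eq_top_iff.2 (hS ▸ (Subgroup.closure_le N).2 fun s hs => ?_))
    obtain ⟨x, hx⟩ := exists_prime_orderOf_dvd_card' p hpN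
    have hxo : orderOf (x : G) = p := by rw [Subgroup.orderOf_coe, hx]
    by_cases hs1 : s = 1
    · rw [hs1]; exact one_mem _
    have hfac : (Nat.card G).factorization p ≤ 1 := by
      by_contra h
      exact hp2 (by rw [← pow_two]; exact (hp.pow_dvd_iff_le_factorization Nat.card_pos.ne').2 (by omega))
    have hQ : ∀ y : G, orderOf y = p → ∃ Q : Sylow p G, (Q : Subgroup G) = Subgroup.zpowers y := by
      intro y hy
      obtain ⟨Q, hQ⟩ := (IsPGroup.of_card (n := 1) (by rw [Nat.card_zpowers, hy, pow_one]) :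
        IsPGroup p (Subgroup.zpowers y)).exists_le_sylow
      refine ⟨Q, (Subgroup.eq_of_le_of_card_ge hQ ?_).symm⟩
      rw [Q.card_eq_multiplicity, Nat.card_zpowers, hy]
      exact (Nat.pow_le_pow_right hp.pos hfac).trans (pow_one p).le
    obtain ⟨Q, hQe⟩ := hQ s (orderOf_eq_prime (hSp s hs) hs1)
    obtain ⟨Q', hQe'⟩ := hQ _ hxo
    obtain ⟨g, hg⟩ := MulAction.exists_smul_eq G Q' Q
    have hsQ : s ∈ ((g • Q' : Sylow p G) : Subgroup G) := by
      rw [hg, hQe]; exact Subgroup.mem_zpowers s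
    rw [Sylow.coe_subgroup_smul, Subgroup.mem_smul_pointwise_iff_exists] at hsQ
    obtain ⟨y, hy, rfl⟩ := hsQ
    rw [hQe'] at hy
    exact hN.conj_mem y ((Subgroup.zpowers_le.2 x.2) hy) g
  · refine Or.inl (eq_bot_iff.2 (hZ ▸ fun n hn => ?_))
    haveI := hN
    rw [← Subgroup.centralizer_univ, ← Subgroup.coe_top, ← hS, Subgroup.centralizer_closure,
      Subgroup.mem_centralizer_iff]
    intro s hs
    exact (Subgroup.mem_centralizer_singleton_iff.1 (commute_of_coprime N hpN
      (fun r m a b c d => hcop r m a b (c.trans (Subgroup.card_subgroup_dvd_card N)) d) (hSp s hs) hn)).symm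

end Cfsg.Agent.Spor.PrimeGen
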