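import Cfsg.Agent.Lib.Spor.J3CosetCheck
import Cfsg.Agent.Lib.Spor.J3LineCheck
import Cfsg.Agent.Lib.Spor.J3Simple
import Cfsg.Prelude.Def_Sporadic

/-!
The triple cover of the third Janko group: order, centre, simplicity of the quotient, and the action on
the cosets of a subgroup of index 6156.
-/

set_option autoImplicit false
set_option maxRecDepth 100000

namespace Cfsg.Agent.Spor.J3Cert

open Cfsg Matrix Cfsg.Agent.Spor.CC
open Cfsg.Spor (F9 threeJ3 j3Gens j3A j3E j3D j3B j3C j3Lam omegaPow)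

/-! ### the defining matrices -/

/-- an entry as two bits -/
def entB (M : ℕ) (w z : F9) : Bool × Bool :=
  (bitN (colN M (idx z)) (idx w), bitN (colN M (idx z)) (9 + idx w))

/-- a power of the cube root as two bits -/
def pwB (n : ZMod 3) : Bool × Bool :=
  if n = 0 then (true, false) else if n = 1 then (false, true) else (true, true)

/-- zero as two bits -/
def zB : Bool × Bool := (false, false)
/-- one as two bits -/
def oB : Bool × Bool := (true, false)

/-- the coefficient of a translation as two bits -/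
def lamB (Z z : F9) : Bool × Bool :=
  if z = 0 then oB
  else if Spor.F9.div Z z = Spor.F9.I - Spor.F9.one then (false, true)
  else if Spor.F9.div Z z = -Spor.F9.I - Spor.F9.one then (true, true)
  else oB

theorem defA : ∀ Z w z : F9, entB (onePMat (idx Z)) w z =
    if w = z then pwB (Z.1 * w.1 + Z.2 * w.2) else zB := by decide +kernel

theorem defE : ∀ Z w z : F9, entB (onePMat (9 + idx Z)) w z =
    if w = z then pwB ((Z.1 - w.1) ^ 2 + (Z.2 - w.2) ^ 2) else zB := by decide +kernel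

theorem defD : ∀ Z w z : F9, entB (onePMat (18 + idx Z)) w z =
    if w = z + Z then lamB Z z else zB := by decide +kernel

theorem defB : ∀ Z : F9, Z ≠ 0 → ∀ w z : F9, entB (onePMat (26 + idx Z)) w z =
    if w = Spor.F9.mul Z z then oB else zB := by decide +kernel

theorem defC : ∀ Z : F9, Z ≠ 0 → ∀ w z : F9, entB (onePMat (34 + idx Z)) w z =
    if z = 0 then (if w = 0 then oB else zB)
    else if w = -Spor.F9.div Z z ∨ w = Spor.F9.mul Spor.F9.I (Spor.F9.div Z z) ∨
      w = -Spor.F9.mul Spor.F9.I (Spor.F9.div Z z) then oB else zB := by decide +kernel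

theorem pt_ne : ∀ j < 9, 0 < j → pt j ≠ 0 := by decide

/-- the scalar of order three -/
def omN : ℕ := (List.range 9).foldr (fun z r =>
  Nat.lor (Nat.shiftLeft (wmN (Nat.shiftLeft 1 z)) (Nat.mul 18 z)) r) 0

theorem idN_ent : ∀ w z : F9, entB idN w z = if w = z then oB else zB := by decide +kernel
theorem omN_ent : ∀ w z : F9, entB omN w z = if w = z then (false, true) else zB := by decide +kernel
theorem single_ent : ∀ z w : F9, (bitN (Nat.shiftLeft 1 (idx z)) (idx w),
    bitN (Nat.shiftLeft 1 (idx z)) (9 + idx w)) = if w = z then oB else zB := by decide +kernel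

/-- the nineteenth power is one -/
def powOK (M : ℕ) : Bool :=
  (List.range 9).all fun z =>
    Nat.beq ((List.range 19).foldr (fun _ r => mvN M r) (Nat.shiftLeft 1 z)) (Nat.shiftLeft 1 z)

theorem gens_pow : ∀ k < 2, powOK (genN k) = true := by decide +kernel

theorem step_inj {f : ℕ → ℕ} {n : ℕ} (h : ∀ i, i + 1 < n → f i < f (i + 1)) {i j : ℕ} (hi : i < n)
    (hj : j < n) (e : f i = f j) : i = j := by
  have hlt : ∀ a b, a < b → b < n → f a < f b := by
    intro a b hab hb
    induction b with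
    | zero => omega
    | succ b ih =>
      rcases Nat.lt_succ_iff_lt_or_eq.mp hab with h' | h'
      · exact (ih h' (by omega)).trans (h b hb)
      · subst h'; exact h a hb
  rcases lt_trichotomy i j with h' | h' | h'
  · exact absurd e (hlt i j h' hj).ne
  · exact h'
  · exact absurd e.symm (hlt j i h' hi).ne

section group

variable {F : Type} [Field F] [Fintype F] [DecidableEq F] {ω : F}
variable (hF : Fintype.card F = 4) (hω : ω ^ 2 + ω + 1 = 0)

/-- two bits as a field element -/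
def pairP (ω : F) (p : Bool × Bool) : F := pairF ω p.1 p.2

omit [Fintype F] [DecidableEq F] in
theorem matF_entry (M : ℕ) (w z : F9) : matF ω M w z = pairP ω (entB M w z) := by
  simp [matF, vecF, pairP, entB, bitN_eq]

omit [Fintype F] [DecidableEq F] in
theorem pairP_zB : pairP ω zB = 0 := by simp [pairP, pairF, bitF, zB]

omit [Fintype F] [DecidableEq F] in
theorem pairP_oB : pairP ω oB = 1 := by simp [pairP, pairF, bitF, oB]

omit [DecidableEq F] in
include hF hω in
theorem pairP_pwB (n : ZMod 3) : pairP ω (pwB n) = omegaPow F ω n := by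
  have h2 := two_zero hF
  obtain rfl | rfl | rfl : n = 0 ∨ n = 1 ∨ n = 2 := by revert n; decide
  · simp [pwB, pairP, pairF, bitF, omegaPow]
  · rw [pwB, if_neg (by decide), if_pos rfl, omegaPow, show (1 : ZMod 3).val = 1 from rfl]
    simp [pairP, pairF, bitF]
  · rw [pwB, if_neg (by decide), if_neg (by decide), omegaPow, show (2 : ZMod 3).val = 2 from rfl]
    simp only [pairP, pairF, bitF, cond_true, one_mul]
    rw [pow_two, omega_sq ω h2 hω, add_comm]

omit [DecidableEq F] in
include hF hω in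
theorem mat_A (Z : F9) : matF ω (onePMat (idx Z)) = j3A F ω Z := by
  ext w z
  rw [matF_entry, defA, j3A, Matrix.diagonal_apply]
  split <;> simp [pairP_zB, pairP_pwB hF hω]

omit [DecidableEq F] in
include hF hω in
theorem mat_E (Z : F9) : matF ω (onePMat (9 + idx Z)) = j3E F ω Z := by
  ext w z
  rw [matF_entry, defE, j3E, Matrix.diagonal_apply]
  split <;> simp [pairP_zB, pairP_pwB hF hω]

omit [DecidableEq F] in
include hF hω in
theorem pairP_lamB (Z z : F9) : pairP ω (lamB Z z) = j3Lam F ω Z z := by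
  unfold lamB j3Lam
  split_ifs
  · exact pairP_oB
  · simp [pairP, pairF, bitF]
  · simp only [pairP, pairF, bitF, cond_true, one_mul]
    rw [pow_two, omega_sq ω (two_zero hF) hω, add_comm]
  · exact pairP_oB

omit [DecidableEq F] in
include hF hω in
theorem mat_D (Z : F9) : matF ω (onePMat (18 + idx Z)) = j3D F ω Z := by
  ext w z
  rw [matF_entry, defD, j3D, Matrix.of_apply]
  split <;> simp [pairP_zB, pairP_lamB hF hω]

omit [Fintype F] [DecidableEq F] in
theorem mat_B (Z : F9) (hZ : Z ≠ 0) : matF ω (onePMat (26 + idx Z)) = j3B F Z := by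
  ext w z
  rw [matF_entry, defB Z hZ, j3B, Matrix.of_apply]
  split <;> simp [pairP_zB, pairP_oB]

omit [Fintype F] [DecidableEq F] in
theorem mat_C (Z : F9) (hZ : Z ≠ 0) : matF ω (onePMat (34 + idx Z)) = j3C F Z := by
  ext w z
  rw [matF_entry, defC Z hZ, j3C, Matrix.of_apply]
  split_ifs <;> simp [pairP_zB, pairP_oB]

omit [DecidableEq F] in
include hF hω in
theorem mem_gens {k : ℕ} (hk : k < 43) : matF ω (onePMat k) ∈ j3Gens F ω := by
  unfold j3Gens
  rcases Nat.lt_or_ge k 9 with h1 | h1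
  · refine Or.inl (Or.inl (Or.inl (Or.inl ⟨pt k, ?_⟩)))
    rw [← mat_A hF hω, idx_pt k h1]
  rcases Nat.lt_or_ge k 18 with h2 | h2
  · refine Or.inl (Or.inl (Or.inl (Or.inr ⟨pt (k - 9), ?_⟩)))
    rw [← mat_E hF hω, idx_pt (k - 9) (by omega), show 9 + (k - 9) = k by omega]
  rcases Nat.lt_or_ge k 27 with h3 | h3
  · refine Or.inl (Or.inl (Or.inr ⟨pt (k - 18), ?_⟩))
    rw [← mat_D hF hω, idx_pt (k - 18) (by omega), show 18 + (k - 18) = k by omega]
  rcases Nat.lt_or_ge k 35 with h4 | h4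
  · refine Or.inl (Or.inr ⟨pt (k - 26), pt_ne _ (by omega) (by omega), ?_⟩)
    rw [← mat_B (ω := ω) _ (pt_ne _ (by omega) (by omega)), idx_pt (k - 26) (by omega),
      show 26 + (k - 26) = k by omega]
  · refine Or.inr ⟨pt (k - 34), pt_ne _ (by omega) (by omega), ?_⟩
    rw [← mat_C (ω := ω) _ (pt_ne _ (by omega) (by omega)), idx_pt (k - 34) (by omega),
      show 34 + (k - 34) = k by omega]

omit [DecidableEq F] in
include hF hω in
theorem of_gens {M : Matrix F9 F9 F} (h : M ∈ j3Gens F ω) : ∃ k < 43, M = matF ω (onePMat k) := by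
  have hi := idx_lt
  rcases h with (((⟨Z, rfl⟩ | ⟨Z, rfl⟩) | ⟨Z, rfl⟩) | ⟨Z, hZ, rfl⟩) | ⟨Z, hZ, rfl⟩
  · exact ⟨_, by have := hi Z; omega, (mat_A hF hω Z).symm⟩
  · exact ⟨_, by have := hi Z; omega, (mat_E hF hω Z).symm⟩
  · exact ⟨_, by have := hi Z; omega, (mat_D hF hω Z).symm⟩
  · exact ⟨_, by have := hi Z; omega, (mat_B Z hZ).symm⟩
  · exact ⟨_, by have := hi Z; omega, (mat_C Z hZ).symm⟩

omit [Fintype F] [DecidableEq F] in
theorem matF_id : matF ω idN = 1 := by
  ext w z
  rw [matF_entry, idN_ent, Matrix.one_apply]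
  split <;> simp [pairP_zB, pairP_oB]

omit [Fintype F] [DecidableEq F] in
theorem matF_om : matF ω omN = ω • (1 : Matrix F9 F9 F) := by
  ext w z
  rw [matF_entry, omN_ent, Matrix.smul_apply, Matrix.one_apply]
  split <;> simp [pairP, pairF, bitF, zB]

omit [Fintype F] [DecidableEq F] in
theorem vecF_single (z : F9) : vecF ω (Nat.shiftLeft 1 (idx z)) = Pi.single z 1 := by
  funext w
  have e := single_ent z w
  rw [bitN_eq, bitN_eq] at e
  show pairP ω ((Nat.shiftLeft 1 (idx z)).testBit (idx w), (Nat.shiftLeft 1 (idx z)).testBit (9 + idx w)) = _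
  rw [e, Pi.single_apply]
  split <;> simp [pairP_zB, pairP_oB]

omit [DecidableEq F] in
include hF hω in
theorem pow_of_ok {M : ℕ} (h : powOK M = true) : (matF ω M) ^ 19 = 1 := by
  have h2 := two_zero hF
  have key : ∀ (l : List ℕ) (v : ℕ), vecF ω (l.foldr (fun _ r => mvN M r) v) =
      (matF ω M) ^ l.length *ᵥ vecF ω v := by
    intro l v
    induction l with
    | nil => simp
    | cons a l ih => rw [List.foldr_cons, vecF_mv ω h2 hω, ih, List.length_cons, pow_succ',
        Matrix.mulVec_mulVec]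
  refine Matrix.ext_of_mulVec_single fun z => ?_
  rw [← vecF_single, Matrix.one_mulVec]
  have := key (List.range 19) (Nat.shiftLeft 1 (idx z))
  rw [List.length_range] at this
  rw [← this, Nat.eq_of_beq_eq_true (List.all_eq_true.1 h (idx z) (List.mem_range.2 (idx_lt z)))]

/-- the matrix of a number is that of a member of a subgroup -/
def InH (ω : F) (H : Subgroup (GL F9 F)) (M : ℕ) : Prop :=
  ∃ g ∈ H, (g : Matrix F9 F9 F) = matF ω M

omit [Fintype F] in
theorem InH.mono {H H' : Subgroup (GL F9 F)} (h : H ≤ H') {M : ℕ} : InH ω H M → InH ω H' M :=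
  fun ⟨g, hg, e⟩ => ⟨g, h hg, e⟩

include hF hω in
theorem prog_spec (H : Subgroup (GL F9 F)) (mat op : ℕ → ℕ) (n0 n : ℕ)
    (hok : ∀ u < n, progOK mat op n0 u = true) (h0 : ∀ k < n0, InH ω H (mat k)) :
    ∀ k < n, InH ω H (mat k) := by
  intro k
  induction k using Nat.strong_induction_on with
  | _ k ih =>
    intro hk
    by_cases hk0 : k < n0
    · exact h0 k hk0
    have h := hok k hk
    simp only [progOK, Bool.or_eq_true, Bool.and_eq_true] at h
    rcases h with h | ⟨⟨hi, hj⟩, hm⟩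
    · exact absurd (Nat.le_of_ble_eq_true h) hk0
    obtain ⟨a, ha, ea⟩ := ih _ (Nat.le_of_ble_eq_true hi) (lt_trans (Nat.le_of_ble_eq_true hi) hk)
    obtain ⟨b, hb, eb⟩ := ih _ (Nat.le_of_ble_eq_true hj) (lt_trans (Nat.le_of_ble_eq_true hj) hk)
    exact ⟨a * b, mul_mem ha hb, by rw [Units.val_mul, ea, eb, mulOK_spec ω (two_zero hF) hω hm]⟩

/-- the subgroup generated by the elements with the matrices of two numbers -/
def span2 (ω : F) (f : ℕ → ℕ) : Subgroup (GL F9 F) :=
  Subgroup.closure {g | ∃ k < 2, (g : Matrix F9 F9 F) = matF ω (f k)}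

include hF hω in
theorem gen_unit {k : ℕ} (hk : k < 2) : InH ω (span2 ω genN) (genN k) := by
  have h := pow_of_ok hF hω (gens_pow k hk)
  refine ⟨⟨matF ω (genN k), matF ω (genN k) ^ 18, ?_, ?_⟩, Subgroup.subset_closure ⟨k, hk, rfl⟩, rfl⟩
  · rw [← pow_succ', h]
  · rw [← pow_succ, h]

include hF hω in
theorem span_eq : threeJ3 F ω = span2 ω genN := by
  have hW : ∀ k < 336, InH ω (span2 ω genN) (twoPMat k) :=
    prog_spec hF hω _ _ _ 2 336 prog2_all fun k hk => by
      rw [Nat.eq_of_beq_eq_true (prog_inits k hk).2.1]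
      exact gen_unit hF hω hk
  have hdef : ∀ k < 43, InH ω (span2 ω genN) (onePMat k) := fun k hk => by
    have hlt : defAt.getD k 0 < twoPLen := by
      obtain ⟨-, h, -, -, -, hl⟩ := prog_places
      rw [List.getD_eq_getElem _ _ (hl ▸ hk)]
      exact Nat.le_of_ble_eq_true (List.all_eq_true.1 h _ (List.getElem_mem _))
    rw [← Nat.eq_of_beq_eq_true (def_same k hk)]
    exact hW _ hlt
  refine le_antisymm ((Subgroup.closure_le _).2 fun g hg => ?_) ((Subgroup.closure_le _).2 ?_)
  · obtain ⟨k, hk, e⟩ := of_gens hF hω hg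
    obtain ⟨g', hg', e'⟩ := hdef k hk
    rwa [show g = g' from Units.ext (e.trans e'.symm)]
  · rintro g ⟨k, hk, e⟩
    have hT : ∀ i < 73, InH ω (threeJ3 F ω) (onePMat i) :=
      prog_spec hF hω _ _ _ 43 73 prog1_all fun i hi => by
        obtain ⟨g', -, e'⟩ := hdef i hi
        exact ⟨g', Subgroup.subset_closure (show (g' : Matrix F9 F9 F) ∈ _ from e' ▸ mem_gens hF hω hi), e'⟩
    have hlt : genAt.getD k 0 < onePLen := by
      interval_cases k <;> decide
    obtain ⟨g', hg', e'⟩ := hT _ hlt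
    rw [Nat.eq_of_beq_eq_true (prog_inits k hk).1] at e'
    rwa [show g = g' from Units.ext (e.trans e'.symm)]

include hF hω in
theorem prog2_in {k : ℕ} (hk : k < 336) : InH ω (threeJ3 F ω) (twoPMat k) :=
  prog_spec hF hω _ _ _ 2 336 prog2_all (fun i hi => by
    rw [Nat.eq_of_beq_eq_true (prog_inits i hi).2.1, span_eq hF hω]
    exact gen_unit hF hω hi) k hk

include hF hω in
theorem kgen_in {k : ℕ} (hk : k < 2) : InH ω (threeJ3 F ω) (kgenN k) := by
  rw [← Nat.eq_of_beq_eq_true (prog_inits k hk).2.2.1]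
  exact prog2_in hF hω (by interval_cases k <;> decide)

include hF hω in
theorem sgen_in {k : ℕ} (hk : k < 2) : InH ω (threeJ3 F ω) (sgenN k) := by
  rw [← Nat.eq_of_beq_eq_true (prog_inits k hk).2.2.2.1]
  exact prog2_in hF hω (by interval_cases k <;> decide)

/-- the subgroup of index 6156 -/
abbrev Ksub (ω : F) : Subgroup (GL F9 F) := span2 ω kgenN

/-- the inner subgroup -/
abbrev Lsub (ω : F) : Subgroup (GL F9 F) := span2 ω lgenN

include hF hω in
theorem Ksub_le : Ksub ω ≤ threeJ3 F ω := (Subgroup.closure_le _).2 fun g ⟨k, hk, e⟩ => by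
  obtain ⟨g', hg', e'⟩ := kgen_in hF hω hk
  rwa [show g = g' from Units.ext (e.trans e'.symm)]

include hF hω in
theorem lgen_in {k : ℕ} (hk : k < 2) : InH ω (Ksub ω) (lgenN k) := by
  rw [← Nat.eq_of_beq_eq_true (prog_inits k hk).2.2.2.2.2]
  refine prog_spec hF hω _ _ _ 2 26 prog3_all (fun i hi => ?_) _ (by interval_cases k <;> decide)
  rw [Nat.eq_of_beq_eq_true (prog_inits i hi).2.2.2.2.1]
  obtain ⟨g, -, e⟩ := kgen_in hF hω hi
  exact ⟨g, Subgroup.subset_closure ⟨i, hi, e⟩, e⟩

include hF hω in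
theorem Lsub_le : Lsub ω ≤ Ksub ω := (Subgroup.closure_le _).2 fun g ⟨k, hk, e⟩ => by
  obtain ⟨g', hg', e'⟩ := lgen_in hF hω hk
  rwa [show g = g' from Units.ext (e.trans e'.symm)]

include hF hω in
theorem l_cover {g : GL F9 F} (hg : g ∈ Lsub ω) :
    ∃ b < 1440, (g : Matrix F9 F9 F) = matF ω (lTab b) := by
  rw [Lsub, span2, ← Subgroup.mem_toSubmonoid, Subgroup.closure_toSubmonoid_of_finite] at hg
  induction hg using Submonoid.closure_induction_left with
  | one => exact ⟨0, by norm_num, by rw [start_ok.1, matF_id, Units.val_one]⟩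
  | mul_left x hx y _ ih =>
    obtain ⟨k, hk, e⟩ := hx
    obtain ⟨b, hb, eb⟩ := ih
    have h := lstep_all (2 * b + k) (by omega)
    simp only [lOK, Bool.and_eq_true] at h
    rw [show Nat.mod (2 * b + k) 2 = k from by show (2 * b + k) % 2 = k; omega,
      show Nat.div (2 * b + k) 2 = b from by show (2 * b + k) / 2 = b; omega] at h
    exact ⟨_, Nat.le_of_ble_eq_true h.1,
      by rw [Units.val_mul, e, eb, mulOK_spec ω (two_zero hF) hω h.2]⟩

include hF hω in
theorem l_in : ∀ b < 1440, InH ω (Lsub ω) (lTab b) := by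
  intro b
  induction b using Nat.strong_induction_on with
  | _ b ih =>
    intro hb
    have h := ltree_all b hb
    simp only [lTreeOK, Bool.or_eq_true, Bool.and_eq_true] at h
    rcases h with h | ⟨⟨hq, hk⟩, he⟩
    · rw [Nat.eq_of_beq_eq_true h, start_ok.1]
      exact ⟨1, one_mem _, by rw [Units.val_one, matF_id]⟩
    generalize hq' : Nat.land (lPar b) 2047 = q at hq he
    generalize hk' : Nat.shiftRight (lPar b) 11 = k at hk he
    have hqb := Nat.le_of_ble_eq_true hq
    have hk2 : k < 2 := Nat.le_of_ble_eq_true hk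
    obtain ⟨g, hg, eg⟩ := ih q hqb (lt_trans hqb hb)
    obtain ⟨u, -, eu⟩ := lgen_in hF hω hk2
    have hs := lstep_all (2 * q + k) (by omega)
    simp only [lOK, Bool.and_eq_true] at hs
    rw [show Nat.mod (2 * q + k) 2 = k from by show (2 * q + k) % 2 = k; omega,
      show Nat.div (2 * q + k) 2 = q from by show (2 * q + k) / 2 = q; omega] at hs
    refine ⟨u * g, mul_mem (Subgroup.subset_closure ⟨k, hk2, eu⟩) hg, ?_⟩
    rw [Units.val_mul, eu, eg, mulOK_spec ω (two_zero hF) hω hs.2]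
    exact congrArg (fun x => matF ω (lTab x)) (Nat.eq_of_beq_eq_true he)

include hF hω in
theorem u_step {i k : ℕ} (hi : i < 17) (hk : k < 2) :
    ∃ j b, j = Nat.land (uEdge (2 * i + k)) 31 ∧ j < 17 ∧ b < 1440 ∧
      matF ω (kgenN k) * matF ω (uTab i) = matF ω (uTab j) * matF ω (lTab b) := by
  have hs := ustep_all (2 * i + k) (by omega)
  simp only [uOK, Bool.and_eq_true] at hs
  rw [show Nat.mod (2 * i + k) 2 = k from by show (2 * i + k) % 2 = k; omega,
    show Nat.div (2 * i + k) 2 = i from by show (2 * i + k) / 2 = i; omega] at hs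
  exact ⟨_, _, rfl, Nat.le_of_ble_eq_true hs.1.1, Nat.le_of_ble_eq_true hs.1.2,
    mul22OK_spec ω (two_zero hF) hω hs.2⟩

include hF hω in
theorem u_in : ∀ j < 17, InH ω (Ksub ω) (uTab j) := by
  intro j
  induction j using Nat.strong_induction_on with
  | _ j ih =>
    intro hj
    have h := utree_all j hj
    simp only [uTreeOK, Bool.or_eq_true, Bool.and_eq_true] at h
    rcases h with h | ⟨⟨hq, hk⟩, he⟩
    · rw [Nat.eq_of_beq_eq_true h, start_ok.2.1]
      exact ⟨1, one_mem _, by rw [Units.val_one, matF_id]⟩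
    generalize hq' : Nat.land (uPar j) 31 = q at hq he
    generalize hk' : Nat.shiftRight (uPar j) 5 = k at hk he
    have hqj := Nat.le_of_ble_eq_true hq
    have hk2 : k < 2 := Nat.le_of_ble_eq_true hk
    obtain ⟨g, hg, eg⟩ := ih q hqj (lt_trans hqj hj)
    obtain ⟨j', b, rfl, -, hb, es⟩ := u_step hF hω (lt_trans hqj hj) hk2
    rw [show Nat.land (uEdge (2 * q + k)) 31 = j from Nat.eq_of_beq_eq_true he] at es
    obtain ⟨u, -, eu⟩ := kgen_in hF hω hk2
    obtain ⟨l, hl, el⟩ := l_in hF hω b hb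
    refine ⟨u * g * l⁻¹, mul_mem (mul_mem (Subgroup.subset_closure ⟨k, hk2, eu⟩) hg)
      (inv_mem (Lsub_le hF hω hl)), ?_⟩
    rw [Units.val_mul, Units.val_mul, eu, eg, es, ← el, Matrix.mul_assoc, ← Units.val_mul,
      mul_inv_cancel, Units.val_one, Matrix.mul_one]

include hF hω in
theorem k_cover {g : GL F9 F} (hg : g ∈ Ksub ω) :
    ∃ i < 17, ∃ b < 1440, (g : Matrix F9 F9 F) = matF ω (uTab i) * matF ω (lTab b) := by
  rw [Ksub, span2, ← Subgroup.mem_toSubmonoid, Subgroup.closure_toSubmonoid_of_finite] at hg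
  induction hg using Submonoid.closure_induction_left with
  | one =>
    exact ⟨0, by norm_num, 0, by norm_num,
      by rw [start_ok.1, start_ok.2.1, matF_id, Units.val_one, one_mul]⟩
  | mul_left x hx y _ ih =>
    obtain ⟨k, hk, e⟩ := hx
    obtain ⟨i, hi, b, hb, eb⟩ := ih
    obtain ⟨j, c, -, hj, hc, es⟩ := u_step hF hω hi hk
    obtain ⟨l, hl, el⟩ := l_in hF hω c hc
    obtain ⟨l', hl', el'⟩ := l_in hF hω b hb
    obtain ⟨d, hd, ed⟩ := l_cover hF hω (mul_mem hl hl')
    refine ⟨j, hj, d, hd, ?_⟩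
    rw [Units.val_mul, e, eb, ← Matrix.mul_assoc, es, Matrix.mul_assoc, ← el, ← el', ← Units.val_mul, ed]

include hF hω in
theorem g_cover {g : GL F9 F} (hg : g ∈ threeJ3 F ω) :
    ∃ p < 6156, ∃ m ∈ Ksub ω, (g : Matrix F9 F9 F) = matF ω (tTab p) * (m : Matrix F9 F9 F) := by
  rw [span_eq hF hω, span2, ← Subgroup.mem_toSubmonoid, Subgroup.closure_toSubmonoid_of_finite] at hg
  induction hg using Submonoid.closure_induction_left with
  | one =>
    exact ⟨0, by norm_num, 1, one_mem _, by rw [start_ok.2.2.1, matF_id, Units.val_one, one_mul]⟩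
  | mul_left x hx y _ ih =>
    obtain ⟨k, hk, e⟩ := hx
    obtain ⟨p, hp, m, hm, em⟩ := ih
    have hs := tstep_all (2 * p + k) (by omega)
    simp only [tOK, Bool.and_eq_true] at hs
    rw [show Nat.mod (2 * p + k) 2 = k from by show (2 * p + k) % 2 = k; omega,
      show Nat.div (2 * p + k) 2 = p from by show (2 * p + k) / 2 = p; omega] at hs
    obtain ⟨⟨⟨hq, hi⟩, hb⟩, heq⟩ := hs
    obtain ⟨u, hu, eu⟩ := u_in hF hω _ (Nat.le_of_ble_eq_true hi)
    obtain ⟨l, hl, el⟩ := l_in hF hω _ (Nat.le_of_ble_eq_true hb)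
    refine ⟨_, Nat.le_of_ble_eq_true hq, u * l * m, mul_mem (mul_mem hu (Lsub_le hF hω hl)) hm, ?_⟩
    rw [Units.val_mul, e, em, ← Matrix.mul_assoc, mul23OK_spec ω (two_zero hF) hω heq, Units.val_mul,
      Units.val_mul, eu, el, Matrix.mul_assoc]

include hF hω in
theorem card_K_le : Nat.card (Ksub ω) ≤ 24480 := by
  have h : ∀ g : Ksub ω, ∃ q : Fin 17 × Fin 1440,
      ((g : GL F9 F) : Matrix F9 F9 F) = matF ω (uTab q.1) * matF ω (lTab q.2) := fun g => by
    obtain ⟨i, hi, b, hb, e⟩ := k_cover hF hω g.2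
    exact ⟨(⟨i, hi⟩, ⟨b, hb⟩), e⟩
  choose f hf using h
  have := Nat.card_le_card_of_injective f fun a b e =>
    Subtype.ext (Units.ext ((hf a).trans (e ▸ (hf b).symm)))
  rwa [Nat.card_prod, Nat.card_fin, Nat.card_fin] at this

include hF hω in
theorem card_G_le : Nat.card (threeJ3 F ω) ≤ 6156 * Nat.card (Ksub ω) := by
  have h : ∀ g : threeJ3 F ω, ∃ q : Fin 6156 × Ksub ω,
      ((g : GL F9 F) : Matrix F9 F9 F) = matF ω (tTab q.1) * ((q.2 : GL F9 F) : Matrix F9 F9 F) := fun g => by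
    obtain ⟨p, hp, m, hm, e⟩ := g_cover hF hω g.2
    exact ⟨(⟨p, hp⟩, ⟨m, hm⟩), e⟩
  choose f hf using h
  have := Nat.card_le_card_of_injective f fun a b e =>
    Subtype.ext (Units.ext ((hf a).trans (e ▸ (hf b).symm)))
  rwa [Nat.card_prod, Nat.card_fin] at this

omit [DecidableEq F] in
include hF hω in
theorem field_cases {a : F} (ha : a ≠ 0) : a = 1 ∨ a = ω ∨ a = ω * ω := by
  have h3 : a ^ 3 = 1 := by
    have := FiniteField.pow_card_sub_one_eq_one a ha
    rwa [hF] at this
  have hw3 : ω ^ 3 = 1 := by linear_combination (ω - 1) * hω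
  have h : (a - 1) * ((a - ω) * (a - ω * ω)) = 0 := by
    linear_combination h3 - (a ^ 2) * hω + (a * ω) * hω - hw3 + a * 0
  simpa [sub_eq_zero, or_assoc] using h

omit [DecidableEq F] in
include hF hω in
theorem line_eq {u v : ℕ} (hu : u < 262144) (hv : v < 262144) (nu : isNormN u = true)
    (n1 : isNormN (wmN v) = false) (n2 : isNormN (wmN (wmN v)) = false) {a : F} (ha : a ≠ 0)
    (e : vecF ω u = a • vecF ω v) : u = v := by
  have h2 := two_zero hF
  rcases field_cases hF hω ha with rfl | rfl | rfl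
  · exact vecF_inj ω h2 hω hu hv (by rw [e, one_smul])
  · rw [← vecF_wm _ h2 hω hv] at e
    rw [vecF_inj _ h2 hω hu (wmN_lt hv) e, n1] at nu
    exact absurd nu Bool.false_ne_true
  · rw [mul_smul, ← vecF_wm _ h2 hω hv, ← vecF_wm _ h2 hω (wmN_lt hv)] at e
    rw [vecF_inj _ h2 hω hu (wmN_lt (wmN_lt hv)) e, n2] at nu
    exact absurd nu Bool.false_ne_true

theorem line_facts {i : ℕ} (hi : i < 23256) : lineTab i < 262144 ∧ isNormN (lineTab i) = true ∧
    isNormN (wmN (lineTab i)) = false ∧ isNormN (wmN (wmN (lineTab i))) = false := by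
  have h := line_all i hi
  simp only [lineOK, Bool.and_eq_true, Bool.not_eq_true'] at h
  exact ⟨Nat.le_of_ble_eq_true h.1.1.1.1, h.1.1.1.2, h.1.1.2, h.1.2⟩

theorem stab_facts {j : ℕ} (hj : j < 6480) : stabTab j < 2 ^ 162 ∧
    (colN (stabTab j) 0 = 1 ∨ colN (stabTab j) 0 = wmN 1 ∨ colN (stabTab j) 0 = wmN (wmN 1)) := by
  have h := stab_all j hj
  simp only [stabOK, Bool.and_eq_true, Bool.or_eq_true] at h
  refine ⟨Nat.le_of_ble_eq_true h.1.1, ?_⟩
  rcases h.1.2 with (h' | h') | h'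
  · exact Or.inl (Nat.eq_of_beq_eq_true h')
  · exact Or.inr (Or.inl (Nat.eq_of_beq_eq_true h'))
  · exact Or.inr (Or.inr (Nat.eq_of_beq_eq_true h'))

include hF hω in
theorem stab_in : ∀ j < 6480, InH ω (threeJ3 F ω) (stabTab j) := by
  intro j hj
  induction hd : stabPar j >>> 14 using Nat.strong_induction_on generalizing j with
  | _ d ih =>
    have h := stab_all j hj
    simp only [stabOK, Bool.and_eq_true, Bool.or_eq_true] at h
    rcases h.2 with ⟨-, h'⟩ | ⟨⟨he, hdep⟩, hm⟩
    · rw [Nat.eq_of_beq_eq_true h']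
      exact ⟨1, one_mem _, by rw [Units.val_one, matF_id]⟩
    obtain ⟨g, hg, eg⟩ := ih _ (hd ▸ Nat.le_of_ble_eq_true hdep) _ (Nat.le_of_ble_eq_true he) rfl
    obtain ⟨u, hu, eu⟩ := sgen_in hF hω (k := Nat.land (Nat.shiftRight (stabPar j) 13) 1)
      (Nat.lt_succ_of_le Nat.and_le_right)
    exact ⟨u * g, mul_mem hu hg, by rw [Units.val_mul, eu, eg, mulOK_spec ω (two_zero hF) hω hm]⟩

include hF hω in
theorem line_in : ∀ i < 23256, ∃ g ∈ threeJ3 F ω, ∃ c : F, c ≠ 0 ∧
    (g : Matrix F9 F9 F) *ᵥ vecF ω 1 = c • vecF ω (lineTab i) := by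
  intro i hi
  induction hd : linePar i >>> 18 using Nat.strong_induction_on generalizing i with
  | _ d ih =>
    have h := line_all i hi
    simp only [lineOK, Bool.and_eq_true, Bool.or_eq_true] at h
    rcases h.2 with ⟨-, h'⟩ | ⟨⟨he, hdep⟩, hm⟩
    · rw [Nat.eq_of_beq_eq_true h']
      exact ⟨1, one_mem _, 1, one_ne_zero, by rw [Units.val_one, Matrix.one_mulVec, one_smul]⟩
    obtain ⟨g, hg, c, hc, eg⟩ := ih _ (hd ▸ Nat.le_of_ble_eq_true hdep) _ (Nat.le_of_ble_eq_true he) rfl
    obtain ⟨u, hu, eu⟩ := gen_unit hF hω (k := Nat.land (Nat.shiftRight (linePar i) 15) 1)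
      (Nat.lt_succ_of_le Nat.and_le_right)
    refine ⟨u * g, mul_mem ((span_eq hF hω).symm ▸ hu) hg,
      c * sclF ω (Nat.land (Nat.shiftRight (linePar i) 16) 3), mul_ne_zero hc (sclF_ne ω hω _), ?_⟩
    rw [Units.val_mul, ← Matrix.mulVec_mulVec, eg, Matrix.mulVec_smul, eu, ← vecF_mv ω (two_zero hF) hω,
      Nat.eq_of_beq_eq_true hm, vecF_scl ω (two_zero hF) hω _ (line_facts hi).1, smul_smul]

include hF hω in
theorem stab_fix {j : ℕ} (hj : j < 6480) :
    ∃ d : F, d ≠ 0 ∧ matF ω (stabTab j) *ᵥ vecF ω 1 = d • vecF ω 1 := by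
  have h2 := two_zero hF
  have hcol : matF ω (stabTab j) *ᵥ vecF ω 1 = vecF ω (colN (stabTab j) 0) := by
    rw [show (1 : ℕ) = Nat.shiftLeft 1 (idx (0 : F9)) from rfl, vecF_single, Matrix.mulVec_single_one]
    rfl
  have hw : ω ≠ 0 := omega_ne ω hω
  rw [hcol]
  rcases (stab_facts hj).2 with h | h | h <;> rw [h]
  · exact ⟨1, one_ne_zero, (one_smul _ _).symm⟩
  · exact ⟨ω, hw, vecF_wm ω h2 hω (by norm_num)⟩
  · exact ⟨ω * ω, mul_ne_zero hw hw,
      by rw [vecF_wm ω h2 hω (wmN_lt (by norm_num)), vecF_wm ω h2 hω (by norm_num), smul_smul]⟩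

/-- an element moving the first line to a given one, times one fixing it -/
noncomputable def pairElt (q : Fin 23256 × Fin 6480) : threeJ3 F ω :=
  ⟨(line_in hF hω q.1 q.1.2).choose, (line_in hF hω q.1 q.1.2).choose_spec.1⟩ *
    ⟨(stab_in hF hω q.2 q.2.2).choose, (stab_in hF hω q.2 q.2.2).choose_spec.1⟩

include hF hω in
theorem pairElt_line (q : Fin 23256 × Fin 6480) : ∃ c : F, c ≠ 0 ∧
    ((pairElt hF hω q : GL F9 F) : Matrix F9 F9 F) *ᵥ vecF ω 1 = c • vecF ω (lineTab q.1) := by
  obtain ⟨c, hc, e⟩ := (line_in hF hω q.1 q.1.2).choose_spec.2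
  obtain ⟨d, hd, e'⟩ := stab_fix hF hω q.2.2
  refine ⟨d * c, mul_ne_zero hd hc, ?_⟩
  rw [pairElt, Subgroup.coe_mul, Units.val_mul, ← Matrix.mulVec_mulVec,
    (stab_in hF hω q.2 q.2.2).choose_spec.2, e', Matrix.mulVec_smul, e, smul_smul]

include hF hω in
theorem pairElt_injective : Function.Injective (pairElt hF hω) := by
  intro q r h
  obtain ⟨c, hc, e⟩ := pairElt_line hF hω q
  obtain ⟨d, hd, e'⟩ := pairElt_line hF hω r
  rw [h, e'] at e
  obtain ⟨u1, u2, -, -⟩ := line_facts r.1.2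
  obtain ⟨v1, -, v3, v4⟩ := line_facts q.1.2
  have hl : lineTab r.1 = lineTab q.1 :=
    line_eq hF hω u1 v1 u2 v3 v4 (mul_ne_zero (inv_ne_zero hd) hc) (by
      rw [mul_smul, ← e, smul_smul, inv_mul_cancel₀ hd, one_smul])
  have h1 : q.1 = r.1 := Fin.ext (step_inj (f := lineTab) (n := 23256)
    (fun i hi => Nat.le_of_ble_eq_true (linesort_all i (by omega))) q.1.2 r.1.2 hl.symm)
  refine Prod.ext h1 ?_
  simp only [pairElt, h1, mul_left_cancel_iff, Subtype.mk.injEq] at h
  have hm : matF ω (stabTab q.2) = matF ω (stabTab r.2) := by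
    rw [← (stab_in hF hω q.2 q.2.2).choose_spec.2, ← (stab_in hF hω r.2 r.2.2).choose_spec.2, h]
  exact Fin.ext (step_inj (f := stabTab) (n := 6480)
    (fun i hi => Nat.le_of_ble_eq_true (stabsort_all i (by omega))) q.2.2 r.2.2
    (matF_inj ω (two_zero hF) hω (stab_facts q.2.2).1 (stab_facts r.2.2).1 hm))

include hF hω in
theorem cards : Nat.card (threeJ3 F ω) = 150698880 ∧ Nat.card (Ksub ω) = 24480 := by
  have h1 := card_K_le hF hω
  have h2 := card_G_le hF hω
  have h3 := Nat.card_le_card_of_injective _ (pairElt_injective hF hω)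
  rw [Nat.card_prod, Nat.card_fin, Nat.card_fin] at h3
  omega

include hF hω in
theorem pairElt_bijective : Function.Bijective (pairElt hF hω) :=
  (pairElt_injective hF hω).bijective_of_nat_card_le (by
    rw [(cards hF hω).1, Nat.card_prod, Nat.card_fin, Nat.card_fin])

include hF hω in
theorem def_in {M : Matrix F9 F9 F} (h : M ∈ j3Gens F ω) : ∃ g : threeJ3 F ω, ((g : GL F9 F) : Matrix F9 F9 F) = M := by
  obtain ⟨k, hk, rfl⟩ := of_gens hF hω h
  have hlt : defAt.getD k 0 < 336 := by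
    obtain ⟨-, h, -, -, -, hl⟩ := prog_places
    rw [List.getD_eq_getElem _ _ (hl ▸ hk)]
    exact Nat.le_of_ble_eq_true (List.all_eq_true.1 h _ (List.getElem_mem _))
  obtain ⟨g, hg, e⟩ := prog2_in hF hω hlt
  exact ⟨⟨g, hg⟩, by rw [e, Nat.eq_of_beq_eq_true (def_same k hk)]⟩

include hF hω in
theorem omega_elt : ∃ s : threeJ3 F ω, ((s : GL F9 F) : Matrix F9 F9 F) = ω • (1 : Matrix F9 F9 F) ∧
    (s : GL F9 F) ∈ Ksub ω := by
  obtain ⟨l, hl, e⟩ := l_in hF hω lOmega start_ok.2.2.2.1
  refine ⟨⟨l, Ksub_le hF hω (Lsub_le hF hω hl)⟩, ?_, Lsub_le hF hω hl⟩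
  rw [e, Nat.eq_of_beq_eq_true start_ok.2.2.2.2, ← matF_om]
  rfl

include hF hω in
theorem central_scalar (g : threeJ3 F ω) (hg : g ∈ Subgroup.center (threeJ3 F ω)) :
    ((g : GL F9 F) : Matrix F9 F9 F) = ((g : GL F9 F) : Matrix F9 F9 F) 0 0 • (1 : Matrix F9 F9 F) := by
  set M := ((g : GL F9 F) : Matrix F9 F9 F) with hM
  have hcomm : ∀ N ∈ j3Gens F ω, N * M = M * N := fun N hN => by
    obtain ⟨h, rfl⟩ := def_in hF hω hN
    exact congrArg (fun x : threeJ3 F ω => ((x : GL F9 F) : Matrix F9 F9 F))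
      (Subgroup.mem_center_iff.1 hg h)
  have hoff : ∀ w z : F9, w ≠ z → M w z = 0 := by
    intro w z hwz
    obtain ⟨Z, hZ⟩ : ∃ Z : F9, pwB (Z.1 * w.1 + Z.2 * w.2) ≠ pwB (Z.1 * z.1 + Z.2 * z.2) := by
      revert w z; decide +kernel
    have h := congrFun (congrFun (hcomm _ (Or.inl (Or.inl (Or.inl (Or.inl ⟨Z, rfl⟩))))) w) z
    rw [j3A, Matrix.diagonal_mul, Matrix.mul_diagonal] at h
    by_contra h0
    refine hZ ?_
    have e : omegaPow F ω (Z.1 * w.1 + Z.2 * w.2) = omegaPow F ω (Z.1 * z.1 + Z.2 * z.2) :=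
      mul_right_cancel₀ h0 (h.trans (mul_comm _ _))
    rw [← pairP_pwB hF hω, ← pairP_pwB hF hω] at e
    obtain ⟨e1, e2⟩ := pairF_inj ω (two_zero hF) hω e
    exact Prod.ext e1 e2
  have hdiag : ∀ Z : F9, M Z Z = M 0 0 := by
    intro Z
    have h := congrFun (congrFun (hcomm _ (Or.inl (Or.inl (Or.inr ⟨Z, rfl⟩)))) Z) 0
    rw [Matrix.mul_apply, Matrix.mul_apply, Finset.sum_eq_single (0 : F9), Finset.sum_eq_single Z] at h
    · simpa [j3D, j3Lam] using h.symm
    · intro b _ hb
      simp [j3D, hb]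
    · simp
    · intro b _ hb
      rw [hoff b 0 hb, mul_zero]
    · simp
  ext w z
  rw [Matrix.smul_apply, Matrix.one_apply]
  split
  next h => subst h; rw [hdiag, smul_eq_mul, mul_one]
  next h => rw [hoff w z h, smul_zero]

include hF hω in
theorem center_card : Nat.card (Subgroup.center (threeJ3 F ω)) = 3 := by
  obtain ⟨s, hs, -⟩ := omega_elt hF hω
  have hne : ∀ g : Subgroup.center (threeJ3 F ω), (((g : threeJ3 F ω) : GL F9 F) : Matrix F9 F9 F) 0 0 ≠ 0 := by
    intro g e
    have h := central_scalar hF hω g g.2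
    rw [e, zero_smul] at h
    have h1 := congrFun (congrFun (((g : threeJ3 F ω) : GL F9 F).mul_inv) (0 : F9)) 0
    rw [h, Matrix.zero_mul, Matrix.one_apply_eq] at h1
    exact zero_ne_one h1
  let f : Subgroup.center (threeJ3 F ω) → {a : F // a ≠ 0} := fun g => ⟨_, hne g⟩
  have hsc : s ∈ Subgroup.center (threeJ3 F ω) := Subgroup.mem_center_iff.2 fun h =>
    Subtype.ext (Units.ext (by
      show ((h : GL F9 F) : Matrix F9 F9 F) * ((s : GL F9 F) : Matrix F9 F9 F) = _ * ((h : GL F9 F) : Matrix F9 F9 F)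
      rw [hs, Matrix.mul_smul, Matrix.smul_mul, Matrix.mul_one, Matrix.one_mul]))
  have hf : Function.Bijective f := by
    refine ⟨fun a b e => Subtype.ext (Subtype.ext (Units.ext ?_)), fun a => ?_⟩
    · refine (central_scalar hF hω a a.2).trans (Eq.trans ?_ (central_scalar hF hω b b.2).symm)
      exact congrArg (fun x : F => x • (1 : Matrix F9 F9 F)) (congrArg Subtype.val e)
    · rcases field_cases hF hω a.2 with h | h | h
      · exact ⟨1, Subtype.ext (by simp [f, h])⟩
      · exact ⟨⟨s, hsc⟩, Subtype.ext (by simp [f, hs, h])⟩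
      · exact ⟨⟨s * s, mul_mem hsc hsc⟩, Subtype.ext (by simp [f, hs, h])⟩
  rw [Nat.card_eq_of_bijective f hf, Nat.card_eq_fintype_card, Fintype.card_subtype_compl,
    Fintype.card_subtype_eq, hF]

/-- the elements with the matrices of the two generators -/
def gset (ω : F) : Set (threeJ3 F ω) :=
  {g | ∃ k < 2, ((g : GL F9 F) : Matrix F9 F9 F) = matF ω (genN k)}

include hF hω in
theorem gset_closure : Subgroup.closure (gset ω) = ⊤ := by
  refine Subgroup.map_injective (threeJ3 F ω).subtype_injective ?_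
  rw [MonoidHom.map_closure, ← MonoidHom.range_eq_map, Subgroup.range_subtype]
  conv_rhs => rw [span_eq hF hω, span2]
  congr 1
  ext g
  constructor
  · rintro ⟨h, hh, rfl⟩
    exact hh
  · rintro ⟨k, hk, e⟩
    exact ⟨⟨g, (span_eq hF hω).symm ▸ Subgroup.subset_closure ⟨k, hk, e⟩⟩, ⟨k, hk, e⟩, rfl⟩

include hF hω in
theorem gset_pow {h : threeJ3 F ω} (hh : h ∈ gset ω) : h ^ 19 = 1 := by
  obtain ⟨k, hk, e⟩ := hh
  exact Subtype.ext (Units.ext (by
    rw [SubmonoidClass.coe_pow, Units.val_pow_eq_pow_val, e, pow_of_ok hF hω (gens_pow k hk)]; rfl))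

theorem order_arith : ∀ r m : ℕ, r.Prime → r ≠ 19 → r ^ m ∣ 50232960 → r ^ m % 19 = 1 → m = 0 := by
  intro r m hr hr19 hd h1
  rcases Nat.eq_zero_or_pos m with h | hm
  · exact h
  have hrd : r ∣ 50232960 := (dvd_pow_self r hm.ne').trans hd
  have hr' : r = 2 ∨ r = 3 ∨ r = 5 ∨ r = 17 ∨ r = 19 := by
    rw [show 50232960 = 2 ^ 7 * (3 ^ 5 * (5 * (17 * 19))) from by norm_num] at hrd
    rcases hr.dvd_mul.1 hrd with h | h
    · exact Or.inl ((Nat.prime_dvd_prime_iff_eq hr (by norm_num)).1 (hr.dvd_of_dvd_pow h))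
    rcases hr.dvd_mul.1 h with h | h
    · exact Or.inr (Or.inl ((Nat.prime_dvd_prime_iff_eq hr (by norm_num)).1 (hr.dvd_of_dvd_pow h)))
    rcases hr.dvd_mul.1 h with h | h
    · exact Or.inr (Or.inr (Or.inl ((Nat.prime_dvd_prime_iff_eq hr (by norm_num)).1 h)))
    rcases hr.dvd_mul.1 h with h | h
    · exact Or.inr (Or.inr (Or.inr (Or.inl ((Nat.prime_dvd_prime_iff_eq hr (by norm_num)).1 h))))
    · exact Or.inr (Or.inr (Or.inr (Or.inr ((Nat.prime_dvd_prime_iff_eq hr (by norm_num)).1 h))))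
  have bound : ∀ b : ℕ, ¬ r ^ b ∣ 50232960 → m < b := fun b hb => by
    by_contra hmb
    exact hb ((pow_dvd_pow r (not_lt.1 hmb)).trans hd)
  rcases hr' with rfl | rfl | rfl | rfl | rfl
  · have := bound 8 (by norm_num)
    interval_cases m <;> norm_num at h1
  · have := bound 6 (by norm_num)
    interval_cases m <;> norm_num at h1
  · have := bound 2 (by norm_num)
    interval_cases m <;> norm_num at h1
  · have := bound 2 (by norm_num)
    interval_cases m <;> norm_num at h1
  · exact absurd rfl hr19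

include hF hω in
theorem J3_facts : Nat.card (Spor.J3 F ω) = 50232960 ∧ IsSimpleGroup (Spor.J3 F ω) := by
  have hc := (cards hF hω).1
  have hz := center_card hF hω
  have hJ : Nat.card (Spor.J3 F ω) = 50232960 := by
    have e := (Subgroup.center (threeJ3 F ω)).card_mul_index
    rw [hz, hc, Subgroup.index_eq_card] at e
    show Nat.card (threeJ3 F ω ⧸ Subgroup.center (threeJ3 F ω)) = _
    omega
  refine ⟨hJ, ?_⟩
  haveI : Fact (Nat.Prime 19) := ⟨by norm_num⟩
  haveI : Nontrivial (Spor.J3 F ω) := Finite.one_lt_card_iff_nontrivial.1 (by rw [hJ]; norm_num)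
  refine PrimeGen.isSimpleGroup (p := 19) (by rw [hJ]; norm_num) (by rw [hJ]; exact order_arith)
    (QuotientGroup.mk' (Subgroup.center (threeJ3 F ω)) '' gset ω) ?_ ?_ ?_
  · rw [← MonoidHom.map_closure, gset_closure hF hω,
      Subgroup.map_top_of_surjective _ (QuotientGroup.mk'_surjective _)]
  · rintro _ ⟨h, hh, rfl⟩
    rw [← map_pow, gset_pow hF hω hh, map_one]
  · refine eq_bot_iff.2 fun x hx => ?_
    obtain ⟨g, rfl⟩ := QuotientGroup.mk'_surjective _ x
    rw [Subgroup.mem_bot, QuotientGroup.mk'_apply, QuotientGroup.eq_one_iff]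
    have hcg : ∀ h ∈ gset ω, h * g = g * h := by
      intro h hh
      have hq : (h * g)⁻¹ * (g * h) ∈ Subgroup.center (threeJ3 F ω) := by
        rw [← QuotientGroup.eq]
        exact Subgroup.mem_center_iff.1 hx (QuotientGroup.mk' _ h)
      set c := (h * g)⁻¹ * (g * h) with hcdef
      have hgh : g * h * g⁻¹ = h * c := by
        have e1 : g * h = h * g * c := by rw [hcdef]; group
        rw [e1, mul_assoc h g c, Subgroup.mem_center_iff.1 hq g]
        group
      have hc19 : c ^ 19 = 1 := by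
        have e : (g * h * g⁻¹) ^ 19 = 1 := by rw [conj_pow, gset_pow hF hω hh]; group
        rw [hgh, (show Commute h c from Subgroup.mem_center_iff.1 hq h).mul_pow,
          gset_pow hF hω hh, one_mul] at e
        exact e
      have hc3 : c ^ 3 = 1 := by
        have e := pow_card_eq_one' (x := (⟨c, hq⟩ : Subgroup.center (threeJ3 F ω)))
        rw [hz] at e
        exact congrArg Subtype.val e
      have hc1 : c = 1 := by
        calc c = (c ^ 3) ^ 6 * c := by rw [hc3, one_pow, one_mul]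
          _ = c ^ 19 := by group
          _ = 1 := hc19
      rw [hc1, mul_one, mul_inv_eq_iff_eq_mul] at hgh
      exact hgh.symm
    rw [← Subgroup.centralizer_univ, ← Subgroup.coe_top, ← gset_closure hF hω,
      Subgroup.centralizer_closure, Subgroup.mem_centralizer_iff]
    exact hcg

include hF hω in
theorem perm_rep : ∃ H : Subgroup (Equiv.Perm (Fin 6156)), Cfsg.IsJ3 H ∧
    MulAction.IsPretransitive H (Fin 6156) ∧
    Nat.card (MulAction.stabilizer H (0 : Fin 6156)) = 8160 := by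
  obtain ⟨hJ, hsimp⟩ := J3_facts hF hω
  obtain ⟨hG, hK⟩ := cards hF hω
  set K := (Ksub ω).subgroupOf (threeJ3 F ω) with hKdef
  have hKc : Nat.card K = 24480 := by
    rw [Nat.card_congr (Subgroup.subgroupOfEquivOfLe (Ksub_le hF hω)).toEquiv, hK]
  have hidx : Nat.card (threeJ3 F ω ⧸ K) = 6156 := by
    have e := K.card_mul_index
    rw [hKc, hG, Subgroup.index_eq_card] at e
    omega
  let e : (threeJ3 F ω ⧸ K) ≃ Fin 6156 := Finite.equivFinOfCardEq hidx
  let φ : threeJ3 F ω →* Equiv.Perm (Fin 6156) :=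
    e.permCongrHom.toMonoidHom.comp (MulAction.toPermHom (threeJ3 F ω) (threeJ3 F ω ⧸ K))
  have hφ : ∀ (g : threeJ3 F ω) (x : threeJ3 F ω ⧸ K), φ g (e x) = e (g • x) := fun g x => by
    simp [φ]
  have hzK : Subgroup.center (threeJ3 F ω) ≤ K := by
    obtain ⟨s, hs, hsK⟩ := omega_elt hF hω
    intro g hg
    have h := central_scalar hF hω g hg
    rcases eq_or_ne (((g : GL F9 F) : Matrix F9 F9 F) 0 0) 0 with h0 | h0
    · exfalso
      rw [h0, zero_smul] at h
      have h1 := congrFun (congrFun ((g : GL F9 F).mul_inv) (0 : F9)) 0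
      rw [h, Matrix.zero_mul, Matrix.one_apply_eq] at h1
      exact zero_ne_one h1
    have hgs : g = 1 ∨ g = s ∨ g = s * s := by
      rcases field_cases hF hω h0 with e | e | e <;> rw [e] at h
      · exact Or.inl (Subtype.ext (Units.ext (by rw [h, one_smul]; rfl)))
      · exact Or.inr (Or.inl (Subtype.ext (Units.ext (h.trans hs.symm))))
      · exact Or.inr (Or.inr (Subtype.ext (Units.ext (by
          rw [h, Subgroup.coe_mul, Units.val_mul, hs, Matrix.smul_mul, Matrix.one_mul, smul_smul]))))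
    rcases hgs with rfl | rfl | rfl
    exacts [one_mem _, hsK, show _ * _ ∈ K from mul_mem (show _ ∈ K from hsK) (show _ ∈ K from hsK)]
  have hker : φ.ker = Subgroup.center (threeJ3 F ω) := by
    have hle : Subgroup.center (threeJ3 F ω) ≤ φ.ker := fun z hz => by
      refine Equiv.ext fun y => ?_
      obtain ⟨x, rfl⟩ := e.surjective y
      induction x using QuotientGroup.induction_on with
      | _ g =>
        rw [hφ, Equiv.Perm.one_apply]
        refine congrArg e (QuotientGroup.eq.2 ?_)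
        show (z * g)⁻¹ * g ∈ K
        rw [← Subgroup.mem_center_iff.1 hz g, _root_.mul_inv_rev, inv_mul_cancel_right]
        exact inv_mem (hzK hz)
    refine le_antisymm ?_ hle
    have hmap : (φ.ker.map (QuotientGroup.mk' (Subgroup.center (threeJ3 F ω)))).Normal :=
      Subgroup.Normal.map inferInstance _ (QuotientGroup.mk'_surjective _)
    rcases hsimp.eq_bot_or_eq_top_of_normal _ hmap with h | h
    · rw [Subgroup.map_eq_bot_iff, QuotientGroup.ker_mk'] at h
      exact h
    · exfalso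
      have htop : φ.ker = ⊤ := by
        refine eq_top_iff.2 fun g _ => ?_
        obtain ⟨k, hk, ek⟩ := (show QuotientGroup.mk' (Subgroup.center (threeJ3 F ω)) g ∈
          φ.ker.map _ from h ▸ Subgroup.mem_top _)
        rw [QuotientGroup.mk'_apply, QuotientGroup.mk'_apply, QuotientGroup.eq] at ek
        have := mul_mem hk (hle ek)
        rwa [mul_inv_cancel_left] at this
      have hall : K = ⊤ := eq_top_iff.2 fun g _ => by
        have h1 : φ g = 1 := MonoidHom.mem_ker.1 (htop ▸ Subgroup.mem_top g)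
        have h2 := hφ g ((1 : threeJ3 F ω) : threeJ3 F ω ⧸ K)
        rw [h1, Equiv.Perm.one_apply, MulAction.Quotient.smul_mk] at h2
        have h3 := QuotientGroup.eq.1 (e.injective h2)
        rwa [inv_one, one_mul, smul_eq_mul, mul_one] at h3
      rw [hall, Subgroup.card_top, hG] at hKc
      omega
  let ψ : Spor.J3 F ω ≃* φ.range :=
    (QuotientGroup.quotientMulEquivOfEq hker.symm).trans (QuotientGroup.quotientKerEquivRange φ)
  haveI : MulAction.IsPretransitive φ.range (Fin 6156) := ⟨fun a b => by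
    obtain ⟨x, rfl⟩ := e.surjective a
    obtain ⟨y, rfl⟩ := e.surjective b
    obtain ⟨g, rfl⟩ := MulAction.exists_smul_eq (threeJ3 F ω) x y
    exact ⟨⟨φ g, g, rfl⟩, hφ g x⟩⟩
  have hcard : Nat.card φ.range = 50232960 := by rw [← Nat.card_congr ψ.toEquiv, hJ]
  haveI := hsimp
  refine ⟨φ.range, ⟨ψ.symm.isSimpleGroup, hcard⟩, inferInstance, ?_⟩
  have h := (MulAction.stabilizer φ.range (0 : Fin 6156)).card_mul_index
  rw [MulAction.index_stabilizer_of_transitive, Nat.card_fin, hcard] at h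
  omega

end group

theorem exists_omega {F : Type} [Field F] [Fintype F] (hF : Fintype.card F = 4) :
    ∃ ω : F, ω ^ 2 + ω + 1 = 0 := by
  classical
  obtain ⟨a, -, ha⟩ := Finset.exists_mem_notMem_of_card_lt_card (s := ({0, 1} : Finset F))
    (t := Finset.univ) (by
      rw [Finset.card_univ, hF]
      exact lt_of_le_of_lt Finset.card_le_two (by norm_num))
  simp only [Finset.mem_insert, Finset.mem_singleton, not_or] at ha
  have h3 : a ^ 3 = 1 := by
    have := FiniteField.pow_card_sub_one_eq_one a ha.1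
    rwa [hF] at this
  refine ⟨a, (mul_eq_zero.1 (show (a - 1) * (a ^ 2 + a + 1) = 0 by linear_combination h3)).resolve_left ?_⟩
  exact sub_ne_zero.2 ha.2

end Cfsg.Agent.Spor.J3Cert
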