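import Cfsg.Agent.Lib.Spor.J3Arith
import Cfsg.Agent.Lib.Spor.PermCert
import Cfsg.Agent.Lib.Spor.J3IsoData
import Cfsg.Agent.Lib.Spor.J3LineData
import Cfsg.Agent.Lib.Spor.J3CosetCheck

/-!
Kernel checks on the certificate data for the triple cover of the third Janko group.
-/

set_option autoImplicit false
set_option maxRecDepth 100000
set_option Elab.async false

namespace Cfsg.Agent.Spor.J3Cert

open Cfsg.Agent.Spor.CC

/-- a normalised isotropic number other than zero -/
def isoN (v : ℕ) : Bool := !Nat.beq v 0 && !parN v && isNormN v

/-- one isotropic vector -/
noncomputable def isoOK (v : ℕ) : Bool :=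
  bif Nat.beq v 0 || parN v then true
  else bif isNormN v then
    Nat.beq v isoRoot || (fun e => (fun p => Nat.blt p 262144 && isoN p &&
      Nat.blt (Nat.shiftRight (isoPar p) 21) (Nat.shiftRight e 21) &&
      Nat.beq (mvN (genN (Nat.land (Nat.shiftRight e 18) 1)) p)
        (sclN (Nat.land (Nat.shiftRight e 19) 3) v)) (Nat.land e 262143)) (isoPar v)
  else isNormN (wmN v) || isNormN (wmN (wmN v))

theorem iso0 : rangeOK isoOK 0 8192 = true := by decide +kernel

theorem iso1 : rangeOK isoOK 8192 8192 = true := by decide +kernel

theorem iso2 : rangeOK isoOK 16384 8192 = true := by decide +kernel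

theorem iso3 : rangeOK isoOK 24576 8192 = true := by decide +kernel

theorem iso4 : rangeOK isoOK 32768 8192 = true := by decide +kernel

theorem iso5 : rangeOK isoOK 40960 8192 = true := by decide +kernel

theorem iso6 : rangeOK isoOK 49152 8192 = true := by decide +kernel

theorem iso7 : rangeOK isoOK 57344 8192 = true := by decide +kernel

theorem iso8 : rangeOK isoOK 65536 8192 = true := by decide +kernel

theorem iso9 : rangeOK isoOK 73728 8192 = true := by decide +kernel

theorem iso10 : rangeOK isoOK 81920 8192 = true := by decide +kernel

theorem iso11 : rangeOK isoOK 90112 8192 = true := by decide +kernel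

theorem iso12 : rangeOK isoOK 98304 8192 = true := by decide +kernel

theorem iso13 : rangeOK isoOK 106496 8192 = true := by decide +kernel

theorem iso14 : rangeOK isoOK 114688 8192 = true := by decide +kernel

theorem iso15 : rangeOK isoOK 122880 8192 = true := by decide +kernel

theorem iso16 : rangeOK isoOK 131072 8192 = true := by decide +kernel

theorem iso17 : rangeOK isoOK 139264 8192 = true := by decide +kernel

theorem iso18 : rangeOK isoOK 147456 8192 = true := by decide +kernel

theorem iso19 : rangeOK isoOK 155648 8192 = true := by decide +kernel

theorem iso20 : rangeOK isoOK 163840 8192 = true := by decide +kernel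

theorem iso21 : rangeOK isoOK 172032 8192 = true := by decide +kernel

theorem iso22 : rangeOK isoOK 180224 8192 = true := by decide +kernel

theorem iso23 : rangeOK isoOK 188416 8192 = true := by decide +kernel

theorem iso24 : rangeOK isoOK 196608 8192 = true := by decide +kernel

theorem iso25 : rangeOK isoOK 204800 8192 = true := by decide +kernel

theorem iso26 : rangeOK isoOK 212992 8192 = true := by decide +kernel

theorem iso27 : rangeOK isoOK 221184 8192 = true := by decide +kernel

theorem iso28 : rangeOK isoOK 229376 8192 = true := by decide +kernel

theorem iso29 : rangeOK isoOK 237568 8192 = true := by decide +kernel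

theorem iso30 : rangeOK isoOK 245760 8192 = true := by decide +kernel

theorem iso31 : rangeOK isoOK 253952 8192 = true := by decide +kernel

theorem iso_all : ∀ u < 262144, isoOK u = true := fun u hu => by
  by_cases h0 : u < 8192
  · exact all_range iso0 (by omega) (by omega)
  by_cases h1 : u < 16384
  · exact all_range iso1 (by omega) (by omega)
  by_cases h2 : u < 24576
  · exact all_range iso2 (by omega) (by omega)
  by_cases h3 : u < 32768
  · exact all_range iso3 (by omega) (by omega)
  by_cases h4 : u < 40960
  · exact all_range iso4 (by omega) (by omega)
  by_cases h5 : u < 49152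
  · exact all_range iso5 (by omega) (by omega)
  by_cases h6 : u < 57344
  · exact all_range iso6 (by omega) (by omega)
  by_cases h7 : u < 65536
  · exact all_range iso7 (by omega) (by omega)
  by_cases h8 : u < 73728
  · exact all_range iso8 (by omega) (by omega)
  by_cases h9 : u < 81920
  · exact all_range iso9 (by omega) (by omega)
  by_cases h10 : u < 90112
  · exact all_range iso10 (by omega) (by omega)
  by_cases h11 : u < 98304
  · exact all_range iso11 (by omega) (by omega)
  by_cases h12 : u < 106496
  · exact all_range iso12 (by omega) (by omega)
  by_cases h13 : u < 114688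
  · exact all_range iso13 (by omega) (by omega)
  by_cases h14 : u < 122880
  · exact all_range iso14 (by omega) (by omega)
  by_cases h15 : u < 131072
  · exact all_range iso15 (by omega) (by omega)
  by_cases h16 : u < 139264
  · exact all_range iso16 (by omega) (by omega)
  by_cases h17 : u < 147456
  · exact all_range iso17 (by omega) (by omega)
  by_cases h18 : u < 155648
  · exact all_range iso18 (by omega) (by omega)
  by_cases h19 : u < 163840
  · exact all_range iso19 (by omega) (by omega)
  by_cases h20 : u < 172032
  · exact all_range iso20 (by omega) (by omega)
  by_cases h21 : u < 180224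
  · exact all_range iso21 (by omega) (by omega)
  by_cases h22 : u < 188416
  · exact all_range iso22 (by omega) (by omega)
  by_cases h23 : u < 196608
  · exact all_range iso23 (by omega) (by omega)
  by_cases h24 : u < 204800
  · exact all_range iso24 (by omega) (by omega)
  by_cases h25 : u < 212992
  · exact all_range iso25 (by omega) (by omega)
  by_cases h26 : u < 221184
  · exact all_range iso26 (by omega) (by omega)
  by_cases h27 : u < 229376
  · exact all_range iso27 (by omega) (by omega)
  by_cases h28 : u < 237568
  · exact all_range iso28 (by omega) (by omega)
  by_cases h29 : u < 245760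
  · exact all_range iso29 (by omega) (by omega)
  by_cases h30 : u < 253952
  · exact all_range iso30 (by omega) (by omega)
  exact all_range iso31 (by omega) (by omega)

end Cfsg.Agent.Spor.J3Cert
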