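import Cfsg.Agent.Lib.Spor.J3Group
import Cfsg.Agent.Lib.Spor.J3IsoCheck

/-!
The two orbits of the triple cover of the third Janko group on lines that are computed here: the orbit of
the first coordinate line, and the isotropic lines.
-/

set_option autoImplicit false
set_option maxRecDepth 100000

namespace Cfsg.Agent.Spor.J3Cert

open Cfsg Matrix
open Cfsg.Spor (F9 threeJ3)

variable {F : Type} [Field F] [Fintype F] [DecidableEq F] {ω : F}
variable (hF : Fintype.card F = 4) (hω : ω ^ 2 + ω + 1 = 0)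

include hF hω in
theorem vecF_ne {u : ℕ} (hu : u < 262144) (hn : isNormN u = true) : vecF ω u ≠ 0 := fun e => by
  rw [vecF_inj ω (two_zero hF) hω hu (by norm_num) (e.trans (vecF_zero ω).symm)] at hn
  exact absurd hn (by decide)

include hF hω in
theorem first_orbit : {L : Submodule F (F9 → F) | ∃ g ∈ threeJ3 F ω,
      L = F ∙ ((g : Matrix F9 F9 F) *ᵥ (Pi.single (0 : F9) (1 : F) : F9 → F))}.ncard = 23256 := by
  have he0 : (Pi.single (0 : F9) (1 : F) : F9 → F) = vecF ω 1 := (vecF_single (ω := ω) 0).symm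
  let f : Fin 23256 → Submodule F (F9 → F) := fun i => F ∙ vecF ω (lineTab i)
  have hset : {L : Submodule F (F9 → F) | ∃ g ∈ threeJ3 F ω,
      L = F ∙ ((g : Matrix F9 F9 F) *ᵥ (Pi.single (0 : F9) (1 : F) : F9 → F))} = Set.range f := by
    ext L
    constructor
    · rintro ⟨g, hg, rfl⟩
      obtain ⟨q, hq⟩ := (pairElt_bijective hF hω).2 ⟨g, hg⟩
      obtain ⟨c, hc, e⟩ := pairElt_line hF hω q
      rw [hq] at e
      exact ⟨q.1, by rw [he0, e]; exact (Submodule.span_singleton_smul_eq (IsUnit.mk0 c hc) _).symm⟩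
    · rintro ⟨i, rfl⟩
      obtain ⟨g, hg, c, hc, e⟩ := line_in hF hω i i.2
      exact ⟨g, hg, by rw [he0, e]; exact (Submodule.span_singleton_smul_eq (IsUnit.mk0 c hc) _).symm⟩
  have hinj : Function.Injective f := by
    intro i j h
    obtain ⟨hu, nu, -, -⟩ := line_facts i.2
    obtain ⟨hv, -, n1, n2⟩ := line_facts j.2
    obtain ⟨a, ha⟩ := Submodule.mem_span_singleton.1
      (show vecF ω (lineTab i) ∈ F ∙ vecF ω (lineTab j) from (show F ∙ vecF ω (lineTab i) = F ∙ vecF ω (lineTab j) from h) ▸ Submodule.mem_span_singleton_self _)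
    have ha0 : a ≠ 0 := fun e => vecF_ne hF hω hu nu (by rw [← ha, e, zero_smul])
    exact Fin.ext (step_inj (f := lineTab) (n := 23256)
      (fun k hk => Nat.le_of_ble_eq_true (linesort_all k (by omega))) i.2 j.2
      (line_eq hF hω hu hv nu n1 n2 ha0 ha.symm))
  rw [hset, Set.ncard_range_of_injective hinj, Nat.card_fin]

theorem isoN_iff {v : ℕ} : isoN v = true ↔ v ≠ 0 ∧ parN v = false ∧ isNormN v = true := by
  simp only [isoN, Bool.and_eq_true, Bool.not_eq_true', and_assoc]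
  refine and_congr_left fun _ => ⟨fun h e => ?_, fun h => ?_⟩
  · subst e; simp at h
  · cases hb : Nat.beq v 0
    · rfl
    · exact absurd (Nat.eq_of_beq_eq_true hb) h

include hF hω in
theorem iso_in : ∀ v < 262144, isoN v = true → ∃ g ∈ threeJ3 F ω, ∃ c : F, c ≠ 0 ∧
    (g : Matrix F9 F9 F) *ᵥ vecF ω isoRoot = c • vecF ω v := by
  intro v hv hi
  induction hd : isoPar v >>> 21 using Nat.strong_induction_on generalizing v with
  | _ d ih =>
    obtain ⟨h0, hp, hn⟩ := isoN_iff.1 hi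
    have h := iso_all v hv
    have hb : Nat.beq v 0 = false := by
      cases hb : Nat.beq v 0
      · rfl
      · exact absurd (Nat.eq_of_beq_eq_true hb) h0
    simp only [isoOK, hb, hp, hn, Bool.or_self, cond_false, cond_true, Bool.or_eq_true,
      Bool.and_eq_true] at h
    rcases h with h | ⟨⟨⟨hp1, hp2⟩, hdep⟩, hm⟩
    · rw [Nat.eq_of_beq_eq_true h]
      exact ⟨1, one_mem _, 1, one_ne_zero, by rw [Units.val_one, Matrix.one_mulVec, one_smul]⟩
    obtain ⟨g, hg, c, hc, eg⟩ := ih _ (hd ▸ Nat.le_of_ble_eq_true hdep) _ (Nat.le_of_ble_eq_true hp1) hp2 rfl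
    obtain ⟨u, hu, eu⟩ := gen_unit hF hω (k := Nat.land (Nat.shiftRight (isoPar v) 18) 1)
      (Nat.lt_succ_of_le Nat.and_le_right)
    refine ⟨u * g, mul_mem ((span_eq hF hω).symm ▸ hu) hg,
      c * sclF ω (Nat.land (Nat.shiftRight (isoPar v) 19) 3), mul_ne_zero hc (sclF_ne ω hω _), ?_⟩
    rw [Units.val_mul, ← Matrix.mulVec_mulVec, eg, Matrix.mulVec_smul, eu, ← vecF_mv ω (two_zero hF) hω,
      Nat.eq_of_beq_eq_true hm, vecF_scl ω (two_zero hF) hω _ hv, smul_smul]

include hF hω in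
theorem iso_any (f : F9 → F) (hf : f ≠ 0) (h0 : ∑ z, f z ^ 3 = 0) :
    ∃ g ∈ threeJ3 F ω, ∃ c : F, c ≠ 0 ∧ (g : Matrix F9 F9 F) *ᵥ vecF ω isoRoot = c • f := by
  have h2 := two_zero hF
  obtain ⟨v, hv, rfl⟩ := vecF_surj ω h2 hω hF f
  have key : ∀ n, n < 262144 → ∀ a : F, a ≠ 0 → vecF ω n = a • vecF ω v → isNormN n = true →
      ∃ g ∈ threeJ3 F ω, ∃ c : F, c ≠ 0 ∧ (g : Matrix F9 F9 F) *ᵥ vecF ω isoRoot = c • vecF ω v := by
    intro n hn a ha e hnorm
    have hpar : parN n = false := by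
      have hb := parN_spec ω h2 hω n
      simp only [e, Pi.smul_apply, smul_eq_mul, mul_pow, ← Finset.mul_sum, h0, mul_zero] at hb
      cases hp : parN n
      · rfl
      · simp [hp, bitF] at hb
    obtain ⟨g, hg, c, hc, eg⟩ := iso_in hF hω n hn (isoN_iff.2 ⟨fun hn0 => by
      subst hn0; exact absurd hnorm (by decide), hpar, hnorm⟩)
    exact ⟨g, hg, c * a, mul_ne_zero hc ha, by rw [eg, e, smul_smul]⟩
  have h := iso_all v hv
  have hb : Nat.beq v 0 = false := by
    cases hb : Nat.beq v 0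
    · rfl
    · rw [Nat.eq_of_beq_eq_true hb] at hf
      exact absurd (vecF_zero ω) hf
  have hp : parN v = false := by
    have hb := parN_spec ω h2 hω v
    rw [h0] at hb
    cases hp : parN v
    · rfl
    · simp [hp, bitF] at hb
  by_cases hn : isNormN v = true
  · exact key v hv 1 one_ne_zero (one_smul _ _).symm hn
  rw [Bool.not_eq_true] at hn
  simp only [isoOK, hb, hp, hn, Bool.or_self, cond_false, Bool.or_eq_true] at h
  have hw : ω ≠ 0 := omega_ne ω hω
  rcases h with h | h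
  · exact key _ (wmN_lt hv) ω hw (vecF_wm ω h2 hω hv) h
  · exact key _ (wmN_lt (wmN_lt hv)) (ω * ω) (mul_ne_zero hw hw)
      (by rw [vecF_wm ω h2 hω (wmN_lt hv), vecF_wm ω h2 hω hv, smul_smul]) h

include hF hω in
theorem iso_transitive (v w : F9 → F) (hv : v ≠ 0) (hw : w ≠ 0) (hv0 : ∑ z, v z ^ 3 = 0)
    (hw0 : ∑ z, w z ^ 3 = 0) : ∃ g ∈ threeJ3 F ω, ∃ c : F, c ≠ 0 ∧
      (g : Matrix F9 F9 F) *ᵥ v = c • w := by
  obtain ⟨a, ha, c, hc, ea⟩ := iso_any hF hω v hv hv0
  obtain ⟨b, hb, d, hd, eb⟩ := iso_any hF hω w hw hw0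
  refine ⟨b * a⁻¹, mul_mem hb (inv_mem ha), c⁻¹ * d, mul_ne_zero (inv_ne_zero hc) hd, ?_⟩
  have e : ((a⁻¹ : GL F9 F) : Matrix F9 F9 F) *ᵥ v = c⁻¹ • vecF ω isoRoot := by
    have h1 : v = c⁻¹ • ((a : Matrix F9 F9 F) *ᵥ vecF ω isoRoot) := by
      rw [ea, smul_smul, inv_mul_cancel₀ hc, one_smul]
    conv_lhs => rw [h1]
    rw [Matrix.mulVec_smul, Matrix.mulVec_mulVec, ← Units.val_mul, inv_mul_cancel, Units.val_one,
      Matrix.one_mulVec]
  rw [Units.val_mul, ← Matrix.mulVec_mulVec, e, Matrix.mulVec_smul, eb, smul_smul]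

end Cfsg.Agent.Spor.J3Cert
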