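import Cfsg.Agent.Lib.Spor.J3Group
import Cfsg.Prelude.Def_Classical

/-!
The triple cover of the third Janko group preserves the standard Hermitian form and has determinant one.
-/

set_option autoImplicit false
set_option maxRecDepth 100000

namespace Cfsg.Agent.Spor.J3Cert

open Cfsg Matrix
open Cfsg.Spor (F9 threeJ3)

/-- one entry times the conjugate of another -/
def conjMul (p q : Bool × Bool) : Bool × Bool :=
  (xor (xor (p.1 && q.1) (p.1 && q.2)) (p.2 && q.2), xor (p.1 && q.2) (p.2 && q.1))

/-- the product of two columns for the form -/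
def hermN (M a b : ℕ) : Bool × Bool :=
  (List.range 9).foldr (fun w r =>
    (xor (conjMul (bitN (colN M a) w, bitN (colN M a) (9 + w))
        (bitN (colN M b) w, bitN (colN M b) (9 + w))).1 r.1,
      xor (conjMul (bitN (colN M a) w, bitN (colN M a) (9 + w))
        (bitN (colN M b) w, bitN (colN M b) (9 + w))).2 r.2)) zB

theorem herm_ok : ∀ k < 2, ∀ A B : F9, hermN (genN k) (idx A) (idx B) = if A = B then oB else zB := by
  decide +kernel

variable {F : Type} [Field F] [Fintype F] [DecidableEq F] {ω : F}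
variable (hF : Fintype.card F = 4) (hω : ω ^ 2 + ω + 1 = 0)

omit [DecidableEq F] in
include hF hω in
theorem conjMul_spec (p q : Bool × Bool) :
    pairP ω (conjMul p q) = pairP ω p * pairP ω q ^ 2 := by
  have h2 := two_zero hF
  have hs := omega_sq ω h2 hω
  obtain ⟨a, b⟩ := p
  obtain ⟨c, d⟩ := q
  have hand : ∀ x y : Bool, (bitF (x && y) : F) = bitF x * bitF y := fun x y => by
    cases x <;> cases y <;> simp [bitF]
  have hsq : ∀ x : Bool, (bitF x : F) ^ 2 = bitF x := fun x => by cases x <;> simp [bitF]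
  simp only [pairP, pairF, conjMul, bitF_xor h2, hand]
  have hq : ((bitF c : F) + bitF d * ω) ^ 2 = bitF c + bitF d * (ω + 1) := by
    linear_combination hsq c + (bitF c * bitF d * ω : F) * h2 + (bitF d : F) ^ 2 * hs + (ω + 1) * hsq d
  rw [hq]
  linear_combination -((bitF b : F) * bitF d) * hs - ((bitF b : F) * bitF d * ω) * h2

omit [DecidableEq F] in
include hF hω in
theorem herm_col {k : ℕ} (hk : k < 2) (A B : F9) :
    ∑ w, matF ω (genN k) w A * matF ω (genN k) w B ^ 2 = if A = B then 1 else 0 := by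
  have h2 := two_zero hF
  have key : ∀ (M : ℕ) (a b : F9) (l : List ℕ), (∀ i ∈ l, i < 9) →
      (l.map fun i => matF ω M (pt i) a * matF ω M (pt i) b ^ 2).sum =
      pairP ω (l.foldr (fun w r =>
        (xor (conjMul (bitN (colN M (idx a)) w, bitN (colN M (idx a)) (9 + w))
            (bitN (colN M (idx b)) w, bitN (colN M (idx b)) (9 + w))).1 r.1,
          xor (conjMul (bitN (colN M (idx a)) w, bitN (colN M (idx a)) (9 + w))
            (bitN (colN M (idx b)) w, bitN (colN M (idx b)) (9 + w))).2 r.2)) zB) := by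
    intro M a b l hl
    induction l with
    | nil => simp [pairP, pairF, bitF, zB]
    | cons i l ih =>
      rw [List.map_cons, List.sum_cons, List.foldr_cons, ih fun j hj => hl j (List.mem_cons_of_mem _ hj),
        matF_entry, matF_entry, ← conjMul_spec hF hω, entB, entB, idx_pt i (hl i (List.mem_cons_self ..))]
      simp only [pairP, pairF, bitF_xor h2]
      ring
  rw [sum9, key _ _ _ _ fun i hi => List.mem_range.1 hi]
  show pairP ω (hermN (genN k) (idx A) (idx B)) = _
  rw [herm_ok k hk A B]
  split <;> simp [pairP_oB, pairP_zB]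

/-- squaring -/
def sqHom (h2 : (2 : F) = 0) : F →+ F where
  toFun x := x ^ 2
  map_zero' := by ring
  map_add' x y := by linear_combination x * y * h2

/-- the form on the nine coordinates -/
def formNine (u v : F9 → F) : F := ∑ z, u z * v z ^ 2

include hF hω in
theorem gens_unitary : threeJ3 F ω ≤ preserving (Units.coeHom (Matrix F9 F9 F)) formNine := by
  rw [span_eq hF hω, span2, Subgroup.closure_le]
  rintro g ⟨k, hk, e⟩ u v
  have h2 := two_zero hF
  show formNine ((g : Matrix F9 F9 F) *ᵥ u) ((g : Matrix F9 F9 F) *ᵥ v) = formNine u v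
  rw [e]
  set M := matF ω (genN k) with hM
  have hsq : ∀ (s : Finset F9) (f : F9 → F), (∑ z ∈ s, f z) ^ 2 = ∑ z ∈ s, f z ^ 2 := fun s f =>
    map_sum (sqHom h2) f s
  calc formNine (M *ᵥ u) (M *ᵥ v)
      = ∑ w, ∑ a, ∑ b, (u a * v b ^ 2) * (M w a * M w b ^ 2) := by
        refine Finset.sum_congr rfl fun w _ => ?_
        rw [Matrix.mulVec, Matrix.mulVec, dotProduct, dotProduct, hsq, Finset.sum_mul]
        refine Finset.sum_congr rfl fun a _ => ?_
        rw [Finset.mul_sum]
        refine Finset.sum_congr rfl fun b _ => ?_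
        ring
    _ = ∑ a, ∑ b, (u a * v b ^ 2) * ∑ w, M w a * M w b ^ 2 := by
        rw [Finset.sum_comm]
        refine Finset.sum_congr rfl fun a _ => ?_
        rw [Finset.sum_comm]
        simp_rw [Finset.mul_sum]
    _ = formNine u v := by
        refine Finset.sum_congr rfl fun a _ => ?_
        simp [hM, herm_col hF hω hk]

include hF hω in
theorem gens_det : threeJ3 F ω ≤ (Matrix.GeneralLinearGroup.det : GL F9 F →* Fˣ).ker := by
  rw [span_eq hF hω, span2, Subgroup.closure_le]
  rintro g ⟨k, hk, e⟩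
  rw [SetLike.mem_coe, MonoidHom.mem_ker]
  have h19 : Matrix.GeneralLinearGroup.det g ^ 19 = 1 := by
    rw [← map_pow, show g ^ 19 = 1 from Units.ext (by
      rw [Units.val_pow_eq_pow_val, e, pow_of_ok hF hω (gens_pow k hk)]; rfl), map_one]
  have h3 : Matrix.GeneralLinearGroup.det g ^ 3 = 1 := by
    have h := pow_card_eq_one' (x := Matrix.GeneralLinearGroup.det g)
    rwa [Nat.card_units, Nat.card_eq_fintype_card, hF] at h
  calc Matrix.GeneralLinearGroup.det g
      = (Matrix.GeneralLinearGroup.det g ^ 3) ^ 6 * Matrix.GeneralLinearGroup.det g := by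
        rw [h3, one_pow, one_mul]
    _ = Matrix.GeneralLinearGroup.det g ^ 19 := by group
    _ = 1 := h19

/-- the nine coordinates in order -/
def e9 : F9 ≃ Fin 9 where
  toFun z := ⟨idx z, idx_lt z⟩
  invFun i := pt i
  left_inv z := pt_idx z
  right_inv i := Fin.ext (idx_pt i i.2)

include hF hω in
theorem det_elt (g : threeJ3 F ω) :
    (((g : GL F9 F) : Matrix F9 F9 F).submatrix e9.symm e9.symm).det = 1 := by
  rw [Matrix.det_submatrix_equiv_self, ← Matrix.GeneralLinearGroup.val_det_apply,
    MonoidHom.mem_ker.1 (gens_det hF hω g.2), Units.val_one]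

/-- the group inside the special linear group -/
noncomputable def toSL : threeJ3 F ω →* Matrix.SpecialLinearGroup (Fin 9) F where
  toFun g := ⟨((g : GL F9 F) : Matrix F9 F9 F).submatrix e9.symm e9.symm, det_elt hF hω g⟩
  map_one' := Subtype.ext (Matrix.submatrix_one_equiv _)
  map_mul' g h := Subtype.ext
    (Matrix.submatrix_mul_equiv ((g : GL F9 F) : Matrix F9 F9 F) ((h : GL F9 F) : Matrix F9 F9 F) _ _ _).symm

include hF hω in
theorem toSL_mem (g : threeJ3 F ω) : toSL hF hω g ∈ Cfsg.SU 9 F 2 := by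
  intro u v
  have key : ∀ x y : Fin 9 → F, hermForm 9 F 2 x y = formNine (x ∘ e9) (y ∘ e9) := fun x y =>
    (Equiv.sum_comp e9 fun i => x i * y i ^ 2).symm
  rw [key, key]
  have hmv : ∀ x : Fin 9 → F, ((slToMat 9 F) (toSL hF hω g) *ᵥ x) ∘ e9 =
      ((g : GL F9 F) : Matrix F9 F9 F) *ᵥ (x ∘ e9) := by
    intro x
    funext z
    show (((g : GL F9 F) : Matrix F9 F9 F).submatrix e9.symm e9.symm *ᵥ x) (e9 z) = _
    rw [Matrix.submatrix_mulVec_equiv]
    simp
  rw [hmv, hmv]
  exact gens_unitary hF hω g.2 _ _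

theorem center_map {G H : Type*} [Group G] [Group H] (e : G ≃* H) :
    (Subgroup.center G).map e.toMonoidHom = Subgroup.center H := by
  ext x
  obtain ⟨y, rfl⟩ := e.surjective x
  simp only [Subgroup.mem_map, MulEquiv.coe_toMonoidHom, EmbeddingLike.apply_eq_iff_eq, exists_eq_right,
    Subgroup.mem_center_iff]
  exact ⟨fun h a => by obtain ⟨b, rfl⟩ := e.surjective a; rw [← map_mul, h, map_mul],
    fun h b => e.injective (by rw [map_mul, map_mul, h])⟩

include hF hω in
theorem unitary_cover : ∃ H : Subgroup (Cfsg.SU 9 F 2), Nat.card (Subgroup.center H) = 3 ∧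
    Cfsg.IsJ3 (H ⧸ Subgroup.center H) := by
  let f : threeJ3 F ω →* Cfsg.SU 9 F 2 := (toSL hF hω).codRestrict _ (toSL_mem hF hω)
  have hf : Function.Injective f := fun a b e => by
    refine Subtype.ext (Units.ext (Matrix.ext fun i j => ?_))
    have h := congrFun (congrFun (congrArg (fun x : Cfsg.SU 9 F 2 =>
      ((x : Matrix.SpecialLinearGroup (Fin 9) F) : Matrix (Fin 9) (Fin 9) F)) e) (e9 i)) (e9 j)
    change (((a : GL F9 F) : Matrix F9 F9 F).submatrix e9.symm e9.symm) (e9 i) (e9 j) =
      (((b : GL F9 F) : Matrix F9 F9 F).submatrix e9.symm e9.symm) (e9 i) (e9 j) at h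
    simpa using h
  let e := MonoidHom.ofInjective hf
  obtain ⟨hJ, hs⟩ := J3_facts hF hω
  refine ⟨f.range, ?_, ?_⟩
  · rw [← center_map e, Nat.card_congr
      (Subgroup.equivMapOfInjective _ e.toMonoidHom e.injective).toEquiv.symm, center_card hF hω]
  · let q := QuotientGroup.congr (Subgroup.center (threeJ3 F ω)) (Subgroup.center f.range) e (center_map e)
    haveI := hs
    exact ⟨q.symm.isSimpleGroup, by rw [← Nat.card_congr q.toEquiv]; exact hJ⟩

end Cfsg.Agent.Spor.J3Cert
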