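import Cfsg.Agent.Lib.Spor.JFourCentre

/-!
Janko four type: the structure of the centraliser and normaliser of the group of order three, in the group itself.
-/

set_option autoImplicit false

namespace Cfsg.Agent.Spor.JFour

universe u

variable {G : Type u} [Group G] [Finite G]

theorem centralizer_zpowers (x : G) :
    Subgroup.centralizer (Subgroup.zpowers x : Set G) = Subgroup.centralizer ({x} : Set G) := by
  rw [Subgroup.zpowers_eq_closure, Subgroup.centralizer_closure]

theorem order_three_centralizer [IsSimpleGroup G] (hG : ¬ IsMulCommutative G) {z : G} {P : Subgroup G}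
    (hJ : Cfsg.IsOfJankoFourTypeWith z P) :
    ⁅(Subgroup.centralizer ({z} : Set G) ⊓ Subgroup.centralizer (P : Set G)), (Subgroup.centralizer ({z} : Set G) ⊓ Subgroup.centralizer (P : Set G))⁆ = (Subgroup.centralizer ({z} : Set G) ⊓ Subgroup.centralizer (P : Set G)) ∧
    IsCyclic ↥(Subgroup.center ↥(Subgroup.centralizer ({z} : Set G) ⊓ Subgroup.centralizer (P : Set G))) ∧
    Nat.card ↥(Subgroup.center ↥(Subgroup.centralizer ({z} : Set G) ⊓ Subgroup.centralizer (P : Set G))) = 6 ∧
    Cfsg.Spor.IsoM22 (↥(Subgroup.centralizer ({z} : Set G) ⊓ Subgroup.centralizer (P : Set G)) ⧸ Subgroup.center ↥(Subgroup.centralizer ({z} : Set G) ⊓ Subgroup.centralizer (P : Set G))) ∧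
    Subgroup.normalizer (P : Set G) ≤ Subgroup.centralizer ({z} : Set G) := by
  obtain ⟨N, x, S, rfl⟩ := setup_of hJ
  obtain ⟨f⟩ := S.exists_frame
  have B := S.big hG
  obtain ⟨hp, hc, h6, ⟨e⟩⟩ := B.cover_main f
  set K := Subgroup.centralizer ({z} : Set G) ⊓ Subgroup.centralizer (Subgroup.zpowers x : Set G) with hK
  have hKmap : K = (Kx S).map (Subgroup.centralizer ({z} : Set G)).subtype := by
    rw [hK, centralizer_zpowers, S.map_centralizer]
  let φ : Kx S ≃* K := ((Kx S).equivMapOfInjective _ Subtype.val_injective).trans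
    (MulEquiv.subgroupCongr hKmap.symm)
  refine ⟨?_, ?_, ?_, ?_, fun h hh => Subgroup.mem_centralizer_singleton_iff.2 (B.norm_x f hh)⟩
  · rw [hKmap, ← Subgroup.map_commutator, hp]
  · exact (Subgroup.centerCongr φ).isCyclic.1 hc
  · rw [← Nat.card_congr (Subgroup.centerCongr φ).toEquiv, h6]
  · refine ⟨(QuotientGroup.congr (Subgroup.center (Kx S)) (Subgroup.center K) φ ?_).symm.trans e⟩
    ext k
    constructor
    · rintro ⟨a, ha, rfl⟩
      refine Subgroup.mem_center_iff.2 fun b => ?_
      obtain ⟨b, rfl⟩ := φ.surjective b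
      show φ b * φ a = φ a * φ b
      rw [← map_mul, ← map_mul, Subgroup.mem_center_iff.1 ha b]
    · intro hk
      refine ⟨φ.symm k, Subgroup.mem_center_iff.2 fun b => φ.injective ?_, φ.apply_symm_apply k⟩
      rw [map_mul, map_mul, φ.apply_symm_apply, Subgroup.mem_center_iff.1 hk]

end Cfsg.Agent.Spor.JFour
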