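import Cfsg.Agent.Lib.Spor.JFourDefs

/-!
Relations and candidates for generators.
-/

set_option autoImplicit false
set_option maxRecDepth 100000

namespace Cfsg.Agent.Spor.JFour.Chk

open Cfsg.Agent.Spor.CC

theorem gen_ok : genOK = true := by decide +kernel

theorem cycA_ok : cycAOK = true := by decide +kernel

theorem listD_ok : listDOK = true := by decide +kernel

theorem candD_ok : rangeOK candD 0 4096 = true := by decide +kernel

theorem listC_ok : listCOK = true := by decide +kernel

theorem candC_ok : rangeOK candC 0 4096 = true := by decide +kernel

theorem candI_ok : rangeOK candI 0 4096 = true := by decide +kernel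

end Cfsg.Agent.Spor.JFour.Chk
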