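import Cfsg.Agent.Lib.Spor.JFourDefs

/-!
Orbits and stabilisers.
-/

set_option autoImplicit false
set_option maxRecDepth 100000

namespace Cfsg.Agent.Spor.JFour.Chk

open Cfsg.Agent.Spor.CC Dat

theorem form_ok : rangeOK formOK 0 4096 = true := by decide +kernel

theorem inv_ok : rangeOK invOK 0 4096 = true := by decide +kernel

theorem tree_ok : rangeOK treeOK 0 4096 = true := by decide +kernel

theorem count_ok : countOK = true := by decide +kernel

theorem stA_ok : stOK kA stWA stCA = true := by decide +kernel

theorem stB_ok : stOK kB stWB stCB = true := by decide +kernel

theorem compA_ok : rangeOK (compOK maskA stCA permA) 0 4096 = true := by decide +kernel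

theorem compB_ok : rangeOK (compOK maskB stCB permB) 0 4096 = true := by decide +kernel

theorem sepA_ok : sepOK maskA witA = true := by decide +kernel

theorem sepB_ok : sepOK maskB witB = true := by decide +kernel

theorem permA_ok : ((List.range 3).all fun s => permOK 6 (permA.getD s []) (permiA.getD s [])) = true := by decide +kernel

theorem permB_ok : ((List.range 3).all fun s => permOK 6 (permB.getD s []) (permiB.getD s [])) = true := by decide +kernel

theorem chVA_ok : chOK (evM stCA) 3 4096 [] chVA = true ∧ chSize chVA = 3840 := by decide +kernel

theorem chVB_ok : chOK (evM stCB) 3 4096 [] chVB = true ∧ chSize chVB = 1920 := by decide +kernel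

theorem chPA_ok : chOK (evP permA) 3 6 [] chPA = true ∧ chSize chPA = 120 := by decide +kernel

theorem chPB_ok : chOK (evP permB) 3 6 [] chPB = true ∧ chSize chPB = 120 := by decide +kernel

theorem primA_ok : primOK permA primA = true := by decide +kernel

theorem primB_ok : primOK permB primB = true := by decide +kernel

theorem ker_ok : kerOK = true := by decide +kernel

theorem f_ok : fOK = true := by decide +kernel

theorem rows_ok : rowsOK = true := by decide +kernel

end Cfsg.Agent.Spor.JFour.Chk
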