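import Cfsg.Agent.Lib.Spor.SUSixPoints
import Cfsg.Agent.Lib.Spor.JFourChecksA
import Cfsg.Agent.Lib.Spor.JFourChecksC

/-!
A group 3.M22 inside the unitary group in dimension six over the field with four elements, extended by a
semilinear involution, as permutations of vectors, and its two orbits on isotropic vectors.
-/

set_option autoImplicit false
set_option maxRecDepth 100000

namespace Cfsg.Agent.Spor.JFour

open Cfsg.Agent.Spor.SUSix (V6 code code_lt vecOf_code)
open Cfsg.Agent.Spor.SpFour (F4)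
open Cfsg.Agent.Small.Unitary (herm)
open Cfsg.Agent.Spor.CC

/-- permutations of vectors -/
abbrev PV : Type := Equiv.Perm V6

/-! ### codes -/

theorem vecOf_eq (k : ℕ) (hk : k < 4096) (i : Fin 6) :
    SUSix.vecOf k i = F4.ofN (Chk.digit k i.val) := by
  have e : ∀ m, Nat.land m 3 = m % 4 := fun m => Nat.and_two_pow_sub_one_eq_mod m 2
  have e' : ∀ m, m &&& 3 = m % 4 := fun m => Nat.and_two_pow_sub_one_eq_mod m 2
  fin_cases i <;>
    simp [SUSix.vecOf, Chk.digit, e, e', Nat.shiftRight_eq_div_pow] <;> rw [Nat.mod_eq_of_lt]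
  omega

theorem digit_xor (a b i : ℕ) : Chk.digit (a ^^^ b) i = Chk.digit a i ^^^ Chk.digit b i := by
  show ((a ^^^ b) >>> (2 * i)) &&& 3 = ((a >>> (2 * i)) &&& 3) ^^^ ((b >>> (2 * i)) &&& 3)
  rw [Nat.shiftRight_xor_distrib, Nat.and_xor_distrib_right]

theorem digit_lt (k i : ℕ) : Chk.digit k i < 4 := by
  show (k >>> (2 * i)) &&& 3 < 4
  exact lt_of_le_of_lt Nat.and_le_right (by norm_num)

theorem ofN_xor : ∀ a < 4, ∀ b < 4, F4.ofN (a ^^^ b) = F4.ofN a + F4.ofN b := by decide +kernel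

theorem xor_lt {a b : ℕ} (ha : a < 4096) (hb : b < 4096) : a ^^^ b < 4096 :=
  Nat.xor_lt_two_pow (n := 12) ha hb

theorem vecOf_xor {a b : ℕ} (ha : a < 4096) (hb : b < 4096) : SUSix.vecOf (a ^^^ b) = SUSix.vecOf a + SUSix.vecOf b := by
  funext i
  rw [Pi.add_apply, vecOf_eq _ (xor_lt ha hb), vecOf_eq _ ha, vecOf_eq _ hb, digit_xor,
    ofN_xor _ (digit_lt _ _) _ (digit_lt _ _)]

theorem code_vecOf : ∀ k < 4096, code (SUSix.vecOf k) = k := by
  intro k hk
  have e : ∀ x, x < 4 → (F4.ofN x).toN = x := by decide +kernel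
  simp only [SUSix.code, SUSix.vecOf, Matrix.cons_val_zero, Matrix.cons_val_one, Matrix.cons_val]
  rw [e _ (Nat.mod_lt _ (by norm_num)), e _ (Nat.mod_lt _ (by norm_num)), e _ (Nat.mod_lt _ (by norm_num)),
    e _ (Nat.mod_lt _ (by norm_num)), e _ (Nat.mod_lt _ (by norm_num)), e _ (by omega)]
  omega

theorem code_inj : Function.Injective code := fun f g h => by rw [← vecOf_code f, h, vecOf_code]

theorem code_add (f g : V6) : code (f + g) = code f ^^^ code g := by
  conv_lhs => rw [← vecOf_code f, ← vecOf_code g, ← vecOf_xor (code_lt f) (code_lt g)]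
  rw [code_vecOf _ (xor_lt (code_lt f) (code_lt g))]

theorem code_zero : code (0 : V6) = 0 := by decide +kernel

theorem appA_acc : ∀ (L : List ℕ) (k r : ℕ), Chk.appA L k r = r ^^^ Chk.appA L k 0
  | [], _, r => (Nat.xor_zero r).symm
  | c :: L, k, r => by
    show Chk.appA L _ (bif Chk.tb k 0 then r ^^^ c else r) = r ^^^ Chk.appA L _ (bif Chk.tb k 0 then 0 ^^^ c else 0)
    cases Chk.tb k 0 <;> simp only [cond_true, cond_false]
    · exact appA_acc L _ r
    · rw [appA_acc L _ (r ^^^ c), appA_acc L _ (0 ^^^ c), Nat.zero_xor, Nat.xor_assoc]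

theorem tb_zero (a b : ℕ) : Chk.tb (a ^^^ b) 0 = (Chk.tb a 0 ^^ Chk.tb b 0) := by
  have e : ∀ m, Chk.tb m 0 = m.testBit 0 := fun m => by
    show Nat.beq ((m >>> 0) &&& 1) 1 = _
    rw [Nat.testBit_zero, Nat.shiftRight_zero, Nat.and_one_is_mod]
    rcases Nat.mod_two_eq_zero_or_one m with h | h <;> rw [h] <;> rfl
  rw [e, e, e, Nat.testBit_xor]

theorem appA_xor : ∀ (L : List ℕ) (a b : ℕ), Chk.appA L (a ^^^ b) 0 = Chk.appA L a 0 ^^^ Chk.appA L b 0
  | [], _, _ => (Nat.xor_self 0).symm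
  | c :: L, a, b => by
    show Chk.appA L ((a ^^^ b) >>> 1) (bif Chk.tb (a ^^^ b) 0 then 0 ^^^ c else 0) =
      Chk.appA L (a >>> 1) (bif Chk.tb a 0 then 0 ^^^ c else 0) ^^^
        Chk.appA L (b >>> 1) (bif Chk.tb b 0 then 0 ^^^ c else 0)
    rw [appA_acc L ((a ^^^ b) >>> 1), appA_acc L (a >>> 1), appA_acc L (b >>> 1), Nat.shiftRight_xor_distrib,
      appA_xor L, tb_zero]
    cases Chk.tb a 0 <;> cases Chk.tb b 0 <;>
      simp [Nat.xor_assoc, Nat.xor_comm, Nat.xor_left_comm]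

theorem app_xor (L : List ℕ) (a b : ℕ) : Chk.app L (a ^^^ b) = Chk.app L a ^^^ Chk.app L b := appA_xor L a b

theorem app_zero : ∀ L : List ℕ, Chk.app L 0 = 0
  | [] => rfl
  | c :: L => by show Chk.appA L (0 >>> 1) 0 = 0; exact app_zero L

theorem app_cons (c : ℕ) (L : List ℕ) (k : ℕ) :
    Chk.app (c :: L) k = (bif Chk.tb k 0 then c else 0) ^^^ Chk.app L (k >>> 1) := by
  show Chk.appA L (k >>> 1) (bif Chk.tb k 0 then 0 ^^^ c else 0) = _
  rw [appA_acc]
  cases Chk.tb k 0 <;> simp [Chk.app]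

theorem app_cmul (P : List ℕ) : ∀ (Q : List ℕ) (k : ℕ), Chk.app (Chk.cmul P Q) k = Chk.app P (Chk.app Q k)
  | [], k => (app_zero P).symm
  | c :: Q, k => by
    show Chk.app (Chk.app P c :: Chk.cmul P Q) k = _
    rw [app_cons, app_cons, app_xor, app_cmul P Q]
    cases Chk.tb k 0 <;> simp [app_zero]

theorem app_lt : ∀ {L : List ℕ}, (∀ c ∈ L, c < 4096) → ∀ k, Chk.app L k < 4096
  | [], _, _ => (show 0 < 4096 by norm_num)
  | c :: L, h, k => by
    rw [app_cons]
    refine xor_lt ?_ (app_lt (fun x hx => h x (List.mem_cons_of_mem _ hx)) _)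
    cases Chk.tb k 0
    · norm_num
    · exact h c List.mem_cons_self

theorem two_pow_add (n r : ℕ) (hr : r < 2 ^ n) : 2 ^ n + r = 2 ^ n ^^^ r := by
  apply Nat.eq_of_testBit_eq
  intro i
  rw [Nat.testBit_xor, Nat.testBit_two_pow]
  rcases lt_trichotomy i n with h | h | h
  · rw [Nat.testBit_two_pow_add_gt h]; simp [show n ≠ i by omega]
  · subst h; rw [Nat.testBit_two_pow_add_eq]; simp [Nat.testBit_lt_two_pow hr]
  · have h1 : r < 2 ^ i := hr.trans (Nat.pow_lt_pow_right (by norm_num) h)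
    have h2 : 2 ^ n + r < 2 ^ i := lt_of_lt_of_le (show 2 ^ n + r < 2 ^ (n + 1) by rw [pow_succ]; omega)
      (Nat.pow_le_pow_right (by norm_num) h)
    rw [Nat.testBit_lt_two_pow h2, Nat.testBit_lt_two_pow h1]; simp [show n ≠ i by omega]

/-- an additive map is given by the images of the units -/
theorem code_map {F : V6 → V6} (hF : ∀ f g, F (f + g) = F f + F g) {L : List ℕ}
    (hu : ∀ i < 12, code (F (SUSix.vecOf (2 ^ i))) = Chk.app L (2 ^ i)) (f : V6) :
    code (F f) = Chk.app L (code f) := by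
  have key : ∀ n ≤ 12, ∀ k < 2 ^ n, code (F (SUSix.vecOf k)) = Chk.app L k := by
    intro n
    induction n with
    | zero =>
      intro _ k hk
      obtain rfl : k = 0 := by omega
      have h0 : SUSix.vecOf 0 = 0 := by decide +kernel
      have h1 : F 0 = 0 := by simpa using hF 0 0
      rw [h0, h1, app_zero, code_zero]
    | succ n ih =>
      intro hn k hk
      by_cases h : k < 2 ^ n
      · exact ih (by omega) k h
      obtain ⟨r, rfl⟩ : ∃ r, k = 2 ^ n + r := ⟨k - 2 ^ n, by omega⟩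
      have hr : r < 2 ^ n := by rw [pow_succ] at hk; omega
      have hn' : 2 ^ n < 4096 := Nat.pow_lt_pow_right (by norm_num) (show n < 12 by omega)
      rw [two_pow_add n r hr, vecOf_xor hn' (by omega), hF, code_add, hu n (by omega), ih (by omega) r hr]
      exact (appA_xor L _ _).symm
  conv_lhs => rw [← vecOf_code f]
  exact key 12 le_rfl _ (code_lt f)

theorem app_idL (k : ℕ) (hk : k < 4096) : Chk.app Chk.idL k = k := by
  have h := code_map (F := fun v => v) (fun _ _ => rfl) (L := Chk.idL) (fun i hi => by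
    rw [code_vecOf _ (Nat.pow_lt_pow_right (by norm_num) hi)]
    interval_cases i <;> rfl) (SUSix.vecOf k)
  rw [code_vecOf k hk] at h
  exact h.symm

theorem idL_eq : Chk.idL = (List.range 12).map (2 ^ ·) := by decide +kernel

theorem idL_lt : ∀ c ∈ Chk.idL, c < 4096 := by decide +kernel

theorem leq_iff : ∀ {L M : List ℕ}, Chk.leq L M = true ↔ L = M
  | [], [] => by simp [Chk.leq]
  | [], _ :: _ => by simp [Chk.leq]
  | _ :: _, [] => by simp [Chk.leq]
  | a :: L, b :: M => by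
    simp [Chk.leq, leq_iff (L := L) (M := M)]

/-! ### additive permutations and their lists -/

/-- additive -/
def AddP (p : PV) : Prop := ∀ u v, p (u + v) = p u + p v

theorem AddP.one : AddP 1 := fun _ _ => rfl

theorem AddP.mul {p q : PV} (hp : AddP p) (hq : AddP q) : AddP (p * q) := fun u v => by
  rw [Equiv.Perm.mul_apply, hq, hp]; rfl

theorem AddP.inv {p : PV} (hp : AddP p) : AddP p⁻¹ := fun u v => by
  apply p.injective
  rw [hp, ← Equiv.Perm.mul_apply, ← Equiv.Perm.mul_apply, ← Equiv.Perm.mul_apply, mul_inv_cancel]; rfl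

/-- images of the units -/
def cols (p : PV) : List ℕ := Chk.idL.map fun k => code (p (SUSix.vecOf k))

theorem cols_lt (p : PV) : ∀ c ∈ cols p, c < 4096 := fun c hc => by
  obtain ⟨k, -, rfl⟩ := List.mem_map.1 hc
  exact code_lt _

theorem app_cols {p : PV} (hp : AddP p) (v : V6) : code (p v) = Chk.app (cols p) (code v) :=
  code_map hp (fun i hi => by
    rw [cols, idL_eq, List.map_map]
    interval_cases i <;> exact (Nat.zero_xor _).symm) v

theorem cols_mul {p q : PV} (hp : AddP p) : cols (p * q) = Chk.cmul (cols p) (cols q) := by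
  rw [Chk.cmul]
  conv_rhs => rw [cols.eq_def q, List.map_map]
  exact List.map_congr_left fun k _ => app_cols hp _

theorem cols_one : cols 1 = Chk.idL := by
  decide +kernel

theorem eq_of_cols {p q : PV} (hp : AddP p) (hq : AddP q) (h : cols p = cols q) : p = q :=
  Equiv.ext fun v => code_inj (by rw [app_cols hp, app_cols hq, h])

theorem cols_pow {p : PV} (hp : AddP p) : ∀ n : ℕ, cols (p ^ n) = Chk.cpow (cols p) n ∧ AddP (p ^ n)
  | 0 => ⟨cols_one, AddP.one⟩
  | n + 1 => by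
    obtain ⟨h1, h2⟩ := cols_pow hp n
    rw [pow_succ', cols_mul hp, h1]
    exact ⟨rfl, hp.mul h2⟩

/-- the map of a list -/
def ofL (L L' : List ℕ) (h1 : ∀ k < 4096, Chk.app L' k < 4096 ∧ Chk.app L (Chk.app L' k) = k)
    (h2 : ∀ k < 4096, Chk.app L k < 4096 ∧ Chk.app L' (Chk.app L k) = k) : PV where
  toFun v := SUSix.vecOf (Chk.app L (code v))
  invFun v := SUSix.vecOf (Chk.app L' (code v))
  left_inv v := by
    show SUSix.vecOf (Chk.app L' (code (SUSix.vecOf (Chk.app L (code v))))) = v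
    rw [code_vecOf _ (h2 _ (code_lt v)).1, (h2 _ (code_lt v)).2, vecOf_code]
  right_inv v := by
    show SUSix.vecOf (Chk.app L (code (SUSix.vecOf (Chk.app L' (code v))))) = v
    rw [code_vecOf _ (h1 _ (code_lt v)).1, (h1 _ (code_lt v)).2, vecOf_code]

theorem inv_lists {L L' : List ℕ} (hL : ∀ c ∈ L, c < 4096) (h : Chk.cmul L' L = Chk.idL) :
    ∀ k < 4096, Chk.app L k < 4096 ∧ Chk.app L' (Chk.app L k) = k := fun k hk =>
  ⟨app_lt hL k, by rw [← app_cmul, h, app_idL k hk]⟩

theorem ofL_spec {L L' : List ℕ} {h1 h2} (hlen : L.length = 12) (hL : ∀ c ∈ L, c < 4096) :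
    AddP (ofL L L' h1 h2) ∧ cols (ofL L L' h1 h2) = L ∧
      ∀ v, code (ofL L L' h1 h2 v) = Chk.app L (code v) := by
  have hc : ∀ v, code (ofL L L' h1 h2 v) = Chk.app L (code v) := fun v => code_vecOf _ (app_lt hL _)
  refine ⟨fun u v => code_inj (by rw [code_add, hc, hc, hc, code_add, app_xor]), ?_, hc⟩
  have e : cols (ofL L L' h1 h2) = Chk.idL.map (Chk.app L) := List.map_congr_left fun k hk => by
    rw [hc, code_vecOf k (idL_lt k hk)]
  rw [e]
  match L, hlen with
  | [a0, a1, a2, a3, a4, a5, a6, a7, a8, a9, a10, a11], _ =>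
    simp only [Chk.idL, List.map_cons, List.map_nil, List.cons.injEq, and_true]
    refine ⟨?_, ?_, ?_, ?_, ?_, ?_, ?_, ?_, ?_, ?_, ?_, ?_⟩ <;> exact Nat.zero_xor _

/-! ### the form -/

theorem qb_spec (v : V6) : herm v v = if Chk.qb (code v) = true then 1 else 0 := by
  have hd : ∀ i : Fin 6, Nat.beq (Chk.digit (code v) i.val) 0 = decide (v i = 0) := by
    intro i
    have h := vecOf_eq (code v) (code_lt v) i
    rw [vecOf_code] at h
    rw [h]
    have : ∀ d < 4, Nat.beq d 0 = decide (F4.ofN d = 0) := by decide +kernel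
    exact this _ (digit_lt _ _)
  have hn : ∀ x : F4, star x * x = if x = 0 then 0 else 1 := by decide +kernel
  have h0 := hd 0; have h1 := hd 1; have h2 := hd 2; have h3 := hd 3; have h4 := hd 4; have h5 := hd 5
  simp only [Fin.val_zero, Fin.val_one, Fin.isValue] at h0 h1 h2 h3 h4 h5
  rw [show herm v v = ∑ i, star (v i) * v i from rfl, Fin.sum_univ_six, hn, hn, hn, hn, hn, hn]
  simp only [Chk.qb, h0, h1, show Nat.beq (Chk.digit (code v) 2) 0 = _ from h2,
    show Nat.beq (Chk.digit (code v) 3) 0 = _ from h3, show Nat.beq (Chk.digit (code v) 4) 0 = _ from h4,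
    show Nat.beq (Chk.digit (code v) 5) 0 = _ from h5]
  by_cases a : v 0 = 0 <;> by_cases b : v 1 = 0 <;> by_cases c : v 2 = 0 <;> by_cases d : v 3 = 0 <;>
    by_cases e : v 4 = 0 <;> by_cases f : v 5 = 0 <;> simp [a, b, c, d, e, f] <;> decide +kernel

theorem herm_eq_iff (u v : V6) : herm u u = herm v v ↔ Chk.qb (code u) = Chk.qb (code v) := by
  rw [qb_spec, qb_spec]
  cases Chk.qb (code u) <;> cases Chk.qb (code v) <;> simp

/-- multiplication by the scalar -/
def smw (v : V6) : V6 := F4.w • v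

/-- linear isometries -/
structure Lin (p : PV) : Prop where
  add : AddP p
  smul : ∀ v, p (F4.w • v) = F4.w • p v
  form : ∀ v, herm (p v) (p v) = herm v v

/-- the group of linear isometries -/
def LinG : Subgroup PV where
  carrier := {p | Lin p}
  one_mem' := ⟨AddP.one, fun _ => rfl, fun _ => rfl⟩
  mul_mem' := fun {a b} ha hb => ⟨ha.add.mul hb.add,
    fun v => by rw [Equiv.Perm.mul_apply, hb.smul, ha.smul]; rfl, fun v => by
      rw [Equiv.Perm.mul_apply, ha.form, hb.form]⟩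
  inv_mem' := fun {a} ha => ⟨ha.add.inv, fun v => by
      apply a.injective
      rw [ha.smul, ← Equiv.Perm.mul_apply, ← Equiv.Perm.mul_apply, mul_inv_cancel]; rfl,
    fun v => by
      conv_rhs => rw [show v = a (a⁻¹ v) from (a.apply_symm_apply v).symm, ha.form]⟩

theorem mem_LinG {p : PV} : p ∈ LinG ↔ Lin p := Iff.rfl

theorem qSame_map {p : PV} (hp : AddP p) (hq : ∀ v, herm (p v) (p v) = herm v v) :
    ∀ L : List ℕ, (∀ k ∈ L, k < 4096) →
      Chk.qSame (L.map fun k => code (p (SUSix.vecOf k))) L = true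
  | [], _ => rfl
  | a :: L, h => by
    have ha := h a List.mem_cons_self
    simp only [List.map_cons, Chk.qSame, Bool.and_eq_true, beq_iff_eq, List.all_eq_true]
    refine ⟨⟨?_, fun r hr => ?_⟩, qSame_map hp hq L fun k hk => h k (List.mem_cons_of_mem _ hk)⟩
    · conv_rhs => rw [← code_vecOf a ha]
      exact (herm_eq_iff _ _).1 (hq _)
    · rw [List.zip_map_left, List.mem_map] at hr
      obtain ⟨⟨b, b'⟩, hb, rfl⟩ := hr
      obtain ⟨i, hi, hi'⟩ := List.getElem_of_mem hb
      rw [List.getElem_zip] at hi'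
      obtain ⟨rfl, rfl⟩ := Prod.mk.inj hi'
      have hiL : i < L.length := by simpa using hi
      have hb' := h _ (List.mem_cons_of_mem a (List.getElem_mem hiL))
      show Chk.qb (code (p (SUSix.vecOf a)) ^^^ code (p (SUSix.vecOf L[i]))) = Chk.qb (a ^^^ L[i])
      rw [← code_add, ← hp, ← vecOf_xor ha hb']
      conv_rhs => rw [← code_vecOf _ (xor_lt ha hb')]
      exact (herm_eq_iff _ _).1 (hq _)

theorem isoOK_cols {p : PV} (hp : Lin p) : Chk.isoOK (cols p) = true :=
  qSame_map hp.add hp.form _ idL_lt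

/-! ### the generators -/

theorem colG_len : ∀ s < 5, (Chk.gn s).length = 12 ∧ ∀ c ∈ Chk.gn s, c < 4096 := by decide +kernel

theorem colI_lt : ∀ s < 3, ∀ c ∈ Dat.colI.getD s [], c < 4096 := by decide +kernel

theorem gen_facts :
    (∀ s < 4, Chk.isoOK (Chk.gn s) = true ∧ Chk.cmul (Chk.gn s) Chk.cW = Chk.cmul Chk.cW (Chk.gn s)) ∧
    (∀ s < 3, Chk.cmul (Chk.gn s) (Dat.colI.getD s []) = Chk.idL ∧ Chk.cmul (Dat.colI.getD s []) (Chk.gn s) = Chk.idL) ∧
    (∀ s < 4, Chk.cmul Chk.cE (Chk.cmul (Chk.gn s) Chk.cE) = Chk.evC (Dat.outW.getD s [])) ∧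
    Chk.cpow Chk.cA 11 = Chk.idL ∧ Chk.cpow Chk.cD 5 = Chk.idL ∧ Chk.cpow Chk.cT 4 = Chk.idL ∧
    Chk.cpow Chk.cW 3 = Chk.idL ∧ Chk.cmul Chk.cD Chk.cA = Chk.cmul (Chk.cpow Chk.cA 3) Chk.cD ∧
    Chk.cmul Chk.cT Chk.cD = Chk.cmul (Chk.cmul Chk.cD Chk.cD) Chk.cT ∧
    Chk.isoOK Chk.cE = true ∧ Chk.cmul Chk.cE Chk.cE = Chk.idL ∧
    Chk.cmul Chk.cE Chk.cW = Chk.cmul (Chk.cmul Chk.cW Chk.cW) Chk.cE := by
  have h := Chk.gen_ok
  simp only [Chk.genOK, Bool.and_eq_true, List.all_eq_true, List.mem_range, leq_iff] at h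
  obtain ⟨⟨⟨⟨⟨⟨⟨⟨⟨⟨⟨⟨h1, h2⟩, h3⟩, h4⟩, h5⟩, h6⟩, h7⟩, h8⟩, h9⟩, h10⟩, h11⟩, h12⟩, -⟩ := h
  exact ⟨fun s hs => ⟨(h1 s hs).1.1, (h1 s hs).1.2⟩, h2, h3, h4, h5, h6, h7, h8, h9, h10, h11, h12⟩

theorem scal_units : ∀ i < 12, code (smw (SUSix.vecOf (2 ^ i))) = Chk.app Chk.cW (2 ^ i) := by decide +kernel

theorem code_smw (v : V6) : code (F4.w • v) = Chk.app Chk.cW (code v) :=
  code_map (F := smw) (fun a b => smul_add _ a b) scal_units v

/-- inverse lists of the five generators -/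
def ginv : ℕ → List ℕ
  | 3 => Chk.cmul Chk.cW Chk.cW
  | 4 => Chk.cE
  | s => Dat.colI.getD s []

theorem ginv_facts : ∀ s < 5, (∀ c ∈ ginv s, c < 4096) ∧ Chk.cmul (Chk.gn s) (ginv s) = Chk.idL ∧
    Chk.cmul (ginv s) (Chk.gn s) = Chk.idL := by
  decide +kernel

/-- the generators: three linear ones, the scalar, the outer element -/
def gP (s : Fin 5) : PV :=
  ofL (Chk.gn s) (ginv s)
    (inv_lists (ginv_facts s s.2).1 (ginv_facts s s.2).2.1)
    (inv_lists (colG_len s s.2).2 (ginv_facts s s.2).2.2)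

theorem gP_spec (s : Fin 5) : AddP (gP s) ∧ cols (gP s) = Chk.gn s ∧ ∀ v, code (gP s v) = Chk.app (Chk.gn s) (code v) :=
  ofL_spec (colG_len s s.2).1 (colG_len s s.2).2

/-- the first generator -/
def gA : PV := gP 0
/-- the second generator -/
def gD : PV := gP 1
/-- the third generator -/
def gT : PV := gP 2
/-- the scalar -/
def gW : PV := gP 3
/-- the outer element -/
def eo : PV := gP 4

theorem gW_apply (v : V6) : gW v = F4.w • v := code_inj (by
  rw [code_smw]
  exact (gP_spec 3).2.2 v)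

theorem smul_comm_of_cols {p : PV} (hp : AddP p)
    (h : Chk.cmul (cols p) Chk.cW = Chk.cmul Chk.cW (cols p)) (v : V6) : p (F4.w • v) = F4.w • p v := by
  refine code_inj ?_
  rw [app_cols hp, code_smw, code_smw, app_cols hp, ← app_cmul, h, app_cmul]

theorem form_of_cols {p : PV} (hp : AddP p)
    (h : ∀ k < 4096, Chk.qb (Chk.app (cols p) k) = Chk.qb k) (v : V6) : herm (p v) (p v) = herm v v := by
  rw [herm_eq_iff, app_cols hp]
  exact h _ (code_lt v)

theorem form_chk (L : List ℕ) (hL : L ∈ Dat.colG ++ Dat.conjT) (k : ℕ) (hk : k < 4096) :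
    Chk.qb (Chk.app L k) = Chk.qb k := by
  have h := all_range (p := Chk.formOK) Chk.form_ok (Nat.zero_le _) (u := k) (by omega)
  simp only [Chk.formOK, List.all_eq_true, beq_iff_eq] at h
  exact h L hL

theorem gn_mem (s : ℕ) (hs : s < 5) : Chk.gn s ∈ Dat.colG ++ Dat.conjT := by
  refine List.mem_append_left _ ?_
  have hl : s < Dat.colG.length := lt_of_lt_of_eq hs (by decide +kernel)
  rw [Chk.gn, List.getD_eq_getElem _ _ hl]
  exact List.getElem_mem _

theorem gP_lin (s : Fin 5) (hs : s.val < 4) : Lin (gP s) := by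
  obtain ⟨ha, hc, -⟩ := gP_spec s
  obtain ⟨h1, h2⟩ := gen_facts.1 s hs
  exact ⟨ha, smul_comm_of_cols ha (by rw [hc]; exact h2), form_of_cols ha (by rw [hc]; exact form_chk _ (gn_mem s (by omega)))⟩

theorem eo_form (v : V6) : herm (eo v) (eo v) = herm v v :=
  form_of_cols (gP_spec 4).1 (by rw [(gP_spec 4).2.1]; exact form_chk _ (gn_mem 4 (by norm_num))) v

/-- the product of a word -/
def wd (w : List ℕ) : PV := (w.map fun s => gP (Fin.ofNat 5 s)).prod

theorem wd_code : ∀ (w : List ℕ), (∀ s ∈ w, s < 5) → ∀ f : V6, code (wd w f) = Chk.evW w (code f)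
  | [], _, f => by simp [wd, Chk.evW]
  | s :: w, h, f => by
    have hs : (Fin.ofNat 5 s).val = s := Nat.mod_eq_of_lt (h s (by simp))
    show code ((gP (Fin.ofNat 5 s) * wd w) f) = Chk.app (Chk.gn s) (Chk.evW w (code f))
    rw [Equiv.Perm.mul_apply, (gP_spec _).2.2, hs, wd_code w (fun x hx => h x (by simp [hx]))]

theorem wd_addP : ∀ w : List ℕ, AddP (wd w)
  | [] => AddP.one
  | _ :: w => (gP_spec _).1.mul (wd_addP w)

theorem wd_cols (w : List ℕ) (hw : ∀ s ∈ w, s < 5) : cols (wd w) = Chk.evC w :=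
  List.map_congr_left fun k hk => by rw [wd_code w hw, code_vecOf k (idL_lt k hk)]

/-- the group 3.M22 -/
def Kp : Subgroup PV := Subgroup.closure ({gA, gD, gT, gW} : Set PV)

theorem gA_mem : gA ∈ Kp := Subgroup.subset_closure (Or.inl rfl)
theorem gD_mem : gD ∈ Kp := Subgroup.subset_closure (Or.inr (Or.inl rfl))
theorem gT_mem : gT ∈ Kp := Subgroup.subset_closure (Or.inr (Or.inr (Or.inl rfl)))
theorem gW_mem : gW ∈ Kp := Subgroup.subset_closure (Or.inr (Or.inr (Or.inr rfl)))

theorem gP_mem (s : Fin 5) (hs : s.val < 4) : gP s ∈ Kp := by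
  fin_cases s
  exacts [gA_mem, gD_mem, gT_mem, gW_mem, absurd hs (by decide)]

theorem wd_mem : ∀ (w : List ℕ), (∀ s ∈ w, s < 4) → wd w ∈ Kp
  | [], _ => one_mem _
  | s :: w, h => by
    have hs := h s (by simp)
    exact mul_mem (gP_mem _ (show (Fin.ofNat 5 s).val < 4 by
      rw [show (Fin.ofNat 5 s).val = s from Nat.mod_eq_of_lt (by omega)]; exact hs))
      (wd_mem w fun x hx => h x (by simp [hx]))

theorem Kp_le_LinG : Kp ≤ LinG := (Subgroup.closure_le _).2 (by
  rintro p (rfl | rfl | rfl | rfl) <;> exact gP_lin _ (by decide))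

theorem gW_comm {p : PV} (hp : Lin p) : Commute gW p := Equiv.ext fun v => by
  rw [Equiv.Perm.mul_apply, Equiv.Perm.mul_apply, gW_apply, gW_apply, hp.smul]

theorem outW_lt : ∀ s < 4, ∀ x ∈ Dat.outW.getD s [], x < 4 := by decide +kernel

theorem eo_sq : eo * eo = 1 := by
  show gP 4 * gP 4 = 1
  refine eq_of_cols ((gP_spec 4).1.mul (gP_spec 4).1) AddP.one ?_
  rw [cols_mul (gP_spec 4).1, (gP_spec 4).2.1, cols_one]
  exact gen_facts.2.2.2.2.2.2.2.2.2.2.1

theorem eo_inv : eo⁻¹ = eo := inv_eq_of_mul_eq_one_right eo_sq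

theorem eo_smul (v : V6) : eo (F4.w • v) = F4.v • eo v := by
  have h : eo * gW = gW * gW * eo := by
    have ha := (gP_spec 3).1
    show gP 4 * gP 3 = gP 3 * gP 3 * gP 4
    refine eq_of_cols ((gP_spec 4).1.mul ha) ((ha.mul ha).mul (gP_spec 4).1) ?_
    rw [cols_mul (gP_spec 4).1, cols_mul (ha.mul ha), cols_mul ha, (gP_spec 4).2.1, (gP_spec 3).2.1]
    exact gen_facts.2.2.2.2.2.2.2.2.2.2.2
  have e := Equiv.congr_fun h v
  rw [Equiv.Perm.mul_apply, Equiv.Perm.mul_apply, Equiv.Perm.mul_apply, gW_apply, gW_apply, gW_apply, smul_smul] at e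
  exact e

theorem outer_normalizes {p : PV} (hp : p ∈ Kp) : eo * p * eo⁻¹ ∈ Kp := by
  have hgen : ∀ s : Fin 5, s.val < 4 → eo * gP s * eo⁻¹ ∈ Kp := by
    intro s hs
    obtain ⟨ha, hc, -⟩ := gP_spec s
    have h : eo * gP s * eo⁻¹ = wd (Dat.outW.getD s.val []) := by
      rw [eo_inv, mul_assoc]
      show gP 4 * (gP s * gP 4) = _
      refine eq_of_cols ((gP_spec 4).1.mul (ha.mul (gP_spec 4).1)) (wd_addP _) ?_
      rw [cols_mul (gP_spec 4).1, cols_mul ha, hc, (gP_spec 4).2.1,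
        wd_cols _ fun x hx => by have := outW_lt s hs x hx; omega]
      exact gen_facts.2.2.1 s hs
    rw [h]
    exact wd_mem _ (outW_lt s hs)
  induction hp using Subgroup.closure_induction with
  | mem x hx => rcases hx with rfl | rfl | rfl | rfl <;> exact hgen _ (by decide)
  | one => rw [mul_one, mul_inv_cancel]; exact one_mem _
  | mul x y _ _ ihx ihy => rw [← conj_mul]; exact mul_mem ihx ihy
  | inv x _ ih => rw [← conj_inv]; exact inv_mem ih

theorem outer_notMem : eo ∉ Kp := by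
  intro h
  have e := (Kp_le_LinG h).smul (SUSix.vecOf 1)
  rw [eo_smul] at e
  have e0 := congrArg code e
  rw [code_smw, show F4.v • eo (SUSix.vecOf 1) = F4.w • (F4.w • eo (SUSix.vecOf 1)) by rw [smul_smul]; rfl,
    code_smw, code_smw, show code (eo (SUSix.vecOf 1)) = Chk.app (Chk.gn 4) (code (SUSix.vecOf 1)) from (gP_spec 4).2.2 _, code_vecOf 1 (by norm_num)] at e0
  exact absurd e0 (by decide +kernel)

/-- the extension by the outer element -/
def Gam : Subgroup PV where
  carrier := {p | p ∈ Kp ∨ eo * p ∈ Kp}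
  one_mem' := Or.inl (one_mem _)
  mul_mem' := by
    rintro a b (ha | ha) (hb | hb)
    · exact Or.inl (mul_mem ha hb)
    · refine Or.inr ?_
      rw [show eo * (a * b) = (eo * a * eo⁻¹) * (eo * b) by group]
      exact mul_mem (outer_normalizes ha) hb
    · refine Or.inr ?_
      rw [← mul_assoc]; exact mul_mem ha hb
    · refine Or.inl ?_
      rw [show a * b = (eo⁻¹ * (eo * a) * eo⁻¹) * (eo * b) by group, eo_inv]
      refine mul_mem ?_ hb
      conv => arg 2; rw [show eo * (eo * a) * eo = eo * (eo * a) * eo⁻¹ by rw [eo_inv]]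
      exact outer_normalizes ha
  inv_mem' := by
    rintro a (ha | ha)
    · exact Or.inl (inv_mem ha)
    · refine Or.inr ?_
      rw [show eo * a⁻¹ = eo * (eo * a)⁻¹ * eo by group, show eo * (eo * a)⁻¹ * eo = eo * (eo * a)⁻¹ * eo⁻¹ by
        rw [eo_inv]]
      exact outer_normalizes (inv_mem ha)

theorem Kp_le : Kp ≤ Gam := fun _ h => Or.inl h

theorem outer_mem : eo ∈ Gam := Or.inr (by rw [eo_sq]; exact one_mem _)

theorem gP_memG (s : Fin 5) : gP s ∈ Gam := by
  fin_cases s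
  exacts [Kp_le gA_mem, Kp_le gD_mem, Kp_le gT_mem, Kp_le gW_mem, outer_mem]

theorem wd_memG : ∀ w : List ℕ, wd w ∈ Gam
  | [] => one_mem _
  | _ :: w => mul_mem (gP_memG _) (wd_memG w)

theorem index_Gam : (Kp.subgroupOf Gam).index = 2 := by
  rw [Subgroup.index_eq_two_iff]
  refine ⟨⟨eo, outer_mem⟩, fun b => ?_⟩
  simp only [Subgroup.mem_subgroupOf, Subgroup.coe_mul]
  rcases b.2 with h | h
  · refine Or.inr ⟨h, fun h' => outer_notMem ?_⟩
    have h2 := outer_normalizes (mul_mem (inv_mem h) h')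
    rw [inv_mul_cancel_left, mul_inv_cancel_right] at h2
    exact h2
  · have h2 := outer_normalizes h
    rw [← mul_assoc, eo_sq, one_mul, eo_inv] at h2
    refine Or.inl ⟨h2, fun h' => outer_notMem ?_⟩
    have h3 := mul_mem (inv_mem h') h2
    rwa [inv_mul_cancel_left] at h3

theorem Gam_addP {p : PV} (hp : p ∈ Gam) : AddP p := by
  rcases hp with h | h
  · exact (Kp_le_LinG h).add
  · have := (gP_spec 4).1.mul (Kp_le_LinG h).add
    rwa [show gP 4 = eo from rfl, ← mul_assoc, eo_sq, one_mul] at this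

/-! ### the two orbits -/

/-- membership in the shorter orbit -/
def PA (v : V6) : Prop := Chk.isA (code v) = true

/-- nonzero isotropic -/
def PI (v : V6) : Prop := Chk.isI (code v) = true

instance : DecidablePred PA := fun _ => inferInstanceAs (Decidable (_ = _))
instance : DecidablePred PI := fun _ => inferInstanceAs (Decidable (_ = _))

theorem PI_iff (v : V6) : PI v ↔ v ≠ 0 ∧ herm v v = 0 := by
  rw [PI, Chk.isI, qb_spec]
  simp only [Bool.and_eq_true, Bool.not_eq_true']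
  refine and_congr ?_ ?_
  · rw [← Bool.not_eq_true]
    exact not_congr ⟨fun h => code_inj ((Nat.eq_of_beq_eq_true h).trans code_zero.symm),
      fun h => by rw [h, code_zero]; rfl⟩
  · cases Chk.qb (code v) <;> simp

/-- maps preserving both predicates -/
def Pres : Subgroup PV where
  carrier := {p | ∀ v, (PA (p v) ↔ PA v) ∧ (PI (p v) ↔ PI v)}
  one_mem' := fun _ => ⟨Iff.rfl, Iff.rfl⟩
  mul_mem' {a b} ha hb v := ⟨(ha (b v)).1.trans (hb v).1, (ha (b v)).2.trans (hb v).2⟩
  inv_mem' {a} ha v := by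
    have h := ha (a⁻¹ v)
    rw [show a (a⁻¹ v) = v from a.apply_symm_apply v] at h
    exact ⟨h.1.symm, h.2.symm⟩

theorem gP_pres (s : Fin 5) : gP s ∈ Pres := fun v => by
  have h := all_range (p := Chk.invOK) Chk.inv_ok (Nat.zero_le _) (u := code v) (by simpa using code_lt v)
  simp only [Chk.invOK, List.all_eq_true] at h
  have hl : s.val < Dat.colG.length := lt_of_lt_of_eq s.2 (by decide +kernel)
  have h2 := h (Chk.gn s) (by rw [Chk.gn, List.getD_eq_getElem _ _ hl]; exact List.getElem_mem _)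
  simp only [Bool.and_eq_true, beq_iff_eq] at h2
  simp only [PA, PI, (gP_spec s).2.2, h2, and_self]

theorem Gam_le_Pres : Gam ≤ Pres := by
  have hK : Kp ≤ Pres := (Subgroup.closure_le _).2 (by
    rintro p (rfl | rfl | rfl | rfl) <;> exact gP_pres _)
  rintro p (hp | hp)
  · exact hK hp
  · rw [show p = eo⁻¹ * (eo * p) by group]
    exact mul_mem (inv_mem (gP_pres 4)) (hK hp)

/-- representative of the shorter orbit -/
def va : V6 := SUSix.vecOf Chk.kA

/-- representative of the longer orbit -/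
def vb : V6 := SUSix.vecOf Chk.kB

theorem code_va : code va = Chk.kA := code_vecOf _ (by decide)

theorem code_vb : code vb = Chk.kB := code_vecOf _ (by decide)

theorem PA_va : PA va ∧ PI va ∧ ¬ PA vb ∧ PI vb := by
  have h := Chk.count_ok
  simp only [Chk.countOK, Bool.and_eq_true, Bool.not_eq_true'] at h
  obtain ⟨⟨⟨⟨-, h1⟩, h2⟩, h3⟩, h4⟩ := h
  simp only [PA, PI, code_va, code_vb, h1, h2, h3, h4]
  decide

theorem count_code (P : ℕ → Bool) {n : ℕ} (h : ((List.range 4096).filter P).length = n) :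
    {v : V6 | P (code v) = true}.ncard = n := by
  have e : code '' {v : V6 | P (code v) = true} = (((List.range 4096).filter P).toFinset : Set ℕ) := by
    ext k
    simp only [List.coe_toFinset, List.mem_filter, List.mem_range, Set.mem_image, Set.mem_setOf_eq]
    constructor
    · rintro ⟨v, hv, rfl⟩; exact ⟨code_lt v, hv⟩
    · rintro ⟨hk, hP⟩; exact ⟨SUSix.vecOf k, by rwa [code_vecOf k hk], code_vecOf k hk⟩
  rw [← Set.ncard_image_of_injective _ code_inj, e, Set.ncard_coe_finset,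
    List.toFinset_card_of_nodup (List.nodup_range.filter _), h]

theorem count_A : {v : V6 | PI v ∧ PA v}.ncard = 693 ∧ {v : V6 | PI v ∧ ¬ PA v}.ncard = 1386 := by
  have h := Chk.count_ok
  simp only [Chk.countOK, Bool.and_eq_true] at h
  obtain ⟨⟨⟨⟨⟨h1, h2⟩, -⟩, -⟩, -⟩, -⟩ := h
  refine ⟨?_, ?_⟩
  · rw [← count_code (fun k => Chk.isI k && Chk.isA k) (Nat.eq_of_beq_eq_true h1)]
    congr 1; ext v; simp [PI, PA]
  · rw [← count_code (fun k => Chk.isI k && !Chk.isA k) (Nat.eq_of_beq_eq_true h2)]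
    congr 1; ext v; simp [PI, PA]

/-- transitivity on both orbits -/
theorem trans {v : V6} (hv : PI v) :
    (PA v → ∃ p ∈ Kp, p va = v) ∧ (¬ PA v → ∃ p ∈ Kp, p vb = v) := by
  have key : ∀ n, ∀ k < 4096, fld Dat.treeD 16 k ≤ n → Chk.isI k = true →
      ∃ p ∈ Kp, p (if Chk.isA k then va else vb) = SUSix.vecOf k := by
    intro n
    induction n using Nat.strong_induction_on with
    | _ n ih =>
      intro k hk hn hI
      have h := all_range (p := Chk.treeOK) Chk.tree_ok (Nat.zero_le _) (u := k) (by omega)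
      simp only [Chk.treeOK, hI, Bool.not_true, Bool.false_or, Bool.or_eq_true, Bool.and_eq_true, beq_iff_eq] at h
      obtain ⟨hA1, -, hA3, -⟩ := PA_va
      rw [PA, code_va] at hA1
      rw [PA, code_vb] at hA3
      rcases h with (h | h) | ⟨⟨⟨⟨⟨hg, hP⟩, happ⟩, hd⟩, hIp⟩, hA⟩
      · rw [Nat.eq_of_beq_eq_true h]
        exact ⟨1, one_mem _, by rw [if_pos hA1]; rfl⟩
      · rw [Nat.eq_of_beq_eq_true h]
        exact ⟨1, one_mem _, by rw [if_neg hA3]; rfl⟩
      · have hg' := Nat.le_of_ble_eq_true hg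
        have hP' := Nat.le_of_ble_eq_true hP
        have hd' := Nat.le_of_ble_eq_true hd
        obtain ⟨p, hp, hpv⟩ := ih (fld Dat.treeD 16 (fld Dat.treeP 16 k)) (by omega) _ (by omega) le_rfl hIp
        refine ⟨gP ⟨fld Dat.treeG 16 k, by omega⟩ * p, mul_mem (gP_mem _ (show fld Dat.treeG 16 k < 4 by omega)) hp,
          code_inj ?_⟩
        rw [← hA, Equiv.Perm.mul_apply, hpv, (gP_spec _).2.2, code_vecOf _ (by omega), code_vecOf _ hk]
        exact Nat.eq_of_beq_eq_true happ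
  obtain ⟨p, hp, hpv⟩ := key _ (code v) (code_lt v) le_rfl hv
  rw [vecOf_code] at hpv
  constructor <;> intro h
  · exact ⟨p, hp, by rwa [if_pos (show Chk.isA (code v) = true from h)] at hpv⟩
  · exact ⟨p, hp, by rwa [if_neg (show ¬ Chk.isA (code v) = true from h)] at hpv⟩

end Cfsg.Agent.Spor.JFour
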