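import Cfsg.Agent.Lib.Spor.U43Corr
import Cfsg.Agent.Lib.Spor.JFourModel

/-!
Linear isometries as matrices: the elements of order eleven form a single class of subgroups, and lists of unit
images from images of a basis.
-/

set_option autoImplicit false
set_option maxRecDepth 100000

namespace Cfsg.Agent.Spor.JFour

open Cfsg.Agent.Spor.SUSix (G6 V6 code code_lt vecOf_code)
open Cfsg.Agent.Spor.SpFour (F4)
open Cfsg.Agent.Spor.U43 (mat)
open Cfsg.Agent.Small.Unitary (herm)
open Matrix

theorem Lin.smul_all {p : PV} (hp : Lin p) : ∀ (c : F4) (v : V6), p (c • v) = c • p v := by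
  intro c v
  have h0 : p 0 = 0 := by simpa using hp.add 0 0
  cases c
  · rw [show (F4.o : F4) = 0 from rfl, zero_smul, zero_smul, h0]
  · rw [show (F4.i : F4) = 1 from rfl, one_smul, one_smul]
  · exact hp.smul v
  · rw [show (F4.v : F4) = F4.w * F4.w from rfl, mul_smul, mul_smul, hp.smul, hp.smul]

theorem Lin.herm_eq {p : PV} (hp : Lin p) (f g : V6) : herm (p f) (p g) = herm f g := by
  have key : ∀ a b : F4, a + star a = b + star b → F4.w * a + star (F4.w * a) = F4.w * b + star (F4.w * b) → a = b := by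
    decide +kernel
  have h2 : ∀ f g, herm (p f) (p g) + star (herm (p f) (p g)) = herm f g + star (herm f g) := by
    intro f g
    have e := hp.form (f + g)
    rw [hp.add, Small.Unitary.herm_add_left, Small.Unitary.herm_add_left, Small.Unitary.herm_add_right,
      Small.Unitary.herm_add_right, Small.Unitary.herm_add_right, Small.Unitary.herm_add_right, hp.form, hp.form] at e
    rw [Small.Unitary.star_herm, Small.Unitary.star_herm]
    have k2 : ∀ a b c d e f : F4, a + b + (c + d) = a + e + (f + d) → b + c = e + f := by decide +kernel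
    exact k2 _ _ _ _ _ _ e
  refine key _ _ (h2 f g) ?_
  have := h2 f (F4.w • g)
  rwa [hp.smul, Small.Unitary.herm_smul_right, Small.Unitary.herm_smul_right] at this

/-- the action of the special unitary group -/
def actV : G6 →* PV where
  toFun A :=
    { toFun := Small.Unitary.act A
      invFun := Small.Unitary.act A⁻¹
      left_inv := Small.Unitary.act_inv_act A
      right_inv := Small.Unitary.act_act_inv A }
  map_one' := Equiv.ext fun v => Small.Unitary.act_one v
  map_mul' A B := Equiv.ext fun v => Small.Unitary.act_mul A B v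

theorem actV_apply (A : G6) (v : V6) : actV A v = mat A *ᵥ v := rfl

theorem actV_inj : Function.Injective actV := fun A B h => U43.G6_ext (Matrix.ext fun i j => by
  have := congrFun (Equiv.congr_fun h (Pi.single j 1)) i
  simpa [actV_apply] using this)

theorem actV_lin (A : G6) : Lin (actV A) :=
  ⟨fun u v => Small.Unitary.act_add A u v, fun v => Small.Unitary.act_smul A F4.w v, fun v => by
    show herm (mat A *ᵥ v) (mat A *ᵥ v) = herm v v
    have hu : (mat A)ᴴ * mat A = 1 := (Small.Unitary.mem_SU_iff SpFour.F4.star_eq_pow A.1).1 A.2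
    rw [herm, Matrix.star_mulVec, ← Matrix.dotProduct_mulVec, Matrix.mulVec_mulVec, hu, Matrix.one_mulVec]
    rfl⟩

/-- an isometry of order dividing eleven is special -/
theorem exists_G6 {p : PV} (hp : Lin p) (h11 : p ^ 11 = 1) : ∃ A : G6, actV A = p := by
  set M : Matrix (Fin 6) (Fin 6) F4 := Matrix.of fun i j => p (Pi.single j 1) i with hM
  have hMv : ∀ v, M *ᵥ v = p v := by
    intro v
    let L : V6 →ₗ[F4] V6 := { toFun := p, map_add' := hp.add, map_smul' := hp.smul_all }
    have : Matrix.mulVecLin M = L := by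
      refine (Pi.basisFun F4 (Fin 6)).ext fun j => funext fun i => ?_
      rw [Pi.basisFun_apply]
      show (M *ᵥ Pi.single j 1) i = p (Pi.single j 1) i
      rw [Matrix.mulVec_single_one]
      rfl
    exact LinearMap.congr_fun this v
  have hu : Mᴴ * M = 1 := by
    ext i j
    have e := hp.herm_eq (Pi.single i 1) (Pi.single j 1)
    have e1 : herm (p (Pi.single i 1)) (p (Pi.single j 1)) = (Mᴴ * M) i j := rfl
    rw [← e1, e]
    simp [herm, Matrix.one_apply, Pi.single_apply, eq_comm]
  have hpow : ∀ n : ℕ, ∀ v, (M ^ n) *ᵥ v = (p ^ n) v := by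
    intro n
    induction n with
    | zero => intro v; rw [pow_zero, pow_zero, Matrix.one_mulVec]; rfl
    | succ n ih => intro v; rw [pow_succ, pow_succ, ← Matrix.mulVec_mulVec, ih, hMv]; rfl
  have h1 : M ^ 11 = 1 := Matrix.ext fun i j => by
    have e := congrFun (hpow 11 (Pi.single j 1)) i
    rw [h11, Equiv.Perm.one_apply, Matrix.mulVec_single_one] at e
    rw [Matrix.one_apply]
    exact e.trans (by rw [Pi.single_apply])
  have hd : M.det = 1 := by
    have h2 := congrArg Matrix.det h1
    rw [Matrix.det_pow, Matrix.det_one] at h2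
    revert h2
    generalize M.det = d
    revert d
    decide +kernel
  exact ⟨Small.Unitary.mkSU SpFour.F4.star_eq_pow M hu hd, Equiv.ext fun v => hMv v⟩

/-- two isometries of order eleven generate conjugate subgroups -/
theorem eleven_conj {p q : PV} (hp : Lin p) (hp1 : p ≠ 1) (hp11 : p ^ 11 = 1) (hq : Lin q) (hq1 : q ≠ 1)
    (hq11 : q ^ 11 = 1) : ∃ B, Lin B ∧ ∃ m : ℕ, B * p * B⁻¹ = q ^ m := by
  haveI : Fact (Nat.Prime 11) := ⟨by norm_num⟩
  obtain ⟨a, rfl⟩ := exists_G6 hp hp11
  obtain ⟨b, rfl⟩ := exists_G6 hq hq11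
  have ho : ∀ c : G6, actV c ≠ 1 → actV c ^ 11 = 1 → Nat.card (Subgroup.zpowers c) = 11 ^ 1 := by
    intro c h1 h2
    rw [Nat.card_zpowers, pow_one]
    exact orderOf_eq_prime (actV_inj (by rw [map_pow, h2, map_one])) fun e => h1 (by rw [e, map_one])
  have hf : (Nat.card (⊤ : Subgroup G6)).factorization 11 = 1 := by
    rw [Subgroup.card_top, U43.card_G6, show 27590492160 = 11 ^ 1 * 2508226560 by norm_num,
      Nat.factorization_mul (by norm_num) (by norm_num), Finsupp.add_apply,
      Nat.factorization_eq_zero_of_not_dvd (show ¬ 11 ∣ 2508226560 by norm_num),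
      Nat.Prime.factorization_pow (by norm_num), Finsupp.single_eq_same, add_zero]
  obtain ⟨k, -, hk⟩ := U43.exists_conj_of_card (p := 11) (n := 1) (K := (⊤ : Subgroup G6))
    (P := Subgroup.zpowers a) (Q := Subgroup.zpowers b) hf le_top le_top (ho a hp1 hp11) (ho b hq1 hq11)
  have hm : k * a * k⁻¹ ∈ Subgroup.zpowers b := hk ▸ ⟨a, Subgroup.mem_zpowers a, rfl⟩
  obtain ⟨m, hm⟩ := (mem_powers_iff_mem_zpowers (x := b)).2 hm
  refine ⟨actV k, actV_lin k, m, ?_⟩
  have e := congrArg actV hm
  simp only [map_pow, map_mul, map_inv] at e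
  exact e.symm

/-! ### unit images from images of a basis -/

theorem app_list12 : ∀ L : List ℕ, L.length = 12 → Chk.cmul L Chk.idL = L
  | [a0, a1, a2, a3, a4, a5, a6, a7, a8, a9, a10, a11], _ => by
    simp only [Chk.cmul, Chk.idL, List.map_cons, List.map_nil, List.cons.injEq, and_true]
    refine ⟨?_, ?_, ?_, ?_, ?_, ?_, ?_, ?_, ?_, ?_, ?_, ?_⟩ <;> exact Nat.zero_xor _

theorem cols_length (p : PV) : (cols p).length = 12 := by rw [cols, List.length_map]; rfl

theorem build_eq {P co bs : List ℕ} (hP : P.length = 12) (hco : Chk.build co bs = Chk.idL) :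
    P = Chk.build co (Chk.cmul P bs) := by
  conv_lhs => rw [← app_list12 P hP, ← hco]
  rw [Chk.build, Chk.build, Chk.cmul, List.map_map]
  exact List.map_congr_left fun m _ => (app_cmul P bs m).symm

theorem app_comm {X A Y : List ℕ} (h : Chk.cmul X A = Chk.cmul Y X) (k : ℕ) :
    Chk.app X (Chk.app A k) = Chk.app Y (Chk.app X k) := by
  rw [← app_cmul, h, app_cmul]

theorem app_itr {X A Y : List ℕ} (h : Chk.cmul X A = Chk.cmul Y X) : ∀ (n k : ℕ),
    Chk.app X (Chk.itr A n k) = Chk.itr Y n (Chk.app X k)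
  | 0, _ => rfl
  | n + 1, k => by
    show Chk.app X (Chk.app A (Chk.itr A n k)) = Chk.app Y (Chk.itr Y n (Chk.app X k))
    rw [app_comm h, app_itr h n]

theorem cmul_withW {X : List ℕ} (hW : Chk.cmul X Chk.cW = Chk.cmul Chk.cW X) : ∀ L : List ℕ,
    Chk.cmul X (Chk.withW L) = Chk.withW (L.map (Chk.app X))
  | [] => rfl
  | a :: L => by
    show Chk.cmul X (a :: Chk.app Chk.cW a :: Chk.withW L) = _
    show Chk.app X a :: Chk.app X (Chk.app Chk.cW a) :: Chk.cmul X (Chk.withW L) = _
    rw [app_comm hW, cmul_withW hW L]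
    rfl

theorem cmul_orbImg {X A Y : List ℕ} (hW : Chk.cmul X Chk.cW = Chk.cmul Chk.cW X)
    (h : Chk.cmul X A = Chk.cmul Y X) (u : ℕ) :
    Chk.cmul X (Chk.orbImg A u) = Chk.orbImg Y (Chk.app X u) := by
  rw [Chk.orbImg, cmul_withW hW]
  simp only [List.map_cons, List.map_nil, app_itr h, app_comm h, Chk.orbImg]

theorem cmul_orbImgD {X A Y : List ℕ} (hW : Chk.cmul X Chk.cW = Chk.cmul Chk.cW X)
    (h : Chk.cmul X A = Chk.cmul Y X) (u : ℕ) :
    Chk.cmul X (Chk.orbImgD A u) = Chk.orbImgD Y (Chk.app X u) := by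
  rw [Chk.orbImgD, cmul_withW hW]
  simp only [List.map_cons, List.map_nil, app_itr h, app_comm h, Chk.orbImgD]

theorem Lin.cols_comm {p : PV} (hp : Lin p) : Chk.cmul (cols p) Chk.cW = Chk.cmul Chk.cW (cols p) := by
  rw [← show cols gW = Chk.cW from (gP_spec 3).2.1, ← cols_mul hp.add, ← cols_mul (show AddP gW from (gP_spec 3).1),
    (gW_comm hp).eq]

theorem cols_semiconj {p a b : PV} (hp : AddP p) (hb : AddP b) (h : p * a = b * p) :
    Chk.cmul (cols p) (cols a) = Chk.cmul (cols b) (cols p) := by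
  rw [← cols_mul hp, h, cols_mul hb]

end Cfsg.Agent.Spor.JFour
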