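import Cfsg.Agent.Lib.Spor.LargeQuotient
import Cfsg.Agent.Lib.Spor.JFourLin

/-!
Janko four type: the extraspecial subgroup modulo its centre as a Hermitian space of dimension six over the field
with four elements.
-/

set_option autoImplicit false
set_option maxRecDepth 100000
set_option linter.unusedSectionVars false

namespace Cfsg.Agent.Spor.JFour

open Cfsg.Agent.Spor.SUSix (V6)
open Cfsg.Agent.Spor.SpFour (F4)
open Cfsg.Agent.Spor.Large (XT)
open Cfsg.Agent.Small.Unitary (herm)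

universe u

variable {G : Type u} [Group G] [Finite G] {z : G} {Q : Subgroup G} {x : G}

/-- congruence modulo the centre -/
def Zc (z a b : G) : Prop := b = a ∨ b = a * z

theorem Zc.refl (a : G) : Zc z a a := Or.inl rfl

/-- an extraspecial group with an element of order three acting without fixed points -/
structure Ord (z : G) (Q : Subgroup G) (x : G) : Prop where
  xt : XT z Q
  normQ : ∀ c : G, Commute c z → ∀ q ∈ Q, c * q * c⁻¹ ∈ Q
  inner : ∀ c : G, Commute c z → (∀ q ∈ Q, c * q * c⁻¹ = q ∨ c * q * c⁻¹ = q * z) → c ∈ Q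
  cardQ : Nat.card Q = 2 ^ 13
  xz : Commute x z
  cube : x ^ 3 = 1
  free : ∀ q ∈ Q, Zc z q (x * q * x⁻¹) → Zc z 1 q

theorem Ord.qz (o : Ord z Q x) {q : G} (hq : q ∈ Q) : Commute q z := (o.xt.cen q hq).symm

/-- commutator bit in the field -/
noncomputable def cb (a b : G) : F4 := by
  classical exact if Commute a b then 0 else 1

/-- conjugate by `x` -/
def xc (x a : G) : G := x * a * x⁻¹

/-- the Hermitian form -/
noncomputable def hf (x a b : G) : F4 := (cb a b + cb a (xc x b)) + cb a b * F4.w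

/-- scalar multiples -/
def smq (x : G) : F4 → G → G
  | .o, _ => 1
  | .i, a => a
  | .w, a => xc x a
  | .v, a => xc x (xc x a)

theorem Zc.symm (h : Ord z Q x) {a b : G} (e : Zc z a b) : Zc z b a := by
  rcases e with rfl | rfl
  · exact Or.inl rfl
  · exact Or.inr (by rw [mul_assoc, h.xt.sq, mul_one])

theorem Zc.trans (h : Ord z Q x) {a b c : G} (e : Zc z a b) (f : Zc z b c) : Zc z a c := by
  rcases e with rfl | rfl <;> rcases f with rfl | rfl
  · exact Or.inl rfl
  · exact Or.inr rfl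
  · exact Or.inr rfl
  · exact Or.inl (by rw [mul_assoc, h.xt.sq, mul_one])

theorem Zc.mul (h : Ord z Q x) {a b c d : G} (hc : c ∈ Q) (e : Zc z a b) (f : Zc z c d) : Zc z (a * c) (b * d) := by
  rcases e with rfl | rfl <;> rcases f with rfl | rfl
  · exact Or.inl rfl
  · exact Or.inr (mul_assoc _ _ _).symm
  · exact Or.inr (by rw [mul_assoc, (h.xt.cen _ hc).eq, mul_assoc])
  · refine Or.inl ?_
    rw [mul_assoc, ← mul_assoc z, (h.xt.cen _ hc).eq, mul_assoc c, h.xt.sq, mul_one]

theorem Zc.mem (h : Ord z Q x) {a b : G} (ha : a ∈ Q) (e : Zc z a b) : b ∈ Q := by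
  rcases e with rfl | rfl
  exacts [ha, mul_mem ha h.xt.mem]

theorem Zc.conj {a b c : G} (hc : Commute c z) (e : Zc z a b) : Zc z (c * a * c⁻¹) (c * b * c⁻¹) := by
  rcases e with rfl | rfl
  · exact Or.inl rfl
  · refine Or.inr ?_
    calc c * (a * z) * c⁻¹ = c * a * c⁻¹ * (c * z * c⁻¹) := by group
      _ = c * a * c⁻¹ * z := by rw [hc.eq, mul_inv_cancel_right]

theorem Ord.swap (h : Ord z Q x) {a b : G} (ha : a ∈ Q) (hb : b ∈ Q) : Zc z (a * b) (b * a) := by
  rcases h.xt.comm b hb a ha with e | e <;> rw [mul_inv_eq_iff_eq_mul] at e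
  · exact Or.inl e
  · exact Or.inr (by rw [e, mul_assoc, (h.xt.cen b hb).eq, ← mul_assoc])

theorem cb_self (a : G) : cb a a = 0 := by
  classical
  rw [cb, if_pos (Commute.refl a)]

theorem cb_comm (a b : G) : cb a b = cb b a := by
  classical
  rw [cb, cb]
  exact if_congr ⟨Commute.symm, Commute.symm⟩ rfl rfl

theorem cb_conj (c a b : G) : cb (c * a * c⁻¹) (c * b * c⁻¹) = cb a b := by
  classical
  rw [cb, cb]
  exact if_congr (Commute.conj_iff c) rfl rfl

theorem cb_real (a b : G) : cb a b = 0 ∨ cb a b = 1 := by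
  classical
  rw [cb]
  split_ifs
  · exact Or.inl rfl
  · exact Or.inr rfl

theorem cb_zc (h : Ord z Q x) {a b b' : G} (ha : a ∈ Q) (e : Zc z b b') : cb a b' = cb a b := by
  classical
  rcases e with rfl | rfl
  · rfl
  · rw [cb, cb]
    refine if_congr ⟨fun hc => ?_, fun hc => hc.mul_right (h.qz ha)⟩ rfl rfl
    have := hc.mul_right (h.qz ha)
    rwa [mul_assoc, h.xt.sq, mul_one] at this

theorem cb_mul (h : Ord z Q x) {a b c : G} (ha : a ∈ Q) (hb : b ∈ Q) (hc : c ∈ Q) :
    cb a (b * c) = cb a b + cb a c := by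
  classical
  have key : ∀ d ∈ Q, a * d * a⁻¹ = if Commute a d then d else d * z := fun d hd => by
    split_ifs with hh
    · rw [hh.eq, mul_inv_cancel_right]
    · exact h.xt.move ha hd hh
  have hiff : Commute a (b * c) ↔ a * (b * c) * a⁻¹ = b * c :=
    ⟨fun hh => by rw [hh.eq, mul_inv_cancel_right], fun hh => mul_inv_eq_iff_eq_mul.1 hh⟩
  have e : a * (b * c) * a⁻¹ = (a * b * a⁻¹) * (a * c * a⁻¹) := by group
  rw [cb, cb, cb]
  by_cases h1 : Commute a b <;> by_cases h2 : Commute a c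
  · rw [if_pos h1, if_pos h2, if_pos (h1.mul_right h2), add_zero]
  · rw [if_pos h1, if_neg h2, if_neg ?_, zero_add]
    intro hh
    apply h2
    have := h1.inv_right.mul_right hh
    rwa [inv_mul_cancel_left] at this
  · rw [if_neg h1, if_pos h2, if_neg ?_, add_zero]
    intro hh
    apply h1
    have := hh.mul_right h2.inv_right
    rwa [mul_inv_cancel_right] at this
  · rw [if_neg h1, if_neg h2, if_pos ?_]
    · decide +kernel
    · rw [hiff, e, key b hb, key c hc, if_neg h1, if_neg h2, mul_assoc b, ← mul_assoc z, (h.xt.cen c hc).eq,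
        mul_assoc c, h.xt.sq, mul_one]




theorem Ord.xc_mem (o : Ord z Q x) {a : G} (ha : a ∈ Q) : xc x a ∈ Q := o.normQ x o.xz a ha

theorem Ord.xc_three (o : Ord z Q x) (a : G) : xc x (xc x (xc x a)) = a := by
  show x * (x * (x * a * x⁻¹) * x⁻¹) * x⁻¹ = a
  calc x * (x * (x * a * x⁻¹) * x⁻¹) * x⁻¹ = x ^ 3 * a * (x ^ 3)⁻¹ := by
        rw [pow_succ, pow_two]; group
    _ = a := by rw [o.cube]; group

theorem Ord.xc_zc (o : Ord z Q x) {a b : G} (e : Zc z a b) : Zc z (xc x a) (xc x b) := e.conj o.xz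

theorem xc_mul (x a b : G) : xc x (a * b) = xc x a * xc x b := by unfold xc; group

theorem Ord.smq_mem (o : Ord z Q x) (c : F4) {a : G} (ha : a ∈ Q) : smq x c a ∈ Q := by
  cases c
  exacts [one_mem _, ha, o.xc_mem ha, o.xc_mem (o.xc_mem ha)]

theorem Ord.triple (o : Ord z Q x) {a : G} (ha : a ∈ Q) : Zc z 1 (a * xc x a * xc x (xc x a)) := by
  have h1 := o.xc_mem ha
  have h2 := o.xc_mem h1
  refine o.free _ (mul_mem (mul_mem ha h1) h2) ?_
  have e : x * (a * xc x a * xc x (xc x a)) * x⁻¹ = xc x a * xc x (xc x a) * a := by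
    show xc x (a * xc x a * xc x (xc x a)) = _
    rw [xc_mul, xc_mul, o.xc_three]
  rw [e, mul_assoc a]
  exact o.swap ha (mul_mem h1 h2)

theorem Ord.cb_two (o : Ord z Q x) {a b : G} (ha : a ∈ Q) (hb : b ∈ Q) :
    cb a (xc x (xc x b)) = cb a b + cb a (xc x b) := by
  have h1 := o.xc_mem hb
  have h2 := o.xc_mem h1
  have e := cb_zc o ha (o.triple hb)
  rw [cb_mul o ha (mul_mem hb h1) h2, cb_mul o ha hb h1] at e
  have h0 : cb a (1 : G) = 0 := by classical rw [cb, if_pos (Commute.one_right a)]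
  rw [h0] at e
  have key : ∀ p q r : F4, p + q + r = 0 → r = p + q := by decide +kernel
  exact key _ _ _ e

theorem Ord.hf_zc (o : Ord z Q x) {a b b' : G} (ha : a ∈ Q) (e : Zc z b b') : hf x a b' = hf x a b := by
  rw [hf, hf, cb_zc o ha e, cb_zc o ha (o.xc_zc e)]

theorem Ord.hf_mul (o : Ord z Q x) {a b c : G} (ha : a ∈ Q) (hb : b ∈ Q) (hc : c ∈ Q) :
    hf x a (b * c) = hf x a b + hf x a c := by
  rw [hf, hf, hf, xc_mul, cb_mul o ha hb hc, cb_mul o ha (o.xc_mem hb) (o.xc_mem hc)]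
  ring

theorem Ord.hf_one (o : Ord z Q x) (a : G) : hf x a 1 = 0 := by
  classical
  have h1 : xc x 1 = 1 := by unfold xc; group
  rw [hf, h1, cb, if_pos (Commute.one_right a), add_zero, zero_mul, add_zero]

theorem Ord.hf_xc (o : Ord z Q x) {a b : G} (ha : a ∈ Q) (hb : b ∈ Q) :
    hf x a (xc x b) = F4.w * hf x a b := by
  rw [hf, hf, o.cb_two ha hb]
  rcases cb_real a b with e | e <;> rcases cb_real a (xc x b) with e' | e' <;> rw [e, e'] <;> decide +kernel

theorem Ord.hf_smq (o : Ord z Q x) (c : F4) {a b : G} (ha : a ∈ Q) (hb : b ∈ Q) :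
    hf x a (smq x c b) = c * hf x a b := by
  cases c
  · show hf x a 1 = _
    rw [o.hf_one]
    exact (zero_mul _).symm
  · exact (one_mul _).symm
  · exact o.hf_xc ha hb
  · show hf x a (xc x (xc x b)) = _
    rw [o.hf_xc ha (o.xc_mem hb), o.hf_xc ha hb, ← mul_assoc]
    rfl

theorem Ord.hf_swap (o : Ord z Q x) {a b : G} (ha : a ∈ Q) (hb : b ∈ Q) : hf x b a = star (hf x a b) := by
  have e1 : cb b (xc x a) = cb a b + cb a (xc x b) := by
    rw [cb_comm b, ← o.cb_two ha hb, ← cb_conj x a (xc x (xc x b)), show x * (xc x (xc x b)) * x⁻¹ = b from o.xc_three b]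
    rfl
  rw [hf, hf, cb_comm b a, e1]
  rcases cb_real a b with e | e <;> rcases cb_real a (xc x b) with e' | e' <;> rw [e, e'] <;> decide +kernel

theorem Ord.hf_self (o : Ord z Q x) (a : G) : hf x a a = cb a (xc x a) := by
  rw [hf, cb_self, zero_add, zero_mul, add_zero]

theorem Ord.sq_iff (o : Ord z Q x) {a : G} (ha : a ∈ Q) : a * a = 1 ↔ hf x a a = 0 := by
  classical
  rw [o.hf_self, cb]
  have h1 := o.xc_mem ha
  have h2 := o.xc_mem h1
  have hx2 : ∀ c, c ∈ Q → (xc x c * xc x c = 1 ↔ c * c = 1) := fun c _ => by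
    rw [← xc_mul]
    exact conj_eq_one_iff
  -- the second conjugate is the product
  have e3 : Zc z (a * xc x a) (xc x (xc x a)) := by
    rcases o.triple ha with e | e
    · have : (a * xc x a)⁻¹ = xc x (xc x a) := (eq_inv_of_mul_eq_one_right e).symm
      rw [← this]
      rcases o.xt.sq_mem (mul_mem ha h1) with e' | e'
      · exact Or.inl (inv_eq_of_mul_eq_one_right e')
      · refine Or.inr (inv_eq_of_mul_eq_one_right ?_)
        rw [← mul_assoc, e', o.xt.sq]
    · rw [one_mul] at e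
      have : xc x (xc x a) = (a * xc x a)⁻¹ * z := eq_inv_mul_of_mul_eq e
      rw [this]
      rcases o.xt.sq_mem (mul_mem ha h1) with e' | e'
      · exact Or.inr (by rw [inv_eq_of_mul_eq_one_right e'])
      · refine Or.inl ?_
        rw [show (a * xc x a)⁻¹ = a * xc x a * z from inv_eq_of_mul_eq_one_right (by
          rw [← mul_assoc, e', o.xt.sq]), mul_assoc, o.xt.sq, mul_one]
  have hsq : (a * xc x a) * (a * xc x a) = 1 ↔ a * a = 1 := by
    rw [← hx2 a ha, ← hx2 _ h1]
    rcases e3 with e | e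
    · rw [e]
    · rw [e, show a * xc x a * z * (a * xc x a * z) = a * xc x a * (a * xc x a) * (z * z) by
        have hc : Commute z (a * xc x a) := o.xt.cen _ (mul_mem ha h1)
        calc a * xc x a * z * (a * xc x a * z) = a * xc x a * (z * (a * xc x a)) * z := by group
          _ = _ := by rw [hc.eq]; group, o.xt.sq, mul_one]
  have e4 : (a * xc x a) * (a * xc x a) = if Commute a (xc x a) then 1 else z := by
    have hs : xc x a * xc x a = a * a := by
      rcases o.xt.sq_mem ha with e | e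
      · rw [e, (hx2 a ha).2 e]
      · rw [e]
        rw [← xc_mul, e]
        show x * z * x⁻¹ = z
        rw [o.xz.eq, mul_inv_cancel_right]
    have hza : Commute (a * a) a := (Commute.refl a).mul_left (Commute.refl a)
    split_ifs with hc
    · calc a * xc x a * (a * xc x a) = a * a * (xc x a * xc x a) := hc.symm.mul_mul_mul_comm a (xc x a)
        _ = 1 := by
          rw [hs]
          rcases o.xt.sq_mem ha with e | e <;> rw [e]
          · exact one_mul 1
          · exact o.xt.sq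
    · have hm := o.xt.move h1 ha (fun e => hc e.symm)
      rw [mul_inv_eq_iff_eq_mul] at hm
      calc a * xc x a * (a * xc x a) = a * (xc x a * a) * xc x a := by group
        _ = a * (a * z * xc x a) * xc x a := by rw [hm]
        _ = a * a * z * (xc x a * xc x a) := by group
        _ = z := by
          rw [hs]
          rcases o.xt.sq_mem ha with e | e <;> rw [e]
          · rw [one_mul, mul_one]
          · rw [o.xt.sq, one_mul]
  rw [← hsq, e4]
  split_ifs with hc
  · simp
  · exact iff_of_false o.xt.ne (by simp)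

/-- product of scalar multiples -/
noncomputable def lc (x : G) : ∀ {k : ℕ}, (Fin k → F4) → (Fin k → G) → G
  | 0, _, _ => 1
  | _ + 1, c, e => smq x (c 0) (e 0) * lc x (fun i => c i.succ) (fun i => e i.succ)

theorem Ord.lc_mem (o : Ord z Q x) : ∀ {k : ℕ} (c : Fin k → F4) (e : Fin k → G), (∀ i, e i ∈ Q) → lc x c e ∈ Q
  | 0, _, _, _ => one_mem _
  | _ + 1, c, e, he => mul_mem (o.smq_mem _ (he 0)) (o.lc_mem _ _ fun i => he i.succ)

theorem Ord.hf_lc (o : Ord z Q x) {a : G} (ha : a ∈ Q) :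
    ∀ {k : ℕ} (c : Fin k → F4) (e : Fin k → G), (∀ i, e i ∈ Q) → hf x a (lc x c e) = ∑ i, c i * hf x a (e i)
  | 0, _, _, _ => o.hf_one a
  | _ + 1, c, e, he => by
    rw [lc, o.hf_mul ha (o.smq_mem _ (he 0)) (o.lc_mem _ _ fun i => he i.succ), o.hf_smq _ ha (he 0),
      o.hf_lc ha _ _ (fun i => he i.succ), Fin.sum_univ_succ]

/-- orthonormal -/
def ON (x : G) (Q : Subgroup G) {k : ℕ} (e : Fin k → G) : Prop :=
  (∀ i, e i ∈ Q) ∧ ∀ i j, hf x (e i) (e j) = if i = j then 1 else 0

theorem Ord.hf_lc_on (o : Ord z Q x) {k : ℕ} {e : Fin k → G} (he : ON x Q e) (c : Fin k → F4) (j : Fin k) :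
    hf x (e j) (lc x c e) = c j := by
  rw [o.hf_lc (he.1 j) c e he.1, Finset.sum_eq_single j]
  · rw [he.2, if_pos rfl, mul_one]
  · intro i _ hi
    rw [he.2, if_neg (Ne.symm hi), mul_zero]
  · intro hh; exact absurd (Finset.mem_univ j) hh

theorem Ord.exists_nonorth (o : Ord z Q x) {a : G} (ha : a ∈ Q) (h1 : ¬ Zc z 1 a) :
    ∃ b ∈ Q, hf x a b ≠ 0 := by
  classical
  by_contra hno
  push Not at hno
  have hc : ∀ b ∈ Q, Commute a b := fun b hb => by
    by_contra hc
    have hcb : cb a b = 1 := by rw [cb, if_neg hc]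
    have := hno b hb
    rw [hf, hcb] at this
    rcases cb_real a (xc x b) with e' | e' <;> rw [e'] at this <;> exact absurd this (by decide +kernel)
  rcases o.xt.eq_of_cen a ha hc with e | e
  · exact h1 (Or.inl e)
  · exact h1 (Or.inr (by rw [e, one_mul]))

theorem Ord.on_le (o : Ord z Q x) {k : ℕ} {e : Fin k → G} (he : ON x Q e) : k ≤ 6 := by
  classical
  by_contra hk
  have hf' : Function.Injective (fun c : Fin k → F4 => (⟨lc x c e, o.lc_mem c e he.1⟩ : Q)) := fun c d hcd => by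
    funext j
    rw [← o.hf_lc_on he c j, ← o.hf_lc_on he d j, show lc x c e = lc x d e from congrArg Subtype.val hcd]
  have h := Nat.card_le_card_of_injective _ hf'
  rw [o.cardQ, Nat.card_pi, Finset.prod_const, Finset.card_univ, Fintype.card_fin, Nat.card_eq_fintype_card,
    SpFour.F4.card] at h
  have h7 : 4 ^ 7 ≤ 4 ^ k := Nat.pow_le_pow_right (by norm_num) (by omega)
  norm_num at h h7
  omega

/-- an orthonormal system with nothing orthogonal to it -/
theorem Ord.exists_basis (o : Ord z Q x) :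
    ∃ (k : ℕ) (e : Fin k → G), ON x Q e ∧ ∀ a ∈ Q, (∀ i, hf x (e i) a = 0) → Zc z 1 a := by
  classical
  suffices h : ∀ n k, n + k = 7 → ∀ e : Fin k → G, ON x Q e →
      ∃ (k : ℕ) (e : Fin k → G), ON x Q e ∧ ∀ a ∈ Q, (∀ i, hf x (e i) a = 0) → Zc z 1 a by
    exact h 7 0 rfl Fin.elim0 ⟨fun i => i.elim0, fun i => i.elim0⟩
  intro n
  induction n with
  | zero =>
    intro k hk e he
    have := o.on_le he
    omega
  | succ n ih =>
    intro k hk e he
    by_cases hd : ∀ a ∈ Q, (∀ i, hf x (e i) a = 0) → Zc z 1 a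
    · exact ⟨k, e, he, hd⟩
    push Not at hd
    obtain ⟨a, ha, hao, ha1⟩ := hd
    suffices h : ∃ d ∈ Q, (∀ i, hf x (e i) d = 0) ∧ hf x d d = 1 by
      obtain ⟨d, hd, hdo, hdd⟩ := h
      refine ih (k + 1) (by omega) (Fin.cons d e) ⟨fun i => ?_, fun i j => ?_⟩
      · refine Fin.cases ?_ (fun i => ?_) i
        exacts [hd, he.1 i]
      · refine Fin.cases ?_ (fun i => ?_) i <;> refine Fin.cases ?_ (fun j => ?_) j
        · simpa using hdd
        · rw [Fin.cons_zero, Fin.cons_succ, o.hf_swap (he.1 j) hd, hdo, if_neg (Fin.succ_ne_zero j).symm, star_zero]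
        · rw [Fin.cons_zero, Fin.cons_succ, hdo, if_neg (Fin.succ_ne_zero i)]
        · rw [Fin.cons_succ, Fin.cons_succ, he.2]
          simp
    obtain ⟨b, hb, hab⟩ := o.exists_nonorth ha ha1
    set b' := b * lc x (fun i => hf x (e i) b) e with hb'
    have hb'Q : b' ∈ Q := mul_mem hb (o.lc_mem _ _ he.1)
    have hb'o : ∀ i, hf x (e i) b' = 0 := fun i => by
      rw [o.hf_mul (he.1 i) hb (o.lc_mem _ _ he.1), o.hf_lc_on he]
      generalize hf x (e i) b = p
      revert p
      decide +kernel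
    have hab' : hf x a b' = hf x a b := by
      rw [o.hf_mul ha hb (o.lc_mem _ _ he.1), o.hf_lc ha _ _ he.1, Finset.sum_eq_zero, add_zero]
      intro i _
      rw [o.hf_swap (he.1 i) ha, hao, star_zero, mul_zero]
    have hval : ∀ d, hf x d d = 0 ∨ hf x d d = 1 := fun d => by rw [o.hf_self]; exact cb_real _ _
    rcases hval a with e1 | e1
    swap
    · exact ⟨a, ha, hao, e1⟩
    rcases hval b' with e2 | e2
    swap
    · exact ⟨b', hb'Q, hb'o, e2⟩
    obtain ⟨c, hc⟩ : ∃ c : F4, c * hf x a b' + star (c * hf x a b') = 1 := by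
      rw [hab']
      revert hab
      generalize hf x a b = p
      revert p
      decide +kernel
    refine ⟨a * smq x c b', mul_mem ha (o.smq_mem c hb'Q), fun i => ?_, ?_⟩
    · rw [o.hf_mul (he.1 i) ha (o.smq_mem c hb'Q), o.hf_smq c (he.1 i) hb'Q, hao, hb'o, mul_zero, add_zero]
    · have hs := o.smq_mem c hb'Q
      have hd := mul_mem ha hs
      have q1 : hf x (a * smq x c b') a = star (c * hf x a b') := by
        rw [o.hf_swap ha hd, o.hf_mul ha ha hs, e1, zero_add, o.hf_smq c ha hb'Q]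
      have q2 : hf x (a * smq x c b') b' = hf x a b' := by
        rw [o.hf_swap hb'Q hd, o.hf_mul hb'Q ha hs, o.hf_smq c hb'Q hb'Q, e2, mul_zero, add_zero,
          o.hf_swap ha hb'Q, star_star]
      rw [o.hf_mul hd ha hs, o.hf_smq c hd hb'Q, q1, q2, add_comm, hc]

/-- coordinates -/
theorem Ord.exists_coord (o : Ord z Q x) : ∃ e : Fin 6 → G, ON x Q e ∧
    ∀ a ∈ Q, Zc z a (lc x (fun i => hf x (e i) a) e) := by
  obtain ⟨k, e, he, hmax⟩ := o.exists_basis
  have hdec : ∀ a ∈ Q, Zc z a (lc x (fun i => hf x (e i) a) e) := by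
    intro a ha
    set l := lc x (fun i => hf x (e i) a) e
    have hl : l ∈ Q := o.lc_mem _ _ he.1
    have h0 : Zc z 1 (a⁻¹ * l) := hmax _ (mul_mem (inv_mem ha) hl) fun i => by
      rw [o.hf_mul (he.1 i) (inv_mem ha) hl, o.hf_lc_on he]
      have h1 := o.hf_mul (he.1 i) (inv_mem ha) ha
      rw [inv_mul_cancel, o.hf_one] at h1
      exact h1.symm
    have h2 := Zc.mul o (one_mem _) (Zc.refl a) h0
    rwa [mul_one, mul_inv_cancel_left] at h2
  have hsur : Nat.card Q ≤ 2 * Nat.card (Fin k → F4) := by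
    classical
    have hs : Function.Surjective (fun p : (Fin k → F4) × Bool =>
        (⟨if p.2 then lc x p.1 e * z else lc x p.1 e, by
          split_ifs
          exacts [mul_mem (o.lc_mem _ _ he.1) o.xt.mem, o.lc_mem _ _ he.1]⟩ : Q)) := by
      rintro ⟨a, ha⟩
      rcases (hdec a ha).symm o with e' | e'
      · exact ⟨(_, false), Subtype.ext e'.symm⟩
      · exact ⟨(_, true), Subtype.ext e'.symm⟩
    refine (Nat.card_le_card_of_surjective _ hs).trans (le_of_eq ?_)
    rw [Nat.card_prod, Nat.card_eq_fintype_card (α := Bool), Fintype.card_bool, mul_comm]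
  rw [o.cardQ, Nat.card_pi, Finset.prod_const, Finset.card_univ, Fintype.card_fin,
    Nat.card_eq_fintype_card, SpFour.F4.card] at hsur
  have hk : k = 6 := by
    refine le_antisymm (o.on_le he) ?_
    by_contra hh
    have h5 : 4 ^ k ≤ 4 ^ 5 := Nat.pow_le_pow_right (by norm_num) (by omega)
    norm_num at hsur h5
    omega
  subst hk
  exact ⟨e, he, hdec⟩

theorem smul_case {f : V6 → V6} (h0 : f 0 = 0) (hw : ∀ v, f (F4.w • v) = F4.w • f v) :
    ∀ (c : F4) (v : V6), f (c • v) = c • f v := by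
  intro c v
  cases c
  · rw [show (F4.o : F4) = 0 from rfl, zero_smul, zero_smul, h0]
  · rw [show (F4.i : F4) = 1 from rfl, one_smul, one_smul]
  · exact hw v
  · rw [show (F4.v : F4) = F4.w * F4.w from rfl, mul_smul, mul_smul, hw, hw]

theorem herm_self_real (v : V6) : herm v v = 0 ∨ herm v v = 1 := by
  rw [qb_spec]
  split_ifs
  · exact Or.inr rfl
  · exact Or.inl rfl

/-- coordinates of the quotient by the centre -/
structure Coord (z : G) (Q : Subgroup G) (x : G) (vec : G → V6) : Prop where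
  mul : ∀ a ∈ Q, ∀ b ∈ Q, vec (a * b) = vec a + vec b
  surj : ∀ v, ∃ a ∈ Q, vec a = v
  eq_iff : ∀ a ∈ Q, ∀ b ∈ Q, (vec a = vec b ↔ Zc z a b)
  form : ∀ a ∈ Q, ∀ b ∈ Q, hf x a b = herm (vec a) (vec b)
  xc_eq : ∀ a ∈ Q, vec (xc x a) = F4.w • vec a

theorem Ord.exists_Coord (o : Ord z Q x) : ∃ vec, Coord z Q x vec := by
  obtain ⟨e, he, hdec⟩ := o.exists_coord
  refine ⟨fun a i => hf x (e i) a, ⟨fun a ha b hb => funext fun i => ?_,
    fun v => ⟨lc x v e, o.lc_mem _ _ he.1, funext fun i => o.hf_lc_on he v i⟩, fun a ha b hb => ⟨fun h => ?_,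
      fun h => funext fun i => (o.hf_zc (he.1 i) h).symm⟩, fun a ha b hb => ?_, fun a ha => funext fun i => ?_⟩⟩
  · exact o.hf_mul (he.1 i) ha hb
  · have h1 := hdec a ha
    have h2 := hdec b hb
    rw [show (fun i => hf x (e i) a) = fun i => hf x (e i) b from h] at h1
    exact Zc.trans o h1 (Zc.symm o h2)
  · rw [← o.hf_zc ha (hdec b hb), o.hf_lc ha _ _ he.1]
    show _ = ∑ i, star (hf x (e i) a) * hf x (e i) b
    refine Finset.sum_congr rfl fun i _ => ?_
    rw [o.hf_swap (he.1 i) ha, mul_comm]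
  · exact o.hf_xc (he.1 i) ha

variable {vec : G → V6}

/-- an element with given coordinates -/
noncomputable def Coord.lift (C : Coord z Q x vec) (v : V6) : G := (C.surj v).choose

theorem Coord.lift_spec (C : Coord z Q x vec) (v : V6) : C.lift v ∈ Q ∧ vec (C.lift v) = v :=
  (C.surj v).choose_spec

theorem Coord.transform (C : Coord z Q x vec) {B : PV} (hB : Lin B) :
    Coord z Q x fun a => B (vec a) := by
  refine ⟨fun a ha b hb => ?_, fun v => ?_, fun a ha b hb => ?_, fun a ha b hb => ?_, fun a ha => ?_⟩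
  · show B (vec (a * b)) = _
    rw [C.mul a ha b hb, hB.add]
  · refine ⟨C.lift (B⁻¹ v), (C.lift_spec _).1, ?_⟩
    show B (vec (C.lift (B⁻¹ v))) = v
    rw [(C.lift_spec _).2]
    exact B.apply_symm_apply v
  · rw [← C.eq_iff a ha b hb]
    exact B.injective.eq_iff
  · rw [hB.herm_eq, C.form a ha b hb]
  · show B (vec (xc x a)) = _
    rw [C.xc_eq a ha, hB.smul]

variable (o : Ord z Q x) (C : Coord z Q x vec)

include o C

theorem Coord.conj_vec {c a : G} (hc : Commute c z) (ha : a ∈ Q) :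
    vec (c * C.lift (vec a) * c⁻¹) = vec (c * a * c⁻¹) :=
  (C.eq_iff _ (o.normQ c hc _ (C.lift_spec _).1) _ (o.normQ c hc a ha)).2
    (Zc.conj hc ((C.eq_iff _ (C.lift_spec _).1 a ha).1 (C.lift_spec _).2))

omit o C in
theorem mem_cen {c : G} (hc : c ∈ Subgroup.centralizer ({z} : Set G)) : Commute c z :=
  Subgroup.mem_centralizer_singleton_iff.1 hc

/-- the action of the centraliser -/
noncomputable def Coord.rep : Subgroup.centralizer ({z} : Set G) →* PV where
  toFun c :=
    { toFun := fun v => vec ((c : G) * C.lift v * (c : G)⁻¹)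
      invFun := fun v => vec ((c : G)⁻¹ * C.lift v * (c : G)⁻¹⁻¹)
      left_inv := fun v => by
        show vec ((c : G)⁻¹ * C.lift (vec ((c : G) * C.lift v * (c : G)⁻¹)) * (c : G)⁻¹⁻¹) = v
        rw [C.conj_vec o (mem_cen c.2).inv_left (o.normQ c (mem_cen c.2) _ (C.lift_spec _).1)]
        refine Eq.trans ?_ (C.lift_spec v).2
        congr 1
        group
      right_inv := fun v => by
        show vec ((c : G) * C.lift (vec ((c : G)⁻¹ * C.lift v * (c : G)⁻¹⁻¹)) * (c : G)⁻¹) = v
        rw [C.conj_vec o (mem_cen c.2) (o.normQ _ (mem_cen c.2).inv_left _ (C.lift_spec _).1)]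
        refine Eq.trans ?_ (C.lift_spec v).2
        congr 1
        group }
  map_one' := Equiv.ext fun v => by
    show vec (((1 : Subgroup.centralizer ({z} : Set G)) : G) * C.lift v *
      ((1 : Subgroup.centralizer ({z} : Set G)) : G)⁻¹) = v
    rw [OneMemClass.coe_one, one_mul, inv_one, mul_one, (C.lift_spec v).2]
  map_mul' a b := Equiv.ext fun v => by
    show vec (((a * b : Subgroup.centralizer ({z} : Set G)) : G) * C.lift v *
      ((a * b : Subgroup.centralizer ({z} : Set G)) : G)⁻¹) =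
        vec ((a : G) * C.lift (vec ((b : G) * C.lift v * (b : G)⁻¹)) * (a : G)⁻¹)
    rw [C.conj_vec o (mem_cen a.2) (o.normQ b (mem_cen b.2) _ (C.lift_spec _).1), Subgroup.coe_mul]
    congr 1
    group

theorem Coord.rep_vec (c : Subgroup.centralizer ({z} : Set G)) {a : G} (ha : a ∈ Q) :
    C.rep o c (vec a) = vec ((c : G) * a * (c : G)⁻¹) := C.conj_vec o (mem_cen c.2) ha

theorem Coord.rep_ext {p : PV} (c : Subgroup.centralizer ({z} : Set G))
    (h : ∀ a ∈ Q, vec ((c : G) * a * (c : G)⁻¹) = p (vec a)) : C.rep o c = p :=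
  Equiv.ext fun v => by
    obtain ⟨a, ha, rfl⟩ := C.surj v
    rw [C.rep_vec o c ha, h a ha]

theorem Coord.rep_ker (c : Subgroup.centralizer ({z} : Set G)) : C.rep o c = 1 ↔ (c : G) ∈ Q := by
  constructor
  · intro h
    refine o.inner c (mem_cen c.2) fun a ha => ?_
    have h1 := C.rep_vec o c ha
    rw [h, Equiv.Perm.one_apply] at h1
    exact (C.eq_iff a ha _ (o.normQ c (mem_cen c.2) a ha)).1 h1
  · intro hc
    refine C.rep_ext o c fun a ha => ?_
    rw [Equiv.Perm.one_apply]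
    exact ((C.eq_iff a ha _ (o.normQ c (mem_cen c.2) a ha)).2 (o.xt.comm c hc a ha)).symm

theorem Coord.rep_add (c : Subgroup.centralizer ({z} : Set G)) (u v : V6) :
    C.rep o c (u + v) = C.rep o c u + C.rep o c v := by
  obtain ⟨a, ha, rfl⟩ := C.surj u
  obtain ⟨b, hb, rfl⟩ := C.surj v
  rw [← C.mul a ha b hb, C.rep_vec o c (mul_mem ha hb), C.rep_vec o c ha, C.rep_vec o c hb, ← conj_mul,
    C.mul _ (o.normQ c (mem_cen c.2) a ha) _ (o.normQ c (mem_cen c.2) b hb)]

theorem Coord.sq_iff {a : G} (ha : a ∈ Q) : a * a = 1 ↔ herm (vec a) (vec a) = 0 := by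
  rw [o.sq_iff ha, C.form a ha a ha]

theorem Coord.rep_q (c : Subgroup.centralizer ({z} : Set G)) (v : V6) :
    herm (C.rep o c v) (C.rep o c v) = herm v v := by
  obtain ⟨a, ha, rfl⟩ := C.surj v
  rw [C.rep_vec o c ha]
  have h1 : herm (vec ((c : G) * a * (c : G)⁻¹)) (vec ((c : G) * a * (c : G)⁻¹)) = 0 ↔ herm (vec a) (vec a) = 0 := by
    rw [← C.sq_iff o ha, ← C.sq_iff o (o.normQ c (mem_cen c.2) a ha), conj_mul]
    exact conj_eq_one_iff
  rcases herm_self_real (vec a) with e | e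
  · rw [e, h1.2 e]
  · rw [e]
    refine (herm_self_real _).resolve_left fun e' => ?_
    rw [h1.1 e'] at e
    exact zero_ne_one e

theorem Coord.rep_w (c : Subgroup.centralizer ({z} : Set G)) (hr : (c : G) * x * (c : G)⁻¹ * x⁻¹ ∈ Q) (v : V6) :
    C.rep o c (F4.w • v) = F4.w • C.rep o c v := by
  obtain ⟨a, ha, rfl⟩ := C.surj v
  have hcz := mem_cen c.2
  have hb := o.normQ c hcz a ha
  rw [← C.xc_eq a ha, C.rep_vec o c (o.xc_mem ha), C.rep_vec o c ha, ← C.xc_eq _ hb]
  refine ((C.eq_iff _ (o.xc_mem hb) _ (o.normQ c hcz _ (o.xc_mem ha))).2 ?_).symm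
  -- the commutator with the element of order three
  have hcomm := o.xt.comm _ hr _ (o.xc_mem hb)
  have e : (c : G) * x * (c : G)⁻¹ * x⁻¹ * xc x ((c : G) * a * (c : G)⁻¹) * ((c : G) * x * (c : G)⁻¹ * x⁻¹)⁻¹ =
      (c : G) * xc x a * (c : G)⁻¹ := by
    unfold xc; group
  rw [e] at hcomm
  exact hcomm

theorem Coord.rep_herm (c : Subgroup.centralizer ({z} : Set G)) (hr : (c : G) * x * (c : G)⁻¹ * x⁻¹ ∈ Q) (u v : V6) :
    herm (C.rep o c u) (C.rep o c v) = herm u v := by
  obtain ⟨a, ha, rfl⟩ := C.surj u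
  obtain ⟨b, hb, rfl⟩ := C.surj v
  have hcz := mem_cen c.2
  have ha' := o.normQ c hcz a ha
  have hb' := o.normQ c hcz b hb
  have h1 : vec ((c : G) * xc x b * (c : G)⁻¹) = vec (xc x ((c : G) * b * (c : G)⁻¹)) := by
    rw [C.xc_eq _ hb', ← C.rep_vec o c hb, ← C.rep_vec o c (o.xc_mem hb), C.xc_eq b hb, C.rep_w o c hr]
  have h2 := (C.eq_iff _ (o.normQ c hcz _ (o.xc_mem hb)) _ (o.xc_mem hb')).1 h1
  rw [C.rep_vec o c ha, C.rep_vec o c hb, ← C.form _ ha' _ hb', ← C.form a ha b hb, hf, hf,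
    cb_zc o ha' h2, cb_conj, cb_conj]

theorem Coord.xc_rep (c : Subgroup.centralizer ({z} : Set G)) (hc : (c : G) = x) (v : V6) :
    C.rep o c v = F4.w • v := by
  obtain ⟨a, ha, rfl⟩ := C.surj v
  rw [C.rep_vec o c ha, ← C.xc_eq a ha, hc]
  rfl

end Cfsg.Agent.Spor.JFour
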