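import Cfsg.Agent.Lib.Spor.JFourDefs

/-!
Candidates for the third generator, the element of order three, the involution.
-/

set_option autoImplicit false
set_option maxRecDepth 100000

namespace Cfsg.Agent.Spor.JFour.Chk

open Cfsg.Agent.Spor.CC

theorem cycD_ok : cycDOK = true := by decide +kernel

theorem candT1_ok : rangeOK candT1 0 4096 = true := by decide +kernel

theorem candT2_ok : rangeOK candT2 0 4096 = true := by decide +kernel

theorem candT3_ok : candT3 = true := by decide +kernel

theorem candT5_ok : candT5 = true := by decide +kernel

theorem conjT_ok : conjTOK = true := by decide +kernel

theorem cycX_ok : cycXOK = true := by decide +kernel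

theorem candX_ok : candX = true := by decide +kernel

theorem listX_ok : listXOK = true := by decide +kernel

theorem invol_ok : involOK = true := by decide +kernel

end Cfsg.Agent.Spor.JFour.Chk
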