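import Cfsg.Agent.Lib.Spor.PermCert
import Cfsg.Agent.Lib.Spor.JFourData

/-!
Checks on 3.M22 inside the unitary group in dimension six, on codes of vectors and lists of unit images.
-/

set_option autoImplicit false

namespace Cfsg.Agent.Spor.JFour.Chk

open Dat Cfsg.Agent.Spor.CC

/-- bit test -/
def tb (m j : ℕ) : Bool := Nat.beq (Nat.land (Nat.shiftRight m j) 1) 1

/-- linear extension of the images of the units -/
def appA : List ℕ → ℕ → ℕ → ℕ
  | [], _, r => r
  | c :: L, k, r => appA L (Nat.shiftRight k 1) (bif tb k 0 then Nat.xor r c else r)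

/-- the image of a vector -/
def app (L : List ℕ) (k : ℕ) : ℕ := appA L k 0

/-- equality of lists of numbers -/
def leq : List ℕ → List ℕ → Bool
  | [], [] => true
  | a :: L, b :: M => Nat.beq a b && leq L M
  | _, _ => false

/-- units -/
def idL : List ℕ := [1, 2, 4, 8, 16, 32, 64, 128, 256, 512, 1024, 2048]

/-- product -/
def cmul (P Q : List ℕ) : List ℕ := Q.map (app P)

/-- coordinate -/
def digit (k i : ℕ) : ℕ := Nat.land (Nat.shiftRight k (Nat.mul 2 i)) 3

/-- parity of the number of nonzero coordinates -/
def qb (k : ℕ) : Bool :=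
  Nat.beq (digit k 0) 0 ^^ Nat.beq (digit k 1) 0 ^^ Nat.beq (digit k 2) 0 ^^ Nat.beq (digit k 3) 0 ^^
    Nat.beq (digit k 4) 0 ^^ Nat.beq (digit k 5) 0

/-- values of the form agree on two lists and their pairwise sums -/
def qSame : List ℕ → List ℕ → Bool
  | a :: L, b :: M => (qb a == qb b) && ((List.zip L M).all fun p => qb (Nat.xor a p.1) == qb (Nat.xor b p.2)) &&
      qSame L M
  | _, _ => true

/-- the map keeps the form -/
def isoOK (X : List ℕ) : Bool := qSame X idL

/-- generators: three linear ones, the scalar, the outer element -/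
def gn (s : ℕ) : List ℕ := colG.getD s []

/-- the first generator -/
def cA : List ℕ := gn 0
/-- the second generator -/
def cD : List ℕ := gn 1
/-- the third generator -/
def cT : List ℕ := gn 2
/-- the scalar -/
def cW : List ℕ := gn 3
/-- the outer element -/
def cE : List ℕ := gn 4

/-- value of a word -/
def evW (w : List ℕ) (k : ℕ) : ℕ := w.foldr (fun s y => app (gn s) y) k

/-- map of a word -/
def evC (w : List ℕ) : List ℕ := idL.map (evW w)

/-- powers -/
def cpow (X : List ℕ) : ℕ → List ℕ
  | 0 => idL
  | n + 1 => cmul X (cpow X n)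

/-- iterated image -/
def itr (X : List ℕ) : ℕ → ℕ → ℕ
  | 0, u => u
  | n + 1, u => app X (itr X n u)

/-- relations of the generators -/
def genOK : Bool :=
  ((List.range 4).all fun s => isoOK (gn s) && leq (cmul (gn s) cW) (cmul cW (gn s)) && (gn s).all (Nat.blt · 4096)) &&
  ((List.range 3).all fun s => leq (cmul (gn s) (colI.getD s [])) idL && leq (cmul (colI.getD s []) (gn s)) idL) &&
  ((List.range 4).all fun s => leq (cmul cE (cmul (gn s) cE)) (evC (outW.getD s []))) &&
  leq (cpow cA 11) idL && leq (cpow cD 5) idL && leq (cpow cT 4) idL && leq (cpow cW 3) idL &&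
  leq (cmul cD cA) (cmul (cpow cA 3) cD) && leq (cmul cT cD) (cmul (cmul cD cD) cT) &&
  isoOK cE && leq (cmul cE cE) idL && leq (cmul cE cW) (cmul (cmul cW cW) cE) &&
  leq (cmul cA cA) (cmul cA cA)

/-- pairs of a vector and its scalar multiple along a list -/
def withW (L : List ℕ) : List ℕ := L.flatMap fun v => [v, app cW v]

/-- six images along a power of the first generator -/
def orbImg (Y : List ℕ) (u : ℕ) : List ℕ :=
  withW [u, app Y u, itr Y 2 u, itr Y 3 u, itr Y 4 u, itr Y 5 u]

/-- the map with given images of a basis -/
def build (co imgs : List ℕ) : List ℕ := co.map (app imgs)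

/-- the basis of the first generator really is one -/
def cycAOK : Bool := leq (build coA (orbImg cA cycA)) idL

/-- membership -/
def memL (X : List ℕ) (L : List (List ℕ)) : Bool := L.any (leq X)

/-- candidates for the second generator -/
def candD1 (X : List ℕ) : Bool :=
  !isoOK X || !leq (cmul X cA) (cmul (cpow cA 3) X) || !leq (cpow X 5) idL || memL X listD

/-- candidates for the second generator at one image -/
def candD (u : ℕ) : Bool := candD1 (build coA (orbImg (cpow cA 3) u))

/-- witnesses in the shorter orbit -/
def isA (k : ℕ) : Bool := tb orbA k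

/-- some vectors of the shorter orbit -/
def witO : List ℕ := (((List.range 64).map fun j => Nat.add (Nat.mul 64 j) 5).filter isA)

/-- the witnesses stay in the orbit -/
def orbOK (X : List ℕ) : Bool := witO.all fun k => isA (app X k)

/-- candidates commuting with the first generator -/
def candC1 (X : List ℕ) : Bool :=
  !isoOK X || !leq (cmul X cA) (cmul cA X) || memL X listC || !orbOK X

/-- candidates commuting with the first generator at one image -/
def candC (u : ℕ) : Bool := candC1 (build coA (orbImg cA u))

/-- the list of the centraliser consists of powers times scalars -/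
def listCOK : Bool :=
  (List.range 33).all fun i => leq (listC.getD i []) (cmul (cpow cA (i % 11)) (cpow cW (i / 11)))

/-- the first generator is not conjugate to its inverse -/
def candI1 (X : List ℕ) : Bool := !isoOK X || !leq (cmul X cA) (cmul (colI.getD 0 []) X)

/-- the same at one image -/
def candI (u : ℕ) : Bool := candI1 (build coA (orbImg (colI.getD 0 []) u))

/-- the list of conjugates of the second generator -/
def listDOK : Bool :=
  (List.range 11).all fun i => leq (listD.getD i []) (cmul (cpow cA i) (cmul cD (cpow cA (11 - i))))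

/-- images of four vectors along a power of the second generator -/
def orbImgD (Y : List ℕ) (u : ℕ) : List ℕ := withW [u, app Y u, itr Y 2 u, itr Y 3 u]

/-- square of the second generator -/
def cD2 : List ℕ := cmul cD cD

/-- the basis of the second generator -/
def baseD : List ℕ := orbImgD cD (cycD.getD 0 0) ++ withW [cycD.getD 1 0, cycD.getD 2 0]

/-- the basis is one, and lies where it should -/
def cycDOK : Bool :=
  leq (build coD baseD) idL && Nat.beq (app cD (cycD.getD 1 0)) (cycD.getD 1 0) &&
    Nat.beq (app cD (cycD.getD 2 0)) (cycD.getD 2 0) &&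
    ((List.range 4096).any fun v => Nat.beq (Nat.xor v (app cD v)) (cycD.getD 0 0))

/-- images of the cyclic part -/
def candT1 (y : ℕ) : Bool :=
  !qSame (orbImgD cD2 (Nat.xor y (app cD2 y))) (orbImgD cD (cycD.getD 0 0)) ||
    imgD.any (Nat.beq (Nat.xor y (app cD2 y)))

/-- fixed vectors are listed -/
def candT2 (k : ℕ) : Bool := !Nat.beq (app cD2 k) k || fixD.any (Nat.beq k)

/-- images of the fixed part -/
def candT3 : Bool :=
  fixD.all fun a => fixD.all fun b =>
    !qSame (withW [a, b]) (withW [cycD.getD 1 0, cycD.getD 2 0]) || pairD.any (Nat.beq (Nat.add a (Nat.mul 4096 b)))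

/-- letters of the relations -/
def letT (X : List ℕ) (s : ℕ) : List ℕ :=
  [cA, colI.getD 0 [], cD, X, cpow X 3].getD s []

/-- value of a relation word -/
def relV (X : List ℕ) (w : List ℕ) : List ℕ := w.foldr (fun s L => cmul (letT X s) L) idL

/-- the relations -/
def rels : List (List ℕ × List ℕ) :=
  [([3, 3], [4, 4]), ([3, 3, 1, 4], [0, 3, 3, 0, 3]), ([1, 4, 1, 4, 1, 4, 1], [3, 0, 3, 0, 3, 0, 3])]

/-- equality up to scalars -/
def eqS (L R : List ℕ) : Bool := leq L R || leq L (cmul cW R) || leq L (cmul (cmul cW cW) R)

/-- the relations hold up to scalars -/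
def relOK (X : List ℕ) : Bool := rels.all fun r => eqS (relV X r.1) (relV X r.2)

/-- candidates for the third generator -/
def candT4 (X : List ℕ) : Bool := !isoOK X || !leq (cpow X 4) idL || !relOK X || memL X listT

/-- all candidates for the third generator -/
def candT5 : Bool :=
  imgD.all fun u => pairD.all fun p =>
    candT4 (build coD (orbImgD cD2 u ++ withW [p % 4096, p / 4096]))

/-- the isometries relating the candidates -/
def conjTOK : Bool :=
  (List.range 3).all fun i =>
    let c := conjT.getD i []
    let ci := conjTi.getD i []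
    isoOK c && leq (cmul c ci) idL && leq (cmul ci c) idL && leq (cmul c cA) (cmul cA c) &&
      leq (cmul c cD) (cmul cD c) && leq (cmul c cW) (cmul cW c) && leq (cmul c (cmul cT ci)) (listT.getD i [])

/-! ### orbits -/

/-- nonzero isotropic -/
def isI (k : ℕ) : Bool := !Nat.beq k 0 && !qb k

/-- representative of the shorter orbit -/
def kA : ℕ := 969

/-- representative of the longer orbit -/
def kB : ℕ := 107

/-- invariance under the five maps -/
def invOK (k : ℕ) : Bool := colG.all fun L => (isA (app L k) == isA k) && (isI (app L k) == isI k)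

/-- one step of the orbit trees -/
def treeOK (k : ℕ) : Bool :=
  !isI k || Nat.beq k kA || Nat.beq k kB ||
    (Nat.blt (fld treeG 16 k) 4 && Nat.blt (fld treeP 16 k) 4096 &&
      Nat.beq (app (gn (fld treeG 16 k)) (fld treeP 16 k)) k &&
      Nat.blt (fld treeD 16 (fld treeP 16 k)) (fld treeD 16 k) &&
      isI (fld treeP 16 k) && (isA (fld treeP 16 k) == isA k))

/-- sizes of the orbits -/
def countOK : Bool :=
  Nat.beq ((List.range 4096).filter fun k => isI k && isA k).length 693 &&
    Nat.beq ((List.range 4096).filter fun k => isI k && !isA k).length 1386 && isI kA && isI kB && isA kA && !isA kB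

/-- the linear maps keep the form -/
def formOK (k : ℕ) : Bool := (colG ++ conjT).all fun L => qb (app L k) == qb k

/-! ### stabilisers -/

/-- stabiliser generators are words fixing the vector -/
def stOK (k0 : ℕ) (W C : List (List ℕ)) : Bool :=
  Nat.beq W.length 3 && Nat.beq C.length 3 && (List.range 3).all fun s =>
    (W.getD s []).all (Nat.blt · 5) && leq (evC (W.getD s [])) (C.getD s []) && Nat.beq (app (C.getD s []) k0) k0

/-- block mask -/
def mk (m k : ℕ) : ℕ := fld m 8 k

/-- compatibility with block permutations -/
def compOK (m : ℕ) (C P : List (List ℕ)) (k : ℕ) : Bool :=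
  (List.range 3).all fun s => (List.range 6).all fun j =>
    tb (mk m (app (C.getD s []) k)) ((P.getD s []).getD j 0) == tb (mk m k) j

/-- one witness in each block -/
def sepOK (m : ℕ) (wit : List ℕ) : Bool :=
  (List.range 6).all fun i => (List.range 6).all fun j =>
    Nat.beq i j || wit.any fun k => tb (mk m k) i != tb (mk m k) j

/-- permutation lists -/
def permOK (n : ℕ) (σ τ : List ℕ) : Bool :=
  (List.range n).all fun j => Nat.blt (σ.getD j 0) n && Nat.blt (τ.getD j 0) n &&
    Nat.beq (τ.getD (σ.getD j 0) 0) j && Nat.beq (σ.getD (τ.getD j 0) 0) j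

/-- value of a word of maps -/
def evM (C : List (List ℕ)) (w : List ℕ) (u : ℕ) : ℕ := w.foldr (fun s y => app (C.getD s []) y) u

/-- value of a word of permutations -/
def evP (P : List (List ℕ)) (w : List ℕ) (u : ℕ) : ℕ := w.foldr (fun s y => (P.getD s []).getD y 0) u

/-- a stabiliser chain -/
def chOK (ev : List ℕ → ℕ → ℕ) (ng n : ℕ) : List ℕ → List (ℕ × List (List ℕ)) → Bool
  | _, [] => true
  | done, (v, ws) :: rest =>
    Nat.blt v n && ws.all (fun w => w.all (fun s => Nat.blt s ng) && done.all fun d => Nat.beq (ev w d) d) &&
      decide (ws.map fun w => ev w v).Nodup && chOK ev ng n (v :: done) rest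

/-- size of a chain -/
def chSize : List (ℕ × List (List ℕ)) → ℕ
  | [] => 1
  | (_, ws) :: rest => ws.length * chSize rest

/-- pairs are broken -/
def primOK (P : List (List ℕ)) (L : List (List ℕ)) : Bool :=
  (List.range 5).all fun j =>
    let w := L.getD j []
    let a := evP P w 0
    let b := evP P w (j + 1)
    w.all (Nat.blt · 3) &&
      ((Nat.beq a 0 || Nat.beq a (j + 1)) ^^ (Nat.beq b 0 || Nat.beq b (j + 1)))

/-- the kernel generators act trivially on the blocks -/
def kerOK : Bool := kerW.all fun w => w.all (Nat.blt · 3) && (List.range 6).all fun j => Nat.beq (evP permA w j) j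

/-- unit images of the kernel generators -/
def kerC : List (List ℕ) := kerW.map fun w => idL.map (evM stCA w)

/-- two vectors differ at most by the fixed vector -/
def near (a k : ℕ) : Bool := Nat.beq (Nat.xor a k) 0 || Nat.beq (Nat.xor a k) kA

/-- moved only along the fixed line by the kernel -/
def fCond (k : ℕ) : Bool := kerC.all fun L => near (app L k) k

/-- the intersection and its scalar multiples -/
def fOK : Bool :=
  Nat.beq ((List.range 4096).filter fCond).length 64 && fCond (app cW kA) &&
    rowF.all fCond && Nat.beq rowF.length 6 && Nat.beq rowW.length 4 && rowW.all (fun v => fCond (itr cW 2 v)) &&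
    ((List.range 2).all fun s => (pairW.getD s []).all (Nat.blt · 4) && fCond (pairV.getD s 0) &&
      Nat.beq (evW (pairW.getD s []) kA) kA) &&
    Nat.beq (Nat.xor (Nat.xor (evW (pairW.getD 0 []) (pairV.getD 0 0)) (pairV.getD 0 0))
      (Nat.xor (evW (pairW.getD 1 []) (pairV.getD 1 0)) (pairV.getD 1 0))) (app cW kA)

/-- the combinations are different -/
def rowsOK : Bool := decide ((List.range 1024).map (app (rowF ++ rowW))).Nodup

/-! ### the element of order three -/

/-- the element of order three -/
def cX : List ℕ := evC wX

/-- the eigenvectors -/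
def eigL (L : List ℕ) : List ℕ := (List.range 4096).filter fun k => Nat.beq (app cX k) (app L k)

/-- the listed eigenvectors are a basis of eigenvectors -/
def cycXOK : Bool :=
  leq (build coX (withW cycX)) idL && Nat.beq cycX.length 6 &&
    ((List.range 2).all fun i => Nat.beq (app cX (cycX.getD i 0)) (cycX.getD i 0)) &&
    ((List.range 2).all fun i => Nat.beq (app cX (cycX.getD (2 + i) 0)) (app cW (cycX.getD (2 + i) 0))) &&
    ((List.range 2).all fun i => Nat.beq (app cX (cycX.getD (4 + i) 0)) (itr cW 2 (cycX.getD (4 + i) 0))) &&
    leq (cpow cX 3) idL && wX.all (Nat.blt · 4) &&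
    ((List.range 2).all fun j => (wXc.getD j []).all (Nat.blt · 4) &&
      leq (cmul (evC (wXc.getD j [])) cX) (cmul (cmul cX (cpow cW (j + 1))) (evC (wXc.getD j []))))

/-- pairs in an eigenspace with the values of the form of a listed pair -/
def eigP (L : List ℕ) (a b : ℕ) : List (ℕ × ℕ) :=
  (eigL L).flatMap fun u => ((eigL L).filter fun v => qSame (withW [u, v]) (withW [a, b])).map fun v => (u, v)

/-- candidates fixing the fixed vectors and commuting -/
def candX1 (X : List ℕ) : Bool :=
  !isoOK X || memL X listX || !(((List.range 1024).filter isA).all fun k => isA (app X k))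

/-- all candidates -/
def candX : Bool :=
  (eigP cW (cycX.getD 2 0) (cycX.getD 3 0)).all fun p =>
    (eigP (cmul cW cW) (cycX.getD 4 0) (cycX.getD 5 0)).all fun r =>
      candX1 (build coX (withW [cycX.getD 0 0, cycX.getD 1 0, p.1, p.2, r.1, r.2]))

/-- the short list -/
def listXOK : Bool :=
  listX.all fun y => leq (cpow y 6) idL &&
    (!leq (cpow y 3) idL || leq y idL || leq y cX || leq y (cmul cX cX))

/-- the square of the third generator fixes many vectors -/
def involOK : Bool :=
  Nat.beq ((List.range 4096).filter fun k => Nat.beq (app (cmul cT cT) k) k).length 256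

end Cfsg.Agent.Spor.JFour.Chk
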