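import Cfsg.Agent.Lib.Local.FS.SimpleM22
import Cfsg.Agent.Lib.Spor.MathieuSimple
import Cfsg.Agent.Lib.Spor.JFourDefs

/-!
Three generators of M22, their relations, and an outer permutation inverting the first.
-/

set_option autoImplicit false
set_option maxRecDepth 100000

namespace Cfsg.Agent.Spor.JFour

open Cfsg Cfsg.Agent.Local.FS.Mathieu Cfsg.Agent.Spor

local notation "G22" => Subtype (fun x => x ∈ Cfsg.Spor.M22)

/-- a permutation of the points -/
def pa : Equiv.Perm GolayPt :=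
  mkPerm [0, 2, 3, 4, 5, 9, 19, 22, 12, 13, 15, 6, 20, 14, 21, 7, 1, 8, 16, 10, 11, 18, 17, 23] [0, 16, 1, 2, 3, 4, 11, 15, 17, 5, 19, 20, 8, 9, 13, 10, 18, 22, 21, 6, 12, 14, 7, 23] (by decide +kernel) (by decide +kernel)

/-- a permutation of the points -/
def pd : Equiv.Perm GolayPt :=
  mkPerm [0, 1, 4, 13, 18, 2, 20, 11, 12, 5, 7, 17, 6, 14, 16, 8, 21, 22, 9, 19, 15, 3, 10, 23] [0, 1, 5, 21, 2, 9, 12, 10, 15, 18, 22, 7, 8, 3, 13, 20, 14, 11, 4, 19, 6, 16, 17, 23] (by decide +kernel) (by decide +kernel)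

/-- a permutation of the points -/
def pt : Equiv.Perm GolayPt :=
  mkPerm [0, 19, 2, 17, 18, 9, 6, 21, 20, 4, 14, 13, 8, 10, 11, 12, 22, 16, 5, 1, 15, 7, 3, 23] [0, 19, 2, 22, 9, 18, 6, 21, 12, 5, 13, 14, 15, 11, 10, 20, 17, 3, 4, 1, 8, 7, 16, 23] (by decide +kernel) (by decide +kernel)

/-- a permutation of the points -/
def psig : Equiv.Perm GolayPt :=
  mkPerm [23, 22, 7, 15, 10, 19, 9, 2, 18, 6, 4, 13, 21, 11, 20, 3, 17, 16, 8, 5, 14, 12, 1, 0] [23, 22, 7, 15, 10, 19, 9, 2, 18, 6, 4, 13, 21, 11, 20, 3, 17, 16, 8, 5, 14, 12, 1, 0] (by decide +kernel) (by decide +kernel)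

theorem pa_mem : pa ∈ Cfsg.Spor.M22 := m22_mem_of_lst (by decide +kernel)
theorem pd_mem : pd ∈ Cfsg.Spor.M22 := m22_mem_of_lst (by decide +kernel)
theorem pt_mem : pt ∈ Cfsg.Spor.M22 := m22_mem_of_lst (by decide +kernel)
theorem psig_mem : psig ∈ M24 := m24_mem_of_lst (by decide +kernel)

/-- the first generator -/
def ea : G22 := ⟨pa, pa_mem⟩
/-- the second generator -/
def ed : G22 := ⟨pd, pd_mem⟩
/-- the third generator -/
def et : G22 := ⟨pt, pt_mem⟩

theorem e_pows : ea ^ 11 = 1 ∧ ea ≠ 1 ∧ ed ^ 5 = 1 ∧ et ^ 4 = 1 := by decide +kernel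

theorem e_rels : ed * ea * ed⁻¹ = ea ^ 3 ∧ et * ed * et⁻¹ = ed ^ 2 := by decide +kernel

/-- letters of the relations -/
def eLet (s : ℕ) : G22 := [ea, ea⁻¹, ed, et, et⁻¹].getD s 1

theorem e_relators : ∀ r ∈ Chk.rels, (r.1.map eLet).prod = (r.2.map eLet).prod := by decide +kernel

/-- generators by number -/
def eGen (s : ℕ) : G22 := [ea, ed, et].getD s 1

theorem eGen_lst : ∀ s < 3, lst (eGen s : Equiv.Perm GolayPt) = Dat.permG.getD s [] := by decide +kernel

theorem chainG_ok : Chk.chOK (Chk.evP Dat.permG) 3 24 [] Dat.chainG = true ∧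
    Chk.chSize Dat.chainG = 443520 := by decide +kernel

theorem eval_word : ∀ (w : List ℕ), (∀ s ∈ w, s < 3) → ∀ u : ℕ, u < 24 →
    idx (((w.map eGen).prod : G22).val (Cfsg.Agent.Spor.pt u)) = Chk.evP Dat.permG w u
  | [], _, u, hu => by
    show idx (Cfsg.Agent.Spor.pt u) = u
    revert u; decide +kernel
  | s :: w, h, u, hu => by
    have ih := eval_word w (fun x hx => h x (List.mem_cons_of_mem _ hx)) u hu
    rw [List.map_cons, List.prod_cons, Subgroup.coe_mul, Equiv.Perm.mul_apply]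
    show _ = (Dat.permG.getD s []).getD (Chk.evP Dat.permG w u) 0
    rw [← ih, ← eGen_lst s (h s List.mem_cons_self)]
    exact rep_lst _ _ |>.symm

theorem closure_gens : Subgroup.closure ({ea, ed, et} : Set G22) = ⊤ := by
  classical
  set K := Subgroup.closure ({ea, ed, et} : Set G22) with hK
  have hgen : ∀ s, eGen s ∈ K := by
    intro s
    match s with
    | 0 => exact Subgroup.subset_closure (Or.inl rfl)
    | 1 => exact Subgroup.subset_closure (Or.inr (Or.inl rfl))
    | 2 => exact Subgroup.subset_closure (Or.inr (Or.inr rfl))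
    | s + 3 => exact one_mem _
  have hprod : ∀ w : List ℕ, (w.map eGen).prod ∈ K := fun w => list_prod_mem fun x hx => by
    obtain ⟨s, -, rfl⟩ := List.mem_map.1 hx
    exact hgen s
  let Stp : List ℕ → Subgroup G22 := fun done =>
    { carrier := {g | g ∈ K ∧ ∀ u : ℕ, u < 24 → u ∈ done → g.val (Cfsg.Agent.Spor.pt u) = Cfsg.Agent.Spor.pt u}
      one_mem' := ⟨one_mem _, fun _ _ _ => rfl⟩
      mul_mem' := fun {a b} ha hb => ⟨mul_mem ha.1 hb.1, fun u hu hd => by
        rw [Subgroup.coe_mul, Equiv.Perm.mul_apply, hb.2 u hu hd, ha.2 u hu hd]⟩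
      inv_mem' := fun {a} ha => ⟨inv_mem ha.1, fun u hu hd => by
        rw [Subgroup.coe_inv, Equiv.Perm.inv_eq_iff_eq, ha.2 u hu hd]⟩ }
  have hidx : ∀ u : ℕ, u < 24 → idx (Cfsg.Agent.Spor.pt u) = u := by decide +kernel
  have key : ∀ (L : List (ℕ × List (List ℕ))) (done : List ℕ), (∀ d ∈ done, d < 24) →
      Chk.chOK (Chk.evP Dat.permG) 3 24 done L = true → Chk.chSize L ≤ Nat.card (Stp done) := by
    intro L
    induction L with
    | nil => intro done _ _; exact Nat.card_pos
    | cons e L ih =>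
      obtain ⟨v, ws⟩ := e
      intro done hdone h
      simp only [Chk.chOK, Bool.and_eq_true, List.all_eq_true, decide_eq_true_eq] at h
      obtain ⟨⟨⟨hv, hws⟩, hnd⟩, hrest⟩ := h
      have hv' : v < 24 := Nat.le_of_ble_eq_true hv
      have hlt : ∀ i : Fin ws.length, ∀ s ∈ ws[i.val], s < 3 := fun i s hs =>
        Nat.le_of_ble_eq_true ((hws _ (List.getElem_mem i.2)).1 s hs)
      let W : Fin ws.length → Stp done := fun i => ⟨(ws[i.val].map eGen).prod, hprod _, fun u hu hd =>
        idx_injective (by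
          rw [eval_word _ (hlt i) u hu, hidx u hu]
          exact Nat.eq_of_beq_eq_true ((hws _ (List.getElem_mem i.2)).2 u hd))⟩
      let f : Fin ws.length × Stp (v :: done) → Stp done := fun q =>
        W q.1 * ⟨(q.2 : G22), q.2.2.1, fun u hu hd => q.2.2.2 u hu (List.mem_cons_of_mem _ hd)⟩
      have hf : Function.Injective f := by
        intro a b e
        have e' : ((W a.1 : Stp done) : G22) * a.2 = (W b.1 : Stp done) * (b.2 : G22) := congrArg Subtype.val e
        have hi : a.1 = b.1 := by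
          have h1 := congrArg (fun σ : G22 => idx (σ.val (Cfsg.Agent.Spor.pt v))) e'
          simp only [Subgroup.coe_mul, Equiv.Perm.mul_apply, a.2.2.2 v hv' List.mem_cons_self,
            b.2.2.2 v hv' List.mem_cons_self] at h1
          have hA : ∀ i : Fin ws.length, idx (((W i : Stp done) : G22).val (Cfsg.Agent.Spor.pt v)) =
              Chk.evP Dat.permG ws[i.val] v := fun i => eval_word _ (hlt i) v hv'
          rw [hA, hA] at h1
          exact Fin.ext ((hnd.getElem_inj_iff (i := a.1.val) (j := b.1.val) (hi := by simp) (hj := by simp)).mp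
            (by simpa using h1))
        refine Prod.ext hi (Subtype.ext ?_)
        rw [hi] at e'
        exact mul_left_cancel e'
      have h2 := Nat.card_le_card_of_injective f hf
      rw [Nat.card_prod, Nat.card_fin] at h2
      refine le_trans (Nat.mul_le_mul_left _ (ih (v :: done) (fun d hd => ?_) hrest)) h2
      rcases List.mem_cons.1 hd with rfl | hd
      exacts [hv', hdone d hd]
  refine Subgroup.eq_top_of_le_card _ ?_
  rw [card_m22, ← chainG_ok.2]
  exact (key _ [] (by simp) chainG_ok.1).trans (Subgroup.card_le_of_le fun g hg => hg.1)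

theorem psig_conj : ∀ g ∈ Cfsg.Spor.M22, psig * g * psig⁻¹ ∈ Cfsg.Spor.M22 := by
  rintro g ⟨⟨hg, hn⟩, h0⟩
  have hn' : g none = none := hn
  have h0' : g (some 0) = some 0 := h0
  have e : psig⁻¹ none = some 0 ∧ psig⁻¹ (some 0) = none ∧ psig (some 0) = none ∧ psig none = some 0 := by
    decide +kernel
  refine ⟨⟨M24.mul_mem (M24.mul_mem psig_mem hg) (M24.inv_mem psig_mem), ?_⟩, ?_⟩
  · show psig (g (psig⁻¹ none)) = none
    rw [e.1, h0', e.2.2.1]
  · show psig (g (psig⁻¹ (some 0))) = some 0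
    rw [e.2.1, hn', e.2.2.2]

theorem psig_sq : psig * psig = 1 := by decide +kernel

/-- the outer automorphism -/
def sigAut : MulAut G22 where
  toFun g := ⟨psig * g.1 * psig⁻¹, psig_conj _ g.2⟩
  invFun g := ⟨psig * g.1 * psig⁻¹, psig_conj _ g.2⟩
  left_inv g := Subtype.ext (show psig * (psig * g.1 * psig⁻¹) * psig⁻¹ = g.1 by
    rw [show psig * (psig * g.1 * psig⁻¹) * psig⁻¹ = (psig * psig) * g.1 * (psig * psig)⁻¹ by group, psig_sq]; group)
  right_inv g := Subtype.ext (show psig * (psig * g.1 * psig⁻¹) * psig⁻¹ = g.1 by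
    rw [show psig * (psig * g.1 * psig⁻¹) * psig⁻¹ = (psig * psig) * g.1 * (psig * psig)⁻¹ by group, psig_sq]; group)
  map_mul' a b := Subtype.ext (show psig * (a.1 * b.1) * psig⁻¹ = _ by
    show _ = psig * a.1 * psig⁻¹ * (psig * b.1 * psig⁻¹); group)

theorem sig_inverts : psig * pa * psig⁻¹ = pa⁻¹ := by decide +kernel

theorem sigAut_ea : sigAut ea = ea⁻¹ := Subtype.ext sig_inverts

end Cfsg.Agent.Spor.JFour
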