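import Cfsg.Agent.Lib.Spor.JFourLin
import Cfsg.Agent.Lib.Spor.JFourM22
import Cfsg.Agent.Lib.Spor.JFourChecksB

/-!
A group of linear isometries which is 3.M22 is conjugate to the model; the linear isometries normalising it lie
in it.
-/

set_option autoImplicit false
set_option maxRecDepth 100000

namespace Cfsg.Agent.Spor.JFour

open Cfsg.Agent.Spor.SUSix (V6 code code_lt vecOf_code)
open Cfsg.Agent.Spor.SpFour (F4)
open Cfsg.Agent.Small.Unitary (herm)
open Cfsg.Agent.Spor.CC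

local notation "G22" => Subtype (fun x => x ∈ Cfsg.Spor.M22)

/-- a homomorphism onto M22 whose kernel is the scalars -/
structure Onto (K : Subgroup PV) (ψ : K →* G22) : Prop where
  surj : Function.Surjective ψ
  scal : gW ∈ K
  ker : ∀ k : K, ψ k = 1 ↔ (k : PV) ∈ Subgroup.zpowers gW

/-- the model is 3.M22 -/
def Mdl : Prop := ∃ ψ : Kp →* G22, Onto Kp ψ

theorem gW_facts : gW ^ 3 = 1 ∧ gW ≠ 1 := by
  have h : AddP gW := (gP_spec 3).1
  constructor
  · refine eq_of_cols (cols_pow h 3).2 AddP.one ?_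
    rw [(cols_pow h 3).1, show cols gW = Chk.cW from (gP_spec 3).2.1, cols_one]
    exact gen_facts.2.2.2.2.2.2.1
  · intro e
    have := congrArg cols e
    rw [show cols gW = Chk.cW from (gP_spec 3).2.1, cols_one] at this
    revert this
    decide +kernel

theorem gW_cases {q : PV} (hq : q ∈ Subgroup.zpowers gW) : q = 1 ∨ q = gW ∨ q = gW * gW := by
  obtain ⟨n, rfl⟩ := (mem_powers_iff_mem_zpowers (x := gW)).2 hq
  show gW ^ n = 1 ∨ gW ^ n = gW ∨ gW ^ n = gW * gW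
  rw [← Nat.mod_add_div n 3, pow_add, pow_mul, gW_facts.1, one_pow, mul_one]
  rcases (by omega : n % 3 = 0 ∨ n % 3 = 1 ∨ n % 3 = 2) with e | e | e <;> rw [e]
  exacts [Or.inl (pow_zero _), Or.inr (Or.inl (pow_one _)), Or.inr (Or.inr (pow_two _))]

section Lift

variable {K : Subgroup PV} {ψ : K →* G22} (hlin : K ≤ LinG) (O : Onto K ψ)

include hlin O

theorem Onto.lift {g : G22} {n : ℕ} (hn : g ^ n = 1) (h3 : Nat.Coprime n 3) :
    ∃ k : K, ψ k = g ∧ (k : PV) ^ n = 1 := by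
  obtain ⟨k, rfl⟩ := O.surj g
  set w : K := ⟨gW, O.scal⟩
  obtain ⟨n', hn'⟩ := (mem_powers_iff_mem_zpowers (x := gW)).2 ((O.ker (k ^ n)).1 (by rw [map_pow, hn]))
  rw [SubmonoidClass.coe_pow] at hn'
  obtain ⟨j, hj⟩ : ∃ j, (n * j + n') % 3 = 0 := by
    rcases (by omega : n' % 3 = 0 ∨ n' % 3 = 1 ∨ n' % 3 = 2) with e | e | e <;>
      rcases (by omega : n % 3 = 0 ∨ n % 3 = 1 ∨ n % 3 = 2) with f | f | f
    all_goals first
      | (exfalso; have : 3 ∣ n := Nat.dvd_of_mod_eq_zero f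
         exact absurd (Nat.eq_one_of_dvd_coprimes h3 this (dvd_refl 3)) (by norm_num))
      | exact ⟨0, by omega⟩
      | exact ⟨1, by omega⟩
      | exact ⟨2, by omega⟩
  refine ⟨k * w ^ j, ?_, ?_⟩
  · rw [map_mul, map_pow, (O.ker w).2 (Subgroup.mem_zpowers _), one_pow, mul_one]
  · rw [Subgroup.coe_mul, SubmonoidClass.coe_pow, (((gW_comm (hlin k.2)).symm).pow_right j).mul_pow,
      show ((k : PV)) ^ n = gW ^ n' from hn'.symm, ← pow_mul, ← pow_add]
    rw [← Nat.mod_add_div (n' + j * n) 3, pow_add, pow_mul, gW_facts.1, one_pow, mul_one,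
      show (n' + j * n) % 3 = 0 by rw [mul_comm j n, add_comm]; exact hj, pow_zero]

theorem Onto.unique {a b : K} {n : ℕ} (h : ψ a = ψ b) (ha : (a : PV) ^ n = 1) (hb : (b : PV) ^ n = 1)
    (h3 : Nat.Coprime n 3) : (a : PV) = b := by
  have hm : ((a⁻¹ * b : K) : PV) ∈ Subgroup.zpowers gW := (O.ker _).1 (by rw [map_mul, map_inv, h, inv_mul_cancel])
  rw [Subgroup.coe_mul, Subgroup.coe_inv] at hm
  have hc : Commute (a : PV) ((a : PV)⁻¹ * b) := by
    rcases gW_cases hm with e | e | e <;> rw [e]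
    · exact Commute.one_right _
    · exact (gW_comm (hlin a.2)).symm
    · exact ((gW_comm (hlin a.2)).mul_left (gW_comm (hlin a.2))).symm
  set q := (a : PV)⁻¹ * b with hq
  have hqn : q ^ n = 1 := by
    have e : (b : PV) = a * q := by rw [hq, mul_inv_cancel_left]
    rw [e, hc.mul_pow, ha, one_mul] at hb
    exact hb
  have hq3 : q ^ 3 = 1 := by
    obtain ⟨i, hi⟩ := (mem_powers_iff_mem_zpowers (x := gW)).2 hm
    show ((a : PV)⁻¹ * b) ^ 3 = 1
    rw [← show gW ^ i = (a : PV)⁻¹ * b from hi, ← pow_mul, mul_comm, pow_mul, gW_facts.1, one_pow]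
  have h1 : q = 1 := by
    have hd := Nat.dvd_gcd (orderOf_dvd_of_pow_eq_one hqn) (orderOf_dvd_of_pow_eq_one hq3)
    rw [h3, Nat.dvd_one, orderOf_eq_one_iff] at hd
    exact hd
  rw [hq, inv_mul_eq_one] at h1
  exact h1

end Lift

theorem Onto.conj {K : Subgroup PV} {ψ : K →* G22} (O : Onto K ψ) {B : PV} (hB : Lin B) :
    ∃ ψ' : K.map (MulAut.conj B).toMonoidHom →* G22, Onto _ ψ' ∧
      ∀ k : K, ψ' ⟨B * k * B⁻¹, ⟨k, k.2, rfl⟩⟩ = ψ k := by
  let e : K ≃* K.map (MulAut.conj B).toMonoidHom :=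
    Subgroup.equivMapOfInjective K _ (MulAut.conj B).injective
  have hW : B * gW * B⁻¹ = gW := by rw [← (gW_comm hB).eq, mul_inv_cancel_right]
  have he : ∀ k : K, e k = ⟨B * k * B⁻¹, ⟨k, k.2, rfl⟩⟩ := fun k => rfl
  refine ⟨ψ.comp e.symm.toMonoidHom, ⟨fun g => ?_, ⟨gW, O.scal, hW⟩, fun k => ?_⟩, fun k => ?_⟩
  · obtain ⟨k, hk⟩ := O.surj g
    exact ⟨e k, by show ψ (e.symm (e k)) = g; rw [e.symm_apply_apply, hk]⟩
  · obtain ⟨k, rfl⟩ := e.surjective k
    show ψ (e.symm (e k)) = 1 ↔ _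
    rw [e.symm_apply_apply, O.ker, he]
    show (k : PV) ∈ _ ↔ B * k * B⁻¹ ∈ _
    constructor
    · intro h
      rcases gW_cases h with e' | e' | e' <;> rw [e']
      · simp
      · rw [hW]; exact Subgroup.mem_zpowers _
      · rw [← conj_mul, hW]; exact mul_mem (Subgroup.mem_zpowers _) (Subgroup.mem_zpowers _)
    · intro h
      rcases gW_cases h with e' | e' | e'
      · rw [show (k : PV) = 1 from conj_eq_one_iff.1 e']; exact one_mem _
      · rw [show (k : PV) = gW from mul_left_cancel (mul_right_cancel (e'.trans hW.symm))]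
        exact Subgroup.mem_zpowers _
      · rw [show (k : PV) = gW * gW from mul_left_cancel (mul_right_cancel (e'.trans (by rw [← conj_mul, hW])))]
        exact mul_mem (Subgroup.mem_zpowers _) (Subgroup.mem_zpowers _)
  · show ψ (e.symm ⟨B * k * B⁻¹, _⟩) = ψ k
    rw [← he, e.symm_apply_apply]

/-! ### the generators -/

theorem gA_facts : gA ^ 11 = 1 ∧ gA ≠ 1 ∧ gD ^ 5 = 1 ∧ gT ^ 4 = 1 ∧ cols gA⁻¹ = Dat.colI.getD 0 [] ∧
    gD * gA * gD⁻¹ = gA ^ 3 ∧ cols (gD * gD) = Chk.cD2 := by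
  have hA : AddP gA := (gP_spec 0).1
  have hD : AddP gD := (gP_spec 1).1
  have hT : AddP gT := (gP_spec 2).1
  have cA : cols gA = Chk.cA := (gP_spec 0).2.1
  have cD : cols gD = Chk.cD := (gP_spec 1).2.1
  have cT : cols gT = Chk.cT := (gP_spec 2).2.1
  have h11 : gA ^ 11 = 1 := eq_of_cols (cols_pow hA 11).2 AddP.one (by
    rw [(cols_pow hA 11).1, cA, cols_one]; exact gen_facts.2.2.2.1)
  refine ⟨h11, ?_, ?_, ?_, ?_, ?_, ?_⟩
  · intro e
    have := congrArg cols e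
    rw [cA, cols_one] at this
    revert this
    decide +kernel
  · refine eq_of_cols (cols_pow hD 5).2 AddP.one ?_
    rw [(cols_pow hD 5).1, cD, cols_one]; exact gen_facts.2.2.2.2.1
  · refine eq_of_cols (cols_pow hT 4).2 AddP.one ?_
    rw [(cols_pow hT 4).1, cT, cols_one]; exact gen_facts.2.2.2.2.2.1
  · rw [show gA⁻¹ = gA ^ 10 from inv_eq_of_mul_eq_one_right (by rw [← pow_succ', h11]), (cols_pow hA 10).1, cA]
    decide +kernel
  · rw [mul_inv_eq_iff_eq_mul]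
    refine eq_of_cols (hD.mul hA) ((cols_pow hA 3).2.mul hD) ?_
    rw [cols_mul hD, cols_mul (cols_pow hA 3).2, (cols_pow hA 3).1, cA, cD]
    exact gen_facts.2.2.2.2.2.2.2.1
  · rw [cols_mul hD, cD]; rfl

theorem three_pows : ∀ m : ℕ, m < 11 → 0 < m → ∃ i < 5, 3 ^ i % 11 = m ∨ (10 * 3 ^ i) % 11 = m := by decide +kernel

theorem D_pow_conj : ∀ i : ℕ, gD ^ i * gA * (gD ^ i)⁻¹ = gA ^ 3 ^ i
  | 0 => by simp
  | i + 1 => by
    rw [pow_succ', show gD * gD ^ i * gA * (gD * gD ^ i)⁻¹ = gD * (gD ^ i * gA * (gD ^ i)⁻¹) * gD⁻¹ by group,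
      D_pow_conj i, ← conj_pow, gA_facts.2.2.2.2.2.1, ← pow_mul, pow_succ, mul_comm 3]

/-- reduce the first image to the generator or its inverse -/
theorem eleven_pm {p : PV} {B : PV} {m : ℕ} (hp1 : p ≠ 1) (h : B * p * B⁻¹ = gA ^ m) :
    ∃ i : ℕ, ((gD ^ i)⁻¹ * B) * p * ((gD ^ i)⁻¹ * B)⁻¹ = gA ∨ ((gD ^ i)⁻¹ * B) * p * ((gD ^ i)⁻¹ * B)⁻¹ = gA⁻¹ := by
  obtain ⟨h11, -⟩ := gA_facts
  have hmod : gA ^ m = gA ^ (m % 11) := by
    conv_lhs => rw [← Nat.mod_add_div m 11, pow_add, pow_mul, h11, one_pow, mul_one]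
  have hm0 : 0 < m % 11 := by
    rcases Nat.eq_zero_or_pos (m % 11) with e | e
    · rw [hmod, e, pow_zero, conj_eq_one_iff] at h
      exact absurd h hp1
    · exact e
  obtain ⟨i, -, hi⟩ := three_pows (m % 11) (Nat.mod_lt _ (by norm_num)) hm0
  have hinv : gA⁻¹ = gA ^ 10 := inv_eq_of_mul_eq_one_right (by rw [← pow_succ', h11])
  refine ⟨i, hi.imp (fun e => ?_) fun e => ?_⟩
  · rw [show (gD ^ i)⁻¹ * B * p * ((gD ^ i)⁻¹ * B)⁻¹ = (gD ^ i)⁻¹ * (B * p * B⁻¹) * gD ^ i by group, h, hmod, ← e]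
    have h2 : gA ^ 3 ^ i = gA ^ (3 ^ i % 11) := by
      conv_lhs => rw [← Nat.mod_add_div (3 ^ i) 11, pow_add, pow_mul, h11, one_pow, mul_one]
    rw [← h2, ← D_pow_conj i]; group
  · rw [show (gD ^ i)⁻¹ * B * p * ((gD ^ i)⁻¹ * B)⁻¹ = (gD ^ i)⁻¹ * (B * p * B⁻¹) * gD ^ i by group, h, hmod, ← e]
    have h2 : gA ^ (10 * 3 ^ i) = gA ^ (10 * 3 ^ i % 11) := by
      conv_lhs => rw [← Nat.mod_add_div (10 * 3 ^ i) 11, pow_add, pow_mul, h11, one_pow, mul_one]
    rw [← h2, mul_comm 10, pow_mul, ← D_pow_conj i, conj_pow, hinv]; group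

/-! ### uniqueness of the representation -/

theorem cand_D {p : PV} (hp : Lin p) (h5 : p ^ 5 = 1) (h : p * gA = gA ^ 3 * p) :
    ∃ i : ℕ, p = gA ^ i * gD * (gA ^ i)⁻¹ := by
  have hA : AddP gA := (gP_spec 0).1
  have cA : cols gA = Chk.cA := (gP_spec 0).2.1
  have hX : Chk.cmul (cols p) Chk.cA = Chk.cmul (Chk.cpow Chk.cA 3) (cols p) := by
    rw [← cA, ← (cols_pow hA 3).1]
    exact cols_semiconj hp.add (cols_pow hA 3).2 h
  have hb := Chk.cycA_ok
  rw [Chk.cycAOK, leq_iff] at hb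
  have e := build_eq (cols_length p) hb
  rw [cmul_orbImg hp.cols_comm hX] at e
  have hc := all_range (p := Chk.candD) Chk.candD_ok (Nat.zero_le _) (u := Chk.app (cols p) Dat.cycA)
    (by simpa using app_lt (cols_lt p) _)
  rw [Chk.candD, ← e] at hc
  simp only [Chk.candD1, Bool.or_eq_true, Bool.not_eq_true', isoOK_cols hp, leq_iff.2 hX,
    ← (cols_pow hp.add 5).1, h5, cols_one, leq_iff.2 rfl, Bool.true_eq_false, false_or, Chk.memL,
    List.any_eq_true, leq_iff] at hc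
  obtain ⟨X, hXm, rfl⟩ := hc
  obtain ⟨i, hi, hiX⟩ := List.getElem_of_mem hXm
  have hl : Dat.listD.length = 11 := by decide +kernel
  have h' := Chk.listD_ok
  simp only [Chk.listDOK, List.all_eq_true, List.mem_range, leq_iff] at h'
  have hi11 : i < 11 := hl ▸ hi
  refine ⟨i, eq_of_cols hp.add (((cols_pow hA i).2.mul (gP_spec 1).1).mul (cols_pow hA i).2.inv) ?_⟩
  rw [← hiX, ← List.getD_eq_getElem _ [] hi, h' i hi11]
  rw [show gA ^ i * gD * (gA ^ i)⁻¹ = gA ^ i * (gD * gA ^ (11 - i)) by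
    rw [mul_assoc, show (gA ^ i)⁻¹ = gA ^ (11 - i) from inv_eq_of_mul_eq_one_right (by
      rw [← pow_add, Nat.add_sub_cancel' hi11.le, gA_facts.1])]]
  rw [cols_mul (cols_pow hA i).2, cols_mul (show AddP gD from (gP_spec 1).1), (cols_pow hA i).1,
    (cols_pow hA (11 - i)).1, cA, show cols gD = Chk.cD from (gP_spec 1).2.1]

theorem cand_T {p : PV} (hp : Lin p) (h4 : p ^ 4 = 1) (h : p * gD = gD * gD * p)
    (hrel : Chk.relOK (cols p) = true) :
    ∃ c : PV, Lin c ∧ c * gA = gA * c ∧ c * gD = gD * c ∧ p = c * gT * c⁻¹ := by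
  have hD : AddP gD := (gP_spec 1).1
  have cD : cols gD = Chk.cD := (gP_spec 1).2.1
  have hX : Chk.cmul (cols p) Chk.cD = Chk.cmul Chk.cD2 (cols p) := by
    rw [← cD, ← gA_facts.2.2.2.2.2.2]
    exact cols_semiconj hp.add (hD.mul hD) h
  have hb := Chk.cycD_ok
  simp only [Chk.cycDOK, Bool.and_eq_true, leq_iff, List.any_eq_true, List.mem_range] at hb
  obtain ⟨⟨⟨hb, hf1⟩, hf2⟩, v, hv, hv'⟩ := hb
  have hf1' := Nat.eq_of_beq_eq_true hf1
  have hf2' := Nat.eq_of_beq_eq_true hf2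
  have hv'' : v ^^^ Chk.app Chk.cD v = Dat.cycD.getD 0 0 := Nat.eq_of_beq_eq_true hv'
  set X := cols p with hXdef
  set u := Chk.app X (Dat.cycD.getD 0 0) with hu
  set a := Chk.app X (Dat.cycD.getD 1 0) with ha
  set b := Chk.app X (Dat.cycD.getD 2 0) with hb'
  have e := build_eq (cols_length p) hb
  rw [← hXdef, show Chk.cmul X Chk.baseD =
      Chk.cmul X (Chk.orbImgD Chk.cD (Dat.cycD.getD 0 0)) ++
        Chk.cmul X (Chk.withW [Dat.cycD.getD 1 0, Dat.cycD.getD 2 0]) from List.map_append,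
    cmul_orbImgD hp.cols_comm hX, cmul_withW hp.cols_comm] at e
  simp only [List.map_cons, List.map_nil, ← hu, ← ha, ← hb'] at e
  have hq : ∀ L : List ℕ, (∀ k ∈ L, k < 4096) → Chk.qSame (Chk.cmul X L) L = true := by
    intro L hL
    have h1 := qSame_map hp.add hp.form L hL
    rwa [show (L.map fun k => code (p (SUSix.vecOf k))) = Chk.cmul X L from List.map_congr_left fun k hk => by
      rw [hXdef, app_cols hp.add, code_vecOf k (hL k hk)]] at h1
  have hlow : ∀ k ∈ Chk.orbImgD Chk.cD (Dat.cycD.getD 0 0) ++ Chk.withW [Dat.cycD.getD 1 0, Dat.cycD.getD 2 0],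
      k < 4096 := by decide +kernel
  -- the image of the cyclic vector
  have hU : Dat.imgD.any (Nat.beq u) = true := by
    have hy := all_range (p := Chk.candT1) Chk.candT1_ok (Nat.zero_le _) (u := Chk.app X v)
      (by simpa using app_lt (cols_lt p) _)
    have huy : Nat.xor (Chk.app X v) (Chk.app Chk.cD2 (Chk.app X v)) = u := by
      show Chk.app X v ^^^ _ = u
      rw [← app_comm hX, ← app_xor, hv'']
    have hq' := hq (Chk.orbImgD Chk.cD (Dat.cycD.getD 0 0)) fun k hk => hlow k (List.mem_append_left _ hk)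
    rw [cmul_orbImgD hp.cols_comm hX, ← hu] at hq'
    rw [Chk.candT1, huy, hq'] at hy
    simpa using hy
  have hF : ∀ i, (i = 1 ∨ i = 2) → Dat.fixD.any (Nat.beq (Chk.app X (Dat.cycD.getD i 0))) = true := by
    intro i hi
    have hfix : Chk.app Chk.cD2 (Chk.app X (Dat.cycD.getD i 0)) = Chk.app X (Dat.cycD.getD i 0) := by
      rw [← app_comm hX]
      rcases hi with rfl | rfl
      · rw [hf1']
      · rw [hf2']
    have hy := all_range (p := Chk.candT2) Chk.candT2_ok (Nat.zero_le _) (u := Chk.app X (Dat.cycD.getD i 0))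
      (by simpa using app_lt (cols_lt p) _)
    rw [Chk.candT2, hfix] at hy
    simpa using hy
  have hP : Dat.pairD.any (Nat.beq (a + 4096 * b)) = true := by
    have hy := Chk.candT3_ok
    simp only [Chk.candT3, List.all_eq_true] at hy
    obtain ⟨a', ha', ea'⟩ := List.any_eq_true.1 (hF 1 (Or.inl rfl))
    obtain ⟨b', hb'', eb⟩ := List.any_eq_true.1 (hF 2 (Or.inr rfl))
    rw [← ha] at ea'
    rw [← hb'] at eb
    rw [← Nat.eq_of_beq_eq_true ea'] at ha'
    rw [← Nat.eq_of_beq_eq_true eb] at hb''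
    have h3 := hy _ ha' _ hb''
    have hq' := hq (Chk.withW [Dat.cycD.getD 1 0, Dat.cycD.getD 2 0]) fun k hk => hlow k (List.mem_append_right _ hk)
    rw [cmul_withW hp.cols_comm] at hq'
    simp only [List.map_cons, List.map_nil, ← ha, ← hb'] at hq'
    rw [hq'] at h3
    simpa using h3
  obtain ⟨u', hu', eu⟩ := List.any_eq_true.1 hU
  obtain ⟨r, hr, er⟩ := List.any_eq_true.1 hP
  have h5 := Chk.candT5_ok
  simp only [Chk.candT5, List.all_eq_true] at h5
  have h6 := h5 _ hu' _ hr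
  have hba : a < 4096 := app_lt (cols_lt p) _
  have er' : a + 4096 * b = r := Nat.eq_of_beq_eq_true er
  rw [← Nat.eq_of_beq_eq_true eu, ← er', show (a + 4096 * b) % 4096 = a by omega,
    show (a + 4096 * b) / 4096 = b by omega, ← e] at h6
  rw [hXdef] at hrel h6
  simp only [Chk.candT4, Bool.or_eq_true, Bool.not_eq_true', isoOK_cols hp, hrel,
    ← (cols_pow hp.add 4).1, h4, cols_one, leq_iff.2 rfl, Bool.true_eq_false, false_or, Chk.memL,
    List.any_eq_true, leq_iff] at h6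
  obtain ⟨Y, hY, hYe⟩ := h6
  obtain ⟨i, hi, hiY⟩ := List.getElem_of_mem hY
  have hl : Dat.listT.length = 3 ∧ Dat.conjT.length = 3 := by decide +kernel
  have h7 := Chk.conjT_ok
  simp only [Chk.conjTOK, List.all_eq_true, List.mem_range, Bool.and_eq_true, leq_iff] at h7
  obtain ⟨⟨⟨⟨⟨⟨-, hcci⟩, hcic⟩, hcA⟩, hcD⟩, hcW⟩, hcT⟩ := h7 i (hl.1 ▸ hi)
  have hlt : ∀ j < 3, (Dat.conjT.getD j []).length = 12 ∧ (∀ x ∈ Dat.conjT.getD j [], x < 4096) ∧
      (∀ x ∈ Dat.conjTi.getD j [], x < 4096) ∧ (Dat.conjTi.getD j []).length = 12 := by decide +kernel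
  obtain ⟨hl12, hlc, hlci, hl12'⟩ := hlt i (hl.1 ▸ hi)
  set c : PV := ofL (Dat.conjT.getD i []) (Dat.conjTi.getD i [])
    (inv_lists hlci hcci) (inv_lists hlc hcic) with hcdef
  obtain ⟨hca, hcc, -⟩ := ofL_spec (h1 := inv_lists hlci hcci) (h2 := inv_lists hlc hcic) hl12 hlc
  have hlin : Lin c := ⟨hca, smul_comm_of_cols hca (by rw [hcdef, hcc]; exact hcW), form_of_cols hca (by
    rw [hcdef, hcc]
    refine form_chk _ (List.mem_append_right _ ?_)
    rw [List.getD_eq_getElem _ _ (by rw [hl.2]; exact hl.1 ▸ hi)]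
    exact List.getElem_mem _)⟩
  have comm : ∀ q : PV, AddP q → Chk.cmul (Dat.conjT.getD i []) (cols q) = Chk.cmul (cols q) (Dat.conjT.getD i []) →
      c * q = q * c := fun q hq e => eq_of_cols (hca.mul hq) (hq.mul hca) (by
    rw [cols_mul hca, cols_mul hq, hcdef, hcc]; exact e)
  refine ⟨c, hlin, comm _ (gP_spec 0).1 (by rw [show cols gA = Chk.cA from (gP_spec 0).2.1]; exact hcA),
    comm _ hD (by rw [cD]; exact hcD), ?_⟩
  rw [eq_mul_inv_iff_mul_eq]
  refine eq_of_cols (hp.add.mul hca) (hca.mul (gP_spec 2).1) ?_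
  rw [cols_mul hp.add, cols_mul hca, hcdef, hcc, show cols gT = Chk.cT from (gP_spec 2).2.1]
  have e1 : cols p = Chk.cmul (Dat.conjT.getD i []) (Chk.cmul Chk.cT (Dat.conjTi.getD i [])) := by
    rw [hYe, ← hiY, ← List.getD_eq_getElem _ [] hi, hcT]
  rw [e1]
  have hm : ∀ P Q R : List ℕ, Chk.cmul (Chk.cmul P Q) R = Chk.cmul P (Chk.cmul Q R) := fun P Q R => by
    show R.map _ = (R.map _).map _
    rw [List.map_map]
    exact List.map_congr_left fun k _ => app_cmul P Q k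
  rw [hm, hm, hcic, app_list12 _ (by decide +kernel)]

theorem onto_closure {K : Subgroup PV} {ψ : K →* G22} (O : Onto K ψ) {a d t : K}
    (ha : ψ a = ea) (hd : ψ d = ed) (ht : ψ t = et) :
    K = Subgroup.closure ({(a : PV), (d : PV), (t : PV), gW} : Set PV) := by
  set S := Subgroup.closure ({(a : PV), (d : PV), (t : PV), gW} : Set PV) with hS
  refine le_antisymm (fun k hk => ?_) ((Subgroup.closure_le _).2 (by
    rintro p (rfl | rfl | rfl | rfl)
    exacts [a.2, d.2, t.2, O.scal]))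
  have htop : (S.subgroupOf K).map ψ = ⊤ := by
    rw [eq_top_iff, ← closure_gens, Subgroup.closure_le]
    rintro g (rfl | rfl | rfl)
    exacts [⟨a, Subgroup.subset_closure (Or.inl rfl), ha⟩, ⟨d, Subgroup.subset_closure (Or.inr (Or.inl rfl)), hd⟩,
      ⟨t, Subgroup.subset_closure (Or.inr (Or.inr (Or.inl rfl))), ht⟩]
  obtain ⟨s, hs, hse⟩ : ψ ⟨k, hk⟩ ∈ (S.subgroupOf K).map ψ := htop ▸ Subgroup.mem_top _
  have h1 := (O.ker (s⁻¹ * ⟨k, hk⟩)).1 (by rw [map_mul, map_inv, hse, inv_mul_cancel])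
  have h2 : Subgroup.zpowers gW ≤ S :=
    Subgroup.zpowers_le.2 (Subgroup.subset_closure (Or.inr (Or.inr (Or.inr rfl))))
  have h3 := mul_mem (show (s : PV) ∈ S from hs) (h2 h1)
  simpa using h3

theorem model_unique {K : Subgroup PV} (hlin : K ≤ LinG) {ψ : K →* G22} (O : Onto K ψ) :
    (∃ B, Lin B ∧ K.map (MulAut.conj B).toMonoidHom = Kp) ∧ Mdl := by
  suffices h : ∃ B, Lin B ∧ K.map (MulAut.conj B).toMonoidHom = Kp by
    refine ⟨h, ?_⟩
    obtain ⟨B, hB, e⟩ := h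
    obtain ⟨ψ', O', -⟩ := O.conj hB
    rw [Mdl, ← e]
    exact ⟨ψ', O'⟩
  have hlinC : ∀ {K : Subgroup PV} {B : PV}, K ≤ LinG → Lin B → K.map (MulAut.conj B).toMonoidHom ≤ LinG := by
    rintro K B hK hB _ ⟨k, hk, rfl⟩
    exact mul_mem (mul_mem (show B ∈ LinG from hB) (hK hk)) (inv_mem (show B ∈ LinG from hB))
  -- the first generator
  obtain ⟨hA11, hA1, hD5, hT4, hAinv, hDA, -⟩ := gA_facts
  obtain ⟨e11, ea1, e5, e4⟩ := e_pows
  obtain ⟨α, hα, hα11⟩ := O.lift hlin e11 (by norm_num)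
  have hα1 : (α : PV) ≠ 1 := fun e => ea1 (hα ▸ (by rw [show α = 1 from Subtype.ext e, map_one]))
  obtain ⟨B0, hB0, m, hm⟩ := eleven_conj (hlin α.2) hα1 hα11 (gP_lin 0 (by decide)) hA1 hA11
  obtain ⟨i, hi⟩ := eleven_pm hα1 hm
  set B1 := (gD ^ i)⁻¹ * B0 with hB1
  have hB1l : Lin B1 := mul_mem (inv_mem (pow_mem (show gD ∈ LinG from gP_lin 1 (by decide)) i))
    (show B0 ∈ LinG from hB0)
  have hlin1 := hlinC hlin hB1l
  set K1 := K.map (MulAut.conj B1).toMonoidHom with hK1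
  obtain ⟨ψ1, O1, hψ1⟩ : ∃ ψ' : K1 →* G22, Onto K1 ψ' ∧ ∀ k : K, ψ' ⟨B1 * k * B1⁻¹, ⟨k, k.2, rfl⟩⟩ = ψ k :=
    O.conj hB1l
  obtain ⟨ψ2, O2, a2, ha2, hψ2⟩ : ∃ ψ2 : K1 →* G22, Onto K1 ψ2 ∧ ∃ a2 : K1, (a2 : PV) = gA ∧ ψ2 a2 = ea := by
    rcases hi with hi | hi
    · exact ⟨ψ1, O1, ⟨B1 * α * B1⁻¹, ⟨α, α.2, rfl⟩⟩, hi, (hψ1 α).trans hα⟩
    · refine ⟨sigAut.toMonoidHom.comp ψ1, ⟨sigAut.surjective.comp O1.surj, O1.scal, fun k => ?_⟩,
        (⟨B1 * α * B1⁻¹, ⟨α, α.2, rfl⟩⟩ : K1)⁻¹, ?_, ?_⟩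
      · show sigAut (ψ1 k) = 1 ↔ _
        rw [MulEquiv.map_eq_one_iff, O1.ker]
      · rw [Subgroup.coe_inv]
        show (B1 * α * B1⁻¹)⁻¹ = gA
        rw [hi, inv_inv]
      · show sigAut (ψ1 _⁻¹) = ea
        rw [map_inv, hψ1, hα, map_inv, sigAut_ea, inv_inv]
  -- the second generator
  obtain ⟨δ, hδ, hδ5⟩ := O2.lift hlin1 e5 (by norm_num)
  have hδA : (δ : PV) * gA * (δ : PV)⁻¹ = gA ^ 3 := by
    have h := O2.unique hlin1 (a := δ * a2 * δ⁻¹) (b := a2 ^ 3) (n := 11) (by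
      rw [map_mul, map_mul, map_inv, map_pow, hδ, hψ2, e_rels.1]) (by
      rw [Subgroup.coe_mul, Subgroup.coe_mul, Subgroup.coe_inv, conj_pow, ha2, hA11, mul_one, mul_inv_cancel]) (by
      rw [SubmonoidClass.coe_pow, ← pow_mul, mul_comm, pow_mul, ha2, hA11, one_pow]) (by norm_num)
    rwa [Subgroup.coe_mul, Subgroup.coe_mul, Subgroup.coe_inv, SubmonoidClass.coe_pow, ha2] at h
  obtain ⟨i2, hi2⟩ := cand_D (hlin1 δ.2) hδ5 (mul_inv_eq_iff_eq_mul.1 hδA)
  set B2 := (gA ^ i2)⁻¹ with hB2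
  have hB2l : Lin B2 := inv_mem (pow_mem (show gA ∈ LinG from gP_lin 0 (by decide)) i2)
  have hlin3 := hlinC hlin1 hB2l
  set K3 := K1.map (MulAut.conj B2).toMonoidHom with hK3
  obtain ⟨ψ3, O3, hψ3⟩ : ∃ ψ' : K3 →* G22, Onto K3 ψ' ∧ ∀ k : K1, ψ' ⟨B2 * k * B2⁻¹, ⟨k, k.2, rfl⟩⟩ = ψ2 k :=
    O2.conj hB2l
  set a3 : K3 := ⟨B2 * a2 * B2⁻¹, ⟨a2, a2.2, rfl⟩⟩
  set d3 : K3 := ⟨B2 * δ * B2⁻¹, ⟨δ, δ.2, rfl⟩⟩
  have ha3 : (a3 : PV) = gA := by
    show B2 * a2 * B2⁻¹ = gA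
    rw [ha2, hB2]; group
  have hd3 : (d3 : PV) = gD := by
    show B2 * δ * B2⁻¹ = gD
    rw [hi2, hB2]; group
  -- the third generator
  obtain ⟨τ, hτ, hτ4⟩ := O3.lift hlin3 e4 (by norm_num)
  have hτD : (τ : PV) * gD * (τ : PV)⁻¹ = gD * gD := by
    have h := O3.unique hlin3 (a := τ * d3 * τ⁻¹) (b := d3 ^ 2) (n := 5) (by
      rw [map_mul, map_mul, map_inv, map_pow, hτ, show ψ3 d3 = ed from (hψ3 δ).trans hδ, e_rels.2]) (by
      rw [Subgroup.coe_mul, Subgroup.coe_mul, Subgroup.coe_inv, conj_pow, hd3, hD5, mul_one, mul_inv_cancel]) (by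
      rw [SubmonoidClass.coe_pow, ← pow_mul, mul_comm, pow_mul, hd3, hD5, one_pow]) (by norm_num)
    rwa [Subgroup.coe_mul, Subgroup.coe_mul, Subgroup.coe_inv, SubmonoidClass.coe_pow, hd3, pow_two] at h
  have hτl := hlin3 τ.2
  have hrel : Chk.relOK (cols (τ : PV)) = true := by
    let L : ℕ → K3 := fun s => [a3, a3⁻¹, d3, τ, τ⁻¹].getD s 1
    have hτinv : (τ : PV)⁻¹ = (τ : PV) ^ 3 := inv_eq_of_mul_eq_one_right (by rw [← pow_succ', hτ4])
    have hL : ∀ s < 5, cols ((L s : K3) : PV) = Chk.letT (cols (τ : PV)) s ∧ ψ3 (L s) = eLet s := by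
      intro s hs
      have h3a : ψ3 a3 = ea := (hψ3 a2).trans hψ2
      interval_cases s
      · exact ⟨(congrArg cols ha3).trans (gP_spec 0).2.1, h3a⟩
      · refine ⟨?_, by show ψ3 a3⁻¹ = ea⁻¹; rw [map_inv, h3a]⟩
        show cols ((a3⁻¹ : K3) : PV) = _
        rw [Subgroup.coe_inv, ha3]; exact hAinv
      · exact ⟨(congrArg cols hd3).trans (gP_spec 1).2.1, (hψ3 δ).trans hδ⟩
      · exact ⟨rfl, hτ⟩
      · refine ⟨?_, by show ψ3 τ⁻¹ = et⁻¹; rw [map_inv, hτ]⟩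
        show cols ((τ⁻¹ : K3) : PV) = Chk.cpow (cols (τ : PV)) 3
        rw [Subgroup.coe_inv, hτinv, (cols_pow hτl.add 3).1]
    have hval : ∀ w : List ℕ, (∀ s ∈ w, s < 5) →
        cols (((w.map L).prod : K3) : PV) = Chk.relV (cols (τ : PV)) w ∧ ψ3 (w.map L).prod = (w.map eLet).prod := by
      intro w
      induction w with
      | nil => exact fun _ => ⟨cols_one, map_one _⟩
      | cons s w ih =>
        intro h
        obtain ⟨i1, i2⟩ := ih fun x hx => h x (List.mem_cons_of_mem _ hx)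
        obtain ⟨j1, j2⟩ := hL s (h s List.mem_cons_self)
        refine ⟨?_, by rw [List.map_cons, List.prod_cons, map_mul, i2, j2]; rfl⟩
        rw [List.map_cons, List.prod_cons, Subgroup.coe_mul, cols_mul (hlin3 (L s).2).add, i1, j1]
        rfl
    simp only [Chk.relOK, List.all_eq_true, Chk.eqS, Bool.or_eq_true, leq_iff]
    intro r hr
    have hlt : ∀ r ∈ Chk.rels, (∀ s ∈ r.1, s < 5) ∧ ∀ s ∈ r.2, s < 5 := by decide +kernel
    obtain ⟨l1, l2⟩ := hval r.1 (hlt r hr).1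
    obtain ⟨m1, m2⟩ := hval r.2 (hlt r hr).2
    rw [← l1, ← m1]
    set p1 := (r.1.map L).prod
    set p2 := (r.2.map L).prod
    have hker := (O3.ker (p1 * p2⁻¹)).1 (by rw [map_mul, map_inv, l2, m2, e_relators r hr, mul_inv_cancel])
    rw [Subgroup.coe_mul, Subgroup.coe_inv] at hker
    have hWA : AddP gW := (gP_spec 3).1
    have cW : cols gW = Chk.cW := (gP_spec 3).2.1
    rcases gW_cases hker with e | e | e
    · exact Or.inl (Or.inl (congrArg cols (mul_inv_eq_one.1 e)))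
    · refine Or.inl (Or.inr ?_)
      rw [← cW, ← cols_mul hWA, mul_inv_eq_iff_eq_mul.1 e]
    · refine Or.inr ?_
      rw [← cW, ← cols_mul hWA, ← cols_mul (hWA.mul hWA), mul_inv_eq_iff_eq_mul.1 e]
  obtain ⟨c, hc, hcA, hcD, hcT⟩ := cand_T hτl hτ4 (mul_inv_eq_iff_eq_mul.1 hτD) hrel
  refine ⟨c⁻¹ * (B2 * B1), mul_mem (inv_mem (show c ∈ LinG from hc))
    (mul_mem (show B2 ∈ LinG from hB2l) (show B1 ∈ LinG from hB1l)), ?_⟩
  have e0 : K.map (MulAut.conj (c⁻¹ * (B2 * B1))).toMonoidHom = K3.map (MulAut.conj c⁻¹).toMonoidHom := by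
    rw [hK3, hK1, Subgroup.map_map, Subgroup.map_map]
    refine congrArg (fun f => K.map f) (MonoidHom.ext fun x => ?_)
    show c⁻¹ * (B2 * B1) * x * (c⁻¹ * (B2 * B1))⁻¹ = c⁻¹ * (B2 * (B1 * x * B1⁻¹) * B2⁻¹) * c⁻¹⁻¹
    group
  rw [e0, onto_closure O3 (a := a3) (d := d3) (t := τ) ((hψ3 a2).trans hψ2) ((hψ3 δ).trans hδ) hτ, Kp,
    MonoidHom.map_closure]
  congr 1
  simp only [Set.image_insert_eq, Set.image_singleton, MulEquiv.coe_toMonoidHom, MulAut.conj_apply, inv_inv]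
  rw [ha3, hd3, hcT]
  rw [show c⁻¹ * gA * c = gA by rw [mul_assoc, ← hcA, inv_mul_cancel_left],
    show c⁻¹ * gD * c = gD by rw [mul_assoc, ← hcD, inv_mul_cancel_left],
    show c⁻¹ * (c * gT * c⁻¹) * c = gT by group,
    show c⁻¹ * gW * c = gW by rw [mul_assoc, (gW_comm hc).eq, inv_mul_cancel_left]]

theorem card_Kp (hM : Mdl) : Nat.card Kp = 1330560 := by
  obtain ⟨ψ, O⟩ := hM
  rw [Subgroup.card_eq_card_quotient_mul_card_subgroup ψ.ker,
    Nat.card_congr (QuotientGroup.quotientKerEquivOfSurjective ψ O.surj).toEquiv]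
  have hk : ψ.ker = (Subgroup.zpowers gW).subgroupOf Kp := by
    ext k; rw [MonoidHom.mem_ker, O.ker, Subgroup.mem_subgroupOf]
  haveI : Fact (Nat.Prime 3) := ⟨Nat.prime_three⟩
  rw [hk, Nat.card_congr (Subgroup.subgroupOfEquivOfLe (Subgroup.zpowers_le.2 gW_mem)).toEquiv, Nat.card_zpowers,
    orderOf_eq_prime gW_facts.1 gW_facts.2, Local.FS.Mathieu.card_m22]

theorem card_Gam (hM : Mdl) : Nat.card Gam = 2661120 := by
  have := Subgroup.card_mul_index (Kp.subgroupOf Gam)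
  rw [index_Gam, Nat.card_congr (Subgroup.subgroupOfEquivOfLe Kp_le).toEquiv, card_Kp hM] at this
  omega

theorem Kp_factor (hM : Mdl) : (Nat.card Kp).factorization 11 = 1 := by
  rw [card_Kp hM, show 1330560 = 11 ^ 1 * 120960 by norm_num,
    Nat.factorization_mul (by norm_num) (by norm_num), Finsupp.add_apply,
    Nat.factorization_eq_zero_of_not_dvd (show ¬ 11 ∣ 120960 by norm_num),
    Nat.Prime.factorization_pow (by norm_num), Finsupp.single_eq_same, add_zero]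

theorem pres_orbit (hM : Mdl) {g : PV} (hg : Lin g) (hn : ∀ p ∈ Kp, g * p * g⁻¹ ∈ Kp) (v : V6)
    (hv : PI v ∧ PA v) : PA (g v) := by
  have hle : Kp.map (MulAut.conj g).toMonoidHom ≤ Kp := by rintro _ ⟨p, hp, rfl⟩; exact hn p hp
  have heq : Kp.map (MulAut.conj g).toMonoidHom = Kp :=
    Subgroup.eq_of_le_of_card_ge hle (by rw [Subgroup.card_map_of_injective (MulAut.conj g).injective])
  have hI : ∀ w, PI w → PI (g w) := fun w hw => by
    rw [PI_iff] at hw ⊢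
    refine ⟨fun e => hw.1 (g.injective (e.trans ?_)), by rw [hg.form]; exact hw.2⟩
    have := hg.add 0 0
    simpa [eq_comm] using this
  by_contra hB
  have hgv := hI v hv.1
  have himg : g '' {w : V6 | PI w ∧ PA w} = {w : V6 | PI w ∧ ¬ PA w} := by
    ext w
    constructor
    · rintro ⟨u, ⟨hu, huA⟩, rfl⟩
      refine ⟨hI u hu, fun h => hB ?_⟩
      obtain ⟨p, hp, e⟩ := (trans hv.1).1 hv.2
      obtain ⟨p', hp', e'⟩ := (trans hu).1 huA
      have h1 := (Gam_le_Pres (Kp_le (hn (p * p'⁻¹) (mul_mem hp (inv_mem hp')))) (g u)).1.2 h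
      rwa [Equiv.Perm.mul_apply, Equiv.Perm.mul_apply, show g⁻¹ (g u) = u from g.symm_apply_apply u,
        Equiv.Perm.mul_apply, ← e', show p'⁻¹ (p' va) = va from p'.symm_apply_apply va, e] at h1
    · rintro ⟨hw, hwB⟩
      obtain ⟨p, hp, e⟩ := (trans hgv).2 hB
      obtain ⟨p', hp', e'⟩ := (trans hw).2 hwB
      obtain ⟨k, hk, hke⟩ : p' * p⁻¹ ∈ Kp.map (MulAut.conj g).toMonoidHom := heq.symm ▸ mul_mem hp' (inv_mem hp)
      refine ⟨k v, ⟨((Gam_le_Pres (Kp_le hk) v).2).2 hv.1, ((Gam_le_Pres (Kp_le hk) v).1).2 hv.2⟩, ?_⟩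
      have h1 := Equiv.congr_fun hke (g v)
      simp only [MulEquiv.coe_toMonoidHom, MulAut.conj_apply, Equiv.Perm.mul_apply,
        show g⁻¹ (g v) = v from g.symm_apply_apply v] at h1
      rw [h1, ← e, show p⁻¹ (p vb) = vb from p.symm_apply_apply vb, e']
  have h := congrArg Set.ncard himg
  rw [Set.ncard_image_of_injective _ g.injective, count_A.1, count_A.2] at h
  omega

/-- linear isometries normalising the group lie in it -/
theorem norm_lin (hM : Mdl) {h : PV} (hl : Lin h) (hn : ∀ p ∈ Kp, h * p * h⁻¹ ∈ Kp) : h ∈ Kp := by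
  haveI : Fact (Nat.Prime 11) := ⟨by norm_num⟩
  obtain ⟨hA11, hA1, -, -, hAinv, -⟩ := gA_facts
  have hoA : orderOf gA = 11 := orderOf_eq_prime hA11 hA1
  have hb := hn gA gA_mem
  have hob : orderOf (h * gA * h⁻¹) = 11 := by
    rw [← hoA]
    exact orderOf_injective (MulAut.conj h).toMonoidHom (MulAut.conj h).injective gA
  obtain ⟨k, hk, hkP⟩ := U43.exists_conj_of_card (p := 11) (n := 1) (K := Kp)
    (P := Subgroup.zpowers (h * gA * h⁻¹)) (Q := Subgroup.zpowers gA) (Kp_factor hM)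
    (Subgroup.zpowers_le.2 hb) (Subgroup.zpowers_le.2 gA_mem) (by rw [Nat.card_zpowers, hob, pow_one])
    (by rw [Nat.card_zpowers, hoA, pow_one])
  obtain ⟨m, hm⟩ := (mem_powers_iff_mem_zpowers (x := gA)).2
    (hkP ▸ ⟨_, Subgroup.mem_zpowers (h * gA * h⁻¹), rfl⟩ : k * (h * gA * h⁻¹) * k⁻¹ ∈ Subgroup.zpowers gA)
  have hm' : k * h * gA * (k * h)⁻¹ = gA ^ m := by
    rw [show gA ^ m = k * (h * gA * h⁻¹) * k⁻¹ from hm]; group
  obtain ⟨i, hi⟩ := eleven_pm hA1 hm'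
  set g := (gD ^ i)⁻¹ * (k * h) with hg
  have hgK : (gD ^ i)⁻¹ * k ∈ Kp := mul_mem (inv_mem (pow_mem gD_mem i)) hk
  suffices g ∈ Kp by
    have h2 := mul_mem (inv_mem hgK) this
    rwa [hg, show ((gD ^ i)⁻¹ * k)⁻¹ * ((gD ^ i)⁻¹ * (k * h)) = h by group] at h2
  have hgl : Lin g := mul_mem (inv_mem (pow_mem (show gD ∈ LinG from gP_lin 1 (by decide)) i))
    (mul_mem (Kp_le_LinG hk) (show h ∈ LinG from hl))
  have hgn : ∀ p ∈ Kp, g * p * g⁻¹ ∈ Kp := fun p hp => by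
    rw [show g * p * g⁻¹ = ((gD ^ i)⁻¹ * k) * (h * p * h⁻¹) * ((gD ^ i)⁻¹ * k)⁻¹ by rw [hg]; group]
    exact mul_mem (mul_mem hgK (hn p hp)) (inv_mem hgK)
  have hb' := Chk.cycA_ok
  rw [Chk.cycAOK, leq_iff] at hb'
  have e := build_eq (cols_length g) hb'
  have hA : AddP gA := (gP_spec 0).1
  have cA : cols gA = Chk.cA := (gP_spec 0).2.1
  rcases hi with hi | hi
  · have hX : Chk.cmul (cols g) Chk.cA = Chk.cmul Chk.cA (cols g) := by
      rw [← cA]; exact cols_semiconj hgl.add hA (mul_inv_eq_iff_eq_mul.1 hi)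
    rw [cmul_orbImg hgl.cols_comm hX] at e
    have hc := all_range (p := Chk.candC) Chk.candC_ok (Nat.zero_le _) (u := Chk.app (cols g) Dat.cycA)
      (by simpa using app_lt (cols_lt g) _)
    rw [Chk.candC, ← e] at hc
    have horb : Chk.orbOK (cols g) = true := by
      simp only [Chk.orbOK, List.all_eq_true]
      intro k hk
      have hk1 : k < 4096 ∧ Chk.isA k = true ∧ Chk.isI k = true := by
        revert k; decide +kernel
      have h1 := pres_orbit hM hgl hgn (SUSix.vecOf k)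
        ⟨by rw [PI, code_vecOf k hk1.1]; exact hk1.2.2, by rw [PA, code_vecOf k hk1.1]; exact hk1.2.1⟩
      rwa [PA, app_cols hgl.add, code_vecOf k hk1.1] at h1
    simp only [Chk.candC1, Bool.or_eq_true, Bool.not_eq_true', isoOK_cols hgl, leq_iff.2 hX, horb,
      Bool.true_eq_false, or_false, false_or, Chk.memL, List.any_eq_true, leq_iff] at hc
    obtain ⟨X, hXm, hXe⟩ := hc
    obtain ⟨j, hj, rfl⟩ := List.getElem_of_mem hXm
    have hl33 : Dat.listC.length = 33 := by decide +kernel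
    have h' := Chk.listC_ok
    simp only [Chk.listCOK, List.all_eq_true, List.mem_range, leq_iff] at h'
    have hW : AddP gW := (gP_spec 3).1
    rw [show g = gA ^ (j % 11) * gW ^ (j / 11) from eq_of_cols hgl.add
      ((cols_pow hA _).2.mul (cols_pow hW _).2) (by
        rw [hXe, ← List.getD_eq_getElem _ [] hj, h' j (hl33 ▸ hj), cols_mul (cols_pow hA _).2, (cols_pow hA _).1,
          (cols_pow hW _).1, cA, show cols gW = Chk.cW from (gP_spec 3).2.1])]
    exact mul_mem (pow_mem gA_mem _) (pow_mem gW_mem _)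
  · exfalso
    have hX : Chk.cmul (cols g) Chk.cA = Chk.cmul (Dat.colI.getD 0 []) (cols g) := by
      rw [← cA, ← hAinv]; exact cols_semiconj hgl.add hA.inv (mul_inv_eq_iff_eq_mul.1 hi)
    rw [cmul_orbImg hgl.cols_comm hX] at e
    have hc := all_range (p := Chk.candI) Chk.candI_ok (Nat.zero_le _) (u := Chk.app (cols g) Dat.cycA)
      (by simpa using app_lt (cols_lt g) _)
    rw [Chk.candI, ← e] at hc
    simp only [Chk.candI1, Bool.or_eq_true, Bool.not_eq_true', isoOK_cols hgl, leq_iff.2 hX,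
      Bool.true_eq_false, or_self] at hc

end Cfsg.Agent.Spor.JFour
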