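import Cfsg.Agent.Lib.Spor.JFourBasis
import Cfsg.Agent.Lib.Spor.JFourUnique
import Cfsg.Agent.Lib.Spor.MathieuOutTwo
import Cfsg.Agent.Lib.Spor.MathieuSimple
import Cfsg.Agent.Lib.Spor.LargeExtraspecial
import Cfsg.Prelude.Def_JankoFourType

/-!
Janko four type: coordinates in which the centraliser of the involution acts as the model 3.M22.2.
-/

set_option autoImplicit false
set_option maxRecDepth 100000
set_option linter.unusedSectionVars false

namespace Cfsg.Agent.Spor.JFour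

open Cfsg.Agent.Spor.SUSix (V6)
open Cfsg.Agent.Spor.SpFour (F4)
open Cfsg.Agent.Spor.Large (XT)
open Cfsg.Agent.Small.Unitary (herm)
open MulAction

local notation "G22" => Subtype (fun x => x ∈ Cfsg.Spor.M22)

universe u

variable {G : Type u} [Group G] [Finite G]

/-- M22 is simple -/
theorem simple_G22 : IsSimpleGroup G22 := by
  let e : G22 →* M24 := Subgroup.inclusion (inf_le_left.trans inf_le_left)
  have he : Function.Injective e := Subgroup.inclusion_injective _
  have hrange : e.range = stabilizer M24 (none : GolayPt) ⊓ stabilizer M24 (some 0 : GolayPt) := by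
    ext g
    exact ⟨fun ⟨k, hk⟩ => hk ▸ ⟨k.2.1.2, k.2.2⟩, fun h => ⟨⟨g.1, ⟨g.2, h.1⟩, h.2⟩, rfl⟩⟩
  haveI := simple_stabilizer_two (p := (none : GolayPt)) (q := some 0) (by simp)
  exact ((MonoidHom.ofInjective he).trans (MulEquiv.subgroupCongr hrange)).isSimpleGroup

theorem conj_inj22 : Function.Injective (MulAut.conj : G22 →* MulAut G22) := by
  haveI := simple_G22
  refine (MonoidHom.ker_eq_bot_iff _).1 ?_
  refine (IsSimpleGroup.eq_bot_or_eq_top_of_normal _ inferInstance).resolve_right fun h => ?_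
  obtain ⟨-, ea1, -⟩ := e_pows
  have h1 : ∀ g : G22, MulAut.conj g = 1 := fun g => MonoidHom.mem_ker.1 (h ▸ Subgroup.mem_top g)
  have h2 := MulEquiv.congr_fun (h1 ed) ea
  rw [MulAut.conj_apply, MulAut.one_apply, e_rels.1, show (3 : ℕ) = 2 + 1 from rfl, pow_succ, mul_eq_right] at h2
  have h11 := e_pows.1
  rw [show (11 : ℕ) = 2 * 5 + 1 from rfl, pow_succ, pow_mul, h2, one_pow, one_mul] at h11
  exact ea1 h11

/-- the hypothesis, unfolded at an element of order three -/
structure Setup (z : G) (Q N : Subgroup G) (x : G) : Prop where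
  ord : Ord z Q x
  core : Q = Cfsg.twoCoreOfCentralizer z
  extra : Cfsg.IsExtraspecial 2 ↥Q
  zord : orderOf z = 2
  QN : Q ≤ N
  cardN : Nat.card N = 3 * Nat.card Q
  xN : x ∈ N
  x1 : x ≠ 1
  le : ∀ n ∈ N, Commute n z
  quot : ∃ f : Subgroup.centralizer ({z} : Set G) →* MulAut G22, Function.Surjective f ∧
    ∀ c : Subgroup.centralizer ({z} : Set G), f c = 1 ↔ (c : G) ∈ N
  inv : ∃ n : G, Commute n z ∧ n * x * n⁻¹ = x⁻¹
  derived : x ∈ ⁅Subgroup.centralizer ({z} : Set G) ⊓ Subgroup.centralizer ({x} : Set G),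
    Subgroup.centralizer ({z} : Set G) ⊓ Subgroup.centralizer ({x} : Set G)⁆

theorem setup_of {z : G} {P : Subgroup G} (h : Cfsg.IsOfJankoFourTypeWith z P) :
    ∃ N x, Setup z (Cfsg.twoCoreOfCentralizer z) N x ∧ P = Subgroup.zpowers x := by
  obtain ⟨hz, hE, hc, hCE, ⟨N, hQN, hNC, -, hcN, ⟨hn, ⟨e⟩⟩, hPN⟩, hP, hfree, hne, hder⟩ := h
  set E := Cfsg.twoCoreOfCentralizer z with hEdef
  haveI : Fact (Nat.Prime 3) := ⟨Nat.prime_three⟩
  obtain ⟨⟨x, hxP⟩, hxo⟩ := exists_prime_orderOf_dvd_card' (G := P) 3 (dvd_of_eq hP.symm)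
  have hxo' : orderOf x = 3 := by rw [← hxo, ← Subgroup.orderOf_coe]
  have hPx : P = Subgroup.zpowers x := (Subgroup.eq_of_le_of_card_ge (Subgroup.zpowers_le.2 hxP)
    (by rw [Nat.card_zpowers, hxo', hP])).symm
  have hcP : Subgroup.centralizer (P : Set G) = Subgroup.centralizer ({x} : Set G) := by
    ext c
    rw [Subgroup.mem_centralizer_singleton_iff, Subgroup.mem_centralizer_iff]
    refine ⟨fun h' => (h' x hxP).symm, fun h' p hp => ?_⟩
    rw [hPx] at hp
    obtain ⟨k, rfl⟩ := hp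
    exact ((show Commute c x from h').zpow_right k).symm.eq
  let core : G → Subgroup G := fun y => Cfsg.twoCoreOfCentralizer y
  have hIC : Large.IsCoreMap core := fun _ => rfl
  have hlarge : Subgroup.centralizer ((E : Subgroup G) : Set G) ≤ E := by
    intro c hc'
    refine hCE ⟨Subgroup.mem_centralizer_singleton_iff.2 ?_, hc'⟩
    have hzE : z ∈ E := hCE ⟨Subgroup.mem_centralizer_singleton_iff.2 rfl,
      Subgroup.mem_centralizer_iff.2 fun q hq => Large.Q_commute hIC hq⟩
    exact (Subgroup.mem_centralizer_iff.1 hc' z hzE).symm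
  have S : Large.Setting core z := ⟨hIC, hz, hE, hlarge⟩
  have X : XT z E := S.xt
  have hnorm : ∀ c : G, Commute c z → ∀ q ∈ E, c * q * c⁻¹ ∈ E := fun c hc' q hq => Large.Q_conj_mem hIC hc' hq
  have hxz : Commute x z := Subgroup.mem_centralizer_singleton_iff.1 (hNC (hPN hxP))
  have hinner : ∀ c : G, Commute c z → (∀ q ∈ E, c * q * c⁻¹ = q ∨ c * q * c⁻¹ = q * z) → c ∈ E := by
    intro c hc' hq'
    let φ : E ≃* E :=
      { toFun := fun q => ⟨c * q * c⁻¹, hnorm c hc' q q.2⟩
        invFun := fun q => ⟨c⁻¹ * q * c, by simpa using hnorm c⁻¹ hc'.inv_left q q.2⟩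
        left_inv := fun q => Subtype.ext (show c⁻¹ * (c * q * c⁻¹) * c = (q : G) by group)
        right_inv := fun q => Subtype.ext (show c * (c⁻¹ * q * c) * c⁻¹ = (q : G) by group)
        map_mul' := fun a b => Subtype.ext (show c * (a * b) * c⁻¹ = c * a * c⁻¹ * (c * b * c⁻¹) by group) }
    have hφ : ∀ q : E, φ q * q⁻¹ ∈ Subgroup.center E := by
      intro q
      refine Subgroup.mem_center_iff.2 fun a => Subtype.ext ?_
      show (a : G) * (c * q * c⁻¹ * (q : G)⁻¹) = c * q * c⁻¹ * (q : G)⁻¹ * a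
      rcases hq' q q.2 with e' | e' <;> rw [e']
      · simp
      · rw [← (X.cen q q.2).eq, mul_inv_cancel_right]
        exact (X.cen a a.2).eq.symm
    obtain ⟨g', hg'⟩ := inner_of_central hE φ hφ
    have h1 : (g' : G)⁻¹ * c ∈ E := by
      refine hlarge (Subgroup.mem_centralizer_iff.2 fun q hq'' => ?_)
      have e' := congrArg Subtype.val (hg' ⟨q, hq''⟩)
      change c * q * c⁻¹ = (g' : G) * q * (g' : G)⁻¹ at e'
      refine (mul_inv_eq_iff_eq_mul.1 ?_).symm
      calc (g' : G)⁻¹ * c * q * ((g' : G)⁻¹ * c)⁻¹ = (g' : G)⁻¹ * (c * q * c⁻¹) * g' := by group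
        _ = q := by rw [e']; group
    simpa using mul_mem g'.2 h1
  have hcube : x ^ 3 = 1 := by rw [← hxo', pow_orderOf_eq_one]
  have hfree' : ∀ q ∈ E, Zc z q (x * q * x⁻¹) → Zc z 1 q := by
    intro q hq hq'
    rcases hq' with e' | e'
    · have hm : q ∈ E ⊓ Subgroup.centralizer (P : Set G) := ⟨hq, by
        show q ∈ Subgroup.centralizer (P : Set G)
        rw [hcP, Subgroup.mem_centralizer_singleton_iff]; exact (mul_inv_eq_iff_eq_mul.1 e').symm⟩
      rw [hfree] at hm
      obtain ⟨k, rfl⟩ := hm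
      obtain ⟨r, rfl | rfl⟩ := Int.even_or_odd' k
      · left
        show z ^ (2 * r) = 1
        rw [zpow_mul, zpow_two, X.sq, one_zpow]
      · right
        show z ^ (2 * r + 1) = 1 * z
        rw [zpow_add, zpow_mul, zpow_two, X.sq, one_zpow, zpow_one]
    · exfalso
      have h1 : x ^ 3 * q * (x ^ 3)⁻¹ = q * z := by
        calc x ^ 3 * q * (x ^ 3)⁻¹ = x * (x * (x * q * x⁻¹) * x⁻¹) * x⁻¹ := by
              rw [pow_succ, pow_two]; group
          _ = x * (x * (q * z) * x⁻¹) * x⁻¹ := by rw [e']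
          _ = x * (x * q * x⁻¹ * (x * z * x⁻¹)) * x⁻¹ := by group
          _ = x * q * x⁻¹ := by
            rw [e', hxz.eq, mul_inv_cancel_right, mul_assoc q, X.sq, mul_one]; exact e'
          _ = q * z := e'
      rw [hcube] at h1
      simp only [one_mul, inv_one, mul_one] at h1
      exact X.ne (mul_eq_left.1 h1.symm)
  refine ⟨N, x, ⟨⟨X, hnorm, hinner, hc, hxz, hcube, hfree'⟩, rfl, hE, hz, hQN, hcN, hPN hxP,
    fun e' => by rw [e', orderOf_one] at hxo'; omega, fun n hn' => Subgroup.mem_centralizer_singleton_iff.1 (hNC hn'),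
    ⟨e.toMonoidHom.comp (QuotientGroup.mk' _), e.surjective.comp (QuotientGroup.mk'_surjective _), fun c => ?_⟩,
    ?_, ?_⟩, hPx⟩
  · show e (QuotientGroup.mk c) = 1 ↔ _
    rw [MulEquiv.map_eq_one_iff, QuotientGroup.eq_one_iff, Subgroup.mem_subgroupOf]
  · obtain ⟨n, ⟨hnz, hnN⟩, hnC⟩ := SetLike.exists_of_lt (lt_of_le_of_ne
      (inf_le_inf_left _ fun c hc' => Subgroup.mem_normalizer_iff.2 fun p => by
        constructor
        · intro hp
          rwa [← Subgroup.mem_centralizer_iff.1 hc' p hp, mul_inv_cancel_right]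
        · intro hp
          have := Subgroup.mem_centralizer_iff.1 (inv_mem hc' : c⁻¹ ∈ Subgroup.centralizer (P : Set G)) _ hp
          rw [show c * p * c⁻¹ * c⁻¹ = c * p * c⁻¹ * c⁻¹ from rfl] at this
          have h2 : c⁻¹ * (c * p * c⁻¹) = c * p * c⁻¹ * c⁻¹ := this.symm
          rw [show c⁻¹ * (c * p * c⁻¹) = p * c⁻¹ by group] at h2
          rw [mul_right_cancel h2]; exact hp) (Ne.symm hne))
    have hnz' : Commute n z := Subgroup.mem_centralizer_singleton_iff.1 hnz
    refine ⟨n, hnz', ?_⟩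
    obtain ⟨k, hk⟩ := (mem_powers_iff_mem_zpowers (x := x)).2 (hPx ▸ (Subgroup.mem_normalizer_iff.1 hnN x).1 hxP)
    have hk' : x ^ (k % 3) = n * x * n⁻¹ := by rw [← hxo', pow_mod_orderOf]; exact hk
    rcases (by omega : k % 3 = 0 ∨ k % 3 = 1 ∨ k % 3 = 2) with e' | e' | e' <;> rw [e'] at hk'
    · rw [pow_zero] at hk'
      rw [conj_eq_one_iff.1 hk'.symm, orderOf_one] at hxo'
      omega
    · refine absurd ⟨hnz, ?_⟩ hnC
      show n ∈ Subgroup.centralizer (P : Set G)
      rw [hcP, Subgroup.mem_centralizer_singleton_iff]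
      exact mul_inv_eq_iff_eq_mul.1 (hk'.symm.trans (pow_one x))
    · rw [← hk']
      exact (inv_eq_of_mul_eq_one_right (by rw [← pow_succ', hcube])).symm
  · rw [← hcP]; exact hder hxP

/-- coordinates with the image of the centraliser -/
structure Frame (z : G) (Q : Subgroup G) (x : G) where
  /-- coordinates -/
  vec : G → V6
  /-- the action -/
  π : Subgroup.centralizer ({z} : Set G) →* PV
  vec_mul : ∀ a ∈ Q, ∀ b ∈ Q, vec (a * b) = vec a + vec b
  vec_surj : ∀ v, ∃ a ∈ Q, vec a = v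
  vec_eq : ∀ a ∈ Q, ∀ b ∈ Q, (vec a = vec b ↔ Zc z a b)
  sq_iff : ∀ a ∈ Q, (a * a = 1 ↔ herm (vec a) (vec a) = 0)
  vec_conj : ∀ (c : Subgroup.centralizer ({z} : Set G)), ∀ a ∈ Q, vec ((c : G) * a * (c : G)⁻¹) = π c (vec a)
  ker : ∀ c : Subgroup.centralizer ({z} : Set G), π c = 1 ↔ (c : G) ∈ Q
  pi_x : ∀ c : Subgroup.centralizer ({z} : Set G), (c : G) = x → π c = gW
  mem_Kp : ∀ c : Subgroup.centralizer ({z} : Set G), π c ∈ Kp ↔ Commute (π c) gW
  range : ∀ p : PV, p ∈ Gam ↔ ∃ c, π c = p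
  mdl : Mdl

variable {z : G} {Q N : Subgroup G} {x : G}

theorem Setup.exists_frame (S : Setup z Q N x) : Nonempty (Frame z Q x) := by
  obtain ⟨vec, C⟩ := S.ord.exists_Coord
  obtain ⟨f, hfs, hfk⟩ := S.quot
  set o := S.ord
  set π := C.rep o with hπ
  have hxC : x ∈ Subgroup.centralizer ({z} : Set G) := Subgroup.mem_centralizer_singleton_iff.2 o.xz
  set xC : Subgroup.centralizer ({z} : Set G) := ⟨x, hxC⟩
  have hπx : ∀ c : Subgroup.centralizer ({z} : Set G), (c : G) = x → π c = gW := fun c hc =>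
    Equiv.ext fun v => by rw [C.xc_rep o c hc, gW_apply]
  -- the middle subgroup
  set NC := N.subgroupOf (Subgroup.centralizer ({z} : Set G)) with hNC
  haveI : Fact (Nat.Prime 3) := ⟨Nat.prime_three⟩
  have hπN : NC.map π = Subgroup.zpowers gW := by
    refine (Subgroup.eq_of_le_of_card_ge (Subgroup.zpowers_le.2 (Subgroup.mem_map.2 ⟨xC, S.xN, hπx xC rfl⟩)) ?_).symm
    rw [Nat.card_zpowers, orderOf_eq_prime gW_facts.1 gW_facts.2]
    have h1 := Subgroup.card_eq_card_quotient_mul_card_subgroup ((π.comp NC.subtype).ker)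
    rw [Nat.card_congr (QuotientGroup.quotientKerEquivRange _).toEquiv, MonoidHom.range_comp,
      Subgroup.range_subtype, hNC,
      Nat.card_congr (Subgroup.subgroupOfEquivOfLe (show N ≤ Subgroup.centralizer ({z} : Set G) from
        fun n hn => Subgroup.mem_centralizer_singleton_iff.2 (S.le n hn))).toEquiv, S.cardN] at h1
    have h2 : Nat.card Q ≤ Nat.card ((π.comp NC.subtype).ker) := by
      refine Nat.card_le_card_of_injective
        (fun q : Q => (⟨⟨⟨q, Subgroup.mem_centralizer_singleton_iff.2 (o.qz q.2)⟩, S.QN q.2⟩,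
          MonoidHom.mem_ker.2 ((C.rep_ker o _).2 q.2)⟩ : (π.comp NC.subtype).ker))
        fun a b e => Subtype.ext (congrArg (fun t : (π.comp NC.subtype).ker => ((t.1.1 : Subgroup.centralizer ({z} : Set G)) : G)) e)
    have h3 : 0 < Nat.card Q := Nat.card_pos
    by_contra hh
    push Not at hh
    have := Nat.mul_le_mul_left (Nat.card (NC.map π)) h2
    nlinarith
  have hNmem : ∀ c : Subgroup.centralizer ({z} : Set G), (c : G) ∈ N ↔ π c ∈ Subgroup.zpowers gW := by
    intro c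
    constructor
    · intro hc; rw [← hπN]; exact ⟨c, hc, rfl⟩
    · intro hc
      rw [← hπN] at hc
      obtain ⟨n, hn, e⟩ := hc
      have h2 : π (n⁻¹ * c) = 1 := by rw [map_mul, map_inv, e, inv_mul_cancel]
      have := mul_mem (show (n : G) ∈ N from hn) (S.QN ((C.rep_ker o _).1 h2))
      simpa using this
  haveI hNn : NC.Normal := by
    have e : NC = f.ker := Subgroup.ext fun c => (hfk c).symm
    rw [e]; infer_instance
  have hwc : ∀ c : Subgroup.centralizer ({z} : Set G), ¬ Commute (π c) gW → π c * gW * (π c)⁻¹ = gW * gW := by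
    intro c hc
    have h1 : π (c * xC * c⁻¹) ∈ Subgroup.zpowers gW := (hNmem _).1 (hNn.conj_mem xC S.xN c)
    rw [map_mul, map_mul, map_inv, hπx xC rfl] at h1
    rcases gW_cases h1 with e | e | e
    · exact absurd (conj_eq_one_iff.1 e) gW_facts.2
    · exact absurd (mul_inv_eq_iff_eq_mul.1 e) hc
    · exact e
  set M := (Subgroup.centralizer ({gW} : Set PV)).comap π with hMdef
  have hMmem : ∀ c, c ∈ M ↔ Commute (π c) gW := fun c => Subgroup.mem_centralizer_singleton_iff
  obtain ⟨n0, hn0z, hn0x⟩ := S.inv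
  set n : Subgroup.centralizer ({z} : Set G) := ⟨n0, Subgroup.mem_centralizer_singleton_iff.2 hn0z⟩
  have hnw : π n * gW * (π n)⁻¹ = gW⁻¹ := by
    rw [← hπx xC rfl, ← map_inv, ← map_inv, ← map_mul, ← map_mul]
    exact congrArg π (Subtype.ext hn0x)
  have hnM : n ∉ M := fun h => by
    rw [hMmem] at h
    rw [h.eq, mul_inv_cancel_right, eq_inv_iff_mul_eq_one, ← pow_two] at hnw
    have := gW_facts.1
    rw [pow_succ, hnw, one_mul] at this
    exact gW_facts.2 this
  have hMi : M.index = 2 := by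
    rw [Subgroup.index_eq_two_iff]
    refine ⟨n, fun b => ?_⟩
    simp only [hMmem]
    by_cases hb : Commute (π b) gW
    · refine Or.inr ⟨hb, fun h => hnM ((hMmem n).2 ?_)⟩
      rw [map_mul] at h
      have := hb.inv_left.mul_left h
      rwa [inv_mul_cancel_left] at this
    · refine Or.inl ⟨?_, hb⟩
      have e1 := hwc b hb
      have e2 : π n * gW * (π n)⁻¹ = gW * gW := hwc n fun h => hnM ((hMmem n).2 h)
      rw [map_mul]
      refine mul_inv_eq_iff_eq_mul.1 ?_
      calc π b * π n * gW * (π b * π n)⁻¹ = π b * (π n * gW * (π n)⁻¹) * (π b)⁻¹ := by group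
        _ = (π b * gW * (π b)⁻¹) * (π b * gW * (π b)⁻¹) := by rw [e2]; group
        _ = gW := by
          rw [e1, show gW * gW * (gW * gW) = gW ^ 3 * gW by rw [pow_succ, pow_two]; group, gW_facts.1, one_mul]
  have hNM : NC ≤ M := fun c hc => (hMmem c).2 (by
    obtain ⟨k, hk⟩ := (hNmem c).1 hc
    rw [← show gW ^ k = π c from hk]
    exact (Commute.refl gW).zpow_left k)
  have hfM : M.map f = Cfsg.Inn G22 := by
    haveI := simple_G22
    have hi : (M.map f).index = 2 := by
      rw [Subgroup.index_map, MonoidHom.range_eq_top.2 hfs, Subgroup.index_top, mul_one,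
        show f.ker = NC from Subgroup.ext fun c => hfk c, sup_eq_left.2 hNM, hMi]
    haveI := Subgroup.normal_of_index_eq_two hi
    have hle : Cfsg.Inn G22 ≤ M.map f := by
      rintro _ ⟨g, rfl⟩
      have htop : (M.map f).comap (MulAut.conj : G22 →* MulAut G22) = ⊤ := by
        refine (IsSimpleGroup.eq_bot_or_eq_top_of_normal _ inferInstance).resolve_left fun hb => ?_
        have hinj : Function.Injective ((QuotientGroup.mk' (M.map f)).comp (MulAut.conj : G22 →* MulAut G22)) := by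
          refine (MonoidHom.ker_eq_bot_iff _).1 ?_
          rw [← MonoidHom.comap_ker, QuotientGroup.ker_mk', hb]
        have := Nat.card_le_card_of_injective _ hinj
        rw [← Subgroup.index_eq_card, hi, Local.FS.Mathieu.card_m22] at this
        omega
      exact Subgroup.mem_comap.1 (htop ▸ Subgroup.mem_top g)
    refine (Subgroup.eq_of_le_of_card_ge hle ?_).symm
    have h1 := Subgroup.card_mul_index (M.map f)
    have h2 := Subgroup.card_mul_index (Cfsg.Inn G22)
    rw [hi] at h1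
    rw [show (Cfsg.Inn G22).index = 2 from MathieuOutTwo.card_out_M22] at h2
    omega
  let ι : G22 ≃* Cfsg.Inn G22 := MonoidHom.ofInjective conj_inj22
  let g : M →* G22 := ι.symm.toMonoidHom.comp
    ((f.comp M.subtype).codRestrict (Cfsg.Inn G22) fun m => hfM ▸ ⟨m, m.2, rfl⟩)
  have hgs : Function.Surjective g := by
    intro y
    obtain ⟨m, hm, e⟩ : MulAut.conj y ∈ M.map f := hfM.symm ▸ ⟨y, rfl⟩
    refine ⟨⟨m, hm⟩, ?_⟩
    show ι.symm ⟨f m, _⟩ = y
    rw [MulEquiv.symm_apply_eq]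
    exact Subtype.ext e
  have hgk : ∀ m : M, g m = 1 ↔ ((m : Subgroup.centralizer ({z} : Set G)) : G) ∈ N := by
    intro m
    show ι.symm ⟨f m, _⟩ = 1 ↔ _
    rw [MulEquiv.map_eq_one_iff, ← hfk m]
    exact ⟨fun h => congrArg Subtype.val h, fun h => Subtype.ext h⟩
  let P : M →* M.map π := π.subgroupMap M
  have hP : ∀ m : M, ((P m : M.map π) : PV) = π m := fun _ => rfl
  have hPs : Function.Surjective P := π.subgroupMap_surjective M
  let ψ : M.map π →* G22 := MonoidHom.liftOfSurjective P hPs ⟨g, fun m hm => by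
    rw [MonoidHom.mem_ker, hgk, hNmem]
    have : π m = 1 := congrArg Subtype.val (MonoidHom.mem_ker.1 hm)
    rw [this]; exact one_mem _⟩
  have hψ : ∀ m, ψ (P m) = g m := fun m => MonoidHom.liftOfRightInverse_comp_apply _ _ _ _ _
  have hrel : ∀ c ∈ M, (c : G) * x * (c : G)⁻¹ * x⁻¹ ∈ Q := by
    intro c hc
    have h1 : π (c * xC * c⁻¹ * xC⁻¹) = 1 := by
      rw [map_mul, map_mul, map_mul, map_inv, map_inv, hπx xC rfl, ((hMmem c).1 hc).eq, mul_inv_cancel_right,
        mul_inv_cancel]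
    exact (C.rep_ker o _).1 h1
  have hlin : M.map π ≤ LinG := by
    rintro _ ⟨c, hc, rfl⟩
    exact ⟨C.rep_add o c, C.rep_w o c (hrel c hc), C.rep_q o c⟩
  have hO : Onto (M.map π) ψ := ⟨fun y => by obtain ⟨m, rfl⟩ := hgs y; exact ⟨P m, hψ m⟩,
    ⟨xC, hNM S.xN, hπx xC rfl⟩, fun k => by
      obtain ⟨m, rfl⟩ := hPs k
      rw [hψ, hgk, hNmem, hP]⟩
  obtain ⟨⟨B, hB, hBK⟩, hmdl⟩ := model_unique hlin hO
  set C' := C.transform hB
  have hrep : ∀ c, C'.rep o c = B * π c * B⁻¹ := fun c => C'.rep_ext o c fun a ha => by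
    show B (vec _) = B (π c (B⁻¹ (B (vec a))))
    rw [show B⁻¹ (B (vec a)) = vec a from B.symm_apply_apply _, hπ, C.rep_vec o c ha]
  have hsur : ∀ p ∈ Kp, ∃ c ∈ M, C'.rep o c = p := by
    intro p hp
    rw [← hBK] at hp
    obtain ⟨_, ⟨c, hc, rfl⟩, e⟩ := hp
    exact ⟨c, hc, (hrep c).trans e⟩
  have hin : ∀ c ∈ M, C'.rep o c ∈ Kp := fun c hc => by
    rw [hrep, ← hBK]; exact ⟨π c, ⟨c, hc, rfl⟩, rfl⟩
  have hout : ∀ c ∉ M, C'.rep o c ∉ Kp := by
    intro c hc h
    have h1 := (gW_comm (Kp_le_LinG h)).symm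
    rw [hrep] at h1
    have h2 : Commute (B⁻¹ * (B * π c * B⁻¹) * B) (B⁻¹ * gW * B) := by
      have := (Commute.conj_iff B⁻¹).2 h1
      rwa [inv_inv] at this
    rw [show B⁻¹ * (B * π c * B⁻¹) * B = π c by group,
      show B⁻¹ * gW * B = gW by rw [mul_assoc, (gW_comm hB).eq, inv_mul_cancel_left]] at h2
    exact hc ((hMmem c).2 h2)
  -- the outer element
  set h := C'.rep o n with hh
  have hsemi : ∀ v, h (F4.w • v) = F4.v • h v := by
    intro v
    have e1 : h * C'.rep o xC * h⁻¹ = (C'.rep o xC)⁻¹ := by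
      rw [hh, ← map_inv, ← map_inv, ← map_mul, ← map_mul]
      exact congrArg _ (Subtype.ext hn0x)
    have e2 : C'.rep o xC = gW := Equiv.ext fun u => by rw [C'.xc_rep o xC rfl, gW_apply]
    rw [e2, mul_inv_eq_iff_eq_mul] at e1
    have e3 : gW⁻¹ = gW * gW := inv_eq_of_mul_eq_one_right (by
      rw [show gW * (gW * gW) = gW ^ 3 by rw [pow_succ, pow_two]; group]; exact gW_facts.1)
    rw [e3] at e1
    have := Equiv.congr_fun e1 v
    rw [Equiv.Perm.mul_apply, Equiv.Perm.mul_apply, Equiv.Perm.mul_apply, gW_apply, gW_apply, gW_apply,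
      smul_smul] at this
    exact this
  have hh2 : ∀ v, h (F4.v • v) = F4.w • h v := by
    intro v
    rw [show (F4.v : F4) = F4.w * F4.w from rfl, mul_smul, hsemi, hsemi, smul_smul]
    rfl
  have hehL : Lin (eo * h) := by
    refine ⟨(gP_spec 4).1.mul (C'.rep_add o n), fun v => ?_, fun v => ?_⟩
    · rw [Equiv.Perm.mul_apply, hsemi, Equiv.Perm.mul_apply, show (F4.v : F4) = F4.w * F4.w from rfl, mul_smul,
        eo_smul, eo_smul, smul_smul]
      rfl
    · rw [Equiv.Perm.mul_apply, eo_form, C'.rep_q o n]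
  haveI hMn : M.Normal := Subgroup.normal_of_index_eq_two hMi
  have hhK : eo * h ∈ Kp := by
    refine norm_lin hmdl hehL fun p hp => ?_
    obtain ⟨c, hc, rfl⟩ := hsur p hp
    rw [show eo * h * C'.rep o c * (eo * h)⁻¹ = eo * (h * C'.rep o c * h⁻¹) * eo⁻¹ by group]
    refine outer_normalizes ?_
    rw [hh, ← map_inv, ← map_mul, ← map_mul]
    exact hin _ (hMn.conj_mem c hc n)
  refine ⟨⟨fun a => B (vec a), C'.rep o, C'.mul, C'.surj, C'.eq_iff, fun q hq => C'.sq_iff o hq,
    fun c q hq => (C'.rep_vec o c hq).symm, C'.rep_ker o, fun c hc => Equiv.ext fun v => by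
      rw [C'.xc_rep o c hc, gW_apply], fun c => ⟨fun h' => (gW_comm (Kp_le_LinG h')).symm, fun h' => ?_⟩,
    fun p => ⟨fun hp => ?_, ?_⟩, hmdl⟩⟩
  · by_contra hc
    have hcM : c ∉ M := fun hm => hc (hin c hm)
    have := (Commute.conj_iff B⁻¹).2 h'
    rw [inv_inv, hrep, show B⁻¹ * (B * π c * B⁻¹) * B = π c by group,
      show B⁻¹ * gW * B = gW by rw [mul_assoc, (gW_comm hB).eq, inv_mul_cancel_left]] at this
    exact hcM ((hMmem c).2 this)
  · rcases hp with hp | hp
    · obtain ⟨c, -, e⟩ := hsur p hp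
      exact ⟨c, e⟩
    · obtain ⟨c, -, e⟩ := hsur _ (mul_mem (inv_mem hhK) hp)
      refine ⟨n * c, ?_⟩
      rw [map_mul, e, ← hh]
      group
  · rintro ⟨c, rfl⟩
    by_cases hc : c ∈ M
    · exact Or.inl (hin c hc)
    · refine Or.inr ?_
      have h1 : n⁻¹ * c ∈ M := (Subgroup.mul_mem_iff_of_index_two hMi).2
        (iff_of_false (fun h => hnM (inv_mem_iff.1 h)) hc)
      have h2 := mul_mem hhK (hin _ h1)
      rwa [map_mul, map_inv, ← hh, mul_assoc, mul_inv_cancel_left] at h2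

end Cfsg.Agent.Spor.JFour
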