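import Cfsg.Agent.Lib.Spor.JFourBridgeForm
import Cfsg.Agent.Lib.Spor.JFourFrame
import Cfsg.Agent.Lib.Solv.Extraspecial
import Cfsg.Agent.Lib.Fusion.Cores

/-!
From an involution centraliser with a chain extraspecial, order three, M22, index two to the Janko four type: the
element of order three has no fixed vectors, and the outer elements invert it.
-/

set_option autoImplicit false
set_option maxRecDepth 100000
set_option linter.unusedSectionVars false
set_option linter.style.haveILetI false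

namespace Cfsg.Agent.Spor.JFour.Bridge

open scoped commutatorElement Pointwise
open Cfsg.Agent.Spor.SUSix (V6)
open Cfsg.Agent.Spor.SpFour (F4)

local notation "G22" => Subtype (fun x => x ∈ Cfsg.Spor.M22)

universe u

variable {G : Type u} [Group G] [Finite G] {t : G}

/-- the hypotheses on the chain in the centraliser -/
structure Chain (t : G) (Q N M : Subgroup (Subgroup.centralizer ({t} : Set G))) : Prop where
  ord : orderOf t = 2
  qn : Q.Normal
  nn : N.Normal
  mn : M.Normal
  QN : Q ≤ N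
  NM : N ≤ M
  index : M.index = 2
  extra : Cfsg.IsExtraspecial 2 Q
  cardQ : Nat.card Q = 2 ^ 13
  cardN : Nat.card N = 3 * Nat.card Q
  cent : ⁅M, N⁆ ≤ Q
  perf : M ≤ ⁅M, M⁆ ⊔ Q
  self : Subgroup.centralizer (Q : Set (Subgroup.centralizer ({t} : Set G))) ≤ Q
  outer : ∀ c : Subgroup.centralizer ({t} : Set G), (∀ m ∈ M, c * m * c⁻¹ * m⁻¹ ∈ N) → c ∈ M

variable {Q N M : Subgroup (Subgroup.centralizer ({t} : Set G))}

/-- the involution in its centraliser -/
def tC (t : G) : Subgroup.centralizer ({t} : Set G) := ⟨t, Subgroup.mem_centralizer_singleton_iff.2 rfl⟩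

theorem Chain.tC_facts (H : Chain t Q N M) : (tC t : Subgroup.centralizer ({t} : Set G)) ∈ Q ∧ tC t ≠ 1 ∧
    tC t * tC t = 1 ∧ ∀ c : Subgroup.centralizer ({t} : Set G), Commute (tC t) c := by
  have hc : ∀ c : Subgroup.centralizer ({t} : Set G), Commute (tC t) c := fun c =>
    Subtype.ext (Subgroup.mem_centralizer_singleton_iff.1 c.2 : (c : G) * t = t * c).symm
  have h1 : t ≠ 1 := fun e => by have := H.ord; rw [e, orderOf_one] at this; norm_num at this
  have h2 : t * t = 1 := by rw [← pow_two, ← H.ord]; exact pow_orderOf_eq_one t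
  exact ⟨H.self (Subgroup.mem_centralizer_iff.2 fun q _ => (hc q).symm), fun e => h1 (congrArg Subtype.val e),
    Subtype.ext h2, hc⟩

theorem Chain.center_two (H : Chain t Q N M) (q : Q) (hq : q ∈ Subgroup.center Q) :
    (q : Subgroup.centralizer ({t} : Set G)) = 1 ∨ (q : Subgroup.centralizer ({t} : Set G)) = tC t := by
  obtain ⟨hm, h1, -, hc⟩ := H.tC_facts
  obtain ⟨w, -, hw⟩ := (Nat.card_eq_two_iff' (1 : Subgroup.center Q)).1 H.extra.2
  have hz : (⟨tC t, hm⟩ : Q) ∈ Subgroup.center Q := Subgroup.mem_center_iff.2 fun a => Subtype.ext (hc a).symm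
  by_cases e : q = 1
  · exact Or.inl (congrArg Subtype.val e)
  · refine Or.inr ?_
    have e1 := hw ⟨q, hq⟩ fun e' => e (congrArg Subtype.val e')
    have e2 := hw ⟨_, hz⟩ fun e' => h1 (congrArg Subtype.val (congrArg Subtype.val e'))
    exact congrArg Subtype.val (congrArg Subtype.val (e1.trans e2.symm))

theorem Chain.exists_three (H : Chain t Q N M) : ∃ x ∈ N, x ∉ Q ∧ x ^ 3 = 1 ∧ x ≠ 1 := by
  haveI : Fact (Nat.Prime 3) := ⟨Nat.prime_three⟩
  obtain ⟨⟨x, hxN⟩, hx⟩ := exists_prime_orderOf_dvd_card' (G := N) 3 (by rw [H.cardN]; exact Dvd.intro _ rfl)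
  have hxo : orderOf x = 3 := (Subgroup.orderOf_coe (⟨x, hxN⟩ : N)).trans hx
  refine ⟨x, hxN, fun hxQ => ?_, by rw [← hxo]; exact pow_orderOf_eq_one x, fun e => by
    rw [e, orderOf_one] at hxo; norm_num at hxo⟩
  have h := Subgroup.orderOf_dvd_natCard Q hxQ
  rw [hxo, H.cardQ] at h
  norm_num at h

variable {x : Subgroup.centralizer ({t} : Set G)}

theorem Chain.N_dec (H : Chain t Q N M) (hxN : x ∈ N) (hxQ : x ∉ Q) (hx3 : x ^ 3 = 1)
    {n : Subgroup.centralizer ({t} : Set G)} (hn : n ∈ N) : ∃ i < 3, n * (x ^ i)⁻¹ ∈ Q := by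
  haveI := H.qn
  let f : Q × Fin 3 → N := fun p => ⟨(p.1 : Subgroup.centralizer ({t} : Set G)) * x ^ p.2.val,
    mul_mem (H.QN p.1.2) (pow_mem hxN _)⟩
  have hinj : Function.Injective f := by
    rintro ⟨a, i⟩ ⟨b, j⟩ e
    have e' : (a : Subgroup.centralizer ({t} : Set G)) * x ^ i.val = b * x ^ j.val := congrArg Subtype.val e
    obtain rfl : i = j := by
      by_contra hij
      have key : ∀ u v : ℕ, u < v → v < 3 → ∀ a b : Q,
          (a : Subgroup.centralizer ({t} : Set G)) * x ^ u = b * x ^ v → False := by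
        intro u v huv hv a b e'
        have hm : x ^ (v - u) ∈ Q := by
          have e2 : x ^ (v - u) = (b : Subgroup.centralizer ({t} : Set G))⁻¹ * a := by
            rw [eq_inv_mul_iff_mul_eq]
            refine mul_right_cancel (b := x ^ u) ?_
            rw [mul_assoc, ← pow_add, Nat.sub_add_cancel huv.le]
            exact e'.symm
          rw [e2]; exact mul_mem (inv_mem b.2) a.2
        refine hxQ ?_
        rcases (show v - u = 1 ∨ v - u = 2 by omega) with h | h <;> rw [h] at hm
        · rwa [pow_one] at hm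
        · have := mul_mem hm hm
          rwa [← pow_add, show 2 + 2 = 3 + 1 from rfl, pow_succ, hx3, one_mul] at this
      rcases Nat.lt_or_gt_of_ne (fun h => hij (Fin.ext h)) with h | h
      · exact key _ _ h j.2 a b e'
      · exact key _ _ h i.2 b a e'.symm
    exact Prod.ext (Subtype.ext (mul_right_cancel e')) rfl
  obtain ⟨⟨a, i⟩, e⟩ := ((Nat.bijective_iff_injective_and_card f).2
    ⟨hinj, by rw [Nat.card_prod, Nat.card_fin, H.cardN, mul_comm]⟩).2 ⟨n, hn⟩
  refine ⟨i.val, i.2, ?_⟩
  rw [← show (a : Subgroup.centralizer ({t} : Set G)) * x ^ i.val = n from congrArg Subtype.val e,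
    mul_inv_cancel_right]
  exact a.2

theorem Chain.commM (H : Chain t Q N M) (hxN : x ∈ N) {m : Subgroup.centralizer ({t} : Set G)} (hm : m ∈ M) :
    m * x * m⁻¹ * x⁻¹ ∈ Q := H.cent (Subgroup.commutator_mem_commutator hm hxN)

/-- an element of order three of the middle subgroup is conjugate to a power -/
theorem Chain.conj_pow (H : Chain t Q N M) (hxN : x ∈ N) (hxQ : x ∉ Q) (hx3 : x ^ 3 = 1) {y : Subgroup.centralizer ({t} : Set G)}
    (hy : y ∈ N) (hy3 : y ^ 3 = 1) : ∃ n ∈ N, ∃ i < 3, n * y * n⁻¹ = x ^ i := by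
  haveI : Fact (Nat.Prime 3) := ⟨Nat.prime_three⟩
  have hx1 : x ≠ 1 := fun e => hxQ (e ▸ one_mem Q)
  have hP : IsPGroup 3 (Subgroup.zpowers (⟨x, hxN⟩ : N)) := IsPGroup.of_card (n := 1) (by
    rw [Nat.card_zpowers, ← Subgroup.orderOf_coe, pow_one]; exact orderOf_eq_prime hx3 hx1)
  have hidx : ¬ 3 ∣ (Subgroup.zpowers (⟨x, hxN⟩ : N)).index := by
    intro h
    have h1 := (Subgroup.zpowers (⟨x, hxN⟩ : N)).card_mul_index
    rw [Nat.card_zpowers, ← Subgroup.orderOf_coe, orderOf_eq_prime hx3 hx1, H.cardN, H.cardQ] at h1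
    obtain ⟨k, hk⟩ := h
    rw [hk] at h1
    omega
  let S : Sylow 3 N := hP.toSylow hidx
  have hy' : IsPGroup 3 (Subgroup.zpowers (⟨y, hy⟩ : N)) := fun ⟨g, k, hk⟩ => ⟨1, Subtype.ext (by
    show g ^ 3 ^ 1 = 1
    rw [← hk]
    show ((⟨y, hy⟩ : N) ^ k) ^ 3 ^ 1 = 1
    rw [pow_one, ← zpow_natCast, ← zpow_mul, mul_comm, zpow_mul, zpow_natCast,
      show (⟨y, hy⟩ : N) ^ 3 = 1 from Subtype.ext hy3, one_zpow])⟩
  obtain ⟨T, hT⟩ := hy'.exists_le_sylow
  obtain ⟨n, hn⟩ := MulAction.exists_smul_eq N T S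
  have hmem : n * ⟨y, hy⟩ * n⁻¹ ∈ Subgroup.zpowers (⟨x, hxN⟩ : N) := by
    have h := Subgroup.smul_mem_pointwise_smul (⟨y, hy⟩ : N) (MulAut.conj n) T (hT (Subgroup.mem_zpowers _))
    rw [show MulAut.conj n • (T : Subgroup N) = (S : Subgroup N) by rw [← hn]; rfl] at h
    exact h
  obtain ⟨k, hk⟩ := (mem_powers_iff_mem_zpowers (x := (⟨x, hxN⟩ : N))).2 hmem
  refine ⟨n, n.2, k % 3, Nat.mod_lt _ (by norm_num), ?_⟩
  rw [← orderOf_eq_prime hx3 hx1, pow_mod_orderOf]
  exact (congrArg Subtype.val hk).symm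

/-! ### the action on the extraspecial subgroup modulo its centre -/

/-- the quotient by the centre is commutative -/
@[instance_reducible] noncomputable def quotComm (H : Chain t Q N M) : CommGroup (Q ⧸ Subgroup.center Q) :=
  { (inferInstance : Group (Q ⧸ Subgroup.center Q)) with
    mul_comm := fun a b => by
      induction a using QuotientGroup.induction_on with | _ a => ?_
      induction b using QuotientGroup.induction_on with | _ b => ?_
      rw [← QuotientGroup.mk_mul, ← QuotientGroup.mk_mul, QuotientGroup.eq, ← H.extra.1.2.2, commutator_def,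
        show (a * b)⁻¹ * (b * a) = ⁅b⁻¹, a⁻¹⁆ by rw [commutatorElement_def]; group]
      exact Subgroup.commutator_mem_commutator (Subgroup.mem_top _) (Subgroup.mem_top _) }

/-- the action of the centraliser on the quotient -/
noncomputable def actQ [Q.Normal] (c : Subgroup.centralizer ({t} : Set G)) :
    Q ⧸ Subgroup.center Q →* Q ⧸ Subgroup.center Q :=
  QuotientGroup.map (Subgroup.center Q) (Subgroup.center Q) (MulAut.conjNormal (H := Q) c).toMonoidHom
    fun q hq => Subgroup.mem_center_iff.2 fun a => by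
      have h := congrArg (MulAut.conjNormal (H := Q) c)
        (Subgroup.mem_center_iff.1 hq ((MulAut.conjNormal (H := Q) c).symm a))
      rw [map_mul, map_mul, MulEquiv.apply_symm_apply] at h
      exact h

theorem actQ_mk [Q.Normal] (c : Subgroup.centralizer ({t} : Set G)) (q : Q) :
    actQ c (q : Q ⧸ Subgroup.center Q) = ((MulAut.conjNormal (H := Q) c q : Q) : Q ⧸ Subgroup.center Q) := rfl

theorem actQ_mul [Q.Normal] (c d : Subgroup.centralizer ({t} : Set G)) (v : Q ⧸ Subgroup.center Q) :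
    actQ (c * d) v = actQ c (actQ d v) := by
  induction v using QuotientGroup.induction_on with | _ v => ?_
  rw [actQ_mk, actQ_mk, actQ_mk, map_mul]
  rfl

theorem actQ_one [Q.Normal] (v : Q ⧸ Subgroup.center Q) : actQ (1 : Subgroup.centralizer ({t} : Set G)) v = v := by
  induction v using QuotientGroup.induction_on with | _ v => ?_
  rw [actQ_mk, map_one]
  rfl

theorem Chain.actQ_eq_id (H : Chain t Q N M) [Q.Normal] {c : Subgroup.centralizer ({t} : Set G)} :
    (∀ v, actQ c v = (v : Q ⧸ Subgroup.center Q)) ↔ c ∈ Q := by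
  constructor
  · intro h
    obtain ⟨g, hg⟩ := inner_of_central H.extra (MulAut.conjNormal (H := Q) c) fun q => by
      have e := h q
      rw [actQ_mk, QuotientGroup.eq_iff_div_mem, div_eq_mul_inv] at e
      exact e
    have h1 : (g : Subgroup.centralizer ({t} : Set G))⁻¹ * c ∈ Q := by
      refine H.self (Subgroup.mem_centralizer_iff.2 fun q hq => (mul_inv_eq_iff_eq_mul.1 ?_).symm)
      have e := congrArg Subtype.val (hg ⟨q, hq⟩)
      rw [MulAut.conjNormal_apply] at e
      simp only [Subgroup.coe_mul, InvMemClass.coe_inv] at e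
      calc (g : Subgroup.centralizer ({t} : Set G))⁻¹ * c * q * ((g : Subgroup.centralizer ({t} : Set G))⁻¹ * c)⁻¹
          = (g : Subgroup.centralizer ({t} : Set G))⁻¹ * (c * q * c⁻¹) * g := by group
        _ = q := by rw [e]; group
    simpa using mul_mem g.2 h1
  · intro hc v
    induction v using QuotientGroup.induction_on with | _ v => ?_
    rw [actQ_mk, QuotientGroup.eq_iff_div_mem, div_eq_mul_inv, ← H.extra.1.2.2, commutator_def,
      show MulAut.conjNormal (H := Q) c v * v⁻¹ = ⁅(⟨c, hc⟩ : Q), v⁆ from Subtype.ext (by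
        simp [MulAut.conjNormal_apply, commutatorElement_def])]
    exact Subgroup.commutator_mem_commutator (Subgroup.mem_top _) (Subgroup.mem_top _)

theorem Chain.actQ_congr (H : Chain t Q N M) [Q.Normal] {c d : Subgroup.centralizer ({t} : Set G)}
    (h : c * d⁻¹ ∈ Q) (v : Q ⧸ Subgroup.center Q) : actQ c v = actQ d v := by
  rw [show c = c * d⁻¹ * d by group, actQ_mul, (H.actQ_eq_id).2 h]

theorem comm_quot (H : Chain t Q N M) {a a' b b' : Q} (ha : (a : Q ⧸ Subgroup.center Q) = a')
    (hb : (b : Q ⧸ Subgroup.center Q) = b') : ⁅a, b⁆ = ⁅a', b'⁆ := by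
  rw [QuotientGroup.eq] at ha hb
  rw [show a' = a * (a⁻¹ * a') by group, show b' = b * (b⁻¹ * b') by group]
  generalize a⁻¹ * a' = u at ha
  generalize b⁻¹ * b' = w at hb
  have hl : ∀ a u b : Q, u ∈ Subgroup.center Q → ⁅a * u, b⁆ = ⁅a, b⁆ := fun a u b hu => by
    have e : ⁅u, b⁆ = 1 := commutatorElement_eq_one_iff_mul_comm.2 (Subgroup.mem_center_iff.1 hu b).symm
    rw [Solv.commutatorElement_mul_left_of_central (by rw [e]; exact one_mem _), e, mul_one]
  rw [hl a u _ ha, ← commutatorElement_inv (b * w) a, hl b w a hb, commutatorElement_inv]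

/-- the element of order three has no fixed vectors -/
theorem Chain.free (H : Chain t Q N M) [Q.Normal] [N.Normal] [M.Normal] (e : M ⧸ N.subgroupOf M ≃* G22)
    (hxN : x ∈ N) (hxQ : x ∉ Q) (hx3 : x ^ 3 = 1) (v : Q ⧸ Subgroup.center Q) (hv : actQ x v = v) : v = 1 := by
  classical
  by_contra hv1
  letI : CommGroup (Q ⧸ Subgroup.center Q) := quotComm H
  letI : CommGroup (Subgroup.center Q) :=
    { (inferInstance : Group (Subgroup.center Q)) with
      mul_comm := fun a b => Subtype.ext (Subgroup.mem_center_iff.1 b.2 a.1) }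
  haveI : Fact (Nat.Prime 2) := ⟨Nat.prime_two⟩
  haveI : Fact (Nat.Prime 7) := ⟨by norm_num⟩
  set W : Set (Q ⧸ Subgroup.center Q) := {w | ∃ u, u * actQ x u = w} with hW
  have hcommx : ∀ m ∈ M, ∀ u, actQ m (actQ x u) = actQ x (actQ m u : Q ⧸ Subgroup.center Q) := by
    intro m hm u
    rw [← actQ_mul, ← actQ_mul, H.actQ_congr (c := m * x) (d := x * m) (by
      rw [show m * x * (x * m)⁻¹ = m * x * m⁻¹ * x⁻¹ by group]; exact H.commM hxN hm)]
  -- elements of order seven fix the image
  have hseven : ∀ g ∈ M, g ^ 7 = 1 → ∀ w ∈ W, actQ g w = w := by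
    intro g hg hg7
    by_contra hne
    push Not at hne
    obtain ⟨w, ⟨u, rfl⟩, hne⟩ := hne
    let σ : Additive (Q ⧸ Subgroup.center Q) →+ Additive (Q ⧸ Subgroup.center Q) := (actQ g).toAdditive
    let ρ : Additive (Q ⧸ Subgroup.center Q) →+ Additive (Q ⧸ Subgroup.center Q) := (actQ x).toAdditive
    have hlift : ∀ a : Q ⧸ Subgroup.center Q, ((a.out : Q) : Q ⧸ Subgroup.center Q) = a := QuotientGroup.out_eq'
    let B : Additive (Q ⧸ Subgroup.center Q) → Additive (Q ⧸ Subgroup.center Q) → Additive (Subgroup.center Q) :=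
      fun a b => Additive.ofMul ⟨⁅(Additive.toMul a).out, (Additive.toMul b).out⁆,
        H.extra.1.2.2.le (Subgroup.commutator_mem_commutator (Subgroup.mem_top _) (Subgroup.mem_top _))⟩
    have hBmk : ∀ a b : Q, ((Additive.toMul (B (Additive.ofMul (a : Q ⧸ Subgroup.center Q))
        (Additive.ofMul (b : Q ⧸ Subgroup.center Q))) : Subgroup.center Q) : Q) = ⁅a, b⁆ := fun a b =>
      comm_quot H (hlift _) (hlift _)
    have hrep : ∀ a : Additive (Q ⧸ Subgroup.center Q), ∃ q : Q, a = Additive.ofMul (q : Q ⧸ Subgroup.center Q) :=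
      fun a => ⟨(Additive.toMul a).out, by rw [hlift]; rfl⟩
    have hext : ∀ a b : Additive (Subgroup.center Q), ((Additive.toMul a : Subgroup.center Q) : Q) =
        ((Additive.toMul b : Subgroup.center Q) : Q) → a = b :=
      fun a b h => Additive.toMul.injective (Subtype.ext h)
    have hd := H.extra.1.2.2.le
    have hfix : ∀ (c : Subgroup.centralizer ({t} : Set G)) (a b : Q),
        ⁅MulAut.conjNormal (H := Q) c a, MulAut.conjNormal (H := Q) c b⁆ = ⁅a, b⁆ := by
      intro c a b
      rw [← map_commutatorElement]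
      have hz : ⁅a, b⁆ ∈ Subgroup.center Q := hd (Subgroup.commutator_mem_commutator (Subgroup.mem_top a)
        (Subgroup.mem_top b))
      refine Subtype.ext ?_
      rw [MulAut.conjNormal_apply]
      rcases H.center_two _ hz with e1 | e1 <;> rw [e1]
      · group
      · rw [((H.tC_facts.2.2.2 c)).symm.eq, mul_inv_cancel_right]
    have hiter : ∀ (c : Subgroup.centralizer ({t} : Set G)) (k : ℕ) (a : Additive (Q ⧸ Subgroup.center Q)),
        ((actQ c).toAdditive)^[k] a = Additive.ofMul (actQ (c ^ k) (Additive.toMul a)) := by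
      intro c k
      induction k with
      | zero => intro a; rw [pow_zero, actQ_one]; rfl
      | succ k ih => intro a; rw [Function.iterate_succ_apply', ih, pow_succ', actQ_mul]; rfl
    have h := fixed_free (V := Additive (Q ⧸ Subgroup.center Q)) (M := Additive (Subgroup.center Q))
      (fun a => by
        obtain ⟨q, rfl⟩ := hrep a
        rw [← ofMul_mul, ← QuotientGroup.mk_mul, ← pow_two,
          (QuotientGroup.eq_one_iff _).2 (Solv.extraspecial_pow_mem_center H.extra q)]
        rfl)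
      (by
        rw [Nat.card_congr Additive.toMul, ← Subgroup.index_eq_card]
        have h1 := (Subgroup.center Q).card_mul_index
        rw [H.extra.2, H.cardQ] at h1
        omega)
      B
      (fun a b c => by
        obtain ⟨qa, rfl⟩ := hrep a; obtain ⟨qb, rfl⟩ := hrep b; obtain ⟨qc, rfl⟩ := hrep c
        refine hext _ _ ?_
        rw [← ofMul_mul, ← QuotientGroup.mk_mul, toMul_add, Subgroup.coe_mul, hBmk, hBmk, hBmk]
        exact Solv.commutatorElement_mul_left_of_central
          (hd (Subgroup.commutator_mem_commutator (Subgroup.mem_top qb) (Subgroup.mem_top qc))))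
      (fun a b c => by
        obtain ⟨qa, rfl⟩ := hrep a; obtain ⟨qb, rfl⟩ := hrep b; obtain ⟨qc, rfl⟩ := hrep c
        refine hext _ _ ?_
        rw [← ofMul_mul, ← QuotientGroup.mk_mul, toMul_add, Subgroup.coe_mul, hBmk, hBmk, hBmk]
        have hz : ⁅qc, qa⁆ ∈ Subgroup.center Q :=
          hd (Subgroup.commutator_mem_commutator (Subgroup.mem_top qc) (Subgroup.mem_top qa))
        rw [← commutatorElement_inv (qb * qc) qa, Solv.commutatorElement_mul_left_of_central hz, mul_inv_rev,
          commutatorElement_inv, commutatorElement_inv, (Subgroup.mem_center_iff.1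
            (hd (Subgroup.commutator_mem_commutator (Subgroup.mem_top qa) (Subgroup.mem_top qc))) _)])
      (fun a h0 => by
        obtain ⟨qa, rfl⟩ := hrep a
        rw [(QuotientGroup.eq_one_iff qa).2 (Subgroup.mem_center_iff.2 fun b => ?_)]
        · rfl
        · have h := congrArg (fun m : Additive (Subgroup.center Q) => ((Additive.toMul m : Subgroup.center Q) : Q)) (h0 (Additive.ofMul (b : Q ⧸ Subgroup.center Q)))
          simp only [hBmk, toMul_zero, OneMemClass.coe_one] at h
          exact (commutatorElement_eq_one_iff_mul_comm.1 h).symm)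
      σ ρ
      (fun a b => by
        obtain ⟨qa, rfl⟩ := hrep a; obtain ⟨qb, rfl⟩ := hrep b
        refine hext _ _ ?_
        show ((Additive.toMul (B (Additive.ofMul (actQ g qa)) (Additive.ofMul (actQ g qb))) : Subgroup.center Q) : Q) = _
        rw [actQ_mk, actQ_mk, hBmk, hBmk, hfix])
      (fun a b => by
        obtain ⟨qa, rfl⟩ := hrep a; obtain ⟨qb, rfl⟩ := hrep b
        refine hext _ _ ?_
        show ((Additive.toMul (B (Additive.ofMul (actQ x qa)) (Additive.ofMul (actQ x qb))) : Subgroup.center Q) : Q) = _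
        rw [actQ_mk, actQ_mk, hBmk, hBmk, hfix])
      (fun a => by rw [hiter, hg7, actQ_one]; rfl)
      (fun a => by rw [hiter, hx3, actQ_one]; rfl)
      (fun a => congrArg Additive.ofMul (hcommx g hg (Additive.toMul a)))
      ⟨Additive.ofMul u, fun e => hne (congrArg Additive.toMul e)⟩
      (Additive.ofMul v) (congrArg Additive.ofMul hv)
    exact hv1 (congrArg Additive.toMul h)
  have hWM : ∀ m ∈ M, ∀ w ∈ W, actQ m w ∈ W := by
    rintro m hm _ ⟨u, rfl⟩
    exact ⟨actQ m u, by rw [map_mul, hcommx m hm]⟩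
  -- the kernel of the action on the image
  let K : Subgroup M :=
    { carrier := {m | ∀ w ∈ W, actQ (m : Subgroup.centralizer ({t} : Set G)) w = w}
      one_mem' := fun w _ => actQ_one w
      mul_mem' := fun {a b} ha hb w hw => by rw [Subgroup.coe_mul, actQ_mul, hb w hw, ha w hw]
      inv_mem' := fun {a} ha w hw => by
        conv_lhs => rw [← ha w hw]
        rw [← actQ_mul, InvMemClass.coe_inv, inv_mul_cancel, actQ_one] }
  haveI hKn : K.Normal := ⟨fun k hk m w hw => by
    rw [Subgroup.coe_mul, Subgroup.coe_mul, actQ_mul, actQ_mul, hk _ (hWM _ (m⁻¹).2 w hw), ← actQ_mul,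
      InvMemClass.coe_inv, mul_inv_cancel, actQ_one]⟩
  haveI := simple_G22
  let π : M →* G22 := e.toMonoidHom.comp (QuotientGroup.mk' _)
  have hπs : Function.Surjective π := e.surjective.comp (QuotientGroup.mk'_surjective _)
  have hπk : ∀ m : M, π m = 1 ↔ (m : Subgroup.centralizer ({t} : Set G)) ∈ N := fun m => by
    show e (QuotientGroup.mk m) = 1 ↔ _
    rw [MulEquiv.map_eq_one_iff, QuotientGroup.eq_one_iff, Subgroup.mem_subgroupOf]
  haveI : (K.map π).Normal := hKn.map π hπs
  have hcardM : 7 ∣ Nat.card M := by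
    have h := (N.subgroupOf M).card_mul_index
    rw [Subgroup.index_eq_card, Nat.card_congr e.toEquiv, Local.FS.Mathieu.card_m22] at h
    rw [← h]
    exact Dvd.dvd.mul_left (by norm_num) _
  obtain ⟨g, hg⟩ := exists_prime_orderOf_dvd_card' (G := M) 7 hcardM
  have hgK : g ∈ K := hseven g g.2 (by
    rw [← Subgroup.coe_pow, ← hg, pow_orderOf_eq_one, OneMemClass.coe_one])
  have hgN : π g ≠ 1 := fun h => by
    have h' := Subgroup.orderOf_dvd_natCard N ((hπk g).1 h)
    rw [Subgroup.orderOf_coe, hg, H.cardN, H.cardQ] at h'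
    norm_num at h'
  have htop : K.map π = ⊤ := (IsSimpleGroup.eq_bot_or_eq_top_of_normal _ inferInstance).resolve_left fun hb =>
    hgN (Subgroup.mem_bot.1 (hb ▸ ⟨g, hgK, rfl⟩))
  have hdec : ∀ m : M, ∃ i, ∀ w ∈ W, actQ (m : Subgroup.centralizer ({t} : Set G)) w = actQ (x ^ i) w := by
    intro m
    obtain ⟨k, hk, hkm⟩ := (htop ▸ Subgroup.mem_top (π m) : π m ∈ K.map π)
    have hn : ((m * k⁻¹ : M) : Subgroup.centralizer ({t} : Set G)) ∈ N :=
      (hπk _).1 (by rw [map_mul, map_inv, hkm, mul_inv_cancel])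
    obtain ⟨i, -, hi⟩ := H.N_dec hxN hxQ hx3 hn
    refine ⟨i, fun w hw => ?_⟩
    rw [show (m : Subgroup.centralizer ({t} : Set G)) = ((m * k⁻¹ : M) : Subgroup.centralizer ({t} : Set G)) * k by
      rw [Subgroup.coe_mul, InvMemClass.coe_inv, inv_mul_cancel_right], actQ_mul, hk w hw]
    exact H.actQ_congr hi w
  -- so the derived subgroup fixes the image
  let Fx : Subgroup (Subgroup.centralizer ({t} : Set G)) :=
    { carrier := {c | ∀ w ∈ W, actQ c w = w}
      one_mem' := fun w _ => actQ_one w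
      mul_mem' := fun {a b} ha hb w hw => by rw [actQ_mul, hb w hw, ha w hw]
      inv_mem' := fun {a} ha w hw => by
        conv_lhs => rw [← ha w hw]
        rw [← actQ_mul, inv_mul_cancel, actQ_one] }
  have hFx : ⁅M, M⁆ ⊔ Q ≤ Fx := by
    refine sup_le (Subgroup.commutator_le.2 fun a ha b hb => ?_) fun q hq w _ => (H.actQ_eq_id).2 hq w
    obtain ⟨i, hi⟩ := hdec ⟨a, ha⟩
    obtain ⟨j, hj⟩ := hdec ⟨b, hb⟩
    intro w hw
    have hab : ∀ w ∈ W, actQ (a * b) w = actQ (b * a) w := fun w hw => by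
      rw [actQ_mul, actQ_mul]
      calc actQ a (actQ b w) = actQ (x ^ i) (actQ b w) := hi _ (hWM b hb w hw)
        _ = actQ (x ^ i) (actQ (x ^ j) w) := by rw [hj w hw]
        _ = actQ (x ^ j) (actQ (x ^ i) w) := by rw [← actQ_mul, ← actQ_mul, (Commute.refl x).pow_pow i j |>.eq]
        _ = actQ (x ^ j) (actQ a w) := by rw [hi w hw]
        _ = actQ b (actQ a w) := (hj _ (hWM a ha w hw)).symm
    rw [commutatorElement_def, show a * b * a⁻¹ * b⁻¹ = (a * b) * (b * a)⁻¹ by group, actQ_mul,
      hab _ (hWM _ (inv_mem (mul_mem hb ha)) w hw), ← actQ_mul, mul_inv_cancel, actQ_one]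
  have hxfix := hFx (H.perf (H.NM hxN))
  refine hxQ ((H.actQ_eq_id).1 fun u => ?_)
  have h1 : actQ x (u * actQ x u) = u * actQ x u := hxfix _ ⟨u, rfl⟩
  rw [map_mul, mul_comm u, mul_right_inj, ← actQ_mul] at h1
  conv_rhs => rw [← actQ_one (t := t) u, ← hx3, pow_succ, pow_two, mul_assoc]
  rw [actQ_mul, h1]

end Cfsg.Agent.Spor.JFour.Bridge
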