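import Mathlib

/-!
A non-degenerate bilinear form on a space of order 2^12 with commuting isometries of orders dividing seven and three:
if the one of order seven moves the image of one plus the other, then the one of order three has no fixed vectors.
-/

set_option autoImplicit false

namespace Cfsg.Agent.Spor.JFour.Bridge

universe u w

variable {V : Type u} [AddCommGroup V] [Finite V]

/-- the first cubic -/
def cubA (σ : V →+ V) : V →+ V := AddMonoidHom.id V + σ + σ.comp (σ.comp σ)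

/-- the second cubic -/
def cubB (σ : V →+ V) : V →+ V := AddMonoidHom.id V + σ.comp σ + σ.comp (σ.comp σ)

omit [Finite V] in
theorem cubA_apply (σ : V →+ V) (v : V) : cubA σ v = v + σ v + σ (σ (σ v)) := rfl

omit [Finite V] in
theorem cubB_apply (σ : V →+ V) (v : V) : cubB σ v = v + σ (σ v) + σ (σ (σ v)) := rfl

theorem size_invariant {K : AddSubgroup V} {σ : V →+ V} {p n : ℕ} [Fact p.Prime] (hp : p ^ 1 = n)
    (hK : ∀ v ∈ K, σ v ∈ K) (hσ : ∀ v, σ^[n] v = v) (hfix : ∀ v ∈ K, σ v = v → v = 0) :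
    Nat.card K ≡ 1 [MOD p] := by
  classical
  haveI := Fintype.ofFinite K
  set f : Function.End K := fun v => ⟨σ v, hK v v.2⟩ with hf
  have hit : ∀ (k : ℕ) (v : K), (((f ^ k : Function.End K) v : K) : V) = σ^[k] v := by
    intro k
    induction k with
    | zero => intro v; rfl
    | succ k ih => intro v; rw [Function.iterate_succ_apply', ← ih v, pow_succ']; rfl
  have h := Equiv.Perm.card_fixedPoints_modEq (f := f) (p := p) (n := 1)
    (funext fun v => Subtype.ext (by rw [hit, hp]; exact hσ v))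
  have h1 : Fintype.card f.fixedPoints = 1 := Fintype.card_eq_one_iff.2
    ⟨⟨0, Subtype.ext (map_zero σ)⟩, fun ⟨v, hv⟩ => Subtype.ext (Subtype.ext
      (hfix v v.2 (congrArg Subtype.val (hv : f v = v))))⟩
  rw [h1, ← Nat.card_eq_fintype_card] at h
  exact h

theorem fixed_free {M : Type w} [AddCommGroup M] (h2 : ∀ v : V, v + v = 0) (hcard : Nat.card V = 2 ^ 12)
    (B : V → V → M) (hBl : ∀ a b c, B (a + b) c = B a c + B b c) (hBr : ∀ a b c, B a (b + c) = B a b + B a c)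
    (hnd : ∀ a, (∀ b, B a b = 0) → a = 0) (σ ρ : V →+ V) (hBσ : ∀ a b, B (σ a) (σ b) = B a b)
    (hBρ : ∀ a b, B (ρ a) (ρ b) = B a b) (hσ : ∀ v, σ^[7] v = v) (hρ : ∀ v, ρ^[3] v = v)
    (hc : ∀ v, σ (ρ v) = ρ (σ v)) (hne : ∃ v, σ (v + ρ v) ≠ v + ρ v) : ∀ v, ρ v = v → v = 0 := by
  classical
  have hsub : ∀ a b : V, a = b → a + b = 0 := fun a b e => by rw [e]; exact h2 b
  have hB0 : ∀ a, B 0 a = 0 := fun a => by
    have h := hBl 0 0 a
    rw [add_zero] at h
    exact left_eq_add.1 h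
  have hB0' : ∀ a, B a 0 = 0 := fun a => by
    have h := hBr a 0 0
    rw [add_zero] at h
    exact left_eq_add.1 h
  set δ : V →+ V := AddMonoidHom.id V + ρ with hδ
  set W := δ.range with hW
  set F := δ.ker with hF
  have hmemF : ∀ v, v ∈ F ↔ ρ v = v := fun v => by
    rw [hF, AddMonoidHom.mem_ker]
    show v + ρ v = 0 ↔ ρ v = v
    refine ⟨fun h => ?_, fun h => hsub _ _ h.symm⟩
    calc ρ v = v + (v + ρ v) := by rw [← add_assoc, h2, zero_add]
      _ = v := by rw [h, add_zero]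
  have hρW : ∀ v ∈ W, ρ v = v → v = 0 := by
    rintro _ ⟨u, rfl⟩ h
    have h' : ρ u + ρ (ρ u) = u + ρ u := by rw [← map_add]; exact h
    have h'' : ρ (ρ u) = u := by
      calc ρ (ρ u) = ρ u + (ρ u + ρ (ρ u)) := by rw [← add_assoc, h2, zero_add]
        _ = ρ u + (u + ρ u) := by rw [h']
        _ = u := by rw [add_comm u, ← add_assoc, h2, zero_add]
    have h3 : ρ u = u := by
      have e : ρ (ρ (ρ u)) = u := hρ u
      rwa [h''] at e
    exact hsub _ _ h3.symm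
  have hWF : Nat.card W * Nat.card F = 2 ^ 12 := by
    rw [← hcard, ← δ.ker.index_mul_card, AddSubgroup.index_ker]
  have horth : ∀ a ∈ W, ∀ b ∈ F, B a b = 0 := by
    rintro _ ⟨u, rfl⟩ b hb
    show B (u + ρ u) b = 0
    have e : B (ρ u) b = B u b := by
      conv_lhs => rw [← (hmemF b).1 hb]
      exact hBρ u b
    rw [hBl, e, ← hBl, h2, hB0]
  have hsum : ∀ v, ∃ a ∈ W, ∃ b ∈ F, v = a + b := by
    intro v
    have hinj : Function.Injective (fun p : W × F => (p.1 : V) + p.2) := by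
      rintro ⟨a, b⟩ ⟨a', b'⟩ h
      have h' : (a : V) - a' = b' - b := by
        rw [sub_eq_sub_iff_add_eq_add, add_comm (b' : V)]
        exact h
      have h0 : (a : V) - a' = 0 := hρW _ (sub_mem a.2 a'.2) ((hmemF _).1 (h' ▸ sub_mem b'.2 b.2))
      obtain rfl := Subtype.ext (sub_eq_zero.1 h0)
      rw [sub_self] at h'
      exact Prod.ext rfl (Subtype.ext (sub_eq_zero.1 h'.symm).symm)
    obtain ⟨⟨a, b⟩, e⟩ := ((Nat.bijective_iff_injective_and_card _).2
      ⟨hinj, by rw [Nat.card_prod, hWF, hcard]⟩).2 v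
    exact ⟨a, a.2, b, b.2, e.symm⟩
  have hndW : ∀ a ∈ W, (∀ b ∈ W, B a b = 0) → a = 0 := fun a ha h => hnd a fun v => by
    obtain ⟨b, hb, c, hc', rfl⟩ := hsum v
    rw [hBr, h b hb, horth a ha c hc', add_zero]
  have hσW : ∀ v ∈ W, σ v ∈ W := by
    rintro _ ⟨u, rfl⟩
    exact ⟨σ u, by show σ u + ρ (σ u) = σ (u + ρ u); rw [map_add, hc]⟩
  have hρW' : ∀ v ∈ W, ρ v ∈ W := by
    rintro _ ⟨u, rfl⟩
    exact ⟨ρ u, by show ρ u + ρ (ρ u) = ρ (u + ρ u); rw [map_add]⟩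
  set K₁ := W ⊓ (cubA σ).ker with hK₁
  set K₂ := W ⊓ (cubB σ).ker with hK₂
  have hAW : ∀ v ∈ W, cubA σ v ∈ W := fun v hv => add_mem (add_mem hv (hσW v hv)) (hσW _ (hσW _ (hσW v hv)))
  have hBW : ∀ v ∈ W, cubB σ v ∈ W := fun v hv =>
    add_mem (add_mem hv (hσW _ (hσW v hv))) (hσW _ (hσW _ (hσW v hv)))
  have hσ' : ∀ v, σ (σ (σ (σ (σ (σ (σ v)))))) = v := hσ
  -- the product of the cubics
  have hprod : ∀ v, cubA σ (cubB σ (v + σ v)) = 0 := by
    intro v
    have e : cubA σ (cubB σ (v + σ v)) = (v + σ (σ (σ (σ (σ (σ (σ v))))))) +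
        ((σ v + σ v) + (σ (σ v) + σ (σ v)) + ((σ (σ (σ v)) + σ (σ (σ v))) + (σ (σ (σ v)) + σ (σ (σ v)))) +
          (σ (σ (σ (σ v))) + σ (σ (σ (σ v)))) + (σ (σ (σ (σ v))) + σ (σ (σ (σ v)))) +
          (σ (σ (σ (σ (σ v)))) + σ (σ (σ (σ (σ v))))) +
          (σ (σ (σ (σ (σ (σ v))))) + σ (σ (σ (σ (σ (σ v))))))) := by
      simp only [cubA_apply, cubB_apply, map_add]
      abel
    rw [e]
    simp only [h2, hσ', add_zero]
  have hne₁₂ : K₁ ≠ ⊥ ∨ K₂ ≠ ⊥ := by
    obtain ⟨v, hv⟩ := hne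
    have hu : (v + ρ v) + σ (v + ρ v) ≠ 0 := fun e => hv (by
      calc σ (v + ρ v) = (v + ρ v) + ((v + ρ v) + σ (v + ρ v)) := by rw [← add_assoc, h2, zero_add]
        _ = v + ρ v := by rw [e, add_zero])
    have huW : (v + ρ v) + σ (v + ρ v) ∈ W := add_mem ⟨v, rfl⟩ (hσW _ ⟨v, rfl⟩)
    by_cases h : cubB σ ((v + ρ v) + σ (v + ρ v)) = 0
    · exact Or.inr fun e => hu (AddSubgroup.mem_bot.1 (e ▸ ⟨huW, h⟩))
    · exact Or.inl fun e => h (AddSubgroup.mem_bot.1 (e ▸ ⟨hBW _ huW, hprod _⟩))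
  have surj : ∀ φ : V →+ V, (∀ v ∈ W, φ v ∈ W) → W ⊓ φ.ker = ⊥ → ∀ b ∈ W, ∃ y ∈ W, φ y = b := by
    intro φ hφ hker b hb
    have hinj : Function.Injective (fun v : W => (⟨φ v, hφ v v.2⟩ : W)) := fun a c e => by
      have e' : φ (a - c : V) = 0 := by rw [map_sub, sub_eq_zero]; exact congrArg Subtype.val e
      have hm : (a : V) - c ∈ W ⊓ φ.ker := AddSubgroup.mem_inf.2 ⟨sub_mem a.2 c.2, e'⟩
      rw [hker] at hm
      exact Subtype.ext (sub_eq_zero.1 (AddSubgroup.mem_bot.1 hm))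
    obtain ⟨y, hy⟩ := Finite.surjective_of_injective hinj ⟨b, hb⟩
    exact ⟨y, y.2, congrArg Subtype.val hy⟩
  have hr : ∀ a b, B a (σ b) = B (σ (σ (σ (σ (σ (σ a)))))) b := fun a b => by
    conv_lhs => rw [← hσ' a]
    rw [hBσ]
  have hoA : ∀ a, cubA σ a = 0 → ∀ y, B a (cubB σ y) = 0 := by
    intro a ha y
    rw [cubB_apply, hBr, hBr, hr a (σ y), hr _ y, hr a (σ (σ y)), hr _ (σ y), hr _ y]
    simp only [hσ']
    rw [← hBl, ← hBl]
    have e : σ (σ (σ (σ (cubA σ a)))) = a + σ (σ (σ (σ (σ a)))) + σ (σ (σ (σ a))) := by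
      simp only [cubA_apply, map_add, hσ']
      abel
    rw [ha, map_zero, map_zero, map_zero, map_zero] at e
    rw [← e, hB0]
  have hoB : ∀ a, cubB σ a = 0 → ∀ y, B a (cubA σ y) = 0 := by
    intro a ha y
    rw [cubA_apply, hBr, hBr, hr a y, hr a (σ (σ y)), hr _ (σ y), hr _ y]
    simp only [hσ']
    rw [← hBl, ← hBl]
    have e : σ (σ (σ (σ (cubB σ a)))) = a + σ (σ (σ (σ (σ (σ a))))) + σ (σ (σ (σ a))) := by
      simp only [cubB_apply, map_add, hσ']
      abel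
    rw [ha, map_zero, map_zero, map_zero, map_zero] at e
    rw [← e, hB0]
  have h₁ : K₁ ≠ ⊥ := by
    by_contra h
    refine (hne₁₂.resolve_left fun h' => h' h) ((AddSubgroup.eq_bot_iff_forall _).2 fun a ha => ?_)
    refine hndW a ha.1 fun b hb => ?_
    obtain ⟨y, -, rfl⟩ := surj _ hAW h b hb
    exact hoB a ha.2 y
  have h₂ : K₂ ≠ ⊥ := by
    by_contra h
    refine h₁ ((AddSubgroup.eq_bot_iff_forall _).2 fun a ha => ?_)
    refine hndW a ha.1 fun b hb => ?_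
    obtain ⟨y, -, rfl⟩ := surj _ hBW h b hb
    exact hoA a ha.2 y
  have hbig : ∀ K : AddSubgroup V, K ≤ W → (∀ v ∈ K, σ v ∈ K) → (∀ v ∈ K, ρ v ∈ K) →
      (∀ v ∈ K, σ v = v → v = 0) → K ≠ ⊥ → 64 ≤ Nat.card K := by
    intro K hKW hKσ hKρ hfix hK
    haveI : Fact (Nat.Prime 7) := ⟨by norm_num⟩
    haveI : Fact (Nat.Prime 3) := ⟨by norm_num⟩
    have a7 := size_invariant (p := 7) (by norm_num) hKσ hσ hfix
    have a3 := size_invariant (p := 3) (by norm_num) hKρ hρ fun v hv => hρW v (hKW hv)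
    have hdvd : Nat.card K ∣ 2 ^ 12 := hcard ▸ K.card_addSubgroup_dvd_card
    obtain ⟨d, hd, e⟩ := (Nat.dvd_prime_pow Nat.prime_two).1 hdvd
    have h1 : Nat.card K ≠ 1 := fun e1 => hK (AddSubgroup.eq_bot_of_card_eq K e1)
    rw [e] at a7 a3 h1 ⊢
    interval_cases d <;> first | omega | simp [Nat.ModEq] at a7 a3 h1 ⊢
  have hcomm : ∀ φ : V →+ V, (∀ v, φ (σ v) = σ (φ v)) → ∀ v, φ v = 0 → φ (σ v) = 0 := fun φ h v hv => by
    rw [h, hv, map_zero]
  have cAσ : ∀ v, cubA σ (σ v) = σ (cubA σ v) := fun v => by simp only [cubA_apply, map_add]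
  have cBσ : ∀ v, cubB σ (σ v) = σ (cubB σ v) := fun v => by simp only [cubB_apply, map_add]
  have cAρ : ∀ v, cubA σ (ρ v) = ρ (cubA σ v) := fun v => by simp only [cubA_apply, map_add, hc]
  have cBρ : ∀ v, cubB σ (ρ v) = ρ (cubB σ v) := fun v => by simp only [cubB_apply, map_add, hc]
  have b₁ : 64 ≤ Nat.card K₁ := hbig K₁ inf_le_left
    (fun v hv => ⟨hσW v hv.1, hcomm _ cAσ v hv.2⟩)
    (fun v hv => ⟨hρW' v hv.1, by show cubA σ (ρ v) = 0; rw [cAρ, show cubA σ v = 0 from hv.2, map_zero]⟩)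
    (fun v hv e => by
      have h := (show cubA σ v = 0 from hv.2)
      simp only [cubA_apply, e, h2, zero_add] at h
      exact h) h₁
  have b₂ : 64 ≤ Nat.card K₂ := hbig K₂ inf_le_left
    (fun v hv => ⟨hσW v hv.1, hcomm _ cBσ v hv.2⟩)
    (fun v hv => ⟨hρW' v hv.1, by show cubB σ (ρ v) = 0; rw [cBρ, show cubB σ v = 0 from hv.2, map_zero]⟩)
    (fun v hv e => by
      have h := (show cubB σ v = 0 from hv.2)
      simp only [cubB_apply, e, h2, zero_add] at h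
      exact h) h₂
  have h12 : ∀ v ∈ K₁, v ∈ K₂ → v = 0 := by
    intro v hv hv'
    have e1 : cubA σ v = 0 := hv.2
    have e2 : cubB σ v = 0 := hv'.2
    have e3 : σ v = σ (σ v) := by
      have e : cubA σ v + cubB σ v + σ v = σ (σ v) + ((v + v) + (σ v + σ v) + (σ (σ (σ v)) + σ (σ (σ v)))) := by
        simp only [cubA_apply, cubB_apply]
        abel
      simp only [e1, e2, h2, add_zero, zero_add] at e
      exact e
    have e4 : v = σ v := by
      have := congrArg (fun a => σ (σ (σ (σ (σ (σ a)))))) e3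
      simp only [hσ'] at this
      exact this
    rw [cubA_apply, ← e4, ← e4, ← e4, h2, zero_add] at e1
    exact e1
  have hW64 : 64 * 64 ≤ Nat.card W := by
    refine le_trans (Nat.mul_le_mul b₁ b₂) ?_
    rw [← Nat.card_prod]
    refine Nat.card_le_card_of_injective (fun p : K₁ × K₂ => (⟨p.1 + p.2, add_mem p.1.2.1 p.2.2.1⟩ : W)) ?_
    rintro ⟨a, b⟩ ⟨a', b'⟩ h
    have h' : (a : V) - a' = b' - b := by
      rw [sub_eq_sub_iff_add_eq_add, add_comm (b' : V)]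
      exact congrArg Subtype.val h
    have h0 : (a : V) - a' = 0 := h12 _ (sub_mem a.2 a'.2) (h' ▸ sub_mem b'.2 b.2)
    obtain rfl := Subtype.ext (sub_eq_zero.1 h0)
    rw [sub_self] at h'
    exact Prod.ext rfl (Subtype.ext (sub_eq_zero.1 h'.symm).symm)
  intro v hv
  have hF1 : Nat.card F = 1 := by
    have := Nat.card_pos (α := F)
    nlinarith
  exact AddSubgroup.mem_bot.1 (AddSubgroup.eq_bot_of_card_eq F hF1 ▸ (hmemF v).2 hv)

end Cfsg.Agent.Spor.JFour.Bridge
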