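import Cfsg.Agent.Lib.Spor.JFourBridge
import Cfsg.Agent.Lib.Spor.AffineLarge

/-!
From the chain in the centraliser to the Janko four type at the involution.
-/

set_option autoImplicit false
set_option maxRecDepth 100000
set_option linter.unusedSectionVars false
set_option linter.style.haveILetI false

namespace Cfsg.Agent.Spor.JFour.Bridge

open scoped commutatorElement Pointwise
open Cfsg.Agent.Spor.SUSix (V6)
open Cfsg.Agent.Spor.SpFour (F4)
open Cfsg.Agent.Spor.Large (XT)

local notation "G22" => Subtype (fun x => x ∈ Cfsg.Spor.M22)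

attribute [local irreducible] Kp Gam

universe u

variable {G : Type u} [Group G] [Finite G] {t : G}
variable {Q N M : Subgroup (Subgroup.centralizer ({t} : Set G))}
variable {x : Subgroup.centralizer ({t} : Set G)}

/-- the extraspecial subgroup in the group -/
def QG (Q : Subgroup (Subgroup.centralizer ({t} : Set G))) : Subgroup G := Q.map (Subgroup.centralizer ({t} : Set G)).subtype

theorem mem_QG {c : Subgroup.centralizer ({t} : Set G)} : (c : G) ∈ QG Q ↔ c ∈ Q := by
  constructor
  · rintro ⟨q, hq, e⟩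
    rwa [← show q = c from Subtype.ext e]
  · exact fun h => ⟨c, h, rfl⟩

theorem QG_lift {g : G} (hg : g ∈ QG Q) : ∃ c : Subgroup.centralizer ({t} : Set G), c ∈ Q ∧ (c : G) = g := hg

theorem Chain.xt (H : Chain t Q N M) : XT t (QG Q) := by
  obtain ⟨hm, h1, h2, hc⟩ := H.tC_facts
  refine ⟨fun e => h1 (Subtype.ext e), congrArg Subtype.val h2, ⟨_, hm, rfl⟩, ?_, ?_, ?_⟩
  · rintro _ ⟨a, -, rfl⟩
    exact congrArg Subtype.val (hc a)
  · rintro _ ⟨a, ha, rfl⟩ _ ⟨b, hb, rfl⟩
    have hmem : ⁅(⟨a, ha⟩ : Q), (⟨b, hb⟩ : Q)⁆ ∈ Subgroup.center Q :=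
      H.extra.1.2.2.le (Subgroup.commutator_mem_commutator (Subgroup.mem_top _) (Subgroup.mem_top _))
    rcases H.center_two _ hmem with e | e
    · left
      have e' : (a : G) * b * (a : G)⁻¹ * (b : G)⁻¹ = 1 := congrArg Subtype.val e
      exact mul_inv_eq_one.1 e'
    · right
      have e' : (a : G) * b * (a : G)⁻¹ * (b : G)⁻¹ = t := congrArg Subtype.val e
      show (a : G) * b * (a : G)⁻¹ = b * t
      rw [mul_inv_eq_iff_eq_mul.1 e']
      exact congrArg Subtype.val (hc b).eq
  · rintro _ ⟨a, ha, rfl⟩ h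
    rcases H.center_two (⟨a, ha⟩ : Q) (Subgroup.mem_center_iff.2 fun b => Subtype.ext (Subtype.ext
      (h _ ⟨b, b.2, rfl⟩).symm)) with e | e
    · exact Or.inl (congrArg Subtype.val e)
    · exact Or.inr (congrArg Subtype.val e)

theorem Chain.ord_data (H : Chain t Q N M) [Q.Normal] [N.Normal] [M.Normal] (e : M ⧸ N.subgroupOf M ≃* G22)
    (hxN : x ∈ N) (hxQ : x ∉ Q) (hx3 : x ^ 3 = 1) : Ord t (QG Q) (x : G) := by
  obtain ⟨hm, h1, h2, hc⟩ := H.tC_facts
  refine ⟨H.xt, ?_, ?_, ?_, Subgroup.mem_centralizer_singleton_iff.1 x.2, congrArg Subtype.val hx3, ?_⟩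
  · rintro c hct _ ⟨q, hq, rfl⟩
    exact ⟨⟨c, Subgroup.mem_centralizer_singleton_iff.2 hct.eq⟩ * q *
      ⟨c, Subgroup.mem_centralizer_singleton_iff.2 hct.eq⟩⁻¹, Subgroup.Normal.conj_mem inferInstance q hq _, rfl⟩
  · intro c hct hq
    set c' : Subgroup.centralizer ({t} : Set G) := ⟨c, Subgroup.mem_centralizer_singleton_iff.2 hct.eq⟩
    refine (mem_QG (c := c')).2 ((H.actQ_eq_id).1 fun v => ?_)
    induction v using QuotientGroup.induction_on with | _ v => ?_
    rw [actQ_mk, QuotientGroup.eq, Subgroup.mem_center_iff]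
    intro b
    have key : ((MulAut.conjNormal (H := Q) c' v)⁻¹ * v : Q) = 1 ∨
        (((MulAut.conjNormal (H := Q) c' v)⁻¹ * v : Q) : Subgroup.centralizer ({t} : Set G)) = tC t := by
      rcases hq _ ⟨v, v.2, rfl⟩ with e' | e'
      · left
        refine Subtype.ext (Subtype.ext ?_)
        show (c * (v : G) * c⁻¹)⁻¹ * (v : G) = 1
        rw [show c * (v : G) * c⁻¹ = v from e', inv_mul_cancel]
      · right
        refine Subtype.ext ?_
        show (c * (v : G) * c⁻¹)⁻¹ * (v : G) = t
        have ht : t⁻¹ = t := inv_eq_of_mul_eq_one_right (congrArg Subtype.val h2)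
        rw [show c * (v : G) * c⁻¹ = v * t from e', mul_inv_rev, inv_mul_cancel_right, ht]
    rcases key with k | k
    · rw [k, one_mul, mul_one]
    · refine Subtype.ext ?_
      have k' := k
      simp only [Subgroup.coe_mul] at k' ⊢
      rw [k']
      exact (hc _).symm.eq
  · rw [QG, Subgroup.card_map_of_injective (Subgroup.subtype_injective _), H.cardQ]
  · rintro _ ⟨q, hq, rfl⟩ hz
    have hfix : actQ x ((⟨q, hq⟩ : Q) : Q ⧸ Subgroup.center Q) = ((⟨q, hq⟩ : Q) : Q ⧸ Subgroup.center Q) := by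
      rw [actQ_mk, QuotientGroup.eq]
      have key : ((MulAut.conjNormal (H := Q) x ⟨q, hq⟩)⁻¹ * ⟨q, hq⟩ : Q) = 1 ∨
          (((MulAut.conjNormal (H := Q) x ⟨q, hq⟩)⁻¹ * ⟨q, hq⟩ : Q) : Subgroup.centralizer ({t} : Set G)) = tC t := by
        rcases hz with e' | e'
        · left
          refine Subtype.ext (Subtype.ext ?_)
          show ((x : G) * (q : G) * (x : G)⁻¹)⁻¹ * (q : G) = 1
          rw [show (x : G) * (q : G) * (x : G)⁻¹ = q from e', inv_mul_cancel]
        · right
          refine Subtype.ext ?_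
          show ((x : G) * (q : G) * (x : G)⁻¹)⁻¹ * (q : G) = t
          have ht : t⁻¹ = t := inv_eq_of_mul_eq_one_right (congrArg Subtype.val h2)
          rw [show (x : G) * (q : G) * (x : G)⁻¹ = q * t from e', mul_inv_rev, inv_mul_cancel_right, ht]
      rcases key with k | k
      · rw [k]; exact one_mem _
      · exact Subgroup.mem_center_iff.2 fun b => Subtype.ext (by
          have k' := k
          simp only [Subgroup.coe_mul] at k' ⊢
          rw [k']; exact (hc _).symm.eq)
    have h := H.free e hxN hxQ hx3 _ hfix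
    rcases H.center_two _ ((QuotientGroup.eq_one_iff (⟨q, hq⟩ : Q)).1 h) with e' | e'
    · exact Or.inl (congrArg Subtype.val e')
    · refine Or.inr ?_
      show (q : G) = 1 * t
      rw [one_mul]
      exact congrArg Subtype.val e'

/-- the two-core is the extraspecial subgroup -/
theorem Chain.core (H : Chain t Q N M) [Q.Normal] [N.Normal] [M.Normal] (e : M ⧸ N.subgroupOf M ≃* G22) :
    Cfsg.pCore 2 (Subgroup.centralizer ({t} : Set G)) = Q := by
  haveI : Fact (Nat.Prime 2) := ⟨Nat.prime_two⟩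
  set R := Cfsg.pCore 2 (Subgroup.centralizer ({t} : Set G))
  have hQR : Q ≤ R := Fusion.le_pCore (IsPGroup.of_card H.cardQ)
  have hR2 : IsPGroup 2 R := Fusion.isPGroup_pCore 2 _
  haveI hRn : R.Normal := by
    haveI : R.Characteristic := Fusion.pCore_characteristic
    infer_instance
  refine le_antisymm (fun r hr => ?_) hQR
  haveI := simple_G22
  let π : M →* G22 := e.toMonoidHom.comp (QuotientGroup.mk' _)
  have hπk : ∀ m : M, π m = 1 ↔ (m : Subgroup.centralizer ({t} : Set G)) ∈ N := fun m => by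
    show e (QuotientGroup.mk m) = 1 ↔ _
    rw [MulEquiv.map_eq_one_iff, QuotientGroup.eq_one_iff, Subgroup.mem_subgroupOf]
  haveI : ((R.subgroupOf M).map π).Normal :=
    (Subgroup.Normal.subgroupOf inferInstance M).map π (e.surjective.comp (QuotientGroup.mk'_surjective _))
  have hNQ : ∀ n ∈ N, n ∈ R → n ∈ Q := by
    intro n hn hnR
    obtain ⟨y, hyN, hyQ, hy3, -⟩ := H.exists_three
    obtain ⟨i, hi, hq⟩ := H.N_dec hyN hyQ hy3 hn
    have hyi : y ^ i ∈ R := by
      have := mul_mem (inv_mem (hQR hq)) hnR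
      rwa [mul_inv_rev, inv_inv, mul_assoc, inv_mul_cancel, mul_one] at this
    rcases (show i = 0 ∨ i = 1 ∨ i = 2 by omega) with rfl | rfl | rfl
    · simpa using hq
    all_goals
      exfalso
      have hy : y ∈ R := by
        first
          | (rw [pow_one] at hyi; exact hyi)
          | (have := mul_mem hyi hyi
             rwa [← pow_add, show 2 + 2 = 3 + 1 from rfl, pow_succ, hy3, one_mul] at this)
      obtain ⟨k, hk⟩ := hR2 ⟨y, hy⟩
      have h1 : orderOf y ∣ 2 ^ k := orderOf_dvd_of_pow_eq_one (congrArg Subtype.val hk)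
      rw [orderOf_eq_prime hy3 fun e => hyQ (e ▸ one_mem Q)] at h1
      have := (Nat.Prime.dvd_of_dvd_pow Nat.prime_three h1)
      norm_num at this
  have hbot : (R.subgroupOf M).map π = ⊥ := by
    refine (IsSimpleGroup.eq_bot_or_eq_top_of_normal _ inferInstance).resolve_right fun htop => ?_
    have h2 : IsPGroup 2 (⊤ : Subgroup G22) := htop ▸ (hR2.comap_of_injective M.subtype
      (Subgroup.subtype_injective _)).map π
    obtain ⟨g, hg, -⟩ := e_pows
    obtain ⟨k, hk⟩ := h2 ⟨ea, Subgroup.mem_top _⟩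
    have h11 : orderOf ea = 11 := by
      haveI : Fact (Nat.Prime 11) := ⟨by norm_num⟩
      exact orderOf_eq_prime e_pows.1 e_pows.2.1
    have h1 : orderOf ea ∣ 2 ^ k := orderOf_dvd_of_pow_eq_one (congrArg Subtype.val hk)
    rw [h11] at h1
    have := Nat.Prime.dvd_of_dvd_pow (by norm_num) h1
    norm_num at this
  have hRM : ∀ m ∈ M, m ∈ R → m ∈ Q := fun m hm hmR => hNQ m ((hπk ⟨m, hm⟩).1
    (Subgroup.mem_bot.1 (hbot ▸ ⟨⟨m, hm⟩, hmR, rfl⟩))) hmR
  refine hRM r (H.outer r fun m hm => ?_) hr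
  refine H.QN (hRM _ (mul_mem (Subgroup.Normal.conj_mem inferInstance m hm r) (inv_mem hm)) ?_)
  rw [show r * m * r⁻¹ * m⁻¹ = r * (m * r⁻¹ * m⁻¹) by group]
  exact mul_mem hr (Subgroup.Normal.conj_mem inferInstance _ (inv_mem hr) m)

/-- conjugation on the quotient of the middle pair -/
noncomputable def quotHom [N.Normal] [M.Normal] (e : M ⧸ N.subgroupOf M ≃* G22) :
    Subgroup.centralizer ({t} : Set G) →* MulAut G22 :=
  (MulAut.congr e).toMonoidHom.comp
    { toFun := fun c => QuotientGroup.congr (N.subgroupOf M) (N.subgroupOf M) (MulAut.conjNormal (H := M) c) (by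
        ext m
        simp only [Subgroup.mem_map, MulEquiv.coe_toMonoidHom, Subgroup.mem_subgroupOf]
        constructor
        · rintro ⟨a, ha, rfl⟩
          show ((MulAut.conjNormal (H := M) c a : M) : Subgroup.centralizer ({t} : Set G)) ∈ N
          rw [MulAut.conjNormal_apply]
          exact Subgroup.Normal.conj_mem inferInstance _ ha c
        · intro hm
          refine ⟨(MulAut.conjNormal (H := M) c).symm m, ?_, (MulAut.conjNormal (H := M) c).apply_symm_apply m⟩
          rw [MulAut.conjNormal_symm_apply]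
          have := Subgroup.Normal.conj_mem (inferInstance : N.Normal) _ hm c⁻¹
          rwa [inv_inv] at this)
      map_one' := MulEquiv.ext fun v => by
        induction v using QuotientGroup.induction_on with | _ v => ?_
        rw [QuotientGroup.congr_mk, map_one]; rfl
      map_mul' := fun a b => MulEquiv.ext fun v => by
        induction v using QuotientGroup.induction_on with | _ v => ?_
        rw [MulAut.mul_apply, QuotientGroup.congr_mk, QuotientGroup.congr_mk, QuotientGroup.congr_mk, map_mul]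
        rfl }

theorem quotHom_apply [N.Normal] [M.Normal] (e : M ⧸ N.subgroupOf M ≃* G22)
    (c : Subgroup.centralizer ({t} : Set G)) (m : M) :
    quotHom e c (e (m : M ⧸ N.subgroupOf M)) =
      e ((MulAut.conjNormal (H := M) c m : M) : M ⧸ N.subgroupOf M) := by
  simp only [quotHom, MonoidHom.comp_apply, MulEquiv.coe_toMonoidHom, MulAut.congr_apply, MulEquiv.trans_apply,
    MulEquiv.symm_apply_apply]
  rfl

theorem Chain.quot (H : Chain t Q N M) [Q.Normal] [N.Normal] [M.Normal] (e : M ⧸ N.subgroupOf M ≃* G22) :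
    Function.Surjective (quotHom (t := t) e) ∧ ∀ c, quotHom e c = 1 ↔ c ∈ N := by
  haveI := simple_G22
  have hker : ∀ c, quotHom e c = 1 ↔ c ∈ N := by
    intro c
    constructor
    · intro h
      have hall : ∀ m ∈ M, c * m * c⁻¹ * m⁻¹ ∈ N := by
        intro m hm
        have e1 := quotHom_apply e c ⟨m, hm⟩
        rw [h, MulAut.one_apply, eq_comm, e.injective.eq_iff, QuotientGroup.eq_iff_div_mem, div_eq_mul_inv,
          Subgroup.mem_subgroupOf] at e1
        simpa [MulAut.conjNormal_apply] using e1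
      have hcM := H.outer c hall
      have h1 : MulAut.conj (e ((⟨c, hcM⟩ : M) : M ⧸ N.subgroupOf M)) = 1 := MulEquiv.ext fun v => by
        obtain ⟨w, rfl⟩ := e.surjective v
        induction w using QuotientGroup.induction_on with | _ w => ?_
        rw [MulAut.conj_apply, MulAut.one_apply, ← map_inv, ← map_mul, ← map_mul, ← QuotientGroup.mk_inv,
          ← QuotientGroup.mk_mul, ← QuotientGroup.mk_mul]
        refine congrArg e ?_
        rw [QuotientGroup.eq_iff_div_mem, div_eq_mul_inv, Subgroup.mem_subgroupOf]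
        simpa using hall w w.2
      have h2 := conj_inj22 (h1.trans (map_one _).symm)
      rwa [MulEquiv.map_eq_one_iff, QuotientGroup.eq_one_iff, Subgroup.mem_subgroupOf] at h2
    · intro hc
      refine MulEquiv.ext fun v => ?_
      obtain ⟨w, rfl⟩ := e.surjective v
      induction w using QuotientGroup.induction_on with | _ w => ?_
      rw [quotHom_apply, MulAut.one_apply]
      refine congrArg e ?_
      rw [QuotientGroup.eq_iff_div_mem, div_eq_mul_inv, Subgroup.mem_subgroupOf, Subgroup.coe_mul,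
        InvMemClass.coe_inv, MulAut.conjNormal_apply, show c * (w : Subgroup.centralizer ({t} : Set G)) * c⁻¹ *
          (w : Subgroup.centralizer ({t} : Set G))⁻¹ = c * ((w : Subgroup.centralizer ({t} : Set G)) * c⁻¹ *
          (w : Subgroup.centralizer ({t} : Set G))⁻¹) by group]
      exact mul_mem hc (Subgroup.Normal.conj_mem inferInstance _ (inv_mem hc) _)
  refine ⟨?_, hker⟩
  -- equal orders
  have hk : (quotHom (t := t) e).ker = N := Subgroup.ext fun c => by rw [MonoidHom.mem_ker, hker]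
  have hC : Nat.card (quotHom (t := t) e).range = 2 * 443520 := by
    rw [← Nat.card_congr (QuotientGroup.quotientKerEquivRange _).toEquiv, ← Subgroup.index_eq_card, hk,
      ← Subgroup.relIndex_mul_index H.NM, H.index, Subgroup.relIndex, Subgroup.index_eq_card,
      Nat.card_congr e.toEquiv, Local.FS.Mathieu.card_m22]
  have hA : Nat.card (MulAut G22) = 2 * 443520 := by
    have h1 := (Cfsg.Inn G22).card_mul_index
    rw [show (Cfsg.Inn G22).index = 2 from MathieuOutTwo.card_out_M22,
      show Nat.card (Cfsg.Inn G22) = Nat.card G22 from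
        (Nat.card_congr (MonoidHom.ofInjective conj_inj22).toEquiv).symm, Local.FS.Mathieu.card_m22] at h1
    omega
  exact MonoidHom.range_eq_top.1 (Subgroup.eq_top_of_card_eq _ (hC.trans hA.symm))

/-- some element of the centraliser inverts the element of order three -/
theorem Chain.inverter (H : Chain t Q N M) [Q.Normal] [N.Normal] [M.Normal] (e : M ⧸ N.subgroupOf M ≃* G22)
    (hxN : x ∈ N) (hxQ : x ∉ Q) (hx3 : x ^ 3 = 1) : ∃ c : Subgroup.centralizer ({t} : Set G), c * x * c⁻¹ = x⁻¹ := by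
  have hx1 : x ≠ 1 := fun e => hxQ (e ▸ one_mem Q)
  by_contra hno
  push Not at hno
  -- everything commutes with the element modulo the extraspecial subgroup
  have hall : ∀ c : Subgroup.centralizer ({t} : Set G), c * x * c⁻¹ * x⁻¹ ∈ Q := by
    intro c
    obtain ⟨n, hn, i, hi, he⟩ := H.conj_pow hxN hxQ hx3 (Subgroup.Normal.conj_mem inferInstance x hxN c)
      (by rw [_root_.conj_pow, hx3, mul_one, mul_inv_cancel])
    rw [show n * (c * x * c⁻¹) * n⁻¹ = n * c * x * (n * c)⁻¹ by group] at he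
    rcases (show i = 0 ∨ i = 1 ∨ i = 2 by omega) with rfl | rfl | rfl
    · rw [pow_zero] at he; exact absurd (conj_eq_one_iff.1 he) hx1
    · rw [pow_one] at he
      have h1 := H.commM hxN (inv_mem (H.NM hn))
      have e2 : c * x * c⁻¹ = n⁻¹ * x * n⁻¹⁻¹ := by
        calc c * x * c⁻¹ = n⁻¹ * (n * c * x * (n * c)⁻¹) * n := by group
          _ = n⁻¹ * x * n⁻¹⁻¹ := by rw [he, inv_inv]
      rwa [e2]
    · refine absurd ?_ (hno (n * c))
      rw [he, inv_eq_of_mul_eq_one_right (show x * x ^ 2 = 1 by rw [← pow_succ', hx3])]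
  set o := H.ord_data e hxN hxQ hx3
  obtain ⟨vec, C⟩ := o.exists_Coord
  set π := C.rep o with hπ
  have hπx : π x = gW := Equiv.ext fun v => by rw [C.xc_rep o x rfl, gW_apply]
  have hπk : ∀ c, π c = 1 ↔ c ∈ Q := fun c => (C.rep_ker o c).trans mem_QG
  have hlin : ∀ c, π c ∈ LinG := fun c =>
    ⟨C.rep_add o c, C.rep_w o c (by
      have := (mem_QG (c := c * x * c⁻¹ * x⁻¹)).2 (hall c)
      exact this), C.rep_q o c⟩
  let P : M →* M.map π := π.subgroupMap M
  let f : M →* G22 := e.toMonoidHom.comp (QuotientGroup.mk' _)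
  have hfk : ∀ m : M, f m = 1 ↔ (m : Subgroup.centralizer ({t} : Set G)) ∈ N := fun m => by
    show e (QuotientGroup.mk m) = 1 ↔ _
    rw [MulEquiv.map_eq_one_iff, QuotientGroup.eq_one_iff, Subgroup.mem_subgroupOf]
  have hPs : Function.Surjective P := π.subgroupMap_surjective M
  let ψ : M.map π →* G22 := MonoidHom.liftOfSurjective P hPs ⟨f, fun m hm => by
    rw [MonoidHom.mem_ker, hfk]
    exact H.QN ((hπk _).1 (congrArg Subtype.val (MonoidHom.mem_ker.1 hm)))⟩
  have hψ : ∀ m, ψ (P m) = f m := fun m => MonoidHom.liftOfRightInverse_comp_apply _ _ _ _ _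
  have hO : Onto (M.map π) ψ := ⟨fun y => by
      obtain ⟨m, rfl⟩ := (e.surjective.comp (QuotientGroup.mk'_surjective _) : Function.Surjective f) y
      exact ⟨P m, hψ m⟩,
    ⟨x, H.NM hxN, hπx⟩, fun k => by
      obtain ⟨m, rfl⟩ := hPs k
      rw [hψ, hfk]
      show _ ↔ π m ∈ Subgroup.zpowers gW
      constructor
      · intro hm
        obtain ⟨i, -, hi⟩ := H.N_dec hxN hxQ hx3 hm
        have e1 : π m = gW ^ i := by
          have := (hπk _).2 hi
          rwa [map_mul, map_inv, mul_inv_eq_one, map_pow, hπx] at this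
        exact e1 ▸ Subgroup.npow_mem_zpowers gW i
      · rintro ⟨i, hi⟩
        have h1 : π (m * (x ^ i)⁻¹) = 1 := by
          rw [map_mul, map_inv, map_zpow, hπx, ← show gW ^ i = π m from hi, mul_inv_cancel]
        have := mul_mem (H.QN ((hπk _).1 h1)) (zpow_mem hxN i)
        rwa [inv_mul_cancel_right] at this⟩
  obtain ⟨⟨B, hB, hBK⟩, hmdl⟩ := model_unique (fun p hp => by obtain ⟨c, -, rfl⟩ := hp; exact hlin c) hO
  -- so everything lies in the middle subgroup
  have hall' : ∀ c, c ∈ M := by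
    intro c
    have hl : Lin (B * π c * B⁻¹) := (mul_mem (mul_mem (show B ∈ LinG from hB) (hlin c)) (inv_mem (show B ∈ LinG from hB)))
    have hK := norm_lin hmdl hl fun p hp => by
      rw [← hBK] at hp ⊢
      obtain ⟨_, ⟨m, hm, rfl⟩, rfl⟩ := hp
      refine ⟨π (c * m * c⁻¹), ⟨_, Subgroup.Normal.conj_mem inferInstance m hm c, rfl⟩, ?_⟩
      simp only [MulEquiv.coe_toMonoidHom, MulAut.conj_apply, map_mul, map_inv]
    rw [← hBK] at hK
    obtain ⟨_, ⟨m, hm, rfl⟩, hm'⟩ := hK
    simp only [MulEquiv.coe_toMonoidHom, MulAut.conj_apply] at hm'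
    have h1 : π (m⁻¹ * c) = 1 := by
      rw [map_mul, map_inv, inv_mul_eq_one]
      exact mul_left_cancel (mul_right_cancel hm')
    have := mul_mem hm (H.NM (H.QN ((hπk _).1 h1)))
    rwa [mul_inv_cancel_left] at this
  have : M = ⊤ := eq_top_iff.2 fun c _ => hall' c
  have h2 := H.index
  rw [this, Subgroup.index_top] at h2
  norm_num at h2

theorem Chain.derived (H : Chain t Q N M) [Q.Normal] [N.Normal] [M.Normal] (e : M ⧸ N.subgroupOf M ≃* G22)
    (hxN : x ∈ N) (hxQ : x ∉ Q) (hx3 : x ^ 3 = 1) :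
    x ∈ ⁅Subgroup.centralizer ({x} : Set (Subgroup.centralizer ({t} : Set G))),
      Subgroup.centralizer ({x} : Set (Subgroup.centralizer ({t} : Set G)))⁆ := by
  set Z := Subgroup.centralizer ({x} : Set (Subgroup.centralizer ({t} : Set G))) with hZ
  have hx1 : x ≠ 1 := fun e => hxQ (e ▸ one_mem Q)
  have hMZ : M ≤ Z ⊔ Q := by
    intro m hm
    obtain ⟨n, hn, i, hi, he⟩ := H.conj_pow hxN hxQ hx3 (Subgroup.Normal.conj_mem inferInstance x hxN m)
      (by rw [_root_.conj_pow, hx3, mul_one, mul_inv_cancel])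
    rw [show n * (m * x * m⁻¹) * n⁻¹ = n * m * x * (n * m)⁻¹ by group] at he
    have h1 := H.commM hxN (mul_mem (H.NM hn) hm)
    rw [he] at h1
    have hi1 : i = 1 := by
      rcases (show i = 0 ∨ i = 1 ∨ i = 2 by omega) with rfl | rfl | rfl
      · rw [pow_zero] at he; exact absurd (conj_eq_one_iff.1 he) hx1
      · rfl
      · rw [pow_two, mul_inv_cancel_right] at h1; exact absurd h1 hxQ
    rw [hi1, pow_one] at he
    have hnm : n * m ∈ Z := Subgroup.mem_centralizer_singleton_iff.2 (mul_inv_eq_iff_eq_mul.1 he)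
    obtain ⟨j, -, hj⟩ := H.N_dec hxN hxQ hx3 hn
    have hxZ : x ^ j ∈ Z := pow_mem (show x ∈ Z from Subgroup.mem_centralizer_singleton_iff.2 rfl) j
    have hnZ : n ∈ Z ⊔ Q := by
      rw [show n = n * (x ^ j)⁻¹ * x ^ j by group]
      exact mul_mem (Subgroup.mem_sup_right hj) (Subgroup.mem_sup_left hxZ)
    rw [show m = n⁻¹ * (n * m) by group]
    exact mul_mem (inv_mem hnZ) (Subgroup.mem_sup_left hnm)
  have hder : ⁅M, M⁆ ≤ ⁅Z, Z⁆ ⊔ Q := by
    refine Subgroup.commutator_le.2 fun a ha b hb => ?_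
    let π := QuotientGroup.mk' Q
    have key : ∀ y, y ∈ ⁅Z, Z⁆ ⊔ Q ↔ π y ∈ (⁅Z, Z⁆).map π := fun y => by
      rw [← Subgroup.mem_comap, Subgroup.comap_map_eq, QuotientGroup.ker_mk']
    have hmap : ∀ y ∈ Z ⊔ Q, π y ∈ Z.map π := fun y hy => by
      rw [← Subgroup.mem_comap, Subgroup.comap_map_eq, QuotientGroup.ker_mk']; exact hy
    rw [key, map_commutatorElement, Subgroup.map_commutator]
    exact Subgroup.commutator_mem_commutator (hmap a (hMZ ha)) (hmap b (hMZ hb))
  obtain ⟨d, hd, q, hq, hdq⟩ := Subgroup.mem_sup_of_normal_right.1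
    ((sup_le hder le_sup_right : ⁅M, M⁆ ⊔ Q ≤ ⁅Z, Z⁆ ⊔ Q) (H.perf (H.NM hxN)))
  have hdZ : d ∈ Z := (Subgroup.commutator_le.2 fun a ha b hb =>
    mul_mem (mul_mem (mul_mem ha hb) (inv_mem ha)) (inv_mem hb) : ⁅Z, Z⁆ ≤ Z) hd
  have hqZ : Commute q x := by
    have e1 : d⁻¹ * x = q := by rw [← hdq, inv_mul_cancel_left]
    rw [← e1]
    exact (Commute.inv_left (Subgroup.mem_centralizer_singleton_iff.1 hdZ)).mul_left (Commute.refl x)
  have o := H.ord_data e hxN hxQ hx3
  obtain ⟨-, -, h2, hc⟩ := H.tC_facts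
  have hq4 : q ^ 4 = 1 := by
    rcases o.free (q : G) (mem_QG.2 hq) (Or.inl (show (x : G) * q * (x : G)⁻¹ = q from congrArg Subtype.val
      (show x * q * x⁻¹ = q by rw [hqZ.symm.eq, mul_inv_cancel_right]))) with e' | e'
    · rw [show q = 1 from Subtype.ext e', one_pow]
    · rw [show q = tC t from Subtype.ext (e'.trans (one_mul t)), show (4 : ℕ) = 2 * 2 from rfl, pow_mul, pow_two,
        pow_two, h2, one_mul]
  have e4 : x = d ^ 4 := by
    have hdq' : Commute d q := by
      rw [show q = d⁻¹ * x by rw [← hdq, inv_mul_cancel_left]]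
      exact (Commute.refl d).inv_right.mul_right (Subgroup.mem_centralizer_singleton_iff.1 hdZ)
    calc x = x ^ 4 := by rw [pow_succ x 3, hx3, one_mul]
      _ = (d * q) ^ 4 := by rw [hdq]
      _ = d ^ 4 := by rw [hdq'.mul_pow, hq4, mul_one]
  rw [e4]
  exact pow_mem hd 4

/-- the Janko four type -/
theorem Chain.janko (H : Chain t Q N M) [Q.Normal] [N.Normal] [M.Normal] (e : M ⧸ N.subgroupOf M ≃* G22) :
    Cfsg.IsOfJankoFourTypeAt t := by
  obtain ⟨x, hxN, hxQ, hx3, hx1⟩ := H.exists_three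
  obtain ⟨c, hc⟩ := H.inverter e hxN hxQ hx3
  have o := H.ord_data e hxN hxQ hx3
  obtain ⟨hsur, hker⟩ := H.quot e
  have hcore : Cfsg.twoCoreOfCentralizer t = QG Q := by rw [Cfsg.twoCoreOfCentralizer, H.core e]; rfl
  have hxG : (x : G) ≠ 1 := fun e' => hx1 (Subtype.ext e')
  have hxo : orderOf (x : G) = 3 := orderOf_eq_prime (congrArg Subtype.val hx3) hxG
  have hCx : ∀ {a : G}, a ∈ Subgroup.centralizer (Subgroup.zpowers (x : G) : Set G) ↔
      Commute a (x : G) := fun {a} => by
    rw [Subgroup.mem_centralizer_iff]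
    exact ⟨fun h => (h _ (Subgroup.mem_zpowers _)).symm, fun h p hp => by
      obtain ⟨k, rfl⟩ := hp; exact (h.zpow_right k).symm.eq⟩
  refine ⟨Subgroup.zpowers (x : G), H.ord, ?_, ?_, ?_, ⟨N.map (Subgroup.centralizer ({t} : Set G)).subtype, ?_, ?_, ?_, ?_, ?_, ?_⟩, ?_, ?_, ?_, ?_⟩
  · rw [hcore]
    exact AffineLarge.extraspecial_equiv (Subgroup.equivMapOfInjective Q _ (Subgroup.subtype_injective _)) H.extra
  · rw [hcore, QG, Subgroup.card_map_of_injective (Subgroup.subtype_injective _), H.cardQ]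
  · rintro a ⟨haC, haQ⟩
    rw [hcore] at haQ ⊢
    refine o.inner a (Subgroup.mem_centralizer_singleton_iff.1 haC) fun q hq => Or.inl ?_
    rw [← Subgroup.mem_centralizer_iff.1 haQ q hq, mul_inv_cancel_right]
  · rw [hcore]; exact Subgroup.map_mono H.QN
  · exact Subgroup.map_subtype_le N
  · intro a ha
    rw [Subgroup.mem_normalizer_iff]
    intro n
    constructor
    · rintro ⟨m, hm, rfl⟩
      exact ⟨(⟨a, ha⟩ : (Subgroup.centralizer ({t} : Set G))) * m * (⟨a, ha⟩ : (Subgroup.centralizer ({t} : Set G)))⁻¹, Subgroup.Normal.conj_mem inferInstance m hm _, rfl⟩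
    · rintro ⟨m, hm, e'⟩
      refine ⟨(⟨a, ha⟩ : (Subgroup.centralizer ({t} : Set G)))⁻¹ * m * (⟨a, ha⟩ : (Subgroup.centralizer ({t} : Set G))), ?_, ?_⟩
      · have := Subgroup.Normal.conj_mem (inferInstance : N.Normal) m hm (⟨a, ha⟩ : (Subgroup.centralizer ({t} : Set G)))⁻¹
        rwa [inv_inv] at this
      · show a⁻¹ * (m : G) * a = n
        rw [show (m : G) = a * n * a⁻¹ from e']
        group
  · rw [hcore, QG, Subgroup.card_map_of_injective (Subgroup.subtype_injective _),
      Subgroup.card_map_of_injective (Subgroup.subtype_injective _), H.cardN]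
  · have e1 : (N.map (Subgroup.centralizer ({t} : Set G)).subtype).subgroupOf (Subgroup.centralizer ({t} : Set G)) = N := by
      rw [← Subgroup.comap_subtype, Subgroup.comap_map_eq_self_of_injective (Subgroup.subtype_injective _)]
    have hk : (quotHom (t := t) e).ker = (N.map (Subgroup.centralizer ({t} : Set G)).subtype).subgroupOf (Subgroup.centralizer ({t} : Set G)) := by
      rw [e1]; exact Subgroup.ext fun a => by rw [MonoidHom.mem_ker, hker]
    haveI hn : ((N.map (Subgroup.centralizer ({t} : Set G)).subtype).subgroupOf (Subgroup.centralizer ({t} : Set G))).Normal := hk ▸ inferInstance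
    exact ⟨hn, ⟨(QuotientGroup.quotientMulEquivOfEq hk.symm).trans
      (QuotientGroup.quotientKerEquivOfSurjective _ hsur)⟩⟩
  · exact Subgroup.zpowers_le.2 ⟨x, hxN, rfl⟩
  · rw [Nat.card_zpowers, hxo]
  · refine le_antisymm ?_ (Subgroup.zpowers_le.2 ⟨?_, ?_⟩)
    · rintro a ⟨haQ, hax⟩
      rw [hcore] at haQ
      have h := o.free a haQ (Or.inl (by
        show (x : G) * a * (x : G)⁻¹ = a
        rw [(hCx.1 hax).symm.eq, mul_inv_cancel_right]))
      rcases h with h | h
      · rw [show a = 1 from h]; exact one_mem _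
      · rw [show a = t from (show a = 1 * t from h).trans (one_mul t)]; exact Subgroup.mem_zpowers t
    · rw [hcore]; exact o.xt.mem
    · exact hCx.2 o.xz.symm
  · intro heq
    have hcm : (c : G) ∈ (Subgroup.centralizer ({t} : Set G)) ⊓ Subgroup.normalizer (Subgroup.zpowers (x : G) : Set G) := by
      refine ⟨c.2, Subgroup.mem_normalizer_iff.2 fun p => ?_⟩
      have e1 : (c : G) * x * (c : G)⁻¹ = (x : G)⁻¹ := congrArg Subtype.val hc
      have e2 : (Subgroup.zpowers (x : G)).map (MulAut.conj (c : G)).toMonoidHom = Subgroup.zpowers (x : G) := by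
        rw [MonoidHom.map_zpowers, MulEquiv.coe_toMonoidHom, MulAut.conj_apply, e1, Subgroup.zpowers_inv]
      constructor
      · intro hp; rw [← e2]; exact ⟨p, hp, rfl⟩
      · intro hp
        rw [← e2] at hp
        obtain ⟨p', hp', e3⟩ := hp
        rwa [← show p' = p from mul_left_cancel (mul_right_cancel e3)]
    rw [heq] at hcm
    have h1 := (hCx.1 hcm.2).eq
    have e1 : (c : G) * x * (c : G)⁻¹ = (x : G)⁻¹ := congrArg Subtype.val hc
    rw [h1, mul_inv_cancel_right, eq_inv_iff_mul_eq_one, ← pow_two] at e1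
    have := orderOf_dvd_of_pow_eq_one e1
    rw [hxo] at this
    norm_num at this
  · refine Subgroup.zpowers_le.2 ?_
    have h := Subgroup.mem_map_of_mem (Subgroup.centralizer ({t} : Set G)).subtype (H.derived e hxN hxQ hx3)
    rw [Subgroup.map_commutator] at h
    refine Subgroup.commutator_mono ?_ ?_ h <;>
    · rintro _ ⟨a, ha, rfl⟩
      exact ⟨a.2, hCx.2 (congrArg Subtype.val (Subgroup.mem_centralizer_singleton_iff.1 ha))⟩

end Cfsg.Agent.Spor.JFour.Bridge
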