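import Cfsg.Agent.Lib.Spor.JFourOuter

/-!
Janko four type: a subgroup of order 2^10 meeting the largest elementary abelian subgroup trivially, built from a
singular subspace and a group of order sixteen over the outer and two inner involutions.
-/

set_option autoImplicit false
set_option maxRecDepth 100000
set_option linter.unusedSectionVars false

namespace Cfsg.Agent.Spor.JFour

open Cfsg.Agent.Spor.SUSix (V6 code code_lt vecOf_code)
open Cfsg.Agent.Spor.SpFour (F4)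

attribute [local irreducible] Gam Kp Chk.app BlockKer Cmp

/-- element with given exponents -/
def dEl {H : Type*} [Group H] (a m t : H) (n : ℕ) : H := a ^ (n % 2) * (m ^ (n / 2 % 4) * t ^ (n / 8))

theorem dEl_range {H : Type*} [Group H] [Finite H] {a m t : H} (ha : a * a = 1) (hm : m ^ 4 = 1)
    (ht : t * t = 1) (ham : a * m * a = m⁻¹) (hta : Commute t a) (htm : Commute t m) :
    ∀ q ∈ Subgroup.closure ({a, m, t} : Set H), ∃ n : Fin 16, dEl a m t n.val = q := by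
  have ha2 : ∀ i, a ^ i = a ^ (i % 2) := fun i => pow_eq_pow_mod i (by rw [pow_two, ha])
  have ht2 : ∀ i, t ^ i = t ^ (i % 2) := fun i => pow_eq_pow_mod i (by rw [pow_two, ht])
  have hm4 : ∀ i, m ^ i = m ^ (i % 4) := fun i => pow_eq_pow_mod i hm
  have hmk : ∀ i j k : ℕ, ∃ n : Fin 16, dEl a m t n.val = a ^ i * (m ^ j * t ^ k) := by
    intro i j k
    refine ⟨⟨i % 2 + 2 * (j % 4) + 8 * (k % 2), by omega⟩, ?_⟩
    simp only [dEl]
    rw [ha2 i, hm4 j, ht2 k, show (i % 2 + 2 * (j % 4) + 8 * (k % 2)) % 2 = i % 2 by omega,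
      show (i % 2 + 2 * (j % 4) + 8 * (k % 2)) / 2 % 4 = j % 4 by omega,
      show (i % 2 + 2 * (j % 4) + 8 * (k % 2)) / 8 = k % 2 by omega]
  have hmi : m⁻¹ = m ^ 3 := inv_eq_of_mul_eq_one_right (by rw [← pow_succ', hm])
  have hma : m * a = a * m ^ 3 := by
    rw [← hmi, ← ham, ← mul_assoc, ← mul_assoc, ha, one_mul]
  intro q hq
  rw [← Subgroup.mem_toSubmonoid, Subgroup.closure_toSubmonoid_of_finite] at hq
  induction hq using Submonoid.closure_induction_left with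
  | one => exact ⟨0, by simp [dEl]⟩
  | mul_left g hg y _ ih =>
    obtain ⟨n, rfl⟩ := ih
    simp only [Set.mem_insert_iff, Set.mem_singleton_iff] at hg
    rcases hg with rfl | rfl | rfl
    · obtain ⟨n', e⟩ := hmk (n.val % 2 + 1) (n.val / 2 % 4) (n.val / 8)
      exact ⟨n', e.trans (by rw [dEl, pow_succ', mul_assoc g])⟩
    · rcases Nat.mod_two_eq_zero_or_one n.val with e2 | e2 <;> rw [show dEl a g t n.val = a ^ (n.val % 2) * (g ^ (n.val / 2 % 4) * t ^ (n.val / 8)) from rfl, e2]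
      · obtain ⟨n', e⟩ := hmk 0 (n.val / 2 % 4 + 1) (n.val / 8)
        exact ⟨n', e.trans (by rw [pow_zero, one_mul, one_mul, pow_succ', mul_assoc g])⟩
      · obtain ⟨n', e⟩ := hmk 1 (3 + n.val / 2 % 4) (n.val / 8)
        refine ⟨n', e.trans ?_⟩
        rw [pow_one, ← mul_assoc g a, hma, pow_add]
        simp only [mul_assoc]
    · obtain ⟨n', e⟩ := hmk (n.val % 2) (n.val / 2 % 4) (n.val / 8 + 1)
      refine ⟨n', e.trans ?_⟩
      rw [dEl, pow_succ', ← mul_assoc g (a ^ (n.val % 2)), (hta.pow_right _).eq, mul_assoc (a ^ (n.val % 2)) g,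
        ← mul_assoc g (m ^ (n.val / 2 % 4)), (htm.pow_right _).eq, mul_assoc (m ^ (n.val / 2 % 4)) g]

/-- the singular vectors of the complement -/
def CU : Set V6 := {v | code v ∈ Dat.cplU}

theorem cpl_rel : (∀ i < 3, Dat.cplG.getD i 0 < 256) ∧
    Chk.linL (Chk.sylE (Dat.cplG.getD 0 0)) = true ∧ Chk.linL (Chk.sylE (Dat.cplG.getD 1 0)) = true ∧
    Chk.cmul (Chk.sylE (Dat.cplG.getD 0 0)) (Chk.sylE (Dat.cplG.getD 0 0)) = Chk.idL ∧
    Chk.cmul (Chk.sylE (Dat.cplG.getD 1 0)) (Chk.sylE (Dat.cplG.getD 1 0)) = Chk.idL ∧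
    Chk.cmul (Chk.sylE (Dat.cplG.getD 2 0)) (Chk.sylE (Dat.cplG.getD 2 0)) = Chk.idL ∧
    Chk.cpow (Chk.cmul (Chk.sylE (Dat.cplG.getD 0 0)) (Chk.sylE (Dat.cplG.getD 1 0))) 4 = Chk.idL ∧
    Chk.sylE (Dat.outI.getD 0 0) = Chk.sylE (Dat.cplG.getD 2 0) ∧
    Chk.sylE (Dat.outI.getD 1 0) = Chk.cmul (Chk.sylE (Dat.cplG.getD 2 0)) (Chk.sylE (Dat.cplG.getD 0 0)) ∧
    Chk.sylE (Dat.outI.getD 2 0) = Chk.cmul (Chk.sylE (Dat.cplG.getD 2 0)) (Chk.sylE (Dat.cplG.getD 1 0)) := by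
  have h := Chk.cpl_ok
  simp only [Chk.cplOK, Bool.and_eq_true, List.all_eq_true, List.mem_range, Bool.or_eq_true, Bool.not_eq_true',
    leq_iff] at h
  exact ⟨by decide +kernel, h.1.1.1.1.1.1.1.1.1.1.1.1.1.1.1.2, h.1.1.1.1.1.1.1.1.1.1.1.1.1.1.2,
    h.1.1.1.1.1.1.1.1.1.1.1.1.2, h.1.1.1.1.1.1.1.1.1.1.1.2, h.1.1.1.1.1.1.1.1.1.1.2, h.1.1.1.1.1.1.1.1.1.2,
    h.1.1.1.1.1.1.2, h.1.1.1.1.1.2, h.1.1.1.1.2⟩

theorem cplE_inj : ∀ n m : Fin 16, Chk.leq (Chk.cplE n.val) (Chk.cplE m.val) = true → n = m := by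
  decide +kernel

theorem cplE_free (n : Fin 16) (e : Fin 16) (h : Chk.cplE n.val = Chk.eL e.val) : n = 0 := by
  have h' := Chk.cpl_ok
  simp only [Chk.cplOK, Bool.and_eq_true, List.all_eq_true, List.mem_range, Bool.or_eq_true,
    Bool.not_eq_true'] at h'
  refine Fin.ext (Nat.eq_of_beq_eq_true ((h'.1.1.1.2 n.val n.2).resolve_right fun hf => ?_))
  have ht : ((List.range 16).any fun e => Chk.leq (Chk.cplE n.val) (Chk.eL e)) = true :=
    List.any_eq_true.2 ⟨e.val, List.mem_range.2 e.2, leq_iff.2 h⟩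
  exact Bool.false_ne_true (hf.symm.trans ht)

theorem CU_facts : (0 : V6) ∈ CU ∧ (∀ u ∈ CU, qB u = false ∧ (u ∈ FS → u = 0)) ∧
    (∀ u ∈ CU, ∀ v ∈ CU, bB u v = false ∧ u + v ∈ CU) ∧
    (∀ n : Fin 16, ∀ u ∈ CU, ∀ p : PV, AddP p → cols p = Chk.cplE n.val → p u ∈ CU) ∧
    ∃ U : Fin 64 → V6, Function.Injective U ∧ ∀ i, U i ∈ CU := by
  have h := Chk.cpl_ok
  simp only [Chk.cplOK, Bool.and_eq_true, List.all_eq_true, List.mem_range, Bool.or_eq_true, Bool.not_eq_true'] at h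
  obtain ⟨⟨⟨-, hlen⟩, h0⟩, hall⟩ := h
  have hlen' : Dat.cplU.length = 64 := Nat.eq_of_beq_eq_true hlen
  have hmem : ∀ k, Dat.cplU.any (Nat.beq k) = true ↔ k ∈ Dat.cplU := fun k => by
    rw [List.any_eq_true]
    exact ⟨fun ⟨x, hx, e⟩ => Nat.eq_of_beq_eq_true e ▸ hx, fun hk => ⟨k, hk, Nat.beq_refl k⟩⟩
  have hidx : ∀ u ∈ CU, ∃ i, i < 64 ∧ Dat.cplU.getD i 0 = code u := fun u hu => by
    obtain ⟨i, hi, e⟩ := List.getElem_of_mem hu
    exact ⟨i, hlen' ▸ hi, (List.getD_eq_getElem _ _ hi).trans e⟩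
  refine ⟨show code (0 : V6) ∈ Dat.cplU by rw [code_zero]; exact (hmem 0).1 h0, fun u hu => ?_, fun u hu v hv => ?_,
    fun n u hu p hp hc => ?_, ⟨fun i => SUSix.vecOf (Dat.cplU.getD i.val 0), fun i j e => ?_, fun i => ?_⟩⟩
  · obtain ⟨i, hi, e⟩ := hidx u hu
    obtain ⟨⟨⟨⟨⟨-, hq⟩, -⟩, hF⟩, -⟩, -⟩ := hall i hi
    rw [e] at hq hF
    refine ⟨hq, fun hF' => code_inj ?_⟩
    rw [code_zero]
    refine Nat.eq_of_beq_eq_true (hF.resolve_right fun hf => ?_)
    exact Bool.false_ne_true (hf.symm.trans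
      (List.any_eq_true.2 ⟨code u, (FS_facts.1 u).1 hF', Nat.beq_refl _⟩))
  · obtain ⟨i, hi, e⟩ := hidx u hu
    obtain ⟨j, hj, e'⟩ := hidx v hv
    obtain ⟨h1, h2⟩ := (hall i hi).1.2 j hj
    rw [e, e'] at h1 h2
    exact ⟨h1, show code (u + v) ∈ Dat.cplU by rw [code_add]; exact (hmem _).1 h2⟩
  · obtain ⟨i, hi, e⟩ := hidx u hu
    have h1 := (hall i hi).2 n.val n.2
    rw [e, ← hc, ← app_cols hp] at h1
    exact (hmem _).1 h1
  · have hlt := fun i : Fin 64 => Nat.le_of_ble_eq_true (hall i.val i.2).1.1.1.1.1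
    have e' : Dat.cplU.getD i.val 0 = Dat.cplU.getD j.val 0 := by
      rw [← code_vecOf _ (hlt i), ← code_vecOf _ (hlt j)]
      exact congrArg code e
    by_contra hne
    rcases lt_or_gt_of_ne (fun h => hne (Fin.ext h) : i.val ≠ j.val) with hl | hl
    · have := (hall j.val j.2).1.1.1.2 i.val hl
      rw [e', Nat.beq_refl] at this
      simp at this
    · have := (hall i.val i.2).1.1.1.2 j.val hl
      rw [e', Nat.beq_refl] at this
      simp at this
  · show code (SUSix.vecOf _) ∈ Dat.cplU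
    rw [code_vecOf _ (Nat.le_of_ble_eq_true (hall i.val i.2).1.1.1.1.1), List.getD_eq_getElem _ _ (hlen'.symm ▸ i.2)]
    exact List.getElem_mem _

universe u

variable {G : Type u} [Group G] [Finite G] {z : G} {Q N : Subgroup G} {x : G}
variable (S : Big z Q N x) (f : Frame z Q x)

include S f

/-- an element inverting the element of order three moves the singular part of the section -/
theorem Big.sec_conj_inv {c : Subgroup.centralizer ({z} : Set G)} (hc : (c : G) * x * (c : G)⁻¹ = x⁻¹)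
    {v : V6} (hv : qB v = false) : (c : G) * sec f v * (c : G)⁻¹ = sec f (f.π c v) := by
  obtain ⟨hq, vv, ve⟩ := S.sec_spec f v
  have hcz : Commute (c : G) z := Subgroup.mem_centralizer_singleton_iff.1 c.2
  refine (S.sec_eq f (S.base.ord.normQ c hcz _ hq) (by rw [f.vec_conj c _ hq, vv]) ?_).symm
  set a := sec f v
  set b := x * a * x⁻¹ with hb
  set d := x * b * x⁻¹ with hd
  have ha2 : a * a = 1 := by rw [f.sq_zp S hq, vv, hv]; rfl
  have hb2 : b * b = 1 := by rw [hb, conj_mul, ha2, mul_one, mul_inv_cancel]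
  have hd2 : d * d = 1 := by rw [hd, conj_mul, hb2, mul_one, mul_inv_cancel]
  have habd : a * b * d = 1 := ve
  have hbd : b * d = a := by
    rw [← inv_eq_of_mul_eq_one_right (show a * a = 1 from ha2)]
    exact (inv_eq_of_mul_eq_one_right (by rw [← mul_assoc]; exact habd)).symm
  have hcomm : Commute b d := comm_of_sq hb2 hd2 (by rw [hbd]; exact ha2)
  have hx3 : x * x * x = 1 := by
    rw [← S.base.ord.cube, pow_succ, pow_two]
  have hcx : (c : G)⁻¹ * x * c = x⁻¹ := by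
    calc (c : G)⁻¹ * x * c = (c : G)⁻¹ * (x⁻¹)⁻¹ * c := by rw [inv_inv]
      _ = (c : G)⁻¹ * ((c : G) * x * (c : G)⁻¹)⁻¹ * c := by rw [hc]
      _ = _ := by group
  have e1 : x * ((c : G) * a * (c : G)⁻¹) * x⁻¹ = (c : G) * d * (c : G)⁻¹ := by
    calc _ = (c : G) * (((c : G)⁻¹ * x * c) * a * ((c : G)⁻¹ * x * c)⁻¹) * (c : G)⁻¹ := by group
      _ = (c : G) * (x⁻¹ * a * x) * (c : G)⁻¹ := by rw [hcx, inv_inv]
      _ = _ := by
        have hxi : x⁻¹ = x * x := inv_eq_of_mul_eq_one_right (by rw [← mul_assoc]; exact hx3)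
        rw [show x⁻¹ * a * x = x⁻¹ * a * (x⁻¹)⁻¹ by rw [inv_inv], hxi, hd, hb]
        group
  have e2 : x * ((c : G) * d * (c : G)⁻¹) * x⁻¹ = (c : G) * b * (c : G)⁻¹ := by
    calc _ = (c : G) * (((c : G)⁻¹ * x * c) * d * ((c : G)⁻¹ * x * c)⁻¹) * (c : G)⁻¹ := by group
      _ = (c : G) * (x⁻¹ * d * x) * (c : G)⁻¹ := by rw [hcx, inv_inv]
      _ = _ := by rw [hd]; group
  rw [eta, e1, e2, conj_mul, conj_mul, mul_assoc a d b, ← hcomm.eq, ← mul_assoc a b d, habd, mul_one, mul_inv_cancel]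

/-- the subgroup of order 2^10 -/
theorem Big.exists_compl {A : Subgroup G}
    (hA : ∀ r, r ∈ A ↔ ∃ a ∈ AQset f, ∃ c ∈ AHs S f, r = a * (c : G)) :
    ∃ W : Subgroup (Subgroup.centralizer ({z} : Set G)), Nat.card W = 2 ^ 10 ∧
      (∀ w ∈ W, f.π w ∈ TS) ∧ ∀ w ∈ W, (w : G) ∈ A → w = 1 := by
  obtain ⟨n0, p0, -, hc0, hπ0, hn0, hx0⟩ := S.outer_invol f 0 (by norm_num)
  obtain ⟨n1, p1, -, hc1, hπ1, hn1, hx1⟩ := S.outer_invol f 1 (by norm_num)
  obtain ⟨n2, p2, -, hc2, hπ2, hn2, hx2⟩ := S.outer_invol f 2 (by norm_num)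
  obtain ⟨hlt, hla, hlb, ha2, hb2, ht2, hab4, he0, he1, he2⟩ := cpl_rel
  obtain ⟨ta, htaT, hta⟩ := TS_reach _ (hlt 0 (by norm_num))
  obtain ⟨tb, htbT, htb⟩ := TS_reach _ (hlt 1 (by norm_num))
  obtain ⟨tt, httT, htt⟩ := TS_reach _ (hlt 2 (by norm_num))
  have hap : ∀ {p : PV}, p ∈ TS → AddP p := fun hp => Gam_addP (TS_le hp)
  have hsq : ∀ {p : PV} {i : ℕ}, p ∈ TS → cols p = Chk.sylE i → Chk.cmul (Chk.sylE i) (Chk.sylE i) = Chk.idL →
      p * p = 1 := fun {p i} hp hc h =>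
    eq_of_cols (hap (mul_mem hp hp)) (hap (one_mem _)) (by rw [cols_mul (hap hp), hc, h, cols_one])
  have e0 : f.π n0 = tt := eq_of_cols (Gam_addP ((f.range _).2 ⟨n0, rfl⟩)) (hap httT) (by rw [hπ0, hc0, htt, he0])
  have e1 : f.π n1 = tt * ta := eq_of_cols (Gam_addP ((f.range _).2 ⟨n1, rfl⟩)) (hap (mul_mem httT htaT))
    (by rw [hπ1, hc1, cols_mul (hap httT), htt, hta, he1])
  have e2 : f.π n2 = tt * tb := eq_of_cols (Gam_addP ((f.range _).2 ⟨n2, rfl⟩)) (hap (mul_mem httT htbT))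
    (by rw [hπ2, hc2, cols_mul (hap httT), htt, htb, he2])
  have htt2 := hsq httT htt ht2
  set a := n0 * n1 with hadef
  set b := n0 * n2 with hbdef
  have hπa : f.π a = ta := by rw [hadef, map_mul, e0, e1, ← mul_assoc, htt2, one_mul]
  have hπb : f.π b = tb := by rw [hbdef, map_mul, e0, e2, ← mul_assoc, htt2, one_mul]
  have hcomm : ∀ {n n' : Subgroup.centralizer ({z} : Set G)}, (n : G) * x * (n : G)⁻¹ = x⁻¹ →
      (n' : G) * x * (n' : G)⁻¹ = x⁻¹ → Commute (n * n') S.base.xC := by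
    intro n n' h h'
    refine Subtype.ext (mul_inv_eq_iff_eq_mul.1 ?_)
    calc ((n * n' : Subgroup.centralizer ({z} : Set G)) : G) * x * ((n * n' : Subgroup.centralizer ({z} : Set G)) : G)⁻¹
        = (n : G) * ((n' : G) * x * (n' : G)⁻¹) * (n : G)⁻¹ := by rw [Subgroup.coe_mul]; group
      _ = ((n : G) * x * (n : G)⁻¹)⁻¹ := by rw [h']; group
      _ = x := by rw [h, inv_inv]
  have hax : Commute a S.base.xC := hcomm hx0 hx1
  have hbx : Commute b S.base.xC := hcomm hx0 hx2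
  have haa : a * a = 1 := S.lift_sq f hax (by rw [hπa]; exact hsq htaT hta ha2)
  have hbb : b * b = 1 := S.lift_sq f hbx (by rw [hπb]; exact hsq htbT htb hb2)
  set m := a * b with hmdef
  have hmx : Commute m S.base.xC := hax.mul_left hbx
  have hm4 : m ^ 4 = 1 := by
    rw [show (4 : ℕ) = 2 + 2 from rfl, pow_add]
    refine S.lift_sq f (hmx.pow_left 2) ?_
    rw [← map_mul, ← pow_add, map_pow, map_mul, hπa, hπb]
    exact eq_of_cols (hap (pow_mem (mul_mem htaT htbT) _)) (hap (one_mem _))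
      (by rw [(cols_pow (hap (mul_mem htaT htbT)) _).1, cols_mul (hap htaT), hta, htb, hab4, cols_one])
  have ham : a * m * a = m⁻¹ := by
    rw [hmdef, ← mul_assoc a a b, haa, one_mul, mul_inv_rev, inv_eq_of_mul_eq_one_right hbb,
      inv_eq_of_mul_eq_one_right haa]
  have hn0a : Commute n0 a := comm_of_sq hn0 haa (by
    rw [hadef, ← mul_assoc n0 n0 n1, hn0, one_mul, hn1])
  have hn0b : Commute n0 b := comm_of_sq hn0 hbb (by
    rw [hbdef, ← mul_assoc n0 n0 n2, hn0, one_mul, hn2])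
  set R := Subgroup.closure ({a, m, n0} : Set (Subgroup.centralizer ({z} : Set G)))
  have hR : ∀ r ∈ R, ∃ n : Fin 16, dEl a m n0 n.val = r :=
    dEl_range haa hm4 hn0 ham hn0a (hn0a.mul_right hn0b)
  have hRr : ∀ n : Fin 16, dEl a m n0 n.val ∈ R := fun n =>
    mul_mem (pow_mem (Subgroup.subset_closure (by simp)) _) (mul_mem (pow_mem (Subgroup.subset_closure (by simp)) _)
      (pow_mem (Subgroup.subset_closure (by simp)) _))
  have hπm : f.π m = ta * tb := by rw [hmdef, map_mul, hπa, hπb]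
  have hTS : ∀ n : Fin 16, f.π (dEl a m n0 n.val) ∈ TS ∧ cols (f.π (dEl a m n0 n.val)) = Chk.cplE n.val := by
    intro n
    rw [dEl, map_mul, map_mul, map_pow, map_pow, map_pow, hπa, hπm, e0]
    refine ⟨mul_mem (pow_mem htaT _) (mul_mem (pow_mem (mul_mem htaT htbT) _) (pow_mem httT _)), ?_⟩
    rw [cols_mul (hap (pow_mem htaT _)), cols_mul (hap (pow_mem (mul_mem htaT htbT) _)), (cols_pow (hap htaT) _).1,
      (cols_pow (hap (mul_mem htaT htbT)) _).1, (cols_pow (hap httT) _).1, cols_mul (hap htaT), hta, htb, htt]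
    rfl
  have hRTS : ∀ r ∈ R, f.π r ∈ TS := fun r hr => (hR r hr).elim fun n e => e ▸ (hTS n).1
  have hU : ∀ r ∈ R, ∀ u ∈ CU, f.π r u ∈ CU := fun r hr u hu => by
    obtain ⟨n, rfl⟩ := hR r hr
    exact CU_facts.2.2.2.1 n u hu _ (hap (hTS n).1) (hTS n).2
  have hconj : ∀ r ∈ R, ∀ u ∈ CU, (r : G) * sec f u * (r : G)⁻¹ = sec f (f.π r u) := by
    intro r hr
    have hr' := hr
    rw [← Subgroup.mem_toSubmonoid, Subgroup.closure_toSubmonoid_of_finite] at hr'
    clear hr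
    induction hr' using Submonoid.closure_induction with
    | mem g hg =>
      intro u hu
      simp only [Set.mem_insert_iff, Set.mem_singleton_iff] at hg
      rcases hg with rfl | rfl | rfl
      exacts [S.sec_conj f hax u, S.sec_conj f hmx u, S.sec_conj_inv f hx0 (CU_facts.2.1 u hu).1]
    | one =>
      intro u _
      rw [map_one, Subgroup.coe_one, one_mul, inv_one, mul_one]
      rfl
    | mul r r' _ hr' ih ih' =>
      intro u hu
      have hr'' : r' ∈ R := by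
        rwa [← Subgroup.closure_toSubmonoid_of_finite, Subgroup.mem_toSubmonoid] at hr'
      calc ((r * r' : Subgroup.centralizer ({z} : Set G)) : G) * sec f u * ((r * r' : Subgroup.centralizer ({z} : Set G)) : G)⁻¹
          = (r : G) * ((r' : G) * sec f u * (r' : G)⁻¹) * (r : G)⁻¹ := by rw [Subgroup.coe_mul]; group
        _ = _ := by rw [ih' u hu, ih _ (hU r' hr'' u hu), map_mul]; rfl
  let sC : V6 → Subgroup.centralizer ({z} : Set G) := fun u => ⟨sec f u, S.base.mem_C (S.sec_spec f u).1⟩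
  have hsπ : ∀ u, f.π (sC u) = 1 := fun u => (f.ker (sC u)).2 (S.sec_spec f u).1
  let W : Subgroup (Subgroup.centralizer ({z} : Set G)) :=
    { carrier := {w | ∃ u ∈ CU, ∃ r ∈ R, w = sC u * r}
      one_mem' := ⟨0, CU_facts.1, 1, one_mem _, Subtype.ext (by
        show (1 : G) = sec f 0 * 1
        rw [S.sec_zero f, mul_one])⟩
      mul_mem' := by
        rintro _ _ ⟨u, hu, r, hr, rfl⟩ ⟨u', hu', r', hr', rfl⟩
        obtain ⟨hb, hsum⟩ := CU_facts.2.2.1 u hu _ (hU r hr u' hu')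
        refine ⟨u + f.π r u', hsum, r * r', mul_mem hr hr', Subtype.ext ?_⟩
        show sec f u * (r : G) * (sec f u' * (r' : G)) = sec f (u + f.π r u') * ((r : G) * r')
        calc sec f u * (r : G) * (sec f u' * (r' : G))
            = sec f u * ((r : G) * sec f u' * (r : G)⁻¹) * ((r : G) * r') := by group
          _ = _ := by rw [hconj r hr u' hu', S.sec_mul f, hb, zp_false, mul_one]
      inv_mem' := by
        rintro _ ⟨u, hu, r, hr, rfl⟩
        refine ⟨f.π r⁻¹ u, hU _ (inv_mem hr) u hu, r⁻¹, inv_mem hr, Subtype.ext ?_⟩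
        show (sec f u * (r : G))⁻¹ = sec f (f.π r⁻¹ u) * (r : G)⁻¹
        rw [← hconj _ (inv_mem hr) u hu, mul_inv_rev, S.sec_inv f, (CU_facts.2.1 u hu).1, zp_false, mul_one,
          Subgroup.coe_inv, inv_inv, mul_inv_cancel_right] }
  have hπW : ∀ u (n : Fin 16), f.π (sC u * dEl a m n0 n.val) = f.π (dEl a m n0 n.val) := fun u n => by
    rw [map_mul, hsπ, one_mul]
  obtain ⟨U, hUinj, hUm⟩ := CU_facts.2.2.2.2
  have hsurU : ∀ u ∈ CU, ∃ i, U i = u := by
    have hfin : CU.ncard ≤ 64 := by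
      have hlen : Dat.cplU.toFinset.card ≤ 64 := (List.toFinset_card_le _).trans (by decide +kernel)
      refine (Set.ncard_le_ncard_of_injOn code (t := ↑Dat.cplU.toFinset)
        (fun v hv => List.mem_toFinset.2 hv) (fun v _ w _ e => code_inj e)).trans ?_
      rwa [Set.ncard_coe_finset]
    have hr : Set.range U = CU := Set.eq_of_subset_of_ncard_le (Set.range_subset_iff.2 hUm) (by
      rw [Set.ncard_range_of_injective hUinj, Nat.card_eq_fintype_card, Fintype.card_fin]; exact hfin)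
    exact fun u hu => by rwa [← hr] at hu
  refine ⟨W, ?_, fun w hw => ?_, fun w hw hwA => ?_⟩
  · have hbij : Function.Bijective fun p : Fin 64 × Fin 16 =>
        (⟨sC (U p.1) * dEl a m n0 p.2.val, U p.1, hUm _, _, hRr p.2, rfl⟩ : W) := by
      refine ⟨fun ⟨i, n⟩ ⟨j, k⟩ e => ?_, fun ⟨w, u, hu, r, hr, e⟩ => ?_⟩
      · have e' : sC (U i) * dEl a m n0 n.val = sC (U j) * dEl a m n0 k.val := congrArg Subtype.val e
        have h1 := congrArg f.π e'
        rw [hπW, hπW] at h1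
        obtain rfl : n = k := cplE_inj n k (leq_iff.2 (by rw [← (hTS n).2, ← (hTS k).2, h1]))
        have h2 : sec f (U i) = sec f (U j) := congrArg Subtype.val (mul_right_cancel e')
        obtain rfl : i = j := hUinj (by rw [← (S.sec_spec f (U i)).2.1, h2, (S.sec_spec f (U j)).2.1])
        rfl
      · obtain ⟨n, rfl⟩ := hR r hr
        obtain ⟨i, rfl⟩ := hsurU u hu
        exact ⟨(i, n), Subtype.ext e.symm⟩
    rw [← Nat.card_eq_of_bijective _ hbij, Nat.card_prod, Nat.card_eq_fintype_card, Nat.card_eq_fintype_card,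
      Fintype.card_fin, Fintype.card_fin]
    norm_num
  · obtain ⟨u, -, r, hr, rfl⟩ := hw
    rw [map_mul, hsπ, one_mul]
    exact hRTS r hr
  · obtain ⟨u, hu, r, hr, rfl⟩ := hw
    obtain ⟨n, rfl⟩ := hR r hr
    obtain ⟨q, hq, c, hc, e⟩ := (hA _).1 hwA
    obtain ⟨k, hk⟩ := elE_surj (show f.π c ∈ ES from hc.2)
    have eC : sC u * dEl a m n0 n.val = ⟨q, S.base.mem_C hq.1⟩ * c := Subtype.ext e
    have h1 := congrArg f.π eC
    rw [hπW, map_mul, (f.ker ⟨q, S.base.mem_C hq.1⟩).2 hq.1, one_mul, ← hk] at h1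
    obtain rfl : n = 0 := cplE_free n k (by rw [← (hTS n).2, h1, cols_elE])
    have h00 : dEl a m n0 (0 : Fin 16).val = 1 := by simp [dEl]
    rw [h00] at eC h1 ⊢
    rw [mul_one] at eC ⊢
    have hc1 : (c : G) ∈ Q := (f.ker c).1 (by rw [← hk, ← h1, map_one])
    have hv : u = f.vec q := by
      have := congrArg (fun w : Subgroup.centralizer ({z} : Set G) => f.vec (w : G)) eC
      simp only [Subgroup.coe_mul] at this
      rw [f.vec_mul q hq.1 _ hc1] at this
      rcases S.ker f hc1 (congrArg Subtype.val (mem_Kx.1 hc.1).eq) with e' | e' <;>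
        rw [e'] at this <;> simp only [f.vec_one S.base, f.vec_z S.base, add_zero] at this <;>
        exact (S.sec_spec f u).2.1.symm.trans this
    obtain rfl := (CU_facts.2.1 u hu).2 (hv ▸ hq.2)
    exact Subtype.ext (S.sec_zero f)

omit S

end Cfsg.Agent.Spor.JFour
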