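import Cfsg.Agent.Lib.Spor.JFourThompModel
import Cfsg.Agent.Lib.Spor.JFourCompl
import Cfsg.Agent.Lib.Spor.M23CohGaschuetz

/-!
Janko four type: the normaliser of a largest elementary abelian subgroup splits over it, with the Mathieu group
of degree 24 as complement.
-/

set_option autoImplicit false
set_option maxRecDepth 100000
set_option linter.unusedSectionVars false

namespace Cfsg.Agent.Spor.JFour

open scoped Pointwise
open Cfsg.Agent.Spor.LFT (PointModel Des)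

attribute [local irreducible] Gam Kp Chk.app

universe u

variable {G : Type u} [Group G] [Finite G] {z : G} {Q N : Subgroup G} {x : G}
variable (S : Big z Q N x) (f : Frame z Q x)

include S f

theorem Big.split_A {A : Subgroup G} (hAe : Cfsg.IsElementaryAbelian 2 A) (hAc : Nat.card A = 2 ^ 11)
    (hA : ∀ r, r ∈ A ↔ ∃ a ∈ AQset f, ∃ c ∈ AHs S f, r = a * (c : G)) :
    ∃ K : Subgroup G, K ≤ Subgroup.normalizer (A : Set G) ∧ K ⊓ A = ⊥ ∧
      K ⊔ A = Subgroup.normalizer (A : Set G) ∧ Nonempty (K ≃* Cfsg.M24) := by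
  set H := Subgroup.normalizer (A : Set G)
  set C := Subgroup.centralizer ({z} : Set G)
  obtain ⟨W, hWc, hWT, hWA⟩ : ∃ W : Subgroup C, Nat.card W = 2 ^ 10 ∧
      (∀ w ∈ W, f.π w ∈ TS) ∧ ∀ w ∈ W, (w : G) ∈ A → w = 1 := S.exists_compl f hA
  obtain ⟨ρ, hsur, hker⟩ : ∃ ρ : H →* Cfsg.M24, Function.Surjective ρ ∧ ρ.ker = A.subgroupOf H := by
    obtain ⟨ψ, -, ρ, h1, h2, -⟩ := S.model_A f hAe hAc hA
    exact ⟨ρ, h1, h2⟩
  have hAH : A ≤ H := Subgroup.le_normalizer
  have hWH : W.map C.subtype ≤ H := by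
    rintro _ ⟨w, hw, rfl⟩
    exact S.T0_norm f hAe hAc hA (hWT w hw)
  set Z := A.subgroupOf H with hZ
  set T := (W.map C.subtype).subgroupOf H with hT
  haveI : Z.Normal := hker ▸ inferInstance
  have hfree : Z ⊓ T = ⊥ := by
    rw [eq_bot_iff]
    rintro y ⟨hyA, w, hw, hwy⟩
    rw [Subgroup.mem_bot]
    refine Subtype.ext ?_
    have hy : (w : G) ∈ A := by rw [show (w : G) = (y : G) from hwy]; exact hyA
    rw [← show (w : G) = (y : G) from hwy, hWA w hw hy]
    rfl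
  have hZc : Nat.card Z = 2 ^ 11 := (Nat.card_congr (Subgroup.subgroupOfEquivOfLe hAH).toEquiv).trans hAc
  have hTc : Nat.card T = 2 ^ 10 := by
    rw [Nat.card_congr (Subgroup.subgroupOfEquivOfLe hWH).toEquiv,
      Subgroup.card_map_of_injective (Subgroup.subtype_injective _), hWc]
  have hsup : Nat.card (Z ⊔ T : Subgroup H) = 2 ^ 21 := by
    have hb : Function.Bijective fun p : Z × T =>
        (⟨p.1 * p.2, mul_mem (Subgroup.mem_sup_left p.1.2) (Subgroup.mem_sup_right p.2.2)⟩ : (Z ⊔ T : Subgroup H)) := by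
      refine ⟨fun a b e => ?_, fun ⟨y, hy⟩ => ?_⟩
      · exact Subgroup.mul_injective_of_disjoint (disjoint_iff.2 hfree) (congrArg Subtype.val e)
      · obtain ⟨p, hp, q, hq, e⟩ := Subgroup.mem_sup_of_normal_left.1 hy
        exact ⟨(⟨p, hp⟩, ⟨q, hq⟩), Subtype.ext e⟩
    rw [← Nat.card_eq_of_bijective _ hb, Nat.card_prod, hZc, hTc]
    norm_num
  have hidx : (Z ⊔ T : Subgroup H).index = 239085 := by
    have h1 := Subgroup.card_mul_index (Z ⊔ T : Subgroup H)
    have h2 := Subgroup.card_eq_card_quotient_mul_card_subgroup ρ.ker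
    rw [Nat.card_congr (QuotientGroup.quotientKerEquivOfSurjective ρ hsur).toEquiv, hker, card_M24, hZc] at h2
    rw [hsup, h2] at h1
    omega
  obtain ⟨K, hKZ, hKT⟩ := M23Coh.gaschuetz Z T (fun a ha b hb => Subtype.ext
    (show (a : G) * b = b * a from congrArg Subtype.val (hAe.1.is_comm.comm (⟨_, ha⟩ : A) ⟨_, hb⟩))) hfree
    (by rw [hidx, hZc]; norm_num)
  refine ⟨K.map H.subtype, Subgroup.map_subtype_le _, ?_, ?_, ?_⟩
  · conv_lhs => rw [← Subgroup.map_subgroupOf_eq_of_le hAH]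
    rw [← Subgroup.map_inf _ _ _ (Subgroup.subtype_injective _), ← hZ, hKZ, Subgroup.map_bot]
  · conv_lhs => rw [← Subgroup.map_subgroupOf_eq_of_le hAH]
    rw [← Subgroup.map_sup, ← hZ, hKT, ← MonoidHom.range_eq_map, Subgroup.range_subtype]
  · refine ⟨((K.equivMapOfInjective _ (Subgroup.subtype_injective _)).symm).trans
      (MulEquiv.ofBijective (ρ.comp K.subtype) ⟨?_, fun σ => ?_⟩)⟩
    · rw [← MonoidHom.ker_eq_bot_iff, eq_bot_iff]
      intro k hk
      have hkk : (k : H) ∈ ρ.ker := hk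
      rw [hker] at hkk
      have h0 : (k : H) ∈ K ⊓ Z := ⟨k.2, hkk⟩
      rw [hKZ, Subgroup.mem_bot] at h0
      exact Subgroup.mem_bot.2 (Subtype.ext h0)
    · obtain ⟨y, rfl⟩ := hsur σ
      have hy : y ∈ K ⊔ Z := hKT ▸ Subgroup.mem_top y
      obtain ⟨k, hk, a, ha, rfl⟩ := Subgroup.mem_sup_of_normal_right.1 hy
      refine ⟨⟨k, hk⟩, ?_⟩
      show ρ k = ρ (k * a)
      rw [map_mul, show ρ a = 1 from MonoidHom.mem_ker.1 (hker ▸ ha), mul_one]

theorem Big.split_any {V : Subgroup G} (hVe : Cfsg.IsElementaryAbelian 2 V) (hVc : Nat.card V = 2 ^ 11) :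
    ∃ K : Subgroup G, K ≤ Subgroup.normalizer (V : Set G) ∧ K ⊓ V = ⊥ ∧
      K ⊔ V = Subgroup.normalizer (V : Set G) ∧ Nonempty (K ≃* Cfsg.M24) := by
  obtain ⟨A, hAe, hAc, hA⟩ := S.A0_exists f
  obtain ⟨h, rfl⟩ := S.big_conj f hAe hAc hVe hVc
  obtain ⟨K, h1, h2, h3, ⟨e⟩⟩ := S.split_A f hAe hAc hA
  set φ := (MulAut.conj h).toMonoidHom
  have hinj : Function.Injective φ := (MulAut.conj h).injective
  have hN : (Subgroup.normalizer (A : Set G)).map φ = Subgroup.normalizer (A.map φ : Set G) :=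
    Subgroup.map_equiv_normalizer_eq A (MulAut.conj h)
  refine ⟨K.map φ, hN ▸ Subgroup.map_mono h1, ?_, ?_, ⟨(K.equivMapOfInjective φ hinj).symm.trans e⟩⟩
  · rw [← Subgroup.map_inf _ _ _ hinj, h2, Subgroup.map_bot]
  · rw [← Subgroup.map_sup, h3, hN]

omit S

end Cfsg.Agent.Spor.JFour
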