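import Cfsg.Agent.Lib.Spor.JFourSecond
import Cfsg.Agent.Lib.Spor.JFourSplit
import Cfsg.Agent.Lib.Spor.MathieuOutTwo

/-!
Janko four type: the centraliser of an involution of the second class is a split extension by the automorphism
group of M22.
-/

set_option autoImplicit false
set_option maxRecDepth 100000
set_option linter.unusedSectionVars false

namespace Cfsg.Agent.Spor.JFour

open scoped Pointwise
open Cfsg.Agent.Spor.LFT (iT PointModel Des phN phN_lt pair_inj)
open Cfsg.Agent.Spor.MathieuOutTwo (o₀ actM22 stab_M22_inj aut_M22_conj)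

attribute [local irreducible] Gam Kp Chk.app

/-- the two fixed points -/
def pair0 : Finset GolayPt := {none, o₀}

/-- the stabiliser of the pair -/
def StP : Subgroup (Equiv.Perm GolayPt) := Cfsg.M24 ⊓ MulAction.stabilizer (Equiv.Perm GolayPt) pair0

theorem pair0_ne : (none : GolayPt) ≠ o₀ := Option.some_ne_none _ ∘ Eq.symm

theorem pair0_card : pair0.card = 2 := Finset.card_pair pair0_ne

theorem StP_cases {v : Equiv.Perm GolayPt} (h : v • pair0 = pair0) :
    (v none = none ∧ v o₀ = o₀) ∨ (v none = o₀ ∧ v o₀ = none) := by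
  have hm : ∀ a ∈ pair0, v a = none ∨ v a = o₀ := fun a ha => by
    have := Finset.smul_mem_smul_finset (a := v) ha
    rw [h] at this
    simpa [pair0] using this
  rcases hm none (by simp [pair0]) with e | e <;> rcases hm o₀ (by simp [pair0]) with e' | e'
  · exact absurd (v.injective (e.trans e'.symm)) pair0_ne
  · exact Or.inl ⟨e, e'⟩
  · exact Or.inr ⟨e, e'⟩
  · exact absurd (v.injective (e.trans e'.symm)) pair0_ne

theorem StP_norm {u : Equiv.Perm GolayPt} (hu : u ∈ StP) {g : Equiv.Perm GolayPt} (hg : g ∈ Cfsg.Spor.M22) :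
    u * g * u⁻¹ ∈ Cfsg.Spor.M22 := by
  have hfix : ∀ a ∈ pair0, g a = a := fun a ha => by
    simp only [pair0, Finset.mem_insert, Finset.mem_singleton] at ha
    rcases ha with rfl | rfl
    exacts [hg.1.2, hg.2]
  have key : ∀ a ∈ pair0, (u * g * u⁻¹) a = a := fun a ha => by
    have h1 : u⁻¹ a ∈ pair0 := by
      have := Finset.smul_mem_smul_finset (a := u⁻¹) ha
      rwa [inv_smul_eq_iff.2 (show u • pair0 = pair0 from hu.2).symm] at this
    rw [Equiv.Perm.mul_apply, Equiv.Perm.mul_apply, hfix _ h1]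
    exact u.apply_symm_apply a
  exact ⟨⟨Subgroup.mul_mem _ (Subgroup.mul_mem _ hu.1 hg.1.1) (Subgroup.inv_mem _ hu.1), key none (by simp [pair0])⟩,
    key o₀ (by simp [pair0])⟩

/-- conjugation -/
def toAutM22 : StP →* MulAut Cfsg.Spor.M22 where
  toFun u :=
    { toFun := fun g => ⟨(u : Equiv.Perm GolayPt) * g * (u : Equiv.Perm GolayPt)⁻¹, StP_norm u.2 g.2⟩
      invFun := fun g => ⟨(u : Equiv.Perm GolayPt)⁻¹ * g * (u : Equiv.Perm GolayPt)⁻¹⁻¹, StP_norm (inv_mem u.2) g.2⟩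
      left_inv := fun g => Subtype.ext (by simp [mul_assoc])
      right_inv := fun g => Subtype.ext (by simp [mul_assoc])
      map_mul' := fun g h => Subtype.ext (by simp [mul_assoc]) }
  map_one' := MulEquiv.ext fun g => Subtype.ext (by simp)
  map_mul' u v := MulEquiv.ext fun g => Subtype.ext (by simp [mul_assoc])

theorem toAutM22_bij : Function.Bijective toAutM22 := by
  refine ⟨?_, fun α => ?_⟩
  · rw [← MonoidHom.ker_eq_bot_iff, eq_bot_iff]
    intro u hu
    rw [Subgroup.mem_bot]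
    refine Subtype.ext ?_
    have hvc : ∀ g : Cfsg.Spor.M22,
        (u : Equiv.Perm GolayPt) * g * (u : Equiv.Perm GolayPt)⁻¹ = (g : Equiv.Perm GolayPt) :=
      fun g => congrArg Subtype.val (MulEquiv.congr_fun (MonoidHom.mem_ker.1 hu) g)
    set v : Equiv.Perm GolayPt := (u : Equiv.Perm GolayPt)
    have hcase := StP_cases (show v • pair0 = pair0 from u.2.2)
    letI := actM22
    refine eq_one_of_fix_ten u.2.1 (F := pair0ᶜ) (by
      rw [Finset.card_compl, pair0_card, Fintype.card_option, ZMod.card]; norm_num) fun p hp => ?_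
    simp only [pair0, Finset.mem_compl, Finset.mem_insert, Finset.mem_singleton, not_or] at hp
    have hv1 : v p ≠ none ∧ v p ≠ o₀ := by
      rcases hcase with ⟨a, b⟩ | ⟨a, b⟩
      · exact ⟨fun e => hp.1 (v.injective (e.trans a.symm)), fun e => hp.2 (v.injective (e.trans b.symm))⟩
      · exact ⟨fun e => hp.2 (v.injective (e.trans b.symm)), fun e => hp.1 (v.injective (e.trans a.symm))⟩
    have := stab_M22_inj ⟨v p, hv1⟩ ⟨p, hp⟩ (by
      ext g
      rw [MulAction.mem_stabilizer_iff, MulAction.mem_stabilizer_iff, Subtype.ext_iff, Subtype.ext_iff]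
      show (g : Equiv.Perm GolayPt) (v p) = v p ↔ (g : Equiv.Perm GolayPt) p = p
      conv_lhs => rw [← hvc g]
      rw [Equiv.Perm.mul_apply, Equiv.Perm.mul_apply, show v⁻¹ (v p) = p from v.symm_apply_apply p]
      exact v.injective.eq_iff)
    exact congrArg Subtype.val this
  · obtain ⟨τ, hτ, hcase, hτg⟩ := aut_M22_conj α
    refine ⟨⟨τ, hτ, ?_⟩, MulEquiv.ext fun g => Subtype.ext (hτg g)⟩
    show τ • pair0 = pair0
    rw [pair0, Finset.smul_finset_def, Finset.image_insert, Finset.image_singleton]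
    show ({τ none, τ o₀} : Finset GolayPt) = _
    rcases hcase with ⟨a, b⟩ | ⟨a, b⟩ <;> rw [a, b]
    exact Finset.pair_comm _ _

/-- the stabiliser of any pair is the automorphism group -/
theorem stab_pair_aut {p : Finset GolayPt} (hp : p.card = 2) :
    Nonempty (↥(Cfsg.M24 ⊓ MulAction.stabilizer (Equiv.Perm GolayPt) p) ≃* MulAut Cfsg.Spor.M22) := by
  obtain ⟨σ, hσ, hσs⟩ := exists_map_set (s := pair0) (by rw [pair0_card]; norm_num)
  obtain ⟨τ, hτ, hτs⟩ := exists_map_set (s := p) (by omega)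
  rw [pair0_card] at hσs
  rw [hp] at hτs
  set c := σ * τ⁻¹
  have hc : c • p = pair0 := by rw [mul_smul, inv_smul_eq_iff.2 hτs.symm, hσs]
  have hcM : c ∈ Cfsg.M24 := mul_mem hσ (inv_mem hτ)
  have hmap : (Cfsg.M24 ⊓ MulAction.stabilizer (Equiv.Perm GolayPt) p).map (MulAut.conj c).toMonoidHom = StP := by
    ext u
    rw [Subgroup.mem_map_equiv, MulAut.conj_symm_apply]
    constructor
    · rintro ⟨h1, h2⟩
      refine ⟨?_, ?_⟩
      · have := mul_mem (mul_mem hcM h1) (inv_mem hcM)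
        rwa [show c * (c⁻¹ * u * c) * c⁻¹ = u by group] at this
      · show u • pair0 = pair0
        have h3 : (c⁻¹ * u * c) • p = p := h2
        rw [mul_smul, hc, mul_smul, inv_smul_eq_iff, hc] at h3
        exact h3
    · rintro ⟨h1, h2⟩
      refine ⟨Subgroup.mul_mem _ (Subgroup.mul_mem _ (Subgroup.inv_mem _ hcM) h1) hcM, ?_⟩
      show (c⁻¹ * u * c) • p = p
      rw [mul_smul, hc, mul_smul, inv_smul_eq_iff, hc]
      exact h2
  exact ⟨((Subgroup.equivMapOfInjective _ _ (MulAut.conj c).injective).trans (MulEquiv.subgroupCongr hmap)).trans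
    (MulEquiv.ofBijective toAutM22 toAutM22_bij)⟩

universe u

variable {G : Type u} [Group G] [Finite G] {z : G} {Q N : Subgroup G} {x : G}
variable (S : Big z Q N x) (f : Frame z Q x)

include S f

theorem Big.cen_iT {V : Subgroup G} (hVe : Cfsg.IsElementaryAbelian 2 V) (hVc : Nat.card V = 2 ^ 11) {t : G}
    (htV : t ∈ V) (ht : iT z t) :
    ∃ K : Subgroup G, V ≤ Subgroup.centralizer ({t} : Set G) ∧ K ≤ Subgroup.centralizer ({t} : Set G) ∧
      Subgroup.centralizer ({t} : Set G) ≤ Subgroup.normalizer (V : Set G) ∧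
      K ⊓ V = ⊥ ∧ K ⊔ V = Subgroup.centralizer ({t} : Set G) ∧
      Nonempty (K ≃* MulAut Cfsg.Spor.M22) := by
  classical
  set C := Subgroup.centralizer ({t} : Set G)
  haveI := hVe.1
  have hVC : V ≤ C := fun v hv => Subgroup.mem_centralizer_singleton_iff.2
    (congrArg Subtype.val (hVe.1.is_comm.comm (⟨v, hv⟩ : V) ⟨t, htV⟩))
  obtain ⟨K, hKN, hKV, hKsup, -⟩ := S.split_any f hVe hVc
  have hCN : C ≤ Subgroup.normalizer (V : Set G) := fun y hy =>
    S.cen_pair f hVe hVc htV ht (Subgroup.mem_centralizer_singleton_iff.1 hy)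
  obtain ⟨-, ψ, m, ρ, hsur, hker, hdes⟩ := S.model_any f hVe hVc
  obtain ⟨n, hn, rfl⟩ := m.surj t htV
  obtain ⟨p, hp, hpn⟩ := m.eq_pair hn ((m.cls n hn).1 ht)
  have hρV : ∀ c : Subgroup.normalizer (V : Set G), ρ c = 1 ↔ (c : G) ∈ V := fun c => by
    rw [← MonoidHom.mem_ker, hker, Subgroup.mem_subgroupOf]
  haveI : (V.subgroupOf (Subgroup.normalizer (V : Set G))).Normal := hker ▸ inferInstance
  have hdec : ∀ c, ∀ hc : c ∈ Subgroup.normalizer (V : Set G), ∃ k, ∃ hk : k ∈ K, ρ ⟨c, hc⟩ = ρ ⟨k, hKN hk⟩ := by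
    intro c hc
    have hsup : (⟨c, hc⟩ : Subgroup.normalizer (V : Set G)) ∈
        K.subgroupOf (Subgroup.normalizer (V : Set G)) ⊔ V.subgroupOf (Subgroup.normalizer (V : Set G)) := by
      rw [← Subgroup.subgroupOf_sup hKN Subgroup.le_normalizer, hKsup, Subgroup.subgroupOf_self]
      trivial
    obtain ⟨k, hk, v, hv, e⟩ := Subgroup.mem_sup_of_normal_right.1 hsup
    exact ⟨k, hk, by rw [← e, map_mul, (hρV v).2 hv, mul_one]⟩
  have hcomm : ∀ c, ∀ hc : c ∈ Subgroup.normalizer (V : Set G),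
      c ∈ C ↔ ((ρ ⟨c, hc⟩ : Cfsg.M24) : Equiv.Perm GolayPt) • p = p := by
    intro c hc
    rw [Subgroup.mem_centralizer_singleton_iff, ← hpn]
    constructor
    · intro h
      refine pair_inj _ _ (by rw [Finset.card_smul_finset, hp]) hp (m.inj _ _ (phN_lt _) (phN_lt _) ?_)
      rw [← hdes ⟨c, hc⟩ p hp]
      show c * ψ (phN p) * c⁻¹ = _
      rw [h, mul_inv_cancel_right]
    · intro h
      have e := hdes ⟨c, hc⟩ p hp
      rw [h] at e
      exact mul_inv_eq_iff_eq_mul.1 e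
  refine ⟨K ⊓ C, hVC, inf_le_right, hCN, ?_, le_antisymm (sup_le inf_le_right hVC) fun c hc => ?_, ?_⟩
  · exact le_bot_iff.1 (hKV ▸ inf_le_inf_right V inf_le_left)
  · obtain ⟨k, hk, e⟩ := hdec c (hCN hc)
    have hv : k⁻¹ * c ∈ V := (hρV (⟨k, hKN hk⟩⁻¹ * ⟨c, hCN hc⟩)).1 (by rw [map_mul, map_inv, e, inv_mul_cancel])
    have hkC : k ∈ C := (hcomm k (hKN hk)).2 (e ▸ (hcomm c (hCN hc)).1 hc)
    rw [← mul_inv_cancel_left k c]
    exact mul_mem (Subgroup.mem_sup_left ⟨hk, hkC⟩) (Subgroup.mem_sup_right hv)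
  · obtain ⟨e⟩ := stab_pair_aut hp
    let φ : ↥(K ⊓ C) →* ↥(Cfsg.M24 ⊓ MulAction.stabilizer (Equiv.Perm GolayPt) p) :=
      { toFun := fun k => ⟨((ρ ⟨k, hKN k.2.1⟩ : Cfsg.M24) : Equiv.Perm GolayPt),
          (ρ ⟨k, hKN k.2.1⟩).2, (hcomm k (hKN k.2.1)).1 k.2.2⟩
        map_one' := by
          refine Subtype.ext ?_
          show ((ρ 1 : Cfsg.M24) : Equiv.Perm GolayPt) = 1
          rw [map_one]; rfl
        map_mul' := fun a b => by
          refine Subtype.ext ?_
          show ((ρ (⟨a, hKN a.2.1⟩ * ⟨b, hKN b.2.1⟩) : Cfsg.M24) : Equiv.Perm GolayPt) = _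
          rw [map_mul]; rfl }
    refine ⟨(MulEquiv.ofBijective φ ⟨?_, fun σ => ?_⟩).trans e⟩
    · rw [← MonoidHom.ker_eq_bot_iff, eq_bot_iff]
      intro k hk
      have h1 : (k : G) ∈ V := (hρV ⟨k, hKN k.2.1⟩).1
        (Subtype.ext (show ((ρ ⟨k, hKN k.2.1⟩ : Cfsg.M24) : Equiv.Perm GolayPt) = 1 from
          congrArg (fun y : ↥(Cfsg.M24 ⊓ MulAction.stabilizer (Equiv.Perm GolayPt) p) => (y : Equiv.Perm GolayPt)) (MonoidHom.mem_ker.1 hk)))
      have h2 : (k : G) ∈ K ⊓ V := ⟨k.2.1, h1⟩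
      rw [hKV, Subgroup.mem_bot] at h2
      exact Subgroup.mem_bot.2 (Subtype.ext h2)
    · obtain ⟨⟨c, hc⟩, hρc⟩ := hsur ⟨σ, σ.2.1⟩
      obtain ⟨k, hk, e'⟩ := hdec c hc
      rw [hρc] at e'
      have hkC : k ∈ C := (hcomm k (hKN hk)).2 (e' ▸ (σ.2.2 : (σ : Equiv.Perm GolayPt) • p = p))
      refine ⟨⟨k, hk, hkC⟩, Subtype.ext ?_⟩
      show ((ρ ⟨k, hKN hk⟩ : Cfsg.M24) : Equiv.Perm GolayPt) = σ
      rw [← e']

omit S

end Cfsg.Agent.Spor.JFour
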