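import Cfsg.Agent.Lib.Spor.JFourSylowDefs

/-!
The Sylow 2-subgroup checks.
-/

set_option autoImplicit false
set_option maxRecDepth 100000

namespace Cfsg.Agent.Spor.JFour.Chk

open Cfsg.Agent.Spor.CC Dat

theorem closed_ok : rangeOK closedOK 0 256 = true := by decide +kernel

theorem reach_ok : reachOK = true := by decide +kernel

theorem distinct_ok : distinctOK = true := by decide +kernel

theorem invList_ok : invListOK = true := by decide +kernel

theorem fix_ok : rangeOK fixAll 0 sylI.length = true := by decide +kernel

theorem small_ok : rangeOK smallAll 0 sylI.length = true := by decide +kernel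

end Cfsg.Agent.Spor.JFour.Chk
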