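import Cfsg.Agent.Lib.Spor.JFourStab
import Cfsg.Agent.Lib.Spor.JFourSylowChecks

/-!
Involutions of the extension of 3.M22: fixed vectors, and the few elements moving them only a little.
-/

set_option autoImplicit false
set_option maxRecDepth 100000

namespace Cfsg.Agent.Spor.JFour

open Cfsg.Agent.Spor.SUSix (V6 code code_lt vecOf_code)
open Cfsg.Agent.Spor.SpFour (F4)
open Cfsg.Agent.Small.Unitary (herm)
open Cfsg.Agent.Spor.CC

attribute [local instance] Classical.propDecidable

attribute [local irreducible] wd gP Gam Kp Chk.app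

/-- the alternating form -/
def bv (u v : V6) : F4 := herm (u + v) (u + v) + herm u u + herm v v

theorem bv_code (u v : V6) : bv u v = if Chk.bb (code u) (code v) = true then 1 else 0 := by
  rw [bv, qb_spec, qb_spec, qb_spec, code_add]
  show _ = if (Chk.qb (Nat.xor (code u) (code v)) ^^ Chk.qb (code u) ^^ Chk.qb (code v)) = true then _ else _
  rw [show code u ^^^ code v = Nat.xor (code u) (code v) from rfl]
  cases Chk.qb (Nat.xor (code u) (code v)) <;> cases Chk.qb (code u) <;> cases Chk.qb (code v) <;>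
    decide +kernel

theorem bv_eq (u v : V6) : bv u v = herm u v + herm v u := by
  rw [bv, Small.Unitary.herm_add_left, Small.Unitary.herm_add_right, Small.Unitary.herm_add_right]
  have key : ∀ a b c d : F4, a + b + (c + d) + a + d = b + c := by decide +kernel
  exact key _ _ _ _

theorem bv_symm (u v : V6) : bv u v = bv v u := by rw [bv_eq, bv_eq, add_comm]

theorem bv_add (u u' v : V6) : bv (u + u') v = bv u v + bv u' v := by
  rw [bv_eq, bv_eq, bv_eq, Small.Unitary.herm_add_left, Small.Unitary.herm_add_right]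
  ring

theorem bv_zero (v : V6) : bv 0 v = 0 := by
  have h := bv_add 0 0 v
  rw [add_zero] at h
  have key : ∀ a : F4, a = a + a → a = 0 := by decide +kernel
  exact key _ h

/-! ### spans of lists of codes -/

theorem foldl_span : ∀ (L s : List ℕ), 0 ∈ s → s.Nodup → (∀ a ∈ s, ∀ b ∈ s, a ^^^ b ∈ s) →
    let r := L.foldl (fun s v => if s.any (Nat.beq v) then s else s ++ s.map (Nat.xor v)) s
    0 ∈ r ∧ r.Nodup ∧ (∀ a ∈ r, ∀ b ∈ r, a ^^^ b ∈ r) ∧ (∀ a ∈ s, a ∈ r) ∧ (∀ v ∈ L, v ∈ r) ∧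
      ∀ P : ℕ → Prop, (∀ a b, P a → P b → P (a ^^^ b)) → (∀ a ∈ s, P a) → (∀ v ∈ L, P v) → ∀ a ∈ r, P a
  | [], s, h0, hn, hc => ⟨h0, hn, hc, fun _ h => h, fun _ h => absurd h List.not_mem_nil, fun _ _ hs _ => hs⟩
  | v :: L, s, h0, hn, hc => by
    simp only [List.foldl_cons]
    split_ifs with hv
    · obtain ⟨a, b, c, d, e, f⟩ := foldl_span L s h0 hn hc
      obtain ⟨w, hw, hw'⟩ := List.any_eq_true.1 hv
      refine ⟨a, b, c, d, fun u hu => ?_, fun P h1 h2 h3 => f P h1 h2 fun u hu => h3 u (List.mem_cons_of_mem _ hu)⟩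
      rcases List.mem_cons.1 hu with rfl | hu
      exacts [d _ ((Nat.eq_of_beq_eq_true hw') ▸ hw), e u hu]
    · have hvs : v ∉ s := fun h => hv (List.any_eq_true.2 ⟨v, h, Nat.beq_refl v⟩)
      have hmap : ∀ a, a ∈ s.map (Nat.xor v) ↔ v ^^^ a ∈ s := by
        intro a
        rw [List.mem_map]
        constructor
        · rintro ⟨b, hb, rfl⟩
          show v ^^^ (v ^^^ b) ∈ s
          rwa [← Nat.xor_assoc, Nat.xor_self, Nat.zero_xor]
        · intro h
          exact ⟨_, h, show v ^^^ (v ^^^ a) = a by rw [← Nat.xor_assoc, Nat.xor_self, Nat.zero_xor]⟩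
      obtain ⟨a, b, c, d, e, f⟩ := foldl_span L (s ++ s.map (Nat.xor v)) (List.mem_append_left _ h0) (by
        rw [List.nodup_append]
        refine ⟨hn, hn.map fun x y h => by simpa using congrArg (v ^^^ ·) h, ?_⟩
        intro x hx y hy hxy
        subst hxy
        refine hvs ?_
        have := hc _ ((hmap x).1 hy) _ hx
        rwa [Nat.xor_assoc, Nat.xor_self, Nat.xor_zero] at this) (by
        intro x hx y hy
        rw [List.mem_append, hmap] at hx hy ⊢
        rcases hx with hx | hx <;> rcases hy with hy | hy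
        · exact Or.inl (hc _ hx _ hy)
        · refine Or.inr ?_
          rw [← Nat.xor_assoc, Nat.xor_comm v x, Nat.xor_assoc]; exact hc _ hx _ hy
        · refine Or.inr ?_
          rw [← Nat.xor_assoc]; exact hc _ hx _ hy
        · refine Or.inl ?_
          have := hc _ hx _ hy
          rwa [Nat.xor_comm v x, Nat.xor_assoc, ← Nat.xor_assoc v v, Nat.xor_self, Nat.zero_xor] at this)
      refine ⟨a, b, c, fun u hu => d u (List.mem_append_left _ hu), fun u hu => ?_,
        fun P h1 h2 h3 => f P h1 (fun u hu => ?_) fun u hu => h3 u (List.mem_cons_of_mem _ hu)⟩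
      · rcases List.mem_cons.1 hu with rfl | hu
        · exact d _ (List.mem_append_right _ ((hmap _).2 (by rw [Nat.xor_self]; exact h0)))
        · exact e u hu
      · rcases List.mem_append.1 hu with hu | hu
        · exact h2 u hu
        · obtain ⟨w, hw, rfl⟩ := List.mem_map.1 hu
          exact h1 v w (h3 v List.mem_cons_self) (h2 w hw)

theorem span_spec (L : List ℕ) : (Chk.spanL L).Nodup ∧ 0 ∈ Chk.spanL L ∧
    (∀ a ∈ Chk.spanL L, ∀ b ∈ Chk.spanL L, a ^^^ b ∈ Chk.spanL L) ∧ (∀ v ∈ L, v ∈ Chk.spanL L) ∧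
      ∀ P : ℕ → Prop, P 0 → (∀ a b, P a → P b → P (a ^^^ b)) → (∀ v ∈ L, P v) → ∀ a ∈ Chk.spanL L, P a := by
  obtain ⟨a, b, c, -, e, f⟩ := foldl_span L [0] (by simp) (by simp) (by simp)
  exact ⟨b, a, c, e, fun P h0 h1 h2 => f P h1 (by simpa using h0) h2⟩

/-- the codes of a set of vectors lie in a span, if a generating part does -/
theorem ncard_span_le {S : Set V6} (h0 : (0 : V6) ∈ S) (hadd : ∀ u ∈ S, ∀ v ∈ S, u + v ∈ S) {L : List ℕ}
    (hL : ∀ k ∈ L, k < 4096 ∧ SUSix.vecOf k ∈ S) :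
    (∀ k ∈ Chk.spanL L, k < 4096 ∧ SUSix.vecOf k ∈ S) ∧ (Chk.spanL L).length ≤ S.ncard ∧
      (S.ncard ≤ (Chk.spanL L).length → ∀ v, v ∈ S ↔ code v ∈ Chk.spanL L) := by
  obtain ⟨hn, -, -, -, hP⟩ := span_spec L
  have h1 : ∀ k ∈ Chk.spanL L, k < 4096 ∧ SUSix.vecOf k ∈ S :=
    hP (fun k => k < 4096 ∧ SUSix.vecOf k ∈ S) ⟨by norm_num, by rw [show SUSix.vecOf 0 = 0 by decide +kernel]; exact h0⟩
      (fun a b ha hb => ⟨xor_lt ha.1 hb.1, by rw [vecOf_xor ha.1 hb.1]; exact hadd _ ha.2 _ hb.2⟩) hL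
  have hsub : ((Chk.spanL L).toFinset : Set ℕ) ⊆ code '' S := fun k hk => by
    rw [Finset.mem_coe, List.mem_toFinset] at hk
    exact ⟨_, (h1 k hk).2, code_vecOf k (h1 k hk).1⟩
  have hc : ((Chk.spanL L).toFinset : Set ℕ).ncard = (Chk.spanL L).length := by
    rw [Set.ncard_coe_finset, List.toFinset_card_of_nodup hn]
  have hle := Set.ncard_le_ncard hsub (S.toFinite.image code)
  rw [Set.ncard_image_of_injective _ code_inj, hc] at hle
  refine ⟨h1, hle, fun hge v => ⟨fun hv => ?_, fun hv => ?_⟩⟩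
  · have e := Set.eq_of_subset_of_ncard_le hsub (by rw [Set.ncard_image_of_injective _ code_inj, hc]; exact hge)
      (S.toFinite.image code)
    have : code v ∈ ((Chk.spanL L).toFinset : Set ℕ) := e ▸ ⟨v, hv, rfl⟩
    rwa [Finset.mem_coe, List.mem_toFinset] at this
  · have := (h1 _ hv).2
    rwa [vecOf_code] at this

/-! ### fixed vectors and images -/

/-- the fixed vectors -/
def Fx (t : PV) : Set V6 := {v | t v = v}

/-- the moved parts -/
def Rg (t : PV) : Set V6 := Set.range fun v => t v + v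

/-- the moved parts of fixed vectors -/
def Im (t e : PV) : Set V6 := (fun f => e f + f) '' Fx t

theorem v6_two (v : V6) : v + v = 0 := funext fun i =>
  (show ∀ a : F4, a + a = 0 by decide +kernel) (v i)

theorem AddP.map_zero {p : PV} (h : AddP p) : p 0 = 0 := by
  have := h 0 0
  rw [add_zero] at this
  simpa using this

theorem AddP.conj_fx {p t : PV} : Fx (p * t * p⁻¹) = p '' Fx t := by
  ext v
  refine ⟨fun hv => ⟨p⁻¹ v, ?_, p.apply_symm_apply v⟩, ?_⟩
  · show t (p⁻¹ v) = p⁻¹ v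
    exact p.injective ((show p (t (p⁻¹ v)) = v from hv).trans (p.apply_symm_apply v).symm)
  · rintro ⟨w, hw, rfl⟩
    show p (t (p⁻¹ (p w))) = p w
    rw [show p⁻¹ (p w) = w from p.symm_apply_apply w, show t w = w from hw]

theorem AddP.conj_rg {p t : PV} (hp : AddP p) : Rg (p * t * p⁻¹) = p '' Rg t := by
  ext v
  constructor
  · rintro ⟨w, rfl⟩
    exact ⟨_, ⟨p⁻¹ w, rfl⟩, by
      show p (t (p⁻¹ w) + p⁻¹ w) = _
      rw [hp, show p (p⁻¹ w) = w from p.apply_symm_apply w]; rfl⟩
  · rintro ⟨_, ⟨w, rfl⟩, rfl⟩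
    refine ⟨p w, ?_⟩
    show p (t (p⁻¹ (p w))) + p w = p (t w + w)
    rw [show p⁻¹ (p w) = w from p.symm_apply_apply w, hp]

theorem AddP.conj_im {p t e : PV} (hp : AddP p) : Im (p * t * p⁻¹) (p * e * p⁻¹) = p '' Im t e := by
  rw [Im, Im, AddP.conj_fx, Set.image_image, Set.image_image]
  refine Set.image_congr' fun w => ?_
  show p (e (p⁻¹ (p w))) + p w = p (e w + w)
  rw [show p⁻¹ (p w) = w from p.symm_apply_apply w, hp]

/-- the kernel and range of the moved part -/
theorem fx_rg_card {t : PV} (ha : AddP t) : (Fx t).ncard * (Rg t).ncard = 4096 := by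
  let φ : V6 →+ V6 := AddMonoidHom.mk' (fun v => t v + v) fun a b => by
    rw [ha]; abel
  have e1 : (φ.ker : Set V6) = Fx t := by
    ext v
    show t v + v = 0 ↔ t v = v
    constructor
    · intro h
      calc t v = t v + (v + v) := by rw [v6_two, add_zero]
        _ = v := by rw [← add_assoc, h, zero_add]
    · intro h; rw [h, v6_two]
  have e2 : (φ.range : Set V6) = Rg t := AddMonoidHom.coe_range φ
  rw [← e1, ← e2, ← Nat.card_coe_set_eq, ← Nat.card_coe_set_eq]
  have h := AddSubgroup.card_eq_card_quotient_mul_card_addSubgroup φ.ker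
  rw [Nat.card_congr (QuotientAddGroup.quotientKerEquivRange φ).toEquiv] at h
  have h4 : Nat.card V6 = 4096 := by
    rw [Nat.card_pi, Finset.prod_const, Finset.card_univ, Fintype.card_fin, Nat.card_eq_fintype_card,
      SpFour.F4.card]
    rfl
  rw [h4] at h
  rw [mul_comm]
  exact h.symm

/-! ### the Sylow subgroup -/

/-- the generators -/
def tg (s : Fin 4) : PV := ((Dat.sylW.getD s.val []).map fun x => stA.gen x).prod

theorem tg_spec (s : Fin 4) : tg s ∈ Gam ∧ AddP (tg s) ∧ cols (tg s) = Chk.sylG s := by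
  have hw : ∀ x ∈ Dat.sylW.getD s.val [], x < 3 := by
    revert s; decide +kernel
  have key : ∀ w : List ℕ, (∀ x ∈ w, x < 3) → (w.map fun x => stA.gen x).prod ∈ Gam ∧
      AddP (w.map fun x => stA.gen x).prod ∧
      ∀ v, code ((w.map fun x => stA.gen x).prod v) = Chk.evM Dat.stCA w (code v) := by
    intro w
    induction w with
    | nil => exact fun _ => ⟨one_mem _, AddP.one, fun v => rfl⟩
    | cons x w ih =>
      intro h
      obtain ⟨a, b, c⟩ := ih fun y hy => h y (List.mem_cons_of_mem _ hy)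
      obtain ⟨g1, g2, g3, g4⟩ := stA_ok.gen_facts x (h x List.mem_cons_self)
      rw [List.map_cons, List.prod_cons]
      exact ⟨mul_mem g3.1 a, g2.mul b, fun v => by rw [Equiv.Perm.mul_apply, g4, c]; rfl⟩
  obtain ⟨a, b, c⟩ := key _ hw
  exact ⟨a, b, List.map_congr_left fun k hk => by
    show code (tg s (SUSix.vecOf k)) = _
    rw [tg, c, code_vecOf k (idL_lt k hk)]⟩

/-- the subgroup -/
def TS : Subgroup PV := Subgroup.closure (Set.range tg)

theorem TS_le : TS ≤ Gam := (Subgroup.closure_le _).2 (Set.range_subset_iff.2 fun s => (tg_spec s).1)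

theorem TS_reach (i : ℕ) (hi : i < 256) : ∃ p ∈ TS, cols p = Chk.sylE i := by
  have h := Chk.reach_ok
  simp only [Chk.reachOK, Bool.and_eq_true, List.all_eq_true, List.mem_range, leq_iff, Bool.or_eq_true] at h
  obtain ⟨⟨-, h0⟩, hstep⟩ := h
  induction i using Nat.strong_induction_on with
  | _ i ih =>
    rcases hstep i hi with e | ⟨⟨hs, hp⟩, e⟩
    · refine ⟨1, one_mem _, ?_⟩
      rw [cols_one, Nat.eq_of_beq_eq_true e, h0]
    · have hp' := Nat.le_of_ble_eq_true hp
      have hs' := Nat.le_of_ble_eq_true hs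
      obtain ⟨p, hpT, hpc⟩ := ih _ hp' (by omega)
      refine ⟨tg ⟨Dat.sylS.getD i 0, hs'⟩ * p, mul_mem (Subgroup.subset_closure ⟨_, rfl⟩) hpT, ?_⟩
      rw [cols_mul (tg_spec _).2.1, hpc, (tg_spec _).2.2, e]

theorem TS_list {p : PV} (hp : p ∈ TS) : ∃ i < 256, cols p = Chk.sylE i := by
  have hlen : Dat.sylL.length = 256 := by
    have h := Chk.reach_ok
    simp only [Chk.reachOK, Bool.and_eq_true] at h
    exact Nat.eq_of_beq_eq_true h.1.1.1.1
  have step : ∀ (s : Fin 4) (n : ℕ) (q : PV), (∃ i < 256, cols q = Chk.sylE i) →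
      ∃ i < 256, cols (tg s ^ n * q) = Chk.sylE i := by
    intro s n
    induction n with
    | zero => intro q hq; rwa [pow_zero, one_mul]
    | succ n ih =>
      intro q hq
      obtain ⟨i, hi, e⟩ := ih q hq
      rw [pow_succ', mul_assoc, cols_mul (tg_spec s).2.1, e, (tg_spec s).2.2]
      have h := all_range (p := Chk.closedOK) Chk.closed_ok (Nat.zero_le _) (u := i) (by omega)
      simp only [Chk.closedOK, List.all_eq_true, List.mem_range, Chk.memL, List.any_eq_true, leq_iff] at h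
      obtain ⟨X, hX, e'⟩ := h s.val s.2
      obtain ⟨j, hj, rfl⟩ := List.getElem_of_mem hX
      exact ⟨j, hlen ▸ hj, by rw [e', Chk.sylE, List.getD_eq_getElem _ _ hj]⟩
  induction hp using Subgroup.closure_induction_left with
  | one => exact ⟨0, by norm_num, by
      have h := Chk.reach_ok
      simp only [Chk.reachOK, Bool.and_eq_true, leq_iff] at h
      rw [cols_one, h.1.2]⟩
  | mul_left x hx y _ ih =>
    obtain ⟨s, rfl⟩ := hx
    simpa using step s 1 y ih
  | inv_mul_cancel x hx y _ ih =>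
    obtain ⟨s, rfl⟩ := hx
    have e : (tg s)⁻¹ = tg s ^ (orderOf (tg s) - 1) :=
      inv_eq_of_mul_eq_one_right (by
        rw [← pow_succ', Nat.sub_add_cancel (orderOf_pos _), pow_orderOf_eq_one])
    rw [e]
    exact step s _ y ih

theorem TS_card : Nat.card TS = 256 := by
  have hd := Chk.distinct_ok
  simp only [Chk.distinctOK, List.all_eq_true, List.mem_range, Bool.not_eq_true', ← Bool.not_eq_true, leq_iff] at hd
  choose p hp hpc using TS_reach
  rw [← Nat.card_fin 256]
  refine (Nat.card_eq_of_bijective (fun i : Fin 256 => (⟨p i i.2, hp i i.2⟩ : TS)) ⟨fun i j e => ?_, fun q => ?_⟩).symm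
  · have e' := congrArg (fun r : TS => cols (r : PV)) e
    simp only [hpc] at e'
    rcases lt_trichotomy i.val j.val with h | h | h
    · exact absurd e'.symm (hd j.val j.2 i.val h)
    · exact Fin.ext h
    · exact absurd e' (hd i.val i.2 j.val h)
  · obtain ⟨i, hi, e⟩ := TS_list q.2
    exact ⟨⟨i, hi⟩, Subtype.ext (eq_of_cols (Gam_addP (TS_le (hp i hi))) (Gam_addP (TS_le q.2))
      ((hpc i hi).trans e.symm))⟩

theorem exists_conj_TS (hM : Mdl) {U : Subgroup PV} (hU : U ≤ Gam) (h2 : IsPGroup 2 U) :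
    ∃ p ∈ Gam, ∀ u ∈ U, p * u * p⁻¹ ∈ TS := by
  haveI : Fact (Nat.Prime 2) := ⟨Nat.prime_two⟩
  obtain ⟨S, hS⟩ := (h2.of_equiv (Subgroup.subgroupOfEquivOfLe hU).symm : IsPGroup 2 (U.subgroupOf Gam)).exists_le_sylow
  have hf : (Nat.card Gam).factorization 2 = 8 := by
    rw [card_Gam hM, show 2661120 = 2 ^ 8 * 10395 by norm_num, Nat.factorization_mul (by norm_num) (by norm_num),
      Finsupp.add_apply, Nat.factorization_eq_zero_of_not_dvd (show ¬ 2 ∣ 10395 by norm_num),
      Nat.Prime.factorization_pow (by norm_num), Finsupp.single_eq_same, add_zero]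
  let T : Sylow 2 Gam := Sylow.ofCard (TS.subgroupOf Gam) (by
    rw [Nat.card_congr (Subgroup.subgroupOfEquivOfLe TS_le).toEquiv, TS_card, hf]; norm_num)
  obtain ⟨g, hg⟩ := MulAction.exists_smul_eq (↥Gam) S T
  refine ⟨g, g.2, fun u hu => ?_⟩
  have h1 : MulAut.conj g • (⟨u, hU hu⟩ : Gam) ∈ (g • S : Sylow 2 Gam) :=
    Subgroup.smul_mem_pointwise_smul _ (MulAut.conj g) _ (hS hu)
  rw [hg] at h1
  exact h1

theorem comm_gW_iff {t : PV} (ht : t ∈ Gam) : Commute t gW ↔ t ∈ Kp := by
  refine ⟨fun h => ?_, fun h => (gW_comm (Kp_le_LinG h)).symm⟩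
  have ht' : t ∈ Kp ∨ eo * t ∈ Kp := by
    revert ht; unfold Gam; exact id
  refine ht'.resolve_right fun h' => ?_
  have h1 := ((gW_comm (Kp_le_LinG h')).symm).mul_left h.inv_left
  rw [mul_inv_cancel_right] at h1
  have e := Equiv.congr_fun h1.eq (SUSix.vecOf 1)
  rw [Equiv.Perm.mul_apply, Equiv.Perm.mul_apply, gW_apply, gW_apply, eo_smul] at e
  have e0 := congrArg code e
  rw [code_smw, show F4.v • eo (SUSix.vecOf 1) = F4.w • (F4.w • eo (SUSix.vecOf 1)) by rw [smul_smul]; rfl,
    code_smw, code_smw, show code (eo (SUSix.vecOf 1)) = Chk.app (Chk.gn 4) (code (SUSix.vecOf 1)) from (gP_spec 4).2.2 _,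
    code_vecOf 1 (by norm_num)] at e0
  unfold Chk.app at e0
  exact absurd e0 (by decide +kernel)

/-- what the checks give -/
structure InvolFacts (t : PV) : Prop where
  fix_card : (Fx t).ncard = if t ∈ Kp then 256 else 64
  outer_sub : t ∉ Kp → Fx t ⊆ Rg t
  perp : ∀ v, (∀ f ∈ Fx t, bv v f = 0) → v ∈ Rg t
  small : ∀ U : Subgroup PV, IsPGroup 2 U → U ≤ Gam → (∀ e ∈ U, Commute e t) →
    ((∀ e ∈ U ⊓ Kp, (Im t e).ncard ≤ 2) → Nat.card (U ⊓ Kp : Subgroup PV) ≤ 2) ∧
    ∀ W : Set V6, W.ncard ≤ 4 → (∀ e ∈ U ⊓ Kp, Im t e ⊆ W) →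
      Nat.card (U ⊓ Kp : Subgroup PV) ≤ if t ∈ Kp then 16 else 2

theorem facts_T {t : PV} (ht : t ∈ TS) (h2 : t * t = 1) (h1 : t ≠ 1) :
    (Fx t).ncard = (if t ∈ Kp then 256 else 64) ∧ (t ∉ Kp → Fx t ⊆ Rg t) ∧
    (∀ v, (∀ f ∈ Fx t, bv v f = 0) → v ∈ Rg t) ∧
    ∀ U : Subgroup PV, U ≤ TS → (∀ e ∈ U, Commute e t) →
    ((∀ e ∈ U ⊓ Kp, (Im t e).ncard ≤ 2) → Nat.card (U ⊓ Kp : Subgroup PV) ≤ 2) ∧
    ∀ W : Set V6, W.ncard ≤ 4 → (∀ e ∈ U ⊓ Kp, Im t e ⊆ W) →
      Nat.card (U ⊓ Kp : Subgroup PV) ≤ if t ∈ Kp then 16 else 2 := by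
  classical
  have htG := TS_le ht
  have hta := Gam_addP htG
  obtain ⟨i, hi, hX⟩ := TS_list ht
  have hI := Chk.invList_ok
  simp only [Chk.invListOK, List.all_eq_true, List.mem_range, Bool.or_eq_true, Bool.not_eq_true', ← Bool.not_eq_true,
    leq_iff] at hI
  obtain ⟨x, hx, hxi⟩ : ∃ x ∈ Dat.sylI, Nat.beq i x = true := by
    rcases hI i hi with (e | e) | e
    · exfalso; apply e; rw [← hX, ← cols_mul hta, h2, cols_one]
    · refine absurd (eq_of_cols hta AddP.one ?_) h1
      rw [hX, Nat.eq_of_beq_eq_true e, cols_one]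
      have h := Chk.reach_ok
      simp only [Chk.reachOK, Bool.and_eq_true, leq_iff] at h
      exact h.1.2
    · exact List.any_eq_true.1 e
  obtain ⟨j, hj, rfl⟩ := List.getElem_of_mem hx
  rw [Nat.eq_of_beq_eq_true hxi, ← List.getD_eq_getElem _ 0 hj] at hX
  have hfix := all_range (p := Chk.fixAll) Chk.fix_ok (Nat.zero_le _) (u := j) (by simpa using hj)
  have hsm := all_range (p := Chk.smallAll) Chk.small_ok (Nat.zero_le _) (u := j) (by simpa using hj)
  simp only [Chk.fixAll, Chk.smallAll, ← hX] at hfix hsm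
  generalize Dat.sylF.getD j [] = fb at hfix hsm
  generalize Dat.sylX.getD j [] = xs at hfix
  generalize Dat.sylD.getD j [] = ds at hfix
  generalize Dat.sylM.getD j [] = sm at hsm
  simp only [Chk.fixOK, Bool.and_eq_true, List.all_eq_true, Bool.or_eq_true] at hfix
  obtain ⟨⟨⟨⟨⟨⟨⟨⟨hN, hfb⟩, hxs⟩, hds⟩, hprod⟩, hdn⟩, horth⟩, hdual⟩, hout⟩ := hfix
  have hlin : Chk.linL (cols t) = decide (t ∈ Kp) := by
    rw [Bool.eq_iff_iff, decide_eq_true_iff, ← comm_gW_iff htG, Chk.linL, leq_iff]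
    constructor
    · intro e
      refine eq_of_cols (hta.mul (gP_spec 3).1) ((gP_spec 3).1.mul hta) ?_
      rw [cols_mul hta, cols_mul (show AddP gW from (gP_spec 3).1), show cols gW = Chk.cW from (gP_spec 3).2.1]
      exact e
    · intro e
      rw [← show cols gW = Chk.cW from (gP_spec 3).2.1, ← cols_mul hta, ← cols_mul (show AddP gW from (gP_spec 3).1), e.eq]
  set N := Chk.fixN (cols t) with hNdef
  have hNval : N = if t ∈ Kp then 256 else 64 := by
    rw [hNdef, Chk.fixN, hlin]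
    by_cases h : t ∈ Kp <;> simp [h]
  -- fixed vectors
  have hfb' : ∀ k ∈ fb, k < 4096 ∧ SUSix.vecOf k ∈ Fx t := fun k hk => by
    obtain ⟨a, b⟩ := hfb k hk
    have hk' : k < 4096 := Nat.le_of_ble_eq_true a
    refine ⟨hk', code_inj ?_⟩
    rw [app_cols hta, code_vecOf k hk']
    exact Nat.eq_of_beq_eq_true b
  have hF0 : (0 : V6) ∈ Fx t := hta.map_zero
  have hFadd : ∀ u ∈ Fx t, ∀ v ∈ Fx t, u + v ∈ Fx t := fun u hu v hv => by
    show t (u + v) = u + v
    rw [hta, show t u = u from hu, show t v = v from hv]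
  have hmvc : ∀ (p : PV), AddP p → ∀ k < 4096, code (p (SUSix.vecOf k) + SUSix.vecOf k) = Chk.mv (cols p) k := by
    intro p hp k hk
    rw [code_add, app_cols hp, code_vecOf k hk]
    rfl
  have hR0 : (0 : V6) ∈ Rg t := ⟨0, by show t 0 + 0 = 0; rw [hta.map_zero, add_zero]⟩
  have hRadd : ∀ u ∈ Rg t, ∀ v ∈ Rg t, u + v ∈ Rg t := by
    rintro _ ⟨u, rfl⟩ _ ⟨v, rfl⟩
    exact ⟨u + v, by show t (u + v) + (u + v) = t u + u + (t v + v); rw [hta]; abel⟩
  have hxs' : ∀ k ∈ xs.map (Chk.mv (cols t)), k < 4096 ∧ SUSix.vecOf k ∈ Rg t := by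
    intro k hk
    obtain ⟨y, hy, rfl⟩ := List.mem_map.1 hk
    have hy' : y < 4096 := Nat.le_of_ble_eq_true (hxs y hy)
    rw [← hmvc t hta y hy', vecOf_code]
    exact ⟨code_lt _, ⟨_, rfl⟩⟩
  obtain ⟨-, hFle, hFeq⟩ := ncard_span_le hF0 hFadd hfb'
  obtain ⟨-, hRle, hReq⟩ := ncard_span_le hR0 hRadd hxs'
  rw [Nat.eq_of_beq_eq_true hN] at hFle hFeq
  have hcard := fx_rg_card hta
  have hprod' : N * (Chk.spanL (xs.map (Chk.mv (cols t)))).length = 4096 := Nat.eq_of_beq_eq_true hprod
  have hNpos : 0 < N := by rw [hNval]; split_ifs <;> norm_num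
  set R' := (Chk.spanL (xs.map (Chk.mv (cols t)))).length
  have hFc : (Fx t).ncard = N := by
    refine le_antisymm ?_ hFle
    by_contra hlt
    push Not at hlt
    have h := Nat.mul_le_mul hlt hRle
    rw [hcard] at h
    nlinarith
  have hRc : (Rg t).ncard = R' := by
    rw [hFc] at hcard
    exact Nat.eq_of_mul_eq_mul_left hNpos (hcard.trans hprod'.symm)
  have hFmem := hFeq hFc.le
  have hRmem := hReq hRc.le
  refine ⟨hFc.trans hNval, fun hK v hv => ?_, fun v hv => ?_, fun U hU hcU => ?_⟩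
  · rcases hout with h | h
    · rw [hlin, decide_eq_true_iff] at h
      exact absurd h hK
    · rw [hRmem]
      exact (span_spec fb).2.2.2.2 (fun k => k ∈ Chk.spanL (xs.map (Chk.mv (cols t))))
        (span_spec _).2.1 ((fun a b ha hb => (span_spec _).2.2.1 a ha b hb))
        (fun f hf => by
          obtain ⟨y, hy, e⟩ := List.any_eq_true.1 (h f hf)
          rwa [Nat.eq_of_beq_eq_true e]) _ ((hFmem v).1 hv)
  · -- orthogonal to the fixed vectors
    set K : Set V6 := {u | ∀ k ∈ fb, bv u (SUSix.vecOf k) = 0} with hKdef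
    have hK0 : (0 : V6) ∈ K := fun k _ => bv_zero _
    have hKadd : ∀ a ∈ K, ∀ b ∈ K, a + b ∈ K := fun a ha b hb k hk => by
      rw [bv_add, ha k hk, hb k hk, add_zero]
    have horth' : ∀ a ∈ xs.map (Chk.mv (cols t)), ∀ f ∈ fb, Chk.bb a f = false := by
      simp only [Chk.orthL, List.all_eq_true, Bool.not_eq_true'] at horth
      exact horth
    have hRK : Rg t ⊆ K := by
      intro u hu
      have hkey := (ncard_span_le hK0 hKadd (L := xs.map (Chk.mv (cols t))) fun k hk => ⟨(hxs' k hk).1, fun f hf => by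
        rw [bv_code, code_vecOf k (hxs' k hk).1, code_vecOf f (hfb' f hf).1, horth' k hk f hf]
        rfl⟩).1 _ ((hRmem u).1 hu)
      have := hkey.2
      rwa [vecOf_code] at this
    have hdspan := ncard_span_le (S := Set.univ) (Set.mem_univ _) (fun _ _ _ _ => Set.mem_univ _) (L := ds)
      fun k hk => ⟨Nat.le_of_ble_eq_true (hds k hk), Set.mem_univ _⟩
    set D := Chk.spanL ds with hD
    have hle : K.ncard * N ≤ 4096 := by
      have h1 : Function.Injective (fun q : K × {k // k ∈ D} => (q.1 : V6) + SUSix.vecOf q.2.1) := by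
        rintro ⟨a, k⟩ ⟨a', k'⟩ e
        have hmem := (span_spec ds).2.2.1 _ k.2 _ k'.2
        have hv' : SUSix.vecOf (k.1 ^^^ k'.1) = (a : V6) + a' := by
          rw [vecOf_xor (hdspan.1 _ k.2).1 (hdspan.1 _ k'.2).1]
          calc SUSix.vecOf k.1 + SUSix.vecOf k'.1 = (a : V6) + SUSix.vecOf k.1 + (SUSix.vecOf k'.1 + a) := by
                rw [show (a : V6) + SUSix.vecOf k.1 + (SUSix.vecOf k'.1 + a) =
                  SUSix.vecOf k.1 + SUSix.vecOf k'.1 + ((a : V6) + a) by abel, v6_two, add_zero]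
            _ = (a' : V6) + SUSix.vecOf k'.1 + (SUSix.vecOf k'.1 + a) := by
                rw [show (a : V6) + SUSix.vecOf k.1 = a' + SUSix.vecOf k'.1 from e]
            _ = (a : V6) + a' := by
                rw [show (a' : V6) + SUSix.vecOf k'.1 + (SUSix.vecOf k'.1 + a) =
                  (a : V6) + a' + (SUSix.vecOf k'.1 + SUSix.vecOf k'.1) by abel, v6_two, add_zero]
        have hzero : k.1 ^^^ k'.1 = 0 := by
          by_contra hne
          rcases hdual _ hmem with h | h
          · exact hne (Nat.eq_of_beq_eq_true h)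
          · obtain ⟨f, hf, hbb⟩ := List.any_eq_true.1 h
            have := hKadd _ a.2 _ a'.2 f hf
            rw [← hv', bv_code, code_vecOf _ (hdspan.1 _ hmem).1, code_vecOf f (hfb' f hf).1, hbb, if_pos rfl] at this
            exact one_ne_zero this
        have hk : k = k' := Subtype.ext (Nat.eq_of_xor_eq_zero hzero)
        subst hk
        exact Prod.ext (Subtype.ext (add_right_cancel (b := SUSix.vecOf k.1) e)) rfl
      have h2 := Nat.card_le_card_of_injective _ h1
      have e4 : Nat.card V6 = 4096 := by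
        rw [Nat.card_pi, Finset.prod_const, Finset.card_univ, Fintype.card_fin, Nat.card_eq_fintype_card,
          SpFour.F4.card]
        rfl
      rw [Nat.card_prod, e4, Nat.card_coe_set_eq] at h2
      have e5 : Nat.card {k // k ∈ D} = N := by
        rw [Nat.card_eq_fintype_card, Fintype.card_of_subtype D.toFinset (fun k => List.mem_toFinset),
          List.toFinset_card_of_nodup (span_spec ds).1]
        exact Nat.eq_of_beq_eq_true hdn
      rw [e5] at h2
      exact h2
    have hKR : K = Rg t := by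
      refine (Set.eq_of_subset_of_ncard_le hRK ?_).symm
      rw [hRc]
      nlinarith
    exact hKR ▸ fun k hk => hv _ (hfb' k hk).2
  · -- elements moving the fixed vectors little
    simp only [Chk.smallAll, Chk.smallOK, Bool.and_eq_true, List.all_eq_true, Bool.or_eq_true] at hsm
    obtain ⟨hsmeq, hn0, hall⟩ := hsm
    have hsmeq' : Chk.smallL (cols t) fb = sm := by
      have key : ∀ {A B : List (List ℕ)}, Chk.leqq A B = true → A = B := by
        intro A
        induction A with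
        | nil => intro B; cases B <;> simp [Chk.leqq]
        | cons a A ih =>
          intro B; cases B with
          | nil => simp [Chk.leqq]
          | cons b B =>
            simp only [Chk.leqq, Bool.and_eq_true, leq_iff]
            exact fun h => by rw [h.1, ih h.2]
      exact key hsmeq
    let imL : List ℕ → List ℕ := fun X => Chk.spanL (fb.map (Chk.mv X))
    have him : ∀ e ∈ U ⊓ Kp, (∀ v, v ∈ Im t e ↔ code v ∈ imL (cols e)) ∧ (Im t e).ncard = (imL (cols e)).length := by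
      intro e he
      have hea := Gam_addP (TS_le (hU he.1))
      have hS0 : (0 : V6) ∈ Im t e := ⟨0, hF0, by show e 0 + 0 = 0; rw [hea.map_zero, add_zero]⟩
      have hSadd : ∀ u ∈ Im t e, ∀ v ∈ Im t e, u + v ∈ Im t e := by
        rintro _ ⟨u, hu, rfl⟩ _ ⟨v, hv, rfl⟩
        exact ⟨u + v, hFadd u hu v hv, by show e (u + v) + (u + v) = e u + u + (e v + v); rw [hea]; abel⟩
      have hmem : ∀ v ∈ Im t e, code v ∈ imL (cols e) := by
        rintro _ ⟨f, hf, rfl⟩
        have h := (span_spec fb).2.2.2.2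
          (fun k => k < 4096 ∧ code (e (SUSix.vecOf k) + SUSix.vecOf k) ∈ imL (cols e))
          ⟨by norm_num, by
            rw [show SUSix.vecOf 0 = 0 by decide +kernel, hea.map_zero, add_zero, code_zero]
            exact (span_spec _).2.1⟩
          (fun a b ha hb => ⟨xor_lt ha.1 hb.1, by
            rw [vecOf_xor ha.1 hb.1, hea, show e (SUSix.vecOf a) + e (SUSix.vecOf b) + (SUSix.vecOf a + SUSix.vecOf b) =
              (e (SUSix.vecOf a) + SUSix.vecOf a) + (e (SUSix.vecOf b) + SUSix.vecOf b) by abel, code_add]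
            exact (span_spec _).2.2.1 _ ha.2 _ hb.2⟩)
          (fun k hk => ⟨(hfb' k hk).1, by
            rw [hmvc e hea k (hfb' k hk).1]
            exact (span_spec _).2.2.2.1 _ (List.mem_map_of_mem hk)⟩) _ ((hFmem f).1 hf)
        rw [vecOf_code] at h
        exact h.2
      obtain ⟨-, hl, -⟩ := ncard_span_le hS0 hSadd (L := fb.map (Chk.mv (cols e))) (fun k hk => by
        obtain ⟨y, hy, rfl⟩ := List.mem_map.1 hk
        rw [← hmvc e hea y (hfb' y hy).1, vecOf_code]
        exact ⟨code_lt _, ⟨_, (hfb' y hy).2, rfl⟩⟩)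
      obtain ⟨-, -, heq⟩ := ncard_span_le hS0 hSadd (L := fb.map (Chk.mv (cols e))) (fun k hk => by
        obtain ⟨y, hy, rfl⟩ := List.mem_map.1 hk
        rw [← hmvc e hea y (hfb' y hy).1, vecOf_code]
        exact ⟨code_lt _, ⟨_, (hfb' y hy).2, rfl⟩⟩)
      have hle : (Im t e).ncard ≤ (imL (cols e)).length := by
        rw [← Set.ncard_image_of_injective (Im t e) code_inj,
          ← List.toFinset_card_of_nodup (span_spec (fb.map (Chk.mv (cols e)))).1, ← Set.ncard_coe_finset]
        refine Set.ncard_le_ncard ?_ (Finset.finite_toSet _)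
        rintro _ ⟨v, hv, rfl⟩
        rw [Finset.mem_coe, List.mem_toFinset]
        exact hmem v hv
      exact ⟨heq hle, le_antisymm hle hl⟩
    have hcnt : ∀ Q : List ℕ → Bool,
        (∀ e ∈ U ⊓ Kp, (imL (cols e)).length ≤ 4 ∧ Q (imL (cols e)) = true) →
        Nat.card (U ⊓ Kp : Subgroup PV) ≤ (sm.filter Q).length := by
      intro Q hQ
      set L0 := Dat.sylL.filter fun e => Chk.linL e && Chk.leq (Chk.cmul e (cols t)) (Chk.cmul (cols t) e)
      set L1 := L0.filter fun e => Nat.ble (imL e).length 4 && Q (imL e) with hL1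
      have hlen : L1.length = (sm.filter Q).length := by
        rw [← hsmeq', Chk.smallL, List.filter_filter, List.filter_map, List.length_map, hL1]
        congr 1
        refine List.filter_congr fun x _ => ?_
        simp [Bool.and_comm]
        rfl
      rw [← hlen]
      refine le_trans ?_ (List.toFinset_card_le L1)
      rw [← Set.ncard_coe_finset, ← Nat.card_coe_set_eq]
      refine Nat.card_le_card_of_injective (fun e => (⟨cols (e : PV), ?_⟩ : (L1.toFinset : Set (List ℕ)))) ?_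
      · obtain ⟨⟨heU, heK⟩, h4, hQe⟩ := And.intro e.2 (hQ _ e.2)
        obtain ⟨k, hk, ek⟩ := TS_list (hU heU)
        have hlen' : Dat.sylL.length = 256 := by
          have h := Chk.reach_ok
          simp only [Chk.reachOK, Bool.and_eq_true] at h
          exact Nat.eq_of_beq_eq_true h.1.1.1.1
        have hea := Gam_addP (TS_le (hU heU))
        have hlinE : Chk.linL (cols (e : PV)) = true := by
          rw [Chk.linL, leq_iff, ← show cols gW = Chk.cW from (gP_spec 3).2.1, ← cols_mul hea,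
            ← cols_mul (show AddP gW from (gP_spec 3).1), ((gW_comm (Kp_le_LinG heK))).eq]
        have hcomm : Chk.leq (Chk.cmul (cols (e : PV)) (cols t)) (Chk.cmul (cols t) (cols (e : PV))) = true := by
          rw [leq_iff, ← cols_mul hea, ← cols_mul hta, (hcU _ heU).eq]
        rw [Finset.mem_coe, List.mem_toFinset, hL1, List.mem_filter, List.mem_filter]
        refine ⟨⟨?_, by rw [hlinE, hcomm]; rfl⟩, by
          rw [Bool.and_eq_true]; exact ⟨Nat.ble_eq_true_of_le h4, hQe⟩⟩
        rw [ek, Chk.sylE, List.getD_eq_getElem _ _ (hlen'.symm ▸ hk)]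
        exact List.getElem_mem _
      · intro a b e
        exact Subtype.ext (eq_of_cols (Gam_addP (TS_le (hU a.2.1))) (Gam_addP (TS_le (hU b.2.1)))
          (congrArg Subtype.val e))
    have hin : ∀ e ∈ U ⊓ Kp, (imL (cols e)).length ≤ 4 → imL (cols e) ∈ sm := by
      intro e he h4
      obtain ⟨k, hk, ek⟩ := TS_list (hU he.1)
      have hlen' : Dat.sylL.length = 256 := by
        have h := Chk.reach_ok
        simp only [Chk.reachOK, Bool.and_eq_true] at h
        exact Nat.eq_of_beq_eq_true h.1.1.1.1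
      have hea := Gam_addP (TS_le (hU he.1))
      rw [← hsmeq', Chk.smallL, List.mem_filter]
      refine ⟨List.mem_map.2 ⟨cols e, List.mem_filter.2 ⟨?_, ?_⟩, rfl⟩, Nat.ble_eq_true_of_le h4⟩
      · rw [ek, Chk.sylE, List.getD_eq_getElem _ _ (hlen'.symm ▸ hk)]
        exact List.getElem_mem _
      · rw [Bool.and_eq_true, Chk.linL, leq_iff, leq_iff, ← show cols gW = Chk.cW from (gP_spec 3).2.1,
          ← cols_mul hea, ← cols_mul (show AddP gW from (gP_spec 3).1), ← cols_mul hea, ← cols_mul hta,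
          ((gW_comm (Kp_le_LinG he.2))).eq, (hcU _ he.1).eq]
        exact ⟨rfl, rfl⟩
    have hshort : (∀ e ∈ U ⊓ Kp, (imL (cols e)).length = 1) → Nat.card (U ⊓ Kp : Subgroup PV) ≤ 2 := fun h =>
      (hcnt (fun im => Nat.beq im.length 1) fun e he => ⟨by rw [h e he]; norm_num, by
        show Nat.beq _ 1 = true
        rw [h e he]; rfl⟩).trans (Nat.le_of_ble_eq_true hn0)
    refine ⟨fun h => hshort fun e he => ?_, fun W hW hsub => ?_⟩
    · have h' := h e he
      rw [(him e he).2] at h'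
      rcases hall _ (hin e he (by omega)) with e' | ⟨e', -⟩ <;> have := Nat.eq_of_beq_eq_true e' <;> omega
    · have h4 : ∀ e ∈ U ⊓ Kp, (imL (cols e)).length ≤ 4 := fun e he =>
        (him e he).2 ▸ (Set.ncard_le_ncard (hsub e he) W.toFinite).trans hW
      by_cases hone : ∀ e ∈ U ⊓ Kp, (imL (cols e)).length = 1
      · refine (hshort hone).trans ?_
        split_ifs <;> norm_num
      push Not at hone
      obtain ⟨e0, he0, hne⟩ := hone
      rcases hall _ (hin e0 he0 (h4 e0 he0)) with e' | ⟨e', hb⟩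
      · exact absurd (Nat.eq_of_beq_eq_true e') hne
      have hW0 : Im t e0 = W := Set.eq_of_subset_of_ncard_le (hsub e0 he0)
        (by rw [(him e0 he0).2, Nat.eq_of_beq_eq_true e']; exact hW) W.toFinite
      refine ((hcnt (fun im => Chk.subL im (imL (cols e0))) fun e he => ⟨h4 e he, ?_⟩).trans
        (Nat.le_of_ble_eq_true hb)).trans (le_of_eq ?_)
      · show Chk.subL _ _ = true
        simp only [Chk.subL, List.all_eq_true, List.any_eq_true]
        intro a ha
        have hlt : a < 4096 := ((span_spec (fb.map (Chk.mv (cols e)))).2.2.2.2 (fun k => k < 4096) (by norm_num)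
          (fun _ _ => xor_lt) (fun k hk => by
            obtain ⟨y, hy, rfl⟩ := List.mem_map.1 hk
            rw [← hmvc e (Gam_addP (TS_le (hU he.1))) y (hfb' y hy).1]
            exact code_lt _)) a ha
        have h := ((him e0 he0).1 (SUSix.vecOf a)).1 (hW0.symm ▸ hsub e he
          (((him e he).1 (SUSix.vecOf a)).2 (by rwa [code_vecOf a hlt])))
        rw [code_vecOf a hlt] at h
        exact ⟨a, h, Nat.beq_refl a⟩
      · rw [hlin]
        by_cases hK : t ∈ Kp <;> simp [hK]

theorem invol_facts (hM : Mdl) {t : PV} (ht : t ∈ Gam) (h2 : t * t = 1) (h1 : t ≠ 1) : InvolFacts t := by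
  haveI : Fact (Nat.Prime 2) := ⟨Nat.prime_two⟩
  have hKn : ∀ p ∈ Gam, ∀ k ∈ Kp, p * k * p⁻¹ ∈ Kp := by
    intro p hp k hk
    have hG : p * k * p⁻¹ ∈ Gam := mul_mem (mul_mem hp (Kp_le hk)) (inv_mem hp)
    rw [← comm_gW_iff hG]
    have hc : p * gW * p⁻¹ ∈ Subgroup.zpowers gW := by
      have hp' : p ∈ Kp ∨ eo * p ∈ Kp := by revert hp; unfold Gam; exact id
      rcases hp' with h | h
      · rw [← (gW_comm (Kp_le_LinG h)).eq, mul_inv_cancel_right]
        exact Subgroup.mem_zpowers _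
      · have h2 := gW_comm (Kp_le_LinG h)
        rw [show p * gW * p⁻¹ = eo⁻¹ * (eo * p * gW * (eo * p)⁻¹) * eo by group, ← h2.eq, mul_inv_cancel_right]
        have e : eo⁻¹ * gW * eo = gW * gW := Equiv.ext fun v => by
          rw [eo_inv, Equiv.Perm.mul_apply, Equiv.Perm.mul_apply, gW_apply, eo_smul, Equiv.Perm.mul_apply, gW_apply,
            gW_apply, smul_smul, ← Equiv.Perm.mul_apply, eo_sq]
          rfl
        rw [e]
        exact mul_mem (Subgroup.mem_zpowers _) (Subgroup.mem_zpowers _)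
    obtain ⟨n, hn⟩ := hc
    have hk' : Commute (p * k * p⁻¹) (p * gW * p⁻¹) := (Commute.conj_iff p).2 ((gW_comm (Kp_le_LinG hk)).symm)
    rw [← show gW ^ n = p * gW * p⁻¹ from hn] at hk'
    rcases gW_cases (show gW ^ n ∈ Subgroup.zpowers gW from ⟨n, rfl⟩) with e | e | e
    · exact absurd (conj_eq_one_iff.1 ((show gW ^ n = p * gW * p⁻¹ from hn).symm.trans e)) gW_facts.2
    · rwa [e] at hk'
    · rw [e] at hk'
      have h3 := hk'.mul_right hk'
      rwa [show gW * gW * (gW * gW) = gW ^ 3 * gW by rw [pow_succ, pow_two]; group, gW_facts.1, one_mul] at h3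
  have key : ∀ U : Subgroup PV, IsPGroup 2 U → U ≤ Gam → (∀ e ∈ U, Commute e t) →
      ∃ p ∈ Gam, p * t * p⁻¹ ∈ TS ∧ ∀ e ∈ U, p * e * p⁻¹ ∈ TS := by
    intro U hU hUG hc
    have ho : orderOf t = 2 := orderOf_eq_prime (by rw [pow_two, h2]) h1
    have hU2 : IsPGroup 2 (U ⊔ Subgroup.zpowers t : Subgroup PV) := by
      refine hU.to_sup_of_normal_left' (IsPGroup.of_card (n := 1) (by rw [Nat.card_zpowers, ho, pow_one])) ?_
      rw [Subgroup.zpowers_le]
      refine Subgroup.mem_normalizer_iff.2 fun e => ⟨fun he => ?_, fun he => ?_⟩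
      · rwa [← (hc e he).eq, mul_inv_cancel_right]
      · have h3 := hc _ he
        have : Commute (t⁻¹ * (t * e * t⁻¹) * t) t := ((Commute.refl t).inv_left.mul_left h3).mul_left (Commute.refl t)
        rw [show t⁻¹ * (t * e * t⁻¹) * t = e by group] at this
        rwa [← this.eq, mul_inv_cancel_right] at he
    obtain ⟨p, hp, hpc⟩ := exists_conj_TS hM (sup_le hUG (Subgroup.zpowers_le.2 ht)) hU2
    exact ⟨p, hp, hpc t (Subgroup.mem_sup_right (Subgroup.mem_zpowers t)), fun e he =>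
      hpc e (Subgroup.mem_sup_left he)⟩
  obtain ⟨p, hp, hpt, -⟩ := key ⊥ IsPGroup.of_bot bot_le fun e he => by
    rw [Subgroup.mem_bot.1 he]; exact Commute.one_left t
  have hmem : ∀ {p : PV}, p ∈ Gam → ∀ {e : PV}, e ∈ Gam → (p * e * p⁻¹ ∈ Kp ↔ e ∈ Kp) := by
    intro p hp e _
    refine ⟨fun h => ?_, hKn p hp e⟩
    have := hKn p⁻¹ (inv_mem hp) _ h
    rwa [show p⁻¹ * (p * e * p⁻¹) * p⁻¹⁻¹ = e by group] at this
  have hform : ∀ {p : PV}, p ∈ Gam → ∀ u v, bv (p u) (p v) = bv u v := by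
    intro p hp u v
    have hq : ∀ w, herm (p w) (p w) = herm w w := by
      intro w
      have hp' : p ∈ Kp ∨ eo * p ∈ Kp := by revert hp; unfold Gam; exact id
      rcases hp' with h | h
      · exact (Kp_le_LinG h).form w
      · have := (Kp_le_LinG h).form w
        rw [Equiv.Perm.mul_apply, eo_form] at this
        exact this
    rw [bv, bv, ← Gam_addP hp, hq, hq, hq]
  have hp1 : ∀ {p : PV}, p * t * p⁻¹ ≠ 1 := fun e => h1 (conj_eq_one_iff.1 e)
  have hp2 : ∀ {p : PV}, p * t * p⁻¹ * (p * t * p⁻¹) = 1 := fun {p} => by rw [conj_mul, h2, mul_one, mul_inv_cancel]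
  obtain ⟨f1, f2, f3, -⟩ := facts_T hpt hp2 hp1
  have hpa := Gam_addP hp
  rw [AddP.conj_fx] at f1 f2 f3
  rw [hpa.conj_rg] at f2 f3
  refine ⟨?_, fun hK v hv => ?_, fun v hv => ?_, fun U hU hUG hc => ?_⟩
  · rw [Set.ncard_image_of_injective _ p.injective] at f1
    rw [f1]
    exact if_congr (hmem hp ht) rfl rfl
  · obtain ⟨w, hw, e⟩ := f2 (fun h => hK ((hmem hp ht).1 h)) ⟨v, hv, rfl⟩
    exact p.injective e ▸ hw
  · obtain ⟨w, hw, e⟩ := f3 (p v) (by rintro _ ⟨f, hf, rfl⟩; rw [hform hp]; exact hv f hf)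
    exact p.injective e ▸ hw
  · obtain ⟨p, hp, hpt, hpU⟩ := key U hU hUG hc
    have hpa := Gam_addP hp
    obtain ⟨-, -, -, f4⟩ := facts_T hpt hp2 hp1
    set U' := U.map (MulAut.conj p).toMonoidHom with hU'
    obtain ⟨s1, s2⟩ := f4 U' (by rintro _ ⟨e, he, rfl⟩; exact hpU e he)
      (by rintro _ ⟨e, he, rfl⟩; exact (Commute.conj_iff p).2 (hc e he))
    have hcard : Nat.card (U ⊓ Kp : Subgroup PV) = Nat.card (U' ⊓ Kp : Subgroup PV) := by
      rw [← Subgroup.card_map_of_injective (K := U ⊓ Kp) (MulAut.conj p).injective (f := (MulAut.conj p).toMonoidHom)]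
      have e : (U ⊓ Kp).map (MulAut.conj p).toMonoidHom = U' ⊓ Kp := by
        ext x
        constructor
        · rintro ⟨e, ⟨heU, heK⟩, rfl⟩
          exact ⟨⟨e, heU, rfl⟩, hKn p hp e heK⟩
        · rintro ⟨⟨e, heU, rfl⟩, hK⟩
          exact ⟨e, ⟨heU, (hmem hp (hUG heU)).1 hK⟩, rfl⟩
      rw [e]
    refine ⟨fun h => hcard ▸ s1 ?_, fun W hW hsub => ?_⟩
    · rintro _ ⟨⟨e, he, rfl⟩, hK⟩
      show (Im _ (p * e * p⁻¹)).ncard ≤ 2
      rw [hpa.conj_im, Set.ncard_image_of_injective _ p.injective]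
      exact h e ⟨he, (hmem hp (hUG he)).1 hK⟩
    · rw [hcard]
      refine (s2 (p '' W) (by rwa [Set.ncard_image_of_injective _ p.injective]) ?_).trans
        (le_of_eq (if_congr (hmem hp ht) rfl rfl))
      rintro _ ⟨⟨e, he, rfl⟩, hK⟩
      show Im _ (p * e * p⁻¹) ⊆ _
      rw [hpa.conj_im]
      exact Set.image_mono (hsub e ⟨he, (hmem hp (hUG he)).1 hK⟩)

end Cfsg.Agent.Spor.JFour
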