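import Cfsg.Agent.Lib.Spor.JFourM22
import Cfsg.Agent.Lib.Local.FS.MathieuPerms

/-!
The elements of order three of M22 form one conjugacy class: the normaliser of a Sylow subgroup of order nine is
transitive on its eight non-trivial elements.
-/

set_option autoImplicit false
set_option maxRecDepth 100000

namespace Cfsg.Agent.Spor.JFour

local notation "G22" => Subtype (fun x => x ∈ Cfsg.Spor.M22)

/-- the product of a word in the generators -/
def eWord (w : List ℕ) : G22 := (w.map eGen).prod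

/-- the elements of a subgroup of order nine -/
def t3 (i j : Fin 3) : G22 :=
  eWord [2, 2, 0] ^ (i : ℕ) * eWord [1, 0, 2, 1, 0, 0, 2, 0, 2, 0, 0] ^ (j : ℕ)

/-- elements moving the first one to all others -/
def c3 : List (List ℕ) :=
  [[], [0, 0, 1, 2, 0, 0, 2, 0, 2, 0, 1], [2, 0, 1, 2, 0, 2, 0, 1, 1, 0, 0], [], [0, 1, 0, 0, 2, 1, 0, 1, 2],
    [1, 0, 2, 2, 1, 1, 0, 2, 0, 0, 0], [1, 0, 0, 2, 2, 0, 1, 0], [1, 0, 1, 1, 0, 2, 0, 0, 0],
    [2, 1, 0, 2, 2, 0, 2, 1, 0, 1]]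

theorem t3_group : (∀ i j k l : Fin 3, t3 i j * t3 k l = t3 (i + k) (j + l)) ∧
    (∀ i j k l : Fin 3, t3 i j = t3 k l → i = k ∧ j = l) ∧ t3 0 0 = 1 := by
  decide +kernel

theorem t3_move : ∀ i j : Fin 3, (i, j) ≠ (0, 0) →
    eWord (c3.getD (3 * i.val + j.val) []) * t3 1 0 = t3 i j * eWord (c3.getD (3 * i.val + j.val) []) := by
  decide +kernel

/-- the subgroup of order nine -/
def T3 : Subgroup G22 where
  carrier := {e | ∃ i j, t3 i j = e}
  one_mem' := ⟨0, 0, t3_group.2.2⟩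
  mul_mem' := by
    rintro _ _ ⟨i, j, rfl⟩ ⟨k, l, rfl⟩
    exact ⟨i + k, j + l, (t3_group.1 i j k l).symm⟩
  inv_mem' := by
    rintro _ ⟨i, j, rfl⟩
    exact ⟨-i, -j, (inv_eq_of_mul_eq_one_right (by
      rw [t3_group.1, add_neg_cancel, add_neg_cancel, t3_group.2.2])).symm⟩

theorem three_class {a b : G22} (ha : orderOf a = 3) (hb : orderOf b = 3) : IsConj a b := by
  haveI : Fact (Nat.Prime 3) := ⟨Nat.prime_three⟩
  have hc : Nat.card T3 = 9 := by
    refine (Nat.card_eq_of_bijective (fun p : Fin 3 × Fin 3 => (⟨t3 p.1 p.2, p.1, p.2, rfl⟩ : T3)) ⟨?_, ?_⟩).symm.trans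
      (by rw [Nat.card_prod, Nat.card_fin])
    · intro p q e
      obtain ⟨h1, h2⟩ := t3_group.2.1 _ _ _ _ (congrArg Subtype.val e)
      exact Prod.ext h1 h2
    · rintro ⟨_, i, j, rfl⟩
      exact ⟨(i, j), rfl⟩
  have hf : (Nat.card G22).factorization 3 = 2 := by
    rw [Local.FS.Mathieu.card_m22, Nat.factorization_def _ Nat.prime_three,
      show (443520 : ℕ) = 3 ^ 2 * 49280 by norm_num, padicValNat.mul (by norm_num) (by norm_num),
      padicValNat.prime_pow, padicValNat.eq_zero_of_not_dvd (by norm_num)]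
  let S : Sylow 3 G22 := Sylow.ofCard T3 (by rw [hc, hf]; norm_num)
  suffices h : ∀ e : G22, orderOf e = 3 → IsConj (t3 1 0) e from (h a ha).symm.trans (h b hb)
  intro e he
  obtain ⟨R, hR⟩ := (IsPGroup.of_card (n := 1) (by rw [Nat.card_zpowers, he, pow_one]) :
    IsPGroup 3 (Subgroup.zpowers e)).exists_le_sylow
  obtain ⟨g, hg⟩ := MulAction.exists_smul_eq G22 R S
  have h1 : MulAut.conj g • e ∈ (g • R : Sylow 3 G22) :=
    Subgroup.smul_mem_pointwise_smul _ (MulAut.conj g) _ (hR (Subgroup.mem_zpowers e))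
  rw [hg] at h1
  obtain ⟨i, j, hij⟩ := h1
  have hne : (i, j) ≠ (0, 0) := fun h => by
    simp only [Prod.mk.injEq] at h
    rw [h.1, h.2, t3_group.2.2] at hij
    have : g * e * g⁻¹ = 1 := hij.symm
    rw [conj_eq_one_iff] at this
    rw [this, orderOf_one] at he
    omega
  have h2 : IsConj (t3 1 0) (t3 i j) :=
    isConj_iff.2 ⟨_, mul_inv_eq_iff_eq_mul.2 (t3_move i j hne)⟩
  exact h2.trans (isConj_iff.2 ⟨g, hij.symm⟩).symm

end Cfsg.Agent.Spor.JFour
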