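import Cfsg.Agent.Lib.Spor.JFourUnique
import Cfsg.Agent.Lib.Spor.JFourThree
import Cfsg.Agent.Lib.Spor.JFourSylow

/-!
An element of order three of 3.M22 outside the scalars: it is conjugate to a standard one, and an element of odd
order commuting with it and fixing all its fixed vectors is one of its powers.
-/

set_option autoImplicit false
set_option maxRecDepth 100000

namespace Cfsg.Agent.Spor.JFour

open Cfsg.Agent.Spor.SUSix (V6 code code_lt vecOf_code)
open Cfsg.Agent.Spor.SpFour (F4)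
open Cfsg.Agent.Spor.CC

attribute [local irreducible] Gam Chk.app

local notation "G22" => Subtype (fun x => x ∈ Cfsg.Spor.M22)

/-- the standard element of order three -/
def pX : PV := wd Dat.wX

theorem pX_facts : pX ∈ Kp ∧ cols pX = Chk.cX ∧ pX ^ 3 = 1 := by
  have h := Chk.cycX_ok
  simp only [Chk.cycXOK, Bool.and_eq_true, leq_iff, List.all_eq_true] at h
  have hlt : ∀ s ∈ Dat.wX, s < 4 := fun s hs => Nat.le_of_ble_eq_true (h.1.2 s hs)
  have hc : cols pX = Chk.cX := wd_cols _ fun s hs => Nat.lt_succ_of_lt (hlt s hs)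
  refine ⟨wd_mem _ hlt, hc, eq_of_cols (cols_pow (wd_addP _) 3).2 AddP.one ?_⟩
  show cols (pX ^ 3) = _
  rw [pX, (cols_pow (wd_addP _) 3).1, ← pX, hc, cols_one]
  exact h.1.1.2

theorem pX_scal : ∀ j : ℕ, j < 3 → ∃ c ∈ Kp, c * pX * c⁻¹ = pX * gW ^ j := by
  intro j hj
  rcases Nat.eq_zero_or_pos j with rfl | hj0
  · exact ⟨1, one_mem _, by simp⟩
  have h := Chk.cycX_ok
  simp only [Chk.cycXOK, Bool.and_eq_true, leq_iff, List.all_eq_true, List.mem_range] at h
  obtain ⟨hlt, he⟩ := h.2 (j - 1) (by omega)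
  have hlt' : ∀ s ∈ Dat.wXc.getD (j - 1) [], s < 4 := fun s hs => Nat.le_of_ble_eq_true (hlt s hs)
  refine ⟨wd (Dat.wXc.getD (j - 1) []), wd_mem _ hlt', mul_inv_eq_iff_eq_mul.2 ?_⟩
  have hW : AddP gW := (gP_spec 3).1
  have hX : AddP pX := wd_addP _
  refine eq_of_cols ((wd_addP _).mul hX) ((hX.mul (cols_pow hW j).2).mul (wd_addP _)) ?_
  rw [cols_mul (wd_addP _), cols_mul (hX.mul (cols_pow hW j).2), cols_mul hX, (cols_pow hW j).1,
    show cols gW = Chk.cW from (gP_spec 3).2.1, pX_facts.2.1, wd_cols _ fun s hs => Nat.lt_succ_of_lt (hlt' s hs)]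
  rw [Nat.sub_add_cancel hj0] at he
  exact he

theorem pX_ne : pX ∉ Subgroup.zpowers gW := by
  intro h
  have hW : AddP gW := (gP_spec 3).1
  have cW : cols gW = Chk.cW := (gP_spec 3).2.1
  rcases gW_cases h with e | e | e <;> have e' := congrArg cols e <;> rw [pX_facts.2.1] at e'
  · rw [cols_one] at e'
    revert e'; decide +kernel
  · rw [cW] at e'
    revert e'; decide +kernel
  · rw [cols_mul hW, cW] at e'
    revert e'; decide +kernel

/-- all elements of order three outside the scalars are conjugate -/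
theorem conj_pX (hM : Mdl) {p : PV} (hp : p ∈ Kp) (h3 : p ^ 3 = 1) (hns : p ∉ Subgroup.zpowers gW) :
    ∃ k ∈ Kp, k * p * k⁻¹ = pX := by
  obtain ⟨ψ, O⟩ := hM
  haveI : Fact (Nat.Prime 3) := ⟨Nat.prime_three⟩
  have ho : ∀ q : Kp, (q : PV) ^ 3 = 1 → (q : PV) ∉ Subgroup.zpowers gW → orderOf (ψ q) = 3 := fun q hq hq' =>
    orderOf_eq_prime (by rw [← map_pow, show q ^ 3 = 1 from Subtype.ext (by rw [SubmonoidClass.coe_pow, hq]; rfl),
      map_one]) fun e => hq' ((O.ker q).1 e)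
  obtain ⟨c, hc⟩ := isConj_iff.1 (three_class (ho ⟨p, hp⟩ h3 hns) (ho ⟨pX, pX_facts.1⟩ pX_facts.2.2 pX_ne))
  obtain ⟨k, rfl⟩ := O.surj c
  have hm : (((⟨pX, pX_facts.1⟩ : Kp)⁻¹ * (k * ⟨p, hp⟩ * k⁻¹) : Kp) : PV) ∈ Subgroup.zpowers gW :=
    (O.ker _).1 (by rw [map_mul, map_inv, map_mul, map_mul, map_inv, hc, inv_mul_cancel])
  obtain ⟨j, hj, e⟩ : ∃ j, j < 3 ∧ (k : PV) * p * (k : PV)⁻¹ = pX * gW ^ j := by
    rcases gW_cases hm with e | e | e <;> simp only [Subgroup.coe_mul, Subgroup.coe_inv] at e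
    · exact ⟨0, by norm_num, by rw [pow_zero]; exact eq_mul_of_inv_mul_eq e⟩
    · exact ⟨1, by norm_num, by rw [pow_one]; exact eq_mul_of_inv_mul_eq e⟩
    · exact ⟨2, by norm_num, by rw [pow_two]; exact eq_mul_of_inv_mul_eq e⟩
  obtain ⟨d, hd, hd'⟩ := pX_scal j hj
  refine ⟨d⁻¹ * (k : PV), mul_mem (inv_mem hd) k.2, ?_⟩
  rw [show d⁻¹ * (k : PV) * p * (d⁻¹ * (k : PV))⁻¹ = d⁻¹ * ((k : PV) * p * (k : PV)⁻¹) * d by group, e, ← hd']
  group

theorem fix_pX {r : PV} (hr : r ∈ Kp) (hc : Commute r pX) (hfix : ∀ v, pX v = v → r v = v)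
    {n : ℕ} (hn : r ^ n = 1) (hodd : Odd n) : r ∈ Subgroup.zpowers pX := by
  have hl := Kp_le_LinG hr
  have hX : AddP pX := wd_addP _
  obtain ⟨-, cX, -⟩ := pX_facts
  have hb := Chk.cycX_ok
  simp only [Chk.cycXOK, Bool.and_eq_true, leq_iff, List.all_eq_true, List.mem_range] at hb
  obtain ⟨⟨⟨⟨⟨⟨⟨hbuild, -⟩, hf0⟩, hf1⟩, hf2⟩, -⟩, -⟩, -⟩ := hb
  set X := cols r with hXdef
  have hcomm : Chk.cmul X Chk.cX = Chk.cmul Chk.cX X := by
    rw [← cX]; exact cols_semiconj hl.add hX hc.eq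
  have hlow : ∀ i < 6, Dat.cycX.getD i 0 < 4096 := by decide +kernel
  have happ : ∀ k < 4096, Chk.app X k = code (r (SUSix.vecOf k)) := fun k hk => by
    rw [hXdef, app_cols hl.add, code_vecOf k hk]
  set u := fun i => Chk.app X (Dat.cycX.getD i 0) with hu
  have hfixed : ∀ i < 2, u i = Dat.cycX.getD i 0 := by
    intro i hi
    have hk := hlow i (by omega)
    rw [hu]
    show Chk.app X _ = _
    rw [happ _ hk, hfix _ (code_inj (by
      rw [app_cols hX, cX, code_vecOf _ hk]; exact Nat.eq_of_beq_eq_true (hf0 i hi))), code_vecOf _ hk]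
  have e := build_eq (cols_length r) hbuild
  rw [← hXdef, cmul_withW hl.cols_comm,
    show Dat.cycX.map (Chk.app X) = [u 0, u 1, u 2, u 3, u 4, u 5] from rfl, hfixed 0 (by norm_num),
    hfixed 1 (by norm_num)] at e
  -- the pairs in the two eigenspaces
  have hpair : ∀ (L : List ℕ) (a b : ℕ), a < 6 → b < 6 →
      Chk.app Chk.cX (Dat.cycX.getD a 0) = Chk.app L (Dat.cycX.getD a 0) →
      Chk.app Chk.cX (Dat.cycX.getD b 0) = Chk.app L (Dat.cycX.getD b 0) →
      Chk.cmul X L = Chk.cmul L X → (u a, u b) ∈ Chk.eigP L (Dat.cycX.getD a 0) (Dat.cycX.getD b 0) := by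
    intro L a b ha hb ea eb hL
    have he : ∀ c < 6, Chk.app Chk.cX (Dat.cycX.getD c 0) = Chk.app L (Dat.cycX.getD c 0) → u c ∈ Chk.eigL L := by
      intro c hc' ec
      simp only [Chk.eigL, List.mem_filter, List.mem_range]
      refine ⟨app_lt (cols_lt r) _, ?_⟩
      rw [hu]
      show Nat.beq (Chk.app Chk.cX (Chk.app X _)) (Chk.app L (Chk.app X _)) = true
      rw [← app_comm hcomm, ← app_comm hL, ec, Nat.beq_refl]
    simp only [Chk.eigP, List.mem_flatMap, List.mem_map, List.mem_filter]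
    refine ⟨u a, he a ha ea, u b, ⟨he b hb eb, ?_⟩, rfl⟩
    have hlt : ∀ k ∈ Chk.withW [Dat.cycX.getD a 0, Dat.cycX.getD b 0], k < 4096 := by
      intro k hk
      have hcw : ∀ c ∈ Chk.cW, c < 4096 := by decide +kernel
      simp only [Chk.withW, List.flatMap_cons, List.flatMap_nil, List.cons_append, List.nil_append, List.mem_cons,
        List.not_mem_nil, or_false] at hk
      rcases hk with rfl | rfl | rfl | rfl
      exacts [hlow a ha, app_lt hcw _, hlow b hb, app_lt hcw _]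
    have h1 := qSame_map hl.add hl.form _ hlt
    rwa [show ((Chk.withW [Dat.cycX.getD a 0, Dat.cycX.getD b 0]).map fun k => code (r (SUSix.vecOf k))) =
      Chk.cmul X (Chk.withW [Dat.cycX.getD a 0, Dat.cycX.getD b 0]) from
        List.map_congr_left fun k hk => (happ k (hlt k hk)).symm, cmul_withW hl.cols_comm] at h1
  have hW1 : Chk.cmul X Chk.cW = Chk.cmul Chk.cW X := hl.cols_comm
  have hW2 : Chk.cmul X (Chk.cmul Chk.cW Chk.cW) = Chk.cmul (Chk.cmul Chk.cW Chk.cW) X := by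
    have hW : AddP gW := (gP_spec 3).1
    rw [← show cols gW = Chk.cW from (gP_spec 3).2.1, ← cols_mul hW]
    exact cols_semiconj hl.add (hW.mul hW) (by
      have h1 : Commute r gW := (gW_comm hl).symm
      exact (h1.mul_right h1).eq)
  have hi2 : ∀ k, Chk.itr Chk.cW 2 k = Chk.app (Chk.cmul Chk.cW Chk.cW) k := fun k => (app_cmul _ _ k).symm
  have p1 := hpair Chk.cW 2 3 (by norm_num) (by norm_num) (Nat.eq_of_beq_eq_true (hf1 0 (by norm_num)))
    (Nat.eq_of_beq_eq_true (hf1 1 (by norm_num))) hW1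
  have p2 := hpair (Chk.cmul Chk.cW Chk.cW) 4 5 (by norm_num) (by norm_num)
    ((Nat.eq_of_beq_eq_true (hf2 0 (by norm_num))).trans (hi2 _))
    ((Nat.eq_of_beq_eq_true (hf2 1 (by norm_num))).trans (hi2 _)) hW2
  have hc' := Chk.candX_ok
  simp only [Chk.candX, List.all_eq_true] at hc'
  have hc1 := hc' _ p1 _ p2
  rw [← e] at hc1
  have hA : ∀ k ∈ (List.range 1024).filter Chk.isA, Chk.isA (Chk.app X k) = true := by
    intro k hk
    simp only [List.mem_filter, List.mem_range] at hk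
    rw [happ k (by omega)]
    exact (Gam_le_Pres (Kp_le hr) _).1.2 (show Chk.isA (code (SUSix.vecOf k)) = true by
      rw [code_vecOf k (by omega)]; exact hk.2)
  simp only [Chk.candX1, Bool.or_eq_true, Bool.not_eq_true'] at hc1
  rw [hXdef, isoOK_cols hl, List.all_eq_true.2 hA] at hc1
  simp only [Bool.true_eq_false, false_or, or_false, Chk.memL, List.any_eq_true, leq_iff] at hc1
  obtain ⟨Y, hY, hYe⟩ := hc1
  have hL := Chk.listX_ok
  simp only [Chk.listXOK, List.all_eq_true, Bool.and_eq_true, Bool.or_eq_true, Bool.not_eq_true',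
    ← Bool.not_eq_true, leq_iff] at hL
  obtain ⟨h6, hcases⟩ := hL Y hY
  rw [← hYe, ← (cols_pow hl.add 6).1] at h6
  have h6' : r ^ 6 = 1 := eq_of_cols (cols_pow hl.add 6).2 AddP.one (h6.trans cols_one.symm)
  have h3 : r ^ 3 = 1 := by
    have hd := Nat.dvd_gcd (orderOf_dvd_of_pow_eq_one h6') (orderOf_dvd_of_pow_eq_one hn)
    refine orderOf_dvd_iff_pow_eq_one.1 (hd.trans ?_)
    have h2 : ¬ 2 ∣ Nat.gcd 6 n := fun h => by
      obtain ⟨m, rfl⟩ := hodd
      have := h.trans (Nat.gcd_dvd_right 6 _)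
      omega
    have hg : Nat.gcd 6 n ∣ 6 := Nat.gcd_dvd_left 6 n
    exact (show ∀ g ∈ Nat.divisors 6, ¬ 2 ∣ g → g ∣ 3 by decide) _ (Nat.mem_divisors.2 ⟨hg, by norm_num⟩) h2
  rcases hcases with ((h | h) | h) | h <;> rw [← hYe] at h
  · exact absurd (by rw [← (cols_pow hl.add 3).1, h3, cols_one]) h
  · rw [eq_of_cols hl.add AddP.one (h.trans cols_one.symm)]; exact one_mem _
  · rw [eq_of_cols hl.add hX (h.trans cX.symm)]; exact Subgroup.mem_zpowers _
  · rw [eq_of_cols hl.add (hX.mul hX) (h.trans (by rw [cols_mul hX, cX]))]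
    exact mul_mem (Subgroup.mem_zpowers _) (Subgroup.mem_zpowers _)

/-- centralising the element and its fixed vectors -/
theorem fix_three (hM : Mdl) {p r : PV} (hp : p ∈ Kp) (h3 : p ^ 3 = 1) (hns : p ∉ Subgroup.zpowers gW)
    (hr : r ∈ Kp) (hc : Commute r p) (hfix : ∀ v, p v = v → r v = v) {n : ℕ} (hn : r ^ n = 1) (hodd : Odd n) :
    r ∈ Subgroup.zpowers p := by
  obtain ⟨k, hk, hkp⟩ := conj_pX hM hp h3 hns
  have h := fix_pX (r := k * r * k⁻¹) (mul_mem (mul_mem hk hr) (inv_mem hk))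
    (hkp ▸ (Commute.conj_iff k).2 hc) (fun v hv => ?_) (n := n) (by rw [conj_pow, hn, mul_one, mul_inv_cancel]) hodd
  · rw [← hkp] at h
    obtain ⟨i, hi⟩ := h
    exact ⟨i, mul_left_cancel (mul_right_cancel ((conj_zpow (i := i) (a := k) (b := p)).symm.trans hi))⟩
  · rw [← hkp] at hv
    have h1 : p (k⁻¹ v) = k⁻¹ v := k.injective (hv.trans (k.apply_symm_apply v).symm)
    show k (r (k⁻¹ v)) = v
    rw [hfix _ h1]
    exact k.apply_symm_apply v

end Cfsg.Agent.Spor.JFour
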