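import Cfsg.Agent.Lib.Spor.JFourLine
import Cfsg.Agent.Lib.Spor.JFourFixX
import Cfsg.Agent.Lib.Char.ZStar

/-!
Janko four type: the centraliser and normaliser of the element of order three lie in the involution centraliser.
-/

set_option autoImplicit false
set_option maxRecDepth 100000
set_option linter.unusedSectionVars false

namespace Cfsg.Agent.Spor.JFour

open Cfsg.Agent.Spor.SUSix (V6 code code_lt vecOf_code)
open Cfsg.Agent.Spor.SpFour (F4)
open Cfsg.Agent.Spor.Large (XT Pair)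

attribute [local irreducible] Gam Kp BlockKer Cmp Chk.app

universe u



variable {G : Type u} [Group G] [Finite G] {z : G} {Q N : Subgroup G} {x : G}

theorem Setup.N_normal (S : Setup z Q N x) {c n : G} (hc : Commute c z) (hn : n ∈ N) : c * n * c⁻¹ ∈ N := by
  obtain ⟨φ, -, hk⟩ := S.quot
  have h := (hk (⟨c, Subgroup.mem_centralizer_singleton_iff.2 hc⟩ *
    ⟨n, Subgroup.mem_centralizer_singleton_iff.2 (S.le n hn)⟩ *
    ⟨c, Subgroup.mem_centralizer_singleton_iff.2 hc⟩⁻¹)).1 (by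
      rw [map_mul, map_mul, (hk ⟨n, _⟩).2 hn, mul_one, map_inv, mul_inv_cancel])
  exact h

theorem Frame.N_iff (f : Frame z Q x) (S : Setup z Q N x) (c : Subgroup.centralizer ({z} : Set G)) :
    (c : G) ∈ N ↔ f.π c ∈ Subgroup.zpowers gW := by
  haveI : Fact (Nat.Prime 3) := ⟨Nat.prime_three⟩
  set NC := N.subgroupOf (Subgroup.centralizer ({z} : Set G)) with hNC
  have hmap : Subgroup.zpowers gW = NC.map f.π := by
    refine Subgroup.eq_of_le_of_card_ge (Subgroup.zpowers_le.2 ⟨S.xC, S.xN, f.pi_x S.xC rfl⟩) ?_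
    rw [Nat.card_zpowers, orderOf_eq_prime gW_facts.1 gW_facts.2]
    have h1 := Subgroup.card_eq_card_quotient_mul_card_subgroup ((f.π.comp NC.subtype).ker)
    rw [Nat.card_congr (QuotientGroup.quotientKerEquivRange _).toEquiv, MonoidHom.range_comp,
      Subgroup.range_subtype, hNC,
      Nat.card_congr (Subgroup.subgroupOfEquivOfLe (show N ≤ Subgroup.centralizer ({z} : Set G) from
        fun n hn => Subgroup.mem_centralizer_singleton_iff.2 (S.le n hn))).toEquiv, S.cardN] at h1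
    have h2 : Nat.card Q ≤ Nat.card ((f.π.comp NC.subtype).ker) := by
      refine Nat.card_le_card_of_injective
        (fun q : Q => (⟨⟨⟨q, S.mem_C q.2⟩, S.QN q.2⟩,
          MonoidHom.mem_ker.2 ((f.ker ⟨q, S.mem_C q.2⟩).2 q.2)⟩ : (f.π.comp NC.subtype).ker))
        fun a b e => Subtype.ext (congrArg (fun t : (f.π.comp NC.subtype).ker =>
          ((t.1.1 : Subgroup.centralizer ({z} : Set G)) : G)) e)
    have h3 : 0 < Nat.card Q := Nat.card_pos
    by_contra hh
    push Not at hh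
    have := Nat.mul_le_mul_left (Nat.card (NC.map f.π)) h2
    nlinarith
  rw [hmap]
  refine ⟨fun h => ⟨c, h, rfl⟩, ?_⟩
  rintro ⟨n, hn, e⟩
  have h2 : f.π (n⁻¹ * c) = 1 := by rw [map_mul, map_inv, e, inv_mul_cancel]
  have := mul_mem (show (n : G) ∈ N from hn) (S.QN ((f.ker _).1 h2))
  simpa using this

theorem Frame.odd_Kp (f : Frame z Q x) (S : Setup z Q N x) {c : Subgroup.centralizer ({z} : Set G)} {n : ℕ}
    (hn : c ^ n = 1) (hodd : Odd n) : f.π c ∈ Kp := by
  rw [f.mem_Kp]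
  have h := (f.N_iff S (c * S.xC * c⁻¹)).1 (S.N_normal (Subgroup.mem_centralizer_singleton_iff.1 c.2) S.xN)
  rw [map_mul, map_mul, map_inv, f.pi_x S.xC rfl] at h
  set p := f.π c with hp
  rcases gW_cases h with e | e | e
  · exact absurd (conj_eq_one_iff.1 e) gW_facts.2
  · exact mul_inv_eq_iff_eq_mul.1 e
  · have h2 : Commute (p ^ 2) gW := by
      refine mul_inv_eq_iff_eq_mul.1 ?_
      calc p ^ 2 * gW * (p ^ 2)⁻¹ = p * (p * gW * p⁻¹) * p⁻¹ := by rw [pow_two]; group
        _ = p * gW * p⁻¹ * (p * gW * p⁻¹) := by conv_lhs => rw [e]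
                                                group
        _ = gW := by
          rw [e, show gW * gW * (gW * gW) = gW ^ 3 * gW by rw [pow_succ, pow_two]; group, gW_facts.1, one_mul]
    obtain ⟨m, rfl⟩ := hodd
    have h3 : p = (p ^ 2) ^ (m + 1) := by
      rw [← pow_mul, show 2 * (m + 1) = 2 * m + 1 + 1 by ring, pow_succ _ (2 * m + 1), hp, ← map_pow, hn,
        map_one, one_mul]
    rw [h3]
    exact h2.pow_left _

theorem Setup.Q_two (S : Setup z Q N x) {a : G} (ha : a ∈ Q) : a ^ 4 = 1 := by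
  rw [show (4 : ℕ) = 2 * 2 from rfl, pow_mul, pow_two a]
  rcases S.ord.xt.sq_mem ha with e | e <;> rw [e]
  · exact one_pow 2
  · rw [pow_two, S.ord.xt.sq]

variable (S : Big z Q N x) (f : Frame z Q x)

include S f

theorem Big.not_Q {a : G} (hx : Commute a x) (ha : a ∈ Q) (h1 : a ≠ 1) (hz : a ≠ z) : False :=
  (S.ker f ha hx).elim h1 hz

/-- an involution commuting with both does not have the element of order three in its own subgroup -/
theorem Big.excl {g : G} (hgz : Commute (g * z * g⁻¹) z) (hne : g * z * g⁻¹ ≠ z)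
    (hux : Commute (g * z * g⁻¹) x) (hxN : g⁻¹ * x * g ∈ N) : False := by
  set u := g * z * g⁻¹ with hu
  have hxz : Commute x z := S.base.ord.xz
  have hu2 : u * u = 1 := (S.xtc g).sq
  have hu1 : u ≠ 1 := (S.xtc g).ne
  let uC : Subgroup.centralizer ({z} : Set G) := ⟨u, Subgroup.mem_centralizer_singleton_iff.2 hgz⟩
  set t := f.π uC with ht
  have ht1 : t ≠ 1 := fun e => S.not_Q f hux ((f.ker uC).1 e) hu1 hne
  have ht2 : t * t = 1 := by
    rw [ht, ← map_mul, show uC * uC = 1 from Subtype.ext hu2, map_one]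
  have htK : t ∈ Kp := S.Kp_of_comm f (Subtype.ext hux)
  have hF := (invol_facts f.mdl (Kp_le htK) ht2 ht1).fix_card
  rw [if_pos htK] at hF
  -- the central involution is outside the conjugate
  have hzg : z ∉ Qc Q g := by
    intro h
    rw [mem_Qc] at h
    set a := g⁻¹ * z * g with ha
    have hx' : Commute a (g⁻¹ * x * g) := by
      have := (Commute.conj_iff g⁻¹).2 hxz.symm
      rwa [inv_inv] at this
    have hxC' : Commute (g⁻¹ * x * g) z := S.base.le _ hxN
    let x' : Subgroup.centralizer ({z} : Set G) := ⟨g⁻¹ * x * g, Subgroup.mem_centralizer_singleton_iff.2 hxC'⟩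
    have hπ : f.π x' (f.vec a) = f.vec a := by
      rw [← f.vec_conj x' a h]
      exact congrArg f.vec (mul_inv_eq_iff_eq_mul.2 hx'.symm.eq)
    have hx1 : f.π x' ≠ 1 := by
      intro e
      have h4 := S.base.Q_two ((f.ker x').1 e)
      have h3 : (g⁻¹ * x * g) ^ 3 = 1 := by
        have := conj_pow (i := 3) (a := g⁻¹) (b := x)
        rw [inv_inv] at this
        rw [this, S.base.ord.cube, mul_one, inv_mul_cancel]
      change (g⁻¹ * x * g) ^ 4 = 1 at h4
      rw [pow_succ, h3, one_mul] at h4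
      exact S.base.x1 (by rw [← mul_one x, ← mul_inv_cancel g, show x * (g * g⁻¹) = g * (g⁻¹ * x * g) * g⁻¹ by group,
        h4, mul_one, mul_inv_cancel])
    have key : ∀ c : F4, (c = F4.w * c → c = 0) ∧ (c = F4.w * (F4.w * c) → c = 0) := by decide +kernel
    have hv0 : f.vec a = 0 := by
      rcases gW_cases ((f.N_iff S.base x').1 hxN) with e | e | e
      · exact absurd e hx1
      · rw [e, gW_apply] at hπ
        exact funext fun i => (key _).1 (congrFun hπ i).symm
      · rw [e, Equiv.Perm.mul_apply, gW_apply, gW_apply] at hπ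
        exact funext fun i => (key _).2 (congrFun hπ i).symm
    rcases (f.vec_eq 1 (one_mem _) a h).1 ((f.vec_one S.base).trans hv0.symm) with e | e
    · exact S.base.ord.xt.ne (by
        rw [show z = g * a * g⁻¹ by rw [ha]; group, e, mul_one, mul_inv_cancel])
    · rw [one_mul] at e
      exact hne (by rw [hu]; nth_rewrite 1 [← e]; rw [ha]; group)
  -- the part of Q centralising the second involution
  set D := Q ⊓ Subgroup.centralizer ({u} : Set G) with hD
  have hzD : z ∈ D := ⟨S.base.ord.xt.mem, Subgroup.mem_centralizer_singleton_iff.2 hgz.symm⟩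
  have hA : ∀ d ∈ D, ∃ a, a ∈ D ∧ a ∈ Qc Q g ∧ (d = a ∨ d = a * z) := by
    intro d hd
    obtain ⟨hdQ, hdu⟩ := hd
    have hdu' : Commute d u := Subgroup.mem_centralizer_singleton_iff.1 hdu
    set a := x * d * x⁻¹ * d⁻¹ with ha
    have haQ : a ∈ Q := mul_mem (S.base.ord.normQ x hxz d hdQ) (inv_mem hdQ)
    have hau : Commute a u := ((hux.symm.mul_left hdu').mul_left hux.symm.inv_left).mul_left hdu'.inv_left
    have haQc : a ∈ Qc Q g := by
      rw [mem_Qc]
      have hd' : Commute (g⁻¹ * d * g) z := by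
        have := (Commute.conj_iff g⁻¹).2 hdu'
        rwa [inv_inv, show g⁻¹ * u * g = z by rw [hu]; group] at this
      have hm : g⁻¹ * a * g ∈ N := by
        have := mul_mem hxN (S.base.N_normal hd' (inv_mem hxN))
        rwa [show g⁻¹ * x * g * (g⁻¹ * d * g * (g⁻¹ * x * g)⁻¹ * (g⁻¹ * d * g)⁻¹) = g⁻¹ * a * g by
          rw [ha]; group] at this
      have hmz : Commute (g⁻¹ * a * g) z := S.base.le _ hm
      let m : Subgroup.centralizer ({z} : Set G) := ⟨g⁻¹ * a * g, Subgroup.mem_centralizer_singleton_iff.2 hmz⟩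
      refine (f.ker m).1 ?_
      have h4 : m ^ 4 = 1 := by
        refine Subtype.ext ?_
        show (g⁻¹ * a * g) ^ 4 = 1
        have := conj_pow (i := 4) (a := g⁻¹) (b := a)
        rw [inv_inv] at this
        rw [this, S.base.Q_two haQ, mul_one, inv_mul_cancel]
      have hπ4 : f.π m ^ 4 = 1 := by rw [← map_pow, h4, map_one]
      rcases gW_cases ((f.N_iff S.base m).1 hm) with e | e | e
      · exact e
      · rw [e, pow_succ, gW_facts.1, one_mul] at hπ4
        exact absurd hπ4 gW_facts.2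
      · exfalso
        rw [e, show (gW * gW) ^ 4 = (gW ^ 3) ^ 2 * (gW * gW) by
          rw [← pow_two, ← pow_mul, ← pow_mul, ← pow_add], gW_facts.1, one_pow, one_mul] at hπ4
        have h3 := gW_facts.1
        rw [pow_succ, pow_two, hπ4, one_mul] at h3
        exact gW_facts.2 h3
    have hax : x⁻¹ * a * x ∈ D ∧ x⁻¹ * a * x ∈ Qc Q g := by
      refine ⟨⟨?_, ?_⟩, ?_⟩
      · have := S.base.ord.normQ x⁻¹ hxz.inv_left a haQ
        rwa [inv_inv] at this
      · exact Subgroup.mem_centralizer_singleton_iff.2 ((hux.symm.inv_left.mul_left hau).mul_left hux.symm)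
      · have := S.Qc_norm (c := x⁻¹) hux.symm.inv_left haQc
        rwa [inv_inv] at this
    -- vec a = w^2 vec d
    refine ⟨x * a * x⁻¹, ⟨S.base.ord.normQ x hxz a haQ, Subgroup.mem_centralizer_singleton_iff.2
      ((hux.symm.mul_left hau).mul_left hux.symm.inv_left)⟩, S.Qc_norm hux.symm haQc, ?_⟩
    refine (f.vec_eq _ (S.base.ord.normQ x hxz a haQ) d hdQ).1 ?_
    rw [f.vec_xc S.base haQ, ha, f.vec_mul _ (S.base.ord.normQ x hxz d hdQ) _ (inv_mem hdQ), f.vec_xc S.base hdQ,
      f.vec_inv S.base hdQ]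
    have key : ∀ c : F4, F4.w * (F4.w * c + c) = c := by decide +kernel
    exact funext fun i => key _
  have hDabel : ∀ a b, a ∈ D → b ∈ D → a * a = 1 ∧ Commute a b := by
    intro a b ha hb
    obtain ⟨a', ha'D, ha', ea⟩ := hA a ha
    obtain ⟨b', hb'D, hb', eb⟩ := hA b hb
    have hab : Commute a' b' := by
      rcases (S.xtc g).comm a' ha' b' hb' with e | e
      · exact mul_inv_eq_iff_eq_mul.1 e
      · rcases S.base.ord.xt.comm a' ha'D.1 b' hb'D.1 with e' | e'
        · exact mul_inv_eq_iff_eq_mul.1 e'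
        · exact absurd (mul_left_cancel (e.symm.trans e')) hne
    have haa : a' * a' = 1 := by
      rcases (S.xtc g).sq_mem ha' with e | e
      · exact e
      · rcases S.base.ord.xt.sq_mem ha'D.1 with e' | e'
        · exact e'
        · exact absurd (e.symm.trans e') hne
    have hza : Commute z a' := S.base.ord.xt.cen a' ha'D.1
    have hzb : Commute z b' := S.base.ord.xt.cen b' hb'D.1
    refine ⟨?_, ?_⟩
    · rcases ea with e | e <;> rw [e]
      · exact haa
      · rw [hza.mul_mul_mul_comm, haa, S.base.ord.xt.sq, mul_one]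
    · rcases ea with e | e <;> rcases eb with e' | e' <;> rw [e, e']
      · exact hab
      · exact hab.mul_right hza.symm
      · exact hab.mul_left hzb
      · exact (hab.mul_right hza.symm).mul_left (hzb.mul_right (Commute.refl z))
  -- counting
  have hD7 : Nat.card D ≤ 2 ^ 7 := by
    obtain ⟨hrk, -⟩ := Solv.ExtTwo.main.{u, 0} 6 (by norm_num) Q _ S.ext2 (by rw [S.base.ord.cardQ])
    have hEl : Cfsg.IsElementaryAbelian 2 (D.subgroupOf Q) := by
      refine ⟨⟨⟨fun a b => Subtype.ext (Subtype.ext ?_)⟩⟩, fun a ha => Subtype.ext ?_⟩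
      · exact (hDabel _ _ a.2 b.2).2.eq
      · show (a : G) ^ 2 = 1
        rw [pow_two]; exact (hDabel _ _ ha ha).1
    rw [← Nat.card_congr (Subgroup.subgroupOfEquivOfLe (inf_le_left : D ≤ Q)).toEquiv]
    rcases hrk with h | h <;> exact le_trans (h.2 _ hEl) (by norm_num)
  have hfix : ∀ v, t v = v → ∃ q ∈ Q, f.vec q = v ∧ (u * q * u⁻¹ = q ∨ u * q * u⁻¹ = q * z) := by
    intro v hv
    obtain ⟨q, hq, rfl⟩ := f.vec_surj v
    refine ⟨q, hq, rfl, (f.vec_eq q hq _ (S.base.ord.normQ u hgz q hq)).1 ?_⟩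
    exact ((f.vec_conj uC q hq).trans hv).symm
  have hV : 256 ≤ 2 * (f.vec '' (D : Set G)).ncard := by
    rw [← hF]
    by_cases hmove : ∃ q0 ∈ Q, u * q0 * u⁻¹ = q0 * z
    · obtain ⟨q0, hq0, hq0u⟩ := hmove
      have hsub : Fx t ⊆ f.vec '' (D : Set G) ∪ (fun w => w + f.vec q0) '' (f.vec '' (D : Set G)) := by
        intro v hv
        obtain ⟨q, hq, rfl, hq' | hq'⟩ := hfix v hv
        · exact Or.inl ⟨q, ⟨hq, Subgroup.mem_centralizer_singleton_iff.2 (mul_inv_eq_iff_eq_mul.1 hq').symm⟩, rfl⟩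
        · refine Or.inr ⟨f.vec (q * q0), ⟨_, ⟨mul_mem hq hq0, Subgroup.mem_centralizer_singleton_iff.2
            (mul_inv_eq_iff_eq_mul.1 ?_).symm⟩, rfl⟩, ?_⟩
          · rw [← conj_mul, hq', hq0u]
            calc q * z * (q0 * z) = q * (z * q0) * z := by group
              _ = q * q0 := by
                rw [(S.base.ord.xt.cen q0 hq0).eq, mul_assoc, mul_assoc q0, S.base.ord.xt.sq, mul_one]
          · show f.vec (q * q0) + f.vec q0 = f.vec q
            rw [f.vec_mul q hq q0 hq0, add_assoc, v6_two, add_zero]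
      refine ((Set.ncard_le_ncard hsub (Set.toFinite _)).trans (Set.ncard_union_le _ _)).trans ?_
      rw [two_mul]
      exact Nat.add_le_add_left (Set.ncard_image_le (Set.toFinite _)) _
    · push Not at hmove
      refine le_trans (Set.ncard_le_ncard (fun v hv => ?_) (Set.toFinite _)) (Nat.le_mul_of_pos_left _ (by norm_num))
      obtain ⟨q, hq, rfl, hq' | hq'⟩ := hfix v hv
      · exact ⟨q, ⟨hq, Subgroup.mem_centralizer_singleton_iff.2 (mul_inv_eq_iff_eq_mul.1 hq').symm⟩, rfl⟩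
      · exact absurd hq' (hmove q hq)
  have := f.vecCard S.base D inf_le_left hzD
  omega

/-- normal subgroups of the cover -/
theorem Big.normal_cases (M : Subgroup (Kx S.base)) [hM : M.Normal] :
    M ≤ Subgroup.center (Kx S.base) ∨ M = ⊤ := by
  obtain ⟨hperf, -, -, ⟨e⟩⟩ := S.cover_main f
  haveI := simple_G22
  set π0 := QuotientGroup.mk' (Subgroup.center (Kx S.base)) with hπ0
  haveI : IsSimpleGroup (↥(Kx S.base) ⧸ Subgroup.center ↥(Kx S.base)) := e.isSimpleGroup_congr.mpr inferInstance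
  haveI : (M.map π0).Normal := hM.map π0 (QuotientGroup.mk'_surjective _)
  rcases IsSimpleGroup.eq_bot_or_eq_top_of_normal (M.map π0) inferInstance with h | h
  · left
    have := (Subgroup.map_eq_bot_iff _).1 h
    rwa [QuotientGroup.ker_mk'] at this
  · right
    have hcm : M ⊔ Subgroup.center (Kx S.base) = ⊤ := by
      have := Subgroup.comap_map_eq π0 M
      rw [h, Subgroup.comap_top, QuotientGroup.ker_mk'] at this
      exact this.symm
    have htop : ⁅(⊤ : Subgroup (Kx S.base)), (⊤ : Subgroup (Kx S.base))⁆ = ⊤ := by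
      refine Subgroup.map_injective (Kx S.base).subtype_injective ?_
      rw [Subgroup.map_commutator, ← MonoidHom.range_eq_map, Subgroup.range_subtype, hperf]
    rw [eq_top_iff]
    refine htop.ge.trans (Subgroup.commutator_le.2 fun a _ b _ => ?_)
    have hd : ∀ a : Kx S.base, ∃ m ∈ M, ∃ c ∈ Subgroup.center (Kx S.base), a = m * c := fun a => by
      have ha : a ∈ M ⊔ Subgroup.center (Kx S.base) := hcm ▸ Subgroup.mem_top a
      obtain ⟨m, hm, c, hc, e⟩ := Subgroup.mem_sup_of_normal_left.1 ha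
      exact ⟨m, hm, c, hc, e.symm⟩
    obtain ⟨m, hm, c, hc, rfl⟩ := hd a
    rw [commutatorElement_def]
    have h1 : m * c * b * (m * c)⁻¹ * b⁻¹ = m * (b * m⁻¹ * b⁻¹) := by
      calc m * c * b * (m * c)⁻¹ * b⁻¹ = m * (c * b) * c⁻¹ * m⁻¹ * b⁻¹ := by group
        _ = _ := by rw [← Subgroup.mem_center_iff.1 hc b]; group
    rw [h1]
    exact mul_mem hm (hM.conj_mem _ (inv_mem hm) b)

/-- small elements of the centre of the cover -/
theorem Big.center_small {c : Kx S.base} (hc : c ∈ Subgroup.center (Kx S.base)) :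
    (c ^ 3 = 1 → ((c : Subgroup.centralizer ({z} : Set G)) : G) ∈ Subgroup.zpowers x) ∧
    (c ^ 2 = 1 → ((c : Subgroup.centralizer ({z} : Set G)) : G) = 1 ∨
      ((c : Subgroup.centralizer ({z} : Set G)) : G) = z) := by
  haveI : Fact (Nat.Prime 3) := ⟨Nat.prime_three⟩
  haveI : Fact (Nat.Prime 2) := ⟨Nat.prime_two⟩
  obtain ⟨-, -, h6, -⟩ := S.cover_main f
  set Z := Subgroup.center (Kx S.base) with hZ
  let xK : Kx S.base := ⟨S.base.xC, mem_Kx.2 (Commute.refl _)⟩
  let zK : Kx S.base := ⟨⟨z, S.base.zmem⟩, mem_Kx.2 (Subtype.ext S.base.ord.xz.symm.eq)⟩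
  have hxZ : xK ∈ Z := Subgroup.mem_center_iff.2 fun a => Subtype.ext (mem_Kx.1 a.2).eq
  have hzZ : zK ∈ Z := Subgroup.mem_center_iff.2 fun a =>
    Subtype.ext (Subtype.ext (Subgroup.mem_centralizer_singleton_iff.1 a.1.2))
  have hxo : orderOf (⟨xK, hxZ⟩ : Z) = 3 := orderOf_eq_prime
    (Subtype.ext (Subtype.ext S.base.cube_xC)) fun e => S.base.x1 (congrArg (fun t : Z => t.1.1.1) e)
  have hzo : orderOf (⟨zK, hzZ⟩ : Z) = 2 := orderOf_eq_prime
    (Subtype.ext (Subtype.ext (Subtype.ext ((pow_two z).trans S.base.ord.xt.sq))))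
    fun e => S.base.ord.xt.ne (congrArg (fun t : Z => t.1.1.1) e)
  constructor
  · intro h3
    have hi : (Subgroup.zpowers (⟨xK, hxZ⟩ : Z)).index = 2 := by
      have := Subgroup.card_mul_index (Subgroup.zpowers (⟨xK, hxZ⟩ : Z))
      rw [Nat.card_zpowers, hxo, h6] at this
      omega
    have h4 := pow_mem (Subgroup.sq_mem_of_index_two hi (⟨c, hc⟩ : Z)) 2
    rw [← pow_mul, show (⟨c, hc⟩ : Z) ^ (2 * 2) = ⟨c, hc⟩ from Subtype.ext (by
      show c ^ (2 * 2) = c
      rw [pow_succ c 3, h3, one_mul])] at h4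
    obtain ⟨k, hk⟩ := h4
    exact ⟨k, by
      rw [← congrArg (fun t : Z => t.1.1.1) hk]
      simp [xK, Setup.xC]⟩
  · intro h2
    have hi : (Subgroup.zpowers (⟨zK, hzZ⟩ : Z)).index = 3 := by
      have := Subgroup.card_mul_index (Subgroup.zpowers (⟨zK, hzZ⟩ : Z))
      rw [Nat.card_zpowers, hzo, h6] at this
      omega
    haveI : (Subgroup.zpowers (⟨zK, hzZ⟩ : Z)).Normal := ⟨fun n hn g => by
      rw [show g * n = n * g from Subtype.ext (Subgroup.mem_center_iff.1 n.2 g.1), mul_inv_cancel_right]; exact hn⟩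
    have h4 := Subgroup.pow_index_mem (Subgroup.zpowers (⟨zK, hzZ⟩ : Z)) (⟨c, hc⟩ : Z)
    rw [hi, show (⟨c, hc⟩ : Z) ^ 3 = ⟨c, hc⟩ from Subtype.ext (by
      show c ^ 3 = c
      rw [pow_succ, h2, one_mul])] at h4
    obtain ⟨k, hk⟩ := (mem_powers_iff_mem_zpowers (x := (⟨zK, hzZ⟩ : Z))).2 h4
    have e : ((c : Subgroup.centralizer ({z} : Set G)) : G) = z ^ k := by
      rw [← congrArg (fun t : Z => t.1.1.1) hk]
      simp [zK]
    rw [e, ← Nat.mod_add_div k 2, pow_add, pow_mul, pow_two, S.base.ord.xt.sq, one_pow, mul_one]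
    rcases Nat.mod_two_eq_zero_or_one k with e' | e' <;> rw [e']
    exacts [Or.inl (pow_zero z), Or.inr (pow_one z)]

theorem Big.isolated : Cfsg.IsIsolatedInvolution
    (⟨z, Subgroup.mem_centralizer_singleton_iff.2 S.base.ord.xz.symm⟩ : Subgroup.centralizer ({x} : Set G)) := by
  refine ⟨?_, fun g hg => Subtype.ext ?_⟩
  · rw [← Subgroup.orderOf_coe]; exact S.base.zord
  · by_contra hne
    have hgx : Commute (g : G) x := Subgroup.mem_centralizer_singleton_iff.1 g.2
    refine S.excl f (g := (g : G)) (congrArg Subtype.val hg.eq).symm hne ?_ ?_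
    · exact (hgx.mul_left S.base.ord.xz.symm).mul_left hgx.inv_left
    · rw [mul_assoc, ← hgx.eq, inv_mul_cancel_left]; exact S.base.xN

/-- the centraliser of the element of order three centralises the involution -/
theorem Big.cent_x {h : G} (hh : Commute h x) : Commute h z := by
  set L := Subgroup.centralizer ({x} : Set G) with hL
  have hmemL : ∀ {a : G}, a ∈ L ↔ Commute a x := Subgroup.mem_centralizer_singleton_iff
  set O := (Cfsg.oddCore L).map L.subtype with hO
  set P := Subgroup.zpowers x with hP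
  have hOL : O ≤ L := Subgroup.map_subtype_le _
  obtain ⟨n, hn, hodd⟩ : ∃ n, (∀ a ∈ O, a ^ n = 1) ∧ Odd n := by
    refine ⟨Nat.card (Cfsg.oddCore L), ?_, Char.card_oddCore_odd L⟩
    rintro _ ⟨a, ha, rfl⟩
    exact congrArg Subtype.val (orderOf_dvd_iff_pow_eq_one.1 (Subgroup.orderOf_dvd_natCard _ ha))
  haveI hOn : (Cfsg.oddCore L).Normal := Cfsg.pPrimeCore_normal 2 L
  have hnorm : ∀ c ∈ L, ∀ a ∈ O, c * a * c⁻¹ ∈ O := by
    rintro c hc _ ⟨a, ha, rfl⟩
    exact ⟨⟨c, hc⟩ * a * ⟨c, hc⟩⁻¹, hOn.conj_mem a ha _, rfl⟩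
  have hcomm : ∀ c ∈ L, z * c * z⁻¹ * c⁻¹ ∈ O := fun c hc =>
    ⟨_, Char.zStar_isolated (S.isolated f) ⟨c, hc⟩, rfl⟩
  have hPc : ∀ c ∈ L, ∀ p ∈ P, Commute c p := by
    rintro c hc _ ⟨k, rfl⟩
    exact (hmemL.1 hc).zpow_right k
  have hP2 : ∀ p ∈ P, p * p = 1 → p = 1 := by
    intro p hp h2
    obtain ⟨k, rfl⟩ := (mem_powers_iff_mem_zpowers (x := x)).2 hp
    show x ^ k = 1
    have h3 : (x ^ k) ^ 3 = 1 := by rw [← pow_mul, mul_comm, pow_mul, S.base.ord.cube, one_pow]
    rw [pow_succ, pow_two, h2, one_mul] at h3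
    exact h3
  have hzL : z ∈ L := hmemL.2 S.base.ord.xz.symm
  -- the centraliser of the involution in the odd core
  have hOz : ∀ a ∈ O, Commute a z → a ∈ P := by
    intro a ha haz
    let M : Subgroup (Kx S.base) := O.comap ((Subgroup.centralizer ({z} : Set G)).subtype.comp (Kx S.base).subtype)
    haveI : M.Normal := ⟨fun m hm c => hnorm _ (hmemL.2 (congrArg Subtype.val (mem_Kx.1 c.2).eq)) _ hm⟩
    let aK : Kx S.base := ⟨⟨a, Subgroup.mem_centralizer_singleton_iff.2 haz⟩,
      mem_Kx.2 (Subtype.ext (hmemL.1 (hOL ha)).eq)⟩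
    rcases S.normal_cases f M with hM | hM
    · refine ((S.center_small f) (hM (show aK ∈ M from ha))).1 ?_
      obtain ⟨-, -, h6, -⟩ := S.cover_main f
      have e6 := orderOf_dvd_iff_pow_eq_one.1 (h6 ▸ Subgroup.orderOf_dvd_natCard _ (hM (show aK ∈ M from ha)))
      have hd : orderOf aK ∣ Nat.gcd 6 n := Nat.dvd_gcd (orderOf_dvd_of_pow_eq_one e6)
        (orderOf_dvd_of_pow_eq_one (Subtype.ext (Subtype.ext (hn a ha))))
      have hg : Nat.gcd 6 n ∣ 3 := by
        have h2 : ¬ 2 ∣ Nat.gcd 6 n := fun h => by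
          obtain ⟨m, rfl⟩ := hodd
          have := h.trans (Nat.gcd_dvd_right 6 _)
          omega
        exact (show ∀ g ∈ Nat.divisors 6, ¬ 2 ∣ g → g ∣ 3 by decide) _
          (Nat.mem_divisors.2 ⟨Nat.gcd_dvd_left 6 n, by norm_num⟩) h2
      exact orderOf_dvd_iff_pow_eq_one.1 (hd.trans hg)
    · exfalso
      have hzO : z ∈ O := (hM ▸ Subgroup.mem_top (⟨⟨z, S.base.zmem⟩,
        mem_Kx.2 (Subtype.ext S.base.ord.xz.symm.eq)⟩ : Kx S.base) :)
      have h := hn z hzO
      obtain ⟨m, rfl⟩ := hodd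
      rw [pow_succ, pow_mul, pow_two, S.base.ord.xt.sq, one_pow, one_mul] at h
      exact S.base.ord.xt.ne h
  -- another involution
  obtain ⟨u, ⟨g, hgu⟩, huz, hux, hune⟩ := S.exists_u f
  have hu2 : u * u = 1 := hgu ▸ (S.xtc g).sq
  have huL : u ∈ L := hmemL.2 hux
  have hOu : ∀ a ∈ O, Commute a u → a ∈ P := by
    intro a ha hau
    have mv : ∀ {b : G}, Commute b u → g⁻¹ * b * g ∈ Subgroup.centralizer ({z} : Set G) := by
      intro b hb
      refine Subgroup.mem_centralizer_singleton_iff.2 ?_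
      have := (Commute.conj_iff g⁻¹).2 hb
      rwa [inv_inv, ← hgu, show g⁻¹ * (g * z * g⁻¹) * g = z by group] at this
    let y : Subgroup.centralizer ({z} : Set G) := ⟨g⁻¹ * a * g, mv hau⟩
    let x' : Subgroup.centralizer ({z} : Set G) := ⟨g⁻¹ * x * g, mv hux.symm⟩
    have hcp : ∀ (b : G) (k : ℕ), (g⁻¹ * b * g) ^ k = g⁻¹ * b ^ k * g := fun b k => by
      simpa using conj_pow (i := k) (a := g⁻¹) (b := b)
    have hyn : y ^ n = 1 := Subtype.ext (by
      show (g⁻¹ * a * g) ^ n = 1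
      rw [hcp, hn a ha, mul_one, inv_mul_cancel])
    have hx3 : x' ^ 3 = 1 := Subtype.ext (by
      show (g⁻¹ * x * g) ^ 3 = 1
      rw [hcp, S.base.ord.cube, mul_one, inv_mul_cancel])
    have hyx : Commute y x' := Subtype.ext (by
      show g⁻¹ * a * g * (g⁻¹ * x * g) = g⁻¹ * x * g * (g⁻¹ * a * g)
      calc g⁻¹ * a * g * (g⁻¹ * x * g) = g⁻¹ * (a * x) * g := by group
        _ = g⁻¹ * (x * a) * g := by rw [(hmemL.1 (hOL ha)).eq]
        _ = _ := by group)
    have hns : f.π x' ∉ Subgroup.zpowers gW := fun hm =>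
      S.excl f (g := g) (by rw [hgu]; exact huz) (by rw [hgu]; exact hune) (by rw [hgu]; exact hux)
        ((f.N_iff S.base x').2 hm)
    have hfix : ∀ v, f.π x' v = v → f.π y v = v := by
      intro v hv
      obtain ⟨q, hq, rfl⟩ := f.vec_surj v
      have hx'z : Commute (g⁻¹ * x * g) z := Subgroup.mem_centralizer_singleton_iff.1 x'.2
      have hqx : Commute (g⁻¹ * x * g) q := by
        rcases (f.vec_eq q hq _ (S.base.ord.normQ _ hx'z q hq)).1 ((f.vec_conj x' q hq).trans hv).symm with e | e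
        · exact mul_inv_eq_iff_eq_mul.1 e
        · exfalso
          have cm : ∀ b c : G, g⁻¹ * x * g * (b * c) * (g⁻¹ * x * g)⁻¹ =
              g⁻¹ * x * g * b * (g⁻¹ * x * g)⁻¹ * (g⁻¹ * x * g * c * (g⁻¹ * x * g)⁻¹) := fun b c => by group
          have e2 : ∀ k : ℕ, (g⁻¹ * x * g) ^ k * q * ((g⁻¹ * x * g) ^ k)⁻¹ = q * z ^ k := by
            intro k
            induction k with
            | zero => simp
            | succ k ih =>
              rw [pow_succ' (g⁻¹ * x * g), mul_inv_rev,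
                show g⁻¹ * x * g * (g⁻¹ * x * g) ^ k * q * (((g⁻¹ * x * g) ^ k)⁻¹ * (g⁻¹ * x * g)⁻¹) =
                  g⁻¹ * x * g * ((g⁻¹ * x * g) ^ k * q * ((g⁻¹ * x * g) ^ k)⁻¹) * (g⁻¹ * x * g)⁻¹ by group,
                ih, cm, e, (hx'z.pow_right k).eq, mul_inv_cancel_right, pow_succ' z, mul_assoc]
          have e3 := e2 3
          rw [hcp, S.base.ord.cube, pow_succ z 2, pow_two, S.base.ord.xt.sq] at e3
          simp only [mul_one, inv_mul_cancel, one_mul, inv_one] at e3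
          exact S.base.ord.xt.ne (mul_eq_left.1 e3.symm)
      set qu := g * q * g⁻¹ with hqu
      have hquQ : qu ∈ Qc Q g := ⟨q, hq, rfl⟩
      have hquL : qu ∈ L := hmemL.2 (by
        have := (Commute.conj_iff g).2 hqx.symm
        rwa [show g * (g⁻¹ * x * g) * g⁻¹ = x by group] at this)
      have h1 : a * qu * a⁻¹ * qu⁻¹ ∈ O := by
        have := mul_mem ha (hnorm qu hquL a⁻¹ (inv_mem ha))
        rwa [show a * (qu * a⁻¹ * qu⁻¹) = a * qu * a⁻¹ * qu⁻¹ by group] at this
      have h2 : a * qu * a⁻¹ * qu⁻¹ ∈ Qc Q g :=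
        mul_mem (S.Qc_norm (by rw [hgu]; exact hau) hquQ) (inv_mem hquQ)
      have h3 : a * qu * a⁻¹ * qu⁻¹ = 1 := by
        rw [mem_Qc] at h2
        set b := a * qu * a⁻¹ * qu⁻¹ with hb
        have e4 := S.base.Q_two h2
        have en : b ^ n = 1 := hn _ h1
        rw [hcp] at e4
        have e4' : b ^ 4 = 1 := by
          calc b ^ 4 = g * (g⁻¹ * b ^ 4 * g) * g⁻¹ := by group
            _ = 1 := by rw [e4, mul_one, mul_inv_cancel]
        have hd := Nat.dvd_gcd (orderOf_dvd_of_pow_eq_one e4') (orderOf_dvd_of_pow_eq_one en)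
        rw [show Nat.gcd 4 n = 1 from Nat.Coprime.pow_left 2 (Nat.coprime_two_left.2 hodd), Nat.dvd_one,
          orderOf_eq_one_iff] at hd
        exact hd
      rw [← f.vec_conj y q hq]
      congr 1
      show g⁻¹ * a * g * q * (g⁻¹ * a * g)⁻¹ = q
      calc g⁻¹ * a * g * q * (g⁻¹ * a * g)⁻¹ = g⁻¹ * (a * qu * a⁻¹ * qu⁻¹) * qu * g := by rw [hqu]; group
        _ = q := by rw [h3, hqu]; group
    obtain ⟨i, hi⟩ := fix_three f.mdl (f.odd_Kp S.base hx3 ⟨1, rfl⟩) (by rw [← map_pow, hx3, map_one]) hns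
      (f.odd_Kp S.base hyn hodd) (hyx.map f.π) hfix (by rw [← map_pow, hyn, map_one]) hodd
    have hq : ((x' ^ i)⁻¹ * y : Subgroup.centralizer ({z} : Set G)).1 ∈ Q :=
      (f.ker _).1 (by rw [map_mul, map_inv, map_zpow, inv_mul_eq_one]; exact hi)
    have h4 : ((x' ^ i)⁻¹ * y) ^ 4 = 1 := Subtype.ext (S.base.Q_two hq)
    have hc : Commute (x' ^ i)⁻¹ y := (hyx.symm.zpow_left i).inv_left
    have hm : ((x' ^ i)⁻¹ * y) ^ (3 * n) = 1 := by
      rw [hc.mul_pow, inv_pow, show 3 * n = n * 3 from mul_comm _ _, pow_mul y, hyn, one_pow, mul_one,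
        inv_eq_one, mul_comm n, pow_mul, ← zpow_natCast _ 3, ← zpow_mul, mul_comm i, zpow_mul, zpow_natCast, hx3,
        one_zpow, one_pow]
    have hd := Nat.dvd_gcd (orderOf_dvd_of_pow_eq_one h4) (orderOf_dvd_of_pow_eq_one hm)
    rw [show Nat.gcd 4 (3 * n) = 1 from Nat.Coprime.pow_left 2 (Nat.coprime_two_left.2 (Odd.mul ⟨1, rfl⟩ hodd)),
      Nat.dvd_one, orderOf_eq_one_iff, inv_mul_eq_one] at hd
    refine ⟨i, ?_⟩
    have e : (g⁻¹ * x * g) ^ i = g⁻¹ * a * g := congrArg Subtype.val hd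
    have e2 : g⁻¹ * x ^ i * g = g⁻¹ * a * g := by
      rw [← e]; simpa using (conj_zpow (i := i) (a := g⁻¹) (b := x)).symm
    exact mul_left_cancel (mul_right_cancel e2)
  -- both act by inversion modulo the element of order three
  set R := P.subgroupOf O with hR
  haveI : R.Normal := ⟨fun r hr o => by
    show (o : G) * r * (o : G)⁻¹ ∈ P
    rw [(show Commute (o : G) (r : G) from hPc _ (hOL o.2) _ hr).eq, mul_inv_cancel_right]; exact hr⟩
  have hinv : ∀ v, v ∈ L → v * v = 1 → (∀ a ∈ O, Commute a v → a ∈ P) → ∀ o ∈ O, v * o * v⁻¹ * o ∈ P := by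
    intro v hv hv2 hfix o ho
    let c : O →* O :=
      { toFun := fun a => ⟨v * a * v⁻¹, hnorm v hv a a.2⟩
        map_one' := Subtype.ext (by simp)
        map_mul' := fun a b => Subtype.ext (by
          show v * (a * b : G) * v⁻¹ = v * a * v⁻¹ * (v * b * v⁻¹); group) }
    let φ : O ⧸ R →* O ⧸ R := QuotientGroup.map R R c fun r hr => by
      show v * (r : G) * v⁻¹ ∈ P
      rw [(show Commute v (r : G) from hPc v hv _ hr).eq, mul_inv_cancel_right]; exact hr
    have hcc : ∀ a : G, v * (v * a * v⁻¹) * v⁻¹ = a := fun a => by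
      rw [show v * (v * a * v⁻¹) * v⁻¹ = (v * v) * a * (v * v)⁻¹ by group, hv2, one_mul, inv_one, mul_one]
    have hfpf : MonoidHom.FixedPointFree φ := by
      intro q hq
      obtain ⟨a, rfl⟩ := QuotientGroup.mk_surjective q
      rw [QuotientGroup.map_mk, QuotientGroup.eq, hR, Subgroup.mem_subgroupOf] at hq
      set p : G := (((c a)⁻¹ * a : O) : G) with hp
      have hpe : (a : G) = v * a * v⁻¹ * p := by
        rw [hp]
        show (a : G) = v * a * v⁻¹ * ((v * a * v⁻¹)⁻¹ * a)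
        group
      have hp1 : p = 1 := by
        refine hP2 p hq ?_
        have h2 : v * (v * (a : G) * v⁻¹) * v⁻¹ * (v * p * v⁻¹) = v * (a : G) * v⁻¹ := by
          conv_rhs => rw [hpe]
          group
        rw [hcc, (hPc v hv p hq).eq, mul_inv_cancel_right] at h2
        nth_rewrite 1 [hpe] at h2
        rw [mul_assoc (v * (a : G) * v⁻¹), mul_eq_left] at h2
        exact h2
      rw [hp1, mul_one] at hpe
      rw [QuotientGroup.eq_one_iff, hR, Subgroup.mem_subgroupOf]
      exact hfix a a.2 (mul_inv_eq_iff_eq_mul.1 hpe.symm).symm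
    have hi := hfpf.coe_eq_inv_of_involutive fun q => by
      obtain ⟨a, rfl⟩ := QuotientGroup.mk_surjective q
      rw [QuotientGroup.map_mk, QuotientGroup.map_mk]
      exact congrArg _ (Subtype.ext (hcc a))
    have h := congrFun hi (QuotientGroup.mk ⟨o, ho⟩)
    rw [QuotientGroup.map_mk, ← QuotientGroup.mk_inv, QuotientGroup.eq, hR, Subgroup.mem_subgroupOf] at h
    have h' : (v * o * v⁻¹)⁻¹ * o⁻¹ ∈ P := h
    have h2 := inv_mem h'
    rw [mul_inv_rev, inv_inv, inv_inv] at h2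
    have h3 : Commute o (o * (v * o * v⁻¹)) := hPc o (hOL ho) _ h2
    rw [← mul_assoc] at h3
    have : v * o * v⁻¹ * o = o * (v * o * v⁻¹) := by
      calc v * o * v⁻¹ * o = o⁻¹ * (o * (v * o * v⁻¹) * o) := by group
        _ = o⁻¹ * (o * (o * (v * o * v⁻¹))) := by
          have h4 : Commute o (o * (v * o * v⁻¹)) := hPc o (hOL ho) _ h2
          rw [h4.eq]
        _ = o * (v * o * v⁻¹) := by group
    rw [this]; exact h2
  -- the odd core is the group of order three
  have hOP : ∀ o ∈ O, o ∈ P := by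
    let M : Subgroup (Kx S.base) :=
      { carrier := {c | ∀ o ∈ O, ((c : Subgroup.centralizer ({z} : Set G)) : G) * o *
          ((c : Subgroup.centralizer ({z} : Set G)) : G)⁻¹ * o⁻¹ ∈ P}
        one_mem' := fun o _ => by simp
        mul_mem' := fun {a b} ha hb o ho => by
          have hbL : ((b : Subgroup.centralizer ({z} : Set G)) : G) ∈ L :=
            hmemL.2 (congrArg Subtype.val (mem_Kx.1 b.2).eq)
          have := mul_mem (ha _ (hnorm _ hbL o ho)) (hb o ho)
          simpa [mul_assoc] using this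
        inv_mem' := fun {a} ha o ho => by
          have haL : ((a : Subgroup.centralizer ({z} : Set G)) : G) ∈ L :=
            hmemL.2 (congrArg Subtype.val (mem_Kx.1 a.2).eq)
          have := inv_mem (ha _ (hnorm _ (inv_mem haL) o ho))
          simpa [mul_assoc] using this }
    haveI : M.Normal := ⟨fun m hm c o ho => by
      set cg := ((c : Subgroup.centralizer ({z} : Set G)) : G) with hcg
      set mg := ((m : Subgroup.centralizer ({z} : Set G)) : G) with hmg
      have hcL : cg ∈ L := hmemL.2 (congrArg Subtype.val (mem_Kx.1 c.2).eq)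
      have h1 := hm _ (hnorm _ (inv_mem hcL) o ho)
      rw [inv_inv] at h1
      show cg * mg * cg⁻¹ * o * (cg * mg * cg⁻¹)⁻¹ * o⁻¹ ∈ P
      rw [show cg * mg * cg⁻¹ * o * (cg * mg * cg⁻¹)⁻¹ * o⁻¹ =
        cg * (mg * (cg⁻¹ * o * cg) * mg⁻¹ * (cg⁻¹ * o * cg)⁻¹) * cg⁻¹ by group,
        (hPc cg hcL _ h1).eq, mul_inv_cancel_right]
      exact h1⟩
    have hzi := hinv z hzL S.base.ord.xt.sq hOz
    have hui := hinv u huL hu2 hOu
    have huzM : (⟨⟨u * z, Subgroup.mem_centralizer_singleton_iff.2 (huz.mul_left (Commute.refl z))⟩,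
        mem_Kx.2 (Subtype.ext (hux.mul_left S.base.ord.xz.symm).eq)⟩ : Kx S.base) ∈ M := by
      intro o ho
      show u * z * o * (u * z)⁻¹ * o⁻¹ ∈ P
      have h1 := hzi o ho
      have h2 := hui o⁻¹ (inv_mem ho)
      rw [show u * z * o * (u * z)⁻¹ * o⁻¹ = u * (z * o * z⁻¹ * o) * u⁻¹ * (u * o⁻¹ * u⁻¹ * o⁻¹) by group,
        (hPc u huL _ h1).eq, mul_inv_cancel_right]
      exact mul_mem h1 h2
    intro o ho
    rcases S.normal_cases f M with hM | hM
    · exfalso
      have h2 := ((S.center_small f) (hM huzM)).2 (Subtype.ext (Subtype.ext (by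
        show (u * z) ^ 2 = 1
        rw [huz.mul_pow, pow_two, pow_two, hu2, S.base.ord.xt.sq, mul_one])))
      rcases h2 with e | e
      · exact hune ((mul_eq_one_iff_eq_inv.1 e).trans (inv_eq_of_mul_eq_one_right S.base.ord.xt.sq))
      · exact (hgu ▸ (S.xtc g).ne) (mul_eq_right.1 e)
    · have hzM : (⟨⟨z, S.base.zmem⟩, mem_Kx.2 (Subtype.ext S.base.ord.xz.symm.eq)⟩ : Kx S.base) ∈ M :=
        hM ▸ Subgroup.mem_top _
      have h1 : z * o * z⁻¹ * o⁻¹ ∈ P := hzM o ho
      have h2 : o ^ 2 ∈ P := by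
        have := mul_mem (inv_mem h1) (hzi o ho)
        rwa [show (z * o * z⁻¹ * o⁻¹)⁻¹ * (z * o * z⁻¹ * o) = o ^ 2 by rw [pow_two]; group] at this
      obtain ⟨m, rfl⟩ := hodd
      have h3 := pow_mem h2 (m + 1)
      rwa [← pow_mul, show 2 * (m + 1) = 2 * m + 1 + 1 by ring, pow_succ _ (2 * m + 1), hn o ho, one_mul] at h3
  -- conclusion
  have hp := hOP _ (hcomm h (hmemL.2 hh))
  have hp2 : z * h * z⁻¹ * h⁻¹ = 1 := by
    refine hP2 _ hp ?_
    set p := z * h * z⁻¹ * h⁻¹ with hpdef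
    have e1 : z * h * z⁻¹ = p * h := by rw [hpdef]; group
    have e2 : h = p * (p * h) := by
      calc h = (z * z) * h * (z * z)⁻¹ := by rw [S.base.ord.xt.sq]; group
        _ = z * (p * h) * z⁻¹ := by rw [← e1]; group
        _ = (z * p) * z⁻¹ * (z * h * z⁻¹) := by group
        _ = _ := by rw [(hPc z hzL p hp).eq, mul_inv_cancel_right, e1]
    rw [← mul_assoc] at e2
    exact mul_eq_right.1 e2.symm
  rw [mul_inv_eq_one] at hp2
  exact (mul_inv_eq_iff_eq_mul.1 hp2).symm

/-- the normaliser of the group of order three centralises the involution -/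
theorem Big.norm_x {h : G} (hh : h ∈ Subgroup.normalizer (Subgroup.zpowers x : Set G)) : Commute h z := by
  set t := h * z * h⁻¹ with ht
  obtain ⟨k, hk⟩ : h⁻¹ * x * h ∈ Subgroup.zpowers x := by
    have := (Subgroup.mem_normalizer_iff.1 (inv_mem hh) x).1 (Subgroup.mem_zpowers x)
    rwa [inv_inv] at this
  have htx : Commute t x := by
    have := (Commute.conj_iff h).2 (S.base.ord.xz.symm.zpow_right k)
    rwa [show x ^ k = h⁻¹ * x * h from hk, show h * (h⁻¹ * x * h) * h⁻¹ = x by group] at this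
  have htc : ∀ c : G, Commute c x → Commute c t := by
    intro c hc
    obtain ⟨j, hj⟩ : h * x * h⁻¹ ∈ Subgroup.zpowers x :=
      (Subgroup.mem_normalizer_iff.1 hh x).1 (Subgroup.mem_zpowers x)
    have h1 : Commute (h⁻¹ * c * h) x := by
      have := (Commute.conj_iff h⁻¹).2 (hc.zpow_right j)
      rwa [show x ^ j = h * x * h⁻¹ from hj, inv_inv, show h⁻¹ * (h * x * h⁻¹) * h = x by group] at this
    have h2 := (Commute.conj_iff h).2 (S.cent_x f h1)
    rwa [show h * (h⁻¹ * c * h) * h⁻¹ = c by group] at h2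
  let tK : Kx S.base := ⟨⟨t, Subgroup.mem_centralizer_singleton_iff.2 (S.cent_x f htx)⟩, mem_Kx.2 (Subtype.ext htx.eq)⟩
  have hcen : tK ∈ Subgroup.center (Kx S.base) := Subgroup.mem_center_iff.2 fun c =>
    Subtype.ext (Subtype.ext (htc _ (congrArg Subtype.val (mem_Kx.1 c.2).eq)).eq)
  rcases ((S.center_small f) hcen).2 (Subtype.ext (Subtype.ext (by
      show t ^ 2 = 1
      rw [ht, conj_pow, pow_two, S.base.ord.xt.sq, mul_one, mul_inv_cancel]))) with e | e
  · exact absurd e (S.xtc h).ne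
  · exact mul_inv_eq_iff_eq_mul.1 e

end Cfsg.Agent.Spor.JFour
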