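import Cfsg.Agent.Lib.Spor.JFourSylowThree
import Cfsg.Agent.Lib.Spor.JFourApply

/-!
Janko four type: Sylow subgroups for the prime three in the group, and one class of elements of order three.
-/

set_option autoImplicit false
set_option maxRecDepth 100000
set_option linter.unusedSectionVars false

namespace Cfsg.Agent.Spor.JFour

open scoped commutatorElement

attribute [local irreducible] Gam Kp Chk.app

universe u

/-- extraspecial groups of order `p ^ 3` -/
theorem extraspecial_27 {E : Type u} [Group E] [Finite E] (hc : Nat.card E = 27)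
    (hnc : ¬ ∀ a b : E, Commute a b) (he : ∀ a : E, a ^ 3 = 1) :
    Cfsg.IsExtraspecial 3 E ∧ Monoid.exponent E = 3 := by
  haveI : Fact (Nat.Prime 3) := ⟨Nat.prime_three⟩
  have hp : IsPGroup 3 E := IsPGroup.of_card (n := 3) (by rw [hc]; norm_num)
  obtain ⟨k, hk0, hk⟩ := IsPGroup.card_center_eq_prime_pow (p := 3) (G := E) (n := 3) (by rw [hc]; norm_num) (by norm_num)
  set Z := Subgroup.center E with hZ
  have hmul := Subgroup.card_mul_index Z
  rw [hk, hc] at hmul
  have hk3 : k ≤ 3 := by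
    by_contra h
    have : 3 ^ 4 ≤ 3 ^ k := Nat.pow_le_pow_right (by norm_num) (by omega)
    nlinarith [Nat.pos_of_ne_zero (Z.index_ne_zero_of_finite)]
  have hbad : ∀ [IsCyclic (E ⧸ Z)], False := fun {_} => hnc fun a b =>
    (commutative_of_cyclic_center_quotient (QuotientGroup.mk' Z) (by rw [QuotientGroup.ker_mk']) a b)
  have hZ3 : Nat.card Z = 3 := by
    rw [hk]
    rcases (by omega : k = 1 ∨ k = 2 ∨ k = 3) with rfl | rfl | rfl
    · norm_num
    · exfalso
      haveI : IsCyclic (E ⧸ Z) := isCyclic_of_prime_card (p := 3) (by rw [← Subgroup.index_eq_card]; omega)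
      exact hbad
    · exfalso
      haveI : Subsingleton (E ⧸ Z) := by
        refine (Nat.card_eq_one_iff_unique.1 ?_).1
        rw [← Subgroup.index_eq_card]; omega
      haveI : IsCyclic (E ⧸ Z) := isCyclic_of_subsingleton
      exact hbad
  have hq : Nat.card (E ⧸ Z) = 3 ^ 2 := by
    rw [← Subgroup.index_eq_card]
    have h2 := Subgroup.card_mul_index Z
    rw [hZ3, hc] at h2
    omega
  letI := IsPGroup.commGroupOfCardEqPrimeSq hq
  have hle : commutator E ≤ Z := by
    rw [commutator_def, Subgroup.commutator_le]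
    intro a _ b _
    rw [← QuotientGroup.eq_one_iff (N := Z), ← QuotientGroup.mk'_apply, map_commutatorElement,
      commutatorElement_eq_one_iff_mul_comm]
    exact mul_comm (G := E ⧸ Z) _ _
  have hd : commutator E = Z := by
    refine Subgroup.eq_of_le_of_card_ge hle ?_
    rw [hZ3]
    rcases (Nat.dvd_prime Nat.prime_three).1 (hZ3 ▸ Subgroup.card_dvd_of_le hle) with h | h
    · exfalso
      refine hnc fun a b => commutatorElement_eq_one_iff_mul_comm.1 ?_
      have hmem : ⁅a, b⁆ ∈ commutator E := Subgroup.commutator_mem_commutator (Subgroup.mem_top a) (Subgroup.mem_top b)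
      rwa [Subgroup.card_eq_one.1 h, Subgroup.mem_bot] at hmem
    · exact h.ge
  refine ⟨Solv.isExtraspecial_of hp hZ3 hd fun a => by rw [he a]; exact one_mem _, ?_⟩
  refine (Nat.dvd_prime Nat.prime_three).1 (Monoid.exponent_dvd_of_forall_pow_eq_one he) |>.resolve_left fun h => ?_
  haveI := (Monoid.exp_eq_one_iff.1 h)
  have : Nat.card E = 1 := Nat.card_eq_one_iff_unique.2 ⟨this, ⟨1⟩⟩
  omega

variable {G : Type u} [Group G] [Finite G] {z : G} {Q N : Subgroup G} {x : G}
variable (S : Big z Q N x) (f : Frame z Q x)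

include S f

/-- the Sylow subgroups of the centraliser of the involution are Sylow in the group -/
theorem Big.sylow_three : ∃ R : Sylow 3 G, (R : Subgroup G) ≤ Subgroup.centralizer ({z} : Set G) ∧
    x ∈ (R : Subgroup G) ∧ Nat.card (R : Subgroup G) = 27 ∧
    (∀ r ∈ (R : Subgroup G), r ^ 3 = 1 ∧ Commute r x) ∧
    (¬ ∀ a ∈ (R : Subgroup G), ∀ b ∈ (R : Subgroup G), Commute a b) ∧
    Subgroup.normalizer ((R : Subgroup G) : Set G) ≤ Subgroup.centralizer ({z} : Set G) := by
  haveI : Fact (Nat.Prime 3) := ⟨Nat.prime_three⟩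
  obtain ⟨TC, hx, h27, hT, hnc⟩ := f.sylow_x S.base
  set R0 := (TC : Subgroup (Subgroup.centralizer ({z} : Set G))).map (Subgroup.centralizer ({z} : Set G)).subtype
    with hR0
  have hR0le : R0 ≤ Subgroup.centralizer ({z} : Set G) := Subgroup.map_subtype_le _
  have hxR : x ∈ R0 := ⟨S.base.xC, hx, rfl⟩
  have hcom : ∀ r ∈ R0, r ^ 3 = 1 ∧ Commute r x := by
    rintro _ ⟨r, hr, rfl⟩
    exact ⟨congrArg Subtype.val (hT r hr).1, congrArg Subtype.val (hT r hr).2.2.eq⟩
  have hc27 : Nat.card R0 = 27 := by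
    rw [hR0, Subgroup.card_map_of_injective (Subgroup.centralizer ({z} : Set G)).subtype_injective, h27]
  have hncR : ¬ ∀ a ∈ R0, ∀ b ∈ R0, Commute a b := fun h => hnc fun a ha b hb =>
    Subtype.ext (h _ ⟨a, ha, rfl⟩ _ ⟨b, hb, rfl⟩).eq
  -- the centre is the group of order three
  have hcen : ∀ a ∈ R0, (∀ b ∈ R0, Commute a b) → a ∈ Subgroup.zpowers x := by
    intro a ha hab
    obtain ⟨hE, -⟩ := extraspecial_27 (E := R0) hc27 (fun h => hncR fun a ha b hb =>
      congrArg Subtype.val (h ⟨a, ha⟩ ⟨b, hb⟩).eq) fun a => Subtype.ext (hcom a a.2).1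
    have haZ : (⟨a, ha⟩ : R0) ∈ Subgroup.center R0 :=
      Subgroup.mem_center_iff.2 fun b => Subtype.ext (hab b b.2).eq.symm
    have hxZ : (⟨x, hxR⟩ : R0) ∈ Subgroup.center R0 :=
      Subgroup.mem_center_iff.2 fun b => Subtype.ext (hcom b b.2).2.eq
    have e : Subgroup.zpowers (⟨x, hxR⟩ : R0) = Subgroup.center R0 := by
      refine Subgroup.eq_of_le_of_card_ge (Subgroup.zpowers_le.2 hxZ) ?_
      rw [hE.2, Nat.card_zpowers, ← Subgroup.orderOf_coe, orderOf_eq_prime S.base.ord.cube S.base.x1]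
    rw [← e] at haZ
    obtain ⟨i, hi⟩ := haZ
    exact ⟨i, congrArg Subtype.val hi⟩
  have hnorm : Subgroup.normalizer (R0 : Set G) ≤ Subgroup.centralizer ({z} : Set G) := by
    intro h hh
    refine Subgroup.mem_centralizer_singleton_iff.2 (S.norm_x f (Subgroup.mem_normalizer_fintype fun p hp => ?_))
    obtain ⟨i, rfl⟩ := hp
    show h * x ^ i * h⁻¹ ∈ Subgroup.zpowers x
    rw [← conj_zpow]
    refine zpow_mem (hcen _ ((Subgroup.mem_normalizer_iff.1 hh x).1 hxR) fun b hb => ?_) i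
    have hb' : h⁻¹ * b * h ∈ R0 := (Subgroup.mem_normalizer_iff.1 hh _).2 (by
      rwa [show h * (h⁻¹ * b * h) * h⁻¹ = b by group])
    have := (Commute.conj_iff h).2 (hcom _ hb').2.symm
    rwa [show h * (h⁻¹ * b * h) * h⁻¹ = b by group] at this
  obtain ⟨R, hR⟩ := (IsPGroup.of_card (n := 3) (by rw [hc27]; norm_num) : IsPGroup 3 R0).exists_le_sylow
  have e : R0 = (R : Subgroup G) := by
    by_contra hne
    haveI := R.isPGroup'.isNilpotent
    have h1 : R0.subgroupOf (R : Subgroup G) < ⊤ := lt_top_iff_ne_top.2 fun h =>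
      hne (le_antisymm hR (Subgroup.subgroupOf_eq_top.1 h))
    obtain ⟨r, hr, hr'⟩ := SetLike.exists_of_lt (normalizerCondition_of_isNilpotent _ h1)
    refine hr' ?_
    have hrC : (r : G) ∈ Subgroup.centralizer ({z} : Set G) := hnorm (Subgroup.mem_normalizer_fintype fun p hp => by
      exact (Subgroup.mem_normalizer_iff.1 hr ⟨p, hR hp⟩).1 hp)
    set M := (R : Subgroup G).subgroupOf (Subgroup.centralizer ({z} : Set G)) with hM
    have hM3 : IsPGroup 3 M := R.isPGroup'.comap_of_injective _ (Subgroup.centralizer ({z} : Set G)).subtype_injective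
    have := TC.is_maximal' hM3 fun a ha => hR ⟨a, ha, rfl⟩
    exact ⟨⟨r, hrC⟩, this ▸ (show (⟨r, hrC⟩ : Subgroup.centralizer ({z} : Set G)) ∈ M from r.2), rfl⟩
  exact ⟨R, e ▸ hR0le, hR hxR, e ▸ hc27, e ▸ hcom, e ▸ hncR, e ▸ hnorm⟩

/-- one class of elements of order three -/
theorem Big.one_class {a : G} (ha : orderOf a = 3) : IsConj a x := by
  haveI : Fact (Nat.Prime 3) := ⟨Nat.prime_three⟩
  obtain ⟨R, hRC, -, -, hR3, -, -⟩ := S.sylow_three f
  -- move into the Sylow subgroup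
  obtain ⟨T, hT⟩ := (IsPGroup.of_card (n := 1) (by rw [Nat.card_zpowers, ha, pow_one]) :
    IsPGroup 3 (Subgroup.zpowers a)).exists_le_sylow
  obtain ⟨g, hg⟩ := MulAction.exists_smul_eq G T R
  have h1 : MulAut.conj g • a ∈ (g • T : Sylow 3 G) :=
    Subgroup.smul_mem_pointwise_smul _ (MulAut.conj g) _ (hT (Subgroup.mem_zpowers a))
  rw [hg] at h1
  change g * a * g⁻¹ ∈ (R : Subgroup G) at h1
  refine (isConj_iff.2 ⟨g, rfl⟩ : IsConj a (g * a * g⁻¹)).trans ?_
  have hb1 : g * a * g⁻¹ ≠ 1 := fun e => by rw [conj_eq_one_iff.1 e, orderOf_one] at ha; omega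
  set b : Subgroup.centralizer ({z} : Set G) := ⟨g * a * g⁻¹, hRC h1⟩ with hb
  have hb3 : b ^ 3 = 1 := Subtype.ext (hR3 _ h1).1
  have hz : ∀ c : Subgroup.centralizer ({z} : Set G), IsConj b c → IsConj (g * a * g⁻¹) (c : G) := by
    intro c hc
    obtain ⟨d, hd⟩ := isConj_iff.1 hc
    exact isConj_iff.2 ⟨(d : G), congrArg Subtype.val hd⟩
  have hbK : f.π b ∈ Kp := f.odd_Kp S.base hb3 (by decide)
  have hbp3 : f.π b ^ 3 = 1 := by rw [← map_pow, hb3, map_one]
  by_cases hs : f.π b ∈ Subgroup.zpowers gW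
  · rcases gW_cases hs with e | e | e
    · exact absurd (congrArg Subtype.val (Subtype.ext (S.base.odd_Q ((f.ker b).1 e)
        (congrArg Subtype.val hb3) (by decide)) : b = 1)) hb1
    · exact hz S.base.xC (f.lift_conj S.base hb3 S.base.cube_xC (e.trans (f.pi_x S.base.xC rfl).symm))
    · obtain ⟨n, hn, hnx⟩ := S.base.inv
      have h2 : f.π b = f.π S.base.xC⁻¹ := by
        rw [e, map_inv, f.pi_x S.base.xC rfl]
        exact (inv_eq_of_mul_eq_one_right (by
          rw [show gW * (gW * gW) = gW ^ 3 by rw [pow_succ, pow_two]; group]; exact gW_facts.1)).symm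
      refine (hz _ (f.lift_conj S.base hb3 (by rw [inv_pow, S.base.cube_xC, inv_one]) h2)).trans ?_
      exact (isConj_iff.2 ⟨n, hnx⟩ : IsConj x x⁻¹).symm
  · -- a conjugate of the distinguished element outside the scalars
    obtain ⟨u, ⟨m, hm⟩, huz, hux, hune⟩ := S.exists_u f
    have hxm : m⁻¹ * x * m ∈ Subgroup.centralizer ({z} : Set G) := by
      refine Subgroup.mem_centralizer_singleton_iff.2 ?_
      have := (Commute.conj_iff m⁻¹).2 hux.symm
      rwa [inv_inv, ← hm, show m⁻¹ * (m * z * m⁻¹) * m = z by group] at this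
    set x' : Subgroup.centralizer ({z} : Set G) := ⟨m⁻¹ * x * m, hxm⟩ with hx'
    have hx'3 : x' ^ 3 = 1 := Subtype.ext (by
      show (m⁻¹ * x * m) ^ 3 = 1
      have := conj_pow (i := 3) (a := m⁻¹) (b := x)
      rw [inv_inv] at this
      rw [this, S.base.ord.cube, mul_one, inv_mul_cancel])
    have hns : f.π x' ∉ Subgroup.zpowers gW := fun h =>
      S.excl f (g := m) (by rw [hm]; exact huz) (by rw [hm]; exact hune) (by rw [hm]; exact hux)
        ((f.N_iff S.base x').2 h)
    obtain ⟨k1, hk1, e1⟩ := conj_pX f.mdl hbK hbp3 hs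
    obtain ⟨k2, hk2, e2⟩ := conj_pX f.mdl (f.odd_Kp S.base hx'3 (by decide))
      (by rw [← map_pow, hx'3, map_one]) hns
    obtain ⟨c, hc⟩ := (f.range _).1 (Kp_le (mul_mem (inv_mem hk1) hk2))
    have h2 : f.π (c * x' * c⁻¹) = f.π b := by
      rw [map_mul, map_mul, map_inv, hc,
        show k1⁻¹ * k2 * f.π x' * (k1⁻¹ * k2)⁻¹ = k1⁻¹ * (k2 * f.π x' * k2⁻¹) * k1 by group, e2, ← e1]
      group
    refine (hz _ (f.lift_conj S.base hb3 (by rw [conj_pow, hx'3, mul_one, mul_inv_cancel]) h2.symm)).trans ?_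
    exact isConj_iff.2 ⟨m * (c : G)⁻¹, by
      show m * (c : G)⁻¹ * ((c : G) * (m⁻¹ * x * m) * (c : G)⁻¹) * (m * (c : G)⁻¹)⁻¹ = x
      group⟩

omit S f

theorem one_class_three [IsSimpleGroup G] (hG : ¬ IsMulCommutative G) (hJ : Cfsg.IsOfJankoFourType G)
    (a b : G) (ha : orderOf a = 3) (hb : orderOf b = 3) : IsConj a b := by
  obtain ⟨z, P, hJ⟩ := hJ
  obtain ⟨N, x, S, -⟩ := setup_of hJ
  obtain ⟨f⟩ := S.exists_frame
  exact ((S.big hG).one_class f ha).trans ((S.big hG).one_class f hb).symm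

theorem sylow_structure [IsSimpleGroup G] (hG : ¬ IsMulCommutative G) {z : G} (hJ : Cfsg.IsOfJankoFourTypeAt z)
    (R : Sylow 3 G) (hR : (R : Subgroup G) ≤ Subgroup.centralizer ({z} : Set G)) :
    Cfsg.IsExtraspecial 3 ↥(R : Subgroup G) ∧ Nat.card ↥(R : Subgroup G) = 27 ∧
    Monoid.exponent ↥(R : Subgroup G) = 3 ∧
    Subgroup.normalizer ((R : Subgroup G) : Set G) ≤ Subgroup.centralizer ({z} : Set G) ∧
    Nat.card ↥(Subgroup.normalizer ((R : Subgroup G) : Set G)) = 864 := by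
  haveI : Fact (Nat.Prime 3) := ⟨Nat.prime_three⟩
  obtain ⟨P, hJ⟩ := hJ
  obtain ⟨N, x, S, -⟩ := setup_of hJ
  obtain ⟨f⟩ := S.exists_frame
  obtain ⟨R0, hR0, -, h27, hR3, hnc, hN⟩ := (S.big hG).sylow_three f
  -- conjugate inside the centraliser
  obtain ⟨c, hc⟩ := MulAction.exists_smul_eq (Subgroup.centralizer ({z} : Set G)) (R0.subtype hR0) (R.subtype hR)
  have hsm : ((c : G) • R0 : Sylow 3 G) = R := by
    have h := (Sylow.smul_subtype hR0 c).symm.trans hc
    exact Sylow.subtype_injective h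
  have hmap : (R : Subgroup G) = (R0 : Subgroup G).map (MulAut.conj (c : G)).toMonoidHom := by
    rw [← hsm]; rfl
  have hc27 : Nat.card (R : Subgroup G) = 27 := by
    rw [hmap, Subgroup.card_map_of_injective (MulAut.conj (c : G)).injective, h27]
  have hmem : ∀ {a : G}, a ∈ (R : Subgroup G) → (c : G)⁻¹ * a * c ∈ (R0 : Subgroup G) := by
    intro a ha
    rw [hmap, Subgroup.mem_map_equiv, MulAut.conj_symm_apply] at ha
    exact ha
  obtain ⟨hE, hexp⟩ := extraspecial_27 (E := (R : Subgroup G)) hc27 (fun h => hnc fun a ha b hb => by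
    have hm : ∀ {t : G}, t ∈ (R0 : Subgroup G) → (c : G) * t * (c : G)⁻¹ ∈ (R : Subgroup G) := fun {t} ht => by
      rw [hmap]; exact ⟨t, ht, rfl⟩
    exact (Commute.conj_iff (c : G)).1 (congrArg Subtype.val (h ⟨_, hm ha⟩ ⟨_, hm hb⟩).eq))
    (fun a => Subtype.ext (by
      show (a : G) ^ 3 = 1
      have h := (hR3 _ (hmem a.2)).1
      have := conj_pow (i := 3) (a := (c : G)⁻¹) (b := (a : G))
      rw [inv_inv, h] at this
      calc (a : G) ^ 3 = (c : G) * ((c : G)⁻¹ * (a : G) ^ 3 * c) * (c : G)⁻¹ := by group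
        _ = 1 := by rw [← this, mul_one, mul_inv_cancel]))
  have hNR : Subgroup.normalizer ((R : Subgroup G) : Set G) ≤ Subgroup.centralizer ({z} : Set G) := by
    intro n hn
    have h1 : (c : G)⁻¹ * n * c ∈ Subgroup.normalizer ((R0 : Subgroup G) : Set G) := by
      refine Subgroup.mem_normalizer_fintype fun r hr => ?_
      have h2 := hmem ((Subgroup.mem_normalizer_iff.1 hn _).1 (show (c : G) * r * (c : G)⁻¹ ∈ (R : Subgroup G) by
        rw [hmap]; exact ⟨r, hr, rfl⟩))
      rwa [show (c : G)⁻¹ * (n * ((c : G) * r * (c : G)⁻¹) * n⁻¹) * c =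
        (c : G)⁻¹ * n * c * r * ((c : G)⁻¹ * n * c)⁻¹ by group] at h2
    have := mul_mem (mul_mem c.2 (hN h1)) (inv_mem c.2)
    rwa [show (c : G) * ((c : G)⁻¹ * n * c) * (c : G)⁻¹ = n by group] at this
  refine ⟨hE, hc27, hexp, hNR, ?_⟩
  rw [← f.card_norm S (R.subtype hR)]
  exact Nat.card_congr
    { toFun := fun n => ⟨⟨n, hNR n.2⟩, Subgroup.mem_normalizer_iff.2 fun r =>
        Subgroup.mem_normalizer_iff.1 n.2 (r : G)⟩
      invFun := fun n => ⟨(n.1 : G), Subgroup.mem_normalizer_fintype fun r hr =>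
        (Subgroup.mem_normalizer_iff.1 n.2 ⟨r, hR hr⟩).1 hr⟩
      left_inv := fun _ => rfl
      right_inv := fun _ => rfl }

end Cfsg.Agent.Spor.JFour
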