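import Cfsg.Agent.Lib.Spor.JFourMain

/-!
Janko four type: the centraliser in the involution centraliser of the element of order three is a perfect group
6.M22. The central involution lies in its derived subgroup: otherwise the intersection of two adjacent extraspecial
subgroups would have a hyperplane invariant under the stabiliser of the line.
-/

set_option autoImplicit false
set_option maxRecDepth 100000
set_option linter.unusedSectionVars false

namespace Cfsg.Agent.Spor.JFour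

open Cfsg.Agent.Spor.SUSix (V6 code code_lt vecOf_code)
open Cfsg.Agent.Spor.SpFour (F4)
open Cfsg.Agent.Spor.Large (XT Pair)
open scoped commutatorElement

attribute [local irreducible] Gam Kp BlockKer Cmp Chk.app

local notation "G22" => Subtype (fun x => x ∈ Cfsg.Spor.M22)

universe u

theorem line_facts : F4.w • va ≠ 0 ∧ F4.w • va ≠ va ∧ F4.w • (F4.w • va) = va + F4.w • va := by decide +kernel

theorem fix_line_Kp {p : PV} (hp : p ∈ Gam) (h1 : p va = va) (h2 : p (F4.w • va) = F4.w • va) : p ∈ Kp := by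
  have hp' : p ∈ Kp ∨ eo * p ∈ Kp := by revert hp; unfold Gam; exact id
  refine hp'.resolve_right fun h' => ?_
  have e := (Kp_le_LinG h').smul va
  rw [Equiv.Perm.mul_apply, Equiv.Perm.mul_apply, h1, h2, eo_smul] at e
  have key : ∀ a : F4, F4.v * a = F4.w * a → a = 0 := by decide +kernel
  have h0 : eo va = 0 := funext fun i => key _ (congrFun e i)
  have h3 : va = 0 := eo.injective (h0.trans ((gP_spec 4).1.map_zero).symm)
  exact line_facts.1 (by rw [h3, smul_zero])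

theorem pair_facts : (∀ s : Fin 2, wd (Dat.pairW.getD s.val []) ∈ Kp ∧ wd (Dat.pairW.getD s.val []) va = va ∧
      Chk.fCond (code (SUSix.vecOf (Dat.pairV.getD s.val 0))) = true) ∧
    wd (Dat.pairW.getD 0 []) (SUSix.vecOf (Dat.pairV.getD 0 0)) + SUSix.vecOf (Dat.pairV.getD 0 0) +
      (wd (Dat.pairW.getD 1 []) (SUSix.vecOf (Dat.pairV.getD 1 0)) + SUSix.vecOf (Dat.pairV.getD 1 0)) =
      F4.w • va := by
  have h := Chk.f_ok
  simp only [Chk.fOK, Bool.and_eq_true, List.all_eq_true, List.mem_range] at h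
  obtain ⟨⟨-, h1⟩, h2⟩ := h
  have hlt : ∀ s, s < 2 → Dat.pairV.getD s 0 < 4096 := by decide +kernel
  have hw : ∀ s, s < 2 → ∀ a ∈ Dat.pairW.getD s [], a < 4 := fun s hs a ha =>
    Nat.le_of_ble_eq_true ((h1 s hs).1.1 a ha)
  have hw5 : ∀ s, s < 2 → ∀ a ∈ Dat.pairW.getD s [], a < 5 := fun s hs a ha => Nat.lt_succ_of_lt (hw s hs a ha)
  refine ⟨fun s => ⟨wd_mem _ (hw s.val s.2), code_inj ?_, ?_⟩, code_inj ?_⟩
  · rw [wd_code _ (hw5 s.val s.2), code_va]
    exact Nat.eq_of_beq_eq_true (h1 s.val s.2).2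
  · rw [code_vecOf _ (hlt _ s.2)]
    exact (h1 s.val s.2).1.2
  · rw [code_add, code_add, code_add, wd_code _ (hw5 0 (by norm_num)), wd_code _ (hw5 1 (by norm_num)),
      code_vecOf _ (hlt 0 (by norm_num)), code_vecOf _ (hlt 1 (by norm_num)), code_smw, code_va]
    exact Nat.eq_of_beq_eq_true h2

theorem span_rows {T : Set V6} (h0 : (0 : V6) ∈ T) (hadd : ∀ u ∈ T, ∀ v ∈ T, u + v ∈ T)
    (hF : ∀ v, Chk.fCond (code v) = true → v ∈ T) (hW : ∀ v, Chk.fCond (code (F4.v • v)) = true → v ∈ T) :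
    1024 ≤ T.ncard := by
  have h := Chk.f_ok
  simp only [Chk.fOK, Bool.and_eq_true, List.all_eq_true, List.mem_range] at h
  have hlt : ∀ k ∈ Dat.rowF ++ Dat.rowW, k < 4096 := by decide +kernel
  have hmem : ∀ k ∈ Dat.rowF ++ Dat.rowW, SUSix.vecOf k ∈ T := by
    intro k hk
    have hk' := hlt k hk
    rcases List.mem_append.1 hk with hk | hk
    · exact hF _ (by rw [code_vecOf k hk']; exact h.1.1.1.1.1.2 k hk)
    · refine hW _ ?_
      rw [show (F4.v : F4) = F4.w * F4.w from rfl, mul_smul, code_smw, code_smw, code_vecOf k hk']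
      exact h.1.1.2 k hk
  have key : ∀ (L : List ℕ), (∀ k ∈ L, k < 4096 ∧ SUSix.vecOf k ∈ T) → ∀ e, Chk.app L e < 4096 ∧ SUSix.vecOf (Chk.app L e) ∈ T := by
    intro L
    induction L with
    | nil =>
      intro _ e
      rw [show Chk.app [] e = 0 by unfold Chk.app; rfl, show SUSix.vecOf 0 = 0 by decide +kernel]
      exact ⟨by norm_num, h0⟩
    | cons c L ih =>
      intro hL e
      obtain ⟨a, b⟩ := ih (fun k hk => hL k (List.mem_cons_of_mem _ hk)) (e >>> 1)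
      obtain ⟨c1, c2⟩ : (bif Chk.tb e 0 then c else 0) < 4096 ∧ SUSix.vecOf (bif Chk.tb e 0 then c else 0) ∈ T := by
        cases Chk.tb e 0
        · exact ⟨by norm_num, by rw [cond_false, show SUSix.vecOf 0 = 0 by decide +kernel]; exact h0⟩
        · exact hL c List.mem_cons_self
      rw [app_cons]
      exact ⟨xor_lt c1 a, by rw [vecOf_xor c1 a]; exact hadd _ c2 _ b⟩
  have hnd : ((List.range 1024).map (Chk.app (Dat.rowF ++ Dat.rowW))).Nodup :=
    of_decide_eq_true Chk.rows_ok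
  have hsub : (((List.range 1024).map (Chk.app (Dat.rowF ++ Dat.rowW))).toFinset : Set ℕ) ⊆ code '' T := by
    intro k hk
    rw [Finset.mem_coe, List.mem_toFinset, List.mem_map] at hk
    obtain ⟨e, -, rfl⟩ := hk
    obtain ⟨a, b⟩ := key _ (fun k hk => ⟨hlt k hk, hmem k hk⟩) e
    exact ⟨_, b, code_vecOf _ a⟩
  have hc := Set.ncard_le_ncard hsub (T.toFinite.image code)
  rwa [Set.ncard_image_of_injective _ code_inj, Set.ncard_coe_finset, List.toFinset_card_of_nodup hnd,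
    List.length_map, List.length_range] at hc

variable {G : Type u} [Group G] [Finite G] {z : G} {Q N : Subgroup G} {x : G}

/-- the element of order three in the centraliser -/
def Setup.xC (S : Setup z Q N x) : Subgroup.centralizer ({z} : Set G) :=
  ⟨x, Subgroup.mem_centralizer_singleton_iff.2 S.ord.xz⟩

theorem Setup.zmem (_S : Setup z Q N x) : z ∈ Subgroup.centralizer ({z} : Set G) :=
  Subgroup.mem_centralizer_singleton_iff.2 rfl

theorem Setup.cube_xC (S : Setup z Q N x) : S.xC ^ 3 = 1 := Subtype.ext S.ord.cube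

theorem Setup.cubeG (S : Setup z Q N x) (a : G) : x * (x * (x * a * x⁻¹) * x⁻¹) * x⁻¹ = a := S.ord.xc_three a

theorem Frame.img_xC (f : Frame z Q x) (S : Setup z Q N x) (v : V6) : f.π S.xC v = F4.w • v := by
  rw [f.pi_x S.xC rfl, gW_apply]

theorem Frame.vec_xc (f : Frame z Q x) (S : Setup z Q N x) {a : G} (ha : a ∈ Q) :
    f.vec (x * a * x⁻¹) = F4.w • f.vec a := by
  rw [show x * a * x⁻¹ = (S.xC : G) * a * (S.xC : G)⁻¹ from rfl, f.vec_conj S.xC a ha, f.img_xC S]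

/-- the centraliser of the element of order three -/
abbrev Kx (S : Setup z Q N x) : Subgroup (Subgroup.centralizer ({z} : Set G)) :=
  Subgroup.centralizer ({S.xC} : Set (Subgroup.centralizer ({z} : Set G)))

theorem mem_Kx {S : Setup z Q N x} {c : Subgroup.centralizer ({z} : Set G)} : c ∈ Kx S ↔ Commute c S.xC :=
  Subgroup.mem_centralizer_singleton_iff

/-- the product of the three conjugates -/
def eta (x : G) (w : G) : G := w * (x * w * x⁻¹) * (x * (x * w * x⁻¹) * x⁻¹)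

variable (S : Big z Q N x) (f : Frame z Q x)

include S

theorem Big.Qc_eq {g k : G} (h : g * z * g⁻¹ = k * z * k⁻¹) : Qc Q g = Qc Q k := by
  have hc : Commute (k⁻¹ * g) z := mul_inv_eq_iff_eq_mul.1 (by
    rw [show k⁻¹ * g * z * (k⁻¹ * g)⁻¹ = k⁻¹ * (g * z * g⁻¹) * k by group, h]; group)
  ext w
  rw [mem_Qc, mem_Qc]
  constructor
  · intro h1
    have := S.base.ord.normQ _ hc _ h1
    rwa [show k⁻¹ * g * (g⁻¹ * w * g) * (k⁻¹ * g)⁻¹ = k⁻¹ * w * k by group] at this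
  · intro h1
    have := S.base.ord.normQ _ hc.inv_left _ h1
    rwa [show (k⁻¹ * g)⁻¹ * (k⁻¹ * w * k) * (k⁻¹ * g)⁻¹⁻¹ = g⁻¹ * w * g by group] at this

theorem Big.Qc_norm {g w c : G} (hc : Commute c (g * z * g⁻¹)) (h : w ∈ Qc Q g) : c * w * c⁻¹ ∈ Qc Q g := by
  have h1 := Qc_conj c h
  rwa [S.Qc_eq (g := c * g) (k := g) (by
    rw [show c * g * z * (c * g)⁻¹ = c * (g * z * g⁻¹) * c⁻¹ by group, hc.eq, mul_inv_cancel_right])] at h1

theorem Big.xtc (g : G) : XT (g * z * g⁻¹) (Qc Q g) := S.base.ord.xt.conj g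

/-- two adjacent conjugates and the third on their line -/
theorem Big.third {g k r a b : G} (ha : g * z * g⁻¹ = a) (hb : k * z * k⁻¹ = b) (hab : a ≠ b)
    (hbg : b ∈ Qc Q g) (hak : a ∈ Qc Q k) (hr : r * z * r⁻¹ = a * b) {w : G} (hw : w ∈ Qc Q g)
    (hw' : w ∈ Qc Q k) : w ∈ Qc Q r := by
  subst ha hb
  have X := S.xtc g
  obtain ⟨p, hp, hpn⟩ : ∃ p ∈ Qc Q g, ¬ Commute p (k * z * k⁻¹) := by
    by_contra hno
    push Not at hno
    rcases X.eq_of_cen _ hbg (fun q hq => (hno q hq).symm) with e | e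
    · exact (S.xtc k).ne e
    · exact hab e.symm
  have hmv := X.move hp hbg hpn
  rw [S.Qc_eq (g := r) (k := p * k) (by
    rw [hr, show p * k * z * (p * k)⁻¹ = p * (k * z * k⁻¹) * p⁻¹ by group, hmv]
    exact (X.cen _ hbg).eq)]
  have h1 : p⁻¹ * w * p⁻¹⁻¹ ∈ Qc Q k := by
    rcases X.comm p⁻¹ (inv_mem hp) w hw with e | e <;> rw [e]
    exacts [hw', mul_mem hw' hak]
  have h2 := Qc_conj p h1
  rwa [show p * (p⁻¹ * w * p⁻¹⁻¹) * p⁻¹ = w by group] at h2

include f in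
theorem Big.ker {c : G} (hc : c ∈ Q) (hcx : Commute c x) : c = 1 ∨ c = z := by
  have h := f.vec_xc S.base hc
  rw [← hcx.eq, mul_inv_cancel_right] at h
  have key : ∀ a : F4, a = F4.w * a → a = 0 := by decide +kernel
  have h0 : f.vec c = 0 := funext fun i => key _ (congrFun h i)
  rcases (f.vec_eq 1 (one_mem _) c hc).1 ((f.vec_one S.base).trans h0.symm) with e | e
  · exact Or.inl e
  · exact Or.inr (e.trans (one_mul z))

theorem Big.Kp_of_comm {c : Subgroup.centralizer ({z} : Set G)} (hc : Commute c S.base.xC) : f.π c ∈ Kp := by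
  rw [f.mem_Kp, ← f.pi_x S.base.xC rfl]
  exact hc.map f.π

theorem Big.lift {p : PV} (hp : p ∈ Kp) : ∃ c, Commute c S.base.xC ∧ f.π c = p := by
  obtain ⟨m, rfl⟩ := (f.range p).1 (Kp_le hp)
  set y := m * S.base.xC * m⁻¹ with hy
  have hπ : f.π (y * S.base.xC⁻¹) = 1 := by
    rw [hy, map_mul, map_mul, map_mul, map_inv, map_inv]
    have : f.π m * f.π S.base.xC = f.π S.base.xC * f.π m := Equiv.ext fun v => by
      rw [Equiv.Perm.mul_apply, Equiv.Perm.mul_apply, f.img_xC S.base, f.img_xC S.base, (Kp_le_LinG hp).smul_all]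
    rw [this, mul_inv_cancel_right, mul_inv_cancel]
  have haQ : ((y * S.base.xC⁻¹ : Subgroup.centralizer ({z} : Set G)) : G) ∈ Q := (f.ker _).1 hπ
  obtain ⟨q, hq, hqv⟩ := f.vec_surj (F4.w • f.vec ((y * S.base.xC⁻¹ : Subgroup.centralizer ({z} : Set G)) : G))
  set q' : Subgroup.centralizer ({z} : Set G) :=
    ⟨q, Subgroup.mem_centralizer_singleton_iff.2 (S.base.ord.qz hq)⟩ with hq'
  have hxq : x * q⁻¹ * x⁻¹ ∈ Q :=
    S.base.ord.normQ x S.base.ord.xz _ (inv_mem hq)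
  have hb : q * (x * q⁻¹ * x⁻¹) ∈ Q := mul_mem hq hxq
  have hvq : f.vec q⁻¹ = f.vec q := by
    have := f.vec_mul q⁻¹ (inv_mem hq) q hq
    rw [inv_mul_cancel, f.vec_one S.base] at this
    have key : ∀ a b : F4, 0 = a + b → a = b := by decide +kernel
    exact funext fun i => key _ _ (congrFun this i)
  have hvec : f.vec (q * (x * q⁻¹ * x⁻¹)) =
      f.vec ((y * S.base.xC⁻¹ : Subgroup.centralizer ({z} : Set G)) : G) := by
    rw [f.vec_mul q hq _ hxq, f.vec_xc S.base (inv_mem hq), hvq, hqv]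
    have key : ∀ a : F4, F4.w * a + F4.w * (F4.w * a) = a := by decide +kernel
    exact funext fun i => key _
  refine ⟨q'⁻¹ * m, ?_, by rw [map_mul, map_inv, (f.ker q').2 hq, inv_one, one_mul]⟩
  -- the two elements of order three agree
  have hy3 : (y : G) ^ 3 = 1 := by
    rw [← SubmonoidClass.coe_pow, hy, conj_pow, S.base.cube_xC, mul_one, mul_inv_cancel]; rfl
  have hqx3 : (q * x * q⁻¹) ^ 3 = 1 := by
    rw [conj_pow, S.base.ord.cube, mul_one, mul_inv_cancel]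
  have hyq : (y : G) = q * x * q⁻¹ := by
    rcases (f.vec_eq _ hb _ haQ).1 hvec with e | e
    · rw [Subgroup.coe_mul, Subgroup.coe_inv, mul_inv_eq_iff_eq_mul, show (S.base.xC : G) = x from rfl] at e
      rw [e]; group
    · exfalso
      rw [Subgroup.coe_mul, Subgroup.coe_inv, mul_inv_eq_iff_eq_mul, show (S.base.xC : G) = x from rfl] at e
      have hzx : Commute (q * x * q⁻¹) z :=
        Subgroup.mem_centralizer_singleton_iff.1 (q' * S.base.xC * q'⁻¹).2
      rw [e, show q * (x * q⁻¹ * x⁻¹) * z * x =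
        (q * x * q⁻¹) * (x⁻¹ * z * x) by group,
        show x⁻¹ * z * x = z by
          rw [mul_assoc, ← (S.base.ord.xz).eq, inv_mul_cancel_left],
        hzx.mul_pow, hqx3, one_mul, pow_succ, pow_two, S.base.ord.xt.sq, one_mul] at hy3
      exact S.base.ord.xt.ne hy3
  refine Subtype.ext ?_
  show (q'⁻¹ : Subgroup.centralizer ({z} : Set G)).1 * m.1 * S.base.xC.1 = S.base.xC.1 * ((q'⁻¹ : Subgroup.centralizer ({z} : Set G)).1 * m.1)
  have : q⁻¹ * ((m : G) * x * (m : G)⁻¹) * q = x := by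
    rw [show (m : G) * x * (m : G)⁻¹ = (y : G) from rfl, hyq]; group
  show q⁻¹ * (m : G) * x = x * (q⁻¹ * (m : G))
  conv_rhs => rw [← this]
  group

theorem Big.map_Kx : (Kx S.base).map f.π = Kp := by
  refine le_antisymm ?_ fun p hp => ?_
  · rintro _ ⟨c, hc, rfl⟩
    exact S.Kp_of_comm f (mem_Kx.1 hc)
  · obtain ⟨c, hc, e⟩ := S.lift f hp
    exact ⟨c, mem_Kx.2 hc, e⟩

omit S in
theorem Setup.map_centralizer (S : Setup z Q N x) :
    Subgroup.centralizer ({z} : Set G) ⊓ Subgroup.centralizer ({x} : Set G) =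
      (Kx S).map (Subgroup.centralizer ({z} : Set G)).subtype := by
  ext c
  constructor
  · rintro ⟨hc, hcx⟩
    exact ⟨⟨c, hc⟩, mem_Kx.2 (Subtype.ext (Subgroup.mem_centralizer_singleton_iff.1 hcx)), rfl⟩
  · rintro ⟨d, hd, rfl⟩
    exact ⟨d.2, Subgroup.mem_centralizer_singleton_iff.2 (congrArg Subtype.val (mem_Kx.1 hd).eq)⟩

omit S in
theorem Setup.x_derived (S : Setup z Q N x) : S.xC ∈ ⁅Kx S, Kx S⁆ := by
  have h := S.derived
  rw [S.map_centralizer, ← Subgroup.map_commutator] at h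
  obtain ⟨d, hd, e⟩ := h
  exact (show d = S.xC from Subtype.ext e) ▸ hd

include f in
theorem Big.map_derived : (⁅Kx S.base, Kx S.base⁆).map f.π = Kp := by
  obtain ⟨ψ, O⟩ := f.mdl
  set D := (⁅Kx S.base, Kx S.base⁆).map f.π with hD
  have hDK : D ≤ Kp := by
    rw [hD, Subgroup.map_commutator, S.map_Kx f]
    exact Subgroup.commutator_le_self Kp
  have hgW : gW ∈ D := ⟨_, S.base.x_derived, f.pi_x S.base.xC rfl⟩
  haveI := simple_G22
  have htop : (⊤ : Subgroup G22) = ⁅(⊤ : Subgroup G22), (⊤ : Subgroup G22)⁆ := by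
    refine ((IsSimpleGroup.eq_bot_or_eq_top_of_normal _ inferInstance).resolve_left fun h => ?_).symm
    obtain ⟨e11, ea1, -⟩ := e_pows
    have h1 : ed * ea * ed⁻¹ * ea⁻¹ = 1 := Subgroup.mem_bot.1
      (h ▸ Subgroup.commutator_mem_commutator (Subgroup.mem_top ed) (Subgroup.mem_top ea))
    rw [mul_inv_eq_one, e_rels.1, show (3 : ℕ) = 2 + 1 from rfl, pow_succ, mul_eq_right] at h1
    rw [show (11 : ℕ) = 2 * 5 + 1 from rfl, pow_succ, pow_mul, h1, one_pow, one_mul] at e11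
    exact ea1 e11
  have him : (D.subgroupOf Kp).map ψ = ⊤ := by
    have e : D.subgroupOf Kp = ⁅(⊤ : Subgroup Kp), (⊤ : Subgroup Kp)⁆ := by
      refine Subgroup.map_injective Kp.subtype_injective ?_
      rw [Subgroup.map_subgroupOf_eq_of_le hDK, Subgroup.map_commutator, ← MonoidHom.range_eq_map,
        Subgroup.range_subtype, hD, Subgroup.map_commutator, S.map_Kx f]
    rw [e, Subgroup.map_commutator, ← MonoidHom.range_eq_map, MonoidHom.range_eq_top.2 O.surj, ← htop]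
  refine le_antisymm hDK fun p hp => ?_
  obtain ⟨d, hd, e⟩ : ψ ⟨p, hp⟩ ∈ (D.subgroupOf Kp).map ψ := him.symm ▸ Subgroup.mem_top _
  have h1 := (O.ker (d⁻¹ * ⟨p, hp⟩)).1 (by rw [map_mul, map_inv, e, inv_mul_cancel])
  have h2 := mul_mem (show (d : PV) ∈ D from hd) ((Subgroup.zpowers_le.2 hgW) h1)
  simpa using h2

include f in
theorem Big.dich {c : Subgroup.centralizer ({z} : Set G)} (hc : c ∈ Kx S.base) :
    c ∈ ⁅Kx S.base, Kx S.base⁆ ∨ c * ⟨z, S.base.zmem⟩ ∈ ⁅Kx S.base, Kx S.base⁆ := by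
  obtain ⟨d, hd, e⟩ : f.π c ∈ (⁅Kx S.base, Kx S.base⁆).map f.π :=
    (S.map_derived f).symm ▸ S.Kp_of_comm f (mem_Kx.1 hc)
  have hdK : d ∈ Kx S.base := (Subgroup.commutator_le_self (Kx S.base)) hd
  have h1 : ((d⁻¹ * c : Subgroup.centralizer ({z} : Set G)) : G) ∈ Q :=
    (f.ker _).1 (by rw [map_mul, map_inv, e, inv_mul_cancel])
  rcases S.ker f h1 (congrArg Subtype.val (mem_Kx.1 (mul_mem (inv_mem hdK) hc)).eq) with e' | e'
  · left
    rw [show c = d from (inv_mul_eq_one.1 (Subtype.ext e' : d⁻¹ * c = 1)).symm]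
    exact hd
  · right
    have h2 : c = d * ⟨z, S.base.zmem⟩ := eq_mul_of_inv_mul_eq (Subtype.ext e')
    rw [h2, mul_assoc, show (⟨z, S.base.zmem⟩ : Subgroup.centralizer ({z} : Set G)) * ⟨z, S.base.zmem⟩ = 1 from
      Subtype.ext S.base.ord.xt.sq, mul_one]
    exact hd

theorem Big.adjust {g : G} (hgQ : g * z * g⁻¹ ∈ Q) (hne : g * z * g⁻¹ ≠ z) :
    ∃ y ∈ Q, y * (g * z * g⁻¹) * y⁻¹ = g * z * g⁻¹ * z := by
  obtain ⟨y, hy, hyn⟩ : ∃ y ∈ Q, ¬ Commute y (g * z * g⁻¹) := by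
    by_contra hno
    push Not at hno
    rcases S.base.ord.xt.eq_of_cen _ hgQ (fun q hq => (hno q hq).symm) with e | e
    · exact (S.xtc g).ne e
    · exact hne e
  exact ⟨y, hy, S.base.ord.xt.move hy hgQ hyn⟩

theorem Big.exists_line : ∃ g : G, g * z * g⁻¹ ∈ Q ∧ g * z * g⁻¹ ≠ z ∧
    f.vec (g * z * g⁻¹) = va ∧
    x * (x * (g * z * g⁻¹) * x⁻¹) * x⁻¹ =
      g * z * g⁻¹ * (x * (g * z * g⁻¹) * x⁻¹) := by
  have hxz : Commute x z := S.base.ord.xz
  obtain ⟨g0, hgQ0, hne0⟩ := S.nwc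
  obtain ⟨hI, hA⟩ := S.PA_vec f hgQ0 hne0
  obtain ⟨p, hp, hpv⟩ := (trans hI).1 hA
  obtain ⟨c, hc⟩ := (f.range _).1 (Kp_le (inv_mem hp))
  have hcz : Commute (c : G) z := Subgroup.mem_centralizer_singleton_iff.1 c.2
  obtain ⟨g, hgQ, hne, hv⟩ : ∃ g : G, g * z * g⁻¹ ∈ Q ∧ g * z * g⁻¹ ≠ z ∧ f.vec (g * z * g⁻¹) = va := by
    refine ⟨(c : G) * g0, ?_⟩
    rw [show (c : G) * g0 * z * ((c : G) * g0)⁻¹ = (c : G) * (g0 * z * g0⁻¹) * (c : G)⁻¹ by group]
    refine ⟨S.base.ord.normQ c hcz _ hgQ0, fun h => hne0 (mul_left_cancel (mul_right_cancel (h.trans ?_))), ?_⟩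
    · rw [hcz.eq, mul_inv_cancel_right]
    · rw [f.vec_conj c _ hgQ0, hc, ← hpv]
      exact p.symm_apply_apply va
  set s := g * z * g⁻¹ with hs
  set s' := x * s * x⁻¹ with hs'
  have hs'Q : s' ∈ Q := S.base.ord.normQ x hxz s hgQ
  have hs''Q : x * s' * x⁻¹ ∈ Q := S.base.ord.normQ x hxz s' hs'Q
  have hvv : f.vec (x * s' * x⁻¹) = f.vec (s * s') := by
    rw [f.vec_xc S.base hs'Q, f.vec_mul s hgQ s' hs'Q, hs', f.vec_xc S.base hgQ, hv]
    exact line_facts.2.2
  rcases (f.vec_eq _ hs''Q _ (mul_mem hgQ hs'Q)).1 hvv with e | e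
  · exact ⟨g, hgQ, hne, hv, e.symm⟩
  · obtain ⟨y, hy, hys⟩ := S.adjust hgQ hne
    refine ⟨y * g, ?_⟩
    rw [show y * g * z * (y * g)⁻¹ = y * s * y⁻¹ by rw [hs]; group, hys]
    have hxc : x * (s * z) * x⁻¹ = s' * z := by
      rw [← conj_mul, hxz.eq, mul_inv_cancel_right]
    refine ⟨mul_mem hgQ S.base.ord.xt.mem, fun h => (S.xtc g).ne (mul_eq_right.1 h), ?_, ?_⟩
    · rw [f.vec_mul s hgQ z S.base.ord.xt.mem, f.vec_z S.base, add_zero, hv]
    · rw [hxc, ← conj_mul, hxz.eq, mul_inv_cancel_right]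
      rw [show s * z * (s' * z) = s * s' by
        rw [mul_assoc, ← mul_assoc z, (S.base.ord.xt.cen s' hs'Q).eq, mul_assoc s', S.base.ord.xt.sq, mul_one]]
      exact e.symm

include f in
/-- non-splitness -/
theorem Big.z_derived : (⟨z, S.base.zmem⟩ : Subgroup.centralizer ({z} : Set G)) ∈ ⁅Kx S.base, Kx S.base⁆ := by
  by_contra hzD
  set DG := (⁅Kx S.base, Kx S.base⁆).map (Subgroup.centralizer ({z} : Set G)).subtype with hDG
  have hzDG : z ∉ DG := by
    rintro ⟨d, hd, e⟩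
    exact hzD ((show d = ⟨z, S.base.zmem⟩ from Subtype.ext e) ▸ hd)
  obtain ⟨g, hgQ, hne, hv, hline⟩ := S.exists_line f
  have hxz : Commute x z := S.base.ord.xz
  set s := g * z * g⁻¹ with hs
  set g1 := x * g with hg1
  set g2 := x * g1 with hg2
  set s' := x * s * x⁻¹ with hs'
  have hz1 : g1 * z * g1⁻¹ = s' := by rw [hg1, hs', hs]; group
  have hz2 : g2 * z * g2⁻¹ = x * s' * x⁻¹ := by rw [hg2, ← hz1]; group
  have P := S.pair hgQ hne
  set A := Q ⊓ Qc Q g with hA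
  have hAv := S.inter_vec f hgQ hne hv
  have hzA : z ∈ A := ⟨S.base.ord.xt.mem, P.mem⟩
  have hsA : s ∈ A := ⟨hgQ, P.xt'.mem⟩
  have hs'Q : s' ∈ Q := S.base.ord.normQ x hxz s hgQ
  have hs'v : f.vec s' = F4.w • va := by rw [hs', f.vec_xc S.base hgQ, hv]
  have hAzc : ∀ v, Chk.fCond (code v) = true → ∀ q ∈ Q, f.vec q = v → q ∈ A := by
    intro v hv' q hq hqv
    obtain ⟨a, ha, e⟩ : v ∈ f.vec '' (A : Set G) := hAv ▸ hv'
    rcases (f.vec_eq a ha.1 q hq).1 (e.trans hqv.symm) with e' | e' <;> rw [e']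
    exacts [ha, mul_mem ha hzA]
  have hs'A : s' ∈ A := hAzc _ (by rw [code_smw, code_va]; exact fCond_count.2) _ hs'Q hs'v
  have hs''A : x * s' * x⁻¹ ∈ A := hline ▸ mul_mem hsA hs'A
  have hzs' : Commute z s' := S.base.ord.xt.cen s' hs'Q
  have hzs : Commute z s := S.base.ord.xt.cen s hgQ
  have hss' : Commute s s' := P.inter_comm hsA hs'A
  have hs1 : s ≠ s' := fun e => by
    have := hs'v
    rw [← e, hv] at this
    exact line_facts.2.1 this.symm
  have hs'1 : s' * s' = 1 := P.inter_square hs'A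
  have hsg1 : s ∈ Qc Q g1 := by
    have h := Qc_conj x (w := x * s' * x⁻¹) (g := g) hs''A.2
    rwa [show x * (x * s' * x⁻¹) * x⁻¹ = s from S.base.cubeG s] at h
  have hQ3 : Qc Q (x * g2) = Qc Q g := S.Qc_eq (by
    rw [show x * g2 * z * (x * g2)⁻¹ = x * (g2 * z * g2⁻¹) * x⁻¹ by group, hz2]
    exact S.base.cubeG s)
  -- the second intersection
  have hW2 : ∀ w, w ∈ Qc Q g → w ∈ Qc Q g1 → w ∈ Qc Q g2 := fun w h1 h2 =>
    S.third (a := s) (b := s') hs.symm hz1 hs1 hs'A.2 hsg1 (by rw [hz2]; exact hline) h1 h2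
  have hWx : ∀ w, w ∈ Qc Q g → w ∈ Qc Q g1 → x * w * x⁻¹ ∈ Qc Q g ∧ x * w * x⁻¹ ∈ Qc Q g1 := fun w h1 h2 =>
    ⟨hQ3 ▸ Qc_conj x (hW2 w h1 h2), Qc_conj x h1⟩
  -- the third conjugate through the involution
  obtain ⟨y, hy, hys⟩ := S.adjust (g := g1) (by rw [hz1]; exact hs'Q) (by
    rw [hz1]
    intro e
    have := hs'v
    rw [e, f.vec_z S.base] at this
    exact line_facts.1 this.symm)
  rw [hz1] at hys
  set k := y * g1 with hk
  have hkz : k * z * k⁻¹ = z * s' := by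
    rw [hk, show y * g1 * z * (y * g1)⁻¹ = y * (g1 * z * g1⁻¹) * y⁻¹ by group, hz1, hys]
    exact hzs'.eq.symm
  have hzg1 : z ∈ Qc Q g1 := by
    have := Qc_conj x P.mem
    rwa [hxz.eq, mul_inv_cancel_right] at this
  have hzs'ne : z ≠ s' := fun e => by
    have := hs'v
    rw [← e, f.vec_z S.base] at this
    exact line_facts.1 this.symm
  have hk3 : ∀ w, w ∈ Q → w ∈ Qc Q g1 → w ∈ Qc Q k := fun w h1 h2 =>
    S.third (g := 1) (a := z) (b := s') (by group) hz1 hzs'ne (mem_Qc_one.2 hs'Q) hzg1 hkz (mem_Qc_one.2 h1) h2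
  have hzk : z ∈ Qc Q k := hk3 z S.base.ord.xt.mem hzg1
  have hsk : s ∈ Qc Q k := hk3 s hgQ hsg1
  obtain ⟨r, hr, hrs, hrz⟩ : ∃ r ∈ Qc Q k, Commute r s ∧ ¬ Commute r z := by
    by_contra hno
    push Not at hno
    have hsc : s ≠ k * z * k⁻¹ := fun e => by
      have h1 := congrArg f.vec e
      rw [hkz, f.vec_mul z S.base.ord.xt.mem s' hs'Q, f.vec_z S.base, zero_add, hv, hs'v] at h1
      exact line_facts.2.1 h1.symm
    have e1 : k⁻¹ * g * z * (k⁻¹ * g)⁻¹ = k⁻¹ * s * k := by rw [hs]; group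
    have Pk := S.pair (g := k⁻¹ * g) (by rw [e1]; exact mem_Qc.1 hsk) (fun h => hsc (by
      rw [e1] at h
      rw [← h]; group))
    have hcen := Pk.cent_in (q := k⁻¹ * z * k) (mem_Qc.1 hzk) (fun a ha hac => by
      rw [e1] at hac
      have h2 : k * a * k⁻¹ ∈ Qc Q k := by rw [mem_Qc]; simpa [mul_assoc] using ha
      have h3 := (Commute.conj_iff k).2 hac
      rw [show k * (k⁻¹ * s * k) * k⁻¹ = s by group] at h3
      have h4 := (Commute.conj_iff k⁻¹).2 (hno _ h2 h3).symm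
      rwa [show k⁻¹ * (k * a * k⁻¹) * k⁻¹⁻¹ = a by group, inv_inv] at h4)
    rw [e1] at hcen
    have hzz : ∀ a : G, k⁻¹ * z * k = k⁻¹ * a * k → z = a := fun a e => mul_left_cancel (mul_right_cancel e)
    rcases hcen with e | e | e | e
    · exact S.base.ord.xt.ne (hzz 1 (by rw [e]; group))
    · have h5 : z = k * z * k⁻¹ := hzz _ (e.trans (by group))
      rw [hkz, eq_comm, mul_eq_left] at h5
      rw [h5, mul_one] at hs'1
      exact (S.xtc g1).ne (hz1.trans h5)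
    · exact hne (hzz s e).symm
    · have h5 : z = s * (k * z * k⁻¹) := hzz _ (e.trans (by group))
      rw [hkz, ← mul_assoc, ← hzs.eq, mul_assoc, eq_comm, mul_eq_left, mul_eq_one_iff_eq_inv,
        inv_eq_of_mul_eq_one_right hs'1] at h5
      exact hs1 h5
  have hrs' : r * s * r⁻¹ = s := by rw [hrs.eq, mul_inv_cancel_right]
  have hrz' : r * z * r⁻¹ = s' := by
    rw [(S.xtc k).move hr hzk hrz, hkz, ← mul_assoc, S.base.ord.xt.sq, one_mul]
  have hrs'' : r * s' * r⁻¹ = z := by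
    have e : s' = z * (k * z * k⁻¹) := by rw [hkz, ← mul_assoc, S.base.ord.xt.sq, one_mul]
    rw [e, ← conj_mul, hrz', ← ((S.xtc k).cen r hr).eq, mul_inv_cancel_right, hkz, hzs'.eq, ← mul_assoc,
      hs'1, one_mul]
  have hrQ : ∀ w ∈ Q, r * w * r⁻¹ ∈ Qc Q g1 := fun w hw => by
    rw [S.Qc_eq (g := g1) (k := r) (hz1.trans hrz'.symm)]
    have := Qc_conj r (mem_Qc_one.2 hw)
    rwa [mul_one] at this
  have hrA : ∀ w ∈ A, r * w * r⁻¹ ∈ Qc Q g ∧ r * w * r⁻¹ ∈ Qc Q g1 := fun w hw =>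
    ⟨S.Qc_norm hrs hw.2, hrQ w hw.1⟩
  have hAr : ∀ w, w ∈ Qc Q g → w ∈ Qc Q g1 → r⁻¹ * w * r ∈ A := fun w h1 h2 => by
    have h3 := S.Qc_norm hrs.inv_left h1
    rw [inv_inv] at h3
    rw [S.Qc_eq (g := g1) (k := r) (hz1.trans hrz'.symm), mem_Qc] at h2
    exact ⟨h2, h3⟩
  have hWcomm : ∀ a b, a ∈ Qc Q g → a ∈ Qc Q g1 → b ∈ Qc Q g → b ∈ Qc Q g1 → Commute a b := by
    intro a b a1 a2 b1 b2
    have h := (Commute.conj_iff r).2 (P.inter_comm (hAr a a1 a2) (hAr b b1 b2))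
    rwa [show r * (r⁻¹ * a * r) * r⁻¹ = a by group, show r * (r⁻¹ * b * r) * r⁻¹ = b by group] at h
  have hWz : ∀ a, a ∈ Qc Q g → a ∈ Qc Q g1 → Commute a z := fun a a1 a2 => hWcomm a z a1 a2 P.mem hzg1
  -- the map to the centraliser of the element of order three
  have heta_mem : ∀ a, a ∈ Qc Q g → a ∈ Qc Q g1 →
      ∃ hc : eta x a ∈ (Subgroup.centralizer ({z} : Set G)), (⟨eta x a, hc⟩ : (Subgroup.centralizer ({z} : Set G))) ∈ Kx S.base := by
    intro a a1 a2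
    obtain ⟨b1, b2⟩ := hWx a a1 a2
    obtain ⟨c1, c2⟩ := hWx _ b1 b2
    refine ⟨Subgroup.mem_centralizer_singleton_iff.2
      (((hWz a a1 a2).mul_left (hWz _ b1 b2)).mul_left (hWz _ c1 c2)), mem_Kx.2 (Subtype.ext ?_)⟩
    show eta x a * x = x * eta x a
    refine (mul_inv_eq_iff_eq_mul.1 ?_).symm
    show x * eta x a * x⁻¹ = eta x a
    rw [eta, ← conj_mul, ← conj_mul, S.base.cubeG a, ((hWcomm a _ a1 a2 b1 b2).mul_right
      (hWcomm a _ a1 a2 c1 c2)).symm.eq, ← mul_assoc]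
  have heta_mul : ∀ a b, a ∈ Qc Q g → a ∈ Qc Q g1 → b ∈ Qc Q g → b ∈ Qc Q g1 →
      eta x (a * b) = eta x a * eta x b := by
    intro a b a1 a2 b1 b2
    obtain ⟨p1, p2⟩ := hWx a a1 a2
    obtain ⟨q1, q2⟩ := hWx b b1 b2
    obtain ⟨u1, u2⟩ := hWx _ p1 p2
    obtain ⟨v1, v2⟩ := hWx _ q1 q2
    have cp := hWcomm b _ b1 b2 p1 p2
    have cu := (hWcomm b _ b1 b2 u1 u2).mul_left (hWcomm _ _ q1 q2 u1 u2)
    unfold eta
    rw [← conj_mul, ← conj_mul, cp.mul_mul_mul_comm, cu.mul_mul_mul_comm]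
  let U : G → Prop := fun w => w ∈ A ∧ eta x (r * w * r⁻¹) ∈ DG
  have hUmul : ∀ a b, U a → U b → U (a * b) := by
    intro a b ha hb
    refine ⟨mul_mem ha.1 hb.1, ?_⟩
    rw [← conj_mul, heta_mul _ _ (hrA a ha.1).1 (hrA a ha.1).2 (hrA b hb.1).1 (hrA b hb.1).2]
    exact mul_mem ha.2 hb.2
  have heta_s : eta x s = 1 := by
    show s * s' * (x * s' * x⁻¹) = 1
    rw [hline]
    exact P.inter_square (mul_mem hsA hs'A)
  have heta_s' : eta x s' = 1 := by
    show s' * (x * s' * x⁻¹) * (x * (x * s' * x⁻¹) * x⁻¹) = 1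
    rw [S.base.cubeG s, hline, hss'.eq, ← mul_assoc s' s' s, hs'1, one_mul]
    exact P.inter_square hsA
  have hUz : U z := ⟨hzA, by rw [hrz', heta_s']; exact one_mem _⟩
  have hUs' : ¬ U s' := fun h => hzDG (by
    have h2 := h.2
    rw [hrs''] at h2
    have e : eta x z = z := by
      rw [eta, hxz.eq, mul_inv_cancel_right, hxz.eq, mul_inv_cancel_right, S.base.ord.xt.sq, one_mul]
    rwa [e] at h2)
  have hdich : ∀ w ∈ A, U w ∨ eta x (r * w * r⁻¹) * z ∈ DG := by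
    intro w hw
    obtain ⟨hc, hcK⟩ := heta_mem _ (hrA w hw).1 (hrA w hw).2
    rcases S.dich f hcK with h | h
    · exact Or.inl ⟨hw, ⟨_, h, rfl⟩⟩
    · exact Or.inr ⟨_, h, rfl⟩
  have hnon : ∀ a b, a ∈ A → b ∈ A → ¬ U a → ¬ U b → U (a * b) := by
    intro a b ha hb na nb
    refine ⟨mul_mem ha hb, ?_⟩
    rw [← conj_mul, heta_mul _ _ (hrA a ha).1 (hrA a ha).2 (hrA b hb).1 (hrA b hb).2]
    obtain ⟨hc, -⟩ := heta_mem _ (hrA b hb).1 (hrA b hb).2
    have := mul_mem ((hdich a ha).resolve_left na) ((hdich b hb).resolve_left nb)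
    have hbz : Commute (eta x (r * b * r⁻¹)) z := Subgroup.mem_centralizer_singleton_iff.1 hc
    rwa [mul_assoc, ← mul_assoc z, ← hbz.eq, mul_assoc (eta x (r * b * r⁻¹)), S.base.ord.xt.sq, mul_one] at this
  -- elements of the centraliser of the line
  have hfixK : ∀ c : (Subgroup.centralizer ({z} : Set G)), c ∈ Kx S.base → f.π c va = va → Commute (c : G) s ∧ Commute (c : G) s' := by
    intro c hc hcv
    have hcz : Commute (c : G) z := Subgroup.mem_centralizer_singleton_iff.1 c.2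
    have hcx : Commute (c : G) x := congrArg Subtype.val (mem_Kx.1 hc).eq
    have hcQ := S.base.ord.normQ c hcz s hgQ
    have hmove : ∀ a : G, (c : G) * (x * a * x⁻¹) * (c : G)⁻¹ = x * ((c : G) * a * (c : G)⁻¹) * x⁻¹ := fun a => by
      calc (c : G) * (x * a * x⁻¹) * (c : G)⁻¹ = ((c : G) * x) * a * ((c : G) * x)⁻¹ := by group
        _ = (x * c) * a * (x * (c : G))⁻¹ := by rw [hcx.eq]
        _ = _ := by group
    have h1 : (c : G) * s * (c : G)⁻¹ = s := by
      rcases (f.vec_eq s hgQ _ hcQ).1 (by rw [f.vec_conj c s hgQ, hv, hcv]) with e | e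
      · exact e
      · exfalso
        have h2 : (c : G) * s' * (c : G)⁻¹ = s' * z := by
          rw [hs', hmove, e, ← conj_mul, hxz.eq, mul_inv_cancel_right]
        have h3 : (c : G) * (x * s' * x⁻¹) * (c : G)⁻¹ = x * s' * x⁻¹ * z := by
          rw [hmove, h2, ← conj_mul, hxz.eq, mul_inv_cancel_right]
        rw [hline, ← conj_mul, e, h2, ← mul_assoc (s * z), mul_assoc s z, hzs'.eq, ← mul_assoc s, mul_assoc (s * s'),
          S.base.ord.xt.sq, mul_one] at h3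
        exact S.base.ord.xt.ne (mul_eq_left.1 h3.symm)
    refine ⟨mul_inv_eq_iff_eq_mul.1 h1, mul_inv_eq_iff_eq_mul.1 ?_⟩
    rw [hs', hmove, h1]
  -- the part of the extraspecial subgroup centralising the line
  have hC2 : ∀ q ∈ Q, Commute q s → Commute q s' →
      ∃ a ∈ A, ∃ b ∈ A, q = a * (x * b * x⁻¹) := by
    set C1 := Q ⊓ Subgroup.centralizer ({s} : Set G) with hC1
    set C2 := C1 ⊓ Subgroup.centralizer ({s'} : Set G) with hC2'
    have half : ∀ a b : Subgroup G, a ≤ b → a ≠ b → 2 * Nat.card a ≤ Nat.card b := by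
      intro a b hab hne'
      obtain ⟨t, ht⟩ := Subgroup.card_dvd_of_le hab
      rw [ht, mul_comm]
      refine Nat.mul_le_mul_left _ ?_
      by_contra hlt
      push Not at hlt
      refine hne' (Subgroup.eq_of_le_of_card_ge hab ?_)
      rw [ht]
      calc Nat.card a * t ≤ Nat.card a * 1 := Nat.mul_le_mul_left _ (by omega)
        _ = Nat.card a := mul_one _
    have h1 : 2 * Nat.card C1 ≤ 2 ^ 13 := S.base.ord.cardQ ▸ half _ _ inf_le_left fun e => by
      obtain ⟨y', hy', hys'⟩ := S.adjust hgQ hne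
      have := (show y' ∈ C1 from e.symm ▸ hy').2
      rw [(Subgroup.mem_centralizer_singleton_iff.1 this), mul_inv_cancel_right] at hys'
      exact S.base.ord.xt.ne (mul_eq_left.1 hys'.symm)
    have h2 : 2 * Nat.card C2 ≤ Nat.card C1 := half _ _ inf_le_left fun e => by
      have hcen := P.cent_in hs'Q fun a ha hac => by
        have ha2 : a ∈ C2 := e.symm ▸ (⟨ha, Subgroup.mem_centralizer_singleton_iff.2 hac⟩ : a ∈ C1)
        exact (Subgroup.mem_centralizer_singleton_iff.1 ha2.2).symm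
      have hbad : f.vec s' ≠ 0 ∧ f.vec s' ≠ va := by rw [hs'v]; exact ⟨line_facts.1, line_facts.2.1⟩
      rcases hcen with e' | e' | e' | e' <;> rw [e'] at hbad
      · exact hbad.1 (f.vec_one S.base)
      · exact hbad.1 (f.vec_z S.base)
      · exact hbad.2 hv
      · exact hbad.2 (by rw [f.vec_mul _ hgQ z S.base.ord.xt.mem, f.vec_z S.base, add_zero, hv])
    have h3 := f.vecCard S.base C2 (fun a ha => ha.1.1)
      ⟨⟨S.base.ord.xt.mem, Subgroup.mem_centralizer_singleton_iff.2 hzs⟩, Subgroup.mem_centralizer_singleton_iff.2 hzs'⟩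
    have hmemC2 : ∀ a ∈ A, a * 1 ∈ C2 ∧ x * a * x⁻¹ ∈ C2 := by
      intro a ha
      refine ⟨by rw [mul_one]; exact ⟨⟨ha.1, Subgroup.mem_centralizer_singleton_iff.2 (P.inter_comm ha hsA)⟩,
        Subgroup.mem_centralizer_singleton_iff.2 (P.inter_comm ha hs'A)⟩, ⟨S.base.ord.normQ x hxz a ha.1, ?_⟩, ?_⟩ <;>
        refine Subgroup.mem_centralizer_singleton_iff.2 ?_
      · have h := (Commute.conj_iff x).2 (P.inter_comm ha hs''A)
        rwa [S.base.cubeG s] at h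
      · exact (Commute.conj_iff x).2 (P.inter_comm ha hsA)
    set T : Set V6 := {v | ∃ a ∈ A, ∃ b ∈ A, v = f.vec a + F4.w • f.vec b} with hTdef
    have hT : T ⊆ f.vec '' (C2 : Set G) := by
      rintro _ ⟨a, ha, b, hb, rfl⟩
      refine ⟨a * (x * b * x⁻¹), ?_, ?_⟩
      · have := mul_mem (hmemC2 a ha).1 (hmemC2 b hb).2
        rwa [mul_one] at this
      · rw [f.vec_mul a ha.1 _ (S.base.ord.normQ x hxz b hb.1), f.vec_xc S.base hb.1]
    have hTc : 1024 ≤ T.ncard := by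
      refine span_rows ⟨1, one_mem _, 1, one_mem _, by rw [f.vec_one S.base, smul_zero, add_zero]⟩ ?_ ?_ ?_
      · rintro _ ⟨a, ha, b, hb, rfl⟩ _ ⟨a', ha', b', hb', rfl⟩
        refine ⟨a * a', mul_mem ha ha', b * b', mul_mem hb hb', ?_⟩
        rw [f.vec_mul a ha.1 a' ha'.1, f.vec_mul b hb.1 b' hb'.1, smul_add]
        abel
      · intro v hv'
        obtain ⟨a, ha, e⟩ : v ∈ f.vec '' (A : Set G) := hAv ▸ hv'
        exact ⟨a, ha, 1, one_mem _, by rw [f.vec_one S.base, smul_zero, add_zero, e]⟩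
      · intro v hv'
        obtain ⟨b, hb, e⟩ : F4.v • v ∈ f.vec '' (A : Set G) := hAv ▸ hv'
        exact ⟨1, one_mem _, b, hb, by
          rw [f.vec_one S.base, zero_add, e, smul_smul, show (F4.w : F4) * F4.v = 1 by decide +kernel, one_smul]⟩
    have hTeq : T = f.vec '' (C2 : Set G) :=
      Set.eq_of_subset_of_ncard_le hT (by norm_num at h1; omega) (Set.toFinite _)
    intro q hq hqs hqs'
    obtain ⟨a, ha, b, hb, he⟩ : f.vec q ∈ T := hTeq ▸ ⟨q, ⟨⟨hq, Subgroup.mem_centralizer_singleton_iff.2 hqs⟩,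
      Subgroup.mem_centralizer_singleton_iff.2 hqs'⟩, rfl⟩
    have hbQ := S.base.ord.normQ x hxz b hb.1
    have h : f.vec (a * (x * b * x⁻¹)) = f.vec q := by
      rw [he, f.vec_mul a ha.1 _ hbQ, f.vec_xc S.base hb.1]
    rcases (f.vec_eq _ (mul_mem ha.1 hbQ) q hq).1 h with e' | e'
    · exact ⟨a, ha, b, hb, e'⟩
    · refine ⟨a * z, mul_mem ha hzA, b, hb, ?_⟩
      rw [e', mul_assoc a, ← (S.base.ord.xt.cen _ hbQ).eq, ← mul_assoc]
  -- invariance of the hyperplane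
  have hUinv : ∀ c : (Subgroup.centralizer ({z} : Set G)), c ∈ Kx S.base → f.π c va = va → ∀ w, U w → U ((c : G) * w * (c : G)⁻¹) := by
    intro c hc hcv w hw
    obtain ⟨hcs, hcs'⟩ := hfixK c hc hcv
    have hcz : Commute (c : G) z := Subgroup.mem_centralizer_singleton_iff.1 c.2
    refine ⟨⟨S.base.ord.normQ c hcz w hw.1.1, S.Qc_norm hcs hw.1.2⟩, ?_⟩
    set d := r * (c : G) * r⁻¹ with hd
    have hds : Commute d s := by
      have := (Commute.conj_iff r).2 hcs; rwa [hrs'] at this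
    have hds' : Commute d s' := by
      have := (Commute.conj_iff r).2 hcz; rwa [hrz'] at this
    have hdz : Commute d z := by
      have := (Commute.conj_iff r).2 hcs'; rwa [hrs''] at this
    let dC : (Subgroup.centralizer ({z} : Set G)) := ⟨d, Subgroup.mem_centralizer_singleton_iff.2 hdz⟩
    have hdv : f.π dC va = va := by
      rw [← hv, ← f.vec_conj dC s hgQ]
      exact congrArg f.vec (mul_inv_eq_iff_eq_mul.2 hds.eq)
    have hdv' : f.π dC (F4.w • va) = F4.w • va := by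
      rw [← hs'v, ← f.vec_conj dC s' hs'Q]
      exact congrArg f.vec (mul_inv_eq_iff_eq_mul.2 hds'.eq)
    obtain ⟨k2, hk2, hk2π⟩ := S.lift f (fix_line_Kp ((f.range _).2 ⟨dC, rfl⟩) hdv hdv')
    obtain ⟨hks, hks'⟩ := hfixK k2 (mem_Kx.2 hk2) (by rw [hk2π]; exact hdv)
    have hqQ : d * (k2 : G)⁻¹ ∈ Q :=
      (f.ker (dC * k2⁻¹)).1 (by rw [map_mul, map_inv, hk2π, mul_inv_cancel])
    obtain ⟨a, ha, b, hb, hab⟩ := hC2 _ hqQ (hds.mul_left hks.inv_left) (hds'.mul_left hks'.inv_left)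
    set w0 := r * w * r⁻¹ with hw0
    obtain ⟨w1, w2⟩ := hrA w hw.1
    set v := (k2 : G) * w0 * (k2 : G)⁻¹ with hvdef
    have v1 : v ∈ Qc Q g := S.Qc_norm hks w1
    have v2 : v ∈ Qc Q g1 := S.Qc_norm (by rw [hz1]; exact hks') w2
    have hvD : eta x v ∈ DG := by
      obtain ⟨e0, he0, he0'⟩ := hw.2
      refine ⟨k2 * e0 * k2⁻¹, ?_, ?_⟩
      · rw [← hw0] at he0'
        have := mul_mem (Subgroup.commutator_mem_commutator (mem_Kx.2 hk2)
          (Subgroup.commutator_le_self (Kx S.base) he0)) he0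
        rwa [commutatorElement_def, inv_mul_cancel_right] at this
      · show (k2 : G) * (e0 : G) * (k2 : G)⁻¹ = eta x v
        rw [show (e0 : G) = eta x w0 from he0']
        have hkx : Commute (k2 : G) x := congrArg Subtype.val hk2.eq
        have hmv : ∀ t : G, (k2 : G) * (x * t * x⁻¹) * (k2 : G)⁻¹ = x * ((k2 : G) * t * (k2 : G)⁻¹) * x⁻¹ :=
          fun t => by
            calc (k2 : G) * (x * t * x⁻¹) * (k2 : G)⁻¹ = ((k2 : G) * x) * t * ((k2 : G) * x)⁻¹ := by group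
              _ = (x * k2) * t * (x * (k2 : G))⁻¹ := by rw [hkx.eq]
              _ = _ := by group
        unfold eta
        rw [← conj_mul, ← conj_mul, hmv, hmv, hmv]
    have heq : r * ((c : G) * w * (c : G)⁻¹) * r⁻¹ = (a * (x * b * x⁻¹)) * v * (a * (x * b * x⁻¹))⁻¹ := by
      rw [← hab, hvdef, hw0, hd]; group
    rw [heq, show a * (x * b * x⁻¹) * v * (a * (x * b * x⁻¹))⁻¹ =
      a * (x * b * x⁻¹ * v * (x * b * x⁻¹)⁻¹) * a⁻¹ by group]
    have hkeep : ∀ t u : G, t ∈ Qc Q g → t ∈ Qc Q g1 → eta x t ∈ DG → u ∈ Qc Q g → u ∈ Qc Q g1 →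
        eta x u = 1 → eta x (t * u) ∈ DG := fun t u t1 t2 tD u1 u2 uD => by
      rw [heta_mul _ _ t1 t2 u1 u2, uD, mul_one]; exact tD
    have hs'g1 : s' ∈ Qc Q g1 := hz1 ▸ (S.xtc g1).mem
    have hbg1 : x * b * x⁻¹ ∈ Qc Q g1 := Qc_conj x hb.2
    obtain ⟨v', hv'1, hv'2, hv'D, hv'e⟩ : ∃ v', v' ∈ Qc Q g ∧ v' ∈ Qc Q g1 ∧ eta x v' ∈ DG ∧
        x * b * x⁻¹ * v * (x * b * x⁻¹)⁻¹ = v' := by
      rcases (S.xtc g1).comm _ hbg1 v v2 with e | e
      · exact ⟨v, v1, v2, hvD, e⟩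
      · exact ⟨v * s', mul_mem v1 hs'A.2, mul_mem v2 hs'g1, hkeep v s' v1 v2 hvD hs'A.2 hs'g1 heta_s',
          e.trans (congrArg (v * ·) hz1)⟩
    rw [hv'e]
    rcases (S.xtc g).comm a ha.2 v' hv'1 with e | e <;> rw [e]
    · exact hv'D
    · exact hkeep v' s hv'1 hv'2 hv'D hsA.2 hsg1 heta_s
  -- contradiction
  have hkey : ∀ c : (Subgroup.centralizer ({z} : Set G)), c ∈ Kx S.base → f.π c va = va → ∀ w ∈ A, U ((c : G) * w * (c : G)⁻¹ * w) := by
    intro c hc hcv w hw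
    have hcA : (c : G) * w * (c : G)⁻¹ ∈ A :=
      ⟨S.base.ord.normQ c (Subgroup.mem_centralizer_singleton_iff.1 c.2) w hw.1, S.Qc_norm (hfixK c hc hcv).1 hw.2⟩
    by_cases hU : U w
    · exact hUmul _ _ (hUinv c hc hcv w hU) hU
    · refine hnon _ _ hcA hw (fun h => hU ?_) hU
      have hcv' : f.π c⁻¹ va = va := by
        rw [map_inv, Equiv.Perm.inv_eq_iff_eq, hcv]
      have := hUinv c⁻¹ (inv_mem hc) hcv' _ h
      simpa [mul_assoc] using this
  obtain ⟨hpair, hpsum⟩ := pair_facts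
  obtain ⟨c0, hc0, hc0π⟩ := S.lift f (hpair 0).1
  obtain ⟨c1, hc1, hc1π⟩ := S.lift f (hpair 1).1
  obtain ⟨w1, hw1, hw1v⟩ : SUSix.vecOf (Dat.pairV.getD 0 0) ∈ f.vec '' (A : Set G) := hAv ▸ (hpair 0).2.2
  obtain ⟨w2, hw2, hw2v⟩ : SUSix.vecOf (Dat.pairV.getD 1 0) ∈ f.vec '' (A : Set G) := hAv ▸ (hpair 1).2.2
  have u1 := hkey c0 (mem_Kx.2 hc0) (by rw [hc0π]; exact (hpair 0).2.1) w1 hw1
  have u2 := hkey c1 (mem_Kx.2 hc1) (by rw [hc1π]; exact (hpair 1).2.1) w2 hw2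
  have u := hUmul _ _ u1 u2
  have hn0 := S.base.ord.normQ c0 (Subgroup.mem_centralizer_singleton_iff.1 c0.2) w1 hw1.1
  have hn1 := S.base.ord.normQ c1 (Subgroup.mem_centralizer_singleton_iff.1 c1.2) w2 hw2.1
  have hvec : f.vec ((c0 : G) * w1 * (c0 : G)⁻¹ * w1 * ((c1 : G) * w2 * (c1 : G)⁻¹ * w2)) = f.vec s' := by
    rw [f.vec_mul _ (mul_mem hn0 hw1.1) _ (mul_mem hn1 hw2.1), f.vec_mul _ hn0 _ hw1.1, f.vec_mul _ hn1 _ hw2.1,
      f.vec_conj c0 w1 hw1.1, f.vec_conj c1 w2 hw2.1, hc0π, hc1π, hw1v, hw2v, hs'v]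
    exact hpsum
  rcases (f.vec_eq _ u.1.1 s' hs'Q).1 hvec with e | e
  · exact hUs' (e ▸ u)
  · exact hUs' (e ▸ hUmul _ _ u hUz)

include f in
/-- the centraliser of the element of order three is a perfect sixfold cover -/
theorem Big.cover_main : ⁅Kx S.base, Kx S.base⁆ = Kx S.base ∧ IsCyclic ↥(Subgroup.center ↥(Kx S.base)) ∧
    Nat.card ↥(Subgroup.center ↥(Kx S.base)) = 6 ∧
    Cfsg.Spor.IsoM22 (↥(Kx S.base) ⧸ Subgroup.center ↥(Kx S.base)) := by
  obtain ⟨ψ0, O⟩ := f.mdl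
  haveI := simple_G22
  let φ : Kx S.base →* ↥Kp :=
    { toFun := fun c => ⟨f.π c, S.Kp_of_comm f (mem_Kx.1 c.2)⟩
      map_one' := Subtype.ext (map_one f.π)
      map_mul' := fun a b => Subtype.ext (map_mul f.π _ _) }
  let ψ : Kx S.base →* G22 := ψ0.comp φ
  have hψs : Function.Surjective ψ := by
    refine O.surj.comp ?_
    rintro ⟨p, hp⟩
    obtain ⟨c, hc, e⟩ := S.lift f hp
    exact ⟨⟨c, mem_Kx.2 hc⟩, Subtype.ext e⟩
  set xC := S.base.xC with hxC
  have hxK : xC ∈ Kx S.base := mem_Kx.2 (Commute.refl xC)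
  set zC : Subgroup.centralizer ({z} : Set G) := ⟨z, S.base.zmem⟩ with hzC
  have hzcen : ∀ c, Commute zC c := fun c =>
    Subtype.ext (Subgroup.mem_centralizer_singleton_iff.1 c.2).symm
  have hxo : orderOf xC = 3 := by
    haveI : Fact (Nat.Prime 3) := ⟨Nat.prime_three⟩
    exact orderOf_eq_prime S.base.cube_xC fun e => S.base.x1 (congrArg Subtype.val e)
  have hzo : orderOf zC = 2 := orderOf_eq_prime (Subtype.ext (by
    show ((zC ^ 2 : Subgroup.centralizer ({z} : Set G)) : G) = 1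
    rw [SubmonoidClass.coe_pow, pow_two]; exact S.base.ord.xt.sq))
    fun e => S.base.ord.xt.ne (congrArg Subtype.val e)
  have hzx : Commute zC xC := hzcen xC
  set w : Kx S.base := ⟨xC * zC, mul_mem hxK (mem_Kx.2 hzx)⟩ with hw
  have hwo : orderOf w = 6 := by
    rw [← Subgroup.orderOf_coe, hw, hzx.symm.orderOf_mul_eq_mul_orderOf_of_coprime (by rw [hxo, hzo]; decide),
      hxo, hzo]
  have hz1 : f.π zC = 1 := (f.ker zC).2 S.base.ord.xt.mem
  have hψ : ∀ c : Kx S.base, ψ c = 1 ↔ c ∈ Subgroup.zpowers w := by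
    intro c
    constructor
    · intro hc
      obtain ⟨i, hi⟩ : f.π (c : Subgroup.centralizer ({z} : Set G)) ∈ Subgroup.zpowers gW := (O.ker (φ c)).1 hc
      have hker : (((xC ^ i)⁻¹ * c.1 : Subgroup.centralizer ({z} : Set G)) : G) ∈ Q := by
        refine (f.ker _).1 ?_
        rw [map_mul, map_inv, map_zpow, hxC, f.pi_x S.base.xC rfl, inv_mul_eq_one]
        exact hi
      have hcx : Commute ((xC ^ i)⁻¹ * c.1) xC :=
        ((Commute.refl xC).zpow_left i).inv_left.mul_left (mem_Kx.1 c.2)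
      have hxw : (xC : Subgroup.centralizer ({z} : Set G)) = (xC * zC) ^ (4 : ℤ) := by
        rw [hzx.symm.mul_zpow, show (4 : ℤ) = 3 + 1 from rfl, zpow_add, zpow_one, zpow_ofNat, hxC,
          S.base.cube_xC, one_mul, show ((3 : ℤ) + 1) = ((orderOf zC : ℕ) : ℤ) * 2 by rw [hzo]; rfl, zpow_mul,
          zpow_natCast, pow_orderOf_eq_one, one_zpow, mul_one]
      have hzw : zC = (xC * zC) ^ (3 : ℤ) := by
        rw [hzx.symm.mul_zpow, zpow_ofNat, zpow_ofNat, hxC, S.base.cube_xC, one_mul, pow_succ, ← hzo,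
          pow_orderOf_eq_one, one_mul]
      rcases S.ker f hker (congrArg Subtype.val hcx.eq) with e | e
      · refine ⟨4 * i, Subtype.ext ?_⟩
        rw [Subgroup.coe_zpow, zpow_mul, show (w : Subgroup.centralizer ({z} : Set G)) = xC * zC from rfl, ← hxw]
        exact inv_mul_eq_one.1 (Subtype.ext e)
      · refine ⟨4 * i + 3, Subtype.ext ?_⟩
        rw [Subgroup.coe_zpow, zpow_add, zpow_mul, show (w : Subgroup.centralizer ({z} : Set G)) = xC * zC from rfl,
          ← hxw, ← hzw]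
        exact (eq_mul_of_inv_mul_eq (Subtype.ext e)).symm
    · intro hc
      obtain ⟨n, rfl⟩ := hc
      have h1 : ψ w = 1 := (O.ker (φ w)).2 ⟨1, by
        show gW ^ (1 : ℤ) = f.π (xC * zC)
        rw [zpow_one, map_mul, hz1, mul_one, hxC, f.pi_x S.base.xC rfl]⟩
      show ψ (w ^ n) = 1
      rw [map_zpow, h1, one_zpow]
  have hnc : Subgroup.center G22 = ⊥ := by
    refine (IsSimpleGroup.eq_bot_or_eq_top_of_normal (Subgroup.center _) inferInstance).resolve_right fun ht => ?_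
    obtain ⟨e11, ea1, -⟩ := e_pows
    have hcomm : ed * ea = ea * ed := Subgroup.mem_center_iff.1 (ht ▸ Subgroup.mem_top ea) ed
    have h1 : ed * ea * ed⁻¹ * ea⁻¹ = 1 := by rw [hcomm]; group
    rw [mul_inv_eq_one, e_rels.1, show (3 : ℕ) = 2 + 1 from rfl, pow_succ, mul_eq_right] at h1
    rw [show (11 : ℕ) = 2 * 5 + 1 from rfl, pow_succ, pow_mul, h1, one_pow, one_mul] at e11
    exact ea1 e11
  have hcen : Subgroup.center (Kx S.base) = ψ.ker := by
    refine le_antisymm (fun c hc => ?_) ?_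
    · rw [MonoidHom.mem_ker, ← Subgroup.mem_bot, ← hnc, Subgroup.mem_center_iff]
      intro u
      obtain ⟨a, rfl⟩ := hψs u
      rw [← map_mul, ← map_mul, Subgroup.mem_center_iff.1 hc a]
    · intro c hc
      rw [MonoidHom.mem_ker, hψ] at hc
      refine (Subgroup.zpowers_le.2 (Subgroup.mem_center_iff.2 fun a => Subtype.ext ?_)) hc
      exact ((mem_Kx.1 a.2).mul_right (hzcen a.1).symm).eq
  have hzp : Subgroup.center (Kx S.base) = Subgroup.zpowers w := hcen.trans (Subgroup.ext fun c => hψ c)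
  refine ⟨le_antisymm (Subgroup.commutator_le_self _) fun c hc => ?_, hzp ▸ inferInstance,
    by rw [hzp, Nat.card_zpowers, hwo],
    ⟨(QuotientGroup.quotientMulEquivOfEq hcen).trans (QuotientGroup.quotientKerEquivOfSurjective ψ hψs)⟩⟩
  rcases S.dich f hc with h | h
  · exact h
  · have h2 := mul_mem h (inv_mem (S.z_derived f))
    rwa [mul_inv_cancel_right] at h2

end Cfsg.Agent.Spor.JFour
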