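import Mathlib

/-!
Two elementary lemmas: commuting involutions in a dihedral group, and sets of involutions sharing their
invariant pairs.
-/

set_option autoImplicit false

namespace Cfsg.Agent.Spor.JFour

theorem conj_pow_invert {G : Type*} [Group G] {d a : G} (ha : a * a = 1) (h : a * d * a = d⁻¹) (j : ℕ) :
    d ^ j * a * (d ^ j)⁻¹ = d ^ (2 * j) * a := by
  have hai : a⁻¹ = a := inv_eq_of_mul_eq_one_right ha
  have hj : a * (d ^ j)⁻¹ = d ^ j * a := by
    have h1 := (conj_pow (i := j) (a := a) (b := d)).symm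
    rw [hai, h, inv_pow] at h1
    rw [← h1, ← mul_assoc, ← mul_assoc, ha, one_mul]
  rw [mul_assoc, hj, two_mul, pow_add, mul_assoc]

/-- two involutions not conjugate in a subgroup commute with an involution there that keeps one of their classes -/
theorem dihedral_mid {G : Type*} [Group G] [Finite G] {K : Subgroup G} {x y : G} (hxK : x ∈ K) (hyK : y ∈ K)
    (hx : x * x = 1) (hy : y * y = 1) (hne : ∀ k ∈ K, k * y * k⁻¹ ≠ x) :
    ∃ w ∈ K, w ≠ 1 ∧ Commute w x ∧ Commute w y ∧
      ∃ k ∈ K, x * w = k * x * k⁻¹ ∨ x * w = k * y * k⁻¹ := by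
  set d := x * y with hd
  have hdK : d ∈ K := mul_mem hxK hyK
  have hxi : x⁻¹ = x := inv_eq_of_mul_eq_one_right hx
  have hyi : y⁻¹ = y := inv_eq_of_mul_eq_one_right hy
  have hdx : x * d * x = d⁻¹ := by rw [hd, ← mul_assoc x x y, hx, one_mul, mul_inv_rev, hxi, hyi]
  have hdy : y * d * y = d⁻¹ := by rw [hd, mul_inv_rev, hxi, hyi, mul_assoc, mul_assoc x, hy, mul_one]
  have hn := orderOf_pos d
  rcases Nat.even_or_odd (orderOf d) with ⟨m, hm⟩ | ⟨m, hm⟩
  · set w := d ^ m with hw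
    have hw2 : w * w = 1 := by rw [hw, ← pow_add, ← hm, pow_orderOf_eq_one]
    have hwi : w⁻¹ = w := inv_eq_of_mul_eq_one_right hw2
    have hcomm : ∀ a : G, a * a = 1 → a * d * a = d⁻¹ → Commute w a := by
      intro a ha h
      have h1 := (conj_pow (i := m) (a := a) (b := d)).symm
      rw [inv_eq_of_mul_eq_one_right ha, h, inv_pow, ← hw, hwi] at h1
      calc w * a = a * w * a * a := by rw [h1]
        _ = a * w := by rw [mul_assoc, ha, mul_one]
    refine ⟨w, pow_mem hdK m, fun e => ?_, hcomm x hx hdx, hcomm y hy hdy, ?_⟩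
    · have h1 := Nat.le_of_dvd (by omega) (orderOf_dvd_of_pow_eq_one (e : d ^ m = 1))
      omega
    · rcases Nat.even_or_odd m with ⟨j, hj⟩ | ⟨j, hj⟩
      · refine ⟨d ^ j, pow_mem hdK j, Or.inl ?_⟩
        rw [conj_pow_invert hx hdx j, ← (hcomm x hx hdx).eq, hw, hj, two_mul]
      · refine ⟨d ^ (j + 1), pow_mem hdK _, Or.inr ?_⟩
        rw [conj_pow_invert hy hdy, ← (hcomm x hx hdx).eq, hw, hj, show 2 * (j + 1) = (2 * j + 1) + 1 by ring,
          pow_succ d (2 * j + 1), mul_assoc (d ^ (2 * j + 1)), show d * y = x by rw [hd, mul_assoc, hy, mul_one]]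
  · refine absurd ?_ (hne (d ^ (m + 1)) (pow_mem hdK _))
    rw [conj_pow_invert hy hdy, show 2 * (m + 1) = orderOf d + 1 by omega, pow_succ, pow_orderOf_eq_one, one_mul, hd,
      mul_assoc, hy, mul_one]

/-- a permutation keeps a pair -/
def InvPair {β : Type*} (σ : Equiv.Perm β) (c d : β) : Prop :=
  (σ c = c ∨ σ c = d) ∧ (σ d = c ∨ σ d = d)

/-- nontrivial involutions sharing their invariant pairs coincide -/
theorem same_of_pairs {β : Type*} [Fintype β] (hcard : 7 ≤ Fintype.card β) {F : Set (Equiv.Perm β)}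
    (hmul : ∀ σ ∈ F, ∀ τ ∈ F, σ * τ ∈ F) (hsq : ∀ σ ∈ F, σ * σ = 1)
    (hpair : ∀ σ ∈ F, σ ≠ 1 → ∀ τ ∈ F, ∀ c d, c ≠ d → InvPair σ c d → InvPair τ c d)
    {σ τ : Equiv.Perm β} (hσ : σ ∈ F) (hσ1 : σ ≠ 1) (hτ : τ ∈ F) (hτ1 : τ ≠ 1) : σ = τ := by
  classical
  have key : ∀ {σ τ : Equiv.Perm β}, σ ∈ F → σ ≠ 1 → τ ∈ F → τ ≠ 1 → ∀ c, σ c ≠ c → τ c = σ c := by
    intro σ τ hσ hσ1 hτ hτ1 c hc
    by_contra hne
    have hσσ : ∀ v, σ (σ v) = v := fun v => Equiv.congr_fun (hsq σ hσ) v
    obtain ⟨hτc, hτd⟩ := hpair σ hσ hσ1 τ hτ c (σ c) (Ne.symm hc) ⟨Or.inr rfl, Or.inl (hσσ c)⟩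
    have hτc' : τ c = c := hτc.resolve_right hne
    have hτd' : τ (σ c) = σ c := hτd.resolve_left fun e => hc (τ.injective (e.trans hτc'.symm))
    have hfix : ∀ e, τ e = e → e = c ∨ e = σ c := fun e he => by
      by_contra h
      rw [not_or] at h
      rcases (hpair τ hτ hτ1 σ hσ c e (Ne.symm h.1) ⟨Or.inl hτc', Or.inr he⟩).1 with h1 | h1
      · exact hc h1
      · exact h.2 h1.symm
    -- three fixed points of an element push down to the second one
    have three : ∀ π ∈ F, π ≠ 1 → ∀ ρ ∈ F, ∀ e e' e'', e ≠ e' → e ≠ e'' → e' ≠ e'' →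
        π e = e → π e' = e' → π e'' = e'' → ρ e = e := by
      intro π hπ hπ1 ρ hρ e e' e'' h h' h'' he he' he''
      rcases (hpair π hπ hπ1 ρ hρ e e' h ⟨Or.inl he, Or.inr he'⟩).1 with h1 | h1
      · exact h1
      · rcases (hpair π hπ hπ1 ρ hρ e e'' h' ⟨Or.inl he, Or.inr he''⟩).1 with h2 | h2
        · exact h2
        · exact absurd (h1.symm.trans h2) h''
    have small : ∀ π ∈ F, π ≠ 1 → (Finset.univ.filter fun e => π e = e).card ≤ 2 := by
      intro π hπ hπ1
      by_contra hlt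
      rw [not_le, Finset.two_lt_card_iff] at hlt
      obtain ⟨e, e', e'', he, he', he'', h, h', h''⟩ := hlt
      simp only [Finset.mem_filter, Finset.mem_univ, true_and] at he he' he''
      have hσe : σ e = e := three π hπ hπ1 σ hσ e e' e'' h h' h'' he he' he''
      rcases hfix e (three π hπ hπ1 τ hτ e e' e'' h h' h'' he he' he'') with rfl | rfl
      · exact hc hσe
      · rw [hσσ] at hσe; exact hc hσe.symm
    set q := σ * τ
    have hq1 : q ≠ 1 := fun e => hc (by
      have h := Equiv.congr_fun e c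
      rwa [show q c = σ (τ c) from rfl, hτc'] at h)
    have hcover : (Finset.univ : Finset β) ⊆ ({c, σ c} : Finset β) ∪ (Finset.univ.filter fun e => σ e = e) ∪
        (Finset.univ.filter fun e => q e = e) := by
      intro e _
      simp only [Finset.mem_union, Finset.mem_insert, Finset.mem_singleton, Finset.mem_filter, Finset.mem_univ,
        true_and]
      by_cases he : τ e = e
      · exact Or.inl (Or.inl (hfix e he))
      have hττ : τ (τ e) = e := Equiv.congr_fun (hsq τ hτ) e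
      rcases (hpair τ hτ hτ1 σ hσ e (τ e) (Ne.symm he) ⟨Or.inr rfl, Or.inl hττ⟩).1 with h1 | h1
      · exact Or.inl (Or.inr h1)
      · exact Or.inr (show σ (τ e) = e by rw [← h1, hσσ])
    have h1 := Finset.card_le_card hcover
    have h2 := Finset.card_union_le (({c, σ c} : Finset β) ∪ (Finset.univ.filter fun e => σ e = e))
      (Finset.univ.filter fun e => q e = e)
    have h3 := Finset.card_union_le ({c, σ c} : Finset β) (Finset.univ.filter fun e => σ e = e)
    have h4 : ({c, σ c} : Finset β).card ≤ 2 := Finset.card_le_two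
    have h5 := small σ hσ hσ1
    have h6 := small q (hmul σ hσ τ hτ) hq1
    rw [Finset.card_univ] at h1
    omega
  refine Equiv.ext fun c => ?_
  by_cases hc : σ c = c
  · by_cases hd : τ c = c
    · rw [hc, hd]
    · exact key hτ hτ1 hσ hσ1 c hd
  · exact (key hσ hσ1 hτ hτ1 c hc).symm

end Cfsg.Agent.Spor.JFour
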