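import Cfsg.Agent.Lib.Spor.JFourElemDefs

/-!
The checks on elementary subgroups of order 16.
-/

set_option autoImplicit false
set_option maxRecDepth 100000

namespace Cfsg.Agent.Spor.JFour.Chk

open Cfsg.Agent.Spor.CC Dat

theorem tab_ok : rangeOK tabAll 0 71 = true := by decide +kernel

theorem es_ok : esOK = true := by decide +kernel

theorem perp_ok : rangeOK perpAll 0 4096 = true := by decide +kernel

theorem four_ok : rangeOK fourOK 0 71 = true := by decide +kernel

end Cfsg.Agent.Spor.JFour.Chk
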