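import Cfsg.Agent.Lib.Spor.JFourSylow
import Cfsg.Agent.Lib.Spor.JFourElemChecks

/-!
Elementary subgroups of order 16 of the Sylow subgroup: all but one have at most eight common fixed vectors, and the
fixed vectors of the exceptional one form a totally isotropic space of 64 vectors equal to its perpendicular.
-/

set_option autoImplicit false
set_option maxRecDepth 100000

namespace Cfsg.Agent.Spor.JFour

open Cfsg.Agent.Spor.SUSix (V6 code code_lt vecOf_code)
open Cfsg.Agent.Spor.SpFour (F4)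
open Cfsg.Agent.Small.Unitary (herm)
open Cfsg.Agent.Spor.CC

attribute [local instance] Classical.propDecidable

attribute [local irreducible] wd gP Gam Kp Chk.app

/-! ### few bits -/

theorem land_pred_lowest : ∀ m : ℕ, m ≠ 0 → ∃ j, ∀ v, m.testBit v = true → v = j ∨ (Chk.clr m).testBit v = true := by
  intro m
  induction m using Nat.strong_induction_on with
  | _ m ih =>
    intro hm
    show ∃ j, ∀ v, _ → v = j ∨ (m &&& (m - 1)).testBit v = true
    rcases Nat.mod_two_eq_zero_or_one m with h | h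
    · obtain ⟨j, hj⟩ := ih (m / 2) (by omega) (by omega)
      refine ⟨j + 1, fun v hv => ?_⟩
      rcases v with _ | v
      · rw [Nat.testBit_zero, h] at hv; simp at hv
      · rw [Nat.testBit_succ] at hv
        rcases hj v hv with e | e
        · exact Or.inl (by rw [e])
        · refine Or.inr ?_
          have e' : (m / 2 &&& (m / 2 - 1)).testBit v = true := e
          rw [Nat.testBit_and, Bool.and_eq_true] at e' ⊢
          rw [Nat.testBit_succ, Nat.testBit_succ, show (m - 1) / 2 = m / 2 - 1 by omega]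
          exact e'
    · refine ⟨0, fun v hv => ?_⟩
      rcases v with _ | v
      · exact Or.inl rfl
      · refine Or.inr ?_
        rw [Nat.testBit_and, Bool.and_eq_true, hv, Nat.testBit_succ, show (m - 1) / 2 = m / 2 by omega,
          ← Nat.testBit_succ, hv]
        exact ⟨rfl, rfl⟩

theorem clr_bound {m n : ℕ} (h : {v : ℕ | (Chk.clr m).testBit v = true}.Finite ∧
    {v : ℕ | (Chk.clr m).testBit v = true}.ncard ≤ n) :
    {v : ℕ | m.testBit v = true}.Finite ∧ {v : ℕ | m.testBit v = true}.ncard ≤ n + 1 := by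
  rcases eq_or_ne m 0 with rfl | hm
  · simp
  obtain ⟨j, hj⟩ := land_pred_lowest m hm
  have hsub : {v : ℕ | m.testBit v = true} ⊆ insert j {v : ℕ | (Chk.clr m).testBit v = true} := fun v hv => hj v hv
  exact ⟨(h.1.insert j).subset hsub,
    ((Set.ncard_le_ncard hsub (h.1.insert j)).trans (Set.ncard_insert_le _ _)).trans (by omega)⟩

theorem few_spec {m : ℕ} (h : Chk.few m = true) :
    {v : ℕ | m.testBit v = true}.Finite ∧ {v : ℕ | m.testBit v = true}.ncard ≤ 8 := by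
  refine clr_bound (clr_bound (clr_bound (clr_bound (clr_bound (clr_bound (clr_bound (clr_bound (n := 0) ?_)))))))
  rw [Nat.eq_of_beq_eq_true h]
  simp

theorem tb_testBit (m j : ℕ) : Chk.tb m j = m.testBit j := by
  show Nat.beq ((m >>> j) &&& 1) 1 = _
  rw [Nat.and_comm, Nat.testBit]
  rcases (by omega : 1 &&& m >>> j = 0 ∨ 1 &&& m >>> j = 1 ∨ 2 ≤ 1 &&& m >>> j) with e | e | e
  · rw [e]; rfl
  · rw [e]; rfl
  · exact absurd (Nat.and_le_left : 1 &&& m >>> j ≤ 1) (by omega)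

/-! ### the table of involutions -/

theorem inI_facts : (∀ a < 71, Dat.sylI.getD a 0 < 256 ∧ Dat.sylI.getD a 0 ≠ 0 ∧
    ∀ b < a, Dat.sylI.getD a 0 ≠ Dat.sylI.getD b 0) ∧ Dat.sylI.length = 71 := by
  have h := Chk.es_ok
  simp only [Chk.esOK, Bool.and_eq_true, List.all_eq_true, List.mem_range, Bool.not_eq_true'] at h
  obtain ⟨⟨⟨⟨⟨⟨⟨⟨⟨⟨h0, -⟩, h1⟩, -⟩, -⟩, -⟩, -⟩, -⟩, -⟩, -⟩, -⟩ := h
  refine ⟨fun a ha => ?_, Nat.eq_of_beq_eq_true h0⟩
  obtain ⟨⟨e1, e2⟩, e3⟩ := h1 a ha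
  exact ⟨Nat.le_of_ble_eq_true e1, fun e => by rw [e] at e2; exact absurd e2 (by decide),
    fun b hb e => by have := e3 b hb; rw [e, Nat.beq_refl] at this; exact absurd this (by decide)⟩

theorem inI_inj {a b : ℕ} (ha : a < 71) (hb : b < 71) (h : Chk.inI a = Chk.inI b) : a = b := by
  have hd := Chk.distinct_ok
  simp only [Chk.distinctOK, List.all_eq_true, List.mem_range, Bool.not_eq_true', ← Bool.not_eq_true, leq_iff] at hd
  obtain ⟨hI, -⟩ := inI_facts
  have e : Dat.sylI.getD a 0 = Dat.sylI.getD b 0 := by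
    rcases lt_trichotomy (Dat.sylI.getD a 0) (Dat.sylI.getD b 0) with h' | h' | h'
    · exact absurd h.symm (hd _ (hI b hb).1 _ h')
    · exact h'
    · exact absurd h (hd _ (hI a ha).1 _ h')
  rcases lt_trichotomy a b with h' | h' | h'
  · exact absurd e.symm ((hI b hb).2.2 a h')
  · exact h'
  · exact absurd e ((hI a ha).2.2 b h')

theorem inv_index {p : PV} (hp : p ∈ TS) (h2 : p * p = 1) (h1 : p ≠ 1) : ∃ a < 71, cols p = Chk.inI a := by
  have ha := Gam_addP (TS_le hp)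
  obtain ⟨i, hi, e⟩ := TS_list hp
  have hI := Chk.invList_ok
  simp only [Chk.invListOK, List.all_eq_true, List.mem_range, Bool.or_eq_true, Bool.not_eq_true', ← Bool.not_eq_true,
    leq_iff] at hI
  rcases hI i hi with (h | h) | h
  · exact absurd (by rw [← e, ← cols_mul ha, h2, cols_one]) h
  · refine absurd (eq_of_cols ha AddP.one ?_) h1
    rw [e, Nat.eq_of_beq_eq_true h, cols_one]
    have h' := Chk.reach_ok
    simp only [Chk.reachOK, Bool.and_eq_true, leq_iff] at h'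
    exact h'.1.2
  · obtain ⟨x, hx, hxi⟩ := List.any_eq_true.1 h
    obtain ⟨a, ha', rfl⟩ := List.getElem_of_mem hx
    refine ⟨a, inI_facts.2 ▸ ha', ?_⟩
    rw [e, Nat.eq_of_beq_eq_true hxi, Chk.inI, List.getD_eq_getElem _ 0 ha']

theorem inI_mem {a : ℕ} (ha : a < 71) : ∃ p ∈ TS, cols p = Chk.inI a :=
  TS_reach _ (inI_facts.1 a ha).1

theorem tab_mul {p q : PV} (hp : p ∈ TS) {a b : ℕ} (ha : a < 71) (hb : b < 71) (hpa : cols p = Chk.inI a)
    (hq : q ∈ TS) (hqb : cols q = Chk.inI b) (hc : Commute p q) :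
    Chk.adj a b = true ∧ (a ≠ b → Chk.prI a b < 71 ∧ cols (p * q) = Chk.inI (Chk.prI a b)) := by
  have h := all_range (p := Chk.tabAll) Chk.tab_ok (Nat.zero_le _) (u := a) (by omega)
  simp only [Chk.tabAll, Bool.and_eq_true, List.all_eq_true, List.mem_range, Bool.or_eq_true, Bool.not_eq_true',
    ← Bool.not_eq_true, leq_iff] at h
  have hpp := Gam_addP (TS_le hp)
  have hqq := Gam_addP (TS_le hq)
  rcases h.1 b hb with e | ⟨e, e'⟩
  · exact absurd (by rw [← hpa, ← hqb, ← cols_mul hpp, ← cols_mul hqq, hc.eq]) e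
  · refine ⟨e, fun hne => ?_⟩
    obtain ⟨e1, e2⟩ := e'.resolve_left fun h => hne (Nat.eq_of_beq_eq_true h)
    exact ⟨Nat.le_of_ble_eq_true e1, by rw [cols_mul hpp, hpa, hqb, e2]⟩

theorem fix_bit {p : PV} (hM : Mdl) (hp : p ∈ TS) (h2 : p * p = 1) (h1 : p ≠ 1) {a : ℕ} (ha : a < 71)
    (hpa : cols p = Chk.inI a) {v : V6} (hv : p v = v) : (Dat.elFix.getD a 0).testBit (code v) = true := by
  have hG := TS_le hp
  have hpp := Gam_addP hG
  have hfix := all_range (p := Chk.fixAll) Chk.fix_ok (Nat.zero_le _) (u := a) (by rw [inI_facts.2]; omega)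
  have hI : Chk.sylE (Dat.sylI.getD a 0) = Chk.inI a := rfl
  simp only [Chk.fixAll, Chk.fixOK, Bool.and_eq_true, List.all_eq_true, hI, ← hpa] at hfix
  obtain ⟨⟨⟨⟨⟨⟨⟨⟨hN, hfb⟩, -⟩, -⟩, -⟩, -⟩, -⟩, -⟩, -⟩ := hfix
  have hlin : Chk.linL (cols p) = decide (p ∈ Kp) := by
    rw [Bool.eq_iff_iff, decide_eq_true_iff, ← comm_gW_iff hG, Chk.linL, leq_iff]
    have hW : AddP gW := (gP_spec 3).1
    rw [← show cols gW = Chk.cW from (gP_spec 3).2.1, ← cols_mul hpp, ← cols_mul hW]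
    exact ⟨fun e => eq_of_cols (hpp.mul hW) (hW.mul hpp) e, fun e => by rw [e.eq]⟩
  have hlt : ∀ k ∈ Dat.sylF.getD a [], k < 4096 ∧ SUSix.vecOf k ∈ Fx p := fun k hk => by
    obtain ⟨e1, e2⟩ := hfb k hk
    have hk' : k < 4096 := Nat.le_of_ble_eq_true e1
    exact ⟨hk', code_inj (by rw [app_cols hpp, code_vecOf k hk']; exact Nat.eq_of_beq_eq_true e2)⟩
  have hF0 : (0 : V6) ∈ Fx p := hpp.map_zero
  have hFadd : ∀ u ∈ Fx p, ∀ v ∈ Fx p, u + v ∈ Fx p := fun u hu v hv => by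
    show p (u + v) = u + v
    rw [hpp, show p u = u from hu, show p v = v from hv]
  obtain ⟨-, -, hiff⟩ := ncard_span_le hF0 hFadd hlt
  have hc := (invol_facts hM hG h2 h1).fix_card
  have hmem := (hiff (by
    rw [hc, Nat.eq_of_beq_eq_true hN, Chk.fixN, hlin]
    by_cases h : p ∈ Kp <;> simp [h]) v).1 hv
  have h := all_range (p := Chk.tabAll) Chk.tab_ok (Nat.zero_le _) (u := a) (by omega)
  simp only [Chk.tabAll, Bool.and_eq_true, List.all_eq_true] at h
  rw [← tb_testBit]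
  exact h.2 _ hmem

/-! ### the chosen subgroup -/

/-- elements of the chosen subgroup -/
def ESset : Set PV := {p | p ∈ TS ∧ (p = 1 ∨ ∃ a ∈ Dat.esI, cols p = Chk.inI a)}

theorem es_facts : (∀ a < 71, Chk.tb Dat.esBits a = Dat.esI.any (Nat.beq a)) ∧ Dat.esI.length = 15 ∧
    ∀ a ∈ Dat.esI, a < 71 ∧ Chk.linL (Chk.inI a) = true ∧ ∀ b ∈ Dat.esI,
      Chk.cmul (Chk.inI a) (Chk.inI b) = Chk.cmul (Chk.inI b) (Chk.inI a) ∧ (a = b ∨ Chk.prI a b ∈ Dat.esI) := by
  have h := Chk.es_ok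
  simp only [Chk.esOK, Bool.and_eq_true, List.all_eq_true, List.mem_range, Bool.or_eq_true, leq_iff, beq_iff_eq] at h
  obtain ⟨⟨⟨⟨⟨⟨⟨⟨⟨⟨-, h0⟩, -⟩, h1⟩, h2⟩, -⟩, -⟩, -⟩, -⟩, -⟩, -⟩ := h
  refine ⟨h1, Nat.eq_of_beq_eq_true h0, fun a ha => ?_⟩
  obtain ⟨⟨e1, e2⟩, e3⟩ := h2 a ha
  refine ⟨Nat.le_of_ble_eq_true e1, e2, fun b hb => ?_⟩
  obtain ⟨c1, c2⟩ := e3 b hb
  refine ⟨c1, c2.imp Nat.eq_of_beq_eq_true fun h => ?_⟩
  obtain ⟨x, hx, hxe⟩ := List.any_eq_true.1 h
  exact (Nat.eq_of_beq_eq_true hxe) ▸ hx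

theorem inI_sq {p : PV} (hp : p ∈ TS) {a : ℕ} (ha : a < 71) (hpa : cols p = Chk.inI a) : p * p = 1 ∧ p ≠ 1 := by
  have hpp := Gam_addP (TS_le hp)
  have key : ∀ a < 71, Chk.leq (Chk.cmul (Chk.inI a) (Chk.inI a)) Chk.idL = true := by decide +kernel
  refine ⟨eq_of_cols (hpp.mul hpp) AddP.one (by rw [cols_mul hpp, hpa, cols_one, ← leq_iff]; exact key a ha), ?_⟩
  rintro rfl
  rw [cols_one] at hpa
  have h := Chk.reach_ok
  simp only [Chk.reachOK, Bool.and_eq_true, leq_iff] at h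
  have h0 : Chk.sylE 0 = Chk.sylE (Dat.sylI.getD a 0) := h.1.2.trans hpa
  have hd := Chk.distinct_ok
  simp only [Chk.distinctOK, List.all_eq_true, List.mem_range, Bool.not_eq_true', ← Bool.not_eq_true, leq_iff] at hd
  exact hd _ (inI_facts.1 a ha).1 0 (Nat.pos_of_ne_zero (inI_facts.1 a ha).2.1) h0.symm

theorem ES_comm {p q : PV} (hp : p ∈ ESset) (hq : q ∈ ESset) : Commute p q := by
  obtain ⟨hp, rfl | ⟨a, ha, ea⟩⟩ := hp
  · exact Commute.one_left q
  obtain ⟨hq, rfl | ⟨b, hb, eb⟩⟩ := hq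
  · exact Commute.one_right p
  have hpp := Gam_addP (TS_le hp)
  have hqq := Gam_addP (TS_le hq)
  refine eq_of_cols (hpp.mul hqq) (hqq.mul hpp) ?_
  rw [cols_mul hpp, cols_mul hqq, ea, eb]
  exact ((es_facts.2.2 a ha).2.2 b hb).1

theorem ES_sq {p : PV} (hp : p ∈ ESset) : p * p = 1 := by
  obtain ⟨hp, rfl | ⟨a, ha, ea⟩⟩ := hp
  · exact one_mul 1
  · exact (inI_sq hp (es_facts.2.2 a ha).1 ea).1

/-- the chosen subgroup -/
def ES : Subgroup PV where
  carrier := ESset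
  one_mem' := ⟨one_mem _, Or.inl rfl⟩
  inv_mem' {p} hp := by rwa [inv_eq_of_mul_eq_one_right (ES_sq hp)]
  mul_mem' {p q} hp hq := by
    have hc := ES_comm hp hq
    obtain ⟨hpT, rfl | ⟨a, ha, ea⟩⟩ := hp
    · rwa [one_mul]
    obtain ⟨hqT, rfl | ⟨b, hb, eb⟩⟩ := hq
    · rw [mul_one]; exact ⟨hpT, Or.inr ⟨a, ha, ea⟩⟩
    refine ⟨mul_mem hpT hqT, ?_⟩
    have ha' := (es_facts.2.2 a ha).1
    rcases ((es_facts.2.2 a ha).2.2 b hb).2 with rfl | h
    · refine Or.inl ?_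
      rw [eq_of_cols (Gam_addP (TS_le hqT)) (Gam_addP (TS_le hpT)) (eb.trans ea.symm)]
      exact (inI_sq hpT ha' ea).1
    · by_cases hab : a = b
      · subst hab
        refine Or.inl ?_
        rw [eq_of_cols (Gam_addP (TS_le hqT)) (Gam_addP (TS_le hpT)) (eb.trans ea.symm)]
        exact (inI_sq hpT ha' ea).1
      · exact Or.inr ⟨_, h, ((tab_mul hpT ha' (es_facts.2.2 b hb).1 ea hqT eb hc).2 hab).2⟩

theorem ES_le : ES ≤ TS := fun _ h => h.1

theorem ES_Kp : ES ≤ Kp := by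
  rintro p ⟨hp, rfl | ⟨a, ha, ea⟩⟩
  · exact one_mem _
  rw [← comm_gW_iff (TS_le hp)]
  have hpp := Gam_addP (TS_le hp)
  have hW : AddP gW := (gP_spec 3).1
  refine eq_of_cols (hpp.mul hW) (hW.mul hpp) ?_
  rw [cols_mul hpp, cols_mul hW, show cols gW = Chk.cW from (gP_spec 3).2.1, ea]
  have := (es_facts.2.2 a ha).2.1
  rwa [Chk.linL, leq_iff] at this

theorem ES_real {a : ℕ} (ha : a ∈ Dat.esI) : ∃ p ∈ ES, cols p = Chk.inI a := by
  obtain ⟨p, hp, e⟩ := inI_mem (es_facts.2.2 a ha).1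
  exact ⟨p, ⟨hp, Or.inr ⟨a, ha, e⟩⟩, e⟩

theorem card_ES : Nat.card ES = 16 := by
  classical
  have hnd : Dat.esI.Nodup := by decide +kernel
  have hex : ∀ a : {a // a ∈ Dat.esI}, ∃ p ∈ ES, cols p = Chk.inI a := fun a => ES_real a.2
  choose P hP hPc using hex
  refine (Nat.card_eq_of_bijective (fun o : Option {a // a ∈ Dat.esI} =>
    (o.elim 1 fun a => ⟨P a, hP a⟩ : ES)) ⟨?_, ?_⟩).symm.trans ?_
  · rintro (_ | a) (_ | b) e
    · rfl
    · exact absurd (congrArg Subtype.val e).symm (inI_sq (ES_le (hP b)) (es_facts.2.2 b b.2).1 (hPc b)).2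
    · exact absurd (congrArg Subtype.val e) (inI_sq (ES_le (hP a)) (es_facts.2.2 a a.2).1 (hPc a)).2
    · have e' : P a = P b := congrArg Subtype.val e
      exact congrArg some (Subtype.ext (inI_inj (es_facts.2.2 a a.2).1 (es_facts.2.2 b b.2).1
        (by rw [← hPc a, ← hPc b, e'])))
  · rintro ⟨p, hp, rfl | ⟨a, ha, ea⟩⟩
    · exact ⟨none, rfl⟩
    · exact ⟨some ⟨a, ha⟩, Subtype.ext (eq_of_cols (Gam_addP (TS_le (ES_le (hP ⟨a, ha⟩)))) (Gam_addP (TS_le hp))
        ((hPc ⟨a, ha⟩).trans ea.symm))⟩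
  · rw [Finite.card_option, Nat.card_congr (List.Nodup.getEquiv _ hnd).symm, Nat.card_fin, es_facts.2.1]

/-- common fixed vectors -/
def fixS (E : Subgroup PV) : Set V6 := {v | ∀ p ∈ E, p v = v}

/-- few common fixed vectors outside the chosen subgroup -/
theorem few_fixed (hM : Mdl) {E : Subgroup PV} (hT : E ≤ TS) (hc : ∀ p ∈ E, ∀ q ∈ E, Commute p q)
    (h2 : ∀ p ∈ E, p * p = 1) (h16 : 16 ≤ Nat.card E) (hne : E ≠ ES) : (fixS E).ncard ≤ 8 := by
  classical
  -- indices of the members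
  have hidx : ∀ p ∈ E, p ≠ 1 → ∃ a < 71, cols p = Chk.inI a := fun p hp h1 => inv_index (hT hp) (h2 p hp) h1
  let I : Set ℕ := {a | a < 71 ∧ ∃ p ∈ E, cols p = Chk.inI a}
  have hI15 : 15 ≤ I.ncard := by
    have hsub : (E : Set PV) \ {1} ⊆ {p | p ∈ E ∧ p ≠ 1} := fun p hp => ⟨hp.1, hp.2⟩
    have hcard : 15 ≤ ((E : Set PV) \ {1}).ncard := by
      rw [Set.ncard_sdiff_singleton_of_mem (one_mem E), ← Nat.card_coe_set_eq]
      exact Nat.le_sub_one_of_lt (by
        have : Nat.card ↥(E : Set PV) = Nat.card E := rfl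
        omega)
    choose F hF hFc using fun p : {p // p ∈ E ∧ p ≠ 1} => hidx p.1 p.2.1 p.2.2
    refine hcard.trans (le_trans (le_of_eq ?_) (Set.ncard_le_ncard (s := Set.range F) ?_ ((Set.finite_lt_nat 71).subset fun a ha => ha.1)))
    · rw [← Nat.card_coe_set_eq (Set.range F), ← Nat.card_coe_set_eq ((E : Set PV) \ {1}),
        Nat.card_range_of_injective (fun p q e => Subtype.ext (eq_of_cols (Gam_addP (TS_le (hT p.2.1)))
          (Gam_addP (TS_le (hT q.2.1))) (by rw [hFc p, hFc q, e])))]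
      exact Nat.card_congr (Equiv.subtypeEquivRight fun p => Iff.rfl)
    · rintro _ ⟨p, rfl⟩
      exact ⟨hF p, p.1, p.2.1, hFc p⟩
  have hmul : ∀ a ∈ I, ∀ b ∈ I, Chk.adj a b = true ∧ (a ≠ b → Chk.prI a b ∈ I) := by
    rintro a ⟨ha, p, hp, ea⟩ b ⟨hb, q, hq, eb⟩
    obtain ⟨e1, e2⟩ := tab_mul (hT hp) ha hb ea (hT hq) eb (hc p hp q hq)
    exact ⟨e1, fun h => ⟨(e2 h).1, p * q, mul_mem hp hq, (e2 h).2⟩⟩
  obtain ⟨a, haI, haS⟩ : ∃ a ∈ I, Chk.tb Dat.esBits a = false := by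
    by_contra hno
    push Not at hno
    refine hne (Subgroup.eq_of_le_of_card_ge (fun p hp => ?_) (card_ES ▸ h16))
    by_cases h1 : p = 1
    · rw [h1]; exact one_mem _
    obtain ⟨a, ha, e⟩ := hidx p hp h1
    have h' := hno a ⟨ha, p, hp, e⟩
    rw [Bool.ne_false_iff, es_facts.1 a ha] at h'
    obtain ⟨x, hx, hxe⟩ := List.any_eq_true.1 h'
    exact ⟨hT hp, Or.inr ⟨a, (Nat.eq_of_beq_eq_true hxe) ▸ hx, e⟩⟩
  have hex : ∀ T : Finset ℕ, T.card < 15 → ∃ b, b ∈ I ∧ b ∉ T := by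
    intro T hT'
    by_contra hno
    push Not at hno
    have := Set.ncard_le_ncard (show I ⊆ (T : Set ℕ) from fun b hb => hno b hb) T.finite_toSet
    rw [Set.ncard_coe_finset] at this
    omega
  have e1 := hex {a} (by simp)
  set b := Nat.find e1 with hb
  obtain ⟨hbI, hbT⟩ := Nat.find_spec e1
  have hab : a ≠ b := fun h => hbT (by rw [Finset.mem_singleton, ← hb]; exact h.symm)
  have e2 := hex {a, b, Chk.prI a b} (by have := Finset.card_le_three (a := a) (b := b) (c := Chk.prI a b); omega)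
  set c := Nat.find e2 with hcdef
  obtain ⟨hcI, hcT⟩ := Nat.find_spec e2
  rw [← hcdef] at hcI hcT
  simp only [Finset.mem_insert, Finset.mem_singleton, not_or] at hcT
  have hbc : b < c := lt_of_le_of_ne (hb ▸ Nat.find_min' e1 ⟨hcI, by simpa using hcT.1⟩) (Ne.symm hcT.2.1)
  set T3 : Finset ℕ := {a, b, c, Chk.prI a b, Chk.prI a c, Chk.prI b c, Chk.prI (Chk.prI a b) c} with hT3
  have e3 := hex T3 (by
    have h7 : T3.card ≤ [a, b, c, Chk.prI a b, Chk.prI a c, Chk.prI b c, Chk.prI (Chk.prI a b) c].toFinset.card :=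
      Finset.card_le_card fun x hx => by simpa [hT3] using hx
    exact lt_of_le_of_lt (h7.trans (List.toFinset_card_le _)) (by norm_num))
  set d := Nat.find e3 with hddef
  obtain ⟨hdI, hdT⟩ := Nat.find_spec e3
  rw [← hddef] at hdI hdT
  simp only [hT3, Finset.mem_insert, Finset.mem_singleton, not_or] at hdT
  have hcd : c < d := lt_of_le_of_ne (hcdef ▸ Nat.find_min' e2 ⟨hdI, by
    simp only [Finset.mem_insert, Finset.mem_singleton, not_or]
    exact ⟨hdT.1, hdT.2.1, hdT.2.2.2.1⟩⟩) (Ne.symm hdT.2.2.1)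
  have h := all_range (p := Chk.fourOK) Chk.four_ok (Nat.zero_le _) (u := a) (by have := haI.1; omega)
  simp only [Chk.fourOK, haS, Bool.false_or, List.all_eq_true, List.mem_range, Bool.or_eq_true, Bool.not_eq_true'] at h
  have hbb := (h b hbI.1).resolve_left (by
    rintro (e | e)
    · exact hab (Nat.eq_of_beq_eq_true e).symm
    · rw [(hmul a haI b hbI).1] at e; exact absurd e (by decide))
  have hcc := (hbb c hcI.1).resolve_left (by
    rintro (((e | e) | e) | e)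
    · exact absurd (Nat.le_of_ble_eq_true e) (by omega)
    · exact hcT.1 (Nat.eq_of_beq_eq_true e)
    · rw [(hmul a haI c hcI).1, (hmul b hbI c hcI).1] at e; exact absurd e (by decide)
    · exact hcT.2.2 (Nat.eq_of_beq_eq_true e))
  have hdd := (hcc d hdI.1).resolve_left fun e => absurd (Nat.le_of_ble_eq_true e) (by omega)
  simp only [Chk.dOK, (hmul a haI d hdI).1, (hmul b hbI d hdI).1, (hmul c hcI d hdI).1, Bool.and_self,
    Bool.not_true, Bool.false_or, Bool.or_eq_true] at hdd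
  have hfew := hdd.resolve_left (by
    rintro ((((e | e) | e) | e) | e)
    exacts [hdT.1 (Nat.eq_of_beq_eq_true e), hdT.2.2.2.1 (Nat.eq_of_beq_eq_true e),
      hdT.2.2.2.2.1 (Nat.eq_of_beq_eq_true e), hdT.2.2.2.2.2.1 (Nat.eq_of_beq_eq_true e),
      hdT.2.2.2.2.2.2 (Nat.eq_of_beq_eq_true e)])
  obtain ⟨hfin, h8⟩ := few_spec hfew
  refine le_trans ?_ h8
  have hbit : ∀ x ∈ I, ∀ v ∈ fixS E, (Dat.elFix.getD x 0).testBit (code v) = true := by
    rintro x ⟨hx, p, hp, e⟩ v hv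
    exact fix_bit hM (hT hp) (h2 p hp) (inI_sq (hT hp) hx e).2 hx e (hv p hp)
  refine le_trans (le_of_eq (Set.ncard_image_of_injective _ code_inj).symm)
    (Set.ncard_le_ncard ?_ hfin)
  rintro _ ⟨v, hv, rfl⟩
  show Nat.testBit (Nat.land (Nat.land _ _) (Nat.land _ _)) (code v) = true
  simp only [show ∀ m n : ℕ, Nat.land m n = m &&& n from fun _ _ => rfl]
  simp only [Nat.testBit_and, hbit a haI v hv, hbit b hbI v hv, hbit c hcI v hv, hbit d hdI v hv, Bool.and_self]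

/-- common fixed vectors of the chosen subgroup -/
def FS : Set V6 := fixS ES

theorem FS_facts : (∀ v, v ∈ FS ↔ code v ∈ Dat.fsL) ∧ FS.ncard = 64 ∧ (∀ v ∈ FS, herm v v = 0) ∧
    ∀ v, (∀ u ∈ FS, bv v u = 0) → v ∈ FS := by
  have h := Chk.es_ok
  simp only [Chk.esOK, Bool.and_eq_true, List.all_eq_true, leq_iff, Bool.not_eq_true'] at h
  obtain ⟨⟨⟨⟨⟨⟨-, hB⟩, hfil⟩, hfix⟩, hq⟩, hFB⟩, hlen⟩ := h
  have hiff : ∀ v, v ∈ FS ↔ code v ∈ Dat.fsL := by
    intro v
    constructor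
    · intro hv
      rw [← hfil, List.mem_filter, List.mem_range]
      refine ⟨code_lt v, List.all_eq_true.2 fun a ha => ?_⟩
      obtain ⟨x, hx, hxe⟩ := List.any_eq_true.1 (hB a ha)
      obtain ⟨p, hp, e⟩ := ES_real hx
      rw [Nat.eq_of_beq_eq_true hxe, ← e, ← app_cols (Gam_addP (TS_le (ES_le hp))), hv p hp]
      exact Nat.beq_refl _
    · intro hv p hp
      obtain ⟨hpT, rfl | ⟨a, ha, e⟩⟩ := hp
      · rfl
      · refine code_inj ?_
        rw [app_cols (Gam_addP (TS_le hpT)), e]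
        exact Nat.eq_of_beq_eq_true (hfix a ha _ hv)
  refine ⟨hiff, ?_, fun v hv => ?_, fun v hv => (hiff v).2 ?_⟩
  · rw [show FS = {v | Dat.fsL.contains (code v) = true} from Set.ext fun v => (hiff v).trans List.contains_iff.symm]
    exact count_code (fun k => Dat.fsL.contains k) (by decide +kernel)
  · rw [qb_spec, hq _ ((hiff v).1 hv)]; rfl
  · have hp := all_range (p := Chk.perpAll) Chk.perp_ok (Nat.zero_le _) (u := code v) (by have := code_lt v; omega)
    simp only [Chk.perpAll, Bool.or_eq_true, Bool.not_eq_true'] at hp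
    rcases hp with h0 | h0
    · exfalso
      rw [← Bool.not_eq_true, List.all_eq_true] at h0
      refine h0 fun u hu => ?_
      obtain ⟨x, hx, hxe⟩ := List.any_eq_true.1 (hFB u hu)
      rw [← Nat.eq_of_beq_eq_true hxe] at hx
      have hult : u < 4096 := (show ∀ u ∈ Dat.fsL, u < 4096 by decide +kernel) u hx
      have h1 := hv _ ((hiff _).2 (by rw [code_vecOf u hult]; exact hx))
      rw [bv_code, code_vecOf u hult] at h1
      cases hb : Chk.bb (code v) u
      · rfl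
      · rw [hb, if_pos rfl] at h1; exact absurd h1 (by decide)
    · obtain ⟨x, hx, hxe⟩ := List.any_eq_true.1 h0
      exact (Nat.eq_of_beq_eq_true hxe) ▸ hx

end Cfsg.Agent.Spor.JFour
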