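import Cfsg.Agent.Lib.Spor.JFourSylowDefs
import Cfsg.Agent.Lib.Spor.JFourElemData

/-!
Checkers for elementary subgroups of order 16 of the Sylow subgroup.
-/

set_option autoImplicit false
set_option maxRecDepth 100000

namespace Cfsg.Agent.Spor.JFour.Chk

open Cfsg.Agent.Spor.CC Dat

/-- an involution of the list -/
def inI (a : ℕ) : List ℕ := sylE (sylI.getD a 0)

/-- commuting -/
def adj (a b : ℕ) : Bool := tb (elAdj.getD a 0) b

/-- product -/
def prI (a b : ℕ) : ℕ := fld elPr 7 (Nat.add (Nat.mul a 71) b)

/-- the tables are right -/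
def tabAll (a : ℕ) : Bool :=
  ((List.range 71).all fun b =>
    !leq (cmul (inI a) (inI b)) (cmul (inI b) (inI a)) ||
      (adj a b && (Nat.beq a b || (Nat.blt (prI a b) 71 && leq (cmul (inI a) (inI b)) (inI (prI a b)))))) &&
    (spanL (sylF.getD a [])).all fun v => tb (elFix.getD a 0) v

/-- clear the lowest bit -/
def clr (m : ℕ) : ℕ := Nat.land m (Nat.sub m 1)

/-- at most eight bits -/
def few (m : ℕ) : Bool := Nat.beq (clr (clr (clr (clr (clr (clr (clr (clr m)))))))) 0

/-- a fourth member -/
def dOK (a b c d : ℕ) : Bool :=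
  !(adj a d && adj b d && adj c d) || Nat.beq d a || Nat.beq d (prI a b) || Nat.beq d (prI a c) ||
    Nat.beq d (prI b c) || Nat.beq d (prI (prI a b) c) ||
    few (Nat.land (Nat.land (elFix.getD a 0) (elFix.getD b 0)) (Nat.land (elFix.getD c 0) (elFix.getD d 0)))

/-- all choices after the first -/
def fourOK (a : ℕ) : Bool :=
  tb esBits a || (List.range 71).all fun b => Nat.beq b a || !adj a b ||
    (List.range 71).all fun c => Nat.ble c b || Nat.beq c a || !(adj a c && adj b c) || Nat.beq c (prI a b) ||
      (List.range 71).all fun d => Nat.ble d c || dOK a b c d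

/-- the chosen subgroup and its fixed vectors -/
def esOK : Bool :=
  Nat.beq sylI.length 71 && Nat.beq esI.length 15 &&
    ((List.range 71).all fun a => Nat.blt (sylI.getD a 0) 256 && !Nat.beq (sylI.getD a 0) 0 &&
      (List.range a).all fun b => !Nat.beq (sylI.getD a 0) (sylI.getD b 0)) &&
    ((List.range 71).all fun a => tb esBits a == esI.any (Nat.beq a)) &&
    (esI.all fun a => Nat.blt a 71 && linL (inI a) && esI.all fun b =>
      leq (cmul (inI a) (inI b)) (cmul (inI b) (inI a)) &&
        (Nat.beq a b || esI.any (Nat.beq (prI a b)))) &&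
    (esB.all fun a => esI.any (Nat.beq a)) &&
    leq ((List.range 4096).filter fun v => esB.all fun a => Nat.beq (app (inI a) v) v) fsL &&
    (esI.all fun a => fsL.all fun v => Nat.beq (app (inI a) v) v) &&
    (fsL.all fun v => !qb v) && (fsB.all fun v => fsL.any (Nat.beq v)) && Nat.beq fsL.length 64

/-- nothing else is perpendicular -/
def perpAll (v : ℕ) : Bool := !(fsB.all fun u => !bb v u) || fsL.any (Nat.beq v)

end Cfsg.Agent.Spor.JFour.Chk
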