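import Cfsg.Agent.Lib.Spor.JFourMaxElem

/-!
Janko four type: the elementary abelian subgroups of order 2^11 form one class, one in each Sylow 2-subgroup.
-/

set_option autoImplicit false
set_option maxRecDepth 100000
set_option linter.unusedSectionVars false

namespace Cfsg.Agent.Spor.JFour

attribute [local irreducible] Gam Kp Chk.app

universe u

variable {G : Type u} [Group G] [Finite G] {z : G} {Q N : Subgroup G} {x : G}

/-- images of elementary abelian subgroups -/
theorem elem_map {H K : Type u} [Group H] [Group K] (φ : H →* K) {B : Subgroup H}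
    (hB : Cfsg.IsElementaryAbelian 2 B) : Cfsg.IsElementaryAbelian 2 (B.map φ) := by
  refine ⟨⟨⟨fun a b => Subtype.ext ?_⟩⟩, ?_⟩
  · obtain ⟨a', ha', ea⟩ := a.2
    obtain ⟨b', hb', eb⟩ := b.2
    show (a : K) * b = b * a
    rw [← ea, ← eb, ← map_mul, ← map_mul]
    exact congrArg φ (congrArg Subtype.val (hB.1.is_comm.comm (⟨a', ha'⟩ : B) ⟨b', hb'⟩))
  · rintro _ ⟨a', ha', rfl⟩
    rw [← map_pow, hB.2 a' ha', map_one]

theorem elem_comap {H K : Type u} [Group H] [Group K] {φ : H →* K} (hi : Function.Injective φ) {B : Subgroup K}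
    (hB : Cfsg.IsElementaryAbelian 2 B) : Cfsg.IsElementaryAbelian 2 (B.comap φ) := by
  refine ⟨⟨⟨fun a b => Subtype.ext (hi ?_)⟩⟩, fun a ha => hi ?_⟩
  · show φ ((a : H) * b) = φ ((b : H) * a)
    rw [map_mul, map_mul]
    exact congrArg Subtype.val (hB.1.is_comm.comm (⟨φ a, a.2⟩ : B) ⟨φ b, b.2⟩)
  · rw [map_pow, map_one]
    exact hB.2 _ ha

variable (S : Big z Q N x) (f : Frame z Q x)
include S f

/-- a Sylow subgroup of the centraliser is one of the group -/
theorem Big.sylow_top (TC : Sylow 2 ↥(Subgroup.centralizer ({z} : Set G))) :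
    ∃ P : Sylow 2 G, (P : Subgroup G) =
      (TC : Subgroup (Subgroup.centralizer ({z} : Set G))).map (Subgroup.centralizer ({z} : Set G)).subtype := by
  haveI : Fact (Nat.Prime 2) := ⟨Nat.prime_two⟩
  set sub := (Subgroup.centralizer ({z} : Set G)).subtype with hsub
  set TG := (TC : Subgroup (Subgroup.centralizer ({z} : Set G))).map sub with hTG
  obtain ⟨P, hP⟩ := (IsPGroup.map TC.isPGroup' sub).exists_le_sylow
  refine ⟨P, le_antisymm ?_ hP⟩
  by_contra hne
  set W := TG.subgroupOf (P : Subgroup G) with hW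
  haveI := P.isPGroup'.isNilpotent
  have hlt : W < Subgroup.normalizer (W : Set (P : Subgroup G)) :=
    Group.normalizerCondition_of_isNilpotent W (lt_top_iff_ne_top.2 fun e => hne (Subgroup.subgroupOf_eq_top.1 e))
  obtain ⟨y, hy, hyW⟩ := SetLike.exists_of_lt hlt
  -- the extraspecial subgroup lies in every Sylow subgroup
  have hQT : ∀ q ∈ Q, q ∈ TG := by
    intro q hq
    have hker : IsPGroup 2 f.π.ker := by
      refine IsPGroup.of_card (n := 13) ?_
      rw [← S.base.ord.cardQ]
      refine Nat.card_congr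
        { toFun := fun c => ⟨((c.1 : Subgroup.centralizer ({z} : Set G)) : G), (f.ker _).1 (MonoidHom.mem_ker.1 c.2)⟩
          invFun := fun q => ⟨⟨q.1, S.base.mem_C q.2⟩, MonoidHom.mem_ker.2 ((f.ker ⟨q.1, S.base.mem_C q.2⟩).2 q.2)⟩
          left_inv := fun _ => rfl
          right_inv := fun _ => rfl }
    have hsup : (TC : Subgroup (Subgroup.centralizer ({z} : Set G))) ⊔ f.π.ker = TC :=
      TC.is_maximal' (TC.isPGroup'.to_sup_of_normal_right hker) le_sup_left
    exact ⟨⟨q, S.base.mem_C hq⟩, hsup.le (Subgroup.mem_sup_right ((f.ker ⟨q, S.base.mem_C hq⟩).2 hq)), rfl⟩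
  have hzT : z ∈ TG := hQT z S.base.ord.xt.mem
  have hmem : (y : G) * z * (y : G)⁻¹ ∈ TG := by
    have := (Subgroup.mem_normalizer_iff.1 hy ⟨z, hP hzT⟩).1 hzT
    exact this
  obtain ⟨c, hcT, hce⟩ := hmem
  have hc2 : ∀ q ∈ Q, Commute (c : G) q := by
    intro q hq
    have h1 : (y : G)⁻¹ * q * (y : G) ∈ TG := by
      have := (Subgroup.mem_normalizer_iff''.1 hy ⟨q, hP (hQT q hq)⟩).1 (hQT q hq)
      exact this
    obtain ⟨d, -, hde⟩ := h1
    have h2 : Commute z ((y : G)⁻¹ * q * (y : G)) :=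
      hde ▸ (Subgroup.mem_centralizer_singleton_iff.1 d.2 : Commute (d : G) z).symm
    have h3 := (Commute.conj_iff (y : G)).2 h2
    rw [show (c : G) = (y : G) * z * (y : G)⁻¹ from hce]
    simpa [mul_assoc] using h3
  have hcQ : (c : G) ∈ Q := by
    refine (f.ker c).1 (Equiv.ext fun v => ?_)
    obtain ⟨q, hq, rfl⟩ := f.vec_surj v
    rw [← f.vec_conj c q hq, (hc2 q hq).eq, mul_inv_cancel_right]
    rfl
  have hyz : Commute (y : G) z := by
    rcases S.base.ord.xt.eq_of_cen _ hcQ (fun q hq => hc2 q hq) with e | e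
    · exact absurd (conj_eq_one_iff.1 (hce.symm.trans e)) S.base.ord.xt.ne
    · exact mul_inv_eq_iff_eq_mul.1 (hce.symm.trans e)
  -- inside the centraliser
  have h2 : IsPGroup 2 ((P : Subgroup G).comap sub) :=
    P.isPGroup'.comap_of_injective sub (Subgroup.subtype_injective _)
  have hle : (TC : Subgroup (Subgroup.centralizer ({z} : Set G))) ≤ (P : Subgroup G).comap sub :=
    fun c hc => hP ⟨c, hc, rfl⟩
  exact hyW ⟨⟨y, Subgroup.mem_centralizer_singleton_iff.2 hyz⟩, (TC.is_maximal' h2 hle).le y.2, rfl⟩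

omit f in
/-- in each Sylow 2-subgroup there is exactly one elementary abelian subgroup of order 2^11 -/
theorem Big.elem_unique (f : Frame z Q x) (T : Sylow 2 G) :
    ∃! V : Subgroup G, V ≤ (T : Subgroup G) ∧ Cfsg.IsElementaryAbelian 2 V ∧ Nat.card ↥V = 2 ^ 11 := by
  haveI : Fact (Nat.Prime 2) := ⟨Nat.prime_two⟩
  obtain ⟨TC, hTC⟩ := S.sylow_C f
  obtain ⟨P, hP⟩ := S.sylow_top f TC
  rw [hTC] at hP
  obtain ⟨A, hAe, hAc, hAT, -, -, -, huniq⟩ := S.exists_max f
  obtain ⟨h, hh⟩ := MulAction.exists_smul_eq G P T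
  set sub := (Subgroup.centralizer ({z} : Set G)).subtype with hsub
  have hT : (T : Subgroup G) = (P : Subgroup G).map (MulAut.conj h).toMonoidHom := by
    rw [← hh, Sylow.coe_subgroup_smul]
    rfl
  refine ⟨(A.map sub).map (MulAut.conj h).toMonoidHom, ⟨?_, elem_map _ (elem_map _ hAe), ?_⟩, ?_⟩
  · rw [hT, hP]
    exact Subgroup.map_mono (Subgroup.map_mono hAT)
  · rw [Subgroup.card_map_of_injective (MulAut.conj h).injective,
      Subgroup.card_map_of_injective (Subgroup.subtype_injective _), hAc]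
  rintro V ⟨hVT, hVe, hVc⟩
  set φ : Subgroup.centralizer ({z} : Set G) →* G := (MulAut.conj h).toMonoidHom.comp sub with hφ
  have hi : Function.Injective φ := (MulAut.conj h).injective.comp (Subgroup.subtype_injective _)
  have hVr : V ≤ φ.range := by
    rw [hφ, MonoidHom.range_comp, MonoidHom.range_eq_map]
    exact hVT.trans (by rw [hT, hP]; exact Subgroup.map_mono (Subgroup.map_mono le_top))
  have hmap : (V.comap φ).map φ = V := Subgroup.map_comap_eq_self hVr
  have hle : V.comap φ ≤ Subgroup.comap f.π TS := by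
    intro c hc
    have h1 : φ c ∈ (T : Subgroup G) := hVT hc
    rw [hT, hP, Subgroup.map_map] at h1
    exact (Subgroup.mem_map_iff_mem hi).1 h1
  have hA : V.comap φ = A := by
    refine huniq _ hle (elem_comap hi hVe) (le_of_eq ?_)
    rw [← hVc, ← hmap, Subgroup.card_map_of_injective hi, hmap]
  rw [← hmap, hA, hφ, ← Subgroup.map_map]

end Cfsg.Agent.Spor.JFour
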