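import Mathlib

/-!
Subgroups of prime order that are Sylow subgroups: conjugacy and the order of the normalizer.
-/

set_option autoImplicit false
set_option linter.unusedSectionVars false

namespace Cfsg.Agent.Spor.M22U.PrimeCount

variable {G : Type*} [Group G] [Finite G] {p : ℕ}

theorem sylow_of_card (hp : p.Prime) (h1 : p ∣ Nat.card G) (h2 : ¬ p * p ∣ Nat.card G) {X : Subgroup G}
    (hX : Nat.card X = p) : ∃ P : Sylow p G, (P : Subgroup G) = X := by
  haveI : Fact p.Prime := ⟨hp⟩
  obtain ⟨m, hm⟩ := h1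
  have hne : m ≠ 0 := fun h => by rw [h, mul_zero] at hm; exact Nat.card_pos.ne' hm
  have hpm : ¬ p ∣ m := fun ⟨k, hk⟩ => h2 ⟨k, by rw [hm, hk, mul_assoc]⟩
  refine ⟨Sylow.ofCard X ?_, rfl⟩
  rw [hX, hm, Nat.factorization_mul hp.ne_zero hne, Finsupp.add_apply, hp.factorization_self,
    Nat.factorization_eq_zero_of_not_dvd hpm, add_zero, pow_one]

theorem conj_of_card (hp : p.Prime) (h1 : p ∣ Nat.card G) (h2 : ¬ p * p ∣ Nat.card G) {X Y : Subgroup G}
    (hX : Nat.card X = p) (hY : Nat.card Y = p) : ∃ g : G, X.map (MulAut.conj g).toMonoidHom = Y := by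
  haveI : Fact p.Prime := ⟨hp⟩
  obtain ⟨P, rfl⟩ := sylow_of_card hp h1 h2 hX
  obtain ⟨Q, rfl⟩ := sylow_of_card hp h1 h2 hY
  obtain ⟨g, hg⟩ := MulAction.exists_smul_eq G P Q
  exact ⟨g, by rw [← hg]; rfl⟩

theorem card_normalizer (hp : p.Prime) (h1 : p ∣ Nat.card G) (h2 : ¬ p * p ∣ Nat.card G) {X : Subgroup G}
    (hX : Nat.card X = p) :
    ∃ m n : ℕ, m ∣ p - 1 ∧ n % p = 1 ∧
      Nat.card ↥(Subgroup.normalizer (X : Set G)) = Nat.card ↥(Subgroup.centralizer (X : Set G)) * m ∧
      Nat.card G = Nat.card ↥(Subgroup.centralizer (X : Set G)) * m * n := by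
  haveI : Fact p.Prime := ⟨hp⟩
  obtain ⟨P, rfl⟩ := sylow_of_card hp h1 h2 hX
  set X : Subgroup G := (P : Subgroup G)
  haveI : IsCyclic X := isCyclic_of_prime_card hX
  have haut : Nat.card (MulAut X) = p - 1 := by
    rw [IsCyclic.card_mulAut, hX, Nat.totient_prime hp]
  set f := X.normalizerMonoidHom
  have hle : Subgroup.centralizer (X : Set G) ≤ Subgroup.normalizer (X : Set G) :=
    fun g hg => Subgroup.mem_normalizer_iff.mpr fun h => by
      rw [Subgroup.mem_centralizer_iff] at hg
      constructor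
      · intro hh
        rwa [← hg h hh, mul_inv_cancel_right]
      · intro hh
        have h' := hg _ hh
        have e : h = g * h * g⁻¹ := by
          calc h = g⁻¹ * ((g * h * g⁻¹) * g) := by group
            _ = g⁻¹ * (g * (g * h * g⁻¹)) := by rw [h']
            _ = g * h * g⁻¹ := by group
        rw [e]; exact hh
  have hker : Nat.card f.ker = Nat.card ↥(Subgroup.centralizer (X : Set G)) := by
    rw [Subgroup.normalizerMonoidHom_ker, Nat.card_congr (Subgroup.subgroupOfEquivOfLe hle).toEquiv]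
  refine ⟨Nat.card f.range, (Subgroup.normalizer (X : Set G)).index, ?_, ?_, ?_, ?_⟩
  · rw [← haut]; exact Subgroup.card_subgroup_dvd_card _
  · show (Subgroup.normalizer ((P : Subgroup G) : Set G)).index % p = 1
    rw [show (Subgroup.normalizer ((P : Subgroup G) : Set G)).index = Nat.card (Sylow p G) from
      (Sylow.card_eq_index_normalizer P).symm]
    have := card_sylow_modEq_one p G
    rw [Nat.ModEq, Nat.one_mod_eq_one.mpr hp.ne_one] at this
    exact this
  · rw [← hker, ← Subgroup.index_ker, Subgroup.card_mul_index]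
  · rw [← hker, ← Subgroup.index_ker, Subgroup.card_mul_index, Subgroup.card_mul_index]

end Cfsg.Agent.Spor.M22U.PrimeCount
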