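import Cfsg.Agent.Lib.Spor.MathieuTwentyTwoCent
import Cfsg.Agent.Lib.Spor.MathieuSimple
import Cfsg.Agent.Lib.Spor.GolayElemFacts

/-!
# Centralisers and numbers of elements of odd prime order in M22
-/

set_option autoImplicit false
set_option maxHeartbeats 400000

namespace Cfsg.Agent.Spor.M22Cent

open Cfsg

local notation "G22" => Subtype (fun x => x ∈ Cfsg.Spor.M22)

theorem mem_m24 (g : G22) : (g : Equiv.Perm GolayPt) ∈ M24 := g.2.1.1

theorem two_le_fix (g : G22) : 2 ≤ (fixSet (g : Equiv.Perm GolayPt)).card := by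
  have h1 : (g : Equiv.Perm GolayPt) none = none := MulAction.mem_stabilizer_iff.1 g.2.1.2
  have h2 : (g : Equiv.Perm GolayPt) (some 0) = some 0 := MulAction.mem_stabilizer_iff.1 g.2.2
  refine le_trans (le_of_eq (Finset.card_pair (a := (none : GolayPt)) (b := some 0) (by simp)).symm)
    (Finset.card_le_card fun p hp => ?_)
  rcases Finset.mem_insert.1 hp with rfl | hp
  · exact Finset.mem_filter.2 ⟨Finset.mem_univ _, h1⟩
  · rw [Finset.mem_singleton.1 hp]; exact Finset.mem_filter.2 ⟨Finset.mem_univ _, h2⟩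

theorem fix_le_five {g : G22} {p : ℕ} (hp : p.Prime) (h5 : 5 ≤ p) (hg : orderOf g = p) :
    (fixSet (g : Equiv.Perm GolayPt)).card ≤ 5 := by
  by_contra h
  obtain ⟨E, hE, hEc⟩ := Finset.exists_subset_card_eq (n := 6) (not_le.1 h)
  have hm : (g : Equiv.Perm GolayPt) ∈ fixM E :=
    mem_fixM.2 ⟨mem_m24 g, fun x hx => (Finset.mem_filter.1 (hE hx)).2⟩
  have hd := Subgroup.orderOf_dvd_natCard _ hm
  rw [card_fixM_six hEc, Subgroup.orderOf_coe, hg] at hd
  split_ifs at hd
  · exact absurd (Nat.le_of_dvd (by norm_num) ((hp.dvd_of_dvd_pow (show p ∣ 2 ^ 4 by norm_num; exact hd)))) (by omega)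
  · exact absurd (Nat.le_of_dvd (by norm_num) hd) (by omega)

theorem fix_mod {g : G22} {p : ℕ} (hp : p.Prime) (hg : orderOf g = p) :
    (fixSet (g : Equiv.Perm GolayPt)).card % p = 24 % p := by
  haveI : Fact p.Prime := ⟨hp⟩
  have hσ : (g : Equiv.Perm GolayPt) ^ p ^ 1 = 1 := by
    rw [pow_one, ← SubmonoidClass.coe_pow, ← hg, pow_orderOf_eq_one, OneMemClass.coe_one]
  have h := Equiv.Perm.card_compl_support_modEq hσ
  rw [show Fintype.card GolayPt = 24 from rfl] at h
  have e : fixSet (g : Equiv.Perm GolayPt) = (g : Equiv.Perm GolayPt).supportᶜ := by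
    ext x; simp [Equiv.Perm.mem_support]
  rw [e]; exact h

/-- an element of prime order fixes every point of a smaller invariant set -/
theorem fixes_invariant {h : G22} {q : ℕ} (hq : q.Prime) (hh : orderOf h = q) {F : Finset GolayPt}
    (hF : ∀ x ∈ F, (h : Equiv.Perm GolayPt) x ∈ F) (hlt : F.card < q) :
    F ⊆ fixSet (h : Equiv.Perm GolayPt) := by
  classical
  haveI : Fact q.Prime := ⟨hq⟩
  intro a ha
  refine Finset.mem_filter.2 ⟨Finset.mem_univ _, ?_⟩
  by_contra hne
  set σ := (h : Equiv.Perm GolayPt) with hσdef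
  have horb : ∀ n : ℕ, (σ ^ n) a ∈ F := fun n => by
    induction n with
    | zero => simpa using ha
    | succ n ih => rw [pow_succ', Equiv.Perm.mul_apply]; exact hF _ ih
  have hσ : orderOf σ = q := by rw [hσdef, Subgroup.orderOf_coe, hh]
  have hstab : ∀ n : ℕ, (σ ^ n) a = a → q ∣ n := by
    intro n hn
    by_contra hd
    obtain ⟨m, hm⟩ := exists_pow_eq_self_of_coprime (x := σ) (n := n)
      (by rw [hσ]; exact ((hq.coprime_iff_not_dvd).2 hd).symm)
    refine hne ?_
    rw [← hm]
    clear hm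
    induction m with
    | zero => simp
    | succ m ih => rw [pow_succ, Equiv.Perm.mul_apply, hn, ih]
  have hinj : Set.InjOn (fun n => (σ ^ n) a) (Finset.range q : Set ℕ) := by
    have key : ∀ i k : ℕ, i + k < q → (σ ^ i) a = (σ ^ (i + k)) a → k = 0 := by
      intro i k hlt' e
      rw [pow_add, Equiv.Perm.mul_apply] at e
      exact Nat.eq_zero_of_dvd_of_lt (hstab k ((σ ^ i).injective e).symm) (by omega)
    intro i hi j hj e
    simp only [Finset.coe_range, Set.mem_Iio] at hi hj
    rcases le_total i j with hij | hij <;> obtain ⟨k, rfl⟩ := Nat.exists_eq_add_of_le hij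
    · rw [key i k hj e, add_zero]
    · rw [key j k hi e.symm, add_zero]
  have := Finset.card_le_card_of_injOn _ (fun n _ => horb n) hinj
  rw [Finset.card_range] at this
  omega

theorem fix_invariant {g h : G22} (hc : Commute g h) :
    ∀ x ∈ fixSet (g : Equiv.Perm GolayPt), (h : Equiv.Perm GolayPt) x ∈ fixSet (g : Equiv.Perm GolayPt) := by
  intro x hx
  refine Finset.mem_filter.2 ⟨Finset.mem_univ _, ?_⟩
  have e := congrArg Subtype.val hc.eq
  rw [Subgroup.coe_mul, Subgroup.coe_mul] at e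
  rw [← Equiv.Perm.mul_apply, e, Equiv.Perm.mul_apply, (Finset.mem_filter.1 hx).2]

theorem fix_eq {g : G22} {p : ℕ} (hp : p = 5 ∨ p = 7 ∨ p = 11) (hg : orderOf g = p) :
    (fixSet (g : Equiv.Perm GolayPt)).card = 24 % p := by
  have h1 := two_le_fix g
  have hpr : p.Prime := by rcases hp with rfl | rfl | rfl <;> norm_num
  have h2 := fix_le_five hpr (by rcases hp with rfl | rfl | rfl <;> omega) hg
  have h3 := fix_mod hpr hg
  rcases hp with rfl | rfl | rfl <;> omega

theorem not_commute_large {g h : G22} {p q : ℕ} (hp : p = 5 ∨ p = 7 ∨ p = 11)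
    (hq : q = 5 ∨ q = 7 ∨ q = 11) (hlt : p < q) (hg : orderOf g = p) (hh : orderOf h = q) :
    ¬ Commute g h := by
  intro hc
  have hqp : q.Prime := by rcases hq with rfl | rfl | rfl <;> norm_num
  have e1 := fix_eq hp hg
  have hsub := fixes_invariant hqp hh (fix_invariant hc)
    (by rw [e1]; rcases hp with rfl | rfl | rfl <;> omega)
  have := Finset.card_le_card hsub
  rw [e1, fix_eq hq hh] at this
  rcases hp with rfl | rfl | rfl <;> rcases hq with rfl | rfl | rfl <;> omega

theorem not_commute_three {y h : G22} {p : ℕ} (hp : p = 5 ∨ p = 7 ∨ p = 11)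
    (hy : orderOf y = 3) (hh : orderOf h = p) : ¬ Commute y h := by
  intro hc
  have hpr : p.Prime := by rcases hp with rfl | rfl | rfl <;> norm_num
  have h6 : (fixSet (y : Equiv.Perm GolayPt)).card = 6 := by
    rcases three_by_fix (mem_m24 y) (by rw [Subgroup.orderOf_coe, hy]) with ⟨h0, -⟩ | ⟨h0, -⟩
    · have := two_le_fix y; omega
    · exact h0
  set F : Finset GolayPt := fixSet (y : Equiv.Perm GolayPt) with hF
  set F' := F \ {none, some 0} with hF'
  have hpads : ∀ g : G22, (g : Equiv.Perm GolayPt) none = none ∧ (g : Equiv.Perm GolayPt) (some 0) = some 0 :=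
    fun g => ⟨MulAction.mem_stabilizer_iff.1 g.2.1.2, MulAction.mem_stabilizer_iff.1 g.2.2⟩
  have hsubF : ({none, some 0} : Finset GolayPt) ⊆ F := by
    intro x hx
    refine Finset.mem_filter.2 ⟨Finset.mem_univ _, ?_⟩
    rcases Finset.mem_insert.1 hx with rfl | hx
    · exact (hpads y).1
    · rw [Finset.mem_singleton.1 hx]; exact (hpads y).2
  have hcard : F'.card = 4 := by
    rw [hF', Finset.card_sdiff_of_subset hsubF, h6, Finset.card_pair (by simp)]
  have hinv : ∀ x ∈ F', (h : Equiv.Perm GolayPt) x ∈ F' := by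
    intro x hx
    rw [hF', Finset.mem_sdiff] at hx ⊢
    refine ⟨fix_invariant hc x hx.1, fun hm => hx.2 ?_⟩
    rcases Finset.mem_insert.1 hm with hm | hm
    · rw [← (hpads h).1] at hm
      rw [Equiv.injective _ hm]; simp
    · rw [Finset.mem_singleton, ← (hpads h).2] at hm
      rw [Equiv.injective _ hm]; simp
  have hsub := fixes_invariant hpr hh hinv (by rw [hcard]; rcases hp with rfl | rfl | rfl <;> omega)
  have hall : F ⊆ fixSet (h : Equiv.Perm GolayPt) := by
    intro x hx
    by_cases hm : x ∈ ({none, some 0} : Finset GolayPt)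
    · refine Finset.mem_filter.2 ⟨Finset.mem_univ _, ?_⟩
      rcases Finset.mem_insert.1 hm with rfl | hm
      · exact (hpads h).1
      · rw [Finset.mem_singleton.1 hm]; exact (hpads h).2
    · exact hsub (by rw [hF', Finset.mem_sdiff]; exact ⟨hx, hm⟩)
  have := Finset.card_le_card hall
  rw [h6] at this
  have := fix_le_five hpr (by rcases hp with rfl | rfl | rfl <;> omega) hh
  omega

theorem not_dvd_cent_invol {t : G22} (ht : orderOf t = 2) {p : ℕ} (hp : p = 5 ∨ p = 7 ∨ p = 11) :
    ¬ p ∣ Nat.card (Subgroup.centralizer ({t} : Set G22)) := by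
  obtain ⟨k, hk⟩ := isConj_iff.1 (invol_conj ht)
  have e : Nat.card (Subgroup.centralizer ({t} : Set G22)) = 384 := by
    rw [← card_cent]
    refine (Nat.card_congr (Equiv.subtypeEquiv (MulAut.conj k).toEquiv fun c => ?_)).symm
    rw [Subgroup.mem_centralizer_singleton_iff, Subgroup.mem_centralizer_singleton_iff, ← hk]
    show _ ↔ MulAut.conj k c * MulAut.conj k invol = MulAut.conj k invol * MulAut.conj k c
    rw [← map_mul, ← map_mul, (MulAut.conj k).injective.eq_iff]
  rw [e]
  rcases hp with rfl | rfl | rfl <;> norm_num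

theorem prime_of_dvd_order {q : ℕ} (hq : q.Prime) (hd : q ∣ 443520) :
    q = 2 ∨ q = 3 ∨ q = 5 ∨ q = 7 ∨ q = 11 := by
  have h : q ∣ 2 ^ 7 * 3 ^ 2 * 5 * 7 * 11 := by norm_num; exact hd
  rcases hq.dvd_mul.1 h with h | h
  · rcases hq.dvd_mul.1 h with h | h
    · rcases hq.dvd_mul.1 h with h | h
      · rcases hq.dvd_mul.1 h with h | h
        · exact Or.inl ((Nat.prime_dvd_prime_iff_eq hq Nat.prime_two).1 (hq.dvd_of_dvd_pow h))
        · exact Or.inr (Or.inl ((Nat.prime_dvd_prime_iff_eq hq Nat.prime_three).1 (hq.dvd_of_dvd_pow h)))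
      · exact Or.inr (Or.inr (Or.inl ((Nat.prime_dvd_prime_iff_eq hq (by norm_num)).1 h)))
    · exact Or.inr (Or.inr (Or.inr (Or.inl ((Nat.prime_dvd_prime_iff_eq hq (by norm_num)).1 h))))
  · exact Or.inr (Or.inr (Or.inr (Or.inr ((Nat.prime_dvd_prime_iff_eq hq (by norm_num)).1 h))))

theorem dvd_card (H : Subgroup G22) : Nat.card H ∣ 443520 :=
  Local.FS.Mathieu.card_m22 ▸ Subgroup.card_subgroup_dvd_card H

theorem card_centralizer_prime {g : G22} {p : ℕ} (hp : p = 5 ∨ p = 7 ∨ p = 11) (hg : orderOf g = p) :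
    Nat.card (Subgroup.centralizer ({g} : Set G22)) = p := by
  set C := Subgroup.centralizer ({g} : Set G22) with hC
  have hpC : p ∣ Nat.card C := hg ▸ Subgroup.orderOf_dvd_natCard C (Subgroup.mem_centralizer_singleton_iff.2 rfl)
  obtain ⟨m, hm⟩ := hpC
  rcases eq_or_ne m 1 with rfl | hne
  · rw [hm, mul_one]
  exfalso
  obtain ⟨q, hq, hqm⟩ := Nat.exists_prime_and_dvd hne
  have hqC : q ∣ Nat.card C := hm ▸ Dvd.dvd.mul_left hqm p
  haveI : Fact q.Prime := ⟨hq⟩
  obtain ⟨h, hh⟩ := exists_prime_orderOf_dvd_card' q hqC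
  have hh' : orderOf (h : G22) = q := by rw [Subgroup.orderOf_coe]; exact hh
  have hcomm : Commute g h := (Subgroup.mem_centralizer_singleton_iff.1 h.2).symm
  rcases eq_or_ne q p with rfl | hqp
  · have h2 : q * q ∣ 443520 := (mul_dvd_mul_left q hqm).trans (hm ▸ dvd_card C)
    rcases hp with rfl | rfl | rfl <;> norm_num at h2
  rcases prime_of_dvd_order hq (hqC.trans (dvd_card C)) with rfl | rfl | hq'
  · exact not_dvd_cent_invol hh' hp
      (hg ▸ Subgroup.orderOf_dvd_natCard _ (Subgroup.mem_centralizer_singleton_iff.2 hcomm.eq))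
  · exact not_commute_three hp hh' hg hcomm.symm
  · rcases lt_or_gt_of_ne hqp with hlt | hlt
    · exact not_commute_large hq' hp hlt hh' hg hcomm.symm
    · exact not_commute_large hp hq' hlt hg hh' hcomm

theorem card_centralizer_three {y : G22} (hy : orderOf y = 3) :
    Nat.card (Subgroup.centralizer ({y} : Set G22)) ≤ 36 := by
  classical
  set C := Subgroup.centralizer ({y} : Set G22) with hC
  haveI : Fact (Nat.Prime 3) := ⟨Nat.prime_three⟩
  haveI : Fact (Nat.Prime 2) := ⟨Nat.prime_two⟩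
  have hno : ∀ p, p = 5 ∨ p = 7 ∨ p = 11 → ¬ p ∣ Nat.card C := by
    intro p hp hd
    haveI : Fact p.Prime := ⟨by rcases hp with rfl | rfl | rfl <;> norm_num⟩
    obtain ⟨h, hh⟩ := exists_prime_orderOf_dvd_card' p hd
    exact not_commute_three hp hy (by rw [Subgroup.orderOf_coe]; exact hh)
      (Subgroup.mem_centralizer_singleton_iff.1 h.2).symm
  have h8 : ¬ 2 ^ 3 ∣ Nat.card C := by
    intro hd
    obtain ⟨T0, hT0⟩ := Sylow.exists_subgroup_card_pow_prime (G := C) 2 hd
    set T := T0.map C.subtype with hT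
    have hTcard : Nat.card T = 8 := by
      rw [hT, Subgroup.card_map_of_injective C.subtype_injective, hT0]; norm_num
    have hTp : IsPGroup 2 T := IsPGroup.of_card (n := 3) (by rw [hTcard]; norm_num)
    haveI : Nontrivial T := Finite.one_lt_card_iff_nontrivial.1 (by rw [hTcard]; norm_num)
    haveI := hTp.center_nontrivial
    obtain ⟨z, hz⟩ := exists_prime_orderOf_dvd_card' (G := Subgroup.center T) 2 (by
      obtain ⟨n, hn, e⟩ := (hTp.to_subgroup (Subgroup.center T)).nontrivial_iff_card.1 inferInstance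
      rw [e]; exact dvd_pow_self 2 hn.ne')
    set z' : G22 := ((z : T) : G22) with hz'
    have hz2 : orderOf z' = 2 := by rw [hz', Subgroup.orderOf_coe, Subgroup.orderOf_coe, hz]
    have hTz : ∀ t ∈ T, t * z' = z' * t := fun t ht =>
      congrArg Subtype.val (Subgroup.mem_center_iff.1 z.2 ⟨t, ht⟩)
    have hTy : ∀ t ∈ T, t * y = y * t := fun t ht =>
      Subgroup.mem_centralizer_singleton_iff.1 (Subgroup.map_subtype_le T0 ht)
    obtain ⟨k, hk⟩ := isConj_iff.1 (invol_conj hz2)
    set Cz := Subgroup.centralizer ({invol} : Set G22) with hCz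
    have hmove : ∀ c : G22, c * z' = z' * c → k⁻¹ * c * k ∈ Cz := by
      intro c hc
      rw [hCz, Subgroup.mem_centralizer_singleton_iff]
      rw [← hk] at hc
      calc k⁻¹ * c * k * invol = k⁻¹ * (c * (k * invol * k⁻¹)) * k := by group
        _ = k⁻¹ * (k * invol * k⁻¹ * c) * k := by rw [hc]
        _ = invol * (k⁻¹ * c * k) := by group
    have hzC : z' ∈ T := (z : T).2
    set y₁ := k⁻¹ * y * k with hy₁
    have hy₁C : y₁ ∈ Cz := hmove y (hTy z' hzC).symm
    have hy₁o : orderOf y₁ = 3 := by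
      rw [← hy, hy₁, show k⁻¹ * y * k = MulAut.conj k⁻¹ y by simp [MulAut.conj_apply]]
      exact orderOf_injective (MulAut.conj k⁻¹).toMonoidHom (MulEquiv.injective _) y
    obtain ⟨y0, hy0C, hy0o, hcount, -, -⟩ := exists_three
    rw [← hCz] at hcount
    -- the subgroups of order three of the centraliser are conjugate
    have hfact : (Nat.card Cz).factorization 3 = 1 := by
      rw [hCz, card_cent, Nat.factorization_def _ Nat.prime_three,
        show (384 : ℕ) = 3 ^ 1 * 128 by norm_num, padicValNat.mul (by norm_num) (by norm_num),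
        padicValNat.prime_pow, padicValNat.eq_zero_of_not_dvd (by norm_num)]
    have hsyl : ∀ u : Cz, orderOf u = 3 → ∃ S : Sylow 3 Cz, (S : Subgroup Cz) = Subgroup.zpowers u :=
      fun u hu => ⟨Sylow.ofCard (Subgroup.zpowers u) ((Nat.card_zpowers u).trans (by rw [hu, hfact, pow_one])), rfl⟩
    obtain ⟨S0, hS0⟩ := hsyl ⟨y0, hy0C⟩ (by rw [Subgroup.orderOf_mk, hy0o])
    obtain ⟨S1, hS1⟩ := hsyl ⟨y₁, hy₁C⟩ (by rw [Subgroup.orderOf_mk, hy₁o])
    obtain ⟨c, hc⟩ := MulAction.exists_smul_eq Cz S1 S0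
    have hy0mem : (⟨y0, hy0C⟩ : Cz) ∈ (S0 : Subgroup Cz) := hS0 ▸ Subgroup.mem_zpowers _
    rw [← hc, Sylow.coe_subgroup_smul, Subgroup.mem_pointwise_smul_iff_inv_smul_mem, hS1,
      Subgroup.mem_zpowers_iff] at hy0mem
    obtain ⟨i, hi⟩ := hy0mem
    have hy0eq : y0 = (c : G22) * y₁ ^ i * (c : G22)⁻¹ := by
      have h := congrArg Subtype.val hi
      simp only [MulAut.smul_def, MulAut.conj_inv_apply, Subgroup.coe_mul, Subgroup.coe_inv,
        SubgroupClass.coe_zpow] at h
      rw [h]; group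
    set D : Subgroup G22 := Cz ⊓ Subgroup.centralizer ({y0} : Set G22) with hD
    have hDcard : Nat.card D ≤ 12 := by
      refine le_trans (le_of_eq (Nat.card_congr (Equiv.subtypeEquivRight fun d => ?_))) hcount
      exact (Iff.rfl : _ ∧ _ ↔ _ ∧ _).trans (and_congr_right fun _ => Subgroup.mem_centralizer_singleton_iff)
    have hTD : T.map (MulAut.conj ((c : G22) * k⁻¹)).toMonoidHom ≤ D := by
      rintro _ ⟨t, ht, rfl⟩
      have ht' : MulAut.conj ((c : G22) * k⁻¹) t = (c : G22) * (k⁻¹ * t * k) * (c : G22)⁻¹ := by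
        simp [MulAut.conj_apply, mul_assoc]
      show MulAut.conj ((c : G22) * k⁻¹) t ∈ D
      rw [ht', hD]
      refine Subgroup.mem_inf.2 ⟨mul_mem (mul_mem c.2 (hmove _ (hTz _ ht))) (inv_mem c.2), Subgroup.mem_centralizer_singleton_iff.2 ?_⟩
      have h1 : Commute (k⁻¹ * t * k) y₁ := by
        show k⁻¹ * t * k * (k⁻¹ * y * k) = k⁻¹ * y * k * (k⁻¹ * t * k)
        calc k⁻¹ * t * k * (k⁻¹ * y * k) = k⁻¹ * (t * y) * k := by group
          _ = k⁻¹ * (y * t) * k := by rw [hTy _ ht]
          _ = k⁻¹ * y * k * (k⁻¹ * t * k) := by group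
      rw [hy0eq]
      exact ((h1.zpow_right i).map (MulAut.conj (c : G22)).toMonoidHom).eq
    have h8D : 8 ∣ Nat.card D := by
      have := Subgroup.card_dvd_of_le hTD
      rwa [Subgroup.card_map_of_injective (MulEquiv.injective _), hTcard] at this
    have h3D : 3 ∣ Nat.card D := hy0o ▸ Subgroup.orderOf_dvd_natCard D
      (Subgroup.mem_inf.2 ⟨hy0C, Subgroup.mem_centralizer_singleton_iff.2 rfl⟩)
    have h24 : 24 ∣ Nat.card D := Nat.Coprime.mul_dvd_of_dvd_of_dvd (by norm_num : Nat.Coprime 8 3) h8D h3D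
    have := Nat.le_of_dvd Nat.card_pos h24
    omega
  have hd := dvd_card C
  have hcop : ∀ p, p = 5 ∨ p = 7 ∨ p = 11 → (Nat.card C).Coprime p := fun p hp =>
    Nat.Coprime.symm ((Nat.Prime.coprime_iff_not_dvd
      (by rcases hp with rfl | rfl | rfl <;> norm_num)).2 (hno p hp))
  have h385 : (Nat.card C).Coprime 385 := by
    rw [show (385 : ℕ) = 5 * 7 * 11 by norm_num]
    exact ((hcop 5 (by simp)).mul_right (hcop 7 (by simp))).mul_right (hcop 11 (by simp))
  have h1152 : Nat.card C ∣ 1152 :=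
    h385.dvd_of_dvd_mul_right ((show (443520 : ℕ) = 1152 * 385 by norm_num) ▸ hd)
  refine Nat.le_of_dvd (by norm_num) ?_
  exact (show ∀ n ∈ Nat.divisors 1152, ¬ 2 ^ 3 ∣ n → n ∣ 36 by decide +kernel) _
    (Nat.mem_divisors.2 ⟨h1152, by norm_num⟩) h8

/-- lower bounds for the numbers of elements of orders 5, 7 and 11 -/
theorem count_prime {p N : ℕ} (hp : (p = 5 ∧ N = 22176) ∨ (p = 7 ∧ N = 21120) ∨ (p = 11 ∧ N = 8064)) :
    N * (p - 1) ≤ Nat.card {g : G22 // orderOf g = p} := by
  classical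
  have hp' : p = 5 ∨ p = 7 ∨ p = 11 := by tauto
  have hpr : p.Prime := by rcases hp' with rfl | rfl | rfl <;> norm_num
  haveI : Fact p.Prime := ⟨hpr⟩
  have hdvd : p ∣ Nat.card G22 := by
    rw [Local.FS.Mathieu.card_m22]; rcases hp' with rfl | rfl | rfl <;> norm_num
  have hfact : (Nat.card G22).factorization p = 1 := by
    rw [Local.FS.Mathieu.card_m22, Nat.factorization_def _ hpr]
    rcases hp' with rfl | rfl | rfl
    · rw [show (443520 : ℕ) = 5 ^ 1 * 88704 by norm_num, padicValNat.mul (by norm_num) (by norm_num),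
        padicValNat.prime_pow, padicValNat.eq_zero_of_not_dvd (by norm_num)]
    · rw [show (443520 : ℕ) = 7 ^ 1 * 63360 by norm_num, padicValNat.mul (by norm_num) (by norm_num),
        padicValNat.prime_pow, padicValNat.eq_zero_of_not_dvd (by norm_num)]
    · rw [show (443520 : ℕ) = 11 ^ 1 * 40320 by norm_num, padicValNat.mul (by norm_num) (by norm_num),
        padicValNat.prime_pow, padicValNat.eq_zero_of_not_dvd (by norm_num)]
  have hcardS : ∀ Q : Sylow p G22, Nat.card (Q : Subgroup G22) = p := fun Q => by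
    rw [Q.card_eq_multiplicity, hfact, pow_one]
  have hgen : ∀ Q : Sylow p G22, ∃ g : G22, orderOf g = p ∧ Subgroup.zpowers g = (Q : Subgroup G22) := by
    intro Q
    obtain ⟨g, hg⟩ := exists_prime_orderOf_dvd_card' (G := (Q : Subgroup G22)) p (by rw [hcardS])
    have hg' : orderOf (g : G22) = p := by rw [Subgroup.orderOf_coe]; exact hg
    exact ⟨g, hg', Subgroup.eq_of_le_of_card_ge (Subgroup.zpowers_le.2 g.2)
      (by rw [hcardS, Nat.card_zpowers, hg'])⟩
  choose gQ hgQ hgQ' using hgen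
  -- the number of Sylow subgroups
  obtain ⟨P⟩ : Nonempty (Sylow p G22) := inferInstance
  set NP := Subgroup.normalizer ((P : Subgroup G22) : Set G22) with hNP
  set g := gQ P with hg
  have hgP : g ∈ (P : Subgroup G22) := hgQ' P ▸ Subgroup.mem_zpowers g
  have hCN : Subgroup.centralizer ({g} : Set G22) ≤ NP := by
    intro c hc
    refine Subgroup.mem_normalizer_fintype fun x hx => ?_
    rw [SetLike.mem_coe, ← hgQ' P, Subgroup.mem_zpowers_iff] at hx
    obtain ⟨i, rfl⟩ := hx
    have h1 : Commute c (gQ P) := Subgroup.mem_centralizer_singleton_iff.1 hc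
    rw [SetLike.mem_coe, (h1.zpow_right i).eq, mul_inv_cancel_right]
    exact Subgroup.zpow_mem _ hgP i
  have horb : Nat.card (MulAction.orbit (ConjAct NP) (⟨g, Subgroup.le_normalizer hgP⟩ : NP)) *
      Nat.card (MulAction.stabilizer (ConjAct NP) (⟨g, Subgroup.le_normalizer hgP⟩ : NP)) = Nat.card NP := by
    rw [← Nat.card_prod]
    exact Nat.card_congr (MulAction.orbitProdStabilizerEquivGroup (ConjAct NP) _)
  have hstab : Nat.card (MulAction.stabilizer (ConjAct NP) (⟨g, Subgroup.le_normalizer hgP⟩ : NP)) = p := by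
    rw [ConjAct.stabilizer_eq_centralizer]
    refine Eq.trans ?_ (card_centralizer_prime hp' (hgQ P))
    exact Nat.card_congr
      { toFun := fun c => ⟨c.1.1, Subgroup.mem_centralizer_singleton_iff.2
          (congrArg Subtype.val (Subgroup.mem_centralizer_singleton_iff.1 c.2))⟩
        invFun := fun c => ⟨⟨c.1, hCN c.2⟩, Subgroup.mem_centralizer_singleton_iff.2
          (Subtype.ext (Subgroup.mem_centralizer_singleton_iff.1 c.2))⟩
        left_inv := fun _ => rfl
        right_inv := fun _ => rfl }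
  set k := Nat.card (MulAction.orbit (ConjAct NP) (⟨g, Subgroup.le_normalizer hgP⟩ : NP)) with hk
  have hk1 : k ≤ p - 1 := by
    have h1 : k ≤ Nat.card {x : (P : Subgroup G22) // x ≠ 1} := by
      refine Nat.card_le_card_of_injective (fun x => ⟨⟨((x : NP) : G22), ?_⟩, ?_⟩) fun a b e => ?_
      · obtain ⟨c, hc⟩ := x.2
        rw [← hc]
        exact (Subgroup.mem_normalizer_iff.1 (ConjAct.ofConjAct c).2 g).1 hgP
      · intro h
        obtain ⟨c, hc⟩ := x.2
        have h' : ((x : NP) : G22) = 1 := congrArg Subtype.val h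
        rw [← hc] at h'
        have h1 : g = 1 := conj_eq_one_iff.1 h'
        have := hgQ P
        rw [← hg, h1, orderOf_one] at this
        exact hpr.one_lt.ne this
      · exact Subtype.ext (Subtype.ext (congrArg (fun y : {x : (P : Subgroup G22) // x ≠ 1} => (y.1 : G22)) e))
    refine h1.trans (le_of_eq ?_)
    haveI := Fintype.ofFinite (P : Subgroup G22)
    rw [Nat.card_eq_fintype_card, Fintype.card_subtype_compl, Fintype.card_subtype_eq,
      ← Nat.card_eq_fintype_card, hcardS]
  have hn : Nat.card (Sylow p G22) * (k * p) = 443520 := by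
    have h := horb
    rw [hstab] at h
    rw [h, P.card_eq_index_normalizer]
    exact (Subgroup.index_mul_card NP).trans Local.FS.Mathieu.card_m22
  have hmod : Nat.card (Sylow p G22) % p = 1 := by
    have h := card_sylow_modEq_one p G22
    rw [Nat.ModEq, Nat.one_mod_eq_one.2 hpr.one_lt.ne'] at h
    exact h
  have hN : Nat.card (Sylow p G22) = N := by
    generalize Nat.card (Sylow p G22) = n at hn hmod
    generalize k = j at hn hk1
    rcases hp with ⟨rfl, rfl⟩ | ⟨rfl, rfl⟩ | ⟨rfl, rfl⟩ <;> interval_cases j <;> omega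
  rw [← hN, ← Nat.card_fin (p - 1), ← Nat.card_prod]
  refine Nat.card_le_card_of_injective (fun x => ⟨gQ x.1 ^ (x.2.val + 1), ?_⟩) fun a b e => ?_
  · refine orderOf_eq_prime ?_ fun h => ?_
    · rw [← pow_mul, mul_comm, pow_mul, orderOf_dvd_iff_pow_eq_one.1 (dvd_of_eq (hgQ x.1)), one_pow]
    · have := Nat.le_of_dvd (by omega) (hgQ x.1 ▸ orderOf_dvd_of_pow_eq_one h)
      have := x.2.isLt
      omega
  · have e' : gQ a.1 ^ (a.2.val + 1) = gQ b.1 ^ (b.2.val + 1) := congrArg Subtype.val e
    have hmem : ∀ x : Sylow p G22 × Fin (p - 1),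
        Subgroup.zpowers (gQ x.1 ^ (x.2.val + 1)) = (x.1 : Subgroup G22) := by
      intro x
      refine Subgroup.eq_of_le_of_card_ge (Subgroup.zpowers_le.2 ?_) (le_of_eq ?_)
      · exact Subgroup.pow_mem _ (hgQ' x.1 ▸ Subgroup.mem_zpowers _) _
      · rw [hcardS, Nat.card_zpowers]
        refine (orderOf_eq_prime ?_ fun h => ?_).symm
        · rw [← pow_mul, mul_comm, pow_mul, orderOf_dvd_iff_pow_eq_one.1 (dvd_of_eq (hgQ x.1)), one_pow]
        · have := Nat.le_of_dvd (by omega) (hgQ x.1 ▸ orderOf_dvd_of_pow_eq_one h)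
          have := x.2.isLt
          omega
    have h1 : a.1 = b.1 := Sylow.ext (by rw [← hmem a, ← hmem b, e'])
    refine Prod.ext h1 (Fin.ext ?_)
    rw [h1] at e'
    have := pow_inj_mod.1 e'
    rw [hgQ, Nat.mod_eq_of_lt (by have := a.2.isLt; omega), Nat.mod_eq_of_lt (by have := b.2.isLt; omega)] at this
    omega

end Cfsg.Agent.Spor.M22Cent
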