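import Cfsg.Agent.Lib.Spor.LFTThompChecks
import Cfsg.Agent.Lib.Spor.GolayBasic

/-!
Checks linking the coordinates with the binary Golay code.
-/

set_option autoImplicit false
set_option maxRecDepth 100000

namespace Cfsg.Agent.Spor.LFT.Chk

/-- coordinate and parity of a set of points -/
def ptQ : List ℕ := Dat.ptP.map fun v => Nat.xor v 2048

/-- facts about the list of points -/
def ptOK : Bool :=
  Nat.beq Dat.ptP.length 24 &&
    ((List.range 24).all fun i => Nat.blt (Dat.ptP.getD i 0) 2048 &&
      Nat.beq (app Dat.ptP (Nat.pow 2 i)) (Dat.ptP.getD i 0) &&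
      Nat.beq (app ptQ (Nat.pow 2 i)) (Nat.xor (Dat.ptP.getD i 0) 2048))

/-- every value is taken -/
def surOK : Bool :=
  (List.range 4096).all fun n => let m := app Dat.unitM n; Nat.blt m 16777216 && Nat.beq (app ptQ m) n

/-- the code goes to the identity -/
def codeOK : Bool := codeBasis.all fun m => Nat.beq (app ptQ m) 0

/-- meeting pairs are adjacent -/
def adjOK : Bool :=
  (List.range 24).all fun b => (List.range b).all fun a => (List.range 24).all fun d => (List.range d).all fun c =>
    (Nat.beq a c && Nat.beq b d) ||
      (tb Dat.tXor (Nat.xor (Nat.xor (Dat.ptP.getD a 0) (Dat.ptP.getD b 0))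
          (Nat.xor (Dat.ptP.getD c 0) (Dat.ptP.getD d 0))) ==
        (Nat.beq a c || Nat.beq a d || Nat.beq b c || Nat.beq b d))

theorem adj_ok : adjOK = true := by decide +kernel

theorem pt_ok : ptOK = true := by decide +kernel

theorem sur_ok : surOK = true := by decide +kernel

theorem code_ok : codeOK = true := by decide +kernel

end Cfsg.Agent.Spor.LFT.Chk
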