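import Cfsg.Agent.Lib.Spor.LFTThompCoord
import Cfsg.Agent.Lib.Spor.LFTThompChecksD
import Cfsg.Agent.Lib.Spor.GolayChain
import Cfsg.Agent.Lib.Spor.GolayCount
import Cfsg.Agent.Lib.Spor.CodeUnique

/-!
Large Fischer type: the normaliser of the largest elementary abelian subgroup induces the Mathieu group of
degree 24 on the pairs of points.
-/

set_option autoImplicit false
set_option maxRecDepth 100000
set_option linter.unusedSectionVars false

namespace Cfsg.Agent.Spor.LFT

open Cfsg.Agent.Spor.SUSix (V6 code code_lt vecOf_code)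
open scoped Pointwise

attribute [local irreducible] KerB phiA phiB CmpS Cmp Chk.tb Dat.tXor Dat.ptP Chk.ptQ

/-! ### the map on sets of points -/

/-- coordinate of a set of points -/
def phN (s : Finset GolayPt) : ℕ := Chk.app Dat.ptP (mask s)

/-- coordinate with parity -/
def phQ (s : Finset GolayPt) : ℕ := Chk.app Chk.ptQ (mask s)

theorem app_xor (L : List ℕ) (a b : ℕ) : Chk.app L (a ^^^ b) = Chk.app L a ^^^ Chk.app L b := appA_xor L a b

theorem phN_symm (s t : Finset GolayPt) : phN (symmDiff s t) = phN s ^^^ phN t := by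
  rw [phN, mask_symmDiff, app_xor]; rfl

theorem phQ_symm (s t : Finset GolayPt) : phQ (symmDiff s t) = phQ s ^^^ phQ t := by
  rw [phQ, mask_symmDiff, app_xor]; rfl

theorem mask_single (p : GolayPt) : mask {p} = 2 ^ idx p := by
  simp [mask]

theorem pt_facts (p : GolayPt) : Dat.ptP.getD (idx p) 0 < 2048 ∧ phN {p} = Dat.ptP.getD (idx p) 0 ∧
    phQ {p} = phN {p} ^^^ 2048 := by
  have h := Chk.pt_ok
  simp only [Chk.ptOK, Bool.and_eq_true, List.all_eq_true, List.mem_range] at h
  obtain ⟨⟨h1, h2⟩, h3⟩ := h.2 (idx p) (idx_lt p)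
  have e : phN {p} = Dat.ptP.getD (idx p) 0 := by
    rw [phN, mask_single]; exact Nat.eq_of_beq_eq_true h2
  exact ⟨Nat.le_of_ble_eq_true h1, e, by rw [e, phQ, mask_single]; exact Nat.eq_of_beq_eq_true h3⟩

theorem phN_empty : phN ∅ = 0 ∧ phQ ∅ = 0 := by decide +kernel

theorem insert_symm {p : GolayPt} {s : Finset GolayPt} (h : p ∉ s) : insert p s = symmDiff {p} s := by
  ext q
  rw [Finset.mem_symmDiff, Finset.mem_insert, Finset.mem_singleton]
  by_cases e : q = p
  · subst e; simp [h]
  · simp [e]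

theorem phN_none : phN {none} = 0 := by decide +kernel

theorem phN_lt (s : Finset GolayPt) : phN s < 2048 := by
  induction s using Finset.induction_on with
  | empty => rw [phN_empty.1]; norm_num
  | insert p s hp ih =>
    rw [insert_symm hp, phN_symm]
    exact Nat.xor_lt_two_pow (n := 11) ((pt_facts p).2.1 ▸ (pt_facts p).1) ih

theorem phQ_eq (s : Finset GolayPt) : phQ s = phN s ^^^ (2048 * (s.card % 2)) := by
  induction s using Finset.induction_on with
  | empty => rw [phN_empty.1, phN_empty.2]; rfl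
  | insert p s hp ih =>
    rw [Finset.card_insert_of_notMem hp, insert_symm hp, phN_symm, phQ_symm, (pt_facts p).2.2, ih]
    rcases Nat.mod_two_eq_zero_or_one s.card with e | e
    · rw [e, show (s.card + 1) % 2 = 1 by omega, mul_zero, Nat.xor_zero, mul_one, Nat.xor_assoc, Nat.xor_assoc,
        Nat.xor_comm 2048]
    · rw [e, show (s.card + 1) % 2 = 0 by omega, mul_one, mul_zero, Nat.xor_zero,
        Nat.xor_assoc (phN {p}), Nat.xor_comm (phN s) 2048, ← Nat.xor_assoc 2048 2048, Nat.xor_self, Nat.zero_xor]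

theorem phQ_zero {s : Finset GolayPt} : phQ s = 0 ↔ Even s.card ∧ phN s = 0 := by
  rw [phQ_eq, Nat.xor_eq_zero_iff, Nat.even_iff]
  have := phN_lt s
  omega

/-- the kernel is the code -/
theorem phQ_code (s : Finset GolayPt) : phQ s = 0 ↔ mask s ∈ codeMasks := by
  classical
  have hcode : ∀ m ∈ codeMasks, m < 2 ^ 24 ∧ Chk.app Chk.ptQ m = 0 := by
    apply xorSpan_induction
    · exact ⟨by norm_num, app_zero _⟩
    · rintro a b ⟨ha, ha'⟩ ⟨hb, hb'⟩
      exact ⟨Nat.xor_lt_two_pow ha hb, by rw [app_xor, ha', hb']; rfl⟩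
    · intro g hg
      have h := Chk.code_ok
      simp only [Chk.codeOK, List.all_eq_true] at h
      exact ⟨by revert g hg; decide +kernel, Nat.eq_of_beq_eq_true (h g hg)⟩
  set K : Finset (Finset GolayPt) := Finset.univ.filter fun s => phQ s = 0
  set C : Finset (Finset GolayPt) := Finset.univ.filter fun s => mask s ∈ codeMasks
  have hCK : C ⊆ K := fun t ht => by
    simp only [C, K, Finset.mem_filter, Finset.mem_univ, true_and] at ht ⊢
    exact (hcode _ ht).2
  have hsec : ∀ n : Fin 4096, ∃ t : Finset GolayPt, phQ t = n.val := fun n => by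
    have h := Chk.sur_ok
    simp only [Chk.surOK, List.all_eq_true, List.mem_range, Bool.and_eq_true] at h
    obtain ⟨h1, h2⟩ := h n.val n.2
    exact ⟨ofMask _, by rw [phQ, mask_ofMask (Nat.le_of_ble_eq_true h1)]; exact Nat.eq_of_beq_eq_true h2⟩
  choose r hr using hsec
  have hK : K.card * 4096 ≤ 2 ^ 24 := by
    have hinj : Set.InjOn (fun q : Finset GolayPt × Fin 4096 => symmDiff q.1 (r q.2))
        ↑(K ×ˢ (Finset.univ : Finset (Fin 4096))) := by
      rintro ⟨a, n⟩ ha ⟨b, m⟩ hb e
      simp only [Finset.coe_product, Set.mem_prod, K, Finset.coe_filter, Finset.mem_univ, true_and,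
        Set.mem_setOf_eq] at ha hb
      simp only at e
      have hnm := congrArg phQ e
      rw [phQ_symm, phQ_symm, ha.1, hb.1, Nat.zero_xor, Nat.zero_xor, hr, hr] at hnm
      obtain rfl := Fin.ext hnm
      rw [symmDiff_left_inj] at e
      rw [e]
    have h := Finset.card_le_card_of_injOn (t := (Finset.univ : Finset (Finset GolayPt))) _
      (fun _ _ => Finset.mem_univ _) hinj
    rw [Finset.card_product, Finset.card_univ, Fintype.card_fin, Finset.card_univ, Fintype.card_finset,
      Fintype.card_option, ZMod.card] at h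
    exact h
  have hC : 4096 ≤ C.card := by
    rw [← codeMasks_length, ← List.toFinset_card_of_nodup codeMasks_nodup]
    refine Finset.card_le_card_of_injOn ofMask (fun m hm => ?_) fun a ha b hb e => ?_
    · rw [List.coe_toFinset] at hm
      simp only [C, Finset.coe_filter, Finset.mem_univ, true_and, Set.mem_setOf_eq, mask_ofMask (codeMasks_lt _ hm)]
      exact hm
    · rw [List.coe_toFinset] at ha hb
      rw [← mask_ofMask (codeMasks_lt a ha), e, mask_ofMask (codeMasks_lt b hb)]
  have heq : C = K := Finset.eq_of_subset_of_card_le hCK (by omega)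
  have h1 : s ∈ K ↔ phQ s = 0 := by simp [K]
  have h2 : s ∈ C ↔ mask s ∈ codeMasks := by simp [C]
  rw [← h1, ← h2, heq]

theorem p4 (A B C D : Prop) (h : A ∨ B ∨ C ∨ D) : B ∨ A ∨ D ∨ C := by
  rcases h with h | h | h | h <;> simp [h]

theorem q4 (A B C D : Prop) (h : A ∨ B ∨ C ∨ D) : C ∨ D ∨ A ∨ B := by
  rcases h with h | h | h | h <;> simp [h]

/-- the pairs and the table -/
theorem pair_table : ∀ s : Finset GolayPt, s.card = 2 → phN s < 2048 ∧ Chk.tb Dat.tXor (phN s) = true := by
  intro s hs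
  obtain ⟨p, q, hpq, rfl⟩ := Finset.card_eq_two.1 hs
  refine ⟨phN_lt _, ?_⟩
  rw [insert_symm (by simpa using hpq), phN_symm, (pt_facts p).2.1, (pt_facts q).2.1]
  have key : ∀ a b : Fin 24, a ≠ b → Chk.tb Dat.tXor (Dat.ptP.getD a.val 0 ^^^ Dat.ptP.getD b.val 0) = true := by
    decide +kernel
  exact key ⟨idx p, idx_lt p⟩ ⟨idx q, idx_lt q⟩ fun e => hpq (idx_injective (congrArg Fin.val e))

theorem pair_inj : ∀ s t : Finset GolayPt, s.card = 2 → t.card = 2 → phN s = phN t → s = t := by
  intro s t hs ht e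
  have h : phQ (symmDiff s t) = 0 := by
    rw [phQ_symm, phQ_eq, phQ_eq, hs, ht, e, Nat.xor_self]
  have hw := (phQ_code _).1 h
  have key : ∀ m ∈ codeMasks, m = 0 ∨ 4 < pc m := by decide +kernel
  rcases key _ hw with e0 | e0
  · exact symmDiff_eq_bot.1 (mask_injective (e0.trans (by decide +kernel : (0:ℕ) = mask (⊥ : Finset GolayPt))))
  · rw [pc_mask] at e0
    have := (Finset.card_le_card (symmDiff_le_sup (a := s) (b := t))).trans (Finset.card_union_le s t)
    omega

theorem pair_adj : ∀ s t : Finset GolayPt, s.card = 2 → t.card = 2 → s ≠ t →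
    ((s ∩ t).Nonempty ↔ Chk.tb Dat.tXor (phN s ^^^ phN t) = true) := by
  intro s t hs ht hne
  obtain ⟨p, q, hpq, rfl⟩ := Finset.card_eq_two.1 hs
  obtain ⟨p', q', hpq', rfl⟩ := Finset.card_eq_two.1 ht
  have key : ∀ a b c d : Fin 24, a < b → c < d → ¬ (a = c ∧ b = d) →
      ((a = c ∨ a = d ∨ b = c ∨ b = d) ↔ Chk.tb Dat.tXor
        ((Dat.ptP.getD a.val 0 ^^^ Dat.ptP.getD b.val 0) ^^^ (Dat.ptP.getD c.val 0 ^^^ Dat.ptP.getD d.val 0)) = true) := by
    intro a b c d hab hcd hne
    have h := Chk.adj_ok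
    simp only [Chk.adjOK, List.all_eq_true, List.mem_range, Bool.or_eq_true, Bool.and_eq_true, beq_iff_eq] at h
    have hiff := (h b.val b.2 a.val hab d.val d.2 c.val hcd).resolve_left fun e =>
      hne ⟨Fin.ext (Nat.eq_of_beq_eq_true e.1), Fin.ext (Nat.eq_of_beq_eq_true e.2)⟩
    have hb : ∀ u v : Fin 24, Nat.beq u.val v.val = true ↔ u = v := fun u v =>
      ⟨fun e => Fin.ext (Nat.eq_of_beq_eq_true e), fun e => e ▸ Nat.beq_refl _⟩
    refine Iff.trans ?_ (iff_of_eq (congrArg (fun w => w = true) hiff.symm))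
    simp only [Bool.or_eq_true, hb, or_assoc]
  set a : Fin 24 := ⟨idx p, idx_lt p⟩ with ha
  set b : Fin 24 := ⟨idx q, idx_lt q⟩ with hb
  set c : Fin 24 := ⟨idx p', idx_lt p'⟩ with hc
  set d : Fin 24 := ⟨idx q', idx_lt q'⟩ with hd
  have hsame : ∀ {u v : GolayPt}, (⟨idx u, idx_lt u⟩ : Fin 24) = ⟨idx v, idx_lt v⟩ ↔ u = v := fun {u v} =>
    ⟨fun e => idx_injective (congrArg Fin.val e), fun e => e ▸ rfl⟩
  have hnon : (({p, q} : Finset GolayPt) ∩ {p', q'}).Nonempty ↔ (a = c ∨ a = d ∨ b = c ∨ b = d) := by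
    simp only [ha, hb, hc, hd, hsame]
    constructor
    · rintro ⟨u, hu⟩
      simp only [Finset.mem_inter, Finset.mem_insert, Finset.mem_singleton] at hu
      obtain ⟨rfl | rfl, rfl | rfl⟩ := hu <;> simp
    · rintro (rfl | rfl | rfl | rfl)
      exacts [⟨p, by simp⟩, ⟨p, by simp⟩, ⟨q, by simp⟩, ⟨q, by simp⟩]
  have hne' : ¬ (a = c ∧ b = d) ∧ ¬ (a = d ∧ b = c) := by
    simp only [ha, hb, hc, hd, hsame]
    refine ⟨?_, ?_⟩ <;> rintro ⟨rfl, rfl⟩ <;> exact hne (by first | rfl | exact Finset.pair_comm _ _)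
  have hab : a ≠ b := fun e => hpq (hsame.1 e)
  have hcd : c ≠ d := fun e => hpq' (hsame.1 e)
  rw [hnon, insert_symm (by simpa using hpq), insert_symm (by simpa using hpq'), phN_symm, phN_symm,
    (pt_facts p).2.1, (pt_facts q).2.1, (pt_facts p').2.1, (pt_facts q').2.1]
  change _ ↔ Chk.tb Dat.tXor ((Dat.ptP.getD a.val 0 ^^^ Dat.ptP.getD b.val 0) ^^^
    (Dat.ptP.getD c.val 0 ^^^ Dat.ptP.getD d.val 0)) = true
  rcases lt_or_gt_of_ne hab with h1 | h1 <;> rcases lt_or_gt_of_ne hcd with h2 | h2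
  · exact key a b c d h1 h2 hne'.1
  · rw [Nat.xor_comm (Dat.ptP.getD c.val 0), ← key a b d c h1 h2 hne'.2]
    exact ⟨p4 (a = c) (a = d) (b = c) (b = d), p4 (a = d) (a = c) (b = d) (b = c)⟩
  · rw [Nat.xor_comm (Dat.ptP.getD a.val 0), ← key b a c d h1 h2 fun h => hne'.2 ⟨h.2, h.1⟩]
    exact ⟨q4 (a = c) (a = d) (b = c) (b = d), q4 (b = c) (b = d) (a = c) (a = d)⟩
  · rw [Nat.xor_comm (Dat.ptP.getD a.val 0), Nat.xor_comm (Dat.ptP.getD c.val 0),
      ← key b a d c h1 h2 fun h => hne'.1 ⟨h.2, h.1⟩]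
    exact ⟨fun h => p4 _ _ _ _ (q4 _ _ _ _ h), fun h => q4 _ _ _ _ (p4 _ _ _ _ h)⟩

/-! ### the action on points -/

universe u

variable {G : Type u} [Group G] [Finite G]

/-- the coordinates of an elementary abelian subgroup by sets of points -/
structure PointModel (z : G) (A : Subgroup G) (ψ : ℕ → G) : Prop where
  mem : ∀ n, n < 2048 → ψ n ∈ A
  surj : ∀ r ∈ A, ∃ n < 2048, ψ n = r
  mul : ∀ a b, a < 2048 → b < 2048 → ψ (a ^^^ b) = ψ a * ψ b
  inj : ∀ a b, a < 2048 → b < 2048 → ψ a = ψ b → a = b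
  cls : ∀ n, n < 2048 → (iT z (ψ n) ↔ Chk.tb Dat.tXor n = true)

variable {z : G} {A : Subgroup G} {ψ : ℕ → G} (m : PointModel z A ψ)

/-- a permutation of the points describing an element -/
def Des (ψ : ℕ → G) (y : G) (σ : Equiv.Perm GolayPt) : Prop :=
  ∀ s : Finset GolayPt, s.card = 2 → y * ψ (phN s) * y⁻¹ = ψ (phN (σ • s))

include m

theorem PointModel.one : ψ 0 = 1 := by
  have h := m.mul 0 0 (by norm_num) (by norm_num)
  rw [Nat.xor_self] at h
  exact left_eq_mul.1 h

theorem PointModel.sq (a : ℕ) (ha : a < 2048) : ψ a * ψ a = 1 := by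
  rw [← m.mul a a ha ha, Nat.xor_self, m.one]

theorem PointModel.eq_pair {n : ℕ} (hn : n < 2048) (h : Chk.tb Dat.tXor n = true) :
    ∃ s : Finset GolayPt, s.card = 2 ∧ phN s = n := by
  classical
  set P : Finset (Finset GolayPt) := Finset.univ.powersetCard 2
  have hP : P.card = 276 := by
    rw [Finset.card_powersetCard, Finset.card_univ, Fintype.card_option, ZMod.card]
    rfl
  have h276 : ((Finset.range 2048).filter fun t => Chk.tb Dat.tXor t = true).card = 276 := by
    rw [← List.toFinset_range, ← List.toFinset_filter, List.toFinset_card_of_nodup (List.nodup_range.filter _),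
      List.filter_congr (q := fun t => Chk.tb Dat.tXor t) fun t _ => by simp]
    exact Nat.eq_of_beq_eq_true Chk.pair_ok
  have himg : P.image phN = (Finset.range 2048).filter fun t => Chk.tb Dat.tXor t = true := by
    refine Finset.eq_of_subset_of_card_le (fun v hv => ?_) ?_
    · obtain ⟨s, hs, rfl⟩ := Finset.mem_image.1 hv
      obtain ⟨-, hs2⟩ := Finset.mem_powersetCard.1 hs
      exact Finset.mem_filter.2 ⟨Finset.mem_range.2 (pair_table s hs2).1, (pair_table s hs2).2⟩
    · rw [h276, Finset.card_image_of_injOn fun s hs t ht e => pair_inj s t (Finset.mem_powersetCard.1 hs).2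
        (Finset.mem_powersetCard.1 ht).2 e, hP]
  obtain ⟨s, hs, e⟩ := Finset.mem_image.1 (himg ▸ Finset.mem_filter.2 ⟨Finset.mem_range.2 hn, h⟩ : n ∈ P.image phN)
  exact ⟨s, (Finset.mem_powersetCard.1 hs).2, e⟩

/-- an element of the normaliser permutes the points -/
theorem PointModel.exists_des {y : G} (hy : y ∈ Subgroup.normalizer (A : Set G)) : ∃ σ, Des ψ y σ := by
  classical
  have hAy := Subgroup.mem_normalizer_iff.1 hy
  -- permutation of the pairs
  have hex : ∀ s : Finset GolayPt, s.card = 2 → ∃ t : Finset GolayPt, t.card = 2 ∧ y * ψ (phN s) * y⁻¹ = ψ (phN t) := by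
    intro s hs
    obtain ⟨n, hn, e⟩ := m.surj _ ((hAy _).1 (m.mem _ (phN_lt s)))
    have hT : iT z (ψ n) := by
      rw [e, iT_conj]; exact (m.cls _ (phN_lt s)).2 (pair_table s hs).2
    obtain ⟨t, ht, et⟩ := m.eq_pair hn ((m.cls n hn).1 hT)
    exact ⟨t, ht, by rw [et, e]⟩
  choose! π hπc hπ using hex
  have hπinj : ∀ s t : Finset GolayPt, s.card = 2 → t.card = 2 → π s = π t → s = t := by
    intro s t hs ht e
    refine pair_inj s t hs ht (m.inj _ _ (phN_lt s) (phN_lt t) ?_)
    exact mul_left_cancel (mul_right_cancel ((hπ s hs).trans ((congrArg _ (congrArg _ e)).trans (hπ t ht).symm)))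
  have hmeet : ∀ s t : Finset GolayPt, s.card = 2 → t.card = 2 → s ≠ t → (s ∩ t).Nonempty → (π s ∩ π t).Nonempty := by
    intro s t hs ht hne hmt
    refine (pair_adj _ _ (hπc s hs) (hπc t ht) fun e => hne (hπinj s t hs ht e)).2 ?_
    refine (m.cls _ (Nat.xor_lt_two_pow (n := 11) (phN_lt _) (phN_lt _))).1 ?_
    rw [m.mul _ _ (phN_lt _) (phN_lt _), ← hπ s hs, ← hπ t ht, conj_mul, iT_conj, ← m.mul _ _ (phN_lt _) (phN_lt _)]
    exact (m.cls _ (Nat.xor_lt_two_pow (n := 11) (phN_lt _) (phN_lt _))).2 ((pair_adj s t hs ht hne).1 hmt)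
  -- stars
  set star : GolayPt → Finset (Finset GolayPt) := fun a =>
    (Finset.univ.erase a).image fun b => ({a, b} : Finset GolayPt)
  have hstar : ∀ a s, s ∈ star a ↔ s.card = 2 ∧ a ∈ s := by
    intro a s
    simp only [star, Finset.mem_image, Finset.mem_erase, Finset.mem_univ, and_true]
    constructor
    · rintro ⟨b, hb, rfl⟩
      exact ⟨Finset.card_pair (Ne.symm hb), by simp⟩
    · rintro ⟨hs, ha⟩
      obtain ⟨u, v, huv, rfl⟩ := Finset.card_eq_two.1 hs
      simp only [Finset.mem_insert, Finset.mem_singleton] at ha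
      rcases ha with rfl | rfl
      · exact ⟨v, Ne.symm huv, rfl⟩
      · exact ⟨u, huv, Finset.pair_comm _ _⟩
  have hcard : ∀ a, (star a).card = 23 := by
    intro a
    rw [Finset.card_image_of_injOn fun b hb b' hb' e => ?_, Finset.card_erase_of_mem (Finset.mem_univ a),
      Finset.card_univ, Fintype.card_option, ZMod.card]
    have h1 : b ∈ ({a, b'} : Finset GolayPt) := by
      have e' : ({a, b} : Finset GolayPt) = {a, b'} := e
      rw [← e']; simp
    simp only [Finset.mem_insert, Finset.mem_singleton] at h1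
    exact h1.resolve_left (Finset.ne_of_mem_erase hb)
  have hcenter : ∀ a, ∃ c, ∀ s, s.card = 2 → a ∈ s → c ∈ π s := by
    intro a
    have hcardI : ((star a).image π).card = 23 := by
      rw [Finset.card_image_of_injOn fun s hs t ht e =>
        hπinj s t ((hstar a s).1 hs).1 ((hstar a t).1 ht).1 e, hcard]
    obtain ⟨c, hc⟩ := Code24.star_of_meet ((star a).image π) (by
        simp only [Finset.mem_image]
        rintro _ ⟨s, hs, rfl⟩
        exact hπc s ((hstar a s).1 hs).1) (by
        simp only [Finset.mem_image]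
        rintro _ ⟨s, hs, rfl⟩ _ ⟨t, ht, rfl⟩ hne
        exact hmeet s t ((hstar a s).1 hs).1 ((hstar a t).1 ht).1 (fun e => hne (by rw [e]))
          ⟨a, Finset.mem_inter.2 ⟨((hstar a s).1 hs).2, ((hstar a t).1 ht).2⟩⟩) (by omega)
    exact ⟨c, fun s hs ha => hc _ (Finset.mem_image_of_mem π ((hstar a s).2 ⟨hs, ha⟩))⟩
  choose c hc using hcenter
  have hcinj : Function.Injective c := by
    intro a b e
    by_contra hab
    -- the two stars land in one
    have hsub : (star a ∪ star b).image π ⊆ star (c a) := by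
      intro t ht
      obtain ⟨s, hs, rfl⟩ := Finset.mem_image.1 ht
      rcases Finset.mem_union.1 hs with hs | hs <;> obtain ⟨h2, hmem⟩ := (hstar _ s).1 hs
      · exact (hstar _ _).2 ⟨hπc s h2, hc a s h2 hmem⟩
      · exact (hstar _ _).2 ⟨hπc s h2, e ▸ hc b s h2 hmem⟩
    have h1 := Finset.card_le_card hsub
    rw [Finset.card_image_of_injOn fun s hs t ht e => ?_, hcard] at h1
    · have hinter : star a ∩ star b ⊆ {({a, b} : Finset GolayPt)} := by
        intro s hs
        obtain ⟨h, h'⟩ := Finset.mem_inter.1 hs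
        obtain ⟨h2, ha⟩ := (hstar a s).1 h
        obtain ⟨-, hb⟩ := (hstar b s).1 h'
        rw [Finset.mem_singleton]
        exact (Finset.eq_of_subset_of_card_le (Finset.insert_subset ha (Finset.singleton_subset_iff.2 hb))
          (by rw [h2, Finset.card_pair hab])).symm
      have h2 := Finset.card_union_add_card_inter (star a) (star b)
      have h3 := Finset.card_le_card hinter
      rw [hcard, hcard] at h2
      rw [Finset.card_singleton] at h3
      omega
    · refine hπinj s t ?_ ?_ e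
      · rcases Finset.mem_union.1 hs with h | h <;> exact ((hstar _ s).1 h).1
      · rcases Finset.mem_union.1 ht with h | h <;> exact ((hstar _ t).1 h).1
  refine ⟨Equiv.ofBijective c (Finite.injective_iff_bijective.1 hcinj), fun s hs => ?_⟩
  rw [hπ s hs]
  congr 2
  obtain ⟨u, v, huv, rfl⟩ := Finset.card_eq_two.1 hs
  rw [Finset.smul_finset_def, Finset.image_insert, Finset.image_singleton]
  refine (Finset.eq_of_subset_of_card_le ?_ (le_of_eq ?_)).symm
  · exact Finset.insert_subset (hc u _ hs (by simp)) (Finset.singleton_subset_iff.2 (hc v _ hs (by simp)))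
  · rw [hπc _ hs, Finset.card_pair]
    exact fun e => huv (hcinj e)

theorem PointModel.des_unique {y : G} {σ τ : Equiv.Perm GolayPt} (h : Des ψ y σ) (h' : Des ψ y τ) : σ = τ := by
  have hs : ∀ s : Finset GolayPt, s.card = 2 → σ • s = τ • s := fun s hs =>
    pair_inj _ _ (by rw [Finset.card_smul_finset, hs]) (by rw [Finset.card_smul_finset, hs])
      (m.inj _ _ (phN_lt _) (phN_lt _) ((h s hs).symm.trans (h' s hs)))
  refine Equiv.ext fun a => ?_
  by_contra hne
  obtain ⟨b, -, hb⟩ : ∃ b ∈ (Finset.univ : Finset GolayPt), b ∉ ({a, σ.symm (τ a)} : Finset GolayPt) := by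
    refine Finset.exists_mem_notMem_of_card_lt_card ?_
    rw [Finset.card_univ, Fintype.card_option, ZMod.card]
    exact (Finset.card_le_two).trans_lt (by norm_num)
  simp only [Finset.mem_insert, Finset.mem_singleton, not_or] at hb
  have h2 := hs {a, b} (Finset.card_pair (Ne.symm hb.1))
  have hm : τ a ∈ σ • ({a, b} : Finset GolayPt) := by
    rw [h2]
    exact Finset.smul_mem_smul_finset (show a ∈ ({a, b} : Finset GolayPt) by simp)
  rw [Finset.smul_finset_def, Finset.mem_image] at hm
  obtain ⟨w, hw, e⟩ := hm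
  simp only [Finset.mem_insert, Finset.mem_singleton] at hw
  rcases hw with rfl | rfl
  · exact hne e
  · exact hb.2 (σ.eq_symm_apply.2 e)

theorem PointModel.des_set {y : G} {σ : Equiv.Perm GolayPt} (h : Des ψ y σ) (s : Finset GolayPt) :
    y * ψ (phN s) * y⁻¹ = ψ (phN (σ • s)) * ψ (phN {σ none}) ^ s.card := by
  have hcomm : ∀ a b, a < 2048 → b < 2048 → ψ a * ψ b = ψ b * ψ a := fun a b ha hb => by
    rw [← m.mul a b ha hb, Nat.xor_comm, m.mul b a hb ha]
  induction s using Finset.induction_on with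
  | empty => rw [Finset.smul_finset_empty, phN_empty.1, m.one, Finset.card_empty, pow_zero]; group
  | insert p s hp ih =>
    have hone : y * ψ (phN {p}) * y⁻¹ = ψ (phN {σ p}) * ψ (phN {σ none}) := by
      by_cases e : p = none
      · subst e
        rw [phN_none, m.one, m.sq _ (phN_lt _)]
        group
      · have h2 := h {p, none} (Finset.card_pair e)
        rw [Finset.smul_finset_def, Finset.image_insert, Finset.image_singleton,
          insert_symm (by simpa using e), phN_symm, phN_none, Nat.xor_zero,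
          insert_symm (show σ • p ∉ ({σ • (none : GolayPt)} : Finset GolayPt) by
            rw [Finset.mem_singleton]; exact fun h => e (σ.injective h)), phN_symm,
          m.mul _ _ (phN_lt _) (phN_lt _)] at h2
        exact h2
    have hσ : σ • insert p s = symmDiff {σ p} (σ • s) := by
      rw [Finset.smul_finset_def, Finset.image_insert, insert_symm]
      · rfl
      · rw [Finset.mem_image]
        rintro ⟨q, hq, e⟩
        exact hp (σ.injective e ▸ hq)
    rw [hσ, insert_symm hp, phN_symm, phN_symm, m.mul _ _ (phN_lt _) (phN_lt _), m.mul _ _ (phN_lt _) (phN_lt _),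
      ← conj_mul, hone, ih, ← insert_symm hp, Finset.card_insert_of_notMem hp, pow_succ]
    set a := ψ (phN {σ p})
    set b := ψ (phN (σ • s))
    set c := ψ (phN {σ none})
    have hcb : Commute c b := hcomm _ _ (phN_lt _) (phN_lt _)
    calc a * c * (b * c ^ s.card) = a * (c * b) * c ^ s.card := by group
      _ = a * (b * c) * c ^ s.card := by rw [hcb.eq]
      _ = a * b * (c * c ^ s.card) := by group
      _ = _ := by rw [← pow_succ', pow_succ]

theorem PointModel.des_even {y : G} {σ : Equiv.Perm GolayPt} (h : Des ψ y σ) {s : Finset GolayPt}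
    (hs : Even s.card) : y * ψ (phN s) * y⁻¹ = ψ (phN (σ • s)) := by
  obtain ⟨k, hk⟩ := hs
  rw [m.des_set h, hk, ← two_mul, pow_mul, pow_two, m.sq _ (phN_lt _), one_pow, mul_one]

theorem PointModel.des_mem {y : G} {σ : Equiv.Perm GolayPt} (h : Des ψ y σ) : σ ∈ M24 := by
  refine mem_M24.2 fun b hb => ?_
  have hlt : b < 2 ^ 24 := by revert b hb; decide +kernel
  have hb0 : phQ (ofMask b) = 0 := (phQ_code _).2 (by
    rw [mask_ofMask hlt]; revert b hb; decide +kernel)
  obtain ⟨he, hN⟩ := phQ_zero.1 hb0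
  refine (phQ_code _).1 (phQ_zero.2 ⟨by rwa [Finset.card_smul_finset], ?_⟩)
  have := m.des_even h he
  rw [hN, m.one, mul_one, mul_inv_cancel] at this
  exact m.inj _ _ (phN_lt _) (by norm_num) (this.symm.trans m.one.symm)

theorem PointModel.des_mul {y y' : G} {σ τ : Equiv.Perm GolayPt} (h : Des ψ y σ) (h' : Des ψ y' τ) :
    Des ψ (y * y') (σ * τ) := fun s hs => by
  rw [show y * y' * ψ (phN s) * (y * y')⁻¹ = y * (y' * ψ (phN s) * y'⁻¹) * y⁻¹ by group, h' s hs,
    h _ (by rw [Finset.card_smul_finset, hs]), mul_smul]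

theorem PointModel.des_one {y : G} (h : Des ψ y 1) : ∀ r ∈ A, y * r * y⁻¹ = r := by
  intro r hr
  obtain ⟨n, hn, rfl⟩ := m.surj r hr
  have h' := Chk.sur_ok
  simp only [Chk.surOK, List.all_eq_true, List.mem_range, Bool.and_eq_true] at h'
  obtain ⟨h1, h2⟩ := h' n (by omega)
  set s := ofMask (Chk.app Dat.unitM n)
  have hq : phQ s = n := by
    rw [phQ, mask_ofMask (Nat.le_of_ble_eq_true h1)]; exact Nat.eq_of_beq_eq_true h2
  rw [phQ_eq] at hq
  rcases Nat.mod_two_eq_zero_or_one s.card with e | e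
  · rw [e, mul_zero, Nat.xor_zero] at hq
    have := m.des_even h (Nat.even_iff.2 e)
    rwa [one_smul, hq] at this
  · exfalso
    rw [e, mul_one] at hq
    have h3 := congrArg (fun k => k.testBit 11) hq
    simp only [Nat.testBit_xor, Nat.testBit_lt_two_pow (show phN s < 2 ^ 11 from phN_lt s),
      Nat.testBit_lt_two_pow (show n < 2 ^ 11 from hn)] at h3
    exact absurd h3 (by decide)

omit m

end Cfsg.Agent.Spor.LFT
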