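import Cfsg.Agent.Lib.Spor.JFourSection
import Cfsg.Agent.Lib.Spor.JFourThompChecksA
import Cfsg.Agent.Lib.Spor.LFTMathieu

/-!
Janko four type: coordinates on the largest elementary abelian subgroup and the action of its stabiliser.
-/

set_option autoImplicit false
set_option maxRecDepth 100000
set_option linter.unusedSectionVars false

namespace Cfsg.Agent.Spor.JFour

open Cfsg.Agent.Spor.SUSix (V6 code code_lt vecOf_code)
open Cfsg.Agent.Spor.SpFour (F4)
open Cfsg.Agent.Spor.LFT (fx fx_facts iT iT_conj)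

attribute [local irreducible] Gam Kp Chk.app

theorem linP {p : PV} (hp : p ∈ TS) : AddP p := Gam_addP (TS_le hp)

theorem cols_id : cols (1 : PV) = Chk.idL := cols_one

theorem eL_exists (b : Fin 16) : ∃ p ∈ ES, cols p = Chk.eL b.val := by
  have h := Chk.elem_ok
  simp only [Chk.elemOK, Bool.and_eq_true, List.all_eq_true, List.mem_range, Bool.or_eq_true, List.any_eq_true,
    leq_iff] at h
  by_cases hb : b.val = 0
  · refine ⟨1, one_mem _, ?_⟩
    rw [cols_id, hb]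
    exact (leq_iff.1 (by decide +kernel : Chk.leq (Chk.eL 0) Chk.idL = true)).symm
  · obtain ⟨-, i, hi, he⟩ := (h.1.2 b.val b.2).resolve_left fun e => hb (Nat.eq_of_beq_eq_true e)
    obtain ⟨p, hp, e⟩ := ES_real hi
    exact ⟨p, hp, e.trans he.symm⟩

/-- the sixteen elements of the chosen subgroup -/
noncomputable def elE (b : Fin 16) : PV := (eL_exists b).choose

theorem elE_mem (b : Fin 16) : elE b ∈ ES := (eL_exists b).choose_spec.1

theorem cols_elE (b : Fin 16) : cols (elE b) = Chk.eL b.val := (eL_exists b).choose_spec.2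

theorem addP_elE (b : Fin 16) : AddP (elE b) := linP (ES_le (elE_mem b))

theorem elE_mul (a b : Fin 16) : elE a * elE b = elE (fx a b) := by
  have h := Chk.elem_ok
  simp only [Chk.elemOK, Bool.and_eq_true, List.all_eq_true, List.mem_range, leq_iff] at h
  refine eq_of_cols (linP (ES_le (mul_mem (elE_mem a) (elE_mem b)))) (addP_elE _) ?_
  rw [cols_mul (addP_elE a), cols_elE, cols_elE, cols_elE]
  exact h.1.1 a.val a.2 b.val b.2

theorem elE_zero : elE 0 = 1 := eq_of_cols (addP_elE _) (linP (one_mem _)) (by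
  rw [cols_elE, cols_id]; exact leq_iff.1 (by decide +kernel : Chk.leq (Chk.eL 0) Chk.idL = true))

theorem elE_inj {a b : Fin 16} (h : elE a = elE b) : a = b := by
  by_contra hne
  have h' := Chk.elem_ok
  simp only [Chk.elemOK, Bool.and_eq_true, List.all_eq_true, List.mem_range, Bool.or_eq_true,
    Bool.not_eq_true'] at h'
  have h1 : elE (fx a b) = 1 := by rw [← elE_mul, h, elE_mul, (fx_facts b b).1, elE_zero]
  obtain ⟨h2, -⟩ := (h'.1.2 (fx a b).val (fx a b).2).resolve_left fun e =>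
    (fx_facts a b).2.2.2.2.1 hne (Fin.ext (Nat.eq_of_beq_eq_true e))
  rw [← cols_elE, h1, cols_id, leq_iff.2 rfl] at h2
  simp at h2

theorem elE_surj {e : PV} (he : e ∈ ES) : ∃ b, elE b = e := by
  obtain ⟨heT, rfl | ⟨i, hi, hs⟩⟩ := he
  · exact ⟨0, elE_zero⟩
  have h := Chk.elem_ok
  simp only [Chk.elemOK, Bool.and_eq_true, List.all_eq_true, List.mem_range, List.any_eq_true, leq_iff] at h
  obtain ⟨a, ha, he'⟩ := h.2 i hi
  exact ⟨⟨a, ha⟩, eq_of_cols (addP_elE _) (linP heT) ((cols_elE _).trans (he'.trans hs.symm))⟩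

theorem code_elE (b : Fin 16) (v : V6) : code (elE b v) = Chk.app (Chk.eL b.val) (code v) := by
  rw [app_cols (addP_elE b), cols_elE]

theorem vec_facts (i j : Fin 64) : Chk.uC i.val < 4096 ∧ Chk.uC i.val ∈ Dat.fsL ∧ Nat.xor i.val j.val < 64 ∧
    Chk.uC (Nat.xor i.val j.val) = Chk.uC i.val ^^^ Chk.uC j.val ∧ (Chk.uC i.val = Chk.uC j.val → i = j) := by
  have h := Chk.vec_ok
  simp only [Chk.vecOK, Bool.and_eq_true, List.all_eq_true, List.mem_range, List.any_eq_true, Bool.or_eq_true,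
    Bool.not_eq_true'] at h
  obtain ⟨⟨k, hk, e⟩, hlt⟩ := h.1.2 i.val i.2
  obtain ⟨⟨hx, hadd⟩, hne⟩ := h.2 i.val i.2 j.val j.2
  refine ⟨Nat.le_of_ble_eq_true hlt, (Nat.eq_of_beq_eq_true e) ▸ hk, Nat.le_of_ble_eq_true hx,
    Nat.eq_of_beq_eq_true hadd, fun e' => Fin.ext (hne.elim Nat.eq_of_beq_eq_true fun he => ?_)⟩
  rw [e', Nat.beq_refl] at he
  simp at he

/-- the fixed vectors numbered -/
def elU (i : Fin 64) : V6 := SUSix.vecOf (Chk.uC i.val)

theorem code_elU (i : Fin 64) : code (elU i) = Chk.uC i.val := code_vecOf _ (vec_facts i i).1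

theorem elU_mem (i : Fin 64) : elU i ∈ FS := (FS_facts.1 _).2 (by rw [code_elU]; exact (vec_facts i i).2.1)

theorem elU_inj : Function.Injective elU := fun a b h =>
  (vec_facts a b).2.2.2.2 (by rw [← code_elU, ← code_elU, h])

theorem elU_surj {u : V6} (hu : u ∈ FS) : ∃ i, elU i = u := by
  have h := Chk.vec_ok
  simp only [Chk.vecOK, Bool.and_eq_true, List.all_eq_true, List.mem_range, List.any_eq_true] at h
  obtain ⟨i, hi, e⟩ := h.1.1 _ ((FS_facts.1 u).1 hu)
  exact ⟨⟨i, hi⟩, code_inj ((code_elU _).trans (Nat.eq_of_beq_eq_true e))⟩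

theorem elU_zero : elU 0 = 0 := code_inj ((code_elU 0).trans (by rw [code_zero]; decide +kernel))

theorem elE_fix (b : Fin 16) {u : V6} (hu : u ∈ FS) : elE b u = u := hu _ (elE_mem b)

/-- stabilising the fixed vectors and the chosen subgroup -/
structure Good (p : PV) : Prop where
  kp : p ∈ Kp
  fs : ∀ u ∈ FS, p u ∈ FS
  es : ∀ a : Fin 16, ∃ b : Fin 16, p * elE a = elE b * p

theorem Good.addP {p : PV} (hp : Good p) : AddP p := Gam_addP (Kp_le hp.kp)

theorem Good.one : Good 1 :=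
  ⟨one_mem _, fun _ h => h, fun a => ⟨a, by rw [one_mul, mul_one]⟩⟩

theorem Good.mul {p q : PV} (hp : Good p) (hq : Good q) : Good (p * q) :=
  ⟨mul_mem hp.kp hq.kp, fun u hu => hp.fs _ (hq.fs u hu), fun a => by
    obtain ⟨b, hb⟩ := hq.es a
    obtain ⟨c, hc⟩ := hp.es b
    exact ⟨c, by rw [mul_assoc, hb, ← mul_assoc, hc, mul_assoc]⟩⟩

/-- generators of the stabiliser -/
def gStab (s : ℕ) : PV := wd (Dat.stabW.getD s [])

theorem gStab_spec {s : ℕ} (hs : s < 3) : Good (gStab s) ∧ cols (gStab s) = Chk.gS s := by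
  have h := Chk.stab_ok
  simp only [Chk.stabOK, Chk.cjOK, Bool.and_eq_true, List.all_eq_true, List.mem_range, List.any_eq_true,
    leq_iff] at h
  obtain ⟨⟨hw, hE⟩, hF⟩ := h s hs
  have hw' : ∀ x ∈ Dat.stabW.getD s [], x < 4 := fun x hx => Nat.le_of_ble_eq_true (hw x hx)
  have hk := wd_mem _ hw'
  have hsig := wd_cols (Dat.stabW.getD s []) fun x hx => by have := hw' x hx; omega
  unfold gStab
  refine ⟨⟨hk, fun u hu => (FS_facts.1 _).2 ?_, fun a => ?_⟩, hsig⟩
  · rw [app_cols (wd_addP _), hsig]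
    obtain ⟨v, hv, e⟩ := hF _ ((FS_facts.1 u).1 hu)
    exact (Nat.eq_of_beq_eq_true e) ▸ hv
  · obtain ⟨b, hb, e⟩ := hE a.val a.2
    refine ⟨⟨b, hb⟩, eq_of_cols (Gam_addP (mul_mem (Kp_le hk) (TS_le (ES_le (elE_mem a)))))
      (Gam_addP (mul_mem (TS_le (ES_le (elE_mem _))) (Kp_le hk))) ?_⟩
    rw [cols_mul (wd_addP _), cols_mul (addP_elE _), cols_elE, cols_elE, hsig]
    exact e

/-- value of a word in the generators of the stabiliser -/
def wStab (w : List ℕ) : PV := (w.map gStab).prod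

theorem wStab_spec : ∀ w : List ℕ, (∀ s ∈ w, s < 3) → Good (wStab w) ∧ cols (wStab w) = Chk.wS w
  | [], _ => ⟨Good.one, cols_id⟩
  | s :: w, h => by
    obtain ⟨h1, h2⟩ := gStab_spec (h s (by simp))
    obtain ⟨h3, h4⟩ := wStab_spec w fun x hx => h x (by simp [hx])
    refine ⟨h1.mul h3, ?_⟩
    show cols (gStab s * wStab w) = _
    rw [cols_mul h1.addP, h2, h4]
    rfl

theorem conj_of_cjOK {L : List ℕ} {p : PV} (hp : Good p) (hs : cols p = L) {a b : Fin 16}
    (h : Chk.cjOK L a.val b.val = true) : p * elE a = elE b * p := by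
  refine eq_of_cols (Gam_addP (mul_mem (Kp_le hp.kp) (TS_le (ES_le (elE_mem a)))))
    (Gam_addP (mul_mem (TS_le (ES_le (elE_mem b))) (Kp_le hp.kp))) ?_
  rw [cols_mul hp.addP, cols_mul (addP_elE _), cols_elE, cols_elE, hs]
  exact leq_iff.1 h

theorem exists_toE (b : Fin 16) (hb : b ≠ 0) :
    ∃ p, Good p ∧ cols p = Chk.wS (Dat.toE.getD b.val []) ∧ p * elE 1 = elE b * p := by
  have h := Chk.toE_ok
  simp only [Chk.toEOK, Bool.and_eq_true, List.all_eq_true, List.mem_range, Bool.or_eq_true] at h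
  obtain ⟨hw, hc⟩ := (h b.val b.2).resolve_left fun e => hb (Fin.ext (Nat.eq_of_beq_eq_true e))
  obtain ⟨hg, hs⟩ := wStab_spec (Dat.toE.getD b.val []) fun x hx => Nat.le_of_ble_eq_true (hw x hx)
  exact ⟨_, hg, hs, conj_of_cjOK hg hs hc⟩

theorem pRep_facts : ∀ o, Chk.pRep o < 16 ∧ Chk.pRep o ≠ 0 ∧ Chk.pRep o ≠ 1 := by decide +kernel

theorem exists_toP {a b : Fin 16} (ha : a ≠ 0) (hb : b ≠ 0) (hab : a ≠ b) :
    ∃ p, Good p ∧ ∃ r : Fin 16, r.val = Chk.pRep (Chk.pO a.val b.val) ∧ p * elE 1 = elE a * p ∧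
      p * elE r = elE b * p := by
  have h := Chk.toP_ok
  simp only [Chk.toPOK, Bool.and_eq_true, List.all_eq_true, List.mem_range, Bool.or_eq_true] at h
  obtain ⟨⟨hw, hc⟩, hc'⟩ := (h a.val a.2 b.val b.2).resolve_left fun e => by
    rcases e with (e | e) | e
    · exact ha (Fin.ext (Nat.eq_of_beq_eq_true e))
    · exact hb (Fin.ext (Nat.eq_of_beq_eq_true e))
    · exact hab (Fin.ext (Nat.eq_of_beq_eq_true e))
  obtain ⟨hg, hs⟩ := wStab_spec (Dat.toP.getD (Nat.add (Nat.mul 16 a.val) b.val) []) fun x hx =>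
    Nat.le_of_ble_eq_true (hw x hx)
  exact ⟨_, hg, ⟨_, (pRep_facts _).1⟩, rfl, conj_of_cjOK (a := 1) hg hs hc,
    conj_of_cjOK (a := ⟨_, (pRep_facts _).1⟩) hg hs hc'⟩

universe u

variable {G : Type u} [Group G] [Finite G] {z : G} {Q N : Subgroup G} {x : G}

/-- the part of the largest elementary abelian subgroup inside the extraspecial subgroup -/
def AQset (f : Frame z Q x) : Set G := {a | a ∈ Q ∧ f.vec a ∈ FS}

theorem FS_zero : (0 : V6) ∈ FS := fun _ hp => (linP (ES_le hp)).map_zero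

variable (S : Big z Q N x) (f : Frame z Q x)

include S f

theorem Big.AQ_z : z ∈ AQset f := ⟨S.base.ord.xt.mem, by rw [f.vec_z S.base]; exact FS_zero⟩

theorem Big.AQ_one : (1 : G) ∈ AQset f := ⟨one_mem _, by rw [f.vec_one S.base]; exact FS_zero⟩

theorem Big.AQ_sq' {a : G} (ha : a ∈ AQset f) : a * a = 1 := (f.sq_iff a ha.1).2 (FS_facts.2.2.1 _ ha.2)

theorem Big.AQ_perp {q : G} (hq : q ∈ Q) (h : ∀ a ∈ AQset f, Commute q a) : q ∈ AQset f :=
  ⟨hq, FS_facts.2.2.2 _ fun v hv => by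
    obtain ⟨a, ha, rfl⟩ := f.vec_surj v
    exact f.comm_bv S.base hq ha (h a ⟨ha, hv⟩)⟩

/-- the chosen largest elementary abelian subgroup -/
theorem Big.A0_exists : ∃ A : Subgroup G, Cfsg.IsElementaryAbelian 2 A ∧ Nat.card A = 2 ^ 11 ∧
    (∀ r, r ∈ A ↔ ∃ a ∈ AQset f, ∃ c ∈ AHs S f, r = a * (c : G)) := by
  obtain ⟨A0, hA0e, hA0c, -, -, -, hshape, -⟩ := S.exists_max f
  refine ⟨A0.map (Subgroup.centralizer ({z} : Set G)).subtype, elem_map _ hA0e, by
    rw [Subgroup.card_map_of_injective (Subgroup.subtype_injective _), hA0c], fun r => ⟨?_, ?_⟩⟩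
  · rintro ⟨r0, hr0, rfl⟩
    obtain ⟨a, ha, c, hc, rfl⟩ := (hshape r0).1 hr0
    exact ⟨a, ha, c, hc, rfl⟩
  · rintro ⟨a, ha, c, hc, rfl⟩
    exact ⟨⟨a, S.base.mem_C ha.1⟩ * c, (hshape _).2 ⟨⟨a, S.base.mem_C ha.1⟩, ha, c, hc, rfl⟩, rfl⟩

theorem Big.lift_pair {c c' : Subgroup.centralizer ({z} : Set G)} (hc : Commute c S.base.xC)
    (hc' : Commute c' S.base.xC) (h : f.π c = f.π c') : ∃ s, (c' : G) = (c : G) * zp z s := by
  have h1 : ((c⁻¹ * c' : Subgroup.centralizer ({z} : Set G)) : G) ∈ Q :=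
    (f.ker _).1 (by rw [map_mul, map_inv, h, inv_mul_cancel])
  rcases S.ker f h1 (congrArg Subtype.val (hc.inv_left.mul_left hc').eq) with e | e
  · refine ⟨false, ?_⟩
    rw [zp_false, mul_one]
    exact (inv_mul_eq_one.1 e).symm
  · exact ⟨true, eq_mul_of_inv_mul_eq e⟩

theorem Big.exists_lift (b : Fin 16) : ∃ c ∈ AHs S f, f.π c = elE b := by
  obtain ⟨c, hc, hπ⟩ := S.lift f (ES_Kp (elE_mem b))
  exact ⟨c, ⟨mem_Kx.2 hc, show f.π c ∈ ES from hπ ▸ elE_mem b⟩, hπ⟩

theorem Big.mem_AQset {u : V6} (hu : u ∈ FS) (s : Bool) : sec f u * zp z s ∈ AQset f := by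
  obtain ⟨h1, h2, -⟩ := S.sec_spec f u
  exact ⟨mul_mem h1 (S.zp_mem s), by rw [f.vec_mul _ h1 _ (S.zp_mem s), f.vec_zp S, add_zero, h2]; exact hu⟩

/-- moving by the section -/
theorem Big.twist {c : Subgroup.centralizer ({z} : Set G)} (hc : Commute c S.base.xC) (u v : V6)
    (s : Bool) : sec f v * (sec f u * zp z s * (c : G)) * (sec f v)⁻¹ =
      sec f (u + (v + f.π c v)) *
        zp z (xor s (xor (tB u v) (xor (xor (bB v (f.π c v)) (qB (f.π c v))) (bB u (v + f.π c v))))) * (c : G) := by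
  obtain ⟨hv, vv, -⟩ := S.sec_spec f v
  obtain ⟨hu, -, -⟩ := S.sec_spec f u
  have hm := S.sec_move f u hv
  rw [vv] at hm
  set γ := xor (bB v (f.π c v)) (qB (f.π c v))
  set w := v + f.π c v
  have hzs : Commute (sec f v) (zp z s) := S.zp_commQ s hv
  calc sec f v * (sec f u * zp z s * (c : G)) * (sec f v)⁻¹
      = (sec f v * sec f u * (sec f v)⁻¹) * (sec f v * zp z s * (sec f v)⁻¹) *
          (sec f v * (c : G) * (sec f v)⁻¹) := by group
    _ = (sec f u * zp z (tB u v)) * zp z s * (sec f w * zp z γ * (c : G)) := by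
      rw [hm, hzs.eq, mul_inv_cancel_right, S.sec_twist f hc]
    _ = sec f u * (zp z (tB u v) * zp z s * sec f w) * (zp z γ * (c : G)) := by group
    _ = sec f u * (sec f w * (zp z (tB u v) * zp z s)) * (zp z γ * (c : G)) := by
      rw [S.zp_mul, (S.zp_commQ _ (S.sec_spec f w).1).eq]
    _ = (sec f u * sec f w) * (zp z (tB u v) * zp z s * zp z γ) * (c : G) := by group
    _ = sec f (u + w) * zp z (bB u w) * zp z (xor (xor (tB u v) s) γ) * (c : G) := by
      rw [S.sec_mul f, S.zp_mul, S.zp_mul]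
    _ = _ := by
      rw [mul_assoc (sec f (u + w)), S.zp_mul]
      congr 2
      cases s <;> cases γ <;> cases tB u v <;> cases bB u w <;> rfl

theorem Big.conj_coord {P c : Subgroup.centralizer ({z} : Set G)} (hP : Commute P S.base.xC) (u : V6)
    (s : Bool) : (P : G) * (sec f u * zp z s * (c : G)) * (P : G)⁻¹ =
      sec f (f.π P u) * zp z s * ((P * c * P⁻¹ : Subgroup.centralizer ({z} : Set G)) : G) := by
  have hPz : Commute (P : G) z := Subgroup.mem_centralizer_singleton_iff.1 P.2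
  calc (P : G) * (sec f u * zp z s * (c : G)) * (P : G)⁻¹
      = ((P : G) * sec f u * (P : G)⁻¹) * ((P : G) * zp z s * (P : G)⁻¹) * ((P : G) * (c : G) * (P : G)⁻¹) := by
        group
    _ = _ := by rw [S.sec_conj f hP, (S.zp_comm s hPz).eq, mul_inv_cancel_right]; rfl

/-- lifts of stabilising elements keep the lifts -/
theorem Big.good_AH {P c : Subgroup.centralizer ({z} : Set G)} (hP : Commute P S.base.xC)
    (hg : Good (f.π P)) (hc : c ∈ AHs S f) : P * c * P⁻¹ ∈ AHs S f := by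
  refine ⟨mem_Kx.2 ((hP.mul_left (mem_Kx.1 hc.1)).mul_left hP.inv_left), ?_⟩
  show f.π (P * c * P⁻¹) ∈ ES
  obtain ⟨a, ha⟩ := elE_surj (show f.π c ∈ ES from hc.2)
  obtain ⟨b, hb⟩ := hg.es a
  rw [map_mul, map_mul, map_inv, show f.π c = elE a from ha.symm, hb, mul_inv_cancel_right]
  exact elE_mem b

omit f in
/-- elementary abelian subgroups of order 2^11 in a 2-subgroup -/
theorem Big.big_unique (f : Frame z Q x) {P : Subgroup G} (hP : IsPGroup 2 P) {B B' : Subgroup G} (hB : B ≤ P)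
    (hB' : B' ≤ P) (he : Cfsg.IsElementaryAbelian 2 B) (he' : Cfsg.IsElementaryAbelian 2 B')
    (hc : Nat.card B = 2 ^ 11) (hc' : Nat.card B' = 2 ^ 11) : B = B' := by
  haveI : Fact (Nat.Prime 2) := ⟨Nat.prime_two⟩
  obtain ⟨T, hT⟩ := hP.exists_le_sylow
  exact (S.elem_unique f T).unique ⟨hB.trans hT, he, hc⟩ ⟨hB'.trans hT, he', hc'⟩

omit f in
/-- the normaliser controls fusion -/
theorem Big.control (f : Frame z Q x) {A : Subgroup G} (hA : Cfsg.IsElementaryAbelian 2 A)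
    (hAc : Nat.card A = 2 ^ 11) {a g : G} (ha : a ∈ A) (hga : g * a * g⁻¹ ∈ A) :
    ∃ m ∈ Subgroup.normalizer (A : Set G), m * a * m⁻¹ = g * a * g⁻¹ := by
  haveI : Fact (Nat.Prime 2) := ⟨Nat.prime_two⟩
  set C := Subgroup.centralizer ({a} : Set G) with hC
  set A' := A.map (MulAut.conj g⁻¹).toMonoidHom with hA'
  have hA'e := elem_map (MulAut.conj g⁻¹).toMonoidHom hA
  have hA'c : Nat.card A' = 2 ^ 11 := by
    rw [hA', Subgroup.card_map_of_injective (MulAut.conj g⁻¹).injective, hAc]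
  have hle : ∀ (D : Subgroup G), Cfsg.IsElementaryAbelian 2 D → a ∈ D → D ≤ C := fun D hD had d hd =>
    Subgroup.mem_centralizer_singleton_iff.2 (congrArg Subtype.val (hD.1.is_comm.comm (⟨d, hd⟩ : D) ⟨a, had⟩))
  have haA' : a ∈ A' := ⟨g * a * g⁻¹, hga, by show g⁻¹ * (g * a * g⁻¹) * g⁻¹⁻¹ = a; group⟩
  have hAC := hle A hA ha
  have hA'C := hle A' hA'e haA'
  have key : ∀ D : Subgroup G, D ≤ C → Nat.card D = 2 ^ 11 → IsPGroup 2 (D.subgroupOf C) := fun D hD hc =>
    IsPGroup.of_card ((Nat.card_congr (Subgroup.subgroupOfEquivOfLe hD).toEquiv).trans hc)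
  obtain ⟨P1, hP1⟩ := (key A hAC hAc).exists_le_sylow
  obtain ⟨P2, hP2⟩ := (key A' hA'C hA'c).exists_le_sylow
  obtain ⟨c, hc⟩ := MulAction.exists_smul_eq C P1 P2
  set A1 := A.map (MulAut.conj (c : G)).toMonoidHom with hA1
  have hpg : IsPGroup 2 ((P2 : Subgroup C).map C.subtype) := IsPGroup.map P2.isPGroup' _
  have h2 : A' ≤ (P2 : Subgroup C).map C.subtype := fun d hd => ⟨⟨d, hA'C hd⟩, hP2 hd, rfl⟩
  have h1 : A1 ≤ (P2 : Subgroup C).map C.subtype := by
    rintro _ ⟨d, hd, rfl⟩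
    refine ⟨c * ⟨d, hAC hd⟩ * c⁻¹, ?_, rfl⟩
    rw [← hc, Sylow.coe_subgroup_smul]
    exact ⟨_, hP1 hd, rfl⟩
  have heq : A1 = A' := S.big_unique f hpg h1 h2 (elem_map _ hA) hA'e
    (by rw [hA1, Subgroup.card_map_of_injective (MulAut.conj (c : G)).injective, hAc]) hA'c
  refine ⟨g * c, Subgroup.mem_normalizer_iff.2 fun d => ?_, ?_⟩
  · have e1 : (c : G) * d * (c : G)⁻¹ ∈ A1 ↔ d ∈ A := by
      rw [hA1, Subgroup.mem_map_equiv, MulAut.conj_symm_apply]
      rw [show (c : G)⁻¹ * ((c : G) * d * (c : G)⁻¹) * c = d by group]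
    rw [← e1, heq, hA', Subgroup.mem_map_equiv, MulAut.conj_symm_apply]
    rw [show g⁻¹⁻¹ * ((c : G) * d * (c : G)⁻¹) * g⁻¹ = g * c * d * (g * (c : G))⁻¹ by group]
  · rw [show g * (c : G) * a * (g * (c : G))⁻¹ = g * ((c : G) * a * (c : G)⁻¹) * g⁻¹ by group,
      (Subgroup.mem_centralizer_singleton_iff.1 c.2), mul_inv_cancel_right]

end Cfsg.Agent.Spor.JFour
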