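import Cfsg.Agent.Lib.Spor.JFourHexChecks
import Cfsg.Agent.Lib.Spor.JFourThompBase

/-!
Janko four type: the seventy-seven translates of the fixed subspace in the model.
-/

set_option autoImplicit false
set_option maxRecDepth 100000

namespace Cfsg.Agent.Spor.JFour

open Cfsg.Agent.Spor.SUSix (V6 code code_lt vecOf_code)

attribute [local irreducible] Gam Kp Chk.app

theorem foldl_lor (g : ℕ → ℕ) : ∀ (L : List ℕ) (m n : ℕ),
    (L.foldl (fun m k => Nat.lor m (Nat.shiftLeft 1 (g k))) m).testBit n = true ↔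
      m.testBit n = true ∨ ∃ k ∈ L, g k = n
  | [], m, n => by simp
  | a :: L, m, n => by
    rw [List.foldl_cons, foldl_lor g L]
    show ((m ||| 1 <<< g a).testBit n = true ∨ _) ↔ _
    rw [Nat.testBit_or, Nat.one_shiftLeft, Nat.testBit_two_pow, Bool.or_eq_true, decide_eq_true_iff, or_assoc]
    simp

/-- a translate of the fixed subspace -/
def Hx (j : ℕ) : Set V6 := {v | Chk.tb (Chk.hM j) (code v) = true}

/-- the element of a translate -/
def hxP (j : ℕ) : PV := wd (Dat.hexW.getD j [])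

theorem hxP_cols {j : ℕ} (hj : j < 77) : cols (hxP j) = Chk.hC j := by
  have h := Chk.hex_clos
  simp only [Chk.hexClosOK, Bool.and_eq_true, List.all_eq_true, List.mem_range] at h
  exact wd_cols _ fun s hs => Nat.le_of_ble_eq_true ((h.1.2 j hj).1 s hs)

theorem Hx_eq {j : ℕ} (hj : j < 77) : hxP j '' FS = Hx j := by
  have h := Chk.hex_clos
  simp only [Chk.hexClosOK, Bool.and_eq_true, List.all_eq_true, List.mem_range] at h
  have hM := Nat.eq_of_beq_eq_true (h.1.2 j hj).2
  ext v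
  show _ ↔ Chk.tb (Chk.hM j) (code v) = true
  rw [tb_testBit, hM, foldl_lor]
  simp only [Nat.zero_testBit, Bool.false_eq_true, false_or]
  constructor
  · rintro ⟨u, hu, rfl⟩
    exact ⟨code u, (FS_facts.1 u).1 hu, by rw [← hxP_cols hj, ← app_cols (show AddP (hxP j) from wd_addP _)]⟩
  · rintro ⟨k, hk, e⟩
    have hlt : k < 4096 := (show ∀ u ∈ Dat.fsL, u < 4096 by decide +kernel) k hk
    refine ⟨SUSix.vecOf k, (FS_facts.1 _).2 (by rw [code_vecOf k hlt]; exact hk), code_inj ?_⟩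
    rw [app_cols (show AddP (hxP j) from wd_addP _), hxP_cols hj, code_vecOf k hlt, e]

theorem Hx_card {j : ℕ} (hj : j < 77) : (Hx j).ncard = 64 := by
  rw [← Hx_eq hj, Set.ncard_image_of_injective _ (hxP j).injective, FS_facts.2.1]

theorem Hx_zero : Hx 0 = FS := by
  have h := Chk.hex_clos
  simp only [Chk.hexClosOK, Bool.and_eq_true] at h
  have e : hxP 0 = 1 := eq_of_cols (wd_addP _) AddP.one
    (by rw [hxP_cols (by norm_num), cols_one]; exact leq_iff.1 h.1.1.2)
  rw [← Hx_eq (by norm_num), e]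
  exact Set.image_id _

theorem Hx_step (s : Fin 5) {j : ℕ} (hj : j < 77) : ∃ k < 77, gP s '' Hx j = Hx k := by
  have h := Chk.hex_clos
  simp only [Chk.hexClosOK, Bool.and_eq_true, List.all_eq_true, List.mem_range, List.any_eq_true] at h
  obtain ⟨k, hk, hall⟩ := h.2 s.val s.2 j hj
  refine ⟨k, hk, Set.eq_of_subset_of_ncard_le ?_ ?_⟩
  · rw [← Hx_eq hj, Set.image_image]
    rintro _ ⟨u, hu, rfl⟩
    show Chk.tb _ _ = true
    rw [(gP_spec s).2.2, app_cols (show AddP (hxP j) from wd_addP _), hxP_cols hj]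
    exact hall _ ((FS_facts.1 u).1 hu)
  · rw [Hx_card hk, Set.ncard_image_of_injective _ (gP s).injective, Hx_card hj]

theorem Hx_orbit {p : PV} (hp : p ∈ Gam) : ∀ j < 77, ∃ k < 77, p '' Hx j = Hx k := by
  have hgen : ∀ p ∈ Kp, ∀ j < 77, ∃ k < 77, p '' Hx j = Hx k := by
    intro p hp
    rw [← Subgroup.mem_toSubmonoid, Kp, Subgroup.closure_toSubmonoid_of_finite] at hp
    induction hp using Submonoid.closure_induction with
    | mem g hg => rcases hg with rfl | rfl | rfl | rfl <;> exact fun j => Hx_step _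
    | one => exact fun j hj => ⟨j, hj, Set.image_id _⟩
    | mul a b _ _ iha ihb =>
      intro j hj
      obtain ⟨k, hk, e⟩ := ihb j hj
      obtain ⟨l, hl, e'⟩ := iha k hk
      exact ⟨l, hl, by rw [← e', ← e, Set.image_image]; rfl⟩
  have hp' : p ∈ Kp ∨ eo * p ∈ Kp := by revert hp; unfold Gam; exact id
  rcases hp' with hp' | hp'
  · exact hgen p hp'
  · intro j hj
    obtain ⟨k, hk, e⟩ := hgen _ hp' j hj
    obtain ⟨l, hl, e'⟩ := Hx_step 4 hk
    refine ⟨l, hl, ?_⟩
    rw [← e', ← e, Set.image_image]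
    refine congrArg (· '' Hx j) (funext fun v => ?_)
    show p v = eo (eo (p v))
    rw [← Equiv.Perm.mul_apply, eo_sq]
    rfl

/-- a vector of the longer orbit lies in only one translate -/
theorem Hx_meet {i j : ℕ} (hi : i < 77) (hj : j < 77) {v : V6} (h0 : v ≠ 0) (hA : Chk.isA (code v) = false)
    (hvi : v ∈ Hx i) (hvj : v ∈ Hx j) : i = j := by
  have key : ∀ i j, i < 77 → j < i → v ∈ Hx i → v ∈ Hx j → False := by
    intro i j hi hj hvi hvj
    have h := Chk.hex_meet
    simp only [Chk.hexMeetOK, List.all_eq_true, List.mem_range, Bool.and_eq_true, Bool.or_eq_true,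
      Bool.not_eq_true'] at h
    rw [← Hx_eq hi] at hvi
    obtain ⟨u, hu, e⟩ := hvi
    have h' := (h i hi).2 j hj _ ((FS_facts.1 u).1 hu)
    rw [← hxP_cols hi, ← app_cols (show AddP (hxP i) from wd_addP _), e, hA,
      show Chk.tb (Chk.hM j) (code v) = true from hvj] at h'
    simp only [Bool.false_eq_true, or_false, reduceCtorEq] at h'
    exact h0 (code_inj ((Nat.eq_of_beq_eq_true h').trans code_zero.symm))
  rcases lt_trichotomy i j with h | h | h
  exacts [(key j i hj h hvj hvi).elim, h, (key i j hi h hvi hvj).elim]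

theorem Hx_inj {i j : ℕ} (hi : i < 77) (hj : j < 77) (h : Hx i = Hx j) : i = j := by
  have hc := Chk.hex_meet
  simp only [Chk.hexMeetOK, List.all_eq_true, List.mem_range, Bool.and_eq_true, List.any_eq_true,
    Bool.not_eq_true'] at hc
  obtain ⟨k, hk, h0, hA⟩ := (hc i hi).1
  have hlt : k < 4096 := (show ∀ u ∈ Dat.fsL, u < 4096 by decide +kernel) k hk
  have hv : hxP i (SUSix.vecOf k) ∈ Hx i :=
    Hx_eq hi ▸ ⟨_, (FS_facts.1 _).2 (by rw [code_vecOf k hlt]; exact hk), rfl⟩
  have hcode : code (hxP i (SUSix.vecOf k)) = Chk.app (Chk.hC i) k := by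
    rw [app_cols (show AddP (hxP i) from wd_addP _), hxP_cols hi, code_vecOf k hlt]
  refine Hx_meet hi hj (fun e => ?_) (by rw [hcode]; exact hA) hv (h ▸ hv)
  rw [e, code_zero] at hcode
  rw [← hcode, Nat.beq_refl] at h0
  simp at h0

/-- the stabiliser of the fixed subspace -/
def StF : Subgroup PV where
  carrier := {p | p ∈ Gam ∧ p '' FS = FS}
  one_mem' := ⟨one_mem _, Set.image_id _⟩
  mul_mem' := fun {p q} hp hq => ⟨mul_mem hp.1 hq.1, by
    rw [show ⇑(p * q) = p ∘ q from rfl, Set.image_comp, hq.2, hp.2]⟩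
  inv_mem' := fun {p} hp => ⟨inv_mem hp.1, by
    conv_lhs => rw [← hp.2]
    rw [Set.image_image]
    simp⟩

theorem card_StF (hM : Mdl) : Nat.card StF ≤ 34560 := by
  have h : Nat.card (Fin 77 × StF) ≤ Nat.card Gam := by
    refine Nat.card_le_card_of_injective
      (fun q => (⟨hxP q.1.val * q.2.1, mul_mem (wd_memG _) q.2.2.1⟩ : Gam)) fun a b e => ?_
    have e' : hxP a.1.val * a.2.1 = hxP b.1.val * b.2.1 := congrArg Subtype.val e
    have e'' := congrArg (fun p : PV => p '' FS) e'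
    simp only [Equiv.Perm.coe_mul, Set.image_comp, a.2.2.2, b.2.2.2, Hx_eq a.1.2, Hx_eq b.1.2] at e''
    have h1 : a.1 = b.1 := Fin.ext (Hx_inj a.1.2 b.1.2 e'')
    rw [h1] at e'
    exact Prod.ext h1 (Subtype.ext (mul_left_cancel e'))
  rw [Nat.card_prod, Nat.card_eq_fintype_card (α := Fin 77), Fintype.card_fin, card_Gam hM] at h
  omega

/-- the translate through a vector of the longer orbit is unique -/
theorem FS_unique {p : PV} (hp : p ∈ Gam) {v : V6} (h0 : v ≠ 0) (hA : Chk.isA (code v) = false) (hv : v ∈ FS)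
    (hvp : v ∈ p '' FS) : p ∈ StF := by
  obtain ⟨k, hk, e⟩ := Hx_orbit hp 0 (by norm_num)
  rw [Hx_zero] at e
  refine ⟨hp, ?_⟩
  rw [e, ← Hx_meet (i := 0) (by norm_num) hk h0 hA (Hx_zero ▸ hv) (e ▸ hvp), Hx_zero]

/-- an involution of the chosen subgroup fixes only one translate -/
theorem FS_fixed {p : PV} (hp : p ∈ Gam) {b : Fin 16} (hb : b ≠ 0) (hfix : ∀ u ∈ FS, elE b (p u) = p u) :
    p ∈ StF := by
  obtain ⟨k, hk, e⟩ := Hx_orbit hp 0 (by norm_num)
  rw [Hx_zero] at e
  refine ⟨hp, ?_⟩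
  by_cases hk0 : k = 0
  · rw [e, hk0, Hx_zero]
  exfalso
  have h := Chk.hex_fix
  simp only [Chk.hexFixOK, List.all_eq_true, List.mem_range, Bool.or_eq_true, List.any_eq_true,
    Bool.not_eq_true'] at h
  obtain ⟨v, hv, hne⟩ := (((h b.val b.2).resolve_left (fun e => hb (Fin.ext (Nat.eq_of_beq_eq_true e)))) k hk).resolve_left
    fun e => hk0 (Nat.eq_of_beq_eq_true e)
  obtain ⟨hlt, hF⟩ := (show ∀ v ∈ Dat.fsB, v < 4096 ∧ v ∈ Dat.fsL by decide +kernel) v hv
  have hmem : hxP k (SUSix.vecOf v) ∈ p '' FS := by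
    rw [e, ← Hx_eq hk]
    exact ⟨_, (FS_facts.1 _).2 (by rw [code_vecOf v hlt]; exact hF), rfl⟩
  obtain ⟨u, hu, hpu⟩ := hmem
  have h1 := congrArg code (hfix u hu)
  rw [hpu, code_elE, app_cols (show AddP (hxP k) from wd_addP _), hxP_cols hk, code_vecOf v hlt] at h1
  rw [h1, Nat.beq_refl] at hne
  simp at hne

end Cfsg.Agent.Spor.JFour
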