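import Cfsg.Agent.Lib.Spor.JFourElemDefs
import Cfsg.Agent.Lib.Spor.JFourThompData

/-!
Checkers for the normaliser of the largest elementary abelian subgroup in Janko four type.
-/

set_option autoImplicit false
set_option maxRecDepth 100000

namespace Cfsg.Agent.Spor.JFour.Chk

open Cfsg.Agent.Spor.CC

/-- powers of the scalar -/
def wPow : ℕ → ℕ → ℕ
  | 0, v => v
  | k + 1, v => app cW (wPow k v)

/-- cocycle of the section -/
def bK (u v : ℕ) : Bool :=
  xor (bb (wPow 1 u) v) (xor (bb (wPow 2 u) v) (bb (wPow 2 u) (wPow 1 v)))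

/-- selected unit -/
def selB (b i : ℕ) : List ℕ := bif tb b i then inI (Dat.esB.getD i 0) else idL

/-- the sixteen elements of the chosen subgroup -/
def eL (b : ℕ) : List ℕ := cmul (selB b 0) (cmul (selB b 1) (cmul (selB b 2) (selB b 3)))

/-- selected vector -/
def selV (L : List ℕ) (b i : ℕ) : ℕ := bif tb b i then L.getD i 0 else 0

/-- the sixty-four fixed vectors -/
def uC (b : ℕ) : ℕ :=
  Nat.xor (selV Dat.fsB b 0) (Nat.xor (selV Dat.fsB b 1) (Nat.xor (selV Dat.fsB b 2)
    (Nat.xor (selV Dat.fsB b 3) (Nat.xor (selV Dat.fsB b 4) (selV Dat.fsB b 5)))))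

/-- a generator of the stabiliser -/
def gS (s : ℕ) : List ℕ := evC (Dat.stabW.getD s [])

/-- a word in the generators of the stabiliser -/
def wS (w : List ℕ) : List ℕ := w.foldr (fun s r => cmul (gS s) r) idL

/-- conjugation carries one element to another -/
def cjOK (L : List ℕ) (a b : ℕ) : Bool := leq (cmul L (eL a)) (cmul (eL b) L)

/-- the sixteen elements are the chosen subgroup with exclusive or as product -/
def elemOK : Bool :=
  ((List.range 16).all fun a => (List.range 16).all fun b => leq (cmul (eL a) (eL b)) (eL (Nat.xor a b))) &&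
    ((List.range 16).all fun a => Nat.beq a 0 || (!leq (eL a) idL && Dat.esI.any fun i => leq (eL a) (inI i))) &&
    Dat.esI.all fun i => (List.range 16).any fun a => leq (eL a) (inI i)

/-- the sixty-four vectors are the fixed ones -/
def vecOK : Bool :=
  (Dat.fsL.all fun v => (List.range 64).any fun i => Nat.beq (uC i) v) &&
    ((List.range 64).all fun i => Dat.fsL.any (Nat.beq (uC i)) && Nat.blt (uC i) 4096) &&
    ((List.range 64).all fun i => (List.range 64).all fun j =>
      Nat.blt (Nat.xor i j) 64 && Nat.beq (uC (Nat.xor i j)) (Nat.xor (uC i) (uC j)) &&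
        (Nat.beq i j || !Nat.beq (uC i) (uC j)))

/-- the generators stabilise -/
def stabOK : Bool :=
  (List.range 3).all fun s => ((Dat.stabW.getD s []).all fun x => Nat.blt x 4) &&
    ((List.range 16).all fun a => (List.range 16).any fun b => cjOK (gS s) a b) &&
    Dat.fsL.all fun v => Dat.fsL.any (Nat.beq (app (gS s) v))

/-- transitive on the involutions -/
def toEOK : Bool :=
  (List.range 16).all fun b => Nat.beq b 0 ||
    (((Dat.toE.getD b []).all fun x => Nat.blt x 3) && cjOK (wS (Dat.toE.getD b [])) 1 b)

/-- number of the orbit of a pair -/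
def pO (a b : ℕ) : Bool := tb Dat.pairO (Nat.add (Nat.mul 16 a) b)

/-- second member of the representing pair -/
def pRep (o : Bool) : ℕ := Dat.pairR.getD (bif o then 1 else 0) 0

/-- transitive on each kind of pair -/
def toPOK : Bool :=
  (List.range 16).all fun a => (List.range 16).all fun b => Nat.beq a 0 || Nat.beq b 0 || Nat.beq a b ||
    (let W := Dat.toP.getD (Nat.add (Nat.mul 16 a) b) []
     (W.all fun x => Nat.blt x 3) && cjOK (wS W) 1 a && cjOK (wS W) (pRep (pO a b)) b)

/-- twisting over the first involution -/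
def twist (v : ℕ) : ℕ := Nat.xor v (app (eL 1) v)

/-- sign of twisting -/
def twistS (u v : ℕ) : Bool :=
  xor (bb u v) (xor (xor (bK v (app (eL 1) v)) (qb (app (eL 1) v))) (bK u (twist v)))

/-- every fixed vector is a twist of one of four -/
def coverOK : Bool :=
  ((List.range 64).all fun i =>
    let n := Dat.covB.getD i 0
    Nat.blt (n / 4) 4096 && Nat.beq (uC i)
      (bif Nat.beq (n % 4) 0 then twist (n / 4) else Nat.xor (wPow (n % 4 - 1) Dat.v5c) (twist (n / 4)))) &&
    Nat.blt Dat.covV 4096 && Nat.beq (twist Dat.covV) 0 && twistS Dat.v5c Dat.covV &&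
    Dat.fsL.any (Nat.beq Dat.v5c) && Nat.blt Dat.v5c 4096 &&
    Nat.beq ((List.range 64).filter fun i => Nat.beq (Dat.covB.getD i 0 % 4) 0).length 16

/-- an element of order five -/
def fiveOK : Bool :=
  let h := wS Dat.five
  (Dat.five.all fun x => Nat.blt x 3) && !leq h idL &&
    leq (cmul h (cmul h (cmul h (cmul h h)))) idL

/-- a subgroup of order 27 -/
def subOK27 : Bool :=
  let H := Dat.sub27.map wS
  Nat.beq H.length 27 && (Dat.sub27.all fun w => w.all fun x => Nat.blt x 3) &&
    ((List.range 27).all fun i => (List.range 27).all fun j =>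
      (Nat.beq i j || !leq (H.getD i []) (H.getD j [])) &&
        (List.range 27).any fun k => leq (cmul (H.getD i []) (H.getD j [])) (H.getD k []))

/-- inside the Sylow subgroup only the chosen subgroup fixes all fixed vectors -/
def fixerOK : Bool :=
  (List.range 256).all fun a =>
    !(Dat.fsB.all fun v => Nat.beq (app (sylE a) v) v) || (List.range 16).any fun b => leq (eL b) (sylE a)

/-- product in coordinates -/
def mulR (o : Bool → Bool) (n m : ℕ) : ℕ :=
  let a := n / 128
  let b := m / 128
  let i := n / 2 % 64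
  let j := m / 2 % 64
  let s := xor (xor (Nat.beq (n % 2) 1) (Nat.beq (m % 2) 1))
    (xor (bK (uC i) (uC j))
      (bif Nat.beq a 0 || Nat.beq b 0 || Nat.beq a b then false else o (pO a b)))
  Nat.add (bif s then 1 else 0) (Nat.add (Nat.mul 2 (Nat.xor i j)) (Nat.mul 128 (Nat.xor a b)))

/-- class in coordinates -/
def tR (n : ℕ) : Bool := tb Dat.tRaw n

/-- classes in the fixed vectors -/
def baseOK : Bool :=
  ((List.range 64).all fun i =>
    (tR (Nat.mul 2 i) == (!Nat.beq i 0 && !isA (uC i))) &&
      (tR (Nat.add (Nat.mul 2 i) 1) == (!Nat.beq i 0 && !isA (uC i)))) &&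
    Nat.beq ((List.range 64).filter fun i => !Nat.beq i 0 && !isA (uC i)).length 18

/-- classes over the involutions -/
def classOK : Bool :=
  (List.range 16).all fun b => Nat.beq b 0 ||
    (List.range 64).all fun i =>
      let n := Dat.covB.getD i 0
      let W := wS (Dat.toE.getD b [])
      let v := app W (n / 4)
      let u' := app W (uC i)
      let s := xor (bK v (app (eL b) v)) (qb (app (eL b) v))
      (List.range 64).all fun j => !Nat.beq (uC j) u' ||
        (bif Nat.beq (n % 4) 0 then
          Nat.beq u' (Nat.xor v (app (eL b) v)) &&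
            (tR (Nat.add (bif s then 1 else 0) (Nat.add (Nat.mul 2 j) (Nat.mul 128 b))) &&
            !tR (Nat.add (bif s then 0 else 1) (Nat.add (Nat.mul 2 j) (Nat.mul 128 b))))
        else
          !tR (Nat.add (Nat.mul 2 j) (Nat.mul 128 b)) &&
            !tR (Nat.add 1 (Nat.add (Nat.mul 2 j) (Nat.mul 128 b))))

/-- two adjacent members -/
def cnt (o : Bool → Bool) (s : ℕ) : ℕ := ((List.range 2048).filter fun n => tR n && tR (mulR o n s)).length

/-- the other constants are impossible -/
def constOK : Bool :=
  [(false, false), (false, true), (true, false), (true, true)].all fun p =>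
    let o := fun c : Bool => bif c then p.2 else p.1
    !tR Dat.witS && Nat.beq (cnt o 1) 36 && ((!p.1 && p.2) || !Nat.beq (cnt o Dat.witS) 36)

/-- the constants -/
def oT (c : Bool) : Bool := c

/-- change of basis -/
def cv (n : ℕ) : ℕ := fld Dat.convT 11 n

/-! ### a complement -/

/-- the sixteen elements of the complement -/
def cplE (n : ℕ) : List ℕ :=
  let a := sylE (Dat.cplG.getD 0 0)
  let m := cmul a (sylE (Dat.cplG.getD 1 0))
  cmul (cpow a (n % 2)) (cmul (cpow m (n / 2 % 4)) (cpow (sylE (Dat.cplG.getD 2 0)) (n / 8)))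

/-- relations, independence and the invariant subspace -/
def cplOK : Bool :=
  let a := sylE (Dat.cplG.getD 0 0)
  let b := sylE (Dat.cplG.getD 1 0)
  let t := sylE (Dat.cplG.getD 2 0)
  (Dat.cplG.all fun i => Nat.blt i 256) &&
    linL a && linL b && !linL t && leq (cmul a a) idL && leq (cmul b b) idL && leq (cmul t t) idL &&
    leq (cpow (cmul a b) 4) idL && leq (cmul t a) (cmul a t) && leq (cmul t b) (cmul b t) &&
    leq (sylE (Dat.outI.getD 0 0)) t && leq (sylE (Dat.outI.getD 1 0)) (cmul t a) &&
    leq (sylE (Dat.outI.getD 2 0)) (cmul t b) && ((List.range 16).all fun n => Nat.beq n 0 || !((List.range 16).any fun e => leq (cplE n) (eL e))) &&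
    Nat.beq Dat.cplU.length 64 && Dat.cplU.any (Nat.beq 0) &&
    ((List.range 64).all fun i =>
      let u := Dat.cplU.getD i 0
      Nat.blt u 4096 && !qb u && ((List.range i).all fun j => !Nat.beq u (Dat.cplU.getD j 0)) &&
        (Nat.beq u 0 || !Dat.fsL.any (Nat.beq u)) &&
        ((List.range 64).all fun j =>
          !bK u (Dat.cplU.getD j 0) && Dat.cplU.any (Nat.beq (Nat.xor u (Dat.cplU.getD j 0)))) &&
        (List.range 16).all fun n => Dat.cplU.any (Nat.beq (app (cplE n) u)))

/-- the outer involution in the kernel -/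
def outM : List ℕ := Dat.outR.foldr (fun k r => cmul (kerC.getD k []) r) idL

/-- it is an outer involution, moving as required -/
def outOK : Bool :=
  let img := idL.map fun v => Nat.xor (app outM v) v
  (Dat.outR.all fun k => Nat.blt k Dat.kerW.length) && leq (cmul outM outM) idL && !linL outM &&
    Dat.rowF.all (fun v => Nat.blt v 4096) && (spanL Dat.rowF).all fCond &&
    ((List.range 4096).all fun V => !near (app outM V) V ||
      (spanL (img ++ Dat.rowF)).any (Nat.beq V)) &&
    (List.range 3).all fun i =>
      let C := evC (Dat.outC.getD i [])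
      (Dat.outC.getD i []).all (fun s => Nat.blt s 4) &&
        leq (cmul C outM) (cmul (sylE (Dat.outI.getD i 0)) C)

end Cfsg.Agent.Spor.JFour.Chk
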