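import Cfsg.Agent.Lib.Spor.JFourElemUnique
import Cfsg.Agent.Lib.Spor.JFourThompDefs

/-!
Janko four type: the section of the extraspecial subgroup over the vectors that is equivariant for the centraliser
of the element of order three, and its cocycle.
-/

set_option autoImplicit false
set_option maxRecDepth 100000
set_option linter.unusedSectionVars false

namespace Cfsg.Agent.Spor.JFour

open Cfsg.Agent.Spor.SUSix (V6 code code_lt vecOf_code)
open Cfsg.Agent.Spor.SpFour (F4)
open Cfsg.Agent.Small.Unitary (herm)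

attribute [local irreducible] Gam Kp Chk.app

/-- parity of the quadratic form -/
def qB (v : V6) : Bool := Chk.qb (code v)

/-- commutator form -/
def tB (u v : V6) : Bool := Chk.bb (code u) (code v)

/-- cocycle of the section -/
def bB (u v : V6) : Bool := Chk.bK (code u) (code v)

theorem tB_eq (u v : V6) : tB u v = xor (qB (u + v)) (xor (qB u) (qB v)) := by
  rw [qB, code_add, tB, Chk.bb, qB, qB]
  exact Bool.bne_assoc _ _ _

theorem code_wPow (v : V6) : ∀ k : ℕ, code (F4.w ^ k • v) = Chk.wPow k (code v)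
  | 0 => by rw [pow_zero, one_smul]; rfl
  | k + 1 => by
    rw [pow_succ', mul_smul, code_smw, code_wPow v k]
    rfl

theorem bB_eq (u v : V6) : bB u v =
    xor (tB (F4.w • u) v) (xor (tB (F4.w • (F4.w • u)) v) (tB (F4.w • (F4.w • u)) (F4.w • v))) := by
  simp only [tB, code_smw]
  rfl

universe u

variable {G : Type u} [Group G] [Finite G] {z : G} {Q N : Subgroup G} {x : G}

/-- the central involution or one -/
def zp (z : G) (b : Bool) : G := bif b then z else 1

theorem zp_false (z : G) : zp z false = 1 := rfl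

theorem zp_true (z : G) : zp z true = z := rfl

variable (S : Big z Q N x)

include S

theorem Big.zp_mul (a b : Bool) : zp z a * zp z b = zp z (xor a b) := by
  cases a <;> cases b <;> simp [zp, S.base.ord.xt.sq]

theorem Big.zp_inj {a b : Bool} (h : zp z a = zp z b) : a = b := by
  cases a <;> cases b <;> simp [zp] at h ⊢ <;>
    first
      | exact S.base.ord.xt.ne h
      | exact S.base.ord.xt.ne h.symm

theorem Big.zp_mem (b : Bool) : zp z b ∈ Q := by
  cases b
  exacts [one_mem _, S.base.ord.xt.mem]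

theorem Big.zp_inv (b : Bool) : (zp z b)⁻¹ = zp z b := inv_eq_of_mul_eq_one_right (by
  rw [S.zp_mul, Bool.xor_self]; rfl)

theorem Big.zp_comm (b : Bool) {c : G} (hc : Commute c z) : Commute c (zp z b) := by
  cases b
  exacts [Commute.one_right c, hc]

theorem Big.zp_commQ (b : Bool) {q : G} (hq : q ∈ Q) : Commute q (zp z b) :=
  S.zp_comm b (S.base.ord.xt.cen q hq).symm

theorem Frame.vec_zp (f : Frame z Q x) (b : Bool) : f.vec (zp z b) = 0 := by
  cases b
  exacts [f.vec_one S.base, f.vec_z S.base]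

theorem Frame.sq_zp (f : Frame z Q x) {a : G} (ha : a ∈ Q) : a * a = zp z (qB (f.vec a)) := by
  have h := f.sq_iff a ha
  rw [qb_spec] at h
  cases e : Chk.qb (code (f.vec a)) <;> rw [e] at h
  · rw [h.2 (if_neg Bool.false_ne_true), qB, e]
    rfl
  · rw [qB, e]
    rcases S.base.ord.xt.sq_mem ha with e' | e'
    · have h0 := h.1 e'
      rw [if_pos rfl] at h0
      exact absurd h0 one_ne_zero
    · exact e'

theorem Frame.comm_zp (f : Frame z Q x) {a b : G} (ha : a ∈ Q) (hb : b ∈ Q) :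
    b * a = a * b * zp z (tB (f.vec a) (f.vec b)) := by
  have hab := f.sq_zp S (mul_mem ha hb)
  rw [f.vec_mul a ha b hb] at hab
  obtain ⟨c, hc⟩ : ∃ c, b * a = a * b * zp z c := by
    rcases S.base.ord.xt.comm_mem hb ha with e | e
    · refine ⟨false, ?_⟩
      rw [zp_false, mul_one]
      exact mul_inv_eq_iff_eq_mul.1 (mul_inv_eq_one.1 e)
    · refine ⟨true, ?_⟩
      have h1 := mul_inv_eq_iff_eq_mul.1 (mul_inv_eq_iff_eq_mul.1 e)
      rw [zp_true, h1, mul_assoc, (S.base.ord.xt.cen _ (mul_mem ha hb)).eq]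
  have e2 : a * b * (a * b) = a * a * (b * b) * zp z c := by
    calc a * b * (a * b) = a * (b * a) * b := by group
      _ = a * (a * b * zp z c) * b := by rw [hc]
      _ = a * a * b * (zp z c * b) := by group
      _ = a * a * b * (b * zp z c) := by rw [(S.zp_commQ c hb).eq]
      _ = a * a * (b * b) * zp z c := by group
  rw [f.sq_zp S ha, f.sq_zp S hb, S.zp_mul, S.zp_mul, hab] at e2
  rw [hc, tB_eq, S.zp_inj e2]
  congr 2
  cases qB (f.vec a) <;> cases qB (f.vec b) <;> cases c <;> rfl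

theorem Big.eta_mul (f : Frame z Q x) {a b : G} (ha : a ∈ Q) (hb : b ∈ Q) :
    eta x (a * b) = eta x a * eta x b * zp z (bB (f.vec a) (f.vec b)) := by
  have hxz : Commute x z := S.base.ord.xz
  set a1 := x * a * x⁻¹ with ea1
  set a2 := x * a1 * x⁻¹ with ea2
  set b1 := x * b * x⁻¹ with eb1
  set b2 := x * b1 * x⁻¹ with eb2
  have ha1 : a1 ∈ Q := S.base.ord.normQ x hxz a ha
  have ha2 : a2 ∈ Q := S.base.ord.normQ x hxz a1 ha1
  have hb1 : b1 ∈ Q := S.base.ord.normQ x hxz b hb
  have hb2 : b2 ∈ Q := S.base.ord.normQ x hxz b1 hb1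
  have v1 : f.vec a1 = F4.w • f.vec a := f.vec_xc S.base ha
  have v2 : f.vec a2 = F4.w • (F4.w • f.vec a) := by rw [ea2, f.vec_xc S.base ha1, v1]
  have w1 : f.vec b1 = F4.w • f.vec b := f.vec_xc S.base hb
  have hA := f.comm_zp S ha1 hb
  have hB := f.comm_zp S ha2 hb1
  have hC := f.comm_zp S ha2 hb
  rw [v1] at hA
  rw [v2, w1] at hB
  rw [v2] at hC
  set A := tB (F4.w • f.vec a) (f.vec b)
  set B := tB (F4.w • (F4.w • f.vec a)) (F4.w • f.vec b)
  set C := tB (F4.w • (F4.w • f.vec a)) (f.vec b)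
  have cA : ∀ q ∈ Q, zp z A * q = q * zp z A := fun q hq => (S.zp_commQ A hq).eq.symm
  have cB : ∀ q ∈ Q, zp z B * q = q * zp z B := fun q hq => (S.zp_commQ B hq).eq.symm
  have cC : ∀ q ∈ Q, zp z C * q = q * zp z C := fun q hq => (S.zp_commQ C hq).eq.symm
  have hsplit : ∀ p q : G, x * (p * q) * x⁻¹ = (x * p * x⁻¹) * (x * q * x⁻¹) :=
    fun p q => by group
  show a * b * (x * (a * b) * x⁻¹) * (x * (x * (a * b) * x⁻¹) * x⁻¹) =
    a * a1 * a2 * (b * b1 * b2) * zp z _
  rw [hsplit, ← ea1, ← eb1, hsplit, ← ea2, ← eb2, bB_eq]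
  calc a * b * (a1 * b1) * (a2 * b2) = a * (b * a1) * (b1 * a2) * b2 := by group
    _ = a * (a1 * b * zp z A) * (a2 * b1 * zp z B) * b2 := by rw [hA, hB]
    _ = a * a1 * b * (zp z A * (a2 * b1)) * (zp z B * b2) := by group
    _ = a * a1 * b * (a2 * b1 * zp z A) * (b2 * zp z B) := by rw [cA _ (mul_mem ha2 hb1), cB _ hb2]
    _ = a * a1 * (b * a2) * b1 * (zp z A * b2) * zp z B := by group
    _ = a * a1 * (a2 * b * zp z C) * b1 * (b2 * zp z A) * zp z B := by rw [hC, cA _ hb2]
    _ = a * a1 * a2 * b * (zp z C * (b1 * b2)) * (zp z A * zp z B) := by group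
    _ = a * a1 * a2 * (b * b1 * b2) * (zp z C * (zp z A * zp z B)) := by rw [cC _ (mul_mem hb1 hb2)]; group
    _ = _ := by
      rw [S.zp_mul, S.zp_mul]
      congr 2
      show xor C (xor A B) = xor A (xor C B)
      cases A <;> cases B <;> cases C <;> rfl

theorem Big.eta_zp (f : Frame z Q x) (b : Bool) : eta x (zp z b) = zp z b := by
  have hxz : Commute x z := S.base.ord.xz
  have h : x * zp z b * x⁻¹ = zp z b := by
    rw [(S.zp_comm b hxz).eq, mul_inv_cancel_right]
  rw [eta, h, h, S.zp_mul, S.zp_mul]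
  congr 1
  cases b <;> rfl

theorem Big.eta_add_zp (f : Frame z Q x) {q : G} (hq : q ∈ Q) (b : Bool) :
    eta x (q * zp z b) = eta x q * zp z b := by
  rw [S.eta_mul f hq (S.zp_mem b), S.eta_zp f, f.vec_zp S]
  have h0 : ∀ u : V6, bB u 0 = false := by
    intro u
    have key : ∀ k : ℕ, Chk.bb k 0 = false := fun k => by
      simp only [Chk.bb, show Nat.xor k 0 = k from Nat.xor_zero k]
      cases Chk.qb k <;> decide +kernel
    simp only [bB, Chk.bK, show code (0 : V6) = 0 by decide +kernel, show Chk.wPow 1 0 = 0 by decide +kernel, key,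
      Bool.xor_false]
  rw [h0, zp_false, mul_one]

theorem Big.sec_exists (f : Frame z Q x) (v : V6) : ∃! q, q ∈ Q ∧ f.vec q = v ∧ eta x q = 1 := by
  have hxz : Commute x z := S.base.ord.xz
  obtain ⟨q, hq, rfl⟩ := f.vec_surj v
  obtain ⟨b, hb⟩ : ∃ b, eta x q = zp z b := by
    have h1 := S.base.ord.normQ x hxz q hq
    have h2 := S.base.ord.normQ x hxz _ h1
    have hv : f.vec (eta x q) = f.vec 1 := by
      rw [eta, f.vec_mul _ (mul_mem hq h1) _ h2, f.vec_mul _ hq _ h1, f.vec_xc S.base h1, f.vec_xc S.base hq, f.vec_one S.base]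
      have key : ∀ a : F4, a + F4.w * a + F4.w * (F4.w * a) = 0 := by decide +kernel
      exact funext fun i => key _
    rcases (f.vec_eq _ (one_mem _) _ (mul_mem (mul_mem hq h1) h2)).1 hv.symm with e | e
    · exact ⟨false, e⟩
    · exact ⟨true, e.trans (one_mul z)⟩
  refine ⟨q * zp z b, ⟨mul_mem hq (S.zp_mem b), ?_, ?_⟩, fun p ⟨hp, hpv, hpe⟩ => ?_⟩
  · rw [f.vec_mul q hq _ (S.zp_mem b), f.vec_zp S, add_zero]
  · rw [S.eta_add_zp f hq, hb, S.zp_mul, Bool.xor_self, zp_false]
  · obtain ⟨c, rfl⟩ : ∃ c, p = q * zp z c := by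
      rcases (f.vec_eq q hq p hp).1 hpv.symm with e | e
      · exact ⟨false, by rw [e, zp_false, mul_one]⟩
      · exact ⟨true, e⟩
    rw [S.eta_add_zp f hq, hb, S.zp_mul, ← zp_false z] at hpe
    have := S.zp_inj hpe
    congr 2
    revert this
    cases b <;> cases c <;> simp

omit S

/-- the equivariant section -/
noncomputable def sec (f : Frame z Q x) (v : V6) : G :=
  haveI := Classical.propDecidable (∃ q, q ∈ Q ∧ f.vec q = v ∧ eta x q = 1)
  if h : ∃ q, q ∈ Q ∧ f.vec q = v ∧ eta x q = 1 then h.choose else 1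

include S

theorem Big.sec_spec (f : Frame z Q x) (v : V6) :
    sec f v ∈ Q ∧ f.vec (sec f v) = v ∧ eta x (sec f v) = 1 := by
  have h := (S.sec_exists f v).exists
  rw [sec, dif_pos h]
  exact h.choose_spec

theorem Big.sec_eq (f : Frame z Q x) {v : V6} {q : G} (hq : q ∈ Q) (hv : f.vec q = v) (he : eta x q = 1) :
    sec f v = q :=
  (S.sec_exists f v).unique (S.sec_spec f v) ⟨hq, hv, he⟩

theorem Big.sec_zero (f : Frame z Q x) : sec f 0 = 1 :=
  S.sec_eq f (one_mem _) (f.vec_one S.base) (by simp [eta])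

theorem Big.sec_mul (f : Frame z Q x) (u v : V6) :
    sec f u * sec f v = sec f (u + v) * zp z (bB u v) := by
  obtain ⟨hu, uv, ue⟩ := S.sec_spec f u
  obtain ⟨hv, vv, ve⟩ := S.sec_spec f v
  have h := S.sec_eq f (v := u + v) (q := sec f u * sec f v * zp z (bB u v))
    (mul_mem (mul_mem hu hv) (S.zp_mem _))
    (by rw [f.vec_mul _ (mul_mem hu hv) _ (S.zp_mem _), f.vec_mul _ hu _ hv, uv, vv, f.vec_zp S, add_zero])
    (by rw [S.eta_add_zp f (mul_mem hu hv), S.eta_mul f hu hv, ue, ve, uv, vv, one_mul, one_mul, S.zp_mul,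
      Bool.xor_self, zp_false])
  rw [h, mul_assoc _ (zp z (bB u v)), S.zp_mul, Bool.xor_self, zp_false, mul_one]

theorem Big.sec_inv (f : Frame z Q x) (v : V6) : (sec f v)⁻¹ = sec f v * zp z (qB v) := by
  obtain ⟨hv, vv, -⟩ := S.sec_spec f v
  have h := f.sq_zp S hv
  rw [vv] at h
  refine inv_eq_of_mul_eq_one_right ?_
  rw [← mul_assoc, h, S.zp_mul, Bool.xor_self, zp_false]

theorem Big.sec_conj (f : Frame z Q x) {c : Subgroup.centralizer ({z} : Set G)} (hc : Commute c S.base.xC) (v : V6) :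
    (c : G) * sec f v * (c : G)⁻¹ = sec f (f.π c v) := by
  obtain ⟨hv, vv, ve⟩ := S.sec_spec f v
  have hcz : Commute (c : G) z := Subgroup.mem_centralizer_singleton_iff.1 c.2
  have hcx : Commute (c : G) x := congrArg Subtype.val hc.eq
  refine (S.sec_eq f (S.base.ord.normQ c hcz _ hv) (by rw [f.vec_conj c _ hv, vv]) ?_).symm
  have hm : ∀ q : G, x * ((c : G) * q * (c : G)⁻¹) * x⁻¹ = (c : G) * (x * q * x⁻¹) * (c : G)⁻¹ :=
    fun q => by
    calc _ = (x * c) * q * (x * (c : G))⁻¹ := by group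
      _ = ((c : G) * x) * q * ((c : G) * x)⁻¹ := by rw [hcx.eq]
      _ = _ := by group
  rw [eta, hm, hm]
  rw [eta] at ve
  calc _ = (c : G) * (sec f v * (x * sec f v * x⁻¹) *
        (x * (x * sec f v * x⁻¹) * x⁻¹)) * (c : G)⁻¹ := by group
    _ = 1 := by rw [ve, mul_one, mul_inv_cancel]

theorem Big.sec_move (f : Frame z Q x) (v : V6) {q : G} (hq : q ∈ Q) :
    q * sec f v * q⁻¹ = sec f v * zp z (tB v (f.vec q)) := by
  obtain ⟨hv, vv, -⟩ := S.sec_spec f v
  rw [f.comm_zp S hv hq, vv, mul_assoc (sec f v) q, ← (S.zp_commQ _ hq).symm.eq, mul_assoc,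
    mul_inv_cancel_right]

/-- moving an element commuting with the element of order three by the section -/
theorem Big.sec_twist (f : Frame z Q x) {c : Subgroup.centralizer ({z} : Set G)} (hc : Commute c S.base.xC) (v : V6) :
    sec f v * (c : G) * (sec f v)⁻¹ =
      sec f (v + f.π c v) * zp z (xor (bB v (f.π c v)) (qB (f.π c v))) * (c : G) := by
  have h : sec f v * (c : G) * (sec f v)⁻¹ = sec f v * ((c : G) * sec f v * (c : G)⁻¹)⁻¹ * (c : G) := by
    group
  rw [h, S.sec_conj f hc, S.sec_inv f, ← mul_assoc, S.sec_mul f, mul_assoc (sec f (v + f.π c v)), S.zp_mul]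

omit S

end Cfsg.Agent.Spor.JFour
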