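import Cfsg.Agent.Lib.Spor.JFourThompDefs

/-!
Kernel checks for a complement in Janko four type.
-/

set_option autoImplicit false
set_option maxRecDepth 100000

namespace Cfsg.Agent.Spor.JFour.Chk

theorem cpl_ok : cplOK = true := by decide +kernel

theorem out_ok : outOK = true := by decide +kernel

end Cfsg.Agent.Spor.JFour.Chk
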