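import Cfsg.Agent.Lib.Spor.JFourThompCoord
import Cfsg.Agent.Lib.Spor.LFTThompNorm

/-!
Janko four type: the normaliser of the largest elementary abelian subgroup modulo that subgroup is the
Mathieu group of degree 24.
-/

set_option autoImplicit false
set_option maxRecDepth 100000
set_option linter.unusedSectionVars false

namespace Cfsg.Agent.Spor.JFour

open Cfsg.Agent.Spor.SUSix (V6 code code_lt vecOf_code)
open scoped Pointwise
open Cfsg.Agent.Spor.LFT (iT iT_conj PointModel Des)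

attribute [local irreducible] Gam Kp Chk.app

universe u

variable {G : Type u} [Group G] [Finite G] {z : G} {Q N : Subgroup G} {x : G}
variable (S : Big z Q N x) (f : Frame z Q x)

include S f

theorem Big.card_T0 :
    Nat.card (TS.comap f.π) = 2 ^ 21 ∧ IsPGroup 2 (TS.comap f.π) := by
  have hker : Nat.card f.π.ker = 2 ^ 13 := by
    rw [← S.base.ord.cardQ]
    refine Nat.card_congr
      { toFun := fun c => ⟨((c.1 : Subgroup.centralizer ({z} : Set G)) : G), (f.ker _).1 (MonoidHom.mem_ker.1 c.2)⟩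
        invFun := fun q => ⟨⟨q.1, S.base.mem_C q.2⟩,
          MonoidHom.mem_ker.2 ((f.ker _).2 q.2)⟩
        left_inv := fun _ => rfl
        right_inv := fun _ => rfl }
  have h : Nat.card (TS.comap f.π) = 2 ^ 21 := by
    rw [card_split f (TS.comap f.π),
      Subgroup.map_comap_eq_self fun p hp => (f.range p).1 (TS_le hp), TS_card,
      inf_eq_right.2 (show f.π.ker ≤ TS.comap f.π from fun c hc => by
        show f.π c ∈ TS; rw [MonoidHom.mem_ker.1 hc]; exact one_mem _), hker]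
    norm_num
  exact ⟨h, IsPGroup.of_card h⟩

variable {A : Subgroup G}

/-- the chosen Sylow subgroup of the centraliser normalises -/
theorem Big.T0_norm (hAe : Cfsg.IsElementaryAbelian 2 A) (hAc : Nat.card A = 2 ^ 11)
    (hA : ∀ r, r ∈ A ↔ ∃ a ∈ AQset f, ∃ c ∈ AHs S f, r = a * (c : G))
    {c : Subgroup.centralizer ({z} : Set G)} (hc : f.π c ∈ TS) : (c : G) ∈ Subgroup.normalizer (A : Set G) := by
  set T0 := (TS.comap f.π).map (Subgroup.centralizer ({z} : Set G)).subtype with hT0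
  have hp : IsPGroup 2 T0 := IsPGroup.map (S.card_T0 f).2 _
  have hAT : A ≤ T0 := by
    intro r hr
    obtain ⟨a, ha, d, hd, rfl⟩ := (hA r).1 hr
    refine ⟨⟨a, S.base.mem_C ha.1⟩ * d, ?_, rfl⟩
    show f.π _ ∈ TS
    rw [map_mul, (f.ker _).2 ha.1, one_mul]
    exact hd.2.1
  have hcT : (c : G) ∈ T0 := ⟨c, hc, rfl⟩
  have heq : A.map (MulAut.conj (c : G)).toMonoidHom = A := by
    refine S.big_unique f hp ?_ hAT (elem_map _ hAe) hAe ?_ hAc
    · rintro _ ⟨r, hr, rfl⟩
      exact mul_mem (mul_mem hcT (hAT hr)) (inv_mem hcT)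
    · rw [Subgroup.card_map_of_injective (MulAut.conj (c : G)).injective, hAc]
  refine Subgroup.mem_normalizer_iff.2 fun r => ?_
  constructor
  · intro hr
    have : (c : G) * r * (c : G)⁻¹ ∈ A.map (MulAut.conj (c : G)).toMonoidHom := ⟨r, hr, rfl⟩
    rwa [heq] at this
  · intro hr
    rw [← heq, Subgroup.mem_map_equiv, MulAut.conj_symm_apply] at hr
    simpa [mul_assoc] using hr

/-- lifts of the stabiliser of the fixed vectors normalise -/
theorem Big.good_norm (hA : ∀ r, r ∈ A ↔ ∃ a ∈ AQset f, ∃ c ∈ AHs S f, r = a * (c : G))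
    {P : Subgroup.centralizer ({z} : Set G)} (hP : Commute P S.base.xC) (hg : Good (f.π P)) :
    (P : G) ∈ Subgroup.normalizer (A : Set G) := by
  have hmap : ∀ r ∈ A, (P : G) * r * (P : G)⁻¹ ∈ A := by
    intro r hr
    obtain ⟨a, ha, c, hc, rfl⟩ := (hA r).1 hr
    have hPz : Commute (P : G) z := Subgroup.mem_centralizer_singleton_iff.1 P.2
    refine (hA _).2 ⟨(P : G) * a * (P : G)⁻¹, ⟨S.base.ord.normQ P hPz a ha.1, ?_⟩, P * c * P⁻¹, S.good_AH f hP hg hc, ?_⟩
    · rw [f.vec_conj P a ha.1]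
      exact hg.fs _ ha.2
    · rw [Subgroup.coe_mul, Subgroup.coe_mul, Subgroup.coe_inv, conj_mul]
  refine Subgroup.mem_normalizer_iff.2 fun r => ⟨hmap r, fun hr => ?_⟩
  have hsur := (Finite.injective_iff_surjective (f := fun r : A => (⟨(P : G) * r * (P : G)⁻¹, hmap r r.2⟩ : A))).1
    fun a b e => Subtype.ext (mul_left_cancel (mul_right_cancel (congrArg Subtype.val e)))
  obtain ⟨r', hr'⟩ := hsur ⟨_, hr⟩
  exact mul_left_cancel (mul_right_cancel (congrArg Subtype.val hr')) ▸ r'.2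

theorem Big.card_HC (hAe : Cfsg.IsElementaryAbelian 2 A) (hAc : Nat.card A = 2 ^ 11)
    (hA : ∀ r, r ∈ A ↔ ∃ a ∈ AQset f, ∃ c ∈ AHs S f, r = a * (c : G)) :
    2 ^ 13 * 34560 ≤ Nat.card ((Subgroup.centralizer ({z} : Set G)).subgroupOf (Subgroup.normalizer (A : Set G))) := by
  set C := Subgroup.centralizer ({z} : Set G)
  set H := Subgroup.normalizer (A : Set G)
  set L := H.subgroupOf C
  have hcard : Nat.card (C.subgroupOf H) = Nat.card L := Nat.card_congr
    { toFun := fun y => ⟨⟨(y.1 : G), y.2⟩, y.1.2⟩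
      invFun := fun y => ⟨⟨(y.1 : G), y.2⟩, y.1.2⟩
      left_inv := fun _ => rfl
      right_inv := fun _ => rfl }
  rw [hcard]
  set I := L.map f.π
  have hker : f.π.ker ≤ L := fun c hc => S.T0_norm f hAe hAc hA (by
    rw [MonoidHom.mem_ker.1 hc]; exact one_mem _)
  have hTS : TS ≤ I := fun p hp => by
    obtain ⟨c, rfl⟩ := (f.range p).1 (TS_le hp)
    exact ⟨c, S.T0_norm f hAe hAc hA hp, rfl⟩
  have hgood : ∀ w : List ℕ, (∀ s ∈ w, s < 3) → wStab w ∈ I := fun w hw => by
    obtain ⟨hg, -⟩ := wStab_spec w hw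
    obtain ⟨P, hP, hPπ⟩ := S.lift f hg.kp
    exact ⟨P, S.good_norm f hA hP (hPπ ▸ hg), hPπ⟩
  have h256 : 256 ∣ Nat.card I := TS_card ▸ Subgroup.card_dvd_of_le hTS
  have h5 : 5 ∣ Nat.card I := by
    have h := Chk.five_ok
    simp only [Chk.fiveOK, Bool.and_eq_true, List.all_eq_true, Bool.not_eq_true'] at h
    obtain ⟨⟨hw, hne⟩, h5'⟩ := h
    have hw' : ∀ s ∈ Dat.five, s < 3 := fun s hs => Nat.le_of_ble_eq_true (hw s hs)
    obtain ⟨hg, hs⟩ := wStab_spec _ hw'
    set p := wStab Dat.five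
    have hl := Gam_addP (Kp_le hg.kp)
    haveI : Fact (Nat.Prime 5) := ⟨by norm_num⟩
    have hp5 : orderOf p = 5 := by
      refine orderOf_eq_prime ?_ fun e => ?_
      · refine eq_of_cols (Gam_addP (Kp_le (pow_mem hg.kp 5))) (Gam_addP (one_mem _)) ?_
        rw [show p ^ 5 = p * (p * (p * (p * p))) by simp only [pow_succ, pow_zero, one_mul, mul_assoc], cols_mul hl, cols_mul hl, cols_mul hl,
          cols_mul hl, hs, cols_id]
        exact leq_iff.1 h5'
      · rw [← hs, e, cols_id, leq_iff.2 rfl] at hne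
        simp at hne
    have hd := orderOf_dvd_natCard (⟨p, hgood _ hw'⟩ : I)
    rwa [Subgroup.orderOf_mk, hp5] at hd
  have h27 : 27 ∣ Nat.card I := by
    have h := Chk.sub27_ok
    simp only [Chk.subOK27, Bool.and_eq_true, List.all_eq_true, List.mem_range, Bool.or_eq_true,
      List.any_eq_true, Bool.not_eq_true'] at h
    obtain ⟨⟨hlen, hw⟩, hall⟩ := h
    have hlen' : Dat.sub27.length = 27 := by
      have := Nat.eq_of_beq_eq_true hlen
      rwa [List.length_map] at this
    let p : Fin 27 → PV := fun i => wStab (Dat.sub27.getD i.val [])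
    have hspec : ∀ i : Fin 27, Good (p i) ∧ cols (p i) = (Dat.sub27.map Chk.wS).getD i.val [] ∧ p i ∈ I := by
      intro i
      have hi : i.val < Dat.sub27.length := hlen'.symm ▸ i.2
      have hmem : ∀ s ∈ Dat.sub27.getD i.val [], s < 3 := fun s hs => Nat.le_of_ble_eq_true (hw _ (by
        rw [List.getD_eq_getElem _ _ hi]; exact List.getElem_mem hi) s hs)
      obtain ⟨h1, h2⟩ := wStab_spec _ hmem
      refine ⟨h1, h2.trans ?_, hgood _ hmem⟩
      rw [List.getD_eq_getElem _ _ hi, List.getD_eq_getElem _ _ (by rwa [List.length_map]), List.getElem_map]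
    have hinj : Function.Injective p := fun i j e => by
      by_contra hne
      obtain ⟨hd, -⟩ := hall i.val i.2 j.val j.2
      rcases hd with hd | hd
      · exact hne (Fin.ext (Nat.eq_of_beq_eq_true hd))
      · rw [← (hspec i).2.1, ← (hspec j).2.1, e, leq_iff.2 rfl] at hd
        simp at hd
    let S27 : Submonoid PV := Submonoid.closure (Set.range p)
    let R : Subgroup PV := Subgroup.closure (Set.range p)
    have hclosed : ∀ i j, ∃ k, p i * p j = p k := fun i j => by
      obtain ⟨-, k, hk, he⟩ := hall i.val i.2 j.val j.2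
      refine ⟨⟨k, hk⟩, eq_of_cols (Gam_addP (Kp_le (mul_mem (hspec i).1.kp (hspec j).1.kp)))
        (Gam_addP (Kp_le (hspec _).1.kp)) ?_⟩
      rw [cols_mul (Gam_addP (Kp_le (hspec i).1.kp)), (hspec i).2.1, (hspec j).2.1, (hspec ⟨k, hk⟩).2.1]
      exact leq_iff.1 he
    have hset : (R : Set PV) = Set.range p := by
      refine Set.Subset.antisymm ?_ Subgroup.subset_closure
      have hpow : ∀ n : ℕ, p 0 ^ (n + 1) ∈ Set.range p := by
        intro n
        induction n with
        | zero => exact ⟨0, (pow_one _).symm⟩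
        | succ n ih =>
          obtain ⟨i, hi⟩ := ih
          obtain ⟨k, hk⟩ := hclosed i 0
          exact ⟨k, by rw [pow_succ _ (n + 1), ← hi, hk]⟩
      obtain ⟨k, hk⟩ : ∃ k, orderOf (p 0) = k + 1 := ⟨_, (Nat.sub_add_cancel (orderOf_pos (p 0))).symm⟩
      have hone : (1 : PV) ∈ Set.range p := by
        have := hpow k
        rwa [← hk, pow_orderOf_eq_one] at this
      have key : ∀ q ∈ S27, q ∈ Set.range p := by
        intro q hq
        induction hq using Submonoid.closure_induction with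
        | mem q hq => exact hq
        | one => exact hone
        | mul a b _ _ ia ib =>
          obtain ⟨i, rfl⟩ := ia
          obtain ⟨j, rfl⟩ := ib
          obtain ⟨k, hk⟩ := hclosed i j
          exact ⟨k, hk.symm⟩
      intro q hq
      refine key q ?_
      show q ∈ Submonoid.closure _
      rw [← Subgroup.closure_toSubmonoid_of_finite]
      exact hq
    have hR : Nat.card R = 27 := by
      rw [show Nat.card R = Nat.card (R : Set PV) from rfl, hset, Nat.card_range_of_injective hinj, Nat.card_eq_fintype_card,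
        Fintype.card_fin]
    exact hR ▸ Subgroup.card_dvd_of_le ((Subgroup.closure_le _).2 (Set.range_subset_iff.2 fun i => (hspec i).2.2))
  have hI : 34560 ≤ Nat.card I := Nat.le_of_dvd Nat.card_pos (by
    have := Nat.Coprime.mul_dvd_of_dvd_of_dvd (by norm_num : Nat.Coprime (256 * 5) 27)
      (Nat.Coprime.mul_dvd_of_dvd_of_dvd (by norm_num : Nat.Coprime 256 5) h256 h5) h27
    exact this)
  have hk : Nat.card f.π.ker = 2 ^ 13 := by
    have h := card_split f (TS.comap f.π)
    rw [(S.card_T0 f).1, Subgroup.map_comap_eq_self fun p hp => (f.range p).1 (TS_le hp), TS_card,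
      inf_eq_right.2 (show f.π.ker ≤ TS.comap f.π from fun c hc => by
        show f.π c ∈ TS; rw [MonoidHom.mem_ker.1 hc]; exact one_mem _)] at h
    norm_num at h ⊢
    omega
  rw [card_split f L, inf_eq_right.2 hker, hk, mul_comm]
  exact Nat.mul_le_mul_right _ hI

/-- self-centralising -/
theorem Big.cen_A (hAe : Cfsg.IsElementaryAbelian 2 A) (hAc : Nat.card A = 2 ^ 11)
    (hA : ∀ r, r ∈ A ↔ ∃ a ∈ AQset f, ∃ c ∈ AHs S f, r = a * (c : G)) {y : G} (hy : ∀ r ∈ A, Commute y r) :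
    y ∈ A := by
  haveI : Fact (Nat.Prime 2) := ⟨Nat.prime_two⟩
  set C := Subgroup.centralizer ({z} : Set G)
  have hzA : z ∈ A := (hA z).2 ⟨z, S.AQ_z f, 1, one_mem _, by rw [Subgroup.coe_one, mul_one]⟩
  have hAQA : ∀ a ∈ AQset f, a ∈ A := fun a ha => (hA a).2 ⟨a, ha, 1, one_mem _, by rw [Subgroup.coe_one, mul_one]⟩
  let CC : Subgroup C := (Subgroup.centralizer (A : Set G)).comap C.subtype
  have hCC : ∀ c : C, c ∈ CC ↔ ∀ r ∈ A, Commute (c : G) r := fun c =>
    ⟨fun h r hr => (Subgroup.mem_centralizer_iff.1 h r hr).symm,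
      fun h => Subgroup.mem_centralizer_iff.2 fun r hr => (h r hr).symm⟩
  have hsq : ∀ c ∈ CC, f.π (c * c) = 1 := by
    intro c hc
    rw [hCC] at hc
    have hcz : Commute (c : G) z := Subgroup.mem_centralizer_singleton_iff.1 c.2
    refine Equiv.ext fun v => ?_
    obtain ⟨q, hq, rfl⟩ := f.vec_surj v
    set q' := (c : G) * q * (c : G)⁻¹ with hq'
    have hq'Q : q' ∈ Q := S.base.ord.normQ c hcz q hq
    have hd : q' * q⁻¹ ∈ AQset f := by
      refine S.AQ_perp f (mul_mem hq'Q (inv_mem hq)) fun a ha => ?_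
      obtain ⟨t, ht⟩ : ∃ t, a * q * a⁻¹ = q * zp z t := by
        rcases S.base.ord.xt.comm_mem ha.1 hq with e | e
        · exact ⟨false, by rw [zp_false, mul_one]; exact mul_inv_eq_one.1 e⟩
        · exact ⟨true, by rw [zp_true, (S.base.ord.xt.cen q hq).eq.symm]; exact mul_inv_eq_iff_eq_mul.1 e⟩
      have h2 : a * q' * a⁻¹ = q' * zp z t := by
        have e := congrArg (fun w : G => (c : G) * w * (c : G)⁻¹) ht
        simp only [← conj_mul] at e
        rw [(hc a (hAQA a ha)).eq, mul_inv_cancel_right, (S.zp_comm t hcz).eq, mul_inv_cancel_right,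
          show (c : G) * a⁻¹ * (c : G)⁻¹ = a⁻¹ by rw [(hc a (hAQA a ha)).inv_right.eq, mul_inv_cancel_right]] at e
        exact e
      refine (mul_inv_eq_iff_eq_mul.1 ?_).symm
      calc a * (q' * q⁻¹) * a⁻¹ = (a * q' * a⁻¹) * (a * q * a⁻¹)⁻¹ := by group
        _ = q' * q⁻¹ := by rw [h2, ht]; group
    have hfix : (c : G) * (q' * q⁻¹) * (c : G)⁻¹ = q' * q⁻¹ := by
      rw [(hc _ (hAQA _ hd)).eq, mul_inv_cancel_right]
    have h2 : (c : G) * ((c : G) * q * (c : G)⁻¹) * (c : G)⁻¹ = q := by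
      calc (c : G) * ((c : G) * q * (c : G)⁻¹) * (c : G)⁻¹
          = ((c : G) * (q' * q⁻¹) * (c : G)⁻¹) * q' := by rw [hq']; group
        _ = q' * q⁻¹ * (q' * q⁻¹) * q := by rw [hfix]; group
        _ = q := by rw [S.AQ_sq' f hd, one_mul]
    rw [map_mul, Equiv.Perm.mul_apply, ← f.vec_conj c q hq, ← f.vec_conj c _ hq'Q, hq', h2]
    rfl
  have hCC2 : IsPGroup 2 CC := fun c => by
    refine ⟨3, Subtype.ext (Subtype.ext ?_)⟩
    have h := (f.ker _).1 (hsq c.1 c.2)
    rw [Subgroup.coe_mul] at h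
    show ((c.1 : C) : G) ^ (2 ^ 3) = 1
    have h4 : ((c.1 : C) : G) * (c.1 : C) * (((c.1 : C) : G) * (c.1 : C)) ∈ Subgroup.zpowers z := by
      rcases S.base.ord.xt.sq_mem h with e | e <;> rw [e]
      exacts [one_mem _, Subgroup.mem_zpowers z]
    rcases S.base.ord.xt.sq_mem h with e | e
    · calc ((c.1 : C) : G) ^ (2 ^ 3) = (((c.1 : C) : G) * (c.1 : C) * (((c.1 : C) : G) * (c.1 : C))) *
            (((c.1 : C) : G) * (c.1 : C) * (((c.1 : C) : G) * (c.1 : C))) := by
            simp only [show (2:ℕ) ^ 3 = 8 from rfl, pow_succ, pow_zero, one_mul, mul_assoc]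
        _ = 1 := by rw [e, one_mul]
    · calc ((c.1 : C) : G) ^ (2 ^ 3) = (((c.1 : C) : G) * (c.1 : C) * (((c.1 : C) : G) * (c.1 : C))) *
            (((c.1 : C) : G) * (c.1 : C) * (((c.1 : C) : G) * (c.1 : C))) := by
            simp only [show (2:ℕ) ^ 3 = 8 from rfl, pow_succ, pow_zero, one_mul, mul_assoc]
        _ = 1 := by rw [e, S.base.ord.xt.sq]
  set T0 := TS.comap f.π
  have hnorm : T0 ≤ Subgroup.normalizer (CC : Set C) := by
    intro d hd
    have hdA := Subgroup.mem_normalizer_iff.1 (S.T0_norm f hAe hAc hA hd)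
    have hinv : ∀ r ∈ A, (d : G)⁻¹ * r * d ∈ A := fun r hr => (hdA _).2 (by
      rw [show (d : G) * ((d : G)⁻¹ * r * d) * (d : G)⁻¹ = r by group]; exact hr)
    refine Subgroup.mem_normalizer_iff.2 fun c => ⟨fun hc => ?_, fun hc => ?_⟩ <;> rw [hCC] at hc ⊢ <;> intro r hr
    · have h := (Commute.conj_iff (d : G)).2 (hc _ (hinv r hr))
      rw [show (d : G) * ((d : G)⁻¹ * r * d) * (d : G)⁻¹ = r by group] at h
      exact h
    · have h := (Commute.conj_iff (d : G)⁻¹).2 (hc _ ((hdA r).1 hr))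
      simpa [mul_assoc] using h
  have hCT : CC ≤ T0 := by
    have hp := IsPGroup.to_sup_of_normal_right' (S.card_T0 f).2 hCC2 hnorm
    obtain ⟨k, hk⟩ := IsPGroup.iff_card.1 hp
    have hd : 2 ^ k ∣ 2 ^ 13 * 2661120 := by
      rw [← hk, ← f.card_C S.base]; exact Subgroup.card_subgroup_dvd_card _
    have hk21 : k ≤ 21 := (Nat.pow_dvd_pow_iff_le_right (le_refl 2)).1
      ((Nat.Coprime.pow_left k (by norm_num : Nat.Coprime 2 10395)).dvd_of_dvd_mul_right hd)
    have heq : T0 = T0 ⊔ CC := Subgroup.eq_of_le_of_card_ge le_sup_left (by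
      rw [hk, (S.card_T0 f).1]; exact Nat.pow_le_pow_right (by norm_num) hk21)
    exact heq ▸ le_sup_right
  have hyz : y ∈ C := Subgroup.mem_centralizer_singleton_iff.2 (hy z hzA)
  set c : C := ⟨y, hyz⟩
  have hcT : f.π c ∈ TS := hCT ((hCC c).2 hy)
  obtain ⟨a, ha, hsig⟩ := TS_list hcT
  have h := Chk.fixer_ok
  simp only [Chk.fixerOK, List.all_eq_true, List.mem_range, Bool.or_eq_true, Bool.not_eq_true',
    List.any_eq_true] at h
  have hfix : ∀ v ∈ Dat.fsB, Nat.beq (Chk.app (Chk.sylE a) v) v = true := by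
    intro v hv
    have hkey : ∀ v ∈ Dat.fsB, v < 4096 ∧ v ∈ Dat.fsL := by decide +kernel
    obtain ⟨hlt, hF⟩ := hkey v hv
    obtain ⟨q, hq, hqv⟩ := f.vec_surj (SUSix.vecOf v)
    have hqA : q ∈ AQset f := ⟨hq, by rw [hqv]; exact (FS_facts.1 _).2 (by rwa [code_vecOf _ hlt])⟩
    have e : f.π c (f.vec q) = f.vec q := by
      rw [← f.vec_conj c q hq]
      show f.vec (y * q * y⁻¹) = _
      rw [(hy q (hAQA q hqA)).eq, mul_inv_cancel_right]
    rw [← hsig]
    have e2 := congrArg code e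
    rw [app_cols (Gam_addP (TS_le hcT)), hqv, code_vecOf _ hlt] at e2
    rw [e2]
    exact Nat.beq_refl v
  obtain ⟨b, hb, heq⟩ := (h a ha).resolve_left fun e => by
    rw [← Bool.not_eq_true, List.all_eq_true] at e
    exact e hfix
  have hπ : f.π c = elE ⟨b, hb⟩ :=
    eq_of_cols (Gam_addP (TS_le hcT)) (addP_elE _) (by rw [hsig, cols_elE]; exact (leq_iff.1 heq).symm)
  obtain ⟨d, hd, hdπ⟩ := S.exists_lift f ⟨b, hb⟩
  have hdA : (d : G) ∈ A := (hA _).2 ⟨1, S.AQ_one f, d, hd, (one_mul _).symm⟩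
  have hq : y * (d : G)⁻¹ ∈ AQset f := by
    refine S.AQ_perp f ((f.ker (c * d⁻¹)).1 (by rw [map_mul, map_inv, hπ, hdπ, mul_inv_cancel])) fun a ha => ?_
    have hda : Commute (d : G) a := congrArg Subtype.val (hAe.1.is_comm.comm (⟨_, hdA⟩ : A) ⟨a, hAQA a ha⟩)
    exact (hy a (hAQA a ha)).mul_left hda.inv_left
  exact (hA y).2 ⟨_, hq, d, hd, (inv_mul_cancel_right y (d : G)).symm⟩

end Cfsg.Agent.Spor.JFour
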