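import Cfsg.Agent.Lib.Spor.JFourInvolChecks
import Cfsg.Agent.Lib.Spor.JFourThompChecksD
import Cfsg.Agent.Lib.Spor.JFourHexad
import Cfsg.Agent.Lib.Spor.JFourSection
import Cfsg.Agent.Lib.Spor.JFourThompNorm

/-!
Janko four type: every involution of the centraliser lies in a conjugate of the extraspecial subgroup, and so
every involution of the second class lies in an elementary abelian subgroup of order 2^11.
-/

set_option autoImplicit false
set_option maxRecDepth 100000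
set_option linter.unusedSectionVars false

namespace Cfsg.Agent.Spor.JFour

open Cfsg.Agent.Spor.SUSix (V6 code code_lt vecOf_code)
open Cfsg.Agent.Spor.LFT (iT iT_conj)

attribute [local irreducible] Gam Kp Chk.app BlockKer Cmp

theorem covRep_elem (r : ℕ) (hr : r < 3) : ∃ p ∈ Gam ⊓ fixv va ⊓ BlockKer Dat.maskA, cols p = Chk.cR r := by
  have h := Chk.covRep_ok
  simp only [Chk.covRepOK, Bool.and_eq_true, List.all_eq_true, List.mem_range, leq_iff] at h
  obtain ⟨⟨-, hlt⟩, he⟩ := h.2 r hr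
  have key : ∀ L : List ℕ, (∀ k ∈ L, k < Dat.kerW.length) → ∃ p ∈ Gam ⊓ fixv va ⊓ BlockKer Dat.maskA,
      cols p = L.foldr (fun k X => Chk.cmul (Chk.kerC.getD k []) X) Chk.idL := by
    intro L
    induction L with
    | nil => exact fun _ => ⟨1, one_mem _, cols_one⟩
    | cons k L ih =>
      intro hL
      obtain ⟨p, hp, e⟩ := ih fun x hx => hL x (List.mem_cons_of_mem _ hx)
      have hk := hL k List.mem_cons_self
      obtain ⟨hm, hc⟩ := ker_word_mem _ (List.getElem_mem hk)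
      refine ⟨_, mul_mem hm hp, ?_⟩
      rw [cols_mul (Gam_addP hm.1.1), hc, e, List.foldr_cons, Chk.kerC,
        List.getD_eq_getElem _ _ (by rwa [List.length_map]), List.getElem_map]
  obtain ⟨p, hp, e⟩ := key _ fun k hk => Nat.le_of_ble_eq_true (hlt k hk)
  exact ⟨p, hp, e.trans he⟩

theorem span_decomp {p : PV} (hp : AddP p) {V : V6} (hV : code V ∈ Chk.covSpan (cols p)) :
    ∃ w l : V6, Chk.fCond (code l) = true ∧ V = p w + w + l := by
  have hr : (∀ v ∈ Dat.rowF, v < 4096) ∧ ∀ v ∈ Chk.spanL Dat.rowF, Chk.fCond v = true := by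
    have h := Chk.out_ok
    simp only [Chk.outOK, Bool.and_eq_true, List.all_eq_true] at h
    exact ⟨fun v hv => Nat.le_of_ble_eq_true (h.1.1.1.2 v hv), h.1.1.2⟩
  obtain ⟨hrlt, hrF⟩ := hr
  obtain ⟨-, h0, hx, hmem, -⟩ := span_spec Dat.rowF
  have key := (span_spec ((Chk.idL.map fun v => Nat.xor (Chk.app (cols p) v) v) ++ Dat.rowF)).2.2.2.2
    (fun k => k < 4096 ∧ ∃ w l : V6, code l ∈ Chk.spanL Dat.rowF ∧ SUSix.vecOf k = p w + w + l) ?_ ?_ ?_ _ hV
  · obtain ⟨-, w, l, hl, e⟩ := key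
    exact ⟨w, l, hrF _ hl, by rw [← e, vecOf_code]⟩
  · exact ⟨by norm_num, 0, 0, by rw [code_zero]; exact h0, by
      rw [hp.map_zero, add_zero, add_zero, show SUSix.vecOf 0 = 0 by decide +kernel]⟩
  · rintro a b ⟨ha, w, l, hl, e⟩ ⟨hb, w', l', hl', e'⟩
    refine ⟨xor_lt ha hb, w + w', l + l', by rw [code_add]; exact hx _ hl _ hl', ?_⟩
    rw [vecOf_xor ha hb, e, e', hp]
    abel
  · intro k hk
    rcases List.mem_append.1 hk with hk | hk
    · obtain ⟨u, hu, rfl⟩ := List.mem_map.1 hk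
      have hb : Chk.app (cols p) u < 4096 := by
        rw [← code_vecOf u (idL_lt u hu), ← app_cols hp]
        exact code_lt _
      refine ⟨xor_lt hb (idL_lt u hu), SUSix.vecOf u, 0, by rw [code_zero]; exact h0, code_inj ?_⟩
      rw [add_zero, code_add, app_cols hp, code_vecOf u (idL_lt u hu),
        code_vecOf _ (show Nat.xor (Chk.app (cols p) u) u < 4096 from xor_lt hb (idL_lt u hu))]
      rfl
    · exact ⟨hrlt k hk, 0, SUSix.vecOf k, by rw [code_vecOf k (hrlt k hk)]; exact hmem k hk, by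
        rw [hp.map_zero, add_zero, zero_add]⟩

theorem hex_cover {v : V6} (hq : qB v = false) (h0 : v ≠ 0) (hA : Chk.isA (code v) = false) :
    ∃ k < 77, v ∈ Hx k := by
  have h := Chk.hexCover_ok
  simp only [Chk.hexCoverOK, List.all_eq_true, List.mem_range, Bool.or_eq_true, List.any_eq_true] at h
  rcases h (code v) (code_lt v) with ((e | e) | e) | ⟨k, hk, e⟩
  · exact absurd e (ne_true_of_eq_false hq)
  · exact absurd (code_inj ((Nat.eq_of_beq_eq_true e).trans code_zero.symm)) h0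
  · exact absurd e (ne_true_of_eq_false hA)
  · exact ⟨k, hk, e⟩

universe u

variable {G : Type u} [Group G] [Finite G] {z : G} {Q N : Subgroup G} {x : G}
variable (S : Big z Q N x) (f : Frame z Q x)

include S f

theorem Big.qc_move {g : G} (hgQ : g * z * g⁻¹ ∈ Q) (hne : g * z * g⁻¹ ≠ z) (hv : f.vec (g * z * g⁻¹) = va)
    {n : Subgroup.centralizer ({z} : Set G)} (hn : (n : G) ∈ Qc Q g) {q : G} (hq : q ∈ Q) {w l : V6}
    (hl : Chk.fCond (code l) = true) (hqv : f.vec q = f.π n w + w + l) :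
    ∃ h, h * z * h⁻¹ ∈ Q ∧ h * z * h⁻¹ ≠ z ∧ f.vec (h * z * h⁻¹) = va ∧ q * (n : G) ∈ Qc Q h := by
  obtain ⟨q1, hq1, hq1v⟩ := f.vec_surj w
  have hq1z : Commute q1 z := S.base.ord.qz hq1
  have hnz : Commute (n : G) z := Subgroup.mem_centralizer_singleton_iff.1 n.2
  have he : q1 * g * z * (q1 * g)⁻¹ = q1 * (g * z * g⁻¹) * q1⁻¹ := by group
  have hQ' : q1 * g * z * (q1 * g)⁻¹ ∈ Q := he ▸ S.base.ord.normQ q1 hq1z _ hgQ
  have hne' : q1 * g * z * (q1 * g)⁻¹ ≠ z := fun e => hne (by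
    rw [he] at e
    calc g * z * g⁻¹ = q1⁻¹ * (q1 * (g * z * g⁻¹) * q1⁻¹) * q1 := by group
      _ = z := by rw [e, mul_assoc, ← hq1z.eq, inv_mul_cancel_left])
  have hv' : f.vec (q1 * g * z * (q1 * g)⁻¹) = va := by
    rw [he, f.vec_conj ⟨q1, S.base.mem_C hq1⟩ _ hgQ, (f.ker ⟨q1, S.base.mem_C hq1⟩).2 hq1, hv]
    rfl
  refine ⟨q1 * g, hQ', hne', hv', ?_⟩
  set n1 := q1 * (n : G) * q1⁻¹ with hn1
  have h1 : n1 ∈ Qc Q (q1 * g) := Qc_conj q1 hn
  have hcq : (n : G) * q1 * (n : G)⁻¹ ∈ Q := S.base.ord.normQ _ hnz q1 hq1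
  have heq : q * (n : G) * n1⁻¹ = q * ((n : G) * q1 * (n : G)⁻¹) * q1⁻¹ := by rw [hn1]; group
  have hQ2 : q * (n : G) * n1⁻¹ ∈ Q := heq ▸ mul_mem (mul_mem hq hcq) (inv_mem hq1)
  have hvec : f.vec (q * (n : G) * n1⁻¹) = l := by
    rw [heq, f.vec_mul _ (mul_mem hq hcq) _ (inv_mem hq1), f.vec_mul _ hq _ hcq, f.vec_conj n q1 hq1,
      f.vec_inv S.base hq1, hq1v, hqv]
    calc f.π n w + w + l + f.π n w + w = (f.π n w + f.π n w) + (w + w) + l := by abel
      _ = l := by rw [v6_two, v6_two, add_zero, zero_add]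
  obtain ⟨a, ha, hav⟩ : l ∈ f.vec '' ((Q ⊓ Qc Q (q1 * g) : Subgroup G) : Set G) :=
    (S.inter_vec f hQ' hne' hv').symm ▸ hl
  have hmem : q * (n : G) * n1⁻¹ ∈ Qc Q (q1 * g) := by
    rcases (f.vec_eq a ha.1 _ hQ2).1 (hav.trans hvec.symm) with e | e <;> rw [e]
    exacts [ha.2, mul_mem ha.2 (S.pair hQ' hne').mem]
  have := mul_mem hmem h1
  rwa [inv_mul_cancel_right] at this

/-- outer representatives -/
theorem Big.outer_cover {r : ℕ} (hr : r < 3) (hchk : Chk.covOuter r = true)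
    {j : Subgroup.centralizer ({z} : Set G)} (hj : j * j = 1) {p : PV} (hπ : f.π j = p) (hp : cols p = Chk.cR r) :
    ∃ h, (j : G) ∈ Qc Q h := by
  obtain ⟨g, hgQ, hne, hv⟩ := S.exists_va f
  obtain ⟨hR, -⟩ := S.core f hgQ hne hv
  obtain ⟨p', hp', hc'⟩ := covRep_elem r hr
  have hpA : AddP p := hπ ▸ Gam_addP ((f.range _).2 ⟨j, rfl⟩)
  obtain ⟨d, hdE, hdπ⟩ : p ∈ f.R g := hR ▸ (eq_of_cols hpA (Gam_addP hp'.1.1) (hp.trans hc'.symm) ▸ hp')
  have hd : (d : G) ∈ Qc Q g := mem_EC.1 hdE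
  have hj' : (j : G) * j = 1 := congrArg Subtype.val hj
  have hjz : Commute (j : G) z := Subgroup.mem_centralizer_singleton_iff.1 j.2
  have hpp : p * p = 1 := by rw [← hπ, ← map_mul, hj, map_one]
  set q0 := ((d * j : Subgroup.centralizer ({z} : Set G)) : G) with hq0
  have hq0Q : q0 ∈ Q := (f.ker _).1 (by rw [map_mul, hdπ, hπ, hpp])
  have hcq : (j : G) * q0 * (j : G)⁻¹ ∈ Q := S.base.ord.normQ _ hjz _ hq0Q
  have hdd : (d : G) * d = q0 * ((j : G) * q0 * (j : G)⁻¹) := by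
    rw [hq0, Subgroup.coe_mul, show (j : G)⁻¹ = j from inv_eq_of_mul_eq_one_right hj']
    calc (d : G) * d = (d : G) * ((j : G) * j) * d * ((j : G) * j) := by rw [hj', mul_one, mul_one]
      _ = _ := by group
  have hnear : Chk.near (Chk.app (Chk.cR r) (code (f.vec q0))) (code (f.vec q0)) = true := by
    have e1 : Nat.xor (Chk.app (Chk.cR r) (code (f.vec q0))) (code (f.vec q0)) = code (f.vec ((d : G) * d)) := by
      rw [hdd, f.vec_mul _ hq0Q _ hcq, f.vec_conj j q0 hq0Q, hπ, code_add, app_cols hpA, hp, Nat.xor_comm]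
      rfl
    rw [Chk.near, e1]
    rcases (S.xtc g).sq_mem hd with e | e <;> rw [e]
    · rw [f.vec_one S.base, code_zero]; rfl
    · rw [hv, code_va, Nat.beq_refl, Bool.or_true]
  have hspan : code (f.vec q0) ∈ Chk.covSpan (cols p) := by
    simp only [Chk.covOuter, List.all_eq_true, List.mem_range, Bool.or_eq_true, Bool.not_eq_true',
      List.any_eq_true] at hchk
    obtain ⟨k, hk, e⟩ := (hchk (code (f.vec q0)) (code_lt _)).resolve_left (by simp [hnear])
    rw [hp, Nat.eq_of_beq_eq_true e]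
    exact hk
  obtain ⟨w, l, hl, e⟩ := span_decomp hpA hspan
  obtain ⟨h, -, -, -, hmem⟩ := S.qc_move f hgQ hne hv hd (inv_mem hq0Q) hl (w := w) (by
    rw [f.vec_inv S.base hq0Q, e, hdπ])
  refine ⟨h, ?_⟩
  rw [hq0, Subgroup.coe_mul, mul_inv_rev, mul_assoc, inv_mul_cancel, mul_one,
    inv_eq_of_mul_eq_one_right hj'] at hmem
  exact hmem

/-- the inner representative -/
theorem Big.inner_cover {j : Subgroup.centralizer ({z} : Set G)} (hj : j * j = 1) {p : PV} (hπ : f.π j = p)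
    (hp : cols p = Chk.cR 0) : ∃ h, (j : G) ∈ Qc Q h := by
  obtain ⟨g, hgQ, hne, hv⟩ := S.exists_va f
  obtain ⟨hR, -⟩ := S.core f hgQ hne hv
  obtain ⟨p', hp', hc'⟩ := covRep_elem 0 (by norm_num)
  have hpG : p ∈ Gam := hπ ▸ (f.range _).2 ⟨j, rfl⟩
  have hpA : AddP p := Gam_addP hpG
  obtain ⟨d, hdE, hdπ⟩ : p ∈ f.R g := hR ▸ (eq_of_cols hpA (Gam_addP hp'.1.1) (hp.trans hc'.symm) ▸ hp')
  have hd : (d : G) ∈ Qc Q g := mem_EC.1 hdE
  have hj' : (j : G) * j = 1 := congrArg Subtype.val hj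
  have hpp : p * p = 1 := by rw [← hπ, ← map_mul, hj, map_one]
  have hlin : Chk.linL (Chk.cR 0) = true := by
    have h := Chk.covRep_ok
    simp only [Chk.covRepOK, Bool.and_eq_true] at h
    exact h.1.1.1.1
  have hpK : p ∈ Kp := by
    refine (comm_gW_iff hpG).1 (eq_of_cols (hpA.mul (gP_spec 3).1) ((gP_spec 3).1.mul hpA) ?_)
    rw [cols_mul hpA, hp]
    rw [show cols (gW * p) = Chk.cmul (cols gW) (cols p) from cols_mul (gP_spec 3).1, hp,
      show cols gW = Chk.cW from (gP_spec 3).2.1]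
    exact leq_iff.1 hlin
  obtain ⟨c, hcx, hcπ⟩ := S.lift f hpK
  have hc2 : (c : G) * c = 1 := congrArg Subtype.val (S.lift_sq f hcx (by rw [hcπ, hpp]))
  have hci : (c : G)⁻¹ = c := inv_eq_of_mul_eq_one_right hc2
  have hcz : Commute (c : G) z := Subgroup.mem_centralizer_singleton_iff.1 c.2
  have hci2 := Chk.covInner_ok
  simp only [Chk.covInner, Bool.and_eq_true, List.all_eq_true, List.mem_range, Bool.or_eq_true,
    Bool.not_eq_true', List.any_eq_true, leq_iff] at hci2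
  obtain ⟨⟨⟨⟨⟨⟨hwS, hwM⟩, hkp⟩, hkA⟩, hMp⟩, hA⟩, hB⟩ := hci2
  have hwS' : ∀ s ∈ Dat.covS, s < 3 := fun s hs => Nat.le_of_ble_eq_true (hwS s hs)
  -- lifts of stabilising words commute with the lift up to the centre
  have hlift : ∀ w : List ℕ, (∀ s ∈ w, s < 3) → Chk.cmul (Chk.wS w) (Chk.cR 0) = Chk.cmul (Chk.cR 0) (Chk.wS w) →
      ∃ K : Subgroup.centralizer ({z} : Set G), Commute K S.base.xC ∧ cols (f.π K) = Chk.wS w ∧
        ∃ s, (K : G) * c * (K : G)⁻¹ = (c : G) * zp z s := by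
    intro w hw hcm
    obtain ⟨hg, hs⟩ := wStab_spec w hw
    obtain ⟨K, hK, hKπ⟩ := S.lift f hg.kp
    refine ⟨K, hK, by rw [hKπ, hs], ?_⟩
    have e : f.π (K * c * K⁻¹) = f.π c := by
      rw [map_mul, map_mul, map_inv, hKπ, hcπ, mul_inv_eq_iff_eq_mul]
      refine eq_of_cols (hg.addP.mul hpA) (hpA.mul hg.addP) ?_
      rw [cols_mul hg.addP, cols_mul hpA, hs, hp, hcm]
    exact S.lift_pair f hcx ((hK.mul_left hcx).mul_left hK.inv_left) e.symm
  -- the lift itself lies in a neighbour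
  set q0 := ((d * c : Subgroup.centralizer ({z} : Set G)) : G) with hq0
  have hq0Q : q0 ∈ Q := (f.ker _).1 (by rw [map_mul, hdπ, hcπ, hpp])
  have hdq : (d : G) = q0 * c := by rw [hq0, Subgroup.coe_mul, mul_assoc, hc2, mul_one]
  have hcq : (c : G) * q0 * (c : G)⁻¹ ∈ Q := S.base.ord.normQ _ hcz _ hq0Q
  have hnear : Chk.near (Chk.app (Chk.cR 0) (code (f.vec q0))) (code (f.vec q0)) = true := by
    have e1 : Nat.xor (Chk.app (Chk.cR 0) (code (f.vec q0))) (code (f.vec q0)) = code (f.vec ((d : G) * d)) := by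
      rw [show (d : G) * d = q0 * ((c : G) * q0 * (c : G)⁻¹) by rw [hdq, hci]; group,
        f.vec_mul _ hq0Q _ hcq, f.vec_conj c q0 hq0Q, hcπ, code_add, app_cols hpA, hp, Nat.xor_comm]
      rfl
    rw [Chk.near, e1]
    rcases (S.xtc g).sq_mem hd with e | e <;> rw [e]
    · rw [f.vec_one S.base, code_zero]; rfl
    · rw [hv, code_va, Nat.beq_refl, Bool.or_true]
  obtain ⟨K, hK, hKc, s, hKs⟩ := hlift Dat.covS hwS' hkp
  have hKA : AddP (f.π K) := Gam_addP ((f.range _).2 ⟨K, rfl⟩)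
  have hKz : Commute (K : G) z := Subgroup.mem_centralizer_singleton_iff.1 K.2
  have hKa : Commute (K : G) (g * z * g⁻¹) := by
    have hKva : f.π K va = va := code_inj (by
      rw [app_cols hKA, hKc, code_va]; exact Nat.eq_of_beq_eq_true hkA)
    obtain ⟨hsq, hsv, -⟩ := S.sec_spec f va
    obtain ⟨t, ht⟩ : ∃ t, g * z * g⁻¹ = sec f va * zp z t := by
      rcases (f.vec_eq _ hsq _ hgQ).1 (hsv.trans hv.symm) with e | e
      · exact ⟨false, by rw [e, zp_false, mul_one]⟩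
      · exact ⟨true, e⟩
    refine mul_inv_eq_iff_eq_mul.1 ?_
    rw [ht, ← conj_mul, S.sec_conj f hK, hKva, (S.zp_comm t hKz).eq, mul_inv_cancel_right]
  have hKd : (K : G) * d * (K : G)⁻¹ ∈ Qc Q g := by
    rw [mem_Qc] at hd ⊢
    have hz' : Commute (g⁻¹ * (K : G) * g) z := by
      have := (Commute.conj_iff g⁻¹).2 hKa
      rwa [inv_inv, show g⁻¹ * (g * z * g⁻¹) * g = z by group] at this
    have := S.base.ord.normQ _ hz' _ hd
    rwa [show g⁻¹ * (K : G) * g * (g⁻¹ * (d : G) * g) * (g⁻¹ * (K : G) * g)⁻¹ =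
      g⁻¹ * ((K : G) * d * (K : G)⁻¹) * g by group] at this
  have hKq : (K : G) * q0 * (K : G)⁻¹ ∈ Q := S.base.ord.normQ _ hKz _ hq0Q
  have hinv : Chk.fCond (Nat.xor (Chk.app (Chk.wS Dat.covS) (code (f.vec q0))) (code (f.vec q0))) = true := by
    set e := (K : G) * d * (K : G)⁻¹ * (d : G)⁻¹ with he
    have hee : e = (K : G) * q0 * (K : G)⁻¹ * ((c : G) * zp z s * (c : G)⁻¹) * q0⁻¹ := by
      rw [he, hdq, ← hKs]; group
    have hcs : (c : G) * zp z s * (c : G)⁻¹ = zp z s := by rw [(S.zp_comm s hcz).eq, mul_inv_cancel_right]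
    rw [hcs] at hee
    have heQ : e ∈ Q := hee ▸ mul_mem (mul_mem hKq (S.zp_mem s)) (inv_mem hq0Q)
    have h1 : f.vec e ∈ f.vec '' ((Q ⊓ Qc Q g : Subgroup G) : Set G) := ⟨e, ⟨heQ, Subgroup.mul_mem _ hKd (Subgroup.inv_mem _ hd)⟩, rfl⟩
    rw [S.inter_vec f hgQ hne hv, Set.mem_setOf_eq, hee, f.vec_mul _ (mul_mem hKq (S.zp_mem s)) _ (inv_mem hq0Q),
      f.vec_mul _ hKq _ (S.zp_mem s), f.vec_zp S, add_zero, f.vec_inv S.base hq0Q, f.vec_conj K q0 hq0Q,
      code_add, app_cols hKA, hKc] at h1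
    exact h1
  have hspan : code (f.vec q0) ∈ Chk.covSpan (cols p) := by
    obtain ⟨k, hk, e⟩ := (hA (code (f.vec q0)) (code_lt _)).resolve_left (fun h => h.elim
      (fun h => Bool.false_ne_true (h.symm.trans hnear)) (fun h => Bool.false_ne_true (h.symm.trans hinv)))
    rw [hp, Nat.eq_of_beq_eq_true e]
    exact hk
  obtain ⟨w, l, hl, e⟩ := span_decomp hpA hspan
  obtain ⟨h, hhQ, hhne, hhv, hmem⟩ := S.qc_move f hgQ hne hv hd (inv_mem hq0Q) hl (w := w) (by
    rw [f.vec_inv S.base hq0Q, e, hdπ])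
  rw [hdq, inv_mul_cancel_left] at hmem
  -- the given involution
  set q := ((j * c : Subgroup.centralizer ({z} : Set G)) : G) with hq
  have hqQ : q ∈ Q := (f.ker _).1 (by rw [map_mul, hπ, hcπ, hpp])
  have hjq : (j : G) = q * c := by rw [hq, Subgroup.coe_mul, mul_assoc, hc2, mul_one]
  have hqq : (c : G) * q * (c : G)⁻¹ = q⁻¹ := by
    refine (inv_eq_of_mul_eq_one_right ?_).symm
    rw [hjq] at hj'
    rw [hci, ← hj']
    group
  obtain ⟨hvQ, hvv, -⟩ := S.sec_spec f (f.vec q)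
  have hfixv : p (f.vec q) = f.vec q := by
    rw [← hcπ, ← f.vec_conj c q hqQ, hqq, f.vec_inv S.base hqQ]
  have hqs : qB (f.vec q) = false := by
    obtain ⟨t, ht⟩ : ∃ t, q = sec f (f.vec q) * zp z t := by
      rcases (f.vec_eq _ hvQ _ hqQ).1 hvv with e | e
      · exact ⟨false, by rw [zp_false, mul_one]; exact e⟩
      · exact ⟨true, e⟩
    have hfix : (c : G) * q * (c : G)⁻¹ = q := by
      conv_lhs => rw [ht, ← conj_mul, S.sec_conj f hcx, hcπ, hfixv, (S.zp_comm t hcz).eq, mul_inv_cancel_right, ← ht]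
    have h1 : q * q = zp z false := by
      rw [zp_false]
      nth_rewrite 2 [← hfix]
      rw [hqq, mul_inv_cancel]
    exact S.zp_inj ((f.sq_zp S hqQ).symm.trans h1)
  obtain ⟨L, hL, k, hk, he⟩ := (hB (code (f.vec q)) (code_lt _)).resolve_left (by
    rintro (h | h)
    · have e := congrArg code hfixv
      rw [app_cols hpA, hp] at e
      rw [e, Nat.beq_refl] at h
      simp at h
    · exact absurd h (ne_true_of_eq_false hqs))
  rcases List.mem_cons.1 hL with rfl | hL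
  · have hspan' : code (f.vec q) ∈ Chk.covSpan (cols p) := by
      have hid : Chk.app Chk.idL (code (f.vec q)) = code (f.vec q) := by
        rw [← cols_one, ← app_cols AddP.one]; rfl
      rw [hid] at he
      rw [hp, Nat.eq_of_beq_eq_true he]
      exact hk
    obtain ⟨w', l', hl', e'⟩ := span_decomp hpA hspan'
    obtain ⟨h', -, -, -, hm⟩ := S.qc_move f hhQ hhne hhv hmem hqQ hl' (w := w') (by rw [hcπ]; exact e')
    exact ⟨h', hjq ▸ hm⟩
  · obtain ⟨w0, hw0, rfl⟩ := List.mem_map.1 hL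
    obtain ⟨M, hM, hMc, s', hMs⟩ := hlift w0 (fun s hs => Nat.le_of_ble_eq_true (hwM w0 hw0 s hs)) (hMp w0 hw0)
    have hMA : AddP (f.π M) := Gam_addP ((f.range _).2 ⟨M, rfl⟩)
    have hMz : Commute (M : G) z := Subgroup.mem_centralizer_singleton_iff.1 M.2
    set q2 := (M : G) * q * (M : G)⁻¹ * zp z s' with hq2
    have hMq : (M : G) * q * (M : G)⁻¹ ∈ Q := S.base.ord.normQ _ hMz _ hqQ
    have hq2v : code (f.vec q2) = Chk.app (Chk.wS w0) (code (f.vec q)) := by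
      rw [hq2, f.vec_mul _ hMq _ (S.zp_mem s'), f.vec_zp S, add_zero, f.vec_conj M q hqQ, app_cols hMA, hMc]
    have hspan' : code (f.vec q2) ∈ Chk.covSpan (cols p) := by
      rw [hq2v, hp, Nat.eq_of_beq_eq_true he]
      exact hk
    obtain ⟨w', l', hl', e'⟩ := span_decomp hpA hspan'
    obtain ⟨h', -, -, -, hm⟩ := S.qc_move f hhQ hhne hhv hmem (mul_mem hMq (S.zp_mem s')) hl' (w := w')
      (by rw [hcπ]; exact e')
    refine ⟨(M : G)⁻¹ * h', ?_⟩
    have h2 := Qc_conj (M : G)⁻¹ hm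
    have e3 : (M : G)⁻¹ * ((M : G) * q * (M : G)⁻¹ * zp z s' * c) * (M : G)⁻¹⁻¹ = q * (c : G) := by
      rw [mul_assoc ((M : G) * q * (M : G)⁻¹) (zp z s'), ← (S.zp_comm s' hcz).eq, ← hMs]
      group
    rw [e3] at h2
    exact hjq ▸ h2

theorem Big.invol_Qc {j : Subgroup.centralizer ({z} : Set G)} (hj : j * j = 1) : ∃ h, (j : G) ∈ Qc Q h := by
  haveI : Fact (Nat.Prime 2) := ⟨Nat.prime_two⟩
  set T0 := TS.comap f.π
  obtain ⟨TC, hTC⟩ := (S.card_T0 f).2.exists_le_sylow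
  have hT0 : (TC : Subgroup (Subgroup.centralizer ({z} : Set G))) = T0 := by
    obtain ⟨k, hk⟩ := IsPGroup.iff_card.1 TC.isPGroup'
    have hd : 2 ^ k ∣ 2 ^ 13 * 2661120 := by
      rw [← hk, ← f.card_C S.base]; exact Subgroup.card_subgroup_dvd_card _
    have hk21 : k ≤ 21 := (Nat.pow_dvd_pow_iff_le_right (le_refl 2)).1
      ((Nat.Coprime.pow_left k (by norm_num : Nat.Coprime 2 10395)).dvd_of_dvd_mul_right hd)
    exact (Subgroup.eq_of_le_of_card_ge hTC (by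
      rw [hk, (S.card_T0 f).1]; exact Nat.pow_le_pow_right (by norm_num) hk21)).symm
  have hjp : IsPGroup 2 (Subgroup.zpowers j) := fun a => by
    obtain ⟨n, hn⟩ := Subgroup.mem_zpowers_iff.1 a.2
    refine ⟨1, Subtype.ext ?_⟩
    show (a : Subgroup.centralizer ({z} : Set G)) ^ 2 ^ 1 = 1
    rw [← hn, pow_one, ← zpow_natCast, ← zpow_mul, mul_comm, zpow_mul, zpow_natCast, pow_two, hj, one_zpow]
  obtain ⟨P, hP⟩ := hjp.exists_le_sylow
  obtain ⟨c, hc⟩ := MulAction.exists_smul_eq (Subgroup.centralizer ({z} : Set G)) P TC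
  set j' := c * j * c⁻¹ with hj'
  have hj'2 : j' * j' = 1 := by rw [hj', conj_mul, hj, mul_one, mul_inv_cancel]
  have hT : f.π j' ∈ TS := by
    have : j' ∈ (TC : Subgroup (Subgroup.centralizer ({z} : Set G))) := by
      rw [← hc, Sylow.coe_subgroup_smul]
      exact ⟨j, hP (Subgroup.mem_zpowers j), rfl⟩
    rw [hT0] at this
    exact this
  suffices h : ∃ h, (j' : G) ∈ Qc Q h by
    obtain ⟨h, hh⟩ := h
    refine ⟨(c : G)⁻¹ * h, ?_⟩
    have := Qc_conj (c : G)⁻¹ hh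
    rwa [hj', show (c : G)⁻¹ * ((c * j * c⁻¹ : Subgroup.centralizer ({z} : Set G)) : G) * (c : G)⁻¹⁻¹ = j by
      simp only [Subgroup.coe_mul, Subgroup.coe_inv]; group] at this
  by_cases h1 : f.π j' = 1
  · exact ⟨1, mem_Qc_one.2 ((f.ker _).1 h1)⟩
  obtain ⟨a, ha, hcols⟩ := inv_index hT (by rw [← map_mul, hj'2, map_one]) h1
  have h := Chk.covTab_ok
  simp only [Chk.covTabOK, List.all_eq_true, List.mem_range, Bool.and_eq_true, leq_iff] at h
  obtain ⟨⟨hr, hw⟩, heq⟩ := h a ha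
  set r := (Dat.covT.getD a (0, [])).1
  set w := (Dat.covT.getD a (0, [])).2
  have hr3 : r < 3 := Nat.le_of_ble_eq_true hr
  obtain ⟨p, hp, hpc⟩ := covRep_elem r hr3
  obtain ⟨L, hL⟩ := (f.range _).1 (wd_memG w)
  have hwc : cols (wd w) = Chk.evC w := wd_cols w fun s hs => Nat.le_of_ble_eq_true (hw s hs)
  set j'' := L⁻¹ * j' * L with hj''
  have hπ : f.π j'' = p := by
    rw [hj'', map_mul, map_mul, map_inv, hL, mul_assoc, inv_mul_eq_iff_eq_mul]
    refine eq_of_cols ((Gam_addP (TS_le hT)).mul (wd_addP w)) ((wd_addP w).mul (Gam_addP hp.1.1)) ?_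
    rw [cols_mul (Gam_addP (TS_le hT)), cols_mul (wd_addP w), hcols, hpc, hwc]
    exact heq.symm
  have hj''2 : j'' * j'' = 1 := by
    rw [hj'']
    calc L⁻¹ * j' * L * (L⁻¹ * j' * L) = L⁻¹ * (j' * j') * L := by group
      _ = 1 := by rw [hj'2, mul_one, inv_mul_cancel]
  obtain ⟨k, hk⟩ : ∃ h, (j'' : G) ∈ Qc Q h := by
    rcases (show r = 0 ∨ r = 1 ∨ r = 2 by omega) with e | e | e <;> rw [e] at hpc hr3
    · exact S.inner_cover f hj''2 hπ hpc
    · exact S.outer_cover f hr3 Chk.covOuter_one hj''2 hπ hpc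
    · exact S.outer_cover f hr3 Chk.covOuter_two hj''2 hπ hpc
  refine ⟨(L : G) * k, ?_⟩
  have := Qc_conj (L : G) hk
  rwa [hj'', show (L : G) * ((L⁻¹ * j' * L : Subgroup.centralizer ({z} : Set G)) : G) * (L : G)⁻¹ = j' by
    simp only [Subgroup.coe_mul, Subgroup.coe_inv]; group] at this

/-- every involution of the second class lies in a largest elementary abelian subgroup -/
theorem Big.iT_in_V {t : G} (ht2 : t * t = 1) (ht : iT z t) :
    ∃ V : Subgroup G, Cfsg.IsElementaryAbelian 2 V ∧ Nat.card V = 2 ^ 11 ∧ t ∈ V := by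
  haveI : Fact (Nat.Prime 2) := ⟨Nat.prime_two⟩
  obtain ⟨TC⟩ : Nonempty (Sylow 2 ↥(Subgroup.centralizer ({z} : Set G))) := inferInstance
  obtain ⟨P, hP⟩ := S.sylow_top f TC
  have htp : IsPGroup 2 (Subgroup.zpowers t) := fun a => by
    obtain ⟨n, hn⟩ := Subgroup.mem_zpowers_iff.1 a.2
    refine ⟨1, Subtype.ext ?_⟩
    show (a : G) ^ 2 ^ 1 = 1
    rw [← hn, pow_one, ← zpow_natCast, ← zpow_mul, mul_comm, zpow_mul, zpow_natCast, pow_two, ht2, one_zpow]
  obtain ⟨T, hT⟩ := htp.exists_le_sylow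
  obtain ⟨c, hc⟩ := MulAction.exists_smul_eq G T P
  have hmem : c * t * c⁻¹ ∈ Subgroup.centralizer ({z} : Set G) := by
    have : c * t * c⁻¹ ∈ (P : Subgroup G) := by
      rw [← hc, Sylow.coe_subgroup_smul]
      exact ⟨t, hT (Subgroup.mem_zpowers t), rfl⟩
    rw [hP] at this
    obtain ⟨y, -, e⟩ := this
    exact e ▸ y.2
  set j : Subgroup.centralizer ({z} : Set G) := ⟨c * t * c⁻¹, hmem⟩
  obtain ⟨h, hh⟩ := S.invol_Qc f (j := j) (Subtype.ext (by
    show c * t * c⁻¹ * (c * t * c⁻¹) = 1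
    rw [conj_mul, ht2, mul_one, mul_inv_cancel]))
  rw [mem_Qc] at hh
  set d := h⁻¹ * c
  set t' := d * t * d⁻¹ with ht'
  have ht'Q : t' ∈ Q := by
    rw [ht']
    convert hh using 1
    show h⁻¹ * c * t * (h⁻¹ * c)⁻¹ = h⁻¹ * (c * t * c⁻¹) * h
    group
  have ht'T : iT z t' := (iT_conj z t d).2 ht
  have ht'2 : t' * t' = 1 := by rw [ht', conj_mul, ht2, mul_one, mul_inv_cancel]
  have htz : t' ≠ z := fun e => ht'T.2 (e ▸ IsConj.refl z)
  have hqs : qB (f.vec t') = false := S.zp_inj ((f.sq_zp S ht'Q).symm.trans (ht'2.trans (zp_false z).symm))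
  have hA' : Chk.isA (code (f.vec t')) = false := by
    have := (S.Q_class f ht'Q ht'2 ht'T.1 htz).1 ht'T
    rwa [PA, Bool.not_eq_true] at this
  have hv0 : f.vec t' ≠ 0 := fun e => by
    rcases (f.vec_eq 1 (one_mem _) t' ht'Q).1 ((f.vec_one S.base).trans e.symm) with h | h
    · exact ht'T.1 h
    · exact htz (h.trans (one_mul z))
  obtain ⟨k, hk, hkv⟩ := hex_cover hqs hv0 hA'
  rw [← Hx_eq hk] at hkv
  obtain ⟨u, hu, hue⟩ := hkv
  obtain ⟨L, hL⟩ := (f.range _).1 (show hxP k ∈ Gam from wd_memG _)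
  obtain ⟨A, hAe, hAc, hA⟩ := S.A0_exists f
  have hLz : Commute (L : G) z := Subgroup.mem_centralizer_singleton_iff.1 L.2
  have ha : (L : G)⁻¹ * t' * L ∈ Q := by
    have := S.base.ord.normQ (L : G)⁻¹ hLz.inv_left t' ht'Q
    rwa [inv_inv] at this
  have hav : f.vec ((L : G)⁻¹ * t' * L) = u := by
    have h1 := f.vec_conj L _ ha
    rw [show (L : G) * ((L : G)⁻¹ * t' * L) * (L : G)⁻¹ = t' by group, hL, ← hue] at h1
    exact ((hxP k).injective h1).symm
  refine ⟨A.map (MulAut.conj (d⁻¹ * (L : G))).toMonoidHom, elem_map _ hAe, by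
    rw [Subgroup.card_map_of_injective (MulAut.conj _).injective, hAc], ?_⟩
  refine ⟨(L : G)⁻¹ * t' * L, (hA _).2 ⟨_, ⟨ha, hav ▸ hu⟩, 1, one_mem _, by rw [Subgroup.coe_one, mul_one]⟩, ?_⟩
  show d⁻¹ * (L : G) * _ * (d⁻¹ * (L : G))⁻¹ = t
  rw [ht']; group

omit S

end Cfsg.Agent.Spor.JFour
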