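import Cfsg.Agent.Lib.Spor.JFourThompNorm

/-!
Janko four type: every largest elementary abelian subgroup carries the point model, and its normaliser
maps onto the Mathieu group of degree 24.
-/

set_option autoImplicit false
set_option maxRecDepth 100000
set_option linter.unusedSectionVars false

namespace Cfsg.Agent.Spor.JFour

open Cfsg.Agent.Spor.SUSix (V6 code code_lt vecOf_code)
open scoped Pointwise
open Cfsg.Agent.Spor.LFT (iT iT_conj PointModel Des)

attribute [local irreducible] Gam Kp Chk.app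

universe u

variable {G : Type u} [Group G] [Finite G] {z : G} {Q N : Subgroup G} {x : G}
variable (S : Big z Q N x) (f : Frame z Q x)

include S f

/-- all elementary abelian subgroups of order 2^11 are conjugate -/
theorem Big.big_conj {A V : Subgroup G} (hAe : Cfsg.IsElementaryAbelian 2 A) (hAc : Nat.card A = 2 ^ 11)
    (hVe : Cfsg.IsElementaryAbelian 2 V) (hVc : Nat.card V = 2 ^ 11) :
    ∃ h : G, A.map (MulAut.conj h).toMonoidHom = V := by
  haveI : Fact (Nat.Prime 2) := ⟨Nat.prime_two⟩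
  obtain ⟨P1, hP1⟩ := (IsPGroup.of_card hAc).exists_le_sylow
  obtain ⟨P2, hP2⟩ := (IsPGroup.of_card hVc).exists_le_sylow
  obtain ⟨h, hh⟩ := MulAction.exists_smul_eq G P1 P2
  refine ⟨h, S.big_unique f P2.isPGroup' ?_ hP2 (elem_map _ hAe) hVe
    (by rw [Subgroup.card_map_of_injective (MulAut.conj h).injective, hAc]) hVc⟩
  rw [← hh, Sylow.coe_subgroup_smul]
  exact Subgroup.map_mono hP1

/-- the point model of the chosen subgroup, with its homomorphism onto the Mathieu group -/
theorem Big.model_A {A : Subgroup G} (hAe : Cfsg.IsElementaryAbelian 2 A) (hAc : Nat.card A = 2 ^ 11)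
    (hA : ∀ r, r ∈ A ↔ ∃ a ∈ AQset f, ∃ c ∈ AHs S f, r = a * (c : G)) :
    ∃ ψ : ℕ → G, PointModel z A ψ ∧
      ∃ ρ : Subgroup.normalizer (A : Set G) →* Cfsg.M24, Function.Surjective ρ ∧
        ρ.ker = A.subgroupOf (Subgroup.normalizer (A : Set G)) ∧
        ∀ y : Subgroup.normalizer (A : Set G), Des ψ (y : G) (ρ y : Equiv.Perm GolayPt) := by
  obtain ⟨ψ, h1, h2, h3, h4, h5⟩ := S.model f hAe hAc hA
  have m : PointModel z A ψ := ⟨h1, h2, h3, h4, h5⟩
  have hzA : z ∈ A := (hA z).2 ⟨z, S.AQ_z f, 1, one_mem _, by rw [Subgroup.coe_one, mul_one]⟩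
  refine ⟨ψ, m, m.exists_hom hAe hAc (fun y hy => S.cen_A f hAe hAc hA hy) ?_⟩
  rw [← S.orbit_count f hAe hAc hzA, (S.pr_values f hAe hAc hA).2.2.2]
  have := Nat.mul_le_mul_left 1771 (S.card_HC f hAe hAc hA)
  omega

/-- every elementary abelian subgroup of order 2^11 contains its centraliser and carries the model -/
theorem Big.model_any {V : Subgroup G} (hVe : Cfsg.IsElementaryAbelian 2 V) (hVc : Nat.card V = 2 ^ 11) :
    Subgroup.centralizer (V : Set G) ≤ V ∧ ∃ ψ : ℕ → G, PointModel z V ψ ∧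
      ∃ ρ : Subgroup.normalizer (V : Set G) →* Cfsg.M24, Function.Surjective ρ ∧
        ρ.ker = V.subgroupOf (Subgroup.normalizer (V : Set G)) ∧
        ∀ y : Subgroup.normalizer (V : Set G), Des ψ (y : G) (ρ y : Equiv.Perm GolayPt) := by
  obtain ⟨A, hAe, hAc, hA⟩ := S.A0_exists f
  obtain ⟨h, rfl⟩ := S.big_conj f hAe hAc hVe hVc
  obtain ⟨ψ, m0, -⟩ := S.model_A f hAe hAc hA
  set V := A.map (MulAut.conj h).toMonoidHom
  have hmem : ∀ r, r ∈ V ↔ h⁻¹ * r * h ∈ A := fun r => by
    rw [Subgroup.mem_map_equiv, MulAut.conj_symm_apply]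
  have hcj : ∀ r, h⁻¹ * (h * r * h⁻¹) * h = r := fun r => by group
  have m : PointModel z V (fun n => h * ψ n * h⁻¹) := by
    refine ⟨fun n hn => (hmem _).2 (by rw [hcj]; exact m0.mem n hn), fun r hr => ?_, fun a b ha hb => ?_,
      fun a b ha hb e => m0.inj a b ha hb (mul_left_cancel (mul_right_cancel e)),
      fun n hn => (iT_conj z (ψ n) h).trans (m0.cls n hn)⟩
    · obtain ⟨n, hn, e⟩ := m0.surj _ ((hmem r).1 hr)
      exact ⟨n, hn, by rw [e]; group⟩
    · rw [m0.mul a b ha hb, conj_mul]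
  have hcen : ∀ y : G, (∀ r ∈ V, Commute y r) → y ∈ V := fun y hy => by
    refine (hmem y).2 (S.cen_A f hAe hAc hA fun r hr => ?_)
    have := (Commute.conj_iff h⁻¹).2 (hy (h * r * h⁻¹) ((hmem _).2 (by rw [hcj]; exact hr)))
    simpa [mul_assoc] using this
  refine ⟨fun y hy => hcen y fun r hr => (Subgroup.mem_centralizer_iff.1 hy r hr).symm, _, m,
    m.exists_hom hVe hVc hcen ?_⟩
  have hzA : z ∈ A := (hA z).2 ⟨z, S.AQ_z f, 1, one_mem _, by rw [Subgroup.coe_one, mul_one]⟩
  have hN : (Subgroup.normalizer (A : Set G)).map (MulAut.conj h).toMonoidHom = Subgroup.normalizer (V : Set G) :=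
    Subgroup.map_equiv_normalizer_eq A (MulAut.conj h)
  rw [← hN, Subgroup.card_map_of_injective (MulAut.conj h).injective, ← S.orbit_count f hAe hAc hzA,
    (S.pr_values f hAe hAc hA).2.2.2]
  have := Nat.mul_le_mul_left 1771 (S.card_HC f hAe hAc hA)
  omega

omit S

end Cfsg.Agent.Spor.JFour
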