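import Cfsg.Agent.Lib.Spor.JFourThompModel
import Cfsg.Agent.Lib.Spor.JFourHexad

/-!
Janko four type: a commuting pair of involutions of the two classes lies in at most one elementary abelian
subgroup of order 2^11.
-/

set_option autoImplicit false
set_option maxRecDepth 100000
set_option linter.unusedSectionVars false

namespace Cfsg.Agent.Spor.JFour

open Cfsg.Agent.Spor.SUSix (V6 code code_lt vecOf_code)
open scoped Pointwise
open Cfsg.Agent.Spor.LFT (iT iT_conj)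

attribute [local irreducible] Gam Kp Chk.app

universe u

variable {G : Type u} [Group G] [Finite G] {z : G} {Q N : Subgroup G} {x : G}
variable (S : Big z Q N x) (f : Frame z Q x) {A : Subgroup G}

include S f

theorem Big.AQ_of_mem (hA : ∀ r, r ∈ A ↔ ∃ a ∈ AQset f, ∃ c ∈ AHs S f, r = a * (c : G)) {r : G}
    (hr : r ∈ A) (hrQ : r ∈ Q) : r ∈ AQset f := by
  obtain ⟨a, ha, c, hc, rfl⟩ := (hA r).1 hr
  have hcQ : (c : G) ∈ Q := (Subgroup.mul_mem_cancel_left Q ha.1).1 hrQ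
  have hv : f.vec (a * (c : G)) = f.vec a := by
    rw [f.vec_mul a ha.1 _ hcQ]
    rcases S.ker f hcQ (congrArg Subtype.val (mem_Kx.1 hc.1).eq) with e | e <;> rw [e]
    · rw [f.vec_one S.base, add_zero]
    · rw [f.vec_z S.base, add_zero]
  exact ⟨hrQ, hv ▸ ha.2⟩

theorem Big.StF_norm (hAe : Cfsg.IsElementaryAbelian 2 A) (hAc : Nat.card A = 2 ^ 11)
    (hA : ∀ r, r ∈ A ↔ ∃ a ∈ AQset f, ∃ c ∈ AHs S f, r = a * (c : G))
    {c : Subgroup.centralizer ({z} : Set G)} (hc : f.π c ∈ StF) : (c : G) ∈ Subgroup.normalizer (A : Set G) := by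
  revert c
  set C := Subgroup.centralizer ({z} : Set G)
  set H := Subgroup.normalizer (A : Set G)
  set L := H.subgroupOf C
  intro c hc
  have hker : f.π.ker ≤ L := fun d hd => S.T0_norm f hAe hAc hA (by
    rw [MonoidHom.mem_ker.1 hd]; exact one_mem _)
  have hAQA : ∀ a ∈ AQset f, a ∈ A := fun a ha => (hA a).2 ⟨a, ha, 1, one_mem _, by rw [Subgroup.coe_one, mul_one]⟩
  have hle : L.map f.π ≤ StF := by
    rintro _ ⟨l, hl, rfl⟩
    refine ⟨(f.range _).2 ⟨l, rfl⟩, Set.eq_of_subset_of_ncard_le ?_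
      (le_of_eq (Set.ncard_image_of_injective _ (f.π l).injective).symm)⟩
    rintro _ ⟨u, hu, rfl⟩
    obtain ⟨a, ha, rfl⟩ := f.vec_surj u
    have haA : a ∈ A := hAQA a ⟨ha, hu⟩
    have hlz : Commute (l : G) z := Subgroup.mem_centralizer_singleton_iff.1 l.2
    rw [← f.vec_conj l a ha]
    exact (S.AQ_of_mem f hA ((Subgroup.mem_normalizer_iff.1 hl a).1 haA) (S.base.ord.normQ l hlz a ha)).2
  have hI : 34560 ≤ Nat.card (L.map f.π) := by
    have h := S.card_HC f hAe hAc hA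
    have hcard : Nat.card (C.subgroupOf H) = Nat.card L := Nat.card_congr
      { toFun := fun y => ⟨⟨(y.1 : G), y.2⟩, y.1.2⟩
        invFun := fun y => ⟨⟨(y.1 : G), y.2⟩, y.1.2⟩
        left_inv := fun _ => rfl
        right_inv := fun _ => rfl }
    have hk : Nat.card f.π.ker = 2 ^ 13 := by
      rw [← S.base.ord.cardQ]
      exact Nat.card_congr
        { toFun := fun d => ⟨((d.1 : C) : G), (f.ker _).1 (MonoidHom.mem_ker.1 d.2)⟩
          invFun := fun q => ⟨⟨q.1, S.base.mem_C q.2⟩, MonoidHom.mem_ker.2 ((f.ker _).2 q.2)⟩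
          left_inv := fun _ => rfl
          right_inv := fun _ => rfl }
    rw [hcard, card_split f L, inf_eq_right.2 hker, hk, mul_comm] at h
    exact Nat.le_of_mul_le_mul_right h (by norm_num)
  have heq : L.map f.π = StF := Subgroup.eq_of_le_of_card_ge hle ((card_StF f.mdl).trans hI)
  obtain ⟨l, hl, hle'⟩ := heq.symm ▸ hc
  have hd : l⁻¹ * c ∈ L := hker (MonoidHom.mem_ker.2 (by rw [map_mul, map_inv, hle', inv_mul_cancel]))
  have := mul_mem hl hd
  rwa [mul_inv_cancel_left] at this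

theorem Big.H_conj (hAe : Cfsg.IsElementaryAbelian 2 A) (hAc : Nat.card A = 2 ^ 11) (hzA : z ∈ A)
    {W : Subgroup G} (hWe : Cfsg.IsElementaryAbelian 2 W) (hWc : Nat.card W = 2 ^ 11) (hzW : z ∈ W) :
    ∃ h : Subgroup.centralizer ({z} : Set G), A.map (MulAut.conj (h : G)).toMonoidHom = W := by
  obtain ⟨g, rfl⟩ := S.big_conj f hAe hAc hWe hWc
  rw [Subgroup.mem_map_equiv, MulAut.conj_symm_apply] at hzW
  obtain ⟨m, hm, e⟩ := S.control f hAe hAc hzA (g := g⁻¹) (by rwa [inv_inv])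
  refine ⟨⟨g * m, Subgroup.mem_centralizer_singleton_iff.2 (mul_inv_eq_iff_eq_mul.1 ?_)⟩, ?_⟩
  · calc g * m * z * (g * m)⁻¹ = g * (m * z * m⁻¹) * g⁻¹ := by group
      _ = z := by rw [e]; group
  · ext r
    rw [Subgroup.mem_map_equiv, MulAut.conj_symm_apply, Subgroup.mem_map_equiv, MulAut.conj_symm_apply]
    rw [Subgroup.mem_normalizer_iff.1 hm ((g * m)⁻¹ * r * (g * m))]
    rw [show m * ((g * m)⁻¹ * r * (g * m)) * m⁻¹ = g⁻¹ * r * g by group]

/-- the chosen subgroup is the only one through the central involution and one of the other class -/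
theorem Big.A_eq (hAe : Cfsg.IsElementaryAbelian 2 A) (hAc : Nat.card A = 2 ^ 11)
    (hA : ∀ r, r ∈ A ↔ ∃ a ∈ AQset f, ∃ c ∈ AHs S f, r = a * (c : G))
    (c : Subgroup.centralizer ({z} : Set G)) {t : G} (ht : t ∈ A) (hT : iT z t)
    (htc : t ∈ A.map (MulAut.conj (c : G)).toMonoidHom) : (c : G) ∈ Subgroup.normalizer (A : Set G) := by
  refine S.StF_norm f hAe hAc hA ?_
  rw [Subgroup.mem_map_equiv, MulAut.conj_symm_apply] at htc
  set t' := (c : G)⁻¹ * t * c with ht'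
  have hcz : Commute (c : G) z := Subgroup.mem_centralizer_singleton_iff.1 c.2
  have hcG : f.π c ∈ Gam := (f.range _).2 ⟨c, rfl⟩
  by_cases htQ : t ∈ Q
  · have ht'Q : t' ∈ Q := by
      have := S.base.ord.normQ (c : G)⁻¹ hcz.inv_left t htQ
      rwa [inv_inv] at this
    have h1 := S.AQ_of_mem f hA ht htQ
    have h2 := S.AQ_of_mem f hA htc ht'Q
    have htz : t ≠ z := fun e => hT.2 (e ▸ IsConj.refl z)
    have hv0 : f.vec t ≠ 0 := fun e => by
      rcases (f.vec_eq 1 (one_mem _) t htQ).1 ((f.vec_one S.base).trans e.symm) with h | h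
      · exact hT.1 h
      · exact htz (h.trans (one_mul z))
    have hA' : Chk.isA (code (f.vec t)) = false := by
      have := (S.Q_class f htQ (S.AQ_sq' f h1) hT.1 htz).1 hT
      rwa [PA, Bool.not_eq_true] at this
    refine FS_unique hcG hv0 hA' h1.2 ⟨f.vec t', h2.2, ?_⟩
    rw [← f.vec_conj c t' ht'Q, ht']
    congr 1
    group
  · obtain ⟨a, ha, d, hd, hr⟩ := (hA t).1 ht
    obtain ⟨a', ha', d', hd', hr'⟩ := (hA t').1 htc
    obtain ⟨b, hb⟩ := elE_surj (show f.π d ∈ ES from hd.2)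
    have hb0 : b ≠ 0 := fun e => by
      refine htQ (hr ▸ mul_mem ha.1 ((f.ker d).1 ?_))
      rw [← hb, e, elE_zero]
    refine FS_fixed hcG hb0 fun u hu => ?_
    set aC : Subgroup.centralizer ({z} : Set G) := ⟨a, S.base.mem_C ha.1⟩
    set aC' : Subgroup.centralizer ({z} : Set G) := ⟨a', S.base.mem_C ha'.1⟩
    have heq : (aC * d) * c = c * (aC' * d') := Subtype.ext (by
      show a * (d : G) * (c : G) = (c : G) * (a' * (d' : G))
      rw [← hr, ← hr', ht']; group)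
    have hπ := congrArg f.π heq
    rw [map_mul, map_mul, map_mul, map_mul, (f.ker aC).2 ha.1, (f.ker aC').2 ha'.1, one_mul, one_mul, ← hb] at hπ
    have := Equiv.congr_fun hπ u
    rw [Equiv.Perm.mul_apply, Equiv.Perm.mul_apply, hu _ (show f.π d' ∈ ES from hd'.2)] at this
    exact this

/-- at most one subgroup through a commuting pair of the two classes -/
theorem Big.V_eq {V V' : Subgroup G} (hVe : Cfsg.IsElementaryAbelian 2 V) (hVc : Nat.card V = 2 ^ 11)
    (hVe' : Cfsg.IsElementaryAbelian 2 V') (hVc' : Nat.card V' = 2 ^ 11) {r t : G} (hr : IsConj z r) (hT : iT z t)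
    (hrV : r ∈ V) (hrV' : r ∈ V') (htV : t ∈ V) (htV' : t ∈ V') : V = V' := by
  obtain ⟨g, rfl⟩ := isConj_iff.1 hr
  obtain ⟨A, hAe, hAc, hA⟩ := S.A0_exists f
  have hzA : z ∈ A := (hA z).2 ⟨z, S.AQ_z f, 1, one_mem _, by rw [Subgroup.coe_one, mul_one]⟩
  set φ := (MulAut.conj g⁻¹).toMonoidHom
  have hφ : Function.Injective φ := (MulAut.conj g⁻¹).injective
  have hm : ∀ {W : Subgroup G} {r : G}, g * r * g⁻¹ ∈ W → r ∈ W.map φ := fun {W r} h =>
    ⟨g * r * g⁻¹, h, by show g⁻¹ * (g * r * g⁻¹) * g⁻¹⁻¹ = r; group⟩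
  obtain ⟨h, hh⟩ := S.H_conj f hAe hAc hzA (elem_map φ hVe)
    (by rw [Subgroup.card_map_of_injective hφ, hVc]) (hm hrV)
  obtain ⟨h', hh'⟩ := S.H_conj f hAe hAc hzA (elem_map φ hVe')
    (by rw [Subgroup.card_map_of_injective hφ, hVc']) (hm hrV')
  refine Subgroup.map_injective hφ ?_
  set s := g⁻¹ * t * g with hs
  have hsV : ∀ {W : Subgroup G}, t ∈ W → s ∈ W.map φ := fun {W} h => hm (by
    rw [hs, show g * (g⁻¹ * t * g) * g⁻¹ = t by group]; exact h)
  set r0 := (h : G)⁻¹ * s * h with hr0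
  have h1 : r0 ∈ A := by
    have := hsV htV
    rwa [← hh, Subgroup.mem_map_equiv, MulAut.conj_symm_apply] at this
  have h2 : r0 ∈ A.map (MulAut.conj ((h⁻¹ * h' : Subgroup.centralizer ({z} : Set G)) : G)).toMonoidHom := by
    have := hsV htV'
    rw [← hh', Subgroup.mem_map_equiv, MulAut.conj_symm_apply] at this
    rw [Subgroup.mem_map_equiv, MulAut.conj_symm_apply, Subgroup.coe_mul, Subgroup.coe_inv, hr0]
    rw [show ((h : G)⁻¹ * (h' : G))⁻¹ * ((h : G)⁻¹ * s * h) * ((h : G)⁻¹ * (h' : G)) = (h' : G)⁻¹ * s * h' by group]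
    exact this
  have hT0 : iT z r0 := by
    have e : r0 = (g * (h : G))⁻¹ * t * ((g * (h : G))⁻¹)⁻¹ := by rw [hr0, hs]; group
    rw [e, iT_conj]; exact hT
  have hn := Subgroup.mem_normalizer_iff.1 (S.A_eq f hAe hAc hA _ h1 hT0 h2)
  rw [← hh, ← hh']
  ext y
  rw [Subgroup.mem_map_equiv, MulAut.conj_symm_apply, Subgroup.mem_map_equiv, MulAut.conj_symm_apply,
    hn ((h' : G)⁻¹ * y * h'), Subgroup.coe_mul, Subgroup.coe_inv]
  rw [show (h : G)⁻¹ * (h' : G) * ((h' : G)⁻¹ * y * h') * ((h : G)⁻¹ * (h' : G))⁻¹ = (h : G)⁻¹ * y * h by group]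

omit S

end Cfsg.Agent.Spor.JFour
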