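import Cfsg.Agent.Lib.Spor.JFourMutual
import Cfsg.Agent.Lib.Spor.JFourVUnique
import Cfsg.Agent.Lib.Spor.GolayTrans

/-!
Janko four type: the centraliser of an involution of the second class inside a largest elementary abelian
subgroup normalises that subgroup; the two orbits of the normaliser on it.
-/

set_option autoImplicit false
set_option maxRecDepth 100000
set_option linter.unusedSectionVars false

namespace Cfsg.Agent.Spor.JFour

open scoped Pointwise
open Cfsg.Agent.Spor.LFT (iT iT_conj PointModel Des phN phN_lt phN_symm pair_inj)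

attribute [local irreducible] Gam Kp Chk.app

theorem pick_point {S0 : Finset GolayPt} (h : S0.card ≤ 23) : ∃ d : GolayPt, d ∉ S0 := by
  obtain ⟨d, -, hd⟩ := Finset.exists_mem_notMem_of_card_lt_card (s := S0) (t := Finset.univ)
    (by rw [Finset.card_univ, Fintype.card_option, ZMod.card]; omega)
  exact ⟨d, hd⟩

theorem symmDiff_sub {e f : Finset GolayPt} (h : e ⊆ f) : symmDiff f e = f \ e := symmDiff_of_ge h

theorem symmDiff_disj {e f : Finset GolayPt} (h : Disjoint e f) : (symmDiff e f).card = e.card + f.card := by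
  rw [h.symmDiff_eq_sup]; exact Finset.card_union_of_disjoint h

universe u

variable {G : Type u} [Group G] [Finite G] {z : G} {Q N : Subgroup G} {x : G}
variable {V : Subgroup G} {ψ : ℕ → G} (m : PointModel z V ψ)

include m

theorem quad_notMem {S0 s : Finset GolayPt} (h3 : S0.card ≤ 3) (hs : s.card = 4) : ψ (phN s) ∉ US m S0 := by
  rintro ⟨e, he, hc, hse⟩
  have h := Finset.card_le_card he
  have h2 : e.card ≤ 2 := by rw [Nat.even_iff] at hc; omega
  have := pt_inj m (by rw [hs]; decide) hc (by omega) hse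
  rw [← this, hs] at h2
  omega

/-- witnesses for the two classes -/
theorem exists_wit {S0 : Finset GolayPt} (h2 : 2 ≤ S0.card) (h3 : S0.card ≤ 3) :
    ∃ r s : G, r ∈ V ∧ r ∉ US m S0 ∧ (∀ u ∈ US m S0, u ≠ 1 → ¬ IsConj z (r * u)) ∧ s ∈ V ∧ s ∉ US m S0 ∧
      (∃ u ∈ US m S0, u ≠ 1 ∧ IsConj z (s * u)) ∧ IsConj z r ∧ IsConj z s := by
  classical
  obtain ⟨d, hd⟩ := pick_point (S0 := S0) (by omega)
  set T := insert d S0
  have hT : T.card = S0.card + 1 := Finset.card_insert_of_notMem hd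
  obtain ⟨R, hTR, -, hR⟩ := Finset.exists_subsuperset_card_eq (s := T) (t := Finset.univ) (n := 4)
    (Finset.subset_univ _) (by omega) (by rw [Finset.card_univ, Fintype.card_option, ZMod.card]; omega)
  obtain ⟨a, ha, b, hb, hab⟩ := Finset.one_lt_card.1 (by omega : 1 < S0.card)
  obtain ⟨F, -, hFd, hF⟩ : ∃ F : Finset GolayPt, True ∧ Disjoint F S0 ∧ F.card = 3 := by
    obtain ⟨F, hF1, hF2⟩ := Finset.exists_subset_card_eq (s := Finset.univ \ S0) (n := 3) (by
      rw [Finset.card_univ_diff, Fintype.card_option, ZMod.card]; omega)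
    exact ⟨F, trivial, Finset.disjoint_left.2 fun x hx => (Finset.mem_sdiff.1 (hF1 hx)).2, hF2⟩
  have haF : a ∉ F := fun h => Finset.disjoint_left.1 hFd h ha
  have hbF : b ∉ F := fun h => Finset.disjoint_left.1 hFd h hb
  have hs4 : (insert a F).card = 4 := by rw [Finset.card_insert_of_notMem haF, hF]
  have hsu : symmDiff (insert a F) {a, b} = insert b F := by
    ext x
    simp only [Finset.mem_symmDiff, Finset.mem_insert, Finset.mem_singleton]
    constructor
    · rintro (⟨h1 | h1, h2⟩ | ⟨h1 | h1, h2⟩)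
      · exact absurd (Or.inl h1) h2
      · exact Or.inr h1
      · exact absurd (Or.inl h1) h2
      · exact Or.inl h1
    · rintro (rfl | h)
      · exact Or.inr ⟨Or.inr rfl, fun h => h.elim (fun e => hab e.symm) hbF⟩
      · exact Or.inl ⟨Or.inr h, fun h' => h'.elim (fun e => haF (e ▸ h)) fun e => hbF (e ▸ h)⟩
  refine ⟨ψ (phN R), ψ (phN (insert a F)), m.mem _ (phN_lt _), quad_notMem m h3 hR, ?_,
    m.mem _ (phN_lt _), quad_notMem m h3 hs4,
    ⟨ψ (phN {a, b}), US_pair m (Finset.insert_subset ha (Finset.singleton_subset_iff.2 hb)) (Finset.card_pair hab),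
      (pair_iT m (Finset.card_pair hab)).1, ?_⟩, quad_conj m hR, quad_conj m hs4⟩
  · rintro _ ⟨e, he, hc, rfl⟩ hne
    have heR : e ⊆ R := he.trans ((Finset.subset_insert d S0).trans hTR)
    have h := Finset.card_le_card he
    have he0 : e.card ≠ 0 := fun e0 => hne (by rw [Finset.card_eq_zero.1 e0, pt_empty m])
    have he2 : e.card = 2 := by rw [Nat.even_iff] at hc; omega
    rw [← pt_symm m, symmDiff_sub heR]
    exact (pair_iT m (by rw [Finset.card_sdiff_of_subset heR, hR, he2])).2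
  · rw [← pt_symm m, hsu]
    exact quad_conj m (by rw [Finset.card_insert_of_notMem hbF, hF])

omit m

variable (S : Big z Q N x) (f : Frame z Q x)

include S f

theorem Big.conj_commute_eq (hVe : Cfsg.IsElementaryAbelian 2 V) (hVc : Nat.card V = 2 ^ 11) {r t y : G}
    (hr : IsConj z r) (ht : iT z t) (hrV : r ∈ V) (htV : t ∈ V) (hyr : Commute y r) (hyt : Commute y t) :
    y ∈ Subgroup.normalizer (V : Set G) := by
  have hfixed : ∀ {a : G}, a ∈ V → Commute y a → a ∈ V.map (MulAut.conj y).toMonoidHom := fun {a} ha h =>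
    ⟨a, ha, by show y * a * y⁻¹ = a; rw [h.eq, mul_inv_cancel_right]⟩
  have e := S.V_eq f hVe hVc (elem_map (MulAut.conj y).toMonoidHom hVe)
    (by rw [Subgroup.card_map_of_injective (MulAut.conj y).injective, hVc]) hr ht hrV (hfixed hrV hyr) htV
    (hfixed htV hyt)
  refine Subgroup.mem_normalizer_iff.2 fun a => ?_
  conv_rhs => rw [e, Subgroup.mem_map_equiv, MulAut.conj_symm_apply]
  rw [show y⁻¹ * (y * a * y⁻¹) * y = a by group]

include m

theorem Big.cen_small (hVe : Cfsg.IsElementaryAbelian 2 V) (hVc : Nat.card V = 2 ^ 11)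
    {ρ : Subgroup.normalizer (V : Set G) →* Cfsg.M24}
    (hker : ρ.ker = V.subgroupOf (Subgroup.normalizer (V : Set G)))
    (hdes : ∀ y : Subgroup.normalizer (V : Set G), Des ψ (y : G) (ρ y : Equiv.Perm GolayPt))
    {S0 : Finset GolayPt} (h2 : 2 ≤ S0.card) (h3 : S0.card ≤ 3)
    (hext : S0.card = 2 → ∀ c, c ∉ S0 → ∀ y : G, (∀ u ∈ US m (insert c S0), Commute y u) →
      y ∈ Subgroup.normalizer (V : Set G))
    {y : G} (hy : ∀ u ∈ US m S0, Commute y u) : y ∈ Subgroup.normalizer (V : Set G) := by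
  classical
  obtain ⟨r, s, hr, hrU, hrz, hs, hsU, hsz, hrzc, hszc⟩ := exists_wit m h2 h3
  refine S.main_step f hVe hVc m hker hdes h2 h3 ?_ hr hrU hrz hs hsU hsz hrzc hszc hy
  intro v hv hvU y hyU hyv
  obtain ⟨a, ha, b, hb, hab⟩ := Finset.one_lt_card.1 (by omega : 1 < S0.card)
  have hsub : ({a, b} : Finset GolayPt) ⊆ S0 := Finset.insert_subset ha (Finset.singleton_subset_iff.2 hb)
  have habc : ({a, b} : Finset GolayPt).card = 2 := Finset.card_pair hab
  have ht := pair_iT m habc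
  have htV := m.mem _ (phN_lt ({a, b} : Finset GolayPt))
  have hyt := hyU _ (US_pair m hsub habc)
  rcases z_or_pair m hv (fun e => hvU (e ▸ one_mem _)) with hz | ⟨p, hp, rfl⟩
  · exact S.conj_commute_eq f hVe hVc hz ht hv htV hyv hyt
  have hps : ¬ p ⊆ S0 := fun h => hvU (US_pair m h hp)
  -- a product of weight four
  have hquad : ∀ e : Finset GolayPt, e ⊆ S0 → e.card = 2 → Disjoint p e →
      y ∈ Subgroup.normalizer (V : Set G) := fun e he hec hdis => by
    have h4 : (symmDiff p e).card = 4 := by rw [symmDiff_disj hdis, hp, hec]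
    refine S.conj_commute_eq f hVe hVc (quad_conj m h4) ht (m.mem _ (phN_lt _)) htV ?_ hyt
    rw [pt_symm m]
    exact hyv.mul_right (hyU _ (US_pair m he hec))
  obtain ⟨c, hc, hcS⟩ := Finset.not_subset.1 hps
  obtain ⟨q, hq⟩ := Finset.card_eq_one.1 (by rw [Finset.card_erase_of_mem hc, hp] : (p.erase c).card = 1)
  have hqp : q ∈ p.erase c := by rw [hq]; simp
  have hpq : p = {c, q} := by rw [← Finset.insert_erase hc, hq]
  by_cases hqS : q ∈ S0
  · rcases (show S0.card = 2 ∨ S0.card = 3 by omega) with hk | hk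
    · refine hext hk c hcS y ?_
      rintro _ ⟨e, he, hce, rfl⟩
      by_cases hce' : c ∈ e
      · have hsub' : symmDiff e p ⊆ S0 := by
          intro w hw
          simp only [hpq, Finset.mem_symmDiff, Finset.mem_insert, Finset.mem_singleton] at hw
          rcases hw with ⟨hwe, hwn⟩ | ⟨hwp, hwn⟩
          · exact (Finset.mem_insert.1 (he hwe)).resolve_left fun e => hwn (Or.inl e)
          · rcases hwp with rfl | rfl
            exacts [absurd hce' hwn, hqS]
        have := hyU _ ⟨symmDiff e p, hsub', even_symmDiff hce (by rw [hp]; decide), rfl⟩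
        have h2 := this.mul_right hyv
        rwa [← pt_symm m, symmDiff_symmDiff_cancel_right] at h2
      · exact hyU _ ⟨e, fun w hw => (Finset.mem_insert.1 (he hw)).resolve_left fun e' => hce' (e' ▸ hw), hce, rfl⟩
    · refine hquad (S0.erase q) (Finset.erase_subset _ _) (by rw [Finset.card_erase_of_mem hqS, hk]) ?_
      rw [hpq, Finset.disjoint_left]
      intro w hw
      simp only [Finset.mem_insert, Finset.mem_singleton] at hw
      rcases hw with rfl | rfl
      exacts [fun h => hcS (Finset.mem_of_mem_erase h), Finset.notMem_erase _ _]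
  · refine hquad {a, b} hsub habc ?_
    rw [hpq, Finset.disjoint_left]
    intro w hw hw'
    simp only [Finset.mem_insert, Finset.mem_singleton] at hw
    rcases hw with rfl | rfl
    exacts [hcS (hsub hw'), hqS (hsub hw')]

omit m

/-- the centraliser of an involution of the second class normalises -/
theorem Big.cen_pair (hVe : Cfsg.IsElementaryAbelian 2 V) (hVc : Nat.card V = 2 ^ 11) {t y : G}
    (htV : t ∈ V) (ht : iT z t) (hy : Commute y t) : y ∈ Subgroup.normalizer (V : Set G) := by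
  obtain ⟨-, ψ, m, ρ, -, hker, hdes⟩ := S.model_any f hVe hVc
  obtain ⟨n, hn, rfl⟩ := m.surj t htV
  obtain ⟨p, hp, hpn⟩ := m.eq_pair hn ((m.cls n hn).1 ht)
  refine Big.cen_small m S f hVe hVc hker hdes (S0 := p) (by omega) (by omega) (fun _ c hc y hy => ?_) ?_
  · refine Big.cen_small m S f hVe hVc hker hdes (S0 := insert c p)
      (by rw [Finset.card_insert_of_notMem hc]; omega) (by rw [Finset.card_insert_of_notMem hc]; omega)
      (fun h => ?_) hy
    rw [Finset.card_insert_of_notMem hc] at h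
    omega
  · rintro _ ⟨e, he, hce, rfl⟩
    have h := Finset.card_le_card he
    rw [Nat.even_iff] at hce
    rcases (show e.card = 0 ∨ e.card = 2 by omega) with h0 | h0
    · rw [Finset.card_eq_zero.1 h0, pt_empty m]
      exact Commute.one_right y
    · rw [Finset.eq_of_subset_of_card_le he (by omega), hpn]
      exact hy

/-- the two orbits -/
theorem Big.orbit_z (hVe : Cfsg.IsElementaryAbelian 2 V) (hVc : Nat.card V = 2 ^ 11) :
    ∃ r ∈ V, IsConj z r ∧
      {v : G | ∃ n ∈ Subgroup.normalizer (V : Set G), n * r * n⁻¹ = v}.ncard = 1771 := by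
  classical
  obtain ⟨A, hAe, hAc, hA⟩ := S.A0_exists f
  obtain ⟨h, rfl⟩ := S.big_conj f hAe hAc hVe hVc
  have hzA : z ∈ A := (hA z).2 ⟨z, S.AQ_z f, 1, one_mem _, by rw [Subgroup.coe_one, mul_one]⟩
  refine ⟨h * z * h⁻¹, ⟨z, hzA, rfl⟩, isConj_iff.2 ⟨h, rfl⟩, ?_⟩
  set V := A.map (MulAut.conj h).toMonoidHom with hV
  have hset : {v : G | ∃ n ∈ Subgroup.normalizer (V : Set G), n * (h * z * h⁻¹) * n⁻¹ = v} =
      (fun r : G => h * r * h⁻¹) '' {r | r ∈ A ∧ IsConj z r} := by
    have hN : ∀ n, n ∈ Subgroup.normalizer (V : Set G) ↔ h⁻¹ * n * h ∈ Subgroup.normalizer (A : Set G) := fun n => by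
      rw [hV, ← Subgroup.map_equiv_normalizer_eq A (MulAut.conj h), Subgroup.mem_map_equiv, MulAut.conj_symm_apply]
    ext v
    constructor
    · rintro ⟨n, hn, rfl⟩
      refine ⟨(h⁻¹ * n * h) * z * (h⁻¹ * n * h)⁻¹, ⟨(Subgroup.mem_normalizer_iff.1 ((hN n).1 hn) z).1 hzA,
        isConj_iff.2 ⟨_, rfl⟩⟩, ?_⟩
      show h * _ * h⁻¹ = _
      group
    · rintro ⟨r, ⟨hr, hc⟩, rfl⟩
      obtain ⟨g, hg⟩ := isConj_iff.1 hc
      obtain ⟨k, hk, e⟩ := S.control f hAe hAc hzA (g := g) (hg.symm ▸ hr)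
      refine ⟨h * k * h⁻¹, (hN _).2 (by rw [show h⁻¹ * (h * k * h⁻¹) * h = k by group]; exact hk), ?_⟩
      show _ = h * r * h⁻¹
      rw [← hg, ← e]
      group
  rw [hset, Set.ncard_image_of_injective _ fun a b e => mul_left_cancel (mul_right_cancel e)]
  rw [← (S.pr_values f hAe hAc hA).2.2.2, ← Nat.card_coe_set_eq]
  exact Nat.card_congr
    { toFun := fun r => ⟨⟨r.1, r.2.1⟩, r.2.2⟩
      invFun := fun r => ⟨(r.1 : G), r.1.2, r.2⟩
      left_inv := fun _ => rfl
      right_inv := fun _ => rfl }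

theorem Big.orbit_t (hVe : Cfsg.IsElementaryAbelian 2 V) (hVc : Nat.card V = 2 ^ 11) :
    ∃ t ∈ V, iT z t ∧
      {v : G | ∃ n ∈ Subgroup.normalizer (V : Set G), n * t * n⁻¹ = v}.ncard = 276 := by
  classical
  obtain ⟨-, ψ, m, ρ, hsur, -, hdes⟩ := S.model_any f hVe hVc
  obtain ⟨s0, -, hs0⟩ := Finset.exists_subset_card_eq (s := (Finset.univ : Finset GolayPt)) (n := 2)
    (by rw [Finset.card_univ, Fintype.card_option, ZMod.card]; omega)
  refine ⟨_, m.mem _ (phN_lt s0), pair_iT m hs0, ?_⟩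
  have hset : {v : G | ∃ n ∈ Subgroup.normalizer (V : Set G), n * ψ (phN s0) * n⁻¹ = v} =
      (fun s => ψ (phN s)) '' ↑(Finset.univ.powersetCard 2 : Finset (Finset GolayPt)) := by
    ext v
    constructor
    · rintro ⟨n, hn, rfl⟩
      refine ⟨(ρ ⟨n, hn⟩ : Equiv.Perm GolayPt) • s0, ?_, (hdes ⟨n, hn⟩ s0 hs0).symm⟩
      rw [Finset.mem_coe, Finset.mem_powersetCard]
      exact ⟨Finset.subset_univ _, by rw [Finset.card_smul_finset, hs0]⟩
    · rintro ⟨s, hs, rfl⟩
      rw [Finset.mem_coe, Finset.mem_powersetCard] at hs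
      obtain ⟨σ, hσ, hσs⟩ := exists_map_set (s := s) (by omega)
      obtain ⟨τ, hτ, hτs⟩ := exists_map_set (s := s0) (by omega)
      obtain ⟨⟨n, hn⟩, hρ⟩ := hsur ⟨σ * τ⁻¹, mul_mem hσ (inv_mem hτ)⟩
      refine ⟨n, hn, (hdes ⟨n, hn⟩ s0 hs0).trans ?_⟩
      rw [hρ]
      show ψ (phN ((σ * τ⁻¹) • s0)) = ψ (phN s)
      rw [hs.2] at hσs
      rw [hs0] at hτs
      rw [mul_smul, inv_smul_eq_iff.2 hτs.symm, hσs]
  rw [hset, Set.ncard_image_of_injOn fun s hs t ht e => ?_, Set.ncard_coe_finset, Finset.card_powersetCard,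
    Finset.card_univ, Fintype.card_option, ZMod.card]
  · rfl
  · rw [Finset.mem_coe, Finset.mem_powersetCard] at hs ht
    exact pair_inj s t hs.2 ht.2 (m.inj _ _ (phN_lt _) (phN_lt _) e)

omit S

end Cfsg.Agent.Spor.JFour
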