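import Cfsg.Agent.Lib.Spor.JFourDefs

/-!
Checks on the set of common vectors of two adjacent extraspecial subgroups.
-/

set_option autoImplicit false
set_option maxRecDepth 100000

namespace Cfsg.Agent.Spor.JFour.Chk

open Cfsg.Agent.Spor.CC Dat

/-- a vector whose scalar multiple is also common lies on the line -/
def lineOK : Bool :=
  (List.range 4096).all fun k => !(fCond k && fCond (itr cW 2 k)) ||
    (Nat.beq k 0 || Nat.beq k kA || Nat.beq k (app cW kA) || Nat.beq k (itr cW 2 kA))

/-- enough common vectors in the shorter orbit -/
def manyA : Bool := Nat.ble 9 ((List.range 4096).filter fun k => fCond k && isI k && isA k).length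

theorem line_ok : lineOK = true := by decide +kernel

theorem many_ok : manyA = true := by decide +kernel

end Cfsg.Agent.Spor.JFour.Chk
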