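import Cfsg.Agent.Lib.Spor.JFourCover
import Cfsg.Agent.Lib.Spor.JFourLineChecks

/-!
Janko four type: an involution centralising the element of order three and conjugate to the central one, and no
such involution has the element of order three in its own normal subgroup of order three times a power of two.
-/

set_option autoImplicit false
set_option maxRecDepth 100000
set_option linter.unusedSectionVars false

namespace Cfsg.Agent.Spor.JFour

open Cfsg.Agent.Spor.SUSix (V6 code code_lt vecOf_code)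
open Cfsg.Agent.Spor.SpFour (F4)
open Cfsg.Agent.Spor.Large (XT Pair)
open Cfsg.Agent.Small.Unitary (herm)

attribute [local irreducible] Gam Kp BlockKer Cmp Chk.app

universe u

theorem line_of {v : V6} (h1 : Chk.fCond (code v) = true) (h2 : Chk.fCond (code (F4.v • v)) = true) :
    v = 0 ∨ v = va ∨ v = F4.w • va ∨ v = F4.v • va := by
  have h := Chk.line_ok
  simp only [Chk.lineOK, List.all_eq_true, List.mem_range] at h
  have hv : ∀ u : V6, code (F4.v • u) = Chk.itr Chk.cW 2 (code u) := fun u => by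
    rw [show (F4.v : F4) = F4.w * F4.w from rfl, mul_smul, code_smw, code_smw]
    rfl
  have h' := h (code v) (code_lt v)
  rw [h1, ← hv, h2, ← code_va, ← code_smw, ← hv] at h'
  simp only [Bool.and_true, Bool.not_true, Bool.false_or, Bool.or_eq_true] at h'
  rcases h' with ((e | e) | e) | e <;> have e' := Nat.eq_of_beq_eq_true e
  · exact Or.inl (code_inj (e'.trans code_zero.symm))
  · exact Or.inr (Or.inl (code_inj e'))
  · exact Or.inr (Or.inr (Or.inl (code_inj e')))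
  · exact Or.inr (Or.inr (Or.inr (code_inj e')))

theorem many_A : 9 ≤ {v : V6 | Chk.fCond (code v) = true ∧ PI v ∧ PA v}.ncard := by
  have h := Nat.le_of_ble_eq_true Chk.many_ok
  rw [← count_code (fun k => Chk.fCond k && Chk.isI k && Chk.isA k) rfl] at h
  refine h.trans (le_of_eq (congrArg Set.ncard (Set.ext fun v => ?_)))
  simp [PI, PA, and_assoc]

variable {G : Type u} [Group G] [Finite G] {z : G} {Q N : Subgroup G} {x : G}
variable (S : Big z Q N x) (f : Frame z Q x)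

include S f

theorem Big.to_va {g : G} (hgQ : g * z * g⁻¹ ∈ Q) (hne : g * z * g⁻¹ ≠ z) :
    ∃ c : Subgroup.centralizer ({z} : Set G),
      (c : G) * g * z * ((c : G) * g)⁻¹ ∈ Q ∧ (c : G) * g * z * ((c : G) * g)⁻¹ ≠ z ∧
        f.vec ((c : G) * g * z * ((c : G) * g)⁻¹) = va := by
  obtain ⟨hI, hA⟩ := S.PA_vec f hgQ hne
  obtain ⟨p, hp, hpv⟩ := (trans hI).1 hA
  obtain ⟨c, hc⟩ := (f.range _).1 (Kp_le (inv_mem hp))
  have hcz : Commute (c : G) z := Subgroup.mem_centralizer_singleton_iff.1 c.2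
  refine ⟨c, ?_⟩
  rw [show (c : G) * g * z * ((c : G) * g)⁻¹ = (c : G) * (g * z * g⁻¹) * (c : G)⁻¹ by group]
  refine ⟨S.base.ord.normQ c hcz _ hgQ, fun h => hne ?_, ?_⟩
  · refine mul_left_cancel (mul_right_cancel (h.trans ?_))
    rw [hcz.eq, mul_inv_cancel_right]
  · rw [f.vec_conj c _ hgQ, hc, ← hpv]
    exact p.symm_apply_apply va

/-- an element of the extraspecial subgroup over the shorter orbit is a conjugate of the involution -/
theorem Big.conj_of_PA {a : G} (ha : a ∈ Q) (hI : PI (f.vec a)) (hA : PA (f.vec a)) :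
    ∃ m : G, m * z * m⁻¹ = a := by
  obtain ⟨g, hgQ, hne, hv⟩ := S.exists_va f
  obtain ⟨p, hp, hpv⟩ := (trans hI).1 hA
  obtain ⟨c, hc⟩ := (f.range _).1 (Kp_le hp)
  obtain ⟨c', hc', -⟩ := f.exact_conj S.base hgQ (fun e => (S.xtc g).ne e) hne ha c (by rw [hc, hv]; exact hpv)
  exact ⟨(c' : G) * g, by rw [← hc']; group⟩

omit f in
theorem Big.conj_move {k w t : G} (hk : k * z * k⁻¹ = t) (hw : w ∈ Qc Q k) (hne : w ≠ t)
    (hc : ∃ m : G, m * z * m⁻¹ = w) : ∃ m : G, m * z * m⁻¹ = w * t := by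
  subst hk
  obtain ⟨m, hm⟩ := hc
  obtain ⟨y, hy, hyn⟩ : ∃ y ∈ Qc Q k, ¬ Commute y w := by
    by_contra hno
    push Not at hno
    rcases (S.xtc k).eq_of_cen _ hw (fun q hq => (hno q hq).symm) with e | e
    · exact (S.xtc m).ne (hm.trans e)
    · exact hne e
  refine ⟨y * m, ?_⟩
  rw [← (S.xtc k).move hy hw hyn, ← hm]
  group

/-- an involution centralising the element of order three, conjugate to the central one -/
theorem Big.exists_u : ∃ u : G, (∃ m : G, m * z * m⁻¹ = u) ∧ Commute u z ∧ Commute u x ∧ u ≠ z := by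
  obtain ⟨g, hgQ, hne, hv, hline⟩ := S.exists_line f
  have hxz : Commute x z := S.base.ord.xz
  set s := g * z * g⁻¹ with hs
  set g1 := x * g with hg1
  set g2 := x * g1 with hg2
  set s' := x * s * x⁻¹ with hs'
  have hz1 : g1 * z * g1⁻¹ = s' := by rw [hg1, hs', hs]; group
  have hz2 : g2 * z * g2⁻¹ = x * s' * x⁻¹ := by rw [hg2, ← hz1]; group
  have P := S.pair hgQ hne
  set A := Q ⊓ Qc Q g with hA
  have hAv := S.inter_vec f hgQ hne hv
  have hzA : z ∈ A := ⟨S.base.ord.xt.mem, P.mem⟩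
  have hsA : s ∈ A := ⟨hgQ, P.xt'.mem⟩
  have hs'Q : s' ∈ Q := S.base.ord.normQ x hxz s hgQ
  have hs'v : f.vec s' = F4.w • va := by rw [hs', f.vec_xc S.base hgQ, hv]
  have hs'A : s' ∈ A := by
    obtain ⟨a, ha, e⟩ : F4.w • va ∈ f.vec '' (A : Set G) :=
      hAv.symm ▸ (show Chk.fCond (code (F4.w • va)) = true by rw [code_smw, code_va]; exact fCond_count.2)
    rcases (f.vec_eq a ha.1 _ hs'Q).1 (e.trans hs'v.symm) with e' | e' <;> rw [e']
    exacts [ha, mul_mem ha hzA]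
  have hs''A : x * s' * x⁻¹ ∈ A := hline ▸ mul_mem hsA hs'A
  have hss' : Commute s s' := P.inter_comm hsA hs'A
  have hs2 : s * s = 1 := P.inter_square hsA
  have hs'2 : s' * s' = 1 := P.inter_square hs'A
  have hs1 : s ≠ s' := fun e => by
    have := hs'v
    rw [← e, hv] at this
    exact line_facts.2.1 this.symm
  have hsg1 : s ∈ Qc Q g1 := by
    have h := Qc_conj x (w := x * s' * x⁻¹) (g := g) hs''A.2
    rwa [show x * (x * s' * x⁻¹) * x⁻¹ = s from S.base.cubeG s] at h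
  have hzg1 : z ∈ Qc Q g1 := by
    have := Qc_conj x P.mem
    rwa [hxz.eq, mul_inv_cancel_right] at this
  have hQ3 : Qc Q (x * g2) = Qc Q g := S.Qc_eq (by
    rw [show x * g2 * z * (x * g2)⁻¹ = x * (g2 * z * g2⁻¹) * x⁻¹ by group, hz2]
    exact S.base.cubeG s)
  have hWx : ∀ w, w ∈ Qc Q g → w ∈ Qc Q g1 → x * w * x⁻¹ ∈ Qc Q g ∧ x * w * x⁻¹ ∈ Qc Q g1 := fun w h1 h2 =>
    ⟨hQ3 ▸ Qc_conj x (S.third (a := s) (b := s') hs.symm hz1 hs1 hs'A.2 hsg1 (by rw [hz2]; exact hline) h1 h2),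
      Qc_conj x h1⟩
  -- the intersection on the line, moved to the standard position
  have hgg : g⁻¹ * g1 * z * (g⁻¹ * g1)⁻¹ = g⁻¹ * s' * g := by rw [← hz1]; group
  obtain ⟨c, hcQ, hcne, hcv⟩ := S.to_va f (g := g⁻¹ * g1) (by rw [hgg]; exact mem_Qc.1 hs'A.2) (fun e => hs1 (by
    rw [hgg] at e
    calc s = g * z * g⁻¹ := hs
      _ = g * (g⁻¹ * s' * g) * g⁻¹ := by rw [e]
      _ = s' := by group))
  have hcz : Commute (c : G) z := Subgroup.mem_centralizer_singleton_iff.1 c.2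
  have hAv' := S.inter_vec f hcQ hcne hcv
  set h := g * (c : G)⁻¹ with hh
  have hQh : Qc Q h = Qc Q g := S.Qc_eq (by
    rw [show h * z * h⁻¹ = g * ((c : G)⁻¹ * z * c) * g⁻¹ by rw [hh]; group,
      mul_assoc (c : G)⁻¹ z, ← hcz.eq, inv_mul_cancel_left])
  have hW : ∀ a, a ∈ Q → a ∈ Qc Q ((c : G) * (g⁻¹ * g1)) → h * a * h⁻¹ ∈ Qc Q g ∧ h * a * h⁻¹ ∈ Qc Q g1 := by
    intro a ha ha'
    have e1 := Qc_conj h (mem_Qc_one.2 ha)
    rw [mul_one, hQh] at e1
    have e2 := Qc_conj h ha'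
    rw [show h * ((c : G) * (g⁻¹ * g1)) = g1 by rw [hh]; group] at e2
    exact ⟨e1, e2⟩
  obtain ⟨w, hw1, hw2, hwc, hwne⟩ : ∃ w, w ∈ Qc Q g ∧ w ∈ Qc Q g1 ∧ (∃ m : G, m * z * m⁻¹ = w) ∧
      ∀ a b d : ℕ, a < 2 → b < 2 → d < 2 → w ≠ z ^ a * s ^ b * s' ^ d := by
    by_contra hno
    push Not at hno
    have hsub : {v : V6 | Chk.fCond (code v) = true ∧ PI v ∧ PA v} ⊆
        (fun t : Fin 2 × Fin 2 × Fin 2 => f.vec (h⁻¹ * (z ^ (t.1 : ℕ) * s ^ (t.2.1 : ℕ) * s' ^ (t.2.2 : ℕ)) * h)) ''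
          Set.univ := by
      rintro v ⟨hv1, hI, hA⟩
      obtain ⟨a, ha, rfl⟩ : v ∈ f.vec '' ((Q ⊓ Qc Q ((c : G) * (g⁻¹ * g1)) : Subgroup G) : Set G) := hAv'.symm ▸ hv1
      obtain ⟨e1, e2⟩ := hW a ha.1 ha.2
      obtain ⟨m, hm⟩ := S.conj_of_PA f ha.1 hI hA
      obtain ⟨i, j, k, hi, hj, hk, e⟩ := hno _ e1 e2 ⟨h * m, by rw [← hm]; group⟩
      exact ⟨(⟨i, hi⟩, ⟨j, hj⟩, ⟨k, hk⟩), Set.mem_univ _, by
        show f.vec (h⁻¹ * (z ^ i * s ^ j * s' ^ k) * h) = f.vec a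
        rw [← e]; congr 1; group⟩
    have h9 := many_A.trans (Set.ncard_le_ncard hsub (Set.toFinite _))
    have h8 := Set.ncard_image_le (f := fun t : Fin 2 × Fin 2 × Fin 2 =>
      f.vec (h⁻¹ * (z ^ (t.1 : ℕ) * s ^ (t.2.1 : ℕ) * s' ^ (t.2.2 : ℕ)) * h)) (Set.finite_univ)
    rw [Set.ncard_univ, Nat.card_prod, Nat.card_prod, Nat.card_fin] at h8
    omega
  have hs'g1 : s' ∈ Qc Q g1 := hz1 ▸ (S.xtc g1).mem
  have hWcomm : ∀ a b, a ∈ Qc Q g → a ∈ Qc Q g1 → b ∈ Qc Q g → b ∈ Qc Q g1 → Commute a b := by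
    intro a b a1 a2 b1 b2
    rcases (S.xtc g).comm a a1 b b1 with e | e
    · exact mul_inv_eq_iff_eq_mul.1 e
    · rcases (S.xtc g1).comm a a2 b b2 with e' | e'
      · exact mul_inv_eq_iff_eq_mul.1 e'
      · exact absurd (mul_left_cancel (e.symm.trans e')) (by rw [← hs, hz1]; exact hs1)
  have hwz : Commute w z := hWcomm w z hw1 hw2 P.mem hzg1
  have hws : Commute w s := hWcomm w s hw1 hw2 hsA.2 hsg1
  have hws' : Commute w s' := hWcomm w s' hw1 hw2 hs'A.2 hs'g1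
  obtain ⟨hy1, hy2⟩ := hWx w hw1 hw2
  set d := x * w * x⁻¹ * w⁻¹ with hd
  have hdW : d ∈ Qc Q g ∧ d ∈ Qc Q g1 := ⟨mul_mem hy1 (inv_mem hw1), mul_mem hy2 (inv_mem hw2)⟩
  let wC : Subgroup.centralizer ({z} : Set G) := ⟨w, Subgroup.mem_centralizer_singleton_iff.2 hwz⟩
  have hdQ : d ∈ Q := by
    have hwK : f.π wC ∈ Kp := by
      refine fix_line_Kp ((f.range _).2 ⟨_, rfl⟩) ?_ ?_
      · rw [← hv, ← f.vec_conj wC s hgQ]
        exact congrArg f.vec (mul_inv_eq_iff_eq_mul.2 hws.eq)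
      · rw [← hs'v, ← f.vec_conj wC s' hs'Q]
        exact congrArg f.vec (mul_inv_eq_iff_eq_mul.2 hws'.eq)
    refine (f.ker (S.base.xC * wC * S.base.xC⁻¹ * wC⁻¹)).1 ?_
    rw [map_mul, map_mul, map_mul, map_inv, map_inv, f.pi_x S.base.xC rfl, ((f.mem_Kp wC).1 hwK).symm.eq,
      mul_inv_cancel_right, mul_inv_cancel]
  -- it lies on the line
  obtain ⟨l, hl, hdl⟩ : ∃ l, (l = 1 ∨ l = s ∨ l = s' ∨ l = s * s') ∧ (d = l ∨ d = l * z) := by
    have hd1 : Chk.fCond (code (f.vec d)) = true := by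
      have := Set.mem_image_of_mem f.vec (show d ∈ (A : Set G) from ⟨hdQ, hdW.1⟩)
      rw [hAv] at this
      exact this
    have hd' : x⁻¹ * d * x ∈ Q := by
      have := S.base.ord.normQ x⁻¹ hxz.inv_left d hdQ
      rwa [inv_inv] at this
    have hd'g : x⁻¹ * d * x ∈ Qc Q g := by
      have := Qc_conj x⁻¹ hdW.2
      rwa [inv_inv, hg1, inv_mul_cancel_left] at this
    have hd2 : Chk.fCond (code (F4.v • f.vec d)) = true := by
      have := Set.mem_image_of_mem f.vec (show x⁻¹ * d * x ∈ (A : Set G) from ⟨hd', hd'g⟩)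
      rw [hAv] at this
      have e : f.vec (x⁻¹ * d * x) = F4.v • f.vec d := by
        conv_rhs => rw [show d = x * (x⁻¹ * d * x) * x⁻¹ by group, f.vec_xc S.base hd', smul_smul,
          show (F4.v : F4) * F4.w = 1 by decide +kernel, one_smul]
      exact e ▸ this
    have hline' : ∀ l, l ∈ Q → f.vec l = f.vec d → d = l ∨ d = l * z := fun l hl e => (f.vec_eq l hl d hdQ).1 e
    rcases line_of hd1 hd2 with e | e | e | e
    · exact ⟨1, Or.inl rfl, hline' 1 (one_mem _) ((f.vec_one S.base).trans e.symm)⟩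
    · exact ⟨s, Or.inr (Or.inl rfl), hline' s hgQ (hv.trans e.symm)⟩
    · exact ⟨s', Or.inr (Or.inr (Or.inl rfl)), hline' s' hs'Q (hs'v.trans e.symm)⟩
    · refine ⟨s * s', Or.inr (Or.inr (Or.inr rfl)), hline' _ (mul_mem hgQ hs'Q) ?_⟩
      rw [f.vec_mul s hgQ s' hs'Q, hv, hs'v, e, ← line_facts.2.2, smul_smul]
      rfl
  have hxs : x * s * x⁻¹ = s' := hs'.symm
  have hxs' : x * s' * x⁻¹ = s * s' := hline
  have hxl : x * (s * s') * x⁻¹ = s := by rw [← hline]; exact S.base.cubeG s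
  have hxw : x * w * x⁻¹ = d * w := by rw [hd, inv_mul_cancel_right]
  -- the central part is trivial
  have hdl' : d = l := by
    refine hdl.resolve_right fun e => ?_
    have cm : ∀ a b : G, x * (a * b) * x⁻¹ = x * a * x⁻¹ * (x * b * x⁻¹) := fun a b => by group
    have e2 : x * (x * w * x⁻¹) * x⁻¹ = x * d * x⁻¹ * (d * w) := by rw [hxw, cm, hxw]
    have e3 : x * (x * (x * w * x⁻¹) * x⁻¹) * x⁻¹ = x * (x * d * x⁻¹) * x⁻¹ * (x * d * x⁻¹ * (d * w)) := by
      rw [e2, cm (x * d * x⁻¹), cm d w, hxw]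
    rw [S.base.cubeG w, ← mul_assoc, ← mul_assoc, eq_comm, mul_eq_right] at e3
    have hlQ : l ∈ Q := by rcases hl with rfl | rfl | rfl | rfl; exacts [one_mem _, hgQ, hs'Q, mul_mem hgQ hs'Q]
    have hcz : ∀ a ∈ Q, Commute z a := S.base.ord.xt.cen
    have hl1 := S.base.ord.normQ x hxz l hlQ
    have hl2 := S.base.ord.normQ x hxz _ hl1
    rw [e, cm l z, show x * z * x⁻¹ = z by rw [hxz.eq, mul_inv_cancel_right], cm (x * l * x⁻¹) z,
      show x * z * x⁻¹ = z by rw [hxz.eq, mul_inv_cancel_right]] at e3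
    have e4 : x * (x * l * x⁻¹) * x⁻¹ * z * (x * l * x⁻¹ * z) * (l * z) =
        x * (x * l * x⁻¹) * x⁻¹ * (x * l * x⁻¹) * l * z := by
      calc x * (x * l * x⁻¹) * x⁻¹ * z * (x * l * x⁻¹ * z) * (l * z)
          = x * (x * l * x⁻¹) * x⁻¹ * (z * (x * l * x⁻¹)) * (z * l) * z := by group
        _ = x * (x * l * x⁻¹) * x⁻¹ * ((x * l * x⁻¹) * z) * (z * l) * z := by rw [(hcz _ hl1).eq]
        _ = x * (x * l * x⁻¹) * x⁻¹ * (x * l * x⁻¹) * (z * z) * l * z := by group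
        _ = _ := by rw [S.base.ord.xt.sq, mul_one]
    rw [e4] at e3
    refine S.base.ord.xt.ne ?_
    rcases hl with rfl | rfl | rfl | rfl
    · simpa using e3
    · rwa [hxs, hxs', mul_assoc (s * s'), mul_assoc s s', ← mul_assoc s', hs'2, one_mul, hs2, one_mul] at e3
    · rwa [hxs', hxl, ← mul_assoc s s, hs2, one_mul, hs'2, one_mul] at e3
    · rwa [hxl, hxs, hss'.symm.eq, P.inter_square (mul_mem hsA hs'A), one_mul] at e3
  -- the fixed element
  have hne' : ∀ a b d : ℕ, a < 2 → b < 2 → d < 2 → w ≠ z ^ a * s ^ b * s' ^ d := hwne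
  have hs's : s' ≠ s := hs1.symm
  obtain ⟨e, he, hex, hez, hem⟩ : ∃ e, Commute e z ∧ x * e * x⁻¹ = e ∧ e ≠ z ∧ ∃ m : G, m * z * m⁻¹ = e := by
    have hzs : Commute z s := S.base.ord.xt.cen s hgQ
    have hzs' : Commute z s' := S.base.ord.xt.cen s' hs'Q
    have hw1' : w ≠ s := fun e => hne' 0 1 0 (by norm_num) (by norm_num) (by norm_num) (by simpa using e)
    have hw2' : w ≠ s' := fun e => hne' 0 0 1 (by norm_num) (by norm_num) (by norm_num) (by simpa using e)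
    have hwz' : ∀ b d : ℕ, b < 2 → d < 2 → w ≠ z * s ^ b * s' ^ d := fun b d hb hd =>
      by simpa using hne' 1 b d (by norm_num) hb hd
    have hm1 := S.conj_move (k := g) hs.symm hw1 hw1' hwc
    have hm2 := S.conj_move (k := g1) hz1 hw2 hw2' hwc
    rcases hl with rfl | rfl | rfl | rfl
    · exact ⟨w, hwz, by rw [hxw, hdl', one_mul], fun e => hwz' 0 0 (by norm_num) (by norm_num) (by simpa using e),
        hwc⟩
    · refine ⟨w * s', hwz.mul_left hzs'.symm, ?_, fun e => hwz' 0 1 (by norm_num) (by norm_num) ?_, hm2⟩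
      · rw [← conj_mul, hxw, hdl', hxs', mul_assoc, ← mul_assoc w, hws.eq, mul_assoc s w, ← mul_assoc s,
          hs2, one_mul]
      · rw [pow_zero, mul_one, pow_one, ← e, mul_assoc, hs'2, mul_one]
    · refine ⟨w * s * s', (hwz.mul_left hzs.symm).mul_left hzs'.symm, ?_,
        fun e => hwz' 1 1 (by norm_num) (by norm_num) ?_, S.conj_move (k := g1) hz1 (mul_mem hw2 hsg1) (fun e => ?_) hm1⟩
      · rw [← conj_mul, ← conj_mul, hxw, hdl', hxs, hxs', ← hws'.eq]
        calc w * s' * s' * (s * s') = w * (s' * s') * (s * s') := by group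
          _ = w * s * s' := by rw [hs'2, mul_one]; exact (mul_assoc _ _ _).symm
      · rw [pow_one, pow_one, ← e]
        calc w = w * (s * s) * (s' * s') := by rw [hs2, hs'2, mul_one, mul_one]
          _ = w * s * (s * s') * s' := by group
          _ = w * s * (s' * s) * s' := by rw [hss'.eq]
          _ = _ := by group
      · exact hne' 0 1 1 (by norm_num) (by norm_num) (by norm_num) (by
          rw [pow_zero, one_mul, pow_one, pow_one, hss'.eq, ← e, mul_assoc, hs2, mul_one])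
    · refine ⟨w * s, hwz.mul_left hzs.symm, ?_, fun e => hwz' 1 0 (by norm_num) (by norm_num) ?_, hm1⟩
      · rw [← conj_mul, hxw, hdl', hxs, mul_assoc (s * s'), hws'.eq, ← mul_assoc, mul_assoc s s' s',
          hs'2, mul_one, hws.eq]
      · rw [pow_zero, mul_one, pow_one, ← e, mul_assoc, hs2, mul_one]
  exact ⟨e, hem, he, (mul_inv_eq_iff_eq_mul.1 hex).symm, hez⟩

end Cfsg.Agent.Spor.JFour
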