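import Cfsg.Agent.Lib.Spor.JFourTenMain
import Cfsg.Agent.Lib.Spor.WedgeFive
import Cfsg.Agent.Lib.Spor.M23CohGaschuetz

/-!
Janko four type: every self-centralising elementary abelian subgroup of order 2^10 is conjugate to the one met
in an octad; its normaliser splits over it with the special linear group of degree five as complement.
-/

set_option autoImplicit false
set_option maxRecDepth 100000
set_option linter.unusedSectionVars false

namespace Cfsg.Agent.Spor.JFour

open scoped Pointwise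
open Cfsg.Agent.Spor.LFT (iT PointModel)
open OChk

attribute [local irreducible] Gam Kp Chk.app
attribute [local instance] Classical.propDecidable

universe u

variable {G : Type u} [Group G] [Finite G] {z : G} {Q N : Subgroup G} {x : G}

theorem map_conj_conj (A : Subgroup G) (g h : G) :
    (A.map (MulAut.conj g).toMonoidHom).map (MulAut.conj h).toMonoidHom = A.map (MulAut.conj (h * g)).toMonoidHom := by
  rw [Subgroup.map_map]
  congr 1
  ext y
  simp [mul_assoc]

theorem map_conj_cancel {A B : Subgroup G} {g : G} (h : A.map (MulAut.conj g).toMonoidHom = B) :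
    B.map (MulAut.conj g⁻¹).toMonoidHom = A := by
  rw [← h, map_conj_conj, inv_mul_cancel]
  conv_rhs => rw [← Subgroup.map_id A]
  congr 1
  ext y
  simp

variable (S : Big z Q N x) (f : Frame z Q x)
include S f

/-- some conjugate passes through the involution -/
theorem Big.ten_reach {A : Subgroup G} (hA : IsTen A) : ∃ g : G, z ∈ A.map (MulAut.conj g).toMonoidHom := by
  haveI : Fact (Nat.Prime 2) := ⟨Nat.prime_two⟩
  obtain ⟨TC, -⟩ := S.sylow_C f
  obtain ⟨P1, hP1⟩ := S.sylow_top f TC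
  obtain ⟨P2, hP2⟩ := (IsPGroup.of_card hA.card).exists_le_sylow
  obtain ⟨g, hg⟩ := MulAction.exists_smul_eq G P2 P1
  refine ⟨g, ?_⟩
  rw [← (hA.conj g).self]
  refine Subgroup.mem_centralizer_iff.2 ?_
  rintro _ ⟨r, hr, rfl⟩
  have hm : (MulAut.conj g).toMonoidHom r ∈ (P1 : Subgroup G) := by
    rw [← hg, Sylow.coe_subgroup_smul]
    exact ⟨r, hP2 hr, rfl⟩
  rw [hP1] at hm
  obtain ⟨c, -, hc⟩ := hm
  rw [← hc]
  exact Subgroup.mem_centralizer_singleton_iff.1 c.2

/-- one class -/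
theorem Big.ten_class {A B : Subgroup G} (hA : IsTen A) (hB : IsTen B) :
    ∃ g : G, B = A.map (MulAut.conj g).toMonoidHom := by
  obtain ⟨a, ha⟩ := S.ten_reach f hA
  obtain ⟨b, hb⟩ := S.ten_reach f hB
  obtain ⟨c, -, hc⟩ := S.ten_conj f (hA.conj a) ha (hB.conj b) hb
  refine ⟨b⁻¹ * c * a, ?_⟩
  rw [map_conj_conj] at hc
  rw [← map_conj_cancel hc.symm, map_conj_conj, mul_assoc]

variable {V : Subgroup G} {ψ : ℕ → G} {κ : ↥Cfsg.M24 →* G} (P : Spl z V ψ κ) (hVc : Nat.card V = 2 ^ 11)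

include P hVc

/-- the normaliser splits -/
theorem Big.ten_compl : ∃ B : Subgroup G, B ≤ Subgroup.normalizer (P.ten : Set G) ∧ B ⊓ P.ten = ⊥ ∧
    B ⊔ P.ten = Subgroup.normalizer (P.ten : Set G) ∧
    Nonempty (B ≃* Matrix.SpecialLinearGroup (Fin 5) (ZMod 2)) := by
  obtain ⟨-, -, -, hcard, hclass⟩ := S.ten_orbits f P hVc
  have hTen := S.isTen_sp f P hVc
  set H := Subgroup.normalizer (P.ten : Set G) with hH
  have hAH : P.ten ≤ H := Subgroup.le_normalizer
  set Z := P.ten.subgroupOf H with hZ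
  let TT : stabM oct0 →* H := P.T.codRestrict H P.T_norm
  haveI : Z.Normal := Subgroup.normal_in_normalizer
  have hfree : Z ⊓ TT.range = ⊥ := by
    rw [eq_bot_iff]
    rintro y ⟨hy, σ, rfl⟩
    rw [Subgroup.mem_bot, P.T_meet (show P.T σ ∈ P.ten from hy), map_one]
  have hTinj : Function.Injective TT := fun a b e => by
    have e' : P.T a = P.T b := congrArg Subtype.val e
    exact mul_inv_eq_one.1 (P.T_meet (σ := a * b⁻¹) (by rw [map_mul, map_inv, e', mul_inv_cancel]; exact one_mem _))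
  have hZc : Nat.card Z = 2 ^ 10 := (Nat.card_congr (Subgroup.subgroupOfEquivOfLe hAH).toEquiv).trans P.ten_card
  have hTc : Nat.card TT.range = 322560 := by
    rw [← Nat.card_congr (MonoidHom.ofInjective hTinj).toEquiv, card_stabM_octad baseOctad_mem]
  have hsup : Nat.card (Z ⊔ TT.range : Subgroup H) = 2 ^ 10 * 322560 := by
    have hb : Function.Bijective fun p : Z × TT.range =>
        (⟨p.1 * p.2, mul_mem (Subgroup.mem_sup_left p.1.2) (Subgroup.mem_sup_right p.2.2)⟩ :
          (Z ⊔ TT.range : Subgroup H)) := by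
      refine ⟨fun a b e => ?_, fun ⟨y, hy⟩ => ?_⟩
      · exact Subgroup.mul_injective_of_disjoint (disjoint_iff.2 hfree) (congrArg Subtype.val e)
      · obtain ⟨p, hp, q, hq, e⟩ := Subgroup.mem_sup_of_normal_left.1 hy
        exact ⟨(⟨p, hp⟩, ⟨q, hq⟩), Subtype.ext e⟩
    rw [← Nat.card_eq_of_bijective _ hb, Nat.card_prod, hZc, hTc]
  have hidx : (Z ⊔ TT.range : Subgroup H).index = 31 := by
    have h1 := Subgroup.card_mul_index (Z ⊔ TT.range : Subgroup H)
    rw [hsup, hcard] at h1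
    omega
  obtain ⟨K, hKZ, hKT⟩ := M23Coh.gaschuetz Z TT.range (fun a ha b hb => Subtype.ext
    (show (a : G) * b = b * a from (hTen.comm ha hb).eq)) hfree (by rw [hidx, hZc]; norm_num)
  refine ⟨K.map H.subtype, Subgroup.map_subtype_le _, ?_, ?_, ?_⟩
  · conv_lhs => rw [← Subgroup.map_subgroupOf_eq_of_le hAH]
    rw [← Subgroup.map_inf _ _ _ (Subgroup.subtype_injective _), ← hZ, hKZ, Subgroup.map_bot]
  · conv_lhs => rw [← Subgroup.map_subgroupOf_eq_of_le hAH]
    rw [← Subgroup.map_sup, ← hZ, hKT, ← MonoidHom.range_eq_map, Subgroup.range_subtype]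
  have hcard' : 9999360 ≤ Nat.card K := by
    have hb : Function.Surjective fun p : K × Z => (p.1 : H) * p.2 := fun y => by
      have hy : y ∈ K ⊔ Z := hKT ▸ Subgroup.mem_top y
      obtain ⟨k, hk, a, ha, e⟩ := Subgroup.mem_sup_of_normal_right.1 hy
      exact ⟨(⟨k, hk⟩, ⟨a, ha⟩), e⟩
    have h := Nat.card_le_card_of_surjective _ hb
    rw [Nat.card_prod, hZc, hcard] at h
    omega
  -- the action on coordinates
  have hex : ∀ (g : K) (c : ℕ), ∃ d < 1024, c < 1024 → phi ψ κ d = (g : G) * phi ψ κ c * (g : G)⁻¹ := by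
    intro g c
    by_cases hc : c < 1024
    · obtain ⟨d, hd, e⟩ := (Subgroup.mem_normalizer_iff.1 (g : H).2 _).1
        (show phi ψ κ c ∈ P.ten from ⟨c, hc, rfl⟩)
      exact ⟨d, hd, fun _ => e⟩
    · exact ⟨0, by norm_num, fun h => absurd h hc⟩
  choose L hlt hL using hex
  obtain ⟨e⟩ := Wedge5.recognise L (fun c hc => P.phi_inj (hlt _ c) hc (by
      rw [hL _ c hc, OneMemClass.coe_one, OneMemClass.coe_one, one_mul, inv_one, mul_one]))
    (fun g h c hc => P.phi_inj (hlt _ c) (hlt _ _) (by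
      rw [hL _ c hc, hL g _ (hlt h c), hL h c hc, Subgroup.coe_mul, Subgroup.coe_mul]; group))
    (fun g a b ha hb => P.phi_inj (hlt _ _) (Nat.xor_lt_two_pow (n := 10) (hlt g a) (hlt g b)) (by
      rw [hL g _ (Nat.xor_lt_two_pow (n := 10) ha hb), P.phi_mul ha hb, P.phi_mul (hlt g a) (hlt g b),
        hL g a ha, hL g b hb, conj_mul]))
    (fun g hg => by
      have hgZ : (g : H) ∈ Z := by
        show ((g : H) : G) ∈ P.ten
        rw [← hTen.self]
        refine Subgroup.mem_centralizer_iff.2 ?_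
        rintro _ ⟨c, hc, rfl⟩
        have h := hL g c hc
        rw [hg c hc] at h
        exact eq_mul_inv_iff_mul_eq.1 h
      exact Subtype.ext ((Subgroup.eq_bot_iff_forall _).1 hKZ _ ⟨g.2, hgZ⟩))
    (fun g c hc hD => by
      have hmem : ∀ c, c < 1024 → (Wedge5.Chk.isD c = true ↔ c ∈ codes ODat.trQ ∪ codes ODat.trA) := by
        intro c hc
        have h := orb_ok
        simp only [orbOK, Bool.and_eq_true] at h
        rw [Wedge5.Chk.isD, Wedge5.bt_testBit, Nat.eq_of_beq_eq_true h.2]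
        have key := Wedge5.foldl_bits (fun e : ℕ × ℕ × ℕ => e.1) (fun _ => true) (ODat.trQ ++ ODat.trA) 0 c
        simp only [cond_true, Nat.zero_testBit, Bool.false_eq_true, false_or, true_and] at key
        rw [key, codes, codes, Finset.mem_union, Finset.mem_filter, Finset.mem_filter, memT, memT,
          List.any_eq_true, List.any_eq_true]
        simp [List.mem_append, Finset.mem_range, hc, or_and_right, exists_or]
      have hz : IsConj z (phi ψ κ c) :=
        (hclass _ ⟨c, hc, rfl⟩).2 ⟨c, Finset.mem_coe.2 ((hmem c hc).1 hD), rfl⟩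
      have hz' : IsConj z (phi ψ κ (L g c)) := by
        rw [hL g c hc]; exact hz.trans (isConj_iff.2 ⟨_, rfl⟩)
      obtain ⟨d, hd, e⟩ := (hclass _ ⟨L g c, hlt g c, rfl⟩).1 hz'
      have hd' : d < 1024 := by
        have := Finset.mem_coe.1 hd
        simp only [codes, Finset.mem_union, Finset.mem_filter, Finset.mem_range] at this
        omega
      rw [← P.phi_inj hd' (hlt g c) e]
      exact (hmem d hd').2 (Finset.mem_coe.1 hd))
    hcard'
  exact ⟨(K.equivMapOfInjective _ (Subgroup.subtype_injective _)).symm.trans e⟩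

omit P hVc

/-- both orbits, for any of the subgroups -/
theorem Big.ten_two_orbits {A : Subgroup G} (hA : IsTen A) : ∃ a b : G, a ∈ A ∧ b ∈ A ∧
    (cOrb (Subgroup.normalizer (A : Set G)) a).ncard = 155 ∧
    (cOrb (Subgroup.normalizer (A : Set G)) b).ncard = 868 := by
  obtain ⟨V, ψ, κ, P, hVc⟩ := S.exists_spl f
  obtain ⟨-, h155, h868, -, -⟩ := S.ten_orbits f P hVc
  obtain ⟨g, rfl⟩ := S.ten_class f (S.isTen_sp f P hVc) hA
  set H := Subgroup.normalizer (P.ten : Set G)
  have hmove : ∀ a : G, (cOrb (Subgroup.normalizer (P.ten.map (MulAut.conj g).toMonoidHom : Set G))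
      (g * a * g⁻¹)).ncard = (cOrb H a).ncard := by
    intro a
    rw [← Subgroup.map_equiv_normalizer_eq P.ten (MulAut.conj g),
      ← Set.ncard_image_of_injective (cOrb H a) (fun u v (e : g * u * g⁻¹ = g * v * g⁻¹) =>
        mul_left_cancel (mul_right_cancel e))]
    congr 1
    ext v
    constructor
    · rintro ⟨_, ⟨n, hn, rfl⟩, rfl⟩
      exact ⟨n * a * n⁻¹, ⟨n, hn, rfl⟩, by show g * (n * a * n⁻¹) * g⁻¹ = g * n * g⁻¹ * (g * a * g⁻¹) * (g * n * g⁻¹)⁻¹; group⟩
    · rintro ⟨_, ⟨n, hn, rfl⟩, rfl⟩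
      exact ⟨_, ⟨n, hn, rfl⟩, by show g * n * g⁻¹ * (g * a * g⁻¹) * (g * n * g⁻¹)⁻¹ = g * (n * a * n⁻¹) * g⁻¹; group⟩
  obtain ⟨tP, tQ, -, -, lP, lQ, -, -⟩ := trees_ok
  have hq := Finset.mem_range.1 (Finset.mem_filter.1 (tree_root tQ (by rw [lQ]; norm_num))).1
  have ht := Finset.mem_range.1 (Finset.mem_filter.1 (tree_root tP (by rw [lP]; norm_num))).1
  exact ⟨g * phi ψ κ (ODat.trQ.getD 0 (0, 0, 0)).1 * g⁻¹, g * phi ψ κ (ODat.trP.getD 0 (0, 0, 0)).1 * g⁻¹,
    ⟨_, ⟨_, hq, rfl⟩, rfl⟩, ⟨_, ⟨_, ht, rfl⟩, rfl⟩, (hmove _).trans h155, (hmove _).trans h868⟩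

omit S f

end Cfsg.Agent.Spor.JFour
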