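import Cfsg.Agent.Lib.Spor.JFourThompDefs
import Cfsg.Agent.Lib.Spor.JFourHexData

/-!
Janko four type: checks on the seventy-seven translates of the fixed subspace.
-/

set_option autoImplicit false
set_option maxRecDepth 100000

namespace Cfsg.Agent.Spor.JFour.Chk

/-- code set of a translate -/
def hM (j : ℕ) : ℕ := Dat.hexM.getD j 0

/-- map of the word of a translate -/
def hC (j : ℕ) : List ℕ := evC (Dat.hexW.getD j [])

/-- the words, their code sets, and closure -/
def hexClosOK : Bool :=
  Nat.beq Dat.hexW.length 77 && leq (hC 0) idL &&
    ((List.range 77).all fun j =>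
      ((Dat.hexW.getD j []).all fun s => Nat.blt s 5) &&
        Nat.beq (hM j) (Dat.fsL.foldl (fun m k => Nat.lor m (Nat.shiftLeft 1 (app (hC j) k))) 0)) &&
    (List.range 5).all fun s => (List.range 77).all fun j => (List.range 77).any fun k =>
      Dat.fsL.all fun v => tb (hM k) (app (gn s) (app (hC j) v))

/-- two translates share no vector of the longer orbit -/
def hexMeetOK : Bool :=
  (List.range 77).all fun i =>
    (Dat.fsL.any fun k => let v := app (hC i) k; !Nat.beq v 0 && !isA v) &&
    (List.range i).all fun j =>
      Dat.fsL.all fun k => let v := app (hC i) k; Nat.beq v 0 || isA v || !tb (hM j) v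

/-- only one translate is fixed by an involution of the chosen subgroup -/
def hexFixOK : Bool :=
  (List.range 16).all fun b => Nat.beq b 0 || (let L := eL b
    (List.range 77).all fun j => Nat.beq j 0 ||
      Dat.fsB.any fun v => let u := app (hC j) v; !Nat.beq (app L u) u)

theorem hex_clos : hexClosOK = true := by decide +kernel

theorem hex_meet : hexMeetOK = true := by decide +kernel

theorem hex_fix : hexFixOK = true := by decide +kernel

end Cfsg.Agent.Spor.JFour.Chk
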