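import Cfsg.Agent.Lib.Spor.JFourInvolData
import Cfsg.Agent.Lib.Spor.JFourHexChecks

/-!
Janko four type: checks covering every involution of the centraliser.
-/

set_option autoImplicit false
set_option maxRecDepth 100000

namespace Cfsg.Agent.Spor.JFour.Chk

/-- a representative -/
def cR (r : ℕ) : List ℕ := sylE (Dat.covR.getD r 0)

/-- the representatives lie in the kernel of the fixed vector -/
def covRepOK : Bool :=
  linL (cR 0) && !linL (cR 1) && !linL (cR 2) && leq (cR 0) (eL 0) == false &&
    (List.range 3).all fun r => Nat.blt (Dat.covR.getD r 0) 256 &&
      ((Dat.covK.getD r []).all fun k => Nat.blt k Dat.kerW.length) &&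
        leq ((Dat.covK.getD r []).foldr (fun k X => cmul (kerC.getD k []) X) idL) (cR r)

/-- every involution of the Sylow subgroup is conjugate to a representative -/
def covTabOK : Bool :=
  (List.range 71).all fun a =>
    let q := Dat.covT.getD a (0, [])
    Nat.blt q.1 3 && (q.2.all fun s => Nat.blt s 5) &&
      leq (cmul (evC q.2) (cR q.1)) (cmul (inI a) (evC q.2))

/-- displacements together with the common part -/
def covSpan (p : List ℕ) : List ℕ := spanL ((idL.map fun v => Nat.xor (app p v) v) ++ Dat.rowF)

/-- outer: a displaced vector of an element of the neighbour is covered -/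
def covOuter (r : ℕ) : Bool :=
  let p := cR r
  let T := covSpan p
  (List.range 4096).all fun V => !near (app p V) V || T.any (Nat.beq V)

/-- inner: the invariant displaced vectors are covered, and every singular fixed vector moves into them -/
def covInner : Bool :=
  let p := cR 0
  let T := covSpan p
  let k := wS Dat.covS
  let M := idL :: Dat.covMv.map wS
  (Dat.covS.all fun s => Nat.blt s 3) && (Dat.covMv.all fun w => w.all fun s => Nat.blt s 3) &&
    leq (cmul k p) (cmul p k) && Nat.beq (app k kA) kA &&
    (Dat.covMv.all fun w => leq (cmul (wS w) p) (cmul p (wS w))) &&
    ((List.range 4096).all fun V =>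
      (!near (app p V) V || !fCond (Nat.xor (app k V) V)) || T.any (Nat.beq V)) &&
    ((List.range 4096).all fun V =>
      (!Nat.beq (app p V) V || qb V) || M.any fun L => T.any (Nat.beq (app L V)))

/-- every singular vector of the longer orbit lies in a translate -/
def hexCoverOK : Bool :=
  (List.range 4096).all fun v => qb v || Nat.beq v 0 || isA v || (List.range 77).any fun j => tb (hM j) v

theorem covRep_ok : covRepOK = true := by decide +kernel

theorem covTab_ok : covTabOK = true := by decide +kernel

theorem covOuter_one : covOuter 1 = true := by decide +kernel

theorem covOuter_two : covOuter 2 = true := by decide +kernel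

theorem covInner_ok : covInner = true := by decide +kernel

theorem hexCover_ok : hexCoverOK = true := by decide +kernel

end Cfsg.Agent.Spor.JFour.Chk
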