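import Cfsg.Agent.Lib.Spor.JFourData

/-!
Janko four type: tables showing that every involution of the centraliser lies in a conjugate of the extraspecial
subgroup.
-/

set_option autoImplicit false

namespace Cfsg.Agent.Spor.JFour.Dat

/-- the three representatives in the Sylow subgroup -/
def covR : List ℕ := [18, 67, 76]

/-- the same as products in the kernel -/
def covK : List (List ℕ) := [[3, 0], [4, 1, 0], [4, 0]]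

/-- class and conjugating word for each involution -/
def covT : List (ℕ × List ℕ) := [
  (2, [3, 0, 1, 2, 2, 0, 2, 1, 0, 2]),
  (0, [4, 2, 0, 4, 2, 1, 0, 0]),
  (2, [0, 1, 2, 0, 2, 0, 0]),
  (0, [1, 0, 0, 0]),
  (2, [4, 0, 1, 2, 0, 2, 0, 0]),
  (0, []),
  (0, [2, 0, 4, 2, 1, 0, 0]),
  (1, [3, 0, 2, 2, 0]),
  (2, [3, 0, 0, 0, 2, 0, 2]),
  (2, [3, 2, 2, 0, 0]),
  (0, [2, 0, 1, 2, 1, 0, 2, 0, 0]),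
  (0, [2, 0, 0, 2, 0, 1, 0, 0]),
  (1, [3, 0, 4, 2, 0]),
  (0, [1, 2, 0, 2, 1, 1, 0]),
  (0, [2, 1, 0, 2, 0, 1, 0, 0]),
  (1, []),
  (1, [4, 2, 2, 0, 2, 0]),
  (0, [2, 1, 0, 4, 2, 0, 0]),
  (0, [4, 0, 4, 2, 0, 1]),
  (2, []),
  (0, [0, 0, 1]),
  (1, [4, 3, 0, 4, 2, 0, 1]),
  (2, [3, 3, 0, 2, 2, 1, 0]),
  (2, [4]),
  (1, [4, 1, 2, 0, 2, 0]),
  (0, [1, 2, 1, 0, 0, 2, 0, 2]),
  (2, [3, 2, 1, 0, 4, 2, 0, 0]),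
  (0, [0, 4, 2, 2, 1, 0, 2, 0, 2]),
  (0, [2, 0, 0, 0]),
  (2, [3, 4, 1, 0, 2, 0, 0, 0]),
  (1, [2, 2, 0, 2, 0]),
  (0, [4, 0, 0, 2, 0, 2]),
  (0, [4, 2, 1, 0, 4, 2, 0, 0]),
  (0, [0, 4, 2, 0, 1]),
  (1, [1, 2, 0, 2, 0, 1]),
  (0, [4, 0, 0, 2, 1, 0, 0]),
  (1, [3, 0, 4, 2, 0, 1]),
  (0, [1, 2, 0, 2, 0, 2, 0]),
  (0, [4, 2, 0, 0, 0]),
  (1, [1, 2, 1]),
  (0, [4, 1, 2, 0, 2, 0, 2, 0]),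
  (2, [4, 3, 2, 2, 0, 0]),
  (0, [4, 0, 1, 2, 2, 0, 2, 0, 0]),
  (0, [4, 1, 0, 4, 2, 1, 0, 0]),
  (0, [0, 1, 0, 2, 1, 0]),
  (2, [1, 0, 2, 0, 0, 4, 1, 2, 0, 0, 0]),
  (1, [3, 0, 4, 2, 0, 1, 2]),
  (2, [3, 1, 2, 0, 0]),
  (1, [3, 3, 1, 2, 0, 1]),
  (0, [0, 1, 0, 2, 0, 1, 2, 0, 2]),
  (0, [1, 0, 0, 2, 0, 1, 0, 0]),
  (1, [3, 3, 0, 0, 0, 0]),
  (0, [0, 1, 2, 2, 0, 2, 0, 0]),
  (0, [2, 1, 1, 0, 1, 2, 0, 2]),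
  (0, [1, 0, 1, 2, 1, 0, 2, 0, 0]),
  (1, [2, 1, 0, 2, 0, 0]),
  (2, [4, 3, 1, 2, 0, 0]),
  (2, [0, 2, 2, 0, 0, 4, 3, 2, 0]),
  (0, [1, 0, 4, 2, 1, 0, 0]),
  (1, [2, 1, 0, 1, 2, 0, 0, 0]),
  (0, [1, 0, 2, 0, 4, 2, 1, 0, 0]),
  (1, [3, 4, 0, 0, 0, 0]),
  (0, [0, 0, 1, 0, 2, 0, 1, 0]),
  (1, [1, 2, 0, 2, 0]),
  (0, [0, 0, 2, 1, 0, 0, 2, 0, 0, 0]),
  (0, [0, 0, 2, 1, 0, 0]),
  (2, [0, 0, 2, 1, 0, 0, 4, 3]),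
  (1, [2, 2, 0, 2, 0, 1]),
  (2, [3, 3, 1, 0, 2, 0, 0, 0]),
  (0, [0, 0, 2, 0, 2]),
  (2, [0, 2, 0, 4, 1, 2, 0, 2])]

/-- elements moving the singular fixed vectors into the covered ones -/
def covMv : List (List ℕ) := [[2], [2, 2]]

/-- an element excluding the other cosets -/
def covS : List ℕ := [2, 2, 1, 1, 1, 0, 1, 0]

end Cfsg.Agent.Spor.JFour.Dat
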