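import Cfsg.Agent.Lib.Spor.LargeCriteria

/-!
Two conjugate large extraspecial subgroups whose centres lie in each other.
-/

set_option autoImplicit false

namespace Cfsg.Agent.Spor.Large

variable {G : Type*} [Group G]

theorem XT.sq_mem {u : G} {P : Subgroup G} (h : XT u P) {a : G} (ha : a ∈ P) :
    a * a = 1 ∨ a * a = u := by
  refine h.eq_of_cen _ (mul_mem ha ha) fun b hb => mul_inv_eq_iff_eq_mul.1 ?_
  calc a * a * b * (a * a)⁻¹ = a * (a * b * a⁻¹) * a⁻¹ := by group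
    _ = b := by
      rcases h.comm a ha b hb with e | e
      · rw [e, e]
      · rw [e, show a * (b * u) * a⁻¹ = a * b * a⁻¹ * (a * u * a⁻¹) by group, e,
          show a * u * a⁻¹ = u by rw [← (h.cen a ha).eq, mul_inv_cancel_right], mul_assoc, h.sq, mul_one]

theorem XT.comm_mem {u : G} {P : Subgroup G} (h : XT u P) {a b : G} (ha : a ∈ P) (hb : b ∈ P) :
    a * b * a⁻¹ * b⁻¹ = 1 ∨ a * b * a⁻¹ * b⁻¹ = u := by
  rcases h.comm a ha b hb with e | e
  · left; rw [e, mul_inv_cancel]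
  · right; rw [e, ← (h.cen b hb).eq, mul_inv_cancel_right]

/-- two conjugate extraspecial subgroups, each containing the centre of the other -/
structure Pair (Q Q' : Subgroup G) (z z' : G) : Prop where
  xt : XT z Q
  xt' : XT z' Q'
  mem' : z' ∈ Q
  mem : z ∈ Q'
  ne : z' ≠ z
  norm : ∀ c : G, Commute c z → ∀ q ∈ Q, c * q * c⁻¹ ∈ Q
  norm' : ∀ c : G, Commute c z' → ∀ q ∈ Q', c * q * c⁻¹ ∈ Q'
  large : ∀ c : G, (∀ q ∈ Q, Commute c q) → c ∈ Q
  map : ∀ h : G, h * z * h⁻¹ = z' → Q.map (MulAut.conj h).toMonoidHom = Q'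

/-- the intersection with the centralizer of the other centre, joined -/
def core (Q Q' : Subgroup G) (z z' : G) : Subgroup G :=
  (Q' ⊓ Subgroup.centralizer ({z} : Set G)) ⊔ (Q ⊓ Subgroup.centralizer ({z'} : Set G))

variable {Q Q' : Subgroup G} {z z' : G}

theorem mem_cz {a u : G} {P : Subgroup G} :
    a ∈ P ⊓ Subgroup.centralizer ({u} : Set G) ↔ a ∈ P ∧ Commute a u := by
  rw [Subgroup.mem_inf, Subgroup.mem_centralizer_singleton_iff]
  exact Iff.rfl

theorem Pair.comm_zz (h : Pair Q Q' z z') : Commute z z' := h.xt.cen z' h.mem'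

theorem Pair.exists_mover (h : Pair Q Q' z z') : ∃ y ∈ Q, ¬ Commute y z' := by
  by_contra hno
  push Not at hno
  rcases h.xt.eq_of_cen z' h.mem' (fun q hq => (hno q hq).symm) with e | e
  exacts [h.xt'.ne e, h.ne e]

theorem Pair.exists_mover' (h : Pair Q Q' z z') : ∃ p ∈ Q', ¬ Commute p z := by
  by_contra hno
  push Not at hno
  rcases h.xt'.eq_of_cen z h.mem (fun q hq => (hno q hq).symm) with e | e
  exacts [h.xt.ne e, h.ne e.symm]

theorem Pair.act (h : Pair Q Q' z z') {y : G} (hy : y ∈ Q) (hn : ¬ Commute y z') :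
    y * z * y⁻¹ = z ∧ y * z' * y⁻¹ = z' * z ∧ y * (z' * z) * y⁻¹ = z' := by
  have h1 : y * z * y⁻¹ = z := by rw [← (h.xt.cen y hy).eq, mul_inv_cancel_right]
  have h2 := h.xt.move hy h.mem' hn
  refine ⟨h1, h2, ?_⟩
  rw [← conj_mul, h1, h2, mul_assoc, h.xt.sq, mul_one]

theorem Pair.act' (h : Pair Q Q' z z') {p : G} (hp : p ∈ Q') (hn : ¬ Commute p z) :
    p * z' * p⁻¹ = z' ∧ p * z * p⁻¹ = z' * z ∧ p * (z' * z) * p⁻¹ = z := by
  have h1 : p * z' * p⁻¹ = z' := by rw [← (h.xt'.cen p hp).eq, mul_inv_cancel_right]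
  have h2 : p * z * p⁻¹ = z' * z := (h.xt'.move hp h.mem hn).trans h.comm_zz.eq
  refine ⟨h1, h2, ?_⟩
  rw [← conj_mul, h1, h2, ← mul_assoc, h.xt'.sq, one_mul]

theorem Pair.coset (h : Pair Q Q' z z') {y t : G} (hy : y ∈ Q) (ht : t ∈ Q) (hyn : ¬ Commute y z')
    (htn : ¬ Commute t z') : Commute (y⁻¹ * t) z' := mul_inv_eq_iff_eq_mul.1 (by
  calc y⁻¹ * t * z' * (y⁻¹ * t)⁻¹ = y⁻¹ * (t * z' * t⁻¹) * y := by group
    _ = y⁻¹ * (y * z' * y⁻¹) * y := by rw [(h.act ht htn).2.1, (h.act hy hyn).2.1]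
    _ = z' := by group)

theorem Pair.coset' (h : Pair Q Q' z z') {y t : G} (hy : y ∈ Q') (ht : t ∈ Q') (hyn : ¬ Commute y z)
    (htn : ¬ Commute t z) : Commute (y⁻¹ * t) z := mul_inv_eq_iff_eq_mul.1 (by
  calc y⁻¹ * t * z * (y⁻¹ * t)⁻¹ = y⁻¹ * (t * z * t⁻¹) * y := by group
    _ = y⁻¹ * (y * z * y⁻¹) * y := by rw [(h.act' ht htn).2.1, (h.act' hy hyn).2.1]
    _ = z := by group)

/-- what centralizes the subgroup of index two -/
theorem Pair.cent_in (h : Pair Q Q' z z') {q : G} (hq : q ∈ Q)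
    (hc : ∀ a ∈ Q, Commute a z' → Commute q a) : q = 1 ∨ q = z ∨ q = z' ∨ q = z' * z := by
  obtain ⟨y, hy, hyn⟩ := h.exists_mover
  have key : ∀ r ∈ Q, Commute r y → (∀ a ∈ Q, Commute a z' → Commute r a) → r = 1 ∨ r = z := by
    intro r hr hry hrc
    refine h.xt.eq_of_cen r hr fun t ht => ?_
    by_cases htn : Commute t z'
    · exact hrc t ht htn
    · have := hry.mul_right (hrc _ (mul_mem (inv_mem hy) ht) (h.coset hy ht hyn htn))
      rwa [mul_inv_cancel_left] at this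
  by_cases hqy : Commute q y
  · rcases key q hq hqy hc with e | e <;> tauto
  · have hyq : y * q * y⁻¹ = q * z := h.xt.move hy hq fun e => hqy e.symm
    have hqz : Commute (q * z') y := by
      refine (mul_inv_eq_iff_eq_mul.1 ?_ : y * (q * z') = q * z' * y).symm
      calc y * (q * z') * y⁻¹ = (y * q * y⁻¹) * (y * z' * y⁻¹) := by group
        _ = q * (z * z') * z := by rw [hyq, (h.act hy hyn).2.1]; simp only [mul_assoc]
        _ = q * z' := by rw [h.comm_zz.eq]; simp only [mul_assoc, h.xt.sq, mul_one]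
    have hi : z'⁻¹ = z' := inv_eq_of_mul_eq_one_right h.xt'.sq
    rcases key _ (mul_mem hq h.mem') hqz (fun a ha haz => (hc a ha haz).mul_left haz.symm) with e | e
    · exact Or.inr (Or.inr (Or.inl (by rw [eq_inv_of_mul_eq_one_left e, hi])))
    · refine Or.inr (Or.inr (Or.inr ?_))
      rw [eq_mul_inv_of_mul_eq e, hi, h.comm_zz.eq]

theorem Pair.cent_out (h : Pair Q Q' z z') {c : G} (hcz : Commute c z)
    (hc : ∀ a ∈ Q, Commute a z' → Commute c a) : c = 1 ∨ c = z ∨ c = z' ∨ c = z' * z := by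
  have inQ : ∀ d : G, (∀ q ∈ Q, Commute d q) → d = 1 ∨ d = z := fun d hd =>
    h.xt.eq_of_cen d (h.large d hd) hd
  obtain ⟨y, hy, hyn⟩ := h.exists_mover
  have hcz' : Commute c z' := hc z' h.mem' (Commute.refl z')
  set d := y⁻¹ * (c * y * c⁻¹) with hd
  have hy' : c * y * c⁻¹ ∈ Q := h.norm c hcz y hy
  have hyd : c * y * c⁻¹ = y * d := by rw [hd, mul_inv_cancel_left]
  have hdQ : d ∈ Q := mul_mem (inv_mem hy) hy'
  have hyz : Commute y z := (h.xt.cen y hy).symm
  have hdc : ∀ a ∈ Q, Commute a z' → Commute d a := by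
    intro a ha haz
    have hyaQ : y * a * y⁻¹ ∈ Q := mul_mem (mul_mem hy ha) (inv_mem hy)
    have hya : Commute (y * a * y⁻¹) z' := by
      have h1 : Commute a z := (h.xt.cen a ha).symm
      have h2 : Commute a (z' * z) := haz.mul_right h1
      have h3 := (Commute.conj_iff y).2 h2
      rwa [(h.act hy hyn).2.2] at h3
    have e1 : c * (y * a * y⁻¹) * c⁻¹ = y * a * y⁻¹ := by
      rw [(hc _ hyaQ hya).eq, mul_inv_cancel_right]
    have e2 : c * a * c⁻¹ = a := by rw [(hc a ha haz).eq, mul_inv_cancel_right]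
    refine mul_inv_eq_iff_eq_mul.1 ?_
    calc d * a * d⁻¹ = y⁻¹ * ((c * y * c⁻¹) * (c * a * c⁻¹) * (c * y * c⁻¹)⁻¹) * y := by
          rw [e2, hd]; group
      _ = y⁻¹ * (c * (y * a * y⁻¹) * c⁻¹) * y := by group
      _ = a := by rw [e1]; group
  have hsq : y * d * (y * d) = y * y := by
    rw [← hyd, show c * y * c⁻¹ * (c * y * c⁻¹) = c * (y * y) * c⁻¹ by group]
    rcases h.xt.sq_mem hy with e | e <;> rw [e]
    · simp
    · rw [hcz.eq, mul_inv_cancel_right]
  have hzi : z'⁻¹ = z' := inv_eq_of_mul_eq_one_right h.xt'.sq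
  rcases h.cent_in hdQ hdc with e | e | e | e <;> rw [e] at hyd hsq
  · rw [mul_one] at hyd
    have hcQ : ∀ t ∈ Q, Commute c t := by
      intro t ht
      by_cases htn : Commute t z'
      · exact hc t ht htn
      · have hcy : Commute c y := mul_inv_eq_iff_eq_mul.1 hyd
        have := hcy.mul_right
          (hc _ (mul_mem (inv_mem hy) ht) (h.coset hy ht hyn htn))
        rwa [mul_inv_cancel_left] at this
    rcases inQ c hcQ with e' | e'
    exacts [Or.inl e', Or.inr (Or.inl e')]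
  · -- a product with the other centre centralizes everything
    have hcy : Commute (c * z') y := by
      refine mul_inv_eq_iff_eq_mul.1 ?_
      have e1 : z' * y * z'⁻¹ = y * z := h.xt.move h.mem' hy fun e => hyn e.symm
      calc c * z' * y * (c * z')⁻¹ = c * (z' * y * z'⁻¹) * c⁻¹ := by group
        _ = (c * y * c⁻¹) * (c * z * c⁻¹) := by rw [e1]; group
        _ = y := by rw [hyd, hcz.eq, mul_inv_cancel_right, mul_assoc, h.xt.sq, mul_one]
    have hcQ : ∀ t ∈ Q, Commute (c * z') t := by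
      intro t ht
      by_cases htn : Commute t z'
      · exact (hc t ht htn).mul_left htn.symm
      · have hm := h.coset hy ht hyn htn
        have := hcy.mul_right ((hc _ (mul_mem (inv_mem hy) ht) hm).mul_left hm.symm)
        rwa [mul_inv_cancel_left] at this
    rcases inQ (c * z') hcQ with e' | e'
    · exact Or.inr (Or.inr (Or.inl (by rw [eq_inv_of_mul_eq_one_left e', hzi])))
    · exact Or.inr (Or.inr (Or.inr (by rw [eq_mul_inv_of_mul_eq e', hzi, h.comm_zz.eq])))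
  · exfalso
    refine hyn (mul_inv_eq_iff_eq_mul.1 (?_ : y * z' * y⁻¹ = z'))
    have e1 : y * z' * y * z' = y * y := by rw [mul_assoc (y * z')]; exact hsq
    calc y * z' * y⁻¹ = (y * z' * y * z') * (z'⁻¹ * y⁻¹ * y⁻¹) := by group
      _ = y * y * (z'⁻¹ * y⁻¹ * y⁻¹) := by rw [e1]
      _ = y * (y * z'⁻¹ * y⁻¹) * y⁻¹ := by group
      _ = y * (z' * z) * y⁻¹ := by rw [hzi, (h.act hy hyn).2.1]
      _ = z' := (h.act hy hyn).2.2
  · exfalso
    refine hyn (mul_inv_eq_iff_eq_mul.1 (?_ : y * z' * y⁻¹ = z'))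
    have e1 : y * z' * y * z' = y * y := by
      rw [← hsq]
      have hzz : z * (y * (z' * z)) = y * z' := by
        rw [← mul_assoc, hyz.symm.eq, mul_assoc, ← mul_assoc z z', h.comm_zz.eq, mul_assoc z' z z,
          h.xt.sq, mul_one]
      calc y * z' * y * z' = y * z' * (y * z') := by simp only [mul_assoc]
        _ = y * z' * (z * (y * (z' * z))) := by rw [hzz]
        _ = _ := by simp only [mul_assoc]
    calc y * z' * y⁻¹ = (y * z' * y * z') * (z'⁻¹ * y⁻¹ * y⁻¹) := by group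
      _ = y * y * (z'⁻¹ * y⁻¹ * y⁻¹) := by rw [e1]
      _ = y * (y * z'⁻¹ * y⁻¹) * y⁻¹ := by group
      _ = y * (z' * z) * y⁻¹ := by rw [hzi, (h.act hy hyn).2.1]
      _ = z' := (h.act hy hyn).2.2

theorem Pair.normalizes (h : Pair Q Q' z z') {a b : G}
    (ha : a ∈ Q ⊓ Subgroup.centralizer ({z'} : Set G))
    (hb : b ∈ Q' ⊓ Subgroup.centralizer ({z} : Set G)) :
    a * b * a⁻¹ ∈ Q' ⊓ Subgroup.centralizer ({z} : Set G) ∧
      b * a * b⁻¹ ∈ Q ⊓ Subgroup.centralizer ({z'} : Set G) ∧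
      a * b * a⁻¹ * b⁻¹ ∈ Q ⊓ Q' := by
  rw [mem_cz] at ha hb
  have h1 : a * b * a⁻¹ ∈ Q' := h.norm' a ha.2 b hb.1
  have h2 : b * a * b⁻¹ ∈ Q := h.norm b hb.2 a ha.1
  have haz : Commute a z := (h.xt.cen a ha.1).symm
  have hbz : Commute b z' := (h.xt'.cen b hb.1).symm
  refine ⟨mem_cz.2 ⟨h1, (haz.mul_left hb.2).mul_left haz.inv_left⟩,
    mem_cz.2 ⟨h2, (hbz.mul_left ha.2).mul_left hbz.inv_left⟩, ?_, mul_mem h1 ((inv_mem hb.1 : b⁻¹ ∈ Q'))⟩
  rw [show a * b * a⁻¹ * b⁻¹ = a * (b * a⁻¹ * b⁻¹) by group]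
  exact mul_mem ha.1 (h.norm b hb.2 _ (inv_mem ha.1))

theorem Pair.core_le (h : Pair Q Q' z z') :
    core Q Q' z z' ≤ Subgroup.centralizer ({z, z'} : Set G) := by
  refine sup_le ?_ ?_ <;> intro a ha <;> rw [mem_cz] at ha <;> rw [Subgroup.mem_centralizer_iff] <;>
    intro v hv
  · rcases hv with rfl | rfl
    exacts [ha.2.symm.eq, (h.xt'.cen a ha.1).eq]
  · rcases hv with rfl | rfl
    exacts [(h.xt.cen a ha.1).eq, ha.2.symm.eq]

theorem Pair.mem_core (h : Pair Q Q' z z') {x : G} (hx : x ∈ core Q Q' z z') :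
    ∃ b ∈ Q' ⊓ Subgroup.centralizer ({z} : Set G), ∃ a ∈ Q ⊓ Subgroup.centralizer ({z'} : Set G),
      x = b * a := by
  rw [core, Subgroup.sup_eq_closure] at hx
  induction hx using Subgroup.closure_induction with
  | mem u hu =>
    rcases hu with hu | hu
    · exact ⟨u, hu, 1, one_mem _, (mul_one u).symm⟩
    · exact ⟨1, one_mem _, u, hu, (one_mul u).symm⟩
  | one => exact ⟨1, one_mem _, 1, one_mem _, (one_mul 1).symm⟩
  | mul u v _ _ hu hv =>
    obtain ⟨b, hb, a, ha, rfl⟩ := hu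
    obtain ⟨b', hb', a', ha', rfl⟩ := hv
    exact ⟨b * (a * b' * a⁻¹), mul_mem hb (h.normalizes ha hb').1, a * a', mul_mem ha ha', by group⟩
  | inv u _ hu =>
    obtain ⟨b, hb, a, ha, rfl⟩ := hu
    exact ⟨a⁻¹ * b⁻¹ * a⁻¹⁻¹, (h.normalizes (inv_mem ha) (inv_mem hb)).1, a⁻¹, inv_mem ha, by group⟩

/-- the two subgroups normalize their common core -/
theorem Pair.core_normalized (h : Pair Q Q' z z') {x : G} (hx : x ∈ Q ⊔ Q') {r : G}
    (hr : r ∈ core Q Q' z z') : x * r * x⁻¹ ∈ core Q Q' z z' := by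
  rw [Subgroup.sup_eq_closure] at hx
  revert r
  have hQ : ∀ y ∈ Q, ∀ r ∈ core Q Q' z z', y * r * y⁻¹ ∈ core Q Q' z z' := by
    intro y hy r hr
    obtain ⟨b, hb, a, ha, rfl⟩ := h.mem_core hr
    rw [show y * (b * a) * y⁻¹ = (y * b * y⁻¹) * (y * a * y⁻¹) by group]
    rw [mem_cz] at ha hb
    have hyz : Commute y z := (h.xt.cen y hy).symm
    have hyaz : Commute (y * a * y⁻¹) z' := by
      by_cases hyn : Commute y z'
      · exact (hyn.mul_left ha.2).mul_left hyn.inv_left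
      · have h3 := (Commute.conj_iff y).2 (ha.2.mul_right (h.xt.cen a ha.1).symm)
        rwa [(h.act hy hyn).2.2] at h3
    refine mul_mem ?_ (Subgroup.mem_sup_right (mem_cz.2 ⟨mul_mem (mul_mem hy ha.1) (inv_mem hy), hyaz⟩))
    -- the conjugate of the other part
    have hbz : Commute (y * b * y⁻¹) z := (hyz.mul_left hb.2).mul_left hyz.inv_left
    have hbz' : Commute (y * b * y⁻¹) z' := by
      by_cases hyn : Commute y z'
      · exact (hyn.mul_left (h.xt'.cen b hb.1).symm).mul_left hyn.inv_left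
      · have h3 := (Commute.conj_iff y).2 (((h.xt'.cen b hb.1).symm).mul_right hb.2)
        rwa [(h.act hy hyn).2.2] at h3
    have hq : b⁻¹ * (y * b * y⁻¹) ∈ Q ⊓ Subgroup.centralizer ({z'} : Set G) := by
      refine mem_cz.2 ⟨?_, (h.xt'.cen b hb.1).symm.inv_left.mul_left hbz'⟩
      rw [show b⁻¹ * (y * b * y⁻¹) = (b⁻¹ * y * b⁻¹⁻¹) * y⁻¹ by group]
      exact mul_mem (h.norm b⁻¹ hb.2.inv_left y hy) (inv_mem hy)
    have := mul_mem (Subgroup.mem_sup_left (mem_cz.2 hb) : b ∈ core Q Q' z z') (Subgroup.mem_sup_right hq)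
    rwa [mul_inv_cancel_left] at this
  have hQ' : ∀ y ∈ Q', ∀ r ∈ core Q Q' z z', y * r * y⁻¹ ∈ core Q Q' z z' := by
    intro y hy r hr
    obtain ⟨b, hb, a, ha, rfl⟩ := h.mem_core hr
    rw [show y * (b * a) * y⁻¹ = (y * b * y⁻¹) * (y * a * y⁻¹) by group]
    rw [mem_cz] at ha hb
    have hyz : Commute y z' := (h.xt'.cen y hy).symm
    have hybz : Commute (y * b * y⁻¹) z := by
      by_cases hyn : Commute y z
      · exact (hyn.mul_left hb.2).mul_left hyn.inv_left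
      · have h3 := (Commute.conj_iff y).2 ((h.xt'.cen b hb.1).symm.mul_right hb.2)
        rwa [(h.act' hy hyn).2.2] at h3
    refine mul_mem (Subgroup.mem_sup_left (mem_cz.2 ⟨mul_mem (mul_mem hy hb.1) (inv_mem hy), hybz⟩)) ?_
    have haz' : Commute (y * a * y⁻¹) z' := (hyz.mul_left ha.2).mul_left hyz.inv_left
    have haz : Commute (y * a * y⁻¹) z := by
      by_cases hyn : Commute y z
      · exact (hyn.mul_left (h.xt.cen a ha.1).symm).mul_left hyn.inv_left
      · have h3 := (Commute.conj_iff y).2 (ha.2.mul_right (h.xt.cen a ha.1).symm)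
        rwa [(h.act' hy hyn).2.2] at h3
    have hq : y * a * y⁻¹ * a⁻¹ ∈ Q' ⊓ Subgroup.centralizer ({z} : Set G) := by
      refine mem_cz.2 ⟨?_, haz.mul_left (h.xt.cen a ha.1).symm.inv_left⟩
      rw [show y * a * y⁻¹ * a⁻¹ = y * (a * y⁻¹ * a⁻¹) by group]
      exact mul_mem hy (h.norm' a ha.2 _ (inv_mem hy))
    have := mul_mem (Subgroup.mem_sup_left hq : _ ∈ core Q Q' z z') (Subgroup.mem_sup_right (mem_cz.2 ha))
    rwa [inv_mul_cancel_right] at this
  induction hx using Subgroup.closure_induction_left with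
  | one => intro r hr; simpa using hr
  | mul_left u hu v _ ih =>
    intro r hr
    rw [show u * v * r * (u * v)⁻¹ = u * (v * r * v⁻¹) * u⁻¹ by group]
    rcases hu with hu | hu
    exacts [hQ u hu _ (ih hr), hQ' u hu _ (ih hr)]
  | inv_mul_cancel u hu v _ ih =>
    intro r hr
    rw [show u⁻¹ * v * r * (u⁻¹ * v)⁻¹ = u⁻¹ * (v * r * v⁻¹) * u⁻¹⁻¹ by group]
    rcases hu with hu | hu
    exacts [hQ u⁻¹ (inv_mem hu) _ (ih hr), hQ' u⁻¹ (inv_mem hu) _ (ih hr)]

theorem Pair.inter_square (h : Pair Q Q' z z') {e : G} (he : e ∈ Q ⊓ Q') : e * e = 1 := by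
  rcases h.xt.sq_mem he.1 with h1 | h1
  · exact h1
  rcases h.xt'.sq_mem he.2 with h2 | h2
  · exact h2
  exact absurd (h2.symm.trans h1) h.ne

theorem Pair.inter_comm (h : Pair Q Q' z z') {e f : G} (he : e ∈ Q ⊓ Q') (hf : f ∈ Q ⊓ Q') :
    Commute e f := by
  refine mul_inv_eq_iff_eq_mul.1 (mul_inv_eq_one.1 ?_)
  rcases h.xt.comm_mem he.1 hf.1 with h1 | h1
  · exact h1
  rcases h.xt'.comm_mem he.2 hf.2 with h2 | h2
  · exact h2
  exact absurd (h2.symm.trans h1) h.ne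

theorem Pair.inter_commute (h : Pair Q Q' z z') {e : G} (he : e ∈ Q ⊓ Q') :
    Commute e z ∧ Commute e z' :=
  ⟨(h.xt.cen e he.1).symm, (h.xt'.cen e he.2).symm⟩

/-- the pair attached to a large extraspecial subgroup and a conjugate of its centre inside it -/
theorem exists_pair [Finite G] (Q : Subgroup G) (hQ : Cfsg.IsLargeExtraspecial Q) (z : G)
    (hz : (Subgroup.center ↥Q).map Q.subtype = Subgroup.zpowers z) (w : ℕ) (hw : 2 ≤ w)
    (hcard : Nat.card ↥Q = 2 ^ (2 * w + 1)) (g : G) (hgH : g ∉ Subgroup.centralizer ({z} : Set G))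
    (hgQ : g * z * g⁻¹ ∈ Q) :
    Pair Q (Q.map (MulAut.conj g).toMonoidHom) z (g * z * g⁻¹) := by
  obtain ⟨hE, hC, hN, -⟩ := hQ
  obtain ⟨u, hu2, huQ, X, hset⟩ := exists_center_gen Q hE
  have hZmem : ∀ a, a ∈ (Subgroup.center ↥Q).map Q.subtype ↔ a = 1 ∨ a = u := fun a => by
    rw [← SetLike.mem_coe, hset]; simp
  have hz1 : z ≠ 1 := by
    rintro rfl
    have h := (hZmem u).2 (Or.inr rfl)
    rw [hz, Subgroup.zpowers_one_eq_bot, Subgroup.mem_bot] at h
    exact X.ne h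
  obtain rfl : z = u := ((hZmem z).1 (hz ▸ Subgroup.mem_zpowers z)).resolve_left hz1
  have hnorm : ∀ c : G, Commute c z → ∀ q ∈ Q, c * q * c⁻¹ ∈ Q := fun c hc q hq => by
    have hcN : c ∈ Subgroup.normalizer (Q : Set G) := hN <| Subgroup.mem_centralizer_iff.2 fun a ha => by
      rcases (hZmem a).1 ha with rfl | rfl
      exacts [(one_mul c).trans (mul_one c).symm, hc.symm.eq]
    exact (Subgroup.mem_normalizer_iff.1 hcN q).1 hq
  have hgN : g ∉ Subgroup.normalizer (((Subgroup.center ↥Q).map Q.subtype : Subgroup G) : Set G) := by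
    intro h
    have := (Subgroup.mem_normalizer_iff.1 h z).1 ((hZmem z).2 (Or.inr rfl))
    rcases (hZmem _).1 this with e | e
    · exact X.ne (conj_eq_one_iff.1 e)
    · exact hgH (Subgroup.mem_centralizer_singleton_iff.2 (mul_inv_eq_iff_eq_mul.1 e))
  have hZg : ((Subgroup.center ↥Q).map Q.subtype).map (MulAut.conj g).toMonoidHom ≤ Q := by
    rintro _ ⟨a, ha, rfl⟩
    rcases (hZmem a).1 ha with rfl | rfl
    · simp
    · exact hgQ
  have hin := (conjugate_inside Q hE hC hN w hw hcard g hgN hZg _ rfl).1 ((hZmem z).2 (Or.inr rfl))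
  refine ⟨X, X.conj g, hgQ, hin, fun e => hgH (Subgroup.mem_centralizer_singleton_iff.2
    (mul_inv_eq_iff_eq_mul.1 e)), hnorm, ?_, fun c hc => ?_, fun h hh => ?_⟩
  · rintro c hc _ ⟨q, hq, rfl⟩
    have hc' := (Commute.conj_iff g⁻¹).2 hc
    rw [show g⁻¹ * (g * z * g⁻¹) * g⁻¹⁻¹ = z by group] at hc'
    exact ⟨_, hnorm _ hc' q hq, by simp [mul_assoc]⟩
  · exact Subgroup.map_subtype_le _ (hC ▸ Subgroup.mem_centralizer_iff.2 fun q hq => (hc q hq).symm.eq)
  · have hc : Commute (g⁻¹ * h) z := mul_inv_eq_iff_eq_mul.1 (by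
      rw [show g⁻¹ * h * z * (g⁻¹ * h)⁻¹ = g⁻¹ * (h * z * h⁻¹) * g by group, hh]; group)
    ext y
    rw [Subgroup.mem_map_equiv, Subgroup.mem_map_equiv, MulAut.conj_symm_apply, MulAut.conj_symm_apply]
    constructor
    · intro h1
      have := hnorm _ hc _ h1
      rwa [show g⁻¹ * h * (h⁻¹ * y * h) * (g⁻¹ * h)⁻¹ = g⁻¹ * y * g by group] at this
    · intro h1
      have := hnorm _ hc.inv_left _ h1
      rwa [show (g⁻¹ * h)⁻¹ * (g⁻¹ * y * g) * (g⁻¹ * h)⁻¹⁻¹ = h⁻¹ * y * h by group] at this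

end Cfsg.Agent.Spor.Large
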