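import Cfsg.Agent.Lib.Spor.JFourNwc
import Cfsg.Agent.Lib.Spor.LargeCriteria
import Cfsg.Agent.Lib.Spor.LargePair
import Cfsg.Agent.Lib.Solv.ExtraspecialTwo

/-!
Janko four type: the conjugates of the involution in its extraspecial subgroup lie over the shorter orbit, and two
adjacent extraspecial subgroups meet in order 128, in a listed set of vectors.
-/

set_option autoImplicit false
set_option maxRecDepth 100000
set_option linter.unusedSectionVars false

namespace Cfsg.Agent.Spor.JFour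

open Cfsg.Agent.Spor.SUSix (V6 code code_lt vecOf_code)
open Cfsg.Agent.Spor.SpFour (F4)
open Cfsg.Agent.Small.Unitary (herm)
open Cfsg.Agent.Spor.Large (XT Pair)

attribute [local irreducible] Gam Kp BlockKer Cmp Chk.app

universe u

variable {G : Type u} [Group G] [Finite G] {z : G} {Q N : Subgroup G} {x : G}

/-- the setting with a large extraspecial subgroup -/
structure Big (z : G) (Q N : Subgroup G) (x : G) : Prop where
  base : Setup z Q N x
  large : Cfsg.IsLargeExtraspecial Q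
  cen : (Subgroup.center ↥Q).map Q.subtype = Subgroup.zpowers z
  nwc : ∃ g : G, g * z * g⁻¹ ∈ Q ∧ g * z * g⁻¹ ≠ z

theorem Setup.big [IsSimpleGroup G] (hG : ¬ IsMulCommutative G) (S : Setup z Q N x) : Big z Q N x := by
  have X := S.ord.xt
  have hcenmem : ∀ c : Q, c ∈ Subgroup.center Q ↔ (c : G) = 1 ∨ (c : G) = z := by
    intro c
    rw [Subgroup.mem_center_iff]
    constructor
    · intro h
      exact X.eq_of_cen c c.2 fun b hb => (congrArg Subtype.val (h ⟨b, hb⟩)).symm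
    · intro h b
      refine Subtype.ext ?_
      show (b : G) * c = c * b
      rcases h with e | e <;> rw [e]
      · simp
      · exact (X.cen b b.2).eq.symm
  have hzp : (Subgroup.center ↥Q).map Q.subtype = Subgroup.zpowers z := by
    refine le_antisymm ?_ (Subgroup.zpowers_le.2 ⟨⟨z, X.mem⟩, (hcenmem _).2 (Or.inr rfl), rfl⟩)
    rintro _ ⟨c, hc, rfl⟩
    rcases (hcenmem c).1 hc with e | e <;> show (c : G) ∈ _ <;> rw [e]
    exacts [one_mem _, Subgroup.mem_zpowers _]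
  have hzmem : ∀ a, a ∈ Subgroup.zpowers z → a = 1 ∨ a = z := fun a ha => by
    rw [← hzp] at ha
    obtain ⟨c, hc, rfl⟩ := ha
    exact (hcenmem c).1 hc
  have hC : Subgroup.centralizer (Q : Set G) = (Subgroup.center ↥Q).map Q.subtype := by
    refine le_antisymm (fun c hc => ?_) ?_
    · have hc' : ∀ b ∈ Q, Commute c b := fun b hb => (Subgroup.mem_centralizer_iff.1 hc b hb).symm
      have hcQ : c ∈ Q := S.ord.inner c (hc' z X.mem) fun b hb => Or.inl (by
        rw [(hc' b hb).eq, mul_inv_cancel_right])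
      exact ⟨⟨c, hcQ⟩, (hcenmem _).2 (X.eq_of_cen c hcQ hc'), rfl⟩
    · rintro _ ⟨c, hc, rfl⟩
      exact Subgroup.mem_centralizer_iff.2 fun b hb => congrArg Subtype.val (Subgroup.mem_center_iff.1 hc ⟨b, hb⟩)
  have hN : Subgroup.centralizer (((Subgroup.center ↥Q).map Q.subtype : Subgroup G) : Set G) ≤
      Subgroup.normalizer (Q : Set G) := by
    intro c hc
    have hcz : Commute c z := (Subgroup.mem_centralizer_iff.1 hc z (by
      rw [SetLike.mem_coe, hzp]; exact Subgroup.mem_zpowers z)).symm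
    rw [Subgroup.mem_normalizer_iff]
    refine fun q => ⟨S.ord.normQ c hcz q, fun h => ?_⟩
    have := S.ord.normQ c⁻¹ hcz.inv_left _ h
    rwa [show c⁻¹ * (c * q * c⁻¹) * c⁻¹⁻¹ = q by group] at this
  obtain ⟨g, hgQ, hgne⟩ := S.nwc hG
  have hgn : g ∉ Subgroup.normalizer (((Subgroup.center ↥Q).map Q.subtype : Subgroup G) : Set G) := by
    rw [hzp]
    intro h
    rcases hzmem _ ((Subgroup.mem_normalizer_iff.1 h z).1 (Subgroup.mem_zpowers z)) with e | e
    exacts [X.ne (conj_eq_one_iff.1 e), hgne e]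
  have hZg : ((Subgroup.center ↥Q).map Q.subtype).map (MulAut.conj g).toMonoidHom ≤ Q := by
    rw [hzp, MonoidHom.map_zpowers, Subgroup.zpowers_le]
    exact hgQ
  exact ⟨S, (Large.conjugate_inside Q S.extra hC hN 6 (by norm_num) (by rw [S.ord.cardQ]) g hgn hZg _ rfl).2.2,
    hzp, g, hgQ, hgne⟩

/-- the part of a conjugate extraspecial subgroup inside the centraliser -/
def EC (z : G) (Q : Subgroup G) (g : G) : Subgroup (Subgroup.centralizer ({z} : Set G)) :=
  (Q.map (MulAut.conj g).toMonoidHom ⊓ Subgroup.centralizer ({z} : Set G)).subgroupOf _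

/-- its image -/
noncomputable def Frame.R (f : Frame z Q x) (g : G) : Subgroup PV := (EC z Q g).map f.π

theorem mem_EC {g : G} {c : Subgroup.centralizer ({z} : Set G)} :
    c ∈ EC z Q g ↔ (c : G) ∈ Q.map (MulAut.conj g).toMonoidHom :=
  ⟨fun h => h.1, fun h => ⟨h, c.2⟩⟩

namespace Frame

variable (f : Frame z Q x) (S : Setup z Q N x)

include S

theorem vec_ne {a : G} (ha : a ∈ Q) (h1 : a ≠ 1) (hz : a ≠ z) : f.vec a ≠ 0 := fun e => by
  rcases (f.vec_eq 1 (one_mem _) a ha).1 ((f.vec_one S).trans e.symm) with e' | e'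
  · exact h1 e'
  · exact hz (e'.trans (one_mul z))

theorem isI {a : G} (ha : a ∈ Q) (h2 : a * a = 1) (h1 : a ≠ 1) (hz : a ≠ z) : PI (f.vec a) :=
  (PI_iff _).2 ⟨f.vec_ne S ha h1 hz, (f.sq_iff a ha).1 h2⟩

theorem exact_conj {a b : G} (ha : a ∈ Q) (h1 : a ≠ 1) (hz : a ≠ z) (hb : b ∈ Q)
    (c : Subgroup.centralizer ({z} : Set G)) (e : f.π c (f.vec a) = f.vec b) :
    ∃ c' : Subgroup.centralizer ({z} : Set G), (c' : G) * a * (c' : G)⁻¹ = b ∧ f.π c' = f.π c := by
  have hcz : Commute (c : G) z := Subgroup.mem_centralizer_singleton_iff.1 c.2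
  have ha' := S.ord.normQ c hcz a ha
  rcases (f.vec_eq _ ha' b hb).1 ((f.vec_conj c a ha).trans e) with e' | e'
  · exact ⟨c, e'.symm, rfl⟩
  · obtain ⟨y, hy, hyn⟩ : ∃ y ∈ Q, ¬ Commute y ((c : G) * a * (c : G)⁻¹) := by
      by_contra hno
      push Not at hno
      rcases S.ord.xt.eq_of_cen _ ha' (fun q hq => (hno q hq).symm) with e'' | e''
      · exact h1 (conj_eq_one_iff.1 e'')
      · refine hz (mul_left_cancel (mul_right_cancel (e''.trans ?_)))
        rw [hcz.eq, mul_inv_cancel_right]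
    refine ⟨⟨y, S.mem_C hy⟩ * c, ?_, ?_⟩
    · show y * (c : G) * a * (y * (c : G))⁻¹ = b
      rw [show y * (c : G) * a * (y * (c : G))⁻¹ = y * ((c : G) * a * (c : G)⁻¹) * y⁻¹ by group,
        S.ord.xt.move hy ha' hyn, e']
    · rw [map_mul, (f.ker ⟨y, S.mem_C hy⟩).2 hy, one_mul]

theorem vecCard (A : Subgroup G) (hA : A ≤ Q) (hz : z ∈ A) :
    Nat.card A = 2 * (f.vec '' (A : Set G)).ncard := by
  let φ : A →* Multiplicative V6 :=
    { toFun := fun a => Multiplicative.ofAdd (f.vec a)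
      map_one' := by
        show Multiplicative.ofAdd (f.vec 1) = 1
        rw [f.vec_one S]; rfl
      map_mul' := fun a b => by
        show Multiplicative.ofAdd (f.vec ((a : G) * b)) = _
        rw [f.vec_mul a (hA a.2) b (hA b.2)]; rfl }
  have h1 := Subgroup.card_eq_card_quotient_mul_card_subgroup φ.ker
  have hk : φ.ker = (Subgroup.zpowers z).subgroupOf A := by
    ext a
    rw [MonoidHom.mem_ker, Subgroup.mem_subgroupOf]
    show Multiplicative.ofAdd (f.vec a) = 1 ↔ _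
    rw [← ofAdd_zero, Multiplicative.ofAdd.apply_eq_iff_eq, ← f.vec_one S, eq_comm,
      f.vec_eq 1 (one_mem _) a (hA a.2)]
    constructor
    · rintro (e | e) <;> rw [e]
      exacts [one_mem _, (one_mul z).symm ▸ Subgroup.mem_zpowers z]
    · rintro ⟨k, hk⟩
      obtain ⟨r, rfl | rfl⟩ := Int.even_or_odd' k
      · left
        rw [← hk]
        show z ^ (2 * r) = 1
        rw [zpow_mul, zpow_two, S.ord.xt.sq, one_zpow]
      · right
        rw [← hk]
        show z ^ (2 * r + 1) = 1 * z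
        rw [zpow_add, zpow_mul, zpow_two, S.ord.xt.sq, one_zpow, zpow_one]
  have hr : (f.vec '' (A : Set G)).ncard = Nat.card φ.range := by
    rw [← Nat.card_coe_set_eq]
    exact Nat.card_congr
      { toFun := fun v => ⟨Multiplicative.ofAdd v.1, by obtain ⟨a, ha, e⟩ := v.2; exact ⟨⟨a, ha⟩, by rw [← e]; rfl⟩⟩
        invFun := fun v => ⟨Multiplicative.toAdd v.1, by obtain ⟨a, e⟩ := v.2; exact ⟨a, a.2, by rw [← e]; rfl⟩⟩
        left_inv := fun _ => rfl
        right_inv := fun _ => rfl }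
  rw [Nat.card_congr (QuotientGroup.quotientKerEquivRange φ).toEquiv, ← hr, hk,
    Nat.card_congr (Subgroup.subgroupOfEquivOfLe (Subgroup.zpowers_le.2 hz)).toEquiv, Nat.card_zpowers, S.zord] at h1
  omega

end Frame

/-- the conjugate of the extraspecial subgroup -/
abbrev Qc (Q : Subgroup G) (g : G) : Subgroup G := Q.map (MulAut.conj g).toMonoidHom

theorem mem_Qc {g w : G} : w ∈ Qc Q g ↔ g⁻¹ * w * g ∈ Q := by
  rw [Subgroup.mem_map_equiv, MulAut.conj_symm_apply]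

theorem mem_Qc_one {w : G} : w ∈ Qc Q 1 ↔ w ∈ Q := by simp [mem_Qc]

theorem Qc_conj {g w : G} (c : G) (h : w ∈ Qc Q g) : c * w * c⁻¹ ∈ Qc Q (c * g) := by
  rw [mem_Qc] at h ⊢
  rwa [show (c * g)⁻¹ * (c * w * c⁻¹) * (c * g) = g⁻¹ * w * g by group]

variable (B : Big z Q N x)

include B

theorem Big.pair {g : G} (hgQ : g * z * g⁻¹ ∈ Q) (hne : g * z * g⁻¹ ≠ z) :
    Pair Q (Q.map (MulAut.conj g).toMonoidHom) z (g * z * g⁻¹) := by
  refine Large.exists_pair Q B.large z B.cen 6 (by norm_num) (by rw [B.base.ord.cardQ]) g (fun hg => hne ?_) hgQ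
  rw [(Subgroup.mem_centralizer_singleton_iff.1 hg), mul_inv_cancel_right]

theorem Big.ext2 : Solv.ExtTwo.Ext2 Q (⟨z, B.base.ord.xt.mem⟩ : Q) where
  ne e := B.base.ord.xt.ne (congrArg Subtype.val e)
  central g := Subtype.ext (B.base.ord.xt.cen g g.2).eq
  center g hg := (B.base.ord.xt.eq_of_cen g g.2 fun b hb => congrArg Subtype.val (hg ⟨b, hb⟩).eq).imp
    (fun e => Subtype.ext e) fun e => Subtype.ext e
  sq g := (B.base.ord.xt.sq_mem g.2).imp (fun e => Subtype.ext e) fun e => Subtype.ext e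
  comm a b := (B.base.ord.swap a.2 b.2).imp (fun e => Subtype.ext e) fun e => Subtype.ext e

theorem Big.card_inter_le {g : G} (hgQ : g * z * g⁻¹ ∈ Q) (hne : g * z * g⁻¹ ≠ z) :
    Nat.card (Q ⊓ Q.map (MulAut.conj g).toMonoidHom : Subgroup G) ≤ 2 ^ 7 := by
  have P := B.pair hgQ hne
  obtain ⟨hrk, -⟩ := Solv.ExtTwo.main.{u, 0} 6 (by norm_num) Q _ B.ext2 (by rw [B.base.ord.cardQ])
  have hA : Cfsg.IsElementaryAbelian 2 ((Q ⊓ Q.map (MulAut.conj g).toMonoidHom).subgroupOf Q) := by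
    refine ⟨⟨⟨fun a b => Subtype.ext (Subtype.ext ?_)⟩⟩, fun a ha => Subtype.ext ?_⟩
    · exact (P.inter_comm a.2 b.2).eq
    · show (a : G) ^ 2 = 1
      rw [pow_two]; exact P.inter_square ha
  have e := Nat.card_congr (Subgroup.subgroupOfEquivOfLe
    (inf_le_left : Q ⊓ Q.map (MulAut.conj g).toMonoidHom ≤ Q)).toEquiv
  rw [← e]
  rcases hrk with h | h <;> have := h.2 _ hA <;> norm_num at this ⊢ <;> omega

theorem Big.card_EC {g : G} (hgQ : g * z * g⁻¹ ∈ Q) (hne : g * z * g⁻¹ ≠ z) :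
    Nat.card (EC z Q g) = 4096 := by
  have P := B.pair hgQ hne
  set Q' := Q.map (MulAut.conj g).toMonoidHom with hQ'
  have hc : Nat.card Q' = 2 ^ 13 := by
    rw [hQ', Subgroup.card_map_of_injective (MulAut.conj g).injective, B.base.ord.cardQ]
  obtain ⟨p, hp, hpn⟩ := P.exists_mover'
  have hi : ((Subgroup.centralizer ({z} : Set G)).subgroupOf Q').index = 2 := by
    rw [Subgroup.index_eq_two_iff]
    refine ⟨⟨p, hp⟩, fun b => ?_⟩
    simp only [Subgroup.mem_subgroupOf, Subgroup.coe_mul, Subgroup.mem_centralizer_singleton_iff]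
    by_cases hb : Commute (b : G) z
    · refine Or.inr ⟨hb, fun h => hpn ?_⟩
      have := hb.inv_left.mul_left (show Commute ((b : G) * p) z from h)
      rwa [inv_mul_cancel_left] at this
    · refine Or.inl ⟨?_, hb⟩
      have := P.coset' (inv_mem b.2) hp (fun h => hb (by simpa using h.inv_left)) hpn
      rw [inv_inv] at this
      exact this
  have h1 := Subgroup.card_mul_index ((Subgroup.centralizer ({z} : Set G)).subgroupOf Q')
  rw [hi, hc] at h1
  have h2 : Nat.card (EC z Q g) = Nat.card ((Subgroup.centralizer ({z} : Set G)).subgroupOf Q') := by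
    rw [← Subgroup.inf_subgroupOf_left, Nat.card_congr (Subgroup.subgroupOfEquivOfLe inf_le_left).toEquiv, EC,
      Nat.card_congr (Subgroup.subgroupOfEquivOfLe inf_le_right).toEquiv]
  omega

variable (f : Frame z Q x)

theorem Big.card_R {g : G} (hgQ : g * z * g⁻¹ ∈ Q) (hne : g * z * g⁻¹ ≠ z) :
    Nat.card (f.R g) * Nat.card (Q ⊓ Q.map (MulAut.conj g).toMonoidHom : Subgroup G) = 4096 := by
  set φ := f.π.comp (EC z Q g).subtype with hφ
  have h := Subgroup.card_eq_card_quotient_mul_card_subgroup φ.ker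
  rw [B.card_EC hgQ hne, Nat.card_congr (QuotientGroup.quotientKerEquivRange φ).toEquiv, MonoidHom.range_comp,
    Subgroup.range_subtype] at h
  rw [h, Frame.R]
  congr 1
  refine Nat.card_congr
    { toFun := fun a => ⟨⟨⟨(a : G), B.base.mem_C a.2.1⟩, mem_EC.2 a.2.2⟩,
        MonoidHom.mem_ker.2 ((f.ker _).2 a.2.1)⟩
      invFun := fun k => ⟨((k.1.1 : Subgroup.centralizer ({z} : Set G)) : G),
        ⟨(f.ker _).1 (MonoidHom.mem_ker.1 k.2), mem_EC.1 k.1.2⟩⟩
      left_inv := fun _ => rfl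
      right_inv := fun _ => rfl }

theorem Big.R_large {g : G} (hgQ : g * z * g⁻¹ ∈ Q) (hne : g * z * g⁻¹ ≠ z) : 32 ≤ Nat.card (f.R g) := by
  have h1 := B.card_R f hgQ hne
  have h2 := B.card_inter_le hgQ hne
  by_contra hlt
  push Not at hlt
  have h3 : Nat.card (f.R g) * Nat.card (Q ⊓ Q.map (MulAut.conj g).toMonoidHom : Subgroup G) ≤ 31 * 128 :=
    Nat.mul_le_mul (by omega) (h2.trans (by norm_num))
  omega

theorem Big.R_two {g : G} (hgQ : g * z * g⁻¹ ∈ Q) (hne : g * z * g⁻¹ ≠ z) : IsPGroup 2 (f.R g) :=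
  (IsPGroup.of_card (n := 12) (by rw [B.card_EC hgQ hne]; norm_num)).map _

theorem Big.R_le {g : G} (hgQ : g * z * g⁻¹ ∈ Q) (hne : g * z * g⁻¹ ≠ z) :
    f.R g ≤ Gam ⊓ fixv (f.vec (g * z * g⁻¹)) := by
  have P := B.pair hgQ hne
  rintro _ ⟨e, he, rfl⟩
  refine ⟨(f.range _).2 ⟨e, rfl⟩, ?_⟩
  show f.π e ∈ fixv _
  rw [mem_fixv, ← f.vec_conj e _ hgQ, ← (P.xt'.cen e (mem_EC.1 he)).eq, mul_inv_cancel_right]

theorem Big.R_normal {g : G} (hgQ : g * z * g⁻¹ ∈ Q) (hne : g * z * g⁻¹ ≠ z) {p : PV}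
    (hp : p ∈ Gam ⊓ fixv (f.vec (g * z * g⁻¹))) : ∀ r ∈ f.R g, p * r * p⁻¹ ∈ f.R g := by
  obtain ⟨c, rfl⟩ := (f.range p).1 hp.1
  have P := B.pair hgQ hne
  obtain ⟨c', hc', hce⟩ := f.exact_conj B.base hgQ (fun e => B.base.ord.xt.ne (conj_eq_one_iff.1 e)) hne hgQ c hp.2
  rintro _ ⟨e, he, rfl⟩
  rw [← hce, ← map_inv, ← map_mul, ← map_mul]
  exact ⟨_, mem_EC.2 (P.norm' c' (mul_inv_eq_iff_eq_mul.1 hc') e (mem_EC.1 he)), rfl⟩

/-- conjugates of the involution lie over the shorter orbit -/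
theorem Big.PA_vec {g : G} (hgQ : g * z * g⁻¹ ∈ Q) (hne : g * z * g⁻¹ ≠ z) :
    PI (f.vec (g * z * g⁻¹)) ∧ PA (f.vec (g * z * g⁻¹)) := by
  have P := B.pair hgQ hne
  have hI := f.isI B.base hgQ P.xt'.sq P.xt'.ne hne
  refine ⟨hI, ?_⟩
  by_contra hA
  obtain ⟨p, hp, hpv⟩ := (trans hI).2 hA
  obtain ⟨c, hc⟩ := (f.range _).1 (Kp_le (inv_mem hp))
  have hcz : Commute (c : G) z := Subgroup.mem_centralizer_singleton_iff.1 c.2
  have e : (c : G) * g * z * ((c : G) * g)⁻¹ = (c : G) * (g * z * g⁻¹) * (c : G)⁻¹ := by group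
  have hgQ' : (c : G) * g * z * ((c : G) * g)⁻¹ ∈ Q := by rw [e]; exact B.base.ord.normQ c hcz _ hgQ
  have hne' : (c : G) * g * z * ((c : G) * g)⁻¹ ≠ z := fun h => hne (by
    rw [e] at h
    refine mul_left_cancel (mul_right_cancel (h.trans ?_))
    rw [hcz.eq, mul_inv_cancel_right])
  have hv : f.vec ((c : G) * g * z * ((c : G) * g)⁻¹) = vb := by
    rw [e, f.vec_conj c _ hgQ, hc, ← hpv, show p⁻¹ (p vb) = vb from p.symm_apply_apply vb]
  have h1 := B.R_large f hgQ' hne'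
  have h2 := two_B f.mdl (f.R ((c : G) * g)) (hv ▸ B.R_le f hgQ' hne') (B.R_two f hgQ' hne')
    fun k hk => B.R_normal f hgQ' hne' (hv.symm ▸ hk)
  omega

theorem Big.core {g : G} (hgQ : g * z * g⁻¹ ∈ Q) (hne : g * z * g⁻¹ ≠ z) (hv : f.vec (g * z * g⁻¹) = va) :
    f.R g = Gam ⊓ fixv va ⊓ BlockKer Dat.maskA ∧
      Nat.card (Q ⊓ Q.map (MulAut.conj g).toMonoidHom : Subgroup G) = 2 ^ 7 := by
  obtain ⟨h1, h2⟩ := two_A f.mdl (f.R g) (hv ▸ B.R_le f hgQ hne) (B.R_two f hgQ hne)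
    (fun k hk => B.R_normal f hgQ hne (hv.symm ▸ hk)) (B.R_large f hgQ hne)
  refine ⟨h1, ?_⟩
  have := B.card_R f hgQ hne
  rw [h2] at this
  omega

theorem Big.exists_va : ∃ g : G, g * z * g⁻¹ ∈ Q ∧ g * z * g⁻¹ ≠ z ∧ f.vec (g * z * g⁻¹) = va := by
  obtain ⟨g, hgQ, hne⟩ := B.nwc
  obtain ⟨hI, hA⟩ := B.PA_vec f hgQ hne
  obtain ⟨p, hp, hpv⟩ := (trans hI).1 hA
  obtain ⟨c, hc⟩ := (f.range _).1 (Kp_le (inv_mem hp))
  have hcz : Commute (c : G) z := Subgroup.mem_centralizer_singleton_iff.1 c.2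
  refine ⟨(c : G) * g, ?_⟩
  rw [show (c : G) * g * z * ((c : G) * g)⁻¹ = (c : G) * (g * z * g⁻¹) * (c : G)⁻¹ by group]
  refine ⟨B.base.ord.normQ c hcz _ hgQ, fun h => hne ?_, ?_⟩
  · refine mul_left_cancel (mul_right_cancel (h.trans ?_))
    rw [hcz.eq, mul_inv_cancel_right]
  · rw [f.vec_conj c _ hgQ, hc, ← hpv, show p⁻¹ (p va) = va from p.symm_apply_apply va]

omit B in
theorem fCond_of {v : V6} (h : ∀ r ∈ Gam ⊓ fixv va ⊓ BlockKer Dat.maskA, r v = v ∨ r v = v + va) :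
    Chk.fCond (code v) = true := by
  simp only [Chk.fCond, List.all_eq_true, Chk.kerC, List.mem_map]
  rintro _ ⟨w, hw, rfl⟩
  obtain ⟨hm, hc⟩ := ker_word_mem w hw
  rw [← hc, ← app_cols (Gam_addP hm.1.1)]
  rcases h _ hm with e | e
  · rw [e]
    show (Nat.beq (code v ^^^ code v) 0 || _) = true
    rw [Nat.xor_self]; rfl
  · rw [e, code_add, code_va]
    show (_ || Nat.beq ((code v ^^^ Chk.kA) ^^^ code v) Chk.kA) = true
    rw [Nat.xor_comm (code v) Chk.kA, Nat.xor_assoc, Nat.xor_self, Nat.xor_zero, Nat.beq_refl]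
    exact Bool.or_true _

omit B in
theorem fCond_count : ((List.range 4096).filter Chk.fCond).length = 64 ∧ Chk.fCond (Chk.app Chk.cW Chk.kA) = true := by
  have h := Chk.f_ok
  simp only [Chk.fOK, Bool.and_eq_true] at h
  exact ⟨Nat.eq_of_beq_eq_true h.1.1.1.1.1.1.1, h.1.1.1.1.1.1.2⟩

/-- the intersection of adjacent extraspecial subgroups as a set of vectors -/
theorem Big.inter_vec {g : G} (hgQ : g * z * g⁻¹ ∈ Q) (hne : g * z * g⁻¹ ≠ z) (hv : f.vec (g * z * g⁻¹) = va) :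
    f.vec '' ((Q ⊓ Qc Q g : Subgroup G) : Set G) = {v | Chk.fCond (code v) = true} := by
  have P := B.pair hgQ hne
  obtain ⟨hR, hW⟩ := B.core f hgQ hne hv
  refine Set.eq_of_subset_of_ncard_le ?_ (le_of_eq ?_) (Set.toFinite _)
  · rintro _ ⟨w, ⟨hwQ, hw⟩, rfl⟩
    refine fCond_of fun r hr => ?_
    obtain ⟨e, he, rfl⟩ : r ∈ f.R g := hR ▸ hr
    rw [← f.vec_conj e w hwQ]
    rcases P.xt'.comm e (mem_EC.1 he) w hw with h | h
    · exact Or.inl (congrArg f.vec h)
    · exact Or.inr (by rw [h, f.vec_mul w hwQ _ hgQ, hv])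
  · rw [count_code Chk.fCond fCond_count.1]
    have := f.vecCard B.base (Q ⊓ Qc Q g) inf_le_left ⟨B.base.ord.xt.mem, P.mem⟩
    rw [hW] at this
    omega

end Cfsg.Agent.Spor.JFour
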