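import Cfsg.Agent.Lib.Local.FS.SimpleM22
import Cfsg.Agent.Lib.Spor.MathieuTwentyTwoCentData
import Cfsg.Agent.Lib.Fusion.PConstrained

/-!
# The centraliser of an involution in M22
-/

set_option autoImplicit false
set_option maxRecDepth 100000
set_option maxHeartbeats 400000

namespace Cfsg.Agent.Spor.M22Cent

open Cfsg Cfsg.Agent.Local.FS.Mathieu

local notation "G22" => Subtype (fun x => x ∈ Cfsg.Spor.M22)

/-- the packed image list of an element -/
def lab (x : G22) : ℕ := code (x : Equiv.Perm GolayPt)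

theorem lab_mul (x y : G22) : lab (x * y) = pmul (lab x) (lab y) :=
  (congrArg code (Subgroup.coe_mul _ x y)).trans (code_mul _ _)

theorem lab_inj {x y : G22} (h : lab x = lab y) : x = y := Subtype.ext (code_injective h)

theorem code_one : code 1 = idC := by decide +kernel

theorem lab_one : lab 1 = idC := code_one

/-- the listed generators -/
def gen (i : ℕ) : G22 := m22Gens.getD i 1

theorem gl_ok : (m22Gens.map fun g : G22 => code g.1) = m22Cert.gl := by decide +kernel

theorem gli_ok : (m22Gens.map fun g : G22 => code g.1⁻¹) = m22Cert.gli := by decide +kernel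

theorem lab_gen (i : ℕ) : lab (gen i) = m22Cert.g i := by
  rw [Cert.g, ← gl_ok, lab, gen]
  rcases lt_or_ge i m22Gens.length with hlt | hge
  · rw [List.getD_eq_getElem _ _ hlt, List.getD_eq_getElem _ _ (by simpa using hlt), List.getElem_map]
  · rw [List.getD_eq_default _ _ hge, List.getD_eq_default _ _ (by simpa using hge),
      OneMemClass.coe_one, code_one]

theorem lab_gen_inv (i : ℕ) : lab (gen i)⁻¹ = m22Cert.gi i := by
  rw [Cert.gi, ← gli_ok, lab, gen, Subgroup.coe_inv]
  rcases lt_or_ge i m22Gens.length with hlt | hge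
  · rw [List.getD_eq_getElem _ _ hlt, List.getD_eq_getElem _ _ (by simpa using hlt), List.getElem_map]
  · rw [List.getD_eq_default _ _ hge, List.getD_eq_default _ _ (by simpa using hge),
      OneMemClass.coe_one, inv_one, code_one]

/-- the chosen involution -/
def invol : G22 := gen 13

/-- the generators of its centraliser -/
def centGens : List ℕ := [2, 3, 4, 5, 6]

/-- the packed elements of its centraliser -/
def centList : List ℕ :=
  mergeAll 12 ((layers (opMul (centGens.map m22Cert.g)) [idC] centKids).map fun x => [x])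

theorem cent_check :
    sortedB centList = true ∧ centList.length = 384 ∧
      (centGens.all fun i => pmul (m22Cert.g i) (m22Cert.g 13) == pmul (m22Cert.g 13) (m22Cert.g i)) = true ∧
      pmul (m22Cert.g 13) (m22Cert.g 13) = idC ∧ m22Cert.g 13 ≠ idC := by decide +kernel

theorem gen_mem_cent {i : ℕ} (hi : i ∈ centGens) :
    gen i ∈ Subgroup.centralizer ({invol} : Set G22) := by
  refine Subgroup.mem_centralizer_singleton_iff.2 (lab_inj ?_)
  rw [lab_mul, lab_mul, invol, lab_gen, lab_gen]
  exact beq_iff_eq.1 (List.all_eq_true.1 cent_check.2.2.1 i hi)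

theorem exists_of_centList {v : ℕ} (hv : v ∈ centList) :
    ∃ σ ∈ Subgroup.centralizer ({invol} : Set G22), lab σ = v := by
  obtain ⟨l, hl, hvl⟩ := List.mem_flatten.1 (mergeAll_subset _ _ v hv)
  obtain ⟨x, hx, rfl⟩ := List.mem_map.1 hl
  rw [List.mem_singleton.1 hvl]
  refine layers_all (P := fun x => ∃ σ ∈ Subgroup.centralizer ({invol} : Set G22), lab σ = x)
    (fun i x hx => ?_) _ _ (fun x hx => ?_) x hx
  · obtain ⟨σ, hσ, rfl⟩ := hx
    rcases lt_or_ge i centGens.length with hi | hi
    · refine ⟨gen centGens[i] * σ, mul_mem (gen_mem_cent (List.getElem_mem _)) hσ, ?_⟩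
      rw [lab_mul, lab_gen, opMul, List.getD_eq_getElem _ _ (by simpa using hi), List.getElem_map]
    · refine ⟨1 * σ, mul_mem (one_mem _) hσ, ?_⟩
      rw [lab_mul, lab_one, opMul, List.getD_eq_default _ _ (by simpa using hi)]
  · exact ⟨1, one_mem _, lab_one.trans (List.mem_singleton.1 hx).symm⟩

theorem exists_of_cList {v : ℕ} (hv : v ∈ m22Cert.cList) : ∃ y, IsConj invol y ∧ lab y = v := by
  obtain ⟨l, hl, hvl⟩ := List.mem_flatten.1 (mergeAll_subset _ _ v hv)
  obtain ⟨x, hx, rfl⟩ := List.mem_map.1 hl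
  rw [List.mem_singleton.1 hvl]
  refine layers_all (P := fun x => ∃ y, IsConj invol y ∧ lab y = x) (fun i x hx => ?_) _ _
    (fun x hx => ?_) x hx
  · obtain ⟨y, hy, rfl⟩ := hx
    refine ⟨gen i * (y * (gen i)⁻¹), hy.trans (isConj_iff.2 ⟨gen i, by group⟩), ?_⟩
    rw [lab_mul, lab_mul, lab_gen, lab_gen_inv]; rfl
  · exact ⟨invol, IsConj.refl _, (lab_gen 13).trans (List.mem_singleton.1 hx).symm⟩

attribute [local irreducible] Cert.cList centList lab invol gen pmul idC

theorem card_cent : Nat.card (Subgroup.centralizer ({invol} : Set G22)) = 384 := by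
  classical
  set C := Subgroup.centralizer ({invol} : Set G22) with hC
  have hclass : 1155 ≤ Nat.card {y // IsConj invol y} := by
    haveI : Finite {y // IsConj invol y} := Subtype.finite
    have h := m22_checkClass
    simp only [Cert.checkClass, Bool.and_eq_true, beq_iff_eq] at h
    have hnd : m22Cert.cList.Nodup := (nodup_of_sortedB h.1.1).imp fun h => ne_of_lt h
    rw [show (1155 : ℕ) = m22Cert.cList.length from h.1.2.symm, ← List.toFinset_card_of_nodup hnd,
      ← Nat.card_eq_finsetCard]
    choose y hy hy' using @exists_of_cList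
    refine Nat.card_le_card_of_injective
      (fun v : m22Cert.cList.toFinset => (⟨y (List.mem_toFinset.1 v.2), hy _⟩ : {y // IsConj invol y}))
      fun a b e => Subtype.ext ?_
    have e' := congrArg (fun s : {y // IsConj invol y} => lab s.1) e
    simpa only [hy'] using e'
  have horb : Nat.card (MulAction.orbit (ConjAct G22) invol) *
      Nat.card (MulAction.stabilizer (ConjAct G22) invol) = Nat.card G22 := by
    rw [← Nat.card_prod]
    exact Nat.card_congr (MulAction.orbitProdStabilizerEquivGroup (ConjAct G22) invol)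
  have e1 : Nat.card (MulAction.orbit (ConjAct G22) invol) = Nat.card {y // IsConj invol y} :=
    Nat.card_congr (Equiv.subtypeEquivRight fun y => by
      rw [ConjAct.mem_orbit_conjAct]; exact isConj_comm)
  have e2 : Nat.card (MulAction.stabilizer (ConjAct G22) invol) = Nat.card C := by
    rw [ConjAct.stabilizer_eq_centralizer]
    exact Nat.card_congr (Equiv.refl _)
  rw [e1, e2, card_m22] at horb
  have h2 : 384 ≤ Nat.card C := by
    have hnd : centList.Nodup := (nodup_of_sortedB cent_check.1).imp fun h => ne_of_lt h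
    rw [← cent_check.2.1, ← List.toFinset_card_of_nodup hnd, ← Nat.card_eq_finsetCard]
    choose σ hσ hσ' using @exists_of_centList
    refine Nat.card_le_card_of_injective
      (fun v : centList.toFinset => (⟨σ (List.mem_toFinset.1 v.2), hσ _⟩ : C))
      fun a b e => Subtype.ext ?_
    have e' := congrArg (fun s : C => lab s.1) e
    simpa only [hσ'] using e'
  have h3 : 1155 * Nat.card C ≤ 443520 := horb ▸ Nat.mul_le_mul_right _ hclass
  omega

theorem lab_mem_centList {σ : G22} (hσ : σ ∈ Subgroup.centralizer ({invol} : Set G22)) :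
    lab σ ∈ centList := by
  classical
  set C := Subgroup.centralizer ({invol} : Set G22) with hC
  have hnd : centList.Nodup := (nodup_of_sortedB cent_check.1).imp fun h => ne_of_lt h
  choose τ hτ hτ' using @exists_of_centList
  let f : centList.toFinset → C := fun v => ⟨τ (List.mem_toFinset.1 v.2), hτ _⟩
  have hf : Function.Injective f := fun a b e => Subtype.ext (by
    have e' := congrArg (fun s : C => lab s.1) e
    simpa only [f, hτ'] using e')
  have hb : Function.Bijective f := by
    refine (Nat.bijective_iff_injective_and_card f).2 ⟨hf, ?_⟩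
    rw [Nat.card_eq_finsetCard, List.toFinset_card_of_nodup hnd, cent_check.2.1, hC, card_cent]
  obtain ⟨v, hv⟩ := hb.2 ⟨σ, hσ⟩
  have e : lab (τ (List.mem_toFinset.1 v.2)) = lab σ := congrArg (fun s : C => lab s.1) hv
  rw [hτ'] at e
  exact e ▸ List.mem_toFinset.1 v.2

/-- a closed list of the centraliser is a subgroup -/
theorem exists_listSub {l : List ℕ} (hnd : l.Nodup) (h1 : idC ∈ l) (hsub : ∀ v ∈ l, v ∈ centList)
    (hmul : ∀ a ∈ l, ∀ b ∈ l, pmul a b ∈ l) :
    ∃ T : Subgroup G22, T ≤ Subgroup.centralizer ({invol} : Set G22) ∧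
      (∀ σ, σ ∈ T ↔ lab σ ∈ l) ∧ Nat.card T = l.length := by
  classical
  have hpow : ∀ σ : G22, lab σ ∈ l → ∀ n : ℕ, lab (σ ^ n) ∈ l := by
    intro σ hσ n
    induction n with
    | zero => rw [pow_zero, lab_one]; exact h1
    | succ n ih => rw [pow_succ, lab_mul]; exact hmul _ ih _ hσ
  let T : Subgroup G22 :=
    { carrier := {σ | lab σ ∈ l}
      one_mem' := by show lab 1 ∈ l; rw [lab_one]; exact h1
      mul_mem' := fun {a b} ha hb => by show lab (a * b) ∈ l; rw [lab_mul]; exact hmul _ ha _ hb
      inv_mem' := fun {a} ha => by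
        obtain ⟨n, hn⟩ := (isOfFinOrder_of_finite a).mem_powers_iff_mem_zpowers.2
          (inv_mem (Subgroup.mem_zpowers a))
        show lab a⁻¹ ∈ l
        rw [← hn]
        exact hpow a ha n }
  have hT : ∀ σ, σ ∈ T ↔ lab σ ∈ l := fun σ => Iff.rfl
  refine ⟨T, fun σ hσ => ?_, hT, ?_⟩
  · obtain ⟨τ, hτ, e⟩ := exists_of_centList (hsub _ ((hT σ).1 hσ))
    exact lab_inj e ▸ hτ
  · rw [← List.toFinset_card_of_nodup hnd, ← Nat.card_eq_finsetCard]
    refine Nat.card_congr (Equiv.ofBijective
      (fun σ : T => (⟨lab σ.1, List.mem_toFinset.2 ((hT _).1 σ.2)⟩ : l.toFinset)) ⟨?_, ?_⟩)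
    · intro a b e
      exact Subtype.ext (lab_inj (congrArg Subtype.val e))
    · rintro ⟨v, hv⟩
      obtain ⟨τ, -, e⟩ := exists_of_centList (hsub v (List.mem_toFinset.1 hv))
      exact ⟨⟨τ, (hT τ).2 (e ▸ List.mem_toFinset.1 hv)⟩, Subtype.ext e⟩

theorem invol_class_check :
    (centList.all fun x => !(pmul x x == idC) || x == idC || m22Cert.cList.contains x) = true := by
  decide +kernel

/-- M22 has one class of involutions -/
theorem invol_conj {t : G22} (ht : orderOf t = 2) : IsConj invol t := by
  classical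
  haveI : Fact (Nat.Prime 2) := ⟨Nat.prime_two⟩
  set C := Subgroup.centralizer ({invol} : Set G22) with hC
  obtain ⟨P, hP⟩ : ∃ P : Subgroup C, Nat.card P = 2 ^ 7 :=
    Sylow.exists_subgroup_card_pow_prime 2 (by rw [hC, card_cent]; norm_num)
  have hPc : Nat.card (P.map C.subtype) = 2 ^ (Nat.card G22).factorization 2 := by
    rw [Subgroup.card_map_of_injective C.subtype_injective, hP, card_m22]
    rw [show (443520 : ℕ).factorization 2 = 7 by
      rw [Nat.factorization_def _ Nat.prime_two, show (443520 : ℕ) = 2 ^ 7 * 3465 by norm_num,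
        padicValNat.mul (by norm_num) (by norm_num), padicValNat.prime_pow,
        padicValNat.eq_zero_of_not_dvd (by norm_num)]]
  let Q : Sylow 2 G22 := Sylow.ofCard (P.map C.subtype) hPc
  have hz : IsPGroup 2 (Subgroup.zpowers t) := IsPGroup.of_card (n := 1) (by
    rw [Nat.card_zpowers, ht, pow_one])
  obtain ⟨R, hR⟩ := hz.exists_le_sylow
  obtain ⟨w, hw⟩ := MulAction.exists_smul_eq G22 Q R
  have htR : t ∈ (R : Subgroup G22) := hR (Subgroup.mem_zpowers t)
  rw [← hw, Sylow.coe_subgroup_smul, Subgroup.mem_pointwise_smul_iff_inv_smul_mem] at htR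
  have hx : w⁻¹ * t * w ∈ P.map C.subtype := by
    simpa [Q, MulAut.smul_def, MulAut.conj_inv_apply] using htR
  have hxC : w⁻¹ * t * w ∈ C := Subgroup.map_subtype_le P hx
  set x := w⁻¹ * t * w with hxdef
  have htt : t * t = 1 := by rw [← pow_two, ← ht, pow_orderOf_eq_one]
  have hxx : x * x = 1 := by
    rw [hxdef, show w⁻¹ * t * w * (w⁻¹ * t * w) = w⁻¹ * (t * t) * w by group, htt]; group
  have hx1 : x ≠ 1 := fun h => by
    have : t = 1 := by rw [show t = w * x * w⁻¹ by rw [hxdef]; group, h]; group
    rw [this, orderOf_one] at ht; norm_num at ht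
  have h := List.all_eq_true.1 invol_class_check _ (lab_mem_centList hxC)
  simp only [Bool.or_eq_true, Bool.not_eq_eq_eq_not, Bool.not_true, beq_eq_false_iff_ne,
    beq_iff_eq, List.contains_iff_mem] at h
  rcases h with (h | h) | h
  · exact absurd (by rw [← lab_mul, hxx, lab_one]) h
  · exact absurd (lab_inj (h.trans lab_one.symm)) hx1
  · obtain ⟨y, hy, e⟩ := exists_of_cList h
    rw [lab_inj e] at hy
    exact hy.trans (isConj_iff.2 ⟨w, by rw [hxdef]; group⟩)

theorem core_check :
    sortedB coreList = true ∧ coreList.length = 64 ∧ idC ∈ coreList ∧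
      (coreList.all fun v => centList.contains v) = true ∧
      (coreList.all fun a => coreList.all fun b => coreList.contains (pmul a b)) = true ∧
      (centGens.all fun i => coreList.all fun a =>
        coreList.contains (opConj m22Cert.gl m22Cert.gli i a)) = true ∧
      (coreTest.all fun a => coreList.contains a) = true ∧
      (centList.all fun c => !(coreTest.all fun a => pmul c a == pmul a c) || coreList.contains c) = true := by
  decide +kernel

/-- A normal `2`-subgroup of the centraliser containing its own centraliser there. -/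
theorem exists_core : ∃ T : Subgroup G22, T ≤ Subgroup.centralizer ({invol} : Set G22) ∧
    IsPGroup 2 T ∧
    (∀ c ∈ Subgroup.centralizer ({invol} : Set G22), ∀ x ∈ T, c * x * c⁻¹ ∈ T) ∧
    ∀ c ∈ Subgroup.centralizer ({invol} : Set G22), (∀ x ∈ T, c * x = x * c) → c ∈ T := by
  classical
  obtain ⟨hs, hlen, h1, hsub, hmul, hnorm, htest, hcent⟩ := core_check
  simp only [List.all_eq_true, List.contains_iff_mem] at hsub hmul hnorm htest
  obtain ⟨T, hTC, hT, hcard⟩ := exists_listSub ((nodup_of_sortedB hs).imp fun h => ne_of_lt h) h1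
    hsub hmul
  refine ⟨T, hTC, IsPGroup.of_card (n := 6) (by rw [hcard, hlen]; norm_num), fun c hc x hx => ?_,
    fun c hc hcomm => ?_⟩
  · have hc' := lab_mem_centList hc
    unfold centList at hc'
    obtain ⟨l, hl, hvl⟩ := List.mem_flatten.1 (mergeAll_subset _ _ _ hc')
    obtain ⟨v, hv, rfl⟩ := List.mem_map.1 hl
    have hP : ∃ σ : G22, lab σ = v ∧ ∀ x ∈ T, σ * x * σ⁻¹ ∈ T := by
      refine layers_all (P := fun v => ∃ σ : G22, lab σ = v ∧ ∀ x ∈ T, σ * x * σ⁻¹ ∈ T)
        (fun i v hv => ?_) _ _ (fun v hv => ?_) v hv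
      · obtain ⟨σ, rfl, hσ⟩ := hv
        rcases lt_or_ge i centGens.length with hi | hi
        · refine ⟨gen centGens[i] * σ, ?_, fun x hx => ?_⟩
          · rw [lab_mul, lab_gen, opMul, List.getD_eq_getElem _ _ (by simpa using hi), List.getElem_map]
          · rw [show gen centGens[i] * σ * x * (gen centGens[i] * σ)⁻¹ =
              gen centGens[i] * (σ * x * σ⁻¹ * (gen centGens[i])⁻¹) by group, hT, lab_mul, lab_mul,
              lab_gen, lab_gen_inv]
            exact hnorm _ (List.getElem_mem _) _ ((hT _).1 (hσ x hx))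
        · refine ⟨1 * σ, ?_, fun x hx => by rw [one_mul]; exact hσ x hx⟩
          rw [lab_mul, lab_one, opMul, List.getD_eq_default _ _ (by simpa using hi)]
      · exact ⟨1, lab_one.trans (List.mem_singleton.1 hv).symm, fun x hx => by simpa using hx⟩
    obtain ⟨σ, e, hσ⟩ := hP
    obtain rfl : σ = c := lab_inj (e.trans (List.mem_singleton.1 hvl).symm)
    exact hσ x hx
  · rw [hT]
    have h := List.all_eq_true.1 hcent _ (lab_mem_centList hc)
    simp only [Bool.or_eq_true, List.contains_iff_mem] at h
    refine h.resolve_left fun hn => ?_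
    simp only [Bool.not_eq_eq_eq_not, Bool.not_true, List.all_eq_false, beq_iff_eq] at hn
    obtain ⟨a, ha, hna⟩ := hn
    obtain ⟨τ, -, rfl⟩ := exists_of_centList (hsub a (htest a ha))
    exact hna (by rw [← lab_mul, ← lab_mul, hcomm τ ((hT τ).2 (htest _ ha))])

/-- the centraliser of every involution is constrained -/
theorem constrained {t : G22} (ht : orderOf t = 2) :
    Subgroup.centralizer (pCore 2 (Subgroup.centralizer ({t} : Set G22)) : Set _) ≤
      pCore 2 (Subgroup.centralizer ({t} : Set G22)) := by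
  classical
  haveI : Fact (Nat.Prime 2) := ⟨Nat.prime_two⟩
  obtain ⟨k, hk⟩ := isConj_iff.1 (invol_conj ht)
  obtain ⟨T, hTC, hT2, hTn, hTc⟩ := exists_core
  set C := Subgroup.centralizer ({t} : Set G22) with hC
  have hiff : ∀ c, c ∈ C ↔ k⁻¹ * c * k ∈ Subgroup.centralizer ({invol} : Set G22) := by
    intro c
    rw [hC, Subgroup.mem_centralizer_singleton_iff, Subgroup.mem_centralizer_singleton_iff, ← hk]
    constructor
    · intro h
      calc k⁻¹ * c * k * invol = k⁻¹ * (c * (k * invol * k⁻¹)) * k := by group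
        _ = k⁻¹ * (k * invol * k⁻¹ * c) * k := by rw [h]
        _ = invol * (k⁻¹ * c * k) := by group
    · intro h
      calc c * (k * invol * k⁻¹) = k * (k⁻¹ * c * k * invol) * k⁻¹ := by group
        _ = k * (invol * (k⁻¹ * c * k)) * k⁻¹ := by rw [h]
        _ = k * invol * k⁻¹ * c := by group
  set U : Subgroup G22 := T.map (MulAut.conj k).toMonoidHom with hU
  have hUC : U ≤ C := by
    rintro _ ⟨x, hx, rfl⟩
    rw [hiff]
    simpa [MulAut.conj_apply, mul_assoc] using hTC hx
  have hUmem : ∀ x, x ∈ U ↔ k⁻¹ * x * k ∈ T := fun x => by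
    rw [hU, Subgroup.mem_map_equiv]
    simp [MulAut.conj_symm_apply]
  haveI : (U.subgroupOf C).Normal := ⟨fun x hx c => by
    rw [Subgroup.mem_subgroupOf, hUmem] at hx ⊢
    have := hTn _ ((hiff c).1 c.2) _ hx
    simpa [mul_assoc] using this⟩
  have hUp : IsPGroup 2 (U.subgroupOf C) :=
    (hT2.map _).of_equiv (Subgroup.subgroupOfEquivOfLe hUC).symm
  have hle : U.subgroupOf C ≤ pCore 2 C := Fusion.le_pCore hUp
  intro c hc
  refine hle (Subgroup.mem_subgroupOf.2 ((hUmem _).2 (hTc _ ((hiff c).1 c.2) fun x hx => ?_)))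
  have hxU : k * x * k⁻¹ ∈ U := ⟨x, hx, rfl⟩
  have hmem : (⟨k * x * k⁻¹, hUC hxU⟩ : C) ∈ pCore 2 C := hle (Subgroup.mem_subgroupOf.2 hxU)
  have h : k * x * k⁻¹ * (c : G22) = c * (k * x * k⁻¹) :=
    congrArg Subtype.val (Subgroup.mem_centralizer_iff.1 hc _ hmem)
  calc k⁻¹ * (c : G22) * k * x = k⁻¹ * ((c : G22) * (k * x * k⁻¹)) * k := by group
    _ = k⁻¹ * (k * x * k⁻¹ * c) * k := by rw [h]
    _ = x * (k⁻¹ * c * k) := by group

/-- the chosen element of order three -/
theorem three_check :
    centList.contains threeCode = true ∧ threeCode ≠ idC ∧ pmul threeCode (pmul threeCode threeCode) = idC ∧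
      ((centList.filter fun c => pmul c threeCode == pmul threeCode c).length = 12) ∧
      sortedB kleinList = true ∧ kleinList.length = 4 ∧ idC ∈ kleinList ∧
      (kleinList.all fun v => centList.contains v) = true ∧
      (kleinList.all fun a => kleinList.all fun b => kleinList.contains (pmul a b)) = true ∧
      (kleinList.all fun v => pmul v threeCode == pmul threeCode v) = true := by
  decide +kernel

theorem exists_three_aux : ∃ y : G22, lab y = threeCode ∧ y ∈ Subgroup.centralizer ({invol} : Set G22) ∧ orderOf y = 3 ∧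
    Nat.card {c : G22 // c ∈ Subgroup.centralizer ({invol} : Set G22) ∧ c * y = y * c} ≤ 12 ∧
    ∃ V : Subgroup G22, Nat.card V = 4 ∧ ∀ v ∈ V, v * y = y * v := by
  classical
  obtain ⟨hy, hne, hcube, hcount, hs, hlen, h1, hsub, hmul, hcomm⟩ := three_check
  obtain ⟨y, hyC, e⟩ := exists_of_centList (List.contains_iff_mem.1 hy)
  haveI : Fact (Nat.Prime 3) := ⟨Nat.prime_three⟩
  have h3 : orderOf y = 3 := orderOf_eq_prime (lab_inj (by
      rw [pow_three, lab_mul, lab_mul, lab_one, e, hcube]))
    fun h => hne (by rw [← e, h, lab_one])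
  refine ⟨y, e, hyC, h3, ?_, ?_⟩
  · rw [← hcount]
    refine le_trans ?_ (List.toFinset_card_le _)
    rw [← Nat.card_eq_finsetCard]
    refine Nat.card_le_card_of_injective (fun c => ⟨lab c.1, List.mem_toFinset.2
      (List.mem_filter.2 ⟨lab_mem_centList c.2.1, beq_iff_eq.2 (by rw [← e, ← lab_mul, ← lab_mul, c.2.2])⟩)⟩)
      fun a b h => Subtype.ext (lab_inj (congrArg Subtype.val h))
  · simp only [List.all_eq_true, List.contains_iff_mem] at hsub hmul
    obtain ⟨V, -, hV, hcard⟩ := exists_listSub ((nodup_of_sortedB hs).imp fun h => ne_of_lt h) h1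
      hsub hmul
    refine ⟨V, hcard.trans hlen, fun v hv => lab_inj ?_⟩
    rw [lab_mul, lab_mul, e]
    exact beq_iff_eq.1 (List.all_eq_true.1 hcomm _ ((hV v).1 hv))

theorem inverter_check :
    centList.contains invCode = true ∧
      pmul invCode threeCode = pmul (pmul threeCode threeCode) invCode := by
  decide +kernel

theorem exists_three : ∃ y : G22, y ∈ Subgroup.centralizer ({invol} : Set G22) ∧ orderOf y = 3 ∧
    Nat.card {c : G22 // c ∈ Subgroup.centralizer ({invol} : Set G22) ∧ c * y = y * c} ≤ 12 ∧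
    (∃ V : Subgroup G22, Nat.card V = 4 ∧ ∀ v ∈ V, v * y = y * v) ∧ IsConj y y⁻¹ := by
  obtain ⟨y, e, hyC, h3, hc, hV⟩ := exists_three_aux
  refine ⟨y, hyC, h3, hc, hV, ?_⟩
  obtain ⟨w, -, hw⟩ := exists_of_centList (List.contains_iff_mem.1 inverter_check.1)
  refine isConj_iff.2 ⟨w, ?_⟩
  have h : w * y = y * y * w := lab_inj (by rw [lab_mul, lab_mul, lab_mul, hw, e, inverter_check.2])
  have hy : y⁻¹ = y * y := by
    refine inv_eq_of_mul_eq_one_right ?_
    have := pow_orderOf_eq_one y
    rwa [h3, pow_three] at this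
  rw [h, hy]; group

end Cfsg.Agent.Spor.M22Cent
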