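import Cfsg.Agent.Lib.Spor.JFourElem
import Cfsg.Agent.Lib.Spor.JFourCentre
import Cfsg.Agent.Lib.Spor.MathieuTwentyTwoCent

/-!
Janko four type: the unique elementary abelian subgroup of order 2^11 of a Sylow 2-subgroup.
-/

set_option autoImplicit false
set_option maxRecDepth 100000
set_option linter.unusedSectionVars false

namespace Cfsg.Agent.Spor.JFour

open Cfsg.Agent.Spor.SUSix (V6)
open Cfsg.Agent.Spor.SpFour (F4)
open Cfsg.Agent.Small.Unitary (herm)

attribute [local irreducible] Gam Kp Chk.app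

local notation "G22" => Subtype (fun x => x ∈ Cfsg.Spor.M22)

universe u

/-- an elementary subgroup of the Sylow subgroup has at most 72 elements -/
theorem elem_card_le {E : Subgroup PV} (hT : E ≤ TS) (h2 : ∀ p ∈ E, p * p = 1) : Nat.card E ≤ 72 := by
  classical
  have hidx : ∀ p : E, ∃ o : Option (Fin 71),
      o.elim ((p : PV) = 1) (fun a => cols (p : PV) = Chk.inI a.val) := by
    intro p
    by_cases h1 : (p : PV) = 1
    · exact ⟨none, h1⟩
    · obtain ⟨a, ha, e⟩ := inv_index (hT p.2) (h2 p p.2) h1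
      exact ⟨some ⟨a, ha⟩, e⟩
  choose F hF using hidx
  refine le_of_le_of_eq (Nat.card_le_card_of_injective F fun p q e => Subtype.ext ?_) (by simp)
  have hp := hF p
  have hq := hF q
  rw [← e] at hq
  cases hFp : F p with
  | none =>
    rw [hFp] at hp hq
    exact (show (p : PV) = 1 from hp).trans (show (q : PV) = 1 from hq).symm
  | some a =>
    rw [hFp] at hp hq
    exact eq_of_cols (Gam_addP (TS_le (hT p.2))) (Gam_addP (TS_le (hT q.2)))
      ((show cols (p : PV) = _ from hp).trans (show cols (q : PV) = _ from hq).symm)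

variable {G : Type u} [Group G] [Finite G] {z : G} {Q N : Subgroup G} {x : G}

theorem card_split (f : Frame z Q x) (H : Subgroup (Subgroup.centralizer ({z} : Set G))) :
    Nat.card H = Nat.card (H.map f.π) * Nat.card (H ⊓ f.π.ker : Subgroup (Subgroup.centralizer ({z} : Set G))) := by
  set φ := f.π.comp H.subtype with hφ
  have h := Subgroup.card_eq_card_quotient_mul_card_subgroup φ.ker
  rw [Nat.card_congr (QuotientGroup.quotientKerEquivRange φ).toEquiv, MonoidHom.range_comp,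
    Subgroup.range_subtype] at h
  rw [h]
  congr 1
  exact Nat.card_congr
    { toFun := fun c => ⟨c.1.1, c.1.2, MonoidHom.mem_ker.1 c.2⟩
      invFun := fun c => ⟨⟨c.1, c.2.1⟩, MonoidHom.mem_ker.2 c.2.2⟩
      left_inv := fun _ => rfl
      right_inv := fun _ => rfl }

variable (S : Big z Q N x) (f : Frame z Q x)

/-- the part in the extraspecial subgroup -/
def AQs (S : Big z Q N x) (f : Frame z Q x) : Subgroup (Subgroup.centralizer ({z} : Set G)) where
  carrier := {c | (c : G) ∈ Q ∧ f.vec (c : G) ∈ FS}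
  one_mem' := ⟨one_mem Q, fun p hp => by
    rw [show ((1 : Subgroup.centralizer ({z} : Set G)) : G) = 1 from rfl, f.vec_one S.base]
    exact (Gam_addP (TS_le (ES_le hp))).map_zero⟩
  mul_mem' {a b} ha hb := ⟨mul_mem ha.1 hb.1, fun p hp => by
    rw [Subgroup.coe_mul, f.vec_mul _ ha.1 _ hb.1, Gam_addP (TS_le (ES_le hp)), ha.2 p hp, hb.2 p hp]⟩
  inv_mem' {a} ha := ⟨inv_mem ha.1, by rw [Subgroup.coe_inv, f.vec_inv S.base ha.1]; exact ha.2⟩

/-- the lifts commuting with the element of order three -/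
def AHs (S : Big z Q N x) (f : Frame z Q x) : Subgroup (Subgroup.centralizer ({z} : Set G)) :=
  Kx S.base ⊓ ES.comap f.π

include S f

/-- a fixed vector gives commuting elements -/
theorem Big.sign {c : Subgroup.centralizer ({z} : Set G)} (hcx : Commute c S.base.xC) {q : G} (hq : q ∈ Q)
    (hfix : f.π c (f.vec q) = f.vec q) : Commute (c : G) q := by
  have hxz : Commute x z := S.base.ord.xz
  have hcz : Commute (c : G) z := Subgroup.mem_centralizer_singleton_iff.1 c.2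
  have hcx' : Commute (c : G) x := congrArg Subtype.val hcx.eq
  rcases (f.vec_eq q hq _ (S.base.ord.normQ c hcz q hq)).1 ((f.vec_conj c q hq).trans hfix).symm with e | e
  · exact mul_inv_eq_iff_eq_mul.1 e
  exfalso
  set σ := fun a : G => x * a * x⁻¹ with hσ
  have hcσ : ∀ a, (c : G) * σ a * (c : G)⁻¹ = σ ((c : G) * a * (c : G)⁻¹) := fun a => by
    calc (c : G) * (x * a * x⁻¹) * (c : G)⁻¹ = ((c : G) * x) * a * ((c : G) * x)⁻¹ := by group
      _ = (x * c) * a * (x * (c : G))⁻¹ := by rw [hcx'.eq]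
      _ = _ := by simp [hσ, mul_assoc]
  have hσz : ∀ a, σ (a * z) = σ a * z := fun a => by
    show x * (a * z) * x⁻¹ = x * a * x⁻¹ * z
    rw [← conj_mul, hxz.eq, mul_inv_cancel_right]
  have hσQ : ∀ a ∈ Q, σ a ∈ Q := fun a ha => S.base.ord.normQ x hxz a ha
  have e1 : (c : G) * σ q * (c : G)⁻¹ = σ q * z := by rw [hcσ, e, hσz]
  have e2 : (c : G) * σ (σ q) * (c : G)⁻¹ = σ (σ q) * z := by rw [hcσ, e1, hσz]
  set m := q * σ q * σ (σ q) with hm
  have hq1 := hσQ q hq
  have hm0 : f.vec m = 0 := by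
    rw [hm, f.vec_mul _ (mul_mem hq hq1) _ (hσQ _ hq1), f.vec_mul q hq _ hq1]
    show f.vec q + f.vec (x * q * x⁻¹) + f.vec (x * (x * q * x⁻¹) * x⁻¹) = 0
    rw [f.vec_xc S.base hq1, f.vec_xc S.base hq]
    have key : ∀ a : F4, a + F4.w * a + F4.w * (F4.w * a) = 0 := by decide +kernel
    exact funext fun i => key _
  have hmc : (c : G) * m * (c : G)⁻¹ = m := by
    rcases (f.vec_eq 1 (one_mem _) m (mul_mem (mul_mem hq hq1) (hσQ _ hq1))).1
      ((f.vec_one S.base).trans hm0.symm) with e' | e' <;> rw [e']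
    · rw [mul_one, mul_inv_cancel]
    · rw [one_mul, hcz.eq, mul_inv_cancel_right]
  have hz1 : Commute z (σ q) := S.base.ord.xt.cen _ hq1
  have hz2 : Commute z (σ (σ q)) := S.base.ord.xt.cen _ (hσQ _ hq1)
  have : (c : G) * m * (c : G)⁻¹ = m * z := by
    rw [hm, ← conj_mul, ← conj_mul, e, e1, e2]
    calc q * z * (σ q * z) * (σ (σ q) * z) = q * (z * σ q) * (z * σ (σ q)) * z := by group
      _ = q * (σ q * z) * (z * σ (σ q)) * z := by rw [hz1.eq]
      _ = q * σ q * (z * z) * σ (σ q) * z := by group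
      _ = _ := by rw [S.base.ord.xt.sq, mul_one]
  rw [hmc] at this
  exact S.base.ord.xt.ne (mul_eq_left.1 this.symm)

/-- lifts of involutions commuting with the element of order three are involutions -/
theorem Big.lift_sq {c : Subgroup.centralizer ({z} : Set G)} (hcx : Commute c S.base.xC)
    (h2 : f.π c * f.π c = 1) : c * c = 1 := by
  by_cases h1 : f.π c = 1
  · rcases S.ker f ((f.ker c).1 h1) (congrArg Subtype.val hcx.eq) with e | e <;> refine Subtype.ext ?_ <;>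
      show (c : G) * c = 1 <;> rw [e]
    · exact one_mul 1
    · exact S.base.ord.xt.sq
  obtain ⟨u, ⟨m, hm⟩, huz, hux, hune⟩ := S.exists_u f
  have hu2 : u * u = 1 := hm ▸ (S.xtc m).sq
  set uC : Subgroup.centralizer ({z} : Set G) := ⟨u, Subgroup.mem_centralizer_singleton_iff.2 huz⟩ with huC
  have huK : Commute uC S.base.xC := Subtype.ext hux
  have huπ2 : f.π uC * f.π uC = 1 := by rw [← map_mul, show uC * uC = 1 from Subtype.ext hu2, map_one]
  have huπ1 : f.π uC ≠ 1 := fun e => S.not_Q f hux ((f.ker uC).1 e) (hm ▸ (S.xtc m).ne) hune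
  obtain ⟨ψ, O⟩ := f.mdl
  have hord : ∀ p : Kp, (p : PV) * p = 1 → (p : PV) ≠ 1 → orderOf (ψ p) = 2 := by
    intro p hp hp1
    haveI : Fact (Nat.Prime 2) := ⟨Nat.prime_two⟩
    refine orderOf_eq_prime (by rw [← map_pow, show p ^ 2 = 1 from Subtype.ext (by rw [pow_two]; exact hp), map_one])
      fun e => hp1 ?_
    obtain ⟨i, hi⟩ := (O.ker p).1 e
    have h3 : (p : PV) ^ 3 = 1 := by
      rw [← show gW ^ i = (p : PV) from hi, ← zpow_natCast, ← zpow_mul, mul_comm, zpow_mul, zpow_natCast,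
        gW_facts.1, one_zpow]
    rwa [pow_succ, pow_two, hp, one_mul] at h3
  set e := f.π c with he
  have heK : e ∈ Kp := S.Kp_of_comm f hcx
  have huK' : f.π uC ∈ Kp := S.Kp_of_comm f huK
  obtain ⟨k, hk⟩ := isConj_iff.1 ((M22Cent.invol_conj (hord ⟨_, huK'⟩ huπ2 huπ1)).symm.trans
    (M22Cent.invol_conj (hord ⟨e, heK⟩ h2 h1)))
  obtain ⟨k', rfl⟩ := O.surj k
  obtain ⟨kC, hkC, hkπ⟩ := S.lift f k'.2
  have heq : f.π (kC * uC * kC⁻¹) = e := by
    have h := Onto.unique Kp_le_LinG O (a := k' * ⟨_, huK'⟩ * k'⁻¹) (b := ⟨e, heK⟩) (n := 2)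
      (by rw [map_mul, map_mul, map_inv]; exact hk) (by
        show ((k' : PV) * f.π uC * (k' : PV)⁻¹) ^ 2 = 1
        rw [conj_pow, pow_two, huπ2, mul_one, mul_inv_cancel]) (by rw [pow_two]; exact h2) (by norm_num)
    rw [map_mul, map_mul, map_inv, hkπ]
    exact h
  set c0 := kC * uC * kC⁻¹ with hc0
  have hc0x : Commute c0 S.base.xC := (hkC.mul_left huK).mul_left hkC.inv_left
  have hc0sq : c0 * c0 = 1 := by
    rw [hc0, conj_mul, show uC * uC = 1 from Subtype.ext hu2, mul_one, mul_inv_cancel]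
  have hd : ((c0⁻¹ * c : Subgroup.centralizer ({z} : Set G)) : G) ∈ Q :=
    (f.ker _).1 (by rw [map_mul, map_inv, heq, inv_mul_cancel])
  rcases S.ker f hd (congrArg Subtype.val (hc0x.inv_left.mul_left hcx).eq) with h | h
  · rwa [show c = c0 from (inv_mul_eq_one.1 (Subtype.ext h : c0⁻¹ * c = 1)).symm]
  · have hc : c = c0 * ⟨z, S.base.zmem⟩ := eq_mul_of_inv_mul_eq (Subtype.ext h)
    have hcom : Commute (⟨z, S.base.zmem⟩ : Subgroup.centralizer ({z} : Set G)) c0 :=
      Subtype.ext (Subgroup.mem_centralizer_singleton_iff.1 c0.2).symm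
    rw [hc, hcom.mul_mul_mul_comm, hc0sq, one_mul]
    exact Subtype.ext S.base.ord.xt.sq

theorem Big.AQ_sq {a : Subgroup.centralizer ({z} : Set G)} (ha : a ∈ AQs S f) : a * a = 1 :=
  Subtype.ext ((f.sq_iff _ ha.1).2 (FS_facts.2.2.1 _ ha.2))

theorem Big.AH_sq {c : Subgroup.centralizer ({z} : Set G)} (hc : c ∈ AHs S f) : c * c = 1 :=
  S.lift_sq f (mem_Kx.1 hc.1) (ES_sq hc.2)

omit S f in
theorem comm_of_sq {H : Type u} [Group H] {a b : H} (ha : a * a = 1) (hb : b * b = 1)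
    (hab : a * b * (a * b) = 1) : Commute a b := by
  show a * b = b * a
  conv_lhs => rw [eq_inv_of_mul_eq_one_left hab]
  rw [mul_inv_rev, inv_eq_of_mul_eq_one_right ha, inv_eq_of_mul_eq_one_right hb]

theorem Big.AQ_AH {a c : Subgroup.centralizer ({z} : Set G)} (ha : a ∈ AQs S f) (hc : c ∈ AHs S f) :
    Commute c a :=
  Subtype.ext (S.sign f (mem_Kx.1 hc.1) ha.1 (ha.2 _ hc.2)).eq

theorem Big.card_AQ : Nat.card (AQs S f) = 2 ^ 7 := by
  set A := (AQs S f).map (Subgroup.centralizer ({z} : Set G)).subtype with hA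
  have hAQ : A ≤ Q := by rintro _ ⟨a, ha, rfl⟩; exact ha.1
  have hz : z ∈ A := ⟨⟨z, S.base.zmem⟩, ⟨S.base.ord.xt.mem, fun p hp => by
    show p (f.vec z) = f.vec z
    rw [f.vec_z S.base]; exact (Gam_addP (TS_le (ES_le hp))).map_zero⟩, rfl⟩
  have h := f.vecCard S.base A hAQ hz
  rw [hA, Subgroup.card_map_of_injective (Subgroup.subtype_injective _)] at h
  have e : f.vec '' (A : Set G) = FS := by
    refine Set.Subset.antisymm (by rintro _ ⟨_, ⟨a, ha, rfl⟩, rfl⟩; exact ha.2) fun v hv => ?_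
    obtain ⟨q, hq, rfl⟩ := f.vec_surj v
    exact ⟨q, ⟨⟨q, S.base.mem_C hq⟩, ⟨hq, hv⟩, rfl⟩, rfl⟩
  rw [h, ← hA, e, FS_facts.2.1]
  norm_num

/-- the largest elementary abelian subgroup over the chosen one -/
theorem Big.exists_max : ∃ A : Subgroup (Subgroup.centralizer ({z} : Set G)),
    Cfsg.IsElementaryAbelian 2 A ∧ Nat.card A = 2 ^ 11 ∧ A ≤ TS.comap f.π ∧
      A.map f.π = ES ∧ A ⊓ f.π.ker = AQs S f ∧
      (∀ r, r ∈ A ↔ ∃ a ∈ AQs S f, ∃ c ∈ AHs S f, r = a * c) ∧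
      ∀ B : Subgroup (Subgroup.centralizer ({z} : Set G)), B ≤ TS.comap f.π → Cfsg.IsElementaryAbelian 2 B →
        2 ^ 11 ≤ Nat.card B → B = A := by
  set AQ := AQs S f with hAQ
  set H := AHs S f with hH
  have hcH : ∀ c ∈ H, ∀ a ∈ AQ, Commute c a := fun c hc a ha => S.AQ_AH f ha hc
  have hcQ : ∀ a ∈ AQ, ∀ b ∈ AQ, Commute a b := fun a ha b hb =>
    comm_of_sq (S.AQ_sq f ha) (S.AQ_sq f hb) (S.AQ_sq f (mul_mem ha hb))
  have hcHH : ∀ a ∈ H, ∀ b ∈ H, Commute a b := fun a ha b hb =>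
    comm_of_sq (S.AH_sq f ha) (S.AH_sq f hb) (S.AH_sq f (mul_mem ha hb))
  let A : Subgroup (Subgroup.centralizer ({z} : Set G)) :=
    { carrier := {r | ∃ a ∈ AQ, ∃ c ∈ H, r = a * c}
      one_mem' := ⟨1, one_mem _, 1, one_mem _, (one_mul 1).symm⟩
      inv_mem' := fun {r} ⟨a, ha, c, hc, e⟩ => ⟨a⁻¹, inv_mem ha, c⁻¹, inv_mem hc, by
        rw [e, mul_inv_rev, (hcH c hc a ha).inv_inv.eq]⟩
      mul_mem' := fun {r r'} ⟨a, ha, c, hc, e⟩ ⟨a', ha', c', hc', e'⟩ => ⟨a * a', mul_mem ha ha', c * c',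
        mul_mem hc hc', by rw [e, e', (hcH c hc a' ha').mul_mul_mul_comm]⟩ }
  have hAe : Cfsg.IsElementaryAbelian 2 A := by
    refine ⟨⟨⟨fun r r' => Subtype.ext ?_⟩⟩, ?_⟩
    · obtain ⟨a, ha, c, hc, e⟩ := r.2
      obtain ⟨a', ha', c', hc', e'⟩ := r'.2
      show (r : Subgroup.centralizer ({z} : Set G)) * r' = r' * r
      rw [e, e']
      exact ((hcQ a ha a' ha').mul_right (hcH c' hc' a ha).symm).mul_left
        ((hcH c hc a' ha').mul_right (hcHH c hc c' hc'))
    · rintro _ ⟨a, ha, c, hc, rfl⟩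
      rw [pow_two, (hcH c hc a ha).mul_mul_mul_comm, S.AQ_sq f ha, S.AH_sq f hc, one_mul]
  have hAmap : A.map f.π = ES := by
    refine le_antisymm ?_ fun e he => ?_
    · rintro _ ⟨_, ⟨a, ha, c, hc, rfl⟩, rfl⟩
      rw [map_mul, (f.ker a).2 ha.1, one_mul]
      exact hc.2
    · obtain ⟨c, hc, rfl⟩ := S.lift f (ES_Kp he)
      exact ⟨1 * c, ⟨1, one_mem _, c, ⟨mem_Kx.2 hc, he⟩, rfl⟩, by rw [one_mul]⟩
  have hker : A ⊓ f.π.ker = AQ := by
    refine le_antisymm ?_ fun a ha => ⟨⟨a, ha, 1, one_mem _, (mul_one a).symm⟩, (f.ker a).2 ha.1⟩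
    rintro r ⟨⟨a, ha, c, hc, rfl⟩, hk⟩
    refine mul_mem ha ?_
    have h1 : f.π c = 1 := by
      have := MonoidHom.mem_ker.1 hk
      rwa [map_mul, (f.ker a).2 ha.1, one_mul] at this
    refine ⟨(f.ker c).1 h1, ?_⟩
    rcases S.ker f ((f.ker c).1 h1) (congrArg Subtype.val (mem_Kx.1 hc.1).eq) with e | e <;> rw [e]
    · exact fun p hp => by rw [f.vec_one S.base]; exact (Gam_addP (TS_le (ES_le hp))).map_zero
    · exact fun p hp => by rw [f.vec_z S.base]; exact (Gam_addP (TS_le (ES_le hp))).map_zero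
  have hAcard : Nat.card A = 2 ^ 11 := by
    rw [card_split f A, hAmap, hker, S.card_AQ f, card_ES]; norm_num
  refine ⟨A, hAe, hAcard, fun r hr => ES_le (hAmap ▸ ⟨r, hr, rfl⟩), hAmap, hker, fun r => Iff.rfl,
    fun B hBT hB hBc => ?_⟩
  -- uniqueness
  set E := B.map f.π with hE'
  have hBcomm : ∀ a ∈ B, ∀ b ∈ B, Commute a b := fun a ha b hb =>
    congrArg Subtype.val (hB.1.is_comm.comm (⟨a, ha⟩ : B) ⟨b, hb⟩)
  have hBsq : ∀ a ∈ B, a * a = 1 := fun a ha => by rw [← pow_two]; exact hB.2 a ha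
  have hET : E ≤ TS := Subgroup.map_le_iff_le_comap.2 hBT
  have hEc : ∀ p ∈ E, ∀ q ∈ E, Commute p q := by
    rintro _ ⟨a, ha, rfl⟩ _ ⟨b, hb, rfl⟩
    exact (hBcomm a ha b hb).map _
  have hE2 : ∀ p ∈ E, p * p = 1 := by
    rintro _ ⟨a, ha, rfl⟩
    rw [← map_mul, hBsq a ha, map_one]
  set BQ := (B ⊓ f.π.ker).map (Subgroup.centralizer ({z} : Set G)).subtype with hBQ
  have hBQc : Nat.card BQ = Nat.card (B ⊓ f.π.ker : Subgroup (Subgroup.centralizer ({z} : Set G))) :=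
    Subgroup.card_map_of_injective (Subgroup.subtype_injective _)
  have hBQQ : BQ ≤ Q := by rintro _ ⟨a, ha, rfl⟩; exact (f.ker a).1 ha.2
  have hBQ7 : Nat.card BQ ≤ 2 ^ 7 := by
    obtain ⟨hrk, -⟩ := Solv.ExtTwo.main.{u, 0} 6 (by norm_num) Q _ S.ext2 (by rw [S.base.ord.cardQ])
    have hEl : Cfsg.IsElementaryAbelian 2 (BQ.subgroupOf Q) := by
      refine ⟨⟨⟨fun a b => Subtype.ext (Subtype.ext ?_)⟩⟩, fun a ha => Subtype.ext ?_⟩
      · obtain ⟨a', ha', ea⟩ := a.2
        obtain ⟨b', hb', eb⟩ := b.2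
        show ((a : Q) : G) * ((b : Q) : G) = ((b : Q) : G) * ((a : Q) : G)
        rw [show ((a : Q) : G) = (a' : G) from ea.symm, show ((b : Q) : G) = (b' : G) from eb.symm]
        exact congrArg Subtype.val (hBcomm a' ha'.1 b' hb'.1).eq
      · obtain ⟨a', ha', ea⟩ := ha
        show (a : G) ^ 2 = 1
        rw [show (a : G) = (a' : G) from ea.symm, pow_two]
        exact congrArg Subtype.val (hBsq a' ha'.1)
    rw [← Nat.card_congr (Subgroup.subgroupOfEquivOfLe hBQQ).toEquiv]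
    rcases hrk with h | h <;> exact le_trans (h.2 _ hEl) (by norm_num)
  have hsplit := card_split f B
  rw [← hE', ← hBQc] at hsplit
  have hfix : ∀ q ∈ BQ, f.vec q ∈ fixS E := by
    rintro _ ⟨a, ha, rfl⟩ _ ⟨b, hb, rfl⟩
    show f.π b (f.vec (a : G)) = f.vec (a : G)
    rw [← f.vec_conj b (a : G) ((f.ker a).1 ha.2)]
    congr 1
    exact congrArg Subtype.val (show b * a * b⁻¹ = a by rw [(hBcomm b hb a ha.1).eq, mul_inv_cancel_right])
  have hE16 : 16 ≤ Nat.card E := by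
    by_contra hlt
    push Not at hlt
    have := Nat.mul_le_mul (Nat.le_of_lt_succ hlt) hBQ7
    omega
  have hES : E = ES := by
    by_contra hne
    have h8 := few_fixed f.mdl hET hEc hE2 hE16 hne
    have hBQ16 : Nat.card BQ ≤ 16 := by
      let F : Subgroup G :=
        { carrier := {q | q ∈ Q ∧ f.vec q ∈ fixS E}
          one_mem' := ⟨one_mem _, fun p hp => by
            rw [f.vec_one S.base]; exact (Gam_addP (TS_le (hET hp))).map_zero⟩
          mul_mem' := fun {a b} ha hb => ⟨mul_mem ha.1 hb.1, fun p hp => by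
            rw [f.vec_mul a ha.1 b hb.1, Gam_addP (TS_le (hET hp)), ha.2 p hp, hb.2 p hp]⟩
          inv_mem' := fun {a} ha => ⟨inv_mem ha.1, by rw [f.vec_inv S.base ha.1]; exact ha.2⟩ }
      have h1 := f.vecCard S.base F (fun q hq => hq.1) ⟨S.base.ord.xt.mem, fun p hp => by
        rw [f.vec_z S.base]; exact (Gam_addP (TS_le (hET hp))).map_zero⟩
      have h2 := Set.ncard_le_ncard (show f.vec '' (F : Set G) ⊆ fixS E by rintro _ ⟨q, hq, rfl⟩; exact hq.2)
        (Set.toFinite _)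
      have h3 := Subgroup.card_le_of_le (show BQ ≤ F from fun q hq => ⟨hBQQ hq, hfix q hq⟩)
      omega
    have h1 := Nat.mul_le_mul (elem_card_le hET hE2) hBQ16
    omega
  have hBQfull : 2 ^ 7 ≤ Nat.card BQ := by
    rw [hES, card_ES] at hsplit
    norm_num at hBc ⊢
    omega
  have hBQeq : B ⊓ f.π.ker = AQ := by
    refine Subgroup.eq_of_le_of_card_ge (fun a ha => ⟨(f.ker a).1 ha.2, ?_⟩)
      (by rw [hAQ, S.card_AQ f, ← hBQc]; exact hBQfull)
    have h := hfix _ ⟨a, ha, rfl⟩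
    rwa [hES] at h
  refine Subgroup.eq_of_le_of_card_ge (fun b hb => ?_) (hAcard ▸ hBc)
  have hbE : f.π b ∈ ES := hES ▸ ⟨b, hb, rfl⟩
  obtain ⟨c, hc, hcb⟩ := S.lift f (ES_Kp hbE)
  have hcH' : c ∈ H := ⟨mem_Kx.2 hc, show f.π c ∈ ES from hcb ▸ hbE⟩
  have hq : ((b * c⁻¹ : Subgroup.centralizer ({z} : Set G)) : G) ∈ Q :=
    (f.ker (b * c⁻¹)).1 (by rw [map_mul, map_inv, hcb, mul_inv_cancel])
  refine ⟨b * c⁻¹, ⟨hq, FS_facts.2.2.2 _ fun v hv => ?_⟩, c, hcH', (inv_mul_cancel_right b c).symm⟩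
  obtain ⟨q, hqQ, rfl⟩ := f.vec_surj v
  have ha : (⟨q, S.base.mem_C hqQ⟩ : Subgroup.centralizer ({z} : Set G)) ∈ AQ := ⟨hqQ, hv⟩
  have hcm : Commute (b * c⁻¹) ⟨q, S.base.mem_C hqQ⟩ :=
    (hBcomm b hb _ ((hBQeq.ge ha).1)).mul_left (hcH c hcH' _ ha).inv_left
  exact f.comm_bv S.base hq hqQ (congrArg Subtype.val hcm.eq)

/-- a Sylow subgroup of the centraliser -/
theorem Big.sylow_C : ∃ P : Sylow 2 (Subgroup.centralizer ({z} : Set G)),
    (P : Subgroup (Subgroup.centralizer ({z} : Set G))) = TS.comap f.π := by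
  haveI : Fact (Nat.Prime 2) := ⟨Nat.prime_two⟩
  have hker : Nat.card (TS.comap f.π ⊓ f.π.ker : Subgroup (Subgroup.centralizer ({z} : Set G))) = 2 ^ 13 := by
    rw [inf_eq_right.2 (show f.π.ker ≤ TS.comap f.π from fun c hc => by
      show f.π c ∈ TS; rw [MonoidHom.mem_ker.1 hc]; exact one_mem _), ← S.base.ord.cardQ]
    exact Nat.card_congr
      { toFun := fun c => ⟨((c.1 : Subgroup.centralizer ({z} : Set G)) : G), (f.ker _).1 (MonoidHom.mem_ker.1 c.2)⟩
        invFun := fun q => ⟨⟨q.1, S.base.mem_C q.2⟩, MonoidHom.mem_ker.2 ((f.ker ⟨q.1, S.base.mem_C q.2⟩).2 q.2)⟩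
        left_inv := fun _ => rfl
        right_inv := fun _ => rfl }
  have hc : Nat.card (TS.comap f.π) = 2 ^ 21 := by
    rw [card_split f (TS.comap f.π), Subgroup.map_comap_eq_self fun p hp => (f.range p).1 (TS_le hp) |>
      fun ⟨c, e⟩ => ⟨c, e⟩, TS_card, hker]
    norm_num
  have hidx : (TS.comap f.π).index = 10395 := by
    have := Subgroup.card_mul_index (TS.comap f.π)
    rw [hc, show Nat.card (Subgroup.centralizer ({z} : Set G)) = 2 ^ 21 * 10395 by
      rw [card_split f ⊤ |> fun h => (Subgroup.card_top (G := Subgroup.centralizer ({z} : Set G))).symm.trans h,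
        ← MonoidHom.range_eq_map, show f.π.range = Gam from Subgroup.ext fun p => (f.range p).symm, top_inf_eq,
        card_Gam f.mdl]
      rw [inf_eq_right.2 (show f.π.ker ≤ TS.comap f.π from fun c hc => by
        show f.π c ∈ TS; rw [MonoidHom.mem_ker.1 hc]; exact one_mem _)] at hker
      rw [hker]
      norm_num] at this
    exact Nat.eq_of_mul_eq_mul_left (by norm_num) this
  exact ⟨(IsPGroup.of_card hc).toSylow (by rw [hidx]; decide), rfl⟩

end Cfsg.Agent.Spor.JFour
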