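import Cfsg.Agent.Lib.Spor.JFourPairs
import Cfsg.Agent.Lib.Spor.JFourDihedral
import Cfsg.Agent.Lib.Spor.JFourThompModel

/-!
Janko four type: the elements fixing the pairs inside a small set of points normalise the subgroup, once this
holds for those centralising a further element of it.
-/

set_option autoImplicit false
set_option maxRecDepth 100000
set_option linter.unusedSectionVars false

namespace Cfsg.Agent.Spor.JFour

open scoped Pointwise
open Cfsg.Agent.Spor.LFT (iT iT_conj PointModel Des phN phN_lt phN_symm phQ_zero pair_inj)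

attribute [local irreducible] Gam Kp Chk.app

universe u

variable {G : Type u} [Group G] [Finite G] {z : G} {Q N : Subgroup G} {x : G}

/-- fixed elements of an involution in a subgroup of exponent two -/
theorem fixed_sq {W : Subgroup G} (hW : Cfsg.IsElementaryAbelian 2 W) {v : G} (hv : v * v = 1)
    (hn : v ∈ Subgroup.normalizer (W : Set G)) :
    Nat.card W ≤ Nat.card {w : W // Commute v (w : G)} * Nat.card {w : W // Commute v (w : G)} := by
  haveI := hW.1
  have hvi : v⁻¹ = v := inv_eq_of_mul_eq_one_right hv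
  have hcm : ∀ a b : W, (a : G) * b = b * a := fun a b => congrArg Subtype.val (hW.1.is_comm.comm a b)
  have hsq : ∀ a : W, (a : G) * a = 1 := fun a => by rw [← pow_two]; exact hW.2 a a.2
  have hmem : ∀ w : W, (w : G) * (v * w * v⁻¹) ∈ W := fun w =>
    mul_mem w.2 ((Subgroup.mem_normalizer_iff.1 hn w).1 w.2)
  let φ : W →* W :=
    { toFun := fun w => ⟨(w : G) * (v * w * v⁻¹), hmem w⟩
      map_one' := Subtype.ext (by simp)
      map_mul' := fun a b => Subtype.ext (by
        have h := hcm b ⟨v * (a : G) * v⁻¹, (Subgroup.mem_normalizer_iff.1 hn a).1 a.2⟩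
        show (a : G) * b * (v * ((a : G) * b) * v⁻¹) = (a : G) * (v * a * v⁻¹) * ((b : G) * (v * b * v⁻¹))
        calc (a : G) * b * (v * ((a : G) * b) * v⁻¹) = (a : G) * ((b : G) * (v * a * v⁻¹)) * (v * b * v⁻¹) := by group
          _ = (a : G) * ((v * a * v⁻¹) * b) * (v * b * v⁻¹) := by rw [show (b : G) * (v * a * v⁻¹) = _ from h]
          _ = _ := by group) }
  have hfix : ∀ w : W, φ w = 1 ↔ Commute v (w : G) := by
    intro w
    rw [Subtype.ext_iff]
    show (w : G) * (v * w * v⁻¹) = 1 ↔ _
    constructor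
    · intro h
      exact mul_inv_eq_iff_eq_mul.1 (mul_left_cancel (h.trans (hsq w).symm))
    · intro h
      rw [h.eq, mul_inv_cancel_right, hsq]
  have hker : Nat.card φ.ker = Nat.card {w : W // Commute v (w : G)} :=
    Nat.card_congr (Equiv.subtypeEquivRight fun w => MonoidHom.mem_ker.trans (hfix w))
  have hrange : φ.range ≤ φ.ker := by
    rintro _ ⟨w, rfl⟩
    refine MonoidHom.mem_ker.2 ((hfix _).2 ?_)
    show Commute v ((w : G) * (v * w * v⁻¹))
    refine mul_inv_eq_iff_eq_mul.1 ?_
    rw [← conj_mul, show v * (v * (w : G) * v⁻¹) * v⁻¹ = (v * v) * w * (v * v)⁻¹ by group, hv]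
    rw [one_mul, inv_one, mul_one]
    exact hcm ⟨v * (w : G) * v⁻¹, (Subgroup.mem_normalizer_iff.1 hn w).1 w.2⟩ w
  rw [← hker, Subgroup.card_eq_card_quotient_mul_card_subgroup φ.ker,
    Nat.card_congr (QuotientGroup.quotientKerEquivRange φ).toEquiv]
  exact Nat.mul_le_mul_right _ (Subgroup.card_le_of_le hrange)

variable (S : Big z Q N x) (f : Frame z Q x)

include S f

/-- two largest subgroups, one normalising the other, coincide -/
theorem Big.norm_eq {V V' : Subgroup G} (hVe : Cfsg.IsElementaryAbelian 2 V) (hVc : Nat.card V = 2 ^ 11)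
    (hVe' : Cfsg.IsElementaryAbelian 2 V') (hVc' : Nat.card V' = 2 ^ 11)
    (h : V' ≤ Subgroup.normalizer (V : Set G)) : V' = V := by
  haveI : Fact (Nat.Prime 2) := ⟨Nat.prime_two⟩
  exact S.big_unique f (IsPGroup.to_sup_of_normal_right' (IsPGroup.of_card hVc') (IsPGroup.of_card hVc) h)
    le_sup_left le_sup_right hVe' hVe hVc' hVc

theorem Big.main_step {V : Subgroup G} (hVe : Cfsg.IsElementaryAbelian 2 V) (hVc : Nat.card V = 2 ^ 11)
    {ψ : ℕ → G} (m : PointModel z V ψ) {ρ : Subgroup.normalizer (V : Set G) →* Cfsg.M24}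
    (hker : ρ.ker = V.subgroupOf (Subgroup.normalizer (V : Set G)))
    (hdes : ∀ y : Subgroup.normalizer (V : Set G), Des ψ (y : G) (ρ y : Equiv.Perm GolayPt))
    {S0 : Finset GolayPt} (h2 : 2 ≤ S0.card) (h3 : S0.card ≤ 3)
    (hC : ∀ v ∈ V, v ∉ US m S0 → ∀ y : G, (∀ u ∈ US m S0, Commute y u) → Commute y v →
      y ∈ Subgroup.normalizer (V : Set G))
    {r s : G} (hr : r ∈ V) (hrU : r ∉ US m S0) (hrz : ∀ u ∈ US m S0, u ≠ 1 → ¬ IsConj z (r * u))
    (hs : s ∈ V) (hsU : s ∉ US m S0) (hsz : ∃ u ∈ US m S0, u ≠ 1 ∧ IsConj z (s * u)) (hrzc : IsConj z r) (hszc : IsConj z s)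
    {y : G} (hy : ∀ u ∈ US m S0, Commute y u) : y ∈ Subgroup.normalizer (V : Set G) := by
  classical
  haveI := hVe.1
  set U := US m S0 with hU
  revert hdes hker
  revert ρ
  set H := Subgroup.normalizer (V : Set G) with hH
  intro ρ hker hdes
  set K := Subgroup.centralizer (U : Set G) with hK
  have hmemK : ∀ g, g ∈ K ↔ ∀ u ∈ U, Commute g u := fun g =>
    ⟨fun h u hu => (Subgroup.mem_centralizer_iff.1 h u hu).symm,
      fun h => Subgroup.mem_centralizer_iff.2 fun u hu => (h u hu).symm⟩
  have hcm : ∀ a ∈ V, ∀ b ∈ V, Commute a b := fun a ha b hb =>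
    congrArg Subtype.val (hVe.1.is_comm.comm (⟨a, ha⟩ : V) ⟨b, hb⟩)
  have hVK : V ≤ K := fun a ha => (hmemK a).2 fun u hu => hcm a ha u (US_le m S0 hu)
  -- conjugates by elements fixing the small subgroup
  let cv : G → Subgroup G := fun g => V.map (MulAut.conj g).toMonoidHom
  have hcv : ∀ g r, r ∈ cv g ↔ g⁻¹ * r * g ∈ V := fun g r => by
    show r ∈ V.map _ ↔ _
    rw [Subgroup.mem_map_equiv, MulAut.conj_symm_apply]
  have hcvN : ∀ g r, r ∈ Subgroup.normalizer (cv g : Set G) ↔ g⁻¹ * r * g ∈ H := fun g r => by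
    show r ∈ Subgroup.normalizer (V.map (MulAut.conj g : G ≃* G).toMonoidHom : Set G) ↔ _
    rw [← Subgroup.map_equiv_normalizer_eq V (MulAut.conj g), Subgroup.mem_map_equiv, MulAut.conj_symm_apply]
  have hcve : ∀ g, Cfsg.IsElementaryAbelian 2 (cv g) := fun g => elem_map _ hVe
  have hcvc : ∀ g, Nat.card (cv g) = 2 ^ 11 := fun g => by
    show Nat.card (V.map _) = _
    rw [Subgroup.card_map_of_injective (MulAut.conj g).injective, hVc]
  have hUfix : ∀ g ∈ K, ∀ u ∈ U, g⁻¹ * u * g = u := fun g hg u hu => by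
    rw [mul_assoc, ← ((hmemK g).1 hg u hu).eq, inv_mul_cancel_left]
  have hUcv : ∀ g ∈ K, ∀ u ∈ U, u ∈ cv g := fun g hg u hu => by
    rw [hcv, hUfix g hg u hu]; exact US_le m S0 hu
  have hUout : ∀ g ∈ K, ∀ v, v ∉ U → g⁻¹ * v * g ∉ U := fun g hg v hv h => hv (by
    have e := hUfix g hg _ h
    rw [← mul_left_cancel (mul_right_cancel e)]
    exact h)
  have hC' : ∀ g ∈ K, ∀ v ∈ cv g, v ∉ U → ∀ c, c ∈ K → Commute c v → c ∈ Subgroup.normalizer (cv g : Set G) := by
    intro g hg v hv hvU c hc hcv'
    rw [hcvN]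
    refine hC _ ((hcv g v).1 hv) (hUout g hg v hvU) _ ?_ ?_
    · exact (hmemK _).1 (mul_mem (mul_mem (inv_mem hg) hc) hg)
    · have := (Commute.conj_iff g⁻¹).2 hcv'
      rwa [inv_inv] at this
  have hone : ∀ p : Subgroup.normalizer (V : Set G), ρ p = 1 ↔ (p : G) ∈ V := fun p => by
    rw [← MonoidHom.mem_ker, hker, Subgroup.mem_subgroupOf]
  -- two of them share only the small subgroup
  have hmeet : ∀ g ∈ K, cv g ≠ V → ∀ v ∈ V, v ∈ cv g → v ∈ U := by
    intro g hg hne v hv hv'
    by_contra hvU
    refine hne (S.norm_eq f hVe hVc (hcve g) (hcvc g) fun c hc => hC v hv hvU c ?_ ?_)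
    · intro u hu
      haveI := (hcve g).1
      exact congrArg Subtype.val ((hcve g).1.is_comm.comm (⟨c, hc⟩ : cv g) ⟨u, hUcv g hg u hu⟩)
    · exact congrArg Subtype.val ((hcve g).1.is_comm.comm (⟨c, hc⟩ : cv g) ⟨v, hv'⟩)
  -- an element outside the small subgroup normalises only one of them
  have hfix : ∀ g ∈ K, ∀ v ∈ V, v ∉ U → v ∈ Subgroup.normalizer (cv g : Set G) → cv g = V := by
    intro g hg v hv hvU hvn
    by_contra hne
    set W := cv g with hW
    haveI := (hcve g).1
    have hWc : ∀ a ∈ W, ∀ b ∈ W, Commute a b := fun a ha b hb =>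
      congrArg Subtype.val ((hcve g).1.is_comm.comm (⟨a, ha⟩ : W) ⟨b, hb⟩)
    set P := W ⊓ H with hP
    have hbig : 46 ≤ Nat.card P := by
      have hv2 : v * v = 1 := by rw [← pow_two]; exact hVe.2 v hv
      have h1 : 2 ^ 11 ≤ Nat.card {w : W // Commute v (w : G)} * Nat.card {w : W // Commute v (w : G)} :=
        (hcvc g).symm.le.trans (fixed_sq (hcve g) hv2 hvn)
      have h46 : 46 ≤ Nat.card {w : W // Commute v (w : G)} := by
        by_contra h
        have := Nat.mul_le_mul (Nat.le_of_lt_succ (not_le.1 h)) (Nat.le_of_lt_succ (not_le.1 h))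
        omega
      refine h46.trans (Nat.card_le_card_of_injective (fun w => (⟨(w.1 : G), w.1.2,
        hC v hv hvU _ (fun u hu => hWc _ w.1.2 u (hUcv g hg u hu)) w.2.symm⟩ : P)) ?_)
      intro a b e
      exact Subtype.ext (Subtype.ext (congrArg (fun p : P => (p : G)) e))
    have hsmall : Nat.card P ≤ 24 := by
      let σ : P → Equiv.Perm GolayPt := fun p => ρ ⟨p, p.2.2⟩
      have hσmul : ∀ p q : P, σ (p * q) = σ p * σ q := fun p q => by
        show ((ρ (⟨p, p.2.2⟩ * ⟨q, q.2.2⟩) : Cfsg.M24) : Equiv.Perm GolayPt) = _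
        rw [map_mul]; rfl
      have hσsq : ∀ p : P, σ p * σ p = 1 := fun p => by
        rw [← hσmul, show p * p = 1 from Subtype.ext (by
          show (p : G) * p = 1
          rw [← pow_two]; exact (hcve g).2 p p.2.1)]
        show ((ρ 1 : Cfsg.M24) : Equiv.Perm GolayPt) = 1
        rw [map_one]; rfl
      have hσpair : ∀ (p : P) (e : Finset GolayPt), e ⊆ S0 → e.card = 2 → σ p • e = e := fun p e he hc => by
        refine pair_inj _ _ (by rw [Finset.card_smul_finset, hc]) hc
          (m.inj _ _ (phN_lt _) (phN_lt _) (((hdes ⟨p, p.2.2⟩) e hc).symm.trans ?_))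
        show (p : G) * ψ (phN e) * (p : G)⁻¹ = _
        rw [(hWc _ p.2.1 _ (hUcv g hg _ (US_pair m he hc))).eq, mul_inv_cancel_right]
      have hS : ∀ p : P, ∀ a ∈ S0, σ p a ∈ S0 := fun p a ha => by
        obtain ⟨b, hb, hab⟩ := Finset.exists_mem_ne (by omega : 1 < S0.card) a
        have hsub : ({a, b} : Finset GolayPt) ⊆ S0 :=
          Finset.insert_subset ha (Finset.singleton_subset_iff.2 hb)
        have := hσpair p {a, b} hsub (Finset.card_pair hab.symm)
        exact hsub (this ▸ Finset.smul_mem_smul_finset (by simp))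
      have hS' : ∀ p : P, ∀ a, σ p a ∉ S0 ↔ a ∉ S0 := fun p a => by
        refine not_congr ⟨fun h => ?_, hS p a⟩
        have := hS p _ h
        rwa [← Equiv.Perm.mul_apply, hσsq] at this
      let off : P → Equiv.Perm {a : GolayPt // a ∉ S0} := fun p => (σ p).subtypePerm (hS' p)
      have hoff1 : ∀ p : P, (p : G) ∈ U → off p = 1 := fun p hp => by
        have h1 : σ p = 1 := congrArg Subtype.val ((hone ⟨p, p.2.2⟩).2 (US_le m S0 hp))
        refine Equiv.ext fun a => Subtype.ext ?_
        show σ p a.1 = a.1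
        rw [h1]; rfl
      have hpair : ∀ p q : P, off p ≠ 1 → ∀ c d, c ≠ d → InvPair (off p) c d → InvPair (off q) c d := by
        intro p q hp c d hcd hinv
        have hcd' : (c : GolayPt) ≠ d := fun e => hcd (Subtype.ext e)
        set e := ({(c : GolayPt), (d : GolayPt)} : Finset GolayPt) with he
        have hec : e.card = 2 := Finset.card_pair hcd'
        have hee : Even e.card := by rw [hec]; decide
        have hfe : σ p • e = e := by
          refine Finset.eq_of_subset_of_card_le ?_ (le_of_eq (Finset.card_smul_finset _ _).symm)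
          intro a ha
          rw [Finset.smul_finset_def, Finset.mem_image] at ha
          obtain ⟨b, hb, rfl⟩ := ha
          simp only [he, Finset.mem_insert, Finset.mem_singleton] at hb ⊢
          rcases hb with rfl | rfl
          · rcases hinv.1 with h | h
            · exact Or.inl (congrArg Subtype.val h)
            · exact Or.inr (congrArg Subtype.val h)
          · rcases hinv.2 with h | h
            · exact Or.inl (congrArg Subtype.val h)
            · exact Or.inr (congrArg Subtype.val h)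
        set w := ψ (phN e) with hw
        have hwV : w ∈ V := m.mem _ (phN_lt e)
        have hpw : Commute w (p : G) := by
          have h := hdes ⟨p, p.2.2⟩ e hec
          rw [show ((ρ ⟨p, p.2.2⟩ : Cfsg.M24) : Equiv.Perm GolayPt) • e = e from hfe] at h
          exact (mul_inv_eq_iff_eq_mul.1 h).symm
        have hwn := hC' g hg p p.2.1 (fun h => hp (hoff1 p h)) w (hVK hwV) hpw
        have hqe : (q : G) * w * (q : G)⁻¹ * w⁻¹ ∈ U := by
          refine hmeet g hg hne _ (mul_mem ((Subgroup.mem_normalizer_iff.1 q.2.2 w).1 hwV) (inv_mem hwV)) ?_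
          rw [show (q : G) * w * (q : G)⁻¹ * w⁻¹ = (q : G) * (w * (q : G)⁻¹ * w⁻¹) by group]
          exact mul_mem q.2.1 ((Subgroup.mem_normalizer_iff.1 hwn _).1 (inv_mem q.2.1))
        obtain ⟨e', he', hce', hqe'⟩ := hqe
        have hq := hdes ⟨q, q.2.2⟩ e hec
        have heq : ψ (phN (σ q • e)) = ψ (phN (symmDiff e' e)) := by
          rw [pt_symm m, ← hqe', inv_mul_cancel_right]
          exact hq.symm
        have hcard : (symmDiff e' e).card ≤ 4 := by
          have h' := (Finset.card_le_card (symmDiff_le_sup (a := e') (b := e))).trans (Finset.card_union_le e' e)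
          have h'' := Finset.card_le_card he'
          rw [Nat.even_iff] at hce'
          omega
        have hse := pt_inj m (by rw [Finset.card_smul_finset]; exact hee) (even_symmDiff hce' hee)
          (by rw [Finset.card_smul_finset, hec]; omega) heq
        have hout : ∀ a ∈ σ q • e, a ∉ S0 := by
          intro a ha
          rw [Finset.smul_finset_def, Finset.mem_image] at ha
          obtain ⟨b, hb, rfl⟩ := ha
          simp only [he, Finset.mem_insert, Finset.mem_singleton] at hb
          rcases hb with rfl | rfl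
          exacts [(hS' q _).2 c.2, (hS' q _).2 d.2]
        have he0 : e' = ∅ := by
          refine Finset.eq_empty_of_forall_notMem fun a ha => ?_
          have hane : a ∉ e := by
            simp only [he, Finset.mem_insert, Finset.mem_singleton]
            rintro (rfl | rfl)
            exacts [c.2 (he' ha), d.2 (he' ha)]
          exact hout a (hse ▸ Finset.mem_symmDiff.2 (Or.inl ⟨ha, hane⟩)) (he' ha)
        rw [he0, show symmDiff (∅ : Finset GolayPt) e = e from bot_symmDiff e] at hse
        have hmem : ∀ b : {a : GolayPt // a ∉ S0}, (b : GolayPt) ∈ e → off q b = c ∨ off q b = d := fun b hb => by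
          have h : σ q b.1 ∈ e := hse ▸ Finset.smul_mem_smul_finset hb
          simp only [he, Finset.mem_insert, Finset.mem_singleton] at h
          rcases h with h | h
          exacts [Or.inl (Subtype.ext h), Or.inr (Subtype.ext h)]
        exact ⟨hmem c (by simp [he]), hmem d (by simp [he])⟩
      have hcardβ : 7 ≤ Fintype.card {a : GolayPt // a ∉ S0} := by
        rw [Fintype.card_subtype_compl, Fintype.card_coe, Fintype.card_option, ZMod.card]; omega
      have hsame : ∀ p q : P, off p ≠ 1 → off q ≠ 1 → off p = off q := fun p q hp hq => by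
        refine same_of_pairs hcardβ (F := Set.range off) ?_ ?_ ?_ ⟨p, rfl⟩ hp ⟨q, rfl⟩ hq
        · rintro _ ⟨a, rfl⟩ _ ⟨b, rfl⟩
          refine ⟨a * b, Equiv.ext fun c => Subtype.ext ?_⟩
          show σ (a * b) c.1 = σ a (σ b c.1)
          rw [hσmul]; rfl
        · rintro _ ⟨a, rfl⟩
          refine Equiv.ext fun c => Subtype.ext ?_
          show σ a (σ a c.1) = c.1
          rw [← Equiv.Perm.mul_apply, hσsq]; rfl
        · rintro _ ⟨a, rfl⟩ ha _ ⟨b, rfl⟩ c d hcd hinv
          exact hpair a b ha c d hcd hinv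
      obtain ⟨a0, ha0⟩ := Finset.card_pos.1 (by omega : 0 < S0.card)
      let key : P → Bool × S0 := fun p => (decide (off p = 1), ⟨σ p a0, hS p a0 ha0⟩)
      have hfib : ∀ p q : P, key p = key q → σ p = σ q := by
        intro p q e
        obtain ⟨e1, e2⟩ := Prod.mk.injEq _ _ _ _ ▸ e
        have e1' : (off p = 1) ↔ (off q = 1) := decide_eq_decide.1 e1
        have e2' : σ p a0 = σ q a0 := congrArg Subtype.val e2
        have hoffe : off p = off q := by
          by_cases h : off p = 1
          · rw [h, e1'.1 h]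
          · exact hsame p q h fun h' => h (e1'.2 h')
        refine Equiv.ext fun a => ?_
        by_cases ha : a ∈ S0
        · by_cases haa : a = a0
          · rw [haa, e2']
          have hpa : ∀ r : P, σ r a = if σ r a0 = a then a0 else a := fun r => by
            have hsub : ({a0, a} : Finset GolayPt) ⊆ S0 :=
              Finset.insert_subset ha0 (Finset.singleton_subset_iff.2 ha)
            have h := hσpair r {a0, a} hsub (Finset.card_pair (Ne.symm haa))
            have h0 : σ r a0 ∈ ({a0, a} : Finset GolayPt) := h ▸ Finset.smul_mem_smul_finset (by simp)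
            have h1 : σ r a ∈ ({a0, a} : Finset GolayPt) := h ▸ Finset.smul_mem_smul_finset (by simp)
            simp only [Finset.mem_insert, Finset.mem_singleton] at h0 h1
            split_ifs with hh
            · exact h1.resolve_right fun e => haa ((σ r).injective (e.trans hh.symm))
            · exact h1.resolve_left fun e => haa ((σ r).injective (e.trans (h0.resolve_right hh).symm))
          rw [hpa p, hpa q, e2']
        · exact congrArg Subtype.val (Equiv.congr_fun hoffe ⟨a, ha⟩)
      let rep : Bool × S0 → P := fun k => if h : ∃ p, key p = k then h.choose else 1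
      have hrep : ∀ p : P, key (rep (key p)) = key p := fun p => by
        have h : ∃ q, key q = key p := ⟨p, rfl⟩
        simp only [rep, dif_pos h]
        exact h.choose_spec
      have hdiff : ∀ p : P, ((rep (key p))⁻¹ * p : P).1 ∈ U := fun p => by
        refine hmeet g hg hne _ ?_ ((rep (key p))⁻¹ * p).2.1
        refine (hone ⟨_, ((rep (key p))⁻¹ * p).2.2⟩).1 (Subtype.ext ?_)
        show σ ((rep (key p))⁻¹ * p) = 1
        rw [hσmul, ← hfib _ _ (hrep p), ← hσmul, inv_mul_cancel]
        show ((ρ 1 : Cfsg.M24) : Equiv.Perm GolayPt) = 1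
        rw [map_one]; rfl
      refine (Nat.card_le_card_of_injective (fun p => (key p, (⟨_, hdiff p⟩ : U))) ?_).trans ?_
      · intro p q e
        obtain ⟨e1, e2⟩ := Prod.mk.injEq _ _ _ _ ▸ e
        have h := congrArg Subtype.val e2
        simp only [e1] at h
        exact Subtype.ext (mul_left_cancel h)
      · rw [Nat.card_prod, Nat.card_prod, Nat.card_eq_fintype_card (α := Bool), Fintype.card_bool,
          Nat.card_eq_fintype_card (α := S0), Fintype.card_coe]
        calc 2 * S0.card * Nat.card U ≤ 2 * 3 * 4 :=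
              Nat.mul_le_mul (Nat.mul_le_mul_left 2 h3) (US_card m h3)
          _ = 24 := by norm_num
    omega
  -- two classes with an element commuting with both
  have hyK : y ∈ K := (hmemK y).2 hy
  have hs2 : s * s = 1 := by rw [← pow_two]; exact hVe.2 s hs
  set sy := y * s * y⁻¹ with hsy
  have hne : ∀ k ∈ K, k * sy * k⁻¹ ≠ r := by
    intro k hk e
    obtain ⟨u, hu, hu1, hcu⟩ := hsz
    refine hrz u hu hu1 (hcu.trans (isConj_iff.2 ⟨k * y, ?_⟩))
    rw [← e, hsy]
    calc k * y * (s * u) * (k * y)⁻¹ = (k * (y * s * y⁻¹) * k⁻¹) * ((k * y) * u * (k * y)⁻¹) := by group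
      _ = _ := by rw [((hmemK _).1 (mul_mem hk hyK) u hu).eq, mul_inv_cancel_right]
  have hsyK : sy ∈ K := mul_mem (mul_mem hyK (hVK hs)) (inv_mem hyK)
  obtain ⟨w, hwK, hw1, hwr, hws, k, hk, hkw⟩ := dihedral_mid (hVK hr) hsyK
    (by rw [← pow_two]; exact hVe.2 r hr) (by rw [hsy, conj_mul, hs2, mul_one, mul_inv_cancel]) hne
  have hwH : w ∈ H := hC r hr hrU w ((hmemK w).1 hwK) hwr
  have hrwH : r * w ∈ H := mul_mem (Subgroup.le_normalizer hr) hwH
  obtain ⟨g, v, hg, hv, hvU, hgv⟩ : ∃ g v, g ∈ K ∧ v ∈ V ∧ v ∉ U ∧ r * w = g * v * g⁻¹ := by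
    rcases hkw with h | h
    · exact ⟨k, r, hk, hr, hrU, h⟩
    · exact ⟨k * y, s, mul_mem hk hyK, hs, hsU, by rw [h, hsy]; group⟩
  have hrw : r * w ∈ V := by
    have h1 : v ∈ Subgroup.normalizer (cv g⁻¹ : Set G) := by
      rw [hcvN, inv_inv, ← hgv]
      exact hrwH
    have h2 := hfix g⁻¹ (inv_mem hg) v hv hvU h1
    have h3 : v ∈ cv g⁻¹ := h2.symm ▸ hv
    rw [hcv, inv_inv, ← hgv] at h3
    exact h3
  have hwV : w ∈ V := by
    have := mul_mem (inv_mem hr) hrw
    rwa [inv_mul_cancel_left] at this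
  have hwU : w ∉ U := fun hwU => by
    refine hrz w hwU hw1 ?_
    rcases hkw with h | h
    · rw [h]; exact hrzc.trans (isConj_iff.2 ⟨k, rfl⟩)
    · rw [h, hsy]; exact hszc.trans (isConj_iff.2 ⟨k * y, by group⟩)
  have hsN : sy ∈ H := hC w hwV hwU sy ((hmemK sy).1 hsyK) hws.symm
  have h4 : s ∈ Subgroup.normalizer (cv y⁻¹ : Set G) := by
    rw [hcvN, inv_inv]
    exact hsN
  have h5 := hfix y⁻¹ (inv_mem hyK) s hs hsU h4
  refine Subgroup.mem_normalizer_iff.2 fun a => ?_
  conv_lhs => rw [← h5, hcv, inv_inv]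

omit S

end Cfsg.Agent.Spor.JFour
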