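import Cfsg.Agent.Lib.Spor.JFourFrame
import Cfsg.Agent.Lib.Spor.JFourSylow
import Cfsg.Agent.Lib.Char.ZStar
import Cfsg.Agent.Lib.Char.CentFour.Reduce

/-!
Janko four type: the involution is not weakly closed in its extraspecial subgroup.
-/

set_option autoImplicit false
set_option maxRecDepth 100000
set_option linter.unusedSectionVars false

namespace Cfsg.Agent.Spor.JFour

open Cfsg.Agent.Spor.SUSix (V6)
open Cfsg.Agent.Spor.SpFour (F4)
open Cfsg.Agent.Spor.Large (XT)
open Cfsg.Agent.Small.Unitary (herm)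

attribute [local instance] Classical.propDecidable
attribute [local irreducible] Gam Kp

universe u

variable {G : Type u} [Group G] [Finite G] {z : G} {Q N : Subgroup G} {x : G}

theorem Setup.mem_C (S : Setup z Q N x) {a : G} (ha : a ∈ Q) : a ∈ Subgroup.centralizer ({z} : Set G) :=
  Subgroup.mem_centralizer_singleton_iff.2 (S.ord.qz ha)

theorem exists_moved [IsSimpleGroup G] (hG : ¬ IsMulCommutative G) (hz : orderOf z = 2) :
    ∃ g : G, Commute (g * z * g⁻¹) z ∧ g * z * g⁻¹ ≠ z := by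
  by_contra hno
  push Not at hno
  have hiso : Cfsg.IsIsolatedInvolution z := ⟨hz, fun g hg => hno g hg.symm⟩
  have hO : Cfsg.oddCore G = ⊥ := by
    rcases IsSimpleGroup.eq_bot_or_eq_top_of_normal (Cfsg.oddCore G) inferInstance with h | h
    · exact h
    · exfalso
      have h1 := Char.card_oddCore_odd G
      rw [h, Subgroup.card_top] at h1
      exact absurd (hz ▸ orderOf_dvd_natCard z) fun h2 => (Nat.not_even_iff_odd.2 h1) (even_iff_two_dvd.2 h2)
  have hcen : z ∈ Subgroup.center G := Subgroup.mem_center_iff.2 fun g => by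
    have h := Char.zStar_isolated hiso g
    rw [hO, Subgroup.mem_bot, mul_inv_eq_one, mul_inv_eq_iff_eq_mul] at h
    exact h.symm
  rcases IsSimpleGroup.eq_bot_or_eq_top_of_normal (Subgroup.center G) inferInstance with h | h
  · rw [h, Subgroup.mem_bot] at hcen
    rw [hcen, orderOf_one] at hz
    omega
  · exact hG ⟨⟨fun a b => Subgroup.mem_center_iff.1 (h ▸ Subgroup.mem_top b) a⟩⟩

namespace Frame

variable (f : Frame z Q x) (S : Setup z Q N x)

include S

theorem vec_one : f.vec 1 = 0 := by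
  have h := f.vec_mul 1 (one_mem _) 1 (one_mem _)
  rw [one_mul] at h
  simpa using h

theorem vec_z : f.vec z = 0 :=
  ((f.vec_eq 1 (one_mem _) z S.ord.xt.mem).2 (Or.inr (one_mul z).symm)).symm.trans (f.vec_one S)

theorem vec_inv {a : G} (ha : a ∈ Q) : f.vec a⁻¹ = f.vec a := by
  have h := f.vec_mul a ha a⁻¹ (inv_mem ha)
  rw [mul_inv_cancel, f.vec_one S] at h
  calc f.vec a⁻¹ = f.vec a + f.vec a + f.vec a⁻¹ := by rw [v6_two, zero_add]
    _ = f.vec a := by rw [add_assoc, ← h, add_zero]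

theorem sq_val {a : G} (ha : a ∈ Q) : a * a = if herm (f.vec a) (f.vec a) = 0 then 1 else z := by
  split_ifs with h
  · exact (f.sq_iff a ha).2 h
  · exact (S.ord.xt.sq_mem ha).resolve_left fun e => h ((f.sq_iff a ha).1 e)

theorem comm_bv {a b : G} (ha : a ∈ Q) (hb : b ∈ Q) (hc : Commute a b) : bv (f.vec a) (f.vec b) = 0 := by
  have e : a * b * (a * b) = (a * a) * (b * b) := hc.symm.mul_mul_mul_comm a b
  rw [f.sq_val S (mul_mem ha hb), f.sq_val S ha, f.sq_val S hb, f.vec_mul a ha b hb] at e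
  have hz := S.ord.xt.ne
  have hzz := S.ord.xt.sq
  rw [bv]
  have key : ∀ a : F4, a = 0 ∨ a = 1 → ∀ b : F4, b = 0 ∨ b = 1 → ∀ c : F4, c = 0 ∨ c = 1 →
      a + b + c ≠ 0 → (a ≠ 0 ∧ b = 0 ∧ c = 0) ∨ (a = 0 ∧ b ≠ 0 ∧ c = 0) ∨ (a = 0 ∧ b = 0 ∧ c ≠ 0) ∨
        (a ≠ 0 ∧ b ≠ 0 ∧ c ≠ 0) := by decide +kernel
  by_contra hne
  rcases key _ (herm_self_real _) _ (herm_self_real _) _ (herm_self_real _) hne with
    ⟨h1, h2, h3⟩ | ⟨h1, h2, h3⟩ | ⟨h1, h2, h3⟩ | ⟨h1, h2, h3⟩
  · rw [if_neg h1, if_pos h2, if_pos h3, one_mul] at e; exact hz e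
  · rw [if_pos h1, if_neg h2, if_pos h3, mul_one] at e; exact hz e.symm
  · rw [if_pos h1, if_pos h2, if_neg h3, one_mul] at e; exact hz e.symm
  · rw [if_neg h1, if_neg h2, if_neg h3, hzz] at e; exact hz e

end Frame

/-- the common part with a conjugate -/
def AG (Q : Subgroup G) (g : G) : Subgroup G := Q ⊓ Q.map (MulAut.conj g).toMonoidHom

/-- the centralising part of a conjugate -/
def DG (z : G) (Q : Subgroup G) (g : G) : Subgroup G :=
  Subgroup.centralizer ({z} : Set G) ⊓ Q.map (MulAut.conj g).toMonoidHom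

/-- no other conjugate of the involution lies in its subgroup -/
def Wc (z : G) (Q : Subgroup G) : Prop := ∀ g : G, g * z * g⁻¹ ∈ Q → g * z * g⁻¹ = z

variable (S : Setup z Q N x)

include S

theorem Setup.card_DG (g : G) :
    Nat.card (DG z Q g) = Nat.card (Q ⊓ Subgroup.centralizer ({g⁻¹ * z * g} : Set G) : Subgroup G) := by
  rw [← Subgroup.card_map_of_injective (K := Q ⊓ Subgroup.centralizer ({g⁻¹ * z * g} : Set G))
    (MulAut.conj g).injective (f := (MulAut.conj g).toMonoidHom)]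
  have hiff : ∀ q, Commute (g * q * g⁻¹) z ↔ Commute q (g⁻¹ * z * g) := fun q => by
    have h := Commute.conj_iff g (a := q) (b := g⁻¹ * z * g)
    rwa [show g * (g⁻¹ * z * g) * g⁻¹ = z by group] at h
  congr 1
  congr 1
  ext y
  constructor
  · rintro ⟨hy, q, hq, rfl⟩
    exact ⟨q, ⟨hq, Subgroup.mem_centralizer_singleton_iff.2
      ((hiff q).1 (Subgroup.mem_centralizer_singleton_iff.1 hy)).eq⟩, rfl⟩
  · rintro ⟨q, ⟨hq, hqc⟩, rfl⟩
    exact ⟨Subgroup.mem_centralizer_singleton_iff.2 ((hiff q).2 (Subgroup.mem_centralizer_singleton_iff.1 hqc)).eq,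
      q, hq, rfl⟩

variable (f : Frame z Q x)

theorem Setup.pi_y (hW : Wc z Q) {g : G} (hy : Commute (g * z * g⁻¹) z) (hne : g * z * g⁻¹ ≠ z) :
    f.π ⟨g * z * g⁻¹, Subgroup.mem_centralizer_singleton_iff.2 hy⟩ ∈ Gam ∧
    f.π ⟨g * z * g⁻¹, Subgroup.mem_centralizer_singleton_iff.2 hy⟩ ≠ 1 ∧
    f.π ⟨g * z * g⁻¹, Subgroup.mem_centralizer_singleton_iff.2 hy⟩ *
      f.π ⟨g * z * g⁻¹, Subgroup.mem_centralizer_singleton_iff.2 hy⟩ = 1 := by
  refine ⟨(f.range _).2 ⟨_, rfl⟩, fun e => hne (hW g ((f.ker _).1 e)), ?_⟩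
  rw [← map_mul, f.ker]
  show g * z * g⁻¹ * (g * z * g⁻¹) ∈ Q
  rw [conj_mul, S.ord.xt.sq, mul_one, mul_inv_cancel]
  exact one_mem _

theorem Setup.cent_card (hW : Wc z Q) {g : G} (hy : Commute (g * z * g⁻¹) z) (hne : g * z * g⁻¹ ≠ z) :
    (Fx (f.π ⟨g * z * g⁻¹, Subgroup.mem_centralizer_singleton_iff.2 hy⟩)).ncard ≤
      Nat.card (Q ⊓ Subgroup.centralizer ({g * z * g⁻¹} : Set G) : Subgroup G) := by
  set y := g * z * g⁻¹ with hydef
  set t := f.π ⟨y, Subgroup.mem_centralizer_singleton_iff.2 hy⟩ with ht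
  set D := (Q ⊓ Subgroup.centralizer ({y} : Set G) : Subgroup G)
  have hfix : ∀ q ∈ Q, f.vec q ∈ Fx t → y * q * y⁻¹ = q ∨ y * q * y⁻¹ = q * z := fun q hq hv =>
    (f.vec_eq q hq _ (S.ord.normQ y hy q hq)).1 (by
      rw [f.vec_conj ⟨y, Subgroup.mem_centralizer_singleton_iff.2 hy⟩ q hq]
      exact (show t (f.vec q) = f.vec q from hv).symm)
  have hD : ∀ d ∈ D, f.vec d ∈ Fx t := fun d hd => by
    show t (f.vec d) = f.vec d
    rw [ht, ← f.vec_conj _ d hd.1]
    show f.vec (y * d * y⁻¹) = _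
    rw [← (Subgroup.mem_centralizer_singleton_iff.1 hd.2 : d * y = y * d), mul_inv_cancel_right]
  obtain ⟨-, hcover⟩ : True ∧ ∀ q ∈ Q, ∀ q' ∈ Q, ¬ Commute q y → ¬ Commute q' y →
      f.vec q ∈ Fx t → f.vec q' ∈ Fx t → Commute (q * q') y := by
    refine ⟨trivial, fun q hq q' hq' h h' hv hv' => ?_⟩
    have e1 := (hfix q hq hv).resolve_left fun e => h (mul_inv_eq_iff_eq_mul.1 e).symm
    have e2 := (hfix q' hq' hv').resolve_left fun e => h' (mul_inv_eq_iff_eq_mul.1 e).symm
    refine (mul_inv_eq_iff_eq_mul.1 ?_).symm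
    rw [show y * (q * q') * y⁻¹ = y * q * y⁻¹ * (y * q' * y⁻¹) by group, e1, e2, mul_assoc q, ← mul_assoc z,
      (S.ord.xt.cen q' hq').eq, mul_assoc q', S.ord.xt.sq, mul_one]
  -- the fixed vectors are covered twice
  have hz2 : ∀ q ∈ Q, f.vec q = f.vec (q * z) := fun q hq =>
    (f.vec_eq q hq _ (mul_mem hq S.ord.xt.mem)).2 (Or.inr rfl)
  by_cases hall : ∀ q ∈ Q, f.vec q ∈ Fx t → Commute q y
  · refine le_trans ?_ (le_of_eq (Nat.card_coe_set_eq (D : Set G)).symm)
    refine (Set.ncard_le_ncard (t := f.vec '' (D : Set G)) (fun v hv => ?_) (Set.toFinite _)).trans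
      (Set.ncard_image_le (Set.toFinite _))
    obtain ⟨q, hq, rfl⟩ := f.vec_surj v
    exact ⟨q, ⟨hq, Subgroup.mem_centralizer_singleton_iff.2 (hall q hq hv).eq⟩, rfl⟩
  push Not at hall
  obtain ⟨q0, hq0, hq0v, hq0c⟩ := hall
  have hsub : Fx t ⊆ f.vec '' (D : Set G) ∪ (fun v => v + f.vec q0) '' (f.vec '' (D : Set G)) := by
    intro v hv
    obtain ⟨q, hq, rfl⟩ := f.vec_surj v
    by_cases hc : Commute q y
    · exact Or.inl ⟨q, ⟨hq, Subgroup.mem_centralizer_singleton_iff.2 hc.eq⟩, rfl⟩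
    · refine Or.inr ⟨_, ⟨q * q0, ⟨mul_mem hq hq0,
        Subgroup.mem_centralizer_singleton_iff.2 (hcover q hq q0 hq0 hc hq0c hv hq0v).eq⟩, rfl⟩, ?_⟩
      show f.vec (q * q0) + f.vec q0 = f.vec q
      rw [f.vec_mul q hq q0 hq0, add_assoc, v6_two, add_zero]
  -- vectors of the centraliser are covered twice
  have hzD : z ∈ D := ⟨S.ord.xt.mem, Subgroup.mem_centralizer_singleton_iff.2 hy.symm.eq⟩
  have hfib : 2 * (f.vec '' (D : Set G)).ncard ≤ Nat.card D := by
    have hsurj : ∀ v : f.vec '' (D : Set G), ∃ d : D, f.vec d = v := fun ⟨v, d, hd, e⟩ => ⟨⟨d, hd⟩, e⟩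
    choose c hc using hsurj
    rw [← Nat.card_coe_set_eq, show 2 = Nat.card Bool by simp, ← Nat.card_prod]
    refine Nat.card_le_card_of_injective (fun q => if q.1 then c q.2 * ⟨z, hzD⟩ else c q.2) ?_
    rintro ⟨b, v⟩ ⟨b', v'⟩ e
    have hv' : ∀ (b : Bool) (v : f.vec '' (D : Set G)), f.vec ((if b then c v * ⟨z, hzD⟩ else c v : D) : G) = v := fun b v => by
      cases b
      · exact hc v
      · show f.vec ((c v : G) * z) = v
        rw [← hz2 _ (c v).2.1, hc]
    have hvv : v = v' := Subtype.ext (by rw [← hv' b v, ← hv' b' v']; exact congrArg (fun d : D => f.vec d) e)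
    subst hvv
    cases b <;> cases b' <;> simp only [Bool.false_eq_true, if_false, if_true, reduceIte] at e ⊢
    · exact absurd (congrArg Subtype.val e) fun e' => S.ord.xt.ne (mul_eq_left.1 e'.symm)
    · exact absurd (congrArg Subtype.val e) fun e' => S.ord.xt.ne (mul_eq_left.1 e')
  refine ((Set.ncard_le_ncard hsub (Set.toFinite _)).trans (Set.ncard_union_le _ _)).trans ?_
  have := Set.ncard_image_le (f := fun v => v + f.vec q0) (Set.toFinite (f.vec '' (D : Set G)))
  omega

theorem Setup.pair_bound (hW : Wc z Q) {g : G} (hy : Commute (g * z * g⁻¹) z) (hne : g * z * g⁻¹ ≠ z) :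
    Nat.card (DG z Q g) ≤
      if f.π ⟨g * z * g⁻¹, Subgroup.mem_centralizer_singleton_iff.2 hy⟩ ∈ Kp then 128 else 16 := by
  set y := g * z * g⁻¹ with hydef
  set yC : Subgroup.centralizer ({z} : Set G) := ⟨y, Subgroup.mem_centralizer_singleton_iff.2 hy⟩
  set t := f.π yC with ht
  obtain ⟨htG, ht1, ht2⟩ := S.pi_y f hW hy hne
  have FT := invol_facts f.mdl htG ht2 ht1
  set Q' := Q.map (MulAut.conj g).toMonoidHom with hQ'
  have X' : XT y Q' := S.ord.xt.conj g
  have hyQ : y ∉ Q := fun h => hne (hW g h)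
  have hzQ' : z ∉ Q' := by
    rintro ⟨q, hq, e⟩
    have e' : g * q * g⁻¹ = z := e
    have h1 : g⁻¹ * z * g⁻¹⁻¹ = q := by rw [← e']; group
    have h2 := hW g⁻¹ (h1 ▸ hq)
    refine hne ?_
    show g * z * g⁻¹ = z
    calc g * z * g⁻¹ = g * (g⁻¹ * z * g⁻¹⁻¹) * g⁻¹ := by rw [h2]
      _ = z := by group
  have hnorm' : ∀ c : G, Commute c y → ∀ q ∈ Q', c * q * c⁻¹ ∈ Q' := by
    rintro c hc _ ⟨q, hq, rfl⟩
    have hc' : Commute (g⁻¹ * c * g) z := by
      have := (Commute.conj_iff g⁻¹).2 hc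
      rwa [inv_inv, hydef, show g⁻¹ * (g * z * g⁻¹) * g = z by group] at this
    exact ⟨_, S.ord.normQ _ hc' q hq, show g * (g⁻¹ * c * g * q * (g⁻¹ * c * g)⁻¹) * g⁻¹ =
      c * (g * q * g⁻¹) * c⁻¹ by group⟩
  -- the common part
  set A := AG Q g with hA
  have hAy : ∀ a ∈ A, Commute a y := fun a ha => (X'.cen a ha.2).symm
  have hAsq : ∀ a ∈ A, a * a = 1 := fun a ha => by
    rcases S.ord.xt.sq_mem ha.1 with e | e
    · exact e
    · exfalso; exact hzQ' (e ▸ mul_mem ha.2 ha.2)
  have hAD : ∀ a ∈ A, ∀ q ∈ Q, Commute q y → Commute q a := by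
    intro a ha q hq hqy
    refine mul_inv_eq_iff_eq_mul.1 ((S.ord.xt.comm q hq a ha.1).resolve_right fun e => hzQ' ?_)
    have h1 : a⁻¹ * (q * a * q⁻¹) ∈ Q' := mul_mem (inv_mem ha.2) (hnorm' q hqy a ha.2)
    rwa [e, inv_mul_cancel_left] at h1
  have hAinj : ∀ a ∈ A, ∀ b ∈ A, f.vec a = f.vec b → a = b := by
    intro a ha b hb e
    rcases (f.vec_eq a ha.1 b hb.1).1 e with e' | e'
    · exact e'.symm
    · exfalso
      refine hzQ' ?_
      rw [show z = a⁻¹ * b by rw [e', inv_mul_cancel_left]]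
      exact mul_mem (inv_mem ha.2) hb.2
  have hexact : ∀ a ∈ A, ∀ q : G, q * y * q⁻¹ = a * y → a = 1 := by
    intro a ha q e
    obtain ⟨w, hw, hwe⟩ : a * y ∈ Q' := mul_mem ha.2 X'.mem
    have hwe' : g * w * g⁻¹ = a * y := hwe
    have h1 : g⁻¹ * q * g * z * (g⁻¹ * q * g)⁻¹ = w := by
      rw [← show g⁻¹ * (a * y) * g = w by rw [← hwe']; group, ← e, hydef]; group
    have h2 := hW _ (h1 ▸ hw)
    rw [h1] at h2
    rw [h2] at hwe'
    exact mul_eq_right.1 hwe'.symm
  have hrange : ∀ a ∈ Q, f.vec a ∈ Rg t → ∃ q ∈ Q, q * y * q⁻¹ = a * y ∨ q * y * q⁻¹ = a * z * y := by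
    rintro a ha ⟨v, hv⟩
    obtain ⟨q, hq, rfl⟩ := f.vec_surj v
    refine ⟨q, hq, ?_⟩
    have hm := S.ord.normQ y hy q⁻¹ (inv_mem hq)
    have e : f.vec a = f.vec (q * (y * q⁻¹ * y⁻¹)) := by
      rw [f.vec_mul q hq _ hm, ← hv, ht, show y * q⁻¹ * y⁻¹ = (yC : G) * q⁻¹ * (yC : G)⁻¹ from rfl,
        f.vec_conj yC _ (inv_mem hq), f.vec_inv S hq, add_comm]
    rcases (f.vec_eq a ha _ (mul_mem hq hm)).1 e with e' | e'
    · exact Or.inl (by rw [← e']; group)
    · exact Or.inr (by rw [← e']; group)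
  -- the image
  set DC := (DG z Q g).subgroupOf (Subgroup.centralizer ({z} : Set G)) with hDC
  set U := DC.map f.π with hU
  have hUG : U ≤ Gam := by rintro _ ⟨d, -, rfl⟩; exact (f.range _).2 ⟨d, rfl⟩
  have hDd : ∀ d ∈ DC, Commute (d : G) y := fun d hd => (X'.cen _ (Subgroup.mem_subgroupOf.1 hd).2).symm
  have hUt : ∀ e ∈ U, Commute e t := by
    rintro _ ⟨d, hd, rfl⟩
    exact Commute.map (show Commute d yC from Subtype.ext (hDd d hd).eq) f.π
  haveI : Fact (Nat.Prime 2) := ⟨Nat.prime_two⟩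
  have hQ'2 : IsPGroup 2 Q' := IsPGroup.of_card (n := 13) (by
    rw [hQ', Subgroup.card_map_of_injective (MulAut.conj g).injective, S.ord.cardQ])
  have hU2 : IsPGroup 2 U := ((hQ'2.to_le (show DG z Q g ≤ Q' from inf_le_right)).of_equiv
    (Subgroup.subgroupOfEquivOfLe (show DG z Q g ≤ Subgroup.centralizer ({z} : Set G) from inf_le_left)).symm).map _
  have hcomm : ∀ d ∈ DC, ∀ q ∈ Q, Commute q y → (d : G) * q * (d : G)⁻¹ * q⁻¹ ∈ A := by
    intro d hd q hq hqy
    have hdz : Commute (d : G) z := Subgroup.mem_centralizer_singleton_iff.1 d.2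
    refine Subgroup.mem_inf.2 ⟨mul_mem (S.ord.normQ _ hdz q hq) (inv_mem hq), ?_⟩
    rw [show (d : G) * q * (d : G)⁻¹ * q⁻¹ = (d : G) * (q * (d : G)⁻¹ * q⁻¹) by group]
    exact mul_mem (Subgroup.mem_subgroupOf.1 hd).2 (hnorm' q hqy _ (inv_mem (Subgroup.mem_subgroupOf.1 hd).2))
  have hmoveD : ∀ d ∈ DC, ∀ q ∈ Q, Commute q y → f.π d (f.vec q) + f.vec q ∈ f.vec '' (A : Set G) := by
    intro d hd q hq hqy
    refine ⟨_, hcomm d hd q hq hqy, ?_⟩
    have hdz : Commute (d : G) z := Subgroup.mem_centralizer_singleton_iff.1 d.2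
    rw [f.vec_mul _ (S.ord.normQ _ hdz q hq) _ (inv_mem hq), f.vec_conj d q hq, f.vec_inv S hq]
  -- sizes
  have hcardU : Nat.card (DG z Q g) = Nat.card U * Nat.card A := by
    set φ := f.π.comp DC.subtype with hφ
    have h := Subgroup.card_eq_card_quotient_mul_card_subgroup φ.ker
    rw [Nat.card_congr (QuotientGroup.quotientKerEquivRange φ).toEquiv, MonoidHom.range_comp,
      Subgroup.range_subtype,
      Nat.card_congr (Subgroup.subgroupOfEquivOfLe
        (show DG z Q g ≤ Subgroup.centralizer ({z} : Set G) from inf_le_left)).toEquiv] at h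
    rw [h]
    congr 1
    refine (Nat.card_congr
      { toFun := fun a => ⟨⟨⟨(a : G), S.mem_C a.2.1⟩, Subgroup.mem_subgroupOf.2 ⟨S.mem_C a.2.1, a.2.2⟩⟩,
          MonoidHom.mem_ker.2 ((f.ker _).2 a.2.1)⟩
        invFun := fun k => ⟨((k.1.1 : Subgroup.centralizer ({z} : Set G)) : G),
          ⟨(f.ker _).1 (MonoidHom.mem_ker.1 k.2), (Subgroup.mem_subgroupOf.1 k.1.2).2⟩⟩
        left_inv := fun _ => rfl
        right_inv := fun _ => rfl }).symm
  have hhalf : Nat.card U ≤ 2 * Nat.card (U ⊓ Kp : Subgroup PV) := by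
    have h1 : Kp.relIndex U ≤ 2 := by
      refine (Subgroup.relIndex_le_of_le_right hUG ?_).trans (le_of_eq index_Gam)
      show (Kp.subgroupOf Gam).index ≠ 0
      rw [index_Gam]; norm_num
    have h2 := Subgroup.card_mul_index (Kp.subgroupOf U)
    rw [← Subgroup.inf_subgroupOf_left, Nat.card_congr (Subgroup.subgroupOfEquivOfLe inf_le_left).toEquiv] at h2
    rw [← h2, mul_comm 2]
    exact Nat.mul_le_mul_left _ (by rw [Subgroup.inf_subgroupOf_left]; exact h1)
  have hcardA : (f.vec '' (A : Set G)).ncard ≤ Nat.card A :=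
    (Set.ncard_image_le (Set.toFinite _)).trans (le_of_eq (Nat.card_coe_set_eq _).symm)
  have hqy : ∀ q ∈ Q, f.vec q ∈ Fx t → ¬ Commute q y → q * y * q⁻¹ = z * y := by
    intro q hq hv hc
    have hm := S.ord.normQ y hy q hq
    rcases (f.vec_eq q hq _ hm).1 (by
      rw [show y * q * y⁻¹ = (yC : G) * q * (yC : G)⁻¹ from rfl, f.vec_conj yC q hq]
      exact (show t (f.vec q) = f.vec q from hv).symm) with e | e
    · exact absurd (mul_inv_eq_iff_eq_mul.1 e).symm hc
    · rw [mul_inv_eq_iff_eq_mul] at e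
      rw [mul_inv_eq_iff_eq_mul, mul_assoc z y q, e]
      calc q * y = z * z * (q * y) := by rw [S.ord.xt.sq, one_mul]
        _ = z * (q * z * y) := by rw [mul_assoc, ← mul_assoc z q, (S.ord.xt.cen q hq).eq]
  by_cases hmov : ∀ q ∈ Q, f.vec q ∈ Fx t → Commute q y
  · -- nothing is moved to the other coset
    have hAR : ∀ a ∈ A, f.vec a ∈ Rg t := fun a ha => FT.perp _ fun v hv => by
      obtain ⟨q, hq, rfl⟩ := f.vec_surj v
      exact f.comm_bv S ha.1 hq (hAD a ha q hq (hmov q hq hv)).symm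
    have hform : ∀ a ∈ A, a ≠ 1 → ∃ q ∈ Q, q * y * q⁻¹ = a * z * y := by
      intro a ha h1
      obtain ⟨q, hq, e | e⟩ := hrange a ha.1 (hAR a ha)
      · exact absurd (hexact a ha q e) h1
      · exact ⟨q, hq, e⟩
    have hb : ∀ a ∈ A, ∀ b ∈ A, b ≠ 1 → a * b ≠ 1 → ∀ q ∈ Q, q * y * q⁻¹ = a * z * y → ¬ Commute q b := by
      intro a ha b hb hb1 hab q hq e hc
      obtain ⟨q', hq', e'⟩ := hform b hb hb1
      refine hab ?_
      rw [show a * b = b * a from ((hAD a ha b hb.1 (hAy b hb)).eq).symm]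
      refine hexact (b * a) (mul_mem hb ha) (q * q') ?_
      calc q * q' * y * (q * q')⁻¹ = q * (q' * y * q'⁻¹) * q⁻¹ := by group
        _ = (q * b * q⁻¹) * (q * z * q⁻¹) * (q * y * q⁻¹) := by rw [e']; group
        _ = b * z * (a * z * y) := by
          rw [hc.eq, mul_inv_cancel_right, ← (S.ord.xt.cen q hq).eq, mul_inv_cancel_right, e]
        _ = b * (z * a) * (z * y) := by group
        _ = b * a * y := by
          rw [(S.ord.xt.cen a ha.1).eq, ← mul_assoc b, mul_assoc (b * a), ← mul_assoc z, S.ord.xt.sq, one_mul]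
    have hA4 : Nat.card A ≤ 4 := by
      by_contra hlt
      push Not at hlt
      have hex : ∀ T : Set G, T.ncard ≤ 4 → ∃ a ∈ A, a ∉ T := fun T hT => by
        by_contra hno
        push Not at hno
        have := Set.ncard_le_ncard (s := (A : Set G)) hno (Set.toFinite _)
        rw [← show Nat.card A = (A : Set G).ncard from Nat.card_coe_set_eq _] at this
        omega
      obtain ⟨a, ha, ha'⟩ := hex {1} (by simp)
      obtain ⟨b, hb', hb''⟩ := hex {1, a} ((Set.ncard_insert_le _ _).trans (by simp))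
      obtain ⟨c, hc', hc''⟩ := hex {1, a, b, a * b} ((Set.ncard_insert_le _ _).trans (Nat.succ_le_succ
        ((Set.ncard_insert_le _ _).trans (Nat.succ_le_succ ((Set.ncard_insert_le _ _).trans (by simp))))))
      simp only [Set.mem_insert_iff, Set.mem_singleton_iff, not_or] at ha' hb'' hc''
      have hinv : ∀ u ∈ A, ∀ v ∈ A, u ≠ v → u * v ≠ 1 := fun u hu v hv hne' e => hne' (by
        rw [mul_eq_one_iff_eq_inv] at e
        rw [e]; exact inv_eq_of_mul_eq_one_right (hAsq v hv))
      obtain ⟨q, hq, e⟩ := hform a ha ha'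
      have nb := hb a ha b hb' hb''.1 (hinv a ha b hb' (Ne.symm hb''.2)) q hq e
      have nc := hb a ha c hc' hc''.1 (hinv a ha c hc' (Ne.symm hc''.2.1)) q hq e
      have nbc := hb a ha (b * c) (mul_mem hb' hc') (hinv b hb' c hc' (Ne.symm hc''.2.2.1))
        (fun e' => hc''.2.2.2 (by
          rw [← mul_assoc, mul_eq_one_iff_eq_inv] at e'
          rw [e', inv_eq_of_mul_eq_one_right (hAsq c hc')])) q hq e
      apply nbc
      refine mul_inv_eq_iff_eq_mul.1 ?_
      rw [show q * (b * c) * q⁻¹ = q * b * q⁻¹ * (q * c * q⁻¹) by group, S.ord.xt.move hq hb'.1 nb,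
        S.ord.xt.move hq hc'.1 nc, mul_assoc b, ← mul_assoc z, (S.ord.xt.cen c hc'.1).eq, mul_assoc c,
        S.ord.xt.sq, mul_one]
    have hk := (FT.small U hU2 hUG hUt).2 (f.vec '' (A : Set G)) (hcardA.trans hA4) (by
      rintro _ ⟨⟨d, hd, rfl⟩, -⟩ _ ⟨v, hv, rfl⟩
      obtain ⟨q, hq, rfl⟩ := f.vec_surj v
      exact hmoveD d hd q hq (hmov q hq hv))
    rw [hcardU]
    have h3 := Nat.mul_le_mul (hhalf.trans (Nat.mul_le_mul_left 2 hk)) hA4
    split_ifs at h3 ⊢ <;> exact h3.trans (by norm_num)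
  · -- some element moves to the other coset
    push Not at hmov
    obtain ⟨q0, hq0, hq0v, hq0c⟩ := hmov
    have e0 := hqy q0 hq0 hq0v hq0c
    have hAR : ∀ a ∈ A, f.vec a ∈ Rg t → a = 1 := by
      intro a ha hv
      obtain ⟨q, hq, e | e⟩ := hrange a ha.1 hv
      · exact hexact a ha q e
      by_cases hc : Commute q0 a
      · refine hexact a ha (q0 * q) ?_
        calc q0 * q * y * (q0 * q)⁻¹ = q0 * (q * y * q⁻¹) * q0⁻¹ := by group
          _ = (q0 * a * q0⁻¹) * (q0 * z * q0⁻¹) * (q0 * y * q0⁻¹) := by rw [e]; group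
          _ = a * z * (z * y) := by
            rw [hc.eq, mul_inv_cancel_right, ← (S.ord.xt.cen q0 hq0).eq, mul_inv_cancel_right, e0]
          _ = a * y := by rw [mul_assoc a, ← mul_assoc z, S.ord.xt.sq, one_mul]
      · exfalso
        refine hq0c ?_
        have hv' : f.vec q0 ∈ Fx t := hq0v
        obtain ⟨w, hw⟩ := hv
        replace hw : t w + w = f.vec a := hw
        have : bv (f.vec q0) (f.vec a) = 0 := by
          obtain ⟨b, hb, rfl⟩ := f.vec_surj w
          have hta : AddP t := Gam_addP htG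
          have hq : ∀ u, herm (t u) (t u) = herm u u := by
            intro u
            obtain ⟨p, hp, rfl⟩ := f.vec_surj u
            rw [ht, ← f.vec_conj yC p hp]
            have h1 := f.sq_val S (S.ord.normQ y hy p hp)
            have h2 := f.sq_val S hp
            rw [conj_mul, h2] at h1
            rcases herm_self_real (f.vec p) with ea | ea <;>
              rcases herm_self_real (f.vec (y * p * y⁻¹)) with eb | eb
            · rw [show (yC : G) = y from rfl, ea, eb]
            · exfalso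
              rw [if_pos ea, eb, if_neg one_ne_zero, mul_one, mul_inv_cancel] at h1
              exact S.ord.xt.ne h1.symm
            · exfalso
              rw [if_neg (ea ▸ one_ne_zero), eb, if_pos rfl, conj_eq_one_iff] at h1
              exact S.ord.xt.ne h1
            · rw [show (yC : G) = y from rfl, ea, eb]
          have hb : bv (f.vec q0) (t (f.vec b)) = bv (f.vec q0) (f.vec b) := by
            conv_lhs => rw [← show t (f.vec q0) = f.vec q0 from hv']
            rw [bv, bv, ← hta, hq, hq, hq]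
          rw [← hw, bv_symm, bv_add, bv_symm, hb, bv_symm (f.vec b), (show ∀ a : F4, a + a = 0 by decide +kernel)]
        refine absurd ((S.ord.xt.comm q0 hq0 a ha.1).resolve_right fun e' => ?_) fun e' => hc (mul_inv_eq_iff_eq_mul.1 e')
        have h2 : (q0 * a) * (q0 * a) = q0 * q0 * (a * a) * z := by
          calc (q0 * a) * (q0 * a) = q0 * (a * (q0 * a * q0⁻¹) * q0) := by group
            _ = q0 * (a * (a * z) * q0) := by rw [e']
            _ = q0 * (a * a * (z * q0)) := by group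
            _ = _ := by
              rw [hAsq a ha, one_mul, mul_one, (S.ord.xt.cen q0 hq0).eq, mul_assoc]
        rw [f.sq_val S (mul_mem hq0 ha.1), f.sq_val S hq0, f.sq_val S ha.1, f.vec_mul q0 hq0 a ha.1] at h2
        rw [bv] at this
        rw [(f.sq_iff a ha.1).1 (hAsq a ha), add_zero] at this
        rw [(f.sq_iff a ha.1).1 (hAsq a ha), if_pos rfl, mul_one,
          (show ∀ a b : F4, a + b = 0 → a = b by decide +kernel) _ _ this] at h2
        exact S.ord.xt.ne (mul_eq_left.1 h2.symm)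
    by_cases hK : t ∈ Kp
    · rw [if_pos hK]
      -- at most two common elements
      have hno : ∀ a ∈ A, a ≠ 1 → ¬ Commute q0 a := by
        intro a ha h1 hc
        refine h1 (hAR a ha (FT.perp _ fun v hv => ?_))
        obtain ⟨q, hq, rfl⟩ := f.vec_surj v
        by_cases hcy : Commute q y
        · exact f.comm_bv S ha.1 hq (hAD a ha q hq hcy).symm
        · have e1 := hqy q hq hv hcy
          have hcy' : Commute (q * q0) y := by
            refine mul_inv_eq_iff_eq_mul.1 ?_
            calc q * q0 * y * (q * q0)⁻¹ = q * (q0 * y * q0⁻¹) * q⁻¹ := by group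
              _ = (q * z * q⁻¹) * (q * y * q⁻¹) := by rw [e0]; group
              _ = y := by
                rw [← (S.ord.xt.cen q hq).eq, mul_inv_cancel_right, e1, ← mul_assoc, S.ord.xt.sq, one_mul]
          refine f.comm_bv S ha.1 hq ?_
          have := ((hAD a ha _ (mul_mem hq hq0) hcy').symm).mul_right hc.symm.inv_right
          rwa [mul_inv_cancel_right] at this
      have hA2 : Nat.card A ≤ 2 := by
        by_cases hA1 : ∀ a ∈ A, a = 1
        · rw [show A = ⊥ from (Subgroup.eq_bot_iff_forall A).2 hA1, Subgroup.card_bot]; norm_num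
        push Not at hA1
        obtain ⟨a0, ha0, ha01⟩ := hA1
        rw [show Nat.card A = (A : Set G).ncard from Nat.card_coe_set_eq _]
        refine (Set.ncard_le_ncard (t := {1, a0}) (fun a ha => ?_) (Set.toFinite _)).trans
          ((Set.ncard_insert_le _ _).trans (by simp))
        by_cases h1 : a = 1
        · exact Or.inl h1
        refine Or.inr ?_
        by_contra hne'
        refine hno (a * a0) (mul_mem ha ha0) (fun e => hne' ?_) ?_
        · rw [mul_eq_one_iff_eq_inv] at e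
          rw [e]; exact inv_eq_of_mul_eq_one_right (hAsq a0 ha0)
        · refine mul_inv_eq_iff_eq_mul.1 ?_
          rw [show q0 * (a * a0) * q0⁻¹ = q0 * a * q0⁻¹ * (q0 * a0 * q0⁻¹) by group,
            S.ord.xt.move hq0 ha.1 (hno a ha h1), S.ord.xt.move hq0 ha0.1 (hno a0 ha0 ha01), mul_assoc a,
            ← mul_assoc z, (S.ord.xt.cen a0 ha0.1).eq, mul_assoc a0, S.ord.xt.sq, mul_one]
      -- the span of the moved parts
      obtain ⟨u0, hu0⟩ : ∃ u0, f.vec '' (A : Set G) ⊆ {0, u0} := by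
        by_cases hA1 : ∀ a ∈ A, a = 1
        · exact ⟨0, by rintro _ ⟨a, ha, rfl⟩; rw [hA1 a ha, f.vec_one S]; exact Or.inl rfl⟩
        push Not at hA1
        obtain ⟨a0, ha0, ha01⟩ := hA1
        refine ⟨f.vec a0, ?_⟩
        rintro _ ⟨a, ha, rfl⟩
        by_cases h1 : a = 1
        · rw [h1, f.vec_one S]; exact Or.inl rfl
        · refine Or.inr ?_
          have e : a = a0 := by
            by_contra hne'
            have := Set.ncard_le_ncard (s := ({1, a, a0} : Set G)) (t := (A : Set G))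
              (by rintro v (rfl | rfl | rfl); exacts [one_mem _, ha, ha0]) (Set.toFinite _)
            rw [Set.ncard_insert_of_notMem (by simp [Ne.symm h1, Ne.symm ha01]) (Set.toFinite _),
              Set.ncard_pair hne', ← show Nat.card A = (A : Set G).ncard from Nat.card_coe_set_eq _] at this
            exact absurd (this.trans (le_of_eq_of_le rfl hA2)) (by norm_num)
          rw [e]; rfl
      let W : Set V6 := {0, u0, F4.w • u0, F4.v • u0}
      have hk := (FT.small U hU2 hUG hUt).2 W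
        ((Set.ncard_insert_le _ _).trans (Nat.succ_le_succ ((Set.ncard_insert_le _ _).trans
          (Nat.succ_le_succ ((Set.ncard_insert_le _ _).trans (by simp)))))) (by
        rintro _ ⟨⟨d, hd, rfl⟩, hdK⟩ _ ⟨v, hv, rfl⟩
        have hin : ∀ v ∈ Fx t, (∀ q ∈ Q, f.vec q = v → Commute q y) → f.π d v + v ∈ ({0, u0} : Set V6) := by
          intro v _ h
          obtain ⟨q, hq, rfl⟩ := f.vec_surj v
          exact hu0 (hmoveD d hd q hq (h q hq rfl))
        have hwfix : ∀ v ∈ Fx t, F4.w • v ∈ Fx t := fun v hv => by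
          show t (F4.w • v) = F4.w • v
          rw [(Kp_le_LinG hK).smul, show t v = v from hv]
        have hchar : ∀ v ∈ Fx t, ∀ q ∈ Q, ∀ q' ∈ Q, f.vec q = v → f.vec q' = v → Commute q y → Commute q' y := by
          intro v _ q hq q' hq' e e' hc
          rcases (f.vec_eq q hq q' hq').1 (e.trans e'.symm) with rfl | rfl
          · exact hc
          · exact hc.mul_left hy.symm
        have hsum : ∀ v ∈ Fx t, ∀ w ∈ Fx t, ∀ p ∈ Q, ∀ p' ∈ Q, f.vec p = v → f.vec p' = w →
            ¬ Commute p y → ¬ Commute p' y → ∀ q ∈ Q, f.vec q = v + w → Commute q y := by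
          intro v hv w hw p hp p' hp' e e' h h' q hq eq'
          refine hchar (v + w) (by
            show t (v + w) = v + w
            rw [Gam_addP htG, show t v = v from hv, show t w = w from hw]) (p * p') (mul_mem hp hp') q hq
            (by rw [f.vec_mul p hp p' hp', e, e']) eq' ?_
          refine mul_inv_eq_iff_eq_mul.1 ?_
          calc p * p' * y * (p * p')⁻¹ = p * (p' * y * p'⁻¹) * p⁻¹ := by group
            _ = (p * z * p⁻¹) * (p * y * p⁻¹) := by
              rw [hqy p' hp' (e'.symm ▸ hw) h']; group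
            _ = y := by
              rw [← (S.ord.xt.cen p hp).eq, mul_inv_cancel_right, hqy p hp (e.symm ▸ hv) h, ← mul_assoc,
                S.ord.xt.sq, one_mul]
        obtain ⟨q, hq, rfl⟩ := f.vec_surj v
        set v := f.vec q
        have hlin := Kp_le_LinG hdK
        by_cases h : Commute q y
        · rcases hin v hv (fun q' hq' e => hchar v hv q hq q' hq' rfl e h) with e | e
          · exact Or.inl e
          · exact Or.inr (Or.inl e)
        obtain ⟨p, hp, hpe⟩ := f.vec_surj (F4.w • v)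
        by_cases h' : Commute p y
        · have h1 := hin _ (hwfix v hv) fun q' hq' e => hchar _ (hwfix v hv) p hp q' hq' hpe e h'
          rw [hlin.smul, ← smul_add] at h1
          show f.π d v + v ∈ W
          have e0 : f.π d v + v = F4.v • (F4.w • (f.π d v + v)) := by
            rw [smul_smul, show (F4.v : F4) * F4.w = 1 by decide +kernel, one_smul]
          rcases h1 with e | e <;> rw [e0, e]
          · exact Or.inl (smul_zero _)
          · exact Or.inr (Or.inr (Or.inr rfl))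
        · have h1 := hin (v + F4.w • v) (by
            show t (v + F4.w • v) = _
            rw [Gam_addP htG, show t v = v from hv, show t (F4.w • v) = _ from hwfix v hv])
            fun q' hq' e => hsum v hv _ (hwfix v hv) q hq p hp rfl hpe h h' q' hq' e
          rw [show v + F4.w • v = F4.v • v by
            rw [← one_smul F4 v, smul_smul, ← add_smul, smul_smul]; congr 1] at h1
          rw [show f.π d (F4.v • v) = F4.v • f.π d v by
            rw [show (F4.v : F4) = F4.w * F4.w from rfl, mul_smul, hlin.smul, hlin.smul, smul_smul], ← smul_add] at h1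
          show f.π d v + v ∈ W
          have e0 : f.π d v + v = F4.w • (F4.v • (f.π d v + v)) := by
            rw [smul_smul, show (F4.w : F4) * F4.v = 1 by decide +kernel, one_smul]
          rcases h1 with e | e <;> rw [e0, e]
          · exact Or.inl (smul_zero _)
          · exact Or.inr (Or.inr (Or.inl rfl)))
      rw [if_pos hK] at hk
      rw [hcardU]
      exact (Nat.mul_le_mul (hhalf.trans (Nat.mul_le_mul_left 2 hk)) hA2).trans (by norm_num)
    · rw [if_neg hK]
      have hA1 : ∀ a ∈ A, a = 1 := fun a ha => hAR a ha (FT.outer_sub hK (by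
        show t (f.vec a) = f.vec a
        rw [ht, ← f.vec_conj yC a ha.1]
        show f.vec (y * a * y⁻¹) = _
        rw [← (hAy a ha).eq, mul_inv_cancel_right]))
      have hA' : Nat.card A = 1 := by rw [show A = ⊥ from (Subgroup.eq_bot_iff_forall A).2 hA1, Subgroup.card_bot]
      have hfixD : ∀ d ∈ DC, ∀ q ∈ Q, Commute q y → f.π d (f.vec q) + f.vec q = 0 := by
        intro d hd q hq hqy'
        obtain ⟨a, ha, e⟩ := hmoveD d hd q hq hqy'
        rw [← e, hA1 a ha, f.vec_one S]
      have hk := (FT.small U hU2 hUG hUt).1 (by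
        rintro _ ⟨⟨d, hd, rfl⟩, hdK⟩
        refine (Set.ncard_le_ncard (t := {0, f.π d (f.vec q0) + f.vec q0}) ?_ (Set.toFinite _)).trans
          ((Set.ncard_insert_le _ _).trans (by simp))
        rintro _ ⟨v, hv, rfl⟩
        obtain ⟨q, hq, rfl⟩ := f.vec_surj v
        show f.π d (f.vec q) + f.vec q ∈ ({0, _} : Set V6)
        by_cases hc : Commute q y
        · exact Or.inl (hfixD d hd q hq hc)
        · refine Or.inr ?_
          have hcy' : Commute (q * q0) y := by
            refine mul_inv_eq_iff_eq_mul.1 ?_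
            calc q * q0 * y * (q * q0)⁻¹ = q * (q0 * y * q0⁻¹) * q⁻¹ := by group
              _ = (q * z * q⁻¹) * (q * y * q⁻¹) := by rw [e0]; group
              _ = y := by
                rw [← (S.ord.xt.cen q hq).eq, mul_inv_cancel_right, hqy q hq hv hc, ← mul_assoc, S.ord.xt.sq, one_mul]
          have h1 := hfixD d hd _ (mul_mem hq hq0) hcy'
          rw [f.vec_mul q hq q0 hq0, Gam_addP ((f.range _).2 ⟨d, rfl⟩)] at h1
          exact (show ∀ a b c e : V6, a + b + (c + e) = 0 → a + c = b + e from fun a b c e h => by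
            calc a + c = a + b + (c + e) + (b + e) := by
                  rw [show a + b + (c + e) + (b + e) = a + c + (b + b) + (e + e) by abel, v6_two, v6_two,
                    add_zero, add_zero]
              _ = b + e := by rw [h, zero_add]) _ _ _ _ h1)
      rw [hcardU, hA', mul_one]
      exact (hhalf.trans (Nat.mul_le_mul_left 2 hk)).trans (by norm_num)

/-- the involution is conjugate to another element of its subgroup -/
theorem Setup.nwc [IsSimpleGroup G] (hG : ¬ IsMulCommutative G) : ∃ g : G, g * z * g⁻¹ ∈ Q ∧ g * z * g⁻¹ ≠ z := by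
  obtain ⟨f⟩ := S.exists_frame
  obtain ⟨g, hy, hne⟩ := exists_moved hG S.zord
  by_contra hno
  push Not at hno
  have hW : Wc z Q := hno
  have hy' : Commute (g⁻¹ * z * g⁻¹⁻¹) z := by
    have := (Commute.conj_iff g⁻¹).2 hy.symm
    rwa [inv_inv, show g⁻¹ * (g * z * g⁻¹) * g = z by group, show g⁻¹ * z * g = g⁻¹ * z * g⁻¹⁻¹ by rw [inv_inv]] at this
  have hne' : g⁻¹ * z * g⁻¹⁻¹ ≠ z := fun e => hne (by
    calc g * z * g⁻¹ = g * (g⁻¹ * z * g⁻¹⁻¹) * g⁻¹ := by rw [e]
      _ = z := by group)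
  have key : ∀ (a : G) (ha : Commute (a * z * a⁻¹) z) (ha' : a * z * a⁻¹ ≠ z) (hb : Commute (a⁻¹ * z * a⁻¹⁻¹) z)
      (hb' : a⁻¹ * z * a⁻¹⁻¹ ≠ z),
      (if f.π ⟨a⁻¹ * z * a⁻¹⁻¹, Subgroup.mem_centralizer_singleton_iff.2 hb⟩ ∈ Kp then 256 else 64) ≤
      if f.π ⟨a * z * a⁻¹, Subgroup.mem_centralizer_singleton_iff.2 ha⟩ ∈ Kp then 128 else 16 := by
    intro a ha ha' hb hb'
    obtain ⟨m1, m2, m3⟩ := S.pi_y f hW hb hb'
    rw [← (invol_facts f.mdl m1 m3 m2).fix_card]
    refine (S.cent_card f hW hb hb').trans ?_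
    rw [inv_inv, ← S.card_DG a]
    exact S.pair_bound f hW ha ha'
  have k1 := key g hy hne hy' hne'
  have k2 := key g⁻¹ hy' hne' (by simpa using hy) (by simpa using hne)
  simp only [inv_inv] at k1 k2
  split_ifs at k1 k2 <;> omega

end Cfsg.Agent.Spor.JFour
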