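import Cfsg.Agent.Lib.Spor.JFourOctDefs

/-!
The checks for the normaliser of a self-centralising elementary abelian subgroup of order 2^10 hold.
-/

set_option autoImplicit false
set_option maxRecDepth 100000
set_option maxHeartbeats 4000000

namespace Cfsg.Agent.Spor.JFour.OChk

theorem kap_ok : kapOK = true := by decide +kernel

theorem al_ok : aLOK = true := by decide +kernel

theorem w_ok : wOK = true := by decide +kernel

theorem u_ok : uOK = true := by decide +kernel

theorem norm_ok : (List.range 2048).all normOne = true := by decide +kernel

theorem coord_ok : coordOK = true := by decide +kernel

theorem wset_ok : wSetOK = true := by decide +kernel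

theorem gen_ok : genOK = true := by decide +kernel

theorem orb_ok : orbOK = true := by decide +kernel

end Cfsg.Agent.Spor.JFour.OChk
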