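import Cfsg.Agent.Lib.Spor.WedgeFiveData

/-!
Checkers for the exterior square of a binary space of dimension five, on numbers below 32 and below 1024.
-/

set_option autoImplicit false

namespace Cfsg.Agent.Spor.Wedge5.Chk

/-- bit test -/
def bt (m j : Nat) : Bool := Nat.beq (Nat.land (Nat.shiftRight m j) 1) 1

/-- a coordinate of the product -/
def wbit (p q i j : Nat) : Nat := bif (bt p i && bt q j) ^^ (bt p j && bt q i) then 1 else 0

/-- the product -/
def wg (p q : Nat) : Nat :=
  Nat.add (wbit p q 0 1) (Nat.add (Nat.mul 2 (wbit p q 0 2)) (Nat.add (Nat.mul 4 (wbit p q 0 3))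
    (Nat.add (Nat.mul 8 (wbit p q 0 4)) (Nat.add (Nat.mul 16 (wbit p q 1 2)) (Nat.add (Nat.mul 32 (wbit p q 1 3))
      (Nat.add (Nat.mul 64 (wbit p q 1 4)) (Nat.add (Nat.mul 128 (wbit p q 2 3))
        (Nat.add (Nat.mul 256 (wbit p q 2 4)) (Nat.mul 512 (wbit p q 3 4))))))))))

/-- the table of a vector -/
def starM (p : Nat) : Nat := Dat.starL.getD p 0

/-- decomposable -/
def isD (c : Nat) : Bool := bt Dat.dM c

/-- the tables are right -/
def starOK (p : Nat) : Bool :=
  Nat.beq p 0 || Nat.beq (starM p) ((List.range 32).foldl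
    (fun m q => bif Nat.beq q 0 || Nat.beq q p then m else Nat.lor m (Nat.shiftLeft 1 (wg p q))) 0)

/-- the decomposable members are those of the tables -/
def dmOK : Bool :=
  Nat.beq Dat.dM ((List.range 32).foldl (fun m p => Nat.lor m (starM p)) 0) &&
    Nat.beq Dat.dM (Dat.nbL.foldl (fun m e => Nat.lor m (Nat.shiftLeft 1 e.1)) 0) && !isD 0

/-- compatible members -/
def nbOK : Bool :=
  Dat.nbL.all fun e => Nat.beq e.2 (Dat.nbL.foldl
    (fun m d => bif Nat.beq d.1 e.1 || isD (Nat.xor d.1 e.1) then Nat.lor m (Nat.shiftLeft 1 d.1) else m) 0)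

/-- clear the lowest bit -/
def clr (m : Nat) : Nat := Nat.land m (Nat.sub m 1)

/-- at most eight bits -/
def few8 (m : Nat) : Bool := Nat.beq (clr (clr (clr (clr (clr (clr (clr (clr m)))))))) 0

/-- the vectors through two members -/
def meetL (a b : Nat) : List Nat := (List.range 32).filter fun p => bt (starM p) a && bt (starM p) b

/-- a third member -/
def cliqueC (S : Nat) (L : List Nat) (a b : Nat) (e : Nat × Nat) : Bool :=
  !bt S e.1 || Nat.beq e.1 a || Nat.beq e.1 b || Nat.beq e.1 (Nat.xor a b) ||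
    let T := Nat.land S e.2
    few8 T || L.any fun p => Nat.beq (Nat.land T (starM p)) T

/-- a second member -/
def cliqueB (a ma : Nat) (e : Nat × Nat) : Bool :=
  Nat.ble e.1 a || !bt ma e.1 ||
    let S := Nat.land ma e.2
    let L := meetL a e.1
    Dat.nbL.all fun d => cliqueC S L a e.1 d

/-- a pairwise compatible set of fifteen members lies on one vector -/
def cliqueOK (e : Nat × Nat) : Bool := Dat.nbL.all fun d => cliqueB e.1 e.2 d

/-- three tables with a common member -/
def lineOK (x : Nat) : Bool :=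
  Nat.beq x 0 || (List.range 32).all fun y => Nat.beq y 0 || Nat.beq y x ||
    let m := Nat.land (starM x) (starM y)
    Nat.beq m (Nat.shiftLeft 1 (wg x y)) && (List.range 32).all fun u => Nat.beq u x || Nat.beq u y || Nat.beq u (Nat.xor x y) ||
      Nat.beq (Nat.land m (starM u)) 0

end Cfsg.Agent.Spor.Wedge5.Chk
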