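import Cfsg.Agent.Lib.Spor.JFourOctData
import Cfsg.Agent.Lib.Spor.WedgeFiveDefs
import Cfsg.Agent.Lib.Spor.LFTMathieu
import Cfsg.Agent.Lib.Spor.GolayOctadFix

/-!
Checkers for the normaliser of a self-centralising elementary abelian subgroup of order 2^10 met in an octad.
-/

set_option autoImplicit false

namespace Cfsg.Agent.Spor.JFour.OChk

open ODat

/-- action of a permutation on coordinates of even sets -/
def act (l : List ℕ) (n : ℕ) : ℕ := LFT.Chk.app LFT.Dat.ptP (pm l (LFT.Chk.app LFT.Dat.unitM n) 0)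

/-- a member of the pointwise stabiliser -/
def kp (a : ℕ) : List ℕ := kap.getD a []

/-- action of the pointwise stabiliser -/
def ac (a n : ℕ) : ℕ := LFT.Chk.app (aL.getD a []) n

/-- fixed by the pointwise stabiliser -/
def isW (n : ℕ) : Bool := LFT.Chk.tb wM n

/-- fixed by the generators of the pointwise stabiliser -/
def fixFour (n : ℕ) : Bool :=
  Nat.beq (ac 1 n) n && Nat.beq (ac 2 n) n && Nat.beq (ac 4 n) n && Nat.beq (ac 8 n) n

/-- the tables of the action -/
def aLOK : Bool :=
  (List.range 16).all fun a => Nat.beq (aL.getD a []).length 11 &&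
    (aL.getD a []).all (Nat.blt · 2048) && (List.range 11).all fun i => Nat.beq (ac a (Nat.pow 2 i)) (act (kp a) (Nat.pow 2 i))

/-- the fixed coordinates are right -/
def wOK : Bool :=
  (List.range 2048).all fun n => (isW n == fixFour n) && (!isW n || (List.range 16).all fun a => Nat.beq (ac a n) n)

/-- the pair of the extra point and its image -/
def uP (l : List ℕ) : ℕ := LFT.Chk.app LFT.Dat.ptP (Nat.xor 32 (Nat.shiftLeft 1 (l.getD 5 0)))

/-- coordinates -/
def cN (c : ℕ) : ℕ := LFT.Chk.app bN c

/-- coordinates -/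
def cK (c : ℕ) : ℕ := LFT.Chk.app bK c

/-- inverse coordinates -/
def cd (n a : ℕ) : ℕ := LFT.Chk.app iV (Nat.add n (Nat.mul 2048 a))

/-- the table of the pointwise stabiliser -/
def kapOK : Bool :=
  Nat.beq kap.length 16 && kp 0 == List.range 24 &&
    ((List.range 16).all fun a => m24ok (kp a) && ((List.range 24).all fun i =>
      !Nat.testBit 5279 i || Nat.beq ((kp a).getD i 0) i) && (Nat.beq a 0 || !Nat.beq ((kp a).getD 5 0) 5) &&
      (List.range 16).all fun b => lmul (kp a) (kp b) == kp (Nat.xor a b)) &&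
    octFixElems.all fun l => kap.any fun m => l == m

/-- translations by pairs -/
def uOK : Bool :=
  (List.range 16).all fun b =>
    (Nat.beq b 0 || !isW (uP (kp b))) &&
      (List.range 16).all fun a => isW (Nat.xor (uP (kp b)) (ac a (uP (kp b))))

/-- the normaliser inside the space of sets -/
def normOne (n : ℕ) : Bool :=
  !([1, 2, 4, 8].all fun a => isW (Nat.xor n (ac a n))) ||
    (List.range 16).any fun b => isW (Nat.xor n (uP (kp b)))

/-- the coordinates are right -/
def coordOK : Bool :=
  ((List.range 1024).all fun c => Nat.blt (cN c) 2048 && Nat.blt (cK c) 16 && isW (cN c) &&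
      Nat.beq (cd (cN c) (cK c)) c) &&
    (List.range 2048).all fun n => !isW n || (List.range 16).all fun a =>
      Nat.blt (cd n a) 1024 && Nat.beq (cN (cd n a)) n && Nat.beq (cK (cd n a)) a

/-- members inside the octad -/
def wSetOK : Bool :=
  (wSet.all fun e => Nat.beq (Nat.land e.2 5279) e.2 && (Nat.beq (pc e.2) 2 || Nat.beq (pc e.2) 4) &&
    Nat.beq (LFT.Chk.app LFT.Dat.ptP e.2) e.1) &&
    (List.range 2048).all fun n => Nat.beq n 0 || !isW n || wSet.any fun e => Nat.beq e.1 n

/-- one generator -/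
def genOne (i : ℕ) : Bool :=
  let g := octStabGens.getD i []
  let L := gL.getD i []
  Nat.beq L.length 10 && L.all (Nat.blt · 1024) && (List.range 10).all fun j =>
    let c := Nat.pow 2 j
    let y := LFT.Chk.app L c
    lmul g (kp (cK c)) == lmul (kp (cK y)) g &&
      Nat.beq (cN y) (Nat.xor (uP g) (Nat.xor (act g (cN c)) (ac (cK y) (uP g))))

/-- all generators -/
def genOK : Bool := Nat.beq octStabGens.length 5 && (List.range 5).all genOne

/-- a tree -/
def treeOK (t : List (ℕ × ℕ × ℕ)) : Bool :=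
  Nat.blt (t.getD 0 (0, 0, 0)).1 1024 && (List.range t.length).all fun i =>
    Nat.beq i 0 || let e := t.getD i (0, 0, 0)
      Nat.blt e.2.1 5 && Nat.blt e.2.2 i &&
        Nat.beq (LFT.Chk.app (gL.getD e.2.1 []) (t.getD e.2.2 (0, 0, 0)).1) e.1

/-- members of a tree -/
def memT (t : List (ℕ × ℕ × ℕ)) (c : ℕ) : Bool := t.any fun e => Nat.beq e.1 c

/-- the four trees: lengths, kinds, and covering -/
def orbOK : Bool :=
  Nat.beq trP.length 28 && Nat.beq trQ.length 35 && Nat.beq trA.length 120 && Nat.beq trB.length 840 &&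
    treeOK trP && treeOK trQ && treeOK trA && treeOK trB &&
    (trP.all fun e => Nat.beq (cK e.1) 0 && wSet.any fun s => Nat.beq s.1 (cN e.1) && Nat.beq (pc s.2) 2) &&
    (trQ.all fun e => Nat.beq (cK e.1) 0 && wSet.any fun s => Nat.beq s.1 (cN e.1) && Nat.beq (pc s.2) 4) &&
    (trA.all fun e => !Nat.beq (cK e.1) 0) && (trB.all fun e => !Nat.beq (cK e.1) 0) &&
    ((List.range 1024).all fun c => Nat.beq c 0 || memT trP c || memT trQ c || memT trA c || memT trB c) &&
    Nat.beq Wedge5.Dat.dM ((trQ ++ trA).foldl (fun m e => Nat.lor m (Nat.shiftLeft 1 e.1)) 0)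

end Cfsg.Agent.Spor.JFour.OChk
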