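import Cfsg.Agent.Lib.Spor.LFTMathieu

/-!
Sets of points as elements of a subgroup with a point model: small sets and even subsets of a given set.
-/

set_option autoImplicit false
set_option maxRecDepth 100000
set_option linter.unusedSectionVars false

namespace Cfsg.Agent.Spor.JFour

open scoped Pointwise
open Cfsg.Agent.Spor.LFT (iT PointModel phN phN_lt phN_symm phN_empty phQ_zero phQ_code pair_table pair_inj)

theorem small_zero {s : Finset GolayPt} (he : Even s.card) (hc : s.card ≤ 6) (h : phN s = 0) : s = ∅ := by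
  have key : ∀ m ∈ codeMasks, m = 0 ∨ 6 < pc m := by decide +kernel
  rcases key _ ((phQ_code s).1 (phQ_zero.2 ⟨he, h⟩)) with e | e
  · exact mask_injective (e.trans (by decide +kernel : (0 : ℕ) = mask (∅ : Finset GolayPt)))
  · rw [pc_mask] at e; omega

theorem even_symmDiff {s t : Finset GolayPt} (hs : Even s.card) (ht : Even t.card) :
    Even (symmDiff s t).card := by
  have h1 := Finset.card_union_add_card_inter s t
  have h2 := Finset.card_sdiff_add_card s t
  have h3 := Finset.card_sdiff_add_card t s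
  rw [Finset.union_comm t s] at h3
  have h4 : (symmDiff s t).card = (s \ t).card + (t \ s).card :=
    Finset.card_union_of_disjoint disjoint_sdiff_sdiff
  rw [Nat.even_iff] at hs ht ⊢
  omega

theorem small_inj {s t : Finset GolayPt} (hs : Even s.card) (ht : Even t.card) (hc : s.card + t.card ≤ 6)
    (h : phN s = phN t) : s = t :=
  symmDiff_eq_bot.1 (small_zero (even_symmDiff hs ht)
    (((Finset.card_le_card (symmDiff_le_sup (a := s) (b := t))).trans (Finset.card_union_le s t)).trans hc)
    (by rw [phN_symm, h, Nat.xor_self]))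

universe u

variable {G : Type u} [Group G] [Finite G] {z : G} {V : Subgroup G} {ψ : ℕ → G} (m : PointModel z V ψ)

include m

theorem pt_symm (s t : Finset GolayPt) : ψ (phN (symmDiff s t)) = ψ (phN s) * ψ (phN t) := by
  rw [phN_symm, m.mul _ _ (phN_lt _) (phN_lt _)]

theorem pt_inv (s : Finset GolayPt) : (ψ (phN s))⁻¹ = ψ (phN s) :=
  inv_eq_of_mul_eq_one_right (m.sq _ (phN_lt s))

theorem pt_empty : ψ (phN (∅ : Finset GolayPt)) = 1 := by rw [phN_empty.1, m.one]

theorem pt_inj {s t : Finset GolayPt} (hs : Even s.card) (ht : Even t.card) (hc : s.card + t.card ≤ 6)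
    (h : ψ (phN s) = ψ (phN t)) : s = t :=
  small_inj hs ht hc (m.inj _ _ (phN_lt s) (phN_lt t) h)

theorem pair_iT {s : Finset GolayPt} (hs : s.card = 2) : iT z (ψ (phN s)) :=
  (m.cls _ (phN_lt s)).2 (pair_table s hs).2

theorem quad_conj {s : Finset GolayPt} (hs : s.card = 4) : IsConj z (ψ (phN s)) := by
  by_contra hn
  have he : Even s.card := by rw [hs]; decide
  have h1 : ψ (phN s) ≠ 1 := fun e => by
    have := pt_inj m (t := (∅ : Finset GolayPt)) he (by simp) (by rw [hs]; simp) (by rw [pt_empty m, e])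
    rw [this] at hs
    simp at hs
  obtain ⟨t, ht, e⟩ := m.eq_pair (phN_lt s) ((m.cls _ (phN_lt s)).1 ⟨h1, hn⟩)
  have := small_inj (s := t) (by rw [ht]; decide) he (by omega) e
  rw [this, hs] at ht
  omega

theorem z_or_pair {r : G} (hr : r ∈ V) (h1 : r ≠ 1) :
    IsConj z r ∨ ∃ s : Finset GolayPt, s.card = 2 ∧ r = ψ (phN s) := by
  by_cases hc : IsConj z r
  · exact Or.inl hc
  obtain ⟨n, hn, rfl⟩ := m.surj r hr
  obtain ⟨s, hs, e⟩ := m.eq_pair hn ((m.cls n hn).1 ⟨h1, hc⟩)
  exact Or.inr ⟨s, hs, by rw [e]⟩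

/-- the elements of the even subsets of a set of points -/
def US (S0 : Finset GolayPt) : Subgroup G where
  carrier := {r | ∃ e, e ⊆ S0 ∧ Even e.card ∧ r = ψ (phN e)}
  one_mem' := ⟨∅, Finset.empty_subset _, by simp, (pt_empty m).symm⟩
  mul_mem' := by
    rintro _ _ ⟨e, he, hc, rfl⟩ ⟨e', he', hc', rfl⟩
    exact ⟨symmDiff e e', (symmDiff_le_sup (a := e) (b := e')).trans (sup_le he he'), even_symmDiff hc hc',
      (pt_symm m e e').symm⟩
  inv_mem' := by
    rintro _ ⟨e, he, hc, rfl⟩
    exact ⟨e, he, hc, pt_inv m e⟩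

theorem US_le (S0 : Finset GolayPt) : US m S0 ≤ V := by
  rintro _ ⟨e, -, -, rfl⟩
  exact m.mem _ (phN_lt e)

theorem US_pair {S0 e : Finset GolayPt} (he : e ⊆ S0) (hc : e.card = 2) : ψ (phN e) ∈ US m S0 :=
  ⟨e, he, by rw [hc]; decide, rfl⟩

theorem US_card {S0 : Finset GolayPt} (h : S0.card ≤ 3) : Nat.card (US m S0) ≤ 4 := by
  classical
  set T := S0.powerset.filter fun e => Even e.card
  have hT : T.card ≤ 4 := by
    rcases S0.eq_empty_or_nonempty with rfl | ⟨a, ha⟩
    · refine (Finset.card_filter_le _ _).trans ?_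
      rw [Finset.card_powerset, Finset.card_empty]
      norm_num
    refine le_trans (Finset.card_le_card_of_injOn (t := (S0.erase a).powerset) (fun e => e.erase a)
      (fun e he => ?_) fun e he e' he' hee => ?_) ?_
    · rw [Finset.mem_coe, Finset.mem_powerset]
      exact Finset.erase_subset_erase a (Finset.mem_powerset.1 (Finset.mem_filter.1 he).1)
    · have h1 := (Finset.mem_filter.1 he).2
      have h2 := (Finset.mem_filter.1 he').2
      simp only at hee
      have hcard := congrArg Finset.card hee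
      by_cases ha1 : a ∈ e <;> by_cases ha2 : a ∈ e'
      · rw [← Finset.insert_erase ha1, hee, Finset.insert_erase ha2]
      · rw [Finset.card_erase_of_mem ha1, Finset.erase_eq_of_notMem ha2] at hcard
        have := Finset.card_pos.2 ⟨a, ha1⟩
        rw [Nat.even_iff] at h1 h2
        omega
      · rw [Finset.card_erase_of_mem ha2, Finset.erase_eq_of_notMem ha1] at hcard
        have := Finset.card_pos.2 ⟨a, ha2⟩
        rw [Nat.even_iff] at h1 h2
        omega
      · rwa [Finset.erase_eq_of_notMem ha1, Finset.erase_eq_of_notMem ha2] at hee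
    · rw [Finset.card_powerset, Finset.card_erase_of_mem ha]
      calc 2 ^ (S0.card - 1) ≤ 2 ^ 2 := Nat.pow_le_pow_right (by norm_num) (by omega)
        _ = 4 := by norm_num
  refine le_trans ?_ hT
  have hsub : (US m S0 : Set G) ⊆ (fun e => ψ (phN e)) '' (↑T : Set (Finset GolayPt)) := by
    rintro _ ⟨e, he, hc, rfl⟩
    exact ⟨e, Finset.mem_coe.2 (Finset.mem_filter.2 ⟨Finset.mem_powerset.2 he, hc⟩), rfl⟩
  rw [show Nat.card (US m S0) = (US m S0 : Set G).ncard from Nat.card_coe_set_eq _, ← Set.ncard_coe_finset T]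
  exact (Set.ncard_le_ncard hsub (T.finite_toSet.image _)).trans (Set.ncard_image_le T.finite_toSet)

omit m

end Cfsg.Agent.Spor.JFour
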