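import Cfsg.Agent.Lib.Spor.JFourOctChecks
import Cfsg.Agent.Lib.Spor.JFourPairs
import Cfsg.Agent.Lib.Spor.GolayLocal

/-!
The subgroup of order 2^10 met in an octad, inside a split extension of a space of sets of points by the Mathieu
group of degree 24, and its normaliser there.
-/

set_option autoImplicit false
set_option maxRecDepth 100000
set_option linter.unusedSectionVars false

namespace Cfsg.Agent.Spor.JFour

open scoped Pointwise
open Cfsg.Agent.Spor.LFT (iT PointModel Des phN phN_lt phN_symm phQ phQ_eq pair_inj)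
open OChk

attribute [local instance] Classical.propDecidable

/-- a point model with a complement acting as it describes -/
structure Spl {G : Type*} [Group G] (z : G) (V : Subgroup G) (ψ : ℕ → G) (κ : ↥Cfsg.M24 →* G) : Prop where
  elem : Cfsg.IsElementaryAbelian 2 V
  model : PointModel z V ψ
  des : ∀ σ : ↥Cfsg.M24, Des ψ (κ σ) (σ : Equiv.Perm GolayPt)
  norm : ∀ σ, κ σ ∈ Subgroup.normalizer (V : Set G)
  dec : ∀ y ∈ Subgroup.normalizer (V : Set G), ∃ σ, (κ σ)⁻¹ * y ∈ V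
  inj : ∀ σ, κ σ ∈ V → σ = 1

/-- the octad -/
abbrev oct0 : Finset GolayPt := ofMask 5279

/-- the extra point -/
abbrev d5 : GolayPt := pt 5

/-! ### facts about the tables -/

theorem kap_facts {a : ℕ} (ha : a < 16) : m24ok (kp a) = true ∧
    (∀ i, i < 24 → Nat.testBit 5279 i = true → (kp a).getD i 0 = i) ∧ (a ≠ 0 → (kp a).getD 5 0 ≠ 5) ∧
    ∀ b < 16, lmul (kp a) (kp b) = kp (a ^^^ b) := by
  have h := kap_ok
  simp only [kapOK, Bool.and_eq_true, List.all_eq_true, List.mem_range, Bool.or_eq_true, Bool.not_eq_true',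
    beq_iff_eq] at h
  obtain ⟨⟨⟨⟨-, -⟩, hall⟩, -⟩⟩ := And.intro h trivial
  obtain ⟨⟨⟨h1, h2⟩, h3⟩, h4⟩ := hall a ha
  refine ⟨h1, fun i hi ht => ?_, fun h0 e => ?_, h4⟩
  · rcases h2 i hi with e | e
    · rw [ht] at e; exact absurd e (by decide)
    · exact Nat.eq_of_beq_eq_true e
  · rcases h3 with e' | e'
    · exact h0 (Nat.eq_of_beq_eq_true e')
    · rw [e, Nat.beq_refl] at e'; exact absurd e' (by decide)

/-- members of the pointwise stabiliser as elements of the Mathieu group -/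
noncomputable def km (a : ℕ) : ↥Cfsg.M24 := if h : a < 16 then ⟨lperm (kp a), lperm_mem (kap_facts h).1⟩ else 1

theorem km_rep {a : ℕ} (ha : a < 16) : Rep (km a : Equiv.Perm GolayPt) (kp a) := by
  rw [km, dif_pos ha]
  exact rep_lperm (m24ok_lok (kap_facts ha).1)

theorem km_mul {a b : ℕ} (ha : a < 16) (hb : b < 16) : km a * km b = km (a ^^^ b) := by
  refine Subtype.ext (rep_unique ((km_rep ha).mul (km_rep hb)) ?_)
  rw [(kap_facts ha).2.2.2 b hb]
  exact km_rep (Nat.xor_lt_two_pow (n := 4) ha hb)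

theorem km_zero : km 0 = 1 := by
  refine Subtype.ext (rep_unique (km_rep (by norm_num)) fun p => ?_)
  have h := kap_ok
  simp only [kapOK, Bool.and_eq_true, beq_iff_eq] at h
  rw [h.1.1.2, List.getD_eq_getElem _ _ (by simpa using idx_lt p), List.getElem_range]
  rfl

theorem km_fix {a : ℕ} (ha : a < 16) {p : GolayPt} (hp : p ∈ oct0) : (km a : Equiv.Perm GolayPt) p = p :=
  idx_injective ((km_rep ha p).symm.trans ((kap_facts ha).2.1 _ (idx_lt p) (mem_ofMask.1 hp)))

theorem km_free {a : ℕ} (ha : a < 16) (h0 : a ≠ 0) : (km a : Equiv.Perm GolayPt) d5 ≠ d5 := fun e => by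
  refine (kap_facts ha).2.2.1 h0 ?_
  have := km_rep ha d5
  rw [e] at this
  rwa [show idx d5 = 5 from idx_pt 5 (by norm_num)] at this

theorem km_all {g : Equiv.Perm GolayPt} (hg : g ∈ fixM oct0) : ∃ a < 16, (km a : Equiv.Perm GolayPt) = g := by
  obtain ⟨l, hl, rfl⟩ := fixSix_elem (fixSix_le hg)
  have h := kap_ok
  simp only [kapOK, Bool.and_eq_true, List.all_eq_true, List.any_eq_true, beq_iff_eq] at h
  obtain ⟨m, hm, rfl⟩ := h.2 l hl
  obtain ⟨a, ha, rfl⟩ := List.getElem_of_mem hm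
  have hlen : ODat.kap.length = 16 := Nat.eq_of_beq_eq_true h.1.1.1
  refine ⟨a, hlen ▸ ha, rep_unique (km_rep (hlen ▸ ha)) ?_⟩
  rw [show kp a = ODat.kap[a] from List.getD_eq_getElem _ _ ha]
  exact rep_lperm (m24ok_lok (octFix_ok _ hl).1)

theorem appA_lt {k : ℕ} : ∀ (L : List ℕ) (c r : ℕ), (∀ u ∈ L, u < 2 ^ k) → r < 2 ^ k →
    LFT.Chk.appA L c r < 2 ^ k
  | [], c, r, _, hr => hr
  | u :: L, c, r, hL, hr => by
    refine appA_lt L _ _ (fun v hv => hL v (List.mem_cons_of_mem _ hv)) ?_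
    cases LFT.Chk.tb c 0
    · exact hr
    · exact Nat.xor_lt_two_pow hr (hL u List.mem_cons_self)

theorem app_pt_lt (m : ℕ) : LFT.Chk.app LFT.Dat.ptP m < 2048 :=
  appA_lt (k := 11) _ m 0 (by decide +kernel) (by norm_num)

theorem act_lt (l : List ℕ) (n : ℕ) : act l n < 2048 := app_pt_lt _

theorem app_zero' (L : List ℕ) : LFT.Chk.app L 0 = 0 := by
  have h := LFT.app_xor L 0 0
  rw [Nat.xor_self, Nat.xor_self] at h
  exact h

theorem app_ext {f g : ℕ → ℕ} {n : ℕ} (h0 : f 0 = g 0) (hu : ∀ i < n, f (2 ^ i) = g (2 ^ i))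
    (hf : ∀ a b, a < 2 ^ n → b < 2 ^ n → f (a ^^^ b) = f a ^^^ f b)
    (hg : ∀ a b, a < 2 ^ n → b < 2 ^ n → g (a ^^^ b) = g a ^^^ g b) : ∀ c, c < 2 ^ n → f c = g c := by
  suffices ∀ k, k ≤ n → ∀ c, c < 2 ^ k → f c = g c from this n le_rfl
  intro k
  induction k with
  | zero => intro _ c hc; obtain rfl : c = 0 := by omega
            exact h0
  | succ k ih =>
    intro hk c hc
    by_cases hb : c < 2 ^ k
    · exact ih (by omega) c hb
    have ht : c.testBit k = true := by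
      rw [Nat.testBit_eq_decide_div_mod_eq, decide_eq_true_iff]
      have h1 : c / 2 ^ k = 1 := Nat.div_eq_of_lt_le (by omega) (by rw [← pow_succ']; omega)
      rw [h1]
    have hlow : c ^^^ 2 ^ k < 2 ^ k := by
      refine Nat.lt_of_testBit k (by rw [Nat.testBit_xor, ht, Nat.testBit_two_pow_self]; rfl)
        (Nat.testBit_two_pow_self) fun j hj => ?_
      rw [Nat.testBit_xor, Nat.testBit_two_pow_of_ne (by omega), Bool.xor_false]
      exact Nat.testBit_lt_two_pow (lt_of_lt_of_le hc (Nat.pow_le_pow_right (by norm_num) hj))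
    have h2 : (2:ℕ) ^ k < 2 ^ n := Nat.pow_lt_pow_right (by norm_num) (by omega)
    have e : c = (c ^^^ 2 ^ k) ^^^ 2 ^ k := by rw [Nat.xor_assoc, Nat.xor_self, Nat.xor_zero]
    rw [e, hf _ _ (lt_trans hlow h2) h2, hg _ _ (lt_trans hlow h2) h2, ih (by omega) _ hlow, hu k (by omega)]

theorem cN_xor (a b : ℕ) : cN (a ^^^ b) = cN a ^^^ cN b := LFT.app_xor _ a b
theorem cK_xor (a b : ℕ) : cK (a ^^^ b) = cK a ^^^ cK b := LFT.app_xor _ a b

theorem coord_facts {c : ℕ} (hc : c < 1024) :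
    cN c < 2048 ∧ cK c < 16 ∧ isW (cN c) = true ∧ cd (cN c) (cK c) = c := by
  have h := coord_ok
  simp only [coordOK, Bool.and_eq_true, List.all_eq_true, List.mem_range] at h
  obtain ⟨⟨⟨h1, h2⟩, h3⟩, h4⟩ := h.1 c hc
  exact ⟨Nat.le_of_ble_eq_true h1, Nat.le_of_ble_eq_true h2, h3, Nat.eq_of_beq_eq_true h4⟩

theorem coord_surj {n a : ℕ} (hn : n < 2048) (hw : isW n = true) (ha : a < 16) :
    cd n a < 1024 ∧ cN (cd n a) = n ∧ cK (cd n a) = a := by
  have h := coord_ok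
  simp only [coordOK, Bool.and_eq_true, List.all_eq_true, List.mem_range, Bool.or_eq_true, Bool.not_eq_true'] at h
  rcases h.2 n hn with e | e
  · rw [hw] at e; exact absurd e (by decide)
  · obtain ⟨⟨h1, h2⟩, h3⟩ := e a ha
    exact ⟨Nat.le_of_ble_eq_true h1, Nat.eq_of_beq_eq_true h2, Nat.eq_of_beq_eq_true h3⟩

/-- a member inside the octad -/
theorem wset_cases {n : ℕ} (hn : n < 2048) (hw : isW n = true) (h0 : n ≠ 0) :
    ∃ s : Finset GolayPt, s ⊆ oct0 ∧ (s.card = 2 ∨ s.card = 4) ∧ phN s = n := by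
  have h := wset_ok
  simp only [wSetOK, Bool.and_eq_true, List.all_eq_true, List.mem_range, Bool.or_eq_true, Bool.not_eq_true',
    List.any_eq_true] at h
  rcases h.2 n hn with (e | e) | ⟨e', he', hee⟩
  · exact absurd (Nat.eq_of_beq_eq_true e) h0
  · rw [hw] at e; exact absurd e (by decide)
  obtain ⟨⟨h1, h2⟩, h3⟩ := h.1 e' he'
  have hlt : e'.2 < 2 ^ 24 := by
    rw [← Nat.eq_of_beq_eq_true h1]
    exact lt_of_le_of_lt Nat.and_le_right (by norm_num)
  refine ⟨ofMask e'.2, fun p hp => mem_ofMask.2 ?_, ?_, ?_⟩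
  · have e2 := mem_ofMask.1 hp
    rw [← Nat.eq_of_beq_eq_true h1] at e2
    have e3 : (e'.2 &&& 5279).testBit (idx p) = true := e2
    rw [Nat.testBit_and, Bool.and_eq_true] at e3
    exact e3.2
  · rw [← pc_mask, mask_ofMask hlt]
    exact h2.imp Nat.eq_of_beq_eq_true Nat.eq_of_beq_eq_true
  · rw [phN, mask_ofMask hlt, Nat.eq_of_beq_eq_true h3, Nat.eq_of_beq_eq_true hee]

theorem ac_lt {a : ℕ} (ha : a < 16) (m : ℕ) : ac a m < 2048 := by
  have h := al_ok
  simp only [aLOK, Bool.and_eq_true, List.all_eq_true, List.mem_range] at h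
  exact appA_lt (k := 11) _ m 0 (fun u hu => Nat.le_of_ble_eq_true ((h a ha).1.2 u hu)) (by norm_num)

theorem oct_smul {σ : Equiv.Perm GolayPt} (hσ : σ ∈ stabM oct0) {p : GolayPt} : σ p ∈ oct0 ↔ p ∈ oct0 := by
  have h : σ • oct0 = oct0 := hσ.2
  conv_lhs => rw [← h]
  exact Finset.smul_mem_smul_finset_iff σ

/-- the translation attached to an element of the stabiliser -/
def uS (σ : Equiv.Perm GolayPt) : ℕ := phN (symmDiff {d5} {σ d5})

theorem uS_lt (σ : Equiv.Perm GolayPt) : uS σ < 2048 := phN_lt _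

theorem uS_km {a : ℕ} (ha : a < 16) : uS (km a : Equiv.Perm GolayPt) = uP (kp a) := by
  rw [uS, phN, mask_symmDiff, LFT.mask_single, LFT.mask_single, ← km_rep ha d5,
    show idx d5 = 5 from idx_pt 5 (by norm_num), uP]
  show _ = LFT.Chk.app LFT.Dat.ptP (32 ^^^ 1 <<< (kp a).getD 5 0)
  rw [Nat.one_shiftLeft]
  rfl

theorem uS_same {σ : Equiv.Perm GolayPt} (hσ : σ ∈ stabM oct0) :
    ∃ a < 16, uS σ = uP (kp a) := by
  have hd : d5 ∉ oct0 := by
    rw [mem_ofMask, show idx d5 = 5 from idx_pt 5 (by norm_num)]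
    decide
  obtain ⟨l, hl, hl5⟩ := octFix_reg (σ d5) (fun h => hd ((oct_smul hσ).1 h))
  have hfix : lperm l ∈ fixM oct0 := by
    obtain ⟨hm, -, hfix⟩ := octFix_ok l hl
    exact mem_fixM.2 ⟨lperm_mem hm, fun p hp => idx_injective
      ((rep_lperm (m24ok_lok hm) p).symm.trans (hfix _ (idx_lt p) (mem_ofMask.1 hp)))⟩
  obtain ⟨a, ha, e⟩ := km_all hfix
  refine ⟨a, ha, ?_⟩
  rw [← uS_km ha, uS, uS, e]
  congr 3
  refine idx_injective ?_
  rw [← rep_lperm (m24ok_lok (octFix_ok l hl).1) d5, show idx d5 = 5 from idx_pt 5 (by norm_num), hl5]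

universe u

variable {G : Type u} [Group G] [Finite G] {z : G} {V : Subgroup G} {ψ : ℕ → G} {κ : ↥Cfsg.M24 →* G}

/-- an element in coordinates -/
noncomputable def phi (ψ : ℕ → G) (κ : ↥Cfsg.M24 →* G) (c : ℕ) : G := ψ (cN c) * κ (km (cK c))

variable (P : Spl z V ψ κ)
include P

theorem Spl.vcomm {a b : G} (ha : a ∈ V) (hb : b ∈ V) : Commute a b :=
  congrArg Subtype.val (P.elem.1.is_comm.comm (⟨a, ha⟩ : V) ⟨b, hb⟩)

theorem Spl.psi_even : ∀ (k : ℕ) (s : Finset GolayPt), s.card = 2 * k → ∀ σ : ↥Cfsg.M24,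
    κ σ * ψ (phN s) * (κ σ)⁻¹ = ψ (phN ((σ : Equiv.Perm GolayPt) • s)) := by
  intro k
  induction k with
  | zero =>
    intro s hs σ
    rw [Finset.card_eq_zero.1 hs, Finset.smul_finset_empty, LFT.phN_empty.1, P.model.one, mul_one, mul_inv_cancel]
  | succ k ih =>
    intro s hs σ
    obtain ⟨a, ha⟩ := Finset.card_pos.1 (by omega : 0 < s.card)
    obtain ⟨b, hb⟩ := Finset.card_pos.1 (by rw [Finset.card_erase_of_mem ha]; omega : 0 < (s.erase a).card)
    have hbs := Finset.mem_of_mem_erase hb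
    have hab : a ≠ b := Ne.symm (Finset.ne_of_mem_erase hb)
    set e : Finset GolayPt := {a, b}
    have hes : e ⊆ s := by simp [e, Finset.insert_subset_iff, ha, hbs]
    have he : e.card = 2 := Finset.card_pair hab
    have hr : (s \ e).card = 2 * k := by rw [Finset.card_sdiff_of_subset hes, he, hs]; omega
    have hse : s = symmDiff e (s \ e) := by
      rw [Disjoint.symmDiff_eq_sup disjoint_sdiff_self_right]
      exact (Finset.union_sdiff_of_subset hes).symm
    have hsm : (σ : Equiv.Perm GolayPt) • s =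
        symmDiff ((σ : Equiv.Perm GolayPt) • e) ((σ : Equiv.Perm GolayPt) • (s \ e)) := by
      conv_lhs => rw [hse, Finset.smul_finset_symmDiff]
    rw [hsm, phN_symm, P.model.mul _ _ (phN_lt _) (phN_lt _), ← ih _ hr σ, ← P.des σ e he]
    conv_lhs => rw [hse, phN_symm, P.model.mul _ _ (phN_lt _) (phN_lt _)]
    group

theorem Spl.psi_act {σ : ↥Cfsg.M24} {l : List ℕ} (hl : lok l = true)
    (hσ : Rep (σ : Equiv.Perm GolayPt) l) {n : ℕ} (hn : n < 2048) :
    κ σ * ψ n * (κ σ)⁻¹ = ψ (act l n) := by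
  have h := LFT.Chk.sur_ok
  simp only [LFT.Chk.surOK, List.all_eq_true, List.mem_range, Bool.and_eq_true] at h
  obtain ⟨h1, h2⟩ := h n (by omega)
  set m := LFT.Chk.app LFT.Dat.unitM n with hm
  have hm24 : m < 2 ^ 24 := Nat.le_of_ble_eq_true h1
  have hq : phQ (ofMask m) = n := by rw [LFT.phQ, mask_ofMask hm24]; exact Nat.eq_of_beq_eq_true h2
  have hlt := phN_lt (ofMask m)
  rw [phQ_eq] at hq
  obtain ⟨hev, hph⟩ : (ofMask m).card % 2 = 0 ∧ phN (ofMask m) = n := by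
    rcases Nat.mod_two_eq_zero_or_one (ofMask m).card with e | e
    · refine ⟨e, ?_⟩
      rw [e, mul_zero, Nat.xor_zero] at hq
      exact hq
    · exfalso
      rw [e, mul_one] at hq
      have : (phN (ofMask m) ^^^ 2048).testBit 11 = true := by
        rw [Nat.testBit_xor, Nat.testBit_lt_two_pow (show phN (ofMask m) < 2 ^ 11 from hlt)]
        rfl
      rw [hq, Nat.testBit_lt_two_pow (show n < 2 ^ 11 from hn)] at this
      exact absurd this (by decide)
  rw [← hph, P.psi_even ((ofMask m).card / 2) _ (by omega) σ, hph]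
  congr 1
  have hrep : (σ : Equiv.Perm GolayPt) = lperm l := rep_unique hσ (rep_lperm hl)
  rw [act, ← hm, phN, hrep, mask_smul_lperm hl, mask_ofMask hm24]

theorem Spl.psi_km {n a : ℕ} (hn : n < 2048) (ha : a < 16) :
    κ (km a) * ψ n * (κ (km a))⁻¹ = ψ (ac a n) := by
  have h := al_ok
  simp only [aLOK, Bool.and_eq_true, List.all_eq_true, List.mem_range] at h
  obtain ⟨⟨-, hlt⟩, hu⟩ := h a ha
  have hac : ∀ m, ac a m < 2048 := fun m =>
    appA_lt (k := 11) _ m 0 (fun u hu => Nat.le_of_ble_eq_true (hlt u hu)) (by norm_num)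
  have hex : ∀ m, ∃ r < 2048, m < 2048 → ψ r = κ (km a) * ψ m * (κ (km a))⁻¹ := fun m => by
    by_cases hm : m < 2048
    · obtain ⟨r, hr, e⟩ := P.model.surj _ ((Subgroup.mem_normalizer_iff.1 (P.norm (km a)) _).1 (P.model.mem _ hm))
      exact ⟨r, hr, fun _ => e⟩
    · exact ⟨0, by norm_num, fun h => absurd h hm⟩
  choose F hF hFe using hex
  have hF0 : F 0 = 0 := P.model.inj _ _ (hF 0) (by norm_num) (by
    rw [hFe 0 (by norm_num), P.model.one, mul_one, mul_inv_cancel])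
  have key := app_ext (f := F) (g := ac a) (n := 11) (by rw [hF0, ac, app_zero']) (fun i hi => by
      rw [show ac a (2 ^ i) = act (kp a) (2 ^ i) from Nat.eq_of_beq_eq_true (hu i hi)]
      have h2 : 2 ^ i < 2048 := (Nat.pow_lt_pow_right (by norm_num) hi : 2 ^ i < 2 ^ 11)
      refine P.model.inj _ _ (hF _) (act_lt _ _) ?_
      rw [hFe _ h2]
      exact P.psi_act (m24ok_lok (kap_facts ha).1) (km_rep ha) h2)
    (fun c d hc hd => by
      refine P.model.inj _ _ (hF _) (Nat.xor_lt_two_pow (n := 11) (hF c) (hF d)) ?_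
      rw [hFe _ (Nat.xor_lt_two_pow (n := 11) hc hd), P.model.mul _ _ (hF c) (hF d), hFe c hc, hFe d hd,
        P.model.mul _ _ hc hd, conj_mul])
    (fun c d _ _ => LFT.app_xor _ c d)
  rw [← key n hn, hFe n hn]

theorem Spl.fixed_comm {n a : ℕ} (hn : n < 2048) (hw : isW n = true) (ha : a < 16) :
    Commute (κ (km a)) (ψ n) := by
  have h := w_ok
  simp only [wOK, List.all_eq_true, List.mem_range, Bool.and_eq_true, Bool.or_eq_true, hw, Bool.not_true,
    Bool.false_eq_true, false_or] at h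
  have h2 := (h n hn).2
  simp only [hw, Bool.not_true, Bool.false_eq_true, false_or] at h2
  have e := P.psi_km hn ha
  rw [Nat.eq_of_beq_eq_true (h2 a ha)] at e
  exact mul_inv_eq_iff_eq_mul.1 e

theorem Spl.isW_of {n : ℕ} (hn : n < 2048) (hc : ∀ a, a < 16 → Commute (κ (km a)) (ψ n)) : isW n = true := by
  have h := w_ok
  simp only [wOK, List.all_eq_true, List.mem_range, Bool.and_eq_true, beq_iff_eq] at h
  rw [(h n hn).1]
  have key : ∀ a, a < 16 → Nat.beq (ac a n) n = true := fun a ha => by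
    have e := P.psi_km hn ha
    rw [(hc a ha).eq, mul_inv_cancel_right] at e
    rw [← P.model.inj _ _ hn (ac_lt ha n) e]
    exact Nat.beq_refl _
  simp only [fixFour, key 1 (by norm_num), key 2 (by norm_num), key 4 (by norm_num), key 8 (by norm_num), Bool.and_self]

/-- a pair inside the octad is fixed -/
theorem Spl.pair_fixed {s : Finset GolayPt} (hs : s.card = 2) (hso : s ⊆ oct0) : isW (phN s) = true := by
  refine P.isW_of (phN_lt _) fun a ha => mul_inv_eq_iff_eq_mul.1 ?_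
  rw [P.des _ s hs, show ((km a : Equiv.Perm GolayPt) • s) = s by
    rw [smul_finset_eq_image]
    exact (Finset.image_congr fun p hp => km_fix ha (hso hp)).trans Finset.image_id]

theorem Spl.phi_mul {c c' : ℕ} (hc : c < 1024) (hc' : c' < 1024) :
    phi ψ κ (c ^^^ c') = phi ψ κ c * phi ψ κ c' := by
  obtain ⟨h1, h2, h3, -⟩ := coord_facts hc
  obtain ⟨h1', h2', h3', -⟩ := coord_facts hc'
  rw [phi, cN_xor, cK_xor, P.model.mul _ _ h1 h1', ← km_mul h2 h2', map_mul]
  show _ = ψ (cN c) * κ (km (cK c)) * (ψ (cN c') * κ (km (cK c')))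
  rw [(P.fixed_comm h1' h3' h2).mul_mul_mul_comm]

theorem Spl.phi_zero : phi ψ κ 0 = 1 := by
  rw [phi, cN, cK, app_zero', app_zero', P.model.one, km_zero, map_one, one_mul]

theorem Spl.split_eq {n : ℕ} (hn : n < 2048) {σ : ↥Cfsg.M24} (h : ψ n * κ σ ∈ V) : σ = 1 :=
  P.inj σ (by simpa using mul_mem (inv_mem (P.model.mem n hn)) h)

theorem Spl.phi_inj {c c' : ℕ} (hc : c < 1024) (hc' : c' < 1024) (e : phi ψ κ c = phi ψ κ c') : c = c' := by
  have hx : c ^^^ c' < 1024 := Nat.xor_lt_two_pow (n := 10) hc hc'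
  obtain ⟨h1, h2, -, h4⟩ := coord_facts hx
  have h : phi ψ κ (c ^^^ c') = 1 := by
    rw [P.phi_mul hc hc', e, ← P.phi_mul hc' hc', Nat.xor_self, P.phi_zero]
  have hk := P.split_eq h1 (show ψ (cN (c ^^^ c')) * κ (km (cK (c ^^^ c'))) ∈ V by
    rw [show ψ (cN (c ^^^ c')) * κ (km (cK (c ^^^ c'))) = 1 from h]; exact one_mem V)
  have hk0 : cK (c ^^^ c') = 0 := by
    by_contra h0
    exact km_free h2 h0 (by rw [hk]; rfl)
  rw [phi, hk, map_one, mul_one] at h
  have hn0 : cN (c ^^^ c') = 0 := P.model.inj _ _ h1 (by norm_num) (h.trans P.model.one.symm)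
  rw [hk0, hn0, cd, show Nat.add 0 (Nat.mul 2048 0) = 0 from rfl, app_zero'] at h4
  exact Nat.xor_eq_zero_iff.1 h4.symm

/-- the subgroup -/
def Spl.ten : Subgroup G where
  carrier := {r | ∃ c < 1024, phi ψ κ c = r}
  one_mem' := ⟨0, by norm_num, P.phi_zero⟩
  mul_mem' := by
    rintro _ _ ⟨c, hc, rfl⟩ ⟨c', hc', rfl⟩
    exact ⟨c ^^^ c', Nat.xor_lt_two_pow (n := 10) hc hc', P.phi_mul hc hc'⟩
  inv_mem' := by
    rintro _ ⟨c, hc, rfl⟩
    refine ⟨c, hc, eq_inv_of_mul_eq_one_left ?_⟩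
    rw [← P.phi_mul hc hc, Nat.xor_self, P.phi_zero]

theorem Spl.ten_mem {n a : ℕ} (hn : n < 2048) (hw : isW n = true) (ha : a < 16) : ψ n * κ (km a) ∈ P.ten := by
  obtain ⟨h1, h2, h3⟩ := coord_surj hn hw ha
  exact ⟨cd n a, h1, by rw [phi, h2, h3]⟩

theorem Spl.ten_psi {n : ℕ} (hn : n < 2048) (hw : isW n = true) : ψ n ∈ P.ten := by
  have := P.ten_mem hn hw (show 0 < 16 by norm_num)
  rwa [km_zero, map_one, mul_one] at this

theorem Spl.ten_km {a : ℕ} (ha : a < 16) : κ (km a) ∈ P.ten := by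
  have hw0 : isW 0 = true := by decide +kernel
  have := P.ten_mem (n := 0) (by norm_num) hw0 ha
  rwa [P.model.one, one_mul] at this

theorem Spl.ten_elem : Cfsg.IsElementaryAbelian 2 P.ten := by
  refine ⟨⟨⟨fun a b => Subtype.ext ?_⟩⟩, ?_⟩
  · obtain ⟨c, hc, ea⟩ := a.2
    obtain ⟨c', hc', eb⟩ := b.2
    show (a : G) * b = b * a
    rw [← ea, ← eb, ← P.phi_mul hc hc', ← P.phi_mul hc' hc, Nat.xor_comm]
  · rintro _ ⟨c, hc, rfl⟩
    rw [pow_two, ← P.phi_mul hc hc, Nat.xor_self, P.phi_zero]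

theorem Spl.ten_card : Nat.card P.ten = 2 ^ 10 := by
  have e : Nat.card (Fin 1024) = Nat.card P.ten := by
    refine Nat.card_congr (Equiv.ofBijective (fun c => ⟨phi ψ κ c.val, c.val, c.2, rfl⟩) ⟨fun a b e => ?_, ?_⟩)
    · exact Fin.ext (P.phi_inj a.2 b.2 (congrArg Subtype.val e))
    · rintro ⟨r, c, hc, rfl⟩
      exact ⟨⟨c, hc⟩, rfl⟩
  rw [← e, Nat.card_fin]
  norm_num

theorem Spl.ten_meet {n : ℕ} (hn : n < 2048) {σ : ↥Cfsg.M24} (h : ψ n * κ σ ∈ P.ten) :
    isW n = true ∧ ∃ a < 16, km a = σ := by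
  obtain ⟨c, hc, e⟩ := h
  obtain ⟨h1, h2, h3, -⟩ := coord_facts hc
  rw [phi] at e
  have hσ : (km (cK c))⁻¹ * σ = 1 := P.inj _ (by
    rw [map_mul, map_inv]
    have e2 : (κ (km (cK c)))⁻¹ * κ σ = (κ (km (cK c)))⁻¹ * ((ψ n)⁻¹ * ψ (cN c)) * κ (km (cK c)) := by
      calc (κ (km (cK c)))⁻¹ * κ σ = (κ (km (cK c)))⁻¹ * (ψ n)⁻¹ * (ψ n * κ σ) := by group
        _ = _ := by rw [← e]; group
    rw [e2]
    exact (Subgroup.mem_normalizer_iff''.1 (P.norm (km (cK c))) _).1
      (mul_mem (inv_mem (P.model.mem n hn)) (P.model.mem _ h1)))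
  have hσ' : km (cK c) = σ := inv_mul_eq_one.1 hσ
  rw [← hσ'] at e
  refine ⟨?_, cK c, h2, hσ'⟩
  rw [P.model.inj _ _ hn h1 (mul_right_cancel e).symm]
  exact h3

theorem Spl.ten_V {n : ℕ} (hn : n < 2048) (h : ψ n ∈ P.ten) : isW n = true :=
  (P.ten_meet hn (σ := 1) (by rwa [map_one, mul_one])).1

/-- it contains its centraliser, once the members inside the octad control normalisers -/
theorem Spl.ten_self (hcen : ∀ t y : G, iT z t → t ∈ V → Commute y t → y ∈ Subgroup.normalizer (V : Set G)) :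
    Subgroup.centralizer (P.ten : Set G) = P.ten := by
  refine le_antisymm (fun y hy => ?_) (fun a ha => Subgroup.mem_centralizer_iff.2 fun b hb =>
    congrArg Subtype.val (P.ten_elem.1.is_comm.comm (⟨b, hb⟩ : P.ten) ⟨a, ha⟩))
  have hcomm : ∀ r ∈ P.ten, Commute y r := fun r hr => (Subgroup.mem_centralizer_iff.1 hy r hr).symm
  have hpair := fun (s : Finset GolayPt) (hs : s.card = 2) (hso : s ⊆ oct0) => P.pair_fixed hs hso
  obtain ⟨p0, hp0, q0, hq0, hne⟩ : ∃ p ∈ oct0, ∃ q ∈ oct0, p ≠ q :=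
    Finset.one_lt_card.1 (by rw [show oct0.card = 8 from baseOctad_mem.2]; norm_num)
  have hs0 : ({p0, q0} : Finset GolayPt).card = 2 := Finset.card_pair hne
  have hso0 : ({p0, q0} : Finset GolayPt) ⊆ oct0 := by simp [Finset.insert_subset_iff, hp0, hq0]
  have hyN := hcen _ y (pair_iT P.model hs0) (P.model.mem _ (phN_lt _))
    (hcomm _ (P.ten_psi (phN_lt _) (hpair _ hs0 hso0)))
  obtain ⟨σ, hσ⟩ := P.dec y hyN
  set v := (κ σ)⁻¹ * y
  have hy' : y = κ σ * v := by simp [v]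
  have hfix : ∀ s : Finset GolayPt, s.card = 2 → s ⊆ oct0 → (σ : Equiv.Perm GolayPt) • s = s := by
    intro s hs hso
    refine pair_inj _ _ (by rw [Finset.card_smul_finset, hs]) hs (P.model.inj _ _ (phN_lt _) (phN_lt _) ?_)
    rw [← P.des σ s hs]
    have h := hcomm _ (P.ten_psi (phN_lt _) (hpair s hs hso))
    rw [hy'] at h
    have h2 : Commute v (ψ (phN s)) := P.vcomm hσ (P.model.mem _ (phN_lt _))
    calc κ σ * ψ (phN s) * (κ σ)⁻¹ = κ σ * (v * ψ (phN s) * v⁻¹) * (κ σ)⁻¹ := by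
          rw [h2.eq, mul_inv_cancel_right]
      _ = κ σ * v * ψ (phN s) * (κ σ * v)⁻¹ := by group
      _ = ψ (phN s) := by rw [h.eq, mul_inv_cancel_right]
  have hσfix : ∀ p ∈ oct0, (σ : Equiv.Perm GolayPt) p = p := by
    intro p hp
    obtain ⟨q, hq, hqp⟩ := Finset.exists_mem_ne (by rw [show oct0.card = 8 from baseOctad_mem.2]; norm_num) p
    obtain ⟨r, hr, hrp, hrq⟩ : ∃ r ∈ oct0, r ≠ p ∧ r ≠ q := by
      have : ((oct0.erase p).erase q).Nonempty := Finset.card_pos.1 (by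
        rw [Finset.card_erase_of_mem (Finset.mem_erase.2 ⟨hqp, hq⟩), Finset.card_erase_of_mem hp,
          show oct0.card = 8 from baseOctad_mem.2]
        norm_num)
      obtain ⟨r, hr⟩ := this
      simp only [Finset.mem_erase] at hr
      exact ⟨r, hr.2.2, hr.2.1, hr.1⟩
    have h1 := hfix {p, q} (Finset.card_pair (Ne.symm hqp)) (by simp [Finset.insert_subset_iff, hp, hq])
    have h2 := hfix {p, r} (Finset.card_pair (Ne.symm hrp)) (by simp [Finset.insert_subset_iff, hp, hr])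
    have hp' : p ∈ ({p, q} : Finset GolayPt) := Finset.mem_insert_self _ _
    have hp'' : p ∈ ({p, r} : Finset GolayPt) := Finset.mem_insert_self _ _
    have e1 := Finset.smul_mem_smul_finset (a := (σ : Equiv.Perm GolayPt)) hp'
    have e2 := Finset.smul_mem_smul_finset (a := (σ : Equiv.Perm GolayPt)) hp''
    rw [h1] at e1
    rw [h2] at e2
    simp only [Finset.mem_insert, Finset.mem_singleton] at e1 e2
    rcases e1 with e | e
    · exact e
    · rcases e2 with e' | e'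
      · exact e'
      · exact absurd (e'.symm.trans e) hrq
  obtain ⟨a, ha, hk⟩ := km_all (mem_fixM.2 ⟨σ.2, hσfix⟩)
  obtain rfl : km a = σ := Subtype.ext hk
  obtain ⟨n, hn, hnv⟩ := P.model.surj v hσ
  have hw : isW n = true := P.isW_of hn fun b hb => by
    have hab : Commute (κ (km a)) (κ (km b)) := by
      show κ (km a) * κ (km b) = κ (km b) * κ (km a)
      rw [← map_mul, ← map_mul, km_mul ha hb, km_mul hb ha, Nat.xor_comm]
    rw [hnv]
    exact (hab.inv_left.mul_left (hcomm _ (P.ten_km hb))).symm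
  rw [hy', ← hnv]
  exact mul_mem (P.ten_km ha) (P.ten_psi hn hw)

/-- the translation part composed with the complement -/
noncomputable def Spl.T : stabM oct0 →* G where
  toFun σ := ψ (uS (σ : Equiv.Perm GolayPt)) * κ ⟨σ.1, σ.2.1⟩
  map_one' := by
    have e : uS ((1 : stabM oct0) : Equiv.Perm GolayPt) = 0 := by
      rw [uS, OneMemClass.coe_one, Equiv.Perm.one_apply, phN_symm, Nat.xor_self]
    rw [e, P.model.one, one_mul]
    exact κ.map_one
  map_mul' σ τ := by
    have hev : ∀ π : Equiv.Perm GolayPt, ∃ k, (symmDiff {d5} {π d5} : Finset GolayPt).card = 2 * k := fun π => by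
      by_cases h : π d5 = d5
      · exact ⟨0, by simp [h]⟩
      · refine ⟨1, ?_⟩
        rw [Disjoint.symmDiff_eq_sup (Finset.disjoint_singleton.2 (Ne.symm h))]
        exact Finset.card_pair (Ne.symm h)
    obtain ⟨k, hk⟩ := hev (τ : Equiv.Perm GolayPt)
    have e2 := P.psi_even k _ hk ⟨σ.1, σ.2.1⟩
    show ψ (uS ((σ * τ : stabM oct0) : Equiv.Perm GolayPt)) * κ ⟨σ.1 * τ.1, _⟩ =
      ψ (uS (σ : Equiv.Perm GolayPt)) * κ ⟨σ.1, σ.2.1⟩ * (ψ (uS (τ : Equiv.Perm GolayPt)) * κ ⟨τ.1, τ.2.1⟩)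
    have e3 : uS ((σ * τ : stabM oct0) : Equiv.Perm GolayPt) = uS (σ : Equiv.Perm GolayPt) ^^^
        phN ((σ : Equiv.Perm GolayPt) • symmDiff {d5} {(τ : Equiv.Perm GolayPt) d5}) := by
      rw [Finset.smul_finset_symmDiff, Finset.smul_finset_singleton, Finset.smul_finset_singleton, uS, uS,
        phN_symm, phN_symm, phN_symm, Nat.xor_assoc, ← Nat.xor_assoc (phN {(σ : Equiv.Perm GolayPt) d5}),
        Equiv.Perm.smul_def, Equiv.Perm.smul_def, Nat.xor_self, Nat.zero_xor]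
      rfl
    rw [e3, P.model.mul _ _ (uS_lt _) (phN_lt _), ← e2, show (⟨σ.1 * τ.1, mul_mem σ.2.1 τ.2.1⟩ : ↥Cfsg.M24) =
      ⟨σ.1, σ.2.1⟩ * ⟨τ.1, τ.2.1⟩ from rfl, map_mul]
    unfold uS
    group

theorem Spl.T_norm (σ : stabM oct0) : P.T σ ∈ Subgroup.normalizer (P.ten : Set G) := by
  haveI : Finite ↥P.ten := inferInstance
  have hkconj : ∀ a, a < 16 → ∃ b < 16, km b = (⟨σ.1, σ.2.1⟩ : ↥Cfsg.M24) * km a * ⟨σ.1, σ.2.1⟩⁻¹ := by
    intro a ha
    have hfix : σ.1 * (km a : Equiv.Perm GolayPt) * σ.1⁻¹ ∈ fixM oct0 := by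
      have h : σ.1 • oct0 = oct0 := σ.2.2
      have h2 := (fixM_smul σ.2.1 oct0 (g := σ.1 * (km a : Equiv.Perm GolayPt) * σ.1⁻¹)).2 (by
        simp only [mul_assoc, inv_mul_cancel_left, inv_mul_cancel, mul_one]
        exact mem_fixM.2 ⟨(km a).2, fun p hp => km_fix ha hp⟩)
      rwa [h] at h2
    obtain ⟨b, hb, e⟩ := km_all hfix
    exact ⟨b, hb, Subtype.ext e⟩
  obtain ⟨a0, ha0, hu0⟩ := uS_same σ.2
  have hmap : ∀ r ∈ P.ten, P.T σ * r * (P.T σ)⁻¹ ∈ P.ten := by
    rintro _ ⟨c, hc, rfl⟩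
    obtain ⟨h1, h2, h3, -⟩ := coord_facts hc
    obtain ⟨b, hb, hb'⟩ := hkconj _ h2
    set s : ↥Cfsg.M24 := ⟨σ.1, σ.2.1⟩
    set u := uS (σ : Equiv.Perm GolayPt)
    obtain ⟨n', hn', e'⟩ := P.model.surj _ ((Subgroup.mem_normalizer_iff.1 (P.norm s) _).1 (P.model.mem _ h1))
    have hwn : isW n' = true := P.isW_of hn' fun e he => by
      -- a conjugate of a fixed member is fixed
      obtain ⟨e2, he2, hee⟩ : ∃ e2 < 16, km e2 = s⁻¹ * km e * s := by
        have hfix : σ.1⁻¹ * (km e : Equiv.Perm GolayPt) * σ.1 ∈ fixM oct0 := by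
          have h : σ.1 • oct0 = oct0 := σ.2.2
          refine (fixM_smul σ.2.1 oct0).1 ?_
          rw [h]
          exact mem_fixM.2 ⟨(km e).2, fun p hp => km_fix he hp⟩
        obtain ⟨b, hb, e'⟩ := km_all hfix
        exact ⟨b, hb, Subtype.ext e'⟩
      have hc' := P.fixed_comm h1 h3 he2
      have h4 : Commute (κ (km e)) (ψ n') := by
        rw [e', show km e = s * km e2 * s⁻¹ by rw [hee]; group, map_mul, map_mul, map_inv]
        exact (Commute.conj_iff _).2 hc'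
      exact h4
    have hu : ψ u * κ (km b) * (ψ u)⁻¹ ∈ P.ten := by
      have hlt : ac b u < 2048 := ac_lt hb _
      have hW : isW (u ^^^ ac b u) = true := by
        have h := u_ok
        simp only [uOK, Bool.and_eq_true, List.all_eq_true, List.mem_range] at h
        rw [show u = uP (kp a0) from hu0]
        exact (h a0 ha0).2 b hb
      have e1 : ψ u * κ (km b) * (ψ u)⁻¹ = ψ (u ^^^ ac b u) * κ (km b) := by
        rw [P.model.mul _ _ (uS_lt _) hlt, ← P.psi_km (uS_lt _) hb,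
          show (ψ u)⁻¹ = ψ u from inv_eq_of_mul_eq_one_right (P.model.sq _ (uS_lt _))]
        show ψ u * κ (km b) * ψ u = _
        group
        rfl
      rw [e1]
      exact P.ten_mem (Nat.xor_lt_two_pow (n := 11) (uS_lt _) hlt) hW hb
    show ψ u * κ s * (ψ (cN c) * κ (km (cK c))) * (ψ u * κ s)⁻¹ ∈ P.ten
    have e1 : ψ u * κ s * (ψ (cN c) * κ (km (cK c))) * (ψ u * κ s)⁻¹ =
        (ψ u * (κ s * ψ (cN c) * (κ s)⁻¹) * (ψ u)⁻¹) * (ψ u * κ (km b) * (ψ u)⁻¹) := by
      rw [hb', map_mul, map_mul, map_inv]; group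
    rw [e1, ← e', (P.vcomm (P.model.mem _ (uS_lt _)) (P.model.mem _ hn')).eq, mul_inv_cancel_right]
    exact mul_mem (P.ten_psi hn' hwn) hu
  refine Subgroup.mem_normalizer_iff.2 fun r => ⟨hmap r, fun hr => ?_⟩
  have hsur := (Finite.injective_iff_surjective (f := fun r : P.ten =>
    (⟨P.T σ * r * (P.T σ)⁻¹, hmap r r.2⟩ : P.ten))).1
    fun a b e => Subtype.ext (mul_left_cancel (mul_right_cancel (congrArg Subtype.val e)))
  obtain ⟨r', hr'⟩ := hsur ⟨_, hr⟩
  exact mul_left_cancel (mul_right_cancel (congrArg Subtype.val hr')) ▸ r'.2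

theorem Spl.T_V (σ : stabM oct0) : P.T σ ∈ Subgroup.normalizer (V : Set G) :=
  mul_mem (Subgroup.le_normalizer (P.model.mem _ (uS_lt _))) (P.norm _)

theorem Spl.T_meet {σ : stabM oct0} (h : P.T σ ∈ P.ten) : σ = 1 := by
  obtain ⟨hw, a, ha, hk⟩ := P.ten_meet (uS_lt _) h
  have hk' : (km a : Equiv.Perm GolayPt) = σ := congrArg Subtype.val hk
  rw [← hk', uS_km ha] at hw
  have h := u_ok
  simp only [uOK, Bool.and_eq_true, List.all_eq_true, List.mem_range, Bool.or_eq_true, Bool.not_eq_true'] at h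
  rcases (h a ha).1 with e | e
  · obtain rfl := Nat.eq_of_beq_eq_true e
    exact Subtype.ext (by rw [← hk', km_zero]; rfl)
  · rw [hw] at e; exact absurd e (by decide)

theorem Spl.ten_le : P.ten ≤ Subgroup.normalizer (V : Set G) := by
  rintro _ ⟨c, hc, rfl⟩
  exact mul_mem (Subgroup.le_normalizer (P.model.mem _ (coord_facts hc).1)) (P.norm _)

/-- the normaliser meets that of the space in the product -/
theorem Spl.meet_eq {y : G} (hyV : y ∈ Subgroup.normalizer (V : Set G))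
    (hyA : y ∈ Subgroup.normalizer (P.ten : Set G)) : ∃ a ∈ P.ten, ∃ σ, y = a * P.T σ := by
  obtain ⟨σ, hσ⟩ := P.dec y hyV
  set v := (κ σ)⁻¹ * y
  have hy' : y = κ σ * v := by simp [v]
  -- the octad is fixed
  have hpairs : ∀ s : Finset GolayPt, s.card = 2 → s ⊆ oct0 → (σ : Equiv.Perm GolayPt) • s ⊆ oct0 := by
    intro s hs hso
    have hin : ψ (phN s) ∈ P.ten := P.ten_psi (phN_lt _) (P.pair_fixed hs hso)
    have h1 := (Subgroup.mem_normalizer_iff.1 hyA _).1 hin
    have e1 : y * ψ (phN s) * y⁻¹ = ψ (phN ((σ : Equiv.Perm GolayPt) • s)) := by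
      rw [hy', ← P.des σ s hs, show κ σ * v * ψ (phN s) * (κ σ * v)⁻¹ = κ σ * (v * ψ (phN s) * v⁻¹) * (κ σ)⁻¹ by
        group, (P.vcomm hσ (P.model.mem _ (phN_lt _))).eq, mul_inv_cancel_right]
    rw [e1] at h1
    have hw := P.ten_V (phN_lt _) h1
    have hs' : ((σ : Equiv.Perm GolayPt) • s).card = 2 := by rw [Finset.card_smul_finset, hs]
    have hne : phN ((σ : Equiv.Perm GolayPt) • s) ≠ 0 := fun e =>
      (pair_iT P.model hs').1 (by rw [e, P.model.one])
    obtain ⟨s', hs'o, hc, e⟩ := wset_cases (phN_lt _) hw hne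
    rcases hc with hc | hc
    · rwa [← pair_inj _ _ hc hs' e]
    · exact absurd (e ▸ quad_conj P.model hc) (pair_iT P.model hs').2
  have hoct : (σ : Equiv.Perm GolayPt) • oct0 = oct0 := by
    refine Finset.eq_of_subset_of_card_le (fun p hp => ?_) (by rw [Finset.card_smul_finset])
    obtain ⟨q, hq, rfl⟩ := Finset.mem_smul_finset.1 hp
    obtain ⟨r, hr, hrq⟩ := Finset.exists_mem_ne (by rw [show oct0.card = 8 from baseOctad_mem.2]; norm_num) q
    exact hpairs {q, r} (Finset.card_pair (Ne.symm hrq)) (by simp [Finset.insert_subset_iff, hq, hr])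
      (Finset.smul_mem_smul_finset (Finset.mem_insert_self _ _))
  set σ' : stabM oct0 := ⟨(σ : Equiv.Perm GolayPt), σ.2, hoct⟩
  have hσ' : P.T σ' = ψ (uS (σ : Equiv.Perm GolayPt)) * κ σ := rfl
  set w := (P.T σ')⁻¹ * y
  have hwA : w ∈ Subgroup.normalizer (P.ten : Set G) := mul_mem (inv_mem (P.T_norm σ')) hyA
  have hwV : w ∈ V := by
    rw [show w = ((κ σ)⁻¹ * (ψ (uS (σ : Equiv.Perm GolayPt)))⁻¹ * κ σ) * v by simp only [w, v, hσ']; group]
    exact mul_mem ((Subgroup.mem_normalizer_iff''.1 (P.norm σ) _).1 (inv_mem (P.model.mem _ (uS_lt _)))) hσ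
  obtain ⟨n, hn, hnw⟩ := P.model.surj w hwV
  -- members of the space normalising it
  have hnorm : ∀ a, a < 16 → isW (n ^^^ ac a n) = true := by
    intro a ha
    have h1 := (Subgroup.mem_normalizer_iff.1 hwA _).1 (P.ten_km ha)
    have hlt : ac a n < 2048 := ac_lt ha _
    have e1 : w * κ (km a) * w⁻¹ = ψ (n ^^^ ac a n) * κ (km a) := by
      rw [P.model.mul _ _ hn hlt, ← P.psi_km hn ha, ← hnw,
        show (ψ n)⁻¹ = ψ n from inv_eq_of_mul_eq_one_right (P.model.sq _ hn)]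
      group
    rw [e1] at h1
    exact (P.ten_meet (Nat.xor_lt_two_pow (n := 11) hn hlt) h1).1
  have h := List.all_eq_true.1 norm_ok n (List.mem_range.2 hn)
  simp only [normOne, Bool.or_eq_true, Bool.not_eq_true', List.any_eq_true, List.mem_range,
    ← Bool.not_eq_true, List.all_eq_true] at h
  obtain ⟨b, hb, hbw⟩ := h.resolve_left (fun hh => hh fun a ha => hnorm a (by
    simp only [List.mem_cons, List.not_mem_nil, or_false] at ha
    omega))
  have hlt : uP (kp b) < 2048 := uS_km hb ▸ uS_lt _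
  set kb : stabM oct0 := ⟨(km b : Equiv.Perm GolayPt), fixM_le_stabM _
    (mem_fixM.2 ⟨(km b).2, fun p hp => km_fix hb hp⟩)⟩
  have hTb : P.T kb = ψ (uP (kp b)) * κ (km b) := by
    show ψ (uS (km b : Equiv.Perm GolayPt)) * κ _ = _
    rw [uS_km hb]
  set n' := n ^^^ uP (kp b) with hn'
  have hn'lt : n' < 2048 := Nat.xor_lt_two_pow (n := 11) hn hlt
  have hwdec : w = ψ n' * P.T kb * (κ (km b))⁻¹ := by
    rw [hTb, ← hnw, show n = n' ^^^ uP (kp b) by rw [hn', Nat.xor_assoc, Nat.xor_self, Nat.xor_zero],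
      P.model.mul _ _ hn'lt hlt]
    group
  have hmem : w * (P.T kb)⁻¹ ∈ P.ten := by
    rw [hwdec, show ψ n' * P.T kb * (κ (km b))⁻¹ * (P.T kb)⁻¹ =
      ψ n' * (P.T kb * (κ (km b))⁻¹ * (P.T kb)⁻¹) by group]
    exact mul_mem (P.ten_psi hn'lt hbw) ((Subgroup.mem_normalizer_iff.1 (P.T_norm kb) _).1 (inv_mem (P.ten_km hb)))
  refine ⟨P.T σ' * (w * (P.T kb)⁻¹) * (P.T σ')⁻¹, (Subgroup.mem_normalizer_iff.1 (P.T_norm σ') _).1 hmem,
    σ' * kb, ?_⟩
  rw [map_mul]
  simp only [w]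
  group

/-- the generators act as in the tables -/
theorem Spl.gen_phi {i : ℕ} (hi : i < 5) : ∃ σ : stabM oct0, ∀ c, c < 1024 →
    LFT.Chk.app (ODat.gL.getD i []) c < 1024 ∧
    P.T σ * phi ψ κ c * (P.T σ)⁻¹ = phi ψ κ (LFT.Chk.app (ODat.gL.getD i []) c) := by
  have h := gen_ok
  simp only [genOK, genOne, Bool.and_eq_true, List.all_eq_true, List.mem_range, beq_iff_eq] at h
  obtain ⟨hlen, hall⟩ := h
  obtain ⟨⟨hL, hLlt⟩, hj⟩ := hall i hi
  set g := octStabGens.getD i [] with hg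
  set L := ODat.gL.getD i []
  have hmem : g ∈ octStabGens := by
    rw [hg, List.getD_eq_getElem _ _ (by rw [Nat.eq_of_beq_eq_true hlen]; exact hi)]
    exact List.getElem_mem _
  obtain ⟨-, hlok, hstab⟩ := stabGens_sound (by norm_num) octStabGens_ok
  have hgl : lok g = true := List.all_eq_true.1 hlok g hmem
  set σ : stabM oct0 := ⟨lperm g, hstab g hmem⟩
  refine ⟨σ, ?_⟩
  have hlt : ∀ c, c < 1024 → LFT.Chk.app L c < 1024 := fun c _ =>
    appA_lt (k := 10) L c 0 (fun u hu => Nat.le_of_ble_eq_true (hLlt u hu)) (by norm_num)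
  intro c hc
  refine ⟨hlt c hc, ?_⟩
  have hrep : Rep ((⟨σ.1, σ.2.1⟩ : ↥Cfsg.M24) : Equiv.Perm GolayPt) g := rep_lperm hgl
  have hu : uS (σ : Equiv.Perm GolayPt) = uP g := by
    rw [uS, phN, mask_symmDiff, LFT.mask_single, LFT.mask_single, show idx d5 = 5 from idx_pt 5 (by norm_num), uP,
      show idx ((σ : Equiv.Perm GolayPt) d5) = g.getD 5 0 by
        rw [← rep_lperm hgl d5, show idx d5 = 5 from idx_pt 5 (by norm_num)]]
    show _ = LFT.Chk.app LFT.Dat.ptP (32 ^^^ 1 <<< g.getD 5 0)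
    rw [Nat.one_shiftLeft]
    rfl
  -- both sides are additive
  have key : ∀ k, k ≤ 10 → ∀ c, c < 2 ^ k →
      P.T σ * phi ψ κ c * (P.T σ)⁻¹ = phi ψ κ (LFT.Chk.app L c) := by
    intro k
    induction k with
    | zero =>
      intro _ c hc
      obtain rfl : c = 0 := by omega
      rw [app_zero', P.phi_zero, mul_one, mul_inv_cancel]
    | succ k ih =>
      intro hk c hc
      by_cases hb : c < 2 ^ k
      · exact ih (by omega) c hb
      have ht : c.testBit k = true := by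
        rw [Nat.testBit_eq_decide_div_mod_eq, decide_eq_true_iff]
        have h1 : c / 2 ^ k = 1 := Nat.div_eq_of_lt_le (by omega) (by rw [← pow_succ']; omega)
        rw [h1]
      have hlow : c ^^^ 2 ^ k < 2 ^ k := by
        refine Nat.lt_of_testBit k (by rw [Nat.testBit_xor, ht, Nat.testBit_two_pow_self]; rfl)
          (Nat.testBit_two_pow_self) fun j hj' => ?_
        rw [Nat.testBit_xor, Nat.testBit_two_pow_of_ne (by omega), Bool.xor_false]
        exact Nat.testBit_lt_two_pow (lt_of_lt_of_le hc (Nat.pow_le_pow_right (by norm_num) hj'))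
      have h2 : (2:ℕ) ^ k < 1024 := lt_of_lt_of_le (Nat.pow_lt_pow_right (by norm_num) (by omega : k < 10)) le_rfl
      have hu' : P.T σ * phi ψ κ (2 ^ k) * (P.T σ)⁻¹ = phi ψ κ (LFT.Chk.app L (2 ^ k)) := by
        obtain ⟨e1, e2⟩ := hj k (by omega)
        change lmul g (kp (cK (2 ^ k))) = lmul (kp (cK (LFT.Chk.app L (2 ^ k)))) g at e1
        change Nat.beq (cN (LFT.Chk.app L (2 ^ k)))
          (uP g ^^^ (act g (cN (2 ^ k)) ^^^ ac (cK (LFT.Chk.app L (2 ^ k))) (uP g))) = true at e2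
        obtain ⟨n1, k1, w1, -⟩ := coord_facts h2
        obtain ⟨n2, k2, w2, -⟩ := coord_facts (hlt _ h2)
        set y := LFT.Chk.app L (2 ^ k)
        set s : ↥Cfsg.M24 := ⟨σ.1, σ.2.1⟩
        have hconj : s * km (cK (2 ^ k)) = km (cK y) * s := Subtype.ext (rep_unique (hrep.mul (km_rep k1))
          (by rw [e1]; exact (km_rep k2).mul hrep))
        have hkk : κ s * κ (km (cK (2 ^ k))) * (κ s)⁻¹ = κ (km (cK y)) := by
          rw [← map_mul, hconj, map_mul, mul_inv_cancel_right]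
        have hlt1 : ac (cK y) (uP g) < 2048 := ac_lt k2 _
        have hlt2 : act g (cN (2 ^ k)) < 2048 := act_lt _ _
        have hug : uP g < 2048 := hu ▸ uS_lt _
        show ψ (uS (σ : Equiv.Perm GolayPt)) * κ s * (ψ (cN (2 ^ k)) * κ (km (cK (2 ^ k)))) *
          (ψ (uS (σ : Equiv.Perm GolayPt)) * κ s)⁻¹ = ψ (cN y) * κ (km (cK y))
        rw [Nat.eq_of_beq_eq_true e2, hu]
        show _ = ψ (uP g ^^^ (act g (cN (2 ^ k)) ^^^ ac (cK y) (uP g))) * κ (km (cK y))
        rw [P.model.mul _ _ hug (Nat.xor_lt_two_pow (n := 11) hlt2 hlt1), P.model.mul _ _ hlt2 hlt1,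
          ← P.psi_act hgl hrep n1, ← P.psi_km hug k2, ← hkk]
        simp only [mul_inv_rev, inv_eq_of_mul_eq_one_right (P.model.sq _ hug)]
        group
      have e : c = (c ^^^ 2 ^ k) ^^^ 2 ^ k := by rw [Nat.xor_assoc, Nat.xor_self, Nat.xor_zero]
      rw [e, P.phi_mul (lt_trans hlow h2) h2, LFT.app_xor,
        P.phi_mul (hlt _ (lt_trans hlow h2)) (hlt _ h2), ← conj_mul, ih (by omega) _ hlow, hu']
  exact key 10 le_rfl c hc

/-- members of a tree are conjugate -/
theorem Spl.tree_conj {t : List (ℕ × ℕ × ℕ)} (ht : treeOK t = true) {c : ℕ} (hc : memT t c = true) :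
    c < 1024 ∧ ∃ σ, P.T σ * phi ψ κ (t.getD 0 (0, 0, 0)).1 * (P.T σ)⁻¹ = phi ψ κ c := by
  simp only [memT, List.any_eq_true] at hc
  obtain ⟨e, he, hec⟩ := hc
  obtain ⟨i, hi, rfl⟩ := List.getElem_of_mem he
  obtain rfl := Nat.eq_of_beq_eq_true hec
  simp only [treeOK, Bool.and_eq_true, List.all_eq_true, List.mem_range, Bool.or_eq_true] at ht
  obtain ⟨hr, hall⟩ := ht
  clear he hec
  revert hi
  induction i using Nat.strong_induction_on with
  | _ i ih =>
    intro hi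
    rcases hall i hi with e | ⟨⟨h1, h2⟩, h3⟩
    · obtain rfl := Nat.eq_of_beq_eq_true e
      rw [← List.getD_eq_getElem t (0, 0, 0) hi]
      exact ⟨Nat.le_of_ble_eq_true hr, 1, by rw [map_one, one_mul, inv_one, mul_one]⟩
    · rw [List.getD_eq_getElem _ _ hi] at h1 h2 h3
      have hp := Nat.le_of_ble_eq_true h2
      have hp' : t[i].2.2 < t.length := lt_trans hp hi
      obtain ⟨hc1, σ, hσ⟩ := ih _ hp hp'
      obtain ⟨τ, hτ⟩ := P.gen_phi (Nat.le_of_ble_eq_true h1)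
      rw [List.getD_eq_getElem _ _ hp'] at h3
      obtain ⟨hlt, hτ'⟩ := hτ _ hc1
      rw [Nat.eq_of_beq_eq_true h3] at hlt hτ'
      refine ⟨hlt, τ * σ, ?_⟩
      rw [map_mul, ← hτ', ← hσ]
      group

end Cfsg.Agent.Spor.JFour
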