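import Cfsg.Agent.Lib.Spor.JFourThompBase
import Cfsg.Agent.Lib.Spor.JFourThompChecksD

/-!
Janko four type: an involution of the centraliser inverting the element of order three lies over each of three
chosen outer involutions.
-/

set_option autoImplicit false
set_option maxRecDepth 100000
set_option linter.unusedSectionVars false

namespace Cfsg.Agent.Spor.JFour

open Cfsg.Agent.Spor.SUSix (V6 code code_lt vecOf_code)
open Cfsg.Agent.Spor.SpFour (F4)

attribute [local irreducible] Gam Kp Chk.app BlockKer Cmp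

theorem outM_elem : ∃ p ∈ Gam ⊓ fixv va ⊓ BlockKer Dat.maskA, cols p = Chk.outM := by
  have h := Chk.out_ok
  simp only [Chk.outOK, Bool.and_eq_true, List.all_eq_true] at h
  have hlt : ∀ k ∈ Dat.outR, k < Dat.kerW.length := fun k hk => Nat.le_of_ble_eq_true (h.1.1.1.1.1.1 k hk)
  have key : ∀ L : List ℕ, (∀ k ∈ L, k < Dat.kerW.length) → ∃ p ∈ Gam ⊓ fixv va ⊓ BlockKer Dat.maskA,
      cols p = L.foldr (fun k r => Chk.cmul (Chk.kerC.getD k []) r) Chk.idL := by
    intro L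
    induction L with
    | nil => exact fun _ => ⟨1, one_mem _, cols_one⟩
    | cons k L ih =>
      intro hL
      obtain ⟨p, hp, e⟩ := ih fun x hx => hL x (List.mem_cons_of_mem _ hx)
      have hk := hL k List.mem_cons_self
      obtain ⟨hm, hc⟩ := ker_word_mem _ (List.getElem_mem hk)
      refine ⟨_, mul_mem hm hp, ?_⟩
      rw [cols_mul (Gam_addP hm.1.1), hc, e, List.foldr_cons, Chk.kerC,
        List.getD_eq_getElem _ _ (by rwa [List.length_map]), List.getElem_map]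
  exact key _ hlt

theorem out_facts : Chk.cmul Chk.outM Chk.outM = Chk.idL ∧ Chk.linL Chk.outM = false ∧
    (∀ V, V < 4096 → Chk.near (Chk.app Chk.outM V) V = true →
      V ∈ Chk.spanL ((Chk.idL.map fun v => Nat.xor (Chk.app Chk.outM v) v) ++ Dat.rowF)) ∧
    (∀ v ∈ Dat.rowF, v < 4096) ∧ (∀ v ∈ Chk.spanL Dat.rowF, Chk.fCond v = true) ∧
    ∀ i < 3, (∀ s ∈ Dat.outC.getD i [], s < 4) ∧
      Chk.cmul (Chk.evC (Dat.outC.getD i [])) Chk.outM =
        Chk.cmul (Chk.sylE (Dat.outI.getD i 0)) (Chk.evC (Dat.outC.getD i [])) := by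
  have h := Chk.out_ok
  simp only [Chk.outOK, Bool.and_eq_true, List.all_eq_true, List.mem_range, leq_iff, Bool.or_eq_true,
    Bool.not_eq_true', List.any_eq_true] at h
  obtain ⟨⟨⟨⟨⟨⟨-, h2⟩, h3⟩, h4⟩, h5⟩, h6⟩, h7⟩ := h
  refine ⟨h2, h3, fun V hV hn => ?_, fun v hv => Nat.le_of_ble_eq_true (h4 v hv), h5,
    fun i hi => ⟨fun s hs => Nat.le_of_ble_eq_true ((h7 i hi).1 s hs), (h7 i hi).2⟩⟩
  obtain ⟨k, hk, e⟩ := (h6 V hV).resolve_left (by simp [hn])
  exact (Nat.eq_of_beq_eq_true e) ▸ hk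

universe u

variable {G : Type u} [Group G] [Finite G] {z : G} {Q N : Subgroup G} {x : G}
variable (S : Big z Q N x) (f : Frame z Q x)

include S f

/-- an involution over the outer involution of the kernel inverting the element of order three -/
theorem Big.outer_base : ∃ n : Subgroup.centralizer ({z} : Set G), ∃ p ∈ Gam, cols p = Chk.outM ∧ f.π n = p ∧
    n * n = 1 ∧ (n : G) * x * (n : G)⁻¹ = x⁻¹ := by
  obtain ⟨p, hpR, hcols⟩ := outM_elem
  obtain ⟨hM2, hMlin, hspan, hrlt, hrF, -⟩ := out_facts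
  have hpG : p ∈ Gam := hpR.1.1
  have hpA : AddP p := Gam_addP hpG
  obtain ⟨g, hgQ, hne, hv⟩ := S.exists_va f
  obtain ⟨hR, -⟩ := S.core f hgQ hne hv
  obtain ⟨c, hcE, hcπ⟩ : p ∈ f.R g := hR ▸ hpR
  have hp2 : p * p = 1 :=
    eq_of_cols (Gam_addP (mul_mem hpG hpG)) AddP.one (by rw [cols_mul hpA, hcols, hM2, cols_one])
  have hpK : p ∉ Kp := fun h => by
    have hcm := (comm_gW_iff hpG).2 h
    have e := congrArg cols hcm.eq
    rw [cols_mul hpA, cols_mul (show AddP gW from (gP_spec 3).1), hcols, show cols gW = Chk.cW from (gP_spec 3).2.1] at e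
    have : Chk.linL Chk.outM = true := leq_iff.2 e
    rw [hMlin] at this
    exact Bool.false_ne_true this
  -- an element inverting the element of order three
  obtain ⟨n0, hn0z, hn0x⟩ := S.base.inv
  set nC : Subgroup.centralizer ({z} : Set G) := ⟨n0, Subgroup.mem_centralizer_singleton_iff.2 hn0z⟩
  have hn0K : f.π nC ∉ Kp := fun h => by
    have hc := (f.mem_Kp nC).1 h
    have h1 : f.π (nC * S.base.xC * nC⁻¹) = gW := by
      rw [map_mul, map_mul, map_inv, f.pi_x S.base.xC rfl, hc.eq, mul_inv_cancel_right]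
    rw [show nC * S.base.xC * nC⁻¹ = S.base.xC⁻¹ from Subtype.ext hn0x, map_inv, f.pi_x S.base.xC rfl] at h1
    apply gW_facts.2
    have h2 : gW ^ 2 = 1 := by
      rw [pow_two]; nth_rewrite 1 [← h1]; exact inv_mul_cancel _
    have h3 := gW_facts.1
    rwa [pow_succ, h2, one_mul] at h3
  have hq : p * (f.π nC)⁻¹ ∈ Kp := by
    have hG : f.π nC ∈ Gam := (f.range _).2 ⟨nC, rfl⟩
    have h := Subgroup.mul_mem_iff_of_index_two (index_Gam) (a := (⟨p, hpG⟩ : Gam))
      (b := (⟨(f.π nC)⁻¹, inv_mem hG⟩ : Gam))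
    simp only [Subgroup.mem_subgroupOf, Subgroup.coe_mul] at h
    exact h.2 (iff_of_false hpK fun h' => hn0K (inv_inv (f.π nC) ▸ inv_mem h'))
  obtain ⟨k, hkx, hkπ⟩ := S.lift f hq
  obtain ⟨n, hn⟩ : ∃ n, n = k * nC := ⟨_, rfl⟩
  have hnπ : f.π n = p := by rw [hn, map_mul, hkπ, inv_mul_cancel_right]
  have hkx' : Commute (k : G) x := congrArg Subtype.val hkx.eq
  have hnx : (n : G) * x * (n : G)⁻¹ = x⁻¹ := by
    calc (n : G) * x * (n : G)⁻¹ = (k : G) * (n0 * x * n0⁻¹) * (k : G)⁻¹ := by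
          rw [hn, Subgroup.coe_mul]; show (k : G) * n0 * x * ((k : G) * n0)⁻¹ = _; group
      _ = x⁻¹ := by rw [hn0x, hkx'.inv_right.eq, mul_inv_cancel_right]
  have hn2x : Commute ((n * n : Subgroup.centralizer ({z} : Set G)) : G) x := by
    refine mul_inv_eq_iff_eq_mul.1 ?_
    calc _ = (n : G) * ((n : G) * x * (n : G)⁻¹) * (n : G)⁻¹ := by rw [Subgroup.coe_mul]; group
      _ = (n : G) * x⁻¹ * (n : G)⁻¹ := by rw [hnx]
      _ = ((n : G) * x * (n : G)⁻¹)⁻¹ := by group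
      _ = x := by rw [hnx, inv_inv]
  have hn2Q : ((n * n : Subgroup.centralizer ({z} : Set G)) : G) ∈ Q := (f.ker _).1 (by rw [map_mul, hnπ, hp2])
  have hn2 := S.ker f hn2Q hn2x
  refine ⟨n, p, hpG, hcols, hnπ, ?_, hnx⟩
  -- move it into the neighbouring subgroup
  set v := ((n⁻¹ * c : Subgroup.centralizer ({z} : Set G)) : G) with hvdef
  have hvQ : v ∈ Q := (f.ker _).1 (by rw [map_mul, map_inv, hnπ, hcπ, inv_mul_cancel])
  have hcg : (c : G) ∈ Qc Q g := mem_EC.1 hcE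
  set q := g * z * g⁻¹ with hqdef
  have hc2 := (S.xtc g).sq_mem hcg
  have hnz : Commute (n : G) z := Subgroup.mem_centralizer_singleton_iff.1 n.2
  have hconj : ∀ a ∈ Q, (n : G)⁻¹ * a * n ∈ Q ∧ f.vec ((n : G)⁻¹ * a * n) = p (f.vec a) := by
    intro a ha
    have h1 := S.base.ord.normQ _ hnz.inv_left a ha
    rw [inv_inv] at h1
    refine ⟨h1, ?_⟩
    have h2 := f.vec_conj n⁻¹ a ha
    rw [Subgroup.coe_inv, inv_inv] at h2
    rw [h2, map_inv, hnπ, inv_eq_of_mul_eq_one_right hp2]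
  have hnnv : f.vec ((n * n : Subgroup.centralizer ({z} : Set G)) : G) = 0 := by
    rcases hn2 with e | e <;> rw [e]
    exacts [f.vec_one S.base, f.vec_z S.base]
  have hccv : f.vec ((c : G) * c) = p (f.vec v) + f.vec v := by
    have e : (c : G) * c = ((n * n : Subgroup.centralizer ({z} : Set G)) : G) * ((n : G)⁻¹ * v * n) * v := by
      simp only [hvdef, Subgroup.coe_mul, Subgroup.coe_inv]; group
    rw [e, f.vec_mul _ (mul_mem hn2Q (hconj v hvQ).1) _ hvQ, f.vec_mul _ hn2Q _ (hconj v hvQ).1, hnnv, zero_add,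
      (hconj v hvQ).2]
  have hnear : Chk.near (Chk.app Chk.outM (code (f.vec v))) (code (f.vec v)) = true := by
    have e1 : Nat.xor (Chk.app Chk.outM (code (f.vec v))) (code (f.vec v)) = code (f.vec ((c : G) * c)) := by
      rw [hccv, code_add, app_cols hpA, hcols]; rfl
    rw [Chk.near, e1]
    rcases hc2 with e | e <;> rw [e]
    · rw [f.vec_one S.base, code_zero]; rfl
    · rw [hv, code_va, Nat.beq_refl, Bool.or_true]
  obtain ⟨w, l, hl, e⟩ : ∃ w l : V6, Chk.fCond (code l) = true ∧ f.vec v = p w + w + l := by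
    obtain ⟨-, h0, hx, hmem, -⟩ := span_spec Dat.rowF
    have key := (span_spec ((Chk.idL.map fun v => Nat.xor (Chk.app Chk.outM v) v) ++ Dat.rowF)).2.2.2.2
      (fun k => k < 4096 ∧ ∃ w l : V6, code l ∈ Chk.spanL Dat.rowF ∧ SUSix.vecOf k = p w + w + l) ?_ ?_ ?_ _
      (hspan _ (code_lt _) hnear)
    · obtain ⟨-, w, l, hl, e⟩ := key
      exact ⟨w, l, hrF _ hl, by rw [← e, vecOf_code]⟩
    · exact ⟨by norm_num, 0, 0, by rw [code_zero]; exact h0, by
        rw [hpA.map_zero, add_zero, add_zero, show SUSix.vecOf 0 = 0 by decide +kernel]⟩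
    · rintro a b ⟨ha, w, l, hl, e⟩ ⟨hb, w', l', hl', e'⟩
      refine ⟨xor_lt ha hb, w + w', l + l', by rw [code_add]; exact hx _ hl _ hl', ?_⟩
      rw [vecOf_xor ha hb, e, e', hpA]
      abel
    · intro k hk
      rcases List.mem_append.1 hk with hk | hk
      · obtain ⟨u, hu, rfl⟩ := List.mem_map.1 hk
        have hb : Chk.app Chk.outM u < 4096 := by
          rw [← hcols, ← code_vecOf u (idL_lt u hu), ← app_cols hpA]
          exact code_lt _
        refine ⟨xor_lt hb (idL_lt u hu), SUSix.vecOf u, 0, by rw [code_zero]; exact h0, code_inj ?_⟩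
        rw [add_zero, code_add, app_cols hpA, hcols, code_vecOf u (idL_lt u hu),
          code_vecOf _ (show Nat.xor (Chk.app Chk.outM u) u < 4096 from xor_lt hb (idL_lt u hu))]
        rfl
      · exact ⟨hrlt k hk, 0, SUSix.vecOf k, by rw [code_vecOf k (hrlt k hk)]; exact hmem k hk, by
          rw [hpA.map_zero, add_zero, zero_add]⟩
  obtain ⟨q0, hq0, hq0v⟩ := f.vec_surj w
  set d := q0 * (n : G) * q0⁻¹ with hd
  have hdc : d⁻¹ * (c : G) = q0 * ((n : G)⁻¹ * q0⁻¹ * n) * v := by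
    simp only [hd, hvdef, Subgroup.coe_mul, Subgroup.coe_inv]; group
  have hdQ : d⁻¹ * (c : G) ∈ Q ⊓ Qc Q g := by
    have hQ' : d⁻¹ * (c : G) ∈ Q := hdc ▸ mul_mem (mul_mem hq0 (hconj _ (inv_mem hq0)).1) hvQ
    have hvec : f.vec (d⁻¹ * (c : G)) = l := by
      rw [hdc, f.vec_mul _ (mul_mem hq0 (hconj _ (inv_mem hq0)).1) _ hvQ, f.vec_mul _ hq0 _ (hconj _ (inv_mem hq0)).1,
        (hconj _ (inv_mem hq0)).2, f.vec_inv S.base hq0, hq0v, e]
      calc w + p w + (p w + w + l) = (w + w) + (p w + p w) + l := by abel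
        _ = l := by rw [v6_two, v6_two, add_zero, zero_add]
    obtain ⟨a, ha, hav⟩ : l ∈ f.vec '' ((Q ⊓ Qc Q g : Subgroup G) : Set G) := (S.inter_vec f hgQ hne hv).symm ▸ hl
    refine ⟨hQ', ?_⟩
    rcases (f.vec_eq a ha.1 _ hQ').1 (hav.trans hvec.symm) with e' | e' <;> rw [e']
    exacts [ha.2, mul_mem ha.2 (S.pair hgQ hne).mem]
  have hdg : d ∈ Qc Q g := by
    have := mul_mem hcg (inv_mem hdQ.2)
    rwa [mul_inv_rev, inv_inv, mul_inv_cancel_left] at this
  have hdd : d * d = ((n * n : Subgroup.centralizer ({z} : Set G)) : G) := by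
    have hcm : Commute q0 ((n * n : Subgroup.centralizer ({z} : Set G)) : G) := by
      rcases hn2 with e | e <;> rw [e]
      exacts [Commute.one_right _, (S.base.ord.xt.cen q0 hq0).symm]
    calc d * d = q0 * ((n : G) * n) * q0⁻¹ := by rw [hd]; group
      _ = _ := by rw [← Subgroup.coe_mul, hcm.eq, mul_inv_cancel_right]
  refine Subtype.ext (hn2.resolve_right fun e' => ?_)
  rcases (S.xtc g).sq_mem hdg with e'' | e'' <;> rw [hdd, e'] at e''
  · exact S.base.ord.xt.ne e''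
  · exact hne e''.symm

/-- involutions over the three chosen outer involutions -/
theorem Big.outer_invol (i : ℕ) (hi : i < 3) : ∃ n : Subgroup.centralizer ({z} : Set G), ∃ p ∈ Gam,
    cols p = Chk.sylE (Dat.outI.getD i 0) ∧ f.π n = p ∧ n * n = 1 ∧ (n : G) * x * (n : G)⁻¹ = x⁻¹ := by
  obtain ⟨n, p, hp, hcols, hπ, h2, hx⟩ := S.outer_base f
  obtain ⟨hlt, hcj⟩ := out_facts.2.2.2.2.2 i hi
  set P := wd (Dat.outC.getD i []) with hP
  have hPK : P ∈ Kp := wd_mem _ hlt
  obtain ⟨k, hkx, hkπ⟩ := S.lift f hPK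
  have hPc : cols P = Chk.evC (Dat.outC.getD i []) := wd_cols _ fun s hs => (hlt s hs).trans (by norm_num)
  have hlt256 : ∀ i < 3, Dat.outI.getD i 0 < 256 := by decide +kernel
  obtain ⟨t, ht, htc⟩ := TS_reach _ (hlt256 i hi)
  have hkx' : Commute (k : G) x := congrArg Subtype.val hkx.eq
  refine ⟨k * n * k⁻¹, t, TS_le ht, htc, ?_, ?_, ?_⟩
  · rw [map_mul, map_mul, map_inv, hkπ, hπ, mul_inv_eq_iff_eq_mul]
    refine eq_of_cols (Gam_addP (mul_mem (Kp_le hPK) hp)) (Gam_addP (mul_mem (TS_le ht) (Kp_le hPK))) ?_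
    rw [cols_mul (wd_addP _), cols_mul (Gam_addP (TS_le ht)), htc, hcols, hPc, hcj]
  · rw [conj_mul, h2, mul_one, mul_inv_cancel]
  · calc ((k * n * k⁻¹ : Subgroup.centralizer ({z} : Set G)) : G) * x * ((k * n * k⁻¹ : Subgroup.centralizer ({z} : Set G)) : G)⁻¹
        = (k : G) * ((n : G) * ((k : G)⁻¹ * x * k) * (n : G)⁻¹) * (k : G)⁻¹ := by
          simp only [Subgroup.coe_mul, Subgroup.coe_inv]; group
      _ = x⁻¹ := by
        rw [show (k : G)⁻¹ * x * k = x by rw [mul_assoc, ← hkx'.eq, inv_mul_cancel_left], hx,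
          hkx'.inv_right.eq, mul_inv_cancel_right]

end Cfsg.Agent.Spor.JFour
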