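import Cfsg.Agent.Lib.Solv.StabCocycleCheck
import Cfsg.Agent.Lib.Spor.GolayWordChain

/-!
Certificate data for the Schur multiplier of the Mathieu group of degree twenty-four.
-/

set_option autoImplicit false

namespace Cfsg.Agent.Spor.MathieuMult.TwentyFour

open Cfsg.Agent.Solv.StabCocycle Cfsg.Agent.Spor.WordChain

/-- A table of the certificate. -/
def valT : Tr := (.node (.node (.node (.node (.node (.node (.leaf 20282719093383930310579187613952) (.leaf 20282719093383930310579187613952)) (.node (.leaf 20282719093383930310579187613953) (.leaf 0))) (.node (.node (.leaf 20282719093383930310579187613953) (.leaf 20282719093383930310579187613953)) (.node (.leaf 20282719093383930310579187613953) (.leaf 0)))) (.node (.node (.node (.leaf 20282719093383930310579187613952) (.leaf 20282719093383930310579187613953)) (.node (.leaf 20282719093383930310579187613952) (.leaf 0))) (.node (.node (.leaf 20282719093383930310579187613952)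 (.leaf 20282719093383930310579187613953)) (.node (.leaf 20282719093383930310579187613952) (.leaf 0))))) (.node (.node (.node (.node (.leaf 20282719093383930310579187613953) (.leaf 20282719093383930310579187613953)) (.node (.leaf 20282719093383930310579187613953) (.leaf 0))) (.node (.node (.leaf 20282719093383930310579187613953) (.leaf 20282719093383930310579187613952)) (.node (.leaf 20282719093383930310579187613953) (.leaf 0)))) (.node (.node (.node (.leaf 20282719093383930310579187613952) (.leaf 20282719093383930310579187613952)) (.node (.leaf 20282719093383930310579187613952) (.leaf 0))) (.node (.node (.leaf 20282719093383930310579187613952) (.leaf 20282719093383930310579187613953)) (.node (.leaf 20282719093383930310579187613952) (.leaf 0)))))) (.node (.node (.node (.node (.node (.leaf 20282719093383930310579187613952) (.leaf 20282719093383930310579187613952)) (.node (.leaf 20282720302309749925208362320128)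 (.leaf 0))) (.node (.node (.leaf 20282719093365483566505478127872) (.leaf 20124288156129654935884301533548)) (.node (.leaf 20282719093383930310579187613952) (.leaf 0)))) (.node (.node (.node (.leaf 20282719093402377054652897165568) (.leaf 20282721511272463027980661686538)) (.node (.leaf 20282719093383930310579187679488) (.leaf 0))) (.node (.node (.leaf 20282719093383930310579187679488) (.leaf 20361947255898194648172731564288)) (.node (.leaf 20282719093383930310579187679488) (.leaf 0))))) (.node (.node (.node (.node (.leaf 20282719093383930310579187613952) (.leaf 20282716675532291081325132644599)) (.node (.leaf 20282719093383930310579187613952) (.leaf 0))) (.node (.node (.leaf 20282719093383930310579187613952) (.leaf 20282719093383930310579187679488)) (.node (.leaf 20282719093383930310579187613952) (.leaf 0)))) (.node (.node (.node (.leaf 20282719093383930310579187613952) (.leaf 20282719093383930310579187679488))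 (.node (.leaf 20282719093383930310579187613952) (.leaf 0))) (.node (.node (.leaf 20282719093383930310579187613952) (.leaf 20282713048644151773003940167906)) (.node (.leaf 20282719093383930310579187613952) (.leaf 0)))))))

/-- A table of the certificate. -/
def actT : Tr := (.node (.node (.node (.node (.node (.node (.leaf 1) (.leaf 20)) (.node (.leaf 6) (.leaf 0))) (.node (.node (.leaf 2) (.leaf 16)) (.node (.leaf 10) (.leaf 0)))) (.node (.node (.node (.leaf 4) (.leaf 15)) (.node (.leaf 12) (.leaf 0))) (.node (.node (.leaf 8) (.leaf 19)) (.node (.leaf 17) (.leaf 0))))) (.node (.node (.node (.node (.leaf 0) (.leaf 14)) (.node (.leaf 7) (.leaf 0))) (.node (.node (.leaf 3) (.leaf 23)) (.node (.leaf 11) (.leaf 0)))) (.node (.node (.node (.leaf 5) (.leaf 22)) (.node (.leaf 13) (.leaf 0))) (.node (.node (.leaf 9) (.leaf 21)) (.node (.leaf 18) (.leaf 0)))))) (.node (.node (.node (.node (.node (.leaf 2) (.leaf 21))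 (.node (.leaf 8) (.leaf 0))) (.node (.node (.leaf 0) (.leaf 20)) (.node (.leaf 15) (.leaf 0)))) (.node (.node (.node (.leaf 4) (.leaf 18)) (.node (.leaf 5) (.leaf 0))) (.node (.node (.leaf 1) (.leaf 22)) (.node (.leaf 9) (.leaf 0))))) (.node (.node (.node (.node (.leaf 3) (.leaf 17)) (.node (.leaf 11) (.leaf 0))) (.node (.node (.leaf 7) (.leaf 13)) (.node (.leaf 16) (.leaf 0)))) (.node (.node (.node (.leaf 6) (.leaf 12)) (.node (.leaf 14) (.leaf 0))) (.node (.node (.leaf 10) (.leaf 23)) (.node (.leaf 19) (.leaf 0)))))))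

/-- A table of the certificate. -/
def parT : Tr := (.node (.node (.node (.node (.node (.leaf 0) (.leaf 27)) (.node (.leaf 12) (.leaf 0))) (.node (.node (.leaf 4) (.leaf 32)) (.node (.leaf 20) (.leaf 0)))) (.node (.node (.node (.leaf 1) (.leaf 30)) (.node (.leaf 15) (.leaf 0))) (.node (.node (.leaf 7) (.leaf 38)) (.node (.leaf 23) (.leaf 0))))) (.node (.node (.node (.node (.leaf 0) (.leaf 28)) (.node (.leaf 14) (.leaf 0))) (.node (.node (.leaf 6) (.leaf 33)) (.node (.leaf 22) (.leaf 0)))) (.node (.node (.node (.leaf 3) (.leaf 31)) (.node (.leaf 19) (.leaf 0))) (.node (.node (.leaf 11) (.leaf 42)) (.node (.leaf 25) (.leaf 0))))))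

/-- A part of the steps. -/
def steps0 : List (ℕ × ℕ × ℕ) := [(0, 1, 0), (0, 2, 1), (0, 3, 3), (0, 4, 4), (0, 5, 6), (0, 6, 7), (0, 7, 11), (0, 8, 12), (0, 9, 14), (0, 10, 15), (0, 11, 19), (0, 12, 20), (0, 13, 22), (0, 14, 23), (0, 15, 25), (0, 16, 27), (0, 17, 28), (0, 18, 30), (0, 19, 31), (0, 20, 32), (0, 21, 33), (0, 22, 38), (0, 23, 42), (2, 0, 2), (2, 2, 8), (2, 3, 10), (2, 6, 16), (2, 7, 18), (2, 10, 24), (2, 11, 26), (2, 14, 34), (2, 15, 36), (2, 16, 40), (2, 19, 44), (2, 21, 46), (3, 1, 13), (3, 5, 21), (3, 9, 29), (3, 12, 39), (3, 13, 43), (1, 4, 5), (3, 0, 9), (1, 5, 17), (4, 4, 35), (4, 2, 37), (4, 3, 47), (1, 6, 45), (4, 16, 41)]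

/-- The steps. -/
def allSteps : List (ℕ × ℕ × ℕ) :=
  [steps0].flatten

/-- The certificate. -/
def cert : Cert where
  n := 24
  k := 7
  W := 16
  M := 512
  bias := 256
  V := valT
  act := actT
  par := parT
  words := [[0, 0], [1, 1, 1], [0, 1, 0, 1, 0, 1, 1, 0, 1, 0, 1, 0, 1, 1, 0, 1, 0, 1, 0, 1, 1, 0, 1, 1, 0, 1, 0, 1, 1, 0, 1, 1, 0, 1, 0, 1, 1, 0, 1, 1, 0, 1, 0, 1, 1], [1, 0, 1, 0, 1, 0, 1, 0, 1, 0, 1, 0, 1, 0, 1, 0, 1, 0, 1, 0, 1, 0, 1, 0, 1, 0, 1, 0, 1, 0, 1, 0, 1, 0, 1, 0, 1, 0, 1, 0, 1, 0, 1, 0, 1, 0]]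
  pe := [5, 17, 45]
  steps := allSteps
  m0 := [518, 345, 0, (-45)]
  m1 := [(-23), (-15), 0, 2]
  res := [(1, 8), (1, 22), (2, 6), (2, 9), (2, 15), (3, 2), (3, 0)]
  rows := [[518, 345, 0, (-45), 0, 0, 0], [(-23), (-15), 0, 2, 0, 0, 0], [0, (-1), 0, 0, 0, 3, 0], [0, (-1), 0, 0, 0, 0, 3], [(-9), (-8), 1, 0, 0, (-3), 0], [(-11), (-8), 1, 0, (-4), (-2), 3], [19, 15, (-2), 0, 2, 4, 3], [23, 0, 0, (-1), 23, 0, 0], [90, 70, (-8), (-1), 13, 17, (-1)]]
  combos := [[2, 0, (-14850), 46140, (-44505), (-15795), (-30330), (-135), 45], [0, 3, 990, (-3076), 2967, 1053, 2022, 9, (-3)], [18, 27, (-124740), 399530, (-372875), (-138170), (-260911), (-2103), 1347], [23, 23, (-163185), 334107, (-503082), (-94122), (-244494), 12537, (-13527)], [(-1), 1, 7755, (-30058), 22758, 10988, 18901, 554, (-507)], [0, 1, 330, (-1012), 989, 345, 667, 2, 0], [0, 1, 330, (-1025), 989, 351, 674, 3, (-1)]]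
  mult := [0, 0, 0, 0, 0, 0, 0]
  l0 := 6
  N := 1

/-- The first generator. -/
def genA : List ℕ := [11, 5, 15, 16, 9, 1, 19, 10, 17, 4, 7, 0, 23, 22, 21, 2, 3, 8, 20, 6, 18, 14, 13, 12]

/-- The first generator, inverted. -/
def genAi : List ℕ := [11, 5, 15, 16, 9, 1, 19, 10, 17, 4, 7, 0, 23, 22, 21, 2, 3, 8, 20, 6, 18, 14, 13, 12]

/-- The second generator. -/
def genB : List ℕ := [22, 23, 16, 7, 13, 1, 6, 12, 8, 2, 10, 11, 3, 19, 14, 17, 9, 21, 0, 4, 20, 15, 18, 5]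

/-- The second generator, inverted. -/
def genBi : List ℕ := [18, 5, 9, 12, 19, 23, 6, 3, 8, 16, 10, 11, 7, 4, 14, 21, 2, 15, 22, 13, 20, 17, 0, 1]

/-- The points. -/
def points : List ℕ := [23, 12, 5, 3, 1, 16, 7, 9, 10, 4, 2, 13, 15, 22, 19, 17, 18, 6, 8, 21, 20, 0, 14, 11]

/-- A stabiliser chain. -/
def chain : List Lev :=
  [⟨0, [[0], [1]], [[11, 5, 15, 16, 9, 1, 19, 10, 17, 4, 7, 0, 23, 22, 21, 2, 3, 8, 20, 6, 18, 14, 13, 12], [22, 23, 16, 7, 13, 1, 6, 12, 8, 2, 10, 11, 3, 19, 14, 17, 9, 21, 0, 4, 20, 15, 18, 5]], [(0, 0, 0), (11, 0, 0), (22, 0, 1), (13, 2, 0), (18, 2, 1), (19, 3, 1), (20, 4, 0), (6, 5, 0), (4, 5, 1), (9, 8, 0), (2, 9, 1), (15, 10, 0), (16, 10, 1), (17, 11, 1), (3, 12, 0), (8, 13, 0), (21, 13, 1), (7, 14, 1), (14, 16, 0), (10, 17, 0), (12, 17, 1), (23, 20, 0), (5, 21, 1), (1, 22, 0)]⟩,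
    ⟨1, [[0, 1, 0], [1, 0, 1, 0, 1, 0, 1, 1, 0, 1, 1]], [[0, 5, 8, 4, 15, 12, 9, 7, 14, 22, 23, 13, 1, 20, 2, 3, 10, 17, 18, 19, 11, 21, 6, 16], [0, 6, 2, 23, 4, 7, 14, 10, 8, 9, 5, 13, 11, 12, 1, 17, 22, 19, 16, 15, 20, 3, 18, 21]], [(1, 0, 0), (5, 0, 0), (6, 0, 1), (12, 1, 0), (7, 1, 1), (9, 2, 0), (14, 2, 1), (11, 3, 1), (10, 4, 1), (22, 5, 0), (2, 6, 0), (13, 7, 0), (23, 8, 0), (18, 9, 1), (8, 10, 0), (20, 11, 0), (16, 12, 0), (21, 12, 1), (3, 17, 1), (4, 18, 0), (15, 19, 0), (17, 20, 1), (19, 21, 1)]⟩,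
    ⟨2, [[0, 1, 0, 1, 1, 0, 0], [1, 0, 1, 0, 0, 1, 1]], [[0, 1, 22, 19, 4, 20, 23, 15, 16, 9, 10, 8, 6, 5, 2, 18, 11, 17, 7, 21, 13, 3, 14, 12], [0, 1, 2, 9, 15, 18, 6, 23, 13, 22, 20, 11, 10, 16, 5, 17, 8, 4, 14, 7, 12, 21, 3, 19]], [(2, 0, 0), (22, 0, 0), (14, 1, 0), (3, 1, 1), (5, 2, 1), (19, 3, 0), (9, 3, 1), (20, 4, 0), (18, 4, 1), (21, 5, 0), (7, 5, 1), (13, 7, 0), (12, 7, 1), (15, 10, 0), (23, 10, 1), (16, 11, 1), (6, 12, 0), (10, 12, 1), (17, 13, 1), (11, 15, 0), (8, 15, 1), (4, 18, 1)]⟩,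
    ⟨3, [[1], [0, 1, 1, 0, 1, 1, 1, 1, 0, 0]], [[0, 1, 2, 9, 15, 18, 6, 23, 13, 22, 20, 11, 10, 16, 5, 17, 8, 4, 14, 7, 12, 21, 3, 19], [0, 1, 2, 10, 4, 5, 17, 7, 15, 18, 12, 16, 3, 14, 21, 23, 20, 22, 19, 9, 11, 13, 6, 8]], [(3, 0, 0), (9, 0, 0), (10, 0, 1), (22, 1, 0), (18, 1, 1), (20, 2, 0), (12, 2, 1), (6, 3, 1), (14, 4, 0), (19, 4, 1), (11, 5, 1), (17, 7, 1), (5, 8, 0), (21, 8, 1), (7, 9, 0), (16, 10, 1), (4, 11, 0), (13, 13, 1), (23, 14, 0), (8, 15, 0), (15, 16, 0)]⟩,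
    ⟨4, [[1, 1, 0, 1, 1], [0, 0, 1, 0, 1, 1, 0, 0, 0, 0]], [[0, 1, 2, 3, 8, 9, 12, 15, 18, 7, 19, 10, 16, 14, 11, 21, 20, 22, 17, 13, 23, 5, 4, 6], [0, 1, 2, 3, 10, 5, 15, 4, 20, 8, 7, 19, 12, 6, 23, 13, 18, 14, 22, 21, 9, 11, 16, 17]], [(4, 0, 0), (8, 0, 0), (10, 0, 1), (18, 1, 0), (20, 1, 1), (19, 2, 0), (7, 2, 1), (17, 3, 0), (22, 3, 1), (23, 4, 0), (9, 4, 1), (13, 5, 0), (21, 5, 1), (15, 6, 0), (14, 7, 1), (16, 8, 1), (6, 9, 0), (5, 12, 0), (11, 12, 1), (12, 16, 0)]⟩,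
    ⟨5, [[0, 0, 1, 0], [1, 0, 1, 1, 0, 1, 1], [0, 0, 1, 1, 0, 1, 1, 0, 0, 0, 0]], [[0, 1, 2, 3, 4, 8, 17, 10, 11, 14, 12, 5, 7, 13, 15, 9, 22, 19, 20, 6, 21, 18, 23, 16], [0, 1, 2, 3, 4, 14, 15, 10, 21, 8, 12, 19, 7, 22, 17, 18, 13, 5, 6, 20, 11, 9, 16, 23], [0, 1, 2, 3, 4, 14, 9, 7, 19, 6, 10, 22, 12, 21, 5, 16, 15, 23, 20, 8, 18, 13, 11, 17]], [(5, 0, 0), (8, 0, 0), (14, 0, 1), (11, 1, 0), (21, 1, 1), (19, 1, 2), (15, 2, 0), (17, 2, 1), (22, 3, 2), (18, 4, 0), (9, 4, 1), (13, 4, 2), (6, 5, 0), (20, 5, 1), (16, 6, 2), (23, 7, 2)]⟩,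
    ⟨6, [[1, 2]], [[0, 1, 2, 3, 4, 5, 16, 10, 13, 19, 12, 8, 7, 11, 23, 20, 21, 14, 9, 18, 22, 6, 15, 17]], [(6, 0, 0), (16, 0, 0), (21, 1, 0)]⟩]

end Cfsg.Agent.Spor.MathieuMult.TwentyFour
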