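import Cfsg.Agent.Lib.Spor.MathieuMultTwentyThree
import Cfsg.Agent.Lib.Spor.MathieuMultTwentyFourData
import Cfsg.Agent.Lib.Spor.MathieuSimple

/-!
The Schur multiplier of the Mathieu group of degree twenty-four is trivial.
-/

set_option autoImplicit false
set_option maxRecDepth 100000

namespace Cfsg.Agent.Spor.MathieuMult

open Cfsg Cfsg.Agent.Local.FS.Mathieu Cfsg.Agent.Solv.StabCocycle Cfsg.Agent.Spor.WordChain

/-- The Mathieu group of degree twenty-three is perfect. -/
theorem twentyThree_perfect : commutator ↥Cfsg.Spor.M23 = ⊤ := by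
  obtain ⟨φ⟩ : Nonempty (↥Cfsg.Spor.M23 ≃* ↥(MulAction.stabilizer M24 (none : GolayPt))) :=
    ⟨(stabEquiv M24 (none : GolayPt)).symm⟩
  haveI := simple_stabilizer_point (none : GolayPt)
  refine perfect_congr φ (perfect_of_simple ?_)
  refine ⟨φ ⟨_, TwentyThree.mem_A⟩, φ ⟨_, TwentyThree.mem_B⟩, fun h => ?_⟩
  rw [← map_mul, ← map_mul] at h
  have h' : TwentyThree.permA * TwentyThree.permB = TwentyThree.permB * TwentyThree.permA :=
    congrArg Subtype.val (φ.injective h)
  revert h'
  decide +kernel

namespace TwentyFour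

/-- The first generator. -/
def permA : Equiv.Perm GolayPt := mkPerm genA genAi (by decide +kernel) (by decide +kernel)

/-- The second generator. -/
def permB : Equiv.Perm GolayPt := mkPerm genB genBi (by decide +kernel) (by decide +kernel)

theorem lst_gens : lst permA = genA ∧ lst permB = genB := ⟨by decide +kernel, by decide +kernel⟩

theorem mem_A : permA ∈ M24 := m24_mem_of_lst (by decide +kernel)

theorem mem_B : permB ∈ M24 := m24_mem_of_lst (by decide +kernel)

theorem chain_ok : (chainOK [genA, genB] chain [] && Nat.ble 244823040 (chainSize chain)) = true := by decide +kernel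

theorem gen_top : Subgroup.closure ({⟨permA, mem_A⟩, ⟨permB, mem_B⟩} : Set M24) = ⊤ := by
  have h := chain_ok
  rw [Bool.and_eq_true, Nat.ble_eq] at h
  exact closure_pair_eq (H := M24) (fun j => if j = 0 then permA else permB) mem_A mem_B card_m24 chain
    (by show chainOK [lst permA, lst permB] chain [] = true; rw [lst_gens.1, lst_gens.2]; exact h.1) h.2

theorem rel_ok : (cert.words.all fun w => w.all (fun j => Nat.blt j 2) &&
    (lword [genA, genB] w == List.range 24)) = true := by decide +kernel

theorem cert_ok : cert.check = true := by decide +kernel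

theorem act_ok : (List.range cert.n).all (fun i =>
    Nat.beq (genA.getD (points.getD i 0) 0) (points.getD (cert.actF 0 i) 0) &&
      Nat.beq (genB.getD (points.getD i 0) 0) (points.getD (cert.actF 1 i) 0) &&
      Nat.blt (points.getD i 0) 24) = true := by decide +kernel

theorem points_ok : points.Nodup ∧ cert.n = 24 ∧ points.length = 24 ∧ points.getD 0 0 = 23 ∧ cert.N = 1 := by
  decide +kernel

/-- The kernel of a stem extension is trivial. -/
theorem bound (Γ : Type) [Group Γ] [Finite Γ] (σ : Γ →* M24) (hσ : Cfsg.IsStemExtension σ) :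
    ∃ g : σ.ker, g ^ 1 = 1 ∧ ∀ k : σ.ker, k ∈ Subgroup.zpowers g := by
  obtain ⟨hnd, hn, hlen, hp0, hN⟩ := points_ok
  have hact := act_ok
  simp only [List.all_eq_true, List.mem_range, Bool.and_eq_true, Nat.beq_eq, Nat.blt_eq] at hact
  have key := kernel_bound (X := GolayPt) permA permB mem_A mem_B gen_top
    (fun i => pt (points.getD i 0)) cert cert_ok (fun i hi => ?_) (fun i hi h => ?_)
    (by rw [lst_gens.1, lst_gens.2]; exact rel_ok) ?_ ?_ Γ σ hσ
  · rwa [hN] at key
  · obtain ⟨⟨e1, e2⟩, e3⟩ := hact i hi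
    refine ⟨?_, ?_⟩
    · show permA (pt _) = _
      rw [lst_perm_getD _ e3, lst_gens.1, e1]
    · show permB (pt _) = _
      rw [lst_perm_getD _ e3, lst_gens.2, e2]
  · have e3 := (hact i hi).2
    have h' := congrArg Cfsg.Agent.Spor.idx h
    rw [Cfsg.Agent.Spor.idx_pt _ e3, Cfsg.Agent.Spor.idx_pt _ (by rw [hp0]; norm_num)] at h'
    rw [List.getD_eq_getElem _ _ (by omega), List.getD_eq_getElem _ _ (by omega)] at h'
    exact (hnd.getElem_inj_iff).mp h'
  · exact perfect_congr ((stabEquiv M24 _).trans (MulEquiv.subgroupCongr (by rw [hp0]; rfl))) twentyThree_perfect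
  · exact trivial_congr ((stabEquiv M24 _).trans (MulEquiv.subgroupCongr (by rw [hp0]; rfl)))
      TwentyThree.multiplier

/-- The Schur multiplier of the Mathieu group of degree twenty-four is trivial. -/
theorem multiplier : Cfsg.HasCyclicSchurMultiplier ↥M24 1 := by
  refine Cfsg.Agent.Solv.hasCyclicSchur_one_of fun Γ _ _ σ hσ k hk => ?_
  obtain ⟨g, hg, hall⟩ := bound Γ σ hσ
  obtain ⟨m, hm⟩ := Subgroup.mem_zpowers_iff.mp (hall ⟨k, hk⟩)
  rw [pow_one] at hg
  rw [hg, one_zpow] at hm
  exact congrArg Subtype.val hm.symm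

end TwentyFour

end Cfsg.Agent.Spor.MathieuMult
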