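import Cfsg.Agent.Lib.Spor.JFourDefs

/-!
Transitivity on six blocks.
-/

set_option autoImplicit false
set_option maxRecDepth 100000

namespace Cfsg.Agent.Spor.JFour.Chk

/-- the first level of a chain reaches every block -/
def transOK (P : List (List ℕ)) (ch : List (ℕ × List (List ℕ))) : Bool :=
  (List.range 6).all fun j => (ch.getD 0 (0, [])).2.any fun w => w.all (Nat.blt · 3) && Nat.beq (evP P w 0) j

theorem transA_ok : transOK Dat.permA Dat.chPA = true := by decide +kernel

theorem transB_ok : transOK Dat.permB Dat.chPB = true := by decide +kernel

end Cfsg.Agent.Spor.JFour.Chk
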