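import Cfsg.Agent.Lib.Spor.JFourUnique
import Cfsg.Agent.Lib.Spor.JFourStabDefs

/-!
The stabilisers of the two representatives: their images on six blocks are transitive of order 120, and
their normal 2-subgroups fix every block, leaving at most 32 and 16 elements.
-/

set_option autoImplicit false
set_option maxRecDepth 100000
set_option maxHeartbeats 400000

namespace Cfsg.Agent.Spor.JFour

open Cfsg.Agent.Spor.SUSix (V6 code code_lt vecOf_code)
open Cfsg.Agent.Spor.CC

attribute [local irreducible] wd gP Gam Kp Chk.app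

/-- the stabiliser of a vector -/
def fixv (v : V6) : Subgroup PV := MulAction.stabilizer PV v

theorem mem_fixv {v : V6} {p : PV} : p ∈ fixv v ↔ p v = v := Iff.rfl

theorem card_stab {K : Subgroup PV} {v : V6} {S : Set V6}
    (hin : ∀ p ∈ K, p v ∈ S) (hsur : ∀ w ∈ S, ∃ p ∈ K, p v = w) :
    Nat.card K = S.ncard * Nat.card (K ⊓ fixv v : Subgroup PV) := by
  have horb : MulAction.orbit K v = S := by
    ext w
    constructor
    · rintro ⟨p, rfl⟩; exact hin p p.2
    · intro hw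
      obtain ⟨p, hp, e⟩ := hsur w hw
      exact ⟨⟨p, hp⟩, e⟩
  have h := MulAction.index_stabilizer K v
  rw [horb] at h
  have e : (fixv v).subgroupOf K = MulAction.stabilizer K v := by ext p; rfl
  rw [← Subgroup.card_mul_index (MulAction.stabilizer K v), h, ← e, ← Subgroup.inf_subgroupOf_left,
    Nat.card_congr (Subgroup.subgroupOfEquivOfLe inf_le_left).toEquiv, mul_comm]

theorem card_stabA (hM : Mdl) : Nat.card (Gam ⊓ fixv va : Subgroup PV) = 3840 := by
  have h := card_stab (K := Gam) (v := va) (S := {v : V6 | PI v ∧ PA v})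
    (fun p hp => ⟨(Gam_le_Pres hp va).2.2 PA_va.2.1, (Gam_le_Pres hp va).1.2 PA_va.1⟩)
    (fun w hw => by obtain ⟨p, hp, e⟩ := (trans hw.1).1 hw.2; exact ⟨p, Kp_le hp, e⟩)
  rw [card_Gam hM, count_A.1] at h
  omega

theorem card_stabB (hM : Mdl) : Nat.card (Gam ⊓ fixv vb : Subgroup PV) = 1920 := by
  have h := card_stab (K := Gam) (v := vb) (S := {v : V6 | PI v ∧ ¬ PA v})
    (fun p hp => ⟨(Gam_le_Pres hp vb).2.2 PA_va.2.2.2, fun h => PA_va.2.2.1 ((Gam_le_Pres hp vb).1.1 h)⟩)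
    (fun w hw => by obtain ⟨p, hp, e⟩ := (trans hw.1).2 hw.2; exact ⟨p, Kp_le hp, e⟩)
  rw [card_Gam hM, count_A.2] at h
  omega

/-! ### maps compatible with block masks -/

/-- pairs of a map and a compatible permutation -/
def Cmp (m : ℕ) : Subgroup (PV × Equiv.Perm (Fin 6)) where
  carrier := {q | ∀ (v : V6) (j : Fin 6), Chk.tb (Chk.mk m (code (q.1 v))) (q.2 j) = Chk.tb (Chk.mk m (code v)) j}
  one_mem' := fun _ _ => rfl
  mul_mem' {a b} ha hb v j := (ha (b.1 v) (b.2 j)).trans (hb v j)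
  inv_mem' {a} ha v j := by
    have h := ha (a.1⁻¹ v) (a.2⁻¹ j)
    rw [show a.1 (a.1⁻¹ v) = v from a.1.apply_symm_apply v,
      show a.2 (a.2⁻¹ j) = j from a.2.apply_symm_apply j] at h
    exact h.symm

theorem cmp_unique {m : ℕ} {wit : List ℕ} (hsep : Chk.sepOK m wit = true)
    (hwit : ∀ k ∈ wit, k < 4096) {p : PV} {σ σ' : Equiv.Perm (Fin 6)} (h : (p, σ) ∈ Cmp m)
    (h' : (p, σ') ∈ Cmp m) : σ = σ' := by
  refine Equiv.ext fun j => ?_
  by_contra hne
  simp only [Chk.sepOK, List.all_eq_true, List.mem_range, Bool.or_eq_true, List.any_eq_true, bne_iff_ne] at hsep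
  rcases hsep _ (σ j).2 _ (σ' j).2 with e | ⟨k, hk, e⟩
  · exact hne (Fin.ext (Nat.eq_of_beq_eq_true e))
  · apply e
    have h1 := h (p⁻¹ (SUSix.vecOf k)) j
    have h2 := h' (p⁻¹ (SUSix.vecOf k)) j
    simp only [show p (p⁻¹ (SUSix.vecOf k)) = SUSix.vecOf k from p.apply_symm_apply _,
      code_vecOf k (hwit k hk)] at h1 h2
    exact h1.trans h2.symm

/-- the maps with a compatible permutation -/
def CmpS (m : ℕ) : Subgroup PV := (Cmp m).map (MonoidHom.fst _ _)

theorem mem_CmpS {m : ℕ} {p : PV} : p ∈ CmpS m ↔ ∃ σ, (p, σ) ∈ Cmp m :=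
  ⟨fun ⟨q, hq, e⟩ => ⟨q.2, by rw [← show q.1 = p from e]; exact hq⟩, fun ⟨σ, h⟩ => ⟨(p, σ), h, rfl⟩⟩

/-- the maps fixing every block -/
def BlockKer (m : ℕ) : Subgroup PV := (Cmp m).comap (MonoidHom.inl PV (Equiv.Perm (Fin 6)))

theorem mem_BlockKer {m : ℕ} {p : PV} : p ∈ BlockKer m ↔ (p, (1 : Equiv.Perm (Fin 6))) ∈ Cmp m := Iff.rfl

/-- data for a stabiliser -/
structure St where
  /-- the vector -/
  k0 : ℕ
  /-- words -/
  W : List (List ℕ)
  /-- unit images -/
  C : List (List ℕ)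
  /-- block masks -/
  m : ℕ
  /-- witnesses -/
  wit : List ℕ
  /-- permutations -/
  P : List (List ℕ)
  /-- inverse permutations -/
  Pi : List (List ℕ)
  /-- chain on vectors -/
  chV : List (ℕ × List (List ℕ))
  /-- chain on blocks -/
  chP : List (ℕ × List (List ℕ))
  /-- words breaking pairs -/
  prim : List (List ℕ)

/-- the checks -/
structure St.OK (D : St) (size : ℕ) : Prop where
  lt : D.k0 < 4096 ∧ (∀ k ∈ D.wit, k < 4096) ∧ ∀ s < 3, ∀ c ∈ D.C.getD s [], c < 4096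
  st : Chk.stOK D.k0 D.W D.C = true
  comp : rangeOK (Chk.compOK D.m D.C D.P) 0 4096 = true
  sep : Chk.sepOK D.m D.wit = true
  perm : ((List.range 3).all fun s => Chk.permOK 6 (D.P.getD s []) (D.Pi.getD s [])) = true
  vec : Chk.chOK (Chk.evM D.C) 3 4096 [] D.chV = true ∧ Chk.chSize D.chV = size
  blk : Chk.chOK (Chk.evP D.P) 3 6 [] D.chP = true ∧ Chk.chSize D.chP = 120
  prim : Chk.primOK D.P D.prim = true
  trans : Chk.transOK D.P D.chP = true

theorem chain_lb {H : Type*} [Group H] [Finite H] {n : ℕ} (φ : H →* Equiv.Perm (Fin n)) (ev : List ℕ → ℕ → ℕ)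
    (g : ℕ → H) (hg : ∀ w : List ℕ, (∀ s ∈ w, s < 3) → ∀ u : Fin n, (φ ((w.map g).prod) u : ℕ) = ev w u)
    (lev : List (ℕ × List (List ℕ))) (hc : Chk.chOK ev 3 n [] lev = true) :
    Chk.chSize lev ≤ Nat.card φ.range := by
  let Stp : List ℕ → Subgroup (Equiv.Perm (Fin n)) := fun done =>
    { carrier := {σ | σ ∈ φ.range ∧ ∀ u : Fin n, u.val ∈ done → σ u = u}
      one_mem' := ⟨one_mem _, fun _ _ => rfl⟩
      mul_mem' := fun {a b} ha hb => ⟨mul_mem ha.1 hb.1, fun u hu => by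
        rw [Equiv.Perm.mul_apply, hb.2 u hu, ha.2 u hu]⟩
      inv_mem' := fun {a} ha => ⟨inv_mem ha.1, fun u hu => by
        rw [Equiv.Perm.inv_eq_iff_eq, ha.2 u hu]⟩ }
  have key : ∀ (L : List (ℕ × List (List ℕ))) (done : List ℕ), (∀ d ∈ done, d < n) →
      Chk.chOK ev 3 n done L = true → Chk.chSize L ≤ Nat.card (Stp done) := by
    intro L
    induction L with
    | nil => intro done _ _; exact Nat.card_pos
    | cons e L ih =>
      obtain ⟨v, ws⟩ := e
      intro done hdone h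
      simp only [Chk.chOK, Bool.and_eq_true, List.all_eq_true, decide_eq_true_eq] at h
      obtain ⟨⟨⟨hv, hws⟩, hnd⟩, hrest⟩ := h
      have hv' : v < n := Nat.le_of_ble_eq_true hv
      have hlt : ∀ i : Fin ws.length, ∀ s ∈ ws[i.val], s < 3 := fun i s hs =>
        Nat.le_of_ble_eq_true ((hws _ (List.getElem_mem i.2)).1 s hs)
      let W : Fin ws.length → Stp done := fun i => ⟨φ ((ws[i.val].map g).prod), ⟨_, rfl⟩, fun u hu =>
        Fin.ext (by
          rw [hg _ (hlt i)]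
          exact Nat.eq_of_beq_eq_true ((hws _ (List.getElem_mem i.2)).2 u hu))⟩
      let f : Fin ws.length × Stp (v :: done) → Stp done := fun q =>
        W q.1 * ⟨(q.2 : Equiv.Perm (Fin n)), q.2.2.1, fun u hu => q.2.2.2 u (List.mem_cons_of_mem _ hu)⟩
      have hf : Function.Injective f := by
        intro a b e
        have e' : ((W a.1 : Stp done) : Equiv.Perm (Fin n)) * a.2 = (W b.1 : Stp done) * (b.2 : Equiv.Perm (Fin n)) :=
          congrArg Subtype.val e
        have hi : a.1 = b.1 := by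
          have h1 := congrArg (fun σ : Equiv.Perm (Fin n) => ((σ ⟨v, hv'⟩ : Fin n) : ℕ)) e'
          simp only [Equiv.Perm.mul_apply, a.2.2.2 ⟨v, hv'⟩ List.mem_cons_self,
            b.2.2.2 ⟨v, hv'⟩ List.mem_cons_self] at h1
          have hA : ∀ i : Fin ws.length, (((W i : Stp done) : Equiv.Perm (Fin n)) ⟨v, hv'⟩ : ℕ) =
              ev ws[i.val] v := fun i => hg _ (hlt i) _
          rw [hA, hA] at h1
          exact Fin.ext ((hnd.getElem_inj_iff (i := a.1.val) (j := b.1.val) (hi := by simp) (hj := by simp)).mp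
            (by simpa using h1))
        refine Prod.ext hi (Subtype.ext ?_)
        rw [hi] at e'
        exact mul_left_cancel e'
      have h2 := Nat.card_le_card_of_injective f hf
      rw [Nat.card_prod, Nat.card_fin] at h2
      refine le_trans (Nat.mul_le_mul_left _ (ih (v :: done) (fun d hd => ?_) hrest)) h2
      rcases List.mem_cons.1 hd with rfl | hd
      exacts [hv', hdone d hd]
  exact (key lev [] (by simp) hc).trans (Subgroup.card_le_of_le fun σ hσ => hσ.1)

/-- the vectors as numbers -/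
def vecFin : V6 ≃ Fin 4096 where
  toFun v := ⟨code v, code_lt v⟩
  invFun k := SUSix.vecOf k
  left_inv v := vecOf_code v
  right_inv k := Fin.ext (code_vecOf k k.2)

section Data

variable {D : St} {size : ℕ} (h : D.OK size)

/-- the generators of the stabiliser -/
def St.gen (D : St) (s : ℕ) : PV := wd (D.W.getD s [])

include h

theorem St.OK.gen_facts (s : ℕ) (hs : s < 3) : cols (D.gen s) = D.C.getD s [] ∧ AddP (D.gen s) ∧
    D.gen s ∈ Gam ⊓ fixv (SUSix.vecOf D.k0) ∧ ∀ v, code (D.gen s v) = Chk.app (D.C.getD s []) (code v) := by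
  have h1 := h.st
  simp only [Chk.stOK, Bool.and_eq_true, List.all_eq_true, List.mem_range, leq_iff] at h1
  obtain ⟨⟨hw, hc⟩, hf⟩ := h1.2 s hs
  have hw' : ∀ x ∈ D.W.getD s [], x < 5 := fun x hx => Nat.le_of_ble_eq_true (hw x hx)
  have hcols : cols (D.gen s) = D.C.getD s [] := by rw [St.gen, wd_cols _ hw', hc]
  refine ⟨hcols, wd_addP _, ⟨wd_memG _, ?_⟩, fun v => by
    rw [← hcols]; exact app_cols (wd_addP _) v⟩
  show wd (D.W.getD s []) (SUSix.vecOf D.k0) = _
  refine code_inj ?_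
  rw [app_cols (wd_addP _), show cols (wd (D.W.getD s [])) = D.C.getD s [] from hcols, code_vecOf _ h.lt.1]
  exact Nat.eq_of_beq_eq_true hf

/-- the permutation of a generator -/
def St.OK.gperm (s : Fin 3) : Equiv.Perm (Fin 6) where
  toFun j := ⟨(D.P.getD s.val []).getD j 0, (spec h s j).1⟩
  invFun j := ⟨(D.Pi.getD s.val []).getD j 0, (spec h s j).2.1⟩
  left_inv j := Fin.ext (spec h s j).2.2.1
  right_inv j := Fin.ext (spec h s j).2.2.2
where
  spec {D : St} {size : ℕ} (h : D.OK size) (s : Fin 3) (j : Fin 6) :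
      (D.P.getD s.val []).getD j 0 < 6 ∧ (D.Pi.getD s.val []).getD j 0 < 6 ∧
        (D.Pi.getD s.val []).getD ((D.P.getD s.val []).getD j 0) 0 = j ∧
        (D.P.getD s.val []).getD ((D.Pi.getD s.val []).getD j 0) 0 = j := by
    have h1 := h.perm
    simp only [Chk.permOK, List.all_eq_true, List.mem_range, Bool.and_eq_true] at h1
    obtain ⟨⟨⟨a, b⟩, c⟩, d⟩ := h1 s s.2 j j.2
    exact ⟨Nat.le_of_ble_eq_true a, Nat.le_of_ble_eq_true b, Nat.eq_of_beq_eq_true c, Nat.eq_of_beq_eq_true d⟩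

theorem St.OK.gen_cmp (s : Fin 3) : (D.gen s.val, h.gperm s) ∈ Cmp D.m := by
  intro v j
  have h1 := all_range (p := Chk.compOK D.m D.C D.P) h.comp (Nat.zero_le _) (u := code v) (by simpa using code_lt v)
  simp only [Chk.compOK, List.all_eq_true, List.mem_range, beq_iff_eq] at h1
  show Chk.tb (Chk.mk D.m (code (D.gen s.val v))) _ = _
  rw [(h.gen_facts s.val s.2).2.2.2]
  exact h1 s.val s.2 j.val j.2

theorem St.OK.main (hcard : Nat.card (Gam ⊓ fixv (SUSix.vecOf D.k0) : Subgroup PV) ≤ size) :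
    (∀ T : Subgroup PV, T ≤ Gam ⊓ fixv (SUSix.vecOf D.k0) → IsPGroup 2 T →
        (∀ k ∈ Gam ⊓ fixv (SUSix.vecOf D.k0), ∀ t ∈ T, k * t * k⁻¹ ∈ T) → T ≤ BlockKer D.m) ∧
      120 * Nat.card (Gam ⊓ fixv (SUSix.vecOf D.k0) ⊓ BlockKer D.m : Subgroup PV) ≤ size := by
  classical
  set S := Gam ⊓ fixv (SUSix.vecOf D.k0) with hS
  let g : ℕ → PV := fun s => if s < 3 then D.gen s else 1
  set H := Subgroup.closure (Set.range g) with hH
  have hgS : ∀ s, g s ∈ S := fun s => by
    simp only [g]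
    split_ifs with hs
    exacts [(h.gen_facts s hs).2.2.1, one_mem _]
  have hHS : H ≤ S := (Subgroup.closure_le _).2 (Set.range_subset_iff.2 hgS)
  have hHC : H ≤ CmpS D.m := (Subgroup.closure_le _).2 (Set.range_subset_iff.2 fun s => by
    simp only [g]
    split_ifs with hs
    exacts [mem_CmpS.2 ⟨_, h.gen_cmp ⟨s, hs⟩⟩, one_mem _])
  let gH : ℕ → H := fun s => ⟨g s, Subgroup.subset_closure ⟨s, rfl⟩⟩
  -- the action on vectors
  have hcode : ∀ (u : Fin 4096), code (SUSix.vecOf u.val) = u.val := fun u => code_vecOf _ u.2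
  let φV : H →* Equiv.Perm (Fin 4096) := MonoidHom.mk' (fun p => vecFin.symm.trans ((p : PV).trans vecFin))
    fun a b => Equiv.ext fun u => by
      show vecFin ((a : PV) ((b : PV) (vecFin.symm u))) = vecFin ((a : PV) (vecFin.symm (vecFin ((b : PV) (vecFin.symm u)))))
      rw [vecFin.symm_apply_apply]
  have hφV : ∀ (p : H) (u : Fin 4096), (φV p u : ℕ) = code ((p : PV) (SUSix.vecOf u.val)) := fun _ _ => rfl
  have hVw : ∀ w : List ℕ, (∀ s ∈ w, s < 3) → ∀ u : Fin 4096, (φV ((w.map gH).prod) u : ℕ) = Chk.evM D.C w u := by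
    intro w
    induction w with
    | nil =>
      intro _ u
      rw [hφV, List.map_nil, List.prod_nil, OneMemClass.coe_one, Equiv.Perm.one_apply, hcode]
      rfl
    | cons s w ih =>
      intro hw u
      have hs := hw s List.mem_cons_self
      have ih' := ih (fun x hx => hw x (List.mem_cons_of_mem _ hx)) u
      rw [hφV] at ih'
      rw [hφV, List.map_cons, List.prod_cons, Subgroup.coe_mul, Equiv.Perm.mul_apply,
        show ((gH s : H) : PV) = D.gen s from if_pos hs, (h.gen_facts s hs).2.2.2, ih']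
      rfl
  have hlow : size ≤ Nat.card H := by
    rw [← h.vec.2]
    exact (chain_lb φV (Chk.evM D.C) gH hVw D.chV h.vec.1).trans (Finite.card_range_le _)
  have hSH : S = H := (Subgroup.eq_of_le_of_card_ge hHS (hcard.trans hlow)).symm
  -- the action on blocks
  have hex : ∀ p : H, ∃ σ : Equiv.Perm (Fin 6), ((p : PV), σ) ∈ Cmp D.m := fun p => mem_CmpS.1 (hHC p.2)
  choose σ hσ using hex
  have hmul : ∀ a b : H, σ (a * b) = σ a * σ b := by
    intro a b
    have h2 : (((a : PV), σ a) * ((b : PV), σ b) : PV × Equiv.Perm (Fin 6)) ∈ Cmp D.m :=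
      (Cmp D.m).mul_mem (hσ a) (hσ b)
    rw [Prod.mk_mul_mk, ← Subgroup.coe_mul] at h2
    exact cmp_unique h.sep h.lt.2.1 (hσ (a * b)) h2
  let φ : H →* Equiv.Perm (Fin 6) := MonoidHom.mk' σ hmul
  have hgen : ∀ s : Fin 3, φ (gH s.val) = h.gperm s := fun s => cmp_unique h.sep h.lt.2.1 (hσ _) (by
    show (g s.val, _) ∈ _
    rw [show g s.val = D.gen s.val from if_pos s.2]
    exact h.gen_cmp s)
  have hPw : ∀ w : List ℕ, (∀ s ∈ w, s < 3) → ∀ u : Fin 6, (φ ((w.map gH).prod) u : ℕ) = Chk.evP D.P w u := by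
    intro w
    induction w with
    | nil => intro _ u; simp [Chk.evP]
    | cons s w ih =>
      intro hw u
      rw [List.map_cons, List.prod_cons, map_mul, Equiv.Perm.mul_apply, hgen ⟨s, hw s List.mem_cons_self⟩]
      show (D.P.getD s []).getD (φ ((w.map gH).prod) u : ℕ) 0 = (D.P.getD s []).getD (Chk.evP D.P w u) 0
      rw [ih (fun x hx => hw x (List.mem_cons_of_mem _ hx)) u]
  have h120 : 120 ≤ Nat.card φ.range := by
    rw [← h.blk.2]; exact chain_lb φ (Chk.evP D.P) gH hPw D.chP h.blk.1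
  have hker : ∀ p : H, φ p = 1 ↔ (p : PV) ∈ BlockKer D.m := fun p =>
    ⟨fun e => mem_BlockKer.2 (e ▸ hσ p), fun e => cmp_unique h.sep h.lt.2.1 (hσ p) (mem_BlockKer.1 e)⟩
  constructor
  · intro T hTS hT2 hTn t ht
    -- a normal 2-subgroup of the image has trivial orbits
    let TH : Subgroup H := T.subgroupOf H
    have hTH : ∀ t ∈ T, t ∈ H := fun t ht => hSH ▸ hTS ht
    refine (hker ⟨t, hTH t ht⟩).1 ?_
    set R := TH.map φ with hR
    have hR2 : IsPGroup 2 R := (hT2.comap_subtype (K := H)).map φ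
    have hRn : ∀ a : H, ∀ r ∈ R, φ a * r * (φ a)⁻¹ ∈ R := by
      rintro a _ ⟨r, hr, rfl⟩
      refine ⟨a * r * a⁻¹, hTn a (le_of_eq hSH.symm a.2) r hr, by rw [map_mul, map_mul, map_inv]⟩
    have hmem : φ ⟨t, hTH t ht⟩ ∈ R := ⟨_, ht, rfl⟩
    -- the orbit of the first block
    set O : Set (Fin 6) := MulAction.orbit R (0 : Fin 6) with hO
    obtain ⟨e, he⟩ := hR2.card_orbit (0 : Fin 6)
    have hblock : ∀ a : H, ∀ j ∈ O, φ a 0 ∈ O → φ a j ∈ O := by
      rintro a _ ⟨⟨r, hr⟩, rfl⟩ ha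
      obtain ⟨⟨r', hr'⟩, e'⟩ := ha
      refine ⟨⟨φ a * r * (φ a)⁻¹ * r', mul_mem (hRn a r hr) hr'⟩, ?_⟩
      show (φ a * r * (φ a)⁻¹ * r') 0 = φ a (r 0)
      rw [Equiv.Perm.mul_apply, show r' 0 = φ a 0 from e']
      simp [Equiv.Perm.mul_apply]
    have htrans : ∀ j : Fin 6, ∃ a : H, φ a 0 = j := by
      intro j
      have htr := h.trans
      simp only [Chk.transOK, List.all_eq_true, List.mem_range, List.any_eq_true, Bool.and_eq_true] at htr
      obtain ⟨w, -, hw, e'⟩ := htr j j.2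
      exact ⟨(w.map gH).prod, Fin.ext ((hPw w (fun s hs => Nat.le_of_ble_eq_true (hw s hs)) 0).trans
        (Nat.eq_of_beq_eq_true e'))⟩
    have hback : ∀ a : H, ∀ j ∈ O, φ a j ∈ O → φ a 0 ∈ O := by
      rintro a _ ⟨⟨r, hr⟩, rfl⟩ ⟨⟨r', hr'⟩, e'⟩
      refine ⟨⟨(φ a * r⁻¹ * (φ a)⁻¹) * r', mul_mem (hRn a _ (inv_mem hr)) hr'⟩, ?_⟩
      show (φ a * r⁻¹ * (φ a)⁻¹ * r') 0 = φ a 0
      rw [Equiv.Perm.mul_apply, show r' 0 = φ a (r 0) from e']
      simp [Equiv.Perm.mul_apply]
    have hO1 : O = {0} := by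
      by_contra hne
      have h0 : (0 : Fin 6) ∈ O := MulAction.mem_orbit_self _
      obtain ⟨j, hj, hj0⟩ : ∃ j ∈ O, j ≠ 0 := by
        by_contra hno
        push Not at hno
        exact hne (Set.eq_singleton_iff_unique_mem.2 ⟨h0, hno⟩)
      have he' : O.ncard = 2 ^ e := by rw [← Nat.card_coe_set_eq]; exact he
      have hsize : O.ncard ≤ 3 := by
        obtain ⟨a, ha⟩ : ∃ a : H, φ a 0 ∉ O := by
          by_contra hno
          push Not at hno
          have huniv : O = Set.univ := Set.eq_univ_of_forall fun k => by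
            obtain ⟨a, rfl⟩ := htrans k
            exact hno a
          rw [huniv, Set.ncard_univ, Nat.card_fin] at he'
          rcases (show e ≤ 2 ∨ 3 ≤ e by omega) with he2 | he3
          · interval_cases e <;> omega
          · have := Nat.pow_le_pow_right (show 0 < 2 by norm_num) he3
            omega
        have hd : Disjoint O (φ a '' O) := Set.disjoint_left.2 fun k hk ⟨i, hi, hik⟩ =>
          ha (hback a i hi (hik ▸ hk))
        have hu := Set.ncard_union_eq hd
        rw [Set.ncard_image_of_injective _ (φ a).injective] at hu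
        have := Set.ncard_le_card (O ∪ φ a '' O)
        rw [Nat.card_fin] at this
        omega
      have hO2 : O = {0, j} := by
        refine (Set.eq_of_subset_of_ncard_le (Set.insert_subset h0 (Set.singleton_subset_iff.2 hj)) ?_).symm
        rw [Set.ncard_pair (Ne.symm hj0), he']
        rcases (show e ≤ 1 ∨ 2 ≤ e by omega) with he1 | he2
        · interval_cases e <;> omega
        · have := Nat.pow_le_pow_right (show 0 < 2 by norm_num) he2
          omega
      have hprim := h.prim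
      simp only [Chk.primOK, List.all_eq_true, List.mem_range, Bool.and_eq_true] at hprim
      have hj1 : 0 < j.val := Nat.pos_of_ne_zero fun e' => hj0 (Fin.ext e')
      obtain ⟨hw, hx⟩ := hprim (j.val - 1) (by omega)
      have hw' : ∀ s ∈ D.prim.getD (j.val - 1) [], s < 3 := fun s hs => Nat.le_of_ble_eq_true (hw s hs)
      set a := ((D.prim.getD (j.val - 1) []).map gH).prod
      have e0 : Chk.evP D.P (D.prim.getD (j.val - 1) []) 0 = (φ a 0 : ℕ) := (hPw _ hw' 0).symm
      have e1 := hPw _ hw' j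
      have hin : ∀ k : Fin 6, k ∈ O ↔ (Nat.beq k.val 0 || Nat.beq k.val j.val) = true := by
        intro k
        rw [hO2, Set.mem_insert_iff, Set.mem_singleton_iff, Bool.or_eq_true]
        refine or_congr ⟨?_, fun e => Fin.ext (Nat.eq_of_beq_eq_true e)⟩ ⟨?_, fun e => Fin.ext (Nat.eq_of_beq_eq_true e)⟩
        · rintro rfl; rfl
        · rintro rfl; exact Nat.beq_refl _
      rw [show j.val - 1 + 1 = j.val by omega, e0, ← e1] at hx
      have i0 := hin (φ a 0)
      have i1 := hin (φ a j)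
      have hfw := hblock a j hj
      have hbw := hback a j hj
      by_cases hc : φ a 0 ∈ O
      · have := hfw hc
        rw [i0] at hc
        rw [i1] at this
        rw [hc, this] at hx
        exact Bool.noConfusion hx
      · have hc' : φ a j ∉ O := fun h' => hc (hbw h')
        rw [i0, Bool.not_eq_true] at hc
        rw [i1, Bool.not_eq_true] at hc'
        rw [hc, hc'] at hx
        exact Bool.noConfusion hx
    refine Equiv.ext fun k => ?_
    obtain ⟨a, rfl⟩ := htrans k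
    have h1 : ((φ a)⁻¹ * φ ⟨t, hTH t ht⟩ * (φ a)⁻¹⁻¹) 0 ∈ O := by
      refine ⟨⟨_, ?_⟩, rfl⟩
      rw [← map_inv]; exact hRn a⁻¹ _ hmem
    rw [hO1, Set.mem_singleton_iff] at h1
    simp only [inv_inv, Equiv.Perm.mul_apply, Equiv.Perm.inv_eq_iff_eq] at h1
    exact h1
  · -- the kernel
    have h1 := Subgroup.card_eq_card_quotient_mul_card_subgroup φ.ker
    rw [Nat.card_congr (QuotientGroup.quotientKerEquivRange φ).toEquiv] at h1
    have h2 : Nat.card (S ⊓ BlockKer D.m : Subgroup PV) ≤ Nat.card φ.ker := by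
      refine Nat.card_le_card_of_injective
        (fun p : (S ⊓ BlockKer D.m : Subgroup PV) => (⟨⟨p.1, hSH ▸ p.2.1⟩, MonoidHom.mem_ker.2 ((hker _).2 p.2.2)⟩ : φ.ker))
        fun a b e' => Subtype.ext (congrArg (fun q : φ.ker => ((q.1 : H) : PV)) e')
    have h3 : Nat.card H ≤ size := hSH ▸ hcard
    calc 120 * Nat.card (S ⊓ BlockKer D.m : Subgroup PV) ≤ Nat.card φ.range * Nat.card φ.ker :=
          Nat.mul_le_mul h120 h2
      _ = Nat.card H := h1.symm
      _ ≤ size := h3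

end Data

/-- the stabiliser of the first representative -/
def stA : St := ⟨Chk.kA, Dat.stWA, Dat.stCA, Dat.maskA, Dat.witA, Dat.permA, Dat.permiA, Dat.chVA, Dat.chPA, Dat.primA⟩

/-- the stabiliser of the second representative -/
def stB : St := ⟨Chk.kB, Dat.stWB, Dat.stCB, Dat.maskB, Dat.witB, Dat.permB, Dat.permiB, Dat.chVB, Dat.chPB, Dat.primB⟩

theorem stA_lt : stA.k0 < 4096 ∧ (∀ k ∈ stA.wit, k < 4096) ∧ ∀ s < 3, ∀ c ∈ stA.C.getD s [], c < 4096 := by
  decide +kernel

theorem stB_lt : stB.k0 < 4096 ∧ (∀ k ∈ stB.wit, k < 4096) ∧ ∀ s < 3, ∀ c ∈ stB.C.getD s [], c < 4096 := by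
  decide +kernel

theorem stA_ok : stA.OK 3840 :=
  ⟨stA_lt, Chk.stA_ok, Chk.compA_ok, Chk.sepA_ok, Chk.permA_ok, Chk.chVA_ok, Chk.chPA_ok, Chk.primA_ok, Chk.transA_ok⟩

theorem stB_ok : stB.OK 1920 :=
  ⟨stB_lt, Chk.stB_ok, Chk.compB_ok, Chk.sepB_ok, Chk.permB_ok, Chk.chVB_ok, Chk.chPB_ok, Chk.primB_ok, Chk.transB_ok⟩

/-- a 2-group normalised by the stabiliser of a vector of the longer orbit is small -/
theorem two_B (hM : Mdl) (T : Subgroup PV) (hT : T ≤ Gam ⊓ fixv vb) (h2 : IsPGroup 2 T)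
    (hn : ∀ k ∈ Gam ⊓ fixv vb, ∀ t ∈ T, k * t * k⁻¹ ∈ T) : Nat.card T ≤ 16 := by
  obtain ⟨h1, h3⟩ := stB_ok.main (card_stabB hM).le
  have hle : T ≤ Gam ⊓ fixv vb ⊓ BlockKer Dat.maskB := le_inf hT (h1 T hT h2 hn)
  have := Subgroup.card_le_of_le hle
  have e : Nat.card (Gam ⊓ fixv vb ⊓ BlockKer Dat.maskB : Subgroup PV) * 120 ≤ 1920 := by rw [mul_comm]; exact h3
  omega

/-- a large 2-group normalised by the stabiliser of a vector of the shorter orbit is the kernel on its blocks -/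
theorem two_A (hM : Mdl) (T : Subgroup PV) (hT : T ≤ Gam ⊓ fixv va) (h2 : IsPGroup 2 T)
    (hn : ∀ k ∈ Gam ⊓ fixv va, ∀ t ∈ T, k * t * k⁻¹ ∈ T) (h32 : 32 ≤ Nat.card T) :
    T = Gam ⊓ fixv va ⊓ BlockKer Dat.maskA ∧ Nat.card T = 32 := by
  obtain ⟨h1, h3⟩ := stA_ok.main (card_stabA hM).le
  have hle : T ≤ Gam ⊓ fixv va ⊓ BlockKer Dat.maskA := le_inf hT (h1 T hT h2 hn)
  have := Subgroup.card_le_of_le hle
  have e : Nat.card (Gam ⊓ fixv va ⊓ BlockKer Dat.maskA : Subgroup PV) * 120 ≤ 3840 := by rw [mul_comm]; exact h3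
  exact ⟨Subgroup.eq_of_le_of_card_ge hle (by omega), by omega⟩

theorem ker_word_mem (w : List ℕ) (hw : w ∈ Dat.kerW) :
    (w.map fun s => stA.gen s).prod ∈ Gam ⊓ fixv va ⊓ BlockKer Dat.maskA ∧
      cols (w.map fun s => stA.gen s).prod = Chk.idL.map (Chk.evM Dat.stCA w) := by
  have h := Chk.ker_ok
  simp only [Chk.kerOK, List.all_eq_true, Bool.and_eq_true, List.mem_range] at h
  obtain ⟨hlt, hp⟩ := h w hw
  have key : ∀ w : List ℕ, (∀ s ∈ w, s < 3) → (w.map fun s => stA.gen s).prod ∈ Gam ⊓ fixv va ∧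
      AddP (w.map fun s => stA.gen s).prod ∧
      (∀ v, code ((w.map fun s => stA.gen s).prod v) = Chk.evM Dat.stCA w (code v)) ∧
      ∃ σ : Equiv.Perm (Fin 6), ((w.map fun s => stA.gen s).prod, σ) ∈ Cmp Dat.maskA ∧
        ∀ u : Fin 6, (σ u : ℕ) = Chk.evP Dat.permA w u := by
    intro w
    induction w with
    | nil =>
      intro _
      rw [List.map_nil, List.prod_nil]
      exact ⟨one_mem _, AddP.one, fun v => rfl, 1, (Cmp Dat.maskA).one_mem, fun u => rfl⟩
    | cons s w ih =>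
      intro hs
      obtain ⟨a, b, c, σ, d, e⟩ := ih fun x hx => hs x (List.mem_cons_of_mem _ hx)
      have hs' := hs s List.mem_cons_self
      obtain ⟨g1, g2, g3, g4⟩ := stA_ok.gen_facts s hs'
      rw [List.map_cons, List.prod_cons]
      have gd : ((stA.gen s, stA_ok.gperm ⟨s, hs'⟩) * ((w.map fun s => stA.gen s).prod, σ) :
          PV × Equiv.Perm (Fin 6)) ∈ Cmp Dat.maskA := (Cmp Dat.maskA).mul_mem (stA_ok.gen_cmp ⟨s, hs'⟩) d
      rw [Prod.mk_mul_mk] at gd
      refine ⟨mul_mem g3 a, g2.mul b, fun v => ?_, stA_ok.gperm ⟨s, hs'⟩ * σ, gd, fun u => ?_⟩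
      · show code (stA.gen s ((w.map fun s => stA.gen s).prod v)) = _
        rw [g4, c]; rfl
      · show (Dat.permA.getD s []).getD (σ u : ℕ) 0 = (Dat.permA.getD s []).getD (Chk.evP Dat.permA w u) 0
        rw [e]
  obtain ⟨a, -, c, σ, d, e⟩ := key w fun s hs => Nat.le_of_ble_eq_true (hlt s hs)
  refine ⟨⟨a, ?_⟩, List.map_congr_left fun k hk => by rw [c, code_vecOf k (idL_lt k hk)]⟩
  have hσ : σ = 1 := Equiv.ext fun u => Fin.ext (by rw [e]; exact Nat.eq_of_beq_eq_true (hp u u.2))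
  exact mem_BlockKer.2 (hσ ▸ d)

end Cfsg.Agent.Spor.JFour
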