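import Cfsg.Agent.Lib.Spor.JFourDefs
import Cfsg.Agent.Lib.Spor.JFourSylowData

/-!
Checks on a Sylow 2-subgroup: fixed vectors of its involutions and the elements moving them little.
-/

set_option autoImplicit false

namespace Cfsg.Agent.Spor.JFour.Chk

open Dat

/-- unit images of the generators -/
def sylG (s : ℕ) : List ℕ := idL.map (evM stCA (sylW.getD s []))

/-- an element -/
def sylE (i : ℕ) : List ℕ := sylL.getD i []

/-- the list is closed under the generators -/
def closedOK (i : ℕ) : Bool := (List.range 4).all fun s => memL (cmul (sylG s) (sylE i)) sylL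

/-- the list is reached -/
def reachOK : Bool :=
  Nat.beq sylL.length 256 && Nat.beq sylW.length 4 && sylW.all (fun w => w.all (Nat.blt · 3)) &&
    leq (sylE 0) idL && (List.range 256).all fun i =>
      Nat.beq i 0 || (Nat.blt (sylS.getD i 0) 4 && Nat.blt (sylP.getD i 0) i &&
        leq (sylE i) (cmul (sylG (sylS.getD i 0)) (sylE (sylP.getD i 0))))

/-- no repetition -/
def distinctOK : Bool := (List.range 256).all fun i => (List.range i).all fun j => !leq (sylE i) (sylE j)

/-- the involutions are listed -/
def invListOK : Bool :=
  (List.range 256).all fun i =>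
    !(leq (cmul (sylE i) (sylE i)) idL) || Nat.beq i 0 || sylI.any (Nat.beq i)

/-- span of a list -/
def spanL (L : List ℕ) : List ℕ :=
  L.foldl (fun s v => if s.any (Nat.beq v) then s else s ++ s.map (Nat.xor v)) [0]

/-- commutator bit on codes -/
def bb (u v : ℕ) : Bool := qb (Nat.xor u v) ^^ qb u ^^ qb v

/-- linear -/
def linL (X : List ℕ) : Bool := leq (cmul X cW) (cmul cW X)

/-- number of fixed vectors -/
def fixN (X : List ℕ) : ℕ := bif linL X then 256 else 64

/-- the moved part of a vector -/
def mv (X : List ℕ) (k : ℕ) : ℕ := Nat.xor (app X k) k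

/-- all are orthogonal -/
def orthL (A B : List ℕ) : Bool := A.all fun a => B.all fun b => !bb a b

/-- fixed vectors and images of an involution -/
def fixOK (X fb xs ds : List ℕ) : Bool :=
  Nat.beq (spanL fb).length (fixN X) && fb.all (fun f => Nat.blt f 4096 && Nat.beq (app X f) f) &&
    xs.all (Nat.blt · 4096) && ds.all (Nat.blt · 4096) &&
    Nat.beq (Nat.mul (fixN X) (spanL (xs.map (mv X))).length) 4096 &&
    Nat.beq (spanL ds).length (fixN X) && orthL (xs.map (mv X)) fb &&
    ((spanL ds).all fun d => Nat.beq d 0 || fb.any fun f => bb d f) &&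
    (linL X || fb.all fun f => (spanL (xs.map (mv X))).any (Nat.beq f))

/-- all involutions -/
def fixAll (i : ℕ) : Bool :=
  fixOK (sylE (sylI.getD i 0)) (sylF.getD i []) (sylX.getD i []) (sylD.getD i [])

/-- small images of the linear elements commuting with an involution -/
def smallL (X fb : List ℕ) : List (List ℕ) :=
  ((sylL.filter fun e => linL e && leq (cmul e X) (cmul X e)).map fun e => spanL (fb.map (mv e))).filter
    fun im => Nat.ble im.length 4

/-- equality of lists of lists -/
def leqq : List (List ℕ) → List (List ℕ) → Bool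
  | [], [] => true
  | a :: L, b :: M => leq a b && leqq L M
  | _, _ => false

/-- inclusion -/
def subL (A B : List ℕ) : Bool := A.all fun a => B.any (Nat.beq a)

/-- few elements with small images -/
def smallOK (X : List ℕ) (sm : List (List ℕ)) : Bool :=
  Nat.ble ((sm.filter fun im => Nat.beq im.length 1).length) 2 &&
    sm.all fun im => Nat.beq im.length 1 || (Nat.beq im.length 4 &&
      Nat.ble ((sm.filter fun im' => subL im' im).length) (bif linL X then 16 else 2))

/-- all involutions -/
def smallAll (i : ℕ) : Bool :=
  leqq (smallL (sylE (sylI.getD i 0)) (sylF.getD i [])) (sylM.getD i []) &&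
    smallOK (sylE (sylI.getD i 0)) (sylM.getD i [])

end Cfsg.Agent.Spor.JFour.Chk
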