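import Cfsg.Agent.Lib.Spor.JFourThreeNorm
import Cfsg.Agent.Lib.Spor.JFourCentre
import Cfsg.Agent.Lib.Solv.Extraspecial

/-!
Janko four type: the Sylow subgroup of order 27, its normaliser, and the single class of elements of order three.
-/

set_option autoImplicit false
set_option maxRecDepth 100000
set_option linter.unusedSectionVars false

namespace Cfsg.Agent.Spor.JFour

attribute [local irreducible] Gam Kp Chk.app

local notation "G22" => Subtype (fun x => x ∈ Cfsg.Spor.M22)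

universe u

theorem factor_three (k a m : ℕ) (h : k = 3 ^ a * m) (hm : ¬ 3 ∣ m) : k.factorization 3 = a := by
  subst h
  have hm0 : m ≠ 0 := fun e => hm (e ▸ dvd_zero 3)
  rw [Nat.factorization_mul (by positivity) hm0, Finsupp.add_apply, Nat.factorization_eq_zero_of_not_dvd hm,
    Nat.Prime.factorization_pow Nat.prime_three, Finsupp.single_eq_same, add_zero]

theorem card_T3 : Nat.card T3 = 9 := by
  refine (Nat.card_eq_of_bijective (fun p : Fin 3 × Fin 3 => (⟨t3 p.1 p.2, p.1, p.2, rfl⟩ : T3)) ⟨?_, ?_⟩).symm.trans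
    (by rw [Nat.card_prod, Nat.card_fin])
  · intro p q e
    obtain ⟨h1, h2⟩ := t3_group.2.1 _ _ _ _ (congrArg Subtype.val e)
    exact Prod.ext h1 h2
  · rintro ⟨_, i, j, rfl⟩
    exact ⟨(i, j), rfl⟩

theorem factor_G22 : (Nat.card G22).factorization 3 = 2 := by
  rw [Local.FS.Mathieu.card_m22]
  exact factor_three _ 2 49280 (by norm_num) (by norm_num)

theorem m22_three_pow {e : G22} (he : e ^ 27 = 1) : e ^ 3 = 1 := by
  haveI : Fact (Nat.Prime 3) := ⟨Nat.prime_three⟩
  have h3 : IsPGroup 3 (Subgroup.zpowers e) := by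
    obtain ⟨k, -, hk⟩ := (Nat.dvd_prime_pow Nat.prime_three).1 (orderOf_dvd_of_pow_eq_one (show e ^ 3 ^ 3 = 1 from he))
    exact IsPGroup.of_card (n := k) (by rw [Nat.card_zpowers, hk])
  obtain ⟨R, hR⟩ := h3.exists_le_sylow
  let S : Sylow 3 G22 := Sylow.ofCard T3 (by rw [card_T3, factor_G22]; norm_num)
  obtain ⟨g, hg⟩ := MulAction.exists_smul_eq G22 R S
  have h1 : MulAut.conj g • e ∈ (g • R : Sylow 3 G22) :=
    Subgroup.smul_mem_pointwise_smul _ (MulAut.conj g) _ (hR (Subgroup.mem_zpowers e))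
  rw [hg] at h1
  obtain ⟨i, j, hij⟩ := h1
  have h2 : (g * e * g⁻¹) ^ 3 = 1 := by
    rw [show g * e * g⁻¹ = t3 i j from hij.symm, pow_succ, pow_two, t3_group.1, t3_group.1,
      (by decide : ∀ i : Fin 3, i + i + i = 0) i, (by decide : ∀ i : Fin 3, i + i + i = 0) j, t3_group.2.2]
  rwa [conj_pow, conj_eq_one_iff] at h2

theorem card_norm_sylow (P : Sylow 3 G22) : Nat.card (Subgroup.normalizer ((P : Subgroup G22) : Set G22)) = 72 := by
  haveI : Fact (Nat.Prime 3) := ⟨Nat.prime_three⟩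
  let S : Sylow 3 G22 := Sylow.ofCard T3 (by rw [card_T3, factor_G22]; norm_num)
  have h1 := Subgroup.card_mul_index (Subgroup.normalizer ((P : Subgroup G22) : Set G22))
  have h2 := Subgroup.card_mul_index (Subgroup.normalizer ((S : Subgroup G22) : Set G22))
  rw [show (Subgroup.normalizer ((P : Subgroup G22) : Set G22)).index = Nat.card (Sylow 3 G22) from
    P.card_eq_index_normalizer.symm] at h1
  rw [show (Subgroup.normalizer ((S : Subgroup G22) : Set G22)).index = Nat.card (Sylow 3 G22) from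
    S.card_eq_index_normalizer.symm, ← h1] at h2
  rw [← Nat.eq_of_mul_eq_mul_right Nat.card_pos h2]
  exact card_norm_T3

theorem Kp_three (hM : Mdl) {p : PV} (hp : p ∈ Kp) (h : p ^ 27 = 1) : p ^ 3 = 1 := by
  obtain ⟨ψ, O⟩ := hM
  haveI : Fact (Nat.Prime 3) := ⟨Nat.prime_three⟩
  by_cases hns : p ∈ Subgroup.zpowers gW
  · rcases gW_cases hns with e | e | e <;> rw [e]
    · exact one_pow 3
    · exact gW_facts.1
    · rw [(Commute.refl gW).mul_pow, gW_facts.1, one_mul]
  · have hX : pX ∈ Kp := pX_facts.1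
    have e1 : ψ ⟨p, hp⟩ ^ 3 = 1 := m22_three_pow (by
      rw [← map_pow, show (⟨p, hp⟩ : Kp) ^ 27 = 1 from Subtype.ext (by rw [SubmonoidClass.coe_pow]; exact h), map_one])
    have o1 : orderOf (ψ ⟨p, hp⟩) = 3 := orderOf_eq_prime e1 fun e => hns ((O.ker _).1 e)
    have o2 : orderOf (ψ ⟨pX, hX⟩) = 3 := orderOf_eq_prime
      (by rw [← map_pow, show (⟨pX, hX⟩ : Kp) ^ 3 = 1 from Subtype.ext (by
        rw [SubmonoidClass.coe_pow]; exact pX_facts.2.2), map_one]) fun e => pX_ne ((O.ker _).1 e)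
    obtain ⟨c, hc⟩ := isConj_iff.1 (three_class o1 o2)
    obtain ⟨k, rfl⟩ := O.surj c
    have hm : (((⟨pX, hX⟩ : Kp)⁻¹ * (k * ⟨p, hp⟩ * k⁻¹) : Kp) : PV) ∈ Subgroup.zpowers gW :=
      (O.ker _).1 (by rw [map_mul, map_inv, map_mul, map_mul, map_inv, hc, inv_mul_cancel])
    simp only [Subgroup.coe_mul, Subgroup.coe_inv] at hm
    set s := pX⁻¹ * ((k : PV) * p * (k : PV)⁻¹) with hs
    have hXs : Commute pX gW := (gW_comm (Kp_le_LinG hX)).symm
    have h3 : ((k : PV) * p * (k : PV)⁻¹) ^ 3 = 1 := by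
      rw [show (k : PV) * p * (k : PV)⁻¹ = pX * s by rw [hs, mul_inv_cancel_left]]
      obtain ⟨i, hi⟩ := (mem_powers_iff_mem_zpowers (x := gW)).2 hm
      rw [← show gW ^ i = s from hi, (hXs.pow_right i).mul_pow, pX_facts.2.2, one_mul, ← pow_mul, mul_comm,
        pow_mul, gW_facts.1, one_pow]
    rwa [conj_pow, conj_eq_one_iff] at h3

theorem norm_Gam {p k : PV} (hp : p ∈ Gam) (hk : k ∈ Kp) : p * k * p⁻¹ ∈ Kp := by
  have hp' : p ∈ Kp ∨ eo * p ∈ Kp := by revert hp; unfold Gam; exact id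
  rcases hp' with h | h
  · exact mul_mem (mul_mem h hk) (inv_mem h)
  · have := outer_normalizes (mul_mem (mul_mem h hk) (inv_mem h))
    rwa [show eo * (eo * p * k * (eo * p)⁻¹) * eo⁻¹ = (eo * eo) * (p * k * p⁻¹) * (eo * eo)⁻¹ by group,
      show eo * eo = 1 from eo_sq, one_mul, inv_one, mul_one] at this

/-- a Sylow subgroup of the model is not abelian -/
theorem sylow_noncomm (hM : Mdl) {S : Subgroup PV} (hS : S ≤ Gam) (hc : Nat.card S = 27)
    (hab : ∀ a ∈ S, ∀ b ∈ S, Commute a b) : False := by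
  haveI : Fact (Nat.Prime 3) := ⟨Nat.prime_three⟩
  obtain ⟨c, hcK, hcX⟩ := pX_scal 1 (by norm_num)
  rw [pow_one] at hcX
  obtain ⟨hXK, -, hX3⟩ := pX_facts
  have hXW : Commute pX gW := (gW_comm (Kp_le_LinG hXK)).symm
  have hcW : Commute c gW := (gW_comm (Kp_le_LinG hcK)).symm
  obtain ⟨a, m, hm, ham⟩ := Nat.exists_eq_pow_mul_and_not_dvd (orderOf_pos c).ne' 3 (by norm_num)
  set q := c ^ m with hq
  have hq3 : q ^ 3 ^ a = 1 := by rw [hq, ← pow_mul, mul_comm, ← ham, pow_orderOf_eq_one]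
  have hqX : ∀ n : ℕ, c ^ n * pX * (c ^ n)⁻¹ = pX * gW ^ n := by
    intro n
    induction n with
    | zero => simp
    | succ n ih =>
      rw [pow_succ' c, mul_inv_rev, show c * c ^ n * pX * ((c ^ n)⁻¹ * c⁻¹) = c * (c ^ n * pX * (c ^ n)⁻¹) * c⁻¹ by group,
        ih, ← conj_mul, hcX, (hcW.pow_right n).eq, mul_inv_cancel_right, pow_succ', mul_assoc]
  set U := Subgroup.zpowers pX ⊔ Subgroup.zpowers gW with hU
  have hU3 : IsPGroup 3 U := by
    refine (IsPGroup.of_card (n := 1) ?_).to_sup_of_normal_left'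
      (IsPGroup.of_card (n := 1) ?_) ?_
    · rw [Nat.card_zpowers, pow_one]; exact orderOf_eq_prime hX3 fun e => pX_ne (e ▸ one_mem _)
    · rw [Nat.card_zpowers, pow_one]; exact orderOf_eq_prime gW_facts.1 gW_facts.2
    · rw [Subgroup.zpowers_le]
      refine Subgroup.mem_normalizer_fintype fun e he => ?_
      obtain ⟨i, rfl⟩ := he
      show gW * pX ^ i * gW⁻¹ ∈ Subgroup.zpowers pX
      rw [((hXW.zpow_left i).symm).eq, mul_inv_cancel_right]
      exact ⟨i, rfl⟩
  have hqn : q ∈ Subgroup.normalizer (U : Set PV) := by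
    have hle : U ≤ U.comap (MulAut.conj q).toMonoidHom := by
      refine sup_le (Subgroup.zpowers_le.2 ?_) (Subgroup.zpowers_le.2 ?_)
      · show q * pX * q⁻¹ ∈ U
        rw [hqX]
        exact mul_mem (Subgroup.mem_sup_left (Subgroup.mem_zpowers _))
          (pow_mem (Subgroup.mem_sup_right (Subgroup.mem_zpowers _)) _)
      · show q * gW * q⁻¹ ∈ U
        rw [(hcW.pow_left m).eq, mul_inv_cancel_right]
        exact Subgroup.mem_sup_right (Subgroup.mem_zpowers _)
    exact Subgroup.mem_normalizer_fintype fun e he => hle he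
  have hV3 : IsPGroup 3 (U ⊔ Subgroup.zpowers q : Subgroup PV) := by
    obtain ⟨k, -, hk⟩ := (Nat.dvd_prime_pow Nat.prime_three).1 (orderOf_dvd_of_pow_eq_one hq3)
    exact hU3.to_sup_of_normal_left' (IsPGroup.of_card (n := k) (by rw [Nat.card_zpowers, hk]))
      (Subgroup.zpowers_le.2 hqn)
  have hVG : U ⊔ Subgroup.zpowers q ≤ Gam :=
    sup_le (sup_le (Subgroup.zpowers_le.2 (Kp_le hXK)) (Subgroup.zpowers_le.2 (Kp_le gW_mem)))
      (Subgroup.zpowers_le.2 (Kp_le (pow_mem hcK m)))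
  obtain ⟨R, hR⟩ := (hV3.of_equiv (Subgroup.subgroupOfEquivOfLe hVG).symm :
    IsPGroup 3 ((U ⊔ Subgroup.zpowers q).subgroupOf Gam)).exists_le_sylow
  let T : Sylow 3 Gam := Sylow.ofCard (S.subgroupOf Gam) (by
    rw [Nat.card_congr (Subgroup.subgroupOfEquivOfLe hS).toEquiv, hc, card_Gam hM,
      factor_three _ 3 98560 (by norm_num) (by norm_num)]
    norm_num)
  obtain ⟨g, hg⟩ := MulAction.exists_smul_eq (↥Gam) R T
  have hin : ∀ v ∈ U ⊔ Subgroup.zpowers q, (g : PV) * v * (g : PV)⁻¹ ∈ S := by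
    intro v hv
    have h1 : MulAut.conj g • (⟨v, hVG hv⟩ : Gam) ∈ (g • R : Sylow 3 Gam) :=
      Subgroup.smul_mem_pointwise_smul _ (MulAut.conj g) _ (hR hv)
    rw [hg] at h1
    exact h1
  have h := hab _ (hin q (Subgroup.mem_sup_right (Subgroup.mem_zpowers q)))
    _ (hin pX (Subgroup.mem_sup_left (Subgroup.mem_sup_left (Subgroup.mem_zpowers pX))))
  rw [Commute.conj_iff] at h
  have h2 : pX * gW ^ m = pX := by rw [← hqX m, h.eq, mul_inv_cancel_right]
  have h3 : orderOf gW ∣ m := orderOf_dvd_of_pow_eq_one (mul_eq_left.1 h2)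
  rw [orderOf_eq_prime gW_facts.1 gW_facts.2] at h3
  exact hm h3

variable {G : Type u} [Group G] [Finite G] {z : G} {Q N : Subgroup G} {x : G}
variable (S : Setup z Q N x) (f : Frame z Q x)

include S

theorem Setup.odd_Q {a : G} (ha : a ∈ Q) {n : ℕ} (hn : a ^ n = 1) (hodd : Odd n) : a = 1 := by
  have hd := Nat.dvd_gcd (orderOf_dvd_of_pow_eq_one (S.Q_two ha)) (orderOf_dvd_of_pow_eq_one hn)
  rw [show Nat.gcd 4 n = 1 from Nat.Coprime.pow_left 2 (Nat.coprime_two_left.2 hodd), Nat.dvd_one,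
    orderOf_eq_one_iff] at hd
  exact hd

include f

theorem Frame.card_C : Nat.card (Subgroup.centralizer ({z} : Set G)) = 2 ^ 13 * 2661120 := by
  rw [Subgroup.card_eq_card_quotient_mul_card_subgroup f.π.ker,
    Nat.card_congr (QuotientGroup.quotientKerEquivRange f.π).toEquiv]
  have e1 : f.π.range = Gam := Subgroup.ext fun p => by rw [MonoidHom.mem_range, f.range p]
  have e2 : f.π.ker = Q.subgroupOf _ := Subgroup.ext fun c => by rw [MonoidHom.mem_ker, f.ker, Subgroup.mem_subgroupOf]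
  rw [e1, e2, card_Gam f.mdl, Nat.card_congr (Subgroup.subgroupOfEquivOfLe (fun q hq => S.mem_C hq)).toEquiv,
    S.ord.cardQ, mul_comm]

theorem Frame.factor_C : (Nat.card (Subgroup.centralizer ({z} : Set G))).factorization 3 = 3 := by
  rw [f.card_C S]
  exact factor_three _ 3 (2 ^ 13 * 98560) (by norm_num) (by norm_num)

theorem Frame.inj_three (TC : Sylow 3 (Subgroup.centralizer ({z} : Set G))) {a : Subgroup.centralizer ({z} : Set G)}
    (ha : a ∈ (TC : Subgroup (Subgroup.centralizer ({z} : Set G)))) (h : f.π a = 1) : a = 1 := by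
  haveI : Fact (Nat.Prime 3) := ⟨Nat.prime_three⟩
  have h27 : Nat.card (TC : Subgroup (Subgroup.centralizer ({z} : Set G))) = 27 := by
    rw [TC.card_eq_multiplicity, f.factor_C S]; norm_num
  have := Subgroup.orderOf_dvd_natCard _ ha
  rw [h27] at this
  exact Subtype.ext (S.odd_Q ((f.ker a).1 h)
    (congrArg Subtype.val (orderOf_dvd_iff_pow_eq_one.1 this)) (by decide))

/-- the structure of a Sylow subgroup containing the element of order three -/
theorem Frame.sylow_x : ∃ TC : Sylow 3 (Subgroup.centralizer ({z} : Set G)),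
    S.xC ∈ (TC : Subgroup (Subgroup.centralizer ({z} : Set G))) ∧
    Nat.card (TC : Subgroup (Subgroup.centralizer ({z} : Set G))) = 27 ∧
    (∀ r ∈ (TC : Subgroup (Subgroup.centralizer ({z} : Set G))), r ^ 3 = 1 ∧ f.π r ∈ Kp ∧ Commute r S.xC) ∧
    ¬ ∀ a ∈ (TC : Subgroup (Subgroup.centralizer ({z} : Set G))),
      ∀ b ∈ (TC : Subgroup (Subgroup.centralizer ({z} : Set G))), Commute a b := by
  haveI : Fact (Nat.Prime 3) := ⟨Nat.prime_three⟩
  obtain ⟨TC, hTC⟩ := (IsPGroup.of_card (n := 1) (by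
    rw [Nat.card_zpowers, pow_one]
    exact orderOf_eq_prime S.cube_xC fun e => S.x1 (congrArg Subtype.val e)) :
      IsPGroup 3 (Subgroup.zpowers S.xC)).exists_le_sylow
  have h27 : Nat.card (TC : Subgroup (Subgroup.centralizer ({z} : Set G))) = 27 := by
    rw [TC.card_eq_multiplicity, f.factor_C S]; norm_num
  have hxT := hTC (Subgroup.mem_zpowers S.xC)
  have hp27 : ∀ r ∈ (TC : Subgroup (Subgroup.centralizer ({z} : Set G))), r ^ 27 = 1 := fun r hr =>
    orderOf_dvd_iff_pow_eq_one.1 (h27 ▸ Subgroup.orderOf_dvd_natCard _ hr)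
  have hK : ∀ r ∈ (TC : Subgroup (Subgroup.centralizer ({z} : Set G))), f.π r ∈ Kp := fun r hr =>
    f.odd_Kp S (hp27 r hr) (by decide)
  refine ⟨TC, hxT, h27, fun r hr => ⟨?_, hK r hr, ?_⟩, fun hab => ?_⟩
  · refine f.inj_three S TC (pow_mem hr 3) ?_
    rw [map_pow]
    exact Kp_three f.mdl (hK r hr) (by rw [← map_pow, hp27 r hr, map_one])
  · refine mul_inv_eq_iff_eq_mul.1 (mul_inv_eq_one.1 (f.inj_three S TC
      (mul_mem (mul_mem (mul_mem hr hxT) (inv_mem hr)) (inv_mem hxT)) ?_))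
    rw [map_mul, map_mul, map_mul, map_inv, map_inv, f.pi_x S.xC rfl,
      ((gW_comm (Kp_le_LinG (hK r hr))).symm).eq, mul_inv_cancel_right, mul_inv_cancel]
  · refine sylow_noncomm f.mdl (S := (TC : Subgroup (Subgroup.centralizer ({z} : Set G))).map f.π) ?_ ?_ ?_
    · rintro _ ⟨r, -, rfl⟩
      exact (f.range _).2 ⟨r, rfl⟩
    · rw [← h27]
      refine (Nat.card_eq_of_bijective (fun r : (TC : Subgroup (Subgroup.centralizer ({z} : Set G))) =>
        (⟨f.π r, r, r.2, rfl⟩ : (TC : Subgroup (Subgroup.centralizer ({z} : Set G))).map f.π)) ⟨?_, ?_⟩).symm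
      · intro a b e
        have e' : f.π a = f.π b := congrArg Subtype.val e
        exact Subtype.ext (inv_mul_eq_one.1 (f.inj_three S TC (mul_mem (inv_mem a.2) b.2)
          (by rw [map_mul, map_inv, e', inv_mul_cancel])))
      · rintro ⟨_, r, hr, rfl⟩
        exact ⟨⟨r, hr⟩, rfl⟩
    · rintro _ ⟨a, ha, rfl⟩ _ ⟨b, hb, rfl⟩
      exact (hab a ha b hb).map f.π

/-- elements of order three with the same image are conjugate -/
theorem Frame.lift_conj {a b : Subgroup.centralizer ({z} : Set G)} (ha : a ^ 3 = 1) (hb : b ^ 3 = 1)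
    (he : f.π a = f.π b) : IsConj a b := by
  haveI : Fact (Nat.Prime 3) := ⟨Nat.prime_three⟩
  have hzero : ∀ c : Subgroup.centralizer ({z} : Set G), c ^ 3 = 1 → f.π c = 1 → c = 1 := fun c h1 h2 =>
    Subtype.ext (S.odd_Q ((f.ker c).1 h2) (congrArg Subtype.val h1) (by decide))
  by_cases h1 : f.π a = 1
  · rw [hzero a ha h1, hzero b hb (he ▸ h1)]
  set p := f.π a with hp
  have hp3 : p ^ 3 = 1 := by rw [hp, ← map_pow, ha, map_one]
  have ho : orderOf p = 3 := orderOf_eq_prime hp3 h1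
  set M := (Subgroup.zpowers p).comap f.π with hM
  have hMc : Nat.card M = 2 ^ 13 * 3 := by
    rw [Subgroup.card_eq_card_quotient_mul_card_subgroup (f.π.comp M.subtype).ker,
      Nat.card_congr (QuotientGroup.quotientKerEquivRange _).toEquiv, MonoidHom.range_comp, Subgroup.range_subtype,
      hM, Subgroup.map_comap_eq_self (Subgroup.zpowers_le.2 ⟨a, rfl⟩), Nat.card_zpowers, ho, mul_comm, ← S.ord.cardQ]
    congr 1
    exact Nat.card_congr
      { toFun := fun k => ⟨((k.1.1 : Subgroup.centralizer ({z} : Set G)) : G), (f.ker k.1.1).1 k.2⟩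
        invFun := fun q => ⟨⟨⟨q, S.mem_C q.2⟩, by
          show f.π ⟨(q : G), S.mem_C q.2⟩ ∈ Subgroup.zpowers p
          rw [(f.ker _).2 q.2]; exact one_mem _⟩, (f.ker ⟨(q : G), S.mem_C q.2⟩).2 q.2⟩
        left_inv := fun _ => rfl
        right_inv := fun _ => rfl }
  have hf : (Nat.card M).factorization 3 = 1 := by
    rw [hMc]; exact factor_three _ 1 (2 ^ 13) (by norm_num) (by norm_num)
  have haM : a ∈ M := Subgroup.mem_zpowers p
  have hbM : b ∈ M := show f.π b ∈ Subgroup.zpowers p by rw [← he]; exact Subgroup.mem_zpowers p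
  have hsyl : ∀ u : M, u ^ 3 = 1 → f.π u = p → Nat.card (Subgroup.zpowers u) = 3 ^ (Nat.card M).factorization 3 := by
    intro u h3 hu
    rw [hf, pow_one, Nat.card_zpowers]
    exact orderOf_eq_prime h3 fun e => h1 (by rw [← hu, e]; exact map_one f.π)
  let Pa : Sylow 3 M := Sylow.ofCard _ (hsyl ⟨a, haM⟩ (Subtype.ext ha) rfl)
  let Pb : Sylow 3 M := Sylow.ofCard _ (hsyl ⟨b, hbM⟩ (Subtype.ext hb) he.symm)
  obtain ⟨m, hm⟩ := MulAction.exists_smul_eq M Pa Pb
  have h2 : MulAut.conj m • (⟨a, haM⟩ : M) ∈ (m • Pa : Sylow 3 M) :=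
    Subgroup.smul_mem_pointwise_smul _ (MulAut.conj m) _ (Subgroup.mem_zpowers _)
  rw [hm] at h2
  set c : Subgroup.centralizer ({z} : Set G) := (m : Subgroup.centralizer ({z} : Set G)) * a *
    (m : Subgroup.centralizer ({z} : Set G))⁻¹ with hc
  obtain ⟨i, hi⟩ := h2
  have hi' : b ^ i = c := congrArg Subtype.val hi
  refine isConj_iff.2 ⟨(m : Subgroup.centralizer ({z} : Set G)), ?_⟩
  rw [← hc, ← mul_inv_eq_one]
  refine hzero _ ?_ ?_
  · rw [← hi', ← zpow_sub_one, ← zpow_natCast, ← zpow_mul, mul_comm, zpow_mul, zpow_natCast, hb, one_zpow]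
  · obtain ⟨j, hj⟩ : f.π (m : Subgroup.centralizer ({z} : Set G)) ∈ Subgroup.zpowers p := m.2
    rw [map_mul, map_inv, hc, map_mul, map_mul, map_inv, ← hp, ← hj, ((Commute.refl p).zpow_left j).eq,
      mul_inv_cancel_right, ← he, mul_inv_cancel]

/-- the order of the normaliser of a Sylow subgroup of the centraliser -/
theorem Frame.card_norm (TC : Sylow 3 (Subgroup.centralizer ({z} : Set G))) :
    Nat.card (Subgroup.normalizer ((TC : Subgroup (Subgroup.centralizer ({z} : Set G))) :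
      Set (Subgroup.centralizer ({z} : Set G)))) = 864 := by
  haveI : Fact (Nat.Prime 3) := ⟨Nat.prime_three⟩
  obtain ⟨T0, hx0, h27, hT0, -⟩ := f.sylow_x S
  -- reduce to the chosen one
  have hidx := Subgroup.card_mul_index (Subgroup.normalizer ((TC : Subgroup (Subgroup.centralizer ({z} : Set G))) :
    Set (Subgroup.centralizer ({z} : Set G))))
  have hidx0 := Subgroup.card_mul_index (Subgroup.normalizer ((T0 : Subgroup (Subgroup.centralizer ({z} : Set G))) :
    Set (Subgroup.centralizer ({z} : Set G))))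
  rw [show (Subgroup.normalizer ((TC : Subgroup (Subgroup.centralizer ({z} : Set G))) :
    Set (Subgroup.centralizer ({z} : Set G)))).index = Nat.card (Sylow 3 (Subgroup.centralizer ({z} : Set G))) from
      TC.card_eq_index_normalizer.symm] at hidx
  rw [show (Subgroup.normalizer ((T0 : Subgroup (Subgroup.centralizer ({z} : Set G))) :
    Set (Subgroup.centralizer ({z} : Set G)))).index = Nat.card (Sylow 3 (Subgroup.centralizer ({z} : Set G))) from
      T0.card_eq_index_normalizer.symm, ← hidx] at hidx0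
  rw [← Nat.eq_of_mul_eq_mul_right Nat.card_pos hidx0]
  set Tm : Subgroup (Subgroup.centralizer ({z} : Set G)) := (T0 : Subgroup (Subgroup.centralizer ({z} : Set G)))
  set S3 := Tm.map f.π with hS3
  have hS3K : S3 ≤ Kp := by
    rintro _ ⟨r, hr, rfl⟩
    exact (hT0 r hr).2.1
  set A := Gam ⊓ Subgroup.normalizer (S3 : Set PV) with hA
  -- the normaliser inside the derived part
  obtain ⟨ψ, O⟩ := f.mdl
  have hcS3 : Nat.card S3 = 27 := by
    rw [← h27, hS3]
    refine (Nat.card_eq_of_bijective (fun r : Tm => (⟨f.π r, r, r.2, rfl⟩ : Tm.map f.π)) ⟨?_, ?_⟩).symm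
    · intro a b e
      have e' : f.π a = f.π b := congrArg Subtype.val e
      exact Subtype.ext (inv_mul_eq_one.1 (f.inj_three S T0 (mul_mem (inv_mem a.2) b.2)
        (by rw [map_mul, map_inv, e', inv_mul_cancel])))
    · rintro ⟨_, r, hr, rfl⟩
      exact ⟨⟨r, hr⟩, rfl⟩
  have hker : ψ.ker ≤ S3.subgroupOf Kp := by
    intro k hk
    obtain ⟨i, hi⟩ := (O.ker k).1 hk
    rw [Subgroup.mem_subgroupOf, ← show gW ^ i = (k : PV) from hi]
    exact zpow_mem (show gW ∈ S3 from ⟨S.xC, hx0, f.pi_x S.xC rfl⟩) i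
  have hkc : Nat.card ψ.ker = 3 := by
    have e : ψ.ker = (Subgroup.zpowers gW).subgroupOf Kp := by
      ext k; rw [MonoidHom.mem_ker, O.ker, Subgroup.mem_subgroupOf]
    rw [e, Nat.card_congr (Subgroup.subgroupOfEquivOfLe (Subgroup.zpowers_le.2 gW_mem)).toEquiv, Nat.card_zpowers,
      orderOf_eq_prime gW_facts.1 gW_facts.2]
  have hcomap : ∀ H : Subgroup G22, Nat.card (H.comap ψ) = 3 * Nat.card H := by
    intro H
    rw [Subgroup.card_eq_card_quotient_mul_card_subgroup (ψ.subgroupComap H).ker,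
      Nat.card_congr (QuotientGroup.quotientKerEquivOfSurjective _
        (fun h => by obtain ⟨k, hk⟩ := O.surj h; exact ⟨⟨k, show ψ k ∈ H by rw [hk]; exact h.2⟩, Subtype.ext hk⟩)).toEquiv,
      mul_comm 3]
    congr 1
    rw [← hkc]
    exact Nat.card_congr
      { toFun := fun k => ⟨k.1.1, congrArg Subtype.val k.2⟩
        invFun := fun k => ⟨⟨k.1, show ψ k.1 ∈ H by rw [k.2]; exact one_mem H⟩, Subtype.ext k.2⟩
        left_inv := fun _ => rfl
        right_inv := fun _ => rfl }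
  set T' := (S3.subgroupOf Kp).map ψ with hT'
  have hpre : T'.comap ψ = S3.subgroupOf Kp := Subgroup.comap_map_eq_self hker
  have hT'c : Nat.card T' = 9 := by
    have := hcomap T'
    rw [hpre, Nat.card_congr (Subgroup.subgroupOfEquivOfLe hS3K).toEquiv, hcS3] at this
    omega
  let P' : Sylow 3 G22 := Sylow.ofCard T' (by rw [hT'c, factor_G22]; norm_num)
  have hKN : Nat.card (Kp ⊓ Subgroup.normalizer (S3 : Set PV) : Subgroup PV) = 216 := by
    have h1 := hcomap (Subgroup.normalizer (T' : Set G22))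
    rw [show Nat.card (Subgroup.normalizer (T' : Set G22)) = 72 from card_norm_sylow P',
      Subgroup.comap_normalizer_eq_of_surjective T' O.surj, hpre] at h1
    rw [show 216 = 3 * 72 from rfl, ← h1]
    refine Nat.card_congr
      { toFun := fun k => ⟨⟨k.1, k.2.1⟩, Subgroup.mem_normalizer_iff.2 fun s =>
          Subgroup.mem_normalizer_iff.1 k.2.2 (s : PV)⟩
        invFun := fun k => ⟨k.1.1, k.1.2, Subgroup.mem_normalizer_iff.2 fun s => ⟨fun hs => ?_, fun hs => ?_⟩⟩
        left_inv := fun _ => rfl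
        right_inv := fun _ => rfl }
    · exact (Subgroup.mem_normalizer_iff.1 k.2 ⟨s, hS3K hs⟩).1 hs
    · have hsK : s ∈ Kp := by
        have := mul_mem (mul_mem (inv_mem k.1.2) (hS3K hs)) k.1.2
        rwa [show (k.1.1 : PV)⁻¹ * (k.1.1 * s * (k.1.1 : PV)⁻¹) * k.1.1 = s by group] at this
      exact (Subgroup.mem_normalizer_iff.1 k.2 ⟨s, hsK⟩).2 hs
  -- Frattini
  have hAc : Nat.card A = 432 := by
    let P3 : Sylow 3 Kp := Sylow.ofCard (S3.subgroupOf Kp) (by
      rw [Nat.card_congr (Subgroup.subgroupOfEquivOfLe hS3K).toEquiv, hcS3, card_Kp f.mdl,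
        factor_three _ 3 49280 (by norm_num) (by norm_num)]
      norm_num)
    set S3' := S3.map (MulAut.conj eo).toMonoidHom with hS3'
    have hle' : S3' ≤ Kp := by
      rintro _ ⟨r, hr, rfl⟩
      exact norm_Gam outer_mem (hS3K hr)
    let P4 : Sylow 3 Kp := Sylow.ofCard (S3'.subgroupOf Kp) (by
      rw [Nat.card_congr (Subgroup.subgroupOfEquivOfLe hle').toEquiv, hS3',
        Subgroup.card_map_of_injective (MulAut.conj eo).injective, hcS3, card_Kp f.mdl,
        factor_three _ 3 49280 (by norm_num) (by norm_num)]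
      norm_num)
    obtain ⟨k, hk⟩ := MulAction.exists_smul_eq Kp P4 P3
    set e := (k : PV) * eo with he
    have heA : e ∈ A := by
      refine ⟨mul_mem (Kp_le k.2) outer_mem, Subgroup.mem_normalizer_fintype fun r hr => ?_⟩
      have h1 : MulAut.conj k • (⟨eo * r * eo⁻¹, hle' ⟨r, hr, rfl⟩⟩ : Kp) ∈ (k • P4 : Sylow 3 Kp) :=
        Subgroup.smul_mem_pointwise_smul _ (MulAut.conj k) _ ⟨r, hr, rfl⟩
      rw [hk] at h1
      show e * r * e⁻¹ ∈ S3
      rw [show e * r * e⁻¹ = (k : PV) * (eo * r * eo⁻¹) * (k : PV)⁻¹ by rw [he]; group]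
      exact h1
    have heK : e ∉ Kp := fun h => outer_notMem (by
      have := mul_mem (inv_mem k.2) h
      rwa [he, inv_mul_cancel_left] at this)
    have hi : (Kp.subgroupOf A).index = 2 := by
      rw [Subgroup.index_eq_two_iff]
      refine ⟨⟨e, heA⟩, fun b => ?_⟩
      simp only [Subgroup.mem_subgroupOf, Subgroup.coe_mul]
      by_cases hb : (b : PV) ∈ Kp
      · exact Or.inr ⟨hb, fun h => heK (by simpa using mul_mem (inv_mem hb) h)⟩
      · refine Or.inl ⟨?_, hb⟩
        exact (Subgroup.mul_mem_iff_of_index_two (H := Kp.subgroupOf Gam) index_Gam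
          (a := ⟨b, b.2.1⟩) (b := ⟨e, heA.1⟩)).2 (iff_of_false hb heK)
    have h1 := Subgroup.card_mul_index (Kp.subgroupOf A)
    rw [hi, ← Subgroup.inf_subgroupOf_left, Nat.card_congr (Subgroup.subgroupOfEquivOfLe inf_le_left).toEquiv,
      show A ⊓ Kp = Kp ⊓ Subgroup.normalizer (S3 : Set PV) by
        rw [hA, inf_comm, ← inf_assoc, inf_eq_left.2 Kp_le], hKN] at h1
    omega
  -- back in the centraliser
  set Nm := Subgroup.normalizer (Tm : Set (Subgroup.centralizer ({z} : Set G))) with hNm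
  set φ := f.π.comp Nm.subtype with hφ
  have hφr : φ.range = A := by
    rw [hφ, MonoidHom.range_comp, Subgroup.range_subtype]
    refine le_antisymm ?_ fun p hp => ?_
    · rintro _ ⟨c, hc, rfl⟩
      refine ⟨(f.range _).2 ⟨c, rfl⟩, Subgroup.mem_normalizer_fintype fun r hr => ?_⟩
      obtain ⟨r, hr, rfl⟩ := hr
      exact ⟨c * r * c⁻¹, (Subgroup.mem_normalizer_iff.1 hc r).1 hr, by rw [map_mul, map_mul, map_inv]⟩
    · obtain ⟨c, rfl⟩ := (f.range p).1 hp.1
      -- conjugate inside the preimage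
      set M := S3.comap f.π with hM
      have hTM : Tm ≤ M := fun r hr => ⟨r, hr, rfl⟩
      have hTM' : Tm.map (MulAut.conj c).toMonoidHom ≤ M := by
        rintro _ ⟨r, hr, rfl⟩
        show f.π (c * r * c⁻¹) ∈ S3
        rw [map_mul, map_mul, map_inv]
        exact (Subgroup.mem_normalizer_iff.1 hp.2 _).1 ⟨r, hr, rfl⟩
      let P1 : Sylow 3 M := T0.subtype hTM
      obtain ⟨P2, hP2⟩ : ∃ P : Sylow 3 M, (P : Subgroup M) = (Tm.map (MulAut.conj c).toMonoidHom).subgroupOf M := by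
        refine ⟨(c • T0).subtype hTM', ?_⟩
        rfl
      obtain ⟨m, hm⟩ := MulAction.exists_smul_eq M P2 P1
      obtain ⟨r0, hr0, hmr⟩ : f.π (m : Subgroup.centralizer ({z} : Set G)) ∈ S3 := m.2
      refine ⟨r0⁻¹ * m * c, Subgroup.mem_normalizer_fintype fun r hr => ?_, ?_⟩
      · have h1 : MulAut.conj m • (⟨c * r * c⁻¹, hTM' ⟨r, hr, rfl⟩⟩ : M) ∈ (m • P2 : Sylow 3 M) :=
          Subgroup.smul_mem_pointwise_smul _ (MulAut.conj m) _ (by rw [hP2]; exact ⟨r, hr, rfl⟩)
        rw [hm] at h1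
        have h2 : (m : Subgroup.centralizer ({z} : Set G)) * (c * r * c⁻¹) *
            (m : Subgroup.centralizer ({z} : Set G))⁻¹ ∈ Tm := h1
        show (r0⁻¹ * m * c) * r * (r0⁻¹ * m * c)⁻¹ ∈ Tm
        rw [show (r0⁻¹ * (m : Subgroup.centralizer ({z} : Set G)) * c) * r * (r0⁻¹ * m * c)⁻¹ =
          r0⁻¹ * ((m : Subgroup.centralizer ({z} : Set G)) * (c * r * c⁻¹) * (m : Subgroup.centralizer ({z} : Set G))⁻¹) * r0
          by group]
        exact mul_mem (mul_mem (inv_mem hr0) h2) hr0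
      · rw [map_mul, map_mul, map_inv, hmr, inv_mul_cancel, one_mul]
  have hk2 : Nat.card φ.ker = 2 := by
    rw [← S.zord, ← Nat.card_zpowers z]
    have hzN : (⟨z, S.zmem⟩ : Subgroup.centralizer ({z} : Set G)) ∈ Nm := by
      refine Subgroup.mem_normalizer_fintype fun r hr => ?_
      rw [show (⟨z, S.zmem⟩ : Subgroup.centralizer ({z} : Set G)) * r * (⟨z, S.zmem⟩ : Subgroup.centralizer ({z} : Set G))⁻¹ = r from
        Subtype.ext (mul_inv_eq_iff_eq_mul.2 (Subgroup.mem_centralizer_singleton_iff.1 r.2).symm)]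
      exact hr
    refine Nat.card_eq_of_bijective (fun k : φ.ker => (⟨((k.1.1 : Subgroup.centralizer ({z} : Set G)) : G), ?_⟩ :
      Subgroup.zpowers z)) ⟨fun a b e => ?_, ?_⟩
    · obtain ⟨⟨c, hc⟩, hk⟩ := k
      have hcQ : (c : G) ∈ Q := (f.ker c).1 hk
      have h1 : c * S.xC * c⁻¹ * S.xC⁻¹ = 1 := by
        refine f.inj_three S T0 (mul_mem ((Subgroup.mem_normalizer_iff.1 hc _).1 hx0) (inv_mem hx0)) ?_
        rw [map_mul, map_mul, map_mul, map_inv, map_inv, show f.π c = 1 from hk, inv_one, mul_one, one_mul,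
          mul_inv_cancel]
      have h2 : Commute (c : G) x :=
        congrArg Subtype.val (mul_inv_eq_iff_eq_mul.1 (mul_inv_eq_one.1 h1))
      rcases S.ord.free (c : G) hcQ (Or.inl (by rw [← h2.eq, mul_inv_cancel_right])) with e | e
      · show (c : G) ∈ Subgroup.zpowers z
        rw [e]; exact one_mem _
      · show (c : G) ∈ Subgroup.zpowers z
        rw [e, one_mul]; exact Subgroup.mem_zpowers z
    · exact Subtype.ext (Subtype.ext (Subtype.ext (congrArg (fun t : Subgroup.zpowers z => (t : G)) e :)))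
    · rintro ⟨w, hw⟩
      obtain ⟨i, rfl⟩ := hw
      refine ⟨⟨⟨(⟨z, S.zmem⟩ : Subgroup.centralizer ({z} : Set G)) ^ i, zpow_mem hzN i⟩, ?_⟩, Subtype.ext ?_⟩
      · show f.π ((⟨z, S.zmem⟩ : Subgroup.centralizer ({z} : Set G)) ^ i) = 1
        rw [map_zpow, (f.ker ⟨z, S.zmem⟩).2 S.ord.xt.mem, one_zpow]
      · rfl
  rw [Subgroup.card_eq_card_quotient_mul_card_subgroup φ.ker,
    Nat.card_congr (QuotientGroup.quotientKerEquivRange φ).toEquiv, hφr, hAc, hk2]

end Cfsg.Agent.Spor.JFour
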