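import Cfsg.Agent.Lib.Spor.JFourTenShape
import Cfsg.Agent.Lib.Spor.JFourElemUnique

/-!
Janko four type: the self-centralising elementary abelian subgroups of order 2^10 through the involution form one
class under its centraliser, and each is normalised there by an element of order divisible by seven.
-/

set_option autoImplicit false
set_option maxRecDepth 100000
set_option linter.unusedSectionVars false

namespace Cfsg.Agent.Spor.JFour

open Cfsg.Agent.Spor.SUSix (V6 code code_lt vecOf_code)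

attribute [local irreducible] Gam Kp Chk.app

universe u

variable {G : Type u} [Group G] [Finite G] {z : G} {Q N : Subgroup G} {x : G}
variable {f : Frame z Q x}

/-- conjugating inside the centraliser keeps the shape -/
theorem TenSub.conj {B : Subgroup (Subgroup.centralizer ({z} : Set G))} (hB : TenSub f B)
    (c : Subgroup.centralizer ({z} : Set G)) (hT : ∀ b ∈ B, f.π (c * b * c⁻¹) ∈ TS) :
    TenSub f (B.map (MulAut.conj c).toMonoidHom) := by
  refine ⟨?_, elem_map _ hB.elem, ?_, fun d hd => ?_⟩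
  · rintro _ ⟨b, hb, rfl⟩
    exact hT b hb
  · rw [Subgroup.card_map_of_injective (MulAut.conj c).injective, hB.card]
  · have h := hB.self (c⁻¹ * d * c) fun r hr => by
      have := (Commute.conj_iff c⁻¹).2 (hd _ ⟨r, hr, rfl⟩)
      simpa [mul_assoc] using this
    exact ⟨_, h, by show c * (c⁻¹ * d * c) * c⁻¹ = d; group⟩

theorem sw_elem : ∃ p ∈ TS, ∀ v ∈ Pl Dat.tenF, p v ∈ Pl Dat.tenF' := by
  have h := Chk.move_ok
  simp only [Chk.moveOK, Bool.and_eq_true, List.all_eq_true] at h
  obtain ⟨⟨⟨⟨⟨⟨hlt, hsw⟩, -⟩, -⟩, -⟩, -⟩, -⟩ := h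
  obtain ⟨p, hp, e⟩ := TS_reach Dat.tenSw (Nat.le_of_ble_eq_true hlt)
  refine ⟨p, hp, fun v hv => ?_⟩
  have e' := hsw _ hv
  rw [tb_testBit, bitsOf_iff, ← e, ← app_cols (Gam_addP (TS_le hp))] at e'
  exact e'

theorem seven_elem : ∃ p ∈ Gam, orderOf p = 7 ∧ (∀ v ∈ Pl Dat.tenF, p v ∈ Pl Dat.tenF) ∧
    ∀ q ∈ PF (Pl Dat.tenF), p * q * p⁻¹ ∈ TS := by
  have h := Chk.move_ok
  simp only [Chk.moveOK, Bool.and_eq_true, List.all_eq_true, Bool.not_eq_true', ← Bool.not_eq_true, leq_iff,
    List.any_eq_true] at h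
  obtain ⟨⟨⟨⟨⟨-, hw⟩, hinv⟩, h7⟩, h1⟩, hcj⟩ := h
  set p := wd Dat.tenW
  have hpA : AddP p := wd_addP _
  have hc : cols p = Chk.evC Dat.tenW := wd_cols _ fun s hs => Nat.le_of_ble_eq_true (hw s hs)
  have hpow : ∀ n, cols (p ^ n) = Chk.cpow (Chk.evC Dat.tenW) n := by
    intro n
    induction n with
    | zero => rw [pow_zero, cols_one]; rfl
    | succ n ih => rw [pow_succ', cols_mul hpA, ih, hc]; rfl
  refine ⟨p, wd_memG _, ?_, fun v hv => ?_, fun q hq => ?_⟩
  · haveI : Fact (Nat.Prime 7) := ⟨by norm_num⟩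
    refine orderOf_eq_prime (eq_of_cols (Gam_addP (pow_mem (wd_memG _) 7)) AddP.one (by rw [hpow, h7, cols_one]))
      fun e => h1 ?_
    rw [← hc, e, cols_one]
  · have e' := hinv _ hv
    rw [tb_testBit, bitsOf_iff, ← hc, ← app_cols hpA] at e'
    exact e'
  · obtain ⟨i, hi, e⟩ := PF_list Chk.plane_ok hq
    have hf := Chk.fixers_ok
    simp only [Chk.fixersOK, Bool.and_eq_true, leq_iff] at hf
    rw [hf.1.1.1] at hi
    obtain ⟨j, hj, hje⟩ := hcj i hi
    have hqT := (mem_PF.1 hq).1
    have hjlt : j < 256 := by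
      rw [← hf.1.1.1, List.mem_filter, List.mem_range] at hj
      exact hj.1
    obtain ⟨r, hr, er⟩ := TS_reach j hjlt
    have : p * q = r * p := eq_of_cols (hpA.mul (Gam_addP (TS_le hqT))) ((Gam_addP (TS_le hr)).mul hpA)
      (by rw [cols_mul hpA, cols_mul (Gam_addP (TS_le hr)), hc, e, er, hje])
    rwa [this, mul_inv_cancel_right]

variable (S : Big z Q N x) (f)
include S f

theorem Big.XP_image {B : Subgroup (Subgroup.centralizer ({z} : Set G))} (hB : TenSub f B) {L : List ℕ}
    (h : B = XP f (Pl L)) {b : Subgroup.centralizer ({z} : Set G)} (hb : b ∈ B) : f.π b ∈ PF (Pl L) :=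
  (h ▸ hb : b ∈ XP f (Pl L)).1

/-- moving one plane onto another moves the subgroup over it -/
theorem Big.plane_move {B : Subgroup (Subgroup.centralizer ({z} : Set G))} (hB : TenSub f B) {L L' : List ℕ}
    (hB' : B = XP f (Pl L)) (hBV : BV f B = Pl L) {p : PV} (hmove : ∀ v ∈ Pl L, p v ∈ Pl L')
    (hc : ∀ q ∈ PF (Pl L), p * q * p⁻¹ ∈ TS) {c : Subgroup.centralizer ({z} : Set G)} (hcp : f.π c = p)
    (h64 : (Pl L).ncard = 64) (h64' : (Pl L').ncard = 64) :
    B.map (MulAut.conj c).toMonoidHom = XP f (Pl L') := by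
  have himg : p '' Pl L = Pl L' := Set.eq_of_subset_of_ncard_le (Set.image_subset_iff.2 hmove)
    (by rw [Set.ncard_image_of_injective _ p.injective, h64, h64']) (Set.toFinite _)
  have hT : TenSub f (B.map (MulAut.conj c).toMonoidHom) := hB.conj c fun b hb => by
    rw [map_mul, map_mul, map_inv, hcp]
    exact hc _ (S.XP_image f hB hB' hb)
  have hsub : Pl L' ⊆ BV f (B.map (MulAut.conj c).toMonoidHom) := by
    rw [← himg, ← hBV]
    rintro _ ⟨v, ⟨q, hq, hqQ, rfl⟩, rfl⟩
    have hcz : Commute (c : G) z := Subgroup.mem_centralizer_singleton_iff.1 c.2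
    exact ⟨c * q * c⁻¹, ⟨q, hq, rfl⟩, S.base.ord.normQ _ hcz _ hqQ, (f.vec_conj c _ hqQ).trans (by rw [hcp])⟩
  rcases S.ten_shape f hT with ⟨e, e'⟩ | ⟨e, e'⟩
  all_goals
    rw [e'] at hsub
    rw [e, Set.eq_of_subset_of_ncard_le hsub (by
      rw [h64']
      first | exact le_of_eq (plane_facts Chk.plane_ok).1 | exact le_of_eq (plane_facts Chk.plane_ok').1)
      (Set.toFinite _)]

/-- any two of them in the chosen Sylow subgroup are conjugate in the centraliser -/
theorem Big.tenSub_conj {B B' : Subgroup (Subgroup.centralizer ({z} : Set G))} (hB : TenSub f B)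
    (hB' : TenSub f B') : ∃ c, B.map (MulAut.conj c).toMonoidHom = B' := by
  obtain ⟨p, hp, hmove⟩ := sw_elem
  obtain ⟨c, hc⟩ := (f.range p).1 (TS_le hp)
  have hid : ∀ W : Subgroup (Subgroup.centralizer ({z} : Set G)), W.map (MulAut.conj 1).toMonoidHom = W :=
    fun W => by ext y; simp
  have key : ∀ {B B' : Subgroup (Subgroup.centralizer ({z} : Set G))}, TenSub f B → B = XP f (Pl Dat.tenF) →
      BV f B = Pl Dat.tenF → B' = XP f (Pl Dat.tenF') → B.map (MulAut.conj c).toMonoidHom = B' := by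
    intro B B' hB h1 h2 h3
    rw [h3]
    exact S.plane_move f hB h1 h2 hmove (fun q hq => mul_mem (mul_mem hp (mem_PF.1 hq).1) (inv_mem hp)) hc
      (plane_facts Chk.plane_ok).1 (plane_facts Chk.plane_ok').1
  rcases S.ten_shape f hB with ⟨e, e'⟩ | ⟨e, -⟩ <;> rcases S.ten_shape f hB' with ⟨g, g'⟩ | ⟨g, -⟩
  · exact ⟨1, by rw [hid, e, g]⟩
  · exact ⟨c, key hB e e' g⟩
  · refine ⟨c⁻¹, ?_⟩
    rw [← key hB' g g' e, Subgroup.map_map]
    convert Subgroup.map_id B'
    ext y
    simp [mul_assoc]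
  · exact ⟨1, by rw [hid, e, g]⟩

/-- self-centralising, elementary abelian of order 2^10 -/
structure IsTen (A : Subgroup G) : Prop where
  elem : Cfsg.IsElementaryAbelian 2 A
  card : Nat.card A = 2 ^ 10
  self : Subgroup.centralizer (A : Set G) = A

omit S f in
theorem IsTen.comm {A : Subgroup G} (hA : IsTen A) {a b : G} (ha : a ∈ A) (hb : b ∈ A) : Commute a b :=
  congrArg Subtype.val (hA.elem.1.is_comm.comm (⟨a, ha⟩ : A) ⟨b, hb⟩)

omit S f in
theorem IsTen.conj {A : Subgroup G} (hA : IsTen A) (g : G) : IsTen (A.map (MulAut.conj g).toMonoidHom) := by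
  refine ⟨elem_map _ hA.elem, by rw [Subgroup.card_map_of_injective (MulAut.conj g).injective, hA.card], ?_⟩
  ext y
  rw [Subgroup.mem_map_equiv, MulAut.conj_symm_apply]
  conv_rhs => rw [← hA.self]
  rw [Subgroup.mem_centralizer_iff, Subgroup.mem_centralizer_iff]
  constructor
  · intro h r hr
    have := (Commute.conj_iff g⁻¹).2 (h _ ⟨r, hr, rfl⟩)
    simpa [Commute, SemiconjBy, mul_assoc] using this
  · rintro h _ ⟨r, hr, rfl⟩
    have := (Commute.conj_iff g).2 (h r hr)
    simpa [Commute, SemiconjBy, mul_assoc] using this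

/-- such a subgroup through the involution can be moved into the chosen Sylow subgroup -/
theorem Big.ten_into {A : Subgroup G} (hA : IsTen A) (hz : z ∈ A) :
    ∃ c : Subgroup.centralizer ({z} : Set G), TenSub f
      ((A.subgroupOf (Subgroup.centralizer ({z} : Set G))).map (MulAut.conj c).toMonoidHom) := by
  haveI : Fact (Nat.Prime 2) := ⟨Nat.prime_two⟩
  have hle : A ≤ Subgroup.centralizer ({z} : Set G) := fun r hr =>
    Subgroup.mem_centralizer_singleton_iff.2 (hA.comm hr hz).eq
  set B := A.subgroupOf (Subgroup.centralizer ({z} : Set G)) with hB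
  have hBc : Nat.card B = 2 ^ 10 := (Nat.card_congr (Subgroup.subgroupOfEquivOfLe hle).toEquiv).trans hA.card
  have hBe : Cfsg.IsElementaryAbelian 2 B := elem_comap (Subgroup.subtype_injective _) hA.elem
  obtain ⟨TC, hTC⟩ := S.sylow_C f
  obtain ⟨P, hP⟩ := (IsPGroup.of_card hBc).exists_le_sylow
  obtain ⟨c, hc⟩ := MulAction.exists_smul_eq (Subgroup.centralizer ({z} : Set G)) P TC
  refine ⟨c, ?_, elem_map _ hBe, by rw [Subgroup.card_map_of_injective (MulAut.conj c).injective, hBc], fun d hd => ?_⟩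
  · rw [← hTC, ← hc, Sylow.coe_subgroup_smul]
    exact Subgroup.map_mono hP
  · refine ⟨c⁻¹ * d * c, ?_, by show c * (c⁻¹ * d * c) * c⁻¹ = d; group⟩
    show ((c⁻¹ * d * c : Subgroup.centralizer ({z} : Set G)) : G) ∈ A
    rw [← hA.self]
    refine Subgroup.mem_centralizer_iff.2 fun r hr => ?_
    have h := (Commute.conj_iff c⁻¹).2 (hd _ ⟨⟨r, hle hr⟩, hr, rfl⟩)
    have h' : Commute (c⁻¹ * d * c) (⟨r, hle hr⟩ : Subgroup.centralizer ({z} : Set G)) := by
      simpa [mul_assoc] using h
    exact (congrArg Subtype.val h'.eq).symm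

/-- two of them through the involution are conjugate in its centraliser -/
theorem Big.ten_conj {A A' : Subgroup G} (hA : IsTen A) (hz : z ∈ A) (hA' : IsTen A') (hz' : z ∈ A') :
    ∃ c : G, Commute c z ∧ A.map (MulAut.conj c).toMonoidHom = A' := by
  obtain ⟨a, ha⟩ := S.ten_into f hA hz
  obtain ⟨b, hb⟩ := S.ten_into f hA' hz'
  obtain ⟨c, hc⟩ := S.tenSub_conj f ha hb
  set d := b⁻¹ * c * a
  refine ⟨(d : G), Subgroup.mem_centralizer_singleton_iff.1 d.2, ?_⟩
  have hle : ∀ {A : Subgroup G}, IsTen A → z ∈ A → A ≤ Subgroup.centralizer ({z} : Set G) := fun hA hz r hr =>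
    Subgroup.mem_centralizer_singleton_iff.2 (hA.comm hr hz).eq
  rw [← Subgroup.map_subgroupOf_eq_of_le (hle hA hz), ← Subgroup.map_subgroupOf_eq_of_le (hle hA' hz'),
    Subgroup.map_map]
  rw [show (MulAut.conj (d : G)).toMonoidHom.comp (Subgroup.centralizer ({z} : Set G)).subtype =
    (Subgroup.centralizer ({z} : Set G)).subtype.comp (MulAut.conj d).toMonoidHom from MonoidHom.ext fun y => rfl,
    ← Subgroup.map_map]
  congr 1
  rw [Subgroup.map_map] at hc
  apply Subgroup.map_injective (f := (MulAut.conj b).toMonoidHom) (MulAut.conj b).injective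
  rw [Subgroup.map_map, ← hc]
  congr 1
  ext y
  simp [d, mul_assoc]

/-- an element of order divisible by seven of the centraliser normalises -/
theorem Big.ten_seven {A : Subgroup G} (hA : IsTen A) (hz : z ∈ A) :
    ∃ c : G, Commute c z ∧ A.map (MulAut.conj c).toMonoidHom = A ∧ 7 ∣ orderOf c := by
  obtain ⟨a, ha⟩ := S.ten_into f hA hz
  obtain ⟨p, hp, h7, hmove, hcj⟩ := seven_elem
  obtain ⟨p', hp', hmove'⟩ := sw_elem
  obtain ⟨c', hc'⟩ := (f.range p').1 (TS_le hp')
  obtain ⟨c, hc⟩ := (f.range p).1 hp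
  -- a subgroup over the first plane
  obtain ⟨B, hB, hBX, hBV⟩ : ∃ B, TenSub f B ∧ B = XP f (Pl Dat.tenF) ∧ BV f B = Pl Dat.tenF := by
    rcases S.ten_shape f ha with ⟨e, e'⟩ | ⟨e, e'⟩
    · exact ⟨_, ha, e, e'⟩
    · have hT : TenSub f (((A.subgroupOf (Subgroup.centralizer ({z} : Set G))).map
          (MulAut.conj a).toMonoidHom).map (MulAut.conj c'⁻¹).toMonoidHom) := ha.conj c'⁻¹ fun b hb => by
        rw [inv_inv, map_mul, map_mul, map_inv, hc']
        exact mul_mem (mul_mem (inv_mem hp') (ha.le hb)) hp'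
      rcases S.ten_shape f hT with ⟨g, g'⟩ | ⟨g, g'⟩
      · exact ⟨_, hT, g, g'⟩
      · exfalso
        -- the exchange cannot fix the second plane
        have hsub : Pl Dat.tenF ⊆ Pl Dat.tenF' := by
          intro v hv
          rw [← g']
          have hv' := hmove' v hv
          rw [← e'] at hv'
          obtain ⟨q, hq, hqQ, hqv⟩ := hv'
          have hcz : Commute ((c'⁻¹ : Subgroup.centralizer ({z} : Set G)) : G) z :=
            Subgroup.mem_centralizer_singleton_iff.1 (c'⁻¹).2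
          refine ⟨c'⁻¹ * q * (c'⁻¹)⁻¹, ⟨q, hq, rfl⟩, S.base.ord.normQ _ hcz _ hqQ,
            (f.vec_conj (c'⁻¹) _ hqQ).trans ?_⟩
          rw [hqv, map_inv, hc']
          exact p'.symm_apply_apply v
        have hne : ¬ Pl Dat.tenF ⊆ Pl Dat.tenF' := by
          intro h
          have key : Dat.tenF.any (fun u => !Dat.tenF'.contains u && decide (u < 4096)) = true := by decide +kernel
          obtain ⟨u, hu, hu'⟩ := List.any_eq_true.1 key
          simp only [Bool.and_eq_true, Bool.not_eq_true', decide_eq_true_eq] at hu'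
          have := h (show SUSix.vecOf u ∈ Pl Dat.tenF by show code (SUSix.vecOf u) ∈ Dat.tenF; rw [code_vecOf u hu'.2]; exact hu)
          rw [show SUSix.vecOf u ∈ Pl Dat.tenF' ↔ code (SUSix.vecOf u) ∈ Dat.tenF' from Iff.rfl,
            code_vecOf u hu'.2, ← List.contains_iff] at this
          rw [this] at hu'
          exact Bool.noConfusion hu'.1
        exact hne hsub
  have hfix : B.map (MulAut.conj c).toMonoidHom = B := by
    conv_rhs => rw [hBX]
    exact S.plane_move f hB hBX hBV hmove hcj hc (plane_facts Chk.plane_ok).1 (plane_facts Chk.plane_ok).1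
  obtain ⟨d, hd⟩ := S.tenSub_conj f hB ha
  set e := a⁻¹ * d
  refine ⟨((e * c * e⁻¹ : Subgroup.centralizer ({z} : Set G)) : G),
    Subgroup.mem_centralizer_singleton_iff.1 (e * c * e⁻¹).2, ?_, ?_⟩
  · have hle : A ≤ Subgroup.centralizer ({z} : Set G) := fun r hr =>
      Subgroup.mem_centralizer_singleton_iff.2 (hA.comm hr hz).eq
    have hB0 : B.map (MulAut.conj e).toMonoidHom = A.subgroupOf (Subgroup.centralizer ({z} : Set G)) := by
      apply Subgroup.map_injective (f := (MulAut.conj a).toMonoidHom) (MulAut.conj a).injective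
      rw [Subgroup.map_map, ← hd]
      congr 1
      ext y
      simp [e, mul_assoc]
    conv_lhs => rw [← Subgroup.map_subgroupOf_eq_of_le hle, ← hB0, Subgroup.map_map, Subgroup.map_map]
    conv_rhs => rw [← Subgroup.map_subgroupOf_eq_of_le hle, ← hB0, ← hfix, Subgroup.map_map, Subgroup.map_map]
    congr 1
    ext y
    simp [mul_assoc]
  · rw [Subgroup.orderOf_coe,
      show orderOf (e * c * e⁻¹) = orderOf c from orderOf_injective (MulAut.conj e).toMonoidHom (MulAut.conj e).injective c,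
      ← h7, ← hc]
    exact orderOf_map_dvd f.π c

end Cfsg.Agent.Spor.JFour
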