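import Cfsg.Agent.Lib.Spor.JFourTenDefs

/-!
The checks for the self-centralising elementary subgroups of order 2^10 hold.
-/

set_option autoImplicit false
set_option maxRecDepth 100000
set_option maxHeartbeats 4000000

namespace Cfsg.Agent.Spor.JFour.Chk

theorem ten_three : tenThreeAll = true := by decide +kernel

theorem deg_ok : degOK = true := by decide +kernel

theorem plane_ok : planeOK Dat.tenF Dat.tenB = true := by decide +kernel

theorem plane_ok' : planeOK Dat.tenF' Dat.tenB' = true := by decide +kernel

theorem fixers_ok : fixersOK = true := by decide +kernel

theorem move_ok : moveOK = true := by decide +kernel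

end Cfsg.Agent.Spor.JFour.Chk
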