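/-!
Data for the elementary subgroups of order 8 of the Sylow subgroup fixing totally isotropic planes.
-/

set_option autoImplicit false

namespace Cfsg.Agent.Spor.JFour.Dat

/-- the vectors of the first plane -/
def tenF : List Nat :=
  [0, 107, 189, 214, 293, 334, 408, 499, 570, 593, 647, 748, 799, 884, 930, 969, 1049, 1138, 1188, 1231, 1340, 1367, 1409, 1514, 1571, 1608, 1694, 1781, 1798, 1901, 1979, 2000, 2094, 2117, 2195, 2296, 2315, 2400, 2486, 2525, 2580, 2687, 2729, 2754, 2865, 2906, 2956, 3047, 3127, 3164, 3210, 3297, 3346, 3449, 3503, 3524, 3597, 3686, 3760, 3803, 3880, 3907, 3989, 4094]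

/-- the vectors of the second plane -/
def tenF' : List Nat :=
  [0, 107, 189, 214, 293, 334, 408, 499, 570, 593, 647, 748, 799, 884, 930, 969, 1079, 1116, 1162, 1249, 1298, 1401, 1455, 1476, 1549, 1638, 1712, 1755, 1832, 1859, 1941, 2046, 2073, 2162, 2212, 2255, 2364, 2391, 2433, 2538, 2595, 2632, 2718, 2805, 2822, 2925, 3003, 3024, 3118, 3141, 3219, 3320, 3339, 3424, 3510, 3549, 3604, 3711, 3753, 3778, 3889, 3930, 3980, 4071]

/-- a basis of the first plane -/
def tenB : List Nat := [107, 189, 293, 570, 1049, 2094]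

/-- a basis of the second plane -/
def tenB' : List Nat := [107, 189, 293, 570, 1079, 2073]

/-- the fixers of the first plane in the Sylow subgroup -/
def tenP : List Nat := [0, 2, 77, 142, 160, 187, 228, 237]

/-- an element exchanging the planes -/
def tenSw : Nat := 1

/-- an element of order seven keeping the first plane -/
def tenW : List Nat := [1, 1, 1, 1, 2, 2, 2, 4, 0, 2, 0, 0, 0, 1, 1, 1, 1, 2, 2, 2, 4, 0, 2, 0, 0, 0]

end Cfsg.Agent.Spor.JFour.Dat
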