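import Cfsg.Agent.Lib.Spor.JFourElemDefs
import Cfsg.Agent.Lib.Spor.JFourTenData

/-!
Checkers for the self-centralising elementary subgroups of order 2^10 of the centraliser.
-/

set_option autoImplicit false

namespace Cfsg.Agent.Spor.JFour.Chk

open Cfsg.Agent.Spor.CC Dat

/-- the bits of a list -/
def bitsOf (L : List ℕ) : ℕ := L.foldl (fun m k => Nat.lor m (Nat.shiftLeft 1 k)) 0

/-- inclusion of bit sets -/
def subB (m M : ℕ) : Bool := Nat.beq (Nat.land m M) m

/-- at most sixteen bits -/
def few16 (m : ℕ) : Bool := few (clr (clr (clr (clr (clr (clr (clr (clr m))))))))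

/-- three members -/
def tenThree (fs f1 f2 a : ℕ) : Bool :=
  (List.range 71).all fun b => Nat.ble b a || !adj a b ||
    (List.range 71).all fun c => Nat.ble c b || !(adj a c && adj b c) || Nat.beq c (prI a b) ||
      let F := Nat.land (Nat.land (elFix.getD a 0) (elFix.getD b 0)) (elFix.getD c 0)
      few16 F || subB F fs || subB F f1 || subB F f2

/-- all first members -/
def tenThreeAll : Bool :=
  let fs := bitsOf fsL
  let f1 := bitsOf tenF
  let f2 := bitsOf tenF'
  (List.range 71).all (tenThree fs f1 f2)

/-- few members commute with most others -/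
def degOK : Bool :=
  Nat.ble ((List.range 71).filter fun a => Nat.ble 62 ((List.range 71).filter fun b => adj a b).length).length 2

/-- a plane -/
def planeOK (L B : List ℕ) : Bool :=
  Nat.beq L.length 64 && leq ((List.range 4096).filter fun v => B.all fun u => !bb v u) L &&
    (L.all fun v => !qb v) && B.all fun u => L.any (Nat.beq u)

/-- the fixers of the planes in the Sylow subgroup -/
def fixersOK : Bool :=
  leq ((List.range 256).filter fun i => tenB.all fun v => Nat.beq (app (sylE i) v) v) tenP &&
    Nat.beq tenP.length 8 &&
    Nat.beq ((List.range 256).filter fun i => tenB'.all fun v => Nat.beq (app (sylE i) v) v).length 8 &&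
    (((List.range 256).filter fun i => fsB.all fun v => Nat.beq (app (sylE i) v) v).all fun i =>
      Nat.beq i 0 || esI.any fun a => leq (sylE i) (inI a))

/-- the exchange and the element of order seven -/
def moveOK : Bool :=
  let f1 := bitsOf tenF
  let f2 := bitsOf tenF'
  let W := evC tenW
  Nat.blt tenSw 256 && (tenF.all fun v => tb f2 (app (sylE tenSw) v)) &&
    tenW.all (Nat.blt · 5) && (tenF.all fun v => tb f1 (app W v)) &&
    leq (cpow W 7) idL && !leq W idL &&
    tenP.all fun i => tenP.any fun j => leq (cmul W (sylE i)) (cmul (sylE j) W)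

end Cfsg.Agent.Spor.JFour.Chk
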