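import Cfsg.Agent.Lib.Spor.JFourTen
import Cfsg.Agent.Lib.Spor.JFourOctad
import Cfsg.Agent.Lib.Spor.JFourSecond
import Cfsg.Agent.Lib.Spor.JFourSplit

/-!
Janko four type: a self-centralising elementary abelian subgroup of order 2^10, its two orbits under its
normaliser, and the order of the normaliser.
-/

set_option autoImplicit false
set_option maxRecDepth 100000
set_option linter.unusedSectionVars false

namespace Cfsg.Agent.Spor.JFour

open scoped Pointwise
open Cfsg.Agent.Spor.LFT (iT iT_conj PointModel Des phN phN_lt pair_inj)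
open OChk

attribute [local irreducible] Gam Kp Chk.app
attribute [local instance] Classical.propDecidable

universe u

variable {G : Type u} [Group G] [Finite G]

/-- conjugates of an element by the members of a subgroup -/
def cOrb (H : Subgroup G) (a : G) : Set G := {v | ∃ n ∈ H, n * a * n⁻¹ = v}

theorem cOrb_card (H : Subgroup G) (a : G) :
    (cOrb H a).ncard = (Subgroup.centralizer ({a} : Set G) ⊓ H).relIndex H := by
  letI : MulAction H G := MulAction.compHom G ((MulAut.conj : G →* MulAut G).comp H.subtype)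
  have horb : MulAction.orbit H a = cOrb H a := by
    ext v
    constructor
    · rintro ⟨n, rfl⟩; exact ⟨n, n.2, rfl⟩
    · rintro ⟨n, hn, rfl⟩; exact ⟨⟨n, hn⟩, rfl⟩
  have hstab : MulAction.stabilizer H a = (Subgroup.centralizer ({a} : Set G) ⊓ H).subgroupOf H := by
    ext n
    rw [MulAction.mem_stabilizer_iff, Subgroup.mem_subgroupOf, Subgroup.mem_inf, Subgroup.mem_centralizer_singleton_iff]
    show (n : G) * a * (n : G)⁻¹ = a ↔ _
    rw [mul_inv_eq_iff_eq_mul]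
    exact ⟨fun h => ⟨h, n.2⟩, fun h => h.1⟩
  rw [← horb, ← MulAction.index_stabilizer, hstab]
  rfl

theorem card_relIndex {A B : Subgroup G} (h : A ≤ B) : Nat.card A * A.relIndex B = Nat.card B := by
  rw [← Nat.card_congr (Subgroup.subgroupOfEquivOfLe h).toEquiv]
  exact Subgroup.card_mul_index _

variable {z : G} {Q N : Subgroup G} {x : G}
variable (S : Big z Q N x) (f : Frame z Q x)

include S f

/-- a split point model of a largest subgroup -/
theorem Big.exists_spl : ∃ (V : Subgroup G) (ψ : ℕ → G) (κ : ↥Cfsg.M24 →* G),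
    Spl z V ψ κ ∧ Nat.card V = 2 ^ 11 := by
  obtain ⟨V, hVe, hVc, -⟩ := S.A0_exists f
  obtain ⟨-, ψ, m, hm⟩ := S.model_any f hVe hVc
  obtain ⟨K, hKN, hKV, hKsup, -⟩ := S.split_any f hVe hVc
  set H := Subgroup.normalizer (V : Set G) with hH
  obtain ⟨ρ, hsur, hker, hdes⟩ := hm
  have hρV : ∀ c : H, ρ c = 1 ↔ (c : G) ∈ V := fun c => by
    rw [← MonoidHom.mem_ker, hker, Subgroup.mem_subgroupOf]
  haveI : (V.subgroupOf H).Normal := hker ▸ inferInstance
  have hdec : ∀ c : H, ∃ k : K, ρ c = ρ (Subgroup.inclusion hKN k) := by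
    intro c
    have hsup : c ∈ K.subgroupOf H ⊔ V.subgroupOf H := by
      rw [← Subgroup.subgroupOf_sup hKN Subgroup.le_normalizer, hKsup, Subgroup.subgroupOf_self]
      trivial
    obtain ⟨k, hk, v, hv, rfl⟩ := Subgroup.mem_sup_of_normal_right.1 hsup
    exact ⟨⟨(k : G), hk⟩, by rw [map_mul, (hρV v).2 hv, mul_one]; rfl⟩
  have hb : Function.Bijective (ρ.comp (Subgroup.inclusion hKN)) := by
    refine ⟨(injective_iff_map_eq_one _).2 fun k hk => Subtype.ext ?_, fun σ => ?_⟩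
    · exact (Subgroup.eq_bot_iff_forall _).1 hKV (k : G) ⟨k.2, (hρV _).1 hk⟩
    · obtain ⟨c, rfl⟩ := hsur σ
      obtain ⟨k, hk⟩ := hdec c
      exact ⟨k, hk.symm⟩
  set e := MulEquiv.ofBijective _ hb
  have he : ∀ σ, ρ (Subgroup.inclusion hKN (e.symm σ)) = σ := fun σ => e.apply_symm_apply σ
  refine ⟨V, ψ, K.subtype.comp e.symm.toMonoidHom, ⟨hVe, m, fun σ => ?_, fun σ => hKN (e.symm σ).2,
    fun y hy => ?_, fun σ hσ => ?_⟩, hVc⟩
  · have h := hdes (Subgroup.inclusion hKN (e.symm σ))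
    rw [he] at h
    exact h
  · refine ⟨ρ ⟨y, hy⟩, ?_⟩
    refine (hρV ((Subgroup.inclusion hKN (e.symm (ρ ⟨y, hy⟩)))⁻¹ * ⟨y, hy⟩)).1 ?_
    rw [map_mul, map_inv, he, inv_mul_cancel]
  · rw [← he σ]
    exact (hρV _).2 hσ

variable {V : Subgroup G} {ψ : ℕ → G} {κ : ↥Cfsg.M24 →* G} (P : Spl z V ψ κ) (hVc : Nat.card V = 2 ^ 11)

include P hVc

theorem Big.cen_sp : ∀ t y : G, iT z t → t ∈ V → Commute y t → y ∈ Subgroup.normalizer (V : Set G) :=
  fun _ _ ht htV hy => S.cen_pair f P.elem hVc htV ht hy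

theorem Big.isTen_sp : IsTen P.ten := ⟨P.ten_elem, P.ten_card, P.ten_self (S.cen_sp f P hVc)⟩

/-- conjugation between members of the second class keeps the space -/
theorem Big.keep_space {g t : G} (ht : iT z t) (htV : t ∈ V) (hgt : g * t * g⁻¹ ∈ V) :
    g ∈ Subgroup.normalizer (V : Set G) := by
  set V' := V.map (MulAut.conj g).toMonoidHom with hV'
  have hle : V' ≤ Subgroup.normalizer (V : Set G) := by
    rintro _ ⟨v, hv, rfl⟩
    exact S.cen_sp f P hVc (g * t * g⁻¹) _ ((iT_conj z t g).2 ht) hgt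
      ((Commute.conj_iff g).2 (P.vcomm hv htV))
  have heq : V' = V := S.norm_eq f P.elem hVc (elem_map _ P.elem)
    (by rw [hV', Subgroup.card_map_of_injective (MulAut.conj g).injective, hVc]) hle
  refine Subgroup.mem_normalizer_iff.2 fun r => ⟨fun hr => heq ▸ ⟨r, hr, rfl⟩, fun hr => ?_⟩
  rw [← heq, hV', Subgroup.mem_map_equiv, MulAut.conj_symm_apply] at hr
  simpa [mul_assoc] using hr

omit S f hVc in
/-- kinds of the members -/
theorem Spl.kinds {c : ℕ} (hc : c < 1024) :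
    (memT ODat.trP c = true → phi ψ κ c ∈ V ∧ iT z (phi ψ κ c)) ∧
    (memT ODat.trQ c = true → phi ψ κ c ∈ V ∧ IsConj z (phi ψ κ c)) ∧
    (phi ψ κ c ∈ V → c = 0 ∨ memT ODat.trP c = true ∨ memT ODat.trQ c = true) := by
  have h := orb_ok
  simp only [orbOK, Bool.and_eq_true, List.all_eq_true, List.mem_range, Bool.or_eq_true, List.any_eq_true,
    Bool.not_eq_true'] at h
  obtain ⟨⟨⟨⟨⟨⟨-, hP⟩, hQ⟩, hA⟩, hB⟩, hcov⟩, -⟩ := h
  obtain ⟨h1, h2, -, -⟩ := coord_facts hc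
  have hw := wset_ok
  simp only [wSetOK, Bool.and_eq_true, List.all_eq_true, Bool.or_eq_true] at hw
  have hin : ∀ (L : List (ℕ × ℕ × ℕ)) (k : ℕ), (∀ e ∈ L, Nat.beq (cK e.1) 0 = true ∧
      ∃ s ∈ ODat.wSet, Nat.beq s.1 (cN e.1) = true ∧ Nat.beq (pc s.2) k = true) → memT L c = true →
      phi ψ κ c = ψ (cN c) ∧ ∃ s : Finset GolayPt, s.card = k ∧ phN s = cN c := by
    intro L k hL hm
    simp only [memT, List.any_eq_true] at hm
    obtain ⟨e, he, hec⟩ := hm
    obtain rfl := Nat.eq_of_beq_eq_true hec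
    obtain ⟨hk0, s, hs, hsn, hsk⟩ := hL e he
    obtain ⟨⟨g1, -⟩, g3⟩ := hw.1 s hs
    have hlt : s.2 < 2 ^ 24 := by
      rw [← Nat.eq_of_beq_eq_true g1]
      exact lt_of_le_of_lt Nat.and_le_right (by norm_num)
    refine ⟨by rw [phi, Nat.eq_of_beq_eq_true hk0, km_zero, map_one, mul_one], ofMask s.2, ?_, ?_⟩
    · rw [← pc_mask, mask_ofMask hlt, Nat.eq_of_beq_eq_true hsk]
    · rw [phN, mask_ofMask hlt, Nat.eq_of_beq_eq_true g3, Nat.eq_of_beq_eq_true hsn]
  refine ⟨fun hm => ?_, fun hm => ?_, fun hV => ?_⟩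
  · obtain ⟨e, s, hs, hn⟩ := hin _ 2 hP hm
    rw [e]
    exact ⟨P.model.mem _ h1, hn ▸ pair_iT P.model hs⟩
  · obtain ⟨e, s, hs, hn⟩ := hin _ 4 hQ hm
    rw [e]
    exact ⟨P.model.mem _ h1, hn ▸ quad_conj P.model hs⟩
  · have hk : cK c = 0 := by
      by_contra h0
      exact km_free h2 h0 (by rw [P.split_eq h1 hV]; rfl)
    rcases hcov c hc with (((e | e) | e) | e) | e
    · exact Or.inl (Nat.eq_of_beq_eq_true e)
    · exact Or.inr (Or.inl e)
    · exact Or.inr (Or.inr e)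
    all_goals
      simp only [memT, List.any_eq_true] at e
      obtain ⟨r, hr, hrc⟩ := e
      obtain rfl := Nat.eq_of_beq_eq_true hrc
      first
        | (have := hA r hr; rw [hk, Nat.beq_refl] at this; simp at this)
        | (have := hB r hr; rw [hk, Nat.beq_refl] at this; simp at this)

omit S f hVc in
theorem Spl.iT_list {c : ℕ} (hc : c < 1024) (hV : phi ψ κ c ∈ V) (ht : iT z (phi ψ κ c)) :
    memT ODat.trP c = true := by
  rcases (P.kinds hc).2.2 hV with e | e | e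
  · subst e; exact absurd P.phi_zero ht.1
  · exact e
  · exact absurd ((P.kinds hc).2.1 e).2 ht.2

omit S f hVc in
theorem Spl.T_normP (σ : stabM oct0) :
    P.T σ ∈ Subgroup.normalizer (P.ten : Set G) ⊓ Subgroup.normalizer (V : Set G) := ⟨P.T_norm σ, P.T_V σ⟩

omit S f hVc in
theorem Spl.card_P : Nat.card ↥(Subgroup.normalizer (P.ten : Set G) ⊓ Subgroup.normalizer (V : Set G)) =
    2 ^ 10 * 322560 := by
  rw [← P.ten_card, ← card_stabM_octad baseOctad_mem, ← Nat.card_prod]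
  refine (Nat.card_congr (Equiv.ofBijective (fun p : P.ten × stabM oct0 =>
    (⟨(p.1 : G) * P.T p.2, mul_mem ⟨Subgroup.le_normalizer p.1.2, P.ten_le p.1.2⟩ (P.T_normP p.2)⟩ :
      ↥(Subgroup.normalizer (P.ten : Set G) ⊓ Subgroup.normalizer (V : Set G)))) ⟨?_, ?_⟩)).symm
  · rintro ⟨a, σ⟩ ⟨b, τ⟩ e
    have e' : (a : G) * P.T σ = b * P.T τ := congrArg Subtype.val e
    have hmem : P.T (σ * τ⁻¹) ∈ P.ten := by
      rw [map_mul, map_inv, show P.T σ * (P.T τ)⁻¹ = (a : G)⁻¹ * ((a : G) * P.T σ) * (P.T τ)⁻¹ by group, e',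
        show (a : G)⁻¹ * ((b : G) * P.T τ) * (P.T τ)⁻¹ = (a : G)⁻¹ * b by group]
      exact mul_mem (inv_mem a.2) b.2
    obtain rfl : σ = τ := mul_inv_eq_one.1 (P.T_meet hmem)
    exact Prod.ext (Subtype.ext (mul_right_cancel e')) rfl
  · rintro ⟨y, hyA, hyV⟩
    obtain ⟨a, ha, σ, rfl⟩ := P.meet_eq hyV hyA
    exact ⟨(⟨a, ha⟩, σ), rfl⟩

omit S f hVc in
theorem Spl.tree_set {t : List (ℕ × ℕ × ℕ)} (ht : treeOK t = true) {c : ℕ} (hc : memT t c = true) :
    phi ψ κ c ∈ cOrb (Subgroup.normalizer (P.ten : Set G) ⊓ Subgroup.normalizer (V : Set G))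
      (phi ψ κ (t.getD 0 (0, 0, 0)).1) := by
  obtain ⟨-, σ, e⟩ := P.tree_conj ht hc
  exact ⟨_, P.T_normP σ, e⟩

omit S f P hVc in
/-- codes of a tree -/
def codes (t : List (ℕ × ℕ × ℕ)) : Finset ℕ := (Finset.range 1024).filter fun c => memT t c = true

omit S f P hVc in
theorem codes_facts : (codes ODat.trP).card = 28 ∧ (codes ODat.trQ).card = 35 ∧ (codes ODat.trA).card = 120 ∧
    (codes ODat.trB).card = 840 ∧ (∀ c ∈ codes ODat.trA, c ∉ codes ODat.trQ) ∧
    (∀ c ∈ codes ODat.trB, c ∉ codes ODat.trQ ∧ c ∉ codes ODat.trA) ∧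
    (∀ c ∈ codes ODat.trP, c ∉ codes ODat.trQ ∧ c ∉ codes ODat.trA ∧ c ∉ codes ODat.trB) := by
  decide +kernel

omit S f P hVc in
theorem tree_root {t : List (ℕ × ℕ × ℕ)} (ht : treeOK t = true) (hlen : 0 < t.length) :
    (t.getD 0 (0, 0, 0)).1 ∈ codes t := by
  simp only [treeOK, Bool.and_eq_true] at ht
  refine Finset.mem_filter.2 ⟨Finset.mem_range.2 (Nat.le_of_ble_eq_true ht.1), ?_⟩
  simp only [memT, List.any_eq_true]
  exact ⟨_, by rw [List.getD_eq_getElem _ _ hlen]; exact List.getElem_mem _, Nat.beq_refl _⟩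

omit S f P hVc in
theorem trees_ok : treeOK ODat.trP = true ∧ treeOK ODat.trQ = true ∧ treeOK ODat.trA = true ∧
    treeOK ODat.trB = true ∧ ODat.trP.length = 28 ∧ ODat.trQ.length = 35 ∧ ODat.trA.length = 120 ∧
    ODat.trB.length = 840 := by
  have h := orb_ok
  simp only [orbOK, Bool.and_eq_true] at h
  obtain ⟨⟨⟨⟨⟨⟨⟨⟨⟨⟨⟨⟨⟨l1, l2⟩, l3⟩, l4⟩, t1⟩, t2⟩, t3⟩, t4⟩, -⟩, -⟩, -⟩, -⟩, -⟩, -⟩ := h
  exact ⟨t1, t2, t3, t4, Nat.eq_of_beq_eq_true l1, Nat.eq_of_beq_eq_true l2, Nat.eq_of_beq_eq_true l3,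
    Nat.eq_of_beq_eq_true l4⟩

omit S f P hVc in
theorem pair_of_quads : ∃ a b, a < 1024 ∧ b < 1024 ∧ memT ODat.trQ a = true ∧ memT ODat.trQ b = true ∧
    a ^^^ b = (ODat.trP.getD 0 (0, 0, 0)).1 := by
  have h : (ODat.trQ.any fun a => ODat.trQ.any fun b => decide (a.1 < 1024) && decide (b.1 < 1024) &&
      Nat.beq (a.1 ^^^ b.1) (ODat.trP.getD 0 (0, 0, 0)).1) = true := by decide +kernel
  simp only [List.any_eq_true, Bool.and_eq_true, decide_eq_true_eq] at h
  obtain ⟨a, ha, b, hb, ⟨hal, hbl⟩, e⟩ := h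
  exact ⟨a.1, b.1, hal, hbl, List.any_eq_true.2 ⟨a, ha, Nat.beq_refl _⟩, List.any_eq_true.2 ⟨b, hb, Nat.beq_refl _⟩,
    Nat.eq_of_beq_eq_true e⟩

omit S f hVc in
/-- a set of members from its codes -/
theorem Spl.ncard_phi {s : Finset ℕ} (hs : ∀ c ∈ s, c < 1024) : ((phi ψ κ) '' (s : Set ℕ)).ncard = s.card := by
  rw [Set.ncard_image_of_injOn fun a ha b hb e => P.phi_inj (hs a ha) (hs b hb) e, Set.ncard_coe_finset]

/-- the structure of the orbits and the index -/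
theorem Big.ten_orbits :
    cOrb (Subgroup.normalizer (P.ten : Set G)) (phi ψ κ (ODat.trQ.getD 0 (0, 0, 0)).1) =
      phi ψ κ '' ↑(codes ODat.trQ ∪ codes ODat.trA) ∧
    (cOrb (Subgroup.normalizer (P.ten : Set G)) (phi ψ κ (ODat.trQ.getD 0 (0, 0, 0)).1)).ncard = 155 ∧
    (cOrb (Subgroup.normalizer (P.ten : Set G)) (phi ψ κ (ODat.trP.getD 0 (0, 0, 0)).1)).ncard = 868 ∧
    Nat.card ↥(Subgroup.normalizer (P.ten : Set G)) = 2 ^ 10 * 9999360 ∧
    (∀ r ∈ P.ten, IsConj z r ↔ r ∈ phi ψ κ '' ↑(codes ODat.trQ ∪ codes ODat.trA)) := by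
  set H := Subgroup.normalizer (P.ten : Set G)
  set Pm := H ⊓ Subgroup.normalizer (V : Set G) with hPm
  set m := Pm.relIndex H with hm
  obtain ⟨tP, tQ, tA, tB, lP, lQ, lA, lB⟩ := trees_ok
  obtain ⟨cP, cQ, cA, cB, dA, dB, dP⟩ := codes_facts
  set c0 := (ODat.trP.getD 0 (0, 0, 0)).1
  set q0 := (ODat.trQ.getD 0 (0, 0, 0)).1
  set t := phi ψ κ c0
  set q := phi ψ κ q0
  have hc0 := Finset.mem_filter.1 (tree_root tP (by rw [lP]; norm_num))
  have hq0 := Finset.mem_filter.1 (tree_root tQ (by rw [lQ]; norm_num))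
  have hc0' := Finset.mem_range.1 hc0.1
  have hq0' := Finset.mem_range.1 hq0.1
  obtain ⟨htV, htT⟩ := (P.kinds hc0').1 hc0.2
  obtain ⟨hqV, hqZ⟩ := (P.kinds hq0').2.1 hq0.2
  have hmemA : ∀ c, c < 1024 → phi ψ κ c ∈ P.ten := fun c hc => ⟨c, hc, rfl⟩
  have hnorm : ∀ {n r : G}, n ∈ H → r ∈ P.ten → n * r * n⁻¹ ∈ P.ten := fun hn hr =>
    (Subgroup.mem_normalizer_iff.1 hn _).1 hr
  have hPH : Pm ≤ H := inf_le_left
  have hTsub : ∀ {L : List (ℕ × ℕ × ℕ)}, treeOK L = true →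
      phi ψ κ '' ↑(codes L) ⊆ cOrb Pm (phi ψ κ (L.getD 0 (0, 0, 0)).1) := by
    rintro L hL _ ⟨c, hc, rfl⟩
    exact P.tree_set hL (Finset.mem_filter.1 hc).2
  -- the orbit inside the meet
  have hPt : cOrb Pm t = phi ψ κ '' ↑(codes ODat.trP) := by
    refine Set.Subset.antisymm ?_ (hTsub tP)
    rintro _ ⟨n, hn, rfl⟩
    obtain ⟨c, hc, e⟩ := hnorm hn.1 (hmemA c0 hc0')
    refine ⟨c, Finset.mem_coe.2 (Finset.mem_filter.2 ⟨Finset.mem_range.2 hc, P.iT_list hc ?_ ?_⟩), e⟩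
    · rw [e]; exact (Subgroup.mem_normalizer_iff.1 hn.2 _).1 htV
    · rw [e, iT_conj]; exact htT
  have hPq : cOrb Pm q = phi ψ κ '' ↑(codes ODat.trQ) := by
    refine Set.Subset.antisymm ?_ (hTsub tQ)
    rintro _ ⟨n, hn, rfl⟩
    obtain ⟨c, hc, e⟩ := hnorm hn.1 (hmemA q0 hq0')
    refine ⟨c, Finset.mem_coe.2 (Finset.mem_filter.2 ⟨Finset.mem_range.2 hc, ?_⟩), e⟩
    have hV : phi ψ κ c ∈ V := by rw [e]; exact (Subgroup.mem_normalizer_iff.1 hn.2 _).1 hqV
    have hz' : IsConj z (phi ψ κ c) := by rw [e]; exact hqZ.trans (isConj_iff.2 ⟨n, rfl⟩)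
    rcases (P.kinds hc).2.2 hV with e0 | e0 | e0
    · subst e0
      rw [P.phi_zero] at hz'
      exact absurd (isConj_one_left.1 hz') S.base.ord.xt.ne
    · exact absurd hz' ((P.kinds hc).1 e0).2.2
    · exact e0
  have hclt : ∀ L, ∀ c ∈ codes L, c < 1024 := fun L c hc => Finset.mem_range.1 (Finset.mem_filter.1 hc).1
  -- the second class
  have ht28 : (Subgroup.centralizer ({t} : Set G) ⊓ Pm).relIndex Pm = 28 := by
    rw [← cOrb_card, hPt, P.ncard_phi (hclt _), cP]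
  have hCt : Subgroup.centralizer ({t} : Set G) ⊓ H = Subgroup.centralizer ({t} : Set G) ⊓ Pm := by
    refine le_antisymm (fun y hy => ⟨hy.1, hy.2, ?_⟩) (inf_le_inf_left _ hPH)
    exact S.cen_sp f P hVc t y htT htV (Subgroup.mem_centralizer_singleton_iff.1 hy.1)
  have ht28m : (cOrb H t).ncard = 28 * m := by
    rw [cOrb_card, hCt, ← Subgroup.relIndex_mul_relIndex _ _ _ inf_le_right hPH, ht28]
  -- the first class
  have hq35 : (Subgroup.centralizer ({q} : Set G) ⊓ Pm).relIndex Pm = 35 := by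
    rw [← cOrb_card, hPq, P.ncard_phi (hclt _), cQ]
  set e := (Subgroup.centralizer ({q} : Set G) ⊓ Pm).relIndex (Subgroup.centralizer ({q} : Set G) ⊓ H) with he
  have hprod : e * (cOrb H q).ncard = 35 * m := by
    rw [cOrb_card, he, Subgroup.relIndex_mul_relIndex _ _ _ (inf_le_inf_left _ hPH) inf_le_right,
      ← Subgroup.relIndex_mul_relIndex _ _ _ inf_le_right hPH, hq35]
  have hPc : Nat.card ↥Pm = 2 ^ 10 * 322560 := P.card_P
  have hCPq : Nat.card ↥(Subgroup.centralizer ({q} : Set G) ⊓ Pm) * 35 = 2 ^ 10 * 322560 := by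
    rw [← hPc, ← hq35]
    exact card_relIndex inf_le_right
  have hTen := S.isTen_sp f P hVc
  obtain ⟨g, hg⟩ : ∃ g : G, g * z * g⁻¹ = q := isConj_iff.1 hqZ
  have hgq : g⁻¹ * q * g = z := by rw [← hg]; group
  have h7 : 7 ∣ e := by
    have hz' : z ∈ P.ten.map (MulAut.conj g⁻¹).toMonoidHom :=
      ⟨q, hmemA q0 hq0', by show g⁻¹ * q * g⁻¹⁻¹ = z; rw [inv_inv, hgq]⟩
    obtain ⟨c, hcz, hcA, hc7⟩ := S.ten_seven f (hTen.conj g⁻¹) hz'
    have hk : g * c * g⁻¹ ∈ Subgroup.centralizer ({q} : Set G) ⊓ H := by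
      refine ⟨Subgroup.mem_centralizer_singleton_iff.2 ?_, Subgroup.mem_normalizer_iff.2 fun r => ?_⟩
      · rw [← hg]
        exact ((Commute.conj_iff g).2 hcz).eq
      · have hmem : ∀ r, r ∈ P.ten ↔ g⁻¹ * r * g ∈ P.ten.map (MulAut.conj g⁻¹).toMonoidHom := fun r => by
          rw [Subgroup.mem_map_equiv, MulAut.conj_symm_apply, inv_inv,
            show g * (g⁻¹ * r * g) * g⁻¹ = r by group]
        rw [hmem, hmem (g * c * g⁻¹ * r * (g * c * g⁻¹)⁻¹),
          show g⁻¹ * (g * c * g⁻¹ * r * (g * c * g⁻¹)⁻¹) * g = c * (g⁻¹ * r * g) * c⁻¹ by group]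
        constructor
        · intro hr; conv => enter [1]; rw [← hcA]
          exact ⟨_, hr, rfl⟩
        · intro hr
          rw [← hcA, Subgroup.mem_map_equiv, MulAut.conj_symm_apply] at hr
          simpa [mul_assoc] using hr
    have h7' : 7 ∣ Nat.card ↥(Subgroup.centralizer ({q} : Set G) ⊓ H) := by
      refine hc7.trans ?_
      have : orderOf (g * c * g⁻¹) = orderOf c :=
        orderOf_injective (MulAut.conj g).toMonoidHom (MulAut.conj g).injective c
      rw [← this, ← Subgroup.orderOf_mk _ hk]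
      exact orderOf_dvd_natCard _
    rw [← card_relIndex (inf_le_inf_left (Subgroup.centralizer ({q} : Set G)) hPH), ← he] at h7'
    refine (Nat.prime_seven.dvd_mul.1 h7').resolve_left fun h => ?_
    obtain ⟨k, hk⟩ := h
    rw [show Pm = H ⊓ Subgroup.normalizer (V : Set G) from rfl] at hk hCPq
    omega
  -- the first class is one orbit
  have hZorb : ∀ r ∈ P.ten, IsConj z r → r ∈ cOrb H q := by
    intro r hr hzr
    obtain ⟨h, hh⟩ := isConj_iff.1 hzr
    have hhr : h⁻¹ * r * h = z := by rw [← hh]; group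
    have hz1 : z ∈ P.ten.map (MulAut.conj g⁻¹).toMonoidHom :=
      ⟨q, hmemA q0 hq0', by show g⁻¹ * q * g⁻¹⁻¹ = z; rw [inv_inv, hgq]⟩
    have hz2 : z ∈ P.ten.map (MulAut.conj h⁻¹).toMonoidHom :=
      ⟨r, hr, by show h⁻¹ * r * h⁻¹⁻¹ = z; rw [inv_inv, hhr]⟩
    obtain ⟨c, hcz, hc⟩ := S.ten_conj f (hTen.conj g⁻¹) hz1 (hTen.conj h⁻¹) hz2
    refine ⟨h * c * g⁻¹, ?_, ?_⟩
    · have hmap : P.ten.map (MulAut.conj (h * c * g⁻¹)).toMonoidHom = P.ten := by
        have e' := congrArg (fun A : Subgroup G => A.map (MulAut.conj h).toMonoidHom) hc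
        simp only [Subgroup.map_map] at e'
        convert e' using 1
        · congr 1; ext y; simp [mul_assoc]
        · conv_lhs => rw [← Subgroup.map_id P.ten]
          congr 1; ext y; simp [mul_assoc]
      refine Subgroup.mem_normalizer_iff.2 fun y => ⟨fun hy => hmap ▸ ⟨y, hy, rfl⟩, fun hy => ?_⟩
      rw [← hmap, Subgroup.mem_map_equiv, MulAut.conj_symm_apply] at hy
      simpa [mul_assoc] using hy
    · calc h * c * g⁻¹ * q * (h * c * g⁻¹)⁻¹ = h * (c * (g⁻¹ * q * g) * c⁻¹) * h⁻¹ := by group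
        _ = r := by rw [hgq, hcz.eq, mul_inv_cancel_right, hh]
  have hZsub : cOrb H q ⊆ {r | r ∈ P.ten ∧ IsConj z r} := by
    rintro _ ⟨n, hn, rfl⟩
    exact ⟨hnorm hn (hmemA q0 hq0'), hqZ.trans (isConj_iff.2 ⟨n, rfl⟩)⟩
  have hTsub' : cOrb H t ⊆ {r | r ∈ P.ten ∧ iT z r} := by
    rintro _ ⟨n, hn, rfl⟩
    exact ⟨hnorm hn (hmemA c0 hc0'), (iT_conj z t n).2 htT⟩
  set Zc : Finset ℕ := (Finset.range 1024).filter fun c => IsConj z (phi ψ κ c) with hZc
  have hZq : cOrb H q = phi ψ κ '' ↑Zc := by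
    refine Set.Subset.antisymm (fun r hr => ?_) ?_
    · obtain ⟨⟨c, hc, rfl⟩, hz'⟩ := hZsub hr
      exact ⟨c, Finset.mem_coe.2 (Finset.mem_filter.2 ⟨Finset.mem_range.2 hc, hz'⟩), rfl⟩
    · rintro _ ⟨c, hc, rfl⟩
      obtain ⟨h1, h2⟩ := Finset.mem_filter.1 (Finset.mem_coe.1 hc)
      exact hZorb _ (hmemA c (Finset.mem_range.1 h1)) h2
  have hsame : ∀ {L : List (ℕ × ℕ × ℕ)}, treeOK L = true → 0 < L.length →
      codes L ⊆ Zc ∨ ∀ c ∈ codes L, c ∉ Zc := by
    intro L hL hlen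
    by_cases h : IsConj z (phi ψ κ (L.getD 0 (0, 0, 0)).1)
    · refine Or.inl fun c hc => Finset.mem_filter.2 ⟨(Finset.mem_filter.1 hc).1, ?_⟩
      obtain ⟨n, -, e'⟩ := P.tree_set hL (Finset.mem_filter.1 hc).2
      exact h.trans (isConj_iff.2 ⟨n, e'⟩)
    · refine Or.inr fun c hc hcz => h ?_
      obtain ⟨n, -, e'⟩ := P.tree_set hL (Finset.mem_filter.1 hc).2
      exact (Finset.mem_filter.1 hcz).2.trans (isConj_iff.2 ⟨n, e'⟩).symm
  have hQsub : codes ODat.trQ ⊆ Zc := fun c hc => Finset.mem_filter.2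
    ⟨(Finset.mem_filter.1 hc).1, ((P.kinds (hclt _ c hc)).2.1 (Finset.mem_filter.1 hc).2).2⟩
  have hPno : ∀ c ∈ codes ODat.trP, c ∉ Zc := fun c hc hcz =>
    ((P.kinds (hclt _ c hc)).1 (Finset.mem_filter.1 hc).2).2.2 (Finset.mem_filter.1 hcz).2
  have hcovZ : ∀ c ∈ Zc, c ∈ codes ODat.trQ ∨ c ∈ codes ODat.trA ∨ c ∈ codes ODat.trB := by
    intro c hc
    have h := orb_ok
    simp only [orbOK, Bool.and_eq_true, List.all_eq_true, List.mem_range, Bool.or_eq_true] at h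
    obtain ⟨hr, hz'⟩ := Finset.mem_filter.1 hc
    rcases h.1.2 c (Finset.mem_range.1 hr) with (((e' | e') | e') | e') | e'
    · obtain rfl := Nat.eq_of_beq_eq_true e'
      rw [P.phi_zero] at hz'
      exact absurd (isConj_one_left.1 hz') S.base.ord.xt.ne
    · exact absurd hc (hPno c (Finset.mem_filter.2 ⟨hr, e'⟩))
    · exact Or.inl (Finset.mem_filter.2 ⟨hr, e'⟩)
    · exact Or.inr (Or.inl (Finset.mem_filter.2 ⟨hr, e'⟩))
    · exact Or.inr (Or.inr (Finset.mem_filter.2 ⟨hr, e'⟩))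
  have hs : (cOrb H q).ncard = Zc.card := by
    rw [hZq, P.ncard_phi fun c hc => Finset.mem_range.1 (Finset.mem_filter.1 hc).1]
  have htot : 28 * m + Zc.card ≤ 1023 := by
    rw [← ht28m, ← hs, ← Set.ncard_union_eq _ (Set.toFinite _) (Set.toFinite _)]
    · have hsub : cOrb H t ∪ cOrb H q ⊆ (P.ten : Set G) \ {1} := by
        rintro r (hr | hr)
        · exact ⟨(hTsub' hr).1, fun e' => (hTsub' hr).2.1 e'⟩
        · refine ⟨(hZsub hr).1, fun e' => S.base.ord.xt.ne ?_⟩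
          obtain rfl : r = 1 := e'
          exact isConj_one_left.1 (hZsub hr).2
      refine (Set.ncard_le_ncard hsub (Set.toFinite _)).trans (le_of_eq ?_)
      rw [Set.ncard_sdiff_singleton_of_mem (one_mem P.ten), ← Nat.card_coe_set_eq]
      show Nat.card P.ten - 1 = 1023
      rw [P.ten_card]
      norm_num
    · exact Set.disjoint_left.2 fun r h1 h2 => (hTsub' h1).2.2 (hZsub h2).2
  obtain ⟨f7, hf7⟩ := h7
  rw [hs, hf7] at hprod
  have hsf : f7 * Zc.card = 5 * m := by nlinarith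
  have hm1 : m ≠ 0 := fun h0 => by
    have h := card_relIndex hPH
    rw [← hm, h0, mul_zero] at h
    have := Nat.card_pos (α := H)
    omega
  have hf0 : f7 ≠ 0 := fun h0 => by rw [h0, zero_mul] at hsf; omega
  have h35 : 35 ≤ Zc.card := cQ ▸ Finset.card_le_card hQsub
  have hle : Zc.card ≤ 5 * m := hsf ▸ Nat.le_mul_of_pos_left _ (Nat.pos_of_ne_zero hf0)
  -- the further members of the first class
  have hB : ∀ c ∈ codes ODat.trB, c ∉ Zc := by
    refine (hsame tB (by rw [lB]; norm_num)).resolve_left fun h => ?_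
    have := Finset.card_le_card h
    rw [cB] at this
    omega
  have hA : codes ODat.trA ⊆ Zc := by
    refine (hsame tA (by rw [lA]; norm_num)).resolve_right fun h => ?_
    have hZeq : Zc = codes ODat.trQ := Finset.Subset.antisymm (fun c hc => by
      rcases hcovZ c hc with e' | e' | e'
      · exact e'
      · exact absurd hc (h c e')
      · exact absurd hc (hB c e')) hQsub
    -- the part inside the space would be invariant
    have hHP : H ≤ Pm := by
      intro n hn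
      refine ⟨hn, S.keep_space f P hVc htT htV ?_⟩
      have hq' : ∀ a, a < 1024 → memT ODat.trQ a = true → n * phi ψ κ a * n⁻¹ ∈ V := by
        intro a ha hma
        obtain ⟨c, hc, e'⟩ := hnorm hn (hmemA a ha)
        have hcz : c ∈ Zc := Finset.mem_filter.2 ⟨Finset.mem_range.2 hc, by
          rw [e']; exact ((P.kinds ha).2.1 hma).2.trans (isConj_iff.2 ⟨n, rfl⟩)⟩
        rw [hZeq] at hcz
        rw [← e']
        exact ((P.kinds hc).2.1 (Finset.mem_filter.1 hcz).2).1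
      obtain ⟨a, b, ha, hb, hma, hmb, hab⟩ := pair_of_quads
      show n * phi ψ κ c0 * n⁻¹ ∈ V
      rw [← show a ^^^ b = c0 from hab, P.phi_mul ha hb, ← conj_mul]
      exact mul_mem (hq' a ha hma) (hq' b hb hmb)
    have hm' : m = 1 := by rw [hm, Subgroup.relIndex_eq_one]; exact hHP
    omega
  have hZeq : Zc = codes ODat.trQ ∪ codes ODat.trA := Finset.Subset.antisymm (fun c hc => by
    rcases hcovZ c hc with e' | e' | e'
    · exact Finset.mem_union_left _ e'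
    · exact Finset.mem_union_right _ e'
    · exact absurd hc (hB c e')) (Finset.union_subset hQsub hA)
  have h155 : Zc.card = 155 := by
    rw [hZeq, Finset.card_union_of_disjoint (Finset.disjoint_right.2 dA), cQ, cA]
  rw [h155] at htot hsf
  have hm31 : m = 31 := by omega
  refine ⟨by rw [hZq, hZeq], by rw [hs, h155], by rw [ht28m, hm31], ?_, fun r hr => ?_⟩
  · rw [← card_relIndex hPH, ← hm, hm31, hPc, mul_assoc]; norm_num
  · rw [← hZeq, ← hZq]
    exact ⟨hZorb r hr, fun h => (hZsub h).2⟩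

omit S f P hVc

end Cfsg.Agent.Spor.JFour
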