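import Cfsg.Agent.Lib.Spor.JFourTenChecks
import Cfsg.Agent.Lib.Spor.JFourMaxElem

/-!
Janko four type: the self-centralising elementary abelian subgroups of order 2^10 inside a Sylow 2-subgroup of
the centraliser of the involution: there are just two, one over each of two totally isotropic planes.
-/

set_option autoImplicit false
set_option maxRecDepth 100000
set_option linter.unusedSectionVars false

namespace Cfsg.Agent.Spor.JFour

open Cfsg.Agent.Spor.SUSix (V6 code code_lt vecOf_code)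
open Cfsg.Agent.Spor.SpFour (F4)
open Cfsg.Agent.Small.Unitary (herm)

attribute [local irreducible] Gam Kp Chk.app
attribute [local instance] Classical.propDecidable

/-- the vectors of a list of codes -/
def Pl (L : List ℕ) : Set V6 := {v | code v ∈ L}

/-- a totally isotropic plane given by a list and a basis -/
theorem plane_facts {L B : List ℕ} (h : Chk.planeOK L B = true) :
    (Pl L).ncard = 64 ∧ (∀ v ∈ Pl L, herm v v = 0) ∧ (∀ v, (∀ u ∈ Pl L, bv v u = 0) → v ∈ Pl L) ∧
      (∀ u ∈ B, u ∈ L ∧ u < 4096) := by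
  simp only [Chk.planeOK, Bool.and_eq_true, List.all_eq_true, leq_iff, Bool.not_eq_true'] at h
  obtain ⟨⟨⟨hlen, hfil⟩, hq⟩, hB⟩ := h
  have hlt : ∀ u ∈ L, u < 4096 := fun u hu => by
    rw [← hfil, List.mem_filter, List.mem_range] at hu
    exact hu.1
  have hmem : ∀ u ∈ B, u ∈ L ∧ u < 4096 := fun u hu => by
    obtain ⟨x, hx, e⟩ := List.any_eq_true.1 (hB u hu)
    rw [← Nat.eq_of_beq_eq_true e] at hx
    exact ⟨hx, hlt u hx⟩
  refine ⟨?_, fun v hv => ?_, fun v hv => ?_, hmem⟩
  · rw [show Pl L = {v | L.contains (code v) = true} from Set.ext fun v => List.contains_iff.symm]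
    refine count_code (fun k => L.contains k) ?_
    rw [← Nat.eq_of_beq_eq_true hlen]
    refine List.Perm.length_eq ((List.perm_ext_iff_of_nodup (List.nodup_range.filter _) ?_).2 fun k => ?_)
    · rw [← hfil]; exact List.nodup_range.filter _
    · simp only [List.mem_filter, List.mem_range, List.contains_iff]
      exact ⟨fun h => h.2, fun h => ⟨hlt k h, h⟩⟩
  · rw [qb_spec, hq _ hv]; rfl
  · show code v ∈ L
    rw [← hfil, List.mem_filter, List.mem_range]
    refine ⟨code_lt v, List.all_eq_true.2 fun u hu => ?_⟩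
    have h1 := hv (SUSix.vecOf u) (by show code _ ∈ L; rw [code_vecOf u (hmem u hu).2]; exact (hmem u hu).1)
    rw [bv_code, code_vecOf u (hmem u hu).2] at h1
    cases hb : Chk.bb (code v) u
    · rfl
    · rw [hb, if_pos rfl] at h1; exact absurd h1 (by decide)

/-- the fixers of a set in the Sylow subgroup -/
def PF (W : Set V6) : Subgroup PV := TS ⊓ ⨅ v ∈ W, fixv v

theorem mem_PF {W : Set V6} {p : PV} : p ∈ PF W ↔ p ∈ TS ∧ ∀ v ∈ W, p v = v := by
  simp [PF, Subgroup.mem_iInf, mem_fixv]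

/-- an element fixing a plane is one of the listed ones -/
theorem PF_list {L B : List ℕ} (h : Chk.planeOK L B = true) {p : PV} (hp : p ∈ PF (Pl L)) :
    ∃ i, i ∈ (List.range 256).filter (fun i => B.all fun v => Nat.beq (Chk.app (Chk.sylE i) v) v) ∧
      cols p = Chk.sylE i := by
  obtain ⟨hT, hf⟩ := mem_PF.1 hp
  obtain ⟨i, hi, e⟩ := TS_list hT
  refine ⟨i, List.mem_filter.2 ⟨List.mem_range.2 hi, List.all_eq_true.2 fun v hv => ?_⟩, e⟩
  obtain ⟨hvL, hlt⟩ := (plane_facts h).2.2.2 v hv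
  have := congrArg code (hf (SUSix.vecOf v) (by show code _ ∈ L; rw [code_vecOf v hlt]; exact hvL))
  rw [app_cols (Gam_addP (TS_le hT)), e, code_vecOf v hlt] at this
  rw [this]; exact Nat.beq_refl _

theorem PF_card {L B : List ℕ} (h : Chk.planeOK L B = true)
    (hn : ((List.range 256).filter fun i => B.all fun v => Nat.beq (Chk.app (Chk.sylE i) v) v).length ≤ 8) :
    Nat.card (PF (Pl L)) ≤ 8 := by
  set M := (List.range 256).filter fun i => B.all fun v => Nat.beq (Chk.app (Chk.sylE i) v) v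
  choose F hF hFc using fun p : PF (Pl L) => PF_list h p.2
  refine le_trans (Nat.card_le_card_of_injective (fun p => (⟨F p, List.mem_toFinset.2 (hF p)⟩ : M.toFinset))
    fun p q e => Subtype.ext (eq_of_cols (Gam_addP (TS_le (mem_PF.1 p.2).1)) (Gam_addP (TS_le (mem_PF.1 q.2).1)) ?_))
    ?_
  · rw [hFc p, hFc q, show F p = F q from congrArg Subtype.val e]
  · rw [Nat.card_eq_fintype_card, Fintype.card_coe]
    exact (List.toFinset_card_le _).trans hn

theorem PF_FS : PF FS ≤ ES := by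
  intro p hp
  obtain ⟨hT, hf⟩ := mem_PF.1 hp
  obtain ⟨i, hi, e⟩ := TS_list hT
  have h := Chk.fixers_ok
  simp only [Chk.fixersOK, Bool.and_eq_true, List.all_eq_true, List.mem_filter, List.mem_range, Bool.or_eq_true,
    List.any_eq_true, leq_iff] at h
  rcases h.2 i ⟨hi, fun v hv => by
    have he := Chk.es_ok
    simp only [Chk.esOK, Bool.and_eq_true, List.all_eq_true, List.any_eq_true] at he
    obtain ⟨⟨-, hFB⟩, -⟩ := he
    obtain ⟨x, hx, hxe⟩ := hFB v hv
    obtain rfl := Nat.eq_of_beq_eq_true hxe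
    have hlt : v < 4096 := (show ∀ u ∈ Dat.fsL, u < 4096 by decide +kernel) v hx
    have := congrArg code (hf (SUSix.vecOf v) ((FS_facts.1 _).2 (by rw [code_vecOf v hlt]; exact hx)))
    rw [app_cols (Gam_addP (TS_le hT)), e, code_vecOf v hlt] at this
    rw [this]; exact Nat.beq_refl _⟩ with h' | ⟨a, ha, h'⟩
  · refine ⟨hT, Or.inl (eq_of_cols (Gam_addP (TS_le hT)) AddP.one ?_)⟩
    rw [e, Nat.eq_of_beq_eq_true h', cols_one]
    have h'' := Chk.reach_ok
    simp only [Chk.reachOK, Bool.and_eq_true, leq_iff] at h''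
    exact h''.1.2
  · exact ⟨hT, Or.inr ⟨a, ha, e.trans h'⟩⟩

theorem few16_spec {m : ℕ} (h : Chk.few16 m = true) :
    {v : ℕ | m.testBit v = true}.Finite ∧ {v : ℕ | m.testBit v = true}.ncard ≤ 16 :=
  clr_bound (clr_bound (clr_bound (clr_bound (clr_bound (clr_bound (clr_bound (clr_bound (n := 8) (few_spec h))))))))

theorem bitsOf_iff (L : List ℕ) (n : ℕ) : (Chk.bitsOf L).testBit n = true ↔ n ∈ L := by
  have key : ∀ (L : List ℕ) (m : ℕ), (L.foldl (fun m k => Nat.lor m (Nat.shiftLeft 1 k)) m).testBit n = true ↔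
      m.testBit n = true ∨ n ∈ L := by
    intro L
    induction L with
    | nil => simp
    | cons a L ih =>
      intro m
      rw [List.foldl_cons, ih]
      show ((m ||| 1 <<< a).testBit n = true ∨ _) ↔ _
      rw [Nat.testBit_or, Nat.one_shiftLeft, Nat.testBit_two_pow, Bool.or_eq_true, decide_eq_true_iff, or_assoc,
        List.mem_cons, eq_comm (a := a)]
  exact (key L 0).trans (by simp)

/-- the common fixed vectors of an elementary subgroup of order at least 8 of the Sylow subgroup -/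
theorem fix_cases (hM : Mdl) {E : Subgroup PV} (hT : E ≤ TS) (hc : ∀ p ∈ E, ∀ q ∈ E, Commute p q)
    (h2 : ∀ p ∈ E, p * p = 1) (h8 : 8 ≤ Nat.card E) :
    (fixS E).ncard ≤ 16 ∨ fixS E ⊆ FS ∨ fixS E ⊆ Pl Dat.tenF ∨ fixS E ⊆ Pl Dat.tenF' := by
  let I : Set ℕ := {a | a < 71 ∧ ∃ p ∈ E, cols p = Chk.inI a}
  have hI7 : 7 ≤ I.ncard := by
    have hcard : 7 ≤ ((E : Set PV) \ {1}).ncard := by
      rw [Set.ncard_sdiff_singleton_of_mem (one_mem E), ← Nat.card_coe_set_eq]
      exact Nat.le_sub_one_of_lt (by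
        have : Nat.card ↥(E : Set PV) = Nat.card E := rfl
        omega)
    refine hcard.trans ?_
    have hsub : cols '' ((E : Set PV) \ {1}) ⊆ Chk.inI '' I := by
      rintro _ ⟨p, ⟨hp, h1⟩, rfl⟩
      obtain ⟨a, ha, e⟩ := inv_index (hT hp) (h2 p hp) h1
      exact ⟨a, ⟨ha, p, hp, e⟩, e.symm⟩
    have hfin : I.Finite := (Set.finite_lt_nat 71).subset fun a ha => ha.1
    rw [← Set.InjOn.ncard_image (f := cols) fun p hp q hq e =>
      eq_of_cols (Gam_addP (TS_le (hT hp.1))) (Gam_addP (TS_le (hT hq.1))) e]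
    exact (Set.ncard_le_ncard hsub (hfin.image _)).trans (Set.ncard_image_le hfin)
  have hmul : ∀ a ∈ I, ∀ b ∈ I, Chk.adj a b = true ∧ (a ≠ b → Chk.prI a b ∈ I) := by
    rintro a ⟨ha, p, hp, ea⟩ b ⟨hb, q, hq, eb⟩
    obtain ⟨e1, e2⟩ := tab_mul (hT hp) ha hb ea (hT hq) eb (hc p hp q hq)
    exact ⟨e1, fun h => ⟨(e2 h).1, p * q, mul_mem hp hq, (e2 h).2⟩⟩
  have hex : ∀ T : Finset ℕ, T.card < 7 → ∃ b, b ∈ I ∧ b ∉ T := by
    intro T hT'
    by_contra hno
    push Not at hno
    have := Set.ncard_le_ncard (show I ⊆ (T : Set ℕ) from fun b hb => hno b hb) T.finite_toSet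
    rw [Set.ncard_coe_finset] at this
    omega
  have e0 := hex ∅ (by simp)
  set a := Nat.find e0 with ha'
  obtain ⟨haI, -⟩ := Nat.find_spec e0
  rw [← ha'] at haI
  have e1 := hex {a} (by simp)
  set b := Nat.find e1 with hb'
  obtain ⟨hbI, hbT⟩ := Nat.find_spec e1
  rw [← hb'] at hbI hbT
  have hab : a < b := lt_of_le_of_ne (ha' ▸ Nat.find_min' e0 ⟨hbI, by simp⟩) fun h => hbT (by simp [h])
  have e2 := hex {a, b, Chk.prI a b} (by have := Finset.card_le_three (a := a) (b := b) (c := Chk.prI a b); omega)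
  set c := Nat.find e2 with hc'
  obtain ⟨hcI, hcT⟩ := Nat.find_spec e2
  rw [← hc'] at hcI hcT
  simp only [Finset.mem_insert, Finset.mem_singleton, not_or] at hcT
  have hbc : b < c := lt_of_le_of_ne (hb' ▸ Nat.find_min' e1 ⟨hcI, by simpa using hcT.1⟩) (Ne.symm hcT.2.1)
  have h := Chk.ten_three
  simp only [Chk.tenThreeAll, Chk.tenThree, List.all_eq_true, List.mem_range, Bool.or_eq_true,
    Bool.not_eq_true'] at h
  have hbb := (h a haI.1 b hbI.1).resolve_left (by
    rintro (e | e)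
    · have := Nat.le_of_ble_eq_true e; omega
    · rw [(hmul a haI b hbI).1] at e; exact absurd e (by decide))
  have hcc := (hbb c hcI.1)
  set F := Nat.land (Nat.land (Dat.elFix.getD a 0) (Dat.elFix.getD b 0)) (Dat.elFix.getD c 0) with hF
  have hbit : ∀ v ∈ fixS E, F.testBit (code v) = true := by
    intro v hv
    have key : ∀ x ∈ I, (Dat.elFix.getD x 0).testBit (code v) = true := by
      rintro x ⟨hx, p, hp, e⟩
      exact fix_bit hM (hT hp) (h2 p hp) (inI_sq (hT hp) hx e).2 hx e (hv p hp)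
    show ((Dat.elFix.getD a 0 &&& Dat.elFix.getD b 0) &&& Dat.elFix.getD c 0).testBit (code v) = true
    rw [Nat.testBit_and, Nat.testBit_and, key a haI, key b hbI, key c hcI]; rfl
  have hsubB : ∀ L, Chk.subB F (Chk.bitsOf L) = true → fixS E ⊆ Pl L := by
    intro L hL v hv
    have e := hbit v hv
    rw [← Nat.eq_of_beq_eq_true hL] at e
    have e' : (F &&& Chk.bitsOf L).testBit (code v) = true := e
    rw [Nat.testBit_and, Bool.and_eq_true] at e'
    exact (bitsOf_iff L _).1 e'.2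
  rcases hcc with ((e | e) | e) | (((e | e) | e) | e)
  · have := Nat.le_of_ble_eq_true e; omega
  · rw [(hmul a haI c hcI).1, (hmul b hbI c hcI).1] at e; exact absurd e (by decide)
  · exact absurd (Nat.eq_of_beq_eq_true e) hcT.2.2
  · refine Or.inl ?_
    obtain ⟨hfin, h16⟩ := few16_spec e
    refine le_trans ?_ h16
    refine le_trans (le_of_eq (Set.ncard_image_of_injective _ code_inj).symm) (Set.ncard_le_ncard ?_ hfin)
    rintro _ ⟨v, hv, rfl⟩
    exact hbit v hv
  · exact Or.inr (Or.inl fun v hv => (FS_facts.1 v).2 (hsubB _ e hv))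
  · exact Or.inr (Or.inr (Or.inl (hsubB _ e)))
  · exact Or.inr (Or.inr (Or.inr (hsubB _ e)))

/-- an elementary subgroup of the Sylow subgroup has fewer than 64 members -/
theorem elem_card_lt {E : Subgroup PV} (hT : E ≤ TS) (hc : ∀ p ∈ E, ∀ q ∈ E, Commute p q)
    (h2 : ∀ p ∈ E, p * p = 1) : Nat.card E < 64 := by
  by_contra hge
  push Not at hge
  have h := Nat.le_of_ble_eq_true Chk.deg_ok
  set J : Finset ℕ := (Finset.range 71).filter fun a => ∃ p ∈ E, cols p = Chk.inI a with hJ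
  have hJc : 63 ≤ J.card := by
    have hcard : 63 ≤ ((E : Set PV) \ {1}).ncard := by
      rw [Set.ncard_sdiff_singleton_of_mem (one_mem E), ← Nat.card_coe_set_eq]
      exact Nat.le_sub_one_of_lt (by
        have : Nat.card ↥(E : Set PV) = Nat.card E := rfl
        omega)
    refine hcard.trans ?_
    rw [← Set.InjOn.ncard_image (f := cols) fun p hp q hq e =>
      eq_of_cols (Gam_addP (TS_le (hT hp.1))) (Gam_addP (TS_le (hT hq.1))) e]
    refine (Set.ncard_le_ncard (t := Chk.inI '' (J : Set ℕ)) ?_ ((Finset.finite_toSet J).image _)).trans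
      ((Set.ncard_image_le J.finite_toSet).trans (le_of_eq (Set.ncard_coe_finset J)))
    rintro _ ⟨p, ⟨hp, h1⟩, rfl⟩
    obtain ⟨a, ha, e⟩ := inv_index (hT hp) (h2 p hp) h1
    exact ⟨a, Finset.mem_coe.2 (Finset.mem_filter.2 ⟨Finset.mem_range.2 ha, p, hp, e⟩), e.symm⟩
  have hadj : ∀ a ∈ J, ∀ b ∈ J, Chk.adj a b = true := by
    intro a ha b hb
    obtain ⟨ha', p, hp, ea⟩ := Finset.mem_filter.1 ha
    obtain ⟨hb', q, hq, eb⟩ := Finset.mem_filter.1 hb
    exact (tab_mul (hT hp) (Finset.mem_range.1 ha') (Finset.mem_range.1 hb') ea (hT hq) eb (hc p hp q hq)).1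
  set M := (List.range 71).filter fun a => Nat.ble 62 ((List.range 71).filter fun b => Chk.adj a b).length
  have hsub : J ⊆ M.toFinset := by
    intro a ha
    refine List.mem_toFinset.2 (List.mem_filter.2 ⟨List.mem_range.2
      (Finset.mem_range.1 (Finset.mem_filter.1 ha).1), Nat.ble_eq_true_of_le ?_⟩)
    rw [← List.toFinset_card_of_nodup (List.nodup_range.filter _)]
    refine le_trans (by omega : 62 ≤ J.card) (Finset.card_le_card fun b hb => ?_)
    exact List.mem_toFinset.2 (List.mem_filter.2 ⟨List.mem_range.2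
      (Finset.mem_range.1 (Finset.mem_filter.1 hb).1), hadj a ha b hb⟩)
  have h' := (Finset.card_le_card hsub).trans (List.toFinset_card_le M)
  omega

universe u

variable {G : Type u} [Group G] [Finite G] {z : G} {Q N : Subgroup G} {x : G}

/-- a self-centralising elementary subgroup of order 2^10 of the chosen Sylow subgroup of the centraliser -/
structure TenSub (f : Frame z Q x) (B : Subgroup (Subgroup.centralizer ({z} : Set G))) : Prop where
  le : B ≤ TS.comap f.π
  elem : Cfsg.IsElementaryAbelian 2 B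
  card : Nat.card B = 2 ^ 10
  self : ∀ c : Subgroup.centralizer ({z} : Set G), (∀ r ∈ B, Commute c r) → c ∈ B

/-- the elements over the fixers of a plane commuting with the lifts of the plane -/
def XP (f : Frame z Q x) (W : Set V6) : Subgroup (Subgroup.centralizer ({z} : Set G)) :=
  (PF W).comap f.π ⊓ Subgroup.centralizer {q | (q : G) ∈ Q ∧ f.vec (q : G) ∈ W}

/-- the vectors of the part in the extraspecial subgroup -/
def BV (f : Frame z Q x) (B : Subgroup (Subgroup.centralizer ({z} : Set G))) : Set V6 :=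
  {v | ∃ q ∈ B, (q : G) ∈ Q ∧ f.vec (q : G) = v}

variable (S : Big z Q N x) (f : Frame z Q x)
include S f

/-- there are only two of them -/
theorem Big.ten_shape {B : Subgroup (Subgroup.centralizer ({z} : Set G))} (hB : TenSub f B) :
    (B = XP f (Pl Dat.tenF) ∧ BV f B = Pl Dat.tenF) ∨ (B = XP f (Pl Dat.tenF') ∧ BV f B = Pl Dat.tenF') := by
  set E := B.map f.π with hE'
  have hBcomm : ∀ a ∈ B, ∀ b ∈ B, Commute a b := fun a ha b hb =>
    congrArg Subtype.val (hB.elem.1.is_comm.comm (⟨a, ha⟩ : B) ⟨b, hb⟩)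
  have hBsq : ∀ a ∈ B, a * a = 1 := fun a ha => by rw [← pow_two]; exact hB.elem.2 a ha
  have hET : E ≤ TS := Subgroup.map_le_iff_le_comap.2 hB.le
  have hEc : ∀ p ∈ E, ∀ q ∈ E, Commute p q := by
    rintro _ ⟨a, ha, rfl⟩ _ ⟨b, hb, rfl⟩
    exact (hBcomm a ha b hb).map _
  have hE2 : ∀ p ∈ E, p * p = 1 := by
    rintro _ ⟨a, ha, rfl⟩
    rw [← map_mul, hBsq a ha, map_one]
  have hzC : (⟨z, S.base.zmem⟩ : (Subgroup.centralizer ({z} : Set G))) ∈ B := hB.self _ fun r _ =>
    Subtype.ext (Subgroup.mem_centralizer_singleton_iff.1 r.2).symm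
  set BQ := (B ⊓ f.π.ker).map (Subgroup.centralizer ({z} : Set G)).subtype with hBQ
  have hBQc : Nat.card BQ = Nat.card (B ⊓ f.π.ker : Subgroup (Subgroup.centralizer ({z} : Set G))) :=
    Subgroup.card_map_of_injective (Subgroup.subtype_injective _)
  have hBQQ : BQ ≤ Q := by rintro _ ⟨a, ha, rfl⟩; exact (f.ker a).1 ha.2
  have hBQ7 : Nat.card BQ ≤ 2 ^ 7 := by
    obtain ⟨hrk, -⟩ := Solv.ExtTwo.main.{u, 0} 6 (by norm_num) Q _ S.ext2 (by rw [S.base.ord.cardQ])
    have hEl : Cfsg.IsElementaryAbelian 2 (BQ.subgroupOf Q) := by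
      refine ⟨⟨⟨fun a b => Subtype.ext (Subtype.ext ?_)⟩⟩, fun a ha => Subtype.ext ?_⟩
      · obtain ⟨a', ha', ea⟩ := a.2
        obtain ⟨b', hb', eb⟩ := b.2
        show ((a : Q) : G) * ((b : Q) : G) = ((b : Q) : G) * ((a : Q) : G)
        rw [show ((a : Q) : G) = (a' : G) from ea.symm, show ((b : Q) : G) = (b' : G) from eb.symm]
        exact congrArg Subtype.val (hBcomm a' ha'.1 b' hb'.1).eq
      · obtain ⟨a', ha', ea⟩ := ha
        show (a : G) ^ 2 = 1
        rw [show (a : G) = (a' : G) from ea.symm, pow_two]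
        exact congrArg Subtype.val (hBsq a' ha'.1)
    rw [← Nat.card_congr (Subgroup.subgroupOfEquivOfLe hBQQ).toEquiv]
    rcases hrk with h | h <;> exact le_trans (h.2 _ hEl) (by norm_num)
  have hsplit := card_split f B
  rw [← hE', ← hBQc, hB.card] at hsplit
  set M := f.vec '' (BQ : Set G) with hM'
  have hMc : Nat.card BQ = 2 * M.ncard := f.vecCard S.base BQ hBQQ ⟨_, ⟨hzC, (f.ker _).2 S.base.ord.xt.mem⟩, rfl⟩
  have hMfix : M ⊆ fixS E := by
    rintro _ ⟨_, ⟨a, ha, rfl⟩, rfl⟩ _ ⟨b, hb, rfl⟩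
    show f.π b (f.vec (a : G)) = f.vec (a : G)
    rw [← f.vec_conj b (a : G) ((f.ker a).1 ha.2)]
    congr 1
    exact congrArg Subtype.val (show b * a * b⁻¹ = a by rw [(hBcomm b hb a ha.1).eq, mul_inv_cancel_right])
  have hfull : ∀ (q : (Subgroup.centralizer ({z} : Set G))), (q : G) ∈ Q → f.vec (q : G) ∈ M → q ∈ B := by
    rintro q hq ⟨_, ⟨a, ha, rfl⟩, e⟩
    rcases (f.vec_eq _ ((f.ker a).1 ha.2) _ hq).1 e with h | h
    · rw [show q = a from Subtype.ext h]; exact ha.1
    · rw [show q = a * ⟨z, S.base.zmem⟩ from Subtype.ext h]; exact mul_mem ha.1 hzC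
  -- decompositions over the chosen subgroup
  have hdec : E ≤ ES → ∀ b ∈ B, ∃ c ∈ AHs S f, ((b * c⁻¹ : (Subgroup.centralizer ({z} : Set G))) : G) ∈ Q ∧ f.π c = f.π b ∧
      ∀ v ∈ M, bv (f.vec ((b * c⁻¹ : (Subgroup.centralizer ({z} : Set G))) : G)) v = 0 := by
    intro hES b hb
    have hbE : f.π b ∈ ES := hES ⟨b, hb, rfl⟩
    obtain ⟨c, hc, hcb⟩ := S.lift f (ES_Kp hbE)
    have hq : ((b * c⁻¹ : (Subgroup.centralizer ({z} : Set G))) : G) ∈ Q := (f.ker (b * c⁻¹)).1 (by rw [map_mul, map_inv, hcb, mul_inv_cancel])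
    refine ⟨c, ⟨mem_Kx.2 hc, show f.π c ∈ ES from hcb ▸ hbE⟩, hq, hcb, fun v hv => ?_⟩
    obtain ⟨_, ⟨a, ha, rfl⟩, rfl⟩ := hv
    have hca : Commute c a := Subtype.ext (S.sign f hc ((f.ker a).1 ha.2) (by
      rw [hcb]; exact hMfix ⟨_, ⟨a, ha, rfl⟩, rfl⟩ _ ⟨b, hb, rfl⟩)).eq
    exact f.comm_bv S.base hq ((f.ker a).1 ha.2)
      (congrArg Subtype.val ((hBcomm b hb a ha.1).mul_left hca.inv_left).eq)
  -- subgroups inside the largest one do not occur
  obtain ⟨A, hAe, hAc, -, -, -, hAmem, -⟩ := S.exists_max f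
  have hAcomm : ∀ a ∈ A, ∀ b ∈ A, Commute a b := fun a ha b hb =>
    congrArg Subtype.val (hAe.1.is_comm.comm (⟨a, ha⟩ : A) ⟨b, hb⟩)
  have hnotA : ¬ ∀ b ∈ B, ∃ c ∈ AHs S f, ((b * c⁻¹ : (Subgroup.centralizer ({z} : Set G))) : G) ∈ Q ∧ f.vec ((b * c⁻¹ : (Subgroup.centralizer ({z} : Set G))) : G) ∈ FS := by
    intro h
    have hBA : B ≤ A := fun b hb => by
      obtain ⟨c, hc, hq, hv⟩ := h b hb
      exact (hAmem b).2 ⟨b * c⁻¹, ⟨hq, hv⟩, c, hc, (inv_mul_cancel_right b c).symm⟩
    have hle : A ≤ B := fun a ha => hB.self a fun r hr => hAcomm a ha r (hBA hr)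
    have := Subgroup.card_le_of_le hle
    rw [hAc, hB.card] at this
    omega
  have hE8 : 8 ≤ Nat.card E := by
    by_contra hlt
    push Not at hlt
    have := Nat.mul_le_mul (Nat.le_of_lt_succ hlt) hBQ7
    omega
  by_cases hES : E = ES
  · exfalso
    have hM32 : M.ncard = 32 := by
      rw [hES, card_ES, hMc] at hsplit
      omega
    refine hnotA fun b hb => ?_
    obtain ⟨c, hc, hq, hcb, hperp⟩ := hdec hES.le b hb
    refine ⟨c, hc, hq, ?_⟩
    by_contra hu
    set u := f.vec ((b * c⁻¹ : (Subgroup.centralizer ({z} : Set G))) : G) with hu'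
    have hMFS : M ⊆ FS := fun v hv p hp => hMfix hv p (hES.ge hp)
    obtain ⟨m1, hm1, hm1M⟩ : ∃ v ∈ FS, v ∉ M := by
      by_contra hno
      push Not at hno
      have := Set.ncard_le_ncard (show FS ⊆ M from hno) (Set.toFinite _)
      rw [FS_facts.2.1] at this
      omega
    have hFSadd : ∀ p q, p ∈ FS → q ∈ FS → p + q ∈ FS := fun p q hp hq e he => by
      rw [Gam_addP (TS_le (ES_le he)), hp e he, hq e he]
    have hMadd : ∀ p q, p ∈ M → q ∈ M → p + q ∈ M := by
      rintro _ _ ⟨p, hp, rfl⟩ ⟨q, hq, rfl⟩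
      exact ⟨p * q, mul_mem hp hq, f.vec_mul p (hBQQ hp) q (hBQQ hq)⟩
    have hcoset : ∀ v ∈ FS, v ∈ M ∨ v + m1 ∈ M := by
      intro v hv
      by_contra hno
      push Not at hno
      have hsub : ((· + m1) '' M) ∪ M ⊆ FS \ {v} := by
        rintro y (⟨k, hk, rfl⟩ | hy)
        · refine ⟨hFSadd _ _ (hMFS hk) hm1, fun e => hno.2 ?_⟩
          rw [show v + m1 = k by rw [← show k + m1 = v from e, add_assoc, v6_two, add_zero]]
          exact hk
        · exact ⟨hMFS hy, fun e => hno.1 ((show y = v from e) ▸ hy)⟩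
      have hdis : Disjoint ((· + m1) '' M) M := by
        rw [Set.disjoint_left]
        rintro y ⟨k, hk, rfl⟩ hy
        refine hm1M ?_
        have := hMadd _ _ hk hy
        rwa [← add_assoc, v6_two, zero_add] at this
      have := Set.ncard_le_ncard hsub (Set.toFinite _)
      rw [Set.ncard_union_eq hdis (Set.toFinite _) (Set.toFinite _),
        Set.ncard_image_of_injective _ (add_left_injective m1), Set.ncard_sdiff_singleton_of_mem hv,
        FS_facts.2.1] at this
      omega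
    -- every element fixes the vector
    refine hu fun p hp => ?_
    rw [← hES] at hp
    obtain ⟨b', hb', rfl⟩ := hp
    obtain ⟨c', hc', hq', hcb', hperp'⟩ := hdec hES.le b' hb'
    set u' := f.vec ((b' * c'⁻¹ : (Subgroup.centralizer ({z} : Set G))) : G) with hu''
    have hadd : ∀ d : (Subgroup.centralizer ({z} : Set G)), ∀ p q, f.π d (p + q) = f.π d p + f.π d q := fun d =>
      Gam_addP ((f.range _).2 ⟨d, rfl⟩)
    have hcomm : Commute c c' :=
      hAcomm c ((hAmem c).2 ⟨1, one_mem _, c, hc, (one_mul c).symm⟩)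
        c' ((hAmem c').2 ⟨1, one_mem _, c', hc', (one_mul c').symm⟩)
    have hsym : u + f.π b u' = u' + f.π b' u := by
      have h1 : (b * b' : (Subgroup.centralizer ({z} : Set G))) * (c * c')⁻¹ = (b * c⁻¹) * (c * (b' * c'⁻¹) * c⁻¹) := by group
      have h2 : (b * b' : (Subgroup.centralizer ({z} : Set G))) * (c * c')⁻¹ = (b' * c'⁻¹) * (c' * (b * c⁻¹) * c'⁻¹) := by
        rw [(hBcomm b hb b' hb').eq, hcomm.eq]; group
      have hv := congrArg (fun t : (Subgroup.centralizer ({z} : Set G)) => f.vec (t : G)) (h1.symm.trans h2)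
      simp only [Subgroup.coe_mul, Subgroup.coe_inv] at hv
      have hn1 := S.base.ord.normQ (c : G) (Subgroup.mem_centralizer_singleton_iff.1 c.2) _ hq'
      have hn2 := S.base.ord.normQ (c' : G) (Subgroup.mem_centralizer_singleton_iff.1 c'.2) _ hq
      simp only [Subgroup.coe_mul, Subgroup.coe_inv] at hn1 hn2 hq hq'
      rw [f.vec_mul _ hq _ hn1, f.vec_mul _ hq' _ hn2, f.vec_conj c _ hq', f.vec_conj c' _ hq] at hv
      rw [← hcb, ← hcb']
      exact hv
    have hfixu : f.π b u = u := by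
      have h1 : (1 : (Subgroup.centralizer ({z} : Set G))) = (b * c⁻¹) * (c * (b * c⁻¹) * c⁻¹) := by
        rw [show (b * c⁻¹) * (c * (b * c⁻¹) * c⁻¹) = b * b * (c * c)⁻¹ by group, hBsq b hb, S.AH_sq f hc]
        group
      have hv := congrArg (fun t : (Subgroup.centralizer ({z} : Set G)) => f.vec (t : G)) h1
      simp only [Subgroup.coe_mul, Subgroup.coe_inv, Subgroup.coe_one] at hv
      have hn := S.base.ord.normQ (c : G) (Subgroup.mem_centralizer_singleton_iff.1 c.2) _ hq
      simp only [Subgroup.coe_mul, Subgroup.coe_inv] at hn hq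
      rw [f.vec_one S.base, f.vec_mul _ hq _ hn, f.vec_conj c _ hq] at hv
      have e : u + f.π b u = 0 := by rw [← hcb]; exact hv.symm
      calc f.π b u = u + (u + f.π b u) := by rw [← add_assoc, v6_two, zero_add]
        _ = u := by rw [e, add_zero]
    show f.π b' u = u
    by_cases hu'FS : u' ∈ FS
    · rw [show f.π b u' = u' from hu'FS _ (hES.le ⟨b, hb, rfl⟩), add_comm u] at hsym
      exact (add_left_cancel hsym).symm
    · have hsum : u + u' ∈ FS := by
        refine FS_facts.2.2.2 _ fun v hv => ?_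
        rw [bv_add]
        rcases hcoset v hv with h | h
        · rw [hperp v h, hperp' v h, add_zero]
        have hv1 : ∀ w : V6, (∀ k ∈ M, bv w k = 0) → bv w v = bv w m1 := by
          intro w hw
          rw [show v = (v + m1) + m1 by rw [add_assoc, v6_two, add_zero], bv_symm w, bv_add, bv_symm (v + m1),
            bv_symm m1, hw _ h, zero_add]
        have hne : ∀ w : V6, w ∉ FS → (∀ k ∈ M, bv w k = 0) → bv w m1 = 1 := by
          intro w hwF hw
          rw [bv_code]
          cases hb1 : Chk.bb (code w) (code m1)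
          · exfalso
            refine hwF (FS_facts.2.2.2 w fun k hk => ?_)
            rcases hcoset k hk with h' | h'
            · exact hw k h'
            · rw [show k = (k + m1) + m1 by rw [add_assoc, v6_two, add_zero], bv_symm, bv_add,
                bv_symm (k + m1), hw _ h', zero_add, bv_symm, bv_code, hb1]
              rfl
          · rfl
        rw [hv1 u hperp, hv1 u' hperp', hne u hu hperp, hne u' hu'FS hperp']
        decide
      have e : f.π b u' = u' := by
        have e1 : f.π b (u + u') = u + u' := hsum _ (hES.le ⟨b, hb, rfl⟩)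
        rw [hadd, hfixu] at e1
        exact add_left_cancel e1
      rw [e, add_comm u] at hsym
      exact (add_left_cancel hsym).symm
  have hM64 : M.ncard = 64 := by
    by_cases h16 : 16 ≤ Nat.card E
    · exfalso
      have h8 := few_fixed f.mdl hET hEc hE2 h16 hES
      have h1 := (Set.ncard_le_ncard hMfix (Set.toFinite _)).trans h8
      have h2 := elem_card_lt hET hEc hE2
      have h3 := Nat.mul_le_mul (Nat.le_of_lt_succ h2) (show Nat.card BQ ≤ 16 by omega)
      omega
    · have h3 := Nat.mul_le_mul_right (Nat.card BQ) (Nat.le_of_lt_succ (not_le.1 h16))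
      have hEd : Nat.card E ∣ 2 ^ 10 := ⟨_, hsplit⟩
      obtain ⟨k, -, hk⟩ := (Nat.dvd_prime_pow Nat.prime_two).1 hEd
      have : Nat.card E = 8 := by
        rcases Nat.lt_or_ge k 4 with h | h
        · interval_cases k <;> omega
        · have := Nat.pow_le_pow_right (show 0 < 2 by norm_num) h; omega
      rw [this] at hsplit
      omega
  have key : ∀ (L B' : List ℕ), Chk.planeOK L B' = true →
      ((List.range 256).filter fun i => B'.all fun v => Nat.beq (Chk.app (Chk.sylE i) v) v).length ≤ 8 →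
      fixS E ⊆ Pl L → B = XP f (Pl L) ∧ BV f B = Pl L := by
    intro L B' hpl hn hsub
    obtain ⟨h64, -, hperp, -⟩ := plane_facts hpl
    have hML : M = Pl L := Set.eq_of_subset_of_ncard_le (hMfix.trans hsub) (by rw [h64, hM64]) (Set.toFinite _)
    have hEP : E ≤ PF (Pl L) := fun p hp => mem_PF.2 ⟨hET hp, fun v hv => hMfix (hML ▸ hv) p hp⟩
    have hBX : B ≤ XP f (Pl L) := fun b hb => ⟨hEP ⟨b, hb, rfl⟩, fun q hq =>
      (hBcomm q (hfull q hq.1 (by rw [hML]; exact hq.2)) b hb).eq⟩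
    refine ⟨Subgroup.eq_of_le_of_card_ge hBX ?_, ?_⟩
    swap
    · rw [← hML]
      ext v
      constructor
      · rintro ⟨q, hq, hqQ, rfl⟩
        exact ⟨_, ⟨q, ⟨hq, (f.ker q).2 hqQ⟩, rfl⟩, rfl⟩
      · rintro ⟨_, ⟨q, hq, rfl⟩, rfl⟩
        exact ⟨q, hq.1, (f.ker q).1 hq.2, rfl⟩
    rw [hB.card, card_split f (XP f (Pl L))]
    have h1 : Nat.card ((XP f (Pl L)).map f.π) ≤ 8 :=
      (Subgroup.card_le_of_le (Subgroup.map_le_iff_le_comap.2 inf_le_left)).trans (PF_card hpl hn)
    have h2 : Nat.card (XP f (Pl L) ⊓ f.π.ker : Subgroup (Subgroup.centralizer ({z} : Set G))) ≤ 2 ^ 7 := by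
      rw [← show Nat.card (B ⊓ f.π.ker : Subgroup (Subgroup.centralizer ({z} : Set G))) = 2 ^ 7 by rw [← hBQc, hMc, hM64]; norm_num]
      refine Subgroup.card_le_of_le fun c hc => ⟨hfull c ((f.ker c).1 hc.2) ?_, hc.2⟩
      rw [hML]
      refine hperp _ fun v hv => ?_
      obtain ⟨q, hq, rfl⟩ := f.vec_surj v
      exact f.comm_bv S.base ((f.ker c).1 hc.2) hq
        (congrArg Subtype.val (hc.1.2 ⟨q, S.base.mem_C hq⟩ ⟨hq, hv⟩)).symm
    exact (Nat.mul_le_mul h1 h2).trans (by norm_num)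
  have hcases := fix_cases f.mdl hET hEc hE2 hE8
  rcases hcases with h | h | h | h
  · have := (Set.ncard_le_ncard hMfix (Set.toFinite _)).trans h; omega
  · exfalso
    have hMFS : M = FS := Set.eq_of_subset_of_ncard_le (hMfix.trans h) (by rw [FS_facts.2.1, hM64]) (Set.toFinite _)
    have hEES : E ≤ ES := fun p hp => PF_FS (mem_PF.2 ⟨hET hp, fun v hv => hMfix (hMFS ▸ hv) p hp⟩)
    refine hnotA fun b hb => ?_
    obtain ⟨c, hc, hq, -, hperp⟩ := hdec hEES b hb
    exact ⟨c, hc, hq, FS_facts.2.2.2 _ fun v hv => hperp v (hMFS ▸ hv)⟩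
  · have hf := Chk.fixers_ok
    simp only [Chk.fixersOK, Bool.and_eq_true, leq_iff] at hf
    exact Or.inl (key _ _ Chk.plane_ok (by rw [hf.1.1.1, Nat.eq_of_beq_eq_true hf.1.1.2]) h)
  · have hf := Chk.fixers_ok
    simp only [Chk.fixersOK, Bool.and_eq_true] at hf
    exact Or.inr (key _ _ Chk.plane_ok' (le_of_eq (Nat.eq_of_beq_eq_true hf.1.2)) h)

omit S f

end Cfsg.Agent.Spor.JFour
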