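import Cfsg.Agent.Lib.Spor.JFourThompDefs
import Cfsg.Agent.Lib.Spor.LFTThompData

/-!
The change of basis to the coordinates of the pairs of points.
-/

set_option autoImplicit false
set_option maxRecDepth 100000

namespace Cfsg.Agent.Spor.JFour.Chk

/-- change of basis turns the product into exclusive or and keeps the classes -/
def convOK : Bool :=
  Nat.beq (cv 0) 0 &&
    (List.range 2048).all fun n => Nat.blt (cv n) 2048 &&
      (Nat.beq n 0 || !Nat.beq (cv n) 0) && (tb LFT.Dat.tXor n == tR (cv n)) &&
      (List.range 11).all fun i => Nat.beq (cv (Nat.xor n (Nat.pow 2 i))) (mulR oT (cv n) (cv (Nat.pow 2 i)))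

theorem conv_ok : convOK = true := by decide +kernel

end Cfsg.Agent.Spor.JFour.Chk
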