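import Cfsg.Agent.Lib.Spor.JFourThompCount
import Cfsg.Agent.Lib.Spor.JFourThompChecksC

/-!
Janko four type: linear coordinates on the largest elementary abelian subgroup carrying the class table.
-/

set_option autoImplicit false
set_option maxRecDepth 100000
set_option linter.unusedSectionVars false

namespace Cfsg.Agent.Spor.JFour

open Cfsg.Agent.Spor.SUSix (V6 code code_lt vecOf_code)
open Cfsg.Agent.Spor.SpFour (F4)
open Cfsg.Agent.Spor.LFT (fx fx_facts iT iT_conj ind ind_conj ind_pos ind_neg ind_le enc dec dec_enc enc_dec enc_div filter_card toGL)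

attribute [local irreducible] Gam Kp Chk.app

theorem uC_xor : ∀ i j : Fin 64, Nat.xor i.val j.val < 64 ∧
    Chk.uC (Nat.xor i.val j.val) = Chk.uC i.val ^^^ Chk.uC j.val := by
  decide +kernel

/-- exclusive or of fixed-vector numbers -/
def fu (i j : Fin 64) : Fin 64 := ⟨Nat.xor i.val j.val, (uC_xor i j).1⟩

theorem U_fu (i j : Fin 64) : elU (fu i j) = elU i + elU j :=
  code_inj (by rw [code_add, code_elU, code_elU, code_elU]; exact (uC_xor i j).2)

universe u

variable {G : Type u} [Group G] [Finite G] {z : G} {Q N : Subgroup G} {x : G}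
variable (S : Big z Q N x) (f : Frame z Q x)

include S f

theorem Big.iT_z (s : Bool) : ¬ iT z (zp z s) := by
  cases s
  · exact fun h => h.1 rfl
  · exact fun h => h.2 (IsConj.refl z)

theorem Big.pr_toE {b : Fin 16} (hb : b ≠ 0) {p : PV} (hp : Good p)
    (hpc : p * elE 1 = elE b * p) {c : Subgroup.centralizer ({z} : Set G)} (hc : Commute c S.base.xC)
    (hπ : f.π c = elE b) (u : V6) :
    pr f (c : G) (p u) = pr f (lft S f 1 : G) u := by
  obtain ⟨P, hP, hPπ⟩ := S.lift f hp.kp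
  obtain ⟨s, hs⟩ := S.lift_pair f ((hP.mul_left (S.lft_comm f 1)).mul_left hP.inv_left) hc (by
    rw [map_mul, map_mul, map_inv, hPπ, (S.lft_spec f 1).2, hpc, mul_inv_cancel_right, hπ])
  rw [hs, S.pr_lift f, ← hPπ, S.pr_conj f hP]

variable {A : Subgroup G}

/-- the lift outside the central class -/
theorem Big.tl_exists (hAe : Cfsg.IsElementaryAbelian 2 A) (hAc : Nat.card A = 2 ^ 11)
    (hA : ∀ r, r ∈ A ↔ ∃ a ∈ AQset f, ∃ c ∈ AHs S f, r = a * (c : G)) :
    ∃ t : Fin 16 → Subgroup.centralizer ({z} : Set G), (∀ b, t b ∈ AHs S f ∧ f.π (t b) = elE b) ∧ t 0 = 1 ∧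
      ∀ b, b ≠ 0 → iT z (t b : G) ∧
        ∀ c : Subgroup.centralizer ({z} : Set G), Commute c S.base.xC → f.π c = elE b → iT z (c : G) → c = t b := by
  obtain ⟨hi, -, -, -⟩ := S.pr_values f hAe hAc hA
  have hex : ∀ b, b ≠ 0 → ∃ c, (c ∈ AHs S f ∧ f.π c = elE b) ∧ iT z (c : G) ∧
      ∀ d : Subgroup.centralizer ({z} : Set G), Commute d S.base.xC → f.π d = elE b → iT z (d : G) → d = c := by
    intro b hb
    obtain ⟨p, hp, -, hpc⟩ := exists_toE b hb
    have h0 : p 0 = 0 := by
      have := hp.addP 0 0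
      rw [add_zero] at this
      exact left_eq_add.1 this
    set c := lft S f b
    have hpr := S.pr_toE f hb hp hpc (S.lft_comm f b) (S.lft_spec f b).2 0
    rw [hi, h0, pr, S.sec_zero f, one_mul, one_mul, zp_false, one_mul, zp_true] at hpr
    set zC : Subgroup.centralizer ({z} : Set G) := ⟨z, S.base.zmem⟩
    have hzx : Commute zC S.base.xC := Subtype.ext (S.base.ord.xz).symm
    have hzπ : f.π zC = 1 := (f.ker zC).2 S.base.ord.xt.mem
    have huniq : ∀ d : Subgroup.centralizer ({z} : Set G), Commute d S.base.xC → f.π d = elE b → d = c ∨ d = zC * c := by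
      intro d hd hdπ
      obtain ⟨s, hs⟩ := S.lift_pair f (S.lft_comm f b) hd ((S.lft_spec f b).2.trans hdπ.symm)
      cases s
      · exact Or.inl (Subtype.ext (by rw [hs, zp_false, mul_one]))
      · refine Or.inr (Subtype.ext ?_)
        rw [hs, zp_true]
        exact (Subgroup.mem_centralizer_singleton_iff.1 c.2)
    by_cases hT : iT z (c : G)
    · refine ⟨c, S.lft_spec f b, hT, fun d hd hdπ hdT => (huniq d hd hdπ).resolve_right fun e => ?_⟩
      rw [e, Subgroup.coe_mul] at hdT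
      rw [ind_pos hT, show (zC : G) = z from rfl] at *
      rw [ind_pos hdT] at hpr
      omega
    · have hT' : iT z ((zC : G) * (c : G)) := by
        by_contra hn
        rw [ind_neg hT, ind_neg hn] at hpr
        omega
      refine ⟨zC * c, ⟨⟨mem_Kx.2 (hzx.mul_left (S.lft_comm f b)), ?_⟩, ?_⟩, hT', fun d hd hdπ hdT =>
        (huniq d hd hdπ).resolve_left fun e => hT (e ▸ hdT)⟩
      · show f.π (zC * c) ∈ ES
        rw [map_mul, hzπ, one_mul, (S.lft_spec f b).2]
        exact elE_mem b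
      · rw [map_mul, hzπ, one_mul, (S.lft_spec f b).2]
  choose c hc hcT hcu using hex
  refine ⟨fun b => if h : b = 0 then 1 else c b h, fun b => ?_, dif_pos rfl, fun b hb => ?_⟩
  · by_cases h : b = 0
    · simp only [dif_pos h]
      exact ⟨one_mem _, by rw [map_one, h, elE_zero]⟩
    · simp only [dif_neg h]
      exact hc b h
  · simp only [dif_neg hb]
    exact ⟨hcT b hb, hcu b hb⟩

theorem Big.co_class (hAe : Cfsg.IsElementaryAbelian 2 A) (hAc : Nat.card A = 2 ^ 11)
    (hA : ∀ r, r ∈ A ↔ ∃ a ∈ AQset f, ∃ c ∈ AHs S f, r = a * (c : G))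
    {t : Fin 16 → Subgroup.centralizer ({z} : Set G)} (ht : ∀ b, t b ∈ AHs S f ∧ f.π (t b) = elE b)
    (ht0 : t 0 = 1) (htT : ∀ b, b ≠ 0 → iT z (t b : G)) (p : Fin 16 × Fin 64 × Bool) :
    iT z (co f t p) ↔ Chk.tR (enc p) = true := by
  obtain ⟨b, i, s⟩ := p
  obtain ⟨hi, hj, -, -⟩ := S.pr_values f hAe hAc hA
  obtain ⟨hq, hv, -⟩ := S.sec_spec f (elU i)
  by_cases hb : b = 0
  · subst hb
    have h := Chk.base_ok
    simp only [Chk.baseOK, Bool.and_eq_true, List.all_eq_true, List.mem_range, beq_iff_eq] at h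
    obtain ⟨h1, h2⟩ := h.1 i.val i.2
    have henc : Chk.tR (enc (0, i, s)) = (!Nat.beq i.val 0 && !Chk.isA (Chk.uC i.val)) := by
      cases s
      · rw [← h1]; congr 1; simp [enc]
      · rw [← h2]; congr 1; simp [enc, add_comm]
    rw [henc, co, ht0, Subgroup.coe_one, mul_one, Bool.and_eq_true, Bool.not_eq_true']
    have e0 : elU 0 = 0 := code_inj ((code_elU 0).trans (by decide +kernel))
    by_cases h0 : i = 0
    · subst h0
      simp only [e0, S.sec_zero f, one_mul]
      exact iff_of_false (S.iT_z f s) (fun h => absurd h.1 (by decide +kernel))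
    · set a := sec f (elU i) * zp z s
      have ha : a ∈ AQset f := S.mem_AQset f (elU_mem i) s
      have hva : f.vec a = elU i := by rw [f.vec_mul _ hq _ (S.zp_mem s), f.vec_zp S, add_zero, hv]
      have hne : ∀ b : G, f.vec b = 0 → a ≠ b := fun b hb e => h0 (elU_inj (by rw [e0, ← hva, e, hb]))
      rw [S.Q_class f ha.1 (S.AQ_sq' f ha) (hne 1 (f.vec_one S.base)) (hne z (f.vec_z S.base)), hva, PA, code_elU, Bool.not_eq_true, ← Bool.not_eq_true']
      exact ⟨fun h => ⟨Bool.eq_false_iff.2 fun e => h0 (Fin.ext (Nat.eq_of_beq_eq_true e)), h⟩, And.right⟩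
  obtain ⟨p, hp, hps, hpc⟩ := exists_toE b hb
  choose σ hσ using fun i : Fin 64 => elU_surj (hp.fs _ (elU_mem i))
  have hinj : Function.Injective σ := fun i j h => elU_inj (p.injective (by rw [← hσ, ← hσ, h]))
  obtain ⟨k, hk⟩ := (Finite.injective_iff_surjective.1 hinj) i
  have hiu : elU i = p (elU k) := by rw [← hk, hσ]
  have hpr : pr f (t b : G) (elU i) = if Dat.covB.getD k.val 0 % 4 = 0 then 1 else 0 := by
    rw [hiu, S.pr_toE f hb hp hpc (mem_Kx.1 (ht b).1.1) (ht b).2, S.pr_cover f (S.lft_comm f 1) (S.lft_spec f 1).2 k,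
      hi, hj]
  set n := Dat.covB.getD k.val 0
  set v := p (SUSix.vecOf (n / 4))
  have hlt : n / 4 < 4096 := cover_facts.2.2.1 k
  have hvc : code v = Chk.app (Chk.wS (Dat.toE.getD b.val [])) (n / 4) := by
    rw [app_cols hp.addP, hps, code_vecOf _ hlt]
  have hev : code (f.π (t b) v) = Chk.app (Chk.eL b.val) (code v) := by rw [(ht b).2, code_elE]
  have hu' : Chk.uC i.val = Chk.app (Chk.wS (Dat.toE.getD b.val [])) (Chk.uC k.val) := by
    rw [← code_elU, hiu, app_cols hp.addP, hps, code_elU]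
  have h := Chk.class_ok
  simp only [Chk.classOK, List.all_eq_true, List.mem_range, Bool.or_eq_true] at h
  have h' := ((h b.val b.2).resolve_left fun e => hb (Fin.ext (Nat.eq_of_beq_eq_true e))) k.val k.2 i.val i.2
  rw [show Nat.beq (Chk.uC i.val) (Chk.app (Chk.wS (Dat.toE.getD b.val [])) (Chk.uC k.val)) = true from
    hu' ▸ Nat.beq_refl _] at h'
  have h'' := h'.resolve_left (by simp)
  rw [show co f t (b, i, s) = sec f (elU i) * zp z s * (t b : G) from rfl]
  by_cases hk0 : n % 4 = 0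
  · rw [show Nat.beq (n % 4) 0 = true by rw [hk0]; rfl, cond_true, Bool.and_eq_true, Bool.and_eq_true,
      Bool.not_eq_true'] at h''
    obtain ⟨heq, hT1, hT0⟩ := h''
    set γ := xor (bB v (f.π (t b) v)) (qB (f.π (t b) v))
    have hγ : γ = xor (Chk.bK (code v) (Chk.app (Chk.eL b.val) (code v))) (Chk.qb (Chk.app (Chk.eL b.val) (code v))) := by
      show xor (Chk.bK _ _) (Chk.qb _) = _
      rw [hev]
    rw [← hvc, ← hγ] at hT1 hT0
    have hui : elU i = v + f.π (t b) v := code_inj (by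
      rw [code_elU, hu', code_add, hev]
      have := Nat.eq_of_beq_eq_true heq
      rw [← hvc] at this
      exact this)
    have hγT : iT z (sec f (elU i) * zp z γ * (t b : G)) := by
      rw [hui, ← S.sec_twist f (mem_Kx.1 (ht b).1.1) v]
      exact (iT_conj z _ _).2 (htT b hb)
    rw [if_pos hk0, pr] at hpr
    by_cases hs : s = γ
    · subst hs
      exact iff_of_true hγT hT1
    · refine iff_of_false (fun hsT => ?_) ?_
      · have hs' : s = !γ := by
          revert hs; cases s <;> cases γ <;> simp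
        rw [hs'] at hsT
        revert hpr hγT hsT
        cases γ <;> intro hpr h1 h2 <;> simp only [Bool.not_true, Bool.not_false] at * <;>
          rw [ind_pos h1, ind_pos h2] at hpr <;> omega
      · have hs' : (bif s then 1 else 0) = (bif γ then 0 else 1 : ℕ) := by
          revert hs; cases s <;> cases γ <;> simp
        rw [enc]
        show ¬ Chk.tR (Nat.add (bif s then 1 else 0) (Nat.add (Nat.mul 2 i.val) (Nat.mul 128 b.val))) = true
        rw [hs', hT0]
        simp
  · rw [show Nat.beq (n % 4) 0 = false from Bool.eq_false_iff.2 fun e => hk0 (Nat.eq_of_beq_eq_true e), cond_false,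
      Bool.and_eq_true, Bool.not_eq_true', Bool.not_eq_true'] at h''
    rw [if_neg hk0, pr] at hpr
    refine iff_of_false (fun hT => ?_) ?_
    · cases s
      · rw [ind_pos hT] at hpr; omega
      · rw [ind_pos hT] at hpr; omega
    · cases s
      · rw [enc]; simp only [cond_false, Nat.add_eq, zero_add]
        exact ne_true_of_eq_false h''.1
      · rw [enc]
        exact ne_true_of_eq_false h''.2

theorem Big.tl_mul {t : Fin 16 → Subgroup.centralizer ({z} : Set G)}
    (ht : ∀ b, t b ∈ AHs S f ∧ f.π (t b) = elE b) (ht0 : t 0 = 1)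
    (htu : ∀ b, b ≠ 0 → iT z (t b : G) ∧
        ∀ c : Subgroup.centralizer ({z} : Set G), Commute c S.base.xC → f.π c = elE b → iT z (c : G) → c = t b) :
    ∃ o : Bool → Bool, ∀ a b : Fin 16, (t a : G) * (t b : G) = zp z
      (bif Nat.beq a.val 0 || Nat.beq b.val 0 || Nat.beq a.val b.val then false else o (Chk.pO a.val b.val)) *
        (t (fx a b) : G) := by
  have hkey : ∀ a b : Fin 16, ∃ s, (t a : G) * (t b : G) = zp z s * (t (fx a b) : G) := by
    intro a b
    obtain ⟨s, hs⟩ := S.lift_pair f (mem_Kx.1 (ht (fx a b)).1.1)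
      ((mem_Kx.1 (ht a).1.1).mul_left (mem_Kx.1 (ht b).1.1))
      (by rw [map_mul, (ht a).2, (ht b).2, (ht _).2, elE_mul])
    exact ⟨s, (Subgroup.coe_mul _ _ _).symm.trans (hs.trans
      (S.zp_comm s (Subgroup.mem_centralizer_singleton_iff.1 (t (fx a b)).2)).eq)⟩
  choose ε hε using hkey
  have key : ∀ o, Chk.pRep o < 16 := by decide +kernel
  refine ⟨fun o => ε 1 ⟨_, key o⟩, fun a b => ?_⟩
  by_cases ha : a = 0
  · subst ha
    rw [(fx_facts b b).2.2.1, ht0, Subgroup.coe_one, one_mul]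
    exact (one_mul _).symm
  by_cases hb : b = 0
  · subst hb
    rw [(fx_facts a a).2.2.2.1, ht0, Subgroup.coe_one, mul_one,
      show (Nat.beq (0 : Fin 16).val 0) = true from rfl, Bool.or_true, Bool.true_or, cond_true, zp_false, one_mul]
  by_cases hab : a = b
  · subst hab
    rw [(fx_facts a a).1, ht0, Subgroup.coe_one, mul_one, Nat.beq_refl, Bool.or_true, cond_true, zp_false]
    exact congrArg Subtype.val (S.AH_sq f (ht a).1)
  rw [show (Nat.beq a.val 0 || Nat.beq b.val 0 || Nat.beq a.val b.val) = false from by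
    simp only [Bool.or_eq_false_iff]
    exact ⟨⟨Bool.eq_false_iff.2 fun e => ha (Fin.ext (Nat.eq_of_beq_eq_true e)),
      Bool.eq_false_iff.2 fun e => hb (Fin.ext (Nat.eq_of_beq_eq_true e))⟩,
      Bool.eq_false_iff.2 fun e => hab (Fin.ext (Nat.eq_of_beq_eq_true e))⟩, cond_false]
  obtain ⟨p, hp, r, hr, hpa, hpb⟩ := exists_toP ha hb hab
  obtain ⟨P, hP, hPπ⟩ := S.lift f hp.kp
  have hmove : ∀ {c d : Fin 16}, d ≠ 0 → c ≠ 0 → p * elE c = elE d * p →
      P * t c * P⁻¹ = t d := fun {c d} hd hc e => (htu d hd).2 _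
    ((hP.mul_left (mem_Kx.1 (ht c).1.1)).mul_left hP.inv_left)
    (by rw [map_mul, map_mul, map_inv, hPπ, (ht c).2, e, mul_inv_cancel_right]) ((iT_conj z _ _).2 (htu c hc).1)
  have hr0 : r ≠ 0 ∧ (1 : Fin 16) ≠ r := by
    have key' : ∀ o, Chk.pRep o ≠ 0 ∧ Chk.pRep o ≠ 1 := by decide +kernel
    exact ⟨fun e => (key' _).1 (hr.symm.trans (by rw [e]; rfl)), fun e => (key' _).2 (hr.symm.trans (by rw [← e]; rfl))⟩
  have hpc : p * elE (fx 1 r) = elE (fx a b) * p := by
    rw [← elE_mul, ← elE_mul, ← mul_assoc, hpa, mul_assoc, hpb, mul_assoc]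
  have hPz : Commute (P : G) z := Subgroup.mem_centralizer_singleton_iff.1 P.2
  have e := congrArg (fun q : G => (P : G) * q * (P : G)⁻¹) (hε 1 r)
  simp only [← conj_mul] at e
  rw [(S.zp_comm _ hPz).eq, mul_inv_cancel_right] at e
  rw [show (P : G) * (t 1 : G) * (P : G)⁻¹ = (t a : G) from congrArg Subtype.val (hmove ha (by decide) hpa),
    show (P : G) * (t r : G) * (P : G)⁻¹ = (t b : G) from congrArg Subtype.val (hmove hb hr0.1 hpb),
    show (P : G) * (t (fx 1 r) : G) * (P : G)⁻¹ = (t (fx a b) : G) from congrArg Subtype.val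
      (hmove ((fx_facts a b).2.2.2.2.1 hab) ((fx_facts 1 r).2.2.2.2.1 hr0.2) hpc)] at e
  rw [e]
  congr 3
  exact Fin.ext hr

theorem Big.co_mul {t : Fin 16 → Subgroup.centralizer ({z} : Set G)}
    (ht : ∀ b, t b ∈ AHs S f ∧ f.π (t b) = elE b) {o : Bool → Bool}
    (ho : ∀ a b : Fin 16, (t a : G) * (t b : G) = zp z
      (bif Nat.beq a.val 0 || Nat.beq b.val 0 || Nat.beq a.val b.val then false else o (Chk.pO a.val b.val)) *
        (t (fx a b) : G)) (n m : ℕ) (hn : n < 2048) (hm : m < 2048) :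
    co f t (dec n) * co f t (dec m) = co f t (dec (Chk.mulR o n m)) := by
  obtain ⟨p, hp, rfl⟩ : ∃ p, dec n = p ∧ enc p = n := ⟨_, rfl, enc_dec n hn⟩
  obtain ⟨q, hq, rfl⟩ : ∃ q, dec m = q ∧ enc q = m := ⟨_, rfl, enc_dec m hm⟩
  clear hp hq hn hm
  rw [(dec_enc p).1, (dec_enc q).1]
  obtain ⟨a, i, s⟩ := p
  obtain ⟨b, j, s'⟩ := q
  have ediv := fun a i s => enc_div (a, i, s)
  set e := bif Nat.beq a.val 0 || Nat.beq b.val 0 || Nat.beq a.val b.val then false else o (Chk.pO a.val b.val)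
  have hmul : Chk.mulR o (enc (a, i, s)) (enc (b, j, s')) =
      enc (fx a b, fu i j, xor (xor s s') (xor (bB (elU i) (elU j)) e)) := by
    obtain ⟨a1, a2, a3⟩ := ediv a i s
    obtain ⟨b1, b2, b3⟩ := ediv b j s'
    show Nat.add _ _ = _
    rw [a1, a2, a3, b1, b2, b3, bB, code_elU, code_elU]
    rfl
  rw [hmul, (dec_enc _).1]
  obtain ⟨hu, hu', -⟩ := S.sec_spec f (elU i)
  have hcz : Commute (t a : G) z := Subgroup.mem_centralizer_singleton_iff.1 (t a).2
  have hcu : Commute (t a : G) (sec f (elU j)) := mul_inv_eq_iff_eq_mul.1 (by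
    rw [S.sec_conj f (mem_Kx.1 (ht a).1.1), (ht a).2, elE_fix a (elU_mem j)])
  show sec f (elU i) * zp z s * (t a : G) * (sec f (elU j) * zp z s' * (t b : G)) =
    sec f (elU (fu i j)) * zp z (xor (xor s s') (xor (bB (elU i) (elU j)) e)) * (t (fx a b) : G)
  have hzj : Commute (sec f (elU j)) (zp z s) := S.zp_commQ s (S.sec_spec f _).1
  calc sec f (elU i) * zp z s * (t a : G) * (sec f (elU j) * zp z s' * (t b : G))
      = sec f (elU i) * zp z s * ((t a : G) * sec f (elU j)) * (zp z s' * (t b : G)) := by group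
    _ = sec f (elU i) * (zp z s * sec f (elU j)) * ((t a : G) * zp z s') * (t b : G) := by
      rw [hcu.eq]; group
    _ = (sec f (elU i) * sec f (elU j)) * zp z s * (zp z s') * ((t a : G) * (t b : G)) := by
      rw [hzj.eq.symm, (S.zp_comm s' hcz).eq]; group
    _ = sec f (elU i + elU j) * (zp z (bB (elU i) (elU j)) * zp z s * zp z s' * zp z e) * (t (fx a b) : G) := by
      rw [S.sec_mul f, ho a b]; simp only [mul_assoc]; rfl
    _ = _ := by
      rw [U_fu, S.zp_mul, S.zp_mul, S.zp_mul]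
      congr 3
      cases s <;> cases s' <;> cases e <;> cases bB (elU i) (elU j) <;> rfl

/-- linear coordinates with the class table -/
theorem Big.model (hAe : Cfsg.IsElementaryAbelian 2 A) (hAc : Nat.card A = 2 ^ 11)
    (hA : ∀ r, r ∈ A ↔ ∃ a ∈ AQset f, ∃ c ∈ AHs S f, r = a * (c : G)) :
    ∃ ψ : ℕ → G, (∀ n, n < 2048 → ψ n ∈ A) ∧ (∀ r ∈ A, ∃ n < 2048, ψ n = r) ∧
      (∀ a b, a < 2048 → b < 2048 → ψ (a ^^^ b) = ψ a * ψ b) ∧
      (∀ a b, a < 2048 → b < 2048 → ψ a = ψ b → a = b) ∧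
      ∀ n, n < 2048 → (iT z (ψ n) ↔ Chk.tb LFT.Dat.tXor n = true) := by
  classical
  obtain ⟨t, ht, ht0, htu⟩ := S.tl_exists f hAe hAc hA
  obtain ⟨o, ho⟩ := S.tl_mul f ht ht0 htu
  obtain ⟨hmem, hbij⟩ := S.co_bij f hA ht
  set F : ℕ → G := fun n => co f t (dec n) with hF
  have hFmem : ∀ n, F n ∈ A := fun n => hmem _
  have hFsur : ∀ r ∈ A, ∃ n < 2048, F n = r := fun r hr => by
    obtain ⟨p, hp⟩ := hbij.2 ⟨r, hr⟩
    exact ⟨enc p, (dec_enc p).2, by rw [hF]; simp only [(dec_enc p).1]; exact congrArg Subtype.val hp⟩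
  have hFinj : ∀ a b, a < 2048 → b < 2048 → F a = F b → a = b := fun a b ha hb e => by
    rw [← enc_dec a ha, ← enc_dec b hb, hbij.1 (a₁ := dec a) (a₂ := dec b) (Subtype.ext e)]
  have hFT : ∀ n, n < 2048 → (iT z (F n) ↔ Chk.tR n = true) := fun n hn => by
    rw [hF, S.co_class f hAe hAc hA ht ht0 (fun b hb => (htu b hb).1) (dec n), enc_dec n hn]
  have hF1 : F 1 = z := by
    have e : dec 1 = (0, 0, true) := by decide +kernel
    simp only [hF, e, co, ht0, Subgroup.coe_one, mul_one]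
    rw [show elU 0 = 0 from code_inj ((code_elU 0).trans (by decide +kernel)), S.sec_zero f, one_mul, zp_true]
  have hF0 : F 0 = 1 := by
    have e : dec 0 = (0, 0, false) := by decide +kernel
    simp only [hF, e, co, ht0, Subgroup.coe_one, mul_one]
    rw [show elU 0 = 0 from code_inj ((code_elU 0).trans (by decide +kernel)), S.sec_zero f, one_mul, zp_false]
  -- the number of neighbours
  have hlt : ∀ n m, n < 2048 → m < 2048 → Chk.mulR o n m < 2048 := by
    intro n m hn hm
    simp only [Chk.mulR, Nat.add_eq, Nat.mul_eq]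
    have h1 : Nat.xor (n / 2 % 64) (m / 2 % 64) < 64 :=
      Nat.xor_lt_two_pow (n := 6) (Nat.mod_lt _ (by norm_num)) (Nat.mod_lt _ (by norm_num))
    have h2 : Nat.xor (n / 128) (m / 128) < 16 := Nat.xor_lt_two_pow (n := 4) (by omega) (by omega)
    have h3 : ∀ c : Bool, (bif c then 1 else 0 : ℕ) < 2 := fun c => by cases c <;> simp
    have := h3 (xor (xor (Nat.beq (n % 2) 1) (Nat.beq (m % 2) 1))
      (xor (Chk.bK (Chk.uC (n / 2 % 64)) (Chk.uC (m / 2 % 64)))
        (bif Nat.beq (n / 128) 0 || Nat.beq (m / 128) 0 || Nat.beq (n / 128) (m / 128) then false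
          else o (Chk.pO (n / 128) (m / 128)))))
    omega
  let eF : Fin 2048 ≃ A := Equiv.ofBijective (fun n => ⟨F n.val, hFmem _⟩)
    ⟨fun a b e => Fin.ext (hFinj _ _ a.2 b.2 (congrArg Subtype.val e)),
      fun r => (hFsur r r.2).elim fun n hn => ⟨⟨n, hn.1⟩, Subtype.ext hn.2⟩⟩
  have hcnt : ∀ s, s < 2048 → Chk.cnt o s = Nat.card {r : A // iT z (r : G) ∧ iT z ((r : G) * F s)} := by
    intro s hs
    rw [← Nat.card_congr (eF.subtypeEquiv fun n => Iff.rfl :
      {n : Fin 2048 // iT z (F n.val) ∧ iT z (F n.val * F s)} ≃ {r : A // iT z (r : G) ∧ iT z ((r : G) * F s)}),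
      Nat.card_eq_fintype_card, Fintype.card_subtype, Chk.cnt, ← filter_card]
    congr 1
    refine Finset.filter_congr fun n _ => ?_
    rw [Bool.and_eq_true, ← hFT n.val n.2, ← hFT _ (hlt _ _ n.2 hs)]
    exact and_congr_right fun _ => by rw [hF]; simp only; rw [S.co_mul f ht ho n.val s n.2 hs]
  have ho' : o = Chk.oT := by
    have h := Chk.const_ok
    simp only [Chk.constOK, List.all_eq_true, Bool.and_eq_true, Bool.or_eq_true, Bool.not_eq_true'] at h
    have h' := h (o false, o true) (by cases o false <;> cases o true <;> simp)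
    have heta : (fun c : Bool => bif c then o true else o false) = o := funext fun c => by cases c <;> rfl
    simp only [heta] at h'
    obtain ⟨⟨hs, h36⟩, h'⟩ := h'
    rcases h' with ⟨h1, h2⟩ | h'
    · funext c; cases c
      exacts [h1, h2]
    exfalso
    have hs2048 : Dat.witS < 2048 := by decide +kernel
    have hconj : IsConj z (F Dat.witS) := by
      by_contra hn
      refine ne_true_of_eq_false hs ((hFT _ hs2048).1 ⟨fun e => ?_, hn⟩)
      have := hFinj _ _ hs2048 (by norm_num) (e.trans hF0.symm)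
      exact absurd this (by decide +kernel)
    obtain ⟨c, hc⟩ := isConj_iff.1 hconj
    obtain ⟨m, hm, hme⟩ := S.control f hAe hAc (hF1 ▸ hFmem 1) (g := c) (hc.symm ▸ hFmem _)
    rw [hc] at hme
    have hmA := Subgroup.mem_normalizer_iff.1 hm
    let eA : A ≃ A :=
      { toFun := fun r => ⟨m * r * m⁻¹, (hmA _).1 r.2⟩
        invFun := fun r => ⟨m⁻¹ * r * m, (hmA _).2 (by
          rw [show m * (m⁻¹ * (r : G) * m) * m⁻¹ = r by group]; exact r.2)⟩
        left_inv := fun r => Subtype.ext (by show m⁻¹ * (m * (r : G) * m⁻¹) * m = r; group)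
        right_inv := fun r => Subtype.ext (by show m * (m⁻¹ * (r : G) * m) * m⁻¹ = r; group) }
    have heq : Chk.cnt o 1 = Chk.cnt o Dat.witS := by
      rw [hcnt 1 (by norm_num), hcnt _ hs2048]
      refine Nat.card_congr (eA.subtypeEquiv fun r => ?_)
      show _ ↔ iT z (m * (r : G) * m⁻¹) ∧ iT z (m * (r : G) * m⁻¹ * F Dat.witS)
      rw [iT_conj, ← hme, hF1, conj_mul, iT_conj]
    rw [← heq, h36] at h'
    simp at h'
  subst ho'
  have hcv := Chk.conv_ok
  simp only [Chk.convOK, Bool.and_eq_true, List.all_eq_true, List.mem_range, Bool.or_eq_true, beq_iff_eq,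
    Bool.not_eq_true'] at hcv
  obtain ⟨hcv0, hcv⟩ := hcv
  set ψ : ℕ → G := fun n => F (Chk.cv n) with hψ
  have hψlt : ∀ n, n < 2048 → Chk.cv n < 2048 := fun n hn => Nat.le_of_ble_eq_true (hcv n hn).1.1.1
  have hunit : ∀ n, n < 2048 → ∀ i, i < 11 → ψ (n ^^^ 2 ^ i) = ψ n * ψ (2 ^ i) := by
    intro n hn i hi
    have hi' : 2 ^ i < 2048 := Nat.pow_lt_pow_right (by norm_num) (show i < 11 from hi)
    have e : Chk.cv (n ^^^ 2 ^ i) = Chk.mulR Chk.oT (Chk.cv n) (Chk.cv (2 ^ i)) :=
      Nat.eq_of_beq_eq_true ((hcv n hn).2 i hi)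
    simp only [hψ, hF, e]
    exact (S.co_mul f ht ho _ _ (hψlt n hn) (hψlt _ hi')).symm
  have hψ0 : ψ 0 = 1 := by simp only [hψ, Nat.eq_of_beq_eq_true hcv0, hF0]
  have hψmul : ∀ k, k ≤ 11 → ∀ a b, a < 2048 → b < 2 ^ k → ψ (a ^^^ b) = ψ a * ψ b := by
    intro k
    induction k with
    | zero => intro _ a b _ hb; rw [show b = 0 by omega, Nat.xor_zero, hψ0, mul_one]
    | succ k ih =>
      intro hk a b ha hb
      by_cases hbk : b < 2 ^ k
      · exact ih (by omega) a b ha hbk
      have hb' : b ^^^ 2 ^ k < 2 ^ k := by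
        refine Nat.lt_pow_two_of_testBit _ fun i hi => ?_
        rw [Nat.testBit_xor, Nat.testBit_two_pow]
        rcases lt_or_eq_of_le hi with hlt | rfl
        · rw [Nat.testBit_lt_two_pow (lt_of_lt_of_le hb (Nat.pow_le_pow_right (by norm_num) hlt))]
          simp [show k ≠ i by omega]
        · simp only [decide_true, Bool.bne_true, Bool.not_eq_false']
          have hb1 : b.testBit k = true := Nat.testBit_of_two_pow_le_and_two_pow_add_one_gt (not_lt.1 hbk) hb
          simp [hb1]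
      have h2k : 2 ^ k < 2048 := Nat.pow_lt_pow_right (by norm_num) (show k < 11 by omega)
      have hb2048 : b ^^^ 2 ^ k < 2048 := lt_trans hb' h2k
      have hab : a ^^^ (b ^^^ 2 ^ k) < 2048 := Nat.xor_lt_two_pow (n := 11) ha hb2048
      have e1 : a ^^^ b = (a ^^^ (b ^^^ 2 ^ k)) ^^^ 2 ^ k := by
        rw [Nat.xor_assoc, Nat.xor_assoc, Nat.xor_self, Nat.xor_zero]
      have e2 : b = (b ^^^ 2 ^ k) ^^^ 2 ^ k := by rw [Nat.xor_assoc, Nat.xor_self, Nat.xor_zero]
      rw [e1, hunit _ hab k (by omega), ih (by omega) a _ ha hb']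
      conv_rhs => rw [e2, hunit _ hb2048 k (by omega)]
      rw [mul_assoc]
  have hinj : ∀ a b, a < 2048 → b < 2048 → ψ a = ψ b → a = b := by
    intro a b ha hb e
    have hab : a ^^^ b < 2048 := Nat.xor_lt_two_pow (n := 11) ha hb
    have h1 : ψ (a ^^^ b) = 1 := by
      rw [hψmul 11 le_rfl a b ha hb, e, ← hψmul 11 le_rfl b b hb hb, Nat.xor_self, hψ0]
    by_contra hne
    have hne' : a ^^^ b ≠ 0 := fun h0 => hne (Nat.xor_eq_zero_iff.1 h0)
    refine ne_true_of_eq_false ((hcv _ hab).1.1.2.resolve_left fun e' => hne' (Nat.eq_of_beq_eq_true e')) ?_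
    rw [hFinj _ _ (hψlt _ hab) (by norm_num) (h1.trans hF0.symm)]
    rfl
  refine ⟨ψ, fun n hn => hFmem _, fun r hr => ?_, fun a b ha hb => hψmul 11 le_rfl a b ha hb, hinj,
    fun n hn => by rw [hψ, hFT _ (hψlt n hn), (hcv n hn).1.2]⟩
  obtain ⟨m, hm, rfl⟩ := hFsur r hr
  let cvF : Fin 2048 → Fin 2048 := fun n => ⟨Chk.cv n.val, hψlt _ n.2⟩
  have hcvinj : Function.Injective cvF := fun a b e => Fin.ext (hinj _ _ a.2 b.2 (by
    simp only [hψ, show Chk.cv a.val = Chk.cv b.val from congrArg Fin.val e]))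
  obtain ⟨n, hn⟩ := (Finite.injective_iff_surjective.1 hcvinj) ⟨m, hm⟩
  exact ⟨n.val, n.2, by simp only [hψ, show Chk.cv n.val = m from congrArg Fin.val hn]⟩

omit S

end Cfsg.Agent.Spor.JFour
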