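import Cfsg.Agent.Lib.Spor.JFourThree
import Cfsg.Agent.Lib.Spor.MathieuTwentyTwoCounts

/-!
The normaliser of a Sylow subgroup of order nine of M22 has order 72.
-/

set_option autoImplicit false
set_option maxRecDepth 100000

namespace Cfsg.Agent.Spor.JFour

local notation "G22" => Subtype (fun x => x ∈ Cfsg.Spor.M22)

/-- words for the elements commuting with the first element -/
def cent3 : List (List ℕ) :=
  [[],
    [2, 2, 0],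
    [2, 2, 0, 2, 2, 0],
    [1, 0, 2, 1, 0, 0, 2, 0, 2, 0, 0],
    [1, 0, 2, 1, 0, 0, 2, 0, 2, 0, 2, 2],
    [1, 2, 2, 0, 2, 1, 1, 0, 0, 2, 0, 2, 0, 0],
    [0, 2, 0, 0, 2, 0, 2, 1, 0, 0, 2, 2, 0, 1],
    [2, 0, 2, 1, 2, 0, 1, 2, 0, 2, 1, 0, 1, 2, 0],
    [0, 2, 0, 0, 2, 0, 2, 1, 0, 2, 1, 2, 0, 0, 1, 0],
    [0, 1, 2, 2, 0, 0],
    [0, 1, 2, 2, 0, 2, 2],
    [2, 2, 0, 0, 1, 2, 2, 0, 0],
    [2, 0, 2, 2, 1, 0, 2, 1, 2, 0, 2, 0],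
    [0, 0, 2, 1, 0, 0, 2, 0, 2, 1, 0, 1],
    [2, 1, 1, 0, 0, 2, 2, 0, 0, 1, 2, 1],
    [0, 2, 0, 0, 2, 0, 2, 2, 1, 2, 0, 0, 0],
    [0, 2, 0, 0, 2, 0, 2, 0, 2, 2, 0, 1, 1],
    [0, 2, 0, 1, 1, 0, 2, 0, 2, 0, 0, 2, 1],
    [0, 1, 1, 0, 2, 0, 1, 2, 2, 0, 0, 1, 2],
    [1, 2, 0, 2, 2, 1, 1, 0, 0, 2, 0, 1, 0, 0],
    [2, 0, 2, 0, 2, 2, 2, 0, 2, 2, 2, 1, 0, 0],
    [0, 2, 2, 1, 1, 0, 2, 0, 0, 2, 0, 2, 0, 0],
    [2, 1, 1, 0, 2, 1, 2, 0, 2, 1, 0, 1, 1, 0],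
    [0, 0, 1, 0, 2, 0, 0, 1, 2, 2, 0, 0, 2, 0],
    [2, 2, 1, 0, 1, 2, 0, 0, 2, 0, 2, 1, 0, 1],
    [0, 2, 0, 2, 1, 0, 0, 1, 2, 0, 0, 2, 0, 1],
    [2, 1, 0, 0, 2, 0, 1, 0, 0, 2, 1, 0, 1, 1],
    [0, 0, 1, 0, 2, 0, 2, 0, 0, 2, 0, 0, 2, 1],
    [0, 1, 0, 1, 2, 2, 0, 2, 0, 1, 2, 0, 2, 1],
    [2, 2, 1, 2, 0, 1, 2, 0, 1, 2, 0, 1, 0, 0, 0],
    [1, 0, 1, 1, 0, 2, 1, 0, 1, 2, 0, 1, 2, 0, 0],
    [1, 1, 0, 0, 0, 2, 0, 2, 2, 0, 1, 0, 0, 2, 0],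
    [2, 1, 1, 0, 2, 2, 0, 0, 2, 0, 2, 1, 0, 2, 0],
    [0, 2, 0, 2, 0, 2, 2, 1, 0, 2, 0, 1, 2, 0, 1],
    [1, 1, 0, 0, 2, 0, 2, 0, 1, 0, 0, 2, 2, 2, 0, 0],
    [1, 0, 2, 0, 2, 0, 2, 0, 2, 2, 0, 2, 1, 0, 2, 0]]

theorem cent3_ok : (cent3.map eWord).Nodup ∧ cent3.length = 36 ∧
    (∀ i < 36, eWord (cent3.getD i []) * t3 1 0 = t3 1 0 * eWord (cent3.getD i [])) := by
  decide +kernel

theorem cent3_norm : ∀ i : Fin 36, 9 ≤ i.val → ∀ k l : Fin 3,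
    eWord (cent3.getD i.val []) * t3 0 1 ≠ t3 k l * eWord (cent3.getD i.val []) := by
  decide +kernel

theorem cent3_in : ∀ i : Fin 9, ∃ k l : Fin 3, eWord (cent3.getD i.val []) = t3 k l := by
  decide +kernel

theorem c3_norm : ∀ i j : Fin 3, (i, j) ≠ (0, 0) → ∃ k l : Fin 3,
    eWord (c3.getD (3 * i.val + j.val) []) * t3 0 1 = t3 k l * eWord (c3.getD (3 * i.val + j.val) []) := by
  decide +kernel

theorem t3_order : orderOf (t3 1 0) = 3 := by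
  haveI : Fact (Nat.Prime 3) := ⟨Nat.prime_three⟩
  obtain ⟨hm, hinj, h0⟩ := t3_group
  refine orderOf_eq_prime ?_ fun e => ?_
  · rw [pow_succ, pow_two, hm, hm]
    exact h0
  · exact absurd (hinj 1 0 0 0 (e.trans h0.symm)).1 (by decide)

theorem cent3_all {e : G22} (h : e * t3 1 0 = t3 1 0 * e) : ∃ i < 36, eWord (cent3.getD i []) = e := by
  classical
  obtain ⟨hn, hl, hc⟩ := cent3_ok
  set C := Subgroup.centralizer ({t3 1 0} : Set G22) with hC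
  have hsub : ((cent3.map eWord).toFinset : Set G22) ⊆ (C : Set G22) := by
    intro g hg
    rw [Finset.mem_coe, List.mem_toFinset, List.mem_map] at hg
    obtain ⟨w, hw, rfl⟩ := hg
    obtain ⟨i, hi, rfl⟩ := List.getElem_of_mem hw
    rw [← List.getD_eq_getElem _ [] hi]
    exact Subgroup.mem_centralizer_singleton_iff.2 (hc i (hl ▸ hi))
  have e1 : ((cent3.map eWord).toFinset : Set G22) = (C : Set G22) := by
    refine Set.eq_of_subset_of_ncard_le hsub ?_ (Set.toFinite _)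
    rw [Set.ncard_coe_finset, List.toFinset_card_of_nodup hn, List.length_map, hl, ← Nat.card_coe_set_eq]
    exact M22Cent.card_centralizer_three t3_order
  have he : e ∈ ((cent3.map eWord).toFinset : Set G22) := e1 ▸ Subgroup.mem_centralizer_singleton_iff.2 h
  rw [Finset.mem_coe, List.mem_toFinset, List.mem_map] at he
  obtain ⟨w, hw, rfl⟩ := he
  obtain ⟨i, hi, rfl⟩ := List.getElem_of_mem hw
  exact ⟨i, hl ▸ hi, congrArg eWord (List.getD_eq_getElem _ [] hi)⟩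

theorem mem_norm_T3 {e : G22} : e ∈ Subgroup.normalizer (T3 : Set G22) ↔ ∀ i j, e * t3 i j * e⁻¹ ∈ T3 := by
  constructor
  · exact fun h i j => (Subgroup.mem_normalizer_iff.1 h _).1 ⟨i, j, rfl⟩
  · intro h
    refine Subgroup.mem_normalizer_fintype fun g hg => ?_
    obtain ⟨i, j, rfl⟩ := hg
    exact h i j

theorem norm_of_gens {e : G22} (ha : e * t3 1 0 * e⁻¹ ∈ T3) (hb : e * t3 0 1 * e⁻¹ ∈ T3) :
    e ∈ Subgroup.normalizer (T3 : Set G22) := by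
  rw [mem_norm_T3]
  obtain ⟨hm, -, -⟩ := t3_group
  set φ := (MulAut.conj e).toMonoidHom
  set M := T3.comap φ
  have ha' : t3 1 0 ∈ M := ha
  have hb' : t3 0 1 ∈ M := hb
  have key : ∀ i j : Fin 3, t3 i j = t3 1 0 ^ i.val * t3 0 1 ^ j.val := by decide +kernel
  intro i j
  show t3 i j ∈ M
  rw [key]
  exact mul_mem (pow_mem ha' _) (pow_mem hb' _)

theorem card_norm_T3 : Nat.card (Subgroup.normalizer (T3 : Set G22)) = 72 := by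
  classical
  obtain ⟨hm, hinj, h0⟩ := t3_group
  set M := Subgroup.normalizer (T3 : Set G22) with hM
  have hmem : ∀ g : M, ∃ i j : Fin 3, (i, j) ≠ (0, 0) ∧ (g : G22) * t3 1 0 * (g : G22)⁻¹ = t3 i j := by
    intro g
    obtain ⟨i, j, e⟩ := mem_norm_T3.1 g.2 1 0
    refine ⟨i, j, fun h => ?_, e.symm⟩
    simp only [Prod.mk.injEq] at h
    rw [h.1, h.2, h0] at e
    have := t3_order
    rw [conj_eq_one_iff.1 e.symm, orderOf_one] at this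
    omega
  choose I J hne heq using hmem
  have hc : ∀ i j : Fin 3, (i, j) ≠ (0, 0) → eWord (c3.getD (3 * i.val + j.val) []) ∈ M := fun i j h => by
    obtain ⟨k, l, e⟩ := c3_norm i j h
    exact norm_of_gens ⟨i, j, (mul_inv_eq_iff_eq_mul.2 (t3_move i j h)).symm⟩
      ⟨k, l, (mul_inv_eq_iff_eq_mul.2 e).symm⟩
  let T := {p : Fin 3 × Fin 3 // p ≠ (0, 0)}
  refine (Nat.card_eq_of_bijective (fun p : T × T3 =>
    (⟨eWord (c3.getD (3 * p.1.1.1.val + p.1.1.2.val) []) * (p.2 : G22),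
      mul_mem (hc _ _ p.1.2) (Subgroup.le_normalizer p.2.2)⟩ : M)) ⟨?_, ?_⟩).symm.trans ?_
  · rintro ⟨⟨⟨i, j⟩, h⟩, ⟨_, a, b, rfl⟩⟩ ⟨⟨⟨k, l⟩, h'⟩, ⟨_, c, d, rfl⟩⟩ e
    have e' : eWord (c3.getD (3 * i.val + j.val) []) * t3 a b = eWord (c3.getD (3 * k.val + l.val) []) * t3 c d :=
      congrArg Subtype.val e
    have e2 := congrArg (fun g : G22 => g * t3 1 0 * g⁻¹) e'
    have hcm : ∀ (g : G22) (a b : Fin 3), g * t3 a b * t3 1 0 * (g * t3 a b)⁻¹ = g * t3 1 0 * g⁻¹ := by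
      intro g a b
      rw [mul_assoc g, show t3 a b * t3 1 0 = t3 1 0 * t3 a b by rw [hm, hm, add_comm a, add_comm b]]
      group
    simp only [hcm, mul_inv_eq_iff_eq_mul.2 (t3_move _ _ h), mul_inv_eq_iff_eq_mul.2 (t3_move _ _ h')] at e2
    obtain ⟨rfl, rfl⟩ := hinj _ _ _ _ e2
    obtain ⟨rfl, rfl⟩ := hinj _ _ _ _ (mul_left_cancel e')
    rfl
  · intro g
    set c := eWord (c3.getD (3 * (I g).val + (J g).val) []) with hcdef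
    have hh : c⁻¹ * (g : G22) * t3 1 0 = t3 1 0 * (c⁻¹ * (g : G22)) := by
      refine mul_inv_eq_iff_eq_mul.1 ?_
      rw [show c⁻¹ * (g : G22) * t3 1 0 * (c⁻¹ * (g : G22))⁻¹ = c⁻¹ * ((g : G22) * t3 1 0 * (g : G22)⁻¹) * c by group,
        heq g, ← mul_inv_eq_iff_eq_mul.2 (t3_move _ _ (hne g)), ← hcdef]
      group
    have hN : c⁻¹ * (g : G22) ∈ M := mul_mem (inv_mem (hc _ _ (hne g))) g.2
    obtain ⟨n, hn, en⟩ := cent3_all hh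
    have hn9 : n < 9 := by
      by_contra hlt
      obtain ⟨k, l, e⟩ := mem_norm_T3.1 (en ▸ hN) 0 1
      exact cent3_norm ⟨n, hn⟩ (by simpa using hlt) k l (mul_inv_eq_iff_eq_mul.1 e.symm)
    obtain ⟨k, l, e⟩ := cent3_in ⟨n, hn9⟩
    refine ⟨(⟨(I g, J g), hne g⟩, ⟨_, k, l, (e.symm.trans en)⟩), Subtype.ext ?_⟩
    show c * (c⁻¹ * (g : G22)) = g
    group
  · rw [Nat.card_prod, show Nat.card T = 8 by rw [Nat.card_eq_fintype_card]; rfl,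
      (Nat.card_eq_of_bijective (fun p : Fin 3 × Fin 3 => (⟨t3 p.1 p.2, p.1, p.2, rfl⟩ : T3)) ⟨fun p q e => by
        obtain ⟨h1, h2⟩ := hinj _ _ _ _ (congrArg Subtype.val e)
        exact Prod.ext h1 h2, by rintro ⟨_, i, j, rfl⟩; exact ⟨(i, j), rfl⟩⟩).symm, Nat.card_prod, Nat.card_fin]

end Cfsg.Agent.Spor.JFour
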