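import Cfsg.Agent.Lib.Spor.LFTHerm

/-!
Large Fischer type: an orthonormal basis of the extraspecial subgroup modulo its centre.
-/

set_option autoImplicit false
set_option maxRecDepth 100000
set_option linter.unusedSectionVars false

namespace Cfsg.Agent.Spor.LFT

open Cfsg.Agent.Spor.SUSix (V6)
open Cfsg.Agent.Spor.SpFour (F4)
open Cfsg.Agent.Spor.Large (XT)

universe u

variable {G : Type u} [Group G] [Finite G] {z : G} {Q N M : Subgroup G}

/-- commutator bit in the field -/
noncomputable def cb (a b : G) : F4 := by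
  classical exact if Commute a b then 0 else 1

/-- conjugate by `x` -/
def xc (x a : G) : G := x * a * x⁻¹

/-- the Hermitian form -/
noncomputable def hf (x a b : G) : F4 := (cb a b + cb a (xc x b)) + cb a b * F4.w

/-- scalar multiples -/
def smq (x : G) : F4 → G → G
  | .o, _ => 1
  | .i, a => a
  | .w, a => xc x a
  | .v, a => xc x (xc x a)

theorem Zc.symm (h : Hyp z Q N M) {a b : G} (e : Zc z a b) : Zc z b a := by
  rcases e with rfl | rfl
  · exact Or.inl rfl
  · exact Or.inr (by rw [mul_assoc, h.xt.sq, mul_one])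

theorem Zc.trans (h : Hyp z Q N M) {a b c : G} (e : Zc z a b) (f : Zc z b c) : Zc z a c := by
  rcases e with rfl | rfl <;> rcases f with rfl | rfl
  · exact Or.inl rfl
  · exact Or.inr rfl
  · exact Or.inr rfl
  · exact Or.inl (by rw [mul_assoc, h.xt.sq, mul_one])

theorem Zc.mul (h : Hyp z Q N M) {a b c d : G} (hc : c ∈ Q) (e : Zc z a b) (f : Zc z c d) : Zc z (a * c) (b * d) := by
  rcases e with rfl | rfl <;> rcases f with rfl | rfl
  · exact Or.inl rfl
  · exact Or.inr (mul_assoc _ _ _).symm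
  · exact Or.inr (by rw [mul_assoc, (h.xt.cen _ hc).eq, mul_assoc])
  · refine Or.inl ?_
    rw [mul_assoc, ← mul_assoc z, (h.xt.cen _ hc).eq, mul_assoc c, h.xt.sq, mul_one]

theorem Zc.mem (h : Hyp z Q N M) {a b : G} (ha : a ∈ Q) (e : Zc z a b) : b ∈ Q := by
  rcases e with rfl | rfl
  exacts [ha, mul_mem ha h.xt.mem]

theorem Zc.conj {a b c : G} (hc : Commute c z) (e : Zc z a b) : Zc z (c * a * c⁻¹) (c * b * c⁻¹) := by
  rcases e with rfl | rfl
  · exact Or.inl rfl
  · refine Or.inr ?_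
    calc c * (a * z) * c⁻¹ = c * a * c⁻¹ * (c * z * c⁻¹) := by group
      _ = c * a * c⁻¹ * z := by rw [hc.eq, mul_inv_cancel_right]

theorem Hyp.swap (h : Hyp z Q N M) {a b : G} (ha : a ∈ Q) (hb : b ∈ Q) : Zc z (a * b) (b * a) := by
  rcases h.xt.comm b hb a ha with e | e <;> rw [mul_inv_eq_iff_eq_mul] at e
  · exact Or.inl e
  · exact Or.inr (by rw [e, mul_assoc, (h.xt.cen b hb).eq, ← mul_assoc])

theorem cb_self (a : G) : cb a a = 0 := by
  classical
  rw [cb, if_pos (Commute.refl a)]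

theorem cb_comm (a b : G) : cb a b = cb b a := by
  classical
  rw [cb, cb]
  exact if_congr ⟨Commute.symm, Commute.symm⟩ rfl rfl

theorem cb_conj (c a b : G) : cb (c * a * c⁻¹) (c * b * c⁻¹) = cb a b := by
  classical
  rw [cb, cb]
  exact if_congr (Commute.conj_iff c) rfl rfl

theorem cb_real (a b : G) : cb a b = 0 ∨ cb a b = 1 := by
  classical
  rw [cb]
  split_ifs
  · exact Or.inl rfl
  · exact Or.inr rfl

theorem cb_zc (h : Hyp z Q N M) {a b b' : G} (ha : a ∈ Q) (e : Zc z b b') : cb a b' = cb a b := by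
  classical
  rcases e with rfl | rfl
  · rfl
  · rw [cb, cb]
    refine if_congr ⟨fun hc => ?_, fun hc => hc.mul_right (h.qz ha)⟩ rfl rfl
    have := hc.mul_right (h.qz ha)
    rwa [mul_assoc, h.xt.sq, mul_one] at this

theorem cb_mul (h : Hyp z Q N M) {a b c : G} (ha : a ∈ Q) (hb : b ∈ Q) (hc : c ∈ Q) :
    cb a (b * c) = cb a b + cb a c := by
  classical
  have key : ∀ d ∈ Q, a * d * a⁻¹ = if Commute a d then d else d * z := fun d hd => by
    split_ifs with hh
    · rw [hh.eq, mul_inv_cancel_right]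
    · exact h.xt.move ha hd hh
  have hiff : Commute a (b * c) ↔ a * (b * c) * a⁻¹ = b * c :=
    ⟨fun hh => by rw [hh.eq, mul_inv_cancel_right], fun hh => mul_inv_eq_iff_eq_mul.1 hh⟩
  have e : a * (b * c) * a⁻¹ = (a * b * a⁻¹) * (a * c * a⁻¹) := by group
  rw [cb, cb, cb]
  by_cases h1 : Commute a b <;> by_cases h2 : Commute a c
  · rw [if_pos h1, if_pos h2, if_pos (h1.mul_right h2), add_zero]
  · rw [if_pos h1, if_neg h2, if_neg ?_, zero_add]
    intro hh
    apply h2
    have := h1.inv_right.mul_right hh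
    rwa [inv_mul_cancel_left] at this
  · rw [if_neg h1, if_pos h2, if_neg ?_, add_zero]
    intro hh
    apply h1
    have := hh.mul_right h2.inv_right
    rwa [mul_inv_cancel_right] at this
  · rw [if_neg h1, if_neg h2, if_pos ?_]
    · decide +kernel
    · rw [hiff, e, key b hb, key c hc, if_neg h1, if_neg h2, mul_assoc b, ← mul_assoc z, (h.xt.cen c hc).eq,
        mul_assoc c, h.xt.sq, mul_one]

/-- data: the hypothesis with an element of order three -/
structure Ord (z : G) (Q N M : Subgroup G) (x : G) : Prop where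
  hyp : Hyp z Q N M
  mem : x ∈ N
  cube : x ^ 3 = 1
  out : x ∉ Q
  central : ∀ m ∈ M, (m * x * m⁻¹) * x⁻¹ ∈ Q
  dec : ∀ n ∈ N, n ∈ Q ∨ n * x⁻¹ ∈ Q ∨ n * x ∈ Q
  free : ∀ q ∈ Q, Zc z q (x * q * x⁻¹) → Zc z 1 q

theorem Hyp.exists_ord (h : Hyp z Q N M) : ∃ x, Ord z Q N M x := by
  obtain ⟨x, a, b, c, d, e, f⟩ := h.exists_x
  exact ⟨x, ⟨h, a, b, c, d, e, f⟩⟩

variable {x : G}

theorem Ord.xz (o : Ord z Q N M x) : Commute x z := o.hyp.le x (o.hyp.NM o.mem)

theorem Ord.xc_mem (o : Ord z Q N M x) {a : G} (ha : a ∈ Q) : xc x a ∈ Q := o.hyp.normQ x o.xz a ha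

theorem Ord.xc_three (o : Ord z Q N M x) (a : G) : xc x (xc x (xc x a)) = a := by
  show x * (x * (x * a * x⁻¹) * x⁻¹) * x⁻¹ = a
  calc x * (x * (x * a * x⁻¹) * x⁻¹) * x⁻¹ = x ^ 3 * a * (x ^ 3)⁻¹ := by
        rw [pow_succ, pow_two]; group
    _ = a := by rw [o.cube]; group

theorem Ord.xc_zc (o : Ord z Q N M x) {a b : G} (e : Zc z a b) : Zc z (xc x a) (xc x b) := e.conj o.xz

theorem xc_mul (x a b : G) : xc x (a * b) = xc x a * xc x b := by unfold xc; group

theorem Ord.smq_mem (o : Ord z Q N M x) (c : F4) {a : G} (ha : a ∈ Q) : smq x c a ∈ Q := by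
  cases c
  exacts [one_mem _, ha, o.xc_mem ha, o.xc_mem (o.xc_mem ha)]

theorem Ord.triple (o : Ord z Q N M x) {a : G} (ha : a ∈ Q) : Zc z 1 (a * xc x a * xc x (xc x a)) := by
  have h1 := o.xc_mem ha
  have h2 := o.xc_mem h1
  refine o.free _ (mul_mem (mul_mem ha h1) h2) ?_
  have e : x * (a * xc x a * xc x (xc x a)) * x⁻¹ = xc x a * xc x (xc x a) * a := by
    show xc x (a * xc x a * xc x (xc x a)) = _
    rw [xc_mul, xc_mul, o.xc_three]
  rw [e, mul_assoc a]
  exact o.hyp.swap ha (mul_mem h1 h2)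

theorem Ord.cb_two (o : Ord z Q N M x) {a b : G} (ha : a ∈ Q) (hb : b ∈ Q) :
    cb a (xc x (xc x b)) = cb a b + cb a (xc x b) := by
  have h1 := o.xc_mem hb
  have h2 := o.xc_mem h1
  have e := cb_zc o.hyp ha (o.triple hb)
  rw [cb_mul o.hyp ha (mul_mem hb h1) h2, cb_mul o.hyp ha hb h1] at e
  have h0 : cb a (1 : G) = 0 := by classical rw [cb, if_pos (Commute.one_right a)]
  rw [h0] at e
  have key : ∀ p q r : F4, p + q + r = 0 → r = p + q := by decide +kernel
  exact key _ _ _ e

theorem Ord.hf_zc (o : Ord z Q N M x) {a b b' : G} (ha : a ∈ Q) (e : Zc z b b') : hf x a b' = hf x a b := by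
  rw [hf, hf, cb_zc o.hyp ha e, cb_zc o.hyp ha (o.xc_zc e)]

theorem Ord.hf_mul (o : Ord z Q N M x) {a b c : G} (ha : a ∈ Q) (hb : b ∈ Q) (hc : c ∈ Q) :
    hf x a (b * c) = hf x a b + hf x a c := by
  rw [hf, hf, hf, xc_mul, cb_mul o.hyp ha hb hc, cb_mul o.hyp ha (o.xc_mem hb) (o.xc_mem hc)]
  ring

theorem Ord.hf_one (o : Ord z Q N M x) (a : G) : hf x a 1 = 0 := by
  classical
  have h1 : xc x 1 = 1 := by unfold xc; group
  rw [hf, h1, cb, if_pos (Commute.one_right a), add_zero, zero_mul, add_zero]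

theorem Ord.hf_xc (o : Ord z Q N M x) {a b : G} (ha : a ∈ Q) (hb : b ∈ Q) :
    hf x a (xc x b) = F4.w * hf x a b := by
  rw [hf, hf, o.cb_two ha hb]
  rcases cb_real a b with e | e <;> rcases cb_real a (xc x b) with e' | e' <;> rw [e, e'] <;> decide +kernel

theorem Ord.hf_smq (o : Ord z Q N M x) (c : F4) {a b : G} (ha : a ∈ Q) (hb : b ∈ Q) :
    hf x a (smq x c b) = c * hf x a b := by
  cases c
  · show hf x a 1 = _
    rw [o.hf_one]
    exact (zero_mul _).symm
  · exact (one_mul _).symm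
  · exact o.hf_xc ha hb
  · show hf x a (xc x (xc x b)) = _
    rw [o.hf_xc ha (o.xc_mem hb), o.hf_xc ha hb, ← mul_assoc]
    rfl

theorem Ord.hf_swap (o : Ord z Q N M x) {a b : G} (ha : a ∈ Q) (hb : b ∈ Q) : hf x b a = star (hf x a b) := by
  have e1 : cb b (xc x a) = cb a b + cb a (xc x b) := by
    rw [cb_comm b, ← o.cb_two ha hb, ← cb_conj x a (xc x (xc x b)), show x * (xc x (xc x b)) * x⁻¹ = b from o.xc_three b]
    rfl
  rw [hf, hf, cb_comm b a, e1]
  rcases cb_real a b with e | e <;> rcases cb_real a (xc x b) with e' | e' <;> rw [e, e'] <;> decide +kernel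

theorem Ord.hf_self (o : Ord z Q N M x) (a : G) : hf x a a = cb a (xc x a) := by
  rw [hf, cb_self, zero_add, zero_mul, add_zero]

theorem Ord.sq_iff (o : Ord z Q N M x) {a : G} (ha : a ∈ Q) : a * a = 1 ↔ hf x a a = 0 := by
  classical
  rw [o.hf_self, cb]
  have h1 := o.xc_mem ha
  have h2 := o.xc_mem h1
  have hx2 : ∀ c, c ∈ Q → (xc x c * xc x c = 1 ↔ c * c = 1) := fun c _ => by
    rw [← xc_mul]
    exact conj_eq_one_iff
  -- the second conjugate is the product
  have e3 : Zc z (a * xc x a) (xc x (xc x a)) := by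
    rcases o.triple ha with e | e
    · have : (a * xc x a)⁻¹ = xc x (xc x a) := (eq_inv_of_mul_eq_one_right e).symm
      rw [← this]
      rcases o.hyp.xt.sq_mem (mul_mem ha h1) with e' | e'
      · exact Or.inl (inv_eq_of_mul_eq_one_right e')
      · refine Or.inr (inv_eq_of_mul_eq_one_right ?_)
        rw [← mul_assoc, e', o.hyp.xt.sq]
    · rw [one_mul] at e
      have : xc x (xc x a) = (a * xc x a)⁻¹ * z := eq_inv_mul_of_mul_eq e
      rw [this]
      rcases o.hyp.xt.sq_mem (mul_mem ha h1) with e' | e'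
      · exact Or.inr (by rw [inv_eq_of_mul_eq_one_right e'])
      · refine Or.inl ?_
        rw [show (a * xc x a)⁻¹ = a * xc x a * z from inv_eq_of_mul_eq_one_right (by
          rw [← mul_assoc, e', o.hyp.xt.sq]), mul_assoc, o.hyp.xt.sq, mul_one]
  have hsq : (a * xc x a) * (a * xc x a) = 1 ↔ a * a = 1 := by
    rw [← hx2 a ha, ← hx2 _ h1]
    rcases e3 with e | e
    · rw [e]
    · rw [e, show a * xc x a * z * (a * xc x a * z) = a * xc x a * (a * xc x a) * (z * z) by
        have hc : Commute z (a * xc x a) := o.hyp.xt.cen _ (mul_mem ha h1)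
        calc a * xc x a * z * (a * xc x a * z) = a * xc x a * (z * (a * xc x a)) * z := by group
          _ = _ := by rw [hc.eq]; group, o.hyp.xt.sq, mul_one]
  have e4 : (a * xc x a) * (a * xc x a) = if Commute a (xc x a) then 1 else z := by
    have hs : xc x a * xc x a = a * a := by
      rcases o.hyp.xt.sq_mem ha with e | e
      · rw [e, (hx2 a ha).2 e]
      · rw [e]
        rw [← xc_mul, e]
        show x * z * x⁻¹ = z
        rw [o.xz.eq, mul_inv_cancel_right]
    have hza : Commute (a * a) a := (Commute.refl a).mul_left (Commute.refl a)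
    split_ifs with hc
    · calc a * xc x a * (a * xc x a) = a * a * (xc x a * xc x a) := hc.symm.mul_mul_mul_comm a (xc x a)
        _ = 1 := by
          rw [hs]
          rcases o.hyp.xt.sq_mem ha with e | e <;> rw [e]
          · exact one_mul 1
          · exact o.hyp.xt.sq
    · have hm := o.hyp.xt.move h1 ha (fun e => hc e.symm)
      rw [mul_inv_eq_iff_eq_mul] at hm
      calc a * xc x a * (a * xc x a) = a * (xc x a * a) * xc x a := by group
        _ = a * (a * z * xc x a) * xc x a := by rw [hm]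
        _ = a * a * z * (xc x a * xc x a) := by group
        _ = z := by
          rw [hs]
          rcases o.hyp.xt.sq_mem ha with e | e <;> rw [e]
          · rw [one_mul, mul_one]
          · rw [o.hyp.xt.sq, one_mul]
  rw [← hsq, e4]
  split_ifs with hc
  · simp
  · exact iff_of_false o.hyp.xt.ne (by simp)

/-- product of scalar multiples -/
noncomputable def lc (x : G) : ∀ {k : ℕ}, (Fin k → F4) → (Fin k → G) → G
  | 0, _, _ => 1
  | _ + 1, c, e => smq x (c 0) (e 0) * lc x (fun i => c i.succ) (fun i => e i.succ)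

theorem Ord.lc_mem (o : Ord z Q N M x) : ∀ {k : ℕ} (c : Fin k → F4) (e : Fin k → G), (∀ i, e i ∈ Q) → lc x c e ∈ Q
  | 0, _, _, _ => one_mem _
  | _ + 1, c, e, he => mul_mem (o.smq_mem _ (he 0)) (o.lc_mem _ _ fun i => he i.succ)

theorem Ord.hf_lc (o : Ord z Q N M x) {a : G} (ha : a ∈ Q) :
    ∀ {k : ℕ} (c : Fin k → F4) (e : Fin k → G), (∀ i, e i ∈ Q) → hf x a (lc x c e) = ∑ i, c i * hf x a (e i)
  | 0, _, _, _ => o.hf_one a
  | _ + 1, c, e, he => by
    rw [lc, o.hf_mul ha (o.smq_mem _ (he 0)) (o.lc_mem _ _ fun i => he i.succ), o.hf_smq _ ha (he 0),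
      o.hf_lc ha _ _ (fun i => he i.succ), Fin.sum_univ_succ]

/-- orthonormal -/
def ON (x : G) (Q : Subgroup G) {k : ℕ} (e : Fin k → G) : Prop :=
  (∀ i, e i ∈ Q) ∧ ∀ i j, hf x (e i) (e j) = if i = j then 1 else 0

theorem Ord.hf_lc_on (o : Ord z Q N M x) {k : ℕ} {e : Fin k → G} (he : ON x Q e) (c : Fin k → F4) (j : Fin k) :
    hf x (e j) (lc x c e) = c j := by
  rw [o.hf_lc (he.1 j) c e he.1, Finset.sum_eq_single j]
  · rw [he.2, if_pos rfl, mul_one]
  · intro i _ hi
    rw [he.2, if_neg (Ne.symm hi), mul_zero]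
  · intro hh; exact absurd (Finset.mem_univ j) hh

theorem Ord.exists_nonorth (o : Ord z Q N M x) {a : G} (ha : a ∈ Q) (h1 : ¬ Zc z 1 a) :
    ∃ b ∈ Q, hf x a b ≠ 0 := by
  classical
  by_contra hno
  push Not at hno
  have hc : ∀ b ∈ Q, Commute a b := fun b hb => by
    by_contra hc
    have hcb : cb a b = 1 := by rw [cb, if_neg hc]
    have := hno b hb
    rw [hf, hcb] at this
    rcases cb_real a (xc x b) with e' | e' <;> rw [e'] at this <;> exact absurd this (by decide +kernel)
  rcases o.hyp.xt.eq_of_cen a ha hc with e | e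
  · exact h1 (Or.inl e)
  · exact h1 (Or.inr (by rw [e, one_mul]))

theorem Ord.on_le (o : Ord z Q N M x) {k : ℕ} {e : Fin k → G} (he : ON x Q e) : k ≤ 6 := by
  classical
  by_contra hk
  have hf' : Function.Injective (fun c : Fin k → F4 => (⟨lc x c e, o.lc_mem c e he.1⟩ : Q)) := fun c d hcd => by
    funext j
    rw [← o.hf_lc_on he c j, ← o.hf_lc_on he d j, show lc x c e = lc x d e from congrArg Subtype.val hcd]
  have h := Nat.card_le_card_of_injective _ hf'
  rw [o.hyp.cardQ, Nat.card_pi, Finset.prod_const, Finset.card_univ, Fintype.card_fin, Nat.card_eq_fintype_card,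
    SpFour.F4.card] at h
  have h7 : 4 ^ 7 ≤ 4 ^ k := Nat.pow_le_pow_right (by norm_num) (by omega)
  norm_num at h h7
  omega

/-- an orthonormal system with nothing orthogonal to it -/
theorem Ord.exists_basis (o : Ord z Q N M x) :
    ∃ (k : ℕ) (e : Fin k → G), ON x Q e ∧ ∀ a ∈ Q, (∀ i, hf x (e i) a = 0) → Zc z 1 a := by
  classical
  suffices h : ∀ n k, n + k = 7 → ∀ e : Fin k → G, ON x Q e →
      ∃ (k : ℕ) (e : Fin k → G), ON x Q e ∧ ∀ a ∈ Q, (∀ i, hf x (e i) a = 0) → Zc z 1 a by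
    exact h 7 0 rfl Fin.elim0 ⟨fun i => i.elim0, fun i => i.elim0⟩
  intro n
  induction n with
  | zero =>
    intro k hk e he
    have := o.on_le he
    omega
  | succ n ih =>
    intro k hk e he
    by_cases hd : ∀ a ∈ Q, (∀ i, hf x (e i) a = 0) → Zc z 1 a
    · exact ⟨k, e, he, hd⟩
    push Not at hd
    obtain ⟨a, ha, hao, ha1⟩ := hd
    suffices h : ∃ d ∈ Q, (∀ i, hf x (e i) d = 0) ∧ hf x d d = 1 by
      obtain ⟨d, hd, hdo, hdd⟩ := h
      refine ih (k + 1) (by omega) (Fin.cons d e) ⟨fun i => ?_, fun i j => ?_⟩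
      · refine Fin.cases ?_ (fun i => ?_) i
        exacts [hd, he.1 i]
      · refine Fin.cases ?_ (fun i => ?_) i <;> refine Fin.cases ?_ (fun j => ?_) j
        · simpa using hdd
        · rw [Fin.cons_zero, Fin.cons_succ, o.hf_swap (he.1 j) hd, hdo, if_neg (Fin.succ_ne_zero j).symm, star_zero]
        · rw [Fin.cons_zero, Fin.cons_succ, hdo, if_neg (Fin.succ_ne_zero i)]
        · rw [Fin.cons_succ, Fin.cons_succ, he.2]
          simp
    obtain ⟨b, hb, hab⟩ := o.exists_nonorth ha ha1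
    set b' := b * lc x (fun i => hf x (e i) b) e with hb'
    have hb'Q : b' ∈ Q := mul_mem hb (o.lc_mem _ _ he.1)
    have hb'o : ∀ i, hf x (e i) b' = 0 := fun i => by
      rw [o.hf_mul (he.1 i) hb (o.lc_mem _ _ he.1), o.hf_lc_on he]
      generalize hf x (e i) b = p
      revert p
      decide +kernel
    have hab' : hf x a b' = hf x a b := by
      rw [o.hf_mul ha hb (o.lc_mem _ _ he.1), o.hf_lc ha _ _ he.1, Finset.sum_eq_zero, add_zero]
      intro i _
      rw [o.hf_swap (he.1 i) ha, hao, star_zero, mul_zero]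
    have hval : ∀ d, hf x d d = 0 ∨ hf x d d = 1 := fun d => by rw [o.hf_self]; exact cb_real _ _
    rcases hval a with e1 | e1
    swap
    · exact ⟨a, ha, hao, e1⟩
    rcases hval b' with e2 | e2
    swap
    · exact ⟨b', hb'Q, hb'o, e2⟩
    obtain ⟨c, hc⟩ : ∃ c : F4, c * hf x a b' + star (c * hf x a b') = 1 := by
      rw [hab']
      revert hab
      generalize hf x a b = p
      revert p
      decide +kernel
    refine ⟨a * smq x c b', mul_mem ha (o.smq_mem c hb'Q), fun i => ?_, ?_⟩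
    · rw [o.hf_mul (he.1 i) ha (o.smq_mem c hb'Q), o.hf_smq c (he.1 i) hb'Q, hao, hb'o, mul_zero, add_zero]
    · have hs := o.smq_mem c hb'Q
      have hd := mul_mem ha hs
      have q1 : hf x (a * smq x c b') a = star (c * hf x a b') := by
        rw [o.hf_swap ha hd, o.hf_mul ha ha hs, e1, zero_add, o.hf_smq c ha hb'Q]
      have q2 : hf x (a * smq x c b') b' = hf x a b' := by
        rw [o.hf_swap hb'Q hd, o.hf_mul hb'Q ha hs, o.hf_smq c hb'Q hb'Q, e2, mul_zero, add_zero,
          o.hf_swap ha hb'Q, star_star]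
      rw [o.hf_mul hd ha hs, o.hf_smq c hd hb'Q, q1, q2, add_comm, hc]

/-- coordinates -/
theorem Ord.exists_coord (o : Ord z Q N M x) : ∃ e : Fin 6 → G, ON x Q e ∧
    ∀ a ∈ Q, Zc z a (lc x (fun i => hf x (e i) a) e) := by
  obtain ⟨k, e, he, hmax⟩ := o.exists_basis
  have hdec : ∀ a ∈ Q, Zc z a (lc x (fun i => hf x (e i) a) e) := by
    intro a ha
    set l := lc x (fun i => hf x (e i) a) e
    have hl : l ∈ Q := o.lc_mem _ _ he.1
    have h0 : Zc z 1 (a⁻¹ * l) := hmax _ (mul_mem (inv_mem ha) hl) fun i => by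
      rw [o.hf_mul (he.1 i) (inv_mem ha) hl, o.hf_lc_on he]
      have h1 := o.hf_mul (he.1 i) (inv_mem ha) ha
      rw [inv_mul_cancel, o.hf_one] at h1
      exact h1.symm
    have h2 := Zc.mul o.hyp (one_mem _) (Zc.refl a) h0
    rwa [mul_one, mul_inv_cancel_left] at h2
  have hsur : Nat.card Q ≤ 2 * Nat.card (Fin k → F4) := by
    classical
    have hs : Function.Surjective (fun p : (Fin k → F4) × Bool =>
        (⟨if p.2 then lc x p.1 e * z else lc x p.1 e, by
          split_ifs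
          exacts [mul_mem (o.lc_mem _ _ he.1) o.hyp.xt.mem, o.lc_mem _ _ he.1]⟩ : Q)) := by
      rintro ⟨a, ha⟩
      rcases (hdec a ha).symm o.hyp with e' | e'
      · exact ⟨(_, false), Subtype.ext e'.symm⟩
      · exact ⟨(_, true), Subtype.ext e'.symm⟩
    refine (Nat.card_le_card_of_surjective _ hs).trans (le_of_eq ?_)
    rw [Nat.card_prod, Nat.card_eq_fintype_card (α := Bool), Fintype.card_bool, mul_comm]
  rw [o.hyp.cardQ, Nat.card_pi, Finset.prod_const, Finset.card_univ, Fintype.card_fin,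
    Nat.card_eq_fintype_card, SpFour.F4.card] at hsur
  have hk : k = 6 := by
    refine le_antisymm (o.on_le he) ?_
    by_contra hh
    have h5 : 4 ^ k ≤ 4 ^ 5 := Nat.pow_le_pow_right (by norm_num) (by omega)
    norm_num at hsur h5
    omega
  subst hk
  exact ⟨e, he, hdec⟩

end Cfsg.Agent.Spor.LFT
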