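import Cfsg.Agent.Lib.Spor.LFTDefs

/-!
Orbit trees and invariance of the shorter orbit.
-/

set_option autoImplicit false
set_option maxRecDepth 100000

namespace Cfsg.Agent.Spor.LFT.Chk

open Cfsg.Agent.Spor.CC

theorem tree0 : rangeOK treeOK 0 1024 = true := by decide +kernel

theorem tree1 : rangeOK treeOK 1024 1024 = true := by decide +kernel

theorem tree2 : rangeOK treeOK 2048 1024 = true := by decide +kernel

theorem tree3 : rangeOK treeOK 3072 1024 = true := by decide +kernel

theorem inv0 : rangeOK invOK 0 1024 = true := by decide +kernel

theorem inv1 : rangeOK invOK 1024 1024 = true := by decide +kernel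

theorem inv2 : rangeOK invOK 2048 1024 = true := by decide +kernel

theorem inv3 : rangeOK invOK 3072 1024 = true := by decide +kernel

end Cfsg.Agent.Spor.LFT.Chk
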