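import Cfsg.Agent.Lib.Spor.LFTDefs

/-!
Compatibility with the permutations of the five-sets, part 2.
-/

set_option autoImplicit false
set_option maxRecDepth 100000

namespace Cfsg.Agent.Spor.LFT.Chk

open Cfsg.Agent.Spor.CC

theorem compA2 : rangeOK compA 2048 1024 = true := by decide +kernel

end Cfsg.Agent.Spor.LFT.Chk
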