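import Cfsg.Agent.Lib.Spor.LFTChecksB0
import Cfsg.Agent.Lib.Spor.LFTChecksB1
import Cfsg.Agent.Lib.Spor.LFTChecksB2
import Cfsg.Agent.Lib.Spor.LFTChecksB3

/-!
Compatibility with the permutations of the five-sets.
-/
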