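import Cfsg.Agent.Lib.Spor.LFTChecksC0
import Cfsg.Agent.Lib.Spor.LFTChecksC1
import Cfsg.Agent.Lib.Spor.LFTChecksC2
import Cfsg.Agent.Lib.Spor.LFTChecksC3

/-!
Compatibility with the permutations of the fifteen lines.
-/
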