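import Cfsg.Agent.Lib.Spor.LFTDefs

/-!
Fixed vectors, separation, permutations and chains.
-/

set_option autoImplicit false
set_option maxRecDepth 100000

namespace Cfsg.Agent.Spor.LFT.Chk

open Cfsg.Agent.Spor.CC

theorem fix_ok : fixOK = true := by decide +kernel

theorem conj_ok : conjOK = true := by decide +kernel

theorem ker_ok : kerOK = true := by decide +kernel

theorem sep_A : sepOK mA 27 Dat.witA = true := by decide +kernel

theorem sep_B : sepOK mB 15 Dat.witB = true := by decide +kernel

theorem perm_A : (List.range 3).all (fun s => permOK 27 (Dat.permA.getD s []) (Dat.permAi.getD s [])) = true := by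
  decide +kernel

theorem chain_A2 : chOK (Dat.permA.take 2) 27 [] Dat.chainA2 = true ∧ chSize Dat.chainA2 = 25920 := by decide +kernel

theorem chain_A3 : chOK Dat.permA 27 [] Dat.chainA3 = true ∧ chSize Dat.chainA3 = 51840 := by decide +kernel

theorem chain_B : chOK (Dat.perm6.take 4) 6 [] Dat.chainB = true ∧ chSize Dat.chainB = 360 := by decide +kernel

theorem dnum_ok : ∀ j < 15, dnum (dfst j) (dsnd j) = j ∧ dfst j < dsnd j ∧ dsnd j < 6 := by decide +kernel

end Cfsg.Agent.Spor.LFT.Chk
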