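import Cfsg.Agent.Lib.Spor.LFTFourCore

/-!
A pair spanning a line of the shorter orbit, placed inside a largest elementary abelian subgroup as the two
duads through a point, with the action of the normalizer.
-/

set_option autoImplicit false
set_option maxRecDepth 100000
set_option linter.unusedSectionVars false

namespace Cfsg.Agent.Spor.LFT

open Cfsg.Agent.Small.Unitary (herm)
open Cfsg.Agent.Spor.SUSix (V6)
open Cfsg.Agent.Spor.SpFour (F4)
open Cfsg (GolayPt)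

universe u

variable {G : Type u} [Group G] [Finite G] {z : G} {Q N M : Subgroup G}

/-- the configuration at three points -/
structure Corner (f : Frame z Q M) (t t' : G) (A : Subgroup G) (ψ : ℕ → G) (a b c : GolayPt) : Prop where
  P : FPair f t t'
  ab : a ≠ b
  ac : a ≠ c
  bc : b ≠ c
  model : PointModel z A ψ
  elem : Cfsg.IsElementaryAbelian 2 A
  et : t = ψ (phN {a, b})
  et' : t' = ψ (phN {a, c})
  norm : Q ≤ Subgroup.normalizer (A : Set G)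
  onto : ∀ σ : Equiv.Perm GolayPt, σ ∈ Cfsg.M24 → ∃ y ∈ Subgroup.normalizer (A : Set G), Des ψ y σ
  mA : ∀ y ∈ Subgroup.normalizer (A : Set G), ∃ σ : Equiv.Perm GolayPt, σ ∈ Cfsg.M24 ∧ Des ψ y σ
  move : ∃ y ∈ P.CE, Commute (y * z * y⁻¹) z ∧ y * z * y⁻¹ ≠ z
  tder : t ∈ ⁅P.CE, P.CE⁆
  tder' : t' ∈ ⁅P.CE, P.CE⁆

variable {f : Frame z Q M} (S : Setup z Q N M)

include S

/-- the extraspecial subgroup normalizes every largest elementary abelian subgroup through the involution -/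
theorem Setup.norm_big {A : Subgroup G} (hA : Cfsg.IsElementaryAbelian 2 A) (hAc : Nat.card A = 2 ^ 11)
    (hzA : z ∈ A) : Q ≤ Subgroup.normalizer (A : Set G) := by
  haveI : Fact (Nat.Prime 2) := ⟨Nat.prime_two⟩
  obtain ⟨C, hC⟩ : ∃ C : Subgroup G, C = Subgroup.centralizer ({z} : Set G) := ⟨_, rfl⟩
  have hAC : A ≤ C := fun r hr => hC ▸ Subgroup.mem_centralizer_singleton_iff.2
    (congrArg Subtype.val (hA.1.is_comm.comm (⟨r, hr⟩ : A) ⟨z, hzA⟩))
  have hQC : Q ≤ C := fun r hr => hC ▸ Subgroup.mem_centralizer_singleton_iff.2 (S.hyp.qz hr)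
  have hQn : C ≤ Subgroup.normalizer (Q : Set G) := by
    intro c hc
    have hcz : Commute c z := Subgroup.mem_centralizer_singleton_iff.1 (hC ▸ hc)
    refine Subgroup.mem_normalizer_iff.2 fun r => ⟨fun hr => S.hyp.normQ c hcz r hr, fun hr => ?_⟩
    have := S.hyp.normQ c⁻¹ hcz.inv_left _ hr
    rwa [show c⁻¹ * (c * r * c⁻¹) * c⁻¹⁻¹ = r by group] at this
  have hAN : A ≤ Subgroup.normalizer (Q : Set G) := hAC.trans hQn
  have hQ2 : IsPGroup 2 Q := S.large.1.1.1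
  have hP : IsPGroup 2 ↥(A ⊔ Q) := (IsPGroup.of_card hAc).to_sup_of_normal_right' hQ2 hAN
  intro r hr
  refine Subgroup.mem_normalizer_iff.2 ?_
  have hrP : r ∈ A ⊔ Q := Subgroup.mem_sup_right hr
  have hle : A.map (MulAut.conj r).toMonoidHom ≤ A ⊔ Q := by
    rintro _ ⟨x, hx, rfl⟩
    exact mul_mem (mul_mem hrP (Subgroup.mem_sup_left hx)) (inv_mem hrP)
  have e := S.big_unique hP hle le_sup_left (elem_map (MulAut.conj r).toMonoidHom hA) hA
    (by rw [Subgroup.card_map_of_injective (MulAut.conj r).injective, hAc]) hAc.ge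
  intro x
  refine ⟨fun hx => e ▸ ⟨x, hx, rfl⟩, fun hx => ?_⟩
  rw [← e] at hx
  obtain ⟨w, hw, hwx⟩ := hx
  rwa [← (MulAut.conj r).injective (hwx : MulAut.conj r w = MulAut.conj r x)]

/-- existence of the configuration -/
theorem Setup.exists_corner (f : Frame z Q M) : ∃ t t' : G, ∃ (A : Subgroup G) (ψ : ℕ → G) (a b c : GolayPt),
    Corner f t t' A ψ a b c := by
  classical
  obtain ⟨x, g, l⟩ := S.exists_Line f
  obtain ⟨A, hAe, hAc, hA⟩ := l.A0_exists S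
  obtain ⟨ψ, h1, h2, h3, h4, h5⟩ := l.model S hAe hAc hA
  have m : PointModel z A ψ := ⟨h1, h2, h3, h4, h5⟩
  have hzA : z ∈ A := (hA z).2 ⟨z, AQ_z S f, 1, one_mem _, by rw [Subgroup.coe_one, mul_one]⟩
  have hAQA : ∀ a ∈ AQset f, a ∈ A := fun a ha => (hA a).2 ⟨a, ha, 1, one_mem _, by rw [Subgroup.coe_one, mul_one]⟩
  obtain ⟨v, hvF, hvA, hvI⟩ := Syl.FS_PA
  obtain ⟨t, htQ, hts, ht1, htz, htv⟩ := f.exists_inv S hvI
  have htA : t ∈ AQset f := ⟨htQ, htv ▸ hvF⟩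
  set t' := (x : G) * t * (x : G)⁻¹ with ht'
  have ht'v : f.vec t' = F4.w • v := by rw [ht', l.xel.vec f htQ, htv]
  have ht'Q : t' ∈ Q := S.hyp.normQ x l.xz t htQ
  have ht'A : t' ∈ AQset f := ⟨ht'Q, fun p hp => by
    rw [ht'v, scal_comm (Syl.ES_Kp hp), hvF p hp]⟩
  have hvne : f.vec t ≠ 0 := f.vec_ne S htQ ht1 htz
  have hnc : ¬ IsConj z t := S.t_not_conj f htQ (htv.symm ▸ hvA) htz
  have hnc' : ¬ IsConj z t' := fun h => hnc (h.trans ((isConj_iff.2 ⟨(x : G), rfl⟩).symm))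
  have hc : Commute t t' := AQ_comm S f htA ht'A
  set u := (x : G) * t' * (x : G)⁻¹ with hu
  have huQ : u ∈ Q := S.hyp.normQ x l.xz t' ht'Q
  have hnu : ¬ IsConj z u := fun h => hnc' (h.trans ((isConj_iff.2 ⟨(x : G), rfl⟩).symm))
  have hnc'' : ¬ IsConj z (t * t') := by
    have e : f.vec u = f.vec (t * t') := by
      rw [hu, l.xel.vec f ht'Q, f.vec_mul t htQ t' ht'Q, ht'v, htv]
      have key : ∀ a : F4, F4.w * (F4.w * a) = a + F4.w * a := by decide +kernel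
      exact funext fun i => key _
    rcases (f.vec_eq u huQ _ (mul_mem htQ ht'Q)).1 e with e' | e'
    · rw [e']; exact hnu
    · rw [e']
      intro h
      have hu1 : u ≠ 1 := fun e => ht1 (conj_eq_one_iff.1 (conj_eq_one_iff.1 e))
      obtain ⟨q, hq, hn⟩ : ∃ q ∈ Q, ¬ Commute q u := by
        by_contra hno
        push Not at hno
        rcases S.hyp.xt.eq_of_cen u huQ (fun q hq => (hno q hq).symm) with e'' | e''
        exacts [hu1 e'', hnu (e'' ▸ IsConj.refl z)]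
      exact hnu (h.trans ((isConj_iff.2 ⟨q, S.hyp.xt.move hq huQ hn⟩).symm))
  have P : FPair f t t' := ⟨htQ, ht'Q, hts, AQ_sq S f ht'A, hc, htv.symm ▸ hvA, hvne,
    by rw [ht'v, htv], hnc, hnc', hnc''⟩
  obtain ⟨e1, e2, e3, -⟩ := P.ne_all S
  have hpair : ∀ r, r ∈ A → r ≠ 1 → ¬ IsConj z r → ∃ s : Finset GolayPt, s.card = 2 ∧ ψ (phN s) = r := by
    intro r hr hr1 hrn
    obtain ⟨n, hn, rfl⟩ := m.surj r hr
    obtain ⟨s, hs, rfl⟩ := m.eq_pair hn ((m.cls n hn).1 ⟨hr1, hrn⟩)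
    exact ⟨s, hs, rfl⟩
  obtain ⟨s1, hs1, hs1e⟩ := hpair t (hAQA _ htA) e1 hnc
  obtain ⟨s2, hs2, hs2e⟩ := hpair t' (hAQA _ ht'A) e2 hnc'
  obtain ⟨s3, hs3, hs3e⟩ := hpair (t * t') (mul_mem (hAQA _ htA) (hAQA _ ht'A)) e3 hnc''
  have hx : phN s1 ^^^ phN s2 = phN s3 := m.inj _ _ (Nat.xor_lt_two_pow (n := 11) (phN_lt _) (phN_lt _)) (phN_lt _)
    (by rw [m.mul _ _ (phN_lt _) (phN_lt _), hs1e, hs2e, hs3e])
  obtain ⟨a, b, c, hab, hac, hbc, rfl, rfl, -⟩ := Tri.triangle hs1 hs2 hs3 hx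
  have hcnt : 2 ^ 11 * 244823040 ≤ Nat.card (Subgroup.normalizer (A : Set G)) := by
    rw [← S.orbit_count hAe hAc hzA, (l.pr_values S hAe hAc hA).2.2.2]
    have := Nat.mul_le_mul_left 1771 (l.card_HC S hAe hAc hA)
    omega
  obtain ⟨ρ, hsur, -, hdes⟩ := m.exists_hom hAe hAc (fun y hy => l.cen_A S hAe hAc hA hy) hcnt
  have hidx : ((Subgroup.centralizer ({z} : Set G)).subgroupOf (Subgroup.normalizer (A : Set G))).index = 1771 := by
    have h := S.orbit_count hAe hAc hzA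
    rw [(l.pr_values S hAe hAc hA).2.2.2, ← Subgroup.card_mul_index
      ((Subgroup.centralizer ({z} : Set G)).subgroupOf (Subgroup.normalizer (A : Set G))), mul_comm] at h
    exact (Nat.eq_of_mul_eq_mul_left Nat.card_pos h).symm
  obtain ⟨-, hnormQ⟩ : True ∧ Q ≤ Subgroup.normalizer (A : Set G) := ⟨trivial, S.norm_big hAe hAc hzA⟩
  obtain ⟨⟨y, hy, hyA, hyn⟩, hd1, hd2⟩ := m.corners hAe hzA ρ hsur hdes hidx hab hac hbc P.CE
    (by rw [hs1e, hs2e]; exact fun y hy => P.mem_CE.2 hy)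
  rw [hs1e] at hd1
  rw [hs2e] at hd2
  exact ⟨t, t', A, ψ, a, b, c, P, hab, hac, hbc, m, hAe, hs1e.symm, hs2e.symm, hnormQ,
    fun σ hσ => by
      obtain ⟨n, hn⟩ := hsur ⟨σ, hσ⟩
      exact ⟨n, n.2, by have := hdes n; rwa [hn] at this⟩,
    fun n hn => ⟨_, (ρ ⟨n, hn⟩).2, hdes ⟨n, hn⟩⟩,
    ⟨y, hy, congrArg Subtype.val (hAe.1.is_comm.comm (⟨_, hyA⟩ : A) ⟨z, hzA⟩), hyn⟩, hd1, hd2⟩

end Cfsg.Agent.Spor.LFT
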