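import Cfsg.Agent.Lib.Spor.LFTLine

/-!
Large Fischer type: the centraliser of the scalar element of order three is a perfect group 6.U4(3).
The central involution lies in its derived subgroup: otherwise the intersection of two adjacent
extraspecial subgroups would have a hyperplane invariant under the stabiliser of the line.
-/

set_option autoImplicit false
set_option maxRecDepth 100000
set_option linter.unusedSectionVars false

namespace Cfsg.Agent.Spor.LFT

open Cfsg.Agent.Spor.SUSix (V6 code code_lt vecOf_code)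
open Cfsg.Agent.Spor.SpFour (F4)
open Cfsg.Agent.Spor.Large (XT Pair)
open scoped commutatorElement

attribute [local irreducible] KerB phiA phiB CmpS Cmp

universe u

variable {G : Type u} [Group G] [Finite G] {z : G} {Q N M : Subgroup G}
variable (S : Setup z Q N M) (f : Frame z Q M) {x : Subgroup.centralizer ({z} : Set G)}

/-- the centraliser of the element of order three -/
abbrev Kx (x : Subgroup.centralizer ({z} : Set G)) : Subgroup (Subgroup.centralizer ({z} : Set G)) :=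
  Subgroup.centralizer ({x} : Set (Subgroup.centralizer ({z} : Set G)))

/-- the product of the three conjugates -/
def eta (x : G) (w : G) : G := w * (x * w * x⁻¹) * (x * (x * w * x⁻¹) * x⁻¹)

theorem mem_Kx {c : Subgroup.centralizer ({z} : Set G)} : c ∈ Kx x ↔ Commute c x :=
  Subgroup.mem_centralizer_singleton_iff

include S

theorem Xel.map_Kx (X : Xel f x) : (Kx x).map f.π = Kp := by
  refine le_antisymm ?_ fun p hp => ?_
  · rintro _ ⟨c, hc, rfl⟩
    exact X.Kp_of_comm S f (mem_Kx.1 hc)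
  · obtain ⟨c, hc, e⟩ := X.lift S f hp
    exact ⟨c, mem_Kx.2 hc, e⟩

/-- the central involution as an element of the centraliser -/
theorem Setup.zC_mem : z ∈ Subgroup.centralizer ({z} : Set G) := Subgroup.mem_centralizer_singleton_iff.2 rfl

theorem Xel.dich (X : Xel f x) {c : Subgroup.centralizer ({z} : Set G)} (hc : c ∈ Kx x) :
    c ∈ ⁅Kx x, Kx x⁆ ∨ c * ⟨z, S.zC_mem⟩ ∈ ⁅Kx x, Kx x⁆ := by
  have hD : (⁅Kx x, Kx x⁆).map f.π = Kp := by
    rw [Subgroup.map_commutator, X.map_Kx S f, perfect_Kp]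
  obtain ⟨d, hd, e⟩ : f.π c ∈ (⁅Kx x, Kx x⁆).map f.π := hD.symm ▸ X.Kp_of_comm S f (mem_Kx.1 hc)
  have hdK : d ∈ Kx x := (Subgroup.commutator_le_self (Kx x)) hd
  have h1 : ((d⁻¹ * c : Subgroup.centralizer ({z} : Set G)) : G) ∈ Q :=
    (f.ker _).1 (by rw [map_mul, map_inv, e, inv_mul_cancel])
  rcases X.ker S f h1 (congrArg Subtype.val (mem_Kx.1 (mul_mem (inv_mem hdK) hc)).eq) with e' | e'
  · left
    rw [show c = d from (inv_mul_eq_one.1 (Subtype.ext e' : d⁻¹ * c = 1)).symm]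
    exact hd
  · right
    have h2 : c = d * ⟨z, S.zC_mem⟩ := eq_mul_of_inv_mul_eq (Subtype.ext e')
    rw [h2, mul_assoc, show (⟨z, S.zC_mem⟩ : Subgroup.centralizer ({z} : Set G)) * ⟨z, S.zC_mem⟩ = 1 from
      Subtype.ext S.hyp.xt.sq, mul_one]
    exact hd

theorem Setup.adjust {g : G} (hgQ : g * z * g⁻¹ ∈ Q) (hne : g * z * g⁻¹ ≠ z) :
    ∃ y ∈ Q, y * (g * z * g⁻¹) * y⁻¹ = g * z * g⁻¹ * z := by
  obtain ⟨y, hy, hyn⟩ : ∃ y ∈ Q, ¬ Commute y (g * z * g⁻¹) := by
    by_contra hno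
    push Not at hno
    rcases S.hyp.xt.eq_of_cen _ hgQ (fun q hq => (hno q hq).symm) with e | e
    · exact (S.xtc g).ne e
    · exact hne e
  exact ⟨y, hy, S.hyp.xt.move hy hgQ hyn⟩

/-- the intersection of adjacent extraspecial subgroups as a set of vectors -/
theorem Setup.inter_vec {g : G} (hgQ : g * z * g⁻¹ ∈ Q) (hne : g * z * g⁻¹ ≠ z)
    (hv : f.vec (g * z * g⁻¹) = vb) :
    f.vec '' ((Q ⊓ Qc Q g : Subgroup G) : Set G) = {v | Chk.fCond (code v) = true} := by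
  have P := S.pair hgQ hne
  obtain ⟨-, hR⟩ := S.core f hgQ hne hv
  obtain ⟨-, hW, -⟩ := S.pair_struct f hgQ hne
  refine Set.eq_of_subset_of_ncard_le ?_ (le_of_eq ?_) (Set.toFinite _)
  · rintro _ ⟨w, ⟨hwQ, hw⟩, rfl⟩
    refine fCond_of fun r hr => ?_
    obtain ⟨e, he, rfl⟩ : r ∈ f.R g := hR ▸ hr
    rw [← f.vec_conj e w hwQ]
    rcases P.xt'.comm e (mem_EC.1 he) w hw with h | h
    · exact Or.inl (congrArg f.vec h)
    · exact Or.inr (by rw [h, f.vec_mul w hwQ _ hgQ, hv])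
  · rw [count_code Chk.fCond Chk.f_count]
    have := S.vecCard f (Q ⊓ Qc Q g) inf_le_left ⟨S.hyp.xt.mem, P.mem⟩
    rw [hW] at this
    omega

theorem Xel.exists_line (X : Xel f x) : ∃ g : G, g * z * g⁻¹ ∈ Q ∧ g * z * g⁻¹ ≠ z ∧
    f.vec (g * z * g⁻¹) = vb ∧
    (x : G) * ((x : G) * (g * z * g⁻¹) * (x : G)⁻¹) * (x : G)⁻¹ =
      g * z * g⁻¹ * ((x : G) * (g * z * g⁻¹) * (x : G)⁻¹) := by
  have hxz : Commute (x : G) z := Subgroup.mem_centralizer_singleton_iff.1 x.2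
  obtain ⟨g0, hgQ0, hne0⟩ := S.hyp.nwc
  obtain ⟨-, -, p, hp, hpv, -⟩ := S.pair_struct f hgQ0 hne0
  obtain ⟨c, hc⟩ := f.surj _ (inv_mem hp)
  have hcz : Commute (c : G) z := Subgroup.mem_centralizer_singleton_iff.1 c.2
  obtain ⟨g, hgQ, hne, hv⟩ : ∃ g : G, g * z * g⁻¹ ∈ Q ∧ g * z * g⁻¹ ≠ z ∧ f.vec (g * z * g⁻¹) = vb := by
    refine ⟨(c : G) * g0, ?_⟩
    rw [show (c : G) * g0 * z * ((c : G) * g0)⁻¹ = (c : G) * (g0 * z * g0⁻¹) * (c : G)⁻¹ by group]
    refine ⟨S.hyp.normQ c hcz _ hgQ0, fun h => hne0 (mul_left_cancel (mul_right_cancel (h.trans ?_))), ?_⟩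
    · rw [hcz.eq, mul_inv_cancel_right]
    · rw [f.vec_conj c _ hgQ0, hc, ← hpv]
      exact p.symm_apply_apply vb
  set s := g * z * g⁻¹ with hs
  set s' := (x : G) * s * (x : G)⁻¹ with hs'
  have hs'Q : s' ∈ Q := S.hyp.normQ x hxz s hgQ
  have hs''Q : (x : G) * s' * (x : G)⁻¹ ∈ Q := S.hyp.normQ x hxz s' hs'Q
  have hvv : f.vec ((x : G) * s' * (x : G)⁻¹) = f.vec (s * s') := by
    rw [X.vec f hs'Q, f.vec_mul s hgQ s' hs'Q, hs', X.vec f hgQ, hv]
    decide +kernel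
  rcases (f.vec_eq _ hs''Q _ (mul_mem hgQ hs'Q)).1 hvv with e | e
  · exact ⟨g, hgQ, hne, hv, e.symm⟩
  · obtain ⟨y, hy, hys⟩ := S.adjust hgQ hne
    refine ⟨y * g, ?_⟩
    rw [show y * g * z * (y * g)⁻¹ = y * s * y⁻¹ by rw [hs]; group, hys]
    have hxc : (x : G) * (s * z) * (x : G)⁻¹ = s' * z := by
      rw [← conj_mul, hxz.eq, mul_inv_cancel_right]
    refine ⟨mul_mem hgQ S.hyp.xt.mem, fun h => (S.xtc g).ne (mul_eq_right.1 h), ?_, ?_⟩
    · rw [f.vec_mul s hgQ z S.hyp.xt.mem, f.vec_z S, add_zero, hv]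
    · rw [hxc, ← conj_mul, hxz.eq, mul_inv_cancel_right]
      rw [show s * z * (s' * z) = s * s' by
        rw [mul_assoc, ← mul_assoc z, (S.hyp.xt.cen s' hs'Q).eq, mul_assoc s', S.hyp.xt.sq, mul_one]]
      exact e.symm

/-- non-splitness -/
theorem Xel.z_derived (X : Xel f x) : (⟨z, S.zC_mem⟩ : Subgroup.centralizer ({z} : Set G)) ∈ ⁅Kx x, Kx x⁆ := by
  by_contra hzD
  set DG := (⁅Kx x, Kx x⁆).map (Subgroup.centralizer ({z} : Set G)).subtype with hDG
  have hzDG : z ∉ DG := by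
    rintro ⟨d, hd, e⟩
    exact hzD ((show d = ⟨z, S.zC_mem⟩ from Subtype.ext e) ▸ hd)
  obtain ⟨g, hgQ, hne, hv, hline⟩ := X.exists_line S f
  set xg : G := (x : G) with hxg
  have hxz : Commute xg z := Subgroup.mem_centralizer_singleton_iff.1 x.2
  set s := g * z * g⁻¹ with hs
  set g1 := xg * g with hg1
  set g2 := xg * g1 with hg2
  set s' := xg * s * xg⁻¹ with hs'
  have hz1 : g1 * z * g1⁻¹ = s' := by rw [hg1, hs', hs]; group
  have hz2 : g2 * z * g2⁻¹ = xg * s' * xg⁻¹ := by rw [hg2, ← hz1]; group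
  have P := S.pair hgQ hne
  set A := Q ⊓ Qc Q g with hA
  have hAv := S.inter_vec f hgQ hne hv
  have hzA : z ∈ A := ⟨S.hyp.xt.mem, P.mem⟩
  have hsA : s ∈ A := ⟨hgQ, P.xt'.mem⟩
  have hs'Q : s' ∈ Q := S.hyp.normQ xg hxz s hgQ
  have hs'v : f.vec s' = F4.w • vb := by rw [hs', X.vec f hgQ, hv]
  have hAzc : ∀ v, Chk.fCond (code v) = true → ∀ q ∈ Q, f.vec q = v → q ∈ A := by
    intro v hv' q hq hqv
    obtain ⟨a, ha, e⟩ : v ∈ f.vec '' (A : Set G) := hAv ▸ hv'
    rcases (f.vec_eq a ha.1 q hq).1 (e.trans hqv.symm) with e' | e' <;> rw [e']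
    exacts [ha, mul_mem ha hzA]
  have hs'A : s' ∈ A := hAzc _ (by rw [show code (F4.w • vb) = 170 by decide +kernel]; exact Chk.f_cert.1) _ hs'Q hs'v
  have hs''A : xg * s' * xg⁻¹ ∈ A := hline ▸ mul_mem hsA hs'A
  have hzs' : Commute z s' := S.hyp.xt.cen s' hs'Q
  have hzs : Commute z s := S.hyp.xt.cen s hgQ
  have hss' : Commute s s' := P.inter_comm hsA hs'A
  have hs1 : s ≠ s' := fun e => by
    have := hs'v
    rw [← e, hv] at this
    exact absurd this (by decide +kernel)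
  have hs'1 : s' * s' = 1 := P.inter_square hs'A
  have hsg1 : s ∈ Qc Q g1 := by
    have h := Qc_conj xg (w := xg * s' * xg⁻¹) (g := g) hs''A.2
    rwa [show xg * (xg * s' * xg⁻¹) * xg⁻¹ = s from X.cubeG f s] at h
  have hQ3 : Qc Q (xg * g2) = Qc Q g := S.Qc_eq (by
    rw [show xg * g2 * z * (xg * g2)⁻¹ = xg * (g2 * z * g2⁻¹) * xg⁻¹ by group, hz2]
    exact X.cubeG f s)
  -- the second intersection
  have hW2 : ∀ w, w ∈ Qc Q g → w ∈ Qc Q g1 → w ∈ Qc Q g2 := fun w h1 h2 =>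
    S.third (a := s) (b := s') hs.symm hz1 hs1 hs'A.2 hsg1 (by rw [hz2]; exact hline) h1 h2
  have hWx : ∀ w, w ∈ Qc Q g → w ∈ Qc Q g1 → xg * w * xg⁻¹ ∈ Qc Q g ∧ xg * w * xg⁻¹ ∈ Qc Q g1 := fun w h1 h2 =>
    ⟨hQ3 ▸ Qc_conj xg (hW2 w h1 h2), Qc_conj xg h1⟩
  -- the third conjugate through the involution
  obtain ⟨y, hy, hys⟩ := S.adjust (g := g1) (by rw [hz1]; exact hs'Q) (by
    rw [hz1]
    intro e
    have := hs'v
    rw [e, f.vec_z S] at this
    exact absurd this (by decide +kernel))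
  rw [hz1] at hys
  set k := y * g1 with hk
  have hkz : k * z * k⁻¹ = z * s' := by
    rw [hk, show y * g1 * z * (y * g1)⁻¹ = y * (g1 * z * g1⁻¹) * y⁻¹ by group, hz1, hys]
    exact hzs'.eq.symm
  have hzg1 : z ∈ Qc Q g1 := by
    have := Qc_conj xg P.mem
    rwa [hxz.eq, mul_inv_cancel_right] at this
  have hzs'ne : z ≠ s' := fun e => by
    have := hs'v
    rw [← e, f.vec_z S] at this
    exact absurd this (by decide +kernel)
  have hk3 : ∀ w, w ∈ Q → w ∈ Qc Q g1 → w ∈ Qc Q k := fun w h1 h2 =>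
    S.third (g := 1) (a := z) (b := s') (by group) hz1 hzs'ne (mem_Qc_one.2 hs'Q) hzg1 hkz (mem_Qc_one.2 h1) h2
  have hzk : z ∈ Qc Q k := hk3 z S.hyp.xt.mem hzg1
  have hsk : s ∈ Qc Q k := hk3 s hgQ hsg1
  obtain ⟨r, hr, hrs, hrz⟩ : ∃ r ∈ Qc Q k, Commute r s ∧ ¬ Commute r z := by
    by_contra hno
    push Not at hno
    have hsc : s ≠ k * z * k⁻¹ := fun e => by
      have h1 := congrArg f.vec e
      rw [hkz, f.vec_mul z S.hyp.xt.mem s' hs'Q, f.vec_z S, zero_add, hv, hs'v] at h1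
      exact absurd h1 (by decide +kernel)
    have e1 : k⁻¹ * g * z * (k⁻¹ * g)⁻¹ = k⁻¹ * s * k := by rw [hs]; group
    have Pk := S.pair (g := k⁻¹ * g) (by rw [e1]; exact mem_Qc.1 hsk) (fun h => hsc (by
      rw [e1] at h
      rw [← h]; group))
    have hcen := Pk.cent_in (q := k⁻¹ * z * k) (mem_Qc.1 hzk) (fun a ha hac => by
      rw [e1] at hac
      have h2 : k * a * k⁻¹ ∈ Qc Q k := by rw [mem_Qc]; simpa [mul_assoc] using ha
      have h3 := (Commute.conj_iff k).2 hac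
      rw [show k * (k⁻¹ * s * k) * k⁻¹ = s by group] at h3
      have h4 := (Commute.conj_iff k⁻¹).2 (hno _ h2 h3).symm
      rwa [show k⁻¹ * (k * a * k⁻¹) * k⁻¹⁻¹ = a by group, inv_inv] at h4)
    rw [e1] at hcen
    have hzz : ∀ a : G, k⁻¹ * z * k = k⁻¹ * a * k → z = a := fun a e => mul_left_cancel (mul_right_cancel e)
    rcases hcen with e | e | e | e
    · exact S.hyp.xt.ne (hzz 1 (by rw [e]; group))
    · have h5 : z = k * z * k⁻¹ := hzz _ (e.trans (by group))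
      rw [hkz, eq_comm, mul_eq_left] at h5
      rw [h5, mul_one] at hs'1
      exact (S.xtc g1).ne (hz1.trans h5)
    · exact hne (hzz s e).symm
    · have h5 : z = s * (k * z * k⁻¹) := hzz _ (e.trans (by group))
      rw [hkz, ← mul_assoc, ← hzs.eq, mul_assoc, eq_comm, mul_eq_left, mul_eq_one_iff_eq_inv,
        inv_eq_of_mul_eq_one_right hs'1] at h5
      exact hs1 h5
  have hrs' : r * s * r⁻¹ = s := by rw [hrs.eq, mul_inv_cancel_right]
  have hrz' : r * z * r⁻¹ = s' := by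
    rw [(S.xtc k).move hr hzk hrz, hkz, ← mul_assoc, S.hyp.xt.sq, one_mul]
  have hrs'' : r * s' * r⁻¹ = z := by
    have e : s' = z * (k * z * k⁻¹) := by rw [hkz, ← mul_assoc, S.hyp.xt.sq, one_mul]
    rw [e, ← conj_mul, hrz', ← ((S.xtc k).cen r hr).eq, mul_inv_cancel_right, hkz, hzs'.eq, ← mul_assoc,
      hs'1, one_mul]
  have hrQ : ∀ w ∈ Q, r * w * r⁻¹ ∈ Qc Q g1 := fun w hw => by
    rw [S.Qc_eq (g := g1) (k := r) (hz1.trans hrz'.symm)]
    have := Qc_conj r (mem_Qc_one.2 hw)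
    rwa [mul_one] at this
  have hrA : ∀ w ∈ A, r * w * r⁻¹ ∈ Qc Q g ∧ r * w * r⁻¹ ∈ Qc Q g1 := fun w hw =>
    ⟨S.Qc_norm hrs hw.2, hrQ w hw.1⟩
  have hAr : ∀ w, w ∈ Qc Q g → w ∈ Qc Q g1 → r⁻¹ * w * r ∈ A := fun w h1 h2 => by
    have h3 := S.Qc_norm hrs.inv_left h1
    rw [inv_inv] at h3
    rw [S.Qc_eq (g := g1) (k := r) (hz1.trans hrz'.symm), mem_Qc] at h2
    exact ⟨h2, h3⟩
  have hWcomm : ∀ a b, a ∈ Qc Q g → a ∈ Qc Q g1 → b ∈ Qc Q g → b ∈ Qc Q g1 → Commute a b := by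
    intro a b a1 a2 b1 b2
    have h := (Commute.conj_iff r).2 (P.inter_comm (hAr a a1 a2) (hAr b b1 b2))
    rwa [show r * (r⁻¹ * a * r) * r⁻¹ = a by group, show r * (r⁻¹ * b * r) * r⁻¹ = b by group] at h
  have hWz : ∀ a, a ∈ Qc Q g → a ∈ Qc Q g1 → Commute a z := fun a a1 a2 => hWcomm a z a1 a2 P.mem hzg1
  -- the map to the centraliser of the element of order three
  have heta_mem : ∀ a, a ∈ Qc Q g → a ∈ Qc Q g1 →
      ∃ hc : eta xg a ∈ (Subgroup.centralizer ({z} : Set G)), (⟨eta xg a, hc⟩ : (Subgroup.centralizer ({z} : Set G))) ∈ Kx x := by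
    intro a a1 a2
    obtain ⟨b1, b2⟩ := hWx a a1 a2
    obtain ⟨c1, c2⟩ := hWx _ b1 b2
    refine ⟨Subgroup.mem_centralizer_singleton_iff.2
      (((hWz a a1 a2).mul_left (hWz _ b1 b2)).mul_left (hWz _ c1 c2)), mem_Kx.2 (Subtype.ext ?_)⟩
    show eta xg a * xg = xg * eta xg a
    refine (mul_inv_eq_iff_eq_mul.1 ?_).symm
    show xg * eta xg a * xg⁻¹ = eta xg a
    rw [eta, ← conj_mul, ← conj_mul, X.cubeG f a, ((hWcomm a _ a1 a2 b1 b2).mul_right
      (hWcomm a _ a1 a2 c1 c2)).symm.eq, ← mul_assoc]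
  have heta_mul : ∀ a b, a ∈ Qc Q g → a ∈ Qc Q g1 → b ∈ Qc Q g → b ∈ Qc Q g1 →
      eta xg (a * b) = eta xg a * eta xg b := by
    intro a b a1 a2 b1 b2
    obtain ⟨p1, p2⟩ := hWx a a1 a2
    obtain ⟨q1, q2⟩ := hWx b b1 b2
    obtain ⟨u1, u2⟩ := hWx _ p1 p2
    obtain ⟨v1, v2⟩ := hWx _ q1 q2
    have cp := hWcomm b _ b1 b2 p1 p2
    have cu := (hWcomm b _ b1 b2 u1 u2).mul_left (hWcomm _ _ q1 q2 u1 u2)
    unfold eta
    rw [← conj_mul, ← conj_mul, cp.mul_mul_mul_comm, cu.mul_mul_mul_comm]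
  let U : G → Prop := fun w => w ∈ A ∧ eta xg (r * w * r⁻¹) ∈ DG
  have hUmul : ∀ a b, U a → U b → U (a * b) := by
    intro a b ha hb
    refine ⟨mul_mem ha.1 hb.1, ?_⟩
    rw [← conj_mul, heta_mul _ _ (hrA a ha.1).1 (hrA a ha.1).2 (hrA b hb.1).1 (hrA b hb.1).2]
    exact mul_mem ha.2 hb.2
  have heta_s : eta xg s = 1 := by
    show s * s' * (xg * s' * xg⁻¹) = 1
    rw [hline]
    exact P.inter_square (mul_mem hsA hs'A)
  have heta_s' : eta xg s' = 1 := by
    show s' * (xg * s' * xg⁻¹) * (xg * (xg * s' * xg⁻¹) * xg⁻¹) = 1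
    rw [X.cubeG f s, hline, hss'.eq, ← mul_assoc s' s' s, hs'1, one_mul]
    exact P.inter_square hsA
  have hUz : U z := ⟨hzA, by rw [hrz', heta_s']; exact one_mem _⟩
  have hUs' : ¬ U s' := fun h => hzDG (by
    have h2 := h.2
    rw [hrs''] at h2
    have e : eta xg z = z := by
      rw [eta, hxz.eq, mul_inv_cancel_right, hxz.eq, mul_inv_cancel_right, S.hyp.xt.sq, one_mul]
    rwa [e] at h2)
  have hdich : ∀ w ∈ A, U w ∨ eta xg (r * w * r⁻¹) * z ∈ DG := by
    intro w hw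
    obtain ⟨hc, hcK⟩ := heta_mem _ (hrA w hw).1 (hrA w hw).2
    rcases X.dich S f hcK with h | h
    · exact Or.inl ⟨hw, ⟨_, h, rfl⟩⟩
    · exact Or.inr ⟨_, h, rfl⟩
  have hnon : ∀ a b, a ∈ A → b ∈ A → ¬ U a → ¬ U b → U (a * b) := by
    intro a b ha hb na nb
    refine ⟨mul_mem ha hb, ?_⟩
    rw [← conj_mul, heta_mul _ _ (hrA a ha).1 (hrA a ha).2 (hrA b hb).1 (hrA b hb).2]
    obtain ⟨hc, -⟩ := heta_mem _ (hrA b hb).1 (hrA b hb).2
    have := mul_mem ((hdich a ha).resolve_left na) ((hdich b hb).resolve_left nb)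
    have hbz : Commute (eta xg (r * b * r⁻¹)) z := Subgroup.mem_centralizer_singleton_iff.1 hc
    rwa [mul_assoc, ← mul_assoc z, ← hbz.eq, mul_assoc (eta xg (r * b * r⁻¹)), S.hyp.xt.sq, mul_one] at this
  -- elements of the centraliser of the line
  have hfixK : ∀ c : (Subgroup.centralizer ({z} : Set G)), c ∈ Kx x → f.π c vb = vb → Commute (c : G) s ∧ Commute (c : G) s' := by
    intro c hc hcv
    have hcz : Commute (c : G) z := Subgroup.mem_centralizer_singleton_iff.1 c.2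
    have hcx : Commute (c : G) xg := congrArg Subtype.val (mem_Kx.1 hc).eq
    have hcQ := S.hyp.normQ c hcz s hgQ
    have hmove : ∀ a : G, (c : G) * (xg * a * xg⁻¹) * (c : G)⁻¹ = xg * ((c : G) * a * (c : G)⁻¹) * xg⁻¹ := fun a => by
      calc (c : G) * (xg * a * xg⁻¹) * (c : G)⁻¹ = ((c : G) * xg) * a * ((c : G) * xg)⁻¹ := by group
        _ = (xg * c) * a * (xg * (c : G))⁻¹ := by rw [hcx.eq]
        _ = _ := by group
    have h1 : (c : G) * s * (c : G)⁻¹ = s := by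
      rcases (f.vec_eq s hgQ _ hcQ).1 (by rw [f.vec_conj c s hgQ, hv, hcv]) with e | e
      · exact e
      · exfalso
        have h2 : (c : G) * s' * (c : G)⁻¹ = s' * z := by
          rw [hs', hmove, e, ← conj_mul, hxz.eq, mul_inv_cancel_right]
        have h3 : (c : G) * (xg * s' * xg⁻¹) * (c : G)⁻¹ = xg * s' * xg⁻¹ * z := by
          rw [hmove, h2, ← conj_mul, hxz.eq, mul_inv_cancel_right]
        rw [hline, ← conj_mul, e, h2, ← mul_assoc (s * z), mul_assoc s z, hzs'.eq, ← mul_assoc s, mul_assoc (s * s'),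
          S.hyp.xt.sq, mul_one] at h3
        exact S.hyp.xt.ne (mul_eq_left.1 h3.symm)
    refine ⟨mul_inv_eq_iff_eq_mul.1 h1, mul_inv_eq_iff_eq_mul.1 ?_⟩
    rw [hs', hmove, h1]
  -- the part of the extraspecial subgroup centralising the line
  have hC2 : ∀ q ∈ Q, Commute q s → Commute q s' →
      ∃ a ∈ A, ∃ b ∈ A, q = a * (xg * b * xg⁻¹) := by
    set C1 := Q ⊓ Subgroup.centralizer ({s} : Set G) with hC1
    set C2 := C1 ⊓ Subgroup.centralizer ({s'} : Set G) with hC2'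
    have half : ∀ a b : Subgroup G, a ≤ b → a ≠ b → 2 * Nat.card a ≤ Nat.card b := by
      intro a b hab hne'
      obtain ⟨t, ht⟩ := Subgroup.card_dvd_of_le hab
      rw [ht, mul_comm]
      refine Nat.mul_le_mul_left _ ?_
      by_contra hlt
      push Not at hlt
      refine hne' (Subgroup.eq_of_le_of_card_ge hab ?_)
      rw [ht]
      calc Nat.card a * t ≤ Nat.card a * 1 := Nat.mul_le_mul_left _ (by omega)
        _ = Nat.card a := mul_one _
    have h1 : 2 * Nat.card C1 ≤ 2 ^ 13 := S.hyp.cardQ ▸ half _ _ inf_le_left fun e => by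
      obtain ⟨y', hy', hys'⟩ := S.adjust hgQ hne
      have := (show y' ∈ C1 from e.symm ▸ hy').2
      rw [(Subgroup.mem_centralizer_singleton_iff.1 this), mul_inv_cancel_right] at hys'
      exact S.hyp.xt.ne (mul_eq_left.1 hys'.symm)
    have h2 : 2 * Nat.card C2 ≤ Nat.card C1 := half _ _ inf_le_left fun e => by
      have hcen := P.cent_in hs'Q fun a ha hac => by
        have ha2 : a ∈ C2 := e.symm ▸ (⟨ha, Subgroup.mem_centralizer_singleton_iff.2 hac⟩ : a ∈ C1)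
        exact (Subgroup.mem_centralizer_singleton_iff.1 ha2.2).symm
      have hbad : f.vec s' ≠ 0 ∧ f.vec s' ≠ vb := by rw [hs'v]; decide +kernel
      rcases hcen with e' | e' | e' | e' <;> rw [e'] at hbad
      · exact hbad.1 (f.vec_one S)
      · exact hbad.1 (f.vec_z S)
      · exact hbad.2 hv
      · exact hbad.2 (by rw [f.vec_mul _ hgQ z S.hyp.xt.mem, f.vec_z S, add_zero, hv])
    have h3 := S.vecCard f C2 (fun a ha => ha.1.1)
      ⟨⟨S.hyp.xt.mem, Subgroup.mem_centralizer_singleton_iff.2 hzs⟩, Subgroup.mem_centralizer_singleton_iff.2 hzs'⟩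
    have hmemC2 : ∀ a ∈ A, a * 1 ∈ C2 ∧ xg * a * xg⁻¹ ∈ C2 := by
      intro a ha
      refine ⟨by rw [mul_one]; exact ⟨⟨ha.1, Subgroup.mem_centralizer_singleton_iff.2 (P.inter_comm ha hsA)⟩,
        Subgroup.mem_centralizer_singleton_iff.2 (P.inter_comm ha hs'A)⟩, ⟨S.hyp.normQ xg hxz a ha.1, ?_⟩, ?_⟩ <;>
        refine Subgroup.mem_centralizer_singleton_iff.2 ?_
      · have h := (Commute.conj_iff xg).2 (P.inter_comm ha hs''A)
        rwa [X.cubeG f s] at h
      · exact (Commute.conj_iff xg).2 (P.inter_comm ha hsA)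
    have hrow : ∀ e : Fin 1024, Chk.fCond (code (combV Chk.rowA e.val)) = true ∧
        Chk.fCond (code (combV Chk.rowB e.val)) = true := by
      intro e
      have h := Chk.f_rows
      simp only [List.all_eq_true, List.mem_range, Bool.and_eq_true] at h
      obtain ⟨l1, l2⟩ := comb_lt e.val e.2
      rw [combV, combV, code_vecOf _ l1, code_vecOf _ l2]
      exact h e.val e.2
    have hin : ∀ e : Fin 1024, ∃ a ∈ A, ∃ b ∈ A,
        f.vec (a * (xg * b * xg⁻¹)) = combV Chk.rowA e.val + F4.w • combV Chk.rowB e.val := by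
      intro e
      obtain ⟨a, ha, ea⟩ : combV Chk.rowA e.val ∈ f.vec '' (A : Set G) := hAv ▸ (hrow e).1
      obtain ⟨b, hb, eb⟩ : combV Chk.rowB e.val ∈ f.vec '' (A : Set G) := hAv ▸ (hrow e).2
      exact ⟨a, ha, b, hb, by rw [f.vec_mul a ha.1 _ (S.hyp.normQ xg hxz b hb.1), X.vec f hb.1, ea, eb]⟩
    set T : Set V6 := Set.range fun e : Fin 1024 => combV Chk.rowA e.val + F4.w • combV Chk.rowB e.val
    have hT : T ⊆ f.vec '' (C2 : Set G) := by
      rintro _ ⟨e, rfl⟩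
      obtain ⟨a, ha, b, hb, h⟩ := hin e
      refine ⟨_, ?_, h⟩
      have := mul_mem (hmemC2 a ha).1 (hmemC2 b hb).2
      rwa [mul_one] at this
    have hTc : T.ncard = 1024 := by
      rw [Set.ncard_range_of_injective, Nat.card_eq_fintype_card, Fintype.card_fin]
      intro a b hab
      have := congrArg (fun v => code v / 4) hab
      simp only [comb_inj _ a.2, comb_inj _ b.2] at this
      exact Fin.ext this
    have hTeq : T = f.vec '' (C2 : Set G) :=
      Set.eq_of_subset_of_ncard_le hT (by rw [hTc]; norm_num at h1; omega) (Set.toFinite _)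
    intro q hq hqs hqs'
    obtain ⟨e, he⟩ : f.vec q ∈ T := hTeq ▸ ⟨q, ⟨⟨hq, Subgroup.mem_centralizer_singleton_iff.2 hqs⟩,
      Subgroup.mem_centralizer_singleton_iff.2 hqs'⟩, rfl⟩
    obtain ⟨a, ha, b, hb, h⟩ := hin e
    have hbQ := S.hyp.normQ xg hxz b hb.1
    rcases (f.vec_eq _ (mul_mem ha.1 hbQ) q hq).1 (h.trans he) with e' | e'
    · exact ⟨a, ha, b, hb, e'⟩
    · refine ⟨a * z, mul_mem ha hzA, b, hb, ?_⟩
      rw [e', mul_assoc a, ← (S.hyp.xt.cen _ hbQ).eq, ← mul_assoc]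
  -- invariance of the hyperplane
  have hUinv : ∀ c : (Subgroup.centralizer ({z} : Set G)), c ∈ Kx x → f.π c vb = vb → ∀ w, U w → U ((c : G) * w * (c : G)⁻¹) := by
    intro c hc hcv w hw
    obtain ⟨hcs, hcs'⟩ := hfixK c hc hcv
    have hcz : Commute (c : G) z := Subgroup.mem_centralizer_singleton_iff.1 c.2
    refine ⟨⟨S.hyp.normQ c hcz w hw.1.1, S.Qc_norm hcs hw.1.2⟩, ?_⟩
    set d := r * (c : G) * r⁻¹ with hd
    have hds : Commute d s := by
      have := (Commute.conj_iff r).2 hcs; rwa [hrs'] at this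
    have hds' : Commute d s' := by
      have := (Commute.conj_iff r).2 hcz; rwa [hrz'] at this
    have hdz : Commute d z := by
      have := (Commute.conj_iff r).2 hcs'; rwa [hrs''] at this
    let dC : (Subgroup.centralizer ({z} : Set G)) := ⟨d, Subgroup.mem_centralizer_singleton_iff.2 hdz⟩
    have hdv : f.π dC vb = vb := by
      rw [← hv, ← f.vec_conj dC s hgQ]
      exact congrArg f.vec (mul_inv_eq_iff_eq_mul.2 hds.eq)
    have hdv' : f.π dC (F4.w • vb) = F4.w • vb := by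
      rw [← hs'v, ← f.vec_conj dC s' hs'Q]
      exact congrArg f.vec (mul_inv_eq_iff_eq_mul.2 hds'.eq)
    obtain ⟨k2, hk2, hk2π⟩ := X.lift S f (fix_line_Kp ((S.range_pi f _).2 ⟨dC, rfl⟩) hdv hdv')
    obtain ⟨hks, hks'⟩ := hfixK k2 (mem_Kx.2 hk2) (by rw [hk2π]; exact hdv)
    have hqQ : d * (k2 : G)⁻¹ ∈ Q :=
      (f.ker (dC * k2⁻¹)).1 (by rw [map_mul, map_inv, hk2π, mul_inv_cancel])
    obtain ⟨a, ha, b, hb, hab⟩ := hC2 _ hqQ (hds.mul_left hks.inv_left) (hds'.mul_left hks'.inv_left)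
    set w0 := r * w * r⁻¹ with hw0
    obtain ⟨w1, w2⟩ := hrA w hw.1
    set v := (k2 : G) * w0 * (k2 : G)⁻¹ with hvdef
    have v1 : v ∈ Qc Q g := S.Qc_norm hks w1
    have v2 : v ∈ Qc Q g1 := S.Qc_norm (by rw [hz1]; exact hks') w2
    have hvD : eta xg v ∈ DG := by
      obtain ⟨e0, he0, he0'⟩ := hw.2
      refine ⟨k2 * e0 * k2⁻¹, ?_, ?_⟩
      · rw [← hw0] at he0'
        have := mul_mem (Subgroup.commutator_mem_commutator (mem_Kx.2 hk2)
          (Subgroup.commutator_le_self (Kx x) he0)) he0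
        rwa [commutatorElement_def, inv_mul_cancel_right] at this
      · show (k2 : G) * (e0 : G) * (k2 : G)⁻¹ = eta xg v
        rw [show (e0 : G) = eta xg w0 from he0']
        have hkx : Commute (k2 : G) xg := congrArg Subtype.val hk2.eq
        have hmv : ∀ t : G, (k2 : G) * (xg * t * xg⁻¹) * (k2 : G)⁻¹ = xg * ((k2 : G) * t * (k2 : G)⁻¹) * xg⁻¹ :=
          fun t => by
            calc (k2 : G) * (xg * t * xg⁻¹) * (k2 : G)⁻¹ = ((k2 : G) * xg) * t * ((k2 : G) * xg)⁻¹ := by group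
              _ = (xg * k2) * t * (xg * (k2 : G))⁻¹ := by rw [hkx.eq]
              _ = _ := by group
        unfold eta
        rw [← conj_mul, ← conj_mul, hmv, hmv, hmv]
    have heq : r * ((c : G) * w * (c : G)⁻¹) * r⁻¹ = (a * (xg * b * xg⁻¹)) * v * (a * (xg * b * xg⁻¹))⁻¹ := by
      rw [← hab, hvdef, hw0, hd]; group
    rw [heq, show a * (xg * b * xg⁻¹) * v * (a * (xg * b * xg⁻¹))⁻¹ =
      a * (xg * b * xg⁻¹ * v * (xg * b * xg⁻¹)⁻¹) * a⁻¹ by group]
    have hkeep : ∀ t u : G, t ∈ Qc Q g → t ∈ Qc Q g1 → eta xg t ∈ DG → u ∈ Qc Q g → u ∈ Qc Q g1 →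
        eta xg u = 1 → eta xg (t * u) ∈ DG := fun t u t1 t2 tD u1 u2 uD => by
      rw [heta_mul _ _ t1 t2 u1 u2, uD, mul_one]; exact tD
    have hs'g1 : s' ∈ Qc Q g1 := hz1 ▸ (S.xtc g1).mem
    have hbg1 : xg * b * xg⁻¹ ∈ Qc Q g1 := Qc_conj xg hb.2
    obtain ⟨v', hv'1, hv'2, hv'D, hv'e⟩ : ∃ v', v' ∈ Qc Q g ∧ v' ∈ Qc Q g1 ∧ eta xg v' ∈ DG ∧
        xg * b * xg⁻¹ * v * (xg * b * xg⁻¹)⁻¹ = v' := by
      rcases (S.xtc g1).comm _ hbg1 v v2 with e | e
      · exact ⟨v, v1, v2, hvD, e⟩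
      · exact ⟨v * s', mul_mem v1 hs'A.2, mul_mem v2 hs'g1, hkeep v s' v1 v2 hvD hs'A.2 hs'g1 heta_s',
          e.trans (congrArg (v * ·) hz1)⟩
    rw [hv'e]
    rcases (S.xtc g).comm a ha.2 v' hv'1 with e | e <;> rw [e]
    · exact hv'D
    · exact hkeep v' s hv'1 hv'2 hv'D hsA.2 hsg1 heta_s
  -- contradiction
  have hkey : ∀ c : (Subgroup.centralizer ({z} : Set G)), c ∈ Kx x → f.π c vb = vb → ∀ w ∈ A, U ((c : G) * w * (c : G)⁻¹ * w) := by
    intro c hc hcv w hw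
    have hcA : (c : G) * w * (c : G)⁻¹ ∈ A :=
      ⟨S.hyp.normQ c (Subgroup.mem_centralizer_singleton_iff.1 c.2) w hw.1, S.Qc_norm (hfixK c hc hcv).1 hw.2⟩
    by_cases hU : U w
    · exact hUmul _ _ (hUinv c hc hcv w hU) hU
    · refine hnon _ _ hcA hw (fun h => hU ?_) hU
      have hcv' : f.π c⁻¹ vb = vb := by
        rw [map_inv, Equiv.Perm.inv_eq_iff_eq, hcv]
      have := hUinv c⁻¹ (inv_mem hc) hcv' _ h
      simpa [mul_assoc] using this
  obtain ⟨c0, hc0, hc0π⟩ := X.lift S f (gB_mem 0).1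
  obtain ⟨c1, hc1, hc1π⟩ := X.lift S f (gB_mem 1).1
  obtain ⟨w1, hw1, hw1v⟩ : SUSix.vecOf 17 ∈ f.vec '' (A : Set G) := hAv ▸ (by
    show Chk.fCond (code (SUSix.vecOf 17)) = true
    rw [code_vecOf _ (by norm_num)]; exact Chk.f_cert.2.1)
  obtain ⟨w2, hw2, hw2v⟩ : SUSix.vecOf 5 ∈ f.vec '' (A : Set G) := hAv ▸ (by
    show Chk.fCond (code (SUSix.vecOf 5)) = true
    rw [code_vecOf _ (by norm_num)]; exact Chk.f_cert.2.2.1)
  have u1 := hkey c0 (mem_Kx.2 hc0) (by rw [hc0π]; exact fixB.1 0) w1 hw1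
  have u2 := hkey c1 (mem_Kx.2 hc1) (by rw [hc1π]; exact fixB.1 1) w2 hw2
  have u := hUmul _ _ u1 u2
  have hn0 := S.hyp.normQ c0 (Subgroup.mem_centralizer_singleton_iff.1 c0.2) w1 hw1.1
  have hn1 := S.hyp.normQ c1 (Subgroup.mem_centralizer_singleton_iff.1 c1.2) w2 hw2.1
  have hvec : f.vec ((c0 : G) * w1 * (c0 : G)⁻¹ * w1 * ((c1 : G) * w2 * (c1 : G)⁻¹ * w2)) = f.vec s' := by
    rw [f.vec_mul _ (mul_mem hn0 hw1.1) _ (mul_mem hn1 hw2.1), f.vec_mul _ hn0 _ hw1.1, f.vec_mul _ hn1 _ hw2.1,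
      f.vec_conj c0 w1 hw1.1, f.vec_conj c1 w2 hw2.1, hc0π, hc1π, hw1v, hw2v, hs'v]
    refine code_inj ?_
    rw [code_add, code_add, code_add]
    show code (act (wd (Dat.wordB.getD 0 [])) _) ^^^ _ ^^^ (code (act (wd (Dat.wordB.getD 1 [])) _) ^^^ _) = _
    rw [wd_code _ (wordBK_lt 0 (by norm_num)).1, wd_code _ (wordBK_lt 1 (by norm_num)).1,
      code_vecOf _ (by norm_num), code_vecOf _ (by norm_num)]
    exact Chk.f_cert.2.2.2.trans (by decide +kernel)
  rcases (f.vec_eq _ u.1.1 s' hs'Q).1 hvec with e | e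
  · exact hUs' (e ▸ u)
  · exact hUs' (e ▸ hUmul _ _ u hUz)

/-- the centraliser of the element of order three -/
theorem Xel.main (X : Xel f x) : Cfsg.IsQuasisimple ↥(Kx x) ∧ IsCyclic ↥(Subgroup.center ↥(Kx x)) ∧
    Nat.card ↥(Subgroup.center ↥(Kx x)) = 6 ∧
    ∃ (K : Type) (_ : Field K) (_ : Fintype K), Fintype.card K = 9 ∧
      Nonempty (↥(Kx x) ⧸ Subgroup.center ↥(Kx x) ≃* Cfsg.PSU 4 K 3) := by
  obtain ⟨F, iF, iFF, hF, hsimp, hcard⟩ := psu_facts
  obtain ⟨e4⟩ := U43.K1_iso F hF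
  let j : U43.K1 ≃* ↥Kp := Subgroup.equivMapOfInjective U43.K1 act act_inj
  let ψ : Kx x →* Cfsg.PSU 4 F 3 := (e4.toMonoidHom.comp (QuotientGroup.mk' _)).comp
    (j.symm.toMonoidHom.comp
      { toFun := fun c => (⟨f.π c, X.Kp_of_comm S f (mem_Kx.1 c.2)⟩ : ↥Kp)
        map_one' := Subtype.ext (map_one f.π)
        map_mul' := fun a b => Subtype.ext (map_mul f.π _ _) })
  have hψs : Function.Surjective ψ := by
    refine (e4.surjective.comp (QuotientGroup.mk'_surjective _)).comp (j.symm.surjective.comp ?_)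
    rintro ⟨p, hp⟩
    obtain ⟨c, hc, e⟩ := X.lift S f hp
    exact ⟨⟨c, mem_Kx.2 hc⟩, Subtype.ext e⟩
  have hxK : x ∈ Kx x := mem_Kx.2 (Commute.refl x)
  set zC : Subgroup.centralizer ({z} : Set G) := ⟨z, S.zC_mem⟩ with hzC
  have hzcen : ∀ c, Commute zC c := fun c =>
    Subtype.ext (Subgroup.mem_centralizer_singleton_iff.1 c.2).symm
  have hzx : Commute zC x := hzcen x
  have hxo : orderOf x = 3 := by
    haveI : Fact (Nat.Prime 3) := ⟨Nat.prime_three⟩
    refine orderOf_eq_prime X.cube fun e => ?_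
    have h := X.img (Pi.single 0 1)
    rw [e, map_one] at h
    exact absurd h (by decide +kernel)
  have hzo : orderOf zC = 2 := orderOf_eq_prime (Subtype.ext (by
    show ((zC ^ 2 : Subgroup.centralizer ({z} : Set G)) : G) = 1
    rw [SubmonoidClass.coe_pow, pow_two]; exact S.hyp.xt.sq)) fun e => S.hyp.xt.ne (congrArg Subtype.val e)
  set w : Kx x := ⟨x * zC, mul_mem hxK (mem_Kx.2 hzx)⟩ with hw
  have hwo : orderOf w = 6 := by
    rw [← Subgroup.orderOf_coe, hw, hzx.symm.orderOf_mul_eq_mul_orderOf_of_coprime (by rw [hxo, hzo]; decide),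
      hxo, hzo]
  have hscal : f.π x = act (SUSix.scalSU F4.w (by decide +kernel)) := Equiv.ext fun v => by
    rw [X.img, act_scal]
  have hψ : ∀ c : Kx x, ψ c = 1 ↔ c ∈ Subgroup.zpowers w := by
    intro c
    constructor
    · intro hc
      show c ∈ Subgroup.zpowers w
      have h1 : (e4 (QuotientGroup.mk (j.symm ⟨f.π c, X.Kp_of_comm S f (mem_Kx.1 c.2)⟩))) = 1 := hc
      rw [MulEquiv.map_eq_one_iff, QuotientGroup.eq_one_iff, U43.center_K1, Subgroup.mem_subgroupOf] at h1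
      set A := j.symm ⟨f.π c, X.Kp_of_comm S f (mem_Kx.1 c.2)⟩ with hA
      have hAc : f.π (c : Subgroup.centralizer ({z} : Set G)) = act (A : SUSix.G6) :=
        (congrArg Subtype.val (j.apply_symm_apply ⟨f.π c, X.Kp_of_comm S f (mem_Kx.1 c.2)⟩)).symm
      obtain ⟨a, ha0, ha⟩ := U43.center_scal h1
      obtain ⟨i, hi⟩ : ∃ i : ℕ, i < 3 ∧ F4.w ^ i = a := by
        clear ha
        revert ha0
        revert a
        decide +kernel
      have hpow : ∀ n : ℕ, ∀ v, f.π (x ^ n) v = F4.w ^ n • v := by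
        intro n
        induction n with
        | zero => intro v; rw [pow_zero, map_one, pow_zero, one_smul]; rfl
        | succ n ih => intro v; rw [pow_succ, map_mul, Equiv.Perm.mul_apply, X.img, ih, pow_succ, mul_smul]
      have hker : ((x ^ i)⁻¹ * c.1 : Subgroup.centralizer ({z} : Set G)).1 ∈ Q := by
        refine (f.ker _).1 ?_
        rw [map_mul, map_inv, inv_mul_eq_one]
        refine Equiv.ext fun v => ?_
        rw [hpow, hAc, act_apply, ha, hi.2]
        funext k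
        rw [SUSix.scal, Matrix.mulVec_diagonal]
        rfl
      have hx2 : (x : Subgroup.centralizer ({z} : Set G)) = (x * zC) ^ 4 := by
        rw [hzx.symm.mul_pow, show 4 = 3 + 1 from rfl, pow_succ x 3, X.cube, one_mul,
          show 3 + 1 = orderOf zC * 2 by rw [hzo], pow_mul, pow_orderOf_eq_one, one_pow, mul_one]
      have hz2 : zC = (x * zC) ^ 3 := by
        rw [hzx.symm.mul_pow, X.cube, one_mul, pow_succ, ← hzo, pow_orderOf_eq_one, one_mul]
      have hcx : Commute ((x ^ i)⁻¹ * c.1) x :=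
        ((Commute.refl x).pow_left i).inv_left.mul_left (mem_Kx.1 c.2)
      rcases X.ker S f hker (congrArg Subtype.val hcx.eq) with e | e
      · refine ⟨(4 * i : ℕ), ?_⟩
        show w ^ ((4 * i : ℕ) : ℤ) = c
        rw [zpow_natCast]
        refine Subtype.ext ?_
        rw [SubmonoidClass.coe_pow, pow_mul, show (w : Subgroup.centralizer ({z} : Set G)) = x * zC from rfl, ← hx2]
        exact inv_mul_eq_one.1 (Subtype.ext e)
      · refine ⟨(4 * i + 3 : ℕ), ?_⟩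
        show w ^ ((4 * i + 3 : ℕ) : ℤ) = c
        rw [zpow_natCast]
        refine Subtype.ext ?_
        rw [SubmonoidClass.coe_pow, pow_add, pow_mul, show (w : Subgroup.centralizer ({z} : Set G)) = x * zC from rfl,
          ← hx2, ← hz2]
        exact (eq_mul_of_inv_mul_eq (Subtype.ext e)).symm
    · intro hc
      obtain ⟨n, rfl⟩ := hc
      have h1 : ψ w = 1 := by
        show e4 (QuotientGroup.mk (j.symm ⟨f.π (x * zC), _⟩)) = 1
        rw [MulEquiv.map_eq_one_iff, QuotientGroup.eq_one_iff, U43.center_K1, Subgroup.mem_subgroupOf]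
        have hz1 : f.π zC = 1 := (f.ker zC).2 S.hyp.xt.mem
        have : j.symm ⟨f.π (x * zC), X.Kp_of_comm S f (mem_Kx.1 w.2)⟩ =
            (⟨SUSix.scalSU F4.w (by decide +kernel), scal_mem F4.w (by decide +kernel)⟩ : U43.K1) := by
          rw [MulEquiv.symm_apply_eq]
          refine Subtype.ext ?_
          show f.π (x * zC) = act _
          rw [map_mul, hz1, mul_one, hscal]
        rw [this]
        exact SUSix.ker_le_center (SUSix.scalSU_mem_ker F4.w (by decide +kernel))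
      show ψ (w ^ n) = 1
      rw [map_zpow, h1, one_zpow]
  haveI := hsimp
  have hnc : Subgroup.center (Cfsg.PSU 4 F 3) = ⊥ := by
    refine (IsSimpleGroup.eq_bot_or_eq_top_of_normal (Subgroup.center _) inferInstance).resolve_right fun ht => ?_
    letI : CommGroup (Cfsg.PSU 4 F 3) := { (inferInstance : Group (Cfsg.PSU 4 F 3)) with
      mul_comm := fun a b => Subgroup.mem_center_iff.1 (ht ▸ Subgroup.mem_top b) a }
    have := IsSimpleGroup.prime_card (α := Cfsg.PSU 4 F 3)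
    rw [hcard] at this
    exact three_prime this
  have hcen : Subgroup.center (Kx x) = ψ.ker := by
    refine le_antisymm (fun c hc => ?_) ?_
    · rw [MonoidHom.mem_ker, ← Subgroup.mem_bot, ← hnc, Subgroup.mem_center_iff]
      intro u
      obtain ⟨a, rfl⟩ := hψs u
      rw [← map_mul, ← map_mul, Subgroup.mem_center_iff.1 hc a]
    · intro c hc
      rw [MonoidHom.mem_ker, hψ] at hc
      refine (Subgroup.zpowers_le.2 (Subgroup.mem_center_iff.2 fun a => Subtype.ext ?_)) hc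
      exact ((mem_Kx.1 a.2).mul_right (hzcen a.1).symm).eq
  have hzp : Subgroup.center (Kx x) = Subgroup.zpowers w := hcen.trans (Subgroup.ext fun c => hψ c)
  let eq4 : ↥(Kx x) ⧸ Subgroup.center ↥(Kx x) ≃* Cfsg.PSU 4 F 3 :=
    (QuotientGroup.quotientMulEquivOfEq hcen).trans (QuotientGroup.quotientKerEquivOfSurjective ψ hψs)
  refine ⟨⟨⟨?_⟩, eq4.isSimpleGroup_congr.mpr inferInstance⟩, hzp ▸ inferInstance, ?_, F, iF, iFF, hF, ⟨eq4⟩⟩
  · refine Subgroup.map_injective (Kx x).subtype_injective ?_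
    rw [commutator_def, Subgroup.map_commutator, ← MonoidHom.range_eq_map, Subgroup.range_subtype]
    refine le_antisymm (Subgroup.commutator_le_self _) fun c hc => ?_
    rcases X.dich S f hc with h | h
    · exact h
    · have h2 := mul_mem h (inv_mem (X.z_derived S f))
      rwa [mul_inv_cancel_right] at h2
  · rw [hzp, Nat.card_zpowers, hwo]

end Cfsg.Agent.Spor.LFT
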