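import Cfsg.Agent.Lib.Spor.PermCert
import Cfsg.Agent.Lib.Spor.LFTData

/-!
Checks on the orbits of 3.U4(3) on isotropic vectors, on codes of vectors.
-/

set_option autoImplicit false

namespace Cfsg.Agent.Spor.LFT.Chk

open Dat Cfsg.Agent.Spor.CC

/-- bit test -/
def tb (m j : ℕ) : Bool := Nat.beq (Nat.land (Nat.shiftRight m j) 1) 1

/-- linear extension of the images of the units -/
def appA : List ℕ → ℕ → ℕ → ℕ
  | [], _, r => r
  | c :: L, k, r => appA L (Nat.shiftRight k 1) (bif tb k 0 then Nat.xor r c else r)

/-- the image of a vector -/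
def app (L : List ℕ) (k : ℕ) : ℕ := appA L k 0

/-- coordinate -/
def digit (k i : ℕ) : ℕ := Nat.land (Nat.shiftRight k (Nat.mul 2 i)) 3

/-- number of nonzero coordinates -/
def wt (k : ℕ) : ℕ := ((List.range 6).filter fun i => !Nat.beq (digit k i) 0).length

/-- product of the coordinates has discrete logarithm zero -/
def prodOne (k : ℕ) : Bool :=
  Nat.beq (((List.range 6).foldl (fun s i => Nat.add s (Nat.sub (digit k i) 1)) 0) % 3) 0

/-- the shorter orbit -/
def isA (k : ℕ) : Bool := Nat.beq (wt k) 2 || (Nat.beq (wt k) 6 && prodOne k)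

/-- nonzero isotropic -/
def isI (k : ℕ) : Bool := !Nat.beq k 0 && Nat.beq (wt k % 2) 0

/-- generators and outer candidates -/
def gn (s : ℕ) : List ℕ := colD.getD s []

/-- outer candidates -/
def en (s : ℕ) : List ℕ := colE.getD s []

/-- one step of the orbit trees -/
def treeOK (k : ℕ) : Bool :=
  !isI k || Nat.beq k 5 || Nat.beq k 85 ||
    (Nat.blt (fld treeG 16 k) 6 && Nat.blt (fld treeP 16 k) 4096 &&
      Nat.beq (app (gn (fld treeG 16 k)) (fld treeP 16 k)) k &&
      Nat.blt (fld treeD 16 (fld treeP 16 k)) (fld treeD 16 k) &&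
      isI (fld treeP 16 k) && (isA (fld treeP 16 k) == isA k))

/-- invariance of the shorter orbit under one map -/
def invOK1 (L : List ℕ) (k : ℕ) : Bool := (isA (app L k) == isA k) && (isI (app L k) == isI k)

/-- invariance under all maps -/
def invOK (k : ℕ) : Bool := (colD ++ colE).all fun L => invOK1 L k

/-- mask of the five-sets -/
def mA (k : ℕ) : ℕ := fld maskA 32 k

/-- mask of the fifteen lines -/
def mB (k : ℕ) : ℕ := fld maskB 16 k

/-- value of a word -/
def evW (w : List ℕ) (k : ℕ) : ℕ := w.foldr (fun s y => app (gn s) y) k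

/-- a map is compatible with a permutation -/
def compOK (m : ℕ → ℕ) (n : ℕ) (img : ℕ → ℕ) (σ : List ℕ) (k : ℕ) : Bool :=
  (List.range n).all fun j => tb (m (img k)) (σ.getD j 0) == tb (m k) j

/-- the masks separate -/
def sepOK (m : ℕ → ℕ) (n : ℕ) (wit : List ℕ) : Bool :=
  (List.range n).all fun i => (List.range n).all fun j =>
    Nat.beq i j || wit.any fun k => tb (m k) i != tb (m k) j

/-- permutation list -/
def permOK (n : ℕ) (σ τ : List ℕ) : Bool :=
  (List.range n).all fun j => Nat.blt (σ.getD j 0) n && Nat.blt (τ.getD j 0) n &&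
    Nat.beq (τ.getD (σ.getD j 0) 0) j && Nat.beq (σ.getD (τ.getD j 0) 0) j

/-- number of a pair of distinct letters below six -/
def dnum (a b : ℕ) : ℕ :=
  bif Nat.blt a b then Nat.add (a * (11 - a) / 2) (Nat.sub b (Nat.add a 1))
  else Nat.add (b * (11 - b) / 2) (Nat.sub a (Nat.add b 1))

/-- first letter of a pair -/
def dfst (j : ℕ) : ℕ := [0, 0, 0, 0, 0, 1, 1, 1, 1, 2, 2, 2, 3, 3, 4].getD j 0

/-- second letter of a pair -/
def dsnd (j : ℕ) : ℕ := [1, 2, 3, 4, 5, 2, 3, 4, 5, 3, 4, 5, 4, 5, 5].getD j 0

/-- pair permutation -/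
def duad (s : List ℕ) : List ℕ := (List.range 15).map fun j => dnum (s.getD (dfst j) 0) (s.getD (dsnd j) 0)

/-- the fifteen permutations used -/
def permB (s : ℕ) : List ℕ := duad (perm6.getD s [])

/-- all compatibility checks for the first stabiliser at one vector -/
def compA (k : ℕ) : Bool :=
  compOK mA 27 (evW (wordA.getD 0 [])) (permA.getD 0 []) k &&
  compOK mA 27 (evW (wordA.getD 1 [])) (permA.getD 1 []) k &&
  compOK mA 27 (app (en 0)) (permA.getD 2 []) k

/-- compatibility of the four generators of the second stabiliser and of the outer candidates -/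
def compB (k : ℕ) : Bool :=
  ((List.range 4).all fun s => compOK mB 15 (evW (wordB.getD s [])) (permB s) k) &&
  ((List.range 3).all fun s => compOK mB 15 (app (en s)) (permB (Nat.add 4 s)) k) &&
  ((List.range 4).all fun s => compOK mB 15 (evW (wordK.getD s [])) (List.range 15) k)

/-- fixed base vectors -/
def fixOK : Bool :=
  (wordA.all fun w => Nat.beq (evW w 5) 5) && ((wordB ++ wordK).all fun w => Nat.beq (evW w 85) 85) &&
    (colE.all fun L => Nat.beq (app L 5) 5 && Nat.beq (app L 85) 85) && isI 5 && isI 85 && isA 5 && !isA 85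

/-- the conjugates by the outer element at a unit -/
def conjOK : Bool :=
  (List.range 6).all fun s => (List.range 12).all fun i =>
    Nat.beq (app (en 0) (app (gn s) (app (en 0) (Nat.pow 2 i)))) (evW (wordT.getD s []) (Nat.pow 2 i))

/-- subset products of the kernel generators -/
def kerImg (e : ℕ) : List ℕ :=
  (List.range 12).map fun i =>
    (List.range 4).foldl (fun y s => bif tb e s then evW (wordK.getD s []) y else y) (Nat.pow 2 i)

/-- sixteen different subset products -/
def kerOK : Bool := decide ((List.range 16).map kerImg).Nodup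

/-- value of a word of permutations -/
def evP (P : List (List ℕ)) (w : List ℕ) (u : ℕ) : ℕ := w.foldr (fun s y => (P.getD s []).getD y 0) u

/-- a stabiliser chain in permutations of the first `n` points -/
def chOK (P : List (List ℕ)) (n : ℕ) : List ℕ → List (ℕ × List (List ℕ)) → Bool
  | _, [] => true
  | done, (v, ws) :: rest =>
    Nat.blt v n && ws.all (fun w => w.all (fun s => Nat.blt s P.length) && done.all fun d => Nat.beq (evP P w d) d) &&
      decide (ws.map fun w => evP P w v).Nodup && chOK P n (v :: done) rest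

/-- size of a chain -/
def chSize : List (ℕ × List (List ℕ)) → ℕ
  | [] => 1
  | (_, ws) :: rest => ws.length * chSize rest

end Cfsg.Agent.Spor.LFT.Chk
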