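import Cfsg.Agent.Lib.Spor.LFTCover

/-!
Large Fischer type: the four-group on a line with the central involution spans an elementary abelian group
of order eight; the part of its centraliser acting trivially on the fifteen lines is special of order 2^15.
-/

set_option autoImplicit false
set_option maxRecDepth 100000
set_option linter.unusedSectionVars false

namespace Cfsg.Agent.Spor.LFT

open Cfsg.Agent.Spor.SUSix (V6 code code_lt vecOf_code)
open Cfsg.Agent.Spor.SpFour (F4)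
open Cfsg.Agent.Spor.Large (XT Pair)

attribute [local irreducible] KerB phiA phiB CmpS Cmp

universe u

variable {G : Type u} [Group G] [Finite G] {z : G} {Q N M : Subgroup G}
variable (S : Setup z Q N M) (f : Frame z Q M)

include S

theorem Setup.exists_Xel : ∃ x : Subgroup.centralizer ({z} : Set G), Xel f x := by
  have hw : F4.w ≠ 0 := by decide +kernel
  obtain ⟨m, hm⟩ := f.surj (act (SUSix.scalSU F4.w hw)) ⟨_, scal_mem _ hw, rfl⟩
  have h3 : f.π (m ^ 3) = 1 := by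
    rw [map_pow, hm, ← map_pow]
    refine Equiv.ext fun v => ?_
    rw [map_pow, pow_succ, pow_two, Equiv.Perm.mul_apply, Equiv.Perm.mul_apply, act_scal, act_scal, act_scal,
      Equiv.Perm.one_apply]
    have key : ∀ a : F4, F4.w * (F4.w * (F4.w * a)) = a := by decide +kernel
    exact funext fun i => key _
  have h12 : (m ^ 3) ^ 4 = 1 := by
    refine Subtype.ext ?_
    have hq := (f.ker _).1 h3
    rw [SubmonoidClass.coe_pow, pow_succ, pow_succ, pow_two, OneMemClass.coe_one]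
    rcases S.hyp.xt.sq_mem hq with e | e <;> rw [mul_assoc, e]
    · exact one_mul 1
    · exact S.hyp.xt.sq
  refine ⟨m ^ 4, ⟨by rw [← pow_mul, show 4 * 3 = 3 * 4 from rfl, pow_mul]; exact h12, fun v => ?_⟩⟩
  rw [pow_succ, map_mul, h3, one_mul, hm, act_scal]

theorem Setup.xtQ {k : G} {a : G} (h : k * z * k⁻¹ = a) : XT a (Qc Q k) := h ▸ S.xtc k

/-- two conjugates on either side -/
theorem Setup.pairC {k m a b : G} (hk : k * z * k⁻¹ = a) (hm : m * z * m⁻¹ = b) (hab : b ≠ a)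
    (hb : b ∈ Qc Q k) (ha : a ∈ Qc Q m) : Pair (Qc Q k) (Qc Q m) a b := by
  subst hk hm
  obtain ⟨g, hgQ, hne⟩ := S.hyp.nwc
  have P := S.pair hgQ hne
  refine ⟨S.xtc k, S.xtc m, hb, ha, hab, fun c hc q hq => S.Qc_norm hc hq, fun c hc q hq => S.Qc_norm hc hq,
    fun c hc => mem_Qc.2 (P.large _ fun q hq => ?_), fun h hh => ?_⟩
  · have h1 := hc (k * q * k⁻¹) (mem_Qc.2 (by simpa [mul_assoc] using hq))
    have h2 := (Commute.conj_iff k⁻¹).2 h1
    simpa [mul_assoc] using h2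
  · rw [← S.Qc_eq (g := h * k) (k := m) (by rw [← hh]; group)]
    show (Q.map _).map _ = _
    rw [Subgroup.map_map]
    exact congrArg (fun F => Subgroup.map F Q) (MonoidHom.ext fun q => by
      show h * (k * q * k⁻¹) * h⁻¹ = h * k * q * (h * k)⁻¹
      group)

/-- an element moving one involution and fixing two -/
theorem Setup.mover {k m a b c : G} (hk : k * z * k⁻¹ = b) (hm : m * z * m⁻¹ = c) (hcb : c ≠ b)
    (hc : c ∈ Qc Q k) (hb : b ∈ Qc Q m) (ha : a ∈ Qc Q k) (h1 : a ≠ 1) (h2 : a ≠ b) (h3 : a ≠ c)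
    (h4 : a ≠ c * b) :
    ∃ r ∈ Qc Q k, r * b * r⁻¹ = b ∧ r * c * r⁻¹ = c ∧ r * a * r⁻¹ = a * b := by
  have P := S.pairC hk hm hcb hc hb
  obtain ⟨r, hr, hrc, hra⟩ : ∃ r ∈ Qc Q k, Commute r c ∧ ¬ Commute r a := by
    by_contra hno
    push Not at hno
    rcases P.cent_in ha (fun r hr hrc => (hno r hr hrc).symm) with e | e | e | e <;> contradiction
  exact ⟨r, hr, by rw [← (P.xt.cen r hr).eq, mul_inv_cancel_right], by rw [hrc.eq, mul_inv_cancel_right],
    P.xt.move hr ha hra⟩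

/-- elementary abelian subgroups of the extraspecial subgroup -/
theorem Setup.elem_le (K : Subgroup G) (hK : K ≤ Q) (hc : ∀ a ∈ K, ∀ b ∈ K, Commute a b)
    (hs : ∀ a ∈ K, a * a = 1) : Nat.card K ≤ 2 ^ 7 := by
  obtain ⟨hrk, -⟩ := Solv.ExtTwo.main.{u, 0} 6 (by norm_num) Q _ S.ext2 (by rw [S.hyp.cardQ])
  have hA : Cfsg.IsElementaryAbelian 2 (K.subgroupOf Q) := by
    refine ⟨⟨⟨fun a b => Subtype.ext (Subtype.ext ?_)⟩⟩, fun a ha => Subtype.ext ?_⟩
    · exact (hc _ a.2 _ b.2).eq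
    · show (a : G) ^ 2 = 1
      rw [pow_two]; exact hs _ ha
  have e := Nat.card_congr (Subgroup.subgroupOfEquivOfLe hK).toEquiv
  rw [← e]
  rcases hrk with h | h <;> have := h.2 _ hA <;> norm_num at this ⊢ <;> omega

/-- commuting involutions generate an elementary abelian group of bounded order -/
theorem Setup.closure_le (T : Set G) (k : G) (hT : T ⊆ Qc Q k) (hc : ∀ a ∈ T, ∀ b ∈ T, Commute a b)
    (hs : ∀ a ∈ T, a * a = 1) : Nat.card (Subgroup.closure T) ≤ 2 ^ 7 := by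
  haveI := Subgroup.isMulCommutative_closure fun a ha b hb => hc a ha b hb
  set K := Subgroup.closure T with hKdef
  have hcK : ∀ a ∈ K, ∀ b ∈ K, Commute a b := fun a ha b hb =>
    congrArg Subtype.val (IsMulCommutative.is_comm.comm (⟨a, ha⟩ : K) ⟨b, hb⟩)
  have hsK : ∀ a ∈ K, a * a = 1 := by
    intro a ha
    induction ha using Subgroup.closure_induction with
    | mem u hu => exact hs u hu
    | one => exact mul_one 1
    | mul u v hu hv iu iv => rw [(hcK v hv u hu).mul_mul_mul_comm, iu, iv, mul_one]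
    | inv u _ iu => rw [← mul_inv_rev, iu, inv_one]
  rw [← Subgroup.card_map_of_injective (f := (MulAut.conj k⁻¹).toMonoidHom) (K := K) (MulAut.conj k⁻¹).injective]
  refine S.elem_le _ ?_ ?_ ?_
  · rintro _ ⟨a, ha, rfl⟩
    have := mem_Qc.1 ((Subgroup.closure_le _).2 hT ha)
    simpa [mul_assoc] using this
  · rintro _ ⟨a, ha, rfl⟩ _ ⟨b, hb, rfl⟩
    exact (hcK a ha b hb).map _
  · rintro _ ⟨a, ha, rfl⟩
    rw [← map_mul, hsK a ha, map_one]

omit S

variable (x : Subgroup.centralizer ({z} : Set G)) (g : G)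

/-- the first conjugate -/
abbrev sA (z g : G) : G := g * z * g⁻¹

/-- the second conjugate -/
abbrev sB (z g : G) (x : G) : G := x * (g * z * g⁻¹) * x⁻¹

/-- a conjugate of the involution on which the scalar element acts as on a line -/
structure Line : Prop where
  xel : Xel f x
  mem : sA z g ∈ Q
  ne : sA z g ≠ z
  vec : f.vec (sA z g) = vb
  eqn : (x : G) * sB z g x * (x : G)⁻¹ = sA z g * sB z g x

theorem conjB (x g : G) : x * g * z * (x * g)⁻¹ = sB z g x := by simp only [sB]; group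

include S

theorem Setup.exists_Line : ∃ x g, Line f x g := by
  obtain ⟨x, X⟩ := S.exists_Xel f
  obtain ⟨g, h1, h2, h3, h4⟩ := X.exists_line S f
  exact ⟨x, g, X, h1, h2, h3, h4⟩

variable {f} {x} {g}

namespace Line

variable (l : Line f x g)
include l

omit S in
theorem xz : Commute (x : G) z := Subgroup.mem_centralizer_singleton_iff.1 x.2

theorem pairA : Pair Q (Qc Q g) z (sA z g) := S.pair l.mem l.ne

theorem memB : sB z g x ∈ Q := S.hyp.normQ x l.xz _ l.mem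

theorem vecB : f.vec (sB z g x) = F4.w • vb := by rw [l.xel.vec f l.mem, l.vec]

theorem inA : ∀ v, Chk.fCond (code v) = true → ∀ q ∈ Q, f.vec q = v → q ∈ Q ⊓ Qc Q g := by
  intro v hv q hq hqv
  obtain ⟨a, ha, e⟩ : v ∈ f.vec '' ((Q ⊓ Qc Q g : Subgroup G) : Set G) := (S.inter_vec f l.mem l.ne l.vec) ▸ hv
  rcases (f.vec_eq a ha.1 q hq).1 (e.trans hqv.symm) with e' | e' <;> rw [e']
  exacts [ha, mul_mem ha ⟨S.hyp.xt.mem, (l.pairA S).mem⟩]

theorem BinA : sB z g x ∈ Q ⊓ Qc Q g :=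
  l.inA S _ (by rw [show code (F4.w • vb) = 170 by decide +kernel]; exact Chk.f_cert.1) _ (l.memB S) (l.vecB S)

theorem AinA : sA z g ∈ Q ⊓ Qc Q g := ⟨l.mem, (l.pairA S).xt'.mem⟩

theorem AinB : sA z g ∈ Qc Q ((x : G) * g) := by
  have h : (x : G) * sB z g x * (x : G)⁻¹ ∈ Qc Q g := l.eqn ▸ (mul_mem (l.AinA S).2 (l.BinA S).2)
  have h2 := Qc_conj (x : G) h
  rwa [show (x : G) * ((x : G) * sB z g x * (x : G)⁻¹) * (x : G)⁻¹ = sA z g from l.xel.cubeG f _] at h2

theorem zinB : z ∈ Qc Q ((x : G) * g) := by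
  have := Qc_conj (x : G) (l.pairA S).mem
  rwa [l.xz.eq, mul_inv_cancel_right] at this

omit S in
theorem BinB (S : Setup z Q N M) : sB z g x ∈ Qc Q ((x : G) * g) := by
  have := (S.xtc ((x : G) * g)).mem
  rwa [conjB] at this

theorem cSA : Commute z (sA z g) := S.hyp.xt.cen _ l.mem
theorem cSB : Commute z (sB z g x) := S.hyp.xt.cen _ (l.memB S)
theorem cAB : Commute (sA z g) (sB z g x) := (l.pairA S).inter_comm (l.AinA S) (l.BinA S)
theorem sqA : sA z g * sA z g = 1 := (l.pairA S).inter_square (l.AinA S)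
theorem sqB : sB z g x * sB z g x = 1 := (l.pairA S).inter_square (l.BinA S)

theorem vecs : f.vec (1 : G) = 0 ∧ f.vec z = 0 ∧ f.vec (sA z g) = vb ∧ f.vec (sB z g x) = F4.w • vb :=
  ⟨f.vec_one S, f.vec_z S, l.vec, l.vecB S⟩

theorem B_ne : sB z g x ≠ 1 ∧ sB z g x ≠ z ∧ sB z g x ≠ sA z g ∧ sB z g x ≠ sA z g * z := by
  obtain ⟨v1, vz, va', vb'⟩ := l.vecs S
  have key : F4.w • vb ≠ 0 ∧ F4.w • vb ≠ vb := by decide +kernel
  refine ⟨fun e => ?_, fun e => ?_, fun e => ?_, fun e => ?_⟩ <;> rw [e] at vb'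
  · exact key.1 (vb'.symm.trans v1)
  · exact key.1 (vb'.symm.trans vz)
  · exact key.2 (vb'.symm.trans va')
  · rw [f.vec_mul _ l.mem z S.hyp.xt.mem, va', vz, add_zero] at vb'
    exact key.2 vb'.symm

theorem pairB : Pair Q (Qc Q ((x : G) * g)) z (sB z g x) := by
  have h := S.pair (g := (x : G) * g) (by rw [conjB]; exact l.memB S) (by rw [conjB]; exact (l.B_ne S).2.1)
  rwa [conjB] at h

theorem pairAB : Pair (Qc Q g) (Qc Q ((x : G) * g)) (sA z g) (sB z g x) :=
  S.pairC rfl (conjB _ _) (l.B_ne S).2.2.1 (l.BinA S).2 (l.AinB S)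

theorem fixK {c : Subgroup.centralizer ({z} : Set G)} (hc : c ∈ Kx x) (hcv : f.π c vb = vb) :
    Commute (c : G) (sA z g) ∧ Commute (c : G) (sB z g x) := by
  set s := sA z g with hs
  set xg : G := (x : G) with hxg
  have hcz : Commute (c : G) z := Subgroup.mem_centralizer_singleton_iff.1 c.2
  have hcx : Commute (c : G) xg := congrArg Subtype.val (mem_Kx.1 hc).eq
  have hcQ := S.hyp.normQ c hcz s l.mem
  have hmove : ∀ a : G, (c : G) * (xg * a * xg⁻¹) * (c : G)⁻¹ = xg * ((c : G) * a * (c : G)⁻¹) * xg⁻¹ := fun a => by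
    calc (c : G) * (xg * a * xg⁻¹) * (c : G)⁻¹ = ((c : G) * xg) * a * ((c : G) * xg)⁻¹ := by group
      _ = (xg * c) * a * (xg * (c : G))⁻¹ := by rw [hcx.eq]
      _ = _ := by group
  have h1 : (c : G) * s * (c : G)⁻¹ = s := by
    rcases (f.vec_eq s l.mem _ hcQ).1 (by rw [f.vec_conj c s l.mem, l.vec, hcv]) with e | e
    · exact e
    · exfalso
      set s' := sB z g x with hs'
      have h2 : (c : G) * s' * (c : G)⁻¹ = s' * z := by
        show (c : G) * (xg * s * xg⁻¹) * (c : G)⁻¹ = xg * s * xg⁻¹ * z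
        rw [hmove, e, ← conj_mul, l.xz.eq, mul_inv_cancel_right]
      have h3 : (c : G) * (xg * s' * xg⁻¹) * (c : G)⁻¹ = xg * s' * xg⁻¹ * z := by
        rw [hmove, h2, ← conj_mul, l.xz.eq, mul_inv_cancel_right]
      rw [l.eqn, ← conj_mul, e, h2, ← mul_assoc (s * z), mul_assoc s z, (l.cSB S).eq, ← mul_assoc s,
        mul_assoc (s * s'), S.hyp.xt.sq, mul_one] at h3
      exact S.hyp.xt.ne (mul_eq_left.1 h3.symm)
  refine ⟨mul_inv_eq_iff_eq_mul.1 h1, mul_inv_eq_iff_eq_mul.1 ?_⟩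
  show (c : G) * (xg * s * xg⁻¹) * (c : G)⁻¹ = xg * s * xg⁻¹
  rw [hmove, h1]

omit S l in
/-- the part of the extraspecial subgroup centralising the line -/
abbrev C2 (Q : Subgroup G) (z g x : G) : Subgroup G :=
  Q ⊓ Subgroup.centralizer ({sA z g} : Set G) ⊓ Subgroup.centralizer ({sB z g x} : Set G)

omit S l in
theorem mem_C2 {q : G} : q ∈ C2 Q z g x ↔ q ∈ Q ∧ Commute q (sA z g) ∧ Commute q (sB z g x) := by
  simp only [C2, Subgroup.mem_inf, Subgroup.mem_centralizer_singleton_iff]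
  exact and_assoc

theorem A_le_C2 {a : G} (ha : a ∈ Q ⊓ Qc Q g) : a ∈ C2 Q z g x ∧ (x : G) * a * (x : G)⁻¹ ∈ C2 Q z g x := by
  have h1 := (l.pairA S).inter_comm ha (l.AinA S)
  have h2 := (l.pairA S).inter_comm ha (l.BinA S)
  refine ⟨mem_C2.2 ⟨ha.1, h1, h2⟩, mem_C2.2 ⟨S.hyp.normQ x l.xz a ha.1, ?_, (Commute.conj_iff (x : G)).2 h1⟩⟩
  have h3 := (Commute.conj_iff (x : G)).2 ((h1.mul_right h2) : Commute a (sA z g * sB z g x))
  rw [← l.eqn] at h3
  rwa [show (x : G) * ((x : G) * sB z g x * (x : G)⁻¹) * (x : G)⁻¹ = sA z g from l.xel.cubeG f _] at h3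

theorem C2_facts : Nat.card (C2 Q z g x) = 2 ^ 11 ∧
    ∀ q ∈ C2 Q z g x, ∃ a ∈ Q ⊓ Qc Q g, ∃ b ∈ Q ⊓ Qc Q g, q = a * ((x : G) * b * (x : G)⁻¹) := by
  set A := Q ⊓ Qc Q g with hA
  set xg : G := (x : G) with hxg
  have P := l.pairA S
  have hAv := S.inter_vec f l.mem l.ne l.vec
  have hzA : z ∈ A := ⟨S.hyp.xt.mem, P.mem⟩
  set C1 := Q ⊓ Subgroup.centralizer ({sA z g} : Set G) with hC1
  have half : ∀ a b : Subgroup G, a ≤ b → a ≠ b → 2 * Nat.card a ≤ Nat.card b := by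
    intro a b hab hne'
    obtain ⟨t, ht⟩ := Subgroup.card_dvd_of_le hab
    rw [ht, mul_comm]
    refine Nat.mul_le_mul_left _ ?_
    by_contra hlt
    push Not at hlt
    refine hne' (Subgroup.eq_of_le_of_card_ge hab ?_)
    rw [ht]
    calc Nat.card a * t ≤ Nat.card a * 1 := Nat.mul_le_mul_left _ (by omega)
      _ = Nat.card a := mul_one _
  have h1 : 2 * Nat.card C1 ≤ 2 ^ 13 := S.hyp.cardQ ▸ half _ _ inf_le_left fun e => by
    obtain ⟨y', hy', hys'⟩ := S.adjust l.mem l.ne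
    have := (show y' ∈ C1 from e.symm ▸ hy').2
    rw [(Subgroup.mem_centralizer_singleton_iff.1 this), mul_inv_cancel_right] at hys'
    exact S.hyp.xt.ne (mul_eq_left.1 hys'.symm)
  have h2 : 2 * Nat.card (C2 Q z g x) ≤ Nat.card C1 := half _ _ inf_le_left fun e => by
    have hcen := P.cent_in (l.memB S) fun a ha hac => by
      have ha2 : a ∈ C2 Q z g x := e.symm ▸ (⟨ha, Subgroup.mem_centralizer_singleton_iff.2 hac⟩ : a ∈ C1)
      exact (mem_C2.1 ha2).2.2.symm
    obtain ⟨e1, e2, e3, e4⟩ := l.B_ne S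
    rcases hcen with e' | e' | e' | e'
    exacts [e1 e', e2 e', e3 e', e4 e']
  have hzC : z ∈ C2 Q z g x := mem_C2.2 ⟨S.hyp.xt.mem, l.cSA S, l.cSB S⟩
  have h3 := S.vecCard f (C2 Q z g x) (fun a ha => ha.1.1) hzC
  have hrow : ∀ e : Fin 1024, Chk.fCond (code (combV Chk.rowA e.val)) = true ∧
      Chk.fCond (code (combV Chk.rowB e.val)) = true := by
    intro e
    have h := Chk.f_rows
    simp only [List.all_eq_true, List.mem_range, Bool.and_eq_true] at h
    obtain ⟨l1, l2⟩ := comb_lt e.val e.2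
    rw [combV, combV, code_vecOf _ l1, code_vecOf _ l2]
    exact h e.val e.2
  have hin : ∀ e : Fin 1024, ∃ a ∈ A, ∃ b ∈ A,
      f.vec (a * (xg * b * xg⁻¹)) = combV Chk.rowA e.val + F4.w • combV Chk.rowB e.val := by
    intro e
    obtain ⟨a, ha, ea⟩ : combV Chk.rowA e.val ∈ f.vec '' (A : Set G) := hAv ▸ (hrow e).1
    obtain ⟨b, hb, eb⟩ : combV Chk.rowB e.val ∈ f.vec '' (A : Set G) := hAv ▸ (hrow e).2
    exact ⟨a, ha, b, hb, by
      rw [f.vec_mul a ha.1 _ (S.hyp.normQ xg l.xz b hb.1), l.xel.vec f hb.1, ea, eb]⟩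
  set T : Set V6 := Set.range fun e : Fin 1024 => combV Chk.rowA e.val + F4.w • combV Chk.rowB e.val
  have hT : T ⊆ f.vec '' (C2 Q z g x : Set G) := by
    rintro _ ⟨e, rfl⟩
    obtain ⟨a, ha, b, hb, h⟩ := hin e
    exact ⟨_, mul_mem (l.A_le_C2 S ha).1 (l.A_le_C2 S hb).2, h⟩
  have hTc : T.ncard = 1024 := by
    rw [Set.ncard_range_of_injective, Nat.card_eq_fintype_card, Fintype.card_fin]
    intro a b hab
    have := congrArg (fun v => code v / 4) hab
    simp only [comb_inj _ a.2, comb_inj _ b.2] at this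
    exact Fin.ext this
  have hge := Set.ncard_le_ncard hT (Set.toFinite _)
  have hTeq : T = f.vec '' (C2 Q z g x : Set G) :=
    Set.eq_of_subset_of_ncard_le hT (by rw [hTc]; norm_num at h1; omega) (Set.toFinite _)
  have hcard : Nat.card (C2 Q z g x) = 2 ^ 11 := by
    rw [hTc] at hge
    generalize Nat.card (C2 Q z g x) = n at h2 h3
    generalize (f.vec '' (C2 Q z g x : Set G)).ncard = v at hge h3
    generalize Nat.card C1 = c at h1 h2
    norm_num at h1 ⊢
    omega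
  refine ⟨hcard, fun q hq => ?_⟩
  obtain ⟨e, he⟩ : f.vec q ∈ T := hTeq ▸ ⟨q, hq, rfl⟩
  obtain ⟨a, ha, b, hb, h⟩ := hin e
  have hbQ := S.hyp.normQ xg l.xz b hb.1
  rcases (f.vec_eq _ (mul_mem ha.1 hbQ) q hq.1.1).1 (h.trans he) with e' | e'
  · exact ⟨a, ha, b, hb, e'⟩
  · refine ⟨a * z, mul_mem ha hzA, b, hb, ?_⟩
    rw [e', mul_assoc a, ← (S.hyp.xt.cen _ hbQ).eq, ← mul_assoc]

theorem xA {b : G} (hb : b ∈ Q ⊓ Qc Q g) : (x : G) * b * (x : G)⁻¹ ∈ Q ⊓ Qc Q ((x : G) * g) :=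
  ⟨S.hyp.normQ x l.xz b hb.1, Qc_conj (x : G) hb.2⟩

omit S l in
/-- the elementary abelian group of order eight -/
abbrev Vs (z g x : G) : Subgroup G := Subgroup.closure {z, sA z g, sB z g x}

/-- an element of the extraspecial subgroup centralising its part centralising the line -/
theorem cen_C2 {c : G} (hc : c ∈ Q) (h : ∀ q ∈ C2 Q z g x, Commute c q) : c ∈ Vs z g x := by
  have P := l.pairA S
  obtain ⟨y, hy, -, hys, hyb⟩ := S.mover (k := 1) (m := g) (a := sB z g x) (b := z) (c := sA z g) (by group) rfl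
    l.ne (mem_Qc_one.2 l.mem) P.mem (mem_Qc_one.2 (l.memB S)) (l.B_ne S).1 (l.B_ne S).2.1 (l.B_ne S).2.2.1
    (l.B_ne S).2.2.2
  rw [mem_Qc_one] at hy
  have hyn : ¬ Commute y (sB z g x) := fun e => S.hyp.xt.ne (by
    rw [e.eq, mul_inv_cancel_right] at hyb; exact mul_eq_left.1 hyb.symm)
  have hysc : Commute y (sA z g) := mul_inv_eq_iff_eq_mul.1 hys
  have key : ∀ d ∈ Q, Commute d y → (∀ q ∈ C2 Q z g x, Commute d q) → d ∈ Vs z g x := by
    intro d hd hdy hdq
    have hzV : z ∈ Vs z g x := Subgroup.subset_closure (by simp)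
    have hsV : sA z g ∈ Vs z g x := Subgroup.subset_closure (by simp)
    refine (P.cent_in hd fun a ha has => ?_).elim (fun e => e ▸ one_mem _) fun o => o.elim (fun e => e ▸ hzV)
      fun o => o.elim (fun e => e ▸ hsV) fun e => e ▸ mul_mem hsV hzV
    · by_cases hab : Commute a (sB z g x)
      · exact hdq a (mem_C2.2 ⟨ha, has, hab⟩)
      · have h1 := (l.pairB S).coset hy ha hyn hab
        have := hdy.mul_right (hdq _ (mem_C2.2 ⟨mul_mem (inv_mem hy) ha, hysc.inv_left.mul_left has, h1⟩))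
        rwa [mul_inv_cancel_left] at this
  by_cases hcy : Commute c y
  · exact key c hc hcy h
  · have hyc : y * c * y⁻¹ = c * z := S.hyp.xt.move hy hc fun e => hcy e.symm
    have hBV : sB z g x ∈ Vs z g x := Subgroup.subset_closure (by simp)
    have h1 := key (c * sB z g x) (mul_mem hc (l.memB S)) (Commute.symm (mul_inv_eq_iff_eq_mul.1 (by
      rw [← conj_mul, hyc, hyb, mul_assoc c, ← mul_assoc z, (l.cSB S).eq, mul_assoc (sB z g x),
        S.hyp.xt.sq, mul_one]))) fun q hq => (h q hq).mul_left (mem_C2.1 hq).2.2.symm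
    have h2 := mul_mem h1 hBV
    rwa [mul_assoc, l.sqB S, mul_one] at h2

theorem Vs_comm {v : G} (hv : v ∈ Vs z g x) {d : G} (h1 : Commute d z) (h2 : Commute d (sA z g))
    (h3 : Commute d (sB z g x)) : Commute d v := by
  induction hv using Subgroup.closure_induction with
  | mem u hu => rcases hu with rfl | rfl | rfl <;> assumption
  | one => exact Commute.one_right d
  | mul u v _ _ iu iv => exact iu.mul_right iv
  | inv u _ iu => exact iu.inv_right

theorem Vs_le_A : Vs z g x ≤ Q ⊓ Qc Q g := (Subgroup.closure_le _).2 fun u hu => by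
  rcases hu with rfl | rfl | rfl
  exacts [⟨S.hyp.xt.mem, (l.pairA S).mem⟩, l.AinA S, l.BinA S]

theorem Vs_le_B : Vs z g x ≤ Qc Q ((x : G) * g) := (Subgroup.closure_le _).2 fun u hu => by
  rcases hu with rfl | rfl | rfl
  exacts [l.zinB S, l.AinB S, l.BinB S]

theorem A_inf_B : Q ⊓ Qc Q g ⊓ Qc Q ((x : G) * g) = Vs z g x := by
  refine le_antisymm (fun c hc => l.cen_C2 S hc.1.1 fun q hq => ?_) (le_inf (l.Vs_le_A S) (l.Vs_le_B S))
  obtain ⟨a, ha, b, hb, rfl⟩ := (l.C2_facts S).2 q hq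
  exact ((l.pairA S).inter_comm hc.1 ha).mul_right ((l.pairB S).inter_comm ⟨hc.1.1, hc.2⟩ (l.xA S hb))

theorem card_AB : Nat.card (Qc Q g ⊓ Qc Q ((x : G) * g) : Subgroup G) = 2 ^ 7 := by
  set k := g⁻¹ * ((x : G) * g) with hk
  have e : k * z * k⁻¹ = g⁻¹ * sB z g x * g := by rw [hk, ← conjB]; group
  have h1 := (S.pair_struct f (g := k) (by rw [e]; exact mem_Qc.1 (l.BinA S).2) fun h => (l.B_ne S).2.2.1 (by
    rw [e] at h
    show _ = g * z * g⁻¹
    conv_rhs => rw [← h]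
    simp only [sB]; group)).2.1
  rw [← h1, ← Subgroup.card_map_of_injective (f := (MulAut.conj g).toMonoidHom) (K := Q ⊓ Qc Q k) (MulAut.conj g).injective]
  refine congrArg (fun K : Subgroup G => Nat.card K) ?_
  refine Eq.trans ?_ (Subgroup.map_inf _ _ (MulAut.conj g).toMonoidHom (MulAut.conj g).injective).symm
  ext w
  rw [Subgroup.mem_inf, Subgroup.mem_inf, mem_Qc, mem_Qc, Subgroup.mem_map_equiv, Subgroup.mem_map_equiv,
    MulAut.conj_symm_apply, hk, MulAut.conj_symm_apply, show (g⁻¹ * ((x : G) * g))⁻¹ * (g⁻¹ * w * g) * (g⁻¹ * ((x : G) * g)) =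
      ((x : G) * g)⁻¹ * w * ((x : G) * g) by group]

omit S l in
/-- the elements of the centraliser of the involution fixing the line -/
def Dc (z g x : G) : Subgroup (Subgroup.centralizer ({z} : Set G)) :=
  (Subgroup.centralizer ({sA z g} : Set G) ⊓ Subgroup.centralizer ({sB z g x} : Set G)).comap
    (Subgroup.centralizer ({z} : Set G)).subtype

omit S l in
theorem mem_Dc {c : Subgroup.centralizer ({z} : Set G)} :
    c ∈ Dc z g x ↔ Commute (c : G) (sA z g) ∧ Commute (c : G) (sB z g x) := by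
  simp only [Dc, Subgroup.mem_comap, Subgroup.mem_inf, Subgroup.mem_centralizer_singleton_iff]
  exact Iff.rfl

theorem map_Dc : (Dc z g x).map f.π = Kp ⊓ fixv vb := by
  refine le_antisymm ?_ ?_
  · rintro _ ⟨c, hc, rfl⟩
    obtain ⟨h1, h2⟩ := mem_Dc.1 hc
    have e1 : f.π c vb = vb := by
      conv_lhs => rw [← l.vec, ← f.vec_conj c _ l.mem, h1.eq, mul_inv_cancel_right, l.vec]
    refine ⟨fix_line_Kp ((S.range_pi f _).2 ⟨c, rfl⟩) e1 ?_, e1⟩
    conv_lhs => rw [← l.vecB S, ← f.vec_conj c _ (l.memB S), h2.eq, mul_inv_cancel_right, l.vecB S]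
  · intro p hp
    obtain ⟨c, hc, rfl⟩ := l.xel.lift S f hp.1
    exact ⟨c, mem_Dc.2 (l.fixK S (mem_Kx.2 hc) hp.2), rfl⟩

omit S l in
/-- the kernel on the fifteen lines -/
def Rc (f : Frame z Q M) (g x : G) : Subgroup (Subgroup.centralizer ({z} : Set G)) := Dc z g x ⊓ KerB.comap f.π

omit S l in
/-- as a subgroup of the group -/
abbrev Rs (f : Frame z Q M) (g x : G) : Subgroup G :=
  (Rc f g x).map (Subgroup.centralizer ({z} : Set G)).subtype

theorem map_Rc : (Rc f g x).map f.π = Kp ⊓ fixv vb ⊓ KerB := by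
  refine le_antisymm ?_ ?_
  · rintro _ ⟨c, hc, rfl⟩
    exact ⟨(l.map_Dc S).le ⟨c, hc.1, rfl⟩, hc.2⟩
  · intro p hp
    obtain ⟨c, hc, rfl⟩ := (l.map_Dc S).ge hp.1
    exact ⟨c, ⟨hc, hp.2⟩, rfl⟩

/-- order of a group between the kernel and the centraliser -/
theorem card_over (H : Subgroup (Subgroup.centralizer ({z} : Set G))) (hH : H ≤ Dc z g x)
    (hK : ∀ c : Subgroup.centralizer ({z} : Set G), (c : G) ∈ C2 Q z g x → c ∈ H) :
    Nat.card H = Nat.card (H.map f.π) * 2 ^ 11 := by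
  set φ := f.π.comp H.subtype with hφ
  have h := Subgroup.card_eq_card_quotient_mul_card_subgroup φ.ker
  rw [Nat.card_congr (QuotientGroup.quotientKerEquivRange φ).toEquiv, MonoidHom.range_comp,
    Subgroup.range_subtype] at h
  rw [h, ← (l.C2_facts S).1]
  congr 1
  have hQz : ∀ q ∈ C2 Q z g x, q ∈ Subgroup.centralizer ({z} : Set G) := fun q hq =>
    Subgroup.mem_centralizer_singleton_iff.2 (S.hyp.qz hq.1.1)
  refine Nat.card_congr
    { toFun := fun c => ⟨(c.1.1 : G), mem_C2.2 ⟨(f.ker _).1 (MonoidHom.mem_ker.1 c.2), mem_Dc.1 (hH c.1.2)⟩⟩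
      invFun := fun q => ⟨⟨⟨q.1, hQz q.1 q.2⟩, hK _ q.2⟩, MonoidHom.mem_ker.2 ((f.ker _).2 q.2.1.1)⟩
      left_inv := fun _ => rfl
      right_inv := fun _ => rfl }

theorem C2_le_Rc {c : Subgroup.centralizer ({z} : Set G)} (hc : (c : G) ∈ C2 Q z g x) : c ∈ Rc f g x := by
  obtain ⟨h1, h2⟩ := mem_C2.1 hc
  refine ⟨mem_Dc.2 h2, ?_⟩
  show f.π c ∈ KerB
  rw [(f.ker c).2 h1]
  exact one_mem _

theorem card_Dc : Nat.card (Dc z g x) = 5760 * 2 ^ 11 := by
  rw [l.card_over S _ le_rfl fun c hc => (l.C2_le_Rc S hc).1, l.map_Dc S, card_Kb.1]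

theorem card_Rs : Nat.card (Rs f g x) = 2 ^ 15 := by
  rw [Subgroup.card_map_of_injective (Subgroup.subtype_injective _),
    l.card_over S (Rc f g x) inf_le_left fun c hc => l.C2_le_Rc S hc, l.map_Rc S]
  obtain ⟨-, -, h⟩ := Kb_facts
  rw [h]; norm_num

theorem C2_le_Rs : C2 Q z g x ≤ Rs f g x := fun q hq =>
  ⟨⟨q, Subgroup.mem_centralizer_singleton_iff.2 (S.hyp.qz hq.1.1)⟩, l.C2_le_Rc S hq, rfl⟩

theorem AB_le_Rs : Qc Q g ⊓ Qc Q ((x : G) * g) ≤ Rs f g x := by
  intro w hw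
  have P := l.pairAB S
  obtain ⟨hws, hws'⟩ := P.inter_commute hw
  have hzAB : z ∈ Qc Q g ⊓ Qc Q ((x : G) * g) := ⟨(l.pairA S).mem, l.zinB S⟩
  have hwz : w ∈ Subgroup.centralizer ({z} : Set G) :=
    Subgroup.mem_centralizer_singleton_iff.2 (P.inter_comm hw hzAB)
  refine ⟨⟨w, hwz⟩, ⟨mem_Dc.2 ⟨hws, hws'⟩, ?_⟩, rfl⟩
  obtain ⟨-, hR⟩ := S.core f l.mem l.ne l.vec
  have : f.π ⟨w, hwz⟩ ∈ f.R g := ⟨_, mem_EC.2 hw.1, rfl⟩
  rw [hR] at this
  exact this.2

theorem decomp {r : G} (hr : r ∈ Rs f g x) : ∃ a ∈ Q ⊓ Qc Q g, ∃ b ∈ Q ⊓ Qc Q g,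
    ∃ w ∈ Qc Q g ⊓ Qc Q ((x : G) * g), r = a * ((x : G) * b * (x : G)⁻¹) * w := by
  set W := (Qc Q g ⊓ Qc Q ((x : G) * g)).comap (Subgroup.centralizer ({z} : Set G)).subtype with hW
  have hWR : W ≤ Rc f g x := fun c hc => by
    obtain ⟨d, hd, e⟩ := l.AB_le_Rs S hc
    exact (show d = c from Subtype.ext e) ▸ hd
  have hle : W.map f.π ≤ Kp ⊓ fixv vb ⊓ KerB := l.map_Rc S ▸ Subgroup.map_mono hWR
  have hcW : Nat.card W = 2 ^ 7 := by
    rw [← l.card_AB S, hW, ← Subgroup.card_map_of_injective (K := W) (Subgroup.subtype_injective _), hW,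
      Subgroup.map_comap_eq, Subgroup.range_subtype, inf_eq_right.2]
    intro w hw
    obtain ⟨d, -, rfl⟩ := l.AB_le_Rs S hw
    exact d.2
  set φ := f.π.comp W.subtype with hφ
  have h := Subgroup.card_eq_card_quotient_mul_card_subgroup φ.ker
  rw [Nat.card_congr (QuotientGroup.quotientKerEquivRange φ).toEquiv, MonoidHom.range_comp,
    Subgroup.range_subtype, hcW] at h
  have hker : Nat.card φ.ker ≤ Nat.card (Vs z g x) := by
    refine Nat.card_le_card_of_injective (fun c : φ.ker => (⟨(c.1.1 : G), ?_⟩ : Vs z g x)) ?_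
    · rw [← l.A_inf_B S]
      exact ⟨⟨(f.ker _).1 (MonoidHom.mem_ker.1 c.2), c.1.2.1⟩, c.1.2.2⟩
    · intro a b e
      exact Subtype.ext (Subtype.ext (Subtype.ext (congrArg Subtype.val e :)))
  obtain ⟨-, -, h16⟩ := Kb_facts
  have hV8 : Nat.card (Vs z g x) ≤ 8 := by
    haveI := Subgroup.isMulCommutative_closure (k := ({z, sA z g, sB z g x} : Set G)) (fun a ha b hb => by
      have c1 := l.cSA S
      have c2 := l.cSB S
      have c3 := l.cAB S
      rcases ha with rfl | rfl | rfl <;> rcases hb with rfl | rfl | rfl <;>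
        first | rfl | exact c1.eq | exact c1.eq.symm | exact c2.eq | exact c2.eq.symm | exact c3.eq | exact c3.eq.symm)
    let e : Fin 2 × Fin 2 × Fin 2 → G := fun i => z ^ i.1.val * sA z g ^ i.2.1.val * sB z g x ^ i.2.2.val
    have hsub : (Vs z g x : Set G) ⊆ Set.range e := by
      intro v hv
      induction hv using Subgroup.closure_induction'' with
      | one => exact ⟨(0, 0, 0), by simp [e]⟩
      | mem u hu =>
        rcases hu with rfl | rfl | rfl
        · exact ⟨(1, 0, 0), by simp [e]⟩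
        · exact ⟨(0, 1, 0), by simp [e]⟩
        · exact ⟨(0, 0, 1), by simp [e]⟩
      | inv_mem u hu =>
        rcases hu with rfl | rfl | rfl
        · exact ⟨(1, 0, 0), by simp [e, inv_eq_of_mul_eq_one_right S.hyp.xt.sq]⟩
        · exact ⟨(0, 1, 0), by simp [e, inv_eq_of_mul_eq_one_right (l.sqA S)]⟩
        · exact ⟨(0, 0, 1), by simp [e, inv_eq_of_mul_eq_one_right (l.sqB S)]⟩
      | mul u v _ _ iu iv =>
        obtain ⟨⟨i, j, k⟩, rfl⟩ := iu
        obtain ⟨⟨i', j', k'⟩, rfl⟩ := iv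
        have sq : ∀ (a : G), a * a = 1 → ∀ p q : Fin 2, a ^ p.val * a ^ q.val = a ^ (p + q).val := by
          intro a ha p q
          fin_cases p <;> fin_cases q <;> simp [ha]
        refine ⟨(i + i', j + j', k + k'), ?_⟩
        simp only [e]
        rw [← sq _ S.hyp.xt.sq, ← sq _ (l.sqA S), ← sq _ (l.sqB S)]
        rw [((((l.cSB S).pow_pow i'.val k.val).symm).mul_right (((l.cAB S).pow_pow j'.val k.val).symm)).mul_mul_mul_comm,
          (((l.cSA S).pow_pow i'.val j.val).symm).mul_mul_mul_comm]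
    refine (Set.ncard_le_ncard hsub (Set.toFinite _)).trans' (le_of_eq ?_) |>.trans ?_
    · rw [← Nat.card_coe_set_eq]; rfl
    · rw [← Nat.card_coe_set_eq]
      exact (Finite.card_range_le e).trans (by simp)
  have hbig : 16 ≤ Nat.card (W.map f.π) := by
    by_contra hlt
    push Not at hlt
    have := Nat.mul_le_mul (Nat.le_of_lt_succ hlt) (hker.trans hV8)
    omega
  have heq := Subgroup.eq_of_le_of_card_ge hle (h16.le.trans hbig)
  obtain ⟨c, hc, rfl⟩ := hr
  obtain ⟨w, hw, hwe⟩ := heq.ge ((l.map_Rc S).le ⟨c, hc, rfl⟩)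
  set q : Subgroup.centralizer ({z} : Set G) := c * w⁻¹ with hq
  have hqC : (q : G) ∈ C2 Q z g x := by
    refine mem_C2.2 ⟨(f.ker q).1 (by rw [hq, map_mul, map_inv, hwe, mul_inv_cancel]), ?_⟩
    exact mem_Dc.1 ((Dc z g x).mul_mem hc.1 ((Dc z g x).inv_mem (hWR hw).1))
  obtain ⟨a, ha, b, hb, e⟩ := (l.C2_facts S).2 _ hqC
  refine ⟨a, ha, b, hb, (w : G), hw, ?_⟩
  rw [← e, hq, Subgroup.coe_mul, Subgroup.coe_inv, inv_mul_cancel_right]
  rfl

theorem Rs_cent {r : G} (hr : r ∈ Rs f g x) {v : G} (hv : v ∈ Vs z g x) : Commute r v := by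
  obtain ⟨c, hc, rfl⟩ := hr
  exact l.Vs_comm S hv (Subgroup.mem_centralizer_singleton_iff.1 c.2) (mem_Dc.1 hc.1).1 (mem_Dc.1 hc.1).2

theorem Vs_le_Rs : Vs z g x ≤ Rs f g x := fun v hv =>
  l.C2_le_Rs S (l.A_le_C2 S (l.Vs_le_A S hv)).1

theorem Rs_comm : ∀ a ∈ Rs f g x, (∀ b ∈ Rs f g x, a * b * a⁻¹ * b⁻¹ ∈ Vs z g x) ∧ a * a ∈ Vs z g x := by
  set R := Rs f g x with hR
  set V' := (Vs z g x).subgroupOf R with hV'
  haveI : V'.Normal := ⟨fun v hv r => by
    rw [hV', Subgroup.mem_subgroupOf] at hv ⊢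
    show (r : G) * v * (r : G)⁻¹ ∈ Vs z g x
    rwa [(l.Rs_cent S r.2 hv).eq, mul_inv_cancel_right]⟩
  let q := QuotientGroup.mk' V'
  have hz : z ∈ Vs z g x := Subgroup.subset_closure (by simp)
  have hA : sA z g ∈ Vs z g x := Subgroup.subset_closure (by simp)
  have hB : sB z g x ∈ Vs z g x := Subgroup.subset_closure (by simp)
  -- generators
  let T : G → Prop := fun r => r ∈ Q ⊓ Qc Q g ∨ r ∈ Q ⊓ Qc Q ((x : G) * g) ∨ r ∈ Qc Q g ⊓ Qc Q ((x : G) * g)
  have hTc : ∀ a b : R, T a → T b → Commute (q a) (q b) := by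
    intro a b ha hb
    have key : (a : G) * b * (a : G)⁻¹ * (b : G)⁻¹ ∈ Vs z g x := by
      have hQ : ∀ a b : G, a ∈ Q → b ∈ Q → a * b * a⁻¹ * b⁻¹ ∈ Vs z g x := fun a b h1 h2 => by
        rcases S.hyp.xt.comm_mem h1 h2 with e | e <;> rw [e]
        exacts [one_mem _, hz]
      have hG : ∀ a b : G, a ∈ Qc Q g → b ∈ Qc Q g → a * b * a⁻¹ * b⁻¹ ∈ Vs z g x := fun a b h1 h2 => by
        rcases (l.pairA S).xt'.comm_mem h1 h2 with e | e <;> rw [e]
        exacts [one_mem _, hA]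
      have hX : ∀ a b : G, a ∈ Qc Q ((x : G) * g) → b ∈ Qc Q ((x : G) * g) → a * b * a⁻¹ * b⁻¹ ∈ Vs z g x :=
        fun a b h1 h2 => by
          rcases (l.pairB S).xt'.comm_mem h1 h2 with e | e <;> rw [e]
          exacts [one_mem _, hB]
      rcases ha with ha | ha | ha <;> rcases hb with hb | hb | hb <;>
        first
          | exact hQ _ _ ha.1 hb.1
          | exact hG _ _ ha.2 hb.1
          | exact hG _ _ ha.1 hb.2
          | exact hG _ _ ha.1 hb.1
          | exact hX _ _ ha.2 hb.2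
    have e : q (a * b * a⁻¹ * b⁻¹) = 1 := (QuotientGroup.eq_one_iff _).2 (by
      rw [hV', Subgroup.mem_subgroupOf]; exact key)
    rw [map_mul, map_mul, map_mul, map_inv, map_inv, mul_inv_eq_one, mul_inv_eq_iff_eq_mul] at e
    exact e
  have hTs : ∀ a : R, T a → q a * q a = 1 := by
    intro a ha
    have e : (a : G) * a = 1 := by
      rcases ha with ha | ha | ha
      exacts [(l.pairA S).inter_square ha, (l.pairB S).inter_square ha, (l.pairAB S).inter_square ha]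
    rw [← map_mul, show a * a = 1 from Subtype.ext e, map_one]
  have hdec : ∀ r : R, ∃ a b w : R, T a ∧ T b ∧ T w ∧ r = a * b * w := by
    intro r
    obtain ⟨a, ha, b, hb, w, hw, e⟩ := l.decomp S r.2
    exact ⟨⟨a, l.C2_le_Rs S (l.A_le_C2 S ha).1⟩, ⟨_, l.C2_le_Rs S (l.A_le_C2 S hb).2⟩, ⟨w, l.AB_le_Rs S hw⟩,
      Or.inl ha, Or.inr (Or.inl (l.xA S hb)), Or.inr (Or.inr hw), Subtype.ext e⟩
  intro r hr
  obtain ⟨a, b, w, ha, hb, hw, e⟩ := hdec ⟨r, hr⟩
  refine ⟨fun r' hr' => ?_, ?_⟩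
  · obtain ⟨a', b', w', ha', hb', hw', e'⟩ := hdec ⟨r', hr'⟩
    have hc : ∀ u : R, T u → Commute (q u) (q (a' * b' * w')) := fun u hu => by
      rw [map_mul, map_mul]
      exact ((hTc u a' hu ha').mul_right (hTc u b' hu hb')).mul_right (hTc u w' hu hw')
    have h : q ((a * b * w) * (a' * b' * w') * (a * b * w)⁻¹ * (a' * b' * w')⁻¹) = 1 := by
      have hab : Commute (q (a * b * w)) (q (a' * b' * w')) := by
        rw [map_mul, map_mul]
        exact ((hc a ha).mul_left (hc b hb)).mul_left (hc w hw)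
      simp only [map_mul, map_inv] at hab ⊢
      rw [hab.eq]; group
    rw [← e, ← e', QuotientGroup.mk'_apply, QuotientGroup.eq_one_iff, hV', Subgroup.mem_subgroupOf] at h
    exact h
  · have h : q ((a * b * w) * (a * b * w)) = 1 := by
      rw [map_mul, map_mul, map_mul]
      rw [((hTc w a hw ha).mul_right (hTc w b hw hb)).mul_mul_mul_comm, (hTc b a hb ha).mul_mul_mul_comm, hTs a ha,
        hTs b hb, hTs w hw, mul_one, mul_one]
    rw [← e, QuotientGroup.mk'_apply, QuotientGroup.eq_one_iff, hV', Subgroup.mem_subgroupOf] at h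
    exact h

theorem z_comm : ∃ a ∈ Rs f g x, ∃ b ∈ Rs f g x, a * b * a⁻¹ * b⁻¹ = z := by
  by_contra hno
  push Not at hno
  have hA : ∀ a ∈ Q ⊓ Qc Q g, ∀ b ∈ Q ⊓ Qc Q g, Commute a ((x : G) * b * (x : G)⁻¹) := by
    intro a ha b hb
    have hb' := l.xA S hb
    refine mul_inv_eq_iff_eq_mul.1 (mul_inv_eq_one.1 ?_)
    exact (S.hyp.xt.comm_mem ha.1 hb'.1).resolve_right
      (hno a (l.C2_le_Rs S (l.A_le_C2 S ha).1) _ (l.C2_le_Rs S (l.A_le_C2 S hb).2))
  have hc : ∀ a ∈ C2 Q z g x, ∀ b ∈ C2 Q z g x, Commute a b := by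
    intro p hp q hq
    obtain ⟨a, ha, b, hb, rfl⟩ := (l.C2_facts S).2 p hp
    obtain ⟨a', ha', b', hb', rfl⟩ := (l.C2_facts S).2 q hq
    have P := l.pairA S
    exact ((P.inter_comm ha ha').mul_right (hA a ha b' hb')).mul_left
      ((hA a' ha' b hb).symm.mul_right ((Commute.conj_iff (x : G)).2 (P.inter_comm hb hb')))
  have hs : ∀ a ∈ C2 Q z g x, a * a = 1 := by
    intro p hp
    obtain ⟨a, ha, b, hb, rfl⟩ := (l.C2_facts S).2 p hp
    rw [(hA a ha b hb).symm.mul_mul_mul_comm, (l.pairA S).inter_square ha, (l.pairB S).inter_square (l.xA S hb),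
      mul_one]
  have := S.elem_le _ (fun q hq => (mem_C2.1 hq).1) hc hs
  rw [(l.C2_facts S).1] at this
  norm_num at this

theorem cen_Rs {c : G} (hc : c ∈ Rs f g x) (h : ∀ r ∈ Rs f g x, Commute c r) : c ∈ Vs z g x := by
  obtain ⟨a, ha, b, hb, w, hw, rfl⟩ := l.decomp S hc
  have hb' := l.xA S hb
  set q := a * ((x : G) * b * (x : G)⁻¹) with hq
  have hqC : q ∈ C2 Q z g x := mul_mem (l.A_le_C2 S ha).1 (l.A_le_C2 S hb).2
  have hqQ : q ∈ Q := (mem_C2.1 hqC).1
  have hwA : ∀ t ∈ Q ⊓ Qc Q g, Commute w t := by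
    intro t ht
    have h1 : Commute (q * w) t := h t (l.C2_le_Rs S (l.A_le_C2 S ht).1)
    rcases (l.pairA S).xt'.comm_mem hw.1 ht.2 with e | e
    · exact mul_inv_eq_iff_eq_mul.1 (mul_inv_eq_one.1 e)
    · exfalso
      have h2 : q * t * q⁻¹ * t⁻¹ = sA z g := by
        have h3 : q * w * t * (q * w)⁻¹ * t⁻¹ = 1 := by rw [h1.eq, mul_inv_cancel_right, mul_inv_cancel]
        have h4 : q * (w * t * w⁻¹ * t⁻¹) * t * q⁻¹ * t⁻¹ = 1 := by
          rw [← h3]; group
        rw [e] at h4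
        have hqs : Commute q (sA z g) := (mem_C2.1 hqC).2.1
        rw [hqs.eq, mul_assoc (sA z g), mul_assoc (sA z g), mul_assoc (sA z g), mul_eq_one_iff_eq_inv'] at h4
        rw [h4, inv_eq_of_mul_eq_one_right (l.sqA S)]
      rcases S.hyp.xt.comm_mem hqQ ht.1 with e' | e' <;> rw [e'] at h2
      · exact (l.pairA S).xt'.ne h2.symm
      · exact l.ne h2.symm
  have hwin : w ∈ Q ⊓ Qc Q g := by
    by_contra hwn
    set T : Set G := insert w ((Q ⊓ Qc Q g : Subgroup G) : Set G) with hT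
    have hle := S.closure_le T g (Set.insert_subset hw.1 fun t ht => ht.2) (fun u hu v hv => by
      rcases hu with rfl | hu <;> rcases hv with rfl | hv
      exacts [Commute.refl _, hwA v hv, (hwA u hu).symm, (l.pairA S).inter_comm hu hv]) (fun u hu => by
      rcases hu with rfl | hu
      exacts [(l.pairAB S).inter_square hw, (l.pairA S).inter_square hu])
    have hlt : (Q ⊓ Qc Q g : Subgroup G) < Subgroup.closure T :=
      lt_of_le_of_ne (fun t ht => Subgroup.subset_closure (Or.inr ht)) fun e =>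
        hwn (e ▸ Subgroup.subset_closure (Or.inl rfl))
    have h7 := (S.pair_struct f l.mem l.ne).2.1
    rw [← h7] at hle
    exact hlt.ne (Subgroup.eq_of_le_of_card_ge hlt.le hle)
  have hcQ : q * w ∈ Q := mul_mem hqQ hwin.1
  exact l.cen_C2 S hcQ fun t ht => h t (l.C2_le_Rs S ht)

end Line

end Cfsg.Agent.Spor.LFT
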