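import Cfsg.Agent.Lib.Spor.LFTEight
import Cfsg.Agent.Lib.Small.PSLn.Simple
import Cfsg.Agent.Lib.Solv.PGroupPhi
import Cfsg.Agent.Lib.Fusion.Cores
import Cfsg.Prelude.Def_Transfer

/-!
Large Fischer type: the normaliser of the elementary abelian group of order eight on a line is an extension
of a special group of order 2^15 by the direct product of SL(3,2) and A6.
-/

set_option autoImplicit false
set_option maxRecDepth 100000
set_option linter.unusedSectionVars false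

namespace Cfsg.Agent.Spor.LFT

open Cfsg.Agent.Spor.SUSix (V6)
open Cfsg.Agent.Spor.SpFour (F4)
open scoped commutatorElement

attribute [local irreducible] KerB phiA phiB CmpS Cmp

universe u

theorem zmod2_ne : ∀ c : ZMod 2, c ≠ 0 → c = 1 := by decide

theorem sl_three_two_simple : IsSimpleGroup (Matrix.SpecialLinearGroup (Fin 3) (ZMod 2)) := by
  haveI : Fact (Nat.Prime 2) := ⟨Nat.prime_two⟩
  haveI := Small.PSLn.psl_simple (F := ZMod 2) (n := 3) le_rfl
  let q : Matrix.SpecialLinearGroup (Fin 3) (ZMod 2) ≃* Matrix.ProjectiveSpecialLinearGroup (Fin 3) (ZMod 2) :=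
    MulEquiv.ofBijective (QuotientGroup.mk' _) ⟨(injective_iff_map_eq_one _).2 fun A hA => by
      obtain ⟨r, hr, hA'⟩ := Matrix.SpecialLinearGroup.mem_center_iff.1 ((QuotientGroup.eq_one_iff A).1 hA)
      have hr1 : r = 1 := zmod2_ne r fun e => by
        rw [e, zero_pow Fintype.card_ne_zero] at hr
        exact zero_ne_one hr
      refine Subtype.ext ?_
      rw [← hA', hr1, map_one]
      rfl, QuotientGroup.mk'_surjective _⟩
  exact q.isSimpleGroup

theorem alt_six : IsSimpleGroup ↥(alternatingGroup (Fin 6)) ∧ Nat.card ↥(alternatingGroup (Fin 6)) = 360 :=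
  ⟨alternatingGroup.isSimpleGroup (by simp), by rw [Nat.card_eq_fintype_card]; decide +kernel⟩

theorem alt_center : Subgroup.center ↥(alternatingGroup (Fin 6)) = ⊥ := by
  obtain ⟨hs, hc⟩ := alt_six
  refine (hs.eq_bot_or_eq_top_of_normal (Subgroup.center _) inferInstance).resolve_right fun ht => ?_
  letI : CommGroup ↥(alternatingGroup (Fin 6)) := { (inferInstance : Group ↥(alternatingGroup (Fin 6))) with
    mul_comm := fun a b => Subgroup.mem_center_iff.1 (ht ▸ Subgroup.mem_top b) a }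
  have := IsSimpleGroup.prime_card (α := ↥(alternatingGroup (Fin 6)))
  rw [hc] at this
  exact absurd (this.eq_one_or_self_of_dvd 2 ⟨180, rfl⟩) (by norm_num)

theorem two_normal_bot (P : Subgroup ↥(alternatingGroup (Fin 6))) [P.Normal] (hP : IsPGroup 2 P) : P = ⊥ := by
  haveI : Fact (Nat.Prime 2) := ⟨Nat.prime_two⟩
  obtain ⟨hs, hc⟩ := alt_six
  refine (hs.eq_bot_or_eq_top_of_normal P inferInstance).resolve_right fun ht => ?_
  obtain ⟨n, hn⟩ := IsPGroup.iff_card.1 hP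
  rw [ht, Subgroup.card_top, hc] at hn
  have : (3 : ℕ) ∣ 2 ^ n := hn ▸ ⟨120, rfl⟩
  exact absurd (Nat.prime_three.dvd_of_dvd_pow this) (by norm_num)

theorem sl_gen (T : Set (Matrix (Fin 3) (Fin 3) (ZMod 2))) (h1 : (1 : Matrix (Fin 3) (Fin 3) (ZMod 2)) ∈ T)
    (hm : ∀ A ∈ T, ∀ B ∈ T, A * B ∈ T) (ht : ∀ i j : Fin 3, i ≠ j → Matrix.transvection i j 1 ∈ T)
    (M : Matrix (Fin 3) (Fin 3) (ZMod 2)) (hM : M.det = 1) : M ∈ T := by
  haveI : Fact (Nat.Prime 2) := ⟨Nat.prime_two⟩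
  obtain ⟨L, L', D, rfl⟩ := Matrix.Pivot.exists_list_transvec_mul_diagonal_mul_list_transvec M
  have hL : ∀ L : List (Matrix.TransvectionStruct (Fin 3) (ZMod 2)),
      (L.map Matrix.TransvectionStruct.toMatrix).prod ∈ T := by
    intro L
    induction L with
    | nil => exact h1
    | cons t L ih =>
      rw [List.map_cons, List.prod_cons]
      refine hm _ ?_ _ ih
      obtain ⟨i, j, hij, c⟩ := t
      rw [Matrix.TransvectionStruct.toMatrix_mk]
      by_cases hc : c = 0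
      · rw [hc, Matrix.transvection_zero]; exact h1
      · rw [zmod2_ne c hc]; exact ht i j hij
  have hD : Matrix.diagonal D = 1 := by
    rw [← Matrix.diagonal_one]
    refine congrArg Matrix.diagonal (funext fun i => zmod2_ne _ fun e => ?_)
    rw [Matrix.det_mul, Matrix.det_mul, Matrix.det_diagonal, Finset.prod_eq_zero (Finset.mem_univ i) e] at hM
    simp at hM
  rw [hD, mul_one]
  exact hm _ (hL L) _ (hL L')

theorem transvec_col : ∀ i j p q : Fin 3, i ≠ j →
    (if q = j then (Pi.single q 1 : Fin 3 → ZMod 2) + Pi.single i 1 else Pi.single q 1) p =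
      Matrix.transvection i j (1 : ZMod 2) p q := by
  intro i j p q
  fin_cases i <;> fin_cases j <;> fin_cases p <;> fin_cases q <;>
    simp [Matrix.transvection, Matrix.single, Pi.single_apply, Matrix.one_apply]

theorem other_index : ∀ i j : Fin 3, ∃ k, k ≠ i ∧ k ≠ j := by decide

theorem single_ne : ∀ i j k : Fin 3, j ≠ i → j ≠ k → k ≠ i →
    (Pi.single j 1 : Fin 3 → ZMod 2) ≠ 0 ∧ (Pi.single j 1 : Fin 3 → ZMod 2) ≠ Pi.single i 1 ∧
      (Pi.single j 1 : Fin 3 → ZMod 2) ≠ Pi.single k 1 ∧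
      (Pi.single j 1 : Fin 3 → ZMod 2) ≠ Pi.single k 1 + Pi.single i 1 ∧
      (Pi.single k 1 : Fin 3 → ZMod 2) ≠ Pi.single i 1 := by decide +kernel

variable {G : Type u} [Group G] [Finite G] {z : G} {Q N M : Subgroup G} {f : Frame z Q M}
variable {x : Subgroup.centralizer ({z} : Set G)} {g : G}

namespace Line

variable (S : Setup z Q N M) (l : Line f x g)
include S l

omit S l in
/-- coordinates of the group of order eight -/
def eV (z g x : G) (v : Fin 3 → ZMod 2) : G :=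
  z ^ (v 0).val * sA z g ^ (v 1).val * sB z g x ^ (v 2).val

theorem eV_add (u v : Fin 3 → ZMod 2) : eV z g x (u + v) = eV z g x u * eV z g x v := by
  have sq : ∀ a : G, a * a = 1 → ∀ p q : ZMod 2, a ^ (p + q).val = a ^ p.val * a ^ q.val := by
    intro a ha p q
    have key : ∀ p : ZMod 2, p = 0 ∨ p = 1 := by decide
    have h0 : (0 : ZMod 2).val = 0 := rfl
    have h1 : (1 : ZMod 2).val = 1 := rfl
    have h2 : (1 : ZMod 2) + 1 = 0 := rfl
    rcases key p with rfl | rfl <;> rcases key q with rfl | rfl <;> simp [h0, h1, h2, ha]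
  simp only [eV, Pi.add_apply]
  rw [sq _ S.hyp.xt.sq, sq _ (l.sqA S), sq _ (l.sqB S)]
  rw [((((l.cSB S).pow_pow (v 0).val (u 2).val).symm).mul_right
      (((l.cAB S).pow_pow (v 1).val (u 2).val).symm)).mul_mul_mul_comm,
    (((l.cSA S).pow_pow (v 0).val (u 1).val).symm).mul_mul_mul_comm]

theorem eV_zero : eV z g (x : G) 0 = 1 := by simp [eV]

theorem eV_inj : Function.Injective (eV z g (x : G)) := by
  have hone : ∀ v, eV z g (x : G) v = 1 → v = 0 := by
    intro v hv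
    obtain ⟨v1, vz, va', vb'⟩ := l.vecs S
    have hQ : ∀ {a : G}, a ∈ Q → ∀ n : ZMod 2, f.vec (a ^ n.val) = if n = 1 then f.vec a else 0 := by
      intro a ha n
      fin_cases n
      · show f.vec (a ^ 0) = _
        rw [pow_zero, v1]; rfl
      · show f.vec (a ^ 1) = _
        rw [pow_one]; rfl
    have h := congrArg f.vec hv
    rw [eV, f.vec_mul _ (mul_mem (pow_mem S.hyp.xt.mem _) (pow_mem l.mem _)) _ (pow_mem (l.memB S) _),
      f.vec_mul _ (pow_mem S.hyp.xt.mem _) _ (pow_mem l.mem _), hQ S.hyp.xt.mem, hQ l.mem, hQ (l.memB S), v1, vz,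
      va', vb'] at h
    have key : ∀ a b c : ZMod 2, (if a = 1 then (0 : V6) else 0) + (if b = 1 then vb else 0) +
        (if c = 1 then F4.w • vb else 0) = 0 → b = 0 ∧ c = 0 := by decide +kernel
    obtain ⟨hb, hc⟩ := key _ _ _ h
    rw [eV, hb, hc, ZMod.val_zero, pow_zero, mul_one, pow_zero, mul_one] at hv
    have ha : v 0 = 0 := by
      by_contra h0
      rw [zmod2_ne _ h0] at hv
      exact S.hyp.xt.ne (by simpa [show (1 : ZMod 2).val = 1 from rfl] using hv)
    funext i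
    fin_cases i <;> assumption
  intro u v h
  have hinv : ∀ w : Fin 3 → ZMod 2, w + w = 0 := fun w => funext fun i => by
    have key : ∀ a : ZMod 2, a + a = 0 := by decide
    exact key _
  have h2 : eV z g (x : G) (u + v) = 1 := by
    rw [l.eV_add S, h, ← l.eV_add S, hinv, l.eV_zero S]
  have := hone _ h2
  funext i
  have key : ∀ a b : ZMod 2, a + b = 0 → a = b := by decide
  exact key _ _ (congrFun this i)

theorem mem_Vs {v : G} : v ∈ Vs z g (x : G) ↔ ∃ u, eV z g (x : G) u = v := by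
  have hz : z ∈ Vs z g (x : G) := Subgroup.subset_closure (by simp)
  have hA : sA z g ∈ Vs z g (x : G) := Subgroup.subset_closure (by simp)
  have hB : sB z g x ∈ Vs z g (x : G) := Subgroup.subset_closure (by simp)
  refine ⟨fun hv => ?_, fun ⟨u, e⟩ => e ▸ mul_mem (mul_mem (pow_mem hz _) (pow_mem hA _)) (pow_mem hB _)⟩
  let φ : Multiplicative (Fin 3 → ZMod 2) →* G :=
    { toFun := fun u => eV z g x u.toAdd
      map_one' := l.eV_zero S
      map_mul' := fun u v => l.eV_add S u.toAdd v.toAdd }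
  have hle : Vs z g (x : G) ≤ φ.range := (Subgroup.closure_le _).2 fun u hu => by
    rcases hu with rfl | rfl | rfl
    · exact ⟨Multiplicative.ofAdd ![1, 0, 0], by simp [φ, eV, show (1 : ZMod 2).val = 1 from rfl]⟩
    · exact ⟨Multiplicative.ofAdd ![0, 1, 0], by simp [φ, eV, show (1 : ZMod 2).val = 1 from rfl]⟩
    · exact ⟨Multiplicative.ofAdd ![0, 0, 1], by simp [φ, eV, show (1 : ZMod 2).val = 1 from rfl]⟩
  obtain ⟨u, hu⟩ := hle hv
  exact ⟨u.toAdd, hu⟩

theorem card_Vs : Nat.card (Vs z g (x : G)) = 8 := by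
  rw [← Nat.card_congr (Equiv.ofBijective (fun u : Fin 3 → ZMod 2 => (⟨eV z g x u, (l.mem_Vs S).2 ⟨u, rfl⟩⟩ :
    Vs z g (x : G))) ⟨fun u v h => l.eV_inj S (congrArg Subtype.val h), fun v => by
      obtain ⟨u, hu⟩ := (l.mem_Vs S).1 v.2
      exact ⟨u, Subtype.ext hu⟩⟩)]
  rw [Nat.card_eq_fintype_card]
  rfl

theorem elem_Vs : Cfsg.IsElementaryAbelian 2 (Vs z g (x : G)) :=
  ⟨⟨⟨fun a b => Subtype.ext (by
    obtain ⟨u, hu⟩ := (l.mem_Vs S).1 a.2
    obtain ⟨v, hv⟩ := (l.mem_Vs S).1 b.2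
    show (a : G) * b = b * a
    rw [← hu, ← hv, ← l.eV_add S, ← l.eV_add S, add_comm])⟩⟩, fun a ha => by
    obtain ⟨u, rfl⟩ := (l.mem_Vs S).1 ha
    rw [pow_two, ← l.eV_add S, show u + u = 0 from funext fun i =>
      (show ∀ a : ZMod 2, a + a = 0 by decide) _, l.eV_zero S]⟩

theorem mem_norm {n : G} (h : ∀ u, n * eV z g (x : G) u * n⁻¹ ∈ Vs z g (x : G)) :
    n ∈ Subgroup.normalizer (Vs z g (x : G) : Set G) := by
  have hle : (Vs z g (x : G)).map (MulAut.conj n).toMonoidHom ≤ Vs z g (x : G) := by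
    rintro _ ⟨v, hv, rfl⟩
    obtain ⟨u, rfl⟩ := (l.mem_Vs S).1 hv
    exact h u
  have heq := Subgroup.eq_of_le_of_card_ge hle
    (le_of_eq (Subgroup.card_map_of_injective (MulAut.conj n).injective).symm)
  refine Subgroup.mem_normalizer_iff.2 fun v => ⟨fun hv => hle ⟨v, hv, rfl⟩, fun hv => ?_⟩
  obtain ⟨v', hv', e⟩ : n * v * n⁻¹ ∈ (Vs z g (x : G)).map (MulAut.conj n).toMonoidHom := heq.symm ▸ hv
  have e' : n * v' * n⁻¹ = n * v * n⁻¹ := e
  exact mul_left_cancel (mul_right_cancel e') ▸ hv'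

theorem eV_single : eV z g (x : G) (Pi.single 0 1) = z ∧ eV z g (x : G) (Pi.single 1 1) = sA z g ∧
    eV z g (x : G) (Pi.single 2 1) = sB z g x := by
  refine ⟨?_, ?_, ?_⟩ <;> simp [eV, Pi.single_apply, show (1 : ZMod 2).val = 1 from rfl]

theorem x_norm : (x : G) ∈ Subgroup.normalizer (Vs z g (x : G) : Set G) := by
  refine l.mem_norm S fun u => ?_
  have hz : z ∈ Vs z g (x : G) := Subgroup.subset_closure (by simp)
  have hA : sA z g ∈ Vs z g (x : G) := Subgroup.subset_closure (by simp)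
  have hB : sB z g x ∈ Vs z g (x : G) := Subgroup.subset_closure (by simp)
  rw [eV, ← conj_mul, ← conj_mul, ← conj_pow, ← conj_pow, ← conj_pow, l.xz.eq, mul_inv_cancel_right, l.eqn]
  exact mul_mem (mul_mem (pow_mem hz _) (pow_mem hB _)) (pow_mem (mul_mem hA hB) _)

/-- elements inducing the transvections -/
theorem exists_transvection {i j : Fin 3} (hij : i ≠ j) :
    ∃ n ∈ Subgroup.normalizer (Vs z g (x : G) : Set G), ∀ q : Fin 3,
      n * eV z g (x : G) (Pi.single q 1) * n⁻¹ = eV z g (x : G)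
        (if q = j then Pi.single q 1 + Pi.single i 1 else Pi.single q 1) := by
  obtain ⟨e0, e1, e2⟩ := l.eV_single S
  let k : Fin 3 → G := ![1, g, (x : G) * g]
  have hk : ∀ q, k q * z * (k q)⁻¹ = eV z g (x : G) (Pi.single q 1) := by
    intro q
    fin_cases q
    · show 1 * z * 1⁻¹ = eV z g (x : G) (Pi.single 0 1)
      rw [e0]; group
    · show g * z * g⁻¹ = eV z g (x : G) (Pi.single 1 1)
      rw [e1]
    · show (x : G) * g * z * ((x : G) * g)⁻¹ = eV z g (x : G) (Pi.single 2 1)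
      rw [e2, conjB]
  have hin : ∀ q q', eV z g (x : G) (Pi.single q' 1) ∈ Qc Q (k q) := by
    intro q q'
    have hV : eV z g (x : G) (Pi.single q' 1) ∈ Vs z g (x : G) := (l.mem_Vs S).2 ⟨_, rfl⟩
    fin_cases q
    · exact mem_Qc_one.2 (l.Vs_le_A S hV).1
    · exact (l.Vs_le_A S hV).2
    · exact l.Vs_le_B S hV
  obtain ⟨m, hmi, hmj⟩ := other_index i j
  obtain ⟨n0, n1, n2, n3, n4⟩ := single_ne i j m hij.symm hmj.symm hmi
  have inj := l.eV_inj S
  obtain ⟨r, -, hb, hc, ha⟩ := S.mover (hk i) (hk m) (inj.ne n4) (hin i m) (hin m i) (hin i j)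
    (fun e => n0 (inj (e.trans (l.eV_zero S).symm))) (inj.ne n1) (inj.ne n2)
    (fun e => n3 (inj (e.trans (l.eV_add S _ _).symm)))
  have hq : ∀ q : Fin 3, r * eV z g (x : G) (Pi.single q 1) * r⁻¹ = eV z g (x : G)
      (if q = j then Pi.single q 1 + Pi.single i 1 else Pi.single q 1) := by
    intro q
    have hcase : q = i ∨ q = j ∨ q = m := by
      have key : ∀ i j m q : Fin 3, i ≠ j → m ≠ i → m ≠ j → q = i ∨ q = j ∨ q = m := by decide
      exact key i j m q hij hmi hmj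
    rcases hcase with rfl | rfl | rfl
    · rw [if_neg hij, hb]
    · rw [if_pos rfl, ha, l.eV_add S]
    · rw [if_neg hmj, hc]
  refine ⟨r, l.mem_norm S fun u => ?_, hq⟩
  have hu : u = (if u 0 = 1 then Pi.single 0 1 else 0) + (if u 1 = 1 then Pi.single 1 1 else 0) +
      (if u 2 = 1 then Pi.single 2 1 else 0) := by
    revert u; decide +kernel
  have hp : ∀ (q : Fin 3) (P : Prop) [Decidable P],
      r * eV z g (x : G) (if P then Pi.single q 1 else 0) * r⁻¹ ∈ Vs z g (x : G) := by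
    intro q P _
    split
    · exact (l.mem_Vs S).2 ⟨_, (hq q).symm⟩
    · rw [l.eV_zero S, mul_one, mul_inv_cancel]; exact one_mem _
  rw [hu, l.eV_add S, l.eV_add S, ← conj_mul, ← conj_mul]
  exact mul_mem (mul_mem (hp 0 _) (hp 1 _)) (hp 2 _)

omit S l in
/-- the normaliser -/
abbrev NV (z g x : G) : Subgroup G := Subgroup.normalizer (Vs z g x : Set G)

theorem exists_rho : ∃ ρ : ↥(NV z g (x : G)) →* Matrix.SpecialLinearGroup (Fin 3) (ZMod 2),
    Function.Surjective ρ ∧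
      ∀ n, ρ n = 1 ↔ Commute (n : G) z ∧ Commute (n : G) (sA z g) ∧ Commute (n : G) (sB z g x) := by
  classical
  set L := NV z g (x : G)
  have hex : ∀ (n : L) (v : Fin 3 → ZMod 2), ∃ u, eV z g (x : G) u = (n : G) * eV z g x v * (n : G)⁻¹ :=
    fun n v => (l.mem_Vs S).1 ((Subgroup.mem_normalizer_iff.1 n.2 _).1 ((l.mem_Vs S).2 ⟨v, rfl⟩))
  choose c hc using hex
  have inj := l.eV_inj S
  let lin : L → ((Fin 3 → ZMod 2) →ₗ[ZMod 2] (Fin 3 → ZMod 2)) := fun n =>
    AddMonoidHom.toZModLinearMap 2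
      { toFun := c n
        map_zero' := inj (by rw [hc, l.eV_zero S, mul_one, mul_inv_cancel])
        map_add' := fun u v => inj (by rw [hc, l.eV_add S, l.eV_add S, hc, hc, conj_mul]) }
  have hlin : ∀ n v, lin n v = c n v := fun _ _ => rfl
  have hmul : ∀ a b, lin (a * b) = (lin a).comp (lin b) := fun a b => LinearMap.ext fun v => by
    rw [LinearMap.comp_apply, hlin, hlin, hlin]
    refine inj ?_
    rw [hc, hc, hc, Subgroup.coe_mul]
    group
  have hone : lin 1 = LinearMap.id := LinearMap.ext fun v => inj (by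
    rw [hlin, hc, OneMemClass.coe_one, one_mul, inv_one, mul_one]; rfl)
  have hdet : ∀ n, (LinearMap.toMatrix' (lin n)).det = 1 := by
    intro n
    refine zmod2_ne _ fun e => ?_
    have h := congrArg Matrix.det (congrArg LinearMap.toMatrix' (hmul n n⁻¹))
    rw [mul_inv_cancel, hone, LinearMap.toMatrix'_id, LinearMap.toMatrix'_comp, Matrix.det_mul, Matrix.det_one,
      e, zero_mul] at h
    exact one_ne_zero h
  let ρ : L →* Matrix.SpecialLinearGroup (Fin 3) (ZMod 2) :=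
    { toFun := fun n => ⟨LinearMap.toMatrix' (lin n), hdet n⟩
      map_one' := Subtype.ext (by show LinearMap.toMatrix' (lin 1) = 1; rw [hone, LinearMap.toMatrix'_id])
      map_mul' := fun a b => Subtype.ext (by
        show LinearMap.toMatrix' (lin (a * b)) = LinearMap.toMatrix' (lin a) * LinearMap.toMatrix' (lin b)
        rw [hmul, LinearMap.toMatrix'_comp]) }
  refine ⟨ρ, fun A => ?_, fun n => ?_⟩
  · obtain ⟨n, hn⟩ := sl_gen {B | ∃ n : L, LinearMap.toMatrix' (lin n) = B}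
      ⟨1, by rw [hone, LinearMap.toMatrix'_id]⟩
      (by rintro _ ⟨a, rfl⟩ _ ⟨b, rfl⟩; exact ⟨a * b, by rw [hmul, LinearMap.toMatrix'_comp]⟩)
      (fun i j hij => by
        obtain ⟨n, hnL, hn⟩ := l.exists_transvection S hij
        refine ⟨⟨n, hnL⟩, Matrix.ext fun p q => ?_⟩
        rw [← transvec_col i j p q hij, LinearMap.toMatrix'_apply]
        refine congrFun (inj ?_) p
        rw [hlin, hc]
        convert hn q using 3) A.1 A.2
    exact ⟨n, Subtype.ext hn⟩
  · obtain ⟨e0, e1, e2⟩ := l.eV_single S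
    constructor
    · intro h
      have hid : lin n = LinearMap.id := LinearMap.toMatrix'.injective (by
        rw [LinearMap.toMatrix'_id]; exact congrArg Subtype.val h)
      have h' : ∀ v, (n : G) * eV z g x v * (n : G)⁻¹ = eV z g x v := fun v => by
        rw [← hc, ← hlin, hid]; rfl
      refine ⟨mul_inv_eq_iff_eq_mul.1 ?_, mul_inv_eq_iff_eq_mul.1 ?_, mul_inv_eq_iff_eq_mul.1 ?_⟩
      · have := h' (Pi.single 0 1); rwa [e0] at this
      · have := h' (Pi.single 1 1); rwa [e1] at this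
      · have := h' (Pi.single 2 1); rwa [e2] at this
    · rintro ⟨h1, h2, h3⟩
      refine Subtype.ext ?_
      show LinearMap.toMatrix' (lin n) = 1
      rw [← LinearMap.toMatrix'_id]
      refine congrArg _ (LinearMap.ext fun v => inj ?_)
      rw [hlin, hc, LinearMap.id_apply, (l.Vs_comm S ((l.mem_Vs S).2 ⟨v, rfl⟩) h1 h2 h3).eq, mul_inv_cancel_right]

theorem Rs_le_NV : Rs f g (x : G) ≤ NV z g (x : G) := fun r hr => l.mem_norm S fun u => by
  have hv : eV z g (x : G) u ∈ Vs z g (x : G) := (l.mem_Vs S).2 ⟨u, rfl⟩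
  rw [(l.Rs_cent S hr hv).eq, mul_inv_cancel_right]
  exact hv

set_option maxHeartbeats 1000000 in
theorem exists_quot : ∃ hn : ((Rs f g (x : G)).subgroupOf (NV z g (x : G))).Normal,
    (Rs f g (x : G)).subgroupOf (NV z g (x : G)) = Cfsg.pCore 2 ↥(NV z g (x : G)) ∧
      Nonempty (↥(NV z g (x : G)) ⧸ (Rs f g (x : G)).subgroupOf (NV z g (x : G)) ≃*
        Matrix.SpecialLinearGroup (Fin 3) (ZMod 2) × ↥(alternatingGroup (Fin 6))) := by
  haveI : Fact (Nat.Prime 2) := ⟨Nat.prime_two⟩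
  set L := NV z g (x : G)
  obtain ⟨ρ, hρs, hρk⟩ : ∃ ρ : ↥L →* Matrix.SpecialLinearGroup (Fin 3) (ZMod 2), Function.Surjective ρ ∧
      ∀ n, ρ n = 1 ↔ Commute (n : G) z ∧ Commute (n : G) (sA z g) ∧ Commute (n : G) (sB z g x) := l.exists_rho S
  set RL := (Rs f g (x : G)).subgroupOf L with hRL
  obtain ⟨hS, hr, -⟩ := Kb_facts
  haveI hSL := sl_three_two_simple
  -- the centraliser
  have hzmem : ∀ d : ρ.ker, ((d : L) : G) ∈ Subgroup.centralizer ({z} : Set G) := fun d =>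
    Subgroup.mem_centralizer_singleton_iff.2 ((hρk d).1 d.2).1
  have hπ : ∀ d : ρ.ker, f.π ⟨((d : L) : G), hzmem d⟩ ∈ Kp ⊓ fixv vb := fun d =>
    l.map_Dc S ▸ ⟨_, mem_Dc.2 ((hρk d).1 d.2).2, rfl⟩
  let toK : ρ.ker →* ↥(Kp ⊓ fixv vb) :=
    { toFun := fun d => ⟨f.π ⟨((d : L) : G), hzmem d⟩, hπ d⟩
      map_one' := Subtype.ext (map_one f.π :)
      map_mul' := fun a b => Subtype.ext (map_mul f.π ⟨((a : L) : G), hzmem a⟩ ⟨((b : L) : G), hzmem b⟩ :) }
  let eA : ↥(alternatingGroup (Fin 6)) ≃* ↥((alternatingGroup (Fin 6)).map duad) :=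
    Subgroup.equivMapOfInjective _ duad duad_inj
  let φ : ρ.ker →* ↥(alternatingGroup (Fin 6)) := eA.symm.toMonoidHom.comp
    (((phiB.comp (Subgroup.inclusion hS)).comp toK).codRestrict ((alternatingGroup (Fin 6)).map duad)
      fun d => hr ▸ ⟨toK d, rfl⟩)
  have hφs : Function.Surjective φ := by
    intro σ
    obtain ⟨⟨p, hp⟩, hpe⟩ : (eA σ : Equiv.Perm (Fin 15)) ∈ (phiB.comp (Subgroup.inclusion hS)).range :=
      hr.symm ▸ (eA σ).2
    obtain ⟨c, hc, rfl⟩ := (l.map_Dc S).ge hp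
    obtain ⟨h1, h2⟩ := mem_Dc.1 hc
    have hcz : Commute (c : G) z := Subgroup.mem_centralizer_singleton_iff.1 c.2
    have hcL : (c : G) ∈ L := l.mem_norm S fun u => by
      have hv : eV z g (x : G) u ∈ Vs z g (x : G) := (l.mem_Vs S).2 ⟨u, rfl⟩
      rw [(l.Vs_comm S hv hcz h1 h2).eq, mul_inv_cancel_right]
      exact hv
    refine ⟨⟨⟨c, hcL⟩, (hρk _).2 ⟨hcz, h1, h2⟩⟩, ?_⟩
    show eA.symm _ = σ
    rw [MulEquiv.symm_apply_eq]
    exact Subtype.ext hpe
  have hφk : ∀ d : ρ.ker, φ d = 1 ↔ ((d : L) : G) ∈ Rs f g (x : G) := by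
    intro d
    show eA.symm _ = 1 ↔ _
    rw [MulEquiv.map_eq_one_iff, Subtype.ext_iff]
    show phiB ⟨f.π ⟨((d : L) : G), hzmem d⟩, hS (hπ d)⟩ = 1 ↔ _
    rw [← mem_KerB]
    constructor
    · intro h
      exact ⟨_, ⟨mem_Dc.2 ((hρk d).1 d.2).2, h⟩, rfl⟩
    · rintro ⟨c, hc, e⟩
      exact (show c = ⟨((d : L) : G), hzmem d⟩ from Subtype.ext e) ▸ hc.2
  have hRker : RL ≤ ρ.ker := fun r hr' => (hρk r).2
    ⟨l.Rs_cent S hr' (Subgroup.subset_closure (by simp)), l.Rs_cent S hr' (Subgroup.subset_closure (by simp)),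
      l.Rs_cent S hr' (Subgroup.subset_closure (by simp))⟩
  have hR2 : IsPGroup 2 RL := by
    refine IsPGroup.of_card (n := 15) ?_
    rw [hRL, Nat.card_congr (Subgroup.subgroupOfEquivOfLe (l.Rs_le_NV S)).toEquiv, l.card_Rs S]
  have htwo : ∀ P : Subgroup ρ.ker, P.Normal → IsPGroup 2 P → P ≤ φ.ker := by
    intro P hPn hP d hd
    haveI : (P.map φ).Normal := hPn.map φ hφs
    have h := two_normal_bot (P.map φ) (hP.map φ)
    exact MonoidHom.mem_ker.2 (Subgroup.mem_bot.1 (h ▸ Subgroup.mem_map_of_mem φ hd))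
  have hk2 : IsPGroup 2 φ.ker :=
    hR2.of_injective
      { toFun := fun d => (⟨(d.1 : L), (hφk d.1).1 (MonoidHom.mem_ker.1 d.2)⟩ : RL)
        map_one' := rfl
        map_mul' := fun _ _ => rfl } fun a b h => Subtype.ext (Subtype.ext (congrArg (fun r : RL => (r : L)) h))
  haveI hn : RL.Normal := by
    refine ⟨fun r hr' n => ?_⟩
    set σ : MulAut ρ.ker := MulAut.conjNormal n
    have h := htwo (φ.ker.map σ.toMonoidHom) ((MonoidHom.normal_ker φ).map _ σ.surjective) (hk2.map _)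
      ⟨⟨r, hRker hr'⟩, MonoidHom.mem_ker.2 ((hφk _).2 hr'), rfl⟩
    have h2 := (hφk _).1 (MonoidHom.mem_ker.1 h)
    rw [hRL, Subgroup.mem_subgroupOf]
    exact h2
  -- the core
  have hcore : RL = Cfsg.pCore 2 L := by
    refine le_antisymm (Fusion.le_pCore hR2) fun n hn' => ?_
    set P := Cfsg.pCore 2 L with hP
    have hP2 : IsPGroup 2 P := Fusion.isPGroup_pCore 2 L
    haveI hPn : P.Normal := inferInstance
    have hPρ : P ≤ ρ.ker := by
      have hbot : P.map ρ = ⊥ := by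
        haveI : (P.map ρ).Normal := hPn.map ρ hρs
        refine (hSL.eq_bot_or_eq_top_of_normal (P.map ρ) inferInstance).resolve_right fun ht => ?_
        have hxL : (x : G) ∈ L := l.x_norm S
        obtain ⟨k, hk⟩ := (hP2.map ρ) ⟨ρ ⟨x, hxL⟩, ht ▸ Subgroup.mem_top _⟩
        have hk' : ρ ⟨x, hxL⟩ ^ 2 ^ k = 1 := congrArg Subtype.val hk
        have h3 : ρ ⟨x, hxL⟩ ^ 3 = 1 := by
          rw [← map_pow, show (⟨x, hxL⟩ : L) ^ 3 = 1 from Subtype.ext (by
            show (x : G) ^ 3 = 1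
            rw [← SubmonoidClass.coe_pow, l.xel.cube]; rfl), map_one]
        have h1 : ρ ⟨x, hxL⟩ = 1 := by
          rw [← orderOf_eq_one_iff]
          exact Nat.eq_one_of_dvd_coprimes (Nat.Coprime.pow_left k (by norm_num : Nat.Coprime 2 3))
            (orderOf_dvd_of_pow_eq_one hk') (orderOf_dvd_of_pow_eq_one h3)
        obtain ⟨-, hs, -⟩ := (hρk _).1 h1
        refine (l.B_ne S).2.2.1 ?_
        show (x : G) * sA z g * (x : G)⁻¹ = sA z g
        rw [hs.eq, mul_inv_cancel_right]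
      intro a ha
      exact MonoidHom.mem_ker.2 (Subgroup.mem_bot.1 (hbot ▸ Subgroup.mem_map_of_mem ρ ha))
    have h := htwo (P.subgroupOf ρ.ker) inferInstance
      ((hP2.to_le le_rfl).comap_of_injective ρ.ker.subtype Subtype.val_injective)
      (x := ⟨n, hPρ hn'⟩) hn'
    exact (hφk _).1 (MonoidHom.mem_ker.1 h)
  refine ⟨hn, hcore, ?_⟩
  -- the direct product
  let q := QuotientGroup.mk' RL
  haveI : ((ρ.ker).map q).Normal := (MonoidHom.normal_ker ρ).map q (QuotientGroup.mk'_surjective _)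
  set K : Subgroup L := (Subgroup.centralizer (((ρ.ker).map q : Subgroup (L ⧸ RL)) : Set (L ⧸ RL))).comap q with hK
  have hqeq : ∀ a b : L, q a * q b = q b * q a ↔ a * b * a⁻¹ * b⁻¹ ∈ RL := by
    intro a b
    rw [← QuotientGroup.eq_one_iff, ← QuotientGroup.mk'_apply, map_mul, map_mul, map_mul, map_inv, map_inv,
      mul_inv_eq_one, mul_inv_eq_iff_eq_mul]
  have hmemK : ∀ k, k ∈ K ↔ ∀ d ∈ ρ.ker, k * d * k⁻¹ * d⁻¹ ∈ RL := by
    intro k
    rw [hK, Subgroup.mem_comap, Subgroup.mem_centralizer_iff]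
    constructor
    · exact fun h d hd => (hqeq k d).1 (h _ ⟨d, hd, rfl⟩).symm
    · rintro h _ ⟨d, hd, rfl⟩
      exact ((hqeq k d).2 (h d hd)).symm
  haveI : K.Normal := by rw [hK]; infer_instance
  have hxL : (x : G) ∈ L := l.x_norm S
  have hxK : (⟨x, hxL⟩ : L) ∈ K := by
    refine (hmemK _).2 fun d hd => ?_
    have hd' : (⟨x, hxL⟩ : L) * d * (⟨x, hxL⟩ : L)⁻¹ * d⁻¹ ∈ ρ.ker :=
      mul_mem ((MonoidHom.normal_ker ρ).conj_mem d hd _) (inv_mem hd)
    rw [hRL, Subgroup.mem_subgroupOf]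
    refine l.C2_le_Rs S (mem_C2.2 ⟨?_, ((hρk _).1 hd').2⟩)
    show (x : G) * (d : G) * (x : G)⁻¹ * (d : G)⁻¹ ∈ Q
    have hK' := hπ ⟨d, hd⟩
    refine (f.ker (x * ⟨(d : G), hzmem ⟨d, hd⟩⟩ * x⁻¹ * ⟨(d : G), hzmem ⟨d, hd⟩⟩⁻¹)).1 ?_
    rw [map_mul, map_mul, map_mul, map_inv, map_inv, mul_inv_eq_one, mul_inv_eq_iff_eq_mul]
    exact Equiv.ext fun v => by
      rw [Equiv.Perm.mul_apply, Equiv.Perm.mul_apply, l.xel.img, l.xel.img, scal_comm hK'.1]
  have hKρ : K.map ρ = ⊤ := by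
    haveI : (K.map ρ).Normal := (inferInstance : K.Normal).map ρ hρs
    refine (hSL.eq_bot_or_eq_top_of_normal (K.map ρ) inferInstance).resolve_left fun hb => ?_
    obtain ⟨-, hs, -⟩ := (hρk _).1 (Subgroup.mem_bot.1 (hb ▸ Subgroup.mem_map_of_mem ρ hxK))
    refine (l.B_ne S).2.2.1 ?_
    show (x : G) * sA z g * (x : G)⁻¹ = sA z g
    rw [hs.eq, mul_inv_cancel_right]
  let qK : ρ.ker →* L ⧸ K := (QuotientGroup.mk' K).comp ρ.ker.subtype
  have hqKs : Function.Surjective qK := by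
    intro y
    obtain ⟨n, rfl⟩ := QuotientGroup.mk_surjective y
    obtain ⟨k, hk, hke⟩ : ρ n ∈ K.map ρ := hKρ ▸ Subgroup.mem_top _
    refine ⟨⟨k⁻¹ * n, MonoidHom.mem_ker.2 (by rw [map_mul, map_inv, hke, inv_mul_cancel])⟩, ?_⟩
    show QuotientGroup.mk' K (k⁻¹ * n) = QuotientGroup.mk n
    rw [map_mul, map_inv, show QuotientGroup.mk' K k = 1 from (QuotientGroup.eq_one_iff k).2 hk, inv_one, one_mul]
    rfl
  have hkeq : φ.ker = qK.ker := by
    ext d
    rw [MonoidHom.mem_ker, MonoidHom.mem_ker]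
    show _ ↔ QuotientGroup.mk' K (d : L) = 1
    rw [QuotientGroup.mk'_apply, QuotientGroup.eq_one_iff, hmemK]
    constructor
    · intro h b hb
      have h1 : (d : L) ∈ RL := (hφk d).1 h
      rw [show (d : L) * b * (d : L)⁻¹ * b⁻¹ = (d : L) * (b * (d : L)⁻¹ * b⁻¹) by group]
      exact mul_mem h1 (hn.conj_mem _ (inv_mem h1) b)
    · intro h
      rw [← Subgroup.mem_bot, ← alt_center, Subgroup.mem_center_iff]
      intro σ
      obtain ⟨b, rfl⟩ := hφs σ
      have h1 : φ (d * b * d⁻¹ * b⁻¹) = 1 := (hφk _).2 (h b b.2)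
      rw [map_mul, map_mul, map_mul, map_inv, map_inv, mul_inv_eq_one, mul_inv_eq_iff_eq_mul] at h1
      exact h1.symm
  let e : ↥(alternatingGroup (Fin 6)) ≃* L ⧸ K :=
    (QuotientGroup.quotientKerEquivOfSurjective φ hφs).symm.trans
      ((QuotientGroup.quotientMulEquivOfEq hkeq).trans (QuotientGroup.quotientKerEquivOfSurjective qK hqKs))
  let ψ : L →* ↥(alternatingGroup (Fin 6)) := e.symm.toMonoidHom.comp (QuotientGroup.mk' K)
  have hψ : ∀ n, ψ n = 1 ↔ n ∈ K := fun n => by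
    show e.symm (QuotientGroup.mk' K n) = 1 ↔ _
    rw [MulEquiv.map_eq_one_iff, QuotientGroup.mk'_apply, QuotientGroup.eq_one_iff]
  let Θ := ρ.prod ψ
  have hΘs : Function.Surjective Θ := by
    rintro ⟨a, b⟩
    obtain ⟨n, rfl⟩ := hρs a
    obtain ⟨d, hd⟩ := hqKs (e ((ψ n)⁻¹ * b))
    refine ⟨n * (d : L), Prod.ext ?_ ?_⟩
    · show ρ (n * (d : L)) = ρ n
      rw [map_mul, MonoidHom.mem_ker.1 d.2, mul_one]
    · show ψ (n * (d : L)) = b
      rw [map_mul, show ψ (d : L) = (ψ n)⁻¹ * b from (MulEquiv.symm_apply_eq e).2 hd, mul_inv_cancel_left]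
  have hΘk : Θ.ker = RL := by
    ext n
    rw [MonoidHom.mem_ker]
    show (ρ n, ψ n) = 1 ↔ _
    rw [Prod.mk_eq_one, hψ]
    constructor
    · rintro ⟨h1, h2⟩
      have h3 : qK ⟨n, h1⟩ = 1 := (QuotientGroup.eq_one_iff n).2 h2
      rw [← MonoidHom.mem_ker, ← hkeq, MonoidHom.mem_ker] at h3
      exact (hφk _).1 h3
    · intro h
      have h3 : (⟨n, hRker h⟩ : ρ.ker) ∈ qK.ker := hkeq ▸ MonoidHom.mem_ker.2 ((hφk _).2 h)
      exact ⟨hRker h, (QuotientGroup.eq_one_iff n).1 (MonoidHom.mem_ker.1 h3)⟩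
  exact ⟨(QuotientGroup.quotientMulEquivOfEq hΘk.symm).trans (QuotientGroup.quotientKerEquivOfSurjective Θ hΘs)⟩

theorem conj_Rs {n r : G} (hn : n ∈ NV z g (x : G)) (hr : r ∈ Rs f g (x : G)) :
    n * r * n⁻¹ ∈ Rs f g (x : G) := by
  obtain ⟨hN, -⟩ := l.exists_quot S
  exact hN.conj_mem ⟨r, l.Rs_le_NV S hr⟩ hr ⟨n, hn⟩

theorem special : Cfsg.IsSpecial 2 ↥(Rs f g (x : G)) ∧
    (Subgroup.center ↥(Rs f g (x : G))).map (Rs f g (x : G)).subtype = Vs z g (x : G) := by
  haveI : Fact (Nat.Prime 2) := ⟨Nat.prime_two⟩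
  set R := Rs f g (x : G) with hR
  have hP : IsPGroup 2 R := IsPGroup.of_card (n := 15) (l.card_Rs S)
  have hmem : ∀ c : R, c ∈ Subgroup.center R ↔ (c : G) ∈ Vs z g (x : G) := fun c =>
    ⟨fun h => l.cen_Rs S c.2 fun r hr => (congrArg Subtype.val (Subgroup.mem_center_iff.1 h ⟨r, hr⟩)).symm,
      fun h => Subgroup.mem_center_iff.2 fun r => Subtype.ext (l.Rs_cent S r.2 h).eq⟩
  have hcen : (Subgroup.center R).map R.subtype = Vs z g (x : G) := by
    ext v
    exact ⟨fun ⟨c, hc, e⟩ => e ▸ (hmem c).1 hc, fun h => ⟨⟨v, l.Vs_le_Rs S h⟩, (hmem _).2 h, rfl⟩⟩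
  have hcomm : commutator R = Subgroup.center R := by
    refine le_antisymm ?_ ?_
    · rw [commutator_def, Subgroup.commutator_le]
      intro a _ b _
      exact (hmem _).2 ((l.Rs_comm S a a.2).1 b b.2)
    · refine (Subgroup.map_le_map_iff_of_injective R.subtype_injective).1 ?_
      rw [hcen, commutator_def, Subgroup.map_commutator, ← MonoidHom.range_eq_map, Subgroup.range_subtype]
      obtain ⟨a, ha, b, hb, hab⟩ := l.z_comm S
      have hall : ∀ n ∈ NV z g (x : G), n * z * n⁻¹ ∈ ⁅R, R⁆ := fun n hn => by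
        have h := Subgroup.commutator_mem_commutator (l.conj_Rs S hn ha) (l.conj_Rs S hn hb)
        rwa [commutatorElement_def, show n * a * n⁻¹ * (n * b * n⁻¹) * (n * a * n⁻¹)⁻¹ * (n * b * n⁻¹)⁻¹ =
          n * (a * b * a⁻¹ * b⁻¹) * n⁻¹ by group, hab] at h
      obtain ⟨r1, hr1, h1⟩ := l.exists_transvection S (i := 1) (j := 0) (by decide)
      obtain ⟨r2, hr2, h2⟩ := l.exists_transvection S (i := 0) (j := 1) (by decide)
      obtain ⟨e0, e1, e2⟩ := l.eV_single S
      have hs : r2 * r1 * z * (r2 * r1)⁻¹ = sA z g := by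
        have a1 := h1 0
        rw [if_pos rfl, l.eV_add S, e0, e1] at a1
        have a2 := h2 0
        rw [if_neg (by decide), e0] at a2
        have a3 := h2 1
        rw [if_pos rfl, l.eV_add S, e0, e1] at a3
        rw [show r2 * r1 * z * (r2 * r1)⁻¹ = r2 * (r1 * z * r1⁻¹) * r2⁻¹ by group, a1, ← conj_mul, a2, a3,
          ← mul_assoc, (l.cSA S).eq, mul_assoc, S.hyp.xt.sq, mul_one]
      refine (Subgroup.closure_le _).2 fun u hu => ?_
      rcases hu with rfl | rfl | rfl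
      · simpa using hall 1 (one_mem _)
      · exact hs ▸ hall _ (mul_mem hr2 hr1)
      · have := hall _ (mul_mem (l.x_norm S) (mul_mem hr2 hr1))
        rwa [show (x : G) * (r2 * r1) * z * ((x : G) * (r2 * r1))⁻¹ = (x : G) * (r2 * r1 * z * (r2 * r1)⁻¹) * (x : G)⁻¹
          by group, hs] at this
  refine ⟨⟨hP, le_antisymm ?_ (hcomm ▸ Solv.commutator_le_frattini_pgroup (p := 2) hP), hcomm⟩, hcen⟩
  refine Solv.frattini_le (p := 2) _ (fun a b => (hmem _).2 ((l.Rs_comm S a a.2).1 b b.2)) fun a => (hmem _).2 ?_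
  rw [SubmonoidClass.coe_pow, pow_two]
  exact (l.Rs_comm S a a.2).2

end Line

/-- the local subgroup -/
theorem Setup.eight_local (S : Setup z Q N M) : ∃ V : Subgroup G, Cfsg.IsElementaryAbelian 2 V ∧ Nat.card V = 8 ∧
    z ∈ V ∧ ∃ R : Subgroup G,
      R = (Cfsg.pCore 2 ↥(Subgroup.normalizer (V : Set G))).map (Subgroup.normalizer (V : Set G)).subtype ∧
      Cfsg.IsSpecial 2 ↥R ∧ Nat.card R = 2 ^ 15 ∧ (Subgroup.center ↥R).map R.subtype = V ∧
      ∃ _ : (R.subgroupOf (Subgroup.normalizer (V : Set G))).Normal,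
        Nonempty (↥(Subgroup.normalizer (V : Set G)) ⧸ R.subgroupOf (Subgroup.normalizer (V : Set G)) ≃*
          Matrix.SpecialLinearGroup (Fin 3) (ZMod 2) × ↥(alternatingGroup (Fin 6))) := by
  obtain ⟨f⟩ := S.hyp.exists_frame
  obtain ⟨x, g, l⟩ := S.exists_Line f
  obtain ⟨hn, hc, he⟩ := l.exists_quot S
  obtain ⟨hsp, hcen⟩ := l.special S
  refine ⟨_, l.elem_Vs S, l.card_Vs S, Subgroup.subset_closure (by simp), _, ?_, hsp, l.card_Rs S, hcen, hn, he⟩
  rw [← hc, Subgroup.map_subgroupOf_eq_of_le (l.Rs_le_NV S)]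

end Cfsg.Agent.Spor.LFT
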