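import Cfsg.Agent.Lib.Spor.LFTFourGroup
import Cfsg.Agent.Lib.Spor.CHZ.MainCore

/-!
Large Fischer type: the centraliser of the four-group is a central extension of PSU(6,2).
-/

set_option autoImplicit false
set_option maxRecDepth 100000
set_option linter.unusedSectionVars false

namespace Cfsg.Agent.Spor.LFT

open Cfsg.Agent.Spor.SUSix (V6 code)
open Cfsg.Agent.Spor.SpFour (F4)
open Cfsg.Agent.Small.Unitary (herm)
open Cfsg.Agent.Spor.U43 (mat)
open Matrix

attribute [local irreducible] KerB phiA phiB CmpS Cmp Pw.blkP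

universe u

variable {G : Type u} [Group G] [Finite G] {z : G} {Q N M : Subgroup G} {f : Frame z Q M} {t t' : G}

namespace FPair

variable (S : Setup z Q N M) (P : FPair f t t')

/-- the centraliser of the four-group -/
def CE : Subgroup G := Subgroup.centralizer (P.E : Set G)

theorem mem_CE {y : G} : y ∈ P.CE ↔ Commute y t ∧ Commute y t' :=
  ⟨fun h => ⟨(Subgroup.mem_centralizer_iff.1 h t P.t_mem).symm, (Subgroup.mem_centralizer_iff.1 h t' P.t'_mem).symm⟩,
    fun h => Subgroup.mem_centralizer_iff.2 fun e he => (P.comm_E h.1 h.2 he).symm⟩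

theorem E_le_CE : P.E ≤ P.CE := fun _ he => P.mem_CE.2 ⟨P.E_comm he P.t_mem, P.E_comm he P.t'_mem⟩

theorem CE_comm {y : G} (hy : y ∈ P.CE) {e : G} (he : e ∈ P.E) : Commute y e :=
  (Subgroup.mem_centralizer_iff.1 hy e he).symm

instance normal_E : (P.E.subgroupOf P.CE).Normal := by
  refine ⟨fun e he y => ?_⟩
  rw [Subgroup.mem_subgroupOf] at he ⊢
  show (y : G) * (e : G) * (y : G)⁻¹ ∈ P.E
  rwa [(P.CE_comm y.2 he).eq, mul_inv_cancel_right]

/-- the quotient -/
abbrev QX : Type u := ↥P.CE ⧸ P.E.subgroupOf P.CE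

theorem mk_eq_iff {a b : ↥P.CE} :
    (QuotientGroup.mk a : P.QX) = QuotientGroup.mk b ↔ ∃ e ∈ P.E, (b : G) = a * e := by
  rw [QuotientGroup.eq, Subgroup.mem_subgroupOf]
  constructor
  · intro h; exact ⟨_, h, by simp⟩
  · rintro ⟨e, he, hb⟩; simpa [hb] using he

include S P

theorem K_le_CE {r : G} (hr : r ∈ P.K) : r ∈ P.CE := P.mem_CE.2 (P.mem_K.1 hr).2

theorem E_z {e : G} (he : e ∈ P.E) : Commute z e := S.hyp.xt.cen e (P.E_le he)

/-- the element in the quotient -/
def zb : P.QX := QuotientGroup.mk ⟨z, P.mem_CE.2 ⟨P.E_z S P.t_mem, P.E_z S P.t'_mem⟩⟩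

theorem commute_zb (y : ↥P.CE) : Commute (QuotientGroup.mk y : P.QX) (P.zb S) ↔ Commute (y : G) z := by
  constructor
  · intro h
    obtain ⟨e, he, h'⟩ := P.mk_eq_iff.1 (show (QuotientGroup.mk (y * _) : P.QX) = QuotientGroup.mk (_ * y) from h)
    change z * (y : G) = (y : G) * z * e at h'
    by_cases h1 : e = 1
    · subst h1; rw [mul_one] at h'; exact h'.symm
    · exfalso
      refine P.z_mul_not_conj S he h1 (isConj_iff.2 ⟨(y : G)⁻¹, ?_⟩)
      rw [inv_inv, mul_assoc, h', ← mul_assoc, ← mul_assoc, inv_mul_cancel, one_mul]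
  · intro h
    exact P.mk_eq_iff.2 ⟨1, one_mem _, by rw [mul_one]; exact h.symm.eq⟩

/-- the elements centralising the involution and the four-group -/
def HC : Subgroup (Subgroup.centralizer ({z} : Set G)) := P.CE.comap (Subgroup.centralizer ({z} : Set G)).subtype

theorem HC_fix (c : ↥P.HC) :
    f.π c.1 ∈ Kp ∧ f.π c.1 (f.vec t) = f.vec t := by
  have hc := P.mem_CE.1 c.2
  have e1 : ((c.1 : Subgroup.centralizer ({z} : Set G)) : G) * t * ((c.1 : Subgroup.centralizer ({z} : Set G)) : G)⁻¹ = t :=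
    mul_inv_eq_iff_eq_mul.2 hc.1.eq
  have e2 : ((c.1 : Subgroup.centralizer ({z} : Set G)) : G) * t' * ((c.1 : Subgroup.centralizer ({z} : Set G)) : G)⁻¹ = t' :=
    mul_inv_eq_iff_eq_mul.2 hc.2.eq
  have h1 := (f.vec_conj c.1 t P.tQ).symm.trans (congrArg f.vec e1)
  have h2 := (f.vec_conj c.1 t' P.tQ').symm.trans (congrArg f.vec e2)
  rw [P.vec'] at h2
  exact ⟨Pw.fix_two_Kp ((S.range_pi f _).2 ⟨_, rfl⟩) P.vne h1 h2, h1⟩

omit S P in
/-- conjugation of a stabiliser -/
theorem cj_mem {p : PV} (hp : p ∈ Kp) {v : V6} (hpv : p va = v) {q : PV} (hq : q ∈ Kp) (hqv : q v = v) :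
    p⁻¹ * q * p ∈ Kp ⊓ fixv va := by
  refine ⟨Kp.mul_mem (Kp.mul_mem (Kp.inv_mem hp) hq) hp, ?_⟩
  show p⁻¹ (q (p va)) = va
  rw [hpv, hqv, ← hpv]
  exact p.symm_apply_apply va

/-- the map onto SU(4,2) -/
noncomputable def chi {p : PV} (hp : p ∈ Kp) (hpv : p va = f.vec t) : ↥P.HC →* CHZ.L :=
  Pw.blkP.toMonoidHom.comp
    { toFun := fun c => ⟨p⁻¹ * f.π c.1 * p, cj_mem hp hpv (P.HC_fix S c).1 (P.HC_fix S c).2⟩
      map_one' := Subtype.ext (show p⁻¹ * f.π (1 : Subgroup.centralizer ({z} : Set G)) * p = 1 by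
        rw [map_one, mul_one, inv_mul_cancel])
      map_mul' := fun a b => Subtype.ext (show p⁻¹ * f.π (a.1 * b.1) * p = p⁻¹ * f.π a.1 * p * (p⁻¹ * f.π b.1 * p) by
        rw [map_mul]; group) }

theorem chi_val {p : PV} (hp : p ∈ Kp) (hpv : p va = f.vec t) (c : ↥P.HC) :
    P.chi S hp hpv c = Pw.blkP ⟨p⁻¹ * f.π c.1 * p, cj_mem hp hpv (P.HC_fix S c).1 (P.HC_fix S c).2⟩ := rfl

theorem chi_congr {p : PV} (hp : p ∈ Kp) (hpv : p va = f.vec t) {a b : ↥P.HC} (h : f.π a.1 = f.π b.1) :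
    P.chi S hp hpv a = P.chi S hp hpv b := by
  rw [chi_val, chi_val]
  exact congrArg Pw.blkP (Subtype.ext (show p⁻¹ * f.π a.1 * p = p⁻¹ * f.π b.1 * p by rw [h]))

theorem chi_ker {p : PV} (hp : p ∈ Kp) (hpv : p va = f.vec t) (c : ↥P.HC) :
    P.chi S hp hpv c = 1 ↔ ((c.1 : Subgroup.centralizer ({z} : Set G)) : G) ∈ Q := by
  rw [chi_val, ← f.ker, MulEquiv.map_eq_one_iff, Subtype.ext_iff, OneMemClass.coe_one]
  exact conj_eq_one_iff' _ _
where
  conj_eq_one_iff' (p q : PV) : p⁻¹ * q * p = 1 ↔ q = 1 := by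
    constructor
    · intro h
      calc q = p * (p⁻¹ * q * p) * p⁻¹ := by group
        _ = 1 := by rw [h]; group
    · rintro rfl; group

theorem chi_surj {p : PV} (hp : p ∈ Kp) (hpv : p va = f.vec t) : Function.Surjective (P.chi S hp hpv) := by
  intro k
  obtain ⟨⟨r, hr, hrv⟩, rfl⟩ := Pw.blkP.surjective k
  obtain ⟨c0, hc0⟩ := f.surj (p * r * p⁻¹) (mul_mem (mul_mem hp hr) (inv_mem hp))
  have hc0z : Commute (c0 : G) z := Subgroup.mem_centralizer_singleton_iff.1 c0.2
  have hv : f.π c0 (f.vec t) = f.vec t := by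
    rw [hc0, ← hpv]
    show p (r (p⁻¹ (p va))) = p va
    rw [show p⁻¹ (p va) = va from p.symm_apply_apply va, show r va = va from hrv]
  have hv' : f.π c0 (f.vec t') = f.vec t' := by
    rw [P.vec', scal_comm (by rw [hc0]; exact mul_mem (mul_mem hp hr) (inv_mem hp)), hv]
  have h1 : (c0 : G) * t * (c0 : G)⁻¹ = t ∨ (c0 : G) * t * (c0 : G)⁻¹ = t * z :=
    (f.vec_eq t P.tQ _ (S.hyp.normQ _ hc0z t P.tQ)).1 (by rw [f.vec_conj c0 t P.tQ, hv])
  have h2 : (c0 : G) * t' * (c0 : G)⁻¹ = t' ∨ (c0 : G) * t' * (c0 : G)⁻¹ = t' * z :=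
    (f.vec_eq t' P.tQ' _ (S.hyp.normQ _ hc0z t' P.tQ')).1 (by rw [f.vec_conj c0 t' P.tQ', hv'])
  obtain ⟨q, hq, hq1, hq2⟩ := P.exists_sign S ((c0 : G) * t * (c0 : G)⁻¹ = t) ((c0 : G) * t' * (c0 : G)⁻¹ = t')
  have hqz : Commute q z := (S.hyp.xt.cen q hq).symm
  have fix : ∀ e : G, e ∈ Q → ((c0 : G) * e * (c0 : G)⁻¹ = e ∨ (c0 : G) * e * (c0 : G)⁻¹ = e * z) →
      (Commute q e ↔ (c0 : G) * e * (c0 : G)⁻¹ = e) → Commute (q * (c0 : G)) e := by
    intro e he hd hiff
    refine mul_inv_eq_iff_eq_mul.1 ?_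
    rw [show q * (c0 : G) * e * (q * (c0 : G))⁻¹ = q * ((c0 : G) * e * (c0 : G)⁻¹) * q⁻¹ by group]
    by_cases h : (c0 : G) * e * (c0 : G)⁻¹ = e
    · rw [h, (hiff.2 h).eq, mul_inv_cancel_right]
    · rw [hd.resolve_left h, ← conj_mul, hqz.eq, mul_inv_cancel_right,
        S.hyp.xt.move hq he (fun hh => h (hiff.1 hh)), mul_assoc, S.hyp.xt.sq, mul_one]
  set qC : Subgroup.centralizer ({z} : Set G) := ⟨q, Subgroup.mem_centralizer_singleton_iff.2 hqz⟩
  refine ⟨⟨qC * c0, P.mem_CE.2 ⟨fix t P.tQ h1 hq1, fix t' P.tQ' h2 hq2⟩⟩, ?_⟩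
  rw [chi_val]
  refine congrArg Pw.blkP (Subtype.ext ?_)
  show p⁻¹ * f.π (qC * c0) * p = r
  rw [map_mul, (f.ker qC).2 hq, one_mul, hc0]
  group

/-- elements of the neighbouring centraliser moving nothing -/
theorem self_cent {p : PV} (hp : p ∈ Kp) (hpv : p va = f.vec t) (c : ↥P.HC)
    (h : ∀ r ∈ P.K, ∃ e ∈ P.E, ((c.1 : Subgroup.centralizer ({z} : Set G)) : G) * r *
      ((c.1 : Subgroup.centralizer ({z} : Set G)) : G)⁻¹ = e * r) :
    ((c.1 : Subgroup.centralizer ({z} : Set G)) : G) ∈ Q := by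
  obtain ⟨hk, hkv⟩ := P.HC_fix S c
  obtain ⟨hq, hqv⟩ := cj_mem hp hpv hk hkv
  have hone := Pw.eq_one_of_move hq hqv fun j => ?_
  · refine (f.ker _).1 ?_
    calc f.π c.1 = p * (p⁻¹ * f.π c.1 * p) * p⁻¹ := by group
      _ = 1 := by rw [hone]; group
  obtain ⟨r, hr, hrv⟩ := f.vec_surj (p (Pi.single (Pw.up j) 1))
  have hperp : herm (f.vec t) (f.vec r) = 0 := by
    rw [hrv, ← hpv]
    obtain ⟨B, -, rfl⟩ := hp
    exact (Small.Unitary.herm_act F4.star_eq_pow B _ _).trans (Pw.herm_va_up j)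
  have hK : r ∈ P.K := P.mem_K.2 ⟨hr, (FPair.commute_of_herm S P.tQ hr hperp).symm,
    (FPair.commute_of_herm S P.tQ' hr (by
      rw [P.vec', Small.Unitary.herm_smul_left, hperp, mul_zero])).symm⟩
  obtain ⟨e, he, heq⟩ := h r hK
  obtain ⟨d, hd⟩ := P.vec_E S he
  refine ⟨d, ?_⟩
  have h1 := (f.vec_conj c.1 r hr).symm.trans (congrArg f.vec heq)
  rw [f.vec_mul e (P.E_le he) r hr, hd, hrv] at h1
  show p⁻¹ (f.π c.1 (p (Pi.single (Pw.up j) 1))) = _
  rw [h1, ← hpv, add_comm, ← scal_comm hp]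
  obtain ⟨B, -, rfl⟩ := hp
  rw [show act B (Pi.single (Pw.up j) 1) + act B (d • va) = act B (Pi.single (Pw.up j) 1 + d • va) from
    (show mat B *ᵥ Pi.single (Pw.up j) 1 + mat B *ᵥ (d • va) = mat B *ᵥ (Pi.single (Pw.up j) 1 + d • va) from
      (Matrix.mulVec_add _ _ _).symm)]
  exact (act B).symm_apply_apply _

theorem exists_core : ∃ C : CHZ.Core (P.zb S), Nat.card C.Q = 512 := by
  classical
  have hI : PI (f.vec t) := by
    refine (PI_iff _).2 ⟨P.vne, (f.sq_iff t P.tQ).1 P.sq⟩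
  obtain ⟨p, hp, hpv⟩ := (Spor.LFT.trans hI).1 P.pa
  set X := P.QX
  set mkX : ↥P.CE →* X := QuotientGroup.mk' (P.E.subgroupOf P.CE)
  set Qb : Subgroup X := (P.K.subgroupOf P.CE).map mkX
  have hQb : ∀ {x : X}, x ∈ Qb → ∃ r : ↥P.CE, (r : G) ∈ P.K ∧ (QuotientGroup.mk r : X) = x :=
    fun hx => by obtain ⟨r, hr, e⟩ := Subgroup.mem_map.1 hx; exact ⟨r, hr, e⟩
  have memQb : ∀ r : ↥P.CE, (r : G) ∈ P.K → (QuotientGroup.mk r : X) ∈ Qb := fun r hr => ⟨r, hr, rfl⟩
  have rep : ∀ x : ↥(Subgroup.centralizer ({P.zb S} : Set X)), ∃ c : ↥P.HC,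
      (QuotientGroup.mk ⟨((c.1 : Subgroup.centralizer ({z} : Set G)) : G), c.2⟩ : X) = x := by
    intro x
    obtain ⟨y, hy⟩ := QuotientGroup.mk_surjective x.1
    have := (P.commute_zb S y).1 (hy ▸ Subgroup.mem_centralizer_singleton_iff.1 x.2)
    exact ⟨⟨⟨y, Subgroup.mem_centralizer_singleton_iff.2 this⟩, y.2⟩, hy⟩
  choose r hr using rep
  have repi : ∀ (x : ↥(Subgroup.centralizer ({P.zb S} : Set X))) (c : ↥P.HC),
      (QuotientGroup.mk ⟨((c.1 : Subgroup.centralizer ({z} : Set G)) : G), c.2⟩ : X) = x →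
      P.chi S hp hpv (r x) = P.chi S hp hpv c := by
    intro x c hc
    obtain ⟨e, he, h'⟩ := P.mk_eq_iff.1 ((hr x).trans hc.symm)
    refine P.chi_congr S hp hpv ?_
    have : c.1 = (r x).1 * ⟨e, Subgroup.mem_centralizer_singleton_iff.2 (P.E_z S he).symm⟩ := Subtype.ext h'
    rw [this, map_mul, (f.ker ⟨e, _⟩).2 (P.E_le he), mul_one]
  let ψ : ↥(Subgroup.centralizer ({P.zb S} : Set X)) →* CHZ.L :=
    MonoidHom.mk' (fun x => P.chi S hp hpv (r x)) fun a b => by
      rw [← map_mul]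
      refine repi _ _ ?_
      refine Eq.trans ?_ ((congrArg₂ (· * ·) (hr a) (hr b)).trans (Subgroup.coe_mul _ a b).symm)
      rfl
  have hQK : ∀ y : ↥P.CE, (QuotientGroup.mk y : X) ∈ Qb ↔ (y : G) ∈ Q := by
    intro y
    constructor
    · intro h
      obtain ⟨k, hk, e⟩ := hQb h
      obtain ⟨e', he', h'⟩ := P.mk_eq_iff.1 e
      rw [h']
      exact mul_mem (P.mem_K.1 hk).1 (P.E_le he')
    · exact fun h => memQb y (P.mem_K.2 ⟨h, P.mem_CE.1 y.2⟩)
  have hcard : Nat.card Qb = 512 := by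
    have hle : P.E.subgroupOf P.CE ≤ P.K.subgroupOf P.CE := fun e he => P.E_le_K he
    have h1 := Subgroup.card_eq_card_quotient_mul_card_subgroup (mkX.comp (P.K.subgroupOf P.CE).subtype).ker
    rw [Nat.card_congr (QuotientGroup.quotientKerEquivRange _).toEquiv, MonoidHom.range_comp,
      Subgroup.range_subtype, ← MonoidHom.comap_ker, QuotientGroup.ker_mk'] at h1
    change _ = _ * Nat.card ↥((P.E.subgroupOf P.CE).subgroupOf (P.K.subgroupOf P.CE)) at h1
    rw [Nat.card_congr (Subgroup.subgroupOfEquivOfLe hle).toEquiv,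
      Nat.card_congr (Subgroup.subgroupOfEquivOfLe P.E_le_CE).toEquiv,
      Nat.card_congr (Subgroup.subgroupOfEquivOfLe (fun _ h => P.K_le_CE S h : P.K ≤ P.CE)).toEquiv,
      P.card_K S, P.card_E S] at h1
    change 2 ^ 11 = Nat.card Qb * 4 at h1
    omega
  exact ⟨{ Q := Qb
           ψ := ψ
           ψ_surj := fun k => by
             obtain ⟨c, hc⟩ := P.chi_surj S hp hpv k
             refine ⟨⟨QuotientGroup.mk ⟨((c.1 : Subgroup.centralizer ({z} : Set G)) : G), c.2⟩,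
               Subgroup.mem_centralizer_singleton_iff.2 ((P.commute_zb S _).2
                 (Subgroup.mem_centralizer_singleton_iff.1 c.1.2))⟩, ?_⟩
             exact (repi _ c rfl).trans hc
           ψ_ker := fun x => by
             show P.chi S hp hpv (r x) = 1 ↔ _
             rw [P.chi_ker, ← hr x, hQK]
           z1 := fun h => by
             obtain ⟨e, he, h'⟩ := P.mk_eq_iff.1 (show (QuotientGroup.mk 1 : X) = _ from h.symm)
             rw [OneMemClass.coe_one, one_mul] at h'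
             exact P.z_not_mem S (Eq.substr (p := fun w => w ∈ P.E) h' he)
           z2 := P.mk_eq_iff.2 ⟨1, one_mem _, by
             show (1 : G) = z * z * 1
             rw [mul_one, S.hyp.xt.sq]⟩
           cent := fun x hx => by
             obtain ⟨k, hk, rfl⟩ := hQb hx
             exact (P.commute_zb S k).2 (S.hyp.xt.cen _ (P.mem_K.1 hk).1).symm
           normal := fun c hc x hx => by
             obtain ⟨y, rfl⟩ := QuotientGroup.mk_surjective c
             obtain ⟨k, hk, rfl⟩ := hQb hx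
             exact (hQK (y * k * y⁻¹)).2 (S.hyp.normQ _ ((P.commute_zb S y).1 hc) _ (P.mem_K.1 hk).1)
           zQ := (hQK _).2 S.hyp.xt.mem
           card := hcard
           comm := fun x hx y hy => by
             obtain ⟨a, ha, rfl⟩ := hQb hx
             obtain ⟨b, hb, rfl⟩ := hQb hy
             rcases S.hyp.xt.comm_mem (P.mem_K.1 ha).1 (P.mem_K.1 hb).1 with e | e
             · exact Or.inl (congrArg (QuotientGroup.mk : ↥P.CE → X)
                 (show a * b * a⁻¹ * b⁻¹ = 1 from Subtype.ext e))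
             · exact Or.inr (congrArg (QuotientGroup.mk : ↥P.CE → X)
                 (show a * b * a⁻¹ * b⁻¹ = ⟨z, _⟩ from Subtype.ext e))
           sq := fun x hx => by
             obtain ⟨a, ha, rfl⟩ := hQb hx
             rcases S.hyp.xt.sq_mem (P.mem_K.1 ha).1 with e | e
             · exact Or.inl (congrArg (QuotientGroup.mk : ↥P.CE → X) (show a * a = 1 from Subtype.ext e))
             · exact Or.inr (congrArg (QuotientGroup.mk : ↥P.CE → X) (show a * a = ⟨z, _⟩ from Subtype.ext e))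
           center := fun x hx h => by
             obtain ⟨a, ha, rfl⟩ := hQb hx
             have hc : ∀ b ∈ P.K, Commute (a : G) b := by
               intro b hb
               obtain ⟨e, he, h'⟩ := P.mk_eq_iff.1 (h _ (memQb ⟨b, P.K_le_CE S hb⟩ hb)).eq
               change b * (a : G) = (a : G) * b * e at h'
               rcases S.hyp.xt.comm_mem (P.mem_K.1 ha).1 (P.mem_K.1 hb).1 with e' | e'
               · exact commutatorElement_eq_one_iff_commute.1 e'
               · exfalso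
                 refine P.z_not_mem S ?_
                 have hab : Commute ((a : G) * b) e⁻¹ :=
                   ((P.CE_comm a.2 he).mul_left (P.CE_comm (P.K_le_CE S hb) he)).inv_right
                 have hze : z = e⁻¹ := by
                   calc z = (a : G) * b * (a : G)⁻¹ * b⁻¹ := e'.symm
                     _ = (a : G) * b * (b * (a : G))⁻¹ := by group
                     _ = (a : G) * b * e⁻¹ * ((a : G) * b)⁻¹ := by rw [h']; group
                     _ = e⁻¹ := by rw [hab.eq, mul_inv_cancel_right]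
                 exact Eq.substr (p := fun w => w ∈ P.E) hze (inv_mem he)
             obtain ⟨e, he, h'⟩ := P.center_K S ha hc
             rcases h' with e' | e'
             · exact Or.inl ((P.mk_eq_iff (a := 1)).2 ⟨e, he, by rw [OneMemClass.coe_one, one_mul, e']⟩).symm
             · exact Or.inr ((P.mk_eq_iff).2 ⟨e, he, by rw [e']; exact (P.E_z S he).symm.eq⟩).symm
           self := fun x hx h => by
             obtain ⟨y, rfl⟩ := QuotientGroup.mk_surjective x
             have hyz := (P.commute_zb S y).1 hx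
             refine (hQK y).2 (P.self_cent S hp hpv ⟨⟨y, Subgroup.mem_centralizer_singleton_iff.2 hyz⟩, y.2⟩
               fun k hk => ?_)
             obtain ⟨e, he, h'⟩ := P.mk_eq_iff.1 (h _ (memQb ⟨k, P.K_le_CE S hk⟩ hk)).symm.eq
             refine ⟨e, he, ?_⟩
             change (y : G) * k = k * (y : G) * e at h'
             change (y : G) * k * (y : G)⁻¹ = e * k
             rw [h', mul_assoc k, (P.CE_comm y.2 he).eq, ← mul_assoc k, mul_inv_cancel_right,
               (P.CE_comm (P.K_le_CE S hk) he).eq] }, hcard⟩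

/-- the centraliser of the four-group -/
theorem main (hmove : ∃ y ∈ P.CE, Commute (y * z * y⁻¹) z ∧ y * z * y⁻¹ ≠ z)
    (ht : t ∈ ⁅P.CE, P.CE⁆) (ht' : t' ∈ ⁅P.CE, P.CE⁆) :
    Cfsg.IsQuasisimple ↥P.CE ∧ Nonempty (P.QX ≃* Cfsg.PSU 6 F4 2) := by
  obtain ⟨C, -⟩ := P.exists_core S
  have hzo : orderOf (P.zb S) = 2 := orderOf_eq_prime (by rw [pow_two]; exact C.z2) C.z1
  obtain ⟨y, hy, hyc, hyn⟩ := hmove
  have hncomm : ¬ Commute (QuotientGroup.mk ⟨y, hy⟩ : P.QX) (P.zb S) := fun h =>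
    hyn (mul_inv_eq_iff_eq_mul.2 ((P.commute_zb S _).1 h).eq)
  obtain ⟨φ⟩ : Nonempty (P.QX ≃* Cfsg.PSU 6 F4 2) := by
    refine (CHZ.main_core C hzo CHZ.hF).resolve_right fun hsplit => ?_
    haveI := Cfsg.pPrimeCore_normal 2 P.QX
    obtain ⟨c, hc, o, ho, hco⟩ := Subgroup.mem_sup_of_normal_right.1
      (hsplit ▸ Subgroup.mem_top (QuotientGroup.mk ⟨y, hy⟩ : P.QX))
    have hcz : Commute c (P.zb S) := Subgroup.mem_centralizer_singleton_iff.1 hc
    have hconj : Commute ((QuotientGroup.mk ⟨y, hy⟩ : P.QX) * P.zb S * (QuotientGroup.mk ⟨y, hy⟩)⁻¹) (P.zb S) :=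
      (P.commute_zb S ⟨y * z * y⁻¹, mul_mem (mul_mem hy (P.mem_CE.2 ⟨P.E_z S P.t_mem, P.E_z S P.t'_mem⟩))
        (inv_mem hy)⟩).2 hyc
    have hoz : Commute (o * P.zb S * o⁻¹) (P.zb S) := by
      refine (Commute.conj_iff c).1 ?_
      rw [show c * (o * P.zb S * o⁻¹) * c⁻¹ = c * o * P.zb S * (c * o)⁻¹ by group, hcz.eq, mul_inv_cancel_right,
        hco]
      exact hconj
    set w := o * P.zb S * o⁻¹ * P.zb S with hw
    have hwO : w ∈ Cfsg.oddCore P.QX := by
      rw [hw, show o * P.zb S * o⁻¹ * P.zb S = o * (P.zb S * o⁻¹ * (P.zb S)⁻¹) * (P.zb S * P.zb S) by group,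
        C.z2, mul_one]
      exact mul_mem ho ((Cfsg.pPrimeCore_normal 2 _).conj_mem _ (inv_mem ho) _)
    have hw2 : w ^ 2 = 1 := by
      rw [hw, hoz.mul_pow, conj_pow, pow_two (P.zb S), C.z2]
      simp
    have hw1 : w = 1 := by
      have hd : orderOf w ∣ 2 := orderOf_dvd_of_pow_eq_one hw2
      have ho' : Odd (orderOf w) := (Char.card_oddCore_odd P.QX).of_dvd_nat
        (by rw [← Subgroup.orderOf_mk _ hwO]; exact orderOf_dvd_natCard _)
      rcases (Nat.dvd_prime Nat.prime_two).1 hd with e | e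
      · exact orderOf_eq_one_iff.1 e
      · rw [e] at ho'; exact absurd ho' (by decide)
    refine hncomm ?_
    rw [← hco]
    refine hcz.mul_left (mul_inv_eq_iff_eq_mul.1 ?_)
    rw [eq_mul_inv_of_mul_eq hw1, one_mul, inv_eq_of_mul_eq_one_right C.z2]
  haveI : IsSimpleGroup (Cfsg.PSU 6 F4 2) :=
    Cfsg.Agent.Small.Unitary.psu_simple SpFour.F4.star_eq_pow SpFour.F4.card_sq (n := 6) (by norm_num) (by omega)
  haveI hsX : IsSimpleGroup P.QX := φ.isSimpleGroup_congr.mpr inferInstance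
  set CEg := P.CE
  have hker : (QuotientGroup.mk' (P.E.subgroupOf P.CE)).ker = P.E.subgroupOf P.CE := QuotientGroup.ker_mk' _
  have hEd : P.E.subgroupOf P.CE ≤ commutator ↥P.CE := by
    intro e he
    rw [Subgroup.mem_subgroupOf] at he
    have hd : (e : G) ∈ ⁅P.CE, P.CE⁆ := by
      rcases P.mem_E.1 he with h | h | h | h <;> rw [h]
      exacts [one_mem _, ht, ht', mul_mem ht ht']
    rw [← Subgroup.map_subtype_commutator] at hd
    exact (Subgroup.mem_map_iff_mem (Subgroup.subtype_injective _)).1 hd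
  have hperf : commutator ↥P.CE = ⊤ := by
    rcases Subgroup.Normal.eq_bot_or_eq_top
        ((inferInstance : (commutator ↥P.CE).Normal).map (QuotientGroup.mk' (P.E.subgroupOf P.CE))
          (QuotientGroup.mk'_surjective _)) with h | h
    · exfalso
      refine hncomm (commutatorElement_eq_one_iff_commute.1 ?_)
      have hz' : (⟨z, P.mem_CE.2 ⟨P.E_z S P.t_mem, P.E_z S P.t'_mem⟩⟩ : ↥P.CE) ∈ (⊤ : Subgroup ↥P.CE) :=
        Subgroup.mem_top _
      have := Subgroup.mem_map_of_mem (QuotientGroup.mk' (P.E.subgroupOf P.CE))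
        (Subgroup.commutator_mem_commutator (Subgroup.mem_top (⟨y, hy⟩ : ↥P.CE)) hz')
      rw [show ⁅(⊤ : Subgroup ↥P.CE), ⊤⁆ = commutator ↥P.CE from (commutator_def _).symm, h, Subgroup.mem_bot,
        map_commutatorElement] at this
      exact this
    · have := congrArg (Subgroup.comap (QuotientGroup.mk' (P.E.subgroupOf P.CE))) h
      rwa [Subgroup.comap_map_eq, hker, sup_eq_left.2 hEd, Subgroup.comap_top] at this
  have hcen : Subgroup.center ↥P.CE = P.E.subgroupOf P.CE := by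
    refine le_antisymm ?_ fun e he => Subgroup.mem_center_iff.2 fun y =>
      Subtype.ext (P.CE_comm y.2 he).eq
    rcases Subgroup.Normal.eq_bot_or_eq_top
        ((inferInstance : (Subgroup.center ↥P.CE).Normal).map (QuotientGroup.mk' (P.E.subgroupOf P.CE))
          (QuotientGroup.mk'_surjective _)) with h | h
    · intro e he
      have := Subgroup.mem_map_of_mem (QuotientGroup.mk' (P.E.subgroupOf P.CE)) he
      rw [h, Subgroup.mem_bot] at this
      exact (QuotientGroup.eq_one_iff e).1 this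
    · exfalso
      obtain ⟨c, hc, e⟩ := Subgroup.mem_map.1 (h ▸ Subgroup.mem_top (P.zb S))
      refine hncomm ?_
      rw [← e]
      exact (congrArg (QuotientGroup.mk' (P.E.subgroupOf P.CE)) (Subgroup.mem_center_iff.1 hc ⟨y, hy⟩)) |> fun h' => by
        rw [map_mul, map_mul] at h'; exact h'
  refine ⟨⟨⟨hperf⟩, ?_⟩, ⟨φ⟩⟩
  exact (QuotientGroup.quotientMulEquivOfEq hcen).isSimpleGroup_congr.mpr hsX

end FPair

end Cfsg.Agent.Spor.LFT
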