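import Cfsg.Agent.Lib.Spor.LFTThompNorm
import Cfsg.Agent.Lib.Spor.GolayTrans

/-!
Large Fischer type: three pairs of points with zero sum form a triangle, and the pointwise stabiliser of its
corners moves the central involution and generates the three pairs by commutators.
-/

set_option autoImplicit false
set_option maxRecDepth 100000

namespace Cfsg.Agent.Spor.LFT

open scoped Pointwise

attribute [local irreducible] KerB phiA phiB CmpS Cmp Chk.tb Dat.tXor Dat.ptP Chk.ptQ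

namespace Tri

theorem triangle {s1 s2 s3 : Finset GolayPt} (h1 : s1.card = 2) (h2 : s2.card = 2) (h3 : s3.card = 2)
    (h : phN s1 ^^^ phN s2 = phN s3) :
    ∃ a b c, a ≠ b ∧ a ≠ c ∧ b ≠ c ∧ s1 = {a, b} ∧ s2 = {a, c} ∧ s3 = {b, c} := by
  classical
  have hq : phQ (symmDiff (symmDiff s1 s2) s3) = 0 := by
    rw [phQ_symm, phQ_symm, phQ_eq, phQ_eq, phQ_eq, h1, h2, h3]
    simp [h]
  have hs : symmDiff (symmDiff s1 s2) s3 = ⊥ := by
    by_contra hne
    have h8 := code_weight_ge (mem_supports.2 ((phQ_code _).1 hq)) (by simpa [← Finset.bot_eq_empty] using hne)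
    have hle : ∀ u v : Finset GolayPt, (symmDiff u v).card ≤ u.card + v.card := fun u v =>
      (Finset.card_le_card (Finset.symmDiff_subset_union)).trans (Finset.card_union_le _ _)
    have := hle (symmDiff s1 s2) s3
    have := hle s1 s2
    omega
  have e : symmDiff s1 s2 = s3 := symmDiff_eq_bot.1 hs
  have hc : (s1 ∩ s2).card = 1 := by
    have hd : s3.card = (s1 \ s2).card + (s2 \ s1).card := by
      rw [← e, symmDiff_def, Finset.sup_eq_union, Finset.card_union_of_disjoint disjoint_sdiff_sdiff]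
    have := Finset.card_sdiff_add_card_inter s1 s2
    have := Finset.card_sdiff_add_card_inter s2 s1
    rw [Finset.inter_comm s2 s1] at this
    omega
  obtain ⟨a, ha⟩ := Finset.card_eq_one.1 hc
  have ha' : a ∈ s1 ∩ s2 := ha ▸ Finset.mem_singleton_self a
  rw [Finset.mem_inter] at ha'
  obtain ⟨b, hb⟩ := Finset.card_eq_one.1 (show (s1.erase a).card = 1 by rw [Finset.card_erase_of_mem ha'.1]; omega)
  obtain ⟨c, hc'⟩ := Finset.card_eq_one.1 (show (s2.erase a).card = 1 by rw [Finset.card_erase_of_mem ha'.2]; omega)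
  have hb' : b ∈ s1.erase a := hb ▸ Finset.mem_singleton_self b
  have hc'' : c ∈ s2.erase a := hc' ▸ Finset.mem_singleton_self c
  rw [Finset.mem_erase] at hb' hc''
  have e1 : s1 = {a, b} := by rw [← Finset.insert_erase ha'.1, hb]
  have e2 : s2 = {a, c} := by rw [← Finset.insert_erase ha'.2, hc']
  have hbc : b ≠ c := fun he => by
    have : b ∈ s1 ∩ s2 := Finset.mem_inter.2 ⟨hb'.2, he ▸ hc''.2⟩
    rw [ha, Finset.mem_singleton] at this
    exact hb'.1 this
  refine ⟨a, b, c, hb'.1.symm, hc''.1.symm, hbc, e1, e2, ?_⟩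
  rw [← e, e1, e2]
  ext p
  simp only [Finset.mem_symmDiff, Finset.mem_insert, Finset.mem_singleton]
  constructor
  · rintro (⟨(rfl | rfl), hn⟩ | ⟨(rfl | rfl), hn⟩) <;> simp_all
  · rintro (rfl | rfl)
    · exact Or.inl ⟨Or.inr rfl, by simp [hbc, hb'.1]⟩
    · exact Or.inr ⟨Or.inr rfl, by simp [hbc.symm, hc''.1]⟩

/-- three distinct points as a sequence -/
def emb3 {a b c : GolayPt} (hab : a ≠ b) (hac : a ≠ c) (hbc : b ≠ c) : Fin 3 ↪ GolayPt :=
  ⟨![a, b, c], fun i j e => by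
    fin_cases i <;> fin_cases j <;> simp_all [hab.symm, hac.symm, hbc.symm]⟩

theorem octad_avoid {a b c : GolayPt} (hab : a ≠ b) (hac : a ≠ c) (hbc : b ≠ c) :
    ∃ o ∈ octads, a ∈ o ∧ b ∈ o ∧ c ∉ o := by
  have hd : pt 0 ≠ pt 1 ∧ pt 0 ≠ pt 5 ∧ pt 1 ≠ pt 5 ∧ pt 0 ∈ ofMask 5279 ∧ pt 1 ∈ ofMask 5279 ∧
      pt 5 ∉ ofMask 5279 := by decide +kernel
  obtain ⟨d1, d2, d3, m1, m2, m3⟩ := hd
  obtain ⟨σ, hσ, h⟩ := M24_trans (k := 3) (by norm_num) (emb3 d1 d2 d3) (emb3 hab hac hbc)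
  have e0 : σ (pt 0) = a := h 0
  have e1 : σ (pt 1) = b := h 1
  have e2 : σ (pt 5) = c := h 2
  refine ⟨σ • ofMask 5279, smul_octad hσ baseOctad_mem, ?_, ?_, ?_⟩
  · rw [← e0]; exact Finset.smul_mem_smul_finset m1
  · rw [← e1]; exact Finset.smul_mem_smul_finset m2
  · rw [← e2]; exact fun hm => m3 (Finset.smul_mem_smul_finset_iff σ |>.1 hm)

theorem move_one {a b c p q : GolayPt} (hab : a ≠ b) (hac : a ≠ c) (hbc : b ≠ c) (hp : p ≠ a ∧ p ≠ b ∧ p ≠ c)
    (hq : q ≠ a ∧ q ≠ b ∧ q ≠ c) : ∃ σ ∈ M24, σ a = a ∧ σ b = b ∧ σ c = c ∧ σ p = q := by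
  have mk : ∀ r : GolayPt, r ≠ a ∧ r ≠ b ∧ r ≠ c → Function.Injective ![a, b, c, r] := by
    intro r hr i j e
    fin_cases i <;> fin_cases j <;> simp_all [hab.symm, hac.symm, hbc.symm, hr.1.symm, hr.2.1.symm, hr.2.2.symm]
  obtain ⟨σ, hσ, h⟩ := M24_trans (k := 4) (by norm_num) ⟨_, mk p hp⟩ ⟨_, mk q hq⟩
  exact ⟨σ, hσ, h 0, h 1, h 2, h 3⟩

end Tri

universe u

variable {G : Type u} [Group G] [Finite G] {z : G} {A : Subgroup G} {ψ : ℕ → G}

theorem PointModel.symm_mul (m : PointModel z A ψ) (s t : Finset GolayPt) :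
    ψ (phN (symmDiff s t)) = ψ (phN s) * ψ (phN t) := by
  rw [phN_symm, m.mul _ _ (phN_lt _) (phN_lt _)]

theorem PointModel.even_mem (m : PointModel z A ψ) (D : Subgroup G) {a b c : GolayPt}
    (hD : ∀ p q, p ≠ q → (p ≠ a ∧ p ≠ b ∧ p ≠ c) → (q ≠ a ∧ q ≠ b ∧ q ≠ c) → ψ (phN {p, q}) ∈ D) :
    ∀ k (s : Finset GolayPt), s.card = 2 * k → (∀ p ∈ s, p ≠ a ∧ p ≠ b ∧ p ≠ c) → ψ (phN s) ∈ D := by
  intro k
  induction k with
  | zero =>
    intro s hs _
    rw [Finset.card_eq_zero.1 hs, phN_empty.1, m.one]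
    exact one_mem _
  | succ k ih =>
    intro s hs hav
    obtain ⟨t, hts, htc⟩ := Finset.exists_subset_card_eq (n := 2) (show 2 ≤ s.card by omega)
    obtain ⟨p, q, hpq, rfl⟩ := Finset.card_eq_two.1 htc
    have e : s = symmDiff (s \ {p, q}) {p, q} := by
      rw [(Finset.sdiff_disjoint).symmDiff_eq_sup, Finset.sup_eq_union, Finset.sdiff_union_of_subset hts]
    rw [e, m.symm_mul]
    refine mul_mem (ih _ ?_ fun r hr => hav r (Finset.mem_sdiff.1 hr).1)
      (hD p q hpq (hav p (hts (by simp))) (hav q (hts (by simp))))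
    rw [Finset.card_sdiff_of_subset hts, htc, hs]
    omega

/-- the pair at two corners is a product of commutators -/
theorem PointModel.corner_mem (m : PointModel z A ψ) (D : Subgroup G) {a b c : GolayPt}
    (hab : a ≠ b) (hac : a ≠ c) (hbc : b ≠ c)
    (hD : ∀ p q, p ≠ q → (p ≠ a ∧ p ≠ b ∧ p ≠ c) → (q ≠ a ∧ q ≠ b ∧ q ≠ c) → ψ (phN {p, q}) ∈ D) :
    ψ (phN {a, b}) ∈ D := by
  obtain ⟨o, ho, hao, hbo, hco⟩ := Tri.octad_avoid hab hac hbc
  have hsub : ({a, b} : Finset GolayPt) ⊆ o := by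
    intro r hr
    simp only [Finset.mem_insert, Finset.mem_singleton] at hr
    rcases hr with rfl | rfl <;> assumption
  have ho0 : phN o = 0 := by
    have : phQ o = 0 := (phQ_code _).2 (mem_supports.1 ho.1)
    exact (phQ_zero.1 this).2
  have e : ({a, b} : Finset GolayPt) = symmDiff (o \ {a, b}) o := by
    rw [symmDiff_of_le Finset.sdiff_subset, Finset.sdiff_sdiff_eq_self hsub]
  rw [e, m.symm_mul, ho0, m.one, mul_one]
  refine m.even_mem D hD 3 _ ?_ fun r hr => ?_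
  · rw [Finset.card_sdiff_of_subset hsub, Finset.card_pair hab, ho.2]
  · simp only [Finset.mem_sdiff, Finset.mem_insert, Finset.mem_singleton, not_or] at hr
    exact ⟨hr.2.1, hr.2.2, fun e => hco (e ▸ hr.1)⟩

/-- the facts about three corners -/
theorem PointModel.corners (m : PointModel z A ψ) (hAe : Cfsg.IsElementaryAbelian 2 A) (hzA : z ∈ A)
    (ρ : Subgroup.normalizer (A : Set G) →* Cfsg.M24) (hsur : Function.Surjective ρ)
    (hdes : ∀ y : Subgroup.normalizer (A : Set G), Des ψ (y : G) (ρ y : Equiv.Perm GolayPt))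
    (hidx : ((Subgroup.centralizer ({z} : Set G)).subgroupOf (Subgroup.normalizer (A : Set G))).index = 1771)
    {a b c : GolayPt} (hab : a ≠ b) (hac : a ≠ c) (hbc : b ≠ c) (CE : Subgroup G)
    (hCE : ∀ y : G, (Commute y (ψ (phN {a, b})) ∧ Commute y (ψ (phN {a, c}))) → y ∈ CE) :
    (∃ y ∈ CE, y * z * y⁻¹ ∈ A ∧ y * z * y⁻¹ ≠ z) ∧
      ψ (phN {a, b}) ∈ ⁅CE, CE⁆ ∧ ψ (phN {a, c}) ∈ ⁅CE, CE⁆ := by
  classical
  have hpair : ∀ {p q : GolayPt}, p ≠ q → ({p, q} : Finset GolayPt).card = 2 := fun h => Finset.card_pair h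
  have hfix : ∀ y : Subgroup.normalizer (A : Set G), (ρ y : Equiv.Perm GolayPt) a = a → (ρ y : Equiv.Perm GolayPt) b = b →
      (ρ y : Equiv.Perm GolayPt) c = c → (y : G) ∈ CE := by
    intro y ha hb hc
    refine hCE _ ⟨mul_inv_eq_iff_eq_mul.1 ?_, mul_inv_eq_iff_eq_mul.1 ?_⟩
    · rw [hdes y _ (hpair hab)]
      simp [Finset.smul_finset_insert, Finset.smul_finset_singleton, Equiv.Perm.smul_def, ha, hb]
    · rw [hdes y _ (hpair hac)]
      simp [Finset.smul_finset_insert, Finset.smul_finset_singleton, Equiv.Perm.smul_def, ha, hc]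
  have hAle : ∀ r ∈ A, r ∈ CE := fun r hr => hCE r
    ⟨congrArg Subtype.val (hAe.1.is_comm.comm (⟨r, hr⟩ : A) ⟨_, m.mem _ (phN_lt _)⟩),
      congrArg Subtype.val (hAe.1.is_comm.comm (⟨r, hr⟩ : A) ⟨_, m.mem _ (phN_lt _)⟩)⟩
  refine ⟨?_, ?_⟩
  · set x := Tri.emb3 hab hac hbc
    have hS : (MulAction.stabilizer Cfsg.M24 x).index = 12144 := by
      rw [MulAction.index_stabilizer]
      refine Eq.trans (congrArg Set.ncard (a₂ := (Set.univ : Set (Fin 3 ↪ GolayPt))) ?_) ?_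
      · refine Set.eq_univ_of_forall fun v => ?_
        obtain ⟨σ, hσ, h⟩ := M24_trans (k := 3) (by norm_num) x v
        exact ⟨⟨σ, hσ⟩, DFunLike.ext _ _ h⟩
      rw [Set.ncard_univ, Nat.card_eq_fintype_card, Fintype.card_embedding_eq, Fintype.card_fin,
        Fintype.card_option, ZMod.card]
      decide +kernel
    by_contra hno
    push Not at hno
    have hle : (MulAction.stabilizer Cfsg.M24 x).comap ρ ≤
        (Subgroup.centralizer ({z} : Set G)).subgroupOf (Subgroup.normalizer (A : Set G)) := by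
      intro y hy
      have hx : ∀ i, (ρ y : Equiv.Perm GolayPt) (x i) = x i := fun i =>
        DFunLike.congr_fun (MulAction.mem_stabilizer_iff.1 hy) i
      have hyz := hno (y : G) (hfix y (hx 0) (hx 1) (hx 2)) ((Subgroup.mem_normalizer_iff.1 y.2 z).1 hzA)
      exact Subgroup.mem_centralizer_singleton_iff.2 (mul_inv_eq_iff_eq_mul.1 hyz)
    have hd := Subgroup.index_dvd_of_le hle
    rw [hidx, Subgroup.index_comap_of_surjective _ hsur, hS] at hd
    norm_num at hd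
  have key : ∀ p q, p ≠ q → (p ≠ a ∧ p ≠ b ∧ p ≠ c) → (q ≠ a ∧ q ≠ b ∧ q ≠ c) → ψ (phN {p, q}) ∈ ⁅CE, CE⁆ := by
    intro p q hpq hp hq
    obtain ⟨σ, hσ, ha, hb, hc, hσp⟩ := Tri.move_one hab hac hbc hp hq
    obtain ⟨y, hy⟩ := hsur ⟨σ, hσ⟩
    have hyσ : (ρ y : Equiv.Perm GolayPt) = σ := congrArg Subtype.val hy
    have e : (y : G) * ψ (phN {p, a}) * (y : G)⁻¹ = ψ (phN {q, a}) := by
      rw [hdes y _ (hpair hp.1), hyσ]
      simp [Finset.smul_finset_insert, Finset.smul_finset_singleton, Equiv.Perm.smul_def, ha, hσp]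
    have hs : ({p, q} : Finset GolayPt) = symmDiff {q, a} {p, a} := by
      ext r
      simp only [Finset.mem_symmDiff, Finset.mem_insert, Finset.mem_singleton]
      by_cases hrp : r = p
      · subst hrp; simp [hpq, hp.1]
      · by_cases hrq : r = q
        · subst hrq; simp [Ne.symm hpq, hq.1]
        · simp [hrp, hrq]
    rw [hs, m.symm_mul, ← e]
    have hi : ψ (phN {p, a}) = (ψ (phN {p, a}))⁻¹ := (inv_eq_of_mul_eq_one_right (m.sq _ (phN_lt _))).symm
    conv =>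
      arg 2
      arg 2
      rw [hi]
    exact Subgroup.commutator_mem_commutator (hfix y (hyσ ▸ ha) (hyσ ▸ hb) (hyσ ▸ hc))
      (hAle _ (m.mem _ (phN_lt _)))
  exact ⟨m.corner_mem _ hab hac hbc key, m.corner_mem _ hac hab hbc.symm fun p q h hp hq =>
    key p q h ⟨hp.1, hp.2.2, hp.2.1⟩ ⟨hq.1, hq.2.2, hq.2.1⟩⟩

end Cfsg.Agent.Spor.LFT
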