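import Cfsg.Agent.Lib.Spor.LFTPointwise
import Cfsg.Agent.Lib.Spor.LFTTriangle

/-!
Large Fischer type: a four-group of involutions of the extraspecial subgroup spanning a line of the
six-dimensional space, and its centraliser inside the extraspecial subgroup.
-/

set_option autoImplicit false
set_option maxRecDepth 100000
set_option linter.unusedSectionVars false

namespace Cfsg.Agent.Spor.LFT

open Cfsg.Agent.Spor.SUSix (V6 code)
open Cfsg.Agent.Spor.SpFour (F4)
open Cfsg.Agent.Small.Unitary (herm)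

attribute [local irreducible] KerB phiA phiB CmpS Cmp

universe u

variable {G : Type u} [Group G] [Finite G] {z : G} {Q N M : Subgroup G}

/-- two involutions spanning a line of the shorter orbit -/
structure FPair (f : Frame z Q M) (t t' : G) : Prop where
  tQ : t ∈ Q
  tQ' : t' ∈ Q
  sq : t * t = 1
  sq' : t' * t' = 1
  comm : Commute t t'
  pa : PA (f.vec t)
  vne : f.vec t ≠ 0
  vec' : f.vec t' = F4.w • f.vec t
  nc : ¬ IsConj z t
  nc' : ¬ IsConj z t'
  nc'' : ¬ IsConj z (t * t')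

namespace FPair

variable {f : Frame z Q M} {t t' : G} (S : Setup z Q N M) (P : FPair f t t')

/-- the four-group -/
def E : Subgroup G where
  carrier := {r | r = 1 ∨ r = t ∨ r = t' ∨ r = t * t'}
  one_mem' := Or.inl rfl
  mul_mem' := by
    have e1 : t * (t * t') = t' := by rw [← mul_assoc, P.sq, one_mul]
    have e2 : t * t' * t = t' := by rw [P.comm.eq, mul_assoc, P.sq, mul_one]
    have e3 : t' * (t * t') = t := by rw [← mul_assoc, ← P.comm.eq, mul_assoc, P.sq', mul_one]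
    have e4 : t * t' * t' = t := by rw [mul_assoc, P.sq', mul_one]
    have e5 : t * t' * (t * t') = 1 := by rw [← mul_assoc, e2, P.sq']
    rintro a b (rfl | rfl | rfl | rfl) (rfl | rfl | rfl | rfl) <;>
      simp only [Set.mem_ofPred_eq, one_mul, mul_one, P.sq, P.sq', e1, e2, e3, e4, e5, ← P.comm.eq, true_or, or_true]
  inv_mem' := by
    rintro a (rfl | rfl | rfl | rfl)
    · exact Or.inl inv_one
    · exact Or.inr (Or.inl (inv_eq_of_mul_eq_one_right P.sq))
    · exact Or.inr (Or.inr (Or.inl (inv_eq_of_mul_eq_one_right P.sq')))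
    · refine Or.inr (Or.inr (Or.inr ?_))
      rw [mul_inv_rev, inv_eq_of_mul_eq_one_right P.sq, inv_eq_of_mul_eq_one_right P.sq', P.comm.eq]

theorem mem_E {r : G} : r ∈ P.E ↔ r = 1 ∨ r = t ∨ r = t' ∨ r = t * t' := Iff.rfl

theorem t_mem : t ∈ P.E := Or.inr (Or.inl rfl)

theorem t'_mem : t' ∈ P.E := Or.inr (Or.inr (Or.inl rfl))

theorem tt_mem : t * t' ∈ P.E := Or.inr (Or.inr (Or.inr rfl))

theorem E_le : P.E ≤ Q := by
  rintro r (rfl | rfl | rfl | rfl)
  exacts [one_mem _, P.tQ, P.tQ', mul_mem P.tQ P.tQ']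

theorem E_comm {a b : G} (ha : a ∈ P.E) (hb : b ∈ P.E) : Commute a b := by
  rcases (P.mem_E).1 ha with rfl | rfl | rfl | rfl <;> rcases (P.mem_E).1 hb with rfl | rfl | rfl | rfl <;>
    first
    | exact Commute.one_left _
    | exact Commute.one_right _
    | exact Commute.refl _
    | exact P.comm
    | exact P.comm.symm
    | exact (Commute.refl _).mul_right P.comm
    | exact P.comm.symm.mul_right (Commute.refl _)
    | exact ((Commute.refl _).mul_right P.comm).symm
    | exact (P.comm.symm.mul_right (Commute.refl _)).symm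

theorem sq_mem {a : G} (ha : a ∈ P.E) : a * a = 1 := by
  rcases (P.mem_E).1 ha with rfl | rfl | rfl | rfl
  exacts [one_mul _, P.sq, P.sq', by rw [P.comm.symm.mul_mul_mul_comm, P.sq, P.sq', one_mul]]

theorem comm_E {a : G} (h : Commute a t) (h' : Commute a t') {e : G} (he : e ∈ P.E) : Commute a e := by
  rcases (P.mem_E).1 he with rfl | rfl | rfl | rfl
  exacts [Commute.one_right a, h, h', h.mul_right h']

include S P

theorem vec_E {r : G} (hr : r ∈ P.E) : ∃ c : F4, f.vec r = c • f.vec t := by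
  rcases (P.mem_E).1 hr with rfl | rfl | rfl | rfl
  · exact ⟨0, by rw [zero_smul, f.vec_one S]⟩
  · exact ⟨1, by rw [one_smul]⟩
  · exact ⟨F4.w, P.vec'⟩
  · exact ⟨1 + F4.w, by rw [f.vec_mul _ P.tQ _ P.tQ', P.vec', add_smul, one_smul]⟩

theorem ne_all : t ≠ 1 ∧ t' ≠ 1 ∧ t * t' ≠ 1 ∧ t ≠ t' := by
  have h1 : F4.w • f.vec t ≠ f.vec t := fun e => P.vne (funext fun i => by
    have key : ∀ a : F4, F4.w * a = a → a = 0 := by decide +kernel
    exact key _ (congrFun e i))
  have ht : t ≠ t' := fun e => h1 (by rw [← P.vec', ← e])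
  refine ⟨fun e => P.vne (e ▸ f.vec_one S), fun e => P.vne ?_, fun e => ht ?_, ht⟩
  · have h := P.vec'
    rw [e, f.vec_one S] at h
    funext i
    have key : ∀ a : F4, 0 = F4.w * a → a = 0 := by decide +kernel
    exact key _ (congrFun h i)
  · exact (eq_inv_of_mul_eq_one_left e).trans (inv_eq_of_mul_eq_one_right P.sq')

theorem nconj {e : G} (he : e ∈ P.E) (h1 : e ≠ 1) : ¬ IsConj z e := by
  rcases (P.mem_E).1 he with rfl | rfl | rfl | rfl
  exacts [absurd rfl h1, P.nc, P.nc', P.nc'']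

theorem z_not_mem : z ∉ P.E := fun h => P.nconj S h S.hyp.xt.ne (IsConj.refl z)

theorem card_E : Nat.card P.E = 4 := by
  classical
  obtain ⟨h1, h2, h3, h4⟩ := P.ne_all S
  have h5 : t ≠ t * t' := fun e => h2 (mul_left_cancel (a := t) (by rw [mul_one]; exact e.symm))
  have h6 : t' ≠ t * t' := fun e => h1 (mul_right_cancel (b := t') (by rw [one_mul]; exact e.symm))
  have : (P.E : Set G) = ↑({1, t, t', t * t'} : Finset G) := by
    ext r
    simp [mem_E P]
  rw [show Nat.card P.E = (P.E : Set G).ncard from Nat.card_coe_set_eq _, this, Set.ncard_coe_finset]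
  simp [h1.symm, h2.symm, h3.symm, h4, h5, h6]

theorem z_mul_not_conj {e : G} (he : e ∈ P.E) (h1 : e ≠ 1) : ¬ IsConj z (z * e) := by
  intro hc
  refine P.nconj S he h1 ?_
  obtain ⟨q, hq, hn⟩ : ∃ q ∈ Q, ¬ Commute q e := by
    by_contra hno
    push Not at hno
    rcases S.hyp.xt.eq_of_cen e (P.E_le he) (fun q hq => (hno q hq).symm) with e' | e'
    exacts [h1 e', P.nconj S he h1 (e'.symm ▸ IsConj.refl z)]
  have hm := S.hyp.xt.move hq (P.E_le he) hn
  rw [← (S.hyp.xt.cen e (P.E_le he)).eq] at hm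
  exact hc.trans ((isConj_iff.2 ⟨q, hm⟩).symm)

omit S

/-- the centraliser in the extraspecial subgroup -/
def K : Subgroup G where
  carrier := {r | r ∈ Q ∧ Commute r t ∧ Commute r t' ∧ t * t = 1}
  one_mem' := ⟨one_mem _, Commute.one_left _, Commute.one_left _, P.sq⟩
  mul_mem' ha hb := ⟨mul_mem ha.1 hb.1, ha.2.1.mul_left hb.2.1, ha.2.2.1.mul_left hb.2.2.1, P.sq⟩
  inv_mem' ha := ⟨inv_mem ha.1, ha.2.1.inv_left, ha.2.2.1.inv_left, P.sq⟩

theorem mem_K {r : G} : r ∈ P.K ↔ r ∈ Q ∧ Commute r t ∧ Commute r t' :=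
  ⟨fun h => ⟨h.1, h.2.1, h.2.2.1⟩, fun h => ⟨h.1, h.2.1, h.2.2, P.sq⟩⟩

theorem E_le_K : P.E ≤ P.K := fun _ he =>
  P.mem_K.2 ⟨P.E_le he, P.E_comm he P.t_mem, P.E_comm he P.t'_mem⟩

include S P

omit P in
theorem move_iff {q : G} (hq : q ∈ Q) {e : G} (he : e ∈ Q) (b : G) (hb : b ∈ Q) :
    Commute (q * b) e ↔ (Commute q e ↔ Commute b e) := by
  have hcz : Commute q z := (S.hyp.xt.cen q hq).symm
  constructor
  · exact fun h => ⟨fun h1 => by
      have := h1.inv_left.mul_left h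
      rwa [inv_mul_cancel_left] at this, fun h2 => by
      have := h.mul_left h2.inv_left
      rwa [mul_inv_cancel_right] at this⟩
  · intro h
    by_cases hqe : Commute q e
    · exact hqe.mul_left (h.1 hqe)
    · have h1 := S.hyp.xt.move hq he hqe
      have h2 := S.hyp.xt.move hb he (fun hbe => hqe (h.2 hbe))
      refine mul_inv_eq_iff_eq_mul.1 ?_
      calc q * b * e * (q * b)⁻¹ = q * (b * e * b⁻¹) * q⁻¹ := by group
        _ = q * e * q⁻¹ * (q * z * q⁻¹) := by rw [h2]; group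
        _ = e := by rw [h1, hcz.eq, mul_inv_cancel_right, mul_assoc, S.hyp.xt.sq, mul_one]

theorem exists_dual : (∃ q ∈ Q, ¬ Commute q t ∧ Commute q t') ∧ ∃ q ∈ Q, Commute q t ∧ ¬ Commute q t' := by
  have hex : ∀ e ∈ P.E, e ≠ 1 → ∃ q ∈ Q, ¬ Commute q e := by
    intro e he h1
    by_contra hno
    push Not at hno
    rcases S.hyp.xt.eq_of_cen e (P.E_le he) (fun q hq => (hno q hq).symm) with e' | e'
    exacts [h1 e', P.z_not_mem S (e' ▸ he)]
  obtain ⟨h1, h2, h3, -⟩ := P.ne_all S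
  obtain ⟨a, ha, hat⟩ := hex t P.t_mem h1
  obtain ⟨b, hb, hbt⟩ := hex t' P.t'_mem h2
  obtain ⟨c, hc, hct⟩ := hex _ P.tt_mem h3
  by_cases hct1 : Commute c t
  · have hct2 : ¬ Commute c t' := fun h => hct (hct1.mul_right h)
    refine ⟨?_, c, hc, hct1, hct2⟩
    by_cases hat' : Commute a t'
    · exact ⟨a, ha, hat, hat'⟩
    · exact ⟨a * c, mul_mem ha hc, fun h => hat (((move_iff S ha P.tQ c hc).1 h).2 hct1),
        (move_iff S ha P.tQ' c hc).2 (iff_of_false hat' hct2)⟩
  · have hct2 : Commute c t' := by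
      by_contra h
      refine hct ?_
      have e1 := S.hyp.xt.move hc P.tQ hct1
      have e2 := S.hyp.xt.move hc P.tQ' h
      refine mul_inv_eq_iff_eq_mul.1 ?_
      calc c * (t * t') * c⁻¹ = c * t * c⁻¹ * (c * t' * c⁻¹) := by group
        _ = t * (z * t') * z := by rw [e1, e2]; group
        _ = t * t' * (z * z) := by rw [(S.hyp.xt.cen t' P.tQ').eq]; group
        _ = t * t' := by rw [S.hyp.xt.sq, mul_one]
    refine ⟨⟨c, hc, hct1, hct2⟩, ?_⟩
    by_cases hbt' : Commute b t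
    · exact ⟨b, hb, hbt', hbt⟩
    · exact ⟨b * c, mul_mem hb hc, (move_iff S hb P.tQ c hc).2 (iff_of_false hbt' hct1),
        fun h => hbt (((move_iff S hb P.tQ' c hc).1 h).2 hct2)⟩

/-- a correction inside the extraspecial subgroup -/
theorem exists_sign (b b' : Prop) : ∃ q ∈ Q, (Commute q t ↔ b) ∧ (Commute q t' ↔ b') := by
  obtain ⟨⟨a, ha, a1, a2⟩, c, hc, c1, c2⟩ := P.exists_dual S
  by_cases hb : b <;> by_cases hb' : b'
  · exact ⟨1, one_mem _, iff_of_true (Commute.one_left _) hb, iff_of_true (Commute.one_left _) hb'⟩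
  · exact ⟨c, hc, iff_of_true c1 hb, iff_of_false c2 hb'⟩
  · exact ⟨a, ha, iff_of_false a1 hb, iff_of_true a2 hb'⟩
  · exact ⟨a * c, mul_mem ha hc, iff_of_false (fun h => a1 (((move_iff S ha P.tQ c hc).1 h).2 c1)) hb,
      iff_of_false (fun h => c2 (((move_iff S ha P.tQ' c hc).1 h).1 a2)) hb'⟩

theorem inK_split {q : G} (hq : q ∈ Q) {a : G} (ha : a ∈ Q) (h : Commute a t ↔ Commute q t)
    (h' : Commute a t' ↔ Commute q t') : a⁻¹ * q ∈ P.K := by
  refine P.mem_K.2 ⟨mul_mem (inv_mem ha) hq, (move_iff S (inv_mem ha) P.tQ q hq).2 ?_,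
    (move_iff S (inv_mem ha) P.tQ' q hq).2 ?_⟩
  · rw [← h]; exact ⟨fun e => inv_inv a ▸ e.inv_left, Commute.inv_left⟩
  · rw [← h']; exact ⟨fun e => inv_inv a ▸ e.inv_left, Commute.inv_left⟩

theorem center_K {q : G} (hq : q ∈ P.K) (h : ∀ r ∈ P.K, Commute q r) : ∃ e ∈ P.E, q = e ∨ q = e * z := by
  obtain ⟨a, ha, a1, a2⟩ := (P.exists_dual S).1
  obtain ⟨c, hc, c1, c2⟩ := (P.exists_dual S).2
  -- an element of the four-group with the same commutation
  obtain ⟨e, he, hea, hec⟩ : ∃ e ∈ P.E, (Commute e a ↔ Commute q a) ∧ (Commute e c ↔ Commute q c) := by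
    by_cases hqa : Commute q a <;> by_cases hqc : Commute q c
    · exact ⟨1, one_mem _, iff_of_true (Commute.one_left _) hqa, iff_of_true (Commute.one_left _) hqc⟩
    · exact ⟨t', P.t'_mem, iff_of_true a2.symm hqa, iff_of_false (fun h => c2 h.symm) hqc⟩
    · exact ⟨t, P.t_mem, iff_of_false (fun h => a1 h.symm) hqa, iff_of_true c1.symm hqc⟩
    · refine ⟨t * t', P.tt_mem, iff_of_false (fun h => a1 ?_) hqa, iff_of_false (fun h => c2 ?_) hqc⟩
      · exact (((move_iff S P.tQ ha _ P.tQ').1 h).2 a2.symm).symm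
      · exact (((move_iff S P.tQ hc _ P.tQ').1 h).1 c1.symm).symm
  have hx : e * q ∈ Q := mul_mem (P.E_le he) hq.1
  have hall : ∀ r ∈ Q, Commute (e * q) r := by
    intro r hr
    have hK : ∀ k ∈ P.K, Commute (e * q) k := fun k hk => ((P.comm_E hk.2.1 (P.mem_K.1 hk).2.2 he).symm).mul_left (h k hk)
    obtain ⟨s, hs, hs1, hs2, hs3⟩ : ∃ s ∈ Q, Commute (e * q) s ∧ (Commute s t ↔ Commute r t) ∧
        (Commute s t' ↔ Commute r t') := by
      have hxa : Commute (e * q) a := (move_iff S (P.E_le he) ha q hq.1).2 hea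
      have hxc : Commute (e * q) c := (move_iff S (P.E_le he) hc q hq.1).2 hec
      by_cases hb : Commute r t <;> by_cases hb' : Commute r t'
      · exact ⟨1, one_mem _, Commute.one_right _, iff_of_true (Commute.one_left _) hb,
          iff_of_true (Commute.one_left _) hb'⟩
      · exact ⟨c, hc, hxc, iff_of_true c1 hb, iff_of_false c2 hb'⟩
      · exact ⟨a, ha, hxa, iff_of_false a1 hb, iff_of_true a2 hb'⟩
      · exact ⟨a * c, mul_mem ha hc, hxa.mul_right hxc,
          iff_of_false (fun h => a1 (((move_iff S ha P.tQ c hc).1 h).2 c1)) hb,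
          iff_of_false (fun h => c2 (((move_iff S ha P.tQ' c hc).1 h).1 a2)) hb'⟩
    have := hs1.mul_right (hK _ (P.inK_split S hr hs hs2 hs3))
    rwa [mul_inv_cancel_left] at this
  refine ⟨e, he, ?_⟩
  rcases S.hyp.xt.eq_of_cen _ hx hall with e' | e'
  · exact Or.inl (((eq_inv_of_mul_eq_one_right e').trans (inv_eq_of_mul_eq_one_right (P.sq_mem he))))
  · exact Or.inr (by rw [← e', ← mul_assoc, P.sq_mem he, one_mul])

open scoped _root_.Classical in
theorem card_K : Nat.card P.K = 2 ^ 11 := by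
  let sg : Prop → Multiplicative (ZMod 2) := fun b => if b then 1 else Multiplicative.ofAdd 1
  have hsg : ∀ b b', sg (b ↔ b') = sg b * sg b' := by
    intro b b'
    by_cases hb : b <;> by_cases hb' : b' <;> simp [sg, hb, hb'] <;> decide
  let φ : Q →* Multiplicative (ZMod 2) × Multiplicative (ZMod 2) :=
    { toFun := fun q => (sg (Commute (q : G) t), sg (Commute (q : G) t'))
      map_one' := by simp [sg, Commute.one_left]
      map_mul' := fun q r => by
        rw [Prod.mk_mul_mk, ← hsg, ← hsg]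
        simp only [Subgroup.coe_mul, move_iff S q.2 P.tQ _ r.2, move_iff S q.2 P.tQ' _ r.2] }
  have hker : φ.ker = P.K.subgroupOf Q := by
    ext q
    have key : ∀ b : Prop, sg b = 1 ↔ b := fun b => by by_cases hb : b <;> simp [sg, hb] <;> decide
    rw [MonoidHom.mem_ker, Subgroup.mem_subgroupOf, mem_K P]
    show ((sg (Commute (q : G) t), sg (Commute (q : G) t')) = 1 ↔ _)
    rw [Prod.mk_eq_one, key, key]
    exact ⟨fun h => ⟨q.2, h⟩, fun h => h.2⟩
  have hsur : Function.Surjective φ := by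
    rintro ⟨i, j⟩
    obtain ⟨q, hq, h1, h2⟩ := P.exists_sign S (i = 1) (j = 1)
    refine ⟨⟨q, hq⟩, ?_⟩
    show (sg (Commute q t), sg (Commute q t')) = (i, j)
    have key : ∀ k : Multiplicative (ZMod 2), sg (k = 1) = k := fun k => by
      have hk : k = 1 ∨ k = Multiplicative.ofAdd 1 := by revert k; decide
      rcases hk with rfl | rfl <;> simp [sg]
    rw [show (Commute q t) = (i = 1) from propext h1, show (Commute q t') = (j = 1) from propext h2, key, key]
  have h := Subgroup.card_eq_card_quotient_mul_card_subgroup φ.ker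
  rw [Nat.card_congr (QuotientGroup.quotientKerEquivOfSurjective φ hsur).toEquiv, S.hyp.cardQ, hker,
    Nat.card_congr (Subgroup.subgroupOfEquivOfLe (show P.K ≤ Q from fun _ h => h.1)).toEquiv,
    show Nat.card (Multiplicative (ZMod 2) × Multiplicative (ZMod 2)) = 4 by rw [Nat.card_eq_fintype_card]; decide] at h
  omega

omit P in
theorem commute_of_herm {q r : G} (hq : q ∈ Q) (hr : r ∈ Q) (h : herm (f.vec q) (f.vec r) = 0) :
    Commute q r := by
  by_contra hn
  have hadd : herm (f.vec (q * r)) (f.vec (q * r)) = herm (f.vec q) (f.vec q) + herm (f.vec r) (f.vec r) := by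
    have h' : herm (f.vec r) (f.vec q) = 0 := by rw [← Small.Unitary.star_herm, h, star_zero]
    rw [f.vec_mul q hq r hr, Small.Unitary.herm_add_left, Small.Unitary.herm_add_right,
      Small.Unitary.herm_add_right, h, h', add_zero, zero_add]
  have hm := S.hyp.xt.move hq hr hn
  have hcz : ∀ {a}, a ∈ Q → Commute z a := fun ha => S.hyp.xt.cen _ ha
  have hsq : q * r * (q * r) = z * (q * q) * (r * r) := by
    calc q * r * (q * r) = q * r * q⁻¹ * (q * q) * r := by group
      _ = r * z * (q * q) * r := by rw [hm]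
      _ = r * (z * (q * q)) * r := by group
      _ = z * (q * q) * (r * r) := by
        have : Commute r (z * (q * q)) := by
          refine (hcz hr).symm.mul_right ?_
          rcases S.hyp.xt.sq_mem hq with e | e <;> rw [e]
          exacts [Commute.one_right _, (hcz hr).symm]
        rw [this.eq]; group
  have h0 := f.sq_iff q hq
  have h1 := f.sq_iff r hr
  have h2 := f.sq_iff (q * r) (mul_mem hq hr)
  rw [hsq, hadd] at h2
  have hz1 := S.hyp.xt.ne
  have key : (1 : F4) + 1 = 0 := CharTwo.add_self_eq_zero 1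
  rcases herm_self_real (f.vec q) with eq' | eq' <;> rcases herm_self_real (f.vec r) with er | er <;>
    rw [eq'] at h0 h2 <;> rw [er] at h1 h2
  · rw [h0.2 rfl, h1.2 rfl] at h2
    rw [mul_one, mul_one, add_zero] at h2
    exact hz1 (h2.2 rfl)
  · have e := (S.hyp.xt.sq_mem hr).resolve_left fun e => one_ne_zero (h1.1 e)
    rw [h0.2 rfl, e, mul_one, S.hyp.xt.sq, zero_add] at h2
    exact one_ne_zero (h2.1 rfl)
  · have e := (S.hyp.xt.sq_mem hq).resolve_left fun e => one_ne_zero (h0.1 e)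
    rw [h1.2 rfl, e, mul_one, S.hyp.xt.sq, add_zero] at h2
    exact one_ne_zero (h2.1 rfl)
  · have e := (S.hyp.xt.sq_mem hq).resolve_left fun e => one_ne_zero (h0.1 e)
    have e' := (S.hyp.xt.sq_mem hr).resolve_left fun e => one_ne_zero (h1.1 e)
    rw [e, e', S.hyp.xt.sq, one_mul, key] at h2
    exact hz1 (h2.2 rfl)

end FPair

variable {f : Frame z Q M} (S : Setup z Q N M)

include S

/-- existence inside the largest elementary abelian subgroup, with a moving element and the commutators -/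
theorem Setup.exists_FPair (f : Frame z Q M) : ∃ t t' : G, ∃ P : FPair f t t',
    ∀ CE : Subgroup G, (∀ y : G, (Commute y t ∧ Commute y t') → y ∈ CE) →
      (∃ y ∈ CE, Commute (y * z * y⁻¹) z ∧ y * z * y⁻¹ ≠ z) ∧ t ∈ ⁅CE, CE⁆ ∧ t' ∈ ⁅CE, CE⁆ := by
  classical
  obtain ⟨x, g, l⟩ := S.exists_Line f
  obtain ⟨A, hAe, hAc, hA⟩ := l.A0_exists S
  obtain ⟨ψ, h1, h2, h3, h4, h5⟩ := l.model S hAe hAc hA
  have m : PointModel z A ψ := ⟨h1, h2, h3, h4, h5⟩
  have hzA : z ∈ A := (hA z).2 ⟨z, AQ_z S f, 1, one_mem _, by rw [Subgroup.coe_one, mul_one]⟩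
  have hAQA : ∀ a ∈ AQset f, a ∈ A := fun a ha => (hA a).2 ⟨a, ha, 1, one_mem _, by rw [Subgroup.coe_one, mul_one]⟩
  obtain ⟨v, hvF, hvA, hvI⟩ := Syl.FS_PA
  obtain ⟨t, htQ, hts, ht1, htz, htv⟩ := f.exists_inv S hvI
  have htA : t ∈ AQset f := ⟨htQ, htv ▸ hvF⟩
  set t' := (x : G) * t * (x : G)⁻¹ with ht'
  have ht'v : f.vec t' = F4.w • v := by rw [ht', l.xel.vec f htQ, htv]
  have ht'Q : t' ∈ Q := S.hyp.normQ x l.xz t htQ
  have ht'A : t' ∈ AQset f := ⟨ht'Q, fun p hp => by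
    rw [ht'v, scal_comm (Syl.ES_Kp hp), hvF p hp]⟩
  have hvne : f.vec t ≠ 0 := f.vec_ne S htQ ht1 htz
  have hnc : ¬ IsConj z t := S.t_not_conj f htQ (htv.symm ▸ hvA) htz
  have hnc' : ¬ IsConj z t' := fun h => hnc (h.trans ((isConj_iff.2 ⟨(x : G), rfl⟩).symm))
  have hc : Commute t t' := AQ_comm S f htA ht'A
  set u := (x : G) * t' * (x : G)⁻¹ with hu
  have huQ : u ∈ Q := S.hyp.normQ x l.xz t' ht'Q
  have hnu : ¬ IsConj z u := fun h => hnc' (h.trans ((isConj_iff.2 ⟨(x : G), rfl⟩).symm))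
  have hnc'' : ¬ IsConj z (t * t') := by
    have e : f.vec u = f.vec (t * t') := by
      rw [hu, l.xel.vec f ht'Q, f.vec_mul t htQ t' ht'Q, ht'v, htv]
      have key : ∀ a : F4, F4.w * (F4.w * a) = a + F4.w * a := by decide +kernel
      exact funext fun i => key _
    rcases (f.vec_eq u huQ _ (mul_mem htQ ht'Q)).1 e with e' | e'
    · rw [e']; exact hnu
    · rw [e']
      intro h
      have hu1 : u ≠ 1 := fun e => ht1 (conj_eq_one_iff.1 (conj_eq_one_iff.1 e))
      obtain ⟨q, hq, hn⟩ : ∃ q ∈ Q, ¬ Commute q u := by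
        by_contra hno
        push Not at hno
        rcases S.hyp.xt.eq_of_cen u huQ (fun q hq => (hno q hq).symm) with e'' | e''
        exacts [hu1 e'', hnu (e'' ▸ IsConj.refl z)]
      exact hnu (h.trans ((isConj_iff.2 ⟨q, S.hyp.xt.move hq huQ hn⟩).symm))
  have P : FPair f t t' := ⟨htQ, ht'Q, hts, AQ_sq S f ht'A, hc, htv.symm ▸ hvA, hvne,
    by rw [ht'v, htv], hnc, hnc', hnc''⟩
  obtain ⟨e1, e2, e3, -⟩ := P.ne_all S
  have hpair : ∀ r, r ∈ A → r ≠ 1 → ¬ IsConj z r → ∃ s : Finset GolayPt, s.card = 2 ∧ ψ (phN s) = r := by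
    intro r hr hr1 hrn
    obtain ⟨n, hn, rfl⟩ := m.surj r hr
    obtain ⟨s, hs, rfl⟩ := m.eq_pair hn ((m.cls n hn).1 ⟨hr1, hrn⟩)
    exact ⟨s, hs, rfl⟩
  obtain ⟨s1, hs1, hs1e⟩ := hpair t (hAQA _ htA) e1 hnc
  obtain ⟨s2, hs2, hs2e⟩ := hpair t' (hAQA _ ht'A) e2 hnc'
  obtain ⟨s3, hs3, hs3e⟩ := hpair (t * t') (mul_mem (hAQA _ htA) (hAQA _ ht'A)) e3 hnc''
  have hx : phN s1 ^^^ phN s2 = phN s3 := m.inj _ _ (Nat.xor_lt_two_pow (n := 11) (phN_lt _) (phN_lt _)) (phN_lt _)
    (by rw [m.mul _ _ (phN_lt _) (phN_lt _), hs1e, hs2e, hs3e])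
  obtain ⟨a, b, c, hab, hac, hbc, rfl, rfl, -⟩ := Tri.triangle hs1 hs2 hs3 hx
  have hcnt : 2 ^ 11 * 244823040 ≤ Nat.card (Subgroup.normalizer (A : Set G)) := by
    rw [← S.orbit_count hAe hAc hzA, (l.pr_values S hAe hAc hA).2.2.2]
    have := Nat.mul_le_mul_left 1771 (l.card_HC S hAe hAc hA)
    omega
  obtain ⟨ρ, hsur, -, hdes⟩ := m.exists_hom hAe hAc (fun y hy => l.cen_A S hAe hAc hA hy) hcnt
  have hidx : ((Subgroup.centralizer ({z} : Set G)).subgroupOf (Subgroup.normalizer (A : Set G))).index = 1771 := by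
    have h := S.orbit_count hAe hAc hzA
    rw [(l.pr_values S hAe hAc hA).2.2.2, ← Subgroup.card_mul_index
      ((Subgroup.centralizer ({z} : Set G)).subgroupOf (Subgroup.normalizer (A : Set G))), mul_comm] at h
    exact (Nat.eq_of_mul_eq_mul_left Nat.card_pos h).symm
  refine ⟨t, t', P, fun CE hCE => ?_⟩
  obtain ⟨⟨y, hy, hyA, hyn⟩, hd1, hd2⟩ := m.corners hAe hzA ρ hsur hdes hidx hab hac hbc CE
    (by rw [hs1e, hs2e]; exact hCE)
  exact ⟨⟨y, hy, congrArg Subtype.val (hAe.1.is_comm.comm (⟨_, hyA⟩ : A) ⟨z, hzA⟩), hyn⟩, hs1e ▸ hd1, hs2e ▸ hd2⟩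

end Cfsg.Agent.Spor.LFT
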