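import Cfsg.Agent.Lib.Spor.LFTModel

/-!
An additive isometry normalising 3.U4(3) lies in the group itself or in one of three cosets.
-/

set_option autoImplicit false
set_option maxRecDepth 100000

namespace Cfsg.Agent.Spor.LFT

open Cfsg.Agent.Spor.SUSix (G6 V6)
open Cfsg.Agent.Spor.SpFour (F4)
open Cfsg.Agent.Spor.U43 (K1 mat P6 DD NN MM Kc Ad dlt)
open Cfsg.Agent.Small.Unitary (herm)
open Matrix

theorem act_t01 : act (U43.pm U43.t01) = eo 1 := by
  refine Equiv.ext fun v => funext fun i => ?_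
  show (U43.pmM U43.t01 *ᵥ v) i = v (Equiv.swap 0 1 i)
  rw [Matrix.mulVec, dotProduct, Finset.sum_eq_single (Equiv.swap 0 1 i)]
  · simp [U43.pmM, U43.t01]
  · intro j _ hj
    have : i ≠ U43.t01 j := fun e => hj (by rw [e, U43.t01, Equiv.swap_apply_self])
    simp [U43.pmM, this]
  · intro h; exact absurd (Finset.mem_univ _) h

/-- normalising elements of the special group -/
theorem norm_K1 {g : G6} (hg : ∀ a ∈ K1, g * a * g⁻¹ ∈ K1) : g ∈ K1 ∨ U43.pm U43.t01 * g ∈ K1 := by
  haveI : Fact (Nat.Prime 3) := ⟨Nat.prime_three⟩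
  have hP : P6 ≤ K1 := U43.P6_le_MM.trans U43.MM_le_K1
  have hc : Nat.card P6 = 3 ^ 7 := by rw [U43.card_P6]; norm_num
  obtain ⟨k, hk, hkP⟩ := U43.exists_conj_of_card (K := K1) (P := P6.map (MulAut.conj g).toMonoidHom) (Q := P6)
    (p := 3) (n := 7) (by rw [U43.card_K1, U43.fact37]) (by rintro _ ⟨a, ha, rfl⟩; exact hg a (hP ha)) hP
    (by rw [Subgroup.card_map_of_injective (MulAut.conj g).injective, hc]) hc
  set n := k * g with hn
  have hnP : P6.map (MulAut.conj n).toMonoidHom = P6 := by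
    refine Eq.trans ?_ hkP
    rw [Subgroup.map_map]
    exact congrArg (fun f => Subgroup.map f P6) (MonoidHom.ext fun a => by
      show k * g * a * (k * g)⁻¹ = k * (g * a * g⁻¹) * k⁻¹
      group)
  have hDD : DD.map (MulAut.conj n).toMonoidHom = DD := by
    refine U43.DD_unique (hnP ▸ Subgroup.map_mono U43.DD_le_P6)
      (by rw [Subgroup.card_map_of_injective (MulAut.conj n).injective, U43.card_DD]) ?_
    rintro _ ⟨a, ha, rfl⟩ _ ⟨b, hb, rfl⟩
    refine U43.comm1_of_commute ?_
    rw [← map_mul, ← map_mul]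
    congr 1
    refine U43.G6_ext ?_
    rw [U43.mat_mul, U43.mat_mul, U43.mat_DD ha, U43.mat_DD hb, Matrix.diagonal_mul_diagonal,
      Matrix.diagonal_mul_diagonal]
    exact congrArg _ (funext fun i => mul_comm _ _)
  have hnN : n ∈ NN := U43.mem_NN_of_normalises fun d hd => hDD ▸ ⟨d, hd, rfl⟩
  rcases Int.units_eq_one_or (Equiv.Perm.sign (U43.mp ⟨n, hnN⟩)) with hs | hs
  · left
    have := mul_mem (inv_mem hk) (U43.MM_le_K1 (U43.mem_MM.2 ⟨hnN, hs⟩))
    rwa [hn, inv_mul_cancel_left] at this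
  · right
    have h2 : U43.pm U43.t01 * n ∈ MM := U43.mem_MM.2 ⟨mul_mem (U43.pm_mem _) hnN, by
      rw [show (⟨U43.pm U43.t01 * n, mul_mem (U43.pm_mem _) hnN⟩ : NN) = ⟨U43.pm U43.t01, U43.pm_mem _⟩ * ⟨n, hnN⟩
        from rfl, map_mul, map_mul, U43.mp_pm, hs, U43.t01_odd]
      decide⟩
    have h3 : U43.pm U43.t01 * k * (U43.pm U43.t01)⁻¹ ∈ K1 := by
      have hK0 : Kc 0 = K1 := by
        have : (Ad 0 : G6 →* G6) = MonoidHom.id G6 := MonoidHom.ext fun A => U43.G6_ext (by
          show U43.adM 0 (mat A) = mat A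
          have e : Matrix.diagonal (dlt 0) = (1 : U43.M6) := by decide +kernel
          rw [U43.adM, mul_zero, e, one_mul, mul_one])
        rw [U43.Kc, this, Subgroup.map_id]
      have := U43.norm_Kc (n := 0) (by norm_num) k (hK0 ▸ hk)
      rwa [hK0] at this
    have := mul_mem (inv_mem h3) (U43.MM_le_K1 h2)
    rw [hn] at this
    convert this using 1
    group

theorem Kc_zero : Kc 0 = K1 := by
  have : (Ad 0 : G6 →* G6) = MonoidHom.id G6 := MonoidHom.ext fun A => U43.G6_ext (by
    show U43.adM 0 (mat A) = mat A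
    have e : Matrix.diagonal (dlt 0) = (1 : U43.M6) := by decide +kernel
    rw [U43.adM, mul_zero, e, one_mul, mul_one])
  rw [U43.Kc, this, Subgroup.map_id]

theorem det_dlt : ∀ k < 3, (Matrix.diagonal (dlt k)).det = F4.w ^ k := by
  intro k hk
  rw [Matrix.det_diagonal]
  revert k
  decide +kernel

theorem scal_mem (c : F4) (hc : c ≠ 0) : SUSix.scalSU c hc ∈ K1 :=
  U43.center_le_K1 (SUSix.ker_le_center (SUSix.scalSU_mem_ker c hc))

theorem act_scal (c : F4) (hc : c ≠ 0) (v : V6) : act (SUSix.scalSU c hc) v = c • v := by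
  show SUSix.scal c *ᵥ v = c • v
  funext i
  rw [SUSix.scal, Matrix.mulVec_diagonal]
  rfl

/-- an isometry commuting with scalars and normalising the group -/
theorem linear_case {h : PV} (hadd : ∀ f g, h (f + g) = h f + h g) (hsm : ∀ f, h (F4.w • f) = F4.w • h f)
    (hq : ∀ f, herm (h f) (h f) = herm f f) (hn : ∀ p ∈ Kp, h * p * h⁻¹ ∈ Kp) :
    h ∈ Kp ∨ eo 1 * h ∈ Kp := by
  have h0 : h 0 = 0 := by simpa using hadd 0 0
  have hsm' : ∀ (c : F4) f, h (c • f) = c • h f := by
    intro c f
    cases c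
    · rw [show (F4.o : F4) = 0 from rfl, zero_smul, zero_smul, h0]
    · rw [show (F4.i : F4) = 1 from rfl, one_smul, one_smul]
    · exact hsm f
    · rw [show (F4.v : F4) = F4.w * F4.w from rfl, mul_smul, mul_smul, hsm, hsm]
  have hherm : ∀ f g, herm (h f) (h g) = herm f g := by
    intro f g
    have key : ∀ a b : F4, a + star a = b + star b → F4.w * a + star (F4.w * a) = F4.w * b + star (F4.w * b) → a = b := by
      decide +kernel
    have hp : ∀ f g, herm (h f) (h g) + star (herm (h f) (h g)) = herm f g + star (herm f g) := by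
      intro f g
      have e := hq (f + g)
      rw [hadd, Small.Unitary.herm_add_left, Small.Unitary.herm_add_left, Small.Unitary.herm_add_right,
        Small.Unitary.herm_add_right, Small.Unitary.herm_add_right, Small.Unitary.herm_add_right, hq, hq] at e
      rw [Small.Unitary.star_herm, Small.Unitary.star_herm]
      have k2 : ∀ a b c d e f : F4, a + b + (c + d) = a + e + (f + d) → b + c = e + f := by decide +kernel
      exact k2 _ _ _ _ _ _ e
    refine key _ _ (hp f g) ?_
    have := hp f (F4.w • g)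
    rwa [hsm, Small.Unitary.herm_smul_right, Small.Unitary.herm_smul_right] at this
  set A : U43.M6 := Matrix.of fun i j => h (Pi.single j 1) i with hA
  have hAv : ∀ v, A *ᵥ v = h v := by
    intro v
    let L : V6 →ₗ[F4] V6 := { toFun := h, map_add' := hadd, map_smul' := hsm' }
    have : Matrix.mulVecLin A = L := by
      refine (Pi.basisFun F4 (Fin 6)).ext fun j => funext fun i => ?_
      rw [Pi.basisFun_apply]
      show (A *ᵥ Pi.single j 1) i = h (Pi.single j 1) i
      rw [Matrix.mulVec_single_one]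
      rfl
    exact LinearMap.congr_fun this v
  have hAu : Aᴴ * A = 1 := by
    ext i j
    have e := hherm (Pi.single i 1) (Pi.single j 1)
    have e1 : herm (h (Pi.single i 1)) (h (Pi.single j 1)) = (Aᴴ * A) i j := by
      rw [← hAv, ← hAv, Matrix.mulVec_single_one, Matrix.mulVec_single_one]
      rfl
    rw [← e1, e]
    simp [herm, Matrix.one_apply, Pi.single_apply, eq_comm]
  have hd : A.det ≠ 0 := by
    intro e
    have := congrArg Matrix.det hAu
    rw [Matrix.det_mul, e, mul_zero, Matrix.det_one] at this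
    exact zero_ne_one this
  obtain ⟨k, hk, hkd⟩ : ∃ k < 3, F4.w ^ k * A.det = 1 := by
    revert hd
    generalize A.det = d
    revert d
    decide +kernel
  set D := Matrix.diagonal (dlt k) with hD
  have hDu : Dᴴ * D = 1 := U43.diag_unit _ (U43.dlt_ne k)
  let A' : G6 := Small.Unitary.mkSU SpFour.F4.star_eq_pow (D * A)
    (by rw [Matrix.conjTranspose_mul, Matrix.mul_assoc, ← Matrix.mul_assoc Dᴴ, hDu, one_mul, hAu])
    (by rw [Matrix.det_mul, det_dlt k hk, hkd])
  have hA' : ∀ v, act A' v = D *ᵥ h v := fun v => by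
    show (D * A) *ᵥ v = _
    rw [← Matrix.mulVec_mulVec, hAv]
  have hmap : K1.map (MulAut.conj A').toMonoidHom ≤ Kc k := by
    rintro _ ⟨a, ha, rfl⟩
    obtain ⟨b, hb, hbe⟩ := hn _ ⟨a, ha, rfl⟩
    refine ⟨b, hb, act_inj (Equiv.ext fun v => ?_)⟩
    show act (Ad k b) v = act (A' * a * A'⁻¹) v
    obtain ⟨u, rfl⟩ : ∃ u, v = act A' u := ⟨(act A')⁻¹ v, ((act A').apply_symm_apply v).symm⟩
    rw [map_mul, map_mul, map_inv, Equiv.Perm.mul_apply, Equiv.Perm.mul_apply,
      show (act A')⁻¹ (act A' u) = u from (act A').symm_apply_apply u, hA', hA']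
    have e : h (act a u) = act b (h u) := by
      rw [hbe]
      show h (act a u) = h (act a (h⁻¹ (h u)))
      rw [show h⁻¹ (h u) = u from h.symm_apply_apply u]
    rw [e, act_apply, act_apply, U43.mat_Ad, U43.adM, ← hD, Matrix.mulVec_mulVec, Matrix.mulVec_mulVec,
      Matrix.mul_assoc, U43.dlt_mul', mul_one]
  have hk0 : k = 0 := by
    by_contra hne
    have hlt : (0 : Fin 3) < ⟨k, hk⟩ := Nat.pos_of_ne_zero hne
    refine U43.not_conj hlt A' (Subgroup.eq_of_le_of_card_ge ?_ ?_)
    · show (Kc 0).map _ ≤ Kc k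
      rw [Kc_zero]; exact hmap
    · rw [Subgroup.card_map_of_injective (MulAut.conj A').injective, U43.card_Kc, U43.card_Kc]
  subst hk0
  have hh : act A' = h := Equiv.ext fun v => by
    rw [hA', hD, show Matrix.diagonal (dlt 0) = (1 : U43.M6) by decide +kernel, Matrix.one_mulVec]
  rcases norm_K1 (g := A') (fun a ha => Kc_zero ▸ hmap ⟨a, ha, rfl⟩) with e | e
  · exact Or.inl ⟨A', e, hh⟩
  · exact Or.inr ⟨_, e, by rw [map_mul, hh, act_t01]⟩

/-- isometries normalising the group -/
theorem norm_cases {h : PV} (hadd : ∀ f g, h (f + g) = h f + h g)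
    (hq : ∀ f, herm (h f) (h f) = herm f f) (hn : ∀ p ∈ Kp, h * p * h⁻¹ ∈ Kp) :
    h ∈ Kp ∨ ∃ s : Fin 3, eo s * h ∈ Kp := by
  have hw : F4.w ≠ 0 := by decide +kernel
  set W : PV := act (SUSix.scalSU F4.w hw) with hW
  have hWK : W ∈ Kp := ⟨_, scal_mem _ _, rfl⟩
  obtain ⟨b, hb, hbW⟩ := hn W hWK
  have hbc : b ∈ Subgroup.center G6 := by
    have hbc1 : ∀ a ∈ K1, a * b = b * a := by
      intro a ha
      refine act_inj ?_
      rw [map_mul, map_mul, hbW]
      obtain ⟨c, hc, hce⟩ : h⁻¹ * act a * h ∈ Kp := by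
        -- the normaliser of a finite group is closed under inverses
        have hle : Kp.map (MulAut.conj h).toMonoidHom ≤ Kp := by rintro _ ⟨p, hp, rfl⟩; exact hn p hp
        have heq : Kp.map (MulAut.conj h).toMonoidHom = Kp :=
          Subgroup.eq_of_le_of_card_ge hle (by rw [Subgroup.card_map_of_injective (MulAut.conj h).injective])
        obtain ⟨p, hp, e⟩ : act a ∈ Kp.map (MulAut.conj h).toMonoidHom := heq.symm ▸ ⟨a, ha, rfl⟩
        rw [← e]
        show h⁻¹ * (h * p * h⁻¹) * h ∈ Kp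
        rwa [show h⁻¹ * (h * p * h⁻¹) * h = p by group]
      have hcW : act c * W = W * act c := by
        rw [hW, ← map_mul, ← map_mul,
          Subgroup.mem_center_iff.1 (SUSix.ker_le_center (SUSix.scalSU_mem_ker F4.w hw)) c]
      rw [hce] at hcW
      calc act a * (h * W * h⁻¹) = h * (h⁻¹ * act a * h * W) * h⁻¹ := by group
        _ = h * (W * (h⁻¹ * act a * h)) * h⁻¹ := by rw [hcW]
        _ = h * W * h⁻¹ * act a := by group
    have : (⟨b, hb⟩ : K1) ∈ Subgroup.center K1 := Subgroup.mem_center_iff.2 fun a => Subtype.ext (hbc1 a a.2)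
    rwa [U43.center_K1, Subgroup.mem_subgroupOf] at this
  obtain ⟨c, hc, hbm⟩ := U43.center_scal hbc
  have hb' : ∀ v, h (W v) = c • h v := by
    intro v
    have e := Equiv.congr_fun hbW (h v)
    rw [Equiv.Perm.mul_apply, Equiv.Perm.mul_apply, show h⁻¹ (h v) = v from h.symm_apply_apply v] at e
    rw [← e, act_apply, hbm]
    funext i
    rw [SUSix.scal, Matrix.mulVec_diagonal]
    rfl
  have hW' : ∀ v, h (F4.w • v) = c • h v := fun v => by rw [← act_scal F4.w hw]; exact hb' v
  have hc1 : c ≠ 1 := by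
    intro e
    have := hW' (Pi.single 0 1)
    rw [e, one_smul] at this
    exact absurd (h.injective this) (by decide +kernel)
  have hcases : c = F4.w ∨ c = F4.v := by
    have : ∀ c : F4, c ≠ 0 → c ≠ 1 → c = F4.w ∨ c = F4.v := by decide +kernel
    exact this c hc hc1
  rcases hcases with rfl | rfl
  · rcases linear_case hadd hW' hq hn with e | e
    · exact Or.inl e
    · exact Or.inr ⟨1, e⟩
  · set h' := eo 0 * h with hh'
    have he : ∀ v, eo 0 (F4.v • v) = F4.w • eo 0 v := by
      intro v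
      funext i
      show star ((F4.v • v) (Equiv.swap 0 1 i)) = F4.w * star (v (Equiv.swap 0 1 i))
      rw [Pi.smul_apply, smul_eq_mul, star_mul, mul_comm, show star F4.v = F4.w by decide +kernel]
    have hadd' : ∀ f g, h' (f + g) = h' f + h' g := fun f g => by
      show eo 0 (h (f + g)) = _
      rw [hadd, eo_add]; rfl
    have hq' : ∀ f, herm (h' f) (h' f) = herm f f := by
      intro f
      rw [← hq f]
      show herm (eo 0 (h f)) (eo 0 (h f)) = _
      rw [herm_self, herm_self]
      have hzero : ∀ v, (Chk.wt (SUSix.code v) % 2 = 0 ↔ v = 0 ∨ PI v) := by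
        intro v
        rw [PI_iff, herm_self]
        by_cases hv : v = 0
        · subst hv; exact iff_of_true (by decide +kernel) (Or.inl rfl)
        · simp [hv]
      refine if_congr ?_ rfl rfl
      rw [hzero, hzero, (Gam_le_Pres outer_mem (h f)).2]
      refine or_congr_left ⟨fun e => ?_, fun e => by rw [e]; decide +kernel⟩
      have := congrArg (eo 0) e
      rw [← Equiv.Perm.mul_apply, eo_sq, Equiv.Perm.one_apply] at this
      rw [this]; decide +kernel
    have hn' : ∀ p ∈ Kp, h' * p * h'⁻¹ ∈ Kp := fun p hp => by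
      rw [hh', show eo 0 * h * p * (eo 0 * h)⁻¹ = eo 0 * (h * p * h⁻¹) * (eo 0)⁻¹ by group]
      exact outer_normalizes (hn p hp)
    have hsm : ∀ f, h' (F4.w • f) = F4.w • h' f := fun f => by
      show eo 0 (h (F4.w • f)) = _
      rw [hW', he]; rfl
    rcases linear_case hadd' hsm hq' hn' with e | e
    · exact Or.inr ⟨0, e⟩
    · refine Or.inr ⟨2, ?_⟩
      rwa [hh', ← mul_assoc, eo_zero_eq, ← mul_assoc, eo_sq, one_mul] at e

end Cfsg.Agent.Spor.LFT
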