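import Cfsg.Agent.Lib.Spor.U43Classes

/-!
The statement on three classes of subgroups 3.U4(3) for SU(6,2) over the computational field.
-/

set_option autoImplicit false
set_option maxRecDepth 100000

namespace Cfsg.Agent.Spor.U43

open Cfsg.Agent.Spor.SUSix (G6 uperm)

theorem map_u_equiv {K : Subgroup G6} (hc : Subgroup.center K = (Subgroup.center G6).subgroupOf K) :
    Nonempty (K.map uperm ≃* K ⧸ Subgroup.center K) := by
  have hker : (uperm.comp K.subtype).ker = Subgroup.center K := by
    rw [hc]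
    ext x
    rw [MonoidHom.mem_ker, Subgroup.mem_subgroupOf, ← SUSix.ker_eq]
    rfl
  have hr : (uperm.comp K.subtype).range = K.map uperm := by
    rw [MonoidHom.range_comp, Subgroup.range_subtype]
  exact ⟨((QuotientGroup.quotientMulEquivOfEq hker.symm).trans
    ((QuotientGroup.quotientKerEquivRange _).trans (MulEquiv.subgroupCongr hr))).symm⟩

variable (F9 : Type) [Field F9] [Fintype F9]

theorem isT_of {K : Subgroup G6} (hF9 : Fintype.card F9 = 9) (hc : Nat.card (Subgroup.center K) = 3)
    (hi : Nonempty (K ⧸ Subgroup.center K ≃* Cfsg.PSU 4 F9 3)) : IsT K := by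
  obtain ⟨e⟩ := hi
  obtain ⟨hcard, -⟩ := Local.FS.McLSmall.Unitary.exists_psu_action hF9
  have hK : Nat.card K = 9797760 := by
    rw [Subgroup.card_eq_card_quotient_mul_card_subgroup (Subgroup.center K), Nat.card_congr e.toEquiv, hcard, hc]
  haveI : Fact (Nat.Prime 3) := ⟨by norm_num⟩
  obtain ⟨P, hP⟩ := Sylow.exists_subgroup_card_pow_prime 3 (G := K) (n := 7) (by rw [hK]; norm_num)
  have hP' : Nat.card (P.map K.subtype) = 3 ^ 7 := by
    rw [Subgroup.card_map_of_injective K.subtype_injective, hP]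
  obtain ⟨g, -, hg⟩ := exists_conj_of_card (p := 3) (n := 7) (K := (⊤ : Subgroup G6)) (P := P.map K.subtype)
    (Q := P6) (by rw [Subgroup.card_top, card_G6]; exact fact_su) le_top le_top hP' (by rw [card_P6]; norm_num)
  have hZ : Subgroup.center G6 ≤ K := by
    intro z hz
    obtain ⟨y, hy, e'⟩ : z ∈ (P.map K.subtype).map (MulAut.conj g).toMonoidHom := hg ▸ center_le_P6 hz
    have hyz : y = z := (MulAut.conj g).injective (by
      show (MulAut.conj g) y = (MulAut.conj g) z
      rw [show (MulAut.conj g) y = z from e', MulAut.conj_apply, Subgroup.mem_center_iff.mp hz g,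
        mul_inv_cancel_right])
    exact hyz ▸ (Subgroup.map_subtype_le P) hy
  have hcen : Subgroup.center K = (Subgroup.center G6).subgroupOf K := by
    refine (Subgroup.eq_of_le_of_card_ge (fun x hx => Subgroup.mem_center_iff.mpr fun y =>
      Subtype.ext (Subgroup.mem_center_iff.mp (Subgroup.mem_subgroupOf.mp hx) y.1)) ?_).symm
    rw [hc, Nat.card_congr (Subgroup.subgroupOfEquivOfLe hZ).toEquiv, SUSix.card_center]
  obtain ⟨e2⟩ := map_u_equiv hcen
  obtain ⟨e3⟩ := map_u_equiv center_K1
  obtain ⟨e4⟩ := K1_iso F9 hF9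
  exact ⟨hZ, hK, ⟨e2.trans (e.trans (e4.symm.trans e3.symm))⟩⟩

theorem Kc_spec (n : ℕ) (hF9 : Fintype.card F9 = 9) : Nat.card (Subgroup.center (Kc n)) = 3 ∧
    Nonempty (↥(Kc n) ⧸ Subgroup.center (Kc n) ≃* Cfsg.PSU 4 F9 3) := by
  have e : K1 ≃* ↥(Kc n) := Subgroup.equivMapOfInjective K1 (Ad n) (Ad_inj n)
  constructor
  · rw [← Nat.card_congr (Subgroup.centerCongr e).toEquiv, card_center_K1]
  · obtain ⟨e4⟩ := K1_iso F9 hF9
    have hm : (Subgroup.center K1).map e.toMonoidHom = Subgroup.center ↥(Kc n) := by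
      ext y
      constructor
      · rintro ⟨x, hx, rfl⟩
        refine Subgroup.mem_center_iff.mpr fun w => ?_
        obtain ⟨v, rfl⟩ := e.surjective w
        show e v * e x = e x * e v
        rw [← map_mul, ← map_mul, Subgroup.mem_center_iff.mp hx v]
      · intro hy
        refine ⟨e.symm y, Subgroup.mem_center_iff.mpr fun v => e.injective ?_, e.apply_symm_apply y⟩
        rw [map_mul, map_mul, e.apply_symm_apply]
        exact Subgroup.mem_center_iff.mp hy _
    exact ⟨(QuotientGroup.congr _ _ e hm).symm.trans e4⟩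

/-- The three classes. -/
theorem three_classes (hF9 : Fintype.card F9 = 9) {K : Subgroup G6} (hc : Nat.card (Subgroup.center K) = 3)
    (hi : Nonempty (K ⧸ Subgroup.center K ≃* Cfsg.PSU 4 F9 3)) :
    ∃ g : G6, ∃ j < 3, K.map (MulAut.conj g).toMonoidHom = Kc j := by
  obtain ⟨hZ, hK, ⟨ψ⟩⟩ := isT_of F9 hF9 hc hi
  haveI : Fact (Nat.Prime 3) := ⟨by norm_num⟩
  obtain ⟨P, hP⟩ := Sylow.exists_subgroup_card_pow_prime 3 (G := K) (n := 7) (by rw [hK]; norm_num)
  have hP' : Nat.card (P.map K.subtype) = 3 ^ 7 := by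
    rw [Subgroup.card_map_of_injective K.subtype_injective, hP]
  obtain ⟨g, -, hg⟩ := exists_conj_of_card (p := 3) (n := 7) (K := (⊤ : Subgroup G6)) (P := P.map K.subtype)
    (Q := P6) (by rw [Subgroup.card_top, card_G6]; exact fact_su) le_top le_top hP' (by rw [card_P6]; norm_num)
  refine ⟨g, eq_Kc ⟨?_, ?_, ?_⟩ (hg ▸ Subgroup.map_mono (Subgroup.map_subtype_le P))⟩
  · intro z hz
    exact ⟨z, hZ hz, by
      show (MulAut.conj g) z = z
      rw [MulAut.conj_apply, Subgroup.mem_center_iff.mp hz g, mul_inv_cancel_right]⟩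
  · rw [Subgroup.card_map_of_injective (show Function.Injective (MulAut.conj g).toMonoidHom from
      (MulAut.conj g).injective), hK]
  · -- conjugation in the permutation image
    have e : (K.map (MulAut.conj g).toMonoidHom).map uperm =
        (K.map uperm).map (MulAut.conj (uperm g)).toMonoidHom := by
      rw [Subgroup.map_map, Subgroup.map_map]
      congr 1
      ext x
      simp
    exact ⟨(MulEquiv.subgroupCongr e).trans (((MulAut.conj (uperm g)).subgroupMap (K.map uperm)).symm.trans ψ)⟩

end Cfsg.Agent.Spor.U43
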