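import Cfsg.Agent.Lib.Spor.LFTBasis
import Cfsg.Agent.Lib.Spor.LFTNorm
import Cfsg.Agent.Lib.Spor.U43Main

/-!
Large Fischer type: coordinates in which the centraliser of the involution acts as 3.U4(3) extended by one of
three outer candidates.
-/

set_option autoImplicit false
set_option maxRecDepth 100000
set_option linter.unusedSectionVars false

namespace Cfsg.Agent.Spor.LFT

open Cfsg.Agent.Spor.SUSix (G6 V6)
open Cfsg.Agent.Spor.SpFour (F4)
open Cfsg.Agent.Spor.U43 (K1 mat dlt Kc Ad)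
open Cfsg.Agent.Small.Unitary (herm)
open Matrix

universe u

variable {G : Type u} [Group G] [Finite G] {z : G} {Q N M : Subgroup G} {x : G}

theorem smul_case {f : V6 → V6} (h0 : f 0 = 0) (hw : ∀ v, f (F4.w • v) = F4.w • f v) :
    ∀ (c : F4) (v : V6), f (c • v) = c • f v := by
  intro c v
  cases c
  · rw [show (F4.o : F4) = 0 from rfl, zero_smul, zero_smul, h0]
  · rw [show (F4.i : F4) = 1 from rfl, one_smul, one_smul]
  · exact hw v
  · rw [show (F4.v : F4) = F4.w * F4.w from rfl, mul_smul, mul_smul, hw, hw]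

theorem herm_unit {A : Matrix (Fin 6) (Fin 6) F4} (hA : Aᴴ * A = 1) (u v : V6) :
    herm (A *ᵥ u) (A *ᵥ v) = herm u v := by
  rw [herm, Matrix.star_mulVec, ← Matrix.dotProduct_mulVec, Matrix.mulVec_mulVec, hA, Matrix.one_mulVec]
  rfl

theorem herm_self_real (v : V6) : herm v v = 0 ∨ herm v v = 1 := by
  rw [herm_self]
  split_ifs
  · exact Or.inl rfl
  · exact Or.inr rfl

/-- coordinates of the quotient by the centre -/
structure Coord (z : G) (Q : Subgroup G) (x : G) (vec : G → V6) : Prop where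
  mul : ∀ a ∈ Q, ∀ b ∈ Q, vec (a * b) = vec a + vec b
  surj : ∀ v, ∃ a ∈ Q, vec a = v
  eq_iff : ∀ a ∈ Q, ∀ b ∈ Q, (vec a = vec b ↔ Zc z a b)
  form : ∀ a ∈ Q, ∀ b ∈ Q, hf x a b = herm (vec a) (vec b)
  xc_eq : ∀ a ∈ Q, vec (xc x a) = F4.w • vec a

theorem Ord.exists_Coord (o : Ord z Q N M x) : ∃ vec, Coord z Q x vec := by
  obtain ⟨e, he, hdec⟩ := o.exists_coord
  refine ⟨fun a i => hf x (e i) a, ⟨fun a ha b hb => funext fun i => ?_,
    fun v => ⟨lc x v e, o.lc_mem _ _ he.1, funext fun i => o.hf_lc_on he v i⟩, fun a ha b hb => ⟨fun h => ?_,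
      fun h => funext fun i => (o.hf_zc (he.1 i) h).symm⟩, fun a ha b hb => ?_, fun a ha => funext fun i => ?_⟩⟩
  · exact o.hf_mul (he.1 i) ha hb
  · have h1 := hdec a ha
    have h2 := hdec b hb
    rw [show (fun i => hf x (e i) a) = fun i => hf x (e i) b from h] at h1
    exact Zc.trans o.hyp h1 (Zc.symm o.hyp h2)
  · rw [← o.hf_zc ha (hdec b hb), o.hf_lc ha _ _ he.1]
    show _ = ∑ i, star (hf x (e i) a) * hf x (e i) b
    refine Finset.sum_congr rfl fun i _ => ?_
    rw [o.hf_swap (he.1 i) ha, mul_comm]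
  · exact o.hf_xc (he.1 i) ha

variable {vec : G → V6}

/-- an element with given coordinates -/
noncomputable def Coord.lift (C : Coord z Q x vec) (v : V6) : G := (C.surj v).choose

theorem Coord.lift_spec (C : Coord z Q x vec) (v : V6) : C.lift v ∈ Q ∧ vec (C.lift v) = v :=
  (C.surj v).choose_spec

theorem Coord.transform (C : Coord z Q x vec) {B : Matrix (Fin 6) (Fin 6) F4} (hB : Bᴴ * B = 1) :
    Coord z Q x fun a => B *ᵥ vec a := by
  refine ⟨fun a ha b hb => ?_, fun v => ?_, fun a ha b hb => ?_, fun a ha b hb => ?_, fun a ha => ?_⟩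
  · show B *ᵥ vec (a * b) = _
    rw [C.mul a ha b hb, Matrix.mulVec_add]
  · refine ⟨C.lift (Bᴴ *ᵥ v), (C.lift_spec _).1, ?_⟩
    show B *ᵥ vec (C.lift (Bᴴ *ᵥ v)) = v
    rw [(C.lift_spec _).2, Matrix.mulVec_mulVec, mul_eq_one_comm.1 hB, Matrix.one_mulVec]
  · rw [← C.eq_iff a ha b hb]
    constructor
    · intro h
      have h' := congrArg (Bᴴ *ᵥ ·) h
      simpa [Matrix.mulVec_mulVec, hB] using h'
    · intro h
      show B *ᵥ vec a = B *ᵥ vec b
      rw [h]
  · rw [herm_unit hB, C.form a ha b hb]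
  · show B *ᵥ vec (xc x a) = _
    rw [C.xc_eq a ha, Matrix.mulVec_smul]

variable (o : Ord z Q N M x) (C : Coord z Q x vec)

include o C

theorem Coord.conj_vec {c a : G} (hc : Commute c z) (ha : a ∈ Q) :
    vec (c * C.lift (vec a) * c⁻¹) = vec (c * a * c⁻¹) :=
  (C.eq_iff _ (o.hyp.normQ c hc _ (C.lift_spec _).1) _ (o.hyp.normQ c hc a ha)).2
    (Zc.conj hc ((C.eq_iff _ (C.lift_spec _).1 a ha).1 (C.lift_spec _).2))

omit o C in
theorem mem_cen {c : G} (hc : c ∈ Subgroup.centralizer ({z} : Set G)) : Commute c z :=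
  Subgroup.mem_centralizer_singleton_iff.1 hc

/-- the action of the centraliser -/
noncomputable def Coord.rep : Subgroup.centralizer ({z} : Set G) →* PV where
  toFun c :=
    { toFun := fun v => vec ((c : G) * C.lift v * (c : G)⁻¹)
      invFun := fun v => vec ((c : G)⁻¹ * C.lift v * (c : G)⁻¹⁻¹)
      left_inv := fun v => by
        show vec ((c : G)⁻¹ * C.lift (vec ((c : G) * C.lift v * (c : G)⁻¹)) * (c : G)⁻¹⁻¹) = v
        rw [C.conj_vec o (mem_cen c.2).inv_left (o.hyp.normQ c (mem_cen c.2) _ (C.lift_spec _).1)]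
        refine Eq.trans ?_ (C.lift_spec v).2
        congr 1
        group
      right_inv := fun v => by
        show vec ((c : G) * C.lift (vec ((c : G)⁻¹ * C.lift v * (c : G)⁻¹⁻¹)) * (c : G)⁻¹) = v
        rw [C.conj_vec o (mem_cen c.2) (o.hyp.normQ _ (mem_cen c.2).inv_left _ (C.lift_spec _).1)]
        refine Eq.trans ?_ (C.lift_spec v).2
        congr 1
        group }
  map_one' := Equiv.ext fun v => by
    show vec (((1 : Subgroup.centralizer ({z} : Set G)) : G) * C.lift v *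
      ((1 : Subgroup.centralizer ({z} : Set G)) : G)⁻¹) = v
    rw [OneMemClass.coe_one, one_mul, inv_one, mul_one, (C.lift_spec v).2]
  map_mul' a b := Equiv.ext fun v => by
    show vec (((a * b : Subgroup.centralizer ({z} : Set G)) : G) * C.lift v *
      ((a * b : Subgroup.centralizer ({z} : Set G)) : G)⁻¹) =
        vec ((a : G) * C.lift (vec ((b : G) * C.lift v * (b : G)⁻¹)) * (a : G)⁻¹)
    rw [C.conj_vec o (mem_cen a.2) (o.hyp.normQ b (mem_cen b.2) _ (C.lift_spec _).1), Subgroup.coe_mul]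
    congr 1
    group

theorem Coord.rep_vec (c : Subgroup.centralizer ({z} : Set G)) {a : G} (ha : a ∈ Q) :
    C.rep o c (vec a) = vec ((c : G) * a * (c : G)⁻¹) := C.conj_vec o (mem_cen c.2) ha

theorem Coord.rep_ext {p : PV} (c : Subgroup.centralizer ({z} : Set G))
    (h : ∀ a ∈ Q, vec ((c : G) * a * (c : G)⁻¹) = p (vec a)) : C.rep o c = p :=
  Equiv.ext fun v => by
    obtain ⟨a, ha, rfl⟩ := C.surj v
    rw [C.rep_vec o c ha, h a ha]

theorem Coord.rep_ker (c : Subgroup.centralizer ({z} : Set G)) : C.rep o c = 1 ↔ (c : G) ∈ Q := by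
  constructor
  · intro h
    refine o.hyp.inner c (mem_cen c.2) fun a ha => ?_
    have h1 := C.rep_vec o c ha
    rw [h, Equiv.Perm.one_apply] at h1
    exact (C.eq_iff a ha _ (o.hyp.normQ c (mem_cen c.2) a ha)).1 h1
  · intro hc
    refine C.rep_ext o c fun a ha => ?_
    rw [Equiv.Perm.one_apply]
    exact ((C.eq_iff a ha _ (o.hyp.normQ c (mem_cen c.2) a ha)).2 (o.hyp.xt.comm c hc a ha)).symm

theorem Coord.rep_add (c : Subgroup.centralizer ({z} : Set G)) (u v : V6) :
    C.rep o c (u + v) = C.rep o c u + C.rep o c v := by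
  obtain ⟨a, ha, rfl⟩ := C.surj u
  obtain ⟨b, hb, rfl⟩ := C.surj v
  rw [← C.mul a ha b hb, C.rep_vec o c (mul_mem ha hb), C.rep_vec o c ha, C.rep_vec o c hb, ← conj_mul,
    C.mul _ (o.hyp.normQ c (mem_cen c.2) a ha) _ (o.hyp.normQ c (mem_cen c.2) b hb)]

theorem Coord.sq_iff {a : G} (ha : a ∈ Q) : a * a = 1 ↔ herm (vec a) (vec a) = 0 := by
  rw [o.sq_iff ha, C.form a ha a ha]

theorem Coord.rep_q (c : Subgroup.centralizer ({z} : Set G)) (v : V6) :
    herm (C.rep o c v) (C.rep o c v) = herm v v := by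
  obtain ⟨a, ha, rfl⟩ := C.surj v
  rw [C.rep_vec o c ha]
  have h1 : herm (vec ((c : G) * a * (c : G)⁻¹)) (vec ((c : G) * a * (c : G)⁻¹)) = 0 ↔ herm (vec a) (vec a) = 0 := by
    rw [← C.sq_iff o ha, ← C.sq_iff o (o.hyp.normQ c (mem_cen c.2) a ha), conj_mul]
    exact conj_eq_one_iff
  rcases herm_self_real (vec a) with e | e
  · rw [e, h1.2 e]
  · rw [e]
    refine (herm_self_real _).resolve_left fun e' => ?_
    rw [h1.1 e'] at e
    exact zero_ne_one e

theorem Coord.rep_w (c : Subgroup.centralizer ({z} : Set G)) (hc : (c : G) ∈ M) (v : V6) :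
    C.rep o c (F4.w • v) = F4.w • C.rep o c v := by
  obtain ⟨a, ha, rfl⟩ := C.surj v
  have hcz := mem_cen c.2
  have hb := o.hyp.normQ c hcz a ha
  rw [← C.xc_eq a ha, C.rep_vec o c (o.xc_mem ha), C.rep_vec o c ha, ← C.xc_eq _ hb]
  refine ((C.eq_iff _ (o.xc_mem hb) _ (o.hyp.normQ c hcz _ (o.xc_mem ha))).2 ?_).symm
  -- the commutator with the element of order three
  have hr := o.central c hc
  have hcomm := o.hyp.xt.comm _ hr _ (o.xc_mem hb)
  have e : (c : G) * x * (c : G)⁻¹ * x⁻¹ * xc x ((c : G) * a * (c : G)⁻¹) * ((c : G) * x * (c : G)⁻¹ * x⁻¹)⁻¹ =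
      (c : G) * xc x a * (c : G)⁻¹ := by
    unfold xc; group
  rw [e] at hcomm
  exact hcomm

theorem Coord.rep_herm (c : Subgroup.centralizer ({z} : Set G)) (hc : (c : G) ∈ M) (u v : V6) :
    herm (C.rep o c u) (C.rep o c v) = herm u v := by
  obtain ⟨a, ha, rfl⟩ := C.surj u
  obtain ⟨b, hb, rfl⟩ := C.surj v
  have hcz := mem_cen c.2
  have ha' := o.hyp.normQ c hcz a ha
  have hb' := o.hyp.normQ c hcz b hb
  have h1 : vec ((c : G) * xc x b * (c : G)⁻¹) = vec (xc x ((c : G) * b * (c : G)⁻¹)) := by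
    rw [C.xc_eq _ hb', ← C.rep_vec o c hb, ← C.rep_vec o c (o.xc_mem hb), C.xc_eq b hb, C.rep_w o c hc]
  have h2 := (C.eq_iff _ (o.hyp.normQ c hcz _ (o.xc_mem hb)) _ (o.xc_mem hb')).1 h1
  rw [C.rep_vec o c ha, C.rep_vec o c hb, ← C.form _ ha' _ hb', ← C.form a ha b hb, hf, hf,
    cb_zc o.hyp ha' h2, cb_conj, cb_conj]

theorem Coord.xc_rep (c : Subgroup.centralizer ({z} : Set G)) (hc : (c : G) = x) (v : V6) :
    C.rep o c v = F4.w • v := by
  obtain ⟨a, ha, rfl⟩ := C.surj v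
  rw [C.rep_vec o c ha, ← C.xc_eq a ha, hc]
  rfl

omit o C

/-- the matrix of an additive map -/
def matOf (p : PV) : U43.M6 := Matrix.of fun i j => p (Pi.single j 1) i

theorem matOf_apply {p : PV} (ha : ∀ f g, p (f + g) = p f + p g) (hw : ∀ f, p (F4.w • f) = F4.w • p f) (v : V6) :
    matOf p *ᵥ v = p v := by
  have h0 : p 0 = 0 := by simpa using ha 0 0
  let L : V6 →ₗ[F4] V6 := { toFun := p, map_add' := ha, map_smul' := smul_case h0 hw }
  have : Matrix.mulVecLin (matOf p) = L := by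
    refine (Pi.basisFun F4 (Fin 6)).ext fun j => funext fun i => ?_
    rw [Pi.basisFun_apply]
    show (matOf p *ᵥ Pi.single j 1) i = p (Pi.single j 1) i
    rw [Matrix.mulVec_single_one]
    rfl
  exact LinearMap.congr_fun this v

theorem matOf_unit {p : PV} (hq : ∀ f g, herm (p f) (p g) = herm f g) : (matOf p)ᴴ * matOf p = 1 := by
  ext i j
  have e := hq (Pi.single i 1) (Pi.single j 1)
  have e1 : herm (p (Pi.single i 1)) (p (Pi.single j 1)) = ((matOf p)ᴴ * matOf p) i j := rfl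
  rw [← e1, e]
  simp [herm, Matrix.one_apply, Pi.single_apply, eq_comm]

theorem matOf_scal : matOf (act (SUSix.scalSU F4.w (by decide +kernel))) = SUSix.scal F4.w := by
  refine Matrix.ext fun i j => ?_
  show (mat (SUSix.scalSU F4.w _) *ᵥ Pi.single j 1) i = _
  rw [Matrix.mulVec_single_one]
  rfl

/-- a frame: coordinates with the image of the centraliser -/
structure Frame (z : G) (Q M : Subgroup G) where
  /-- coordinates -/
  vec : G → V6
  /-- the action -/
  π : Subgroup.centralizer ({z} : Set G) →* PV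
  /-- the outer class -/
  s : Fin 3
  vec_mul : ∀ a ∈ Q, ∀ b ∈ Q, vec (a * b) = vec a + vec b
  vec_surj : ∀ v, ∃ a ∈ Q, vec a = v
  vec_eq : ∀ a ∈ Q, ∀ b ∈ Q, (vec a = vec b ↔ Zc z a b)
  sq_iff : ∀ a ∈ Q, (a * a = 1 ↔ herm (vec a) (vec a) = 0)
  vec_conj : ∀ (c : Subgroup.centralizer ({z} : Set G)), ∀ a ∈ Q, vec ((c : G) * a * (c : G)⁻¹) = π c (vec a)
  ker : ∀ c : Subgroup.centralizer ({z} : Set G), π c = 1 ↔ (c : G) ∈ Q
  mem_Kp : ∀ c : Subgroup.centralizer ({z} : Set G), π c ∈ Kp ↔ (c : G) ∈ M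
  img : ∀ c, π c ∈ Kp ∨ eo s * π c ∈ Kp
  surj : ∀ p ∈ Kp, ∃ c, π c = p
  outer : ∃ c, π c = eo s

theorem three_prime : ¬ (3265920 : ℕ).Prime := fun h => by
  have := h.eq_one_or_self_of_dvd 2 ⟨1632960, by norm_num⟩
  omega

theorem Ord.exists_model (o : Ord z Q N M x) : ∃ vec, ∃ C : Coord z Q x vec,
    (∀ c : Subgroup.centralizer ({z} : Set G), (c : G) ∈ M → C.rep o c ∈ Kp) ∧
    ∀ p ∈ Kp, ∃ c : Subgroup.centralizer ({z} : Set G), (c : G) ∈ M ∧ C.rep o c = p := by
  obtain ⟨vec, C⟩ := o.exists_Coord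
  obtain ⟨F, iF, iFF, hF, f, hfs, hfk⟩ := o.hyp.quot
  let jM : M →* Subgroup.centralizer ({z} : Set G) :=
    Subgroup.inclusion fun m hm => Subgroup.mem_centralizer_singleton_iff.2 (o.hyp.le m hm)
  have hjM : ∀ m : M, ((jM m : Subgroup.centralizer ({z} : Set G)) : G) = m := fun _ => rfl
  let P : M →* PV := (C.rep o).comp jM
  have Pw : ∀ (m : M) (v : V6), P m (F4.w • v) = F4.w • P m v := fun m v => C.rep_w o (jM m) m.2 v
  have Pa : ∀ (m : M) (u v : V6), P m (u + v) = P m u + P m v := fun m => C.rep_add o (jM m)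
  have Ph : ∀ (m : M) (u v : V6), herm (P m u) (P m v) = herm u v := fun m => C.rep_herm o (jM m) m.2
  have Pv : ∀ (m : M) (v : V6), matOf (P m) *ᵥ v = P m v := fun m => matOf_apply (Pa m) (Pw m)
  let L : M →* U43.M6 :=
    { toFun := fun m => matOf (P m)
      map_one' := by
        refine Matrix.ext fun i j => ?_
        show P 1 (Pi.single j 1) i = _
        rw [map_one, Equiv.Perm.one_apply, Matrix.one_apply, Pi.single_apply]
      map_mul' := fun a b => by
        refine Matrix.ext fun i j => ?_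
        show P (a * b) (Pi.single j 1) i = _
        rw [map_mul, Equiv.Perm.mul_apply, ← Pv a]
        rfl }
  let d : M →* F4ˣ := ((Matrix.detMonoidHom (n := Fin 6) (R := F4)).comp L).toHomUnits
  have hd : ∀ m : M, (d m : F4) = (matOf (P m)).det := fun _ => rfl
  have hQone : ∀ m : M, (m : G) ∈ Q → P m = 1 := fun m hm => (C.rep_ker o (jM m)).2 hm
  set xM : M := ⟨x, o.hyp.NM o.mem⟩
  have hw0 : F4.w ≠ 0 := by decide +kernel
  have hPx : P xM = act (SUSix.scalSU F4.w hw0) := Equiv.ext fun v => by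
    rw [act_scal]; exact C.xc_rep o (jM xM) rfl v
  have hNd : ∀ m : M, f m = 1 → d m = 1 := by
    intro m hm
    have hd1 : ∀ q : M, (q : G) ∈ Q → d q = 1 := fun q hq => Units.ext (by
      rw [hd, hQone q hq, Units.val_one]
      show (matOf 1).det = 1
      have : matOf (1 : PV) = 1 := Matrix.ext fun i j => by
        show (1 : PV) (Pi.single j 1) i = _
        rw [Equiv.Perm.one_apply, Matrix.one_apply, Pi.single_apply]
      rw [this, Matrix.det_one])
    have hdx : d xM = 1 := Units.ext (by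
      rw [hd, hPx, matOf_scal, Units.val_one, SUSix.scal, Matrix.det_diagonal]
      decide +kernel)
    rcases o.dec m ((hfk m).1 hm) with h | h | h
    · exact hd1 m h
    · have := hd1 (m * xM⁻¹) h
      rwa [map_mul, map_inv, hdx, inv_one, mul_one] at this
    · have := hd1 (m * xM) h
      rwa [map_mul, hdx, mul_one] at this
  obtain ⟨hUc, -⟩ := Local.FS.McLSmall.Unitary.exists_psu_action hF
  obtain ⟨-, -, σ, -, -, -, -, hσ⟩ := Cfsg.Agent.Classical.exists_usigma (F := F) (q := 3) (by rw [hF]; norm_num)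
  haveI hsimp : IsSimpleGroup (Cfsg.PSU 4 F 3) := by
    letI : StarRing F := Cfsg.Agent.Small.Hermitian.starRingOfInvolution (σ : F →+* F) hσ.involutive
    exact Cfsg.Agent.Small.Unitary.psu_simple (fun x => hσ.apply_eq x) (by rw [hF]; norm_num) (by norm_num)
      (by norm_num)
  have hdet : ∀ m : M, (matOf (P m)).det = 1 := by
    let d' : Cfsg.PSU 4 F 3 →* F4ˣ := MonoidHom.liftOfSurjective f hfs
      ⟨d, fun m hm => MonoidHom.mem_ker.2 (hNd m (MonoidHom.mem_ker.1 hm))⟩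
    have hd' : ∀ m, d' (f m) = d m := fun m => MonoidHom.liftOfRightInverse_comp_apply _ _ _ _ _
    have htop : d'.ker = ⊤ := by
      refine (hsimp.eq_bot_or_eq_top_of_normal d'.ker inferInstance).resolve_left fun hb => ?_
      have := Nat.card_le_card_of_injective d' ((MonoidHom.ker_eq_bot_iff d').1 hb)
      rw [hUc] at this
      have h2 : Nat.card F4ˣ ≤ 4 := (Nat.card_le_card_of_injective _ Units.val_injective).trans (le_of_eq (by
        rw [Nat.card_eq_fintype_card, SpFour.F4.card]))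
      omega
    intro m
    have : d' (f m) = 1 := MonoidHom.mem_ker.1 (htop ▸ Subgroup.mem_top _)
    rw [hd'] at this
    rw [← hd, this, Units.val_one]
  let φ : M →* G6 :=
    { toFun := fun m => Small.Unitary.mkSU SpFour.F4.star_eq_pow (L m) (matOf_unit (Ph m)) (hdet m)
      map_one' := U43.G6_ext (by show L 1 = 1; rw [map_one])
      map_mul' := fun a b => U43.G6_ext (by show L (a * b) = L a * L b; rw [map_mul]) }
  have hφ : ∀ m, act (φ m) = P m := fun m => Equiv.ext fun v => Pv m v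
  have hφ1 : ∀ m : M, φ m = 1 ↔ (m : G) ∈ Q := fun m => by
    rw [← map_eq_one_iff act act_inj, hφ]
    exact C.rep_ker o (jM m)
  set K := φ.range with hK
  let ψ : K →* Cfsg.PSU 4 F 3 := MonoidHom.liftOfSurjective φ.rangeRestrict φ.rangeRestrict_surjective
    ⟨f, fun m hm => MonoidHom.mem_ker.2 ((hfk m).2 (o.hyp.QN ((hφ1 m).1
      (congrArg Subtype.val (MonoidHom.mem_ker.1 hm)))))⟩
  have hψ : ∀ m, ψ (φ.rangeRestrict m) = f m := fun m => MonoidHom.liftOfRightInverse_comp_apply _ _ _ _ _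
  have hψs : Function.Surjective ψ := fun u => by
    obtain ⟨m, rfl⟩ := hfs u
    exact ⟨_, hψ m⟩
  set w := φ.rangeRestrict xM with hw
  have hw3 : orderOf w = 3 := by
    haveI : Fact (Nat.Prime 3) := ⟨Nat.prime_three⟩
    refine orderOf_eq_prime ?_ fun e => o.out ((hφ1 xM).1 (congrArg Subtype.val e))
    rw [hw, ← map_pow, show xM ^ 3 = 1 from Subtype.ext o.cube, map_one]
  have hker : ψ.ker = Subgroup.zpowers w := by
    refine le_antisymm ?_ (Subgroup.zpowers_le.2 (MonoidHom.mem_ker.2 ?_))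
    · intro k hk
      obtain ⟨m, rfl⟩ := φ.rangeRestrict_surjective k
      rw [MonoidHom.mem_ker, hψ, hfk] at hk
      have h1 : ∀ q : M, (q : G) ∈ Q → φ.rangeRestrict q = 1 := fun q hq => Subtype.ext ((hφ1 q).2 hq)
      rcases o.dec m hk with h | h | h
      · rw [h1 m h]; exact one_mem _
      · have := h1 (m * xM⁻¹) h
        rw [map_mul, map_inv, mul_inv_eq_one] at this
        rw [this]; exact Subgroup.mem_zpowers _
      · have := h1 (m * xM) h
        rw [map_mul, mul_eq_one_iff_eq_inv] at this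
        rw [this]; exact inv_mem (Subgroup.mem_zpowers _)
    · rw [hψ, hfk]; exact o.mem
  have hcomm : ∀ k : K, k * w = w * k := by
    intro k
    obtain ⟨m, rfl⟩ := φ.rangeRestrict_surjective k
    have h1 : φ.rangeRestrict (m * xM * m⁻¹ * xM⁻¹) = 1 := Subtype.ext ((hφ1 _).2 (o.central m m.2))
    rw [map_mul, map_mul, map_mul, map_inv, map_inv] at h1
    rw [← mul_inv_eq_iff_eq_mul, ← mul_inv_eq_one]
    exact h1
  have hPcen : Subgroup.center (Cfsg.PSU 4 F 3) = ⊥ := by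
    refine (hsimp.eq_bot_or_eq_top_of_normal (Subgroup.center _) inferInstance).resolve_right fun ht => ?_
    letI : CommGroup (Cfsg.PSU 4 F 3) := { (inferInstance : Group (Cfsg.PSU 4 F 3)) with
      mul_comm := fun a b => Subgroup.mem_center_iff.1 (ht ▸ Subgroup.mem_top b) a }
    have := IsSimpleGroup.prime_card (α := Cfsg.PSU 4 F 3)
    rw [hUc] at this
    exact three_prime this
  have hcen : Subgroup.center K = ψ.ker := by
    refine le_antisymm (fun k hk => ?_) ?_
    · rw [MonoidHom.mem_ker, ← Subgroup.mem_bot, ← hPcen, Subgroup.mem_center_iff]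
      intro u
      obtain ⟨a, rfl⟩ := hψs u
      rw [← map_mul, ← map_mul, Subgroup.mem_center_iff.1 hk a]
    · rw [hker, Subgroup.zpowers_le, Subgroup.mem_center_iff]
      exact hcomm
  have hc3 : Nat.card (Subgroup.center K) = 3 := by rw [hcen, hker, Nat.card_zpowers, hw3]
  obtain ⟨g, j, hj, hg⟩ := U43.three_classes F hF hc3
    ⟨(QuotientGroup.quotientMulEquivOfEq hcen).trans (QuotientGroup.quotientKerEquivOfSurjective ψ hψs)⟩
  set D2 := Matrix.diagonal (dlt (2 * j)) with hD2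
  set B : U43.M6 := D2 * mat g with hB
  have hBu : Bᴴ * B = 1 := by
    rw [hB, Matrix.conjTranspose_mul, Matrix.mul_assoc, ← Matrix.mul_assoc D2ᴴ,
      U43.diag_unit _ (U43.dlt_ne _), one_mul, U43.mat_unit]
  have C' := C.transform hBu
  have key : ∀ (m : M) (k : G6), g * φ m * g⁻¹ = Ad j k → C'.rep o (jM m) = act k := by
    intro m k hk
    refine C'.rep_ext o (jM m) fun a ha => ?_
    show B *ᵥ vec ((jM m : G) * a * (jM m : G)⁻¹) = mat k *ᵥ (B *ᵥ vec a)
    rw [← C.rep_vec o (jM m) ha]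
    show B *ᵥ P m (vec a) = _
    rw [← hφ, act_apply, hB, Matrix.mulVec_mulVec, Matrix.mulVec_mulVec, Matrix.mul_assoc]
    have h1 : mat g * mat (φ m) = mat (Ad j k) * mat g := by
      rw [← U43.mat_mul, ← U43.mat_mul, ← hk, inv_mul_cancel_right]
    rw [h1, U43.mat_Ad, U43.adM, hD2, ← Matrix.mul_assoc, ← Matrix.mul_assoc, ← Matrix.mul_assoc, U43.dlt_mul',
      one_mul, Matrix.mul_assoc]
  refine ⟨_, C', fun c hc => ?_, ?_⟩
  · set m : M := ⟨(c : G), hc⟩
    have hmem : g * φ m * g⁻¹ ∈ Kc j := hg ▸ ⟨φ m, ⟨m, rfl⟩, rfl⟩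
    obtain ⟨k, hk, hke⟩ := hmem
    refine ⟨k, hk, ?_⟩
    rw [show c = jM m from Subtype.ext rfl]
    exact (key m k hke.symm).symm
  · rintro _ ⟨k, hk, rfl⟩
    obtain ⟨_, ⟨m, rfl⟩, hm⟩ : Ad j k ∈ K.map (MulAut.conj g).toMonoidHom := hg.symm ▸ ⟨k, hk, rfl⟩
    exact ⟨jM m, m.2, key m k hm⟩

theorem Hyp.exists_frame (h : Hyp z Q N M) : Nonempty (Frame z Q M) := by
  obtain ⟨x, o⟩ := h.exists_ord
  obtain ⟨vec, C, hle, hsur⟩ := o.exists_model
  obtain ⟨a, haz, haM⟩ := h.outer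
  set a' : Subgroup.centralizer ({z} : Set G) := ⟨a, Subgroup.mem_centralizer_singleton_iff.2 haz⟩ with ha'
  have hmem : ∀ c, C.rep o c ∈ Kp → (c : G) ∈ M := by
    intro c hc
    obtain ⟨m, hm, e⟩ := hsur _ hc
    have h1 : C.rep o (m⁻¹ * c) = 1 := by rw [map_mul, map_inv, e, inv_mul_cancel]
    have h2 := mul_mem hm (h.QM ((C.rep_ker o _).1 h1))
    rwa [Subgroup.coe_mul, Subgroup.coe_inv, mul_inv_cancel_left] at h2
  have hnorm : ∀ p ∈ Kp, C.rep o a' * p * (C.rep o a')⁻¹ ∈ Kp := by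
    intro p hp
    obtain ⟨m, hm, rfl⟩ := hsur p hp
    rw [← map_inv, ← map_mul, ← map_mul]
    exact hle _ (h.normM a haz m hm)
  obtain ⟨s, hs⟩ := (norm_cases (C.rep_add o a') (C.rep_q o a') hnorm).resolve_left fun e => haM (hmem a' e)
  obtain ⟨m, -, hme⟩ := hsur _ hs
  refine ⟨⟨vec, C.rep o, s, C.mul, C.surj, C.eq_iff, fun q hq => C.sq_iff o hq,
    fun c q hq => (C.rep_vec o c hq).symm, C.rep_ker o, fun c => ⟨hmem c, hle c⟩, fun c => ?_,
    fun p hp => (hsur p hp).imp fun c hc => hc.2, ⟨m * a'⁻¹, by rw [map_mul, map_inv, hme, mul_inv_cancel_right]⟩⟩⟩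
  by_cases hc : (c : G) ∈ M
  · exact Or.inl (hle c hc)
  · refine Or.inr ?_
    have h2 : ((a'⁻¹ * c : Subgroup.centralizer ({z} : Set G)) : G) ∈ M :=
      h.idx a c haz (mem_cen c.2) haM hc
    have h3 := mul_mem hs (hle _ h2)
    rwa [map_mul, map_inv, mul_assoc, mul_inv_cancel_left] at h3

end Cfsg.Agent.Spor.LFT
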