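import Cfsg.Agent.Lib.Spor.LFTDefs

/-!
Checks on the vectors moved only along the fixed line by the kernel on the fifteen lines.
-/

set_option autoImplicit false
set_option maxRecDepth 100000

namespace Cfsg.Agent.Spor.LFT.Chk

open Cfsg.Agent.Spor.CC

/-- two vectors differ at most by the fixed vector -/
def near (a k : ℕ) : Bool := Nat.beq (Nat.xor a k) 0 || Nat.beq (Nat.xor a k) 85

/-- word of an even element inducing the same permutation of six letters as the outer element -/
def evO (k : ℕ) : ℕ :=
  evW (Dat.wordB.getD 3 []) (evW (Dat.wordB.getD 0 []) (evW (Dat.wordB.getD 3 []) (evW (Dat.wordB.getD 0 []) k)))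

/-- moved only along the fixed line by the five generators of the kernel -/
def fCond (k : ℕ) : Bool :=
  ((List.range 4).all fun s => near (evW (Dat.wordK.getD s []) k) k) && near (app (en 0) (evO k)) k

/-- first parts of an echelon basis -/
def rowA : List ℕ := [5, 0, 17, 0, 65, 170, 2816, 1280, 3584, 1280]

/-- second parts of an echelon basis -/
def rowB : List ℕ := [0, 5, 0, 17, 0, 20, 1280, 3584, 1280, 2816]

/-- combination of a list by the bits of a number -/
def combA : List ℕ → ℕ → ℕ
  | [], _ => 0
  | c :: L, e => Nat.xor (bif tb e 0 then c else 0) (combA L (Nat.shiftRight e 1))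

theorem f_count : ((List.range 4096).filter fCond).length = 64 := by decide +kernel

theorem f_rows : ((List.range 1024).all fun e => fCond (combA rowA e) && fCond (combA rowB e)) = true := by
  decide +kernel

theorem f_cert : fCond 170 = true ∧ fCond 17 = true ∧ fCond 5 = true ∧
    Nat.xor (Nat.xor (evW (Dat.wordB.getD 0 []) 17) 17) (Nat.xor (evW (Dat.wordB.getD 1 []) 5) 5) = 170 := by
  decide +kernel

end Cfsg.Agent.Spor.LFT.Chk
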