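import Cfsg.Agent.Lib.Spor.LFTSylowDefs
import Cfsg.Agent.Lib.Spor.LFTLineChecks
import Cfsg.Agent.Lib.Spor.LFTFusionData

/-!
Every element of the chosen subgroup times a fixed vector moves into a neighbouring extraspecial subgroup.
-/

set_option autoImplicit false
set_option maxRecDepth 100000

namespace Cfsg.Agent.Spor.LFT.Chk

/-- the scalar -/
def colW : List ℕ := [2, 3, 8, 12, 32, 48, 128, 192, 512, 768, 2048, 3072]

/-- powers of the scalar -/
def wPow : ℕ → ℕ → ℕ
  | 0, v => v
  | k + 1, v => app colW (wPow k v)

/-- one certificate -/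
def covOne (W e : List ℕ) (u n : ℕ) : Bool :=
  let k := n % 4
  let v := n / 4 % 4096
  let q := n / 16384
  Nat.blt k 3 && Nat.blt q 4096 && fCond v &&
    Nat.beq u (Nat.xor (wPow k (app W v)) (Nat.xor (app e q) q))

/-- all certificates -/
def covOK : Bool :=
  (List.range 15).all fun j =>
    let W := wordL (Dat.maxW.getD j [])
    let e := inT (Dat.maxI.getD j 0)
    (List.range 64).all fun i => covOne W e (Dat.maxF.getD i 0) ((Dat.maxC.getD j []).getD i 0)

theorem cov_ok : covOK = true := by decide +kernel

end Cfsg.Agent.Spor.LFT.Chk
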