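import Cfsg.Agent.Lib.Spor.LFTMaxElem
import Cfsg.Agent.Lib.Spor.LFTFusionChecks

/-!
Large Fischer type: every involution of the largest elementary abelian subgroup is conjugate to the central
involution or to one fixed involution, and the normaliser of this subgroup controls its fusion.
-/

set_option autoImplicit false
set_option maxRecDepth 100000
set_option linter.unusedSectionVars false

namespace Cfsg.Agent.Spor.LFT

open Cfsg.Agent.Spor.SUSix (V6 code code_lt vecOf_code)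
open Cfsg.Agent.Spor.SpFour (F4)
open Cfsg.Agent.Small.Unitary (herm)

attribute [local irreducible] KerB phiA phiB CmpS Cmp

namespace Syl

/-- the scalar on codes -/
theorem code_w (v : V6) : code (F4.w • v) = Chk.app Chk.colW (code v) :=
  code_map (fun a b => smul_add _ a b) (fun i hi => by
    interval_cases i <;> decide +kernel) v

theorem code_w_pow (v : V6) : ∀ k : ℕ, code (F4.w ^ k • v) = Chk.wPow k (code v)
  | 0 => by rw [pow_zero, one_smul]; rfl
  | k + 1 => by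
    rw [pow_succ', mul_smul, code_w, code_w_pow v k]
    rfl

/-- fixed vectors of the chosen subgroup in neighbouring subgroups -/
theorem ES_cover {e : PV} (he : e ∈ ES) (h1 : e ≠ 1) :
    ∃ p ∈ Kp, ∃ r ∈ Kp ⊓ fixv vb ⊓ KerB, e = p * r * p⁻¹ ∧
      ∀ u ∈ FS, ∃ k : ℕ, ∃ F q : V6, Chk.fCond (code F) = true ∧ u = F4.w ^ k • p F + (e q + q) := by
  rcases he.2 with rfl | ⟨i, hi, hsig⟩
  · exact absurd rfl h1
  obtain ⟨j, hj, rfl⟩ := List.getElem_of_mem hi
  have klen : Dat.maxI.length = 15 := by decide +kernel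
  have h := Chk.conjMax_ok
  simp only [Chk.conjMaxOK, List.all_eq_true, List.mem_range, Bool.and_eq_true] at h
  obtain ⟨⟨⟨hw, hk⟩, -⟩, heq⟩ := h j (klen ▸ hj)
  rw [List.getD_eq_getElem Dat.maxI 0 hj] at heq
  have hw' : ∀ s ∈ Dat.maxW.getD j [], s < 6 := fun s hs => Nat.le_of_ble_eq_true (hw s hs)
  have hp := wordP_Kp _ hw'
  have hps := (wordP_spec (Dat.maxW.getD j []) fun s hs => by have := hw' s hs; omega).2
  set k := Dat.maxK.getD j 0
  have hr := kerEl_mem k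
  refine ⟨_, hp, kerEl k, hr, eq_mul_inv_of_mul_eq ?_, fun u hu => ?_⟩
  · refine sig_inj (lin_Gam (mul_mem (TS_le he.1) (Kp_le hp))) (lin_Gam (Kp_le (mul_mem hp hr.1.1))) ?_
    rw [sig_mul (lin_Gam (TS_le he.1)), sig_mul (lin_Gam (Kp_le hp)), hsig, hps,
      sig_kerEl k (Nat.le_of_ble_eq_true hk)]
    exact eq_of_eqL heq
  · have flen : Dat.maxF.length = 64 := by decide +kernel
    obtain ⟨i, hi, hiu⟩ := List.getElem_of_mem (List.contains_iff.1 ((FS_facts.1 u).1 hu))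
    have hc := Chk.cov_ok
    simp only [Chk.covOK, Chk.covOne, List.all_eq_true, List.mem_range, Bool.and_eq_true] at hc
    obtain ⟨⟨⟨hk3, hq⟩, hF⟩, hueq⟩ := hc j (klen ▸ hj) i (flen ▸ hi)
    rw [List.getD_eq_getElem Dat.maxF 0 hi, List.getD_eq_getElem Dat.maxI 0 hj, hiu] at hueq
    set n := (Dat.maxC.getD j []).getD i 0
    have hv : n / 4 % 4096 < 4096 := Nat.mod_lt _ (by norm_num)
    refine ⟨n % 4, SUSix.vecOf (n / 4 % 4096), SUSix.vecOf (n / 16384), ?_, code_inj ?_⟩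
    · rw [code_vecOf _ hv]; exact hF
    · rw [Nat.eq_of_beq_eq_true hueq, code_add, code_add, code_w_pow, code_apply (lin_Gam (Kp_le hp)),
        code_apply (lin_Gam (TS_le he.1)), hsig, hps, code_vecOf _ hv,
        code_vecOf _ (Nat.le_of_ble_eq_true hq)]
      rfl

theorem FS_PA : ∃ v ∈ FS, PA v ∧ PI v := by
  obtain ⟨u, hu, hlt, hA, hI⟩ : ∃ u ∈ Dat.maxF, u < 4096 ∧ Chk.isA u = true ∧ Chk.isI u = true := by
    decide +kernel
  refine ⟨SUSix.vecOf u, (FS_facts.1 _).2 ?_, ?_, ?_⟩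
  · rw [code_vecOf u hlt]; exact List.contains_iff.2 hu
  · rw [PA, code_vecOf u hlt]; exact hA
  · rw [PI, code_vecOf u hlt]; exact hI

end Syl

universe u

variable {G : Type u} [Group G] [Finite G] {z : G} {Q N M : Subgroup G}
variable {f : Frame z Q M} {x : Subgroup.centralizer ({z} : Set G)} {g : G}
variable (S : Setup z Q N M) (l : Line f x g)

include S

theorem Setup.t_not_conj (f : Frame z Q M) {t : G} (ht : t ∈ Q) (hA : PA (f.vec t)) (htz : t ≠ z) :
    ¬ IsConj z t := fun h => by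
  obtain ⟨c, rfl⟩ := isConj_iff.1 h
  exact (S.not_PA f ht htz).2 hA

/-- the two classes of involutions of the extraspecial subgroup -/
theorem Line.inv_class (l : Line f x g) {t : G} (ht : t ∈ Q) (htI : t * t = 1) (ht1 : t ≠ 1) (htz : t ≠ z)
    (hA : PA (f.vec t)) {w : G} (hw : w ∈ Q) (w2 : w * w = 1) (w1 : w ≠ 1) : IsConj z w ∨ IsConj t w := by
  by_cases hwz : w = z
  · exact Or.inl (hwz ▸ IsConj.refl z)
  have hI := f.isI S hw w2 w1 hwz
  by_cases hwA : PA (f.vec w)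
  · obtain ⟨p, hp, hpv⟩ := (Spor.LFT.trans (f.isI S ht htI ht1 htz)).1 hA
    obtain ⟨p', hp', hpv'⟩ := (Spor.LFT.trans hI).1 hwA
    obtain ⟨c, hc⟩ := f.surj (p' * p⁻¹) (mul_mem hp' (inv_mem hp))
    obtain ⟨c', hc', -⟩ := f.exact_conj S ht ht1 htz hw c (by
      rw [hc, Equiv.Perm.mul_apply, ← hpv, show p⁻¹ (p va) = va from p.symm_apply_apply va, hpv'])
    exact Or.inr (isConj_iff.2 ⟨_, hc'⟩)
  · obtain ⟨p, hp, hpv⟩ := (Spor.LFT.trans hI).2 hwA
    obtain ⟨c, hc⟩ := f.surj p hp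
    obtain ⟨c', hc', -⟩ := f.exact_conj S l.mem (S.xtc g).ne l.ne hw c (by rw [hc, l.vec, hpv])
    exact Or.inl (IsConj.trans (isConj_iff.2 ⟨g, rfl⟩) (isConj_iff.2 ⟨_, hc'⟩))

/-- every element of the largest elementary abelian subgroup moves into the extraspecial subgroup -/
theorem Line.move_in (l : Line f x g) {a : G} (ha : a ∈ AQset f) {c : Subgroup.centralizer ({z} : Set G)}
    (hc : c ∈ AH f x) : ∃ h : G, h⁻¹ * (a * (c : G)) * h ∈ Q := by
  have hzQ := S.hyp.xt.mem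
  have hcx : Commute c x := mem_Kx.1 hc.1
  by_cases he : f.π c = 1
  · exact ⟨1, by rw [inv_one, one_mul, mul_one]; exact mul_mem ha.1 ((f.ker c).1 he)⟩
  obtain ⟨p, hp, r, hr, her, hcov⟩ := Syl.ES_cover hc.2 he
  obtain ⟨P, hPx, hPπ⟩ := l.xel.lift S f hp
  obtain ⟨c0, hc0x, hc0π, -, hc0g⟩ := l.inv_lift S hr
  have hPz : Commute (P : G) z := Subgroup.mem_centralizer_singleton_iff.1 P.2
  -- the element inside the centraliser of the element of order three
  set zC : Subgroup.centralizer ({z} : Set G) := ⟨z, S.zC_mem⟩ with hzC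
  obtain ⟨c1, hc1g, hc1x, hce⟩ : ∃ c1 : Subgroup.centralizer ({z} : Set G), (c1 : G) ∈ Qc Q g ∧
      Commute c1 x ∧ c = P * c1 * P⁻¹ := by
    set d := P⁻¹ * c * P with hd
    have hdx : Commute d x := ((hPx.inv_left).mul_left hcx).mul_left hPx
    have h1 : ((c0⁻¹ * d : Subgroup.centralizer ({z} : Set G)) : G) ∈ Q := (f.ker _).1 (by
      rw [hd, map_mul, map_inv, map_mul, map_mul, map_inv, hPπ, hc0π, her]
      group)
    rcases l.xel.ker S f h1 (congrArg Subtype.val (hc0x.inv_left.mul_left hdx).eq) with e | e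
    · exact ⟨d, (inv_mul_eq_one.1 (Subtype.ext e : c0⁻¹ * d = 1)) ▸ hc0g, hdx, by rw [hd]; group⟩
    · refine ⟨d, ?_, hdx, by rw [hd]; group⟩
      rw [show d = c0 * zC from eq_mul_of_inv_mul_eq (Subtype.ext e)]
      exact mul_mem hc0g (l.pairA S).mem
  obtain ⟨k, F, q, hF, hu⟩ := hcov _ ha.2
  obtain ⟨F0, hF0, hF0v⟩ := f.vec_surj F
  obtain ⟨q0, hq0, hq0v⟩ := f.vec_surj q
  have hF0g := (l.inA S F hF F0 hF0 hF0v).2
  have hcz : Commute (c : G) z := Subgroup.mem_centralizer_singleton_iff.1 c.2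
  have hxk : Commute ((x : G) ^ k) z := l.xz.pow_left k
  -- the neighbouring subgroup
  set K := (P : G) * ((x : G) ^ k * g) with hK
  have hc1G : Commute (x : G) (c1 : G) := (congrArg Subtype.val hc1x.eq).symm
  have hxc1 : Commute ((x : G) ^ k) (c1 : G) := hc1G.pow_left k
  have hcK : (c : G) ∈ Qc Q K := by
    have := Qc_conj (P : G) (Qc_conj ((x : G) ^ k) hc1g)
    rwa [hxc1.eq, mul_inv_cancel_right, ← Subgroup.coe_inv, ← Subgroup.coe_mul, ← Subgroup.coe_mul, ← hce] at this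
  have hzK : z ∈ Qc Q K := by
    have := Qc_conj (P : G) (Qc_conj ((x : G) ^ k) (l.pairA S).mem)
    rwa [hxk.eq, mul_inv_cancel_right, hPz.eq, mul_inv_cancel_right] at this
  have hbk : (x : G) ^ k * F0 * ((x : G) ^ k)⁻¹ ∈ Q ∧
      f.vec ((x : G) ^ k * F0 * ((x : G) ^ k)⁻¹) = F4.w ^ k • F := by
    clear hu hcK hzK hK
    induction k with
    | zero => simp [hF0, hF0v]
    | succ k ih =>
      obtain ⟨h1, h2⟩ := ih (l.xz.pow_left k) (hc1G.pow_left k)
      have e : (x : G) ^ (k + 1) * F0 * ((x : G) ^ (k + 1))⁻¹ = (x : G) * ((x : G) ^ k * F0 * ((x : G) ^ k)⁻¹) * (x : G)⁻¹ := by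
        rw [pow_succ']; group
      rw [e, l.xel.vec f h1, h2, pow_succ', mul_smul]
      exact ⟨S.hyp.normQ x l.xz _ h1, rfl⟩
  set b := (P : G) * ((x : G) ^ k * F0 * ((x : G) ^ k)⁻¹) * (P : G)⁻¹ with hb
  have hbQ : b ∈ Q := S.hyp.normQ P hPz _ hbk.1
  have hbK : b ∈ Qc Q K := Qc_conj (P : G) (Qc_conj ((x : G) ^ k) hF0g)
  have hbv : f.vec b = F4.w ^ k • p F := by
    rw [hb, f.vec_conj P _ hbk.1, hbk.2, hPπ, scal_comm hp]
  set d := q0 * ((c : G) * q0⁻¹ * (c : G)⁻¹) with hd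
  have hcq : (c : G) * q0⁻¹ * (c : G)⁻¹ ∈ Q := S.hyp.normQ c hcz _ (inv_mem hq0)
  have hinv : f.vec q0⁻¹ = q := by
    have h := f.vec_mul q0⁻¹ (inv_mem hq0) q0 hq0
    rw [inv_mul_cancel, f.vec_one S, hq0v] at h
    have key : ∀ a b : F4, 0 = a + b → a = b := by decide +kernel
    exact funext fun i => key _ _ (congrFun h i)
  have hdv : f.vec d = f.π c q + q := by
    rw [hd, f.vec_mul q0 hq0 _ hcq, f.vec_conj c _ (inv_mem hq0), hinv, hq0v, add_comm]
  have hdQ : d ∈ Q := mul_mem hq0 hcq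
  obtain ⟨b', hb'Q, hb'K, hab⟩ : ∃ b', b' ∈ Q ∧ b' ∈ Qc Q K ∧ a = b' * d := by
    rcases (f.vec_eq _ (mul_mem hbQ hdQ) a ha.1).1 (by rw [f.vec_mul b hbQ d hdQ, hbv, hdv]; exact hu.symm) with e | e
    · exact ⟨b, hbQ, hbK, e⟩
    · exact ⟨b * z, mul_mem hbQ hzQ, mul_mem hbK hzK, by rw [e, mul_assoc b, mul_assoc b, (S.hyp.xt.cen d hdQ).eq]⟩
  have hconj : q0⁻¹ * b' * q0 ∈ Qc Q K := by
    rcases S.hyp.xt.comm_mem (inv_mem hq0) hb'Q with e | e
    · rw [show q0⁻¹ * b' * q0 = q0⁻¹ * b' * q0⁻¹⁻¹ * b'⁻¹ * b' by group, e, one_mul]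
      exact hb'K
    · rw [show q0⁻¹ * b' * q0 = q0⁻¹ * b' * q0⁻¹⁻¹ * b'⁻¹ * b' by group, e]
      exact mul_mem hzK hb'K
  refine ⟨q0 * K, ?_⟩
  have h := mem_Qc.1 (mul_mem hconj hcK)
  rwa [show (q0 * K)⁻¹ * (a * (c : G)) * (q0 * K) = K⁻¹ * (q0⁻¹ * b' * q0 * (c : G)) * K by
    rw [hab, hd]; group]

/-- the two classes in the largest elementary abelian subgroup -/
theorem Line.A_class (l : Line f x g) {t : G} (ht : t ∈ Q) (htI : t * t = 1) (ht1 : t ≠ 1) (htz : t ≠ z)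
    (hA : PA (f.vec t)) {r : G} (r2 : r * r = 1) (r1 : r ≠ 1) {a : G} (ha : a ∈ AQset f)
    {c : Subgroup.centralizer ({z} : Set G)} (hc : c ∈ AH f x) (hr : r = a * (c : G)) :
    IsConj z r ∨ IsConj t r := by
  obtain ⟨h, hh⟩ := l.move_in S ha hc
  rw [← hr] at hh
  have hconj : IsConj (h⁻¹ * r * h) r := isConj_iff.2 ⟨h, by group⟩
  refine (l.inv_class S ht htI ht1 htz hA hh ?_ fun e => r1 ?_).imp (·.trans hconj) (·.trans hconj)
  · calc h⁻¹ * r * h * (h⁻¹ * r * h) = h⁻¹ * (r * r) * h := by group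
      _ = 1 := by rw [r2]; group
  · calc r = h * (h⁻¹ * r * h) * h⁻¹ := by group
      _ = 1 := by rw [e]; group

omit l

/-- a Sylow subgroup of the centraliser is one of the whole group -/
theorem Setup.sylow_top (f : Frame z Q M) (TC : Sylow 2 ↥(Subgroup.centralizer ({z} : Set G))) :
    ∃ P : Sylow 2 G, (P : Subgroup G) =
      (TC : Subgroup (Subgroup.centralizer ({z} : Set G))).map (Subgroup.centralizer ({z} : Set G)).subtype := by
  haveI : Fact (Nat.Prime 2) := ⟨Nat.prime_two⟩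
  set sub := (Subgroup.centralizer ({z} : Set G)).subtype with hsub
  set TG := (TC : Subgroup (Subgroup.centralizer ({z} : Set G))).map sub with hTG
  obtain ⟨P, hP⟩ := (IsPGroup.map TC.isPGroup' sub).exists_le_sylow
  refine ⟨P, le_antisymm ?_ hP⟩
  by_contra hne
  set W := TG.subgroupOf (P : Subgroup G) with hW
  haveI := P.isPGroup'.isNilpotent
  have hlt : W < Subgroup.normalizer (W : Set (P : Subgroup G)) :=
    Group.normalizerCondition_of_isNilpotent W (lt_top_iff_ne_top.2 fun e => hne (Subgroup.subgroupOf_eq_top.1 e))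
  obtain ⟨y, hy, hyW⟩ := SetLike.exists_of_lt hlt
  -- the extraspecial subgroup lies in every Sylow subgroup
  have hQT : ∀ q ∈ Q, q ∈ TG := by
    intro q hq
    have hker : IsPGroup 2 f.π.ker := by
      refine IsPGroup.of_card (n := 13) ?_
      rw [← S.hyp.cardQ]
      refine Nat.card_congr
        { toFun := fun c => ⟨((c.1 : Subgroup.centralizer ({z} : Set G)) : G), (f.ker _).1 (MonoidHom.mem_ker.1 c.2)⟩
          invFun := fun q => ⟨⟨q.1, Subgroup.mem_centralizer_singleton_iff.2 (S.hyp.qz q.2)⟩,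
            MonoidHom.mem_ker.2 ((f.ker _).2 q.2)⟩
          left_inv := fun _ => rfl
          right_inv := fun _ => rfl }
    have hsup : (TC : Subgroup (Subgroup.centralizer ({z} : Set G))) ⊔ f.π.ker = TC :=
      TC.is_maximal' (TC.isPGroup'.to_sup_of_normal_right hker) le_sup_left
    exact ⟨⟨q, Subgroup.mem_centralizer_singleton_iff.2 (S.hyp.qz hq)⟩,
      hsup.le (Subgroup.mem_sup_right ((f.ker _).2 hq)), rfl⟩
  have hzT : z ∈ TG := hQT z S.hyp.xt.mem
  have hmem : (y : G) * z * (y : G)⁻¹ ∈ TG := by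
    have := (Subgroup.mem_normalizer_iff.1 hy ⟨z, hP hzT⟩).1 hzT
    exact this
  obtain ⟨c, hcT, hce⟩ := hmem
  have hc2 : ∀ q ∈ Q, Commute (c : G) q := by
    intro q hq
    have h1 : (y : G)⁻¹ * q * (y : G) ∈ TG := by
      have := (Subgroup.mem_normalizer_iff''.1 hy ⟨q, hP (hQT q hq)⟩).1 (hQT q hq)
      exact this
    obtain ⟨d, -, hde⟩ := h1
    have h2 : Commute z ((y : G)⁻¹ * q * (y : G)) :=
      hde ▸ (Subgroup.mem_centralizer_singleton_iff.1 d.2 : Commute (d : G) z).symm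
    have h3 := (Commute.conj_iff (y : G)).2 h2
    rw [show (c : G) = (y : G) * z * (y : G)⁻¹ from hce]
    simpa [mul_assoc] using h3
  have hcQ : (c : G) ∈ Q := by
    refine (f.ker c).1 (Equiv.ext fun v => ?_)
    obtain ⟨q, hq, rfl⟩ := f.vec_surj v
    rw [← f.vec_conj c q hq, (hc2 q hq).eq, mul_inv_cancel_right]
    rfl
  have hyz : Commute (y : G) z := by
    rcases S.hyp.xt.eq_of_cen _ hcQ (fun q hq => hc2 q hq) with e | e
    · exact absurd (conj_eq_one_iff.1 (hce.symm.trans e)) S.hyp.xt.ne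
    · exact mul_inv_eq_iff_eq_mul.1 (hce.symm.trans e)
  -- inside the centraliser
  have h2 : IsPGroup 2 ((P : Subgroup G).comap sub) :=
    P.isPGroup'.comap_of_injective sub (Subgroup.subtype_injective _)
  have hle : (TC : Subgroup (Subgroup.centralizer ({z} : Set G))) ≤ (P : Subgroup G).comap sub :=
    fun c hc => hP ⟨c, hc, rfl⟩
  exact hyW ⟨⟨y, Subgroup.mem_centralizer_singleton_iff.2 hyz⟩, (TC.is_maximal' h2 hle).le y.2, rfl⟩

/-- elementary abelian subgroups of large order in a 2-subgroup -/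
theorem Setup.big_unique {P : Subgroup G} (hP : IsPGroup 2 P) {B B' : Subgroup G} (hBP : B ≤ P) (hBP' : B' ≤ P)
    (hB : Cfsg.IsElementaryAbelian 2 B) (hB' : Cfsg.IsElementaryAbelian 2 B') (hc : 2 ^ 11 ≤ Nat.card B)
    (hc' : 2 ^ 11 ≤ Nat.card B') : B = B' := by
  haveI : Fact (Nat.Prime 2) := ⟨Nat.prime_two⟩
  obtain ⟨f⟩ := S.hyp.exists_frame
  obtain ⟨TC⟩ := (inferInstance : Nonempty (Sylow 2 ↥(Subgroup.centralizer ({z} : Set G))))
  obtain ⟨P0, hP0⟩ := S.sylow_top f TC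
  obtain ⟨P1, hP1⟩ := hP.exists_le_sylow
  obtain ⟨h, hh⟩ := MulAction.exists_smul_eq G P1 P0
  obtain ⟨A, hA, hAc, -⟩ := S.max_elem TC
  let C := Subgroup.centralizer ({z} : Set G)
  have key : ∀ B : Subgroup G, B ≤ P → Cfsg.IsElementaryAbelian 2 B → 2 ^ 11 ≤ Nat.card B →
      B.map (MulAut.conj h).toMonoidHom = (A.map (TC : Subgroup C).subtype).map C.subtype := by
    intro B hBP hB hc
    have hle : B.map (MulAut.conj h).toMonoidHom ≤ (TC : Subgroup C).map C.subtype := by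
      rw [← hP0, ← hh, Sylow.coe_subgroup_smul]
      exact Subgroup.map_mono (hBP.trans hP1)
    set B1 := (B.map (MulAut.conj h).toMonoidHom).comap (C.subtype.comp (TC : Subgroup C).subtype) with hB1
    have hmap : (B1.map (TC : Subgroup C).subtype).map C.subtype = B.map (MulAut.conj h).toMonoidHom := by
      rw [Subgroup.map_map, hB1, Subgroup.map_comap_eq, MonoidHom.range_comp, Subgroup.range_subtype, inf_eq_right]
      exact hle
    have hB1c : Nat.card B1 = Nat.card B := by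
      have e : Nat.card ((B1.map (TC : Subgroup C).subtype).map C.subtype) = Nat.card B1 := by
        rw [Subgroup.card_map_of_injective (Subgroup.subtype_injective _),
          Subgroup.card_map_of_injective (Subgroup.subtype_injective _)]
      rw [← e, hmap, Subgroup.card_map_of_injective (MulAut.conj h).injective]
    have hB1e : Cfsg.IsElementaryAbelian 2 B1 := by
      have hin : ∀ b : B1, ∃ b0 ∈ B, ((b.1.1 : C) : G) = MulAut.conj h b0 := fun b => by
        obtain ⟨b0, hb0, e⟩ := b.2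
        exact ⟨b0, hb0, e.symm⟩
      refine ⟨⟨⟨fun a b => Subtype.ext (Subtype.ext (Subtype.ext ?_))⟩⟩, fun a ha => Subtype.ext (Subtype.ext ?_)⟩
      · obtain ⟨a0, ha0, ea⟩ := hin a
        obtain ⟨b0, hb0, eb⟩ := hin b
        show ((a.1.1 : C) : G) * b.1.1 = b.1.1 * a.1.1
        rw [ea, eb, ← map_mul, ← map_mul]
        exact congrArg _ (congrArg Subtype.val (hB.1.is_comm.comm (⟨a0, ha0⟩ : B) ⟨b0, hb0⟩))
      · obtain ⟨a0, ha0, ea⟩ := hin ⟨a, ha⟩
        show ((a.1 : C) : G) ^ 2 = 1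
        rw [show ((a.1 : C) : G) = MulAut.conj h a0 from ea, ← map_pow, hB.2 a0 ha0, map_one]
    have hmem : A ∈ Cfsg.maxElementaryAbelianSubgroups 2 ↥(TC : Subgroup C) := hA ▸ rfl
    have hB1m : B1 ∈ Cfsg.maxElementaryAbelianSubgroups 2 ↥(TC : Subgroup C) :=
      ⟨hB1e, fun D hD => (hmem.2 D hD).trans (by omega)⟩
    rw [← hmap, show B1 = A from hA.le hB1m]
  exact Subgroup.map_injective (MulAut.conj h).injective ((key B hBP hB hc).trans (key B' hBP' hB' hc').symm)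

omit S in
/-- images of elementary abelian subgroups -/
theorem elem_map {H K : Type u} [Group H] [Group K] (φ : H →* K) {B : Subgroup H}
    (hB : Cfsg.IsElementaryAbelian 2 B) : Cfsg.IsElementaryAbelian 2 (B.map φ) := by
  refine ⟨⟨⟨fun a b => Subtype.ext ?_⟩⟩, ?_⟩
  · obtain ⟨a', ha', ea⟩ := a.2
    obtain ⟨b', hb', eb⟩ := b.2
    show (a : K) * b = b * a
    rw [← ea, ← eb, ← map_mul, ← map_mul]
    exact congrArg φ (congrArg Subtype.val (hB.1.is_comm.comm (⟨a', ha'⟩ : B) ⟨b', hb'⟩))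
  · rintro _ ⟨a', ha', rfl⟩
    rw [← map_pow, hB.2 a' ha', map_one]

/-- one largest elementary abelian subgroup with its two classes -/
theorem Setup.A_spec : ∃ A : Subgroup G, Cfsg.IsElementaryAbelian 2 A ∧ Nat.card A = 2 ^ 11 ∧ z ∈ A ∧
    ∃ t ∈ A, t ≠ 1 ∧ ¬ IsConj z t ∧ ∀ r ∈ A, r ≠ 1 → IsConj z r ∨ IsConj t r := by
  obtain ⟨f⟩ := S.hyp.exists_frame
  obtain ⟨x, g, l⟩ := S.exists_Line f
  obtain ⟨A0, hA0e, hA0c, -, -, hshape, -⟩ := l.exists_max S
  set sub := (Subgroup.centralizer ({z} : Set G)).subtype with hsub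
  have hAe := elem_map sub hA0e
  have hin : ∀ a ∈ AQset f, a ∈ A0.map sub := fun a ha =>
    ⟨⟨a, Subgroup.mem_centralizer_singleton_iff.2 (S.hyp.qz ha.1)⟩,
      (hshape _).2 ⟨_, ha, 1, one_mem _, (mul_one _).symm⟩, rfl⟩
  obtain ⟨v, hvF, hvA, hvI⟩ := Syl.FS_PA
  obtain ⟨t, ht, htI, ht1, htz, rfl⟩ := f.exists_inv S hvI
  refine ⟨A0.map sub, hAe, by rw [Subgroup.card_map_of_injective (Subgroup.subtype_injective _), hA0c],
    hin z (AQ_z S f), t, hin t ⟨ht, hvF⟩, ht1, S.t_not_conj f ht hvA htz, ?_⟩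
  intro r hr r1
  have r2 : r * r = 1 := (pow_two r).symm.trans (hAe.2 r hr)
  obtain ⟨r0, hr0, rfl⟩ := hr
  obtain ⟨a, ha, c, hc, rfl⟩ := (hshape r0).1 hr0
  exact l.A_class S ht htI ht1 htz hvA r2 r1 ha hc rfl

/-- the Thompson subgroup of a Sylow subgroup -/
theorem Setup.thompson (T : Sylow 2 G) :
    Cfsg.IsElementaryAbelian 2 (Cfsg.thompsonSubgroupOf 2 (T : Subgroup G)) ∧
      Nat.card (Cfsg.thompsonSubgroupOf 2 (T : Subgroup G)) = 2 ^ 11 ∧
      ∃ s ∈ Cfsg.thompsonSubgroupOf 2 (T : Subgroup G), ∃ t ∈ Cfsg.thompsonSubgroupOf 2 (T : Subgroup G),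
        s ≠ 1 ∧ t ≠ 1 ∧ IsConj z s ∧ ¬ IsConj z t ∧
          ∀ r ∈ Cfsg.thompsonSubgroupOf 2 (T : Subgroup G), r ≠ 1 → IsConj z r ∨ IsConj t r := by
  haveI : Fact (Nat.Prime 2) := ⟨Nat.prime_two⟩
  obtain ⟨A, hAe, hAc, hzA, t, htA, ht1, htn, hcl⟩ := S.A_spec
  obtain ⟨P, hP⟩ := (IsPGroup.of_card hAc).exists_le_sylow
  obtain ⟨h, hh⟩ := MulAction.exists_smul_eq G P T
  set B := A.map (MulAut.conj h).toMonoidHom with hB
  have hBT : B ≤ (T : Subgroup G) := by
    rw [← hh, Sylow.coe_subgroup_smul]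
    exact Subgroup.map_mono hP
  have hBe := elem_map (MulAut.conj h).toMonoidHom hAe
  have hBc : Nat.card B = 2 ^ 11 := by
    rw [hB, Subgroup.card_map_of_injective (MulAut.conj h).injective, hAc]
  set B' := B.subgroupOf (T : Subgroup G) with hB'
  have hmap : B'.map (T : Subgroup G).subtype = B := Subgroup.map_subgroupOf_eq_of_le hBT
  have hB'e : Cfsg.IsElementaryAbelian 2 B' :=
    ⟨⟨⟨fun a b => Subtype.ext (Subtype.ext
      (congrArg Subtype.val (hBe.1.is_comm.comm (⟨_, a.2⟩ : B) ⟨_, b.2⟩) :))⟩⟩,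
      fun a ha => Subtype.ext (hBe.2 _ ha)⟩
  have hB'c : Nat.card B' = 2 ^ 11 := by
    rw [← Subgroup.card_map_of_injective (K := B') (Subgroup.subtype_injective _), hmap, hBc]
  have huniq : ∀ D : Subgroup ↥(T : Subgroup G), Cfsg.IsElementaryAbelian 2 D → 2 ^ 11 ≤ Nat.card D → D = B' := by
    intro D hD hDc
    refine Subgroup.map_injective (Subgroup.subtype_injective _) ?_
    rw [hmap]
    exact S.big_unique T.isPGroup' (Subgroup.map_subtype_le D) hBT (elem_map _ hD) hBe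
      (by rw [Subgroup.card_map_of_injective (Subgroup.subtype_injective _)]; exact hDc) hBc.ge
  have hset : Cfsg.maxElementaryAbelianSubgroups 2 ↥(T : Subgroup G) = {B'} := by
    ext D
    refine ⟨fun hD => huniq D hD.1 (hB'c ▸ hD.2 B' hB'e), ?_⟩
    rintro rfl
    refine ⟨hB'e, fun D hD => ?_⟩
    by_contra hlt
    push Not at hlt
    rw [huniq D hD (hB'c ▸ hlt.le)] at hlt
    exact lt_irrefl _ hlt
  have hJ : Cfsg.thompsonSubgroupOf 2 (T : Subgroup G) = B := by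
    rw [Cfsg.thompsonSubgroupOf, Cfsg.thompsonSubgroup, hset, sSup_singleton, hmap]
  rw [hJ]
  have hc : ∀ a : G, IsConj a (h * a * h⁻¹) := fun a => isConj_iff.2 ⟨h, rfl⟩
  refine ⟨hBe, hBc, h * z * h⁻¹, ⟨z, hzA, rfl⟩, h * t * h⁻¹, ⟨t, htA, rfl⟩,
    fun e => S.hyp.xt.ne (conj_eq_one_iff.1 e), fun e => ht1 (conj_eq_one_iff.1 e), hc z,
    fun e => htn (e.trans (hc t).symm), ?_⟩
  rintro _ ⟨r, hr, rfl⟩ r1
  have hr1 : r ≠ 1 := fun e => r1 (by rw [e]; exact map_one _)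
  refine (hcl r hr hr1).imp (fun e => e.trans (hc r)) fun e => ((hc t).symm.trans e).trans (hc r)

/-- the normaliser controls fusion -/
theorem Setup.control {A : Subgroup G} (hA : Cfsg.IsElementaryAbelian 2 A) (hAc : Nat.card A = 2 ^ 11)
    {a g : G} (ha : a ∈ A) (hga : g * a * g⁻¹ ∈ A) :
    ∃ m ∈ Subgroup.normalizer (A : Set G), m * a * m⁻¹ = g * a * g⁻¹ := by
  haveI : Fact (Nat.Prime 2) := ⟨Nat.prime_two⟩
  set C := Subgroup.centralizer ({a} : Set G) with hC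
  set A' := A.map (MulAut.conj g⁻¹).toMonoidHom with hA'
  have hA'e := elem_map (MulAut.conj g⁻¹).toMonoidHom hA
  have hA'c : Nat.card A' = 2 ^ 11 := by
    rw [hA', Subgroup.card_map_of_injective (MulAut.conj g⁻¹).injective, hAc]
  have hle : ∀ (D : Subgroup G), Cfsg.IsElementaryAbelian 2 D → a ∈ D → D ≤ C := fun D hD had d hd =>
    Subgroup.mem_centralizer_singleton_iff.2 (congrArg Subtype.val (hD.1.is_comm.comm (⟨d, hd⟩ : D) ⟨a, had⟩))
  have haA' : a ∈ A' := ⟨g * a * g⁻¹, hga, by show g⁻¹ * (g * a * g⁻¹) * g⁻¹⁻¹ = a; group⟩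
  have hAC := hle A hA ha
  have hA'C := hle A' hA'e haA'
  have key : ∀ D : Subgroup G, D ≤ C → Nat.card D = 2 ^ 11 → IsPGroup 2 (D.subgroupOf C) := fun D hD hc =>
    IsPGroup.of_card ((Nat.card_congr (Subgroup.subgroupOfEquivOfLe hD).toEquiv).trans hc)
  obtain ⟨P1, hP1⟩ := (key A hAC hAc).exists_le_sylow
  obtain ⟨P2, hP2⟩ := (key A' hA'C hA'c).exists_le_sylow
  obtain ⟨c, hc⟩ := MulAction.exists_smul_eq C P1 P2
  set A1 := A.map (MulAut.conj (c : G)).toMonoidHom with hA1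
  have hpg : IsPGroup 2 ((P2 : Subgroup C).map C.subtype) := IsPGroup.map P2.isPGroup' _
  have h2 : A' ≤ (P2 : Subgroup C).map C.subtype := fun d hd => ⟨⟨d, hA'C hd⟩, hP2 hd, rfl⟩
  have h1 : A1 ≤ (P2 : Subgroup C).map C.subtype := by
    rintro _ ⟨d, hd, rfl⟩
    refine ⟨c * ⟨d, hAC hd⟩ * c⁻¹, ?_, rfl⟩
    rw [← hc, Sylow.coe_subgroup_smul]
    exact ⟨_, hP1 hd, rfl⟩
  have heq : A1 = A' := S.big_unique hpg h1 h2 (elem_map _ hA) hA'e
    (by rw [hA1, Subgroup.card_map_of_injective (MulAut.conj (c : G)).injective, hAc]) hA'c.ge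
  refine ⟨g * c, Subgroup.mem_normalizer_iff.2 fun d => ?_, ?_⟩
  · have e1 : (c : G) * d * (c : G)⁻¹ ∈ A1 ↔ d ∈ A := by
      rw [hA1, Subgroup.mem_map_equiv, MulAut.conj_symm_apply]
      rw [show (c : G)⁻¹ * ((c : G) * d * (c : G)⁻¹) * c = d by group]
    rw [← e1, heq, hA', Subgroup.mem_map_equiv, MulAut.conj_symm_apply]
    rw [show g⁻¹⁻¹ * ((c : G) * d * (c : G)⁻¹) * g⁻¹ = g * c * d * (g * (c : G))⁻¹ by group]
  · rw [show g * (c : G) * a * (g * (c : G))⁻¹ = g * ((c : G) * a * (c : G)⁻¹) * g⁻¹ by group,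
      (Subgroup.mem_centralizer_singleton_iff.1 c.2), mul_inv_cancel_right]

omit S

end Cfsg.Agent.Spor.LFT
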