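import Cfsg.Agent.Lib.Spor.LFTSmall
import Cfsg.Agent.Lib.Spor.LargeQuotient
import Cfsg.Agent.Lib.Spor.LargeExtraspecial

/-!
Large Fischer type: the extraspecial subgroup modulo its centre as a Hermitian space of dimension six over
the field with four elements.
-/

set_option autoImplicit false
set_option maxRecDepth 100000
set_option linter.unusedSectionVars false

namespace Cfsg.Agent.Spor.LFT

open Cfsg.Agent.Spor.SUSix (V6)
open Cfsg.Agent.Spor.SpFour (F4)
open Cfsg.Agent.Spor.Large (XT)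
open Cfsg.Agent.Small.Unitary (herm)

universe u

variable {G : Type u} [Group G] [Finite G]

/-- the hypothesis on an involution, its extraspecial subgroup and two normal subgroups of its centraliser -/
structure Hyp (z : G) (Q N M : Subgroup G) : Prop where
  le : ∀ m ∈ M, Commute m z
  QN : Q ≤ N
  NM : N ≤ M
  normQ : ∀ c : G, Commute c z → ∀ q ∈ Q, c * q * c⁻¹ ∈ Q
  normN : ∀ c : G, Commute c z → ∀ q ∈ N, c * q * c⁻¹ ∈ N
  normM : ∀ c : G, Commute c z → ∀ q ∈ M, c * q * c⁻¹ ∈ M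
  xt : XT z Q
  inner : ∀ c : G, Commute c z → (∀ q ∈ Q, c * q * c⁻¹ = q ∨ c * q * c⁻¹ = q * z) → c ∈ Q
  cardQ : Nat.card Q = 2 ^ 13
  cardN : Nat.card N = 3 * Nat.card Q
  idx : ∀ a b : G, Commute a z → Commute b z → a ∉ M → b ∉ M → a⁻¹ * b ∈ M
  outer : ∃ a : G, Commute a z ∧ a ∉ M
  quot : ∃ (F : Type) (_ : Field F) (_ : Fintype F), Fintype.card F = 9 ∧
    ∃ f : M →* Cfsg.PSU 4 F 3, Function.Surjective f ∧ ∀ m : M, f m = 1 ↔ (m : G) ∈ N
  nwc : ∃ g : G, g * z * g⁻¹ ∈ Q ∧ g * z * g⁻¹ ≠ z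

variable {z : G} {Q N M : Subgroup G}

theorem Hyp.QM (h : Hyp z Q N M) : Q ≤ M := h.QN.trans h.NM

theorem Hyp.qz (h : Hyp z Q N M) {q : G} (hq : q ∈ Q) : Commute q z := (h.xt.cen q hq).symm

/-- congruence modulo the centre -/
def Zc (z a b : G) : Prop := b = a ∨ b = a * z

theorem Zc.refl (a : G) : Zc z a a := Or.inl rfl

/-- equality modulo the centre as membership -/
theorem zc_iff (h : Hyp z Q N M) {a b : G} : Zc z a b ↔ a⁻¹ * b ∈ Subgroup.zpowers z := by
  have hz : ∀ c, c ∈ Subgroup.zpowers z ↔ c = 1 ∨ c = z := fun c => by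
    constructor
    · intro hc
      obtain ⟨k, rfl⟩ := hc
      obtain ⟨r, rfl | rfl⟩ := Int.even_or_odd' k
      · left
        show z ^ (2 * r) = 1
        rw [zpow_mul, zpow_two, h.xt.sq, one_zpow]
      · right
        show z ^ (2 * r + 1) = z
        rw [zpow_add, zpow_mul, zpow_two, h.xt.sq, one_zpow, one_mul, zpow_one]
    · rintro (rfl | rfl)
      exacts [one_mem _, Subgroup.mem_zpowers _]
  rw [hz, inv_mul_eq_one, inv_mul_eq_iff_eq_mul, Zc]
  exact or_congr ⟨Eq.symm, Eq.symm⟩ Iff.rfl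

/-- an element of order three of the middle subgroup acts without fixed points, and is central modulo `Q` -/
theorem Hyp.exists_x (h : Hyp z Q N M) : ∃ x ∈ N, x ^ 3 = 1 ∧ x ∉ Q ∧
    (∀ m ∈ M, (m * x * m⁻¹) * x⁻¹ ∈ Q) ∧
    (∀ n ∈ N, n ∈ Q ∨ n * x⁻¹ ∈ Q ∨ n * x ∈ Q) ∧
    ∀ q ∈ Q, Zc z q (x * q * x⁻¹) → Zc z 1 q := by
  haveI : Fact (Nat.Prime 3) := ⟨Nat.prime_three⟩
  haveI : Fact (Nat.Prime 2) := ⟨Nat.prime_two⟩
  obtain ⟨⟨x, hxN⟩, hxo⟩ := exists_prime_orderOf_dvd_card' (G := N) 3 (by rw [h.cardN]; exact Dvd.intro _ rfl)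
  have hxo' : orderOf x = 3 := by rw [← hxo, ← Subgroup.orderOf_coe]
  have hxQ : x ∉ Q := fun hq => by
    have h1 := Subgroup.orderOf_dvd_natCard Q hq
    rw [hxo', h.cardQ] at h1
    norm_num at h1
  have hxM : x ∈ M := h.NM hxN
  haveI hn : (Q.subgroupOf M).Normal := ⟨fun q hq m => h.normQ m (h.le m m.2) q hq⟩
  set qm : M →* M ⧸ Q.subgroupOf M := QuotientGroup.mk' _ with hqm
  set w := qm ⟨x, hxM⟩ with hw
  have hq1 : ∀ m : M, qm m = 1 ↔ (m : G) ∈ Q := fun m => QuotientGroup.eq_one_iff m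
  have hw3 : orderOf w = 3 := orderOf_eq_prime
    (by rw [hw, ← map_pow]; exact (hq1 _).2 (by
      show x ^ 3 ∈ Q
      rw [← hxo', pow_orderOf_eq_one]; exact one_mem _))
    (fun e => hxQ ((hq1 _).1 e))
  -- the image of the middle subgroup
  have hNimg : (N.subgroupOf M).map qm = Subgroup.zpowers w := by
    refine (Subgroup.eq_of_le_of_card_ge (show Subgroup.zpowers w ≤ _ from
      Subgroup.zpowers_le.2 (Subgroup.mem_map.2 ⟨⟨x, hxM⟩, hxN, rfl⟩)) ?_).symm
    rw [Nat.card_zpowers, hw3]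
    have h1 := Subgroup.card_eq_card_quotient_mul_card_subgroup ((qm.comp (N.subgroupOf M).subtype).ker)
    rw [Nat.card_congr (QuotientGroup.quotientKerEquivRange _).toEquiv, MonoidHom.range_comp,
      Subgroup.range_subtype, Nat.card_congr (Subgroup.subgroupOfEquivOfLe h.NM).toEquiv, h.cardN] at h1
    have h2 : Nat.card Q ≤ Nat.card ((qm.comp (N.subgroupOf M).subtype).ker) := by
      refine Nat.card_le_card_of_injective
        (fun q : Q => (⟨⟨⟨q, h.QM q.2⟩, h.QN q.2⟩, MonoidHom.mem_ker.2 ((hq1 _).2 q.2)⟩ : (qm.comp (N.subgroupOf M).subtype).ker))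
        fun a b e => Subtype.ext (congrArg (fun t : (qm.comp (N.subgroupOf M).subtype).ker => ((t.1.1 : M) : G)) e)
    have h3 : 0 < Nat.card Q := Nat.card_pos
    by_contra hh
    push Not at hh
    have := Nat.mul_le_mul_left (Nat.card ((N.subgroupOf M).map qm)) h2
    nlinarith
  haveI hNn : (N.subgroupOf M).Normal := ⟨fun q hq m => h.normN m (h.le m m.2) q hq⟩
  haveI hwn : (Subgroup.zpowers w).Normal := hNimg ▸ Subgroup.Normal.map hNn _ (QuotientGroup.mk'_surjective _)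
  obtain ⟨F, iF, iFF, hF, f, hfs, hfk⟩ := h.quot
  have hker : ∀ m : M, qm m ∈ Subgroup.zpowers w ↔ (m : G) ∈ N := by
    intro m
    rw [← hNimg]
    constructor
    · rintro ⟨n, hn, e⟩
      have h2 : ((n⁻¹ * m : M) : G) ∈ Q := by
        rw [← hq1, map_mul, map_inv, e, inv_mul_cancel]
      have := mul_mem (show (n : G) ∈ N from hn) (h.QN h2)
      simpa using this
    · exact fun hm => ⟨m, hm, rfl⟩
  obtain ⟨eU⟩ : Nonempty ((M ⧸ Q.subgroupOf M) ⧸ Subgroup.zpowers w ≃* Cfsg.PSU 4 F 3) := by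
    let g : M →* (M ⧸ Q.subgroupOf M) ⧸ Subgroup.zpowers w := (QuotientGroup.mk' _).comp qm
    have hg : g.ker = f.ker := by
      ext m
      rw [MonoidHom.mem_ker, MonoidHom.mem_ker, hfk, ← hker]
      exact QuotientGroup.eq_one_iff _
    exact ⟨(QuotientGroup.quotientKerEquivOfSurjective g
      ((QuotientGroup.mk'_surjective _).comp (QuotientGroup.mk'_surjective _))).symm.trans
      ((QuotientGroup.quotientMulEquivOfEq hg).trans (QuotientGroup.quotientKerEquivOfSurjective f hfs))⟩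
  -- centrality
  obtain ⟨hUc, -⟩ := Local.FS.McLSmall.Unitary.exists_psu_action hF
  obtain ⟨-, -, σ, -, -, -, -, hσ⟩ := Cfsg.Agent.Classical.exists_usigma (F := F) (q := 3) (by rw [hF]; norm_num)
  haveI : IsSimpleGroup (Cfsg.PSU 4 F 3) := by
    letI : StarRing F := Cfsg.Agent.Small.Hermitian.starRingOfInvolution (σ : F →+* F) hσ.involutive
    exact Cfsg.Agent.Small.Unitary.psu_simple (fun x => hσ.apply_eq x) (by rw [hF]; norm_num) (by norm_num)
      (by norm_num)
  have hwall : ∀ g, g * w * g⁻¹ = w ∨ g * w * g⁻¹ = w⁻¹ := by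
    intro g
    obtain ⟨k, hk⟩ := hwn.conj_mem w (Subgroup.mem_zpowers w) g
    have hk' : w ^ (k % 3) = g * w * g⁻¹ := by
      rw [← hk]
      have := zpow_mod_orderOf w k
      rw [hw3] at this
      exact_mod_cast this
    have := Int.emod_nonneg k (by norm_num : (3 : ℤ) ≠ 0)
    have := Int.emod_lt_of_pos k (by norm_num : (0 : ℤ) < 3)
    rcases (by omega : k % 3 = 0 ∨ k % 3 = 1 ∨ k % 3 = 2) with e | e | e <;> rw [e] at hk'
    · rw [zpow_zero] at hk'
      exact absurd (conj_eq_one_iff.1 hk'.symm) fun e => by rw [e, orderOf_one] at hw3; omega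
    · exact Or.inl (by rw [← hk', zpow_one])
    · refine Or.inr ?_
      rw [← hk', eq_inv_iff_mul_eq_one, zpow_two, ← pow_two, ← pow_succ, show 2 + 1 = orderOf w by rw [hw3],
        pow_orderOf_eq_one]
  set Cw := Subgroup.centralizer ({w} : Set (M ⧸ Q.subgroupOf M)) with hCw
  have hCmem : ∀ g, g ∈ Cw ↔ g * w * g⁻¹ = w := fun g => by
    rw [hCw, Subgroup.mem_centralizer_singleton_iff, mul_inv_eq_iff_eq_mul]
  have hidx : ∀ a b, a ∉ Cw → b ∉ Cw → a⁻¹ * b ∈ Cw := by
    intro a b ha hb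
    rw [hCmem] at ha hb ⊢
    have e1 := (hwall a).resolve_left ha
    have e2 := (hwall b).resolve_left hb
    calc a⁻¹ * b * w * (a⁻¹ * b)⁻¹ = a⁻¹ * (b * w * b⁻¹) * a := by group
      _ = a⁻¹ * (a * w * a⁻¹) * a := by rw [e2, e1]
      _ = w := by group
  have hcomm : ∀ g, Commute w g := by
    intro g
    by_contra hg
    have hgC : g ∉ Cw := fun hh => hg ((Subgroup.mem_centralizer_singleton_iff.1 hh).symm)
    haveI : Cw.Normal := Subgroup.normal_of_index_eq_two (by
      rw [Subgroup.index_eq_two_iff]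
      refine ⟨g⁻¹, fun b => ?_⟩
      by_cases hb : b ∈ Cw
      · refine Or.inr ⟨hb, fun h' => hgC ?_⟩
        have := mul_mem (inv_mem hb) h'
        rw [inv_mul_cancel_left] at this
        exact inv_mem_iff.1 this
      · refine Or.inl ⟨?_, hb⟩
        have := hidx b⁻¹ g⁻¹ (fun h' => hb (inv_mem_iff.1 h')) (fun h' => hgC (inv_mem_iff.1 h'))
        rwa [inv_inv] at this)
    haveI : IsSimpleGroup ((M ⧸ Q.subgroupOf M) ⧸ Subgroup.zpowers w) := eU.isSimpleGroup_congr.mpr inferInstance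
    have hle : Subgroup.zpowers w ≤ Cw := Subgroup.zpowers_le.2 (Subgroup.mem_centralizer_singleton_iff.2 rfl)
    have hcm : (Cw.map (QuotientGroup.mk' (Subgroup.zpowers w))).comap (QuotientGroup.mk' _) = Cw := by
      rw [QuotientGroup.comap_map_mk', sup_eq_right.2 hle]
    rcases IsSimpleGroup.eq_bot_or_eq_top_of_normal _
      (Subgroup.Normal.map (inferInstance : Cw.Normal) _ (QuotientGroup.mk'_surjective (Subgroup.zpowers w))) with
      hb | ht
    · rw [hb, MonoidHom.comap_bot, QuotientGroup.ker_mk'] at hcm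
      have hi : Cw.index = 2 := by
        rw [Subgroup.index_eq_two_iff]
        refine ⟨g⁻¹, fun b => ?_⟩
        by_cases hb : b ∈ Cw
        · refine Or.inr ⟨hb, fun h' => hgC ?_⟩
          have := mul_mem (inv_mem hb) h'
          rw [inv_mul_cancel_left] at this
          exact inv_mem_iff.1 this
        · refine Or.inl ⟨?_, hb⟩
          have := hidx b⁻¹ g⁻¹ (fun h' => hb (inv_mem_iff.1 h')) (fun h' => hgC (inv_mem_iff.1 h'))
          rwa [inv_inv] at this
      rw [← hcm, Subgroup.index_eq_card, Nat.card_congr eU.toEquiv, hUc] at hi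
      omega
    · rw [ht, Subgroup.comap_top] at hcm
      exact hgC (hcm ▸ Subgroup.mem_top g)
  have hcen : ∀ m ∈ M, (m * x * m⁻¹) * x⁻¹ ∈ Q := fun m hm => by
    have h1 : qm (⟨m, hm⟩ * ⟨x, hxM⟩ * (⟨m, hm⟩ : M)⁻¹ * (⟨x, hxM⟩ : M)⁻¹) = 1 := by
      rw [map_mul, map_mul, map_mul, map_inv, map_inv, ← hw, ← (hcomm (qm ⟨m, hm⟩)).eq]
      group
    exact (hq1 _).1 h1
  have hdec : ∀ n ∈ N, n ∈ Q ∨ n * x⁻¹ ∈ Q ∨ n * x ∈ Q := by
    intro n hnN
    obtain ⟨k, hk⟩ : qm ⟨n, h.NM hnN⟩ ∈ Subgroup.zpowers w := (hker _).2 hnN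
    have hk' : w ^ (k % 3) = qm ⟨n, h.NM hnN⟩ := by
      rw [← hk]
      have := zpow_mod_orderOf w k
      rw [hw3] at this
      exact_mod_cast this
    have := Int.emod_nonneg k (by norm_num : (3 : ℤ) ≠ 0)
    have := Int.emod_lt_of_pos k (by norm_num : (0 : ℤ) < 3)
    rcases (by omega : k % 3 = 0 ∨ k % 3 = 1 ∨ k % 3 = 2) with e | e | e <;> rw [e] at hk'
    · exact Or.inl ((hq1 _).1 (by rw [← hk', zpow_zero]))
    · refine Or.inr (Or.inl ((hq1 (⟨n, h.NM hnN⟩ * (⟨x, hxM⟩ : M)⁻¹)).1 ?_))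
      rw [map_mul, ← hk', zpow_one, map_inv, mul_inv_cancel]
    · refine Or.inr (Or.inr ((hq1 (⟨n, h.NM hnN⟩ * ⟨x, hxM⟩)).1 ?_))
      rw [map_mul, ← hk', zpow_two, ← pow_two, ← hw, ← pow_succ, show 2 + 1 = orderOf w by rw [hw3],
        pow_orderOf_eq_one]
  -- the action on the quotient by the centre
  haveI hZn : ((Subgroup.zpowers z).subgroupOf Q).Normal := ⟨fun a ha g => by
    have e : g * a * g⁻¹ = a := by
      refine Subtype.ext ?_
      obtain ⟨k, hk⟩ := Subgroup.mem_subgroupOf.1 ha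
      show (g : G) * a * (g : G)⁻¹ = a
      rw [← hk]
      exact mul_inv_eq_iff_eq_mul.2 ((h.qz g.2).zpow_right k).eq
    rw [e]; exact ha⟩
  let V := Q ⧸ (Subgroup.zpowers z).subgroupOf Q
  have hmk : ∀ a b : Q, (QuotientGroup.mk a : V) = QuotientGroup.mk b ↔ Zc z a b := fun a b => by
    rw [QuotientGroup.eq, Subgroup.mem_subgroupOf, zc_iff h]; rfl
  letI : CommGroup V :=
    { (inferInstance : Group V) with
      mul_comm := fun p r => by
        obtain ⟨a, rfl⟩ := QuotientGroup.mk_surjective p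
        obtain ⟨b, rfl⟩ := QuotientGroup.mk_surjective r
        rw [← QuotientGroup.mk_mul, ← QuotientGroup.mk_mul, hmk]
        show Zc z ((a : G) * b) ((b : G) * a)
        rcases h.xt.comm b b.2 a a.2 with e | e <;> rw [mul_inv_eq_iff_eq_mul] at e
        · exact Or.inl e
        · refine Or.inr ?_
          show (b : G) * a = a * b * z
          rw [e, mul_assoc, (h.xt.cen b b.2).eq, ← mul_assoc] }
  let cj : M →* MulAut V :=
    { toFun := fun m => QuotientGroup.congr _ _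
        ({ toFun := fun q => ⟨(m : G) * q * (m : G)⁻¹, h.normQ m (h.le m m.2) q q.2⟩
           invFun := fun q => ⟨(m : G)⁻¹ * q * m, by
             simpa using h.normQ (m : G)⁻¹ (h.le m m.2).inv_left q q.2⟩
           left_inv := fun q => Subtype.ext (show (m : G)⁻¹ * ((m : G) * q * (m : G)⁻¹) * m = (q : G) by group)
           right_inv := fun q => Subtype.ext (show (m : G) * ((m : G)⁻¹ * q * m) * (m : G)⁻¹ = (q : G) by group)
           map_mul' := fun a b => Subtype.ext (show (m : G) * (a * b) * (m : G)⁻¹ = _ by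
             show _ = (m : G) * a * (m : G)⁻¹ * ((m : G) * b * (m : G)⁻¹); group) } : MulAut Q) (by
          refine Subgroup.eq_of_le_of_card_ge ?_ (by
            rw [Subgroup.card_map_of_injective (MulEquiv.injective _)])
          rintro _ ⟨a, ha, rfl⟩
          rw [Subgroup.mem_subgroupOf]
          obtain ⟨k, hk⟩ := Subgroup.mem_subgroupOf.1 ha
          refine ⟨k, ?_⟩
          show z ^ k = (m : G) * a * (m : G)⁻¹
          rw [← hk]
          exact (mul_inv_eq_iff_eq_mul.2 ((h.le m m.2).zpow_right k).eq).symm)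
      map_one' := MulEquiv.ext fun v => by
        obtain ⟨a, rfl⟩ := QuotientGroup.mk_surjective v
        refine congrArg QuotientGroup.mk (Subtype.ext ?_)
        show ((1 : M) : G) * a * ((1 : M) : G)⁻¹ = a
        simp
      map_mul' := fun m m' => MulEquiv.ext fun v => by
        obtain ⟨a, rfl⟩ := QuotientGroup.mk_surjective v
        refine congrArg QuotientGroup.mk (Subtype.ext ?_)
        show ((m * m' : M) : G) * a * ((m * m' : M) : G)⁻¹ = (m : G) * ((m' : G) * a * (m' : G)⁻¹) * (m : G)⁻¹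
        rw [Subgroup.coe_mul]; group }
  have hQker : Q.subgroupOf M ≤ cj.ker := by
    intro m hm
    rw [MonoidHom.mem_ker]
    refine MulEquiv.ext fun v => ?_
    obtain ⟨a, rfl⟩ := QuotientGroup.mk_surjective v
    refine ((hmk _ _).2 ?_).symm
    exact h.xt.comm m hm a a.2
  have hinj : Function.Injective (QuotientGroup.lift _ cj hQker) := by
    refine (injective_iff_map_eq_one _).2 fun g hg => ?_
    obtain ⟨m, rfl⟩ := QuotientGroup.mk_surjective g
    rw [QuotientGroup.eq_one_iff, Subgroup.mem_subgroupOf]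
    refine h.inner m (h.le m m.2) fun q hq => ?_
    exact (hmk ⟨q, hq⟩ _).1 (MulEquiv.congr_fun hg (QuotientGroup.mk ⟨q, hq⟩)).symm
  have hV2 : ∀ v : V, v * v = 1 := fun v => by
    obtain ⟨a, rfl⟩ := QuotientGroup.mk_surjective v
    rw [← QuotientGroup.mk_mul]
    refine ((hmk 1 _).2 ?_).symm
    rcases h.xt.sq_mem a.2 with e | e
    · exact Or.inl e
    · exact Or.inr (by rw [OneMemClass.coe_one, one_mul]; exact e)
  have hzo : orderOf z = 2 := orderOf_eq_prime (by rw [pow_two, h.xt.sq]) h.xt.ne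
  have hVc : Nat.card V = 2 ^ 12 := by
    have h1 := Subgroup.card_eq_card_quotient_mul_card_subgroup ((Subgroup.zpowers z).subgroupOf Q)
    rw [Nat.card_congr (Subgroup.subgroupOfEquivOfLe (Subgroup.zpowers_le.2 h.xt.mem)).toEquiv,
      Nat.card_zpowers, hzo, h.cardQ] at h1
    change 2 ^ 13 = Nat.card V * 2 at h1
    show Nat.card V = _
    omega
  have hfpf := fpf hV2 hVc (QuotientGroup.lift _ cj hQker) hinj w hw3 hcomm F hF ⟨eU⟩
  refine ⟨x, hxN, by rw [← hxo', pow_orderOf_eq_one], hxQ, hcen, hdec, fun q hq hxq => ?_⟩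
  have := hfpf (QuotientGroup.mk (⟨q, hq⟩ : Q)) ((hmk ⟨q, hq⟩ _).2 hxq).symm
  exact (hmk 1 ⟨q, hq⟩).1 this.symm

end Cfsg.Agent.Spor.LFT
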