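import Cfsg.Agent.Lib.Spor.LFTModel
import Cfsg.Agent.Lib.Spor.U43Main
import Cfsg.Agent.Lib.Spor.LFTHerm

/-!
The group 3.U4(3) inside SU(6,2) is perfect.
-/

set_option autoImplicit false
set_option maxRecDepth 100000

namespace Cfsg.Agent.Spor.LFT

open Cfsg.Agent.Spor.SUSix (G6 V6)
open Cfsg.Agent.Spor.SpFour (F4)
open Cfsg.Agent.Spor.U43 (K1 mat dE ev fv)
open Matrix
open scoped commutatorElement

theorem psu_facts : ∃ (F : Type) (_ : Field F) (_ : Fintype F), Fintype.card F = 9 ∧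
    IsSimpleGroup (Cfsg.PSU 4 F 3) ∧ Nat.card (Cfsg.PSU 4 F 3) = 3265920 := by
  haveI : Fact (Nat.Prime 3) := ⟨Nat.prime_three⟩
  letI : Fintype (GaloisField 3 2) := Fintype.ofFinite _
  have hF : Fintype.card (GaloisField 3 2) = 9 := by
    rw [← Nat.card_eq_fintype_card, GaloisField.card 3 2 two_ne_zero]; norm_num
  refine ⟨GaloisField 3 2, inferInstance, inferInstance, hF, ?_,
    (Local.FS.McLSmall.Unitary.exists_psu_action hF).1⟩
  obtain ⟨-, -, σ, -, -, -, -, hσ⟩ :=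
    Cfsg.Agent.Classical.exists_usigma (F := GaloisField 3 2) (q := 3) (by rw [hF]; norm_num)
  letI : StarRing (GaloisField 3 2) :=
    Cfsg.Agent.Small.Hermitian.starRingOfInvolution (σ : GaloisField 3 2 →+* GaloisField 3 2) hσ.involutive
  exact Cfsg.Agent.Small.Unitary.psu_simple (fun x => hσ.apply_eq x) (by rw [hF]; norm_num) (by norm_num)
    (by norm_num)

theorem perm_dE {σ : Equiv.Perm (Fin 6)} {e f : Fin 243}
    (h : U43.pmM σ * Matrix.diagonal (fv e) = Matrix.diagonal (fv f) * U43.pmM σ) :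
    U43.pm σ * dE e * (U43.pm σ)⁻¹ = dE f := by
  rw [mul_inv_eq_iff_eq_mul]
  exact U43.G6_ext h

theorem center_le_derived {A : G6} (hA : A ∈ Subgroup.center G6) : A ∈ ⁅K1, K1⁆ := by
  set σ : Equiv.Perm (Fin 6) := Equiv.swap 0 1 * Equiv.swap 1 2 with hσ
  set τ : Equiv.Perm (Fin 6) := Equiv.swap 3 4 * Equiv.swap 4 5 with hτ
  set e1 := ev ![F4.w, F4.v, 1, 1, 1, 1]
  set f1 := ev ![1, F4.w, F4.v, 1, 1, 1]
  set e2 := ev ![1, 1, 1, F4.w, F4.v, 1]
  set f2 := ev ![1, 1, 1, 1, F4.w, F4.v]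
  have hK : ∀ p, Equiv.Perm.sign p = 1 → U43.pm p ∈ K1 := fun p hp =>
    U43.MM_le_K1 (U43.mem_MM.2 ⟨U43.pm_mem p, by rw [U43.mp_pm]; exact hp⟩)
  have h1 : U43.pm σ * dE e1 * (U43.pm σ)⁻¹ = dE f1 := perm_dE (by decide +kernel)
  have h2 : U43.pm τ * dE e2 * (U43.pm τ)⁻¹ = dE f2 := perm_dE (by decide +kernel)
  have hv : F4.v ≠ 0 := by decide +kernel
  set S := SUSix.scalSU F4.v hv with hS
  have hSd : S ∈ ⁅K1, K1⁆ := by
    have e : S = (U43.pm σ * dE e1 * (U43.pm σ)⁻¹ * (dE e1)⁻¹) * (U43.pm τ * dE e2 * (U43.pm τ)⁻¹ * (dE e2)⁻¹) := by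
      rw [h1, h2]
      have hc : (dE e1)⁻¹ * dE f2 = dE f2 * (dE e1)⁻¹ := by
        refine ((Commute.inv_left ?_).eq)
        refine U43.G6_ext ?_
        show Matrix.diagonal (fv e1) * Matrix.diagonal (fv f2) = Matrix.diagonal (fv f2) * Matrix.diagonal (fv e1)
        rw [Matrix.diagonal_mul_diagonal, Matrix.diagonal_mul_diagonal]
        exact congrArg _ (funext fun i => mul_comm _ _)
      rw [mul_assoc (dE f1), ← mul_assoc (dE e1)⁻¹, hc, mul_assoc (dE f2), ← _root_.mul_inv_rev, ← mul_assoc,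
        eq_mul_inv_iff_mul_eq]
      refine U43.G6_ext ?_
      show SUSix.scal F4.v * (Matrix.diagonal (fv e2) * Matrix.diagonal (fv e1)) =
        Matrix.diagonal (fv f1) * Matrix.diagonal (fv f2)
      rw [SUSix.scal, Matrix.diagonal_mul_diagonal, Matrix.diagonal_mul_diagonal, Matrix.diagonal_mul_diagonal]
      exact congrArg _ (by decide +kernel)
    rw [e]
    exact mul_mem
      (Subgroup.commutator_mem_commutator (hK σ (by rw [hσ]; decide +kernel)) (U43.DD_le_K1 (U43.dE_mem _)))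
      (Subgroup.commutator_mem_commutator (hK τ (by rw [hτ]; decide +kernel)) (U43.DD_le_K1 (U43.dE_mem _)))
  obtain ⟨c, hc0, hc⟩ := U43.center_scal hA
  have hcases : ∀ c : F4, c ≠ 0 → c = 1 ∨ c = F4.v ∨ c = F4.v * F4.v := by decide +kernel
  rcases hcases c hc0 with rfl | rfl | rfl
  · have : A = 1 := U43.G6_ext (by rw [hc, SUSix.scal, U43.mat_one]; exact Matrix.diagonal_one)
    rw [this]; exact one_mem _
  · have : A = S := U43.G6_ext (by rw [hc]; rfl)
    rw [this]; exact hSd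
  · have : A = S * S := U43.G6_ext (by
      rw [hc, U43.mat_mul]
      show _ = SUSix.scal F4.v * SUSix.scal F4.v
      rw [SUSix.scal, SUSix.scal, Matrix.diagonal_mul_diagonal])
    rw [this]; exact mul_mem hSd hSd

theorem perfect_K1 : ⁅K1, K1⁆ = K1 := by
  obtain ⟨F, iF, iFF, hF, hsimp, hcard⟩ := psu_facts
  obtain ⟨e⟩ := U43.K1_iso F hF
  haveI := hsimp
  set q : K1 →* Cfsg.PSU 4 F 3 := e.toMonoidHom.comp (QuotientGroup.mk' _) with hq
  have hqs : Function.Surjective q := e.surjective.comp (QuotientGroup.mk'_surjective _)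
  have himg : (commutator K1).map q = ⊤ := by
    rw [commutator_def, Subgroup.map_commutator, Subgroup.map_top_of_surjective q hqs, ← commutator_def]
    refine (IsSimpleGroup.eq_bot_or_eq_top_of_normal (commutator (Cfsg.PSU 4 F 3)) inferInstance).resolve_left
      fun hb => ?_
    letI : CommGroup (Cfsg.PSU 4 F 3) := { (inferInstance : Group (Cfsg.PSU 4 F 3)) with
      mul_comm := fun a b => by
        have h : ⁅a, b⁆ ∈ commutator (Cfsg.PSU 4 F 3) := by
          rw [commutator_def]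
          exact Subgroup.commutator_mem_commutator (Subgroup.mem_top a) (Subgroup.mem_top b)
        rw [hb, Subgroup.mem_bot] at h
        exact commutatorElement_eq_one_iff_mul_comm.1 h }
    have := IsSimpleGroup.prime_card (α := Cfsg.PSU 4 F 3)
    rw [hcard] at this
    exact absurd this (by intro h; have := h.eq_one_or_self_of_dvd 2 ⟨1632960, by norm_num⟩; omega)
  have hmap : (commutator K1).map K1.subtype = ⁅K1, K1⁆ := by
    rw [commutator_def, Subgroup.map_commutator, ← MonoidHom.range_eq_map, Subgroup.range_subtype]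
  refine le_antisymm (hmap ▸ Subgroup.map_subtype_le _) fun a ha => ?_
  obtain ⟨d, hd, hde⟩ : q ⟨a, ha⟩ ∈ (commutator K1).map q := himg.symm ▸ Subgroup.mem_top _
  have hz : d⁻¹ * ⟨a, ha⟩ ∈ Subgroup.center K1 := by
    rw [← QuotientGroup.eq_one_iff]
    refine e.injective ?_
    rw [map_one]
    show q (d⁻¹ * ⟨a, ha⟩) = 1
    rw [map_mul, map_inv, hde, inv_mul_cancel]
  rw [U43.center_K1, Subgroup.mem_subgroupOf] at hz
  have hd' : (d : G6) ∈ ⁅K1, K1⁆ := hmap ▸ ⟨d, hd, rfl⟩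
  have := mul_mem hd' (center_le_derived hz)
  simpa using this

theorem perfect_Kp : ⁅Kp, Kp⁆ = Kp := by
  rw [Kp, ← Subgroup.map_commutator, perfect_K1]

end Cfsg.Agent.Spor.LFT
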