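import Cfsg.Agent.Lib.Spor.LFTMain
import Cfsg.Agent.Lib.Spor.LFTLineChecks
import Cfsg.Agent.Lib.Spor.LFTPerf

/-!
Large Fischer type: three adjacent conjugates on a line and the centraliser of an element of order three
acting as a scalar, which is a perfect double cover of 3.U4(3).
-/

set_option autoImplicit false
set_option maxRecDepth 100000
set_option linter.unusedSectionVars false

namespace Cfsg.Agent.Spor.LFT

open Cfsg.Agent.Spor.SUSix (V6 code code_lt vecOf_code)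
open Cfsg.Agent.Spor.SpFour (F4)
open Cfsg.Agent.Spor.Large (XT Pair)

attribute [local irreducible] KerB phiA phiB CmpS Cmp

universe u

variable {G : Type u} [Group G] [Finite G] {z : G} {Q N M : Subgroup G}

/-- the conjugate of the extraspecial subgroup -/
abbrev Qc (Q : Subgroup G) (g : G) : Subgroup G := Q.map (MulAut.conj g).toMonoidHom

theorem mem_Qc {g w : G} : w ∈ Qc Q g ↔ g⁻¹ * w * g ∈ Q := by
  rw [Subgroup.mem_map_equiv, MulAut.conj_symm_apply]

theorem mem_Qc_one {w : G} : w ∈ Qc Q 1 ↔ w ∈ Q := by simp [mem_Qc]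

theorem Qc_conj {g w : G} (c : G) (h : w ∈ Qc Q g) : c * w * c⁻¹ ∈ Qc Q (c * g) := by
  rw [mem_Qc] at h ⊢
  rwa [show (c * g)⁻¹ * (c * w * c⁻¹) * (c * g) = g⁻¹ * w * g by group]

/-- a scalar as a permutation -/
theorem scal_comm {p : PV} (hp : p ∈ Kp) (c : F4) (v : V6) : p (c • v) = c • p v := by
  obtain ⟨A, -, rfl⟩ := hp
  exact act_smul' A c v

theorem linear_Kp {p : PV} (hp : p ∈ Gam) (v : V6) (hv : p v = Pi.single 0 1)
    (h : p (F4.w • v) = F4.w • p v) : p ∈ Kp := by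
  refine hp.resolve_right fun h' => ?_
  have e := scal_comm h' F4.w v
  rw [Equiv.Perm.mul_apply, Equiv.Perm.mul_apply, h, hv] at e
  exact absurd e (by decide +kernel)

theorem fix_line_Kp {p : PV} (hp : p ∈ Gam) (h1 : p vb = vb) (h2 : p (F4.w • vb) = F4.w • vb) : p ∈ Kp := by
  refine hp.resolve_right fun h' => ?_
  have e := scal_comm h' F4.w vb
  rw [Equiv.Perm.mul_apply, Equiv.Perm.mul_apply, h1, h2] at e
  exact absurd e (by decide +kernel)

/-! ### the kernel vectors -/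

theorem evO_code (v : V6) : code ((gB 3 * gB 0 * gB 3 * gB 0) v) = Chk.evO (code v) := by
  show code (act (wd (Dat.wordB.getD 3 [])) (act (wd (Dat.wordB.getD 0 [])) (act (wd (Dat.wordB.getD 3 []))
    (act (wd (Dat.wordB.getD 0 [])) v)))) = _
  rw [wd_code _ (wordBK_lt 3 (by norm_num)).1, wd_code _ (wordBK_lt 0 (by norm_num)).1,
    wd_code _ (wordBK_lt 3 (by norm_num)).1, wd_code _ (wordBK_lt 0 (by norm_num)).1]
  rfl

theorem outer_ker : eo 0 * (gB 3 * gB 0 * gB 3 * gB 0) ∈ Gam ⊓ fixv vb ⊓ KerB := by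
  have hm : gB 3 * gB 0 * gB 3 * gB 0 ∈ Kp ⊓ fixv vb :=
    mul_mem (mul_mem (mul_mem (gB_mem 3) (gB_mem 0)) (gB_mem 3)) (gB_mem 0)
  refine ⟨⟨Gam.mul_mem outer_mem (Kp_le hm.1), (fixv vb).mul_mem (fixB.2.2 0) hm.2⟩, ?_⟩
  have hS : eo 0 * (gB 3 * gB 0 * gB 3 * gB 0) ∈ CmpS Chk.mB 15 :=
    mul_mem (mem_CmpS.2 ⟨_, eo_cmp 0⟩) (mul_mem (mul_mem (mul_mem (gB_S 3) (gB_S 0)) (gB_S 3)) (gB_S 0))
  refine (mem_KerB (p := ⟨_, hS⟩)).2 ?_
  have hb : ∀ s : Fin 4, (gB s, duad (p6 (s.castLE (by norm_num)))) ∈ Cmp Chk.mB 15 := gB_cmp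
  have h := (Cmp Chk.mB 15).mul_mem (eo_cmp 0)
    ((Cmp Chk.mB 15).mul_mem ((Cmp Chk.mB 15).mul_mem ((Cmp Chk.mB 15).mul_mem (hb 3) (hb 0)) (hb 3)) (hb 0))
  simp only [Prod.mk_mul_mk] at h
  rw [phiB_eq (p := ⟨_, hS⟩) h, ← map_mul, ← map_mul, ← map_mul, ← map_mul]
  rw [show p6 ⟨4 + (0 : Fin 3).val, by norm_num⟩ * (p6 ((3 : Fin 4).castLE (by norm_num)) *
    p6 ((0 : Fin 4).castLE (by norm_num)) * p6 ((3 : Fin 4).castLE (by norm_num)) *
    p6 ((0 : Fin 4).castLE (by norm_num))) = 1 by decide +kernel, map_one]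

theorem code_vb_add (v : V6) : code (v + vb) = code v ^^^ 85 := by
  rw [code_add, PA_va.2.2.2.2.2]

theorem fCond_of {v : V6} (h : ∀ r ∈ Gam ⊓ fixv vb ⊓ KerB, r v = v ∨ r v = v + vb) :
    Chk.fCond (code v) = true := by
  have hnear : ∀ r ∈ Gam ⊓ fixv vb ⊓ KerB, Chk.near (code (r v)) (code v) = true := by
    intro r hr
    rcases h r hr with e | e
    · rw [e]
      show (Nat.beq (code v ^^^ code v) 0 || _) = true
      rw [Nat.xor_self]; rfl
    · rw [e, code_vb_add]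
      show (_ || Nat.beq ((code v ^^^ 85) ^^^ code v) 85) = true
      rw [Nat.xor_comm (code v) 85, Nat.xor_assoc, Nat.xor_self, Nat.xor_zero]
      exact Bool.or_true _
  simp only [Chk.fCond, Bool.and_eq_true, List.all_eq_true, List.mem_range]
  refine ⟨fun s hs => ?_, ?_⟩
  · have h1 := gK_mem ⟨s, hs⟩
    have h2 := hnear _ ⟨⟨Kp_le h1.1, h1.2⟩, gK_ker ⟨s, hs⟩⟩
    rwa [show code (gK ⟨s, hs⟩ v) = Chk.evW (Dat.wordK.getD s []) (code v) from wd_code _ (wordBK_lt s hs).2 v] at h2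
  · have h2 := hnear _ outer_ker
    rwa [Equiv.Perm.mul_apply, eo_code, evO_code] at h2

/-- vector of a combination -/
def combV (L : List ℕ) (e : ℕ) : V6 := SUSix.vecOf (Chk.combA L e)

theorem comb_inj : ∀ e < 1024, code (combV Chk.rowA e + F4.w • combV Chk.rowB e) / 4 = e := by
  decide +kernel

theorem comb_lt : ∀ e < 1024, Chk.combA Chk.rowA e < 4096 ∧ Chk.combA Chk.rowB e < 4096 := by
  decide +kernel

variable (S : Setup z Q N M) (f : Frame z Q M)
include S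

theorem Setup.Qc_eq {g k : G} (h : g * z * g⁻¹ = k * z * k⁻¹) : Qc Q g = Qc Q k := by
  have hc : Commute (k⁻¹ * g) z := mul_inv_eq_iff_eq_mul.1 (by
    rw [show k⁻¹ * g * z * (k⁻¹ * g)⁻¹ = k⁻¹ * (g * z * g⁻¹) * k by group, h]; group)
  ext w
  rw [mem_Qc, mem_Qc]
  constructor
  · intro h1
    have := S.hyp.normQ _ hc _ h1
    rwa [show k⁻¹ * g * (g⁻¹ * w * g) * (k⁻¹ * g)⁻¹ = k⁻¹ * w * k by group] at this
  · intro h1
    have := S.hyp.normQ _ hc.inv_left _ h1
    rwa [show (k⁻¹ * g)⁻¹ * (k⁻¹ * w * k) * (k⁻¹ * g)⁻¹⁻¹ = g⁻¹ * w * g by group] at this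

theorem Setup.Qc_norm {g w c : G} (hc : Commute c (g * z * g⁻¹)) (h : w ∈ Qc Q g) : c * w * c⁻¹ ∈ Qc Q g := by
  have h1 := Qc_conj c h
  rwa [S.Qc_eq (g := c * g) (k := g) (by
    rw [show c * g * z * (c * g)⁻¹ = c * (g * z * g⁻¹) * c⁻¹ by group, hc.eq, mul_inv_cancel_right])] at h1

theorem Setup.xtc (g : G) : XT (g * z * g⁻¹) (Qc Q g) := S.hyp.xt.conj g

/-- two adjacent conjugates and the third on their line -/
theorem Setup.third {g k r a b : G} (ha : g * z * g⁻¹ = a) (hb : k * z * k⁻¹ = b) (hab : a ≠ b)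
    (hbg : b ∈ Qc Q g) (hak : a ∈ Qc Q k) (hr : r * z * r⁻¹ = a * b) {w : G} (hw : w ∈ Qc Q g)
    (hw' : w ∈ Qc Q k) : w ∈ Qc Q r := by
  subst ha hb
  have X := S.xtc g
  obtain ⟨p, hp, hpn⟩ : ∃ p ∈ Qc Q g, ¬ Commute p (k * z * k⁻¹) := by
    by_contra hno
    push Not at hno
    rcases X.eq_of_cen _ hbg (fun q hq => (hno q hq).symm) with e | e
    · exact (S.xtc k).ne e
    · exact hab e.symm
  have hmv := X.move hp hbg hpn
  rw [S.Qc_eq (g := r) (k := p * k) (by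
    rw [hr, show p * k * z * (p * k)⁻¹ = p * (k * z * k⁻¹) * p⁻¹ by group, hmv]
    exact (X.cen _ hbg).eq)]
  have h1 : p⁻¹ * w * p⁻¹⁻¹ ∈ Qc Q k := by
    rcases X.comm p⁻¹ (inv_mem hp) w hw with e | e <;> rw [e]
    exacts [hw', mul_mem hw' hak]
  have h2 := Qc_conj p h1
  rwa [show p * (p⁻¹ * w * p⁻¹⁻¹) * p⁻¹ = w by group] at h2

theorem Setup.vecCard (A : Subgroup G) (hA : A ≤ Q) (hz : z ∈ A) :
    Nat.card A = 2 * (f.vec '' (A : Set G)).ncard := by
  let φ : A →* Multiplicative V6 :=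
    { toFun := fun a => Multiplicative.ofAdd (f.vec a)
      map_one' := by
        show Multiplicative.ofAdd (f.vec 1) = 1
        rw [f.vec_one S]; rfl
      map_mul' := fun a b => by
        show Multiplicative.ofAdd (f.vec ((a : G) * b)) = _
        rw [f.vec_mul a (hA a.2) b (hA b.2)]; rfl }
  have h1 := Subgroup.card_eq_card_quotient_mul_card_subgroup φ.ker
  have hk : φ.ker = (Subgroup.zpowers z).subgroupOf A := by
    ext a
    rw [MonoidHom.mem_ker, Subgroup.mem_subgroupOf]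
    show Multiplicative.ofAdd (f.vec a) = 1 ↔ _
    rw [← ofAdd_zero, Multiplicative.ofAdd.apply_eq_iff_eq, ← f.vec_one S, eq_comm,
      f.vec_eq 1 (one_mem _) a (hA a.2), zc_iff S.hyp, inv_one, one_mul]
  have hzo : orderOf z = 2 := orderOf_eq_prime (by rw [pow_two, S.hyp.xt.sq]) S.hyp.xt.ne
  have hr : (f.vec '' (A : Set G)).ncard = Nat.card φ.range := by
    rw [← Nat.card_coe_set_eq]
    exact Nat.card_congr
      { toFun := fun v => ⟨Multiplicative.ofAdd v.1, by obtain ⟨a, ha, e⟩ := v.2; exact ⟨⟨a, ha⟩, by rw [← e]; rfl⟩⟩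
        invFun := fun v => ⟨Multiplicative.toAdd v.1, by obtain ⟨a, e⟩ := v.2; exact ⟨a, a.2, by rw [← e]; rfl⟩⟩
        left_inv := fun _ => rfl
        right_inv := fun _ => rfl }
  rw [Nat.card_congr (QuotientGroup.quotientKerEquivRange φ).toEquiv, ← hr, hk,
    Nat.card_congr (Subgroup.subgroupOfEquivOfLe (Subgroup.zpowers_le.2 hz)).toEquiv, Nat.card_zpowers, hzo] at h1
  omega

omit S

/-- an element of order three acting as a scalar -/
structure Xel (f : Frame z Q M) (x : Subgroup.centralizer ({z} : Set G)) : Prop where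
  cube : x ^ 3 = 1
  img : ∀ v, f.π x v = F4.w • v

variable {x : Subgroup.centralizer ({z} : Set G)}

theorem Xel.cubeG (X : Xel f x) (a : G) : (x : G) * ((x : G) * ((x : G) * a * (x : G)⁻¹) * (x : G)⁻¹) * (x : G)⁻¹ = a := by
  have h : (x : G) ^ 3 = 1 := by rw [← SubmonoidClass.coe_pow, X.cube]; rfl
  calc _ = (x : G) ^ 3 * a * ((x : G) ^ 3)⁻¹ := by rw [pow_succ, pow_two]; group
    _ = a := by rw [h]; group

theorem Xel.vec (X : Xel f x) {a : G} (ha : a ∈ Q) : f.vec ((x : G) * a * (x : G)⁻¹) = F4.w • f.vec a := by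
  rw [f.vec_conj x a ha, X.img]

include S

theorem Xel.ker (X : Xel f x) {c : G} (hc : c ∈ Q) (hcx : Commute c (x : G)) : c = 1 ∨ c = z := by
  have h := X.vec f hc
  rw [← hcx.eq, mul_inv_cancel_right] at h
  have key : ∀ a : F4, a = F4.w * a → a = 0 := by decide +kernel
  have h0 : f.vec c = 0 := funext fun i => key _ (congrFun h i)
  rcases (f.vec_eq 1 (one_mem _) c hc).1 ((f.vec_one S).trans h0.symm) with e | e
  · exact Or.inl e
  · exact Or.inr (e.trans (one_mul z))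

theorem Xel.Kp_of_comm (X : Xel f x) {c : Subgroup.centralizer ({z} : Set G)} (hc : Commute c x) :
    f.π c ∈ Kp := by
  refine linear_Kp ((S.range_pi f _).2 ⟨c, rfl⟩) ((f.π c)⁻¹ (Pi.single 0 1))
    ((f.π c).apply_symm_apply _) ?_
  rw [← X.img, ← X.img]
  exact Equiv.congr_fun (((map_mul f.π c x).symm.trans (congrArg f.π hc.eq)).trans (map_mul f.π x c)) _

theorem Xel.lift (X : Xel f x) {p : PV} (hp : p ∈ Kp) : ∃ c, Commute c x ∧ f.π c = p := by
  obtain ⟨m, rfl⟩ := f.surj p hp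
  set y := m * x * m⁻¹ with hy
  have hπ : f.π (y * x⁻¹) = 1 := by
    rw [hy, map_mul, map_mul, map_mul, map_inv, map_inv]
    have : f.π m * f.π x = f.π x * f.π m := Equiv.ext fun v => by
      rw [Equiv.Perm.mul_apply, Equiv.Perm.mul_apply, X.img, X.img, scal_comm hp]
    rw [this, mul_inv_cancel_right, mul_inv_cancel]
  have haQ : ((y * x⁻¹ : Subgroup.centralizer ({z} : Set G)) : G) ∈ Q := (f.ker _).1 hπ
  obtain ⟨q, hq, hqv⟩ := f.vec_surj (F4.w • f.vec ((y * x⁻¹ : Subgroup.centralizer ({z} : Set G)) : G))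
  set q' : Subgroup.centralizer ({z} : Set G) :=
    ⟨q, Subgroup.mem_centralizer_singleton_iff.2 (S.hyp.qz hq)⟩ with hq'
  have hxq : (x : G) * q⁻¹ * (x : G)⁻¹ ∈ Q :=
    S.hyp.normQ x (Subgroup.mem_centralizer_singleton_iff.1 x.2) _ (inv_mem hq)
  have hb : q * ((x : G) * q⁻¹ * (x : G)⁻¹) ∈ Q := mul_mem hq hxq
  have hvq : f.vec q⁻¹ = f.vec q := by
    have := f.vec_mul q⁻¹ (inv_mem hq) q hq
    rw [inv_mul_cancel, f.vec_one S] at this
    have key : ∀ a b : F4, 0 = a + b → a = b := by decide +kernel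
    exact funext fun i => key _ _ (congrFun this i)
  have hvec : f.vec (q * ((x : G) * q⁻¹ * (x : G)⁻¹)) =
      f.vec ((y * x⁻¹ : Subgroup.centralizer ({z} : Set G)) : G) := by
    rw [f.vec_mul q hq _ hxq, X.vec f (inv_mem hq), hvq, hqv]
    have key : ∀ a : F4, F4.w * a + F4.w * (F4.w * a) = a := by decide +kernel
    exact funext fun i => key _
  refine ⟨q'⁻¹ * m, ?_, by rw [map_mul, map_inv, (f.ker q').2 hq, inv_one, one_mul]⟩
  -- the two elements of order three agree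
  have hy3 : (y : G) ^ 3 = 1 := by
    rw [← SubmonoidClass.coe_pow, hy, conj_pow, X.cube, mul_one, mul_inv_cancel]; rfl
  have hqx3 : (q * (x : G) * q⁻¹) ^ 3 = 1 := by
    rw [conj_pow, ← SubmonoidClass.coe_pow, X.cube, OneMemClass.coe_one, mul_one, mul_inv_cancel]
  have hyq : (y : G) = q * (x : G) * q⁻¹ := by
    rcases (f.vec_eq _ hb _ haQ).1 hvec with e | e
    · rw [Subgroup.coe_mul, Subgroup.coe_inv, mul_inv_eq_iff_eq_mul] at e
      rw [e]; group
    · exfalso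
      rw [Subgroup.coe_mul, Subgroup.coe_inv, mul_inv_eq_iff_eq_mul] at e
      have hzx : Commute (q * (x : G) * q⁻¹) z :=
        Subgroup.mem_centralizer_singleton_iff.1 (q' * x * q'⁻¹).2
      rw [e, show q * ((x : G) * q⁻¹ * (x : G)⁻¹) * z * (x : G) =
        (q * (x : G) * q⁻¹) * ((x : G)⁻¹ * z * (x : G)) by group,
        show (x : G)⁻¹ * z * (x : G) = z by
          rw [mul_assoc, ← Subgroup.mem_centralizer_singleton_iff.1 x.2, inv_mul_cancel_left],
        hzx.mul_pow, hqx3, one_mul, pow_succ, pow_two, S.hyp.xt.sq, one_mul] at hy3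
      exact S.hyp.xt.ne hy3
  refine Subtype.ext ?_
  show (q'⁻¹ : Subgroup.centralizer ({z} : Set G)).1 * m.1 * x.1 = x.1 * ((q'⁻¹ : Subgroup.centralizer ({z} : Set G)).1 * m.1)
  have : q⁻¹ * ((m : G) * x * (m : G)⁻¹) * q = (x : G) := by
    rw [show (m : G) * x * (m : G)⁻¹ = (y : G) from rfl, hyq]; group
  show q⁻¹ * (m : G) * x = (x : G) * (q⁻¹ * (m : G))
  conv_rhs => rw [← this]
  group

end Cfsg.Agent.Spor.LFT
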