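import Cfsg.Agent.Lib.Spor.LFTStab

/-!
The stabiliser of the longer orbit: a kernel of order 32 and quotient A6 on pairs of six letters.
-/

set_option autoImplicit false
set_option maxRecDepth 100000

namespace Cfsg.Agent.Spor.LFT

open Cfsg.Agent.Spor.SUSix (V6 code code_lt vecOf_code)

/-- the maps fixing all fifteen lines -/
def KerB : Subgroup PV where
  carrier := {p | (p, (1 : Equiv.Perm (Fin 15))) ∈ Cmp Chk.mB 15}
  one_mem' := (Cmp Chk.mB 15).one_mem
  mul_mem' {a b} ha hb := by simpa using (Cmp Chk.mB 15).mul_mem ha hb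
  inv_mem' {a} ha := by simpa using (Cmp Chk.mB 15).inv_mem ha

theorem KerB_le : KerB ≤ CmpS Chk.mB 15 := fun _ h => mem_CmpS.2 ⟨1, h⟩

theorem phiB_eq {p : CmpS Chk.mB 15} {σ : Equiv.Perm (Fin 15)} (h : ((p : PV), σ) ∈ Cmp Chk.mB 15) : phiB p = σ :=
  cmpHom_eq _ _ h

theorem mem_KerB {p : CmpS Chk.mB 15} : (p : PV) ∈ KerB ↔ phiB p = 1 :=
  ⟨fun h => cmpHom_eq _ _ h, fun h => by
    have := cperm_spec p
    rw [show cperm p = 1 from h] at this
    exact this⟩

theorem phiB_ker {p : PV} (hp : p ∈ KerB) (hS : p ∈ CmpS Chk.mB 15) : phiB ⟨p, hS⟩ = 1 := phiB_eq hp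

/-- the generators of the second stabiliser -/
def gB (s : Fin 4) : PV := act (wd (Dat.wordB.getD s.val []))

/-- the kernel generators -/
def gK (s : Fin 4) : PV := act (wd (Dat.wordK.getD s.val []))

theorem wordBK_lt (s : ℕ) (hs : s < 4) :
    (∀ x ∈ Dat.wordB.getD s [], x < 6) ∧ ∀ x ∈ Dat.wordK.getD s [], x < 6 := by
  revert s; decide +kernel

theorem gB_cmp (s : Fin 4) : (gB s, duad (p6 (s.castLE (by norm_num)))) ∈ Cmp Chk.mB 15 := by
  intro v j
  have h := compB_chk (code v) (code_lt v)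
  simp only [Chk.compB, Chk.compOK, Bool.and_eq_true, List.all_eq_true, List.mem_range, beq_iff_eq] at h
  show Chk.tb (Chk.mB (code (act (wd (Dat.wordB.getD s.val [])) v))) _ = _
  rw [wd_code _ (wordBK_lt s.val s.2).1, duad_apply _ (p6_spec.1 _)]
  exact h.1.1 s.val s.2 j j.2

theorem eo_cmp (s : Fin 3) : (eo s, duad (p6 ⟨4 + s.val, by omega⟩)) ∈ Cmp Chk.mB 15 := by
  intro v j
  have h := compB_chk (code v) (code_lt v)
  simp only [Chk.compB, Chk.compOK, Bool.and_eq_true, List.all_eq_true, List.mem_range, beq_iff_eq] at h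
  show Chk.tb (Chk.mB (code (eo s v))) _ = _
  rw [eo_code, duad_apply _ (p6_spec.1 _)]
  exact h.1.2 s.val s.2 j j.2

theorem gK_ker (s : Fin 4) : gK s ∈ KerB := by
  intro v j
  have h := compB_chk (code v) (code_lt v)
  simp only [Chk.compB, Chk.compOK, Bool.and_eq_true, List.all_eq_true, List.mem_range, beq_iff_eq] at h
  show Chk.tb (Chk.mB (code (act (wd (Dat.wordK.getD s.val [])) v))) j.val = _
  rw [wd_code _ (wordBK_lt s.val s.2).2]
  have := h.2 s.val s.2 j j.2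
  have e : (List.range 15).getD j.val 0 = j.val := by
    have key : ∀ i < 15, (List.range 15).getD i 0 = i := by decide
    exact key _ j.2
  rwa [e] at this

attribute [local irreducible] KerB phiB CmpS Cmp

theorem fixB : (∀ s, gB s vb = vb) ∧ (∀ s, gK s vb = vb) ∧ ∀ s, eo s vb = vb := by
  have h := Chk.fix_ok
  simp only [Chk.fixOK, Bool.and_eq_true, List.all_eq_true, List.mem_append] at h
  obtain ⟨⟨⟨⟨⟨⟨-, hB⟩, hE⟩, -⟩, -⟩, -⟩, -⟩ := h
  have hmem : ∀ s < 4, Dat.wordB.getD s [] ∈ Dat.wordB ∧ Dat.wordK.getD s [] ∈ Dat.wordK := by decide +kernel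
  refine ⟨fun s => code_inj ?_, fun s => code_inj ?_, fun s => code_inj ?_⟩
  · rw [gB, wd_code _ (wordBK_lt s.val s.2).1, PA_va.2.2.2.2.2]
    exact Nat.eq_of_beq_eq_true (hB _ (Or.inl (hmem _ s.2).1))
  · rw [gK, wd_code _ (wordBK_lt s.val s.2).2, PA_va.2.2.2.2.2]
    exact Nat.eq_of_beq_eq_true (hB _ (Or.inr (hmem _ s.2).2))
  · rw [eo_code, PA_va.2.2.2.2.2]
    have : Chk.en s.val ∈ Dat.colE := by revert s; decide +kernel
    exact Nat.eq_of_beq_eq_true (hE _ this).2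

theorem gB_mem (s : Fin 4) : gB s ∈ Kp ⊓ fixv vb := ⟨⟨_, wd_mem _, rfl⟩, fixB.1 s⟩

theorem gK_mem (s : Fin 4) : gK s ∈ Kp ⊓ fixv vb := ⟨⟨_, wd_mem _, rfl⟩, fixB.2.1 s⟩

theorem gB_S (s : Fin 4) : gB s ∈ CmpS Chk.mB 15 := mem_CmpS.2 ⟨_, gB_cmp s⟩

theorem phiB_gen (s : Fin 4) : phiB ⟨gB s, gB_S s⟩ = duad (p6 (s.castLE (by norm_num))) := phiB_eq (gB_cmp s)

/-- subset product of the kernel generators -/
def kerEl (e : ℕ) : PV :=
  (List.range 4).foldl (fun p s => (if Chk.tb e s then gK (Fin.ofNat 4 s) else 1) * p) 1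

theorem ker_sixteen : 16 ≤ Nat.card (Subgroup.closure (Set.range gK) : Subgroup PV) := by
  have hmem : ∀ e : Fin 16, kerEl e.val ∈ Subgroup.closure (Set.range gK) := by
    intro e
    have key : ∀ (l : List ℕ) (p : PV), p ∈ Subgroup.closure (Set.range gK) →
        l.foldl (fun p s => (if Chk.tb e.val s then gK (Fin.ofNat 4 s) else 1) * p) p ∈
          Subgroup.closure (Set.range gK) := by
      intro l
      induction l with
      | nil => exact fun p hp => hp
      | cons s l ih =>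
        intro p hp
        refine ih _ (mul_mem ?_ hp)
        split
        · exact Subgroup.subset_closure ⟨_, rfl⟩
        · exact one_mem _
    exact key _ 1 (one_mem _)
  have hinj : Function.Injective (fun e : Fin 16 => (⟨kerEl e.val, hmem e⟩ : Subgroup.closure (Set.range gK))) := by
    intro a b hab
    have hab' : kerEl a.val = kerEl b.val := congrArg Subtype.val hab
    have himg : ∀ e : ℕ, Chk.kerImg e = (List.range 12).map fun i => code (kerEl e (SUSix.vecOf (2 ^ i))) := by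
      intro e
      refine List.map_congr_left fun i hi => ?_
      rw [List.mem_range] at hi
      have key : ∀ (l : List ℕ), (∀ s ∈ l, s < 4) → ∀ (p : PV) (k : ℕ), code (p (SUSix.vecOf (2 ^ i))) = k →
          code (l.foldl (fun p s => (if Chk.tb e s then gK (Fin.ofNat 4 s) else 1) * p) p (SUSix.vecOf (2 ^ i))) =
            l.foldl (fun y s => bif Chk.tb e s then Chk.evW (Dat.wordK.getD s []) y else y) k := by
        intro l
        induction l with
        | nil => exact fun _ p k hk => hk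
        | cons s l ih =>
          intro hl p k hk
          refine ih (fun x hx => hl x (by simp [hx])) _ _ ?_
          have hs : (Fin.ofNat 4 s).val = s := Nat.mod_eq_of_lt (hl s (by simp))
          rw [Equiv.Perm.mul_apply]
          by_cases hb : Chk.tb e s = true
          · show _ = bif Chk.tb e s then _ else _
            rw [if_pos hb, hb, cond_true, gK, hs, wd_code _ (wordBK_lt s (hl s (by simp))).2, hk]
          · show _ = bif Chk.tb e s then _ else _
            rw [if_neg hb, Bool.eq_false_iff.2 hb, cond_false, Equiv.Perm.one_apply, hk]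
      exact (key _ (fun s hs => List.mem_range.1 hs) 1 _
        (code_vecOf _ (Nat.pow_lt_pow_right (by norm_num) hi))).symm
    have h := Chk.ker_ok
    simp only [Chk.kerOK, decide_eq_true_eq] at h
    have := (h.getElem_inj_iff (i := a.val) (j := b.val) (hi := by simp) (hj := by simp)).1 (by
      rw [List.getElem_map, List.getElem_map, List.getElem_range, List.getElem_range, himg, himg, hab'])
    exact Fin.ext this
  simpa using Nat.card_le_card_of_injective _ hinj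

set_option maxHeartbeats 1000000 in
theorem Kb_facts : ∃ (hS : Kp ⊓ fixv vb ≤ CmpS Chk.mB 15),
    (phiB.comp (Subgroup.inclusion hS)).range = (alternatingGroup (Fin 6)).map duad ∧
      Nat.card (Kp ⊓ fixv vb ⊓ KerB : Subgroup PV) = 16 := by
  have hcard := card_Kb.1
  set H := Subgroup.closure (Set.range gB ∪ Set.range gK) with hH
  have hle : H ≤ Kp ⊓ fixv vb := (Subgroup.closure_le _).2 (by
    rintro x (⟨s, rfl⟩ | ⟨s, rfl⟩)
    exacts [gB_mem s, gK_mem s])
  have hHS : H ≤ CmpS Chk.mB 15 := (Subgroup.closure_le _).2 (by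
    rintro x (⟨s, rfl⟩ | ⟨s, rfl⟩)
    exacts [gB_S s, KerB_le (gK_ker s)])
  set f := phiB.comp (Subgroup.inclusion hHS) with hf
  have hr : f.range = (alternatingGroup (Fin 6)).map duad := by
    refine le_antisymm ?_ ?_
    · rintro _ ⟨⟨x, hx⟩, rfl⟩
      induction hx using Subgroup.closure_induction with
      | mem y hy =>
        rcases hy with ⟨s, rfl⟩ | ⟨s, rfl⟩
        · show phiB ⟨gB s, _⟩ ∈ _
          rw [phiB_gen]
          exact ⟨_, even_gen ▸ Subgroup.subset_closure ⟨s, rfl⟩, rfl⟩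
        · show phiB ⟨gK s, _⟩ ∈ _
          rw [phiB_ker (gK_ker s)]
          exact one_mem _
      | one => exact (map_one f) ▸ one_mem _
      | mul a b ha hb iha ihb =>
        exact (map_mul f ⟨a, ha⟩ ⟨b, hb⟩) ▸ mul_mem iha ihb
      | inv a ha iha => exact (map_inv f ⟨a, ha⟩) ▸ inv_mem iha
    · rw [← even_gen, MonoidHom.map_closure, Subgroup.closure_le]
      rintro _ ⟨_, ⟨s, rfl⟩, rfl⟩
      exact ⟨⟨gB s, Subgroup.subset_closure (Or.inl ⟨s, rfl⟩)⟩, phiB_gen s⟩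
  have hrc : Nat.card f.range = 360 := by
    rw [hr, Subgroup.card_map_of_injective duad_inj, Nat.card_eq_fintype_card]
    decide +kernel
  have hk16 : 16 ≤ Nat.card f.ker := by
    refine ker_sixteen.trans (Nat.card_le_card_of_injective
      (fun p : (Subgroup.closure (Set.range gK) : Subgroup PV) => (⟨⟨p.1,
        (Subgroup.closure_mono (Set.subset_union_right)) p.2⟩, ?_⟩ : f.ker)) fun a b e => ?_)
    · have hle' : Subgroup.closure (Set.range gK) ≤ KerB :=
        (Subgroup.closure_le _).2 (Set.range_subset_iff.2 gK_ker)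
      exact MonoidHom.mem_ker.2 (phiB_ker (hle' p.2) _)
    · exact Subtype.ext (congrArg (fun t : f.ker => ((t.1 : H) : PV)) e)
  have hprod : Nat.card H = 360 * Nat.card f.ker := by
    rw [Subgroup.card_eq_card_quotient_mul_card_subgroup f.ker,
      Nat.card_congr (QuotientGroup.quotientKerEquivRange f).toEquiv, hrc]
  have hupper : Nat.card H ≤ 5760 := hcard ▸ Subgroup.card_le_of_le hle
  have hHK : Kp ⊓ fixv vb = H := (Subgroup.eq_of_le_of_card_ge hle (by rw [hcard]; omega)).symm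
  have hS : Kp ⊓ fixv vb ≤ CmpS Chk.mB 15 := hHK ▸ hHS
  refine ⟨hS, ?_, ?_⟩
  · rw [← hr]
    ext σ
    constructor
    · rintro ⟨⟨p, hp⟩, rfl⟩; exact ⟨⟨p, hHK ▸ hp⟩, rfl⟩
    · rintro ⟨⟨p, hp⟩, rfl⟩; exact ⟨⟨p, hHK.symm ▸ hp⟩, rfl⟩
  · have e : Nat.card (Kp ⊓ fixv vb ⊓ KerB : Subgroup PV) = Nat.card f.ker := by
      refine Nat.card_congr
        { toFun := fun p => ⟨⟨p.1, hHK ▸ p.2.1⟩, MonoidHom.mem_ker.2 (phiB_ker p.2.2 _)⟩
          invFun := fun q => ⟨q.1.1, ⟨hle q.1.2, mem_KerB.2 (MonoidHom.mem_ker.1 q.2 : phiB ⟨q.1.1, _⟩ = 1)⟩⟩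
          left_inv := fun _ => rfl
          right_inv := fun _ => rfl }
    rw [e]
    omega

/-- the transposition and the conjugation do not act evenly -/
theorem bad_outer (s : Fin 3) (hs : s ≠ 0) (k : PV) (hk : k ∈ Kp ⊓ fixv vb) : eo s * k ∉ KerB := by
  obtain ⟨hS, hr, -⟩ := Kb_facts
  intro hker
  obtain ⟨q, hq, hqk⟩ : phiB ⟨k, hS hk⟩ ∈ (alternatingGroup (Fin 6)).map duad := hr ▸ ⟨⟨k, hk⟩, rfl⟩
  have he : eo s ∈ CmpS Chk.mB 15 := mem_CmpS.2 ⟨_, eo_cmp s⟩
  have h1 : phiB (⟨eo s, he⟩ * ⟨k, hS hk⟩) = 1 := mem_KerB.1 hker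
  rw [map_mul, show phiB ⟨eo s, he⟩ = duad (p6 ⟨4 + s.val, by omega⟩) from phiB_eq (eo_cmp s), ← hqk,
    ← map_mul, ← map_one duad] at h1
  have h2 := congrArg Equiv.Perm.sign (duad_inj h1)
  rw [map_mul, Equiv.Perm.mem_alternatingGroup.1 hq, mul_one, map_one] at h2
  fin_cases s
  · exact hs rfl
  · exact absurd (p6_spec.2.2.1.symm.trans h2) (by decide)
  · exact absurd (p6_spec.2.2.2.symm.trans h2) (by decide)

set_option maxHeartbeats 1000000 in
/-- a 2-group normalised by the stabiliser fixes all lines -/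
theorem two_B (R : Subgroup PV) (hRS : R ≤ CmpS Chk.mB 15) (hR : IsPGroup 2 R)
    (hnorm : ∀ k ∈ Kp ⊓ fixv vb, ∀ r ∈ R, k * r * k⁻¹ ∈ R) : R ≤ KerB := by
  obtain ⟨hS, hr, -⟩ := Kb_facts
  have h1 := two_trivial (by norm_num) (phiB.comp (Subgroup.inclusion hS)).range
    (phiB.comp (Subgroup.inclusion hRS)).range (fun i j => by
      obtain ⟨q, hq, e⟩ := duad_trans i j
      exact ⟨duad q, hr.symm ▸ ⟨q, hq, rfl⟩, e⟩) ?_ ?_
  · intro r hr'
    exact mem_KerB.2 (Subgroup.mem_bot.1 (h1 ▸ ⟨⟨r, hr'⟩, rfl⟩ : phiB ⟨r, hRS hr'⟩ ∈ (⊥ : Subgroup _)))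
  · exact hR.of_surjective _ (MonoidHom.rangeRestrict_surjective _)
  · rintro _ ⟨⟨t, ht⟩, rfl⟩ _ ⟨⟨r, hr'⟩, rfl⟩
    refine ⟨⟨t * r * t⁻¹, hnorm t ht r hr'⟩, ?_⟩
    show phiB ⟨t * r * t⁻¹, _⟩ = phiB ⟨t, hS ht⟩ * phiB ⟨r, hRS hr'⟩ * (phiB ⟨t, hS ht⟩)⁻¹
    rw [← map_mul, ← map_inv, ← map_mul]
    rfl

set_option maxHeartbeats 1000000 in
/-- the stabiliser of the longer orbit in the extension -/
theorem stabB : ∃ hG : Gam ⊓ fixv vb ≤ CmpS Chk.mB 15,
    (phiB.comp (Subgroup.inclusion hG)).range = (alternatingGroup (Fin 6)).map duad ∧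
      Nat.card (Gam ⊓ fixv vb ⊓ KerB : Subgroup PV) = 32 := by
  obtain ⟨hS, hr, -⟩ := Kb_facts
  have hτ : eo 0 ∈ CmpS Chk.mB 15 := mem_CmpS.2 ⟨_, eo_cmp 0⟩
  have hτf : eo 0 ∈ fixv vb := fixB.2.2 0
  have hG : Gam ⊓ fixv vb ≤ CmpS Chk.mB 15 := by
    rintro p ⟨hp | hp, hf⟩
    · exact hS ⟨hp, hf⟩
    · have h := mul_mem hτ (hS ⟨hp, mul_mem hτf hf⟩)
      rwa [← mul_assoc, eo_sq, one_mul] at h
  set f := phiB.comp (Subgroup.inclusion hG) with hf
  have hτimg : phiB ⟨eo 0, hτ⟩ ∈ (alternatingGroup (Fin 6)).map duad :=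
    ⟨_, Equiv.Perm.mem_alternatingGroup.2 (p6_spec.2.1 4), (phiB_eq (eo_cmp 0)).symm⟩
  have hrange : f.range = (alternatingGroup (Fin 6)).map duad := by
    refine le_antisymm ?_ ?_
    · rintro _ ⟨⟨p, hp⟩, rfl⟩
      rcases hp.1 with hk | hk
      · exact hr ▸ ⟨⟨p, hk, hp.2⟩, rfl⟩
      · have h1 : phiB ⟨eo 0 * p, hS ⟨hk, mul_mem hτf hp.2⟩⟩ ∈ (alternatingGroup (Fin 6)).map duad :=
          hr ▸ ⟨⟨_, hk, mul_mem hτf hp.2⟩, rfl⟩
        have e : (⟨p, hG hp⟩ : CmpS Chk.mB 15) = ⟨eo 0, hτ⟩ * ⟨eo 0 * p, hS ⟨hk, mul_mem hτf hp.2⟩⟩ := by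
          refine Subtype.ext ?_
          show p = eo 0 * (eo 0 * p)
          rw [← mul_assoc, eo_sq, one_mul]
        show phiB ⟨p, hG hp⟩ ∈ _
        rw [e, map_mul]
        exact mul_mem hτimg h1
    · rw [← hr]
      rintro _ ⟨⟨p, hp⟩, rfl⟩
      exact ⟨⟨p, Kp_le hp.1, hp.2⟩, rfl⟩
  refine ⟨hG, hrange, ?_⟩
  have hc : Nat.card f.range = 360 := by
    rw [hrange, Subgroup.card_map_of_injective duad_inj, Nat.card_eq_fintype_card]
    decide +kernel
  have h := Subgroup.card_eq_card_quotient_mul_card_subgroup f.ker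
  rw [card_Kb.2, Nat.card_congr (QuotientGroup.quotientKerEquivRange f).toEquiv, hc] at h
  have e : Nat.card (Gam ⊓ fixv vb ⊓ KerB : Subgroup PV) = Nat.card f.ker := by
    refine Nat.card_congr
      { toFun := fun p => ⟨⟨p.1, p.2.1⟩, MonoidHom.mem_ker.2 (phiB_ker p.2.2 _)⟩
        invFun := fun q => ⟨q.1.1, ⟨q.1.2, mem_KerB.2 (MonoidHom.mem_ker.1 q.2 : phiB ⟨q.1.1, _⟩ = 1)⟩⟩
        left_inv := fun _ => rfl
        right_inv := fun _ => rfl }
  rw [e]
  omega

end Cfsg.Agent.Spor.LFT
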