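import Cfsg.Agent.Lib.Spor.LFTFrame
import Cfsg.Agent.Lib.Spor.LFTStabB
import Cfsg.Agent.Lib.Lie.HallJankoPairs
import Cfsg.Agent.Lib.Solv.ExtraspecialTwo

/-!
Large Fischer type: the centraliser acts as 3.U4(3).2, the conjugates of the involution in the extraspecial
subgroup fill the longer orbit, and two adjacent extraspecial subgroups meet in order 128.
-/

set_option autoImplicit false
set_option maxRecDepth 100000
set_option linter.unusedSectionVars false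

namespace Cfsg.Agent.Spor.LFT

open Cfsg.Agent.Spor.SUSix (V6)
open Cfsg.Agent.Small.Unitary (herm)
open Cfsg.Agent.Spor.Large (XT Pair)

attribute [local irreducible] KerB phiA phiB CmpS Cmp

universe u

variable {G : Type u} [Group G] [Finite G]

/-- the internal hypotheses -/
structure Setup (z : G) (Q N M : Subgroup G) : Prop where
  hyp : Hyp z Q N M
  large : Cfsg.IsLargeExtraspecial Q
  cen : (Subgroup.center ↥Q).map Q.subtype = Subgroup.zpowers z

theorem setup_of (z : G) (Q : Subgroup (Subgroup.centralizer ({z} : Set G))) [Q.Normal]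
    (hF : Cfsg.IsOfLargeFischerTypeAt z Q) :
    ∃ N M, Setup z (Q.map (Subgroup.centralizer ({z} : Set G)).subtype) N M := by
  obtain ⟨⟨hz, hFit, hEx, hcard, g, ⟨hq, hgQ⟩, hgne⟩, N, M, hNn, hMn, hQN, hNM, hNc, ⟨F, iF, iFF, hF9, ⟨e⟩⟩, hMi⟩ := hF
  have hinj := (Subgroup.centralizer ({z} : Set G)).subtype_injective
  set QG := Q.map (Subgroup.centralizer ({z} : Set G)).subtype with hQG
  have hExG : Cfsg.IsExtraspecial 2 QG :=
    Cfsg.Agent.Lie.HallJankoPairs.extraspecial_congr (Subgroup.equivMapOfInjective _ _ hinj) hEx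
  have hcardG : Nat.card QG = 2 ^ (2 * 6 + 1) := by rw [hQG, Subgroup.card_map_of_injective hinj, hcard]
  obtain ⟨X, hnorm, hcen, hzp, hC2, hN2⟩ := Large.of_gfit z hz QG (Subgroup.map_subtype_le _) (by rw [hFit]) hExG
  have hnormK : ∀ (K : Subgroup (Subgroup.centralizer ({z} : Set G))), K.Normal → ∀ c : G, Commute c z → ∀ q ∈ K.map (Subgroup.centralizer ({z} : Set G)).subtype,
      c * q * c⁻¹ ∈ K.map (Subgroup.centralizer ({z} : Set G)).subtype := by
    rintro K hK c hc _ ⟨q, hq', rfl⟩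
    exact ⟨_, hK.conj_mem q hq' ⟨c, Subgroup.mem_centralizer_singleton_iff.2 hc⟩, rfl⟩
  have hmem : ∀ (K : Subgroup (Subgroup.centralizer ({z} : Set G))) (c : G) (hc : c ∈ (Subgroup.centralizer ({z} : Set G))), c ∈ K.map (Subgroup.centralizer ({z} : Set G)).subtype ↔ ⟨c, hc⟩ ∈ K := fun K c hc =>
    ⟨fun ⟨k, hk, e'⟩ => (show k = ⟨c, hc⟩ from Subtype.ext e') ▸ hk, fun hk => ⟨_, hk, rfl⟩⟩
  have hinner : ∀ c : G, Commute c z → (∀ q ∈ QG, c * q * c⁻¹ = q ∨ c * q * c⁻¹ = q * z) → c ∈ QG := by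
    intro c hc hq'
    let φ : QG ≃* QG :=
      { toFun := fun q => ⟨c * q * c⁻¹, hnorm c hc q q.2⟩
        invFun := fun q => ⟨c⁻¹ * q * c, by simpa using hnorm c⁻¹ hc.inv_left q q.2⟩
        left_inv := fun q => Subtype.ext (show c⁻¹ * (c * q * c⁻¹) * c = (q : G) by group)
        right_inv := fun q => Subtype.ext (show c * (c⁻¹ * q * c) * c⁻¹ = (q : G) by group)
        map_mul' := fun a b => Subtype.ext (show c * (a * b) * c⁻¹ = c * a * c⁻¹ * (c * b * c⁻¹) by group) }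
    have hφ : ∀ q : QG, φ q * q⁻¹ ∈ Subgroup.center QG := by
      intro q
      refine Subgroup.mem_center_iff.2 fun a => Subtype.ext ?_
      show (a : G) * (c * q * c⁻¹ * (q : G)⁻¹) = c * q * c⁻¹ * (q : G)⁻¹ * a
      rcases hq' q q.2 with e' | e' <;> rw [e']
      · simp
      · rw [← (X.cen q q.2).eq, mul_inv_cancel_right]
        exact (X.cen a a.2).eq.symm
    obtain ⟨g', hg'⟩ := inner_of_central hExG φ hφ
    have hcq : ∀ q ∈ QG, Commute ((g' : G)⁻¹ * c) q := by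
      intro q hq''
      have e' := congrArg Subtype.val (hg' ⟨q, hq''⟩)
      change c * q * c⁻¹ = (g' : G) * q * (g' : G)⁻¹ at e'
      refine mul_inv_eq_iff_eq_mul.1 ?_
      calc (g' : G)⁻¹ * c * q * ((g' : G)⁻¹ * c)⁻¹ = (g' : G)⁻¹ * (c * q * c⁻¹) * g' := by group
        _ = q := by rw [e']; group
    have h1 : (g' : G)⁻¹ * c ∈ QG := by
      rcases hcen _ hcq with e' | e' <;> rw [e']
      exacts [one_mem _, X.mem]
    simpa using mul_mem g'.2 h1
  have hgQG : g * z * g⁻¹ ∈ QG := ⟨_, hgQ, rfl⟩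
  have hgn : g ∉ Subgroup.normalizer (((Subgroup.center ↥QG).map QG.subtype : Subgroup G) : Set G) := by
    rw [hzp]
    intro h
    have h1 := (Subgroup.mem_normalizer_iff.1 h z).1 (Subgroup.mem_zpowers z)
    rw [← hzp] at h1
    obtain ⟨w, hw, hw'⟩ := h1
    have hwc : ∀ b ∈ QG, Commute (w : G) b := fun b hb =>
      (congrArg Subtype.val (Subgroup.mem_center_iff.1 hw ⟨b, hb⟩)).symm
    rcases X.eq_of_cen _ w.2 hwc with e' | e'
    · exact X.ne (conj_eq_one_iff.1 (hw'.symm.trans e'))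
    · exact hgne (hw'.symm.trans e')
  have hZg : ((Subgroup.center ↥QG).map QG.subtype).map (MulAut.conj g).toMonoidHom ≤ QG := by
    rw [hzp, MonoidHom.map_zpowers, Subgroup.zpowers_le]
    exact hgQG
  have hlarge := (Large.conjugate_inside QG hExG hC2 hN2 6 (by norm_num) hcardG g hgn hZg _ rfl).2.2
  refine ⟨N.map (Subgroup.centralizer ({z} : Set G)).subtype, M.map (Subgroup.centralizer ({z} : Set G)).subtype, ⟨?_, hlarge, hzp⟩⟩
  refine ⟨fun m hm => Subgroup.mem_centralizer_singleton_iff.1 (Subgroup.map_subtype_le _ hm),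
    Subgroup.map_mono hQN, Subgroup.map_mono hNM, hnorm, hnormK N hNn, hnormK M hMn, X, hinner, ?_, ?_, ?_, ?_, ?_,
    ⟨g, hgQG, hgne⟩⟩
  · rw [hcardG]
  · rw [hQG, Subgroup.card_map_of_injective hinj, Subgroup.card_map_of_injective hinj, hNc]
  · intro a b ha hb haM hbM
    have haC : a ∈ (Subgroup.centralizer ({z} : Set G)) := Subgroup.mem_centralizer_singleton_iff.2 ha
    have hbC : b ∈ (Subgroup.centralizer ({z} : Set G)) := Subgroup.mem_centralizer_singleton_iff.2 hb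
    rw [hmem M a haC] at haM
    rw [hmem M b hbC] at hbM
    refine (hmem M _ (mul_mem (inv_mem haC) hbC)).2 ?_
    exact (Subgroup.mul_mem_iff_of_index_two hMi (a := ⟨a, haC⟩⁻¹) (b := ⟨b, hbC⟩)).2
      (iff_of_false (fun h => haM (inv_mem_iff.1 h)) hbM)
  · by_contra hno
    push Not at hno
    have : M = ⊤ := eq_top_iff.2 fun c _ =>
      (hmem M c c.2).1 (hno c (Subgroup.mem_centralizer_singleton_iff.1 c.2))
    rw [this, Subgroup.index_top] at hMi
    omega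
  · let j : ↥(M.map (Subgroup.centralizer ({z} : Set G)).subtype) ≃* M := (Subgroup.equivMapOfInjective M (Subgroup.centralizer ({z} : Set G)).subtype hinj).symm
    refine ⟨F, iF, iFF, hF9, (e.toMonoidHom.comp (QuotientGroup.mk' _)).comp j.toMonoidHom, ?_, fun m => ?_⟩
    · exact (e.surjective.comp (QuotientGroup.mk'_surjective _)).comp j.surjective
    · show e (QuotientGroup.mk (j m)) = 1 ↔ _
      rw [MulEquiv.map_eq_one_iff, QuotientGroup.eq_one_iff, Subgroup.mem_subgroupOf]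
      have hm : ((j m : (Subgroup.centralizer ({z} : Set G))) : G) = (m : G) :=
        congrArg Subtype.val ((Subgroup.equivMapOfInjective M (Subgroup.centralizer ({z} : Set G)).subtype hinj).apply_symm_apply m)
      rw [hmem N (m : G) (hm ▸ (j m : (Subgroup.centralizer ({z} : Set G))).2)]
      exact iff_of_eq (congrArg (· ∈ N) (Subtype.ext hm))

variable {z : G} {Q N M : Subgroup G}

namespace Frame

variable (f : Frame z Q M) (S : Setup z Q N M)

include S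

theorem vec_one : f.vec 1 = 0 := by
  have h := f.vec_mul 1 (one_mem _) 1 (one_mem _)
  rw [one_mul] at h
  simpa using h

theorem vec_z : f.vec z = 0 :=
  ((f.vec_eq 1 (one_mem _) z S.hyp.xt.mem).2 (Or.inr (one_mul z).symm)).symm.trans (f.vec_one S)

theorem vec_ne {a : G} (ha : a ∈ Q) (h1 : a ≠ 1) (hz : a ≠ z) : f.vec a ≠ 0 := fun e => by
  rcases (f.vec_eq 1 (one_mem _) a ha).1 ((f.vec_one S).trans e.symm) with e' | e'
  · exact h1 e'
  · exact hz (e'.trans (one_mul z))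

theorem isI {a : G} (ha : a ∈ Q) (h2 : a * a = 1) (h1 : a ≠ 1) (hz : a ≠ z) : PI (f.vec a) :=
  (PI_iff _).2 ⟨f.vec_ne S ha h1 hz, (f.sq_iff a ha).1 h2⟩

theorem exists_inv {v : V6} (hv : PI v) : ∃ a ∈ Q, a * a = 1 ∧ a ≠ 1 ∧ a ≠ z ∧ f.vec a = v := by
  obtain ⟨hv0, hvh⟩ := (PI_iff v).1 hv
  obtain ⟨a, ha, rfl⟩ := f.vec_surj v
  exact ⟨a, ha, (f.sq_iff a ha).2 hvh, fun e => hv0 (e ▸ f.vec_one S), fun e => hv0 (e ▸ f.vec_z S), rfl⟩

theorem exact_conj {a b : G} (ha : a ∈ Q) (h1 : a ≠ 1) (hz : a ≠ z) (hb : b ∈ Q)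
    (c : Subgroup.centralizer ({z} : Set G)) (e : f.π c (f.vec a) = f.vec b) :
    ∃ c' : Subgroup.centralizer ({z} : Set G), (c' : G) * a * (c' : G)⁻¹ = b ∧ f.π c' = f.π c := by
  have hcz : Commute (c : G) z := Subgroup.mem_centralizer_singleton_iff.1 c.2
  have ha' := S.hyp.normQ c hcz a ha
  rcases (f.vec_eq _ ha' b hb).1 ((f.vec_conj c a ha).trans e) with e' | e'
  · exact ⟨c, e'.symm, rfl⟩
  · obtain ⟨y, hy, hyn⟩ : ∃ y ∈ Q, ¬ Commute y ((c : G) * a * (c : G)⁻¹) := by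
      by_contra hno
      push Not at hno
      rcases S.hyp.xt.eq_of_cen _ ha' (fun q hq => (hno q hq).symm) with e'' | e''
      · exact h1 (conj_eq_one_iff.1 e'')
      · refine hz (mul_left_cancel (mul_right_cancel (e''.trans ?_)))
        rw [hcz.eq, mul_inv_cancel_right]
    refine ⟨⟨y, Subgroup.mem_centralizer_singleton_iff.2 (S.hyp.qz hy)⟩ * c, ?_, ?_⟩
    · show y * (c : G) * a * (y * (c : G))⁻¹ = b
      rw [show y * (c : G) * a * (y * (c : G))⁻¹ = y * ((c : G) * a * (c : G)⁻¹) * y⁻¹ by group,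
        S.hyp.xt.move hy ha' hyn, e']
    · rw [map_mul, (f.ker ⟨y, Subgroup.mem_centralizer_singleton_iff.2 (S.hyp.qz hy)⟩).2 hy, one_mul]

omit S

theorem pres (c : Subgroup.centralizer ({z} : Set G)) : f.π c ∈ Pres := by
  rcases f.img c with h | h
  · exact Gam_le_Pres (Kp_le h)
  · have h1 := mul_mem (inv_mem (pres_of_code (en_mem f.s) (eo_code f.s))) (Gam_le_Pres (Kp_le h))
    rwa [inv_mul_cancel_left] at h1

end Frame

/-- the part of a conjugate extraspecial subgroup inside the centraliser -/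
def EC (z : G) (Q : Subgroup G) (g : G) : Subgroup (Subgroup.centralizer ({z} : Set G)) :=
  (Q.map (MulAut.conj g).toMonoidHom ⊓ Subgroup.centralizer ({z} : Set G)).subgroupOf _

/-- its image -/
noncomputable def Frame.R (f : Frame z Q M) (g : G) : Subgroup PV := (EC z Q g).map f.π

theorem mem_EC {g : G} {c : Subgroup.centralizer ({z} : Set G)} :
    c ∈ EC z Q g ↔ (c : G) ∈ Q.map (MulAut.conj g).toMonoidHom :=
  ⟨fun h => h.1, fun h => ⟨h, c.2⟩⟩

variable (S : Setup z Q N M)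
include S

theorem Setup.pair {g : G} (hgQ : g * z * g⁻¹ ∈ Q) (hne : g * z * g⁻¹ ≠ z) :
    Pair Q (Q.map (MulAut.conj g).toMonoidHom) z (g * z * g⁻¹) := by
  refine Large.exists_pair Q S.large z S.cen 6 (by norm_num) (by rw [S.hyp.cardQ]) g (fun hg => hne ?_) hgQ
  rw [(Subgroup.mem_centralizer_singleton_iff.1 hg), mul_inv_cancel_right]

theorem Setup.ext2 : Solv.ExtTwo.Ext2 Q (⟨z, S.hyp.xt.mem⟩ : Q) where
  ne e := S.hyp.xt.ne (congrArg Subtype.val e)
  central g := Subtype.ext (S.hyp.xt.cen g g.2).eq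
  center g hg := (S.hyp.xt.eq_of_cen g g.2 fun b hb => congrArg Subtype.val (hg ⟨b, hb⟩).eq).imp
    (fun e => Subtype.ext e) fun e => Subtype.ext e
  sq g := (S.hyp.xt.sq_mem g.2).imp (fun e => Subtype.ext e) fun e => Subtype.ext e
  comm a b := (S.hyp.swap a.2 b.2).imp (fun e => Subtype.ext e) fun e => Subtype.ext e

theorem Setup.card_inter_le {g : G} (hgQ : g * z * g⁻¹ ∈ Q) (hne : g * z * g⁻¹ ≠ z) :
    Nat.card (Q ⊓ Q.map (MulAut.conj g).toMonoidHom : Subgroup G) ≤ 2 ^ 7 := by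
  have P := S.pair hgQ hne
  obtain ⟨hrk, -⟩ := Solv.ExtTwo.main.{u, 0} 6 (by norm_num) Q _ S.ext2 (by rw [S.hyp.cardQ])
  have hA : Cfsg.IsElementaryAbelian 2 ((Q ⊓ Q.map (MulAut.conj g).toMonoidHom).subgroupOf Q) := by
    refine ⟨⟨⟨fun a b => Subtype.ext (Subtype.ext ?_)⟩⟩, fun a ha => Subtype.ext ?_⟩
    · exact (P.inter_comm a.2 b.2).eq
    · show (a : G) ^ 2 = 1
      rw [pow_two]; exact P.inter_square ha
  have e := Nat.card_congr (Subgroup.subgroupOfEquivOfLe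
    (inf_le_left : Q ⊓ Q.map (MulAut.conj g).toMonoidHom ≤ Q)).toEquiv
  rw [← e]
  rcases hrk with h | h <;> have := h.2 _ hA <;> norm_num at this ⊢ <;> omega

theorem Setup.card_EC {g : G} (hgQ : g * z * g⁻¹ ∈ Q) (hne : g * z * g⁻¹ ≠ z) :
    Nat.card (EC z Q g) = 4096 := by
  have P := S.pair hgQ hne
  set Q' := Q.map (MulAut.conj g).toMonoidHom with hQ'
  have hc : Nat.card Q' = 2 ^ 13 := by
    rw [hQ', Subgroup.card_map_of_injective (MulAut.conj g).injective, S.hyp.cardQ]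
  obtain ⟨p, hp, hpn⟩ := P.exists_mover'
  have hi : ((Subgroup.centralizer ({z} : Set G)).subgroupOf Q').index = 2 := by
    rw [Subgroup.index_eq_two_iff]
    refine ⟨⟨p, hp⟩, fun b => ?_⟩
    simp only [Subgroup.mem_subgroupOf, Subgroup.coe_mul, Subgroup.mem_centralizer_singleton_iff]
    by_cases hb : Commute (b : G) z
    · refine Or.inr ⟨hb, fun h => hpn ?_⟩
      have := hb.inv_left.mul_left (show Commute ((b : G) * p) z from h)
      rwa [inv_mul_cancel_left] at this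
    · refine Or.inl ⟨?_, hb⟩
      have := P.coset' (inv_mem b.2) hp (fun h => hb (by simpa using h.inv_left)) hpn
      rw [inv_inv] at this
      exact this
  have h1 := Subgroup.card_mul_index ((Subgroup.centralizer ({z} : Set G)).subgroupOf Q')
  rw [hi, hc] at h1
  have h2 : Nat.card (EC z Q g) = Nat.card ((Subgroup.centralizer ({z} : Set G)).subgroupOf Q') := by
    rw [← Subgroup.inf_subgroupOf_left, Nat.card_congr (Subgroup.subgroupOfEquivOfLe inf_le_left).toEquiv, EC,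
      Nat.card_congr (Subgroup.subgroupOfEquivOfLe inf_le_right).toEquiv]
  omega

variable (f : Frame z Q M)

theorem Setup.card_R {g : G} (hgQ : g * z * g⁻¹ ∈ Q) (hne : g * z * g⁻¹ ≠ z) :
    Nat.card (f.R g) * Nat.card (Q ⊓ Q.map (MulAut.conj g).toMonoidHom : Subgroup G) = 4096 := by
  set φ := f.π.comp (EC z Q g).subtype with hφ
  have h := Subgroup.card_eq_card_quotient_mul_card_subgroup φ.ker
  rw [S.card_EC hgQ hne, Nat.card_congr (QuotientGroup.quotientKerEquivRange φ).toEquiv, MonoidHom.range_comp,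
    Subgroup.range_subtype] at h
  rw [h, Frame.R]
  congr 1
  refine Nat.card_congr
    { toFun := fun a => ⟨⟨⟨(a : G), Subgroup.mem_centralizer_singleton_iff.2 (S.hyp.qz a.2.1)⟩, mem_EC.2 a.2.2⟩,
        MonoidHom.mem_ker.2 ((f.ker _).2 a.2.1)⟩
      invFun := fun k => ⟨((k.1.1 : Subgroup.centralizer ({z} : Set G)) : G),
        ⟨(f.ker _).1 (MonoidHom.mem_ker.1 k.2), mem_EC.1 k.1.2⟩⟩
      left_inv := fun _ => rfl
      right_inv := fun _ => rfl }

theorem Setup.R_large {g : G} (hgQ : g * z * g⁻¹ ∈ Q) (hne : g * z * g⁻¹ ≠ z) : 32 ≤ Nat.card (f.R g) := by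
  have h1 := S.card_R f hgQ hne
  have h2 := S.card_inter_le hgQ hne
  by_contra hlt
  push Not at hlt
  have h3 : Nat.card (f.R g) * Nat.card (Q ⊓ Q.map (MulAut.conj g).toMonoidHom : Subgroup G) ≤ 31 * 128 :=
    Nat.mul_le_mul (by omega) (h2.trans (by norm_num))
  omega

theorem Setup.R_two {g : G} (hgQ : g * z * g⁻¹ ∈ Q) (hne : g * z * g⁻¹ ≠ z) : IsPGroup 2 (f.R g) :=
  (IsPGroup.of_card (n := 12) (by rw [S.card_EC hgQ hne]; norm_num)).map _

theorem Setup.R_fix {g : G} (hgQ : g * z * g⁻¹ ∈ Q) (hne : g * z * g⁻¹ ≠ z) :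
    f.R g ≤ fixv (f.vec (g * z * g⁻¹)) := by
  have P := S.pair hgQ hne
  rintro _ ⟨e, he, rfl⟩
  rw [mem_fixv, ← f.vec_conj e _ hgQ, ← (P.xt'.cen e (mem_EC.1 he)).eq, mul_inv_cancel_right]

theorem Setup.R_normal {g : G} (hgQ : g * z * g⁻¹ ∈ Q) (hne : g * z * g⁻¹ ≠ z)
    (c : Subgroup.centralizer ({z} : Set G)) (hc : f.π c (f.vec (g * z * g⁻¹)) = f.vec (g * z * g⁻¹)) :
    ∀ r ∈ f.R g, f.π c * r * (f.π c)⁻¹ ∈ f.R g := by
  have P := S.pair hgQ hne
  obtain ⟨c', hc', hce⟩ := f.exact_conj S hgQ (fun e => S.hyp.xt.ne (conj_eq_one_iff.1 e)) hne hgQ c hc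
  rintro _ ⟨e, he, rfl⟩
  rw [← hce, ← map_inv, ← map_mul, ← map_mul]
  exact ⟨_, mem_EC.2 (P.norm' c' (mul_inv_eq_iff_eq_mul.1 hc') e (mem_EC.1 he)), rfl⟩

omit S in
theorem R_conj_le (g : G) (c : Subgroup.centralizer ({z} : Set G)) :
    ∀ r ∈ f.R g, f.π c * r * (f.π c)⁻¹ ∈ f.R ((c : G) * g) := by
  rintro _ ⟨e, he, rfl⟩
  rw [← map_inv, ← map_mul, ← map_mul]
  refine ⟨_, mem_EC.2 ?_, rfl⟩
  obtain ⟨q, hq, hqe⟩ := mem_EC.1 he
  refine ⟨q, hq, ?_⟩
  show (c : G) * g * q * ((c : G) * g)⁻¹ = (c : G) * (e : G) * (c : G)⁻¹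
  rw [← hqe]
  show _ = (c : G) * (g * q * g⁻¹) * (c : G)⁻¹
  group

omit S in
theorem R_split (g : G) : Nat.card (f.R g) ≤ 2 * Nat.card (f.R g ⊓ Kp : Subgroup PV) := by
  have hidx : (Kp.subgroupOf (f.R g)).index ≤ 2 := by
    by_cases h : ∀ r : f.R g, (r : PV) ∈ Kp
    · rw [Subgroup.subgroupOf_eq_top.2 fun r hr => h ⟨r, hr⟩, Subgroup.index_top]
      norm_num
    · push Not at h
      obtain ⟨r0, hr0⟩ := h
      refine le_of_eq (Subgroup.index_eq_two_iff.2 ⟨r0⁻¹, fun b => ?_⟩)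
      simp only [Subgroup.mem_subgroupOf, Subgroup.coe_mul, Subgroup.coe_inv]
      have hout : ∀ r : f.R g, (r : PV) ∉ Kp → eo f.s * (r : PV) ∈ Kp := by
        rintro ⟨r, e, he, rfl⟩ hr
        exact (f.img e).resolve_left hr
      by_cases hb : (b : PV) ∈ Kp
      · refine Or.inr ⟨hb, fun h' => hr0 ?_⟩
        have := mul_mem (inv_mem h') hb
        simpa using this
      · refine Or.inl ⟨?_, hb⟩
        have hbi : (b⁻¹ : f.R g).val ∉ Kp := fun h' => hb (inv_mem_iff.1 h')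
        have h1 := mul_mem (inv_mem (hout _ hbi)) (hout _ (fun h' => hr0 (inv_mem_iff.1 h') : (r0⁻¹ : f.R g).val ∉ Kp))
        simpa [mul_assoc] using h1
  rw [← Subgroup.card_mul_index (Kp.subgroupOf (f.R g)), mul_comm 2,
    show Nat.card (Kp.subgroupOf (f.R g)) = Nat.card (f.R g ⊓ Kp : Subgroup PV) by
      rw [← Subgroup.inf_subgroupOf_left, Nat.card_congr (Subgroup.subgroupOfEquivOfLe inf_le_left).toEquiv]]
  exact Nat.mul_le_mul_left _ hidx

theorem Setup.not_va {g : G} (hgQ : g * z * g⁻¹ ∈ Q) (hne : g * z * g⁻¹ ≠ z) :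
    f.vec (g * z * g⁻¹) ≠ va := by
  intro hv
  have h1 := S.R_large f hgQ hne
  have h2 := R_split f g
  have hbot : f.R g ⊓ Kp = ⊥ := by
    refine two_A _ (fun r hr => ⟨hr.2, ?_⟩) ((S.R_two f hgQ hne).to_le inf_le_left) fun k hk r hr => ?_
    · exact hv ▸ S.R_fix f hgQ hne hr.1
    · obtain ⟨c, rfl⟩ := f.surj k hk.1
      exact ⟨S.R_normal f hgQ hne c (by rw [hv]; exact hk.2) r hr.1, Kp.mul_mem (Kp.mul_mem hk.1 hr.2) (Kp.inv_mem hk.1)⟩
  rw [hbot, Subgroup.card_bot] at h2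
  omega

theorem Setup.core {g : G} (hgQ : g * z * g⁻¹ ∈ Q) (hne : g * z * g⁻¹ ≠ z)
    (hv : f.vec (g * z * g⁻¹) = vb) : f.s = 0 ∧ f.R g = Gam ⊓ fixv vb ⊓ KerB := by
  obtain ⟨hS, -, h16⟩ := Kb_facts
  obtain ⟨-, -, h32⟩ := stabB
  have hfix : f.R g ≤ fixv vb := hv ▸ S.R_fix f hgQ hne
  have hsplit : ∀ r ∈ f.R g, r ∉ Kp → eo f.s * r ∈ Kp ⊓ fixv vb := by
    rintro r hr hrK
    refine ⟨?_, (fixv vb).mul_mem (fixB.2.2 f.s) (hfix hr)⟩
    obtain ⟨e, he, rfl⟩ := hr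
    exact (f.img e).resolve_left hrK
  have hRS : f.R g ≤ CmpS Chk.mB 15 := by
    intro r hr
    by_cases hrK : r ∈ Kp
    · exact hS ⟨hrK, hfix hr⟩
    · have he : eo f.s ∈ CmpS Chk.mB 15 := mem_CmpS.2 ⟨_, eo_cmp f.s⟩
      have := mul_mem he (hS (hsplit r hr hrK))
      rwa [← mul_assoc, eo_sq, one_mul] at this
  have hker : f.R g ≤ KerB := two_B _ hRS (S.R_two f hgQ hne) fun k hk r hr => by
    obtain ⟨c, rfl⟩ := f.surj k hk.1
    exact S.R_normal f hgQ hne c (by rw [hv]; exact hk.2) r hr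
  have hlarge := S.R_large f hgQ hne
  obtain ⟨r, hr, hrK⟩ : ∃ r ∈ f.R g, r ∉ Kp := by
    by_contra hno
    push Not at hno
    have := Subgroup.card_le_of_le (show f.R g ≤ Kp ⊓ fixv vb ⊓ KerB from
      fun r hr => ⟨⟨hno r hr, hfix hr⟩, hker hr⟩)
    omega
  have hs : f.s = 0 := by
    by_contra hs
    refine bad_outer f.s hs _ (hsplit r hr hrK) ?_
    rw [← mul_assoc, eo_sq, one_mul]
    exact hker hr
  refine ⟨hs, Subgroup.eq_of_le_of_card_ge (fun r hr => ⟨⟨?_, hfix hr⟩, hker hr⟩) (h32.le.trans hlarge)⟩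
  obtain ⟨e, he, rfl⟩ := hr
  have := f.img e
  rwa [hs] at this

/-- conjugates of the involution lie over the longer orbit -/
theorem Setup.not_PA {g : G} (hgQ : g * z * g⁻¹ ∈ Q) (hne : g * z * g⁻¹ ≠ z) :
    PI (f.vec (g * z * g⁻¹)) ∧ ¬ PA (f.vec (g * z * g⁻¹)) := by
  have P := S.pair hgQ hne
  have hI := f.isI S hgQ P.xt'.sq P.xt'.ne hne
  refine ⟨hI, fun hA => ?_⟩
  obtain ⟨p, hp, hpv⟩ := (trans hI).1 hA
  obtain ⟨c, hc⟩ := f.surj _ (inv_mem hp)
  have hcz : Commute (c : G) z := Subgroup.mem_centralizer_singleton_iff.1 c.2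
  have e : (c : G) * g * z * ((c : G) * g)⁻¹ = (c : G) * (g * z * g⁻¹) * (c : G)⁻¹ := by group
  have hv : f.vec ((c : G) * g * z * ((c : G) * g)⁻¹) = va := by
    rw [e, f.vec_conj c _ hgQ, hc, ← hpv, show p⁻¹ (p va) = va from p.symm_apply_apply va]
  refine S.not_va f (g := (c : G) * g) (by rw [e]; exact S.hyp.normQ c hcz _ hgQ) (fun h => hne ?_) hv
  rw [e] at h
  refine mul_left_cancel (mul_right_cancel (h.trans ?_))
  rw [hcz.eq, mul_inv_cancel_right]

/-- the structure of a pair -/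
theorem Setup.pair_struct {g : G} (hgQ : g * z * g⁻¹ ∈ Q) (hne : g * z * g⁻¹ ≠ z) :
    f.s = 0 ∧ Nat.card (Q ⊓ Q.map (MulAut.conj g).toMonoidHom : Subgroup G) = 2 ^ 7 ∧
      ∃ p ∈ Kp, p vb = f.vec (g * z * g⁻¹) ∧ Nat.card (f.R g) = 32 ∧
        ∀ r, r ∈ f.R g ↔ p⁻¹ * r * p ∈ Gam ⊓ fixv vb ⊓ KerB := by
  obtain ⟨hI, hA⟩ := S.not_PA f hgQ hne
  obtain ⟨p, hp, hpv⟩ := (trans hI).2 hA
  obtain ⟨c, hc⟩ := f.surj _ (inv_mem hp)
  have hcz : Commute (c : G) z := Subgroup.mem_centralizer_singleton_iff.1 c.2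
  have e : (c : G) * g * z * ((c : G) * g)⁻¹ = (c : G) * (g * z * g⁻¹) * (c : G)⁻¹ := by group
  have hv : f.vec ((c : G) * g * z * ((c : G) * g)⁻¹) = vb := by
    rw [e, f.vec_conj c _ hgQ, hc, ← hpv, show p⁻¹ (p vb) = vb from p.symm_apply_apply vb]
  obtain ⟨hs, hR⟩ := S.core f (g := (c : G) * g) (by rw [e]; exact S.hyp.normQ c hcz _ hgQ) (fun h => hne (by
    rw [e] at h
    refine mul_left_cancel (mul_right_cancel (h.trans ?_))
    rw [hcz.eq, mul_inv_cancel_right])) hv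
  have hiff : ∀ r, r ∈ f.R g ↔ p⁻¹ * r * p ∈ Gam ⊓ fixv vb ⊓ KerB := by
    intro r
    rw [← hR]
    constructor
    · intro hr
      have := R_conj_le f g c r hr
      rwa [hc, inv_inv] at this
    · intro hr
      have := R_conj_le f ((c : G) * g) c⁻¹ _ hr
      rw [map_inv, hc, inv_inv, Subgroup.coe_inv, inv_mul_cancel_left] at this
      simpa [mul_assoc] using this
  obtain ⟨-, -, h32⟩ := stabB
  have h32' : Nat.card (f.R g) = 32 := by
    rw [← h32]
    refine Nat.card_congr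
      { toFun := fun r => ⟨p⁻¹ * r.1 * p, (hiff r.1).1 r.2⟩
        invFun := fun q => ⟨p * q.1 * p⁻¹, (hiff _).2 (by simpa [mul_assoc] using q.2)⟩
        left_inv := fun r => Subtype.ext (show p * (p⁻¹ * r.1 * p) * p⁻¹ = r.1 by group)
        right_inv := fun q => Subtype.ext (show p⁻¹ * (p * q.1 * p⁻¹) * p = q.1 by group) }
  refine ⟨hs, ?_, p, hp, hpv, h32', hiff⟩
  have := S.card_R f hgQ hne
  rw [h32'] at this
  omega

theorem Setup.s_zero : f.s = 0 := by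
  obtain ⟨g, hgQ, hne⟩ := S.hyp.nwc
  exact (S.pair_struct f hgQ hne).1

/-- the image of the centraliser -/
theorem Setup.range_pi (p : PV) : p ∈ Gam ↔ ∃ c, f.π c = p := by
  have hs := S.s_zero f
  constructor
  · rintro (hp | hp)
    · exact f.surj p hp
    · obtain ⟨a, ha⟩ := f.outer
      obtain ⟨b, hb⟩ := f.surj _ hp
      exact ⟨a * b, by rw [map_mul, ha, hb, hs, ← mul_assoc, eo_sq, one_mul]⟩
  · rintro ⟨c, rfl⟩
    have := f.img c
    rwa [hs] at this

omit S in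
/-- stabilisers along an orbit -/
theorem stab_conj {p : PV} (hp : p ∈ Gam) (v : V6) :
    (Gam ⊓ fixv v).map (MulAut.conj p).toMonoidHom = Gam ⊓ fixv (p v) := by
  ext r
  constructor
  · rintro ⟨q, ⟨hq, hqv⟩, rfl⟩
    refine ⟨Gam.mul_mem (Gam.mul_mem hp hq) (Gam.inv_mem hp), ?_⟩
    show p (q (p⁻¹ (p v))) = p v
    rw [show p⁻¹ (p v) = v from p.symm_apply_apply v, show q v = v from hqv]
  · rintro ⟨hr, hrv⟩
    refine ⟨p⁻¹ * r * p, ⟨Gam.mul_mem (Gam.mul_mem (Gam.inv_mem hp) hr) hp, ?_⟩, show p * (p⁻¹ * r * p) * p⁻¹ = r by group⟩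
    show p⁻¹ (r (p v)) = v
    rw [show r (p v) = p v from hrv]
    exact p.symm_apply_apply v

end Cfsg.Agent.Spor.LFT
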