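import Cfsg.Agent.Lib.Spor.LFTSylowDefs

/-!
The table of the 256 elements.
-/

set_option autoImplicit false
set_option maxRecDepth 100000

namespace Cfsg.Agent.Spor.LFT.Chk

open Cfsg.Agent.Spor.CC

theorem gen_ok : genOK = true := by decide +kernel

theorem step_ok : stepOK = true := by decide +kernel

theorem reach_ok : reachOK = true := by decide +kernel

theorem inc_ok : incOK = true := by decide +kernel

theorem square_ok : squareOK = true := by decide +kernel

end Cfsg.Agent.Spor.LFT.Chk
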