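import Cfsg.Agent.Lib.Spor.LFTSylowDefs

/-!
Products of commuting involutions.
-/

set_option autoImplicit false
set_option maxRecDepth 100000

namespace Cfsg.Agent.Spor.LFT.Chk

open Cfsg.Agent.Spor.CC

theorem prod_ok : rangeOK prodOK 0 71 = true := by decide +kernel

end Cfsg.Agent.Spor.LFT.Chk
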