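import Cfsg.Agent.Lib.Spor.LFTSylowDefs

/-!
The search over the subgroups of order 16.
-/

set_option autoImplicit false
set_option maxRecDepth 100000

namespace Cfsg.Agent.Spor.LFT.Chk

open Cfsg.Agent.Spor.CC

theorem search_ok : rangeOK searchOK 0 71 = true := by decide +kernel

end Cfsg.Agent.Spor.LFT.Chk
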