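import Cfsg.Agent.Lib.Spor.LFTStabB
import Cfsg.Agent.Lib.Spor.LFTSylowChecksA
import Cfsg.Agent.Lib.Spor.LFTSylowChecksB
import Cfsg.Agent.Lib.Spor.LFTSylowChecksC
import Cfsg.Agent.Lib.Spor.LFTSylowChecksD

/-!
A Sylow 2-subgroup of 3.U4(3).2 on vectors: apart from one, its elementary abelian subgroups of order 16 fix
at most eight vectors.
-/

set_option autoImplicit false
set_option maxRecDepth 100000

namespace Cfsg.Agent.Spor.LFT

open Cfsg.Agent.Spor.SUSix (V6 code code_lt vecOf_code)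
open Cfsg.Agent.Spor.CC
open Cfsg.Agent.Spor.U43 (gk)

attribute [local irreducible] KerB phiA phiB CmpS Cmp

namespace Syl

/-- additive permutations -/
def Lin (p : PV) : Prop := ∀ u v, p (u + v) = p u + p v

theorem lin_Gam {p : PV} (hp : p ∈ Gam) : Lin p := by
  have hK : ∀ q ∈ Kp, Lin q := by
    rintro _ ⟨A, -, rfl⟩
    exact fun u v => Small.Unitary.act_add _ u v
  rcases hp with hp | hp
  · exact hK p hp
  · intro u v
    have h := hK _ hp u v
    rw [Equiv.Perm.mul_apply, Equiv.Perm.mul_apply, Equiv.Perm.mul_apply, ← eo_add] at h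
    exact (eo 0).injective h

/-- images of the units -/
def sigL (p : PV) : List ℕ := (List.range 12).map fun i => code (p (SUSix.vecOf (2 ^ i)))

theorem code_apply {p : PV} (hp : Lin p) (v : V6) : code (p v) = Chk.app (sigL p) (code v) :=
  code_map hp (fun i hi => by rw [sigL, outer_gen.unit_map i hi]) v

theorem sig_mul {p q : PV} (hp : Lin p) : sigL (p * q) = Chk.cmpL (sigL p) (sigL q) := by
  show _ = List.map _ (List.map _ _)
  rw [List.map_map]
  exact List.map_congr_left fun i _ => code_apply hp _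

theorem sig_inj {p q : PV} (hp : Lin p) (hq : Lin q) (h : sigL p = sigL q) : p = q :=
  Equiv.ext fun v => code_inj (by rw [code_apply hp, code_apply hq, h])

theorem sig_one : sigL 1 = Chk.unitL :=
  List.map_congr_left fun i hi => code_vecOf _ (Nat.pow_lt_pow_right (by norm_num) (List.mem_range.1 hi))

theorem sig_of_code {p : PV} {L : List ℕ} (h : ∀ v, code (p v) = Chk.app L (code v))
    (hL : (List.range 12).map (fun i => Chk.app L (2 ^ i)) = L) : sigL p = L := by
  conv_rhs => rw [← hL]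
  exact List.map_congr_left fun i hi => by
    rw [h, code_vecOf _ (Nat.pow_lt_pow_right (by norm_num) (List.mem_range.1 hi))]

theorem eq_of_eqL : ∀ {A B : List ℕ}, Chk.eqL A B = true → A = B
  | [], [], _ => rfl
  | a :: A, b :: B, h => by
    simp only [Chk.eqL, Bool.and_eq_true] at h
    rw [Nat.eq_of_beq_eq_true h.1, eq_of_eqL h.2]
  | [], _ :: _, h => by simp [Chk.eqL] at h
  | _ :: _, [], h => by simp [Chk.eqL] at h

theorem eqL_of_eq : ∀ {A B : List ℕ}, A = B → Chk.eqL A B = true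
  | [], _, h => by subst h; rfl
  | a :: A, _, h => by
    subst h
    simp only [Chk.eqL, Bool.and_eq_true]
    exact ⟨Nat.beq_refl a, eqL_of_eq rfl⟩

/-- letters -/
def g7P (s : ℕ) : PV := if s < 6 then act (gk (Fin.ofNat 6 s)) else eo 0

/-- value of a word -/
def wordP (w : List ℕ) : PV := (w.map g7P).prod

theorem g7P_spec (s : ℕ) (hs : s < 7) : g7P s ∈ Gam ∧ sigL (g7P s) = Chk.g7 s := by
  by_cases h : s < 6
  · rw [g7P, if_pos h]
    refine ⟨Kp_le ⟨_, U43.gk_mem _, rfl⟩, ?_⟩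
    have hv : (Fin.ofNat 6 s).val = s := Nat.mod_eq_of_lt h
    refine sig_of_code (fun v => (gk_code _ v).trans ?_) ?_
    · rw [hv, Chk.g7, show Nat.blt s 6 = true from Nat.ble_eq_true_of_le h, cond_true]
    · rw [Chk.g7, show Nat.blt s 6 = true from Nat.ble_eq_true_of_le h, cond_true]
      clear hv
      interval_cases s <;> decide +kernel
  · obtain rfl : s = 6 := by omega
    rw [g7P, if_neg h]
    exact ⟨outer_mem, sig_of_code (eo_code 0) (by decide +kernel)⟩

theorem wordP_spec : ∀ w : List ℕ, (∀ s ∈ w, s < 7) → wordP w ∈ Gam ∧ sigL (wordP w) = Chk.wordL w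
  | [], _ => ⟨one_mem _, sig_one⟩
  | s :: w, h => by
    obtain ⟨h1, h2⟩ := g7P_spec s (h s (by simp))
    obtain ⟨h3, h4⟩ := wordP_spec w fun x hx => h x (by simp [hx])
    refine ⟨mul_mem h1 h3, ?_⟩
    show sigL (g7P s * wordP w) = _
    rw [sig_mul (lin_Gam h1), h2, h4]
    rfl

theorem wordP_Kp (w : List ℕ) (h : ∀ s ∈ w, s < 6) : wordP w ∈ Kp := list_prod_mem fun x hx => by
  obtain ⟨s, hs, rfl⟩ := List.mem_map.1 hx
  rw [g7P, if_pos (h s hs)]
  exact ⟨_, U43.gk_mem _, rfl⟩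

/-- generators -/
def gT (s : Fin 4) : PV := wordP (Dat.sylW.getD s.val [])

theorem gT_spec (s : Fin 4) : gT s ∈ Gam ∧ sigL (gT s) = Dat.sylC.getD s.val [] := by
  have h := Chk.gen_ok
  simp only [Chk.genOK, List.all_eq_true, List.mem_range, Bool.and_eq_true] at h
  obtain ⟨h1, h2⟩ := h s.val s.2
  obtain ⟨h3, h4⟩ := wordP_spec (Dat.sylW.getD s.val []) fun x hx => Nat.le_of_ble_eq_true (h2 x hx)
  exact ⟨h3, h4.trans (eq_of_eqL h1)⟩

/-- the Sylow subgroup -/
def TS : Subgroup PV := Subgroup.closure (Set.range gT)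

theorem TS_le : TS ≤ Gam := (Subgroup.closure_le _).2 (Set.range_subset_iff.2 fun s => (gT_spec s).1)

theorem table {p : PV} (hp : p ∈ TS) : ∃ a < 256, sigL p = Chk.elT a := by
  have hp' : p ∈ Submonoid.closure (Set.range gT) := by
    rw [← Subgroup.closure_toSubmonoid_of_finite]; exact hp
  induction hp' using Submonoid.closure_induction_left with
  | one =>
    refine ⟨Dat.sylOne, by decide +kernel, ?_⟩
    have h := Chk.reach_ok
    simp only [Chk.reachOK, List.all_eq_true, List.mem_range] at h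
    have h1 := h Dat.sylOne (by decide +kernel)
    rw [show Nat.beq Dat.sylOne Dat.sylOne = true from Nat.beq_refl _, cond_true] at h1
    rw [sig_one, eq_of_eqL h1]
  | mul_left g hg y hy ih =>
    obtain ⟨s, rfl⟩ := hg
    have hyT : y ∈ TS := by
      rw [TS, ← Subgroup.mem_toSubmonoid, Subgroup.closure_toSubmonoid_of_finite]
      exact hy
    obtain ⟨a, ha, he⟩ := ih hyT
    have h := Chk.step_ok
    simp only [Chk.stepOK, List.all_eq_true, List.mem_range, Bool.and_eq_true] at h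
    obtain ⟨h1, h2⟩ := h s.val s.2 a ha
    refine ⟨Chk.sucT s.val a, Nat.le_of_ble_eq_true h1, ?_⟩
    rw [sig_mul (lin_Gam (gT_spec s).1), (gT_spec s).2, he]
    exact eq_of_eqL h2

theorem realised : ∀ a < 256, ∃ p ∈ TS, sigL p = Chk.elT a := by
  have key : ∀ n a, a < 256 → (Dat.sylP.getD a []).getD 2 0 = n → ∃ p ∈ TS, sigL p = Chk.elT a := by
    intro n
    induction n using Nat.strong_induction_on with
    | _ n ih =>
      intro a ha hn
      have h := Chk.reach_ok
      simp only [Chk.reachOK, List.all_eq_true, List.mem_range] at h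
      have h1 := h a ha
      cases he : Nat.beq a Dat.sylOne
      · rw [he, cond_false] at h1
        simp only [Bool.and_eq_true] at h1
        obtain ⟨⟨⟨hk, hp⟩, hs⟩, hd⟩ := h1
        obtain ⟨p, hp', hpe⟩ := ih _ (hn ▸ Nat.le_of_ble_eq_true hd) _ (Nat.le_of_ble_eq_true hp) rfl
        refine ⟨gT ⟨_, Nat.le_of_ble_eq_true hk⟩ * p, mul_mem (Subgroup.subset_closure ⟨_, rfl⟩) hp', ?_⟩
        rw [sig_mul (lin_Gam (gT_spec _).1), (gT_spec _).2, hpe]
        have h' := Chk.step_ok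
        simp only [Chk.stepOK, List.all_eq_true, List.mem_range, Bool.and_eq_true] at h'
        rw [eq_of_eqL (h' _ (Nat.le_of_ble_eq_true hk) _ (Nat.le_of_ble_eq_true hp)).2, Nat.eq_of_beq_eq_true hs]
      · rw [he, cond_true] at h1
        exact ⟨1, one_mem _, by rw [sig_one, eq_of_eqL h1]⟩
  exact fun a ha => key _ a ha rfl

theorem elT_inj {a b : ℕ} (ha : a < 256) (hb : b < 256) (h : Chk.elT a = Chk.elT b) : a = b := by
  have h' := Chk.inc_ok
  simp only [Chk.incOK, List.all_eq_true, List.mem_range] at h'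
  have mono : StrictMono fun i : Fin 256 => Chk.packL (Chk.elT i.val) :=
    Fin.strictMono_iff_lt_succ.2 fun i => Nat.le_of_ble_eq_true (h' i.val i.2)
  exact congrArg Fin.val (mono.injective (a₁ := ⟨a, ha⟩) (a₂ := ⟨b, hb⟩) (congrArg Chk.packL h))

theorem card_TS : Nat.card TS = 256 := by
  choose e he hs using realised
  have hb : Function.Bijective fun a : Fin 256 => (⟨e a.val a.2, he a.val a.2⟩ : TS) := by
    refine ⟨fun a b h => ?_, fun p => ?_⟩
    · refine Fin.ext (elT_inj a.2 b.2 ?_)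
      rw [← hs a.val a.2, ← hs b.val b.2, show e a.val a.2 = e b.val b.2 from congrArg Subtype.val h]
    · obtain ⟨a, ha, hp⟩ := table p.2
      exact ⟨⟨a, ha⟩, Subtype.ext (sig_inj (lin_Gam (TS_le (he a ha))) (lin_Gam (TS_le p.2))
        ((hs a ha).trans hp.symm))⟩
  rw [← Nat.card_congr (Equiv.ofBijective _ hb), Nat.card_eq_fintype_card, Fintype.card_fin]

theorem inT_inj {i j : ℕ} (hi : i < 71) (hj : j < 71) (h : Chk.inT i = Chk.inT j) : i = j := by
  have key : ∀ i : Fin 71, ∀ j : Fin 71, Dat.sylI.getD i.val 0 = Dat.sylI.getD j.val 0 → i = j := by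
    decide +kernel
  have klt : ∀ i : Fin 71, Dat.sylI.getD i.val 0 < 256 := by decide +kernel
  exact congrArg Fin.val (key ⟨i, hi⟩ ⟨j, hj⟩ (elT_inj (klt ⟨i, hi⟩) (klt ⟨j, hj⟩) h))

theorem inv_index {p : PV} (hp : p ∈ TS) (h2 : p * p = 1) (h1 : p ≠ 1) : ∃ i < 71, sigL p = Chk.inT i := by
  obtain ⟨a, ha, he⟩ := table hp
  have h := Chk.square_ok
  simp only [Chk.squareOK, List.all_eq_true, List.mem_range, Bool.or_eq_true, List.any_eq_true,
    Bool.not_eq_true'] at h
  have hl := lin_Gam (TS_le hp)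
  rcases h a ha with (h' | h') | ⟨i, hi, h'⟩
  · rw [eqL_of_eq (by rw [← he, ← sig_mul hl, h2, sig_one])] at h'
    exact absurd h' (by simp)
  · exact absurd (sig_inj hl (lin_Gam (one_mem _)) (by rw [he, eq_of_eqL h', sig_one])) h1
  · refine ⟨i, hi, he.trans ?_⟩
    have e := Nat.eq_of_beq_eq_true h'
    rw [List.getD_eq_getElem _ _ (lt_of_lt_of_eq hi (by decide +kernel : 71 = Dat.sylI.length))] at e
    rw [Chk.inT, List.getD_eq_getElem _ _ (lt_of_lt_of_eq hi (by decide +kernel : 71 = Dat.sylI.length)), e]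

/-- index of an involution -/
noncomputable def ind (p : PV) : ℕ :=
  haveI := Classical.propDecidable (∃ i < 71, sigL p = Chk.inT i)
  if h : ∃ i < 71, sigL p = Chk.inT i then h.choose else 0

theorem ind_spec {p : PV} (hp : p ∈ TS) (h2 : p * p = 1) (h1 : p ≠ 1) :
    ind p < 71 ∧ sigL p = Chk.inT (ind p) := by
  have h := inv_index hp h2 h1
  rw [ind, dif_pos h]
  exact h.choose_spec

theorem ind_mul {p q : PV} (hp : p ∈ TS) (hq : q ∈ TS) (p2 : p * p = 1) (q2 : q * q = 1) (hc : Commute p q)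
    (p1 : p ≠ 1) (q1 : q ≠ 1) (hpq : p * q ≠ 1) : Chk.tabT (ind p) (ind q) = ind (p * q) := by
  obtain ⟨hi, hpi⟩ := ind_spec hp p2 p1
  obtain ⟨hj, hqj⟩ := ind_spec hq q2 q1
  obtain ⟨hk, hpk⟩ := ind_spec (mul_mem hp hq) (by rw [hc.symm.mul_mul_mul_comm, p2, q2, one_mul]) hpq
  have h := all_range (p := Chk.prodOK) Chk.prod_ok (Nat.zero_le (ind p)) (by omega)
  simp only [Chk.prodOK, List.all_eq_true, List.mem_range, Bool.or_eq_true, Bool.and_eq_true,
    Bool.not_eq_true'] at h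
  have hl := lin_Gam (TS_le hp)
  have h' := h (ind q) hj
  rw [← hpi, ← hqj, ← sig_mul hl, ← sig_mul (lin_Gam (TS_le hq)), hc.eq.symm] at h'
  rcases h' with (h' | h') | ⟨ht, h'⟩
  · rw [eqL_of_eq rfl] at h'
    exact absurd h' (by simp)
  · exact absurd (sig_inj (lin_Gam (TS_le (mul_mem hp hq))) (lin_Gam (one_mem _))
      (by rw [eq_of_eqL h', sig_one])) hpq
  · exact inT_inj (Nat.le_of_ble_eq_true ht) hk ((eq_of_eqL h').trans hpk)

/-- elementary abelian subgroups of the Sylow subgroup -/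
structure Ele (E : Subgroup PV) : Prop where
  le : E ≤ TS
  comm : ∀ p ∈ E, ∀ q ∈ E, Commute p q
  sq : ∀ p ∈ E, p * p = 1

variable {E : Subgroup PV} (hE : Ele E)
include hE

theorem Ele.mono {H : Subgroup PV} (hH : H ≤ E) : Ele H :=
  ⟨hH.trans hE.le, fun p hp q hq => hE.comm p (hH hp) q (hH hq), fun p hp => hE.sq p (hH hp)⟩

theorem Ele.card_le : Nat.card E ≤ 72 := by
  classical
  let e : E → Option (Fin 71) := fun p =>
    if h : (p : PV) = 1 then none else some ⟨ind p, (ind_spec (hE.le p.2) (hE.sq p p.2) h).1⟩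
  refine le_of_le_of_eq (Nat.card_le_card_of_injective e fun p q h => Subtype.ext ?_) (by simp)
  by_cases hp : (p : PV) = 1 <;> by_cases hq : (q : PV) = 1
  · rw [hp, hq]
  · simp only [e, dif_pos hp, dif_neg hq] at h; simp at h
  · simp only [e, dif_pos hq, dif_neg hp] at h; simp at h
  · simp only [e, hp, hq, dite_false, Option.some.injEq, Fin.mk.injEq] at h
    exact sig_inj (lin_Gam (TS_le (hE.le p.2))) (lin_Gam (TS_le (hE.le q.2)))
      (by rw [(ind_spec (hE.le p.2) (hE.sq p p.2) hp).2, (ind_spec (hE.le q.2) (hE.sq q q.2) hq).2, h])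

/-- one step up -/
theorem Ele.double {H : Subgroup PV} (hH : H ≤ E) {b : PV} (hb : b ∈ E) (hbH : b ∉ H) :
    ∃ H' ≤ E, H ≤ H' ∧ b ∈ H' ∧ Nat.card H' = 2 * Nat.card H ∧ ∀ p ∈ H', p ∈ H ∨ p * b ∈ H := by
  have bb := hE.sq b hb
  let H' : Subgroup PV :=
    { carrier := {p | p ∈ E ∧ (p ∈ H ∨ p * b ∈ H)}
      one_mem' := ⟨one_mem _, Or.inl (one_mem _)⟩
      inv_mem' := fun {p} ⟨hp, h⟩ => ⟨inv_mem hp, by
        rw [inv_eq_of_mul_eq_one_right (hE.sq p hp)]; exact h⟩
      mul_mem' := fun {p q} ⟨hp, h⟩ ⟨hq, h'⟩ => ⟨mul_mem hp hq, by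
        rcases h with h | h <;> rcases h' with h' | h'
        · exact Or.inl (mul_mem h h')
        · exact Or.inr (by rw [mul_assoc]; exact mul_mem h h')
        · refine Or.inr ?_
          rw [mul_assoc, (hE.comm q hq b hb).eq, ← mul_assoc]
          exact mul_mem h h'
        · refine Or.inl ?_
          have := mul_mem h h'
          rwa [mul_assoc p b, (hE.comm b hb (q * b) (mul_mem hq hb)).eq, mul_assoc q b b, bb, mul_one] at this⟩ }
  refine ⟨H', fun p hp => hp.1, fun p hp => ⟨hH hp, Or.inl hp⟩, ⟨hb, Or.inr (by rw [bb]; exact one_mem _)⟩, ?_,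
    fun p hp => hp.2⟩
  let e : Fin 2 × H → H' := fun i => ⟨b ^ i.1.val * i.2, mul_mem (pow_mem hb _) (hH i.2.2), by
    obtain ⟨i, h⟩ := i
    fin_cases i
    · simp [h.2]
    · right
      show b ^ 1 * (h : PV) * b ∈ H
      rw [pow_one, (hE.comm b hb h (hH h.2)).eq, mul_assoc, bb, mul_one]
      exact h.2⟩
  have hb' : Function.Bijective e := by
    refine ⟨fun i j h => ?_, fun p => ?_⟩
    · have h' : b ^ i.1.val * (i.2 : PV) = b ^ j.1.val * (j.2 : PV) := congrArg Subtype.val h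
      obtain ⟨i, u⟩ := i
      obtain ⟨j, v⟩ := j
      fin_cases i <;> fin_cases j <;> simp at h'
      · exact Prod.ext rfl h'
      · exact absurd (eq_mul_inv_of_mul_eq h'.symm ▸ mul_mem u.2 (inv_mem v.2)) hbH
      · exact absurd (eq_mul_inv_of_mul_eq h' ▸ mul_mem v.2 (inv_mem u.2)) hbH
      · exact Prod.ext rfl h'
    · rcases p.2.2 with h | h
      · exact ⟨(0, ⟨p, h⟩), Subtype.ext (by simp [e])⟩
      · refine ⟨(1, ⟨_, h⟩), Subtype.ext ?_⟩
        show b ^ 1 * ((p : PV) * b) = p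
        rw [pow_one, (hE.comm _ p.2.1 b hb).eq, ← mul_assoc, bb, one_mul]
  rw [← Nat.card_congr (Equiv.ofBijective e hb'), Nat.card_prod]
  simp

/-- the least element outside a subgroup -/
theorem Ele.step {H : Subgroup PV} (hH : H ≤ E) (hlt : Nat.card H < Nat.card E) :
    ∃ H' ≤ E, H ≤ H' ∧ Nat.card H' = 2 * Nat.card H ∧ ∃ b ∈ H', b ∉ H ∧
      (∀ u ∈ E, u ∉ H → ind b ≤ ind u) ∧ ∀ p ∈ H', p ∈ H ∨ p * b ∈ H := by
  have hne : {u : PV | u ∈ E ∧ u ∉ H}.Nonempty := by
    by_contra hno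
    rw [Set.not_nonempty_iff_eq_empty] at hno
    exact (lt_irrefl _) (hlt.trans_le (Subgroup.card_le_of_le fun u hu => by
      by_contra hn
      exact (hno ▸ ⟨hu, hn⟩ : u ∈ (∅ : Set PV)).elim))
  obtain ⟨b, ⟨hbE, hbH⟩, hmin⟩ := Set.exists_min_image _ ind (Set.toFinite _) hne
  obtain ⟨H', h1, h2, h3, h4, h5⟩ := hE.double hH hbE hbH
  exact ⟨H', h1, h2, h4, b, h3, hbH, fun u hu hn => hmin u ⟨hu, hn⟩, h5⟩

omit hE

/-- the chosen subgroup -/
def ESset : Set PV := {p | p ∈ TS ∧ (p = 1 ∨ ∃ i ∈ Dat.maxI, sigL p = Chk.inT i)}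

theorem sub_facts : ∀ a ∈ Dat.maxI, a < 71 ∧ ∀ b ∈ Dat.maxI,
    Chk.cmpL (Chk.inT a) (Chk.inT b) = Chk.cmpL (Chk.inT b) (Chk.inT a) ∧
      (Chk.cmpL (Chk.inT a) (Chk.inT b) = Chk.unitL ∨ Chk.tabT a b ∈ Dat.maxI) := by
  have h := Chk.sub_ok
  simp only [Chk.subOK, List.all_eq_true, Bool.and_eq_true, Bool.or_eq_true, List.contains_iff] at h
  exact fun a ha => ⟨Nat.le_of_ble_eq_true (h a ha).1, fun b hb =>
    ⟨eq_of_eqL ((h a ha).2 b hb).1, ((h a ha).2 b hb).2.imp eq_of_eqL id⟩⟩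

theorem ES_comm {p q : PV} (hp : p ∈ ESset) (hq : q ∈ ESset) : Commute p q := by
  rcases hp.2 with rfl | ⟨i, hi, e⟩
  · exact Commute.one_left q
  rcases hq.2 with rfl | ⟨j, hj, e'⟩
  · exact Commute.one_right p
  refine sig_inj (lin_Gam (TS_le (mul_mem hp.1 hq.1))) (lin_Gam (TS_le (mul_mem hq.1 hp.1))) ?_
  rw [sig_mul (lin_Gam (TS_le hp.1)), sig_mul (lin_Gam (TS_le hq.1)), e, e']
  exact ((sub_facts i hi).2 j hj).1

theorem ES_sq {p : PV} (hp : p ∈ ESset) : p * p = 1 := by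
  rcases hp.2 with rfl | ⟨i, hi, e⟩
  · exact one_mul 1
  refine sig_inj (lin_Gam (TS_le (mul_mem hp.1 hp.1))) (lin_Gam (one_mem _)) ?_
  rw [sig_mul (lin_Gam (TS_le hp.1)), e, sig_one]
  have key : ∀ i ∈ Dat.maxI, Chk.eqL (Chk.cmpL (Chk.inT i) (Chk.inT i)) Chk.unitL = true := by decide +kernel
  exact eq_of_eqL (key i hi)

/-- the chosen subgroup -/
def ES : Subgroup PV where
  carrier := ESset
  one_mem' := ⟨one_mem _, Or.inl rfl⟩
  inv_mem' {p} hp := by rwa [inv_eq_of_mul_eq_one_right (ES_sq hp)]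
  mul_mem' {p q} hp hq := by
    refine ⟨mul_mem hp.1 hq.1, ?_⟩
    rcases hp.2 with rfl | ⟨i, hi, e⟩
    · rw [one_mul]; exact hq.2
    rcases hq.2 with rfl | ⟨j, hj, e'⟩
    · rw [mul_one]; exact Or.inr ⟨i, hi, e⟩
    have hpq := sig_mul (q := q) (lin_Gam (TS_le hp.1))
    rw [e, e'] at hpq
    rcases ((sub_facts i hi).2 j hj).2 with h | h
    · left
      exact sig_inj (lin_Gam (TS_le (mul_mem hp.1 hq.1))) (lin_Gam (one_mem _)) (by rw [hpq, h, sig_one])
    · refine Or.inr ⟨_, h, ?_⟩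
      by_cases hu : Chk.cmpL (Chk.inT i) (Chk.inT j) = Chk.unitL
      · exfalso
        have h' := all_range (p := Chk.prodOK) Chk.prod_ok (Nat.zero_le i) (by have := (sub_facts i hi).1; omega)
        have key : ∀ i ∈ Dat.maxI, ∀ j ∈ Dat.maxI, Chk.eqL (Chk.cmpL (Chk.inT i) (Chk.inT j)) Chk.unitL = true →
            Dat.maxI.contains (Chk.tabT i j) = false := by decide +kernel
        have := key i hi j hj (eqL_of_eq hu)
        rw [List.contains_iff.2 h] at this
        simp at this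
      · have h' := all_range (p := Chk.prodOK) Chk.prod_ok (Nat.zero_le i) (by have := (sub_facts i hi).1; omega)
        simp only [Chk.prodOK, List.all_eq_true, List.mem_range, Bool.or_eq_true, Bool.and_eq_true,
          Bool.not_eq_true'] at h'
        rcases h' j (sub_facts j hj).1 with (h'' | h'') | ⟨-, h''⟩
        · rw [eqL_of_eq ((sub_facts i hi).2 j hj).1] at h''
          simp at h''
        · exact absurd (eq_of_eqL h'') hu
        · rw [hpq, eq_of_eqL h'']

theorem ES_ele : Ele ES := ⟨fun _ h => h.1, fun _ hp _ hq => ES_comm hp hq, fun _ hp => ES_sq hp⟩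

theorem ES_real (i : ℕ) (hi : i ∈ Dat.maxI) : ∃ p ∈ ES, sigL p = Chk.inT i := by
  have klt : ∀ i ∈ Dat.maxI, Dat.sylI.getD i 0 < 256 := by decide +kernel
  obtain ⟨p, hp, e⟩ := realised _ (klt i hi)
  exact ⟨p, ⟨hp, Or.inr ⟨i, hi, e⟩⟩, e⟩

theorem card_ES : Nat.card ES = 16 := by
  have klen : Dat.maxI.length = 15 := by decide +kernel
  have knd : Dat.maxI.Nodup := by decide +kernel
  have kone : ∀ i ∈ Dat.maxI, Chk.eqL (Chk.inT i) Chk.unitL = false := by decide +kernel
  choose e he hs using ES_real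
  let F : Option (Fin 15) → ES := fun o => match o with
    | none => 1
    | some j => ⟨e (Dat.maxI[j.val]'(j.2.trans_eq klen.symm)) (List.getElem_mem _), he _ (List.getElem_mem _)⟩
  have hne : ∀ j : Fin 15, F (some j) ≠ 1 := fun j h => by
    have := kone _ (List.getElem_mem (j.2.trans_eq klen.symm : j.val < Dat.maxI.length))
    rw [← hs _ (List.getElem_mem _), show e _ _ = (1 : PV) from congrArg Subtype.val h, sig_one, eqL_of_eq rfl] at this
    simp at this
  have hF : Function.Bijective F := by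
    refine ⟨fun a b h => ?_, fun p => ?_⟩
    · rcases a with _ | a <;> rcases b with _ | b
      · rfl
      · exact absurd h.symm (hne b)
      · exact absurd h (hne a)
      · have h' : e (Dat.maxI[a.val]'(a.2.trans_eq klen.symm)) (List.getElem_mem _) =
            e (Dat.maxI[b.val]'(b.2.trans_eq klen.symm)) (List.getElem_mem _) := congrArg Subtype.val h
        have h'' := congrArg sigL h'
        rw [hs, hs] at h''
        have := inT_inj (sub_facts _ (List.getElem_mem _)).1 (sub_facts _ (List.getElem_mem _)).1 h''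
        exact congrArg some (Fin.ext (knd.getElem_inj_iff.1 this))
    · rcases p.2.2 with h | ⟨i, hi, h⟩
      · exact ⟨none, Subtype.ext h.symm⟩
      · obtain ⟨j, hj, hji⟩ := List.getElem_of_mem hi
        refine ⟨some ⟨j, klen ▸ hj⟩, Subtype.ext ?_⟩
        refine sig_inj (lin_Gam (TS_le (he _ (List.getElem_mem _)).1)) (lin_Gam (TS_le p.2.1)) ?_
        rw [hs, h, hji]
  rw [← Nat.card_congr (Equiv.ofBijective F hF)]
  simp

theorem mem_ES_of_ind {p : PV} (hp : p ∈ TS) (h2 : p * p = 1) (h1 : p ≠ 1) (h : ind p ∈ Dat.maxI) : p ∈ ES :=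
  ⟨hp, Or.inr ⟨_, h, (ind_spec hp h2 h1).2⟩⟩

/-- vectors fixed by a subgroup -/
def fixS (E : Subgroup PV) : Set V6 := {v | ∀ p ∈ E, p v = v}

/-- the census -/
theorem census (hE : Ele E) (h16 : Nat.card E = 16) (hne : E ≠ ES) : (fixS E).ncard ≤ 8 := by
  have hcard : ∀ n, n < 16 → n < Nat.card E := fun n hn => h16 ▸ hn
  obtain ⟨H1, e1, -, c1, a, ha, hna, mina, d1⟩ := hE.step (H := ⊥) bot_le (hcard _ (by simp))
  rw [Subgroup.card_bot] at c1
  obtain ⟨H2, e2, l2, c2, b, hb, hnb, minb, d2⟩ := hE.step e1 (hcard _ (by omega))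
  obtain ⟨H3, e3, l3, c3, c, hc, hnc, minc, d3⟩ := hE.step e2 (hcard _ (by omega))
  obtain ⟨H4, e4, l4, c4, d, hd, hnd, mind, d4⟩ := hE.step e3 (hcard _ (by omega))
  have hE4 : H4 = E := Subgroup.eq_of_le_of_card_ge e4 (by omega)
  have aE := e1 ha
  have bE := e2 hb
  have cE := e3 hc
  have dE := e4 hd
  have a2 := l2 ha
  have a3 := l3 a2
  have b3 := l3 hb
  have one : ∀ {u : PV}, u ∉ (⊥ : Subgroup PV) → u ≠ 1 := fun hu e => hu (e ▸ one_mem _)
  have ne1 : ∀ {H : Subgroup PV} {u : PV}, u ∉ H → u ≠ 1 := fun hu e => hu (e ▸ one_mem _)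
  have rec' : ∀ {H : Subgroup PV} {u w : PV}, H ≤ E → u ∈ H → u ≠ 1 → w ∈ E → w ∉ H →
      Chk.tabT (ind u) (ind w) = ind (u * w) ∧ u * w ∈ E ∧ u * w ∉ H := by
    intro H u w hH hu hu1 hw hwH
    have hn : u * w ∉ H := fun h => hwH (by
      have := mul_mem (inv_mem hu) h
      rwa [inv_mul_cancel_left] at this)
    exact ⟨ind_mul (hE.le (hH hu)) (hE.le hw) (hE.sq u (hH hu)) (hE.sq w hw) (hE.comm u (hH hu) w hw) hu1
      (ne1 hwH) (ne1 hn), mul_mem (hH hu) hw, hn⟩
  have good : ∀ {u w : PV}, u ∈ E → u ≠ 1 → ind w ≤ ind u → Chk.goodT (ind u) (ind w) = true := by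
    intro u w hu hu1 hle
    simp only [Chk.goodT, Bool.and_eq_true]
    exact ⟨Nat.ble_eq_true_of_le (ind_spec (hE.le hu) (hE.sq u hu) hu1).1, Nat.ble_eq_true_of_le hle⟩
  have gd : ∀ {H : Subgroup PV} {u w : PV}, H ≤ E → u ∈ H → u ≠ 1 → w ∈ E → w ∉ H →
      (∀ v ∈ E, v ∉ H → ind w ≤ ind v) → Chk.goodT (Chk.tabT (ind u) (ind w)) (ind w) = true := by
    intro H u w hH hu hu1 hw hwH hmin
    obtain ⟨h1, h2, h3⟩ := rec' hH hu hu1 hw hwH
    rw [h1]
    exact good h2 (ne1 h3) (hmin _ h2 h3)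
  have ha1 := ne1 hna
  obtain ⟨tab, habE, hab1⟩ := rec' e1 ha ha1 bE hnb
  have hab2 : a * b ∈ H2 := mul_mem a2 hb
  obtain ⟨tac, hacE, hac2⟩ := rec' e2 a2 ha1 cE hnc
  obtain ⟨tbc, hbcE, hbc2⟩ := rec' e2 hb (ne1 hnb) cE hnc
  obtain ⟨tabc, habcE, habc2⟩ := rec' e2 hab2 (ne1 hab1) cE hnc
  have lt_of : ∀ {H : Subgroup PV} {u w : PV}, u ∈ E → u ≠ 1 → w ∈ E → w ≠ 1 → u ∈ H → w ∉ H →
      ind u ≤ ind w → Nat.blt (ind u) (ind w) = true := by
    intro H u w hu hu1 hw hw1 huH hwH hle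
    refine Nat.ble_eq_true_of_le (lt_of_le_of_ne hle fun e => hwH ?_)
    have : u = w := sig_inj (lin_Gam (TS_le (hE.le hu))) (lin_Gam (TS_le (hE.le hw))) (by
      rw [(ind_spec (hE.le hu) (hE.sq u hu) hu1).2, (ind_spec (hE.le hw) (hE.sq w hw) hw1).2, e])
    exact this ▸ huH
  have h := all_range (p := Chk.searchOK) Chk.search_ok (Nat.zero_le (ind a))
    (by have := (ind_spec (hE.le aE) (hE.sq a aE) ha1).1; omega)
  simp only [Chk.searchOK, List.all_eq_true, List.mem_range, Bool.or_eq_true, Bool.not_eq_true',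
    Bool.and_eq_false_iff] at h
  have hb' := (h (ind b) (ind_spec (hE.le bE) (hE.sq b bE) (ne1 hnb)).1).resolve_left (by
    rintro (e | e)
    · rw [lt_of aE ha1 bE (ne1 hnb) ha hnb (mina b bE fun h0 => (ne1 hnb) (Subgroup.mem_bot.1 h0))] at e
      simp at e
    · rw [gd e1 ha ha1 bE hnb minb] at e
      simp at e)
  have hc' := (hb' (ind c) (ind_spec (hE.le cE) (hE.sq c cE) (ne1 hnc)).1).resolve_left (by
    rintro (((e | e) | e) | e)
    · rw [lt_of bE (ne1 hnb) cE (ne1 hnc) hb hnc (minb c cE fun h0 => hnc (l2 h0))] at e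
      simp at e
    · rw [gd e2 a2 ha1 cE hnc minc] at e
      simp at e
    · rw [gd e2 hb (ne1 hnb) cE hnc minc] at e
      simp at e
    · rw [tab, gd e2 hab2 (ne1 hab1) cE hnc minc] at e
      simp at e)
  have hd' := (hc' (ind d) (ind_spec (hE.le dE) (hE.sq d dE) (ne1 hnd)).1).resolve_left (by
    rintro (((((((e | e) | e) | e) | e) | e) | e) | e)
    · rw [lt_of cE (ne1 hnc) dE (ne1 hnd) hc hnd (minc d dE fun h0 => hnd (l3 h0))] at e
      simp at e
    · rw [gd e3 a3 ha1 dE hnd mind] at e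
      simp at e
    · rw [gd e3 b3 (ne1 hnb) dE hnd mind] at e
      simp at e
    · rw [tab, gd e3 (l3 hab2) (ne1 hab1) dE hnd mind] at e
      simp at e
    · rw [gd e3 hc (ne1 hnc) dE hnd mind] at e
      simp at e
    · rw [tac, gd e3 (mul_mem a3 hc) (ne1 hac2) dE hnd mind] at e
      simp at e
    · rw [tbc, gd e3 (mul_mem b3 hc) (ne1 hbc2) dE hnd mind] at e
      simp at e
    · rw [tab, tabc, gd e3 (mul_mem (l3 hab2) hc) (ne1 habc2) dE hnd mind] at e
      simp at e)
  simp only [Chk.leafOK, Bool.or_eq_true, Bool.and_eq_true, List.contains_iff] at hd'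
  rcases hd' with ⟨⟨⟨ia, ib⟩, ic⟩, id'⟩ | hf
  · exfalso
    have ma := mem_ES_of_ind (hE.le aE) (hE.sq a aE) ha1 ia
    have mb := mem_ES_of_ind (hE.le bE) (hE.sq b bE) (ne1 hnb) ib
    have mc := mem_ES_of_ind (hE.le cE) (hE.sq c cE) (ne1 hnc) ic
    have md := mem_ES_of_ind (hE.le dE) (hE.sq d dE) (ne1 hnd) id'
    have s1 : H1 ≤ ES := fun p hp => by
      rcases d1 p hp with h0 | h0
      · rw [Subgroup.mem_bot.1 h0]; exact one_mem _
      · rw [mul_eq_one_iff_eq_inv.1 (Subgroup.mem_bot.1 h0)]; exact inv_mem ma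
    have up : ∀ {H H' : Subgroup PV} {u : PV}, H ≤ ES → u ∈ ES → (∀ p ∈ H', p ∈ H ∨ p * u ∈ H) → H' ≤ ES := by
      intro H H' u hH hu hd p hp
      rcases hd p hp with h0 | h0
      · exact hH h0
      · have := mul_mem (hH h0) (inv_mem hu)
        rwa [mul_inv_cancel_right] at this
    exact hne (Subgroup.eq_of_le_of_card_ge (hE4 ▸ up (up (up s1 mb d2) mc d3) md d4) (by rw [h16, card_ES]))
  · refine le_trans ?_ (Nat.le_of_ble_eq_true hf)
    rw [← count_code (fun v => Chk.fixedL (Chk.inT (ind a)) v && Chk.fixedL (Chk.inT (ind b)) v &&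
      Chk.fixedL (Chk.inT (ind c)) v && Chk.fixedL (Chk.inT (ind d)) v) rfl]
    refine Set.ncard_le_ncard (fun v hv => ?_) (Set.toFinite _)
    have hfix : ∀ {u : PV}, u ∈ E → u ≠ 1 → Chk.fixedL (Chk.inT (ind u)) (code v) = true := by
      intro u hu hu1
      show Nat.beq _ _ = true
      rw [← (ind_spec (hE.le hu) (hE.sq u hu) hu1).2, ← code_apply (lin_Gam (TS_le (hE.le hu))), hv u hu]
      exact Nat.beq_refl _
    simp only [Set.mem_setOf_eq, hfix aE ha1, hfix bE (ne1 hnb), hfix cE (ne1 hnc), hfix dE (ne1 hnd), Bool.and_self]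

/-- order at least 32 gives few fixed vectors -/
theorem few_fixed (hE : Ele E) (h16 : 16 ≤ Nat.card E) (hne : E ≠ ES) : (fixS E).ncard ≤ 8 := by
  by_cases he : Nat.card E = 16
  · exact census hE he hne
  obtain ⟨u, hu, huS⟩ : ∃ u ∈ E, u ∉ ES := by
    by_contra hno
    push Not at hno
    have := Subgroup.card_le_of_le (show E ≤ ES from hno)
    rw [card_ES] at this
    omega
  obtain ⟨H1, e1, -, u1, c1, -⟩ := hE.double (H := ⊥) bot_le hu
    (fun h => huS ((Subgroup.mem_bot.1 h) ▸ one_mem _))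
  rw [Subgroup.card_bot] at c1
  obtain ⟨H2, e2, l2, c2, -⟩ := hE.step e1 (by omega)
  obtain ⟨H3, e3, l3, c3, -⟩ := hE.step e2 (by omega)
  obtain ⟨H4, e4, l4, c4, -⟩ := hE.step e3 (by omega)
  refine le_trans (Set.ncard_le_ncard (fun v hv p hp => hv p (e4 hp)) (Set.toFinite _))
    (census (hE.mono e4) (by omega) fun h => huS (h ▸ l4 (l3 (l2 u1))))

/-- fixed vectors of the chosen subgroup -/
def FS : Set V6 := fixS ES

theorem FS_facts : (∀ v, v ∈ FS ↔ Dat.maxF.contains (code v) = true) ∧ FS.ncard = 64 ∧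
    (∀ v ∈ FS, Small.Unitary.herm v v = 0) ∧ ∀ v, (∀ u ∈ FS, Small.Unitary.herm (v + u) (v + u) =
      Small.Unitary.herm v v) → v ∈ FS := by
  have h := Chk.fixSub_ok
  simp only [Chk.fixSubOK, Bool.and_eq_true, List.all_eq_true, decide_eq_true_eq] at h
  obtain ⟨⟨⟨⟨hfil, hB⟩, hfix⟩, hwt⟩, hFB⟩ := h
  have hiff : ∀ v, v ∈ FS ↔ Dat.maxF.contains (code v) = true := by
    intro v
    constructor
    · intro hv
      rw [List.contains_iff, ← hfil, List.mem_filter, List.mem_range]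
      refine ⟨code_lt v, List.all_eq_true.2 fun a ha => ?_⟩
      obtain ⟨p, hp, e⟩ := ES_real a (List.contains_iff.1 (hB a ha))
      show Nat.beq _ _ = true
      rw [← e, ← code_apply (lin_Gam (TS_le hp.1)), hv p hp]
      exact Nat.beq_refl _
    · intro hv p hp
      rcases hp.2 with rfl | ⟨i, hi, e⟩
      · rfl
      · refine code_inj ?_
        rw [code_apply (lin_Gam (TS_le hp.1)), e]
        exact Nat.eq_of_beq_eq_true (hfix i hi _ (List.contains_iff.1 hv))
  refine ⟨hiff, ?_, fun v hv => ?_, fun v hv => (hiff v).2 ?_⟩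
  · rw [show FS = {v | Dat.maxF.contains (code v) = true} from Set.ext hiff]
    exact count_code (fun k => Dat.maxF.contains k) (by decide +kernel)
  · rw [herm_self, if_pos (Nat.eq_of_beq_eq_true (hwt _ (List.contains_iff.1 ((hiff v).1 hv))))]
  · have hp := Chk.perp_ok
    simp only [Chk.perpOK, List.all_eq_true, List.mem_range, Bool.or_eq_true, Bool.not_eq_true'] at hp
    refine (hp (code v) (code_lt v)).resolve_left fun h0 => ?_
    rw [← Bool.not_eq_true, List.all_eq_true] at h0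
    refine h0 fun u hu => ?_
    have hu' := List.contains_iff.1 (hFB u hu)
    have hult : u < 4096 := by
      have key : ∀ u ∈ Dat.maxF, u < 4096 := by decide +kernel
      exact key u hu'
    have hmem : SUSix.vecOf u ∈ FS := (hiff _).2 (by rw [code_vecOf u hult]; exact List.contains_iff.2 hu')
    have h1 := hv _ hmem
    rw [herm_self, herm_self, code_add, code_vecOf u hult] at h1
    show Nat.beq ((Chk.wt (code v ^^^ u)) % 2) _ = true
    rcases Nat.mod_two_eq_zero_or_one (Chk.wt (code v ^^^ u)) with h2 | h2 <;>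
      rcases Nat.mod_two_eq_zero_or_one (Chk.wt (code v)) with h3 | h3 <;> rw [h2, h3] at h1 ⊢
    · rfl
    · exact absurd h1 (by decide +kernel)
    · exact absurd h1 (by decide +kernel)
    · rfl

theorem sig_kerEl : ∀ e < 16, sigL (kerEl e) = Chk.kerImg e := by
  intro e _
  refine (List.map_congr_left fun i hi => ?_).symm
  rw [List.mem_range] at hi
  have key : ∀ (l : List ℕ), (∀ s ∈ l, s < 4) → ∀ (p : PV) (k : ℕ), code (p (SUSix.vecOf (2 ^ i))) = k →
      code (l.foldl (fun p s => (if Chk.tb e s then gK (Fin.ofNat 4 s) else 1) * p) p (SUSix.vecOf (2 ^ i))) =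
        l.foldl (fun y s => bif Chk.tb e s then Chk.evW (Dat.wordK.getD s []) y else y) k := by
    intro l
    induction l with
    | nil => exact fun _ p k hk => hk
    | cons s l ih =>
      intro hl p k hk
      refine ih (fun x hx => hl x (by simp [hx])) _ _ ?_
      have hs : (Fin.ofNat 4 s).val = s := Nat.mod_eq_of_lt (hl s (by simp))
      rw [Equiv.Perm.mul_apply]
      by_cases hb : Chk.tb e s = true
      · show _ = bif Chk.tb e s then _ else _
        rw [if_pos hb, hb, cond_true, gK, hs, wd_code _ (wordBK_lt s (hl s (by simp))).2, hk]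
      · show _ = bif Chk.tb e s then _ else _
        rw [if_neg hb, Bool.eq_false_iff.2 hb, cond_false, Equiv.Perm.one_apply, hk]
  exact (key _ (fun s hs => List.mem_range.1 hs) 1 _
    (code_vecOf _ (Nat.pow_lt_pow_right (by norm_num) hi))).symm

theorem kerEl_mem (e : ℕ) : kerEl e ∈ Kp ⊓ fixv vb ⊓ KerB := by
  have key : ∀ (l : List ℕ) (p : PV), p ∈ Kp ⊓ fixv vb ⊓ KerB →
      l.foldl (fun p s => (if Chk.tb e s then gK (Fin.ofNat 4 s) else 1) * p) p ∈ Kp ⊓ fixv vb ⊓ KerB := by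
    intro l
    induction l with
    | nil => exact fun p hp => hp
    | cons s l ih =>
      intro p hp
      refine ih _ (mul_mem ?_ hp)
      split
      · exact ⟨gK_mem _, gK_ker _⟩
      · exact one_mem _
  exact key _ 1 (one_mem _)

/-- the elements of the chosen subgroup are conjugate to kernel elements -/
theorem ES_conj {e : PV} (he : e ∈ ES) :
    ∃ p ∈ Kp, ∃ r ∈ Kp ⊓ fixv vb ⊓ KerB, e = p * r * p⁻¹ := by
  rcases he.2 with rfl | ⟨i, hi, hsig⟩
  · exact ⟨1, one_mem _, 1, one_mem _, by simp⟩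
  obtain ⟨j, hj, rfl⟩ := List.getElem_of_mem hi
  have klen : Dat.maxI.length = 15 := by decide +kernel
  have h := Chk.conjMax_ok
  simp only [Chk.conjMaxOK, List.all_eq_true, List.mem_range, Bool.and_eq_true] at h
  obtain ⟨⟨⟨hw, hk⟩, -⟩, heq⟩ := h j (klen ▸ hj)
  rw [List.getD_eq_getElem Dat.maxI 0 hj] at heq
  have hw' : ∀ s ∈ Dat.maxW.getD j [], s < 6 := fun s hs => Nat.le_of_ble_eq_true (hw s hs)
  have hp := wordP_Kp _ hw'
  have hps := (wordP_spec (Dat.maxW.getD j []) fun s hs => by have := hw' s hs; omega).2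
  set k := Dat.maxK.getD j 0
  have hr := kerEl_mem k
  refine ⟨_, hp, kerEl k, hr, eq_mul_inv_of_mul_eq ?_⟩
  refine sig_inj (lin_Gam (mul_mem (TS_le he.1) (Kp_le hp))) (lin_Gam (Kp_le (mul_mem hp hr.1.1))) ?_
  rw [sig_mul (lin_Gam (TS_le he.1)), sig_mul (lin_Gam (Kp_le hp)), hsig, hps,
    sig_kerEl k (Nat.le_of_ble_eq_true hk)]
  exact eq_of_eqL heq

theorem ES_Kp : ES ≤ Kp := fun e he => by
  obtain ⟨p, hp, r, hr, rfl⟩ := ES_conj he
  exact mul_mem (mul_mem hp hr.1.1) (inv_mem hp)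

end Syl

end Cfsg.Agent.Spor.LFT
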