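import Cfsg.Agent.Lib.Spor.LFTEight
import Cfsg.Agent.Lib.Spor.LFTSylow
import Cfsg.Prelude.Def_Transfer

/-!
Large Fischer type: a Sylow 2-subgroup of the centraliser of the involution has just one elementary abelian
subgroup of largest order, of order 2^11.
-/

set_option autoImplicit false
set_option maxRecDepth 100000
set_option linter.unusedSectionVars false

namespace Cfsg.Agent.Spor.LFT

open Cfsg.Agent.Spor.SUSix (V6 code)
open Cfsg.Agent.Spor.SpFour (F4)
open Cfsg.Agent.Small.Unitary (herm)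

attribute [local irreducible] KerB phiA phiB CmpS Cmp

universe u

variable {G : Type u} [Group G] [Finite G] {z : G} {Q N M : Subgroup G}
variable {f : Frame z Q M} {x : Subgroup.centralizer ({z} : Set G)} {g : G}
variable (S : Setup z Q N M) (l : Line f x g)

include S

/-- an involution over every element of the chosen subgroup commuting with the element of order three -/
theorem Line.inv_lift (l : Line f x g) {e : PV} (he : e ∈ Kp ⊓ fixv vb ⊓ KerB) :
    ∃ c : Subgroup.centralizer ({z} : Set G),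
      Commute c x ∧ f.π c = e ∧ c * c = 1 ∧ (c : G) ∈ Qc Q g := by
  obtain ⟨r, hr, rfl⟩ := (l.map_Rc S).ge he
  obtain ⟨a, ha, b, hb, w, hw, hdec⟩ := l.decomp S (r := (r : G)) ⟨r, hr, rfl⟩
  set s := sA z g
  set s' := sB z g (x : G)
  set xg : G := (x : G) with hxg
  have hz1 : xg * g * z * (xg * g)⁻¹ = s' := conjB _ _
  set g2 := xg * (xg * g) with hg2
  have hz2 : g2 * z * g2⁻¹ = s * s' := by
    rw [← l.eqn, hg2, show xg * (xg * g) * z * (xg * (xg * g))⁻¹ = xg * (xg * g * z * (xg * g)⁻¹) * xg⁻¹ by group,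
      hz1]
  have hQ3 : Qc Q (xg * g2) = Qc Q g := S.Qc_eq (by
    rw [show xg * g2 * z * (xg * g2)⁻¹ = xg * (g2 * z * g2⁻¹) * xg⁻¹ by group, hz2, ← l.eqn]
    exact l.xel.cubeG f s)
  have hx : ∀ v, v ∈ Qc Q g ⊓ Qc Q (xg * g) → xg * v * xg⁻¹ ∈ Qc Q g ⊓ Qc Q (xg * g) := by
    intro v hv
    have h2 : v ∈ Qc Q g2 := S.third (a := s) (b := s') rfl hz1 (l.B_ne S).2.2.1.symm (l.BinA S).2 (l.AinB S) hz2
      hv.1 hv.2
    exact ⟨hQ3 ▸ Qc_conj xg h2, Qc_conj xg hv.1⟩
  have hwz : w ∈ Subgroup.centralizer ({z} : Set G) := by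
    obtain ⟨d, -, rfl⟩ := l.AB_le_Rs S hw
    exact d.2
  set wC : Subgroup.centralizer ({z} : Set G) := ⟨w, hwz⟩ with hwC
  have hπ : f.π wC = f.π r := by
    have hqQ : ((r * wC⁻¹ : Subgroup.centralizer ({z} : Set G)) : G) ∈ Q := by
      rw [Subgroup.coe_mul, Subgroup.coe_inv, hdec, mul_inv_cancel_right]
      exact mul_mem ha.1 (S.hyp.normQ x l.xz b hb.1)
    have h1 := (f.ker _).2 hqQ
    rw [map_mul, map_inv, mul_inv_eq_one] at h1
    exact h1.symm
  set w1 := x * wC * x⁻¹ with hw1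
  set w2 := x * w1 * x⁻¹ with hw2
  have m0 : (wC : G) ∈ Qc Q g ⊓ Qc Q (xg * g) := hw
  have m1 : (w1 : G) ∈ Qc Q g ⊓ Qc Q (xg * g) := hx _ m0
  have m2 : (w2 : G) ∈ Qc Q g ⊓ Qc Q (xg * g) := hx _ m1
  have P := l.pairAB S
  have cc : ∀ {u v : Subgroup.centralizer ({z} : Set G)}, (u : G) ∈ Qc Q g ⊓ Qc Q (xg * g) →
      (v : G) ∈ Qc Q g ⊓ Qc Q (xg * g) → Commute u v := fun hu hv => Subtype.ext (P.inter_comm hu hv).eq
  have s1 : ∀ {u : Subgroup.centralizer ({z} : Set G)}, (u : G) ∈ Qc Q g ⊓ Qc Q (xg * g) → u * u = 1 :=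
    fun hu => Subtype.ext (P.inter_square hu)
  have h3 : x * w2 * x⁻¹ = wC := by
    rw [hw2, hw1]
    exact Subtype.ext (l.xel.cubeG f w)
  have hscal : ∀ {u : Subgroup.centralizer ({z} : Set G)}, f.π u = f.π r → f.π (x * u * x⁻¹) = f.π r := by
    intro u hu
    rw [map_mul, map_mul, map_inv, hu, mul_inv_eq_iff_eq_mul]
    exact Equiv.ext fun v => by
      rw [Equiv.Perm.mul_apply, Equiv.Perm.mul_apply, l.xel.img, l.xel.img, scal_comm he.1.1]
  refine ⟨wC * w1 * w2, ?_, ?_, ?_, mul_mem (mul_mem m0.1 m1.1) m2.1⟩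
  · refine (mul_inv_eq_iff_eq_mul.1 (?_ : x * (wC * w1 * w2) * x⁻¹ = wC * w1 * w2)).symm
    calc x * (wC * w1 * w2) * x⁻¹ = (x * wC * x⁻¹) * (x * w1 * x⁻¹) * (x * w2 * x⁻¹) := by group
      _ = w1 * w2 * wC := by rw [h3]
      _ = wC * w1 * w2 := by rw [((cc m1 m0).mul_left (cc m2 m0)).eq]; exact (mul_assoc _ _ _).symm
  · have e0 := hπ
    have e1 := hscal e0
    have e2 : f.π w2 = f.π r := hscal e1
    have e3 : f.π r * f.π r = 1 := by rw [← e0, ← map_mul, s1 m0, map_one]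
    rw [map_mul, map_mul, e0, show f.π w1 = f.π r from e1, e2, e3, one_mul]
  · rw [((cc m2 m0).mul_right (cc m2 m1)).mul_mul_mul_comm, (cc m1 m0).mul_mul_mul_comm, s1 m0, s1 m1, s1 m2,
      mul_one, mul_one]

omit S

/-- subgroups of the centraliser by the action -/
theorem card_split (f : Frame z Q M) (H : Subgroup (Subgroup.centralizer ({z} : Set G))) :
    Nat.card H = Nat.card (H.map f.π) * Nat.card (H ⊓ f.π.ker : Subgroup (Subgroup.centralizer ({z} : Set G))) := by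
  set φ := f.π.comp H.subtype with hφ
  have h := Subgroup.card_eq_card_quotient_mul_card_subgroup φ.ker
  rw [Nat.card_congr (QuotientGroup.quotientKerEquivRange φ).toEquiv, MonoidHom.range_comp,
    Subgroup.range_subtype] at h
  rw [h]
  congr 1
  exact Nat.card_congr
    { toFun := fun c => ⟨c.1.1, c.1.2, MonoidHom.mem_ker.1 c.2⟩
      invFun := fun c => ⟨⟨c.1, c.2.1⟩, MonoidHom.mem_ker.2 c.2.2⟩
      left_inv := fun _ => rfl
      right_inv := fun _ => rfl }

/-- elements over the fixed vectors -/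
def AQset (f : Frame z Q M) : Set G := {a | a ∈ Q ∧ f.vec a ∈ Syl.FS}

include S

theorem AQ_mul (f : Frame z Q M) {a b : G} (ha : a ∈ AQset f) (hb : b ∈ AQset f) : a * b ∈ AQset f := by
  refine ⟨mul_mem ha.1 hb.1, fun p hp => ?_⟩
  rw [f.vec_mul a ha.1 b hb.1, Syl.lin_Gam (Syl.TS_le hp.1), ha.2 p hp, hb.2 p hp]

theorem AQ_sq (f : Frame z Q M) {a : G} (ha : a ∈ AQset f) : a * a = 1 :=
  (f.sq_iff a ha.1).2 (Syl.FS_facts.2.2.1 _ ha.2)

theorem AQ_one (f : Frame z Q M) : (1 : G) ∈ AQset f := ⟨one_mem _, fun p hp => by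
  rw [f.vec_one S]
  have h := Syl.lin_Gam (Syl.TS_le hp.1) 0 0
  rw [add_zero] at h
  exact left_eq_add.1 h⟩

theorem AQ_z (f : Frame z Q M) : z ∈ AQset f := ⟨S.hyp.xt.mem, by
  rw [f.vec_z S, ← f.vec_one S]; exact (AQ_one S f).2⟩

/-- the part in the extraspecial subgroup -/
def Setup.AQ (f : Frame z Q M) : Subgroup G where
  carrier := AQset f
  one_mem' := AQ_one S f
  mul_mem' ha hb := AQ_mul S f ha hb
  inv_mem' {a} ha := by rwa [inv_eq_of_mul_eq_one_right (AQ_sq S f ha)]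

theorem card_AQ (f : Frame z Q M) : Nat.card (S.AQ f) = 2 ^ 7 := by
  have him : f.vec '' (S.AQ f : Set G) = Syl.FS := ?_
  · rw [S.vecCard f (S.AQ f) (fun a ha => ha.1) (AQ_z S f), him, Syl.FS_facts.2.1]; norm_num
  ext v
  refine ⟨fun ⟨a, ha, e⟩ => e ▸ ha.2, fun hv => ?_⟩
  obtain ⟨a, ha, rfl⟩ := f.vec_surj v
  exact ⟨a, ⟨ha, hv⟩, rfl⟩

theorem AQ_comm (f : Frame z Q M) {a b : G} (ha : a ∈ AQset f) (hb : b ∈ AQset f) : Commute a b := by
  have h := AQ_sq S f (AQ_mul S f ha hb)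
  show a * b = b * a
  conv_lhs => rw [eq_inv_of_mul_eq_one_left h]
  rw [mul_inv_rev, inv_eq_of_mul_eq_one_right (AQ_sq S f ha), inv_eq_of_mul_eq_one_right (AQ_sq S f hb)]

/-- self-centralising -/
theorem AQ_perp (f : Frame z Q M) {q : G} (hq : q ∈ Q) (h : ∀ a ∈ AQset f, Commute q a) : q ∈ AQset f := by
  refine ⟨hq, Syl.FS_facts.2.2.2 _ fun u hu => ?_⟩
  obtain ⟨a, ha, rfl⟩ := f.vec_surj u
  have hsq : q * a * (q * a) = q * q := by
    rw [(h a ⟨ha, hu⟩).symm.mul_mul_mul_comm, AQ_sq S f ⟨ha, hu⟩, mul_one]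
  have h1 := f.sq_iff (q * a) (mul_mem hq ha)
  have h2 := f.sq_iff q hq
  rw [hsq, f.vec_mul q hq a ha] at h1
  rcases herm_self_real (f.vec q + f.vec a) with e | e <;> rcases herm_self_real (f.vec q) with e' | e' <;>
    rw [e] at h1 <;> rw [e'] at h2 <;> rw [e, e']
  · exact absurd (h2.1 (h1.2 rfl)) one_ne_zero
  · exact absurd (h1.1 (h2.2 rfl)) one_ne_zero

theorem Line.AQ_cent (l : Line f x g) {c : Subgroup.centralizer ({z} : Set G)} (hc : Commute c x)
    (he : f.π c ∈ Syl.ES) {a : G} (ha : a ∈ AQset f) : Commute (c : G) a := by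
  have hcz : Commute (c : G) z := Subgroup.mem_centralizer_singleton_iff.1 c.2
  have hd : ∀ b ∈ AQset f, (c : G) * b * (c : G)⁻¹ = b ∨ (c : G) * b * (c : G)⁻¹ = b * z := by
    intro b hb
    refine (f.vec_eq b hb.1 _ (S.hyp.normQ c hcz b hb.1)).1 ?_
    rw [f.vec_conj c b hb.1, hb.2 _ he]
  obtain ⟨b, hbQ, hbv⟩ := f.vec_surj (F4.w • f.vec a)
  have hbA : b ∈ AQset f := ⟨hbQ, fun p hp => by
    rw [hbv, scal_comm (Syl.ES_Kp hp), ha.2 p hp]⟩
  set xb := (x : G) * b * (x : G)⁻¹ with hxb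
  have hxbQ : xb ∈ Q := S.hyp.normQ x l.xz b hbQ
  have hcx : Commute (c : G) (x : G) := congrArg Subtype.val hc.eq
  have hmove : (c : G) * xb * (c : G)⁻¹ = (x : G) * ((c : G) * b * (c : G)⁻¹) * (x : G)⁻¹ := by
    calc (c : G) * ((x : G) * b * (x : G)⁻¹) * (c : G)⁻¹ = ((c : G) * x) * b * ((c : G) * x)⁻¹ := by group
      _ = ((x : G) * c) * b * ((x : G) * (c : G))⁻¹ := by rw [hcx.eq]
      _ = _ := by group
  have hxbA : xb ∈ AQset f := ⟨hxbQ, fun p hp => by
    rw [l.xel.vec f hbQ, hbv, scal_comm (Syl.ES_Kp hp), scal_comm (Syl.ES_Kp hp), ha.2 p hp]⟩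
  have hfix : Commute (c : G) (b * xb) := by
    refine mul_inv_eq_iff_eq_mul.1 ?_
    rw [← conj_mul, hmove]
    rcases hd b hbA with e | e <;> rw [e]
    rw [← conj_mul, l.xz.eq, mul_inv_cancel_right, mul_assoc b z, ← mul_assoc z, (S.hyp.xt.cen _ hxbQ).eq,
      mul_assoc xb, S.hyp.xt.sq, mul_one]
  have hv : f.vec (b * xb) = f.vec a := by
    rw [f.vec_mul b hbQ xb hxbQ, l.xel.vec f hbQ, hbv]
    have key : ∀ t : F4, F4.w * t + F4.w * (F4.w * t) = t := by decide +kernel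
    exact funext fun i => key _
  rcases (f.vec_eq _ (mul_mem hbQ hxbQ) a ha.1).1 hv with e | e <;> rw [e]
  exacts [hfix, hfix.mul_right hcz]

theorem Line.AH_sq (l : Line f x g) {c : Subgroup.centralizer ({z} : Set G)} (hc : Commute c x)
    (he : f.π c ∈ Syl.ES) : c * c = 1 := by
  obtain ⟨p, hp, r, hr, her⟩ := Syl.ES_conj he
  obtain ⟨c0, hc0, hπ0, hsq0, -⟩ := l.inv_lift S hr
  obtain ⟨P, hP, hPπ⟩ := l.xel.lift S f hp
  set c' := P * c0 * P⁻¹ with hc'
  have hc'x : Commute c' x := (hP.mul_left hc0).mul_left hP.inv_left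
  have hc'π : f.π c' = f.π c := by rw [hc', map_mul, map_mul, map_inv, hPπ, hπ0, her]
  have hc'sq : c' * c' = 1 := by
    rw [hc', show P * c0 * P⁻¹ * (P * c0 * P⁻¹) = P * (c0 * c0) * P⁻¹ by group, hsq0, mul_one, mul_inv_cancel]
  have h1 : ((c'⁻¹ * c : Subgroup.centralizer ({z} : Set G)) : G) ∈ Q :=
    (f.ker _).1 (by rw [map_mul, map_inv, hc'π, inv_mul_cancel])
  rcases l.xel.ker S f h1 (congrArg Subtype.val (hc'x.inv_left.mul_left hc).eq) with e | e
  · rw [← inv_mul_eq_one.1 (Subtype.ext e : c'⁻¹ * c = 1), hc'sq]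
  · have hzc : c = c' * ⟨z, S.zC_mem⟩ := eq_mul_of_inv_mul_eq (Subtype.ext e)
    have hcom : Commute (⟨z, S.zC_mem⟩ : Subgroup.centralizer ({z} : Set G)) c' :=
      Subtype.ext (Subgroup.mem_centralizer_singleton_iff.1 c'.2).symm
    rw [hzc, hcom.mul_mul_mul_comm, hc'sq, one_mul]
    exact Subtype.ext S.hyp.xt.sq

omit S

/-- the part of the lifts commuting with the element of order three -/
def AH (f : Frame z Q M) (x : Subgroup.centralizer ({z} : Set G)) : Subgroup (Subgroup.centralizer ({z} : Set G)) :=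
  Kx x ⊓ Syl.ES.comap f.π

include S

theorem Line.exists_max (l : Line f x g) : ∃ A : Subgroup (Subgroup.centralizer ({z} : Set G)),
    Cfsg.IsElementaryAbelian 2 A ∧ Nat.card A = 2 ^ 11 ∧ A ≤ Syl.TS.comap f.π ∧
      Nat.card (A ⊓ f.π.ker : Subgroup (Subgroup.centralizer ({z} : Set G))) = 2 ^ 7 ∧
      (∀ r, r ∈ A ↔ ∃ a : Subgroup.centralizer ({z} : Set G), (a : G) ∈ AQset f ∧ ∃ c ∈ AH f x, r = a * c) ∧
      ∀ B : Subgroup (Subgroup.centralizer ({z} : Set G)), B ≤ Syl.TS.comap f.π → Cfsg.IsElementaryAbelian 2 B →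
        2 ^ 11 ≤ Nat.card B → B = A := by
  set AQc := (S.AQ f).comap (Subgroup.centralizer ({z} : Set G)).subtype with hAQc
  set H := AH f x
  have hcH : ∀ c ∈ H, ∀ a ∈ AQc, Commute c a := fun c hc a ha =>
    Subtype.ext (l.AQ_cent S (mem_Kx.1 hc.1) hc.2 ha).eq
  have hcQ : ∀ a ∈ AQc, ∀ b ∈ AQc, Commute a b := fun a ha b hb => Subtype.ext (AQ_comm S f ha hb).eq
  have hsQ : ∀ a ∈ AQc, a * a = 1 := fun a ha => Subtype.ext (AQ_sq S f ha)
  have hsH : ∀ c ∈ H, c * c = 1 := fun c hc => l.AH_sq S (mem_Kx.1 hc.1) hc.2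
  have hcHH : ∀ a ∈ H, ∀ b ∈ H, Commute a b := fun a ha b hb => by
    have h := hsH _ (mul_mem ha hb)
    show a * b = b * a
    conv_lhs => rw [eq_inv_of_mul_eq_one_left h]
    rw [mul_inv_rev, inv_eq_of_mul_eq_one_right (hsH a ha), inv_eq_of_mul_eq_one_right (hsH b hb)]
  let A : Subgroup (Subgroup.centralizer ({z} : Set G)) :=
    { carrier := {r | ∃ a ∈ AQc, ∃ c ∈ H, r = a * c}
      one_mem' := ⟨1, one_mem _, 1, one_mem _, (one_mul 1).symm⟩
      inv_mem' := fun {r} ⟨a, ha, c, hc, e⟩ => ⟨a⁻¹, inv_mem ha, c⁻¹, inv_mem hc, by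
        rw [e, mul_inv_rev, (hcH c hc a ha).inv_inv.eq]⟩
      mul_mem' := fun {r r'} ⟨a, ha, c, hc, e⟩ ⟨a', ha', c', hc', e'⟩ => ⟨a * a', mul_mem ha ha', c * c',
        mul_mem hc hc', by rw [e, e', (hcH c hc a' ha').mul_mul_mul_comm]⟩ }
  have hAe : Cfsg.IsElementaryAbelian 2 A := by
    refine ⟨⟨⟨fun r r' => Subtype.ext ?_⟩⟩, ?_⟩
    · obtain ⟨a, ha, c, hc, e⟩ := r.2
      obtain ⟨a', ha', c', hc', e'⟩ := r'.2
      show (r : Subgroup.centralizer ({z} : Set G)) * r' = r' * r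
      rw [e, e']
      exact ((hcQ a ha a' ha').mul_right (hcH c' hc' a ha).symm).mul_left
        ((hcH c hc a' ha').mul_right (hcHH c hc c' hc'))
    · rintro _ ⟨a, ha, c, hc, rfl⟩
      rw [pow_two, (hcH c hc a ha).mul_mul_mul_comm, hsQ a ha, hsH c hc, one_mul]
  have hAmap : A.map f.π = Syl.ES := by
    refine le_antisymm ?_ fun e he => ?_
    · rintro _ ⟨_, ⟨a, ha, c, hc, rfl⟩, rfl⟩
      rw [map_mul, (f.ker a).2 ha.1, one_mul]
      exact hc.2
    · obtain ⟨c, hc, rfl⟩ := l.xel.lift S f (Syl.ES_Kp he)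
      exact ⟨1 * c, ⟨1, one_mem _, c, ⟨mem_Kx.2 hc, he⟩, rfl⟩, by rw [one_mul]⟩
  have hAker : Nat.card (A ⊓ f.π.ker : Subgroup (Subgroup.centralizer ({z} : Set G))) = 2 ^ 7 := by
    rw [← card_AQ S f]
    have hz : ∀ a : G, a ∈ AQset f → a ∈ Subgroup.centralizer ({z} : Set G) := fun a ha =>
      Subgroup.mem_centralizer_singleton_iff.2 (S.hyp.qz ha.1)
    have hker : A ⊓ f.π.ker = AQc := by
      refine le_antisymm ?_ fun a ha => ⟨⟨a, ha, 1, one_mem _, (mul_one a).symm⟩, (f.ker a).2 ha.1⟩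
      rintro r ⟨⟨a, ha, c, hc, rfl⟩, hk⟩
      refine mul_mem ha ?_
      have h1 : f.π c = 1 := by
        have := MonoidHom.mem_ker.1 hk
        rwa [map_mul, (f.ker a).2 ha.1, one_mul] at this
      rcases l.xel.ker S f ((f.ker c).1 h1) (congrArg Subtype.val (mem_Kx.1 hc.1).eq) with e | e
      · show (c : G) ∈ S.AQ f; rw [e]; exact one_mem _
      · show (c : G) ∈ S.AQ f; rw [e]; exact AQ_z S f
    rw [hker]
    exact Nat.card_congr
      { toFun := fun a => ⟨(a.1 : G), a.2⟩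
        invFun := fun a => ⟨⟨a.1, hz a.1 a.2⟩, a.2⟩
        left_inv := fun _ => rfl
        right_inv := fun _ => rfl }
  have hAcard : Nat.card A = 2 ^ 11 := by
    rw [card_split f A, hAmap, hAker, Syl.card_ES]; norm_num
  refine ⟨A, hAe, hAcard, fun r hr => ?_, hAker, fun r => Iff.rfl, fun B hBT hB hBc => ?_⟩
  · exact ((hAmap.le ⟨r, hr, rfl⟩) : f.π r ∈ Syl.ES).1
  -- uniqueness
  set E := B.map f.π with hE'
  have hBcomm : ∀ a ∈ B, ∀ b ∈ B, Commute a b := fun a ha b hb =>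
    congrArg Subtype.val (hB.1.is_comm.comm (⟨a, ha⟩ : B) ⟨b, hb⟩)
  have hBsq : ∀ a ∈ B, a * a = 1 := fun a ha => by rw [← pow_two]; exact hB.2 a ha
  have hE : Syl.Ele E := by
    refine ⟨Subgroup.map_le_iff_le_comap.2 hBT, ?_, ?_⟩
    · rintro _ ⟨a, ha, rfl⟩ _ ⟨b, hb, rfl⟩
      exact (hBcomm a ha b hb).map _
    · rintro _ ⟨a, ha, rfl⟩
      rw [← map_mul, hBsq a ha, map_one]
  set BQ := (B ⊓ f.π.ker).map (Subgroup.centralizer ({z} : Set G)).subtype with hBQ
  have hBQc : Nat.card BQ = Nat.card (B ⊓ f.π.ker : Subgroup (Subgroup.centralizer ({z} : Set G))) :=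
    Subgroup.card_map_of_injective (Subgroup.subtype_injective _)
  have hBQ7 : Nat.card BQ ≤ 2 ^ 7 := by
    refine S.elem_le _ ?_ ?_ ?_
    · rintro _ ⟨a, ha, rfl⟩
      exact (f.ker a).1 ha.2
    · rintro _ ⟨a, ha, rfl⟩ _ ⟨b, hb, rfl⟩
      exact (hBcomm a ha.1 b hb.1).map _
    · rintro _ ⟨a, ha, rfl⟩
      rw [← map_mul, hBsq a ha.1, map_one]
  have hsplit := card_split f B
  rw [← hE', ← hBQc] at hsplit
  have hfix : ∀ q ∈ BQ, f.vec q ∈ Syl.fixS E := by
    rintro _ ⟨a, ha, rfl⟩ _ ⟨b, hb, rfl⟩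
    show f.π b (f.vec (a : G)) = f.vec (a : G)
    rw [← f.vec_conj b (a : G) ((f.ker a).1 ha.2)]
    congr 1
    exact congrArg Subtype.val (show b * a * b⁻¹ = a by rw [(hBcomm b hb a ha.1).eq, mul_inv_cancel_right])
  have hE16 : 16 ≤ Nat.card E := by
    by_contra hlt
    push Not at hlt
    have := Nat.mul_le_mul (Nat.le_of_lt_succ hlt) hBQ7
    omega
  have hES : E = Syl.ES := by
    by_contra hne
    have h8 := Syl.few_fixed hE hE16 hne
    -- few fixed vectors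
    have hBQ16 : Nat.card BQ ≤ 16 := by
      let Z := BQ ⊔ Subgroup.zpowers z
      have hZle : Z ≤ Q := sup_le (by rintro _ ⟨a, ha, rfl⟩; exact (f.ker a).1 ha.2)
        (Subgroup.zpowers_le.2 S.hyp.xt.mem)
      have h1 := S.vecCard f Z hZle (Subgroup.mem_sup_right (Subgroup.mem_zpowers z))
      have hsub : f.vec '' (Z : Set G) ⊆ Syl.fixS E := by
        let F : Subgroup G :=
          { carrier := {q | q ∈ Q ∧ f.vec q ∈ Syl.fixS E}
            one_mem' := ⟨one_mem _, fun p hp => by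
              rw [f.vec_one S]
              have h := Syl.lin_Gam (Syl.TS_le (hE.le hp)) 0 0
              rw [add_zero] at h
              exact left_eq_add.1 h⟩
            mul_mem' := fun {a b} ha hb => ⟨mul_mem ha.1 hb.1, fun p hp => by
              rw [f.vec_mul a ha.1 b hb.1, Syl.lin_Gam (Syl.TS_le (hE.le hp)), ha.2 p hp, hb.2 p hp]⟩
            inv_mem' := fun {a} ha => ⟨inv_mem ha.1, by
              have h := f.vec_mul a⁻¹ (inv_mem ha.1) a ha.1
              rw [inv_mul_cancel, f.vec_one S] at h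
              have key : ∀ a b : F4, 0 = a + b → a = b := by decide +kernel
              rw [show f.vec a⁻¹ = f.vec a from funext fun i => key _ _ (congrFun h i)]
              exact ha.2⟩ }
        have hZF : Z ≤ F := sup_le (fun q hq => ⟨hZle (Subgroup.mem_sup_left hq), hfix q hq⟩)
          (Subgroup.zpowers_le.2 ⟨S.hyp.xt.mem, by rw [f.vec_z S, ← f.vec_one S]; exact (one_mem F : (1 : G) ∈ F).2⟩)
        rintro _ ⟨q, hq, rfl⟩
        exact (hZF hq).2
      have h2 := Set.ncard_le_ncard hsub (Set.toFinite _)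
      have h3 := Subgroup.card_le_of_le (show BQ ≤ Z from le_sup_left)
      omega
    have h72 := hE.card_le
    have h1 := Nat.mul_le_mul h72 hBQ16
    omega
  have hBQfull : 2 ^ 7 ≤ Nat.card BQ := by
    rw [hES, Syl.card_ES] at hsplit
    norm_num at hBc ⊢
    omega
  have hBQeq : BQ = S.AQ f := by
    refine Subgroup.eq_of_le_of_card_ge (fun q hq => ⟨?_, by have h := hfix q hq; rwa [hES] at h⟩) (by rw [card_AQ S f]; exact hBQfull)
    obtain ⟨a, ha, rfl⟩ := hq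
    exact (f.ker a).1 ha.2
  refine Subgroup.eq_of_le_of_card_ge (fun b hb => ?_) (hAcard ▸ hBc)
  have hbE : f.π b ∈ Syl.ES := hES ▸ ⟨b, hb, rfl⟩
  obtain ⟨c, hc, hcb⟩ := l.xel.lift S f (Syl.ES_Kp hbE)
  have hcH' : c ∈ H := ⟨mem_Kx.2 hc, show f.π c ∈ Syl.ES from hcb ▸ hbE⟩
  refine ⟨b * c⁻¹, ?_, c, hcH', (inv_mul_cancel_right b c).symm⟩
  refine AQ_perp S f ((f.ker (b * c⁻¹)).1 (by rw [map_mul, map_inv, hcb, mul_inv_cancel])) fun a ha => ?_
  obtain ⟨a', ha', rfl⟩ : a ∈ BQ := hBQeq.symm ▸ ha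
  have h : Commute (b : G) (a' : G) := congrArg Subtype.val (hBcomm b hb a' ha'.1).eq
  exact h.mul_left (l.AQ_cent S hc (hcb ▸ hbE) ha).inv_left

omit l

/-- the unique largest elementary abelian subgroup -/
theorem Setup.max_elem (T : Sylow 2 ↥(Subgroup.centralizer ({z} : Set G))) :
    ∃ A : Subgroup ↥(T : Subgroup (Subgroup.centralizer ({z} : Set G))),
      Cfsg.maxElementaryAbelianSubgroups 2 ↥(T : Subgroup (Subgroup.centralizer ({z} : Set G))) = {A} ∧
        Nat.card A = 2 ^ 11 ∧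
        ∀ Q' : Subgroup (Subgroup.centralizer ({z} : Set G)), Q'.Normal → Q'.map
            (Subgroup.centralizer ({z} : Set G)).subtype = Q →
          Nat.card ↥(A.map (T : Subgroup (Subgroup.centralizer ({z} : Set G))).subtype ⊓ Q') = 2 ^ 7 ∧
          ∀ _ : Q'.Normal, Nat.card ↥((A.map (T : Subgroup (Subgroup.centralizer ({z} : Set G))).subtype).map
            (QuotientGroup.mk' Q')) = 16 := by
  haveI : Fact (Nat.Prime 2) := ⟨Nat.prime_two⟩
  obtain ⟨f⟩ := S.hyp.exists_frame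
  obtain ⟨x, g, l⟩ := S.exists_Line f
  obtain ⟨A0, hA0e, hA0c, hA0T, hA0Q, -, huniq⟩ := l.exists_max S
  -- the Sylow subgroup
  set T0 := Syl.TS.comap f.π with hT0
  have hT0map : T0.map f.π = Syl.TS := Subgroup.map_comap_eq_self fun p hp => (S.range_pi f p).1 (Syl.TS_le hp)
  have hker : Nat.card f.π.ker = 2 ^ 13 := by
    rw [← S.hyp.cardQ]
    refine Nat.card_congr
      { toFun := fun c => ⟨((c.1 : Subgroup.centralizer ({z} : Set G)) : G), (f.ker _).1 (MonoidHom.mem_ker.1 c.2)⟩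
        invFun := fun q => ⟨⟨q.1, Subgroup.mem_centralizer_singleton_iff.2 (S.hyp.qz q.2)⟩,
          MonoidHom.mem_ker.2 ((f.ker _).2 q.2)⟩
        left_inv := fun _ => rfl
        right_inv := fun _ => rfl }
  have hT0c : Nat.card T0 = 2 ^ 21 := by
    rw [card_split f T0, hT0map, Syl.card_TS,
      inf_eq_right.2 (show f.π.ker ≤ T0 from fun c hc => by
        show f.π c ∈ Syl.TS; rw [MonoidHom.mem_ker.1 hc]; exact one_mem _), hker]
    norm_num
  have hC : Nat.card (Subgroup.centralizer ({z} : Set G)) = 2 ^ 21 * 76545 := by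
    rw [← Subgroup.card_top, card_split f ⊤, top_inf_eq, hker, ← MonoidHom.range_eq_map,
      show f.π.range = Gam from Subgroup.ext fun p => (S.range_pi f p).symm, card_Gam]
    norm_num
  have hidx : T0.index = 76545 := by
    have := Subgroup.card_mul_index T0
    rw [hT0c, hC] at this
    exact Nat.eq_of_mul_eq_mul_left (by norm_num) this
  have hodd : ¬ 2 ∣ T0.index := by rw [hidx]; decide
  set P0 := (IsPGroup.of_card hT0c).toSylow hodd with hP0
  obtain ⟨c, hc⟩ := MulAction.exists_smul_eq (Subgroup.centralizer ({z} : Set G)) P0 T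
  have hT : (T : Subgroup (Subgroup.centralizer ({z} : Set G))) = T0.map (MulAut.conj c).toMonoidHom := by
    rw [← hc, Sylow.coe_subgroup_smul]
    rfl
  have hA0'T : A0.map (MulAut.conj c).toMonoidHom ≤ (T : Subgroup (Subgroup.centralizer ({z} : Set G))) :=
    hT ▸ Subgroup.map_mono hA0T
  set A1 := A0.map (MulAut.conj c).toMonoidHom with hA1
  set A := A1.subgroupOf (T : Subgroup (Subgroup.centralizer ({z} : Set G))) with hA
  have hAmap : A.map (T : Subgroup (Subgroup.centralizer ({z} : Set G))).subtype = A1 :=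
    Subgroup.map_subgroupOf_eq_of_le hA0'T
  have hA1c : Nat.card A1 = 2 ^ 11 := by
    rw [hA1, Subgroup.card_map_of_injective (MulAut.conj c).injective, hA0c]
  have hAc : Nat.card A = 2 ^ 11 := by
    rw [hA, Nat.card_congr (Subgroup.subgroupOfEquivOfLe hA0'T).toEquiv, hA1c]
  have hA1e : ∀ {a b}, a ∈ A1 → b ∈ A1 → Commute a b ∧ a ^ 2 = 1 := by
    rintro _ _ ⟨a, ha, rfl⟩ ⟨b, hb, rfl⟩
    refine ⟨Commute.map (congrArg Subtype.val (hA0e.1.is_comm.comm (⟨a, ha⟩ : A0) ⟨b, hb⟩)) _, ?_⟩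
    rw [← map_pow, hA0e.2 a ha, map_one]
  have hAe : Cfsg.IsElementaryAbelian 2 A :=
    ⟨⟨⟨fun a b => Subtype.ext (Subtype.ext (hA1e a.2 b.2).1.eq)⟩⟩, fun a ha => Subtype.ext (hA1e ha ha).2⟩
  have hkey : ∀ B : Subgroup ↥(T : Subgroup (Subgroup.centralizer ({z} : Set G))),
      Cfsg.IsElementaryAbelian 2 B → 2 ^ 11 ≤ Nat.card B → B = A := by
    intro B hB hBc
    set B1 := (B.map (T : Subgroup (Subgroup.centralizer ({z} : Set G))).subtype).map
      (MulAut.conj c⁻¹).toMonoidHom with hB1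
    have hBle : B1 ≤ T0 := by
      rintro _ ⟨_, ⟨b, hb, rfl⟩, rfl⟩
      obtain ⟨t, ht, e⟩ := hT.le b.2
      show c⁻¹ * (b : Subgroup.centralizer ({z} : Set G)) * c⁻¹⁻¹ ∈ T0
      rw [← e]
      show c⁻¹ * (c * t * c⁻¹) * c⁻¹⁻¹ ∈ T0
      simpa [mul_assoc] using ht
    have hB1c : Nat.card B1 = Nat.card B := by
      rw [hB1, Subgroup.card_map_of_injective (MulAut.conj c⁻¹).injective,
        Subgroup.card_map_of_injective (Subgroup.subtype_injective _)]
    have hB1e : Cfsg.IsElementaryAbelian 2 B1 := by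
      refine ⟨⟨⟨fun a b => Subtype.ext ?_⟩⟩, ?_⟩
      · obtain ⟨_, ⟨a', ha', rfl⟩, ea⟩ := a.2
        obtain ⟨_, ⟨b', hb', rfl⟩, eb⟩ := b.2
        show (a : Subgroup.centralizer ({z} : Set G)) * b = b * a
        rw [← ea, ← eb]
        exact ((show Commute a' b' from congrArg Subtype.val (hB.1.is_comm.comm (⟨a', ha'⟩ : B) ⟨b', hb'⟩)).map
          _).map _
      · rintro _ ⟨_, ⟨a', ha', rfl⟩, rfl⟩
        rw [← map_pow, ← map_pow, hB.2 a' ha', map_one, map_one]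
    have h1 := huniq B1 hBle hB1e (hB1c.symm ▸ hBc)
    refine Subgroup.map_injective (Subgroup.subtype_injective _) ?_
    rw [hAmap, hA1, ← h1, hB1, Subgroup.map_map]
    conv_lhs => rw [← Subgroup.map_id (B.map (T : Subgroup (Subgroup.centralizer ({z} : Set G))).subtype)]
    exact congrArg (fun F => Subgroup.map F _) (MonoidHom.ext fun v => by
      show v = c * (c⁻¹ * v * c⁻¹⁻¹) * c⁻¹
      group)
  refine ⟨A, ?_, hAc, fun Q' hQn hQ' => ?_⟩
  · ext B
    refine ⟨fun hB => hkey B hB.1 (hAc ▸ hB.2 A hAe), ?_⟩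
    rintro rfl
    refine ⟨hAe, fun B hB => ?_⟩
    by_contra hlt
    push Not at hlt
    rw [hkey B hB (hAc ▸ hlt.le)] at hlt
    exact lt_irrefl _ hlt
  have hk : Q' = f.π.ker := by
    ext a
    rw [MonoidHom.mem_ker, f.ker, ← hQ']
    exact (Subgroup.mem_map_iff_mem (Subgroup.subtype_injective _)).symm
  subst hk
  have h7 : Nat.card ↥(A1 ⊓ f.π.ker) = 2 ^ 7 := by
    rw [← hA0Q, ← Subgroup.card_map_of_injective (K := A0 ⊓ f.π.ker) (f := (MulAut.conj c).toMonoidHom)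
      (MulAut.conj c).injective, Subgroup.map_inf _ _ _ (MulAut.conj c).injective]
    refine congrArg (fun K : Subgroup (Subgroup.centralizer ({z} : Set G)) => Nat.card ↥(A1 ⊓ K)) ?_
    ext a
    rw [Subgroup.mem_map_equiv, MulAut.conj_symm_apply, MonoidHom.mem_ker, MonoidHom.mem_ker, map_mul, map_mul,
      map_inv]
    exact ⟨fun e => by rw [e, mul_one, inv_mul_cancel], fun e => by
      calc f.π a = f.π c * ((f.π c)⁻¹ * f.π a * f.π c) * (f.π c)⁻¹ := by group
        _ = 1 := by rw [e, mul_one, mul_inv_cancel]⟩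
  rw [hAmap]
  refine ⟨h7, fun _ => ?_⟩
  have hsplit : Nat.card A1 = Nat.card (A1.map (QuotientGroup.mk' f.π.ker)) * Nat.card ↥(A1 ⊓ f.π.ker) := by
    set φ := (QuotientGroup.mk' f.π.ker).comp A1.subtype with hφ
    have h := Subgroup.card_eq_card_quotient_mul_card_subgroup φ.ker
    rw [Nat.card_congr (QuotientGroup.quotientKerEquivRange φ).toEquiv, MonoidHom.range_comp,
      Subgroup.range_subtype] at h
    rw [h]
    congr 1
    exact Nat.card_congr
      { toFun := fun v => ⟨v.1.1, v.1.2, (QuotientGroup.eq_one_iff _).1 (MonoidHom.mem_ker.1 v.2)⟩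
        invFun := fun v => ⟨⟨v.1, v.2.1⟩, MonoidHom.mem_ker.2 ((QuotientGroup.eq_one_iff _).2 v.2.2)⟩
        left_inv := fun _ => rfl
        right_inv := fun _ => rfl }
  rw [h7, hA1c] at hsplit
  exact Nat.eq_of_mul_eq_mul_right (show 0 < 2 ^ 7 by norm_num) (hsplit.symm.trans (by norm_num))

end Cfsg.Agent.Spor.LFT
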