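import Cfsg.Agent.Lib.Spor.U43Main
import Cfsg.Agent.Lib.Spor.LFTChecksA
import Cfsg.Agent.Lib.Spor.LFTChecksD

/-!
The group 3.U4(3) inside SU(6,2) extended by an outer semilinear map, as permutations of vectors, and its
two orbits on isotropic vectors.
-/

set_option autoImplicit false
set_option maxRecDepth 100000

namespace Cfsg.Agent.Spor.LFT

open Cfsg.Agent.Spor.SUSix (G6 V6 code code_lt vecOf_code)
open Cfsg.Agent.Spor.SpFour (F4)
open Cfsg.Agent.Spor.U43 (K1 gk mat)
open Cfsg.Agent.Small.Unitary (herm)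
open Cfsg.Agent.Spor.CC
open Matrix

/-- permutations of vectors -/
abbrev PV : Type := Equiv.Perm V6

/-! ### codes -/

theorem vecOf_eq (k : ℕ) (hk : k < 4096) (i : Fin 6) :
    SUSix.vecOf k i = F4.ofN (Chk.digit k i.val) := by
  have e : ∀ m, Nat.land m 3 = m % 4 := fun m => Nat.and_two_pow_sub_one_eq_mod m 2
  have e' : ∀ m, m &&& 3 = m % 4 := fun m => Nat.and_two_pow_sub_one_eq_mod m 2
  fin_cases i <;>
    simp [SUSix.vecOf, Chk.digit, e, e', Nat.shiftRight_eq_div_pow] <;> rw [Nat.mod_eq_of_lt]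
  omega

theorem digit_xor (a b i : ℕ) : Chk.digit (a ^^^ b) i = Chk.digit a i ^^^ Chk.digit b i := by
  show ((a ^^^ b) >>> (2 * i)) &&& 3 = ((a >>> (2 * i)) &&& 3) ^^^ ((b >>> (2 * i)) &&& 3)
  rw [Nat.shiftRight_xor_distrib, Nat.and_xor_distrib_right]

theorem digit_lt (k i : ℕ) : Chk.digit k i < 4 := by
  show (k >>> (2 * i)) &&& 3 < 4
  exact lt_of_le_of_lt Nat.and_le_right (by norm_num)

theorem ofN_xor : ∀ a < 4, ∀ b < 4, F4.ofN (a ^^^ b) = F4.ofN a + F4.ofN b := by decide +kernel

theorem xor_lt {a b : ℕ} (ha : a < 4096) (hb : b < 4096) : a ^^^ b < 4096 :=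
  Nat.xor_lt_two_pow (n := 12) ha hb

theorem vecOf_xor {a b : ℕ} (ha : a < 4096) (hb : b < 4096) : SUSix.vecOf (a ^^^ b) = SUSix.vecOf a + SUSix.vecOf b := by
  funext i
  rw [Pi.add_apply, vecOf_eq _ (xor_lt ha hb), vecOf_eq _ ha, vecOf_eq _ hb, digit_xor,
    ofN_xor _ (digit_lt _ _) _ (digit_lt _ _)]

theorem code_vecOf : ∀ k < 4096, code (SUSix.vecOf k) = k := by
  intro k hk
  have e : ∀ x, x < 4 → (F4.ofN x).toN = x := by decide +kernel
  simp only [SUSix.code, SUSix.vecOf, Matrix.cons_val_zero, Matrix.cons_val_one, Matrix.cons_val]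
  rw [e _ (Nat.mod_lt _ (by norm_num)), e _ (Nat.mod_lt _ (by norm_num)), e _ (Nat.mod_lt _ (by norm_num)),
    e _ (Nat.mod_lt _ (by norm_num)), e _ (Nat.mod_lt _ (by norm_num)), e _ (by omega)]
  omega

theorem code_inj : Function.Injective code := fun f g h => by rw [← vecOf_code f, h, vecOf_code]

theorem code_add (f g : V6) : code (f + g) = code f ^^^ code g := by
  conv_lhs => rw [← vecOf_code f, ← vecOf_code g, ← vecOf_xor (code_lt f) (code_lt g)]
  rw [code_vecOf _ (xor_lt (code_lt f) (code_lt g))]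

theorem appA_acc : ∀ (L : List ℕ) (k r : ℕ), Chk.appA L k r = r ^^^ Chk.appA L k 0
  | [], _, r => (Nat.xor_zero r).symm
  | c :: L, k, r => by
    show Chk.appA L _ (bif Chk.tb k 0 then r ^^^ c else r) = r ^^^ Chk.appA L _ (bif Chk.tb k 0 then 0 ^^^ c else 0)
    cases Chk.tb k 0 <;> simp only [cond_true, cond_false]
    · exact appA_acc L _ r
    · rw [appA_acc L _ (r ^^^ c), appA_acc L _ (0 ^^^ c), Nat.zero_xor, Nat.xor_assoc]

theorem tb_zero (a b : ℕ) : Chk.tb (a ^^^ b) 0 = (Chk.tb a 0 ^^ Chk.tb b 0) := by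
  have e : ∀ m, Chk.tb m 0 = m.testBit 0 := fun m => by
    show Nat.beq ((m >>> 0) &&& 1) 1 = _
    rw [Nat.testBit_zero, Nat.shiftRight_zero, Nat.and_one_is_mod]
    rcases Nat.mod_two_eq_zero_or_one m with h | h <;> rw [h] <;> rfl
  rw [e, e, e, Nat.testBit_xor]

theorem appA_xor : ∀ (L : List ℕ) (a b : ℕ), Chk.appA L (a ^^^ b) 0 = Chk.appA L a 0 ^^^ Chk.appA L b 0
  | [], _, _ => (Nat.xor_self 0).symm
  | c :: L, a, b => by
    show Chk.appA L ((a ^^^ b) >>> 1) (bif Chk.tb (a ^^^ b) 0 then 0 ^^^ c else 0) =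
      Chk.appA L (a >>> 1) (bif Chk.tb a 0 then 0 ^^^ c else 0) ^^^
        Chk.appA L (b >>> 1) (bif Chk.tb b 0 then 0 ^^^ c else 0)
    rw [appA_acc L ((a ^^^ b) >>> 1), appA_acc L (a >>> 1), appA_acc L (b >>> 1), Nat.shiftRight_xor_distrib,
      appA_xor L, tb_zero]
    cases Chk.tb a 0 <;> cases Chk.tb b 0 <;>
      simp [Nat.xor_assoc, Nat.xor_comm, Nat.xor_left_comm]

theorem app_zero : ∀ L : List ℕ, Chk.app L 0 = 0
  | [] => rfl
  | c :: L => by show Chk.appA L (0 >>> 1) 0 = 0; exact app_zero L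

theorem two_pow_add (n r : ℕ) (hr : r < 2 ^ n) : 2 ^ n + r = 2 ^ n ^^^ r := by
  apply Nat.eq_of_testBit_eq
  intro i
  rw [Nat.testBit_xor, Nat.testBit_two_pow]
  rcases lt_trichotomy i n with h | h | h
  · rw [Nat.testBit_two_pow_add_gt h]; simp [show n ≠ i by omega]
  · subst h; rw [Nat.testBit_two_pow_add_eq]; simp [Nat.testBit_lt_two_pow hr]
  · have h1 : r < 2 ^ i := hr.trans (Nat.pow_lt_pow_right (by norm_num) h)
    have h2 : 2 ^ n + r < 2 ^ i := lt_of_lt_of_le (show 2 ^ n + r < 2 ^ (n + 1) by rw [pow_succ]; omega)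
      (Nat.pow_le_pow_right (by norm_num) h)
    rw [Nat.testBit_lt_two_pow h2, Nat.testBit_lt_two_pow h1]; simp [show n ≠ i by omega]

/-- an additive map is given by the images of the units -/
theorem code_map {F : V6 → V6} (hF : ∀ f g, F (f + g) = F f + F g) {L : List ℕ}
    (hu : ∀ i < 12, code (F (SUSix.vecOf (2 ^ i))) = Chk.app L (2 ^ i)) (f : V6) :
    code (F f) = Chk.app L (code f) := by
  have key : ∀ n ≤ 12, ∀ k < 2 ^ n, code (F (SUSix.vecOf k)) = Chk.app L k := by
    intro n
    induction n with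
    | zero =>
      intro _ k hk
      obtain rfl : k = 0 := by omega
      have h0 : SUSix.vecOf 0 = 0 := by decide +kernel
      have h1 : F 0 = 0 := by simpa using hF 0 0
      rw [h0, h1, app_zero]; rfl
    | succ n ih =>
      intro hn k hk
      by_cases h : k < 2 ^ n
      · exact ih (by omega) k h
      obtain ⟨r, rfl⟩ : ∃ r, k = 2 ^ n + r := ⟨k - 2 ^ n, by omega⟩
      have hr : r < 2 ^ n := by rw [pow_succ] at hk; omega
      have hn' : 2 ^ n < 4096 := Nat.pow_lt_pow_right (by norm_num) (show n < 12 by omega)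
      rw [two_pow_add n r hr, vecOf_xor hn' (by omega), hF, code_add, hu n (by omega), ih (by omega) r hr]
      exact (appA_xor L _ _).symm
  rw [← vecOf_code f]
  conv_rhs => rw [vecOf_code f]
  exact key 12 le_rfl _ (code_lt f)

/-! ### the permutations -/

/-- the action on vectors -/
def act : G6 →* PV where
  toFun A :=
    { toFun := Small.Unitary.act A
      invFun := Small.Unitary.act A⁻¹
      left_inv := Small.Unitary.act_inv_act A
      right_inv := Small.Unitary.act_act_inv A }
  map_one' := Equiv.ext fun v => Small.Unitary.act_one v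
  map_mul' A B := Equiv.ext fun v => Small.Unitary.act_mul A B v

theorem act_apply (A : G6) (v : V6) : act A v = mat A *ᵥ v := rfl

theorem act_inj : Function.Injective act := fun A B h => U43.G6_ext (Matrix.ext fun i j => by
  have := congrFun (Equiv.congr_fun h (Pi.single j 1)) i
  simpa [act_apply] using this)

/-- interchange of the first two coordinates -/
def sw01 (v : V6) : V6 := fun i => v (Equiv.swap 0 1 i)

theorem sw01_sw01 (v : V6) : sw01 (sw01 v) = v := funext fun i => by simp [sw01]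

/-- coordinatewise conjugation -/
def cj (v : V6) : V6 := fun i => star (v i)

theorem cj_cj (v : V6) : cj (cj v) = v := funext fun i => star_star _

theorem cj_sw (v : V6) : cj (sw01 v) = sw01 (cj v) := rfl

/-- the maps of the outer candidates: 0 the outer element, 1 the transposition, 2 the conjugation -/
def eoF : Fin 3 → V6 → V6 := ![fun v => sw01 (cj v), sw01, cj]

theorem eoF_inv : ∀ s : Fin 3, Function.Involutive (eoF s) := fun s => by
  fin_cases s
  · intro v
    show sw01 (cj (sw01 (cj v))) = v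
    rw [cj_sw, sw01_sw01, cj_cj]
  · exact sw01_sw01
  · exact cj_cj

/-- the outer candidates -/
def eo (s : Fin 3) : PV := Function.Involutive.toPerm (eoF s) (eoF_inv s)

theorem eo_add (s : Fin 3) (f g : V6) : eo s (f + g) = eo s f + eo s g := by
  show eoF s (f + g) = eoF s f + eoF s g
  fin_cases s <;> funext i <;> simp [eoF, sw01, cj, star_add]

theorem eo_units : ∀ s : Fin 3, ∀ i < 12, code (eo s (SUSix.vecOf (2 ^ i))) = Chk.app (Chk.en s.val) (2 ^ i) := by
  decide +kernel

theorem eo_code (s : Fin 3) (f : V6) : code (eo s f) = Chk.app (Chk.en s.val) (code f) :=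
  code_map (eo_add s) (eo_units s) f

theorem gk_units : ∀ s : Fin 6, ∀ i < 12,
    code (U43.matL (U43.GK.getD s.val []) *ᵥ SUSix.vecOf (2 ^ i)) = Chk.app (Chk.gn s.val) (2 ^ i) := by
  decide +kernel

theorem gk_code (s : Fin 6) (f : V6) : code (act (gk s) f) = Chk.app (Chk.gn s.val) (code f) :=
  code_map (F := act (gk s)) (fun a b => Small.Unitary.act_add _ a b) (fun i hi => by
    rw [act_apply, U43.mat_gk]; exact gk_units s i hi) f

/-- word in the generators -/
def wd (w : List ℕ) : G6 := (w.map fun s => gk (Fin.ofNat 6 s)).prod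

theorem wd_mem (w : List ℕ) : wd w ∈ K1 := list_prod_mem fun x hx => by
  obtain ⟨s, -, rfl⟩ := List.mem_map.mp hx; exact U43.gk_mem _

theorem wd_code : ∀ (w : List ℕ), (∀ s ∈ w, s < 6) → ∀ f : V6, code (act (wd w) f) = Chk.evW w (code f)
  | [], _, f => by simp [wd, Chk.evW]
  | s :: w, h, f => by
    have hs : (Fin.ofNat 6 s).val = s := Nat.mod_eq_of_lt (h s (by simp))
    show code (act (gk (Fin.ofNat 6 s) * wd w) f) = Chk.app (Chk.gn s) (Chk.evW w (code f))
    rw [map_mul, Equiv.Perm.mul_apply, gk_code, hs, wd_code w (fun x hx => h x (by simp [hx]))]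

theorem words_lt : ∀ w ∈ Dat.wordA ++ Dat.wordB ++ Dat.wordK ++ Dat.wordT, ∀ s ∈ w, s < 6 := by decide +kernel

/-- the image of 3.U4(3) -/
def Kp : Subgroup PV := K1.map act

theorem card_Kp : Nat.card Kp = 9797760 := by
  rw [Kp, Subgroup.card_map_of_injective act_inj, U43.card_K1]

theorem eo_sq (s : Fin 3) : eo s * eo s = 1 := by
  exact Equiv.ext fun v => eoF_inv s v

theorem eo_inv (s : Fin 3) : (eo s)⁻¹ = eo s := inv_eq_of_mul_eq_one_right (eo_sq s)

theorem eo_zero_eq : eo 0 = eo 1 * eo 2 := Equiv.ext fun _ => rfl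

theorem eo_comm : eo 1 * eo 2 = eo 2 * eo 1 := Equiv.ext fun v => (cj_sw v).symm

theorem outer_gen (s : Fin 6) : eo 0 * act (gk s) * (eo 0)⁻¹ = act (wd (Dat.wordT.getD s.val [])) := by
  rw [eo_inv]
  refine Equiv.ext fun f => code_inj ?_
  have hw : ∀ x ∈ Dat.wordT.getD s.val [], x < 6 := words_lt _ (by
    refine List.mem_append_right _ ?_
    have hl : s.val < Dat.wordT.length := lt_of_lt_of_eq s.2 (by decide +kernel)
    rw [List.getD_eq_getElem _ _ hl]
    exact List.getElem_mem _)
  rw [wd_code _ hw]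
  refine Eq.trans ?_ (code_map (F := fun f => act (wd (Dat.wordT.getD s.val [])) f)
    (fun a b => Small.Unitary.act_add _ a b) (L := (List.range 12).map fun i =>
      Chk.app (Chk.en 0) (Chk.app (Chk.gn s.val) (Chk.app (Chk.en 0) (2 ^ i)))) (fun i hi => ?_) f |>.symm.trans
    (wd_code _ hw f))
  · refine code_map (F := fun f => eo 0 (act (gk s) (eo 0 f)))
      (fun a b => by
        show eo 0 (act (gk s) (eo 0 (a + b))) = _
        rw [eo_add, act_apply, Matrix.mulVec_add, eo_add]; rfl)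
      (fun i hi => ?_) f
    rw [eo_code, gk_code, eo_code, code_vecOf _ (Nat.pow_lt_pow_right (by norm_num) hi)]
    rw [unit_map i hi]
    rfl
  · rw [unit_map i hi, wd_code _ hw, code_vecOf _ (Nat.pow_lt_pow_right (by norm_num) hi)]
    have h := Chk.conj_ok
    simp only [Chk.conjOK, List.all_eq_true, List.mem_range] at h
    exact (Nat.eq_of_beq_eq_true (h s.val s.2 i hi)).symm
where
  unit_map (i : ℕ) (hi : i < 12) (G : ℕ → ℕ) : Chk.app ((List.range 12).map G) (2 ^ i) = G i := by
    interval_cases i <;> exact Nat.zero_xor _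

theorem outer_normalizes {p : PV} (hp : p ∈ Kp) : eo 0 * p * (eo 0)⁻¹ ∈ Kp := by
  obtain ⟨A, hA, rfl⟩ := hp
  induction hA using Subgroup.closure_induction with
  | mem x hx =>
    obtain ⟨s, rfl⟩ := hx
    rw [outer_gen]
    exact ⟨_, wd_mem _, rfl⟩
  | one => rw [map_one, mul_one, mul_inv_cancel]; exact one_mem _
  | mul x y _ _ ihx ihy => rw [map_mul, ← conj_mul]; exact mul_mem ihx ihy
  | inv x _ ih => rw [map_inv, ← conj_inv]; exact inv_mem ih

theorem act_smul' (A : G6) (c : F4) (v : V6) : act A (c • v) = c • act A v := Small.Unitary.act_smul A c v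

theorem outer_notMem : eo 0 ∉ Kp := by
  rintro ⟨A, -, hA⟩
  have h := act_smul' A F4.w (Pi.single 0 1)
  rw [hA] at h
  exact absurd h (by decide +kernel)

/-- the extension by the outer element -/
def Gam : Subgroup PV where
  carrier := {p | p ∈ Kp ∨ eo 0 * p ∈ Kp}
  one_mem' := Or.inl (one_mem _)
  mul_mem' := by
    rintro a b (ha | ha) (hb | hb)
    · exact Or.inl (mul_mem ha hb)
    · refine Or.inr ?_
      rw [show eo 0 * (a * b) = (eo 0 * a * (eo 0)⁻¹) * (eo 0 * b) by group]
      exact mul_mem (outer_normalizes ha) hb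
    · refine Or.inr ?_
      rw [← mul_assoc]; exact mul_mem ha hb
    · refine Or.inl ?_
      rw [show a * b = ((eo 0)⁻¹ * (eo 0 * a) * (eo 0)⁻¹) * (eo 0 * b) by group, eo_inv]
      refine mul_mem ?_ hb
      conv => arg 2; rw [show eo 0 * (eo 0 * a) * eo 0 = eo 0 * (eo 0 * a) * (eo 0)⁻¹ by rw [eo_inv]]
      exact outer_normalizes ha
  inv_mem' := by
    rintro a (ha | ha)
    · exact Or.inl (inv_mem ha)
    · refine Or.inr ?_
      rw [show eo 0 * a⁻¹ = eo 0 * (eo 0 * a)⁻¹ * eo 0 by group, show eo 0 * (eo 0 * a)⁻¹ * eo 0 =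
        eo 0 * (eo 0 * a)⁻¹ * (eo 0)⁻¹ by rw [eo_inv]]
      exact outer_normalizes (inv_mem ha)

theorem Kp_le : Kp ≤ Gam := fun _ h => Or.inl h

theorem outer_mem : eo 0 ∈ Gam := Or.inr (by rw [eo_sq]; exact one_mem _)

theorem card_Gam : Nat.card Gam = 19595520 := by
  have hi : (Kp.subgroupOf Gam).index = 2 := by
    rw [Subgroup.index_eq_two_iff]
    refine ⟨⟨eo 0, outer_mem⟩, fun b => ?_⟩
    simp only [Subgroup.mem_subgroupOf, Subgroup.coe_mul]
    rcases b.2 with h | h
    · refine Or.inr ⟨h, fun h' => outer_notMem ?_⟩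
      have h2 := outer_normalizes (mul_mem (inv_mem h) h')
      rw [inv_mul_cancel_left, mul_inv_cancel_right] at h2
      exact h2
    · have h2 := outer_normalizes h
      rw [← mul_assoc, eo_sq, one_mul, eo_inv] at h2
      refine Or.inl ⟨h2, fun h' => outer_notMem ?_⟩
      have h3 := mul_mem (inv_mem h') h2
      rwa [inv_mul_cancel_left] at h3
  have := Subgroup.card_mul_index (Kp.subgroupOf Gam)
  rw [hi, Nat.card_congr (Subgroup.subgroupOfEquivOfLe Kp_le).toEquiv, card_Kp] at this
  omega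

/-! ### the two orbits -/

/-- membership in the shorter orbit -/
def PA (v : V6) : Prop := Chk.isA (code v) = true

/-- nonzero isotropic -/
def PI (v : V6) : Prop := Chk.isI (code v) = true

instance : DecidablePred PA := fun _ => inferInstanceAs (Decidable (_ = _))
instance : DecidablePred PI := fun _ => inferInstanceAs (Decidable (_ = _))

theorem herm_self : ∀ v : V6, herm v v = (if Chk.wt (code v) % 2 = 0 then 0 else 1) := by
  intro v
  have hd : ∀ i : Fin 6, Nat.beq (Chk.digit (code v) i.val) 0 = decide (v i = 0) := by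
    intro i
    have h := vecOf_eq (code v) (code_lt v) i
    rw [vecOf_code] at h
    rw [h]
    have : ∀ d < 4, Nat.beq d 0 = decide (F4.ofN d = 0) := by decide +kernel
    exact this _ (digit_lt _ _)
  have hn : ∀ x : F4, star x * x = if x = 0 then 0 else 1 := by decide +kernel
  have hw : Chk.wt (code v) = (Finset.univ.filter fun i : Fin 6 => v i ≠ 0).card := by
    rw [Chk.wt, show List.range 6 = [0, 1, 2, 3, 4, 5] from rfl]
    have h0 := hd 0; have h1 := hd 1; have h2 := hd 2; have h3 := hd 3; have h4 := hd 4; have h5 := hd 5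
    simp only [Fin.val_zero, Fin.val_one, Fin.isValue] at h0 h1 h2 h3 h4 h5
    rw [Finset.card_filter, Fin.sum_univ_six]
    simp only [List.filter, h0, h1, show Nat.beq (Chk.digit (code v) 2) 0 = _ from h2,
      show Nat.beq (Chk.digit (code v) 3) 0 = _ from h3, show Nat.beq (Chk.digit (code v) 4) 0 = _ from h4,
      show Nat.beq (Chk.digit (code v) 5) 0 = _ from h5]
    by_cases a : v 0 = 0 <;> by_cases b : v 1 = 0 <;> by_cases c : v 2 = 0 <;> by_cases d : v 3 = 0 <;>
      by_cases e : v 4 = 0 <;> by_cases f : v 5 = 0 <;> simp [a, b, c, d, e, f]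
  rw [hw, show herm v v = ∑ i, star (v i) * v i from rfl, Finset.sum_congr rfl (fun i _ => hn (v i)),
    Finset.sum_ite, Finset.sum_const_zero, zero_add, Finset.sum_const]
  generalize (Finset.univ.filter fun i : Fin 6 => ¬ v i = 0).card = m
  rcases Nat.even_or_odd m with h | h
  · obtain ⟨r, rfl⟩ := h
    rw [if_pos (by omega), nsmul_one, Nat.cast_add]
    generalize (r : F4) = x; revert x; decide +kernel
  · obtain ⟨r, rfl⟩ := h
    rw [if_neg (by omega), nsmul_one, Nat.cast_add, Nat.cast_mul, Nat.cast_one]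
    generalize (r : F4) = x; revert x; decide +kernel

theorem PI_iff (v : V6) : PI v ↔ v ≠ 0 ∧ herm v v = 0 := by
  have h0 : code (0 : V6) = 0 := by decide +kernel
  rw [PI, Chk.isI, herm_self]
  simp only [Bool.and_eq_true, Bool.not_eq_true']
  refine and_congr ?_ ?_
  · rw [← Bool.not_eq_true]
    exact not_congr ⟨fun h => code_inj ((Nat.eq_of_beq_eq_true h).trans h0.symm),
      fun h => by rw [h, h0]; rfl⟩
  · split_ifs with h
    · exact ⟨fun _ => rfl, fun _ => by rw [h]; rfl⟩
    · exact ⟨fun h' => absurd (Nat.eq_of_beq_eq_true h') h, fun h' => absurd h' (by decide +kernel)⟩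

theorem inv_chk (k : ℕ) (hk : k < 4096) : Chk.invOK k = true := by
  by_cases h1 : k < 1024
  · exact all_range (p := Chk.invOK) Chk.inv0 (Nat.zero_le _) (by omega)
  by_cases h2 : k < 2048
  · exact all_range (p := Chk.invOK) Chk.inv1 (by omega) (by omega)
  by_cases h3 : k < 3072
  · exact all_range (p := Chk.invOK) Chk.inv2 (by omega) (by omega)
  exact all_range (p := Chk.invOK) Chk.inv3 (by omega) (by omega)

theorem tree_chk (k : ℕ) (hk : k < 4096) : Chk.treeOK k = true := by
  by_cases h1 : k < 1024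
  · exact all_range (p := Chk.treeOK) Chk.tree0 (Nat.zero_le _) (by omega)
  by_cases h2 : k < 2048
  · exact all_range (p := Chk.treeOK) Chk.tree1 (by omega) (by omega)
  by_cases h3 : k < 3072
  · exact all_range (p := Chk.treeOK) Chk.tree2 (by omega) (by omega)
  exact all_range (p := Chk.treeOK) Chk.tree3 (by omega) (by omega)

/-- maps preserving both predicates -/
def Pres : Subgroup PV where
  carrier := {p | ∀ v, (PA (p v) ↔ PA v) ∧ (PI (p v) ↔ PI v)}
  one_mem' := fun _ => ⟨Iff.rfl, Iff.rfl⟩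
  mul_mem' {a b} ha hb v := ⟨(ha (b v)).1.trans (hb v).1, (ha (b v)).2.trans (hb v).2⟩
  inv_mem' {a} ha v := by
    have h := ha (a⁻¹ v)
    rw [show a (a⁻¹ v) = v from a.apply_symm_apply v] at h
    exact ⟨h.1.symm, h.2.symm⟩

theorem pres_of_code {p : PV} {L : List ℕ} (hL : L ∈ Dat.colD ++ Dat.colE)
    (hp : ∀ v, code (p v) = Chk.app L (code v)) : p ∈ Pres := fun v => by
  have h := inv_chk (code v) (code_lt v)
  simp only [Chk.invOK, List.all_eq_true] at h
  have h2 := h L hL
  simp only [Chk.invOK1, Bool.and_eq_true, beq_iff_eq] at h2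
  simp only [PA, PI, hp, h2, and_self]

theorem en_mem (s : Fin 3) : Chk.en s.val ∈ Dat.colD ++ Dat.colE := by
  refine List.mem_append_right _ ?_
  have hl : s.val < Dat.colE.length := lt_of_lt_of_eq s.2 (by decide +kernel)
  rw [Chk.en, List.getD_eq_getElem _ _ hl]
  exact List.getElem_mem _

theorem Gam_le_Pres : Gam ≤ Pres := by
  have hK : Kp ≤ Pres := by
    rintro _ ⟨A, hA, rfl⟩
    induction hA using Subgroup.closure_induction with
    | mem x hx =>
      obtain ⟨s, rfl⟩ := hx
      refine pres_of_code (L := Chk.gn s.val) (List.mem_append_left _ ?_) (gk_code s)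
      have hl : s.val < Dat.colD.length := lt_of_lt_of_eq s.2 (by decide +kernel)
      rw [Chk.gn, List.getD_eq_getElem _ _ hl]
      exact List.getElem_mem _
    | one => rw [map_one]; exact one_mem _
    | mul x y _ _ ihx ihy => rw [map_mul]; exact mul_mem ihx ihy
    | inv x _ ih => rw [map_inv]; exact inv_mem ih
  rintro p (hp | hp)
  · exact hK hp
  · rw [show p = (eo 0)⁻¹ * (eo 0 * p) by group]
    exact mul_mem (inv_mem (pres_of_code (en_mem 0) (eo_code 0))) (hK hp)

/-- representative of the shorter orbit -/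
def va : V6 := SUSix.vecOf 5

/-- representative of the longer orbit -/
def vb : V6 := SUSix.vecOf 85

theorem PA_va : PA va ∧ PI va ∧ ¬ PA vb ∧ PI vb ∧ code va = 5 ∧ code vb = 85 := by
  unfold PA PI va vb; decide +kernel

/-- transitivity on both orbits -/
theorem trans {v : V6} (hv : PI v) :
    (PA v → ∃ p ∈ Kp, p va = v) ∧ (¬ PA v → ∃ p ∈ Kp, p vb = v) := by
  have key : ∀ n, ∀ k < 4096, fld Dat.treeD 16 k ≤ n → Chk.isI k = true →
      ∃ p ∈ Kp, p (if Chk.isA k then va else vb) = SUSix.vecOf k := by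
    intro n
    induction n using Nat.strong_induction_on with
    | _ n ih =>
      intro k hk hn hI
      have h := tree_chk k hk
      simp only [Chk.treeOK, hI, Bool.not_true, Bool.false_or, Bool.or_eq_true, Bool.and_eq_true, beq_iff_eq] at h
      rcases h with (h | h) | ⟨⟨⟨⟨⟨hg, hP⟩, happ⟩, hd⟩, hIp⟩, hA⟩
      · rw [Nat.eq_of_beq_eq_true h]
        exact ⟨1, one_mem _, by rw [if_pos (by decide +kernel)]; rfl⟩
      · rw [Nat.eq_of_beq_eq_true h]
        exact ⟨1, one_mem _, by rw [if_neg (by decide +kernel)]; rfl⟩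
      · have hg' := Nat.le_of_ble_eq_true hg
        have hP' := Nat.le_of_ble_eq_true hP
        have hd' := Nat.le_of_ble_eq_true hd
        obtain ⟨p, hp, hpv⟩ := ih (fld Dat.treeD 16 (fld Dat.treeP 16 k)) (by omega) _ (by omega) le_rfl hIp
        refine ⟨act (gk ⟨fld Dat.treeG 16 k, by omega⟩) * p, mul_mem ⟨_, U43.gk_mem _, rfl⟩ hp, code_inj ?_⟩
        rw [← hA, Equiv.Perm.mul_apply, hpv, gk_code, code_vecOf _ (by omega), code_vecOf _ hk]
        exact Nat.eq_of_beq_eq_true happ
  obtain ⟨p, hp, hpv⟩ := key _ (code v) (code_lt v) le_rfl hv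
  rw [vecOf_code] at hpv
  constructor <;> intro h
  · exact ⟨p, hp, by rwa [if_pos (show Chk.isA (code v) = true from h)] at hpv⟩
  · exact ⟨p, hp, by rwa [if_neg (show ¬ Chk.isA (code v) = true from h)] at hpv⟩

end Cfsg.Agent.Spor.LFT
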