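import Cfsg.Agent.Lib.Spor.LFTTCentQuot

/-!
Every automorphism of the subgroup of index two is a conjugation in the centraliser.
-/

set_option autoImplicit false
set_option maxRecDepth 100000
set_option linter.unusedSectionVars false
set_option maxHeartbeats 800000

namespace Cfsg.Agent.Spor.LFT

open scoped commutatorElement

universe u

theorem card_aut_fi : Nat.card (MulAut Cfsg.Spor.Fi22) = 2 * 64561751654400 := by
  obtain ⟨hs, hc⟩ := Cfsg.Agent.S1696.result
  haveI := hs
  have hcen : Subgroup.center Cfsg.Spor.Fi22 = ⊥ := by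
    refine ((inferInstance : (Subgroup.center Cfsg.Spor.Fi22).Normal).eq_bot_or_eq_top).resolve_right fun h => ?_
    haveI : IsMulCommutative Cfsg.Spor.Fi22 := ⟨⟨fun a b => Subgroup.mem_center_iff.1 (h ▸ Subgroup.mem_top b) a⟩⟩
    letI : CommGroup Cfsg.Spor.Fi22 := { (inferInstance : Group Cfsg.Spor.Fi22) with
      mul_comm := fun a b => Subgroup.mem_center_iff.1 (h ▸ Subgroup.mem_top b) a }
    haveI : Finite Cfsg.Spor.Fi22 := Nat.finite_of_card_ne_zero (by rw [hc]; norm_num)
    have hp := (IsSimpleGroup.prime_card (α := Cfsg.Spor.Fi22))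
    rw [hc] at hp
    exact absurd hp (fun hp => by
      have := hp.eq_one_or_self_of_dvd 2 ⟨32280875827200, by norm_num⟩
      omega)
  have hinj : Function.Injective (MulAut.conj : Cfsg.Spor.Fi22 →* MulAut Cfsg.Spor.Fi22) :=
    (injective_iff_map_eq_one _).2 fun x hx => Subgroup.mem_bot.1 (hcen ▸ Subgroup.mem_center_iff.2 fun w => by
      have e := DFunLike.congr_fun hx w
      rw [MulAut.conj_apply, MulAut.one_apply] at e
      exact (mul_inv_eq_iff_eq_mul.1 e).symm)
  rw [← Subgroup.index_mul_card (Cfsg.Inn Cfsg.Spor.Fi22),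
    ← Nat.card_congr (MonoidHom.ofInjective hinj).toEquiv, hc]
  exact congrArg (· * _) Cfsg.Agent.S2079.result

/-- automorphisms of a perfect group inducing the identity modulo the centre are trivial -/
theorem aut_trivial {K : Type u} [Group K] (hp : commutator K = ⊤) (φ : MulAut K)
    (h : ∀ k, k⁻¹ * φ k ∈ Subgroup.center K) : φ = 1 := by
  let χ : K →* Subgroup.center K := MonoidHom.mk' (fun k => ⟨k⁻¹ * φ k, h k⟩) fun a b => Subtype.ext (by
    show (a * b)⁻¹ * φ (a * b) = a⁻¹ * φ a * (b⁻¹ * φ b)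
    have hc := Subgroup.mem_center_iff.1 (h a) b⁻¹
    calc (a * b)⁻¹ * φ (a * b) = b⁻¹ * (a⁻¹ * φ a) * φ b := by rw [map_mul]; group
      _ = a⁻¹ * φ a * b⁻¹ * φ b := by rw [hc]
      _ = _ := by group)
  have hker : commutator K ≤ χ.ker := by
    rw [commutator_def, Subgroup.commutator_le]
    intro a _ b _
    rw [MonoidHom.mem_ker, map_commutatorElement, commutatorElement_eq_one_iff_mul_comm]
    exact Subtype.ext (Subgroup.mem_center_iff.1 (χ b).2 _)
  refine MulEquiv.ext fun k => ?_
  have := congrArg Subtype.val (hker (hp ▸ Subgroup.mem_top k) : χ k = 1)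
  exact (inv_mul_eq_one.1 this).symm

variable {G : Type u} [Group G] [Finite G] {t t' : G} {K : Subgroup ↥(Subgroup.centralizer ({t} : Set G))}

theorem TK.aut_inner (hK : TK t t' K) (ht1 : t ≠ 1) (ht2 : t * t = 1) (β : MulAut ↥K) :
    ∃ c : ↥(Subgroup.centralizer ({t} : Set G)), ∀ k : ↥K,
      (c : G) * ((k : ↥(Subgroup.centralizer ({t} : Set G))) : G) * (c : G)⁻¹ =
        ((β k : ↥(Subgroup.centralizer ({t} : Set G))) : G) := by
  classical
  haveI : K.Normal := Subgroup.normal_of_index_eq_two hK.index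
  obtain ⟨eF⟩ := hK.fi
  let χ : ↥(Subgroup.centralizer ({t} : Set G)) →* MulAut ↥K := MulAut.conjNormal
  have hker : Nat.card ↥χ.ker ≤ 2 := by
    have hmem : ∀ c : ↥χ.ker, ((c : ↥(Subgroup.centralizer ({t} : Set G))) : G) ∈ Subgroup.zpowers t := by
      intro c
      have hc : (c : ↥(Subgroup.centralizer ({t} : Set G))) ∈
          Subgroup.centralizer (K : Set ↥(Subgroup.centralizer ({t} : Set G))) := by
        refine Subgroup.mem_centralizer_iff.2 fun k hk => ?_
        have e := congrArg Subtype.val (DFunLike.congr_fun (MonoidHom.mem_ker.1 c.2) ⟨k, hk⟩)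
        rw [MulAut.conjNormal_apply] at e
        exact (mul_inv_eq_iff_eq_mul.1 e).symm
      refine (hK.center ⟨_, hK.cent hc⟩).1 (Subgroup.mem_center_iff.2 fun k => Subtype.ext ?_)
      exact Subgroup.mem_centralizer_iff.1 hc _ k.2
    calc Nat.card ↥χ.ker ≤ Nat.card ↥(Subgroup.zpowers t) :=
          Nat.card_le_card_of_injective (fun c => ⟨_, hmem c⟩) fun a b e =>
            Subtype.ext (Subtype.ext (Subtype.mk.inj e))
      _ = 2 := by rw [Nat.card_zpowers, orderOf_eq_prime (p := 2) (by rw [pow_two]; exact ht2) ht1]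
  have hrange : 2 * 64561751654400 ≤ Nat.card ↥χ.range := by
    have h := Subgroup.index_mul_card χ.ker
    rw [Subgroup.index_ker, hK.card] at h
    have := Nat.mul_le_mul_left (Nat.card ↥χ.range) hker
    omega
  have hcomap : ∀ φ : MulAut ↥K, (Subgroup.center ↥K).map φ.toMonoidHom = Subgroup.center ↥K := by
    intro φ
    ext x
    obtain ⟨x, rfl⟩ := φ.surjective x
    rw [show φ x ∈ (Subgroup.center ↥K).map φ.toMonoidHom ↔ x ∈ Subgroup.center ↥K from
      Subgroup.mem_map_iff_mem (f := φ.toMonoidHom) φ.injective, Subgroup.mem_center_iff, Subgroup.mem_center_iff]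
    refine ⟨fun h w => ?_, fun h w => φ.injective ?_⟩
    · obtain ⟨w, rfl⟩ := φ.surjective w
      rw [← map_mul, ← map_mul, h]
    · rw [map_mul, map_mul]; exact h _
  let q : MulAut ↥K → MulAut (↥K ⧸ Subgroup.center ↥K) := fun φ => QuotientGroup.congr _ _ φ (hcomap φ)
  have hq : Function.Injective q := fun φ φ' e => by
    have h1 : φ⁻¹ * φ' = 1 := aut_trivial hK.qs.1.commutator_eq_top _ fun k => by
      have e' : (QuotientGroup.mk (φ k) : ↥K ⧸ Subgroup.center ↥K) = QuotientGroup.mk (φ' k) :=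
        DFunLike.congr_fun e (QuotientGroup.mk k)
      rw [QuotientGroup.eq] at e'
      rw [← hcomap φ] at e'
      obtain ⟨w, hw, hwe⟩ := e'
      have : w = k⁻¹ * (φ⁻¹ * φ') k := φ.injective (by
        rw [show φ w = (φ k)⁻¹ * φ' k from hwe, map_mul, map_inv, MulAut.mul_apply]
        simp)
      exact this ▸ hw
    exact inv_mul_eq_one.1 h1
  haveI : Finite ↥K := inferInstance
  haveI : Finite (MulAut (↥K ⧸ Subgroup.center ↥K)) :=
    Finite.of_injective (fun φ => (φ : ↥K ⧸ Subgroup.center ↥K → ↥K ⧸ Subgroup.center ↥K)) DFunLike.coe_injective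
  haveI : Finite (MulAut ↥K) := Finite.of_injective q hq
  have htop : χ.range = ⊤ := by
    refine Subgroup.eq_top_of_le_card _ ?_
    refine ((Nat.card_le_card_of_injective q hq).trans ?_).trans hrange
    rw [Nat.card_congr (MulAut.congr eF).toEquiv, card_aut_fi]
  obtain ⟨c, hc⟩ : β ∈ χ.range := htop ▸ Subgroup.mem_top β
  exact ⟨c, fun k => congrArg (fun v : ↥K => ((v : ↥(Subgroup.centralizer ({t} : Set G))) : G)) (DFunLike.congr_fun hc k)⟩

end Cfsg.Agent.Spor.LFT
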