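import Cfsg.Agent.Lib.Spor.LFTOuterMain
import Cfsg.Agent.Lib.Spor.CentFi22.Main

/-!
The involution outside: the group inside it centralizes is recognised from the centraliser of the inner involution.
-/

set_option autoImplicit false
set_option maxRecDepth 100000
set_option linter.unusedSectionVars false
set_option maxHeartbeats 800000

namespace Cfsg.Agent.Spor.LFT

universe u

variable {X : Type u} [Group X] [Finite X] {G₀ : Subgroup X}

/-- the inclusion into the subgroup of index two -/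
def inclY (d : X) : ↥(G₀ ⊓ Subgroup.centralizer ({d} : Set X)) →* ↥G₀ :=
  Subgroup.inclusion inf_le_left

theorem inclY_injective (d : X) : Function.Injective (inclY (G₀ := G₀) d) :=
  Subgroup.inclusion_injective _

/-- the subgroup is the centraliser inside -/
theorem exists_centEquiv {d : X} {tY : ↥(G₀ ⊓ Subgroup.centralizer ({d} : Set X))} {t : ↥G₀}
    (ht : inclY d tY = t) (K : Subgroup ↥(Subgroup.centralizer ({t} : Set ↥G₀)))
    (h1 : ∀ g : ↥G₀, g ∈ amb K → Commute g t ∧ Commute d (g : X))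
    (h2 : ∀ g : ↥G₀, Commute g t → Commute d (g : X) → g ∈ amb K) :
    ∃ ε : ↥K ≃* ↥(Subgroup.centralizer ({tY} : Set ↥(G₀ ⊓ Subgroup.centralizer ({d} : Set X)))),
      ∀ k : ↥K, inclY d (ε k : ↥(G₀ ⊓ Subgroup.centralizer ({d} : Set X))) = ((k : ↥(Subgroup.centralizer ({t} : Set ↥G₀))) : ↥G₀) := by
  have hmem : ∀ k : ↥K, (((k : ↥(Subgroup.centralizer ({t} : Set ↥G₀))) : ↥G₀) : X) ∈
      G₀ ⊓ Subgroup.centralizer ({d} : Set X) := fun k =>
    ⟨SetLike.coe_mem _, Subgroup.mem_centralizer_singleton_iff.2 (h1 _ (Subgroup.mem_map_of_mem _ k.2)).2.eq.symm⟩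
  have hcent : ∀ k : ↥K, (⟨_, hmem k⟩ : ↥(G₀ ⊓ Subgroup.centralizer ({d} : Set X))) ∈
      Subgroup.centralizer ({tY} : Set ↥(G₀ ⊓ Subgroup.centralizer ({d} : Set X))) := fun k =>
    Subgroup.mem_centralizer_singleton_iff.2 (inclY_injective d (by
      rw [map_mul, map_mul, ht]
      exact (h1 _ (Subgroup.mem_map_of_mem _ k.2)).1.eq))
  let φ : ↥K →* ↥(Subgroup.centralizer ({tY} : Set ↥(G₀ ⊓ Subgroup.centralizer ({d} : Set X)))) :=
    { toFun := fun k => ⟨⟨_, hmem k⟩, hcent k⟩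
      map_one' := rfl
      map_mul' := fun _ _ => rfl }
  refine ⟨MulEquiv.ofBijective φ ⟨fun a b h => ?_, fun y => ?_⟩, fun _ => rfl⟩
  · exact Subtype.ext (Subtype.ext (Subtype.ext
      (congrArg (fun w => (((w : ↥(Subgroup.centralizer ({tY} : Set ↥(G₀ ⊓ Subgroup.centralizer ({d} : Set X))))) :
        ↥(G₀ ⊓ Subgroup.centralizer ({d} : Set X))) : X)) h :)))
  · have hy : inclY d y.1 ∈ amb K := h2 _ (by
      have h := congrArg (inclY d) (Subgroup.mem_centralizer_singleton_iff.1 y.2)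
      rwa [map_mul, map_mul, ht] at h) (Subgroup.mem_centralizer_singleton_iff.1 y.1.2.2).symm
    obtain ⟨k, hk, e⟩ := hy
    exact ⟨⟨k, hk⟩, Subtype.ext (Subtype.ext (congrArg Subtype.val e :))⟩

/-- the conclusion -/
theorem Setup.outer_main {z : ↥G₀} {Q N M : Subgroup ↥G₀} (S : Setup z Q N M) (hidx : G₀.index = 2)
    (hself : ∀ d : X, Commute d (z : X) → (∀ r ∈ Q, Commute d (r : X)) → d ∈ G₀) :
    ∃ d : X, orderOf d = 2 ∧ d ∉ G₀ ∧ Commute d (z : X) ∧ ∃ t : ↥(G₀ ⊓ Subgroup.centralizer ({d} : Set X)),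
      orderOf t = 2 ∧
      Cfsg.IsQuasisimple ↥(Subgroup.centralizer ({t} : Set ↥(G₀ ⊓ Subgroup.centralizer ({d} : Set X)))) ∧
      (∃ (_ : ((Subgroup.zpowers t).subgroupOf
          (Subgroup.centralizer ({t} : Set ↥(G₀ ⊓ Subgroup.centralizer ({d} : Set X))))).Normal),
        (∃ E : Set (↥(Subgroup.centralizer ({t} : Set ↥(G₀ ⊓ Subgroup.centralizer ({d} : Set X)))) ⧸
            (Subgroup.zpowers t).subgroupOf
              (Subgroup.centralizer ({t} : Set ↥(G₀ ⊓ Subgroup.centralizer ({d} : Set X))))),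
          Cfsg.IsThreeTranspositionClass E ∧ Cfsg.IsOfTypeM22 _ E) ∧
        HasU62 (↥(Subgroup.centralizer ({t} : Set ↥(G₀ ⊓ Subgroup.centralizer ({d} : Set X)))) ⧸
            (Subgroup.zpowers t).subgroupOf
              (Subgroup.centralizer ({t} : Set ↥(G₀ ⊓ Subgroup.centralizer ({d} : Set X)))))) ∧
      (∃ g : ↥(G₀ ⊓ Subgroup.centralizer ({d} : Set X)),
        g * t * g⁻¹ ∈ Subgroup.centralizer ({t} : Set ↥(G₀ ⊓ Subgroup.centralizer ({d} : Set X))) ∧ g * t * g⁻¹ ≠ t) ∧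
      Cfsg.IsThreeTranspositionClass (conjugatesOf t) ∧
      Cfsg.IsOfTypeM23 ↥(G₀ ⊓ Subgroup.centralizer ({d} : Set X)) (conjugatesOf t) := by
  obtain ⟨d, t, y, t', K, hK, t2, t1, hdd, hdG, hdz, hdy, h1, h2, hy1, ht'K, hne⟩ := S.exists_transposition hidx hself
  have htK : t ∈ amb K :=
    ⟨⟨t, Subgroup.mem_centralizer_singleton_iff.2 rfl⟩, hK.tK _ rfl, rfl⟩
  have hdd2 : orderOf d = 2 := orderOf_eq_prime (by rw [pow_two]; exact hdd) (fun e => hdG (e ▸ one_mem _))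
  obtain ⟨tY, htY⟩ : ∃ tY : ↥(G₀ ⊓ Subgroup.centralizer ({d} : Set X)), inclY d tY = t :=
    ⟨⟨(t : X), t.2, Subgroup.mem_centralizer_singleton_iff.2 (h1 t htK).2.eq.symm⟩, rfl⟩
  obtain ⟨yY, hyY⟩ : ∃ yY : ↥(G₀ ⊓ Subgroup.centralizer ({d} : Set X)), inclY d yY = y :=
    ⟨⟨(y : X), y.2, Subgroup.mem_centralizer_singleton_iff.2 hdy.eq.symm⟩, rfl⟩
  have htY2 : orderOf tY = 2 := by
    rw [← orderOf_injective (inclY d) (inclY_injective d), htY]
    exact orderOf_eq_prime (by rw [pow_two]; exact t2) t1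
  refine ⟨d, hdd2, hdG, hdz, tY, htY2, ?_⟩
  obtain ⟨ε, hε⟩ := exists_centEquiv htY K h1 h2
  have hq := Local.isQuasisimple_congr ε hK.qs
  haveI hzn : ((Subgroup.zpowers tY).subgroupOf
      (Subgroup.centralizer ({tY} : Set ↥(G₀ ⊓ Subgroup.centralizer ({d} : Set X))))).Normal := ⟨fun n hn g => by
    have e' : g * n * g⁻¹ = n := Subtype.ext (by
      obtain ⟨m, hm⟩ := Subgroup.mem_zpowers_iff.1 hn
      show (g : ↥(G₀ ⊓ Subgroup.centralizer ({d} : Set X))) * n * (g : ↥(G₀ ⊓ Subgroup.centralizer ({d} : Set X)))⁻¹ = n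
      have hm' : tY ^ m = (n : ↥(G₀ ⊓ Subgroup.centralizer ({d} : Set X))) := hm
      rw [← hm', ((show Commute (g : ↥(G₀ ⊓ Subgroup.centralizer ({d} : Set X))) tY from
        Subgroup.mem_centralizer_singleton_iff.1 g.2).zpow_right m).eq, mul_inv_cancel_right])
    rwa [e']⟩
  have hmap : (Subgroup.center ↥K).map ε.toMonoidHom = (Subgroup.zpowers tY).subgroupOf
      (Subgroup.centralizer ({tY} : Set ↥(G₀ ⊓ Subgroup.centralizer ({d} : Set X)))) := by
    ext w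
    obtain ⟨k, rfl⟩ := ε.surjective w
    change ε.toMonoidHom k ∈ _ ↔ _
    rw [Subgroup.mem_map_iff_mem (f := ε.toMonoidHom) ε.injective, hK.center, Subgroup.mem_subgroupOf, ← hε k,
      Subgroup.mem_zpowers_iff, Subgroup.mem_zpowers_iff]
    exact exists_congr fun m => ⟨fun h => inclY_injective d (by rw [map_zpow, htY]; exact h),
      fun h => by have h' := congrArg (inclY d) h; rwa [map_zpow, htY] at h'⟩
  let eQ := QuotientGroup.congr (Subgroup.center ↥K) _ ε hmap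
  obtain ⟨eFi⟩ := hK.fi
  have hU := HasU62.congr eQ hK.u62
  have hnwc : ∃ g : ↥(G₀ ⊓ Subgroup.centralizer ({d} : Set X)),
      g * tY * g⁻¹ ∈ Subgroup.centralizer ({tY} : Set ↥(G₀ ⊓ Subgroup.centralizer ({d} : Set X))) ∧
        g * tY * g⁻¹ ≠ tY := by
    have e : inclY d (yY * tY * yY⁻¹) = t' := by rw [map_mul, map_mul, map_inv, hyY, htY, hy1]
    refine ⟨yY, Subgroup.mem_centralizer_singleton_iff.2 (inclY_injective d ?_), fun h => hne ?_⟩
    · rw [map_mul (inclY d) _ tY, map_mul (inclY d) tY, e, htY]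
      exact (h1 t' ht'K).1.eq
    · rw [← e, h, htY]
  have hU' := hU
  obtain ⟨d', hd', hq', ⟨F, iF, iT, hF, hn', ⟨φ⟩⟩, hnwc'⟩ := hU'
  haveI := hn'
  obtain ⟨hc22, ht22, -⟩ := CentU62.main d' hd' hq'.1.commutator_eq_top F hF φ hnwc'
  obtain ⟨hc, ht23, -⟩ := CentFi22.main tY htY2 hq.1.commutator_eq_top ⟨eQ.symm.trans eFi⟩ hnwc
  exact ⟨hq, ⟨hzn, ⟨_, hc22, ht22⟩, hU⟩, hnwc, hc, ht23⟩

end Cfsg.Agent.Spor.LFT
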