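import Cfsg.Agent.Lib.Spor.LFTTCentMain

/-!
What is needed of the local structure for the outer involution: the centraliser of the central involution has
another order, involutions of largest elementary abelian subgroups have two classes, and two involutions with an
element exchanging them.
-/

set_option autoImplicit false
set_option maxRecDepth 100000
set_option linter.unusedSectionVars false
set_option maxHeartbeats 800000

namespace Cfsg.Agent.Spor.LFT

open Cfsg.Agent.Spor.SpFour (F4)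
open Cfsg (GolayPt)

universe u

variable {G : Type u} [Group G] [Finite G] {z : G} {Q N M : Subgroup G}

/-- a perfect subgroup of the centraliser is in the subgroup of index two -/
theorem perfect_le_TK {t t' : G} {K : Subgroup ↥(Subgroup.centralizer ({t} : Set G))} (hK : TK t t' K)
    {L : Subgroup G} (hL : ⁅L, L⁆ = L) (hle : ∀ x ∈ L, Commute x t) :
    L ≤ K.map (Subgroup.centralizer ({t} : Set G)).subtype := by
  have hLC : L ≤ Subgroup.centralizer ({t} : Set G) := fun x hx =>
    Subgroup.mem_centralizer_singleton_iff.2 (hle x hx).eq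
  rw [← hL, Subgroup.commutator_le]
  intro a ha b hb
  refine ⟨⟨a, hLC ha⟩ * ⟨b, hLC hb⟩ * (⟨a, hLC ha⟩ : ↥(Subgroup.centralizer ({t} : Set G)))⁻¹ * (⟨b, hLC hb⟩)⁻¹, ?_, rfl⟩
  rw [SetLike.mem_coe, Subgroup.mul_mem_iff_of_index_two hK.index, Subgroup.mul_mem_iff_of_index_two hK.index,
    Subgroup.mul_mem_iff_of_index_two hK.index, inv_mem_iff, inv_mem_iff]
  tauto

variable (S : Setup z Q N M)

include S

theorem Setup.card_cent : Nat.card ↥(Subgroup.centralizer ({z} : Set G)) = 8192 * 19595520 := by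
  obtain ⟨f⟩ := S.hyp.exists_frame
  rw [← Subgroup.index_mul_card f.π.ker, Subgroup.index_ker,
    show f.π.range = Gam from Subgroup.ext fun p => (S.range_pi f p).symm, card_Gam, mul_comm,
    show f.π.ker = Q.subgroupOf (Subgroup.centralizer ({z} : Set G)) from Subgroup.ext fun c => (f.ker c),
    Nat.card_congr (Subgroup.subgroupOfEquivOfLe (show Q ≤ Subgroup.centralizer ({z} : Set G) from fun r hr =>
      Subgroup.mem_centralizer_singleton_iff.2 (S.hyp.qz hr))).toEquiv, S.hyp.cardQ]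
  norm_num

/-- the involution of the first kind has another centraliser order -/
theorem Setup.card_ne {t t' : G} {K : Subgroup ↥(Subgroup.centralizer ({t} : Set G))} (hK : TK t t' K) :
    Nat.card ↥(Subgroup.centralizer ({z} : Set G)) ≠ Nat.card ↥(Subgroup.centralizer ({t} : Set G)) := by
  rw [S.card_cent, hK.card]
  norm_num

/-- an involution of a largest elementary abelian subgroup -/
theorem Setup.elem_class {w : G} (hw : w ∈ Q) (w2 : w * w = 1) (w1 : w ≠ 1) (hwn : ¬ IsConj z w) {B : Subgroup G}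
    (hB : Cfsg.IsElementaryAbelian 2 B) (hBc : Nat.card B = 2 ^ 11) {r : G} (hr : r ∈ B) (r1 : r ≠ 1) :
    IsConj z r ∨ IsConj w r := by
  haveI : Fact (Nat.Prime 2) := ⟨Nat.prime_two⟩
  obtain ⟨P, hP⟩ := (IsPGroup.of_card hBc).exists_le_sylow
  obtain ⟨hJe, hJc, -, -, w', hw', -, -, -, hw'n, hcl⟩ := S.thompson P
  have hBJ : B = Cfsg.thompsonSubgroupOf 2 (P : Subgroup G) :=
    S.big_unique P.isPGroup' hP (Subgroup.map_subtype_le _) hB hJe hBc.ge hJc.ge
  -- the class of the given element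
  obtain ⟨f⟩ := S.hyp.exists_frame
  obtain ⟨t, t', A, ψ, a, b, c, C⟩ := S.exists_corner f
  obtain ⟨x, g, l⟩ := S.exists_Line f
  have htz : t ≠ z := fun e => C.P.nc (e ▸ IsConj.refl z)
  have htw : IsConj t w := (l.inv_class S C.P.tQ C.P.sq (C.P.ne_all S).1 htz C.P.pa hw w2 w1).resolve_left hwn
  have hAc : Nat.card A = 2 ^ 11 := by
    have : Function.Bijective fun n : Fin 2048 => (⟨ψ n, C.model.mem _ n.2⟩ : ↥A) := by
      refine ⟨fun i j h => Fin.ext (C.model.inj _ _ i.2 j.2 (congrArg Subtype.val h)), fun v => ?_⟩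
      obtain ⟨n, hn, e⟩ := C.model.surj v.1 v.2
      exact ⟨⟨n, hn⟩, Subtype.ext e⟩
    rw [← Nat.card_eq_of_bijective _ this, Nat.card_eq_fintype_card, Fintype.card_fin]
    norm_num
  have htA : t ∈ A := C.et ▸ C.model.mem _ (phN_lt _)
  obtain ⟨P', hP'⟩ := (IsPGroup.of_card hAc).exists_le_sylow
  obtain ⟨hJe', hJc', -⟩ := S.thompson P'
  have hAJ : A = Cfsg.thompsonSubgroupOf 2 (P' : Subgroup G) :=
    S.big_unique P'.isPGroup' hP' (Subgroup.map_subtype_le _) C.elem hJe' hAc.ge hJc'.ge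
  -- carry the element to the first subgroup
  obtain ⟨h, hh⟩ := MulAction.exists_smul_eq G P' P
  have hAB : A.map (MulAut.conj h).toMonoidHom = B := by
    refine S.big_unique P.isPGroup' ?_ hP (elem_map _ C.elem) hB ?_ hBc.ge
    · rw [← hh, Sylow.coe_subgroup_smul]
      exact Subgroup.map_mono hP'
    · rw [Subgroup.card_map_of_injective (MulAut.conj h).injective, hAc]
  have htB : h * t * h⁻¹ ∈ B := hAB ▸ ⟨t, htA, rfl⟩
  have hc : IsConj t (h * t * h⁻¹) := isConj_iff.2 ⟨h, rfl⟩
  have hcl' := fun r (hr : r ∈ B) => hcl r (hBJ ▸ hr)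
  have h1 : IsConj w' (h * t * h⁻¹) := (hcl' _ htB fun e => (C.P.ne_all S).1 (conj_eq_one_iff.1 e)).resolve_left
    fun e => C.P.nc (e.trans hc.symm)
  exact (hcl' r hr r1).imp id fun e => (htw.symm.trans hc).trans (h1.symm.trans e)

/-- the configuration for the outer involution -/
theorem Setup.outer_config : ∃ t t' y : G, ∃ (f : Frame z Q M) (P : FPair f t t')
    (K : Subgroup ↥(Subgroup.centralizer ({t} : Set G))) (A : Subgroup G),
    TK t t' K ∧ y * t * y⁻¹ = t' ∧ y * t' * y⁻¹ = t ∧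
    Cfsg.IsElementaryAbelian 2 A ∧ Nat.card A = 2 ^ 11 ∧ t ∈ A ∧
    ⁅P.CE, P.CE⁆ = P.CE ∧ (∀ e ∈ P.CE, (∀ w ∈ P.CE, Commute e w) → e ∈ P.E) := by
  classical
  obtain ⟨f⟩ := S.hyp.exists_frame
  obtain ⟨t, t', A, ψ, a, b, c, C⟩ := S.exists_corner f
  obtain ⟨V, T⟩ := C.exists_tsign S
  obtain ⟨K, hK⟩ := T.data S
  obtain ⟨σ, hσ, hσv⟩ := Cfsg.Agent.Spor.M24_trans (k := 3) (by norm_num) (Tri.emb3 C.ab C.ac C.bc)
    (Tri.emb3 C.ac C.ab (Ne.symm C.bc))
  obtain ⟨y, hy, hyd⟩ := C.onto σ hσ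
  have e0 : σ a = a := hσv 0
  have e1 : σ b = c := hσv 1
  have e2 : σ c = b := hσv 2
  have hAc : Nat.card A = 2 ^ 11 := by
    have : Function.Bijective fun n : Fin 2048 => (⟨ψ n, C.model.mem _ n.2⟩ : ↥A) := by
      refine ⟨fun i j h => Fin.ext (C.model.inj _ _ i.2 j.2 (congrArg Subtype.val h)), fun v => ?_⟩
      obtain ⟨n, hn, e⟩ := C.model.surj v.1 v.2
      exact ⟨⟨n, hn⟩, Subtype.ext e⟩
    rw [← Nat.card_eq_of_bijective _ this, Nat.card_eq_fintype_card, Fintype.card_fin]
    norm_num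
  obtain ⟨hqs, ⟨φ⟩⟩ := C.P.main S C.move C.tder C.tder'
  refine ⟨t, t', y, f, C.P, K, A, hK, ?_, ?_, C.elem, hAc, C.et ▸ C.model.mem _ (phN_lt _), ?_, fun e he hall => ?_⟩
  · rw [C.et, hyd _ (Finset.card_pair C.ab), C.et']
    simp [Finset.smul_finset_insert, Finset.smul_finset_singleton, Equiv.Perm.smul_def, e0, e1]
  · rw [C.et', hyd _ (Finset.card_pair C.ac), C.et]
    simp [Finset.smul_finset_insert, Finset.smul_finset_singleton, Equiv.Perm.smul_def, e0, e2]
  · rw [← Subgroup.map_subtype_commutator, hqs.1.commutator_eq_top, ← MonoidHom.range_eq_map, Subgroup.range_subtype]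
  · haveI : IsSimpleGroup C.P.QX := φ.isSimpleGroup_congr.mpr (Cfsg.Agent.Small.Unitary.psu_simple
      SpFour.F4.star_eq_pow SpFour.F4.card_sq (n := 6) (by norm_num) (by omega))
    have hc : (⟨e, he⟩ : ↥C.P.CE) ∈ Subgroup.center ↥C.P.CE :=
      Subgroup.mem_center_iff.2 fun w => Subtype.ext (hall _ w.2).symm.eq
    let π := QuotientGroup.mk' (C.P.E.subgroupOf C.P.CE)
    rcases Subgroup.Normal.eq_bot_or_eq_top ((inferInstance : (Subgroup.center ↥C.P.CE).Normal).map π
      (QuotientGroup.mk'_surjective _)) with h | h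
    · have := Subgroup.mem_map_of_mem π hc
      rw [h, Subgroup.mem_bot] at this
      exact Subgroup.mem_subgroupOf.1 ((QuotientGroup.eq_one_iff _).1 this)
    · exfalso
      have hb : (commutator ↥C.P.CE).map π = ⊥ := by
        rw [eq_bot_iff, Subgroup.map_le_iff_le_comap, commutator_def, Subgroup.commutator_le]
        intro u _ v _
        rw [Subgroup.mem_comap, Subgroup.mem_bot, map_commutatorElement]
        obtain ⟨k, hk, ek⟩ : π v ∈ (Subgroup.center ↥C.P.CE).map π := h ▸ Subgroup.mem_top _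
        rw [← ek, ← map_commutatorElement, commutatorElement_eq_one_iff_mul_comm.2
          (Subgroup.mem_center_iff.1 hk u), map_one]
      rw [hqs.1.commutator_eq_top, Subgroup.map_top_of_surjective π (QuotientGroup.mk'_surjective _)] at hb
      exact top_ne_bot hb

end Cfsg.Agent.Spor.LFT
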