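import Cfsg.Agent.Lib.Spor.LFTOuterPair

/-!
The common involution outside: its centraliser inside meets the centraliser of the inner involution in the subgroup
of index two, and contains an element moving that involution.
-/

set_option autoImplicit false
set_option maxRecDepth 100000
set_option linter.unusedSectionVars false
set_option maxHeartbeats 800000

namespace Cfsg.Agent.Spor.LFT

universe u

variable {X : Type u} [Group X] [Finite X] {G₀ : Subgroup X}

theorem Setup.exists_transposition {z : ↥G₀} {Q N M : Subgroup ↥G₀} (S : Setup z Q N M) (hidx : G₀.index = 2)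
    (hself : ∀ d : X, Commute d (z : X) → (∀ r ∈ Q, Commute d (r : X)) → d ∈ G₀) :
    ∃ (d : X) (t y : ↥G₀) (t' : ↥G₀) (K : Subgroup ↥(Subgroup.centralizer ({t} : Set ↥G₀))),
      TK t t' K ∧ t * t = 1 ∧ t ≠ 1 ∧ d * d = 1 ∧ d ∉ G₀ ∧ Commute d (z : X) ∧ Commute d (y : X) ∧
      (∀ g : ↥G₀, g ∈ amb K → Commute g t ∧ Commute d (g : X)) ∧
      (∀ g : ↥G₀, Commute g t → Commute d (g : X) → g ∈ amb K) ∧
      y * t * y⁻¹ = t' ∧ t' ∈ amb K ∧ t' ≠ t := by
  classical
  haveI hn0 : G₀.Normal := Subgroup.normal_of_index_eq_two hidx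
  obtain ⟨t, t', y, f, P, K, A, hK, hy1, hy2, hA, hAc, htA, hperf, hcen⟩ := S.outer_config
  obtain ⟨t1, t'1, -, htt⟩ := P.ne_all S
  obtain ⟨x, hx⟩ : ∃ x : X, x ∉ G₀ := by
    by_contra h
    push Not at h
    rw [(Subgroup.eq_top_iff' G₀).2 h, Subgroup.index_top] at hidx
    omega
  obtain ⟨a, ha, hat, haK⟩ := S.outer_centralize hK P.tQ P.sq t1 P.nc hA hAc htA hx
  have htK : t ∈ amb K :=
    ⟨⟨t, Subgroup.mem_centralizer_singleton_iff.2 rfl⟩, hK.tK _ rfl, rfl⟩
  have ht'K : t' ∈ amb K :=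
    ⟨⟨t', Subgroup.mem_centralizer_singleton_iff.2 P.comm.symm.eq⟩, hK.uK _ rfl, rfl⟩
  have hCEK : P.CE ≤ amb K := perfect_le_TK hK hperf fun w hw => (P.mem_CE.1 hw).1
  -- the conjugated element
  obtain ⟨b, hb⟩ : ∃ b : X, b = (y : X) * a * (y : X)⁻¹ := ⟨_, rfl⟩
  have hbG : b ∉ G₀ := fun h => ha (by
    have := hn0.conj_mem b h (y : X)⁻¹
    rwa [hb, show (y : X)⁻¹ * ((y : X) * a * (y : X)⁻¹) * (y : X)⁻¹⁻¹ = a by group] at this)
  have hbK : ∀ k ∈ amb K, Commute b ((y * k * y⁻¹ : ↥G₀) : X) := fun k hk => by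
    rw [hb, Subgroup.coe_mul, Subgroup.coe_mul, Subgroup.coe_inv]
    exact (haK k hk).map (MulAut.conj (y : X))
  have hback : ∀ {w : ↥G₀}, Commute w t' → Commute (y⁻¹ * w * y) t := fun {w} hw => by
    have h := hw.map (MulAut.conj y⁻¹)
    rw [MulAut.conj_apply, MulAut.conj_apply, inv_inv, show y⁻¹ * t' * y = t by rw [← hy1]; group] at h
    exact h
  have hbCE : ∀ w ∈ P.CE, Commute b (w : X) := by
    intro w hw
    have hle : P.CE.map (MulAut.conj y⁻¹).toMonoidHom ≤ amb K := by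
      refine perfect_le_TK hK (by rw [← Subgroup.map_commutator, hperf]) ?_
      rintro _ ⟨v, hv, rfl⟩
      show Commute (y⁻¹ * v * y⁻¹⁻¹) t
      rw [inv_inv]
      exact hback (P.mem_CE.1 hv).2
    have h := hbK _ (hle ⟨w, hw, rfl⟩)
    rwa [show y * (MulAut.conj y⁻¹).toMonoidHom w * y⁻¹ = w by
      show y * (y⁻¹ * w * y⁻¹⁻¹) * y⁻¹ = w
      group] at h
  have hsqa : a * a = 1 ∨ a * a = (t : X) := by
    have hm : a * a ∈ G₀ := Subgroup.mul_self_mem_of_index_two hidx a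
    rcases cent_amb hK P.sq (g := ⟨a * a, hm⟩) (Subtype.ext (hat.mul_left hat).eq)
      (fun k hk => Subtype.ext ((haK k hk).mul_left (haK k hk)).eq) with h | h
    · exact Or.inl (congrArg Subtype.val h)
    · exact Or.inr (congrArg Subtype.val h)
  -- the difference
  have hem : b⁻¹ * a ∈ G₀ := (Subgroup.mul_mem_iff_of_index_two hidx).2 (by rw [inv_mem_iff]; exact iff_of_false hbG ha)
  obtain ⟨e, he⟩ : ∃ e : ↥G₀, (e : X) = b⁻¹ * a := ⟨⟨_, hem⟩, rfl⟩
  have hec : ∀ w ∈ P.CE, Commute e w := fun w hw => Subtype.ext (by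
    show (e : X) * w = w * e
    rw [he]
    exact ((hbCE w hw).inv_left.mul_left (haK w (hCEK hw))).eq)
  have htCE : t ∈ P.CE := P.E_le_CE P.t_mem
  have ht'CE : t' ∈ P.CE := P.E_le_CE P.t'_mem
  have heCE : e ∈ P.CE := P.mem_CE.2 ⟨hec t htCE, hec t' ht'CE⟩
  have heE : e ∈ P.E := hcen e heCE hec
  have hae : a = b * (e : X) := by rw [he, mul_inv_cancel_left]
  have ha2 : a * a = 1 := by
    refine hsqa.resolve_right fun h => ?_
    have hb2 : b * b = (t' : X) := by
      rw [hb, show (y : X) * a * (y : X)⁻¹ * ((y : X) * a * (y : X)⁻¹) = (y : X) * (a * a) * (y : X)⁻¹ by group, h]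
      rw [← hy1, Subgroup.coe_mul, Subgroup.coe_mul, Subgroup.coe_inv]
    have h2 : a * a = b * b := by
      calc a * a = b * ((e : X) * b) * e := by rw [hae]; group
        _ = b * (b * e) * e := by rw [(hbCE e heCE).eq]
        _ = b * b * ((e * e : ↥G₀) : X) := by rw [Subgroup.coe_mul]; group
        _ = b * b := by rw [P.sq_mem heE, Subgroup.coe_one, mul_one]
    exact htt (Subtype.ext ((h.symm.trans h2).trans hb2))
  -- the common element
  have ht2 : (t : X) * t = 1 := congrArg Subtype.val P.sq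
  have ht'2 : (t' : X) * t' = 1 := congrArg Subtype.val P.sq'
  have hcomm : Commute (t : X) (t' : X) := congrArg Subtype.val P.comm.eq
  obtain ⟨d, hd1, hd2⟩ : ∃ d : X, (d = a ∨ d = a * t) ∧ (d = b ∨ d = b * t') := by
    rcases P.mem_E.1 heE with h | h | h | h <;> rw [h] at hae
    · exact ⟨a, Or.inl rfl, Or.inl (by rw [hae, Subgroup.coe_one, mul_one])⟩
    · exact ⟨a * t, Or.inr rfl, Or.inl (by rw [hae, mul_assoc, ht2, mul_one])⟩
    · exact ⟨a, Or.inl rfl, Or.inr hae⟩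
    · refine ⟨a * t, Or.inr rfl, Or.inr ?_⟩
      rw [hae, Subgroup.coe_mul, hcomm.eq, mul_assoc, mul_assoc, ht2, mul_one]
  have hdK : ∀ k ∈ amb K, Commute d (k : X) := fun k hk => by
    rcases hd1 with rfl | rfl
    · exact haK k hk
    · exact (haK k hk).mul_left (show Commute (t : X) (k : X) from congrArg Subtype.val (amb_comm hk).symm.eq)
  have hdK2 : ∀ k ∈ amb K, Commute d ((y * k * y⁻¹ : ↥G₀) : X) := fun k hk => by
    rcases hd2 with rfl | rfl
    · exact hbK k hk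
    · refine (hbK k hk).mul_left (congrArg Subtype.val (show Commute t' (y * k * y⁻¹) from ?_).eq)
      rw [← hy1]
      exact ((amb_comm hk).symm.map (MulAut.conj y) :)
  have hdG : d ∉ G₀ := by
    rcases hd1 with rfl | rfl
    · exact ha
    · exact fun h => ha (by
        have := G₀.mul_mem h t.2
        rwa [mul_assoc, ht2, mul_one] at this)
  have hdd : d * d = 1 := by
    rcases hd1 with rfl | rfl
    · exact ha2
    · calc a * (t : X) * (a * t) = a * ((t : X) * a) * t := by group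
        _ = a * (a * t) * t := by rw [hat.eq]
        _ = a * a * ((t : X) * t) := by group
        _ = 1 := by rw [ha2, ht2, one_mul]
  have hdt : Commute d (t : X) := hdK t htK
  -- the exchanging element commutes with it
  have hyy : ∀ k ∈ amb K, y⁻¹ * (y⁻¹ * k * y) * y ∈ amb K := by
    have hle : (amb K).map (MulAut.conj (y⁻¹ * y⁻¹)).toMonoidHom ≤ amb K := by
      refine perfect_le_TK hK (by rw [← Subgroup.map_commutator, amb_perfect hK]) ?_
      rintro _ ⟨v, hv, rfl⟩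
      show Commute (y⁻¹ * y⁻¹ * v * (y⁻¹ * y⁻¹)⁻¹) t
      have h := (amb_comm hv).map (MulAut.conj (y⁻¹ * y⁻¹))
      have e1 : y⁻¹ * t * y = t' := by rw [← hy2]; group
      have e2 : y⁻¹ * t' * y = t := by rw [← hy1]; group
      rwa [MulAut.conj_apply, MulAut.conj_apply, show y⁻¹ * y⁻¹ * t * (y⁻¹ * y⁻¹)⁻¹ = y⁻¹ * (y⁻¹ * t * y) * y by simp [mul_assoc],
        e1, e2] at h
    intro k hk
    have h := hle ⟨k, hk, rfl⟩
    rwa [show (MulAut.conj (y⁻¹ * y⁻¹)).toMonoidHom k = y⁻¹ * (y⁻¹ * k * y) * y by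
      show y⁻¹ * y⁻¹ * k * (y⁻¹ * y⁻¹)⁻¹ = _
      simp [mul_assoc]] at h
  have hdy : Commute d (y : X) := by
    obtain ⟨d', hd'⟩ : ∃ d' : X, d' = (y : X) * d * (y : X)⁻¹ := ⟨_, rfl⟩
    have hd'K : ∀ k ∈ amb K, Commute d' (k : X) := fun k hk => by
      have h := (hdK2 _ (hyy k hk)).map (MulAut.conj (y : X))
      rw [MulAut.conj_apply, MulAut.conj_apply, ← hd'] at h
      simpa [mul_assoc] using h
    have hd'K2 : ∀ k ∈ amb K, Commute d' ((y * k * y⁻¹ : ↥G₀) : X) := fun k hk => by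
      have h := (hdK k hk).map (MulAut.conj (y : X))
      rw [MulAut.conj_apply, MulAut.conj_apply, ← hd'] at h
      simpa [mul_assoc] using h
    have hm : d⁻¹ * d' ∈ G₀ := (Subgroup.mul_mem_iff_of_index_two hidx).2 (by
      rw [inv_mem_iff]
      refine iff_of_false hdG fun h => hdG ?_
      have := hn0.conj_mem _ h (y : X)⁻¹
      rwa [hd', show (y : X)⁻¹ * ((y : X) * d * (y : X)⁻¹) * (y : X)⁻¹⁻¹ = d by group] at this)
    obtain ⟨r, hr⟩ : ∃ r : ↥G₀, (r : X) = d⁻¹ * d' := ⟨⟨_, hm⟩, rfl⟩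
    have hrK : ∀ k ∈ amb K, Commute r k := fun k hk => Subtype.ext (by
      show (r : X) * k = k * r
      rw [hr]
      exact ((hdK k hk).inv_left.mul_left (hd'K k hk)).eq)
    have hrK2 : ∀ k ∈ amb K, Commute (y⁻¹ * r * y) k := fun k hk => by
      have h : Commute r (y * k * y⁻¹) := Subtype.ext (by
        show (r : X) * ((y * k * y⁻¹ : ↥G₀) : X) = ((y * k * y⁻¹ : ↥G₀) : X) * r
        rw [hr]
        exact ((hdK2 k hk).inv_left.mul_left (hd'K2 k hk)).eq)
      have h' := h.map (MulAut.conj y⁻¹)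
      rw [MulAut.conj_apply, MulAut.conj_apply, inv_inv,
        show y⁻¹ * (y * k * y⁻¹) * y = k by group] at h'
      exact h'
    have h1 := cent_amb hK P.sq (hrK t htK) hrK
    have h2 := cent_amb hK P.sq (hrK2 t htK) hrK2
    have hr1 : r = 1 := by
      refine h1.resolve_right fun e1 => ?_
      rcases h2 with e2 | e2
      · exact t1 (e1.symm.trans (by rw [show r = y * (y⁻¹ * r * y) * y⁻¹ by group, e2]; group))
      · exact htt (e1.symm.trans (by rw [show r = y * (y⁻¹ * r * y) * y⁻¹ by group, e2, hy1]))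
    rw [hr1, Subgroup.coe_one, eq_comm, inv_mul_eq_one] at hr
    exact (mul_inv_eq_iff_eq_mul.1 (hd'.symm.trans hr.symm) : (y : X) * d = d * y).symm
  have hdz : Commute d (z : X) := hdK z (hCEK (P.mem_CE.2 ⟨P.E_z S P.t_mem, P.E_z S P.t'_mem⟩))
  refine ⟨d, t, y, t', K, hK, P.sq, t1, hdd, hdG, hdz, hdy, fun g hg => ⟨amb_comm hg, hdK g hg⟩, ?_, hy1, ht'K, Ne.symm htt⟩
  -- nothing more of the centraliser
  intro g hgt hdg
  by_contra hgK
  have hall : ∀ w : ↥G₀, Commute w t → Commute d (w : X) := by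
    intro w hwt
    obtain ⟨gc, hgc⟩ : ∃ gc : ↥(Subgroup.centralizer ({t} : Set ↥G₀)), (gc : ↥G₀) = g :=
      ⟨⟨g, Subgroup.mem_centralizer_singleton_iff.2 hgt.eq⟩, rfl⟩
    obtain ⟨wc, hwc⟩ : ∃ wc : ↥(Subgroup.centralizer ({t} : Set ↥G₀)), (wc : ↥G₀) = w :=
      ⟨⟨w, Subgroup.mem_centralizer_singleton_iff.2 hwt.eq⟩, rfl⟩
    have hgcK : gc ∉ K := fun h => hgK (hgc ▸ Subgroup.mem_map_of_mem _ h)
    by_cases hwK : wc ∈ K
    · exact hdK w (hwc ▸ Subgroup.mem_map_of_mem _ hwK)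
    · have hm : gc⁻¹ * wc ∈ K := (Subgroup.mul_mem_iff_of_index_two hK.index).2 (by
        rw [inv_mem_iff]; exact iff_of_false hgcK hwK)
      have h := hdg.mul_right (hdK _ (Subgroup.mem_map_of_mem _ hm))
      rw [Subgroup.coe_subtype] at h
      rwa [show ((g : X) * (((gc⁻¹ * wc : ↥(Subgroup.centralizer ({t} : Set ↥G₀))) : ↥G₀) : X)) = (w : X) by
        rw [Subgroup.coe_mul, Subgroup.coe_mul, Subgroup.coe_inv, Subgroup.coe_inv, hgc, hwc, mul_inv_cancel_left]] at h
  have hall' : ∀ w : ↥G₀, Commute w t' → Commute d (w : X) := by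
    intro w hw
    have h := (hdy.mul_right (hall _ (hback hw))).mul_right hdy.inv_right
    rwa [Subgroup.coe_mul, Subgroup.coe_mul, Subgroup.coe_inv, show (y : X) * ((y : X)⁻¹ * w * y) * (y : X)⁻¹ = w by
      group] at h
  refine hdG (hself d hdz fun r hr => ?_)
  by_cases hrt : Commute r t
  · exact hall r hrt
  · obtain ⟨q, hq, hqt, hqt'⟩ := (P.exists_dual S).1
    have h1 : Commute (r * q) t := (FPair.move_iff S hr P.tQ q hq).2 (iff_of_false hrt hqt)
    have h := (hall _ h1).mul_right (hall' q hqt').inv_right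
    rwa [Subgroup.coe_mul, mul_inv_cancel_right] at h

end Cfsg.Agent.Spor.LFT
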