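import Cfsg.Agent.Lib.Spor.LFTOuterLocal
import Cfsg.Agent.Lib.Spor.LFTOuterAut

/-!
An element outside the subgroup of index two centralizing the large subgroup at one involution; the common
involution of two such pairs.
-/

set_option autoImplicit false
set_option maxRecDepth 100000
set_option linter.unusedSectionVars false
set_option maxHeartbeats 800000

namespace Cfsg.Agent.Spor.LFT

universe u

variable {X : Type u} [Group X] [Finite X] {G₀ : Subgroup X}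

/-- the subgroup in the whole group -/
def amb {t : ↥G₀} (K : Subgroup ↥(Subgroup.centralizer ({t} : Set ↥G₀))) : Subgroup ↥G₀ :=
  K.map (Subgroup.centralizer ({t} : Set ↥G₀)).subtype

theorem amb_comm {t : ↥G₀} {K : Subgroup ↥(Subgroup.centralizer ({t} : Set ↥G₀))} {k : ↥G₀} (hk : k ∈ amb K) :
    Commute k t := by
  obtain ⟨k, -, rfl⟩ := hk
  exact Subgroup.mem_centralizer_singleton_iff.1 k.2

theorem amb_perfect {t t' : ↥G₀} {K : Subgroup ↥(Subgroup.centralizer ({t} : Set ↥G₀))} (hK : TK t t' K) :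
    ⁅amb K, amb K⁆ = amb K := by
  have h : ⁅K, K⁆ = K := by
    rw [← Subgroup.map_subtype_commutator, hK.qs.1.commutator_eq_top, ← MonoidHom.range_eq_map, Subgroup.range_subtype]
  rw [amb, ← Subgroup.map_commutator, h]

variable [hn0 : G₀.Normal] {z : ↥G₀} {Q N M : Subgroup ↥G₀} (S : Setup z Q N M)

include S

/-- an element outside commutes with the involution -/
theorem Setup.outer_commute {t t' : ↥G₀} {K : Subgroup ↥(Subgroup.centralizer ({t} : Set ↥G₀))} (hK : TK t t' K)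
    (ht : t ∈ Q) (t2 : t * t = 1) (t1 : t ≠ 1) (tn : ¬ IsConj z t) {A : Subgroup ↥G₀}
    (hA : Cfsg.IsElementaryAbelian 2 A) (hAc : Nat.card A = 2 ^ 11) (htA : t ∈ A) {x : X} (hx : x ∉ G₀) :
    ∃ y : X, y ∉ G₀ ∧ Commute y (t : X) := by
  obtain ⟨φ, hφ⟩ : ∃ φ : MulAut ↥G₀, φ = MulAut.conjNormal x := ⟨_, rfl⟩
  have hφv : ∀ g : ↥G₀, (φ g : X) = x * g * x⁻¹ := fun g => by rw [hφ, MulAut.conjNormal_apply]
  rcases S.elem_class ht t2 t1 tn (elem_map φ.toMonoidHom hA)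
      (by rw [Subgroup.card_map_of_injective φ.injective, hAc]) ⟨t, htA, rfl⟩
      (fun e => t1 (φ.injective (e.trans (map_one φ).symm))) with h | h <;> obtain ⟨g, hg⟩ := isConj_iff.1 h
  · exfalso
    refine S.card_ne hK ?_
    have h1 : Nat.card ↥(Subgroup.centralizer ({z} : Set ↥G₀)) =
        Nat.card ↥(Subgroup.centralizer ({g * z * g⁻¹} : Set ↥G₀)) := Nat.card_congr (centEquiv g z).toEquiv
    have h2 : (Subgroup.centralizer ({t} : Set ↥G₀)).map φ.toMonoidHom = Subgroup.centralizer ({φ t} : Set ↥G₀) := by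
      ext w
      obtain ⟨w, rfl⟩ := φ.surjective w
      rw [show φ w ∈ (Subgroup.centralizer ({t} : Set ↥G₀)).map φ.toMonoidHom ↔ w ∈ Subgroup.centralizer ({t} : Set ↥G₀)
        from Subgroup.mem_map_iff_mem (f := φ.toMonoidHom) φ.injective, Subgroup.mem_centralizer_singleton_iff,
        Subgroup.mem_centralizer_singleton_iff, ← map_mul, ← map_mul, φ.injective.eq_iff]
    rw [h1, show g * z * g⁻¹ = φ t from hg, ← h2, Subgroup.card_map_of_injective φ.injective]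
  · refine ⟨(g : X)⁻¹ * x, fun h => hx ?_, ?_⟩
    · have := G₀.mul_mem g.2 h
      rwa [mul_inv_cancel_left] at this
    · refine mul_inv_eq_iff_eq_mul.1 ?_
      have e : ((g * t * g⁻¹ : ↥G₀) : X) = x * t * x⁻¹ := by rw [hg]; exact hφv t
      rw [show (g : X)⁻¹ * x * t * ((g : X)⁻¹ * x)⁻¹ = (g : X)⁻¹ * (x * t * x⁻¹) * g by group, ← e, Subgroup.coe_mul,
        Subgroup.coe_mul, Subgroup.coe_inv]
      group

/-- an element outside centralizes the subgroup of index two -/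
theorem Setup.outer_centralize {t t' : ↥G₀} {K : Subgroup ↥(Subgroup.centralizer ({t} : Set ↥G₀))} (hK : TK t t' K)
    (ht : t ∈ Q) (t2 : t * t = 1) (t1 : t ≠ 1) (tn : ¬ IsConj z t) {A : Subgroup ↥G₀}
    (hA : Cfsg.IsElementaryAbelian 2 A) (hAc : Nat.card A = 2 ^ 11) (htA : t ∈ A) {x : X} (hx : x ∉ G₀) :
    ∃ d : X, d ∉ G₀ ∧ Commute d (t : X) ∧ ∀ k ∈ amb K, Commute d (k : X) := by
  obtain ⟨y, hy, hyt⟩ := S.outer_commute hK ht t2 t1 tn hA hAc htA hx
  obtain ⟨φ, hφ⟩ : ∃ φ : MulAut ↥G₀, φ = MulAut.conjNormal y := ⟨_, rfl⟩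
  have hφv : ∀ g : ↥G₀, (φ g : X) = y * g * y⁻¹ := fun g => by rw [hφ, MulAut.conjNormal_apply]
  have hφt : φ t = t := Subtype.ext (by rw [hφv, hyt.eq, mul_inv_cancel_right])
  have hmap : (amb K).map φ.toMonoidHom = amb K := by
    refine Subgroup.eq_of_le_of_card_ge ?_ (Subgroup.card_map_of_injective φ.injective).ge
    refine perfect_le_TK hK (by rw [← Subgroup.map_commutator, amb_perfect hK]) ?_
    rintro _ ⟨k, hk, rfl⟩
    show Commute (φ k) t
    rw [← hφt]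
    exact (amb_comm hk).map φ
  let ε : ↥K ≃* ↥(amb K) := K.equivMapOfInjective _ (Subgroup.subtype_injective _)
  let β : MulAut ↥K := ε.trans (((φ.subgroupMap (amb K)).trans (MulEquiv.subgroupCongr hmap)).trans ε.symm)
  have hεv : ∀ k : ↥K, ((ε k : ↥(amb K)) : ↥G₀) = ((k : ↥(Subgroup.centralizer ({t} : Set ↥G₀))) : ↥G₀) :=
    fun _ => rfl
  obtain ⟨c, hc⟩ := hK.aut_inner t1 t2 β
  have hct : Commute ((c : ↥G₀) : X) (t : X) :=
    congrArg Subtype.val (Subgroup.mem_centralizer_singleton_iff.1 c.2)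
  refine ⟨((c : ↥G₀) : X)⁻¹ * y, fun h => hy ?_, hct.inv_left.mul_left hyt, ?_⟩
  · have := G₀.mul_mem (c : ↥G₀).2 h
    rwa [mul_inv_cancel_left] at this
  · intro k hk
    obtain ⟨k', hk', rfl⟩ := Subgroup.mem_map.1 hk
    have e := hc ⟨k', hk'⟩
    have e2 : (((β ⟨k', hk'⟩ : ↥(Subgroup.centralizer ({t} : Set ↥G₀))) : ↥G₀)) = φ ((k' : ↥G₀)) := by
      have h1 : ε (β ⟨k', hk'⟩) = (MulEquiv.subgroupCongr hmap) ((φ.subgroupMap (amb K)) (ε ⟨k', hk'⟩)) :=
        ε.apply_symm_apply _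
      rw [← hεv, h1]
      rfl
    rw [e2] at e
    refine mul_inv_eq_iff_eq_mul.1 ?_
    show ((c : ↥G₀) : X)⁻¹ * y * ((k' : ↥G₀) : X) * (((c : ↥G₀) : X)⁻¹ * y)⁻¹ = ((k' : ↥G₀) : X)
    rw [show ((c : ↥G₀) : X)⁻¹ * y * ((k' : ↥G₀) : X) * (((c : ↥G₀) : X)⁻¹ * y)⁻¹ =
      ((c : ↥G₀) : X)⁻¹ * (y * ((k' : ↥G₀) : X) * y⁻¹) * (c : ↥G₀) by group, ← hφv, ← e, Subgroup.coe_mul,
      Subgroup.coe_mul, Subgroup.coe_inv]
    group

omit S in
/-- elements of the subgroup centralizing the large subgroup -/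
theorem cent_amb {t t' : ↥G₀} {K : Subgroup ↥(Subgroup.centralizer ({t} : Set ↥G₀))} (hK : TK t t' K)
    (t2 : t * t = 1) {g : ↥G₀} (hgt : Commute g t) (hg : ∀ k ∈ amb K, Commute g k) : g = 1 ∨ g = t := by
  obtain ⟨gc, hgc⟩ : ∃ gc : ↥(Subgroup.centralizer ({t} : Set ↥G₀)), (gc : ↥G₀) = g :=
    ⟨⟨g, Subgroup.mem_centralizer_singleton_iff.2 hgt.eq⟩, rfl⟩
  have hcm : ∀ k ∈ K, k * gc = gc * k := fun k hk => Subtype.ext (by
    show (k : ↥G₀) * gc = gc * k
    rw [hgc]; exact (hg _ (Subgroup.mem_map_of_mem _ hk)).symm.eq)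
  have hgK : gc ∈ K := hK.cent (Subgroup.mem_centralizer_iff.2 hcm)
  have h := (hK.center ⟨gc, hgK⟩).1 (Subgroup.mem_center_iff.2 fun k => Subtype.ext (hcm _ k.2))
  rw [show ((⟨gc, hgK⟩ : ↥K) : ↥(Subgroup.centralizer ({t} : Set ↥G₀))) = gc from rfl, hgc] at h
  obtain ⟨j, rfl⟩ := Subgroup.mem_zpowers_iff.1 h
  rcases Int.even_or_odd' j with ⟨i, rfl | rfl⟩
  · left; rw [zpow_mul, zpow_two, t2, one_zpow]
  · right; rw [zpow_add, zpow_mul, zpow_two, t2, one_zpow, one_mul, zpow_one]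

end Cfsg.Agent.Spor.LFT
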