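import Cfsg.Agent.Lib.Spor.LFTChecksD
import Cfsg.Agent.Lib.Spor.SuzTypeGroup

/-!
Small permutation images: stabiliser chains, the action on pairs of six letters and the action of a minus
form orthogonal group on its 27 singular vectors.
-/

set_option autoImplicit false
set_option maxRecDepth 100000

namespace Cfsg.Agent.Spor.LFT

open Cfsg.Agent.Spor.SuzT (OG IsCols qm QF)

/-- the permutation of two mutually inverse lists -/
def permOf (n : ℕ) (σ τ : List ℕ) (h : Chk.permOK n σ τ = true) : Equiv.Perm (Fin n) where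
  toFun j := ⟨σ.getD j 0, (spec h j).1⟩
  invFun j := ⟨τ.getD j 0, (spec h j).2.1⟩
  left_inv j := Fin.ext (spec h j).2.2.1
  right_inv j := Fin.ext (spec h j).2.2.2
where
  spec {n : ℕ} {σ τ : List ℕ} (h : Chk.permOK n σ τ = true) (j : Fin n) :
      σ.getD j 0 < n ∧ τ.getD j 0 < n ∧ τ.getD (σ.getD j 0) 0 = j ∧ σ.getD (τ.getD j 0) 0 = j := by
    simp only [Chk.permOK, List.all_eq_true, List.mem_range, Bool.and_eq_true] at h
    obtain ⟨⟨⟨a, b⟩, c⟩, d⟩ := h j j.2
    exact ⟨Nat.le_of_ble_eq_true a, Nat.le_of_ble_eq_true b, Nat.eq_of_beq_eq_true c, Nat.eq_of_beq_eq_true d⟩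

theorem chain_lb {H : Type*} [Group H] [Finite H] {n : ℕ} (φ : H →* Equiv.Perm (Fin n)) (P : List (List ℕ))
    (g : ℕ → H) (hg : ∀ s < P.length, ∀ u : Fin n, (φ (g s) u : ℕ) = (P.getD s []).getD u 0)
    (lev : List (ℕ × List (List ℕ))) (hc : Chk.chOK P n [] lev = true) :
    Chk.chSize lev ≤ Nat.card φ.range := by
  have hw : ∀ (w : List ℕ), (∀ s ∈ w, s < P.length) → ∀ u : Fin n,
      (φ ((w.map g).prod) u : ℕ) = Chk.evP P w u := by
    intro w
    induction w with
    | nil => intro _ u; simp [Chk.evP]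
    | cons s w ih =>
      intro h u
      rw [List.map_cons, List.prod_cons, map_mul, Equiv.Perm.mul_apply, hg s (h s (by simp)),
        ih (fun x hx => h x (by simp [hx]))]
      rfl
  let Stp : List ℕ → Subgroup (Equiv.Perm (Fin n)) := fun done =>
    { carrier := {σ | σ ∈ φ.range ∧ ∀ u : Fin n, u.val ∈ done → σ u = u}
      one_mem' := ⟨one_mem _, fun _ _ => rfl⟩
      mul_mem' := fun {a b} ha hb => ⟨mul_mem ha.1 hb.1, fun u hu => by
        rw [Equiv.Perm.mul_apply, hb.2 u hu, ha.2 u hu]⟩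
      inv_mem' := fun {a} ha => ⟨inv_mem ha.1, fun u hu => by
        rw [Equiv.Perm.inv_eq_iff_eq, ha.2 u hu]⟩ }
  have key : ∀ (L : List (ℕ × List (List ℕ))) (done : List ℕ), (∀ d ∈ done, d < n) →
      Chk.chOK P n done L = true → Chk.chSize L ≤ Nat.card (Stp done) := by
    intro L
    induction L with
    | nil => intro done _ _; exact Nat.card_pos
    | cons e L ih =>
      obtain ⟨v, ws⟩ := e
      intro done hdone h
      simp only [Chk.chOK, Bool.and_eq_true, List.all_eq_true, decide_eq_true_eq] at h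
      obtain ⟨⟨⟨hv, hws⟩, hnd⟩, hrest⟩ := h
      have hv' : v < n := Nat.le_of_ble_eq_true hv
      have hlt : ∀ i : Fin ws.length, ∀ s ∈ ws[i.val], s < P.length := fun i s hs =>
        Nat.le_of_ble_eq_true ((hws _ (List.getElem_mem i.2)).1 s hs)
      let W : Fin ws.length → Stp done := fun i => ⟨φ ((ws[i.val].map g).prod), ⟨_, rfl⟩, fun u hu =>
        Fin.ext (by
          rw [hw _ (hlt i)]
          exact Nat.eq_of_beq_eq_true ((hws _ (List.getElem_mem i.2)).2 u hu))⟩
      let f : Fin ws.length × Stp (v :: done) → Stp done := fun q =>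
        W q.1 * ⟨(q.2 : Equiv.Perm (Fin n)), q.2.2.1, fun u hu => q.2.2.2 u (List.mem_cons_of_mem _ hu)⟩
      have hf : Function.Injective f := by
        intro a b e
        have e' : ((W a.1 : Stp done) : Equiv.Perm (Fin n)) * a.2 = (W b.1 : Stp done) * (b.2 : Equiv.Perm (Fin n)) :=
          congrArg Subtype.val e
        have hi : a.1 = b.1 := by
          have h1 := congrArg (fun σ : Equiv.Perm (Fin n) => ((σ ⟨v, hv'⟩ : Fin n) : ℕ)) e'
          simp only [Equiv.Perm.mul_apply, a.2.2.2 ⟨v, hv'⟩ List.mem_cons_self,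
            b.2.2.2 ⟨v, hv'⟩ List.mem_cons_self] at h1
          have hA : ∀ i : Fin ws.length, (((W i : Stp done) : Equiv.Perm (Fin n)) ⟨v, hv'⟩ : ℕ) =
              Chk.evP P ws[i.val] v := fun i => hw _ (hlt i) _
          rw [hA, hA] at h1
          exact Fin.ext ((hnd.getElem_inj_iff (i := a.1.val) (j := b.1.val) (hi := by simp) (hj := by simp)).mp
            (by simpa using h1))
        refine Prod.ext hi (Subtype.ext ?_)
        rw [hi] at e'
        exact mul_left_cancel e'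
      have h2 := Nat.card_le_card_of_injective f hf
      rw [Nat.card_prod, Nat.card_fin] at h2
      refine le_trans (Nat.mul_le_mul_left _ (ih (v :: done) (fun d hd => ?_) hrest)) h2
      rcases List.mem_cons.1 hd with rfl | hd
      exacts [hv', hdone d hd]
  exact (key lev [] (by simp) hc).trans (Subgroup.card_le_of_le fun σ hσ => hσ.1)

/-! ### pairs of six letters -/

/-- number of a pair -/
def dn (a b : Fin 6) : Fin 15 := Fin.ofNat 15 (Chk.dnum a.val b.val)

/-- first letter -/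
def d1 (j : Fin 15) : Fin 6 := Fin.ofNat 6 (Chk.dfst j.val)

/-- second letter -/
def d2 (j : Fin 15) : Fin 6 := Fin.ofNat 6 (Chk.dsnd j.val)

theorem dn_spec : (∀ j, dn (d1 j) (d2 j) = j ∧ d1 j ≠ d2 j) ∧
    (∀ a b, a ≠ b → (d1 (dn a b) = a ∧ d2 (dn a b) = b) ∨ (d1 (dn a b) = b ∧ d2 (dn a b) = a)) ∧
    (∀ a b, dn a b = dn b a) ∧ (∀ a b, a ≠ b → (dn a b : ℕ) = Chk.dnum a.val b.val) ∧
    ∀ j : Fin 15, (d1 j : ℕ) = Chk.dfst j.val ∧ (d2 j : ℕ) = Chk.dsnd j.val := by
  decide +kernel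

/-- the induced permutation of pairs -/
def dmap (q : Equiv.Perm (Fin 6)) (j : Fin 15) : Fin 15 := dn (q (d1 j)) (q (d2 j))

theorem dmap_mul (q r : Equiv.Perm (Fin 6)) (j : Fin 15) : dmap q (dmap r j) = dmap (q * r) j := by
  have hne : r (d1 j) ≠ r (d2 j) := fun e => (dn_spec.1 j).2 (r.injective e)
  show dn (q (d1 (dn _ _))) (q (d2 (dn _ _))) = dn (q (r (d1 j))) (q (r (d2 j)))
  rcases dn_spec.2.1 _ _ hne with ⟨e1, e2⟩ | ⟨e1, e2⟩ <;> rw [e1, e2]
  exact dn_spec.2.2.1 _ _

theorem dmap_one (j : Fin 15) : dmap 1 j = j := (dn_spec.1 j).1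

/-- the action on pairs -/
def duad : Equiv.Perm (Fin 6) →* Equiv.Perm (Fin 15) where
  toFun q :=
    { toFun := dmap q
      invFun := dmap q⁻¹
      left_inv := fun j => by rw [dmap_mul, inv_mul_cancel, dmap_one]
      right_inv := fun j => by rw [dmap_mul, mul_inv_cancel, dmap_one] }
  map_one' := Equiv.ext dmap_one
  map_mul' q r := Equiv.ext fun j => (dmap_mul q r j).symm

theorem duad_inj : Function.Injective duad := by
  refine (injective_iff_map_eq_one _).2 fun q hq => Equiv.ext fun a => ?_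
  have h : ∀ b, a ≠ b → q a = a ∨ q a = b := fun b hb => by
    have e := Equiv.congr_fun hq (dn a b)
    have hne : q a ≠ q b := fun e' => hb (q.injective e')
    have e' : dn (q a) (q b) = dn a b := by
      rw [show duad q (dn a b) = dmap q (dn a b) from rfl, Equiv.Perm.one_apply, dmap] at e
      rcases dn_spec.2.1 _ _ hb with ⟨e1, e2⟩ | ⟨e1, e2⟩ <;> rw [e1, e2] at e
      · exact e
      · rwa [dn_spec.2.2.1] at e
    rcases dn_spec.2.1 _ _ hne with ⟨e1, -⟩ | ⟨-, e2⟩
    · rw [e', ] at e1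
      rcases dn_spec.2.1 _ _ hb with ⟨f1, -⟩ | ⟨f1, -⟩ <;> rw [f1] at e1
      exacts [Or.inl e1.symm, Or.inr e1.symm]
    · rw [e'] at e2
      rcases dn_spec.2.1 _ _ hb with ⟨-, f2⟩ | ⟨-, f2⟩ <;> rw [f2] at e2
      exacts [Or.inr e2.symm, Or.inl e2.symm]
  obtain ⟨b, c, hb, hc, hbc⟩ : ∃ b c : Fin 6, a ≠ b ∧ a ≠ c ∧ b ≠ c :=
    (by decide +kernel : ∀ a : Fin 6, ∃ b c : Fin 6, a ≠ b ∧ a ≠ c ∧ b ≠ c) a
  show q a = a
  rcases h b hb with e | e
  · exact e
  rcases h c hc with e' | e'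
  exacts [e', absurd (e.symm.trans e') hbc]

theorem duad_apply (q : Equiv.Perm (Fin 6)) {s : List ℕ} (hs : ∀ a : Fin 6, (q a : ℕ) = s.getD a 0) (j : Fin 15) :
    (duad q j : ℕ) = (Chk.duad s).getD j 0 := by
  show (dn (q (d1 j)) (q (d2 j)) : ℕ) = _
  rw [dn_spec.2.2.2.1 _ _ (fun e => (dn_spec.1 j).2 (q.injective e)), hs, hs, (dn_spec.2.2.2.2 j).1,
    (dn_spec.2.2.2.2 j).2]
  simp [Chk.duad, List.getD_eq_getElem?_getD, j.2]

/-- six-letter permutations: four generators and three outer candidates -/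
def p6 : Fin 7 → Equiv.Perm (Fin 6) :=
  ![f0, f1, f2, f3, o0, o1, o2]
where
  f0 : Equiv.Perm (Fin 6) := Equiv.swap 0 1 * Equiv.swap 1 2 * Equiv.swap 2 3 * Equiv.swap 3 4
  f1 : Equiv.Perm (Fin 6) := Equiv.swap 1 2 * Equiv.swap 2 3 * Equiv.swap 3 4 * Equiv.swap 4 5
  f2 : Equiv.Perm (Fin 6) := Equiv.swap 0 1 * Equiv.swap 1 2
  f3 : Equiv.Perm (Fin 6) := Equiv.swap 3 4 * Equiv.swap 4 5
  o0 : Equiv.Perm (Fin 6) := Equiv.swap 0 2 * Equiv.swap 1 4
  o1 : Equiv.Perm (Fin 6) := Equiv.swap 1 4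
  o2 : Equiv.Perm (Fin 6) := Equiv.swap 0 2

theorem p6_spec : (∀ s : Fin 7, ∀ a : Fin 6, (p6 s a : ℕ) = (Dat.perm6.getD s.val []).getD a 0) ∧
    (∀ s : Fin 5, Equiv.Perm.sign (p6 (s.castLE (by norm_num))) = 1) ∧ Equiv.Perm.sign (p6 5) = -1 ∧
    Equiv.Perm.sign (p6 6) = -1 := by
  decide +kernel

/-- the four generators generate all even permutations -/
theorem even_gen : Subgroup.closure (Set.range fun s : Fin 4 => p6 (s.castLE (by norm_num))) =
    alternatingGroup (Fin 6) := by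
  refine Subgroup.eq_of_le_of_card_ge ?_ ?_
  · refine (Subgroup.closure_le _).2 ?_
    rintro _ ⟨s, rfl⟩
    exact Equiv.Perm.mem_alternatingGroup.2 (p6_spec.2.1 (s.castLE (by norm_num)))
  · have h : Nat.card (alternatingGroup (Fin 6)) = 360 := by rw [Nat.card_eq_fintype_card]; decide +kernel
    rw [h, ← Chk.chain_B.2]
    set H := Subgroup.closure (Set.range fun s : Fin 4 => p6 (s.castLE (by norm_num))) with hH
    have := chain_lb H.subtype (Dat.perm6.take 4)
      (fun s => if hs : s < 4 then ⟨p6 ⟨s, by omega⟩, Subgroup.subset_closure ⟨⟨s, hs⟩, rfl⟩⟩ else 1)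
      (fun s hs u => by
        have hs' : s < 4 := lt_of_lt_of_le hs (List.length_take_le _ _)
        rw [dif_pos hs']
        refine (p6_spec.1 ⟨s, by omega⟩ u).trans ?_
        interval_cases s <;> rfl)
      Dat.chainB Chk.chain_B.1
    rwa [Subgroup.range_subtype] at this

theorem duad_trans (i j : Fin 15) : ∃ q ∈ alternatingGroup (Fin 6), duad q i = j := by
  set q0 := Equiv.swap (d1 i) (d1 j) with hq0
  set q1 := Equiv.swap (q0 (d2 i)) (d2 j) * q0 with hq1
  have h1 : q1 (d1 i) = d1 j := by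
    have e : q0 (d1 i) = d1 j := Equiv.swap_apply_left _ _
    rw [hq1, Equiv.Perm.mul_apply, e, Equiv.swap_apply_of_ne_of_ne ?_ (dn_spec.1 j).2]
    intro h'
    exact (dn_spec.1 i).2 (q0.injective (e.trans h'))
  have h2 : q1 (d2 i) = d2 j := by rw [hq1, Equiv.Perm.mul_apply, Equiv.swap_apply_left]
  have hj : duad q1 i = j := by
    show dn (q1 (d1 i)) (q1 (d2 i)) = j
    rw [h1, h2]; exact (dn_spec.1 j).1
  rcases Int.units_eq_one_or (Equiv.Perm.sign q1) with hs | hs
  · exact ⟨q1, Equiv.Perm.mem_alternatingGroup.2 hs, hj⟩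
  · refine ⟨Equiv.swap (d1 j) (d2 j) * q1, Equiv.Perm.mem_alternatingGroup.2 ?_, ?_⟩
    · rw [map_mul, hs, Equiv.Perm.sign_swap (dn_spec.1 j).2]; decide
    · show dn (Equiv.swap _ _ (q1 (d1 i))) (Equiv.swap _ _ (q1 (d2 i))) = j
      rw [h1, h2, Equiv.swap_apply_left, Equiv.swap_apply_right, dn_spec.2.2.1]
      exact (dn_spec.1 j).1

/-! ### the orthogonal group on 27 singular vectors -/

/-- singular vectors -/
def sv (j : Fin 27) : SuzT.V := SuzT.vec (Dat.sing.getD j.val 0)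

theorem sv_inj : ∀ a b : Fin 27, sv a = sv b → a = b := by decide +kernel

theorem sv_sing : ∀ j : Fin 27, qm (sv j) = 0 ∧ sv j ≠ 0 := by decide +kernel

theorem sv_surj : ∀ v : SuzT.V, v ≠ 0 → qm v = 0 → ∃ j, sv j = v := by decide +kernel

theorem sv_span : ∀ v : SuzT.V, ∃ i j : Fin 27, v = 0 ∨ v = sv i ∨ v = sv i + sv j := by decide +kernel

theorem og_sing (g : OG) (j : Fin 27) : ∃ k, sv k = g.1 (sv j) :=
  sv_surj _ (fun h => (sv_sing j).2 ((g.1.map_eq_zero_iff).1 h))
    ((SuzT.iso_q g _).trans (sv_sing j).1)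

theorem og_ext {g h : OG} (e : ∀ j, g.1 (sv j) = h.1 (sv j)) : g = h := by
  refine Subtype.ext (LinearEquiv.ext fun v => ?_)
  obtain ⟨i, j, rfl | rfl | rfl⟩ := sv_span v
  · rw [map_zero, map_zero]
  · exact e i
  · rw [map_add, map_add, e, e]

/-- the action on singular vectors -/
noncomputable def rho : OG →* Equiv.Perm (Fin 27) :=
  MonoidHom.mk' (fun g => Equiv.ofBijective (fun j => (og_sing g j).choose)
    ((Finite.injective_iff_bijective).1 fun a b e => by
      have h1 := (og_sing g a).choose_spec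
      have h2 := (og_sing g b).choose_spec
      change (og_sing g a).choose = (og_sing g b).choose at e
      rw [e, h2] at h1
      exact sv_inj _ _ (g.1.injective h1).symm))
    fun g h => Equiv.ext fun j => sv_inj _ _ (by
      rw [Equiv.Perm.mul_apply]
      show sv (og_sing (g * h) j).choose = sv (og_sing g (og_sing h j).choose).choose
      rw [(og_sing (g * h) j).choose_spec, (og_sing g _).choose_spec, (og_sing h j).choose_spec]
      rfl)

theorem rho_spec (g : OG) (j : Fin 27) : sv (rho g j) = g.1 (sv j) := (og_sing g j).choose_spec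

theorem rho_inj : Function.Injective rho := fun g h e => og_ext fun j => by rw [← rho_spec, ← rho_spec, e]

theorem cols_chk : ∀ s < 3, SuzT.Chk.isoL (Dat.colO.getD s []) = true ∧ SuzT.Chk.isoL (Dat.colOi.getD s []) = true ∧
    SuzT.Chk.mulL (Dat.colO.getD s []) (Dat.colOi.getD s []) = SuzT.Chk.idL ∧
    ∀ j : Fin 27, SuzT.Chk.app (Dat.colO.getD s []) (SuzT.enc (sv j)) =
      SuzT.enc (SuzT.vec (Dat.sing.getD ((Dat.permA.getD s []).getD j.val 0) 0)) := by
  decide +kernel

/-- the three permutations of the five-sets -/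
def pA (s : Fin 3) : Equiv.Perm (Fin 27) :=
  permOf 27 (Dat.permA.getD s.val []) (Dat.permAi.getD s.val [])
    (List.all_eq_true.1 Chk.perm_A s.val (List.mem_range.2 s.2))

theorem pA_mem (s : Fin 3) : pA s ∈ rho.range := by
  obtain ⟨h1, h2, h3, h4⟩ := cols_chk s.val s.2
  obtain ⟨g, hg⟩ := SuzT.exists_of_isoL h1 h2 h3
  refine ⟨g, Equiv.ext fun j => sv_inj _ _ (SuzT.enc_injective ?_)⟩
  rw [rho_spec, hg.2, h4 j]
  rfl

theorem card_rho : Nat.card rho.range = 51840 := by
  rw [← Nat.card_congr (MonoidHom.ofInjective rho_inj).toEquiv, SuzT.card_OG]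

end Cfsg.Agent.Spor.LFT
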