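import Cfsg.Agent.Lib.Spor.LFTMain
import Cfsg.Agent.Lib.Spor.LFTLine
import Cfsg.Agent.Lib.Spor.CHZ.Gam

/-!
Large Fischer type: the elements of 3.U4(3) fixing a vector of the shorter orbit act as SU(4,2) on the
orthogonal complement of that vector modulo the vector.
-/

set_option autoImplicit false
set_option maxRecDepth 100000


namespace Cfsg.Agent.Spor.LFT

open Cfsg.Agent.Spor.SUSix (G6 V6 code)
open Cfsg.Agent.Spor.SpFour (F4)
open Cfsg.Agent.Spor.U43 (K1 mat)
open Matrix

namespace Pw

theorem va_val : va = ![1, 1, 0, 0, 0, 0] := by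
  unfold va; decide +kernel

theorem add_self (a : F4) : a + a = 0 := CharTwo.add_self_eq_zero a

theorem two_zero {a b : F4} (h : a + b = 0) : a = b := by
  rw [← add_zero a, ← add_self b, ← add_assoc, h, zero_add]

/-- the matrices fixing the vector -/
def Fix (A : G6) : Prop := mat A *ᵥ va = va

theorem Fix.row_eq {A : G6} (h : Fix A) (i : Fin 6) : mat A i 0 + mat A i 1 = va i := by
  have := congrFun h i
  simpa [Matrix.mulVec, dotProduct, Fin.sum_univ_six, va_val] using this

theorem Fix.col_eq {A : G6} (h : Fix A) (j : Fin 6) : mat A 0 j + mat A 1 j = va j := by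
  have h' : (mat A)ᴴ *ᵥ va = va := by
    conv_lhs => rw [← (show mat A *ᵥ va = va from h)]
    rw [Matrix.mulVec_mulVec, U43.mat_unit, Matrix.one_mulVec]
  have := congrFun h' j
  simp [Matrix.mulVec, dotProduct, Fin.sum_univ_six, va_val] at this
  rw [va_val]
  have key : ∀ a b c : F4, star a + star b = c → c = star c → a + b = c := by decide +kernel
  refine key _ _ _ this ?_
  fin_cases j <;> simp

/-- the inner indices -/
def up (i : Fin 4) : Fin 6 := ⟨i.val + 2, by omega⟩

theorem up_cases (j : Fin 6) : j = 0 ∨ j = 1 ∨ ∃ i, j = up i := by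
  fin_cases j
  exacts [Or.inl rfl, Or.inr (Or.inl rfl), Or.inr (Or.inr ⟨0, rfl⟩), Or.inr (Or.inr ⟨1, rfl⟩),
    Or.inr (Or.inr ⟨2, rfl⟩), Or.inr (Or.inr ⟨3, rfl⟩)]

theorem va_up (i : Fin 4) : va (up i) = 0 := by
  rw [va_val]; fin_cases i <;> rfl

/-- the block -/
def blk (A : G6) : Matrix (Fin 4) (Fin 4) F4 := Matrix.of fun i j => mat A (up i) (up j)

theorem sum_six (f : Fin 6 → F4) : ∑ k, f k = f 0 + f 1 + ∑ i, f (up i) := by
  rw [Fin.sum_univ_six, Fin.sum_univ_four]
  show f 0 + f 1 + f 2 + f 3 + f 4 + f 5 = f 0 + f 1 + (f 2 + f 3 + f 4 + f 5)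
  ring

theorem blk_mul {A B : G6} (hA : Fix A) (hB : Fix B) : blk (A * B) = blk A * blk B := by
  ext i j
  have h0 : mat B 1 (up j) = mat B 0 (up j) := (two_zero ((hB.col_eq _).trans (va_up j))).symm
  have h1 : mat A (up i) 1 = mat A (up i) 0 := (two_zero ((hA.row_eq _).trans (va_up i))).symm
  show (mat A * mat B) (up i) (up j) = _
  rw [Matrix.mul_apply, sum_six, Matrix.mul_apply, h0, h1, add_self, zero_add]
  rfl

theorem blk_unit {A : G6} (hA : Fix A) : (blk A)ᴴ * blk A = 1 := by
  ext i j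
  have h := congrFun (congrFun (U43.mat_unit A) (up i)) (up j)
  have h0 : ∀ k, mat A 1 (up k) = mat A 0 (up k) := fun k => (two_zero ((hA.col_eq _).trans (va_up k))).symm
  rw [Matrix.mul_apply, sum_six] at h
  simp only [Matrix.conjTranspose_apply, h0, add_self, zero_add] at h
  rw [Matrix.mul_apply]
  refine h.trans ?_
  rw [Matrix.one_apply, Matrix.one_apply]
  have : up i = up j ↔ i = j := ⟨fun e => Fin.ext (by simpa [up, Fin.ext_iff] using e), fun e => e ▸ rfl⟩
  simp only [this]

theorem blk_det {A : G6} (hA : Fix A) : (blk A).det = 1 := by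
  set M := mat A
  have hd : M.det = 1 := A.1.2
  set M1 := M.updateCol 1 fun i => M i 1 + M i 0 with hM1
  have e1 : M1.det = M.det := Matrix.det_updateCol_add_self M (by decide)
  set M2 := M1.updateRow 1 (M1 1 + M1 0) with hM2
  have e2 : M2.det = M1.det := Matrix.det_updateRow_add_self M1 (by decide)
  have hcol : ∀ i, M1 i 1 = va i := fun i => by
    rw [hM1, Matrix.updateCol_self, add_comm]; exact hA.row_eq i
  have hother : ∀ i j, j ≠ 1 → M1 i j = M i j := fun i j hj => by rw [hM1, Matrix.updateCol_ne hj]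
  have hrow : ∀ j, M2 1 j = if j = 0 then 1 else 0 := by
    intro j
    rw [hM2, Matrix.updateRow_self, Pi.add_apply]
    by_cases hj : j = 1
    · subst hj
      rw [hcol, hcol, va_val]
      exact add_self 1
    · rw [hother _ _ hj, hother _ _ hj, add_comm, hA.col_eq, va_val]
      fin_cases j <;> simp at hj ⊢
  have hne : ∀ i j, i ≠ 1 → M2 i j = M1 i j := fun i j hi => by rw [hM2, Matrix.updateRow_ne hi]
  have e3 : M2.det = (M2.submatrix (Fin.succAbove 1) (Fin.succAbove 0)).det := by
    rw [Matrix.det_succ_row M2 1, Finset.sum_eq_single 0]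
    · rw [hrow, if_pos rfl, mul_one, CharTwo.neg_eq, one_pow, one_mul]
    · intro j _ hj; rw [hrow, if_neg hj]; ring
    · simp
  set M3 := M2.submatrix (Fin.succAbove 1) (Fin.succAbove 0)
  have hc0 : ∀ i : Fin 5, M3 i 0 = if i = 0 then 1 else 0 := by
    intro i
    show M2 _ _ = _
    rw [hne _ _ (Fin.succAbove_ne _ _), show Fin.succAbove (0 : Fin 6) (0 : Fin 5) = 1 from rfl, hcol, va_val]
    fin_cases i <;> rfl
  have e4 : M3.det = (M3.submatrix (Fin.succAbove 0) (Fin.succAbove 0)).det := by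
    rw [Matrix.det_succ_column M3 0, Finset.sum_eq_single 0]
    · rw [hc0, if_pos rfl, mul_one, CharTwo.neg_eq, one_pow, one_mul]
    · intro j _ hj; rw [hc0, if_neg hj]; ring
    · simp
  have e5 : M3.submatrix (Fin.succAbove 0) (Fin.succAbove 0) = blk A := by
    ext i j
    show M2 (Fin.succAbove 1 (Fin.succAbove 0 i)) (Fin.succAbove 0 (Fin.succAbove 0 j)) = M (up i) (up j)
    rw [hne _ _ (Fin.succAbove_ne _ _)]
    fin_cases i <;> fin_cases j <;> exact hother _ _ (by decide)
  rw [← e5, ← e4, ← e3, e2, e1, hd]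

theorem ker_four {A : G6} (hA : Fix A) (h : blk A = 1) : A ^ 4 = 1 := by
  refine U43.G6_ext ?_
  set B : U43.M6 := mat A + 1 with hB
  have hrow : ∀ i, B i 0 + B i 1 = 0 := by
    intro i
    rw [hB, Matrix.add_apply, Matrix.add_apply, add_add_add_comm, hA.row_eq, va_val]
    fin_cases i <;> simp [Matrix.one_apply, add_self]
  have hcol : ∀ j, B 0 j = B 1 j := fun j => two_zero (by
    rw [hB, Matrix.add_apply, Matrix.add_apply, add_add_add_comm, hA.col_eq, va_val]
    fin_cases j <;> simp [Matrix.one_apply, add_self])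
  have hin : ∀ i j, B (up i) (up j) = 0 := fun i j => by
    have e : mat A (up i) (up j) = (1 : Matrix (Fin 4) (Fin 4) F4) i j := congrFun (congrFun h i) j
    rw [hB, Matrix.add_apply, e]
    rw [Matrix.one_apply, Matrix.one_apply]
    have : up i = up j ↔ i = j := ⟨fun e => Fin.ext (by simpa [up, Fin.ext_iff] using e), fun e => e ▸ rfl⟩
    simp only [this]
    exact add_self _
  have h2 : ∀ i j, (B * B) i j = ∑ k, B i (up k) * B (up k) j := fun i j => by
    rw [Matrix.mul_apply, sum_six, ← hcol j, ← add_mul, hrow, zero_mul, zero_add]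
  have h3 : B * B * B = 0 := by
    rw [mul_assoc]
    ext i j
    rw [Matrix.mul_apply, sum_six]
    have hz : ∀ k, (B * B) (up k) j = 0 := fun k => by
      rw [h2]; exact Finset.sum_eq_zero fun k' _ => by rw [hin, zero_mul]
    have e01 : (B * B) 0 j = (B * B) 1 j := by
      rw [h2, h2]; exact Finset.sum_congr rfl fun k _ => by rw [hcol]
    rw [e01, ← add_mul, hrow, zero_mul, zero_add, Finset.sum_eq_zero fun k _ => by rw [hz, mul_zero]]
    rfl
  have hself : ∀ X : U43.M6, X + X = 0 := fun X => Matrix.ext fun i j => add_self _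
  have hA' : mat A = B + 1 := by rw [hB, add_assoc, hself, add_zero]
  have hsq : mat A * mat A = B * B + 1 := by
    rw [hA', add_mul, mul_add, mul_one, one_mul]
    calc B * B + B + (B + 1) = B * B + (B + B) + 1 := by abel
      _ = _ := by rw [hself, add_zero]
  rw [show A ^ 4 = A * A * (A * A) by rw [pow_succ, pow_succ, pow_succ, pow_one, mul_assoc (A * A)],
    U43.mat_mul, U43.mat_mul, hsq, U43.mat_one, add_mul, mul_add, mul_one, one_mul,
    show B * B * (B * B) = B * B * B * B by rw [← mul_assoc (B * B)], h3, Matrix.zero_mul, zero_add,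
    ← add_assoc, hself, zero_add]

/-- the pointwise stabiliser in the linear group -/
def KF : Subgroup G6 := K1 ⊓ (fixv va).comap act

theorem KF_fix {A : G6} (h : A ∈ KF) : Fix A := h.2

/-- the block as an element -/
noncomputable def blkHom : KF →* CHZ.L where
  toFun A := Small.Unitary.mkSU CHZ.hstar (blk A.1) (blk_unit (KF_fix A.2)) (blk_det (KF_fix A.2))
  map_one' := Subtype.ext (Subtype.ext (show blk (1 : G6) = 1 by
    ext i j
    show mat (1 : G6) (up i) (up j) = _
    rw [U43.mat_one, Matrix.one_apply, Matrix.one_apply]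
    have : up i = up j ↔ i = j := ⟨fun e => Fin.ext (by simpa [up, Fin.ext_iff] using e), fun e => e ▸ rfl⟩
    simp only [this]))
  map_mul' A B := Subtype.ext (Subtype.ext (blk_mul (KF_fix A.2) (KF_fix B.2)))

theorem map_KF : KF.map act = Kp ⊓ fixv va := by
  ext p
  constructor
  · rintro ⟨A, ⟨hA, hf⟩, rfl⟩; exact ⟨⟨A, hA, rfl⟩, hf⟩
  · rintro ⟨⟨A, hA, rfl⟩, hf⟩; exact ⟨A, ⟨hA, hf⟩, rfl⟩

theorem card_KF : Nat.card KF = 25920 := by
  rw [← card_Ka.1, ← map_KF, Subgroup.card_map_of_injective act_inj]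

theorem blkHom_val (A : KF) : (blkHom A).1.1 = blk A.1 := rfl

attribute [local irreducible] blkHom

theorem blkHom_inj : Function.Injective blkHom := by
  refine (injective_iff_map_eq_one _).2 fun A hA => ?_
  have hR : blkHom.ker.map (act.comp KF.subtype) = ⊥ := by
    refine two_A _ ?_ ?_ ?_
    · intro p hp
      obtain ⟨B, -, rfl⟩ := Subgroup.mem_map.1 hp
      exact map_KF ▸ Subgroup.mem_map_of_mem act B.2
    · rintro ⟨p, hp⟩
      obtain ⟨B, hB, rfl⟩ := Subgroup.mem_map.1 hp
      refine ⟨2, Subtype.ext ?_⟩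
      show act B.1 ^ 2 ^ 2 = 1
      rw [← map_pow,
        show (2:ℕ) ^ 2 = 4 from rfl, ker_four (KF_fix B.2) ?_, map_one]
      rw [← blkHom_val, MonoidHom.mem_ker.1 hB]
      rfl
    · intro k hk r hr
      rw [← map_KF] at hk
      obtain ⟨K', hK', rfl⟩ := Subgroup.mem_map.1 hk
      obtain ⟨B, hB, rfl⟩ := Subgroup.mem_map.1 hr
      refine Subgroup.mem_map.2 ⟨⟨K', hK'⟩ * B * ⟨K', hK'⟩⁻¹, ?_, ?_⟩
      · rw [MonoidHom.mem_ker, map_mul, map_mul, map_inv, MonoidHom.mem_ker.1 hB, mul_one, mul_inv_cancel]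
      · rw [map_mul, map_mul, map_inv]
        rfl
  have h1 := Subgroup.mem_map_of_mem (act.comp KF.subtype) (MonoidHom.mem_ker.2 hA)
  rw [hR, Subgroup.mem_bot, MonoidHom.comp_apply, Subgroup.coe_subtype] at h1
  exact Subtype.ext (act_inj (h1.trans (map_one act).symm))

theorem blkHom_bij : Function.Bijective blkHom := by
  refine (Nat.bijective_iff_injective_and_card _).2 ⟨blkHom_inj, ?_⟩
  rw [card_KF, CHZ.card_L]

/-- the isomorphism on permutations -/
noncomputable def blkP : ↥(Kp ⊓ fixv va : Subgroup PV) ≃* CHZ.L :=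
  ((MulEquiv.subgroupCongr map_KF.symm).trans (Subgroup.equivMapOfInjective KF act act_inj).symm).trans
    (MulEquiv.ofBijective blkHom blkHom_bij)

theorem blkP_entry (p : ↥(Kp ⊓ fixv va : Subgroup PV)) (i j : Fin 4) :
    (blkP p).1.1 i j = (p : PV) (Pi.single (up j) 1) (up i) := by
  set A := (Subgroup.equivMapOfInjective KF act act_inj).symm (MulEquiv.subgroupCongr map_KF.symm p)
  have hA : act A.1 = (p : PV) := congrArg Subtype.val
    ((Subgroup.equivMapOfInjective KF act act_inj).apply_symm_apply (MulEquiv.subgroupCongr map_KF.symm p))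
  have hb : (blkP p) = blkHom A := rfl
  rw [hb, blkHom_val, ← hA, act_apply]
  simp [blk]

theorem eq_one_of_move {p : PV} (hp : p ∈ Kp) (hv : p va = va)
    (h : ∀ j, ∃ c : F4, p (Pi.single (up j) 1) = Pi.single (up j) 1 + c • va) : p = 1 := by
  have e : blkP ⟨p, hp, hv⟩ = 1 := by
    refine Subtype.ext (Subtype.ext (Matrix.ext fun i j => ?_))
    obtain ⟨c, hc⟩ := h j
    rw [blkP_entry]
    show p (Pi.single (up j) 1) (up i) = (1 : Matrix (Fin 4) (Fin 4) F4) i j
    rw [hc, Pi.add_apply, Pi.smul_apply, va_up, smul_zero, add_zero, Pi.single_apply, Matrix.one_apply]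
    have : up i = up j ↔ i = j := ⟨fun e => Fin.ext (by simpa [up, Fin.ext_iff] using e), fun e => e ▸ rfl⟩
    simp only [this]
  exact congrArg Subtype.val (blkP.injective (e.trans (map_one _).symm))

theorem herm_va_up (j : Fin 4) : Small.Unitary.herm va (Pi.single (up j) 1 : V6) = 0 := by
  rw [Small.Unitary.herm]
  simp [va_up]

theorem eo_semi (c : F4) (v : V6) : eo 0 (c • v) = star c • eo 0 v := by
  funext i
  show star (c * v (Equiv.swap 0 1 i)) = star c * star (v (Equiv.swap 0 1 i))
  exact star_mul' _ _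

theorem fix_two_Kp {p : PV} (hp : p ∈ Gam) {v : V6} (hv : v ≠ 0) (h1 : p v = v)
    (h2 : p (F4.w • v) = F4.w • v) : p ∈ Kp := by
  refine hp.resolve_right fun h' => hv ?_
  have e := scal_comm h' F4.w v
  rw [Equiv.Perm.mul_apply, Equiv.Perm.mul_apply, h2, h1, eo_semi] at e
  have key : ∀ a : F4, star F4.w * a = F4.w * a → a = 0 := by decide +kernel
  have h0 : eo 0 v = 0 := funext fun i => key _ (congrFun e i)
  rw [← (eo 0).symm_apply_apply v, h0]
  refine (eo 0).symm_apply_eq.2 ?_
  funext i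
  exact (star_zero F4).symm

end Pw

end Cfsg.Agent.Spor.LFT
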