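import Cfsg.Agent.Lib.Spor.LFTFusion

/-!
Large Fischer type: the section of the extraspecial subgroup over the vectors that is equivariant for the
centraliser of an element of order three acting as a scalar, and its cocycle.
-/

set_option autoImplicit false
set_option maxRecDepth 100000
set_option linter.unusedSectionVars false

namespace Cfsg.Agent.Spor.LFT

open Cfsg.Agent.Spor.SUSix (V6 code code_lt vecOf_code)
open Cfsg.Agent.Spor.SpFour (F4)
open Cfsg.Agent.Small.Unitary (herm)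

attribute [local irreducible] KerB phiA phiB CmpS Cmp

namespace Chk

/-- parity of the quadratic form -/
def qK (v : ℕ) : Bool := Nat.beq (wt v % 2) 1

/-- commutator form -/
def tK (u v : ℕ) : Bool := xor (qK (Nat.xor u v)) (xor (qK u) (qK v))

/-- cocycle of the section -/
def bK (u v : ℕ) : Bool :=
  xor (tK (wPow 1 u) v) (xor (tK (wPow 2 u) v) (tK (wPow 2 u) (wPow 1 v)))

end Chk

/-- parity of the quadratic form -/
def qB (v : V6) : Bool := Chk.qK (code v)

/-- commutator form -/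
def tB (u v : V6) : Bool := Chk.tK (code u) (code v)

/-- cocycle of the section -/
def bB (u v : V6) : Bool := Chk.bK (code u) (code v)

theorem tB_eq (u v : V6) : tB u v = xor (qB (u + v)) (xor (qB u) (qB v)) := by
  rw [qB, code_add]; rfl

theorem bB_eq (u v : V6) : bB u v =
    xor (tB (F4.w • u) v) (xor (tB (F4.w • (F4.w • u)) v) (tB (F4.w • (F4.w • u)) (F4.w • v))) := by
  simp only [tB, Syl.code_w]
  rfl

universe u

variable {G : Type u} [Group G] [Finite G] {z : G} {Q N M : Subgroup G}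
variable {f : Frame z Q M} {x : Subgroup.centralizer ({z} : Set G)}

/-- the central involution or one -/
def zp (z : G) (b : Bool) : G := bif b then z else 1

theorem zp_false (z : G) : zp z false = 1 := rfl

theorem zp_true (z : G) : zp z true = z := rfl

variable (S : Setup z Q N M)

include S

theorem Setup.zp_mul (a b : Bool) : zp z a * zp z b = zp z (xor a b) := by
  cases a <;> cases b <;> simp [zp, S.hyp.xt.sq]

theorem Setup.zp_inj {a b : Bool} (h : zp z a = zp z b) : a = b := by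
  cases a <;> cases b <;> simp [zp] at h ⊢ <;>
    first
      | exact S.hyp.xt.ne h
      | exact S.hyp.xt.ne h.symm

theorem Setup.zp_mem (b : Bool) : zp z b ∈ Q := by
  cases b
  exacts [one_mem _, S.hyp.xt.mem]

theorem Setup.zp_inv (b : Bool) : (zp z b)⁻¹ = zp z b := inv_eq_of_mul_eq_one_right (by
  rw [S.zp_mul, Bool.xor_self]; rfl)

theorem Setup.zp_comm (b : Bool) {c : G} (hc : Commute c z) : Commute c (zp z b) := by
  cases b
  exacts [Commute.one_right c, hc]

theorem Setup.zp_commQ (b : Bool) {q : G} (hq : q ∈ Q) : Commute q (zp z b) :=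
  S.zp_comm b (S.hyp.xt.cen q hq).symm

theorem Frame.vec_zp (f : Frame z Q M) (b : Bool) : f.vec (zp z b) = 0 := by
  cases b
  exacts [f.vec_one S, f.vec_z S]

theorem Frame.sq_zp (f : Frame z Q M) {a : G} (ha : a ∈ Q) : a * a = zp z (qB (f.vec a)) := by
  have h := f.sq_iff a ha
  rw [herm_self] at h
  rcases Nat.mod_two_eq_zero_or_one (Chk.wt (code (f.vec a))) with e | e
  · rw [if_pos e] at h
    rw [h.2 rfl, qB, Chk.qK, e]
    rfl
  · rw [qB, Chk.qK, e]
    rcases S.hyp.xt.sq_mem ha with e' | e'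
    · have h0 := h.1 e'
      rw [if_neg (by omega)] at h0
      exact absurd h0 one_ne_zero
    · exact e'

theorem Frame.comm_zp (f : Frame z Q M) {a b : G} (ha : a ∈ Q) (hb : b ∈ Q) :
    b * a = a * b * zp z (tB (f.vec a) (f.vec b)) := by
  have hab := f.sq_zp S (mul_mem ha hb)
  rw [f.vec_mul a ha b hb] at hab
  obtain ⟨c, hc⟩ : ∃ c, b * a = a * b * zp z c := by
    rcases S.hyp.xt.comm_mem hb ha with e | e
    · refine ⟨false, ?_⟩
      rw [zp_false, mul_one]
      exact mul_inv_eq_iff_eq_mul.1 (mul_inv_eq_one.1 e)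
    · refine ⟨true, ?_⟩
      have h1 := mul_inv_eq_iff_eq_mul.1 (mul_inv_eq_iff_eq_mul.1 e)
      rw [zp_true, h1, mul_assoc, (S.hyp.xt.cen _ (mul_mem ha hb)).eq]
  have e2 : a * b * (a * b) = a * a * (b * b) * zp z c := by
    calc a * b * (a * b) = a * (b * a) * b := by group
      _ = a * (a * b * zp z c) * b := by rw [hc]
      _ = a * a * b * (zp z c * b) := by group
      _ = a * a * b * (b * zp z c) := by rw [(S.zp_commQ c hb).eq]
      _ = a * a * (b * b) * zp z c := by group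
  rw [f.sq_zp S ha, f.sq_zp S hb, S.zp_mul, S.zp_mul, hab] at e2
  rw [hc, tB_eq, S.zp_inj e2]
  congr 2
  cases qB (f.vec a) <;> cases qB (f.vec b) <;> cases c <;> rfl

theorem Frame.vec_inv (f : Frame z Q M) {a : G} (ha : a ∈ Q) : f.vec a⁻¹ = f.vec a := by
  have h := f.vec_mul a⁻¹ (inv_mem ha) a ha
  rw [inv_mul_cancel, f.vec_one S] at h
  have key : ∀ a b : F4, 0 = a + b → a = b := by decide +kernel
  exact funext fun i => key _ _ (congrFun h i)

theorem Xel.eta_mul (X : Xel f x) {a b : G} (ha : a ∈ Q) (hb : b ∈ Q) :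
    eta (x : G) (a * b) = eta (x : G) a * eta (x : G) b * zp z (bB (f.vec a) (f.vec b)) := by
  have hxz : Commute (x : G) z := Subgroup.mem_centralizer_singleton_iff.1 x.2
  set a1 := (x : G) * a * (x : G)⁻¹ with ea1
  set a2 := (x : G) * a1 * (x : G)⁻¹ with ea2
  set b1 := (x : G) * b * (x : G)⁻¹ with eb1
  set b2 := (x : G) * b1 * (x : G)⁻¹ with eb2
  have ha1 : a1 ∈ Q := S.hyp.normQ x hxz a ha
  have ha2 : a2 ∈ Q := S.hyp.normQ x hxz a1 ha1
  have hb1 : b1 ∈ Q := S.hyp.normQ x hxz b hb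
  have hb2 : b2 ∈ Q := S.hyp.normQ x hxz b1 hb1
  have v1 : f.vec a1 = F4.w • f.vec a := X.vec f ha
  have v2 : f.vec a2 = F4.w • (F4.w • f.vec a) := by rw [ea2, X.vec f ha1, v1]
  have w1 : f.vec b1 = F4.w • f.vec b := X.vec f hb
  have hA := f.comm_zp S ha1 hb
  have hB := f.comm_zp S ha2 hb1
  have hC := f.comm_zp S ha2 hb
  rw [v1] at hA
  rw [v2, w1] at hB
  rw [v2] at hC
  set A := tB (F4.w • f.vec a) (f.vec b)
  set B := tB (F4.w • (F4.w • f.vec a)) (F4.w • f.vec b)
  set C := tB (F4.w • (F4.w • f.vec a)) (f.vec b)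
  have cA : ∀ q ∈ Q, zp z A * q = q * zp z A := fun q hq => (S.zp_commQ A hq).eq.symm
  have cB : ∀ q ∈ Q, zp z B * q = q * zp z B := fun q hq => (S.zp_commQ B hq).eq.symm
  have cC : ∀ q ∈ Q, zp z C * q = q * zp z C := fun q hq => (S.zp_commQ C hq).eq.symm
  have hsplit : ∀ p q : G, (x : G) * (p * q) * (x : G)⁻¹ = ((x : G) * p * (x : G)⁻¹) * ((x : G) * q * (x : G)⁻¹) :=
    fun p q => by group
  show a * b * ((x : G) * (a * b) * (x : G)⁻¹) * ((x : G) * ((x : G) * (a * b) * (x : G)⁻¹) * (x : G)⁻¹) =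
    a * a1 * a2 * (b * b1 * b2) * zp z _
  rw [hsplit, ← ea1, ← eb1, hsplit, ← ea2, ← eb2, bB_eq]
  calc a * b * (a1 * b1) * (a2 * b2) = a * (b * a1) * (b1 * a2) * b2 := by group
    _ = a * (a1 * b * zp z A) * (a2 * b1 * zp z B) * b2 := by rw [hA, hB]
    _ = a * a1 * b * (zp z A * (a2 * b1)) * (zp z B * b2) := by group
    _ = a * a1 * b * (a2 * b1 * zp z A) * (b2 * zp z B) := by rw [cA _ (mul_mem ha2 hb1), cB _ hb2]
    _ = a * a1 * (b * a2) * b1 * (zp z A * b2) * zp z B := by group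
    _ = a * a1 * (a2 * b * zp z C) * b1 * (b2 * zp z A) * zp z B := by rw [hC, cA _ hb2]
    _ = a * a1 * a2 * b * (zp z C * (b1 * b2)) * (zp z A * zp z B) := by group
    _ = a * a1 * a2 * (b * b1 * b2) * (zp z C * (zp z A * zp z B)) := by rw [cC _ (mul_mem hb1 hb2)]; group
    _ = _ := by
      rw [S.zp_mul, S.zp_mul]
      congr 2
      show xor C (xor A B) = xor A (xor C B)
      cases A <;> cases B <;> cases C <;> rfl

theorem Xel.eta_zp (X : Xel f x) (b : Bool) : eta (x : G) (zp z b) = zp z b := by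
  have hxz : Commute (x : G) z := Subgroup.mem_centralizer_singleton_iff.1 x.2
  have h : (x : G) * zp z b * (x : G)⁻¹ = zp z b := by
    rw [(S.zp_comm b hxz).eq, mul_inv_cancel_right]
  rw [eta, h, h, S.zp_mul, S.zp_mul]
  congr 1
  cases b <;> rfl

theorem Xel.eta_add_zp (X : Xel f x) {q : G} (hq : q ∈ Q) (b : Bool) :
    eta (x : G) (q * zp z b) = eta (x : G) q * zp z b := by
  rw [X.eta_mul S hq (S.zp_mem b), X.eta_zp S, f.vec_zp S]
  have h0 : ∀ u : V6, bB u 0 = false := by
    intro u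
    have key : ∀ k : ℕ, Chk.tK k 0 = false := fun k => by
      simp only [Chk.tK, show Nat.xor k 0 = k from Nat.xor_zero k]
      cases Chk.qK k <;> decide +kernel
    simp only [bB, Chk.bK, show code (0 : V6) = 0 by decide +kernel, show Chk.wPow 1 0 = 0 by decide +kernel, key,
      Bool.xor_false]
  rw [h0, zp_false, mul_one]

theorem Xel.sec_exists (X : Xel f x) (v : V6) : ∃! q, q ∈ Q ∧ f.vec q = v ∧ eta (x : G) q = 1 := by
  have hxz : Commute (x : G) z := Subgroup.mem_centralizer_singleton_iff.1 x.2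
  obtain ⟨q, hq, rfl⟩ := f.vec_surj v
  obtain ⟨b, hb⟩ : ∃ b, eta (x : G) q = zp z b := by
    have h1 := S.hyp.normQ x hxz q hq
    have h2 := S.hyp.normQ x hxz _ h1
    have hv : f.vec (eta (x : G) q) = f.vec 1 := by
      rw [eta, f.vec_mul _ (mul_mem hq h1) _ h2, f.vec_mul _ hq _ h1, X.vec f h1, X.vec f hq, f.vec_one S]
      have key : ∀ a : F4, a + F4.w * a + F4.w * (F4.w * a) = 0 := by decide +kernel
      exact funext fun i => key _
    rcases (f.vec_eq _ (one_mem _) _ (mul_mem (mul_mem hq h1) h2)).1 hv.symm with e | e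
    · exact ⟨false, e⟩
    · exact ⟨true, e.trans (one_mul z)⟩
  refine ⟨q * zp z b, ⟨mul_mem hq (S.zp_mem b), ?_, ?_⟩, fun p ⟨hp, hpv, hpe⟩ => ?_⟩
  · rw [f.vec_mul q hq _ (S.zp_mem b), f.vec_zp S, add_zero]
  · rw [X.eta_add_zp S hq, hb, S.zp_mul, Bool.xor_self, zp_false]
  · obtain ⟨c, rfl⟩ : ∃ c, p = q * zp z c := by
      rcases (f.vec_eq q hq p hp).1 hpv.symm with e | e
      · exact ⟨false, by rw [e, zp_false, mul_one]⟩
      · exact ⟨true, e⟩
    rw [X.eta_add_zp S hq, hb, S.zp_mul, ← zp_false z] at hpe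
    have := S.zp_inj hpe
    congr 2
    revert this
    cases b <;> cases c <;> simp

omit S

/-- the equivariant section -/
noncomputable def sec (f : Frame z Q M) (x : Subgroup.centralizer ({z} : Set G)) (v : V6) : G :=
  haveI := Classical.propDecidable (∃ q, q ∈ Q ∧ f.vec q = v ∧ eta (x : G) q = 1)
  if h : ∃ q, q ∈ Q ∧ f.vec q = v ∧ eta (x : G) q = 1 then h.choose else 1

include S

theorem Xel.sec_spec (X : Xel f x) (v : V6) :
    sec f x v ∈ Q ∧ f.vec (sec f x v) = v ∧ eta (x : G) (sec f x v) = 1 := by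
  have h := (X.sec_exists S v).exists
  rw [sec, dif_pos h]
  exact h.choose_spec

theorem Xel.sec_eq (X : Xel f x) {v : V6} {q : G} (hq : q ∈ Q) (hv : f.vec q = v) (he : eta (x : G) q = 1) :
    sec f x v = q :=
  (X.sec_exists S v).unique (X.sec_spec S v) ⟨hq, hv, he⟩

theorem Xel.sec_zero (X : Xel f x) : sec f x 0 = 1 :=
  X.sec_eq S (one_mem _) (f.vec_one S) (by simp [eta])

theorem Xel.sec_mul (X : Xel f x) (u v : V6) :
    sec f x u * sec f x v = sec f x (u + v) * zp z (bB u v) := by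
  obtain ⟨hu, uv, ue⟩ := X.sec_spec S u
  obtain ⟨hv, vv, ve⟩ := X.sec_spec S v
  have h := X.sec_eq S (v := u + v) (q := sec f x u * sec f x v * zp z (bB u v))
    (mul_mem (mul_mem hu hv) (S.zp_mem _))
    (by rw [f.vec_mul _ (mul_mem hu hv) _ (S.zp_mem _), f.vec_mul _ hu _ hv, uv, vv, f.vec_zp S, add_zero])
    (by rw [X.eta_add_zp S (mul_mem hu hv), X.eta_mul S hu hv, ue, ve, uv, vv, one_mul, one_mul, S.zp_mul,
      Bool.xor_self, zp_false])
  rw [h, mul_assoc _ (zp z (bB u v)), S.zp_mul, Bool.xor_self, zp_false, mul_one]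

theorem Xel.sec_inv (X : Xel f x) (v : V6) : (sec f x v)⁻¹ = sec f x v * zp z (qB v) := by
  obtain ⟨hv, vv, -⟩ := X.sec_spec S v
  have h := f.sq_zp S hv
  rw [vv] at h
  refine inv_eq_of_mul_eq_one_right ?_
  rw [← mul_assoc, h, S.zp_mul, Bool.xor_self, zp_false]

theorem Xel.sec_conj (X : Xel f x) {c : Subgroup.centralizer ({z} : Set G)} (hc : Commute c x) (v : V6) :
    (c : G) * sec f x v * (c : G)⁻¹ = sec f x (f.π c v) := by
  obtain ⟨hv, vv, ve⟩ := X.sec_spec S v
  have hcz : Commute (c : G) z := Subgroup.mem_centralizer_singleton_iff.1 c.2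
  have hcx : Commute (c : G) (x : G) := congrArg Subtype.val hc.eq
  refine (X.sec_eq S (S.hyp.normQ c hcz _ hv) (by rw [f.vec_conj c _ hv, vv]) ?_).symm
  have hm : ∀ q : G, (x : G) * ((c : G) * q * (c : G)⁻¹) * (x : G)⁻¹ = (c : G) * ((x : G) * q * (x : G)⁻¹) * (c : G)⁻¹ :=
    fun q => by
    calc _ = ((x : G) * c) * q * ((x : G) * (c : G))⁻¹ := by group
      _ = ((c : G) * x) * q * ((c : G) * (x : G))⁻¹ := by rw [hcx.eq]
      _ = _ := by group
  rw [eta, hm, hm]
  rw [eta] at ve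
  calc _ = (c : G) * (sec f x v * ((x : G) * sec f x v * (x : G)⁻¹) *
        ((x : G) * ((x : G) * sec f x v * (x : G)⁻¹) * (x : G)⁻¹)) * (c : G)⁻¹ := by group
    _ = 1 := by rw [ve, mul_one, mul_inv_cancel]

theorem Xel.sec_move (X : Xel f x) (v : V6) {q : G} (hq : q ∈ Q) :
    q * sec f x v * q⁻¹ = sec f x v * zp z (tB v (f.vec q)) := by
  obtain ⟨hv, vv, -⟩ := X.sec_spec S v
  rw [f.comm_zp S hv hq, vv, mul_assoc (sec f x v) q, ← (S.zp_commQ _ hq).symm.eq, mul_assoc,
    mul_inv_cancel_right]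

/-- moving an element commuting with the element of order three by the section -/
theorem Xel.sec_twist (X : Xel f x) {c : Subgroup.centralizer ({z} : Set G)} (hc : Commute c x) (v : V6) :
    sec f x v * (c : G) * (sec f x v)⁻¹ =
      sec f x (v + f.π c v) * zp z (xor (bB v (f.π c v)) (qB (f.π c v))) * (c : G) := by
  have h : sec f x v * (c : G) * (sec f x v)⁻¹ = sec f x v * ((c : G) * sec f x v * (c : G)⁻¹)⁻¹ * (c : G) := by
    group
  rw [h, X.sec_conj S hc, X.sec_inv S, ← mul_assoc, X.sec_mul S, mul_assoc (sec f x (v + f.π c v)), S.zp_mul]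

omit S

end Cfsg.Agent.Spor.LFT
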