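import Cfsg.Agent.Lib.Spor.LFTModel
import Cfsg.Agent.Lib.Spor.LFTPerm
import Cfsg.Agent.Lib.Spor.LFTChecksB
import Cfsg.Agent.Lib.Spor.LFTChecksC

/-!
The stabilisers of the two representatives: O6-(2) on 27 five-sets and 2^5:A6 on fifteen lines.
-/

set_option autoImplicit false
set_option maxRecDepth 100000

namespace Cfsg.Agent.Spor.LFT

open Cfsg.Agent.Spor.SUSix (V6 code code_lt vecOf_code)
open Cfsg.Agent.Spor.CC

/-- the stabiliser of a vector -/
def fixv (v : V6) : Subgroup PV := MulAction.stabilizer PV v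

theorem mem_fixv {v : V6} {p : PV} : p ∈ fixv v ↔ p v = v := Iff.rfl

theorem card_stab {K : Subgroup PV} {v : V6} {S : Set V6}
    (hin : ∀ p ∈ K, p v ∈ S) (hsur : ∀ w ∈ S, ∃ p ∈ K, p v = w) :
    Nat.card K = S.ncard * Nat.card (K ⊓ fixv v : Subgroup PV) := by
  have horb : MulAction.orbit K v = S := by
    ext w
    constructor
    · rintro ⟨p, rfl⟩; exact hin p p.2
    · intro hw
      obtain ⟨p, hp, e⟩ := hsur w hw
      exact ⟨⟨p, hp⟩, e⟩
  have h := MulAction.index_stabilizer K v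
  rw [horb] at h
  have e : (fixv v).subgroupOf K = MulAction.stabilizer K v := by ext p; rfl
  rw [← Subgroup.card_mul_index (MulAction.stabilizer K v), h, ← e, ← Subgroup.inf_subgroupOf_left,
    Nat.card_congr (Subgroup.subgroupOfEquivOfLe inf_le_left).toEquiv, mul_comm]

theorem count_code (P : ℕ → Bool) {n : ℕ} (h : ((List.range 4096).filter P).length = n) :
    {v : V6 | P (code v) = true}.ncard = n := by
  have e : code '' {v : V6 | P (code v) = true} = (((List.range 4096).filter P).toFinset : Set ℕ) := by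
    ext k
    simp only [List.coe_toFinset, List.mem_filter, List.mem_range, Set.mem_image, Set.mem_setOf_eq]
    constructor
    · rintro ⟨v, hv, rfl⟩; exact ⟨code_lt v, hv⟩
    · rintro ⟨hk, hP⟩; exact ⟨SUSix.vecOf k, by rwa [code_vecOf k hk], code_vecOf k hk⟩
  rw [← Set.ncard_image_of_injective _ code_inj, e, Set.ncard_coe_finset,
    List.toFinset_card_of_nodup (List.nodup_range.filter _), h]

theorem count_A : {v : V6 | PI v ∧ PA v}.ncard = 378 ∧ {v : V6 | PI v ∧ ¬ PA v}.ncard = 1701 := by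
  constructor
  · rw [← count_code (fun k => Chk.isI k && Chk.isA k) (n := 378) (by decide +kernel)]
    congr 1; ext v; simp [PI, PA]
  · rw [← count_code (fun k => Chk.isI k && !Chk.isA k) (n := 1701) (by decide +kernel)]
    congr 1; ext v; simp [PI, PA]

theorem card_Ka : Nat.card (Kp ⊓ fixv va : Subgroup PV) = 25920 ∧
    Nat.card (Gam ⊓ fixv va : Subgroup PV) = 51840 := by
  have hmem : ∀ p ∈ Gam, p va ∈ {v : V6 | PI v ∧ PA v} := fun p hp =>
    ⟨(Gam_le_Pres hp va).2.2 PA_va.2.1, (Gam_le_Pres hp va).1.2 PA_va.1⟩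
  have hsur : ∀ w ∈ {v : V6 | PI v ∧ PA v}, ∃ p ∈ Kp, p va = w := fun w hw => (trans hw.1).1 hw.2
  have h1 := card_stab (fun p hp => hmem p (Kp_le hp)) hsur
  have h2 := card_stab hmem (fun w hw => by
    obtain ⟨p, hp, e⟩ := hsur w hw; exact ⟨p, Kp_le hp, e⟩)
  rw [card_Kp, count_A.1] at h1
  rw [card_Gam, count_A.1] at h2
  omega

theorem card_Kb : Nat.card (Kp ⊓ fixv vb : Subgroup PV) = 5760 ∧
    Nat.card (Gam ⊓ fixv vb : Subgroup PV) = 11520 := by
  have hmem : ∀ p ∈ Gam, p vb ∈ {v : V6 | PI v ∧ ¬ PA v} := fun p hp =>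
    ⟨(Gam_le_Pres hp vb).2.2 PA_va.2.2.2.1, fun h => PA_va.2.2.1 ((Gam_le_Pres hp vb).1.1 h)⟩
  have hsur : ∀ w ∈ {v : V6 | PI v ∧ ¬ PA v}, ∃ p ∈ Kp, p vb = w := fun w hw => (trans hw.1).2 hw.2
  have h1 := card_stab (fun p hp => hmem p (Kp_le hp)) hsur
  have h2 := card_stab hmem (fun w hw => by
    obtain ⟨p, hp, e⟩ := hsur w hw; exact ⟨p, Kp_le hp, e⟩)
  rw [card_Kp, count_A.2] at h1
  rw [card_Gam, count_A.2] at h2
  omega

/-! ### permutations compatible with masks -/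

/-- pairs of a map and a compatible permutation -/
def Cmp (m : ℕ → ℕ) (n : ℕ) : Subgroup (PV × Equiv.Perm (Fin n)) where
  carrier := {q | ∀ (v : V6) (j : Fin n), Chk.tb (m (code (q.1 v))) (q.2 j) = Chk.tb (m (code v)) j}
  one_mem' := fun _ _ => rfl
  mul_mem' {a b} ha hb v j := (ha (b.1 v) (b.2 j)).trans (hb v j)
  inv_mem' {a} ha v j := by
    have h := ha (a.1⁻¹ v) (a.2⁻¹ j)
    rw [show a.1 (a.1⁻¹ v) = v from a.1.apply_symm_apply v,
      show a.2 (a.2⁻¹ j) = j from a.2.apply_symm_apply j] at h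
    exact h.symm

theorem cmp_unique {m : ℕ → ℕ} {n : ℕ} {wit : List ℕ} (hsep : Chk.sepOK m n wit = true)
    (hwit : ∀ k ∈ wit, k < 4096) {p : PV} {σ σ' : Equiv.Perm (Fin n)} (h : (p, σ) ∈ Cmp m n)
    (h' : (p, σ') ∈ Cmp m n) : σ = σ' := by
  refine Equiv.ext fun j => ?_
  by_contra hne
  simp only [Chk.sepOK, List.all_eq_true, List.mem_range, Bool.or_eq_true, List.any_eq_true, bne_iff_ne] at hsep
  rcases hsep _ (σ j).2 _ (σ' j).2 with e | ⟨k, hk, e⟩
  · exact hne (Fin.ext (Nat.eq_of_beq_eq_true e))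
  · apply e
    have h1 := h (p⁻¹ (SUSix.vecOf k)) j
    have h2 := h' (p⁻¹ (SUSix.vecOf k)) j
    simp only [show p (p⁻¹ (SUSix.vecOf k)) = SUSix.vecOf k from p.apply_symm_apply _,
      code_vecOf k (hwit k hk)] at h1 h2
    exact h1.trans h2.symm

/-- the maps with a compatible permutation -/
def CmpS (m : ℕ → ℕ) (n : ℕ) : Subgroup PV := (Cmp m n).map (MonoidHom.fst _ _)

theorem mem_CmpS {m : ℕ → ℕ} {n : ℕ} {p : PV} : p ∈ CmpS m n ↔ ∃ σ, (p, σ) ∈ Cmp m n :=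
  ⟨fun ⟨q, hq, e⟩ => ⟨q.2, by rw [← show q.1 = p from e]; exact hq⟩, fun ⟨σ, h⟩ => ⟨(p, σ), h, rfl⟩⟩

/-- the permutation of a map -/
noncomputable def cperm {m : ℕ → ℕ} {n : ℕ} (p : CmpS m n) : Equiv.Perm (Fin n) := (mem_CmpS.1 p.2).choose

theorem cperm_spec {m : ℕ → ℕ} {n : ℕ} (p : CmpS m n) : ((p : PV), cperm p) ∈ Cmp m n :=
  (mem_CmpS.1 p.2).choose_spec

theorem cperm_mul {m : ℕ → ℕ} {n : ℕ} {wit : List ℕ} (hsep : Chk.sepOK m n wit = true)
    (hwit : ∀ k ∈ wit, k < 4096) (a b : CmpS m n) : cperm (a * b) = cperm a * cperm b := by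
  have h1 : (((a : PV), cperm a) * ((b : PV), cperm b) : PV × Equiv.Perm (Fin n)) ∈ Cmp m n :=
    (Cmp m n).mul_mem (cperm_spec a) (cperm_spec b)
  have h2 : (((a * b : CmpS m n) : PV), cperm a * cperm b) ∈ Cmp m n := by
    rw [Subgroup.coe_mul]; exact h1
  exact cmp_unique hsep hwit (cperm_spec (a * b)) h2

/-- the permutation of a map, as a homomorphism -/
noncomputable def cmpHom {m : ℕ → ℕ} {n : ℕ} {wit : List ℕ} (hsep : Chk.sepOK m n wit = true)
    (hwit : ∀ k ∈ wit, k < 4096) : CmpS m n →* Equiv.Perm (Fin n) :=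
  MonoidHom.mk' cperm (cperm_mul hsep hwit)

theorem cmpHom_eq {m : ℕ → ℕ} {n : ℕ} {wit : List ℕ} (hsep : Chk.sepOK m n wit = true)
    (hwit : ∀ k ∈ wit, k < 4096) {p : CmpS m n} {σ : Equiv.Perm (Fin n)} (h : ((p : PV), σ) ∈ Cmp m n) :
    cmpHom hsep hwit p = σ :=
  cmp_unique hsep hwit (cperm_spec p) h

theorem witA_lt : ∀ k ∈ Dat.witA, k < 4096 := by decide +kernel
theorem witB_lt : ∀ k ∈ Dat.witB, k < 4096 := by decide +kernel

/-- the permutations of five-sets -/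
noncomputable def phiA : CmpS Chk.mA 27 →* Equiv.Perm (Fin 27) := cmpHom Chk.sep_A witA_lt

/-- the permutations of lines -/
noncomputable def phiB : CmpS Chk.mB 15 →* Equiv.Perm (Fin 15) := cmpHom Chk.sep_B witB_lt

theorem compA_chk (k : ℕ) (hk : k < 4096) : Chk.compA k = true := by
  by_cases h1 : k < 1024
  · exact all_range (p := Chk.compA) Chk.compA0 (Nat.zero_le _) (by omega)
  by_cases h2 : k < 2048
  · exact all_range (p := Chk.compA) Chk.compA1 (by omega) (by omega)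
  by_cases h3 : k < 3072
  · exact all_range (p := Chk.compA) Chk.compA2 (by omega) (by omega)
  exact all_range (p := Chk.compA) Chk.compA3 (by omega) (by omega)

theorem compB_chk (k : ℕ) (hk : k < 4096) : Chk.compB k = true := by
  by_cases h1 : k < 1024
  · exact all_range (p := Chk.compB) Chk.compB0 (Nat.zero_le _) (by omega)
  by_cases h2 : k < 2048
  · exact all_range (p := Chk.compB) Chk.compB1 (by omega) (by omega)
  by_cases h3 : k < 3072
  · exact all_range (p := Chk.compB) Chk.compB2 (by omega) (by omega)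
  exact all_range (p := Chk.compB) Chk.compB3 (by omega) (by omega)

/-- the generators of the first stabiliser -/
def gA (s : Fin 3) : PV := if s = 2 then eo 0 else act (wd (Dat.wordA.getD s.val []))

theorem wordA_lt (s : ℕ) (hs : s < 2) : ∀ x ∈ Dat.wordA.getD s [], x < 6 := by
  revert s; decide +kernel

theorem gA_cmp (s : Fin 3) : (gA s, pA s) ∈ Cmp Chk.mA 27 := by
  intro v j
  have h := compA_chk (code v) (code_lt v)
  simp only [Chk.compA, Chk.compOK, Bool.and_eq_true, List.all_eq_true, List.mem_range, beq_iff_eq] at h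
  fin_cases s
  · show Chk.tb (Chk.mA (code (act (wd (Dat.wordA.getD 0 [])) v))) _ = _
    rw [wd_code _ (wordA_lt 0 (by norm_num))]
    exact h.1.1 j j.2
  · show Chk.tb (Chk.mA (code (act (wd (Dat.wordA.getD 1 [])) v))) _ = _
    rw [wd_code _ (wordA_lt 1 (by norm_num))]
    exact h.1.2 j j.2
  · show Chk.tb (Chk.mA (code (eo 0 v))) _ = _
    rw [eo_code]
    exact h.2 j j.2

theorem gA_fix (s : Fin 3) : gA s va = va := by
  refine code_inj ?_
  have h := Chk.fix_ok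
  simp only [Chk.fixOK, Bool.and_eq_true, List.all_eq_true] at h
  obtain ⟨⟨⟨⟨⟨⟨hA, -⟩, hE⟩, -⟩, -⟩, -⟩, -⟩ := h
  fin_cases s
  · show code (act (wd (Dat.wordA.getD 0 [])) va) = _
    rw [wd_code _ (wordA_lt 0 (by norm_num)), PA_va.2.2.2.2.1]
    exact Nat.eq_of_beq_eq_true (hA _ (by decide +kernel))
  · show code (act (wd (Dat.wordA.getD 1 [])) va) = _
    rw [wd_code _ (wordA_lt 1 (by norm_num)), PA_va.2.2.2.2.1]
    exact Nat.eq_of_beq_eq_true (hA _ (by decide +kernel))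
  · show code (eo 0 va) = _
    rw [eo_code, PA_va.2.2.2.2.1]
    exact Nat.eq_of_beq_eq_true (hE (Chk.en 0) (by decide +kernel)).1

theorem gA_mem (s : Fin 3) : gA s ∈ CmpS Chk.mA 27 := mem_CmpS.2 ⟨_, gA_cmp s⟩

theorem phiA_gen (s : Fin 3) : phiA ⟨gA s, gA_mem s⟩ = pA s := cmpHom_eq _ _ (gA_cmp s)

theorem stabA : ∃ (hG : Gam ⊓ fixv va ≤ CmpS Chk.mA 27),
    Function.Injective (phiA.comp (Subgroup.inclusion hG)) ∧ (phiA.comp (Subgroup.inclusion hG)).range = rho.range ∧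
      ∀ i j : Fin 27, ∃ p, ∃ hp : p ∈ Kp ⊓ fixv va, phiA ⟨p, hG ⟨Kp_le hp.1, hp.2⟩⟩ i = j := by
  obtain ⟨k0, k1⟩ := card_Ka
  set H2 := Subgroup.closure ({gA 0, gA 1} : Set PV) with hH2
  have h2le : H2 ≤ Kp ⊓ fixv va := (Subgroup.closure_le _).2 (by
    rintro x (rfl | rfl)
    · exact ⟨⟨_, wd_mem _, rfl⟩, gA_fix 0⟩
    · exact ⟨⟨_, wd_mem _, rfl⟩, gA_fix 1⟩)
  have h2S : H2 ≤ CmpS Chk.mA 27 := (Subgroup.closure_le _).2 (by
    rintro x (rfl | rfl) <;> exact gA_mem _)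
  have hlb : 25920 ≤ Nat.card H2 := by
    rw [← Chk.chain_A2.2]
    refine (chain_lb (phiA.comp (Subgroup.inclusion h2S)) (Dat.permA.take 2)
      (fun s => if hs : s = 0 then ⟨gA 0, Subgroup.subset_closure (Or.inl rfl)⟩
        else ⟨gA 1, Subgroup.subset_closure (Or.inr rfl)⟩) (fun s hs u => ?_) Dat.chainA2 Chk.chain_A2.1).trans
      (Finite.card_range_le _)
    have hs' : s < 2 := lt_of_lt_of_le hs (List.length_take_le _ _)
    interval_cases s
    · rw [dif_pos rfl]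
      show ((phiA ⟨gA 0, _⟩ u : Fin 27) : ℕ) = _
      rw [phiA_gen 0]
      rfl
    · rw [dif_neg one_ne_zero]
      show ((phiA ⟨gA 1, _⟩ u : Fin 27) : ℕ) = _
      rw [phiA_gen 1]
      rfl
  have hKa : Kp ⊓ fixv va = H2 := (Subgroup.eq_of_le_of_card_ge h2le (by rw [k0]; exact hlb)).symm
  have hτ : eo 0 ∈ Gam ⊓ fixv va := ⟨outer_mem, gA_fix 2⟩
  have hG : Gam ⊓ fixv va ≤ CmpS Chk.mA 27 := by
    rintro p ⟨hp | hp, hf⟩
    · exact h2S (hKa ▸ ⟨hp, hf⟩)
    · have h3 : eo 0 * p ∈ CmpS Chk.mA 27 := h2S (hKa ▸ ⟨hp, (fixv va).mul_mem hτ.2 hf⟩)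
      have h4 := mul_mem (gA_mem 2) h3
      rwa [show gA 2 = eo 0 from rfl, ← mul_assoc, eo_sq, one_mul] at h4
  set f := phiA.comp (Subgroup.inclusion hG) with hf
  have hfg : ∀ s, ∀ hm : gA s ∈ Gam ⊓ fixv va, f ⟨gA s, hm⟩ = pA s := fun s hm => phiA_gen s
  have hmem : ∀ s, gA s ∈ Gam ⊓ fixv va := fun s => by
    refine ⟨?_, gA_fix s⟩
    fin_cases s
    · exact Kp_le ⟨_, wd_mem _, rfl⟩
    · exact Kp_le ⟨_, wd_mem _, rfl⟩
    · exact outer_mem
  have hlo : 51840 ≤ Nat.card f.range := by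
    rw [← Chk.chain_A3.2]
    refine chain_lb f Dat.permA (fun s => ⟨gA (Fin.ofNat 3 s), hmem _⟩) (fun s hs u => ?_) Dat.chainA3 Chk.chain_A3.1
    rw [hfg]
    have hs' : s < 3 := lt_of_lt_of_eq hs (by decide +kernel)
    show (Dat.permA.getD (Fin.ofNat 3 s).val []).getD u 0 = _
    rw [show (Fin.ofNat 3 s).val = s from Nat.mod_eq_of_lt hs']
  have hle : f.range ≤ rho.range := by
    rintro _ ⟨⟨p, hp⟩, rfl⟩
    have key : ∀ q ∈ H2, ∀ hq : q ∈ Gam ⊓ fixv va, f ⟨q, hq⟩ ∈ rho.range := by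
      intro q hq
      induction hq using Subgroup.closure_induction with
      | mem y hy =>
        intro hy'
        rcases hy with rfl | rfl <;> rw [hfg] <;> exact pA_mem _
      | one => intro h1; exact (map_one f) ▸ one_mem _
      | mul a b ha hb iha ihb =>
        intro hab
        have e : (⟨a * b, hab⟩ : ↥(Gam ⊓ fixv va)) = ⟨a, ⟨Kp_le (h2le ha).1, (h2le ha).2⟩⟩ * ⟨b, ⟨Kp_le (h2le hb).1, (h2le hb).2⟩⟩ := rfl
        rw [e, map_mul]
        exact mul_mem (iha _) (ihb _)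
      | inv a ha iha =>
        intro hai
        have e : (⟨a⁻¹, hai⟩ : ↥(Gam ⊓ fixv va)) = (⟨a, ⟨Kp_le (h2le ha).1, (h2le ha).2⟩⟩)⁻¹ := rfl
        rw [e, map_inv]
        exact inv_mem (iha _)
    rcases hp.1 with hk | hk
    · exact key p (hKa ▸ ⟨hk, hp.2⟩) hp
    · have h1 := key _ (hKa ▸ ⟨hk, (fixv va).mul_mem hτ.2 hp.2⟩) ⟨mul_mem outer_mem hp.1, (fixv va).mul_mem hτ.2 hp.2⟩
      have e : (⟨p, hp⟩ : ↥(Gam ⊓ fixv va)) =
          ⟨gA 2, hmem 2⟩ * ⟨eo 0 * p, ⟨mul_mem outer_mem hp.1, (fixv va).mul_mem hτ.2 hp.2⟩⟩ := by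
        refine Subtype.ext ?_
        show p = eo 0 * (eo 0 * p)
        rw [← mul_assoc, eo_sq, one_mul]
      rw [e, map_mul, hfg]
      exact mul_mem (pA_mem 2) h1
  have heq : f.range = rho.range := Subgroup.eq_of_le_of_card_ge hle (by rw [card_rho]; exact hlo)
  refine ⟨hG, ?_, heq, fun i j => ?_⟩
  · have hb : Function.Bijective f.rangeRestrict :=
      (Nat.bijective_iff_surjective_and_card _).2 ⟨f.rangeRestrict_surjective, by rw [k1, heq, card_rho]⟩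
    exact fun a b e => hb.1 (Subtype.ext e)
  · -- the first level of the chain gives all images of a point
    have hlev : ∀ a : Fin 27, ∃ w ∈ (Dat.chainA2.getD 0 (0, [])).2, (∀ s ∈ w, s < 2) ∧
        Chk.evP Dat.permA w (Dat.chainA2.getD 0 (0, [])).1 = a.val := by decide +kernel
    have hmk : ∀ a : Fin 27, ∃ p, ∃ hp : p ∈ Kp ⊓ fixv va,
        phiA ⟨p, hG ⟨Kp_le hp.1, hp.2⟩⟩ (Fin.ofNat 27 (Dat.chainA2.getD 0 (0, [])).1) = a := by
      intro a
      obtain ⟨w, -, hw2, hwa⟩ := hlev a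
      have hrec : ∀ w : List ℕ, (∀ s ∈ w, s < 2) → ∀ u : Fin 27, ∃ p, ∃ hp : p ∈ Kp ⊓ fixv va,
          (phiA ⟨p, hG ⟨Kp_le hp.1, hp.2⟩⟩ u : ℕ) = Chk.evP Dat.permA w u := by
        intro w
        induction w with
        | nil =>
          intro _ u
          refine ⟨1, one_mem _, ?_⟩
          have e : (phiA 1) u = u := by rw [map_one]; rfl
          exact congrArg Fin.val e
        | cons s w ih =>
          intro hsw u
          obtain ⟨p, hp, e⟩ := ih (fun x hx => hsw x (by simp [hx])) u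
          have hs : gA (Fin.ofNat 3 s) ∈ Kp ⊓ fixv va := by
            refine ⟨?_, gA_fix _⟩
            have := hsw s (by simp)
            interval_cases s <;> exact ⟨_, wd_mem _, rfl⟩
          refine ⟨_, mul_mem hs hp, ?_⟩
          have e2 : phiA ⟨_, hG ⟨Kp_le (mul_mem hs hp).1, (mul_mem hs hp).2⟩⟩ =
              pA (Fin.ofNat 3 s) * phiA ⟨p, hG ⟨Kp_le hp.1, hp.2⟩⟩ := by
            rw [← phiA_gen, ← map_mul]; rfl
          rw [e2, Equiv.Perm.mul_apply]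
          show (Dat.permA.getD (Fin.ofNat 3 s).val []).getD _ 0 = _
          rw [show (Fin.ofNat 3 s).val = s from Nat.mod_eq_of_lt (by have := hsw s (by simp); omega), e]
          rfl
      obtain ⟨p, hp, e⟩ := hrec w hw2 (Fin.ofNat 27 (Dat.chainA2.getD 0 (0, [])).1)
      refine ⟨p, hp, Fin.ext (e.trans ?_)⟩
      rw [show ((Fin.ofNat 27 (Dat.chainA2.getD 0 (0, [])).1 : Fin 27) : ℕ) = (Dat.chainA2.getD 0 (0, [])).1 by
        decide +kernel, hwa]
    obtain ⟨p, hp, ep⟩ := hmk i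
    obtain ⟨q, hq, eq⟩ := hmk j
    refine ⟨q * p⁻¹, mul_mem hq (inv_mem hp), ?_⟩
    have e2 : phiA ⟨_, hG ⟨Kp_le (mul_mem hq (inv_mem hp)).1, (mul_mem hq (inv_mem hp)).2⟩⟩ =
        phiA ⟨q, hG ⟨Kp_le hq.1, hq.2⟩⟩ * (phiA ⟨p, hG ⟨Kp_le hp.1, hp.2⟩⟩)⁻¹ := by
      rw [← map_inv, ← map_mul]; rfl
    rw [e2, Equiv.Perm.mul_apply, ← ep, Equiv.Perm.inv_def, Equiv.symm_apply_apply, eq]

/-- a normal 2-subgroup of a transitive group of odd degree acts trivially -/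
theorem two_trivial {n : ℕ} (hn : ¬ 2 ∣ n) (T : Subgroup (Equiv.Perm (Fin n)))
    (R : Subgroup (Equiv.Perm (Fin n))) (hT : ∀ i j, ∃ t ∈ T, t i = j)
    (hR : IsPGroup 2 R) (hnorm : ∀ t ∈ T, ∀ r ∈ R, t * r * t⁻¹ ∈ R) : R = ⊥ := by
  haveI : Fact (Nat.Prime 2) := ⟨Nat.prime_two⟩
  obtain ⟨i, hi⟩ := hR.nonempty_fixed_point_of_prime_not_dvd_card (Fin n) (by simpa using hn)
  refine (Subgroup.eq_bot_iff_forall R).2 fun r hr => Equiv.ext fun j => ?_
  obtain ⟨t, ht, rfl⟩ := hT i j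
  have h := hi ⟨t⁻¹ * r * t, by simpa using hnorm t⁻¹ (inv_mem ht) r hr⟩
  have h' : t⁻¹ (r (t i)) = i := h
  show r (t i) = t i
  rw [Equiv.Perm.inv_eq_iff_eq] at h'
  exact h'

/-- no normal 2-subgroup in the first stabiliser -/
theorem two_A (R : Subgroup PV) (hle : R ≤ Kp ⊓ fixv va) (hR : IsPGroup 2 R)
    (hnorm : ∀ k ∈ Kp ⊓ fixv va, ∀ r ∈ R, k * r * k⁻¹ ∈ R) : R = ⊥ := by
  obtain ⟨hG, hinj, -, htr⟩ := stabA
  have hKG : Kp ⊓ fixv va ≤ CmpS Chk.mA 27 := fun p hp => hG ⟨Kp_le hp.1, hp.2⟩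
  have hRS : R ≤ CmpS Chk.mA 27 := hle.trans hKG
  have h1 := two_trivial (by norm_num) (phiA.comp (Subgroup.inclusion hKG)).range
    (phiA.comp (Subgroup.inclusion hRS)).range (fun i j => by
      obtain ⟨p, hp, e⟩ := htr i j
      exact ⟨_, ⟨⟨p, hp⟩, rfl⟩, e⟩) ?_ ?_
  · refine (Subgroup.eq_bot_iff_forall R).2 fun r hr => ?_
    have h2 : phiA ⟨r, hRS hr⟩ = 1 := Subgroup.mem_bot.1 (h1 ▸ ⟨⟨r, hr⟩, rfl⟩)
    have h3 := @hinj ⟨r, ⟨Kp_le (hle hr).1, (hle hr).2⟩⟩ 1 (by rw [map_one]; exact h2)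
    exact congrArg Subtype.val h3
  · exact hR.of_surjective _ (MonoidHom.rangeRestrict_surjective _)
  · rintro _ ⟨⟨t, ht⟩, rfl⟩ _ ⟨⟨r, hr⟩, rfl⟩
    refine ⟨⟨t * r * t⁻¹, hnorm t ht r hr⟩, ?_⟩
    show phiA ⟨t * r * t⁻¹, _⟩ = phiA ⟨t, hKG ht⟩ * phiA ⟨r, hRS hr⟩ * (phiA ⟨t, hKG ht⟩)⁻¹
    rw [← map_mul, ← map_inv, ← map_mul]
    rfl

/-- the stabiliser of the shorter orbit is the orthogonal group -/
theorem isoA : Nonempty (↥(Gam ⊓ fixv va) ≃* ↥(Cfsg.isometryGroup (ZMod 2) SuzT.qm)) := by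
  obtain ⟨hG, hinj, heq, -⟩ := stabA
  exact ⟨((MonoidHom.ofInjective hinj).trans (MulEquiv.subgroupCongr heq)).trans
    ((MonoidHom.ofInjective rho_inj).symm.trans
      ((Classical.ORefl.toMat SuzT.QF).trans (MulEquiv.subgroupCongr (by rw [SuzT.coe_QF]))))⟩

end Cfsg.Agent.Spor.LFT
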