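import Cfsg.Agent.Lib.Spor.LFTDefs
import Cfsg.Agent.Lib.Spor.LFTSylowData

/-!
Checkers for a Sylow 2-subgroup in large Fischer type and its elementary abelian subgroups of order 16, on
images of the twelve units.
-/

set_option autoImplicit false
set_option maxRecDepth 100000

namespace Cfsg.Agent.Spor.LFT.Chk

open Cfsg.Agent.Spor.CC

/-- the images of the units under the identity -/
def unitL : List ℕ := (List.range 12).map fun i => Nat.pow 2 i

/-- composition -/
def cmpL (A B : List ℕ) : List ℕ := B.map (app A)

/-- seven maps: the six generators and the outer element -/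
def g7 (s : ℕ) : List ℕ := bif Nat.blt s 6 then gn s else en 0

/-- images under a word -/
def wordL (w : List ℕ) : List ℕ := w.foldr (fun s r => cmpL (g7 s) r) unitL

/-- equality of lists of numbers -/
def eqL : List ℕ → List ℕ → Bool
  | [], [] => true
  | a :: A, b :: B => Nat.beq a b && eqL A B
  | _, _ => false

/-- one number for a list -/
def packL (A : List ℕ) : ℕ := A.foldr (fun c r => Nat.add c (Nat.mul 4096 r)) 0

/-- element of the table -/
def elT (a : ℕ) : List ℕ := Dat.sylE.getD a []

/-- involution of the table -/
def inT (a : ℕ) : List ℕ := elT (Dat.sylI.getD a 0)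

/-- left multiplication -/
def sucT (s a : ℕ) : ℕ := (Dat.sylS.getD s []).getD a 0

/-- product of two involutions -/
def tabT (a b : ℕ) : ℕ := fld Dat.sylT 7 (Nat.add (Nat.mul a 71) b)

/-- the generators are the words -/
def genOK : Bool :=
  (List.range 4).all fun s => eqL (wordL (Dat.sylW.getD s [])) (Dat.sylC.getD s []) &&
    (Dat.sylW.getD s []).all fun x => Nat.blt x 7

/-- closure under the generators -/
def stepOK : Bool :=
  (List.range 4).all fun s => (List.range 256).all fun a =>
    Nat.blt (sucT s a) 256 && eqL (cmpL (Dat.sylC.getD s []) (elT a)) (elT (sucT s a))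

/-- every element is reached -/
def reachOK : Bool :=
  (List.range 256).all fun a =>
    let r := Dat.sylP.getD a []
    bif Nat.beq a Dat.sylOne then eqL (elT a) unitL
    else Nat.blt (r.getD 0 0) 4 && Nat.blt (r.getD 1 0) 256 && Nat.beq (sucT (r.getD 0 0) (r.getD 1 0)) a &&
      Nat.blt ((Dat.sylP.getD (r.getD 1 0) []).getD 2 0) (r.getD 2 0)

/-- the entries increase -/
def incOK : Bool := (List.range 255).all fun a => Nat.blt (packL (elT a)) (packL (elT (Nat.add a 1)))

/-- the involutions are all listed -/
def squareOK : Bool :=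
  (List.range 256).all fun a =>
    !eqL (cmpL (elT a) (elT a)) unitL || eqL (elT a) unitL ||
      (List.range 71).any fun i => Nat.beq (Dat.sylI.getD i 256) a

/-- products of commuting involutions -/
def prodOK (a : ℕ) : Bool :=
  (List.range 71).all fun b =>
    let p := cmpL (inT a) (inT b)
    !eqL p (cmpL (inT b) (inT a)) || eqL p unitL || (Nat.blt (tabT a b) 71 && eqL (inT (tabT a b)) p)

/-- admissible new member -/
def goodT (t b : ℕ) : Bool := Nat.blt t 71 && Nat.ble b t

/-- fixed vectors -/
def fixedL (L : List ℕ) (v : ℕ) : Bool := Nat.beq (app L v) v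

/-- at most eight fixed vectors or inside the chosen subgroup -/
def leafOK (a b c d : ℕ) : Bool :=
  (Dat.maxI.contains a && Dat.maxI.contains b && Dat.maxI.contains c && Dat.maxI.contains d) ||
    Nat.ble ((List.range 4096).filter fun v =>
      fixedL (inT a) v && fixedL (inT b) v && fixedL (inT c) v && fixedL (inT d) v).length 8

/-- search for subgroups of order 16 by least bases -/
def searchOK (a : ℕ) : Bool :=
  (List.range 71).all fun b =>
    !(Nat.blt a b && goodT (tabT a b) b) ||
      (List.range 71).all fun c =>
        !(Nat.blt b c && goodT (tabT a c) c && goodT (tabT b c) c && goodT (tabT (tabT a b) c) c) ||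
          (List.range 71).all fun d =>
            !(Nat.blt c d && goodT (tabT a d) d && goodT (tabT b d) d && goodT (tabT (tabT a b) d) d &&
              goodT (tabT c d) d && goodT (tabT (tabT a c) d) d && goodT (tabT (tabT b c) d) d &&
              goodT (tabT (tabT (tabT a b) c) d) d) || leafOK a b c d

/-- the chosen subgroup -/
def subOK : Bool :=
  Dat.maxI.all fun a => Nat.blt a 71 &&
    Dat.maxI.all fun b =>
      eqL (cmpL (inT a) (inT b)) (cmpL (inT b) (inT a)) &&
        (eqL (cmpL (inT a) (inT b)) unitL || Dat.maxI.contains (tabT a b))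

/-- its fixed vectors -/
def fixSubOK : Bool :=
  decide (((List.range 4096).filter fun v => Dat.maxB.all fun a => fixedL (inT a) v) = Dat.maxF) &&
    (Dat.maxB.all fun a => Dat.maxI.contains a) &&
    (Dat.maxI.all fun a => Dat.maxF.all fun v => fixedL (inT a) v) &&
    (Dat.maxF.all fun v => Nat.beq (wt v % 2) 0) && (Dat.maxFB.all fun v => Dat.maxF.contains v)

/-- nothing else is perpendicular -/
def perpOK : Bool :=
  (List.range 4096).all fun v =>
    !(Dat.maxFB.all fun u => Nat.beq (wt (Nat.xor v u) % 2) (wt v % 2)) || Dat.maxF.contains v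

/-- conjugate to kernel elements on the fifteen lines -/
def conjMaxOK : Bool :=
  (List.range 15).all fun j =>
    ((Dat.maxW.getD j []).all fun x => Nat.blt x 6) && Nat.blt (Dat.maxK.getD j 0) 16 &&
      !Nat.beq (Dat.maxK.getD j 0) 0 &&
      eqL (cmpL (inT (Dat.maxI.getD j 0)) (wordL (Dat.maxW.getD j [])))
        (cmpL (wordL (Dat.maxW.getD j [])) (kerImg (Dat.maxK.getD j 0)))

end Cfsg.Agent.Spor.LFT.Chk
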