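import Cfsg.Agent.Lib.Spor.LFTTCentSign
import Cfsg.Agent.Lib.Spor.LFTCorner
import Cfsg.Agent.Lib.Spor.GolayTrans

/-!
In the subgroup of index two of the centraliser of the first involution: the centraliser of the four-group, the
elements fixing two points, a moving element; outside, an element exchanging the other two involutions.
-/

set_option autoImplicit false
set_option maxRecDepth 100000
set_option linter.unusedSectionVars false
set_option maxHeartbeats 800000

namespace Cfsg.Agent.Spor.LFT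

open Cfsg.Agent.Spor.SpFour (F4)
open Cfsg (GolayPt M24)

universe u

variable {G : Type u} [Group G] [Finite G] {z : G} {Q N M : Subgroup G}
variable {f : Frame z Q M} (S : Setup z Q N M) {t t' : G} {A : Subgroup G} {ψ : ℕ → G} {a b c : GolayPt}

/-- four distinct points -/
theorem inj_four {a b c r : GolayPt} (hab : a ≠ b) (hac : a ≠ c) (hbc : b ≠ c) (h1 : r ≠ a) (h2 : r ≠ b)
    (h3 : r ≠ c) : Function.Injective ![a, b, c, r] := by
  intro i j h
  fin_cases i <;> fin_cases j <;> simp_all [hab.symm, hac.symm, hbc.symm, h1.symm, h2.symm, h3.symm]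

/-- a sign on the centraliser, with the elements used -/
structure TSign (f : Frame z Q M) (t t' : G) (V : ↥(Subgroup.centralizer ({t} : Set G)) →* Multiplicative (ZMod 2)) :
    Prop where
  P : FPair f t t'
  surj : Function.Surjective V
  inCE : ∀ y : ↥(Subgroup.centralizer ({t} : Set G)), Commute (y : G) t' → V y = 1
  swap : ∃ s : ↥(Subgroup.centralizer ({t} : Set G)), V s ≠ 1 ∧ (s : G) * t' * (s : G)⁻¹ = t * t'
  moved : ∃ y : ↥(Subgroup.centralizer ({t} : Set G)), V y = 1 ∧ Commute ((y : G) * t' * (y : G)⁻¹) t' ∧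
    (y : G) * t' * (y : G)⁻¹ ≠ t' ∧ (y : G) * t' * (y : G)⁻¹ ≠ t * t'
  qs : Cfsg.IsQuasisimple ↥P.CE
  quot : Nonempty (P.QX ≃* Cfsg.PSU 6 F4 2)
  tder : t ∈ ⁅P.CE, P.CE⁆
  tder' : t' ∈ ⁅P.CE, P.CE⁆

include S in
theorem Corner.exists_tsign (C : Corner f t t' A ψ a b c) :
    ∃ V : ↥(Subgroup.centralizer ({t} : Set G)) →* Multiplicative (ZMod 2), TSign f t t' V := by
  classical
  have P := C.P
  obtain ⟨hqs, hiso⟩ := P.main S C.move C.tder C.tder'
  obtain ⟨p, q, O⟩ := P.exists_out S
  obtain ⟨V, hV⟩ := P.exists_index_two S O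
  have m := C.model
  have hab := C.ab
  have hac := C.ac
  have hbc := C.bc
  have hA2 : ∀ {x y : G}, x ∈ A → y ∈ A → Commute x y := fun hx hy =>
    congrArg Subtype.val (C.elem.1.is_comm.comm (⟨_, hx⟩ : A) ⟨_, hy⟩)
  have hinj : ∀ {s s' : Finset GolayPt}, s.card = 2 → s'.card = 2 → ψ (phN s) = ψ (phN s') → s = s' :=
    fun hs hs' e => pair_inj _ _ hs hs' (m.inj _ _ (phN_lt _) (phN_lt _) e)
  have himg : ∀ {y : G} {σ : Equiv.Perm GolayPt}, Des ψ y σ → ∀ {u v : GolayPt}, u ≠ v →
      y * ψ (phN {u, v}) * y⁻¹ = ψ (phN {σ u, σ v}) := fun {y σ} h {u v} huv => by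
    rw [h _ (Finset.card_pair huv)]
    simp [Finset.smul_finset_insert, Finset.smul_finset_singleton, Equiv.Perm.smul_def]
  have hct : ∀ {y : G} {σ : Equiv.Perm GolayPt}, Des ψ y σ → σ a = a → σ b = b → y ∈ Subgroup.centralizer ({t} : Set G) :=
    fun {y σ} h ha hb => by
      rw [Subgroup.mem_centralizer_singleton_iff]
      refine mul_inv_eq_iff_eq_mul.1 ?_
      rw [C.et, himg h hab, ha, hb]
  have hCE : ∀ {y : ↥(Subgroup.centralizer ({t} : Set G))}, Commute (y : G) t' → V y = 1 := by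
    intro y hy
    haveI := hqs.1
    let χ : ↥P.CE →* Multiplicative (ZMod 2) := V.comp (Subgroup.inclusion fun w hw =>
      Subgroup.mem_centralizer_singleton_iff.2 (P.mem_CE.1 hw).1.eq)
    have hker : commutator ↥P.CE ≤ χ.ker := Abelianization.commutator_subset_ker χ
    rw [hqs.1.commutator_eq_top] at hker
    exact hker (Subgroup.mem_top ⟨(y : G), P.mem_CE.2 ⟨Subgroup.mem_centralizer_singleton_iff.1 y.2, hy⟩⟩)
  -- the elements fixing two points
  have hfix : ∀ (y : ↥(Subgroup.centralizer ({t} : Set G))) (σ : Equiv.Perm GolayPt),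
      (y : G) ∈ Subgroup.normalizer (A : Set G) → Des ψ (y : G) σ → σ a = a → σ b = b → V y = 1 := by
    -- fixing a further point
    have h3 : ∀ (y : ↥(Subgroup.centralizer ({t} : Set G))) (σ : Equiv.Perm GolayPt) (d : GolayPt), d ≠ a → d ≠ b →
        (y : G) ∈ Subgroup.normalizer (A : Set G) → Des ψ (y : G) σ → σ a = a → σ b = b → σ d = d → V y = 1 := by
      intro y σ d hda hdb hy hσ ha hb hd
      obtain ⟨τ, hτ, hτv⟩ := M24_trans (k := 3) (by norm_num) (Tri.emb3 hab hac hbc)
        (Tri.emb3 hab (Ne.symm hda) (Ne.symm hdb))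
      obtain ⟨g, hg, hgd⟩ := C.onto τ hτ
      have e0 : τ a = a := hτv 0
      have e1 : τ b = b := hτv 1
      have e2 : τ c = d := hτv 2
      have hgC := hct hgd e0 e1
      have hc' : Commute (((⟨g, hgC⟩ : ↥(Subgroup.centralizer ({t} : Set G)))⁻¹ * y * ⟨g, hgC⟩ :
          ↥(Subgroup.centralizer ({t} : Set G))) : G) t' := by
        refine mul_inv_eq_iff_eq_mul.1 ?_
        show g⁻¹ * (y : G) * g * t' * (g⁻¹ * (y : G) * g)⁻¹ = t'
        have ht' : g * t' * g⁻¹ = ψ (phN {a, d}) := by rw [C.et', himg hgd hac, e0, e2]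
        rw [show g⁻¹ * (y : G) * g * t' * (g⁻¹ * (y : G) * g)⁻¹ = g⁻¹ * ((y : G) * (g * t' * g⁻¹) * (y : G)⁻¹) * g by
          group, ht', himg hσ (Ne.symm hda), ha, hd, ← ht']
        group
      have h := hCE hc'
      rw [map_mul, map_mul, map_inv, mul_comm, mul_inv_cancel_left] at h
      exact h
    intro y σ hy hσ ha hb
    by_cases hc : σ c = c
    · exact h3 y σ c (Ne.symm hac) (Ne.symm hbc) hy hσ ha hb hc
    obtain ⟨d, hd⟩ : ∃ d, d = σ c := ⟨_, rfl⟩
    have hda : d ≠ a := fun e => hac (σ.injective (ha.trans (e.symm.trans hd)))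
    have hdb : d ≠ b := fun e => hbc (σ.injective (hb.trans (e.symm.trans hd)))
    obtain ⟨e, he⟩ : ∃ e : GolayPt, e ∉ ({a, b, c, d} : Finset GolayPt) := by
      by_contra hall
      push Not at hall
      have h := Finset.card_le_card (fun x (_ : x ∈ (Finset.univ : Finset GolayPt)) => hall x)
      rw [Finset.card_univ, Fintype.card_option, ZMod.card] at h
      have := h.trans Finset.card_le_four
      omega
    simp only [Finset.mem_insert, Finset.mem_singleton, not_or] at he
    obtain ⟨hea, heb, hec, hed⟩ := he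
    have mk : ∀ r : GolayPt, r ≠ a ∧ r ≠ b ∧ r ≠ e → Function.Injective ![a, b, e, r] :=
      fun r hr => inj_four hab (Ne.symm hea) (Ne.symm heb) hr.1 hr.2.1 hr.2.2
    obtain ⟨τ, hτ, hτv⟩ := M24_trans (k := 4) (by norm_num) ⟨_, mk c ⟨Ne.symm hac, Ne.symm hbc, Ne.symm hec⟩⟩
      ⟨_, mk d ⟨hda, hdb, Ne.symm hed⟩⟩
    obtain ⟨g, hg, hgd⟩ := C.onto τ hτ
    have e0 : τ a = a := hτv 0
    have e1 : τ b = b := hτv 1
    have e2 : τ e = e := hτv 2
    have e3 : τ c = d := hτv 3
    have hgC := hct hgd e0 e1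
    have hk := h3 ⟨g, hgC⟩ τ e hea heb hg hgd e0 e1 e2
    have hd1 : V ((⟨g, hgC⟩ : ↥(Subgroup.centralizer ({t} : Set G)))⁻¹ * y) = 1 := by
      refine hCE (mul_inv_eq_iff_eq_mul.1 ?_)
      show g⁻¹ * (y : G) * t' * (g⁻¹ * (y : G))⁻¹ = t'
      rw [show g⁻¹ * (y : G) * t' * (g⁻¹ * (y : G))⁻¹ = g⁻¹ * ((y : G) * t' * (y : G)⁻¹) * g by group, C.et',
        himg hσ hac, ha, ← hd, show ψ (phN {a, d}) = g * ψ (phN {a, c}) * g⁻¹ by rw [himg hgd hac, e0, e3]]
      group
    rw [map_mul, map_inv, hk, inv_one, one_mul] at hd1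
    exact hd1
  -- the permutation of the outer element
  have hqC : q ∈ Subgroup.centralizer ({t} : Set G) := Subgroup.mem_centralizer_singleton_iff.2 O.comm.eq
  have hqN : q ∈ Subgroup.normalizer (A : Set G) := C.norm O.mem
  obtain ⟨σ, hσ24, hσ⟩ := C.mA q hqN
  have hσab : ({σ a, σ b} : Finset GolayPt) = {a, b} := by
    refine hinj (Finset.card_pair (σ.injective.ne hab)) (Finset.card_pair hab) ?_
    rw [← himg hσ hab, ← C.et, O.comm.eq, mul_inv_cancel_right]
  have hσswap : σ a = b ∧ σ b = a := by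
    have ha : σ a = a ∨ σ a = b := by
      have : σ a ∈ ({a, b} : Finset GolayPt) := hσab ▸ Finset.mem_insert_self _ _
      simpa using this
    have hb : σ b = a ∨ σ b = b := by
      have : σ b ∈ ({a, b} : Finset GolayPt) := hσab ▸ Finset.mem_insert_of_mem (Finset.mem_singleton_self _)
      simpa using this
    have hne := σ.injective.ne hab
    rcases ha with ha | ha <;> rcases hb with hb | hb
    · exact absurd (ha.trans hb.symm) hne
    · exfalso
      have e : t' * z = ψ (phN {a, σ c}) := by rw [← O.move, C.et', himg hσ hac, ha]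
      have hσc : σ c ≠ c := fun h => P.not_both S P.t'_mem (by rw [e, h, ← C.et']; exact P.t'_mem)
      have hca : σ c ≠ a := fun h => hac (σ.injective (ha.trans h.symm))
      have hzval : z = ψ (phN {c, σ c}) := by
        have hs : ({c, σ c} : Finset GolayPt) = symmDiff {a, c} {a, σ c} := by
          ext r
          simp only [Finset.mem_symmDiff, Finset.mem_insert, Finset.mem_singleton]
          by_cases hra : r = a
          · subst hra; simp [hac, Ne.symm hca]
          · by_cases hrc : r = c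
            · subst hrc; simp [Ne.symm hσc, hra]
            · simp [hra, hrc]
        rw [hs, m.symm_mul, ← C.et', ← e, ← mul_assoc, P.sq', one_mul]
      have h := (m.cls _ (phN_lt _)).2 (pair_table _ (Finset.card_pair (Ne.symm hσc))).2
      rw [← hzval] at h
      exact h.2 (IsConj.refl z)
    · exact ⟨ha, hb⟩
    · exact absurd (ha.trans hb.symm) hne
  obtain ⟨hsa, hsb⟩ := hσswap
  obtain ⟨c', hc'⟩ : ∃ c', c' = σ c := ⟨_, rfl⟩
  have hc'a : c' ≠ a := fun e => hbc (σ.injective (hsb.trans (e.symm.trans hc')))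
  have hc'b : c' ≠ b := fun e => hac (σ.injective (hsa.trans (e.symm.trans hc')))
  have hc'c : c' ≠ c := fun e => by
    have e1 : q * t' * q⁻¹ = ψ (phN {b, c}) := by rw [C.et', himg hσ hac, hsa, ← hc', e]
    have e2 : t * t' = ψ (phN {b, c}) := by
      have hs : ({b, c} : Finset GolayPt) = symmDiff {a, b} {a, c} := by
        ext r
        simp only [Finset.mem_symmDiff, Finset.mem_insert, Finset.mem_singleton]
        by_cases hra : r = a
        · subst hra; simp [hab, hac]
        · by_cases hrb : r = b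
          · subst hrb; simp [hbc, hra]
          · simp [hra, hrb]
      rw [hs, m.symm_mul, ← C.et, ← C.et']
    rw [O.move, ← e2] at e1
    exact P.not_both S P.t'_mem (e1 ▸ P.tt_mem)
  obtain ⟨τ, hτ, hτv⟩ := M24_trans (k := 3) (by norm_num) (Tri.emb3 hab (Ne.symm hc'a) (Ne.symm hc'b))
    (Tri.emb3 hab hac hbc)
  obtain ⟨g, hg, hgd⟩ := C.onto τ hτ
  have e0 : τ a = a := hτv 0
  have e1 : τ b = b := hτv 1
  have e2 : τ c' = c := hτv 2
  have hgC := hct hgd e0 e1
  have hgV := hfix ⟨g, hgC⟩ τ hg hgd e0 e1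
  refine ⟨V, P, ?_, fun y hy => hCE hy, ⟨⟨g, hgC⟩ * ⟨q, hqC⟩, ?_, ?_⟩, ?_, hqs, hiso, C.tder, C.tder'⟩
  · intro x
    have key : ∀ x : Multiplicative (ZMod 2), x = 1 ∨ x = Multiplicative.ofAdd 1 := by decide
    rcases key x with rfl | rfl
    exacts [⟨1, map_one V⟩, ⟨_, hV⟩]
  · rw [map_mul, hgV, one_mul, hV]
    decide
  · show g * q * t' * (g * q)⁻¹ = t * t'
    rw [show g * q * t' * (g * q)⁻¹ = g * (q * t' * q⁻¹) * g⁻¹ by group, C.et', himg hσ hac, hsa, ← hc',
      himg hgd (Ne.symm hc'b), e1, e2, C.et, ← m.symm_mul]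
    congr 2
    ext r
    simp only [Finset.mem_symmDiff, Finset.mem_insert, Finset.mem_singleton]
    by_cases hra : r = a
    · subst hra; simp [hab, hac]
    · by_cases hrb : r = b
      · subst hrb; simp [hbc, hra]
      · simp [hra, hrb]
  · -- a moved conjugate inside
    obtain ⟨τ', hτ', hτv'⟩ := M24_trans (k := 3) (by norm_num) (Tri.emb3 hab hac hbc)
      (Tri.emb3 hab (Ne.symm hc'a) (Ne.symm hc'b))
    obtain ⟨g', hg', hgd'⟩ := C.onto τ' hτ'
    have f0 : τ' a = a := hτv' 0
    have f1 : τ' b = b := hτv' 1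
    have f2 : τ' c = c' := hτv' 2
    have hgC' := hct hgd' f0 f1
    have him : g' * t' * g'⁻¹ = ψ (phN {a, c'}) := by rw [C.et', himg hgd' hac, f0, f2]
    refine ⟨⟨g', hgC'⟩, hfix ⟨g', hgC'⟩ τ' hg' hgd' f0 f1, ?_, ?_, ?_⟩
    · show Commute (g' * t' * g'⁻¹) t'
      rw [him, C.et']
      exact hA2 (m.mem _ (phN_lt _)) (m.mem _ (phN_lt _))
    · show g' * t' * g'⁻¹ ≠ t'
      rw [him]
      intro h
      have := hinj (Finset.card_pair (Ne.symm hc'a)) (Finset.card_pair hac) (h.trans C.et')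
      have hm : c' ∈ ({a, c} : Finset GolayPt) := this ▸ Finset.mem_insert_of_mem (Finset.mem_singleton_self _)
      simp [hc'a, hc'c] at hm
    · show g' * t' * g'⁻¹ ≠ t * t'
      rw [him]
      intro h
      rw [C.et, C.et', ← m.symm_mul] at h
      have hs : symmDiff ({a, b} : Finset GolayPt) {a, c} = {b, c} := by
        ext r
        simp only [Finset.mem_symmDiff, Finset.mem_insert, Finset.mem_singleton]
        by_cases hra : r = a
        · subst hra; simp [hab, hac]
        · by_cases hrb : r = b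
          · subst hrb; simp [hbc, hra]
          · simp [hra, hrb]
      rw [hs] at h
      have := hinj (Finset.card_pair (Ne.symm hc'a)) (Finset.card_pair hbc) h
      have hm : a ∈ ({b, c} : Finset GolayPt) := this ▸ Finset.mem_insert_self _ _
      simp [hab, hac] at hm

end Cfsg.Agent.Spor.LFT
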