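import Cfsg.Agent.Lib.Spor.LFTTCentQuot
import Cfsg.Agent.Lib.Local.Basics

/-!
Every involution of the extraspecial subgroup outside the class of the central one: its centraliser is the one
found at the chosen involution.
-/

set_option autoImplicit false
set_option maxRecDepth 100000
set_option linter.unusedSectionVars false
set_option maxHeartbeats 800000

namespace Cfsg.Agent.Spor.LFT

universe u

variable {G : Type u} [Group G] [Finite G] {z : G} {Q N M : Subgroup G}

theorem conj_mem_cent {g t x : G} (hx : x ∈ Subgroup.centralizer ({t} : Set G)) :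
    g * x * g⁻¹ ∈ Subgroup.centralizer ({g * t * g⁻¹} : Set G) := by
  rw [Subgroup.mem_centralizer_singleton_iff]
  calc g * x * g⁻¹ * (g * t * g⁻¹) = g * (x * t) * g⁻¹ := by group
    _ = g * (t * x) * g⁻¹ := by rw [Subgroup.mem_centralizer_singleton_iff.1 hx]
    _ = g * t * g⁻¹ * (g * x * g⁻¹) := by group

/-- the isomorphism of centralisers -/
def centEquiv (g t : G) : ↥(Subgroup.centralizer ({t} : Set G)) ≃* ↥(Subgroup.centralizer ({g * t * g⁻¹} : Set G)) where
  toFun x := ⟨g * x * g⁻¹, conj_mem_cent x.2⟩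
  invFun x := ⟨g⁻¹ * x * g, by
    have h := conj_mem_cent (g := g⁻¹) x.2
    rwa [inv_inv, show g⁻¹ * (g * t * g⁻¹) * g = t by group] at h⟩
  left_inv x := Subtype.ext (by show g⁻¹ * (g * (x : G) * g⁻¹) * g = x; group)
  right_inv x := Subtype.ext (by show g * (g⁻¹ * (x : G) * g) * g⁻¹ = x; group)
  map_mul' x y := Subtype.ext (by show g * ((x : G) * y) * g⁻¹ = g * x * g⁻¹ * (g * y * g⁻¹); group)

theorem TCentGood.conj {t : G} (h : TCentGood t) (g : G) : TCentGood (g * t * g⁻¹) := by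
  obtain ⟨K, hq, hi, hc, ⟨htc, htK⟩, hiso⟩ := h
  obtain ⟨e, he⟩ : ∃ e : ↥(Subgroup.centralizer ({t} : Set G)) ≃*
      ↥(Subgroup.centralizer ({g * t * g⁻¹} : Set G)), e = centEquiv g t := ⟨_, rfl⟩
  have hval : ∀ x, (e x : G) = g * x * g⁻¹ := fun x => he ▸ rfl
  refine ⟨K.map e.toMonoidHom, ?_, ?_, ?_, ⟨conj_mem_cent htc, ⟨_, htK, Subtype.ext (hval ⟨t, htc⟩)⟩⟩, ?_⟩
  · exact Local.isQuasisimple_congr (e.subgroupMap K) hq
  · exact (Subgroup.index_map_of_bijective (f := e.toMonoidHom) e.bijective K).trans hi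
  · intro x hx
    obtain ⟨x, rfl⟩ := e.surjective x
    refine ⟨x, hc (Subgroup.mem_centralizer_iff.2 fun k hk => e.injective ?_), rfl⟩
    rw [map_mul, map_mul]
    exact Subgroup.mem_centralizer_iff.1 hx _ ⟨k, hk, rfl⟩
  · intro inst
    haveI hn0 : ((Subgroup.zpowers t).subgroupOf (Subgroup.centralizer ({t} : Set G))).Normal := ⟨fun n hn x => by
      have e' : x * n * x⁻¹ = n := Subtype.ext (by
        show (x : G) * n * (x : G)⁻¹ = n
        obtain ⟨k, hk⟩ := Subgroup.mem_zpowers_iff.1 hn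
        have hk' : t ^ k = (n : G) := hk
        rw [← hk', ((show Commute (x : G) t from Subgroup.mem_centralizer_singleton_iff.1 x.2).zpow_right k).eq,
          mul_inv_cancel_right])
      rwa [e']⟩
    obtain ⟨ψ⟩ := @hiso hn0
    have hz : ∀ k : ℤ, g * t ^ k * g⁻¹ = (g * t * g⁻¹) ^ k := fun k => (conj_zpow).symm
    refine ⟨(QuotientGroup.congr ((Subgroup.zpowers t).subgroupOf (Subgroup.centralizer ({t} : Set G))) _ e ?_).symm.trans ψ⟩
    ext x
    constructor
    · rintro ⟨y, hy, rfl⟩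
      obtain ⟨k, hk⟩ := Subgroup.mem_zpowers_iff.1 hy
      refine Subgroup.mem_zpowers_iff.2 ⟨k, ?_⟩
      show (g * t * g⁻¹) ^ k = (e y : G)
      rw [hval, ← hz]
      exact congrArg (g * · * g⁻¹) hk
    · intro hx
      obtain ⟨y, rfl⟩ := e.surjective x
      obtain ⟨k, hk⟩ := Subgroup.mem_zpowers_iff.1 hx
      refine ⟨y, Subgroup.mem_zpowers_iff.2 ⟨k, ?_⟩, rfl⟩
      have hk' : (g * t * g⁻¹) ^ k = (e y : G) := hk
      rw [hval, ← hz] at hk'
      exact mul_left_cancel (mul_right_cancel hk')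

theorem Setup.tcent (S : Setup z Q N M) {w : G} (hw : w ∈ Q) (w2 : w * w = 1) (w1 : w ≠ 1) (hwn : ¬ IsConj z w) :
    TCentGood w := by
  obtain ⟨f⟩ := S.hyp.exists_frame
  obtain ⟨t, t', A, ψ, a, b, c, C⟩ := S.exists_corner f
  obtain ⟨V, T⟩ := C.exists_tsign S
  obtain ⟨x, g, l⟩ := S.exists_Line f
  have htz : t ≠ z := fun e => C.P.nc (e ▸ IsConj.refl z)
  rcases l.inv_class S C.P.tQ C.P.sq (C.P.ne_all S).1 htz C.P.pa hw w2 w1 with h | h
  · exact absurd h hwn
  · obtain ⟨k, hk⟩ := isConj_iff.1 h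
    exact hk ▸ (T.good S).conj k

end Cfsg.Agent.Spor.LFT
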