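import Cfsg.Agent.Lib.Spor.LFTFourCore

/-!
An element of the extraspecial subgroup moving the second involution of the four-group, and the isolation of the
central involution among its conjugates centralizing a large part of that subgroup.
-/

set_option autoImplicit false
set_option maxRecDepth 100000
set_option linter.unusedSectionVars false

namespace Cfsg.Agent.Spor.LFT

open Cfsg.Agent.Small.Unitary (herm)
open Cfsg.Agent.Spor.SUSix (V6)
open Cfsg.Agent.Spor.SpFour (F4)

universe u

namespace Pw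

/-- the partner vector -/
def pb : V6 := ![F4.w, F4.v, 0, 0, 0, 0]

theorem pb_facts : PA pb ∧ PI pb ∧ PA (va + pb) ∧ herm va pb = 1 ∧ herm (F4.w • va) pb ≠ 0 ∧ pb 0 + pb 1 = 1 := by
  decide +kernel

theorem herm_up (v : V6) (j : Fin 4) : herm (Pi.single (up j) 1 : V6) v = v (up j) := by
  rw [Small.Unitary.herm_single_left, star_one, one_mul]

theorem herm_pb_up (j : Fin 4) (c : F4) : herm pb (c • Pi.single (up j) 1 : V6) = 0 := by
  have : ∀ j : Fin 4, pb (up j) = 0 := by decide +kernel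
  rw [Small.Unitary.herm_smul_right, Small.Unitary.herm, dotProduct_single, Pi.star_apply, this, star_zero,
    zero_mul, mul_zero]

/-- an element of the extended group acting linearly on one coordinate is linear -/
theorem Kp_of_coord {p : PV} (hp : p ∈ Gam) {x : V6} {i : Fin 6} (h1 : p x i = 1) (h2 : p (F4.w • x) i = F4.w) :
    p ∈ Kp := by
  refine hp.resolve_right fun h' => ?_
  have e := scal_comm h' F4.w x
  rw [Equiv.Perm.mul_apply, Equiv.Perm.mul_apply] at e
  have e2 := congrArg (eo 0) e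
  rw [eo_semi, show eo 0 (eo 0 (p (F4.w • x))) = p (F4.w • x) from eoF_inv 0 _,
    show eo 0 (eo 0 (p x)) = p x from eoF_inv 0 _] at e2
  have e3 := congrFun e2 i
  rw [Pi.smul_apply, h1, h2, smul_eq_mul, mul_one] at e3
  exact absurd e3 (by decide +kernel)

theorem Kp_add {p : PV} (hp : p ∈ Kp) (u v : V6) : p (u + v) = p u + p v := by
  obtain ⟨B, -, rfl⟩ := hp
  rw [act_apply, act_apply, act_apply, Matrix.mulVec_add]

theorem Kp_herm {p : PV} (hp : p ∈ Kp) (u v : V6) : herm (p u) (p v) = herm u v := by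
  obtain ⟨B, -, rfl⟩ := hp
  exact Small.Unitary.herm_act F4.star_eq_pow B u v

/-- a vector orthogonal to all but the pair lies in their span -/
theorem span_pair : ∀ a b : F4, star a + a = 0 → star b + b = 0 → (a = 0 ∨ a = 1) ∧ (b = 0 ∨ b = 1) := by
  decide +kernel

theorem pb_solve : ∀ a b : F4, ∃ x y : F4, a = x + y * F4.w ∧ b = x + y * F4.v := by decide +kernel

end Pw

variable {G : Type u} [Group G] [Finite G] {z : G} {Q N M : Subgroup G}
variable {f : Frame z Q M} (S : Setup z Q N M) {t t' : G}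

include S

/-- when two members commute -/
theorem Frame.commute_iff_herm (f : Frame z Q M) {q r : G} (hq : q ∈ Q) (hr : r ∈ Q) :
    Commute q r ↔ herm (f.vec q) (f.vec r) + herm (f.vec r) (f.vec q) = 0 := by
  have hcz : ∀ {a}, a ∈ Q → Commute z a := fun ha => S.hyp.xt.cen _ ha
  have hsum : herm (f.vec (q * r)) (f.vec (q * r)) = herm (f.vec q) (f.vec q) + herm (f.vec r) (f.vec r) +
      (herm (f.vec q) (f.vec r) + herm (f.vec r) (f.vec q)) := by
    rw [f.vec_mul q hq r hr, Small.Unitary.herm_add_left, Small.Unitary.herm_add_right,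
      Small.Unitary.herm_add_right]
    abel
  have hiff : ∀ {a}, a ∈ Q → ∀ {c : F4}, herm (f.vec a) (f.vec a) = c → (a * a = 1 ↔ c = 0) :=
    fun {a} ha {c} e => e ▸ f.sq_iff a ha
  obtain ⟨d, hd⟩ : ∃ d, d = herm (f.vec q) (f.vec r) + herm (f.vec r) (f.vec q) := ⟨_, rfl⟩
  rw [← hd] at hsum ⊢
  have hd01 : d = 0 ∨ d = 1 := by
    have key : ∀ a b c d : F4, (a = 0 ∨ a = 1) → (b = 0 ∨ b = 1) → (c = 0 ∨ c = 1) → a = b + c + d →
        d = 0 ∨ d = 1 := by decide +kernel
    exact key _ _ _ _ (herm_self_real _) (herm_self_real _) (herm_self_real _) hsum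
  have hz1 := S.hyp.xt.ne
  have hval : ∀ {a}, a ∈ Q → (herm (f.vec a) (f.vec a) = 0 → a * a = 1) ∧
      (herm (f.vec a) (f.vec a) = 1 → a * a = z) := fun {a} ha =>
    ⟨(f.sq_iff a ha).2, fun e => (S.hyp.xt.sq_mem ha).resolve_left fun e' => one_ne_zero (e.symm.trans ((f.sq_iff a ha).1 e'))⟩
  have hq2 := hval hq
  have hr2 := hval hr
  have hp2 := hval (mul_mem hq hr)
  have h11 : (1 : F4) + 1 = 0 := CharTwo.add_self_eq_zero 1
  have hcz2 : Commute r (q * q) := by
    rcases S.hyp.xt.sq_mem hq with e | e <;> rw [e]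
    exacts [Commute.one_right r, (hcz hr).symm]
  constructor
  · intro hc
    refine hd01.resolve_right fun h1 => ?_
    have e : q * r * (q * r) = q * q * (r * r) := by
      calc q * r * (q * r) = q * (r * q) * r := by group
        _ = q * (q * r) * r := by rw [hc.eq]
        _ = q * q * (r * r) := by group
    rcases herm_self_real (f.vec q) with eq' | eq' <;> rcases herm_self_real (f.vec r) with er | er <;>
      rw [h1, eq', er] at hsum
    · rw [hq2.1 eq', hr2.1 er, mul_one, hp2.2 (by rw [hsum, zero_add, zero_add])] at e; exact hz1 e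
    · rw [hq2.1 eq', hr2.2 er, one_mul, hp2.1 (by rw [hsum, zero_add, h11])] at e; exact hz1 e.symm
    · rw [hq2.2 eq', hr2.1 er, mul_one, hp2.1 (by rw [hsum, add_zero, h11])] at e; exact hz1 e.symm
    · rw [hq2.2 eq', hr2.2 er, S.hyp.xt.sq, hp2.2 (by rw [hsum, h11, zero_add])] at e; exact hz1 e
  · intro h0
    by_contra hn
    have hm := S.hyp.xt.move hq hr hn
    have e : q * r * (q * r) = z * (q * q * (r * r)) := by
      calc q * r * (q * r) = q * r * q⁻¹ * (q * q) * r := by group
        _ = r * z * (q * q) * r := by rw [hm]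
        _ = r * (z * (q * q)) * r := by group
        _ = z * (q * q) * (r * r) := by rw [((hcz hr).symm.mul_right hcz2).eq]; group
        _ = _ := mul_assoc _ _ _
    rcases herm_self_real (f.vec q) with eq' | eq' <;> rcases herm_self_real (f.vec r) with er | er <;>
      rw [h0, eq', er] at hsum
    · rw [hq2.1 eq', hr2.1 er, one_mul, mul_one, hp2.1 (by rw [hsum, add_zero, add_zero])] at e; exact hz1 e.symm
    · rw [hq2.1 eq', hr2.2 er, one_mul, S.hyp.xt.sq, hp2.2 (by rw [hsum, add_zero, zero_add])] at e; exact hz1 e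
    · rw [hq2.2 eq', hr2.1 er, mul_one, S.hyp.xt.sq, hp2.2 (by rw [hsum, add_zero, add_zero])] at e; exact hz1 e
    · rw [hq2.2 eq', hr2.2 er, S.hyp.xt.sq, mul_one, hp2.1 (by rw [hsum, h11, add_zero])] at e; exact hz1 e.symm

namespace FPair

variable (P : FPair f t t')

/-- the element of the extraspecial subgroup outside -/
structure Out (_P : FPair f t t') (p : PV) (q : G) : Prop where
  hp : p ∈ Kp
  hpv : p va = f.vec t
  mem : q ∈ Q
  sq : q * q = 1
  vec : f.vec q = p Pw.pb
  comm : Commute q t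
  move : q * t' * q⁻¹ = t' * z

theorem exists_out : ∃ (p : PV) (q : G), P.Out p q := by
  obtain ⟨p, hp, hpv⟩ := (Spor.LFT.trans (f.isI S P.tQ P.sq (P.ne_all S).1 fun e =>
    P.nc (e ▸ IsConj.refl z))).1 P.pa
  obtain ⟨hA, hI, hA2, h1, hw, -⟩ := Pw.pb_facts
  obtain ⟨q, hq, hq2, -, -, hqv⟩ := f.exists_inv S (((Gam_le_Pres (Or.inl hp : p ∈ Gam)) Pw.pb).2.2 hI)
  refine ⟨p, q, hp, hpv, hq, hq2, hqv, ?_, ?_⟩
  · refine ((f.commute_iff_herm S P.tQ hq).2 ?_).symm
    rw [hqv, ← hpv, Pw.Kp_herm hp, Pw.Kp_herm hp, h1, ← Small.Unitary.star_herm, h1, star_one]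
    exact CharTwo.add_self_eq_zero 1
  · refine S.hyp.xt.move hq P.tQ' fun hc => ?_
    have h := (f.commute_iff_herm S P.tQ' hq).1 hc.symm
    rw [hqv, P.vec', ← hpv, Small.Unitary.herm_smul_left, Small.Unitary.herm_smul_right, Pw.Kp_herm hp,
      Pw.Kp_herm hp, h1, ← Small.Unitary.star_herm, h1, star_one] at h
    revert h
    decide +kernel

variable {p : PV} {q : G} (O : P.Out p q)
include O

omit S in
/-- the part of the extraspecial subgroup used -/
theorem out_vec {y : G} (hy : y ∈ Q) {x : V6} (hv : f.vec y = p x) (w : G) (hw : w ∈ Q) {x' : V6}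
    (hw' : f.vec w = p x') : herm (f.vec y) (f.vec w) + herm (f.vec w) (f.vec y) = herm x x' + herm x' x := by
  rw [hv, hw', Pw.Kp_herm O.hp, Pw.Kp_herm O.hp]

theorem not_conj_list {u : G} (h : IsConj z u) (hu : u ∈ Q) {c d : F4} (hc : c = 0 ∨ c = 1) (hd : d = 0 ∨ d = 1)
    (hv : f.vec u = p (c • va + d • Pw.pb)) : u = z := by
  by_contra hne
  obtain ⟨hA, hI, hA2, h1, hw, -⟩ := Pw.pb_facts
  have hPA : ∀ x : V6, PA x → PA (p x) := fun x hx => ((Gam_le_Pres (Or.inl O.hp : p ∈ Gam)) x).1.2 hx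
  have hno : ∀ x : V6, f.vec u = p x → PA x → False := fun x e hx =>
    S.t_not_conj f hu (e.symm ▸ hPA x hx) hne h
  rcases hc with rfl | rfl <;> rcases hd with rfl | rfl <;>
    simp only [zero_smul, one_smul, zero_add, add_zero] at hv
  · refine f.vec_ne S hu (fun e => ?_) hne ?_
    · obtain ⟨g, hg⟩ := isConj_iff.1 h
      exact S.hyp.xt.ne (conj_eq_one_iff.1 (hg.trans e))
    · obtain ⟨B, -, hB⟩ := O.hp
      rw [hv, ← hB, act_apply, Matrix.mulVec_zero]
  · exact hno _ hv hA
  · exact hno _ hv PA_va.1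
  · exact hno _ hv hA2

/-- the central involution is isolated over the centraliser of the element -/
theorem out_only {u : G} (hu : IsConj z u) (ht : Commute u t)
    (h : ∀ y ∈ Q, Commute y t → Commute y q → Commute u y) : u = z := by
  have huz : Commute u z := h z S.hyp.xt.mem (P.E_z S P.t_mem) (S.hyp.xt.cen q O.mem)
  obtain ⟨c, hc⟩ : ∃ c : Subgroup.centralizer ({z} : Set G), (c : G) = u :=
    ⟨⟨u, Subgroup.mem_centralizer_singleton_iff.2 huz.eq⟩, rfl⟩
  obtain ⟨-, -, -, h1, -, hpb⟩ := Pw.pb_facts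
  have h11 : (1 : F4) + 1 = 0 := CharTwo.add_self_eq_zero 1
  -- the members over the orthogonal coordinates
  have hy : ∀ (j : Fin 4) (a : F4), ∃ y ∈ Q, f.vec y = p (a • Pi.single (Pw.up j) 1) ∧ Commute u y := by
    intro j a
    obtain ⟨y, hy, hyv⟩ := f.vec_surj (p (a • Pi.single (Pw.up j) 1))
    have e1 : herm (a • Pi.single (Pw.up j) 1 : V6) va + herm va (a • Pi.single (Pw.up j) 1 : V6) = 0 := by
      rw [Small.Unitary.herm_smul_left, Small.Unitary.herm_smul_right, Pw.herm_va_up, ← Small.Unitary.star_herm,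
        Pw.herm_va_up, star_zero, mul_zero, mul_zero, add_zero]
    have e2 : herm (a • Pi.single (Pw.up j) 1 : V6) Pw.pb + herm Pw.pb (a • Pi.single (Pw.up j) 1 : V6) = 0 := by
      rw [Pw.herm_pb_up, ← Small.Unitary.star_herm, Pw.herm_pb_up, star_zero, add_zero]
    exact ⟨y, hy, hyv, h y hy
      ((f.commute_iff_herm S hy P.tQ).2 (by rw [P.out_vec O hy hyv t P.tQ O.hpv.symm, e1]))
      ((f.commute_iff_herm S hy O.mem).2 (by rw [P.out_vec O hy hyv q O.mem O.vec, e2]))⟩
  -- the action is trivial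
  have hπ : f.π c = 1 := by
    obtain ⟨r, hr⟩ : ∃ r, r = p⁻¹ * f.π c * p := ⟨_, rfl⟩
    have hrGam : r ∈ Gam := hr ▸ mul_mem (mul_mem (Or.inl (inv_mem O.hp)) ((S.range_pi f _).2 ⟨c, rfl⟩))
      (Or.inl O.hp)
    have hfix : ∀ (j : Fin 4) (a : F4), r (a • Pi.single (Pw.up j) 1) = a • Pi.single (Pw.up j) 1 := by
      intro j a
      obtain ⟨y, hy', hyv, hcy⟩ := hy j a
      rw [hr, Equiv.Perm.mul_apply, Equiv.Perm.mul_apply, ← hyv, ← f.vec_conj c y hy', hc, hcy.eq,
        mul_inv_cancel_right, hyv]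
      exact p.symm_apply_apply _
    have hrva : r va = va := by
      rw [hr, Equiv.Perm.mul_apply, Equiv.Perm.mul_apply, O.hpv, ← f.vec_conj c t P.tQ, hc, ht.eq,
        mul_inv_cancel_right, ← O.hpv]
      exact p.symm_apply_apply _
    have hrK : r ∈ Kp := by
      refine Pw.Kp_of_coord hrGam (x := Pi.single (Pw.up 0) 1) (i := Pw.up 0) ?_ ?_
      · have := hfix 0 1
        rw [one_smul] at this
        rw [this, Pi.single_eq_same]
      · rw [hfix 0 F4.w, Pi.smul_apply, Pi.single_eq_same, smul_eq_mul, mul_one]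
    have hr1 : r = 1 := Pw.eq_one_of_move hrK hrva fun j => ⟨0, by
      have := hfix j 1
      rw [one_smul] at this
      rw [this, zero_smul, add_zero]⟩
    calc f.π c = p * r * p⁻¹ := by rw [hr]; group
      _ = 1 := by rw [hr1]; group
  have huQ : u ∈ Q := hc ▸ (f.ker c).1 hπ
  have huq : Commute u q := h q O.mem O.comm (Commute.refl q)
  -- the vector
  obtain ⟨x, hx⟩ : ∃ x, f.vec u = p x := ⟨p⁻¹ (f.vec u), (p.apply_symm_apply _).symm⟩
  have hup : ∀ j, x (Pw.up j) = 0 := by
    intro j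
    have hB : ∀ a : F4, star a * x (Pw.up j) + star (star a * x (Pw.up j)) = 0 := by
      intro a
      obtain ⟨y, hy', hyv, hcy⟩ := hy j a
      have e := (f.commute_iff_herm S hy' huQ).1 hcy.symm
      rw [P.out_vec O hy' hyv u huQ hx, Small.Unitary.herm_smul_left, Pw.herm_up] at e
      rwa [← Small.Unitary.star_herm (a • Pi.single (Pw.up j) 1 : V6) x, Small.Unitary.herm_smul_left,
        Pw.herm_up] at e
    have key : ∀ b : F4, star (1 : F4) * b + star (star (1 : F4) * b) = 0 →
        star F4.w * b + star (star F4.w * b) = 0 → b = 0 := by decide +kernel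
    exact key _ (hB 1) (hB F4.w)
  obtain ⟨a, b, ha, hb⟩ := Pw.pb_solve (x 0) (x 1)
  have hxe : x = a • va + b • Pw.pb := by
    funext i
    rcases Pw.up_cases i with rfl | rfl | ⟨k, rfl⟩
    · rw [ha]; simp [Pw.va_val, Pw.pb]
    · rw [hb]; simp [Pw.va_val, Pw.pb]
    · rw [hup k, Pi.add_apply, Pi.smul_apply, Pi.smul_apply, Pw.va_up]
      have : ∀ k : Fin 4, Pw.pb (Pw.up k) = 0 := by decide +kernel
      rw [this, smul_zero, smul_zero, add_zero]
  have hva0 : herm va va = 0 ∧ herm Pw.pb Pw.pb = 0 ∧ herm Pw.pb va = 1 := by decide +kernel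
  have ea : star a + a = 0 := by
    have e := (f.commute_iff_herm S huQ O.mem).1 huq
    rw [P.out_vec O huQ hx q O.mem O.vec, hxe, Small.Unitary.herm_add_left, Small.Unitary.herm_add_right,
      Small.Unitary.herm_smul_left, Small.Unitary.herm_smul_left, Small.Unitary.herm_smul_right,
      Small.Unitary.herm_smul_right, h1, hva0.2.1, hva0.2.2, mul_one, mul_one, mul_zero, mul_zero, add_zero,
      add_zero] at e
    exact e
  have eb : star b + b = 0 := by
    have e := (f.commute_iff_herm S huQ P.tQ).1 ht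
    rw [P.out_vec O huQ hx t P.tQ O.hpv.symm, hxe, Small.Unitary.herm_add_left, Small.Unitary.herm_add_right,
      Small.Unitary.herm_smul_left, Small.Unitary.herm_smul_left, Small.Unitary.herm_smul_right,
      Small.Unitary.herm_smul_right, h1, hva0.1, hva0.2.2, mul_one, mul_one, mul_zero, mul_zero, zero_add,
      zero_add] at e
    exact e
  obtain ⟨ha', hb'⟩ := Pw.span_pair a b ea eb
  exact P.not_conj_list S O hu huQ ha' hb' (hx.trans (congrArg p hxe))

end FPair

end Cfsg.Agent.Spor.LFT
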