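import Cfsg.Agent.Lib.Solv.Component
import Cfsg.Prelude.Def_KGroupFacts

/-!
A finite group with a quasisimple normal subgroup containing its centralizer.
-/

set_option autoImplicit false
set_option linter.unusedSectionVars false

namespace Cfsg.Agent.Spor.M24Rel.Qs

open scoped commutatorElement

variable {X : Type*} [Group X] [Finite X] (K : Subgroup X) [K.Normal]

theorem gfit_qs (hq : Cfsg.IsQuasisimple K) (hc : Subgroup.centralizer (K : Set X) ≤ K) :
    Cfsg.generalizedFittingSubgroup X = K := by
  have hK : Cfsg.IsComponent K := ⟨Subgroup.Normal.isSubnormal inferInstance, hq⟩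
  refine le_antisymm (sup_le (sSup_le fun C hC => ?_) ?_) (le_sup_of_le_left (Solv.component_le_layer hK))
  · rcases Solv.component_normal_dichotomy hC K with h | h
    · exact h
    · exact (Subgroup.commutator_eq_bot_iff_le_centralizer.mp h).trans hc
  · refine le_trans ?_ hc
    rw [← Subgroup.commutator_eq_bot_iff_le_centralizer, Subgroup.commutator_comm]
    haveI := Solv.fittingSubgroup_nilpotent (G := X)
    exact Solv.component_commutes_solvable hK Solv.fittingSubgroup_normal.isSubnormal inferInstance

theorem central_action (hq : Cfsg.IsQuasisimple K) {g : X}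
    (h : ∀ k : K, (MulAut.conjNormal g k : K) * k⁻¹ ∈ Subgroup.center K) : g ∈ Subgroup.centralizer (K : Set X) := by
  let χ : K →* Subgroup.center K :=
    { toFun := fun k => ⟨MulAut.conjNormal g k * k⁻¹, h k⟩
      map_one' := Subtype.ext (by simp)
      map_mul' := fun k l => Subtype.ext (by
        have hl := Subgroup.mem_center_iff.mp (h l) k⁻¹
        show MulAut.conjNormal g (k * l) * (k * l)⁻¹ =
          (MulAut.conjNormal g k * k⁻¹) * (MulAut.conjNormal g l * l⁻¹)
        rw [map_mul, mul_inv_rev]
        calc MulAut.conjNormal g k * MulAut.conjNormal g l * (l⁻¹ * k⁻¹)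
            = MulAut.conjNormal g k * ((MulAut.conjNormal g l * l⁻¹) * k⁻¹) := by group
          _ = MulAut.conjNormal g k * (k⁻¹ * (MulAut.conjNormal g l * l⁻¹)) := by rw [hl]
          _ = _ := by group) }
  have hcc : ∀ x y : Subgroup.center K, x * y = y * x := fun x y =>
    Subtype.ext (Subgroup.mem_center_iff.mp y.2 x)
  have hker : commutator K ≤ χ.ker := by
    rw [commutator_def, Subgroup.commutator_le]
    intro a _ b _
    rw [MonoidHom.mem_ker, map_commutatorElement, commutatorElement_eq_one_iff_mul_comm]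
    exact hcc _ _
  rw [hq.1.commutator_eq_top] at hker
  refine Subgroup.mem_centralizer_iff.mpr fun k hk => ?_
  have h1 : χ ⟨k, hk⟩ = 1 := hker (Subgroup.mem_top _)
  have h2 := congrArg (fun z : Subgroup.center K => (((z : K) : X))) h1
  change g * k * g⁻¹ * k⁻¹ = 1 at h2
  calc k * g = (g * k * g⁻¹ * k⁻¹) * k * g := by rw [h2, one_mul]
    _ = g * k := by group

variable {Q : Type*} [Group Q] [Finite Q]

/-- the automorphism of the central quotient induced by conjugation -/
noncomputable def qa (g : X) : MulAut (↥K ⧸ Subgroup.center ↥K) :=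
  QuotientGroup.congr _ _ (MulAut.conjNormal g) (Subgroup.characteristic_iff_map_eq.mp inferInstance _)

theorem qa_mk (g : X) (k : K) : qa K g (QuotientGroup.mk k) = QuotientGroup.mk (MulAut.conjNormal g k) := rfl

/-- the automorphism of a group isomorphic to the central quotient induced by conjugation -/
noncomputable def act (θ : (↥K ⧸ Subgroup.center ↥K) ≃* Q) : X →* MulAut Q where
  toFun g := (θ.symm.trans (qa K g)).trans θ
  map_one' := MulEquiv.ext fun q => by
    obtain ⟨k, hk⟩ := QuotientGroup.mk_surjective (θ.symm q)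
    show θ (qa K 1 (θ.symm q)) = q
    rw [← hk, qa_mk, map_one, MulAut.one_apply, hk, MulEquiv.apply_symm_apply]
  map_mul' g h := MulEquiv.ext fun q => by
    obtain ⟨k, hk⟩ := QuotientGroup.mk_surjective (θ.symm q)
    show θ (qa K (g * h) (θ.symm q)) = θ (qa K g (θ.symm (θ (qa K h (θ.symm q)))))
    rw [θ.symm_apply_apply, ← hk, qa_mk, qa_mk, qa_mk, map_mul, MulAut.mul_apply]

theorem act_apply (θ : (↥K ⧸ Subgroup.center ↥K) ≃* Q) (g : X) (k : K) :
    act K θ g (θ (QuotientGroup.mk k)) = θ (QuotientGroup.mk (MulAut.conjNormal g k)) := by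
  show θ (qa K g (θ.symm (θ (QuotientGroup.mk k)))) = _
  rw [θ.symm_apply_apply, qa_mk]

theorem quot_iso (hq : Cfsg.IsQuasisimple K) (θ : (↥K ⧸ Subgroup.center ↥K) ≃* Q) (Z : Subgroup X) [Z.Normal]
    (hZ : Subgroup.centralizer (K : Set X) = Z) (hcard : Nat.card (X ⧸ Z) = Nat.card (MulAut Q)) :
    Nonempty (X ⧸ Z ≃* MulAut Q) := by
  have hker : (act K θ).ker = Z := by
    rw [← hZ]
    ext g
    constructor
    · intro hg
      refine central_action K hq fun k => ?_
      have h1 := act_apply K θ g k
      rw [MonoidHom.mem_ker.mp hg, MulAut.one_apply] at h1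
      have h2 := QuotientGroup.eq.mp (θ.injective h1)
      have e : MulAut.conjNormal g k * k⁻¹ = k * (k⁻¹ * MulAut.conjNormal g k) * k⁻¹ := by group
      rw [e]
      exact (inferInstance : (Subgroup.center K).Normal).conj_mem _ h2 k
    · intro hg
      refine MonoidHom.mem_ker.mpr (MulEquiv.ext fun q => ?_)
      obtain ⟨k, hk⟩ := QuotientGroup.mk_surjective (θ.symm q)
      rw [show q = θ (QuotientGroup.mk k) by rw [hk, θ.apply_symm_apply], act_apply, MulAut.one_apply]
      congr 2
      refine Subtype.ext ?_
      rw [MulAut.conjNormal_apply, ← Subgroup.mem_centralizer_iff.mp hg k k.2, mul_inv_cancel_right]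
  have e := QuotientGroup.quotientKerEquivRange (act K θ)
  have hrange : (act K θ).range = ⊤ := Subgroup.eq_top_of_card_eq _ (by
    rw [← Nat.card_congr e.toEquiv, Nat.card_congr (QuotientGroup.quotientMulEquivOfEq hker).toEquiv, hcard])
  exact ⟨((QuotientGroup.quotientMulEquivOfEq hker.symm).trans e).trans
    ((MulEquiv.subgroupCongr hrange).trans Subgroup.topEquiv)⟩

end Cfsg.Agent.Spor.M24Rel.Qs
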