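import Cfsg.Agent.Lib.Spor.LFTTCentKer
import Cfsg.Agent.Lib.Spor.CentU62.Main
import Cfsg.Agent.Lib.Local.Basics
import Cfsg.Agent.S1696
import Cfsg.Agent.S2079
import Cfsg.Agent.Lib.Spor.M24RelPairQs

/-!
The centraliser of the first involution modulo it: the kernel of the sign is Fi22 by its involution centraliser,
and the whole quotient is its automorphism group.
-/

set_option autoImplicit false
set_option maxRecDepth 100000
set_option linter.unusedSectionVars false
set_option maxHeartbeats 1600000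

namespace Cfsg.Agent.Spor.LFT

open Cfsg.Agent.Spor.SpFour (F4)
open scoped commutatorElement

universe u

variable {G : Type u} [Group G] [Finite G] {z : G} {Q N M : Subgroup G}
variable {f : Frame z Q M} (S : Setup z Q N M) {t t' : G}

/-- the involution whose centraliser is the double cover of the unitary group -/
def HasU62 (Γ : Type*) [Group Γ] : Prop :=
  ∃ d' : Γ, orderOf d' = 2 ∧ Cfsg.IsQuasisimple ↥(Subgroup.centralizer ({d'} : Set Γ)) ∧
    (∃ (K : Type) (_ : Field K) (_ : Fintype K), Fintype.card K = 4 ∧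
      ∃ _ : ((Subgroup.zpowers d').subgroupOf (Subgroup.centralizer ({d'} : Set Γ))).Normal,
        Nonempty (↥(Subgroup.centralizer ({d'} : Set Γ)) ⧸
          (Subgroup.zpowers d').subgroupOf (Subgroup.centralizer ({d'} : Set Γ)) ≃* Cfsg.PSU 6 K 2)) ∧
    ∃ g, g * d' * g⁻¹ ∈ Subgroup.centralizer ({d'} : Set Γ) ∧ g * d' * g⁻¹ ≠ d'

theorem HasU62.congr {A B : Type*} [Group A] [Group B] (e : A ≃* B) (h : HasU62 A) : HasU62 B := by
  obtain ⟨d, hd, hq, ⟨K, iF, iT, hK, hn, ⟨φ⟩⟩, g, hg, hgne⟩ := h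
  have hmap : (Subgroup.centralizer ({d} : Set A)).map e.toMonoidHom = Subgroup.centralizer ({e d} : Set B) := by
    ext y
    obtain ⟨x, rfl⟩ := e.surjective y
    rw [show e x ∈ (Subgroup.centralizer ({d} : Set A)).map e.toMonoidHom ↔ x ∈ Subgroup.centralizer ({d} : Set A) from
      Subgroup.mem_map_iff_mem (f := e.toMonoidHom) e.injective, Subgroup.mem_centralizer_singleton_iff,
      Subgroup.mem_centralizer_singleton_iff, ← map_mul, ← map_mul, e.injective.eq_iff]
  let ε : ↥(Subgroup.centralizer ({d} : Set A)) ≃* ↥(Subgroup.centralizer ({e d} : Set B)) :=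
    (e.subgroupMap _).trans (MulEquiv.subgroupCongr hmap)
  have hε : ∀ x, (ε x : B) = e x := fun _ => rfl
  haveI hn' : ((Subgroup.zpowers (e d)).subgroupOf (Subgroup.centralizer ({e d} : Set B))).Normal := ⟨fun n hn g => by
    have e' : g * n * g⁻¹ = n := Subtype.ext (by
      show (g : B) * n * (g : B)⁻¹ = n
      obtain ⟨k, hk⟩ := Subgroup.mem_zpowers_iff.1 hn
      have hk' : (e d) ^ k = (n : B) := hk
      rw [← hk', ((show Commute (g : B) (e d) from Subgroup.mem_centralizer_singleton_iff.1 g.2).zpow_right k).eq,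
        mul_inv_cancel_right])
    rwa [e']⟩
  haveI := hn
  refine ⟨e d, by rw [MulEquiv.orderOf_eq]; exact hd, Local.isQuasisimple_congr ε hq,
    ⟨K, iF, iT, hK, hn', ⟨(QuotientGroup.congr _ _ ε ?_).symm.trans φ⟩⟩, e g, ?_, ?_⟩
  · ext y
    obtain ⟨x, rfl⟩ := ε.surjective y
    change ε.toMonoidHom x ∈ ((Subgroup.zpowers d).subgroupOf (Subgroup.centralizer ({d} : Set A))).map ε.toMonoidHom ↔
      ε x ∈ _
    rw [show ε.toMonoidHom x ∈ ((Subgroup.zpowers d).subgroupOf (Subgroup.centralizer ({d} : Set A))).map ε.toMonoidHom ↔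
      x ∈ (Subgroup.zpowers d).subgroupOf (Subgroup.centralizer ({d} : Set A)) from
      Subgroup.mem_map_iff_mem (f := ε.toMonoidHom) ε.injective, Subgroup.mem_subgroupOf, Subgroup.mem_subgroupOf,
      hε, Subgroup.mem_zpowers_iff, Subgroup.mem_zpowers_iff]
    exact exists_congr fun k => by rw [← map_zpow, e.injective.eq_iff]
  · rw [← map_inv, ← map_mul, ← map_mul, Subgroup.mem_centralizer_singleton_iff, ← map_mul, ← map_mul,
      Subgroup.mem_centralizer_singleton_iff.1 hg]
  · rw [← map_inv, ← map_mul, ← map_mul]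
    exact fun h => hgne (e.injective h)

/-- the subgroup of index two -/
structure TK (t t' : G) (K : Subgroup ↥(Subgroup.centralizer ({t} : Set G))) : Prop where
  qs : Cfsg.IsQuasisimple ↥K
  index : K.index = 2
  cent : Subgroup.centralizer (K : Set ↥(Subgroup.centralizer ({t} : Set G))) ≤ K
  tK : ∀ y : ↥(Subgroup.centralizer ({t} : Set G)), (y : G) = t → y ∈ K
  uK : ∀ y : ↥(Subgroup.centralizer ({t} : Set G)), (y : G) = t' → y ∈ K
  center : ∀ k : ↥K, k ∈ Subgroup.center ↥K ↔ ((k : ↥(Subgroup.centralizer ({t} : Set G))) : G) ∈ Subgroup.zpowers t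
  fi : Nonempty (↥K ⧸ Subgroup.center ↥K ≃* Cfsg.Spor.Fi22)
  u62 : HasU62 (↥K ⧸ Subgroup.center ↥K)
  card : Nat.card ↥(Subgroup.centralizer ({t} : Set G)) = 2 * (2 * 64561751654400)
  iso : ∀ [((Subgroup.zpowers t).subgroupOf (Subgroup.centralizer ({t} : Set G))).Normal],
    Nonempty (↥(Subgroup.centralizer ({t} : Set G)) ⧸
      (Subgroup.zpowers t).subgroupOf (Subgroup.centralizer ({t} : Set G)) ≃* MulAut Cfsg.Spor.Fi22)

/-- what is proved of a centraliser -/
def TCentGood (t : G) : Prop :=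
  ∃ K : Subgroup ↥(Subgroup.centralizer ({t} : Set G)),
    Cfsg.IsQuasisimple ↥K ∧ K.index = 2 ∧
    Subgroup.centralizer (K : Set ↥(Subgroup.centralizer ({t} : Set G))) ≤ K ∧
    (∃ htc : t ∈ Subgroup.centralizer ({t} : Set G), (⟨t, htc⟩ : ↥(Subgroup.centralizer ({t} : Set G))) ∈ K) ∧
    ∀ [((Subgroup.zpowers t).subgroupOf (Subgroup.centralizer ({t} : Set G))).Normal],
      Nonempty (↥(Subgroup.centralizer ({t} : Set G)) ⧸
        (Subgroup.zpowers t).subgroupOf (Subgroup.centralizer ({t} : Set G)) ≃* MulAut Cfsg.Spor.Fi22)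

include S in
theorem TSign.data {V : ↥(Subgroup.centralizer ({t} : Set G)) →* Multiplicative (ZMod 2)} (T : TSign f t t' V) :
    ∃ K, TK t t' K := by
  classical
  have P := T.P
  have hC : ∀ {x : G}, x ∈ Subgroup.centralizer ({t} : Set G) ↔ Commute x t := fun {x} =>
    Subgroup.mem_centralizer_singleton_iff
  have hzpw : ∀ {x : G}, x ∈ Subgroup.zpowers t ↔ x = 1 ∨ x = t := fun {x} => by
    refine ⟨fun h => ?_, ?_⟩
    · obtain ⟨k, rfl⟩ := Subgroup.mem_zpowers_iff.mp h
      rcases Int.even_or_odd' k with ⟨j, rfl | rfl⟩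
      · left; rw [zpow_mul, zpow_two, P.sq, one_zpow]
      · right; rw [zpow_add, zpow_mul, zpow_two, P.sq, one_zpow, one_mul, zpow_one]
    · rintro (rfl | rfl)
      exacts [one_mem _, Subgroup.mem_zpowers _]
  haveI hn : ((Subgroup.zpowers t).subgroupOf (Subgroup.centralizer ({t} : Set G))).Normal := ⟨fun n hn g => by
    have e : g * n * g⁻¹ = n := Subtype.ext (by
      show (g : G) * n * (g : G)⁻¹ = n
      rcases hzpw.1 hn with h | h
      · rw [show (n : G) = 1 from h, mul_one, mul_inv_cancel]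
      · rw [show (n : G) = t from h, (hC.1 g.2).eq, mul_inv_cancel_right])
    rwa [e]⟩
  obtain ⟨htne, ht'ne, -, htt⟩ := P.ne_all S
  let π := QuotientGroup.mk' ((Subgroup.zpowers t).subgroupOf (Subgroup.centralizer ({t} : Set G)))
  have hπ : ∀ {x y : ↥(Subgroup.centralizer ({t} : Set G))}, π x = π y ↔ ((y : G) = x ∨ (y : G) = x * t) :=
    fun {x y} => by
      rw [show π x = π y ↔ x⁻¹ * y ∈ (Subgroup.zpowers t).subgroupOf (Subgroup.centralizer ({t} : Set G)) from
        QuotientGroup.eq, Subgroup.mem_subgroupOf, hzpw, Subgroup.coe_mul, Subgroup.coe_inv]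
      exact or_congr (inv_mul_eq_one.trans eq_comm) inv_mul_eq_iff_eq_mul
  obtain ⟨tC, htC⟩ : ∃ tC : ↥(Subgroup.centralizer ({t} : Set G)), (tC : G) = t :=
    ⟨⟨t, hC.2 (Commute.refl t)⟩, rfl⟩
  obtain ⟨uC, huC⟩ : ∃ uC : ↥(Subgroup.centralizer ({t} : Set G)), (uC : G) = t' :=
    ⟨⟨t', hC.2 P.comm.symm⟩, rfl⟩
  have hVt : V tC = 1 := T.inCE tC (by rw [htC]; exact P.comm)
  have hVu : V uC = 1 := T.inCE uC (by rw [huC])
  obtain ⟨K, hK⟩ : ∃ K, K = V.ker := ⟨_, rfl⟩
  haveI hKn : K.Normal := hK ▸ inferInstance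
  have hKm : ∀ {y}, y ∈ K ↔ V y = 1 := fun {y} => by rw [hK]; exact MonoidHom.mem_ker
  have hKidx : K.index = 2 := by
    rw [hK, Subgroup.index_ker, MonoidHom.range_eq_top.2 T.surj, Subgroup.card_top, Nat.card_eq_fintype_card,
      Fintype.card_multiplicative, ZMod.card]
  obtain ⟨X0, hX0⟩ : ∃ X0, X0 = K.map π := ⟨_, rfl⟩
  haveI hX0n : X0.Normal := by rw [hX0]; exact hKn.map π (QuotientGroup.mk'_surjective _)
  have hX0m : ∀ {y}, π y ∈ X0 ↔ y ∈ K := fun {y} => by
    refine ⟨fun h => ?_, fun h => by rw [hX0]; exact Subgroup.mem_map_of_mem π h⟩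
    rw [hX0] at h
    obtain ⟨k, hk, e⟩ := Subgroup.mem_map.1 h
    rcases hπ.1 e with h' | h'
    · rwa [show y = k from Subtype.ext h']
    · rw [show y = k * tC from Subtype.ext (by rw [h', Subgroup.coe_mul, htC])]
      exact K.mul_mem hk (hKm.2 hVt)
  obtain ⟨dd, hdd⟩ : ∃ dd : ↥X0, (dd : _) = π uC := ⟨⟨π uC, hX0m.2 (hKm.2 hVu)⟩, rfl⟩
  -- the centraliser of the second involution
  have hin : ∀ y : ↥P.CE, (y : G) ∈ Subgroup.centralizer ({t} : Set G) := fun y => hC.2 (P.mem_CE.1 y.2).1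
  let incl : ↥P.CE →* ↥(Subgroup.centralizer ({t} : Set G)) := Subgroup.inclusion fun y hy => hin ⟨y, hy⟩
  have hinclK : ∀ y, incl y ∈ K := fun y => hKm.2 (T.inCE _ (P.mem_CE.1 y.2).2)
  let ρ : ↥P.CE →* ↥X0 := (π.comp incl).codRestrict X0 fun y => hX0m.2 (hinclK y)
  have hρval : ∀ y, ((ρ y : ↥X0) : _) = π (incl y) := fun y => rfl
  have hmoves : ∀ y : ↥(Subgroup.centralizer ({t} : Set G)), Commute (π y) (π uC) ↔
      ((y : G) * t' * (y : G)⁻¹ = t' ∨ (y : G) * t' * (y : G)⁻¹ = t * t') := by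
    intro y
    rw [show Commute (π y) (π uC) ↔ π uC = π (y * uC * y⁻¹) by
      rw [map_mul, map_mul, map_inv, eq_comm, mul_inv_eq_iff_eq_mul]; rfl, hπ]
    rw [Subgroup.coe_mul, Subgroup.coe_mul, Subgroup.coe_inv, huC, P.comm.eq]
  obtain ⟨s, hsV, hst⟩ := T.swap
  have hcentdd : ∀ x : ↥X0, Commute x dd ↔ x ∈ ρ.range := by
    intro x
    constructor
    · intro h
      obtain ⟨y, hy⟩ := QuotientGroup.mk'_surjective ((Subgroup.zpowers t).subgroupOf
        (Subgroup.centralizer ({t} : Set G))) x.1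
      have hyK : y ∈ K := hX0m.1 (by show π y ∈ X0; rw [show π y = x.1 from hy]; exact x.2)
      have hc : Commute (π y) (π uC) := by
        rw [show π y = x.1 from hy, ← hdd]
        exact congrArg Subtype.val h.eq
      have hy' : Commute (y : G) t' := by
        rcases (hmoves y).1 hc with h' | h'
        · exact mul_inv_eq_iff_eq_mul.1 h'
        exfalso
        have h2 : Commute ((s⁻¹ * y : ↥(Subgroup.centralizer ({t} : Set G))) : G) t' := by
          refine mul_inv_eq_iff_eq_mul.1 ?_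
          show (s : G)⁻¹ * y * t' * ((s : G)⁻¹ * y)⁻¹ = t'
          rw [show (s : G)⁻¹ * y * t' * ((s : G)⁻¹ * y)⁻¹ = (s : G)⁻¹ * ((y : G) * t' * (y : G)⁻¹) * s by group, h',
            ← hst]
          group
        have h3 := T.inCE _ h2
        rw [map_mul, map_inv, hKm.1 hyK, mul_one, inv_eq_one] at h3
        exact hsV h3
      exact ⟨⟨(y : G), P.mem_CE.2 ⟨hC.1 y.2, hy'⟩⟩, Subtype.ext hy⟩
    · rintro ⟨y, rfl⟩
      refine Subtype.ext ?_
      show π (incl y) * (dd : _) = (dd : _) * π (incl y)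
      rw [hdd, ← map_mul, ← map_mul]
      exact congrArg π (Subtype.ext (by
        show (y : G) * uC = uC * y
        rw [huC]; exact (P.mem_CE.1 y.2).2.eq))
  have hcd : Subgroup.centralizer ({dd} : Set ↥X0) = ρ.range := by
    ext x
    rw [Subgroup.mem_centralizer_singleton_iff]
    exact hcentdd x
  have hdd1 : dd ≠ 1 := fun e => by
    have h := hdd.symm.trans (congrArg Subtype.val e)
    rw [Subgroup.coe_one, ← map_one π, eq_comm, hπ, Subgroup.coe_one, huC, one_mul] at h
    rcases h with h | h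
    exacts [ht'ne h, htt h.symm]
  have hddo : orderOf dd = 2 := orderOf_eq_prime (by
    rw [pow_two]
    refine Subtype.ext ?_
    rw [Subgroup.coe_mul, hdd, ← map_mul, show uC * uC = 1 from Subtype.ext (by
      rw [Subgroup.coe_mul, huC, P.sq']; rfl), map_one]
    rfl) hdd1
  haveI hqs := T.qs.1
  have hρperf : ⁅ρ.range, ρ.range⁆ = ρ.range := by
    rw [MonoidHom.range_eq_map, ← Subgroup.map_commutator, ← commutator_def, T.qs.1.commutator_eq_top]
  have hperf : ⁅(⊤ : Subgroup ↥(TSU.CD dd)), (⊤ : Subgroup ↥(TSU.CD dd))⁆ = ⊤ := by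
    refine eq_top_iff.2 fun x _ => ?_
    have h : (x : ↥X0) ∈ ⁅ρ.range, ρ.range⁆ := by rw [hρperf, ← hcd]; exact x.2
    rw [← hcd, ← Subgroup.map_subtype_commutator] at h
    rw [← commutator_def]
    exact (Subgroup.mem_map_iff_mem (Subgroup.subtype_injective _)).1 h
  have hzp2 : ∀ {x : ↥X0}, x ∈ Subgroup.zpowers dd ↔ x = 1 ∨ x = dd := fun {x} => by
    have h2 : dd * dd = 1 := by rw [← pow_two, ← hddo]; exact pow_orderOf_eq_one dd
    refine ⟨fun h => ?_, ?_⟩
    · obtain ⟨k, rfl⟩ := Subgroup.mem_zpowers_iff.mp h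
      rcases Int.even_or_odd' k with ⟨j, rfl | rfl⟩
      · left; rw [zpow_mul, zpow_two, h2, one_zpow]
      · right; rw [zpow_add, zpow_mul, zpow_two, h2, one_zpow, one_mul, zpow_one]
    · rintro (rfl | rfl)
      exacts [one_mem _, Subgroup.mem_zpowers _]
  haveI hddn : ((Subgroup.zpowers dd).subgroupOf (Subgroup.centralizer ({dd} : Set ↥X0))).Normal := ⟨fun n hn g => by
    have e : g * n * g⁻¹ = n := Subtype.ext (by
      show (g : ↥X0) * n * (g : ↥X0)⁻¹ = n
      rcases hzp2.1 hn with h | h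
      · rw [show (n : ↥X0) = 1 from h, mul_one, mul_inv_cancel]
      · rw [show (n : ↥X0) = dd from h, Subgroup.mem_centralizer_singleton_iff.1 g.2, mul_inv_cancel_right])
    rwa [e]⟩
  obtain ⟨e6⟩ := T.quot
  let ρ' : ↥P.CE →* ↥(Subgroup.centralizer ({dd} : Set ↥X0)) :=
    ρ.codRestrict _ fun y => hcd ▸ ⟨y, rfl⟩
  let χ := (QuotientGroup.mk' ((Subgroup.zpowers dd).subgroupOf (Subgroup.centralizer ({dd} : Set ↥X0)))).comp ρ'
  have hχsur : Function.Surjective χ := by
    refine (QuotientGroup.mk'_surjective _).comp fun x => ?_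
    obtain ⟨y, hy⟩ : (x : ↥X0) ∈ ρ.range := hcd ▸ x.2
    exact ⟨y, Subtype.ext hy⟩
  have hχker : χ.ker = P.E.subgroupOf P.CE := by
    ext y
    rw [MonoidHom.mem_ker, show χ y = QuotientGroup.mk' _ (ρ' y) from rfl, QuotientGroup.mk'_apply,
      QuotientGroup.eq_one_iff, Subgroup.mem_subgroupOf, hzp2, Subgroup.mem_subgroupOf]
    show ρ y = 1 ∨ ρ y = dd ↔ _
    rw [P.mem_E, ← Subtype.coe_inj, ← Subtype.coe_inj (b := dd), hρval, hdd, Subgroup.coe_one,
      eq_comm (a := π (incl y)) (b := 1), ← map_one π, hπ, eq_comm (a := π (incl y)) (b := π uC), hπ]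
    rw [Subgroup.coe_one, one_mul, huC, P.comm.eq]
    show ((y : G) = 1 ∨ (y : G) = t) ∨ ((y : G) = t' ∨ (y : G) = t' * t) ↔ _
    exact or_assoc
  let e22 : (↥(Subgroup.centralizer ({dd} : Set ↥X0)) ⧸
      (Subgroup.zpowers dd).subgroupOf (Subgroup.centralizer ({dd} : Set ↥X0))) ≃* Cfsg.PSU 6 F4 2 :=
    ((QuotientGroup.quotientMulEquivOfEq hχker).symm.trans
      (QuotientGroup.quotientKerEquivOfSurjective χ hχsur)).symm.trans e6
  obtain ⟨y0, hy0V, hy0c, hy0ne, hy0ne'⟩ := T.moved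
  have hnwc : ∃ g : ↥X0, g * dd * g⁻¹ ∈ Subgroup.centralizer ({dd} : Set ↥X0) ∧ g * dd * g⁻¹ ≠ dd := by
    refine ⟨⟨π y0, hX0m.2 (hKm.2 hy0V)⟩, ?_, ?_⟩
    · rw [Subgroup.mem_centralizer_singleton_iff]
      refine Subtype.ext ?_
      show π y0 * (dd : _) * (π y0)⁻¹ * (dd : _) = (dd : _) * (π y0 * (dd : _) * (π y0)⁻¹)
      rw [hdd, ← map_inv, ← map_mul, ← map_mul, ← map_mul, ← map_mul]
      exact congrArg π (Subtype.ext (by
        show (y0 : G) * uC * (y0 : G)⁻¹ * uC = uC * ((y0 : G) * uC * (y0 : G)⁻¹)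
        rw [huC]; exact hy0c.eq))
    · intro e
      have h := congrArg Subtype.val e
      change π y0 * (dd : _) * (π y0)⁻¹ = (dd : _) at h
      rw [hdd, ← map_inv, ← map_mul, ← map_mul, eq_comm, hπ] at h
      simp only [Subgroup.coe_mul, Subgroup.coe_inv, huC] at h
      rcases h with h | h
      exacts [hy0ne h, hy0ne' (h.trans P.comm.symm.eq)]
  obtain ⟨-, -, ⟨eF⟩⟩ := CentU62.main dd hddo hperf F4 CHZ.hF e22 hnwc
  obtain ⟨hFs, hFc⟩ := Cfsg.Agent.S1696.result
  haveI : Finite Cfsg.Spor.Fi22 := Finite.of_equiv _ eF.toEquiv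
  haveI := hFs
  haveI hsimple : IsSimpleGroup ↥X0 := eF.isSimpleGroup_congr.mpr hFs
  -- consequences of simplicity
  have hperfX : commutator ↥X0 = ⊤ := by
    refine ((inferInstance : (commutator ↥X0).Normal).eq_bot_or_eq_top).resolve_left fun hb => hdd1 ?_
    have hle : ⁅ρ.range, ρ.range⁆ ≤ commutator ↥X0 := by
      rw [commutator_def]; exact Subgroup.commutator_mono le_top le_top
    rw [hρperf, hb] at hle
    exact Subgroup.mem_bot.1 (hle (hcd ▸ Subgroup.mem_centralizer_singleton_iff.2 rfl))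
  have hcenX : Subgroup.center ↥X0 = ⊥ := by
    refine ((inferInstance : (Subgroup.center ↥X0).Normal).eq_bot_or_eq_top).resolve_right fun htop => ?_
    have hb : commutator ↥X0 = ⊥ := by
      rw [eq_bot_iff, commutator_def, Subgroup.commutator_le]
      intro a _ b _
      rw [Subgroup.mem_bot, commutatorElement_eq_one_iff_mul_comm]
      exact (Subgroup.mem_center_iff.1 (htop ▸ Subgroup.mem_top b : b ∈ Subgroup.center ↥X0) a)
    rw [hperfX] at hb
    exact hdd1 (Subgroup.mem_bot.1 (hb ▸ Subgroup.mem_top dd))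
  -- the centraliser of the kernel of the sign
  have hcX : Subgroup.centralizer ((X0 : Subgroup _) : Set (↥(Subgroup.centralizer ({t} : Set G)) ⧸
      (Subgroup.zpowers t).subgroupOf (Subgroup.centralizer ({t} : Set G)))) = ⊥ := by
    refine (Subgroup.eq_bot_iff_forall _).2 fun x hx => ?_
    obtain ⟨y, rfl⟩ := QuotientGroup.mk'_surjective _ x
    have hcom : ∀ k, k ∈ K → Commute (π y) (π k) := fun k hk =>
      ((Subgroup.mem_centralizer_iff.1 hx) _ (hX0m.2 hk)).symm
    rcases (hmoves y).1 (hcom uC (hKm.2 hVu)) with h | h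
    · have hyK : y ∈ K := hKm.2 (T.inCE y (mul_inv_eq_iff_eq_mul.1 h))
      have hm : (⟨π y, hX0m.2 hyK⟩ : ↥X0) ∈ Subgroup.center ↥X0 := Subgroup.mem_center_iff.2 fun w =>
        Subtype.ext ((Subgroup.mem_centralizer_iff.1 hx) _ w.2)
      rw [hcenX, Subgroup.mem_bot] at hm
      exact congrArg Subtype.val hm
    · exfalso
      let D0 : Subgroup G :=
        { carrier := {w | (y : G) * w * (y : G)⁻¹ = w}
          one_mem' := by simp
          mul_mem' := fun {a b} (ha : (y : G) * a * (y : G)⁻¹ = a) (hb : (y : G) * b * (y : G)⁻¹ = b) => by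
            show (y : G) * (a * b) * (y : G)⁻¹ = a * b
            conv_rhs => rw [← ha, ← hb]
            group
          inv_mem' := fun {a} (ha : (y : G) * a * (y : G)⁻¹ = a) => by
            show (y : G) * a⁻¹ * (y : G)⁻¹ = a⁻¹
            conv_rhs => rw [← ha]
            group }
      have hle : ⁅P.CE, P.CE⁆ ≤ D0 := by
        rw [Subgroup.commutator_le]
        intro a ha b hb
        have hcase : ∀ {w}, w ∈ P.CE → ∃ i, (i = 1 ∨ i = t) ∧ (y : G) * w * (y : G)⁻¹ = w * i := by
          intro w hw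
          have hc := hcom (incl ⟨w, hw⟩) (hinclK _)
          have e : π (incl ⟨w, hw⟩) = π (y * incl ⟨w, hw⟩ * y⁻¹) := by
            rw [map_mul, map_mul, map_inv, hc.eq, mul_inv_cancel_right]
          rcases hπ.1 e with e | e
          · exact ⟨1, Or.inl rfl, by rw [mul_one]; exact e⟩
          · exact ⟨t, Or.inr rfl, e⟩
        obtain ⟨i, hi, ei⟩ := hcase ha
        obtain ⟨j, hj, ej⟩ := hcase hb
        clear hcase
        have hci : ∀ {w}, w ∈ P.CE → ∀ {i}, (i = 1 ∨ i = t) → Commute w i := fun {w} hw {i} hi => by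
          rcases hi with rfl | rfl
          exacts [Commute.one_right _, (P.mem_CE.1 hw).1]
        have hij : Commute i j := by
          rcases hi with rfl | rfl
          · exact Commute.one_left j
          · rcases hj with rfl | rfl
            · exact Commute.one_right _
            · exact Commute.refl _
        show (y : G) * ⁅a, b⁆ * (y : G)⁻¹ = ⁅a, b⁆
        rw [commutatorElement_def, show (y : G) * (a * b * a⁻¹ * b⁻¹) * (y : G)⁻¹ =
          ((y : G) * a * (y : G)⁻¹) * ((y : G) * b * (y : G)⁻¹) * ((y : G) * a * (y : G)⁻¹)⁻¹ *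
            ((y : G) * b * (y : G)⁻¹)⁻¹ by group, ei, ej]
        have c1 : Commute i b := (hci hb hi).symm
        have c2 : Commute j a := (hci ha hj).symm
        calc a * i * (b * j) * (a * i)⁻¹ * (b * j)⁻¹ = a * (i * b) * j * i⁻¹ * a⁻¹ * j⁻¹ * b⁻¹ := by group
          _ = a * (b * i) * j * i⁻¹ * a⁻¹ * j⁻¹ * b⁻¹ := by rw [c1.eq]
          _ = a * b * (i * j) * i⁻¹ * a⁻¹ * j⁻¹ * b⁻¹ := by group
          _ = a * b * (j * i) * i⁻¹ * a⁻¹ * j⁻¹ * b⁻¹ := by rw [hij.eq]
          _ = a * b * (j * a⁻¹) * j⁻¹ * b⁻¹ := by group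
          _ = a * b * (a⁻¹ * j) * j⁻¹ * b⁻¹ := by rw [c2.inv_right.eq]
          _ = a * b * a⁻¹ * b⁻¹ := by group
      have hf : (y : G) * t' * (y : G)⁻¹ = t' := hle T.tder'
      rw [hf] at h
      exact htne (mul_eq_right.1 h.symm)
  -- the cover
  let κ : ↥K →* ↥X0 := (π.comp K.subtype).codRestrict X0 fun k => hX0m.2 k.2
  have hκsur : Function.Surjective κ := fun x => by
    obtain ⟨k, hk, e⟩ : ∃ k ∈ K, π k = x.1 := by
      have h := x.2
      simp only [hX0] at h
      exact Subgroup.mem_map.1 h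
    exact ⟨⟨k, hk⟩, Subtype.ext e⟩
  have hκker : ∀ k, κ k = 1 ↔ ((k : ↥(Subgroup.centralizer ({t} : Set G))) : G) ∈ Subgroup.zpowers t := fun k =>
    ⟨fun e => (QuotientGroup.eq_one_iff (N := (Subgroup.zpowers t).subgroupOf (Subgroup.centralizer ({t} : Set G)))
      (k : ↥(Subgroup.centralizer ({t} : Set G)))).1 (congrArg Subtype.val e), fun h =>
      Subtype.ext ((QuotientGroup.eq_one_iff _).2 h)⟩
  have htder : (⟨tC, hKm.2 hVt⟩ : ↥K) ∈ commutator ↥K := by
    let j : ↥P.CE →* ↥K := incl.codRestrict K hinclK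
    have hm : (⟨t, P.mem_CE.2 ⟨Commute.refl t, P.comm⟩⟩ : ↥P.CE) ∈ commutator ↥P.CE := by
      rw [T.qs.1.commutator_eq_top]; exact Subgroup.mem_top _
    have hle : (commutator ↥P.CE).map j ≤ commutator ↥K := by
      rw [commutator_def, Subgroup.map_commutator, commutator_def]
      exact Subgroup.commutator_mono le_top le_top
    rw [show (⟨tC, hKm.2 hVt⟩ : ↥K) = j ⟨t, P.mem_CE.2 ⟨Commute.refl t, P.comm⟩⟩ from
      Subtype.ext (Subtype.ext htC)]
    exact hle (Subgroup.mem_map_of_mem j hm)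
  have hperfK : commutator ↥K = ⊤ := by
    have h1 : (commutator ↥K).map κ = ⊤ := by
      rw [commutator_def, Subgroup.map_commutator, Subgroup.map_top_of_surjective κ hκsur, ← commutator_def, hperfX]
    have h2 : κ.ker ≤ commutator ↥K := fun k hk => by
      rcases hzpw.1 ((hκker k).1 (MonoidHom.mem_ker.1 hk)) with e | e
      · rw [show k = 1 from Subtype.ext (Subtype.ext e)]; exact one_mem _
      · rw [show k = ⟨tC, hKm.2 hVt⟩ from Subtype.ext (Subtype.ext (e.trans htC.symm))]; exact htder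
    have h3 := congrArg (Subgroup.comap κ) h1
    rwa [Subgroup.comap_map_eq, sup_eq_left.2 h2, Subgroup.comap_top] at h3
  have hcenK : Subgroup.center ↥K = κ.ker := by
    refine le_antisymm (fun k hk => ?_) fun k hk => ?_
    · rw [MonoidHom.mem_ker, ← Subgroup.mem_bot, ← hcenX, Subgroup.mem_center_iff]
      intro w
      obtain ⟨w, rfl⟩ := hκsur w
      rw [← map_mul, ← map_mul, Subgroup.mem_center_iff.1 hk w]
    · refine Subgroup.mem_center_iff.2 fun w => Subtype.ext (Subtype.ext ?_)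
      show ((w : ↥(Subgroup.centralizer ({t} : Set G))) : G) * (k : ↥(Subgroup.centralizer ({t} : Set G))) =
        ((k : ↥(Subgroup.centralizer ({t} : Set G))) : G) * (w : ↥(Subgroup.centralizer ({t} : Set G)))
      rcases hzpw.1 ((hκker k).1 (MonoidHom.mem_ker.1 hk)) with e | e <;> rw [e]
      · rw [mul_one, one_mul]
      · exact (hC.1 (w : ↥(Subgroup.centralizer ({t} : Set G))).2).eq
  have hKqs : Cfsg.IsQuasisimple ↥K :=
    ⟨⟨hperfK⟩, ((QuotientGroup.quotientMulEquivOfEq hcenK).trans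
      (QuotientGroup.quotientKerEquivOfSurjective κ hκsur)).isSimpleGroup_congr.mpr hsimple⟩
  have hcK : Subgroup.centralizer (K : Set ↥(Subgroup.centralizer ({t} : Set G))) ≤ K := by
    intro y hy
    have h1 : π y ∈ Subgroup.centralizer ((X0 : Subgroup _) : Set (↥(Subgroup.centralizer ({t} : Set G)) ⧸
        (Subgroup.zpowers t).subgroupOf (Subgroup.centralizer ({t} : Set G)))) := by
      rw [Subgroup.mem_centralizer_iff]
      intro w hw
      obtain ⟨k, hk, rfl⟩ := Subgroup.mem_map.1 (hX0 ▸ hw)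
      rw [← map_mul, ← map_mul, Subgroup.mem_centralizer_iff.1 hy k hk]
    rw [hcX, Subgroup.mem_bot] at h1
    exact hX0m.1 (h1 ▸ X0.one_mem)
  have heK : ↥K ⧸ Subgroup.center ↥K ≃* ↥X0 :=
    (QuotientGroup.quotientMulEquivOfEq hcenK).trans (QuotientGroup.quotientKerEquivOfSurjective κ hκsur)
  have hcenter : ∀ k : ↥K, k ∈ Subgroup.center ↥K ↔
      ((k : ↥(Subgroup.centralizer ({t} : Set G))) : G) ∈ Subgroup.zpowers t := fun k => by
    rw [hcenK, MonoidHom.mem_ker]; exact hκker k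
  refine ⟨K, hKqs, hKidx, hcK, ?_, ?_, hcenter, ⟨heK.trans eF⟩, HasU62.congr heK.symm ⟨dd, hddo, ?_,
    ⟨F4, inferInstance, inferInstance, CHZ.hF, hddn, ⟨e22⟩⟩, hnwc⟩, ?_, fun {inst} => ?_⟩
  · intro w hw
    rw [show w = tC from Subtype.ext (hw.trans htC.symm)]
    exact hKm.2 hVt
  · intro w hw
    rw [show w = uC from Subtype.ext (hw.trans huC.symm)]
    exact hKm.2 hVu
  · refine ⟨⟨hperf ▸ commutator_def _⟩, ?_⟩
    have hcd2 : Subgroup.center ↥(Subgroup.centralizer ({dd} : Set ↥X0)) =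
        (Subgroup.zpowers dd).subgroupOf (Subgroup.centralizer ({dd} : Set ↥X0)) := by
      haveI : IsSimpleGroup (↥(Subgroup.centralizer ({dd} : Set ↥X0)) ⧸
          (Subgroup.zpowers dd).subgroupOf (Subgroup.centralizer ({dd} : Set ↥X0))) :=
        e22.isSimpleGroup_congr.mpr (Cfsg.Agent.Small.Unitary.psu_simple SpFour.F4.star_eq_pow SpFour.F4.card_sq
          (n := 6) (by norm_num) (by omega))
      let ψ := QuotientGroup.mk' ((Subgroup.zpowers dd).subgroupOf (Subgroup.centralizer ({dd} : Set ↥X0)))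
      refine le_antisymm ?_ fun x hx => Subgroup.mem_center_iff.2 fun w => Subtype.ext ?_
      · rcases Subgroup.Normal.eq_bot_or_eq_top ((inferInstance :
            (Subgroup.center ↥(Subgroup.centralizer ({dd} : Set ↥X0))).Normal).map ψ
            (QuotientGroup.mk'_surjective _)) with h | h
        · exact fun x hx => (QuotientGroup.eq_one_iff x).1 (Subgroup.mem_bot.1 (h ▸ Subgroup.mem_map_of_mem ψ hx))
        · exfalso
          have hb : (commutator ↥(Subgroup.centralizer ({dd} : Set ↥X0))).map ψ = ⊥ := by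
            rw [eq_bot_iff, Subgroup.map_le_iff_le_comap, commutator_def, Subgroup.commutator_le]
            intro a _ b _
            rw [Subgroup.mem_comap, Subgroup.mem_bot, map_commutatorElement]
            have hb : ψ b ∈ (Subgroup.center ↥(Subgroup.centralizer ({dd} : Set ↥X0))).map ψ := h ▸ Subgroup.mem_top _
            obtain ⟨c, hc, e⟩ := hb
            rw [← e, ← map_commutatorElement, commutatorElement_eq_one_iff_mul_comm.2
              (Subgroup.mem_center_iff.1 hc a), map_one]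
          rw [show commutator ↥(Subgroup.centralizer ({dd} : Set ↥X0)) = ⊤ from hperf ▸ commutator_def _,
            Subgroup.map_top_of_surjective ψ (QuotientGroup.mk'_surjective _)] at hb
          exact top_ne_bot hb
      · show (w : ↥X0) * x = x * w
        rcases hzp2.1 hx with e | e <;> rw [show (x : ↥X0) = _ from e]
        · rw [mul_one, one_mul]
        · exact Subgroup.mem_centralizer_singleton_iff.1 w.2
    exact ((QuotientGroup.quotientMulEquivOfEq hcd2).trans e22).isSimpleGroup_congr.mpr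
      (Cfsg.Agent.Small.Unitary.psu_simple SpFour.F4.star_eq_pow SpFour.F4.card_sq (n := 6) (by norm_num) (by omega))
  · have hcn : Nat.card ↥(Subgroup.center ↥K) = 2 := by
      refine Nat.card_eq_two_iff.2 ⟨1, ⟨⟨tC, hKm.2 hVt⟩, (hcenter _).2 (by
        show ((tC : G)) ∈ _; rw [htC]; exact Subgroup.mem_zpowers t)⟩,
        fun e => htne (by
          have e' := congrArg (fun v : ↥(Subgroup.center ↥K) => (((v : ↥K) : ↥(Subgroup.centralizer ({t} : Set G))) : G)) e
          rw [← htC]; exact e'.symm), ?_⟩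
      refine Set.eq_univ_of_forall fun v => ?_
      rcases hzpw.1 ((hcenter _).1 v.2) with e | e
      · exact Or.inl (Subtype.ext (Subtype.ext (Subtype.ext e)))
      · exact Or.inr (Subtype.ext (Subtype.ext (Subtype.ext (e.trans htC.symm))))
    rw [← Subgroup.index_mul_card K, hKidx, Subgroup.card_eq_card_quotient_mul_card_subgroup (Subgroup.center ↥K), hcn,
      Nat.card_congr (heK.trans eF).toEquiv, hFc, mul_comm 64561751654400 2]
  -- the quotient is the automorphism group
  let Φ : (↥(Subgroup.centralizer ({t} : Set G)) ⧸ (Subgroup.zpowers t).subgroupOf (Subgroup.centralizer ({t} : Set G))) →*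
      MulAut ↥X0 := MulAut.conjNormal
  have hΦ : Function.Injective Φ := (injective_iff_map_eq_one Φ).2 fun x hx => by
    refine Subgroup.mem_bot.1 (hcX ▸ Subgroup.mem_centralizer_iff.2 fun w hw => ?_)
    have e := congrArg Subtype.val (DFunLike.congr_fun hx ⟨w, hw⟩)
    rw [MulAut.conjNormal_apply] at e
    exact (mul_inv_eq_iff_eq_mul.1 e).symm
  have hcardX : Nat.card (↥(Subgroup.centralizer ({t} : Set G)) ⧸
      (Subgroup.zpowers t).subgroupOf (Subgroup.centralizer ({t} : Set G))) = 2 * Nat.card ↥X0 := by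
    have hidx : X0.index = 2 := by
      rw [hX0, Subgroup.index_map_eq _ (QuotientGroup.mk'_surjective _)]
      · exact hKidx
      · rw [QuotientGroup.ker_mk']
        intro y hy
        rcases hzpw.1 hy with e | e
        · rw [show y = 1 from Subtype.ext e]; exact one_mem _
        · rw [show y = tC from Subtype.ext (e.trans htC.symm)]; exact hKm.2 hVt
    rw [← Subgroup.index_mul_card X0, hidx]
  have hcen22 : Subgroup.center Cfsg.Spor.Fi22 = ⊥ := by
    refine (Subgroup.eq_bot_iff_forall _).2 fun x hx => ?_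
    have hm : eF.symm x ∈ Subgroup.center ↥X0 := Subgroup.mem_center_iff.2 fun w => eF.injective (by
      rw [map_mul, map_mul, eF.apply_symm_apply]
      exact Subgroup.mem_center_iff.1 hx _)
    rw [hcenX, Subgroup.mem_bot] at hm
    rw [← eF.apply_symm_apply x, hm, map_one]
  have hcardA : Nat.card (MulAut Cfsg.Spor.Fi22) = 2 * Nat.card ↥X0 := by
    have hinj : Function.Injective (MulAut.conj : Cfsg.Spor.Fi22 →* MulAut Cfsg.Spor.Fi22) :=
      (injective_iff_map_eq_one _).2 fun x hx => Subgroup.mem_bot.1 (hcen22 ▸ Subgroup.mem_center_iff.2 fun w => by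
        have e := DFunLike.congr_fun hx w
        rw [MulAut.conj_apply, MulAut.one_apply] at e
        exact (mul_inv_eq_iff_eq_mul.1 e).symm)
    rw [← Subgroup.index_mul_card (Cfsg.Inn Cfsg.Spor.Fi22),
      ← Nat.card_congr (MonoidHom.ofInjective hinj).toEquiv, Nat.card_congr eF.toEquiv]
    exact congrArg (· * _) Cfsg.Agent.S2079.result
  let eA : MulAut ↥X0 ≃* MulAut Cfsg.Spor.Fi22 := MulAut.congr eF
  refine ⟨MulEquiv.ofBijective (eA.toMonoidHom.comp Φ) ?_⟩
  haveI : Finite (MulAut Cfsg.Spor.Fi22) := Nat.finite_of_card_ne_zero (by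
    rw [hcardA]
    have := Nat.card_pos (α := ↥X0)
    omega)
  exact (Nat.bijective_iff_injective_and_card _).2 ⟨eA.injective.comp hΦ, hcardX.trans hcardA.symm⟩

include S in
theorem TSign.good {V : ↥(Subgroup.centralizer ({t} : Set G)) →* Multiplicative (ZMod 2)} (T : TSign f t t' V) :
    TCentGood t := by
  obtain ⟨K, hK⟩ := T.data S
  exact ⟨K, hK.qs, hK.index, hK.cent,
    ⟨Subgroup.mem_centralizer_singleton_iff.2 rfl, hK.tK _ rfl⟩, hK.iso⟩

end Cfsg.Agent.Spor.LFT
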