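import Cfsg.Agent.Lib.Spor.LFTTCentQ
import Cfsg.Agent.Lib.Spor.FiTwo.CaseUTransfer
import Mathlib.Data.ZMod.Basic

/-!
The centraliser of the first involution of the four-group has a subgroup of index two missing the element of the
extraspecial subgroup which moves the second one.
-/

set_option autoImplicit false
set_option maxRecDepth 100000
set_option linter.unusedSectionVars false

namespace Cfsg.Agent.Spor.LFT

open Cfsg.Agent.Spor.SUSix (V6)
open Cfsg.Agent.Spor.SpFour (F4)

universe u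

variable {G : Type u} [Group G] [Finite G] {z : G} {Q N M : Subgroup G}
variable {f : Frame z Q M} (S : Setup z Q N M) {t t' : G}

include S

namespace FPair

variable (P : FPair f t t')

/-- the second involution goes to the four-group or to its translate -/
theorem image_cases {c : G} (hcz : Commute c z) (hct : Commute c t) :
    c * t' * c⁻¹ ∈ P.E ∨ c * t' * c⁻¹ * z ∈ P.E := by
  obtain ⟨cc, hcc⟩ : ∃ cc : Subgroup.centralizer ({z} : Set G), (cc : G) = c :=
    ⟨⟨c, Subgroup.mem_centralizer_singleton_iff.2 hcz.eq⟩, rfl⟩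
  have hQ : c * t' * c⁻¹ ∈ Q := S.hyp.normQ c hcz t' P.tQ'
  have hv : f.vec (c * t' * c⁻¹) = f.π cc (F4.w • f.vec t) := by
    rw [← P.vec', ← f.vec_conj cc t' P.tQ', hcc]
  have hfix : f.π cc (f.vec t) = f.vec t := by
    rw [← f.vec_conj cc t P.tQ, hcc, hct.eq, mul_inv_cancel_right]
  have hcases : f.vec (c * t' * c⁻¹) = f.vec t' ∨ f.vec (c * t' * c⁻¹) = f.vec (t * t') := by
    rcases (S.range_pi f _).2 ⟨cc, rfl⟩ with h | h
    · left
      rw [hv, scal_comm h, hfix, P.vec']
    · right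
      have e := scal_comm h F4.w (f.vec t)
      rw [Equiv.Perm.mul_apply, Equiv.Perm.mul_apply, hfix] at e
      have e2 := congrArg (eo 0) e
      rw [Pw.eo_semi, show eo 0 (eo 0 (f.π cc (F4.w • f.vec t))) = f.π cc (F4.w • f.vec t) from eoF_inv 0 _,
        show eo 0 (eo 0 (f.vec t)) = f.vec t from eoF_inv 0 _] at e2
      rw [hv, e2, f.vec_mul t P.tQ t' P.tQ', P.vec']
      have key : ∀ a : F4, star F4.w * a = a + F4.w * a := by decide +kernel
      exact funext fun i => key _
  have hzz : ∀ x : G, x * z * z = x := fun x => by rw [mul_assoc, S.hyp.xt.sq, mul_one]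
  rcases hcases with h | h
  · rcases (f.vec_eq _ hQ _ P.tQ').1 h with e | e
    · exact Or.inl (e ▸ P.t'_mem)
    · exact Or.inr (e ▸ P.t'_mem)
  · rcases (f.vec_eq _ hQ _ (mul_mem P.tQ P.tQ')).1 h with e | e
    · exact Or.inl (e ▸ P.tt_mem)
    · exact Or.inr (e ▸ P.tt_mem)

theorem not_both {x : G} (h : x ∈ P.E) : x * z ∉ P.E := fun h' => P.z_not_mem S (by
  simpa using P.E.mul_mem (P.E.inv_mem h) h')

variable {p : PV} {q : G} (O : P.Out p q)
include O

theorem exists_index_two : ∃ V : ↥(Subgroup.centralizer ({t} : Set G)) →* Multiplicative (ZMod 2),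
    V ⟨q, Subgroup.mem_centralizer_singleton_iff.2 O.comm.eq⟩ = Multiplicative.ofAdd 1 := by
  classical
  obtain ⟨C, hC⟩ : ∃ C : Subgroup G, C = Subgroup.centralizer ({t} : Set G) := ⟨_, rfl⟩
  subst hC
  let H : Subgroup ↥(Subgroup.centralizer ({t} : Set G)) :=
    (Subgroup.centralizer ({z} : Set G)).subgroupOf (Subgroup.centralizer ({t} : Set G))
  have hHz : ∀ c : ↥H, Commute ((c : ↥(Subgroup.centralizer ({t} : Set G))) : G) z := fun c =>
    Subgroup.mem_centralizer_singleton_iff.1 c.2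
  have hHt : ∀ c : ↥H, Commute ((c : ↥(Subgroup.centralizer ({t} : Set G))) : G) t := fun c =>
    Subgroup.mem_centralizer_singleton_iff.1 c.1.2
  let g : G → Multiplicative (ZMod 2) := fun x =>
    if x * t' * x⁻¹ ∈ P.E then 1 else Multiplicative.ofAdd 1
  have hg : ∀ {x}, x * t' * x⁻¹ ∈ P.E → g x = 1 := fun h => if_pos h
  have hg' : ∀ {x}, x * t' * x⁻¹ ∉ P.E → g x = Multiplicative.ofAdd 1 := fun h => if_neg h
  have h2 : Multiplicative.ofAdd (1 : ZMod 2) * Multiplicative.ofAdd 1 = 1 := by decide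
  have hmul : ∀ {a b : G}, Commute a z → Commute a t → Commute b z → Commute b t → g (a * b) = g a * g b := by
    intro a b haz hat hbz hbt
    have hconj : ∀ {e}, e ∈ P.E → a * t' * a⁻¹ ∈ P.E → a * e * a⁻¹ ∈ P.E := fun {e} he h => by
      rcases P.mem_E.1 he with rfl | rfl | rfl | rfl
      · rw [mul_one, mul_inv_cancel]; exact P.E.one_mem
      · rw [hat.eq, mul_inv_cancel_right]; exact P.t_mem
      · exact h
      · rw [show a * (t * t') * a⁻¹ = a * t * a⁻¹ * (a * t' * a⁻¹) by group, hat.eq, mul_inv_cancel_right]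
        exact P.E.mul_mem P.t_mem h
    have hzE : ∀ {e : G}, a * (e * z) * a⁻¹ = a * e * a⁻¹ * z := fun {e} => by
      rw [show a * (e * z) * a⁻¹ = a * e * a⁻¹ * (a * z * a⁻¹) by group, haz.eq, mul_inv_cancel_right]
    have hsplit : a * b * t' * (a * b)⁻¹ = a * (b * t' * b⁻¹) * a⁻¹ := by group
    -- the members outside the translate of the four-group
    have hout : ∀ {e}, e ∈ P.E → e ≠ 1 → e ≠ t → a * t' * a⁻¹ * z ∈ P.E → a * e * a⁻¹ * z ∈ P.E := fun {e} he h1 h2 h => by
      rcases P.mem_E.1 he with rfl | rfl | rfl | rfl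
      · exact absurd rfl h1
      · exact absurd rfl h2
      · exact h
      · rw [show a * (t * t') * a⁻¹ = a * t * a⁻¹ * (a * t' * a⁻¹) by group, hat.eq, mul_inv_cancel_right, mul_assoc t]
        exact P.E.mul_mem P.t_mem h
    obtain ⟨h1n, -, -, htt⟩ := P.ne_all S
    have hne : ∀ {x e : G}, x * t' * x⁻¹ = e → Commute x t → e ≠ 1 ∧ e ≠ t := fun {x e} h hx =>
      ⟨fun h' => (P.ne_all S).2.1 (conj_eq_one_iff.1 (h.trans h')), fun h' => htt (by
        have e2 : x * t' * x⁻¹ = x * t * x⁻¹ := by rw [hx.eq, mul_inv_cancel_right, h, h']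
        exact ((MulAut.conj x).injective e2).symm)⟩
    have hne' : ∀ {x e : G}, x * t' * x⁻¹ * z = e → Commute x z → Commute x t → e ≠ 1 ∧ e ≠ t :=
      fun {x e} h hxz hxt => by
      refine ⟨fun h' => ?_, fun h' => ?_⟩
      · have e1 := eq_inv_of_mul_eq_one_left (h.trans h')
        rw [inv_eq_of_mul_eq_one_right S.hyp.xt.sq] at e1
        exact P.nc' ((isConj_iff.2 ⟨x, e1⟩).symm)
      · have e1 : x * t' * x⁻¹ = t * z := by
          rw [← h', ← h, mul_assoc (x * t' * x⁻¹), S.hyp.xt.sq, mul_one]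
        have e2 : x * t' * x⁻¹ = x * (t * z) * x⁻¹ := by
          rw [e1, (hxt.mul_right hxz).eq, mul_inv_cancel_right]
        have e3 := (MulAut.conj x).injective e2
        exact P.not_both S P.t_mem (e3 ▸ P.t'_mem)
    by_cases hb : b * t' * b⁻¹ ∈ P.E
    · rw [hg hb, mul_one]
      by_cases ha : a * t' * a⁻¹ ∈ P.E
      · rw [hg ha, hg (hsplit ▸ hconj hb ha)]
      · obtain ⟨e1, e2⟩ := hne rfl hbt
        have hm := hout hb e1 e2 ((P.image_cases S haz hat).resolve_left ha)
        rw [hg' ha, hg' (fun h => P.not_both S (hsplit ▸ h) hm)]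
    · have hbm := (P.image_cases S hbz hbt).resolve_left hb
      have e0 : a * (b * t' * b⁻¹) * a⁻¹ = a * (b * t' * b⁻¹ * z) * a⁻¹ * z := by
        rw [hzE, mul_assoc _ z z, S.hyp.xt.sq, mul_one]
      rw [hg' hb]
      by_cases ha : a * t' * a⁻¹ ∈ P.E
      · rw [hg ha, one_mul, hg']
        rw [hsplit, e0]
        exact P.not_both S (hconj hbm ha)
      · obtain ⟨e1, e2⟩ := hne' rfl hbz hbt
        rw [hg' ha, h2, hg]
        rw [hsplit, e0]
        exact hout hbm e1 e2 ((P.image_cases S haz hat).resolve_left ha)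
  let φ : ↥H →* Multiplicative (ZMod 2) :=
    MonoidHom.mk' (fun c => g ((c : ↥(Subgroup.centralizer ({t} : Set G))) : G)) fun a b =>
      hmul (hHz a) (hHt a) (hHz b) (hHt b)
  have hqC : q ∈ Subgroup.centralizer ({t} : Set G) := Subgroup.mem_centralizer_singleton_iff.2 O.comm.eq
  let T : Subgroup ↥(Subgroup.centralizer ({t} : Set G)) :=
    (Q ⊓ Subgroup.centralizer ({q} : Set G)).subgroupOf (Subgroup.centralizer ({t} : Set G))
  have hT : IsPGroup 2 T := by
    have hQ2 : IsPGroup 2 ↥(Q ⊓ Subgroup.centralizer ({q} : Set G) : Subgroup G) :=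
      S.large.1.1.1.to_le inf_le_left
    exact hQ2.comap_of_injective (Subgroup.centralizer ({t} : Set G)).subtype Subtype.val_injective
  have hTH : T ≤ H := fun y hy => Subgroup.mem_centralizer_singleton_iff.2 (S.hyp.qz hy.1)
  refine ⟨MonoidHom.transfer φ, ?_⟩
  rw [FiTwo.CaseU.transfer_involution H φ T hT hTH (v := ⟨q, hqC⟩) (Subtype.ext O.sq)
    (Subgroup.mem_centralizer_singleton_iff.2 (S.hyp.qz O.mem))
    (fun y hy => Subtype.ext (Subgroup.mem_centralizer_singleton_iff.1 hy.2)) ?_]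
  · show g q = _
    refine hg' ?_
    rw [O.move]
    exact P.not_both S P.t'_mem
  · intro r hr
    have hrt : Commute (r : G) t := Subgroup.mem_centralizer_singleton_iff.1 r.2
    have e : (r : G) * z * (r : G)⁻¹ = z := by
      refine P.out_only S O (isConj_iff.2 ⟨r, rfl⟩) ((hrt.mul_left (P.E_z S P.t_mem)).mul_left hrt.inv_left)
        fun y hy hyt hyq => ?_
      have hyC : y ∈ Subgroup.centralizer ({t} : Set G) := Subgroup.mem_centralizer_singleton_iff.2 hyt.eq
      have h1 : Commute ((r : G)⁻¹ * y * r) z := Subgroup.mem_centralizer_singleton_iff.1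
        (hr ⟨y, hyC⟩ ⟨hy, Subgroup.mem_centralizer_singleton_iff.2 hyq.eq⟩)
      have h3 := h1.map (MulAut.conj (r : G)).toMonoidHom
      simpa [mul_assoc] using h3.symm
    exact Subgroup.mem_centralizer_singleton_iff.2 (mul_inv_eq_iff_eq_mul.1 e)

end FPair

end Cfsg.Agent.Spor.LFT
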