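import Cfsg.Agent.Lib.Spor.LFTThompChecks

/-!
Kernel checks for the normaliser of the largest elementary abelian subgroup in large Fischer type (A).
-/

set_option autoImplicit false
set_option maxRecDepth 100000

namespace Cfsg.Agent.Spor.LFT.Chk

theorem elem_ok : elemOK = true := by decide +kernel

theorem vec_ok : vecOK = true := by decide +kernel

theorem stab_ok : stabOK = true := by decide +kernel

theorem toE_ok : toEOK = true := by decide +kernel

theorem toP_ok : toPOK = true := by decide +kernel

theorem cover_ok : coverOK = true := by decide +kernel

theorem five_ok : fiveOK = true := by decide +kernel

theorem sub27_ok : subOK27 = true := by decide +kernel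

theorem fixer_ok : fixerOK = true := by decide +kernel

end Cfsg.Agent.Spor.LFT.Chk
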