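import Cfsg.Agent.Lib.Spor.LFTSection
import Cfsg.Agent.Lib.Spor.LFTThompChecksA

/-!
Large Fischer type: coordinates on the largest elementary abelian subgroup and the action of its stabiliser.
-/

set_option autoImplicit false
set_option maxRecDepth 100000
set_option linter.unusedSectionVars false

namespace Cfsg.Agent.Spor.LFT

open Cfsg.Agent.Spor.SUSix (V6 code code_lt vecOf_code)
open Cfsg.Agent.Spor.SpFour (F4)
open Cfsg.Agent.Spor.CC

attribute [local irreducible] KerB phiA phiB CmpS Cmp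

/-- exclusive or of small indices -/
def fx (a b : Fin 16) : Fin 16 := ⟨Nat.xor a.val b.val, Nat.xor_lt_two_pow (n := 4) a.2 b.2⟩

theorem fx_facts : ∀ a b : Fin 16, fx a a = 0 ∧ fx a b = fx b a ∧ fx 0 a = a ∧ fx a 0 = a ∧
    (a ≠ b → fx a b ≠ 0) ∧ (fx a b).val = a.val ^^^ b.val := by
  decide +kernel

namespace Syl

theorem E_exists (b : Fin 16) : ∃ p ∈ ES, sigL p = Chk.eL b.val := by
  have h := Chk.elem_ok
  simp only [Chk.elemOK, Bool.and_eq_true, List.all_eq_true, List.mem_range, Bool.or_eq_true, List.any_eq_true] at h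
  by_cases hb : b.val = 0
  · refine ⟨1, one_mem _, ?_⟩
    rw [sig_one, hb]
    exact eq_of_eqL (by decide +kernel)
  · obtain ⟨-, i, hi, he⟩ := (h.1.2 b.val b.2).resolve_left fun e => hb (Nat.eq_of_beq_eq_true e)
    obtain ⟨p, hp, e⟩ := ES_real i hi
    exact ⟨p, hp, e.trans (eq_of_eqL he).symm⟩

/-- the sixteen elements of the chosen subgroup -/
noncomputable def E (b : Fin 16) : PV := (E_exists b).choose

theorem E_mem (b : Fin 16) : E b ∈ ES := (E_exists b).choose_spec.1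

theorem sig_E (b : Fin 16) : sigL (E b) = Chk.eL b.val := (E_exists b).choose_spec.2

theorem lin_E (b : Fin 16) : Lin (E b) := lin_Gam (TS_le (E_mem b).1)

theorem E_mul (a b : Fin 16) : E a * E b = E (fx a b) := by
  have h := Chk.elem_ok
  simp only [Chk.elemOK, Bool.and_eq_true, List.all_eq_true, List.mem_range] at h
  refine sig_inj (lin_Gam (TS_le (mul_mem (E_mem a).1 (E_mem b).1))) (lin_E _) ?_
  rw [sig_mul (lin_E a), sig_E, sig_E, sig_E]
  exact eq_of_eqL (h.1.1 a.val a.2 b.val b.2)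

theorem E_zero : E 0 = 1 := sig_inj (lin_E _) (lin_Gam (one_mem _)) (by
  rw [sig_E, sig_one]; exact eq_of_eqL (by decide +kernel))

theorem E_inj {a b : Fin 16} (h : E a = E b) : a = b := by
  by_contra hne
  have h' := Chk.elem_ok
  simp only [Chk.elemOK, Bool.and_eq_true, List.all_eq_true, List.mem_range, Bool.or_eq_true,
    Bool.not_eq_true'] at h'
  have h1 : E (fx a b) = 1 := by rw [← E_mul, h, E_mul, (fx_facts b b).1, E_zero]
  obtain ⟨h2, -⟩ := (h'.1.2 (fx a b).val (fx a b).2).resolve_left fun e =>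
    (fx_facts a b).2.2.2.2.1 hne (Fin.ext (Nat.eq_of_beq_eq_true e))
  rw [← sig_E, h1, sig_one, eqL_of_eq rfl] at h2
  simp at h2

theorem E_surj {e : PV} (he : e ∈ ES) : ∃ b, E b = e := by
  rcases he.2 with rfl | ⟨i, hi, hs⟩
  · exact ⟨0, E_zero⟩
  have h := Chk.elem_ok
  simp only [Chk.elemOK, Bool.and_eq_true, List.all_eq_true, List.mem_range, List.any_eq_true] at h
  obtain ⟨a, ha, he'⟩ := h.2 i hi
  exact ⟨⟨a, ha⟩, sig_inj (lin_E _) (lin_Gam (TS_le he.1)) ((sig_E _).trans ((eq_of_eqL he').trans hs.symm))⟩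

theorem code_E (b : Fin 16) (v : V6) : code (E b v) = Chk.app (Chk.eL b.val) (code v) := by
  rw [code_apply (lin_E b), sig_E]

/-- the fixed vectors numbered -/
def U (i : Fin 64) : V6 := SUSix.vecOf (Chk.uC i.val)

theorem code_U (i : Fin 64) : code (U i) = Chk.uC i.val := by
  have key : ∀ i : Fin 64, Chk.uC i.val < 4096 := by decide +kernel
  exact code_vecOf _ (key i)

theorem U_mem (i : Fin 64) : U i ∈ FS := by
  have h := Chk.vec_ok
  simp only [Chk.vecOK, Bool.and_eq_true, List.all_eq_true, List.mem_range, List.any_eq_true] at h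
  exact (FS_facts.1 _).2 (by rw [code_U]; exact h.1.2 i.val i.2)

theorem U_inj : Function.Injective U := fun a b h => by
  have key : ∀ a b : Fin 64, Chk.uC a.val = Chk.uC b.val → a = b := by decide +kernel
  exact key a b (by rw [← code_U, ← code_U, h])

theorem U_surj {u : V6} (hu : u ∈ FS) : ∃ i, U i = u := by
  have h := Chk.vec_ok
  simp only [Chk.vecOK, Bool.and_eq_true, List.all_eq_true, List.mem_range, List.any_eq_true] at h
  obtain ⟨i, hi, e⟩ := h.1.1 _ (List.contains_iff.1 ((FS_facts.1 u).1 hu))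
  exact ⟨⟨i, hi⟩, code_inj ((code_U _).trans (Nat.eq_of_beq_eq_true e))⟩

theorem E_fix (b : Fin 16) {u : V6} (hu : u ∈ FS) : E b u = u := hu _ (E_mem b)

/-- stabilising the fixed vectors and the chosen subgroup -/
structure Good (p : PV) : Prop where
  kp : p ∈ Kp
  fs : ∀ u ∈ FS, p u ∈ FS
  es : ∀ a : Fin 16, ∃ b : Fin 16, p * E a = E b * p

theorem Good.one : Good 1 :=
  ⟨one_mem _, fun _ h => h, fun a => ⟨a, by rw [one_mul, mul_one]⟩⟩

theorem Good.mul {p q : PV} (hp : Good p) (hq : Good q) : Good (p * q) :=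
  ⟨mul_mem hp.kp hq.kp, fun u hu => hp.fs _ (hq.fs u hu), fun a => by
    obtain ⟨b, hb⟩ := hq.es a
    obtain ⟨c, hc⟩ := hp.es b
    exact ⟨c, by rw [mul_assoc, hb, ← mul_assoc, hc, mul_assoc]⟩⟩

/-- generators of the stabiliser -/
def gP (s : ℕ) : PV := wordP (Dat.stabW.getD s [])

theorem gP_spec {s : ℕ} (hs : s < 3) : Good (gP s) ∧ sigL (gP s) = Chk.gS s := by
  have h := Chk.stab_ok
  simp only [Chk.stabOK, Chk.cjOK, Bool.and_eq_true, List.all_eq_true, List.mem_range, List.any_eq_true] at h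
  obtain ⟨⟨hw, hE⟩, hF⟩ := h s hs
  have hw' : ∀ x ∈ Dat.stabW.getD s [], x < 6 := fun x hx => Nat.le_of_ble_eq_true (hw x hx)
  have hk := wordP_Kp _ hw'
  have hsig := (wordP_spec (Dat.stabW.getD s []) fun x hx => by have := hw' x hx; omega).2
  unfold gP
  refine ⟨⟨hk, fun u hu => (FS_facts.1 _).2 ?_, fun a => ?_⟩, hsig⟩
  · rw [code_apply (lin_Gam (Kp_le hk)), hsig]
    exact hF _ (List.contains_iff.1 ((FS_facts.1 u).1 hu))
  · obtain ⟨b, hb, e⟩ := hE a.val a.2
    refine ⟨⟨b, hb⟩, sig_inj (lin_Gam (mul_mem (Kp_le hk) (TS_le (E_mem a).1)))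
      (lin_Gam (mul_mem (TS_le (E_mem _).1) (Kp_le hk))) ?_⟩
    rw [sig_mul (lin_Gam (Kp_le hk)), sig_mul (lin_E _), sig_E, sig_E, hsig]
    exact eq_of_eqL e

/-- value of a word in the generators of the stabiliser -/
def wP (w : List ℕ) : PV := (w.map gP).prod

theorem wP_spec : ∀ w : List ℕ, (∀ s ∈ w, s < 3) → Good (wP w) ∧ sigL (wP w) = Chk.wS w
  | [], _ => ⟨Good.one, sig_one⟩
  | s :: w, h => by
    obtain ⟨h1, h2⟩ := gP_spec (h s (by simp))
    obtain ⟨h3, h4⟩ := wP_spec w fun x hx => h x (by simp [hx])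
    refine ⟨h1.mul h3, ?_⟩
    show sigL (gP s * wP w) = _
    rw [sig_mul (lin_Gam (Kp_le h1.kp)), h2, h4]
    rfl

theorem conj_of_cjOK {L : List ℕ} {p : PV} (hp : Good p) (hs : sigL p = L) {a b : Fin 16}
    (h : Chk.cjOK L a.val b.val = true) : p * E a = E b * p := by
  refine sig_inj (lin_Gam (mul_mem (Kp_le hp.kp) (TS_le (E_mem a).1)))
    (lin_Gam (mul_mem (TS_le (E_mem b).1) (Kp_le hp.kp))) ?_
  rw [sig_mul (lin_Gam (Kp_le hp.kp)), sig_mul (lin_E _), sig_E, sig_E, hs]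
  exact eq_of_eqL h

theorem exists_toE (b : Fin 16) (hb : b ≠ 0) :
    ∃ p, Good p ∧ sigL p = Chk.wS (Dat.toE.getD b.val []) ∧ p * E 1 = E b * p := by
  have h := Chk.toE_ok
  simp only [Chk.toEOK, Bool.and_eq_true, List.all_eq_true, List.mem_range, Bool.or_eq_true] at h
  obtain ⟨hw, hc⟩ := (h b.val b.2).resolve_left fun e => hb (Fin.ext (Nat.eq_of_beq_eq_true e))
  obtain ⟨hg, hs⟩ := wP_spec (Dat.toE.getD b.val []) fun x hx => Nat.le_of_ble_eq_true (hw x hx)
  exact ⟨_, hg, hs, conj_of_cjOK hg hs hc⟩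

theorem exists_toP {a b : Fin 16} (ha : a ≠ 0) (hb : b ≠ 0) (hab : a ≠ b) :
    ∃ p, Good p ∧ ∃ r : Fin 16, r.val = Chk.pRep (Chk.pO a.val b.val) ∧ p * E 1 = E a * p ∧
      p * E r = E b * p := by
  have h := Chk.toP_ok
  simp only [Chk.toPOK, Bool.and_eq_true, List.all_eq_true, List.mem_range, Bool.or_eq_true] at h
  obtain ⟨⟨hw, hc⟩, hc'⟩ := (h a.val a.2 b.val b.2).resolve_left fun e => by
    rcases e with (e | e) | e
    · exact ha (Fin.ext (Nat.eq_of_beq_eq_true e))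
    · exact hb (Fin.ext (Nat.eq_of_beq_eq_true e))
    · exact hab (Fin.ext (Nat.eq_of_beq_eq_true e))
  obtain ⟨hg, hs⟩ := wP_spec (Dat.toP.getD (Nat.add (Nat.mul 16 a.val) b.val) []) fun x hx =>
    Nat.le_of_ble_eq_true (hw x hx)
  have key : ∀ o, Chk.pRep o < 16 := by decide +kernel
  exact ⟨_, hg, ⟨_, key _⟩, rfl, conj_of_cjOK (a := 1) hg hs hc, conj_of_cjOK (a := ⟨_, key _⟩) hg hs hc'⟩

end Syl

universe u

variable {G : Type u} [Group G] [Finite G] {z : G} {Q N M : Subgroup G}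
variable {f : Frame z Q M} {x : Subgroup.centralizer ({z} : Set G)} {g : G}

/-- nontrivial and not conjugate to the central involution -/
def iT (z r : G) : Prop := r ≠ 1 ∧ ¬ IsConj z r

theorem iT_conj (z r h : G) : iT z (h * r * h⁻¹) ↔ iT z r := by
  have hc : IsConj r (h * r * h⁻¹) := isConj_iff.2 ⟨h, rfl⟩
  exact and_congr (not_congr conj_eq_one_iff) (not_congr ⟨fun e => e.trans hc.symm, fun e => e.trans hc⟩)

variable (S : Setup z Q N M) (l : Line f x g)

include S

/-- the centraliser has order 2^21 * 76545 -/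
theorem Setup.card_C (f : Frame z Q M) : Nat.card (Subgroup.centralizer ({z} : Set G)) = 2 ^ 21 * 76545 := by
  have hker : Nat.card f.π.ker = 2 ^ 13 := by
    rw [← S.hyp.cardQ]
    refine Nat.card_congr
      { toFun := fun c => ⟨((c.1 : Subgroup.centralizer ({z} : Set G)) : G), (f.ker _).1 (MonoidHom.mem_ker.1 c.2)⟩
        invFun := fun q => ⟨⟨q.1, Subgroup.mem_centralizer_singleton_iff.2 (S.hyp.qz q.2)⟩,
          MonoidHom.mem_ker.2 ((f.ker _).2 q.2)⟩
        left_inv := fun _ => rfl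
        right_inv := fun _ => rfl }
  rw [← Subgroup.card_top, card_split f ⊤, top_inf_eq, hker, ← MonoidHom.range_eq_map,
    show f.π.range = Gam from Subgroup.ext fun p => (S.range_pi f p).symm, card_Gam]
  norm_num

/-- the chosen largest elementary abelian subgroup -/
theorem Line.A0_exists (l : Line f x g) : ∃ A : Subgroup G, Cfsg.IsElementaryAbelian 2 A ∧ Nat.card A = 2 ^ 11 ∧
    ∀ r, r ∈ A ↔ ∃ a ∈ AQset f, ∃ c ∈ AH f x, r = a * (c : G) := by
  obtain ⟨A0, hA0e, hA0c, -, -, hshape, -⟩ := l.exists_max S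
  refine ⟨A0.map (Subgroup.centralizer ({z} : Set G)).subtype, elem_map _ hA0e, by
    rw [Subgroup.card_map_of_injective (Subgroup.subtype_injective _), hA0c], fun r => ⟨?_, ?_⟩⟩
  · rintro ⟨r0, hr0, rfl⟩
    obtain ⟨a, ha, c, hc, rfl⟩ := (hshape r0).1 hr0
    exact ⟨a, ha, c, hc, rfl⟩
  · rintro ⟨a, ha, c, hc, rfl⟩
    exact ⟨⟨a, Subgroup.mem_centralizer_singleton_iff.2 (S.hyp.qz ha.1)⟩ * c,
      (hshape _).2 ⟨_, ha, c, hc, rfl⟩, rfl⟩

theorem Line.lift_pair (l : Line f x g) {c c' : Subgroup.centralizer ({z} : Set G)} (hc : Commute c x)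
    (hc' : Commute c' x) (h : f.π c = f.π c') : ∃ s, (c' : G) = (c : G) * zp z s := by
  have h1 : ((c⁻¹ * c' : Subgroup.centralizer ({z} : Set G)) : G) ∈ Q :=
    (f.ker _).1 (by rw [map_mul, map_inv, h, inv_mul_cancel])
  rcases l.xel.ker S f h1 (congrArg Subtype.val (hc.inv_left.mul_left hc').eq) with e | e
  · refine ⟨false, ?_⟩
    rw [zp_false, mul_one]
    exact (inv_mul_eq_one.1 e).symm
  · exact ⟨true, eq_mul_of_inv_mul_eq e⟩

theorem Line.exists_lift (l : Line f x g) (b : Fin 16) : ∃ c ∈ AH f x, f.π c = Syl.E b := by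
  obtain ⟨c, hc, hπ⟩ := l.xel.lift S f (Syl.ES_Kp (Syl.E_mem b))
  exact ⟨c, ⟨mem_Kx.2 hc, show f.π c ∈ Syl.ES from hπ ▸ Syl.E_mem b⟩, hπ⟩

theorem Line.mem_AQset (l : Line f x g) {u : V6} (hu : u ∈ Syl.FS) (s : Bool) :
    sec f x u * zp z s ∈ AQset f := by
  obtain ⟨h1, h2, -⟩ := l.xel.sec_spec S u
  exact ⟨mul_mem h1 (S.zp_mem s), by rw [f.vec_mul _ h1 _ (S.zp_mem s), f.vec_zp S, add_zero, h2]; exact hu⟩

/-- moving by the section -/
theorem Line.twist (l : Line f x g) {c : Subgroup.centralizer ({z} : Set G)} (hc : Commute c x) (u v : V6)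
    (s : Bool) : sec f x v * (sec f x u * zp z s * (c : G)) * (sec f x v)⁻¹ =
      sec f x (u + (v + f.π c v)) *
        zp z (xor s (xor (tB u v) (xor (xor (bB v (f.π c v)) (qB (f.π c v))) (bB u (v + f.π c v))))) * (c : G) := by
  obtain ⟨hv, vv, -⟩ := l.xel.sec_spec S v
  obtain ⟨hu, -, -⟩ := l.xel.sec_spec S u
  have hm := l.xel.sec_move S u hv
  rw [vv] at hm
  set γ := xor (bB v (f.π c v)) (qB (f.π c v))
  set w := v + f.π c v
  have hzs : Commute (sec f x v) (zp z s) := S.zp_commQ s hv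
  calc sec f x v * (sec f x u * zp z s * (c : G)) * (sec f x v)⁻¹
      = (sec f x v * sec f x u * (sec f x v)⁻¹) * (sec f x v * zp z s * (sec f x v)⁻¹) *
          (sec f x v * (c : G) * (sec f x v)⁻¹) := by group
    _ = (sec f x u * zp z (tB u v)) * zp z s * (sec f x w * zp z γ * (c : G)) := by
      rw [hm, hzs.eq, mul_inv_cancel_right, l.xel.sec_twist S hc]
    _ = sec f x u * (zp z (tB u v) * zp z s * sec f x w) * (zp z γ * (c : G)) := by group
    _ = sec f x u * (sec f x w * (zp z (tB u v) * zp z s)) * (zp z γ * (c : G)) := by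
      rw [S.zp_mul, (S.zp_commQ _ (l.xel.sec_spec S w).1).eq]
    _ = (sec f x u * sec f x w) * (zp z (tB u v) * zp z s * zp z γ) * (c : G) := by group
    _ = sec f x (u + w) * zp z (bB u w) * zp z (xor (xor (tB u v) s) γ) * (c : G) := by
      rw [l.xel.sec_mul S, S.zp_mul, S.zp_mul]
    _ = _ := by
      rw [mul_assoc (sec f x (u + w)), S.zp_mul]
      congr 2
      cases s <;> cases γ <;> cases tB u v <;> cases bB u w <;> rfl

theorem Line.conj_coord (l : Line f x g) {P c : Subgroup.centralizer ({z} : Set G)} (hP : Commute P x) (u : V6)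
    (s : Bool) : (P : G) * (sec f x u * zp z s * (c : G)) * (P : G)⁻¹ =
      sec f x (f.π P u) * zp z s * ((P * c * P⁻¹ : Subgroup.centralizer ({z} : Set G)) : G) := by
  have hPz : Commute (P : G) z := Subgroup.mem_centralizer_singleton_iff.1 P.2
  calc (P : G) * (sec f x u * zp z s * (c : G)) * (P : G)⁻¹
      = ((P : G) * sec f x u * (P : G)⁻¹) * ((P : G) * zp z s * (P : G)⁻¹) * ((P : G) * (c : G) * (P : G)⁻¹) := by
        group
    _ = _ := by rw [l.xel.sec_conj S hP, (S.zp_comm s hPz).eq, mul_inv_cancel_right]; rfl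

/-- lifts of stabilising elements keep the lifts -/
theorem Line.good_AH (l : Line f x g) {P c : Subgroup.centralizer ({z} : Set G)} (hP : Commute P x)
    (hg : Syl.Good (f.π P)) (hc : c ∈ AH f x) : P * c * P⁻¹ ∈ AH f x := by
  refine ⟨mem_Kx.2 ((hP.mul_left (mem_Kx.1 hc.1)).mul_left hP.inv_left), ?_⟩
  show f.π (P * c * P⁻¹) ∈ Syl.ES
  obtain ⟨a, ha⟩ := Syl.E_surj hc.2
  obtain ⟨b, hb⟩ := hg.es a
  rw [map_mul, map_mul, map_inv, show f.π c = Syl.E a from ha.symm, hb, mul_inv_cancel_right]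
  exact Syl.E_mem b

end Cfsg.Agent.Spor.LFT
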