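import Cfsg.Agent.Lib.Spor.LFTSylowDefs
import Cfsg.Agent.Lib.Spor.LFTFusionChecks
import Cfsg.Agent.Lib.Spor.LFTThompData

/-!
Checks for the normaliser of the largest elementary abelian subgroup in large Fischer type.
-/

set_option autoImplicit false
set_option maxRecDepth 100000

namespace Cfsg.Agent.Spor.LFT.Chk

open Cfsg.Agent.Spor.CC

/-- parity of a vector -/
def qT (v : ℕ) : Bool := Nat.beq (wt v % 2) 1

/-- the commutator form on codes -/
def tT (u v : ℕ) : Bool := xor (qT (Nat.xor u v)) (xor (qT u) (qT v))

/-- the cocycle on codes -/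
def bT (u v : ℕ) : Bool :=
  xor (tT (wPow 1 u) v) (xor (tT (wPow 2 u) v) (tT (wPow 2 u) (wPow 1 v)))

/-- selected unit -/
def selB (b i : ℕ) : List ℕ := bif tb b i then inT (Dat.maxB.getD i 0) else unitL

/-- the sixteen elements of the chosen subgroup -/
def eL (b : ℕ) : List ℕ := cmpL (selB b 0) (cmpL (selB b 1) (cmpL (selB b 2) (selB b 3)))

/-- the sixty-four fixed vectors -/
def uC : ℕ → ℕ := combA Dat.maxFB

/-- a generator of the stabiliser -/
def gS (s : ℕ) : List ℕ := wordL (Dat.stabW.getD s [])

/-- a word in the generators of the stabiliser -/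
def wS (w : List ℕ) : List ℕ := w.foldr (fun s r => cmpL (gS s) r) unitL

/-- conjugation carries one element to another -/
def cjOK (L : List ℕ) (a b : ℕ) : Bool := eqL (cmpL L (eL a)) (cmpL (eL b) L)

/-- the sixteen elements are the chosen subgroup with exclusive or as product -/
def elemOK : Bool :=
  ((List.range 16).all fun a => (List.range 16).all fun b => eqL (cmpL (eL a) (eL b)) (eL (Nat.xor a b))) &&
    ((List.range 16).all fun a => Nat.beq a 0 || (!eqL (eL a) unitL && Dat.maxI.any fun i => eqL (eL a) (inT i))) &&
    Dat.maxI.all fun i => (List.range 16).any fun a => eqL (eL a) (inT i)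

/-- the sixty-four vectors are the fixed ones -/
def vecOK : Bool :=
  (Dat.maxF.all fun v => (List.range 64).any fun i => Nat.beq (uC i) v) &&
    ((List.range 64).all fun i => Dat.maxF.contains (uC i)) && Nat.beq Dat.maxF.length 64

/-- the generators stabilise -/
def stabOK : Bool :=
  (List.range 3).all fun s => ((Dat.stabW.getD s []).all fun x => Nat.blt x 6) &&
    ((List.range 16).all fun a => (List.range 16).any fun b => cjOK (gS s) a b) &&
    Dat.maxF.all fun v => Dat.maxF.contains (app (gS s) v)

/-- transitive on the involutions -/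
def toEOK : Bool :=
  (List.range 16).all fun b => Nat.beq b 0 ||
    (((Dat.toE.getD b []).all fun x => Nat.blt x 3) && cjOK (wS (Dat.toE.getD b [])) 1 b)

/-- number of the orbit of a pair -/
def pO (a b : ℕ) : Bool := tb Dat.pairO (Nat.add (Nat.mul 16 a) b)

/-- second member of the representing pair -/
def pRep (o : Bool) : ℕ := Dat.pairR.getD (bif o then 1 else 0) 0

/-- transitive on each kind of pair -/
def toPOK : Bool :=
  (List.range 16).all fun a => (List.range 16).all fun b => Nat.beq a 0 || Nat.beq b 0 || Nat.beq a b ||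
    (let W := Dat.toP.getD (Nat.add (Nat.mul 16 a) b) []
     (W.all fun x => Nat.blt x 3) && cjOK (wS W) 1 a && cjOK (wS W) (pRep (pO a b)) b)

/-- twisting over the first involution -/
def twist (v : ℕ) : ℕ := Nat.xor v (app (eL 1) v)

/-- sign of twisting -/
def twistS (u v : ℕ) : Bool :=
  xor (tT u v) (xor (xor (bT v (app (eL 1) v)) (qT (app (eL 1) v))) (bT u (twist v)))

/-- every fixed vector is a twist of one of four -/
def coverOK : Bool :=
  ((List.range 64).all fun i =>
    let n := Dat.covB.getD i 0
    Nat.blt (n / 4) 4096 && Nat.beq (uC i)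
      (bif Nat.beq (n % 4) 0 then twist (n / 4) else Nat.xor (wPow (n % 4 - 1) 5) (twist (n / 4)))) &&
    Nat.blt Dat.covV 4096 && Nat.beq (twist Dat.covV) 0 && twistS 5 Dat.covV &&
    Dat.maxF.contains 5 &&
    Nat.beq ((List.range 64).filter fun i => Nat.beq (Dat.covB.getD i 0 % 4) 0).length 16

/-- an element of order five -/
def fiveOK : Bool :=
  let h := wS Dat.five
  (Dat.five.all fun x => Nat.blt x 3) && !eqL h unitL &&
    eqL (cmpL h (cmpL h (cmpL h (cmpL h h)))) unitL

/-- a subgroup of order 27 -/
def subOK27 : Bool :=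
  let H := Dat.sub27.map wS
  Nat.beq H.length 27 && (Dat.sub27.all fun w => w.all fun x => Nat.blt x 3) &&
    ((List.range 27).all fun i => (List.range 27).all fun j =>
      (Nat.beq i j || !eqL (H.getD i []) (H.getD j [])) &&
        (List.range 27).any fun k => eqL (cmpL (H.getD i []) (H.getD j [])) (H.getD k []))

/-- inside the Sylow subgroup only the chosen subgroup fixes all fixed vectors -/
def fixerOK : Bool :=
  (List.range 256).all fun a =>
    !(Dat.maxFB.all fun v => fixedL (elT a) v) || (List.range 16).any fun b => eqL (eL b) (elT a)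

/-- product in coordinates -/
def mulR (o : Bool → Bool) (n m : ℕ) : ℕ :=
  let a := n / 128
  let b := m / 128
  let i := n / 2 % 64
  let j := m / 2 % 64
  let s := xor (xor (Nat.beq (n % 2) 1) (Nat.beq (m % 2) 1))
    (xor (bT (uC i) (uC j))
      (bif Nat.beq a 0 || Nat.beq b 0 || Nat.beq a b then false else o (pO a b)))
  Nat.add (bif s then 1 else 0) (Nat.add (Nat.mul 2 (Nat.xor i j)) (Nat.mul 128 (Nat.xor a b)))

/-- class in coordinates -/
def tR (n : ℕ) : Bool := tb Dat.tRaw n

/-- classes in the fixed vectors -/
def baseOK : Bool :=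
  (List.range 64).all fun i =>
    (tR (Nat.mul 2 i) == (!Nat.beq i 0 && isA (uC i))) &&
      (tR (Nat.add (Nat.mul 2 i) 1) == (!Nat.beq i 0 && isA (uC i)))

/-- classes over the involutions -/
def classOK : Bool :=
  (List.range 16).all fun b => Nat.beq b 0 ||
    (List.range 64).all fun i =>
      let n := Dat.covB.getD i 0
      let W := wS (Dat.toE.getD b [])
      let v := app W (n / 4)
      let u' := app W (uC i)
      let s := xor (bT v (app (eL b) v)) (qT (app (eL b) v))
      (List.range 64).all fun j => !Nat.beq (uC j) u' ||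
        (bif Nat.beq (n % 4) 0 then
          Nat.beq u' (Nat.xor v (app (eL b) v)) &&
            (tR (Nat.add (bif s then 1 else 0) (Nat.add (Nat.mul 2 j) (Nat.mul 128 b))) &&
            !tR (Nat.add (bif s then 0 else 1) (Nat.add (Nat.mul 2 j) (Nat.mul 128 b))))
        else
          !tR (Nat.add (Nat.mul 2 j) (Nat.mul 128 b)) &&
            !tR (Nat.add 1 (Nat.add (Nat.mul 2 j) (Nat.mul 128 b))))

/-- two adjacent members -/
def cnt (o : Bool → Bool) (s : ℕ) : ℕ := ((List.range 2048).filter fun n => tR n && tR (mulR o n s)).length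

/-- the other constants are impossible -/
def constOK : Bool :=
  [(false, false), (false, true), (true, false), (true, true)].all fun p =>
    let o := fun c : Bool => bif c then p.2 else p.1
    !tR Dat.witS && Nat.beq (cnt o 1) 36 && ((p.1 && !p.2) || !Nat.beq (cnt o Dat.witS) 36)

/-- the constants -/
def oT (c : Bool) : Bool := !c

/-- change of basis -/
def cv (n : ℕ) : ℕ := fld Dat.convT 11 n

/-- change of basis turns the product into exclusive or -/
def convOK : Bool :=
  Nat.beq (cv 0) 0 &&
    (List.range 2048).all fun n => Nat.blt (cv n) 2048 &&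
      (Nat.beq n 0 || !Nat.beq (cv n) 0) && (tb Dat.tXor n == tR (cv n)) &&
      (List.range 11).all fun i => Nat.beq (cv (Nat.xor n (Nat.pow 2 i))) (mulR oT (cv n) (cv (Nat.pow 2 i)))

/-- the number of members -/
def pairOK : Bool := Nat.beq ((List.range 2048).filter fun t => tb Dat.tXor t).length 276

end Cfsg.Agent.Spor.LFT.Chk
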