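import Cfsg.Agent.Lib.Spor.LFTThompChecks

/-!
Kernel checks for the normaliser of the largest elementary abelian subgroup in large Fischer type (C).
-/

set_option autoImplicit false
set_option maxRecDepth 100000

namespace Cfsg.Agent.Spor.LFT.Chk

theorem conv_ok : convOK = true := by decide +kernel

theorem pair_ok : pairOK = true := by decide +kernel

end Cfsg.Agent.Spor.LFT.Chk
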