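import Cfsg.Agent.Lib.Spor.LFTThompBase

/-!
Large Fischer type: the number of members of each class in the largest elementary abelian subgroup.
-/

set_option autoImplicit false
set_option maxRecDepth 100000
set_option linter.unusedSectionVars false

namespace Cfsg.Agent.Spor.LFT

open Cfsg.Agent.Spor.SUSix (V6 code code_lt vecOf_code)
open Cfsg.Agent.Spor.SpFour (F4)
open Cfsg.Agent.Spor.CC

attribute [local irreducible] KerB phiA phiB CmpS Cmp

universe u

variable {G : Type u} [Group G] [Finite G] {z : G} {Q N M : Subgroup G}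
variable {f : Frame z Q M} {x : Subgroup.centralizer ({z} : Set G)} {g : G}

/-- one for members of the class -/
noncomputable def ind (z r : G) : ℕ :=
  haveI := Classical.propDecidable (iT z r)
  if iT z r then 1 else 0

theorem ind_conj (z r h : G) : ind z (h * r * h⁻¹) = ind z r := by
  classical
  simp only [ind, iT_conj z r h]

theorem ind_pos {z r : G} (h : iT z r) : ind z r = 1 := by
  classical
  simp [ind, h]

theorem ind_neg {z r : G} (h : ¬ iT z r) : ind z r = 0 := by
  classical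
  simp [ind, h]

theorem ind_le (z r : G) : ind z r ≤ 1 := by
  by_cases h : iT z r
  · rw [ind_pos h]
  · rw [ind_neg h]; exact zero_le_one

/-- members of the class among two lifts over a fixed vector -/
noncomputable def pr (f : Frame z Q M) (x : Subgroup.centralizer ({z} : Set G)) (c : G) (u : V6) : ℕ :=
  ind z (sec f x u * zp z false * c) + ind z (sec f x u * zp z true * c)

/-- the vector with code 5 -/
def v5 : V6 := SUSix.vecOf 5

theorem v5_facts : code v5 = 5 ∧ v5 ∈ Syl.FS := by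
  have h := Chk.cover_ok
  simp only [Chk.coverOK, Bool.and_eq_true] at h
  have h5 : code v5 = 5 := code_vecOf _ (by norm_num)
  exact ⟨h5, (Syl.FS_facts.1 _).2 (h5 ▸ h.1.2)⟩

variable (S : Setup z Q N M) (l : Line f x g)

include S

theorem Line.Q_class (l : Line f x g) {a : G} (ha : a ∈ Q) (h2 : a * a = 1) (h1 : a ≠ 1) (hz : a ≠ z) :
    iT z a ↔ PA (f.vec a) := by
  refine ⟨fun h => ?_, fun h => ⟨h1, S.t_not_conj f ha h hz⟩⟩
  by_contra hA
  obtain ⟨p, hp, hpv⟩ := (Spor.LFT.trans (f.isI S ha h2 h1 hz)).2 hA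
  obtain ⟨c, hc⟩ := f.surj p hp
  obtain ⟨c', hc', -⟩ := f.exact_conj S l.mem (S.xtc g).ne l.ne ha c (by rw [hc, l.vec, hpv])
  exact h.2 (IsConj.trans (isConj_iff.2 ⟨g, rfl⟩) (isConj_iff.2 ⟨_, hc'⟩))

theorem Line.pr_lift (l : Line f x g) (c : Subgroup.centralizer ({z} : Set G)) (s : Bool) (u : V6) :
    pr f x ((c : G) * zp z s) u = pr f x (c : G) u := by
  have hcz : Commute (c : G) z := Subgroup.mem_centralizer_singleton_iff.1 c.2
  have e : ∀ t, sec f x u * zp z t * ((c : G) * zp z s) = sec f x u * zp z (xor t s) * (c : G) := fun t => by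
    rw [(S.zp_comm s hcz).eq, ← S.zp_mul]; group
  rw [pr, pr, e, e]
  cases s
  · rfl
  · exact add_comm _ _

theorem Line.pr_conj (l : Line f x g) {P : Subgroup.centralizer ({z} : Set G)} (hP : Commute P x)
    (c : Subgroup.centralizer ({z} : Set G)) (u : V6) :
    pr f x ((P * c * P⁻¹ : Subgroup.centralizer ({z} : Set G)) : G) (f.π P u) = pr f x (c : G) u := by
  simp only [pr, ← l.conj_coord S hP, ind_conj]

theorem Line.pr_twist (l : Line f x g) {c : Subgroup.centralizer ({z} : Set G)} (hc : Commute c x) (u v : V6) :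
    pr f x (c : G) (u + (v + f.π c v)) = pr f x (c : G) u := by
  have e := l.twist S hc u v
  set γ := xor (tB u v) (xor (xor (bB v (f.π c v)) (qB (f.π c v))) (bB u (v + f.π c v)))
  have h : ∀ s, ind z (sec f x u * zp z s * (c : G)) =
      ind z (sec f x (u + (v + f.π c v)) * zp z (xor s γ) * (c : G)) := fun s => by rw [← e s, ind_conj]
  rw [pr, pr, h false, h true]
  generalize γ = t
  cases t
  · rfl
  · exact add_comm _ _

theorem Line.pr_scal (l : Line f x g) {c : Subgroup.centralizer ({z} : Set G)} (hc : Commute c x) (u : V6) :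
    ∀ k : ℕ, pr f x (c : G) (F4.w ^ k • u) = pr f x (c : G) u
  | 0 => by rw [pow_zero, one_smul]
  | k + 1 => by
    have h := l.pr_conj S (Commute.refl x) c (F4.w ^ k • u)
    rw [l.xel.img, show x * c * x⁻¹ = c by rw [← hc.eq, mul_inv_cancel_right]] at h
    rw [pow_succ', mul_smul, h, l.pr_scal hc u k]

/-- the four possibilities over the first involution -/
theorem Line.pr_cover (l : Line f x g) {c : Subgroup.centralizer ({z} : Set G)} (hc : Commute c x)
    (hπ : f.π c = Syl.E 1) (i : Fin 64) : pr f x (c : G) (Syl.U i) =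
      if Dat.covB.getD i.val 0 % 4 = 0 then pr f x (c : G) 0 else pr f x (c : G) v5 := by
  have h := Chk.cover_ok
  simp only [Chk.coverOK, Bool.and_eq_true, List.all_eq_true, List.mem_range] at h
  obtain ⟨hlt, heq⟩ := h.1.1.1.1.1 i.val i.2
  set n := Dat.covB.getD i.val 0 with hn
  set v := SUSix.vecOf (n / 4) with hv
  have hcv : code v = n / 4 := code_vecOf _ (Nat.le_of_ble_eq_true hlt)
  have htw : code (v + f.π c v) = Chk.twist (n / 4) := by
    rw [code_add, hπ, Syl.code_E, hcv]; rfl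
  by_cases hk : n % 4 = 0
  · rw [hk] at heq
    have e : Syl.U i = 0 + (v + f.π c v) := code_inj (by
      rw [zero_add, htw, Syl.code_U]
      exact Nat.eq_of_beq_eq_true heq)
    rw [if_pos hk, e, l.pr_twist S hc]
  · rw [show Nat.beq (n % 4) 0 = false from Bool.eq_false_iff.2 fun e => hk (Nat.eq_of_beq_eq_true e), cond_false] at heq
    have e : Syl.U i = F4.w ^ (n % 4 - 1) • v5 + (v + f.π c v) := code_inj (by
      rw [Syl.code_U, code_add, htw, Syl.code_w_pow, v5_facts.1]
      exact Nat.eq_of_beq_eq_true heq)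
    rw [if_neg hk, e, l.pr_twist S hc, l.pr_scal S hc]

theorem Line.pr_even (l : Line f x g) {c : Subgroup.centralizer ({z} : Set G)} (hc : Commute c x)
    (hπ : f.π c = Syl.E 1) : pr f x (c : G) v5 = 0 ∨ pr f x (c : G) v5 = 2 := by
  have h := Chk.cover_ok
  simp only [Chk.coverOK, Bool.and_eq_true] at h
  obtain ⟨⟨⟨⟨⟨-, hlt⟩, h0⟩, hs⟩, -⟩, -⟩ := h
  set v := SUSix.vecOf Dat.covV
  have hcv : code v = Dat.covV := code_vecOf _ (Nat.le_of_ble_eq_true hlt)
  have hev : code (f.π c v) = Chk.app (Chk.eL 1) Dat.covV := by rw [hπ, Syl.code_E, hcv]; rfl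
  have hw : v + f.π c v = 0 := code_inj (by
    rw [code_add, hev, hcv, show code (0 : V6) = 0 by decide +kernel]
    exact Nat.eq_of_beq_eq_true h0)
  have hg : xor (tB v5 v) (xor (xor (bB v (f.π c v)) (qB (f.π c v))) (bB v5 (v + f.π c v))) = true := by
    simp only [tB, bB, qB, code_add, hev, hcv, v5_facts.1]
    exact hs
  have e := l.twist S hc v5 v false
  rw [hg, hw, add_zero] at e
  have h1 : ind z (sec f x v5 * zp z false * (c : G)) = ind z (sec f x v5 * zp z true * (c : G)) := by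
    rw [← ind_conj z (sec f x v5 * zp z false * (c : G)) (sec f x v), e]; rfl
  rw [pr, h1]
  have := ind_le z (sec f x v5 * zp z true * (c : G))
  omega

omit S

/-- a chosen lift -/
noncomputable def lft (f : Frame z Q M) (x : Subgroup.centralizer ({z} : Set G)) (b : Fin 16) :
    Subgroup.centralizer ({z} : Set G) :=
  haveI := Classical.propDecidable (∃ c, c ∈ AH f x ∧ f.π c = Syl.E b)
  if h : ∃ c, c ∈ AH f x ∧ f.π c = Syl.E b then h.choose else 1

include S

theorem Line.lft_spec (l : Line f x g) (b : Fin 16) : lft f x b ∈ AH f x ∧ f.π (lft f x b) = Syl.E b := by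
  have h : ∃ c, c ∈ AH f x ∧ f.π c = Syl.E b := (l.exists_lift S b).imp fun c hc => hc
  rw [lft, dif_pos h]
  exact h.choose_spec

theorem Line.lft_comm (l : Line f x g) (b : Fin 16) : Commute (lft f x b) x := mem_Kx.1 (l.lft_spec S b).1.1

omit S

/-- coordinates with any lifts -/
noncomputable def co (f : Frame z Q M) (x : Subgroup.centralizer ({z} : Set G))
    (c : Fin 16 → Subgroup.centralizer ({z} : Set G)) (p : Fin 16 × Fin 64 × Bool) : G :=
  sec f x (Syl.U p.2.1) * zp z p.2.2 * (c p.1 : G)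

include S

theorem Line.co_bij (l : Line f x g) {A : Subgroup G}
    (hA : ∀ r, r ∈ A ↔ ∃ a ∈ AQset f, ∃ c ∈ AH f x, r = a * (c : G))
    {c : Fin 16 → Subgroup.centralizer ({z} : Set G)} (hc : ∀ b, c b ∈ AH f x ∧ f.π (c b) = Syl.E b) :
    ∃ h : ∀ p, co f x c p ∈ A, Function.Bijective fun p => (⟨co f x c p, h p⟩ : A) := by
  refine ⟨fun p => (hA _).2 ⟨_, l.mem_AQset S (Syl.U_mem p.2.1) p.2.2, c p.1, (hc p.1).1, rfl⟩, ?_, ?_⟩
  · rintro ⟨b, i, s⟩ ⟨b', i', s'⟩ h
    have h' : sec f x (Syl.U i) * zp z s * (c b : G) = sec f x (Syl.U i') * zp z s' * (c b' : G) :=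
      congrArg Subtype.val h
    obtain ⟨hq, hv, -⟩ := l.xel.sec_spec S (Syl.U i)
    obtain ⟨hq', hv', -⟩ := l.xel.sec_spec S (Syl.U i')
    set a : Subgroup.centralizer ({z} : Set G) :=
      ⟨sec f x (Syl.U i) * zp z s, Subgroup.mem_centralizer_singleton_iff.2 (S.hyp.qz (mul_mem hq (S.zp_mem s)))⟩
    set a' : Subgroup.centralizer ({z} : Set G) :=
      ⟨sec f x (Syl.U i') * zp z s', Subgroup.mem_centralizer_singleton_iff.2 (S.hyp.qz (mul_mem hq' (S.zp_mem s')))⟩
    have hC : a * c b = a' * c b' := Subtype.ext h'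
    have hb := congrArg f.π hC
    rw [map_mul, map_mul, (f.ker a).2 (mul_mem hq (S.zp_mem s)), (f.ker a').2 (mul_mem hq' (S.zp_mem s')), one_mul,
      one_mul, (hc b).2, (hc b').2] at hb
    obtain rfl := Syl.E_inj hb
    have h1 := mul_right_cancel h'
    have hu := congrArg f.vec h1
    rw [f.vec_mul _ hq _ (S.zp_mem s), f.vec_mul _ hq' _ (S.zp_mem s'), f.vec_zp S, f.vec_zp S, add_zero, add_zero,
      hv, hv'] at hu
    obtain rfl := Syl.U_inj hu
    obtain rfl := S.zp_inj (mul_left_cancel h1)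
    rfl
  · rintro ⟨r, hr⟩
    obtain ⟨a, ha, d, hd, rfl⟩ := (hA r).1 hr
    obtain ⟨b, hb⟩ := Syl.E_surj hd.2
    obtain ⟨i, hi⟩ := Syl.U_surj ha.2
    obtain ⟨s, hs⟩ := l.lift_pair S (mem_Kx.1 (hc b).1.1) (mem_Kx.1 hd.1) ((hc b).2.trans hb)
    obtain ⟨hq, hv, -⟩ := l.xel.sec_spec S (Syl.U i)
    obtain ⟨t, ht⟩ : ∃ t, a = sec f x (Syl.U i) * zp z t := by
      rcases (f.vec_eq _ hq a ha.1).1 (hv.trans hi) with e | e
      · exact ⟨false, by rw [e, zp_false, mul_one]⟩
      · exact ⟨true, e⟩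
    refine ⟨(b, i, xor t s), Subtype.ext ?_⟩
    show sec f x (Syl.U i) * zp z (xor t s) * (c b : G) = a * (d : G)
    rw [ht, hs, ← S.zp_mul, (S.zp_comm s (Subgroup.mem_centralizer_singleton_iff.1 (c b).2 : Commute (c b : G) z)).eq]
    group

theorem Line.pr_base (l : Line f x g) {c : Subgroup.centralizer ({z} : Set G)} (hc : Commute c x)
    (hπ : f.π c = 1) (i : Fin 64) :
    pr f x (c : G) (Syl.U i) = if i ≠ 0 ∧ Chk.isA (Chk.uC i.val) = true then 2 else 0 := by
  obtain ⟨s, hs⟩ := l.lift_pair S (Commute.one_left x) hc (by rw [map_one, hπ])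
  rw [show (c : G) = (1 : G) * zp z s from hs, ← Subgroup.coe_one, l.pr_lift S 1 s, Subgroup.coe_one, pr, mul_one,
    mul_one]
  obtain ⟨hq, hv, -⟩ := l.xel.sec_spec S (Syl.U i)
  by_cases h0 : i = 0
  · subst h0
    have e0 : Syl.U 0 = 0 := code_inj ((Syl.code_U 0).trans (by decide +kernel))
    rw [if_neg (fun h => h.1 rfl), e0, l.xel.sec_zero S, one_mul, one_mul, zp_false, zp_true,
      ind_neg fun h => h.1 rfl, ind_neg fun h => h.2 (IsConj.refl z)]
  have hcls : ∀ t, iT z (sec f x (Syl.U i) * zp z t) ↔ Chk.isA (Chk.uC i.val) = true := by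
    intro t
    set a := sec f x (Syl.U i) * zp z t
    have ha : a ∈ AQset f := l.mem_AQset S (Syl.U_mem i) t
    have hva : f.vec a = Syl.U i := by rw [f.vec_mul _ hq _ (S.zp_mem t), f.vec_zp S, add_zero, hv]
    have hne : ∀ b : G, f.vec b = 0 → a ≠ b := fun b hb e => h0 (Syl.U_inj (by
      rw [show Syl.U 0 = 0 from code_inj ((Syl.code_U 0).trans (by decide +kernel)), ← hva, e, hb]))
    rw [l.Q_class S ha.1 (AQ_sq S f ha) (hne 1 (f.vec_one S)) (hne z (f.vec_z S)), hva, PA, Syl.code_U]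
  by_cases hA : Chk.isA (Chk.uC i.val) = true
  · rw [if_pos ⟨h0, hA⟩, ind_pos ((hcls false).2 hA), ind_pos ((hcls true).2 hA)]
  · rw [if_neg (fun h => hA h.2), ind_neg (fun h => hA ((hcls false).1 h)), ind_neg (fun h => hA ((hcls true).1 h))]

theorem Line.pr_sum (l : Line f x g) (b : Fin 16) :
    ∑ i : Fin 64, pr f x (lft f x b : G) (Syl.U i) = if b = 0 then 36 else
      16 * pr f x (lft f x 1 : G) 0 + 48 * pr f x (lft f x 1 : G) v5 := by
  by_cases hb : b = 0
  · subst hb
    rw [if_pos rfl, Finset.sum_congr rfl fun i _ => l.pr_base S (l.lft_comm S 0)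
      ((l.lft_spec S 0).2.trans Syl.E_zero) i]
    decide +kernel
  obtain ⟨p, hp, -, hpc⟩ := Syl.exists_toE b hb
  obtain ⟨P, hP, hPπ⟩ := l.xel.lift S f hp.kp
  have hconj : Commute (P * lft f x 1 * P⁻¹) x := (hP.mul_left (l.lft_comm S 1)).mul_left hP.inv_left
  obtain ⟨s, hs⟩ := l.lift_pair S hconj (l.lft_comm S b) (by
    rw [map_mul, map_mul, map_inv, hPπ, (l.lft_spec S 1).2, hpc, mul_inv_cancel_right, (l.lft_spec S b).2])
  have key : ∀ u, pr f x (lft f x b : G) (p u) = pr f x (lft f x 1 : G) u := fun u => by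
    rw [hs, l.pr_lift S, ← hPπ, l.pr_conj S hP]
  choose σ hσ using fun i : Fin 64 => Syl.U_surj (hp.fs _ (Syl.U_mem i))
  have hinj : Function.Injective σ := fun i j h => Syl.U_inj (p.injective (by rw [← hσ, ← hσ, h]))
  rw [if_neg hb, ← (Finite.injective_iff_bijective.1 hinj).sum_comp,
    Finset.sum_congr rfl fun i _ => by rw [hσ, key, l.pr_cover S (l.lft_comm S 1) (l.lft_spec S 1).2 i]]
  generalize pr f x (lft f x 1 : G) 0 = a
  generalize pr f x (lft f x 1 : G) v5 = c
  rw [Finset.sum_ite, Finset.sum_const, Finset.sum_const, smul_eq_mul, smul_eq_mul]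
  rw [show (Finset.univ.filter fun i : Fin 64 => Dat.covB.getD i.val 0 % 4 = 0).card = 16 by decide +kernel,
    show (Finset.univ.filter fun i : Fin 64 => ¬ Dat.covB.getD i.val 0 % 4 = 0).card = 48 by decide +kernel]

theorem Line.card_class (l : Line f x g) {A : Subgroup G}
    (hA : ∀ r, r ∈ A ↔ ∃ a ∈ AQset f, ∃ c ∈ AH f x, r = a * (c : G)) :
    Nat.card {r : A // iT z (r : G)} =
      36 + 15 * (16 * pr f x (lft f x 1 : G) 0 + 48 * pr f x (lft f x 1 : G) v5) := by
  classical
  obtain ⟨hmem, hbij⟩ := l.co_bij S hA (c := lft f x) (l.lft_spec S)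
  rw [← Nat.card_congr ((Equiv.ofBijective _ hbij).subtypeEquiv fun p => Iff.rfl :
    {p : Fin 16 × Fin 64 × Bool // iT z (co f x (lft f x) p)} ≃ {r : A // iT z (r : G)}), Nat.card_eq_fintype_card,
    Fintype.card_subtype, Finset.card_filter, Fintype.sum_prod_type]
  have h : ∀ b, (∑ q : Fin 64 × Bool, if iT z (co f x (lft f x) (b, q)) then 1 else 0) =
      ∑ i : Fin 64, pr f x (lft f x b : G) (Syl.U i) := by
    intro b
    rw [Fintype.sum_prod_type]
    refine Finset.sum_congr rfl fun i _ => ?_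
    rw [Fintype.sum_bool, pr, ind, ind, add_comm]
    congr 1 <;> exact if_congr Iff.rfl rfl rfl
  rw [Finset.sum_congr rfl fun b _ => (h b).trans (l.pr_sum S b)]
  generalize pr f x (lft f x 1 : G) 0 = a
  generalize pr f x (lft f x 1 : G) v5 = c
  rw [Finset.sum_ite, Finset.sum_const, Finset.sum_const, smul_eq_mul, smul_eq_mul]
  rw [show (Finset.univ.filter fun b : Fin 16 => b = 0).card = 1 by decide +kernel,
    show (Finset.univ.filter fun b : Fin 16 => ¬ b = 0).card = 15 by decide +kernel, one_mul]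

omit l

/-- the only possible numbers -/
theorem Setup.orbit_prime {A : Subgroup G} (hA : Cfsg.IsElementaryAbelian 2 A) (hAc : Nat.card A = 2 ^ 11)
    (hzA : z ∈ A) (f : Frame z Q M) (p : ℕ) (hp : p = 2011 ∨ p = 1531 ∨ p = 571 ∨ p = 331 ∨ p = 13) :
    ¬ p ∣ Nat.card (Subgroup.normalizer (A : Set G)) := by
  intro hdvd
  have hpp : p.Prime := by rcases hp with rfl | rfl | rfl | rfl | rfl <;> norm_num
  haveI : Fact p.Prime := ⟨hpp⟩
  obtain ⟨y, hy⟩ := exists_prime_orderOf_dvd_card' p hdvd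
  haveI := hA.1
  haveI : Fact (Nat.Prime 2) := ⟨Nat.prime_two⟩
  letI : CommGroup A := { (inferInstance : Group A) with mul_comm := fun a b => hA.1.is_comm.comm a b }
  obtain ⟨F, hF⟩ := toGL (V := A) (fun a => Subtype.ext (by
    show (a : G) * a = 1
    rw [← pow_two]; exact hA.2 a a.2)) hAc
  have hnorm : ∀ y : Subgroup.normalizer (A : Set G), ∀ a : G, a ∈ A → (y : G) * a * (y : G)⁻¹ ∈ A := fun y a ha =>
    (Subgroup.mem_normalizer_iff.1 y.2 a).1 ha
  let ρ : Subgroup.normalizer (A : Set G) →* MulAut A :=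
    { toFun := fun y =>
        { toFun := fun a => ⟨(y : G) * a * (y : G)⁻¹, hnorm y a a.2⟩
          invFun := fun a => ⟨(y : G)⁻¹ * a * (y : G), by
            have := hnorm y⁻¹ a a.2
            rwa [Subgroup.coe_inv, inv_inv] at this⟩
          left_inv := fun a => Subtype.ext (by show (y : G)⁻¹ * ((y : G) * a * (y : G)⁻¹) * y = a; group)
          right_inv := fun a => Subtype.ext (by show (y : G) * ((y : G)⁻¹ * a * (y : G)) * (y : G)⁻¹ = a; group)
          map_mul' := fun a b => Subtype.ext (by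
            show (y : G) * (a * b) * (y : G)⁻¹ = (y : G) * a * (y : G)⁻¹ * ((y : G) * b * (y : G)⁻¹); group) }
      map_one' := MulEquiv.ext fun a => Subtype.ext (by show (1 : G) * a * (1 : G)⁻¹ = a; group)
      map_mul' := fun y y' => MulEquiv.ext fun a => Subtype.ext (by
        show (y : G) * y' * a * ((y : G) * y')⁻¹ = (y : G) * ((y' : G) * a * (y' : G)⁻¹) * (y : G)⁻¹; group) }
  by_cases h1 : ρ y = 1
  · have hyz : Commute (y : G) z := mul_inv_eq_iff_eq_mul.1
      (congrArg Subtype.val (MulEquiv.congr_fun h1 ⟨z, hzA⟩))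
    have hd : p ∣ Nat.card (Subgroup.centralizer ({z} : Set G)) := by
      rw [← hy, ← Subgroup.orderOf_coe]
      exact (Subgroup.orderOf_mk (H := Subgroup.centralizer ({z} : Set G)) (y : G)
        (Subgroup.mem_centralizer_singleton_iff.2 hyz)).symm.dvd.trans (orderOf_dvd_natCard _)
    rw [S.card_C f] at hd
    rcases hp with rfl | rfl | rfl | rfl | rfl <;> norm_num at hd
  · have h2 : orderOf (F (ρ y)) = p := by
      rw [orderOf_injective F hF]
      exact orderOf_eq_prime (by rw [← map_pow, ← hy, pow_orderOf_eq_one, map_one]) h1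
    have hd : p ∣ Nat.card (GL (Fin 11) (ZMod 2)) := h2 ▸ orderOf_dvd_natCard _
    rw [Matrix.card_GL_field, ZMod.card] at hd
    rcases hp with rfl | rfl | rfl | rfl | rfl <;> revert hd <;> decide +kernel

/-- the central class inside a largest elementary abelian subgroup is one orbit of the normaliser -/
theorem Setup.orbit_count {A : Subgroup G} (hA : Cfsg.IsElementaryAbelian 2 A) (hAc : Nat.card A = 2 ^ 11)
    (hzA : z ∈ A) : Nat.card {r : A // IsConj z (r : G)} *
      Nat.card ((Subgroup.centralizer ({z} : Set G)).subgroupOf (Subgroup.normalizer (A : Set G))) =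
        Nat.card (Subgroup.normalizer (A : Set G)) := by
  set H := Subgroup.normalizer (A : Set G)
  set K := (Subgroup.centralizer ({z} : Set G)).subgroupOf H
  let φ : H → {r : A // IsConj z (r : G)} := fun y =>
    ⟨⟨(y : G) * z * (y : G)⁻¹, (Subgroup.mem_normalizer_iff.1 y.2 z).1 hzA⟩, isConj_iff.2 ⟨y, rfl⟩⟩
  have hsur : Function.Surjective φ := fun ⟨⟨r, hr⟩, h⟩ => by
    obtain ⟨c, hc⟩ := isConj_iff.1 h
    obtain ⟨m, hm, e⟩ := S.control hA hAc hzA (g := c) (hc.symm ▸ hr)
    exact ⟨⟨m, hm⟩, Subtype.ext (Subtype.ext (e.trans hc))⟩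
  have hfib : ∀ y y' : H, φ y = φ y' ↔ y⁻¹ * y' ∈ K := by
    intro y y'
    show _ ↔ ((y⁻¹ * y' : H) : G) ∈ Subgroup.centralizer ({z} : Set G)
    rw [Subgroup.mem_centralizer_singleton_iff, Subgroup.coe_mul, Subgroup.coe_inv]
    refine ⟨fun h => ?_, fun h => Subtype.ext (Subtype.ext ?_)⟩
    · have h' : (y : G) * z * (y : G)⁻¹ = (y' : G) * z * (y' : G)⁻¹ := congrArg (fun r => ((r.1 : A) : G)) h
      calc (y : G)⁻¹ * y' * z = (y : G)⁻¹ * ((y' : G) * z * (y' : G)⁻¹) * y' := by group
        _ = _ := by rw [← h']; group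
    · show (y : G) * z * (y : G)⁻¹ = (y' : G) * z * (y' : G)⁻¹
      calc (y : G) * z * (y : G)⁻¹ = (y : G) * (z * ((y : G)⁻¹ * y')) * (y' : G)⁻¹ := by group
        _ = _ := by rw [← h]; group
  rw [Subgroup.card_eq_card_quotient_mul_card_subgroup K]
  congr 1
  refine (Nat.card_congr (Equiv.ofBijective (Quotient.lift φ fun a b hab => (hfib a b).2
    (QuotientGroup.leftRel_apply.1 hab) : H ⧸ K → {r : A // IsConj z (r : G)}) ⟨?_, ?_⟩)).symm
  · intro a b
    induction a using QuotientGroup.induction_on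
    induction b using QuotientGroup.induction_on
    exact fun e => QuotientGroup.eq.2 ((hfib _ _).1 e)
  · intro r
    obtain ⟨y, rfl⟩ := hsur r
    exact ⟨QuotientGroup.mk y, rfl⟩

/-- exactly one lift of each involution is outside the central class -/
theorem Line.pr_values (l : Line f x g) {A : Subgroup G} (hAe : Cfsg.IsElementaryAbelian 2 A)
    (hAc : Nat.card A = 2 ^ 11) (hA : ∀ r, r ∈ A ↔ ∃ a ∈ AQset f, ∃ c ∈ AH f x, r = a * (c : G)) :
    pr f x (lft f x 1 : G) 0 = 1 ∧ pr f x (lft f x 1 : G) v5 = 0 ∧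
      Nat.card {r : A // iT z (r : G)} = 276 ∧ Nat.card {r : A // IsConj z (r : G)} = 1771 := by
  classical
  have hzA : z ∈ A := (hA z).2 ⟨z, AQ_z S f, 1, one_mem _, by rw [Subgroup.coe_one, mul_one]⟩
  have hm := l.card_class S hA
  haveI : Fintype A := Fintype.ofFinite A
  have htot : Nat.card {r : A // iT z (r : G)} + Nat.card {r : A // IsConj z (r : G)} + 1 = 2 ^ 11 := by
    rw [← hAc, Nat.card_eq_fintype_card, Nat.card_eq_fintype_card, Nat.card_eq_fintype_card, Fintype.card_subtype,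
      Fintype.card_subtype]
    have hone : ∀ r : A, IsConj z (r : G) → (r : G) ≠ 1 := fun r h e => by
      obtain ⟨c, hc⟩ := isConj_iff.1 (e ▸ h)
      exact S.hyp.xt.ne (conj_eq_one_iff.1 hc)
    have e1 : (Finset.univ.filter fun r : A => iT z (r : G)) =
        (Finset.univ.filter fun r : A => ¬ IsConj z (r : G)).erase 1 := by
      ext r
      simp only [Finset.mem_filter, Finset.mem_erase, Finset.mem_univ, true_and, iT, ne_eq, OneMemClass.coe_eq_one]
    have h1 : (1 : A) ∈ Finset.univ.filter fun r : A => ¬ IsConj z (r : G) :=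
      Finset.mem_filter.2 ⟨Finset.mem_univ _, fun h => hone 1 h rfl⟩
    rw [e1, add_right_comm, Finset.card_erase_add_one h1, add_comm, Finset.card_filter_add_card_filter_not,
      Finset.card_univ]
  have hdiv : ∀ p, p ∣ Nat.card {r : A // IsConj z (r : G)} → p ∣ Nat.card (Subgroup.normalizer (A : Set G)) :=
    fun p hp => hp.trans ⟨_, (S.orbit_count hAe hAc hzA).symm⟩
  have hj := l.pr_even S (l.lft_comm S 1) (l.lft_spec S 1).2
  have hi : pr f x (lft f x 1 : G) 0 ≤ 2 := Nat.add_le_add (ind_le _ _) (ind_le _ _)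
  generalize pr f x (lft f x 1 : G) 0 = i at hi hm ⊢
  generalize pr f x (lft f x 1 : G) v5 = j at hj hm ⊢
  generalize Nat.card {r : A // iT z (r : G)} = m at hm htot ⊢
  generalize Nat.card {r : A // IsConj z (r : G)} = n at htot hdiv ⊢
  have hno : ∀ p, p = 2011 ∨ p = 1531 ∨ p = 571 ∨ p = 331 ∨ p = 13 → ¬ p ∣ n := fun p hp h =>
    S.orbit_prime hAe hAc hzA f p hp (hdiv p h)
  interval_cases i <;> rcases hj with rfl | rfl <;> norm_num at hm htot
  · exact absurd ⟨1, by omega⟩ (hno 2011 (by norm_num))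
  · exact absurd ⟨1, by omega⟩ (hno 571 (by norm_num))
  · omega
  · exact absurd ⟨1, by omega⟩ (hno 331 (by norm_num))
  · exact absurd ⟨1, by omega⟩ (hno 1531 (by norm_num))
  · exact absurd ⟨7, by omega⟩ (hno 13 (by norm_num))

omit S

end Cfsg.Agent.Spor.LFT
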