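import Mathlib

/-!
Congruence classes modulo 2 in an even lattice of rank 24 without roots, given the numbers of its
vectors of norm 4, 6 and 8.
-/

set_option autoImplicit false

open Matrix

namespace Cfsg.Agent.Spor.LatticeChar

open Finset

abbrev V : Type := Fin 24 → ℤ

variable {B : Matrix (Fin 24) (Fin 24) ℤ}

/-- inner product of the lattice -/
def ip (B : Matrix (Fin 24) (Fin 24) ℤ) (x y : V) : ℤ := x ⬝ᵥ (B *ᵥ y)

/-- norm of the lattice -/
def nrm (B : Matrix (Fin 24) (Fin 24) ℤ) (x : V) : ℤ := ip B x x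

theorem ip_add_left (x y z : V) : ip B (x + y) z = ip B x z + ip B y z := add_dotProduct _ _ _

theorem ip_add_right (x y z : V) : ip B x (y + z) = ip B x y + ip B x z := by
  simp [ip, mulVec_add, dotProduct_add]

theorem ip_neg_left (x y : V) : ip B (-x) y = -ip B x y := neg_dotProduct _ _

theorem ip_neg_right (x y : V) : ip B x (-y) = -ip B x y := by
  simp [ip, mulVec_neg, dotProduct_neg]

theorem ip_sub_left (x y z : V) : ip B (x - y) z = ip B x z - ip B y z := sub_dotProduct _ _ _

theorem ip_sub_right (x y z : V) : ip B x (y - z) = ip B x y - ip B x z := by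
  simp [ip, mulVec_sub, dotProduct_sub]

theorem ip_smul_left (k : ℤ) (x y : V) : ip B (k • x) y = k * ip B x y := by
  show (k • x) ⬝ᵥ (B *ᵥ y) = k * (x ⬝ᵥ (B *ᵥ y))
  rw [smul_dotProduct, smul_eq_mul]

theorem ip_zero_left (y : V) : ip B 0 y = 0 := zero_dotProduct _

theorem ip_sum_left {κ : Type*} (s : Finset κ) (t : κ → V) (y : V) :
    ip B (∑ i ∈ s, t i) y = ∑ i ∈ s, ip B (t i) y := sum_dotProduct _ _ _

/-- The hypotheses of the characterisation. -/
structure Hyp (B : Matrix (Fin 24) (Fin 24) ℤ) : Prop where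
  symm : B.IsSymm
  pos : ∀ x : V, x ≠ 0 → 0 < nrm B x
  even : ∀ x : V, (2 : ℤ) ∣ nrm B x
  no2 : ∀ x : V, nrm B x ≠ 2
  n4 : {x : V | nrm B x = 4}.ncard = 196560
  n6 : {x : V | nrm B x = 6}.ncard = 16773120
  n8 : {x : V | nrm B x = 8}.ncard = 398034000

theorem Hyp.comm (h : Hyp B) (x y : V) : ip B x y = ip B y x := by
  show x ⬝ᵥ (B *ᵥ y) = y ⬝ᵥ (B *ᵥ x)
  calc x ⬝ᵥ (B *ᵥ y) = (x ᵥ* B) ⬝ᵥ y := dotProduct_mulVec _ _ _
    _ = (B.transpose *ᵥ x) ⬝ᵥ y := by rw [mulVec_transpose]
    _ = y ⬝ᵥ (B *ᵥ x) := by rw [h.symm.eq, dotProduct_comm]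

theorem Hyp.nonneg (h : Hyp B) (x : V) : 0 ≤ nrm B x := by
  by_cases hx : x = 0
  · rw [hx, nrm, ip_zero_left]
  · exact (h.pos x hx).le

theorem Hyp.ge_four (h : Hyp B) {x : V} (hx : x ≠ 0) : 4 ≤ nrm B x := by
  have := h.pos x hx
  have := h.even x
  have := h.no2 x
  omega

theorem nrm_neg (x : V) : nrm B (-x) = nrm B x := by
  simp [nrm, ip_neg_left, ip_neg_right]

theorem nrm_twice (x : V) : nrm B (x + x) = 4 * nrm B x := by
  simp only [nrm, ip_add_left, ip_add_right]; ring

theorem parallelogram (x y : V) :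
    nrm B (x - y) + nrm B (x + y) = 2 * (nrm B x + nrm B y) := by
  simp only [nrm, ip_add_left, ip_add_right, ip_sub_left, ip_sub_right]; ring

/-- class modulo 2 -/
def cls (x : V) : Fin 24 → ZMod 2 := fun i => ((x i : ℤ) : ZMod 2)

theorem cls_eq_iff {x y : V} : cls x = cls y ↔ ∀ i, (2 : ℤ) ∣ (x - y) i := by
  simp only [funext_iff, cls]
  refine forall_congr' fun i => ?_
  rw [eq_comm, ZMod.intCast_eq_intCast_iff_dvd_sub]
  norm_num

theorem exists_half {x y : V} (hc : cls x = cls y) : ∃ z : V, x - y = z + z := by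
  refine ⟨fun i => (x - y) i / 2, funext fun i => ?_⟩
  have := cls_eq_iff.1 hc i
  simp only [Pi.add_apply]
  omega

theorem Hyp.pair (h : Hyp B) {x y : V} (hne : x ≠ y) (hne' : x ≠ -y) (hc : cls x = cls y)
    (hx : nrm B x ≤ 8) (hy : nrm B y ≤ 8) : nrm B x = 8 ∧ nrm B y = 8 ∧ ip B x y = 0 := by
  obtain ⟨z, hz⟩ := exists_half hc
  have hw : x + y = (z + y) + (z + y) := by
    calc x + y = (x - y) + (y + y) := by abel
      _ = (z + z) + (y + y) := by rw [hz]
      _ = (z + y) + (z + y) := by abel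
  have z0 : z ≠ 0 := fun e => hne (sub_eq_zero.1 (by rw [hz, e, add_zero]))
  have w0 : z + y ≠ 0 := fun e => hne' (eq_neg_of_add_eq_zero_left (by rw [hw, e, add_zero]))
  have p := parallelogram (B := B) x y
  rw [hz, hw, nrm_twice, nrm_twice] at p
  have a := h.ge_four z0
  have b := h.ge_four w0
  have d : nrm B (x + y) = 4 * nrm B (z + y) := by rw [hw, nrm_twice]
  have d2 : nrm B (x + y) = nrm B x + 2 * ip B x y + nrm B y := by
    simp only [nrm, ip_add_left, ip_add_right, h.comm y x]; ring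
  omega

theorem Hyp.cls_ne_zero (h : Hyp B) {x : V} (hx : x ≠ 0) (hn : nrm B x ≤ 8) : cls x ≠ cls 0 := by
  intro e
  obtain ⟨z, hz⟩ := exists_half e
  rw [sub_zero] at hz
  have z0 : z ≠ 0 := fun e' => hx (by rw [hz, e', add_zero])
  have := h.ge_four z0
  rw [hz, nrm_twice] at hn
  omega

/-- an orthogonal family of non-zero vectors is independent -/
theorem Hyp.independent (h : Hyp B) {κ : Type*} [Fintype κ] (t : κ → V) (ht : ∀ i, t i ≠ 0)
    (ho : ∀ i j, i ≠ j → ip B (t i) (t j) = 0) : LinearIndependent ℤ t := by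
  classical
  rw [Fintype.linearIndependent_iff]
  intro g hg j
  have e : ip B (∑ i, g i • t i) (t j) = 0 := by rw [hg, ip_zero_left]
  rw [ip_sum_left, Finset.sum_eq_single j (fun i _ hij => by rw [ip_smul_left, ho i j hij, mul_zero])
    (fun hj => absurd (mem_univ j) hj), ip_smul_left, mul_eq_zero] at e
  exact e.resolve_right (h.pos (t j) (ht j)).ne'

theorem Hyp.card_orth (h : Hyp B) {κ : Type*} [Fintype κ] (t : κ → V) (ht : ∀ i, t i ≠ 0)
    (ho : ∀ i j, i ≠ j → ip B (t i) (t j) = 0) : Fintype.card κ ≤ 24 := by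
  have := (h.independent t ht ho).fintype_card_le_finrank
  rwa [Module.finrank_fin_fun] at this

/-- the shell of norm `n` -/
noncomputable def shell (B : Matrix (Fin 24) (Fin 24) ℤ) (n : ℤ) : Finset V := by
  classical
  exact if hf : {x : V | nrm B x = n}.Finite then hf.toFinset else ∅

theorem shell_spec {n : ℤ} {k : ℕ} (hk : {x : V | nrm B x = n}.ncard = k) (hk0 : 0 < k) :
    (∀ x, x ∈ shell B n ↔ nrm B x = n) ∧ (shell B n).card = k := by
  have hf : {x : V | nrm B x = n}.Finite :=
    Set.finite_of_ncard_pos (by rw [hk]; exact hk0)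
  rw [shell, dif_pos hf]
  refine ⟨fun x => hf.mem_toFinset, ?_⟩
  rw [← Set.ncard_eq_toFinset_card _ hf]
  exact hk

/-- the elements of a shell in a given class -/
noncomputable def fib (B : Matrix (Fin 24) (Fin 24) ℤ) (n : ℤ) (c : Fin 24 → ZMod 2) : Finset V :=
  (shell B n).filter fun x => cls x = c

theorem Hyp.fib_two (h : Hyp B) {n : ℤ} {k : ℕ} (hk : {x : V | nrm B x = n}.ncard = k) (hk0 : 0 < k)
    (hn : n < 8) (c : Fin 24 → ZMod 2) : (fib B n c).card ≤ 2 := by
  classical
  rcases (fib B n c).eq_empty_or_nonempty with he | ⟨x, hx⟩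
  · simp [he]
  refine (card_le_card (t := {x, -x}) fun y hy => ?_).trans card_le_two
  simp only [fib, mem_filter, (shell_spec hk hk0).1] at hx hy
  rw [mem_insert, mem_singleton]
  by_contra hh
  rw [not_or] at hh
  have := h.pair (x := x) (y := y) (Ne.symm hh.1)
    (fun e => hh.2 (by rw [e, neg_neg])) (hx.2.trans hy.2.symm) (by omega) (by omega)
  omega

theorem Hyp.fib_eight (h : Hyp B) (c : Fin 24 → ZMod 2) :
    ((fib B 8 c).image fun y => ({y, -y} : Finset V)).card ≤ 24 ∧
      (fib B 8 c).card ≤ 2 * ((fib B 8 c).image fun y => ({y, -y} : Finset V)).card := by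
  classical
  constructor
  · set I := (fib B 8 c).image fun y => ({y, -y} : Finset V) with hI
    have hr : ∀ p : I, ∃ y ∈ fib B 8 c, ({y, -y} : Finset V) = p := fun p => by
      have hp := p.2
      simp only [hI, mem_image] at hp
      exact hp
    choose r hr1 hr2 using hr
    have hn : ∀ p, nrm B (r p) = 8 := fun p => by
      have := hr1 p
      simp only [fib, mem_filter, (shell_spec h.n8 (by norm_num)).1] at this
      exact this.1
    have hcl : ∀ p, cls (r p) = c := fun p => (mem_filter.1 (hr1 p)).2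
    have h0 : ∀ p, r p ≠ 0 := fun p e => by
      have := hn p
      rw [e, nrm, ip_zero_left] at this
      norm_num at this
    have ho : ∀ p q, p ≠ q → ip B (r p) (r q) = 0 := fun p q hpq => by
      refine (h.pair ?_ ?_ ((hcl p).trans (hcl q).symm) (by rw [hn p]) (by rw [hn q])).2.2
      · intro e
        exact hpq (Subtype.ext (by rw [← hr2 p, ← hr2 q, e]))
      · intro e
        exact hpq (Subtype.ext (by rw [← hr2 p, ← hr2 q, e, neg_neg, pair_comm]))
    have := h.card_orth r h0 ho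
    rwa [Fintype.card_coe] at this
  · refine card_le_mul_card_image _ 2 fun p _ => ?_
    rcases ((fib B 8 c).filter fun y => ({y, -y} : Finset V) = p).eq_empty_or_nonempty with he | ⟨y, hy⟩
    · simp [he]
    refine (card_le_card (t := {y, -y}) fun z hz => ?_).trans card_le_two
    rw [(mem_filter.1 hy).2, ← (mem_filter.1 hz).2]
    exact mem_insert_self _ _

/-- The classes of norm 8 vectors consist of exactly 48 vectors each. -/
theorem Hyp.fib_card (h : Hyp B) {x : V} (hx : nrm B x = 8) : (fib B 8 (cls x)).card = 48 := by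
  classical
  obtain ⟨m4, c4⟩ := shell_spec h.n4 (by norm_num)
  obtain ⟨m6, c6⟩ := shell_spec h.n6 (by norm_num)
  obtain ⟨m8, c8⟩ := shell_spec h.n8 (by norm_num)
  set A4 := (shell B 4).image cls with hA4
  set A6 := (shell B 6).image cls with hA6
  set A8 := (shell B 8).image cls with hA8
  have b4 : (shell B 4).card ≤ 2 * A4.card :=
    card_le_mul_card_image _ 2 fun c _ => h.fib_two h.n4 (by norm_num) (by norm_num) c
  have b6 : (shell B 6).card ≤ 2 * A6.card :=
    card_le_mul_card_image _ 2 fun c _ => h.fib_two h.n6 (by norm_num) (by norm_num) c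
  have bd : ∀ c, (fib B 8 c).card ≤ 48 := fun c => by have := h.fib_eight c; omega
  have b8 : (shell B 8).card ≤ 48 * A8.card := card_le_mul_card_image _ 48 fun c _ => bd c
  have apart : ∀ {a b : V} {n m : ℤ}, nrm B a = n → nrm B b = m → n ≠ m → n ≤ 8 → m ≤ 8 →
      cls a ≠ cls b := by
    intro a b n m ha hb hnm hn hm e
    have := h.pair (x := a) (y := b) (fun e' => hnm (by rw [← ha, ← hb, e']))
      (fun e' => hnm (by rw [← ha, ← hb, e', nrm_neg])) e (by omega) (by omega)
    omega
  have d46 : Disjoint A4 A6 := disjoint_left.2 fun c h1 h2 => by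
    obtain ⟨a, ha, rfl⟩ := mem_image.1 h1
    obtain ⟨b, hb, e⟩ := mem_image.1 h2
    exact apart ((m4 a).1 ha) ((m6 b).1 hb) (by norm_num) (by norm_num) (by norm_num) e.symm
  have d8 : Disjoint (A4 ∪ A6) A8 := disjoint_left.2 fun c h1 h2 => by
    obtain ⟨b, hb, e⟩ := mem_image.1 h2
    rcases mem_union.1 h1 with h1 | h1
    · obtain ⟨a, ha, rfl⟩ := mem_image.1 h1
      exact apart ((m4 a).1 ha) ((m8 b).1 hb) (by norm_num) (by norm_num) (by norm_num) e.symm
    · obtain ⟨a, ha, rfl⟩ := mem_image.1 h1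
      exact apart ((m6 a).1 ha) ((m8 b).1 hb) (by norm_num) (by norm_num) (by norm_num) e.symm
  have nz : ∀ (a : V) (n : ℤ), nrm B a = n → 0 < n → n ≤ 8 → cls a ≠ cls 0 := by
    intro a n ha hn hn'
    refine h.cls_ne_zero (fun e => ?_) (by omega)
    rw [e, nrm, ip_zero_left] at ha
    omega
  have n0 : cls 0 ∉ A4 ∪ A6 ∪ A8 := by
    simp only [hA4, hA6, hA8, mem_union, mem_image, not_or, not_exists, not_and]
    exact ⟨⟨fun a ha => nz a 4 ((m4 a).1 ha) (by norm_num) (by norm_num),
      fun a ha => nz a 6 ((m6 a).1 ha) (by norm_num) (by norm_num)⟩,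
      fun a ha => nz a 8 ((m8 a).1 ha) (by norm_num) (by norm_num)⟩
  have tot : (A4 ∪ A6 ∪ A8).card < 2 ^ 24 := by
    have hlt := card_lt_univ_of_notMem n0
    rwa [Fintype.card_fun, ZMod.card, Fintype.card_fin] at hlt
  rw [card_union_of_disjoint d8, card_union_of_disjoint d46] at tot
  have e8 : (shell B 8).card = 48 * A8.card := by norm_num at tot; omega
  have hs : ∑ c ∈ A8, (fib B 8 c).card = ∑ _c ∈ A8, 48 := by
    rw [sum_const, smul_eq_mul, mul_comm, ← e8]
    exact (card_eq_sum_card_image cls (shell B 8)).symm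
  exact (sum_eq_sum_iff_of_le fun c _ => bd c).1 hs (cls x) (mem_image_of_mem _ ((m8 x).2 hx))

theorem Hyp.frame_count (h : Hyp B) {x : V} (hx : nrm B x = 8) :
    {y : V | nrm B y = 8 ∧ ∀ i, (2 : ℤ) ∣ (x - y) i}.ncard = 48 := by
  rw [← h.fib_card hx, ← Set.ncard_coe_finset]
  congr 1
  ext y
  simp only [Set.mem_ofPred_eq, fib, coe_filter, (shell_spec h.n8 (by norm_num)).1]
  rw [← cls_eq_iff, eq_comm (a := cls x)]

/-- A frame: 24 orthogonal vectors of norm 8, all congruent modulo 2. -/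
structure Frame (B : Matrix (Fin 24) (Fin 24) ℤ) (f : Fin 24 → V) : Prop where
  nrm_eq : ∀ i, nrm B (f i) = 8
  orth : ∀ i j, i ≠ j → ip B (f i) (f j) = 0
  cong : ∀ i j, cls (f i) = cls (f j)

theorem Hyp.exists_frame (h : Hyp B) : ∃ f, Frame B f := by
  classical
  obtain ⟨m8, c8⟩ := shell_spec h.n8 (by norm_num)
  obtain ⟨x, hx⟩ : (shell B 8).Nonempty := Finset.card_pos.mp (by rw [c8]; norm_num)
  rw [m8] at hx
  set T := fib B 8 (cls x) with hT
  set I := T.image fun y => ({y, -y} : Finset V) with hI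
  have hc : I.card = 24 := by
    have := h.fib_eight (cls x)
    have := h.fib_card hx
    rw [← hT] at *
    rw [← hI] at *
    omega
  have hr : ∀ p : I, ∃ y ∈ T, ({y, -y} : Finset V) = p := fun p => by
    have hp := p.2
    simp only [hI, mem_image] at hp
    exact hp
  choose r hr1 hr2 using hr
  let q := (I.equivFinOfCardEq hc).symm
  have hn : ∀ p, nrm B (r p) = 8 := fun p => by
    have := hr1 p
    simp only [hT, fib, mem_filter, m8] at this
    exact this.1
  have hcl : ∀ p, cls (r p) = cls x := fun p => (mem_filter.1 (hr1 p)).2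
  refine ⟨fun i => r (q i), fun i => hn _, fun i j hij => ?_, fun i j => (hcl _).trans (hcl _).symm⟩
  have hq : q i ≠ q j := fun e => hij (q.injective e)
  refine (h.pair ?_ ?_ ((hcl _).trans (hcl _).symm) (by rw [hn]) (by rw [hn])).2.2
  · intro e
    exact hq (Subtype.ext (by rw [← hr2 (q i), ← hr2 (q j), e]))
  · intro e
    exact hq (Subtype.ext (by rw [← hr2 (q i), ← hr2 (q j), e, neg_neg, pair_comm]))

end Cfsg.Agent.Spor.LatticeChar
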