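import Cfsg.Agent.Lib.Spor.LatticeCount
import Cfsg.Agent.Lib.Spor.CodeUnique

/-!
The binary code read off a frame of an even lattice of rank 24 without roots.
-/

set_option autoImplicit false

open Matrix

namespace Cfsg.Agent.Spor.LatticeChar

open Finset

variable {B : Matrix (Fin 24) (Fin 24) ℤ} {f : Fin 24 → V}

/-- coordinates with respect to a frame -/
def cv (B : Matrix (Fin 24) (Fin 24) ℤ) (f : Fin 24 → V) : V →+ (Fin 24 → ℤ) :=
  AddMonoidHom.mk' (fun x i => ip B x (f i)) fun x y => funext fun _ => ip_add_left x y _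

theorem cv_apply (x : V) (i : Fin 24) : cv B f x i = ip B x (f i) := rfl

namespace Frame

variable (h : Hyp B) (hf : Frame B f)

include hf in
theorem cv_self (i : Fin 24) : cv B f (f i) = Pi.single i 8 := by
  funext j
  rw [cv_apply, Pi.single_apply]
  split_ifs with e
  · rw [e]; exact hf.nrm_eq i
  · exact hf.orth i j (Ne.symm e)

include h hf in
theorem expand (x : V) : (8 : ℤ) • x = ∑ i, cv B f x i • f i := by
  by_contra hne
  set y := (8 : ℤ) • x - ∑ i, cv B f x i • f i with hy
  have y0 : y ≠ 0 := sub_ne_zero.2 hne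
  have hy' : ∀ j, ip B y (f j) = 0 := fun j => by
    rw [hy, ip_sub_left, ip_smul_left, ip_sum_left,
      Finset.sum_eq_single j (fun i _ hij => by rw [ip_smul_left, hf.orth i j hij, mul_zero])
        (fun hj => absurd (mem_univ j) hj), ip_smul_left, cv_apply,
      show ip B (f j) (f j) = 8 from hf.nrm_eq j]
    ring
  have f0 : ∀ i, f i ≠ 0 := fun i e => by
    have := hf.nrm_eq i
    rw [e, nrm, ip_zero_left] at this
    norm_num at this
  let t : Option (Fin 24) → V := fun o => o.elim y f
  have := h.card_orth t (fun o => by cases o <;> [exact y0; exact f0 _]) (fun o o' hne => by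
    cases o with
    | none => cases o' with
      | none => exact absurd rfl hne
      | some j => exact hy' j
    | some i => cases o' with
      | none => show ip B (f i) y = 0; rw [h.comm]; exact hy' i
      | some j => exact hf.orth i j fun e => hne (by rw [e]))
  rw [Fintype.card_option, Fintype.card_fin] at this
  omega

include h hf in
theorem cv_dot (x y : V) : ∑ i, cv B f x i * cv B f y i = 8 * ip B x y := by
  rw [← ip_smul_left, expand h hf x, ip_sum_left]
  exact Finset.sum_congr rfl fun i _ => by rw [ip_smul_left, cv_apply y i, h.comm y (f i)]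

include h hf in
theorem cv_sq (x : V) : ∑ i, cv B f x i ^ 2 = 8 * nrm B x := by
  rw [nrm, ← cv_dot h hf]
  exact Finset.sum_congr rfl fun i _ => sq _

include h hf in
theorem cv_inj : Function.Injective (cv B f) := by
  intro x y e
  by_contra hne
  have h1 := h.pos (x - y) (sub_ne_zero.2 hne)
  have h2 := cv_sq h hf (x - y)
  rw [map_sub, e, sub_self] at h2
  simp only [Pi.zero_apply, ne_eq, OfNat.ofNat_ne_zero, not_false_eq_true, zero_pow, sum_const_zero] at h2
  omega

include hf in
theorem parity (x : V) (i j : Fin 24) : cv B f x i % 2 = cv B f x j % 2 := by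
  obtain ⟨z, hz⟩ := exists_half (hf.cong i j)
  have e : cv B f x i - cv B f x j = ip B x z + ip B x z := by
    rw [cv_apply, cv_apply, ← ip_sub_right, hz, ip_add_right]
  omega

include hf in
theorem diff_mem (i j : Fin 24) : Pi.single i (4 : ℤ) - Pi.single j 4 ∈ (cv B f).range := by
  obtain ⟨z, hz⟩ := exists_half (hf.cong i j)
  refine ⟨z, funext fun k => ?_⟩
  have e := congrFun (congrArg (cv B f) hz) k
  rw [map_sub, map_add, cv_self hf, cv_self hf, Pi.sub_apply, Pi.add_apply, Pi.single_apply, Pi.single_apply] at e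
  rw [Pi.sub_apply, Pi.single_apply, Pi.single_apply]
  split_ifs at e ⊢ <;> omega

include hf in
theorem four_mem (n : Fin 24 → ℤ) (hn : Even (∑ i, n i)) : (fun i => 4 * n i) ∈ (cv B f).range := by
  obtain ⟨k, hk⟩ := hn
  have e : (fun i => 4 * n i) =
      (∑ i, n i • (Pi.single i (4 : ℤ) - Pi.single 0 4 : Fin 24 → ℤ)) + k • Pi.single 0 (8 : ℤ) := by
    funext j
    simp only [Pi.add_apply, Finset.sum_apply, Pi.smul_apply, Pi.sub_apply, Pi.single_apply, smul_eq_mul,
      mul_sub, mul_ite, mul_zero, Finset.sum_sub_distrib, Finset.sum_ite_eq, mem_univ, if_true]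
    by_cases h0 : j = 0
    · simp only [h0, if_true, ← Finset.sum_mul, hk]; ring
    · simp only [h0, if_false, Finset.sum_const_zero]; ring
  rw [e]
  exact add_mem (sum_mem fun i _ => zsmul_mem (diff_mem hf i 0) _)
    (zsmul_mem (AddMonoidHom.mem_range.2 ⟨f 0, cv_self hf 0⟩) _)

include h hf in
theorem four_even {x : V} (n : Fin 24 → ℤ) (hx : ∀ i, cv B f x i = 4 * n i) : Even (∑ i, n i) := by
  by_contra ho
  rw [Int.not_even_iff_odd] at ho
  have hm : Even (∑ i, (n - Pi.single 0 1 : Fin 24 → ℤ) i) := by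
    simp only [Pi.sub_apply, Finset.sum_sub_distrib, Finset.sum_pi_single', mem_univ, if_true]
    exact ho.sub_odd odd_one
  obtain ⟨x', hx'⟩ := four_mem hf _ hm
  have e : ∀ i, cv B f (x - x') i = (Pi.single 0 4 : Fin 24 → ℤ) i := fun i => by
    rw [map_sub, Pi.sub_apply, hx i, congrFun hx' i]
    simp only [Pi.sub_apply, Pi.single_apply]
    split_ifs <;> ring
  have s := cv_sq h hf (x - x')
  simp only [e, Pi.single_apply, ite_pow, Finset.sum_ite_eq', mem_univ, if_true, ne_eq,
    OfNat.ofNat_ne_zero, not_false_eq_true, zero_pow] at s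
  exact h.no2 (x - x') (by omega)

end Frame

/-- vectors all of whose coordinates are even -/
def EvenV (B : Matrix (Fin 24) (Fin 24) ℤ) (f : Fin 24 → V) (x : V) : Prop := ∀ i, (2 : ℤ) ∣ cv B f x i

/-- half the coordinates -/
def half (B : Matrix (Fin 24) (Fin 24) ℤ) (f : Fin 24 → V) (x : V) (i : Fin 24) : ℤ := cv B f x i / 2

/-- the binary word of an even vector -/
def pat (B : Matrix (Fin 24) (Fin 24) ℤ) (f : Fin 24 → V) (x : V) : Fin 24 → ZMod 2 :=
  fun i => ((half B f x i : ℤ) : ZMod 2)

theorem EvenV.twice {x : V} (hx : EvenV B f x) (i : Fin 24) : cv B f x i = 2 * half B f x i := by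
  have := hx i
  unfold half
  omega

theorem EvenV.add {x y : V} (hx : EvenV B f x) (hy : EvenV B f y) : EvenV B f (x + y) := fun i => by
  rw [map_add, Pi.add_apply]; exact dvd_add (hx i) (hy i)

theorem EvenV.pat_add {x y : V} (hx : EvenV B f x) (hy : EvenV B f y) :
    pat B f (x + y) = pat B f x + pat B f y := by
  funext i
  simp only [pat, Pi.add_apply, ← Int.cast_add]
  congr 1
  have := hx.twice i; have := hy.twice i; have := (hx.add hy).twice i
  have : cv B f (x + y) i = cv B f x i + cv B f y i := by rw [map_add, Pi.add_apply]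
  omega

theorem evenV_zero : EvenV B f 0 := fun i => by simp

theorem pat_zero : pat B f 0 = 0 := by
  funext i
  simp [pat, half]

/-- the code of a frame -/
def code (B : Matrix (Fin 24) (Fin 24) ℤ) (f : Fin 24 → V) : Submodule (ZMod 2) (Fin 24 → ZMod 2) where
  carrier := {c | ∃ x, EvenV B f x ∧ pat B f x = c}
  add_mem' := by
    rintro a b ⟨x, hx, rfl⟩ ⟨y, hy, rfl⟩
    exact ⟨x + y, hx.add hy, hx.pat_add hy⟩
  zero_mem' := ⟨0, evenV_zero, pat_zero⟩
  smul_mem' := fun a c hc => by
    rcases Code24.zmod_two a with e | e <;> subst e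
    · rw [zero_smul]; exact ⟨0, evenV_zero, pat_zero⟩
    · rw [one_smul]; exact hc

theorem pat_ne_iff {x : V} (i : Fin 24) : pat B f x i ≠ 0 ↔ half B f x i % 2 = 1 := by
  rw [pat, ne_eq, ZMod.intCast_zmod_eq_zero_iff_dvd]
  omega

/-- a self-orthogonal subspace of binary words of length 24 has dimension at most 12 -/
theorem orth_dim_le (C : Submodule (ZMod 2) (Fin 24 → ZMod 2))
    (ho : ∀ v ∈ C, ∀ w ∈ C, ∑ i, v i * w i = 0) : Module.finrank (ZMod 2) C ≤ 12 := by
  let Φ : (Fin 24 → ZMod 2) →ₗ[ZMod 2] Module.Dual (ZMod 2) C :=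
    { toFun := fun w => (Code24.dotL w).comp C.subtype
      map_add' := fun w w' => LinearMap.ext fun c => by simp [Code24.dotL_apply, add_mul, sum_add_distrib]
      map_smul' := fun a w => LinearMap.ext fun c => by simp [Code24.dotL_apply, mul_sum, mul_assoc] }
  have hsurj : Function.Surjective Φ := by
    intro g
    obtain ⟨g', hg⟩ := LinearMap.dualMap_surjective_of_injective C.injective_subtype g
    refine ⟨fun i => g' (Pi.single i 1), LinearMap.ext fun c => ?_⟩
    rw [← hg]
    show ∑ i, g' (Pi.single i 1) * (c : Fin 24 → ZMod 2) i = g' (c : Fin 24 → ZMod 2)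
    conv_rhs => rw [pi_eq_sum_univ' (c : Fin 24 → ZMod 2)]
    rw [map_sum]
    exact sum_congr rfl fun i _ => by rw [map_smul, smul_eq_mul, mul_comm]
  have hk : C ≤ LinearMap.ker Φ := fun c hc => LinearMap.ext fun d => ho c hc d d.2
  have e := LinearMap.finrank_range_add_finrank_ker Φ
  rw [LinearMap.range_eq_top.2 hsurj, finrank_top, Subspace.dual_finrank_eq,
    Module.finrank_fin_fun] at e
  have := Submodule.finrank_mono hk
  omega

namespace Frame

variable (h : Hyp B) (hf : Frame B f)

include h hf in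
theorem half_sq {x : V} (hx : EvenV B f x) : ∑ i, half B f x i ^ 2 = 2 * nrm B x := by
  have e := cv_sq h hf x
  have : ∀ i, cv B f x i ^ 2 = 4 * half B f x i ^ 2 := fun i => by rw [hx.twice i]; ring
  simp only [this, ← Finset.mul_sum] at e
  omega

include h hf in
theorem weight_four_dvd {x : V} (hx : EvenV B f x) : 4 ∣ hammingNorm (pat B f x) := by
  have e := half_sq h hf hx
  have d : (4 : ℤ) ∣ ∑ i, (half B f x i ^ 2 - if pat B f x i ≠ 0 then (1 : ℤ) else 0) :=
    Finset.dvd_sum fun i _ => by
      rcases Int.even_or_odd (half B f x i) with ⟨k, hk⟩ | ⟨k, hk⟩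
      · rw [if_neg (by rw [pat_ne_iff]; omega), hk]; exact ⟨k ^ 2, by ring⟩
      · rw [if_pos (by rw [pat_ne_iff]; omega), hk]; exact ⟨k ^ 2 + k, by ring⟩
  rw [Finset.sum_sub_distrib, Finset.sum_boole, e] at d
  have := h.even x
  have d' : (4 : ℤ) ∣ ((univ.filter fun i => pat B f x i ≠ 0).card : ℤ) := by
    omega
  exact Int.natCast_dvd_natCast.1 d'

include h hf in
theorem weight_ne_four {x : V} (hx : EvenV B f x) : hammingNorm (pat B f x) ≠ 4 := by
  intro h4
  set P := univ.filter fun i => pat B f x i ≠ 0 with hP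
  have hc : P.card = 4 := h4
  obtain ⟨p, hp⟩ : P.Nonempty := card_pos.1 (by omega)
  suffices ∀ t : Fin 24 → ℤ, (∀ i ∈ P, t i = 1 ∨ t i = -1) → (∀ i ∉ P, t i = 0) →
      Even (∑ i, (half B f x i - t i) / 2) → False by
    by_cases he : Even (∑ i, (half B f x i - if i ∈ P then 1 else 0) / 2)
    · exact this (fun i => if i ∈ P then 1 else 0) (fun i hi => Or.inl (if_pos hi)) (fun i hi => if_neg hi) he
    refine this (fun i => if i = p then -1 else if i ∈ P then 1 else 0) (fun i hi => ?_) (fun i hi => ?_) ?_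
    · by_cases e : i = p <;> simp [e, hi]
    · rw [if_neg (fun e : i = p => hi (e ▸ hp)), if_neg hi]
    · have e : ∀ i, (half B f x i - if i = p then -1 else if i ∈ P then 1 else 0) / 2 =
          (half B f x i - if i ∈ P then 1 else 0) / 2 + if i = p then 1 else 0 := by
        intro i
        by_cases ei : i = p
        · subst ei; simp only [if_true, if_pos hp]; omega
        · simp [ei]
      rw [Finset.sum_congr rfl fun i _ => e i, Finset.sum_add_distrib, Finset.sum_ite_eq', if_pos (mem_univ p)]
      exact Int.even_add_one.2 he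
  intro t ht1 ht0 hev
  obtain ⟨x', hx'⟩ := four_mem hf _ hev
  have hd : ∀ i, cv B f (x - x') i = 2 * t i := fun i => by
    rw [map_sub, Pi.sub_apply, congrFun hx' i, hx.twice i]
    by_cases hi : i ∈ P
    · have : half B f x i % 2 = 1 := (pat_ne_iff i).1 (mem_filter.1 hi).2
      rcases ht1 i hi with e | e <;> rw [e] <;> omega
    · have : ¬ half B f x i % 2 = 1 := fun e => hi (mem_filter.2 ⟨mem_univ _, (pat_ne_iff i).2 e⟩)
      rw [ht0 i hi]; omega
  have s := cv_sq h hf (x - x')
  have : ∀ i, cv B f (x - x') i ^ 2 = if i ∈ P then 4 else 0 := fun i => by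
    rw [hd]
    by_cases hi : i ∈ P
    · rw [if_pos hi]; rcases ht1 i hi with e | e <;> rw [e] <;> norm_num
    · rw [if_neg hi, ht0 i hi]; norm_num
  simp only [this, Finset.sum_ite_mem, univ_inter, Finset.sum_const, hc] at s
  exact h.no2 (x - x') (by norm_num at s; omega)

include h hf in
theorem code_min : ∀ c ∈ code B f, c ≠ 0 → 8 ≤ hammingNorm c := by
  rintro c ⟨x, hx, rfl⟩ hc
  have := weight_four_dvd h hf hx
  have := weight_ne_four h hf hx
  have : hammingNorm (pat B f x) ≠ 0 := fun e => hc (hammingNorm_eq_zero.1 e)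
  omega

include h hf in
theorem code_orth : ∀ v ∈ code B f, ∀ w ∈ code B f, ∑ i, v i * w i = 0 := by
  rintro v ⟨x, hx, rfl⟩ w ⟨y, hy, rfl⟩
  simp only [pat, ← Int.cast_mul, ← Int.cast_sum]
  rw [ZMod.intCast_zmod_eq_zero_iff_dvd]
  have e := cv_dot h hf x y
  have : ∀ i, cv B f x i * cv B f y i = 4 * (half B f x i * half B f y i) := fun i => by
    rw [hx.twice i, hy.twice i]; ring
  simp only [this, ← Finset.mul_sum] at e
  push_cast
  omega

include h hf in
theorem octs_le (W : Finset (Fin 24 → ZMod 2)) (hW : ∀ c ∈ W, c ∈ code B f ∧ hammingNorm c = 8) :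
    W.card ≤ 759 := by
  have hd : (↑W : Set (Fin 24 → ZMod 2)).PairwiseDisjoint fun c => (Code24.supp c).powersetCard 5 := by
    intro a ha b hb hab
    rw [Function.onFun, disjoint_left]
    intro s hsa hsb
    rw [mem_powersetCard] at hsa hsb
    have hi : 5 ≤ (Code24.supp a ∩ Code24.supp b).card :=
      hsa.2 ▸ card_le_card (subset_inter hsa.1 hsb.1)
    have := Code24.norm_add a b
    have ne : a + b ≠ 0 := by
      rw [← Code24.sub_eq_add']; exact sub_ne_zero.2 hab
    have := code_min h hf (a + b) (add_mem (hW a ha).1 (hW b hb).1) ne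
    have := (hW a ha).2
    have := (hW b hb).2
    omega
  have h1 := card_biUnion hd
  have h2 : (W.biUnion fun c => (Code24.supp c).powersetCard 5).card ≤ (univ : Finset (Fin 24)).card.choose 5 := by
    rw [← card_powersetCard]
    exact card_le_card fun s hs => by
      obtain ⟨c, -, hc⟩ := mem_biUnion.1 hs
      exact mem_powersetCard.2 ⟨subset_univ _, (mem_powersetCard.1 hc).2⟩
  rw [h1, card_univ, Fintype.card_fin] at h2
  rw [Finset.sum_congr rfl (g := fun _ => 56) (fun c hc => by
    rw [card_powersetCard, ← Code24.norm_eq, (hW c hc).2]; decide), Finset.sum_const, smul_eq_mul,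
    show Nat.choose 24 5 = 42504 by decide] at h2
  omega

end Frame

end Cfsg.Agent.Spor.LatticeChar
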