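import Cfsg.Agent.Lib.Spor.LatticeFrame
import Cfsg.Agent.Lib.Spor.LeechModTwo
import Cfsg.Agent.S0358
import Cfsg.Agent.S0359

/-!
An even lattice of rank 24 without roots, with the vector counts of the Leech lattice, is isometric to it.
-/

set_option autoImplicit false
set_option maxRecDepth 10000

open Matrix

namespace Cfsg.Agent.Spor.LatticeChar

open Finset

variable {B : Matrix (Fin 24) (Fin 24) ℤ} {f : Fin 24 → V}

/-- vectors all of whose coordinates are odd -/
def OddV (B : Matrix (Fin 24) (Fin 24) ℤ) (f : Fin 24 → V) (x : V) : Prop := ∀ i, cv B f x i % 2 = 1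

namespace Frame

variable (h : Hyp B) (hf : Frame B f)

include hf in
theorem even_or_odd (x : V) : EvenV B f x ∨ OddV B f x := by
  rcases Int.emod_two_eq (cv B f x 0) with e | e
  · exact Or.inl fun i => by have := parity hf x i 0; omega
  · exact Or.inr fun i => by have := parity hf x i 0; omega

include h hf in
theorem odd_shape {x : V} (hx : OddV B f x) (hn : nrm B x = 4) :
    ∃ k, cv B f x k ^ 2 = 9 ∧ ∀ i, i ≠ k → cv B f x i ^ 2 = 1 := by
  have s := cv_sq h hf x
  rw [hn] at s
  have ge : ∀ i, cv B f x i ^ 2 = 1 ∨ 9 ≤ cv B f x i ^ 2 := fun i => by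
    have := hx i
    have : cv B f x i = 1 ∨ cv B f x i = -1 ∨ 3 ≤ cv B f x i ∨ cv B f x i ≤ -3 := by omega
    rcases this with e | e | e | e
    · left; rw [e]; norm_num
    · left; rw [e]; norm_num
    · right; nlinarith
    · right; nlinarith
  obtain ⟨k, hk⟩ : ∃ k, 9 ≤ cv B f x k ^ 2 := by
    by_contra hh
    have e : ∀ i, cv B f x i ^ 2 = 1 := fun i => (ge i).resolve_right fun e => hh ⟨i, e⟩
    simp only [e, sum_const, card_univ, Fintype.card_fin] at s
    norm_num at s
  have sp := add_sum_erase univ (fun i => cv B f x i ^ 2) (mem_univ k)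
  beta_reduce at sp
  have one : ∀ i ∈ univ.erase k, (1 : ℤ) ≤ cv B f x i ^ 2 := fun i _ => by rcases ge i with e | e <;> omega
  have lb := card_nsmul_le_sum _ _ _ one
  rw [card_erase_of_mem (mem_univ k), card_univ, Fintype.card_fin] at lb
  norm_num at lb
  refine ⟨k, by omega, fun i hi => ?_⟩
  have e : ∑ i ∈ univ.erase k, (1 : ℤ) = ∑ i ∈ univ.erase k, cv B f x i ^ 2 := by
    rw [sum_const, card_erase_of_mem (mem_univ k), card_univ, Fintype.card_fin]
    norm_num; omega
  exact ((sum_eq_sum_iff_of_le one).1 e i (mem_erase.2 ⟨hi, mem_univ _⟩)).symm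

theorem pat_congr {x y : V} (hx : EvenV B f x) (hy : EvenV B f y) (e : pat B f x = pat B f y) (i : Fin 24) :
    cv B f x i % 4 = cv B f y i % 4 := by
  have e' : (2 : ℤ) ∣ half B f x i - half B f y i := by
    have := congrFun e i
    simp only [pat] at this
    rw [eq_comm, ZMod.intCast_eq_intCast_iff_dvd_sub] at this
    exact_mod_cast this
  have := hx.twice i; have := hy.twice i
  omega

theorem sub_even {x y : V} (hx : OddV B f x) (hy : OddV B f y) : EvenV B f (x - y) := fun i => by
  rw [map_sub, Pi.sub_apply]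
  have := hx i; have := hy i
  omega

/-- the words of the code as a finite set -/
noncomputable def words (B : Matrix (Fin 24) (Fin 24) ℤ) (f : Fin 24 → V) : Finset (Fin 24 → ZMod 2) := by
  classical exact univ.filter (· ∈ code B f)

theorem mem_words {c : Fin 24 → ZMod 2} : c ∈ words B f ↔ c ∈ code B f := by
  simp [words]

theorem card_words : (words B f).card = 2 ^ Module.finrank (ZMod 2) (code B f) := by
  classical
  have : (words B f).card = Fintype.card (code B f) :=
    (Fintype.card_of_subtype (words B f) fun c => mem_words).symm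
  rw [this, Module.card_eq_pow_finrank (K := ZMod 2), ZMod.card]

include h hf in
theorem odd_bound (O : Finset V) (hO : ∀ x ∈ O, OddV B f x ∧ nrm B x = 4) :
    O.card ≤ 24 * (words B f).card := by
  classical
  rcases O.eq_empty_or_nonempty with e | ⟨x0, hx0⟩
  · simp [e]
  have : ∀ x, ∃ k, x ∈ O → cv B f x k ^ 2 = 9 ∧ ∀ i, i ≠ k → cv B f x i ^ 2 = 1 := fun x => by
    by_cases hx : x ∈ O
    · obtain ⟨k, hk⟩ := odd_shape h hf (hO x hx).1 (hO x hx).2; exact ⟨k, fun _ => hk⟩
    · exact ⟨0, fun e => absurd e hx⟩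
  choose k hk using this
  have e : ((univ : Finset (Fin 24)) ×ˢ words B f).card = 24 * (words B f).card := by
    rw [card_product, card_univ, Fintype.card_fin]
  rw [← e]
  refine card_le_card_of_injOn (fun x => (k x, pat B f (x - x0))) (fun x hx => ?_) ?_
  · exact mem_product.2 ⟨mem_univ _, mem_words.2 ⟨x - x0, sub_even (hO x hx).1 (hO x0 hx0).1, rfl⟩⟩
  · intro x hx y hy hxy
    simp only [Prod.mk.injEq] at hxy
    have hm : ∀ i, cv B f x i % 4 = cv B f y i % 4 := fun i => by
      have := pat_congr (sub_even (hO x hx).1 (hO x0 hx0).1) (sub_even (hO y hy).1 (hO x0 hx0).1) hxy.2 i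
      rw [map_sub, map_sub, Pi.sub_apply, Pi.sub_apply] at this
      omega
    refine cv_inj h hf (funext fun i => ?_)
    have := hm i
    have hs : cv B f x i ^ 2 = cv B f y i ^ 2 := by
      by_cases hi : i = k x
      · rw [hi, (hk x hx).1, hxy.1, (hk y hy).1]
      · rw [(hk x hx).2 i hi, (hk y hy).2 i (hxy.1 ▸ hi)]
    rcases sq_eq_sq_iff_eq_or_eq_neg.1 hs with e | e
    · exact e
    · have := (hO x hx).1 i
      omega

include h hf in
theorem word_eight {x : V} (hx : EvenV B f x) (hn : nrm B x = 4) :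
    hammingNorm (pat B f x) = 0 ∨ (hammingNorm (pat B f x) = 8 ∧ ∀ i,
      (pat B f x i ≠ 0 → half B f x i = 1 ∨ half B f x i = -1) ∧ (pat B f x i = 0 → half B f x i = 0)) := by
  have s := half_sq h hf hx
  rw [hn] at s
  have le : ∀ i ∈ (univ : Finset (Fin 24)), (if pat B f x i ≠ 0 then (1 : ℤ) else 0) ≤ half B f x i ^ 2 :=
    fun i _ => by
      split_ifs with e
      · have := (pat_ne_iff i).1 e
        have : half B f x i ≤ -1 ∨ 1 ≤ half B f x i := by omega
        rcases this with e | e <;> nlinarith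
      · positivity
  have hle := sum_le_sum le
  rw [sum_boole, s] at hle
  have w : hammingNorm (pat B f x) ≤ 8 := by exact_mod_cast hle
  have := weight_four_dvd h hf hx
  have := weight_ne_four h hf hx
  rcases (show hammingNorm (pat B f x) = 0 ∨ hammingNorm (pat B f x) = 8 by omega) with e | e
  · exact Or.inl e
  refine Or.inr ⟨e, fun i => ?_⟩
  have eq : ∑ i, (if pat B f x i ≠ 0 then (1 : ℤ) else 0) = ∑ i, half B f x i ^ 2 := by
    rw [sum_boole, s, show (univ.filter fun i => pat B f x i ≠ 0).card = 8 from e]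
    norm_num
  have hi := (sum_eq_sum_iff_of_le le).1 eq i (mem_univ i)
  constructor
  · intro hp
    rw [if_pos hp] at hi
    exact sq_eq_one_iff.1 hi.symm
  · intro hp
    rw [if_neg (not_not.2 hp)] at hi
    exact pow_eq_zero_iff (n := 2) (by norm_num) |>.1 hi.symm

include h hf in
theorem eight_bound (E : Finset V) (hE : ∀ x ∈ E, EvenV B f x ∧ nrm B x = 4 ∧ hammingNorm (pat B f x) = 8) :
    E.card ≤ 128 * 759 := by
  classical
  have h1 : (E.image (pat B f)).card ≤ 759 := octs_le h hf _ fun c hc => by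
    obtain ⟨x, hx, rfl⟩ := mem_image.1 hc
    exact ⟨⟨x, (hE x hx).1, rfl⟩, (hE x hx).2.2⟩
  have h2 : E.card ≤ 128 * (E.image (pat B f)).card := by
    refine card_le_mul_card_image _ 128 fun c hc => ?_
    obtain ⟨x0, hx0, rfl⟩ := mem_image.1 hc
    set P := univ.filter fun i => pat B f x0 i ≠ 0 with hP
    have hPc : P.card = 8 := (hE x0 hx0).2.2
    obtain ⟨p, hp⟩ : P.Nonempty := card_pos.1 (by omega)
    have e : (P.erase p).powerset.card = 128 := by
      rw [card_powerset, card_erase_of_mem hp, hPc]; rfl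
    rw [← e]
    refine card_le_card_of_injOn (fun x => (P.erase p).filter fun i => half B f x i = 1)
      (fun x _ => mem_powerset.2 (filter_subset _ _)) ?_
    intro x hx y hy hxy
    obtain ⟨hx, hxp⟩ := mem_filter.1 hx
    obtain ⟨hy, hyp⟩ := mem_filter.1 hy
    have sx := ((word_eight h hf (hE x hx).1 (hE x hx).2.1).resolve_left
      (by rw [(hE x hx).2.2]; norm_num)).2
    have sy := ((word_eight h hf (hE y hy).1 (hE y hy).2.1).resolve_left
      (by rw [(hE y hy).2.2]; norm_num)).2
    have off : ∀ i, i ≠ p → half B f x i = half B f y i := fun i hi => by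
      by_cases hiP : i ∈ P
      · have hn : pat B f x0 i ≠ 0 := (mem_filter.1 hiP).2
        have ex := (sx i).1 (by rw [hxp]; exact hn)
        have ey := (sy i).1 (by rw [hyp]; exact hn)
        have hm := Finset.ext_iff.1 hxy i
        simp only [mem_filter, mem_erase, hi, hiP, ne_eq, not_false_eq_true, and_self, true_and] at hm
        rcases ex with a | a <;> rcases ey with b | b <;> simp_all
      · have hz : pat B f x0 i = 0 := by
          by_contra hn; exact hiP (mem_filter.2 ⟨mem_univ _, hn⟩)
        rw [(sx i).2 (by rw [hxp]; exact hz), (sy i).2 (by rw [hyp]; exact hz)]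
    by_contra hne
    have hpp : half B f x p ≠ half B f y p := fun e => hne (cv_inj h hf (funext fun i => by
      by_cases hi : i = p
      · subst hi; rw [(hE x hx).1.twice, (hE y hy).1.twice, e]
      · rw [(hE x hx).1.twice, (hE y hy).1.twice, off i hi]))
    have ex := (sx p).1 (by rw [hxp]; exact (mem_filter.1 hp).2)
    have ey := (sy p).1 (by rw [hyp]; exact (mem_filter.1 hp).2)
    have hev := four_even h hf (x := x - y) (Pi.single p ((half B f x p - half B f y p) / 2)) fun i => by
      rw [map_sub, Pi.sub_apply, (hE x hx).1.twice, (hE y hy).1.twice, Pi.single_apply]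
      by_cases hi : i = p
      · subst hi; rw [if_pos rfl]; rcases ex with a | a <;> rcases ey with b | b <;> omega
      · rw [if_neg hi, off i hi]; ring
    rw [Finset.sum_pi_single', if_pos (mem_univ p), Int.even_iff] at hev
    rcases ex with a | a <;> rcases ey with b | b <;> omega
  omega

include h hf in
theorem zero_bound (E : Finset V) (hE : ∀ x ∈ E, EvenV B f x ∧ nrm B x = 4 ∧ hammingNorm (pat B f x) = 0) :
    E.card ≤ 4 * 276 := by
  classical
  let t : V → Fin 24 → ℤ := fun x i => half B f x i / 2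
  have key : ∀ x ∈ E, (∀ i, half B f x i = 2 * t x i) ∧ (univ.filter fun i => t x i ≠ 0).card = 2 ∧
      ∀ i, t x i ≠ 0 → t x i = 1 ∨ t x i = -1 := by
    intro x hx
    obtain ⟨hev, hn, hw⟩ := hE x hx
    have p0 : pat B f x = 0 := hammingNorm_eq_zero.1 hw
    have ev : ∀ i, half B f x i = 2 * t x i := fun i => by
      have := mt (pat_ne_iff (B := B) (f := f) (x := x) i).2 (by simp [p0])
      simp only [t]; omega
    refine ⟨ev, ?_⟩
    have s := half_sq h hf hev
    rw [hn] at s
    simp only [ev, mul_pow, ← Finset.mul_sum] at s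
    have s2 : ∑ i, t x i ^ 2 = 2 := by norm_num at s; omega
    rw [← sum_filter_add_sum_filter_not univ (fun i => t x i ≠ 0),
      sum_eq_zero (s := univ.filter fun i => ¬ t x i ≠ 0) (fun i hi => by
        rw [not_not.1 (mem_filter.1 hi).2]; norm_num), add_zero] at s2
    set T := univ.filter fun i => t x i ≠ 0 with hT
    have one : ∀ i ∈ T, (1 : ℤ) ≤ t x i ^ 2 := fun i hi => by
      have := (mem_filter.1 hi).2
      have : t x i ≤ -1 ∨ 1 ≤ t x i := by omega
      rcases this with e | e <;> nlinarith
    have le := card_nsmul_le_sum _ _ _ one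
    rw [nsmul_eq_mul, mul_one, s2] at le
    have hc : T.card = 2 := by
      by_contra hc
      have : T.card = 0 ∨ T.card = 1 := by omega
      rcases this with c | c
      · rw [card_eq_zero.1 c, sum_empty] at s2; norm_num at s2
      · obtain ⟨i, hi⟩ := card_eq_one.1 c
        rw [hi, sum_singleton] at s2
        have : t x i ≤ -2 ∨ t x i = -1 ∨ t x i = 0 ∨ t x i = 1 ∨ 2 ≤ t x i := by omega
        rcases this with e | e | e | e | e <;> (try rw [e] at s2) <;> nlinarith
    refine ⟨hc, fun i hi => ?_⟩
    have eq : ∑ i ∈ T, (1 : ℤ) = ∑ i ∈ T, t x i ^ 2 := by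
      rw [s2, sum_const, hc]; rfl
    exact sq_eq_one_iff.1 ((sum_eq_sum_iff_of_le one).1 eq i (mem_filter.2 ⟨mem_univ _, hi⟩)).symm
  have h1 : E.card ≤ 4 * (E.image fun x => univ.filter fun i => t x i ≠ 0).card := by
    refine card_le_mul_card_image _ 4 fun P hP => ?_
    obtain ⟨x0, hx0, rfl⟩ := mem_image.1 hP
    have e : (univ.filter fun i => t x0 i ≠ 0).powerset.card = 4 := by
      rw [card_powerset, (key x0 hx0).2.1]; rfl
    rw [← e]
    refine card_le_card_of_injOn (fun x => (univ.filter fun i => t x0 i ≠ 0).filter fun i => t x i = 1)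
      (fun x _ => mem_powerset.2 (filter_subset _ _)) ?_
    intro x hx y hy hxy
    obtain ⟨hx, hxp⟩ := mem_filter.1 hx
    obtain ⟨hy, hyp⟩ := mem_filter.1 hy
    refine cv_inj h hf (funext fun i => ?_)
    rw [(hE x hx).1.twice, (hE y hy).1.twice, (key x hx).1, (key y hy).1]
    have mx := Finset.ext_iff.1 hxp i
    have my := Finset.ext_iff.1 hyp i
    have mi := Finset.ext_iff.1 hxy i
    simp only [mem_filter, mem_univ, true_and] at mx my mi
    by_cases h0 : t x0 i ≠ 0
    · rcases (key x hx).2.2 i (mx.2 h0) with a | a <;> rcases (key y hy).2.2 i (my.2 h0) with b | b <;>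
        simp_all
    · have : t x i = 0 := not_not.1 (mt mx.1 h0)
      have : t y i = 0 := not_not.1 (mt my.1 h0)
      simp_all
  have h2 : (E.image fun x => univ.filter fun i => t x i ≠ 0).card ≤ 276 := by
    refine (card_le_card (t := (univ : Finset (Fin 24)).powersetCard 2) fun P hP => ?_).trans ?_
    · obtain ⟨x, hx, rfl⟩ := mem_image.1 hP
      exact mem_powersetCard.2 ⟨subset_univ _, (key x hx).2.1⟩
    · rw [card_powersetCard, card_univ, Fintype.card_fin]; decide
  omega

include h hf in
theorem dim_and_odd :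
    Module.finrank (ZMod 2) (code B f) = 12 ∧ ∃ x, OddV B f x ∧ nrm B x = 4 := by
  classical
  obtain ⟨m4, c4⟩ := shell_spec h.n4 (by norm_num)
  set O := (shell B 4).filter fun x => OddV B f x with hO
  set R := (shell B 4).filter fun x => ¬ OddV B f x with hR
  have e1 : O.card + R.card = 196560 := by
    rw [← c4]; exact card_filter_add_card_filter_not _
  have hRe : ∀ x ∈ R, EvenV B f x ∧ nrm B x = 4 := fun x hx => by
    obtain ⟨a, b⟩ := mem_filter.1 hx
    exact ⟨(even_or_odd hf x).resolve_right b, (m4 x).1 a⟩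
  have e2 : (R.filter fun x => hammingNorm (pat B f x) = 0).card +
      (R.filter fun x => ¬ hammingNorm (pat B f x) = 0).card = R.card := card_filter_add_card_filter_not _
  have b0 := zero_bound h hf (R.filter fun x => hammingNorm (pat B f x) = 0) fun x hx => by
    obtain ⟨a, b⟩ := mem_filter.1 hx
    exact ⟨(hRe x a).1, (hRe x a).2, b⟩
  have b8 := eight_bound h hf (R.filter fun x => ¬ hammingNorm (pat B f x) = 0) fun x hx => by
    obtain ⟨a, b⟩ := mem_filter.1 hx
    exact ⟨(hRe x a).1, (hRe x a).2, ((word_eight h hf (hRe x a).1 (hRe x a).2).resolve_left b).1⟩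
  have bo := odd_bound h hf O fun x hx => ⟨(mem_filter.1 hx).2, (m4 x).1 (mem_filter.1 hx).1⟩
  have hd := orth_dim_le (code B f) (code_orth h hf)
  constructor
  · by_contra hne
    have : (words B f).card ≤ 2 ^ 11 := by
      rw [card_words]; exact Nat.pow_le_pow_right (by norm_num) (by omega)
    norm_num at this
    omega
  · obtain ⟨x, hx⟩ : O.Nonempty := card_pos.1 (by omega)
    exact ⟨x, (mem_filter.1 hx).2, (m4 x).1 (mem_filter.1 hx).1⟩

end Frame

/-- the sign making an odd number congruent to one modulo four -/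
def eps (a : ℤ) : ℤ := if a % 4 = 1 then 1 else -1

theorem eps_cases (a : ℤ) : eps a = 1 ∨ eps a = -1 := by unfold eps; split_ifs <;> simp

theorem eps_sq (a : ℤ) : eps a * eps a = 1 := by rcases eps_cases a with e | e <;> rw [e] <;> norm_num

theorem isometric_leech (h : Hyp B) : ∃ g : V ≃+ Cfsg.leechLattice,
    ∀ x, Cfsg.sqNorm ((g x : Cfsg.leechLattice) : GolayPt → ℤ) = 8 * nrm B x := by
  classical
  obtain ⟨f, hf⟩ := h.exists_frame
  obtain ⟨hdim, x0, hx0, hn0⟩ := Frame.dim_and_odd h hf
  have hg : Code24.Good Cfsg.golayCode := ⟨rfl, Cfsg.Agent.S0358.result,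
    fun v hv w hw => Cfsg.Agent.Spor.code_orth hv hw, fun w hw h0 => by
      rcases Cfsg.Agent.S0359.result w hw with e | e | e | e | e
      · exact absurd (hammingNorm_eq_zero.1 e) h0
      all_goals omega⟩
  have hc : Code24.Good (code B f) :=
    ⟨Fintype.card_fin 24, hdim, Frame.code_orth h hf, Frame.code_min h hf⟩
  obtain ⟨e, he⟩ := Code24.good_equiv hc hg
  let ε : Fin 24 → ℤ := fun i => eps (cv B f x0 i)
  let Φ : V →+ (GolayPt → ℤ) := AddMonoidHom.mk' (fun x p => ε (e.symm p) * cv B f x (e.symm p))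
    fun x y => funext fun p => by
      show ε _ * cv B f (x + y) _ = ε _ * cv B f x _ + ε _ * cv B f y _
      rw [map_add, Pi.add_apply, mul_add]
  have Φ_apply : ∀ x p, Φ x p = ε (e.symm p) * cv B f x (e.symm p) := fun _ _ => rfl
  have resum : ∀ F : GolayPt → ℤ, ∑ p, F p = ∑ i, F (e i) := fun F => (Equiv.sum_comp e F).symm
  have eps_odd : ∀ i, ε i = 1 ∨ ε i = -1 := fun i => eps_cases _
  -- the image of the odd vector
  obtain ⟨k, hk9, hk1⟩ := Frame.odd_shape h hf hx0 hn0
  have v0 : ∀ i, ε i * cv B f x0 i = if i = k then -3 else 1 := fun i => by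
    have hi := hx0 i
    by_cases hik : i = k
    · subst hik
      rw [if_pos rfl]
      rcases sq_eq_sq_iff_eq_or_eq_neg.1 (hk9.trans (by norm_num : (9 : ℤ) = 3 ^ 2)) with a | a <;>
        simp [ε, eps, a]
    · rw [if_neg hik]
      rcases sq_eq_one_iff.1 (hk1 i hik) with a | a <;> simp [ε, eps, a]
  have hv0 : Φ x0 ∈ Cfsg.leechLattice := by
    refine mem_leech.2 ⟨1, fun p => ?_, ?_, ?_⟩
    · rw [Φ_apply, v0]; split_ifs <;> norm_num
    · rw [resum]
      simp only [Φ_apply, Equiv.symm_apply_apply, v0]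
      rw [← add_sum_erase _ _ (mem_univ k), if_pos rfl, sum_congr rfl (g := fun _ => (1 : ℤ))
        (fun i hi => if_neg (ne_of_mem_erase hi)), sum_const, card_erase_of_mem (mem_univ k), card_univ,
        Fintype.card_fin]
      rfl
    · have : digit (Φ x0) = 0 := by
        funext p
        simp only [digit, Φ_apply, v0, Pi.zero_apply]
        split_ifs <;> decide
      rw [this]; exact zero_mem _
  -- the words of even vectors
  have hpat : ∀ x, EvenV B f x → ∀ i, digit (Φ x) (e i) = pat B f x i := by
    intro x hx i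
    rw [digit, pat, eq_comm, ZMod.intCast_eq_intCast_iff_dvd_sub, Φ_apply, Equiv.symm_apply_apply]
    have := hx.twice i
    rcases eps_odd i with a | a <;> rw [a] <;> omega
  have heven : ∀ x, EvenV B f x → Φ x ∈ Cfsg.leechLattice := by
    intro x hx
    refine mem_leech.2 ⟨0, fun p => ?_, ?_, ?_⟩
    · rw [Φ_apply]
      have := hx (e.symm p)
      rcases eps_odd (e.symm p) with a | a <;> rw [a] <;> omega
    · rw [resum]
      simp only [Φ_apply, Equiv.symm_apply_apply]
      have d := Frame.cv_dot h hf x x0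
      have d1 : (8 : ℤ) ∣ ∑ i, (cv B f x i * cv B f x0 i - ε i * cv B f x i) := Finset.dvd_sum fun i _ => by
        have e1 : cv B f x i * cv B f x0 i - ε i * cv B f x i =
            (ε i * cv B f x i) * (ε i * cv B f x0 i - 1) := by
          have := eps_sq (cv B f x0 i)
          linear_combination (-(cv B f x i * cv B f x0 i)) * this
        rw [e1, v0]
        obtain ⟨m, hm⟩ := hx i
        rw [hm]
        split_ifs
        · exact ⟨-(ε i * m), by ring⟩
        · exact ⟨0, by ring⟩
      rw [Finset.sum_sub_distrib, d] at d1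
      omega
    · refine (he _).2 ?_
      rw [show (fun i => digit (Φ x) (e i)) = pat B f x from funext (hpat x hx)]
      exact ⟨x, hx, rfl⟩
  have hall : ∀ x, Φ x ∈ Cfsg.leechLattice := fun x => by
    rcases Frame.even_or_odd hf x with hx | hx
    · exact heven x hx
    · have : x = (x - x0) + x0 := by abel
      rw [this, map_add]
      exact add_mem (heven _ (Frame.sub_even hx hx0)) hv0
  have hnorm : ∀ x, Cfsg.sqNorm (Φ x) = 8 * nrm B x := fun x => by
    rw [← Frame.cv_sq h hf x, Cfsg.sqNorm, resum]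
    refine sum_congr rfl fun i _ => ?_
    rw [Φ_apply, Equiv.symm_apply_apply, mul_pow, sq (ε i)]
    simp only [ε, eps_sq, one_mul]
  -- the map is onto
  have heven_onto : ∀ y ∈ Cfsg.leechLattice, (∀ p, y p % 2 = 0) → ∃ x, Φ x = y := by
    intro y hy hy2
    obtain ⟨m, -, -, hd⟩ := mem_leech.1 hy
    obtain ⟨x, hx, hxp⟩ := (he (digit y)).1 hd
    obtain ⟨m', hm1, hm2, -⟩ := mem_leech.1 (sub_mem hy (heven x hx))
    have d4 : ∀ i, (4 : ℤ) ∣ (y - Φ x) (e i) := fun i => by
      have h1 := hpat x hx i
      have h2 := congrFun hxp i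
      rw [h2] at h1
      simp only [digit] at h1
      rw [eq_comm, ZMod.intCast_eq_intCast_iff_dvd_sub] at h1
      have := hy2 (e i)
      have : Φ x (e i) % 2 = 0 := by
        rw [Φ_apply, Equiv.symm_apply_apply]
        have := hx i
        rcases eps_odd i with a | a <;> rw [a] <;> omega
      simp only [Pi.sub_apply]
      omega
    have hm' : m' % 2 = 0 := by
      have := hm1 (e 0); have := d4 0
      omega
    set n : Fin 24 → ℤ := fun i => ε i * ((y - Φ x) (e i) / 4) with hn
    have hev : Even (∑ i, n i) := by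
      have h1 : (2 : ℤ) ∣ ∑ i, (n i - (y - Φ x) (e i) / 4) := Finset.dvd_sum fun i _ => by
        rcases eps_odd i with a | a <;> simp only [hn, a] <;> omega
      rw [Finset.sum_sub_distrib] at h1
      rw [resum] at hm2
      rw [sum_congr rfl (g := fun i => 4 * ((y - Φ x) (e i) / 4)) (fun i _ => by have := d4 i; omega),
        ← Finset.mul_sum] at hm2
      rw [Int.even_iff]
      omega
    obtain ⟨x', hx'⟩ := Frame.four_mem hf n hev
    refine ⟨x + x', funext fun p => ?_⟩
    obtain ⟨i, rfl⟩ := e.surjective p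
    have e1 : Φ x' (e i) = (y - Φ x) (e i) := by
      have d := d4 i
      rw [Φ_apply, Equiv.symm_apply_apply, congrFun hx' i, hn]
      calc ε i * (4 * (ε i * ((y - Φ x) (e i) / 4))) = (ε i * ε i) * (4 * ((y - Φ x) (e i) / 4)) := by ring
        _ = (y - Φ x) (e i) := by simp only [ε, eps_sq, one_mul]; omega
    rw [map_add, Pi.add_apply, e1, Pi.sub_apply]
    ring
  have honto : ∀ y ∈ Cfsg.leechLattice, ∃ x, Φ x = y := by
    intro y hy
    obtain ⟨m, hm, -, -⟩ := mem_leech.1 hy
    rcases Int.emod_two_eq m with e1 | e1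
    · exact heven_onto y hy fun p => (hm p).trans e1
    · obtain ⟨x, hx⟩ := heven_onto (y - Φ x0) (sub_mem hy hv0) fun p => by
        have := hm p
        have hv : Φ x0 p % 2 = 1 := by rw [Φ_apply, v0]; split_ifs <;> norm_num
        rw [Pi.sub_apply]; omega
      exact ⟨x + x0, by rw [map_add, hx, sub_add_cancel]⟩
  have hinj : Function.Injective Φ := fun x y exy => Frame.cv_inj h hf (funext fun i => by
    have := congrFun exy (e i)
    rw [Φ_apply, Φ_apply, Equiv.symm_apply_apply] at this
    rcases eps_odd i with a | a <;> rw [a] at this <;> omega)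
  refine ⟨AddEquiv.ofBijective (Φ.codRestrict Cfsg.leechLattice hall) ⟨fun x y exy => ?_, fun y => ?_⟩,
    fun x => hnorm x⟩
  · exact hinj (congrArg Subtype.val exy)
  · obtain ⟨x, hx⟩ := honto y.1 y.2
    exact ⟨x, Subtype.ext hx⟩

end Cfsg.Agent.Spor.LatticeChar
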