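/-
The theta series of an even unimodular lattice of rank 24 is a modular form of weight 12.
-/
import Mathlib

set_option autoImplicit false
set_option maxRecDepth 10000
set_option maxHeartbeats 2000000

noncomputable section

namespace Cfsg.Agent.Spor.LatticeTheta

open Complex Matrix ModularForm
open scoped Real MatrixGroups Manifold UpperHalfPlane

/-- a finite product of sums is a sum over tuples -/
theorem pi_prod_tsum : ∀ (n : ℕ) (f : Fin n → ℤ → ℂ), (∀ i, Summable fun k => ‖f i k‖) →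
    (Summable fun k : Fin n → ℤ => ‖∏ i, f i (k i)‖) ∧
      ∏ i, ∑' k, f i k = ∑' k : Fin n → ℤ, ∏ i, f i (k i) := by
  intro n
  induction n with
  | zero =>
    intro f _
    exact ⟨(hasSum_fintype _).summable, by simp [tsum_fintype]⟩
  | succ n ih =>
    intro f hf
    obtain ⟨h1, h2⟩ := ih (fun i => f i.succ) fun i => hf i.succ
    have key : ∀ p : ℤ × (Fin n → ℤ), ∏ i, f i ((Fin.consEquiv fun _ => ℤ) p i) = f 0 p.1 * ∏ i, f i.succ (p.2 i) :=
      fun p => by simp [Fin.prod_univ_succ, Fin.consEquiv]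
    constructor
    · rw [← (Fin.consEquiv fun _ => ℤ).summable_iff]
      simp only [Function.comp_def, key]
      exact Summable.mul_norm (f := f 0) (g := fun k : Fin n → ℤ => ∏ i : Fin n, f i.succ (k i)) (hf 0) h1
    · rw [← (Fin.consEquiv fun _ => ℤ).tsum_eq (fun k => ∏ i, f i (k i))]
      simp only [key]
      rw [Fin.prod_univ_succ, h2]
      exact tsum_mul_tsum_of_summable_norm (f := f 0) (g := fun k : Fin n → ℤ => ∏ i : Fin n, f i.succ (k i)) (hf 0) h1

theorem summable_norm_term {τ : ℂ} (hτ : 0 < τ.im) (z : ℂ) : Summable fun k : ℤ => ‖jacobiTheta₂_term k z τ‖ :=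
  ((summable_jacobiTheta₂_term_iff z τ).2 hτ).norm

theorem half_pow_mul {a : ℝ} (ha : 0 < a) {w : ℂ} (hw : w ≠ 0) :
    ((a : ℂ) * w) ^ (1 / 2 : ℂ) = ((a : ℂ) ^ (1 / 2 : ℂ)) * w ^ (1 / 2 : ℂ) := by
  have ha' : (a : ℂ) ≠ 0 := by exact_mod_cast ha.ne'
  rw [cpow_def_of_ne_zero (mul_ne_zero ha' hw), cpow_def_of_ne_zero ha', cpow_def_of_ne_zero hw,
    log_ofReal_mul ha hw, ← ofReal_log ha.le, ← Complex.exp_add, add_mul]

theorem half_pow_pow (w : ℂ) : (w ^ (1 / 2 : ℂ)) ^ (24 : ℕ) = w ^ 12 := by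
  rw [show (24 : ℕ) = 2 * 12 from rfl, pow_mul, show (1 / 2 : ℂ) = ((2 : ℕ) : ℂ)⁻¹ by norm_num,
    cpow_nat_inv_pow w two_ne_zero]

variable (B : Matrix (Fin 24) (Fin 24) ℤ)

/-- the norm -/
def nq (x : Fin 24 → ℤ) : ℤ := x ⬝ᵥ (B *ᵥ x)

/-- hypotheses -/
structure Even24 : Prop where
  symm : B.IsSymm
  pos : ∀ x : Fin 24 → ℤ, x ≠ 0 → 0 < nq B x
  even : ∀ x : Fin 24 → ℤ, (2 : ℤ) ∣ nq B x
  det : B.det = 1

theorem Even24.nonneg {B} (h : Even24 B) (x : Fin 24 → ℤ) : 0 ≤ nq B x := by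
  rcases eq_or_ne x 0 with rfl | hx
  · simp [nq]
  · exact (h.pos x hx).le

/-- half the norm -/
def deg (x : Fin 24 → ℤ) : ℕ := (nq B x / 2).toNat

theorem Even24.deg_spec {B} (h : Even24 B) (x : Fin 24 → ℤ) : nq B x = 2 * (deg B x : ℤ) := by
  obtain ⟨c, hc⟩ := h.even x
  have := h.nonneg x
  rw [deg, hc]
  omega

/-- real cast of integer vectors -/
def rc (x : Fin 24 → ℤ) : Fin 24 → ℝ := fun i => (x i : ℝ)

theorem rc_mulVec (M : Matrix (Fin 24) (Fin 24) ℤ) (x : Fin 24 → ℤ) :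
    rc (M *ᵥ x) = (M.map (Int.cast : ℤ → ℝ)) *ᵥ rc x := by
  funext i
  simp [rc, Matrix.mulVec, dotProduct]

/-- an orthogonal sublattice -/
structure Frame where
  P : Matrix (Fin 24) (Fin 24) ℤ
  a : Fin 24 → ℤ
  orth : P.transpose * B * P = Matrix.diagonal a
  apos : ∀ i, 0 < a i
  dne : P.det ≠ 0

theorem exists_frame {B} (h : Even24 B) : Nonempty (Frame B) := by
  classical
  letI : Invertible (2 : ℚ) := invertibleOfNonzero two_ne_zero
  set BQ : Matrix (Fin 24) (Fin 24) ℚ := B.map (Int.cast : ℤ → ℚ) with hBQ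
  have hsymQ : BQ.IsSymm := h.symm.map _
  obtain ⟨v, hv⟩ := LinearMap.BilinForm.exists_orthogonal_basis (B := Matrix.toBilin' BQ) (by
    refine ⟨fun x y => ?_⟩
    simp only [Matrix.toBilin'_apply', RingHom.id_apply]
    rw [dotProduct_mulVec, ← Matrix.mulVec_transpose, hsymQ, dotProduct_comm])
  have hfin : Module.finrank ℚ (Fin 24 → ℚ) = 24 := Module.finrank_fin_fun ℚ
  let v' : Module.Basis (Fin 24) ℚ (Fin 24 → ℚ) := v.reindex (finCongr hfin)
  have hv' : ∀ i j, i ≠ j → Matrix.toBilin' BQ (v' i) (v' j) = 0 := fun i j hij => by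
    simp only [v', Module.Basis.reindex_apply]
    exact hv fun e => hij ((finCongr hfin).symm.injective e)
  set D : ℕ := ∏ p : Fin 24 × Fin 24, (v' p.1 p.2).den with hD
  have hD0 : D ≠ 0 := Finset.prod_ne_zero_iff.2 fun p _ => (v' p.1 p.2).den_nz
  let P : Matrix (Fin 24) (Fin 24) ℤ := Matrix.of fun i j => (v' j i).num * ((D / (v' j i).den : ℕ) : ℤ)
  have hPQ : ∀ i j, ((P i j : ℤ) : ℚ) = (D : ℚ) * v' j i := fun i j => by
    have hd : (v' j i).den ∣ D := Finset.dvd_prod_of_mem (fun p : Fin 24 × Fin 24 => (v' p.1 p.2).den) (Finset.mem_univ (j, i))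
    simp only [P, Matrix.of_apply, Int.cast_mul, Int.cast_natCast]
    rw [Nat.cast_div hd (by exact_mod_cast (v' j i).den_nz)]
    conv_rhs => rw [← Rat.num_div_den (v' j i)]
    ring
  have hPm : P.map (Int.cast : ℤ → ℚ) = (D : ℚ) • ((Pi.basisFun ℚ (Fin 24)).toMatrix v') := by
    ext i j
    rw [Matrix.map_apply, Matrix.smul_apply, Module.Basis.toMatrix_apply, Pi.basisFun_repr, hPQ, smul_eq_mul]
  have hdet : P.det ≠ 0 := by
    intro h0
    have h1 : (P.map (Int.cast : ℤ → ℚ)).det = 0 := by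
      rw [show P.map (Int.cast : ℤ → ℚ) = (Int.castRingHom ℚ).mapMatrix P from rfl, ← RingHom.map_det, h0, map_zero]
    rw [hPm, Matrix.det_smul, mul_eq_zero] at h1
    rcases h1 with h1 | h1
    · exact hD0 (by exact_mod_cast (pow_eq_zero_iff (by simp)).1 h1)
    · haveI := (Pi.basisFun ℚ (Fin 24)).invertibleToMatrix v'
      exact (Matrix.isUnit_det_of_invertible ((Pi.basisFun ℚ (Fin 24)).toMatrix v')).ne_zero h1
  have hoff : ∀ i j, i ≠ j → (P.transpose * B * P) i j = 0 := fun i j hij => by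
    have e : (((P.transpose * B * P) i j : ℤ) : ℚ) = (D : ℚ) * D * Matrix.toBilin' BQ (v' i) (v' j) := by
      rw [Matrix.toBilin'_apply]
      simp only [Matrix.mul_apply, Matrix.transpose_apply, hBQ, Matrix.map_apply, Finset.sum_mul, Finset.mul_sum]
      push_cast
      rw [Finset.sum_comm]
      refine Finset.sum_congr rfl fun k _ => Finset.sum_congr rfl fun l _ => ?_
      rw [hPQ, hPQ]; ring
    rw [hv' i j hij, mul_zero] at e
    exact_mod_cast e
  refine ⟨⟨P, fun i => (P.transpose * B * P) i i, ?_, fun i => ?_, hdet⟩⟩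
  · ext i j
    rcases eq_or_ne i j with rfl | hij
    · rw [Matrix.diagonal_apply_eq]
    · rw [Matrix.diagonal_apply_ne _ hij, hoff i j hij]
  · have e : (P.transpose * B * P) i i = nq B (fun k => P k i) := by
      rw [Matrix.mul_assoc]
      simp [nq, dotProduct, Matrix.mulVec, Matrix.mul_apply, Matrix.transpose_apply]
    rw [e]
    refine h.pos _ fun h0 => hdet ?_
    exact Matrix.det_eq_zero_of_column_eq_zero i fun k => congrFun h0 k

variable {B}

theorem mulVec_inj {P : Matrix (Fin 24) (Fin 24) ℤ} (hP : P.det ≠ 0) : Function.Injective (P *ᵥ ·) := fun x y h => by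
  have h' := congrArg (P.adjugate *ᵥ ·) h
  simp only [Matrix.mulVec_mulVec, Matrix.adjugate_mul, Matrix.smul_mulVec, Matrix.one_mulVec] at h'
  funext i
  have := congrFun h' i
  simp only [Pi.smul_apply, smul_eq_mul] at this
  exact mul_left_cancel₀ hP this

theorem finite_quot (L : AddSubgroup (Fin 24 → ℤ)) (d : ℤ) (hd : d ≠ 0) (hL : ∀ x, d • x ∈ L) :
    Finite ((Fin 24 → ℤ) ⧸ L) := by
  haveI hN : NeZero d.natAbs := ⟨Int.natAbs_ne_zero.2 hd⟩
  let f : (Fin 24 → Fin d.natAbs) → (Fin 24 → ℤ) ⧸ L := fun y =>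
    QuotientAddGroup.mk (fun i => ((y i).val : ℤ))
  have hpos : (0 : ℤ) < |d| := abs_pos.2 hd
  refine Finite.of_surjective f fun q => ?_
  obtain ⟨x, rfl⟩ := QuotientAddGroup.mk_surjective q
  have h1 : ∀ i, 0 ≤ x i % d ∧ x i % d < |d| := fun i => ⟨Int.emod_nonneg _ hd, Int.emod_lt_abs _ hd⟩
  refine ⟨fun i => ⟨(x i % d).toNat, by have := h1 i; rw [Int.abs_eq_natAbs] at this; omega⟩, ?_⟩
  rw [QuotientAddGroup.eq]
  convert hL (fun i => x i / d) using 1
  funext i
  have := h1 i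
  have e := Int.mul_ediv_add_emod (x i) d
  simp only [Pi.add_apply, Pi.neg_apply, Pi.smul_apply, smul_eq_mul]
  rw [Int.toNat_of_nonneg this.1]
  linarith

namespace Frame

variable (F : Frame B)

/-- the sublattice -/
def sub : AddSubgroup (Fin 24 → ℤ) := (Matrix.mulVecLin F.P).toAddMonoidHom.range

theorem inj : Function.Injective (F.P *ᵥ ·) := mulVec_inj F.dne

theorem adj_mem (x : Fin 24 → ℤ) : F.P.det • x ∈ F.sub :=
  ⟨F.P.adjugate *ᵥ x, by simp [Matrix.mulVec_mulVec, Matrix.mul_adjugate, Matrix.smul_mulVec]⟩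

instance quot_finite : Finite ((Fin 24 → ℤ) ⧸ F.sub) :=
  finite_quot F.sub F.P.det F.dne F.adj_mem

instance quot_fintype : Fintype ((Fin 24 → ℤ) ⧸ F.sub) := Fintype.ofFinite _

/-- coset representatives -/
def rep (c : (Fin 24 → ℤ) ⧸ F.sub) : Fin 24 → ℤ := Quotient.out c

/-- all vectors -/
def split : ((Fin 24 → ℤ) ⧸ F.sub) × (Fin 24 → ℤ) ≃ (Fin 24 → ℤ) :=
  Equiv.ofBijective (fun p => F.rep p.1 + F.P *ᵥ p.2) ⟨fun p q h => by
    simp only at h
    have hm : ∀ p : ((Fin 24 → ℤ) ⧸ F.sub) × (Fin 24 → ℤ),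
        ((F.rep p.1 + F.P *ᵥ p.2 : Fin 24 → ℤ) : (Fin 24 → ℤ) ⧸ F.sub) = p.1 := fun p => by
      have hz : ((F.P *ᵥ p.2 : Fin 24 → ℤ) : (Fin 24 → ℤ) ⧸ F.sub) = 0 :=
        (QuotientAddGroup.eq_zero_iff _).2 (show (Matrix.mulVecLin F.P).toAddMonoidHom p.2 ∈ F.sub from AddMonoidHom.mem_range.2 ⟨p.2, rfl⟩)
      calc _ = ((F.rep p.1 : Fin 24 → ℤ) : (Fin 24 → ℤ) ⧸ F.sub) + ((F.P *ᵥ p.2 : Fin 24 → ℤ) : (Fin 24 → ℤ) ⧸ F.sub) :=
            QuotientAddGroup.mk_add _ _ _
        _ = _ := by rw [hz, add_zero, rep, QuotientAddGroup.out_eq']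
    have h1 : p.1 = q.1 := by rw [← hm p, ← hm q, h]
    rw [h1, add_right_inj] at h
    exact Prod.ext h1 (F.inj h),
  fun x => by
    have h : -F.rep (x : (Fin 24 → ℤ) ⧸ F.sub) + x ∈ F.sub := by
      rw [← QuotientAddGroup.eq, rep, QuotientAddGroup.out_eq']
    obtain ⟨k, hk⟩ := h
    refine ⟨((x : (Fin 24 → ℤ) ⧸ F.sub), k), ?_⟩
    show F.rep _ + F.P *ᵥ k = x
    rw [show F.P *ᵥ k = -F.rep (x : (Fin 24 → ℤ) ⧸ F.sub) + x from hk, add_neg_cancel_left]⟩

/-- rational coordinates -/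
def co (x : Fin 24 → ℤ) (i : Fin 24) : ℝ := ((F.P.adjugate *ᵥ x) i : ℝ) / (F.P.det : ℝ)

theorem co_mulVec (k : Fin 24 → ℤ) (i : Fin 24) : F.co (F.P *ᵥ k) i = (k i : ℝ) := by
  have hd : (F.P.det : ℝ) ≠ 0 := by exact_mod_cast F.dne
  rw [co, Matrix.mulVec_mulVec, Matrix.adjugate_mul, Matrix.smul_mulVec, Matrix.one_mulVec, Pi.smul_apply,
    smul_eq_mul, Int.cast_mul, mul_div_cancel_left₀ _ hd]

theorem co_add (x y : Fin 24 → ℤ) (i : Fin 24) : F.co (x + y) i = F.co x i + F.co y i := by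
  simp only [co, Matrix.mulVec_add, Pi.add_apply, Int.cast_add, add_div]

theorem co_split (c : (Fin 24 → ℤ) ⧸ F.sub) (k : Fin 24 → ℤ) (i : Fin 24) :
    F.co (F.split (c, k)) i = (k i : ℝ) + F.co (F.rep c) i := by
  show F.co (F.rep c + F.P *ᵥ k) i = _
  rw [co_add, co_mulVec, add_comm]

theorem gram (x : Fin 24 → ℤ) : F.P.transpose *ᵥ (B *ᵥ (F.P *ᵥ x)) = fun i => F.a i * x i := by
  rw [Matrix.mulVec_mulVec, Matrix.mulVec_mulVec, F.orth]
  funext i
  rw [Matrix.mulVec_diagonal]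

/-- the norm in coordinates -/
theorem nq_co (x : Fin 24 → ℤ) : (nq B x : ℝ) = ∑ i, (F.a i : ℝ) * F.co x i ^ 2 := by
  have hd : (F.P.det : ℝ) ≠ 0 := by exact_mod_cast F.dne
  have e : F.P.det * F.P.det * nq B x = ∑ i, F.a i * (F.P.adjugate *ᵥ x) i ^ 2 := by
    have h1 : F.P *ᵥ (F.P.adjugate *ᵥ x) = F.P.det • x := by
      rw [Matrix.mulVec_mulVec, Matrix.mul_adjugate, Matrix.smul_mulVec, Matrix.one_mulVec]
    have h2 : nq B (F.P *ᵥ (F.P.adjugate *ᵥ x)) = ∑ i, F.a i * (F.P.adjugate *ᵥ x) i ^ 2 := by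
      set k := F.P.adjugate *ᵥ x
      have ed : ∀ w, (F.P *ᵥ k) ⬝ᵥ w = k ⬝ᵥ (F.P.transpose *ᵥ w) := fun w => by
        rw [dotProduct_comm, Matrix.dotProduct_mulVec, dotProduct_comm, Matrix.mulVec_transpose]
      rw [nq, ed, gram]
      exact Finset.sum_congr rfl fun i _ => by ring
    rw [← h2, h1, nq, nq, Matrix.mulVec_smul, smul_dotProduct, dotProduct_smul, smul_eq_mul, smul_eq_mul]
    ring
  have e' : (F.P.det : ℝ) * F.P.det * (nq B x : ℝ) = ∑ i, (F.a i : ℝ) * ((F.P.adjugate *ᵥ x) i : ℝ) ^ 2 := by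
    exact_mod_cast e
  simp only [co, div_pow, ← mul_div_assoc, ← Finset.sum_div]
  rw [← e', eq_div_iff (pow_ne_zero 2 hd)]
  ring

end Frame

/-- the summand -/
def term (B : Matrix (Fin 24) (Fin 24) ℤ) (τ : ℂ) (x : Fin 24 → ℤ) : ℂ := cexp (π * I * τ * (nq B x : ℂ))

/-- the theta series -/
def theta (B : Matrix (Fin 24) (Fin 24) ℤ) (τ : ℂ) : ℂ := ∑' x : Fin 24 → ℤ, term B τ x

namespace Frame

variable (F : Frame B)

theorem term_split (τ : ℂ) (c : (Fin 24 → ℤ) ⧸ F.sub) (k : Fin 24 → ℤ) :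
    term B τ (F.split (c, k)) = ∏ i, cexp (π * I * τ * (F.a i : ℂ) * (F.co (F.rep c) i : ℂ) ^ 2) *
      jacobiTheta₂_term (k i) (τ * (F.a i : ℂ) * (F.co (F.rep c) i : ℂ)) (τ * (F.a i : ℂ)) := by
  simp only [term, jacobiTheta₂_term, ← Complex.exp_add, ← Complex.exp_sum]
  congr 1
  rw [show (nq B (F.split (c, k)) : ℂ) = ((nq B (F.split (c, k)) : ℝ) : ℂ) by norm_cast, F.nq_co]
  push_cast
  rw [Finset.mul_sum]
  refine Finset.sum_congr rfl fun i _ => ?_
  rw [co_split]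
  push_cast
  ring

theorem im_scale {τ : ℂ} (hτ : 0 < τ.im) (i : Fin 24) : 0 < (τ * (F.a i : ℂ)).im := by
  have : (0 : ℝ) < (F.a i : ℝ) := by exact_mod_cast F.apos i
  simp
  positivity

theorem factor_summable {τ : ℂ} (hτ : 0 < τ.im) (c : (Fin 24 → ℤ) ⧸ F.sub) (i : Fin 24) :
    Summable fun k : ℤ => ‖cexp (π * I * τ * (F.a i : ℂ) * (F.co (F.rep c) i : ℂ) ^ 2) *
      jacobiTheta₂_term k (τ * (F.a i : ℂ) * (F.co (F.rep c) i : ℂ)) (τ * (F.a i : ℂ))‖ := by
  simp only [norm_mul]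
  exact (summable_norm_term (F.im_scale hτ i) _).mul_left _

theorem coset_sum {τ : ℂ} (hτ : 0 < τ.im) (c : (Fin 24 → ℤ) ⧸ F.sub) :
    Summable (fun k => ‖term B τ (F.split (c, k))‖) ∧
      ∑' k, term B τ (F.split (c, k)) = ∏ i, cexp (π * I * τ * (F.a i : ℂ) * (F.co (F.rep c) i : ℂ) ^ 2) *
        jacobiTheta₂ (τ * (F.a i : ℂ) * (F.co (F.rep c) i : ℂ)) (τ * (F.a i : ℂ)) := by
  obtain ⟨h1, h2⟩ := pi_prod_tsum 24 _ (F.factor_summable hτ c)
  simp only [term_split]
  refine ⟨h1, ?_⟩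
  rw [← h2]
  exact Finset.prod_congr rfl fun i _ => by rw [tsum_mul_left]; rfl

theorem summable_term (F : Frame B) {τ : ℂ} (hτ : 0 < τ.im) : Summable fun x => ‖term B τ x‖ := by
  rw [← F.split.summable_iff]
  exact (summable_prod_of_nonneg fun _ => norm_nonneg _).2
    ⟨fun c => (F.coset_sum hτ c).1, Summable.of_finite⟩

theorem theta_eq (F : Frame B) {τ : ℂ} (hτ : 0 < τ.im) :
    theta B τ = ∑ c, ∏ i, cexp (π * I * τ * (F.a i : ℂ) * (F.co (F.rep c) i : ℂ) ^ 2) *
      jacobiTheta₂ (τ * (F.a i : ℂ) * (F.co (F.rep c) i : ℂ)) (τ * (F.a i : ℂ)) := by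
  rw [theta, ← F.split.tsum_eq]
  refine (Summable.tsum_prod' (f := fun p => term B τ (F.split p)) (F.split.summable_iff.2 (F.summable_term hτ).of_norm) fun c => (F.coset_sum hτ c).1.of_norm).trans ?_
  rw [tsum_fintype]
  exact Finset.sum_congr rfl fun c _ => (F.coset_sum hτ c).2

/-- the character attached to a dual vector -/
def chi (k : Fin 24 → ℤ) (x : Fin 24 → ℤ) : ℂ := cexp (2 * π * I * ∑ i, (k i : ℂ) * (F.co x i : ℂ))

theorem chi_add (k x y : Fin 24 → ℤ) : F.chi k (x + y) = F.chi k x * F.chi k y := by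
  simp only [chi, co_add, ← Complex.exp_add, ← mul_add, ← Finset.sum_add_distrib]
  push_cast
  simp only [mul_add]

theorem chi_sub_one (k m : Fin 24 → ℤ) (hm : m ∈ F.sub) : F.chi k m = 1 := by
  obtain ⟨l, rfl⟩ := hm
  show F.chi k (F.P *ᵥ l) = 1
  simp only [chi, co_mulVec]
  rw [Complex.exp_eq_one_iff]
  exact ⟨∑ i, k i * l i, by push_cast; ring⟩

theorem chi_rep (k x : Fin 24 → ℤ) : F.chi k (F.rep (x : (Fin 24 → ℤ) ⧸ F.sub)) = F.chi k x := by
  have h : -F.rep (x : (Fin 24 → ℤ) ⧸ F.sub) + x ∈ F.sub := by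
    rw [← QuotientAddGroup.eq, rep, QuotientAddGroup.out_eq']
  conv_rhs => rw [← add_neg_cancel_left (F.rep (x : (Fin 24 → ℤ) ⧸ F.sub)) x]
  rw [chi_add, F.chi_sub_one k _ h, mul_one]

/-- dual vectors of lattice vectors -/
def dual (x : Fin 24 → ℤ) : Fin 24 → ℤ := F.P.transpose *ᵥ (B *ᵥ x)

theorem dual_co (x : Fin 24 → ℤ) (i : Fin 24) : (F.dual x i : ℝ) = (F.a i : ℝ) * F.co x i := by
  have hd : (F.P.det : ℝ) ≠ 0 := by exact_mod_cast F.dne
  have e := congrFun (F.gram (F.P.adjugate *ᵥ x)) i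
  rw [show F.P *ᵥ (F.P.adjugate *ᵥ x) = F.P.det • x by
    rw [Matrix.mulVec_mulVec, Matrix.mul_adjugate, Matrix.smul_mulVec, Matrix.one_mulVec],
    Matrix.mulVec_smul, Matrix.mulVec_smul, Pi.smul_apply, smul_eq_mul] at e
  have e' : (F.P.det : ℝ) * (F.dual x i : ℝ) = (F.a i : ℝ) * ((F.P.adjugate *ᵥ x) i : ℝ) := by
    exact_mod_cast e
  rw [co, ← mul_div_assoc, ← e', mul_div_cancel_left₀ _ hd]

theorem chi_dual (x w : Fin 24 → ℤ) : F.chi (F.dual x) w = 1 := by
  have hd : (F.P.det : ℝ) ≠ 0 := by exact_mod_cast F.dne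
  have e : ∑ i, (F.dual x i : ℝ) * F.co w i = (((B *ᵥ x) ⬝ᵥ w : ℤ) : ℝ) := by
    simp only [co, ← mul_div_assoc, ← Finset.sum_div]
    rw [div_eq_iff hd]
    have e0 : F.dual x ⬝ᵥ (F.P.adjugate *ᵥ w) = ((B *ᵥ x) ⬝ᵥ w) * F.P.det := by
      rw [dual, Matrix.mulVec_transpose, ← Matrix.dotProduct_mulVec, Matrix.mulVec_mulVec, Matrix.mul_adjugate,
        Matrix.smul_mulVec, Matrix.one_mulVec, dotProduct_smul, smul_eq_mul, mul_comm]
    have := congrArg (Int.cast : ℤ → ℝ) e0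
    simpa [dotProduct] using this
  rw [chi, show (∑ i, (F.dual x i : ℂ) * (F.co w i : ℂ)) = ((∑ i, (F.dual x i : ℝ) * F.co w i : ℝ) : ℂ) by
    push_cast; rfl, e, Complex.exp_eq_one_iff]
  exact ⟨(B *ᵥ x) ⬝ᵥ w, by push_cast; ring⟩

theorem dual_injective (h : Even24 B) : Function.Injective F.dual := fun x y e => by
  refine mulVec_inj (P := B) (by rw [h.det]; norm_num) ?_
  exact mulVec_inj (P := F.P.transpose) (by rw [Matrix.det_transpose]; exact F.dne) e

theorem dual_of_trivial (h : Even24 B) (k : Fin 24 → ℤ) (hk : ∀ w, F.chi k w = 1) : k ∈ Set.range F.dual := by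
  have hd : (F.P.det : ℝ) ≠ 0 := by exact_mod_cast F.dne
  have hint : ∀ j, ∃ m : ℤ, ∑ i, k i * F.P.adjugate i j = F.P.det * m := by
    intro j
    obtain ⟨m, hm⟩ := Complex.exp_eq_one_iff.1 (hk (Pi.single j 1))
    refine ⟨m, ?_⟩
    have h2 : (2 * π * I : ℂ) ≠ 0 := by simp [Real.pi_ne_zero]
    rw [mul_comm (m : ℂ)] at hm
    have h3 := mul_left_cancel₀ h2 hm
    simp only [co, Matrix.mulVec_single_one, Matrix.col_apply] at h3
    have h4 : (∑ i, (k i : ℝ) * ((F.P.adjugate i j : ℝ) / (F.P.det : ℝ))) = (m : ℝ) := by exact_mod_cast h3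
    simp only [← mul_div_assoc, ← Finset.sum_div] at h4
    rw [div_eq_iff hd, mul_comm (m : ℝ)] at h4
    exact_mod_cast h4
  choose y hy using hint
  refine ⟨B.adjugate *ᵥ y, ?_⟩
  have e : F.P.det • (F.P.transpose *ᵥ y) = F.P.det • k := by
    have e1 : F.P.adjugate.transpose *ᵥ k = F.P.det • y := funext fun j => by
      rw [Pi.smul_apply, smul_eq_mul, ← hy j]
      simp [Matrix.mulVec, dotProduct, mul_comm]
    rw [← Matrix.mulVec_smul, ← e1, Matrix.mulVec_mulVec, ← Matrix.transpose_mul, Matrix.adjugate_mul,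
      Matrix.transpose_smul, Matrix.transpose_one, Matrix.smul_mulVec, Matrix.one_mulVec]
  show F.P.transpose *ᵥ (B *ᵥ (B.adjugate *ᵥ y)) = k
  rw [show B *ᵥ (B.adjugate *ᵥ y) = y by rw [Matrix.mulVec_mulVec, Matrix.mul_adjugate, h.det, one_smul, Matrix.one_mulVec]]
  funext i
  have := congrFun e i
  simp only [Pi.smul_apply, smul_eq_mul] at this
  exact mul_left_cancel₀ F.dne this

open Classical in
theorem chi_sum (h : Even24 B) (k : Fin 24 → ℤ) :
    (∑ c, F.chi k (F.rep c)) = if k ∈ Set.range F.dual then (Fintype.card ((Fin 24 → ℤ) ⧸ F.sub) : ℂ) else 0 := by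
  classical
  split_ifs with hk
  · obtain ⟨x, rfl⟩ := hk
    simp [chi_dual]
  · obtain ⟨w, hw⟩ : ∃ w, F.chi k w ≠ 1 := by
      by_contra hc; push_neg at hc; exact hk (F.dual_of_trivial h k hc)
    have e : F.chi k w * ∑ c, F.chi k (F.rep c) = ∑ c, F.chi k (F.rep c) := by
      rw [Finset.mul_sum]
      refine Fintype.sum_equiv (Equiv.addLeft (w : (Fin 24 → ℤ) ⧸ F.sub)) _ _ fun c => ?_
      have hc : (w : (Fin 24 → ℤ) ⧸ F.sub) + c = ((w + F.rep c : Fin 24 → ℤ) : (Fin 24 → ℤ) ⧸ F.sub) := by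
        rw [QuotientAddGroup.mk_add, rep, QuotientAddGroup.out_eq']
      show _ = F.chi k (F.rep ((w : (Fin 24 → ℤ) ⧸ F.sub) + c))
      rw [hc, chi_rep, chi_add]
    have : (F.chi k w - 1) * ∑ c, F.chi k (F.rep c) = 0 := by rw [sub_mul, one_mul, e, sub_self]
    exact (mul_eq_zero.1 this).resolve_left (sub_ne_zero.2 hw)

theorem im_inv {σ : ℂ} (hσ : 0 < σ.im) (i : Fin 24) : 0 < (σ / (F.a i : ℂ)).im := by
  have : (0 : ℝ) < (F.a i : ℝ) := by exact_mod_cast F.apos i
  rw [show (F.a i : ℂ) = ((F.a i : ℝ) : ℂ) by norm_cast, Complex.div_ofReal_im]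
  positivity

theorem dual_sum (h : Even24 B) {σ : ℂ} (hσ : 0 < σ.im) :
    (∑ c, ∏ i, jacobiTheta₂ (F.co (F.rep c) i : ℂ) (σ / (F.a i : ℂ))) =
      (Fintype.card ((Fin 24 → ℤ) ⧸ F.sub) : ℂ) * theta B σ := by
  classical
  let g : (Fin 24 → ℤ) → ℂ := fun k => cexp (π * I * σ * ∑ i, (k i : ℂ) ^ 2 / (F.a i : ℂ))
  have hterm : ∀ c k, ∏ i, jacobiTheta₂_term (k i) (F.co (F.rep c) i : ℂ) (σ / (F.a i : ℂ)) =
      F.chi k (F.rep c) * g k := by
    intro c k
    simp only [jacobiTheta₂_term, chi, g, ← Complex.exp_sum, ← Complex.exp_add, Finset.mul_sum]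
    rw [← Finset.sum_add_distrib]
    exact congrArg _ (Finset.sum_congr rfl fun i _ => by ring)
  have hs : ∀ c, Summable (fun k => F.chi k (F.rep c) * g k) ∧
      ∏ i, jacobiTheta₂ (F.co (F.rep c) i : ℂ) (σ / (F.a i : ℂ)) = ∑' k, F.chi k (F.rep c) * g k := by
    intro c
    obtain ⟨h1, h2⟩ := pi_prod_tsum 24 (fun i k => jacobiTheta₂_term k (F.co (F.rep c) i : ℂ) (σ / (F.a i : ℂ)))
      fun i => summable_norm_term (F.im_inv hσ i) _
    simp only [hterm] at h1 h2
    exact ⟨h1.of_norm, h2⟩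
  rw [Finset.sum_congr rfl fun c _ => (hs c).2, ← Summable.tsum_finsetSum fun c _ => (hs c).1]
  simp only [← Finset.sum_mul, F.chi_sum h]
  have hsupp : Function.support (fun k : Fin 24 → ℤ =>
      (if k ∈ Set.range F.dual then (Fintype.card ((Fin 24 → ℤ) ⧸ F.sub) : ℂ) else 0) * g k) ⊆ Set.range F.dual := by
    intro k hk
    by_contra hn
    rw [Function.mem_support, if_neg hn, zero_mul] at hk
    exact hk rfl
  rw [← (F.dual_injective h).tsum_eq hsupp, theta, ← tsum_mul_left]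
  refine tsum_congr fun x => ?_
  rw [if_pos ⟨x, rfl⟩]
  congr 1
  simp only [g, term]
  congr 2
  rw [show (nq B x : ℂ) = ((nq B x : ℝ) : ℂ) by norm_cast, F.nq_co]
  push_cast
  refine Finset.sum_congr rfl fun i _ => ?_
  rw [show ((F.dual x i : ℤ) : ℂ) = (((F.a i : ℝ) * F.co x i : ℝ) : ℂ) by rw [← F.dual_co]; norm_cast]
  have : (F.a i : ℂ) ≠ 0 := by exact_mod_cast (F.apos i).ne'
  push_cast
  field_simp

theorem functional (h : Even24 B) : ∀ τ : ℂ, 0 < τ.im →
    theta B τ * τ ^ 12 = (∏ i, ((F.a i : ℂ) ^ (1 / 2 : ℂ))⁻¹) *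
      ((Fintype.card ((Fin 24 → ℤ) ⧸ F.sub) : ℂ) * theta B (-1 / τ)) := by
  intro τ hτ
  have hτ0 : τ ≠ 0 := fun e => by simp [e] at hτ
  have hσ : 0 < (-1 / τ).im := by
    rw [neg_div, Complex.neg_im, one_div, Complex.inv_im, neg_div, neg_neg]
    exact div_pos hτ (Complex.normSq_pos.2 hτ0)
  rw [← F.dual_sum h hσ, F.theta_eq hτ, Finset.mul_sum, Finset.sum_mul]
  refine Finset.sum_congr rfl fun c _ => ?_
  have hfac : ∀ i, cexp (π * I * τ * (F.a i : ℂ) * (F.co (F.rep c) i : ℂ) ^ 2) *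
      jacobiTheta₂ (τ * (F.a i : ℂ) * (F.co (F.rep c) i : ℂ)) (τ * (F.a i : ℂ)) =
      ((-I * τ) ^ (1 / 2 : ℂ))⁻¹ * (((F.a i : ℂ) ^ (1 / 2 : ℂ))⁻¹ *
        jacobiTheta₂ (F.co (F.rep c) i : ℂ) (-1 / τ / (F.a i : ℂ))) := by
    intro i
    have ha : (F.a i : ℂ) ≠ 0 := by exact_mod_cast (F.apos i).ne'
    rw [jacobiTheta₂_functional_equation (τ * (F.a i : ℂ) * (F.co (F.rep c) i : ℂ)) (τ * (F.a i : ℂ)),
      show τ * (F.a i : ℂ) * (F.co (F.rep c) i : ℂ) / (τ * (F.a i : ℂ)) = (F.co (F.rep c) i : ℂ) by field_simp,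
      show -1 / (τ * (F.a i : ℂ)) = -1 / τ / (F.a i : ℂ) by rw [div_div],
      show -I * (τ * (F.a i : ℂ)) = ((F.a i : ℝ) : ℂ) * (-I * τ) by push_cast; ring,
      half_pow_mul (by exact_mod_cast F.apos i) (mul_ne_zero (neg_ne_zero.2 I_ne_zero) hτ0),
      show ((F.a i : ℝ) : ℂ) = (F.a i : ℂ) by norm_cast]
    have he : cexp (π * I * τ * (F.a i : ℂ) * (F.co (F.rep c) i : ℂ) ^ 2) *
        cexp (-π * I * (τ * (F.a i : ℂ) * (F.co (F.rep c) i : ℂ)) ^ 2 / (τ * (F.a i : ℂ))) = 1 := by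
      rw [← Complex.exp_add, ← Complex.exp_zero]
      congr 1
      field_simp
      ring
    rw [one_div, mul_inv, ← mul_assoc, ← mul_assoc, ← mul_assoc]
    rw [show ∀ A B C D : ℂ, A * B * C * D * jacobiTheta₂ (F.co (F.rep c) i : ℂ) (-1 / τ / (F.a i : ℂ)) =
        (A * D) * C * B * jacobiTheta₂ (F.co (F.rep c) i : ℂ) (-1 / τ / (F.a i : ℂ)) from fun A B C D => by ring,
      he, one_mul]
    ring
  rw [Finset.prod_congr rfl fun i _ => hfac i, Finset.prod_mul_distrib, Finset.prod_const, Finset.prod_mul_distrib,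
    Finset.card_univ, Fintype.card_fin, inv_pow, half_pow_pow]
  have h12 : (-I * τ) ^ 12 = τ ^ 12 := by
    rw [mul_pow, show (-I) ^ 12 = ((-I) ^ 2) ^ 6 by ring, neg_sq, I_sq]; ring
  rw [h12]
  field_simp

end Frame

theorem term_pos (B : Matrix (Fin 24) (Fin 24) ℤ) (x : Fin 24 → ℤ) :
    term B I x = ((Real.exp (-π * (nq B x : ℝ)) : ℝ) : ℂ) := by
  rw [term, Complex.ofReal_exp]
  congr 1
  push_cast
  rw [show (π : ℂ) * I * I * (nq B x : ℂ) = π * (I * I) * (nq B x : ℂ) by ring, Complex.I_mul_I]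
  ring

theorem theta_I_ne (h : Even24 B) : theta B I ≠ 0 := by
  obtain ⟨F⟩ := exists_frame h
  have hs := (F.summable_term (τ := I) (by simp)).of_norm
  intro h0
  have hre := Complex.hasSum_re hs.hasSum
  rw [show (∑' x, term B I x) = theta B I from rfl, h0] at hre
  simp only [term_pos, Complex.ofReal_re, Complex.zero_re] at hre
  have := le_hasSum hre (0 : Fin 24 → ℤ) fun x _ => (Real.exp_pos _).le
  linarith [Real.exp_pos (-π * (nq B (0 : Fin 24 → ℤ) : ℝ))]

theorem theta_S (h : Even24 B) {τ : ℂ} (hτ : 0 < τ.im) : theta B (-1 / τ) = τ ^ 12 * theta B τ := by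
  obtain ⟨F⟩ := exists_frame h
  have hI := F.functional h I (by simp)
  rw [show (I : ℂ) ^ 12 = (I ^ 4) ^ 3 by ring, Complex.I_pow_four, one_pow, mul_one,
    show (-1 : ℂ) / I = I by rw [div_eq_iff I_ne_zero, I_mul_I], ← mul_assoc] at hI
  have hK : (∏ i, ((F.a i : ℂ) ^ (1 / 2 : ℂ))⁻¹) * (Fintype.card ((Fin 24 → ℤ) ⧸ F.sub) : ℂ) = 1 :=
    mul_right_cancel₀ (theta_I_ne h) (hI.symm.trans (one_mul _).symm)
  have := F.functional h τ hτ
  rw [← mul_assoc, hK, one_mul] at this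
  rw [← this, mul_comm]

theorem theta_T (h : Even24 B) (τ : ℂ) : theta B (τ + 1) = theta B τ := by
  refine tsum_congr fun x => ?_
  simp only [term]
  rw [mul_add, mul_one, add_mul, Complex.exp_add, h.deg_spec x]
  rw [show cexp (π * I * ((2 * (deg B x : ℤ) : ℤ) : ℂ)) = 1 by
    rw [Complex.exp_eq_one_iff]; exact ⟨deg B x, by push_cast; ring⟩, mul_one]

theorem theta_differentiable (h : Even24 B) {τ : ℂ} (hτ : 0 < τ.im) : DifferentiableAt ℂ (theta B) τ := by
  obtain ⟨F⟩ := exists_frame h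
  have hopen : IsOpen {z : ℂ | 0 < z.im} := isOpen_lt continuous_const Complex.continuous_im
  refine DifferentiableAt.congr_of_eventuallyEq ?_ (Filter.eventuallyEq_of_mem (hopen.mem_nhds hτ) fun z hz => F.theta_eq hz)
  refine DifferentiableAt.fun_sum fun c _ => DifferentiableAt.fun_finset_prod fun i _ => ?_
  refine DifferentiableAt.mul (by fun_prop) ?_
  exact (hasFDerivAt_jacobiTheta₂ (τ * (F.a i : ℂ) * (F.co (F.rep c) i : ℂ)) (F.im_scale hτ i)).differentiableAt.comp τ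
    (f := fun z : ℂ => (z * (F.a i : ℂ) * (F.co (F.rep c) i : ℂ), z * (F.a i : ℂ))) (by fun_prop)

/-- vectors of given norm -/
def shell (B : Matrix (Fin 24) (Fin 24) ℤ) (m : ℕ) : Set (Fin 24 → ℤ) := {x | nq B x = 2 * (m : ℤ)}

theorem shell_eq (h : Even24 B) (m : ℕ) : shell B m = deg B ⁻¹' {m} := by
  ext x
  have := h.deg_spec x
  simp only [shell, Set.mem_setOf_eq, Set.mem_preimage, Set.mem_singleton_iff]
  omega

theorem shell_finite (h : Even24 B) (m : ℕ) : (shell B m).Finite := by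
  obtain ⟨F⟩ := exists_frame h
  have hs := (F.summable_term (τ := I) (by simp)).tendsto_cofinite_zero
  have hev := hs.eventually (eventually_lt_nhds (Real.exp_pos (-π * (2 * (m : ℝ)))))
  refine (Filter.eventually_cofinite.1 hev).subset fun x hx => ?_
  show ¬ ‖term B I x‖ < _
  rw [term_pos, Complex.norm_real, Real.norm_of_nonneg (Real.exp_pos _).le,
    show (nq B x : ℝ) = 2 * (m : ℝ) by rw [show nq B x = 2 * (m : ℤ) from hx]; push_cast; ring]
  exact lt_irrefl _

theorem hasSum_shells (h : Even24 B) (τ : ℍ) :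
    HasSum (fun m : ℕ => ((shell B m).ncard : ℂ) • (Function.Periodic.qParam 1 τ) ^ m) (theta B τ) := by
  obtain ⟨F⟩ := exists_frame h
  have hs := (F.summable_term τ.im_pos).of_norm.hasSum
  have hs' := (Equiv.sigmaFiberEquiv (deg B)).hasSum_iff.2 hs
  refine hs'.sigma fun m => ?_
  have hfin : (shell B m).Finite := shell_finite h m
  haveI : Fintype {x // deg B x = m} := (hfin.subset fun x (hx : deg B x = m) => by
    rw [shell_eq h]; exact hx).fintype
  have e : ∀ x : {x // deg B x = m}, term B τ x = (Function.Periodic.qParam 1 τ) ^ m := fun x => by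
    rw [term, Function.Periodic.qParam, ← Complex.exp_nat_mul, h.deg_spec, x.2]
    congr 1
    push_cast
    ring
  have hcard : Fintype.card {x // deg B x = m} = (shell B m).ncard := by
    rw [← Nat.card_eq_fintype_card, shell_eq h, ← Nat.card_coe_set_eq]
    rfl
  show HasSum (fun x : {x // deg B x = m} => term B τ x) _
  simp only [e]
  convert hasSum_fintype (fun _ : {x // deg B x = m} => (Function.Periodic.qParam 1 (τ : ℂ)) ^ m) using 1
  rw [Finset.sum_const, Finset.card_univ, hcard, nsmul_eq_mul, smul_eq_mul]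

/-- the theta series as a modular form -/
def form (h : Even24 B) : ModularForm 𝒮ℒ 12 where
  toFun z := theta B z
  slash_action_eq' := by
    rintro _ ⟨γ, rfl⟩
    refine SlashInvariantForm.slash_action_generators_SL2Z (k := 12) ?_ ?_ γ
    · funext z
      rw [ModularForm.SL_slash_apply]
      have hd : UpperHalfPlane.denom (ModularGroup.S : SL(2, ℤ)) z = (z : ℂ) := ModularGroup.denom_S z
      have hz : ((ModularGroup.S • z : ℍ) : ℂ) = -1 / (z : ℂ) := by
        rw [UpperHalfPlane.modular_S_smul]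
        show (-(z : ℂ))⁻¹ = _
        rw [inv_neg, neg_div, one_div]
      have hz0 : (z : ℂ) ≠ 0 := UpperHalfPlane.ne_zero z
      rw [hd, hz, theta_S h z.im_pos, _root_.zpow_neg, mul_comm ((z : ℂ) ^ 12), mul_assoc]
      norm_cast
      rw [mul_inv_cancel₀ (pow_ne_zero 12 hz0), mul_one]
    · funext z
      rw [ModularForm.SL_slash_apply]
      have hd : UpperHalfPlane.denom (ModularGroup.T : SL(2, ℤ)) z = 1 := by rw [ModularGroup.denom_apply]; simp [ModularGroup.T]
      rw [hd, UpperHalfPlane.modular_T_smul, _root_.one_zpow, mul_one, UpperHalfPlane.coe_vadd]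
      push_cast
      rw [add_comm, theta_T h]
  holo' := by
    rw [UpperHalfPlane.mdifferentiable_iff]
    intro z hz
    refine ((theta_differentiable h hz).congr_of_eventuallyEq ?_).differentiableWithinAt
    filter_upwards [(isOpen_lt continuous_const Complex.continuous_im).mem_nhds hz] with w hw
    show theta B (UpperHalfPlane.ofComplex w : ℂ) = theta B w
    rw [UpperHalfPlane.ofComplex_apply_of_im_pos hw]
  bdd_at_cusps' {c} hc := by
    rw [Subgroup.IsArithmetic.isCusp_iff_isCusp_SL2Z] at hc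
    rw [OnePoint.isBoundedAt_iff_forall_SL2Z hc]
    intro γ _
    have hinv : (fun z : ℍ => theta B z) ∣[(12 : ℤ)] γ = fun z : ℍ => theta B z := by
      refine SlashInvariantForm.slash_action_generators_SL2Z (k := 12) ?_ ?_ γ
      · funext z
        rw [ModularForm.SL_slash_apply]
        have hd : UpperHalfPlane.denom (ModularGroup.S : SL(2, ℤ)) z = (z : ℂ) := ModularGroup.denom_S z
        have hz : ((ModularGroup.S • z : ℍ) : ℂ) = -1 / (z : ℂ) := by
          rw [UpperHalfPlane.modular_S_smul]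
          show (-(z : ℂ))⁻¹ = _
          rw [inv_neg, neg_div, one_div]
        have hz0 : (z : ℂ) ≠ 0 := UpperHalfPlane.ne_zero z
        rw [hd, hz, theta_S h z.im_pos, _root_.zpow_neg, mul_comm ((z : ℂ) ^ 12), mul_assoc]
        norm_cast
        rw [mul_inv_cancel₀ (pow_ne_zero 12 hz0), mul_one]
      · funext z
        rw [ModularForm.SL_slash_apply]
        have hd : UpperHalfPlane.denom (ModularGroup.T : SL(2, ℤ)) z = 1 := by rw [ModularGroup.denom_apply]; simp [ModularGroup.T]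
        rw [hd, UpperHalfPlane.modular_T_smul, _root_.one_zpow, mul_one, UpperHalfPlane.coe_vadd]
        push_cast
        rw [add_comm, theta_T h]
    rw [hinv]
    exact UpperHalfPlane.isBoundedAtImInfty_of_hasSum_qExpansion one_pos fun τ => hasSum_shells h τ

theorem coeff_form (h : Even24 B) (m : ℕ) :
    (UpperHalfPlane.qExpansion 1 (form h)).coeff m = ((shell B m).ncard : ℂ) :=
  (ModularFormClass.qExpansion_coeff_unique one_pos one_mem_strictPeriods_SL
    (c := fun m => ((shell B m).ncard : ℂ)) (f := form h) (fun τ => hasSum_shells h τ) m).symm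

theorem coeff_E4 (m : ℕ) : (UpperHalfPlane.qExpansion 1 E₄).coeff m =
    if m = 0 then 1 else 240 * (ArithmeticFunction.sigma 3 m : ℂ) := by
  rw [EisensteinSeries.E_qExpansion_coeff _ ⟨2, rfl⟩]
  split_ifs
  · rfl
  · norm_num [show bernoulli 4 = -1 / 30 by decide +kernel]

theorem coeff_E6 (m : ℕ) : (UpperHalfPlane.qExpansion 1 E₆).coeff m =
    if m = 0 then 1 else -504 * (ArithmeticFunction.sigma 5 m : ℂ) := by
  rw [EisensteinSeries.E_qExpansion_coeff _ ⟨3, rfl⟩]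
  split_ifs
  · rfl
  · norm_num [show bernoulli 6 = 1 / 42 by decide +kernel]

/-- the shell counts of a rootless lattice -/
theorem counts (h : Even24 B) (h2 : ∀ x : Fin 24 → ℤ, nq B x ≠ 2) :
    (shell B 2).ncard = 196560 ∧ (shell B 3).ncard = 16773120 ∧ (shell B 4).ncard = 398034000 := by
  set A : ModularForm 𝒮ℒ 12 := ModularForm.mcast (by decide) (E₄.pow 3) with hA
  set C : ModularForm 𝒮ℒ 12 := ModularForm.mcast (by decide) (E₆.pow 2) with hC
  have qA : UpperHalfPlane.qExpansion 1 A = UpperHalfPlane.qExpansion 1 E₄ * UpperHalfPlane.qExpansion 1 E₄ *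
      UpperHalfPlane.qExpansion 1 E₄ := by
    simp only [hA, coe_mcast, ModularForm.qExpansion_pow one_pos one_mem_strictPeriods_SL]
    ring
  have qC : UpperHalfPlane.qExpansion 1 C = UpperHalfPlane.qExpansion 1 E₆ * UpperHalfPlane.qExpansion 1 E₆ := by
    simp only [hC, coe_mcast, ModularForm.qExpansion_pow one_pos one_mem_strictPeriods_SL]
    ring
  have s0 : shell B 0 = {0} := by
    ext x
    simp only [shell, Set.mem_setOf_eq, Set.mem_singleton_iff]
    refine ⟨fun e => by_contra fun hx => by have := h.pos x hx; simp at e; omega, fun e => by simp [e, nq]⟩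
  have s1 : shell B 1 = ∅ := Set.eq_empty_iff_forall_notMem.2 fun x e => h2 x (by simpa [shell] using e)
  have hA0 : (UpperHalfPlane.qExpansion 1 A).coeff 0 = 1 := by
    rw [qA]; simp [PowerSeries.coeff_mul, Finset.Nat.antidiagonal_succ, coeff_E4, -PowerSeries.coeff_zero_eq_constantCoeff]
  have hcusp : IsCuspForm (form h - A) := by
    rw [isCuspForm_iff_coeffZero_eq_zero, FunLike.coe_sub, ModularForm.qExpansion_sub one_pos one_mem_strictPeriods_SL,
      map_sub, coeff_form, hA0, s0]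
    simp
  obtain ⟨g, hg⟩ := hcusp
  obtain ⟨b, hb⟩ := CuspForm.exists_smul_discriminant_of_weight_eq_twelve g
  have hgE : (g : ℍ → ℂ) = ⇑(form h - A) := congrArg DFunLike.coe hg
  have hform : form h = A + (b / 1728) • (A - C) := by
    ext z
    have e1 : b * discriminant z = theta B z - A z := by
      have := congrFun hgE z
      rw [← hb] at this
      exact this
    rw [discriminant_eq_E₄_cube_sub_E₆_sq] at e1
    have eA : A z = E₄ z ^ 3 := congrFun (ModularForm.coe_pow E₄ 3) z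
    have eC : C z = E₆ z ^ 2 := congrFun (ModularForm.coe_pow E₆ 2) z
    show theta B z = A z + (b / 1728) * (A z - C z)
    rw [eC, eA]
    rw [eA] at e1
    linear_combination -e1
  have hq : UpperHalfPlane.qExpansion 1 (form h) = UpperHalfPlane.qExpansion 1 A +
      (b / 1728) • (UpperHalfPlane.qExpansion 1 A - UpperHalfPlane.qExpansion 1 C) := by
    rw [hform, FunLike.coe_add, ModularForm.qExpansion_add one_pos one_mem_strictPeriods_SL, FunLike.coe_smul,
      ModularForm.qExpansion_smul one_pos one_mem_strictPeriods_SL, FunLike.coe_sub,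
      ModularForm.qExpansion_sub one_pos one_mem_strictPeriods_SL]
  have hm : ∀ m, ((shell B m).ncard : ℂ) = (UpperHalfPlane.qExpansion 1 A).coeff m +
      (b / 1728) * ((UpperHalfPlane.qExpansion 1 A).coeff m - (UpperHalfPlane.qExpansion 1 C).coeff m) := fun m => by
    rw [← coeff_form h, hq, map_add, PowerSeries.coeff_smul, map_sub, smul_eq_mul]
  have sig3 : (ArithmeticFunction.sigma 3 1 = 1 ∧ ArithmeticFunction.sigma 3 2 = 9 ∧ ArithmeticFunction.sigma 3 3 = 28 ∧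
      ArithmeticFunction.sigma 3 4 = 73) ∧ (ArithmeticFunction.sigma 5 1 = 1 ∧ ArithmeticFunction.sigma 5 2 = 33 ∧
      ArithmeticFunction.sigma 5 3 = 244 ∧ ArithmeticFunction.sigma 5 4 = 1057) := by decide +kernel
  obtain ⟨⟨a1, a2, a3, a4⟩, c1, c2, c3, c4⟩ := sig3
  have hb1 := hm 1
  rw [s1, Set.ncard_empty, qA, qC] at hb1
  simp [PowerSeries.coeff_mul, Finset.Nat.antidiagonal_succ, coeff_E4, coeff_E6, a1, c1,
    -PowerSeries.coeff_zero_eq_constantCoeff] at hb1
  have hbv : b = -720 := by linear_combination (-1 : ℂ) * hb1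
  subst hbv
  refine ⟨?_, ?_, ?_⟩
  · have := hm 2
    rw [qA, qC] at this
    simp [PowerSeries.coeff_mul, Finset.Nat.antidiagonal_succ, coeff_E4, coeff_E6, a1, a2, c1, c2,
      -PowerSeries.coeff_zero_eq_constantCoeff] at this
    norm_num at this
    exact_mod_cast this
  · have := hm 3
    rw [qA, qC] at this
    simp [PowerSeries.coeff_mul, Finset.Nat.antidiagonal_succ, coeff_E4, coeff_E6, a1, a2, a3, c1, c2, c3,
      -PowerSeries.coeff_zero_eq_constantCoeff] at this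
    norm_num at this
    exact_mod_cast this
  · have := hm 4
    rw [qA, qC] at this
    simp [PowerSeries.coeff_mul, Finset.Nat.antidiagonal_succ, coeff_E4, coeff_E6, a1, a2, a3, a4, c1, c2, c3, c4,
      -PowerSeries.coeff_zero_eq_constantCoeff] at this
    norm_num at this
    exact_mod_cast this

end Cfsg.Agent.Spor.LatticeTheta
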