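/-
Traces through the fusing word of four minimal vectors orthogonal to the fixed one.
-/
import Cfsg.Agent.Lib.Spor.SixteenData

set_option autoImplicit false

namespace Cfsg.Agent.Spor

/-- the traces -/
def orthTraces : List (List (List ℤ)) := [
  [[0, 0, 0, 0, 0, 0, 4, 0, 0, 0, 0, 0, 0, 0, 0, 0, 0, 0, 0, 0, 0, 0, 0, 4],
    [0, 0, 0, 0, 0, 0, -4, 0, 0, 0, 0, 0, 0, 0, 0, 0, 0, 0, 0, 0, 0, 0, 0, 4],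
    [0, 0, 0, 0, 0, 2, 2, 0, 0, -2, 0, -2, 0, 0, 2, 0, 0, 2, 0, 0, 0, 0, -2, -2],
    [0, 0, 0, 0, 2, 2, 0, 0, -2, 0, -2, 0, 0, 2, 0, 0, 2, 0, 0, 0, 0, -2, 0, -2],
    [0, 0, 0, 0, 2, 2, 0, 0, -2, 0, -2, 0, 0, 2, 0, 0, 2, 0, 0, 0, 0, -2, 0, -2],
    [0, 0, 0, 0, -2, -2, 0, 0, 2, 0, 2, 0, 0, -2, 0, 0, -2, 0, 0, 0, 0, 2, 0, 2],
    [0, 0, 0, 0, 0, -2, -2, 0, 0, 2, 0, 2, 0, 0, -2, 0, 0, -2, 0, 0, 0, 0, 2, 2],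
    [0, 0, 0, 0, 0, -2, 2, 0, 0, 2, 0, 2, 0, 0, -2, 0, 0, -2, 0, 0, 0, 0, -2, 2],
    [0, 0, 0, 0, 0, 0, 0, 0, 0, 0, 0, 0, 0, 0, 0, 0, 0, 0, 0, 0, 0, 0, 4, -4],
    [4, 0, 0, 0, 0, 0, 0, 0, 0, 0, 0, 0, 0, 0, 0, 0, 0, 0, 0, 0, 0, 0, 0, -4]],
  [[2, 2, 0, 2, 0, 0, -2, 0, -2, 0, 2, 0, 0, 2, 0, 0, 0, 0, 0, 0, 0, 0, 0, 2],
    [2, -2, 0, 2, 0, 0, 2, 0, 2, 0, 2, 0, 0, -2, 0, 0, 0, 0, 0, 0, 0, 0, 0, 2],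
    [1, -3, -1, 1, 1, 1, -1, 1, -1, 1, -1, 1, 1, 1, 1, 1, 1, 1, -1, 1, -1, -1, 1, -1],
    [-3, -1, 1, 1, 1, -1, 1, -1, 1, -1, 1, 1, 1, 1, 1, 1, 1, -1, 1, -1, -1, 1, 1, -1],
    [3, -1, -1, 1, 1, -1, -1, 1, 1, -1, 1, -1, -1, 1, -1, 1, 1, 1, 1, -1, -1, 1, 1, -1],
    [2, -2, -2, 0, 0, 0, 0, 0, 0, 0, 0, 0, 2, 0, 0, 0, 0, -2, 0, 2, 2, 0, -2, 0],
    [-2, 2, -2, -2, 0, 0, 0, 0, 0, 0, 0, 0, 0, 2, 0, 0, 0, 0, -2, 0, 2, 2, 0, 0],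
    [2, -2, -2, -2, 0, 0, 0, 0, 0, 0, 0, 0, 0, 2, 0, 0, 0, 0, -2, 0, 2, 2, 0, 0],
    [4, 0, 0, 0, 0, 0, 0, 0, 0, 0, 0, 0, 0, 0, 0, 0, 0, 0, 4, 0, 0, 0, 0, 0],
    [0, 4, 0, 0, 0, 0, 0, 0, 0, 0, 0, 0, 0, 0, 0, 0, 0, 0, 0, 4, 0, 0, 0, 0]],
  [[-2, 0, 0, -2, 2, 0, -2, 2, 0, 0, 0, 0, 0, 0, -2, 0, 0, 0, 0, 0, 0, 0, -2, -2],
    [-2, 0, 0, -2, 2, 0, 2, -2, 0, 0, 0, 0, 0, 0, 2, 0, 0, 0, 0, 0, 0, 0, 2, -2],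
    [0, 2, 2, 0, -2, 0, 0, 2, 0, 2, 0, 2, 0, 0, -2, 0, 0, 0, 0, 0, 0, 0, 0, 2],
    [2, 2, 0, -2, 0, 0, 2, 0, 2, 0, 2, 0, 0, -2, 0, 0, 0, 0, 0, 0, 0, 0, 0, 2],
    [-2, 2, 0, -2, 0, 0, -2, 0, 2, 0, 2, 0, 0, -2, 0, 0, 0, 0, 0, 0, 0, 0, 0, 2],
    [-1, 3, 1, -1, 1, 1, 1, 1, -1, -1, -1, -1, 1, 1, 1, 1, 1, 1, -1, 1, -1, -1, -1, -1],
    [-1, -1, 3, 1, -1, 1, 1, 1, 1, -1, -1, -1, -1, 1, 1, 1, 1, 1, 1, -1, 1, -1, -1, -1],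
    [1, 1, 3, 1, 1, 1, -1, 1, 1, -1, 1, -1, -1, 1, 1, -1, 1, 1, 1, 1, 1, -1, 1, -1],
    [-2, -2, 0, -2, 0, 0, 0, 0, 0, 0, 0, 0, 2, 0, 0, 2, 0, 0, 0, 0, 0, 2, -2, 2],
    [-2, -2, -2, 0, -2, 0, 0, 0, 0, 0, 0, 0, 0, 2, 0, 0, 2, 0, 0, 0, 0, 0, 2, 2]],
  [[1, -1, 1, 1, -1, 1, -1, -1, -1, -1, -1, -1, 1, 1, -1, 1, 1, 1, -1, 1, -1, -1, -3, 1],
    [1, 1, 1, 1, -1, -1, 1, 1, 1, 1, -1, -1, 1, -1, 1, 1, -1, -1, -1, -1, -1, -1, 3, 1],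
    [-1, -1, -1, -1, 1, 1, 1, -1, -1, 1, 1, 3, -1, -1, -1, -1, 1, 1, -1, 1, -1, -1, -1, -1],
    [-1, -1, -1, 1, 1, 1, -1, -1, 1, 1, 3, -1, -1, -1, -1, 1, 1, -1, 1, -1, -1, -1, -1, -1],
    [1, -1, 1, 1, 1, 1, 1, 1, 1, 1, 3, 1, 1, -1, 1, 1, 1, 1, 1, -1, -1, -1, -1, -1],
    [0, -2, 0, 0, 2, 0, 0, 2, 0, 0, 0, 0, 2, 0, 0, 0, 0, 0, -2, 2, 0, 0, 2, 2],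
    [2, 0, -2, 0, 0, 2, 0, 0, 2, 0, 0, 0, 0, 2, 0, 0, 0, 0, 0, -2, 2, 0, 0, 2],
    [-2, 0, -2, 0, 0, 2, 0, 0, 2, 0, 0, 0, 0, 2, 0, 0, 0, 0, 0, 2, 2, 0, 0, 2],
    [0, 2, 0, 2, 0, 0, 0, 0, 0, 0, 0, 0, 0, 0, 2, 2, 2, 2, 2, 0, 0, 2, 0, 0],
    [0, 0, 2, 0, 2, 0, 0, 0, 0, 0, 0, 0, 0, 0, 0, 2, 2, 2, 2, 2, 0, 0, 2, 0]]]

end Cfsg.Agent.Spor
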