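/-
The stabiliser of a minimal vector is transitive on the pairs of opposite minimal vectors orthogonal to it.
-/
import Cfsg.Agent.Lib.Spor.LeechSixteen
import Cfsg.Agent.Lib.Spor.MidSixteen
import Cfsg.Agent.Lib.Spor.GolayTupP2Oct
import Cfsg.Agent.Lib.Spor.OrthData

set_option autoImplicit false
set_option maxRecDepth 100000

namespace Cfsg.Agent.Spor

open Cfsg
open scoped Pointwise

local notation "Zv" => GolayPt → ℤ

/-- the vectors considered -/
def orth : Set Zv := minDot pairRef 0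

theorem orth_sum {x : Zv} (hx : x ∈ orth) : x (pt 0) + x none = 0 := by
  have := hx.2.2; rw [dot_pairRef] at this; omega

theorem orth_neg {x : Zv} (hx : x ∈ orth) : -x ∈ orth :=
  ⟨neg_mem hx.1, by rw [sqNorm_neg]; exact hx.2.1, by rw [dot_neg_right, hx.2.2]; rfl⟩

theorem SOrb.orth_mem {x y : Zv} (h : SOrb x y) (hx : x ∈ orth) : y ∈ orth := by
  obtain ⟨hxL, g, hg, rfl⟩ := h
  refine ⟨(g • (⟨x, hxL⟩ : ↥leechLattice)).2, (g.2.2 _).trans hx.2.1, ?_⟩
  have := co0_dot g ⟨pairRef, pairRef_spec.1⟩ ⟨x, hxL⟩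
  rw [hg] at this
  exact this.trans hx.2.2

theorem SOrb.negate {x y : Zv} (h : SOrb x y) : SOrb (-x) (-y) := by
  obtain ⟨hx, g, hg, rfl⟩ := h
  refine ⟨neg_mem hx, g, hg, ?_⟩
  have h1 := co0_add g ⟨x, hx⟩ (-⟨x, hx⟩)
  have h0 := co0_add g 0 0
  rw [add_zero] at h0
  rw [add_neg_cancel, add_eq_left.1 h0.symm] at h1
  have := eq_neg_of_add_eq_zero_right h1.symm
  exact congrArg Subtype.val this

/-- one orbit up to sign -/
def POrb (x y : Zv) : Prop := SOrb x y ∨ SOrb x (-y)

theorem POrb.trans {x y z : Zv} (h : POrb x y) (h' : POrb y z) : POrb x z := by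
  rcases h with h | h <;> rcases h' with h' | h'
  · exact Or.inl (h.trans h')
  · exact Or.inr (h.trans h')
  · exact Or.inr (h.trans h'.negate)
  · have := h.trans h'.negate
    rw [neg_neg] at this
    exact Or.inl this

theorem POrb.symm {x y : Zv} (h : POrb x y) : POrb y x := by
  rcases h with h | h
  · exact Or.inl h.symm
  · have := h.symm.negate
    rw [neg_neg] at this
    exact Or.inr this

theorem img_neg {b y : Zv} (h : IsImg b y) : IsImg b (-y) := by
  obtain ⟨σ, hσ, w, hw, rfl⟩ := h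
  refine ⟨σ, hσ, w + 1, add_mem hw one_word_mem, funext fun p => ?_⟩
  rcases word_eq_one_or_zero (w (σ.symm p)) with e | e
  · simp [prm, sgn, Pi.add_apply, e]
  · simp [prm, sgn, Pi.add_apply, e, show (1 : ZMod 2) + 1 = 0 from rfl]

theorem orth_same_abs {j : ℕ} (hj : j < 3) {x y : Zv} (hx : x ∈ orth) (hy : y ∈ orth)
    (hxi : IsImg (shortBase j) x) (hyi : IsImg (shortBase j) y) (e : absV x = absV y)
    (hw : x none ≠ 0 ∨ ((∃ c ∈ golayCode, (∀ p, x p ≠ 0 → c p = 0) ∧ c (pt 0) ≠ 0 ∧ c none = 0) ∧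
      ∃ c ∈ golayCode, (∀ p, x p ≠ 0 → c p = 0) ∧ c (pt 0) = 0 ∧ c none ≠ 0)) : POrb x y := by
  suffices main : ∀ y, y ∈ orth → IsImg (shortBase j) y → absV x = absV y → y none = x none → SOrb x y by
    rcases abs_eq_abs.1 (congrFun e none : |x none| = |y none|) with h | h
    · exact Or.inl (main y hy hyi e h.symm)
    · refine Or.inr (main (-y) (orth_neg hy) (img_neg hyi) (e.trans (funext fun p => (abs_neg (y p)).symm)) ?_)
      show -y none = x none
      omega
  intro y hy hyi e hb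
  obtain ⟨k, hk, hky⟩ := img_same_abs hj hxi hyi e
  have sx := orth_sum hx
  have sy := orth_sum hy
  have ha : y (pt 0) = x (pt 0) := by omega
  have hz : ∀ p, x p ≠ 0 → y p = x p → k p = 0 := by
    intro p hp hyp
    rcases word_eq_one_or_zero (k p) with h | h
    · exact h
    · rw [hky] at hyp; simp [sgn, h] at hyp; omega
  obtain ⟨k', hk', hk0, hk1, hky'⟩ : ∃ k' ∈ golayCode, k' (pt 0) = 0 ∧ k' none = 0 ∧ y = sgn k' x := by
    by_cases h0 : x none = 0
    · obtain ⟨⟨c, hc, cs, c0, c1⟩, c', hc', cs', c0', c1'⟩ := hw.resolve_left (fun h => h h0)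
      have one : ∀ z : ZMod 2, z ≠ 0 → z = 1 := fun z h => (word_eq_one_or_zero z).resolve_left h
      refine ⟨k + (k (pt 0)) • c + (k none) • c', add_mem (add_mem hk (Submodule.smul_mem _ _ hc))
        (Submodule.smul_mem _ _ hc'), ?_, ?_, ?_⟩
      · simp only [Pi.add_apply, Pi.smul_apply, smul_eq_mul, c0', one _ c0, mul_one, mul_zero, add_zero]
        exact CharTwo.add_self_eq_zero _
      · simp only [Pi.add_apply, Pi.smul_apply, smul_eq_mul, c1, one _ c1', mul_one, mul_zero, add_zero]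
        exact CharTwo.add_self_eq_zero _
      · rw [hky]
        funext p
        by_cases hp : x p = 0
        · simp [sgn, hp]
        · simp [sgn, Pi.add_apply, cs p hp, cs' p hp]
    · exact ⟨k, hk, hz _ (by omega) ha, hz _ h0 hb, hky⟩
  obtain ⟨g, hg⟩ := exists_sgn hk'
  refine ⟨hx.1, g, ?_, by rw [hg, hky']⟩
  rw [hg]
  funext p
  show sgn k' pairRef p = pairRef p
  by_cases hp : p = pt 0 ∨ p = none
  · rcases hp with rfl | rfl <;> simp [sgn, hk0, hk1]
  · simp [sgn, pairRef_eq, hp]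

theorem p2Oct_classes : ∀ s ∈ octads, ∀ s' ∈ octads,
    tupInv (tupP2OctA.map ofMask) s = tupInv (tupP2OctA.map ofMask) s' →
      ∃ g ∈ M24, (∀ m ∈ tupP2OctA, g • ofMask m = ofMask m) ∧ g • s = s' :=
  tuple_classes tupP2Oct_cover (fun _ => mem_octads) octMasks_nodup (fun _ hσ _ hs => smul_octad hσ hs)
    (by decide +kernel) (by decide +kernel) (by decide +kernel)
    (tupInv (tupP2OctA.map ofMask)) (fun _ hk s => tupInv_stab hk s) (by decide +kernel)

theorem octad_off_two {S T : Finset GolayPt} (hS : S ∈ octads) (hT : T ∈ octads)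
    (s0 : pt 0 ∉ S) (s1 : none ∉ S) (t0 : pt 0 ∉ T) (t1 : none ∉ T) :
    ∃ σ ∈ M24, σ (pt 0) = pt 0 ∧ σ none = none ∧ σ • S = T := by
  classical
  obtain ⟨τ, hτ, hm⟩ := M24_trans (k := 2) (by norm_num) ⟨![pt 0, pt 1], by decide +kernel⟩
    ⟨![pt 0, none], by intro u v; fin_cases u <;> fin_cases v <;> simp [pt0_ne, Ne.symm pt0_ne]⟩
  have e1 : τ • ofMask 1 = {pt 0} := by
    rw [show ofMask 1 = {pt 0} by decide +kernel, Finset.smul_finset_singleton]
    exact congrArg (fun c => ({c} : Finset GolayPt)) (hm 0)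
  have e2 : τ • ofMask 2 = {none} := by
    rw [show ofMask 2 = {pt 1} by decide +kernel, Finset.smul_finset_singleton]
    exact congrArg (fun c => ({c} : Finset GolayPt)) (hm 1)
  have hinv : ∀ s, tupInv ((tupP2OctA.map ofMask).map (τ • ·)) (τ • s) = tupInv (tupP2OctA.map ofMask) s :=
    fun s => tupInv_smul τ _ s
  have hval : ∀ U : Finset GolayPt, pt 0 ∉ U → none ∉ U →
      tupInv ((tupP2OctA.map ofMask).map (τ • ·)) U = [0, 0] := fun U u0 u1 => by
    simp [tupP2OctA, tupInv, e1, e2, u0, u1]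
  obtain ⟨g, hg, hfix, hgS⟩ := tuple_transfer (fun _ hσ _ hs => smul_octad hσ hs) hτ hinv p2Oct_classes S hS T hT
    (by rw [hval S s0 s1, hval T t0 t1])
  have f1 := hfix 1 (by simp [tupP2OctA])
  have f2 := hfix 2 (by simp [tupP2OctA])
  rw [e1] at f1
  rw [e2] at f2
  exact ⟨g, hg, fix_of_singleton f1, fix_of_singleton f2, hgS⟩

theorem orth_config {j : ℕ} (hj : j < 3) {x y : Zv} (hx : x ∈ orth) (hy : y ∈ orth)
    (hxi : IsImg (shortBase j) x) (hyi : IsImg (shortBase j) y) (h : |x none| = |y none|) :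
    ∃ σ ∈ M24, σ (pt 0) = pt 0 ∧ σ none = none ∧ absV (prm σ x) = absV y := by
  classical
  obtain ⟨a0, a1, a2, -, -, -, c0, c1, -⟩ := base_abs
  obtain ⟨α, hα, ex⟩ := img_abs hxi
  obtain ⟨β, hβ, ey⟩ := img_abs hyi
  have sx := orth_sum hx
  have sy := orth_sum hy
  interval_cases j
  · rw [a0, prm_setVec] at ex ey
    set S := α • ofMask 8388609
    set T := β • ofMask 8388609
    have hS : S.card = 2 := by rw [Finset.card_smul_finset, c0]
    have hT : T.card = 2 := by rw [Finset.card_smul_finset, c0]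
    have info : ∀ {z : Zv} {U : Finset GolayPt}, z (pt 0) + z none = 0 → (∀ p, |z p| = if p ∈ U then 4 else 0) →
        ((pt 0 ∈ U ↔ none ∈ U) ∧ (none ∈ U ↔ |z none| = 4)) := by
      intro z U hs hv
      have h0 := hv (pt 0)
      have h1 := hv none
      rw [show z (pt 0) = -z none by omega, abs_neg, h1] at h0
      refine ⟨?_, ?_⟩
      · by_cases q1 : none ∈ U <;> by_cases q2 : pt 0 ∈ U <;> simp [q1, q2] at h0 ⊢
      · by_cases q : none ∈ U <;> simp [q, h1]
    obtain ⟨iS, jS⟩ := info sx fun p => congrFun ex p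
    obtain ⟨iT, jT⟩ := info sy fun p => congrFun ey p
    by_cases hn : none ∈ S
    · have hnT : none ∈ T := jT.2 (h ▸ jS.1 hn)
      have hpair : ∀ {U : Finset GolayPt}, U.card = 2 → pt 0 ∈ U → none ∈ U → U = {pt 0, none} := by
        intro U hU u0 u1
        exact (Finset.eq_of_subset_of_card_le (Finset.insert_subset u0 (Finset.singleton_subset_iff.2 u1))
          (by rw [hU, Finset.card_pair pt0_ne])).symm
      refine ⟨1, one_mem _, rfl, rfl, ?_⟩
      rw [absV_prm, ex, ey, prm_setVec, one_smul, hpair hS (iS.2 hn) hn, hpair hT (iT.2 hnT) hnT]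
    · have hnT : none ∉ T := fun q => hn (jS.2 (h.trans (jT.1 q)))
      have h0S : pt 0 ∉ S := fun q => hn (iS.1 q)
      have h0T : pt 0 ∉ T := fun q => hnT (iT.1 q)
      obtain ⟨a, b, nab, eS⟩ := Finset.card_eq_two.1 hS
      obtain ⟨a', b', nab', eT⟩ := Finset.card_eq_two.1 hT
      rw [eS] at hn h0S
      rw [eT] at hnT h0T
      simp only [Finset.mem_insert, Finset.mem_singleton, not_or] at hn h0S hnT h0T
      obtain ⟨σ, hσ, hm⟩ := M24_trans (k := 4) (by norm_num)
        ⟨![pt 0, none, a, b], by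
          intro u v; fin_cases u <;> fin_cases v <;>
            simp [pt0_ne, Ne.symm pt0_ne, hn.1, hn.2, Ne.symm hn.1, Ne.symm hn.2, h0S.1, h0S.2, Ne.symm h0S.1,
              Ne.symm h0S.2, nab, Ne.symm nab]⟩
        ⟨![pt 0, none, a', b'], by
          intro u v; fin_cases u <;> fin_cases v <;>
            simp [pt0_ne, Ne.symm pt0_ne, hnT.1, hnT.2, Ne.symm hnT.1, Ne.symm hnT.2, h0T.1, h0T.2, Ne.symm h0T.1,
              Ne.symm h0T.2, nab', Ne.symm nab']⟩
      refine ⟨σ, hσ, hm 0, hm 1, ?_⟩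
      rw [absV_prm, ex, ey, prm_setVec, eS, eT, Finset.smul_finset_insert, Finset.smul_finset_singleton]
      show setVec 0 4 {σ a, σ b} = _
      rw [show σ a = a' from hm 2, show σ b = b' from hm 3]
  · rw [a1, prm_setVec] at ex ey
    have hS : α • ofMask 5279 ∈ octads := smul_octad hα baseOctad_mem
    have hT : β • ofMask 5279 ∈ octads := smul_octad hβ baseOctad_mem
    set S := α • ofMask 5279
    set T := β • ofMask 5279
    have info : ∀ {z : Zv} {U : Finset GolayPt}, z (pt 0) + z none = 0 → (∀ p, |z p| = if p ∈ U then 2 else 0) →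
        ((pt 0 ∈ U ↔ none ∈ U) ∧ (none ∈ U ↔ |z none| = 2)) := by
      intro z U hs hv
      have h0 := hv (pt 0)
      have h1 := hv none
      rw [show z (pt 0) = -z none by omega, abs_neg, h1] at h0
      refine ⟨?_, ?_⟩
      · by_cases q1 : none ∈ U <;> by_cases q2 : pt 0 ∈ U <;> simp [q1, q2] at h0 ⊢
      · by_cases q : none ∈ U <;> simp [q, h1]
    obtain ⟨iS, jS⟩ := info sx fun p => congrFun ex p
    obtain ⟨iT, jT⟩ := info sy fun p => congrFun ey p
    by_cases hn : none ∈ S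
    · have hnT : none ∈ T := jT.2 (h ▸ jS.1 hn)
      have pick : ∀ {U : Finset GolayPt}, U.card = 8 → none ∈ U → pt 0 ∈ U → ∃ c ∈ U, c ≠ none ∧ c ≠ pt 0 := by
        intro U hU h0 h1
        obtain ⟨c, hc⟩ := Finset.card_pos.1 (show 0 < ((U.erase none).erase (pt 0)).card by
          rw [Finset.card_erase_of_mem (Finset.mem_erase.2 ⟨pt0_ne, h1⟩), Finset.card_erase_of_mem h0, hU]
          norm_num)
        simp only [Finset.mem_erase] at hc
        exact ⟨c, hc.2.2, hc.2.1, hc.1⟩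
      obtain ⟨c, hc, cn, cp⟩ := pick hS.2 hn (iS.2 hn)
      obtain ⟨c', hc', cn', cp'⟩ := pick hT.2 hnT (iT.2 hnT)
      obtain ⟨σ, hσ, hσo, e0, e1, -⟩ := octad_three_map hS hT (iS.2 hn) hn hc pt0_ne (Ne.symm cp) (Ne.symm cn)
        (iT.2 hnT) hnT hc' pt0_ne (Ne.symm cp') (Ne.symm cn')
      exact ⟨σ, hσ, e0, e1, by rw [absV_prm, ex, ey, prm_setVec, hσo]⟩
    · have hnT : none ∉ T := fun q => hn (jS.2 (h.trans (jT.1 q)))
      obtain ⟨σ, hσ, e0, e1, hσo⟩ := octad_off_two hS hT (fun q => hn (iS.1 q)) hn (fun q => hnT (iT.1 q)) hnT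
      exact ⟨σ, hσ, e0, e1, by rw [absV_prm, ex, ey, prm_setVec, hσo]⟩
  · rw [a2, prm_setVec, Finset.smul_finset_singleton] at ex ey
    have info : ∀ {z : Zv} {c : GolayPt}, z (pt 0) + z none = 0 →
        (∀ p, |z p| = if p ∈ ({c} : Finset GolayPt) then 3 else 1) → c ≠ pt 0 ∧ c ≠ none := by
      intro z c hs hv
      have h0 := hv (pt 0)
      have h1 := hv none
      rw [show z (pt 0) = -z none by omega, abs_neg, h1] at h0
      constructor
      · rintro rfl; simp [Ne.symm pt0_ne] at h0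
      · rintro rfl; simp [pt0_ne] at h0
    obtain ⟨nS, nS'⟩ := info sx fun p => congrFun ex p
    obtain ⟨nT, nT'⟩ := info sy fun p => congrFun ey p
    obtain ⟨σ, hσ, hm⟩ := M24_trans (k := 3) (by norm_num)
      ⟨![pt 0, none, α • none], by
        intro u v; fin_cases u <;> fin_cases v <;>
          simp [pt0_ne, Ne.symm pt0_ne, (show α none ≠ pt 0 from nS), (show pt 0 ≠ α none from Ne.symm nS),
            (show α none ≠ none from nS'), (show none ≠ α none from Ne.symm nS')]⟩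
      ⟨![pt 0, none, β • none], by
        intro u v; fin_cases u <;> fin_cases v <;>
          simp [pt0_ne, Ne.symm pt0_ne, (show β none ≠ pt 0 from nT), (show pt 0 ≠ β none from Ne.symm nT),
            (show β none ≠ none from nT'), (show none ≠ β none from Ne.symm nT')]⟩
    refine ⟨σ, hσ, hm 0, hm 1, ?_⟩
    rw [absV_prm, ex, ey, prm_setVec, Finset.smul_finset_singleton]
    exact congrArg (fun c => setVec 1 3 ({c} : Finset GolayPt)) (hm 2)

/-- representatives -/
def orthRep (i : ℕ) : Zv := vecOf ((orthTraces.getD i []).getLastD [])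

/-- the test for words -/
def wordFree (z : Zv) (b : Bool) : Bool :=
  codeMasks.any fun m => (Nat.testBit m 0 == b) && (Nat.testBit m 23 == !b) &&
    (List.range 24).all fun k => (z (pt k) == 0) || !Nat.testBit m k

theorem orth_facts :
    (∀ i, i < 4 → traceOk fuseWord (orthTraces.getD i []) = true ∧ leechCheck (orthRep i) = true ∧
      sqNorm (orthRep i) = 32 ∧ dotInt pairRef (orthRep i) = 0 ∧
      prof (orthRep i) = [512, 512, 128, 128].getD i 0 ∧ |orthRep i none| = [4, 0, 2, 0].getD i 0 ∧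
      prof (vecOf ((orthTraces.getD i []).headD [])) = [512, 128, 128, 104].getD i 0 ∧
      |vecOf ((orthTraces.getD i []).headD []) (pt 13)| = [0, 2, 0, 1].getD i 0) ∧
    (∀ i, i < 4 → i % 2 = 1 → wordFree (orthRep i) true = true ∧ wordFree (orthRep i) false = true) := by
  constructor <;> decide +kernel

theorem wordFree_spec {z : Zv} {b : Bool} (h : wordFree z b = true) :
    ∃ c ∈ golayCode, (∀ p, z p ≠ 0 → c p = 0) ∧ (c (pt 0) ≠ 0 ↔ b = true) ∧ (c none ≠ 0 ↔ b = false) := by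
  simp only [wordFree, List.any_eq_true, Bool.and_eq_true, List.all_eq_true, Bool.or_eq_true, beq_iff_eq,
    Bool.not_eq_true'] at h
  obtain ⟨m, hm, ⟨h0, h1⟩, hz⟩ := h
  refine ⟨ofMaskW m, mem_code.2 (by rwa [wmask_ofMaskW (codeMasks_lt m hm)]), fun p hp => ?_, ?_, ?_⟩
  · have := hz (idx p) (List.mem_range.2 (idx_lt p))
    rw [pt_idx] at this
    simp [ofMaskW, this.resolve_left hp]
  · simp [ofMaskW, idx_pt 0 (by norm_num), h0]
  · simp [ofMaskW, show idx (none : GolayPt) = 23 from rfl, h1]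

theorem orth_connected {x y : Zv} (hx : x ∈ orth) (hy : y ∈ orth) : POrb x y := by
  classical
  obtain ⟨htr, h00, h01, -, -, -, ⟨m, hm, hm8, hm13⟩, hne⟩ := fuse_ok
  obtain ⟨hrep, hfree⟩ := orth_facts
  obtain ⟨g, -, hg⟩ := (by
    obtain ⟨x, hxi⟩ := exists_xi
    exact word_elem ⊤ (fun _ _ => Subgroup.mem_top _) (Subgroup.mem_top x) hxi fuseWord (trace_sound _ _ (htr 0 (by norm_num))).1 :
    ∃ g ∈ (⊤ : Subgroup ↥Co0), ∀ v : ↥leechLattice, ((g • v : ↥leechLattice) : Zv) = wordApp fuseWord (v : Zv))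
  obtain ⟨τ, hτ, hmap⟩ := M24_trans (k := 2) (by norm_num)
    ⟨![pt 8, pt 13], by intro u v; fin_cases u <;> fin_cases v <;> simp [hne, Ne.symm hne]⟩
    ⟨![pt 0, none], by intro u v; fin_cases u <;> fin_cases v <;> simp [pt0_ne, Ne.symm pt0_ne]⟩
  have hc : ofMaskW m ∈ golayCode := mem_code.2 (by rwa [wmask_ofMaskW (codeMasks_lt m hm)])
  obtain ⟨s, hs⟩ := exists_sgn hc
  obtain ⟨t, ht⟩ := exists_prm hτ
  have hG : ∀ v : ↥leechLattice, (((t * s * g) • v : ↥leechLattice) : Zv) =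
      prm τ (sgn (ofMaskW m) (wordApp fuseWord (v : Zv))) := fun v => by rw [mul_smul, mul_smul, ht, hs, hg]
  have hfix : (((t * s * g) • (⟨pairRef, pairRef_spec.1⟩ : ↥leechLattice) : ↥leechLattice) : Zv) = pairRef := by
    have e : wordApp fuseWord pairRef = (fuseEnd 0).2 := by
      rw [show pairRef = (fuseEnd 0).1 from funext fun p => (h00 p).symm]
      exact (trace_sound _ _ (htr 0 (by norm_num))).2
    rw [hG, e]
    funext p
    obtain ⟨q, rfl⟩ := τ.surjective p
    simp only [prm, sgn, Equiv.symm_apply_apply, h01, pairRef_eq]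
    have e8' : τ q = pt 0 ↔ q = pt 8 := by rw [← show τ (pt 8) = pt 0 from hmap 0, τ.injective.eq_iff]
    have e13 : τ q = none ↔ q = pt 13 := by rw [← show τ (pt 13) = none from hmap 1, τ.injective.eq_iff]
    by_cases hq : q = pt 8 ∨ q = pt 13
    · rw [if_pos hq, if_pos (show τ q = pt 0 ∨ τ q = none from hq.imp e8'.2 e13.2)]
      rcases hq with rfl | rfl <;> simp [ofMaskW, idx_pt, hm8, hm13]
    · rw [if_neg (show ¬(τ q = pt 0 ∨ τ q = none) from fun h => hq (h.imp e8'.1 e13.1))]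
      simp [hq]
  have edge : ∀ i, i < 4 → orthRep i ∈ orth ∧ ∃ z ∈ orth, POrb (orthRep i) z ∧
      prof z = [512, 128, 128, 104].getD i 0 ∧ |z none| = [0, 2, 0, 1].getD i 0 := by
    intro i hi
    obtain ⟨h0, h1, h2, h3, -, -, h6, h7⟩ := hrep i hi
    have hmem : orthRep i ∈ orth := ⟨leechCheck_mem h1, h2, h3⟩
    set q := vecOf ((orthTraces.getD i []).headD []) with hq
    have ho : SOrb (orthRep i) (prm τ (sgn (ofMaskW m) q)) := by
      refine ⟨hmem.1, t * s * g, hfix, ?_⟩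
      rw [hG]
      exact congrArg (fun z => prm τ (sgn (ofMaskW m) z)) (trace_sound _ _ h0).2
    refine ⟨hmem, _, ho.orth_mem hmem, Or.inl ho, ?_, ?_⟩
    · rw [← h6]; exact prof_img ⟨τ, hτ, _, hc, rfl⟩
    · rw [← h7]
      show |sgn (ofMaskW m) q (τ.symm none)| = _
      rw [show τ.symm none = pt 13 by rw [Equiv.symm_apply_eq]; exact (hmap 1).symm]
      by_cases hw : ofMaskW m (pt 13) = 0 <;> simp [sgn, hw]
  obtain ⟨q0, q1, q2, -⟩ := short_profiles
  have typ : ∀ {z : Zv}, z ∈ orth → ∃ j, j < 3 ∧ IsImg (shortBase j) z ∧ prof z = prof (shortBase j) := fun {z} hz => by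
    obtain ⟨j, hj, h⟩ := short_form hz.1 hz.2.1
    exact ⟨j, hj, h, prof_img h⟩
  have kinds : ∀ {z : Zv}, z ∈ orth → (prof z = 512 ∧ (|z none| = 4 ∨ |z none| = 0)) ∨
      (prof z = 128 ∧ (|z none| = 2 ∨ |z none| = 0)) ∨ (prof z = 104 ∧ |z none| = 1) := by
    intro z hz
    obtain ⟨j, hj, hi, p⟩ := typ hz
    obtain ⟨b0, b1, b2⟩ := short_abs hj hi none
    interval_cases j
    · exact Or.inl ⟨by omega, (b0 rfl).symm⟩
    · exact Or.inr (Or.inl ⟨by omega, (b1 rfl).symm⟩)
    · refine Or.inr (Or.inr ⟨by omega, (b2 rfl).resolve_right fun h3 => ?_⟩)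
      obtain ⟨σ, -, e⟩ := img_abs hi
      obtain ⟨-, -, a2, -⟩ := base_abs
      rw [a2, prm_setVec, Finset.smul_finset_singleton] at e
      have e1 : |z none| = setVec 1 3 {σ • (none : GolayPt)} none := congrFun e none
      have e0 : |z (pt 0)| = setVec 1 3 {σ • (none : GolayPt)} (pt 0) := congrFun e (pt 0)
      rw [show z (pt 0) = -z none from by have := orth_sum hz; omega, abs_neg, h3] at e0
      rw [h3] at e1
      simp only [setVec, Finset.mem_singleton] at e0 e1
      split_ifs at e0 e1 with w1 w2 <;> first | omega | exact pt0_ne (w1.trans w2.symm) | exact pt0_ne (w2.trans w1.symm)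
  -- one kind: to a representative with suitable words
  have toRep : ∀ {u r : Zv}, u ∈ orth → r ∈ orth → prof u = prof r → |u none| = |r none| →
      (r none ≠ 0 ∨ (wordFree r true = true ∧ wordFree r false = true)) → POrb u r := by
    intro u r hu hr hp ha hw
    obtain ⟨i, hi, h1, p1⟩ := typ hu
    obtain ⟨j, hj, h2, p2⟩ := typ hr
    have : i = j := by
      interval_cases i <;> interval_cases j <;> first | rfl | (exfalso; omega)
    subst this
    obtain ⟨σ, hσ, s0, s1, e⟩ := orth_config hi hu hr h1 h2 ha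
    have o1 : SOrb u (prm σ u) := sorb_perm hσ (Or.inl ⟨s0, s1⟩) hu.1
    have mu := o1.orth_mem hu
    refine POrb.trans (Or.inl o1) (POrb.symm (orth_same_abs hi hr mu h2 (img_prm hσ h1) e.symm ?_))
    refine hw.imp id fun ⟨wt, wf⟩ => ?_
    obtain ⟨c, hc, cz, c0, c1⟩ := wordFree_spec wt
    obtain ⟨c', hc', cz', c0', c1'⟩ := wordFree_spec wf
    refine ⟨⟨c, hc, cz, c0.2 rfl, ?_⟩, c', hc', cz', ?_, c1'.2 rfl⟩
    · by_contra h; exact absurd (c1.1 h) (by simp)
    · by_contra h; exact absurd (c0'.1 h) (by simp)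
  obtain ⟨r0, z0, mz0, o0, pz0, az0⟩ := edge 0 (by norm_num)
  obtain ⟨r1, z1, mz1, o1, pz1, az1⟩ := edge 1 (by norm_num)
  obtain ⟨r2, z2, mz2, o2, pz2, az2⟩ := edge 2 (by norm_num)
  obtain ⟨r3, z3, mz3, o3, pz3, az3⟩ := edge 3 (by norm_num)
  obtain ⟨-, -, -, -, p0, a0, -, -⟩ := hrep 0 (by norm_num)
  obtain ⟨-, -, -, -, p1, a1, -, -⟩ := hrep 1 (by norm_num)
  obtain ⟨-, -, -, -, p2, a2, -, -⟩ := hrep 2 (by norm_num)
  obtain ⟨-, -, -, -, p3, a3, -, -⟩ := hrep 3 (by norm_num)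
  simp only [List.getD_cons_zero, List.getD_cons_succ] at pz0 az0 pz1 az1 pz2 az2 pz3 az3 p0 a0 p1 a1 p2 a2 p3 a3
  have w1 := hfree 1 (by norm_num) rfl
  have w3 := hfree 3 (by norm_num) rfl
  have n0 : orthRep 0 none ≠ 0 := fun h => by rw [h] at a0; simp at a0
  have n2 : orthRep 2 none ≠ 0 := fun h => by rw [h] at a2; simp at a2
  have n3 : z3 none ≠ 0 := fun h => by rw [h] at az3; simp at az3
  have d1 : POrb (orthRep 0) (orthRep 1) := o0.trans (toRep mz0 r1 (by omega) (by omega) (Or.inr w1))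
  have d2 : POrb (orthRep 0) (orthRep 2) :=
    d1.trans (o1.trans (toRep mz1 r2 (by omega) (by omega) (Or.inl n2)))
  have d3 : POrb (orthRep 0) (orthRep 3) :=
    d2.trans (o2.trans (toRep mz2 r3 (by omega) (by omega) (Or.inr w3)))
  have hub : ∀ {u : Zv}, u ∈ orth → POrb u (orthRep 0) := by
    intro u hu
    rcases kinds hu with ⟨p, h | h⟩ | ⟨p, h | h⟩ | ⟨p, h⟩
    · exact toRep hu r0 (by omega) (by omega) (Or.inl n0)
    · exact (toRep hu r1 (by omega) (by omega) (Or.inr w1)).trans d1.symm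
    · exact (toRep hu r2 (by omega) (by omega) (Or.inl n2)).trans d2.symm
    · exact (toRep hu r3 (by omega) (by omega) (Or.inr w3)).trans d3.symm
    · exact (toRep hu mz3 (by omega) (by omega) (Or.inl n3)).trans (d3.trans o3).symm
  exact (hub hx).trans (hub hy).symm

theorem orth_pairs_transitive (v w w' : ↥leechLattice) (hv : sqNorm (v : Zv) = 32) (hw : sqNorm (w : Zv) = 32)
    (hw' : sqNorm (w' : Zv) = 32) (hd : dotInt (v : Zv) (w : Zv) = 0) (hd' : dotInt (v : Zv) (w' : Zv) = 0) :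
    ∃ g : ↥Co0, g • v = v ∧ (g • w = w' ∨ g • w = -w') := by
  obtain ⟨hx, k, hk⟩ := (orb_short v.2 hv).symm.trans (orb_short pairRef_spec.1 pairRef_spec.2)
  have hmem : ∀ u : ↥leechLattice, sqNorm (u : Zv) = 32 → dotInt (v : Zv) (u : Zv) = 0 →
      ((k • u : ↥leechLattice) : Zv) ∈ orth := fun u h1 h2 => by
    refine ⟨(k • u).2, (k.2.2 u).trans h1, ?_⟩
    have := co0_dot k ⟨(v : Zv), hx⟩ u
    rw [hk] at this
    exact this.trans h2
  have hkv : k • v = ⟨pairRef, pairRef_spec.1⟩ := Subtype.ext hk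
  have fixv : ∀ g : ↥Co0, ((g • (⟨pairRef, pairRef_spec.1⟩ : ↥leechLattice) : ↥leechLattice) : Zv) = pairRef →
      (k⁻¹ * g * k) • v = v := fun g hg => by
    rw [mul_smul, mul_smul, hkv, show g • (⟨pairRef, pairRef_spec.1⟩ : ↥leechLattice) = ⟨pairRef, pairRef_spec.1⟩
      from Subtype.ext hg, ← hkv, inv_smul_smul]
  rcases orth_connected (hmem w hw hd) (hmem w' hw' hd') with ⟨hL, g, hg, e⟩ | ⟨hL, g, hg, e⟩
  · refine ⟨k⁻¹ * g * k, fixv g hg, Or.inl ?_⟩
    rw [mul_smul, mul_smul, show g • k • w = k • w' from Subtype.ext e, inv_smul_smul]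
  · refine ⟨k⁻¹ * g * k, fixv g hg, Or.inr ?_⟩
    have hneg : k • (-w') = -(k • w') := by
      have h1 := co0_add k w' (-w')
      have h0 := co0_add k 0 0
      rw [add_zero] at h0
      rw [add_neg_cancel, add_eq_left.1 h0.symm] at h1
      exact eq_neg_of_add_eq_zero_right h1.symm
    rw [mul_smul, mul_smul, show g • k • w = k • (-w') from Subtype.ext (by rw [hneg]; exact e), inv_smul_smul]

end Cfsg.Agent.Spor
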