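import Cfsg.Agent.Lib.Spor.LoopExtDefs

/-!
The invariance of the signed triangles under a generator.
-/

set_option autoImplicit false
set_option maxRecDepth 100000
set_option Elab.async false

namespace Cfsg.Agent.Spor.LoopExt

open Cfsg.Agent.Spor

theorem inv1_0 : invCheck 1 0 64 = true := by decide +kernel

theorem inv1_1 : invCheck 1 64 64 = true := by decide +kernel

theorem inv1_2 : invCheck 1 128 64 = true := by decide +kernel

theorem inv1_3 : invCheck 1 192 64 = true := by decide +kernel

theorem inv1_4 : invCheck 1 256 64 = true := by decide +kernel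

theorem inv1_5 : invCheck 1 320 64 = true := by decide +kernel

theorem inv1_6 : invCheck 1 384 64 = true := by decide +kernel

theorem inv1_7 : invCheck 1 448 58 = true := by decide +kernel

theorem inv1 (a : ℕ) (ha : a < 506) :
    invRow (actPack.getD 1 0) (signPack.getD 1 0) (thirdPack.getD a 0) (loopPack.getD a 0)
      (thirdPack.getD (ai 1 a) 0) (loopPack.getD (ai 1 a) 0) (fbit 1 a) = true := by
  have get : ∀ lo len, invCheck 1 lo len = true → lo ≤ a → a < lo + len → _ := fun lo len hh h1 h2 => by
    have := List.all_eq_true.1 hh (a - lo) (List.mem_range.2 (by omega))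
    exact (show lo + (a - lo) = a by omega) ▸ this
  by_cases h0 : a < 64
  · exact get 0 64 inv1_0 (by omega) (by omega)
  by_cases h1 : a < 128
  · exact get 64 64 inv1_1 (by omega) (by omega)
  by_cases h2 : a < 192
  · exact get 128 64 inv1_2 (by omega) (by omega)
  by_cases h3 : a < 256
  · exact get 192 64 inv1_3 (by omega) (by omega)
  by_cases h4 : a < 320
  · exact get 256 64 inv1_4 (by omega) (by omega)
  by_cases h5 : a < 384
  · exact get 320 64 inv1_5 (by omega) (by omega)
  by_cases h6 : a < 448
  · exact get 384 64 inv1_6 (by omega) (by omega)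
  exact get 448 58 inv1_7 (by omega) (by omega)

end Cfsg.Agent.Spor.LoopExt
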