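import Cfsg.Agent.Lib.Spor.MathieuMultTwentyThreeData
import Cfsg.Agent.Lib.Spor.GolayWordChain
import Cfsg.Agent.Lib.Local.FS.MathieuPerms

/-!
Two generators of M23.
-/

set_option autoImplicit false
set_option maxRecDepth 100000

namespace Cfsg.Agent.Spor.LoopExt

open Cfsg Cfsg.Agent.Spor Cfsg.Agent.Local.FS.Mathieu Cfsg.Agent.Solv.StabCocycle Cfsg.Agent.Spor.WordChain

/-- the first generator -/
def permA : Equiv.Perm GolayPt := mkPerm MathieuMult.TwentyThree.genA MathieuMult.TwentyThree.genAi (by decide +kernel) (by decide +kernel)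

/-- the second generator -/
def permB : Equiv.Perm GolayPt := mkPerm MathieuMult.TwentyThree.genB MathieuMult.TwentyThree.genBi (by decide +kernel) (by decide +kernel)

theorem lst_gens : lst permA = MathieuMult.TwentyThree.genA ∧ lst permB = MathieuMult.TwentyThree.genB := ⟨by decide +kernel, by decide +kernel⟩

theorem mem_A : permA ∈ Cfsg.Spor.M23 := m23_mem_of_lst (by decide +kernel)

theorem mem_B : permB ∈ Cfsg.Spor.M23 := m23_mem_of_lst (by decide +kernel)

theorem chain_ok : (chainOK [MathieuMult.TwentyThree.genA, MathieuMult.TwentyThree.genB] MathieuMult.TwentyThree.chain [] && Nat.ble 10200960 (chainSize MathieuMult.TwentyThree.chain)) = true := by decide +kernel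

theorem gen_top : Subgroup.closure ({⟨permA, mem_A⟩, ⟨permB, mem_B⟩} : Set Cfsg.Spor.M23) = ⊤ := by
  have h := chain_ok
  rw [Bool.and_eq_true, Nat.ble_eq] at h
  exact closure_pair_eq (H := Cfsg.Spor.M23) (fun j => if j = 0 then permA else permB) mem_A mem_B card_m23 MathieuMult.TwentyThree.chain
    (by show chainOK [lst permA, lst permB] MathieuMult.TwentyThree.chain [] = true; rw [lst_gens.1, lst_gens.2]; exact h.1) h.2

end Cfsg.Agent.Spor.LoopExt
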