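import Cfsg.Agent.Lib.Spor.LoopExtCheck
import Cfsg.Agent.Lib.Spor.LoopExtCheckA
import Cfsg.Agent.Lib.Spor.LoopExtCheckB
import Cfsg.Agent.Lib.Spor.GolayTrans
import Cfsg.Agent.Lib.Spor.SteinerUnique
import Cfsg.Agent.Lib.Spor.LoopExtGens

/-!
A non-split extension of M23 by its cocode module: signed permutations of the octads avoiding the fixed point
which preserve the triangles with the signs of the code loop.
-/

set_option autoImplicit false
set_option maxRecDepth 4000

noncomputable section

namespace Cfsg.Agent.Spor.LoopExt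

open Cfsg Cfsg.Agent.Spor
open scoped Pointwise

abbrev Oc : Type := Fin 506
abbrev F2 : Type := ZMod 2
abbrev M : Type := ↥Cfsg.Spor.M23

/-- a Boolean as a sign -/
def b2 (b : Bool) : F2 := if b then 1 else 0

theorem b2_xor (a b : Bool) : b2 (a ^^ b) = b2 a + b2 b := by cases a <;> cases b <;> decide

theorem om_facts (i : Oc) : pc (om i) = 8 ∧ Nat.testBit (om i) 23 = false ∧ om i ∈ codeMasks ∧
    ∀ k < (i : ℕ), om k < om i := by
  have h := List.all_eq_true.1 om_ok i (List.mem_range.2 i.2)
  simp only [Bool.and_eq_true, beq_iff_eq, Bool.not_eq_true', List.all_eq_true, List.mem_range, Nat.blt_eq] at h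
  exact ⟨h.1.1.1, h.1.1.2, Local.FS.Mathieu.mem_of_reduceB Local.FS.Mathieu.codeEchelon_mem h.1.2, h.2⟩

theorem om_inj {i k : Oc} (h : om i = om k) : i = k := by
  refine Fin.ext ?_
  rcases lt_trichotomy (i : ℕ) k with hl | he | hl
  · have := (om_facts k).2.2.2 i hl; omega
  · exact he
  · have := (om_facts i).2.2.2 k hl; omega

theorem om_lt (i : Oc) : om i < 2 ^ 24 := codeMasks_lt _ (om_facts i).2.2.1

theorem mem_none {m : ℕ} : none ∈ ofMask m ↔ Nat.testBit m 23 = true := by
  rw [mem_ofMask]; exact Iff.rfl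

theorem exists_image (σ : M) (a : Oc) : ∃ b : Oc, om b = mask (σ.1 • ofMask (om a)) := by
  obtain ⟨h8, h23, hc, -⟩ := om_facts a
  have hcode : mask (σ.1 • ofMask (om a)) ∈ codeMasks := by
    have hm : ofMask (om a) ∈ supports (golayCode : Set (GolayPt → ZMod 2)) := by
      rw [mem_supports, mask_ofMask (om_lt a)]; exact hc
    have h2 := Set.smul_mem_smul_set (a := σ.1) hm
    rw [MulAction.mem_stabilizer_iff.1 σ.2.1] at h2
    exact mem_supports.1 h2
  have hpc : pc (mask (σ.1 • ofMask (om a))) = 8 := by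
    rw [pc_mask, smul_finset_eq_image, Finset.card_image_of_injective _ σ.1.injective, ← pc_mask,
      mask_ofMask (om_lt a), h8]
  have hnone : Nat.testBit (mask (σ.1 • ofMask (om a))) 23 = false := by
    rw [Bool.eq_false_iff]
    intro hb
    rw [← mem_none, ofMask_mask, smul_finset_eq_image, Finset.mem_image] at hb
    obtain ⟨p, hp, hpn⟩ := hb
    have hfix : σ.1 none = none := MulAction.mem_stabilizer_iff.1 σ.2.2
    rw [σ.1.injective (hpn.trans hfix.symm), mem_none, h23] at hp
    exact Bool.false_ne_true hp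
  have hmem : mask (σ.1 • ofMask (om a)) ∈ octMasks := List.mem_filter.2 ⟨hcode, by rw [hpc]; rfl⟩
  have h := List.all_eq_true.1 oct_ok _ hmem
  rw [hnone, Bool.false_or, List.any_eq_true] at h
  obtain ⟨i, hi, he⟩ := h
  exact ⟨⟨i, List.mem_range.1 hi⟩, Nat.beq_eq ▸ he⟩

/-- the action on the octads -/
def act (σ : M) (a : Oc) : Oc := (exists_image σ a).choose

theorem act_spec (σ : M) (a : Oc) : om (act σ a) = mask (σ.1 • ofMask (om a)) := (exists_image σ a).choose_spec

theorem act_mul (σ τ : M) (a : Oc) : act (σ * τ) a = act σ (act τ a) := by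
  apply om_inj
  rw [act_spec, act_spec, act_spec, ofMask_mask, Subgroup.coe_mul, mul_smul]

theorem act_one (a : Oc) : act 1 a = a := by
  apply om_inj
  rw [act_spec, OneMemClass.coe_one, one_smul, mask_ofMask (om_lt a)]

theorem act_inv (σ : M) (a : Oc) : act σ⁻¹ (act σ a) = a := by rw [← act_mul, inv_mul_cancel, act_one]

theorem act_inv' (σ : M) (a : Oc) : act σ (act σ⁻¹ a) = a := by rw [← act_mul, mul_inv_cancel, act_one]

/-- the sign of a triangle -/
def sg (a b : Oc) : F2 := b2 (lsign a b)

/-- the sign function of a permutation of the signed octads -/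
def F (g : Equiv.Perm (Oc × F2)) (a : Oc) : F2 := (g (a, 0)).2

/-- the invariance of the signed triangles -/
def Pres (σ : M) (f : Oc → F2) : Prop :=
  ∀ a b c : Oc, third a b = c → third (act σ a) (act σ b) = act σ c ∧
    f a + f b + f c + sg a b + sg (act σ a) (act σ b) = 0

/-- the carrier of the extension -/
def Good (x : Equiv.Perm (Oc × F2) × M) : Prop :=
  (∀ a s, x.1 (a, s) = (act x.2 a, s + F x.1 a)) ∧ Pres x.2 (F x.1)

theorem two_zero (s : F2) : s + s = 0 := CharTwo.add_self_eq_zero s

theorem good_one : Good (1 : Equiv.Perm (Oc × F2) × M) := by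
  have h0 : ∀ a, F (1 : Equiv.Perm (Oc × F2)) a = 0 := fun a => rfl
  refine ⟨fun a s => ?_, fun a b c h => ?_⟩
  · show (a, s) = _
    rw [Prod.snd_one, Prod.fst_one, act_one, h0, add_zero]
  · simp only [Prod.snd_one, Prod.fst_one, act_one, h0, zero_add, two_zero]
    exact ⟨h, trivial⟩

theorem F_mul {x y : Equiv.Perm (Oc × F2) × M} (hx : Good x) (hy : Good y) (a : Oc) :
    F (x * y).1 a = F y.1 a + F x.1 (act y.2 a) := by
  show (x.1 (y.1 (a, 0))).2 = _
  rw [hy.1, hx.1, zero_add]

theorem good_mul {x y : Equiv.Perm (Oc × F2) × M} (hx : Good x) (hy : Good y) : Good (x * y) := by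
  refine ⟨fun a s => ?_, fun a b c h => ?_⟩
  · rw [F_mul hx hy, Prod.snd_mul, act_mul]
    show x.1 (y.1 (a, s)) = _
    rw [hy.1, hx.1, add_assoc]
  · obtain ⟨h1, h1'⟩ := hy.2 a b c h
    obtain ⟨h2, h2'⟩ := hx.2 _ _ _ h1
    simp only [Prod.snd_mul, act_mul, F_mul hx hy]
    refine ⟨h2, ?_⟩
    have e := two_zero (sg (act y.2 a) (act y.2 b))
    linear_combination h1' + h2' - e

/-- the submonoid -/
def ESub : Submonoid (Equiv.Perm (Oc × F2) × M) where
  carrier := {x | Good x}
  one_mem' := good_one
  mul_mem' := good_mul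

/-- the extension -/
def E : Subgroup (Equiv.Perm (Oc × F2) × M) where
  toSubmonoid := ESub
  inv_mem' := by
    intro x hx
    obtain ⟨m, hm⟩ := isOfFinOrder_iff_pow_eq_one.1 (isOfFinOrder_of_finite x)
    have e : x⁻¹ = x ^ (m - 1) := inv_eq_of_mul_eq_one_right (by
      rw [← pow_succ', Nat.sub_add_cancel hm.1, hm.2])
    exact e ▸ ESub.pow_mem hx (m - 1)

/-- the signed permutation -/
def sperm (σ : M) (f : Oc → F2) : Equiv.Perm (Oc × F2) where
  toFun x := (act σ x.1, x.2 + f x.1)
  invFun x := (act σ⁻¹ x.1, x.2 + f (act σ⁻¹ x.1))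
  left_inv x := by
    obtain ⟨a, s⟩ := x
    simp only [act_inv, add_assoc, two_zero, add_zero]
  right_inv x := by
    obtain ⟨a, s⟩ := x
    simp only [act_inv', add_assoc, two_zero, add_zero]

theorem F_sperm (σ : M) (f : Oc → F2) (a : Oc) : F (sperm σ f) a = f a := zero_add _

theorem good_sperm {σ : M} {f : Oc → F2} (h : Pres σ f) : (sperm σ f, σ) ∈ E := by
  refine ⟨fun a s => ?_, fun a b c hc => ?_⟩
  · show (act σ a, s + f a) = _
    rw [F_sperm]
  · simp only [F_sperm]; exact h a b c hc

/-- the map onto M23 -/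
def proj : ↥E →* M := (MonoidHom.snd _ _).comp E.subtype

theorem E_ext {x y : ↥E} (h2 : proj x = proj y) (hF : ∀ a, F x.1.1 a = F y.1.1 a) : x = y := by
  refine Subtype.ext (Prod.ext (Equiv.ext fun z => ?_) h2)
  obtain ⟨a, s⟩ := z
  rw [x.2.1, y.2.1, hF]
  exact congrArg (fun t => (act t a, s + F y.1.1 a)) h2

theorem F_mul' (x y : ↥E) (a : Oc) : F (x * y).1.1 a = F y.1.1 a + F x.1.1 (act (proj y) a) := F_mul x.2 y.2 a

/-! ### The kernel -/

/-- the product of a word with a mask -/
def dot (w : GolayPt → F2) (m : ℕ) : F2 := ∑ p, w p * ofMaskW m p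

theorem dot_xor (w : GolayPt → F2) (m n : ℕ) : dot w (m ^^^ n) = dot w m + dot w n := by
  rw [dot, dot, dot, ← Finset.sum_add_distrib]
  refine Finset.sum_congr rfl fun p _ => ?_
  rw [← mul_add]
  congr 1
  simp only [ofMaskW, Nat.testBit_xor]
  cases m.testBit (idx p) <;> cases n.testBit (idx p) <;> decide

theorem dot_zero (w : GolayPt → F2) : dot w 0 = 0 :=
  Finset.sum_eq_zero fun p _ => by simp [ofMaskW]

theorem valid_entry {a b c : Oc} (h : third a b = c) : om a ^^^ om b = om c := by
  have hrow : validRow (om a) (thirdPack.getD a 0) = true := by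
    by_cases ha : (a : ℕ) < 253
    · exact List.all_eq_true.1 valid0 a (List.mem_range.2 ha)
    · have := List.all_eq_true.1 valid1 ((a : ℕ) - 253) (List.mem_range.2 (by omega))
      simp only [show 253 + ((a : ℕ) - 253) = a by omega] at this
      exact this
  have := List.all_eq_true.1 hrow b (List.mem_range.2 b.2)
  simp only [Bool.or_eq_true, Nat.beq_eq, Bool.and_eq_true, Nat.blt_eq] at this
  rw [third] at h
  rcases this with e | e
  · omega
  · rw [h] at e; exact e.2

theorem pres_dot (w : GolayPt → F2) : Pres 1 (fun a => dot w (om a)) := by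
  intro a b c h
  simp only [act_one]
  refine ⟨h, ?_⟩
  rw [← valid_entry h, dot_xor]
  linear_combination two_zero (dot w (om a) + dot w (om b)) + two_zero (sg a b)

/-- the element of a word -/
def kel (w : GolayPt → F2) : ↥(proj.ker) :=
  ⟨⟨(sperm 1 fun a => dot w (om a), 1), good_sperm (pres_dot w)⟩, rfl⟩

theorem F_kel (w : GolayPt → F2) (a : Oc) : F (kel w).1.1.1 a = dot w (om a) := by
  unfold kel
  exact F_sperm 1 (fun a : Oc => dot w (om a)) a

theorem ker_ext {x y : ↥(proj.ker)} (h : ∀ a, F x.1.1.1 a = F y.1.1.1 a) : x = y :=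
  Subtype.ext (E_ext ((MonoidHom.mem_ker.1 x.2).trans (MonoidHom.mem_ker.1 y.2).symm) h)

theorem F_ker_mul (x y : ↥(proj.ker)) (a : Oc) : F (x * y).1.1.1 a = F x.1.1.1 a + F y.1.1.1 a := by
  rw [Subgroup.coe_mul, F_mul', MonoidHom.mem_ker.1 y.2, act_one, add_comm]

/-- the words onto the kernel -/
def theta : (GolayPt → F2) →+ Additive ↥(proj.ker) :=
  AddMonoidHom.mk' (fun w => Additive.ofMul (kel w)) fun v w => by
    rw [← ofMul_mul]
    refine congrArg Additive.ofMul (ker_ext fun a => ?_)
    rw [F_ker_mul, F_kel, F_kel, F_kel, dot, dot, dot, ← Finset.sum_add_distrib]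
    exact Finset.sum_congr rfl fun p _ => by rw [Pi.add_apply, add_mul]

theorem grown {f : Oc → F2} (hlin : ∀ a b c : Oc, third a b = c → f c = f a + f b) :
    ∀ (l : List (ℕ × ℕ × ℕ)) (K : List ℕ), growOK l K = true → (∀ i : Oc, (i : ℕ) ∈ K → f i = 0) →
      ∀ i : Oc, (i : ℕ) ∈ growSet l K → f i = 0
  | [], _, _, hK => hK
  | e :: l, K, h, hK => by
    simp only [growOK, Bool.and_eq_true, Nat.beq_eq, Nat.blt_eq, List.contains_iff_mem] at h
    obtain ⟨⟨⟨⟨⟨⟨he, ha⟩, hb⟩, hc⟩, hKa⟩, hKb⟩, hl⟩ := h
    refine grown hlin l _ hl fun i hi => ?_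
    rcases List.mem_cons.1 hi with hi | hi
    · rw [hlin ⟨_, ha⟩ ⟨_, hb⟩ i (he.trans hi.symm), hK _ hKa, hK _ hKb, add_zero]
    · exact hK i hi

theorem determined {f : Oc → F2} (hlin : ∀ a b c : Oc, third a b = c → f c = f a + f b)
    (h0 : ∀ i : Oc, (i : ℕ) ∈ baseIdx → f i = 0) (i : Oc) : f i = 0 := by
  obtain ⟨-, hok, hall⟩ := grow_ok
  refine grown hlin steps baseIdx hok h0 i ?_
  have := List.all_eq_true.1 hall i (List.mem_range.2 i.2)
  exact List.contains_iff_mem.1 this

theorem sum_ofMaskW (d m : ℕ) (hd : d < 2 ^ 24) : dot (ofMaskW d) m = ((pc (d &&& m) : ℕ) : F2) := by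
  rw [dot, ← mask_ofMask hd]
  have hm : ∀ p, ofMaskW (mask (ofMask d)) p * ofMaskW m p = if p ∈ ofMask d ∩ ofMask m then 1 else 0 := by
    intro p
    simp only [Finset.mem_inter, mem_ofMask, ofMaskW, mask_ofMask hd]
    cases d.testBit (idx p) <;> cases m.testBit (idx p) <;> simp
  rw [Finset.sum_congr rfl fun p _ => hm p, Finset.sum_boole, Finset.filter_mem_eq_inter, Finset.univ_inter]
  congr 1
  rw [← pc_mask, mask_inter, mask_ofMask hd, pc_eq, pc_eq]
  refine congrArg List.length (List.filter_congr fun i hi => ?_)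
  rw [Nat.testBit_and, Nat.testBit_and]
  congr 1
  rw [← idx_pt i (List.mem_range.1 hi)]
  exact Bool.eq_iff_iff.2 (testBit_mask_idx.trans mem_ofMask)

theorem duals_lt : ∀ k < 11, duals.getD k 0 < 2 ^ 24 := by decide +kernel

theorem theta_surjective : Function.Surjective theta := by
  intro x
  set f : Oc → F2 := fun a => F (Additive.toMul x).1.1.1 a with hf
  let v : ℕ → F2 := fun k => if h : baseIdx.getD k 0 < 506 then f ⟨_, h⟩ else 0
  refine ⟨∑ k ∈ Finset.range 11, v k • ofMaskW (duals.getD k 0), ?_⟩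
  apply Additive.toMul.injective
  refine ker_ext fun a => ?_
  show F (kel _).1.1.1 a = f a
  rw [F_kel]
  have hP : Pres 1 f := by
    have h := (Additive.toMul x).1.2.2
    rw [show (Additive.toMul x).1.1.2 = 1 from (Additive.toMul x).2] at h
    exact h
  set g : Oc → F2 := fun a => dot (∑ k ∈ Finset.range 11, v k • ofMaskW (duals.getD k 0)) (om a) + f a with hg
  suffices hz : g a = 0 by
    rw [← sub_eq_zero, sub_eq_add_neg, ZModModule.neg_eq_self]; exact hz
  refine determined (fun a b c h => ?_) (fun i hi => ?_) a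
  · have h1 := (hP a b c h).2
    rw [act_one, act_one] at h1
    have e := two_zero (sg a b)
    have e1 := two_zero (f a)
    have e2 := two_zero (f b)
    simp only [hg]
    rw [← valid_entry h, dot_xor]
    linear_combination h1 - e - e1 - e2
  · obtain ⟨hl, hb, hd⟩ := dual_ok
    obtain ⟨j, hj, e⟩ := List.getElem_of_mem hi
    rw [hb] at hj
    have hij : baseIdx.getD j 0 = i := by rw [List.getD_eq_getElem _ _ (hb ▸ hj), e]
    have hdot : dot (∑ k ∈ Finset.range 11, v k • ofMaskW (duals.getD k 0)) (om i) = v j := by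
      rw [dot]
      simp only [Finset.sum_apply, Pi.smul_apply, smul_eq_mul, Finset.sum_mul, mul_assoc]
      rw [Finset.sum_comm]
      rw [Finset.sum_eq_single j]
      · rw [← Finset.mul_sum]
        show v j * dot _ _ = _
        rw [sum_ofMaskW _ _ (duals_lt j hj)]
        have h := List.all_eq_true.1 (List.all_eq_true.1 hd j (List.mem_range.2 hj)) j (List.mem_range.2 hj)
        rw [hij] at h
        simp only [decide_true, beq_iff_eq] at h
        rw [← ZMod.natCast_mod, h, Nat.cast_one, mul_one]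
      · intro k hk hkj
        rw [← Finset.mul_sum]
        show v k * dot _ _ = _
        have hk' := Finset.mem_range.1 hk
        rw [sum_ofMaskW _ _ (duals_lt k hk')]
        have h := List.all_eq_true.1 (List.all_eq_true.1 hd k (List.mem_range.2 hk')) j (List.mem_range.2 hj)
        rw [hij] at h
        simp only [hkj, decide_false, beq_iff_eq, beq_eq_false_iff_ne] at h
        rw [← ZMod.natCast_mod, (Nat.mod_two_eq_zero_or_one _).resolve_right h, Nat.cast_zero, mul_zero]
      · intro hn; exact absurd (Finset.mem_range.2 hj) hn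
    simp only [hg, hdot]
    have hvj : v j = f i := by
      simp only [v]
      rw [dif_pos (hij ▸ i.2)]
      exact congrArg f (Fin.ext hij)
    rw [hvj, two_zero]

theorem code_perp {w : GolayPt → F2} (h : ∀ m ∈ codeMasks, dot w m = 0) : w ∈ golayCode := by
  classical
  have hle : golayCode ≤ Code24.perp golayCode := fun v hv c hc => code_orth hv hc
  have heq : golayCode = Code24.perp golayCode := by
    refine Submodule.eq_of_le_of_finrank_eq hle ?_
    have h1 := Code24.finrank_perp golayCode
    rw [Cfsg.Agent.S0358.result, show Fintype.card GolayPt = 24 by decide +kernel] at h1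
    rw [Cfsg.Agent.S0358.result]; omega
  rw [heq]
  intro c hc
  have e : c = ofMaskW (wmask c) := support₂_injective (by rw [support₂_ofMaskW, wmask, ofMask_mask])
  rw [e]
  exact h _ (mem_code.1 hc)

theorem theta_ker (w : GolayPt → F2) :
    theta w = 0 ↔ (w ∈ golayCode ∨ w + Pi.single none 1 ∈ golayCode) := by
  have hdel : ∀ m, dot (w + Pi.single none 1) m = dot w m + b2 (m.testBit 23) := by
    intro m
    rw [dot, dot, show (b2 (m.testBit 23)) = ∑ p, (Pi.single none 1 : GolayPt → F2) p * ofMaskW m p by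
      rw [Finset.sum_eq_single none]
      · simp only [Pi.single_eq_same, one_mul]; rfl
      · intro p _ hp; simp [Pi.single_eq_of_ne hp]
      · simp, ← Finset.sum_add_distrib]
    exact Finset.sum_congr rfl fun p _ => by rw [Pi.add_apply, add_mul]
  have hzero : theta w = 0 ↔ ∀ a : Oc, dot w (om a) = 0 := by
    constructor
    · intro h a
      have e : kel w = 1 := congrArg Additive.toMul h
      rw [← F_kel, e]; rfl
    · intro h
      refine congrArg Additive.ofMul (ker_ext (x := kel w) (y := 1) fun a => ?_)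
      rw [F_kel, h]; rfl
  rw [hzero]
  constructor
  · intro h
    obtain ⟨-, -, hs23, hcomb⟩ := combo_ok
    have key : ∀ u : GolayPt → F2, (∀ a : Oc, dot u (om a) = 0) → dot u star = 0 → u ∈ golayCode := by
      intro u hu hus
      refine code_perp fun m hm => ?_
      refine xorSpan_induction (P := fun m => dot u m = 0) (dot_zero u) (fun a b ha hb => by rw [dot_xor, ha, hb, add_zero])
        (fun g hg => ?_) m hm
      obtain ⟨i, hi, rfl⟩ := List.getElem_of_mem hg
      have hi12 : i < 12 := by simpa [codeBasis] using hi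
      have hc := List.all_eq_true.1 hcomb i (List.mem_range.2 hi12)
      simp only [Bool.and_eq_true, List.all_eq_true, Nat.blt_eq, Nat.beq_eq] at hc
      rw [← List.getD_eq_getElem _ 0 hi, ← hc.2]
      have hk : ∀ k < 12, dot u ((baseIdx.map om ++ [star]).getD k 0) = 0 := by
        intro k hk
        by_cases hk' : k < 11
        · have hb : k < baseIdx.length := by rw [dual_ok.2.1]; exact hk'
          rw [List.getD_eq_getElem _ _ (by simp; omega), List.getElem_append_left (by simpa using hb), List.getElem_map]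
          exact hu ⟨_, Nat.blt_eq.mp (List.all_eq_true.1 grow_ok.1 _ (List.getElem_mem hb))⟩
        · obtain rfl : k = 11 := by omega
          simpa [baseIdx] using hus
      revert hc
      generalize combos.getD i [] = l
      intro hc
      have hl := hc.1
      clear hc
      induction l with
      | nil => exact dot_zero u
      | cons k l ih =>
        rw [List.map_cons, List.foldr_cons, dot_xor, hk k (hl k (List.mem_cons_self ..)),
          ih fun x hx => hl x (List.mem_cons_of_mem _ hx), add_zero]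
    by_cases hs : dot w star = 0
    · exact Or.inl (key w h hs)
    · refine Or.inr (key _ (fun a => ?_) ?_)
      · rw [hdel, h, (om_facts a).2.1]; decide
      · rw [hdel, hs23, show dot w star = 1 from (by
          revert hs; generalize dot w star = t; revert t; decide)]
        decide
  · intro h a
    have hperp : ∀ u ∈ golayCode, dot u (om a) = 0 := fun u hu =>
      code_orth hu (mem_code.2 (by rw [wmask, support₂_ofMaskW, mask_ofMask (om_lt a)]; exact (om_facts a).2.2.1))
    rcases h with h | h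
    · exact hperp w h
    · have := hperp _ h
      rw [hdel, (om_facts a).2.1] at this
      simpa [b2] using this

theorem dot_image (σ : M) (w : GolayPt → F2) (a : Oc) :
    dot (w ∘ ⇑(σ.1)⁻¹) (om (act σ a)) = dot w (om a) := by
  rw [dot, ← Equiv.sum_comp σ.1, dot]
  refine Finset.sum_congr rfl fun p _ => ?_
  rw [Function.comp_apply, Equiv.Perm.inv_def, Equiv.symm_apply_apply]
  congr 1
  rw [act_spec]
  have : (σ.1 p ∈ σ.1 • ofMask (om a)) ↔ p ∈ ofMask (om a) := by
    rw [smul_finset_eq_image, Finset.mem_image]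
    exact ⟨fun ⟨q, hq, e⟩ => σ.1.injective e ▸ hq, fun hp => ⟨p, hp, rfl⟩⟩
  have h2 : Nat.testBit (mask (σ.1 • ofMask (om a))) (idx (σ.1 p)) = Nat.testBit (om a) (idx p) :=
    Bool.eq_iff_iff.2 (testBit_mask_idx.trans (this.trans mem_ofMask))
  simp only [ofMaskW, h2]

theorem theta_conj (g : ↥E) (w : GolayPt → F2) :
    ((kel (w ∘ ⇑((proj g).1)⁻¹)) : ↥E) = g * (kel w : ↥E) * g⁻¹ := by
  rw [eq_mul_inv_iff_mul_eq]
  have hk : ∀ u, proj (kel u : ↥E) = 1 := fun u => rfl
  refine E_ext (by rw [map_mul, map_mul, hk, hk, one_mul, mul_one]) fun a => ?_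
  rw [F_mul', F_mul', hk, act_one, F_kel, F_kel, dot_image, add_comm]

/-! ### The generators -/

/-- a generator -/
def gm (j : ℕ) : M :=
  if j = 0 then ⟨permA, mem_A⟩
  else ⟨permB, mem_B⟩

theorem gm_lst (j : ℕ) : Local.FS.Mathieu.lst (gm j).1 = glist j := by
  unfold gm glist
  split_ifs
  · exact lst_gens.1
  · exact lst_gens.2

theorem act_gm {j : ℕ} (hj : j < 2) (a : Oc) : ((act (gm j) a : Oc) : ℕ) = ai j a := by
  have h := List.all_eq_true.1 (List.all_eq_true.1 act_ok j (List.mem_range.2 hj)) a (List.mem_range.2 a.2)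
  simp only [Bool.and_eq_true, Nat.blt_eq, Nat.beq_eq] at h
  have e : act (gm j) a = ⟨ai j a, h.1⟩ := om_inj (by
    rw [act_spec, (Local.FS.Mathieu.rep_lst _).mask_smul, mask_ofMask (om_lt a), gm_lst]
    exact h.2)
  rw [e]

theorem pres_gen {j : ℕ} (hj : j < 2) : Pres (gm j) (fun a => b2 (fbit j a)) := by
  intro a b c h
  have hrow : invRow (actPack.getD j 0) (signPack.getD j 0) (thirdPack.getD a 0) (loopPack.getD a 0)
      (thirdPack.getD (ai j a) 0) (loopPack.getD (ai j a) 0) (fbit j a) = true := by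
    interval_cases j
    · exact inv0 a a.2
    · exact inv1 a a.2
  have hb := List.all_eq_true.1 hrow b (List.mem_range.2 b.2)
  rw [third] at h
  simp only [h, Bool.or_eq_true, Nat.beq_eq, Bool.and_eq_true, beq_iff_eq] at hb
  rcases hb with e | ⟨e1, e2⟩
  · omega
  constructor
  · rw [third, act_gm hj, act_gm hj, act_gm hj]; exact e1
  · have := congrArg b2 e2
    simp only [b2_xor] at this
    simp only [sg, lsign, fbit, act_gm hj, ai]
    exact this

/-- a lifted generator -/
def ge {j : ℕ} (hj : j < 2) : ↥E := ⟨(sperm (gm j) fun a => b2 (fbit j a), gm j), good_sperm (pres_gen hj)⟩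

theorem proj_surjective : Function.Surjective proj := by
  rw [← MonoidHom.range_eq_top, eq_top_iff, ← gen_top, Subgroup.closure_le]
  rintro x (rfl | rfl)
  · exact ⟨ge (j := 0) (by norm_num), rfl⟩
  · exact ⟨ge (j := 1) (by norm_num), rfl⟩

/-! ### No complement -/

/-- the permutation of a letter -/
def gp (j : ℕ) : Equiv.Perm GolayPt := (gm j).1

theorem evalW_snoc (A : ℕ → Equiv.Perm GolayPt) (u : List ℕ) (j : ℕ) :
    Solv.StabCocycle.evalW A (u ++ [j]) = A j * Solv.StabCocycle.evalW A u := by
  induction u with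
  | nil => simp [Solv.StabCocycle.evalW]
  | cons k u ih => rw [List.cons_append, Solv.StabCocycle.evalW, ih, Solv.StabCocycle.evalW, mul_assoc]

theorem prod_eq_evalW : ∀ w : List ℕ, ((w.map gm).prod).1 = Solv.StabCocycle.evalW gp w.reverse
  | [] => rfl
  | j :: w => by
    rw [List.reverse_cons, evalW_snoc, List.map_cons, List.prod_cons, Subgroup.coe_mul, prod_eq_evalW w]
    rfl

theorem no_complement (H : Subgroup ↥E) (hinf : H ⊓ proj.ker = ⊥) : H ⊔ proj.ker ≠ ⊤ := by
  intro hsup
  have hlift : ∀ j < 2, ∃ h ∈ H, ∃ v : GolayPt → F2, proj h = gm j ∧ ∀ a, F h.1.1 a = b2 (fbit j a) + dot v (om a) := by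
    intro j hj
    have hg : ge hj ∈ ((H ⊔ proj.ker : Subgroup ↥E) : Set ↥E) := by rw [hsup]; trivial
    rw [Subgroup.mul_normal] at hg
    obtain ⟨h, hh, k, hk, e⟩ := Set.mem_mul.1 hg
    obtain ⟨v, hv⟩ := theta_surjective (Additive.ofMul (⟨k, hk⟩ : ↥(proj.ker)))
    have hv' : (kel v : ↥E) = k := congrArg (fun z => ((Additive.toMul z : ↥(proj.ker)) : ↥E)) hv
    have hkp : proj k = 1 := hk
    refine ⟨h, hh, v, ?_, fun a => ?_⟩
    · have := congrArg proj e
      rw [map_mul, hkp, mul_one] at this
      exact this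
    · have := congrArg (fun z : ↥E => F z.1.1 a) e
      simp only [F_mul', hkp, act_one] at this
      rw [← hv', F_kel] at this
      rw [show F (ge hj).1.1 a = b2 (fbit j a) from (by unfold ge; exact F_sperm (gm j) (fun b : Oc => b2 (fbit j b)) a)] at this
      have e2 := two_zero (dot v (om a))
      linear_combination this - e2
  obtain ⟨h0, hh0, v0, hp0, hF0⟩ := hlift 0 (by norm_num)
  obtain ⟨h1, hh1, v1, hp1, hF1⟩ := hlift 1 (by norm_num)
  let el : ℕ → ↥E := fun j => if j = 0 then h0 else h1
  let val : (ℕ × ℕ × Bool) → F2 := fun r => dot v0 r.1 + dot v1 r.2.1 + b2 r.2.2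
  have hel : ∀ j < 2, el j ∈ H ∧ proj (el j) = gm j := fun j hj => by
    interval_cases j
    · exact ⟨hh0, hp0⟩
    · exact ⟨hh1, hp1⟩
  have hwalk : ∀ (w : List ℕ), (∀ j ∈ w, j < 2) → ∀ a : Oc,
      (w.map el).prod ∈ H ∧ F (w.map el).prod.1.1 a = val (walk w a).1 ∧
        proj (w.map el).prod = (w.map gm).prod ∧ (act (w.map gm).prod a : ℕ) = (walk w a).2 := by
    intro w
    induction w with
    | nil =>
      intro _ a
      refine ⟨one_mem _, ?_, map_one _, by simp [walk, act_one]⟩
      simp only [List.map_nil, List.prod_nil, walk, List.foldr_nil, val, dot_zero]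
      rfl
    | cons j w ih =>
      intro hw a
      have hj := hw j (List.mem_cons_self ..)
      obtain ⟨i1, i2, i3, i4⟩ := ih (fun k hk => hw k (List.mem_cons_of_mem _ hk)) a
      simp only [List.map_cons, List.prod_cons]
      refine ⟨mul_mem (hel j hj).1 i1, ?_, by rw [map_mul, (hel j hj).2, i3], ?_⟩
      · rw [F_mul', i2, i3, show walk (j :: w) a = stepW j (walk w a) from rfl]
        revert i4
        rcases hw' : walk w a with ⟨⟨x, y, p⟩, c⟩
        intro i4
        have i4' : ((act (w.map gm).prod a : Oc) : ℕ) = c := i4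
        interval_cases j
        · rw [show el 0 = h0 from rfl, hF0, i4']
          simp only [stepW, if_true, val, dot_xor, b2_xor]
          ring
        · rw [show el 1 = h1 from rfl, hF1, i4']
          simp only [stepW, Nat.one_ne_zero, if_false, val, dot_xor, b2_xor]
          ring
      · rw [act_mul, show walk (j :: w) a = stepW j (walk w a) from rfl]
        rcases hw' : walk w a with ⟨⟨x, y, p⟩, c⟩
        rw [hw'] at i4
        rw [act_gm hj, i4]
        simp only [stepW]
        split_ifs <;> rfl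
  obtain ⟨htot, hall⟩ := walks_ok
  have key : ∀ l : List (ℕ × ℕ), (∀ e ∈ l, e ∈ walks) → val (total l) = 0 := by
    intro l
    induction l with
    | nil => intro _; simp [total, val, dot_zero, b2]
    | cons e l ih =>
      intro hl
      have he := List.all_eq_true.1 hall e (hl e (List.mem_cons_self ..))
      simp only [Bool.and_eq_true, Nat.blt_eq, Nat.beq_eq, List.all_eq_true, beq_iff_eq] at he
      obtain ⟨⟨⟨ha, -⟩, hlet⟩, hrel⟩ := he
      obtain ⟨w1, w2, w3, -⟩ := hwalk _ hlet ⟨e.2, ha⟩
      have hprod : ((rels.getD e.1 []).map gm).prod = 1 := by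
        apply Subtype.ext
        rw [OneMemClass.coe_one, prod_eq_evalW]
        apply WordChain.lst_injective
        rw [WordChain.lst_one, WordChain.lst_word gp
          [MathieuMult.TwentyThree.genA, MathieuMult.TwentyThree.genB] _ (fun k hk => ?_), hrel]
        have hk2 := hlet k (List.mem_reverse.1 hk)
        rw [gp, gm_lst]
        interval_cases k <;> rfl
      have h1 : ((rels.getD e.1 []).map el).prod = 1 := by
        have : ((rels.getD e.1 []).map el).prod ∈ H ⊓ proj.ker := ⟨w1, MonoidHom.mem_ker.2 (by rw [w3, hprod])⟩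
        rw [hinf] at this
        exact Subgroup.mem_bot.1 this
      have hz : val (walk (rels.getD e.1 []) e.2).1 = 0 := by rw [← w2, h1]; rfl
      have ih' := ih fun x hx => hl x (List.mem_cons_of_mem _ hx)
      revert hz ih'
      rw [total]
      rcases (walk (rels.getD e.1 []) e.2).1 with ⟨x, y, p⟩
      rcases total l with ⟨x', y', p'⟩
      intro hz ih'
      simp only [addW, val, dot_xor, b2_xor] at hz ih' ⊢
      linear_combination hz + ih'
  have h := key walks fun _ h => h
  rw [htot] at h
  simp [val, dot_zero, b2] at h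

/-- the extension exists and does not split -/
theorem exists_extension :
    ∃ (E : Type) (_ : Group E) (_ : Finite E) (N : Subgroup E) (_ : N.Normal)
      (φ : E ⧸ N ≃* ↥Cfsg.Spor.M23) (θ : (Cfsg.GolayPt → ZMod 2) →+ Additive ↥N),
      Function.Surjective θ ∧
      (∀ w : Cfsg.GolayPt → ZMod 2, θ w = 0 ↔ (w ∈ Cfsg.golayCode ∨ w + Pi.single none 1 ∈ Cfsg.golayCode)) ∧
      (∀ (g : E) (w : Cfsg.GolayPt → ZMod 2),
        ((θ (w ∘ ⇑(((φ (QuotientGroup.mk g) : ↥Cfsg.Spor.M23) : Equiv.Perm Cfsg.GolayPt)⁻¹))).toMul : E)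
          = g * ((θ w).toMul : E) * g⁻¹) ∧
      ∀ H : Subgroup E, H ⊓ N = ⊥ → H ⊔ N ≠ ⊤ :=
  ⟨↥E, inferInstance, inferInstance, proj.ker, inferInstance,
    QuotientGroup.quotientKerEquivOfSurjective proj proj_surjective, theta, theta_surjective, theta_ker,
    fun g w => theta_conj g w, no_complement⟩

end Cfsg.Agent.Spor.LoopExt
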