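import Cfsg.Agent.Lib.Spor.LoopExtDefs
import Cfsg.Agent.Lib.Spor.GolayPerm
import Cfsg.Agent.Lib.Spor.GolayWordChain
import Cfsg.Agent.Lib.Local.FS.MathieuPerms

/-!
The checks on the signed octads.
-/

set_option autoImplicit false
set_option maxRecDepth 100000
set_option Elab.async false

namespace Cfsg.Agent.Spor.LoopExt

open Cfsg.Agent.Spor Cfsg.Agent.Spor.WordChain

theorem valid0 : ((List.range 253).all fun a => validRow (om a) (thirdPack.getD a 0)) = true := by decide +kernel

theorem valid1 : ((List.range 253).all fun a => validRow (om (253 + a)) (thirdPack.getD (253 + a) 0)) = true := by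
  decide +kernel

theorem act_ok : ((List.range 2).all fun j => (List.range 506).all fun a =>
    Nat.blt (ai j a) 506 && Nat.beq (pmask (glist j) (om a)) (om (ai j a))) = true := by decide +kernel

theorem oct_ok : (octMasks.all fun m => Nat.testBit m 23 || (List.range 506).any fun i => Nat.beq (om i) m) = true := by
  decide +kernel

theorem om_ok : ((List.range 506).all fun i => pc (om i) == 8 && !Nat.testBit (om i) 23 && Local.FS.Mathieu.reduceB Local.FS.Mathieu.codeEchelon (om i) &&
    (List.range i).all fun k => Nat.blt (om k) (om i)) = true := by decide +kernel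

/-- the points determined by the basis -/
def growSet : List (ℕ × ℕ × ℕ) → List ℕ → List ℕ
  | [], K => K
  | e :: l, K => growSet l (e.2.2 :: K)

/-- each step is a triangle on known points -/
def growOK : List (ℕ × ℕ × ℕ) → List ℕ → Bool
  | [], _ => true
  | e :: l, K => Nat.beq (third e.1 e.2.1) e.2.2 && Nat.blt e.1 506 && Nat.blt e.2.1 506 && Nat.blt e.2.2 506 &&
      K.contains e.1 && K.contains e.2.1 && growOK l (e.2.2 :: K)

theorem grow_ok : (baseIdx.all fun i => Nat.blt i 506) = true ∧ growOK steps baseIdx = true ∧
    ((List.range 506).all fun i => (growSet steps baseIdx).contains i) = true := by decide +kernel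

theorem dual_ok : duals.length = 11 ∧ baseIdx.length = 11 ∧
    ((List.range 11).all fun k => (List.range 11).all fun i =>
      (pc (duals.getD k 0 &&& om (baseIdx.getD i 0)) % 2 == 1) == decide (k = i)) = true := by decide +kernel

theorem combo_ok : combos.length = 12 ∧ Local.FS.Mathieu.reduceB Local.FS.Mathieu.codeEchelon star = true ∧ Nat.testBit star 23 = true ∧ ((List.range 12).all fun i =>
    ((combos.getD i []).all fun k => Nat.blt k 12) &&
      Nat.beq (((combos.getD i []).map fun k => (baseIdx.map om ++ [star]).getD k 0).foldr (fun x y => x ^^^ y) 0)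
        (codeBasis.getD i 0)) = true := by decide +kernel

theorem walks_ok : total walks = (0, 0, true) ∧ (walks.all fun e => Nat.blt e.2 506 &&
    Nat.beq (walk (rels.getD e.1 []) e.2).2 e.2 && (rels.getD e.1 []).all (fun j => Nat.blt j 2) &&
    (lword [MathieuMult.TwentyThree.genA, MathieuMult.TwentyThree.genB] (rels.getD e.1 []).reverse == List.range 24)) = true := by
  decide +kernel

end Cfsg.Agent.Spor.LoopExt
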