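import Cfsg.Agent.Lib.Spor.LoopExtData
import Cfsg.Agent.Lib.Spor.MathieuMultTwentyThreeData

/-!
Accessors and checking functions for the signed octads of the code loop.
-/

set_option autoImplicit false

namespace Cfsg.Agent.Spor.LoopExt

open Cfsg.Agent.Spor

/-- an octad -/
def om (i : ℕ) : ℕ := (octPack >>> (24 * i)) % 16777216

/-- the image of an octad under a generator -/
def ai (j i : ℕ) : ℕ := ((actPack.getD j 0) >>> (9 * i)) % 512

/-- an entry of a row of triangles -/
def t9 (row b : ℕ) : ℕ := (row >>> (9 * b)) % 512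

/-- the sign of a generator -/
def fbit (j i : ℕ) : Bool := Nat.testBit (signPack.getD j 0) i

/-- the lists of the generators -/
def glist (j : ℕ) : List ℕ := if j = 0 then MathieuMult.TwentyThree.genA else MathieuMult.TwentyThree.genB

/-- the third member -/
def third (a b : ℕ) : ℕ := t9 (thirdPack.getD a 0) b

/-- the loop sign -/
def lsign (a b : ℕ) : Bool := Nat.testBit (loopPack.getD a 0) b

/-- a row of valid triangles -/
def validRow (m row : ℕ) : Bool :=
  (List.range 506).all fun b => Nat.beq (t9 row b) 511 ||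
    (Nat.blt (t9 row b) 506 && Nat.beq (m ^^^ om b) (om (t9 row b)))

/-- a row of the invariance -/
def invRow (ap sp row srow row' srow' : ℕ) (fa : Bool) : Bool :=
  (List.range 506).all fun b =>
    let c := t9 row b
    Nat.beq c 511 ||
      (Nat.beq (t9 row' (t9 ap b)) (t9 ap c) &&
        ((fa ^^ Nat.testBit sp b ^^ Nat.testBit sp c ^^ Nat.testBit srow b ^^ Nat.testBit srow' (t9 ap b)) == false))

/-- the invariance under a generator in a range of rows -/
def invCheck (j lo len : ℕ) : Bool :=
  (List.range len).all fun k =>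
    let a := lo + k
    let a' := ai j a
    invRow (actPack.getD j 0) (signPack.getD j 0) (thirdPack.getD a 0) (loopPack.getD a 0)
      (thirdPack.getD a' 0) (loopPack.getD a' 0) (fbit j a)

/-- one step of a walk: the two sums of octads, the parity of the signs and the present point -/
def stepW (j : ℕ) : (ℕ × ℕ × Bool) × ℕ → (ℕ × ℕ × Bool) × ℕ
  | ((x, y, p), c) => if j = 0 then ((x ^^^ om c, y, p ^^ fbit j c), ai j c) else ((x, y ^^^ om c, p ^^ fbit j c), ai j c)

/-- a walk, read from the right -/
def walk (w : List ℕ) (a : ℕ) : (ℕ × ℕ × Bool) × ℕ := w.foldr stepW ((0, 0, false), a)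

/-- adding a triple -/
def addW : ℕ × ℕ × Bool → ℕ × ℕ × Bool → ℕ × ℕ × Bool
  | (x, y, p), (x', y', p') => (x ^^^ x', y ^^^ y', p ^^ p')

/-- the sums over all walks -/
def total : List (ℕ × ℕ) → ℕ × ℕ × Bool
  | [] => (0, 0, false)
  | e :: l => addW (walk (rels.getD e.1 []) e.2).1 (total l)

end Cfsg.Agent.Spor.LoopExt
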