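/-
Arithmetic of codes for subgroups of the Mathieu group of degree eleven.
-/
import Cfsg.Agent.Lib.Spor.IsoTable
import Cfsg.Agent.Lib.Spor.M11LocalData

set_option autoImplicit false
set_option maxRecDepth 100000

namespace Cfsg.Agent.Spor.M11Local

/-- product of coded two by two matrices over a prime field -/
def mulMat (p x y : ℕ) : ℕ :=
  (x / p ^ 3 * (y / p ^ 3) + x / p ^ 2 % p * (y / p % p)) % p * p ^ 3 +
    (x / p ^ 3 * (y / p ^ 2 % p) + x / p ^ 2 % p * (y % p)) % p * p ^ 2 +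
    (x / p % p * (y / p ^ 3) + x % p * (y / p % p)) % p * p +
    (x / p % p * (y / p ^ 2 % p) + x % p * (y % p)) % p

/-- product of coded permutations of five points -/
def mulFive (x y : ℕ) : ℕ :=
  x / 5 ^ (y % 5) % 5 + x / 5 ^ (y / 5 % 5) % 5 * 5 + x / 5 ^ (y / 25 % 5) % 5 * 25 +
    x / 5 ^ (y / 125 % 5) % 5 * 125 + x / 5 ^ (y / 625) % 5 * 625

end Cfsg.Agent.Spor.M11Local
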