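/-
Checked tables for subgroups of the Mathieu group of degree eleven.
-/
import Cfsg.Agent.Lib.Spor.M11LocalCode
import Cfsg.Agent.Lib.Spor.M11LocalData

set_option autoImplicit false
set_option maxRecDepth 100000

namespace Cfsg.Agent.Spor.M11Local

theorem psl_words : Table.wordsOk (mulMat 11) 1332 pslGens pslWords pslTab = true := by decide +kernel

theorem psl_closed : Table.closedOk (mulMat 11) pslGens pslTab = true := by decide +kernel

theorem psl_ok : Table.TabOk (mulMat 11) 1332 pslGens pslWords pslTab := ⟨psl_words, psl_closed⟩

/-- every determinant one matrix is listed -/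
noncomputable def pslAll : Bool :=
  (List.range 11).all fun a => (List.range 11).all fun b => (List.range 11).all fun c => (List.range 11).all fun d =>
    cond (Nat.beq ((a * d + 10 * b * c) % 11) 1) (Table.look pslTab (a * 1331 + b * 121 + c * 11 + d)).isSome true

theorem psl_all : pslAll = true := by decide +kernel

end Cfsg.Agent.Spor.M11Local
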