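/-
Checked tables for subgroups of the Mathieu group of degree eleven.
-/
import Cfsg.Agent.Lib.Spor.M11LocalPsl
import Cfsg.Agent.Lib.Spor.M11LocalData

set_option autoImplicit false
set_option maxRecDepth 100000

namespace Cfsg.Agent.Spor.M11Local

theorem sym_ok : Table.TabOk mulFive 2930 symGens symWords symTab :=
  ⟨by decide +kernel, by decide +kernel⟩

theorem sym_all : ∀ e : Equiv.Perm (Fin 5),
    (Table.look symTab ((e 0).val + (e 1).val * 5 + (e 2).val * 25 + (e 3).val * 125 + (e 4).val * 625)).isSome = true := by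
  decide +kernel

theorem gl_ok : Table.TabOk (mulMat 3) 28 glGens glWords glTab :=
  ⟨by decide +kernel, by decide +kernel⟩

theorem gl_all : ∀ a ∈ List.range 3, ∀ b ∈ List.range 3, ∀ c ∈ List.range 3, ∀ d ∈ List.range 3,
    (a * d + 2 * b * c) % 3 ≠ 0 → (Table.look glTab (a * 27 + b * 9 + c * 3 + d)).isSome = true := by
  decide +kernel

/-- the generator fixes the standard dodecad, the first point and the given mask -/
def genFix (m : ℕ) (l : List ℕ) : Bool :=
  m24ok l && (pm l baseDodMask 0 == baseDodMask) && (pm l 1 0 == 1) && (pm l m 0 == m)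
where
  /-- the standard dodecad -/
  baseDodMask : ℕ := 165759

theorem gens_ok : (∀ g ∈ pslGens, genFix 128 g.2 = true) ∧ (∀ g ∈ symGens, genFix (128 + 2048) g.2 = true) ∧
    ∀ g ∈ glGens, genFix 14 g.2 = true := by
  decide +kernel

theorem triv_ok : Table.trivKeys pslTab = [1332, 13320] ∨ Table.trivKeys pslTab = [13320, 1332] := by decide +kernel

theorem triv_sym : Table.trivKeys symTab = [2930] ∧ Table.trivKeys glTab = [28] := by decide +kernel

theorem neg_triv : ∀ e ∈ pslTab.flatten, e.1 = 13320 → e.2 = Table.idList := by decide +kernel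

end Cfsg.Agent.Spor.M11Local
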