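/-
Subgroups of the Mathieu group of degree eleven: two-point, pair and involution stabilisers.
-/
import Cfsg.Agent.Lib.Spor.M11LocalCert
import Cfsg.Agent.Lib.Spor.GolayStabCount
import Cfsg.Agent.Lib.Spor.GolayElemFacts
import Cfsg.Agent.Lib.Spor.HexadStab
import Cfsg.Prelude.Def_SporadicCombinatorics

set_option autoImplicit false
set_option maxRecDepth 100000

namespace Cfsg.Agent.Spor.M11Local

open Cfsg Finset
open scoped Pointwise

/-- the stabiliser of a dodecad and a point -/
def eleven (d : Finset GolayPt) (p : GolayPt) : Subgroup M24 :=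
  MulAction.stabilizer M24 d ⊓ MulAction.stabilizer M24 p

theorem orbit_count {K : Subgroup M24} {Y : Type*} [MulAction M24 Y] (y : Y) (N : ℕ)
    (h : (MulAction.orbit K y).ncard = N) : Nat.card ↥(K ⊓ MulAction.stabilizer M24 y) * N = Nat.card K := by
  have e : Nat.card (MulAction.stabilizer K y) = Nat.card ↥(K ⊓ MulAction.stabilizer M24 y) :=
    Nat.card_congr
      { toFun := fun g => ⟨g.1.1, g.1.2, g.2⟩
        invFun := fun g => ⟨⟨g.1, g.2.1⟩, g.2.2⟩
        left_inv := fun _ => rfl
        right_inv := fun _ => rfl }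
  have h1 := Subgroup.card_mul_index (MulAction.stabilizer K y)
  rw [MulAction.index_stabilizer, h, e] at h1
  exact h1

variable {d : Finset GolayPt} (hd : d ∈ dodecads) {p : GolayPt} (hp : p ∈ d)
include hd hp

theorem two_trans {a b a' b' : GolayPt} (ha : a ∉ d) (hb : b ∉ d) (ha' : a' ∉ d) (hb' : b' ∉ d) (hab : a ≠ b)
    (hab' : a' ≠ b') : ∃ g ∈ eleven d p, (g : Equiv.Perm GolayPt) a = a' ∧ (g : Equiv.Perm GolayPt) b = b' := by
  have third : ∀ u v : GolayPt, u ∉ d → v ∉ d → u ≠ v → ∃ x : Fin 3 ↪ GolayPt, (∀ i, x i ∉ d) ∧ x 0 = u ∧ x 1 = v := by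
    intro u v hu hv huv
    obtain ⟨w, hw⟩ := card_pos.1 (show 0 < (((univ \ d).erase u).erase v).card by
      have h1 := pred_card_le_card_erase (s := (univ \ d).erase u) (a := v)
      have h2 := pred_card_le_card_erase (s := univ \ d) (a := u)
      have h3 : (univ \ d).card = 12 := by
        rw [card_sdiff_of_subset (subset_univ d), card_univ, hd.2]; rfl
      omega)
    simp only [mem_erase, mem_sdiff, mem_univ, true_and] at hw
    refine ⟨⟨![u, v, w], ?_⟩, ?_, rfl, rfl⟩
    · intro i j h
      fin_cases i <;> fin_cases j <;> simp at h <;>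
        first
          | rfl
          | exact absurd h huv
          | exact absurd h.symm huv
          | exact absurd h hw.1
          | exact absurd h.symm hw.1
          | exact absurd h hw.2.1
          | exact absurd h.symm hw.2.1
    · intro i
      fin_cases i
      · exact hu
      · exact hv
      · exact hw.2.2
  obtain ⟨x, hx, x0, x1⟩ := third a b ha hb hab
  obtain ⟨y, hy, y0, y1⟩ := third a' b' ha' hb' hab'
  obtain ⟨g, hg, he⟩ := dodecad_point_three_trans hd hp x y hx hy
  exact ⟨g, hg, by rw [← x0, ← y0]; exact he 0, by rw [← x1, ← y1]; exact he 1⟩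

theorem card_two {q : GolayPt} (hq : q ∉ d) : Nat.card ↥(eleven d p ⊓ MulAction.stabilizer M24 q) = 660 := by
  have horb : MulAction.orbit (eleven d p) q = ((univ \ d : Finset GolayPt) : Set GolayPt) := by
    ext z
    rw [mem_coe, mem_sdiff]
    constructor
    · rintro ⟨g, rfl⟩
      refine ⟨mem_univ _, fun h => hq ?_⟩
      have e : ((g : M24) : Equiv.Perm GolayPt) • d = d := g.2.1
      have h' : ((g : M24) : Equiv.Perm GolayPt) q ∈ ((g : M24) : Equiv.Perm GolayPt) • d := by rw [e]; exact h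
      exact (smul_mem_smul_finset_iff _).1 h'
    · rintro ⟨-, hz⟩
      obtain ⟨w, hw⟩ : ∃ w, w ∈ (univ \ d).erase q := card_pos.1 (by
        have h2 := pred_card_le_card_erase (s := univ \ d) (a := q)
        have h3 : (univ \ d).card = 12 := by rw [card_sdiff_of_subset (subset_univ d), card_univ, hd.2]; rfl
        omega)
      obtain ⟨v, hv⟩ : ∃ v, v ∈ (univ \ d).erase z := card_pos.1 (by
        have h2 := pred_card_le_card_erase (s := univ \ d) (a := z)
        have h3 : (univ \ d).card = 12 := by rw [card_sdiff_of_subset (subset_univ d), card_univ, hd.2]; rfl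
        omega)
      simp only [mem_erase, mem_sdiff, mem_univ, true_and] at hw hv
      obtain ⟨g, hg, e, -⟩ := two_trans hd hp hq hw.2 hz hv.2 hw.1.symm hv.1.symm
      exact ⟨⟨g, hg⟩, e⟩
  have h := orbit_count (K := eleven d p) q 12 (by
    rw [horb, Set.ncard_coe_finset, card_sdiff_of_subset (subset_univ d), card_univ, hd.2]; rfl)
  rw [show Nat.card (eleven d p) = 7920 from card_stab_dodecad_point hd hp] at h
  omega

theorem card_pair_stab {q q' : GolayPt} (hq : q ∉ d) (hq' : q' ∉ d) (hne : q ≠ q') :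
    Nat.card ↥(eleven d p ⊓ MulAction.stabilizer M24 ({q, q'} : Finset GolayPt)) = 120 := by
  have horb : MulAction.orbit (eleven d p) ({q, q'} : Finset GolayPt) =
      (((univ \ d).powersetCard 2 : Finset (Finset GolayPt)) : Set (Finset GolayPt)) := by
    ext z
    rw [mem_coe, mem_powersetCard]
    constructor
    · rintro ⟨g, rfl⟩
      have e : ((g : M24) : Equiv.Perm GolayPt) • d = d := g.2.1
      refine ⟨?_, (card_smul_finset ((g : M24) : Equiv.Perm GolayPt) _).trans (card_pair hne)⟩
      have h1 : ((g : M24) : Equiv.Perm GolayPt) • (univ \ d) = univ \ d := by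
        rw [smul_finset_sdiff, smul_finset_univ, e]
      exact (smul_finset_subset_smul_finset (show ({q, q'} : Finset GolayPt) ⊆ univ \ d by
        simp [insert_subset_iff, hq, hq'])).trans h1.le
    · rintro ⟨hsub, hc⟩
      obtain ⟨a, b, hab, rfl⟩ := card_eq_two.1 hc
      simp only [insert_subset_iff, singleton_subset_iff, mem_sdiff, mem_univ, true_and] at hsub
      obtain ⟨g, hg, e1, e2⟩ := two_trans hd hp hq hq' hsub.1 hsub.2 hne hab
      refine ⟨⟨g, hg⟩, ?_⟩
      show (g : Equiv.Perm GolayPt) • ({q, q'} : Finset GolayPt) = {a, b}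
      rw [smul_finset_insert, smul_finset_singleton, Equiv.Perm.smul_def, Equiv.Perm.smul_def, e1, e2]
  have h := orbit_count (K := eleven d p) ({q, q'} : Finset GolayPt) 66 (by
    rw [horb, Set.ncard_coe_finset, card_powersetCard, card_sdiff_of_subset (subset_univ d), card_univ, hd.2]; rfl)
  rw [show Nat.card (eleven d p) = 7920 from card_stab_dodecad_point hd hp] at h
  omega

theorem five_map {a b c a' b' c' : GolayPt} (h : a ∈ d ∧ b ∈ d ∧ c ∈ d) (h' : a' ∈ d ∧ b' ∈ d ∧ c' ∈ d)
    (hn : Function.Injective ![p, a, b, c]) (hn' : Function.Injective ![p, a', b', c']) :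
    ∃ g ∈ eleven d p, (g : Equiv.Perm GolayPt) a = a' ∧ (g : Equiv.Perm GolayPt) b = b' ∧ (g : Equiv.Perm GolayPt) c = c' := by
  have mk : ∀ v : Fin 4 → GolayPt, Function.Injective v → (∀ i, v i ∈ d) →
      ∃ x : Fin 5 ↪ GolayPt, (∀ i, x i ∈ d) ∧ ∀ i : Fin 4, x i.castSucc = v i := by
    intro v hv hvd
    obtain ⟨w, hw, hwn⟩ : ∃ w ∈ d, w ∉ univ.image v := by
      refine exists_mem_notMem_of_card_lt_card (lt_of_le_of_lt card_image_le ?_)
      rw [hd.2]; simp
    refine ⟨⟨Fin.snoc v w, Fin.snoc_injective_iff.2 ⟨hv, fun ⟨i, e⟩ => hwn (mem_image.2 ⟨i, mem_univ _, e⟩)⟩⟩, ?_,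
      fun i => Fin.snoc_castSucc (α := fun _ => GolayPt) ..⟩
    intro i
    refine Fin.lastCases ?_ (fun j => ?_) i
    · show Fin.snoc (α := fun _ => GolayPt) v w (Fin.last 4) ∈ d
      rw [Fin.snoc_last]; exact hw
    · simpa using hvd j
  obtain ⟨x, hx, ex⟩ := mk _ hn (fun i => by fin_cases i <;> simp [hp, h.1, h.2.1, h.2.2])
  obtain ⟨y, hy, ey⟩ := mk _ hn' (fun i => by fin_cases i <;> simp [hp, h'.1, h'.2.1, h'.2.2])
  obtain ⟨g, hg, -⟩ := dodecad_five_trans hd x y hx hy
  have e : ∀ i : Fin 4, ((g : M24) : Equiv.Perm GolayPt) (![p, a, b, c] i) = ![p, a', b', c'] i := fun i => by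
    rw [← ex, ← ey]; exact hg _
  exact ⟨g, ⟨g.2, e 0⟩, e 1, e 2, e 3⟩

theorem card_triple {t : Finset GolayPt} (ht : t ⊆ d.erase p) (h3 : t.card = 3) :
    Nat.card ↥(eleven d p ⊓ MulAction.stabilizer M24 t) = 48 := by
  have horb : MulAction.orbit (eleven d p) t = (((d.erase p).powersetCard 3 : Finset (Finset GolayPt)) : Set (Finset GolayPt)) := by
    ext z
    rw [mem_coe, mem_powersetCard]
    constructor
    · rintro ⟨g, rfl⟩
      have e : ((g : M24) : Equiv.Perm GolayPt) • d = d := g.2.1
      have e' : ((g : M24) : Equiv.Perm GolayPt) p = p := g.2.2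
      refine ⟨?_, (card_smul_finset ((g : M24) : Equiv.Perm GolayPt) _).trans h3⟩
      intro x hx
      obtain ⟨y, hy, rfl⟩ := mem_smul_finset.1 (show x ∈ ((g : M24) : Equiv.Perm GolayPt) • t from hx)
      have hy' := mem_erase.1 (ht hy)
      refine mem_erase.2 ⟨fun h => hy'.1 (Equiv.injective _ (h.trans e'.symm)), ?_⟩
      exact e.le (smul_mem_smul_finset hy'.2)
    · rintro ⟨hz, hc⟩
      obtain ⟨a, b, c, hab, hac, hbc, rfl⟩ := card_eq_three.1 h3
      obtain ⟨a', b', c', hab', hac', hbc', rfl⟩ := card_eq_three.1 hc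
      simp only [insert_subset_iff, singleton_subset_iff, mem_erase] at ht hz
      have inj : ∀ {u v w : GolayPt}, u ≠ p → v ≠ p → w ≠ p → u ≠ v → u ≠ w → v ≠ w → Function.Injective ![p, u, v, w] := by
        intro u v w h1 h2 h3 h4 h5 h6 i j h
        fin_cases i <;> fin_cases j <;> simp at h <;>
          first
            | rfl
            | exact absurd h h1
            | exact absurd h.symm h1
            | exact absurd h h2
            | exact absurd h.symm h2
            | exact absurd h h3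
            | exact absurd h.symm h3
            | exact absurd h h4
            | exact absurd h.symm h4
            | exact absurd h h5
            | exact absurd h.symm h5
            | exact absurd h h6
            | exact absurd h.symm h6
      obtain ⟨g, hg, e1, e2, e3⟩ := five_map hd hp ⟨ht.1.2, ht.2.1.2, ht.2.2.2⟩ ⟨hz.1.2, hz.2.1.2, hz.2.2.2⟩
        (inj ht.1.1 ht.2.1.1 ht.2.2.1 hab hac hbc) (inj hz.1.1 hz.2.1.1 hz.2.2.1 hab' hac' hbc')
      refine ⟨⟨g, hg⟩, ?_⟩
      show (g : Equiv.Perm GolayPt) • ({a, b, c} : Finset GolayPt) = {a', b', c'}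
      simp only [smul_finset_insert, smul_finset_singleton, Equiv.Perm.smul_def, e1, e2, e3]
  have h := orbit_count (K := eleven d p) t 165 (by
    rw [horb, Set.ncard_coe_finset, card_powersetCard, card_erase_of_mem hp, hd.2, h3.symm.trans h3]; rfl)
  rw [show Nat.card (eleven d p) = 7920 from card_stab_dodecad_point hd hp] at h
  omega

/-- a standard frame maps to the given points -/
theorem exists_frame {q q' : GolayPt} (hq : q ∉ d) (hq' : q' ∉ d) (hne : q ≠ q') :
    ∃ σ : M24, σ • ofMask baseDod = d ∧ (σ : Equiv.Perm GolayPt) (pt 0) = p ∧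
      (σ : Equiv.Perm GolayPt) (pt 7) = q ∧ (σ : Equiv.Perm GolayPt) (pt 11) = q' := by
  obtain ⟨τ, hτ, eτ⟩ := exists_base_dodecad hd
  have h0 : τ (pt 0) ∈ d := by rw [← eτ]; exact smul_mem_smul_finset (by decide +kernel)
  have hout : ∀ i, pt i ∉ ofMask baseDod → τ (pt i) ∉ d := fun i h hh => by
    rw [← eτ] at hh; exact h ((smul_mem_smul_finset_iff _).1 hh)
  obtain ⟨g, hg, hgp⟩ : ∃ g : M24, g • d = d ∧ (g : Equiv.Perm GolayPt) (τ (pt 0)) = p := by
    obtain ⟨e⟩ : Nonempty (Fin 5 ↪ d) := Function.Embedding.nonempty_of_card_le (by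
      rw [Fintype.card_fin, Fintype.card_coe, hd.2]; norm_num)
    obtain ⟨g, hg, -⟩ := dodecad_five_trans hd
      ((e.trans (Equiv.swap (e 0) ⟨_, h0⟩).toEmbedding).trans (Function.Embedding.subtype _))
      ((e.trans (Equiv.swap (e 0) ⟨p, hp⟩).toEmbedding).trans (Function.Embedding.subtype _))
      (fun i => Subtype.prop _) (fun i => Subtype.prop _)
    refine ⟨(g : M24), g.2, ?_⟩
    have h := hg 0
    simp only [Function.Embedding.trans_apply, Equiv.coe_toEmbedding, Equiv.swap_apply_left,
      Function.Embedding.coe_subtype] at h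
    exact h
  have hgout : ∀ z, z ∉ d → (g : Equiv.Perm GolayPt) z ∉ d := fun z hz hh => by
    have e : (g : Equiv.Perm GolayPt) • d = d := hg
    rw [← e] at hh; exact hz ((smul_mem_smul_finset_iff _).1 hh)
  obtain ⟨h, hh, e1, e2⟩ := two_trans hd hp (hgout _ (hout 7 (by decide +kernel))) (hgout _ (hout 11 (by decide +kernel)))
    hq hq' ((g : Equiv.Perm GolayPt).injective.ne (τ.injective.ne (by decide +kernel))) hne
  refine ⟨h * g * (⟨τ, hτ⟩ : M24), ?_, ?_, ?_, ?_⟩
  · rw [mul_smul, mul_smul, show (⟨τ, hτ⟩ : M24) • ofMask baseDod = d from eτ, hg, hh.1]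
  · show (h : Equiv.Perm GolayPt) ((g : Equiv.Perm GolayPt) (τ (pt 0))) = p
    rw [hgp]; exact hh.2
  · exact e1
  · exact e2

theorem inv_fix {x : M24} (hx : x ∈ eleven d p) (h2 : orderOf x = 2) :
    (fixSet (x : Equiv.Perm GolayPt) ∩ d).card = 4 := by
  have h2' : orderOf (x : Equiv.Perm GolayPt) = 2 := by rw [Subgroup.orderOf_coe, h2]
  have hxd : (x : Equiv.Perm GolayPt) • d = d := hx.1
  rcases invol_by_fix x.2 h2' with ⟨h0, -⟩ | ⟨h8, hoct, -⟩
  · exfalso
    have : p ∈ fixSet (x : Equiv.Perm GolayPt) := by simp only [mem_filter, mem_univ, true_and]; exact hx.2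
    rw [card_eq_zero] at h0
    simp [h0] at this
  have hsize : ∀ o ∈ octMasks, pc (o &&& baseDod) = 2 ∨ pc (o &&& baseDod) = 4 ∨ pc (o &&& baseDod) = 6 := by
    decide +kernel
  obtain ⟨σ, hσ, eσ⟩ := exists_base_dodecad hd
  have hs : (fixSet (x : Equiv.Perm GolayPt) ∩ d).card = 2 ∨ (fixSet (x : Equiv.Perm GolayPt) ∩ d).card = 4 ∨
      (fixSet (x : Equiv.Perm GolayPt) ∩ d).card = 6 := by
    have h := hsize _ (mem_octads.1 (smul_octad (inv_mem hσ) hoct))
    rw [← mask_ofMask baseDod_lt, ← mask_inter, pc_mask,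
      show ofMask baseDod = σ⁻¹ • d by rw [← eσ, inv_smul_smul], ← smul_finset_inter, card_smul_finset] at h
    exact h
  have five : ∀ D : Finset GolayPt, D ∈ dodecads → (x : Equiv.Perm GolayPt) • D = D →
      5 ≤ (fixSet (x : Equiv.Perm GolayPt) ∩ D).card → False := by
    intro D hD hxD h5
    have := fix_six_eq_one hD (g := x) inter_subset_right h5 hxD
      (fun z hz => (mem_filter.1 (mem_inter.1 hz).1).2)
    rw [this, OneMemClass.coe_one, orderOf_one] at h2'
    omega
  rcases hs with h | h | h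
  · exfalso
    have hsum := card_sdiff_add_card_inter (fixSet (x : Equiv.Perm GolayPt)) d
    have hcd : univ \ d ∈ dodecads := by
      rw [← eσ, ← smul_finset_univ (a := σ), ← smul_finset_sdiff]
      exact smul_dodecad hσ (by rw [mem_dodecads]; decide +kernel)
    refine five _ hcd (by rw [smul_finset_sdiff, smul_finset_univ, hxd]) ?_
    rw [show fixSet (x : Equiv.Perm GolayPt) ∩ (univ \ d) = fixSet (x : Equiv.Perm GolayPt) \ d by
      ext z; simp]
    omega
  · exact h
  · exact absurd h fun h => five d hd hxd (by omega)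

end Cfsg.Agent.Spor.M11Local
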