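import Cfsg.Agent.Lib.Spor.M22UCentDefs

/-!
Checks for the centralisers of elements of order thirteen and eleven in Fi22.
-/

set_option autoImplicit false
set_option maxRecDepth 100000
set_option Elab.async false

namespace Cfsg.Agent.Spor.M22U.Cent

open Cfsg.Agent.Spor.CC Cfsg.Agent.Spor.Fi22Cert Cfsg.Agent.Spor.Fi22Cert.U62Act CDat

theorem pts_a : rangeOK ptOK 0 1755 = true := by decide +kernel
theorem pts_b : rangeOK ptOK 1755 1755 = true := by decide +kernel

/-- points resembling the first -/
noncomputable def look13OK (p : ℕ) : Bool := !(samePat x13 c13 12 p) || look13.any fun e => Nat.beq e.1 p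
/-- points resembling the second -/
noncomputable def secondOK (p : ℕ) : Bool := !(samePat x13 e13 12 p) || second.any fun q => Nat.beq q p
/-- generation -/
noncomputable def gen13OK (p : ℕ) : Bool := genOK x13 c13 genTab13 posTab13 p
/-- fixed points -/
noncomputable def fix11OK (p : ℕ) : Bool := !(Nat.beq (ev RepU62.rows 9 x11 p) p) || Nat.beq p f11
/-- points resembling the first -/
noncomputable def look11OK (p : ℕ) : Bool :=
  Nat.beq p f11 || !(adjb f11 p == adjb f11 c11) || !(samePat x11 c11 10 p) ||
    look11.any fun e => Nat.beq e.1 p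
/-- generation -/
noncomputable def gen11OK (p : ℕ) : Bool := genOK x11 c11 genTab11 posTab11 p

theorem scan13 : rangeOK look13OK 0 3510 = true := by decide +kernel
theorem scan13' : rangeOK secondOK 0 3510 = true := by decide +kernel
theorem gen13 : rangeOK gen13OK 0 3510 = true := by decide +kernel
theorem fix11 : rangeOK fix11OK 0 3510 = true := by decide +kernel
theorem scan11 : rangeOK look11OK 0 3510 = true := by decide +kernel
theorem gen11 : rangeOK gen11OK 0 3510 = true := by decide +kernel

theorem look13_ok : (look13.all fun e => Nat.beq (xp x13 e.2.2 (reps13.getD e.2.1 0)) e.1 && Nat.blt e.2.1 3) = true := by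
  decide +kernel

/-- the second point distinguishes the other orbits -/
noncomputable def sigDiff (r p : ℕ) : Bool :=
  !((List.range 13).all fun j => adjb p (xp x13 j r) == adjb e13 (xp x13 j c13))

theorem reject13 : ([1, 2].all fun k => second.all fun p => sigDiff (reps13.getD k 0) p) = true := by
  decide +kernel

theorem base13 : (∀ x ∈ x13, x < 9) ∧ c13 < 3510 ∧ e13 < 3510 ∧ reps13.getD 0 0 = c13 ∧
    (∀ k < 3, reps13.getD k 0 < 3510) ∧ ev RepU62.rows 9 x13 c13 ≠ c13 := by decide +kernel

theorem look11_ok : (look11.all fun e => Nat.beq (xp x11 e.2.2 (reps11.getD e.2.1 0)) e.1 && Nat.blt e.2.1 2) = true := by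
  decide +kernel

theorem base11 : (∀ x ∈ x11, x < 9) ∧ c11 < 3510 ∧ f11 < 3510 ∧ reps11.getD 0 0 = c11 ∧
    reps11.getD 1 0 = ev RepU62.rows 9 (Fischer.tw' (pwP f11)) c11 ∧
    ev RepU62.rows 9 x11 f11 = f11 ∧ ev RepU62.rows 9 x11 c11 ≠ c11 ∧ c11 ≠ f11 := by decide +kernel

theorem orders : fixOK RepU62.rows 9 [powW 13 x13, powW 11 x11] (RepU62.levels.map Orb.b) = true ∧
    lettersOK 9 [powW 13 x13, powW 11 x11] = true := by decide +kernel

end Cfsg.Agent.Spor.M22U.Cent
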