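import Cfsg.Agent.Lib.Spor.M22UFischer
import Cfsg.Agent.Lib.Spor.M22UCentData

/-!
Points of the presented group Fi22 as members, and the tools for centralisers of elements of prime
order: orbit patterns and generation.
-/

set_option autoImplicit false
set_option maxRecDepth 100000
set_option linter.unusedSectionVars false

namespace Cfsg.Agent.Spor.M22U.Cent

open Cfsg.Agent.Spor.CC Cfsg.Agent.Spor.Fi22Cert Cfsg.Agent.Spor.Fi22Cert.U62Act

/-- parent of a point -/
def par (p : ℕ) : ℕ := fld CDat.parTab 16 p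

/-- word of a point -/
def wordP : ℕ → ℕ → List ℕ
  | 0, _ => []
  | n + 1, p => bif Nat.beq (par p % 16) 15 then [] else (par p % 16) :: wordP n (par p / 16)

/-- word of a point -/
def pwP (p : ℕ) : List ℕ := wordP 40 p

/-- check of a point -/
noncomputable def ptOK (p : ℕ) : Bool :=
  (pwP p).all (fun x => Nat.blt x 9) && Nat.beq (ev RepU62.rows 9 (pwP p) 0) p

/-- two points with commuting members -/
noncomputable def adjb (p q : ℕ) : Bool := Nat.beq (ev RepU62.rows 9 (Fischer.tw' (pwP p)) q) q

/-- power of a word -/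
noncomputable def xp (w : List ℕ) : ℕ → ℕ → ℕ
  | 0, p => p
  | j + 1, p => ev RepU62.rows 9 w (xp w j p)

/-- equality of patterns, the first j steps -/
noncomputable def samePat (w : List ℕ) (c : ℕ) (n p : ℕ) : Bool :=
  (List.range n).all fun j => adjb c (xp w (j + 1) c) == adjb p (xp w (j + 1) p)

/-- entry of a generation table -/
noncomputable def genOK (w : List ℕ) (c tab posTab : ℕ) (p : ℕ) : Bool :=
  let k := fld posTab 12 p
  let e := fld tab 28 k
  Nat.beq (e % 4096) p &&
    (bif Nat.beq (e / 65536) 4000 then Nat.beq (xp w (e / 4096 % 16) c) p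
     else Nat.blt (e / 65536) k && Nat.blt (fld tab 28 (e / 65536) % 4096) 3510 &&
       Nat.beq (fld posTab 12 (fld tab 28 (e / 65536) % 4096)) (e / 65536) &&
       Nat.beq (ev RepU62.rows 9 (Fischer.tw' (pwP (xp w (e / 4096 % 16) c))) (fld tab 28 (e / 65536) % 4096)) p)

/-- the member of a point -/
noncomputable def dp (p : ℕ) : Fischer.Dc := Fischer.mem (pwP p)

/-- the element of a word -/
noncomputable def el (w : List ℕ) : pres.Grp := (w.map pres.gen).prod

variable (hpts : ∀ p < 3510, ptOK p = true)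

include hpts in
theorem pw_lt {p : ℕ} (hp : p < 3510) : ∀ x ∈ pwP p, x < 9 := fun x hx => by
  have := hpts p hp
  simp only [ptOK, Bool.and_eq_true, List.all_eq_true] at this
  exact Nat.le_of_ble_eq_true (this.1 x hx)

include hpts in
theorem theta_dp {p : ℕ} (hp : p < 3510) : (Fischer.theta (dp p) : ℕ) = p := by
  rw [dp, Fischer.theta_mem (pw_lt hpts hp)]
  have := hpts p hp
  simp only [ptOK, Bool.and_eq_true] at this
  exact Nat.eq_of_beq_eq_true this.2

include hpts in
theorem dp_surj (d : Fischer.Dc) : d = dp (Fischer.theta d : ℕ) :=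
  Fischer.theta_inj (Fin.ext (theta_dp hpts (by exact (Fischer.theta d).2)).symm)

include hpts in
theorem adjb_iff {p q : ℕ} (hp : p < 3510) (hq : q < 3510) :
    adjb p q = true ↔ Commute (dp p : pres.Grp) (dp q) := by
  have h : (rep.hom (dp p : pres.Grp) (Fischer.theta (dp q)) : ℕ) =
      ev RepU62.rows 9 (Fischer.tw' (pwP p)) q := by
    rw [show (dp p : pres.Grp) = (Fischer.mem (pwP p) : pres.Grp) from rfl, Fischer.mem_act (pw_lt hpts hp),
      theta_dp hpts hq]
  rw [Fischer.commute_iff, Fin.ext_iff, h, theta_dp hpts hq, adjb]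
  exact ⟨Nat.eq_of_beq_eq_true, fun e => by rw [e]; exact Nat.beq_refl _⟩

theorem theta_act (g : pres.Grp) (d : Fischer.Dc) :
    rep.hom g (Fischer.theta d) = Fischer.theta ⟨g * d * g⁻¹, Fischer.three.2.1 _ _ d.2⟩ :=
  (Fischer.theta_conj g d _ rfl).symm

/-- image of a point -/
noncomputable def act (g : pres.Grp) (p : ℕ) : ℕ :=
  if h : p < rep.P.n then (rep.hom g ⟨p, h⟩ : ℕ) else 0

theorem act_def (g : pres.Grp) {p : ℕ} (hp : p < rep.P.n) : act g p = (rep.hom g ⟨p, hp⟩ : ℕ) := dif_pos hp

theorem act_lt (g : pres.Grp) {p : ℕ} (hp : p < 3510) : act g p < 3510 := by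
  rw [act_def g hp]; exact (rep.hom g ⟨p, hp⟩).2

theorem act_mul (g h : pres.Grp) {p : ℕ} (hp : p < 3510) : act (g * h) p = act g (act h p) := by
  have h1 := act_lt h hp
  rw [act_def _ hp, map_mul, Equiv.Perm.mul_apply, act_def g h1]
  congr 2
  exact Fin.ext (act_def h hp).symm

theorem act_el {w : List ℕ} (hw : ∀ x ∈ w, x < 9) {p : ℕ} (hp : p < 3510) :
    act (el w) p = ev RepU62.rows 9 w p := by
  rw [act_def _ hp, el, Fischer.hom_val hw]

theorem act_one {p : ℕ} (hp : p < 3510) : act 1 p = p := by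
  rw [act_def _ hp, map_one]; rfl

theorem xp_act {w : List ℕ} (hw : ∀ x ∈ w, x < 9) {p : ℕ} (hp : p < 3510) :
    ∀ j, xp w j p = act (el w ^ j) p ∧ xp w j p < 3510
  | 0 => ⟨by rw [pow_zero, act_one hp]; rfl, hp⟩
  | j + 1 => by
    obtain ⟨h1, h2⟩ := xp_act hw hp j
    have : xp w (j + 1) p = act (el w ^ (j + 1)) p := by
      rw [pow_succ', act_mul _ _ hp, ← h1, act_el hw h2]; rfl
    exact ⟨this, this ▸ act_lt _ hp⟩

include hpts in
theorem act_dp (g : pres.Grp) {p : ℕ} (hp : p < 3510) :
    (dp (act g p) : pres.Grp) = g * dp p * g⁻¹ := by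
  have e : dp (act g p) = (⟨g * dp p * g⁻¹, Fischer.three.2.1 _ _ (dp p).2⟩ : Fischer.Dc) := by
    apply Fischer.theta_inj
    refine Fin.ext ?_
    rw [theta_dp hpts (act_lt g hp), ← theta_act, act_def g hp]
    congr 2
    exact Fin.ext (theta_dp hpts hp).symm
  exact congrArg Subtype.val e

include hpts in
theorem adjb_act (g : pres.Grp) {p q : ℕ} (hp : p < 3510) (hq : q < 3510) :
    adjb (act g p) (act g q) = adjb p q := by
  rw [Bool.eq_iff_iff, adjb_iff hpts (act_lt g hp) (act_lt g hq), adjb_iff hpts hp hq, act_dp hpts g hp,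
    act_dp hpts g hq]
  exact Spor.commute_conj_iff

theorem act_comm {w : List ℕ} (hw : ∀ x ∈ w, x < 9) {g : pres.Grp} (hg : Commute g (el w)) {p : ℕ}
    (hp : p < 3510) (j : ℕ) : act g (xp w j p) = xp w j (act g p) := by
  rw [(xp_act hw hp j).1, (xp_act hw (act_lt g hp) j).1, ← act_mul _ _ hp, ← act_mul _ _ hp, (hg.pow_right j).eq]

include hpts in
theorem samePat_act {w : List ℕ} (hw : ∀ x ∈ w, x < 9) {g : pres.Grp} (hg : Commute g (el w)) {c : ℕ}
    (hc : c < 3510) (n : ℕ) : samePat w c n (act g c) = true := by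
  rw [samePat, List.all_eq_true]
  intro j _
  rw [beq_iff_eq, ← act_comm hw hg hc, adjb_act hpts g hc (xp_act hw hc _).2]

include hpts in
theorem fix_trivial {w : List ℕ} (hw : ∀ x ∈ w, x < 9) {c tab posTab : ℕ} (hc : c < 3510)
    (hgen : ∀ p < 3510, genOK w c tab posTab p = true) {g : pres.Grp} (hg : Commute g (el w))
    (hfix : act g c = c) : g = 1 := by
  have hcyc : ∀ j, Commute g (dp (xp w j c) : pres.Grp) := by
    intro j
    have h1 := act_dp hpts g (xp_act hw hc j).2
    rw [act_comm hw hg hc, hfix] at h1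
    exact (eq_mul_inv_iff_mul_eq.mp h1).symm
  have hall : ∀ k p, p < 3510 → fld posTab 12 p = k → Commute g (dp p : pres.Grp) := by
    intro k
    induction k using Nat.strong_induction_on with
    | _ k ih =>
      intro p hp hk
      have hh := hgen p hp
      simp only [genOK, hk, Bool.and_eq_true] at hh
      obtain ⟨-, h2⟩ := hh
      set e := fld tab 28 k
      cases hb : Nat.beq (e / 65536) 4000
      · rw [hb, cond_false] at h2
        simp only [Bool.and_eq_true] at h2
        obtain ⟨⟨⟨h3, h4⟩, h5⟩, h6⟩ := h2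
        set q := fld tab 28 (e / 65536) % 4096
        have hq : q < 3510 := Nat.le_of_ble_eq_true h4
        set cj := xp w (e / 4096 % 16) c
        have hcj : cj < 3510 := (xp_act hw hc _).2
        have e1 : act (dp cj : pres.Grp) q = p := by
          rw [act_def _ hq, show (dp cj : pres.Grp) = (Fischer.mem (pwP cj) : pres.Grp) from rfl,
            Fischer.mem_act (pw_lt hpts hcj)]
          exact Nat.eq_of_beq_eq_true h6
        rw [← e1, act_dp hpts _ hq]
        exact ((hcyc _).mul_right (ih _ (Nat.le_of_ble_eq_true h3) q hq (Nat.eq_of_beq_eq_true h5))).mul_right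
          (hcyc _).inv_right
      · rw [hb, cond_true] at h2
        rw [← Nat.eq_of_beq_eq_true h2]
        exact hcyc _
  have hmem : g ∈ Subgroup.center pres.Grp := by
    rw [Subgroup.mem_center_iff]
    intro h
    have : h ∈ Subgroup.centralizer ({g} : Set pres.Grp) := by
      have htop := Fischer.three.2.2
      have hle : Subgroup.closure Fischer.Dc ≤ Subgroup.centralizer ({g} : Set pres.Grp) := by
        rw [Subgroup.closure_le]
        intro d hd
        rw [SetLike.mem_coe, Subgroup.mem_centralizer_singleton_iff]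
        have e := dp_surj hpts ⟨d, hd⟩
        have := hall _ _ (by exact (Fischer.theta ⟨d, hd⟩).2) rfl
        rw [← e] at this
        exact this.eq.symm
      rw [htop] at hle
      exact hle (Subgroup.mem_top h)
    exact Subgroup.mem_centralizer_singleton_iff.mp this
  rw [Fischer.center_bot] at hmem
  exact hmem

end Cfsg.Agent.Spor.M22U.Cent
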