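import Cfsg.Agent.Lib.Spor.M22UReflData
import Cfsg.Agent.Lib.Spor.ReflThree
import Cfsg.Agent.Lib.Classical.OrthOrders
import Cfsg.Agent.Lib.Classical.DiscType

/-!
Every six-dimensional form of discriminant one over the field with three elements is similar to a sum of squares.
-/

set_option autoImplicit false
set_option linter.unusedSectionVars false
set_option maxRecDepth 100000

namespace Cfsg.Agent.Spor.M22U.Forms

open Matrix Cfsg.Agent.Classical.OCount

/-- sum of squares -/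
def q0 (x : Fin 6 → ZMod 3) : ZMod 3 := ∑ i, x i * x i

/-- sum of squares as a form -/
noncomputable def Q0 : QuadraticForm (ZMod 3) (Fin 6 → ZMod 3) :=
  QuadraticMap.weightedSumSquares (ZMod 3) (1 : Fin 6 → ZMod 3)

theorem Q0_eq : ⇑Q0 = q0 := funext fun x => by
  simp [Q0, q0, QuadraticMap.weightedSumSquares_apply]

/-- matrix from rows -/
def matOfL {ι κ : Type} (ri : ι → ℕ) (ci : κ → ℕ) (L : List (List ℕ)) : Matrix ι κ (ZMod 3) :=
  Matrix.of fun i j => (((L.getD (ri i) []).getD (ci j) 0 : ℕ) : ZMod 3)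

section transport

variable {ι κ : Type} [Fintype ι] [DecidableEq ι] [Fintype κ] [DecidableEq κ]
variable (f : (ι → ZMod 3) → ZMod 3) (h : (κ → ZMod 3) → ZMod 3) (M : Matrix κ ι (ZMod 3)) (N : Matrix ι κ (ZMod 3))
variable (hNM : N * M = 1) (hMN : M * N = 1) {c : ZMod 3} (hc : c ≠ 0) (heq : ∀ x, h (M *ᵥ x) = c * f x)
include hNM hMN hc heq

/-- conjugation of the general linear groups -/
def glEquiv : GL ι (ZMod 3) ≃* GL κ (ZMod 3) where
  toFun g := ⟨M * g.1 * N, M * g⁻¹.1 * N, by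
      rw [show M * g.1 * N * (M * g⁻¹.1 * N) = M * g.1 * (N * M) * (g⁻¹.1 * N) by simp only [Matrix.mul_assoc],
        hNM, Matrix.mul_one, ← Matrix.mul_assoc, Matrix.mul_assoc M, ← Units.val_mul, mul_inv_cancel,
        Units.val_one, Matrix.mul_one, hMN], by
      rw [show M * g⁻¹.1 * N * (M * g.1 * N) = M * g⁻¹.1 * (N * M) * (g.1 * N) by simp only [Matrix.mul_assoc],
        hNM, Matrix.mul_one, ← Matrix.mul_assoc, Matrix.mul_assoc M, ← Units.val_mul, inv_mul_cancel,
        Units.val_one, Matrix.mul_one, hMN]⟩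
  invFun g := ⟨N * g.1 * M, N * g⁻¹.1 * M, by
      rw [show N * g.1 * M * (N * g⁻¹.1 * M) = N * g.1 * (M * N) * (g⁻¹.1 * M) by simp only [Matrix.mul_assoc],
        hMN, Matrix.mul_one, ← Matrix.mul_assoc, Matrix.mul_assoc N, ← Units.val_mul, mul_inv_cancel,
        Units.val_one, Matrix.mul_one, hNM], by
      rw [show N * g⁻¹.1 * M * (N * g.1 * M) = N * g⁻¹.1 * (M * N) * (g.1 * M) by simp only [Matrix.mul_assoc],
        hMN, Matrix.mul_one, ← Matrix.mul_assoc, Matrix.mul_assoc N, ← Units.val_mul, inv_mul_cancel,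
        Units.val_one, Matrix.mul_one, hNM]⟩
  left_inv g := Units.ext (by
    show N * (M * g.1 * N) * M = g.1
    rw [show N * (M * g.1 * N) * M = (N * M) * g.1 * (N * M) by simp only [Matrix.mul_assoc], hNM,
      Matrix.one_mul, Matrix.mul_one])
  right_inv g := Units.ext (by
    show M * (N * g.1 * M) * N = g.1
    rw [show M * (N * g.1 * M) * N = (M * N) * g.1 * (M * N) by simp only [Matrix.mul_assoc], hMN,
      Matrix.one_mul, Matrix.mul_one])
  map_mul' g g' := Units.ext (by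
    show M * (g.1 * g'.1) * N = M * g.1 * N * (M * g'.1 * N)
    rw [show M * g.1 * N * (M * g'.1 * N) = M * g.1 * (N * M) * (g'.1 * N) by simp only [Matrix.mul_assoc],
      hNM, Matrix.mul_one]
    simp only [Matrix.mul_assoc])

theorem mem_iff (g : GL ι (ZMod 3)) :
    glEquiv M N hNM hMN g ∈ Cfsg.isometryGroup (ZMod 3) h ↔ g ∈ Cfsg.isometryGroup (ZMod 3) f := by
  have key : ∀ u : ι → ZMod 3, (M * g.1 * N) *ᵥ (M *ᵥ u) = M *ᵥ (g.1 *ᵥ u) := fun u => by
    rw [Matrix.mulVec_mulVec, Matrix.mul_assoc, hNM, Matrix.mul_one, ← Matrix.mulVec_mulVec]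
  constructor
  · intro hg u v
    have := hg (M *ᵥ u) (M *ᵥ v)
    change h ((M * g.1 * N) *ᵥ (M *ᵥ u)) = h (M *ᵥ u) at this
    rw [key, heq, heq] at this
    exact mul_left_cancel₀ hc this
  · intro hg u v
    show h ((M * g.1 * N) *ᵥ u) = h u
    have hu : u = M *ᵥ (N *ᵥ u) := by rw [Matrix.mulVec_mulVec, hMN, Matrix.one_mulVec]
    rw [hu, key, heq, heq]
    exact congrArg (c * ·) (hg (N *ᵥ u) (N *ᵥ u))

/-- the isometry groups -/
def isoEquiv : ↥(Cfsg.isometryGroup (ZMod 3) f) ≃* ↥(Cfsg.isometryGroup (ZMod 3) h) where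
  toFun g := ⟨glEquiv M N hNM hMN g.1, (mem_iff f h M N hNM hMN hc heq _).mpr g.2⟩
  invFun g := ⟨(glEquiv M N hNM hMN).symm g.1, by
    rw [← mem_iff f h M N hNM hMN hc heq, MulEquiv.apply_symm_apply]; exact g.2⟩
  left_inv g := Subtype.ext ((glEquiv M N hNM hMN).symm_apply_apply g.1)
  right_inv g := Subtype.ext ((glEquiv M N hNM hMN).apply_symm_apply g.1)
  map_mul' g g' := Subtype.ext (map_mul _ g.1 g'.1)

end transport

theorem minus_ok : ∀ x : Fin 6 → ZMod 3,
    Cfsg.quadFormMinus 2 (ZMod 3) 0 1 (matOfL (fun i : (Fin 2 ⊕ Fin 2) ⊕ Fin 2 =>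
      (match i with | .inl (.inl a) => a.val | .inl (.inr a) => 2 + a.val | .inr a => 4 + a.val))
      (fun j : Fin 6 => j.val) RDat.minusM *ᵥ x) = q0 x := by decide +kernel

theorem card_O : Nat.card ↥(Cfsg.isometryGroup (ZMod 3) ⇑Q0) = 26127360 := by
  rw [Q0_eq]
  set ri : (Fin 2 ⊕ Fin 2) ⊕ Fin 2 → ℕ := fun i =>
    (match i with | .inl (.inl a) => a.val | .inl (.inr a) => 2 + a.val | .inr a => 4 + a.val)
  set M : Matrix ((Fin 2 ⊕ Fin 2) ⊕ Fin 2) (Fin 6) (ZMod 3) := matOfL ri (fun j => j.val) RDat.minusM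
  let W : Matrix ((Fin 2 ⊕ Fin 2) ⊕ Fin 2) ((Fin 2 ⊕ Fin 2) ⊕ Fin 2) (ZMod 3) :=
    Matrix.of fun i j => QuadraticMap.polar (Cfsg.quadFormMinus 2 (ZMod 3) 0 1) (Pi.single i 1) (Pi.single j 1)
  let N : Matrix (Fin 6) ((Fin 2 ⊕ Fin 2) ⊕ Fin 2) (ZMod 3) := (2 : ZMod 3) • (Mᵀ * W)
  have hNM : N * M = 1 := by decide +kernel
  have hMN : M * N = 1 := by decide +kernel
  rw [Nat.card_congr (isoEquiv q0 (Cfsg.quadFormMinus 2 (ZMod 3) 0 1) M N hNM hMN (c := 1) one_ne_zero
    (fun x => by rw [one_mul]; exact minus_ok x)).toEquiv,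
    Cfsg.Agent.Classical.OCount.card_minus 2 0 1 (by decide +kernel)]
  decide +kernel

theorem diag_ok : ∀ m < 64, (∏ i : Fin 6, (if Nat.testBit m i.val then (2 : ZMod 3) else 1)) = 1 →
    (matOfL (fun i : Fin 6 => i.val) (fun j : Fin 6 => j.val) (RDat.diagM.getD m []))ᵀ *
      Matrix.diagonal (fun i : Fin 6 => if Nat.testBit m i.val then (2 : ZMod 3) else 1) *
      (matOfL (fun i : Fin 6 => i.val) (fun j : Fin 6 => j.val) (RDat.diagM.getD m [])) = 1 := by
  decide +kernel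

theorem mask_surj : ∀ w : Fin 6 → ZMod 3, (∀ i, w i ≠ 0) →
    ∃ m < 64, ∀ i : Fin 6, (if Nat.testBit m i.val then (2 : ZMod 3) else 1) = w i := by decide +kernel

theorem sq_one : ∀ a : ZMod 3, a ≠ 0 → a * a = 1 := by decide

theorem form_polar (Q : QuadraticForm (ZMod 3) (Fin 6 → ZMod 3)) (v : Fin 6 → ZMod 3) :
    Q v = 2 * (v ⬝ᵥ (Matrix.of (fun i j : Fin 6 => QuadraticMap.polar (⇑Q) (Pi.single i 1) (Pi.single j 1)) *ᵥ v)) := by
  have h1 : QuadraticMap.polar (⇑Q) v v = 2 * Q v := by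
    rw [QuadraticMap.polar_self, nsmul_eq_mul]; norm_num
  have h2 : v ⬝ᵥ (Matrix.of (fun i j : Fin 6 => QuadraticMap.polar (⇑Q) (Pi.single i 1) (Pi.single j 1)) *ᵥ v) =
      QuadraticMap.polar (⇑Q) v v := by
    conv_rhs => rw [← QuadraticMap.polarBilin_apply_apply, show v = ∑ j, v j • (Pi.single j 1 : Fin 6 → ZMod 3)
      from pi_eq_sum_univ' v]
    simp [dotProduct, Matrix.mulVec, Finset.mul_sum, Finset.sum_mul, mul_comm, mul_left_comm]
    rw [Finset.sum_comm]
    refine Finset.sum_congr rfl fun i _ => Finset.sum_congr rfl fun j _ => ?_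
    ring
  rw [h2, h1, ← mul_assoc, show (2 : ZMod 3) * 2 = 1 by decide, one_mul]

theorem exists_similar (Q : QuadraticForm (ZMod 3) (Fin 6 → ZMod 3)) (hQ : (QuadraticMap.polarBilin Q).Nondegenerate)
    (hdisc : Cfsg.polarGramDet (⇑Q) = 1) (c : ZMod 3) (hc : c ≠ 0) :
    ∃ M N : Matrix (Fin 6) (Fin 6) (ZMod 3), N * M = 1 ∧ M * N = 1 ∧ ∀ x, Q (M *ᵥ x) = c * q0 x := by
  set A := Matrix.of fun i j : Fin 6 => QuadraticMap.polar (⇑Q) (Pi.single i 1) (Pi.single j 1) with hA
  have hAdet : A.det = 1 := hdisc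
  have hs : LinearMap.BilinForm.IsSymm (QuadraticMap.polarBilin Q) :=
    ⟨fun x y => QuadraticMap.polar_comm (⇑Q) x y⟩
  obtain ⟨b, hb, hb0⟩ := Cfsg.Agent.Classical.DiscType.exists_basis (by decide) hs hQ
  have hfr : Module.finrank (ZMod 3) (Fin 6 → ZMod 3) = 6 := by simp
  let b' : Fin 6 → (Fin 6 → ZMod 3) := fun i => b (Fin.cast hfr.symm i)
  let P : Matrix (Fin 6) (Fin 6) (ZMod 3) := Matrix.of fun i j => b' j i
  let w : Fin 6 → ZMod 3 := fun i => QuadraticMap.polar (⇑Q) (b' i) (b' i)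
  have hgram : Pᵀ * A * P = Matrix.diagonal w := by
    ext i j
    have e : (Pᵀ * A * P) i j = QuadraticMap.polar (⇑Q) (b' i) (b' j) := by
      conv_rhs => rw [← QuadraticMap.polarBilin_apply_apply,
        show b' i = ∑ k, b' i k • (Pi.single k 1 : Fin 6 → ZMod 3) from pi_eq_sum_univ' (b' i),
        show b' j = ∑ k, b' j k • (Pi.single k 1 : Fin 6 → ZMod 3) from pi_eq_sum_univ' (b' j)]
      simp [P, hA, Matrix.mul_apply, Finset.mul_sum, Finset.sum_mul, mul_comm, mul_left_comm]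
    rw [e, Matrix.diagonal_apply]
    split
    · next h => subst h; rfl
    · next h => exact hb _ _ fun e => h (Fin.cast_injective _ e)
  have hw0 : ∀ i, w i ≠ 0 := fun i => hb0 _
  let w' : Fin 6 → ZMod 3 := fun i => 2 * c * w i
  have hw'0 : ∀ i, w' i ≠ 0 := fun i => mul_ne_zero (mul_ne_zero (by decide) hc) (hw0 i)
  have hdet : P.det * P.det = ∏ i, w i := by
    have := congrArg Matrix.det hgram
    rwa [Matrix.det_mul, Matrix.det_mul, Matrix.det_transpose, hAdet, mul_one, Matrix.det_diagonal] at this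
  have hP0 : P.det ≠ 0 := fun h => by
    rw [h, zero_mul] at hdet
    exact Finset.prod_ne_zero_iff.mpr (fun i _ => hw0 i) hdet.symm
  have hw1 : ∏ i, w' i = 1 := by
    simp only [w']
    rw [Finset.prod_mul_distrib, ← hdet, sq_one _ hP0, Finset.prod_const, Finset.card_univ, Fintype.card_fin,
      mul_one, mul_pow]
    rcases ReflThree.unit_cases c with rfl | rfl | rfl
    · exact absurd rfl hc
    · decide
    · decide
  obtain ⟨m, hm, hmw⟩ := mask_surj w' hw'0
  set R := matOfL (fun i : Fin 6 => i.val) (fun j : Fin 6 => j.val) (RDat.diagM.getD m [])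
  have hR := diag_ok m hm (by rw [Finset.prod_congr rfl fun i _ => hmw i]; exact hw1)
  rw [show (fun i : Fin 6 => if Nat.testBit m i.val then (2 : ZMod 3) else 1) = w' from funext hmw] at hR
  set M := P * R
  have hMA : Mᵀ * A * M = (2 * c) • (1 : Matrix (Fin 6) (Fin 6) (ZMod 3)) := by
    have e1 : Mᵀ * A * M = Rᵀ * Matrix.diagonal w * R := by
      rw [← hgram]; simp only [M, Matrix.transpose_mul, Matrix.mul_assoc]
    have e2 : Matrix.diagonal w' = (2 * c) • Matrix.diagonal w := by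
      ext i j; by_cases h : i = j
      · subst h; simp [w']
      · simp [h]
    rw [e2, Matrix.mul_smul, Matrix.smul_mul] at hR
    rw [e1, ← hR, smul_smul, sq_one _ (mul_ne_zero (by decide) hc), one_smul]
  have hM : M.det ≠ 0 := fun h => by
    have := congrArg Matrix.det hMA
    rw [Matrix.det_mul, h, mul_zero, Matrix.det_smul, Matrix.det_one, mul_one] at this
    exact pow_ne_zero _ (mul_ne_zero (by decide) hc) this.symm
  refine ⟨M, M⁻¹, Matrix.nonsing_inv_mul _ (Ne.isUnit hM), Matrix.mul_nonsing_inv _ (Ne.isUnit hM), fun x => ?_⟩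
  rw [form_polar, ← hA, Matrix.mulVec_mulVec, Matrix.dotProduct_mulVec, Matrix.vecMul_mulVec,
    ← Matrix.mul_assoc, hMA]
  simp only [q0, dotProduct, Matrix.vecMul, Matrix.smul_apply, Matrix.one_apply, smul_eq_mul, mul_ite, mul_one,
    mul_zero, Finset.sum_ite_eq', Finset.mem_univ, if_true, Finset.mul_sum]
  refine Finset.sum_congr rfl fun i _ => ?_
  linear_combination (c * x i * x i) * ((by decide : (3 : ZMod 3) = 0))

end Cfsg.Agent.Spor.M22U.Forms
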