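import Cfsg.Prelude.Def_FischerSpaces
import Cfsg.Agent.Lib.Spor.ThreeBasic

/-!
A group generated by a set of 3-transpositions with trivial centre is determined by the commuting graph
when the third member on a line is determined by that graph.
-/

set_option autoImplicit false

namespace Cfsg.Agent.Spor.M22U

variable {G : Type*} [Group G] {D : Set G}

/-- conjugation on the set -/
def conjPerm (h : ∀ g : G, ∀ d ∈ D, g * d * g⁻¹ ∈ D) : G →* Equiv.Perm D where
  toFun g :=
    { toFun := fun x => ⟨g * x * g⁻¹, h g x x.2⟩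
      invFun := fun x => ⟨g⁻¹ * x * g⁻¹⁻¹, h g⁻¹ x x.2⟩
      left_inv := fun x => Subtype.ext (show g⁻¹ * (g * (x : G) * g⁻¹) * g⁻¹⁻¹ = x by group)
      right_inv := fun x => Subtype.ext (show g * (g⁻¹ * (x : G) * g⁻¹⁻¹) * g⁻¹ = x by group) }
  map_one' := Equiv.ext fun x => Subtype.ext (show (1 : G) * x * 1⁻¹ = x by group)
  map_mul' g k := Equiv.ext fun x => Subtype.ext (show g * k * (x : G) * (g * k)⁻¹ = g * (k * x * k⁻¹) * g⁻¹ by group)

theorem conjPerm_injective (hD : Cfsg.IsThreeTranspositionGroup D) (hZ : Subgroup.center G = ⊥) :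
    Function.Injective (conjPerm hD.2.1) := by
  rw [← MonoidHom.ker_eq_bot_iff, eq_bot_iff, ← hZ]
  intro g hg
  rw [← Subgroup.centralizer_univ]
  have h1 : D ⊆ (Subgroup.centralizer ({g} : Set G) : Set G) := fun x hx => by
    have h2 : g * x * g⁻¹ = x :=
      congrArg Subtype.val (Equiv.ext_iff.mp (MonoidHom.mem_ker.mp hg) ⟨x, hx⟩)
    rw [SetLike.mem_coe, Subgroup.mem_centralizer_singleton_iff]
    exact (mul_inv_eq_iff_eq_mul.mp h2).symm
  have h3 : (⊤ : Subgroup G) ≤ Subgroup.centralizer ({g} : Set G) := hD.2.2 ▸ (Subgroup.closure_le _).mpr h1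
  exact Subgroup.mem_centralizer_iff.mpr fun x _ =>
    Subgroup.mem_centralizer_singleton_iff.mp (h3 (Subgroup.mem_top x))

theorem range_conjPerm (hD : Cfsg.IsThreeTranspositionGroup D) {M : Type*} [Group M] (φ : G →* M) :
    φ.range = Subgroup.closure (φ '' D) := by
  rw [← MonoidHom.map_closure, hD.2.2, ← MonoidHom.range_eq_map]

theorem exists_equiv {H : Type*} [Group H] {E : Set H} (hD : Cfsg.IsThreeTranspositionGroup D)
    (hE : Cfsg.IsThreeTranspositionGroup E) (hZD : Subgroup.center G = ⊥) (hZE : Subgroup.center H = ⊥)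
    (f : D ≃ E) (hf : ∀ x y : D, Commute (f x : H) (f y : H) ↔ Commute (x : G) (y : G))
    (third : ∀ x y z : E, ¬ Commute (x : H) (y : H) → z ≠ x → z ≠ y →
      (∀ w : E, Commute (w : H) (x : H) → Commute (w : H) (y : H) → Commute (w : H) (z : H)) →
        (z : H) = x * y * (x : H)⁻¹) :
    ∃ e : G ≃* H, e '' D = E := by
  have key : ∀ x y : D, (f (conjPerm hD.2.1 (x : G) y) : H) = f x * f y * (f x : H)⁻¹ := by
    intro x y
    by_cases hxy : Commute (x : G) (y : G)
    · have h1 : conjPerm hD.2.1 (x : G) y = y := Subtype.ext (by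
        show (x : G) * y * (x : G)⁻¹ = y
        rw [hxy.eq, mul_inv_cancel_right])
      rw [h1, ((hf x y).mpr hxy).eq, mul_inv_cancel_right]
    · set z := conjPerm hD.2.1 (x : G) y with hz
      have hzv : (z : G) = x * y * (x : G)⁻¹ := rfl
      refine third (f x) (f y) (f z) (fun h => hxy ((hf x y).mp h)) ?_ ?_ ?_
      · intro h
        have h2 : (x : G) * y * (x : G)⁻¹ = x := hzv.symm.trans (congrArg Subtype.val (f.injective h))
        have h4 : (x : G) * y = x * x := by
          calc (x : G) * y = (x * y * (x : G)⁻¹) * x := by group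
            _ = x * x := by rw [h2]
        exact hxy (by rw [mul_left_cancel h4])
      · intro h
        exact hxy (mul_inv_eq_iff_eq_mul.mp (hzv.symm.trans (congrArg Subtype.val (f.injective h))))
      · intro w hwx hwy
        obtain ⟨v, rfl⟩ := f.surjective w
        rw [hf] at hwx hwy ⊢
        rw [hzv]
        exact (hwx.mul_right hwy).mul_right hwx.inv_right
  let ψ : G →* Equiv.Perm E := f.permCongrHom.toMonoidHom.comp (conjPerm hD.2.1)
  have hψ : ∀ x : D, ψ (x : G) = conjPerm hE.2.1 (f x : H) := fun x => Equiv.ext fun u => by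
    obtain ⟨y, rfl⟩ := f.surjective u
    refine Subtype.ext ?_
    show (f (conjPerm hD.2.1 (x : G) (f.symm (f y))) : H) = f x * f y * (f x : H)⁻¹
    rw [f.symm_apply_apply]; exact key x y
  have hψi : Function.Injective ψ :=
    f.permCongrHom.injective.comp (conjPerm_injective hD hZD)
  have hιi := conjPerm_injective hE hZE
  have hr : ψ.range = (conjPerm hE.2.1).range := by
    rw [range_conjPerm hD ψ, range_conjPerm hE (conjPerm hE.2.1)]
    congr 1
    ext σ
    constructor
    · rintro ⟨x, hx, rfl⟩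
      exact ⟨f ⟨x, hx⟩, (f ⟨x, hx⟩).2, (hψ ⟨x, hx⟩).symm⟩
    · rintro ⟨u, hu, rfl⟩
      refine ⟨(f.symm ⟨u, hu⟩ : D), (f.symm ⟨u, hu⟩).2, ?_⟩
      rw [hψ, f.apply_symm_apply]
  let e : G ≃* H := (MonoidHom.ofInjective hψi).trans
    ((MulEquiv.subgroupCongr hr).trans (MonoidHom.ofInjective hιi).symm)
  have he : ∀ x : D, e (x : G) = f x := fun x => hιi (by
    rw [← hψ x]
    show conjPerm hE.2.1 ((MonoidHom.ofInjective hιi).symm _) = ψ x
    rw [← MonoidHom.ofInjective_apply hιi, MulEquiv.apply_symm_apply]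
    rfl)
  refine ⟨e, Set.ext fun u => ?_⟩
  constructor
  · rintro ⟨x, hx, rfl⟩
    rw [show x = ((⟨x, hx⟩ : D) : G) from rfl, he]
    exact (f ⟨x, hx⟩).2
  · intro hu
    exact ⟨(f.symm ⟨u, hu⟩ : D), (f.symm ⟨u, hu⟩).2, by rw [he, f.apply_symm_apply]⟩

end Cfsg.Agent.Spor.M22U
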