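import Cfsg.Agent.Lib.Spor.M22UTables
import Cfsg.Agent.Lib.Spor.M22UGraph
import Cfsg.Prelude.Def_FischerSpaces
import Cfsg.Agent.Lib.Spor.ThreeRelations

/-!
The points of a group of type M(22), given coordinates for the members commuting with one member.
-/

set_option autoImplicit false
set_option maxRecDepth 100000

namespace Cfsg.Agent.Spor.M22U

open Cfsg.Agent.Spor.CC Dat

/-- coordinates at a non-commuting pair -/
structure Frame {G : Type*} [Group G] (D : Set G) where
  /-- the 3-transpositions -/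
  three : Cfsg.IsThreeTranspositionGroup D
  /-- one class -/
  trans : ∀ x ∈ D, ∀ y ∈ D, ∃ g : G, g * x * g⁻¹ = y
  /-- connectivity -/
  conn : (Cfsg.commutingGraph D).Connected
  /-- the first member -/
  a : G
  /-- the second member -/
  b : G
  ha : a ∈ D
  hb : b ∈ D
  nab : ¬ Commute a b
  /-- the coordinates -/
  pi : ↥{y : G | y ∈ D ∧ y ≠ a ∧ Commute a y} ≃ Fin 693
  pi_gen : ∀ j, j < 8 → ∀ x y z : ↥{y : G | y ∈ D ∧ y ≠ a ∧ Commute a y}, (pi x : ℕ) = gpt j →
    (z : G) = x * y * (x : G)⁻¹ → (pi z : ℕ) = pim j (pi y)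
  pi_T : ∀ y : ↥{y : G | y ∈ D ∧ y ≠ a ∧ Commute a y}, Commute b (y : G) ↔ inT0 (pi y) = true

variable {G : Type*} [Group G] {D : Set G}

theorem below_iff {n : ℕ} {w : List ℕ} : below n w = true ↔ ∀ x ∈ w, x < n := by
  simp [below, Nat.blt_eq]

theorem below_append {n : ℕ} {u v : List ℕ} (hu : below n u = true) (hv : below n v = true) :
    below n (u ++ v) = true := by
  rw [below_iff] at *
  intro x hx
  rcases List.mem_append.mp hx with h | h
  · exact hu x h
  · exact hv x h

theorem below_rev {n : ℕ} {u : List ℕ} (hu : below n u = true) : below n u.reverse = true := by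
  rw [below_iff] at *; exact fun x hx => hu x (List.mem_reverse.mp hx)

theorem below_mono {u : List ℕ} (hu : below 7 u = true) : below 8 u = true := by
  rw [below_iff] at *; exact fun x hx => Nat.lt_succ_of_lt (hu x hx)

theorem beq_iff {a b : ℕ} : Nat.beq a b = true ↔ a = b :=
  ⟨Nat.eq_of_beq_eq_true, fun h => h ▸ Nat.beq_refl _⟩

theorem blt_iff {a b : ℕ} : Nat.blt a b = true ↔ a < b := iff_of_eq Nat.blt_eq

theorem pim_spec {j x : ℕ} (hj : j < 8) (hx : x < 693) : pim j x < 693 ∧ pim j (pim j x) = x := by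
  have := pt_spec hx
  simp only [ptOK, Bool.and_eq_true, List.all_eq_true, List.mem_range, beq_iff, blt_iff] at this
  exact this.1.1.1.1 j hj

theorem pt_word {x : ℕ} (hx : x < 693) : pwJ x < 8 ∧ below 8 (pwW x) = true ∧ pev (pwW x) (gpt (pwJ x)) = x := by
  have := pt_spec hx
  simp only [ptOK, Bool.and_eq_true, beq_iff, blt_iff] at this
  exact ⟨this.1.1.1.2, this.1.1.2, this.1.2⟩

theorem tw_word {x : ℕ} (hx : x < 693) (h : inT0 x = true) :
    twJ x < 7 ∧ below 7 (twW x) = true ∧ pev (twW x) (gpt (twJ x)) = x := by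
  have := pt_spec hx
  simp only [ptOK, h, cond_true, Bool.and_eq_true, beq_iff, blt_iff] at this
  exact ⟨this.2.1.1, this.2.1.2, this.2.2⟩

theorem out_word {x : ℕ} (hx : x < 693) (h : inT0 x = false) :
    below 7 (sp x) = true ∧ pev (sp x) p1 = x ∧ kind (invq x) = 1 ∧ invq x < 1408 ∧ qpt (invq x) = x ∧
      (x = p1 ∨ ∃ t < 693, inT0 t = true ∧ orth p1 t = true ∧ orth x t = false) := by
  have := pt_spec hx
  simp only [ptOK, h, cond_false, Bool.and_eq_true, beq_iff, blt_iff, Bool.or_eq_true,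
    Bool.not_eq_true'] at this
  obtain ⟨-, ⟨⟨⟨⟨h1, h2⟩, h3⟩, h4⟩, h5⟩, h6⟩ := this
  exact ⟨h1, h2, h3, h4, h5, h6.imp id fun h => ⟨_, h.1.1.2, h.1.1.1, h.1.2, h.2⟩⟩

theorem pev_lt : ∀ {w : List ℕ}, below 8 w = true → ∀ {x : ℕ}, x < 693 → pev w x < 693
  | [], _, _, hx => hx
  | j :: w, hw, x, hx => by
    rw [below_iff] at hw
    exact (pim_spec (hw j (by simp)) (pev_lt (below_iff.mpr fun y hy => hw y (by simp [hy])) hx)).1

theorem pev_append (u v : List ℕ) (x : ℕ) : pev (u ++ v) x = pev u (pev v x) := by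
  simp [pev, List.foldr_append]

theorem qev_append (u v : List ℕ) (x : ℕ) : qev (u ++ v) x = qev u (qev v x) := by
  simp [qev, List.foldr_append]

theorem pev_rev : ∀ {w : List ℕ}, below 8 w = true → ∀ {x : ℕ}, x < 693 → pev w.reverse (pev w x) = x
  | [], _, _, _ => rfl
  | j :: w, hw, x, hx => by
    rw [below_iff] at hw
    have hw' : below 8 w = true := below_iff.mpr fun y hy => hw y (by simp [hy])
    rw [List.reverse_cons, pev_append]
    show pev w.reverse (pim j (pim j (pev w x))) = x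
    rw [(pim_spec (hw j (by simp)) (pev_lt hw' hx)).2]
    exact pev_rev hw' hx

theorem pev_rev' {w : List ℕ} (hw : below 8 w = true) {x : ℕ} (hx : x < 693) : pev w (pev w.reverse x) = x := by
  have := pev_rev (below_rev hw) hx
  rwa [List.reverse_reverse] at this

theorem pev_inj {w : List ℕ} (hw : below 8 w = true) {x y : ℕ} (hx : x < 693) (hy : y < 693)
    (h : pev w x = pev w y) : x = y := by
  rw [← pev_rev hw hx, h, pev_rev hw hy]

theorem qim_spec {j k : ℕ} (hj : j < 8) (hk : k < 1408) : qim j k < 1408 ∧ qim j (qim j k) = k := by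
  have := set_spec hk
  simp only [setOK, Bool.and_eq_true, List.all_eq_true, List.mem_range, beq_iff, blt_iff] at this
  exact this.1.1.1.1.1 j hj

theorem kw_spec {k : ℕ} (hk : k < 1408) : below 8 (kw k) = true ∧ qev (kw k) 0 = k := by
  have := set_spec hk
  simp only [setOK, Bool.and_eq_true, beq_iff] at this
  exact ⟨this.1.1.1.1.2, this.1.1.1.2⟩

theorem edge_spec {k j i : ℕ} (hk : k < 1408) (hj : j < 8) (hi : i < 7) :
    inS (qim j k) (pim j (pev (kw k) (gpt i))) = true := by
  have := set_spec hk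
  simp only [setOK, Bool.and_eq_true, List.all_eq_true, List.mem_range] at this
  exact this.1.1.2 j hj i hi

theorem dis_spec {k : ℕ} (hk : k < 1408) (h0 : k ≠ 0) :
    ∃ i < 7, inT0 (pev (kw k) (gpt i)) = false := by
  have := set_spec hk
  simp only [setOK, Bool.and_eq_true, Bool.or_eq_true, beq_iff, blt_iff, Bool.not_eq_true'] at this
  exact ⟨_, (this.2.resolve_left h0)⟩

theorem kind_cases {k : ℕ} (hk : k < 1408) : (kind k = 0 ∧ k = 0) ∨
    (kind k = 1 ∧ below 7 (sn k) = true ∧ qev (sn k) k1 = k ∧ invq (qpt k) = k ∧ inT0 (qpt k) = false) ∨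
    (kind k = 2 ∧ below 7 (sf k) = true ∧ qev (sf k) k2 = k) := by
  have := set_spec hk
  simp only [setOK, Bool.and_eq_true] at this
  have h := this.1.2
  by_cases h0 : kind k = 0
  · rw [beq_iff.mpr h0, cond_true, beq_iff] at h; exact Or.inl ⟨h0, h⟩
  · rw [Bool.eq_false_iff.mpr (fun e => h0 (beq_iff.mp e)), cond_false] at h
    by_cases h1 : kind k = 1
    · rw [beq_iff.mpr h1, cond_true] at h
      simp only [Bool.and_eq_true, beq_iff, Bool.not_eq_true'] at h
      exact Or.inr (Or.inl ⟨h1, h.1.1.1, h.1.1.2, h.1.2, h.2⟩)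
    · rw [Bool.eq_false_iff.mpr (fun e => h1 (beq_iff.mp e)), cond_false] at h
      simp only [Bool.and_eq_true, beq_iff] at h
      exact Or.inr (Or.inr ⟨h.1.1, h.1.2, h.2⟩)

theorem qev_lt : ∀ {w : List ℕ}, below 8 w = true → ∀ {k : ℕ}, k < 1408 → qev w k < 1408
  | [], _, _, hx => hx
  | j :: w, hw, x, hx => by
    rw [below_iff] at hw
    exact (qim_spec (hw j (by simp)) (qev_lt (below_iff.mpr fun y hy => hw y (by simp [hy])) hx)).1

theorem qev_rev : ∀ {w : List ℕ}, below 8 w = true → ∀ {k : ℕ}, k < 1408 → qev w.reverse (qev w k) = k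
  | [], _, _, _ => rfl
  | j :: w, hw, x, hx => by
    rw [below_iff] at hw
    have hw' : below 8 w = true := below_iff.mpr fun y hy => hw y (by simp [hy])
    rw [List.reverse_cons, qev_append]
    show qev w.reverse (qim j (qim j (qev w x))) = x
    rw [(qim_spec (hw j (by simp)) (qev_lt hw' hx)).2]
    exact qev_rev hw' hx

theorem qev_rev' {w : List ℕ} (hw : below 8 w = true) {k : ℕ} (hk : k < 1408) : qev w (qev w.reverse k) = k := by
  have := qev_rev (below_rev hw) hk
  rwa [List.reverse_reverse] at this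

theorem qev_stab : ∀ {w : List ℕ}, below 7 w = true → qev w 0 = 0
  | [], _ => rfl
  | j :: w, hw => by
    rw [below_iff] at hw
    show qim j (qev w 0) = 0
    rw [qev_stab (below_iff.mpr fun y hy => hw y (by simp [hy])), misc_ok.2.2.2.2.2.2.2.2.2.2.2.2.2.2.1 j
      (hw j (by simp))]

theorem gpt_lt {j : ℕ} (hj : j < 8) : gpt j < 693 := misc_ok.2.2.2.2.2.2.2.2.2.2.2.1 j hj

theorem gpt_T {j : ℕ} (hj : j < 7) : inT0 (gpt j) = true := misc_ok.2.2.2.2.2.2.2.2.2.2.2.2.1 j hj

namespace Frame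

variable (F : Frame D)
include F

/-- the member with given coordinate -/
noncomputable def pt (x : ℕ) : G := if h : x < 693 then (F.pi.symm ⟨x, h⟩ : G) else 1

/-- a generator -/
noncomputable def gen (j : ℕ) : G := F.pt (gpt j)

/-- value of a word -/
noncomputable def hw (w : List ℕ) : G := (w.map F.gen).prod

theorem pt_mem {x : ℕ} (hx : x < 693) : F.pt x ∈ D ∧ F.pt x ≠ F.a ∧ Commute F.a (F.pt x) := by
  rw [pt, dif_pos hx]; exact (F.pi.symm ⟨x, hx⟩).2

theorem pt_pi (y : ↥{y : G | y ∈ D ∧ y ≠ F.a ∧ Commute F.a y}) : F.pt (F.pi y) = y := by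
  rw [pt, dif_pos (F.pi y).2]
  exact congrArg Subtype.val (F.pi.symm_apply_apply y)

theorem pt_surj {y : G} (h : y ∈ D) (h' : y ≠ F.a) (h'' : Commute F.a y) : ∃ x < 693, F.pt x = y :=
  ⟨_, (F.pi ⟨y, h, h', h''⟩).2, F.pt_pi ⟨y, h, h', h''⟩⟩

theorem pt_inj {x y : ℕ} (hx : x < 693) (hy : y < 693) (h : F.pt x = F.pt y) : x = y := by
  rw [pt, pt, dif_pos hx, dif_pos hy] at h
  simpa using congrArg Fin.val (F.pi.symm.injective (Subtype.ext h))

theorem mul_self_mem {x : G} (hx : x ∈ D) : x * x = 1 := Spor.mul_self_of_order_two (F.three.1.1 x hx)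

theorem gen_conj {j x : ℕ} (hj : j < 8) (hx : x < 693) :
    F.gen j * F.pt x * (F.gen j)⁻¹ = F.pt (pim j x) := by
  obtain ⟨h1, h2, h3⟩ := F.pt_mem hx
  obtain ⟨g1, g2, g3⟩ := F.pt_mem (gpt_lt hj)
  have hz : F.gen j * F.pt x * (F.gen j)⁻¹ ∈ D ∧ F.gen j * F.pt x * (F.gen j)⁻¹ ≠ F.a ∧
      Commute F.a (F.gen j * F.pt x * (F.gen j)⁻¹) := by
    refine ⟨F.three.2.1 _ _ h1, fun h => h2 ?_, (g3.mul_right h3).mul_right g3.inv_right⟩
    have hga : F.gen j * F.a * (F.gen j)⁻¹ = F.a := mul_inv_eq_iff_eq_mul.mpr g3.symm.eq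
    exact mul_left_cancel (mul_right_cancel (h.trans hga.symm))
  have key := F.pi_gen j hj ⟨_, g1, g2, g3⟩ ⟨_, h1, h2, h3⟩ ⟨_, hz⟩ (by
    have e : F.gen j = ((F.pi.symm ⟨gpt j, gpt_lt hj⟩) : G) := by rw [gen, pt, dif_pos (gpt_lt hj)]
    rw [show (⟨F.pt (gpt j), g1, g2, g3⟩ : ↥{y : G | y ∈ D ∧ y ≠ F.a ∧ Commute F.a y}) =
      F.pi.symm ⟨gpt j, gpt_lt hj⟩ from Subtype.ext e, Equiv.apply_symm_apply]) rfl
  have e2 : (F.pi ⟨F.pt x, h1, h2, h3⟩ : ℕ) = x := by
    rw [show (⟨F.pt x, h1, h2, h3⟩ : ↥{y : G | y ∈ D ∧ y ≠ F.a ∧ Commute F.a y}) = F.pi.symm ⟨x, hx⟩ from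
      Subtype.ext (show F.pt x = _ by rw [pt, dif_pos hx]), Equiv.apply_symm_apply]
  rw [e2] at key
  exact (F.pt_pi ⟨_, hz⟩).symm.trans (by rw [key])

theorem hw_nil : F.hw [] = 1 := rfl

theorem hw_cons (j : ℕ) (w : List ℕ) : F.hw (j :: w) = F.gen j * F.hw w := by simp [hw]

theorem hw_append (u v : List ℕ) : F.hw (u ++ v) = F.hw u * F.hw v := by simp [hw]

theorem hw_rev : ∀ {w : List ℕ}, below 8 w = true → F.hw w.reverse = (F.hw w)⁻¹
  | [], _ => by simp [hw]
  | j :: w, hw' => by
    rw [below_iff] at hw'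
    have hg : (F.gen j)⁻¹ = F.gen j :=
      Spor.inv_of_order_two (F.three.1.1 _ (F.pt_mem (gpt_lt (hw' j (by simp)))).1)
    rw [List.reverse_cons, hw_append, hw_rev (below_iff.mpr fun y hy => hw' y (by simp [hy])),
      hw_cons, hw_cons, hw_nil, mul_one, mul_inv_rev, hg]

theorem hw_comm_a : ∀ {w : List ℕ}, below 8 w = true → Commute F.a (F.hw w)
  | [], _ => Commute.one_right _
  | j :: w, hw' => by
    rw [below_iff] at hw'
    rw [hw_cons]
    exact (F.pt_mem (gpt_lt (hw' j (by simp)))).2.2.mul_right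
      (hw_comm_a (below_iff.mpr fun y hy => hw' y (by simp [hy])))

theorem hw_comm_b : ∀ {w : List ℕ}, below 7 w = true → Commute F.b (F.hw w)
  | [], _ => Commute.one_right _
  | j :: w, hw' => by
    rw [below_iff] at hw'
    rw [hw_cons]
    refine Commute.mul_right ?_ (hw_comm_b (below_iff.mpr fun y hy => hw' y (by simp [hy])))
    have hj := hw' j (by simp)
    rw [gen, pt, dif_pos (gpt_lt (Nat.lt_succ_of_lt hj)), F.pi_T, Equiv.apply_symm_apply]
    exact gpt_T hj

theorem hw_conj : ∀ {w : List ℕ}, below 8 w = true → ∀ {x : ℕ}, x < 693 →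
    F.hw w * F.pt x * (F.hw w)⁻¹ = F.pt (pev w x)
  | [], _, x, _ => by simp [hw, pev]
  | j :: w, hw', x, hx => by
    rw [below_iff] at hw'
    have hw'' : below 8 w = true := below_iff.mpr fun y hy => hw' y (by simp [hy])
    rw [hw_cons, mul_inv_rev]
    calc F.gen j * F.hw w * F.pt x * ((F.hw w)⁻¹ * (F.gen j)⁻¹)
        = F.gen j * (F.hw w * F.pt x * (F.hw w)⁻¹) * (F.gen j)⁻¹ := by group
      _ = _ := by rw [hw_conj hw'' hx, F.gen_conj (hw' j (by simp)) (pev_lt hw'' hx)]; rfl

theorem hw_single (j : ℕ) : F.hw [j] = F.gen j := by simp [hw]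

omit F in
theorem cwd_below {x : ℕ} (hx : x < 693) : below 8 (cwd x) = true := by
  obtain ⟨h1, h2, -⟩ := pt_word hx
  refine below_append h2 ?_
  rw [below_iff]
  intro y hy
  rcases List.mem_cons.mp hy with rfl | hy
  · exact h1
  · exact below_iff.mp (below_rev h2) y hy

theorem pt_eq_hw {x : ℕ} (hx : x < 693) : F.pt x = F.hw (cwd x) := by
  obtain ⟨h1, h2, h3⟩ := pt_word hx
  conv_lhs => rw [← h3, ← F.hw_conj h2 (gpt_lt h1)]
  rw [cwd, hw_append, hw_cons, F.hw_rev h2, gen]
  group

theorem commute_pt {x y : ℕ} (hx : x < 693) (hy : y < 693) :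
    Commute (F.pt x) (F.pt y) ↔ orth x y = true := by
  have h := F.hw_conj (cwd_below hx) hy
  rw [← F.pt_eq_hw hx] at h
  rw [orth, beq_iff]
  constructor
  · intro hc
    refine F.pt_inj (pev_lt (cwd_below hx) hy) hy ?_
    rw [← h, hc.eq, mul_inv_cancel_right]
  · intro e
    rw [e, mul_inv_eq_iff_eq_mul] at h
    exact h

theorem commute_b_pt {x : ℕ} (hx : x < 693) : Commute F.b (F.pt x) ↔ inT0 x = true := by
  rw [pt, dif_pos hx, F.pi_T, Equiv.apply_symm_apply]

theorem orth_conj {w : List ℕ} (hw' : below 8 w = true) {x y : ℕ} (hx : x < 693) (hy : y < 693) :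
    orth (pev w x) (pev w y) = orth x y := by
  rw [Bool.eq_iff_iff, ← F.commute_pt (pev_lt hw' hx) (pev_lt hw' hy), ← F.commute_pt hx hy,
    ← F.hw_conj hw' hx, ← F.hw_conj hw' hy, commute_conj_iff]

theorem T_stab {w : List ℕ} (hw' : below 7 w = true) {x : ℕ} (hx : x < 693) :
    inT0 (pev w x) = inT0 x := by
  rw [Bool.eq_iff_iff, ← F.commute_b_pt (pev_lt (below_mono hw') hx), ← F.commute_b_pt hx,
    ← F.hw_conj (below_mono hw') hx]
  have hb : F.hw w * F.b * (F.hw w)⁻¹ = F.b := mul_inv_eq_iff_eq_mul.mpr (F.hw_comm_b hw').symm.eq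
  conv_lhs => rw [← hb]
  exact commute_conj_iff

/-- the member of a subset -/
noncomputable def bk (k : ℕ) : G := F.hw (kw k) * F.b * (F.hw (kw k))⁻¹

theorem bk_zero : F.bk 0 = F.b := by simp [bk, zero_ok.1, hw]

theorem bk_pt {k x : ℕ} (hk : k < 1408) (hx : x < 693) : Commute (F.bk k) (F.pt x) ↔ inS k x = true := by
  obtain ⟨h1, -⟩ := kw_spec hk
  rw [inS, ← F.commute_b_pt (pev_lt (below_rev h1) hx), ← F.hw_conj (below_rev h1) hx, F.hw_rev h1, bk]
  conv_rhs => rw [← commute_conj_iff (g := F.hw (kw k))]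
  rw [show F.hw (kw k) * ((F.hw (kw k))⁻¹ * F.pt x * (F.hw (kw k))⁻¹⁻¹) * (F.hw (kw k))⁻¹ = F.pt x by group]

/-- A word sending the seven members into the standard subset fixes it. -/
theorem T_word {u : List ℕ} (hu : below 8 u = true) (h : ∀ i < 7, inT0 (pev u (gpt i)) = true)
    {x : ℕ} (hx : x < 693) : inT0 (pev u x) = inT0 x := by
  have hgen : ∀ i < 7, Commute F.b (F.hw u * F.gen i * (F.hw u)⁻¹) := fun i hi => by
    rw [gen, F.hw_conj hu (gpt_lt (by omega)), F.commute_b_pt (pev_lt hu (gpt_lt (by omega)))]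
    exact h i hi
  have hword : ∀ w : List ℕ, below 7 w = true → Commute F.b (F.hw u * F.hw w * (F.hw u)⁻¹) := by
    intro w
    induction w with
    | nil => intro _; simp [hw]
    | cons j w ih =>
      intro hjw
      rw [below_iff] at hjw
      rw [hw_cons]
      have := (hgen j (hjw j (by simp))).mul_right (ih (below_iff.mpr fun y hy => hjw y (by simp [hy])))
      rwa [show F.hw u * F.gen j * (F.hw u)⁻¹ * (F.hw u * F.hw w * (F.hw u)⁻¹) =
        F.hw u * (F.gen j * F.hw w) * (F.hw u)⁻¹ by group] at this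
  have hinto : ∀ y < 693, inT0 y = true → inT0 (pev u y) = true := by
    intro y hy hyT
    obtain ⟨h1, h2, h3⟩ := tw_word hy hyT
    have hcw : below 7 (twW y ++ twJ y :: (twW y).reverse) = true := by
      refine below_append h2 (below_iff.mpr fun z hz => ?_)
      rcases List.mem_cons.mp hz with rfl | hz
      · exact h1
      · exact below_iff.mp (below_rev h2) z hz
    have e : F.pt y = F.hw (twW y ++ twJ y :: (twW y).reverse) := by
      conv_lhs => rw [← h3, ← F.hw_conj (below_mono h2) (gpt_lt (by omega))]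
      rw [hw_append, hw_cons, F.hw_rev (below_mono h2), gen]
      group
    rw [← F.commute_b_pt (pev_lt hu hy), ← F.hw_conj hu hy, e]
    exact hword _ hcw
  let S := (Finset.range 693).filter fun y => inT0 y = true
  have himg : S.image (pev u) = S := by
    refine Finset.eq_of_subset_of_card_le (fun y hy => ?_) ?_
    · obtain ⟨z, hz, rfl⟩ := Finset.mem_image.mp hy
      simp only [S, Finset.mem_filter, Finset.mem_range] at hz ⊢
      exact ⟨pev_lt hu hz.1, hinto z hz.1 hz.2⟩
    · rw [Finset.card_image_of_injOn (fun y hy z hz e => ?_)]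
      simp only [S, Finset.coe_filter, Finset.mem_range, Set.mem_setOf_eq] at hy hz
      exact pev_inj hu hy.1 hz.1 e
  rw [Bool.eq_iff_iff]
  refine ⟨fun hT => ?_, hinto x hx⟩
  have : pev u x ∈ S.image (pev u) := by
    rw [himg]; simp [S, pev_lt hu hx, hT]
  obtain ⟨z, hz, e⟩ := Finset.mem_image.mp this
  simp only [S, Finset.mem_filter, Finset.mem_range] at hz
  rw [← pev_inj hu hz.1 hx e]; exact hz.2

theorem inS_step {j k x : ℕ} (hj : j < 8) (hk : k < 1408) (hx : x < 693) :
    inS (qim j k) (pim j x) = inS k x := by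
  obtain ⟨h1, -⟩ := kw_spec hk
  obtain ⟨h2, -⟩ := kw_spec (qim_spec hj hk).1
  have hu : below 8 ((kw (qim j k)).reverse ++ ([j] ++ kw k)) = true :=
    below_append (below_rev h2) (below_append (by simp [below, Nat.blt_eq, hj]) h1)
  have hrun : ∀ y, pev ((kw (qim j k)).reverse ++ ([j] ++ kw k)) y =
      pev (kw (qim j k)).reverse (pim j (pev (kw k) y)) := fun y => by
    rw [pev_append, pev_append]; rfl
  have key := F.T_word hu (fun i hi => by rw [hrun]; exact edge_spec hk hj hi)
    (pev_lt (below_rev h1) hx)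
  rw [hrun, pev_rev' h1 hx] at key
  exact key

theorem inS_word : ∀ {w : List ℕ}, below 8 w = true → ∀ {k x : ℕ}, k < 1408 → x < 693 →
    inS (qev w k) (pev w x) = inS k x
  | [], _, _, _, _, _ => rfl
  | j :: w, hw', k, x, hk, hx => by
    rw [below_iff] at hw'
    have hw'' : below 8 w = true := below_iff.mpr fun y hy => hw' y (by simp [hy])
    show inS (qim j (qev w k)) (pim j (pev w x)) = inS k x
    rw [F.inS_step (hw' j (by simp)) (qev_lt hw'' hk) (pev_lt hw'' hx)]
    exact inS_word hw'' hk hx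

omit F in
theorem inS_zero (x : ℕ) : inS 0 x = inT0 x := by simp [inS, zero_ok.1, pev]

/-- a subset contained in another is equal to it -/
theorem set_inj {k l : ℕ} (hk : k < 1408) (hl : l < 1408)
    (h : ∀ x < 693, inS k x = true → inS l x = true) : k = l := by
  obtain ⟨h1, h1'⟩ := kw_spec hk
  set m := qev (kw k).reverse l with hm
  have hml : m < 1408 := qev_lt (below_rev h1) hl
  have hsub : ∀ x < 693, inT0 x = true → inS m x = true := by
    intro x hx hT
    have hy := pev_lt h1 hx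
    have := h _ hy (by
      have e := F.inS_word h1 (show (0 : ℕ) < 1408 by norm_num) hx
      rw [h1', inS_zero] at e
      rw [e]; exact hT)
    have e := F.inS_word (below_rev h1) hl hy
    rw [pev_rev h1 hx] at e
    rw [hm, e]; exact this
  have hm0 : m = 0 := by
    by_contra h0
    obtain ⟨i, hi, hiT⟩ := dis_spec hml h0
    obtain ⟨g1, g2⟩ := kw_spec hml
    have hz := pev_lt g1 (gpt_lt (show i < 8 by omega))
    have hmem : inS m (pev (kw m) (gpt i)) = true := by
      have e := F.inS_word g1 (show (0 : ℕ) < 1408 by norm_num) (gpt_lt (show i < 8 by omega))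
      rw [g2, inS_zero] at e
      rw [e]; exact gpt_T hi
    let A := (Finset.range 693).filter fun y => inT0 y = true
    let B := (Finset.range 693).filter fun y => inS m y = true
    have hAB : A ⊆ B := fun y hy => by
      simp only [A, B, Finset.mem_filter, Finset.mem_range] at hy ⊢
      exact ⟨hy.1, hsub y hy.1 hy.2⟩
    have hcard : B.card ≤ A.card := by
      refine Finset.card_le_card_of_injOn (pev (kw m).reverse) (fun y hy => ?_) (fun y hy z hz e => ?_)
      · simp only [B, Finset.coe_filter, Finset.mem_range, Set.mem_setOf_eq] at hy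
        simp only [A, Finset.coe_filter, Finset.mem_range, Set.mem_setOf_eq]
        exact ⟨pev_lt (below_rev g1) hy.1, hy.2⟩
      · simp only [B, Finset.coe_filter, Finset.mem_range, Set.mem_setOf_eq] at hy hz
        exact pev_inj (below_rev g1) hy.1 hz.1 e
    have : pev (kw m) (gpt i) ∈ A := by
      rw [Finset.eq_of_subset_of_card_le hAB hcard]
      simp [B, hz, hmem]
    simp only [A, Finset.mem_filter, Finset.mem_range] at this
    rw [hiT] at this
    exact Bool.noConfusion this.2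
  have := qev_rev' h1 hl
  rw [← hm, hm0, h1'] at this
  exact this

/-- the two members of a subset -/
noncomputable def sh (k : ℕ) (e : Bool) : G := bif e then F.bk k else F.a * F.bk k * F.a⁻¹

theorem a_inv : F.a⁻¹ = F.a := Spor.inv_of_order_two (F.three.1.1 _ F.ha)

theorem conj_a_sh (k : ℕ) (e : Bool) : F.a * F.sh k e * F.a⁻¹ = F.sh k (!e) := by
  cases e
  · show F.a * (F.a * F.bk k * F.a⁻¹) * F.a⁻¹ = F.bk k
    have h := F.mul_self_mem F.ha
    calc F.a * (F.a * F.bk k * F.a⁻¹) * F.a⁻¹ = (F.a * F.a) * F.bk k * (F.a * F.a)⁻¹ := by group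
      _ = _ := by rw [h, one_mul, inv_one, mul_one]
  · rfl

theorem sh_mem {k : ℕ} (hk : k < 1408) (e : Bool) : F.sh k e ∈ D ∧ ¬ Commute F.a (F.sh k e) := by
  have h1 : F.bk k ∈ D ∧ ¬ Commute F.a (F.bk k) := by
    refine ⟨F.three.2.1 _ _ F.hb, fun h => F.nab ?_⟩
    have ha : F.hw (kw k) * F.a * (F.hw (kw k))⁻¹ = F.a :=
      mul_inv_eq_iff_eq_mul.mpr (F.hw_comm_a (kw_spec hk).1).symm.eq
    rw [← ha, bk, commute_conj_iff] at h
    exact h
  cases e
  · refine ⟨F.three.2.1 _ _ h1.1, fun h => h1.2 ?_⟩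
    have ha : F.a * F.a * F.a⁻¹ = F.a := mul_inv_cancel_right _ _
    rw [show F.sh k false = F.a * F.bk k * F.a⁻¹ from rfl] at h
    conv at h => lhs; rw [← ha]
    rwa [commute_conj_iff] at h
  · exact h1

theorem sh_pt {k x : ℕ} (hk : k < 1408) (hx : x < 693) (e : Bool) :
    Commute (F.sh k e) (F.pt x) ↔ inS k x = true := by
  rw [← F.bk_pt hk hx]
  cases e
  · have hax : F.a * F.pt x * F.a⁻¹ = F.pt x := mul_inv_eq_iff_eq_mul.mpr (F.pt_mem hx).2.2.eq
    show Commute (F.a * F.bk k * F.a⁻¹) (F.pt x) ↔ _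
    conv_lhs => rw [← hax]
    exact commute_conj_iff
  · rfl

theorem sh_inj {k l : ℕ} (hk : k < 1408) (hl : l < 1408) {e e' : Bool} (h : F.sh k e = F.sh l e') :
    k = l ∧ e = e' := by
  have hkl : k = l := F.set_inj hk hl fun x hx hh => by
    rw [← F.sh_pt hl hx e', ← h, F.sh_pt hk hx e]; exact hh
  refine ⟨hkl, ?_⟩
  subst hkl
  by_contra hne
  have he : e' = !e := by cases e <;> cases e' <;> simp_all
  rw [he, ← F.conj_a_sh k e] at h
  exact (F.sh_mem hk e).2 (mul_inv_eq_iff_eq_mul.mp h.symm)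

theorem card_commute [Finite G] {x : G} (hx : x ∈ D) :
    {y : G | y ∈ D ∧ y ≠ x ∧ Commute x y}.ncard = 693 := by
  obtain ⟨g, rfl⟩ := F.trans _ F.ha x hx
  have h0 : {y : G | y ∈ D ∧ y ≠ F.a ∧ Commute F.a y}.ncard = 693 := by
    rw [← Nat.card_coe_set_eq, Nat.card_congr F.pi, Nat.card_fin]
  rw [← h0, ← Set.ncard_image_of_injective {y : G | y ∈ D ∧ y ≠ F.a ∧ Commute F.a y}
    (MulAut.conj g).injective]
  congr 1
  ext y
  constructor
  · rintro ⟨h1, h2, h3⟩
    refine ⟨g⁻¹ * y * g, ⟨by simpa using F.three.2.1 g⁻¹ y h1, fun h => h2 ?_, ?_⟩, ?_⟩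
    · rw [← h]; group
    · rw [← commute_conj_iff (g := g), show g * (g⁻¹ * y * g) * g⁻¹ = y by group]; exact h3
    · show g * (g⁻¹ * y * g) * g⁻¹ = y; group
  · rintro ⟨z, ⟨h1, h2, h3⟩, rfl⟩
    exact ⟨F.three.2.1 g z h1, fun h => h2 (mul_left_cancel (mul_right_cancel h)), commute_conj_iff.mpr h3⟩

theorem orth_self {x : ℕ} (hx : x < 693) : orth x x = true := (F.commute_pt hx hx).mp (Commute.refl _)

theorem row_count {x : ℕ} (hx : x < 693) :
    ((Finset.range 693).filter fun y => orth x y = true).card = 181 ∧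
    ((Finset.range 1408).filter fun k => inS k x = true).card = 256 := by
  obtain ⟨h1, h2, h3⟩ := pt_word hx
  have hg := gpt_lt h1
  constructor
  · rw [← deg_ok _ h1, ← List.toFinset_card_of_nodup ((List.nodup_range).filter _)]
    refine Finset.card_nbij' (pev (pwW x).reverse) (pev (pwW x)) ?_ ?_ ?_ ?_
    · intro y hy
      simp only [Finset.coe_filter, Finset.mem_range, Set.mem_setOf_eq] at hy
      simp only [List.coe_toFinset, List.mem_filter, List.mem_range, Set.mem_setOf_eq]
      refine ⟨pev_lt (below_rev h2) hy.1, ?_⟩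
      rw [← F.orth_conj h2 hg (pev_lt (below_rev h2) hy.1), h3, pev_rev' h2 hy.1]
      exact hy.2
    · intro y hy
      simp only [List.coe_toFinset, List.mem_filter, List.mem_range, Set.mem_setOf_eq] at hy
      simp only [Finset.coe_filter, Finset.mem_range, Set.mem_setOf_eq]
      refine ⟨pev_lt h2 hy.1, ?_⟩
      have e := F.orth_conj h2 hg hy.1
      rw [h3] at e
      rw [e]; exact hy.2
    · intro y hy
      simp only [Finset.coe_filter, Finset.mem_range, Set.mem_setOf_eq] at hy
      exact pev_rev' h2 hy.1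
    · intro y hy
      simp only [List.coe_toFinset, List.mem_filter, List.mem_range, Set.mem_setOf_eq] at hy
      exact pev_rev h2 hy.1
  · rw [← through_ok _ h1, ← List.toFinset_card_of_nodup ((List.nodup_range).filter _)]
    refine Finset.card_nbij' (qev (pwW x).reverse) (qev (pwW x)) ?_ ?_ ?_ ?_
    · intro y hy
      simp only [Finset.coe_filter, Finset.mem_range, Set.mem_setOf_eq] at hy
      simp only [List.coe_toFinset, List.mem_filter, List.mem_range, Set.mem_setOf_eq]
      refine ⟨qev_lt (below_rev h2) hy.1, ?_⟩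
      rw [← F.inS_word h2 (qev_lt (below_rev h2) hy.1) hg, h3, qev_rev' h2 hy.1]
      exact hy.2
    · intro y hy
      simp only [List.coe_toFinset, List.mem_filter, List.mem_range, Set.mem_setOf_eq] at hy
      simp only [Finset.coe_filter, Finset.mem_range, Set.mem_setOf_eq]
      refine ⟨qev_lt h2 hy.1, ?_⟩
      have e := F.inS_word h2 hy.1 hg
      rw [h3] at e
      rw [e]; exact hy.2
    · intro y hy
      simp only [Finset.coe_filter, Finset.mem_range, Set.mem_setOf_eq] at hy
      exact qev_rev' h2 hy.1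
    · intro y hy
      simp only [List.coe_toFinset, List.mem_filter, List.mem_range, Set.mem_setOf_eq] at hy
      exact qev_rev h2 hy.1

theorem a_ne_pt {x : ℕ} (hx : x < 693) : F.pt x ≠ F.a := (F.pt_mem hx).2.1

/-- a member outside with a neighbour among the points is a member of a subset -/
theorem cover [Finite G] {y : G} (hy : y ∈ D) (hya : ¬ Commute F.a y) {x : ℕ} (hx : x < 693)
    (hxy : Commute (F.pt x) y) : ∃ k < 1408, ∃ e, y = F.sh k e := by
  classical
  haveI := Fintype.ofFinite G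
  let A : Finset G := Finset.univ.filter fun z => z ∈ D ∧ ¬ Commute F.a z ∧ Commute (F.pt x) z
  let P : Finset (ℕ × Bool) := ((Finset.range 1408).filter fun k => inS k x = true) ×ˢ Finset.univ
  have hPc : P.card = 512 := by
    rw [Finset.card_product, (F.row_count hx).2, Finset.card_univ, Fintype.card_bool]
  let B : Finset G := Finset.univ.filter fun z => z ∈ D ∧ z ≠ F.pt x ∧ Commute (F.pt x) z
  have hBc : B.card = 693 := by
    rw [← F.card_commute (F.pt_mem hx).1, Set.ncard_eq_toFinset_card']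
    congr 1
    ext z
    simp only [B, Finset.mem_filter, Finset.mem_univ, true_and, Set.mem_toFinset, Set.mem_setOf_eq]
  let C : Finset G := insert F.a ((((Finset.range 693).filter fun z => orth x z = true).erase x).image F.pt)
  have hCc : C.card = 181 := by
    rw [Finset.card_insert_of_notMem, Finset.card_image_of_injOn, Finset.card_erase_of_mem, (F.row_count hx).1]
    · simp [hx, F.orth_self hx]
    · intro u hu v hv e
      simp only [Finset.coe_erase, Finset.coe_filter, Set.mem_diff, Finset.mem_range, Set.mem_setOf_eq] at hu hv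
      exact F.pt_inj hu.1.1 hv.1.1 e
    · intro h
      obtain ⟨z, hz, e⟩ := Finset.mem_image.mp h
      simp only [Finset.mem_erase, Finset.mem_filter, Finset.mem_range] at hz
      exact F.a_ne_pt hz.2.1 e
  have hdisj : Disjoint A C := by
    rw [Finset.disjoint_left]
    intro z hz hzC
    simp only [A, Finset.mem_filter] at hz
    rcases Finset.mem_insert.mp hzC with rfl | h
    · exact hz.2.2.1 (Commute.refl _)
    · obtain ⟨u, hu, rfl⟩ := Finset.mem_image.mp h
      simp only [Finset.mem_erase, Finset.mem_filter, Finset.mem_range] at hu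
      exact hz.2.2.1 (F.pt_mem hu.2.1).2.2
  have hsub : A ∪ C ⊆ B := by
    intro z hz
    simp only [B, Finset.mem_filter, Finset.mem_univ, true_and]
    rcases Finset.mem_union.mp hz with h | h
    · simp only [A, Finset.mem_filter] at h
      exact ⟨h.2.1, fun e => h.2.2.1 (e ▸ (F.pt_mem hx).2.2), h.2.2.2⟩
    · rcases Finset.mem_insert.mp h with rfl | h
      · exact ⟨F.ha, (F.a_ne_pt hx).symm, (F.pt_mem hx).2.2.symm⟩
      · obtain ⟨u, hu, rfl⟩ := Finset.mem_image.mp h
        simp only [Finset.mem_erase, Finset.mem_filter, Finset.mem_range] at hu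
        exact ⟨(F.pt_mem hu.2.1).1, fun e => hu.1 (F.pt_inj hu.2.1 hx e), (F.commute_pt hx hu.2.1).mpr hu.2.2⟩
  have hA : A.card ≤ 512 := by
    have h := Finset.card_le_card hsub
    rw [Finset.card_union_of_disjoint hdisj, hBc, hCc] at h
    omega
  have himg : P.image (fun p => F.sh p.1 p.2) = A := by
    refine Finset.eq_of_subset_of_card_le (fun z hz => ?_) ?_
    · obtain ⟨⟨k, e⟩, hp, rfl⟩ := Finset.mem_image.mp hz
      simp only [P, Finset.mem_product, Finset.mem_filter, Finset.mem_range] at hp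
      simp only [A, Finset.mem_filter, Finset.mem_univ, true_and]
      exact ⟨(F.sh_mem hp.1.1 e).1, (F.sh_mem hp.1.1 e).2, ((F.sh_pt hp.1.1 hx e).mpr hp.1.2).symm⟩
    · rw [Finset.card_image_of_injOn, hPc]
      · exact hA
      · rintro ⟨k, e⟩ hp ⟨l, e'⟩ hq h
        simp only [P, Finset.coe_product, Set.mem_prod, Finset.coe_filter, Finset.mem_range,
          Set.mem_setOf_eq] at hp hq
        obtain ⟨rfl, rfl⟩ := F.sh_inj hp.1.1 hq.1.1 h
        rfl
  have : y ∈ P.image (fun p => F.sh p.1 p.2) := by rw [himg]; simp [A, hy, hya, hxy]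
  obtain ⟨⟨k, e⟩, hp, rfl⟩ := Finset.mem_image.mp this
  simp only [P, Finset.mem_product, Finset.mem_filter, Finset.mem_range] at hp
  exact ⟨k, hp.1.1, e, rfl⟩

theorem move [Finite G] {w : List ℕ} (hw' : below 8 w = true) {k : ℕ} (hk : k < 1408) (e : Bool) :
    ∃ e', F.hw w * F.sh k e * (F.hw w)⁻¹ = F.sh (qev w k) e' := by
  obtain ⟨h1, h2⟩ := F.sh_mem hk e
  have haw : F.hw w * F.a * (F.hw w)⁻¹ = F.a := mul_inv_eq_iff_eq_mul.mpr (F.hw_comm_a hw').symm.eq
  have hna : ¬ Commute F.a (F.hw w * F.sh k e * (F.hw w)⁻¹) := by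
    conv => arg 1; arg 1; rw [← haw]
    rw [commute_conj_iff]; exact h2
  obtain ⟨g1, g2⟩ := kw_spec hk
  have hz := pev_lt g1 (gpt_lt (show 0 < 8 by norm_num))
  have hz' : inS k (pev (kw k) (gpt 0)) = true := by
    have e := F.inS_word g1 (show (0 : ℕ) < 1408 by norm_num) (gpt_lt (show 0 < 8 by norm_num))
    rw [g2, inS_zero] at e
    rw [e]; exact gpt_T (by norm_num)
  have hzc : Commute (F.pt (pev w (pev (kw k) (gpt 0)))) (F.hw w * F.sh k e * (F.hw w)⁻¹) := by
    rw [← F.hw_conj hw' hz, commute_conj_iff]; exact ((F.sh_pt hk hz e).mpr hz').symm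
  obtain ⟨l, hl, e', he'⟩ := F.cover (F.three.2.1 _ _ h1) hna (pev_lt hw' hz) hzc
  have : qev w k = l := F.set_inj (qev_lt hw' hk) hl fun x hx hin => by
    rw [← F.sh_pt hl hx e', ← he']
    have hx' := pev_lt (below_rev hw') hx
    have hin' : inS k (pev w.reverse x) = true := by
      rw [← F.inS_word hw' hk hx', pev_rev' hw' hx]; exact hin
    have := (commute_conj_iff (g := F.hw w)).mpr ((F.sh_pt hk hx' e).mpr hin')
    rwa [F.hw_conj hw' hx', pev_rev' hw' hx] at this
  exact ⟨e', this ▸ he'⟩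

end Frame

end Cfsg.Agent.Spor.M22U
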