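import Cfsg.Agent.Lib.Spor.M22UFrobDefs

/-!
Centralisers of elements of prime order with several fixed members: the fixed members and the elements
fixing all of them.
-/

set_option autoImplicit false
set_option maxRecDepth 100000
set_option linter.unusedSectionVars false
set_option maxHeartbeats 1000000

namespace Cfsg.Agent.Spor.M22U.Frob

open Cfsg.Agent.Spor.CC Cfsg.Agent.Spor.Fi22Cert Cfsg.Agent.Spor.Fi22Cert.U62Act
open Cfsg.Agent.Spor.M22U.Cent

theorem el_app (u v : List ℕ) : el (u ++ v) = el u * el v := by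
  rw [el, el, el, List.map_append, List.prod_append]

theorem el_rev (u : List ℕ) : el u.reverse = (el u)⁻¹ := (prod_rev u).symm

theorem el_pow (m : ℕ) (u : List ℕ) : el (powW m u) = el u ^ m := prod_powW _ _ _

theorem el_one {W : List (List ℕ)} (h1 : fixOK RepU62.rows 9 W (RepU62.levels.map Orb.b) = true)
    (h2 : lettersOK 9 W = true) {w : List ℕ} (hw : w ∈ W) : el w = 1 := by
  haveI := order.1
  refine eq_one_of_fix rep.valid pres.gen rep.hom rep.hom_gen RepU62.chain_ok
    (by rw [order.2.1, RepU62.chain_size]) (fun x hx => lettersOK_spec h2 hw hx) ?_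
  simp only [fixOK, List.all_eq_true, List.mem_singleton, forall_eq] at h1 ⊢
  exact h1 w hw

theorem mem_iff {l : List ℕ} {p : ℕ} : Cfg.mem l p = true ↔ p ∈ l := by
  simp only [Cfg.mem, List.any_eq_true]
  exact ⟨fun ⟨a, ha, h⟩ => Nat.eq_of_beq_eq_true h ▸ ha, fun h => ⟨p, h, Nat.beq_refl _⟩⟩

theorem samAdj_iff {l : List ℕ} {p r : ℕ} : Cfg.samAdj l p r = true ↔ ∀ a ∈ l, adjb a p = adjb a r := by
  simp only [Cfg.samAdj, List.all_eq_true, beq_iff_eq]

/-- what the checks give about the data -/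
structure Ok (C : Cfg) : Prop where
  prime : C.P.Prime
  five : 5 ≤ C.P
  fix : rangeOK C.fixScan 0 3510 = true
  cand : rangeOK C.candScan 0 3510 = true
  extra : rangeOK C.extraScan 0 3510 = true
  gen : rangeOK C.genScan 0 3510 = true
  basic : C.basicOK = true
  trans : C.transOK = true
  small : C.smallOK = true
  pow : el C.x ^ C.P = 1
  conj : el C.nw * el C.x * (el C.nw)⁻¹ = el C.x ^ C.k
  prim : ∀ j, 1 ≤ j → j < C.P → ∃ i < C.P - 1, C.k ^ i % C.P = j
  count : C.cand.length < 3 * C.P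
  three : 3 ≤ C.n
  pairs_ok : ∀ i < C.pairs.length, (C.pairs.getD i (0, 0)).1 < C.n ∧ (C.pairs.getD i (0, 0)).2 < C.n ∧
    (C.pairs.getD i (0, 0)).1 ≠ (C.pairs.getD i (0, 0)).2 ∧
    C.idx (C.pairs.getD i (0, 0)).1 (C.pairs.getD i (0, 0)).2 = i
  idx_ok : ∀ a < C.n, ∀ b < C.n, a ≠ b → C.idx a b < C.pairs.length ∧
    (C.pairs.getD (C.idx a b) (0, 0) = (a, b) ∨ C.pairs.getD (C.idx a b) (0, 0) = (b, a))
  chain_lt : ∀ i ∈ C.chain, i < C.pairs.length
  chain_sep : ∀ i < C.pairs.length, ∀ j < C.pairs.length, (∀ r ∈ C.chain, C.meets r i = C.meets r j) →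
    i ∉ C.chain → j ∉ C.chain → i = j

variable {C : Cfg} (ok : Ok C)

/-- the element -/
noncomputable def xel (C : Cfg) : pres.Grp := el C.x

/-- a fixed member -/
noncomputable def dd (C : Cfg) (i : ℕ) : pres.Grp := (dp (C.pt i) : pres.Grp)

/-- the fixed members -/
noncomputable def Fx (C : Cfg) : Set pres.Grp := {g | ∃ i < C.fx.length, dd C i = g}

/-- the group generated by the fixed members -/
noncomputable def Sg (C : Cfg) : Subgroup pres.Grp := Subgroup.closure (Fx C)

/-- commuting with the element and with all fixed members -/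
def InK (C : Cfg) (g : pres.Grp) : Prop :=
  Commute g (xel C) ∧ ∀ i < C.fx.length, Commute g (dd C i)

include ok in
theorem basics : C.c < 3510 ∧ C.q < 3510 ∧ ev RepU62.rows 9 C.x C.c ≠ C.c ∧ ev RepU62.rows 9 C.x C.q ≠ C.q ∧
    C.base = C.base0 ++ C.extra ∧ (∀ p ∈ C.base, p < 3510) ∧ C.fx.Nodup ∧
    (∀ f ∈ C.fx, adjb f C.q = true ∧ ev RepU62.rows 9 C.nw f = f) ∧ (∀ e ∈ C.extra, e ∉ C.base0) ∧
    C.c ∉ C.fx ∧ (∀ a ∈ C.x, a < 9) ∧ (∀ a ∈ C.nw, a < 9) := by
  have h := ok.basic
  simp only [Cfg.basicOK, Bool.and_eq_true, Bool.not_eq_true', List.all_eq_true, beq_iff_eq,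
    decide_eq_true_eq] at h
  obtain ⟨⟨⟨⟨⟨⟨⟨⟨⟨⟨⟨h1, h2⟩, h3⟩, h4⟩, h5⟩, h6⟩, h7⟩, h8⟩, h9⟩, h10⟩, h11⟩, h12⟩ := h
  refine ⟨Nat.le_of_ble_eq_true h1, Nat.le_of_ble_eq_true h2, Nat.ne_of_beq_eq_false h3,
    Nat.ne_of_beq_eq_false h4, h5, fun p hp => Nat.le_of_ble_eq_true (h6 p hp), h7,
    fun f hf => ⟨(h8 f hf).1, Nat.eq_of_beq_eq_true (h8 f hf).2⟩,
    fun e he hm => by simpa [mem_iff.mpr hm] using h9 e he,
    fun hm => by simpa [mem_iff.mpr hm] using h10,
    fun a ha => Nat.le_of_ble_eq_true (h11 a ha), fun a ha => Nat.le_of_ble_eq_true (h12 a ha)⟩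

include ok in
theorem fx_lt {f : ℕ} (hf : f ∈ C.fx) : f < 3510 :=
  (basics ok).2.2.2.2.2.1 f (by rw [(basics ok).2.2.2.2.1, Cfg.base0]; simp [hf])

include ok in
theorem pt_mem {i : ℕ} (hi : i < C.fx.length) : C.pt i ∈ C.fx := by
  rw [Cfg.pt, List.getD_eq_getElem _ _ hi]; exact List.getElem_mem hi

include ok in
theorem pt_lt {i : ℕ} (hi : i < C.fx.length) : C.pt i < 3510 := fx_lt ok (pt_mem ok hi)

include ok in
theorem pt_inj {i j : ℕ} (hi : i < C.fx.length) (hj : j < C.fx.length) (h : C.pt i = C.pt j) : i = j := by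
  rw [Cfg.pt, Cfg.pt, List.getD_eq_getElem _ _ hi, List.getD_eq_getElem _ _ hj] at h
  exact (basics ok).2.2.2.2.2.2.1.getElem_inj_iff.mp h

include ok in
theorem exists_pt {f : ℕ} (hf : f ∈ C.fx) : ∃ i < C.fx.length, C.pt i = f := by
  obtain ⟨i, hi, e⟩ := List.getElem_of_mem hf
  exact ⟨i, hi, by rw [Cfg.pt, List.getD_eq_getElem _ _ hi, e]⟩

include ok in
theorem fix_iff {p : ℕ} (hp : p < 3510) : act (xel C) p = p ↔ p ∈ C.fx := by
  obtain ⟨-, -, -, -, -, -, -, -, -, -, hx, -⟩ := basics ok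
  have h := scan_all ok.fix p hp
  rw [xel, act_el hx hp]
  simp only [Cfg.fixScan, beq_iff_eq] at h
  rw [← mem_iff, ← h]
  exact ⟨fun e => by rw [e]; exact Nat.beq_refl _, Nat.eq_of_beq_eq_true⟩

theorem commute_dp_iff (g : pres.Grp) {p : ℕ} (hp : p < 3510) : Commute g (dp p : pres.Grp) ↔ act g p = p := by
  have h1 := act_dp pts_ok g hp
  constructor
  · intro h
    rw [h.eq, mul_inv_cancel_right] at h1
    have h2 := congrArg (fun z : Fischer.Dc => (Fischer.theta z : ℕ)) (Subtype.ext h1 : dp (act g p) = dp p)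
    simpa only [theta_dp pts_ok (act_lt _ hp), theta_dp pts_ok hp] using h2
  · intro h
    rw [h] at h1
    exact (eq_mul_inv_iff_mul_eq.mp h1).symm

theorem act_dd (q : ℕ) (hq : q < 3510) {p : ℕ} (hp : p < 3510) :
    act (dp q : pres.Grp) p = ev RepU62.rows 9 (Fischer.tw' (pwP q)) p := by
  rw [act_def _ (show p < rep.P.n from hp), show (dp q : pres.Grp) = (Fischer.mem (pwP q) : pres.Grp) from rfl,
    Fischer.mem_act (pw_lt pts_ok hq)]

include ok in
theorem dd_comm_x {i : ℕ} (hi : i < C.fx.length) : Commute (dd C i) (xel C) :=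
  ((commute_dp_iff _ (pt_lt ok hi)).mpr ((fix_iff ok (pt_lt ok hi)).mpr (pt_mem ok hi))).symm

include ok in
theorem comm_x_iff (d : Fischer.Dc) : Commute (d : pres.Grp) (xel C) ↔ (d : pres.Grp) ∈ Fx C := by
  constructor
  · intro h
    have hp : (Fischer.theta d : ℕ) < 3510 := (Fischer.theta d).2
    rw [dp_surj pts_ok d] at h ⊢
    obtain ⟨i, hi, e⟩ := exists_pt ok ((fix_iff ok hp).mp ((commute_dp_iff _ hp).mp h.symm))
    exact ⟨i, hi, by rw [dd, e]⟩
  · rintro ⟨i, hi, e⟩
    exact e ▸ dd_comm_x ok hi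

include ok in
theorem order_x : orderOf (xel C) = C.P := by
  haveI : Fact C.P.Prime := ⟨ok.prime⟩
  obtain ⟨hc, -, hne, -, -, -, -, -, -, -, hx, -⟩ := basics ok
  refine orderOf_eq_prime ok.pow fun h => hne ?_
  rw [← act_el hx hc, show el C.x = 1 from h, act_one hc]

include ok in
theorem x_inK : InK C (xel C) := ⟨Commute.refl _, fun i hi => (dd_comm_x ok hi).symm⟩

include ok in
theorem inK_mul {g h : pres.Grp} (hg : InK C g) (hh : InK C h) : InK C (g * h) :=
  ⟨hg.1.mul_left hh.1, fun i hi => (hg.2 i hi).mul_left (hh.2 i hi)⟩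

include ok in
theorem inK_inv {g : pres.Grp} (hg : InK C g) : InK C g⁻¹ :=
  ⟨hg.1.inv_left, fun i hi => (hg.2 i hi).inv_left⟩

include ok in
theorem inK_fix {g : pres.Grp} (hg : InK C g) {f : ℕ} (hf : f ∈ C.fx) : act g f = f := by
  obtain ⟨i, hi, rfl⟩ := exists_pt ok hf
  exact (commute_dp_iff _ (pt_lt ok hi)).mp (hg.2 i hi)

include ok in
theorem eq_one_of_fix_base {g : pres.Grp} (hfix : ∀ b ∈ C.base, act g b = b) : g = 1 := by
  obtain ⟨-, -, -, -, -, hlt, -⟩ := basics ok
  have hb : ∀ j, C.base.getD j 3510 < 3510 → act g (C.base.getD j 3510) = C.base.getD j 3510 := by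
    intro j hj
    by_cases h : j < C.base.length
    · rw [List.getD_eq_getElem _ _ h] at hj ⊢
      exact hfix _ (List.getElem_mem h)
    · rw [List.getD_eq_default _ _ (by omega)] at hj; omega
  have hall : ∀ k p, p < 3510 → fld C.posTab 12 p = k → Commute g (dp p : pres.Grp) := by
    intro k
    induction k using Nat.strong_induction_on with
    | _ k ih =>
      intro p hp hk
      have hh := scan_all ok.gen p hp
      simp only [Cfg.genScan, hk, Bool.and_eq_true] at hh
      obtain ⟨-, h2⟩ := hh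
      set e := fld C.tab 28 k
      cases hbb : Nat.beq (e / 65536) 4000
      · rw [hbb, cond_false] at h2
        simp only [Bool.and_eq_true] at h2
        obtain ⟨⟨⟨⟨h3, h4⟩, h5⟩, h6⟩, h7⟩ := h2
        set q := fld C.tab 28 (e / 65536) % 4096
        set b := C.base.getD (e / 4096 % 16) 3510
        have hq : q < 3510 := Nat.le_of_ble_eq_true h4
        have hb' : b < 3510 := Nat.le_of_ble_eq_true h5
        have e1 : act (dp b : pres.Grp) q = p := by rw [act_dd b hb' hq]; exact Nat.eq_of_beq_eq_true h7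
        have cb : Commute g (dp b : pres.Grp) := (commute_dp_iff _ hb').mpr (hb _ hb')
        rw [← e1, act_dp pts_ok _ hq]
        exact (cb.mul_right (ih _ (Nat.le_of_ble_eq_true h3) q hq (Nat.eq_of_beq_eq_true h6))).mul_right
          cb.inv_right
      · rw [hbb, cond_true] at h2
        have e1 := Nat.eq_of_beq_eq_true h2
        rw [← e1] at hp ⊢
        exact (commute_dp_iff _ hp).mpr (hb _ hp)
  have hmem : g ∈ Subgroup.center pres.Grp := by
    rw [Subgroup.mem_center_iff]
    intro h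
    have hle : Subgroup.closure Fischer.Dc ≤ Subgroup.centralizer ({g} : Set pres.Grp) := by
      rw [Subgroup.closure_le]
      intro d hd
      rw [SetLike.mem_coe, Subgroup.mem_centralizer_singleton_iff]
      have := hall _ _ (by exact (Fischer.theta ⟨d, hd⟩).2) rfl
      rw [← dp_surj pts_ok ⟨d, hd⟩] at this
      exact this.eq.symm
    have h' := hle (by rw [Fischer.three.2.2]; trivial : h ∈ Subgroup.closure Fischer.Dc)
    exact Subgroup.mem_centralizer_singleton_iff.mp h'
  exact Fischer.center_bot.le hmem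

include ok in
theorem fix_c {g : pres.Grp} (hg : InK C g) (hc : act g C.c = C.c) : g = 1 := by
  obtain ⟨hclt, -, -, -, hbase, hlt, -, -, hex, -, hx, -⟩ := basics ok
  have h0 : ∀ b ∈ C.base0, act g b = b := by
    intro b hb
    rw [Cfg.base0, List.mem_append, List.mem_map] at hb
    rcases hb with hb | ⟨j, -, rfl⟩
    · exact inK_fix ok hg hb
    · rw [act_comm hx hg.1 hclt, hc]
  refine eq_one_of_fix_base ok fun b hb => ?_
  rw [hbase, List.mem_append] at hb
  rcases hb with hb | hb
  · exact h0 b hb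
  have hblt : b < 3510 := hlt b (by rw [hbase]; exact List.mem_append_right _ hb)
  have h1 := scan_all ok.extra _ (act_lt g hblt)
  simp only [Cfg.extraScan, List.all_eq_true] at h1
  have h2 := h1 b hb
  have n1 : Cfg.mem C.base0 (act g b) = false := by
    rw [Bool.eq_false_iff]
    intro hm
    have hm' := mem_iff.mp hm
    have := h0 _ hm'
    apply hex b hb
    have e : act g⁻¹ (act g (act g b)) = act g⁻¹ (act g b) := by rw [this]
    rw [← act_mul _ _ (act_lt g hblt), inv_mul_cancel, act_one (act_lt g hblt), ← act_mul _ _ hblt, inv_mul_cancel,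
      act_one hblt] at e
    rwa [e] at hm'
  have n2 : Cfg.samAdj C.base0 (act g b) b = true := by
    rw [samAdj_iff]
    intro a ha
    have halt : a < 3510 := hlt a (by rw [hbase]; exact List.mem_append_left _ ha)
    conv_lhs => rw [← h0 a ha]
    exact adjb_act pts_ok g halt hblt
  rw [n1, n2, samePat_act pts_ok hx hg.1 hblt] at h2
  simp only [Bool.not_true, Bool.or_false, Bool.false_or] at h2
  exact Nat.eq_of_beq_eq_true h2

include ok in
theorem inK_zpowers (hinv : ∀ z, InK C z → z * z = 1 → z = 1) {g : pres.Grp} (hg : InK C g) :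
    g ∈ Subgroup.zpowers (xel C) := by
  haveI := order.1
  haveI : Fact C.P.Prime := ⟨ok.prime⟩
  obtain ⟨hclt, -, -, -, hbase, -, -, -, -, hcfx, hx, -⟩ := basics ok
  let K : Subgroup pres.Grp :=
    { carrier := {g | InK C g}
      mul_mem' := fun a b => inK_mul ok a b
      one_mem' := ⟨Commute.one_left _, fun i _ => Commute.one_left _⟩
      inv_mem' := fun a => inK_inv ok a }
  have hle : Subgroup.zpowers (xel C) ≤ K := Subgroup.zpowers_le.mpr (x_inK ok)
  have hmem : ∀ g : K, act (g : pres.Grp) C.c ∈ C.cand := by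
    rintro ⟨g, hg⟩
    have h1 := scan_all ok.cand _ (act_lt g hclt)
    have n1 : Cfg.mem C.fx (act g C.c) = false := by
      rw [Bool.eq_false_iff]
      intro hm
      have hm' := mem_iff.mp hm
      apply hcfx
      have e := inK_fix ok (inK_inv ok hg) hm'
      rw [← act_mul _ _ hclt, inv_mul_cancel, act_one hclt] at e
      rwa [← e] at hm'
    have n2 : Cfg.samAdj C.fx (act g C.c) C.c = true := by
      rw [samAdj_iff]
      intro a ha
      conv_lhs => rw [← inK_fix ok hg ha]
      exact adjb_act pts_ok g (fx_lt ok ha) hclt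
    rw [Cfg.candScan, n1, n2, samePat_act pts_ok hx (hg : InK C g).1 hclt] at h1
    simp only [Bool.not_true, Bool.or_false, Bool.false_or] at h1
    exact mem_iff.mp h1
  let f : K → {p // p ∈ C.cand.toFinset} := fun g =>
    ⟨act (g : pres.Grp) C.c, List.mem_toFinset.mpr (hmem g)⟩
  have hf : Function.Injective f := by
    rintro ⟨g, hg⟩ ⟨h, hh⟩ e
    have e' : act g C.c = act h C.c := congrArg Subtype.val e
    have h1 : act (h⁻¹ * g) C.c = C.c := by
      rw [act_mul _ _ hclt, e', ← act_mul _ _ hclt, inv_mul_cancel, act_one hclt]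
    exact Subtype.ext (inv_mul_eq_one.mp (fix_c ok (inK_mul ok (inK_inv ok hh) hg) h1)).symm
  have hcard : Nat.card K < 3 * C.P := by
    refine lt_of_le_of_lt ((Nat.card_le_card_of_injective f hf).trans ?_) ok.count
    rw [Nat.card_eq_fintype_card, Fintype.card_coe]
    exact List.toFinset_card_le _
  have hP : C.P ∣ Nat.card K := by
    rw [← order_x ok, ← Nat.card_zpowers]; exact Subgroup.card_dvd_of_le hle
  have hodd : ¬ 2 ∣ Nat.card K := by
    intro h
    haveI : Fact (Nat.Prime 2) := ⟨Nat.prime_two⟩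
    obtain ⟨z, hz⟩ := exists_prime_orderOf_dvd_card' 2 h
    have h1 : (z : pres.Grp) * z = 1 := by
      rw [← sq, ← hz, ← Subgroup.coe_pow, pow_orderOf_eq_one]; rfl
    have h2 : z = 1 := Subtype.ext (hinv z z.2 h1)
    rw [h2, orderOf_one] at hz; omega
  have hK : Nat.card K = C.P := by
    obtain ⟨t, ht⟩ := hP
    have : t < 3 := by
      by_contra h
      have : C.P * 3 ≤ C.P * t := Nat.mul_le_mul_left _ (by omega)
      omega
    interval_cases t
    · exact absurd ht (by simpa using Nat.card_pos.ne')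
    · omega
    · exact absurd ⟨C.P, by omega⟩ hodd
  have heq := Subgroup.eq_of_le_of_card_ge hle (by rw [Nat.card_zpowers, order_x ok, hK])
  rw [heq]; exact hg

end Cfsg.Agent.Spor.M22U.Frob
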