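import Cfsg.Agent.Lib.Spor.M22UFrobData

/-!
Checks for the centralisers of elements of order seven and five in Fi22.
-/

set_option autoImplicit false
set_option maxRecDepth 100000
set_option maxHeartbeats 4000000
set_option Elab.async false

namespace Cfsg.Agent.Spor.M22U.Frob

open Cfsg.Agent.Spor.CC Cfsg.Agent.Spor.Fi22Cert Cfsg.Agent.Spor.Fi22Cert.U62Act

theorem fix7 : rangeOK cfg7.fixScan 0 3510 = true := by decide +kernel
theorem cand7 : rangeOK cfg7.candScan 0 3510 = true := by decide +kernel
theorem extra7 : rangeOK cfg7.extraScan 0 3510 = true := by decide +kernel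
theorem gen7 : rangeOK cfg7.genScan 0 3510 = true := by decide +kernel
theorem fix5 : rangeOK cfg5.fixScan 0 3510 = true := by decide +kernel
theorem cand5 : rangeOK cfg5.candScan 0 3510 = true := by decide +kernel
theorem gen5 : rangeOK cfg5.genScan 0 3510 = true := by decide +kernel
theorem basic7 : cfg7.basicOK = true := by decide +kernel
theorem basic5 : cfg5.basicOK = true := by decide +kernel
theorem trans7 : cfg7.transOK = true := by decide +kernel
theorem trans5 : cfg5.transOK = true := by decide +kernel
theorem small7 : cfg7.smallOK = true := by decide +kernel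
theorem small5 : cfg5.smallOK = true := by decide +kernel

/-- the member word of the product along the chain -/
noncomputable def yW : List ℕ := cfg5.chain.flatMap fun i => Fischer.tw' (Cent.pwP (cfg5.pt i))

/-- the identities between words -/
noncomputable def relW : List (List ℕ) :=
  [powW 7 cfg7.x, powW 5 cfg5.x,
   cfg7.nw ++ cfg7.x ++ cfg7.nw.reverse ++ (powW cfg7.k cfg7.x).reverse,
   cfg5.nw ++ cfg5.x ++ cfg5.nw.reverse ++ (powW cfg5.k cfg5.x).reverse,
   h1W ++ cfg5.x ++ h1W.reverse ++ yW.reverse,
   h2W ++ cfg5.x ++ h2W.reverse ++ (cfg5.x ++ yW).reverse]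

theorem rels : fixOK RepU62.rows 9 relW (RepU62.levels.map Orb.b) = true ∧ lettersOK 9 relW = true ∧
    lettersOK 9 [h1W, h2W, yW] = true := by decide +kernel

end Cfsg.Agent.Spor.M22U.Frob
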