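import Cfsg.Agent.Lib.Spor.M22UFrobInst

/-!
The normalisers of the subgroups of order seven and five of a group of type M(22).
-/

set_option autoImplicit false
set_option maxRecDepth 100000
set_option linter.unusedSectionVars false
set_option maxHeartbeats 1000000

namespace Cfsg.Agent.Spor.M22U.Frob

open Cfsg.Agent.Spor.CC Cfsg.Agent.Spor.Fi22Cert Cfsg.Agent.Spor.Fi22Cert.U62Act
open Cfsg.Agent.Spor.M22U.Cent
open scoped Pointwise

universe u
variable {G : Type u} [Group G] [Finite G] {D : Set G}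

theorem cfg_facts : cfg7.P = 7 ∧ cfg7.n = 3 ∧ cfg5.P = 5 ∧ cfg5.n = 5 ∧
    (∀ i ∈ cfg5.chain, i < cfg5.fx.length) ∧ (cfg7.P - 1) * cfg7.P = 42 ∧ (cfg5.P - 1) * cfg5.P = 20 ∧
    (∀ a < 5, ∀ b < 5, b ≠ 0 → a ≠ 0 → ∃ i < 4, b * cfg5.k ^ i % 5 = a) := by decide +kernel

/-- the product along the chain -/
noncomputable def yel : pres.Grp := el yW

theorem el_mem {l : List ℕ} (hl : ∀ i ∈ l, i < cfg5.fx.length) :
    el (l.flatMap fun i => Fischer.tw' (pwP (cfg5.pt i))) ∈ Sg cfg5 := by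
  induction l with
  | nil => simp [el]
  | cons a r ih =>
    rw [List.flatMap_cons, el_app]
    refine mul_mem (Subgroup.subset_closure ⟨a, hl a (by simp), ?_⟩) (ih fun i hi => hl i (by simp [hi]))
    show (dp _ : pres.Grp) = _
    rw [show (dp (cfg5.pt a) : pres.Grp) = (Fischer.mem (pwP (cfg5.pt a)) : pres.Grp) from rfl]
    show _ * tA * _ = _
    rw [prod_rev, el, Fischer.tw', List.map_append, List.prod_append, List.map_cons, List.prod_cons, mul_assoc]

theorem yel_mem : yel ∈ Sg cfg5 := el_mem cfg_facts.2.2.2.2.1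

theorem h1_conj : el h1W * xel cfg5 * (el h1W)⁻¹ = yel := by
  have e := el_one rels.1 rels.2.1 (w := h1W ++ cfg5.x ++ h1W.reverse ++ yW.reverse) (by simp [relW])
  rw [el_app, el_app, el_app, el_rev, el_rev, mul_inv_eq_one] at e
  exact e

theorem h2_conj : el h2W * xel cfg5 * (el h2W)⁻¹ = xel cfg5 * yel := by
  have e := el_one rels.1 rels.2.1 (w := h2W ++ cfg5.x ++ h2W.reverse ++ (cfg5.x ++ yW).reverse) (by simp [relW])
  rw [el_app, el_app, el_app, el_rev, el_rev, el_app, mul_inv_eq_one] at e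
  exact e

theorem nw_comm_y : Commute (el cfg5.nw) yel := by
  obtain ⟨-, -, -, -, -, -, -, hnf, -, -, -, hnw⟩ := basics ok5
  have h1 : Fx cfg5 ⊆ (Subgroup.centralizer ({el cfg5.nw} : Set pres.Grp) : Set pres.Grp) := by
    rintro _ ⟨i, hi, rfl⟩
    rw [SetLike.mem_coe, Subgroup.mem_centralizer_singleton_iff]
    exact (((commute_dp_iff _ (pt_lt ok5 hi)).mpr (by
      rw [act_el hnw (pt_lt ok5 hi)]; exact (hnf _ (pt_mem ok5 hi)).2))).eq.symm
  exact (Subgroup.mem_centralizer_singleton_iff.mp ((Subgroup.closure_le _).mpr h1 yel_mem)).symm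

theorem conj_five (hD : Cfsg.IsThreeTranspositionGroup D) (hprim : Cfsg.IsPrimitiveUnderConj D)
    (ht : Cfsg.IsOfTypeM22 G D) {X : Subgroup pres.Grp} (hX : Nat.card X = 5) :
    ∃ g : pres.Grp, (Subgroup.zpowers (xel cfg5)).map (MulAut.conj g).toMonoidHom = X := by
  haveI := order.1
  haveI : Fact (Nat.Prime 5) := ⟨by norm_num⟩
  have hx : orderOf (xel cfg5) = 5 := (order_x ok5).trans cfg_facts.2.2.1
  have hy : orderOf yel = 5 := by
    rw [← h1_conj, ← MulAut.conj_apply, MulEquiv.orderOf_eq, hx]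
  have hxy : Commute (xel cfg5) yel := (sg_comm_x ok5 swap5 yel_mem).symm
  have hyx : ∀ (a : ℕ), xel cfg5 ^ a ∈ Sg cfg5 → xel cfg5 ^ a = 1 := fun a ha =>
    sg_inK ok5 (no_invol ok5 hD hprim ht) swap5 ha
      ⟨(Commute.refl _).pow_left a, fun i hi => ((x_inK ok5).2 i hi).pow_left a⟩
  -- a subgroup of order twenty-five
  set E : Subgroup pres.Grp := Subgroup.zpowers (xel cfg5) ⊔ Subgroup.zpowers yel
  let f : Fin 5 × Fin 5 → E := fun p => ⟨xel cfg5 ^ (p.1 : ℕ) * yel ^ (p.2 : ℕ),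
    mul_mem (Subgroup.mem_sup_left (Subgroup.npow_mem_zpowers _ _))
      (Subgroup.mem_sup_right (Subgroup.npow_mem_zpowers _ _))⟩
  have hsurj : Function.Surjective f := by
    rintro ⟨g, hg⟩
    have hle : E ≤ (Subgroup.closure {xel cfg5, yel}) :=
      sup_le (Subgroup.zpowers_le.mpr (Subgroup.subset_closure (by simp)))
        (Subgroup.zpowers_le.mpr (Subgroup.subset_closure (by simp)))
    have hg' := hle hg
    have : ∃ a b : ℕ, xel cfg5 ^ a * yel ^ b = g := by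
      rw [← Subgroup.mem_toSubmonoid, Subgroup.closure_toSubmonoid_of_finite] at hg'
      clear hg hle
      induction hg' using Submonoid.closure_induction with
      | mem z hz =>
        rcases hz with rfl | rfl
        · exact ⟨1, 0, by simp⟩
        · exact ⟨0, 1, by simp⟩
      | one => exact ⟨0, 0, by simp⟩
      | mul u v _ _ hu hv =>
        obtain ⟨a, b, rfl⟩ := hu
        obtain ⟨c, d, rfl⟩ := hv
        refine ⟨a + c, b + d, ?_⟩
        rw [pow_add, pow_add, mul_assoc, mul_assoc, ← mul_assoc (xel cfg5 ^ c), (hxy.pow_pow c b).eq, mul_assoc]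
    obtain ⟨a, b, rfl⟩ := this
    refine ⟨(⟨a % 5, Nat.mod_lt _ (by norm_num)⟩, ⟨b % 5, Nat.mod_lt _ (by norm_num)⟩), Subtype.ext ?_⟩
    show xel cfg5 ^ (a % 5) * yel ^ (b % 5) = _
    conv_lhs => rw [show a % 5 = a % orderOf (xel cfg5) by rw [hx], show b % 5 = b % orderOf yel by rw [hy],
      pow_mod_orderOf, pow_mod_orderOf]
  have hinj : Function.Injective f := by
    rintro ⟨a, b⟩ ⟨c, d⟩ h
    have h' : xel cfg5 ^ (a : ℕ) * yel ^ (b : ℕ) = xel cfg5 ^ (c : ℕ) * yel ^ (d : ℕ) := congrArg Subtype.val h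
    have e1 : xel cfg5 ^ ((a : ℕ) + (5 - c)) = yel ^ ((d : ℕ) + (5 - b)) := by
      have h5 : xel cfg5 ^ 5 = 1 := by rw [← hx]; exact pow_orderOf_eq_one _
      have h6 : yel ^ 5 = 1 := by rw [← hy]; exact pow_orderOf_eq_one _
      calc xel cfg5 ^ ((a : ℕ) + (5 - c))
          = xel cfg5 ^ (5 - (c : ℕ)) * (xel cfg5 ^ (a : ℕ) * yel ^ (b : ℕ)) * yel ^ (5 - (b : ℕ)) := by
            rw [mul_assoc, mul_assoc, ← pow_add yel, show (b : ℕ) + (5 - b) = 5 by omega, h6, mul_one, ← pow_add,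
              add_comm]
        _ = yel ^ ((d : ℕ) + (5 - b)) := by
            rw [h', ← mul_assoc (xel cfg5 ^ (5 - (c : ℕ))), ← pow_add, show 5 - (c : ℕ) + c = 5 by omega, h5,
              one_mul, ← pow_add]
    have e2 := hyx _ (e1 ▸ pow_mem yel_mem _)
    have ha : a = c := by
      have := orderOf_dvd_of_pow_eq_one e2
      rw [hx] at this
      apply Fin.ext; omega
    have hb : b = d := by
      rw [e2] at e1
      have := orderOf_dvd_of_pow_eq_one e1.symm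
      rw [hy] at this
      apply Fin.ext; omega
    rw [ha, hb]
  have hE : Nat.card E = 25 := by
    rw [← Nat.card_congr (Equiv.ofBijective f ⟨hinj, hsurj⟩), Nat.card_prod, Nat.card_fin]
  let S : Sylow 5 pres.Grp := Sylow.ofCard E (by
    rw [hE, order.2.1, Nat.factorization_def _ (by norm_num : Nat.Prime 5)]
    have : padicValNat 5 64561751654400 = 2 := by
      rw [show (64561751654400 : ℕ) = 5 ^ 2 * 2582470066176 by norm_num, padicValNat.mul (by norm_num) (by norm_num),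
        padicValNat.prime_pow, padicValNat.eq_zero_of_not_dvd (by norm_num)]
    rw [this]; norm_num)
  obtain ⟨Q, hQ⟩ := (IsPGroup.of_card (p := 5) (G := ↥X) (n := 1) (by rw [hX]; norm_num)).exists_le_sylow
  obtain ⟨g, hg⟩ := MulAction.exists_smul_eq pres.Grp Q S
  obtain ⟨⟨z, hz⟩, hzX⟩ := exists_prime_orderOf_dvd_card' (G := X) 5 (by rw [hX])
  have hzo : orderOf z = 5 := by rw [← hzX, ← Subgroup.orderOf_coe]
  have hXz : X = Subgroup.zpowers z := by
    refine (Subgroup.eq_of_le_of_card_ge (Subgroup.zpowers_le.mpr hz) ?_).symm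
    rw [Nat.card_zpowers, hzo, hX]
  have hgz : g * z * g⁻¹ ∈ E := by
    have h1 : MulAut.conj g z ∈ (MulAut.conj g • (Q : Subgroup pres.Grp) : Subgroup pres.Grp) :=
      ⟨z, hQ hz, rfl⟩
    rw [← Sylow.coe_subgroup_smul] at h1
    rw [hg] at h1
    exact h1
  obtain ⟨⟨⟨a, ha⟩, ⟨b, hb⟩⟩, hab⟩ := hsurj ⟨_, hgz⟩
  have hab' : xel cfg5 ^ a * yel ^ b = g * z * g⁻¹ := congrArg Subtype.val hab
  have key : ∃ (h : pres.Grp) (m : ℕ), h * xel cfg5 ^ m * h⁻¹ = xel cfg5 ^ a * yel ^ b := by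
    by_cases hb0 : b = 0
    · exact ⟨1, a, by simp [hb0]⟩
    by_cases ha0 : a = 0
    · exact ⟨el h1W, b, by rw [ha0, pow_zero, one_mul, ← conj_pow, h1_conj]⟩
    obtain ⟨i, -, hi⟩ := cfg_facts.2.2.2.2.2.2.2 a ha b hb hb0 ha0
    refine ⟨el cfg5.nw ^ i * el h2W, b, ?_⟩
    have e2 : el cfg5.nw ^ i * (xel cfg5 * yel) ^ b * (el cfg5.nw ^ i)⁻¹ = xel cfg5 ^ a * yel ^ b := by
      rw [hxy.mul_pow]
      calc el cfg5.nw ^ i * (xel cfg5 ^ b * yel ^ b) * (el cfg5.nw ^ i)⁻¹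
          = el cfg5.nw ^ i * xel cfg5 ^ b * (el cfg5.nw ^ i)⁻¹ *
              (el cfg5.nw ^ i * yel ^ b * (el cfg5.nw ^ i)⁻¹) := by group
        _ = (xel cfg5 ^ (cfg5.k ^ i)) ^ b * yel ^ b := by
            rw [← conj_pow (i := b) (a := el cfg5.nw ^ i) (b := xel cfg5), nw_conj_pow ok5,
              (nw_comm_y.pow_pow i b).eq, mul_inv_cancel_right]
        _ = xel cfg5 ^ a * yel ^ b := by
            rw [← pow_mul, ← pow_mod_orderOf (xel cfg5) (cfg5.k ^ i * b), hx, mul_comm (cfg5.k ^ i), hi]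
    rw [← e2, ← h2_conj, conj_pow]
    group
  obtain ⟨h, m, hm⟩ := key
  refine ⟨g⁻¹ * h, ?_⟩
  rw [hXz]
  refine (Subgroup.eq_of_le_of_card_ge ?_ ?_).symm
  · rw [Subgroup.zpowers_le]
    refine ⟨xel cfg5 ^ m, Subgroup.npow_mem_zpowers _ _, ?_⟩
    show g⁻¹ * h * xel cfg5 ^ m * (g⁻¹ * h)⁻¹ = z
    calc g⁻¹ * h * xel cfg5 ^ m * (g⁻¹ * h)⁻¹ = g⁻¹ * (h * xel cfg5 ^ m * h⁻¹) * g := by group
      _ = g⁻¹ * (g * z * g⁻¹) * g := by rw [hm, hab']
      _ = z := by group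
  · rw [← Nat.card_congr (Subgroup.equivMapOfInjective _ (MulAut.conj (g⁻¹ * h)).toMonoidHom
      (MulAut.conj (g⁻¹ * h)).injective).toEquiv, Nat.card_zpowers, Nat.card_zpowers, hx, hzo]

theorem iso_five (hD : Cfsg.IsThreeTranspositionGroup D) (hprim : Cfsg.IsPrimitiveUnderConj D)
    (ht : Cfsg.IsOfTypeM22 G D) {X : Subgroup G} (hX : Nat.card X = 5) :
    ∃ e : pres.Grp ≃* G, e '' Fischer.Dc = D ∧ (Subgroup.zpowers (xel cfg5)).map e.toMonoidHom = X := by
  obtain ⟨e, he⟩ := Norm.iso_fi22 hD hprim ht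
  obtain ⟨g, hg⟩ := conj_five hD hprim ht (X := X.map e.symm.toMonoidHom) (by
    rw [← Nat.card_congr (Subgroup.equivMapOfInjective _ _ e.symm.injective).toEquiv, hX])
  refine ⟨(MulAut.conj g).trans e, ?_, ?_⟩
  · ext y
    constructor
    · rintro ⟨u, hu, rfl⟩
      rw [← he]; exact ⟨_, Fischer.three.2.1 g u hu, rfl⟩
    · intro hy
      rw [← he] at hy
      obtain ⟨u, hu, rfl⟩ := hy
      refine ⟨g⁻¹ * u * g, ?_, ?_⟩
      · have := Fischer.three.2.1 g⁻¹ u hu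
        rwa [inv_inv] at this
      · show e (g * (g⁻¹ * u * g) * g⁻¹) = e u
        congr 1; group
  · have h1 := congrArg (Subgroup.map e.toMonoidHom) hg
    rw [Subgroup.map_map, Subgroup.map_map] at h1
    refine Eq.trans h1 ?_
    ext y; simp

end Cfsg.Agent.Spor.M22U.Frob
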