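import Cfsg.Agent.Lib.Spor.M22UCent

/-!
Centralisers of elements of prime order with several fixed members: data format and checks.
-/

set_option autoImplicit false
set_option maxRecDepth 100000
set_option linter.unusedSectionVars false

namespace Cfsg.Agent.Spor.M22U.Frob

open Cfsg.Agent.Spor.CC Cfsg.Agent.Spor.Fi22Cert Cfsg.Agent.Spor.Fi22Cert.U62Act
open Cfsg.Agent.Spor.M22U.Cent

/-- the data of an element -/
structure Cfg where
  /-- its order -/
  P : ℕ
  /-- the degree of the symmetric group on the fixed members -/
  n : ℕ
  /-- the exponent of the normalising element -/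
  k : ℕ
  /-- its word -/
  x : List ℕ
  /-- the normalising word -/
  nw : List ℕ
  /-- a moved point -/
  c : ℕ
  /-- a point commuting with all fixed members -/
  q : ℕ
  /-- the fixed points, numbered like the pairs -/
  fx : List ℕ
  /-- the points resembling the moved one -/
  cand : List ℕ
  /-- fixed points, an orbit and further points -/
  base : List ℕ
  /-- further points -/
  extra : List ℕ
  /-- the pairs -/
  pairs : List (ℕ × ℕ)
  /-- the pairs of neighbours -/
  chain : List ℕ
  /-- generation table -/
  tab : ℕ
  /-- positions -/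
  posTab : ℕ

namespace Cfg
variable (C : Cfg)

/-- membership in a list -/
noncomputable def mem (l : List ℕ) (p : ℕ) : Bool := l.any fun a => Nat.beq a p

/-- two points with the same relation to the points of a list -/
noncomputable def samAdj (l : List ℕ) (p r : ℕ) : Bool := l.all fun a => adjb a p == adjb a r

/-- the points fixed by the element -/
noncomputable def fixScan (p : ℕ) : Bool := Nat.beq (ev RepU62.rows 9 C.x p) p == mem C.fx p

/-- the fixed points and the orbit -/
noncomputable def base0 : List ℕ := C.fx ++ (List.range C.P).map fun j => xp C.x j C.c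

/-- the points resembling the moved one -/
noncomputable def candScan (p : ℕ) : Bool :=
  mem C.fx p || !(samAdj C.fx p C.c) || !(samePat C.x C.c (C.P - 1) p) || mem C.cand p

/-- uniqueness of the further points -/
noncomputable def extraScan (p : ℕ) : Bool :=
  C.extra.all fun e => mem C.base0 p || !(samAdj C.base0 p e) || !(samePat C.x e (C.P - 1) p) || Nat.beq p e

/-- entry of the generation table -/
noncomputable def genScan (p : ℕ) : Bool :=
  let k := fld C.posTab 12 p
  let e := fld C.tab 28 k
  Nat.beq (e % 4096) p &&
    (bif Nat.beq (e / 65536) 4000 then Nat.beq (C.base.getD (e / 4096 % 16) 3510) p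
     else Nat.blt (e / 65536) k && Nat.blt (fld C.tab 28 (e / 65536) % 4096) 3510 &&
       Nat.blt (C.base.getD (e / 4096 % 16) 3510) 3510 &&
       Nat.beq (fld C.posTab 12 (fld C.tab 28 (e / 65536) % 4096)) (e / 65536) &&
       Nat.beq (ev RepU62.rows 9 (Fischer.tw' (pwP (C.base.getD (e / 4096 % 16) 3510)))
         (fld C.tab 28 (e / 65536) % 4096)) p)

/-- number of a pair -/
def idx (a b : ℕ) : ℕ := C.pairs.findIdx fun e => (Nat.beq e.1 a && Nat.beq e.2 b) || (Nat.beq e.1 b && Nat.beq e.2 a)

/-- two pairs sharing exactly one point -/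
def meets (i j : ℕ) : Bool :=
  let a := C.pairs.getD i (0, 0)
  let b := C.pairs.getD j (0, 0)
  !(Nat.beq i j) && (Nat.beq a.1 b.1 || Nat.beq a.1 b.2 || Nat.beq a.2 b.1 || Nat.beq a.2 b.2)

/-- exchange of the two points of a pair -/
def swp (i a : ℕ) : ℕ :=
  let e := C.pairs.getD i (0, 0)
  bif Nat.beq a e.1 then e.2 else bif Nat.beq a e.2 then e.1 else a

/-- image of a pair under the exchange along another -/
def swpIdx (i j : ℕ) : ℕ := C.idx (C.swp i (C.pairs.getD j (0, 0)).1) (C.swp i (C.pairs.getD j (0, 0)).2)

/-- the fixed member of a pair -/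
def pt (i : ℕ) : ℕ := C.fx.getD i 3510

/-- the elementary facts about the data -/
noncomputable def basicOK : Bool :=
  Nat.blt C.c 3510 && Nat.blt C.q 3510 && !(Nat.beq (ev RepU62.rows 9 C.x C.c) C.c) &&
    !(Nat.beq (ev RepU62.rows 9 C.x C.q) C.q) &&
    (C.base == C.base0 ++ C.extra) && C.base.all (fun p => Nat.blt p 3510) && C.fx.Nodup &&
    C.fx.all (fun f => adjb f C.q && Nat.beq (ev RepU62.rows 9 C.nw f) f) &&
    C.extra.all (fun e => !(mem C.base0 e)) && !(mem C.fx C.c) && C.x.all (fun a => Nat.blt a 9) &&
    C.nw.all (fun a => Nat.blt a 9)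

/-- the fixed members behave like transpositions -/
noncomputable def transOK : Bool :=
  Nat.beq C.fx.length C.pairs.length &&
    (List.range C.fx.length).all (fun i => (List.range C.fx.length).all fun j =>
      (adjb (C.pt i) (C.pt j) == !(C.meets i j)) &&
      Nat.beq (ev RepU62.rows 9 (Fischer.tw' (pwP (C.pt i))) (C.pt j)) (C.pt (C.swpIdx i j)))

/-- no small product of commuting fixed members is central -/
noncomputable def smallOK : Bool :=
  (List.range C.fx.length).all fun i =>
    (List.range C.fx.length).any (fun f =>
      !(Nat.beq (ev RepU62.rows 9 (Fischer.tw' (pwP (C.pt i))) (C.pt f)) (C.pt f))) &&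
    (List.range C.fx.length).all fun j => Nat.beq i j || C.meets i j ||
      (((List.range C.fx.length).any fun f =>
        !(Nat.beq (ev RepU62.rows 9 (Fischer.tw' (pwP (C.pt i)) ++ Fischer.tw' (pwP (C.pt j))) (C.pt f)) (C.pt f))) &&
        (List.range C.fx.length).all fun l => Nat.beq i l || Nat.beq j l || C.meets i l || C.meets j l)

end Cfg

end Cfsg.Agent.Spor.M22U.Frob
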