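import Cfsg.Agent.Lib.Spor.M22UFrobBasic

/-!
Centralisers of elements of prime order with several fixed members: the symmetric group on the fixed
members, and the normaliser.
-/

set_option autoImplicit false
set_option maxRecDepth 100000
set_option linter.unusedSectionVars false
set_option maxHeartbeats 1000000

namespace Cfsg.Agent.Spor.M22U.Frob

open Cfsg.Agent.Spor.CC Cfsg.Agent.Spor.Fi22Cert Cfsg.Agent.Spor.Fi22Cert.U62Act
open Cfsg.Agent.Spor.M22U.Cent

/-- the further facts: tuples of pairs shaped like the chain come from permutations -/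
def ChainOK (C : Cfg) : Prop :=
  ∀ t : ℕ → ℕ, (∀ i ∈ C.chain, t i < C.pairs.length) →
    (∀ i ∈ C.chain, ∀ j ∈ C.chain, C.meets (t i) (t j) = C.meets i j ∧ (t i = t j → i = j)) →
    ∃ σ : Equiv.Perm (Fin C.n), ∀ i ∈ C.chain, ∀ a b : Fin C.n,
      C.pairs.getD i (0, 0) = ((a : ℕ), (b : ℕ)) → C.idx (σ a) (σ b) = t i

/-- the exchanges are transpositions -/
def SwapOK (C : Cfg) : Prop :=
  (∀ i < C.pairs.length, ∀ a : Fin C.n, ∀ x y : Fin C.n, C.pairs.getD i (0, 0) = ((x : ℕ), (y : ℕ)) →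
    C.swp i a = (Equiv.swap x y a : ℕ)) ∧
  ∀ a < C.n, ∀ b < C.n, C.idx a b = C.idx b a

variable {C : Cfg} (ok : Ok C)
variable (hinv : ∀ z, InK C z → z * z = 1 → z = 1)

include ok in
theorem len_eq : C.fx.length = C.pairs.length := by
  have := ok.trans
  simp only [Cfg.transOK, Bool.and_eq_true] at this
  exact Nat.eq_of_beq_eq_true this.1

include ok in
theorem toFx {j : ℕ} (h : j < C.pairs.length) : j < C.fx.length := by rw [len_eq ok]; exact h

include ok in
theorem toP {j : ℕ} (h : j < C.fx.length) : j < C.pairs.length := by rw [← len_eq ok]; exact h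

include ok in
theorem meets_iff {i j : ℕ} (hi : i < C.fx.length) (hj : j < C.fx.length) :
    adjb (C.pt i) (C.pt j) = !(C.meets i j) := by
  have := ok.trans
  simp only [Cfg.transOK, Bool.and_eq_true, List.all_eq_true, List.mem_range, beq_iff_eq] at this
  exact (this.2 i hi j hj).1

include ok in
theorem act_dd_pt {i j : ℕ} (hi : i < C.fx.length) (hj : j < C.fx.length) :
    act (dd C i) (C.pt j) = C.pt (C.swpIdx i j) := by
  have := ok.trans
  simp only [Cfg.transOK, Bool.and_eq_true, List.all_eq_true, List.mem_range, beq_iff_eq] at this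
  rw [dd, act_dd _ (pt_lt ok hi) (pt_lt ok hj)]
  exact Nat.eq_of_beq_eq_true (this.2 i hi j hj).2

/-- the pair of an index -/
noncomputable def pa (C : Cfg) (ok : Ok C) (j : Fin C.pairs.length) : Fin C.n × Fin C.n :=
  (⟨(C.pairs.getD j (0, 0)).1, (ok.pairs_ok j j.2).1⟩, ⟨(C.pairs.getD j (0, 0)).2, (ok.pairs_ok j j.2).2.1⟩)

/-- image of a pair under a permutation -/
noncomputable def img (C : Cfg) (ok : Ok C) (σ : Equiv.Perm (Fin C.n)) (j : Fin C.pairs.length) : ℕ :=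
  C.idx (σ (pa C ok j).1) (σ (pa C ok j).2)

include ok in
theorem pa_ne (j : Fin C.pairs.length) : (pa C ok j).1 ≠ (pa C ok j).2 := fun e =>
  (ok.pairs_ok j j.2).2.2.1 (congrArg Fin.val e)

theorem img_lt (σ : Equiv.Perm (Fin C.n)) (j : Fin C.pairs.length) : img C ok σ j < C.pairs.length :=
  (ok.idx_ok _ (σ _).2 _ (σ _).2 fun e => pa_ne ok j (σ.injective (Fin.ext e))).1

theorem img_one (j : Fin C.pairs.length) : img C ok 1 j = j := (ok.pairs_ok j j.2).2.2.2

theorem img_mul (hsw : SwapOK C) (σ τ : Equiv.Perm (Fin C.n)) (j : Fin C.pairs.length) :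
    img C ok (σ * τ) j = img C ok σ ⟨img C ok τ j, img_lt ok τ j⟩ := by
  have hne : (τ (pa C ok j).1 : ℕ) ≠ τ (pa C ok j).2 := fun e => pa_ne ok j (τ.injective (Fin.ext e))
  set k : Fin C.pairs.length := ⟨img C ok τ j, img_lt ok τ j⟩ with hk
  have h := (ok.idx_ok _ (τ _).2 _ (τ _).2 hne).2
  rcases h with h | h
  · have e1 : (pa C ok k).1 = τ (pa C ok j).1 := Fin.ext (congrArg Prod.fst h)
    have e2 : (pa C ok k).2 = τ (pa C ok j).2 := Fin.ext (congrArg Prod.snd h)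
    show _ = C.idx (σ (pa C ok k).1) (σ (pa C ok k).2)
    rw [e1, e2]; rfl
  · have e1 : (pa C ok k).1 = τ (pa C ok j).2 := Fin.ext (congrArg Prod.fst h)
    have e2 : (pa C ok k).2 = τ (pa C ok j).1 := Fin.ext (congrArg Prod.snd h)
    show _ = C.idx (σ (pa C ok k).1) (σ (pa C ok k).2)
    rw [e1, e2, hsw.2 _ (σ _).2 _ (σ _).2]; rfl

theorem img_inj_one {σ : Equiv.Perm (Fin C.n)} (h : ∀ j, img C ok σ j = j) : σ = 1 := by
  ext a
  have key : ∀ b, b ≠ a → σ a = a ∨ σ a = b := by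
    intro b hb
    obtain ⟨h1, h2⟩ := ok.idx_ok _ a.2 _ b.2 (fun e => hb (Fin.ext e.symm))
    have h3 := h ⟨_, h1⟩
    have hne : (σ (pa C ok ⟨_, h1⟩).1 : ℕ) ≠ σ (pa C ok ⟨_, h1⟩).2 := fun e =>
      pa_ne ok ⟨_, h1⟩ (σ.injective (Fin.ext e))
    have h4 := (ok.idx_ok _ (σ _).2 _ (σ _).2 hne).2
    rw [show C.idx (σ (pa C ok ⟨_, h1⟩).1 : ℕ) (σ (pa C ok ⟨_, h1⟩).2) = C.idx a b from h3] at h4
    rcases h2 with h2 | h2
    · have e1 : (pa C ok ⟨_, h1⟩).1 = a := Fin.ext (congrArg Prod.fst h2)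
      have e2 : (pa C ok ⟨_, h1⟩).2 = b := Fin.ext (congrArg Prod.snd h2)
      rw [e1, e2, h2] at h4
      rcases h4 with h4 | h4
      · exact Or.inl (Fin.ext (congrArg Prod.fst h4)).symm
      · exact Or.inr (Fin.ext (congrArg Prod.snd h4)).symm
    · have e1 : (pa C ok ⟨_, h1⟩).1 = b := Fin.ext (congrArg Prod.fst h2)
      have e2 : (pa C ok ⟨_, h1⟩).2 = a := Fin.ext (congrArg Prod.snd h2)
      rw [e1, e2, h2] at h4
      rcases h4 with h4 | h4
      · exact Or.inl (Fin.ext (congrArg Prod.snd h4)).symm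
      · exact Or.inr (Fin.ext (congrArg Prod.fst h4)).symm
  have h3 := ok.three
  obtain ⟨b, hb⟩ : ∃ b : Fin C.n, b ≠ a := by
    by_cases h : a = ⟨0, by omega⟩
    · exact ⟨⟨1, by omega⟩, by rw [h]; simp⟩
    · exact ⟨_, Ne.symm h⟩
  obtain ⟨c, hca, hcb⟩ : ∃ c : Fin C.n, c ≠ a ∧ c ≠ b := by
    by_contra hno
    push Not at hno
    have : (Finset.univ : Finset (Fin C.n)) ⊆ {a, b} := fun c _ => by
      by_cases hc : c = a
      · simp [hc]
      · simp [hno c hc]
    have := Finset.card_le_card this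
    simp only [Finset.card_univ, Fintype.card_fin] at this
    have := this.trans (Finset.card_insert_le _ _)
    simp at this; omega
  rcases key b hb with h1 | h1
  · rw [h1]; rfl
  · rcases key c hca with h2 | h2
    · rw [h2]; rfl
    · exact absurd (h2.symm.trans h1) hcb

/-- the action of an element on the fixed members is that of a permutation -/
def Acts (C : Cfg) (ok : Ok C) (g : pres.Grp) (σ : Equiv.Perm (Fin C.n)) : Prop :=
  ∀ j : Fin C.pairs.length, act g (C.pt j) = C.pt (img C ok σ j)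

theorem acts_one : Acts C ok 1 1 := fun j => by
  rw [img_one, act_one (pt_lt ok (toFx ok j.2))]

theorem acts_mul (hsw : SwapOK C) {g h : pres.Grp} {σ τ : Equiv.Perm (Fin C.n)} (hg : Acts C ok g σ)
    (hh : Acts C ok h τ) : Acts C ok (g * h) (σ * τ) := fun j => by
  rw [act_mul _ _ (pt_lt ok (toFx ok j.2)), hh j, img_mul ok hsw, hg ⟨_, img_lt ok τ j⟩]

theorem acts_inv (hsw : SwapOK C) {g : pres.Grp} {σ : Equiv.Perm (Fin C.n)} (hg : Acts C ok g σ) :
    Acts C ok g⁻¹ σ⁻¹ := fun j => by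
  have hj : C.pt j < 3510 := pt_lt ok (toFx ok j.2)
  set k : Fin C.pairs.length := ⟨img C ok σ⁻¹ j, img_lt ok _ j⟩ with hk
  have h1 : act g (C.pt k) = C.pt j := by
    rw [hg k, ← img_mul ok hsw, mul_inv_cancel, img_one]
  show act g⁻¹ (C.pt j) = C.pt k
  rw [← h1, ← act_mul _ _ (pt_lt ok (toFx ok k.2)), inv_mul_cancel, act_one (pt_lt ok (toFx ok k.2))]

theorem acts_dd (hsw : SwapOK C) (i : Fin C.pairs.length) :
    Acts C ok (dd C i) (Equiv.swap (pa C ok i).1 (pa C ok i).2) := fun j => by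
  rw [act_dd_pt ok (toFx ok i.2) (toFx ok j.2)]
  show _ = C.pt (C.idx _ _)
  rw [Cfg.swpIdx, ← hsw.1 i i.2 (pa C ok j).1 (pa C ok i).1 (pa C ok i).2 rfl,
    ← hsw.1 i i.2 (pa C ok j).2 (pa C ok i).1 (pa C ok i).2 rfl]
  rfl

theorem acts_inK {g : pres.Grp} (hg : InK C g) : Acts C ok g 1 := fun j => by
  rw [img_one]; exact inK_fix ok hg (pt_mem ok (toFx ok j.2))

theorem inK_of_acts_one {g : pres.Grp} (hc : Commute g (xel C)) (hg : Acts C ok g 1) : InK C g := by
  refine ⟨hc, fun i hi => (commute_dp_iff _ (pt_lt ok hi)).mpr ?_⟩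
  have := hg ⟨i, toP ok hi⟩
  rwa [img_one] at this

include ok in
theorem dd_fix_q {i : ℕ} (hi : i < C.fx.length) : act (dd C i) C.q = C.q := by
  obtain ⟨-, hq, -, -, -, -, -, hadj, -⟩ := basics ok
  have h := ((adjb_iff pts_ok (pt_lt ok hi) hq).mp (hadj _ (pt_mem ok hi)).1)
  exact (commute_dp_iff _ hq).mp h

/-- the elements of the symmetric group with their permutations -/
noncomputable def Graph (C : Cfg) (ok : Ok C) : Subgroup (pres.Grp × Equiv.Perm (Fin C.n)) :=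
  Subgroup.closure {p | ∃ i : Fin C.pairs.length, p = (dd C i, Equiv.swap (pa C ok i).1 (pa C ok i).2)}

theorem graph_acts (hsw : SwapOK C) {p : pres.Grp × Equiv.Perm (Fin C.n)} (hp : p ∈ Graph C ok) :
    Commute p.1 (xel C) ∧ act p.1 C.q = C.q ∧ Acts C ok p.1 p.2 := by
  obtain ⟨-, hq, -⟩ := basics ok
  induction hp using Subgroup.closure_induction with
  | mem x hx =>
    obtain ⟨i, rfl⟩ := hx
    exact ⟨dd_comm_x ok (toFx ok i.2), dd_fix_q ok (toFx ok i.2), acts_dd ok hsw i⟩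
  | one => exact ⟨Commute.one_left _, act_one hq, acts_one ok⟩
  | mul x y _ _ hx hy =>
    exact ⟨hx.1.mul_left hy.1, by rw [Prod.fst_mul, act_mul _ _ hq, hy.2.1, hx.2.1], acts_mul ok hsw hx.2.2 hy.2.2⟩
  | inv x _ hx =>
    refine ⟨hx.1.inv_left, ?_, acts_inv ok hsw hx.2.2⟩
    conv_lhs => rw [Prod.fst_inv, ← hx.2.1]
    rw [← act_mul _ _ hq, inv_mul_cancel, act_one hq]

theorem graph_fst (x : pres.Grp) : x ∈ Sg C ↔ ∃ p ∈ Graph C ok, p.1 = x := by
  show x ∈ Sg C ↔ x ∈ (Graph C ok).map (MonoidHom.fst pres.Grp (Equiv.Perm (Fin C.n)))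
  rw [Graph, MonoidHom.map_closure, Sg]
  constructor <;> intro h <;> refine Subgroup.closure_mono ?_ h
  · rintro _ ⟨i, hi, rfl⟩
    exact ⟨_, ⟨⟨i, toP ok hi⟩, rfl⟩, rfl⟩
  · rintro _ ⟨_, ⟨i, rfl⟩, rfl⟩
    exact ⟨i, toFx ok i.2, rfl⟩

theorem graph_snd (σ : Equiv.Perm (Fin C.n)) : ∃ p ∈ Graph C ok, p.2 = σ := by
  show σ ∈ (Graph C ok).map (MonoidHom.snd pres.Grp (Equiv.Perm (Fin C.n)))
  rw [Graph, MonoidHom.map_closure]
  have h : σ ∈ Subgroup.closure {τ : Equiv.Perm (Fin C.n) | τ.IsSwap} := by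
    rw [Equiv.Perm.closure_isSwap]; trivial
  refine Subgroup.closure_mono ?_ h
  rintro _ ⟨a, b, hab, rfl⟩
  obtain ⟨h1, h2⟩ := ok.idx_ok _ a.2 _ b.2 (fun e => hab (Fin.ext e))
  refine ⟨_, ⟨⟨_, h1⟩, rfl⟩, ?_⟩
  show Equiv.swap _ _ = _
  rcases h2 with h2 | h2
  · rw [show (pa C ok ⟨_, h1⟩).1 = a from Fin.ext (congrArg Prod.fst h2),
      show (pa C ok ⟨_, h1⟩).2 = b from Fin.ext (congrArg Prod.snd h2)]
  · rw [show (pa C ok ⟨_, h1⟩).1 = b from Fin.ext (congrArg Prod.fst h2),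
      show (pa C ok ⟨_, h1⟩).2 = a from Fin.ext (congrArg Prod.snd h2), Equiv.swap_comm]

include ok in
theorem sg_comm_x (hsw : SwapOK C) {s : pres.Grp} (hs : s ∈ Sg C) : Commute s (xel C) := by
  obtain ⟨p, hp, rfl⟩ := (graph_fst ok s).mp hs
  exact (graph_acts ok hsw hp).1

include ok hinv in
theorem sg_inK (hsw : SwapOK C) {s : pres.Grp} (hs : s ∈ Sg C) (hK : InK C s) : s = 1 := by
  haveI := order.1
  obtain ⟨-, hq, -, hqne, -, -, -, -, -, -, hx, -⟩ := basics ok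
  obtain ⟨p, hp, rfl⟩ := (graph_fst ok s).mp hs
  have hfq := (graph_acts ok hsw hp).2.1
  obtain ⟨n, hn⟩ := Subgroup.mem_zpowers_iff.mp (inK_zpowers ok hinv hK)
  have hr : (xel C : pres.Grp) ^ (n % (C.P : ℤ)).toNat = p.1 := by
    rw [← hn, ← zpow_natCast, Int.toNat_of_nonneg (Int.emod_nonneg _ (by have := ok.five; omega)),
      ← order_x ok, zpow_mod_orderOf]
  set r := (n % (C.P : ℤ)).toNat
  by_cases h0 : r = 0
  · rw [h0, pow_zero] at hr; exact hr.symm
  · exfalso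
    have hrP : r < C.P := by
      have := Int.emod_lt_of_pos n (show (0 : ℤ) < C.P by have := ok.five; omega)
      have := Int.emod_nonneg n (show (C.P : ℤ) ≠ 0 by have := ok.five; omega)
      omega
    have hcop : Nat.Coprime r C.P :=
      ((ok.prime.coprime_iff_not_dvd).mpr fun h => absurd (Nat.le_of_dvd (by omega) h) (by omega)).symm
    obtain ⟨m, hm⟩ := Nat.exists_mul_mod_eq_one_of_coprime hcop ok.prime.one_lt
    apply hqne
    have e : xel C = p.1 ^ m := by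
      rw [← hr, ← pow_mul, ← pow_mod_orderOf, order_x ok, hm.2, pow_one]
    have hpow : ∀ i, act (p.1 ^ i) C.q = C.q := by
      intro i
      induction i with
      | zero => rw [pow_zero, act_one hq]
      | succ i ih => rw [pow_succ, act_mul _ _ hq, hfq, ih]
    rw [← act_el hx hq, show el C.x = xel C from rfl, e, hpow]

include ok hinv in
theorem graph_inj (hsw : SwapOK C) {p : pres.Grp × Equiv.Perm (Fin C.n)} (hp : p ∈ Graph C ok) :
    p.1 = 1 ↔ p.2 = 1 := by
  obtain ⟨h1, h2, h3⟩ := graph_acts ok hsw hp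
  constructor
  · intro e
    refine img_inj_one ok fun j => ?_
    have h := h3 j
    rw [e, act_one (pt_lt ok (toFx ok j.2))] at h
    exact (pt_inj ok (toFx ok j.2) (toFx ok (img_lt ok p.2 j)) h).symm
  · intro e
    rw [e] at h3
    exact sg_inK ok hinv hsw ((graph_fst ok _).mpr ⟨p, hp, rfl⟩) (inK_of_acts_one ok h1 h3)

include ok hinv in
theorem sg_iso (hsw : SwapOK C) : Nonempty (↥(Sg C) ≃* Equiv.Perm (Fin C.n)) := by
  let f1 : Graph C ok →* ↥(Sg C) :=
    { toFun := fun p => ⟨p.1.1, (graph_fst ok _).mpr ⟨p.1, p.2, rfl⟩⟩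
      map_one' := rfl
      map_mul' := fun _ _ => rfl }
  let f2 : Graph C ok →* Equiv.Perm (Fin C.n) := (MonoidHom.snd _ _).comp (Graph C ok).subtype
  have b1 : Function.Bijective f1 := by
    refine ⟨(injective_iff_map_eq_one f1).mpr fun p hp => ?_, ?_⟩
    · have h1 : p.1.1 = 1 := congrArg Subtype.val hp
      exact Subtype.ext (Prod.ext h1 ((graph_inj ok hinv hsw p.2).mp h1))
    · rintro ⟨s, hs⟩
      obtain ⟨p, hp, rfl⟩ := (graph_fst ok s).mp hs
      exact ⟨⟨p, hp⟩, rfl⟩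
  have b2 : Function.Bijective f2 := by
    refine ⟨(injective_iff_map_eq_one f2).mpr fun p hp => ?_, fun σ => ?_⟩
    · have h1 : p.1.2 = 1 := hp
      exact Subtype.ext (Prod.ext ((graph_inj ok hinv hsw p.2).mpr h1) h1)
    · obtain ⟨p, hp, rfl⟩ := graph_snd ok σ
      exact ⟨⟨p, hp⟩, rfl⟩
  exact ⟨(MulEquiv.ofBijective f1 b1).symm.trans (MulEquiv.ofBijective f2 b2)⟩

include ok in
theorem norm_perm {g : pres.Grp} {i : ℕ} (hg : ∀ j : ℕ, ∃ l : ℕ, g * xel C ^ j * g⁻¹ = xel C ^ l)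
    (hg' : ∀ j : ℕ, ∃ l : ℕ, g⁻¹ * xel C ^ j * g = xel C ^ l) (hi : i < C.fx.length) :
    act g (C.pt i) ∈ C.fx := by
  haveI := order.1
  have hp := pt_lt ok hi
  rw [← fix_iff ok (act_lt g hp)]
  obtain ⟨l, hl⟩ := hg' 1
  rw [pow_one] at hl
  have e : xel C * g = g * xel C ^ l := by rw [← hl]; group
  rw [← act_mul _ _ hp, e, act_mul _ _ hp, (commute_dp_iff _ hp).mp ((dd_comm_x ok hi).symm.pow_left l)]

include ok in
theorem exists_sg (hch : ChainOK C) (hsw : SwapOK C) {g : pres.Grp}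
    (hperm : ∀ i < C.fx.length, act g (C.pt i) ∈ C.fx) :
    ∃ s ∈ Sg C, ∀ i < C.fx.length, Commute (s⁻¹ * g) (dd C i) := by
  have hlen := len_eq ok
  have hex : ∀ i, i < C.fx.length → ∃ t < C.fx.length, C.pt t = act g (C.pt i) := fun i hi =>
    exists_pt ok (hperm i hi)
  classical
  let t : ℕ → ℕ := fun i => if h : i < C.fx.length then (hex i h).choose else 0
  have ht : ∀ i (hi : i < C.fx.length), t i < C.fx.length ∧ C.pt (t i) = act g (C.pt i) := fun i hi => by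
    show (dite _ _ _) < _ ∧ C.pt (dite _ _ _) = _
    rw [dif_pos hi]; exact (hex i hi).choose_spec
  have ginj : ∀ {i j}, i < C.fx.length → j < C.fx.length → act g (C.pt i) = act g (C.pt j) → i = j := by
    intro i j hi hj e
    apply pt_inj ok hi hj
    have := congrArg (act g⁻¹) e
    rwa [← act_mul _ _ (pt_lt ok hi), ← act_mul _ _ (pt_lt ok hj), inv_mul_cancel, act_one (pt_lt ok hi),
      act_one (pt_lt ok hj)] at this
  have hm : ∀ {i j}, i < C.fx.length → j < C.fx.length → C.meets (t i) (t j) = C.meets i j := by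
    intro i j hi hj
    have h1 := meets_iff ok (ht i hi).1 (ht j hj).1
    rw [(ht i hi).2, (ht j hj).2, adjb_act pts_ok g (pt_lt ok hi) (pt_lt ok hj), meets_iff ok hi hj] at h1
    simpa using h1.symm
  have hcl : ∀ i ∈ C.chain, i < C.fx.length := fun i hi => toFx ok (ok.chain_lt i hi)
  obtain ⟨σ, hσ⟩ := hch t (fun i hi => toP ok (ht i (hcl i hi)).1) fun i hi j hj =>
    ⟨hm (hcl i hi) (hcl j hj), fun e => ginj (hcl i hi) (hcl j hj) (by
      rw [← (ht i (hcl i hi)).2, ← (ht j (hcl j hj)).2, e])⟩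
  obtain ⟨p, hp, rfl⟩ := graph_snd ok σ
  obtain ⟨-, -, hact⟩ := graph_acts ok hsw hp
  refine ⟨p.1, (graph_fst ok _).mpr ⟨p, hp, rfl⟩, ?_⟩
  have hfixc : ∀ i ∈ C.chain, act (p.1⁻¹ * g) (C.pt i) = C.pt i := by
    intro i hi
    have h1 := hact ⟨i, ok.chain_lt i hi⟩
    have h2 := hσ i hi (pa C ok ⟨i, ok.chain_lt i hi⟩).1 (pa C ok ⟨i, ok.chain_lt i hi⟩).2 rfl
    rw [show img C ok p.2 ⟨i, ok.chain_lt i hi⟩ = t i from h2, (ht i (hcl i hi)).2] at h1
    rw [act_mul _ _ (pt_lt ok (hcl i hi)), ← h1, ← act_mul _ _ (pt_lt ok (hcl i hi)), inv_mul_cancel,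
      act_one (pt_lt ok (hcl i hi))]
  intro i hi
  refine (commute_dp_iff _ (pt_lt ok hi)).mpr ?_
  set h := p.1⁻¹ * g
  by_cases hic : i ∈ C.chain
  · exact hfixc i hic
  have hj : act h (C.pt i) ∈ C.fx := by
    rw [show h = p.1⁻¹ * g from rfl, act_mul _ _ (pt_lt ok hi)]
    obtain ⟨u, hu, e⟩ := hex i hi
    rw [← e]
    have := (acts_inv ok hsw hact) ⟨u, toP ok hu⟩
    rw [this]
    exact pt_mem ok (toFx ok (img_lt ok _ _))
  obtain ⟨j, hjl, hje⟩ := exists_pt ok hj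
  have : i = j := by
    refine ok.chain_sep i (toP ok hi) j (toP ok hjl) (fun r hr => ?_) hic ?_
    · have h1 := meets_iff ok (hcl r hr) hjl
      rw [hje, ← hfixc r hr, adjb_act pts_ok h (pt_lt ok (hcl r hr)) (pt_lt ok hi), meets_iff ok (hcl r hr) hi] at h1
      simpa using h1
    · intro hjc
      apply hic
      have h1 := hfixc j hjc
      rw [hje] at h1
      have h3 : C.pt i = act h (C.pt i) := by
        have h4 := congrArg (act h⁻¹) h1
        rw [← act_mul _ _ (act_lt h (pt_lt ok hi)), inv_mul_cancel, act_one (act_lt h (pt_lt ok hi)),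
          ← act_mul _ _ (pt_lt ok hi), inv_mul_cancel, act_one (pt_lt ok hi)] at h4
        exact h4.symm
      exact (pt_inj ok hi hjl (h3.trans hje.symm)) ▸ hjc
  rw [← hje, this]

end Cfsg.Agent.Spor.M22U.Frob
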