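import Cfsg.Agent.Lib.Spor.M22UTriples
import Cfsg.Agent.Lib.Spor.M22UInvClassesEx

/-!
An involution commuting with an element of prime order at least five is a product of commuting members
commuting with it.
-/

set_option autoImplicit false
set_option maxRecDepth 100000
set_option linter.unusedSectionVars false

namespace Cfsg.Agent.Spor.M22U.FrobInvol

open Cfsg.Agent.Spor.M22U.InvClasses (Good)

universe u
variable {G : Type u} [Group G] [Finite G] {D : Set G}

/-- an invariant set with fewer elements than the order is fixed pointwise -/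
theorem fix_of_small {P : ℕ} (hP : P.Prime) {y a : G} (hy : y ^ P = 1) {s : Set G} (hs : s.ncard < P)
    (hinv : ∀ b ∈ s, y * b * y⁻¹ ∈ s) (ha : a ∈ s) : Commute y a := by
  set f : G → G := fun b => y * b * y⁻¹
  have hit : ∀ j, f^[j] a = y ^ j * a * (y ^ j)⁻¹ ∧ f^[j] a ∈ s := by
    intro j
    induction j with
    | zero => simpa using ha
    | succ j ih =>
      rw [Function.iterate_succ_apply']
      refine ⟨?_, hinv _ ih.2⟩
      show y * f^[j] a * y⁻¹ = _
      rw [ih.1, pow_succ']; group
  have hper : Function.IsPeriodicPt f P a := by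
    show f^[P] a = a
    rw [(hit P).1, hy]; simp
  rcases (Nat.dvd_prime hP).mp hper.minimalPeriod_dvd with h | h
  · have h1 : f a = a := Function.minimalPeriod_eq_one_iff_isFixedPt.mp h
    exact mul_inv_eq_iff_eq_mul.mp h1
  · exfalso
    have hinj : Set.InjOn (fun j => f^[j] a) (Set.Iio P) := by
      rw [← h]; exact Function.iterate_injOn_Iio_minimalPeriod
    have := Set.ncard_le_ncard_of_injOn (fun j => f^[j] a) (fun j _ => (hit j).2) hinj
    rw [show (Set.Iio P).ncard = P by simp [Set.ncard_eq_toFinset_card']] at this
    omega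

variable (hD : Cfsg.IsThreeTranspositionGroup D) (hprim : Cfsg.IsPrimitiveUnderConj D)
  (ht : Cfsg.IsOfTypeM22 G D)

include hD hprim ht in
theorem fixed_good {P : ℕ} (hP : P.Prime) (h5 : 5 ≤ P) {x z : G} (hx : x ^ P = 1) (hz : orderOf z = 2)
    (hc : Commute x z) :
    ∃ l : List G, Good D l ∧ 1 ≤ l.length ∧ l.length ≤ 3 ∧ l.prod = z ∧ ∀ a ∈ l, Commute x a := by
  obtain ⟨l, hl, h1, h3, hprod⟩ := InvClasses.exists_good hD hprim ht hz
  have hconj : ∀ {g a b : G}, g * a * g⁻¹ * (g * b * g⁻¹) = g * (a * b) * g⁻¹ := by intros; group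
  have hfixz : ∀ g : G, Commute g z → g * z * g⁻¹ = z := fun g hg => by rw [hg.eq]; group
  refine ⟨l, hl, h1, h3, hprod, ?_⟩
  match l, hl, h1, h3, hprod with
  | [a], hl, _, _, hprod =>
    intro b hb
    rw [List.mem_singleton] at hb
    simp only [List.prod_cons, List.prod_nil, mul_one] at hprod
    rw [hb, hprod]; exact hc
  | [a, b], ⟨hn, hmem, hcom⟩, _, _, hprod =>
    have hab : a ≠ b := by simpa using hn
    have ha := hmem a (by simp)
    have hb := hmem b (by simp)
    have cab := hcom a (by simp) b (by simp)
    simp only [List.prod_cons, List.prod_nil, mul_one] at hprod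
    have h2 := Triples.pair_eq hD hprim ht ha hb (hD.2.1 x a ha) (hD.2.1 x b hb) hab
      (fun e => hab (mul_left_cancel (mul_right_cancel e))) cab (Spor.commute_conj_iff.mpr cab)
      (by rw [hconj, hprod, hfixz x hc])
    intro c hcl
    refine fix_of_small hP hx (s := {y | y ∈ [a, b]}) ?_ ?_ hcl
    · have : ({y | y ∈ [a, b]} : Set G) = {a, b} := by ext; simp
      rw [this, Set.ncard_pair hab]; omega
    · intro y hy
      simp only [Set.mem_setOf_eq] at hy ⊢
      refine (h2 _).mp ?_
      simp only [List.mem_cons, List.not_mem_nil, or_false] at hy ⊢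
      rcases hy with rfl | rfl <;> simp
  | [a, b, c], hl, _, _, hprod =>
    obtain ⟨l₂, ⟨hl2, hlen2, hprod2⟩, hne, hall⟩ := Triples.triples hD hprim ht hl
    simp only [List.prod_cons, List.prod_nil, mul_one] at hprod
    rw [← mul_assoc] at hprod
    match l₂, hlen2 with
    | [p, q, r], _ =>
    -- the image of a triple under an element commuting with the involution is one of the two
    have himg : ∀ (g u v w : G), Commute g z → Good D [u, v, w] → u * v * w = z →
        (∀ t, t ∈ [g * u * g⁻¹, g * v * g⁻¹, g * w * g⁻¹] ↔ t ∈ [a, b, c]) ∨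
        ∀ t, t ∈ [g * u * g⁻¹, g * v * g⁻¹, g * w * g⁻¹] ↔ t ∈ [p, q, r] := by
      intro g u v w hg ⟨k1, k2, k3⟩ hk
      refine hall _ _ _ ⟨?_, ?_, ?_⟩ (by rw [hconj, hconj, hk, hprod, hfixz g hg])
      · simp only [List.nodup_cons, List.mem_cons, List.not_mem_nil, or_false, not_or, List.nodup_nil, and_true,
          not_false_eq_true] at k1 ⊢
        exact ⟨⟨fun e => k1.1.1 (mul_left_cancel (mul_right_cancel e)),
          fun e => k1.1.2 (mul_left_cancel (mul_right_cancel e))⟩,
          fun e => k1.2 (mul_left_cancel (mul_right_cancel e))⟩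
      · intro t ht'
        simp only [List.mem_cons, List.not_mem_nil, or_false] at ht'
        rcases ht' with rfl | rfl | rfl
        exacts [hD.2.1 g u (k2 u (by simp)), hD.2.1 g v (k2 v (by simp)), hD.2.1 g w (k2 w (by simp))]
      · intro s hs t ht'
        simp only [List.mem_cons, List.not_mem_nil, or_false] at hs ht'
        rcases hs with rfl | rfl | rfl <;> rcases ht' with rfl | rfl | rfl <;>
          exact Spor.commute_conj_iff.mpr (k3 _ (by simp) _ (by simp))
    have hl2prod : p * q * r = z := by
      simp only [List.prod_cons, List.prod_nil, mul_one] at hprod2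
      rw [← mul_assoc] at hprod2
      rw [hprod2, hprod]
    -- the square preserves the triple
    have hsq : ∀ t ∈ [a, b, c], x ^ 2 * t * (x ^ 2)⁻¹ ∈ [a, b, c] := by
      intro t ht'
      have e : ∀ t, x ^ 2 * t * (x ^ 2)⁻¹ = x * (x * t * x⁻¹) * x⁻¹ := fun t => by rw [sq]; group
      have hin : ∀ (g u v w t : G), t ∈ [u, v, w] → g * t * g⁻¹ ∈ [g * u * g⁻¹, g * v * g⁻¹, g * w * g⁻¹] := by
        intro g u v w t h
        simp only [List.mem_cons, List.not_mem_nil, or_false] at h ⊢
        rcases h with rfl | rfl | rfl <;> simp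
      rcases himg x a b c hc hl hprod with h | h
      · rw [e]
        exact (h _).mp (hin x a b c _ ((h _).mp (hin x a b c t ht')))
      · rcases himg x p q r hc hl2 hl2prod with h' | h'
        · rw [e]
          exact (h' _).mp (hin x p q r _ ((h _).mp (hin x a b c t ht')))
        · -- the second triple is invariant, hence so is the first
          exfalso
          have hxinj : ∀ {u v : G}, x * u * x⁻¹ = x * v * x⁻¹ → u = v :=
            fun e => mul_left_cancel (mul_right_cancel e)
          refine hne ?_
          intro y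
          have h0 := h (x * y * x⁻¹)
          have h1 := h' (x * y * x⁻¹)
          constructor
          · intro hy
            have := (h1.mpr (h0.mp (hin x a b c y hy)))
            simp only [List.mem_cons, List.not_mem_nil, or_false] at this ⊢
            rcases this with e1 | e1 | e1 <;> have := hxinj e1 <;> subst this <;> simp
          · intro hy
            have := (h0.mpr (h1.mp (hin x p q r y hy)))
            simp only [List.mem_cons, List.not_mem_nil, or_false] at this ⊢
            rcases this with e1 | e1 | e1 <;> have := hxinj e1 <;> subst this <;> simp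
    intro t ht'
    classical
    have hP2 : P % 2 = 1 := Nat.odd_iff.mp (hP.odd_of_ne_two (by omega))
    have hx2 : Commute (x ^ 2) t := by
      refine fix_of_small hP (by rw [← pow_mul, mul_comm, pow_mul, hx, one_pow]) (s := {y | y ∈ [a, b, c]}) ?_
        hsq ht'
      have hn := hl.1
      have : ({y | y ∈ [a, b, c]} : Set G) ⊆ ↑([a, b, c].toFinset) := by intro y; simp
      exact lt_of_le_of_lt ((Set.ncard_le_ncard this (Finset.finite_toSet _)).trans
        ((Set.ncard_coe_finset _).le.trans (List.toFinset_card_le _))) (by show 3 < P; omega)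
    have hxe : x = (x ^ 2) ^ ((P + 1) / 2) := by
      rw [← pow_mul, show 2 * ((P + 1) / 2) = P + 1 by omega, pow_succ, hx, one_mul]
    rw [hxe]
    exact hx2.pow_left _

end Cfsg.Agent.Spor.M22U.FrobInvol
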