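import Cfsg.Agent.Lib.Spor.M22UFrobNorm
import Cfsg.Agent.Lib.Spor.M22UFrobChecks
import Cfsg.Agent.Lib.Spor.M22UFrobInvol

/-!
The two instances: elements of order seven and five in Fi22.
-/

set_option autoImplicit false
set_option maxRecDepth 100000
set_option linter.unusedSectionVars false
set_option maxHeartbeats 1000000

namespace Cfsg.Agent.Spor.M22U.Frob

open Cfsg.Agent.Spor.CC Cfsg.Agent.Spor.Fi22Cert Cfsg.Agent.Spor.Fi22Cert.U62Act
open Cfsg.Agent.Spor.M22U.Cent

/-- the point of a pair missing from another -/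
def other (C : Cfg) (i j : ℕ) : ℕ :=
  let a := C.pairs.getD i (0, 0)
  let b := C.pairs.getD j (0, 0)
  bif Nat.beq a.1 b.1 || Nat.beq a.1 b.2 then a.2 else a.1

/-- the common point of two pairs -/
def common (C : Cfg) (i j : ℕ) : ℕ :=
  let a := C.pairs.getD i (0, 0)
  let b := C.pairs.getD j (0, 0)
  bif Nat.beq a.1 b.1 || Nat.beq a.1 b.2 then a.1 else a.2

theorem perm_of_list {n : ℕ} (l : List ℕ) (hl : l.length = n) (hnd : l.Nodup) (hlt : ∀ a ∈ l, a < n) :
    ∃ σ : Equiv.Perm (Fin n), ∀ i : Fin n, (σ i : ℕ) = l.getD i 0 := by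
  let f : Fin n → Fin n := fun i => ⟨l.getD i 0, by
    rw [List.getD_eq_getElem _ _ (by omega)]; exact hlt _ (List.getElem_mem _)⟩
  have hf : Function.Injective f := by
    intro i j h
    have h' : l.getD i 0 = l.getD j 0 := congrArg Fin.val h
    rw [List.getD_eq_getElem _ _ (by omega), List.getD_eq_getElem _ _ (by omega)] at h'
    exact Fin.ext (hnd.getElem_inj_iff.mp h')
  exact ⟨Equiv.ofBijective f (Finite.injective_iff_bijective.mp hf), fun i => rfl⟩

/-- two tuples of pairs of the same shape -/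
def sameShape (C : Cfg) (t : List (ℕ × ℕ)) : Bool :=
  t.all fun e => t.all fun f => (C.meets e.2 f.2 == C.meets e.1 f.1) && (!(Nat.beq e.2 f.2) || Nat.beq e.1 f.1)

/-- the points along a path of pairs -/
def pathPts (C : Cfg) : List ℕ → List ℕ
  | [] => []
  | [_] => []
  | [i, j] => [other C i j, common C i j, other C j i]
  | i :: j :: k :: r => other C i j :: common C i j :: (pathPts C (j :: k :: r)).tail

/-- a tuple comes from a permutation -/
def fromPerm (C : Cfg) (t : List (ℕ × ℕ)) : Bool :=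
  let l := pathPts C (t.map Prod.snd)
  Nat.beq l.length C.n && decide l.Nodup && l.all (fun a => Nat.blt a C.n) &&
    t.all fun e => Nat.beq (C.idx (l.getD (C.pairs.getD e.1 (0, 0)).1 0) (l.getD (C.pairs.getD e.1 (0, 0)).2 0)) e.2

theorem chainOK_of {C : Cfg} (t : ℕ → ℕ) (h : fromPerm C (C.chain.map fun i => (i, t i)) = true) :
    ∃ σ : Equiv.Perm (Fin C.n), ∀ i ∈ C.chain, ∀ a b : Fin C.n,
      C.pairs.getD i (0, 0) = ((a : ℕ), (b : ℕ)) → C.idx (σ a) (σ b) = t i := by
  simp only [fromPerm, Bool.and_eq_true, List.all_eq_true, decide_eq_true_eq, List.mem_map,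
    forall_exists_index, and_imp, forall_apply_eq_imp_iff₂] at h
  obtain ⟨⟨⟨h1, h2⟩, h3⟩, h4⟩ := h
  obtain ⟨σ, hσ⟩ := perm_of_list _ (Nat.eq_of_beq_eq_true h1) h2 (fun a ha => Nat.le_of_ble_eq_true (h3 a ha))
  refine ⟨σ, fun i hi a b hab => ?_⟩
  have := Nat.eq_of_beq_eq_true (h4 i hi)
  rw [hab] at this
  rw [hσ a, hσ b]
  exact this

theorem chain7 : ChainOK cfg7 := by
  intro t ht hs
  refine chainOK_of t ?_
  have key : ∀ a < 3, ∀ b < 3, sameShape cfg7 [(0, a), (2, b)] = true → fromPerm cfg7 [(0, a), (2, b)] = true := by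
    decide +kernel
  refine key _ (ht 0 (by decide)) _ (ht 2 (by decide)) ?_
  simp only [sameShape, List.all_eq_true, Bool.and_eq_true, beq_iff_eq, Bool.or_eq_true, Bool.not_eq_true']
  intro e he f hf
  simp only [List.mem_cons, List.not_mem_nil, or_false] at he hf
  obtain ⟨i, hi, rfl⟩ : ∃ i ∈ cfg7.chain, e = (i, t i) := by
    rcases he with rfl | rfl <;> exact ⟨_, by decide, rfl⟩
  obtain ⟨j, hj, rfl⟩ : ∃ j ∈ cfg7.chain, f = (j, t j) := by
    rcases hf with rfl | rfl <;> exact ⟨_, by decide, rfl⟩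
  refine ⟨(hs i hi j hj).1, ?_⟩
  by_cases h : t i = t j
  · exact Or.inr (by rw [(hs i hi j hj).2 h]; exact Nat.beq_refl _)
  · exact Or.inl (by rw [Bool.eq_false_iff]; exact fun e => h (Nat.eq_of_beq_eq_true e))

theorem chain5 : ChainOK cfg5 := by
  intro t ht hs
  refine chainOK_of t ?_
  have key : ∀ a < 10, ∀ b < 10, ∀ c < 10, ∀ d < 10, sameShape cfg5 [(0, a), (4, b), (7, c), (9, d)] = true →
      fromPerm cfg5 [(0, a), (4, b), (7, c), (9, d)] = true := by
    decide +kernel
  refine key _ (ht 0 (by decide)) _ (ht 4 (by decide)) _ (ht 7 (by decide)) _ (ht 9 (by decide)) ?_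
  simp only [sameShape, List.all_eq_true, Bool.and_eq_true, beq_iff_eq, Bool.or_eq_true, Bool.not_eq_true']
  intro e he f hf
  simp only [List.mem_cons, List.not_mem_nil, or_false] at he hf
  obtain ⟨i, hi, rfl⟩ : ∃ i ∈ cfg5.chain, e = (i, t i) := by
    rcases he with rfl | rfl | rfl | rfl <;> exact ⟨_, by decide, rfl⟩
  obtain ⟨j, hj, rfl⟩ : ∃ j ∈ cfg5.chain, f = (j, t j) := by
    rcases hf with rfl | rfl | rfl | rfl <;> exact ⟨_, by decide, rfl⟩
  refine ⟨(hs i hi j hj).1, ?_⟩
  by_cases h : t i = t j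
  · exact Or.inr (by rw [(hs i hi j hj).2 h]; exact Nat.beq_refl _)
  · exact Or.inl (by rw [Bool.eq_false_iff]; exact fun e => h (Nat.eq_of_beq_eq_true e))

theorem swap7 : SwapOK cfg7 := by
  refine ⟨?_, by decide +kernel⟩
  have key : ∀ i < cfg7.pairs.length, ∀ a x y : Fin cfg7.n,
      cfg7.pairs.getD i (0, 0) = ((x : ℕ), (y : ℕ)) → cfg7.swp i a = (Equiv.swap x y a : ℕ) := by decide +kernel
  exact key

theorem swap5 : SwapOK cfg5 := by
  refine ⟨?_, by decide +kernel⟩
  have key : ∀ i < cfg5.pairs.length, ∀ a x y : Fin cfg5.n,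
      cfg5.pairs.getD i (0, 0) = ((x : ℕ), (y : ℕ)) → cfg5.swp i a = (Equiv.swap x y a : ℕ) := by decide +kernel
  exact key

/-- pairs off the chain are told apart by the chain -/
def sepB (C : Cfg) : Bool :=
  (List.range C.pairs.length).all fun i => (List.range C.pairs.length).all fun j =>
    C.chain.contains i || C.chain.contains j || Nat.beq i j || C.chain.any fun r => C.meets r i != C.meets r j

theorem sep_of {C : Cfg} (h : sepB C = true) : ∀ i < C.pairs.length, ∀ j < C.pairs.length,
    (∀ r ∈ C.chain, C.meets r i = C.meets r j) → i ∉ C.chain → j ∉ C.chain → i = j := by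
  intro i hi j hj hm hic hjc
  simp only [sepB, List.all_eq_true, List.mem_range, Bool.or_eq_true, List.any_eq_true, bne_iff_ne,
    List.contains_iff_mem] at h
  rcases h i hi j hj with ((h | h) | h) | ⟨r, hr, h⟩
  · exact absurd h hic
  · exact absurd h hjc
  · exact Nat.eq_of_beq_eq_true h
  · exact absurd (hm r hr) h

theorem conj_el {a b : List ℕ} {k : ℕ} {h : List ℕ} (e : el (h ++ a ++ h.reverse ++ (powW k b).reverse) = 1) :
    el h * el a * (el h)⁻¹ = el b ^ k := by
  rw [el_app, el_app, el_app, el_rev, el_rev, el_pow, mul_inv_eq_one] at e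
  exact e

theorem ok7 : Ok cfg7 where
  prime := by decide +kernel
  five := by decide +kernel
  fix := fix7
  cand := cand7
  extra := extra7
  gen := gen7
  basic := basic7
  trans := trans7
  small := small7
  pow := by
    have h := el_one rels.1 rels.2.1 (w := powW 7 cfg7.x) (by simp [relW])
    rw [el_pow] at h; exact h
  conj := conj_el (el_one rels.1 rels.2.1 (by simp [relW]))
  prim := by
    intro j h1 h2
    revert h1; revert h2 j
    decide +kernel
  count := by decide +kernel
  three := by decide +kernel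
  pairs_ok := by decide +kernel
  idx_ok := by decide +kernel
  chain_lt := by decide +kernel
  chain_sep := by
    intro i hi j hj h hic hjc
    exact sep_of (by decide +kernel) i hi j hj h hic hjc

theorem extra5 : rangeOK cfg5.extraScan 0 3510 = true := by decide +kernel

theorem ok5 : Ok cfg5 where
  prime := by decide +kernel
  five := by decide +kernel
  fix := fix5
  cand := cand5
  extra := extra5
  gen := gen5
  basic := basic5
  trans := trans5
  small := small5
  pow := by
    have h := el_one rels.1 rels.2.1 (w := powW 5 cfg5.x) (by simp [relW])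
    rw [el_pow] at h; exact h
  conj := conj_el (el_one rels.1 rels.2.1 (by simp [relW]))
  prim := by
    intro j h1 h2
    revert h1; revert h2 j
    decide +kernel
  count := by decide +kernel
  three := by decide +kernel
  pairs_ok := by decide +kernel
  idx_ok := by decide +kernel
  chain_lt := by decide +kernel
  chain_sep := by
    intro i hi j hj h hic hjc
    exact sep_of (by decide +kernel) i hi j hj h hic hjc

theorem pi7 : ∀ i < cfg7.P - 1, ∀ j < cfg7.P - 1, cfg7.k ^ i % cfg7.P = cfg7.k ^ j % cfg7.P → i = j := by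
  decide +kernel

theorem pi5 : ∀ i < cfg5.P - 1, ∀ j < cfg5.P - 1, cfg5.k ^ i % cfg5.P = cfg5.k ^ j % cfg5.P → i = j := by
  decide +kernel

theorem act_two {i j : ℕ} (hi : i < 3510) (hj : j < 3510) {p : ℕ} (hp : p < 3510) :
    act ((dp i : pres.Grp) * dp j) p =
      ev RepU62.rows 9 (Fischer.tw' (pwP i) ++ Fischer.tw' (pwP j)) p := by
  rw [act_mul _ _ hp, act_dd j hj hp]
  have h : ev RepU62.rows 9 (Fischer.tw' (pwP j)) p < 3510 := act_dd j hj hp ▸ act_lt _ hp
  rw [act_dd i hi h]
  exact (List.foldr_append ..).symm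

universe u
variable {G : Type u} [Group G] [Finite G] {D : Set G}

theorem no_invol {C : Cfg} (ok : Ok C) (hD : Cfsg.IsThreeTranspositionGroup D)
    (hprim : Cfsg.IsPrimitiveUnderConj D) (ht : Cfsg.IsOfTypeM22 G D) (z : pres.Grp) (hz : InK C z)
    (hz2 : z * z = 1) : z = 1 := by
  haveI := order.1
  by_contra hne
  haveI : Fact (Nat.Prime 2) := ⟨Nat.prime_two⟩
  obtain ⟨e, he⟩ := Norm.iso_fi22 hD hprim ht
  have hz' : orderOf z = 2 := orderOf_eq_prime (by rw [sq]; exact hz2) hne
  obtain ⟨l, hl, h1, h3, hprod, hfix⟩ := FrobInvol.fixed_good hD hprim ht ok.prime ok.five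
    (x := e (xel C)) (z := e z) (by rw [← map_pow, show xel C ^ C.P = 1 from ok.pow, map_one])
    ((MulEquiv.orderOf_eq e z).trans hz') (hz.1.symm.map e)
  -- each member is a fixed one
  have hmem : ∀ a ∈ l, ∃ i < C.fx.length, e (dd C i) = a := by
    intro a ha
    obtain ⟨d, hd, rfl⟩ : a ∈ e '' Fischer.Dc := by rw [he]; exact hl.2.1 a ha
    obtain ⟨i, hi, hid⟩ := (comm_x_iff ok ⟨d, hd⟩).mp
      (by simpa using ((hfix _ ha).map e.symm.toMonoidHom).symm)
    exact ⟨i, hi, congrArg e hid⟩
  have hsmall := ok.small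
  simp only [Cfg.smallOK, List.all_eq_true, List.mem_range, Bool.and_eq_true, Bool.or_eq_true,
    List.any_eq_true, Bool.not_eq_true'] at hsmall
  have hfixpt : ∀ f < C.fx.length, act z (C.pt f) = C.pt f := fun f hf => inK_fix ok hz (pt_mem ok hf)
  have hcomm : ∀ i < C.fx.length, ∀ j < C.fx.length, Commute (dd C i) (dd C j) → C.meets i j = false := by
    intro i hi j hj hc
    have h := meets_iff ok hi hj
    rw [(adjb_iff pts_ok (pt_lt ok hi) (pt_lt ok hj)).mpr hc] at h
    simpa using h.symm
  match l, hl, h1, h3, hprod, hmem with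
  | [a], _, _, _, hprod, hmem =>
    obtain ⟨i, hi, rfl⟩ := hmem a (by simp)
    obtain ⟨⟨f, hf, hb⟩, -⟩ := hsmall i hi
    simp only [List.prod_cons, List.prod_nil, mul_one] at hprod
    have := hfixpt f hf
    rw [← e.injective hprod, dd, act_dd _ (pt_lt ok hi) (pt_lt ok hf)] at this
    exact absurd this (Nat.ne_of_beq_eq_false hb)
  | [a, b], hl, _, _, hprod, hmem =>
    obtain ⟨i, hi, rfl⟩ := hmem a (by simp)
    obtain ⟨j, hj, rfl⟩ := hmem b (by simp)
    have hc : Commute (dd C i) (dd C j) := by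
      have := (hl.2.2 _ (by simp : e (dd C i) ∈ [e (dd C i), e (dd C j)]) _
        (by simp : e (dd C j) ∈ [e (dd C i), e (dd C j)])).map e.symm.toMonoidHom
      simpa using this
    have hij : i ≠ j := fun h => by simpa [h] using hl.1
    simp only [List.prod_cons, List.prod_nil, mul_one] at hprod
    rw [← map_mul] at hprod
    rcases (hsmall i hi).2 j hj with (h | h) | ⟨⟨f, hf, hb⟩, -⟩
    · exact hij (Nat.eq_of_beq_eq_true h)
    · rw [hcomm i hi j hj hc] at h; exact Bool.noConfusion h
    · have := hfixpt f hf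
      rw [← e.injective hprod, dd, dd, act_two (pt_lt ok hi) (pt_lt ok hj) (pt_lt ok hf)] at this
      exact Nat.ne_of_beq_eq_false hb this
  | [a, b, c], hl, _, _, _, hmem =>
    obtain ⟨i, hi, rfl⟩ := hmem a (by simp)
    obtain ⟨j, hj, rfl⟩ := hmem b (by simp)
    obtain ⟨k, hk, rfl⟩ := hmem c (by simp)
    have hcc : ∀ u v, e (dd C u) ∈ [e (dd C i), e (dd C j), e (dd C k)] →
        e (dd C v) ∈ [e (dd C i), e (dd C j), e (dd C k)] → Commute (dd C u) (dd C v) := by
      intro u v hu hv
      simpa using (hl.2.2 _ hu _ hv).map e.symm.toMonoidHom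
    have hn := hl.1
    simp only [List.nodup_cons, List.mem_cons, List.not_mem_nil, or_false, not_or, List.nodup_nil, and_true,
      not_false_eq_true] at hn
    have hij : i ≠ j := fun h => hn.1.1 (by rw [h])
    have hik : i ≠ k := fun h => hn.1.2 (by rw [h])
    have hjk : j ≠ k := fun h => hn.2 (by rw [h])
    rcases (hsmall i hi).2 j hj with (h | h) | ⟨-, h⟩
    · exact hij (Nat.eq_of_beq_eq_true h)
    · rw [hcomm i hi j hj (hcc i j (by simp) (by simp))] at h; exact Bool.noConfusion h
    · rcases h k hk with ((h | h) | h) | h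
      · exact hik (Nat.eq_of_beq_eq_true h)
      · exact hjk (Nat.eq_of_beq_eq_true h)
      · rw [hcomm i hi k hk (hcc i k (by simp) (by simp))] at h; exact Bool.noConfusion h
      · rw [hcomm j hj k hk (hcc j k (by simp) (by simp))] at h; exact Bool.noConfusion h

end Cfsg.Agent.Spor.M22U.Frob
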