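import Cfsg.Agent.Lib.Spor.M22UCent
import Cfsg.Agent.Lib.Spor.M22UPrimeCount
import Cfsg.Agent.Lib.Spor.M22UFacts

/-!
Normalizers of the subgroups of order thirteen and eleven in a group of type M(22).
-/

set_option autoImplicit false
set_option maxRecDepth 100000
set_option linter.unusedSectionVars false

namespace Cfsg.Agent.Spor.M22U.Primes

open Cfsg.Agent.Spor.CC Cfsg.Agent.Spor.Fi22Cert Cfsg.Agent.Spor.Fi22Cert.U62Act

universe u
variable {G : Type u} [Group G] [Finite G] {D : Set G}

theorem exists_iso_to {p : ℕ} (hp : p.Prime) (h1 : p ∣ 64561751654400) (h2 : ¬ p * p ∣ 64561751654400)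
    (hD : Cfsg.IsThreeTranspositionGroup D) (hprim : Cfsg.IsPrimitiveUnderConj D)
    (ht : Cfsg.IsOfTypeM22 G D) {x : pres.Grp} (hx : orderOf x = p) {X : Subgroup G} (hX : Nat.card X = p) :
    ∃ e : pres.Grp ≃* G, e '' Fischer.Dc = D ∧ (Subgroup.zpowers x).map e.toMonoidHom = X := by
  haveI := order.1
  obtain ⟨e, he⟩ := Norm.iso_fi22 hD hprim ht
  have hcard : Nat.card G = 64561751654400 := by rw [← Nat.card_congr e.toEquiv, order.2.1]
  have hX0 : Nat.card ((Subgroup.zpowers x).map e.toMonoidHom) = p := by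
    rw [← Nat.card_congr (Subgroup.equivMapOfInjective _ e.toMonoidHom e.injective).toEquiv, Nat.card_zpowers, hx]
  obtain ⟨g, hg⟩ := PrimeCount.conj_of_card hp (hcard.symm ▸ h1) (hcard.symm ▸ h2) hX0 hX
  refine ⟨e.trans (MulAut.conj g), ?_, ?_⟩
  · ext y
    constructor
    · rintro ⟨u, hu, rfl⟩
      exact hD.2.1 g _ (by rw [← he]; exact ⟨u, hu, rfl⟩)
    · intro hy
      have hy' : g⁻¹ * y * g ∈ D := (Spor.conj_mem_iff hD.2.1 g).1 hy
      rw [← he] at hy'
      obtain ⟨u, hu, hue⟩ := hy'
      exact ⟨u, hu, by show g * e u * g⁻¹ = y; rw [hue]; group⟩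
  · rw [← hg, Subgroup.map_map]; rfl

theorem cent_map (e : pres.Grp ≃* G) (x : pres.Grp) {g : G} :
    g ∈ Subgroup.centralizer (((Subgroup.zpowers x).map e.toMonoidHom : Subgroup G) : Set G) ↔
      Commute (e.symm g) x := by
  rw [Subgroup.mem_centralizer_iff]
  constructor
  · intro h
    apply e.injective
    rw [map_mul, map_mul, e.apply_symm_apply]
    exact (h _ ⟨x, Subgroup.mem_zpowers x, rfl⟩).symm
  · rintro h _ ⟨y, hy, rfl⟩
    obtain ⟨n, rfl⟩ := Subgroup.mem_zpowers_iff.mp hy
    have := (h.zpow_right n).map e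
    rw [e.apply_symm_apply] at this
    exact this.eq.symm

theorem normalizer13 (hD : Cfsg.IsThreeTranspositionGroup D) (hprim : Cfsg.IsPrimitiveUnderConj D)
    (ht : Cfsg.IsOfTypeM22 G D) {X : Subgroup G} (hX : Nat.card X = 13) :
    Nat.card ↥(Subgroup.normalizer (X : Set G)) = 78 ∧ Subgroup.centralizer (X : Set G) = X := by
  obtain ⟨e, -, rfl⟩ := exists_iso_to (by norm_num) (by norm_num) (by norm_num) hD hprim ht Cent.order13 hX
  set X := (Subgroup.zpowers Cent.e13el).map e.toMonoidHom
  have hcent : Subgroup.centralizer (X : Set G) = X := by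
    ext g
    rw [cent_map]
    constructor
    · intro h
      exact ⟨_, Cent.cent13 h, e.apply_symm_apply g⟩
    · rintro ⟨y, hy, rfl⟩
      obtain ⟨n, rfl⟩ := Subgroup.mem_zpowers_iff.mp hy
      show Commute (e.symm (e _)) _
      rw [e.symm_apply_apply]
      exact (Commute.refl _).zpow_left n
  refine ⟨?_, hcent⟩
  haveI := order.1
  have hcard : Nat.card G = 64561751654400 := by rw [← Nat.card_congr e.toEquiv, order.2.1]
  obtain ⟨m, n, hm, hn, h3, h4⟩ := PrimeCount.card_normalizer (by norm_num : Nat.Prime 13)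
    (by rw [hcard]; norm_num) (by rw [hcard]; norm_num) hX
  rw [h3, hcent, hX]
  rw [hcent, hX, hcard] at h4
  have hm12 : m ≤ 12 := Nat.le_of_dvd (by norm_num) hm
  interval_cases m <;> omega

theorem normalizer11 (hD : Cfsg.IsThreeTranspositionGroup D) (hprim : Cfsg.IsPrimitiveUnderConj D)
    (ht : Cfsg.IsOfTypeM22 G D) {X : Subgroup G} (hX : Nat.card X = 11) :
    ∃ (F : Subgroup G) (d : G), d ∈ D ∧ Nat.card ↥F = 55 ∧ X ≤ F ∧
      F ⊓ Subgroup.centralizer (X : Set G) = X ∧ F ⊓ Subgroup.zpowers d = ⊥ ∧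
      (∀ x ∈ F, ∀ y ∈ Subgroup.zpowers d, x * y = y * x) ∧
      F ⊔ Subgroup.zpowers d = Subgroup.normalizer (X : Set G) := by
  obtain ⟨e, he, rfl⟩ := exists_iso_to (by norm_num) (by norm_num) (by norm_num) hD hprim ht Cent.order11 hX
  set X := (Subgroup.zpowers Cent.e11el).map e.toMonoidHom with hXdef
  set d := e Cent.d11
  have hdD : d ∈ D := by rw [← he]; exact ⟨_, (Cent.dp CDat.f11).2, rfl⟩
  have hd2 : orderOf d = 2 := hD.1.1 d hdD
  have hdc : d ∈ Subgroup.centralizer (X : Set G) := by
    rw [cent_map, e.symm_apply_apply]; exact Cent.d11_comm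
  have hCcard : Nat.card ↥(Subgroup.centralizer (X : Set G)) = 22 := by
    haveI : Fintype ↥(Subgroup.centralizer (X : Set G)) := Fintype.ofFinite _
    apply Nat.dvd_antisymm
    · -- at most twenty-two, through the map onto the pairs
      have hle : Nat.card ↥(Subgroup.centralizer (X : Set G)) ≤ 22 := by
        let f : Fin 11 × Bool → ↥(Subgroup.centralizer (X : Set G)) := fun p =>
          ⟨e (Cent.e11el ^ (p.1 : ℕ) * bif p.2 then Cent.d11 else 1), by
            rw [cent_map, e.symm_apply_apply]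
            cases p.2
            · rw [cond_false, mul_one]; exact (Commute.refl _).pow_left _
            · exact ((Commute.refl _).pow_left _).mul_left Cent.d11_comm⟩
        have hf : Function.Surjective f := by
          rintro ⟨g, hg⟩
          rw [cent_map] at hg
          obtain ⟨j, h, hh, hgj⟩ := Cent.cent11 hg
          have hj : Cent.e11el ^ j = Cent.e11el ^ (j % 11) := by rw [← Cent.order11, pow_mod_orderOf]
          rcases hh with rfl | rfl
          · refine ⟨(⟨j % 11, Nat.mod_lt _ (by norm_num)⟩, false), Subtype.ext ?_⟩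
            show e (Cent.e11el ^ (j % 11) * 1) = g
            rw [← hj, ← hgj, e.apply_symm_apply]
          · refine ⟨(⟨j % 11, Nat.mod_lt _ (by norm_num)⟩, true), Subtype.ext ?_⟩
            show e (Cent.e11el ^ (j % 11) * Cent.d11) = g
            rw [← hj, ← hgj, e.apply_symm_apply]
        refine (Nat.card_le_card_of_surjective f hf).trans ?_
        simp
      have h11 : 11 ∣ Nat.card ↥(Subgroup.centralizer (X : Set G)) := by
        rw [← hX]
        refine Subgroup.card_dvd_of_le fun g hg => ?_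
        obtain ⟨y, hy, rfl⟩ := hg
        rw [cent_map]
        obtain ⟨n, rfl⟩ := Subgroup.mem_zpowers_iff.mp hy
        show Commute (e.symm (e _)) _
        rw [e.symm_apply_apply]
        exact (Commute.refl _).zpow_left n
      have h2 : 2 ∣ Nat.card ↥(Subgroup.centralizer (X : Set G)) := by
        rw [← hd2, ← Nat.card_zpowers]
        exact Subgroup.card_dvd_of_le (Subgroup.zpowers_le.mpr hdc)
      have h22 : 22 ∣ Nat.card ↥(Subgroup.centralizer (X : Set G)) :=
        Nat.Coprime.mul_dvd_of_dvd_of_dvd (by norm_num : Nat.Coprime 2 11) h2 h11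
      exact dvd_of_eq (Nat.le_antisymm hle (Nat.le_of_dvd Nat.card_pos h22))
    · have h11 : 11 ∣ Nat.card ↥(Subgroup.centralizer (X : Set G)) := by
        rw [← hX]
        refine Subgroup.card_dvd_of_le fun g hg => ?_
        obtain ⟨y, hy, rfl⟩ := hg
        rw [cent_map]
        obtain ⟨n, rfl⟩ := Subgroup.mem_zpowers_iff.mp hy
        show Commute (e.symm (e _)) _
        rw [e.symm_apply_apply]
        exact (Commute.refl _).zpow_left n
      have h2 : 2 ∣ Nat.card ↥(Subgroup.centralizer (X : Set G)) := by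
        rw [← hd2, ← Nat.card_zpowers]
        exact Subgroup.card_dvd_of_le (Subgroup.zpowers_le.mpr hdc)
      exact Nat.Coprime.mul_dvd_of_dvd_of_dvd (by norm_num : Nat.Coprime 2 11) h2 h11
  haveI := order.1
  have hcard : Nat.card G = 64561751654400 := by rw [← Nat.card_congr e.toEquiv, order.2.1]
  have hN : Nat.card ↥(Subgroup.normalizer (X : Set G)) = 110 := by
    obtain ⟨m, n, hm, hn, h3, h4⟩ := PrimeCount.card_normalizer (by norm_num : Nat.Prime 11)
      (by rw [hcard]; norm_num) (by rw [hcard]; norm_num) hX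
    rw [h3, hCcard]
    rw [hCcard, hcard] at h4
    have hm10 : m ≤ 10 := Nat.le_of_dvd (by norm_num) hm
    interval_cases m <;> omega
  set N := Subgroup.normalizer (X : Set G)
  have hXN : X ≤ N := Subgroup.le_normalizer
  -- the member is normalised
  have hdN : ∀ g ∈ N, g * d * g⁻¹ = d := by
    intro g hg
    have h1 : g * d * g⁻¹ ∈ Subgroup.centralizer (X : Set G) := by
      rw [Subgroup.mem_centralizer_iff]
      intro h hh
      rw [Subgroup.mem_centralizer_iff] at hdc
      have := hdc _ ((Subgroup.mem_normalizer_iff''.mp hg h).mp hh)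
      calc h * (g * d * g⁻¹) = g * ((g⁻¹ * h * g) * d) * g⁻¹ := by group
        _ = g * (d * (g⁻¹ * h * g)) * g⁻¹ := by rw [this]
        _ = g * d * g⁻¹ * h := by group
    rw [cent_map] at h1
    obtain ⟨u, hu, hue⟩ : g * d * g⁻¹ ∈ e '' Fischer.Dc := by rw [he]; exact hD.2.1 g d hdD
    rw [← hue, e.symm_apply_apply] at h1
    rw [← hue]
    exact congrArg e (Cent.unique11 (d := ⟨u, hu⟩) h1)
  haveI : (X.subgroupOf N).Normal := Subgroup.normal_in_normalizer
  have hQ : Nat.card (↥N ⧸ X.subgroupOf N) = 10 := by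
    have h := Subgroup.card_eq_card_quotient_mul_card_subgroup (X.subgroupOf N)
    rw [hN, Nat.card_congr (Subgroup.subgroupOfEquivOfLe hXN).toEquiv, hX] at h
    omega
  haveI : Fact (Nat.Prime 5) := ⟨by norm_num⟩
  obtain ⟨q, hq⟩ := exists_prime_orderOf_dvd_card' 5 (by rw [hQ]; norm_num : 5 ∣ Nat.card (↥N ⧸ X.subgroupOf N))
  set F0 := (Subgroup.zpowers q).comap (QuotientGroup.mk' (X.subgroupOf N))
  have hidx : F0.index = 2 := by
    rw [Subgroup.index_comap_of_surjective _ (QuotientGroup.mk'_surjective _)]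
    have := Subgroup.card_mul_index (Subgroup.zpowers q)
    rw [Nat.card_zpowers, hq, hQ] at this
    omega
  have hF0 : Nat.card F0 = 55 := by
    have := Subgroup.card_mul_index F0
    rw [hidx, hN] at this
    omega
  set F := F0.map N.subtype
  have hFN : F ≤ N := Subgroup.map_subtype_le _
  have hFcard : Nat.card F = 55 := by
    rw [← Nat.card_congr (Subgroup.equivMapOfInjective _ _ N.subtype_injective).toEquiv, hF0]
  have hXF : X ≤ F := fun g hg => ⟨⟨g, hXN hg⟩, by
    show QuotientGroup.mk' _ _ ∈ Subgroup.zpowers q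
    rw [show QuotientGroup.mk' (X.subgroupOf N) ⟨g, hXN hg⟩ = 1 from (QuotientGroup.eq_one_iff _).mpr hg]
    exact one_mem _, rfl⟩
  refine ⟨F, d, hdD, hFcard, hXF, ?_, ?_, ?_, ?_⟩
  · refine (Subgroup.eq_of_le_of_card_ge (le_inf hXF ?_) ?_).symm
    · intro g hg
      obtain ⟨y, hy, rfl⟩ := hg
      rw [cent_map]
      obtain ⟨n, rfl⟩ := Subgroup.mem_zpowers_iff.mp hy
      show Commute (e.symm (e _)) _
      rw [e.symm_apply_apply]
      exact (Commute.refl _).zpow_left n
    · rw [hX]
      refine Nat.le_of_dvd (by norm_num) ?_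
      have h1 := Subgroup.card_dvd_of_le (inf_le_left : F ⊓ Subgroup.centralizer (X : Set G) ≤ F)
      have h2 := Subgroup.card_dvd_of_le (inf_le_right : F ⊓ Subgroup.centralizer (X : Set G) ≤ _)
      rw [hFcard] at h1
      rw [hCcard] at h2
      exact Nat.dvd_gcd h1 h2
  · refine Subgroup.eq_bot_of_card_le _ ?_
    refine Nat.le_of_dvd (by norm_num) ?_
    have h1 := Subgroup.card_dvd_of_le (inf_le_left : F ⊓ Subgroup.zpowers d ≤ F)
    have h2 := Subgroup.card_dvd_of_le (inf_le_right : F ⊓ Subgroup.zpowers d ≤ _)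
    rw [hFcard] at h1
    rw [Nat.card_zpowers, hd2] at h2
    exact Nat.dvd_gcd h1 h2
  · intro g hg y hy
    obtain ⟨n, rfl⟩ := Subgroup.mem_zpowers_iff.mp hy
    have hcm : Commute g d := mul_inv_eq_iff_eq_mul.mp (hdN g (hFN hg))
    exact (hcm.zpow_right n).eq
  · refine Subgroup.eq_of_le_of_card_ge (sup_le hFN (Subgroup.zpowers_le.mpr ?_)) ?_
    · rw [Subgroup.mem_normalizer_iff]
      intro h
      rw [Subgroup.mem_centralizer_iff] at hdc
      constructor
      · intro hh
        rwa [← hdc h hh, mul_inv_cancel_right]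
      · intro hh
        have h' := hdc _ hh
        have e' : h = d * h * d⁻¹ := by
          calc h = d⁻¹ * ((d * h * d⁻¹) * d) := by group
            _ = d⁻¹ * (d * (d * h * d⁻¹)) := by rw [h']
            _ = d * h * d⁻¹ := by group
        rw [e']; exact hh
    · rw [hN]
      refine Nat.le_of_dvd Nat.card_pos ?_
      have h1 := Subgroup.card_dvd_of_le (le_sup_left : F ≤ F ⊔ Subgroup.zpowers d)
      have h2 := Subgroup.card_dvd_of_le (le_sup_right : Subgroup.zpowers d ≤ F ⊔ Subgroup.zpowers d)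
      rw [hFcard] at h1
      rw [Nat.card_zpowers, hd2] at h2
      exact Nat.Coprime.mul_dvd_of_dvd_of_dvd (by norm_num : Nat.Coprime 55 2) h1 h2

end Cfsg.Agent.Spor.M22U.Primes
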