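import Cfsg.Agent.Lib.Spor.M22UFrobGroup
import Cfsg.Agent.Lib.Spor.M22UPrimes

/-!
The normaliser of an element of prime order with several fixed members is the product of a Frobenius group
and the symmetric group on the fixed members.
-/

set_option autoImplicit false
set_option maxRecDepth 100000
set_option linter.unusedSectionVars false
set_option maxHeartbeats 1000000

namespace Cfsg.Agent.Spor.M22U.Frob

open Cfsg.Agent.Spor.CC Cfsg.Agent.Spor.Fi22Cert Cfsg.Agent.Spor.Fi22Cert.U62Act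
open Cfsg.Agent.Spor.M22U.Cent

variable {C : Cfg} (ok : Ok C)
variable (hinv : ∀ z, InK C z → z * z = 1 → z = 1) (hch : ChainOK C) (hsw : SwapOK C)

/-- the normaliser of the element -/
noncomputable def Nx (C : Cfg) : Subgroup pres.Grp :=
  Subgroup.normalizer ((Subgroup.zpowers (xel C) : Subgroup pres.Grp) : Set pres.Grp)

/-- the Frobenius factor -/
noncomputable def Fp (C : Cfg) : Subgroup pres.Grp := Nx C ⊓ Subgroup.centralizer (Fx C)

theorem cent_fx_iff {g : pres.Grp} :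
    g ∈ Subgroup.centralizer (Fx C) ↔ ∀ i < C.fx.length, Commute g (dd C i) := by
  rw [Subgroup.mem_centralizer_iff]
  exact ⟨fun h i hi => (h _ ⟨i, hi, rfl⟩).symm, fun h g' ⟨i, hi, e⟩ => e ▸ (h i hi).eq.symm⟩

theorem fp_comm {a s : pres.Grp} (ha : a ∈ Fp C) (hs : s ∈ Sg C) : a * s = s * a := by
  have h1 : Fx C ⊆ (Subgroup.centralizer ({a} : Set pres.Grp) : Set pres.Grp) := by
    intro d hd
    rw [SetLike.mem_coe, Subgroup.mem_centralizer_singleton_iff]
    exact Subgroup.mem_centralizer_iff.mp ha.2 d hd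
  exact (Subgroup.mem_centralizer_singleton_iff.mp ((Subgroup.closure_le _).mpr h1 hs)).symm

theorem comm_zpowers_iff {g : pres.Grp} :
    g ∈ Subgroup.centralizer ((Subgroup.zpowers (xel C) : Subgroup pres.Grp) : Set pres.Grp) ↔
      Commute g (xel C) := by
  rw [Subgroup.mem_centralizer_iff]
  constructor
  · exact fun h => (h _ (Subgroup.mem_zpowers _)).symm
  · intro h y hy
    obtain ⟨n, rfl⟩ := Subgroup.mem_zpowers_iff.mp hy
    exact (h.zpow_right n).eq.symm

include ok in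
theorem sg_le_nx : Sg C ≤ Nx C := by
  refine (Subgroup.closure_le _).mpr ?_
  rintro _ ⟨i, hi, rfl⟩
  exact Subgroup.centralizer_le_normalizer _ (comm_zpowers_iff.mpr (dd_comm_x ok hi))

include ok hinv in
theorem fp_cent : Fp C ⊓ Subgroup.centralizer ((Subgroup.zpowers (xel C) : Subgroup pres.Grp) : Set pres.Grp) =
    Subgroup.zpowers (xel C) := by
  refine le_antisymm (fun g hg => inK_zpowers ok hinv ⟨comm_zpowers_iff.mp hg.2, cent_fx_iff.mp hg.1.2⟩) ?_
  rw [Subgroup.zpowers_le]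
  exact ⟨⟨Subgroup.le_normalizer (Subgroup.mem_zpowers _), cent_fx_iff.mpr (x_inK ok).2⟩,
    comm_zpowers_iff.mpr (Commute.refl _)⟩

include ok hinv hsw in
theorem fp_sg : Fp C ⊓ Sg C = ⊥ := by
  rw [eq_bot_iff]
  intro g hg
  exact sg_inK ok hinv hsw hg.2 ⟨sg_comm_x ok hsw hg.2, cent_fx_iff.mp hg.1.2⟩

include ok hch hsw in
theorem fp_sup : Fp C ⊔ Sg C = Nx C := by
  haveI := order.1
  refine le_antisymm (sup_le inf_le_left (sg_le_nx ok)) fun g hg => ?_
  have hpow : ∀ (h : pres.Grp), h ∈ Nx C → ∀ j : ℕ, ∃ l : ℕ, h * xel C ^ j * h⁻¹ = xel C ^ l := by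
    intro h hh j
    obtain ⟨l, hl⟩ : h * xel C ^ j * h⁻¹ ∈ Submonoid.powers (xel C) :=
      mem_powers_iff_mem_zpowers.mpr
        ((Subgroup.mem_normalizer_iff.mp hh _).mp (Subgroup.npow_mem_zpowers _ _))
    exact ⟨l, hl.symm⟩
  obtain ⟨s, hs, hc⟩ := exists_sg ok hch hsw (g := g) fun i hi =>
    norm_perm ok (hpow g hg) (fun j => by simpa using hpow g⁻¹ (inv_mem hg) j) hi
  have hf : s⁻¹ * g ∈ Fp C := Subgroup.mem_inf.mpr ⟨Subgroup.mul_mem _ (Subgroup.inv_mem _ (sg_le_nx ok hs)) hg, cent_fx_iff.mpr hc⟩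
  rw [show g = s * (s⁻¹ * g) by group]
  exact mul_mem (Subgroup.mem_sup_right hs) (Subgroup.mem_sup_left hf)

include ok in
theorem nw_conj_pow (i : ℕ) : el C.nw ^ i * xel C * (el C.nw ^ i)⁻¹ = xel C ^ (C.k ^ i) := by
  induction i with
  | zero => simp
  | succ i ih =>
    calc el C.nw ^ (i + 1) * xel C * (el C.nw ^ (i + 1))⁻¹
        = el C.nw * (el C.nw ^ i * xel C * (el C.nw ^ i)⁻¹) * (el C.nw)⁻¹ := by rw [pow_succ']; group
      _ = (el C.nw * xel C * (el C.nw)⁻¹) ^ (C.k ^ i) := by rw [ih, conj_pow]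
      _ = xel C ^ (C.k ^ (i + 1)) := by rw [show el C.nw * xel C * (el C.nw)⁻¹ = xel C ^ C.k from ok.conj,
        ← pow_mul, pow_succ']

include ok hinv in
theorem fp_card (hpi : ∀ i < C.P - 1, ∀ j < C.P - 1, C.k ^ i % C.P = C.k ^ j % C.P → i = j) :
    Nat.card (Fp C) = (C.P - 1) * C.P := by
  haveI := order.1
  obtain ⟨-, -, -, -, -, -, -, hnf, -, -, -, hnw⟩ := basics ok
  have hP0 : 0 < C.P := ok.prime.pos
  have hx0 := order_x ok
  have hcfx : el C.nw ∈ Subgroup.centralizer (Fx C) := by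
    rw [cent_fx_iff]
    intro i hi
    rw [dd, commute_dp_iff _ (pt_lt ok hi), act_el hnw (pt_lt ok hi)]
    exact (hnf _ (pt_mem ok hi)).2
  have hnN : el C.nw ∈ Nx C := by
    rw [Nx, Subgroup.mem_normalizer_iff]
    have h1 : (Subgroup.zpowers (xel C)).map (MulAut.conj (el C.nw)).toMonoidHom = Subgroup.zpowers (xel C) := by
      refine Subgroup.eq_of_le_of_card_ge ?_ ?_
      · rw [MonoidHom.map_zpowers, Subgroup.zpowers_le]
        show el C.nw * xel C * (el C.nw)⁻¹ ∈ _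
        rw [show el C.nw * xel C * (el C.nw)⁻¹ = xel C ^ C.k from ok.conj]
        exact Subgroup.npow_mem_zpowers _ _
      · rw [← Nat.card_congr (Subgroup.equivMapOfInjective _ (MulAut.conj (el C.nw)).toMonoidHom
          (MulAut.conj (el C.nw)).injective).toEquiv]
    intro h
    constructor
    · intro hh; rw [← h1]; exact ⟨h, hh, rfl⟩
    · intro hh; rw [← h1] at hh
      obtain ⟨y, hy, e⟩ := hh
      rwa [show y = h from mul_left_cancel (mul_right_cancel e)] at hy
  have hxF : xel C ∈ Fp C := ⟨Subgroup.le_normalizer (Subgroup.mem_zpowers _), cent_fx_iff.mpr (x_inK ok).2⟩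
  let f : Fin (C.P - 1) × Fin C.P → Fp C := fun p =>
    ⟨el C.nw ^ (p.1 : ℕ) * xel C ^ (p.2 : ℕ), Subgroup.mul_mem _ (Subgroup.pow_mem _ (Subgroup.mem_inf.mpr ⟨hnN, hcfx⟩ : el C.nw ∈ Fp C) _) (Subgroup.pow_mem _ hxF _)⟩
  have hbij : Function.Bijective f := by
    constructor
    · rintro ⟨i, l⟩ ⟨j, m⟩ h
      have h' : el C.nw ^ (i : ℕ) * xel C ^ (l : ℕ) = el C.nw ^ (j : ℕ) * xel C ^ (m : ℕ) := congrArg Subtype.val h
      have e : ∀ (i l : ℕ), el C.nw ^ i * xel C ^ l * xel C * (el C.nw ^ i * xel C ^ l)⁻¹ = xel C ^ (C.k ^ i) :=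
        fun i l => by rw [← nw_conj_pow ok i]; group
      have h2 := e i l
      rw [h', e j m] at h2
      have h3 : (i : ℕ) = j := hpi _ i.2 _ j.2 (by
        have h5 := pow_eq_pow_iff_modEq.mp h2
        rw [hx0] at h5
        exact h5.symm)
      rw [h3] at h'
      have h4 := pow_eq_pow_iff_modEq.mp (mul_left_cancel h')
      rw [hx0, Nat.ModEq, Nat.mod_eq_of_lt l.2, Nat.mod_eq_of_lt m.2] at h4
      exact Prod.ext (Fin.ext h3) (Fin.ext h4)
    · rintro ⟨g, hgN, hgc⟩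
      obtain ⟨j, hj⟩ : g * xel C * g⁻¹ ∈ Submonoid.powers (xel C) :=
        mem_powers_iff_mem_zpowers.mpr ((Subgroup.mem_normalizer_iff.mp hgN _).mp (Subgroup.mem_zpowers _))
      have hj0 : 1 ≤ j % C.P := by
        by_contra h
        have h0 : xel C ^ j = 1 := by rw [← pow_mod_orderOf, hx0, show j % C.P = 0 by omega, pow_zero]
        change xel C ^ j = _ at hj
        rw [h0, eq_comm, conj_eq_one_iff] at hj
        rw [hj, orderOf_one] at hx0
        have := ok.five; omega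
      obtain ⟨i, hi, he⟩ := ok.prim _ hj0 (Nat.mod_lt _ hP0)
      set r := (el C.nw ^ i)⁻¹ * g
      have hr : Commute r (xel C) := by
        have h1 : g * xel C * g⁻¹ = el C.nw ^ i * xel C * (el C.nw ^ i)⁻¹ := by
          rw [nw_conj_pow ok, ← hj]
          exact pow_eq_pow_iff_modEq.mpr (by rw [hx0]; exact he.symm)
        show r * xel C = xel C * r
        calc r * xel C = (el C.nw ^ i)⁻¹ * (g * xel C * g⁻¹) * g := by simp only [r]; group
          _ = xel C * r := by rw [h1]; simp only [r]; group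
      obtain ⟨l, hl⟩ : r ∈ Submonoid.powers (xel C) := mem_powers_iff_mem_zpowers.mpr
        (inK_zpowers ok hinv ⟨hr, cent_fx_iff.mp (mul_mem (inv_mem (pow_mem hcfx _)) hgc)⟩)
      refine ⟨(⟨i, hi⟩, ⟨l % C.P, Nat.mod_lt _ hP0⟩), Subtype.ext ?_⟩
      show el C.nw ^ i * xel C ^ (l % C.P) = g
      rw [← hx0, pow_mod_orderOf, show xel C ^ l = r from hl]
      simp only [r]; group
  rw [← Nat.card_congr (Equiv.ofBijective f hbij), Nat.card_prod, Nat.card_fin, Nat.card_fin]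

universe u
variable {G : Type u} [Group G] [Finite G] {D : Set G}

theorem centralizer_map (e : pres.Grp ≃* G) (A : Set pres.Grp) :
    Subgroup.centralizer (e '' A) = (Subgroup.centralizer A).map e.toMonoidHom := by
  ext g
  rw [Subgroup.mem_map_equiv, Subgroup.mem_centralizer_iff, Subgroup.mem_centralizer_iff]
  constructor
  · intro h a ha
    have := h _ ⟨a, ha, rfl⟩
    apply e.injective
    rw [map_mul, map_mul, e.apply_symm_apply]
    exact this
  · rintro h _ ⟨a, ha, rfl⟩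
    have := congrArg e (h a ha)
    rwa [map_mul, map_mul, e.apply_symm_apply] at this

include ok hinv hch hsw in
theorem main (hpi : ∀ i < C.P - 1, ∀ j < C.P - 1, C.k ^ i % C.P = C.k ^ j % C.P → i = j)
    (e : pres.Grp ≃* G) (he : e '' Fischer.Dc = D) :
    ∃ F : Subgroup G, Nat.card ↥F = (C.P - 1) * C.P ∧ (Subgroup.zpowers (xel C)).map e.toMonoidHom ≤ F ∧
      F ⊓ Subgroup.centralizer ((((Subgroup.zpowers (xel C)).map e.toMonoidHom : Subgroup G)) : Set G) =
        (Subgroup.zpowers (xel C)).map e.toMonoidHom ∧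
      Subgroup.closure (D ∩ (Subgroup.centralizer ((((Subgroup.zpowers (xel C)).map e.toMonoidHom : Subgroup G)) :
        Set G) : Set G)) = (Sg C).map e.toMonoidHom ∧
      F ⊓ (Sg C).map e.toMonoidHom = ⊥ ∧
      (∀ x ∈ F, ∀ y ∈ (Sg C).map e.toMonoidHom, x * y = y * x) ∧
      F ⊔ (Sg C).map e.toMonoidHom =
        Subgroup.normalizer ((((Subgroup.zpowers (xel C)).map e.toMonoidHom : Subgroup G)) : Set G) ∧
      Nonempty (↥((Sg C).map e.toMonoidHom) ≃* Equiv.Perm (Fin C.n)) := by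
  have hcent : Subgroup.centralizer ((((Subgroup.zpowers (xel C)).map e.toMonoidHom : Subgroup G)) : Set G) =
      (Subgroup.centralizer ((Subgroup.zpowers (xel C) : Subgroup pres.Grp) : Set pres.Grp)).map e.toMonoidHom := by
    rw [← centralizer_map]; rfl
  refine ⟨(Fp C).map e.toMonoidHom, ?_, ?_, ?_, ?_, ?_, ?_, ?_, ?_⟩
  · rw [← Nat.card_congr (Subgroup.equivMapOfInjective _ _ e.injective).toEquiv, fp_card ok hinv hpi]
  · exact Subgroup.map_mono ((fp_cent ok hinv).ge.trans inf_le_left)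
  · rw [hcent, ← Subgroup.map_inf _ _ _ e.injective, fp_cent ok hinv]
  · rw [hcent, Sg, MonoidHom.map_closure]
    congr 1
    ext g
    constructor
    · rintro ⟨hg, hc⟩
      rw [← he] at hg
      obtain ⟨d, hd, rfl⟩ := hg
      obtain ⟨c, hc, hce⟩ := hc
      rw [e.injective hce] at hc
      exact ⟨d, (comm_x_iff ok ⟨d, hd⟩).mp (comm_zpowers_iff.mp hc), rfl⟩
    · rintro ⟨d, ⟨i, hi, rfl⟩, rfl⟩
      refine ⟨by rw [← he]; exact ⟨_, (dp _).2, rfl⟩, ⟨_, comm_zpowers_iff.mpr (dd_comm_x ok hi), rfl⟩⟩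
  · rw [← Subgroup.map_inf _ _ _ e.injective, fp_sg ok hinv hsw, Subgroup.map_bot]
  · rintro _ ⟨a, ha, rfl⟩ _ ⟨b, hb, rfl⟩
    rw [← map_mul, ← map_mul, fp_comm ha hb]
  · rw [← Subgroup.map_sup, fp_sup ok hch hsw, Nx, Subgroup.map_equiv_normalizer_eq]
  · obtain ⟨φ⟩ := sg_iso ok hinv hsw
    exact ⟨(Subgroup.equivMapOfInjective _ _ e.injective).symm.trans φ⟩

end Cfsg.Agent.Spor.M22U.Frob
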