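import Cfsg.Agent.Lib.Spor.CoverUnitarySix
import Cfsg.Agent.Lib.Spor.SUSixPoints

/-!
An involution of PSU(6,2) is a transvection or has a conjugate with which it has a product of order
above three.
-/

set_option autoImplicit false
set_option linter.unusedSectionVars false

namespace Cfsg.Agent.Spor.M22U.Invol

open Matrix Cfsg.Agent.Small Cfsg.Agent.Small.Unitary Cfsg.Agent.Spor.SpFour
open Cfsg.Agent.Spor.CoverUnitarySix (T T_conj T_sq act_T T_iso)

instance instCharTwoF4 : CharP F4 2 := CharTwo.of_one_ne_zero_of_two_eq_zero one_ne_zero (by decide +kernel)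

/-- column vectors -/
abbrev V6 : Type := SUSix.V6
/-- the group -/
abbrev G6 : Type := SUSix.G6
/-- the transvection of a vector -/
noncomputable abbrev TV (v : V6) : G6 := T F4.star_eq_pow v
/-- the projection -/
abbrev mk : G6 →* Cfsg.PSU 6 F4 2 := QuotientGroup.mk' (Subgroup.center G6)

theorem vsub' (x y : V6) : x - y = x + y := CoverUnitarySix.vsub F4.star_eq_pow x y

theorem hh (v w : V6) (g : G6) : herm (act g v) (act g w) = herm v w := herm_act F4.star_eq_pow g v w

theorem step {g : G6} (hg : g * g = 1) (hg1 : g ≠ 1) :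
    ∃ v u : V6, u = act g v - v ∧ herm u v = 1 ∧ herm u u = 0 ∧ act g u = u ∧
      (∀ z, herm u (act g z - z) = 0) := by
  have hinv : ∀ v, act g (act g v) = v := fun v => by rw [← act_mul, hg, act_one]
  have hadj : ∀ x y, herm (act g x) y = herm x (act g y) := fun x y => by
    conv_lhs => rw [← hinv y]
    exact hh x (act g y) g
  have hF : Fintype.card F4 = 4 := F4.card
  obtain ⟨v, hv⟩ : ∃ v, herm (act g v - v) v ≠ 0 := by
    by_contra hno
    push Not at hno
    apply hg1
    refine eq_one_of_act fun k => ?_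
    obtain ⟨w, hw0, hw1⟩ := CoverThreeFour.exists_omega hF
    have hall : ∀ a b, herm (act g a - a) b = 0 := by
      intro a b
      have h1 := hno (a + b)
      have h3 := hno (a + w • b)
      simp only [act_add, act_smul, herm_sub_left, herm_add_left, herm_add_right, herm_smul_left,
        herm_smul_right] at h1 h3
      have ha := hno a
      have hb := hno b
      rw [herm_sub_left] at ha hb ⊢
      obtain ⟨hww, hws, -⟩ := CoverUnitarySix.omega_mul F4.star_eq_pow hF hw0 hw1
      rw [hws] at h3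
      have hp : herm (act g a) b - herm a b + (herm (act g b) a - herm b a) = 0 := by
        linear_combination h1 - ha - hb
      have hq : w * (herm (act g a) b - herm a b) + w * w * (herm (act g b) a - herm b a) = 0 := by
        linear_combination h3 - ha - w * (w * w) * hb
      have : (w * w - w) * (herm (act g a) b - herm a b) = 0 := by
        linear_combination (w * w) * hp - hq
      rcases mul_eq_zero.mp this with h | h
      · exact absurd (mul_left_cancel₀ hw0 ((sub_eq_zero.mp h).trans (mul_one w).symm)) hw1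
      · exact h
    funext i
    have := hall (Pi.single k 1) (Pi.single i 1)
    rw [herm_single_right, mul_one, star_eq_zero, Pi.sub_apply, sub_eq_zero] at this
    exact this
  refine ⟨v, _, rfl, ?_, ?_, ?_, ?_⟩
  · refine (CoverUnitarySix.self_conj_cases F4.star_eq_pow ?_).resolve_left hv
    rw [star_herm, herm_sub_left, herm_sub_right, hadj v v]
  · have h1 : herm (act g v) (act g v) = herm v v := hh v v g
    have h2' : herm (act g v) v = herm v (act g v) := hadj v v
    rw [herm_sub_left, herm_sub_right, herm_sub_right, h1, h2']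
    simp [CharTwo.sub_eq_add, CharTwo.add_self_eq_zero, add_comm]
  · rw [act_sub, hinv, vsub', vsub', add_comm]
  · intro z
    rw [herm_sub_right, ← hadj, act_sub, hinv, vsub', vsub', add_comm v, sub_self]

/-- the combination -/
def comb (U : Fin 4 → V6) (c : Fin 4 → F4) : V6 := c 0 • U 0 + c 1 • U 1 + c 2 • U 2 + c 3 • U 3

/-- the form on coordinates -/
def h4 (a b : Fin 4 → F4) : F4 := star (a 0) * b 1 + star (a 1) * b 0 + star (a 2) * b 3 + star (a 3) * b 2

/-- the involution on coordinates -/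
def g4 (c : Fin 4 → F4) : Fin 4 → F4 := ![c 0 + c 1, c 1, c 2 + c 3, c 3]

/-- a transvection on coordinates -/
def t4 (a c : Fin 4 → F4) : Fin 4 → F4 := c + h4 a c • a

/-- hyperbolic coordinates -/
structure Block (g : G6) where
  /-- the vectors -/
  U : Fin 4 → V6
  gram : ∀ a b, herm (comb U a) (comb U b) = h4 a b
  move : ∀ c, act g (comb U c) = comb U (g4 c)

theorem f4_facts : ∀ n : F4, star n = n → ∃ α : F4, n + α + star α = 0 := by decide +kernel

theorem exists_block {g : G6} (hg : g * g = 1) (hg1 : g ≠ 1) (hnt : ∀ u, herm u u = 0 → g ≠ TV u) :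
    Nonempty (Block g) := by
  obtain ⟨v, u, hu, huv, huu, hgu, huo⟩ := step hg hg1
  have hTg : TV u * g = g * TV u := by
    have := T_conj F4.star_eq_pow g u
    rw [hgu, mul_inv_eq_iff_eq_mul] at this
    exact this.symm
  set g' := TV u * g with hg'
  have hg'2 : g' * g' = 1 := by
    calc g' * g' = TV u * (g * TV u) * g := by rw [hg']; group
      _ = (TV u * TV u) * (g * g) := by rw [← hTg, hg']; group
      _ = 1 := by rw [T_sq, hg, one_mul]
  have hg'1 : g' ≠ 1 := fun h => hnt u huu (by
    rw [hg'] at h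
    calc g = (TV u * TV u) * g := by rw [T_sq, one_mul]
      _ = TV u := by rw [mul_assoc, h, mul_one])
  have hgg : ∀ x, act g x = act g' x + herm u (act g' x) • u := fun x => by
    rw [← act_T F4.star_eq_pow huu, ← act_mul, hg', ← mul_assoc, T_sq, one_mul]
  obtain ⟨v₂, u₂, hu₂, hu₂v, hu₂u, hgu₂, huo₂⟩ := step hg'2 hg'1
  have hstar : ∀ x : F4, star x = x ^ 2 := F4.star_eq_pow
  have hs2 : ∀ a : F4, star (star a) = a := star_star
  have hsw : ∀ x y : V6, herm x y = 0 → herm y x = 0 := fun x y h => by rw [← star_herm, h, star_zero]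
  have hvu : herm v u = 1 := by rw [← star_herm, huv, star_one]
  have hv₂u₂ : herm v₂ u₂ = 1 := by rw [← star_herm, hu₂v, star_one]
  have hgv : act g v = v + u := by rw [hu, add_sub_cancel]
  have hg'v : act g' v = v := by
    rw [hg', act_mul, hgv, act_T hstar huu, herm_add_right, huu, add_zero, huv, one_smul, add_assoc,
      CoverUnitarySix.vadd_self hstar, add_zero]
  have hg'u : act g' u = u := by
    rw [hg', act_mul, hgu, act_T hstar huu, huu, zero_smul, add_zero]
  have hfix : ∀ x, act g' x = x → herm u₂ x = 0 := fun x hx => by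
    rw [hu₂, herm_sub_left]
    conv_lhs => arg 1; rw [← hx, hh]
    exact sub_self _
  have hu₂u' : herm u₂ u = 0 := hfix u hg'u
  have huu₂ : herm u u₂ = 0 := hsw _ _ hu₂u'
  -- first vector isotropic
  obtain ⟨α, hα⟩ := f4_facts (herm v v) (star_herm v v)
  set v1 := v + α • u with hv1
  have e1 : herm u v1 = 1 := by rw [hv1, herm_add_right, herm_smul_right, huu, huv, mul_zero, add_zero]
  have e2 : herm v1 v1 = 0 := by
    simp only [hv1, herm_add_left, herm_add_right, herm_smul_left, herm_smul_right, huu, huv, hvu,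
      mul_zero, add_zero, mul_one]
    linear_combination hα
  have e3 : act g' v1 = v1 := by rw [hv1, act_add, act_smul, hg'v, hg'u]
  have e4 : herm u₂ v1 = 0 := hfix v1 e3
  -- second vector
  set a := herm u v₂
  set w := v₂ + a • v1 with hw
  have f1 : herm u w = 0 := by
    rw [hw, herm_add_right, herm_smul_right, e1, mul_one]; exact CharTwo.add_self_eq_zero a
  have f2 : herm u₂ w = 1 := by rw [hw, herm_add_right, herm_smul_right, e4, hu₂v, mul_zero, add_zero]
  have f3 : act g' w = w + u₂ := by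
    rw [hw, act_add, act_smul, e3, hu₂]; abel
  obtain ⟨β, hβ⟩ := f4_facts (herm w w) (star_herm w w)
  set v2 := w + β • u₂ with hv2
  have g1 : herm u v2 = 0 := by rw [hv2, herm_add_right, herm_smul_right, huu₂, f1, mul_zero, add_zero]
  have g2 : herm u₂ v2 = 1 := by rw [hv2, herm_add_right, herm_smul_right, hu₂u, f2, mul_zero, add_zero]
  have g3 : herm v2 v2 = 0 := by
    have f2' : herm w u₂ = 1 := by rw [← star_herm, f2, star_one]
    simp only [hv2, herm_add_left, herm_add_right, herm_smul_left, herm_smul_right, hu₂u, f2, f2',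
      mul_zero, add_zero, mul_one]
    linear_combination hβ
  have g4' : act g' v2 = v2 + u₂ := by rw [hv2, act_add, act_smul, f3, hgu₂]; abel
  -- orthogonality of the two
  set μ := star (herm v1 v2)
  set v1' := v1 + μ • u₂ with hv1'
  have p1 : herm u v1' = 1 := by rw [hv1', herm_add_right, herm_smul_right, huu₂, e1, mul_zero, add_zero]
  have p2 : herm v1' v1' = 0 := by
    have e4' : herm v1 u₂ = 0 := hsw _ _ e4
    simp only [hv1', herm_add_left, herm_add_right, herm_smul_left, herm_smul_right, hu₂u, e2, e4, e4',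
      mul_zero, add_zero]
  have p3 : herm v1' v2 = 0 := by
    rw [hv1', herm_add_left, herm_smul_left, g2, mul_one, hs2]; exact CharTwo.add_self_eq_zero _
  have p4 : herm u₂ v1' = 0 := by rw [hv1', herm_add_right, herm_smul_right, hu₂u, e4, mul_zero, add_zero]
  have p5 : act g v1' = v1' + u := by
    rw [hgg, show act g' v1' = v1' by rw [hv1', act_add, act_smul, e3, hgu₂], p1, one_smul]
  have p6 : act g v2 = v2 + u₂ := by
    rw [hgg, g4', herm_add_right, g1, huu₂, add_zero, zero_smul, add_zero]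
  have p7 : act g u₂ = u₂ := by rw [hgg, hgu₂, huu₂, zero_smul, add_zero]
  have q1 : herm v1' u = 1 := by rw [← star_herm, p1, star_one]
  have q2 : herm v2 u₂ = 1 := by rw [← star_herm, g2, star_one]
  refine ⟨⟨![u, v1', u₂, v2], fun x y => ?_, fun c => ?_⟩⟩
  · simp only [comb, h4, Matrix.cons_val_zero, Matrix.cons_val_one, Matrix.cons_val, herm_add_left,
      herm_add_right, herm_smul_left, herm_smul_right, huu, huu₂, hu₂u', hu₂u, p1, p2, p3, p4, q1, q2,
      g1, g2, g3, hsw _ _ p3, hsw _ _ p4, hsw _ _ g1, mul_zero, add_zero, zero_add, mul_one]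
    ring
  · simp only [comb, g4, Matrix.cons_val_zero, Matrix.cons_val_one, Matrix.cons_val, act_add, act_smul,
      hgu, p5, p6, p7, smul_add, add_smul]
    abel

theorem comb_inj {g : G6} (B : Block g) {c d : Fin 4 → F4} (h : comb B.U c = comb B.U d) : c = d := by
  have key : ∀ a, h4 a c = h4 a d := fun a => by rw [← B.gram, ← B.gram, h]
  have h0 := key ![0, 1, 0, 0]
  have h1 := key ![1, 0, 0, 0]
  have h2 := key ![0, 0, 0, 1]
  have h3 := key ![0, 0, 1, 0]
  simp [h4] at h0 h1 h2 h3
  funext i; fin_cases i <;> assumption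

theorem t_comb {g : G6} (B : Block g) {a : Fin 4 → F4} (ha : h4 a a = 0) (c : Fin 4 → F4) :
    act (TV (comb B.U a)) (comb B.U c) = comb B.U (t4 a c) := by
  rw [act_T F4.star_eq_pow (by rw [B.gram]; exact ha), B.gram]
  simp only [comb, t4, Pi.add_apply, Pi.smul_apply, smul_eq_mul, add_smul, smul_add, smul_smul]
  abel

/-- the first conjugating vector -/
def la : Fin 4 → F4 := ![0, 0, 0, 1]
/-- the second conjugating vector -/
def lb : Fin 4 → F4 := ![0, 1, 0, 1]

/-- the product on coordinates -/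
def x4 (c : Fin 4 → F4) : Fin 4 → F4 := g4 (t4 la (t4 lb (g4 (t4 lb (t4 la c)))))

theorem witness_ok : h4 la la = 0 ∧ h4 lb lb = 0 ∧
    h4 ![0, 0, 0, 1] ![0, 0, 0, 1] = 0 ∧
    t4 (x4 (x4 ![0, 0, 0, 1])) ![1, 0, 0, 0] ≠ t4 ![0, 0, 0, 1] ![1, 0, 0, 0] ∧
    t4 (x4 (x4 (x4 ![0, 0, 0, 1]))) ![0, 0, 1, 0] ≠ t4 ![0, 0, 0, 1] ![0, 0, 1, 0] := by
  decide +kernel

theorem block_bad {g : G6} (B : Block g) :
    ∃ H : G6, (mk g * (mk H * mk g * (mk H)⁻¹)) ^ 2 ≠ 1 ∧ (mk g * (mk H * mk g * (mk H)⁻¹)) ^ 3 ≠ 1 := by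
  obtain ⟨ha, hb, hv, w2, w3⟩ := witness_ok
  refine ⟨TV (comb B.U la) * TV (comb B.U lb), ?_⟩
  set H := TV (comb B.U la) * TV (comb B.U lb) with hH
  set X := g * (H * g * H⁻¹) with hX
  have hXc : ∀ c, act X (comb B.U c) = comb B.U (x4 c) := by
    intro c
    have hHi : H⁻¹ = TV (comb B.U lb) * TV (comb B.U la) := by
      refine inv_eq_of_mul_eq_one_right ?_
      rw [hH, mul_assoc, ← mul_assoc (TV (comb B.U lb)), T_sq, one_mul, T_sq]
    rw [hX, hHi]
    simp only [hH, act_mul, t_comb B ha, t_comb B hb, B.move]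
    rfl
  have hpow : ∀ (k : ℕ) c, act (X ^ k) (comb B.U c) = comb B.U (x4^[k] c) := by
    intro k
    induction k with
    | zero => intro c; rw [pow_zero, act_one]; rfl
    | succ k ih => intro c; rw [pow_succ, act_mul, hXc, ih, Function.iterate_succ_apply]
  have key : ∀ k : ℕ, (mk g * (mk H * mk g * (mk H)⁻¹)) ^ k = 1 →
      ∀ e, h4 (x4^[k] ![0, 0, 0, 1]) (x4^[k] ![0, 0, 0, 1]) = 0 →
        t4 (x4^[k] ![0, 0, 0, 1]) e = t4 ![0, 0, 0, 1] e := by
    intro k h1 e hiso
    rw [← map_inv, ← map_mul, ← map_mul, ← map_mul, ← map_pow, ← hX, QuotientGroup.mk'_apply,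
      QuotientGroup.eq_one_iff, Subgroup.mem_center_iff] at h1
    have h2 := h1 (TV (comb B.U ![0, 0, 0, 1]))
    have h3 := T_conj F4.star_eq_pow (X ^ k) (comb B.U ![0, 0, 0, 1])
    rw [← h2, mul_inv_cancel_right, hpow] at h3
    have h5 := congrArg (fun q => act q (comb B.U e)) h3
    simp only [t_comb B hv, t_comb B hiso] at h5
    exact (comb_inj B h5).symm
  refine ⟨fun h => w2 (key 2 h _ ?_), fun h => w3 (key 3 h _ ?_)⟩ <;>
  · rw [← B.gram, ← hpow, hh, B.gram]; exact hv

theorem center_cube {z : G6} (hz : z ∈ Subgroup.center G6) : z ^ 3 = 1 := by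
  have h := orderOf_dvd_natCard (⟨z, hz⟩ : Subgroup.center G6)
  rw [SUSix.card_center] at h
  have := orderOf_dvd_iff_pow_eq_one.mp h
  exact congrArg Subtype.val this

/-- the dichotomy -/
theorem dichotomy {x : Cfsg.PSU 6 F4 2} (h2 : x * x = 1) (h1 : x ≠ 1) :
    (∃ u : V6, u ≠ 0 ∧ herm u u = 0 ∧ x = mk (TV u)) ∨
      ∃ y : Cfsg.PSU 6 F4 2, (x * (y * x * y⁻¹)) ^ 2 ≠ 1 ∧ (x * (y * x * y⁻¹)) ^ 3 ≠ 1 := by
  obtain ⟨g, rfl⟩ := QuotientGroup.mk'_surjective (Subgroup.center G6) x
  have hz : g * g ∈ Subgroup.center G6 := by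
    rw [← map_mul, QuotientGroup.mk'_apply, QuotientGroup.eq_one_iff] at h2; exact h2
  set g₀ := g * g * g with hg₀
  have hx : mk g₀ = mk g := by rw [hg₀, map_mul, map_mul, h2, one_mul]
  have hsq : g₀ * g₀ = 1 := by
    rw [← center_cube hz, hg₀, pow_succ, pow_two]
    simp only [mul_assoc]
  have hne : g₀ ≠ 1 := fun h => h1 (by rw [← hx, h, map_one])
  rw [← hx]
  by_cases hnt : ∀ u, herm u u = 0 → g₀ ≠ TV u
  · obtain ⟨B⟩ := exists_block hsq hne hnt
    obtain ⟨H, hH⟩ := block_bad B
    exact Or.inr ⟨mk H, hH⟩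
  · push Not at hnt
    obtain ⟨u, hu, e⟩ := hnt
    refine Or.inl ⟨u, fun h => hne ?_, hu, by rw [e]⟩
    rw [e, h, TV, CoverUnitarySix.T_zero F4.star_eq_pow]

end Cfsg.Agent.Spor.M22U.Invol
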