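import Cfsg.Agent.Lib.Spor.M22UThreesChecks
import Cfsg.Agent.Lib.Spor.M22UCent
import Cfsg.Agent.Lib.Spor.M22UInvClasses
import Cfsg.Agent.Lib.Spor.Fi22O7Threes
import Cfsg.Agent.Lib.Spor.Fi22O7

/-!
A group of type M(22) has four classes of subgroups of order three, told apart by the widths of the
transpositions centralizing them.
-/

set_option autoImplicit false
set_option maxRecDepth 100000
set_option linter.unusedSectionVars false

namespace Cfsg.Agent.Spor.M22U.Threes

open Cfsg.Agent.Spor.CC Cfsg.Agent.Spor.Fi22Cert Cfsg.Agent.Spor.Fi22Cert.U62Act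
open Cfsg.Agent.Spor.M22U.Cent
open Cfsg.Agent.Spor.Fi22Cert.O7Threes (hWords repWord evB mk hK rp mk_bval reps_ok orderOf_rp ksub_classes classify)
open Cfsg.Agent.Spor.Fi22Cert.O7Act (Ksub gK)

/-- representative as an element of Fi22 -/
noncomputable def rep3 (c : ℕ) : pres.Grp := (rp c : pres.Grp)

theorem rep3_word {c : ℕ} (hc : c < 7) : rep3 c = ((rW c).map pres.gen).prod := by
  have hl := (reps_ok c hc).1
  rw [rep3, rp, rW]
  generalize repWord.getD c [] = t at hl ⊢
  induction t with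
  | nil => simp [mk]
  | cons k t ih =>
    have e : mk (k :: t) = hK k * mk t := by simp [mk]
    rw [e, Subgroup.coe_mul, ih fun x hx => hl x (List.mem_cons_of_mem _ hx), List.flatMap_cons,
      List.map_append, List.prod_append]
    congr 1
    rw [hK, Subgroup.val_list_prod, List.map_map, List.map_map]
    refine congrArg List.prod (List.map_congr_left fun x hx => ?_)
    show ((gK x : Ksub) : pres.Grp) = pres.gen (x + 1)
    rw [gK, dif_pos (O7Threes.words_lt k (hl k (List.mem_cons_self ..)) x hx)]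

theorem fuse {f : ℕ × ℕ × List ℕ} (hf : f ∈ fus) (h1 : f.1 < 7) (h2 : f.2.1 < 7) :
    ∃ g : pres.Grp, g * rep3 f.1 * g⁻¹ = rep3 f.2.1 := by
  haveI := order.1
  obtain ⟨hfix, hlet, -⟩ := rels
  have hmem : relW f ∈ fus.map relW := List.mem_map.mpr ⟨f, hf, rfl⟩
  have h := eq_one_of_fix rep.valid pres.gen rep.hom rep.hom_gen RepU62.chain_ok
    (by rw [order.2.1, RepU62.chain_size]) (fun x hx => lettersOK_spec hlet hmem hx)
    (by
      simp only [fixOK, List.all_eq_true] at hfix ⊢
      intro b hb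
      obtain rfl := List.mem_singleton.mp hb
      exact hfix _ hmem)
  refine ⟨((gW f.2.2).map pres.gen).prod, ?_⟩
  rw [relW, List.map_append, List.map_append, List.map_append, List.prod_append, List.prod_append,
    List.prod_append, ← prod_rev, ← prod_rev, ← rep3_word h1, ← rep3_word h2, mul_inv_eq_one] at h
  exact h

theorem to_cls {c : ℕ} (hc : c < 7) :
    ∃ i < 4, ∃ g : pres.Grp, g * rep3 c * g⁻¹ = rep3 (cls.getD i 0) := by
  have hidx : ∀ a ∈ cls, ∃ i < 4, cls.getD i 0 = a := by decide +kernel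
  rcases cls_facts.2.2 c hc with h | ⟨f, hf, ⟨e1, e2⟩ | ⟨e1, e2⟩⟩
  · obtain ⟨i, hi, e⟩ := hidx c h
    exact ⟨i, hi, 1, by rw [e]; group⟩
  · obtain ⟨i, hi, e⟩ := hidx _ e2
    obtain ⟨g, hg⟩ := fuse hf (by omega) (e ▸ cls_facts.1 i hi)
    exact ⟨i, hi, g, by rw [e, ← hg, e1]⟩
  · obtain ⟨i, hi, e⟩ := hidx _ e2
    obtain ⟨g, hg⟩ := fuse hf (e ▸ cls_facts.1 i hi) (by omega)
    exact ⟨i, hi, g⁻¹, by rw [e, ← e1, ← hg]; group⟩

theorem orderOf_rep3 {c : ℕ} (hc : c < 7) : orderOf (rep3 c) = 3 := by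
  rw [rep3, Subgroup.orderOf_coe]; exact orderOf_rp hc

theorem cover (X : Subgroup pres.Grp) (hX : Nat.card X = 3) :
    ∃ i < 4, ∃ g : pres.Grp, X.map (MulAut.conj g).toMonoidHom = Subgroup.zpowers (rep3 (cls.getD i 0)) := by
  haveI := order.1
  haveI : Fact (Nat.Prime 3) := ⟨Nat.prime_three⟩
  obtain ⟨P₀⟩ : Nonempty (Sylow 3 Ksub) := inferInstance
  have hnd : ¬ 3 ∣ ((P₀ : Subgroup Ksub).map Ksub.subtype).index := by
    rw [Subgroup.index_map_subtype, show Ksub.index = 14080 from index_o7, Nat.prime_three.dvd_mul]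
    rintro (h | h)
    · exact P₀.not_dvd_index h
    · norm_num at h
  let P : Sylow 3 pres.Grp := (P₀.2.map Ksub.subtype).toSylow hnd
  have hP : (P₀ : Subgroup Ksub).map Ksub.subtype = (P : Subgroup pres.Grp) := (IsPGroup.toSylow_coe _ hnd).symm
  obtain ⟨R, hR⟩ := (IsPGroup.of_card (n := 1) (by rw [hX, pow_one]) : IsPGroup 3 X).exists_le_sylow
  obtain ⟨x, hx⟩ := MulAction.exists_smul_eq pres.Grp R P
  have hXK : X.map (MulAut.conj x).toMonoidHom ≤ Ksub := by
    refine (Subgroup.map_mono hR).trans ?_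
    have : ((x • R : Sylow 3 pres.Grp) : Subgroup pres.Grp) ≤ Ksub := by
      rw [hx, ← hP]; exact Subgroup.map_subtype_le _
    rw [Sylow.coe_subgroup_smul] at this
    exact this
  obtain ⟨X', hX'⟩ : ∃ X' : Subgroup Ksub, X'.map Ksub.subtype = X.map (MulAut.conj x).toMonoidHom :=
    ⟨_, Subgroup.map_subgroupOf_eq_of_le hXK⟩
  have hc' : Nat.card X' = 3 := by
    rw [Nat.card_congr (Subgroup.equivMapOfInjective X' _ Ksub.subtype_injective).toEquiv, hX',
      ← Nat.card_congr (Subgroup.equivMapOfInjective X _ (MulAut.conj x).injective).toEquiv, hX]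
  obtain ⟨s, hs⟩ : ∃ s : Ksub, X' = Subgroup.zpowers s := by
    obtain ⟨s, hs⟩ := (isCyclic_of_prime_card hc').exists_generator
    refine ⟨(s : Ksub), le_antisymm (fun a ha => ?_) ((Subgroup.zpowers_le).mpr s.2)⟩
    obtain ⟨k, hk⟩ := hs ⟨a, ha⟩
    exact ⟨k, congrArg Subtype.val hk⟩
  have ho : orderOf s = 3 := by rw [← Nat.card_zpowers, ← hs, hc']
  obtain ⟨c, e, hc, he, k, hk⟩ := classify s (by rw [← ho]; exact pow_orderOf_eq_one s)
    (fun h => by rw [h, orderOf_one] at ho; omega)
  obtain ⟨i, hi, g, hg⟩ := to_cls hc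
  refine ⟨i, hi, g * (k : pres.Grp) * x, Subgroup.eq_of_le_of_card_ge ?_ ?_⟩
  · rw [map_mul, map_mul, show ∀ a b : MulAut pres.Grp, (a * b).toMonoidHom = a.toMonoidHom.comp b.toMonoidHom from
      fun _ _ => rfl, show ∀ a b : MulAut pres.Grp, (a * b).toMonoidHom = a.toMonoidHom.comp b.toMonoidHom from
      fun _ _ => rfl, ← Subgroup.map_map, ← hX', hs, MonoidHom.map_zpowers, MonoidHom.map_zpowers,
      Subgroup.zpowers_le]
    show g * ((k : pres.Grp) * (s : pres.Grp) * (k : pres.Grp)⁻¹) * g⁻¹ ∈ _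
    have hk' : (k : pres.Grp) * (s : pres.Grp) * (k : pres.Grp)⁻¹ = rep3 c ^ e := by
      have := congrArg Subtype.val hk
      simpa [rep3] using this
    have hge : g * rep3 c ^ e * g⁻¹ = (g * rep3 c * g⁻¹) ^ e := conj_pow.symm
    rw [hk', hge, hg]
    exact pow_mem (Subgroup.mem_zpowers _) e
  · rw [Nat.card_zpowers, orderOf_rep3 (cls_facts.1 i hi),
      ← Nat.card_congr (Subgroup.equivMapOfInjective X _ (MulAut.conj _).injective).toEquiv, hX]

theorem fixList_spec {i : ℕ} (hi : i < 4) {u : ℕ} (hu : u < 3510) :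
    evB (repWord.getD (cls.getD i 0) []) u = u ↔ u ∈ cFix.getD i [] := by
  have h : fixListOK i u = true := by
    interval_cases i
    · exact all_range fixList0 (Nat.zero_le _) (by omega)
    · exact all_range fixList1 (Nat.zero_le _) (by omega)
    · exact all_range fixList2 (Nat.zero_le _) (by omega)
    · exact all_range fixList3 (Nat.zero_le _) (by omega)
  have h' := eq_of_beq (show (_ == _) = true from h)
  rw [← beq_iff, h', List.any_eq_true]
  exact ⟨fun ⟨v, hv, e⟩ => Nat.eq_of_beq_eq_true e ▸ hv, fun hu => ⟨u, hu, Nat.beq_refl u⟩⟩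

theorem row_spec {i : ℕ} (hi : i < 4) {a b : ℕ} (ha : a < cNum i) (hb : b < cNum i) :
    cpnt i a < 3510 ∧ adjb (cpnt i a) (cpnt i b) = cAdj i a b := by
  obtain ⟨n0, n1, n2, n3⟩ := nums
  have h : rowOK i a = true := by
    interval_cases i
    · rcases Nat.lt_or_ge a 63 with h | h
      · exact all_range rows0a (Nat.zero_le _) (by omega)
      · exact all_range rows0b h (by omega)
    · exact all_range rows1 (Nat.zero_le _) (by omega)
    · exact all_range rows2 (Nat.zero_le _) (by omega)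
    · omega
  simp only [rowOK, Bool.and_eq_true, List.all_eq_true, List.mem_range, beq_iff_eq] at h
  exact ⟨Nat.le_of_ble_eq_true h.1, h.2 b hb⟩

theorem noC_sound (i : ℕ) : ∀ (k : ℕ) (l L : List ℕ), noC i k l = true → L.Sublist l → L.length = k →
    (∀ a ∈ L, ∀ b ∈ L, cAdj i a b = true) → False := by
  intro k
  induction k with
  | zero =>
    intro l L h _ _ _
    simp [noC] at h
  | succ k ihk =>
    intro l
    induction l with
    | nil =>
      intro L _ hs hlen _
      rw [List.sublist_nil.mp hs] at hlen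
      cases hlen
    | cons v r ih =>
      intro L h hs hlen hadj
      simp only [noC, allLater, Bool.and_eq_true] at h
      rcases List.sublist_cons_iff.mp hs with hs' | ⟨L', rfl, hs'⟩
      · exact ih L (by simp only [noC]; exact h.2) hs' hlen hadj
      · have hsub : L'.Sublist (r.filter (cAdj i v)) := by
          have h2 := hs'.filter (cAdj i v)
          rwa [List.filter_eq_self.mpr fun a ha => hadj v (List.mem_cons_self ..) a (List.mem_cons_of_mem _ ha)] at h2
        exact ihk _ L' h.1 hsub (by simpa using hlen)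
          (fun a ha b hb => hadj a (List.mem_cons_of_mem _ ha) b (List.mem_cons_of_mem _ hb))

theorem commute_rep3 {i : ℕ} (hi : i < 4) (d : Fischer.Dc) :
    Commute (rep3 (cls.getD i 0)) (d : pres.Grp) ↔ (Fischer.theta d : ℕ) ∈ cFix.getD i [] := by
  have hm := mk_bval (repWord.getD (cls.getD i 0) []) (reps_ok _ (cls_facts.1 i hi)).1 (Fischer.theta d)
  rw [← fixList_spec hi (Fischer.theta d).2, ← hm,
    ← Fin.ext_iff, show (mk (repWord.getD (cls.getD i 0) []) : pres.Grp) = rep3 (cls.getD i 0) from rfl, theta_act,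
    Fischer.theta_inj.eq_iff, Subtype.ext_iff, mul_inv_eq_iff_eq_mul]
  rfl

theorem width_pres {i : ℕ} (hi : i < 4) :
    Cfsg.commutingWidth (Fischer.Dc ∩ (Subgroup.centralizer
      ((Subgroup.zpowers (rep3 (cls.getD i 0)) : Subgroup pres.Grp) : Set pres.Grp) : Set pres.Grp)) =
      widths.getD i 0 := by
  classical
  haveI := order.1
  set s := rep3 (cls.getD i 0)
  have hset : (Fischer.Dc ∩ (Subgroup.centralizer ((Subgroup.zpowers s : Subgroup pres.Grp) : Set pres.Grp) :
      Set pres.Grp)) = {d | d ∈ Fischer.Dc ∧ Commute s d} := by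
    ext d
    simp only [Set.mem_inter_iff, SetLike.mem_coe, Subgroup.mem_centralizer_iff, Set.mem_setOf_eq]
    refine and_congr_right fun _ => ⟨fun h => h s (Subgroup.mem_zpowers s), fun h x hx => ?_⟩
    obtain ⟨k, rfl⟩ := hx
    exact (h.zpow_left k).eq
  rw [hset]
  obtain ⟨hblen, hbnd, hblt, hbadj⟩ := best_ok i hi
  have hmemF : ∀ a < cNum i, cpnt i a ∈ cFix.getD i [] := fun a ha => by
    rw [cpnt, List.getD_eq_getElem _ _ ha]; exact List.getElem_mem _
  refine IsGreatest.csSup_eq ⟨?_, ?_⟩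
  · refine ⟨((cBest.getD i []).toFinset.image fun a => (dp (cpnt i a) : pres.Grp) : Finset pres.Grp),
      ?_, Finset.finite_toSet _, ?_, ?_⟩
    · intro d hd
      obtain ⟨a, ha, rfl⟩ := Finset.mem_image.mp hd
      have ha' := hblt a (List.mem_toFinset.mp ha)
      refine ⟨(dp _).2, (commute_rep3 hi (dp (cpnt i a))).mpr ?_⟩
      rw [theta_dp pts_ok (row_spec hi ha' ha').1]
      exact hmemF a ha'
    · intro x hx y hy
      obtain ⟨a, ha, rfl⟩ := Finset.mem_image.mp hx
      obtain ⟨b, hb, rfl⟩ := Finset.mem_image.mp hy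
      have ha' := hblt a (List.mem_toFinset.mp ha)
      have hb' := hblt b (List.mem_toFinset.mp hb)
      refine (adjb_iff pts_ok (row_spec hi ha' ha').1 (row_spec hi hb' hb').1).mp ?_
      rw [(row_spec hi ha' hb').2]
      exact hbadj a (List.mem_toFinset.mp ha) b (List.mem_toFinset.mp hb)
    · rw [Set.ncard_coe_finset, Finset.card_image_of_injOn, List.toFinset_card_of_nodup hbnd, hblen]
      intro a ha b hb h
      have ha' := hblt a (List.mem_toFinset.mp ha)
      have hb' := hblt b (List.mem_toFinset.mp hb)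
      have h' := congrArg (fun d => (Fischer.theta d : ℕ)) (Subtype.ext h : dp (cpnt i a) = dp (cpnt i b))
      simp only [theta_dp pts_ok (row_spec hi ha' ha').1, theta_dp pts_ok (row_spec hi hb' hb').1] at h'
      rw [cpnt, cpnt, List.getD_eq_getElem _ _ ha', List.getD_eq_getElem _ _ hb'] at h'
      exact (List.Nodup.getElem_inj_iff (nodups i hi)).mp h'
  · rintro n ⟨E, hE, hfin, hpw, rfl⟩
    by_contra hcon
    push Not at hcon
    let S : List ℕ := (List.range (cNum i)).filter fun a => decide ((dp (cpnt i a) : pres.Grp) ∈ E)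
    have hlen : E.ncard ≤ S.length := by
      have hsub : E ⊆ (S.toFinset.image fun a => (dp (cpnt i a) : pres.Grp) : Finset pres.Grp) := by
        intro d hd
        obtain ⟨hdD, hdc⟩ := hE hd
        have hmem := (commute_rep3 hi ⟨d, hdD⟩).mp hdc
        obtain ⟨a, ha, hea⟩ := List.mem_iff_getElem.mp hmem
        have hde : (dp (cpnt i a) : pres.Grp) = d := by
          rw [cpnt, List.getD_eq_getElem _ _ ha, hea]
          exact (congrArg Subtype.val (dp_surj pts_ok ⟨d, hdD⟩)).symm
        exact Finset.mem_image.mpr ⟨a, List.mem_toFinset.mpr (List.mem_filter.mpr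
          ⟨List.mem_range.mpr ha, decide_eq_true (hde ▸ hd)⟩), hde⟩
      refine (Set.ncard_le_ncard hsub).trans ?_
      rw [Set.ncard_coe_finset]
      exact Finset.card_image_le.trans S.toFinset_card_le
    have hk : noC i (widths.getD i 0 + 1) (List.range (cNum i)) = true := by
      obtain ⟨⟨c0, c1⟩, c2, c3⟩ := cliques
      obtain ⟨n0, n1, n2, n3⟩ := nums
      interval_cases i
      · rw [n0, show widths.getD 0 0 + 1 = 7 from rfl]; exact c0
      · rw [n1, show widths.getD 1 0 + 1 = 5 from rfl]; exact c1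
      · rw [n2, show widths.getD 2 0 + 1 = 4 from rfl]; exact c2
      · rw [n3, show widths.getD 3 0 + 1 = 1 from rfl]; exact c3
    refine noC_sound i _ _ (S.take (widths.getD i 0 + 1)) hk ((List.take_sublist _ S).trans List.filter_sublist)
      (by rw [List.length_take]; omega) fun a ha b hb => ?_
    obtain ⟨ha1, ha2⟩ := List.mem_filter.mp (List.mem_of_mem_take ha)
    obtain ⟨hb1, hb2⟩ := List.mem_filter.mp (List.mem_of_mem_take hb)
    have ha' := List.mem_range.mp ha1
    have hb' := List.mem_range.mp hb1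
    rw [← (row_spec hi ha' hb').2]
    exact (adjb_iff pts_ok (row_spec hi ha' ha').1 (row_spec hi hb' hb').1).mpr
      (hpw _ (of_decide_eq_true ha2) _ (of_decide_eq_true hb2))

theorem width_image {H H' : Type*} [Group H] [Group H'] (e : H ≃* H') (S : Set H) :
    Cfsg.commutingWidth (e '' S) = Cfsg.commutingWidth S := by
  refine congrArg sSup (Set.ext fun n => ⟨?_, ?_⟩)
  · rintro ⟨E, hE, hf, hc, rfl⟩
    refine ⟨e.symm '' E, ?_, hf.image _, ?_, Set.ncard_image_of_injective E e.symm.injective⟩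
    · rintro _ ⟨y, hy, rfl⟩
      obtain ⟨x, hx, rfl⟩ := hE hy
      simpa using hx
    · rintro _ ⟨a, ha, rfl⟩ _ ⟨b, hb, rfl⟩
      exact (hc a ha b hb).map e.symm.toMonoidHom
  · rintro ⟨E, hE, hf, hc, rfl⟩
    refine ⟨e '' E, Set.image_mono hE, hf.image _, ?_, Set.ncard_image_of_injective E e.injective⟩
    rintro _ ⟨a, ha, rfl⟩ _ ⟨b, hb, rfl⟩
    exact (hc a ha b hb).map e.toMonoidHom

theorem cent_image {H H' : Type*} [Group H] [Group H'] (e : H ≃* H') {S : Set H} {S' : Set H'}
    (hS : e '' S = S') (X : Subgroup H) :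
    S' ∩ (Subgroup.centralizer ((X.map e.toMonoidHom : Subgroup H') : Set H') : Set H') =
      e '' (S ∩ (Subgroup.centralizer ((X : Subgroup H) : Set H) : Set H)) := by
  rw [Set.image_inter e.injective, hS]
  congr 1
  ext y
  obtain ⟨x, rfl⟩ := e.surjective y
  simp only [SetLike.mem_coe, Subgroup.mem_centralizer_iff, e.injective.mem_set_image, Subgroup.coe_map]
  constructor
  · intro h z hz
    refine e.injective ?_
    rw [map_mul, map_mul]
    exact h _ ⟨z, hz, rfl⟩
  · rintro h _ ⟨z, hz, rfl⟩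
    show e z * e x = e x * e z
    rw [← map_mul, ← map_mul, h z hz]

universe u
variable {G : Type u} [Group G] [Finite G] {D : Set G}

theorem exists_classes (hD : Cfsg.IsThreeTranspositionGroup D) (hprim : Cfsg.IsPrimitiveUnderConj D)
    (ht : Cfsg.IsOfTypeM22 G D) :
    ∃ Y : Fin 4 → Subgroup G, (∀ i, Nat.card (Y i) = 3) ∧
      (∀ i j, (∃ g : G, (Y i).map (MulAut.conj g).toMonoidHom = Y j) → i = j) ∧
      (∀ X : Subgroup G, Nat.card X = 3 → ∃ i, ∃ g : G, X.map (MulAut.conj g).toMonoidHom = Y i) ∧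
      ∀ i : Fin 4, Cfsg.commutingWidth (D ∩ (Subgroup.centralizer ((Y i : Subgroup G) : Set G) : Set G)) =
        widths.getD i 0 := by
  obtain ⟨e, he⟩ := Norm.iso_fi22 hD hprim ht
  let Y : Fin 4 → Subgroup G := fun i => (Subgroup.zpowers (rep3 (cls.getD i 0))).map e.toMonoidHom
  have hw : ∀ i : Fin 4, Cfsg.commutingWidth (D ∩ (Subgroup.centralizer ((Y i : Subgroup G) : Set G) : Set G)) =
      widths.getD i 0 := fun i => by
    rw [cent_image e he, width_image]; exact width_pres i.2
  refine ⟨Y, fun i => ?_, ?_, ?_, hw⟩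
  · rw [← Nat.card_congr (Subgroup.equivMapOfInjective _ e.toMonoidHom e.injective).toEquiv, Nat.card_zpowers,
      orderOf_rep3 (cls_facts.1 _ i.2)]
  · rintro i j ⟨g, hg⟩
    have hconj : (MulAut.conj g : G ≃* G) '' D = D := by
      ext y
      exact ⟨fun ⟨x, hx, hxy⟩ => hxy ▸ hD.2.1 g x hx,
        fun hy => ⟨g⁻¹ * y * g, (Spor.conj_mem_iff hD.2.1 g).1 hy, by show g * (g⁻¹ * y * g) * g⁻¹ = y; group⟩⟩
    have h := width_image (MulAut.conj g) (D ∩ (Subgroup.centralizer ((Y i : Subgroup G) : Set G) : Set G))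
    rw [← cent_image (MulAut.conj g) hconj, hg, hw, hw] at h
    exact Fin.ext (cls_facts.2.1 _ i.2 _ j.2 h.symm)
  · intro X hX
    obtain ⟨i, hi, g, hg⟩ := cover (X.map e.symm.toMonoidHom)
      ((Nat.card_congr (Subgroup.equivMapOfInjective X e.symm.toMonoidHom e.symm.injective).toEquiv).symm.trans hX)
    refine ⟨⟨i, hi⟩, e g, ?_⟩
    show _ = (Subgroup.zpowers _).map e.toMonoidHom
    rw [← hg, Subgroup.map_map, Subgroup.map_map]
    congr 1
    ext x
    simp

end Cfsg.Agent.Spor.M22U.Threes
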