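import Cfsg.Agent.Lib.Spor.M22UJayChecks
import Cfsg.Agent.Lib.Spor.M22UThrees

/-!
The elementary abelian subgroup of order 243 of Fi22: coordinates, the reflections of its normalizer and
the invariant quadratic form.
-/

set_option autoImplicit false
set_option maxRecDepth 100000
set_option linter.unusedSectionVars false

namespace Cfsg.Agent.Spor.M22U.Jay

open Cfsg.Agent.Spor.CC Cfsg.Agent.Spor.Fi22Cert Cfsg.Agent.Spor.Fi22Cert.U62Act
open Cfsg.Agent.Spor.M22U.Cent JDat

/-- a member normalizing the subgroup -/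
noncomputable def Tt (i : ℕ) : pres.Grp := (dp (lp i) : pres.Grp)

/-- the product in a triple -/
noncomputable def sE (k : ℕ) : pres.Grp := Tt (3 * k) * Tt (3 * k + 1)

/-- the element of a vector -/
noncomputable def ph (v : V5) : pres.Grp :=
  sE 0 ^ (v 0).val * sE 1 ^ (v 1).val * sE 2 ^ (v 2).val * sE 3 ^ (v 3).val * sE 4 ^ (v 4).val

theorem el_app (u v : List ℕ) : el (u ++ v) = el u * el v := by simp [el, List.map_append, List.prod_append]

theorem el_rev (u : List ℕ) : el u.reverse = (el u)⁻¹ := (prod_rev u).symm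

theorem el_powW (m : ℕ) (u : List ℕ) : el (powW m u) = el u ^ m := prod_powW _ m u

theorem el_tWd (i : ℕ) : el (tWd i) = Tt i := (InvClasses.tw_prod _).symm

theorem el_sW (k : ℕ) : el (sW k) = sE k := by rw [sW, el_app, el_tWd, el_tWd]; rfl

theorem Tt_sq (i : ℕ) : Tt i * Tt i = 1 := Spor.mul_self_of_order_two (Fischer.three.1.1 _ (dp _).2)

theorem Tt_inv (i : ℕ) : (Tt i)⁻¹ = Tt i := inv_eq_of_mul_eq_one_right (Tt_sq i)

theorem code_lt (v : V5) : code v < 243 := by
  have h : ∀ a : ZMod 3, a.val < 3 := fun a => ZMod.val_lt a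
  have := h (v 0); have := h (v 1); have := h (v 2); have := h (v 3); have := h (v 4)
  simp only [code]; omega

theorem dec_code (v : V5) : dec (code v) = v := by
  have h : ∀ a : ZMod 3, a.val < 3 := fun a => ZMod.val_lt a
  have := h (v 0); have := h (v 1); have := h (v 2); have := h (v 3); have := h (v 4)
  have key : ∀ (m : ℕ) (a : ZMod 3), m = a.val → ((m : ℕ) : ZMod 3) = a := fun m a e =>
    e ▸ ZMod.natCast_zmod_val a
  funext i
  refine key _ _ ?_
  match i with
  | 0 => show code v / 3 ^ 0 % 3 = (v 0).val; simp only [code]; omega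
  | 1 => show code v / 3 ^ 1 % 3 = (v 1).val; simp only [code]; omega
  | 2 => show code v / 3 ^ 2 % 3 = (v 2).val; simp only [code]; omega
  | 3 => show code v / 3 ^ 3 % 3 = (v 3).val; simp only [code]; omega
  | 4 => show code v / 3 ^ 4 % 3 = (v 4).val; simp only [code]; omega

theorem code_dec {c : ℕ} (hc : c < 243) : code (dec c) = c := by
  have h : ∀ c < 243, code (dec c) = c := by decide +kernel
  exact h c hc

theorem dec_val {c : ℕ} (i : Fin 5) : (dec c i).val = c / 3 ^ (i : ℕ) % 3 :=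
  ZMod.val_cast_of_lt (Nat.mod_lt _ (by norm_num))

theorem el_vW (c : ℕ) : el (vW c) = ph (dec c) := by
  simp only [vW, el_app, el_powW, el_sW, ph, dec_val]
  norm_num

theorem rct_spec {k c : ℕ} (hk : k < 36) (hc : c < 243) : rc k c = code (rv k (dec c)) := by
  have h := all_range rct_ok (u := k) (Nat.zero_le _) (by omega)
  simp only [rctOK, List.all_eq_true, List.mem_range] at h
  exact Nat.eq_of_beq_eq_true (h c hc)

theorem triple_spec {k : ℕ} (hk : k < 36) : tripleOK k = true := by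
  rcases Nat.lt_or_ge k 18 with h | h
  · exact all_range triples_a (Nat.zero_le _) (by omega)
  · exact all_range triples_b h (by omega)

theorem el_rel {k : ℕ} (hk : k < 36) {w : List ℕ} (hw : w ∈ relsK k) : el w = 1 := by
  haveI := order.1
  have hlet : lettersOK 9 (relsK k) = true :=
    List.all_eq_true.mp triples_letters k (List.mem_range.mpr hk)
  refine eq_one_of_fix rep.valid pres.gen rep.hom rep.hom_gen RepU62.chain_ok
    (by rw [order.2.1, RepU62.chain_size]) (fun x hx => lettersOK_spec hlet hw hx) ?_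
  have h := triple_spec hk
  simp only [tripleOK, fixOK, Bool.and_eq_true, List.all_eq_true] at h ⊢
  intro b hb
  obtain rfl := List.mem_singleton.mp hb
  exact h.1 _ hw

theorem sE_comm {i j : ℕ} (hi : i < 5) (hj : j < 5) : Commute (sE i) (sE j) := by
  have h := el_rel (k := 5 * i + j) (by omega)
    (w := sW i ++ sW j ++ (sW i).reverse ++ (sW j).reverse) (by
      simp only [relsK, List.mem_append]
      refine Or.inl (Or.inl (Or.inl ?_))
      rw [show Nat.blt (5 * i + j) 25 = true from Nat.ble_eq_true_of_le (by omega),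
        show (5 * i + j) / 5 = i by omega, show (5 * i + j) % 5 = j by omega]
      simp)
  rw [el_app, el_app, el_app, el_rev, el_rev, el_sW, el_sW] at h
  have h' := mul_inv_eq_one.mp h
  exact eq_mul_of_mul_inv_eq h'

theorem sE_cube {i : ℕ} (hi : i < 5) : sE i ^ 3 = 1 := by
  have h := el_rel (k := i) (by omega) (w := powW 3 (sW i)) (by
    simp only [relsK, List.mem_append]
    refine Or.inl (Or.inl (Or.inr ?_))
    rw [show Nat.blt i 5 = true from Nat.ble_eq_true_of_le (by omega)]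
    simp)
  rwa [el_powW, el_sW] at h

theorem pow_val_add {s : pres.Grp} (hs : s ^ 3 = 1) (a b : ZMod 3) :
    s ^ (a + b).val = s ^ a.val * s ^ b.val := by
  rw [← pow_add, ZMod.val_add]
  conv_rhs => rw [← Nat.mod_add_div (a.val + b.val) 3, pow_add, pow_mul, hs, one_pow, mul_one]

theorem ph_add (u v : V5) : ph (u + v) = ph u * ph v := by
  have c : ∀ {i j : ℕ}, i < 5 → j < 5 → ∀ a b : ℕ, Commute (sE i ^ a) (sE j ^ b) := fun hi hj a b =>
    (sE_comm hi hj).pow_pow a b
  simp only [ph, Pi.add_apply]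
  rw [pow_val_add (sE_cube (by norm_num)), pow_val_add (sE_cube (by norm_num)), pow_val_add (sE_cube (by norm_num)),
    pow_val_add (sE_cube (by norm_num)), pow_val_add (sE_cube (by norm_num))]
  generalize (u 0).val = a0, (u 1).val = a1, (u 2).val = a2, (u 3).val = a3, (u 4).val = a4,
    (v 0).val = b0, (v 1).val = b1, (v 2).val = b2, (v 3).val = b3, (v 4).val = b4
  have h01 : Commute (sE 0 ^ b0) (sE 1 ^ a1) := c (by norm_num) (by norm_num) _ _
  have h2 : Commute (sE 0 ^ b0 * sE 1 ^ b1) (sE 2 ^ a2) :=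
    (c (by norm_num) (by norm_num) _ _).mul_left (c (by norm_num) (by norm_num) _ _)
  have h3 : Commute (sE 0 ^ b0 * sE 1 ^ b1 * sE 2 ^ b2) (sE 3 ^ a3) :=
    ((c (by norm_num) (by norm_num) _ _).mul_left (c (by norm_num) (by norm_num) _ _)).mul_left
      (c (by norm_num) (by norm_num) _ _)
  have h4 : Commute (sE 0 ^ b0 * sE 1 ^ b1 * sE 2 ^ b2 * sE 3 ^ b3) (sE 4 ^ a4) :=
    (((c (by norm_num) (by norm_num) _ _).mul_left (c (by norm_num) (by norm_num) _ _)).mul_left
      (c (by norm_num) (by norm_num) _ _)).mul_left (c (by norm_num) (by norm_num) _ _)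
  rw [h01.mul_mul_mul_comm, h2.mul_mul_mul_comm, h3.mul_mul_mul_comm, h4.mul_mul_mul_comm]

theorem ph_zero : ph 0 = 1 := by simp [ph]

/-- the coordinates as a homomorphism -/
noncomputable def phi : Multiplicative V5 →* pres.Grp where
  toFun v := ph v.toAdd
  map_one' := ph_zero
  map_mul' u v := ph_add u.toAdd v.toAdd

theorem ph_nsmul (m : ℕ) (v : V5) : ph (m • v) = ph v ^ m := by
  have := map_pow phi (Multiplicative.ofAdd v) m
  rw [← ofAdd_nsmul] at this
  exact this

theorem ph_smul (a : ZMod 3) (v : V5) : ph (a • v) = ph v ^ a.val := by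
  rw [← ph_nsmul]
  congr 1
  conv_lhs => rw [← ZMod.natCast_zmod_val a]
  rw [Nat.cast_smul_eq_nsmul]

theorem ph_neg (v : V5) : ph (-v) = (ph v)⁻¹ :=
  eq_inv_of_mul_eq_one_left (by rw [← ph_add, neg_add_cancel, ph_zero])

theorem sE_vv {k : ℕ} (hk : k < 36) : sE k = ph (vv k) := by
  have h := el_rel hk (w := sW k ++ (vW (vcode.getD k 0)).reverse) (by simp [relsK])
  rw [el_app, el_rev, el_sW, el_vW, mul_inv_eq_one] at h
  exact h

/-- a basis vector -/
def ev5 (i : ℕ) : V5 := dec (3 ^ i)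

theorem ph_basis {i : ℕ} (hi : i < 5) : ph (ev5 i) = sE i := by
  interval_cases i <;> simp [ph, ev5, dec, Fin.val_zero] <;> norm_num [ZMod.val_one]

theorem v5_sum (v : V5) :
    v = v 0 • ev5 0 + v 1 • ev5 1 + v 2 • ev5 2 + v 3 • ev5 3 + v 4 • ev5 4 := by
  have h : ∀ c < 243, dec c = (dec c) 0 • ev5 0 + (dec c) 1 • ev5 1 + (dec c) 2 • ev5 2 + (dec c) 3 • ev5 3 +
      (dec c) 4 • ev5 4 := by decide +kernel
  have := h _ (code_lt v)
  rwa [dec_code] at this

theorem bv_symm (u v : V5) : bv u v = bv v u := by simp only [bv, add_comm u v]; ring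

theorem bv_add (w u v : V5) : bv w (u + v) = bv w u + bv w v := by
  simp only [bv, qv, Pi.add_apply]; ring

theorem bv_smul (w : V5) (a : ZMod 3) (v : V5) : bv w (a • v) = a * bv w v := by
  simp only [bv, qv, Pi.add_apply, Pi.smul_apply, smul_eq_mul]; ring

theorem qv_smul (a : ZMod 3) (v : V5) : qv (a • v) = a * a * qv v := by
  simp only [qv, Pi.smul_apply, smul_eq_mul]; ring

/-- a reflection as a linear map -/
def rvL (k : ℕ) : V5 →ₗ[ZMod 3] V5 where
  toFun := rv k
  map_add' u v := by simp only [rv, bv_add, add_smul]; abel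
  map_smul' a v := by simp only [rv, bv_smul, RingHom.id_apply, smul_sub, smul_smul]

theorem qv_rv {k : ℕ} (hk : k < 36) (v : V5) : qv (rv k v) = qv v := by
  have e : qv (rv k v) = qv v + bv (vv k) v * bv (vv k) v * (qv (vv k) - 1) := by
    simp only [rv, bv, qv, Pi.sub_apply, Pi.add_apply, Pi.smul_apply, smul_eq_mul]; ring
  rw [e, vv_one k hk, sub_self, mul_zero, add_zero]

theorem conj_basis {k i : ℕ} (hk : k < 36) (hi : i < 5) :
    Tt (3 * k) * sE i * Tt (3 * k) = ph (rv k (ev5 i)) := by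
  have h := el_rel hk (w := tWd (3 * k) ++ sW i ++ tWd (3 * k) ++ (vW (rc k (3 ^ i))).reverse) (by
    simp only [relsK, List.mem_append, List.mem_map, List.mem_range]
    exact Or.inr ⟨i, hi, rfl⟩)
  rw [el_app, el_rev, mul_inv_eq_one, el_app, el_app, el_tWd, el_sW, el_vW,
    rct_spec hk (by interval_cases i <;> norm_num), dec_code] at h
  exact h

theorem conj_pow' {t : pres.Grp} (ht : t⁻¹ = t) (s : pres.Grp) (m : ℕ) : t * s ^ m * t = (t * s * t) ^ m := by
  have := (conj_pow (a := t) (b := s) (i := m)).symm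
  rwa [ht] at this

theorem conj_ph {k : ℕ} (hk : k < 36) (v : V5) : Tt (3 * k) * ph v * Tt (3 * k) = ph (rv k v) := by
  have hb : ∀ {i : ℕ}, i < 5 → ∀ a : ZMod 3,
      Tt (3 * k) * ph (a • ev5 i) * Tt (3 * k) = ph (a • rv k (ev5 i)) := fun hi a => by
    rw [ph_smul, ph_smul, ph_basis hi, conj_pow' (Tt_inv _), conj_basis hk hi]
  have hm : ∀ x y : pres.Grp,
      Tt (3 * k) * (x * y) * Tt (3 * k) = (Tt (3 * k) * x * Tt (3 * k)) * (Tt (3 * k) * y * Tt (3 * k)) := fun x y => by
    calc _ = Tt (3 * k) * x * (Tt (3 * k) * Tt (3 * k)) * y * Tt (3 * k) := by rw [Tt_sq]; group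
      _ = _ := by group
  conv_lhs => rw [v5_sum v]
  rw [ph_add, ph_add, ph_add, ph_add, hm, hm, hm, hm, hb (by norm_num), hb (by norm_num), hb (by norm_num),
    hb (by norm_num), hb (by norm_num), ← ph_add, ← ph_add, ← ph_add, ← ph_add]
  congr 1
  conv_rhs => rw [show rv k v = rvL k v from rfl, v5_sum v]
  simp only [map_add, map_smul]
  rfl

theorem act_el_lp {w : List ℕ} (hw : ∀ x ∈ w, x < 9) {p : ℕ} (hp : p < 3510) :
    act (el w) p = ev RepU62.rows 9 w p := act_el hw hp

theorem tWd_lt {i : ℕ} (hi : i < 108) : ∀ x ∈ tWd i, x < 9 := by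
  intro x hx
  have hp := pw_lt pts_ok (lp_lt i hi)
  rw [tWd, Fischer.tw', List.mem_append, List.mem_cons, List.mem_reverse] at hx
  rcases hx with h | rfl | h
  · exact hp x h
  · norm_num
  · exact hp x h

theorem sW_lt {k : ℕ} (hk : k < 36) : ∀ x ∈ sW k, x < 9 := fun x hx => by
  rcases List.mem_append.mp hx with h | h
  · exact tWd_lt (by omega) x h
  · exact tWd_lt (by omega) x h

theorem powW_lt' {m : ℕ} {w : List ℕ} (hw : ∀ x ∈ w, x < 9) : ∀ x ∈ powW m w, x < 9 := fun x hx => by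
  obtain ⟨l, hl, hxl⟩ := List.mem_flatten.mp hx
  exact hw x ((List.eq_of_mem_replicate hl) ▸ hxl)

theorem vW_lt (c : ℕ) : ∀ x ∈ vW c, x < 9 := fun x hx => by
  simp only [vW, List.mem_append] at hx
  rcases hx with (((h | h) | h) | h) | h <;> exact powW_lt' (sW_lt (by norm_num)) x h

theorem shift_spec {c i : ℕ} (hc : c < 243) (hi : i < 5) :
    act (ph (dec c)) (lp (3 * i)) = lp (3 * i + shTab.getD c 0 / 3 ^ i % 3) ∧ shTab.getD c 0 < 243 := by
  have h := all_range shifts_ok (u := c) (Nat.zero_le _) (by omega)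
  simp only [shOK, List.all_eq_true, List.mem_range, Bool.and_eq_true] at h
  refine ⟨?_, Nat.le_of_ble_eq_true (h i hi).2⟩
  rw [← el_vW, act_el (vW_lt c) (lp_lt _ (by omega))]
  exact Nat.eq_of_beq_eq_true (h i hi).1

theorem lp_inj {i j : ℕ} (hi : i < 108) (hj : j < 108) (h : lp i = lp j) : i = j := by
  obtain ⟨hnd, hlen⟩ := lp_nodup
  rw [lp, lp, List.getD_eq_getElem _ _ (by omega), List.getD_eq_getElem _ _ (by omega)] at h
  exact hnd.getElem_inj_iff.mp h

theorem ph_inj : Function.Injective ph := by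
  intro u v h
  rw [← dec_code u, ← dec_code v] at h ⊢
  have hu := code_lt u
  have hv := code_lt v
  obtain ⟨hnd, hlen⟩ := sh_nodup
  have hd : ∀ i < 5, shTab.getD (code u) 0 / 3 ^ i % 3 = shTab.getD (code v) 0 / 3 ^ i % 3 := fun i hi => by
    have e := (shift_spec hu hi).1.symm.trans ((congrArg (fun g => act g (lp (3 * i))) h).trans (shift_spec hv hi).1)
    have := lp_inj (by omega) (by omega) e
    omega
  have e : shTab.getD (code u) 0 = shTab.getD (code v) 0 := by
    have := (shift_spec hu (i := 0) (by norm_num)).2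
    have := (shift_spec hv (i := 0) (by norm_num)).2
    have := hd 0 (by norm_num); have := hd 1 (by norm_num); have := hd 2 (by norm_num); have := hd 3 (by norm_num)
    have := hd 4 (by norm_num)
    omega
  rw [List.getD_eq_getElem _ _ (by omega), List.getD_eq_getElem _ _ (by omega)] at e
  rw [hnd.getElem_inj_iff.mp e]

theorem shift_surj {e : ℕ} (he : e < 243) : ∃ c < 243, shTab.getD c 0 = e := by
  have h : ∀ e < 243, e ∈ shTab := by decide +kernel
  obtain ⟨c, hc, hce⟩ := List.mem_iff_getElem.mp (h e he)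
  exact ⟨c, sh_nodup.2 ▸ hc, by rw [List.getD_eq_getElem _ _ hc, hce]⟩

/-- the subgroup of order 243 -/
noncomputable def Asub : Subgroup pres.Grp := phi.range

theorem mem_Asub {x : pres.Grp} : x ∈ Asub ↔ ∃ v, ph v = x :=
  ⟨fun ⟨v, h⟩ => ⟨v.toAdd, h⟩, fun ⟨v, h⟩ => ⟨Multiplicative.ofAdd v, h⟩⟩

theorem card_Asub : Nat.card Asub = 243 := by
  have e : Multiplicative V5 ≃ Asub :=
    Equiv.ofInjective phi (fun u v h => Multiplicative.toAdd.injective (ph_inj h))
  rw [← Nat.card_congr e]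
  simp [Nat.card_congr Multiplicative.toAdd]

theorem Tt_norm {k : ℕ} (hk : k < 36) : Tt (3 * k) ∈ Subgroup.normalizer (Asub : Set pres.Grp) := by
  rw [Subgroup.mem_normalizer_iff]
  intro x
  have fwd : ∀ x, x ∈ Asub → Tt (3 * k) * x * (Tt (3 * k))⁻¹ ∈ Asub := fun x hx => by
    obtain ⟨v, rfl⟩ := mem_Asub.mp hx
    rw [Tt_inv, conj_ph hk]
    exact mem_Asub.mpr ⟨_, rfl⟩
  refine ⟨fwd x, fun hx => ?_⟩
  have e : Tt (3 * k) * (Tt (3 * k) * x * (Tt (3 * k))⁻¹) * (Tt (3 * k))⁻¹ = x := by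
    calc _ = (Tt (3 * k) * Tt (3 * k)) * x * (Tt (3 * k) * Tt (3 * k))⁻¹ := by group
      _ = x := by rw [Tt_sq]; group
  exact e ▸ fwd _ hx

theorem fx_rep3 {i : ℕ} (hi : i < 4) :
    InvClasses.fx Fischer.Dc (Threes.rep3 (Threes.cls.getD i 0)) = Threes.cNum i := by
  classical
  rw [InvClasses.fx, Threes.cNum, ← List.toFinset_card_of_nodup (Threes.nodups i hi), ← Set.ncard_coe_finset]
  refine Set.ncard_congr (fun d hd => (Fischer.theta ⟨d, hd.1⟩ : ℕ)) ?_ ?_ ?_
  · intro d hd
    simp only [List.coe_toFinset, Set.mem_setOf_eq]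
    exact (Threes.commute_rep3 hi ⟨d, hd.1⟩).mp hd.2
  · intro a b ha hb h
    exact congrArg Subtype.val (Fischer.theta_inj (Fin.ext h))
  · intro x hx
    simp only [List.coe_toFinset, Set.mem_setOf_eq] at hx
    obtain ⟨j, hj, hjx⟩ := List.mem_iff_getElem.mp hx
    have hlt : x < 3510 := by
      have := (Threes.row_spec hi hj hj).1
      rwa [Threes.cpnt, List.getD_eq_getElem _ _ hj, hjx] at this
    have e : (Fischer.theta (dp x) : ℕ) = x := theta_dp pts_ok hlt
    exact ⟨(dp x : pres.Grp), ⟨(dp x).2, (Threes.commute_rep3 hi (dp x)).mpr (by rw [e]; exact hx)⟩, e⟩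

/-- number of members centralizing the element of a vector -/
noncomputable def fxv (v : V5) : ℕ := InvClasses.fx Fischer.Dc (ph v)

theorem fxv_rv {k : ℕ} (hk : k < 36) (v : V5) : fxv (rv k v) = fxv v := by
  haveI := order.1
  rw [fxv, ← conj_ph hk]
  conv_lhs => rw [show Tt (3 * k) * ph v * Tt (3 * k) = Tt (3 * k) * ph v * (Tt (3 * k))⁻¹ by rw [Tt_inv]]
  exact InvClasses.fx_conj Fischer.three _ _

/-- the expected number -/
def fval (a : ZMod 3) : ℕ := if a = 1 then 126 else if a = 2 then 36 else 27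

theorem rep_fuse {e : ℕ × ℕ × List ℕ} (he : e ∈ vreps) :
    ∃ g : pres.Grp, ∃ i < 4, Threes.cls.getD i 0 = e.2.1 ∧ g * ph (dec e.1) * g⁻¹ = Threes.rep3 e.2.1 ∧
      Threes.cNum i = fval (qv (dec e.1)) := by
  haveI := order.1
  obtain ⟨hfix, hlet, -, hmap⟩ := vreps_ok
  have hmem : vrelW e ∈ vreps.map vrelW := List.mem_map.mpr ⟨e, he, rfl⟩
  have h : el (vrelW e) = 1 := eq_one_of_fix rep.valid pres.gen rep.hom rep.hom_gen RepU62.chain_ok
    (by rw [order.2.1, RepU62.chain_size]) (fun x hx => lettersOK_spec hlet hmem hx) (by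
      simp only [fixOK, List.all_eq_true] at hfix ⊢
      intro b hb
      obtain rfl := List.mem_singleton.mp hb
      exact hfix _ hmem)
  have hm : (e.1, e.2.1, qv (dec e.1)) ∈ ([(1, 1, 1), (28, 2, 2), (4, 4, 0)] : List (ℕ × ℕ × ZMod 3)) := by
    rw [← hmap]; exact List.mem_map.mpr ⟨e, he, rfl⟩
  obtain ⟨n0, n1, n2, -⟩ := Threes.nums
  obtain ⟨i, hi, hic, hin⟩ : ∃ i < 4, Threes.cls.getD i 0 = e.2.1 ∧ Threes.cNum i = fval (qv (dec e.1)) := by
    simp only [List.mem_cons, Prod.mk.injEq, List.not_mem_nil, or_false] at hm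
    rcases hm with ⟨-, h1, h2⟩ | ⟨-, h1, h2⟩ | ⟨-, h1, h2⟩ <;> rw [h1, h2]
    · exact ⟨0, by norm_num, rfl, n0⟩
    · exact ⟨1, by norm_num, rfl, n1⟩
    · exact ⟨2, by norm_num, rfl, n2⟩
  refine ⟨el (Threes.gW e.2.2), i, hi, hic, ?_, hin⟩
  rw [vrelW, el_app, el_app, el_app, el_rev, el_rev, el_vW, mul_inv_eq_one] at h
  rw [h, Threes.rep3_word (hic ▸ Threes.cls_facts.1 i hi)]
  rfl

theorem vec_induct {P : V5 → Prop} (hroot : ∀ e ∈ vreps, P (dec e.1))
    (hstep : ∀ k < 36, ∀ v, v ≠ 0 → P v → P (rv k v)) (v : V5) (hv : v ≠ 0) : P v := by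
  have key : ∀ m, ∀ c < 243, (vpar c).2.2 ≤ m → c ≠ 0 → P (dec c) := by
    intro m
    induction m using Nat.strong_induction_on with
    | _ m ih =>
      intro c hc hm hc0
      have h := all_range vec_ok (u := c) (Nat.zero_le _) (by omega)
      unfold vecOK at h
      cases hb : Nat.beq (vpar c).2.1 255
      · rw [hb] at h
        simp only [cond_false, Bool.and_eq_true, Bool.not_eq_true'] at h
        obtain ⟨⟨⟨⟨h1, h2⟩, h3⟩, h4⟩, h5⟩ := h
        replace h1 := Nat.le_of_ble_eq_true h1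
        replace h2 := Nat.le_of_ble_eq_true h2
        replace h3 := Nat.le_of_ble_eq_true h3
        have hp0 : (vpar c).1 ≠ 0 := fun e => by rw [e, Nat.beq_refl] at h5; cases h5
        have e := Nat.eq_of_beq_eq_true h4
        rw [rct_spec h2 h1] at e
        rw [← e, dec_code]
        refine hstep _ h2 _ (fun hz => hp0 ?_) (ih _ (by omega) _ h1 (le_refl _) hp0)
        rw [← code_dec h1, hz]; rfl
      · rw [hb] at h
        simp only [cond_true, Bool.or_eq_true, List.any_eq_true] at h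
        rcases h with h | ⟨e, he, h⟩
        · exact absurd (Nat.eq_of_beq_eq_true h) hc0
        · exact Nat.eq_of_beq_eq_true h ▸ hroot e he
  have hne : code v ≠ 0 := fun e => hv (by rw [← dec_code v, e]; funext i; simp [dec])
  have := key _ (code v) (code_lt v) (le_refl _) hne
  rwa [dec_code] at this

theorem fxv_eq (v : V5) (hv : v ≠ 0) : fxv v = fval (qv v) := by
  haveI := order.1
  refine vec_induct (P := fun v => fxv v = fval (qv v)) ?_ ?_ v hv
  · intro e he
    obtain ⟨g, i, hi, hic, hg, hn⟩ := rep_fuse he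
    rw [fxv, ← InvClasses.fx_conj Fischer.three g, hg, ← hic, fx_rep3 hi, hn]
  · intro k hk v _ ih
    rw [fxv_rv hk, qv_rv hk, ih]

theorem fval_inj : ∀ a b : ZMod 3, fval a = fval b → a = b := by decide +kernel

/-- the normalizer -/
noncomputable def Nsub : Subgroup pres.Grp := Subgroup.normalizer (Asub : Set pres.Grp)

/-- the action of the normalizer on the coordinates -/
noncomputable def rho (n : Nsub) (v : V5) : V5 :=
  ((mem_Asub.mp ((Subgroup.mem_normalizer_iff.mp n.2 (ph v)).mp (mem_Asub.mpr ⟨v, rfl⟩)))).choose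

theorem ph_rho (n : Nsub) (v : V5) : ph (rho n v) = (n : pres.Grp) * ph v * (n : pres.Grp)⁻¹ :=
  ((mem_Asub.mp ((Subgroup.mem_normalizer_iff.mp n.2 (ph v)).mp (mem_Asub.mpr ⟨v, rfl⟩)))).choose_spec

theorem rho_add (n : Nsub) (u v : V5) : rho n (u + v) = rho n u + rho n v :=
  ph_inj (by rw [ph_add, ph_rho, ph_rho, ph_rho, ph_add]; group)

theorem rho_mul (n m : Nsub) (v : V5) : rho (n * m) v = rho n (rho m v) :=
  ph_inj (by rw [ph_rho, ph_rho, ph_rho, Subgroup.coe_mul]; group)

theorem rho_one (v : V5) : rho 1 v = v :=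
  ph_inj (by rw [ph_rho, OneMemClass.coe_one]; group)

/-- the action as a linear map -/
noncomputable def rhoL (n : Nsub) : V5 →ₗ[ZMod 3] V5 :=
  (AddMonoidHom.mk' (rho n) (rho_add n)).toZModLinearMap 3

theorem rhoL_apply (n : Nsub) (v : V5) : rhoL n v = rho n v := rfl

theorem qv_rho (n : Nsub) (v : V5) : qv (rho n v) = qv v := by
  haveI := order.1
  rcases eq_or_ne v 0 with rfl | hv
  · rw [← rhoL_apply, map_zero]
  have hv' : rho n v ≠ 0 := fun e => hv (by
    have := congrArg (rho n⁻¹) e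
    rwa [← rho_mul, inv_mul_cancel, rho_one, ← rhoL_apply, map_zero] at this)
  refine fval_inj _ _ ?_
  rw [← fxv_eq _ hv', ← fxv_eq _ hv, fxv, ph_rho]
  exact InvClasses.fx_conj Fischer.three _ _

/-- a reflecting member in the normalizer -/
noncomputable def tN (k : ℕ) (hk : k < 36) : Nsub := ⟨Tt (3 * k), Tt_norm hk⟩

theorem rho_tN {k : ℕ} (hk : k < 36) (v : V5) : rho (tN k hk) v = rv k v :=
  ph_inj (by rw [ph_rho]; show Tt (3 * k) * ph v * (Tt (3 * k))⁻¹ = _; rw [Tt_inv, conj_ph hk])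

end Cfsg.Agent.Spor.M22U.Jay
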