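import Cfsg.Agent.Lib.Spor.M22UJay

/-!
The subgroup of order 243 of Fi22 is its own centralizer, and no element inverts it.
-/

set_option autoImplicit false
set_option maxRecDepth 100000
set_option linter.unusedSectionVars false

namespace Cfsg.Agent.Spor.M22U.Jay

open Cfsg.Agent.Spor.CC Cfsg.Agent.Spor.Fi22Cert Cfsg.Agent.Spor.Fi22Cert.U62Act
open Cfsg.Agent.Spor.M22U.Cent JDat

theorem rep_faithful {g : pres.Grp} (h : ∀ p < 3510, act g p = p) : g = 1 := by
  refine order.2.2 ?_
  rw [map_one]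
  refine Equiv.ext fun u => Fin.ext ?_
  have := h u u.2
  rw [act_def g u.2] at this
  exact this

theorem act_Tt {i q : ℕ} (hi : i < 108) (hq : q < 3510) : act (Tt i) q = ev RepU62.rows 9 (tWd i) q := by
  rw [← el_tWd, act_el (tWd_lt hi) hq]

theorem act_sE {k q : ℕ} (hk : k < 36) (hq : q < 3510) : act (sE k) q = ev RepU62.rows 9 (sW k) q := by
  rw [← el_sW, act_el (sW_lt hk) hq]

theorem shift3 {k j : ℕ} (hk : k < 36) (hj : j < 3) :
    act (sE k) (lp (3 * k + j)) = lp (3 * k + (j + 1) % 3) := by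
  have h := triple_spec hk
  simp only [tripleOK, Bool.and_eq_true, List.all_eq_true, List.mem_range] at h
  rw [act_sE hk (lp_lt _ (by omega))]
  exact Nat.eq_of_beq_eq_true (h.2 j hj)

theorem shift3_pow {k j : ℕ} (hk : k < 36) (hj : j < 3) : ∀ m : ℕ,
    act (sE k ^ m) (lp (3 * k + j)) = lp (3 * k + (j + m) % 3)
  | 0 => by
    rw [pow_zero, act_one (lp_lt _ (by omega)), Nat.add_zero, Nat.mod_eq_of_lt hj]
  | m + 1 => by
    rw [pow_succ', act_mul _ _ (lp_lt _ (by omega)), shift3_pow hk hj m, shift3 hk (Nat.mod_lt _ (by norm_num))]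
    congr 2
    omega

/-- the members inverting an element -/
def Inv3 (s : pres.Grp) : Set pres.Grp := {d | d ∈ Fischer.Dc ∧ d * s * d = s⁻¹}

theorem inv_conj (g s : pres.Grp) : Inv3 (g * s * g⁻¹) = MulAut.conj g '' Inv3 s := by
  ext d
  constructor
  · rintro ⟨hd, he⟩
    refine ⟨g⁻¹ * d * g, ⟨(Spor.conj_mem_iff Fischer.three.2.1 g).1 hd, ?_⟩, by
      show g * (g⁻¹ * d * g) * g⁻¹ = d; group⟩
    calc g⁻¹ * d * g * s * (g⁻¹ * d * g) = g⁻¹ * (d * (g * s * g⁻¹) * d) * g := by group
      _ = s⁻¹ := by rw [he]; group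
  · rintro ⟨u, ⟨hu, he⟩, rfl⟩
    refine ⟨Fischer.three.2.1 g u hu, ?_⟩
    show g * u * g⁻¹ * (g * s * g⁻¹) * (g * u * g⁻¹) = (g * s * g⁻¹)⁻¹
    calc g * u * g⁻¹ * (g * s * g⁻¹) * (g * u * g⁻¹) = g * (u * s * u) * g⁻¹ := by group
      _ = _ := by rw [he]; group

theorem inv_inv3 (s : pres.Grp) : Inv3 s⁻¹ = Inv3 s := by
  have key : ∀ t : pres.Grp, Inv3 t ⊆ Inv3 t⁻¹ := by
    rintro t d ⟨hd, he⟩
    refine ⟨hd, ?_⟩
    have h2 := congrArg (·⁻¹) he
    rwa [mul_inv_rev, mul_inv_rev, Spor.inv_of_order_two (Fischer.three.1.1 _ hd), ← mul_assoc] at h2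
  refine subset_antisymm (fun d hd => ?_) (key s)
  have := key s⁻¹ hd
  rwa [inv_inv] at this

theorem inv0_sub : Inv3 (sE 0) ⊆ {Tt 0, Tt 1, Tt 2} := by
  rintro d ⟨hd, he⟩
  have e : d = dp (Fischer.theta ⟨d, hd⟩ : ℕ) := congrArg Subtype.val (dp_surj pts_ok ⟨d, hd⟩)
  generalize hp : (Fischer.theta ⟨d, hd⟩ : ℕ) = p at e
  have hlt : p < 3510 := hp ▸ (Fischer.theta ⟨d, hd⟩).2
  have h : invOK p = true := by
    rcases Nat.lt_or_ge p 1755 with h | h
    · exact all_range inv_a (Nat.zero_le _) (by omega)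
    · exact all_range inv_b h (by omega)
  simp only [invOK, Bool.or_eq_true, List.any_eq_true, Bool.not_eq_true'] at h
  rcases h with ((h | h) | h) | ⟨u, hu, h⟩
  · left; rw [e, Nat.eq_of_beq_eq_true h]; rfl
  · right; left; rw [e, Nat.eq_of_beq_eq_true h]; rfl
  · right; right
    show d = Tt 2
    rw [e, Nat.eq_of_beq_eq_true h]; rfl
  · exfalso
    have hul : u < 3510 := (show ∀ u ∈ invTest, u < 3510 by decide +kernel) u hu
    have hw : ∀ x ∈ Fischer.tw' (pwP p), x < 9 := by
      intro x hx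
      have hp' := pw_lt pts_ok hlt
      rw [Fischer.tw', List.mem_append, List.mem_cons, List.mem_reverse] at hx
      rcases hx with hx | rfl | hx
      · exact hp' x hx
      · norm_num
      · exact hp' x hx
    have hel : el (Fischer.tw' (pwP p)) = d := (InvClasses.tw_prod _).symm.trans e.symm
    have h1 : el (Fischer.tw' (pwP p) ++ sW 0 ++ Fischer.tw' (pwP p) ++ sW 0) = 1 := by
      rw [el_app, el_app, el_app, hel, el_sW, he, inv_mul_cancel]
    have hlet : ∀ x ∈ Fischer.tw' (pwP p) ++ sW 0 ++ Fischer.tw' (pwP p) ++ sW 0, x < 9 := by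
      intro x hx
      simp only [List.mem_append] at hx
      rcases hx with ((hx | hx) | hx) | hx
      · exact hw x hx
      · exact sW_lt (by norm_num) x hx
      · exact hw x hx
      · exact sW_lt (by norm_num) x hx
    have h2 := act_el hlet hul
    rw [h1, act_one hul] at h2
    rw [← h2, Nat.beq_refl] at h
    cases h

theorem Tt_inj {i j : ℕ} (hi : i < 108) (hj : j < 108) (h : Tt i = Tt j) : i = j :=
  lp_inj hi hj (by
    rw [← theta_dp pts_ok (lp_lt i hi), ← theta_dp pts_ok (lp_lt j hj),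
      show dp (lp i) = dp (lp j) from Subtype.ext h])

theorem conj_Tt {g : pres.Grp} {i j : ℕ} (hi : i < 108) (h : act g (lp i) = lp j) :
    g * Tt i * g⁻¹ = Tt j := by
  rw [Tt, ← act_dp pts_ok g (lp_lt i hi), h]; rfl

theorem triple_inverts {k j : ℕ} (hk : k < 36) (hj : j < 3) : Tt (3 * k + j) ∈ Inv3 (sE k) := by
  haveI := order.1
  refine ⟨(dp _).2, ?_⟩
  have h0 : Tt (3 * k) * sE k * Tt (3 * k) = (sE k)⁻¹ := by
    show Tt (3 * k) * (Tt (3 * k) * Tt (3 * k + 1)) * Tt (3 * k) = (Tt (3 * k) * Tt (3 * k + 1))⁻¹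
    rw [← mul_assoc (Tt (3 * k)), Tt_sq, one_mul, mul_inv_rev, Tt_inv, Tt_inv]
  have hc : sE k ^ j * Tt (3 * k) * (sE k ^ j)⁻¹ = Tt (3 * k + j) := by
    refine conj_Tt (by omega) ?_
    have := shift3_pow hk (j := 0) (by norm_num) j
    rwa [Nat.add_zero, Nat.zero_add, Nat.mod_eq_of_lt hj] at this
  rw [← hc]
  calc sE k ^ j * Tt (3 * k) * (sE k ^ j)⁻¹ * sE k * (sE k ^ j * Tt (3 * k) * (sE k ^ j)⁻¹)
      = sE k ^ j * (Tt (3 * k) * sE k * Tt (3 * k)) * (sE k ^ j)⁻¹ := by
        rw [show sE k ^ j * Tt (3 * k) * (sE k ^ j)⁻¹ * sE k = sE k ^ j * Tt (3 * k) * sE k * (sE k ^ j)⁻¹ by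
          rw [mul_assoc, mul_assoc _ (sE k), ((Commute.self_pow (sE k) j).inv_right).eq]]
        group
    _ = (sE k)⁻¹ := by rw [h0]; group

theorem inv_triple {k : ℕ} (hk : k < 36) {d : pres.Grp} (hd : d ∈ Inv3 (sE k)) :
    ∃ j < 3, d = Tt (3 * k + j) := by
  classical
  haveI := order.1
  let T3 : Finset pres.Grp := {Tt (3 * k), Tt (3 * k + 1), Tt (3 * k + 2)}
  have hsub : (T3 : Set pres.Grp) ⊆ Inv3 (sE k) := by
    intro x hx
    simp only [T3, Finset.coe_insert, Finset.coe_singleton, Set.mem_insert_iff, Set.mem_singleton_iff] at hx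
    rcases hx with rfl | rfl | rfl
    · exact triple_inverts (j := 0) hk (by norm_num)
    · exact triple_inverts (j := 1) hk (by norm_num)
    · exact triple_inverts (j := 2) hk (by norm_num)
  have hcard : T3.card = 3 := by
    refine Finset.card_eq_three.mpr ⟨_, _, _, ?_, ?_, ?_, rfl⟩ <;>
      · intro e; have := Tt_inj (by omega) (by omega) e; omega
  obtain ⟨g, hg⟩ : ∃ g : pres.Grp, sE k = g * sE 0 * g⁻¹ ∨ (sE k)⁻¹ = g * sE 0 * g⁻¹ := by
    have h1 : ∀ v, v ≠ 0 → qv v = 1 → ∃ g : pres.Grp, ph v = g * sE 0 * g⁻¹ := by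
      intro v hv
      refine vec_induct (P := fun v => qv v = 1 → ∃ g : pres.Grp, ph v = g * sE 0 * g⁻¹) ?_ ?_ v hv
      · intro e he hq
        have hm : (e.1, e.2.1, qv (dec e.1)) ∈ ([(1, 1, 1), (28, 2, 2), (4, 4, 0)] : List (ℕ × ℕ × ZMod 3)) := by
          rw [← vreps_ok.2.2.2]; exact List.mem_map.mpr ⟨e, he, rfl⟩
        rw [hq] at hm
        simp only [List.mem_cons, Prod.mk.injEq, List.not_mem_nil, or_false] at hm
        rcases hm with ⟨h1, -, -⟩ | ⟨-, -, h⟩ | ⟨-, -, h⟩
        · refine ⟨1, ?_⟩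
          rw [h1, show dec 1 = ev5 0 from rfl, ph_basis (by norm_num)]; group
        · exact absurd h (by decide)
        · exact absurd h (by decide)
      · intro k' hk' u _ ih hq
        obtain ⟨g, hg⟩ := ih (by rwa [qv_rv hk'] at hq)
        refine ⟨Tt (3 * k') * g, ?_⟩
        rw [← conj_ph hk', hg, mul_inv_rev, Tt_inv]; group
    have hne : vv k ≠ 0 := fun e => by
      have := vv_one k hk; rw [e] at this; exact absurd this (by decide)
    obtain ⟨g, hg⟩ := h1 _ hne (vv_one k hk)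
    exact ⟨g, Or.inl (by rw [sE_vv hk, hg])⟩
  have hle : (Inv3 (sE k)).ncard ≤ 3 := by
    have e : Inv3 (sE k) = MulAut.conj g '' Inv3 (sE 0) := by
      rcases hg with h | h
      · rw [h, inv_conj]
      · rw [← inv_inv3, h, inv_conj]
    rw [e, Set.ncard_image_of_injective _ (MulAut.conj g).injective]
    refine (Set.ncard_le_ncard inv0_sub (Set.toFinite _)).trans ?_
    exact (Set.ncard_insert_le _ _).trans (Nat.succ_le_succ ((Set.ncard_insert_le _ _).trans (by simp)))
  have heq := Set.eq_of_subset_of_ncard_le hsub (by rw [Set.ncard_coe_finset, hcard]; exact hle) (Set.toFinite _)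
  rw [← heq] at hd
  simp only [T3, Finset.coe_insert, Finset.coe_singleton, Set.mem_insert_iff, Set.mem_singleton_iff] at hd
  rcases hd with rfl | rfl | rfl
  · exact ⟨0, by norm_num, rfl⟩
  · exact ⟨1, by norm_num, rfl⟩
  · exact ⟨2, by norm_num, rfl⟩

/-- an element acting on the subgroup by a power -/
def Scal (n : pres.Grp) (ε : ℕ) : Prop := ∀ v, n * ph v * n⁻¹ = ph v ^ ε

theorem maps_triple {n : pres.Grp} {ε : ℕ} (hε : ε = 1 ∨ ε = 2) (h : Scal n ε) {k : ℕ} (hk : k < 36) :
    ∃ j < 3, act n (lp (3 * k)) = lp (3 * k + j) := by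
  have hm : n * Tt (3 * k) * n⁻¹ ∈ Inv3 (sE k) := by
    have h0 := triple_inverts (j := 0) hk (by norm_num)
    rw [Nat.add_zero] at h0
    have e : Inv3 (sE k) = Inv3 (n * sE k * n⁻¹) := by
      rw [sE_vv hk, h]
      rcases hε with rfl | rfl
      · rw [pow_one]
      · have h3 : ph (vv k) * ph (vv k) ^ 2 = 1 := by
          rw [← pow_succ', ← ph_nsmul, show (2 + 1) • vv k = 0 by funext i; simp [nsmul_eq_mul]; exact Or.inl rfl,
            ph_zero]
        rw [eq_inv_of_mul_eq_one_right h3, inv_inv3]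
    rw [e, inv_conj]
    exact ⟨_, h0, rfl⟩
  obtain ⟨j, hj, e⟩ := inv_triple hk hm
  refine ⟨j, hj, ?_⟩
  have h1 : (dp (act n (lp (3 * k))) : pres.Grp) = dp (lp (3 * k + j)) := by
    rw [act_dp pts_ok n (lp_lt _ (by omega))]; exact e
  rw [← theta_dp pts_ok (act_lt n (lp_lt _ (by omega))), Subtype.ext h1, theta_dp pts_ok (lp_lt _ (by omega))]

theorem normalise {n : pres.Grp} {ε : ℕ} (hε : ε = 1 ∨ ε = 2) (h : Scal n ε) :
    ∃ u : V5, Scal (ph u * n) ε ∧ ∀ i < 5, act (ph u * n) (lp (3 * i)) = lp (3 * i) := by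
  have hj := fun i (hi : i < 5) => maps_triple hε h (k := i) (by omega)
  choose j hj3 hje using hj
  obtain ⟨E, hE, hEd⟩ : ∃ E < 243, ∀ i (hi : i < 5), E / 3 ^ i % 3 = (3 - j i hi) % 3 := by
    refine ⟨(3 - j 0 (by norm_num)) % 3 + 3 * ((3 - j 1 (by norm_num)) % 3) + 9 * ((3 - j 2 (by norm_num)) % 3) +
      27 * ((3 - j 3 (by norm_num)) % 3) + 81 * ((3 - j 4 (by norm_num)) % 3), by omega, fun i hi => ?_⟩
    interval_cases i <;> norm_num <;> omega
  obtain ⟨c, hc, hce⟩ := shift_surj hE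
  have hcomm : ∀ u v : V5, Commute (ph u) (ph v) := fun u v => by
    show ph u * ph v = ph v * ph u
    rw [← ph_add, ← ph_add, add_comm]
  refine ⟨dec c, fun v => ?_, fun i hi => ?_⟩
  · calc ph (dec c) * n * ph v * (ph (dec c) * n)⁻¹ = ph (dec c) * (n * ph v * n⁻¹) * (ph (dec c))⁻¹ := by group
      _ = ph v ^ ε := by rw [h, ((hcomm (dec c) v).pow_right ε).eq, mul_inv_cancel_right]
  · have hlt := lp_lt (3 * i) (by omega)
    have hsi : sE i = ph (ev5 i) := (ph_basis hi).symm
    have e0 : lp (3 * i + j i hi) = act (sE i ^ j i hi) (lp (3 * i)) := by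
      have := shift3_pow (k := i) (by omega) (j := 0) (by norm_num) (j i hi)
      rw [Nat.add_zero, Nat.zero_add, Nat.mod_eq_of_lt (hj3 i hi)] at this
      exact this.symm
    rw [act_mul _ _ hlt, hje i hi, e0, ← act_mul _ _ hlt, hsi, ((hcomm _ _).pow_right _).eq, ← hsi,
      act_mul _ _ hlt, (shift_spec hc hi).1, hce, hEd i hi, shift3_pow (by omega) (Nat.mod_lt _ (by norm_num))]
    have := hj3 i hi
    congr 1
    omega

theorem img_known {n : pres.Grp} {ε : ℕ} {π : List ℕ} (hs : Scal n ε)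
    (hπ : ∀ i < 108, cim π i < 108)
    (hst : ∀ s ∈ steps, imgStepOK ε π s = true) :
    ∀ (rest : List (ℕ × ℕ × ℕ × ℕ)) (known : List ℕ), (∀ s ∈ rest, s ∈ steps) → derivOK known rest = true →
      (∀ i ∈ known, i < 108 ∧ act n (lp i) = lp (cim π i)) → ∀ i < 108, act n (lp i) = lp (cim π i)
  | [], known, _, h, hk => fun i hi => by
    simp only [derivOK, List.all_eq_true, List.mem_range, List.any_eq_true] at h
    obtain ⟨a, ha, hai⟩ := h i hi
    rw [← Nat.eq_of_beq_eq_true hai]
    exact (hk a ha).2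
  | s :: rest, known, hsub, h, hk => by
    simp only [derivOK, Bool.and_eq_true, stepOK, List.any_eq_true] at h
    obtain ⟨⟨⟨⟨a, ha, ha'⟩, b, hb, hb'⟩, hev⟩, hrest⟩ := h
    obtain ⟨h1, e1⟩ := Nat.eq_of_beq_eq_true ha' ▸ hk a ha
    obtain ⟨h2, e2⟩ := Nat.eq_of_beq_eq_true hb' ▸ hk b hb
    have hmem := hsub s (List.mem_cons_self ..)
    have hs1 : s.1 < 108 := (show ∀ s ∈ steps, s.1 < 108 by decide +kernel) s hmem
    have him := hst s hmem
    refine img_known hs hπ hst rest (s.1 :: known) (fun t ht => hsub t (List.mem_cons_of_mem _ ht)) hrest ?_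
    intro i hi
    rcases List.mem_cons.mp hi with rfl | hi
    · refine ⟨hs1, ?_⟩
      cases hc : Nat.beq s.2.2.2 0 <;> simp only [hc, cond_true, cond_false, imgStepOK, Bool.and_eq_true] at hev him
      · have hk' : s.2.1 / 3 < 36 := by omega
        have e3 : lp s.1 = act (sE (s.2.1 / 3)) (lp s.2.1) := by
          rw [act_sE hk' (lp_lt _ h1), Nat.eq_of_beq_eq_true hev.2]
        rw [e3, ← act_mul _ _ (lp_lt _ h1),
          show n * sE (s.2.1 / 3) = sE (s.2.1 / 3) ^ ε * n from eq_mul_of_mul_inv_eq (by rw [sE_vv hk']; exact hs _),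
          act_mul _ _ (lp_lt _ h1), e1, ← el_sW, ← el_powW, act_el (powW_lt' (sW_lt hk')) (lp_lt _ (hπ _ h1))]
        exact Nat.eq_of_beq_eq_true him
      · have e3 : lp s.1 = act (Tt s.2.1) (lp s.2.2.1) := by
          rw [act_Tt h1 (lp_lt _ h2), Nat.eq_of_beq_eq_true hev]
        rw [e3, ← act_mul _ _ (lp_lt _ h2),
          show n * Tt s.2.1 = Tt (cim π s.2.1) * n from eq_mul_of_mul_inv_eq (conj_Tt h1 e1),
          act_mul _ _ (lp_lt _ h2), e2, act_Tt (hπ _ h1) (lp_lt _ (hπ _ h2))]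
        exact Nat.eq_of_beq_eq_true him
    · exact hk i hi

/-- a case -/
def caseAt (j : ℕ) : ℕ × ℕ × List ℕ × List ℕ × ℕ × ℕ := cases.getD j (0, 0, [], [], 0, 0)

theorem case_table_aux : (List.range 6).all (fun j => Nat.beq (caseAt j).1 (j / 3 + 1) && Nat.beq (caseAt j).2.1 (j % 3) &&
    Nat.beq (caseAt j).2.2.2.2.2 ([0, 4000, 4000, fim 0, 4000, 4000].getD j 0) && Nat.blt (caseAt j).2.2.2.2.1 3510 &&
    Nat.blt j cases.length && (!(Nat.beq (j % 3) 0) || Nat.beq (caseAt j).2.2.2.2.1 0)) = true := by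
  decide +kernel

theorem case_table (j : ℕ) (hj : j < 6) : (caseAt j).1 = j / 3 + 1 ∧ (caseAt j).2.1 = j % 3 ∧
    (caseAt j).2.2.2.2.2 = [0, 4000, 4000, fim 0, 4000, 4000].getD j 0 ∧ (caseAt j).2.2.2.2.1 < 3510 ∧
    caseAt j ∈ cases ∧ (j % 3 = 0 → (caseAt j).2.2.2.2.1 = 0) := by
  have h := List.all_eq_true.mp case_table_aux j (List.mem_range.mpr hj)
  simp only [Bool.and_eq_true, Bool.or_eq_true, Bool.not_eq_true'] at h
  obtain ⟨⟨⟨⟨⟨h1, h2⟩, h3⟩, h4⟩, h5⟩, h6⟩ := h
  refine ⟨Nat.eq_of_beq_eq_true h1, Nat.eq_of_beq_eq_true h2, Nat.eq_of_beq_eq_true h3,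
    Nat.le_of_ble_eq_true h4, ?_, fun h0 => ?_⟩
  · rw [caseAt, List.getD_eq_getElem _ _ (Nat.le_of_ble_eq_true h5)]
    exact List.getElem_mem _
  · rcases h6 with h6 | h6
    · rw [h0] at h6; cases h6
    · exact Nat.eq_of_beq_eq_true h6

theorem sep_at {j q : ℕ} (hj : j < 6) (hq : q < 3510) : sepOK (caseAt j) q = true := by
  interval_cases j
  · exact all_range sep0 (Nat.zero_le _) (by omega)
  · exact all_range sep1 (Nat.zero_le _) (by omega)
  · exact all_range sep2 (Nat.zero_le _) (by omega)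
  · exact all_range sep3 (Nat.zero_le _) (by omega)
  · exact all_range sep4 (Nat.zero_le _) (by omega)
  · exact all_range sep5 (Nat.zero_le _) (by omega)

theorem case_img {n : pres.Grp} {ε : ℕ} (hε : ε = 1 ∨ ε = 2) (hs : Scal n ε)
    (hfix : ∀ i < 5, act n (lp (3 * i)) = lp (3 * i)) :
    ∃ e < 3, (∀ i < 108, act n (lp i) = lp (cim (caseAt (3 * (ε - 1) + e)).2.2.1 i)) ∧
      act n (caseAt (3 * (ε - 1) + e)).2.2.2.2.1 = (caseAt (3 * (ε - 1) + e)).2.2.2.2.2 := by
  obtain ⟨e, he, he27⟩ := maps_triple hε hs (k := 9) (by norm_num)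
  refine ⟨e, he, ?_⟩
  set j := 3 * (ε - 1) + e with hj
  have hj6 : j < 6 := by rcases hε with rfl | rfl <;> omega
  obtain ⟨hc1, hc2, -, hc4, hmem, -⟩ := case_table j hj6
  have hok := List.all_eq_true.mp cases_ok _ hmem
  simp only [caseOK, Bool.and_eq_true, List.all_eq_true, List.mem_range] at hok
  obtain ⟨⟨h5, h27⟩, hst⟩ := hok
  obtain ⟨-, -, hsep, -, hlt⟩ := case_shapes
  simp only [List.all_eq_true, List.mem_range] at hlt hsep
  have hπ : ∀ i < 108, cim (caseAt j).2.2.1 i < 108 := fun i hi => Nat.le_of_ble_eq_true (hlt _ hmem i hi)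
  have hε' : (caseAt j).1 = ε := by rw [hc1]; rcases hε with rfl | rfl <;> omega
  rw [hε'] at hst
  have hall := img_known hs hπ hst steps [0, 3, 6, 9, 12, 27] (fun s h => h) deriv_ok (fun i hi => by
    simp only [List.mem_cons, List.not_mem_nil, or_false] at hi
    have g : ∀ a < 5, act n (lp (3 * a)) = lp (cim (caseAt j).2.2.1 (3 * a)) := fun a ha =>
      (hfix a ha).trans (by rw [Nat.eq_of_beq_eq_true (h5 a ha)])
    rcases hi with rfl | rfl | rfl | rfl | rfl | rfl
    · exact ⟨by norm_num, g 0 (by norm_num)⟩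
    · exact ⟨by norm_num, g 1 (by norm_num)⟩
    · exact ⟨by norm_num, g 2 (by norm_num)⟩
    · exact ⟨by norm_num, g 3 (by norm_num)⟩
    · exact ⟨by norm_num, g 4 (by norm_num)⟩
    · refine ⟨by norm_num, ?_⟩
      rw [Nat.eq_of_beq_eq_true h27, hc2, show j % 3 = e by omega]
      exact he27)
  refine ⟨hall, ?_⟩
  have h := sep_at hj6 (act_lt n hc4)
  simp only [sepOK, Bool.or_eq_true, List.any_eq_true, bne_iff_ne] at h
  rcases h with h | ⟨a, ha, h⟩
  · exact Nat.eq_of_beq_eq_true h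
  · refine absurd ?_ h
    have hal : a < 108 := Nat.le_of_ble_eq_true (hsep _ hmem a ha)
    rw [← hall a hal]
    exact adjb_act pts_ok n (lp_lt a hal) hc4

theorem tree_img {n : pres.Grp} {π : List ℕ} (f : ℕ → ℕ) (hπ : ∀ i < 108, cim π i < 108)
    (hL : ∀ i < 108, act n (lp i) = lp (cim π i)) {q0 : ℕ} (hq : q0 < 3510) (h0 : act n 0 = q0)
    (hroot : ∀ i < 108, f (lp i) = lp (cim π i)) (hroot0 : f 0 = q0)
    (hstep : ∀ p < 3510, fld parTab 24 p % 256 ≠ 255 → ev RepU62.rows 9 (Fischer.tw' (pwP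
      (bif Nat.blt (fld parTab 24 p % 256) 108 then lp (cim π (fld parTab 24 p % 256)) else q0)))
        (f (fld parTab 24 p / 256)) = f p) :
    ∀ p < 3510, act n p = f p := by
  have key : ∀ m, ∀ p < 3510, fld depTab 4 p ≤ m → act n p = f p := by
    intro m
    induction m using Nat.strong_induction_on with
    | _ m ih =>
      intro p hp hm
      have h : treeOK p = true := by
        rcases Nat.lt_or_ge p 1755 with h | h
        · exact all_range tree_a (Nat.zero_le _) (by omega)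
        · exact all_range tree_b h (by omega)
      by_cases hb : fld parTab 24 p % 256 = 255
      · simp only [treeOK, hb, Nat.beq_refl, cond_true, Bool.or_eq_true, List.any_eq_true] at h
        rcases h with h | ⟨a, ha, h⟩
        · rw [Nat.eq_of_beq_eq_true h, h0, hroot0]
        · obtain ⟨i, hi, rfl⟩ := List.mem_iff_getElem.mp ha
          have hi' : i < 108 := lp_nodup.2 ▸ hi
          have e : lp i = p := by rw [lp, List.getD_eq_getElem _ _ hi]; exact Nat.eq_of_beq_eq_true h
          rw [← e, hL i hi', hroot i hi']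
      · have hbe : Nat.beq (fld parTab 24 p % 256) 255 = false := by
          cases hc : Nat.beq (fld parTab 24 p % 256) 255
          · rfl
          · exact absurd (Nat.eq_of_beq_eq_true hc) hb
        simp only [treeOK, hbe, cond_false, Bool.and_eq_true] at h
        obtain ⟨⟨⟨hg, hpar⟩, hdep⟩, hev⟩ := h
        replace hg := Nat.le_of_ble_eq_true hg
        replace hpar := Nat.le_of_ble_eq_true hpar
        replace hdep := Nat.le_of_ble_eq_true hdep
        have hev' := Nat.eq_of_beq_eq_true hev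
        have hgl : gp (fld parTab 24 p % 256) < 3510 := by
          unfold gp
          cases hc : Nat.blt (fld parTab 24 p % 256) 108
          · norm_num
          · exact lp_lt _ (Nat.le_of_ble_eq_true hc)
        set q := fld parTab 24 p / 256
        set g := gp (fld parTab 24 p % 256)
        have e : p = act (dp g : pres.Grp) q := by rw [FixDp hgl hpar]; exact hev'.symm
        conv_lhs => rw [e]
        rw [← act_mul _ _ hpar,
          show n * (dp g : pres.Grp) = (dp (act n g) : pres.Grp) * n by rw [act_dp pts_ok n hgl]; group,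
          act_mul _ _ hpar, ih _ (by omega) q hpar (le_refl _), ← hstep p hp hb]
        have hfl : f q < 3510 := by rw [← ih _ (by omega) q hpar (le_refl _)]; exact act_lt _ hpar
        rw [FixDp (act_lt n hgl) hfl]
        congr 4
        show act n (gp (fld parTab 24 p % 256)) = _
        unfold gp
        cases hc : Nat.blt (fld parTab 24 p % 256) 108
        · exact h0
        · exact hL _ (Nat.le_of_ble_eq_true hc)
  exact fun p hp => key _ p hp (le_refl _)
where
  FixDp {p q : ℕ} (hp : p < 3510) (hq : q < 3510) :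
      act (dp p : pres.Grp) q = ev RepU62.rows 9 (Fischer.tw' (pwP p)) q := by
    rw [act_def _ hq]
    exact Fischer.mem_act (pw_lt pts_ok hp) _

theorem tree_par {p : ℕ} (hp : p < 3510) (hb : fld parTab 24 p % 256 ≠ 255) :
    ev RepU62.rows 9 (Fischer.tw' (pwP (gp (fld parTab 24 p % 256)))) (fld parTab 24 p / 256) = p := by
  have h : treeOK p = true := by
    rcases Nat.lt_or_ge p 1755 with h | h
    · exact all_range tree_a (Nat.zero_le _) (by omega)
    · exact all_range tree_b h (by omega)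
  have hbe : Nat.beq (fld parTab 24 p % 256) 255 = false := by
    cases hc : Nat.beq (fld parTab 24 p % 256) 255
    · rfl
    · exact absurd (Nat.eq_of_beq_eq_true hc) hb
  simp only [treeOK, hbe, cond_false, Bool.and_eq_true] at h
  exact Nat.eq_of_beq_eq_true h.2

theorem fixed_trivial {n : pres.Grp} (hs : Scal n 1) (hfix : ∀ i < 5, act n (lp (3 * i)) = lp (3 * i)) :
    n = 1 := by
  obtain ⟨e, he, hall, hsep⟩ := case_img (Or.inl rfl) hs hfix
  simp only [Nat.sub_self, Nat.mul_zero, Nat.zero_add] at hall hsep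
  obtain ⟨-, -, h3, h4, -, h6⟩ := case_table e (by omega)
  rw [h3] at hsep
  have he0 : e = 0 := by
    interval_cases e
    · rfl
    all_goals (have := act_lt n h4; rw [hsep] at this; exact absurd this (by norm_num))
  subst he0
  rw [h6 rfl] at hsep
  have hid := case_shapes.2.1
  simp only [List.all_eq_true, List.mem_range] at hid
  refine rep_faithful ?_
  refine tree_img id (fun i hi => (Nat.eq_of_beq_eq_true (hid i hi)).symm ▸ hi) hall (q0 := 0) (by norm_num) hsep
    (fun i hi => (congrArg lp (Nat.eq_of_beq_eq_true (hid i hi))).symm) rfl fun p hp hb => ?_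
  have hp' := tree_par hp hb
  unfold gp at hp'
  simp only [id]
  cases hc : Nat.blt (fld parTab 24 p % 256) 108
  · rw [hc] at hp'; exact hp'
  · rw [hc] at hp'
    simp only [cond_true] at hp' ⊢
    rw [show cim (caseAt 0).2.2.1 (fld parTab 24 p % 256) = fld parTab 24 p % 256 from
      Nat.eq_of_beq_eq_true (hid _ (Nat.le_of_ble_eq_true hc))]
    exact hp'

theorem centralizer_Asub {n : pres.Grp} (h : ∀ v, Commute n (ph v)) : n ∈ Asub := by
  have hs : Scal n 1 := fun v => by rw [pow_one, (h v).eq, mul_inv_cancel_right]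
  obtain ⟨u, hu, hf⟩ := normalise (Or.inl rfl) hs
  have := fixed_trivial hu hf
  exact mem_Asub.mpr ⟨-u, by rw [ph_neg]; exact inv_eq_of_mul_eq_one_right this⟩

universe u
variable {G : Type u} [Group G] [Finite G] {D : Set G}

theorem no_inverter (hD : Cfsg.IsThreeTranspositionGroup D) (hprim : Cfsg.IsPrimitiveUnderConj D)
    (ht : Cfsg.IsOfTypeM22 G D) (n : pres.Grp) : ¬ Scal n 2 := by
  classical
  intro h
  obtain ⟨u, hs, hfix⟩ := normalise (Or.inr rfl) h
  set m := ph u * n
  obtain ⟨e, he, hall, hsep⟩ := case_img (Or.inr rfl) hs hfix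
  obtain ⟨-, -, h3, h4, -, h6⟩ := case_table (3 * (2 - 1) + e) (by omega)
  rw [h3] at hsep
  have he0 : e = 0 := by
    interval_cases e
    · rfl
    all_goals (have := act_lt m h4; rw [hsep] at this; exact absurd this (by norm_num))
  subst he0
  rw [h6 rfl] at hsep
  obtain ⟨-, -, -, -, hlt⟩ := case_shapes
  simp only [List.all_eq_true, List.mem_range] at hlt
  have hπ : ∀ i < 108, cim (caseAt 3).2.2.1 i < 108 := fun i hi =>
    Nat.le_of_ble_eq_true (hlt _ (case_table 3 (by norm_num)).2.2.2.2.1 i hi)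
  have hq : fim 0 < 3510 := (show fim 0 < 3510 by decide +kernel)
  have hfim : ∀ p < 3510, fimOK (caseAt 3).2.2.1 (fim 0) p = true := by
    intro p hp
    have hc : (caseAt 3).2.2.2.2.2 = fim 0 := (case_table 3 (by norm_num)).2.2.1
    rw [← hc]
    rcases Nat.lt_or_ge p 1755 with h | h
    · exact all_range fim_a (Nat.zero_le _) (by omega)
    · exact all_range fim_b h (by omega)
  have hact : ∀ p < 3510, act m p = fim p := by
    refine tree_img fim hπ hall hq hsep (fun i hi => ?_) rfl fun p hp hb => ?_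
    · have hb : fld parTab 24 (lp i) % 256 = 255 := (show ∀ i < 108, fld parTab 24 (lp i) % 256 = 255 by decide +kernel) i hi
      have h := hfim _ (lp_lt i hi)
      simp only [fimOK, hb, Nat.beq_refl, cond_true, Bool.and_eq_true, List.all_eq_true, List.mem_range,
        Bool.or_eq_true, Bool.not_eq_true'] at h
      rcases h.1 i hi with h' | h'
      · rw [Nat.beq_refl] at h'; cases h'
      · exact Nat.eq_of_beq_eq_true h'
    · have hbe : Nat.beq (fld parTab 24 p % 256) 255 = false := by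
        cases hc : Nat.beq (fld parTab 24 p % 256) 255
        · rfl
        · exact absurd (Nat.eq_of_beq_eq_true hc) hb
      have h := hfim p hp
      simp only [fimOK, hbe, cond_false] at h
      exact Nat.eq_of_beq_eq_true h
  have hm2 : m * m = 1 := by
    refine fixed_trivial (fun v => ?_) fun i hi => ?_
    · have h1 : m * m * ph v * (m * m)⁻¹ = m * (m * ph v * m⁻¹) * m⁻¹ := by group
      rw [h1, hs, ← conj_pow, hs, ← pow_mul, pow_one]
      have h3 : ph v ^ 3 = 1 := by
        rw [← ph_nsmul, show 3 • v = 0 by funext i; simp [nsmul_eq_mul]; exact Or.inl rfl, ph_zero]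
      rw [show 2 * 2 = 3 + 1 from rfl, pow_succ, h3, one_mul]
    · rw [act_mul _ _ (lp_lt _ (by omega)), hfix i hi, hfix i hi]
  have hcount : InvClasses.fx Fischer.Dc m = 72 := by
    rw [← fim_count, InvClasses.fx, ← List.toFinset_card_of_nodup (List.Nodup.filter _ List.nodup_range),
      ← Set.ncard_coe_finset]
    have hcom : ∀ d : Fischer.Dc, Commute m (d : pres.Grp) ↔ fim (Fischer.theta d : ℕ) = (Fischer.theta d : ℕ) := by
      intro d
      rw [← hact _ (Fischer.theta d).2, act_def _ (Fischer.theta d).2, ← Fin.ext_iff, theta_act,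
        Fischer.theta_inj.eq_iff, Subtype.ext_iff, mul_inv_eq_iff_eq_mul]
      rfl
    refine Set.ncard_congr (fun d hd => (Fischer.theta ⟨d, hd.1⟩ : ℕ)) ?_ ?_ ?_
    · intro d hd
      simp only [List.coe_toFinset, Set.mem_setOf_eq, List.mem_filter, List.mem_range]
      exact ⟨(Fischer.theta ⟨d, hd.1⟩).2, by rw [(hcom ⟨d, hd.1⟩).mp hd.2]; exact Nat.beq_refl _⟩
    · intro a b ha hb h
      exact congrArg Subtype.val (Fischer.theta_inj (Fin.ext h))
    · intro x hx
      simp only [List.coe_toFinset, Set.mem_setOf_eq, List.mem_filter, List.mem_range] at hx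
      have e : (Fischer.theta (dp x) : ℕ) = x := theta_dp pts_ok hx.1
      exact ⟨(dp x : pres.Grp), ⟨(dp x).2, (hcom (dp x)).mpr (by rw [e]; exact Nat.eq_of_beq_eq_true hx.2)⟩, e⟩
  have hne : m ≠ 1 := fun e => by
    rw [e, InvClasses.fx] at hcount
    simp only [Commute.one_left, and_true] at hcount
    rw [show {d : pres.Grp | d ∈ Fischer.Dc} = Fischer.Dc from rfl, ← Nat.card_coe_set_eq, card_class] at hcount
    norm_num at hcount
  obtain ⟨e', he'⟩ := Norm.iso_fi22 hD hprim ht
  have ho : orderOf (e' m) = 2 := by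
    haveI : Fact (Nat.Prime 2) := ⟨Nat.prime_two⟩
    exact orderOf_eq_prime (by rw [← map_pow, pow_two, hm2, map_one]) (fun h => hne (e'.injective (h.trans (map_one e').symm)))
  obtain ⟨l, hl, h1, h3, hx⟩ := InvClasses.exists_good hD hprim ht ho
  have := InvClasses.fx_good hD hprim ht hl h1 h3
  rw [hx, InvClasses.fx_iso e' he', hcount] at this
  interval_cases hlen : l.length <;> simp at this

end Cfsg.Agent.Spor.M22U.Jay
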