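import Cfsg.Agent.Lib.Spor.M22UCentDefs
import Cfsg.Agent.Lib.Spor.Fi22O7ThreesCheck
import Cfsg.Agent.Lib.Spor.M22UThreesData

/-!
Checks for the four classes of subgroups of order three of Fi22.
-/

set_option autoImplicit false
set_option maxRecDepth 100000
set_option maxHeartbeats 4000000

namespace Cfsg.Agent.Spor.M22U.Threes

open Cfsg.Agent.Spor.CC Cfsg.Agent.Spor.Fi22Cert Cfsg.Agent.Spor.Fi22Cert.U62Act
open Cfsg.Agent.Spor.M22U.Cent
open Cfsg.Agent.Spor.Fi22Cert.O7Threes (hWords repWord evB)

/-- word of a representative -/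
def rW (c : ℕ) : List ℕ := (repWord.getD c []).flatMap fun k => (hWords.getD k []).map (· + 1)

/-- word of a fusing element -/
def gW (l : List ℕ) : List ℕ := l.flatMap fun p => Fischer.tw' (pwP p)

/-- relation of a fusion -/
def relW (f : ℕ × ℕ × List ℕ) : List ℕ := gW f.2.2 ++ rW f.1 ++ (gW f.2.2).reverse ++ (rW f.2.1).reverse

theorem rels : fixOK RepU62.rows 9 (fus.map relW) (RepU62.levels.map Orb.b) = true ∧
    lettersOK 9 (fus.map relW) = true ∧ lettersOK 9 (fus.map fun f => gW f.2.2) = true := by decide +kernel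

theorem cls_facts : (∀ i < 4, cls.getD i 0 < 7) ∧ (∀ i < 4, ∀ j < 4, widths.getD i 0 = widths.getD j 0 → i = j) ∧
    (∀ c < 7, c ∈ cls ∨ ∃ f ∈ fus, (f.1 = c ∧ f.2.1 ∈ cls) ∨ (f.2.1 = c ∧ f.1 ∈ cls)) := by decide +kernel

/-- a listed fixed point, or none -/
noncomputable def fixListOK (i u : ℕ) : Bool :=
  Nat.beq (evB (repWord.getD (cls.getD i 0) []) u) u == (cFix.getD i []).any (fun v => Nat.beq v u)

theorem fixList0 : rangeOK (fixListOK 0) 0 3510 = true := by decide +kernel
theorem fixList1 : rangeOK (fixListOK 1) 0 3510 = true := by decide +kernel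
theorem fixList2 : rangeOK (fixListOK 2) 0 3510 = true := by decide +kernel
theorem fixList3 : rangeOK (fixListOK 3) 0 3510 = true := by decide +kernel

/-- point of an index -/
def cpnt (i a : ℕ) : ℕ := (cFix.getD i []).getD a 0

/-- adjacency of indices -/
def cAdj (i a b : ℕ) : Bool := Nat.testBit ((cRows.getD i []).getD a 0) b

/-- number of listed points -/
def cNum (i : ℕ) : ℕ := (cFix.getD i []).length

/-- a row of the adjacency -/
noncomputable def rowOK (i a : ℕ) : Bool :=
  Nat.blt (cpnt i a) 3510 && (List.range (cNum i)).all fun b => adjb (cpnt i a) (cpnt i b) == cAdj i a b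

theorem rows0a : rangeOK (rowOK 0) 0 63 = true := by decide +kernel
theorem rows0b : rangeOK (rowOK 0) 63 63 = true := by decide +kernel
theorem rows1 : rangeOK (rowOK 1) 0 36 = true := by decide +kernel
theorem rows2 : rangeOK (rowOK 2) 0 27 = true := by decide +kernel
theorem nums : cNum 0 = 126 ∧ cNum 1 = 36 ∧ cNum 2 = 27 ∧ cNum 3 = 0 := by decide +kernel
theorem nodups : ∀ i < 4, (cFix.getD i []).Nodup := by decide +kernel

/-- a test holds for the later neighbours of every entry -/
def allLater (i : ℕ) (f : List ℕ → Bool) : List ℕ → Bool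
  | [] => true
  | v :: r => f (r.filter (cAdj i v)) && allLater i f r

/-- no k pairwise adjacent indices among the listed -/
def noC (i : ℕ) : ℕ → List ℕ → Bool
  | 0 => fun _ => false
  | k + 1 => allLater i (noC i k)

theorem cliques : (noC 0 7 (List.range 126) = true ∧ noC 1 5 (List.range 36) = true) ∧
    (noC 2 4 (List.range 27) = true ∧ noC 3 1 (List.range 0) = true) := by decide +kernel

theorem best_ok : ∀ i < 4, (cBest.getD i []).length = widths.getD i 0 ∧ (cBest.getD i []).Nodup ∧
    (∀ a ∈ cBest.getD i [], a < cNum i) ∧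
    (∀ a ∈ cBest.getD i [], ∀ b ∈ cBest.getD i [], cAdj i a b = true) := by decide +kernel

end Cfsg.Agent.Spor.M22U.Threes
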