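import Cfsg.Agent.Lib.Spor.M22UJayDefs
import Cfsg.Agent.Lib.Spor.M22UThreesChecks

/-!
Kernel checks for the elementary abelian subgroup of order 243 of Fi22.
-/

set_option autoImplicit false
set_option maxRecDepth 100000
set_option maxHeartbeats 4000000

namespace Cfsg.Agent.Spor.M22U.Jay

open Cfsg.Agent.Spor.CC Cfsg.Agent.Spor.Fi22Cert Cfsg.Agent.Spor.Fi22Cert.U62Act
open Cfsg.Agent.Spor.M22U.Cent JDat

theorem rct_ok : rangeOK rctOK 0 36 = true := by decide +kernel
theorem triples_a : rangeOK tripleOK 0 18 = true := by decide +kernel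
theorem triples_b : rangeOK tripleOK 18 18 = true := by decide +kernel
theorem triples_letters : ((List.range 36).all fun k => lettersOK 9 (relsK k)) = true := by decide +kernel
theorem lp_lt : ∀ i < 108, lp i < 3510 := by decide +kernel
theorem lp_nodup : lpts.Nodup ∧ lpts.length = 108 := by decide +kernel
theorem vcode_lt : ∀ k < 36, vcode.getD k 0 < 243 := by decide +kernel
theorem shifts_ok : rangeOK shOK 0 243 = true := by decide +kernel
theorem sh_nodup : shTab.Nodup ∧ shTab.length = 243 := by decide +kernel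
theorem inv_a : rangeOK invOK 0 1755 = true := by decide +kernel
theorem inv_b : rangeOK invOK 1755 1755 = true := by decide +kernel
theorem vec_ok : rangeOK vecOK 0 243 = true := by decide +kernel
theorem deriv_ok : derivOK [0, 3, 6, 9, 12, 27] steps = true := by decide +kernel
theorem cases_ok : (cases.all caseOK) = true := by decide +kernel
theorem sep0 : rangeOK (sepOK (cases.getD 0 (0, 0, [], [], 0, 0))) 0 3510 = true := by decide +kernel
theorem sep1 : rangeOK (sepOK (cases.getD 1 (0, 0, [], [], 0, 0))) 0 3510 = true := by decide +kernel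
theorem sep2 : rangeOK (sepOK (cases.getD 2 (0, 0, [], [], 0, 0))) 0 3510 = true := by decide +kernel
theorem sep3 : rangeOK (sepOK (cases.getD 3 (0, 0, [], [], 0, 0))) 0 3510 = true := by decide +kernel
theorem sep4 : rangeOK (sepOK (cases.getD 4 (0, 0, [], [], 0, 0))) 0 3510 = true := by decide +kernel
theorem sep5 : rangeOK (sepOK (cases.getD 5 (0, 0, [], [], 0, 0))) 0 3510 = true := by decide +kernel
theorem tree_a : rangeOK treeOK 0 1755 = true := by decide +kernel
theorem tree_b : rangeOK treeOK 1755 1755 = true := by decide +kernel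
theorem fim_a : rangeOK (fimOK (cases.getD 3 (0, 0, [], [], 0, 0)).2.2.1 (cases.getD 3 (0, 0, [], [], 0, 0)).2.2.2.2.2) 0 1755 = true := by
  decide +kernel
theorem fim_b : rangeOK (fimOK (cases.getD 3 (0, 0, [], [], 0, 0)).2.2.1 (cases.getD 3 (0, 0, [], [], 0, 0)).2.2.2.2.2) 1755 1755 = true := by
  decide +kernel
theorem fim_count : ((List.range 3510).filter fun p => Nat.beq (fim p) p).length = 72 := by decide +kernel
theorem case_shapes : (cases.map fun c => (c.1, c.2.1, c.2.2.2.2.2)) =
    [(1, 0, 0), (1, 1, 4000), (1, 2, 4000), (2, 0, fim 0), (2, 1, 4000), (2, 2, 4000)] ∧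
    (List.range 108).all (fun i => Nat.beq (cim (cases.getD 0 (0, 0, [], [], 0, 0)).2.2.1 i) i) = true ∧
    (cases.all fun c => c.2.2.2.1.all fun a => Nat.blt a 108) = true ∧
    (cases.all fun c => Nat.blt c.2.2.2.2.1 3510) = true ∧
    (cases.all fun c => (List.range 108).all fun i => Nat.blt (cim c.2.2.1 i) 108) = true := by decide +kernel

/-- the relation fusing a representative -/
def vrelW (e : ℕ × ℕ × List ℕ) : List ℕ :=
  Threes.gW e.2.2 ++ vW e.1 ++ (Threes.gW e.2.2).reverse ++ (Threes.rW e.2.1).reverse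

theorem vreps_ok : fixOK RepU62.rows 9 (vreps.map vrelW) (RepU62.levels.map Orb.b) = true ∧
    lettersOK 9 (vreps.map vrelW) = true ∧ lettersOK 9 (vreps.map fun e => Threes.gW e.2.2) = true ∧
    (vreps.map fun e => (e.1, e.2.1, qv (dec e.1))) = [(1, 1, 1), (28, 2, 2), (4, 4, 0)] := by decide +kernel

theorem roots_ok : ∀ c < 243, qv (dec c) = 1 → ∃ k < 36, dec c = vv k ∨ dec c = -(vv k) := by decide +kernel
theorem vv_one : ∀ k < 36, qv (vv k) = 1 := by decide +kernel

/-- candidate at a level with its certificate -/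
def levOK (i c : ℕ) : Bool :=
  !(decide (qv (dec c) = qv (dec (3 ^ i)) ∧ ∀ j < i, bv (dec c) (dec (3 ^ j)) = bv (dec (3 ^ i)) (dec (3 ^ j))) &&
      Nat.ble (3 ^ i) c) ||
    (levels.getD i []).any fun e =>
      Nat.beq e.1 c && (Nat.beq e.2.2 1 || Nat.beq e.2.2 2) && e.2.1.all (fun k => Nat.blt k 36) &&
        Nat.beq (rw5 e.2.1 c) (e.2.2 * 3 ^ i) &&
        (List.range i).all fun j => Nat.beq (rw5 e.2.1 (3 ^ j)) (e.2.2 * 3 ^ j)

theorem lev_ok : ∀ i < 5, rangeOK (levOK i) 0 243 = true := by decide +kernel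

/-- check of an element of the Sylow subgroup -/
def sylOK (a : ℕ) : Bool :=
  (sylW.getD a []).all (fun k => Nat.blt k 36) &&
    (List.range 5).all (fun i => Nat.beq (rw5 (sylW.getD a []) (3 ^ i)) ((sylImg.getD a []).getD i 0)) &&
    (List.range 81).all fun b => Nat.blt (fld (sylMul.getD a 0) 8 b) 81 &&
      (List.range 5).all fun i => Nat.beq (rw5 (sylW.getD a []) ((sylImg.getD b []).getD i 0))
        ((sylImg.getD (fld (sylMul.getD a 0) 8 b) []).getD i 0)

/-- check of fixed vectors -/
def sylFixOK (a : ℕ) : Bool :=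
  (List.range 243).all fun c => Nat.testBit (sylFix.getD a 0) c == Nat.beq (rw5 (sylW.getD a []) c) c

theorem syl_ok : rangeOK sylOK 0 81 = true := by decide +kernel
theorem syl_fix : rangeOK sylFixOK 0 81 = true := by decide +kernel
theorem syl_nodup : sylImg.Nodup ∧ sylImg.length = 81 ∧ sylImg.getD 0 [] = [1, 3, 9, 27, 81] ∧
    (sylImg.all fun l => Nat.beq l.length 5 && l.all fun c => Nat.blt c 243) = true := by decide +kernel

/-- product in the Sylow subgroup -/
def sm (a b : ℕ) : ℕ := fld (sylMul.getD a 0) 8 b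

/-- a pair of independent commuting elements -/
def indep2 (a b : ℕ) : Bool :=
  Nat.beq (sm a b) (sm b a) && !(Nat.beq b 0 || Nat.beq b a || Nat.beq b (sm a a))

/-- common fixed vectors -/
def cutFix (l : List ℕ) (b : ℕ) : List ℕ := l.filter fun v => Nat.testBit (sylFix.getD b 0) v

/-- the products of two elements -/
def span2 (a b : ℕ) : List ℕ :=
  [0, a, sm a a, b, sm b b, sm a b, sm a (sm b b), sm (sm a a) b, sm (sm a a) (sm b b)]

/-- bound over two elements -/
def rankThree (a b : ℕ) (l : List ℕ) : Bool :=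
  Nat.ble l.length 9 && (List.range 81).all fun c =>
    !(Nat.beq (sm a c) (sm c a) && Nat.beq (sm b c) (sm c b)) ||
      (span2 a b).any (fun x => Nat.beq x c) || Nat.ble (cutFix l c).length 3

/-- bound over one element -/
def rankTwo (a : ℕ) (l : List ℕ) : Bool :=
  Nat.ble l.length 27 && (List.range 81).all fun b => !(indep2 a b) || rankThree a b (cutFix l b)

/-- bound for the fixed vectors -/
def rankOK (a : ℕ) : Bool := Nat.beq a 0 || rankTwo a (cutFix (List.range 243) a)

theorem rank_a : rangeOK rankOK 0 27 = true := by decide +kernel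
theorem rank_b : rangeOK rankOK 27 27 = true := by decide +kernel
theorem rank_c : rangeOK rankOK 54 27 = true := by decide +kernel
theorem syl_nonabelian : ∃ a < 81, ∃ b < 81, sm a b ≠ sm b a := by decide +kernel

end Cfsg.Agent.Spor.M22U.Jay
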