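import Cfsg.Agent.Lib.Spor.M22UJayData
import Cfsg.Agent.Lib.Spor.M22UCentDefs
import Mathlib.Data.Matrix.Mul

/-!
Words and checkers for the elementary abelian subgroup of order 243 of Fi22.
-/

set_option autoImplicit false
set_option maxRecDepth 100000

namespace Cfsg.Agent.Spor.M22U.Jay

open Cfsg.Agent.Spor.CC Cfsg.Agent.Spor.Fi22Cert Cfsg.Agent.Spor.Fi22Cert.U62Act
open Cfsg.Agent.Spor.M22U.Cent JDat

/-- coordinates -/
abbrev V5 : Type := Fin 5 → ZMod 3

/-- vector of a code -/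
def dec (c : ℕ) : V5 := fun i => ((c / 3 ^ (i : ℕ) % 3 : ℕ) : ZMod 3)

/-- code of a vector -/
def code (v : V5) : ℕ := (v 0).val + 3 * (v 1).val + 9 * (v 2).val + 27 * (v 3).val + 81 * (v 4).val

/-- a transposition normalizing the subgroup -/
def lp (i : ℕ) : ℕ := lpts.getD i 0

/-- its word -/
def tWd (i : ℕ) : List ℕ := Fischer.tw' (pwP (lp i))

/-- word of the product in a triple -/
def sW (k : ℕ) : List ℕ := tWd (3 * k) ++ tWd (3 * k + 1)

/-- word of a code -/
def vW (c : ℕ) : List ℕ :=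
  powW (c % 3) (sW 0) ++ powW (c / 3 % 3) (sW 1) ++ powW (c / 9 % 3) (sW 2) ++ powW (c / 27 % 3) (sW 3) ++
    powW (c / 81 % 3) (sW 4)

/-- vector of a triple -/
def vv (k : ℕ) : V5 := dec (vcode.getD k 0)

/-- the quadratic form -/
def qv (v : V5) : ZMod 3 :=
  v 0 * v 0 + v 1 * v 1 + v 2 * v 2 + v 3 * v 3 + v 4 * v 4 + v 0 * v 1 + v 0 * v 2 + v 1 * v 2 + v 1 * v 4 +
    2 * (v 2 * v 3) + v 2 * v 4

/-- its polar form -/
def bv (u v : V5) : ZMod 3 := qv (u + v) - qv u - qv v

/-- reflection in the vector of a triple -/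
def rv (k : ℕ) (v : V5) : V5 := v - bv (vv k) v • vv k

/-- reflection on codes, tabulated -/
def rc (k c : ℕ) : ℕ := fld (rct.getD k 0) 8 c

/-- a word of reflections on codes -/
def rw5 (w : List ℕ) (c : ℕ) : ℕ := w.foldr rc c

/-- check of a tabulated reflection -/
def rctOK (k : ℕ) : Bool := (List.range 243).all fun c => Nat.beq (rc k c) (code (rv k (dec c)))

/-- relations of one triple -/
def relsK (k : ℕ) : List (List ℕ) :=
  (bif Nat.blt k 25 then [sW (k / 5) ++ sW (k % 5) ++ (sW (k / 5)).reverse ++ (sW (k % 5)).reverse] else []) ++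
    (bif Nat.blt k 5 then [powW 3 (sW k)] else []) ++
    [sW k ++ (vW (vcode.getD k 0)).reverse] ++
    (List.range 5).map fun i => tWd (3 * k) ++ sW i ++ tWd (3 * k) ++ (vW (rc k (3 ^ i))).reverse

/-- check of a triple -/
noncomputable def tripleOK (k : ℕ) : Bool :=
  fixOK RepU62.rows 9 (relsK k) (RepU62.levels.map Orb.b) &&
    (List.range 3).all fun j => Nat.beq (ev RepU62.rows 9 (sW k) (lp (3 * k + j))) (lp (3 * k + (j + 1) % 3))

/-- shifts of a code on the first five triples -/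
noncomputable def shOK (c : ℕ) : Bool :=
  (List.range 5).all fun i =>
    Nat.beq (ev RepU62.rows 9 (vW c) (lp (3 * i))) (lp (3 * i + shTab.getD c 0 / 3 ^ i % 3)) && Nat.blt (shTab.getD c 0) 243

/-- members inverting the first product -/
noncomputable def invOK (p : ℕ) : Bool :=
  Nat.beq p (lp 0) || Nat.beq p (lp 1) || Nat.beq p (lp 2) ||
    invTest.any fun u => !(Nat.beq (ev RepU62.rows 9 (Fischer.tw' (pwP p) ++ sW 0 ++ Fischer.tw' (pwP p) ++ sW 0) u) u)

/-- parent, letter and depth of a code -/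
def vpar (c : ℕ) : ℕ × ℕ × ℕ := (fld vecTab 24 c / 65536, fld vecTab 24 c / 256 % 256, fld vecTab 24 c % 256)

/-- check of the orbit tree of codes -/
def vecOK (c : ℕ) : Bool :=
  bif Nat.beq (vpar c).2.1 255 then Nat.beq c 0 || vreps.any (fun e => Nat.beq e.1 c)
  else Nat.blt (vpar c).1 243 && Nat.blt (vpar c).2.1 36 && Nat.blt (vpar (vpar c).1).2.2 (vpar c).2.2 &&
    Nat.beq (rc (vpar c).2.1 (vpar c).1) c && !(Nat.beq (vpar c).1 0)

/-- a member is reached from known ones -/
noncomputable def stepOK (known : List ℕ) (s : ℕ × ℕ × ℕ × ℕ) : Bool :=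
  known.any (fun a => Nat.beq a s.2.1) && known.any (fun a => Nat.beq a s.2.2.1) &&
    (bif Nat.beq s.2.2.2 0 then Nat.beq (ev RepU62.rows 9 (tWd s.2.1) (lp s.2.2.1)) (lp s.1)
     else Nat.beq (s.1 / 3) (s.2.1 / 3) && Nat.beq (ev RepU62.rows 9 (sW (s.2.1 / 3)) (lp s.2.1)) (lp s.1))

/-- all members are reached from six -/
noncomputable def derivOK : List ℕ → List (ℕ × ℕ × ℕ × ℕ) → Bool
  | known, [] => (List.range 108).all fun i => known.any fun a => Nat.beq a i
  | known, s :: rest => stepOK known s && derivOK (s.1 :: known) rest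

/-- image of a member in a case -/
def cim (π : List ℕ) (i : ℕ) : ℕ := π.getD i 0

/-- the images follow -/
noncomputable def imgStepOK (ε : ℕ) (π : List ℕ) (s : ℕ × ℕ × ℕ × ℕ) : Bool :=
  bif Nat.beq s.2.2.2 0 then
    Nat.beq (ev RepU62.rows 9 (tWd (cim π s.2.1)) (lp (cim π s.2.2.1))) (lp (cim π s.1))
  else Nat.beq (ev RepU62.rows 9 (powW ε (sW (s.2.1 / 3))) (lp (cim π s.2.1))) (lp (cim π s.1))

/-- check of a case -/
noncomputable def caseOK (c : ℕ × ℕ × List ℕ × List ℕ × ℕ × ℕ) : Bool :=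
  (List.range 5).all (fun i => Nat.beq (cim c.2.2.1 (3 * i)) (3 * i)) &&
    Nat.beq (cim c.2.2.1 27) (27 + c.2.1) && steps.all (imgStepOK c.1 c.2.2.1)

/-- the point with the given pattern -/
noncomputable def sepOK (c : ℕ × ℕ × List ℕ × List ℕ × ℕ × ℕ) (q : ℕ) : Bool :=
  Nat.beq q c.2.2.2.2.2 ||
    c.2.2.2.1.any fun a => adjb (lp (cim c.2.2.1 a)) q != adjb (lp a) c.2.2.2.2.1

/-- point of a letter -/
def gp (g : ℕ) : ℕ := bif Nat.blt g 108 then lp g else 0

/-- check of the generation tree of the points -/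
noncomputable def treeOK (p : ℕ) : Bool :=
  bif Nat.beq (fld parTab 24 p % 256) 255 then Nat.beq p 0 || lpts.any (fun a => Nat.beq a p)
  else Nat.blt (fld parTab 24 p % 256) 109 && Nat.blt (fld parTab 24 p / 256) 3510 &&
    Nat.blt (fld depTab 4 (fld parTab 24 p / 256)) (fld depTab 4 p) &&
    Nat.beq (ev RepU62.rows 9 (Fischer.tw' (pwP (gp (fld parTab 24 p % 256)))) (fld parTab 24 p / 256)) p

/-- image of a point under the inverting map -/
def fim (p : ℕ) : ℕ := fld invTab 12 p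

/-- check of the inverting map -/
noncomputable def fimOK (π : List ℕ) (q0 p : ℕ) : Bool :=
  bif Nat.beq (fld parTab 24 p % 256) 255 then
    (List.range 108).all (fun i => !(Nat.beq (lp i) p) || Nat.beq (fim p) (lp (cim π i))) &&
      (!(Nat.beq p 0) || Nat.beq (fim p) q0)
  else
    Nat.beq (ev RepU62.rows 9
      (Fischer.tw' (pwP (bif Nat.blt (fld parTab 24 p % 256) 108 then lp (cim π (fld parTab 24 p % 256)) else q0)))
      (fim (fld parTab 24 p / 256))) (fim p)

end Cfsg.Agent.Spor.M22U.Jay
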