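import Cfsg.Agent.Lib.Spor.M22UJayCent

/-!
The normalizer of the subgroup of order 243 of Fi22 induces on it the group generated by the reflections of
norm one of a five-dimensional orthogonal space over the field with three elements.
-/

set_option autoImplicit false
set_option maxRecDepth 100000
set_option linter.unusedSectionVars false

namespace Cfsg.Agent.Spor.M22U.Jay

open Cfsg.Agent.Spor.CC Cfsg.Agent.Spor.Fi22Cert Cfsg.Agent.Spor.Fi22Cert.U62Act
open Cfsg.Agent.Spor.M22U.Cent JDat
open Matrix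

/-- the quadratic form -/
noncomputable def qQ : QuadraticForm (ZMod 3) V5 :=
  QuadraticMap.ofPolar qv (fun a x => by rw [qv_smul]; rfl)
    (fun x x' y => by
      show bv (x + x') y = bv x y + bv x' y
      rw [bv_symm, bv_add, bv_symm y, bv_symm y])
    (fun a x y => by
      show bv (a • x) y = a • bv x y
      rw [bv_symm, bv_smul, bv_symm y]; rfl)

theorem qQ_coe : (⇑qQ : V5 → ZMod 3) = qv := rfl

/-- the orthogonal group -/
abbrev IG : Type := ↥(Cfsg.isometryGroup (ZMod 3) qv)

/-- the matrix of the action -/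
noncomputable def rhoM : Nsub →* Matrix (Fin 5) (Fin 5) (ZMod 3) where
  toFun n := LinearMap.toMatrix' (rhoL n)
  map_one' := by
    rw [show rhoL 1 = LinearMap.id from LinearMap.ext rho_one, LinearMap.toMatrix'_id]
  map_mul' n m := by
    rw [show rhoL (n * m) = (rhoL n).comp (rhoL m) from LinearMap.ext (rho_mul n m), LinearMap.toMatrix'_comp]

theorem rhoM_mulVec (n : Nsub) (v : V5) : rhoM n *ᵥ v = rho n v := by
  show LinearMap.toMatrix' (rhoL n) *ᵥ v = _
  rw [← Matrix.toLin'_apply, Matrix.toLin'_toMatrix', rhoL_apply]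

/-- the action in the orthogonal group -/
noncomputable def rhoI : Nsub →* IG :=
  rhoM.toHomUnits.codRestrict _ fun n u _ => by
    show qv (rhoM n *ᵥ u) = qv u
    rw [rhoM_mulVec, qv_rho]

theorem rhoI_mulVec (n : Nsub) (v : V5) :
    (((rhoI n : Matrix.GeneralLinearGroup (Fin 5) (ZMod 3))) : Matrix (Fin 5) (Fin 5) (ZMod 3)) *ᵥ v = rho n v :=
  rhoM_mulVec n v

theorem ig_ext {g h : IG}
    (e : ∀ v : V5, (((g : Matrix.GeneralLinearGroup (Fin 5) (ZMod 3))) : Matrix (Fin 5) (Fin 5) (ZMod 3)) *ᵥ v =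
      (((h : Matrix.GeneralLinearGroup (Fin 5) (ZMod 3))) : Matrix (Fin 5) (Fin 5) (ZMod 3)) *ᵥ v) : g = h :=
  Subtype.ext (Units.ext (Matrix.toLin'.injective (LinearMap.ext fun v => by
    rw [Matrix.toLin'_apply, Matrix.toLin'_apply]; exact e v)))

theorem polarVec_dot (w u : V5) : Cfsg.polarVec qv w ⬝ᵥ u = bv w u := by
  simp only [dotProduct, Fin.sum_univ_five, Cfsg.polarVec, QuadraticMap.polar, qv, bv, Pi.add_apply,
    Pi.single_apply]
  simp [Fin.ext_iff]
  ring

theorem refl_mulVec {w : V5} (hw : qv w = 1) (u : V5) :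
    Cfsg.reflectionMatrix qv w *ᵥ u = u - bv w u • w := by
  rw [Cfsg.reflectionMatrix, hw, inv_one, one_smul, Matrix.sub_mulVec, Matrix.one_mulVec,
    Matrix.vecMulVec_mulVec, polarVec_dot]
  funext i
  simp [mul_comm]

/-- the reflection group -/
noncomputable abbrev RS : Subgroup IG := Cfsg.reflectionSubgroup qv 1

theorem tN_mem {k : ℕ} (hk : k < 36) : rhoI (tN k hk) ∈ RS := by
  refine Subgroup.subset_closure ⟨vv k, vv_one k hk, ?_⟩
  refine Matrix.toLin'.injective (LinearMap.ext fun u => ?_)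
  rw [Matrix.toLin'_apply, Matrix.toLin'_apply, rhoI_mulVec, rho_tN, refl_mulVec (vv_one k hk)]
  rfl

theorem RS_le : RS ≤ rhoI.range := by
  refine (Subgroup.closure_le _).mpr ?_
  rintro g ⟨w, hw, hg⟩
  obtain ⟨k, hk, hk'⟩ := roots_ok (code w) (code_lt w) (by rw [dec_code]; exact hw)
  rw [dec_code] at hk'
  refine ⟨tN k hk, ig_ext fun u => ?_⟩
  rw [rhoI_mulVec, rho_tN, hg, refl_mulVec hw]
  rcases hk' with rfl | rfl
  · rfl
  · rw [rv, show bv (-vv k) u = -(bv (vv k) u) by
      rw [show (-vv k) = (-1 : ZMod 3) • vv k by simp, bv_symm, bv_smul, bv_symm u]; ring]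
    simp

/-- a word of reflections -/
def rwv (w : List ℕ) (v : V5) : V5 := w.foldr rv v

/-- the element of a word of reflections -/
noncomputable def elR : List ℕ → Nsub
  | [] => 1
  | k :: w => if hk : k < 36 then tN k hk * elR w else elR w

theorem rho_elR : ∀ {w : List ℕ}, (∀ k ∈ w, k < 36) → ∀ v, rho (elR w) v = rwv w v
  | [], _, v => rho_one v
  | k :: w, h, v => by
    have hk := h k (List.mem_cons_self ..)
    rw [elR, dif_pos hk, rho_mul, rho_elR (fun x hx => h x (List.mem_cons_of_mem _ hx)), rho_tN]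
    rfl

theorem elR_mem : ∀ {w : List ℕ}, rhoI (elR w) ∈ RS
  | [] => by rw [elR, map_one]; exact one_mem _
  | k :: w => by
    rw [elR]
    split
    · rename_i hk
      rw [map_mul]; exact mul_mem (tN_mem hk) elR_mem
    · exact elR_mem

theorem rwv_smul (w : List ℕ) (a : ZMod 3) (v : V5) : rwv w (a • v) = a • rwv w v := by
  induction w with
  | nil => rfl
  | cons k w ih => show rvL k (rwv w (a • v)) = a • rvL k (rwv w v); rw [ih, map_smul]

theorem rw5_code : ∀ {w : List ℕ}, (∀ k ∈ w, k < 36) → ∀ {c : ℕ}, c < 243 → rw5 w c = code (rwv w (dec c))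
  | [], _, c, hc => (code_dec hc).symm
  | k :: w, h, c, hc => by
    show rc k (rw5 w c) = code (rv k (rwv w (dec c)))
    rw [rw5_code (fun x hx => h x (List.mem_cons_of_mem _ hx)) hc, rct_spec (h k (List.mem_cons_self ..)) (code_lt _),
      dec_code]

theorem rwv_append (u w : List ℕ) (v : V5) : rwv (u ++ w) v = rwv u (rwv w v) := List.foldr_append ..

theorem rwv_of_code {w : List ℕ} (hw : ∀ k ∈ w, k < 36) {c d : ℕ} (hc : c < 243) (h : rw5 w c = d) :
    rwv w (dec c) = dec d := by
  rw [← h, rw5_code hw hc, dec_code]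

theorem dec_mul : ∀ i < 5, ∀ ε < 3, dec (ε * 3 ^ i) = (ε : ZMod 3) • ev5 i := by decide +kernel

theorem below_span : ∀ i < 5, ∀ c < 243, c < 3 ^ i → ∀ j : Fin 5, i ≤ (j : ℕ) → dec c j = 0 := by decide +kernel

theorem reduce (g : V5 →ₗ[ZMod 3] V5) (hinj : Function.Injective g) (hq : ∀ v, qv (g v) = qv v) :
    ∃ w : List ℕ, (∀ k ∈ w, k < 36) ∧ ∃ s : ZMod 3, s ≠ 0 ∧ ∀ v, rwv w (g v) = s • v := by
  suffices h : ∀ i, i ≤ 5 → ∃ w : List ℕ, (∀ k ∈ w, k < 36) ∧ ∃ s : ZMod 3, s ≠ 0 ∧
      ∀ j < i, rwv w (g (ev5 j)) = s • ev5 j by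
    obtain ⟨w, hw, s, hs, hj⟩ := h 5 le_rfl
    refine ⟨w, hw, s, hs, fun v => ?_⟩
    rw [← rho_elR hw, ← rhoL_apply]
    conv_lhs => rw [v5_sum v]
    conv_rhs => rw [v5_sum v]
    simp only [map_add, map_smul, rhoL_apply, rho_elR hw, hj 0 (by norm_num), hj 1 (by norm_num),
      hj 2 (by norm_num), hj 3 (by norm_num), hj 4 (by norm_num), smul_add, smul_comm s]
  intro i
  induction i with
  | zero => exact fun _ => ⟨[], by simp, 1, one_ne_zero, fun j hj => absurd hj (by omega)⟩
  | succ i ih =>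
    intro hi
    obtain ⟨w, hw, s, hs, hj⟩ := ih (by omega)
    have hs2 : s * s = 1 := (show ∀ a : ZMod 3, a ≠ 0 → a * a = 1 by decide) s hs
    let g' : V5 → V5 := fun v => s • rwv w (g v)
    have hg' : ∀ j < i, g' (ev5 j) = ev5 j := fun j hji => by
      show s • rwv w (g (ev5 j)) = _
      rw [hj j hji, smul_smul, hs2, one_smul]
    have hq' : ∀ v, qv (g' v) = qv v := fun v => by
      show qv (s • rwv w (g v)) = _
      rw [qv_smul, hs2, one_mul, ← rho_elR hw, qv_rho, hq]
    have hadd : ∀ u v, g' (u + v) = g' u + g' v := fun u v => by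
      show s • rwv w (g (u + v)) = s • rwv w (g u) + s • rwv w (g v)
      rw [map_add, ← rho_elR hw, rho_add, smul_add, rho_elR hw, rho_elR hw]
    have hinj' : Function.Injective g' := fun u v h => by
      have h' : rwv w (g u) = rwv w (g v) := by
        have := congrArg (fun x => s • x) h
        simpa only [g', smul_smul, hs2, one_smul] using this
      rw [← rho_elR hw, ← rho_elR hw] at h'
      refine hinj ?_
      have := congrArg (rho (elR w)⁻¹) h'
      rwa [← rho_mul, ← rho_mul, inv_mul_cancel, rho_one, rho_one] at this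
    have hsm : ∀ (a : ZMod 3) v, g' (a • v) = a • g' v := fun a v => by
      show s • rwv w (g (a • v)) = a • s • rwv w (g v)
      rw [map_smul, rwv_smul, smul_comm]
    have hb : ∀ u v, bv (g' u) (g' v) = bv u v := fun u v => by
      rw [bv, bv, ← hadd, hq', hq', hq']
    set c := code (g' (ev5 i)) with hc
    have hclt : c < 243 := code_lt _
    have hge : 3 ^ i ≤ c := by
      by_contra hlt
      push Not at hlt
      have hz := below_span i (by omega) c hclt hlt
      set x := dec c with hxd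
      have hgx : g' x = x := by
        rw [v5_sum x]
        have hterm : ∀ j : Fin 5, g' (x j • ev5 j) = x j • ev5 j := fun j => by
          rw [hsm]
          rcases Nat.lt_or_ge (j : ℕ) i with h | h
          · rw [hg' j h]
          · rw [hz j h, zero_smul, zero_smul]
        simp only [hadd]
        exact congrArg₂ (· + ·) (congrArg₂ (· + ·) (congrArg₂ (· + ·) (congrArg₂ (· + ·) (hterm 0) (hterm 1))
          (hterm 2)) (hterm 3)) (hterm 4)
      have hxe : x = g' (ev5 i) := by rw [hxd, hc, dec_code]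
      have he : ev5 i = x := hinj' (by rw [hgx]; exact hxe.symm)
      have := hz ⟨i, by omega⟩ le_rfl
      rw [← he] at this
      have hne : ∀ i (h : i < 5), ev5 i ⟨i, h⟩ ≠ 0 := by decide +kernel
      exact hne i (by omega) this
    have hlev := all_range (lev_ok i (by omega)) (u := c) (Nat.zero_le _) (by omega)
    have hcond : qv (dec c) = qv (dec (3 ^ i)) ∧
        ∀ j < i, bv (dec c) (dec (3 ^ j)) = bv (dec (3 ^ i)) (dec (3 ^ j)) := by
      rw [hc, dec_code]
      refine ⟨hq' _, fun j hji => ?_⟩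
      show bv (g' (ev5 i)) (ev5 j) = _
      conv_lhs => rw [← hg' j hji]
      exact hb _ _
    simp only [levOK, Bool.or_eq_true, Bool.not_eq_true', Bool.and_eq_false_iff, decide_eq_false_iff_not,
      List.any_eq_true, Bool.and_eq_true, List.all_eq_true, List.mem_range] at hlev
    rcases hlev with (h | h) | ⟨e, -, ⟨⟨⟨h1, h2⟩, hlt⟩, hmv⟩, hfix⟩
    · exact absurd hcond h
    · exact absurd (Nat.ble_eq_true_of_le hge) (by rw [h]; simp)
    · have hwk : ∀ k ∈ e.2.1, k < 36 := fun k hk => Nat.le_of_ble_eq_true (hlt k hk)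
      have hε : e.2.2 < 3 ∧ ((e.2.2 : ℕ) : ZMod 3) ≠ 0 := by
        rcases h2 with h2 | h2 <;> rw [Nat.eq_of_beq_eq_true h2] <;> exact ⟨by norm_num, by decide⟩
      refine ⟨e.2.1 ++ w, fun k hk => (List.mem_append.mp hk).elim (hwk k) (hw k), s * (e.2.2 : ZMod 3),
        mul_ne_zero hs hε.2, fun j hji => ?_⟩
      rcases Nat.lt_succ_iff_lt_or_eq.mp hji with hji | rfl
      · rw [rwv_append, hj j hji, rwv_smul, show ev5 j = dec (3 ^ j) from rfl,
          rwv_of_code hwk ((show ∀ x < 5, 3 ^ x < 243 by decide) j (by omega)) (Nat.eq_of_beq_eq_true (hfix j hji)),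
          dec_mul j (by omega) _ hε.1, smul_smul]
        rfl
      · have e1 : rwv e.2.1 (g' (ev5 j)) = (e.2.2 : ZMod 3) • ev5 j := by
          rw [← dec_code (g' (ev5 j)), ← hc, ← Nat.eq_of_beq_eq_true h1]
          rw [rwv_of_code hwk (Nat.eq_of_beq_eq_true h1 ▸ hclt)
            ((Nat.eq_of_beq_eq_true h1).symm ▸ Nat.eq_of_beq_eq_true hmv), dec_mul j (by omega) _ hε.1]
        have e2 : rwv w (g (ev5 j)) = s • g' (ev5 j) := by
          show _ = s • s • rwv w (g (ev5 j)); rw [smul_smul, hs2, one_smul]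
        rw [rwv_append, e2, rwv_smul, e1, smul_smul]

theorem ker_rhoI : rhoI.ker = Asub.subgroupOf Nsub := by
  ext n
  rw [MonoidHom.mem_ker, Subgroup.mem_subgroupOf]
  constructor
  · intro h
    refine centralizer_Asub fun v => ?_
    have hv : rho n v = v := by rw [← rhoI_mulVec, h]; simp
    have := ph_rho n v
    rw [hv] at this
    exact (mul_inv_eq_iff_eq_mul.mp this.symm)
  · intro h
    obtain ⟨u, hu⟩ := mem_Asub.mp h
    refine ig_ext fun v => ?_
    rw [rhoI_mulVec]
    simp only [OneMemClass.coe_one, Units.val_one, Matrix.one_mulVec]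
    refine ph_inj ?_
    rw [ph_rho, ← hu, ← ph_neg, ← ph_add, ← ph_add]
    congr 1
    abel

universe u
variable {G : Type u} [Group G] [Finite G] {D : Set G}
variable (hD : Cfsg.IsThreeTranspositionGroup D) (hprim : Cfsg.IsPrimitiveUnderConj D) (ht : Cfsg.IsOfTypeM22 G D)

include hD hprim ht in
theorem range_rhoI : rhoI.range = RS := by
  refine le_antisymm ?_ RS_le
  rintro _ ⟨n, rfl⟩
  obtain ⟨w, hw, s, hs, hv⟩ := reduce (rhoL n) (fun u v h => by
    have := congrArg (rho n⁻¹) h
    rwa [rhoL_apply, rhoL_apply, ← rho_mul, ← rho_mul, inv_mul_cancel, rho_one, rho_one] at this) (qv_rho n)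
  have h12 : ∀ s : ZMod 3, s ≠ 0 → s = 1 ∨ s = 2 := by decide
  rcases h12 s hs with rfl | rfl
  · have e : rhoI (elR w * n) = 1 := ig_ext fun v => by
      rw [rhoI_mulVec, rho_mul, rho_elR hw, ← rhoL_apply n, hv, one_smul]; simp
    rw [map_mul] at e
    rw [eq_inv_of_mul_eq_one_right e]
    exact inv_mem elR_mem
  · refine absurd (fun v => ?_) (no_inverter hD hprim ht ((elR w * n : Nsub) : pres.Grp))
    rw [← ph_rho (elR w * n) v, rho_mul, rho_elR hw, ← rhoL_apply n, hv, ph_smul]
    rfl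

theorem gram_det : Cfsg.polarGramDet qv = 1 := by
  unfold Cfsg.polarGramDet
  decide +kernel

theorem polar_nondeg : (QuadraticMap.polarBilin qQ).Nondegenerate := by
  have h : ∀ c < 243, (∀ i < 5, bv (dec c) (ev5 i) = 0) → c = 0 := by decide +kernel
  have key : ∀ v : V5, (∀ u, bv v u = 0) → v = 0 := fun v hv => by
    rw [← dec_code v, h _ (code_lt v) (fun i _ => by rw [dec_code]; exact hv _)]
    funext i; simp [dec]
  exact ⟨fun v hv => key v hv, fun v hv => key v fun u => by rw [bv_symm]; exact hv u⟩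

include hD hprim ht in
theorem isReflection [(Asub.subgroupOf Nsub).Normal] :
    Cfsg.IsReflectionGroupModThree (↥Nsub ⧸ Asub.subgroupOf Nsub) 5 1 1 :=
  ⟨qQ, polar_nondeg, gram_det, ⟨((QuotientGroup.quotientMulEquivOfEq ker_rhoI.symm).trans
    (QuotientGroup.quotientKerEquivRange rhoI)).trans (MulEquiv.subgroupCongr (range_rhoI hD hprim ht))⟩⟩

end Cfsg.Agent.Spor.M22U.Jay
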