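import Cfsg.Agent.Lib.Spor.M22UJaySyl
import Cfsg.Agent.Lib.Spor.M22UTransit

/-!
In a group of type M(22) the Thompson subgroup of a Sylow subgroup for the prime three is elementary abelian
of order 243, its normalizer controls fusion in it and induces an orthogonal reflection group.
-/

set_option autoImplicit false
set_option maxRecDepth 100000
set_option linter.unusedSectionVars false

namespace Cfsg.Agent.Spor.M22U.Jay

open Cfsg.Agent.Spor.CC Cfsg.Agent.Spor.Fi22Cert Cfsg.Agent.Spor.Fi22Cert.U62Act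
open Cfsg.Agent.Spor.M22U.Cent JDat

/-- the Sylow subgroup -/
noncomputable def P0 : Sylow 3 pres.Grp :=
  haveI := order.1
  haveI : Fact (Nat.Prime 3) := ⟨Nat.prime_three⟩
  IsPGroup.toSylow (IsPGroup.of_card (n := 9) card_Psub) (by
    intro h
    have h1 := Subgroup.card_mul_index Psub
    rw [card_Psub, order.2.1] at h1
    have e : Psub.index = 3280076800 := by omega
    rw [e] at h
    norm_num at h)

theorem P0_coe : (P0 : Subgroup pres.Grp) = Psub := IsPGroup.toSylow_coe _ _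

theorem elem_map {H H' : Type} [Group H] [Group H'] (f : H →* H') (hf : Function.Injective f) {B : Subgroup H}
    (h : Cfsg.IsElementaryAbelian 3 B) : Cfsg.IsElementaryAbelian 3 (B.map f) := by
  haveI := h.1
  refine ⟨⟨⟨?_⟩⟩, ?_⟩
  · rintro ⟨_, x, hx, rfl⟩ ⟨_, y, hy, rfl⟩
    refine Subtype.ext ?_
    show f x * f y = f y * f x
    rw [← map_mul, ← map_mul]
    exact congrArg f (congrArg Subtype.val (mul_comm' (⟨x, hx⟩ : B) ⟨y, hy⟩))
  · rintro _ ⟨x, hx, rfl⟩
    rw [← map_pow, h.2 x hx, map_one]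

theorem conj_toMonoidHom_mul {H : Type*} [Group H] (a b : H) :
    (MulAut.conj (a * b)).toMonoidHom = (MulAut.conj a).toMonoidHom.comp (MulAut.conj b).toMonoidHom := by
  ext x; simp [mul_assoc]

theorem elem_unique_pgroup {R : Subgroup pres.Grp} (hR : IsPGroup 3 R) {B B' : Subgroup pres.Grp}
    (hB : B ≤ R) (hB' : B' ≤ R) (h : Cfsg.IsElementaryAbelian 3 B) (h' : Cfsg.IsElementaryAbelian 3 B')
    (c : 243 ≤ Nat.card B) (c' : 243 ≤ Nat.card B') : B = B' := by
  haveI := order.1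
  haveI : Fact (Nat.Prime 3) := ⟨Nat.prime_three⟩
  obtain ⟨Q, hQ⟩ := hR.exists_le_sylow
  obtain ⟨x, hx⟩ := MulAction.exists_smul_eq pres.Grp Q P0
  set f := (MulAut.conj x).toMonoidHom
  have hmap : (Q : Subgroup pres.Grp).map f ≤ Psub := by
    rw [← P0_coe, ← hx, Sylow.coe_subgroup_smul]
    exact le_rfl
  have key : ∀ B : Subgroup pres.Grp, B ≤ R → Cfsg.IsElementaryAbelian 3 B → 243 ≤ Nat.card B → B.map f = Asub :=
    fun B hB h c => elem_unique _ ((Subgroup.map_mono (hB.trans hQ)).trans hmap) (elem_map f (MulAut.conj x).injective h)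
      (by rwa [← Nat.card_congr (Subgroup.equivMapOfInjective B f (MulAut.conj x).injective).toEquiv])
  exact Subgroup.map_injective (MulAut.conj x).injective ((key B hB h c).trans (key B' hB' h' c').symm)

theorem fusion_pres {a g : pres.Grp} (ha : a ∈ Asub) (hg : g * a * g⁻¹ ∈ Asub) :
    ∃ n ∈ Nsub, n * a * n⁻¹ = g * a * g⁻¹ := by
  haveI := order.1
  haveI : Fact (Nat.Prime 3) := ⟨Nat.prime_three⟩
  haveI := Asub_elem.1
  set b := g * a * g⁻¹ with hb
  set C := Subgroup.centralizer ({b} : Set pres.Grp)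
  set A' := Asub.map (MulAut.conj g).toMonoidHom
  have hpA : IsPGroup 3 Asub := IsPGroup.of_card (n := 5) (by rw [card_Asub]; norm_num)
  have hAC : Asub ≤ C := fun x hx => Subgroup.mem_centralizer_singleton_iff.mpr
    (congrArg Subtype.val (mul_comm' (⟨x, hx⟩ : Asub) ⟨b, hg⟩))
  have hA'C : A' ≤ C := by
    rintro _ ⟨x, hx, rfl⟩
    refine Subgroup.mem_centralizer_singleton_iff.mpr ?_
    show g * x * g⁻¹ * b = b * (g * x * g⁻¹)
    have hc : x * a = a * x := congrArg Subtype.val (mul_comm' (⟨x, hx⟩ : Asub) ⟨a, ha⟩)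
    calc g * x * g⁻¹ * b = g * (x * a) * g⁻¹ := by rw [hb]; group
      _ = b * (g * x * g⁻¹) := by rw [hc, hb]; group
  obtain ⟨R, hR⟩ := (hpA.comap_subtype (K := C)).exists_le_sylow
  obtain ⟨R', hR'⟩ := ((hpA.map (MulAut.conj g).toMonoidHom).comap_subtype (K := C)).exists_le_sylow
  obtain ⟨c, hc⟩ := MulAction.exists_smul_eq C R' R
  set Rm : Subgroup pres.Grp := (R : Subgroup C).map C.subtype
  have h1 : Asub ≤ Rm := fun x hx => ⟨⟨x, hAC hx⟩, hR hx, rfl⟩
  have h2 : A'.map (MulAut.conj (c : pres.Grp)).toMonoidHom ≤ Rm := by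
    rintro _ ⟨x, hx, rfl⟩
    refine ⟨c * ⟨x, hA'C hx⟩ * c⁻¹, ?_, rfl⟩
    rw [← hc, Sylow.coe_subgroup_smul]
    exact ⟨⟨x, hA'C hx⟩, hR' hx, rfl⟩
  have heq := elem_unique_pgroup (R.2.map C.subtype) h2 h1
    (elem_map _ (MulAut.conj _).injective (elem_map _ (MulAut.conj g).injective Asub_elem)) Asub_elem
    (le_of_eq (by
      rw [← Nat.card_congr (Subgroup.equivMapOfInjective A' _ (MulAut.conj (c : pres.Grp)).injective).toEquiv,
        ← Nat.card_congr (Subgroup.equivMapOfInjective Asub _ (MulAut.conj g).injective).toEquiv, card_Asub]))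
    (le_of_eq card_Asub.symm)
  rw [Subgroup.map_map, ← conj_toMonoidHom_mul] at heq
  refine ⟨(c : pres.Grp) * g, ?_, ?_⟩
  · rw [Nsub, Subgroup.mem_normalizer_iff]
    intro x
    constructor
    · intro hx
      rw [← heq]; exact ⟨x, hx, rfl⟩
    · intro hx
      rw [← heq] at hx
      obtain ⟨y, hy, hyx⟩ := hx
      obtain rfl : y = x := (MulAut.conj ((c : pres.Grp) * g)).injective hyx
      exact hy
  · calc (c : pres.Grp) * g * a * ((c : pres.Grp) * g)⁻¹ = c * b * (c : pres.Grp)⁻¹ := by rw [hb]; group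
      _ = b := mul_inv_eq_iff_eq_mul.mpr (Subgroup.mem_centralizer_singleton_iff.mp c.2)

/-- the three orbits -/
theorem orbit_rep (v : V5) (hv : v ≠ 0) :
    ∃ e ∈ vreps, ∃ n ∈ Nsub, n * ph v * n⁻¹ = ph (dec e.1) := by
  refine vec_induct (P := fun v => ∃ e ∈ vreps, ∃ n ∈ Nsub, n * ph v * n⁻¹ = ph (dec e.1))
    (fun e he => ⟨e, he, 1, one_mem _, by group⟩) (fun k hk u _ ⟨e, he, n, hn, hne⟩ => ?_) v hv
  refine ⟨e, he, n * Tt (3 * k), mul_mem hn (Tt_norm hk), ?_⟩
  rw [← conj_ph hk, ← hne, mul_inv_rev, Tt_inv]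
  calc n * Tt (3 * k) * (Tt (3 * k) * ph u * Tt (3 * k)) * (Tt (3 * k) * n⁻¹)
      = n * (Tt (3 * k) * Tt (3 * k)) * ph u * (Tt (3 * k) * Tt (3 * k)) * n⁻¹ := by group
    _ = n * ph u * n⁻¹ := by rw [Tt_sq]; group

/-- the line of a representative -/
noncomputable def Xrep (c : ℕ) : Subgroup pres.Grp := Subgroup.zpowers (ph (dec c))

theorem orderOf_ph {v : V5} (hv : v ≠ 0) : orderOf (ph v) = 3 := by
  haveI : Fact (Nat.Prime 3) := ⟨Nat.prime_three⟩
  refine orderOf_eq_prime ?_ fun h => hv (ph_inj (h.trans ph_zero.symm))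
  exact Asub_elem.2 _ (mem_Asub.mpr ⟨v, rfl⟩)

theorem line_qv {c c' : ℕ} (hc : dec c ≠ 0) {n : pres.Grp} (hn : n ∈ Nsub)
    (h : (Xrep c).map (MulAut.conj n).toMonoidHom = Xrep c') : qv (dec c) = qv (dec c') := by
  haveI := order.1
  have hm : ph (rho ⟨n, hn⟩ (dec c)) ∈ Xrep c' := by
    rw [ph_rho, ← h]; exact ⟨_, Subgroup.mem_zpowers _, rfl⟩
  obtain ⟨k, hk⟩ := (Submonoid.mem_powers_iff _ _).mp ((isOfFinOrder_of_finite _).mem_powers_iff_mem_zpowers.mpr hm)
  rw [← ph_nsmul] at hk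
  have e := ph_inj hk
  rw [← Nat.cast_smul_eq_nsmul (ZMod 3)] at e
  have hq := congrArg qv e
  rw [qv_rho, qv_smul] at hq
  have hk0 : (k : ZMod 3) ≠ 0 := fun h0 => hc (by
    rw [h0, zero_smul] at e
    have := congrArg (rho (⟨n, hn⟩ : Nsub)⁻¹) e
    rw [← rhoL_apply, map_zero, ← rho_mul, inv_mul_cancel, rho_one] at this
    exact this.symm)
  rw [← hq, show (k : ZMod 3) * k = 1 from (show ∀ a : ZMod 3, a ≠ 0 → a * a = 1 by decide) _ hk0, one_mul]

universe u
variable {G : Type u} [Group G] [Finite G] {D : Set G}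

theorem thompson_P0 {G : Type u} [Group G] (e : pres.Grp ≃* G) :
    Cfsg.thompsonSubgroupOf 3 (Psub.map e.toMonoidHom) = Asub.map e.toMonoidHom := by
  haveI := order.1
  set Q := Psub.map e.toMonoidHom
  set f : ↥Q →* pres.Grp := e.symm.toMonoidHom.comp Q.subtype
  have hf : Function.Injective f := e.symm.injective.comp Subtype.coe_injective
  have hle : Asub.map e.toMonoidHom ≤ Q := Subgroup.map_mono Asub_le_Psub
  set A0 := (Asub.map e.toMonoidHom).subgroupOf Q
  have hfA : A0.map f = Asub := by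
    rw [← Subgroup.map_map, Subgroup.map_subgroupOf_eq_of_le hle, Subgroup.map_map]
    convert Subgroup.map_id Asub
    ext x; simp
  have hcardA : Nat.card A0 = 243 := by
    rw [Nat.card_congr (Subgroup.equivMapOfInjective A0 f hf).toEquiv, hfA, card_Asub]
  have helA : Cfsg.IsElementaryAbelian 3 A0 := by
    haveI := Asub_elem.1
    have hmem : ∀ x ∈ A0, f x ∈ Asub := fun x hx => hfA ▸ ⟨x, hx, rfl⟩
    refine ⟨⟨⟨fun x y => Subtype.ext (hf ?_)⟩⟩, fun x hx => hf (by rw [map_pow, Asub_elem.2 _ (hmem x hx), map_one])⟩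
    rw [Subgroup.coe_mul, Subgroup.coe_mul, map_mul, map_mul]
    exact congrArg Subtype.val (mul_comm' (⟨_, hmem _ x.2⟩ : Asub) ⟨_, hmem _ y.2⟩)
  have huniq : ∀ B : Subgroup ↥Q, Cfsg.IsElementaryAbelian 3 B → 243 ≤ Nat.card B → B = A0 := by
    intro B hB hc
    refine Subgroup.map_injective hf ?_
    rw [hfA]
    refine elem_unique _ ?_ ?_ (by rwa [← Nat.card_congr (Subgroup.equivMapOfInjective B f hf).toEquiv])
    · rintro _ ⟨x, -, rfl⟩
      obtain ⟨y, hy, hyx⟩ := x.2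
      show e.symm (x : G) ∈ Psub
      rw [← hyx]
      show e.symm (e y) ∈ Psub
      rwa [e.symm_apply_apply]
    · haveI := hB.1
      refine ⟨⟨⟨?_⟩⟩, ?_⟩
      · rintro ⟨_, x, hx, rfl⟩ ⟨_, y, hy, rfl⟩
        refine Subtype.ext ?_
        show f x * f y = f y * f x
        rw [← map_mul, ← map_mul]
        exact congrArg f (congrArg Subtype.val (mul_comm' (⟨x, hx⟩ : B) ⟨y, hy⟩))
      · rintro _ ⟨x, hx, rfl⟩
        rw [← map_pow, hB.2 x hx, map_one]
  have hset : Cfsg.maxElementaryAbelianSubgroups 3 ↥Q = {A0} := by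
    ext B
    constructor
    · rintro ⟨hB, hmax⟩
      exact huniq B hB (hcardA ▸ hmax A0 helA)
    · rintro rfl
      refine ⟨helA, fun B hB => ?_⟩
      by_contra hlt
      push Not at hlt
      rw [huniq B hB (by omega)] at hlt
      omega
  rw [Cfsg.thompsonSubgroupOf, Cfsg.thompsonSubgroup, hset, sSup_singleton, Subgroup.map_subgroupOf_eq_of_le hle]

variable (hD : Cfsg.IsThreeTranspositionGroup D) (hprim : Cfsg.IsPrimitiveUnderConj D) (ht : Cfsg.IsOfTypeM22 G D)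

include hD hprim ht in
theorem exists_coordinates (P : Sylow 3 G) :
    ∃ e : pres.Grp ≃* G, e '' Fischer.Dc = D ∧ Psub.map e.toMonoidHom = (P : Subgroup G) ∧
      Cfsg.thompsonSubgroupOf 3 (P : Subgroup G) = Asub.map e.toMonoidHom := by
  haveI := order.1
  haveI : Fact (Nat.Prime 3) := ⟨Nat.prime_three⟩
  obtain ⟨e, he⟩ := Norm.iso_fi22 hD hprim ht
  obtain ⟨x, hx⟩ := MulAction.exists_smul_eq G (P0.mapSurjective (f := e.toMonoidHom) e.surjective) P
  have hP : Psub.map (e.trans (MulAut.conj x)).toMonoidHom = (P : Subgroup G) := by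
    rw [← hx]
    show _ = ((P0 : Subgroup pres.Grp).map e.toMonoidHom).map (MulAut.conj x).toMonoidHom
    rw [P0_coe, Subgroup.map_map]
    rfl
  exact ⟨e.trans (MulAut.conj x), Transit.trans_conj e he x hD.2.1, hP, by rw [← hP, thompson_P0]⟩

include hD hprim ht in
theorem thompson_main (P : Sylow 3 G) (A N : Subgroup G)
    (hA : A = Cfsg.thompsonSubgroupOf 3 (P : Subgroup G)) (hN : N = Subgroup.normalizer (A : Set G)) :
    Cfsg.IsElementaryAbelian 3 A ∧ Nat.card A = 3 ^ 5 ∧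
      (∀ a ∈ A, ∀ g : G, g * a * g⁻¹ ∈ A → ∃ n ∈ N, n * a * n⁻¹ = g * a * g⁻¹) ∧
      (∃ _ : (A.subgroupOf N).Normal, Cfsg.IsReflectionGroupModThree (↥N ⧸ A.subgroupOf N) 5 1 1) ∧
      ∃ X₁ X₂ X₃ : Subgroup G, (∀ X ∈ [X₁, X₂, X₃], X ≤ A ∧ Nat.card X = 3) ∧
        (∀ n ∈ N, X₁.map (MulAut.conj n).toMonoidHom ≠ X₂ ∧ X₁.map (MulAut.conj n).toMonoidHom ≠ X₃ ∧
          X₂.map (MulAut.conj n).toMonoidHom ≠ X₃) ∧
        ∀ X : Subgroup G, X ≤ A → Nat.card X = 3 → ∃ n ∈ N, X.map (MulAut.conj n).toMonoidHom = X₁ ∨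
          X.map (MulAut.conj n).toMonoidHom = X₂ ∨ X.map (MulAut.conj n).toMonoidHom = X₃ := by
  obtain ⟨e, he, -, hth⟩ := exists_coordinates hD hprim ht P
  rw [hth] at hA
  subst hA
  have hNe : N = Nsub.map e.toMonoidHom := by
    rw [hN, Nsub, Subgroup.coe_map]
    exact (Subgroup.map_normalizer_eq_of_bijective (H := Asub) (f := e.toMonoidHom) e.bijective).symm
  clear hN
  subst hNe
  have hinj : Function.Injective e.toMonoidHom := e.injective
  have hconj : ∀ (X : Subgroup pres.Grp) (g : pres.Grp),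
      (X.map e.toMonoidHom).map (MulAut.conj (e g)).toMonoidHom =
        (X.map (MulAut.conj g).toMonoidHom).map e.toMonoidHom := fun X g => by
    rw [Subgroup.map_map, Subgroup.map_map]; congr 1; ext x; simp
  refine ⟨?_, ?_, ?_, ?_, ?_⟩
  · haveI := Asub_elem.1
    refine ⟨⟨⟨?_⟩⟩, ?_⟩
    · rintro ⟨_, x, hx, rfl⟩ ⟨_, y, hy, rfl⟩
      refine Subtype.ext ?_
      show e x * e y = e y * e x
      rw [← map_mul, ← map_mul]
      exact congrArg e (congrArg Subtype.val (mul_comm' (⟨x, hx⟩ : Asub) ⟨y, hy⟩))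
    · rintro _ ⟨x, hx, rfl⟩
      rw [← map_pow, Asub_elem.2 x hx, map_one]
  · rw [← Nat.card_congr (Subgroup.equivMapOfInjective Asub _ hinj).toEquiv, card_Asub]
    norm_num
  · rintro _ ⟨a, ha, rfl⟩ g hg
    obtain ⟨g, rfl⟩ := e.surjective g
    rw [MulEquiv.coe_toMonoidHom, ← map_mul, ← map_inv, ← map_mul] at hg
    obtain ⟨y, hy, hye⟩ := hg
    obtain rfl := e.injective hye
    obtain ⟨n, hn, hne⟩ := fusion_pres ha hy
    exact ⟨e n, ⟨n, hn, rfl⟩, by simp only [MulEquiv.coe_toMonoidHom, ← map_mul, ← map_inv, hne]⟩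
  · haveI hnp : (Asub.subgroupOf Nsub).Normal := Subgroup.normal_in_normalizer
    have hnn : ((Asub.map e.toMonoidHom).subgroupOf (Nsub.map e.toMonoidHom)).Normal := by
      refine ⟨?_⟩
      rintro ⟨_, x, hx, rfl⟩ hm ⟨_, n, hn, rfl⟩
      obtain ⟨y, hy, hye⟩ := hm
      obtain rfl := hinj hye
      exact ⟨n * y * n⁻¹, (Subgroup.mem_normalizer_iff.mp hn y).mp hy, by
        show e (n * y * n⁻¹) = e n * e y * (e n)⁻¹; simp⟩
    refine ⟨hnn, ?_⟩
    obtain ⟨Q, h1, h2, ⟨φ⟩⟩ := isReflection hD hprim ht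
    have hmap : (Asub.subgroupOf Nsub).map (e.subgroupMap Nsub).toMonoidHom =
        (Asub.map e.toMonoidHom).subgroupOf (Nsub.map e.toMonoidHom) := by
      ext ⟨y, hy⟩
      simp only [Subgroup.mem_map, Subgroup.mem_subgroupOf]
      constructor
      · rintro ⟨z, hz, hzy⟩
        exact ⟨z, hz, congrArg Subtype.val hzy⟩
      · rintro ⟨z, hz, hzy⟩
        exact ⟨⟨z, Asub_le_Nsub hz⟩, hz, Subtype.ext hzy⟩
    haveI := hnn
    exact ⟨Q, h1, h2, ⟨(QuotientGroup.congr (Asub.subgroupOf Nsub) ((Asub.map e.toMonoidHom).subgroupOf (Nsub.map e.toMonoidHom)) (e.subgroupMap Nsub) hmap).symm.trans φ⟩⟩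
  · have hne : dec 1 ≠ 0 ∧ dec 28 ≠ 0 ∧ dec 4 ≠ 0 := by decide +kernel
    obtain ⟨-, -, -, hmap⟩ := vreps_ok
    have hcard : ∀ c, dec c ≠ 0 → Nat.card ((Xrep c).map e.toMonoidHom) = 3 := fun c hc => by
      rw [← Nat.card_congr (Subgroup.equivMapOfInjective _ _ hinj).toEquiv, Xrep, Nat.card_zpowers, orderOf_ph hc]
    have hle : ∀ c, (Xrep c).map e.toMonoidHom ≤ Asub.map e.toMonoidHom := fun c =>
      Subgroup.map_mono (Subgroup.zpowers_le.mpr (mem_Asub.mpr ⟨_, rfl⟩))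
    refine ⟨(Xrep 1).map e.toMonoidHom, (Xrep 28).map e.toMonoidHom, (Xrep 4).map e.toMonoidHom, ?_, ?_, ?_⟩
    · intro X hX
      simp only [List.mem_cons, List.not_mem_nil, or_false] at hX
      rcases hX with rfl | rfl | rfl
      · exact ⟨hle _, hcard _ hne.1⟩
      · exact ⟨hle _, hcard _ hne.2.1⟩
      · exact ⟨hle _, hcard _ hne.2.2⟩
    · rintro _ ⟨n, hn, rfl⟩
      have key : ∀ c c', dec c ≠ 0 → qv (dec c) ≠ qv (dec c') →
          ((Xrep c).map e.toMonoidHom).map (MulAut.conj (e n)).toMonoidHom ≠ (Xrep c').map e.toMonoidHom :=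
        fun c c' hc hq h => hq (line_qv hc hn (Subgroup.map_injective hinj ((hconj _ n).symm.trans h)))
      exact ⟨key 1 28 hne.1 (by decide +kernel), key 1 4 hne.1 (by decide +kernel), key 28 4 hne.2.1 (by decide +kernel)⟩
    · intro X hX hX3
      haveI := order.1
      obtain ⟨Y, rfl⟩ : ∃ Y : Subgroup pres.Grp, X = Y.map e.toMonoidHom :=
        ⟨X.comap e.toMonoidHom, (Subgroup.map_comap_eq_self_of_surjective e.surjective X).symm⟩
      rw [← Nat.card_congr (Subgroup.equivMapOfInjective Y _ hinj).toEquiv] at hX3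
      have hY : Y ≤ Asub := fun y hy => by
        obtain ⟨z, hz, hze⟩ := hX ⟨y, hy, rfl⟩
        exact hinj hze ▸ hz
      haveI : Nontrivial Y := Finite.one_lt_card_iff_nontrivial.mp (by omega)
      obtain ⟨⟨y, hy⟩, hy1⟩ := exists_ne (1 : Y)
      obtain ⟨v, rfl⟩ := mem_Asub.mp (hY hy)
      have hv : v ≠ 0 := fun h => hy1 (Subtype.ext (show ph v = 1 from (congrArg ph h).trans ph_zero))
      have hYe : Subgroup.zpowers (ph v) = Y := Subgroup.eq_of_le_of_card_ge (Subgroup.zpowers_le.mpr hy)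
        (by rw [hX3, Nat.card_zpowers, orderOf_ph hv])
      obtain ⟨r, hr, n, hn, hnr⟩ := orbit_rep v hv
      have himg : Y.map (MulAut.conj n).toMonoidHom = Xrep r.1 := by
        rw [← hYe, MonoidHom.map_zpowers, Xrep, ← hnr]; rfl
      have hr1 : r.1 = 1 ∨ r.1 = 28 ∨ r.1 = 4 := by
        have hm : (r.1, r.2.1, qv (dec r.1)) ∈ ([(1, 1, 1), (28, 2, 2), (4, 4, 0)] : List (ℕ × ℕ × ZMod 3)) := by
          rw [← hmap]; exact List.mem_map.mpr ⟨r, hr, rfl⟩
        simp only [List.mem_cons, Prod.mk.injEq, List.not_mem_nil, or_false] at hm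
        rcases hm with ⟨h, -, -⟩ | ⟨h, -, -⟩ | ⟨h, -, -⟩ <;> simp [h]
      refine ⟨e n, ⟨n, hn, rfl⟩, ?_⟩
      rw [hconj, himg]
      rcases hr1 with h | h | h <;> rw [h]
      · exact Or.inl rfl
      · exact Or.inr (Or.inl rfl)
      · exact Or.inr (Or.inr rfl)

end Cfsg.Agent.Spor.M22U.Jay
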