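import Cfsg.Agent.Lib.Spor.M22UJayLin
import Cfsg.Prelude.Def_Transfer

/-!
The subgroup of order 243 is the only elementary abelian subgroup of that order or more in a Sylow subgroup
of Fi22 for the prime three.
-/

set_option autoImplicit false
set_option maxRecDepth 100000
set_option linter.unusedSectionVars false

namespace Cfsg.Agent.Spor.M22U.Jay

open Cfsg.Agent.Spor.CC Cfsg.Agent.Spor.Fi22Cert Cfsg.Agent.Spor.Fi22Cert.U62Act
open Cfsg.Agent.Spor.M22U.Cent JDat

/-- image of a basis vector under an element of the Sylow subgroup of the orthogonal group -/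
def simg (a i : ℕ) : ℕ := (sylImg.getD a []).getD i 0

theorem simg_lt {a i : ℕ} (ha : a < 81) (hi : i < 5) : simg a i < 243 := by
  obtain ⟨-, hlen, -, hall⟩ := syl_nodup
  have hm : sylImg.getD a [] ∈ sylImg := by
    rw [List.getD_eq_getElem _ _ (by omega)]; exact List.getElem_mem _
  have h := List.all_eq_true.mp hall _ hm
  simp only [Bool.and_eq_true, List.all_eq_true] at h
  have hl := Nat.eq_of_beq_eq_true h.1
  rw [simg, List.getD_eq_getElem _ _ (by omega)]
  exact Nat.le_of_ble_eq_true (h.2 _ (List.getElem_mem _))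

theorem syl_spec {a : ℕ} (ha : a < 81) :
    (∀ k ∈ sylW.getD a [], k < 36) ∧ (∀ i < 5, rw5 (sylW.getD a []) (3 ^ i) = simg a i) ∧
      ∀ b < 81, sm a b < 81 ∧ ∀ i < 5, rw5 (sylW.getD a []) (simg b i) = simg (sm a b) i := by
  have h := all_range syl_ok (u := a) (Nat.zero_le _) (by omega)
  simp only [sylOK, Bool.and_eq_true, List.all_eq_true, List.mem_range] at h
  exact ⟨fun k hk => Nat.le_of_ble_eq_true (h.1.1 k hk), fun i hi => Nat.eq_of_beq_eq_true (h.1.2 i hi),
    fun b hb => ⟨Nat.le_of_ble_eq_true (h.2 b hb).1, fun i hi => Nat.eq_of_beq_eq_true ((h.2 b hb).2 i hi)⟩⟩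

/-- an element acting as a listed one -/
def Idx (n : Nsub) (a : ℕ) : Prop := a < 81 ∧ ∀ i < 5, rho n (ev5 i) = dec (simg a i)

theorem pow3_lt : ∀ x < 5, 3 ^ x < 243 := by decide

theorem rho_lin_ext (n : Nsub) {w : List ℕ} (hw : ∀ k ∈ w, k < 36)
    (h : ∀ i < 5, rho n (ev5 i) = rwv w (ev5 i)) (v : V5) : rho n v = rwv w v := by
  rw [← rho_elR hw, ← rhoL_apply, ← rhoL_apply]
  conv_lhs => rw [v5_sum v]
  conv_rhs => rw [v5_sum v]
  simp only [map_add, map_smul, rhoL_apply, rho_elR hw, h 0 (by norm_num), h 1 (by norm_num), h 2 (by norm_num),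
    h 3 (by norm_num), h 4 (by norm_num)]

theorem idx_rho {n : Nsub} {a : ℕ} (h : Idx n a) (v : V5) : rho n v = rwv (sylW.getD a []) v := by
  obtain ⟨hw, he, -⟩ := syl_spec h.1
  refine rho_lin_ext n hw (fun i hi => ?_) v
  rw [h.2 i hi, ev5, rwv_of_code hw (pow3_lt i hi) (he i hi)]

theorem idx_mul {n m : Nsub} {a b : ℕ} (hn : Idx n a) (hm : Idx m b) : Idx (n * m) (sm a b) := by
  obtain ⟨hw, -, hmul⟩ := syl_spec hn.1
  obtain ⟨hlt, he⟩ := hmul b hm.1
  refine ⟨hlt, fun i hi => ?_⟩
  rw [rho_mul, hm.2 i hi, idx_rho hn, rwv_of_code hw (simg_lt hm.1 hi) (he i hi)]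

theorem idx_unique {n : Nsub} {a b : ℕ} (ha : Idx n a) (hb : Idx n b) : a = b := by
  obtain ⟨hnd, hlen, -, hall⟩ := syl_nodup
  have ha' := ha.1
  have hb' := hb.1
  have h1 : sylImg[a]'(by omega) = sylImg[b]'(by omega) := by
    have hl : ∀ (j : ℕ) (hj : j < sylImg.length), (sylImg[j]).length = 5 := fun j hj => by
      have h := List.all_eq_true.mp hall _ (List.getElem_mem hj)
      simp only [Bool.and_eq_true] at h
      exact Nat.eq_of_beq_eq_true h.1
    refine List.ext_getElem (by rw [hl, hl]) fun i hi _ => ?_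
    rw [hl] at hi
    have := congrArg code ((ha.2 i hi).symm.trans (hb.2 i hi))
    rw [code_dec (simg_lt ha' hi), code_dec (simg_lt hb' hi)] at this
    simp only [simg] at this
    rw [List.getD_eq_getElem sylImg _ (show a < sylImg.length by omega),
      List.getD_eq_getElem sylImg _ (show b < sylImg.length by omega)] at this
    rwa [List.getD_eq_getElem _ _ (by rw [hl]; exact hi), List.getD_eq_getElem _ _ (by rw [hl]; exact hi)] at this
  exact hnd.getElem_inj_iff.mp h1

theorem idx_one : Idx 1 0 := by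
  refine ⟨by norm_num, fun i hi => ?_⟩
  rw [rho_one]
  have h : ∀ i < 5, simg 0 i = 3 ^ i := by decide +kernel
  rw [h i hi]; rfl

theorem idx_word {a : ℕ} (ha : a < 81) : Idx (elR (sylW.getD a [])) a := by
  obtain ⟨hw, he, -⟩ := syl_spec ha
  refine ⟨ha, fun i hi => ?_⟩
  rw [rho_elR hw, ev5, rwv_of_code hw (pow3_lt i hi) (he i hi)]

/-- the elements acting as listed ones -/
noncomputable def Pmon : Submonoid pres.Grp where
  carrier := {x | ∃ h : x ∈ Nsub, ∃ a, Idx ⟨x, h⟩ a}
  one_mem' := ⟨one_mem _, 0, idx_one⟩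
  mul_mem' := by
    rintro x y ⟨hx, a, ha⟩ ⟨hy, b, hb⟩
    exact ⟨mul_mem hx hy, _, idx_mul ha hb⟩

/-- a Sylow subgroup for the prime three -/
noncomputable def Psub : Subgroup pres.Grp :=
  { Pmon with
    inv_mem' := by
      intro x hx
      haveI := order.1
      have e : x⁻¹ = x ^ (orderOf x - 1) := by
        refine inv_eq_of_mul_eq_one_right ?_
        rw [← pow_succ', Nat.sub_add_cancel (orderOf_pos x), pow_orderOf_eq_one]
      show x⁻¹ ∈ Pmon
      rw [e]
      exact pow_mem hx _ }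

theorem Psub_le : Psub ≤ Nsub := fun _ hx => hx.1

theorem exists_idx (p : Psub) : ∃ a, Idx ⟨(p : pres.Grp), Psub_le p.2⟩ a := p.2.2

/-- the action of the Sylow subgroup -/
noncomputable def rhoP : Psub →* IG := rhoI.comp (Subgroup.inclusion Psub_le)

theorem Asub_le_Nsub : Asub ≤ Nsub := Subgroup.le_normalizer

theorem rhoI_A {x : pres.Grp} (hx : x ∈ Asub) : rhoI ⟨x, Asub_le_Nsub hx⟩ = 1 := by
  rw [← MonoidHom.mem_ker, ker_rhoI]; exact hx

theorem Asub_le_Psub : Asub ≤ Psub := fun x hx => by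
  refine ⟨Asub_le_Nsub hx, 0, ⟨by norm_num, fun i hi => ?_⟩⟩
  rw [← rhoI_mulVec, rhoI_A hx, ← map_one rhoI, rhoI_mulVec]
  exact idx_one.2 i hi

theorem idx_of_eq {n : Nsub} {a b : ℕ} (hn : Idx n a) {m : Nsub} (hm : Idx m b) : rhoI n = rhoI m ↔ a = b := by
  constructor
  · intro h
    refine idx_unique (n := n) hn ⟨hm.1, fun i hi => ?_⟩
    rw [← rhoI_mulVec, h, rhoI_mulVec]
    exact hm.2 i hi
  · rintro rfl
    exact ig_ext fun v => by rw [rhoI_mulVec, rhoI_mulVec, idx_rho hn, idx_rho hm]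

theorem card_Psub : Nat.card Psub = 3 ^ 9 := by
  haveI := order.1
  have hker : rhoP.ker = Asub.subgroupOf Psub := by
    rw [rhoP, ← MonoidHom.comap_ker, ker_rhoI]
    rfl
  have hk : Nat.card rhoP.ker = 243 := by
    rw [hker, Nat.card_congr (Subgroup.subgroupOfEquivOfLe Asub_le_Psub).toEquiv, card_Asub]
  have hr : Nat.card rhoP.range = 81 := by
    have hmem : ∀ {a}, a < 81 → rhoI (elR (sylW.getD a [])) ∈ rhoP.range := fun {a} ha =>
      ⟨⟨_, ⟨(elR (sylW.getD a [])).2, a, idx_word ha⟩⟩, rfl⟩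
    refine (Nat.card_congr (Equiv.ofBijective (fun a : Fin 81 => (⟨_, hmem a.2⟩ : rhoP.range)) ⟨?_, ?_⟩)).symm.trans
      (Nat.card_fin 81)
    · intro a b h
      exact Fin.ext ((idx_of_eq (idx_word a.2) (idx_word b.2)).mp (congrArg Subtype.val h))
    · rintro ⟨_, p, rfl⟩
      obtain ⟨a, ha⟩ := exists_idx p
      exact ⟨⟨a, ha.1⟩, Subtype.ext ((idx_of_eq (idx_word ha.1) ha).mpr rfl)⟩
  rw [← Subgroup.card_mul_index rhoP.ker, hk, Subgroup.index_ker, hr]
  norm_num

theorem cut_spec {a : ℕ} (ha : a < 81) {v : V5} (h : rwv (sylW.getD a []) v = v) :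
    Nat.testBit (sylFix.getD a 0) (code v) = true := by
  have hf := all_range syl_fix (u := a) (Nat.zero_le _) (by omega)
  simp only [sylFixOK, List.all_eq_true, List.mem_range] at hf
  rw [eq_of_beq (hf (code v) (code_lt v)), rw5_code (syl_spec ha).1 (code_lt v), dec_code, h]
  exact Nat.beq_refl _

theorem rank_spec {a : ℕ} (ha : a < 81) : rankOK a = true := by
  rcases Nat.lt_or_ge a 27 with h | h
  · exact all_range rank_a (Nat.zero_le _) (by omega)
  rcases Nat.lt_or_ge a 54 with h' | h'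
  · exact all_range rank_b h (by omega)
  · exact all_range rank_c h' (by omega)

theorem elem_unique (B : Subgroup pres.Grp) (hB : B ≤ Psub) (hel : Cfsg.IsElementaryAbelian 3 B)
    (hcard : 243 ≤ Nat.card B) : B = Asub := by
  classical
  haveI := order.1
  haveI := hel.1
  have hcom : ∀ x y : B, x * y = y * x := fun x y => mul_comm' x y
  choose ix hix using fun b : B => exists_idx ⟨(b : pres.Grp), hB b.2⟩
  set f : B →* IG := rhoP.comp (Subgroup.inclusion hB) with hf
  have hA : ∀ b : B, ix b = 0 → (b : pres.Grp) ∈ Asub := fun b h => by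
    have h1 : rhoI ⟨(b : pres.Grp), Psub_le (hB b.2)⟩ = rhoI 1 := (idx_of_eq (hix b) idx_one).mpr h
    rw [map_one, ← MonoidHom.mem_ker, ker_rhoI] at h1
    exact h1
  by_cases hz : ∀ b, ix b = 0
  · exact Subgroup.eq_of_le_of_card_ge (fun x hx => hA ⟨x, hx⟩ (hz _)) (by rw [card_Asub]; exact hcard)
  exfalso
  push Not at hz
  obtain ⟨b1, hb1⟩ := hz
  have hsm : ∀ x y : B, ix (x * y) = sm (ix x) (ix y) := fun x y =>
    idx_unique (hix (x * y)) (idx_mul (hix x) (hix y))
  have hcs : ∀ x y : B, sm (ix x) (ix y) = sm (ix y) (ix x) := fun x y => by rw [← hsm, ← hsm, hcom]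
  -- the part in the abelian subgroup is fixed by every element
  have hfix : ∀ (x b : B) (v : V5), (x : pres.Grp) = ph v →
      Nat.testBit (sylFix.getD (ix b) 0) (code v) = true := fun x b v hx => by
    refine cut_spec (hix b).1 ?_
    rw [← idx_rho (hix b)]
    refine ph_inj ?_
    rw [ph_rho, ← hx]
    exact mul_inv_eq_iff_eq_mul.mpr (congrArg Subtype.val (hcom b x))
  have hbound : ∀ (S : Finset ℕ) (l : List ℕ), (∀ b, ix b ∈ S) →
      (∀ v : V5, (∀ b, Nat.testBit (sylFix.getD (ix b) 0) (code v) = true) → code v ∈ l) →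
      Nat.card B ≤ S.card * l.length := fun S l hS hl => by
    rw [← Subgroup.card_mul_index f.ker, Subgroup.index_ker, mul_comm]
    refine Nat.mul_le_mul ?_ ?_
    · have hinj : Function.Injective fun g : f.range => ix g.2.choose := fun g g' h => by
        have h1 := (idx_of_eq (hix g.2.choose) (hix g'.2.choose)).mpr h
        have e1 := g.2.choose_spec
        have e2 := g'.2.choose_spec
        exact Subtype.ext (e1.symm.trans (Eq.trans h1 e2))
      have := Nat.card_le_card_of_injective (fun g : f.range => (⟨ix g.2.choose, hS _⟩ : {x // x ∈ S}))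
        fun g g' h => hinj (congrArg Subtype.val h)
      rwa [Nat.card_eq_finsetCard] at this
    · have hker : ∀ x : f.ker, ∃ v, ph v = ((x : B) : pres.Grp) := fun x => by
        have hx := MonoidHom.mem_ker.mp x.2
        have h1 : (⟨((x : B) : pres.Grp), Psub_le (hB (x : B).2)⟩ : Nsub) ∈ rhoI.ker := hx
        rw [ker_rhoI] at h1
        exact mem_Asub.mp h1
      choose vx hvx using hker
      have hmem : ∀ x : f.ker, code (vx x) ∈ l.toFinset := fun x =>
        List.mem_toFinset.mpr (hl _ fun b => hfix _ b _ (hvx x).symm)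
      have := Nat.card_le_card_of_injective (fun x : f.ker => (⟨code (vx x), hmem x⟩ : {c // c ∈ l.toFinset}))
        fun x y h => by
          have h1 := congrArg (fun c : {c // c ∈ l.toFinset} => dec c.1) h
          simp only [dec_code] at h1
          exact Subtype.ext (Subtype.ext ((hvx x).symm.trans ((congrArg ph h1).trans (hvx y))))
      refine this.trans ?_
      rw [Nat.card_eq_finsetCard]
      exact l.toFinset_card_le
  have hmemcut : ∀ {l : List ℕ} {a c : ℕ}, c ∈ l → Nat.testBit (sylFix.getD a 0) c = true → c ∈ cutFix l a :=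
    fun hc h => List.mem_filter.mpr ⟨hc, h⟩
  set a := ix b1
  have ha := (hix b1).1
  have h := rank_spec ha
  simp only [rankOK, rankTwo, Bool.or_eq_true, Bool.and_eq_true, List.all_eq_true, List.mem_range] at h
  rcases h with h | ⟨hl1, h⟩
  · exact hb1 (Nat.eq_of_beq_eq_true h)
  set l1 := cutFix (List.range 243) a
  have hin1 : ∀ v : V5, (∀ b, Nat.testBit (sylFix.getD (ix b) 0) (code v) = true) → code v ∈ l1 := fun v hv =>
    hmemcut (List.mem_range.mpr (code_lt v)) (hv b1)
  by_cases h2 : ∀ b, ix b ∈ ({0, a, sm a a} : Finset ℕ)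
  · have := hbound _ _ h2 hin1
    have := Nat.le_of_ble_eq_true hl1
    have := Nat.mul_le_mul (Finset.card_le_three (a := 0) (b := a) (c := sm a a)) this
    omega
  push Not at h2
  obtain ⟨b2, hb2⟩ := h2
  simp only [Finset.mem_insert, Finset.mem_singleton, not_or] at hb2
  set b := ix b2
  have hb := (hix b2).1
  have hind : indep2 a b = true := by
    simp only [indep2, Bool.and_eq_true, Bool.not_eq_true', Bool.or_eq_false_iff]
    refine ⟨by rw [hcs b1 b2]; exact Nat.beq_refl _, ⟨?_, ?_⟩, ?_⟩ <;>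
      (refine Bool.eq_false_iff.mpr fun e => ?_)
    · exact hb2.1 (Nat.eq_of_beq_eq_true e)
    · exact hb2.2.1 (Nat.eq_of_beq_eq_true e)
    · exact hb2.2.2 (Nat.eq_of_beq_eq_true e)
  have h3 := h b hb
  simp only [hind, Bool.not_true, Bool.false_or, rankThree, Bool.and_eq_true, List.all_eq_true, List.mem_range,
    Bool.or_eq_true] at h3
  rcases h3 with h3 | ⟨hl2, h3⟩
  · rw [show indep2 (ix b1) b = true from hind] at h3; cases h3
  set l2 := cutFix l1 b
  have hin2 : ∀ v : V5, (∀ b, Nat.testBit (sylFix.getD (ix b) 0) (code v) = true) → code v ∈ l2 := fun v hv =>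
    hmemcut (hin1 v hv) (hv b2)
  by_cases h4 : ∀ x, ix x ∈ (span2 a b).toFinset
  · have := hbound _ _ h4 hin2
    have := Nat.le_of_ble_eq_true hl2
    have := Nat.mul_le_mul ((span2 a b).toFinset_card_le.trans (show (span2 a b).length ≤ 9 from le_rfl)) this
    omega
  push Not at h4
  obtain ⟨b3, hb3⟩ := h4
  have h5 := h3 (ix b3) (hix b3).1
  rw [List.mem_toFinset] at hb3
  simp only [Bool.not_eq_true', Bool.and_eq_false_iff, List.any_eq_true] at h5
  rcases h5 with ((h5 | h5) | ⟨x, hx, h5⟩) | h5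
  · rw [hcs b1 b3, Nat.beq_refl] at h5; cases h5
  · rw [hcs b2 b3, Nat.beq_refl] at h5; cases h5
  · exact hb3 (Nat.eq_of_beq_eq_true h5 ▸ hx)
  set l3 := cutFix l2 (ix b3)
  have hin3 : ∀ v : V5, (∀ b, Nat.testBit (sylFix.getD (ix b) 0) (code v) = true) → code v ∈ l3 := fun v hv =>
    hmemcut (hin2 v hv) (hv b3)
  let S : Finset ℕ := (Finset.range 81).filter fun i => ∃ x, ix x = i
  have hS : ∀ x, ix x ∈ S := fun x => Finset.mem_filter.mpr ⟨Finset.mem_range.mpr (hix x).1, x, rfl⟩
  have hSlt : S.card ≤ 80 := by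
    by_contra hc
    push Not at hc
    have hall : S = Finset.range 81 := Finset.eq_of_subset_of_card_le (Finset.filter_subset _ _) (by simp; omega)
    obtain ⟨p, hp, q, hq, hne⟩ := syl_nonabelian
    have hp' : p ∈ S := by rw [hall]; exact Finset.mem_range.mpr hp
    have hq' : q ∈ S := by rw [hall]; exact Finset.mem_range.mpr hq
    obtain ⟨x, rfl⟩ := (Finset.mem_filter.mp hp').2
    obtain ⟨y, rfl⟩ := (Finset.mem_filter.mp hq').2
    exact hne (hcs x y)
  have := hbound _ _ hS hin3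
  have := Nat.mul_le_mul hSlt (Nat.le_of_ble_eq_true h5)
  omega

theorem Asub_elem : Cfsg.IsElementaryAbelian 3 Asub := by
  refine ⟨⟨⟨fun x y => ?_⟩⟩, fun x hx => ?_⟩
  · obtain ⟨u, hu⟩ := mem_Asub.mp x.2
    obtain ⟨v, hv⟩ := mem_Asub.mp y.2
    refine Subtype.ext ?_
    rw [Subgroup.coe_mul, Subgroup.coe_mul, ← hu, ← hv, ← ph_add, ← ph_add, add_comm]
  · obtain ⟨u, rfl⟩ := mem_Asub.mp hx
    rw [← ph_nsmul, show 3 • u = 0 by funext i; simp [nsmul_eq_mul]; exact Or.inl rfl, ph_zero]

end Cfsg.Agent.Spor.M22U.Jay
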