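import Cfsg.Agent.Lib.Spor.M22UFrame

/-!
The members of a group of type M(22) commuting with the second member of the frame, and the list of all members.
-/

set_option autoImplicit false
set_option maxRecDepth 100000

namespace Cfsg.Agent.Spor.M22U.Frame

open Cfsg.Agent.Spor.CC Dat

variable {G : Type*} [Group G] {D : Set G} (F : Frame D)
include F

/-- the member exchanging the two members of the frame -/
noncomputable def cc : G := F.a * F.b * F.a⁻¹

theorem braid : F.a * F.b * F.a = F.b * F.a * F.b := by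
  rcases Spor.commute_or_braid F.three.1 F.ha F.hb with h | h
  · exact absurd h F.nab
  · exact h

theorem cc_a : F.cc * F.a * (F.cc)⁻¹ = F.b := by
  have ha := F.mul_self_mem F.ha
  have hb := F.mul_self_mem F.hb
  have hai := F.a_inv
  have hbi : F.b⁻¹ = F.b := Spor.inv_of_order_two (F.three.1.1 _ F.hb)
  rw [cc, mul_inv_rev, mul_inv_rev, inv_inv, hai, hbi]
  calc F.a * F.b * F.a * F.a * (F.a * (F.b * F.a))
      = F.a * F.b * (F.a * F.a) * (F.a * (F.b * F.a)) := by simp only [mul_assoc]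
    _ = F.a * (F.b * F.a * F.b) * F.a := by rw [ha, mul_one]; simp only [mul_assoc]
    _ = (F.a * F.a) * F.b * (F.a * F.a) := by rw [← F.braid]; simp only [mul_assoc]
    _ = F.b := by rw [ha, one_mul, mul_one]

theorem cc_inv : (F.cc)⁻¹ = F.cc :=
  Spor.inv_of_order_two (F.three.1.1 _ (F.three.2.1 _ _ F.hb))

theorem cc_b : F.cc * F.b * (F.cc)⁻¹ = F.a := by
  conv_lhs => rw [← F.cc_a]
  have h : F.cc * F.cc = 1 := F.mul_self_mem (F.three.2.1 _ _ F.hb)
  calc F.cc * (F.cc * F.a * (F.cc)⁻¹) * (F.cc)⁻¹ = (F.cc * F.cc) * F.a * (F.cc * F.cc)⁻¹ := by group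
    _ = _ := by rw [h, one_mul, inv_one, mul_one]

theorem cc_pt {t : ℕ} (ht : t < 693) (hT : inT0 t = true) : F.cc * F.pt t * (F.cc)⁻¹ = F.pt t := by
  have h1 : Commute (F.pt t) F.a := (F.pt_mem ht).2.2.symm
  have h2 : Commute (F.pt t) F.b := ((F.commute_b_pt ht).mpr hT).symm
  exact mul_inv_eq_iff_eq_mul.mpr ((h1.mul_right h2).mul_right h1.inv_right).symm.eq

/-- the member commuting with the second one attached to a point -/
noncomputable def yv (p : ℕ) : G := F.cc * F.pt p * (F.cc)⁻¹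

theorem yv_spec {p : ℕ} (hp : p < 693) :
    F.yv p ∈ D ∧ Commute F.b (F.yv p) ∧ F.yv p ≠ F.b ∧ (inT0 p = false → ¬ Commute F.a (F.yv p)) ∧
      ∀ t < 693, inT0 t = true → (Commute (F.yv p) (F.pt t) ↔ orth p t = true) := by
  obtain ⟨h1, h2, h3⟩ := F.pt_mem hp
  refine ⟨F.three.2.1 _ _ h1, ?_, fun h => h2 ?_, fun hT h => ?_, fun t ht hT => ?_⟩
  · rw [← F.cc_a]; exact commute_conj_iff.mpr h3
  · rw [← F.cc_a] at h
    exact mul_left_cancel (mul_right_cancel h)
  · rw [← F.cc_b] at h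
    have := (F.commute_b_pt hp).mp (commute_conj_iff.mp h)
    rw [hT] at this; exact Bool.noConfusion this
  · rw [← F.commute_pt hp ht]
    conv_lhs => rw [← F.cc_pt ht hT]
    exact commute_conj_iff

theorem yv_inj {p q : ℕ} (hp : p < 693) (hq : q < 693) (h : F.yv p = F.yv q) : p = q :=
  F.pt_inj hp hq (mul_left_cancel (mul_right_cancel h))

omit F in
/-- number of points of the standard subset with a property -/
def cnt (f : ℕ → Bool) : ℕ := ((Finset.range 693).filter fun t => inT0 t = true ∧ f t = true).card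

omit F in
theorem cnt_congr {f g : ℕ → Bool} (h : ∀ t < 693, inT0 t = true → f t = g t) : cnt f = cnt g := by
  unfold cnt
  congr 1
  refine Finset.filter_congr fun t ht => ?_
  rw [Finset.mem_range] at ht
  constructor <;> rintro ⟨a, b⟩ <;> exact ⟨a, by rw [h t ht a] at *; exact b⟩

omit F in
theorem cnt_list (f : ℕ → Bool) : cnt f = (t0.filter f).length := by
  rw [← t0_ok.1, List.filter_filter, ← List.toFinset_card_of_nodup ((List.nodup_range).filter _)]
  unfold cnt
  congr 1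
  ext t
  simp [and_comm, and_left_comm]

theorem cnt_word {w : List ℕ} (hw' : below 7 w = true) (f : ℕ → Bool) : cnt (fun t => f (pev w t)) = cnt f := by
  refine Finset.card_nbij' (pev w) (pev w.reverse) ?_ ?_ ?_ ?_
  · intro t ht
    simp only [Finset.coe_filter, Finset.mem_range, Set.mem_setOf_eq] at ht ⊢
    exact ⟨pev_lt (below_mono hw') ht.1, (F.T_stab hw' ht.1).trans ht.2.1, ht.2.2⟩
  · intro t ht
    simp only [Finset.coe_filter, Finset.mem_range, Set.mem_setOf_eq] at ht ⊢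
    refine ⟨pev_lt (below_mono (below_rev hw')) ht.1, (F.T_stab (below_rev hw') ht.1).trans ht.2.1, ?_⟩
    rw [pev_rev' (below_mono hw') ht.1]; exact ht.2.2
  · intro t ht
    simp only [Finset.coe_filter, Finset.mem_range, Set.mem_setOf_eq] at ht
    exact pev_rev (below_mono hw') ht.1
  · intro t ht
    simp only [Finset.coe_filter, Finset.mem_range, Set.mem_setOf_eq] at ht
    exact pev_rev' (below_mono hw') ht.1

omit F in
theorem misc_facts : kind 0 = 0 ∧ kind k1 = 1 ∧ kind k2 = 2 ∧ k1 < 1408 ∧ k2 < 1408 ∧ p1 < 693 ∧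
    inT0 p1 = false ∧ kind root = 1 ∧ root < 1408 ∧ adj root k2 = true :=
  ⟨beq_iff.mp misc_ok.1, beq_iff.mp misc_ok.2.1, beq_iff.mp misc_ok.2.2.1, misc_ok.2.2.2.1,
    misc_ok.2.2.2.2.1, misc_ok.2.2.2.2.2.1, misc_ok.2.2.2.2.2.2.1, beq_iff.mp misc_ok.2.2.2.2.2.2.2.1,
    misc_ok.2.2.2.2.2.2.2.2.1, misc_ok.2.2.2.2.2.2.2.2.2.1⟩

omit F in
theorem local_eq {t : ℕ} (ht : t < 693) (hT : inT0 t = true) : inS k1 t = orth p1 t := by
  have hmem : t ∈ t0 := by
    rw [← t0_ok.1, List.mem_filter]; exact ⟨List.mem_range.mpr ht, hT⟩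
  have h := local_ok.1
  rw [Bool.eq_iff_iff]
  constructor <;> intro hh
  · exact (List.mem_filter.mp (h ▸ List.mem_filter.mpr ⟨hmem, hh⟩)).2
  · exact (List.mem_filter.mp (h.symm ▸ List.mem_filter.mpr ⟨hmem, hh⟩)).2

theorem cnt_out {p : ℕ} (hp : p < 693) (hT : inT0 p = false) : cnt (orth p) = 30 := by
  obtain ⟨h1, h2, -⟩ := out_word hp hT
  rw [← F.cnt_word h1 (orth p), ← local_ok.2.1, ← cnt_list]
  refine cnt_congr fun t ht _ => ?_
  have e := F.orth_conj (below_mono h1) misc_facts.2.2.2.2.2.1 ht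
  rwa [h2] at e

theorem qpt_spec {k : ℕ} (hk : k < 1408) (h : kind k = 1) :
    qpt k < 693 ∧ inT0 (qpt k) = false ∧ invq (qpt k) = k ∧
      ∀ t < 693, inT0 t = true → inS k t = orth (qpt k) t := by
  obtain ⟨h0, -⟩ | ⟨-, h1, h2, h3, h4⟩ | ⟨h0, -⟩ := kind_cases hk
  · omega
  · refine ⟨pev_lt (below_mono h1) misc_facts.2.2.2.2.2.1, h4, h3, fun t ht hT => ?_⟩
    have ht' := pev_lt (below_mono (below_rev h1)) ht
    have e := F.inS_word (below_mono h1) misc_facts.2.2.2.1 ht'
    rw [h2, pev_rev' (below_mono h1) ht] at e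
    rw [e, local_eq ht' ((F.T_stab (below_rev h1) ht).trans hT),
      ← F.orth_conj (below_mono h1) misc_facts.2.2.2.2.2.1 ht', pev_rev' (below_mono h1) ht]
    rfl
  · omega

theorem near_of_same {p k : ℕ} (hp : p < 693) (hT : inT0 p = false) (hk : k < 1408)
    (h : ∀ t < 693, inT0 t = true → inS k t = orth p t) : kind k = 1 ∧ k = invq p := by
  have h30 : cnt (inS k) = 30 := (cnt_congr h).trans (F.cnt_out hp hT)
  have hk1 : kind k = 1 := by
    obtain ⟨-, rfl⟩ | ⟨h1, -⟩ | ⟨-, h1, h2⟩ := kind_cases hk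
    · rw [cnt_congr (f := inS 0) (g := fun _ => true) (fun t _ hT => (inS_zero t).trans hT), cnt_list,
        List.filter_eq_self.mpr (fun _ _ => rfl), t0_ok.2] at h30
      omega
    · exact h1
    · exfalso
      rw [← F.cnt_word h1, cnt_congr (g := inS k2) (fun t ht _ => ?_), cnt_list, local_ok.2.2] at h30
      · omega
      · have e := F.inS_word (below_mono h1) misc_facts.2.2.2.2.1 ht
        rwa [h2] at e
  refine ⟨hk1, ?_⟩
  obtain ⟨q1, q2, q3, q4⟩ := F.qpt_spec hk hk1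
  suffices e : qpt k = p by rw [← e, q3]
  obtain ⟨w1, w2, -⟩ := out_word hp hT
  set p' := pev (sp p).reverse (qpt k) with hp'
  have hp'l : p' < 693 := pev_lt (below_mono (below_rev w1)) q1
  have hp'T : inT0 p' = false := (F.T_stab (below_rev w1) q1).trans q2
  have hsame : ∀ t < 693, inT0 t = true → orth p' t = orth p1 t := by
    intro t ht htT
    rw [← F.orth_conj (below_mono w1) hp'l ht, ← F.orth_conj (below_mono w1) misc_facts.2.2.2.2.2.1 ht,
      w2, hp', pev_rev' (below_mono w1) q1]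
    have htl := pev_lt (below_mono w1) ht
    have htT' := (F.T_stab w1 ht).trans htT
    rw [← q4 _ htl htT', h _ htl htT']
  obtain ⟨-, -, -, -, -, hw⟩ := out_word hp'l hp'T
  rcases hw with e | ⟨t, ht, htT, h1, h2⟩
  · rw [← w2, ← e, hp', pev_rev' (below_mono w1) q1]
  · rw [hsame t ht htT, h1] at h2; exact Bool.noConfusion h2

/-- the member attached to an outside point is one of the two of its subset -/
theorem yv_sh [Finite G] {p : ℕ} (hp : p < 693) (hT : inT0 p = false) :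
    ∃ e, F.yv p = F.sh (invq p) e := by
  obtain ⟨y1, -, -, y4, y5⟩ := F.yv_spec hp
  have hne : cnt (orth p) ≠ 0 := by rw [F.cnt_out hp hT]; norm_num
  obtain ⟨t, ht⟩ := Finset.card_ne_zero.mp hne
  simp only [Finset.mem_filter, Finset.mem_range] at ht
  obtain ⟨k, hk, e, he⟩ := F.cover y1 (y4 hT) ht.1 ((y5 t ht.1 ht.2.1).mpr ht.2.2).symm
  have hsame : ∀ t < 693, inT0 t = true → inS k t = orth p t := fun t ht htT => by
    rw [Bool.eq_iff_iff, ← F.sh_pt hk ht e, ← he]; exact y5 t ht htT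
  exact ⟨e, (F.near_of_same hp hT hk hsame).2 ▸ he⟩

theorem kind_zero {k : ℕ} (hk : k < 1408) (h : kind k = 0) : k = 0 := by
  obtain ⟨-, e⟩ | ⟨h1, -⟩ | ⟨h1, -⟩ := kind_cases hk
  · exact e
  · omega
  · omega

theorem near_exists [Finite G] {k : ℕ} (hk : k < 1408) (h : kind k = 1) :
    ∃ e, Commute F.b (F.sh k e) ∧ F.sh k e = F.yv (qpt k) := by
  obtain ⟨q1, q2, q3, -⟩ := F.qpt_spec hk h
  obtain ⟨e, he⟩ := F.yv_sh q1 q2
  rw [q3] at he
  exact ⟨e, he ▸ (F.yv_spec q1).2.1, he.symm⟩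

theorem commute_b_sh [Finite G] {k : ℕ} (hk : k < 1408) (hk0 : k ≠ 0) {e : Bool}
    (h : Commute F.b (F.sh k e)) : kind k = 1 ∧ F.sh k e = F.yv (qpt k) := by
  obtain ⟨h1, h2⟩ := F.sh_mem hk e
  set y' := F.cc * F.sh k e * (F.cc)⁻¹ with hy'
  have hcc : F.cc * F.cc = 1 := F.mul_self_mem (F.three.2.1 _ _ F.hb)
  have hback : F.cc * y' * (F.cc)⁻¹ = F.sh k e := by
    calc F.cc * y' * (F.cc)⁻¹ = (F.cc * F.cc) * F.sh k e * (F.cc * F.cc)⁻¹ := by rw [hy']; group
      _ = _ := by rw [hcc, one_mul, inv_one, mul_one]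
  have hca : Commute F.a y' := by rw [← F.cc_b]; exact commute_conj_iff.mpr h
  have hne : y' ≠ F.a := fun e' => by
    have : F.sh k e = F.b := by rw [← hback, e', F.cc_a]
    have := F.sh_inj hk (show (0 : ℕ) < 1408 by norm_num) (e' := true) (this.trans F.bk_zero.symm)
    exact hk0 this.1
  obtain ⟨p, hp, hpy⟩ := F.pt_surj (F.three.2.1 _ _ h1) hne hca
  have hyv : F.yv p = F.sh k e := by rw [yv, hpy, hback]
  have hT : inT0 p = false := by
    by_contra hT
    rw [Bool.not_eq_false] at hT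
    rw [yv, F.cc_pt hp hT] at hyv
    exact h2 (hyv ▸ (F.pt_mem hp).2.2)
  obtain ⟨o1, o2, o3, o4, o5, -⟩ := out_word hp hT
  obtain ⟨e', he'⟩ := F.yv_sh hp hT
  obtain ⟨ek, -⟩ := F.sh_inj hk o4 (hyv.symm.trans he')
  refine ⟨ek ▸ o3, ?_⟩
  rw [← hyv, ek, o5]

theorem near_unique [Finite G] {k : ℕ} (hk : k < 1408) (hk0 : k ≠ 0) {e e' : Bool}
    (h : Commute F.b (F.sh k e)) (h' : Commute F.b (F.sh k e')) : e = e' :=
  (F.sh_inj hk hk ((F.commute_b_sh hk hk0 h).2.trans (F.commute_b_sh hk hk0 h').2.symm)).2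

theorem sh_zero : F.sh 0 true = F.b := F.bk_zero

/-- conjugate a member to the second member of the frame -/
theorem reduce [Finite G] {k : ℕ} (hk : k < 1408) (e : Bool) :
    ∃ g : G, Commute g F.a ∧ g * F.sh k e * g⁻¹ = F.b ∧ ∀ l < 1408, ∀ e', ∃ e'',
      g * F.sh l e' * g⁻¹ = F.sh (qev (kw k).reverse l) e'' := by
  obtain ⟨h1, h2⟩ := kw_spec hk
  obtain ⟨e0, he0⟩ := F.move (below_rev h1) hk e
  have hk0 : qev (kw k).reverse k = 0 := by
    conv_lhs => arg 2; rw [← h2]
    exact qev_rev h1 (by norm_num)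
  rw [hk0] at he0
  cases e0
  · refine ⟨F.a * F.hw (kw k).reverse, ((Commute.refl F.a).mul_right (F.hw_comm_a (below_rev h1))).symm, ?_,
      fun l hl e' => ?_⟩
    · rw [mul_inv_rev, ← F.sh_zero, ← Bool.not_false, ← F.conj_a_sh 0 false, ← he0]; group
    · obtain ⟨e'', he''⟩ := F.move (below_rev h1) hl e'
      refine ⟨!e'', ?_⟩
      rw [← F.conj_a_sh _ e'', ← he'']; group
  · exact ⟨F.hw (kw k).reverse, (F.hw_comm_a (below_rev h1)).symm, he0.trans F.sh_zero,
      fun l hl e' => F.move (below_rev h1) hl e'⟩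

/-- the adjacency of subsets -/
theorem adj_iff [Finite G] {k l : ℕ} (hk : k < 1408) (hl : l < 1408) (e : Bool) :
    adj k l = true ↔ k ≠ l ∧ ∃ e', Commute (F.sh k e) (F.sh l e') := by
  obtain ⟨g, -, g2, g3⟩ := F.reduce hk e
  have hl' : qev (kw k).reverse l < 1408 := qev_lt (below_rev (kw_spec hk).1) hl
  have hz : qev (kw k).reverse l = 0 ↔ k = l := by
    obtain ⟨h1, h2⟩ := kw_spec hk
    constructor
    · intro h
      have := qev_rev' h1 hl
      rw [h, h2] at this; exact this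
    · rintro rfl
      conv_lhs => arg 2; rw [← h2]
      exact qev_rev h1 (by norm_num)
  rw [adj, beq_iff]
  constructor
  · intro h
    refine ⟨fun e' => by rw [hz.mpr e', misc_facts.1] at h; omega, ?_⟩
    obtain ⟨e1, he1, -⟩ := F.near_exists hl' h
    obtain ⟨ea, hea⟩ := g3 l hl true
    by_cases hab : ea = e1
    · subst hab
      refine ⟨true, ?_⟩
      rw [← commute_conj_iff (g := g), g2, hea]; exact he1
    · obtain ⟨eb, heb⟩ := g3 l hl false
      have hne : eb ≠ ea := fun h' => by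
        subst h'
        exact Bool.noConfusion (F.sh_inj hl hl (mul_left_cancel (mul_right_cancel (heb.trans hea.symm)))).2
      have hb : eb = e1 := by cases ea <;> cases eb <;> cases e1 <;> simp_all
      subst hb
      refine ⟨false, ?_⟩
      rw [← commute_conj_iff (g := g), g2, heb]; exact he1
  · rintro ⟨hne, e', h⟩
    obtain ⟨ea, hea⟩ := g3 l hl e'
    rw [← commute_conj_iff (g := g), g2, hea] at h
    exact (F.commute_b_sh hl' (fun e => hne (hz.mp e)) h).1

theorem adj_symm [Finite G] {k l : ℕ} (hk : k < 1408) (hl : l < 1408) (h : adj k l = true) : adj l k = true := by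
  obtain ⟨hne, e', h'⟩ := (F.adj_iff hk hl true).mp h
  obtain ⟨g, g1, g2, g3⟩ := F.reduce hl e'
  exact (F.adj_iff hl hk e').mpr ⟨Ne.symm hne, true, h'.symm⟩

theorem adj_word [Finite G] {w : List ℕ} (hw' : below 8 w = true) {k l : ℕ} (hk : k < 1408) (hl : l < 1408)
    (h : adj k l = true) : adj (qev w k) (qev w l) = true := by
  obtain ⟨hne, e', h'⟩ := (F.adj_iff hk hl true).mp h
  obtain ⟨e1, he1⟩ := F.move hw' hk true
  obtain ⟨e2, he2⟩ := F.move hw' hl e'
  refine (F.adj_iff (qev_lt hw' hk) (qev_lt hw' hl) e1).mpr ⟨fun e => hne ?_, e2, ?_⟩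
  · rw [← qev_rev hw' hk, e, qev_rev hw' hl]
  · rw [← he1, ← he2, commute_conj_iff]; exact h'

/-- the two members of one subset do not commute -/
theorem sh_pair {k : ℕ} (hk : k < 1408) : ¬ Commute (F.sh k true) (F.sh k false) := by
  obtain ⟨h1, h2⟩ := F.sh_mem hk true
  intro h
  apply h2
  rw [show F.sh k false = F.a * F.sh k true * F.a⁻¹ from (F.conj_a_sh k true).symm] at h
  rcases Spor.commute_or_braid F.three.1 F.ha h1 with h3 | h3
  · exact h3
  · rw [F.a_inv] at h
    set x := F.sh k true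
    have hxx : x * x = 1 := F.mul_self_mem h1
    have haa : F.a * F.a = 1 := F.mul_self_mem F.ha
    have e1 : x * (F.a * x * F.a) = F.a * x * F.a * x := h.eq
    rw [h3] at e1
    have e2 : F.a * x = x * F.a := by
      calc F.a * x = x * (x * F.a * x) := by simp only [← mul_assoc, hxx, one_mul]
        _ = x * F.a * x * x := e1
        _ = x * F.a := by rw [mul_assoc, hxx, mul_one]
    exact e2

/-- Two members of adjacent subsets commuting with a third. -/
theorem triangle [Finite G] {k l m : ℕ} (hk : k < 1408) (hl : l < 1408) (hm : m < 1408) (hkl : k ≠ l)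
    (hkm : k ≠ m) {e e1 e2 : Bool} (h1 : Commute (F.sh k e) (F.sh l e1))
    (h2 : Commute (F.sh k e) (F.sh m e2)) :
    Commute (F.sh l e1) (F.sh m e2) ↔
      orth (qpt (qev (kw k).reverse l)) (qpt (qev (kw k).reverse m)) = true := by
  obtain ⟨g, -, g2, g3⟩ := F.reduce hk e
  have hr := below_rev (kw_spec hk).1
  have hz : ∀ {n}, n < 1408 → k ≠ n → qev (kw k).reverse n ≠ 0 := fun {n} hn hne h => by
    have := qev_rev' (kw_spec hk).1 hn
    rw [h, (kw_spec hk).2] at this; exact hne this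
  obtain ⟨a1, ha1⟩ := g3 l hl e1
  obtain ⟨a2, ha2⟩ := g3 m hm e2
  rw [← commute_conj_iff (g := g), g2, ha1] at h1
  rw [← commute_conj_iff (g := g), g2, ha2] at h2
  obtain ⟨k1', y1⟩ := F.commute_b_sh (qev_lt hr hl) (hz hl hkl) h1
  obtain ⟨k2', y2⟩ := F.commute_b_sh (qev_lt hr hm) (hz hm hkm) h2
  rw [← commute_conj_iff (g := g), ha1, ha2, y1, y2, yv, yv, commute_conj_iff,
    F.commute_pt (F.qpt_spec (qev_lt hr hl) k1').1 (F.qpt_spec (qev_lt hr hm) k2').1]

/-- every member -/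
theorem mem_cases [Finite G] {y : G} (hy : y ∈ D) :
    y = F.a ∨ (∃ x < 693, y = F.pt x) ∨ ∃ k < 1408, ∃ e, y = F.sh k e := by
  let X : Set G := {z | z = F.a ∨ (∃ x < 693, z = F.pt x) ∨ ∃ k < 1408, ∃ e, z = F.sh k e}
  have hstep : ∀ z ∈ X, z ∈ D → ∀ u ∈ D, Commute z u → u ∈ X := by
    intro z hz _ u hu hzu
    by_cases hua : u = F.a
    · exact Or.inl hua
    by_cases hau : Commute F.a u
    · obtain ⟨x, hx, e⟩ := F.pt_surj hu hua hau
      exact Or.inr (Or.inl ⟨x, hx, e.symm⟩)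
    refine Or.inr (Or.inr ?_)
    rcases hz with rfl | ⟨x, hx, rfl⟩ | ⟨k, hk, e, rfl⟩
    · exact absurd hzu hau
    · exact F.cover hu hau hx hzu
    obtain ⟨g, g1, g2, -⟩ := F.reduce hk e
    have hga : g * F.a * g⁻¹ = F.a := mul_inv_eq_iff_eq_mul.mpr g1.eq
    set u' := g * u * g⁻¹ with hu'
    have hbu : Commute F.b u' := by rw [← g2]; exact commute_conj_iff.mpr hzu
    have hau' : ¬ Commute F.a u' := fun h => hau (by rw [← hga] at h; exact commute_conj_iff.mp h)
    have hcases : ∃ x < 693, Commute (F.pt x) u' := by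
      set v := F.cc * u' * (F.cc)⁻¹ with hv
      have hva : Commute F.a v := by rw [← F.cc_b]; exact commute_conj_iff.mpr hbu
      have hcc : F.cc * F.cc = 1 := F.mul_self_mem (F.three.2.1 _ _ F.hb)
      have hback : F.cc * v * (F.cc)⁻¹ = u' := by
        calc F.cc * v * (F.cc)⁻¹ = (F.cc * F.cc) * u' * (F.cc * F.cc)⁻¹ := by rw [hv]; group
          _ = _ := by rw [hcc, one_mul, inv_one, mul_one]
      by_cases hve : v = F.a
      · rw [hve, F.cc_a] at hback
        refine ⟨gpt 0, gpt_lt (by norm_num), ?_⟩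
        rw [← hback]
        exact ((F.commute_b_pt (gpt_lt (by norm_num))).mpr (gpt_T (by norm_num))).symm
      obtain ⟨p, hp, hpv⟩ := F.pt_surj (F.three.2.1 _ _ (F.three.2.1 _ _ hu)) hve hva
      have hyv : F.yv p = u' := by rw [yv, hpv, hback]
      have hT : inT0 p = false := by
        by_contra hT
        rw [Bool.not_eq_false] at hT
        rw [yv, F.cc_pt hp hT] at hyv
        exact hau' (hyv ▸ (F.pt_mem hp).2.2)
      have hne : cnt (orth p) ≠ 0 := by rw [F.cnt_out hp hT]; norm_num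
      obtain ⟨t, ht⟩ := Finset.card_ne_zero.mp hne
      simp only [Finset.mem_filter, Finset.mem_range] at ht
      exact ⟨t, ht.1, hyv ▸ (((F.yv_spec hp).2.2.2.2 t ht.1 ht.2.1).mpr ht.2.2).symm⟩
    obtain ⟨x, hx, hxu⟩ := hcases
    obtain ⟨x', hx', ex⟩ : ∃ x' < 693, F.pt x' = g⁻¹ * F.pt x * g := by
      obtain ⟨p1', p2', p3'⟩ := F.pt_mem hx
      have hgi : g⁻¹ * F.a * g = F.a := by
        calc g⁻¹ * F.a * g = g⁻¹ * (g * F.a * g⁻¹) * g := by rw [hga]
          _ = F.a := by group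
      refine F.pt_surj (by simpa using F.three.2.1 g⁻¹ _ p1') (fun h => p2' ?_) ?_
      · exact mul_left_cancel (mul_right_cancel (h.trans hgi.symm))
      · rw [← commute_conj_iff (g := g), hga, show g * (g⁻¹ * F.pt x * g) * g⁻¹ = F.pt x by group]
        exact p3'
    refine F.cover hu hau hx' ?_
    rw [ex, ← commute_conj_iff (g := g), show g * (g⁻¹ * F.pt x * g) * g⁻¹ = F.pt x by group]
    exact hxu
  obtain ⟨w⟩ := F.conn.preconnected ⟨F.a, F.ha⟩ ⟨y, hy⟩
  have : ∀ {u v : D}, (Cfsg.commutingGraph D).Walk u v → (u : G) ∈ X → (v : G) ∈ X := by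
    intro u v p
    induction p with
    | nil => exact id
    | @cons a b c hadj q ih =>
      intro hu
      refine ih (hstep _ hu a.2 _ b.2 ?_)
      rw [Cfsg.commutingGraph, SimpleGraph.fromRel_adj] at hadj
      exact hadj.2.elim id fun h => h.symm
  exact this w (Or.inl rfl)

end Cfsg.Agent.Spor.M22U.Frame
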