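import Cfsg.Agent.Lib.Spor.M22UNorm
import Cfsg.Agent.Lib.Spor.Fi22O7
import Cfsg.Agent.Lib.Spor.Fi22OutPoints

/-!
A group of type M(22) has a subgroup generated by members which is orthogonal in dimension seven over
three elements and holds a Sylow subgroup for the prime three.
-/

set_option autoImplicit false
set_option maxRecDepth 100000

namespace Cfsg.Agent.Spor.M22U.O7Sub

open Cfsg.Agent.Spor.CC Cfsg.Agent.Spor.Fi22Cert Cfsg.Agent.Spor.Fi22Cert.U62Act
open Cfsg.Agent.Spor.Fi22Cert.O7Act (Ksub sub_eq_singles ksub_equiv qf)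

universe u
variable {G : Type u} [Group G] [Finite G] {D : Set G}

theorem exists_o7 (hD : Cfsg.IsThreeTranspositionGroup D) (hprim : Cfsg.IsPrimitiveUnderConj D)
    (ht : Cfsg.IsOfTypeM22 G D) :
    ∃ L : Subgroup G, Cfsg.IsDSubgroup D L ∧
      Nonempty (↥L ≃* Cfsg.POmega (ZMod 3) (Cfsg.quadFormOdd 3 (ZMod 3))) ∧
      ∀ P : Sylow 3 ↥L, ∃ P' : Sylow 3 G, (P : Subgroup ↥L).map L.subtype = (P' : Subgroup G) := by
  obtain ⟨e, he⟩ := Norm.iso_fi22 hD hprim ht
  obtain ⟨f⟩ := ksub_equiv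
  haveI : Fact (Nat.Prime 3) := ⟨Nat.prime_three⟩
  refine ⟨Ksub.map e.toMonoidHom, ?_, ⟨(Subgroup.equivMapOfInjective _ e.toMonoidHom e.injective).symm.trans f⟩,
    fun P => ?_⟩
  · refine le_antisymm ((Subgroup.closure_le _).2 fun d hd => hd.2) ?_
    rintro _ ⟨s, hs, rfl⟩
    have hs' : s ∈ pres.sub [1, 2, 3, 4, 5, 6, 7, 8] := sub_eq_singles ▸ hs
    have hmem : ∀ t ∈ pres.gen '' {x | x ∈ [1, 2, 3, 4, 5, 6, 7, 8]},
        e.toMonoidHom t ∈ {d : G | d ∈ D ∧ d ∈ Ksub.map e.toMonoidHom} := by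
      rintro _ ⟨x, hx, rfl⟩
      have hx' : x < 9 := by
        simp only [Set.mem_setOf_eq, List.mem_cons, List.not_mem_nil, or_false] at hx
        omega
      refine ⟨?_, ⟨pres.gen x, ?_, rfl⟩⟩
      · rw [← he]
        exact ⟨_, Outer.gen_mem_class hx', rfl⟩
      · show pres.gen x ∈ Ksub
        rw [sub_eq_singles]
        exact Subgroup.subset_closure ⟨x, hx, rfl⟩
    have hle : (pres.sub [1, 2, 3, 4, 5, 6, 7, 8]).map e.toMonoidHom ≤
        Subgroup.closure {d : G | d ∈ D ∧ d ∈ Ksub.map e.toMonoidHom} := by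
      rw [Pres.sub, MonoidHom.map_closure]
      exact Subgroup.closure_mono (Set.image_subset_iff.2 hmem)
    exact hle ⟨s, hs', rfl⟩
  · have hidx : ((P : Subgroup ↥(Ksub.map e.toMonoidHom)).map (Ksub.map e.toMonoidHom).subtype).index =
        (P : Subgroup ↥(Ksub.map e.toMonoidHom)).index * 14080 := by
      rw [Subgroup.index_map_subtype]
      congr 1
      exact (Subgroup.index_map_equiv Ksub e).trans index_o7
    have hnd : ¬ 3 ∣ ((P : Subgroup ↥(Ksub.map e.toMonoidHom)).map (Ksub.map e.toMonoidHom).subtype).index := by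
      rw [hidx, Nat.prime_three.dvd_mul]
      rintro (h | h)
      · exact P.not_dvd_index h
      · norm_num at h
    exact ⟨(P.2.map (Ksub.map e.toMonoidHom).subtype).toSylow hnd, (IsPGroup.toSylow_coe _ hnd).symm⟩

end Cfsg.Agent.Spor.M22U.O7Sub
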