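import Cfsg.Agent.Lib.Spor.M22UOutDefs

/-!
Evaluated checks for the outer involutions of Fi22.
-/

set_option autoImplicit false
set_option maxRecDepth 100000
set_option Elab.async false

namespace Cfsg.Agent.Spor.M22U.Outv

open Cfsg.Agent.Spor.CC Cfsg.Agent.Spor.Fi22Cert Cfsg.Agent.Spor.Fi22Cert.U62Act
open Cfsg.Agent.Spor.M22U.Cent
open Cfsg.Agent.Lead.Fi22Two (app appW qW bW pts triv)
open ODat

theorem stepS0 : rangeOK stepS 0 702 = true := by decide +kernel

theorem stepS1 : rangeOK stepS 702 702 = true := by decide +kernel

theorem stepS2 : rangeOK stepS 1404 702 = true := by decide +kernel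

theorem stepS3 : rangeOK stepS 2106 702 = true := by decide +kernel

theorem stepS4 : rangeOK stepS 2808 702 = true := by decide +kernel

theorem scan0_0 : rangeOK scan0 0 1755 = true := by decide +kernel

theorem scan0_1 : rangeOK scan0 1755 1755 = true := by decide +kernel

theorem scan1_0 : rangeOK scan1 0 1755 = true := by decide +kernel

theorem scan1_1 : rangeOK scan1 1755 1755 = true := by decide +kernel

theorem scan2_0 : rangeOK scan2 0 1755 = true := by decide +kernel

theorem scan2_1 : rangeOK scan2 1755 1755 = true := by decide +kernel

theorem gens_ok : (List.range 9).all genOK9 = true := by decide +kernel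

theorem wS_lt : (wS.all fun x => Nat.blt x 9) = true := by decide +kernel

theorem fixed_ok : fixedOK = true := by decide +kernel

theorem orbA_ok : orbOK 0 O8.aPts stepsA O8.aPts = true := by decide +kernel

theorem orbI_ok : orbOK 0 (O8.bPt :: O8.aPts) stepsI fix0 = true := by decide +kernel

theorem close_ok : closeOK = true := by decide +kernel

theorem dom_ok : domOK = true := by decide +kernel

theorem lens_fix : fix0.Nodup ∧ fix1.Nodup ∧ fix2.Nodup ∧ fix0.length = 360 ∧ fix1.length = 64 ∧ fix2.length = 72 ∧ fix1.length = domWit.length := by decide +kernel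

theorem parity_ok : parityOK = true := by decide +kernel

theorem msRel_ok : (List.range 64).all msRelOK = true := by decide +kernel

end Cfsg.Agent.Spor.M22U.Outv
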