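import Cfsg.Agent.Lib.Spor.M22UOutDefs

/-!
Evaluated checks for the outer involutions of Fi22.
-/

set_option autoImplicit false
set_option maxRecDepth 100000
set_option Elab.async false

namespace Cfsg.Agent.Spor.M22U.Outv

open Cfsg.Agent.Spor.CC Cfsg.Agent.Spor.Fi22Cert Cfsg.Agent.Spor.Fi22Cert.U62Act
open Cfsg.Agent.Spor.M22U.Cent
open Cfsg.Agent.Lead.Fi22Two (app appW qW bW pts triv)
open ODat

theorem orbL_ok : orbOK 0 r12 stepsL fix2 = true := by decide +kernel

theorem orb12_ok : (List.range steps12.length).all (fun j =>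
    let e := steps12.getD j (0, 0, 0)
    Nat.blt e.2.2 (j + 12) && memb r12 e.2.1 && Nat.beq (mev e.2.1 ((r12 ++ steps12.map Prod.fst).getD e.2.2 3510)) e.1) = true ∧
    fix2.all (memb (r12 ++ steps12.map Prod.fst)) = true := by decide +kernel

theorem r12_mem : r12.all (memb fix2) = true ∧ r12.length = 12 := by decide +kernel

theorem twinStep_ok : twinStepOK = true := by decide +kernel

theorem twinZero_ok : twinZeroOK = true := by decide +kernel

theorem pairAct_ok : pairActOK = true := by decide +kernel

theorem pairCover_ok : pairCoverOK = true := by decide +kernel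

theorem rootPair_ok : rootPairOK = true := by decide +kernel

theorem rootTwin_ok : rootTwinOK = true := by decide +kernel

theorem stage0 : stageOK 0 = true := by decide +kernel

theorem stage1 : stageOK 1 = true := by decide +kernel

theorem stage2 : stageOK 2 = true := by decide +kernel

theorem stage3 : stageOK 3 = true := by decide +kernel

theorem stage4 : stageOK 4 = true := by decide +kernel

theorem stage5 : stageOK 5 = true := by decide +kernel

theorem flip_ok : flipOK = true := by decide +kernel

theorem uniq_ok : uniqOK dom1 (xy.getD 0 0) [xy.getD 0 0, xy.getD 1 0] = true ∧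
    (List.range 8).all (fun k => uniqOK (xy.getD 0 0 :: dom1) (O8.rt k) [O8.rt k]) = true ∧
    uniqOK dom2 (xy.getD 0 0) [xy.getD 0 0, xy.getD 1 0] = true ∧
    uniqOK (xy.getD 0 0 :: dom2) (xy.getD 2 0) [xy.getD 2 0, xy.getD 3 0] = true ∧
    (List.range 8).all (fun k => uniqOK (xy.getD 2 0 :: xy.getD 0 0 :: dom2) (O8.rt k) [O8.rt k]) = true := by decide +kernel

theorem dom_mem : (List.range 120).all (fun i => (memb fix1 (O8.apt i) == memb dom1 i) && (!(memb dom2 i) || memb fix2 (O8.apt i))) = true ∧
    dom1.all (fun i => Nat.blt i 120) = true ∧ dom2.all (fun i => Nat.blt i 120) = true := by decide +kernel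

theorem xy_ok : xy.all (fun i => Nat.blt i 120) = true ∧
    Nat.beq (ev RepU62.rows 9 [0] (O8.apt (xy.getD 0 0))) (O8.apt (xy.getD 1 0)) = true ∧
    Nat.beq (ev RepU62.rows 9 bW (O8.apt (xy.getD 0 0))) (O8.apt (xy.getD 0 0)) = true ∧
    Nat.beq (ev RepU62.rows 9 bW (O8.apt (xy.getD 2 0))) (O8.apt (xy.getD 3 0)) = true ∧
    memb fix2 (moved.getD 0 0) = true ∧ Nat.beq (ev RepU62.rows 9 [0] (moved.getD 0 0)) (moved.getD 0 0) = false ∧
    memb fix2 (moved.getD 1 0) = true ∧ Nat.beq (ev RepU62.rows 9 bW (moved.getD 1 0)) (moved.getD 1 0) = false ∧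
    memb fix2 (moved.getD 2 0) = true ∧ Nat.beq (ev RepU62.rows 9 [0] (ev RepU62.rows 9 bW (moved.getD 2 0))) (moved.getD 2 0) = false := by
  decide +kernel

theorem sp_ok : spOK = true := by decide +kernel

end Cfsg.Agent.Spor.M22U.Outv
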