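import Cfsg.Agent.Lib.Spor.M22UOutDefs

/-!
Evaluated checks for the outer involutions of Fi22.
-/

set_option autoImplicit false
set_option maxRecDepth 100000
set_option Elab.async false

namespace Cfsg.Agent.Spor.M22U.Outv

open Cfsg.Agent.Spor.CC Cfsg.Agent.Spor.Fi22Cert Cfsg.Agent.Spor.Fi22Cert.U62Act
open Cfsg.Agent.Spor.M22U.Cent
open Cfsg.Agent.Lead.Fi22Two (app appW qW bW pts triv)
open ODat

theorem syl_ok : sylOK = true := by decide +kernel

theorem kinds_ok : (List.range 128).all kindOK = true := by decide +kernel

theorem sylGens_len : sylGens.length = 5 ∧ (List.range 128).all (fun i => (List.range 128).all fun j => Nat.beq i j || !(leq (sylCols.getD i []) (sylCols.getD j []))) = true := by decide +kernel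

theorem conjE0 : (List.range 9).all (conjEOK 0) = true := by decide +kernel

theorem sq0 : sqOK 0 = true := by decide +kernel

theorem reduce0_ok : reduceOK 0 = true := by decide +kernel

theorem nz0 : nzOK 0 = true := by decide +kernel

theorem conjE1 : (List.range 9).all (conjEOK 1) = true := by decide +kernel

theorem sq1 : sqOK 1 = true := by decide +kernel

theorem reduce1_ok : reduceOK 1 = true := by decide +kernel

theorem nz1 : nzOK 1 = true := by decide +kernel

theorem fuse_ok : fuse.all fuseOK = true := by decide +kernel

theorem fuse_cover : fuseCover = true := by decide +kernel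

theorem reflGen_ok : reflGenOK = true := by decide +kernel

theorem unit6_ok : unit6OK = true := by decide +kernel

end Cfsg.Agent.Spor.M22U.Outv
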