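import Cfsg.Agent.Lib.Spor.M22UOutI
import Cfsg.Agent.Lib.Spor.M22UOutChecksC
import Cfsg.Agent.Lib.Spor.M22UFixed
import Cfsg.Agent.Lib.Lead.Fi22Two.Bound

/-!
The outer involutions of Fi22 up to conjugation.
-/

set_option autoImplicit false
set_option maxRecDepth 100000
set_option linter.unusedSectionVars false
set_option maxHeartbeats 1000000

namespace Cfsg.Agent.Spor.M22U.Outv

open Cfsg.Agent.Spor.CC Cfsg.Agent.Spor.Fi22Cert Cfsg.Agent.Spor.Fi22Cert.U62Act
open Cfsg.Agent.Spor.M22U.Cent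
open Cfsg.Agent.Spor.M22U.FixSearch (ptMap ptMap_lt dp_ptMap dp_inj class_map)
open Cfsg.Agent.Lead.Fi22Two (app appW qW bW pts bb zz C2 Qs qm I6 O6 mv mat vec enc pos wm gwd giso gp phi
  mv_mul mv_one mv_ext vec_enc enc_vec enc_lt mem'_iff el_append el_rev el_zero el_z el_b enc_wm zW)
open Cfsg.Agent.Lead.Fi22Two.Aut (cj MA RelA conj_cj cj_inj relA_mul relA_one relA_cj relA_inv relA_unique
  ptMap_mul ptMap_one ptMap_cj)
open ODat
open scoped Pointwise

universe u
variable {G : Type u} [Group G] [Finite G] {D : Set G}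
variable (hD : Cfsg.IsThreeTranspositionGroup D) (hprim : Cfsg.IsPrimitiveUnderConj D)
  (ht : Cfsg.IsOfTypeM22 G D)

theorem conj_outer {ψ : MA} (χ : MA) (h : ψ ∉ Cfsg.Inn pres.Grp) : χ * ψ * χ⁻¹ ∉ Cfsg.Inn pres.Grp := fun h' => by
  have := (Cfsg.innNormal pres.Grp).conj_mem _ h' χ⁻¹
  rw [inv_inv] at this
  exact h (by simpa [mul_assoc] using this)

theorem conj_sq {ψ : MA} (χ : MA) (h : ψ * ψ = 1) : χ * ψ * χ⁻¹ * (χ * ψ * χ⁻¹) = 1 := by
  rw [show χ * ψ * χ⁻¹ * (χ * ψ * χ⁻¹) = χ * (ψ * ψ) * χ⁻¹ by group, h, mul_one, mul_inv_cancel]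

theorem cj_conj_apply (g x : pres.Grp) (ψ : MA) :
    (cj g * ψ * (cj g)⁻¹) x = g * ψ (g⁻¹ * x * g) * g⁻¹ := by
  rw [← map_inv cj]
  show g * ψ (g⁻¹ * x * g⁻¹⁻¹) * g⁻¹ = _
  rw [inv_inv]

include hD hprim ht in
theorem card_C2 : Nat.card ↥C2 ≤ 1024 * 51840 := by
  obtain ⟨e, he⟩ := Norm.iso_fi22 hD hprim ht
  have hat : e tA ∈ D := he ▸ ⟨_, Fischer.tA_mem, rfl⟩
  have hbb : e bb ∈ D := he ▸ ⟨_, (Cent.dp 6).2, rfl⟩
  have h := Lead.Fi22Two.card_cent_le hD hprim ht hat hbb (fun h => Lead.Fi22Two.tA_ne_bb (e.injective h))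
    (Lead.Fi22Two.tA_bb.map e)
  refine le_trans (Nat.card_le_card_of_injective (fun x : ↥C2 => (⟨e x, ?_⟩ :
    ↥(Subgroup.centralizer ({e tA * e bb} : Set G)))) fun x y hxy => Subtype.ext (e.injective (congrArg Subtype.val hxy))) h
  rw [Subgroup.mem_centralizer_singleton_iff, ← map_mul e tA bb, ← map_mul, ← map_mul,
    Subgroup.mem_centralizer_singleton_iff.mp x.2]

include hD hprim ht in
theorem to_pair {ψ : MA} (hsq : ψ * ψ = 1) (hne : ψ ≠ 1) :
    ∃ k : pres.Grp, (cj k * ψ * (cj k)⁻¹) tA = tA ∧ (cj k * ψ * (cj k)⁻¹) bb = bb := by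
  classical
  obtain ⟨e, he⟩ := Norm.iso_fi22 hD hprim ht
  let φ : MulAut G := (e.symm.trans ψ).trans e
  have hφ : orderOf φ = 2 := by
    refine orderOf_eq_prime (MulEquiv.ext fun x => ?_) fun h => hne (MulEquiv.ext fun x => e.injective ?_)
    · show (φ ^ 2) x = x
      rw [pow_two]
      show e (ψ (e.symm (e (ψ (e.symm x))))) = x
      rw [e.symm_apply_apply, show ψ (ψ (e.symm x)) = e.symm x from DFunLike.congr_fun hsq _, e.apply_symm_apply]
    · have := DFunLike.congr_fun h (e x)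
      show e (ψ x) = e x
      simpa [φ] using this
  obtain ⟨d, hd, hfix⟩ := FixSearch.exists_fixed hD hprim ht φ hφ
  rw [← he] at hd
  obtain ⟨u, hu, rfl⟩ := hd
  have hu' : ψ u = u := e.injective (by simpa [φ] using hfix)
  obtain ⟨g, hg⟩ := isConj_iff.mp (show IsConj tA u from hu)
  set ψ1 := cj g⁻¹ * ψ * (cj g⁻¹)⁻¹ with hψ1
  have h1a : ψ1 tA = tA := by
    rw [hψ1, cj_conj_apply, inv_inv, hg, hu', ← hg]; group
  have h1sq : ψ1 * ψ1 = 1 := conj_sq _ hsq
  have himg : ∀ k : Fin 693, ∃ l : Fin 693, Fischer.frame.pt l.val = ψ1 (Fischer.frame.pt k.val) := by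
    intro k
    obtain ⟨m1, m2, m3⟩ := Fischer.frame.pt_mem k.2
    obtain ⟨l, hl, e'⟩ := Fischer.frame.pt_surj (y := ψ1 (Fischer.frame.pt k.val))
      (class_map ψ1 ⟨_, m1⟩) (fun h => m2 (by
        rw [Tuples.frame_a] at h ⊢; exact ψ1.injective (h.trans h1a.symm)))
      (by rw [Tuples.frame_a] at m3 ⊢; rw [← h1a]; exact m3.map ψ1)
    exact ⟨⟨l, hl⟩, e'⟩
  choose f hf using himg
  have hinv : Function.Involutive f := fun k => Fin.ext (Fischer.frame.pt_inj (f (f k)).2 k.2 (by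
    rw [hf, hf, show ψ1 (ψ1 _) = _ from DFunLike.congr_fun h1sq _]; rfl))
  haveI : Fact (Nat.Prime 2) := ⟨Nat.prime_two⟩
  obtain ⟨k, hk⟩ := Equiv.Perm.exists_fixed_point_of_prime (p := 2) (n := 1) (α := Fin 693)
    (by rw [Fintype.card_fin]; norm_num) (σ := hinv.toPerm f)
    (Equiv.ext fun x => by simp [pow_two, hinv x])
  have hk' : ψ1 (Fischer.frame.pt k.val) = Fischer.frame.pt k.val := by
    have := hf k
    rw [show f k = k from hk] at this
    exact this.symm
  obtain ⟨j, hj, hjb⟩ := Fischer.frame.pt_surj (y := bb) (dp 6).2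
    (by rw [Tuples.frame_a]; exact Lead.Fi22Two.tA_ne_bb.symm) (by rw [Tuples.frame_a]; exact Lead.Fi22Two.tA_bb)
  obtain ⟨v, hv, hvk⟩ := Pts.from_first k.2
  obtain ⟨w, hw, hwj⟩ := Pts.from_first hj
  set H := Fischer.frame.hw w * (Fischer.frame.hw v)⁻¹ with hH
  have hHa : H * tA * H⁻¹ = tA := by
    have c1 := Fischer.frame.hw_comm_a hw
    have c2 := Fischer.frame.hw_comm_a hv
    rw [Tuples.frame_a] at c1 c2
    exact mul_inv_eq_iff_eq_mul.mpr (c1.mul_right c2.inv_right).symm.eq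
  have hHb : H * Fischer.frame.pt k.val * H⁻¹ = bb := by
    have e1 := Fischer.frame.hw_conj hv Tuples.p0_lt
    have e2 := Fischer.frame.hw_conj hw Tuples.p0_lt
    change _ = Fischer.frame.pt (pev v (gpt 0)) at e1
    change _ = Fischer.frame.pt (pev w (gpt 0)) at e2
    rw [hvk] at e1
    rw [hwj, hjb] at e2
    rw [← e2, ← e1, hH]; group
  refine ⟨H * g⁻¹, ?_⟩
  have key : ∀ x : pres.Grp, ψ1 x = x →
      (cj (H * g⁻¹) * ψ * (cj (H * g⁻¹))⁻¹) (H * x * H⁻¹) = H * x * H⁻¹ := by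
    intro x hx
    have e' : cj (H * g⁻¹) * ψ * (cj (H * g⁻¹))⁻¹ = cj H * ψ1 * (cj H)⁻¹ := by
      rw [map_mul, mul_inv_rev, hψ1]; group
    rw [e', cj_conj_apply, show H⁻¹ * (H * x * H⁻¹) * H = x by group, hx]
  exact ⟨by simpa [hHa] using key tA h1a, by simpa [hHb] using key _ hk'⟩

theorem qs_tA {x : pres.Grp} (hx : x ∈ Qs) : Commute tA x := by
  obtain ⟨⟨s, y⟩, rfl⟩ := hx
  exact ((Commute.refl tA).pow_right _).mul_right (Lead.Fi22Two.comm_tA y.2)

/-! ### matrices -/

/-- the columns of an isometry -/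
noncomputable def cls (M : O6) : List ℕ := (List.range 6).map fun k => enc (mv M (vec (2 ^ k)))

theorem code_facts6 : (∀ c < 64, (List.range 6).foldl (fun r k => bif Nat.testBit c k then Nat.xor r (2 ^ k) else r) 0 = c) ∧
    (∀ u v : I6 → ZMod 2, enc (u + v) = Nat.xor (enc u) (enc v)) ∧ enc 0 = 0 := by
  decide +kernel

theorem vec_xor6 (a b : ℕ) : vec (Nat.xor a b) = vec a + vec b := by
  funext i
  show (bif Nat.testBit (a ^^^ b) (pos i) then (1 : ZMod 2) else 0) = _
  rw [Nat.testBit_xor]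
  show _ = (bif Nat.testBit a (pos i) then (1 : ZMod 2) else 0) + bif Nat.testBit b (pos i) then (1 : ZMod 2) else 0
  cases Nat.testBit a (pos i) <;> cases Nat.testBit b (pos i) <;> decide

theorem mv_add (M : O6) (u v : I6 → ZMod 2) : mv M (u + v) = mv M u + mv M v := Matrix.mulVec_add _ _ _

theorem app_cls (M : O6) {c : ℕ} (hc : c < 64) : app (cls M) c = enc (mv M (vec c)) := by
  have key : ∀ l : List ℕ, (∀ k ∈ l, k < 6) → ∀ s : ℕ,
      l.foldl (fun r k => bif Nat.testBit c k then Nat.xor r ((cls M).getD k 0) else r) (enc (mv M (vec s))) =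
        enc (mv M (vec (l.foldl (fun r k => bif Nat.testBit c k then Nat.xor r (2 ^ k) else r) s))) := by
    intro l
    induction l with
    | nil => intro _ s; rfl
    | cons k l ih =>
      intro hl s
      have hk := hl k (List.mem_cons_self ..)
      rw [List.foldl_cons, List.foldl_cons]
      cases Nat.testBit c k
      · exact ih (fun a ha => hl a (List.mem_cons_of_mem _ ha)) s
      · rw [cond_true, cond_true, show (cls M).getD k 0 = enc (mv M (vec (2 ^ k))) by simp [cls, hk],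
          ← code_facts6.2.1, ← mv_add, ← vec_xor6]
        exact ih (fun a ha => hl a (List.mem_cons_of_mem _ ha)) _
  have h0 : enc (mv M (vec 0)) = 0 := by
    have : vec 0 = 0 := by funext i; simp [vec]
    rw [this, show mv M 0 = 0 from Matrix.mulVec_zero _]; exact code_facts6.2.2
  have := key (List.range 6) (fun k hk => List.mem_range.mp hk) 0
  rw [h0, code_facts6.1 c hc] at this
  exact this

theorem cls_mul (M N : O6) : cls (M * N) = mulC (cls M) (cls N) := by
  simp only [mulC, cls, List.map_map]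
  refine List.map_congr_left fun k _ => ?_
  rw [Function.comp_apply, mv_mul]
  exact ((app_cls M (enc_lt _)).trans (by rw [vec_enc])).symm

theorem single_code : ∀ i : I6, (Pi.single i 1 : I6 → ZMod 2) = vec (2 ^ pos i) ∧ pos i < 6 := by decide +kernel

theorem cls_inj {M N : O6} (h : cls M = cls N) : M = N := by
  refine Subtype.ext (Units.ext (Matrix.ext_of_mulVec_single fun i => ?_))
  show mv M _ = mv N _
  rw [(single_code i).1, ← vec_enc (mv M _), ← vec_enc (mv N _)]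
  have hk := (single_code i).2
  have := congrArg (fun l => l.getD (pos i) 0) h
  simp only [cls, List.getD_eq_getElem?_getD, List.getElem?_map, List.getElem?_range hk, Option.map_some,
    Option.getD_some] at this
  rw [this]

theorem code_vec2 : ∀ k < 6, 2 ^ k < 64 ∧ enc (vec (2 ^ k)) = 2 ^ k := by decide +kernel

theorem cls_wm {w : List ℕ} (hw : ∀ k ∈ w, k < 16) : cls (wm w) = wordC w := by
  refine List.map_congr_left fun k hk => ?_
  rw [enc_wm hw, (code_vec2 k (List.mem_range.mp hk)).2]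

theorem cls_one : cls 1 = oneC := by
  rw [show (1 : O6) = wm [] from rfl, cls_wm (by simp)]
  decide +kernel

theorem ms_mat : mat msCols * mat msCols = 1 ∧ ∀ v : I6 → ZMod 2, qm ((mat msCols).mulVec v) = qm v ∧
    enc ((mat msCols).mulVec v) = app msCols (enc v) := by decide +kernel

/-- the isometry of the outer involution -/
noncomputable def Ms : O6 :=
  ⟨⟨mat msCols, mat msCols, ms_mat.1, ms_mat.1⟩, fun v _ => (ms_mat.2 v).1⟩

theorem cls_Ms : cls Ms = msCols := by
  have : ∀ k < 6, app msCols (2 ^ k) = msCols.getD k 0 := by decide +kernel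
  rw [show msCols = (List.range 6).map fun k => msCols.getD k 0 by decide +kernel]
  refine List.map_congr_left fun k hk => ?_
  have hk' := List.mem_range.mp hk
  show enc ((mat msCols).mulVec (vec (2 ^ k))) = _
  rw [(ms_mat.2 _).2, (code_vec2 k hk').2, this k hk']

theorem relA_SS : RelA SS Ms := fun v p hp => by
  have h := List.all_eq_true.mp msRel_ok (enc v) (List.mem_range.mpr (enc_lt v))
  simp only [msRelOK, List.all_eq_true] at h
  rw [ptMap_SS (Lead.Fi22Two.pts_spec (enc_lt v) hp).1, show enc (mv Ms v) = app msCols (enc v) from (ms_mat.2 v).2]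
  exact mem'_iff.mp (h p hp)

theorem Ms_sq : Ms * Ms = 1 := relA_unique (by rw [← SS_sq]; exact relA_mul relA_SS relA_SS)

theorem relA_det {ψ : MA} {M N : O6} (h : RelA ψ M) (h' : RelA ψ N) : M = N := by
  have := relA_unique (M := N⁻¹ * M) (by rw [← inv_mul_cancel ψ]; exact relA_mul (relA_inv h') h)
  exact (inv_mul_eq_one.mp this).symm

/-! ### words of the centralizer -/

/-- value of an inner word -/
noncomputable def kel (w : List ℕ) : pres.Grp := el (w.flatMap gwd)

theorem kel_R : ∀ {w : List ℕ}, (∀ k ∈ w, k < 16) → (kel w, wm w) ∈ Lead.Fi22Two.R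
  | [], _ => by
    rw [show kel [] = 1 from by simp [kel, el], show wm [] = 1 from rfl]
    exact one_mem _
  | k :: w, hw => by
    have hk := hw k (List.mem_cons_self ..)
    rw [show kel (k :: w) = el (gwd k) * kel w by rw [kel, List.flatMap_cons, el_append]; rfl,
      show wm (k :: w) = giso ⟨k, hk⟩ * wm w by simp [Lead.Fi22Two.wm, hk]]
    exact Lead.Fi22Two.R.mul_mem (Subgroup.subset_closure ⟨⟨k, hk⟩, rfl⟩)
      (kel_R fun a ha => hw a (List.mem_cons_of_mem _ ha))

theorem kel_C2 {w : List ℕ} (hw : ∀ k ∈ w, k < 16) : kel w ∈ C2 := (Lead.Fi22Two.R_spec (kel_R hw)).1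

include hD hprim ht in
theorem phi_kel {w : List ℕ} (hw : ∀ k ∈ w, k < 16) :
    phi (card_C2 hD hprim ht) ⟨kel w, kel_C2 hw⟩ = wm w := by
  set hC := card_C2 hD hprim ht
  have h1 := Lead.Fi22Two.rel_phi hC ⟨kel w, kel_C2 hw⟩
  have h2 := (Lead.Fi22Two.R_spec (kel_R hw)).2
  have := Lead.Fi22Two.rel_unique (M := (wm w)⁻¹ * phi hC ⟨kel w, kel_C2 hw⟩) (by
    rw [← inv_mul_cancel (kel w)]; exact Lead.Fi22Two.rel_mul (Lead.Fi22Two.rel_inv h2) h1)
  exact (inv_mul_eq_one.mp this).symm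

theorem kel_parity : ∀ {w : List ℕ}, (∀ k ∈ w, k < 16) →
    act (kel w) 0 = imgZero w ∧ act (kel w) 6 = (bif Nat.beq (imgZero w) 6 then 0 else 6)
  | [], _ => by
    rw [show kel [] = 1 from by simp [kel, el], act_one (by norm_num), act_one (by norm_num)]
    exact ⟨rfl, rfl⟩
  | k :: w, hw => by
    have hk := hw k (List.mem_cons_self ..)
    obtain ⟨i1, i2⟩ := kel_parity fun a ha => hw a (List.mem_cons_of_mem _ ha)
    have hgw := (Lead.Fi22Two.gen_spec ⟨k, hk⟩).1
    have h := List.all_eq_true.mp parity_ok k (List.mem_range.mpr hk)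
    rw [Bool.and_eq_true] at h
    have e1 : act (el (gwd k)) 0 = imgZero [k] := by
      rw [act_el hgw (by norm_num)]; exact Nat.eq_of_beq_eq_true h.1
    have e2 : act (el (gwd k)) 6 = bif Nat.beq (imgZero [k]) 6 then 0 else 6 := by
      rw [act_el hgw (by norm_num)]; exact Nat.eq_of_beq_eq_true h.2
    rw [show kel (k :: w) = el (gwd k) * kel w by rw [kel, List.flatMap_cons, el_append]; rfl,
      act_mul _ _ (by norm_num), act_mul _ _ (by norm_num), i1, i2]
    have hp : ∀ n, imgZero w = n → n = 0 ∨ n = 6 := by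
      rintro n rfl
      rw [imgZero]; cases (w.countP (fun k => Nat.beq k 0) % 2 == 1)
      exacts [Or.inl rfl, Or.inr rfl]
    rcases Nat.mod_two_eq_zero_or_one (w.countP fun k => Nat.beq k 0) with hc | hc <;>
      cases hb : Nat.beq k 0 <;>
      simp [imgZero, List.countP_cons, hb, hc, e1, e2, Nat.add_mod, show Nat.beq 0 6 = false from rfl,
        show Nat.beq 6 6 = true from rfl]

theorem kel_fix {w : List ℕ} (hw : ∀ k ∈ w, k < 16) {ψ : MA} (ha : ψ tA = tA) (hb : ψ bb = bb) :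
    (cj (kel w) * ψ * (cj (kel w))⁻¹) tA = tA ∧ (cj (kel w) * ψ * (cj (kel w))⁻¹) bb = bb := by
  have h0 : (0 : ℕ) < 3510 := by norm_num
  have h6 : (6 : ℕ) < 3510 := by norm_num
  obtain ⟨i1, i2⟩ := kel_parity hw
  have e : ∀ {p q : ℕ}, p < 3510 → ψ (dp p : pres.Grp) = dp p → act (kel w) p = q →
      (cj (kel w) * ψ * (cj (kel w))⁻¹) (dp q : pres.Grp) = dp q := by
    intro p q hp hψ hpq
    rw [cj_conj_apply, ← hpq, act_dp pts_ok _ hp,
      show (kel w)⁻¹ * (kel w * (dp p : pres.Grp) * (kel w)⁻¹) * kel w = dp p by group, hψ]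
  rw [← Lead.Fi22Two.dp_zero] at ha ⊢
  cases hb' : Nat.beq (imgZero w) 6
  · rw [hb', cond_false] at i2
    have : imgZero w = 0 := by
      rcases Nat.mod_two_eq_zero_or_one (w.countP fun k => Nat.beq k 0) with hc | hc
      · simp [imgZero, hc]
      · simp [imgZero, hc] at hb'
    rw [this] at i1
    exact ⟨e h0 ha i1, e h6 hb i2⟩
  · rw [hb', cond_true] at i2
    rw [Nat.eq_of_beq_eq_true hb'] at i1
    exact ⟨e h6 hb i2, e h0 ha i1⟩

/-! ### the Sylow subgroup of the isometries -/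

/-- a Sylow two-subgroup of the isometries -/
noncomputable def PS : Subgroup O6 := Subgroup.closure (Set.range fun j : Fin 5 => wm (sylGens.getD j.val []))

theorem syl_parent : (List.range 128).all (fun i => Nat.beq i 0 || (List.range 5).any fun j =>
    (List.range i).any fun l => leq (mulC (wordC (sylGens.getD j [])) (sylCols.getD l [])) (sylCols.getD i [])) = true := by
  decide +kernel

theorem syl_facts : (∀ i < 128, (∀ k ∈ sylWords.getD i [], k < 16) ∧ wordC (sylWords.getD i []) = sylCols.getD i []) ∧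
    (∀ j < 5, (∀ k ∈ sylGens.getD j [], k < 16)) ∧ sylCols.getD 0 [] = oneC ∧
    (∀ j < 5, ∀ i < 128, ∃ l < 128, mulC (wordC (sylGens.getD j [])) (sylCols.getD i []) = sylCols.getD l []) := by
  have h := syl_ok
  simp only [sylOK, Bool.and_eq_true, List.all_eq_true, List.any_eq_true, List.mem_range] at h
  obtain ⟨⟨⟨-, -⟩, h0⟩, hi⟩ := h
  refine ⟨fun i hi' => ⟨fun k hk => Nat.le_of_ble_eq_true ((hi i hi').1.1 k hk), leq_iff.mp (hi i hi').1.2⟩,
    fun j hj k hk => Nat.le_of_ble_eq_true (((hi 0 (by norm_num)).2 j hj).1 k hk), leq_iff.mp h0, fun j hj i hi' => ?_⟩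
  obtain ⟨l, hl, e⟩ := ((hi i hi').2 j hj).2
  exact ⟨l, hl, leq_iff.mp e⟩

theorem PS_list : ∀ M ∈ PS, ∃ i < 128, cls M = sylCols.getD i [] := by
  intro M hM
  refine Subgroup.closure_induction_left ?_ ?_ ?_ hM
  · exact ⟨0, by norm_num, by rw [cls_one, syl_facts.2.2.1]⟩
  · rintro _ ⟨j, rfl⟩ y _ ⟨i, hi, e⟩
    obtain ⟨l, hl, el'⟩ := syl_facts.2.2.2 j.val j.2 i hi
    exact ⟨l, hl, by rw [cls_mul, cls_wm (syl_facts.2.1 j.val j.2), e, el']⟩
  · rintro _ ⟨j, rfl⟩ y _ ⟨i, hi, e⟩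
    obtain ⟨l, hl, el'⟩ := syl_facts.2.2.2 j.val j.2 i hi
    refine ⟨l, hl, ?_⟩
    have hsq : ∀ j < 5, mulC (wordC (sylGens.getD j [])) (wordC (sylGens.getD j [])) = oneC := by decide +kernel
    have hinv : (wm (sylGens.getD j.val []))⁻¹ = wm (sylGens.getD j.val []) :=
      inv_eq_of_mul_eq_one_right (cls_inj (by
        rw [cls_mul, cls_wm (syl_facts.2.1 j.val j.2), hsq j.val j.2, cls_one]))
    rw [hinv, cls_mul, cls_wm (syl_facts.2.1 j.val j.2), e, el']

theorem syl_elem {i : ℕ} (hi : i < 128) : cls (wm (sylWords.getD i [])) = sylCols.getD i [] := by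
  rw [cls_wm (syl_facts.1 i hi).1, (syl_facts.1 i hi).2]

theorem syl_inPS : ∀ i < 128, ∃ M ∈ PS, cls M = sylCols.getD i [] := by
  intro i
  induction i using Nat.strong_induction_on with
  | _ i ih =>
    intro hi
    have h := List.all_eq_true.mp syl_parent i (List.mem_range.mpr hi)
    simp only [Bool.or_eq_true, List.any_eq_true, List.mem_range] at h
    rcases h with h | ⟨j, hj, l, hl, h⟩
    · exact ⟨1, one_mem _, by rw [cls_one, Nat.eq_of_beq_eq_true h, syl_facts.2.2.1]⟩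
    · obtain ⟨M, hM, e⟩ := ih l hl (by omega)
      refine ⟨wm (sylGens.getD j []) * M, mul_mem (Subgroup.subset_closure ⟨⟨j, hj⟩, rfl⟩) hM, ?_⟩
      rw [cls_mul, cls_wm (syl_facts.2.1 j hj), e, leq_iff.mp h]

theorem card_PS : Nat.card ↥PS = 128 := by
  have h1 : ∀ i : Fin 128, ∃ M : ↥PS, cls M.1 = sylCols.getD i.val [] := fun i => by
    obtain ⟨M, hM, e⟩ := syl_inPS i.val i.2
    exact ⟨⟨M, hM⟩, e⟩
  choose F hF using h1
  have hF' : Function.Bijective F := by
    refine ⟨fun i j h => ?_, fun M => ?_⟩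
    · have e : sylCols.getD i.val [] = sylCols.getD j.val [] := by rw [← hF, h, hF]
      have := List.all_eq_true.mp (List.all_eq_true.mp sylGens_len.2 i.val (List.mem_range.mpr i.2)) j.val
        (List.mem_range.mpr j.2)
      rw [leq_iff.mpr e, Bool.not_true, Bool.or_false] at this
      exact Fin.ext (Nat.eq_of_beq_eq_true this)
    · obtain ⟨i, hi, e⟩ := PS_list M.1 M.2
      exact ⟨⟨i, hi⟩, Subtype.ext (cls_inj ((hF _).trans e.symm))⟩
  rw [← Nat.card_congr (Equiv.ofBijective F hF'), Nat.card_eq_fintype_card, Fintype.card_fin]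

theorem conj_PS {T : O6} (hT : T * T = 1) : ∃ N : O6, N * T * N⁻¹ ∈ PS := by
  haveI : Fact (Nat.Prime 2) := ⟨Nat.prime_two⟩
  haveI : Finite O6 := Nat.finite_of_card_ne_zero (by rw [Lead.Fi22Two.card_O]; norm_num)
  have hf : (51840 : ℕ).factorization 2 = 7 := by
    rw [show (51840 : ℕ) = 2 ^ 7 * 405 by norm_num, Nat.factorization_mul (by norm_num) (by norm_num),
      Finsupp.add_apply, Nat.Prime.factorization_self (Nat.prime_two) |> fun h => (by
        rw [Nat.factorization_pow, Finsupp.smul_apply, h]; rfl : ((2 : ℕ) ^ 7).factorization 2 = 7),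
      Nat.factorization_eq_zero_of_not_dvd (by norm_num)]
  let P : Sylow 2 O6 := Sylow.ofCard PS (by rw [card_PS, Lead.Fi22Two.card_O, hf]; norm_num)
  have hp : IsPGroup 2 ↥(Subgroup.zpowers T) := by
    rintro ⟨x, hx⟩
    obtain ⟨n, rfl⟩ := Subgroup.mem_zpowers_iff.mp hx
    refine ⟨1, Subtype.ext ?_⟩
    show (T ^ n) ^ (2 ^ 1) = 1
    rw [pow_one, ← zpow_natCast, ← zpow_mul, mul_comm, zpow_mul]
    rw [Nat.cast_ofNat, zpow_two, hT, one_zpow]
  obtain ⟨Q, hQ⟩ := hp.exists_le_sylow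
  obtain ⟨N, hN⟩ := MulAction.exists_smul_eq O6 Q P
  refine ⟨N, ?_⟩
  have hmem : T ∈ (Q : Subgroup O6) := hQ (Subgroup.mem_zpowers T)
  have h2 : MulAut.conj N • (Q : Subgroup O6) = PS := congrArg (fun S : Sylow 2 O6 => (S : Subgroup O6)) hN
  rw [← h2]
  exact Subgroup.smul_mem_pointwise_smul _ _ _ hmem

theorem rep_facts : (∀ n < 2, (∀ k ∈ repK.getD n [], k < 16)) ∧
    (∀ n < 2, mulC msCols (wordC (repK.getD n [])) = repCols.getD n []) := by decide +kernel

include hD hprim ht in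
/-- first reduction: the isometry is one of two representatives -/
theorem to_rep {ψ : MA} (hout : ψ ∉ Cfsg.Inn pres.Grp) (hsq : ψ * ψ = 1) (ha : ψ tA = tA) (hb : ψ bb = bb) :
    ∃ χ : MA, ∃ n < 2, ∃ q ∈ Qs, χ * ψ * χ⁻¹ = SS * cj (el (kelW n) * q) := by
  set hC := card_C2 hD hprim ht
  have h0 : (0 : ℕ) < 3510 := by norm_num
  have hSa : SS tA = tA := by
    rw [← Lead.Fi22Two.dp_zero, ← mem_fixG, fixG_pt h0, fix0_iff h0]; decide +kernel
  have hSb : SS bb = bb := by
    show SS (dp 6 : pres.Grp) = dp 6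
    rw [← mem_fixG, fixG_pt (by norm_num), fix0_iff (by norm_num)]; decide +kernel
  have form : ∀ {χ : MA}, χ ∉ Cfsg.Inn pres.Grp → χ tA = tA → χ bb = bb →
      ∃ g : ↥C2, χ = SS * cj (g : pres.Grp) ∧ Commute (g : pres.Grp) tA ∧ RelA χ (Ms * phi hC g) := by
    intro χ hχ hχa hχb
    obtain ⟨g, rfl⟩ := outer_form hχ
    have ea : g * tA * g⁻¹ = tA := by
      have h := congrArg SS (show SS (g * tA * g⁻¹) = tA from hχa)
      rwa [SS_SS, hSa] at h
    have eb : g * bb * g⁻¹ = bb := by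
      have h := congrArg SS (show SS (g * bb * g⁻¹) = bb from hχb)
      rwa [SS_SS, hSb] at h
    have c1 : Commute g tA := mul_inv_eq_iff_eq_mul.mp ea
    have c2 : Commute g bb := mul_inv_eq_iff_eq_mul.mp eb
    have hg : g ∈ C2 := Subgroup.mem_centralizer_singleton_iff.mpr (c1.mul_right c2).eq
    exact ⟨⟨g, hg⟩, rfl, c1, relA_mul relA_SS (relA_cj (Lead.Fi22Two.rel_phi hC ⟨g, hg⟩))⟩
  obtain ⟨g, -, -, hrel⟩ := form hout ha hb
  have hT : Ms * phi hC g * (Ms * phi hC g) = 1 := relA_unique (by rw [← hsq]; exact relA_mul hrel hrel)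
  obtain ⟨N, hN⟩ := conj_PS hT
  obtain ⟨w, hw, rfl⟩ : ∃ w : List ℕ, (∀ k ∈ w, k < 16) ∧ wm w = N := by
    haveI : Finite O6 := Nat.finite_of_card_ne_zero (by rw [Lead.Fi22Two.card_O]; norm_num)
    have hN' : N ∈ Submonoid.closure (Set.range giso) := by
      have hs : N ∈ Subgroup.closure (Set.range giso) := by
        have h := Lead.Fi22Two.snd_top.symm ▸ Subgroup.mem_top N
        rw [Lead.Fi22Two.R, MonoidHom.map_closure, ← Set.range_comp] at h
        exact h
      rwa [← Subgroup.mem_toSubmonoid, Subgroup.closure_toSubmonoid_of_finite] at hs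
    refine Submonoid.closure_induction_left ?_ ?_ hN'
    · exact ⟨[], by simp, rfl⟩
    · rintro _ ⟨k, rfl⟩ y _ ⟨w, hw, rfl⟩
      refine ⟨k.val :: w, fun a ha => ?_, by simp [Lead.Fi22Two.wm, k.2]⟩
      rcases List.mem_cons.mp ha with rfl | ha
      exacts [k.2, hw a ha]
  set ψ1 := cj (kel w) * ψ * (cj (kel w))⁻¹ with hψ1
  have o1 : ψ1 ∉ Cfsg.Inn pres.Grp := conj_outer _ hout
  obtain ⟨ha1, hb1⟩ := kel_fix hw ha hb
  obtain ⟨g1, hg1, c1, hrel1⟩ := form o1 ha1 hb1
  have hwR := (Lead.Fi22Two.R_spec (kel_R hw)).2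
  set T := Ms * phi hC g1
  have hTT : T = wm w * (Ms * phi hC g) * (wm w)⁻¹ :=
    relA_det hrel1 (relA_mul (relA_mul (relA_cj hwR) hrel) (relA_inv (relA_cj hwR)))
  obtain ⟨i, hi, hiT⟩ := PS_list T (hTT ▸ hN)
  have hTsq : T * T = 1 := relA_unique (by
    rw [show (1 : MA) = ψ1 * ψ1 from (conj_sq _ hsq).symm]; exact relA_mul hrel1 hrel1)
  have hkind := List.all_eq_true.mp kinds_ok i (List.mem_range.mpr hi)
  simp only [kindOK, Bool.and_eq_true, List.all_eq_true] at hkind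
  obtain ⟨hv, hk⟩ := hkind
  set e := sylKind.getD i (4, [])
  have hv' : ∀ k ∈ e.2, k < 16 := fun k hk => Nat.le_of_ble_eq_true (hv k hk)
  have rep : ∀ n < 2, leq (mulC (wordC e.2) (sylCols.getD i [])) (mulC (repCols.getD n []) (wordC e.2)) = true →
      ∃ χ : MA, ∃ m < 2, ∃ q ∈ Qs, χ * ψ * χ⁻¹ = SS * cj (el (kelW m) * q) := by
    intro n hn hle
    set ψ2 := cj (kel e.2) * ψ1 * (cj (kel e.2))⁻¹ with hψ2
    obtain ⟨ha2, hb2⟩ := kel_fix hv' ha1 hb1
    obtain ⟨g2, hg2, -, hrel2⟩ := form (conj_outer _ o1) ha2 hb2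
    have hvR := (Lead.Fi22Two.R_spec (kel_R hv')).2
    have hK := rep_facts.1 n hn
    have e1 : wm e.2 * T = Ms * wm (repK.getD n []) * wm e.2 := cls_inj (by
      have hA := cls_mul (wm e.2) T
      rw [hiT, cls_wm hv', leq_iff.mp hle] at hA
      rw [hA, cls_mul, cls_mul, cls_wm hv', cls_wm hK, cls_Ms, rep_facts.2 n hn])
    have e2 : Ms * phi hC g2 = Ms * wm (repK.getD n []) := by
      rw [relA_det hrel2 (relA_mul (relA_mul (relA_cj hvR) hrel1) (relA_inv (relA_cj hvR))), e1,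
        mul_inv_cancel_right]
    have hker : (⟨kel (repK.getD n []), kel_C2 hK⟩ : ↥C2)⁻¹ * g2 ∈ (phi hC).ker := by
      rw [MonoidHom.mem_ker, map_mul, map_inv, phi_kel hD hprim ht hK, mul_left_cancel e2, inv_mul_cancel]
    rw [Lead.Fi22Two.ker_phi, Subgroup.mem_subgroupOf] at hker
    refine ⟨cj (kel e.2) * cj (kel w), n, hn, _, hker, ?_⟩
    calc cj (kel e.2) * cj (kel w) * ψ * (cj (kel e.2) * cj (kel w))⁻¹ = ψ2 := by
          rw [hψ2, hψ1]; group
      _ = SS * cj (g2 : pres.Grp) := hg2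
      _ = _ := by
          congr 2
          show (g2 : pres.Grp) = kel (repK.getD n []) * ((kel (repK.getD n []))⁻¹ * (g2 : pres.Grp))
          rw [mul_inv_cancel_left]
  have hmm : mulC (sylCols.getD i []) (sylCols.getD i []) = oneC := by
    rw [← hiT, ← cls_mul, hTsq, cls_one]
  rcases e1 : e.1 with _ | _ | _ | _ | k <;> rw [e1] at hk
  · simp only [Bool.not_eq_true'] at hk
    rw [leq_iff.mpr hmm] at hk; exact Bool.noConfusion hk
  · exfalso
    simp only [Bool.and_eq_true] at hk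
    have e2 : wm e.2 = phi hC g1 := by
      refine cls_inj ?_
      rw [cls_wm hv', leq_iff.mp hk.1, ← hiT, ← cls_Ms, ← cls_mul]
      congr 1
      rw [show T = Ms * phi hC g1 from rfl, ← mul_assoc, Ms_sq, one_mul]
    have hker : (⟨kel e.2, kel_C2 hv'⟩ : ↥C2)⁻¹ * g1 ∈ (phi hC).ker := by
      rw [MonoidHom.mem_ker, map_mul, map_inv, phi_kel hD hprim ht hv', e2, inv_mul_cancel]
    rw [Lead.Fi22Two.ker_phi, Subgroup.mem_subgroupOf] at hker
    have hq : Commute tA ((kel e.2)⁻¹ * (g1 : pres.Grp)) := qs_tA hker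
    have hc : Commute (kel e.2) tA := by
      have h := c1.mul_left hq.symm.inv_left
      rwa [show (g1 : pres.Grp) * ((kel e.2)⁻¹ * (g1 : pres.Grp))⁻¹ = kel e.2 by group] at h
    have h := (kel_parity hv').1
    rw [Nat.eq_of_beq_eq_true hk.2, (Frob.commute_dp_iff _ h0).mp (by rw [Lead.Fi22Two.dp_zero]; exact hc)] at h
    exact absurd h (by norm_num)
  · exact rep 0 (by norm_num) hk
  · exact rep 1 (by norm_num) hk
  · exact absurd hk (by simp)

end Cfsg.Agent.Spor.M22U.Outv
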