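import Cfsg.Agent.Lib.Spor.M22UOutData
import Cfsg.Agent.Lib.Spor.M22UO8Defs
import Cfsg.Agent.Lib.Lead.Fi22Two.AutDefs

/-!
Check functions for the outer involutions of Fi22.
-/

set_option autoImplicit false
set_option maxRecDepth 100000

namespace Cfsg.Agent.Spor.M22U.Outv

open Cfsg.Agent.Spor.CC Cfsg.Agent.Spor.Fi22Cert Cfsg.Agent.Spor.Fi22Cert.U62Act
open Cfsg.Agent.Spor.M22U.Cent
open Cfsg.Agent.Lead.Fi22Two (app appW qW bW pts mem' triv)
open ODat

/-- membership -/
noncomputable def memb (l : List ℕ) (p : ℕ) : Bool := l.any fun a => Nat.beq a p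

/-- equality of two lists of numbers -/
noncomputable def leq : List ℕ → List ℕ → Bool
  | [], [] => true
  | a :: r, b :: t => Nat.beq a b && leq r t
  | _, _ => false

/-- image of a point under the automorphism -/
def sT (p : ℕ) : ℕ := fld sTab 12 p

/-- point of a generator -/
def gpt9 (x : ℕ) : ℕ := genPts.getD x 3510

/-- image point of a generator -/
def ipt9 (x : ℕ) : ℕ := imgPts.getD x 3510

/-- the member of a point, as a word -/
noncomputable def mwd (p : ℕ) : List ℕ := Fischer.tw' (pwP p)

/-- action of a member -/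
noncomputable def mev (p q : ℕ) : ℕ := ev RepU62.rows 9 (mwd p) q

/-- action of a product of members -/
noncomputable def lev : List ℕ → ℕ → ℕ
  | [], q => q
  | m :: r, q => mev m (lev r q)

/-- the generators are the members of their points -/
noncomputable def genOK9 (x : ℕ) : Bool :=
  Nat.blt (gpt9 x) 3510 && triv (mwd (gpt9 x) ++ [x]) &&
    Nat.beq (ev RepU62.rows 9 wS (gpt9 (Fi22Cert.Outer.sw x))) (ipt9 x) && Nat.beq (sT (gpt9 x)) (ipt9 x) &&
    Nat.beq (sT (sT (gpt9 x))) (gpt9 x)

/-- the table of the automorphism follows the words of the points -/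
noncomputable def stepS (p : ℕ) : Bool :=
  let x := par p % 16
  let q := par p / 16
  Nat.blt (sT p) 3510 && (Nat.beq p 0 || (Nat.blt x 9 && Nat.blt q 3510 &&
    Nat.blt (fld rankTab 12 q) (fld rankTab 12 p) && Nat.beq (ev RepU62.rows 9 [x] q) p &&
    Nat.beq (mev (ipt9 x) (sT q)) (sT p)))

/-- the members fixed by the automorphism -/
noncomputable def scan0 (p : ℕ) : Bool := !(Nat.beq (sT p) p) || memb fix0 p

/-- the members fixed by the first twist -/
noncomputable def scan1 (p : ℕ) : Bool := !(Nat.beq (sT (ev RepU62.rows 9 [0] p)) p) || memb fix1 p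

/-- the members fixed by the second twist -/
noncomputable def scan2 (p : ℕ) : Bool :=
  !(Nat.beq (sT (ev RepU62.rows 9 [0] (ev RepU62.rows 9 bW p))) p) || memb fix2 p

/-- converse of the scans -/
noncomputable def fixedOK : Bool :=
  fix0.all (fun p => Nat.blt p 3510 && Nat.beq (sT p) p) &&
    fix1.all (fun p => Nat.blt p 3510 && Nat.beq (sT (ev RepU62.rows 9 [0] p)) p) &&
    fix2.all (fun p => Nat.blt p 3510 && Nat.beq (sT (ev RepU62.rows 9 [0] (ev RepU62.rows 9 bW p))) p)

/-- the point of a step -/
def spt (root : ℕ) (l : List (ℕ × ℕ × ℕ)) (i : ℕ) : ℕ := (root :: l.map Prod.fst).getD i 3510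

/-- a step of an orbit -/
noncomputable def stepOK (root : ℕ) (ms : List ℕ) (l : List (ℕ × ℕ × ℕ)) (j : ℕ) : Bool :=
  let e := l.getD j (0, 0, 0)
  Nat.ble e.2.2 j && memb ms e.2.1 && Nat.beq (mev e.2.1 (spt root l e.2.2)) e.1

/-- an orbit exhausting a list -/
noncomputable def orbOK (root : ℕ) (ms : List ℕ) (l : List (ℕ × ℕ × ℕ)) (tgt : List ℕ) : Bool :=
  (List.range l.length).all (stepOK root ms l) && tgt.all (memb (root :: l.map Prod.fst))

/-- the first class among the fixed members is closed -/
noncomputable def closeOK : Bool :=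
  (fix0.all fun q => !(adjb 0 q) || memb O8.aPts q) &&
    (O8.aPts.all fun p => memb fix0 p) &&
    (List.range 120).all fun i =>
      let p := O8.apt i
      let c := bridge.getD i 3510
      memb O8.aPts c && adjb 0 c && adjb c p

/-- the first member is the only one commuting with all of the first twist -/
noncomputable def domOK : Bool :=
  (List.range fix1.length).all fun i =>
    Nat.beq (fix1.getD i 0) 0 || (memb fix1 (domWit.getD i 0) && !(adjb (fix1.getD i 0) (domWit.getD i 0)))

/-- point of the twelve -/
def r12p (k : ℕ) : ℕ := r12.getD k 3510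

/-- number of a member of the second twist -/
def idx2 (p : ℕ) : ℕ := fix2.findIdx fun e => Nat.beq e p

/-- the twin of a member -/
def twinOf (p : ℕ) : ℕ := twins.getD (idx2 p) 3510

/-- the twelve respect twins -/
noncomputable def twinStepOK : Bool :=
  r12.all fun m => fix2.all fun p => memb fix2 (mev m p) && Nat.beq (mev m (twinOf p)) (twinOf (mev m p))

/-- the twin of the first member -/
noncomputable def twinZeroOK : Bool :=
  Nat.beq (twinOf 0) 6 && (fix2.all fun q => Nat.beq q 0 || !(adjb 0 q) || twinWit.any fun e =>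
    Nat.beq e.1 q && (Nat.beq q 6 || (memb fix2 e.2 && !(Nat.beq e.2 0) && !(Nat.beq e.2 q) &&
      (adjb 0 e.2 != adjb q e.2))))

/-- the first six-tuple of codes -/
def root6 (k : ℕ) : ℕ := rootCodes.getD k 0

/-- the form on six bits -/
def q6 (v : ℕ) : Bool :=
  (Nat.testBit v 0 && Nat.testBit v 2).xor ((Nat.testBit v 1 && Nat.testBit v 3).xor
    ((Nat.testBit v 4).xor ((Nat.testBit v 4 && Nat.testBit v 5).xor (Nat.testBit v 5))))

/-- code of a pair -/
def code6 (j : ℕ) : ℕ := codes.getD j 0

/-- first point of a pair -/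
def ppt (j : ℕ) : ℕ := pairPts.getD j 3510

/-- second point of a pair -/
def qpt (j : ℕ) : ℕ := pairTwin.getD j 3510

/-- number of the pair with a code -/
def pairOf (v : ℕ) : ℕ := codes.findIdx fun e => Nat.beq e v

/-- a root moves the pairs like a transvection -/
noncomputable def pairActOK : Bool :=
  (List.range 36).all (fun j => memb fix2 (ppt j) && memb fix2 (qpt j) && Nat.beq (twinOf (ppt j)) (qpt j) &&
    Nat.beq (twinOf (qpt j)) (ppt j) && Nat.beq (pairOf (code6 j)) j && Nat.blt (code6 j) 64) &&
  (List.range 12).all fun k => (List.range 36).all fun j =>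
    let c := root6 (k % 6)
    let v := app (reflCols.getD (k % 6) []) (code6 j)
    Nat.blt (pairOf v) 36 && Nat.beq (code6 (pairOf v)) v && Nat.blt c 64 &&
      (Nat.beq (mev (r12p k) (ppt j)) (ppt (pairOf v)) || Nat.beq (mev (r12p k) (ppt j)) (qpt (pairOf v)))

/-- every member lies in a pair -/
noncomputable def pairCoverOK : Bool :=
  fix2.all fun p => (List.range 36).any fun j => Nat.beq (ppt j) p || Nat.beq (qpt j) p

/-- the roots lie in pairs -/
noncomputable def rootPairOK : Bool :=
  (List.range 6).all fun k => Nat.beq (ppt (pairOf (root6 k))) (r12p k) || Nat.beq (qpt (pairOf (root6 k))) (r12p k)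

/-- base of the reduction -/
def bs (i : ℕ) : ℕ := (stages.getD i (0, [], [])).1

/-- candidates of a stage -/
def cand (i : ℕ) : List ℕ := (stages.getD i (0, [], [])).2.1

/-- steps of a stage -/
def stSteps (i : ℕ) : List (ℕ × ℕ × ℕ) := (stages.getD i (0, [], [])).2.2

/-- members fixing the earlier base points -/
noncomputable def earlier (i m : ℕ) : Bool := (List.range i).all fun j => adjb m (bs j)

/-- a stage -/
noncomputable def stageOK (i : ℕ) : Bool :=
  memb r12 (bs i) && (stSteps i).all (fun e => memb fix2 e.2.1 && earlier i e.2.1) &&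
    orbOK (bs i) fix2 (stSteps i) (cand i) &&
    fix2.all fun p => memb (cand i) p || (List.range i).any fun j =>
      Nat.beq p (bs j) || Nat.beq p (twinOf (bs j)) || (adjb (bs j) p != adjb (bs j) (bs i))

/-- members of the flips -/
noncomputable def flipOK : Bool :=
  (List.range 6).all fun k =>
    let ms := (flips.getD k []).flatMap fun j => [ppt j, qpt j]
    (flips.getD k []).all (fun j => Nat.blt j 36) &&
      (List.range 6).all fun r => Nat.beq (lev ms (r12p r)) (bif Nat.beq r k then r12p (r + 6) else r12p r)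

/-- the twins of the roots -/
noncomputable def rootTwinOK : Bool :=
  (List.range 6).all fun k => Nat.beq (twinOf (r12p k)) (r12p (k + 6)) && Nat.beq (twinOf (r12p (k + 6))) (r12p k) &&
    !(Nat.beq (r12p k) (r12p (k + 6)))

/-- commuting on codes -/
def comC (i j : ℕ) : Bool := !(O8.bc (O8.cd i) (O8.cd j))

/-- indices with the same pattern -/
def samePat (W : List ℕ) (i j : ℕ) : Bool := W.all fun w => comC w i == comC w j

/-- pattern uniqueness -/
noncomputable def uniqOK (W : List ℕ) (i : ℕ) (cands : List ℕ) : Bool :=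
  (List.range 120).all fun j => !(samePat W i j) || memb cands j

/-- coordinate of a code -/
def spCo (k v : ℕ) : Bool := O8.bc (spBasis.getD ((k + 3) % 6) 0) v

/-- the basis is symplectic and spans the orthogonal space modulo the radical -/
noncomputable def spOK : Bool :=
  (List.range 6).all (fun k => Nat.blt (spBasis.getD k 0) 256 && !(O8.bc (O8.cd 0) (spBasis.getD k 0)) &&
    !(spCo k (O8.cd 0)) && (List.range 6).all fun l =>
      (O8.bc (spBasis.getD k 0) (spBasis.getD l 0) == Nat.beq ((k + 3) % 6) l) &&
        (spCo k (spBasis.getD l 0) == Nat.beq k l)) &&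
  (List.range 256).all fun v => O8.bc (O8.cd 0) v ||
    (let r := (List.range 6).foldl (fun m k => bif spCo k v then Nat.xor m (spBasis.getD k 0) else m) 0
     Nat.beq r v || Nat.beq r (Nat.xor v (O8.cd 0)))

/-- columns of a product -/
def mulC (a b : List ℕ) : List ℕ := b.map (app a)

/-- columns of a word -/
def wordC (w : List ℕ) : List ℕ := (List.range 6).map fun k => appW w (2 ^ k)

/-- columns of the unit -/
def oneC : List ℕ := [1, 2, 4, 8, 16, 32]

/-- image of the first member under an inner word -/
def imgZero (w : List ℕ) : ℕ := bif w.countP (fun k => Nat.beq k 0) % 2 == 1 then 6 else 0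

/-- generators move the two members as stated -/
noncomputable def parityOK : Bool :=
  (List.range 16).all fun k => Nat.beq (ev RepU62.rows 9 (Dat0 k) 0) (imgZero [k]) &&
    Nat.beq (ev RepU62.rows 9 (Dat0 k) 6) (bif Nat.beq (imgZero [k]) 6 then 0 else 6)
where
  /-- word of a generator -/
  Dat0 (k : ℕ) : List ℕ := (Lead.Fi22Two.Dat.gens.getD k ([], [])).1

/-- the automorphism permutes the sets as its matrix -/
noncomputable def msRelOK (c : ℕ) : Bool := (pts c).all fun p => mem' (sT p) (pts (app msCols c))

/-- the Sylow subgroup -/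
noncomputable def sylOK : Bool :=
  Nat.beq sylWords.length 128 && Nat.beq sylCols.length 128 && leq (sylCols.getD 0 []) oneC &&
    (List.range 128).all fun i =>
      (sylWords.getD i []).all (fun k => Nat.blt k 16) && leq (wordC (sylWords.getD i [])) (sylCols.getD i []) &&
        (List.range 5).all fun j =>
          (sylGens.getD j []).all (fun k => Nat.blt k 16) &&
            (List.range 128).any fun l => leq (mulC (wordC (sylGens.getD j [])) (sylCols.getD i [])) (sylCols.getD l [])

/-- kinds of the elements of the Sylow subgroup -/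
noncomputable def kindOK (i : ℕ) : Bool :=
  let m := sylCols.getD i []
  let e := sylKind.getD i (4, [])
  e.2.all (fun k => Nat.blt k 16) &&
    match e.1 with
    | 0 => !(leq (mulC m m) oneC)
    | 1 => leq (wordC e.2) (mulC msCols m) && Nat.beq (imgZero e.2) 6
    | 2 => leq (mulC (wordC e.2) m) (mulC (repCols.getD 0 []) (wordC e.2))
    | 3 => leq (mulC (wordC e.2) m) (mulC (repCols.getD 1 []) (wordC e.2))
    | _ => false

/-- word of a representative -/
def kelW (n : ℕ) : List ℕ := (repK.getD n []).flatMap fun k => (Lead.Fi22Two.Dat.gens.getD k ([], [])).1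

/-- word of one of the nine -/
def eW : ℕ → List ℕ
  | 0 => [0]
  | i + 1 => qW i

/-- word of an exponent vector -/
def vW (v : ℕ) : List ℕ := (List.range 9).flatMap fun i => bif Nat.testBit v i then eW i else []

/-- image of a vector -/
def xorSum (l : List ℕ) (m : ℕ) : ℕ :=
  (List.range 9).foldl (fun r i => bif Nat.testBit m i then Nat.xor r (l.getD i 0) else r) 0

/-- images of the nine -/
def actE (n : ℕ) : List ℕ := bif Nat.beq n 0 then actE0 else actE1
/-- signs of the images -/
def actS (n : ℕ) : List ℕ := bif Nat.beq n 0 then actS0 else actS1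
/-- moves -/
def dirs (n : ℕ) : List ℕ := bif Nat.beq n 0 then dirs0 else dirs1
/-- reductions -/
def reduce (n : ℕ) : List (ℕ × ℕ × ℕ) := bif Nat.beq n 0 then reduce0 else reduce1
/-- representatives of the orbits -/
def reps (n : ℕ) : List ℕ := bif Nat.beq n 0 then reps0 else reps1
/-- moving vectors -/
def spanNZ (n : ℕ) : List ℕ := bif Nat.beq n 0 then spanNZ0 else spanNZ1

/-- the word of the sign -/
def sgW (s : ℕ) : List ℕ := bif Nat.beq s 1 then Lead.Fi22Two.zW else []

/-- conjugation of one of the nine by a representative -/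
noncomputable def conjEOK (n i : ℕ) : Bool :=
  Nat.beq (ev RepU62.rows 9 (kelW n) 0) 0 &&
    genPts.all fun p =>
      Nat.beq (ev RepU62.rows 9 (kelW n).reverse (sT (ev RepU62.rows 9 (eW i) (sT (ev RepU62.rows 9 (kelW n) p)))))
        (ev RepU62.rows 9 (sgW ((actS n).getD i 0)) (ev RepU62.rows 9 (vW ((actE n).getD i 0)) p))

/-- a representative is an involution -/
noncomputable def sqOK (n : ℕ) : Bool :=
  genPts.all fun p => Nat.beq (sT (ev RepU62.rows 9 (kelW n) (sT (ev RepU62.rows 9 (kelW n) p)))) p

/-- the linear algebra of the reduction -/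
noncomputable def reduceOK (n : ℕ) : Bool :=
  (List.range 9).all (fun i => Nat.beq ((dirs n).getD i 0) (Nat.xor ((actE n).getD i 0) (2 ^ i))) &&
  (List.range 512).all fun v =>
    bif Nat.beq (xorSum (dirs n) v) 0 then
      (reduce n).any fun e => Nat.beq e.1 v && memb (reps n) e.2.1 && Nat.blt e.2.2 512 &&
        Nat.beq v (Nat.xor e.2.1 (xorSum (dirs n) e.2.2))
    else memb (spanNZ n) (xorSum (dirs n) v)

/-- the moving vectors are not central -/
noncomputable def nzOK (n : ℕ) : Bool :=
  (spanNZ n).all fun v => Nat.blt v 512 &&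
    genPts.any (fun p => !(Nat.beq (ev RepU62.rows 9 (vW v) p) p)) &&
    genPts.any (fun p => !(Nat.beq (ev RepU62.rows 9 (vW v) p) (ev RepU62.rows 9 Lead.Fi22Two.zW p)))

/-- target word -/
def tgtW : ℕ → List ℕ
  | 0 => []
  | 1 => [0]
  | _ => Lead.Fi22Two.zW

/-- a fusion -/
noncomputable def fuseOK (e : (ℕ × ℕ × ℕ) × (ℕ × List ℕ)) : Bool :=
  e.2.2.all (fun m => Nat.blt m 3510) && Nat.blt e.2.1 3 && genPts.all fun p =>
    let t := fun q => sT (ev RepU62.rows 9 (kelW e.1.1 ++ sgW e.1.2.2 ++ vW e.1.2.1) q)
    Nat.beq (lev e.2.2.reverse (t (lev e.2.2 p))) (sT (ev RepU62.rows 9 (tgtW e.2.1) p))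

/-- every case is fused -/
def fuseCover : Bool :=
  (List.range 2).all fun n => (reps n).all fun r => (List.range 2).all fun s =>
    fuse.any fun e => Nat.beq e.1.1 n && Nat.beq e.1.2.1 r && Nat.beq e.1.2.2 s

/-- generators of the isometries are products of the six transvections -/
noncomputable def reflGenOK : Bool :=
  (List.range 16).all fun k => (genRefl.getD k []).all (fun r => Nat.blt r 6) &&
    leq ((genRefl.getD k []).foldr (fun r m => mulC (reflCols.getD r []) m) oneC) (wordC [k])

/-- units are sums of roots -/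
noncomputable def unit6OK : Bool :=
  (List.range 6).all fun k => (unitDec.getD k []).all (fun r => Nat.blt r 6) &&
    Nat.beq ((unitDec.getD k []).foldl (fun m r => Nat.xor m (root6 r)) 0) (2 ^ k)

end Cfsg.Agent.Spor.M22U.Outv
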