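import Cfsg.Agent.Lib.Spor.M22UOutCls

/-!
Fusion of the outer involutions over the two representatives, and the three classes.
-/

set_option autoImplicit false
set_option maxRecDepth 100000
set_option linter.unusedSectionVars false
set_option maxHeartbeats 1000000

namespace Cfsg.Agent.Spor.M22U.Outv

open Cfsg.Agent.Spor.CC Cfsg.Agent.Spor.Fi22Cert Cfsg.Agent.Spor.Fi22Cert.U62Act
open Cfsg.Agent.Spor.M22U.Cent
open Cfsg.Agent.Spor.M22U.FixSearch (ptMap ptMap_lt dp_ptMap dp_inj class_map)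
open Cfsg.Agent.Lead.Fi22Two (qW bW bb zz C2 Qs qe zW zz_sq tA_sq tA_bb pair_spec el_append el_rev el_zero el_z el_b)
open Cfsg.Agent.Lead.Fi22Two.Aut (cj MA conj_cj cj_inj ptMap_mul ptMap_one ptMap_cj)
open ODat

theorem words_lt : (∀ i < 9, ∀ a ∈ eW i, a < 9) ∧ (∀ n < 2, ∀ a ∈ kelW n, a < 9) ∧ (∀ a ∈ zW, a < 9) ∧
    (∀ t < 3, ∀ a ∈ tgtW t, a < 9) := by decide +kernel

theorem el_eW (i : Fin 9) : el (eW i.val) ∈ C2 ∧ el (eW i.val) * el (eW i.val) = 1 := by
  have hz : ∀ {x : pres.Grp}, Commute x tA → Commute x bb → x ∈ C2 := fun h h' =>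
    Subgroup.mem_centralizer_singleton_iff.mpr (h.mul_right h').eq
  rcases i with ⟨_ | i, hi⟩
  · show el [0] ∈ C2 ∧ el [0] * el [0] = 1
    rw [el_zero]; exact ⟨hz (Commute.refl _) tA_bb, tA_sq⟩
  · obtain ⟨h1, h2, h3, -⟩ := pair_spec ⟨i, by omega⟩
    exact ⟨hz h2 h3, h1⟩

/-- the centre of the centralizer generated by the product -/
noncomputable def ZC : Subgroup ↥C2 :=
  Subgroup.zpowers ⟨zz, Subgroup.mem_centralizer_singleton_iff.mpr rfl⟩

instance ZC_normal : ZC.Normal := ⟨fun x hx g => by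
  obtain ⟨n, rfl⟩ := Subgroup.mem_zpowers_iff.mp hx
  have hc : Commute g (⟨zz, Subgroup.mem_centralizer_singleton_iff.mpr rfl⟩ : ↥C2) :=
    Subtype.ext (Subgroup.mem_centralizer_singleton_iff.mp g.2)
  rw [(hc.zpow_right n).eq, mul_inv_cancel_right]
  exact Subgroup.zpow_mem_zpowers _ _⟩

/-- the quotient by the product -/
abbrev QZ : Type := ↥C2 ⧸ ZC

/-- image in the quotient -/
noncomputable def pz (x : pres.Grp) : QZ :=
  haveI := Classical.propDecidable (x ∈ C2)
  if h : x ∈ C2 then QuotientGroup.mk' ZC ⟨x, h⟩ else 1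

theorem pz_eq {x : pres.Grp} (hx : x ∈ C2) : pz x = QuotientGroup.mk' ZC ⟨x, hx⟩ := by
  rw [pz, dif_pos hx]

theorem pz_mul {x y : pres.Grp} (hx : x ∈ C2) (hy : y ∈ C2) : pz (x * y) = pz x * pz y := by
  rw [pz_eq hx, pz_eq hy, pz_eq (mul_mem hx hy), ← map_mul]; rfl

theorem pz_one : pz 1 = 1 := by
  rw [pz_eq (one_mem C2)]; exact map_one (QuotientGroup.mk' ZC)

theorem pz_inv {x : pres.Grp} (hx : x ∈ C2) : pz x⁻¹ = (pz x)⁻¹ := by
  rw [pz_eq hx, pz_eq (inv_mem hx), ← map_inv]; rfl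

theorem zz_C2 : zz ∈ C2 := Subgroup.mem_centralizer_singleton_iff.mpr rfl

theorem pz_zz : pz zz = 1 := by
  rw [pz_eq zz_C2, ← MonoidHom.mem_ker, QuotientGroup.ker_mk', ZC]; exact Subgroup.mem_zpowers _

theorem pz_cases {x : pres.Grp} (hx : x ∈ C2) (h : pz x = 1) : x = 1 ∨ x = zz := by
  rw [pz_eq hx, ← MonoidHom.mem_ker, QuotientGroup.ker_mk', ZC, Subgroup.mem_zpowers_iff] at h
  obtain ⟨n, hn⟩ := h
  have hn' : zz ^ n = x := congrArg Subtype.val hn
  have h2 : zz ^ (2 : ℤ) = 1 := by rw [zpow_two]; exact zz_sq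
  rcases Int.even_or_odd n with ⟨m, hm⟩ | ⟨m, hm⟩
  · left; rw [← hn', hm, ← two_mul, zpow_mul, h2, one_zpow]
  · right; rw [← hn', hm, zpow_add_one, zpow_mul, h2, one_zpow, one_mul]

theorem sgW_el : el (sgW 0) = 1 ∧ el (sgW 1) = zz := by
  refine ⟨?_, el_z⟩
  rw [show sgW 0 = [] from rfl]; simp [el]

theorem pz_congr {x y : pres.Grp} (hx : x ∈ C2) (hy : y ∈ C2) (h : pz x = pz y) :
    ∃ s < 2, x = el (sgW s) * y := by
  have : pz (x * y⁻¹) = 1 := by rw [pz_mul hx (inv_mem hy), pz_inv hy, h, mul_inv_cancel]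
  rcases pz_cases (mul_mem hx (inv_mem hy)) this with e | e
  · exact ⟨0, by norm_num, by rw [sgW_el.1, one_mul, mul_inv_eq_one.mp e]⟩
  · exact ⟨1, by norm_num, by rw [sgW_el.2, ← e, inv_mul_cancel_right]⟩

/-- image of one of the nine -/
noncomputable def eb (i : ℕ) : QZ := pz (if i < 9 then el (eW i) else 1)

/-- image of an exponent vector -/
noncomputable def en (v : ℕ) : ℕ → QZ
  | 0 => 1
  | n + 1 => en v n * bif Nat.testBit v n then eb n else 1

theorem eb_sq (i : ℕ) : eb i * eb i = 1 := by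
  unfold eb
  split_ifs with h
  · obtain ⟨h1, h2⟩ := el_eW ⟨i, h⟩
    rw [← pz_mul h1 h1, h2, pz_one]
  · rw [pz_one, one_mul]

theorem eb_comm (i j : ℕ) : Commute (eb i) (eb j) := by
  unfold eb
  split_ifs with hi hj
  · have h1 := (el_eW ⟨i, hi⟩).1
    have h2 := (el_eW ⟨j, hj⟩).1
    show _ * _ = _ * _
    rw [← pz_mul h1 h2, ← pz_mul h2 h1]
    rcases i with _ | i <;> rcases j with _ | j
    · rfl
    · rw [show el (eW 0) = tA from el_zero]
      exact congrArg pz (pair_spec ⟨j, by omega⟩).2.1.symm.eq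
    · rw [show el (eW 0) = tA from el_zero]
      exact congrArg pz (pair_spec ⟨i, by omega⟩).2.1.eq
    · have h := (pair_spec ⟨i, by omega⟩).2.2.2 ⟨j, by omega⟩
      rw [mul_inv_eq_iff_eq_mul, mul_assoc] at h
      have h' : el (eW (i + 1)) * el (eW (j + 1)) = _ := h
      rw [h']
      show pz (zz ^ _ * (el (eW (j + 1)) * el (eW (i + 1)))) = _
      rw [pz_mul (pow_mem zz_C2 _) (mul_mem h2 h1)]
      have hp : ∀ s : ℕ, pz (zz ^ s) = 1 := fun s => by
        induction s with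
        | zero => rw [pow_zero, pz_one]
        | succ s ih => rw [pow_succ, pz_mul (pow_mem zz_C2 s) zz_C2, ih, pz_zz, one_mul]
      rw [hp, one_mul]
  all_goals simp [pz_one]

theorem en_comm (v i : ℕ) : ∀ n, Commute (eb i) (en v n)
  | 0 => Commute.one_right _
  | n + 1 => (en_comm v i n).mul_right (by cases Nat.testBit v n; exacts [Commute.one_right _, eb_comm i n])

theorem en_xor (u v : ℕ) : ∀ n, en (Nat.xor u v) n = en u n * en v n
  | 0 => (one_mul 1).symm
  | n + 1 => by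
    have hb : Nat.testBit (Nat.xor u v) n = (Nat.testBit u n).xor (Nat.testBit v n) := Nat.testBit_xor ..
    simp only [en, hb, en_xor u v n]
    cases Nat.testBit u n <;> cases Nat.testBit v n <;>
      simp only [Bool.xor_false, Bool.xor_true, Bool.not_false, Bool.not_true, cond_true, cond_false, mul_one]
    · rw [mul_assoc]
    · rw [mul_assoc, mul_assoc, (en_comm v n n).eq]
    · rw [mul_assoc (en u n) (eb n), ← mul_assoc (eb n), (en_comm v n n).eq, mul_assoc (en v n), eb_sq, mul_one]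

theorem en_zero : ∀ n, en 0 n = 1
  | 0 => rfl
  | n + 1 => by simp [en, en_zero n]

theorem en_pow (i : ℕ) : ∀ n, en (2 ^ i) n = if i < n then eb i else 1
  | 0 => by simp [en]
  | n + 1 => by
    simp only [en, en_pow i n, Nat.testBit_two_pow]
    by_cases h : i = n
    · subst h; simp
    · rw [decide_eq_false h, cond_false, mul_one]
      by_cases h' : i < n
      · rw [if_pos h', if_pos (by omega)]
      · rw [if_neg h', if_neg (by omega)]

theorem vW_lt {v : ℕ} : ∀ a ∈ vW v, a < 9 := by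
  intro a ha
  simp only [vW, List.mem_flatMap, List.mem_range] at ha
  obtain ⟨i, hi, ha⟩ := ha
  cases h : Nat.testBit v i <;> rw [h] at ha
  · simp at ha
  · exact words_lt.1 i hi a ha

theorem vW_spec (v : ℕ) : el (vW v) ∈ C2 ∧ pz (el (vW v)) = en v 9 := by
  have key : ∀ n ≤ 9, el ((List.range n).flatMap fun i => bif Nat.testBit v i then eW i else []) ∈ C2 ∧
      pz (el ((List.range n).flatMap fun i => bif Nat.testBit v i then eW i else [])) = en v n := by
    intro n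
    induction n with
    | zero =>
      intro _
      rw [List.range_zero, List.flatMap_nil, show el [] = (1 : pres.Grp) by simp [el]]
      exact ⟨one_mem _, pz_one⟩
    | succ n ih =>
      intro hn
      obtain ⟨h, e⟩ := ih (by omega)
      have hlast : el (bif Nat.testBit v n then eW n else []) ∈ C2 ∧
          pz (el (bif Nat.testBit v n then eW n else [])) = bif Nat.testBit v n then eb n else 1 := by
        cases Nat.testBit v n
        · rw [cond_false, cond_false, show el [] = (1 : pres.Grp) by simp [el]]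
          exact ⟨one_mem _, pz_one⟩
        · refine ⟨(el_eW ⟨n, by omega⟩).1, ?_⟩
          rw [cond_true, cond_true, eb, if_pos (show n < 9 by omega)]
      rw [List.range_succ, List.flatMap_append, List.flatMap_singleton, el_append]
      exact ⟨mul_mem h hlast.1, by rw [pz_mul h hlast.1, e, hlast.2, en]⟩
  exact key 9 le_rfl

theorem en_inv (v : ℕ) : (en v 9)⁻¹ = en v 9 := by
  rw [inv_eq_iff_mul_eq_one, ← en_xor, show Nat.xor v v = 0 from Nat.xor_self v, en_zero]

theorem Qs_en {q : pres.Grp} (hq : q ∈ Qs) : q ∈ C2 ∧ ∃ v < 512, pz q = en v 9 := by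
  let S : Subgroup pres.Grp :=
    { carrier := {x | x ∈ C2 ∧ ∃ v < 512, pz x = en v 9}
      one_mem' := ⟨one_mem _, 0, by norm_num, by rw [en_zero, pz_one]⟩
      mul_mem' := fun ⟨hx, u, hu, ex⟩ ⟨hy, v, hv, ey⟩ => ⟨mul_mem hx hy, Nat.xor u v,
        Nat.xor_lt_two_pow (n := 9) hu hv, by rw [pz_mul hx hy, ex, ey, en_xor]⟩
      inv_mem' := fun {x} ⟨hx, v, hv, ex⟩ => ⟨inv_mem hx, v, hv, by rw [pz_inv hx, ex, en_inv]⟩ }
  have he : ∀ i : Fin 9, el (eW i.val) ∈ S := fun i => by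
    refine ⟨(el_eW i).1, 2 ^ i.val, lt_of_lt_of_le (Nat.pow_lt_pow_right (by norm_num) i.2) le_rfl, ?_⟩
    rw [en_pow, if_pos i.2, eb, if_pos i.2]
  have hz : zz ∈ S := ⟨zz_C2, 0, by norm_num, by rw [en_zero, pz_zz]⟩
  have ha : tA ∈ S := by rw [← el_zero]; exact he 0
  obtain ⟨⟨s, y⟩, rfl⟩ := hq
  refine S.mul_mem (S.pow_mem ha _) ?_
  have : Lead.Fi22Two.EX ≤ S := by
    rw [Lead.Fi22Two.EX, Lead.Fi22Two.Ext.gen, Subgroup.closure_le]
    rintro x (rfl | ⟨i, rfl⟩)
    · exact hz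
    · exact he i.succ
  exact this y.2

/-- the representative twist -/
noncomputable def sg (n : ℕ) : MA := SS * cj (el (kelW n))

theorem ptMap_sg {n : ℕ} (hn : n < 2) {p : ℕ} (hp : p < 3510) :
    ptMap (sg n) p = sT (ev RepU62.rows 9 (kelW n) p) := by
  rw [sg, ← act_el (words_lt.2.1 n hn) hp]; exact ptMap_TT hp

theorem genPts_lt {p : ℕ} (hp : p ∈ genPts) : p < 3510 := by
  obtain ⟨x, hx, rfl⟩ := genPts_mem hp
  exact (gen9 hx).1

theorem sg_sq {n : ℕ} (hn : n < 2) : sg n * sg n = 1 := by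
  have h : sqOK n = true := by
    match n, hn with
    | 0, _ => exact sq0
    | 1, _ => exact sq1
  refine aut_ext fun p hp => ?_
  have hp' := genPts_lt hp
  rw [ptMap_mul, ptMap_sg hn (ptMap_lt _ _), ptMap_sg hn hp', ptMap_one hp']
  exact Nat.eq_of_beq_eq_true (List.all_eq_true.mp h p hp)

theorem sgW_lt (s : ℕ) : ∀ a ∈ sgW s, a < 9 := by
  intro a ha
  cases h : Nat.beq s 1 <;> simp only [sgW, h, cond_true, cond_false] at ha
  · simp at ha
  · exact words_lt.2.2.1 a ha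

theorem sg_eW {n i : ℕ} (hn : n < 2) (hi : i < 9) :
    sg n (el (eW i)) = el (sgW ((actS n).getD i 0)) * el (vW ((actE n).getD i 0)) := by
  have h : conjEOK n i = true := by
    match n, hn with
    | 0, _ => exact List.all_eq_true.mp conjE0 i (List.mem_range.mpr hi)
    | 1, _ => exact List.all_eq_true.mp conjE1 i (List.mem_range.mpr hi)
  simp only [conjEOK, Bool.and_eq_true, List.all_eq_true] at h
  apply cj_inj
  rw [← conj_cj]
  refine aut_ext fun p hp => ?_
  have hp' := genPts_lt hp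
  have hw := words_lt.2.1 n hn
  have hrev : ∀ a ∈ (kelW n).reverse, a < 9 := fun a ha => hw a (List.mem_reverse.mp ha)
  have e : sg n * cj (el (eW i)) * (sg n)⁻¹ = cj (el (kelW n).reverse) * SS * cj (el (eW i)) * (SS * cj (el (kelW n))) := by
    conv_lhs => rw [inv_eq_of_mul_eq_one_right (sg_sq hn)]
    conv_lhs => arg 1; arg 1; rw [← inv_eq_of_mul_eq_one_right (sg_sq hn)]
    rw [sg, mul_inv_rev, inv_eq_of_mul_eq_one_right SS_sq, el_rev, map_inv]
  rw [e, ptMap_mul, ptMap_mul, ptMap_mul, ptMap_mul]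
  have l1 : act (el (kelW n)) p < 3510 := act_lt _ hp'
  have l2 : sT (act (el (kelW n)) p) < 3510 := sT_lt l1
  rw [ptMap_cj _ hp', ptMap_SS l1, ptMap_cj _ l2, ptMap_SS (act_lt _ l2), ptMap_cj _ (sT_lt (act_lt _ l2)),
    act_el hrev (sT_lt (act_lt _ l2)), act_el (words_lt.1 i hi) l2, act_el hw hp', ptMap_cj _ hp', act_mul _ _ hp',
    act_el (sgW_lt _) (act_lt _ hp'), act_el vW_lt hp']
  exact Nat.eq_of_beq_eq_true (h.2 p hp)

theorem act_facts : (∀ n < 2, ∀ i < 9, (actE n).getD i 0 < 512) ∧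
    (∀ n < 2, ∀ v < 512, Nat.xor (xorSum (actE n) v) v = xorSum (dirs n) v) ∧ (∀ n < 2, ∀ v < 512, xorSum (actE n) v < 512) := by
  decide +kernel

theorem sgW_pz (s : ℕ) : el (sgW s) ∈ C2 ∧ pz (el (sgW s)) = 1 := by
  cases h : Nat.beq s 1
  · rw [show el (sgW s) = 1 by simp [sgW, h, el]]
    exact ⟨one_mem _, pz_one⟩
  · rw [show el (sgW s) = zz by rw [show sgW s = zW by simp [sgW, h], el_z]]
    exact ⟨zz_C2, pz_zz⟩

theorem sg_vW {n : ℕ} (hn : n < 2) (v : ℕ) :
    sg n (el (vW v)) ∈ C2 ∧ pz (sg n (el (vW v))) = en (xorSum (actE n) v) 9 := by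
  have key : ∀ k ≤ 9, sg n (el ((List.range k).flatMap fun i => bif Nat.testBit v i then eW i else [])) ∈ C2 ∧
      pz (sg n (el ((List.range k).flatMap fun i => bif Nat.testBit v i then eW i else []))) =
        en ((List.range k).foldl (fun r i => bif Nat.testBit v i then Nat.xor r ((actE n).getD i 0) else r) 0) 9 := by
    intro k
    induction k with
    | zero =>
      intro _
      rw [List.range_zero, List.flatMap_nil, List.foldl_nil, show el [] = (1 : pres.Grp) by simp [el], map_one,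
        en_zero]
      exact ⟨one_mem _, pz_one⟩
    | succ k ih =>
      intro hk
      obtain ⟨h, e⟩ := ih (by omega)
      rw [List.range_succ, List.flatMap_append, List.flatMap_singleton, List.foldl_append, List.foldl_cons,
        List.foldl_nil, el_append, map_mul]
      cases Nat.testBit v k
      · rw [cond_false, cond_false, show el [] = (1 : pres.Grp) by simp [el], map_one, mul_one]
        exact ⟨h, e⟩
      · rw [cond_true, cond_true, sg_eW hn (show k < 9 by omega)]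
        obtain ⟨hs, es⟩ := sgW_pz ((actS n).getD k 0)
        obtain ⟨hv, ev'⟩ := vW_spec ((actE n).getD k 0)
        refine ⟨mul_mem h (mul_mem hs hv), ?_⟩
        rw [pz_mul h (mul_mem hs hv), pz_mul hs hv, es, one_mul, ev', e, en_xor]
  exact key 9 le_rfl

theorem sg_cj (n : ℕ) (hn : n < 2) (x : pres.Grp) : sg n * cj x = cj (sg n x) * sg n := by
  rw [← conj_cj, inv_mul_cancel_right]

theorem red_facts {n : ℕ} (hn : n < 2) {v : ℕ} (hv : v < 512) (h : xorSum (dirs n) v = 0) :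
    ∃ r ∈ reps n, ∃ m < 512, v = Nat.xor r (xorSum (dirs n) m) := by
  have hr : reduceOK n = true := by
    match n, hn with
    | 0, _ => exact reduce0_ok
    | 1, _ => exact reduce1_ok
  simp only [reduceOK, Bool.and_eq_true, List.all_eq_true, List.mem_range] at hr
  have := hr.2 v hv
  rw [h, Nat.beq_refl, cond_true] at this
  simp only [List.any_eq_true, Bool.and_eq_true] at this
  obtain ⟨e, -, ⟨⟨-, h2⟩, h3⟩, h4⟩ := this
  exact ⟨e.2.1, memb_iff.mp h2, e.2.2, Nat.le_of_ble_eq_true h3, Nat.eq_of_beq_eq_true h4⟩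

theorem dir_zero {n : ℕ} (hn : n < 2) {v : ℕ} (hv : v < 512) (h : en (xorSum (dirs n) v) 9 = 1) :
    xorSum (dirs n) v = 0 := by
  by_contra hne
  have hr : reduceOK n = true := by
    match n, hn with
    | 0, _ => exact reduce0_ok
    | 1, _ => exact reduce1_ok
  have hz : nzOK n = true := by
    match n, hn with
    | 0, _ => exact nz0
    | 1, _ => exact nz1
  simp only [reduceOK, Bool.and_eq_true, List.all_eq_true, List.mem_range] at hr
  have := hr.2 v hv
  cases hb : Nat.beq (xorSum (dirs n) v) 0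
  · rw [hb, cond_false] at this
    simp only [nzOK, Bool.and_eq_true, List.all_eq_true, List.any_eq_true, Bool.not_eq_true'] at hz
    obtain ⟨⟨-, p, hp, h1⟩, p', hp', h2⟩ := hz _ (memb_iff.mp this)
    obtain ⟨hm, e⟩ := vW_spec (xorSum (dirs n) v)
    rw [h] at e
    rcases pz_cases hm e with e' | e'
    · rw [← act_el vW_lt (genPts_lt hp), e', act_one (genPts_lt hp), Nat.beq_refl] at h1
      exact Bool.noConfusion h1
    · rw [← act_el vW_lt (genPts_lt hp'), e', ← el_z, act_el words_lt.2.2.1 (genPts_lt hp'), Nat.beq_refl] at h2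
      exact Bool.noConfusion h2
  · exact hne (Nat.eq_of_beq_eq_true hb)

/-- an involution over a representative is conjugate to a standard twist -/
theorem fuse_main {n : ℕ} (hn : n < 2) {q : pres.Grp} (hq : q ∈ Qs) {ψ : MA}
    (hψ : ψ = SS * cj (el (kelW n) * q)) (hsq : ψ * ψ = 1) :
    ∃ t < 3, IsConj ψ (TT (el (tgtW t))) := by
  have hψ' : ψ = sg n * cj q := by rw [hψ, map_mul, sg, mul_assoc]
  obtain ⟨hqC, v, hv, eq⟩ := Qs_en hq
  obtain ⟨hvC, ev'⟩ := vW_spec v
  obtain ⟨s0, -, eqv⟩ := pz_congr hqC hvC (eq.trans ev'.symm)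
  have hq0 := sgW_pz s0
  have hone : sg n q * q = 1 := by
    apply cj_inj
    rw [map_mul, map_one, ← conj_cj, inv_eq_of_mul_eq_one_right (sg_sq hn), ← hsq, hψ']
    group
  obtain ⟨hsv, esv⟩ := sg_vW hn v
  obtain ⟨hs0, es0⟩ := sgW_pz s0
  have hzz : sg n zz = zz := by
    have e1 : SS zz = zz := by
      have : ∀ p ∈ [0, 6], sT p = p := by decide +kernel
      rw [show zz = tA * bb from rfl, map_mul, ← Lead.Fi22Two.dp_zero, SS_dp (by norm_num), this 0 (by simp)]
      show _ * SS (dp 6 : pres.Grp) = _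
      rw [SS_dp (by norm_num), this 6 (by simp)]
    have hk : el (kelW n) ∈ C2 := kel_C2 (rep_facts.1 n hn)
    show SS (el (kelW n) * zz * (el (kelW n))⁻¹) = zz
    rw [Subgroup.mem_centralizer_singleton_iff.mp hk, mul_inv_cancel_right, e1]
  have hsgs : sg n (el (sgW s0)) = el (sgW s0) := by
    cases h : Nat.beq s0 1
    · simp [sgW, h, el]
    · rw [show sgW s0 = zW by simp [sgW, h], el_z, hzz]
  have hsq' : sg n q ∈ C2 := by rw [eqv, map_mul, hsgs]; exact mul_mem hs0 hsv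
  have epq : pz (sg n q) = en (xorSum (actE n) v) 9 := by
    rw [eqv, map_mul, hsgs, pz_mul hs0 hsv, es0, one_mul, esv]
  have hd : en (xorSum (dirs n) v) 9 = 1 := by
    rw [← act_facts.2.1 n hn v hv, en_xor, ← epq, ← eq, ← pz_mul hsq' hqC, hone, pz_one]
  obtain ⟨r, hr, m, hm, hvr⟩ := red_facts hn hv (dir_zero hn hv hd)
  obtain ⟨hmC, em⟩ := vW_spec m
  obtain ⟨hsm, esm⟩ := sg_vW hn m
  set q' := sg n (el (vW m)) * q * (el (vW m))⁻¹ with hq'
  have hq'C : q' ∈ C2 := mul_mem (mul_mem hsm hqC) (inv_mem hmC)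
  obtain ⟨hrC, er⟩ := vW_spec r
  obtain ⟨s, hs, eqr⟩ := pz_congr hq'C hrC (by
    rw [hq', pz_mul (mul_mem hsm hqC) (inv_mem hmC), pz_mul hsm hqC, esm, eq, er, pz_inv hmC, em, en_inv,
      ← en_xor, ← en_xor]
    congr 1
    rw [hvr, ← act_facts.2.1 n hn m hm]
    show (xorSum (actE n) m ^^^ (r ^^^ (xorSum (actE n) m ^^^ m))) ^^^ m = r
    apply Nat.eq_of_testBit_eq
    intro i
    simp only [Nat.testBit_xor]
    cases Nat.testBit (xorSum (actE n) m) i <;> cases Nat.testBit r i <;> cases Nat.testBit m i <;> rfl)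
  have h1 : cj (el (vW m)) * ψ * (cj (el (vW m)))⁻¹ = SS * cj (el (kelW n) * (el (sgW s) * el (vW r))) := by
    rw [← eqr, hq', hψ', map_mul cj (el (kelW n)), ← mul_assoc SS, show SS * cj (el (kelW n)) = sg n from rfl,
      map_mul, map_mul, map_inv, ← mul_assoc, ← mul_assoc, ← mul_assoc, sg_cj n hn]
    congr 3
    rw [show sg n (sg n (el (vW m))) = el (vW m) from DFunLike.congr_fun (sg_sq hn) _]
  have hf := fuse_cover
  simp only [fuseCover, List.all_eq_true, List.any_eq_true, Bool.and_eq_true, List.mem_range] at hf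
  obtain ⟨e, he, ⟨e1, e2⟩, e3⟩ := hf n hn r hr s hs
  obtain rfl := Nat.eq_of_beq_eq_true e1
  obtain rfl := Nat.eq_of_beq_eq_true e2
  obtain rfl := Nat.eq_of_beq_eq_true e3
  have hfe := List.all_eq_true.mp fuse_ok e he
  simp only [fuseOK, Bool.and_eq_true, List.all_eq_true] at hfe
  obtain ⟨⟨hl, ht⟩, hp⟩ := hfe
  have hl' : ∀ a ∈ e.2.2, a < 3510 := fun a ha => Nat.le_of_ble_eq_true (hl a ha)
  have ht' : e.2.1 < 3 := Nat.le_of_ble_eq_true ht
  refine ⟨e.2.1, ht', isConj_iff.mpr ⟨cj (lel e.2.2)⁻¹ * cj (el (vW m)), ?_⟩⟩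
  rw [mul_inv_rev, ← mul_assoc, show cj (lel e.2.2)⁻¹ * cj (el (vW m)) * ψ * (cj (el (vW m)))⁻¹ =
    cj (lel e.2.2)⁻¹ * (cj (el (vW m)) * ψ * (cj (el (vW m)))⁻¹) by group, h1]
  refine aut_ext fun p hp' => ?_
  have l0 := genPts_lt hp'
  have hlw : ∀ a ∈ kelW e.1.1 ++ sgW e.1.2.2 ++ vW e.1.2.1, a < 9 := fun a ha => by
    rcases List.mem_append.mp ha with ha | ha
    · rcases List.mem_append.mp ha with ha | ha
      exacts [words_lt.2.1 _ hn a ha, sgW_lt _ a ha]
    · exact vW_lt a ha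
  have l1 : act (lel e.2.2) p < 3510 := act_lt _ l0
  have l2 : act (el (kelW e.1.1 ++ sgW e.1.2.2 ++ vW e.1.2.1)) (act (lel e.2.2) p) < 3510 := act_lt _ l1
  rw [ptMap_mul, map_inv cj, inv_inv, ptMap_cj _ l0, ptMap_mul, ← map_inv cj,
    ← mul_assoc (el (kelW e.1.1)), ← el_append, ← el_append,
    show SS * cj (el (kelW e.1.1 ++ sgW e.1.2.2 ++ vW e.1.2.1)) = TT (el (kelW e.1.1 ++ sgW e.1.2.2 ++ vW e.1.2.1)) from rfl,
    ptMap_TT l1, ptMap_cj _ (sT_lt l2), ← lel_rev, ← lev_act (fun a ha => hl' a (List.mem_reverse.mp ha)) (sT_lt l2),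
    act_el hlw l1, ← lev_act hl' l0, ptMap_TT l0, act_el (words_lt.2.2.2 _ ht') l0]
  exact Nat.eq_of_beq_eq_true (hp p hp')

universe u
variable {G : Type u} [Group G] [Finite G] {D : Set G}
variable (hD : Cfsg.IsThreeTranspositionGroup D) (hprim : Cfsg.IsPrimitiveUnderConj D)
  (ht : Cfsg.IsOfTypeM22 G D)

include hD hprim ht in
/-- the three classes of outer involutions -/
theorem classes {ψ : MA} (hout : ψ ∉ Cfsg.Inn pres.Grp) (hsq : ψ * ψ = 1) :
    IsConj ψ SS ∨ IsConj ψ (TT tA) ∨ IsConj ψ (TT zz) := by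
  obtain ⟨k, ha, hb⟩ := to_pair hD hprim ht hsq (fun h => hout (h ▸ one_mem _))
  have o1 := conj_outer (cj k) hout
  obtain ⟨χ, n, hn, q, hq, e⟩ := to_rep hD hprim ht o1 (conj_sq _ hsq) ha hb
  obtain ⟨t, ht', hc⟩ := fuse_main hn hq e (conj_sq _ (conj_sq _ hsq))
  have h0 : IsConj ψ (χ * (cj k * ψ * (cj k)⁻¹) * χ⁻¹) :=
    (isConj_iff.mpr ⟨cj k, rfl⟩).trans (isConj_iff.mpr ⟨χ, rfl⟩)
  have h1 := h0.trans hc
  match t, ht' with
  | 0, _ => exact Or.inl (by rwa [show el (tgtW 0) = 1 by simp [tgtW, el], TT_one] at h1)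
  | 1, _ => exact Or.inr (Or.inl (by rwa [show el (tgtW 1) = tA from el_zero] at h1))
  | 2, _ => exact Or.inr (Or.inr (by rwa [show el (tgtW 2) = zz from el_z] at h1))

theorem fixed_count {ψ χ : MA} {l l' : List ℕ} (hl : l.Nodup) (hl' : l'.Nodup)
    (hi : ∀ {p}, p < 3510 → (ptMap ψ p = p ↔ p ∈ l)) (hi' : ∀ {p}, p < 3510 → (ptMap χ p = p ↔ p ∈ l'))
    (hlt : ∀ p ∈ l, p < 3510) (hlt' : ∀ p ∈ l', p < 3510) (h : IsConj ψ χ) : l.length = l'.length := by
  have key : ∀ {ψ χ : MA} {l l' : List ℕ}, l.Nodup → (∀ {p}, p < 3510 → (ptMap ψ p = p ↔ p ∈ l)) →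
      (∀ {p}, p < 3510 → (ptMap χ p = p ↔ p ∈ l')) → (∀ p ∈ l, p < 3510) → IsConj ψ χ → l.length ≤ l'.length := by
    intro ψ χ l l' hl hi hi' hlt h
    obtain ⟨c, hc⟩ := isConj_iff.mp h
    have hsub : (l.map (ptMap c)).Nodup := hl.map_on fun a ha b hb e => by
      have := congrArg (ptMap c⁻¹) e
      rwa [← ptMap_mul, ← ptMap_mul, inv_mul_cancel, ptMap_one (hlt a ha), ptMap_one (hlt b hb)] at this
    have hle : l.map (ptMap c) ⊆ l' := fun y hy => by
      obtain ⟨p, hp, rfl⟩ := List.mem_map.mp hy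
      rw [← hi' (ptMap_lt c p), ← hc, ptMap_mul, ptMap_mul, ← ptMap_mul c⁻¹ c, inv_mul_cancel, ptMap_one (hlt p hp),
        (hi (hlt p hp)).mpr hp]
    have := (List.subperm_of_subset hsub hle).length_le
    rwa [List.length_map] at this
  exact le_antisymm (key hl hi hi' hlt h) (key hl' hi' hi hlt' h.symm)

theorem not_conj : ¬ IsConj SS (TT tA) ∧ ¬ IsConj SS (TT zz) ∧ ¬ IsConj (TT tA) (TT zz) := by
  obtain ⟨n0, n1, n2, l0, l1, l2, -⟩ := lens_fix
  obtain ⟨f0, f1, f2⟩ := fixed_lists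
  refine ⟨fun h => ?_, fun h => ?_, fun h => ?_⟩
  · have := fixed_count n0 n1 fix0_iff fix1_iff (fun p hp => (f0 p hp).1) (fun p hp => (f1 p hp).1) h
    omega
  · have := fixed_count n0 n2 fix0_iff fix2_iff (fun p hp => (f0 p hp).1) (fun p hp => (f2 p hp).1) h
    omega
  · have := fixed_count n1 n2 fix1_iff fix2_iff (fun p hp => (f1 p hp).1) (fun p hp => (f2 p hp).1) h
    omega

end Cfsg.Agent.Spor.M22U.Outv
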