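import Cfsg.Agent.Lib.Spor.M22UOutS
import Cfsg.Agent.Lib.Spor.M22UO8Main

/-!
The fixed-point group of the outer involution and of its first twist.
-/

set_option autoImplicit false
set_option maxRecDepth 100000
set_option linter.unusedSectionVars false
set_option maxHeartbeats 1000000

namespace Cfsg.Agent.Spor.M22U.Outv

open Cfsg.Agent.Spor.CC Cfsg.Agent.Spor.Fi22Cert Cfsg.Agent.Spor.Fi22Cert.U62Act
open Cfsg.Agent.Spor.M22U.Cent
open Cfsg.Agent.Spor.M22U.FixSearch (ptMap ptMap_lt dp_ptMap dp_inj class_map)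
open Cfsg.Agent.Lead.Fi22Two (app appW qW bW pts mem' triv el_append el_rev triv_spec el_z el_zero el_b zz bb zW)
open Cfsg.Agent.Lead.Fi22Two.Aut (cj MA cj_inj conj_cj commute_cj ptMap_mul ptMap_one ptMap_cj)
open ODat

theorem orb_sound {root : ℕ} {ms tgt : List ℕ} {l : List (ℕ × ℕ × ℕ)} {S : Subgroup pres.Grp}
    (hok : orbOK root ms l tgt = true) (hroot : root < 3510) (hms : ∀ m ∈ ms, m < 3510)
    (hS : ∀ e ∈ l, (dp e.2.1 : pres.Grp) ∈ S) : ∀ p ∈ tgt, ∃ g ∈ S, act g root = p := by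
  simp only [orbOK, Bool.and_eq_true, List.all_eq_true, List.mem_range] at hok
  obtain ⟨hst, htgt⟩ := hok
  have key : ∀ i ≤ l.length, ∃ g ∈ S, act g root = spt root l i := by
    intro i
    induction i using Nat.strong_induction_on with
    | _ i ih =>
      intro hi
      rcases Nat.eq_zero_or_pos i with rfl | hpos
      · exact ⟨1, one_mem _, by rw [act_one hroot]; rfl⟩
      · obtain ⟨j, rfl⟩ : ∃ j, i = j + 1 := ⟨i - 1, by omega⟩
        have hj : j < l.length := by omega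
        have hh := hst j hj
        simp only [stepOK, List.getD_eq_getElem _ _ hj, Bool.and_eq_true] at hh
        obtain ⟨⟨h1, h2⟩, h3⟩ := hh
        have hle : (l[j]).2.2 ≤ j := Nat.le_of_ble_eq_true h1
        obtain ⟨g, hg, hgp⟩ := ih (l[j]).2.2 (by omega) (by omega)
        refine ⟨(dp (l[j]).2.1 : pres.Grp) * g, mul_mem (hS _ (List.getElem_mem hj)) hg, ?_⟩
        rw [act_mul _ _ hroot, hgp, ← mev_act (hms _ (memb_iff.mp h2)) (hgp ▸ act_lt g hroot),
          Nat.eq_of_beq_eq_true h3, spt, List.getD_cons_succ,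
          List.getD_eq_getElem _ _ (by simpa using hj), List.getElem_map]
  intro p hp
  obtain ⟨i, hi, rfl⟩ := List.getElem_of_mem (memb_iff.mp (htgt p hp))
  obtain ⟨g, hg, e⟩ := key i (by simpa using Nat.le_of_lt_succ (by simpa using hi))
  exact ⟨g, hg, e.trans (List.getD_eq_getElem _ _ hi)⟩

theorem steps_mem {root : ℕ} {ms tgt : List ℕ} {l : List (ℕ × ℕ × ℕ)} (hok : orbOK root ms l tgt = true) :
    ∀ e ∈ l, e.2.1 ∈ ms := by
  intro e he
  simp only [orbOK, Bool.and_eq_true, List.all_eq_true, List.mem_range] at hok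
  obtain ⟨j, hj, rfl⟩ := List.getElem_of_mem he
  have hh := hok.1 j hj
  simp only [stepOK, List.getD_eq_getElem _ _ hj, Bool.and_eq_true] at hh
  exact memb_iff.mp hh.1.2

theorem act_inv_act (g : pres.Grp) {p : ℕ} (hp : p < 3510) : act g⁻¹ (act g p) = p := by
  rw [← act_mul _ _ hp, inv_mul_cancel, act_one hp]

theorem act_act_inv (g : pres.Grp) {p : ℕ} (hp : p < 3510) : act g (act g⁻¹ p) = p := by
  rw [← act_mul _ _ hp, mul_inv_cancel, act_one hp]

/-- the elements fixed by an automorphism -/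
noncomputable def fixG (ψ : MA) : Subgroup pres.Grp where
  carrier := {g | ψ g = g}
  one_mem' := map_one ψ
  mul_mem' {a b} ha hb := show ψ (a * b) = a * b by rw [map_mul, show ψ a = a from ha, show ψ b = b from hb]
  inv_mem' {a} ha := show ψ a⁻¹ = a⁻¹ by rw [map_inv, show ψ a = a from ha]

theorem mem_fixG {ψ : MA} {g : pres.Grp} : g ∈ fixG ψ ↔ ψ g = g := Iff.rfl

theorem fixG_pt {ψ : MA} {p : ℕ} (hp : p < 3510) : (dp p : pres.Grp) ∈ fixG ψ ↔ ptMap ψ p = p := by
  rw [mem_fixG, ← dp_ptMap]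
  exact ⟨fun h => dp_inj (ptMap_lt _ _) hp h, fun h => by rw [h]⟩

theorem fixG_act {ψ : MA} {g : pres.Grp} (hg : g ∈ fixG ψ) {p : ℕ} (hp : p < 3510) (h : ptMap ψ p = p) :
    ptMap ψ (act g p) = act g p := by
  rw [← fixG_pt hp] at h
  rw [← fixG_pt (act_lt g hp), act_dp pts_ok g hp]
  exact mul_mem (mul_mem hg h) (inv_mem hg)

theorem act_tA {p : ℕ} (hp : p < 3510) : act tA p = ev RepU62.rows 9 [0] p := by
  rw [← el_zero, act_el (by simp) hp]

theorem zW_lt : ∀ a ∈ zW, a < 9 := by decide +kernel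
theorem bW_lt : ∀ a ∈ bW, a < 9 := by decide +kernel

theorem act_bb {p : ℕ} (hp : p < 3510) : act bb p = ev RepU62.rows 9 bW p := by
  rw [← el_b, act_el bW_lt hp]

theorem act_zz {p : ℕ} (hp : p < 3510) : act zz p = ev RepU62.rows 9 [0] (ev RepU62.rows 9 bW p) := by
  rw [show zz = tA * bb from rfl, act_mul _ _ hp, act_tA (act_lt _ hp), act_bb hp]

theorem fixed_lists : (∀ p ∈ fix0, p < 3510 ∧ sT p = p) ∧
    (∀ p ∈ fix1, p < 3510 ∧ sT (ev RepU62.rows 9 [0] p) = p) ∧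
    (∀ p ∈ fix2, p < 3510 ∧ sT (ev RepU62.rows 9 [0] (ev RepU62.rows 9 bW p)) = p) := by
  have h := fixed_ok
  simp only [fixedOK, Bool.and_eq_true, List.all_eq_true] at h
  exact ⟨fun p hp => ⟨Nat.le_of_ble_eq_true (h.1.1 p hp).1, Nat.eq_of_beq_eq_true (h.1.1 p hp).2⟩,
    fun p hp => ⟨Nat.le_of_ble_eq_true (h.1.2 p hp).1, Nat.eq_of_beq_eq_true (h.1.2 p hp).2⟩,
    fun p hp => ⟨Nat.le_of_ble_eq_true (h.2 p hp).1, Nat.eq_of_beq_eq_true (h.2 p hp).2⟩⟩

theorem split_scan {f : ℕ → Bool} (h0 : rangeOK f 0 1755 = true) (h1 : rangeOK f 1755 1755 = true) {p : ℕ}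
    (hp : p < 3510) : f p = true := by
  by_cases h : p < 1755
  · exact all_range (p := f) h0 (Nat.zero_le _) (by omega)
  · exact all_range (p := f) h1 (by omega) (by omega)

theorem fix0_iff {p : ℕ} (hp : p < 3510) : ptMap SS p = p ↔ p ∈ fix0 := by
  rw [ptMap_SS hp]
  refine ⟨fun h => ?_, fun h => (fixed_lists.1 p h).2⟩
  have := split_scan scan0_0 scan0_1 hp
  rw [scan0, h, Nat.beq_refl] at this
  exact memb_iff.mp this

theorem fix1_iff {p : ℕ} (hp : p < 3510) : ptMap (TT tA) p = p ↔ p ∈ fix1 := by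
  rw [ptMap_TT hp, act_tA hp]
  refine ⟨fun h => ?_, fun h => (fixed_lists.2.1 p h).2⟩
  have := split_scan scan1_0 scan1_1 hp
  rw [scan1, h, Nat.beq_refl] at this
  exact memb_iff.mp this

theorem fix2_iff {p : ℕ} (hp : p < 3510) : ptMap (TT zz) p = p ↔ p ∈ fix2 := by
  rw [ptMap_TT hp, act_zz hp]
  refine ⟨fun h => ?_, fun h => (fixed_lists.2.2 p h).2⟩
  have := split_scan scan2_0 scan2_1 hp
  rw [scan2, h, Nat.beq_refl] at this
  exact memb_iff.mp this

theorem apt_mem {i : ℕ} (hi : i < 120) : O8.apt i ∈ O8.aPts := by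
  rw [O8.apt, List.getD_eq_getElem _ _ (O8.lens.1.symm ▸ hi)]; exact List.getElem_mem _

theorem apt_idx {p : ℕ} (hp : p ∈ O8.aPts) : ∃ i < 120, O8.apt i = p := O8.inA_iff
  (List.any_eq_true.mpr ⟨p, hp, Nat.beq_refl _⟩)

theorem A_fix0 {p : ℕ} (hp : p ∈ O8.aPts) : p ∈ fix0 := by
  have h := close_ok
  simp only [closeOK, Bool.and_eq_true, List.all_eq_true] at h
  exact memb_iff.mp (h.1.2 p hp)

theorem A_lt {p : ℕ} (hp : p ∈ O8.aPts) : p < 3510 := (fixed_lists.1 p (A_fix0 hp)).1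

theorem bPt_fix : O8.bPt ∈ fix0 := by decide +kernel

theorem apt_zero : O8.apt 0 = 0 := by decide +kernel

theorem H_fix : O8.H ≤ fixG SS := by
  refine (Subgroup.closure_le _).mpr ?_
  rintro _ ⟨i, hi, rfl⟩
  exact (fixG_pt (A_lt (apt_mem hi))).mpr ((fix0_iff (A_lt (apt_mem hi))).mpr (A_fix0 (apt_mem hi)))

theorem H_keeps {k : pres.Grp} (hk : k ∈ O8.H) {p : ℕ} (hp : p ∈ O8.aPts) : act k p ∈ O8.aPts := by
  obtain ⟨i, hi, rfl⟩ := apt_idx hp
  obtain ⟨q, hq, rfl⟩ := (O8.mem_H_iff k).mp hk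
  obtain ⟨j, hj, h1, -⟩ := O8.gr_acts hq i hi
  rw [h1]; exact apt_mem hj

theorem H_orbit {p : ℕ} (hp : p ∈ O8.aPts) : ∃ k ∈ O8.H, act k 0 = p :=
  orb_sound orbA_ok (by norm_num) (fun _ hm => A_lt hm) (fun e he => by
    obtain ⟨i, hi, e'⟩ := apt_idx (steps_mem orbA_ok e he)
    rw [← e']; exact O8.ad_mem hi) p hp

/-- an element fixed by the involution which fixes the first member keeps the first class -/
theorem keepA {h : pres.Grp} (hh : h ∈ fixG SS) (h0 : act h 0 = 0) {p : ℕ} (hp : p ∈ O8.aPts) :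
    act h p ∈ O8.aPts := by
  have hc := close_ok
  simp only [closeOK, Bool.and_eq_true, List.all_eq_true, List.mem_range, Bool.or_eq_true,
    Bool.not_eq_true'] at hc
  obtain ⟨⟨hnb, -⟩, hbr⟩ := hc
  obtain ⟨i, hi, rfl⟩ := apt_idx hp
  obtain ⟨⟨hc1, hc2⟩, hc3⟩ := hbr i hi
  set c := bridge.getD i 3510
  have hcA := memb_iff.mp hc1
  have hclt := A_lt hcA
  have hplt := A_lt hp
  have fixed : ∀ {g : pres.Grp}, g ∈ fixG SS → ∀ {q}, q ∈ fix0 → act g q ∈ fix0 := fun {g} hg {q} hq =>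
    (fix0_iff (act_lt _ (fixed_lists.1 q hq).1)).mp
      (fixG_act hg (fixed_lists.1 q hq).1 ((fix0_iff (fixed_lists.1 q hq).1).mpr hq))
  have nb : ∀ q ∈ fix0, adjb 0 q = true → q ∈ O8.aPts := fun q hq ha => by
    rcases hnb q hq with h | h
    · rw [ha] at h; exact Bool.noConfusion h
    · exact memb_iff.mp h
  have hq : act h c ∈ O8.aPts := by
    refine nb _ (fixed hh (A_fix0 hcA)) ?_
    conv_lhs => rw [← h0]
    rw [adjb_act pts_ok h (by norm_num) hclt]; exact hc2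
  obtain ⟨k, hk, hkq⟩ := H_orbit hq
  set r := act h (O8.apt i)
  have hrlt : r < 3510 := act_lt _ hplt
  have hr : act k⁻¹ r ∈ O8.aPts := by
    refine nb _ (fixed (inv_mem (H_fix hk)) (fixed hh (A_fix0 hp))) ?_
    have e : act k⁻¹ (act h c) = 0 := by rw [← hkq, act_inv_act k (by norm_num)]
    rw [← e, adjb_act pts_ok _ (act_lt _ hclt) hrlt, adjb_act pts_ok h hclt hplt]; exact hc3
  have := H_keeps hk hr
  rwa [act_act_inv k hrlt] at this

theorem keep_I {h : pres.Grp} (hh : ∀ p ∈ O8.aPts, act h p ∈ O8.aPts) : h ∈ O8.I := by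
  refine O8.gen_conj fun r hr s hs => ?_
  have e : ∀ {r}, r < 8 → ∃ i < 120, h * O8.ad (O8.rt r) * h⁻¹ = O8.ad i := fun {r} hr => by
    obtain ⟨i, hi, e⟩ := apt_idx (hh _ (apt_mem (O8.rt_lt hr)))
    refine ⟨i, hi, ?_⟩
    show h * (dp (O8.apt (O8.rt r)) : pres.Grp) * h⁻¹ = (dp (O8.apt i) : pres.Grp)
    rw [e, act_dp pts_ok h (A_lt (apt_mem (O8.rt_lt hr)))]
  obtain ⟨i, hi, ei⟩ := e hr
  obtain ⟨j, hj, ej⟩ := e hs
  rw [ei, ej]; exact O8.pair_mem hi hj

theorem bd_fix : O8.bd ∈ fixG SS :=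
  (fixG_pt (fixed_lists.1 _ bPt_fix).1).mpr ((fix0_iff (fixed_lists.1 _ bPt_fix).1).mpr bPt_fix)

/-- the elements keeping the first class -/
noncomputable def keepG : Subgroup pres.Grp where
  carrier := {g | ∀ p ∈ O8.aPts, act g p ∈ O8.aPts}
  one_mem' p hp := by rw [act_one (A_lt hp)]; exact hp
  mul_mem' {a b} ha hb p hp := by rw [act_mul _ _ (A_lt hp)]; exact ha _ (hb p hp)
  inv_mem' {a} ha p hp := by
    haveI := order.1
    obtain ⟨n, hn⟩ : a⁻¹ ∈ Submonoid.powers a :=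
      mem_powers_iff_mem_zpowers.mpr (inv_mem (Subgroup.mem_zpowers a))
    change a ^ n = a⁻¹ at hn
    rw [← hn]
    clear hn
    induction n with
    | zero => rw [pow_zero, act_one (A_lt hp)]; exact hp
    | succ n ih => rw [pow_succ', act_mul _ _ (A_lt hp)]; exact ha _ ih

theorem H_le_keep : O8.H ≤ keepG := fun _ hk _ hp => H_keeps hk hp

universe u
variable {G : Type u} [Group G] [Finite G] {D : Set G}
variable (hD : Cfsg.IsThreeTranspositionGroup D) (hprim : Cfsg.IsPrimitiveUnderConj D)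
  (ht : Cfsg.IsOfTypeM22 G D)

include hD hprim ht in
theorem I_eq : O8.I = fixG SS := by
  refine le_antisymm ?_ fun g hg => ?_
  · rw [← (O8.I_facts hD hprim ht).2.1, Subgroup.closure_le]
    rintro x (hx | hx)
    · exact H_fix hx
    · rw [Set.mem_singleton_iff.mp hx]; exact bd_fix
  · have h0 : (0 : ℕ) < 3510 := by norm_num
    have hg0 : act g 0 ∈ fix0 := (fix0_iff (act_lt g h0)).mp
      (fixG_act hg h0 ((fix0_iff h0).mpr (A_fix0 (apt_zero ▸ apt_mem (by norm_num)))))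
    have hms : ∀ m ∈ O8.bPt :: O8.aPts, m < 3510 := fun m hm => by
      rcases List.mem_cons.mp hm with rfl | hm
      · exact (fixed_lists.1 _ bPt_fix).1
      · exact A_lt hm
    obtain ⟨k, ⟨hkI, hkF⟩, hk0⟩ := orb_sound (S := O8.I ⊓ fixG SS) orbI_ok h0 hms (fun e he => by
      rcases List.mem_cons.mp (steps_mem orbI_ok e he) with hm | hm
      · rw [hm]; exact ⟨O8.bd_mem, bd_fix⟩
      · obtain ⟨i, hi, e'⟩ := apt_idx hm
        rw [← e']; exact ⟨O8.H_le_I (O8.ad_mem hi), H_fix (O8.ad_mem hi)⟩) _ hg0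
    have hh : k⁻¹ * g ∈ O8.I := keep_I fun p hp =>
      keepA (mul_mem (inv_mem hkF) hg) (by rw [act_mul _ _ h0, ← hk0, act_inv_act k h0]) hp
    rw [show g = k * (k⁻¹ * g) by group]
    exact mul_mem hkI hh

include hD hprim ht in
theorem keep_H {g : pres.Grp} (hg : ∀ p ∈ O8.aPts, act g p ∈ O8.aPts) : g ∈ O8.H := by
  haveI := order.1
  set N := O8.I ⊓ keepG
  have hle : O8.H ≤ N := le_inf O8.H_le_I H_le_keep
  obtain ⟨⟨φ⟩, -, -⟩ := O8.I_facts hD hprim ht
  obtain ⟨⟨ψ⟩, hcH⟩ := O8.P_iso hD hprim ht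
  obtain ⟨-, hA⟩ := O8.P_simple hD hprim ht
  have hI : Nat.card ↥O8.I = 3 * Nat.card ↥O8.H := by
    rw [Nat.card_congr φ.toEquiv, ← Nat.card_congr (MulAut.congr ψ).toEquiv, hA, hcH]; ring
  obtain ⟨m, hm⟩ := Subgroup.card_dvd_of_le hle
  have hm3 : m ∣ 3 := by
    have := Subgroup.card_dvd_of_le (inf_le_left : N ≤ O8.I)
    rw [hI, hm, mul_comm 3] at this
    exact (Nat.mul_dvd_mul_iff_left Nat.card_pos).mp this
  have hNH : N = O8.H := by
    rcases (Nat.dvd_prime (by norm_num : Nat.Prime 3)).mp hm3 with h | h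
    · exact (Subgroup.eq_of_le_of_card_ge hle (by rw [hm, h, mul_one])).symm
    · exfalso
      have hNI : N = O8.I := Subgroup.eq_of_le_of_card_ge inf_le_left (by rw [hm, h, hI, mul_comm])
      have hb : O8.bd ∈ N := hNI ▸ O8.bd_mem
      have := hb.2 _ (apt_mem (O8.rt_lt (show 0 < 8 by norm_num)))
      have e : act O8.bd (O8.apt (O8.rt 0)) = O8.cImg 0 :=
        Frob.act_dd _ O8.b_ok.1 (A_lt (apt_mem (O8.rt_lt (by norm_num))))
      rw [e] at this
      have h' : O8.inA (O8.cImg 0) = true := List.any_eq_true.mpr ⟨_, this, Nat.beq_refl _⟩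
      rw [O8.b_ok.2.1] at h'
      exact Bool.noConfusion h'
  exact hNH ▸ ⟨keep_I hg, hg⟩

/-- commuting inside the first class, on codes -/
theorem adjA {i j : ℕ} (hi : i < 120) (hj : j < 120) : adjb (O8.apt i) (O8.apt j) = comC i j := by
  obtain ⟨k, hk, h1, h2⟩ := O8.gr_acts (O8.gr_gen hi) j hj
  rw [O8.tv_apply, O8.refl_vec (O8.code_facts hi).2.1] at h2
  have hb : adjb (O8.apt i) (O8.apt j) = true ↔ k = j := by
    rw [adjb_iff pts_ok (A_lt (apt_mem hi)) (A_lt (apt_mem hj))]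
    show Commute (O8.ad i) (dp (O8.apt j) : pres.Grp) ↔ _
    rw [Frob.commute_dp_iff _ (A_lt (apt_mem hj)), h1]
    exact ⟨fun h => O8.apt_inj hk hj h, fun h => by rw [h]⟩
  rw [Bool.eq_iff_iff, hb, comC]
  cases hbc : O8.bc (O8.cd i) (O8.cd j)
  · refine iff_of_true ?_ rfl
    rw [O8.tc, hbc, cond_false] at h2
    exact (O8.vec_inj hj hk h2).symm
  · refine iff_of_false ?_ (by simp)
    rintro rfl
    rw [O8.tc, hbc, cond_true, O8.vec_xor, add_eq_left] at h2
    have h3 := (O8.code_facts hi).2.1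
    have h4 : O8.qq (O8.vecC (O8.cd i)) = 0 := by rw [h2, map_zero]
    rw [O8.qq_vec, h3, cond_true] at h4
    exact one_ne_zero h4

/-- images of an element with given values have the same pattern -/
theorem pat_img {g : pres.Grp} {W : List ℕ} {i : ℕ} {cands : List ℕ} (hu : uniqOK W i cands = true)
    (hW : ∀ w ∈ W, w < 120) (hi : i < 120) (hg : ∀ p ∈ O8.aPts, act g p ∈ O8.aPts)
    (hfix : ∀ w ∈ W, act g (O8.apt w) = O8.apt w) :
    ∃ j ∈ cands, act g (O8.apt i) = O8.apt j := by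
  obtain ⟨j, hj, e⟩ := apt_idx (hg _ (apt_mem hi))
  refine ⟨j, ?_, e.symm⟩
  have h := List.all_eq_true.mp hu j (List.mem_range.mpr hj)
  have hp : samePat W i j = true := by
    simp only [samePat, List.all_eq_true, beq_iff_eq]
    intro w hw
    rw [← adjA (hW w hw) hi, ← adjA (hW w hw) hj, e]
    conv_rhs => rw [← hfix w hw]
    exact (adjb_act pts_ok g (A_lt (apt_mem (hW w hw))) (A_lt (apt_mem hi))).symm
  rw [hp, Bool.not_true, Bool.false_or] at h
  exact memb_iff.mp h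

include hD hprim ht in
theorem fix_roots {g : pres.Grp} (h : ∀ r < 8, act g (O8.apt (O8.rt r)) = O8.apt (O8.rt r)) : g = 1 := by
  refine O8.cent_P hD hprim ht fun a ha => ?_
  have hle : O8.H ≤ Subgroup.centralizer ({g} : Set pres.Grp) := by
    rw [O8.H_roots, Subgroup.closure_le]
    rintro _ ⟨r, hr, rfl⟩
    rw [SetLike.mem_coe, Subgroup.mem_centralizer_singleton_iff]
    exact ((Frob.commute_dp_iff g (A_lt (apt_mem (O8.rt_lt hr)))).mpr (h r hr)).eq.symm
  exact (Subgroup.mem_centralizer_singleton_iff.mp (hle (O8.P_le_H ha))).symm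

/-- the elements fixed by the first twist -/
theorem fixG_TA {g : pres.Grp} : g ∈ fixG (TT tA) ↔ g ∈ fixG SS ∧ Commute g tA := by
  have h0 : (0 : ℕ) < 3510 := by norm_num
  have key : g ∈ fixG (TT tA) ↔ SS (tA * g * tA⁻¹) = g := Iff.rfl
  constructor
  · intro hg
    have hmem : (0 : ℕ) ∈ fix1 := by decide +kernel
    have hg0 : act g 0 ∈ fix1 :=
      (fix1_iff (act_lt g h0)).mp (fixG_act hg h0 ((fix1_iff h0).mpr hmem))
    have hdom : ∀ q ∈ fix1, adjb (act g 0) q = true := by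
      intro q hq
      have hq' : act g⁻¹ q ∈ fix1 := (fix1_iff (act_lt _ (fixed_lists.2.1 q hq).1)).mp
        (fixG_act (inv_mem hg) (fixed_lists.2.1 q hq).1 ((fix1_iff (fixed_lists.2.1 q hq).1).mpr hq))
      have hz : adjb 0 (act g⁻¹ q) = true := by
        have : ∀ p ∈ fix1, adjb 0 p = true := by decide +kernel
        exact this _ hq'
      rw [← adjb_act pts_ok g h0 (fixed_lists.2.1 _ hq').1, act_act_inv g (fixed_lists.2.1 q hq).1] at hz
      exact hz
    obtain ⟨i, hi, e⟩ := List.getElem_of_mem hg0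
    have h := dom_ok
    simp only [domOK, List.all_eq_true, List.mem_range] at h
    have h' := h i hi
    rw [List.getD_eq_getElem _ _ hi, e, Bool.or_eq_true, Bool.and_eq_true, Bool.not_eq_true'] at h'
    rcases h' with h' | ⟨h1, h2⟩
    · have hc : Commute g tA := by
        rw [← Lead.Fi22Two.dp_zero, Frob.commute_dp_iff g h0, Nat.eq_of_beq_eq_true h']
      refine ⟨?_, hc⟩
      rw [key, show tA * g * tA⁻¹ = g by rw [← hc.eq, mul_inv_cancel_right]] at hg
      exact hg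
    · rw [hdom _ (memb_iff.mp h1)] at h2; exact Bool.noConfusion h2
  · rintro ⟨hg, hc⟩
    rw [key, show tA * g * tA⁻¹ = g by rw [← hc.eq, mul_inv_cancel_right]]
    exact hg

end Cfsg.Agent.Spor.M22U.Outv
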