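import Cfsg.Agent.Lib.Spor.M22UOutI
import Cfsg.Agent.Lib.Spor.M22UOutChecksB
import Cfsg.Agent.Lib.Spor.M22UOutChecksC
import Cfsg.Agent.Lib.Lead.Fi22Two.Cent

/-!
The fixed-point group of the second twist.
-/

set_option autoImplicit false
set_option maxRecDepth 100000
set_option linter.unusedSectionVars false
set_option maxHeartbeats 1000000

namespace Cfsg.Agent.Spor.M22U.Outv

open Cfsg.Agent.Spor.CC Cfsg.Agent.Spor.Fi22Cert Cfsg.Agent.Spor.Fi22Cert.U62Act
open Cfsg.Agent.Spor.M22U.Cent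
open Cfsg.Agent.Spor.M22U.FixSearch (ptMap ptMap_lt dp_ptMap dp_inj)
open Cfsg.Agent.Lead.Fi22Two (app bW bb zz qm I6 O6 mv mat vec enc pos mv_mul mv_one mv_ext vec_enc enc_vec enc_lt)
open Cfsg.Agent.Lead.Fi22Two.Aut (cj MA)
open ODat

/-- the group generated by the twelve -/
noncomputable def KK : Subgroup pres.Grp :=
  Subgroup.closure (Set.range fun k : Fin 12 => (dp (r12p k) : pres.Grp))

theorem r12p_mem {k : ℕ} (hk : k < 12) : r12p k ∈ r12 := by
  rw [r12p, List.getD_eq_getElem _ _ (r12_mem.2.symm ▸ hk)]; exact List.getElem_mem _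

theorem r12_fix2 {p : ℕ} (hp : p ∈ r12) : p ∈ fix2 := memb_iff.mp (List.all_eq_true.mp r12_mem.1 p hp)

theorem f2_lt {p : ℕ} (hp : p ∈ fix2) : p < 3510 := (fixed_lists.2.2 p hp).1

theorem mem_r12 {p : ℕ} (hp : p ∈ r12) : (dp p : pres.Grp) ∈ KK := by
  obtain ⟨k, hk, e⟩ := List.getElem_of_mem hp
  refine Subgroup.subset_closure ⟨⟨k, r12_mem.2 ▸ hk⟩, ?_⟩
  show (dp (r12p k) : pres.Grp) = dp p
  rw [r12p, List.getD_eq_getElem _ _ hk, e]

theorem twelve {P : ℕ → Prop} (h0 : ∀ p ∈ r12, P p)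
    (hs : ∀ m ∈ r12, ∀ q, q < 3510 → P q → P (mev m q)) : ∀ p ∈ fix2, P p := by
  obtain ⟨hst, htgt⟩ := orb12_ok
  set L := r12 ++ steps12.map Prod.fst with hL
  have hlen : L.length = 12 + steps12.length := by simp [hL, r12_mem.2]
  have key : ∀ i < L.length, L.getD i 3510 < 3510 ∧ P (L.getD i 3510) := by
    intro i
    induction i using Nat.strong_induction_on with
    | _ i ih =>
      intro hi
      rcases lt_or_ge i 12 with h | h
      · have e : L.getD i 3510 = r12p i := by rw [hL, r12p, List.getD_append _ _ _ _ (r12_mem.2.symm ▸ h)]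
        rw [e]; exact ⟨f2_lt (r12_fix2 (r12p_mem h)), h0 _ (r12p_mem h)⟩
      · obtain ⟨j, rfl⟩ : ∃ j, i = 12 + j := ⟨i - 12, by omega⟩
        have hj : j < steps12.length := by omega
        have hh := List.all_eq_true.mp hst j (List.mem_range.mpr hj)
        simp only [List.getD_eq_getElem _ _ hj, Bool.and_eq_true] at hh
        obtain ⟨⟨h1, h2⟩, h3⟩ := hh
        have hlt : (steps12[j]).2.2 < 12 + j := by have := Nat.le_of_ble_eq_true h1; omega
        obtain ⟨hq, hP⟩ := ih _ hlt (by omega)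
        have e : L.getD (12 + j) 3510 = (steps12[j]).1 := by
          rw [hL, List.getD_append_right _ _ _ _ (by rw [r12_mem.2]; omega), r12_mem.2, Nat.add_sub_cancel_left,
            List.getD_eq_getElem _ _ (by simpa using hj), List.getElem_map]
        rw [e, ← Nat.eq_of_beq_eq_true h3]
        exact ⟨mev_lt (f2_lt (r12_fix2 (memb_iff.mp h2))) hq, hs _ (memb_iff.mp h2) _ hq hP⟩
  intro p hp
  obtain ⟨i, hi, rfl⟩ := List.getElem_of_mem (memb_iff.mp (List.all_eq_true.mp htgt p hp))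
  have := (key i hi).2
  rwa [List.getD_eq_getElem _ _ hi] at this

theorem mem_KK {p : ℕ} (hp : p ∈ fix2) : (dp p : pres.Grp) ∈ KK := by
  refine twelve (P := fun p => (dp p : pres.Grp) ∈ KK) (fun p hp => mem_r12 hp) (fun m hm q hq hP => ?_) p hp
  have hm' := f2_lt (r12_fix2 hm)
  rw [mev_act hm' hq, act_dp pts_ok _ hq]
  exact mul_mem (mul_mem (mem_r12 hm) hP) (inv_mem (mem_r12 hm))

theorem KK_le : KK ≤ fixG (TT zz) := by
  refine (Subgroup.closure_le _).mpr ?_
  rintro _ ⟨k, rfl⟩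
  have h := r12_fix2 (r12p_mem k.2)
  exact (fixG_pt (f2_lt h)).mpr ((fix2_iff (f2_lt h)).mpr h)

theorem f2_act {g : pres.Grp} (hg : g ∈ fixG (TT zz)) {p : ℕ} (hp : p ∈ fix2) : act g p ∈ fix2 :=
  (fix2_iff (act_lt g (f2_lt hp))).mp (fixG_act hg (f2_lt hp) ((fix2_iff (f2_lt hp)).mpr hp))

theorem f2_small : ((0 : ℕ) ∈ fix2 ∧ (6 : ℕ) ∈ fix2) ∧ (∀ p ∈ fix2, memb fix2 (twinOf p) = true) ∧ twinOf 0 = 6 ∧
    (∀ r ∈ fix2, r = 0 ∨ r = 6 ∨ adjb 0 r = adjb 6 r) ∧ adjb 0 6 = true := by decide +kernel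

theorem twin_mem {p : ℕ} (hp : p ∈ fix2) : twinOf p ∈ fix2 := memb_iff.mp (f2_small.2.1 p hp)

/-- the elements respecting twins -/
noncomputable def twinG : Subgroup pres.Grp where
  carrier := {g | ∀ p ∈ fix2, act g p ∈ fix2 ∧ act g (twinOf p) = twinOf (act g p)}
  one_mem' p hp := by rw [act_one (f2_lt hp), act_one (f2_lt (twin_mem hp))]; exact ⟨hp, rfl⟩
  mul_mem' {a b} ha hb p hp := by
    rw [act_mul _ _ (f2_lt hp), act_mul _ _ (f2_lt (twin_mem hp)), (hb p hp).2]
    exact ha _ (hb p hp).1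
  inv_mem' {a} ha := by
    haveI := order.1
    obtain ⟨n, hn⟩ : a⁻¹ ∈ Submonoid.powers a :=
      mem_powers_iff_mem_zpowers.mpr (inv_mem (Subgroup.mem_zpowers a))
    change a ^ n = a⁻¹ at hn
    rw [← hn]
    clear hn
    induction n with
    | zero =>
      intro p hp
      rw [pow_zero, act_one (f2_lt hp), act_one (f2_lt (twin_mem hp))]; exact ⟨hp, rfl⟩
    | succ n ih =>
      intro p hp
      rw [pow_succ', act_mul _ _ (f2_lt hp), act_mul _ _ (f2_lt (twin_mem hp)), (ih p hp).2]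
      exact ha _ (ih p hp).1

theorem KK_twin : KK ≤ twinG := by
  refine (Subgroup.closure_le _).mpr ?_
  rintro _ ⟨k, rfl⟩ p hp
  have h := twinStep_ok
  simp only [twinStepOK, List.all_eq_true, Bool.and_eq_true] at h
  have hm := r12_fix2 (r12p_mem k.2)
  rw [← mev_act (f2_lt hm) (f2_lt hp), ← mev_act (f2_lt hm) (f2_lt (twin_mem hp))]
  exact ⟨memb_iff.mp (h _ (r12p_mem k.2) p hp).1, Nat.eq_of_beq_eq_true (h _ (r12p_mem k.2) p hp).2⟩

theorem KK_orbit {p : ℕ} (hp : p ∈ fix2) : ∃ k ∈ KK, act k 0 = p :=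
  orb_sound orbL_ok (by norm_num) (fun _ hm => f2_lt (r12_fix2 hm))
    (fun e he => mem_r12 (steps_mem orbL_ok e he)) p hp

theorem stab_six {g : pres.Grp} (hg : g ∈ fixG (TT zz)) (h0 : act g 0 = 0) : act g 6 = 6 := by
  obtain ⟨⟨m0, m6⟩, -, -, hadj, h06⟩ := f2_small
  set q := act g 6
  have hq : q ∈ fix2 := f2_act hg m6
  have hne : q ≠ 0 := fun h => by
    have := act_inv_act g (show (6 : ℕ) < 3510 by norm_num)
    rw [show act g 6 = 0 from h] at this
    conv_lhs at this => rw [← h0]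
    rw [act_inv_act g (by norm_num)] at this
    omega
  have hcomm : adjb 0 q = true := by
    rw [← h0, adjb_act pts_ok g (by norm_num) (by norm_num)]; exact h06
  have h := twinZero_ok
  simp only [twinZeroOK, Bool.and_eq_true, List.all_eq_true, Bool.or_eq_true, Bool.not_eq_true',
    List.any_eq_true, bne_iff_ne] at h
  rcases h.2 q hq with (h1 | h1) | ⟨e, -, -, h1⟩
  · exact absurd (Nat.eq_of_beq_eq_true h1) hne
  · rw [hcomm] at h1; exact Bool.noConfusion h1
  rcases h1 with h1 | ⟨⟨⟨hm, hn0⟩, hnq⟩, hd⟩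
  · exact Nat.eq_of_beq_eq_true h1
  · exfalso
    have hmf := memb_iff.mp hm
    set r := act g⁻¹ e.2
    have hr : r ∈ fix2 := f2_act (inv_mem hg) hmf
    have hgr : act g r = e.2 := act_act_inv g (f2_lt hmf)
    rcases hadj r hr with h2 | h2 | h2
    · rw [h2, h0] at hgr; rw [← hgr, Nat.beq_refl] at hn0; exact Bool.noConfusion hn0
    · rw [h2] at hgr; rw [← hgr, Nat.beq_refl] at hnq; exact Bool.noConfusion hnq
    · apply hd
      rw [← hgr]
      conv_lhs => rw [← h0, adjb_act pts_ok g (by norm_num) (f2_lt hr), h2]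
      rw [adjb_act pts_ok g (by norm_num) (f2_lt hr)]

theorem twin_act {g : pres.Grp} (hg : g ∈ fixG (TT zz)) {p : ℕ} (hp : p ∈ fix2) :
    act g (twinOf p) = twinOf (act g p) := by
  obtain ⟨⟨m0, m6⟩, -, ht0, -⟩ := f2_small
  obtain ⟨k, hk, hkp⟩ := KK_orbit hp
  obtain ⟨l, hl, hlp⟩ := KK_orbit (f2_act hg hp)
  have h6 : act (l⁻¹ * g * k) 6 = 6 := stab_six (mul_mem (mul_mem (inv_mem (KK_le hl)) hg) (KK_le hk)) (by
    rw [act_mul _ _ (by norm_num), hkp, act_mul _ _ (f2_lt hp), ← hlp, act_inv_act l (by norm_num)])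
  have e1 := (KK_twin hk 0 m0).2
  have e2 := (KK_twin hl 0 m0).2
  rw [ht0, hkp] at e1
  rw [ht0, hlp] at e2
  rw [← e2, ← e1]
  conv_rhs => rw [← h6]
  rw [mul_assoc, act_mul l⁻¹ _ (by norm_num), act_act_inv l (act_lt _ (by norm_num)), act_mul g k (by norm_num)]

universe u
variable {G : Type u} [Group G] [Finite G] {D : Set G}
variable (hD : Cfsg.IsThreeTranspositionGroup D) (hprim : Cfsg.IsPrimitiveUnderConj D)
  (ht : Cfsg.IsOfTypeM22 G D)

theorem dom2_fixed : ∀ w ∈ dom2, ev RepU62.rows 9 [0] (O8.apt w) = O8.apt w ∧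
    ev RepU62.rows 9 bW (O8.apt w) = O8.apt w := by decide +kernel

include hD hprim ht in
/-- an element fixing every member of the second twist is trivial -/
theorem stab_all {g : pres.Grp} (hg : g ∈ fixG (TT zz)) (hf : ∀ p ∈ fix2, act g p = p) : g = 1 := by
  obtain ⟨⟨m0, m6⟩, -⟩ := f2_small
  have hc0 : Commute g tA := by
    rw [← Lead.Fi22Two.dp_zero, Frob.commute_dp_iff g (by norm_num)]; exact hf 0 m0
  have hc6 : Commute g bb := (Frob.commute_dp_iff g (by norm_num)).mpr (hf 6 m6)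
  have hS : g ∈ fixG SS := by
    rw [mem_fixG] at hg ⊢
    have e : SS (zz * g * zz⁻¹) = g := hg
    rwa [← (hc0.mul_right hc6).eq, mul_inv_cancel_right] at e
  have hbA : ∀ q ∈ O8.aPts, act bb q ∈ O8.aPts := fun q hq =>
    keepA ((fixG_pt (by norm_num)).mpr ((fix0_iff (by norm_num)).mpr (by decide +kernel)))
      (by rw [act_bb (by norm_num)]; decide +kernel) hq
  have hA0 : ∀ q ∈ O8.aPts, act tA q ∈ O8.aPts := fun q hq =>
    keepA (by rw [← Lead.Fi22Two.dp_zero]; exact (fixG_pt (by norm_num)).mpr ((fix0_iff (by norm_num)).mpr (by decide +kernel)))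
      (by rw [act_tA (by norm_num)]; decide +kernel) hq
  have hgA : ∀ q ∈ O8.aPts, act g q ∈ O8.aPts := fun q hq => keepA hS (hf 0 m0) hq
  have hd2 : ∀ i ∈ dom2, i < 120 := fun i hi => Nat.le_of_ble_eq_true (List.all_eq_true.mp dom_mem.2.2 i hi)
  have hlt : ∀ {q}, q < 120 → O8.apt q < 3510 := fun hq => A_lt (apt_mem hq)
  have hw : ∀ w ∈ dom2, O8.apt w ∈ fix2 := fun w hw => by
    have h := List.all_eq_true.mp dom_mem.1 w (List.mem_range.mpr (hd2 w hw))
    rw [Bool.and_eq_true, memb_iff.mpr hw, Bool.not_true, Bool.false_or] at h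
    exact memb_iff.mp h.2
  obtain ⟨-, -, hu3, hu4, hu5⟩ := uniq_ok
  obtain ⟨hx, hax, hbx, hby, mv1, mva, mv2, mvb, mv3, mvz⟩ := xy_ok
  have hxlt : ∀ k < 4, xy.getD k 0 < 120 := by decide +kernel
  have fin : ∀ h : pres.Grp, (∀ q ∈ O8.aPts, act h q ∈ O8.aPts) → (∀ w ∈ dom2, act h (O8.apt w) = O8.apt w) →
      act h (O8.apt (xy.getD 0 0)) = O8.apt (xy.getD 0 0) → h = 1 ∨ h = bb := by
    intro h hA hfix hhx
    have hW : ∀ w ∈ xy.getD 0 0 :: dom2, w < 120 := fun w hw => by
      rcases List.mem_cons.mp hw with rfl | hw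
      exacts [hxlt 0 (by norm_num), hd2 w hw]
    have done : ∀ h : pres.Grp, (∀ q ∈ O8.aPts, act h q ∈ O8.aPts) → (∀ w ∈ dom2, act h (O8.apt w) = O8.apt w) →
        act h (O8.apt (xy.getD 0 0)) = O8.apt (xy.getD 0 0) →
        act h (O8.apt (xy.getD 2 0)) = O8.apt (xy.getD 2 0) → h = 1 := by
      intro h hA hfix hhx hhy
      refine fix_roots hD hprim ht fun r hr => ?_
      obtain ⟨j, hj, e⟩ := pat_img (List.all_eq_true.mp hu5 r (List.mem_range.mpr hr)) (fun w hw => by
        rcases List.mem_cons.mp hw with rfl | hw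
        exacts [hxlt 2 (by norm_num), hW w hw]) (O8.rt_lt hr) hA (fun w hw => by
        rcases List.mem_cons.mp hw with rfl | hw
        · exact hhy
        rcases List.mem_cons.mp hw with rfl | hw
        exacts [hhx, hfix w hw])
      rw [e, List.mem_singleton.mp hj]
    obtain ⟨j, hj, e⟩ := pat_img hu4 hW (hxlt 2 (by norm_num)) hA (fun w hw => by
      rcases List.mem_cons.mp hw with rfl | hw
      exacts [hhx, hfix w hw])
    rcases List.mem_cons.mp hj with rfl | hj
    · exact Or.inl (done h hA hfix hhx e)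
    · right
      rw [List.mem_singleton.mp hj] at e
      have hbb : bb * bb = 1 := Lead.Fi22Two.bb_sq
      have hb1 : act bb (O8.apt (xy.getD 0 0)) = O8.apt (xy.getD 0 0) := by
        rw [act_bb (hlt (hxlt 0 (by norm_num)))]; exact Nat.eq_of_beq_eq_true hbx
      have hb2 : act bb (O8.apt (xy.getD 2 0)) = O8.apt (xy.getD 3 0) := by
        rw [act_bb (hlt (hxlt 2 (by norm_num)))]; exact Nat.eq_of_beq_eq_true hby
      have h' := done (bb * h) (fun q hq => by rw [act_mul _ _ (A_lt hq)]; exact hbA _ (hA q hq))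
        (fun w hw => by rw [act_mul _ _ (hlt (hd2 w hw)), hfix w hw, act_bb (hlt (hd2 w hw)), (dom2_fixed w hw).2])
        (by rw [act_mul _ _ (hlt (hxlt 0 (by norm_num))), hhx, hb1])
        (by rw [act_mul _ _ (hlt (hxlt 2 (by norm_num))), e, ← hb2, ← act_mul _ _ (hlt (hxlt 2 (by norm_num))), hbb,
              act_one (hlt (hxlt 2 (by norm_num)))])
      rw [eq_inv_of_mul_eq_one_right h', inv_eq_of_mul_eq_one_right hbb]
  have hfix : ∀ w ∈ dom2, act g (O8.apt w) = O8.apt w := fun w h => hf _ (hw w h)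
  obtain ⟨j, hj, e⟩ := pat_img hu3 hd2 (hxlt 0 (by norm_num)) hgA hfix
  have hcases : g = 1 ∨ g = bb ∨ g = tA ∨ g = zz := by
    rcases List.mem_cons.mp hj with rfl | hj
    · rcases fin g hgA hfix e with h | h
      exacts [Or.inl h, Or.inr (Or.inl h)]
    · rw [List.mem_singleton.mp hj] at e
      have htt : tA * tA = 1 := Lead.Fi22Two.tA_sq
      have ha1 : act tA (O8.apt (xy.getD 0 0)) = O8.apt (xy.getD 1 0) := by
        rw [act_tA (hlt (hxlt 0 (by norm_num)))]; exact Nat.eq_of_beq_eq_true hax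
      rcases fin (tA * g) (fun q hq => by rw [act_mul _ _ (A_lt hq)]; exact hA0 _ (hgA q hq))
          (fun w hw => by rw [act_mul _ _ (hlt (hd2 w hw)), hfix w hw, act_tA (hlt (hd2 w hw)), (dom2_fixed w hw).1])
          (by rw [act_mul _ _ (hlt (hxlt 0 (by norm_num))), e, ← ha1, ← act_mul _ _ (hlt (hxlt 0 (by norm_num))), htt,
                act_one (hlt (hxlt 0 (by norm_num)))]) with h | h
      · refine Or.inr (Or.inr (Or.inl ?_))
        rw [eq_inv_of_mul_eq_one_right h, inv_eq_of_mul_eq_one_right htt]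
      · refine Or.inr (Or.inr (Or.inr ?_))
        rw [show zz = tA * bb from rfl, ← h, ← mul_assoc, htt, one_mul]
  have hmv : ∀ {k : ℕ}, memb fix2 k = true → act g k = k ∧ k < 3510 := fun h =>
    ⟨hf _ (memb_iff.mp h), f2_lt (memb_iff.mp h)⟩
  rcases hcases with rfl | rfl | rfl | rfl
  · rfl
  · obtain ⟨h1, h2⟩ := hmv mv2
    rw [act_bb h2] at h1; rw [h1, Nat.beq_refl] at mvb; exact Bool.noConfusion mvb
  · obtain ⟨h1, h2⟩ := hmv mv1
    rw [act_tA h2] at h1; rw [h1, Nat.beq_refl] at mva; exact Bool.noConfusion mva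
  · obtain ⟨h1, h2⟩ := hmv mv3
    rw [act_zz h2] at h1; rw [h1, Nat.beq_refl] at mvz; exact Bool.noConfusion mvz

theorem bs_facts : (∀ i < 6, ∀ j < i, bs i ≠ bs j ∧ bs i ≠ twinOf (bs j)) ∧
    (∀ p ∈ r12, (List.range 6).any (fun i => Nat.beq p (bs i) || Nat.beq p (twinOf (bs i))) = true) := by
  decide +kernel

theorem stage_ok {i : ℕ} (hi : i < 6) : stageOK i = true := by
  match i, hi with
  | 0, _ => exact stage0
  | 1, _ => exact stage1
  | 2, _ => exact stage2
  | 3, _ => exact stage3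
  | 4, _ => exact stage4
  | 5, _ => exact stage5

/-- the stabiliser of the earlier base points -/
noncomputable def stabB (i : ℕ) : Subgroup pres.Grp where
  carrier := {g | ∀ j < i, bs j < 3510 → act g (bs j) = bs j}
  one_mem' j _ h := act_one h
  mul_mem' {a b} ha hb j hj h := by rw [act_mul _ _ h, hb j hj h, ha j hj h]
  inv_mem' {a} ha j hj h := by
    conv_lhs => rw [← ha j hj h]
    exact act_inv_act a h

theorem reduce_bs {g : pres.Grp} (hg : g ∈ fixG (TT zz)) :
    ∀ i ≤ 6, ∃ k ∈ KK, ∀ j < i, act (k⁻¹ * g) (bs j) = bs j := by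
  intro i
  induction i with
  | zero => exact fun _ => ⟨1, one_mem _, fun j hj => absurd hj (Nat.not_lt_zero j)⟩
  | succ i ih =>
    intro hi
    obtain ⟨k, hk, hkf⟩ := ih (by omega)
    have hbs : ∀ j < 6, bs j ∈ fix2 := fun j hj => by
      have h := stage_ok hj
      simp only [stageOK, Bool.and_eq_true] at h
      exact r12_fix2 (memb_iff.mp h.1.1.1)
    have hst := stage_ok (show i < 6 by omega)
    simp only [stageOK, Bool.and_eq_true, List.all_eq_true, Bool.or_eq_true, List.any_eq_true, List.mem_range,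
      bne_iff_ne] at hst
    obtain ⟨⟨⟨-, hsteps⟩, horb⟩, hcand⟩ := hst
    set h := k⁻¹ * g
    have hh : h ∈ fixG (TT zz) := mul_mem (inv_mem (KK_le hk)) hg
    have hi' : bs i ∈ fix2 := hbs i (by omega)
    have hp : act h (bs i) ∈ fix2 := f2_act hh hi'
    have inj : ∀ {q}, q < 3510 → act h (bs i) = act h q → bs i = q := fun {q} hq e => by
      have := congrArg (act h⁻¹) e
      rwa [act_inv_act h (f2_lt hi'), act_inv_act h hq] at this
    have hc : act h (bs i) ∈ cand i := by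
      rcases hcand _ hp with hc | ⟨j, hj, hc⟩
      · exact memb_iff.mp hc
      · exfalso
        have hbj := hbs j (by omega)
        rcases hc with (hc | hc) | hc
        · rw [Nat.eq_of_beq_eq_true hc] at inj
          exact (bs_facts.1 i (by omega) j hj).1 (inj (f2_lt hbj) (hkf j hj).symm)
        · rw [Nat.eq_of_beq_eq_true hc] at inj
          refine (bs_facts.1 i (by omega) j hj).2 (inj (f2_lt (twin_mem hbj)) ?_)
          rw [twin_act hh hbj, hkf j hj]
        · apply hc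
          conv_lhs => rw [← hkf j hj]
          exact adjb_act pts_ok h (f2_lt hbj) (f2_lt hi')
    obtain ⟨m, ⟨hm1, hm2⟩, hm⟩ := orb_sound (S := KK ⊓ stabB i) horb (f2_lt hi') (fun _ hm => f2_lt hm)
      (fun e he => by
        obtain ⟨he1, he2⟩ := hsteps e he
        refine ⟨mem_KK (memb_iff.mp he1), fun j hj hlt => ?_⟩
        simp only [earlier, List.all_eq_true, List.mem_range] at he2
        rw [← Frob.commute_dp_iff _ hlt]
        exact (adjb_iff pts_ok (f2_lt (memb_iff.mp he1)) hlt).mp (he2 j hj))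
      _ hc
    refine ⟨k * m, mul_mem hk hm1, fun j hj => ?_⟩
    have hbj : bs j < 3510 := f2_lt (hbs j (by omega))
    rw [show (k * m)⁻¹ * g = m⁻¹ * h by simp only [h]; group, act_mul _ _ hbj]
    rcases Nat.lt_succ_iff_lt_or_eq.mp hj with hj | rfl
    · rw [hkf j hj]
      exact (stabB i).inv_mem hm2 j hj hbj
    · rw [← hm, act_inv_act m hbj]

theorem fix12 {h : pres.Grp} (hh : h ∈ fixG (TT zz)) (h12 : ∀ p ∈ r12, act h p = p) :
    ∀ p ∈ fix2, act h p = p := by
  refine twelve (P := fun p => act h p = p) h12 fun m hm q hq hP => ?_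
  have hm' := f2_lt (r12_fix2 hm)
  have hc : Commute h (dp m : pres.Grp) := (Frob.commute_dp_iff h hm').mpr (h12 m hm)
  rw [mev_act hm' hq, ← act_mul _ _ hq, hc.eq, act_mul _ _ hq, hP]

include hD hprim ht in
theorem KK_eq : KK = fixG (TT zz) := by
  refine le_antisymm KK_le fun g hg => ?_
  obtain ⟨k, hk, hkf⟩ := reduce_bs hg 6 le_rfl
  have hh : k⁻¹ * g ∈ fixG (TT zz) := mul_mem (inv_mem (KK_le hk)) hg
  have h1 : k⁻¹ * g = 1 := stab_all hD hprim ht hh (fix12 hh fun p hp => by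
    obtain ⟨i, hi, h⟩ := List.any_eq_true.mp (bs_facts.2 p hp)
    have hi' : i < 6 := List.mem_range.mp hi
    have hb : bs i ∈ fix2 := by
      have h := stage_ok hi'
      simp only [stageOK, Bool.and_eq_true] at h
      exact r12_fix2 (memb_iff.mp h.1.1.1)
    rcases Bool.or_eq_true _ _ ▸ h with h | h
    · rw [Nat.eq_of_beq_eq_true h]; exact hkf i hi'
    · rw [Nat.eq_of_beq_eq_true h, twin_act hh hb, hkf i hi'])
  rw [← inv_mul_eq_one.mp h1]; exact hk

/-! ### the isometries of the pairs -/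

theorem refl_mat : ∀ k < 6, mat (reflCols.getD k []) * mat (reflCols.getD k []) = 1 ∧
    ∀ v : I6 → ZMod 2, qm ((mat (reflCols.getD k [])).mulVec v) = qm v ∧
      enc ((mat (reflCols.getD k [])).mulVec v) = app (reflCols.getD k []) (enc v) := by
  decide +kernel

/-- the transvection of a root -/
noncomputable def runit (k : Fin 6) : (Matrix I6 I6 (ZMod 2))ˣ :=
  ⟨mat (reflCols.getD k.val []), mat (reflCols.getD k.val []), (refl_mat k.val k.2).1, (refl_mat k.val k.2).1⟩

/-- the isometry of a root -/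
noncomputable def riso (k : Fin 6) : O6 := ⟨runit k, fun v _ => ((refl_mat k.val k.2).2 v).1⟩

theorem enc_riso (k : Fin 6) (v : I6 → ZMod 2) : enc (mv (riso k) v) = app (reflCols.getD k.val []) (enc v) :=
  ((refl_mat k.val k.2).2 v).2

/-- an element moves the pairs as an isometry -/
def Rel2 (x : pres.Grp) (M : O6) : Prop :=
  ∀ j < 36, ∃ i < 36, enc (mv M (vec (code6 j))) = code6 i ∧ (act x (ppt j) = ppt i ∨ act x (ppt j) = qpt i)

theorem pair_facts : (∀ j < 36, code6 j < 64) ∧ (∀ j < 36, ppt j ∈ fix2 ∧ qpt j ∈ fix2) ∧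
    (∀ j < 36, twinOf (ppt j) = qpt j ∧ twinOf (qpt j) = ppt j) := by
  have h := pairAct_ok
  simp only [pairActOK, Bool.and_eq_true, List.all_eq_true, List.mem_range] at h
  exact ⟨fun j hj => Nat.le_of_ble_eq_true (h.1 j hj).2,
    fun j hj => ⟨memb_iff.mp (h.1 j hj).1.1.1.1.1, memb_iff.mp (h.1 j hj).1.1.1.1.2⟩,
    fun j hj => ⟨Nat.eq_of_beq_eq_true (h.1 j hj).1.1.1.2, Nat.eq_of_beq_eq_true (h.1 j hj).1.1.2⟩⟩

theorem pair_inj : ∀ i < 36, ∀ j < 36, (ppt i = ppt j ∨ ppt i = qpt j ∨ qpt i = ppt j ∨ qpt i = qpt j) → i = j := by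
  decide +kernel

theorem rel2_one : Rel2 1 1 := fun j hj => ⟨j, hj, by rw [mv_one, enc_vec _ (pair_facts.1 j hj)],
  Or.inl (act_one (f2_lt (pair_facts.2.1 j hj).1))⟩

theorem rel2_mul {x y : pres.Grp} {M N : O6} (hx : x ∈ KK) (h : Rel2 x M) (h' : Rel2 y N) :
    Rel2 (x * y) (M * N) := by
  intro j hj
  obtain ⟨i, hi, e1, e2⟩ := h' j hj
  obtain ⟨l, hl, f1, f2⟩ := h i hi
  refine ⟨l, hl, ?_, ?_⟩
  · rw [mv_mul, ← vec_enc (mv N (vec (code6 j))), e1, f1]
  · rw [act_mul _ _ (f2_lt (pair_facts.2.1 j hj).1)]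
    rcases e2 with e2 | e2 <;> rw [e2]
    · exact f2
    · rw [← (pair_facts.2.2 i hi).1, twin_act (KK_le hx) (pair_facts.2.1 i hi).1]
      rcases f2 with f2 | f2 <;> rw [f2]
      · exact Or.inr (pair_facts.2.2 l hl).1
      · exact Or.inl (pair_facts.2.2 l hl).2

/-- pairs of an element and its isometry -/
noncomputable def R2 : Subgroup (pres.Grp × O6) :=
  Subgroup.closure (Set.range fun k : Fin 12 =>
    ((dp (r12p k) : pres.Grp), riso ⟨k.val % 6, Nat.mod_lt _ (by norm_num)⟩))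

theorem R2_spec {u : pres.Grp × O6} (hu : u ∈ R2) : u.1 ∈ KK ∧ Rel2 u.1 u.2 := by
  haveI := order.1
  have step : ∀ a : pres.Grp × O6, (a.1 ∈ KK ∧ Rel2 a.1 a.2) → (a⁻¹.1 ∈ KK ∧ Rel2 a⁻¹.1 a⁻¹.2) := by
    intro a ha
    obtain ⟨n, hn⟩ : a⁻¹ ∈ Submonoid.powers a :=
      mem_powers_iff_mem_zpowers.mpr (inv_mem (Subgroup.mem_zpowers a))
    change a ^ n = a⁻¹ at hn
    rw [← hn]
    clear hn
    induction n with
    | zero => rw [pow_zero]; exact ⟨one_mem _, rel2_one⟩
    | succ n ih => rw [pow_succ]; exact ⟨mul_mem ih.1 ha.1, rel2_mul ih.1 ih.2 ha.2⟩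
  refine Subgroup.closure_induction ?_ ⟨one_mem _, rel2_one⟩ ?_ ?_ hu
  · rintro _ ⟨k, rfl⟩
    refine ⟨Subgroup.subset_closure ⟨k, rfl⟩, fun j hj => ?_⟩
    have h := pairAct_ok
    simp only [pairActOK, Bool.and_eq_true, List.all_eq_true, List.mem_range, Bool.or_eq_true] at h
    obtain ⟨⟨⟨h1, h2⟩, -⟩, h3⟩ := h.2 k.val k.2 j hj
    refine ⟨_, Nat.le_of_ble_eq_true h1, ?_, ?_⟩
    · rw [enc_riso, enc_vec _ (pair_facts.1 j hj), Nat.eq_of_beq_eq_true h2]
    · have hm := r12_fix2 (r12p_mem k.2)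
      rw [← mev_act (f2_lt hm) (f2_lt (pair_facts.2.1 j hj).1)]
      exact h3.imp Nat.eq_of_beq_eq_true Nat.eq_of_beq_eq_true
  · intro a b _ _ ha hb; exact ⟨mul_mem ha.1 hb.1, rel2_mul ha.1 ha.2 hb.2⟩
  · intro a _ ha; exact step a ha

theorem root_codes : ∀ k < 6, pairOf (root6 k) < 36 ∧ code6 (pairOf (root6 k)) = root6 k := by decide +kernel

theorem single_root : ∀ i : I6, (Pi.single i 1 : I6 → ZMod 2) =
    ((unitDec.getD (pos i) []).map fun r => vec (root6 r)).sum ∧ ∀ r ∈ unitDec.getD (pos i) [], r < 6 := by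
  decide +kernel

theorem fix_root {M : O6} (h : ∀ k < 6, mv M (vec (root6 k)) = vec (root6 k)) : M = 1 := by
  refine Subtype.ext (Units.ext (Matrix.ext_of_mulVec_single fun i => ?_))
  show mv M (Pi.single i 1) = (1 : Matrix I6 I6 (ZMod 2)).mulVec _
  rw [Matrix.one_mulVec]
  obtain ⟨e, hr⟩ := single_root i
  rw [e]
  revert hr
  generalize unitDec.getD (pos i) [] = l
  induction l with
  | nil => intro _; simp [mv]
  | cons r l ih =>
    intro hr
    rw [List.map_cons, List.sum_cons]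
    show ((M.1 : Matrix I6 I6 (ZMod 2))).mulVec _ = _
    rw [Matrix.mulVec_add]
    exact congrArg₂ (· + ·) (h r (hr r (List.mem_cons_self ..))) (ih fun a ha => hr a (List.mem_cons_of_mem _ ha))

theorem rel2_fix {M : O6} {x : pres.Grp} (hr : Rel2 x M) {j : ℕ} (hj : j < 36)
    (h : act x (ppt j) = ppt j ∨ act x (ppt j) = qpt j) : mv M (vec (code6 j)) = vec (code6 j) := by
  obtain ⟨i, hi, e1, e2⟩ := hr j hj
  have : j = i := pair_inj j hj i hi (by
    rcases h with h | h <;> rcases e2 with e2 | e2 <;> rw [h] at e2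
    exacts [Or.inl e2, Or.inr (Or.inl e2), Or.inr (Or.inr (Or.inl e2)), Or.inr (Or.inr (Or.inr e2))])
  subst this
  rw [← vec_enc (mv M _), e1]

theorem R2_one {M : O6} (h : (1, M) ∈ R2) : M = 1 := fix_root fun k hk => by
  obtain ⟨h1, h2⟩ := root_codes k hk
  rw [← h2]
  exact rel2_fix (R2_spec h).2 h1 (Or.inl (act_one (f2_lt (pair_facts.2.1 _ h1).1)))

/-- the projection of the pairs -/
noncomputable def fst2 : ↥R2 →* ↥KK where
  toFun u := ⟨u.1.1, (R2_spec u.2).1⟩
  map_one' := rfl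
  map_mul' _ _ := rfl

theorem fst2_bij : Function.Bijective fst2 := by
  refine ⟨(injective_iff_map_eq_one fst2).mpr ?_, ?_⟩
  · rintro ⟨⟨x, M⟩, hu⟩ h
    obtain rfl : x = 1 := congrArg Subtype.val h
    exact Subtype.ext (Prod.ext rfl (R2_one hu))
  · have : KK ≤ R2.map (MonoidHom.fst pres.Grp O6) := by
      refine (Subgroup.closure_le _).mpr ?_
      rintro _ ⟨k, rfl⟩
      exact ⟨_, Subgroup.subset_closure ⟨k, rfl⟩, rfl⟩
    rintro ⟨x, hx⟩
    obtain ⟨u, hu, rfl⟩ := this hx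
    exact ⟨⟨u, hu⟩, rfl⟩

/-- the map to the isometries -/
noncomputable def th : ↥KK →* O6 :=
  ((MonoidHom.snd pres.Grp O6).comp R2.subtype).comp (MulEquiv.ofBijective fst2 fst2_bij).symm.toMonoidHom

theorem th_spec (x : ↥KK) : ((x : pres.Grp), th x) ∈ R2 := by
  set u := (MulEquiv.ofBijective fst2 fst2_bij).symm x
  have e : u.1.1 = (x : pres.Grp) := congrArg Subtype.val ((MulEquiv.ofBijective fst2 fst2_bij).apply_symm_apply x)
  have : u.1 = ((x : pres.Grp), th x) := Prod.ext e rfl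
  exact this ▸ u.2

theorem th_of {x : ↥KK} {M : O6} (h : ((x : pres.Grp), M) ∈ R2) : th x = M := by
  have := R2.mul_mem (R2.inv_mem (th_spec x)) h
  simp only [Prod.inv_mk, Prod.mk_mul_mk, inv_mul_cancel] at this
  exact inv_mul_eq_one.mp (R2_one this)

theorem gen_dec : ∀ k < 16, (∀ r ∈ genRefl.getD k [], r < 6) ∧ ∀ j < 6,
    (genRefl.getD k []).foldr (fun r d => app (reflCols.getD r []) d) (2 ^ j) =
      app (Lead.Fi22Two.Dat.gens.getD k ([], [])).2 (2 ^ j) := by decide +kernel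

theorem enc_single : ∀ i : I6, enc (Pi.single i 1) = 2 ^ pos i ∧ pos i < 6 := by decide +kernel

theorem th_surj : Function.Surjective th := by
  have hR : ∀ r : Fin 6, riso r ∈ th.range := fun r => by
    have hk : r.val < 12 := lt_trans r.2 (by norm_num)
    refine ⟨⟨_, Subgroup.subset_closure ⟨⟨r.val, hk⟩, rfl⟩⟩, th_of ?_⟩
    have e : (⟨r.val % 6, Nat.mod_lt _ (by norm_num)⟩ : Fin 6) = r := Fin.ext (Nat.mod_eq_of_lt r.2)
    have hm : ((dp (r12p r.val) : pres.Grp), riso ⟨r.val % 6, Nat.mod_lt _ (by norm_num)⟩) ∈ R2 :=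
      Subgroup.subset_closure ⟨⟨r.val, hk⟩, rfl⟩
    rwa [e] at hm
  have hG : ∀ k : Fin 16, Lead.Fi22Two.giso k ∈ th.range := fun k => by
    obtain ⟨hlt, hd⟩ := gen_dec k.val k.2
    have hl : ∀ l : List ℕ, (∀ r ∈ l, r < 6) → ∃ M ∈ th.range, ∀ v,
        enc (mv M v) = l.foldr (fun r d => app (reflCols.getD r []) d) (enc v) := by
      intro l
      induction l with
      | nil => exact fun _ => ⟨1, one_mem _, fun v => by rw [mv_one]; rfl⟩
      | cons r l ih =>
        intro hl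
        obtain ⟨M, hM, hMv⟩ := ih fun a ha => hl a (List.mem_cons_of_mem _ ha)
        refine ⟨riso ⟨r, hl r (List.mem_cons_self ..)⟩ * M, mul_mem (hR _) hM, fun v => ?_⟩
        rw [mv_mul, enc_riso, hMv]; rfl
    obtain ⟨M, hM, hMv⟩ := hl _ hlt
    have : M = Lead.Fi22Two.giso k := Subtype.ext (Units.ext (Matrix.ext_of_mulVec_single fun i => by
      show mv M _ = mv (Lead.Fi22Two.giso k) _
      rw [← vec_enc (mv M _), ← vec_enc (mv (Lead.Fi22Two.giso k) _), hMv, Lead.Fi22Two.enc_giso,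
        (enc_single i).1, hd _ (enc_single i).2]))
    exact this ▸ hM
  intro M
  have hle : Lead.Fi22Two.R.map (MonoidHom.snd pres.Grp O6) ≤ th.range := by
    rw [Subgroup.map_le_iff_le_comap, Lead.Fi22Two.R, Subgroup.closure_le]
    rintro _ ⟨k, rfl⟩
    exact hG k
  exact hle (Lead.Fi22Two.snd_top.symm ▸ Subgroup.mem_top M)

theorem root_facts : ∀ k < 6, r12p k ∈ fix2 ∧ twinOf (r12p k) = r12p (k + 6) ∧
    r12p k ≠ r12p (k + 6) ∧ twinOf (r12p (k + 6)) = r12p k ∧
    (r12p k = ppt (pairOf (root6 k)) ∧ r12p (k + 6) = qpt (pairOf (root6 k)) ∨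
      r12p k = qpt (pairOf (root6 k)) ∧ r12p (k + 6) = ppt (pairOf (root6 k))) := by decide +kernel

theorem ker_roots {x : ↥KK} (h : th x = 1) {k : ℕ} (hk : k < 6) :
    act (x : pres.Grp) (r12p k) = r12p k ∨ act (x : pres.Grp) (r12p k) = r12p (k + 6) := by
  have hs := th_spec x
  rw [h] at hs
  obtain ⟨hj, -⟩ := root_codes k hk
  obtain ⟨i, hi, e1, e2⟩ := (R2_spec hs).2 _ hj
  rw [mv_one, enc_vec _ (pair_facts.1 _ hj)] at e1
  have hi' : i = pairOf (root6 k) := by
    have hc : ∀ a < 36, ∀ b < 36, code6 a = code6 b → a = b := by decide +kernel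
    exact hc i hi _ hj e1.symm
  subst hi'
  obtain ⟨-, -, -, -, hp⟩ := root_facts k hk
  rcases hp with ⟨ha, hb⟩ | ⟨ha, hb⟩
  · rw [ha, hb]; exact e2
  · rw [ha, hb, ← (pair_facts.2.2 _ hj).1, twin_act (KK_le x.2) (pair_facts.2.1 _ hj).1]
    rcases e2 with e | e <;> rw [e]
    · exact Or.inl rfl
    · exact Or.inr (pair_facts.2.2 _ hj).2

theorem z2_cases : ∀ t : ZMod 2, t = 0 ∨ t = 1 := by decide

/-- which root pairs are swapped -/
noncomputable def flipVec (x : pres.Grp) : Fin 6 → ZMod 2 := fun k =>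
  if act x (r12p k.val) = r12p k.val then 0 else 1

theorem flipVec_mul {x y : ↥KK} (hx : th x = 1) (hy : th y = 1) :
    flipVec ((x : pres.Grp) * y) = flipVec x + flipVec y := by
  funext k
  obtain ⟨hf, ht1, hne, ht2, -⟩ := root_facts k.val k.2
  simp only [flipVec, Pi.add_apply]
  rw [act_mul _ _ (f2_lt hf)]
  have tw : act (x : pres.Grp) (r12p (k.val + 6)) = twinOf (act (x : pres.Grp) (r12p k.val)) := by
    rw [← ht1, twin_act (KK_le x.2) hf]
  rcases ker_roots hx k.2 with a | a <;> rcases ker_roots hy k.2 with b | b <;>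
    simp only [a, b, tw, ht1, ht2, if_true, if_neg (Ne.symm hne)] <;> decide

include hD hprim ht in
theorem flipVec_inj {x : ↥KK} (hx : th x = 1) (h : flipVec x = 0) : x = 1 := by
  refine Subtype.ext (stab_all hD hprim ht (KK_le x.2) (fix12 (KK_le x.2) fun p hp => ?_))
  have hroot : ∀ k < 6, act (x : pres.Grp) (r12p k) = r12p k := fun k hk => by
    have h' := congrFun h ⟨k, hk⟩
    simp only [flipVec, Pi.zero_apply] at h'
    by_contra hn
    rw [if_neg hn] at h'
    exact one_ne_zero h'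
  obtain ⟨k, hk, e⟩ := List.getElem_of_mem hp
  have hk' : k < 12 := r12_mem.2 ▸ hk
  have hp' : p = r12p k := by rw [r12p, List.getD_eq_getElem _ _ hk, e]
  rw [hp']
  rcases lt_or_ge k 6 with h6 | h6
  · exact hroot k h6
  · obtain ⟨j, rfl⟩ : ∃ j, k = j + 6 := ⟨k - 6, by omega⟩
    obtain ⟨hf, ht1, -⟩ := root_facts j (by omega)
    rw [← ht1, twin_act (KK_le x.2) hf, hroot j (by omega)]

theorem flipVec_surj (k : Fin 6) : ∃ x : ↥KK, th x = 1 ∧ flipVec x = Pi.single k 1 := by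
  have h := flip_ok
  simp only [flipOK, List.all_eq_true, List.mem_range, Bool.and_eq_true] at h
  obtain ⟨hj, hr⟩ := h k.val k.2
  set ms := (flips.getD k.val []).flatMap fun j => [ppt j, qpt j]
  have hms : ∀ m ∈ ms, m ∈ fix2 := fun m hm => by
    simp only [ms, List.mem_flatMap, List.mem_cons, List.not_mem_nil, or_false] at hm
    obtain ⟨j, hj', hm⟩ := hm
    obtain ⟨h1, h2⟩ := pair_facts.2.1 j (Nat.le_of_ble_eq_true (hj j hj'))
    rcases hm with rfl | rfl
    exacts [h1, h2]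
  have hmem : lel ms ∈ KK := list_prod_mem fun y hy => by
    obtain ⟨m, hm, rfl⟩ := List.mem_map.mp hy
    exact mem_KK (hms m hm)
  have hact : ∀ r < 6, act (lel ms) (r12p r) = bif Nat.beq r k.val then r12p (r + 6) else r12p r := fun r hr' => by
    rw [← lev_act (fun m hm => f2_lt (hms m hm)) (f2_lt (root_facts r hr').1)]
    exact Nat.eq_of_beq_eq_true (hr r hr')
  have hboth : ∀ r < 6, act (lel ms) (r12p r) = r12p r ∨ act (lel ms) (r12p r) = r12p (r + 6) := fun r hr' => by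
    rw [hact r hr']; cases Nat.beq r k.val
    exacts [Or.inl rfl, Or.inr rfl]
  refine ⟨⟨lel ms, hmem⟩, fix_root fun r hr' => ?_, ?_⟩
  · obtain ⟨hj', hc⟩ := root_codes r hr'
    rw [← hc]
    refine rel2_fix (R2_spec (th_spec ⟨lel ms, hmem⟩)).2 hj' ?_
    obtain ⟨hf, ht1, -, -, hp⟩ := root_facts r hr'
    rcases hp with ⟨ha, hb⟩ | ⟨ha, hb⟩
    · rw [← ha, ← hb]; exact hboth r hr'
    · show act (lel ms) (ppt (pairOf (root6 r))) = ppt (pairOf (root6 r)) ∨ _
      rw [← ha, ← hb, ← ht1, twin_act (KK_le hmem) hf]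
      rcases hboth r hr' with e | e <;> rw [e]
      · exact Or.inl rfl
      · exact Or.inr (root_facts r hr').2.2.2.1
  · funext r
    simp only [flipVec, hact r.val r.2]
    by_cases e : r = k
    · subst e
      rw [Nat.beq_refl, cond_true, if_neg (Ne.symm (root_facts r.val r.2).2.2.1), Pi.single_eq_same]
    · have hb : Nat.beq r.val k.val = false := by
        cases hb : Nat.beq r.val k.val
        · rfl
        · exact absurd (Fin.ext (Nat.eq_of_beq_eq_true hb)) e
      rw [hb, cond_false, if_pos rfl, Pi.single_eq_of_ne e]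

include hD hprim ht in
theorem KK_structure : ∃ θ : ↥KK →* O6, Function.Surjective θ ∧ θ.ker = Cfsg.pCore 2 ↥KK ∧
    Cfsg.IsElementaryAbelian 2 θ.ker ∧ Nat.card θ.ker = 64 := by
  haveI := order.1
  haveI : Fact (Nat.Prime 2) := ⟨Nat.prime_two⟩
  let f : ↥th.ker →* Multiplicative (Fin 6 → ZMod 2) :=
    { toFun := fun x => Multiplicative.ofAdd (flipVec (x.1 : pres.Grp))
      map_one' := by
        apply Multiplicative.toAdd.injective
        show flipVec (1 : pres.Grp) = 0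
        funext k
        simp [flipVec, act_one (f2_lt (root_facts k.val k.2).1)]
      map_mul' := fun x y => congrArg Multiplicative.ofAdd (flipVec_mul x.2 y.2) }
  have finj : Function.Injective f := (injective_iff_map_eq_one f).mpr fun x hx =>
    Subtype.ext (flipVec_inj hD hprim ht x.2 (Multiplicative.ofAdd.injective hx))
  have hsingle : ∀ k : Fin 6, Multiplicative.ofAdd (Pi.single k (1 : ZMod 2)) ∈ f.range := fun k => by
    obtain ⟨x, h1, h2⟩ := flipVec_surj k
    exact ⟨⟨x, h1⟩, congrArg Multiplicative.ofAdd h2⟩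
  have fsurj : Function.Surjective f := fun v => by
    have hv : Multiplicative.toAdd v = ∑ k, Pi.single k (Multiplicative.toAdd v k) :=
      (Finset.univ_sum_single _).symm
    have hmem : v ∈ f.range := by
      rw [← ofAdd_toAdd v, hv, ofAdd_sum]
      refine prod_mem fun k _ => ?_
      rcases z2_cases (Multiplicative.toAdd v k) with e | e <;> rw [e]
      · rw [Pi.single_zero, ofAdd_zero]; exact one_mem _
      · exact hsingle k
    exact hmem
  have hcard : Nat.card th.ker = 64 := by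
    rw [Nat.card_congr (MulEquiv.ofBijective f ⟨finj, fsurj⟩).toEquiv, Nat.card_congr Multiplicative.toAdd,
      Nat.card_eq_fintype_card]
    rfl
  refine ⟨th, th_surj, ?_, ⟨⟨⟨fun a b => finj (by rw [map_mul, map_mul, mul_comm])⟩⟩, fun a ha => ?_⟩, hcard⟩
  · refine le_antisymm (Fusion.le_pCore (IsPGroup.of_card (n := 6) hcard)) (sSup_le ?_)
    rintro N ⟨hN, hNp⟩
    haveI : (N.map th).Normal := hN.map _ th_surj
    exact (Subgroup.map_eq_bot_iff N).mp (Lead.Fi22Two.two_core_trivial (N.map th) (hNp.map _))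
  · have : (⟨a, ha⟩ : ↥th.ker) ^ 2 = 1 := finj (by
      rw [map_pow, map_one]
      apply Multiplicative.toAdd.injective
      rw [toAdd_pow, toAdd_one]
      funext k
      simp only [Pi.smul_apply, Pi.zero_apply, nsmul_eq_mul]
      exact mul_eq_zero_of_left (ZMod.natCast_self 2) _)
    exact congrArg Subtype.val this

end Cfsg.Agent.Spor.M22U.Outv
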