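import Cfsg.Agent.Lib.Spor.M22UOutChecksA
import Cfsg.Agent.Lib.Lead.Fi22Two.AutGroup
import Cfsg.Agent.Lib.Spor.M22UFrobBasic

/-!
An outer involution of Fi22 and its action on the members.
-/

set_option autoImplicit false
set_option maxRecDepth 100000
set_option linter.unusedSectionVars false
set_option maxHeartbeats 1000000

namespace Cfsg.Agent.Spor.M22U.Outv

open Cfsg.Agent.Spor.CC Cfsg.Agent.Spor.Fi22Cert Cfsg.Agent.Spor.Fi22Cert.U62Act
open Cfsg.Agent.Spor.M22U.Cent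
open Cfsg.Agent.Spor.M22U.FixSearch (ptMap ptMap_lt dp_ptMap dp_inj class_map)
open Cfsg.Agent.Lead.Fi22Two (app appW qW bW pts mem' triv el_append el_rev triv_spec)
open Cfsg.Agent.Lead.Fi22Two.Aut (cj MA cj_inj conj_cj commute_cj ptMap_mul ptMap_one ptMap_cj)
open ODat

theorem memb_iff {l : List ℕ} {p : ℕ} : memb l p = true ↔ p ∈ l := by
  simp only [memb, List.any_eq_true]
  exact ⟨fun ⟨a, ha, h⟩ => Nat.eq_of_beq_eq_true h ▸ ha, fun h => ⟨p, h, Nat.beq_refl _⟩⟩

theorem leq_iff : ∀ {a b : List ℕ}, leq a b = true ↔ a = b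
  | [], [] => by simp [leq]
  | [], _ :: _ => by simp [leq]
  | _ :: _, [] => by simp [leq]
  | a :: r, b :: t => by
    rw [leq, Bool.and_eq_true, leq_iff (a := r) (b := t)]
    exact ⟨fun ⟨h1, h2⟩ => by rw [Nat.eq_of_beq_eq_true h1, h2], fun h => by
      obtain ⟨h1, h2⟩ := List.cons.inj h
      exact ⟨h1 ▸ Nat.beq_refl _, h2⟩⟩

theorem el_mwd (p : ℕ) : el (mwd p) = (dp p : pres.Grp) := (Lead.Fi22Two.Aut.dp_el p).symm

theorem mev_act {m q : ℕ} (hm : m < 3510) (hq : q < 3510) : mev m q = act (dp m : pres.Grp) q :=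
  (Frob.act_dd m hm hq).symm

theorem mev_lt {m q : ℕ} (hm : m < 3510) (hq : q < 3510) : mev m q < 3510 := mev_act hm hq ▸ act_lt _ hq

/-- value of a product of members -/
noncomputable def lel (l : List ℕ) : pres.Grp := (l.map fun m => (dp m : pres.Grp)).prod

theorem lev_act : ∀ {l : List ℕ}, (∀ m ∈ l, m < 3510) → ∀ {q : ℕ}, q < 3510 → lev l q = act (lel l) q
  | [], _, q, hq => by rw [lel, List.map_nil, List.prod_nil, act_one hq]; rfl
  | m :: r, h, q, hq => by
    have hr : ∀ k ∈ r, k < 3510 := fun k hk => h k (List.mem_cons_of_mem _ hk)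
    have e := lev_act hr hq
    show mev m (lev r q) = _
    rw [e, mev_act (h m (List.mem_cons_self ..)) (act_lt _ hq), show lel (m :: r) = (dp m : pres.Grp) * lel r by simp [lel],
      act_mul _ _ hq]

theorem lel_rev (l : List ℕ) : lel l.reverse = (lel l)⁻¹ := by
  rw [lel, lel, List.prod_inv_reverse, List.map_reverse, List.map_map]
  congr 2
  refine List.map_congr_left fun m _ => ?_
  exact (inv_eq_of_mul_eq_one_right (Spor.mul_self_of_order_two (Fischer.three.1.1 _ (dp m).2))).symm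

theorem gen9 {x : ℕ} (hx : x < 9) : gpt9 x < 3510 ∧ pres.gen x = (dp (gpt9 x) : pres.Grp) ∧
    ev RepU62.rows 9 wS (gpt9 (Outer.sw x)) = ipt9 x ∧ sT (gpt9 x) = ipt9 x ∧ sT (sT (gpt9 x)) = gpt9 x := by
  have h := List.all_eq_true.mp gens_ok x (List.mem_range.mpr hx)
  simp only [genOK9, Bool.and_eq_true] at h
  obtain ⟨⟨⟨⟨h1, h2⟩, h3⟩, h4⟩, h5⟩ := h
  refine ⟨Nat.le_of_ble_eq_true h1, ?_, Nat.eq_of_beq_eq_true h3, Nat.eq_of_beq_eq_true h4,
    Nat.eq_of_beq_eq_true h5⟩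
  have := triv_spec h2
  rw [el_append, el_mwd, show el [x] = pres.gen x by simp [el]] at this
  rw [eq_inv_of_mul_eq_one_left this, inv_eq_of_mul_eq_one_right (Pres.gen_sq pres_ok x)]

theorem genPts_mem {p : ℕ} (hp : p ∈ genPts) : ∃ x < 9, gpt9 x = p := by
  obtain ⟨x, hx, rfl⟩ := List.getElem_of_mem hp
  exact ⟨x, hx, List.getD_eq_getElem _ _ hx⟩

theorem gpt_mem {x : ℕ} (hx : x < 9) : gpt9 x ∈ genPts := by
  rw [gpt9, List.getD_eq_getElem _ _ hx]; exact List.getElem_mem _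

/-- automorphisms agreeing on the nine points are equal -/
theorem aut_ext {ψ χ : MA} (h : ∀ p ∈ genPts, ptMap ψ p = ptMap χ p) : ψ = χ := by
  refine MulEquiv.toMonoidHom_injective (MonoidHom.eq_of_eqOn_dense (Pres.closure_gen pres_ok) ?_)
  rintro _ ⟨x, hx, rfl⟩
  have hx' : x < 9 := hx
  show ψ (pres.gen x) = χ (pres.gen x)
  rw [(gen9 hx').2.1, ← dp_ptMap, ← dp_ptMap, h _ (gpt_mem hx')]

theorem wS_lt' : ∀ a ∈ wS, a < 9 := fun a ha => Nat.le_of_ble_eq_true (List.all_eq_true.mp wS_lt a ha)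

/-- the outer involution -/
noncomputable def SS : MA := cj (el wS) * Outer.sigma

theorem SS_gen {x : ℕ} (hx : x < 9) : SS (pres.gen x) = (dp (ipt9 x) : pres.Grp) := by
  have hs := (Outer.sw_facts.1 x hx).1
  obtain ⟨h1, h2, -⟩ := gen9 hs
  obtain ⟨-, -, h3, -⟩ := gen9 hx
  show el wS * Outer.sigma (pres.gen x) * (el wS)⁻¹ = _
  rw [Outer.sigma_gen hx, h2, ← h3, ← act_el wS_lt' h1, act_dp pts_ok _ h1]

theorem stepS_all {p : ℕ} (hp : p < 3510) : stepS p = true := by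
  by_cases h1 : p < 702; · exact all_range (p := stepS) stepS0 (Nat.zero_le _) (by omega)
  by_cases h2 : p < 1404; · exact all_range (p := stepS) stepS1 (by omega) (by omega)
  by_cases h3 : p < 2106; · exact all_range (p := stepS) stepS2 (by omega) (by omega)
  by_cases h4 : p < 2808; · exact all_range (p := stepS) stepS3 (by omega) (by omega)
  exact all_range (p := stepS) stepS4 (by omega) (by omega)

theorem sT_lt {p : ℕ} (hp : p < 3510) : sT p < 3510 := by
  have h := stepS_all hp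
  simp only [stepS, Bool.and_eq_true] at h
  exact Nat.le_of_ble_eq_true h.1

theorem SS_dp : ∀ {p : ℕ}, p < 3510 → SS (dp p : pres.Grp) = dp (sT p) := by
  have key : ∀ k p, p < 3510 → fld rankTab 12 p = k → SS (dp p : pres.Grp) = dp (sT p) := by
    intro k
    induction k using Nat.strong_induction_on with
    | _ k ih =>
      intro p hp hk
      have h := stepS_all hp
      simp only [stepS, Bool.and_eq_true, Bool.or_eq_true] at h
      rcases h.2 with h0 | ⟨⟨⟨⟨hx, hq⟩, hr⟩, he⟩, hs⟩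
      · obtain rfl := Nat.eq_of_beq_eq_true h0
        have hg := gen9 (x := 0) (by norm_num)
        have e0 : gpt9 0 = 0 := by decide +kernel
        rw [← e0, ← hg.2.1, SS_gen (by norm_num), hg.2.2.2.1]
      · have hx' : par p % 16 < 9 := Nat.le_of_ble_eq_true hx
        have hq' : par p / 16 < 3510 := Nat.le_of_ble_eq_true hq
        have e1 := act_dp pts_ok (el [par p % 16]) hq'
        rw [act_el (by simpa using hx') hq', Nat.eq_of_beq_eq_true he] at e1
        have ei : ipt9 (par p % 16) < 3510 := (gen9 hx').2.2.2.1 ▸ sT_lt (gen9 hx').1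
        rw [e1, map_mul, map_mul, map_inv, show el [par p % 16] = pres.gen (par p % 16) by simp [el],
          SS_gen hx', ih _ (hk ▸ Nat.le_of_ble_eq_true hr) _ hq' rfl, ← act_dp pts_ok _ (sT_lt hq'),
          ← mev_act ei (sT_lt hq'), Nat.eq_of_beq_eq_true hs]
  intro p hp
  exact key _ p hp rfl

theorem ptMap_SS {p : ℕ} (hp : p < 3510) : ptMap SS p = sT p :=
  dp_inj (ptMap_lt _ _) (sT_lt hp) (by rw [dp_ptMap, SS_dp hp])

theorem SS_sq : SS * SS = 1 := aut_ext fun p hp => by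
  obtain ⟨x, hx, rfl⟩ := genPts_mem hp
  obtain ⟨h1, -, -, -, h5⟩ := gen9 hx
  rw [ptMap_mul, ptMap_SS h1, ptMap_SS (sT_lt h1), h5, ptMap_one h1]

theorem SS_outer : SS ∉ Cfsg.Inn pres.Grp := fun h => Outer.sigma_not_inner (by
  have e : Outer.sigma = (cj (el wS))⁻¹ * SS := by rw [SS, inv_mul_cancel_left]
  rw [e]; exact mul_mem (inv_mem ⟨_, rfl⟩) h)

theorem SS_SS (x : pres.Grp) : SS (SS x) = x := DFunLike.congr_fun SS_sq x

theorem cj_SS (g : pres.Grp) : cj g * SS = SS * cj (SS g) := by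
  have e := conj_cj SS g
  rw [← e, inv_eq_of_mul_eq_one_right SS_sq, ← mul_assoc, ← mul_assoc, SS_sq, one_mul]

/-- an outer automorphism is a twist of the involution -/
theorem outer_form {ψ : MA} (h : ψ ∉ Cfsg.Inn pres.Grp) : ∃ g, ψ = SS * cj g := by
  have hψ : ψ ∈ Outer.KK := Outer.KK_top ▸ Subgroup.mem_top ψ
  have key : ∀ χ ∈ Outer.KK, χ ∈ Cfsg.Inn pres.Grp ∨ ∃ g, χ = SS * cj g := by
    intro χ hχ
    rw [Outer.KK, Subgroup.sup_eq_closure] at hχ
    refine Subgroup.closure_induction ?_ (Or.inl (one_mem _)) ?_ ?_ hχ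
    · rintro χ (hχ | hχ)
      · exact Or.inl hχ
      · obtain ⟨n, rfl⟩ := Subgroup.mem_zpowers_iff.mp hχ
        have hs : (Outer.sigma : MA) ^ (2 : ℤ) = 1 := by rw [zpow_two]; exact Outer.sigma_sq
        rcases Int.even_or_odd n with ⟨m, hm⟩ | ⟨m, hm⟩
        · exact Or.inl (by rw [hm, ← two_mul, zpow_mul, hs, one_zpow]; exact one_mem _)
        · refine Or.inr ⟨SS (el wS)⁻¹, ?_⟩
          rw [hm, zpow_add_one, zpow_mul, hs, one_zpow, one_mul, ← cj_SS, map_inv, SS, inv_mul_cancel_left]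
    · rintro χ ω _ _ (⟨a, rfl⟩ | ⟨a, rfl⟩) (⟨b, rfl⟩ | ⟨b, rfl⟩)
      · exact Or.inl (mul_mem ⟨_, rfl⟩ ⟨_, rfl⟩)
      · exact Or.inr ⟨SS a * b, by rw [map_mul, ← mul_assoc SS, ← cj_SS, mul_assoc]⟩
      · exact Or.inr ⟨a * b, by rw [map_mul, ← mul_assoc]⟩
      · refine Or.inl ⟨SS a * b, ?_⟩
        show cj (SS a * b) = SS * cj a * (SS * cj b)
        rw [map_mul, ← mul_assoc (SS * cj a), mul_assoc SS (cj a) SS, cj_SS, ← mul_assoc, SS_sq, one_mul]
    · rintro χ _ (⟨a, rfl⟩ | ⟨a, rfl⟩)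
      · exact Or.inl (inv_mem ⟨_, rfl⟩)
      · refine Or.inr ⟨SS a⁻¹, ?_⟩
        rw [mul_inv_rev, inv_eq_of_mul_eq_one_right SS_sq, ← map_inv cj, cj_SS]
  exact (key ψ hψ).resolve_left h

/-- the twist by an inner automorphism -/
noncomputable def TT (g : pres.Grp) : MA := SS * cj g

theorem ptMap_TT {g : pres.Grp} {p : ℕ} (hp : p < 3510) : ptMap (TT g) p = sT (act g p) := by
  rw [TT, ptMap_mul, ptMap_cj g hp, ptMap_SS (act_lt g hp)]

theorem TT_one : TT 1 = SS := by rw [TT, map_one, mul_one]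

end Cfsg.Agent.Spor.M22U.Outv
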