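import Cfsg.Agent.Lib.Spor.M22UOutI
import Cfsg.Agent.Lib.Spor.M22UOutChecksB
import Cfsg.Agent.Lib.Classical.OrthOrders
import Cfsg.Agent.Lib.Lie.SymplecticSix.Points

/-!
The centralizer of a member in the fixed-point group of the outer involution.
-/

set_option autoImplicit false
set_option maxRecDepth 100000
set_option linter.unusedSectionVars false
set_option maxHeartbeats 1000000

namespace Cfsg.Agent.Spor.M22U.Outv

open Cfsg.Agent.Spor.CC Cfsg.Agent.Spor.Fi22Cert Cfsg.Agent.Spor.Fi22Cert.U62Act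
open Cfsg.Agent.Spor.M22U.Cent
open Cfsg.Agent.Lead.Fi22Two.Aut (cj MA)
open Cfsg.Agent.Spor.M22U.O8 (V GOp qq vecC Gr)
open ODat

/-- six coordinates -/
abbrev K6 : Type := Fin 3 ⊕ Fin 3

/-- position -/
def pos3 : K6 → ℕ
  | Sum.inl i => i
  | Sum.inr i => 3 + i

/-- the fixed vector -/
noncomputable def v0 : V := vecC (O8.cd 0)

/-- the basis -/
noncomputable def uu (k : K6) : V := vecC (spBasis.getD (pos3 k) 0)

/-- a coordinate -/
noncomputable def co (k : K6) (y : V) : ZMod 2 :=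
  QuadraticMap.polar ⇑qq (vecC (spBasis.getD ((pos3 k + 3) % 6) 0)) y

/-- the bilinear form -/
noncomputable abbrev bf : LinearMap.BilinForm (ZMod 2) V := QuadraticMap.polarBilin qq

theorem bool_ne : ∀ b : Bool, (bif b then (1 : ZMod 2) else 0) = 0 → b = false := by decide

theorem pos3_lt (k : K6) : pos3 k < 6 := by cases k <;> simp only [pos3] <;> omega

theorem pos3_inj : ∀ k l : K6, pos3 k = pos3 l → k = l := by decide

theorem sp_facts : (∀ k : K6, QuadraticMap.polar ⇑qq v0 (uu k) = 0 ∧ co k v0 = 0) ∧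
    (∀ k l : K6, QuadraticMap.polar ⇑qq (uu k) (uu l) = bif Nat.beq ((pos3 k + 3) % 6) (pos3 l) then 1 else 0) ∧
    (∀ k l : K6, co k (uu l) = if k = l then 1 else 0) := by
  have h := sp_ok
  simp only [spOK, Bool.and_eq_true, List.all_eq_true, List.mem_range, Bool.not_eq_true', beq_iff_eq] at h
  obtain ⟨h1, -⟩ := h
  refine ⟨fun k => ?_, fun k l => ?_, fun k l => ?_⟩
  · obtain ⟨⟨⟨-, h2⟩, h3⟩, -⟩ := h1 _ (pos3_lt k)
    exact ⟨by rw [v0, uu, O8.polar_vec, h2]; rfl, by
      rw [co, v0, O8.polar_vec]; rw [spCo] at h3; rw [h3]; rfl⟩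
  · obtain ⟨-, h4⟩ := h1 _ (pos3_lt k)
    rw [uu, uu, O8.polar_vec, (h4 _ (pos3_lt l)).1]
  · obtain ⟨-, h4⟩ := h1 _ (pos3_lt k)
    rw [co, uu, O8.polar_vec]
    have h5 := (h4 _ (pos3_lt l)).2
    rw [spCo] at h5
    rw [h5]
    by_cases e : k = l
    · subst e; rw [if_pos rfl, Nat.beq_refl, cond_true]
    · rw [if_neg e, show Nat.beq (pos3 k) (pos3 l) = false from by
        cases hb : Nat.beq (pos3 k) (pos3 l)
        · rfl
        · exact absurd (pos3_inj k l (Nat.eq_of_beq_eq_true hb)) e, cond_false]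

theorem fold_sum (f : ℕ → Bool) : ∀ (l : List ℕ) (m : ℕ),
    vecC (l.foldl (fun m k => bif f k then Nat.xor m (spBasis.getD k 0) else m) m) =
      vecC m + (l.map fun k => (bif f k then (1 : ZMod 2) else 0) • vecC (spBasis.getD k 0)).sum
  | [], m => by simp
  | a :: r, m => by
    rw [List.foldl_cons, fold_sum f r, List.map_cons, List.sum_cons]
    cases f a
    · simp
    · simp only [cond_true]
      rw [one_smul, O8.vec_xor, add_assoc]

theorem decomp (y : V) (hy : QuadraticMap.polar ⇑qq v0 y = 0) :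
    ∃ c : ZMod 2, y = (∑ k, co k y • uu k) + c • v0 := by
  obtain ⟨v, hv, rfl⟩ := O8.vec_surj y
  have h := sp_ok
  simp only [spOK, Bool.and_eq_true, List.all_eq_true, List.mem_range, Bool.or_eq_true] at h
  have h2 := h.2 v hv
  rw [v0, O8.polar_vec] at hy
  rw [bool_ne _ hy] at h2
  simp only [Bool.false_eq_true, false_or] at h2
  have hsum : (∑ k, co k (vecC v) • uu k) =
      vecC ((List.range 6).foldl (fun m k => bif spCo k v then Nat.xor m (spBasis.getD k 0) else m) 0) := by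
    rw [fold_sum (fun k => spCo k v), O8.vec_zero, zero_add,
      show List.range 6 = [0, 1, 2, 3, 4, 5] from rfl]
    simp only [Fintype.sum_sum_type, Fin.sum_univ_three, List.map_cons, List.map_nil, List.sum_cons, List.sum_nil,
      co, uu, O8.polar_vec, pos3, Fin.val_zero, Fin.val_one, Fin.val_two, spCo, Nat.reduceAdd, Nat.reduceMod, add_zero,
      add_assoc]
  rw [hsum]
  rcases h2 with e | e
  · exact ⟨0, by rw [Nat.eq_of_beq_eq_true e, zero_smul, add_zero]⟩
  · refine ⟨1, ?_⟩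
    rw [Nat.eq_of_beq_eq_true e, O8.vec_xor, one_smul, v0, add_assoc,
      show ∀ w : V, w + w = 0 from fun w => funext fun i => CharTwo.add_self_eq_zero (w i), add_zero]

theorem co_add (k : K6) (x y : V) : co k (x + y) = co k x + co k y := (bf _).map_add x y

theorem co_smul (k : K6) (c : ZMod 2) (y : V) : co k (c • y) = c * co k y := (bf _).map_smul c y

theorem co_sum (k : K6) {ι : Type} (s : Finset ι) (f : ι → V) : co k (∑ i ∈ s, f i) = ∑ i ∈ s, co k (f i) :=
  map_sum (bf _) f s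

/-- the matrix of an isometry -/
noncomputable def smat (σ : GOp) : Matrix K6 K6 (ZMod 2) := fun k l => co k (σ.1.1.mulVec (uu l))

theorem pol_inv (σ : GOp) (x y : V) :
    QuadraticMap.polar ⇑qq (σ.1.1.mulVec x) (σ.1.1.mulVec y) = QuadraticMap.polar ⇑qq x y := by
  have hq : ∀ z, qq (σ.1.1.mulVec z) = qq z := fun z => σ.2 z z
  rw [QuadraticMap.polar, QuadraticMap.polar, ← Matrix.mulVec_add, hq, hq, hq]

theorem sum_form (σ : GOp) (f : K6 → ZMod 2) (c : ZMod 2) :
    σ.1.1.mulVec ((∑ k, f k • uu k) + c • v0) = (∑ k, f k • σ.1.1.mulVec (uu k)) + c • σ.1.1.mulVec v0 := by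
  rw [Matrix.mulVec_add, Matrix.mulVec_sum, Matrix.mulVec_smul]
  congr 1
  exact Finset.sum_congr rfl fun k _ => Matrix.mulVec_smul _ _ _

theorem perp {σ : GOp} (hσ : σ.1.1.mulVec v0 = v0) (l : K6) :
    QuadraticMap.polar ⇑qq v0 (σ.1.1.mulVec (uu l)) = 0 := by
  conv_lhs => arg 2; rw [← hσ]
  rw [pol_inv]; exact (sp_facts.1 l).1

theorem smat_mul {σ τ : GOp} (hσ : σ.1.1.mulVec v0 = v0) (hτ : τ.1.1.mulVec v0 = v0) :
    smat (σ * τ) = smat σ * smat τ := by
  ext k l
  rw [Matrix.mul_apply]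
  obtain ⟨c, hc⟩ := decomp _ (perp hτ l)
  show co k ((σ.1.1 * τ.1.1).mulVec (uu l)) = _
  rw [← Matrix.mulVec_mulVec]
  conv_lhs => rw [hc]
  rw [sum_form, hσ, co_add, co_smul, (sp_facts.1 k).2, mul_zero, add_zero, co_sum]
  exact Finset.sum_congr rfl fun j _ => by rw [co_smul, smat, smat, mul_comm]

theorem smat_one : smat 1 = 1 := by
  ext k l
  show co k ((1 : Matrix O8.Co O8.Co (ZMod 2)).mulVec (uu l)) = _
  rw [Matrix.one_mulVec, sp_facts.2.2, Matrix.one_apply]

theorem J_entry : ∀ k l : K6,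
    Matrix.J (Fin 3) (ZMod 2) k l = bif Nat.beq ((pos3 k + 3) % 6) (pos3 l) then 1 else 0 := by
  intro k l
  rcases k with i | i <;> rcases l with j | j <;> fin_cases i <;> fin_cases j <;>
    simp [Matrix.J, Matrix.fromBlocks, pos3] <;> rfl

theorem smat_sp {σ : GOp} (hσ : σ.1.1.mulVec v0 = v0) : smat σ ∈ Matrix.symplecticGroup (Fin 3) (ZMod 2) := by
  rw [SymplecticGroup.mem_iff']
  ext l n
  obtain ⟨c, hc⟩ := decomp _ (perp hσ l)
  obtain ⟨d, hd⟩ := decomp _ (perp hσ n)
  have h1 : QuadraticMap.polar ⇑qq (σ.1.1.mulVec (uu l)) (σ.1.1.mulVec (uu n)) = Matrix.J (Fin 3) (ZMod 2) l n := by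
    rw [pol_inv, sp_facts.2.1, J_entry]
  rw [← h1]
  conv_rhs => rw [hc, hd]
  have hv0 : bf v0 v0 = 0 := by
    show QuadraticMap.polar ⇑qq v0 v0 = 0
    rw [QuadraticMap.polar_self, nsmul_eq_mul]
    exact mul_eq_zero_of_left (by decide) _
  have hu0 : ∀ k, bf (uu k) v0 = 0 := fun k => by
    show QuadraticMap.polar ⇑qq (uu k) v0 = 0
    rw [QuadraticMap.polar_comm]; exact (sp_facts.1 k).1
  have h0u : ∀ k, bf v0 (uu k) = 0 := fun k => (sp_facts.1 k).1
  have hbb : ∀ k j, bf (uu k) (uu j) = Matrix.J (Fin 3) (ZMod 2) k j := fun k j => by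
    show QuadraticMap.polar ⇑qq (uu k) (uu j) = _
    rw [sp_facts.2.1, J_entry]
  show _ = bf _ _
  simp only [map_add, map_sum, map_smul, LinearMap.add_apply, LinearMap.sum_apply, LinearMap.smul_apply,
    smul_eq_mul, hv0, hu0, h0u, hbb, mul_zero, Finset.sum_const_zero, add_zero]
  rw [Matrix.mul_apply]
  refine Finset.sum_congr rfl fun j _ => ?_
  rw [Matrix.mul_apply, Finset.sum_mul, Finset.mul_sum]
  refine Finset.sum_congr rfl fun k _ => ?_
  rw [Matrix.transpose_apply]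
  show smat σ k l * _ * smat σ j n = _
  simp only [smat]
  ring

/-- the pairs fixing the first member -/
noncomputable def C1 : Subgroup (pres.Grp × GOp) :=
  Gr ⊓ (Subgroup.centralizer ({tA} : Set pres.Grp)).comap (MonoidHom.fst pres.Grp GOp)

theorem C1_fix {p : pres.Grp × GOp} (hp : p ∈ C1) : act p.1 0 = 0 ∧ p.2.1.1.mulVec v0 = v0 := by
  have h0 : act p.1 0 = 0 := by
    rw [← Frob.commute_dp_iff p.1 (by norm_num), Lead.Fi22Two.dp_zero]
    exact Subgroup.mem_centralizer_singleton_iff.mp hp.2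
  refine ⟨h0, ?_⟩
  obtain ⟨k, hk, h1, h2⟩ := O8.gr_acts hp.1 0 (by norm_num)
  rw [apt_zero, h0] at h1
  have : k = 0 := O8.apt_inj hk (by norm_num) (h1.symm.trans apt_zero.symm)
  subst this; exact h2

/-- the map to the symplectic group -/
noncomputable def toSp : ↥C1 →* ↥(Matrix.symplecticGroup (Fin 3) (ZMod 2)) where
  toFun p := ⟨smat p.1.2, smat_sp (C1_fix p.2).2⟩
  map_one' := Subtype.ext smat_one
  map_mul' p q := Subtype.ext (smat_mul (C1_fix p.2).2 (C1_fix q.2).2)

universe u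
variable {G : Type u} [Group G] [Finite G] {D : Set G}
variable (hD : Cfsg.IsThreeTranspositionGroup D) (hprim : Cfsg.IsPrimitiveUnderConj D)
  (ht : Cfsg.IsOfTypeM22 G D)

theorem v0_q : qq v0 = 1 := by
  rw [v0, O8.qq_vec, (O8.code_facts (show 0 < 120 by norm_num)).2.1]; rfl

include hD hprim ht in
theorem toSp_ker {p : ↥C1} (hp : toSp p = 1) : p.1.1 = 1 ∨ p.1.1 = tA := by
  obtain ⟨h0, hσ⟩ := C1_fix p.2
  set σ := p.1.2
  have hm : smat σ = 1 := congrArg Subtype.val hp
  have hy : ∀ y, QuadraticMap.polar ⇑qq v0 y = 0 → qq y = 1 → σ.1.1.mulVec y = y := by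
    intro y hy hq
    obtain ⟨c, hc⟩ := decomp y hy
    obtain ⟨d, hd⟩ := decomp (σ.1.1.mulVec y) (by conv_lhs => arg 2; rw [← hσ]
                                                  rw [pol_inv, hy])
    have hco : ∀ k, co k (σ.1.1.mulVec y) = co k y := by
      intro k
      conv_lhs => rw [hc, sum_form, hσ, co_add, co_smul, (sp_facts.1 k).2, mul_zero, add_zero, co_sum]
      rw [Finset.sum_eq_single k]
      · rw [co_smul, show co k (σ.1.1.mulVec (uu k)) = smat σ k k from rfl, hm, Matrix.one_apply_eq, mul_one]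
      · intro j _ hj
        rw [co_smul, show co k (σ.1.1.mulVec (uu j)) = smat σ k j from rfl, hm, Matrix.one_apply_ne (Ne.symm hj),
          mul_zero]
      · simp
    have e : σ.1.1.mulVec y = y + (d - c) • v0 := by
      rw [hd]
      simp only [hco]
      conv_rhs => rw [hc]
      rw [sub_smul]; abel
    rcases (by decide : ∀ t : ZMod 2, t = 0 ∨ t = 1) (d - c) with h | h
    · rw [e, h, zero_smul, add_zero]
    · exfalso
      have h1 : qq (σ.1.1.mulVec y) = 1 := (σ.2 y y).trans hq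
      rw [e, h, one_smul] at h1
      have hpol : QuadraticMap.polar ⇑qq y v0 = 0 := by rw [QuadraticMap.polar_comm]; exact hy
      rw [QuadraticMap.polar, sub_eq_zero, sub_eq_iff_eq_add, hq, v0_q] at hpol
      rw [hpol] at h1
      exact absurd h1 (by decide)
  have hkeep : ∀ g ∈ O8.H, ∀ q ∈ O8.aPts, act g q ∈ O8.aPts := fun g hg q hq => H_keeps hg hq
  have hpH : p.1.1 ∈ O8.H := (O8.mem_H_iff _).mpr ⟨p.1, p.2.1, rfl⟩
  have hd1 : ∀ i ∈ dom1, i < 120 := fun i hi => Nat.le_of_ble_eq_true (List.all_eq_true.mp dom_mem.2.1 i hi)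
  have hfix : ∀ w ∈ dom1, act p.1.1 (O8.apt w) = O8.apt w := by
    intro w hw
    obtain ⟨k, hk, h1, h2⟩ := O8.gr_acts p.2.1 w (hd1 w hw)
    have hperp : QuadraticMap.polar ⇑qq v0 (vecC (O8.cd w)) = 0 := by
      have hm1 : O8.apt w ∈ fix1 := by
        have h := List.all_eq_true.mp dom_mem.1 w (List.mem_range.mpr (hd1 w hw))
        rw [Bool.and_eq_true, beq_iff_eq] at h
        rw [← memb_iff, h.1]; exact memb_iff.mpr hw
      have hadj : ∀ p ∈ fix1, adjb 0 p = true := by decide +kernel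
      have h := hadj _ hm1
      rw [← apt_zero, adjA (by norm_num) (hd1 w hw), comC, Bool.not_eq_true'] at h
      rw [v0, O8.polar_vec, h]; rfl
    have hqw : qq (vecC (O8.cd w)) = 1 := by rw [O8.qq_vec, (O8.code_facts (hd1 w hw)).2.1]; rfl
    rw [hy _ hperp hqw] at h2
    rw [h1, O8.vec_inj (hd1 w hw) hk h2]
  obtain ⟨hu1, hu2, -⟩ := uniq_ok
  obtain ⟨hxy, hax, -⟩ := xy_ok
  have hx : xy.getD 0 0 < 120 ∧ xy.getD 1 0 < 120 := by decide +kernel
  have hA : ∀ q ∈ O8.aPts, act tA q ∈ O8.aPts := fun q hq =>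
    keepA (mem_fixG.mpr (by rw [← Lead.Fi22Two.dp_zero]; exact mem_fixG.mp (H_fix (apt_zero ▸ O8.ad_mem (i := 0) (by norm_num)))))
      (by rw [act_tA (by norm_num)]; decide +kernel) hq
  have htA1 : ∀ w ∈ dom1, act tA (O8.apt w) = O8.apt w := by
    have : ∀ w ∈ dom1, Nat.beq (ev RepU62.rows 9 [0] (O8.apt w)) (O8.apt w) = true := by decide +kernel
    intro w hw
    rw [act_tA (A_lt (apt_mem (hd1 w hw)))]
    exact Nat.eq_of_beq_eq_true (this w hw)
  have done : ∀ g, (∀ q ∈ O8.aPts, act g q ∈ O8.aPts) → (∀ w ∈ dom1, act g (O8.apt w) = O8.apt w) →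
      act g (O8.apt (xy.getD 0 0)) = O8.apt (xy.getD 0 0) → g = 1 := by
    intro g hg hgw hgx
    refine fix_roots hD hprim ht fun r hr => ?_
    obtain ⟨j, hj, e⟩ := pat_img (List.all_eq_true.mp hu2 r (List.mem_range.mpr hr)) (fun w hw => by
      rcases List.mem_cons.mp hw with rfl | hw
      · exact hx.1
      · exact hd1 w hw) (O8.rt_lt hr) hg (fun w hw => by
      rcases List.mem_cons.mp hw with rfl | hw
      · exact hgx
      · exact hgw w hw)
    rw [e, List.mem_singleton.mp hj]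
  obtain ⟨j, hj, e⟩ := pat_img hu1 hd1 hx.1 (hkeep _ hpH) hfix
  rcases List.mem_cons.mp hj with rfl | hj
  · exact Or.inl (done _ (hkeep _ hpH) hfix e)
  · right
    rw [List.mem_singleton.mp hj] at e
    have hlt : ∀ {q}, q < 120 → O8.apt q < 3510 := fun hq => A_lt (apt_mem hq)
    have htt : tA * tA = 1 := Lead.Fi22Two.tA_sq
    have h := done (tA * p.1.1) (fun q hq => by rw [act_mul _ _ (A_lt hq)]; exact hA _ (hkeep _ hpH q hq))
      (fun w hw => by rw [act_mul _ _ (hlt (hd1 w hw)), hfix w hw, htA1 w hw])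
      (by
        rw [act_mul _ _ (hlt hx.1), e]
        have h1 : act tA (O8.apt (xy.getD 0 0)) = O8.apt (xy.getD 1 0) := by
          rw [act_tA (hlt hx.1)]; exact Nat.eq_of_beq_eq_true hax
        rw [← h1, ← act_mul _ _ (hlt hx.1), htt, act_one (hlt hx.1)])
    rw [eq_inv_of_mul_eq_one_right h, inv_eq_of_mul_eq_one_right htt]

include hD hprim ht in
theorem H_index : (O8.P.subgroupOf O8.H).index = 2 := by
  haveI := order.1
  have h := Subgroup.card_mul_index (O8.P.subgroupOf O8.H)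
  rw [Nat.card_congr (Subgroup.subgroupOfEquivOfLe O8.P_le_H).toEquiv, (O8.P_iso hD hprim ht).2,
    mul_comm 2] at h
  exact Nat.eq_of_mul_eq_mul_left Nat.card_pos h

include hD hprim ht in
theorem tA_notP : tA ∉ O8.P := by
  haveI := order.1
  intro h
  have hA : O8.ad 0 = tA := by rw [O8.ad, apt_zero, Lead.Fi22Two.dp_zero]
  have hle : O8.H ≤ O8.P := by
    refine (Subgroup.closure_le _).mpr ?_
    rintro _ ⟨i, hi, rfl⟩
    obtain ⟨k, hk, hki⟩ := H_orbit (apt_mem hi)
    have e : O8.ad i = k * tA * k⁻¹ := by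
      rw [O8.ad, ← hki, act_dp pts_ok k (by norm_num), Lead.Fi22Two.dp_zero]
    rw [e]; exact O8.conj_in_P hk h
  have h2 := H_index hD hprim ht
  rw [Subgroup.subgroupOf_eq_top.mpr hle, Subgroup.index_top] at h2
  omega

theorem card_GOp : Nat.card GOp = 348364800 := by
  show Nat.card ↥(Cfsg.isometryGroup (ZMod 2) (⇑qq : V → ZMod 2)) = _
  rw [O8.qq_coe, Cfsg.Agent.Classical.OCount.card_plus]
  simp [Finset.prod_range_succ, Cfsg.Agent.Classical.OCount.valNum, ZMod.card]

include hD hprim ht in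
theorem C_eq : fixG SS ⊓ Subgroup.centralizer ({tA} : Set pres.Grp) =
    O8.H ⊓ Subgroup.centralizer ({tA} : Set pres.Grp) := by
  refine le_antisymm (fun g hg => ⟨?_, hg.2⟩) (inf_le_inf_right _ H_fix)
  refine keep_H hD hprim ht fun p hp => keepA hg.1 ?_ hp
  rw [← Frob.commute_dp_iff g (by norm_num), Lead.Fi22Two.dp_zero]
  exact Subgroup.mem_centralizer_singleton_iff.mp hg.2

include hD hprim ht in
theorem C_iso : Nonempty (↥(fixG SS ⊓ Subgroup.centralizer ({tA} : Set pres.Grp)) ≃*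
    Multiplicative (ZMod 2) × Cfsg.PSp 3 (ZMod 2)) := by
  classical
  haveI := order.1
  set C := O8.H ⊓ Subgroup.centralizer ({tA} : Set pres.Grp) with hC
  let f1 : ↥C1 →* ↥C :=
    { toFun := fun p => ⟨p.1.1, (O8.mem_H_iff _).mpr ⟨p.1, p.2.1, rfl⟩, p.2.2⟩
      map_one' := rfl
      map_mul' := fun _ _ => rfl }
  have b1 : Function.Bijective f1 := by
    refine ⟨(injective_iff_map_eq_one f1).mpr fun p hp => ?_, ?_⟩
    · have h1 : p.1.1 = 1 := congrArg Subtype.val hp
      exact Subtype.ext (Prod.ext h1 ((O8.gr_inj hD hprim ht p.2.1).mp h1))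
    · rintro ⟨g, hg, hg'⟩
      obtain ⟨p, hp, rfl⟩ := (O8.mem_H_iff g).mp hg
      exact ⟨⟨p, hp, hg'⟩, rfl⟩
  haveI : Finite ↥C1 := Finite.of_injective f1 b1.1
  set P' := O8.P.subgroupOf O8.H
  have hidx := H_index hD hprim ht
  haveI : P'.Normal := Subgroup.normal_of_index_eq_two hidx
  have hq : Nat.card (↥O8.H ⧸ P') = 2 := by rw [← Subgroup.index_eq_card]; exact hidx
  haveI : IsCyclic (↥O8.H ⧸ P') := by
    haveI : Fact (Nat.Prime 2) := ⟨Nat.prime_two⟩
    exact isCyclic_of_prime_card hq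
  have e2 : (↥O8.H ⧸ P') ≃* Multiplicative (ZMod 2) := (zmodCyclicMulEquiv (G := ↥O8.H ⧸ P')
    inferInstance).symm.trans (AddEquiv.toMultiplicative (by rw [hq]; exact AddEquiv.refl _))
  let χ : ↥C1 →* Multiplicative (ZMod 2) := e2.toMonoidHom.comp ((QuotientGroup.mk' P').comp
    ((Subgroup.inclusion (inf_le_left : C ≤ O8.H)).comp f1))
  let ψ : ↥C1 →* Multiplicative (ZMod 2) × Cfsg.PSp 3 (ZMod 2) :=
    χ.prod ((QuotientGroup.mk' _).comp toSp)
  have hinj : Function.Injective ψ := by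
    refine (injective_iff_map_eq_one ψ).mpr fun p hp => ?_
    obtain ⟨h1, h2⟩ := Prod.mk.inj hp
    have h3 : toSp p = 1 := by
      have hm := (QuotientGroup.eq_one_iff _).mp h2
      rw [Cfsg.Agent.Lie.SymplecticSix.center_eq_bot (by simp [ZMod.card])] at hm
      exact Subgroup.mem_bot.mp hm
    rcases toSp_ker hD hprim ht h3 with e | e
    · exact Subtype.ext (Prod.ext e ((O8.gr_inj hD hprim ht p.2.1).mp e))
    · exfalso
      have h4 : (Subgroup.inclusion (inf_le_left : C ≤ O8.H) (f1 p)) ∈ P' :=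
        (QuotientGroup.eq_one_iff _).mp (e2.injective (h1.trans (map_one e2).symm))
      apply tA_notP hD hprim ht
      rw [← e]; exact h4
  have hcard : Nat.card ↥C1 = 2903040 := by
    rw [Nat.card_congr (MulEquiv.ofBijective f1 b1).toEquiv]
    have h := TripleCent.orbit_stab O8.H tA
    have himg : ((fun h => h * tA * h⁻¹) '' (O8.H : Set pres.Grp)) =
        ((Finset.range 120).image fun i => O8.ad i : Finset pres.Grp) := by
      ext y
      simp only [Set.mem_image, Finset.coe_image, Finset.coe_range, Set.mem_Iio, SetLike.mem_coe]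
      constructor
      · rintro ⟨k, hk, rfl⟩
        obtain ⟨i, hi, e⟩ := apt_idx (H_keeps hk (apt_zero ▸ apt_mem (i := 0) (by norm_num)))
        exact ⟨i, hi, by rw [O8.ad, e, act_dp pts_ok k (by norm_num), Lead.Fi22Two.dp_zero]⟩
      · rintro ⟨i, hi, rfl⟩
        obtain ⟨k, hk, hki⟩ := H_orbit (apt_mem hi)
        exact ⟨k, hk, by rw [O8.ad, ← hki, act_dp pts_ok k (by norm_num), Lead.Fi22Two.dp_zero]⟩
    rw [himg, Set.ncard_coe_finset, Finset.card_image_of_injOn, Finset.card_range] at h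
    · obtain ⟨φ⟩ := O8.H_iso hD hprim ht
      rw [Nat.card_congr φ.toEquiv, card_GOp] at h
      rw [hC]; omega
    · intro i hi j hj hij
      simp only [Finset.coe_range, Set.mem_Iio] at hi hj
      exact O8.apt_inj hi hj (FixSearch.dp_inj (A_lt (apt_mem hi)) (A_lt (apt_mem hj)) hij)
  have hT : Nat.card (Multiplicative (ZMod 2) × Cfsg.PSp 3 (ZMod 2)) = 2903040 := by
    have hz := Cfsg.Agent.Lie.SymplecticSix.center_eq_bot (F := ZMod 2) (by simp [ZMod.card])
    rw [Nat.card_prod, Nat.card_congr Multiplicative.toAdd, Nat.card_zmod,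
      Nat.card_congr ((QuotientGroup.quotientMulEquivOfEq hz).trans QuotientGroup.quotientBot).toEquiv,
      Cfsg.Agent.Lie.SymplecticSix.card_sp (by simp [ZMod.card])]
  haveI : Finite (Multiplicative (ZMod 2) × Cfsg.PSp 3 (ZMod 2)) := Nat.finite_of_card_ne_zero (by omega)
  have hb : Function.Bijective ψ := (Nat.bijective_iff_injective_and_card ψ).mpr ⟨hinj, by omega⟩
  exact ⟨(MulEquiv.subgroupCongr (C_eq hD hprim ht)).trans
    ((MulEquiv.ofBijective f1 b1).symm.trans (MulEquiv.ofBijective ψ hb))⟩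

end Cfsg.Agent.Spor.M22U.Outv
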