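import Cfsg.Agent.Lib.Spor.M22UInvol
import Cfsg.Agent.Lib.Spor.M22UFrame

/-!
The 693 transvections of PSU(6,2) in the coordinates of the tables.
-/

set_option autoImplicit false
set_option maxRecDepth 100000
set_option linter.unusedSectionVars false
set_option Elab.async false

namespace Cfsg.Agent.Spor.M22U.Pts

open Matrix Cfsg.Agent.Small Cfsg.Agent.Small.Unitary Cfsg.Agent.Spor.SpFour Cfsg.Agent.Spor.CC
open Cfsg.Agent.Spor.M22U.Invol (V6 G6 TV mk)

/-- the vector of a point -/
abbrev gv (i : ℕ) : V6 := SUSix.vecOf (SUSix.pt i)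

/-- the projective transvection of a point -/
noncomputable def ptr (i : ℕ) : Cfsg.PSU 6 F4 2 := mk (TV (gv i))

/-- check of one image -/
def imgOK (y : ℕ) : Bool :=
  (List.range 8).all fun j =>
    Nat.beq (SUSix.idx (SUSix.code (gv y + herm (gv (gpt j)) (gv y) • gv (gpt j)))) (pim j y)

theorem img0 : rangeOK imgOK 0 350 = true := by decide +kernel
theorem img1 : rangeOK imgOK 350 343 = true := by decide +kernel

/-- words joining the first generating point to the others -/
def jw : List (List ℕ) := [[], [0, 1], [1, 2, 0, 1], [7, 3, 0, 7], [7, 4, 0, 7], [7, 5, 0, 7], [0, 6], [0, 7]]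

/-- separation check -/
def sepOK (k : ℕ) : Bool :=
  Nat.beq k (gpt 0) || (List.range 693).any fun z => !(orth (gpt 0) z == orth k z)

theorem sep0 : rangeOK sepOK 0 693 = true := by decide +kernel

theorem jw_ok : ∀ j < 8, below 8 (jw.getD j []) = true ∧ pev (jw.getD j []) (gpt 0) = gpt j := by decide +kernel

theorem gv_spec {i : ℕ} (hi : i < 693) : gv i ≠ 0 ∧ herm (gv i) (gv i) = 0 := by
  obtain ⟨-, h1, h2⟩ := SUSix.pt_spec hi
  exact ⟨h1, h2⟩

theorem exists_ptr {u : V6} (hu : u ≠ 0) (h : herm u u = 0) :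
    SUSix.idx (SUSix.code u) < 693 ∧ mk (TV u) = ptr (SUSix.idx (SUSix.code u)) := by
  obtain ⟨h1, c, hc, he⟩ := SUSix.exists_pt u hu h
  refine ⟨h1, ?_⟩
  rw [ptr]
  conv_lhs => rw [he]
  rw [show TV (c • gv (SUSix.idx (SUSix.code u))) = TV (gv (SUSix.idx (SUSix.code u))) from
    CoverUnitarySix.T_smul F4.star_eq_pow F4.card hc (gv_spec h1).2]

theorem act_gen {j y : ℕ} (hj : j < 8) (hy : y < 693) :
    SUSix.idx (SUSix.code (act (TV (gv (gpt j))) (gv y))) = pim j y := by
  have h : imgOK y = true := by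
    by_cases hlt : y < 350
    · exact all_range (p := imgOK) img0 (Nat.zero_le _) (by omega)
    · exact all_range (p := imgOK) img1 (by omega) (by omega)
  rw [CoverUnitarySix.act_T F4.star_eq_pow (gv_spec (gpt_lt hj)).2]
  exact Nat.eq_of_beq_eq_true (List.all_eq_true.mp h j (List.mem_range.mpr hj))

theorem gen_conj {j y : ℕ} (hj : j < 8) (hy : y < 693) :
    ptr (gpt j) * ptr y * (ptr (gpt j))⁻¹ = ptr (pim j y) := by
  rw [← act_gen hj hy]
  have hiso : herm (act (TV (gv (gpt j))) (gv y)) (act (TV (gv (gpt j))) (gv y)) = 0 := by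
    rw [herm_act F4.star_eq_pow]; exact (gv_spec hy).2
  have hne : act (TV (gv (gpt j))) (gv y) ≠ 0 := fun h => (gv_spec hy).1 (act_injective _ (h.trans (by
    simp [act])))
  rw [← (exists_ptr hne hiso).2]
  show mk _ * mk _ * (mk _)⁻¹ = mk _
  rw [← map_inv, ← map_mul, ← map_mul, CoverUnitarySix.T_conj]

/-- value of a word -/
noncomputable def pw (w : List ℕ) : Cfsg.PSU 6 F4 2 := (w.map fun j => ptr (gpt j)).prod

theorem pw_conj : ∀ {w : List ℕ}, below 8 w = true → ∀ {y : ℕ}, y < 693 →
    pw w * ptr y * (pw w)⁻¹ = ptr (pev w y)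
  | [], _, y, _ => by simp [pw, pev]
  | j :: w, hw, y, hy => by
    rw [below_iff] at hw
    have hw' : below 8 w = true := below_iff.mpr fun z hz => hw z (by simp [hz])
    calc pw (j :: w) * ptr y * (pw (j :: w))⁻¹ = ptr (gpt j) * (pw w * ptr y * (pw w)⁻¹) * (ptr (gpt j))⁻¹ := by
          simp only [pw, List.map_cons, List.prod_cons]; group
      _ = _ := by rw [pw_conj hw' hy, gen_conj (hw j (by simp)) (pev_lt hw' hy)]; rfl

theorem ptr_sq (i : ℕ) : ptr i * ptr i = 1 := by
  rw [ptr, ← map_mul, CoverUnitarySix.T_sq, map_one]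

/-- every point is a translate of the first -/
theorem from_first {x : ℕ} (hx : x < 693) :
    ∃ w, below 8 w = true ∧ pev w (gpt 0) = x := by
  obtain ⟨h1, h2, h3⟩ := pt_word hx
  obtain ⟨j1, j2⟩ := jw_ok _ h1
  exact ⟨pwW x ++ jw.getD (pwJ x) [], below_append h2 j1, by rw [pev_append, j2, h3]⟩

theorem ptr_word {x : ℕ} (hx : x < 693) : ptr x = pw (cwd x) := by
  obtain ⟨h1, h2, h3⟩ := pt_word hx
  conv_lhs => rw [← h3, ← pw_conj h2 (gpt_lt h1)]
  have hrev : ∀ w : List ℕ, pw w.reverse = (pw w)⁻¹ := by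
    intro w
    induction w with
    | nil => simp [pw]
    | cons j w ih =>
      simp only [pw, List.reverse_cons, List.map_append, List.prod_append, List.map_cons, List.prod_cons,
        List.map_nil, List.prod_nil, mul_one, _root_.mul_inv_rev] at ih ⊢
      rw [ih, inv_eq_of_mul_eq_one_right (ptr_sq (gpt j))]
  rw [← hrev]
  simp only [pw, cwd, List.map_append, List.prod_append, List.map_cons, List.prod_cons, mul_assoc]

theorem first_inj {k : ℕ} (hk : k < 693) (h : ptr (gpt 0) = ptr k) : k = gpt 0 := by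
  have hg : gpt 0 < 693 := gpt_lt (by norm_num)
  have key : ∀ z < 693, pev (cwd (gpt 0)) z = pev (cwd k) z := by
    intro z hz
    have e : pw (cwd (gpt 0)) = pw (cwd k) := by rw [← ptr_word hg, ← ptr_word hk, h]
    -- the permutation of an element of the projective group
    let ρ : Cfsg.PSU 6 F4 2 →* Equiv.Perm (Fin 693) :=
      QuotientGroup.lift (Subgroup.center G6) SUSix.uperm (le_of_eq SUSix.ker_eq.symm)
    have hρ : ∀ w, below 8 w = true → ∀ u : Fin 693, (ρ (pw w) u : ℕ) = pev w u := by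
      intro w
      induction w with
      | nil => intro _ u; simp [pw, pev]
      | cons j w ih =>
        intro hw u
        rw [below_iff] at hw
        have hw' : below 8 w = true := below_iff.mpr fun x hx => hw x (by simp [hx])
        have e2 : ρ (pw (j :: w)) u = SUSix.uperm (TV (gv (gpt j))) (ρ (pw w) u) := by
          rw [show pw (j :: w) = ptr (gpt j) * pw w by simp [pw], map_mul, Equiv.Perm.mul_apply]
          rfl
        have hlt : pev w (u : ℕ) < 693 := pev_lt hw' u.2
        rw [e2, SUSix.uperm_val, ih hw' u]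
        exact act_gen (hw j (by simp)) hlt
    have hc : ∀ x < 693, below 8 (cwd x) = true := fun x hx => by
      obtain ⟨h1, h2, -⟩ := pt_word hx
      exact below_append h2 (below_iff.mpr fun y hy => by
        rcases List.mem_cons.mp hy with rfl | hy
        · exact h1
        · exact below_iff.mp (below_rev h2) y hy)
    rw [← hρ _ (hc _ hg) ⟨z, hz⟩, ← hρ _ (hc _ hk) ⟨z, hz⟩, e]
  have := all_range (p := sepOK) sep0 (Nat.zero_le _) (show k < 0 + 693 by omega)
  simp only [sepOK, Bool.or_eq_true, List.any_eq_true, List.mem_range] at this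
  rcases this with h' | ⟨z, hz, h'⟩
  · exact Nat.eq_of_beq_eq_true h'
  · simp [orth, key z hz] at h'

theorem ptr_inj {i k : ℕ} (hi : i < 693) (hk : k < 693) (h : ptr i = ptr k) : i = k := by
  obtain ⟨w, hw, hwi⟩ := from_first hi
  have hr := below_rev hw
  have hg : gpt 0 < 693 := gpt_lt (by norm_num)
  have e1 : pev w.reverse i = gpt 0 := by rw [← hwi, pev_rev hw hg]
  have e2 : pev w.reverse k = gpt 0 := first_inj (pev_lt hr hk) (by
    rw [← e1, ← pw_conj hr hi, ← pw_conj hr hk, h])
  exact pev_inj hr hi hk (e1.trans e2.symm)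

theorem ptr_ne_one {i : ℕ} (hi : i < 693) : ptr i ≠ 1 := by
  intro h
  have hall : ∀ x, x < 693 → ptr x = 1 := by
    intro x hx
    obtain ⟨w, hw, hwi⟩ := from_first hi
    obtain ⟨v, hv, hvx⟩ := from_first hx
    have hg : gpt 0 < 693 := gpt_lt (by norm_num)
    have h0 : ptr (gpt 0) = 1 := by
      rw [← pev_rev hw hg, hwi, ← pw_conj (below_rev hw) hi, h]; group
    rw [← hvx, ← pw_conj hv hg, h0]; group
  have := ptr_inj (gpt_lt (show 0 < 8 by norm_num)) (gpt_lt (show 7 < 8 by norm_num))
    ((hall _ (gpt_lt (by norm_num))).trans (hall _ (gpt_lt (by norm_num))).symm)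
  have h7 := gpt_T (show 0 < 7 by norm_num)
  rw [this] at h7
  rw [misc_ok.2.2.2.2.2.2.2.2.2.2.2.2.2.1] at h7
  exact Bool.noConfusion h7

theorem ptr_commute {i k : ℕ} (hi : i < 693) (hk : k < 693) :
    Commute (ptr i) (ptr k) ↔ herm (gv i) (gv k) = 0 := by
  constructor
  · intro h
    by_contra hne
    set u := act (TV (gv i)) (gv k)
    have hu : u = gv k + herm (gv i) (gv k) • gv i := CoverUnitarySix.act_T F4.star_eq_pow (gv_spec hi).2 _
    have hiso : herm u u = 0 := by rw [herm_act F4.star_eq_pow]; exact (gv_spec hk).2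
    have hu0 : u ≠ 0 := fun h0 => (gv_spec hk).1 (act_injective (TV (gv i)) (h0.trans (by simp [act])))
    obtain ⟨hl, he⟩ := exists_ptr hu0 hiso
    have hfix : ptr (SUSix.idx (SUSix.code u)) = ptr k := by
      rw [← he]
      show mk (CoverUnitarySix.T F4.star_eq_pow (act (TV (gv i)) (gv k))) = mk (TV (gv k))
      rw [← CoverUnitarySix.T_conj F4.star_eq_pow (TV (gv i)) (gv k), map_mul, map_mul, map_inv]
      show ptr i * ptr k * (ptr i)⁻¹ = ptr k
      rw [h.eq, mul_inv_cancel_right]
    have hidx := ptr_inj hl hk hfix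
    obtain ⟨-, c, hc, hcu⟩ := SUSix.exists_pt u hu0 hiso
    rw [hidx] at hcu
    have := congrArg (fun z => herm (gv i) z) hcu
    rw [hu] at this
    simp only [herm_add_right, herm_smul_right, (gv_spec hi).2, mul_zero, add_zero] at this
    have hc1 : c = 1 := by
      have e2 : c * herm (gv i) (gv k) = 1 * herm (gv i) (gv k) := by rw [one_mul]; exact this.symm
      exact mul_right_cancel₀ hne e2
    rw [hc1, one_smul, hu] at hcu
    have h0 : herm (gv i) (gv k) • gv i = 0 := by
      have := congrArg (fun z => z - gv k) hcu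
      simpa using this
    rcases smul_eq_zero.mp h0 with h0 | h0
    · exact hne h0
    · exact (gv_spec hi).1 h0
  · intro h
    show mk _ * mk _ = mk _ * mk _
    rw [← map_mul, ← map_mul, show TV (gv i) * TV (gv k) = TV (gv k) * TV (gv i) from
      CoverUnitarySix.T_comm F4.star_eq_pow h]

end Cfsg.Agent.Spor.M22U.Pts
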