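import Cfsg.Agent.Lib.Spor.M23CohDefs

/-!
The checks for the second cohomology of M23 with values in the code and cocode modules.
-/

set_option autoImplicit false
set_option maxRecDepth 100000

namespace Cfsg.Agent.Spor.M23Coh

theorem edge_ok : edgeOK 0 154 = true := by decide +kernel

theorem eqs_ok : (List.range 106).all (fun e => eqOK (eqsL.getD e [])) = true := by decide +kernel

theorem prel_ok : pRelOK = true := by decide +kernel

theorem relval_ok : relValOK = true := by decide +kernel

theorem distinct_ok : distinctOK = true := by decide +kernel

theorem actC_ok : actCOK = true := by decide +kernel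

theorem actD_ok : actDOK = true := by decide +kernel

theorem eqRowsC_ok : eqRowsOK rowsC eqRC = true := by decide +kernel

theorem eqRowsD_ok : eqRowsOK rowsD eqRD = true := by decide +kernel

theorem combC_ok : combOK rowsC eqRC gaugeC combC restC tmaskC 0 308 = true := by decide +kernel

theorem combD_ok : combOK rowsD eqRD gaugeD combD restD tmaskD 0 308 = true := by decide +kernel

theorem restC_nil : restC = [] := by decide +kernel

end Cfsg.Agent.Spor.M23Coh
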