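import Cfsg.Agent.Lib.Spor.M23CohData
import Cfsg.Agent.Lib.Spor.GolayWordChain

/-!
Checking functions for the second cohomology of M23 with values in the code module and the cocode module.
-/

set_option autoImplicit false

namespace Cfsg.Agent.Spor.M23Coh

open Cfsg.Agent.Spor Cfsg.Agent.Spor.WordChain

/-- a generator -/
def gl (j : ℕ) : List ℕ := gL.getD j []

/-- the image list of a word -/
def wl (w : List ℕ) : List ℕ := w.foldl (fun a j => lmul a (gl j)) (List.range 24)

/-- the image list of a vertex -/
def vlst (i : ℕ) : List ℕ := wl (vW.getD i [])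

/-- an edge -/
def nx (i j : ℕ) : ℕ := (nxtT.getD i []).getD j 999

/-- the edges are correct -/
def edgeOK (lo len : ℕ) : Bool :=
  (List.range len).all fun k => (List.range 11).all fun j =>
    Nat.beq (nx (lo + k) j) 999 || (Nat.blt (nx (lo + k) j) 154 && (lmul (vlst (lo + k)) (gl j) == vlst (nx (lo + k) j)))

/-- a walk: validity, the edges and the end -/
def walkE : List ℕ → ℕ → Bool × ℕ × ℕ
  | [], x => (true, 0, x)
  | j :: w, x => (Nat.blt j 11 && Nat.blt (nx x j) 154 && (walkE w (nx x j)).1,
      (1 <<< (11 * x + j)) ^^^ (walkE w (nx x j)).2.1, (walkE w (nx x j)).2.2)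

/-- a relation at a vertex -/
def termOK (x r : ℕ) : Bool :=
  (walkE (rels.getD r ([], [])).1 x).1 && (walkE (rels.getD r ([], [])).2 x).1 &&
    Nat.beq (walkE (rels.getD r ([], [])).1 x).2.2 (walkE (rels.getD r ([], [])).2 x).2.2

/-- the edges of a relation at a vertex -/
def termMask (x r : ℕ) : ℕ :=
  (walkE (rels.getD r ([], [])).1 x).2.1 ^^^ (walkE (rels.getD r ([], [])).2 x).2.1

/-- the edges of a list of relations at vertices -/
def edgeSum : List (ℕ × ℕ) → ℕ
  | [] => 0
  | e :: l => termMask e.1 e.2 ^^^ edgeSum l

/-- an identity between the relations -/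
def eqOK (l : List (ℕ × ℕ)) : Bool :=
  (l.all fun e => Nat.blt e.1 154 && Nat.blt e.2 41 && termOK e.1 e.2) && Nat.beq (edgeSum l) 0

/-- a row of a matrix -/
def row (rows : List (List ℕ)) (x i : ℕ) : ℕ := (rows.getD x []).getD i 0

/-- the row of an identity -/
def eqRow (rows : List (List ℕ)) (i : ℕ) : List (ℕ × ℕ) → ℕ
  | [] => 0
  | e :: l => (row rows e.1 i <<< (11 * e.2)) ^^^ eqRow rows i l

/-- the rows of the identities are as tabulated -/
def eqRowsOK (rows eqR : List (List ℕ)) : Bool :=
  (List.range 106).all fun e => (List.range 11).all fun i =>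
    Nat.beq ((eqR.getD e []).getD i 0) (eqRow rows i (eqsL.getD e []))

/-- the sum of selected entries -/
def sel (K : List ℕ) (j m : ℕ) : ℕ → ℕ
  | 0 => 0
  | k + 1 => if Nat.testBit m k then K.getD (11 * j + k) 0 ^^^ sel K j m k else sel K j m k

/-- the effect of the change of lifts along a walk -/
def dMask (rows : List (List ℕ)) (K : List ℕ) (i : ℕ) : List ℕ → ℕ → ℕ
  | [], _ => 0
  | j :: w, x => sel K j (row rows x i) 11 ^^^ dMask rows K i w (nx x j)

/-- the bit of a relation after the change of lifts -/
def target (rows : List (List ℕ)) (K : List ℕ) (b : ℕ) : ℕ :=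
  (1 <<< b) ^^^ dMask rows K (b % 11) (rels.getD (b / 11) ([], [])).1 0 ^^^
    dMask rows K (b % 11) (rels.getD (b / 11) ([], [])).2 0

/-- a sum of rows of identities -/
def combSum (eqR : List (List ℕ)) : List ℕ → ℕ
  | [] => 0
  | q :: l => (eqR.getD (q / 11) []).getD (q % 11) 0 ^^^ combSum eqR l

/-- the bits after the change of lifts are combinations -/
def combOK (rows eqR : List (List ℕ)) (K : List ℕ) (comb : List (List ℕ)) (rest : List ℕ) (t lo len : ℕ) : Bool :=
  (List.range len).all fun k =>
    (comb.getD (lo + k) []).all (fun q => Nat.blt q 1166) &&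
      Nat.beq (combSum eqR (comb.getD (lo + k) []) ^^^ (if rest.contains (lo + k) then t else 0))
        (target rows K (lo + k))

/-- the relations of the Sylow subgroup -/
def pRelOK : Bool :=
  (List.range 28).all (fun r => termOK 0 r) &&
    (List.range 7).all fun l => (List.range (l + 1)).all fun k =>
      (List.range 28).any fun r => ((rels.getD r ([], [])).1 == [l, k]) &&
        (if Nat.beq l k then (rels.getD r ([], [])).2.all (fun i => Nat.blt l i && Nat.blt i 7)
         else match (rels.getD r ([], [])).2 with
           | [] => false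
           | h :: w => Nat.beq h k && w.all (fun i => Nat.blt k i && Nat.blt i 7))

/-- the values of the relations -/
def relValOK : Bool :=
  (List.range 41).all fun r => wl (rels.getD r ([], [])).1 == wl (rels.getD r ([], [])).2

/-- the ordered word of a subset -/
def setWord (m : ℕ) : List ℕ := (List.range 7).filter fun i => Nat.testBit m i

/-- a number for an image list -/
def packN (l : List ℕ) : ℕ := l.foldl (fun a x => 32 * a + x) 0

/-- the Sylow subgroup has 128 elements -/
def distinctOK : Bool :=
  let l := (List.range 128).map fun m => packN (wl (setWord m))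
  decide l.Nodup

/-- the matrices of the code module -/
def actCOK : Bool :=
  (List.range 154).all fun x => (List.range 11).all fun k =>
    Nat.beq (pmask (vlst x) (codeB.getD k 0))
      ((List.range 11).foldl (fun a i => if Nat.testBit (row rowsC x i) k then a ^^^ codeB.getD i 0 else a) 0)

/-- membership in the kernel of the cocode map -/
def inKer (m : ℕ) : Bool :=
  Local.FS.Mathieu.reduceB Local.FS.Mathieu.codeEchelon m ||
    Local.FS.Mathieu.reduceB Local.FS.Mathieu.codeEchelon (m ^^^ 8388608)

/-- a combination of free coordinates -/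
def freeMask (f : ℕ → Bool) : ℕ :=
  (List.range 11).foldl (fun a i => if f i then a ^^^ (1 <<< freeP.getD i 0) else a) 0

/-- the matrices of the cocode module -/
def actDOK : Bool :=
  (List.range 154).all fun x => (List.range 11).all fun k =>
    inKer ((1 <<< (vlst x).getD (freeP.getD k 0) 0) ^^^ freeMask (fun i => Nat.testBit (row rowsD x i) k))

end Cfsg.Agent.Spor.M23Coh
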