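import Cfsg.Agent.Lib.Spor.M23CohLin
import Cfsg.Agent.Lib.Spor.M23CohCheck
import Cfsg.Agent.Lib.Spor.M23CohGaschuetz

/-!
The relations of M23 lifted to an extension by an elementary abelian group of order 2^11: the values satisfy the
equations given by the identities, hence the extension splits over a Sylow 2-subgroup once the invariant vanishes.
-/

set_option autoImplicit false
set_option maxRecDepth 100000

noncomputable section

namespace Cfsg.Agent.Spor.M23Coh

open Cfsg Cfsg.Agent.Spor Cfsg.Agent.Spor.WordChain Cfsg.Agent.Local.FS.Mathieu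

/-- an extension of M23 with given action -/
structure Ext (E : Type*) [Group E] (act : M → W → W) where
  proj : E →* M
  surj : Function.Surjective proj
  ι : W → E
  ι_add : ∀ v w, ι (v + w) = ι v * ι w
  ι_inj : Function.Injective ι
  ι_ker : ∀ e, proj e = 1 ↔ ∃ w, ι w = e
  conj : ∀ g w, g * ι w = ι (act (proj g) w) * g

variable {E : Type*} [Group E] {act : M → W → W} (X : Ext E act)

namespace Ext

theorem ι_zero : X.ι 0 = 1 := by
  have h := X.ι_add 0 0
  rw [add_zero] at h
  exact left_eq_mul.1 h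

theorem proj_ι (w : W) : X.proj (X.ι w) = 1 := (X.ι_ker _).2 ⟨w, rfl⟩

theorem exists_diff {a b : E} (h : X.proj a = X.proj b) : ∃ w, a = X.ι w * b := by
  obtain ⟨w, hw⟩ := (X.ι_ker (a * b⁻¹)).1 (by rw [map_mul, map_inv, h, mul_inv_cancel])
  exact ⟨w, by rw [hw, inv_mul_cancel_right]⟩

end Ext

/-- the product of lifts -/
def lval (L : ℕ → E) (w : List ℕ) : E := (w.map L).prod

theorem proj_lval {L : ℕ → E} (hL : ∀ j, X.proj (L j) = gen j) (w : List ℕ) : X.proj (lval L w) = gval w := by
  rw [lval, map_list_prod, List.map_map, gval]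
  exact congrArg List.prod (List.map_congr_left fun j _ => hL j)

theorem edge_spec {x j : ℕ} (hx : x < 154) (hj : j < 11) (hn : nx x j < 154) : el (nx x j) = el x * gen j := by
  have h0 := edge_ok
  unfold edgeOK at h0
  have h := List.all_eq_true.1 (List.all_eq_true.1 h0 x (List.mem_range.2 hx)) j (List.mem_range.2 hj)
  simp only [Nat.zero_add, Bool.or_eq_true, Nat.beq_eq, Bool.and_eq_true, beq_iff_eq] at h
  rcases h with h | h
  · omega
  · refine eq_of_lst ?_
    rw [lst_el hn, Subgroup.coe_mul, lst_lmul', lst_el hx, lst_gen hj, h.2]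

theorem relval {r : ℕ} (hr : r < 41) : gval (rels.getD r ([], [])).1 = gval (rels.getD r ([], [])).2 := by
  have h0 := relval_ok
  unfold relValOK at h0
  have h := List.all_eq_true.1 h0 r (List.mem_range.2 hr)
  rw [beq_iff_eq] at h
  exact eq_of_lst (by rw [lst_gval (rels_lt r hr).1, lst_gval (rels_lt r hr).2, h])

theorem exists_values {L : ℕ → E} (hL : ∀ j, X.proj (L j) = gen j) : ∃ v : ℕ → W, ∀ r < 41,
    lval L (rels.getD r ([], [])).1 = X.ι (v r) * lval L (rels.getD r ([], [])).2 := by
  have h : ∀ r, ∃ w, r < 41 → lval L (rels.getD r ([], [])).1 = X.ι w * lval L (rels.getD r ([], [])).2 := by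
    intro r
    by_cases hr : r < 41
    · obtain ⟨w, hw⟩ := X.exists_diff (a := lval L (rels.getD r ([], [])).1) (b := lval L (rels.getD r ([], [])).2)
        (by rw [proj_lval X hL, proj_lval X hL, relval hr])
      exact ⟨w, fun _ => hw⟩
    · exact ⟨0, fun h => absurd h hr⟩
  choose v hv using h
  exact ⟨v, hv⟩

/-- the hypotheses on the tables of a module -/
structure Tab (act : M → W → W) (rows eqR : List (List ℕ)) : Prop where
  hact : ∀ x < 154, ∀ w, act (el x) w = mat rows x w
  hrow : ∀ x < 154, ∀ i < 11, row rows x i < 2 ^ 11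
  heq : eqRowsOK rows eqR = true

variable {rows eqR : List (List ℕ)}

/-- sections and edge values -/
structure Sec (X : Ext E act) (L : ℕ → E) where
  s : ℕ → E
  s_proj : ∀ x, X.proj (s x) = el x
  s_zero : s 0 = 1
  c : ℕ → W
  step : ∀ x j, x < 154 → j < 11 → nx x j < 154 → s x * L j = X.ι (fun k => (c (11 * x + j)) k) * s (nx x j)

theorem exists_sec {L : ℕ → E} (hL : ∀ j, X.proj (L j) = gen j) : Nonempty (Sec X L) := by
  choose s0 hs0 using X.surj
  let s : ℕ → E := fun x => if x = 0 then 1 else s0 (el x)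
  have hs : ∀ x, X.proj (s x) = el x := by
    intro x
    simp only [s]
    split_ifs with h
    · rw [h, map_one, el_zero]
    · exact hs0 _
  have h : ∀ q, ∃ w, q / 11 < 154 → nx (q / 11) (q % 11) < 154 →
      s (q / 11) * L (q % 11) = X.ι w * s (nx (q / 11) (q % 11)) := by
    intro q
    by_cases hq : q / 11 < 154 ∧ nx (q / 11) (q % 11) < 154
    · obtain ⟨w, hw⟩ := X.exists_diff (a := s (q / 11) * L (q % 11)) (b := s (nx (q / 11) (q % 11)))
        (by rw [map_mul, hs, hL, hs, edge_spec hq.1 (Nat.mod_lt _ (by norm_num)) hq.2])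
      exact ⟨w, fun _ _ => hw⟩
    · exact ⟨0, fun a b => absurd ⟨a, b⟩ hq⟩
  choose c hc using h
  refine ⟨⟨s, hs, if_pos rfl, c, fun x j hx hj hn => ?_⟩⟩
  have e1 : (11 * x + j) / 11 = x := by omega
  have e2 : (11 * x + j) % 11 = j := by omega
  have := hc (11 * x + j)
  rw [e1, e2] at this
  exact this hx hn

/-- the sum of the edge values of a mask -/
def cm {L : ℕ → E} (S : Sec X L) (m : ℕ) : W :=
  fun i => par 154 (fun x j => S.c (11 * x + j) i) m

theorem cm_xor {L : ℕ → E} (S : Sec X L) (a b : ℕ) : cm X S (a ^^^ b) = cm X S a + cm X S b :=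
  funext fun _ => par_xor _ _ a b

theorem walk_spec {L : ℕ → E} (S : Sec X L) : ∀ (w : List ℕ) (x : ℕ), x < 154 → (walkE w x).1 = true →
    S.s x * lval L w = X.ι (cm X S (walkE w x).2.1) * S.s (walkE w x).2.2
  | [], x, _, _ => by
    have : cm X S (walkE [] x).2.1 = 0 := funext fun _ => par_zero _ _
    rw [this, X.ι_zero]
    simp [lval, walkE]
  | j :: w, x, hx, h => by
    simp only [walkE, Bool.and_eq_true, Nat.blt_eq] at h
    obtain ⟨⟨hj, hn⟩, hw⟩ := h
    have ih := walk_spec S w (nx x j) hn hw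
    show S.s x * lval L (j :: w) = X.ι (cm X S ((1 <<< (11 * x + j)) ^^^ (walkE w (nx x j)).2.1)) * S.s (walkE w (nx x j)).2.2
    have e : cm X S (1 <<< (11 * x + j)) = fun k => S.c (11 * x + j) k := funext fun i => par_single hx hj _
    rw [cm_xor, X.ι_add, e, mul_assoc, ← ih, ← mul_assoc (X.ι _), ← S.step x j hx hj hn]
    simp [lval, mul_assoc]

theorem term_spec (T : Tab act rows eqR) {L : ℕ → E} (S : Sec X L) {v : ℕ → W}
    (hv : ∀ r < 41, lval L (rels.getD r ([], [])).1 = X.ι (v r) * lval L (rels.getD r ([], [])).2)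
    {x r : ℕ} (hx : x < 154) (hr : r < 41) (h : termOK x r = true) :
    mat rows x (v r) = cm X S (termMask x r) := by
  simp only [termOK, Bool.and_eq_true, Nat.beq_eq] at h
  obtain ⟨⟨hu, hw⟩, he⟩ := h
  have h1 := walk_spec X S _ x hx hu
  rw [hv r hr, ← mul_assoc, X.conj, S.s_proj, T.hact x hx, mul_assoc, walk_spec X S _ x hx hw, ← mul_assoc,
    ← X.ι_add, ← he] at h1
  have h2 := X.ι_inj (mul_right_cancel h1)
  rw [termMask, cm_xor, ← h2, add_assoc, add_self_W, add_zero]

theorem eqRow_spec (T : Tab act rows eqR) {L : ℕ → E} (S : Sec X L) {v : ℕ → W}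
    (hv : ∀ r < 41, lval L (rels.getD r ([], [])).1 = X.ι (v r) * lval L (rels.getD r ([], [])).2) {i : ℕ} (hi : i < 11) :
    ∀ l : List (ℕ × ℕ), (∀ e ∈ l, e.1 < 154 ∧ e.2 < 41 ∧ termOK e.1 e.2 = true) →
      par 41 v (eqRow rows i l) = cm X S (edgeSum l) ⟨i, hi⟩
  | [], _ => by rw [eqRow, edgeSum, par_zero]; exact (par_zero _ _).symm
  | e :: l, h => by
    obtain ⟨hx, hr, ht⟩ := h e List.mem_cons_self
    rw [eqRow, edgeSum, par_xor, cm_xor, Pi.add_apply, ← term_spec X T S hv hx hr ht,
      eqRow_spec T S hv hi l fun k hk => h k (List.mem_cons_of_mem e hk), par_shift hr (T.hrow _ hx _ hi)]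
    rfl

theorem equations (T : Tab act rows eqR) {L : ℕ → E} (hL : ∀ j, X.proj (L j) = gen j) {v : ℕ → W}
    (hv : ∀ r < 41, lval L (rels.getD r ([], [])).1 = X.ι (v r) * lval L (rels.getD r ([], [])).2) :
    ∀ q < 1166, par 41 v ((eqR.getD (q / 11) []).getD (q % 11) 0) = 0 := by
  obtain ⟨S⟩ := exists_sec X hL
  intro q hq
  have hi : q % 11 < 11 := Nat.mod_lt _ (by norm_num)
  have he : q / 11 < 106 := by omega
  have h0 := T.heq
  unfold eqRowsOK at h0
  have h1 := List.all_eq_true.1 (List.all_eq_true.1 h0 (q / 11) (List.mem_range.2 he)) (q % 11) (List.mem_range.2 hi)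
  have h2 := List.all_eq_true.1 eqs_ok (q / 11) (List.mem_range.2 he)
  simp only [eqOK, Bool.and_eq_true, Nat.beq_eq, List.all_eq_true, Nat.blt_eq] at h2
  rw [Nat.beq_eq] at h1
  rw [h1, eqRow_spec X T S hv hi _ (fun e he' => ⟨(h2.1 e he').1.1, (h2.1 e he').1.2, (h2.1 e he').2⟩), h2.2]
  exact par_zero _ _

theorem comb_zero {v : ℕ → W} (h : ∀ q < 1166, par 41 v ((eqR.getD (q / 11) []).getD (q % 11) 0) = 0) :
    ∀ l : List ℕ, (∀ q ∈ l, q < 1166) → par 41 v (combSum eqR l) = 0
  | [], _ => par_zero _ _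
  | q :: l, hl => by
    rw [combSum, par_xor, h q (hl q List.mem_cons_self),
      comb_zero h l fun k hk => hl k (List.mem_cons_of_mem q hk), add_zero]

theorem walk_change (T : Tab act rows eqR) {L : ℕ → E} (hL : ∀ j, X.proj (L j) = gen j) {v : ℕ → W} (K : List ℕ)
    (S : Sec X L) : ∀ (w : List ℕ) (x : ℕ), x < 154 → (walkE w x).1 = true →
    S.s x * lval (fun j => X.ι (fun k => par 41 v (K.getD (11 * j + k) 0)) * L j) w
      = X.ι (fun i : Fin 11 => par 41 v (dMask rows K i w x)) * (S.s x * lval L w)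
  | [], x, _, _ => by
    have : (fun i : Fin 11 => par 41 v (dMask rows K i [] x)) = 0 := funext fun i => par_zero _ _
    rw [this, X.ι_zero]
    simp [lval]
  | j :: w, x, hx, h => by
    simp only [walkE, Bool.and_eq_true, Nat.blt_eq] at h
    obtain ⟨⟨hj, hn⟩, hw⟩ := h
    have ih := walk_change T hL (v := v) K S w (nx x j) hn hw
    have e : (fun i : Fin 11 => par 41 v (dMask rows K i (j :: w) x)) =
        mat rows x (fun k => par 41 v (K.getD (11 * j + k) 0)) + fun i : Fin 11 => par 41 v (dMask rows K i w (nx x j)) := by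
      funext i
      rw [dMask, par_xor, par_sel, Finset.sum_range]
      rfl
    set n : W := fun k => par 41 v (K.getD (11 * j + k) 0) with hn'
    set d : W := fun i : Fin 11 => par 41 v (dMask rows K i w (nx x j))
    rw [e, X.ι_add]
    show S.s x * (((j :: w).map _).prod) = _
    rw [List.map_cons, List.prod_cons, show lval L (j :: w) = L j * lval L w by simp [lval], ← hn']
    simp only [← mul_assoc]
    rw [X.conj, S.s_proj, T.hact x hx, mul_assoc (X.ι (mat rows x n)) (S.s x) (L j), S.step x j hx hj hn]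
    have hab : ∀ a b, X.ι a * X.ι b = X.ι b * X.ι a := fun a b => by rw [← X.ι_add, ← X.ι_add, add_comm]
    simp only [mul_assoc]
    rw [show ((w.map fun j => X.ι (fun k => par 41 v (K.getD (11 * j + k) 0)) * L j).prod) =
      lval (fun j => X.ι (fun k => par 41 v (K.getD (11 * j + k) 0)) * L j) w from rfl, ih]
    refine congrArg _ ?_
    rw [← mul_assoc (S.s x), S.step x j hx hj hn, ← mul_assoc (X.ι _) (X.ι d), hab _ d]
    simp only [mul_assoc]

/-- the relations of the Sylow subgroup hold for suitable lifts, if the invariant vanishes -/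
theorem exists_good_lifts (T : Tab act rows eqR) {L : ℕ → E} (hL : ∀ j, X.proj (L j) = gen j) {v : ℕ → W}
    (hv : ∀ r < 41, lval L (rels.getD r ([], [])).1 = X.ι (v r) * lval L (rels.getD r ([], [])).2)
    (K : List ℕ) (comb : List (List ℕ)) (rest : List ℕ) (t : ℕ)
    (hcomb : combOK rows eqR K comb rest t 0 308 = true) (ht : rest = [] ∨ par 41 v t = 0) :
    ∃ L' : ℕ → E, (∀ j, X.proj (L' j) = gen j) ∧ ∀ r < 28,
      lval L' (rels.getD r ([], [])).1 = lval L' (rels.getD r ([], [])).2 := by
  refine ⟨fun j => X.ι (fun k => par 41 v (K.getD (11 * j + k) 0)) * L j,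
    fun j => by rw [map_mul, X.proj_ι, one_mul, hL], fun r hr => ?_⟩
  obtain ⟨S⟩ := exists_sec X hL
  have hr' : r < 41 := by omega
  have h0 := prel_ok
  unfold pRelOK at h0
  rw [Bool.and_eq_true] at h0
  have hok := List.all_eq_true.1 h0.1 r (List.mem_range.2 hr)
  simp only [termOK, Bool.and_eq_true] at hok
  have h1 := walk_change X T hL (v := v) K S _ 0 (by norm_num) hok.1.1
  have h2 := walk_change X T hL (v := v) K S _ 0 (by norm_num) hok.1.2
  rw [S.s_zero, one_mul, one_mul] at h1 h2
  rw [h1, h2, hv r hr', ← mul_assoc, ← X.ι_add]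
  refine congrArg (· * _) (congrArg X.ι (funext fun i => ?_))
  rw [Pi.add_apply]
  have hb : 11 * r + (i : ℕ) < 308 := by omega
  unfold combOK at hcomb
  have hc := List.all_eq_true.1 hcomb (11 * r + i) (List.mem_range.2 hb)
  simp only [Nat.zero_add, Bool.and_eq_true, Nat.beq_eq, List.all_eq_true, Nat.blt_eq] at hc
  have h3 := congrArg (par 41 v) hc.2
  rw [par_xor, comb_zero (equations X T hL hv) _ hc.1, zero_add, target, par_xor, par_xor,
    show (11 * r + (i : ℕ)) / 11 = r by omega, show (11 * r + (i : ℕ)) % 11 = i by omega, par_single hr' i.2] at h3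
  have h4 : par 41 v (if rest.contains (11 * r + (i : ℕ)) then t else 0) = 0 := by
    split_ifs with h
    · rcases ht with ht | ht
      · simp [ht] at h
      · exact ht
    · exact par_zero _ _
  rw [h4] at h3
  show par 41 v (dMask rows K i (rels.getD r ([], [])).1 0) + v r i = par 41 v (dMask rows K i (rels.getD r ([], [])).2 0)
  rw [← sub_eq_zero, CharTwo.sub_eq_add]
  linear_combination -h3

end Cfsg.Agent.Spor.M23Coh
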