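import Cfsg.Agent.Lib.Spor.M23CohDefs

/-!
Linear functionals given by bit masks, and the permutations of the vertices.
-/

set_option autoImplicit false
set_option maxRecDepth 100000

noncomputable section

namespace Cfsg.Agent.Spor.M23Coh

open Cfsg Cfsg.Agent.Spor Cfsg.Agent.Spor.WordChain Cfsg.Agent.Local.FS.Mathieu

abbrev F2 : Type := ZMod 2
abbrev W : Type := Fin 11 → F2
abbrev M : Type := ↥Cfsg.Spor.M23

/-- a bit -/
def bitv (b : Bool) : F2 := if b then 1 else 0

theorem bitv_xor (a b : Bool) : bitv (a ^^ b) = bitv a + bitv b := by cases a <;> cases b <;> decide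

theorem add_self_W (w : W) : w + w = 0 := funext fun i => CharTwo.add_self_eq_zero (w i)

/-- the functional of a mask -/
def par (n : ℕ) (β : ℕ → W) (m : ℕ) : F2 :=
  ∑ r ∈ Finset.range n, ∑ k : Fin 11, bitv (m.testBit (11 * r + k)) * β r k

theorem par_zero (n : ℕ) (β : ℕ → W) : par n β 0 = 0 := by simp [par, bitv]

theorem par_xor (n : ℕ) (β : ℕ → W) (a b : ℕ) : par n β (a ^^^ b) = par n β a + par n β b := by
  simp only [par, Nat.testBit_xor, bitv_xor, add_mul, Finset.sum_add_distrib]

theorem par_add (n : ℕ) (β γ : ℕ → W) (m : ℕ) : par n (β + γ) m = par n β m + par n γ m := by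
  simp only [par, Pi.add_apply, mul_add, Finset.sum_add_distrib]

theorem par_shift {n r : ℕ} (hr : r < n) {m : ℕ} (hm : m < 2 ^ 11) (β : ℕ → W) :
    par n β (m <<< (11 * r)) = ∑ k : Fin 11, bitv (m.testBit k) * β r k := by
  rw [par, Finset.sum_eq_single r]
  · refine Finset.sum_congr rfl fun k _ => ?_
    rw [Nat.testBit_shiftLeft, decide_eq_true (show 11 * r ≤ 11 * r + (k : ℕ) by omega), Bool.true_and,
      Nat.add_sub_cancel_left]
  · intro r' _ hne
    refine Finset.sum_eq_zero fun k _ => ?_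
    have h : Nat.testBit (m <<< (11 * r)) (11 * r' + (k : ℕ)) = false := by
      rw [Nat.testBit_shiftLeft]
      by_cases h : 11 * r ≤ 11 * r' + (k : ℕ)
      · rw [decide_eq_true h, Bool.true_and]
        exact Nat.testBit_lt_two_pow (lt_of_lt_of_le hm (Nat.pow_le_pow_right (by norm_num) (by omega)))
      · rw [decide_eq_false h, Bool.false_and]
    simp [h, bitv]
  · intro h; exact absurd (Finset.mem_range.2 hr) h

theorem par_single {n r k : ℕ} (hr : r < n) (hk : k < 11) (β : ℕ → W) :
    par n β (1 <<< (11 * r + k)) = β r ⟨k, hk⟩ := by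
  rw [show (1 : ℕ) <<< (11 * r + k) = ((1 : ℕ) <<< k) <<< (11 * r) by
    rw [← Nat.shiftLeft_add, add_comm], par_shift hr (by
      rw [Nat.one_shiftLeft]; exact Nat.pow_lt_pow_right (by norm_num) hk), Finset.sum_eq_single ⟨k, hk⟩]
  · simp [bitv, Nat.testBit_shiftLeft]
  · intro j _ hj
    have : k ≠ (j : ℕ) := fun e => hj (Fin.ext e.symm)
    simp [bitv, Nat.one_shiftLeft, Nat.testBit_two_pow_of_ne this]
  · simp

/-- the matrix of a vertex -/
def mat (rows : List (List ℕ)) (x : ℕ) (w : W) : W :=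
  fun i => ∑ k : Fin 11, bitv ((row rows x i).testBit k) * w k

theorem par_sel (n : ℕ) (β : ℕ → W) (K : List ℕ) (j m : ℕ) : ∀ l,
    par n β (sel K j m l) = ∑ k ∈ Finset.range l, bitv (m.testBit k) * par n β (K.getD (11 * j + k) 0)
  | 0 => by rw [sel, Finset.sum_range_zero, par_zero]
  | l + 1 => by
    rw [sel, Finset.sum_range_succ, ← par_sel n β K j m l]
    cases h : m.testBit l
    · simp [bitv]
    · simp [bitv, par_xor, add_comm]

/-! ### Permutations -/

theorem gen_lists : ∀ j : Fin 11, ∀ p : GolayPt,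
    pt ((gI.getD j []).getD (idx (pt ((gL.getD j []).getD (idx p) 0))) 0) = p ∧
      pt ((gL.getD j []).getD (idx (pt ((gI.getD j []).getD (idx p) 0))) 0) = p := by decide +kernel

theorem lst_lmul' (σ τ : Equiv.Perm GolayPt) : lst (σ * τ) = lmul (lst σ) (lst τ) := by
  rw [lst_lmul, WordChain.lmul, lmul]
  simp only [lst, List.map_map]
  refine List.map_congr_left fun i hi => ?_
  simp [List.getD_eq_getElem?_getD, List.mem_range.1 hi]

/-- a generator as a permutation -/
def gperm (j : Fin 11) : Equiv.Perm GolayPt :=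
  mkPerm (gL.getD j []) (gI.getD j []) (fun p => (gen_lists j p).1) (fun p => (gen_lists j p).2)

theorem gperm_lst : ∀ j : Fin 11, lst (gperm j) = gl j ∧
    (Local.FS.Mathieu.inCode (lst (gperm j)) && ((lst (gperm j)).getD 23 0 == 23)) = true := by decide +kernel

/-- a generator -/
def gen (j : ℕ) : M := if h : j < 11 then ⟨gperm ⟨j, h⟩, m23_mem_of_lst (gperm_lst ⟨j, h⟩).2⟩ else 1

theorem lst_gen {j : ℕ} (hj : j < 11) : lst (gen j).1 = gl j := by
  rw [gen, dif_pos hj]
  exact (gperm_lst ⟨j, hj⟩).1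

/-- the value of a word -/
def gval (w : List ℕ) : M := (w.map gen).prod

theorem lst_mul_gval : ∀ (w : List ℕ) (a : M), (∀ j ∈ w, j < 11) →
    lst (a * gval w).1 = w.foldl (fun l j => lmul l (gl j)) (lst a.1)
  | [], a, _ => by simp [gval]
  | j :: w, a, h => by
    have h1 := lst_mul_gval w (a * gen j) fun k hk => h k (List.mem_cons_of_mem j hk)
    rw [List.foldl_cons, show lmul (lst a.1) (gl j) = lst (a * gen j).1 by
      rw [Subgroup.coe_mul, lst_lmul', lst_gen (h j List.mem_cons_self)], ← h1]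
    simp [gval, mul_assoc]

theorem lst_gval {w : List ℕ} (h : ∀ j ∈ w, j < 11) : lst (gval w).1 = wl w := by
  have h1 := lst_mul_gval w 1 h
  rw [one_mul, OneMemClass.coe_one, lst_one] at h1
  exact h1

theorem eq_of_lst {a b : M} (h : lst a.1 = lst b.1) : a = b := Subtype.ext (WordChain.lst_injective h)

/-- the element of a vertex -/
def el (x : ℕ) : M := gval (vW.getD x [])

theorem vW_lt : ∀ x < 154, ∀ j ∈ vW.getD x [], j < 11 := by decide +kernel

theorem vW_zero : vW.getD 0 [] = [] := by decide +kernel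

theorem el_zero : el 0 = 1 := by rw [el, vW_zero]; rfl

theorem lst_el {x : ℕ} (hx : x < 154) : lst (el x).1 = vlst x := lst_gval (vW_lt x hx)

theorem rels_lt : ∀ r < 41, (∀ j ∈ (rels.getD r ([], [])).1, j < 11) ∧ ∀ j ∈ (rels.getD r ([], [])).2, j < 11 := by
  decide +kernel

end Cfsg.Agent.Spor.M23Coh
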