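import Cfsg.Agent.Lib.Spor.M23CohUnique

/-!
The code module and the cocode module of M23: extensions by the first split, non-split extensions by the second
are isomorphic.
-/

set_option autoImplicit false
set_option maxRecDepth 100000

noncomputable section

namespace Cfsg.Agent.Spor.M23Coh

open Cfsg Cfsg.Agent.Spor Cfsg.Agent.Spor.WordChain Cfsg.Agent.Local.FS.Mathieu
open scoped Pointwise

/-- the word of a coefficient vector -/
def emb (g : ℕ → ℕ) (w : W) : GolayPt → F2 := ∑ k : Fin 11, w k • ofMaskW (g k)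

/-- the vector of a mask -/
def vec (c : ℕ) : W := fun k => bitv (c.testBit k)

/-- the mask of a selection -/
def selMask (g : ℕ → ℕ) (c : ℕ → Bool) : ℕ :=
  (List.range 11).foldl (fun a i => if c i then a ^^^ g i else a) 0

theorem emb_add (g : ℕ → ℕ) (v w : W) : emb g (v + w) = emb g v + emb g w := by
  simp only [emb, Pi.add_apply, add_smul, Finset.sum_add_distrib]

theorem wmask_ofMaskW {m : ℕ} (h : m < 2 ^ 24) : wmask (ofMaskW m) = m := by
  rw [wmask, support₂_ofMaskW, mask_ofMask h]

theorem wmask_foldl (g : ℕ → ℕ) (c : ℕ → Bool) : ∀ (l : List ℕ) (u : GolayPt → F2), (∀ i ∈ l, g i < 2 ^ 24) →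
    wmask (u + (l.map fun i => bitv (c i) • ofMaskW (g i)).sum) =
      l.foldl (fun a i => if c i then a ^^^ g i else a) (wmask u)
  | [], u, _ => by simp
  | i :: l, u, h => by
    have e : wmask (u + bitv (c i) • ofMaskW (g i)) = if c i then wmask u ^^^ g i else wmask u := by
      cases c i
      · simp [bitv]
      · simp [bitv, wmask_add, wmask_ofMaskW (h i List.mem_cons_self)]
    rw [List.map_cons, List.sum_cons, List.foldl_cons, ← e,
      ← wmask_foldl g c l _ (fun k hk => h k (List.mem_cons_of_mem i hk)), add_assoc]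

theorem wmask_emb {g : ℕ → ℕ} (hg : ∀ i < 11, g i < 2 ^ 24) (c : ℕ → Bool) :
    wmask (emb g fun k => bitv (c k)) = selMask g c := by
  have h := wmask_foldl g c (List.range 11) 0 fun i hi => hg i (List.mem_range.1 hi)
  rw [wmask_zero, zero_add] at h
  rw [selMask, ← h]
  congr 1

theorem support₂_comp (σ : Equiv.Perm GolayPt) (u : GolayPt → F2) : support₂ (u ∘ ⇑σ⁻¹) = σ • support₂ u := by
  ext p
  rw [mem_support₂, ← Finset.inv_smul_mem_iff, mem_support₂]
  rfl

theorem wmask_comp (σ : Equiv.Perm GolayPt) (u : GolayPt → F2) :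
    wmask (u ∘ ⇑σ⁻¹) = pmask (lst σ) (wmask u) := by
  rw [wmask, support₂_comp, (rep_lst σ).mask_smul]; rfl

theorem exists_vec (w : W) : ∃ c < 2 ^ 11, w = vec c := by
  have hinj : Function.Injective (fun c : Fin (2 ^ 11) => vec c) := by
    intro a b h
    refine Fin.ext (Nat.eq_of_testBit_eq fun i => ?_)
    by_cases hi : i < 11
    · have := congrFun h ⟨i, hi⟩
      simp only [vec] at this
      revert this
      cases Nat.testBit (a : ℕ) i <;> cases Nat.testBit (b : ℕ) i <;> simp [bitv]
    · rw [Nat.testBit_lt_two_pow (lt_of_lt_of_le a.2 (Nat.pow_le_pow_right (by norm_num) (by omega))),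
        Nat.testBit_lt_two_pow (lt_of_lt_of_le b.2 (Nat.pow_le_pow_right (by norm_num) (by omega)))]
  have hbij := hinj.bijective_of_nat_card_le (by rw [Nat.card_fun]; simp)
  obtain ⟨c, hc⟩ := hbij.2 w
  exact ⟨c, c.2, hc.symm⟩

/-- the action of M23 on coefficient vectors read modulo a kernel -/
def actOf (g : ℕ → ℕ) (Kr : AddSubgroup (GolayPt → F2)) (σ : M) (w : W) : W := by
  classical
  exact if h : ∃ u, emb g u + emb g w ∘ ⇑(σ.1)⁻¹ ∈ Kr then h.choose else 0

theorem add_self_word (u : GolayPt → F2) : u + u = 0 := funext fun p => CharTwo.add_self_eq_zero (u p)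

theorem actOf_eq {g : ℕ → ℕ} {Kr : AddSubgroup (GolayPt → F2)} (hinj : ∀ u, emb g u ∈ Kr → u = 0) {σ : M}
    {w u : W} (h : emb g u + emb g w ∘ ⇑(σ.1)⁻¹ ∈ Kr) : actOf g Kr σ w = u := by
  classical
  have he : ∃ u, emb g u + emb g w ∘ ⇑(σ.1)⁻¹ ∈ Kr := ⟨u, h⟩
  have h' := he.choose_spec
  rw [actOf, dif_pos he]
  have h2 := Kr.add_mem h' h
  rw [add_add_add_comm, add_self_word, add_zero, ← emb_add] at h2
  have h3 := hinj _ h2
  rw [← sub_eq_zero]
  funext i
  have := congrFun h3 i
  simpa [CharTwo.sub_eq_add] using this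

theorem mat_spec {g : ℕ → ℕ} {Kr : AddSubgroup (GolayPt → F2)} {rows : List (List ℕ)} {x : ℕ}
    (hcol : ∀ k : Fin 11, emb g (fun i => bitv ((row rows x i).testBit k)) + ofMaskW (g k) ∘ ⇑((el x).1)⁻¹ ∈ Kr)
    (w : W) : emb g (mat rows x w) + emb g w ∘ ⇑((el x).1)⁻¹ ∈ Kr := by
  have e1 : emb g (mat rows x w) = ∑ k : Fin 11, w k • emb g (fun i => bitv ((row rows x i).testBit k)) := by
    simp only [emb, mat, Finset.sum_smul, Finset.smul_sum, smul_smul]
    rw [Finset.sum_comm]
    exact Finset.sum_congr rfl fun k _ => Finset.sum_congr rfl fun i _ => by rw [mul_comm]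
  have e2 : emb g w ∘ ⇑((el x).1)⁻¹ = ∑ k : Fin 11, w k • (ofMaskW (g k) ∘ ⇑((el x).1)⁻¹) := by
    funext p
    simp [emb, Finset.sum_apply]
  rw [e1, e2, ← Finset.sum_add_distrib]
  refine Kr.sum_mem fun k _ => ?_
  rw [← smul_add]
  generalize w k = a
  rcases (show a = 0 ∨ a = 1 by revert a; decide) with rfl | rfl
  · rw [zero_smul]; exact Kr.zero_mem
  · rw [one_smul]; exact hcol k

/-! ### The code module -/

/-- a basis word of the code -/
def cg (k : ℕ) : ℕ := codeB.getD k 0

theorem cg_facts : ∀ k < 11, cg k < 2 ^ 24 ∧ Nat.testBit (cg k) 23 = false ∧ cg k ∈ codeMasks := by decide +kernel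

/-- the coefficients of a code word -/
def red : ℕ → ℕ → ℕ
  | 0, _ => 0
  | k + 1, m => if Nat.testBit m (12 + k) then (1 <<< k) ||| red k (m ^^^ cg k) else red k m

theorem code_span : codeMasks.all (fun m => Nat.testBit m 23 || Nat.beq (selMask cg (red 11 m).testBit) m) = true := by
  decide +kernel

theorem code_indep : (List.range (2 ^ 11)).all (fun c => Nat.beq c 0 || !(Nat.beq (selMask cg c.testBit) 0)) = true := by
  decide +kernel

theorem codeRows_lt : ∀ x < 154, ∀ i < 11, row rowsC x i < 2 ^ 11 := by decide +kernel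

theorem embC_inj (u : W) (h : emb cg u ∈ (⊥ : AddSubgroup (GolayPt → F2))) : u = 0 := by
  obtain ⟨c, hc, rfl⟩ := exists_vec u
  rw [AddSubgroup.mem_bot] at h
  have h1 := wmask_emb (g := cg) (fun i hi => (cg_facts i hi).1) c.testBit
  rw [show (fun k : Fin 11 => bitv (c.testBit k)) = vec c from rfl, h, wmask_zero] at h1
  have h2 := List.all_eq_true.1 code_indep c (List.mem_range.2 hc)
  rw [← h1] at h2
  simp at h2
  funext k
  simp [vec, h2, bitv]

theorem tabC : Tab (actOf cg ⊥) rowsC eqRC := by
  refine ⟨fun x hx w => actOf_eq embC_inj (mat_spec (fun k => ?_) w), codeRows_lt, eqRowsC_ok⟩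
  have h := actC_ok
  unfold actCOK at h
  have h1 := List.all_eq_true.1 (List.all_eq_true.1 h x (List.mem_range.2 hx)) k (List.mem_range.2 k.2)
  rw [Nat.beq_eq] at h1
  rw [AddSubgroup.mem_bot]
  apply wmask_injective
  rw [wmask_add, wmask_emb (fun i hi => (cg_facts i hi).1) (fun i => (row rowsC x i).testBit k), wmask_comp,
    wmask_ofMaskW (cg_facts k k.2).1, lst_el hx, wmask_zero, show pmask (vlst x) (cg k) = _ from h1]
  exact Nat.xor_self _

theorem mem_embC {u : GolayPt → F2} (hu : u ∈ golayCode) (h0 : u none = 0) : ∃ w, emb cg w = u := by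
  have hm := mem_code.1 hu
  have h := List.all_eq_true.1 code_span _ hm
  rw [Bool.or_eq_true] at h
  have hb : Nat.testBit (wmask u) 23 = false := by
    rw [Bool.eq_false_iff]
    intro hb
    exact mem_support₂.1 (testBit_mask_idx.1 (show Nat.testBit (mask (support₂ u)) (idx none) = true from hb)) h0
  rw [hb] at h
  rcases h with h | h
  · exact absurd h Bool.false_ne_true
  · exact ⟨_, wmask_injective ((wmask_emb (fun i hi => (cg_facts i hi).1) _).trans (Nat.beq_eq ▸ h))⟩

theorem embC_range (w : W) : emb cg w ∈ golayCode ∧ emb cg w none = 0 := by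
  refine ⟨Submodule.sum_mem _ fun k _ => Submodule.smul_mem _ _ (mem_code.2 ?_), ?_⟩
  · rw [wmask_ofMaskW (cg_facts k k.2).1]; exact (cg_facts k k.2).2.2
  · rw [emb, Finset.sum_apply]
    refine Finset.sum_eq_zero fun k _ => ?_
    rw [Pi.smul_apply, ofMaskW, if_neg, smul_zero]
    rw [show idx none = 23 from rfl, (cg_facts k k.2).2.1]
    exact Bool.false_ne_true

theorem code_split {E : Type*} [Group E] [Finite E] (N : Subgroup E) [hN : N.Normal]
    (φ : E ⧸ N ≃* ↥Cfsg.Spor.M23)
    (ψ : Additive ↥N →+ (GolayPt → F2)) (hinj : Function.Injective ψ)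
    (hrange : ∀ w : GolayPt → F2, w ∈ Set.range ψ ↔ (w ∈ golayCode ∧ w none = 0))
    (hψ : ∀ (g : E) (n : ↥N), ψ (Additive.ofMul ⟨g * n * g⁻¹, hN.conj_mem n n.2 g⟩)
        = ψ (Additive.ofMul n) ∘ ⇑(((φ (QuotientGroup.mk g) : ↥Cfsg.Spor.M23) : Equiv.Perm GolayPt)⁻¹)) :
    ∃ H : Subgroup E, H ⊓ N = ⊥ ∧ H ⊔ N = ⊤ := by
  choose n hn using fun w => (hrange (emb cg w)).2 (embC_range w)
  let p : E →* M := φ.toMonoidHom.comp (QuotientGroup.mk' N)
  have hker : p.ker = N := by
    ext e
    rw [MonoidHom.mem_ker]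
    show φ (QuotientGroup.mk e) = 1 ↔ _
    rw [EmbeddingLike.map_eq_one_iff, QuotientGroup.eq_one_iff]
  let X : Ext E (actOf cg ⊥) :=
    { proj := p
      surj := φ.surjective.comp (QuotientGroup.mk'_surjective N)
      ι := fun w => ((n w).toMul : E)
      ι_add := fun v w => by
        have : n (v + w) = n v + n w := hinj (by rw [map_add, hn, hn, hn, emb_add])
        rw [this]; rfl
      ι_inj := fun v w h => by
        have h1 : emb cg v = emb cg w := by
          rw [← hn, ← hn, Additive.toMul.injective (Subtype.ext h)]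
        have := embC_inj (v + w) (by rw [AddSubgroup.mem_bot, emb_add, h1, add_self_word])
        funext i
        have h2 := congrFun this i
        rw [Pi.add_apply, Pi.zero_apply, ← CharTwo.sub_eq_add, sub_eq_zero] at h2
        exact h2
      ι_ker := fun e => by
        rw [← MonoidHom.mem_ker, hker]
        refine ⟨fun he => ?_, fun ⟨w, hw⟩ => hw ▸ (n w).toMul.2⟩
        obtain ⟨h1, h2⟩ := (hrange _).1 ⟨Additive.ofMul ⟨e, he⟩, rfl⟩
        obtain ⟨w, hw⟩ := mem_embC h1 h2
        exact ⟨w, congrArg (fun z : Additive N => ((z.toMul : N) : E)) (hinj ((hn w).trans hw))⟩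
      conj := fun g w => by
        obtain ⟨h1, h2⟩ := (hrange _).1 ⟨Additive.ofMul ⟨g * (n w).toMul * g⁻¹, hN.conj_mem _ (n w).toMul.2 g⟩, rfl⟩
        obtain ⟨u, hu⟩ := mem_embC h1 h2
        have hc := hψ g (n w).toMul
        rw [show Additive.ofMul (n w).toMul = n w from rfl, hn, ← hu] at hc
        have ha : actOf cg ⊥ (p g) w = u := actOf_eq embC_inj (by
          rw [AddSubgroup.mem_bot, hc]; exact add_self_word _)
        have he : ((n u).toMul : E) = g * (n w).toMul * g⁻¹ :=
          congrArg (fun z : Additive N => ((z.toMul : N) : E)) (hinj ((hn u).trans hu))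
        rw [ha, he, inv_mul_cancel_right] }
  choose L hL using fun j => X.surj (gen j)
  obtain ⟨v, hv⟩ := exists_values X hL
  obtain ⟨H, h1, h2⟩ := splits_of_comb X tabC hL hv gaugeC combC restC tmaskC combC_ok (Or.inl restC_nil)
  rw [show X.proj.ker = N from hker] at h1 h2
  exact ⟨H, h1, h2⟩

/-! ### The cocode module -/

/-- a unit word -/
def dg (k : ℕ) : ℕ := 1 <<< freeP.getD k 0

theorem dg_lt : ∀ k < 11, dg k < 2 ^ 24 := by decide +kernel

/-- the kernel of the cocode map -/
def cokr : AddSubgroup (GolayPt → F2) where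
  carrier := {u | u ∈ golayCode ∨ u + Pi.single none 1 ∈ golayCode}
  zero_mem' := Or.inl (zero_mem _)
  add_mem' := fun {a b} ha hb => by
    rcases ha with ha | ha <;> rcases hb with hb | hb
    · exact Or.inl (add_mem ha hb)
    · exact Or.inr (by rw [add_assoc]; exact add_mem ha hb)
    · exact Or.inr (by rw [add_right_comm]; exact add_mem ha hb)
    · refine Or.inl ?_
      have := add_mem ha hb
      rwa [add_add_add_comm, add_self_word, add_zero] at this
  neg_mem' := fun {a} ha => by
    rw [show -a = a from funext fun p => ZModModule.neg_eq_self (a p)]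
    exact ha

theorem wmask_single_none : wmask (Pi.single none 1) = 8388608 := by decide +kernel

theorem mem_cokr {u : GolayPt → F2} (h : inKer (wmask u) = true) : u ∈ cokr := by
  rw [inKer, Bool.or_eq_true] at h
  rcases h with h | h
  · exact Or.inl (mem_code.2 (mem_of_reduceB codeEchelon_mem h))
  · refine Or.inr (mem_code.2 ?_)
    rw [wmask_add, wmask_single_none]
    exact mem_of_reduceB codeEchelon_mem h

theorem code_reduce : codeMasks.all (fun m => reduceB codeEchelon m) = true := by decide +kernel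

theorem cocode_indep : (List.range (2 ^ 11)).all (fun c => Nat.beq c 0 || !(inKer (selMask dg c.testBit))) = true := by
  decide +kernel

theorem embD_inj (u : W) (h : emb dg u ∈ cokr) : u = 0 := by
  obtain ⟨c, hc, rfl⟩ := exists_vec u
  have h1 : wmask (emb dg (vec c)) = selMask dg c.testBit := wmask_emb dg_lt c.testBit
  have h2 : inKer (selMask dg c.testBit) = true := by
    rw [inKer, Bool.or_eq_true]
    rcases h with h | h
    · exact Or.inl (h1 ▸ List.all_eq_true.1 code_reduce _ (mem_code.1 h))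
    · have := List.all_eq_true.1 code_reduce _ (mem_code.1 h)
      rw [wmask_add, wmask_single_none, h1] at this
      exact Or.inr this
  have h3 := List.all_eq_true.1 cocode_indep c (List.mem_range.2 hc)
  rw [h2] at h3
  simp at h3
  funext k
  simp [vec, h3, bitv]

/-- the coefficients of the points -/
def ptCo : List ℕ :=
  [1, 2, 4, 8, 16, 32, 64, 128, 256, 512, 1024, 1141, 1183, 1355, 1763, 435, 870, 1740, 493, 986, 1972, 797, 1594, 0]

theorem ptCo_ok : (List.range 24).all (fun p => inKer (selMask dg (ptCo.getD p 0).testBit ^^^ (1 <<< p))) = true := by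
  decide +kernel

theorem cocodeRows_lt : ∀ x < 154, ∀ i < 11, row rowsD x i < 2 ^ 11 := by decide +kernel

theorem wmask_single : ∀ p : GolayPt, wmask (Pi.single p 1) = 1 <<< idx p := by decide +kernel

theorem exists_embD (u : GolayPt → F2) : ∃ w, emb dg w + u ∈ cokr := by
  classical
  refine ⟨∑ p, u p • vec (ptCo.getD (idx p) 0), ?_⟩
  have e1 : emb dg (∑ p, u p • vec (ptCo.getD (idx p) 0)) = ∑ p, u p • emb dg (vec (ptCo.getD (idx p) 0)) := by
    simp only [emb, Finset.sum_apply, Pi.smul_apply, Finset.sum_smul, Finset.smul_sum, smul_assoc]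
    exact Finset.sum_comm
  have e2 : u = ∑ p, u p • (Pi.single p 1 : GolayPt → F2) := by
    funext q
    simp [Finset.sum_apply, Pi.single_apply]
  rw [e1]
  nth_rewrite 2 [e2]
  rw [← Finset.sum_add_distrib]
  refine cokr.sum_mem fun p _ => ?_
  rw [← smul_add]
  generalize u p = a
  rcases (show a = 0 ∨ a = 1 by revert a; decide) with rfl | rfl
  · rw [zero_smul]; exact cokr.zero_mem
  · rw [one_smul]
    refine mem_cokr ?_
    rw [wmask_add, wmask_single, show wmask (emb dg (vec (ptCo.getD (idx p) 0))) = _ from wmask_emb dg_lt _]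
    exact List.all_eq_true.1 ptCo_ok (idx p) (List.mem_range.2 (idx_lt p))

theorem pmask_unit : ∀ x < 154, ∀ k < 11, pmask (vlst x) (dg k) = 1 <<< (vlst x).getD (freeP.getD k 0) 0 := by
  decide +kernel

theorem tabD : Tab (actOf dg cokr) rowsD eqRD := by
  refine ⟨fun x hx w => actOf_eq embD_inj (mat_spec (fun k => ?_) w), cocodeRows_lt, eqRowsD_ok⟩
  have h := actD_ok
  unfold actDOK at h
  have h1 := List.all_eq_true.1 (List.all_eq_true.1 h x (List.mem_range.2 hx)) k (List.mem_range.2 k.2)
  refine mem_cokr ?_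
  rw [wmask_add, wmask_emb dg_lt (fun i => (row rowsD x i).testBit k), wmask_comp,
    wmask_ofMaskW (dg_lt k k.2), lst_el hx, pmask_unit x hx k k.2, Nat.xor_comm]
  exact h1

/-- a non-split extension by the cocode module as an extension in coefficients -/
theorem cocode_ext {E : Type*} [Group E] (N : Subgroup E) [hN : N.Normal]
    (φ : E ⧸ N ≃* ↥Cfsg.Spor.M23) (θ : (GolayPt → F2) →+ Additive ↥N)
    (hsurj : Function.Surjective θ)
    (hker : ∀ w : GolayPt → F2, θ w = 0 ↔ (w ∈ golayCode ∨ w + Pi.single none 1 ∈ golayCode))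
    (hθ : ∀ (g : E) (w : GolayPt → F2),
      ((θ (w ∘ ⇑(((φ (QuotientGroup.mk g) : ↥Cfsg.Spor.M23) : Equiv.Perm GolayPt)⁻¹))).toMul : E)
        = g * ((θ w).toMul : E) * g⁻¹) :
    ∃ X : Ext E (actOf dg cokr), X.proj.ker = N := by
  let p : E →* M := φ.toMonoidHom.comp (QuotientGroup.mk' N)
  have hkerp : p.ker = N := by
    ext e
    rw [MonoidHom.mem_ker]
    show φ (QuotientGroup.mk e) = 1 ↔ _
    rw [EmbeddingLike.map_eq_one_iff, QuotientGroup.eq_one_iff]
  have heq : ∀ a b, a + b ∈ cokr → θ a = θ b := fun a b h => by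
    have := (hker (a + b)).2 h
    rw [map_add, add_eq_zero_iff_eq_neg, ← map_neg] at this
    rw [this, show -b = b from funext fun q => ZModModule.neg_eq_self (b q)]
  refine ⟨{
      proj := p
      surj := φ.surjective.comp (QuotientGroup.mk'_surjective N)
      ι := fun w => ((θ (emb dg w)).toMul : E)
      ι_add := fun v w => by rw [emb_add, map_add]; rfl
      ι_inj := fun v w h => by
        have h1 : θ (emb dg v) = θ (emb dg w) := Additive.toMul.injective (Subtype.ext h)
        have h2 : θ (emb dg (v + w)) = 0 := by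
          rw [emb_add, map_add, h1, ← map_add, add_self_word, map_zero]
        have := embD_inj (v + w) ((hker _).1 h2)
        funext i
        have h3 := congrFun this i
        rw [Pi.add_apply, Pi.zero_apply, ← CharTwo.sub_eq_add, sub_eq_zero] at h3
        exact h3
      ι_ker := fun e => by
        rw [← MonoidHom.mem_ker, hkerp]
        refine ⟨fun he => ?_, fun ⟨w, hw⟩ => hw ▸ (θ (emb dg w)).toMul.2⟩
        obtain ⟨u, hu⟩ := hsurj (Additive.ofMul ⟨e, he⟩)
        obtain ⟨w, hw⟩ := exists_embD u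
        exact ⟨w, congrArg (fun z : Additive N => ((z.toMul : N) : E)) ((heq _ _ hw).trans hu)⟩
      conj := fun g w => by
        obtain ⟨u, hu⟩ := exists_embD (emb dg w ∘ ⇑((p g).1)⁻¹)
        have ha : actOf dg cokr (p g) w = u := actOf_eq embD_inj hu
        have he : ((θ (emb dg u)).toMul : E) = g * (θ (emb dg w)).toMul * g⁻¹ := by
          rw [heq _ _ hu]; exact hθ g _
        rw [ha, he, inv_mul_cancel_right] }, hkerp⟩

end Cfsg.Agent.Spor.M23Coh
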