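import Cfsg.Agent.Lib.Spor.M23CohLift

/-!
An extension whose Sylow relations hold for suitable lifts splits, and two non-split extensions with the same
invariant are isomorphic.
-/

set_option autoImplicit false
set_option maxRecDepth 100000

noncomputable section

namespace Cfsg.Agent.Spor.M23Coh

open Cfsg Cfsg.Agent.Spor Cfsg.Agent.Spor.WordChain Cfsg.Agent.Local.FS.Mathieu

variable {E : Type*} [Group E] [Finite E]

/-- the group generated by the last lifts -/
def tail (L : ℕ → E) (k : ℕ) : Subgroup E := Subgroup.closure (L '' Set.Ico k 7)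

theorem mem_tail_word {L : ℕ → E} {k : ℕ} {w : List ℕ} (h : ∀ i ∈ w, k ≤ i ∧ i < 7) : lval L w ∈ tail L k := by
  refine Subgroup.list_prod_mem _ fun x hx => ?_
  obtain ⟨i, hi, rfl⟩ := List.mem_map.1 hx
  exact Subgroup.subset_closure ⟨i, h i hi, rfl⟩

theorem card_tail {L : ℕ → E}
    (hrel : ∀ r < 28, lval L (rels.getD r ([], [])).1 = lval L (rels.getD r ([], [])).2) :
    ∀ d k, k + d = 7 → Nat.card (tail L k) ≤ 2 ^ d
  | 0, k, hk => by
    obtain rfl : k = 7 := hk
    simp [tail]
  | d + 1, k, hk => by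
    have ih := card_tail hrel d (k + 1) (by omega)
    have hk7 : k < 7 := by omega
    have h0 := prel_ok
    unfold pRelOK at h0
    rw [Bool.and_eq_true] at h0
    have hP := h0.2
    simp only [List.all_eq_true, List.any_eq_true, List.mem_range, Bool.and_eq_true, beq_iff_eq] at hP
    have hsq : L k * L k ∈ tail L (k + 1) := by
      obtain ⟨r, hr, hu, hw⟩ := hP k hk7 k (by omega)
      have h := hrel r hr
      rw [hu] at h
      rw [if_pos (by simp)] at hw
      simp only [List.all_eq_true, Bool.and_eq_true, Nat.blt_eq] at hw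
      rw [show L k * L k = lval L [k, k] by simp [lval], h]
      exact mem_tail_word fun i hi => ⟨(hw i hi).1, (hw i hi).2⟩
    have hcj : ∀ l, k < l → l < 7 → (L k)⁻¹ * L l * L k ∈ tail L (k + 1) := by
      intro l hkl hl
      obtain ⟨r, hr, hu, hw⟩ := hP l hl k (by omega)
      have h := hrel r hr
      rw [hu] at h
      rw [if_neg (by rw [Nat.beq_eq]; omega)] at hw
      revert hw h
      generalize (rels.getD r ([], [])).2 = ww
      intro hw h
      cases ww with
      | nil => simp at hw
      | cons h0 w =>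
        simp only [Bool.and_eq_true, Nat.beq_eq, List.all_eq_true, Nat.blt_eq] at hw
        rw [mul_assoc, show L l * L k = lval L [l, k] by simp [lval], h,
          show lval L (h0 :: w) = L h0 * lval L w by simp [lval], hw.1, inv_mul_cancel_left]
        exact mem_tail_word fun i hi => ⟨(hw.2 i hi).1, (hw.2 i hi).2⟩
    set T := tail L (k + 1) with hT
    have hc : ∀ t ∈ T, (L k)⁻¹ * t * L k ∈ T := by
      intro t ht
      induction ht using Subgroup.closure_induction with
      | mem x hx => obtain ⟨l, ⟨h1, h2⟩, rfl⟩ := hx; exact hcj l h1 h2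
      | one => simp
      | mul x y _ _ hx hy =>
        rw [show (L k)⁻¹ * (x * y) * L k = ((L k)⁻¹ * x * L k) * ((L k)⁻¹ * y * L k) by group]
        exact T.mul_mem hx hy
      | inv x _ hx =>
        rw [show (L k)⁻¹ * x⁻¹ * L k = ((L k)⁻¹ * x * L k)⁻¹ by group]
        exact T.inv_mem hx
    have hc' : ∀ t ∈ T, L k * t * (L k)⁻¹ ∈ T := by
      intro t ht
      have h := hc _ (hc _ (T.mul_mem (T.mul_mem hsq ht) (T.inv_mem hsq)))
      rw [show (L k)⁻¹ * ((L k)⁻¹ * (L k * L k * t * (L k * L k)⁻¹) * L k) * L k = t by group] at h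
      rw [show L k * t * (L k)⁻¹ = (L k * L k) * ((L k)⁻¹ * t * L k) * (L k * L k)⁻¹ by group]
      exact T.mul_mem (T.mul_mem hsq (hc t ht)) (T.inv_mem hsq)
    have hmem : ∀ x ∈ tail L k, x ∈ T ∨ x * L k ∈ T := by
      intro x hx
      induction hx using Subgroup.closure_induction with
      | mem x hx =>
        obtain ⟨l, ⟨h1, h2⟩, rfl⟩ := hx
        rcases eq_or_lt_of_le h1 with rfl | h1
        · exact Or.inr hsq
        · exact Or.inl (Subgroup.subset_closure ⟨l, ⟨h1, h2⟩, rfl⟩)
      | one => exact Or.inl T.one_mem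
      | mul x y _ _ hx hy =>
        rcases hx with hx | hx <;> rcases hy with hy | hy
        · exact Or.inl (T.mul_mem hx hy)
        · exact Or.inr (by rw [mul_assoc]; exact T.mul_mem hx hy)
        · refine Or.inr ?_
          rw [show x * y * L k = (x * L k) * ((L k)⁻¹ * y * L k) by group]
          exact T.mul_mem hx (hc y hy)
        · refine Or.inl ?_
          rw [show x * y = (x * L k) * ((L k)⁻¹ * (y * L k) * L k) * (L k * L k)⁻¹ by group]
          exact T.mul_mem (T.mul_mem hx (hc _ hy)) (T.inv_mem hsq)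
      | inv x _ hx =>
        rcases hx with hx | hx
        · exact Or.inl (T.inv_mem hx)
        · refine Or.inr ?_
          rw [show x⁻¹ * L k = (L k * (x * L k)⁻¹ * (L k)⁻¹) * (L k * L k) by group]
          exact T.mul_mem (hc' _ (T.inv_mem hx)) hsq
    classical
    let f : Bool × T → E := fun p => if p.1 then (p.2 : E) * (L k)⁻¹ else p.2
    have hsub : (tail L k : Set E) ⊆ Set.range f := by
      intro x hx
      rcases hmem x hx with h | h
      · exact ⟨(false, ⟨x, h⟩), by simp [f]⟩
      · exact ⟨(true, ⟨x * L k, h⟩), by simp [f]⟩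
    have h1 : Nat.card (tail L k) ≤ Nat.card (Set.range f) :=
      Nat.card_mono (Set.toFinite _) hsub
    have h2 := Finite.card_range_le f
    rw [Nat.card_prod, show Nat.card Bool = 2 by simp] at h2
    rw [pow_succ]
    omega

theorem setWord_spec : ∀ m < 128, ∀ i ∈ setWord m, i < 7 := by decide +kernel

theorem splits {act : M → W → W} (X : Ext E act) {L : ℕ → E} (hL : ∀ j, X.proj (L j) = gen j)
    (hrel : ∀ r < 28, lval L (rels.getD r ([], [])).1 = lval L (rels.getD r ([], [])).2) :
    ∃ K : Subgroup E, K ⊓ X.proj.ker = ⊥ ∧ K ⊔ X.proj.ker = ⊤ := by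
  have hle := card_tail hrel 7 0 rfl
  set T := tail L 0
  have hmemT : ∀ m : Fin 128, gval (setWord m) ∈ T.map X.proj := fun m => by
    rw [← proj_lval X hL]
    exact Subgroup.mem_map_of_mem _ (mem_tail_word fun i hi => ⟨Nat.zero_le _, setWord_spec m m.2 i hi⟩)
  have hinj : Function.Injective (fun m : Fin 128 => (⟨gval (setWord m), hmemT m⟩ : T.map X.proj)) := by
    intro a b h
    have h1 : wl (setWord a) = wl (setWord b) := by
      rw [← lst_gval (fun i hi => lt_trans (setWord_spec a a.2 i hi) (by norm_num)),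
        ← lst_gval (fun i hi => lt_trans (setWord_spec b b.2 i hi) (by norm_num))]
      exact congrArg (fun g : M => lst g.1) (Subtype.mk.inj h)
    have hd := distinct_ok
    unfold distinctOK at hd
    simp only [decide_eq_true_eq] at hd
    exact Fin.ext (List.inj_on_of_nodup_map hd (List.mem_range.2 a.2) (List.mem_range.2 b.2)
      (congrArg packN h1))
  have hge := Nat.card_le_card_of_injective _ hinj
  rw [Nat.card_fin] at hge
  have hsurj : Function.Surjective (fun t : T => (⟨X.proj t, Subgroup.mem_map_of_mem _ t.2⟩ : T.map X.proj)) := by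
    rintro ⟨_, t, ht, rfl⟩
    exact ⟨⟨t, ht⟩, rfl⟩
  have hle2 := Nat.card_le_card_of_surjective _ hsurj
  have hcard : Nat.card (T.map X.proj) = 128 := by norm_num at hle; omega
  have hbij := hsurj.bijective_of_nat_card_le (by norm_num at hle; omega)
  have hfree : X.proj.ker ⊓ T = ⊥ := by
    rw [eq_bot_iff]
    intro x ⟨hx, hxT⟩
    have := hbij.1 (a₁ := ⟨x, hxT⟩) (a₂ := 1) (Subtype.ext (by
      show X.proj x = X.proj 1
      rw [map_one]; exact hx))
    exact Subgroup.mem_bot.2 (congrArg Subtype.val this)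
  have hN : Nat.card X.proj.ker = 2 ^ 11 := by
    have : Function.Bijective (fun w => (⟨X.ι w, X.proj_ι w⟩ : X.proj.ker)) :=
      ⟨fun a b h => X.ι_inj (Subtype.mk.inj h), fun ⟨e, he⟩ => by
        obtain ⟨w, hw⟩ := (X.ι_ker e).1 he
        exact ⟨w, Subtype.ext hw⟩⟩
    rw [← Nat.card_eq_of_bijective _ this, Nat.card_fun, Nat.card_fin]
    simp
  have hidx : (X.proj.ker ⊔ T).index = 79695 := by
    rw [sup_comm, ← Subgroup.comap_map_eq, Subgroup.index_comap_of_surjective _ X.surj]
    have h := (T.map X.proj).card_mul_index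
    rw [hcard, card_m23] at h
    omega
  refine gaschuetz X.proj.ker T (fun a ha b hb => ?_) hfree ?_
  · obtain ⟨v, rfl⟩ := (X.ι_ker a).1 ha
    obtain ⟨w, rfl⟩ := (X.ι_ker b).1 hb
    rw [← X.ι_add, ← X.ι_add, add_comm]
  · rw [hN, hidx]
    exact Nat.Coprime.pow_left 11 (by decide)

end Cfsg.Agent.Spor.M23Coh
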