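import Cfsg.Agent.Lib.Spor.M23CohSplit

/-!
Two non-split extensions with the same module are isomorphic when the invariant takes two values only: the sum of
the two extensions splits.
-/

set_option autoImplicit false
set_option maxRecDepth 100000

noncomputable section

namespace Cfsg.Agent.Spor.M23Coh

open Cfsg Cfsg.Agent.Spor

variable {act : M → W → W} {rows eqR : List (List ℕ)}

/-- an extension with vanishing invariant splits -/
theorem splits_of_comb {E : Type*} [Group E] [Finite E] (X : Ext E act) (T : Tab act rows eqR) {L : ℕ → E}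
    (hL : ∀ j, X.proj (L j) = gen j) {v : ℕ → W}
    (hv : ∀ r < 41, lval L (rels.getD r ([], [])).1 = X.ι (v r) * lval L (rels.getD r ([], [])).2)
    (K : List ℕ) (comb : List (List ℕ)) (rest : List ℕ) (t : ℕ)
    (hcomb : combOK rows eqR K comb rest t 0 308 = true) (ht : rest = [] ∨ par 41 v t = 0) :
    ∃ H : Subgroup E, H ⊓ X.proj.ker = ⊥ ∧ H ⊔ X.proj.ker = ⊤ := by
  obtain ⟨L', hL', hrel⟩ := exists_good_lifts X T hL hv K comb rest t hcomb ht
  exact splits X hL' hrel

section Fibre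

variable {E E' : Type*} [Group E] [Group E'] [Finite E] [Finite E'] (X : Ext E act) (X' : Ext E' act)

/-- the fibre product -/
def fib : Subgroup (E × E') where
  carrier := {p | X.proj p.1 = X'.proj p.2}
  one_mem' := by simp
  mul_mem' := fun {a b} ha hb => by
    simp only [Set.mem_ofPred_eq, Prod.fst_mul, Prod.snd_mul, map_mul] at *
    rw [ha, hb]
  inv_mem' := fun {a} ha => by
    simp only [Set.mem_ofPred_eq, Prod.fst_inv, Prod.snd_inv, map_inv] at *
    rw [ha]

theorem diag_mem (w : W) : (X.ι w, X'.ι w) ∈ fib X X' := by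
  show X.proj (X.ι w) = X'.proj (X'.ι w)
  rw [X.proj_ι, X'.proj_ι]

/-- the diagonal of the kernels -/
def diag : Subgroup (fib X X') where
  carrier := Set.range fun w => (⟨_, diag_mem X X' w⟩ : fib X X')
  one_mem' := ⟨0, Subtype.ext (Prod.ext X.ι_zero X'.ι_zero)⟩
  mul_mem' := by
    rintro _ _ ⟨v, rfl⟩ ⟨w, rfl⟩
    exact ⟨v + w, Subtype.ext (Prod.ext (X.ι_add v w) (X'.ι_add v w))⟩
  inv_mem' := by
    rintro _ ⟨v, rfl⟩
    refine ⟨v, eq_inv_of_mul_eq_one_left (Subtype.ext (Prod.ext ?_ ?_))⟩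
    · show X.ι v * X.ι v = 1
      rw [← X.ι_add, add_self_W, X.ι_zero]
    · show X'.ι v * X'.ι v = 1
      rw [← X'.ι_add, add_self_W, X'.ι_zero]

instance diag_normal : (diag X X').Normal := by
  refine ⟨?_⟩
  rintro _ ⟨w, rfl⟩ g
  refine ⟨act (X.proj g.1.1) w, eq_mul_inv_of_mul_eq (Subtype.ext (Prod.ext (X.conj _ _).symm ?_))⟩
  show X'.ι (act (X.proj g.1.1) w) * g.1.2 = g.1.2 * X'.ι w
  rw [show X.proj g.1.1 = X'.proj g.1.2 from g.2, X'.conj]

/-- the sum of two extensions -/
abbrev Baer : Type _ := fib X X' ⧸ diag X X'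

/-- the projection of the sum -/
def baerProj : Baer X X' →* M :=
  QuotientGroup.lift (diag X X') ((X.proj.comp (MonoidHom.fst E E')).comp (fib X X').subtype) (by
    rintro _ ⟨w, rfl⟩
    exact X.proj_ι w)

theorem left_mem (w : W) : ((X.ι w, 1) : E × E') ∈ fib X X' := by
  show X.proj (X.ι w) = X'.proj 1
  rw [X.proj_ι, map_one]

/-- the kernel of the sum -/
def baerι (w : W) : Baer X X' := QuotientGroup.mk ⟨_, left_mem X X' w⟩

theorem right_eq (w : W) :
    (QuotientGroup.mk (⟨(1, X'.ι w), by show X.proj 1 = _; rw [map_one, X'.proj_ι]⟩ : fib X X') : Baer X X') =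
      baerι X X' w := by
  refine QuotientGroup.eq.2 ⟨w, Subtype.ext (Prod.ext ?_ ?_)⟩
  · show X.ι w = 1⁻¹ * X.ι w
    rw [inv_one, one_mul]
  · show X'.ι w = (X'.ι w)⁻¹ * 1
    rw [mul_one]
    exact eq_inv_of_mul_eq_one_left (by rw [← X'.ι_add, add_self_W, X'.ι_zero])

/-- the sum of two extensions as an extension -/
def baer : Ext (Baer X X') act where
  proj := baerProj X X'
  surj := fun g => by
    obtain ⟨e, he⟩ := X.surj g
    obtain ⟨e', he'⟩ := X'.surj g
    exact ⟨QuotientGroup.mk ⟨(e, e'), show X.proj e = X'.proj e' by rw [he, he']⟩, he⟩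
  ι := baerι X X'
  ι_add := fun v w => by
    refine congrArg (QuotientGroup.mk (s := diag X X')) (Subtype.ext (Prod.ext (X.ι_add v w) ?_))
    exact (one_mul _).symm
  ι_inj := fun v w h => by
    obtain ⟨u, hu⟩ := QuotientGroup.eq.1 h
    have h2 : X'.ι u = (1 : E')⁻¹ * 1 := congrArg (fun p : fib X X' => p.1.2) hu
    have h1 : X.ι u = (X.ι v)⁻¹ * X.ι w := congrArg (fun p : fib X X' => p.1.1) hu
    rw [inv_one, one_mul, ← X'.ι_zero] at h2
    rw [X'.ι_inj h2, X.ι_zero] at h1
    exact X.ι_inj (inv_mul_eq_one.1 h1.symm)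
  ι_ker := fun q => by
    constructor
    · induction q using QuotientGroup.induction_on with | H p => ?_
      intro hp
      have h1 : X.proj p.1.1 = 1 := hp
      have h2 : X'.proj p.1.2 = 1 := (show X.proj p.1.1 = X'.proj p.1.2 from p.2) ▸ h1
      obtain ⟨v, hv⟩ := (X.ι_ker _).1 h1
      obtain ⟨w, hw⟩ := (X'.ι_ker _).1 h2
      refine ⟨v + w, QuotientGroup.eq.2 ⟨w, Subtype.ext (Prod.ext ?_ ?_)⟩⟩
      · show X.ι w = (X.ι (v + w))⁻¹ * p.1.1
        rw [← hv, eq_inv_mul_iff_mul_eq, ← X.ι_add, add_assoc, add_self_W, add_zero]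
      · show X'.ι w = 1⁻¹ * p.1.2
        rw [inv_one, one_mul, hw]
    · rintro ⟨w, rfl⟩
      exact X.proj_ι w
  conj := fun q w => by
    induction q using QuotientGroup.induction_on with | H p => ?_
    refine congrArg (QuotientGroup.mk (s := diag X X')) (Subtype.ext (Prod.ext (X.conj _ _) ?_))
    show p.1.2 * 1 = 1 * p.1.2
    rw [mul_one, one_mul]

/-- the lifts to the sum -/
def baerLift {L : ℕ → E} {L' : ℕ → E'} (hL : ∀ j, X.proj (L j) = gen j) (hL' : ∀ j, X'.proj (L' j) = gen j)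
    (j : ℕ) : Baer X X' :=
  QuotientGroup.mk ⟨(L j, L' j), show X.proj (L j) = X'.proj (L' j) by rw [hL, hL']⟩

theorem exists_iso (T : Tab act rows eqR) (K : List ℕ) (comb : List (List ℕ)) (rest : List ℕ) (t : ℕ)
    (hcomb : combOK rows eqR K comb rest t 0 308 = true)
    (hns : ∀ H : Subgroup E, H ⊓ X.proj.ker = ⊥ → H ⊔ X.proj.ker ≠ ⊤)
    (hns' : ∀ H : Subgroup E', H ⊓ X'.proj.ker = ⊥ → H ⊔ X'.proj.ker ≠ ⊤) : Nonempty (E ≃* E') := by
  choose L hL using fun j => X.surj (gen j)
  choose L' hL' using fun j => X'.surj (gen j)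
  obtain ⟨v, hv⟩ := exists_values X hL
  obtain ⟨v', hv'⟩ := exists_values X' hL'
  have h1 : par 41 v t = 1 := by
    have : ¬ par 41 v t = 0 := fun h => by
      obtain ⟨H, h1, h2⟩ := splits_of_comb X T hL hv K comb rest t hcomb (Or.inr h)
      exact hns H h1 h2
    revert this; generalize par 41 v t = a; revert a; decide
  have h1' : par 41 v' t = 1 := by
    have : ¬ par 41 v' t = 0 := fun h => by
      obtain ⟨H, h1, h2⟩ := splits_of_comb X' T hL' hv' K comb rest t hcomb (Or.inr h)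
      exact hns' H h1 h2
    revert this; generalize par 41 v' t = a; revert a; decide
  have hLQ : ∀ j, (baer X X').proj (baerLift X X' hL hL' j) = gen j := fun j => hL j
  have hword : ∀ w : List ℕ, ∃ h : X.proj (lval L w) = X'.proj (lval L' w),
      lval (baerLift X X' hL hL') w = QuotientGroup.mk (⟨(lval L w, lval L' w), h⟩ : fib X X') := by
    intro w
    induction w with
    | nil => exact ⟨by simp [lval], rfl⟩
    | cons j w ih =>
      obtain ⟨h, ih⟩ := ih
      refine ⟨by rw [proj_lval X hL, proj_lval X' hL'], ?_⟩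
      rw [lval, List.map_cons, List.prod_cons]
      rw [show ((w.map (baerLift X X' hL hL')).prod) = lval (baerLift X X' hL hL') w from rfl, ih]
      exact congrArg (QuotientGroup.mk (s := diag X X')) (Subtype.ext (Prod.ext (by simp [lval]) (by simp [lval])))
  have hvQ : ∀ r < 41, lval (baerLift X X' hL hL') (rels.getD r ([], [])).1 =
      (baer X X').ι ((v + v') r) * lval (baerLift X X' hL hL') (rels.getD r ([], [])).2 := by
    intro r hr
    obtain ⟨hu, eu⟩ := hword (rels.getD r ([], [])).1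
    obtain ⟨hw, ew⟩ := hword (rels.getD r ([], [])).2
    rw [eu, ew, Pi.add_apply, (baer X X').ι_add, show (baer X X').ι (v' r) = _ from (right_eq X X' (v' r)).symm]
    refine congrArg (QuotientGroup.mk (s := diag X X')) (Subtype.ext (Prod.ext ?_ ?_))
    · show lval L _ = X.ι (v r) * 1 * lval L _
      rw [mul_one, hv r hr]
    · show lval L' _ = 1 * X'.ι (v' r) * lval L' _
      rw [one_mul, hv' r hr]
  obtain ⟨Q, hQ1, hQ2⟩ := splits_of_comb (baer X X') T hLQ hvQ K comb rest t hcomb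
    (Or.inr (by rw [par_add, h1, h1']; decide))
  set G := Q.comap (QuotientGroup.mk' (diag X X')) with hG
  have hdiag : ∀ w, (⟨_, diag_mem X X' w⟩ : fib X X') ∈ G := fun w => by
    show QuotientGroup.mk' (diag X X') _ ∈ Q
    rw [show QuotientGroup.mk' (diag X X') (⟨_, diag_mem X X' w⟩ : fib X X') = 1 from
      (QuotientGroup.eq_one_iff _).2 ⟨w, rfl⟩]
    exact Q.one_mem
  have hkerG : ∀ p ∈ G, X.proj p.1.1 = 1 → ∃ w, p.1 = (X.ι w, X'.ι w) := by
    intro p hp h
    have : QuotientGroup.mk' (diag X X') p ∈ Q ⊓ (baer X X').proj.ker := Subgroup.mem_inf.2 ⟨hp, h⟩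
    rw [hQ1, Subgroup.mem_bot] at this
    obtain ⟨w, hw⟩ := (QuotientGroup.eq_one_iff _).1 this
    exact ⟨w, hw ▸ rfl⟩
  have hall : ∀ g : M, ∃ p ∈ G, X.proj p.1.1 = g := by
    intro g
    obtain ⟨q, hq⟩ := (baer X X').surj g
    have : q ∈ Q ⊔ (baer X X').proj.ker := hQ2 ▸ Subgroup.mem_top q
    obtain ⟨a, ha, n, hn, rfl⟩ := Subgroup.mem_sup_of_normal_right.1 this
    obtain ⟨p, rfl⟩ := QuotientGroup.mk_surjective a
    rw [map_mul, MonoidHom.mem_ker.1 hn, mul_one] at hq
    exact ⟨p, ha, hq⟩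
  let f : G →* E := ((MonoidHom.fst E E').comp (fib X X').subtype).comp G.subtype
  let f' : G →* E' := ((MonoidHom.snd E E').comp (fib X X').subtype).comp G.subtype
  have hf : Function.Bijective f := by
    refine ⟨(injective_iff_map_eq_one f).2 fun p hp => ?_, fun e => ?_⟩
    · obtain ⟨w, hw⟩ := hkerG p.1 p.2 (by
        show X.proj (f p) = 1
        rw [hp, map_one])
      have h1 : X.ι w = 1 := (congrArg Prod.fst hw).symm.trans hp
      rw [← X.ι_zero] at h1
      rw [X.ι_inj h1] at hw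
      exact Subtype.ext (Subtype.ext (hw.trans (Prod.ext X.ι_zero X'.ι_zero)))
    · obtain ⟨p, hp, he⟩ := hall (X.proj e)
      obtain ⟨w, hw⟩ := X.exists_diff he.symm
      exact ⟨⟨(⟨(X.ι w, X'.ι w), diag_mem X X' w⟩ : fib X X') * p, G.mul_mem (hdiag w) hp⟩, hw.symm⟩
  have hf' : Function.Bijective f' := by
    refine ⟨(injective_iff_map_eq_one f').2 fun p hp => ?_, fun e => ?_⟩
    · obtain ⟨w, hw⟩ := hkerG p.1 p.2 (by
        rw [show X.proj p.1.1.1 = X'.proj (f' p) from p.1.2, hp, map_one])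
      have h1 : X'.ι w = 1 := (congrArg Prod.snd hw).symm.trans hp
      rw [← X'.ι_zero] at h1
      rw [X'.ι_inj h1] at hw
      exact Subtype.ext (Subtype.ext (hw.trans (Prod.ext X.ι_zero X'.ι_zero)))
    · obtain ⟨p, hp, he⟩ := hall (X'.proj e)
      rw [show X.proj p.1.1 = X'.proj p.1.2 from p.2] at he
      obtain ⟨w, hw⟩ := X'.exists_diff he.symm
      exact ⟨⟨(⟨(X.ι w, X'.ι w), diag_mem X X' w⟩ : fib X X') * p, G.mul_mem (hdiag w) hp⟩, hw.symm⟩
  exact ⟨(MulEquiv.ofBijective f hf).symm.trans (MulEquiv.ofBijective f' hf')⟩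

end Fibre

end Cfsg.Agent.Spor.M23Coh
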