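import Cfsg.Agent.Lib.Spor.M23RelData

/-!
Checks for three or four pairwise commuting transvections of PSU(6,2): points 20 to 59.
-/

set_option autoImplicit false
set_option maxRecDepth 100000

namespace Cfsg.Agent.Spor.M23Rel.Quads

open Cfsg.Agent.Spor.CC

theorem okB : rangeOK ok 20 40 = true := by decide +kernel

end Cfsg.Agent.Spor.M23Rel.Quads
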