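import Cfsg.Agent.Lib.Spor.M23RelLevels
import Cfsg.Agent.Lib.Spor.M23RelChecksA
import Cfsg.Agent.Lib.Spor.M23RelChecksB
import Cfsg.Agent.Lib.Spor.M23RelChecksC
import Cfsg.Agent.Lib.Spor.Fi22U62
import Cfsg.Agent.Lib.Small.Unitary.Simple

/-!
The lowest level: PSU(6,2) with its transvections.
-/

set_option autoImplicit false
set_option maxRecDepth 100000
set_option linter.unusedSectionVars false

namespace Cfsg.Agent.Spor.M23Rel.Bottom

open Cfsg.Agent.Spor.M22U Cfsg.Agent.Spor.CC Cfsg.Agent.Spor.SpFour Cfsg.Agent.Small.Unitary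

local notation "P6" => Cfsg.PSU 6 F4 2

theorem cwd_below {x : ℕ} (hx : x < 693) : below 8 (cwd x) = true := by
  obtain ⟨h1, h2, -⟩ := pt_word hx
  exact below_append h2 (below_iff.mpr fun y hy => by
    rcases List.mem_cons.mp hy with rfl | hy
    · exact h1
    · exact below_iff.mp (below_rev h2) y hy)

theorem conj_ptr {x y : ℕ} (hx : x < 693) (hy : y < 693) :
    Pts.ptr x * Pts.ptr y * (Pts.ptr x)⁻¹ = Pts.ptr (pev (cwd x) y) := by
  rw [Pts.ptr_word hx, Pts.pw_conj (cwd_below hx) hy]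

theorem commute_orth {x y : ℕ} (hx : x < 693) (hy : y < 693) :
    Commute (Pts.ptr x) (Pts.ptr y) ↔ orth x y = true := by
  rw [orth, beq_iff, ← mul_inv_eq_iff_eq_mul.trans (Iff.rfl : _ ↔ Commute (Pts.ptr x) (Pts.ptr y)),
    conj_ptr hx hy]
  exact ⟨fun h => Pts.ptr_inj (pev_lt (cwd_below hx) hy) hy h, congrArg Pts.ptr⟩

theorem normalise {a : ℕ} (ha : a < 693) :
    ∃ g : P6, g * Pts.ptr a * g⁻¹ = Pts.ptr (gpt 0) ∧
      ∀ z < 693, ∃ z' < 693, g * Pts.ptr z * g⁻¹ = Pts.ptr z' := by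
  obtain ⟨w, hw, hwa⟩ := Pts.from_first ha
  have hr := below_rev hw
  refine ⟨Pts.pw w.reverse, ?_, fun z hz => ⟨_, pev_lt hr hz, Pts.pw_conj hr hz⟩⟩
  rw [Pts.pw_conj hr ha, ← hwa, pev_rev hw (gpt_lt (by norm_num))]

section Points

/-- conjugation by a product of three -/
theorem conj_three {a b c y : ℕ} (ha : a < 693) (hb : b < 693) (hc : c < 693) (hy : y < 693) :
    (Pts.ptr a * (Pts.ptr b * Pts.ptr c)) * Pts.ptr y * (Pts.ptr a * (Pts.ptr b * Pts.ptr c))⁻¹ =
      Pts.ptr (pev (cwd a) (pev (cwd b) (pev (cwd c) y))) := by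
  have h1 := pev_lt (cwd_below hc) hy
  have h2 := pev_lt (cwd_below hb) h1
  rw [← conj_ptr ha h2, ← conj_ptr hb h1, ← conj_ptr hc hy]
  group

/-- conjugation by a product of four -/
theorem conj_four {a b c e y : ℕ} (ha : a < 693) (hb : b < 693) (hc : c < 693) (he : e < 693) (hy : y < 693) :
    (Pts.ptr a * (Pts.ptr b * (Pts.ptr c * Pts.ptr e))) * Pts.ptr y *
        (Pts.ptr a * (Pts.ptr b * (Pts.ptr c * Pts.ptr e)))⁻¹ =
      Pts.ptr (pev (cwd a) (pev (cwd b) (pev (cwd c) (pev (cwd e) y)))) := by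
  have h1 := pev_lt (cwd_below he) hy
  rw [← conj_three ha hb hc h1, ← conj_ptr he hy]
  group

theorem mem_nb {j : ℕ} (hj : j < 693) (hne : j ≠ gpt 0) (ho : orth (gpt 0) j = true) :
    ∃ i < 180, Quads.nbv i = j := by
  have := all_range (p := Quads.nbOK) Quads.nb_ok (Nat.zero_le _) (show j < 0 + 693 by omega)
  simp only [Quads.nbOK, Bool.or_eq_true, beq_iff, ho, Bool.not_true, Bool.false_eq_true, or_false,
    hne, false_or, List.any_eq_true, List.mem_range] at this
  exact this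

theorem wit_lt : ∀ y ∈ Quads.wit, y < 693 := by decide +kernel

theorem nbv_mono : rangeOK (fun i => (List.range 180).all fun a =>
    !(Nat.blt a i) || Nat.blt (Quads.nbv a) (Quads.nbv i)) 0 180 = true := by decide +kernel

theorem idx_lt {i a : ℕ} (hi : i < 180) (ha : a < 180) (h : Quads.nbv i < Quads.nbv a) : i < a := by
  by_contra hn
  rcases Nat.lt_or_ge a i with h' | h'
  · have := all_range (p := fun i => (List.range 180).all fun a =>
      !(Nat.blt a i) || Nat.blt (Quads.nbv a) (Quads.nbv i)) nbv_mono (Nat.zero_le _)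
      (show i < 0 + 180 by omega)
    have := List.all_eq_true.mp this a (List.mem_range.mpr ha)
    simp only [Bool.or_eq_true, blt_iff.mpr h', Bool.not_true, Bool.false_eq_true, false_or, blt_iff] at this
    omega
  · have : i = a := by omega
    subst this
    omega

theorem ok_all {i : ℕ} (hi : i < 180) : Quads.ok i = true := by
  by_cases h : i < 20
  · exact all_range (p := Quads.ok) Quads.okA (Nat.zero_le _) (by omega)
  by_cases h1 : i < 60
  · exact all_range (p := Quads.ok) Quads.okB (st := 20) (by omega) (by omega)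
  exact all_range (p := Quads.ok) Quads.okC (st := 60) (by omega) (by omega)

theorem adj_get {i a : ℕ} (hi : i < 180) (ha : a < 180) (hlt : i < a)
    (ho : orth (Quads.nbv i) (Quads.nbv a) = true) :
    a ∈ Quads.adjs.getD i [] ∧ Nat.testBit (Quads.masks.getD i 0) a = true := by
  have := all_range (p := Quads.adjOK) Quads.adj_ok (Nat.zero_le _) (show i < 0 + 180 by omega)
  have := List.all_eq_true.mp this a (List.mem_range.mpr ha)
  simp only [Bool.or_eq_true, blt_iff.mpr hlt, ho, Bool.not_true, Bool.false_eq_true, false_or,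
    Bool.and_eq_true, List.elem_eq_mem, decide_eq_true_eq] at this
  exact this

/-- a list is bad if it is a set of pairwise commuting points with trivial product -/
def Bad (l : List ℕ) : Prop :=
  l.Nodup ∧ (∀ x ∈ l, x < 693) ∧ (∀ x ∈ l, ∀ y ∈ l, Commute (Pts.ptr x) (Pts.ptr y)) ∧
    (l.map Pts.ptr).prod = 1

theorem Bad.perm {l l' : List ℕ} (h : Bad l) (hp : l.Perm l') : Bad l' := by
  obtain ⟨h1, h2, h3, h4⟩ := h
  refine ⟨hp.nodup_iff.mp h1, fun x hx => h2 x (hp.mem_iff.mpr hx),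
    fun x hx y hy => h3 x (hp.mem_iff.mpr hx) y (hp.mem_iff.mpr hy), ?_⟩
  rw [← h4]
  refine ((hp.map Pts.ptr).prod_eq' ?_).symm
  refine List.pairwise_of_forall_mem_list fun a ha b hb => ?_
  obtain ⟨x, hx, rfl⟩ := List.mem_map.mp ha
  obtain ⟨y, hy, rfl⟩ := List.mem_map.mp hb
  exact h3 x hx y hy

theorem first_three {j k : ℕ} (h : Bad [gpt 0, j, k]) : j < k → False := by
  intro hjk
  obtain ⟨hn, hlt, hcom, hp⟩ := h
  simp only [List.nodup_cons, List.mem_cons, List.not_mem_nil, or_false, not_or, List.nodup_nil, and_true,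
    not_false_eq_true] at hn
  simp only [List.map_cons, List.map_nil, List.prod_cons, List.prod_nil, mul_one] at hp
  have hg := hlt (gpt 0) (by simp)
  have hj := hlt j (by simp)
  have hk := hlt k (by simp)
  have o : ∀ x ∈ [gpt 0, j, k], ∀ y ∈ [gpt 0, j, k], orth x y = true := fun x hx y hy =>
    (commute_orth (hlt x hx) (hlt y hy)).mp (hcom x hx y hy)
  obtain ⟨i, hi, rfl⟩ := mem_nb hj (fun e => hn.1.1 e.symm) (o _ (by simp) _ (by simp))
  obtain ⟨a, ha, rfl⟩ := mem_nb hk (fun e => hn.1.2 e.symm) (o _ (by simp) _ (by simp))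
  have hok := List.all_eq_true.mp (ok_all hi) a (adj_get hi ha (idx_lt hi ha hjk) (o _ (by simp) _ (by simp))).1
  have hmv := ((Bool.and_eq_true_iff).mp hok).1
  simp only [Quads.mv3, List.any_eq_true, Bool.not_eq_true'] at hmv
  obtain ⟨y, hyw, hmv⟩ := hmv
  have hy := wit_lt y hyw
  have := conj_three hg hj hk hy
  rw [hp, inv_one, one_mul, mul_one] at this
  have e := Pts.ptr_inj hy (pev_lt (cwd_below hg) (pev_lt (cwd_below hj) (pev_lt (cwd_below hk) hy))) this
  rw [← e, Nat.beq_refl] at hmv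
  exact Bool.noConfusion hmv

theorem first_four {j k m : ℕ} (h : Bad [gpt 0, j, k, m]) : j < k → k < m → False := by
  intro hjk hkm
  obtain ⟨hn, hlt, hcom, hp⟩ := h
  simp only [List.nodup_cons, List.mem_cons, List.not_mem_nil, or_false, not_or, List.nodup_nil, and_true,
    not_false_eq_true] at hn
  simp only [List.map_cons, List.map_nil, List.prod_cons, List.prod_nil, mul_one] at hp
  have hg := hlt (gpt 0) (by simp)
  have hj := hlt j (by simp)
  have hk := hlt k (by simp)
  have hm := hlt m (by simp)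
  have o : ∀ x ∈ [gpt 0, j, k, m], ∀ y ∈ [gpt 0, j, k, m], orth x y = true := fun x hx y hy =>
    (commute_orth (hlt x hx) (hlt y hy)).mp (hcom x hx y hy)
  obtain ⟨i, hi, rfl⟩ := mem_nb hj (fun e => hn.1.1 e.symm) (o _ (by simp) _ (by simp))
  obtain ⟨a, ha, rfl⟩ := mem_nb hk (fun e => hn.1.2.1 e.symm) (o _ (by simp) _ (by simp))
  obtain ⟨b, hb, rfl⟩ := mem_nb hm (fun e => hn.1.2.2 e.symm) (o _ (by simp) _ (by simp))
  have hia := idx_lt hi ha hjk
  have hab := idx_lt ha hb hkm
  have hok := List.all_eq_true.mp (ok_all hi) a (adj_get hi ha hia (o _ (by simp) _ (by simp))).1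
  have hok' := List.all_eq_true.mp ((Bool.and_eq_true_iff).mp hok).2 b
    (adj_get ha hb hab (o _ (by simp) _ (by simp))).1
  rw [(adj_get hi hb (hia.trans hab) (o _ (by simp) _ (by simp))).2] at hok'
  simp only [Bool.not_true, Bool.false_or] at hok'
  have hmv := hok'
  simp only [Quads.mv4, List.any_eq_true, Bool.not_eq_true'] at hmv
  obtain ⟨y, hyw, hmv⟩ := hmv
  have hy := wit_lt y hyw
  have := conj_four hg hj hk hm hy
  rw [hp, inv_one, one_mul, mul_one] at this
  have e := Pts.ptr_inj hy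
    (pev_lt (cwd_below hg) (pev_lt (cwd_below hj) (pev_lt (cwd_below hk) (pev_lt (cwd_below hm) hy)))) this
  rw [← e, Nat.beq_refl] at hmv
  exact Bool.noConfusion hmv

theorem bad_shift {a : ℕ} {t : List ℕ} (h : Bad (a :: t)) : ∃ t', t'.length = t.length ∧ Bad (gpt 0 :: t') := by
  obtain ⟨hn, hlt, hcom, hp⟩ := h
  obtain ⟨g, hga, hg⟩ := normalise (hlt a (by simp))
  choose! f hf1 hf2 using hg
  set φ : P6 →* P6 := (MulAut.conj g).toMonoidHom with hφ
  have hfa : ∀ x ∈ a :: t, Pts.ptr (f x) = φ (Pts.ptr x) := fun x hx => (hf2 x (hlt x hx)).symm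
  have hf0 : f a = gpt 0 := Pts.ptr_inj (hf1 a (hlt a (by simp))) (gpt_lt (by norm_num))
    ((hfa a (by simp)).trans hga)
  refine ⟨t.map f, List.length_map _, ?_⟩
  rw [← hf0, show f a :: t.map f = (a :: t).map f from rfl]
  refine ⟨?_, ?_, ?_, ?_⟩
  · refine hn.map_on fun x hx y hy e => ?_
    refine Pts.ptr_inj (hlt x hx) (hlt y hy) ((MulAut.conj g).injective ?_)
    have e' := congrArg Pts.ptr e
    rwa [hfa x hx, hfa y hy] at e'
  · intro x hx
    obtain ⟨y, hy, rfl⟩ := List.mem_map.mp hx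
    exact hf1 y (hlt y hy)
  · intro x hx y hy
    obtain ⟨u, hu, rfl⟩ := List.mem_map.mp hx
    obtain ⟨v, hv, rfl⟩ := List.mem_map.mp hy
    rw [hfa u hu, hfa v hv]
    exact (hcom u hu v hv).map φ
  · rw [List.map_map, List.map_congr_left (f := Pts.ptr ∘ f) (g := φ ∘ Pts.ptr) (fun x hx => hfa x hx),
      ← List.map_map, ← map_list_prod, hp, map_one]

theorem not_bad_three (l : List ℕ) (hl : l.length = 3) : ¬ Bad l := by
  intro h
  match l, hl with
  | [a, b, c], _ =>
    obtain ⟨t, ht, h⟩ := bad_shift h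
    match t, ht with
    | [j, k], _ =>
      rcases lt_trichotomy j k with hlt | heq | hlt
      · exact first_three h hlt
      · exact absurd h.1 (by simp [heq])
      · exact first_three (h.perm ((List.Perm.swap k j []).cons _)) hlt

theorem not_bad_four (l : List ℕ) (hl : l.length = 4) : ¬ Bad l := by
  intro h
  match l, hl with
  | [a, b, c, e], _ =>
    obtain ⟨t, ht, h⟩ := bad_shift h
    obtain ⟨j, k, m, hperm, hjk, hkm⟩ : ∃ j k m, t.Perm [j, k, m] ∧ j ≤ k ∧ k ≤ m := by
      have hp := List.mergeSort_perm t (· ≤ ·)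
      have hs := List.pairwise_mergeSort' (r := (· ≤ ·)) t
      have hlen : (t.mergeSort (· ≤ ·)).length = 3 := by rw [hp.length_eq]; simpa using ht
      generalize t.mergeSort (· ≤ ·) = s at hp hs hlen
      match s, hlen with
      | [j, k, m], _ =>
        simp only [List.pairwise_cons, List.mem_cons, List.not_mem_nil, or_false, forall_eq_or_imp, forall_eq] at hs
        exact ⟨j, k, m, hp.symm, hs.1.1, hs.2.1⟩
    have h' := h.perm (hperm.cons _)
    have hn := h'.1
    simp only [List.nodup_cons, List.mem_cons, List.not_mem_nil, or_false, not_or] at hn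
    exact first_four h' (lt_of_le_of_ne hjk hn.2.1.1) (lt_of_le_of_ne hkm hn.2.2.1)

end Points

variable {X : Type*} [Group X] [Finite X] {F : Set X}

theorem to_point (hF : Pre F) (φ : X ≃* P6) {f : X} (hf : f ∈ F) (h1 : f ≠ 1) :
    ∃ i < 693, φ f = Pts.ptr i := by
  have h2 : φ f * φ f = 1 := by rw [← map_mul, hF.sq f hf, map_one]
  have h1' : φ f ≠ 1 := fun h => h1 (φ.injective (h.trans (map_one φ).symm))
  rcases Invol.dichotomy h2 h1' with ⟨u, hu0, hu, e⟩ | ⟨q, n2, n3⟩
  · obtain ⟨hl, he⟩ := Pts.exists_ptr hu0 hu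
    exact ⟨_, hl, e.trans he⟩
  · exfalso
    have hq : φ (φ.symm q * f * (φ.symm q)⁻¹) = q * φ f * q⁻¹ := by simp
    rcases hF.two f hf _ (hF.conj (φ.symm q) f hf) with h | h
    · apply n2
      rw [← hq, ← map_mul, ← map_pow, h, map_one]
    · apply n3
      rw [← hq, ← map_mul, ← map_pow, h, map_one]

theorem exists_member (hF : Pre F) (φ : X ≃* P6) : ∃ f ∈ F, f ≠ 1 := by
  by_contra h
  push Not at h
  have hbot : Subgroup.closure F ≤ ⊥ := (Subgroup.closure_le _).mpr fun x hx => Subgroup.mem_bot.mpr (h x hx)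
  rw [hF.gen] at hbot
  have := Subgroup.mem_bot.mp (hbot (Subgroup.mem_top (φ.symm (Pts.ptr (gpt 0)))))
  exact Pts.ptr_ne_one (i := gpt 0) (gpt_lt (j := 0) (by norm_num)) (by
    have e := congrArg φ this
    rwa [MulEquiv.apply_symm_apply, map_one] at e)

theorem all_points (hF : Pre F) (φ : X ≃* P6) {i : ℕ} (hi : i < 693) :
    φ.symm (Pts.ptr i) ∈ F := by
  obtain ⟨f, hf, h1⟩ := exists_member hF φ
  obtain ⟨k, hk, hfk⟩ := to_point hF φ hf h1
  obtain ⟨g, hg, -⟩ := normalise hk
  obtain ⟨g', hg', -⟩ := normalise hi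
  have := hF.conj (φ.symm (g'⁻¹ * g)) f hf
  convert this using 1
  apply φ.injective
  simp only [map_mul, map_inv, MulEquiv.apply_symm_apply, hfk]
  rw [show g'⁻¹ * g * Pts.ptr k * (g'⁻¹ * g)⁻¹ = g'⁻¹ * (g * Pts.ptr k * g⁻¹) * g' by group, hg, ← hg']
  group

theorem one_bottom (hF : Pre F) (φ : X ≃* P6) : One F := by
  intro a ha b hb ha1 hb1
  obtain ⟨i, hi, hai⟩ := to_point hF φ ha ha1
  obtain ⟨k, hk, hbk⟩ := to_point hF φ hb hb1
  obtain ⟨g, hg, -⟩ := normalise hi
  obtain ⟨g', hg', -⟩ := normalise hk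
  refine ⟨φ.symm (g'⁻¹ * g), φ.injective ?_⟩
  simp only [map_mul, map_inv, MulEquiv.apply_symm_apply, hai, hbk]
  rw [show g'⁻¹ * g * Pts.ptr i * (g'⁻¹ * g)⁻¹ = g'⁻¹ * (g * Pts.ptr i * g⁻¹) * g' by group, hg, ← hg']
  group

theorem sep_bottom (hF : Pre F) (φ : X ≃* P6) : Sep F := by
  intro a ha b hb ha1 hb1 hab
  obtain ⟨i, hi, hai⟩ := to_point hF φ ha ha1
  obtain ⟨k, hk, hbk⟩ := to_point hF φ hb hb1
  obtain ⟨g, hg, hgp⟩ := normalise hi
  obtain ⟨k', hk', hgk⟩ := hgp k hk
  have hsame : ∀ z < 693, Commute (Pts.ptr (gpt 0)) (Pts.ptr z) ↔ Commute (Pts.ptr k') (Pts.ptr z) := by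
    intro z hz
    set g0 := φ.symm g
    have hm : ∀ u : X, Commute (g * φ u * g⁻¹) (Pts.ptr z) ↔ Commute u (g0⁻¹ * φ.symm (Pts.ptr z) * g0) := by
      intro u
      rw [show Pts.ptr z = g * (φ (g0⁻¹ * φ.symm (Pts.ptr z) * g0)) * g⁻¹ by
        simp only [g0, map_mul, map_inv, MulEquiv.apply_symm_apply]; group]
      rw [commute_conj_iff]
      constructor
      · intro h
        apply φ.injective
        rw [map_mul, map_mul]
        simpa [g0, mul_assoc] using h.eq
      · intro h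
        have := h.map φ.toMonoidHom
        simpa [g0, mul_assoc] using this
    rw [← hg, ← hgk, ← hai, ← hbk, hm, hm]
    exact hab _ ((conj_mem_iff hF.conj g0).1 (all_points hF φ hz))
  have hk0 : k' = gpt 0 := by
    have := all_range (p := Pts.sepOK) Pts.sep0 (Nat.zero_le _) (show k' < 0 + 693 by omega)
    simp only [Pts.sepOK, Bool.or_eq_true, List.any_eq_true, List.mem_range] at this
    rcases this with h' | ⟨z, hz, h'⟩
    · exact Nat.eq_of_beq_eq_true h'
    · have e : orth (gpt 0) z = orth k' z := by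
        rw [Bool.eq_iff_iff, ← commute_orth (gpt_lt (by norm_num)) hz, ← commute_orth hk' hz]
        exact hsame z hz
      simp [e] at h'
  apply φ.injective
  rw [hai, hbk]
  exact mul_left_cancel (mul_right_cancel (hg.trans (hgk.trans (by rw [hk0])).symm))

theorem center_bottom (φ : X ≃* P6) : Subgroup.center X = ⊥ := by
  haveI := psu_simple F4.star_eq_pow F4.card_sq (n := 6) (by norm_num) (by omega)
  haveI : IsSimpleGroup X := φ.isSimpleGroup_congr.mpr ‹_›
  rcases Subgroup.Normal.eq_bot_or_eq_top (H := Subgroup.center X) inferInstance with h | h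
  · exact h
  · exfalso
    have hcomm : ∀ x y : P6, Commute x y := fun x y => by
      have h1 : φ.symm y ∈ Subgroup.center X := h ▸ Subgroup.mem_top _
      have h2 := congrArg φ (Subgroup.mem_center_iff.mp h1 (φ.symm x))
      show x * y = y * x
      simpa using h2
    have hall : ∀ z < 693, orth (gpt 0) z = true := fun z hz =>
      (commute_orth (gpt_lt (by norm_num)) hz).mp (hcomm _ _)
    have hnb : ((List.range 693).all fun z => orth (gpt 0) z) = false := by decide +kernel
    rw [List.all_eq_false] at hnb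
    obtain ⟨z, hz, hz'⟩ := hnb
    exact hz' (hall z (List.mem_range.mp hz))

theorem card_psu : Nat.card P6 = 9196830720 := by
  obtain ⟨h1, ⟨h2⟩, -⟩ := Fi22Cert.U62Act.double_cover
  haveI := Fi22Cert.U62Act.card_Hsub.1
  have h3 := Subgroup.card_eq_card_quotient_mul_card_subgroup (Subgroup.center Fi22Cert.U62Act.Hsub)
  rw [Fi22Cert.U62Act.card_Hsub.2, h1, Nat.card_congr h2.toEquiv] at h3
  omega

theorem two_part (φ : X ≃* P6) : 2 ^ 15 ∣ Nat.card X := by
  rw [Nat.card_congr φ.toEquiv, card_psu]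
  norm_num

theorem noRel_bottom (hF : Pre F) (φ : X ≃* P6) {n : ℕ} (hn : ∀ l : List ℕ, l.length = n → ¬ Bad l) :
    NoRel n F := by
  intro l hnd hlen hl hcom hp
  have hi : ∀ a ∈ l, ∃ i < 693, φ a = Pts.ptr i := fun a ha => to_point hF φ (hl a ha).1 (hl a ha).2
  choose! p hp1 hp2 using hi
  refine hn (l.map p) (by rw [List.length_map, hlen]) ⟨?_, ?_, ?_, ?_⟩
  · refine hnd.map_on fun x hx y hy e => φ.injective ?_
    rw [hp2 x hx, hp2 y hy, e]
  · intro x hx
    obtain ⟨y, hy, rfl⟩ := List.mem_map.mp hx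
    exact hp1 y hy
  · intro x hx y hy
    obtain ⟨u, hu, rfl⟩ := List.mem_map.mp hx
    obtain ⟨v, hv, rfl⟩ := List.mem_map.mp hy
    rw [← hp2 u hu, ← hp2 v hv]
    exact (hcom u hu v hv).map φ.toMonoidHom
  · rw [List.map_map, List.map_congr_left (f := Pts.ptr ∘ p) (g := φ) (fun x hx => (hp2 x hx).symm)]
    have := map_list_prod φ l
    rw [hp, map_one] at this
    exact this.symm

end Cfsg.Agent.Spor.M23Rel.Bottom
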