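import Cfsg.Agent.Lib.Spor.M23RelFix
import Cfsg.Agent.Lib.Spor.M22UInvClasses
import Cfsg.Agent.Lib.Spor.Fi22OutMain
import Cfsg.Agent.Lib.Spor.Fi22SixMain

/-!
In type M(23), the centralizer of a member is generated by the members commuting with it.
-/

set_option autoImplicit false
set_option maxRecDepth 100000
set_option linter.unusedSectionVars false

namespace Cfsg.Agent.Spor.M23Rel.Cent

open Cfsg.Agent.Spor.M22U (nset)
open Cfsg.Agent.Spor.M22U.InvClasses (T)
open Cfsg.Agent.Spor.Fi22Cert (pres)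
open Cfsg.Agent.Spor.M22U.Fischer (Dc)
open Cfsg.Agent.Spor.CC

variable {G : Type*} [Group G] [Finite G] {D : Set G} {d : G} (S : Fix.Setting D d)

include S

theorem exists_coord : ∃ e : pres.Grp ≃* (↥(Subgroup.closure (nset D d)) ⧸ Subgroup.center ↥(Subgroup.closure (nset D d))), e '' Dc = nextSet D d :=
  M22U.Norm.iso_fi22 S.group S.next_prim S.next

/-- the member over a member of the presented group -/
theorem exists_lift (e : pres.Grp ≃* (↥(Subgroup.closure (nset D d)) ⧸ Subgroup.center ↥(Subgroup.closure (nset D d)))) (he : e '' Dc = nextSet D d) {u : pres.Grp} (hu : u ∈ Dc) :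
    ∃ x : ↥(Subgroup.closure (nset D d)), (x : G) ∈ nset D d ∧ (QuotientGroup.mk x : (↥(Subgroup.closure (nset D d)) ⧸ Subgroup.center ↥(Subgroup.closure (nset D d)))) = e u := by
  have : e u ∈ nextSet D d := he ▸ ⟨u, hu, rfl⟩
  obtain ⟨x, hx, hxe⟩ := this
  exact ⟨x, hx, hxe⟩

theorem img_inj' {x y : ↥(Subgroup.closure (nset D d))} (hx : (x : G) ∈ nset D d) (hy : (y : G) ∈ nset D d)
    (h : (QuotientGroup.mk x : (↥(Subgroup.closure (nset D d)) ⧸ Subgroup.center ↥(Subgroup.closure (nset D d)))) = QuotientGroup.mk y) : x = y :=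
  Subtype.ext (S.img_inj hx hy h)

/-- six distinct commuting members with product the given member -/
theorem six_prod : ∃ l : List G, l.Nodup ∧ l.length = 6 ∧ (∀ a ∈ l, a ∈ nset D d) ∧
    (∀ a ∈ l, ∀ b ∈ l, Commute a b) ∧ l.prod = d := by
  obtain ⟨e, he⟩ := exists_coord S
  have hT : ∀ i, T i ∈ Dc := fun i => (M22U.Fischer.mem _).2
  choose L hL hLe using fun i : ℕ => exists_lift S e he (hT i)
  set l := [0, 1, 2, 3, 4, 5].map fun i => (L i : G) with hl
  obtain ⟨hc6, -, hd7, -⟩ := M22U.TupChecks.lists_ok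
  have hnd : l.Nodup := by
    refine List.Nodup.map_on (fun i hi j hj h => ?_) (by decide)
    have hsub : ([0, 1, 2, 3, 4, 5] : List ℕ) ⊆ [0, 1, 2, 3, 4, 5, 6] := fun z hz => by simp at hz ⊢; omega
    refine List.inj_on_of_nodup_map (M22U.InvClasses.T_ne hd7) (hsub hi) (hsub hj) (e.injective ?_)
    rw [← hLe i, ← hLe j, show L i = L j from Subtype.ext h]
  have hmem : ∀ a ∈ l, a ∈ nset D d := fun a ha => by
    obtain ⟨i, -, rfl⟩ := List.mem_map.mp ha; exact hL i
  have hcom : ∀ a ∈ l, ∀ b ∈ l, Commute a b := fun a ha b hb => by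
    obtain ⟨i, hi, rfl⟩ := List.mem_map.mp ha
    obtain ⟨j, hj, rfl⟩ := List.mem_map.mp hb
    refine commute_lift S.pre d (hL i) (hL j) ?_
    show Commute (QuotientGroup.mk (L i) : (↥(Subgroup.closure (nset D d)) ⧸ Subgroup.center ↥(Subgroup.closure (nset D d)))) (QuotientGroup.mk (L j))
    rw [hLe, hLe]
    exact (M22U.InvClasses.T_comm hc6 hi hj).map e.toMonoidHom
  refine ⟨l, hnd, rfl, hmem, hcom, ?_⟩
  have hone : ([0, 1, 2, 3, 4, 5].map T).prod = 1 := by
    have hrel := M22U.InvClasses.rel (u := [0, 1, 2]) (v := [3, 4, 5]) (by simp)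
    simp only [List.map_cons, List.map_nil, List.prod_cons, List.prod_nil, mul_one] at hrel ⊢
    have hsq : ∀ i, T i * T i = 1 := fun i => mul_self_of_order_two (M22U.Fischer.three.1.1 _ (hT i))
    have c : ∀ i j, i < 6 → j < 6 → Commute (T i) (T j) := fun i j hi hj =>
      M22U.InvClasses.T_comm hc6 (i := i) (j := j) (by simp; omega) (by simp; omega)
    calc T 0 * (T 1 * (T 2 * (T 3 * (T 4 * T 5)))) = T 0 * (T 1 * T 2) * (T 3 * (T 4 * T 5)) := by
          simp only [mul_assoc]
      _ = T 0 * (T 1 * T 2) * (T 0 * (T 1 * T 2)) := by rw [hrel]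
      _ = 1 := by
          rw [((c 1 0 (by norm_num) (by norm_num)).mul_left (c 2 0 (by norm_num) (by norm_num))).mul_mul_mul_comm,
            hsq, one_mul, (c 2 1 (by norm_num) (by norm_num)).mul_mul_mul_comm, hsq, hsq, one_mul]
  have hmk : (QuotientGroup.mk ([0, 1, 2, 3, 4, 5].map L).prod : (↥(Subgroup.closure (nset D d)) ⧸ Subgroup.center ↥(Subgroup.closure (nset D d)))) = 1 := by
    have := map_list_prod (QuotientGroup.mk' (Subgroup.center ↥(Subgroup.closure (nset D d)))) ([0, 1, 2, 3, 4, 5].map L)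
    rw [QuotientGroup.mk'_apply, List.map_map] at this
    rw [this, show ((QuotientGroup.mk' (Subgroup.center ↥(Subgroup.closure (nset D d)))) ∘ L) = e ∘ T from funext hLe, ← List.map_map,
      ← map_list_prod e, hone, map_one]
  have hval : ((([0, 1, 2, 3, 4, 5].map L).prod : ↥(Subgroup.closure (nset D d))) : G) = l.prod := by
    simp [hl, mul_assoc]
  rcases S.central_cases hmk with h | h
  · exact absurd (hval ▸ h) (S.relSix l hnd rfl (fun a ha => ⟨(hmem a ha).1, S.ne_one _ (hmem a ha).1⟩) hcom)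
  · exact hval ▸ h

theorem mem_closure : d ∈ Subgroup.closure (nset D d) := by
  obtain ⟨l, -, -, hm, -, hp⟩ := six_prod S
  have := list_prod_mem (S := Subgroup.closure (nset D d)) (l := l) fun a ha => Subgroup.subset_closure (hm a ha)
  rwa [hp] at this

/-- a product of two members trivial in the next level to a power is trivial to that power -/
theorem lift_pow {p q : ↥(Subgroup.closure (nset D d))} (hp : (p : G) ∈ nset D d) (hq : (q : G) ∈ nset D d) (m : ℕ)
    (h : (QuotientGroup.mk (p * q) : (↥(Subgroup.closure (nset D d)) ⧸ Subgroup.center ↥(Subgroup.closure (nset D d)))) ^ m = 1) : (p * q) ^ m = 1 := by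
  have hE := S.pre
  have hpp : p * p = 1 := Subtype.ext (hE.sq _ hp.1)
  have hqq : q * q = 1 := Subtype.ext (hE.sq _ hq.1)
  by_cases hpq : p = q
  · rw [hpq, hqq, one_pow]
  have hne : (QuotientGroup.mk (p * q) : (↥(Subgroup.closure (nset D d)) ⧸ Subgroup.center ↥(Subgroup.closure (nset D d)))) ≠ 1 := fun h' => hpq (img_inj' S hp hq (by
    rw [QuotientGroup.mk_mul, mul_eq_one_iff_eq_inv, ← QuotientGroup.mk_inv,
      inv_eq_of_mul_eq_one_right hqq] at h'
    exact h'))
  have key : ∀ k : ℕ, k.Prime → (p * q) ^ k = 1 → (p * q) ^ m = 1 := by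
    intro k hk hk1
    haveI := Fact.mk hk
    have hord : orderOf (QuotientGroup.mk (p * q) : (↥(Subgroup.closure (nset D d)) ⧸ Subgroup.center ↥(Subgroup.closure (nset D d)))) = k :=
      orderOf_eq_prime (by rw [← QuotientGroup.mk_pow, hk1, QuotientGroup.mk_one]) hne
    obtain ⟨j, rfl⟩ : k ∣ m := hord ▸ orderOf_dvd_of_pow_eq_one h
    rw [pow_mul, hk1, one_pow]
  rcases hE.two _ hp.1 _ hq.1 with h2 | h3
  · exact key 2 Nat.prime_two (Subtype.ext h2)
  · exact key 3 Nat.prime_three (Subtype.ext h3)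

/-- no element fixing the member induces the diagram symmetry -/
theorem no_sigma (e : pres.Grp ≃* (↥(Subgroup.closure (nset D d)) ⧸ Subgroup.center ↥(Subgroup.closure (nset D d)))) (he : e '' Dc = nextSet D d) {x : G} (hx : Commute x d)
    (h : ∀ u, Fix.autQ S.pre hx (e u) = e (Fi22Cert.Outer.sigma u)) : False := by
  classical
  have hE := S.pre
  have hc : ∀ i, i < 9 → pres.gen i ∈ Dc := fun i hi => Fi22Cert.Outer.gen_mem_class hi
  choose L0 hL0 hL0e using fun i : Fin 9 => exists_lift S e he (hc i i.2)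
  let L : ℕ → ↥(Subgroup.closure (nset D d)) := fun i => if hi : i < 9 then L0 ⟨i, hi⟩ else 1
  have hLn : ∀ i, i < 9 → (L i : G) ∈ nset D d := fun i hi => by simp only [L, dif_pos hi]; exact hL0 _
  have hLe : ∀ i, (QuotientGroup.mk (L i) : (↥(Subgroup.closure (nset D d)) ⧸ Subgroup.center ↥(Subgroup.closure (nset D d)))) = e (pres.gen i) := fun i => by
    by_cases hi : i < 9
    · simp only [L, dif_pos hi]; exact hL0e _
    · simp only [L, dif_neg hi]
      rw [Pres.gen_big (show ¬ i < pres.ng from hi), map_one, QuotientGroup.mk_one]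
  have hsq : ∀ i, L i * L i = 1 := fun i => by
    by_cases hi : i < 9
    · exact Subtype.ext (hE.sq _ (hLn i hi).1)
    · simp [L, hi]
  have hword : ∀ w : List ℕ, (QuotientGroup.mk (w.map L).prod : (↥(Subgroup.closure (nset D d)) ⧸ Subgroup.center ↥(Subgroup.closure (nset D d)))) = e (w.map pres.gen).prod := fun w => by
    induction w with
    | nil => simp
    | cons a w ih => simp [QuotientGroup.mk_mul, ih, hLe a]
  have hrev : ∀ w : List ℕ, (w.reverse.map L).prod = ((w.map L).prod)⁻¹ := fun w => by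
    induction w with
    | nil => simp
    | cons a w ih =>
      rw [List.reverse_cons, List.map_append, List.prod_append, ih]
      simp [inv_eq_of_mul_eq_one_right (hsq a)]
  have hcases : ∀ p : ↥(Subgroup.closure (nset D d)), (QuotientGroup.mk p : (↥(Subgroup.closure (nset D d)) ⧸ Subgroup.center ↥(Subgroup.closure (nset D d)))) = 1 → (p : G) = 1 ∨ (p : G) = d := fun p => S.central_cases
  set dH : ↥(Subgroup.closure (nset D d)) := ⟨d, mem_closure S⟩ with hdH
  have hdcen : ∀ p : ↥(Subgroup.closure (nset D d)), Commute dH p := fun p => Subtype.ext (commute_of_mem p.2).eq.symm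
  have hdmk : (QuotientGroup.mk dH : (↥(Subgroup.closure (nset D d)) ⧸ Subgroup.center ↥(Subgroup.closure (nset D d)))) = 1 := (mk_eq_one_iff d).mpr fun y hy => hy.2.2
  have hd1 : (d : G) ≠ 1 := S.ne_one _ S.mem
  have hdd : dH * dH = 1 := Subtype.ext (hE.sq d S.mem)
  -- the two words of type E7
  have hA0 : (Fi22SixCert.sevenA.map pres.gen).prod = 1 :=
    Fi22Cert.Outer.oneOK_spec Fi22SixCert.base_rels (Fi22SixCert.extra_mem (by simp [Fi22SixCert.extras]))
  have hB0 : (Fi22SixCert.sevenB.map pres.gen).prod = 1 :=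
    Pres.relW_one Fi22Cert.pres_ok (by rw [Fi22SixCert.relW_base]; simp [Fi22SixCert.sevenB])
  set δ := (Fi22SixCert.sevenA.map L).prod with hA
  set B := (Fi22SixCert.sevenB.map L).prod with hB
  have hAc := hcases δ (by rw [hA, hword, hA0, map_one])
  have hBc := hcases B (by rw [hB, hword, hB0, map_one])
  have hδe : δ = 1 ∨ δ = dH := hAc.imp (fun h => Subtype.ext h) fun h => Subtype.ext h
  have hδd : δ * δ = 1 := by rcases hδe with h | h <;> rw [h] <;> simp [hdd]
  have hδc : ∀ p : ↥(Subgroup.closure (nset D d)), Commute δ p := fun p => by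
    rcases hδe with h | h <;> rw [h]
    exacts [Commute.one_left p, hdcen p]
  have hδmk : (QuotientGroup.mk δ : (↥(Subgroup.closure (nset D d)) ⧸ Subgroup.center ↥(Subgroup.closure (nset D d)))) = 1 := by rw [hA, hword, hA0, map_one]
  have hAB : B = δ := by
    set θ := Fix.autH hE hx
    have hθδ : θ δ = δ := by
      apply Subtype.ext
      show x * (δ : G) * x⁻¹ = δ
      have : Commute x (δ : G) := by
        rcases hAc with h | h <;> rw [h]
        exacts [Commute.one_right x, hx]
      rw [this.eq, mul_inv_cancel_right]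
    have hθL : ∀ i, i < 9 → θ (L i) = L (Fi22Cert.Outer.sw i) := fun i hi => by
      have hsw : Fi22Cert.Outer.sw i < 9 := (Fi22Cert.Outer.sw_facts.1 i hi).1
      refine img_inj' S (nset_conj hE hx (hLn i hi)) (hLn _ hsw) ?_
      have := h (pres.gen i)
      rw [← hLe i, Fi22Cert.Outer.sigma_gen hi, ← hLe] at this
      exact this
    have e1 : θ δ = ((([0, 1, 2, 3, 4, 5, 7] : List ℕ).map Fi22Cert.Outer.sw).map L).prod ^ 9 := by
      rw [hA, Fi22SixCert.sevenA, prod_powW, map_pow, map_list_prod, List.map_map, List.map_map]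
      congr 2
      refine List.map_congr_left fun i hi => ?_
      simp only [List.mem_cons, List.not_mem_nil, or_false] at hi
      exact hθL i (by omega)
    have e2 : ((([0, 1, 2, 3, 4, 5, 7] : List ℕ).map Fi22Cert.Outer.sw).map L).prod =
        (L 7)⁻¹ * (([1, 2, 3, 4, 5, 6, 7] : List ℕ).map L).prod⁻¹ * L 7 := by
      rw [← hrev, show (([1, 2, 3, 4, 5, 6, 7] : List ℕ).reverse) = [7, 6, 5, 4, 3, 2, 1] from rfl,
        show (([0, 1, 2, 3, 4, 5, 7] : List ℕ).map Fi22Cert.Outer.sw) = [6, 5, 4, 3, 2, 1, 7] from rfl]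
      simp [mul_assoc]
    rw [e2, show (L 7)⁻¹ * (([1, 2, 3, 4, 5, 6, 7] : List ℕ).map L).prod⁻¹ * L 7 =
      (L 7)⁻¹ * (([1, 2, 3, 4, 5, 6, 7] : List ℕ).map L).prod⁻¹ * (L 7)⁻¹⁻¹ by rw [inv_inv], conj_pow,
      inv_pow, ← prod_powW, show ((powW 9 [1, 2, 3, 4, 5, 6, 7]).map L).prod = B from rfl, hθδ] at e1
    have hBd : B = 1 ∨ B = dH := hBc.imp (fun h => Subtype.ext h) fun h => Subtype.ext h
    rcases hBd with h | h <;> rw [h] at e1 ⊢
    · rw [inv_one, mul_one, inv_inv, inv_mul_cancel] at e1; exact e1.symm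
    · rw [inv_eq_of_mul_eq_one_right hdd, inv_inv, mul_assoc, (hdcen (L 7)).eq, inv_mul_cancel_left] at e1
      exact e1.symm
  -- the twisted generators
  let f0 : ℕ → ↥(Subgroup.closure (nset D d)) := fun i => if i < 9 then L i * δ else 1
  have htwist : ∀ w : List ℕ, (∀ i ∈ w, i < 9) → (w.map f0).prod = (w.map L).prod * δ ^ w.length := by
    intro w
    induction w with
    | nil => simp
    | cons a w ih =>
      intro hw
      rw [List.map_cons, List.prod_cons, ih fun i hi => hw i (by simp [hi]), List.map_cons, List.prod_cons,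
        List.length_cons, pow_succ', show f0 a = L a * δ from if_pos (hw a (by simp))]
      calc L a * δ * ((w.map L).prod * δ ^ w.length) = L a * (δ * (w.map L).prod) * δ ^ w.length := by
            simp only [mul_assoc]
        _ = _ := by rw [(hδc _).eq]; simp only [mul_assoc]
  have heven : ∀ r : List ℕ, 2 ∣ r.length → δ ^ r.length = 1 := fun r ⟨k, hk⟩ => by
    rw [hk, pow_mul, pow_two, hδd, one_pow]
  have hconjn : ∀ (w : List ℕ) (i : ℕ), i < 9 →
      (((w.map L).prod * L i * (w.map L).prod⁻¹ : ↥(Subgroup.closure (nset D d))) : G) ∈ nset D d := fun w i hi =>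
    nset_conj hE (commute_of_mem (w.map L).prod.2) (hLn i hi)
  have hcomm : ∀ (w : List ℕ) (i : ℕ), i < 9 → ((w ++ [i] ++ w.reverse ++ [i]).map pres.gen).prod = 1 →
      ((w ++ [i] ++ w.reverse ++ [i]).map L).prod = 1 := by
    intro w i hi hG
    have e1 : ((w ++ [i] ++ w.reverse ++ [i]).map L).prod = (w.map L).prod * L i * (w.map L).prod⁻¹ * L i := by
      simp only [List.map_append, List.prod_append, hrev, List.map_cons, List.map_nil, List.prod_cons, List.prod_nil, mul_one, mul_assoc]
    have := lift_pow S (hconjn w i hi) (hLn i hi) 1 (by rw [pow_one, ← e1, hword, hG, map_one])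
    rwa [pow_one, ← e1] at this
  have hrel : ∀ r ∈ Fi22SixCert.pres.relW, (r.map f0).prod = 1 := by
    intro r hr
    have hG := Fi22Cert.Outer.oneOK_spec Fi22SixCert.base_rels hr
    rw [htwist r fun i hi => lettersOK_spec Fi22SixCert.relW_letters hr hi]
    rcases Fi22SixCert.relW_shape hr with ⟨i, hi, rfl⟩ | ⟨i, j, hi, hj, rfl⟩ | hext
    · rw [heven [i, i] (by simp), mul_one]
      simp [hsq]
    · rw [heven _ (by simp [powW]), mul_one]
      have e1 : ([j, i].map L).prod = L j * L i := by simp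
      rw [prod_powW, e1]
      refine lift_pow S (hLn j (by omega)) (hLn i hi) _ ?_
      rw [← e1, ← QuotientGroup.mk_pow, ← prod_powW, hword, hG, map_one]
    · simp only [Fi22SixCert.extras, List.mem_append, List.mem_map, List.mem_range, List.mem_cons,
        List.not_mem_nil, or_false] at hext
      rcases hext with ((rfl | rfl | rfl | rfl | rfl) | ⟨i, hi, rfl⟩) | ⟨i, hi, rfl⟩
      · rw [heven _ (by decide +kernel), mul_one]
        rw [Fi22SixCert.der_shape.1] at hG ⊢
        exact hcomm _ 8 (by norm_num) hG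
      · rw [heven _ (by decide +kernel), mul_one]
        rw [Fi22SixCert.der_shape.2.1] at hG ⊢
        exact hcomm _ 1 (by norm_num) hG
      · rw [heven _ (by decide +kernel), mul_one]
        rw [Fi22SixCert.der_shape.2.2] at hG ⊢
        set w := Fi22SixCert.derC.take 10
        have e1 : ((w ++ [1] ++ w.reverse ++ [8]).map L).prod = (w.map L).prod * L 1 * (w.map L).prod⁻¹ * L 8 := by
          simp only [List.map_append, List.prod_append, hrev, List.map_cons, List.map_nil, List.prod_cons, List.prod_nil, mul_one, mul_assoc]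
        rw [prod_powW, e1]
        refine lift_pow S (hconjn w 1 (by norm_num)) (hLn 8 (by norm_num)) _ ?_
        rw [← e1, ← QuotientGroup.mk_pow, ← prod_powW, hword, hG, map_one]
      · rw [show Fi22SixCert.sevenA.length = 63 from by decide +kernel, ← hA, ← pow_succ',
          show (63 + 1 : ℕ) = 2 * 32 from rfl, pow_mul, pow_two, hδd, one_pow]
      · rw [heven _ (by decide +kernel), mul_one, List.map_append, List.prod_append, ← hB, hAB, hδd]
      · rw [heven _ (by simp [Fi22SixCert.commW]; omega), mul_one]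
        exact hcomm _ i hi hG
      · rw [heven _ (by simp [Fi22SixCert.commW]; omega), mul_one]
        exact hcomm _ i hi hG
  -- the homomorphism of the six-fold cover
  let j : ↥(Subgroup.closure (nset D d)) ≃* Shrink.{0} ↥(Subgroup.closure (nset D d)) := Shrink.mulEquiv.symm
  let Φ : Fi22SixCert.pres.Grp →* ↥(Subgroup.closure (nset D d)) := j.symm.toMonoidHom.comp
    (SpiderCert.homOf Fi22SixCert.pres_ok (fun i => j (f0 i))
      (fun i hi => by rw [show f0 i = 1 from if_neg hi, map_one])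
      (fun r hr => by
        rw [show (r.map fun i => j (f0 i)) = (r.map f0).map j by rw [List.map_map]; rfl, ← map_list_prod,
          hrel r hr, map_one]))
  have hΦgen : ∀ i, Φ (Fi22SixCert.pres.gen i) = f0 i := fun i => by
    simp only [Φ, MonoidHom.comp_apply, MulEquiv.coe_toMonoidHom, SpiderCert.homOf_gen, MulEquiv.symm_apply_apply]
  have hΦword : ∀ w : List ℕ, Φ (w.map Fi22SixCert.pres.gen).prod = (w.map f0).prod := fun w => by
    rw [map_list_prod, List.map_map]
    exact congrArg List.prod (List.map_congr_left fun i _ => hΦgen i)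
  have hΦmk : ∀ g, (QuotientGroup.mk (Φ g) : (↥(Subgroup.closure (nset D d)) ⧸ Subgroup.center ↥(Subgroup.closure (nset D d)))) = e (Fi22SixCert.toFi g) := by
    refine DFunLike.congr_fun (MonoidHom.eq_of_eqOn_dense (Pres.closure_gen Fi22SixCert.pres_ok)
      (f := (QuotientGroup.mk' (Subgroup.center ↥(Subgroup.closure (nset D d)))).comp Φ) (g := e.toMonoidHom.comp Fi22SixCert.toFi) ?_)
    rintro _ ⟨i, hi, rfl⟩
    have hi' : i < 9 := hi
    show (QuotientGroup.mk (Φ (Fi22SixCert.pres.gen i)) : (↥(Subgroup.closure (nset D d)) ⧸ Subgroup.center ↥(Subgroup.closure (nset D d)))) = e (Fi22SixCert.toFi (Fi22SixCert.pres.gen i))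
    rw [hΦgen, show f0 i = L i * δ from if_pos hi', QuotientGroup.mk_mul, hδmk, mul_one, hLe]
    exact congrArg e (SpiderCert.homOf_gen ..).symm
  have hsv : Φ Fi22SixCert.svE = 1 := by
    have hlet : ∀ i ∈ Fi22SixCert.sevenB, i < 9 := by decide +kernel
    rw [Fi22SixCert.svE, hΦword, htwist _ hlet, ← hB, hAB,
      show Fi22SixCert.sevenB.length = 63 from by decide +kernel, ← pow_succ',
      show (63 + 1 : ℕ) = 2 * 32 from rfl, pow_mul, pow_two, hδd, one_pow]
  have hker : ∀ g, Fi22SixCert.toFi g = 1 → Φ g = 1 := by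
    intro g hg
    set K := Fi22SixCert.toFi.ker
    haveI : Finite K := Nat.finite_of_card_ne_zero (by rw [Fi22SixCert.kernel_card]; norm_num)
    set sv : K := ⟨Fi22SixCert.svE, Fi22SixCert.svE_ker⟩
    haveI : (Subgroup.zpowers sv).Normal := ⟨fun n hn k => by
      obtain ⟨z, rfl⟩ := Subgroup.mem_zpowers_iff.mp hn
      have : k * sv ^ z * k⁻¹ = sv ^ z := mul_inv_eq_iff_eq_mul.mpr (Subtype.ext
        (Subgroup.mem_center_iff.mp (zpow_mem Fi22SixCert.svE_central z) (k : Fi22SixCert.pres.Grp)))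
      rw [this]; exact hn⟩
    have hidx : (Subgroup.zpowers sv).index = 3 := by
      have := (Subgroup.zpowers sv).card_mul_index
      rw [Nat.card_zpowers, Fi22SixCert.kernel_card, ← Subgroup.orderOf_coe, Fi22SixCert.svE_order] at this
      omega
    obtain ⟨z, hz⟩ := Subgroup.mem_zpowers_iff.mp
      ((Subgroup.zpowers sv).pow_index_mem (⟨g, hg⟩ : K))
    rw [hidx] at hz
    have h3 : Φ g ^ 3 = 1 := by
      rw [← map_pow, show g ^ 3 = Fi22SixCert.svE ^ z from (congrArg Subtype.val hz).symm, map_zpow, hsv, one_zpow]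
    rcases hcases (Φ g) (by rw [hΦmk, hg, map_one]) with h1 | h1
    · exact Subtype.ext h1
    · exfalso
      have : (d : G) ^ 3 = 1 := by rw [← h1, ← Subgroup.coe_pow, h3, Subgroup.coe_one]
      rw [pow_succ, pow_two, hE.sq d S.mem, one_mul] at this
      exact hd1 this
  -- every member is a value times the twist
  have hmem : ∀ y : ↥(Subgroup.closure (nset D d)), (y : G) ∈ nset D d → ∃ q, y = Φ q * δ := by
    intro y hy
    obtain ⟨u, hu, hue⟩ : (QuotientGroup.mk y : (↥(Subgroup.closure (nset D d)) ⧸ Subgroup.center ↥(Subgroup.closure (nset D d)))) ∈ e '' Dc := he.symm ▸ ⟨y, hy, rfl⟩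
    obtain ⟨g, hg⟩ := isConj_iff.mp hu
    obtain ⟨g', rfl⟩ := Fi22SixCert.toFi_surj g
    refine ⟨g' * Fi22SixCert.pres.gen 0 * g'⁻¹, ?_⟩
    have e1 : Φ (g' * Fi22SixCert.pres.gen 0 * g'⁻¹) * δ = Φ g' * L 0 * (Φ g')⁻¹ := by
      rw [map_mul, map_mul, map_inv, hΦgen, show f0 0 = L 0 * δ from if_pos (by norm_num), mul_assoc,
        mul_assoc]
      simp only [mul_assoc]
      rw [← mul_assoc δ, (hδc (Φ g')⁻¹).eq, mul_assoc _ δ, hδd, mul_one]
    rw [e1]
    refine img_inj' S hy (nset_conj hE (commute_of_mem (Φ g').2) (hLn 0 (by norm_num))) ?_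
    rw [QuotientGroup.mk_mul, QuotientGroup.mk_mul, QuotientGroup.mk_inv, hΦmk, hLe, ← hue, ← hg]
    simp
  obtain ⟨l, -, hlen, hlmem, -, hlp⟩ := six_prod S
  have hall : ∀ l : List G, (∀ a ∈ l, a ∈ nset D d) →
      ∃ (p : ↥(Subgroup.closure (nset D d))) (q : Fi22SixCert.pres.Grp), (p : G) = l.prod ∧ p = Φ q * δ ^ l.length := by
    intro l
    induction l with
    | nil => exact fun _ => ⟨1, 1, by simp, by simp⟩
    | cons a l ih =>
      intro hm
      obtain ⟨p, q, hp, hq⟩ := ih fun b hb => hm b (by simp [hb])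
      obtain ⟨q', hq'⟩ := hmem ⟨a, Subgroup.subset_closure (hm a (by simp))⟩ (hm a (by simp))
      refine ⟨⟨a, Subgroup.subset_closure (hm a (by simp))⟩ * p, q' * q, by simp [hp], ?_⟩
      rw [hq', hq, map_mul, List.length_cons, pow_succ']
      calc Φ q' * δ * (Φ q * δ ^ l.length) = Φ q' * (δ * Φ q) * δ ^ l.length := by simp only [mul_assoc]
        _ = _ := by rw [(hδc _).eq]; simp only [mul_assoc]
  obtain ⟨p, q, hp, hq⟩ := hall l hlmem
  rw [hlen, show δ ^ 6 = (δ * δ) ^ 3 by rw [← pow_two, ← pow_mul], hδd, one_pow, mul_one] at hq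
  have hpd : p = dH := Subtype.ext (hp.trans hlp)
  have hq1 : Fi22SixCert.toFi q = 1 := e.injective (by rw [← hΦmk, ← hq, hpd, hdmk, map_one])
  exact hd1 (congrArg Subtype.val (hpd.symm.trans (hq.trans (hker q hq1))))

/-- the centralizer of the member is generated by the members commuting with it -/
theorem cent_le {x : G} (hx : Commute x d) : x ∈ Subgroup.closure (nset D d) := by
  have hE := S.pre
  obtain ⟨e, he⟩ := exists_coord S
  let ψ : MulAut pres.Grp := (e.trans (Fix.autQ hE hx)).trans e.symm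
  have hψ : ψ ∈ Fi22Cert.Outer.KK := Fi22Cert.Outer.KK_top ▸ Subgroup.mem_top _
  haveI : (Cfsg.Inn pres.Grp).Normal := by
    constructor
    rintro _ ⟨g, rfl⟩ φ
    exact ⟨φ g, MulEquiv.ext fun y => by simp⟩
  obtain ⟨_, ⟨g, rfl⟩, s, hs, hgs⟩ := Subgroup.mem_sup_of_normal_left.mp hψ
  obtain ⟨z, hz⟩ := QuotientGroup.mk_surjective (e g)
  have hzd : Commute (z : G)⁻¹ d := (commute_of_mem z.2).inv_left
  set x' := (z : G)⁻¹ * x with hx'def
  have hx' : Commute x' d := hzd.mul_left hx
  have hφ : ∀ u, Fix.autQ hE hx' (e u) = e (s u) := by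
    intro u
    obtain ⟨y, hy⟩ := QuotientGroup.mk_surjective (e u)
    have h1 : Fix.autQ hE hx (e u) = e (g * s u * g⁻¹) := by
      have := congrArg e (DFunLike.congr_fun hgs u)
      simp only [MulAut.mul_apply, MulAut.conj_apply, ψ, MulEquiv.trans_apply, MulEquiv.apply_symm_apply] at this
      exact this.symm
    rw [← hy, Fix.autQ_mk] at h1
    rw [← hy, Fix.autQ_mk]
    have h2 : Fix.autH hE hx' y = z⁻¹ * Fix.autH hE hx y * z := Subtype.ext (by
      show x' * (y : G) * x'⁻¹ = (z : G)⁻¹ * (x * y * x⁻¹) * z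
      rw [hx'def]; group)
    rw [h2, QuotientGroup.mk_mul, QuotientGroup.mk_mul, QuotientGroup.mk_inv, hz, h1, map_mul, map_mul, map_inv]
    group
  have hxz : x = (z : G) * x' := by rw [hx'def]; group
  have hpow : ∀ k : ℤ, Fi22Cert.Outer.sigma ^ k = 1 ∨ Fi22Cert.Outer.sigma ^ k = Fi22Cert.Outer.sigma := by
    intro k
    rcases Int.even_or_odd' k with ⟨m, rfl | rfl⟩
    · left; rw [zpow_mul, zpow_two, Fi22Cert.Outer.sigma_sq, one_zpow]
    · right; rw [zpow_add, zpow_mul, zpow_two, Fi22Cert.Outer.sigma_sq, one_zpow, one_mul, zpow_one]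
  obtain ⟨k, rfl⟩ := Subgroup.mem_zpowers_iff.mp hs
  rcases hpow k with h | h
  · have hcent : ∀ y ∈ nset D d, Commute x' y := fun y hy => by
      obtain ⟨u, hu⟩ := e.surjective (S.img y hy)
      have := hφ u
      rw [h, MulAut.one_apply, hu] at this
      exact mul_inv_eq_iff_eq_mul.mp (S.img_inj (nset_conj hE hx' hy) hy this)
    rw [hxz]
    refine mul_mem z.2 ?_
    rcases S.fix_ext hx' hcent with h' | h' <;> rw [h']
    exacts [one_mem _, mem_closure S]
  · exact (no_sigma S e he hx' fun u => by rw [hφ u, h]).elim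

theorem centralizer_eq : Subgroup.centralizer ({d} : Set G) = Subgroup.closure (nset D d) :=
  le_antisymm (fun _ hx => cent_le S (Subgroup.mem_centralizer_singleton_iff.mp hx))
    fun _ hx => Subgroup.mem_centralizer_singleton_iff.mpr (commute_of_mem hx).eq

end Cfsg.Agent.Spor.M23Rel.Cent
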