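import Cfsg.Agent.Lib.Spor.M23RelInvol

/-!
In type M(23), the members are the only class of 3-transpositions.
-/

set_option autoImplicit false
set_option maxRecDepth 100000
set_option linter.unusedSectionVars false

namespace Cfsg.Agent.Spor.M23Rel.ClassUnique

open Cfsg.Agent.Spor.M22U (nset)
open Cfsg.Agent.Spor.M22U.InvClasses (Good)

theorem pattern : M22U.orth (M22U.gpt 0) (M22U.gpt 3) = true ∧ M22U.orth (M22U.gpt 0) (M22U.gpt 4) = true ∧
    M22U.orth (M22U.gpt 3) (M22U.gpt 4) = false := by decide +kernel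

variable {G : Type*} [Group G] [Finite G] {D : Set G} {d : G} (S : Fix.Setting D d)
include S

/-- two noncommuting members commuting with three commuting members -/
theorem exists_five : ∃ b c a a' : G, b ∈ nset D d ∧ c ∈ nset D d ∧ a ∈ nset D d ∧ a' ∈ nset D d ∧ b ≠ c ∧
    Commute b c ∧ Commute a b ∧ Commute a c ∧ Commute a' b ∧ Commute a' c ∧ ¬ Commute a a' := by
  obtain ⟨e, he⟩ := Cent.exists_coord S
  set F := M22U.Fischer.frame
  have h : ∀ j, j < 8 → M22U.gpt j < 693 := fun j hj => M22U.gpt_lt hj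
  have hm : ∀ j (hj : j < 8), F.pt (M22U.gpt j) ∈ M22U.Fischer.Dc := fun j hj => (F.pt_mem (h j hj)).1
  obtain ⟨yb, hb, eb⟩ := Cent.exists_lift S e he F.ha
  obtain ⟨yc, hc, ec⟩ := Cent.exists_lift S e he (hm 0 (by norm_num))
  obtain ⟨ya, ha, ea⟩ := Cent.exists_lift S e he (hm 3 (by norm_num))
  obtain ⟨ya', ha', ea'⟩ := Cent.exists_lift S e he (hm 4 (by norm_num))
  have com : ∀ {p q : ↥(Subgroup.closure (nset D d))} (_ : (p : G) ∈ nset D d) (_ : (q : G) ∈ nset D d)
      {u v : Fi22Cert.pres.Grp} (_ : QuotientGroup.mk p = e u) (_ : QuotientGroup.mk q = e v),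
      Commute u v → Commute (p : G) q := by
    intro p q hp hq u v hu hv huv
    refine commute_lift S.pre d hp hq ?_
    show Commute (QuotientGroup.mk p : ↥(Subgroup.closure (nset D d)) ⧸ Subgroup.center ↥(Subgroup.closure (nset D d)))
      (QuotientGroup.mk q)
    rw [hu, hv]
    exact huv.map e.toMonoidHom
  obtain ⟨h03, h04, h34⟩ := pattern
  refine ⟨yb, yc, ya, ya', hb, hc, ha, ha', fun e' => ?_, com hb hc eb ec (F.pt_mem (h 0 (by norm_num))).2.2,
    com ha hb ea eb (F.pt_mem (h 3 (by norm_num))).2.2.symm,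
    com ha hc ea ec ((F.commute_pt (h 0 (by norm_num)) (h 3 (by norm_num))).mpr h03).symm,
    com ha' hb ea' eb (F.pt_mem (h 4 (by norm_num))).2.2.symm,
    com ha' hc ea' ec ((F.commute_pt (h 0 (by norm_num)) (h 4 (by norm_num))).mpr h04).symm, fun hcom => ?_⟩
  · rw [show yb = yc from Subtype.ext e', ec] at eb
    exact (F.pt_mem (h 0 (by norm_num))).2.1 (e.injective eb)
  · have h1 : Commute (e (F.pt (M22U.gpt 3))) (e (F.pt (M22U.gpt 4))) := by
      rw [← ea, ← ea']
      exact (Commute.map (x := ya) (y := ya') (Subtype.ext hcom.eq)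
        (QuotientGroup.mk' (Subgroup.center ↥(Subgroup.closure (nset D d)))) :)
    have h2 := (F.commute_pt (h 3 (by norm_num)) (h 4 (by norm_num))).mp (by
      have := h1.map e.symm.toMonoidHom; simpa using this)
    rw [h34] at h2
    exact Bool.noConfusion h2

theorem six_order {p q r s : G} (hp : p ∈ D) (hq : q ∈ D) (hr : r ∈ D) (hs : s ∈ D) (hpq : ¬ Commute p q)
    (hrs : r ≠ s) (crs : Commute r s) (cpr : Commute p r) (cps : Commute p s) (cqr : Commute q r) (cqs : Commute q s) :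
    (p * q * (r * s)) ^ 2 ≠ 1 ∧ (p * q * (r * s)) ^ 3 ≠ 1 := by
  have hE := S.pre
  have hc : Commute (p * q) (r * s) := (cpr.mul_right cps).mul_left (cqr.mul_right cqs)
  have hR : (r * s) ^ 2 = 1 := by rw [crs.mul_pow, pow_two, pow_two, hE.sq r hr, hE.sq s hs, one_mul]
  have hP : (p * q) ^ 3 = 1 := (hE.braid hp hq hpq).1
  constructor
  · intro h
    rw [hc.mul_pow, hR, mul_one] at h
    exact hpq (commute_of_sq (hE.sq p hp) (hE.sq q hq) h)
  · intro h
    rw [hc.mul_pow, hP, one_mul, pow_succ, hR, one_mul, mul_eq_one_iff_eq_inv,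
      inv_eq_of_mul_eq_one_right (hE.sq s hs)] at h
    exact hrs h

/-- the only class of 3-transpositions -/
theorem class_eq (hrel : ∀ k, 1 ≤ k → k ≤ 6 → NoRel k D) {D' : Set G} (hD' : Cfsg.IsThreeTranspositionClass D') :
    D' = D := by
  obtain ⟨hset, ⟨x, hx, hDx⟩, -⟩ := hD'
  obtain ⟨l, hl, h1, h3, rfl⟩ := Invol.exists_good S (hset.1 x hx)
  by_cases hl1 : l.length = 1
  · obtain ⟨a, rfl⟩ := List.length_eq_one_iff.mp hl1
    have ha : a ∈ D := hl.2.1 a (by simp)
    simp only [List.prod_cons, List.prod_nil, mul_one] at hDx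
    rw [hDx]
    ext y
    refine ⟨fun hy => ?_, fun hy => ?_⟩
    · obtain ⟨g, rfl⟩ := isConj_iff.mp hy
      exact S.pre.conj g a ha
    · exact isConj_iff.mpr (S.prim.1 a ha y hy)
  exfalso
  obtain ⟨b, c, a, a', hb, hc, ha, ha', hbc, cbc, cab, cac, ca'b, ca'c, naa'⟩ := exists_five S
  have mem : ∀ {m : List G}, Good D m → m.length = l.length → m.prod ∈ D' := fun {m} hm hlen =>
    hDx ▸ Invol.good_conj S hrel hl hm hlen.symm h1 h3
  have hab : a ≠ b := fun e => naa' (e ▸ ca'b.symm)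
  have hac : a ≠ c := fun e => naa' (e ▸ ca'c.symm)
  have ha'b : a' ≠ b := fun e => naa' (e ▸ cab)
  have ha'c : a' ≠ c := fun e => naa' (e ▸ cac)
  have good2 : ∀ {p q : G}, p ∈ D → q ∈ D → p ≠ q → Commute p q → Good D [p, q] := fun {p q} hp hq hpq hc =>
    ⟨by simp [hpq], by simp [hp, hq], by simp [hc, hc.symm]⟩
  obtain ⟨hn2, hn3⟩ := six_order S ha.1 ha'.1 hb.1 hc.1 naa' hbc cbc cab cac ca'b ca'c
  rcases (show l.length = 2 ∨ l.length = 3 by omega) with hlen | hlen
  · have hu := mem (good2 ha.1 hb.1 hab cab) (by simp [hlen])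
    have hv := mem (good2 ha'.1 hc.1 ha'c ca'c) (by simp [hlen])
    simp only [List.prod_cons, List.prod_nil, mul_one] at hu hv
    have e : a * b * (a' * c) = a * a' * (b * c) := ca'b.symm.mul_mul_mul_comm a c
    rcases hset.2 _ hu _ hv with h | h <;> rw [e] at h
    exacts [hn2 h, hn3 h]
  · have hu := mem (Invol.good_cons S (good2 ha.1 hb.1 hab cab) (List.forall_mem_cons.mpr ⟨ha, List.forall_mem_singleton.mpr hb⟩)) (by simp [hlen])
    have hv := mem (Invol.good_cons S (good2 ha'.1 hc.1 ha'c ca'c) (List.forall_mem_cons.mpr ⟨ha', List.forall_mem_singleton.mpr hc⟩)) (by simp [hlen])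
    simp only [List.prod_cons, List.prod_nil, mul_one] at hu hv
    have e : d * (a * b) * (d * (a' * c)) = a * a' * (b * c) := by
      have hd : Commute d (a * b) := ha.2.2.mul_right hb.2.2
      rw [hd.eq, ← mul_assoc, mul_assoc (a * b) d d, S.pre.sq d S.mem, mul_one]
      exact ca'b.symm.mul_mul_mul_comm a c
    rcases hset.2 _ hu _ hv with h | h <;> rw [e] at h
    exacts [hn2 h, hn3 h]

end Cfsg.Agent.Spor.M23Rel.ClassUnique
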