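import Cfsg.Agent.Lib.Spor.M23RelCycDefs
import Cfsg.Agent.Lib.Spor.M23RelCycData

/-!
Covering checks for the cycles of the element of order 17 in Fi23.
-/

set_option autoImplicit false
set_option maxRecDepth 100000
set_option Elab.async false

namespace Cfsg.Agent.Spor.M23Rel.Cyc

open Cfsg.Agent.Spor.CC Data

theorem cov17_16000 : rangeOK (covOK w17 32 nr17 tab17 rep17) 16000 8000 = true := by decide +kernel

theorem cov17_24000 : rangeOK (covOK w17 32 nr17 tab17 rep17) 24000 7671 = true := by decide +kernel

theorem reps17 : rangeOK (repOK w17 c17 pat17 rep17) 0 nr17 = true := by decide +kernel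

theorem chain17 : chainGen ((List.range 17).map fun j => xp w17 j c17) ch17 = true := by decide +kernel

theorem base17 : ptOK c17 = true ∧ hasPat w17 pat17 c17 = true ∧ (∀ x ∈ w17, x < 10) ∧ e10 w17 c17 ≠ c17 ∧
    lettersOK 10 [powW 17 w17] = true ∧ fixOK Fi23Cert.RepA.rows 10 [powW 17 w17] (Fi23Cert.RepA.levels.map Orb.b) = true := by
  decide +kernel

end Cfsg.Agent.Spor.M23Rel.Cyc
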