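import Cfsg.Agent.Lib.Spor.M23RelCycDefs
import Cfsg.Agent.Lib.Spor.M23RelCycData

/-!
Covering checks for the cycles of the element of order 23 in Fi23.
-/

set_option autoImplicit false
set_option maxRecDepth 100000
set_option Elab.async false

namespace Cfsg.Agent.Spor.M23Rel.Cyc

open Cfsg.Agent.Spor.CC Data

theorem cov23_0 : rangeOK (covOK w23 32 nr23 tab23 rep23) 0 8000 = true := by decide +kernel

theorem cov23_8000 : rangeOK (covOK w23 32 nr23 tab23 rep23) 8000 8000 = true := by decide +kernel

end Cfsg.Agent.Spor.M23Rel.Cyc
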