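import Cfsg.Agent.Lib.Spor.Fi23OutPoints

/-!
Cycles of an element on the points of Fi23: covering tables, the suborbit pattern of a cycle and the
generation of the group from the members of one cycle.
-/

set_option autoImplicit false
set_option maxRecDepth 100000
set_option linter.unusedSectionVars false

namespace Cfsg.Agent.Spor.M23Rel.Cyc

open Cfsg.Agent.Spor.CC Cfsg.Agent.Spor.Fi23Cert Cfsg.Agent.Spor.Fi23Cert.Below
open Cfsg.Agent.Spor.Fi23Cert.Outer (IsPt)

/-- parent of a point -/
def parOf (p : ℕ) : ℕ := fld RepA.allOrbTree 24 (Nat.sub p 1)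

/-- word of a point -/
def wordA : ℕ → ℕ → List ℕ
  | 0, _ => []
  | n + 1, p => bif Nat.beq p 0 then [] else
      Nat.shiftRight (parOf p) 16 :: wordA n (Nat.land (parOf p) 65535)

/-- word of a point -/
def pw (p : ℕ) : List ℕ := wordA 50 p

/-- word of the member of a point -/
def mw (p : ℕ) : List ℕ := pw p ++ Below.zW ++ (pw p).reverse

/-- evaluation -/
noncomputable def e10 (w : List ℕ) (p : ℕ) : ℕ := ev RepA.rows 10 w p

/-- check of a point word -/
noncomputable def ptOK (p : ℕ) : Bool :=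
  Nat.blt p 31671 && (pw p).all (fun x => Nat.blt x 10) && Nat.beq (e10 (pw p) 0) p

/-- iterate -/
noncomputable def xp (w : List ℕ) : ℕ → ℕ → ℕ
  | 0, p => p
  | j + 1, p => e10 w (xp w j p)

/-- the suborbit of one point seen from another -/
noncomputable def rel (p q : ℕ) : ℕ := fld RepA.labels 4 (e10 (pw p).reverse q)

/-- the pattern of a cycle -/
noncomputable def hasPat (w : List ℕ) (pat : List (ℕ × ℕ)) (r : ℕ) : Bool :=
  pat.all fun e => Nat.beq (rel r (xp w e.1 r)) e.2

/-- one entry of a covering table: every point is some steps before a representative -/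
noncomputable def covOK (w : List ℕ) (B nr tab repT p : ℕ) : Bool :=
  bif Nat.beq (Nat.mod (fld tab 16 p) B) 0 then
    Nat.blt (Nat.div (fld tab 16 p) B) nr && Nat.beq (fld repT 16 (Nat.div (fld tab 16 p) B)) p
  else Nat.beq (Nat.add (fld tab 16 (e10 w p)) 1) (fld tab 16 p)

/-- one representative -/
noncomputable def repOK (w : List ℕ) (c : ℕ) (pat : List (ℕ × ℕ)) (repT i : ℕ) : Bool :=
  Nat.beq (fld repT 16 i) c || (ptOK (fld repT 16 i) && !(hasPat w pat (fld repT 16 i)))

/-- generation from known members -/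
noncomputable def chainGen : List ℕ → List (ℕ × ℕ × ℕ) → Bool
  | known, [] => (List.range 10).all fun x => known.any fun k => Nat.beq k (e10 (Mult.gC.getD x []) 0)
  | known, (p, a, q) :: rest =>
    known.any (fun k => Nat.beq k a) && known.any (fun k => Nat.beq k q) && ptOK a &&
      Nat.beq (e10 (mw a) q) p && chainGen (p :: known) rest

/-- the element of a word -/
noncomputable def el (w : List ℕ) : pres.Grp := (w.map pres.gen).prod

/-- image of a point -/
noncomputable def act (g : pres.Grp) (p : ℕ) : ℕ :=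
  if h : p < rep.P.n then (rep.hom g ⟨p, h⟩ : ℕ) else 0

theorem act_def (g : pres.Grp) {p : ℕ} (hp : p < rep.P.n) : act g p = (rep.hom g ⟨p, hp⟩ : ℕ) := dif_pos hp

theorem act_lt (g : pres.Grp) {p : ℕ} (hp : p < 31671) : act g p < 31671 := by
  rw [act_def g hp]; exact (rep.hom g ⟨p, hp⟩).2

theorem act_mul (g h : pres.Grp) {p : ℕ} (hp : p < 31671) : act (g * h) p = act g (act h p) := by
  rw [act_def _ hp, map_mul, Equiv.Perm.mul_apply, act_def g (act_lt h hp)]
  congr 2
  exact Fin.ext (act_def h hp).symm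

theorem act_one {p : ℕ} (hp : p < 31671) : act 1 p = p := by
  rw [act_def _ hp, map_one]; rfl

theorem act_el {w : List ℕ} (hw : ∀ x ∈ w, x < 10) {p : ℕ} (hp : p < 31671) : act (el w) p = e10 w p := by
  rw [act_def _ hp, el, ev_eq rep.valid pres.gen rep.hom rep.hom_gen hw]; rfl

theorem e10_lt {w : List ℕ} (hw : ∀ x ∈ w, x < 10) {p : ℕ} (hp : p < 31671) : e10 w p < 31671 :=
  act_el hw hp ▸ act_lt _ hp

theorem xp_act {w : List ℕ} (hw : ∀ x ∈ w, x < 10) {p : ℕ} (hp : p < 31671) :
    ∀ j, xp w j p = act (el w ^ j) p ∧ xp w j p < 31671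
  | 0 => ⟨by rw [pow_zero, act_one hp]; rfl, hp⟩
  | j + 1 => by
    obtain ⟨h1, h2⟩ := xp_act hw hp j
    have : xp w (j + 1) p = act (el w ^ (j + 1)) p := by
      rw [pow_succ', act_mul _ _ hp, ← h1, act_el hw h2]; rfl
    exact ⟨this, this ▸ act_lt _ hp⟩

theorem act_comm {w : List ℕ} (hw : ∀ x ∈ w, x < 10) {g : pres.Grp} (hg : Commute g (el w)) {p : ℕ}
    (hp : p < 31671) (j : ℕ) : act g (xp w j p) = xp w j (act g p) := by
  rw [(xp_act hw hp j).1, (xp_act hw (act_lt g hp) j).1, ← act_mul _ _ hp, ← act_mul _ _ hp, (hg.pow_right j).eq]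

theorem el_reverse (w : List ℕ) : el w.reverse = (el w)⁻¹ := (prod_rev w).symm

theorem ptOK_spec {p : ℕ} (h : ptOK p = true) :
    p < 31671 ∧ (∀ x ∈ pw p, x < 10) ∧ act (el (pw p)) 0 = p := by
  simp only [ptOK, Bool.and_eq_true, List.all_eq_true] at h
  have hl : ∀ x ∈ pw p, x < 10 := fun x hx => Nat.le_of_ble_eq_true (h.1.2 x hx)
  exact ⟨Nat.le_of_ble_eq_true h.1.1, hl, (act_el hl (by norm_num)).trans (Nat.eq_of_beq_eq_true h.2)⟩

theorem sub_label {i : ℕ} (hi : i < 3) {O : Orb} (hO : RepA.subs[i]? = some O) :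
    orbOK RepA.rows 10 O = true ∧ closedOK RepA.rows 10 O = true ∧ lettersOK 10 O.ws = true ∧
      ∀ j, j < O.k → fld RepA.labels 4 (fld O.pts 16 j) = i := by
  interval_cases i <;> obtain rfl := Option.some.inj hO
  · exact ⟨RepA.sub0_ok, RepA.sub0_closed, RepA.sub0_letters,
      fun j hj => Nat.eq_of_beq_eq_true (RepA.sub0_l_all j (Nat.zero_le _) hj)⟩
  · exact ⟨RepA.sub1_ok, RepA.sub1_closed, RepA.sub1_letters,
      fun j hj => Nat.eq_of_beq_eq_true (RepA.sub1_l_all j (Nat.zero_le _) hj)⟩
  · exact ⟨RepA.sub2_ok, RepA.sub2_closed, RepA.sub2_letters,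
      fun j hj => Nat.eq_of_beq_eq_true (RepA.sub2_l_all j (Nat.zero_le _) hj)⟩

/-- the label is invariant under the stabiliser of the first point -/
theorem label_act {k : pres.Grp} (hk : act k 0 = 0) {u : ℕ} (hu : u < 31671) :
    fld RepA.labels 4 (act k u) = fld RepA.labels 4 u := by
  haveI := order.1
  have hcov := RepA.cov_r_all u (Nat.zero_le _) hu
  rw [covOK1] at hcov
  split at hcov
  case h_2 => cases hcov
  case h_1 O hO =>
  set i := fld RepA.labels 4 u with hi0
  have hi : i < 3 := (List.getElem?_eq_some_iff.mp hO).1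
  obtain ⟨-, hcl, hl, hlab⟩ := sub_label hi hO
  simp only [Bool.and_eq_true] at hcov
  have hu' : ∃ j, j < O.k ∧ u = fld O.pts 16 j :=
    ⟨_, Nat.le_of_ble_eq_true hcov.1, (Nat.eq_of_beq_eq_true hcov.2).symm⟩
  have hkS : k ∈ pres.wsub IdxA.subW := by
    rw [stab_eq.1, mem_stab]
    apply Fin.ext
    rw [act_def k (show (0 : ℕ) < rep.P.n by decide)] at hk
    exact hk
  have hws : O.ws = IdxA.subW := subs_ws O (List.mem_of_getElem? hO)
  have key : ∀ t ∈ pres.wsub IdxA.subW, ∀ v, v < 31671 → (∃ j, j < O.k ∧ v = fld O.pts 16 j) →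
      ∃ j, j < O.k ∧ act t v = fld O.pts 16 j := by
    intro t ht
    rw [Pres.wsub, ← Subgroup.mem_toSubmonoid, Subgroup.closure_toSubmonoid_of_finite] at ht
    induction ht using Submonoid.closure_induction with
    | mem t ht =>
      obtain ⟨w, hw, rfl⟩ := ht
      rw [← hws] at hw
      rintro v hv ⟨j, hj, rfl⟩
      have := List.all_eq_true.mp (List.all_eq_true.mp hcl j (List.mem_range.mpr hj)) w hw
      simp only [Bool.and_eq_true] at this
      refine ⟨_, Nat.le_of_ble_eq_true this.1, ?_⟩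
      show act (el w) _ = _
      rw [act_el (fun x hx => lettersOK_spec hl hw hx) hv]
      exact (Nat.eq_of_beq_eq_true this.2).symm
    | one => intro v hv hj; rw [act_one hv]; exact hj
    | mul a b _ _ ha hb =>
      intro v hv hj
      rw [act_mul _ _ hv]
      exact ha _ (act_lt _ hv) (hb v hv hj)
  obtain ⟨j, hj, e⟩ := key k hkS u hu hu'
  rw [e, hlab j hj]

theorem rel_act {g : pres.Grp} {p q : ℕ} (hp : ptOK p = true) (hp' : ptOK (act g p) = true)
    (hq : q < 31671) : rel (act g p) (act g q) = rel p q := by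
  obtain ⟨hplt, hl, h0⟩ := ptOK_spec hp
  obtain ⟨hplt', hl', h0'⟩ := ptOK_spec hp'
  have hr : ∀ {w : List ℕ}, (∀ x ∈ w, x < 10) → ∀ x ∈ w.reverse, x < 10 := fun h x hx => h x (List.mem_reverse.mp hx)
  set k := (el (pw (act g p)))⁻¹ * g * el (pw p) with hk
  have hk0 : act k 0 = 0 := by
    rw [hk, act_mul _ _ (by norm_num), h0, act_mul _ _ hplt]
    have h := congrArg (act (el (pw (act g p)))⁻¹) h0'
    rw [← act_mul _ _ (by norm_num), inv_mul_cancel, act_one (by norm_num)] at h
    exact h.symm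
  show fld RepA.labels 4 (e10 (pw (act g p)).reverse (act g q)) = fld RepA.labels 4 (e10 (pw p).reverse q)
  rw [← act_el (hr hl') (act_lt g hq), ← act_el (hr hl) hq, el_reverse, el_reverse,
    ← label_act hk0 (act_lt (el (pw p))⁻¹ hq), ← act_mul _ _ hq, ← act_mul _ _ hq, hk, mul_inv_cancel_right]

theorem isPt_root : IsPt tA 0 := ⟨1, by group, by rw [map_one]; rfl⟩

/-- the member of a point -/
noncomputable def dp (p : ℕ) : pres.Grp := el (mw p)

theorem mw_lt {p : ℕ} (hp : ptOK p = true) : ∀ x ∈ mw p, x < 10 := by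
  obtain ⟨-, hl, -⟩ := ptOK_spec hp
  intro x hx
  simp only [mw, List.mem_append, List.mem_reverse] at hx
  rcases hx with (h | h) | h
  · exact hl x h
  · exact zW_lt x h
  · exact hl x h

theorem dp_conj (p : ℕ) : dp p = el (pw p) * tA * (el (pw p))⁻¹ := by
  simp only [dp, mw, el, List.map_append, List.prod_append, prod_rev]

theorem isPt_dp {p : ℕ} (hp : ptOK p = true) : IsPt (dp p) p := by
  obtain ⟨hplt, hl, h0⟩ := ptOK_spec hp
  have h := isPt_root.conj (el (pw p)) (by norm_num)
  rw [← dp_conj, ← act_def (el (pw p)) (show (0 : ℕ) < rep.P.n by decide), h0] at h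
  exact h

theorem fixed_commute {g : pres.Grp} {d : pres.Grp} {p : ℕ} (hd : IsPt d p) (hfix : act g p = p) :
    Commute g d := by
  have h := hd.conj g hd.lt
  rw [← act_def g hd.lt, hfix] at h
  exact mul_inv_eq_iff_eq_mul.mp (h.inj hd)

theorem fix_of_commute {g d : pres.Grp} {p : ℕ} (hd : IsPt d p) (h : Commute g d) : act g p = p := by
  have h' := hd.conj g hd.lt
  rw [show g * d * g⁻¹ = d by rw [h.eq, mul_inv_cancel_right], ← act_def g hd.lt] at h'
  exact h'.unique hd

/-- every point leads to a representative -/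
theorem cover {w : List ℕ} (hw : ∀ x ∈ w, x < 10) {B nr tab repT : ℕ}
    (h : ∀ p < 31671, covOK w B nr tab repT p = true) {p : ℕ} (hp : p < 31671) :
    ∃ j i, i < nr ∧ xp w j p = fld repT 16 i := by
  suffices ∀ k, ∀ p, p < 31671 → fld tab 16 p = k → ∃ j i, i < nr ∧ xp w j p = fld repT 16 i from this _ p hp rfl
  intro k
  induction k using Nat.strong_induction_on with
  | _ k ih =>
    intro p hp hk
    have hh := h p hp
    rw [covOK, hk] at hh
    cases hb : Nat.beq (Nat.mod k B) 0
    · rw [hb, cond_false] at hh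
      have e := Nat.eq_of_beq_eq_true hh
      simp only [Nat.add_eq] at e
      obtain ⟨j, i, hi, hj⟩ := ih _ (by omega) (e10 w p) (e10_lt hw hp) rfl
      refine ⟨j + 1, i, hi, ?_⟩
      rw [← hj, (xp_act hw (e10_lt hw hp) j).1, (xp_act hw hp (j + 1)).1, pow_succ, act_mul _ _ hp, act_el hw hp]
    · rw [hb, cond_true, Bool.and_eq_true] at hh
      exact ⟨0, _, Nat.le_of_ble_eq_true hh.1, (Nat.eq_of_beq_eq_true hh.2).symm⟩

theorem center_bot : Subgroup.center pres.Grp = ⊥ := by
  haveI := simple
  rcases (inferInstance : (Subgroup.center pres.Grp).Normal).eq_bot_or_eq_top with h | h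
  · exact h
  · exfalso
    haveI := order.1
    letI : CommGroup pres.Grp := Group.commGroupOfCenterEqTop h
    have hp : (Nat.card pres.Grp).Prime := IsSimpleGroup.prime_card
    rw [order.2.1] at hp
    exact (by norm_num : ¬ Nat.Prime 4089470473293004800) hp

theorem fix_trivial {known : List ℕ} {ch : List (ℕ × ℕ × ℕ)} (hch : chainGen known ch = true) {g : pres.Grp}
    (hknown : ∀ k ∈ known, k < 31671 ∧ act g k = k) : g = 1 := by
  induction ch generalizing known with
  | nil =>
    simp only [chainGen, List.all_eq_true, List.any_eq_true] at hch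
    have hgen : ∀ x < 10, Commute g (pres.gen x) := by
      intro x hx
      obtain ⟨k, hk, hke⟩ := hch x (List.mem_range.mpr hx)
      have hl : ∀ y ∈ Mult.gC.getD x [], y < 10 := fun y hy =>
        lettersOK_spec Outer.genC_root.2 (by
          rw [List.getD_eq_getElem _ _ (show x < Mult.gC.length from hx)]; exact List.getElem_mem _) hy
      have h1 := isPt_root.conj (el (Mult.gC.getD x [])) (by norm_num)
      rw [← act_def (el (Mult.gC.getD x [])) (show (0 : ℕ) < rep.P.n by decide), act_el hl (by norm_num),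
        ← Nat.eq_of_beq_eq_true hke] at h1
      rw [show el (Mult.gC.getD x []) * tA * (el (Mult.gC.getD x []))⁻¹ = pres.gen x from Mult.gC_spec hx] at h1
      exact fixed_commute h1 (hknown k hk).2
    have : g ∈ Subgroup.center pres.Grp := by
      rw [Subgroup.mem_center_iff]
      intro h
      have htop : h ∈ Subgroup.centralizer ({g} : Set pres.Grp) := by
        have hle : Subgroup.closure (pres.gen '' {x | x < 10}) ≤ Subgroup.centralizer ({g} : Set pres.Grp) := by
          rw [Subgroup.closure_le]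
          rintro _ ⟨x, hx, rfl⟩
          exact Subgroup.mem_centralizer_singleton_iff.mpr (hgen x hx).symm.eq
        have ht : Subgroup.closure (pres.gen '' {x | x < 10}) = ⊤ := Pres.closure_gen pres_ok
        rw [ht] at hle
        exact hle (Subgroup.mem_top h)
      exact Subgroup.mem_centralizer_singleton_iff.mp htop
    rwa [center_bot, Subgroup.mem_bot] at this
  | cons e rest ih =>
    obtain ⟨p, a, q⟩ := e
    simp only [chainGen, Bool.and_eq_true, List.any_eq_true] at hch
    obtain ⟨⟨⟨⟨⟨a', ha, ea⟩, ⟨q', hq, eq⟩⟩, hpa⟩, he⟩, hrest⟩ := hch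
    obtain rfl := Nat.eq_of_beq_eq_true ea
    obtain rfl := Nat.eq_of_beq_eq_true eq
    refine ih hrest fun k hk => ?_
    rcases List.mem_cons.mp hk with rfl | hk
    · have hq31 := (hknown q' hq).1
      have e1 : act (dp a') q' = k := (act_el (mw_lt hpa) hq31).trans (Nat.eq_of_beq_eq_true he)
      refine ⟨e1 ▸ act_lt _ hq31, ?_⟩
      rw [← e1, ← act_mul _ _ hq31, (fixed_commute (isPt_dp hpa) (hknown a' ha).2).eq, act_mul _ _ hq31,
        (hknown q' hq).2]
    · exact hknown k hk

/-- the centralizer of an element with a cycle of unique pattern generating the group -/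
theorem cent_cyclic {w : List ℕ} (hw : ∀ x ∈ w, x < 10) {B nr tab repT c : ℕ} {pat : List (ℕ × ℕ)}
    {cyc : List ℕ} {ch : List (ℕ × ℕ × ℕ)} (hcov : ∀ p < 31671, covOK w B nr tab repT p = true)
    (hrep : ∀ i < nr, repOK w c pat repT i = true) (hc : ptOK c = true) (hpat : hasPat w pat c = true)
    (hcyc : ∀ k ∈ cyc, ∃ j, k = xp w j c) (hch : chainGen cyc ch = true) {g : pres.Grp}
    (hg : Commute g (el w)) : g ∈ Subgroup.zpowers (el w) := by
  obtain ⟨hclt, -, -⟩ := ptOK_spec hc
  obtain ⟨j, i, hi, hj⟩ := cover hw hcov (act_lt g hclt)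
  set g' := el w ^ j * g with hg'
  have hg'c : act g' c = fld repT 16 i := by
    rw [hg', act_mul _ _ hclt, ← (xp_act hw (act_lt g hclt) j).1, hj]
  have hcm : Commute g' (el w) := ((Commute.refl (el w)).pow_left j).mul_left hg
  have hr := hrep i hi
  simp only [repOK, Bool.or_eq_true, Bool.and_eq_true, Bool.not_eq_true'] at hr
  have hfix : act g' c = c := by
    rcases hr with h | ⟨hpt, hno⟩
    · rw [hg'c]; exact Nat.eq_of_beq_eq_true h
    · exfalso
      have : hasPat w pat (fld repT 16 i) = true := by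
        simp only [hasPat, List.all_eq_true] at hpat ⊢
        intro e he
        rw [← hg'c, ← act_comm hw hcm hclt, rel_act hc (hg'c ▸ hpt) (xp_act hw hclt e.1).2]
        exact hpat e he
      rw [hno] at this
      cases this
  have h1 : g' = 1 := fix_trivial hch fun k hk => by
    obtain ⟨n, rfl⟩ := hcyc k hk
    exact ⟨(xp_act hw hclt n).2, by rw [act_comm hw hcm hclt, hfix]⟩
  rw [hg', mul_eq_one_iff_eq_inv] at h1
  have : g = (el w ^ j)⁻¹ := eq_inv_of_mul_eq_one_right (mul_eq_one_iff_eq_inv.mpr h1)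
  rw [this]
  exact inv_mem (Subgroup.npow_mem_zpowers _ _)

end Cfsg.Agent.Spor.M23Rel.Cyc
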