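import Cfsg.Agent.Lib.Spor.M23RelCyc17A
import Cfsg.Agent.Lib.Spor.M23RelCyc17B
import Cfsg.Agent.Lib.Spor.M23RelCyc23A
import Cfsg.Agent.Lib.Spor.M23RelCyc23B
import Cfsg.Agent.Lib.Spor.M23RelFacts
import Cfsg.Agent.Lib.Spor.M22UPrimeCount

/-!
Normalizers of the subgroups of order seventeen and twenty-three in a group of type M(23).
-/

set_option autoImplicit false
set_option maxRecDepth 100000
set_option linter.unusedSectionVars false

namespace Cfsg.Agent.Spor.M23Rel.Cyc

open Cfsg.Agent.Spor.CC Cfsg.Agent.Spor.Fi23Cert Data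

theorem split31671 {f : ℕ → Bool} (h1 : rangeOK f 0 8000 = true) (h2 : rangeOK f 8000 8000 = true)
    (h3 : rangeOK f 16000 8000 = true) (h4 : rangeOK f 24000 7671 = true) : ∀ p < 31671, f p = true :=
  fun p hp => (((range_of_ok h1).append (range_of_ok h2)).append (range_of_ok h3)).append (range_of_ok h4)
    p (Nat.zero_le _) hp

theorem cent17 {g : pres.Grp} (hg : Commute g (el w17)) : g ∈ Subgroup.zpowers (el w17) :=
  cent_cyclic base17.2.2.1 (split31671 cov17_0 cov17_8000 cov17_16000 cov17_24000)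
    (fun i hi => all_range (p := repOK w17 c17 pat17 rep17) reps17 (Nat.zero_le _) (by omega)) base17.1 base17.2.1
    (fun k hk => by obtain ⟨j, -, rfl⟩ := List.mem_map.mp hk; exact ⟨j, rfl⟩) chain17 hg

theorem cent23 {g : pres.Grp} (hg : Commute g (el w23)) : g ∈ Subgroup.zpowers (el w23) :=
  cent_cyclic base23.2.2.1 (split31671 cov23_0 cov23_8000 cov23_16000 cov23_24000)
    (fun i hi => all_range (p := repOK w23 c23 pat23 rep23) reps23 (Nat.zero_le _) (by omega)) base23.1 base23.2.1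
    (fun k hk => by obtain ⟨j, -, rfl⟩ := List.mem_map.mp hk; exact ⟨j, rfl⟩) chain23 hg

theorem order_prime {n : ℕ} (hn : n.Prime) {w : List ℕ} {c : ℕ} (hc : c < 31671) (hw : ∀ x ∈ w, x < 10)
    (hmove : e10 w c ≠ c) (hl : lettersOK 10 [powW n w] = true)
    (hf : fixOK RepA.rows 10 [powW n w] (RepA.levels.map Orb.b) = true) : orderOf (el w) = n := by
  haveI : Fact n.Prime := ⟨hn⟩
  refine orderOf_eq_prime ?_ fun h => hmove ?_
  · rw [el, ← prod_powW]; exact Mult.word_one hl hf
  · rw [← act_el hw hc, h, act_one hc]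

theorem order17 : orderOf (el w17) = 17 :=
  order_prime (by norm_num) (ptOK_spec base17.1).1 base17.2.2.1 base17.2.2.2.1 base17.2.2.2.2.1 base17.2.2.2.2.2

theorem order23 : orderOf (el w23) = 23 :=
  order_prime (by norm_num) (ptOK_spec base23.1).1 base23.2.2.1 base23.2.2.2.1 base23.2.2.2.2.1 base23.2.2.2.2.2

variable {G : Type*} [Group G] [Finite G] {D : Set G}

/-- an isomorphism sending a given element to a given subgroup of prime order -/
theorem iso_to {p : ℕ} (hp : p.Prime) (h1 : p ∣ 4089470473293004800) (h2 : ¬ p * p ∣ 4089470473293004800)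
    (hD : Cfsg.IsThreeTranspositionGroup D) (hprim : Cfsg.IsPrimitiveUnderConj D)
    (ht : Cfsg.IsOfTypeM23 G D) {x : pres.Grp} (hx : orderOf x = p) {X : Subgroup G} (hX : Nat.card X = p) :
    ∃ e : pres.Grp ≃* G, e '' conjugatesOf Below.tA = D ∧ (Subgroup.zpowers x).map e.toMonoidHom = X := by
  haveI := order.1
  obtain ⟨e, he⟩ := Iso.iso_fi23 hD hprim ht
  have hcard : Nat.card G = 4089470473293004800 := by rw [← Nat.card_congr e.toEquiv, order.2.1]
  have hX0 : Nat.card ((Subgroup.zpowers x).map e.toMonoidHom) = p := by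
    rw [← Nat.card_congr (Subgroup.equivMapOfInjective _ e.toMonoidHom e.injective).toEquiv, Nat.card_zpowers, hx]
  obtain ⟨g, hg⟩ := M22U.PrimeCount.conj_of_card hp (hcard.symm ▸ h1) (hcard.symm ▸ h2) hX0 hX
  refine ⟨e.trans (MulAut.conj g), ?_, ?_⟩
  · ext y
    constructor
    · rintro ⟨u, hu, rfl⟩
      exact hD.2.1 g _ (by rw [← he]; exact ⟨u, hu, rfl⟩)
    · intro hy
      have hy' : g⁻¹ * y * g ∈ D := (Spor.conj_mem_iff hD.2.1 g).1 hy
      rw [← he] at hy'
      obtain ⟨u, hu, hue⟩ := hy'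
      exact ⟨u, hu, by show g * e u * g⁻¹ = y; rw [hue]; group⟩
  · rw [← hg, Subgroup.map_map]; rfl

theorem cent_map (e : pres.Grp ≃* G) (x : pres.Grp) {g : G} :
    g ∈ Subgroup.centralizer (((Subgroup.zpowers x).map e.toMonoidHom : Subgroup G) : Set G) ↔
      Commute (e.symm g) x := by
  rw [Subgroup.mem_centralizer_iff]
  constructor
  · intro h
    apply e.injective
    rw [map_mul, map_mul, e.apply_symm_apply]
    exact (h _ ⟨x, Subgroup.mem_zpowers x, rfl⟩).symm
  · rintro h _ ⟨y, hy, rfl⟩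
    obtain ⟨n, rfl⟩ := Subgroup.mem_zpowers_iff.mp hy
    have := (h.zpow_right n).map e
    rw [e.apply_symm_apply] at this
    exact this.eq.symm

theorem self_centralizing {p : ℕ} (hp : p.Prime) (h1 : p ∣ 4089470473293004800) (h2 : ¬ p * p ∣ 4089470473293004800)
    (hD : Cfsg.IsThreeTranspositionGroup D) (hprim : Cfsg.IsPrimitiveUnderConj D)
    (ht : Cfsg.IsOfTypeM23 G D) {x : pres.Grp} (hx : orderOf x = p)
    (hc : ∀ g, Commute g x → g ∈ Subgroup.zpowers x) {X : Subgroup G} (hX : Nat.card X = p) :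
    Subgroup.centralizer (X : Set G) = X := by
  obtain ⟨e, -, rfl⟩ := iso_to hp h1 h2 hD hprim ht hx hX
  ext g
  rw [cent_map]
  constructor
  · intro h
    exact ⟨_, hc _ h, e.apply_symm_apply g⟩
  · rintro ⟨y, hy, rfl⟩
    obtain ⟨n, rfl⟩ := Subgroup.mem_zpowers_iff.mp hy
    show Commute (e.symm (e _)) _
    rw [e.symm_apply_apply]
    exact (Commute.refl _).zpow_left n

theorem normalizer17 (hD : Cfsg.IsThreeTranspositionGroup D) (hprim : Cfsg.IsPrimitiveUnderConj D)
    (ht : Cfsg.IsOfTypeM23 G D) {X : Subgroup G} (hX : Nat.card X = 17) :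
    Nat.card ↥(Subgroup.normalizer (X : Set G)) = 17 * 16 ∧ Subgroup.centralizer (X : Set G) = X := by
  have hcent := self_centralizing (by norm_num : Nat.Prime 17) (by norm_num) (by norm_num) hD hprim ht order17
    (fun g => cent17) hX
  refine ⟨?_, hcent⟩
  have hcard := Facts.card_G hD hprim ht
  obtain ⟨m, n, hm, hn, h3, h4⟩ := M22U.PrimeCount.card_normalizer (by norm_num : Nat.Prime 17)
    (by rw [hcard]; norm_num) (by rw [hcard]; norm_num) hX
  rw [h3, hcent, hX]
  rw [hcent, hX, hcard] at h4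
  have hm16 : m ≤ 16 := Nat.le_of_dvd (by norm_num) hm
  interval_cases m <;> omega

theorem normalizer23 (hD : Cfsg.IsThreeTranspositionGroup D) (hprim : Cfsg.IsPrimitiveUnderConj D)
    (ht : Cfsg.IsOfTypeM23 G D) {X : Subgroup G} (hX : Nat.card X = 23) :
    Nat.card ↥(Subgroup.normalizer (X : Set G)) = 23 * 11 ∧ Subgroup.centralizer (X : Set G) = X := by
  have hcent := self_centralizing (by norm_num : Nat.Prime 23) (by norm_num) (by norm_num) hD hprim ht order23
    (fun g => cent23) hX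
  refine ⟨?_, hcent⟩
  have hcard := Facts.card_G hD hprim ht
  obtain ⟨m, n, hm, hn, h3, h4⟩ := M22U.PrimeCount.card_normalizer (by norm_num : Nat.Prime 23)
    (by rw [hcard]; norm_num) (by rw [hcard]; norm_num) hX
  rw [h3, hcent, hX]
  rw [hcent, hX, hcard] at h4
  have hm22 : m ≤ 22 := Nat.le_of_dvd (by norm_num) hm
  interval_cases m <;> omega

end Cfsg.Agent.Spor.M23Rel.Cyc
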