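import Cfsg.Agent.Lib.Spor.M23RelCycDefs

/-!
Numbers of points fixed by four elements of order three of Fi23 (definitions).
-/

set_option autoImplicit false
set_option maxRecDepth 100000

namespace Cfsg.Agent.Spor.M23Rel.ThreeFix

open Cfsg.Agent.Spor.CC Cfsg.Agent.Spor.Fi23Cert Cfsg.Agent.Spor.M23Rel.Cyc

/-- the words -/
def sw3 : List (List ℕ) := [[2, 1], [8, 3, 1, 0], [8, 9, 4, 2, 1, 3, 8, 9, 4, 2, 1, 3, 8, 9, 4, 2, 1, 3, 8, 9, 4, 2, 1, 3], [5, 1, 8, 0, 3, 6]]

/-- fixed points in a range -/
noncomputable def fixCount (i lo n : ℕ) : ℕ :=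
  (List.range' lo n).countP fun p => Nat.beq (e10 (sw3.getD i []) p) p

theorem fixCount_split (i lo a b : ℕ) : fixCount i lo (a + b) = fixCount i lo a + fixCount i (lo + a) b := by
  simp only [fixCount, ← List.range'_append_1, List.countP_append]

theorem fixCount_eight (i : ℕ) : fixCount i 0 31671 = fixCount i 0 4000 + fixCount i 4000 4000 +
    fixCount i 8000 4000 + fixCount i 12000 4000 + fixCount i 16000 4000 + fixCount i 20000 4000 +
    fixCount i 24000 4000 + fixCount i 28000 3671 := by
  rw [show (31671 : ℕ) = 4000 + 4000 + 4000 + 4000 + 4000 + 4000 + 4000 + 3671 from rfl, fixCount_split,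
    fixCount_split, fixCount_split, fixCount_split, fixCount_split, fixCount_split, fixCount_split]

/-- the trivial cube on a set of detecting points -/
noncomputable def cubeTriv (i : ℕ) : Bool :=
  fixOK RepA.rows 10 [powW 3 (sw3.getD i [])] (RepA.levels.map Orb.b)

end Cfsg.Agent.Spor.M23Rel.ThreeFix
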