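import Cfsg.Agent.Lib.Spor.M23RelFix13
import Cfsg.Agent.Lib.Spor.M23RelFix11
import Cfsg.Agent.Lib.Spor.M23RelCycMain
import Cfsg.Agent.Lib.Spor.M23RelShift
import Cfsg.Agent.Lib.Spor.M22UPrimes
import Cfsg.Agent.Lib.Spor.M22UPairGen
import Cfsg.Agent.Lib.JComp.SymFour

/-!
Normalizers of the subgroups of order thirteen and eleven in a group of type M(23).
-/

set_option autoImplicit false
set_option maxRecDepth 100000
set_option linter.unusedSectionVars false

namespace Cfsg.Agent.Spor.M23Rel.Cyc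

open Cfsg.Agent.Spor.CC Cfsg.Agent.Spor.Fi23Cert Data
open Cfsg.Agent.Spor.M22U (nset)
open Cfsg.Agent.Spor.Fi23Cert.Outer (IsPt)

theorem mem_fixed {w : List ℕ} (hw : ∀ x ∈ w, x < 10) {B nr tab repT : ℕ} {fx : List ℕ}
    (hcov : ∀ p < 31671, covOK w B nr tab repT p = true)
    (hmov : ∀ i < nr, (!(Nat.beq (e10 w (fld repT 16 i)) (fld repT 16 i)) ||
      fx.any fun f => Nat.beq f (fld repT 16 i)) = true)
    {p : ℕ} (hp : p < 31671) (hfix : e10 w p = p) : p ∈ fx := by
  obtain ⟨j, i, hi, hj⟩ := cover hw hcov hp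
  have hxp : ∀ j, xp w j p = p := fun j => by
    induction j with
    | zero => rfl
    | succ j ih => show e10 w (xp w j p) = p; rw [ih, hfix]
  rw [hxp] at hj
  have h := hmov i hi
  rw [← hj, hfix, Nat.beq_refl, Bool.not_true, Bool.false_or, List.any_eq_true] at h
  obtain ⟨f, hf, hfp⟩ := h
  exact Nat.eq_of_beq_eq_true hfp ▸ hf

variable {G : Type*} [Group G] [Finite G] {D : Set G}

/-- the members commuting with the element -/
theorem members_fixed {w : List ℕ} (hw : ∀ x ∈ w, x < 10) {fx : List ℕ}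
    (hfx : (fx.all fun f => ptOK f && Nat.beq (e10 w f) f) = true)
    (honly : ∀ p < 31671, e10 w p = p → p ∈ fx)
    {u : pres.Grp} (hu : u ∈ conjugatesOf Below.tA) :
    Commute u (el w) ↔ ∃ f ∈ fx, u = dp f := by
  simp only [List.all_eq_true, Bool.and_eq_true] at hfx
  constructor
  · intro h
    obtain ⟨p, hp⟩ := Outer.exists_pt hu
    have h1 := fix_of_commute hp h.symm
    rw [act_el hw hp.lt] at h1
    have hm := honly p hp.lt h1
    exact ⟨p, hm, hp.inj (isPt_dp (hfx p hm).1)⟩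
  · rintro ⟨f, hf, rfl⟩
    obtain ⟨hpt, he⟩ := hfx f hf
    refine (fixed_commute (isPt_dp hpt) ?_).symm
    rw [act_el hw (ptOK_spec hpt).1]
    exact Nat.eq_of_beq_eq_true he

theorem dp_class {p : ℕ} (hp : ptOK p = true) : dp p ∈ conjugatesOf Below.tA := by
  obtain ⟨g, e, -⟩ := isPt_dp hp
  exact isConj_iff.mpr ⟨g, e.symm⟩

theorem members13 {u : pres.Grp} (hu : u ∈ conjugatesOf Below.tA) :
    Commute u (el w13) ↔ ∃ f ∈ fx13, u = dp f :=
  members_fixed fxok13.1 fxok13.2.1 (fun p hp => mem_fixed fxok13.1 (split31671 cov13_0 cov13_8000 cov13_16000 cov13_24000)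
    (fun i hi => all_range (p := mov13) moved13 (Nat.zero_le _) (by omega)) hp) hu

theorem members11 {u : pres.Grp} (hu : u ∈ conjugatesOf Below.tA) :
    Commute u (el w11) ↔ ∃ f ∈ fx11, u = dp f :=
  members_fixed fxok11.1 fxok11.2.1 (fun p hp => mem_fixed fxok11.1 (split31671 cov11_0 cov11_8000 cov11_16000 cov11_24000)
    (fun i hi => all_range (p := mov11) moved11 (Nat.zero_le _) (by omega)) hp) hu

theorem order13 : orderOf (el w13) = 13 :=
  order_prime (by norm_num) (by norm_num : (0 : ℕ) < 31671) fxok13.1 fxok13.2.2.1 fxok13.2.2.2.1 fxok13.2.2.2.2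

theorem order11 : orderOf (el w11) = 11 :=
  order_prime (by norm_num) (by norm_num : (0 : ℕ) < 31671) fxok11.1 fxok11.2.2.1 fxok11.2.2.2.1 fxok11.2.2.2.2

theorem conj_dp {p q r : ℕ} (hp : ptOK p = true) (hq : ptOK q = true) (hr : ptOK r = true)
    (h : e10 (mw p) q = r) : dp p * dp q * (dp p)⁻¹ = dp r := by
  have hlt := (ptOK_spec hq).1
  have h1 := (isPt_dp hq).conj (dp p) hlt
  rw [← act_def (dp p) hlt, dp, act_el (mw_lt hp) hlt, h] at h1
  exact h1.inj (isPt_dp hr)

theorem dp_inj {p q : ℕ} (hp : ptOK p = true) (hq : ptOK q = true) (h : dp p = dp q) : p = q :=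
  (h ▸ isPt_dp hp : IsPt (dp q) p).unique (isPt_dp hq)

variable {d : G}

/-- elements of the centralizer of a member and of a subgroup of order prime to two -/
theorem near_cent (S : Fix.Setting D d) {X : Subgroup G} {p : ℕ} (hp : p ≠ 2) (hp' : p.Prime)
    (hX : Nat.card X = p) (hXd : X ≤ Subgroup.closure (nset D d)) :
    Nat.card ↥((X.subgroupOf (Subgroup.closure (nset D d))).map
      (QuotientGroup.mk' (Subgroup.center ↥(Subgroup.closure (nset D d))))) = p := by
  set f := (QuotientGroup.mk' (Subgroup.center ↥(Subgroup.closure (nset D d)))).subgroupMap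
    (X.subgroupOf (Subgroup.closure (nset D d)))
  have hsurj : Function.Surjective f := MonoidHom.subgroupMap_surjective _ _
  have hcard : Nat.card ↥(X.subgroupOf (Subgroup.closure (nset D d))) = p := by
    rw [Nat.card_congr (Subgroup.subgroupOfEquivOfLe hXd).toEquiv, hX]
  have hdvd := Subgroup.card_dvd_of_surjective f hsurj
  rw [hcard] at hdvd
  refine ((Nat.dvd_prime hp').mp hdvd).resolve_left fun h1 => ?_
  obtain ⟨x, hx1⟩ : ∃ x : X, x ≠ 1 := by
    haveI : Nontrivial X := Finite.one_lt_card_iff_nontrivial.mp (hX.symm ▸ hp'.one_lt)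
    exact exists_ne 1
  haveI := (Nat.card_eq_one_iff_unique.mp h1).1
  have hz : (QuotientGroup.mk ⟨(x : G), hXd x.2⟩ : ↥(Subgroup.closure (nset D d)) ⧸ _) = 1 :=
    congrArg Subtype.val (Subsingleton.elim (f ⟨⟨(x : G), hXd x.2⟩, x.2⟩) 1)
  rcases S.central_cases hz with h | h
  · exact hx1 (Subtype.ext h)
  · have ho : orderOf (x : G) = 2 := by
      rw [show (x : G) = d from h]; exact S.hD.1.1 d S.mem
    have := orderOf_dvd_natCard x
    rw [hX, ← Subgroup.orderOf_coe, ho] at this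
    exact hp ((Nat.dvd_prime hp').mp this |>.resolve_left (by norm_num)).symm

theorem cent_image (S : Fix.Setting D d) {X : Subgroup G} (hXd : X ≤ Subgroup.closure (nset D d))
    {g : G} (hgd : Commute g d) (hgX : g ∈ Subgroup.centralizer (X : Set G)) :
    (QuotientGroup.mk ⟨g, Cent.cent_le S hgd⟩ : ↥(Subgroup.closure (nset D d)) ⧸ _) ∈
      Subgroup.centralizer (((X.subgroupOf (Subgroup.closure (nset D d))).map
        (QuotientGroup.mk' (Subgroup.center ↥(Subgroup.closure (nset D d))))) :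
          Set (↥(Subgroup.closure (nset D d)) ⧸ Subgroup.center ↥(Subgroup.closure (nset D d)))) := by
  rw [Subgroup.mem_centralizer_iff]
  rintro _ ⟨y, hy, rfl⟩
  rw [QuotientGroup.mk'_apply, ← QuotientGroup.mk_mul, ← QuotientGroup.mk_mul]
  exact congrArg QuotientGroup.mk (Subtype.ext (Subgroup.mem_centralizer_iff.mp hgX _ hy))

theorem le_of_commute (S : Fix.Setting D d) {X : Subgroup G} (h : d ∈ Subgroup.centralizer (X : Set G)) :
    X ≤ Subgroup.closure (nset D d) := fun x hx =>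
  Cent.cent_le S (Subgroup.mem_centralizer_iff.mp h x hx)

/-- conjugates of a member commuting with a subgroup by elements normalising it -/
theorem norm_conj {X : Subgroup G} {g : G} (hg : g ∈ Subgroup.normalizer (X : Set G)) {u : G}
    (hu : u ∈ Subgroup.centralizer (X : Set G)) : g * u * g⁻¹ ∈ Subgroup.centralizer (X : Set G) := by
  rw [Subgroup.mem_centralizer_iff] at hu ⊢
  intro h hh
  have := hu _ ((Subgroup.mem_normalizer_iff''.mp hg h).mp hh)
  calc h * (g * u * g⁻¹) = g * ((g⁻¹ * h * g) * u) * g⁻¹ := by group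
    _ = g * (u * (g⁻¹ * h * g)) * g⁻¹ := by rw [this]
    _ = g * u * g⁻¹ * h := by group

theorem cent_le_norm (X : Subgroup G) : Subgroup.centralizer (X : Set G) ≤ Subgroup.normalizer (X : Set G) :=
  fun g hg => Subgroup.mem_normalizer_iff.mpr fun h => by
    rw [Subgroup.mem_centralizer_iff] at hg
    constructor
    · intro hh
      rwa [← hg h hh, mul_inv_cancel_right]
    · intro hh
      have h' := hg _ hh
      have e : h = g * h * g⁻¹ := by
        calc h = g⁻¹ * ((g * h * g⁻¹) * g) := by group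
          _ = g⁻¹ * (g * (g * h * g⁻¹)) := by rw [h']
          _ = g * h * g⁻¹ := by group
      rw [e]; exact hh

theorem le_cent_self {X : Subgroup G} {p : ℕ} [Fact p.Prime] (hX : Nat.card X = p) :
    X ≤ Subgroup.centralizer (X : Set G) := fun x hx => Subgroup.mem_centralizer_iff.mpr fun y hy => by
  haveI := isCyclic_of_prime_card hX
  obtain ⟨z, hz⟩ := IsCyclic.exists_generator (α := X)
  obtain ⟨m, hm⟩ := Subgroup.mem_zpowers_iff.mp (hz ⟨x, hx⟩)
  obtain ⟨n, hn⟩ := Subgroup.mem_zpowers_iff.mp (hz ⟨y, hy⟩)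
  have := ((Commute.refl z).zpow_zpow n m)
  rw [hm, hn] at this
  exact congrArg Subtype.val this.eq

theorem normalizer13 (hD : Cfsg.IsThreeTranspositionGroup D) (hprim : Cfsg.IsPrimitiveUnderConj D)
    (ht : Cfsg.IsOfTypeM23 G D) {X : Subgroup G} (hX : Nat.card X = 13) :
    ∃ F : Subgroup G, Nat.card ↥F = 78 ∧ X ≤ F ∧ F ⊓ Subgroup.centralizer (X : Set G) = X ∧
      F ⊓ Subgroup.closure (D ∩ (Subgroup.centralizer (X : Set G) : Set G)) = ⊥ ∧
      (∀ x ∈ F, ∀ y ∈ Subgroup.closure (D ∩ (Subgroup.centralizer (X : Set G) : Set G)), x * y = y * x) ∧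
      F ⊔ Subgroup.closure (D ∩ (Subgroup.centralizer (X : Set G) : Set G)) = Subgroup.normalizer (X : Set G) ∧
      Nonempty (↥(Subgroup.closure (D ∩ (Subgroup.centralizer (X : Set G) : Set G))) ≃* Equiv.Perm (Fin 3)) := by
  haveI : Fact (Nat.Prime 13) := ⟨by norm_num⟩
  obtain ⟨e, he, hXe⟩ := iso_to (by norm_num : Nat.Prime 13) (by norm_num) (by norm_num) hD hprim ht order13 hX
  obtain ⟨hp0, hp1, hp2⟩ : ptOK (fx13.getD 0 0) = true ∧ ptOK (fx13.getD 1 0) = true ∧ ptOK (fx13.getD 2 0) = true := by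
    have := fxok13.2.1
    simp only [fx13, List.all_cons, List.all_nil, Bool.and_true, Bool.and_eq_true] at this
    exact ⟨this.1.1, this.2.1.1, this.2.2.1⟩
  set a := e (dp (fx13.getD 0 0)) with ha
  set b := e (dp (fx13.getD 1 0)) with hb
  set c := e (dp (fx13.getD 2 0)) with hc
  set C := Subgroup.centralizer (X : Set G)
  have hmem : ∀ u, u ∈ D ∩ (C : Set G) ↔ u = a ∨ u = b ∨ u = c := by
    intro u
    constructor
    · rintro ⟨huD, huC⟩
      rw [← he] at huD
      obtain ⟨v, hv, rfl⟩ := huD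
      have huC' : e v ∈ Subgroup.centralizer (((Subgroup.zpowers (el w13)).map e.toMonoidHom : Subgroup G) : Set G) := by
        rw [hXe]; exact huC
      rw [cent_map, e.symm_apply_apply, members13 hv] at huC'
      obtain ⟨f, hf, rfl⟩ := huC'
      simp only [fx13, List.mem_cons, List.not_mem_nil, or_false] at hf
      rcases hf with rfl | rfl | rfl
      exacts [Or.inl rfl, Or.inr (Or.inl rfl), Or.inr (Or.inr rfl)]
    · intro hu
      obtain ⟨f, hf, hfp, rfl⟩ : ∃ f, f ∈ fx13 ∧ ptOK f = true ∧ u = e (dp f) := by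
        rcases hu with rfl | rfl | rfl
        exacts [⟨_, by simp [fx13], hp0, rfl⟩, ⟨_, by simp [fx13], hp1, rfl⟩, ⟨_, by simp [fx13], hp2, rfl⟩]
      refine ⟨by rw [← he]; exact ⟨_, dp_class hfp, rfl⟩, ?_⟩
      show e (dp f) ∈ Subgroup.centralizer (X : Set G)
      rw [← hXe, cent_map, e.symm_apply_apply, members13 (dp_class hfp)]
      exact ⟨f, hf, rfl⟩
  obtain ⟨haD, haC⟩ := (hmem a).mpr (Or.inl rfl)
  obtain ⟨hbD, hbC⟩ := (hmem b).mpr (Or.inr (Or.inl rfl))
  have habc : a * b * a⁻¹ = c := by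
    rw [ha, hb, hc, ← map_inv, ← map_mul, ← map_mul]
    exact congrArg e (conj_dp hp0 hp1 hp2 act13.1)
  have hnc : ¬ Commute a b := fun h => by
    rw [h.eq, mul_inv_cancel_right, hb, hc] at habc
    exact act13.2 (dp_inj hp1 hp2 (e.injective habc))
  have hBr : PairGen.Braid a b := ⟨Spor.mul_self_of_order_two (hD.1.1 a haD),
    Spor.mul_self_of_order_two (hD.1.1 b hbD), (Spor.commute_or_braid hD.1 haD hbD).resolve_left hnc, hnc⟩
  set S := Subgroup.closure (D ∩ (C : Set G))
  have hS : S = Subgroup.closure ({a, b} : Set G) := by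
    apply le_antisymm
    · rw [Subgroup.closure_le]
      intro u hu
      have h1 : a ∈ Subgroup.closure ({a, b} : Set G) := Subgroup.subset_closure (by simp)
      have h2 : b ∈ Subgroup.closure ({a, b} : Set G) := Subgroup.subset_closure (by simp)
      rcases (hmem u).mp hu with rfl | rfl | rfl
      exacts [h1, h2, habc ▸ mul_mem (mul_mem h1 h2) (inv_mem h1)]
    · rw [Subgroup.closure_le]
      rintro u (rfl | rfl)
      exacts [Subgroup.subset_closure ((hmem _).mpr (Or.inl rfl)),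
        Subgroup.subset_closure ((hmem _).mpr (Or.inr (Or.inl rfl)))]
  obtain ⟨φ⟩ := PairGen.equiv_perm hBr S hS
  have hScard : Nat.card S = 6 := by
    rw [Nat.card_congr φ.toEquiv, Nat.card_perm, Nat.card_fin]; rfl
  have hSC : S ≤ C := (Subgroup.closure_le _).mpr Set.inter_subset_right
  have haS : a ∈ S := hS ▸ Subgroup.subset_closure (by simp)
  have hbS : b ∈ S := hS ▸ Subgroup.subset_closure (by simp)
  have hcS : c ∈ S := habc ▸ mul_mem (mul_mem haS hbS) (inv_mem haS)
  have hperm : ∀ g ∈ Subgroup.normalizer (X : Set G), ∀ u ∈ D ∩ (C : Set G), g * u * g⁻¹ ∈ D ∩ (C : Set G) :=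
    fun g hg u hu => ⟨hD.2.1 g u hu.1, norm_conj hg hu.2⟩
  have hcba : c * b * c⁻¹ = a := by
    have hbab : b * a * b = a * b * a := hBr.br.symm
    rw [← habc, inv_eq_of_mul_eq_one_right hBr.aa]
    rw [inv_eq_of_mul_eq_one_right (show (a * b * a) * (a * b * a) = 1 by
      calc a * b * a * (a * b * a) = a * b * (a * a) * b * a := by simp only [mul_assoc]
        _ = 1 := by rw [hBr.aa, mul_one, mul_assoc a b b, hBr.dd, mul_one, hBr.aa])]
    calc a * b * a * b * (a * b * a) = (a * b * a) * (b * a * b) * a := by simp only [mul_assoc]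
      _ = (a * b * a) * (a * b * a) * a := by rw [hbab]
      _ = a := by
        rw [show a * b * a * (a * b * a) = a * b * (a * a) * b * a by simp only [mul_assoc], hBr.aa, mul_one,
          mul_assoc a b b, hBr.dd, mul_one, hBr.aa, one_mul]
  have hbca : b * c * b⁻¹ = a := by
    rw [← habc, inv_eq_of_mul_eq_one_right hBr.aa, inv_eq_of_mul_eq_one_right hBr.dd]
    calc b * (a * b * a) * b = (b * a * b) * (a * b) := by simp only [mul_assoc]
      _ = (a * b * a) * (a * b) := by rw [hBr.br]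
      _ = a := by
        rw [show a * b * a * (a * b) = a * b * (a * a) * b by simp only [mul_assoc], hBr.aa, mul_one, mul_assoc,
          hBr.dd, mul_one]
  set Sa := Shift.setting_of hD hprim ht haD
  have hXa : X ≤ Subgroup.closure (nset D a) := le_of_commute Sa haC
  have hCeq : C = X ⊔ S := by
    refine le_antisymm (fun g hg => ?_) (sup_le (le_cent_self hX) hSC)
    obtain ⟨s, hs, hsa⟩ : ∃ s ∈ S, s * (g * a * g⁻¹) * s⁻¹ = a := by
      rcases (hmem _).mp (hperm g (cent_le_norm X hg) a ⟨haD, haC⟩) with h | h | h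
      · exact ⟨1, one_mem _, by rw [h]; group⟩
      · exact ⟨c, hcS, by rw [h]; exact hcba⟩
      · exact ⟨b, hbS, by rw [h]; exact hbca⟩
    have hga : Commute (s * g) a := by
      refine mul_inv_eq_iff_eq_mul.mp ?_
      calc (s * g) * a * (s * g)⁻¹ = s * (g * a * g⁻¹) * s⁻¹ := by group
        _ = a := hsa
    have hgC : s * g ∈ C := mul_mem (hSC hs) hg
    have h1 := cent_image Sa hXa hga hgC
    rw [(M22U.Primes.normalizer13 Sa.group Sa.next_prim Sa.next
      (near_cent Sa (by norm_num) (by norm_num) hX hXa)).2] at h1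
    obtain ⟨⟨x, hxH⟩, hx, hxe⟩ := h1
    have hgoal : s * g ∈ X ⊔ S := by
      have h2 : (QuotientGroup.mk ((⟨x, hxH⟩ : ↥(Subgroup.closure (nset D a)))⁻¹ * ⟨s * g, Cent.cent_le Sa hga⟩) :
          ↥(Subgroup.closure (nset D a)) ⧸ Subgroup.center ↥(Subgroup.closure (nset D a))) = 1 := by
        rw [QuotientGroup.mk_mul, QuotientGroup.mk_inv, inv_mul_eq_one]; exact hxe
      rcases Sa.central_cases h2 with h | h
      · have : s * g = x := (inv_mul_eq_one.mp h).symm
        rw [this]; exact Subgroup.mem_sup_left hx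
      · have : s * g = x * a := inv_mul_eq_iff_eq_mul.mp h
        rw [this]; exact mul_mem (Subgroup.mem_sup_left hx) (Subgroup.mem_sup_right haS)
    have := mul_mem (inv_mem (Subgroup.mem_sup_right hs : s ∈ X ⊔ S)) hgoal
    rwa [inv_mul_cancel_left] at this
  have hdis : X ⊓ S = ⊥ := Subgroup.eq_bot_of_card_le _ (Nat.le_of_dvd (by norm_num) (by
    have h1 := Subgroup.card_dvd_of_le (inf_le_left : X ⊓ S ≤ X)
    have h2 := Subgroup.card_dvd_of_le (inf_le_right : X ⊓ S ≤ S)
    rw [hX] at h1; rw [hScard] at h2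
    exact Nat.dvd_gcd h1 h2))
  have hCcard : Nat.card C = 78 := by
    rw [hCeq, JComp.card_sup_disjoint (hSC.trans (cent_le_norm X)) hdis, hX, hScard]
  have hN : Nat.card ↥(Subgroup.normalizer (X : Set G)) = 468 := by
    have hcard := Facts.card_G hD hprim ht
    obtain ⟨m, n, hm, hn, h3, h4⟩ := M22U.PrimeCount.card_normalizer (by norm_num : Nat.Prime 13)
      (by rw [hcard]; norm_num) (by rw [hcard]; norm_num) hX
    rw [h3, hCcard]
    rw [hCcard, hcard] at h4
    have hm12 : m ≤ 12 := Nat.le_of_dvd (by norm_num) hm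
    interval_cases m <;> omega
  set N := Subgroup.normalizer (X : Set G)
  set F := N ⊓ Subgroup.centralizer ({a, b} : Set G)
  have hFcomm : ∀ x ∈ F, ∀ y ∈ S, x * y = y * x := by
    intro x hx y hy
    have hle : S ≤ Subgroup.centralizer ({x} : Set G) := by
      rw [hS, Subgroup.closure_le]
      intro z hz
      exact Subgroup.mem_centralizer_singleton_iff.mpr (Subgroup.mem_centralizer_iff.mp hx.2 z hz)
    exact (Subgroup.mem_centralizer_singleton_iff.mp (hle hy)).symm
  have hFS : F ⊓ S = ⊥ := by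
    rw [Subgroup.eq_bot_iff_forall]
    intro x hx
    exact PairGen.central_trivial hBr (hS ▸ hx.2) (hFcomm x hx.1 a haS) (hFcomm x hx.1 b hbS)
  have hSN : S ≤ N := hSC.trans (cent_le_norm X)
  have hsup : F ⊔ S = N := by
    refine le_antisymm (sup_le inf_le_left hSN) fun g hg => ?_
    obtain ⟨s, hs, hsa⟩ : ∃ s ∈ S, s * (g * a * g⁻¹) * s⁻¹ = a := by
      rcases (hmem _).mp (hperm g hg a ⟨haD, haC⟩) with h | h | h
      · exact ⟨1, one_mem _, by rw [h]; group⟩
      · exact ⟨c, hcS, by rw [h]; exact hcba⟩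
      · exact ⟨b, hbS, by rw [h]; exact hbca⟩
    have hsgN : s * g ∈ N := mul_mem (hSN hs) hg
    have hsga : (s * g) * a * (s * g)⁻¹ = a := by
      calc (s * g) * a * (s * g)⁻¹ = s * (g * a * g⁻¹) * s⁻¹ := by group
        _ = a := hsa
    suffices key : ∃ t ∈ S, t * (s * g) ∈ F by
      obtain ⟨t, ht, htF⟩ := key
      have : g = (t * s)⁻¹ * (t * (s * g)) := by group
      rw [this]
      exact mul_mem (Subgroup.mem_sup_right (inv_mem (mul_mem ht hs))) (Subgroup.mem_sup_left htF)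
    have inF : ∀ z ∈ N, z * a * z⁻¹ = a → z * b * z⁻¹ = b → z ∈ F := fun z hz h h' => by
      refine ⟨hz, Subgroup.mem_centralizer_iff.mpr ?_⟩
      rintro u (rfl | rfl)
      exacts [(mul_inv_eq_iff_eq_mul.mp h).symm, (mul_inv_eq_iff_eq_mul.mp h').symm]
    rcases (hmem _).mp (hperm (s * g) hsgN b ⟨hbD, hbC⟩) with h | h | h
    · exfalso
      exact hnc ((mul_left_cancel (mul_right_cancel (h.trans hsga.symm))) ▸ Commute.refl _)
    · exact ⟨1, one_mem _, inF _ (by rw [one_mul]; exact hsgN) (by rw [one_mul]; exact hsga) (by rw [one_mul]; exact h)⟩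
    · refine ⟨a, haS, inF _ (mul_mem (hSN haS) hsgN) ?_ ?_⟩
      · calc a * (s * g) * a * (a * (s * g))⁻¹ = a * ((s * g) * a * (s * g)⁻¹) * a⁻¹ := by group
          _ = a := by rw [hsga, mul_inv_cancel_right]
      · calc a * (s * g) * b * (a * (s * g))⁻¹ = a * ((s * g) * b * (s * g)⁻¹) * a⁻¹ := by group
          _ = b := by
            rw [h, ← habc, inv_eq_of_mul_eq_one_right hBr.aa]
            rw [show a * (a * b * a) * a = (a * a) * b * (a * a) by simp only [mul_assoc], hBr.aa, one_mul, mul_one]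
  have hSnF : S ≤ Subgroup.normalizer (F : Set G) := fun s hs => by
    rw [Subgroup.mem_normalizer_iff]
    intro h
    constructor
    · intro hh
      rwa [show s * h * s⁻¹ = h by rw [← hFcomm h hh s hs, mul_inv_cancel_right]]
    · intro hh
      have := hFcomm _ hh s hs
      have e' : h = s * h * s⁻¹ := by
        calc h = s⁻¹ * ((s * h * s⁻¹) * s) := by group
          _ = s⁻¹ * (s * (s * h * s⁻¹)) := by rw [this]
          _ = s * h * s⁻¹ := by group
      rw [e']; exact hh
  have hFcard : Nat.card F = 78 := by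
    have h := JComp.card_sup_disjoint hSnF hFS
    rw [hsup, hN, hScard] at h
    omega
  have hXF : X ≤ F := fun x hx => ⟨Subgroup.le_normalizer hx, Subgroup.mem_centralizer_iff.mpr (by
    rintro u (rfl | rfl)
    · exact (Subgroup.mem_centralizer_iff.mp haC x hx).symm
    · exact (Subgroup.mem_centralizer_iff.mp hbC x hx).symm)⟩
  refine ⟨F, hFcard, hXF, le_antisymm ?_ (le_inf hXF (le_cent_self hX)), hFS, hFcomm, hsup, ⟨φ⟩⟩
  intro g hg
  have hgC : g ∈ X ⊔ S := hCeq ▸ hg.2
  obtain ⟨x, hx, s, hs, rfl⟩ := (JComp.mem_sup_iff_mul (hSC.trans (cent_le_norm X))).1 hgC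
  have hsF : s ∈ F := by
    have := mul_mem (inv_mem (hXF hx)) hg.1
    rwa [inv_mul_cancel_left] at this
  rw [show s = 1 from Subgroup.mem_bot.mp (hFS ▸ Subgroup.mem_inf.mpr ⟨hsF, hs⟩), mul_one]
  exact hx

theorem normalizer11 (hD : Cfsg.IsThreeTranspositionGroup D) (hprim : Cfsg.IsPrimitiveUnderConj D)
    (ht : Cfsg.IsOfTypeM23 G D) {X : Subgroup G} (hX : Nat.card X = 11) :
    ∃ d b : G, d ∈ D ∧ b ∈ D ∧ d ≠ b ∧ (D ∩ (Subgroup.centralizer (X : Set G) : Set G)) = {d, b} ∧
      ∃ F : Subgroup G, Nat.card ↥F = 55 ∧ X ≤ F ∧ F ⊓ Subgroup.centralizer (X : Set G) = X ∧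
        F ⊓ Subgroup.closure ({d, b} : Set G) = ⊥ ∧ (∀ x ∈ F, ∀ y ∈ Subgroup.closure ({d, b} : Set G), x * y = y * x) ∧
        F ⊔ Subgroup.closure ({d, b} : Set G) =
          (Subgroup.normalizer (X : Set G) ⊓ Subgroup.centralizer ({d} : Set G)) ∧
        ((Subgroup.normalizer (X : Set G) ⊓ Subgroup.centralizer ({d} : Set G)).subgroupOf
          (Subgroup.normalizer (X : Set G))).index = 2 := by
  haveI : Fact (Nat.Prime 11) := ⟨by norm_num⟩
  obtain ⟨e, he, hXe⟩ := iso_to (by norm_num : Nat.Prime 11) (by norm_num) (by norm_num) hD hprim ht order11 hX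
  obtain ⟨hp0, hp1⟩ : ptOK (fx11.getD 0 0) = true ∧ ptOK (fx11.getD 1 0) = true := by
    have := fxok11.2.1
    simp only [fx11, List.all_cons, List.all_nil, Bool.and_true, Bool.and_eq_true] at this
    exact ⟨this.1.1, this.2.1⟩
  set d := e (dp (fx11.getD 0 0)) with hd
  set b := e (dp (fx11.getD 1 0)) with hb
  set C := Subgroup.centralizer (X : Set G)
  have hmem : ∀ u, u ∈ D ∩ (C : Set G) ↔ u = d ∨ u = b := by
    intro u
    constructor
    · rintro ⟨huD, huC⟩
      rw [← he] at huD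
      obtain ⟨v, hv, rfl⟩ := huD
      have huC' : e v ∈ Subgroup.centralizer (((Subgroup.zpowers (el w11)).map e.toMonoidHom : Subgroup G) : Set G) := by
        rw [hXe]; exact huC
      rw [cent_map, e.symm_apply_apply, members11 hv] at huC'
      obtain ⟨f, hf, rfl⟩ := huC'
      simp only [fx11, List.mem_cons, List.not_mem_nil, or_false] at hf
      rcases hf with rfl | rfl
      exacts [Or.inl rfl, Or.inr rfl]
    · intro hu
      obtain ⟨f, hf, hfp, rfl⟩ : ∃ f, f ∈ fx11 ∧ ptOK f = true ∧ u = e (dp f) := by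
        rcases hu with rfl | rfl
        exacts [⟨_, by simp [fx11], hp0, rfl⟩, ⟨_, by simp [fx11], hp1, rfl⟩]
      refine ⟨by rw [← he]; exact ⟨_, dp_class hfp, rfl⟩, ?_⟩
      show e (dp f) ∈ Subgroup.centralizer (X : Set G)
      rw [← hXe, cent_map, e.symm_apply_apply, members11 (dp_class hfp)]
      exact ⟨f, hf, rfl⟩
  obtain ⟨hdD, hdC⟩ := (hmem d).mpr (Or.inl rfl)
  obtain ⟨hbD, hbC⟩ := (hmem b).mpr (Or.inr rfl)
  have hne : d ≠ b := fun h => act11.2 (dp_inj hp0 hp1 (e.injective h))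
  have hdb : Commute d b := by
    refine Commute.map (?_ : Commute (dp (fx11.getD 0 0)) (dp (fx11.getD 1 0))) e.toMonoidHom
    exact mul_inv_eq_iff_eq_mul.mp (conj_dp hp0 hp1 hp1 act11.1)
  set V := Subgroup.closure ({d, b} : Set G)
  set S := Shift.setting_of hD hprim ht hdD
  have hXd : X ≤ Subgroup.closure (nset D d) := le_of_commute S hdC
  set N := Subgroup.normalizer (X : Set G)
  set Nd := N ⊓ Subgroup.centralizer ({d} : Set G)
  -- the image in the next level
  set H := Subgroup.closure (nset D d)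
  set Xb := (X.subgroupOf H).map (QuotientGroup.mk' (Subgroup.center ↥H))
  have hXb : Nat.card Xb = 11 := near_cent S (by norm_num) (by norm_num) hX hXd
  obtain ⟨F0, d', hd'D, hF0, hXF0, hF0C, hF0d, hF0c, hF0sup⟩ :=
    M22U.Primes.normalizer11 S.group S.next_prim S.next hXb
  have hd'o : orderOf d' = 2 := S.group.1.1 d' hd'D
  have hN0 : Nat.card ↥(Subgroup.normalizer (Xb : Set (↥H ⧸ Subgroup.center ↥H))) = 110 := by
    rw [← hF0sup, JComp.card_sup_disjoint ?_ hF0d, hF0, Nat.card_zpowers, hd'o]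
    intro s hs
    rw [Subgroup.mem_normalizer_iff]
    intro h
    constructor
    · intro hh
      rwa [show s * h * s⁻¹ = h by rw [← hF0c h hh s hs, mul_inv_cancel_right]]
    · intro hh
      have := hF0c _ hh s hs
      have e' : h = s * h * s⁻¹ := by
        calc h = s⁻¹ * ((s * h * s⁻¹) * s) := by group
          _ = s⁻¹ * (s * (s * h * s⁻¹)) := by rw [this]
          _ = s * h * s⁻¹ := by group
      rw [e']; exact hh
  have hC0 : Subgroup.centralizer (Xb : Set (↥H ⧸ Subgroup.center ↥H)) ≤ Xb ⊔ Subgroup.zpowers d' := by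
    intro g hg
    have hgN : g ∈ F0 ⊔ Subgroup.zpowers d' := hF0sup ▸ cent_le_norm Xb hg
    obtain ⟨f, hf, t, ht', rfl⟩ := (JComp.mem_sup_iff_mul (fun s hs => by
      rw [Subgroup.mem_normalizer_iff]
      intro h
      constructor
      · intro hh
        rwa [show s * h * s⁻¹ = h by rw [← hF0c h hh s hs, mul_inv_cancel_right]]
      · intro hh
        have := hF0c _ hh s hs
        have e' : h = s * h * s⁻¹ := by
          calc h = s⁻¹ * ((s * h * s⁻¹) * s) := by group
            _ = s⁻¹ * (s * (s * h * s⁻¹)) := by rw [this]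
            _ = s * h * s⁻¹ := by group
        rw [e']; exact hh)).1 hgN
    have htX : t ∈ Subgroup.centralizer (Xb : Set (↥H ⧸ Subgroup.center ↥H)) :=
      Subgroup.mem_centralizer_iff.mpr fun z hz => hF0c z (hXF0 hz) t ht'
    have hfX : f ∈ Subgroup.centralizer (Xb : Set (↥H ⧸ Subgroup.center ↥H)) := by
      have := mul_mem hg (inv_mem htX)
      rwa [mul_inv_cancel_right] at this
    exact mul_mem (Subgroup.mem_sup_left (hF0C ▸ Subgroup.mem_inf.mpr ⟨hf, hfX⟩)) (Subgroup.mem_sup_right ht')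
  have hC0card : Nat.card ↥(Subgroup.centralizer (Xb : Set (↥H ⧸ Subgroup.center ↥H))) ≤ 22 := by
    refine (Subgroup.card_le_of_le hC0).trans ?_
    rw [JComp.card_sup_disjoint ?_ ?_, hXb, Nat.card_zpowers, hd'o]
    · exact (fun t ht' => cent_le_norm Xb (Subgroup.mem_centralizer_iff.mpr fun z hz => hF0c z (hXF0 hz) t ht'))
    · exact le_bot_iff.mp (hF0d ▸ inf_le_inf_right _ hXF0)
  let π : ↥H →* ↥H ⧸ Subgroup.center ↥H := QuotientGroup.mk' _
  have hker : Nat.card π.ker ≤ 2 := by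
    haveI : Finite ↥(Subgroup.zpowers d) := inferInstance
    refine (Nat.card_le_card_of_injective (fun z : π.ker => (⟨((z : ↥H) : G), ?_⟩ : ↥(Subgroup.zpowers d))) ?_).trans
      (le_of_eq (by rw [Nat.card_zpowers, hD.1.1 d hdD]))
    · rcases S.central_cases (x := (z : ↥H)) z.2 with h | h
      · rw [h]; exact one_mem _
      · rw [h]; exact Subgroup.mem_zpowers d
    · intro z z' h; exact Subtype.ext (Subtype.ext (congrArg (fun t : ↥(Subgroup.zpowers d) => (t : G)) h))
  have hle_H : ∀ {g : G}, Commute g d → g ∈ H := fun h => Cent.cent_le S h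
  have bound : ∀ (A : Subgroup G), (∀ g ∈ A, Commute g d) → ∀ B : Subgroup (↥H ⧸ Subgroup.center ↥H),
      (∀ g : ↥H, (g : G) ∈ A → π g ∈ B) → Nat.card A ≤ 2 * Nat.card B := by
    intro A hA B hB
    let f : ↥A →* ↥B := ((π.comp (Subgroup.inclusion (fun g hg => hle_H (hA g hg)))).codRestrict B
      fun g => hB _ g.2)
    have h1 := Subgroup.card_mul_index f.ker
    rw [Subgroup.index_ker] at h1
    rw [← h1]
    refine Nat.mul_le_mul ?_ (Subgroup.card_le_card_group _)
    refine le_trans (Nat.card_le_card_of_injective (fun z : f.ker =>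
      (⟨⟨((z : ↥A) : G), hle_H (hA _ (z : ↥A).2)⟩, congrArg Subtype.val z.2⟩ : π.ker)) ?_) hker
    intro z z' h
    exact Subtype.ext (Subtype.ext (congrArg (fun t : π.ker => ((t : ↥H) : G)) h))
  set Cd := C ⊓ Subgroup.centralizer ({d} : Set G)
  have hCd : Nat.card Cd ≤ 44 := by
    refine (bound Cd (fun g hg => Subgroup.mem_centralizer_singleton_iff.mp hg.2) _ fun g hg => ?_).trans
      (Nat.mul_le_mul_left 2 hC0card)
    exact cent_image S hXd (Subgroup.mem_centralizer_singleton_iff.mp hg.2) hg.1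
  have hNd : Nat.card Nd ≤ 220 := by
    refine (bound Nd (fun g hg => Subgroup.mem_centralizer_singleton_iff.mp hg.2) _ fun g hg => ?_).trans
      (le_of_eq (by rw [hN0]))
    rw [Subgroup.mem_normalizer_iff_map_conj_eq]
    show (Xb.map (MulAut.conj (π g)).toMonoidHom) = Xb
    have hg1 : X.map (MulAut.conj (g : G)).toMonoidHom = X := Subgroup.mem_normalizer_iff_map_conj_eq.mp hg.1
    apply le_antisymm
    · rintro _ ⟨_, ⟨x, hx, rfl⟩, rfl⟩
      refine ⟨g * x * g⁻¹, ?_, by show π (g * x * g⁻¹) = π g * π x * (π g)⁻¹; simp⟩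
      show (g : G) * (x : G) * (g : G)⁻¹ ∈ X
      rw [← hg1]; exact ⟨_, hx, rfl⟩
    · rintro _ ⟨x, hx, rfl⟩
      have hx' : (x : G) ∈ X.map (MulAut.conj (g : G)).toMonoidHom := hg1.symm ▸ hx
      obtain ⟨y, hy, hye⟩ := hx'
      refine ⟨π ⟨y, hXd hy⟩, ⟨⟨y, hXd hy⟩, hy, rfl⟩, ?_⟩
      show π g * π ⟨y, hXd hy⟩ * (π g)⁻¹ = π x
      rw [← map_inv, ← map_mul, ← map_mul]
      exact congrArg π (Subtype.ext hye)
  have hVCd : V ≤ Cd := by
    rw [Subgroup.closure_le]
    rintro u (rfl | rfl)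
    · exact ⟨hdC, Subgroup.mem_centralizer_singleton_iff.mpr rfl⟩
    · exact ⟨hbC, Subgroup.mem_centralizer_singleton_iff.mpr hdb.symm.eq⟩
  have hV : Nat.card V = 4 := by
    have hd2 := hD.1.1 d hdD
    have hb2 := hD.1.1 b hbD
    have e : V = Subgroup.zpowers d ⊔ Subgroup.zpowers b := by
      rw [Subgroup.zpowers_eq_closure, Subgroup.zpowers_eq_closure, ← Subgroup.closure_union]
      rfl
    rw [e, JComp.card_sup_disjoint ?_ ?_, Nat.card_zpowers, Nat.card_zpowers, hd2, hb2]
    · refine fun t ht' => cent_le_norm _ (Subgroup.mem_centralizer_iff.mpr fun z hz => ?_)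
      obtain ⟨i, rfl⟩ := Subgroup.mem_zpowers_iff.mp hz
      obtain ⟨j, rfl⟩ := Subgroup.mem_zpowers_iff.mp ht'
      exact (hdb.zpow_zpow i j).eq
    · rw [Subgroup.eq_bot_iff_forall]
      intro z hz
      obtain ⟨i, hi⟩ := Subgroup.mem_zpowers_iff.mp hz.1
      obtain ⟨j, hj⟩ := Subgroup.mem_zpowers_iff.mp hz.2
      have par : ∀ (x : G), x * x = 1 → ∀ k : ℤ, x ^ k = 1 ∨ x ^ k = x := fun x hx k => by
        rcases Int.even_or_odd' k with ⟨m, rfl | rfl⟩
        · left; rw [zpow_mul, zpow_two, hx, _root_.one_zpow]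
        · right; rw [zpow_add, zpow_mul, zpow_two, hx, _root_.one_zpow, one_mul, zpow_one]
      rcases par d (Spor.mul_self_of_order_two hd2) i with h | h <;> rw [h] at hi
      · exact hi.symm
      rcases par b (Spor.mul_self_of_order_two hb2) j with h' | h' <;> rw [h'] at hj
      · exact hj.symm
      exact absurd (hi.trans hj.symm) hne
  have hXCd : X ≤ Cd := fun x hx => ⟨le_cent_self hX hx,
    Subgroup.mem_centralizer_singleton_iff.mpr (Subgroup.mem_centralizer_iff.mp hdC x hx)⟩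
  have hCd44 : Nat.card Cd = 44 := by
    have h11 := Subgroup.card_dvd_of_le hXCd
    have h4 := Subgroup.card_dvd_of_le hVCd
    rw [hX] at h11
    rw [hV] at h4
    exact Nat.le_antisymm hCd
      (Nat.le_of_dvd Nat.card_pos (Nat.Coprime.mul_dvd_of_dvd_of_dvd (by norm_num : Nat.Coprime 4 11) h4 h11))
  -- the normalizer permutes the two members
  have hperm : ∀ g ∈ N, (g * d * g⁻¹ = d ∧ g * b * g⁻¹ = b) ∨ (g * d * g⁻¹ = b ∧ g * b * g⁻¹ = d) := by
    intro g hg
    have h1 := (hmem _).mp ⟨hD.2.1 g d hdD, norm_conj hg hdC⟩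
    have h2 := (hmem _).mp ⟨hD.2.1 g b hbD, norm_conj hg hbC⟩
    have hgne : g * d * g⁻¹ ≠ g * b * g⁻¹ := fun h => hne (mul_left_cancel (mul_right_cancel h))
    rcases h1 with h1 | h1 <;> rcases h2 with h2 | h2
    · exact absurd (h1.trans h2.symm) hgne
    · exact Or.inl ⟨h1, h2⟩
    · exact Or.inr ⟨h1, h2⟩
    · exact absurd (h1.trans h2.symm) hgne
  have hidx : ∀ (A : Subgroup G), A ≤ N → Nat.card A ≤ 2 * Nat.card ↥(A ⊓ Subgroup.centralizer ({d} : Set G)) := by
    intro A hA
    set B := (A ⊓ Subgroup.centralizer ({d} : Set G)).subgroupOf A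
    have hB : B.index ≤ 2 := by
      by_cases htop : B = ⊤
      · rw [htop, Subgroup.index_top]; norm_num
      obtain ⟨g, -, hg⟩ := SetLike.exists_of_lt (lt_top_iff_ne_top.mpr htop)
      refine le_of_eq (Subgroup.index_eq_two_iff.mpr ⟨g, fun x => ?_⟩)
      have key : ∀ x : A, x ∈ B ↔ (x : G) * d * (x : G)⁻¹ = d := fun x => by
        simp only [B, Subgroup.mem_subgroupOf, Subgroup.mem_inf, x.2, true_and,
          Subgroup.mem_centralizer_singleton_iff, mul_inv_eq_iff_eq_mul]
      rw [key] at hg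
      have hgb : (g : G) * d * (g : G)⁻¹ = b ∧ (g : G) * b * (g : G)⁻¹ = d :=
        (hperm g (hA g.2)).resolve_left fun h => hg h.1
      simp only [key, Subgroup.coe_mul]
      have e1 : (x : G) * g * d * ((x : G) * g)⁻¹ = x * b * (x : G)⁻¹ := by
        rw [← hgb.1]; group
      rcases hperm x (hA x.2) with ⟨h1, h2⟩ | ⟨h1, h2⟩
      · exact Or.inr ⟨h1, by rw [e1, h2]; exact Ne.symm hne⟩
      · exact Or.inl ⟨by rw [e1, h2], by rw [h1]; exact Ne.symm hne⟩
    have h1 := Subgroup.card_mul_index B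
    rw [Nat.card_congr (Subgroup.subgroupOfEquivOfLe (inf_le_left : A ⊓ _ ≤ A)).toEquiv] at h1
    rw [← h1, mul_comm 2]
    exact Nat.mul_le_mul_left _ hB
  have hC88 : Nat.card C ≤ 88 := (hidx C (cent_le_norm X)).trans (le_of_eq (by rw [show C ⊓ _ = Cd from rfl, hCd44]))
  have hC44 : 44 ∣ Nat.card C := hCd44 ▸ Subgroup.card_dvd_of_le inf_le_left
  have hNcard : Nat.card N = 440 := by
    have hcard := Facts.card_G hD hprim ht
    obtain ⟨m, n, hm, hn, h3, h4⟩ := M22U.PrimeCount.card_normalizer (by norm_num : Nat.Prime 11)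
      (by rw [hcard]; norm_num) (by rw [hcard]; norm_num) hX
    rw [show Nat.card N = _ from h3]
    rw [hcard] at h4
    obtain ⟨k, hk⟩ := hC44
    have hk2 : k ≤ 2 := by omega
    have hk0 : k ≠ 0 := fun h => by rw [h] at hk; exact Nat.card_pos.ne' hk
    rw [show Nat.card ↥(Subgroup.centralizer (X : Set G)) = 44 * k from hk] at h4 ⊢
    have hm10 : m ≤ 10 := Nat.le_of_dvd (by norm_num) hm
    interval_cases k <;> interval_cases m <;> omega
  have hNd220 : Nat.card Nd = 220 := by
    have := hidx N le_rfl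
    rw [hNcard] at this
    have h' : Nat.card Nd ≤ 220 := hNd
    exact Nat.le_antisymm h' (by linarith)
  refine ⟨d, b, hdD, hbD, hne, Set.ext fun u => (hmem u).trans (by simp), ?_⟩
  have hXNd : X ≤ Nd := fun x hx => ⟨Subgroup.le_normalizer hx, (hXCd hx).2⟩
  have hVNd : V ≤ Nd := fun v hv => ⟨cent_le_norm X (hVCd hv).1, (hVCd hv).2⟩
  haveI : (X.subgroupOf Nd).Normal :=
    Subgroup.normal_subgroupOf_of_le_normalizer (inf_le_left : Nd ≤ N)
  have hQ : Nat.card (↥Nd ⧸ X.subgroupOf Nd) = 20 := by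
    have h := Subgroup.card_eq_card_quotient_mul_card_subgroup (X.subgroupOf Nd)
    rw [hNd220, Nat.card_congr (Subgroup.subgroupOfEquivOfLe hXNd).toEquiv, hX] at h
    omega
  haveI : Fact (Nat.Prime 5) := ⟨by norm_num⟩
  obtain ⟨q, hq⟩ := exists_prime_orderOf_dvd_card' 5 (by rw [hQ]; norm_num : 5 ∣ Nat.card (↥Nd ⧸ X.subgroupOf Nd))
  set F1 := (Subgroup.zpowers q).comap (QuotientGroup.mk' (X.subgroupOf Nd))
  have hF1i : F1.index = 4 := by
    rw [Subgroup.index_comap_of_surjective _ (QuotientGroup.mk'_surjective _)]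
    have := Subgroup.card_mul_index (Subgroup.zpowers q)
    rw [Nat.card_zpowers, hq, hQ] at this
    omega
  have hF1 : Nat.card F1 = 55 := by
    have := Subgroup.card_mul_index F1
    rw [hF1i, hNd220] at this
    omega
  set F := F1.map Nd.subtype
  have hFNd : F ≤ Nd := Subgroup.map_subtype_le _
  have hFcard : Nat.card F = 55 := by
    rw [← Nat.card_congr (Subgroup.equivMapOfInjective _ _ Nd.subtype_injective).toEquiv, hF1]
  have hXF : X ≤ F := fun g hg => ⟨⟨g, hXNd hg⟩, by
    show QuotientGroup.mk' _ _ ∈ Subgroup.zpowers q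
    rw [show QuotientGroup.mk' (X.subgroupOf Nd) ⟨g, hXNd hg⟩ = 1 from (QuotientGroup.eq_one_iff _).mpr hg]
    exact one_mem _, rfl⟩
  have hFcomm : ∀ x ∈ F, ∀ y ∈ V, x * y = y * x := by
    intro x hx y hy
    obtain ⟨hxN, hxd⟩ := hFNd hx
    replace hxd : x * d = d * x := Subgroup.mem_centralizer_singleton_iff.mp hxd
    have hxd' : x * d * x⁻¹ = d := mul_inv_eq_iff_eq_mul.mpr hxd
    have hxb : x * b * x⁻¹ = b := by
      rcases hperm x hxN with h | h
      · exact h.2
      · exact absurd (hxd'.symm.trans h.1) hne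
    have hle : V ≤ Subgroup.centralizer ({x} : Set G) := by
      rw [Subgroup.closure_le]
      rintro u (rfl | rfl)
      · exact Subgroup.mem_centralizer_singleton_iff.mpr hxd.symm
      · exact Subgroup.mem_centralizer_singleton_iff.mpr (mul_inv_eq_iff_eq_mul.mp hxb).symm
    exact (Subgroup.mem_centralizer_singleton_iff.mp (hle hy)).symm
  have hFV : F ⊓ V = ⊥ := Subgroup.eq_bot_of_card_le _ (Nat.le_of_dvd (by norm_num) (by
    have h1 := Subgroup.card_dvd_of_le (inf_le_left : F ⊓ V ≤ F)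
    have h2 := Subgroup.card_dvd_of_le (inf_le_right : F ⊓ V ≤ V)
    rw [hFcard] at h1; rw [hV] at h2
    exact Nat.dvd_gcd h1 h2))
  refine ⟨F, hFcard, hXF, (Subgroup.eq_of_le_of_card_ge (le_inf hXF (le_cent_self hX)) ?_).symm, hFV, hFcomm,
    Subgroup.eq_of_le_of_card_ge (sup_le hFNd hVNd) ?_, ?_⟩
  · rw [hX]
    refine Nat.le_of_dvd (by norm_num) ?_
    have h1 := Subgroup.card_dvd_of_le (inf_le_left : F ⊓ C ≤ F)
    have h2 : Nat.card ↥(F ⊓ C) ∣ 44 :=
      hCd44 ▸ Subgroup.card_dvd_of_le (fun g hg => ⟨hg.2, (hFNd hg.1).2⟩)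
    rw [hFcard] at h1
    exact Nat.dvd_gcd h1 h2
  · rw [show Nat.card ↥(N ⊓ Subgroup.centralizer ({d} : Set G)) = 220 from hNd220]
    refine Nat.le_of_dvd Nat.card_pos ?_
    have h1 := Subgroup.card_dvd_of_le (le_sup_left : F ≤ F ⊔ V)
    have h2 := Subgroup.card_dvd_of_le (le_sup_right : V ≤ F ⊔ V)
    rw [hFcard] at h1; rw [hV] at h2
    exact Nat.Coprime.mul_dvd_of_dvd_of_dvd (by norm_num : Nat.Coprime 55 4) h1 h2
  · have h := Subgroup.card_mul_index (Nd.subgroupOf N)
    rw [Nat.card_congr (Subgroup.subgroupOfEquivOfLe (inf_le_left : Nd ≤ N)).toEquiv, hNd220, hNcard] at h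
    show (Nd.subgroupOf N).index = 2
    omega

end Cfsg.Agent.Spor.M23Rel.Cyc
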