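import Mathlib

/-!
A cycle of length five in the symmetric group of degree seven: its centraliser and normalising element.
-/

set_option autoImplicit false
set_option linter.unusedSectionVars false

namespace Cfsg.Agent.Spor.M23Rel.Sym

/-- the cycle -/
def c5 : Equiv.Perm (Fin 7) := Equiv.swap 0 1 * Equiv.swap 1 2 * Equiv.swap 2 3 * Equiv.swap 3 4

/-- a transposition disjoint from the cycle -/
def s56 : Equiv.Perm (Fin 7) := Equiv.swap 5 6

/-- an element squaring the cycle -/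
def t5 : Equiv.Perm (Fin 7) := Equiv.swap 1 2 * Equiv.swap 2 4 * Equiv.swap 4 3

theorem c5_facts : c5 ^ 5 = 1 ∧ c5 ≠ 1 ∧ c5 * s56 = s56 * c5 ∧ t5 * c5 * t5⁻¹ = c5 ^ 2 ∧
    (∀ a : Fin 7, a.val < 5 → (c5 ^ (a : ℕ)) 0 = a) ∧ (∀ a : Fin 7, 5 ≤ a.val → c5 a = a) ∧
    (∀ a : Fin 7, a.val < 5 → (a.val + 1) % 5 = (c5 a).val) := by decide +kernel

theorem c5_order : orderOf c5 = 5 := by
  haveI : Fact (Nat.Prime 5) := ⟨by norm_num⟩
  exact orderOf_eq_prime c5_facts.1 c5_facts.2.1

theorem c5_cent {σ : Equiv.Perm (Fin 7)} (h : Commute σ c5) :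
    ∃ j : ℕ, σ = c5 ^ j ∨ σ = c5 ^ j * s56 := by
  obtain ⟨-, -, -, -, h0, hfix, hnext⟩ := c5_facts
  have comm : ∀ (τ : Equiv.Perm (Fin 7)), Commute τ c5 → ∀ i, τ (c5 i) = c5 (τ i) := fun τ hτ i =>
    congrArg (fun π : Equiv.Perm (Fin 7) => π i) hτ.eq
  have ha : (σ 0).val < 5 := by
    by_contra hge
    have h1 : σ (c5 0) = σ 0 := (comm σ h 0).trans (hfix _ (by omega))
    have := congrArg Fin.val (σ.injective h1)
    rw [← hnext 0 (by norm_num)] at this
    norm_num at this
  set τ := (c5 ^ ((σ 0 : Fin 7) : ℕ))⁻¹ * σ with hτ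
  have hτc : Commute τ c5 := (((Commute.refl c5).pow_left _).inv_left).mul_left h
  have t0 : τ 0 = 0 := by
    rw [hτ, Equiv.Perm.mul_apply, Equiv.Perm.inv_eq_iff_eq, h0 _ ha]
  have step : ∀ i : Fin 7, τ i = i → τ (c5 i) = c5 i := fun i hi => by rw [comm τ hτc i, hi]
  have hlow : τ 0 = 0 ∧ τ 1 = 1 ∧ τ 2 = 2 ∧ τ 3 = 3 ∧ τ 4 = 4 := by
    have e1 : c5 0 = 1 := by decide +kernel
    have e2 : c5 1 = 2 := by decide +kernel
    have e3 : c5 2 = 3 := by decide +kernel
    have e4 : c5 3 = 4 := by decide +kernel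
    have u1 := step 0 t0; rw [e1] at u1
    have u2 := step 1 u1; rw [e2] at u2
    have u3 := step 2 u2; rw [e3] at u3
    have u4 := step 3 u3; rw [e4] at u4
    exact ⟨t0, u1, u2, u3, u4⟩
  have hhigh : ∀ i : Fin 7, 5 ≤ i.val → τ i = 5 ∨ τ i = 6 := fun i hi => by
    by_contra hno
    push Not at hno
    have hlt : (τ i).val < 5 := by
      have h5 : (τ i).val ≠ 5 := fun e => hno.1 (Fin.ext e)
      have h6 : (τ i).val ≠ 6 := fun e => hno.2 (Fin.ext e)
      have := (τ i).isLt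
      omega
    obtain ⟨l0, l1, l2, l3, l4⟩ := hlow
    have : τ (τ i) = τ i := by
      have h' : τ i = 0 ∨ τ i = 1 ∨ τ i = 2 ∨ τ i = 3 ∨ τ i = 4 := by
        simp only [Fin.ext_iff, Fin.val_zero, Fin.val_one, Fin.val_two]
        show (τ i).val = 0 ∨ (τ i).val = 1 ∨ (τ i).val = 2 ∨ (τ i).val = 3 ∨ (τ i).val = 4
        omega
      rcases h' with e | e | e | e | e <;> rw [e] <;> assumption
    have h2 := congrArg Fin.val (τ.injective this)
    omega
  obtain ⟨l0, l1, l2, l3, l4⟩ := hlow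
  refine ⟨((σ 0 : Fin 7) : ℕ), ?_⟩
  have hσ : σ = c5 ^ ((σ 0 : Fin 7) : ℕ) * τ := by rw [hτ]; group
  rcases hhigh 5 (by norm_num) with h5 | h5
  · left
    have h6 : τ 6 = 6 := (hhigh 6 (by norm_num)).resolve_left fun e => by
      have := τ.injective (e.trans h5.symm); exact absurd this (by decide)
    have : τ = 1 := Equiv.ext fun i => by fin_cases i <;> first | assumption
    conv_lhs => rw [hσ, this, mul_one]
  · right
    have h6 : τ 6 = 5 := (hhigh 6 (by norm_num)).resolve_right fun e => by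
      have := τ.injective (e.trans h5.symm); exact absurd this (by decide)
    have : τ = s56 := Equiv.ext fun i => by
      fin_cases i
      exacts [l0.trans (by decide), l1.trans (by decide), l2.trans (by decide), l3.trans (by decide),
        l4.trans (by decide), h5.trans (by decide), h6.trans (by decide)]
    conv_lhs => rw [hσ, this]

end Cfsg.Agent.Spor.M23Rel.Sym
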