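import Cfsg.Agent.Lib.Spor.M23RelSymInst
import Cfsg.Agent.Lib.Spor.M23RelSymPerm
import Cfsg.Agent.Lib.Spor.M22UFrobInst
import Cfsg.Agent.Lib.Spor.M22UFrobConj
import Cfsg.Prelude.Def_Transfer

/-!
Subgroups of order five and the Sylow five-subgroups in a group of type M(23).
-/

set_option autoImplicit false
set_option maxRecDepth 100000
set_option linter.unusedSectionVars false

namespace Cfsg.Agent.Spor.M23Rel.Sym

open Cfsg.Agent.Spor.CC Cfsg.Agent.Spor.Fi23Cert Cfsg.Agent.Spor.M23Rel.Cyc Data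
open Cfsg.Agent.Spor.M22U (nset)

/-- the elements used: a cycle among the fixed members and a member commuting with it -/
theorem exists_five : ∃ (y u t : pres.Grp), y ∈ Sg cfg5 ∧ t ∈ Sg cfg5 ∧ orderOf y = 5 ∧ u ∈ Fx cfg5 ∧
    Commute u y ∧ t * y * t⁻¹ = y ^ 2 ∧
    ∀ s ∈ Sg cfg5, Commute s y → s ∈ Subgroup.zpowers y ⊔ Subgroup.zpowers u := by
  obtain ⟨φ, hφ⟩ := exists_iso ok5 (by rw [sizes.2.2.2.1]; norm_num)
  obtain ⟨hlen, -, hall, -, -⟩ := trans_data ok5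
  obtain ⟨i, hi, he⟩ := hall 5 (by rw [sizes.2.2.2.1]; norm_num) 6 (by rw [sizes.2.2.2.1]; norm_num) (by norm_num)
  have hmem : dp (cfg5.fx.getD i 0) ∈ Fx cfg5 :=
    ⟨_, by rw [List.getD_eq_getElem _ _ (hlen ▸ hi)]; exact List.getElem_mem _, rfl⟩
  have hS : dp (cfg5.fx.getD i 0) ∈ Sg cfg5 := Subgroup.subset_closure hmem
  obtain ⟨a, b, hab, hsw⟩ := sgTwo_member ok5 (hlen ▸ hi) hS
  let ψ : ↥(Sg cfg5) ≃* Equiv.Perm (Fin 7) := φ.trans (finCongr sizes.2.2.2.1).permCongrHom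
  have hu : ψ ⟨_, hS⟩ = s56 := by
    have h1 : φ ⟨_, hS⟩ = Equiv.swap a b := onTwo_injective (by rw [sizes.2.2.2.1]; norm_num) ((hφ _).trans hsw)
    show (finCongr sizes.2.2.2.1).permCongrHom (φ ⟨_, hS⟩) = s56
    rw [h1]
    rw [he, Prod.mk.injEq] at hab
    have ha' : finCongr sizes.2.2.2.1 a = 5 := Fin.ext (by simp [← hab.1])
    have hb' : finCongr sizes.2.2.2.1 b = 6 := Fin.ext (by simp [← hab.2])
    show (finCongr sizes.2.2.2.1).permCongr (Equiv.swap a b) = s56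
    rw [Equiv.permCongr_def, Equiv.symm_trans_swap_trans, ha', hb']
    rfl
  refine ⟨ψ.symm c5, dp (cfg5.fx.getD i 0), ψ.symm t5, SetLike.coe_mem _, SetLike.coe_mem _, ?_, hmem, ?_, ?_, ?_⟩
  · rw [Subgroup.orderOf_coe, MulEquiv.orderOf_eq, c5_order]
  · have : Commute (⟨_, hS⟩ : ↥(Sg cfg5)) (ψ.symm c5) := ψ.injective (by
      rw [map_mul, map_mul, hu, ψ.apply_symm_apply]; exact c5_facts.2.2.1.symm)
    exact this.map (Sg cfg5).subtype
  · have : ψ.symm t5 * ψ.symm c5 * (ψ.symm t5)⁻¹ = ψ.symm c5 ^ 2 := by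
      rw [← map_inv, ← map_mul, ← map_mul, ← map_pow, c5_facts.2.2.2.1]
    exact congrArg Subtype.val this
  · intro s hs hc
    have hc' : Commute (ψ ⟨s, hs⟩) c5 := by
      have : Commute (⟨s, hs⟩ : ↥(Sg cfg5)) (ψ.symm c5) := Subtype.ext hc.eq
      have h := this.map ψ.toMonoidHom
      simpa using h
    obtain ⟨j, h | h⟩ := c5_cent hc'
    · have : (⟨s, hs⟩ : ↥(Sg cfg5)) = ψ.symm c5 ^ j := by rw [← map_pow, ← h, ψ.symm_apply_apply]
      rw [show s = ((ψ.symm c5 : ↥(Sg cfg5)) : pres.Grp) ^ j from congrArg Subtype.val this]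
      exact Subgroup.mem_sup_left (Subgroup.npow_mem_zpowers _ _)
    · have : (⟨s, hs⟩ : ↥(Sg cfg5)) = ψ.symm c5 ^ j * ⟨_, hS⟩ := by
        rw [← map_pow, ← ψ.symm_apply_apply ⟨_, hS⟩, ← map_mul, hu, ← h, ψ.symm_apply_apply]
      rw [show s = ((ψ.symm c5 : ↥(Sg cfg5)) : pres.Grp) ^ j * dp (cfg5.fx.getD i 0) from congrArg Subtype.val this]
      exact mul_mem (Subgroup.mem_sup_left (Subgroup.npow_mem_zpowers _ _))
        (Subgroup.mem_sup_right (Subgroup.mem_zpowers _))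

variable {G : Type*} [Group G] [Finite G] {D : Set G}

theorem eq_zpowers {p : ℕ} (hp : p.Prime) {Z : Subgroup G} (hZ : Nat.card Z = p) {z : G} (hz : z ∈ Z)
    (h1 : z ≠ 1) : Subgroup.zpowers z = Z := by
  refine Subgroup.eq_of_le_of_card_ge (Subgroup.zpowers_le.mpr hz) ?_
  have hd := Subgroup.card_dvd_of_le (Subgroup.zpowers_le.mpr hz)
  rw [hZ, Nat.card_zpowers] at hd
  rw [hZ, Nat.card_zpowers, ((Nat.dvd_prime hp).mp hd).resolve_left fun h => h1 (orderOf_eq_one_iff.mp h)]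

/-- the frame at a subgroup of order five -/
structure Frame (D : Set G) where
  /-- the isomorphism -/
  e : pres.Grp ≃* G
  he : e '' conjugatesOf Below.tA = D

namespace Frame

variable (Φ : Frame D)

/-- the subgroup of order five -/
noncomputable def X : Subgroup G := (Subgroup.zpowers (xel cfg5)).map Φ.e.toMonoidHom
/-- the element -/
noncomputable def x : G := Φ.e (xel cfg5)
/-- the cycle -/
noncomputable def y : G := Φ.e exists_five.choose
/-- the member -/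
noncomputable def u : G := Φ.e exists_five.choose_spec.choose
/-- the element squaring the cycle -/
noncomputable def t : G := Φ.e exists_five.choose_spec.choose_spec.choose
/-- the subgroup of the fixed members -/
noncomputable def S : Subgroup G := (Sg cfg5).map Φ.e.toMonoidHom
/-- the Sylow subgroup -/
noncomputable def E : Subgroup G := Φ.X ⊔ Subgroup.zpowers Φ.y

theorem mem_D {v : pres.Grp} (hv : v ∈ conjugatesOf Below.tA) : Φ.e v ∈ D :=
  Set.ext_iff.mp Φ.he _ |>.mp ⟨v, hv, rfl⟩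

theorem of_D {z : G} (hz : z ∈ D) : ∃ v ∈ conjugatesOf Below.tA, Φ.e v = z :=
  (Set.ext_iff.mp Φ.he z).mpr hz

theorem facts : Φ.y ∈ Φ.S ∧ Φ.t ∈ Φ.S ∧ orderOf Φ.y = 5 ∧ Φ.u ∈ D ∧ Φ.u ∈ Φ.S ∧ Commute Φ.u Φ.y ∧
    Φ.t * Φ.y * Φ.t⁻¹ = Φ.y ^ 2 ∧
    ∀ s ∈ Φ.S, Commute s Φ.y → s ∈ Subgroup.zpowers Φ.y ⊔ Subgroup.zpowers Φ.u := by
  obtain ⟨h1, h2, h3, h4, h5, h6, h7⟩ := exists_five.choose_spec.choose_spec.choose_spec
  refine ⟨⟨_, h1, rfl⟩, ⟨_, h2, rfl⟩, (MulEquiv.orderOf_eq Φ.e _).trans h3, ?_,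
    ⟨_, Subgroup.subset_closure h4, rfl⟩, h5.map Φ.e.toMonoidHom, ?_, ?_⟩
  · exact Φ.mem_D (fx_class ok5 h4)
  · simp only [y, t, ← map_inv, ← map_mul, ← map_pow, h6]
  · rintro _ ⟨s, hs, rfl⟩ hc
    have hc' : Commute s exists_five.choose := Φ.e.injective (by
      rw [map_mul, map_mul]; exact hc.eq)
    have := Subgroup.mem_map_of_mem Φ.e.toMonoidHom (h7 s hs hc')
    rwa [Subgroup.map_sup, MonoidHom.map_zpowers, MonoidHom.map_zpowers] at this

theorem X_zpowers : Φ.X = Subgroup.zpowers Φ.x := MonoidHom.map_zpowers _ _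

theorem card_X : Nat.card Φ.X = 5 := by
  rw [X_zpowers, Nat.card_zpowers, x, MulEquiv.orderOf_eq, order_x ok5, sizes.2.2.1]

theorem order_x5 : orderOf Φ.x = 5 := by rw [← Nat.card_zpowers, ← X_zpowers]; exact Φ.card_X

theorem main_at : ∃ F : Subgroup G, Φ.X ≤ F ∧ F ⊓ Subgroup.centralizer (Φ.X : Set G) = Φ.X ∧
    Subgroup.closure (D ∩ (Subgroup.centralizer (Φ.X : Set G) : Set G)) = Φ.S ∧ F ⊓ Φ.S = ⊥ ∧
    (∀ a ∈ F, ∀ b ∈ Φ.S, a * b = b * a) ∧ F ⊔ Φ.S = Subgroup.normalizer (Φ.X : Set G) ∧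
    Nonempty (↥Φ.S ≃* Equiv.Perm (Fin 7)) ∧ Nat.card ↥(Subgroup.centralizer (Φ.X : Set G)) = 5 * 5040 ∧
    Nat.card F * 5040 = Nat.card ↥(Subgroup.normalizer (Φ.X : Set G)) ∧
    Subgroup.centralizer (Φ.X : Set G) = Φ.X ⊔ Φ.S := by
  obtain ⟨F, S, h1, h2, h3, h4, h5, h6, ⟨φ⟩, h8, h9, h10⟩ :=
    main ok5 (by rw [sizes.2.2.2.1]; norm_num) Φ.e Φ.he (X := Φ.X) rfl
  have hS : S = Φ.S := by
    rw [← h3, X, show Subgroup.centralizer (((Subgroup.zpowers (xel cfg5)).map Φ.e.toMonoidHom : Subgroup G) : Set G) =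
      (Subgroup.centralizer ({xel cfg5} : Set pres.Grp)).map Φ.e.toMonoidHom by
        rw [← cent_zpowers, ← centralizer_map]; rfl, Frame.S, Sg, MonoidHom.map_closure]
    congr 1
    ext g
    constructor
    · rintro ⟨hg, hc⟩
      obtain ⟨d, hd, rfl⟩ := Φ.of_D hg
      obtain ⟨c, hc, hce⟩ := hc
      rw [Φ.e.injective hce] at hc
      exact ⟨d, (comm_x_iff ok5 hd).mp (Subgroup.mem_centralizer_singleton_iff.mp hc), rfl⟩
    · rintro ⟨d, hd, rfl⟩
      exact ⟨Φ.mem_D (fx_class ok5 hd),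
        ⟨_, Subgroup.mem_centralizer_singleton_iff.mpr ((comm_x_iff ok5 (fx_class ok5 hd)).mpr hd).eq, rfl⟩⟩
  subst hS
  rw [sizes.2.2.1, sizes.2.2.2.1, show Nat.factorial 7 = 5040 from rfl] at h8
  rw [sizes.2.2.2.1, show Nat.factorial 7 = 5040 from rfl] at h9
  exact ⟨F, h1, h2, h3, h4, h5, h6, ⟨φ.trans (finCongr sizes.2.2.2.1).permCongrHom⟩, h8, h9, h10⟩

theorem S_le_cent : Φ.S ≤ Subgroup.centralizer (Φ.X : Set G) := by
  obtain ⟨F, -, -, -, -, -, -, -, -, -, h⟩ := Φ.main_at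
  rw [h]; exact le_sup_right

theorem comm_xs {s : G} (hs : s ∈ Φ.S) : Commute Φ.x s :=
  Subgroup.mem_centralizer_iff.mp (Φ.S_le_cent hs) _ (Φ.X_zpowers ▸ Subgroup.mem_zpowers _)

theorem inf_XS : Φ.X ⊓ Φ.S = ⊥ := by
  rw [X, S, ← Subgroup.map_inf _ _ _ Φ.e.injective, Subgroup.map_eq_bot_iff_of_injective _ Φ.e.injective,
    Subgroup.eq_bot_iff_forall]
  exact fun s hs => sg_meet ok5 hs.2 hs.1

theorem card_E : Nat.card Φ.E = 25 := by
  obtain ⟨hy, -, hyo, -⟩ := Φ.facts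
  have hle : Subgroup.zpowers Φ.y ≤ Φ.S := Subgroup.zpowers_le.mpr hy
  rw [E, JComp.card_sup_disjoint ((hle.trans Φ.S_le_cent).trans (Cyc.cent_le_norm _))
    (le_bot_iff.mp (Φ.inf_XS ▸ inf_le_inf_left _ hle)), Φ.card_X, Nat.card_zpowers, hyo]

theorem elem {g : G} (hg : g ∈ Φ.E) : ∃ a b : ℕ, a < 5 ∧ b < 5 ∧ g = Φ.x ^ a * Φ.y ^ b := by
  obtain ⟨hy, -, hyo, -⟩ := Φ.facts
  obtain ⟨k, hk, q, hq, rfl⟩ := (JComp.mem_sup_iff_mul
    (((Subgroup.zpowers_le.mpr hy).trans Φ.S_le_cent).trans (Cyc.cent_le_norm _))).1 hg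
  rw [X_zpowers] at hk
  obtain ⟨a, rfl⟩ := mem_powers_iff_mem_zpowers.mpr hk
  obtain ⟨b, rfl⟩ := mem_powers_iff_mem_zpowers.mpr hq
  refine ⟨a % 5, b % 5, Nat.mod_lt _ (by norm_num), Nat.mod_lt _ (by norm_num), ?_⟩
  show Φ.x ^ a * Φ.y ^ b = _
  conv_lhs => rw [← pow_mod_orderOf, ← pow_mod_orderOf Φ.y, Φ.order_x5, hyo]

theorem elementary : Cfsg.IsElementaryAbelian 5 Φ.E := by
  obtain ⟨hy, -, hyo, -⟩ := Φ.facts
  have hxy : Commute Φ.x Φ.y := Φ.comm_xs hy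
  refine ⟨⟨⟨fun p q => ?_⟩⟩, fun g hg => ?_⟩
  · obtain ⟨a, b, -, -, hp⟩ := Φ.elem p.2
    obtain ⟨c, d, -, -, hq⟩ := Φ.elem q.2
    apply Subtype.ext
    show (p : G) * q = q * p
    rw [hp, hq]
    exact (((Commute.refl Φ.x).pow_pow a c).mul_right (hxy.pow_pow a d)).mul_left
      ((hxy.symm.pow_pow b c).mul_right ((Commute.refl Φ.y).pow_pow b d))
  · obtain ⟨a, b, -, -, rfl⟩ := Φ.elem hg
    rw [(hxy.pow_pow a b).mul_pow, ← pow_mul, ← pow_mul, mul_comm a, mul_comm b, pow_mul, pow_mul,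
      ← Φ.order_x5, pow_orderOf_eq_one, Φ.order_x5, ← hyo, pow_orderOf_eq_one, _root_.one_pow, _root_.one_pow, one_mul]

theorem u_cent : Φ.u ∈ Subgroup.centralizer (Φ.E : Set G) := by
  obtain ⟨-, -, -, -, huS, huy, -⟩ := Φ.facts
  rw [Subgroup.mem_centralizer_iff]
  intro g hg
  obtain ⟨a, b, -, -, rfl⟩ := Φ.elem hg
  exact (((Φ.comm_xs huS).pow_left a).mul_left (huy.symm.pow_left b)).eq

theorem cent_E : Subgroup.centralizer (Φ.E : Set G) = Φ.E ⊔ Subgroup.zpowers Φ.u := by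
  obtain ⟨hy, -, -, -, -, -, -, hcy⟩ := Φ.facts
  obtain ⟨F, -, -, -, -, -, -, -, -, -, hC⟩ := Φ.main_at
  haveI : IsMulCommutative Φ.E := Φ.elementary.1
  refine le_antisymm (fun g hg => ?_) (sup_le ?_ (Subgroup.zpowers_le.mpr Φ.u_cent))
  · have hg1 : g ∈ Subgroup.centralizer (Φ.X : Set G) :=
      Subgroup.centralizer_le (SetLike.coe_subset_coe.mpr le_sup_left) hg
    rw [hC] at hg1
    obtain ⟨k, hk, s, hs, rfl⟩ := (JComp.mem_sup_iff_mul (Φ.S_le_cent.trans (Cyc.cent_le_norm _))).1 hg1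
    have hgy : Commute (k * s) Φ.y :=
      (Subgroup.mem_centralizer_iff.mp hg _ (Subgroup.mem_sup_right (Subgroup.mem_zpowers _))).symm
    have hky : Commute k Φ.y := by
      have := Subgroup.mem_centralizer_iff.mp (Φ.S_le_cent hy) k hk
      exact this
    have hsy : Commute s Φ.y := by
      have := hky.inv_left.mul_left hgy
      rwa [inv_mul_cancel_left] at this
    have h2 : Subgroup.zpowers Φ.y ⊔ Subgroup.zpowers Φ.u ≤ Φ.E ⊔ Subgroup.zpowers Φ.u :=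
      sup_le_sup_right le_sup_right _
    exact mul_mem (Subgroup.mem_sup_left (Subgroup.mem_sup_left hk)) (h2 (hcy s hs hsy))
  · intro g hg
    rw [Subgroup.mem_centralizer_iff]
    intro h hh
    exact congrArg Subtype.val (Std.Commutative.comm (op := fun (a b : Φ.E) => a * b) ⟨h, hh⟩ ⟨g, hg⟩)

end Frame

variable (hD : Cfsg.IsThreeTranspositionGroup D) (hprim : Cfsg.IsPrimitiveUnderConj D)
  (ht : Cfsg.IsOfTypeM23 G D)

include hD hprim ht in
theorem exists_frame : Nonempty (Frame D) := by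
  obtain ⟨e, he⟩ := Iso.iso_fi23 hD hprim ht
  exact ⟨⟨e, he⟩⟩

include hD hprim ht in
theorem sylow_card {E : Sylow 5 G} : Nat.card E = 25 := by
  haveI : Fact (Nat.Prime 5) := ⟨by norm_num⟩
  rw [Sylow.card_eq_multiplicity, Facts.card_G hD hprim ht, Nat.factorization_def _ (by norm_num : Nat.Prime 5)]
  have : padicValNat 5 4089470473293004800 = 2 := by
    rw [show (4089470473293004800 : ℕ) = 5 ^ 2 * 163578818931720192 by norm_num,
      padicValNat.mul (by norm_num) (by norm_num), padicValNat.prime_pow,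
      padicValNat.eq_zero_of_not_dvd (by norm_num)]
  rw [this]; norm_num

include hD hprim ht in
theorem frame_at (E : Sylow 5 G) : ∃ Φ : Frame D, Φ.E = E := by
  haveI : Fact (Nat.Prime 5) := ⟨by norm_num⟩
  obtain ⟨Φ⟩ := exists_frame hD hprim ht
  let P : Sylow 5 G := Sylow.ofCard Φ.E (by
    rw [Φ.card_E, ← sylow_card hD hprim ht (E := E), Sylow.card_eq_multiplicity])
  obtain ⟨g, hg⟩ := MulAction.exists_smul_eq G P E
  have he : (Φ.e.trans (MulAut.conj g)) '' conjugatesOf Below.tA = D := by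
    ext z
    constructor
    · rintro ⟨v, hv, rfl⟩
      exact hD.2.1 g _ (Φ.mem_D hv)
    · intro hz
      have hz' : g⁻¹ * z * g ∈ D := (Spor.conj_mem_iff hD.2.1 g).1 hz
      obtain ⟨v, hv, hve⟩ := Φ.of_D hz'
      exact ⟨v, hv, by show g * Φ.e v * g⁻¹ = z; rw [hve]; group⟩
  refine ⟨⟨_, he⟩, ?_⟩
  have h1 : (E : Subgroup G) = Φ.E.map (MulAut.conj g).toMonoidHom := by rw [← hg]; rfl
  rw [h1]
  show (Subgroup.zpowers (xel cfg5)).map (Φ.e.trans (MulAut.conj g)).toMonoidHom ⊔ _ = _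
  simp only [Frame.E, Frame.X, Subgroup.map_sup, Subgroup.map_map, MonoidHom.map_zpowers]
  rfl

include hD hprim ht in
/-- every subgroup of order five centralises a member -/
theorem member_cent {Z : Subgroup G} (hZ : Nat.card Z = 5) : ∃ d ∈ D, d ∈ Subgroup.centralizer (Z : Set G) := by
  haveI : Fact (Nat.Prime 5) := ⟨by norm_num⟩
  obtain ⟨P, hP⟩ := (IsPGroup.of_card (p := 5) (G := ↥Z) (n := 1) (by rw [hZ]; norm_num)).exists_le_sylow
  obtain ⟨Φ, hΦ⟩ := frame_at hD hprim ht P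
  exact ⟨Φ.u, Φ.facts.2.2.2.1, Subgroup.centralizer_le (by rw [hΦ]; exact SetLike.coe_subset_coe.mpr hP) Φ.u_cent⟩

include hD hprim ht in
theorem conj_five {X Y : Subgroup G} (hX : Nat.card X = 5) (hY : Nat.card Y = 5) :
    ∃ g : G, X.map (MulAut.conj g).toMonoidHom = Y := by
  obtain ⟨a, haD, haX⟩ := member_cent hD hprim ht hX
  obtain ⟨b, hbD, hbY⟩ := member_cent hD hprim ht hY
  obtain ⟨g, hg⟩ := hprim.1 a haD b hbD
  set X' := X.map (MulAut.conj g).toMonoidHom with hX'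
  have hX'c : Nat.card X' = 5 := by
    rw [← Nat.card_congr (Subgroup.equivMapOfInjective _ _ (MulAut.conj g).injective).toEquiv, hX]
  have hbX : b ∈ Subgroup.centralizer (X' : Set G) := by
    rw [Subgroup.mem_centralizer_iff]
    rintro _ ⟨z, hz, rfl⟩
    have := Subgroup.mem_centralizer_iff.mp haX z hz
    show g * z * g⁻¹ * b = b * (g * z * g⁻¹)
    rw [← hg]
    calc g * z * g⁻¹ * (g * a * g⁻¹) = g * (z * a) * g⁻¹ := by group
      _ = g * (a * z) * g⁻¹ := by rw [this]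
      _ = g * a * g⁻¹ * (g * z * g⁻¹) := by group
  set S := Shift.setting_of hD hprim ht hbD
  have hX'd := le_of_commute S hbX
  have hYd := le_of_commute S hbY
  set H := Subgroup.closure (nset D b)
  have c1 := near_cent S (by norm_num) (by norm_num) hX'c hX'd
  have c2 := near_cent S (by norm_num) (by norm_num) hY hYd
  obtain ⟨e₁, he₁, h₁'⟩ := M22U.Frob.iso_five S.group S.next_prim S.next c1
  obtain ⟨q, hq⟩ := M22U.Frob.conj_five S.group S.next_prim S.next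
    (X := ((Y.subgroupOf H).map (QuotientGroup.mk' (Subgroup.center ↥H))).map e₁.symm.toMonoidHom) (by
      rw [← Nat.card_congr (Subgroup.equivMapOfInjective _ _ e₁.symm.injective).toEquiv, c2])
  obtain ⟨⟨k, hk⟩, hkq⟩ := QuotientGroup.mk_surjective (e₁ q)
  refine ⟨k * g, ?_⟩
  refine Subgroup.eq_of_le_of_card_ge ?_ (by
    rw [hY, ← Nat.card_congr (Subgroup.equivMapOfInjective _ _ (MulAut.conj (k * g)).injective).toEquiv, hX])
  rintro _ ⟨z, hz, rfl⟩
  set z' := g * z * g⁻¹ with hz'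
  have hz'X : z' ∈ X' := ⟨z, hz, rfl⟩
  show k * g * z * (k * g)⁻¹ ∈ Y
  rw [show k * g * z * (k * g)⁻¹ = k * z' * k⁻¹ by rw [hz']; group]
  have hmem : (QuotientGroup.mk ⟨z', hX'd hz'X⟩ : ↥H ⧸ Subgroup.center ↥H) ∈
      (Subgroup.zpowers (M22U.Frob.xel M22U.Frob.cfg5)).map e₁.toMonoidHom := by
    rw [h₁']; exact ⟨⟨z', hX'd hz'X⟩, hz'X, rfl⟩
  obtain ⟨w, hw, hwe⟩ := hmem
  have h2 : q * w * q⁻¹ ∈ ((Y.subgroupOf H).map (QuotientGroup.mk' (Subgroup.center ↥H))).map e₁.symm.toMonoidHom := by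
    rw [← hq]; exact ⟨w, hw, rfl⟩
  obtain ⟨_, ⟨y, hy, rfl⟩, hye⟩ := h2
  have h3 : (QuotientGroup.mk ((⟨k, hk⟩ : ↥H) * ⟨z', hX'd hz'X⟩ * (⟨k, hk⟩ : ↥H)⁻¹) : ↥H ⧸ Subgroup.center ↥H) =
      QuotientGroup.mk y := by
    rw [QuotientGroup.mk_mul, QuotientGroup.mk_mul, QuotientGroup.mk_inv, hkq, ← hwe]
    show e₁ q * e₁ w * (e₁ q)⁻¹ = _
    rw [← map_inv, ← map_mul, ← map_mul, ← hye]
    exact e₁.apply_symm_apply _
  have h4 : (QuotientGroup.mk (y⁻¹ * ((⟨k, hk⟩ : ↥H) * ⟨z', hX'd hz'X⟩ * (⟨k, hk⟩ : ↥H)⁻¹)) :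
      ↥H ⧸ Subgroup.center ↥H) = 1 := by
    rw [QuotientGroup.mk_mul, h3, ← QuotientGroup.mk_mul, inv_mul_cancel, QuotientGroup.mk_one]
  rcases S.central_cases h4 with h | h
  · have : (y : G)⁻¹ * (k * z' * k⁻¹) = 1 := h
    rw [← inv_mul_eq_one.mp this]; exact hy
  · exfalso
    have e1 : k * z' * k⁻¹ = (y : G) * b := inv_mul_eq_iff_eq_mul.mp h
    have h5 : (k * z' * k⁻¹) ^ 5 = 1 := by
      rw [conj_pow, show z' ^ 5 = 1 from hX'c ▸ congrArg Subtype.val (pow_card_eq_one' (x := (⟨z', hz'X⟩ : X'))),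
        mul_one, mul_inv_cancel]
    have hy5 : (y : G) ^ 5 = 1 := hY ▸ congrArg Subtype.val (pow_card_eq_one' (x := (⟨(y : G), hy⟩ : Y)))
    have hb2 := Spor.mul_self_of_order_two (hD.1.1 b hbD)
    rw [e1, (show Commute (y : G) b from Subgroup.mem_centralizer_iff.mp hbY _ hy).mul_pow, hy5, one_mul,
      show b ^ 5 = b by rw [pow_succ, show b ^ 4 = (b * b) * (b * b) by simp only [pow_succ, pow_zero, one_mul, mul_assoc], hb2, one_mul, one_mul]] at h5
    exact S.ne_one b hbD h5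

include hD hprim ht in
/-- the normaliser induces all automorphisms of a subgroup of order five -/
theorem aut_full {X : Subgroup G} (hX : Nat.card X = 5) :
    Function.Surjective X.normalizerMonoidHom := by
  haveI : Fact (Nat.Prime 5) := ⟨by norm_num⟩
  haveI : IsCyclic X := isCyclic_of_prime_card hX
  obtain ⟨d, hdD, hdX⟩ := member_cent hD hprim ht hX
  set S := Shift.setting_of hD hprim ht hdD
  have hXd := le_of_commute S hdX
  set H := Subgroup.closure (nset D d) with hH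
  set π := QuotientGroup.mk' (Subgroup.center ↥H) with hπ
  set Xb := (X.subgroupOf H).map π with hXb
  have c1 : Nat.card Xb = 5 := near_cent S (by norm_num) (by norm_num) hX hXd
  obtain ⟨e₁, he₁, h₁'⟩ := M22U.Frob.iso_five S.group S.next_prim S.next c1
  obtain ⟨F0, k1, k2, k3, -, -, -, k7, -⟩ :=
    M22U.Frob.main M22U.Frob.ok5 (M22U.Frob.no_invol M22U.Frob.ok5 S.group S.next_prim S.next)
      M22U.Frob.chain5 M22U.Frob.swap5 M22U.Frob.pi5 e₁ he₁
  rw [h₁'] at k2 k3 k7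
  have hF0 : Nat.card F0 = 20 := k1.trans M22U.Frob.cfg_facts.2.2.2.2.2.2.1
  have hF0N : F0 ≤ Subgroup.normalizer (Xb : Set (↥H ⧸ Subgroup.center ↥H)) := k7 ▸ le_sup_left
  set A := (F0.comap π).map H.subtype with hA
  have hd2 := hD.1.1 d hdD
  have hy5 : ∀ {y : G}, y ∈ X → y ^ 5 = 1 := fun {y} hy =>
    hX ▸ congrArg Subtype.val (pow_card_eq_one' (x := (⟨y, hy⟩ : X)))
  have hAN : A ≤ Subgroup.normalizer (X : Set G) := by
    rintro _ ⟨g, hg, rfl⟩
    have hgN := hF0N hg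
    rw [Subgroup.mem_normalizer_iff_map_conj_eq]
    refine Subgroup.eq_of_le_of_card_ge ?_ (le_of_eq (by
      rw [← Nat.card_congr (Subgroup.equivMapOfInjective _ _ (MulAut.conj (g : G)).injective).toEquiv]))
    rintro _ ⟨z, hz, rfl⟩
    show (g : G) * z * (g : G)⁻¹ ∈ X
    obtain ⟨y, hy, hye⟩ : π g * π ⟨z, hXd hz⟩ * (π g)⁻¹ ∈ Xb :=
      (Subgroup.mem_normalizer_iff.mp hgN _).mp ⟨⟨z, hXd hz⟩, hz, rfl⟩
    have h4 : (QuotientGroup.mk (y⁻¹ * (g * ⟨z, hXd hz⟩ * g⁻¹)) : ↥H ⧸ Subgroup.center ↥H) = 1 := by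
      show π (y⁻¹ * (g * ⟨z, hXd hz⟩ * g⁻¹)) = 1
      rw [map_mul, map_mul, map_mul, map_inv, map_inv, hye, inv_mul_cancel]
    rcases S.central_cases h4 with h | h
    · have : (y : G)⁻¹ * ((g : G) * z * (g : G)⁻¹) = 1 := h
      rw [← inv_mul_eq_one.mp this]; exact hy
    · exfalso
      have e1 : (g : G) * z * (g : G)⁻¹ = (y : G) * d := inv_mul_eq_iff_eq_mul.mp h
      have h5 : ((g : G) * z * (g : G)⁻¹) ^ 5 = 1 := by rw [conj_pow, hy5 hz, mul_one, mul_inv_cancel]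
      have hdd := Spor.mul_self_of_order_two hd2
      rw [e1, (show Commute (y : G) d from Subgroup.mem_centralizer_iff.mp hdX _ hy).mul_pow, hy5 (show (y : G) ∈ X from hy), one_mul,
        show d ^ 5 = d by rw [pow_succ, show d ^ 4 = (d * d) * (d * d) by simp only [pow_succ, pow_zero, one_mul, mul_assoc], hdd, one_mul, one_mul]] at h5
      exact S.ne_one d hdD h5
  have hAcard : 20 ≤ Nat.card A := by
    rw [hA, ← Nat.card_congr (Subgroup.equivMapOfInjective _ _ H.subtype_injective).toEquiv, ← hF0]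
    exact Nat.card_le_card_of_surjective (fun a : F0.comap π => (⟨π a, a.2⟩ : F0)) fun b => by
      obtain ⟨a, ha⟩ := QuotientGroup.mk'_surjective (Subgroup.center ↥H) (b : ↥H ⧸ Subgroup.center ↥H)
      exact ⟨⟨a, show π a ∈ F0 by rw [hπ, ha]; exact b.2⟩, Subtype.ext ha⟩
  have hdA : d ∈ A := ⟨⟨d, Cent.cent_le S (Commute.refl d)⟩, by
    show π _ ∈ F0
    rw [show π ⟨d, Cent.cent_le S (Commute.refl d)⟩ = 1 from (mk_eq_one_iff d).mpr fun e he => he.2.2]
    exact one_mem _, rfl⟩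
  have hA2 : Nat.card F0 * 2 ≤ Nat.card A := by
    rw [hA, ← Nat.card_congr (Subgroup.equivMapOfInjective _ _ H.subtype_injective).toEquiv]
    let f : ↥(F0.comap π) →* ↥F0 := (π.comp (F0.comap π).subtype).codRestrict F0 fun a => a.2
    have hf : Function.Surjective f := fun b => by
      obtain ⟨a, ha⟩ := QuotientGroup.mk'_surjective (Subgroup.center ↥H) (b : ↥H ⧸ Subgroup.center ↥H)
      exact ⟨⟨a, show π a ∈ F0 by rw [hπ, ha]; exact b.2⟩, Subtype.ext ha⟩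
    have h1 := Subgroup.card_mul_index f.ker
    rw [Subgroup.index_ker, MonoidHom.range_eq_top.mpr hf, Nat.card_congr Subgroup.topEquiv.toEquiv] at h1
    rw [← h1, mul_comm]
    refine Nat.mul_le_mul_right _ ?_
    obtain ⟨g0, hg0, hg0e⟩ := hdA
    haveI : Nontrivial f.ker := ⟨⟨⟨⟨g0, hg0⟩, Subtype.ext (by
      show π g0 = 1
      exact (mk_eq_one_iff d).mpr fun e he => by rw [show (g0 : G) = d from hg0e]; exact he.2.2)⟩, 1, fun h => by
      have := congrArg (fun t : f.ker => (((t : ↥(F0.comap π)) : ↥H) : G)) h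
      exact S.ne_one d hdD (hg0e.symm.trans this)⟩⟩
    exact Finite.one_lt_card
  -- the map to the automorphisms
  let θ : ↥A →* MulAut X := X.normalizerMonoidHom.comp (Subgroup.inclusion hAN)
  have hker : Nat.card θ.ker ≤ 10 := by
    let f : θ.ker → Fin 5 × Bool → Prop := fun _ _ => True
    have hle : ∀ a : θ.ker, ((a : ↥A) : G) ∈ X ⊔ Subgroup.zpowers d := by
      rintro ⟨⟨_, g, hg, rfl⟩, hk⟩
      have hgC : (g : G) ∈ Subgroup.centralizer (X : Set G) := by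
        have h : (⟨(g : G), hAN ⟨g, hg, rfl⟩⟩ : ↥(Subgroup.normalizer (X : Set G))) ∈ X.normalizerMonoidHom.ker := hk
        rw [Subgroup.normalizerMonoidHom_ker] at h
        exact h
      have hq : π g ∈ Xb := by
        rw [← k3]
        refine Subgroup.mem_inf.mpr ⟨hg, Subgroup.mem_centralizer_iff.mpr ?_⟩
        rintro _ ⟨z, hz, rfl⟩
        rw [← map_mul, ← map_mul]
        exact congrArg π (Subtype.ext (Subgroup.mem_centralizer_iff.mp hgC _ hz))
      obtain ⟨z, hz, hze⟩ := hq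
      have h4 : (QuotientGroup.mk (z⁻¹ * g) : ↥H ⧸ Subgroup.center ↥H) = 1 := by
        show π (z⁻¹ * g) = 1
        rw [map_mul, map_inv, hze, inv_mul_cancel]
      rcases S.central_cases h4 with h | h
      · show (g : G) ∈ _
        rw [← inv_mul_eq_one.mp h]; exact Subgroup.mem_sup_left hz
      · show (g : G) ∈ _
        rw [inv_mul_eq_iff_eq_mul.mp h]
        exact mul_mem (Subgroup.mem_sup_left hz) (Subgroup.mem_sup_right (Subgroup.mem_zpowers _))
    refine (Nat.card_le_card_of_injective (fun a : θ.ker => (⟨((a : ↥A) : G), hle a⟩ : ↥(X ⊔ Subgroup.zpowers d)))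
      fun a b h => Subtype.ext (Subtype.ext (congrArg Subtype.val h :))).trans (le_of_eq ?_)
    rw [JComp.card_sup_disjoint ?_ ?_, hX, Nat.card_zpowers, hd2]
    · exact (Subgroup.zpowers_le.mpr hdX).trans (Cyc.cent_le_norm X)
    · refine Subgroup.eq_bot_of_card_le _ (Nat.le_of_dvd (by norm_num) ?_)
      have h1 := Subgroup.card_dvd_of_le (inf_le_left : X ⊓ Subgroup.zpowers d ≤ X)
      have h2 := Subgroup.card_dvd_of_le (inf_le_right : X ⊓ Subgroup.zpowers d ≤ _)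
      rw [hX] at h1; rw [Nat.card_zpowers, hd2] at h2
      exact Nat.dvd_gcd h1 h2
  have haut : Nat.card (MulAut X) = 4 := by rw [IsCyclic.card_mulAut, hX]; decide
  have hrange : θ.range = ⊤ := by
    refine Subgroup.eq_top_of_le_card _ ?_
    rw [haut]
    have h1 := Subgroup.card_mul_index θ.ker
    rw [Subgroup.index_ker] at h1
    by_contra hlt
    push Not at hlt
    have : Nat.card θ.ker * Nat.card θ.range ≤ 10 * 3 := Nat.mul_le_mul hker (by omega)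
    rw [h1] at this
    omega
  intro α
  obtain ⟨a, ha⟩ := hrange.ge (Subgroup.mem_top α)
  exact ⟨_, ha⟩

include hD hprim ht in
theorem normalizer5 {X : Subgroup G} (hX : Nat.card X = 5) :
    ∃ F : Subgroup G, Nat.card ↥F = 20 ∧ X ≤ F ∧ F ⊓ Subgroup.centralizer (X : Set G) = X ∧
      F ⊓ Subgroup.closure (D ∩ (Subgroup.centralizer (X : Set G) : Set G)) = ⊥ ∧
      (∀ x ∈ F, ∀ y ∈ Subgroup.closure (D ∩ (Subgroup.centralizer (X : Set G) : Set G)), x * y = y * x) ∧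
      F ⊔ Subgroup.closure (D ∩ (Subgroup.centralizer (X : Set G) : Set G)) = Subgroup.normalizer (X : Set G) ∧
      Nonempty (↥(Subgroup.closure (D ∩ (Subgroup.centralizer (X : Set G) : Set G))) ≃* Equiv.Perm (Fin 7)) := by
  haveI : Fact (Nat.Prime 5) := ⟨by norm_num⟩
  haveI : IsCyclic X := isCyclic_of_prime_card hX
  obtain ⟨Φ₀⟩ := exists_frame hD hprim ht
  obtain ⟨g, hg⟩ := conj_five hD hprim ht Φ₀.card_X hX
  have he : (Φ₀.e.trans (MulAut.conj g)) '' conjugatesOf Below.tA = D := by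
    ext z
    constructor
    · rintro ⟨v, hv, rfl⟩
      exact hD.2.1 g _ (Φ₀.mem_D hv)
    · intro hz
      have hz' : g⁻¹ * z * g ∈ D := (Spor.conj_mem_iff hD.2.1 g).1 hz
      obtain ⟨v, hv, hve⟩ := Φ₀.of_D hz'
      exact ⟨v, hv, by show g * Φ₀.e v * g⁻¹ = z; rw [hve]; group⟩
  let Φ : Frame D := ⟨_, he⟩
  have hXΦ : Φ.X = X := by rw [← hg, Frame.X, Frame.X, Subgroup.map_map]; rfl
  obtain ⟨F, h1, h2, h3, h4, h5, h6, h7, h8, h9, -⟩ := Φ.main_at
  rw [hXΦ] at h1 h2 h3 h6 h8 h9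
  rw [← h3] at h4 h5 h6 h7
  refine ⟨F, ?_, h1, h2, h4, h5, h6, h7⟩
  have hm : Nat.card X.normalizerMonoidHom.range = 4 := by
    rw [MonoidHom.range_eq_top.mpr (aut_full hD hprim ht hX), Nat.card_congr Subgroup.topEquiv.toEquiv,
      IsCyclic.card_mulAut, hX]
    decide
  have hk : Nat.card X.normalizerMonoidHom.ker = 5 * 5040 := by
    rw [Subgroup.normalizerMonoidHom_ker, Nat.card_congr (Subgroup.subgroupOfEquivOfLe (Cyc.cent_le_norm X)).toEquiv, h8]
  have := Subgroup.card_mul_index X.normalizerMonoidHom.ker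
  rw [Subgroup.index_ker, hm, hk, ← h9] at this
  omega

end Cfsg.Agent.Spor.M23Rel.Sym
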