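import Cfsg.Agent.Lib.Spor.M23RelConn
import Cfsg.Agent.Lib.Spor.ThreeConnected

/-!
In type M(23), only the powers of a member centralise all the members commuting with it.
-/

set_option autoImplicit false
set_option maxRecDepth 100000
set_option linter.unusedSectionVars false

namespace Cfsg.Agent.Spor.M23Rel.Fix

open Cfsg.Agent.Spor.M22U (nset)

/-- a subgroup containing the members commuting with one member and a further member is everything -/
theorem dsub_top {G : Type*} [Group G] [Finite G] {D : Set G} (hD : Cfsg.IsThreeTranspositionGroup D)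
    (hprim : Cfsg.IsPrimitiveUnderConj D) (hw : ∃ a ∈ D, ∃ b ∈ D, a ≠ b ∧ Commute a b) {d : G} (hd : d ∈ D)
    (K : Subgroup G) (hle : ∀ y ∈ D, Commute d y → y ∈ K) {c : G} (hc : c ∈ D) (hcK : c ∈ K)
    (hdc : ¬ Commute d c) : K = ⊤ := by
  set S := Subgroup.closure {y : G | y ∈ D ∧ y ∈ K} with hS
  have hSK : S ≤ K := (Subgroup.closure_le _).2 fun y hy => hy.2
  have hSD : Cfsg.IsDSubgroup D S := by
    refine le_antisymm ((Subgroup.closure_le _).2 fun x hx => hx.2) ?_
    exact (Subgroup.closure_le _).2 fun x hx =>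
      Subgroup.subset_closure ⟨hx.1, Subgroup.subset_closure hx⟩
  obtain ⟨-, hmax⟩ := Spor.maximal_dSubgroup hD hprim hw hd
  rcases hmax S hSD ((Subgroup.closure_le _).2 fun y hy => Subgroup.subset_closure ⟨hy.1, hle y hy.1 hy.2⟩)
    with e | e
  · exfalso
    apply hdc
    have hcS : c ∈ S := Subgroup.subset_closure ⟨hc, hcK⟩
    rw [e] at hcS
    have hle' : Subgroup.closure {y : G | y ∈ D ∧ Commute d y} ≤ Subgroup.centralizer ({d} : Set G) :=
      (Subgroup.closure_le _).2 fun y hy => Subgroup.mem_centralizer_singleton_iff.2 hy.2.symm.eq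
    exact (Subgroup.mem_centralizer_singleton_iff.1 (hle' hcS)).symm
  · exact top_le_iff.mp (e ▸ hSK)

/-- an automorphism fixing a member and the members commuting with it is trivial or conjugation by it -/
theorem aut_dichotomy {X : Type*} [Group X] [Finite X] {E : Set X} (hE : Cfsg.IsThreeTranspositionGroup E)
    (hp : Cfsg.IsPrimitiveUnderConj E) (ht : Cfsg.IsOfTypeM22 X E) {a : X} (ha : a ∈ E) (φ : X ≃* X)
    (hφ : ∀ e ∈ E, φ e ∈ E) (hfa : φ a = a) (hfix : ∀ y ∈ E, Commute a y → φ y = y) :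
    (∀ x, φ x = x) ∨ ∀ x, φ x = a * x * a⁻¹ := by
  haveI := Fi22Cert.order.1
  obtain ⟨e, hea, heE⟩ := M22U.Facts.exists_iso_at hE hp ht ha
  set F := M22U.Fischer.frame
  have hFa : e F.a = a := by
    rw [show F.a = Fi22Cert.U62Act.tA from M22U.Fischer.mem_nil]; exact hea
  have hm : ∀ v ∈ M22U.Fischer.Dc, e v ∈ E := fun v hv => heE ▸ ⟨v, hv, rfl⟩
  have key : ∀ y ∈ E, φ y = y ∨ φ y = a * y * a⁻¹ := by
    intro y hy
    rw [← heE] at hy
    obtain ⟨u, hu, rfl⟩ := hy
    rcases F.mem_cases hu with rfl | ⟨x, hx, rfl⟩ | ⟨k, hk, b, rfl⟩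
    · exact Or.inl (by rw [hFa, hfa])
    · exact Or.inl (hfix _ (hm _ (F.pt_mem hx).1) (hFa ▸ (F.pt_mem hx).2.2.map e.toMonoidHom))
    obtain ⟨v, hv, hev⟩ : φ (e (F.sh k b)) ∈ e '' M22U.Fischer.Dc := heE.symm ▸ hφ _ (hm _ hu)
    have hva : ¬ Commute F.a v := fun h => by
      apply (F.sh_mem hk b).2
      have h1 : Commute (φ a) (φ (e (F.sh k b))) := by rw [hfa, ← hev, ← hFa]; exact h.map e.toMonoidHom
      have h2 := (h1.map φ.symm.toMonoidHom).map e.symm.toMonoidHom
      simpa [← hFa] using h2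
    rcases F.mem_cases hv with rfl | ⟨x, hx, rfl⟩ | ⟨l, hl, b', rfl⟩
    · exact absurd (Commute.refl _) hva
    · exact absurd (F.pt_mem hx).2.2 hva
    have hkl : k = l := F.set_inj hk hl fun x hx hin => by
      rw [← F.sh_pt hl hx b']
      have h1 := (((F.sh_pt hk hx b).mpr hin).map e.toMonoidHom).map φ.toMonoidHom
      have h2 : φ (e (F.pt x)) = e (F.pt x) :=
        hfix _ (hm _ (F.pt_mem hx).1) (hFa ▸ (F.pt_mem hx).2.2.map e.toMonoidHom)
      simp only [MulEquiv.coe_toMonoidHom] at h1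
      rw [← hev, h2] at h1
      simpa using h1.map e.symm.toMonoidHom
    subst hkl
    rw [← hev, ← hFa, ← map_inv, ← map_mul, ← map_mul, F.conj_a_sh k b]
    cases b <;> cases b' <;> simp
  by_cases hall : ∀ y ∈ E, φ y = a * y * a⁻¹
  · right
    exact fun x => DFunLike.congr_fun (MonoidHom.eq_of_eqOn_dense hE.2.2
      (f := φ.toMonoidHom) (g := (MulAut.conj a).toMonoidHom) fun y hy => hall y hy) x
  left
  push Not at hall
  obtain ⟨y0, hy0, hne⟩ := hall
  have hy0f : φ y0 = y0 := (key y0 hy0).resolve_right hne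
  have hay : ¬ Commute a y0 := fun h => hne (by rw [hy0f, h.eq, mul_inv_cancel_right])
  obtain ⟨p, hp1, hp2, hp3⟩ : ∃ p ∈ E, p ≠ a ∧ Commute a p := by
    have h := F.pt_mem (show (0 : ℕ) < 693 by norm_num)
    exact ⟨_, hm _ h.1, fun e' => h.2.1 (e.injective (e'.trans hFa.symm)), hFa ▸ h.2.2.map e.toMonoidHom⟩
  have htop : φ.toMonoidHom.eqLocus (MonoidHom.id X) = ⊤ := by
    refine dsub_top hE hp ⟨a, ha, p, hp1, Ne.symm hp2, hp3⟩ ha _ (fun y hy hc => ?_) hy0 hy0f hay
    exact hfix y hy hc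
  intro x
  have : x ∈ φ.toMonoidHom.eqLocus (MonoidHom.id X) := htop ▸ Subgroup.mem_top x
  exact this

section Aut

variable {G : Type*} [Group G] {D : Set G} {d g : G}

theorem conj_closure (hE : Pre D) (hg : Commute g d) {x : G} (hx : x ∈ Subgroup.closure (nset D d)) :
    g * x * g⁻¹ ∈ Subgroup.closure (nset D d) := by
  have : Subgroup.closure (nset D d) ≤ (Subgroup.closure (nset D d)).comap (MulAut.conj g).toMonoidHom :=
    (Subgroup.closure_le _).2 fun y hy => Subgroup.subset_closure (nset_conj hE hg hy)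
  exact this hx

/-- conjugation on the subgroup of the members commuting with one member -/
def autH (hE : Pre D) (hg : Commute g d) :
    ↥(Subgroup.closure (nset D d)) ≃* ↥(Subgroup.closure (nset D d)) where
  toFun x := ⟨g * x * g⁻¹, conj_closure hE hg x.2⟩
  invFun x := ⟨g⁻¹ * x * g⁻¹⁻¹, conj_closure hE hg.inv_left x.2⟩
  left_inv x := Subtype.ext (by show g⁻¹ * (g * x * g⁻¹) * g⁻¹⁻¹ = x; group)
  right_inv x := Subtype.ext (by show g * (g⁻¹ * x * g⁻¹⁻¹) * g⁻¹ = x; group)
  map_mul' x y := Subtype.ext (by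
    show g * ((x : G) * y) * g⁻¹ = g * x * g⁻¹ * (g * y * g⁻¹); group)

/-- the automorphism of the next level induced by an element fixing the member -/
noncomputable def autQ (hE : Pre D) (hg : Commute g d) :
    (↥(Subgroup.closure (nset D d)) ⧸ Subgroup.center ↥(Subgroup.closure (nset D d))) ≃*
      (↥(Subgroup.closure (nset D d)) ⧸ Subgroup.center ↥(Subgroup.closure (nset D d))) :=
  QuotientGroup.congr _ _ (autH hE hg) (Subgroup.characteristic_iff_map_eq.mp inferInstance _)

theorem autQ_mk (hE : Pre D) (hg : Commute g d) (x : ↥(Subgroup.closure (nset D d))) :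
    autQ hE hg x = QuotientGroup.mk (autH hE hg x) := rfl

theorem autQ_mem (hE : Pre D) (hg : Commute g d) : ∀ e ∈ nextSet D d, autQ hE hg e ∈ nextSet D d := by
  rintro _ ⟨x, hx, rfl⟩
  exact ⟨autH hE hg x, nset_conj hE hg hx, rfl⟩

end Aut

/-- the standing hypotheses -/
structure Setting {G : Type*} [Group G] (D : Set G) (d : G) : Prop where
  hD : Cfsg.IsThreeTranspositionGroup D
  prim : Cfsg.IsPrimitiveUnderConj D
  mem : d ∈ D
  center : Subgroup.center G = ⊥
  sep : Sep D
  next : Cfsg.IsOfTypeM22 _ (nextSet D d)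
  relSix : NoRel 6 D

theorem exists_setting {G : Type*} [Group G] [Finite G] {D : Set G} (hD : Cfsg.IsThreeTranspositionGroup D)
    (hprim : Cfsg.IsPrimitiveUnderConj D) (ht : Cfsg.IsOfTypeM23 G D) : ∃ d, Setting D d := by
  have hrel := Top.noRel_group hD hprim (Or.inl ht)
  obtain ⟨hZ, d, hd, c, hc, hnc, h22, -⟩ := ht
  refine ⟨d, hD, hprim, hd, hZ, fun x hx y hy _ _ hxy => ?_, h22, hrel.2⟩
  rcases relation_dichotomy hD hprim (SameV D) (fun _ _ _ _ => Iff.rfl) (fun _ _ _ _ h => h.symm)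
      (fun _ _ _ _ _ _ h h' => h.trans h') (fun g _ _ _ _ h => h.conj hD.2.1 g) with h | h
  · exact h x hx y hy hxy
  · exact absurd ((h d hd c hc).commute hd) hnc

variable {G : Type*} [Group G] [Finite G] {D : Set G} {d : G}

namespace Setting

variable (S : Setting D d)
include S

theorem pre : Pre D := pre_of_group S.hD

theorem ne_one : ∀ e ∈ D, e ≠ 1 := fun e he h1 => by
  have := S.hD.1.1 e he
  rw [h1, orderOf_one] at this
  norm_num at this

theorem one : One D := fun a ha b hb _ _ => S.prim.1 a ha b hb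

theorem next_ne : ∀ f ∈ nextSet D d, f ≠ 1 := next_ne_one S.pre S.ne_one S.one S.sep S.mem

theorem group : Cfsg.IsThreeTranspositionGroup (nextSet D d) :=
  next_group S.pre S.ne_one S.one S.sep S.mem

theorem next_prim : Cfsg.IsPrimitiveUnderConj (nextSet D d) := Conn.primitive22 S.group S.next

/-- the image of a member -/
abbrev img (_S : Setting D d) (y : G) (hy : y ∈ nset D d) :
    ↥(Subgroup.closure (nset D d)) ⧸ Subgroup.center ↥(Subgroup.closure (nset D d)) :=
  QuotientGroup.mk ⟨y, Subgroup.subset_closure hy⟩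

theorem img_inj {y z : G} (hy : y ∈ nset D d) (hz : z ∈ nset D d) (h : S.img y hy = S.img z hz) : y = z :=
  mk_inj S.pre d hy hz (S.next_ne _ ⟨⟨y, Subgroup.subset_closure hy⟩, hy, rfl⟩) h

theorem exists_member : ∃ y, y ∈ nset D d := by
  obtain ⟨-, _, ⟨x, hx, -⟩, -⟩ := S.next
  exact ⟨x, hx⟩

/-- only 1 and the member centralise the members commuting with it -/
theorem fix_ext {w : G} (hw : Commute w d) (h : ∀ y ∈ nset D d, Commute w y) : w = 1 ∨ w = d := by
  have hE := S.pre
  obtain ⟨y0, hy0⟩ := S.exists_member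
  obtain ⟨g, hg⟩ := S.prim.1 y0 hy0.1 d S.mem
  set a := g * d * g⁻¹ with hadef
  have ha : a ∈ nset D d := by
    refine ⟨hE.conj g d S.mem, fun e => hy0.2.1 ?_, ?_⟩
    · exact (mul_left_cancel (mul_right_cancel (e.trans hg.symm))).symm
    · have := (commute_conj_iff (g := g)).mpr hy0.2.2.symm
      rwa [hg] at this
  set w' := g * w * g⁻¹ with hw'
  have hwy : Commute w' d := by
    have := (commute_conj_iff (g := g)).mpr (h y0 hy0)
    rwa [hg] at this
  have hwa : Commute w' a := commute_conj_iff.mpr hw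
  have hfix : ∀ x ∈ nset D d, Commute a x → Commute w' x := by
    intro x hx hax
    rw [hw', ← show g * (g⁻¹ * x * g) * g⁻¹ = x by group, commute_conj_iff]
    by_cases hxd : g⁻¹ * x * g = d
    · rw [hxd]; exact hw
    refine h _ ⟨(conj_mem_iff hE.conj g).1 hx.1, hxd, ?_⟩
    rw [← commute_conj_iff (g := g), show g * (g⁻¹ * x * g) * g⁻¹ = x by group]
    exact hax
  have conj_eq : ∀ (v x : G), Commute v x → v * x * v⁻¹ = x := fun v x h' => by
    rw [h'.eq, mul_inv_cancel_right]
  obtain ⟨u, hu, hvall⟩ : ∃ u, (u = w ∨ u = d⁻¹ * w) ∧ ∀ x ∈ nset D d, Commute (g * u * g⁻¹) x := by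
    rcases aut_dichotomy S.group S.next_prim S.next (a := S.img a ha)
      ⟨⟨a, Subgroup.subset_closure ha⟩, ha, rfl⟩ (autQ hE hwy) (autQ_mem hE hwy)
      (congrArg QuotientGroup.mk (Subtype.ext (conj_eq w' a hwa)))
      (by
        rintro _ ⟨⟨x, hxH⟩, hx, rfl⟩ hc
        exact congrArg QuotientGroup.mk (Subtype.ext (conj_eq w' x (hfix x hx (commute_lift hE d ha hx hc)))))
      with hφ | hφ
    · refine ⟨w, Or.inl rfl, fun x hx => ?_⟩
      exact mul_inv_eq_iff_eq_mul.mp (S.img_inj (nset_conj hE hwy hx) hx (hφ (S.img x hx)))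
    · refine ⟨d⁻¹ * w, Or.inr rfl, fun x hx => ?_⟩
      have he : w' * x * w'⁻¹ = a * x * a⁻¹ :=
        S.img_inj (nset_conj hE hwy hx) (nset_conj hE ha.2.2.symm hx) (hφ (S.img x hx))
      have : g * (d⁻¹ * w) * g⁻¹ = a⁻¹ * w' := by rw [hadef, hw']; group
      rw [this]
      show a⁻¹ * w' * x = x * (a⁻¹ * w')
      calc a⁻¹ * w' * x = a⁻¹ * (w' * x * w'⁻¹) * w' := by group
        _ = _ := by rw [he]; group
  obtain ⟨c, hc, hdc⟩ := noncentral hE S.one S.sep hy0.1 (S.ne_one _ hy0.1)
    (show d ∈ nset D y0 from ⟨S.mem, Ne.symm hy0.2.1, hy0.2.2.symm⟩) (S.ne_one _ S.mem)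
  have hud : Commute u d := by
    rcases hu with rfl | rfl
    exacts [hw, (Commute.refl d).inv_left.mul_left hw]
  have hu1 : u = 1 := by
    have hK : Subgroup.centralizer ({u} : Set G) = ⊤ := by
      refine dsub_top S.hD S.prim ⟨d, S.mem, y0, hy0.1, Ne.symm hy0.2.1, hy0.2.2⟩ S.mem _
        (fun y hy hdy => Subgroup.mem_centralizer_singleton_iff.2 ?_) hc.1
        (Subgroup.mem_centralizer_singleton_iff.2 ?_) hdc
      · by_cases hyd : y = d
        · subst hyd; exact hud.symm.eq
        have hy' : y ∈ nset D d := ⟨hy, hyd, hdy⟩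
        rcases hu with rfl | rfl
        · exact (h y hy').symm.eq
        · exact (hdy.inv_left.mul_left (h y hy')).symm.eq
      · have hgc : g * c * g⁻¹ ∈ nset D d := by
          refine ⟨hE.conj g c hc.1, fun e => hc.2.1 ?_, ?_⟩
          · exact mul_left_cancel (mul_right_cancel (e.trans hg.symm))
          · have := (commute_conj_iff (g := g)).mpr hc.2.2
            rwa [hg] at this
        exact (commute_conj_iff.mp (hvall _ hgc)).symm.eq
    have hcen : u ∈ Subgroup.center G := by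
      rw [Subgroup.mem_center_iff]
      intro x
      exact Subgroup.mem_centralizer_singleton_iff.1 (hK ▸ Subgroup.mem_top x)
    rwa [S.center, Subgroup.mem_bot] at hcen
  rcases hu with rfl | rfl
  · exact Or.inl hu1
  · exact Or.inr (inv_mul_eq_one.mp hu1).symm

/-- an element of the centre of the subgroup of the members commuting with the member -/
theorem central_cases {x : ↥(Subgroup.closure (nset D d))}
    (h : (x : ↥(Subgroup.closure (nset D d)) ⧸ Subgroup.center ↥(Subgroup.closure (nset D d))) = 1) :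
    (x : G) = 1 ∨ (x : G) = d :=
  S.fix_ext (commute_of_mem x.2) ((mk_eq_one_iff d).mp h)

end Setting

end Cfsg.Agent.Spor.M23Rel.Fix
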