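import Cfsg.Agent.Lib.Spor.M23RelCycDefs
import Cfsg.Agent.Lib.Spor.M23RelFixData

/-!
The fixed points of the element of order 13 in Fi23.
-/

set_option autoImplicit false
set_option maxRecDepth 100000
set_option Elab.async false

namespace Cfsg.Agent.Spor.M23Rel.Cyc

open Cfsg.Agent.Spor.CC Data

theorem cov13_0 : rangeOK (covOK w13 16 nr13 tab13 rep13) 0 8000 = true := by decide +kernel

theorem cov13_8000 : rangeOK (covOK w13 16 nr13 tab13 rep13) 8000 8000 = true := by decide +kernel

theorem cov13_16000 : rangeOK (covOK w13 16 nr13 tab13 rep13) 16000 8000 = true := by decide +kernel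

theorem cov13_24000 : rangeOK (covOK w13 16 nr13 tab13 rep13) 24000 7671 = true := by decide +kernel

/-- a representative is moved or is one of the fixed points -/
noncomputable def mov13 (i : ℕ) : Bool :=
  !(Nat.beq (e10 w13 (fld rep13 16 i)) (fld rep13 16 i)) || fx13.any fun f => Nat.beq f (fld rep13 16 i)

theorem moved13 : rangeOK mov13 0 nr13 = true := by decide +kernel

theorem fxok13 : (∀ x ∈ w13, x < 10) ∧ (fx13.all fun f => ptOK f && Nat.beq (e10 w13 f) f) = true ∧
    e10 w13 0 ≠ 0 ∧ lettersOK 10 [powW 13 w13] = true ∧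
    fixOK Fi23Cert.RepA.rows 10 [powW 13 w13] (Fi23Cert.RepA.levels.map Orb.b) = true := by
  decide +kernel

end Cfsg.Agent.Spor.M23Rel.Cyc

namespace Cfsg.Agent.Spor.M23Rel.Cyc

open Cfsg.Agent.Spor.CC Data

theorem act13 : e10 (mw (fx13.getD 0 0)) (fx13.getD 1 0) = fx13.getD 2 0 ∧ fx13.getD 1 0 ≠ fx13.getD 2 0 := by
  decide +kernel

end Cfsg.Agent.Spor.M23Rel.Cyc
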