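import Cfsg.Agent.Lib.Spor.M22UNorm
import Cfsg.Agent.Lib.Spor.M23RelBottom

/-!
Coordinates on the members commuting with one member, for a level whose next level is PSU(6,2).
-/

set_option autoImplicit false
set_option maxRecDepth 100000
set_option maxHeartbeats 2000000
set_option linter.unusedSectionVars false

namespace Cfsg.Agent.Spor.M23Rel.Frame22

open Cfsg.Agent.Small.Unitary Cfsg.Agent.Spor.CC Cfsg.Agent.Spor.SpFour Cfsg.Agent.Spor.M22U
open Cfsg.Agent.Spor.M22U.Sym (timg)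
open Cfsg.Agent.Spor.M22U.Norm

variable {G : Type*} [Group G] [Finite G] {D : Set G}

theorem coord_level (hD : Cfsg.IsThreeTranspositionGroup D) (h1 : One D) (hS : Sep D) {d : G} (hd : d ∈ D)
    (φ : ↥(Subgroup.closure (nset D d)) ⧸ Subgroup.center ↥(Subgroup.closure (nset D d)) ≃* Cfsg.PSU 6 F4 2) :
    Nonempty (Coord D d) := by
  have hE := pre_of_group hD
  have hne : ∀ e ∈ D, e ≠ 1 := fun e he h1 => by
    have := hD.1.1 e he
    rw [h1, orderOf_one] at this
    norm_num at this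
  have hp := pre_next hE d
  have hne' := next_ne_one hE hne h1 hS hd
  let el : ↥(nset D d) → ↥(Subgroup.closure (nset D d)) := fun x => ⟨x, Subgroup.subset_closure x.2⟩
  let ψ : ↥(Subgroup.closure (nset D d)) →* Cfsg.PSU 6 F4 2 :=
    φ.toMonoidHom.comp (QuotientGroup.mk' (Subgroup.center ↥(Subgroup.closure (nset D d))))
  have hpt : ∀ x, ∃ i : Fin 693, ψ (el x) = Pts.ptr i := fun x => by
    obtain ⟨i, hi, e⟩ := Bottom.to_point hp φ ⟨el x, x.2, rfl⟩ (hne' _ ⟨el x, x.2, rfl⟩)
    exact ⟨⟨i, hi⟩, e⟩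
  choose f hf using hpt
  have hinj : Function.Injective f := fun x y h => Subtype.ext (mk_inj hE d x.2 y.2
    (hne' _ ⟨el x, x.2, rfl⟩) (φ.injective (show ψ (el x) = ψ (el y) by rw [hf, hf, h])))
  have hsurj : Function.Surjective f := fun k => by
    obtain ⟨h, hh, e⟩ := Bottom.all_points hp φ k.2
    refine ⟨⟨h, hh⟩, Fin.ext (Pts.ptr_inj (f _).2 k.2 ?_)⟩
    rw [← hf]
    exact (congrArg φ e).trans (φ.apply_symm_apply _)
  refine ⟨⟨Equiv.ofBijective f ⟨hinj, hsurj⟩, fun x y z hz => ?_, fun x y => ?_⟩⟩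
  · obtain ⟨hl, e⟩ := Sym.conj_vec (f x).2 (f y).2
    show (f z : ℕ) = timg (f x) (f y)
    refine Pts.ptr_inj (f z).2 hl ?_
    rw [← e, ← hf, ← hf, ← hf, ← map_inv, ← map_mul, ← map_mul]
    exact congrArg ψ (Subtype.ext hz)
  · show _ ↔ herm (Pts.gv (f x)) (Pts.gv (f y)) = 0
    rw [← Pts.ptr_commute (f x).2 (f y).2, ← hf, ← hf]
    refine ⟨fun h => Commute.map (Subtype.ext h.eq) ψ, fun h => commute_lift hE d x.2 y.2 ?_⟩
    have h2 := h.map φ.symm.toMonoidHom
    simpa [ψ, el] using h2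

theorem frame_data (hD : Cfsg.IsThreeTranspositionGroup D) {d c : G} (hd : d ∈ D) (hc : c ∈ D)
    (hnc : ¬ Commute d c) {c₃ : ZMod 3} (hc₃ : c₃ ≠ 0)
    (hL : Cfsg.IsProjReflectionGroupModThree
      (↥(Subgroup.closure (nset D d ∩ nset D c)) ⧸
        Subgroup.center ↥(Subgroup.closure (nset D d ∩ nset D c))) 6 1 c₃) (C : Coord D d) :
    ∃ C2 : Coord D d, ∀ y : ↥(nset D d), Commute c (y : G) ↔ inT0 (C2.e y) = true := by
  obtain ⟨s, hs, hsinj, hspat, hscount⟩ := roots hD hc₃ hL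
  set Ts := nset D d ∩ nset D c
  let el : ∀ i, i < 7 → ↥(nset D d) := fun i hi => ⟨s i, (hs i hi).1⟩
  let p : ℕ → ℕ := fun i => if h : i < 7 then (C.e (el i h) : ℕ) else 0
  have hp : ∀ i (hi : i < 7), p i = C.e (el i hi) := fun i hi => dif_pos hi
  have hppat : ∀ k < 6, ∀ l < 6, herm (Pts.gv (p k)) (Pts.gv (p l)) = 0 ↔ ¬(k + 1 = l ∨ l + 1 = k) := by
    intro k hk l hl
    rw [hp k (by omega), hp l (by omega), ← C.comm]
    show Commute (s k) (s l) ↔ _
    rw [hspat k (by omega) l (by omega), ← decide_eq_true_iff (p := herm _ _ = 0), Sym.path_ok k hk l hl]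
    simp
  obtain ⟨S, hS, hsep⟩ := Sym.exists_simi p (fun k hk => by
    rw [hp k (by omega)]; exact (C.e _).2) hppat
  have hcount : Ts.ncard = 126 := hscount fun x hx => by
    obtain ⟨k, hk, hne⟩ := hsep (C.e ⟨x, hx.1⟩) (C.e _).2
    refine ⟨k, hk, fun h => hne ?_⟩
    rw [hp k (by omega)]
    exact (C.comm _ _).mp h
  -- coordinates carrying the six members onto the six points
  set C1 := C.move S
  have hC1 : ∀ k (hk : k < 6), (C1.e (el k (by omega)) : ℕ) = gpt k := fun k hk => by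
    have := hS k hk; rw [hp k (by omega)] at this; exact this
  obtain ⟨C2, hC2⟩ : ∃ C2 : Coord D d, ∀ k (hk : k < 7), (C2.e (el k hk) : ℕ) = gpt k := by
    set x := (C1.e (el 6 (by norm_num)) : ℕ)
    have hx : ∀ k < 6, herm (Pts.gv (gpt k)) (Pts.gv x) = 0 ↔ herm (Pts.gv (gpt k)) (Pts.gv (gpt 6)) = 0 := by
      intro k hk
      rw [← hC1 k hk, ← C1.comm, hC1 k hk]
      exact hspat k (by omega) 6 (by norm_num)
    rcases Sym.seventh (C1.e _).2 hx with h | h | h
    · exfalso
      have e : C1.e (el 6 (by norm_num)) = C1.e (el 1 (by norm_num)) :=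
        Fin.ext (h.trans (hC1 1 (by norm_num)).symm)
      have := hsinj 6 (by norm_num) 1 (by norm_num) (congrArg Subtype.val (C1.e.injective e))
      omega
    · refine ⟨C1, fun k hk => ?_⟩
      by_cases hk6 : k < 6
      · exact hC1 k hk6
      · obtain rfl : k = 6 := by omega
        exact h
    · refine ⟨C1.move Sym.conjMap, fun k hk => ?_⟩
      show Sym.conjMap.P (C1.e (el k hk)) = gpt k
      by_cases hk6 : k < 6
      · rw [hC1 k hk6]; exact Sym.conj_ok.1 k hk6
      · obtain rfl : k = 6 := by omega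
        rw [show (C1.e (el 6 hk) : ℕ) = Dat.xAlt from h]; exact Sym.conj_ok.2
  -- the standard subset
  have hsub : ∀ x (hx : x < 693), inT0 x = true → Commute c (C2.e.symm ⟨x, hx⟩ : G) := by
    have hword : ∀ w : List ℕ, below 7 w = true → ∀ j (hj : j < 7),
        ∃ h : pev w (gpt j) < 693, Commute c (C2.e.symm ⟨_, h⟩ : G) := by
      intro w
      induction w with
      | nil =>
        intro _ j hj
        refine ⟨gpt_lt (by omega), ?_⟩
        rw [show (⟨pev [] (gpt j), gpt_lt (by omega)⟩ : Fin 693) = C2.e (el j hj) from Fin.ext (hC2 j hj).symm,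
          Equiv.symm_apply_apply]
        exact (hs j hj).2.2.2
      | cons i w ih =>
        intro hw j hj
        rw [below_iff] at hw
        obtain ⟨hlt, hcm⟩ := ih (below_iff.mpr fun z hz => hw z (by simp [hz])) j hj
        have hi : i < 7 := hw i (by simp)
        set y := C2.e.symm ⟨_, hlt⟩
        have hz : s i * y * (s i)⁻¹ ∈ nset D d := by
          have hsd : s i * d * (s i)⁻¹ = d := mul_inv_eq_iff_eq_mul.mpr (hs i hi).1.2.2.symm.eq
          refine ⟨hD.2.1 _ _ y.2.1, fun h => y.2.2.1 (mul_left_cancel (mul_right_cancel (h.trans hsd.symm))), ?_⟩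
          have h' : Commute (s i * d * (s i)⁻¹) (s i * y * (s i)⁻¹) := Spor.commute_conj_iff.mpr y.2.2.2
          rwa [hsd] at h'
        have e := C2.conj (el i hi) y ⟨_, hz⟩ rfl
        rw [hC2 i hi, show (C2.e y : ℕ) = pev w (gpt j) by
          rw [show C2.e y = ⟨_, hlt⟩ from C2.e.apply_symm_apply _], Sym.gen_timg (by omega) hlt] at e
        have hlt' : pev (i :: w) (gpt j) < 693 := (pim_spec (by omega) hlt).1
        refine ⟨hlt', ?_⟩
        rw [show (⟨_, hlt'⟩ : Fin 693) = C2.e ⟨_, hz⟩ from Fin.ext e.symm, Equiv.symm_apply_apply]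
        exact ((hs i hi).2.2.2.mul_right hcm).mul_right (hs i hi).2.2.2.inv_right
    intro x hx hT
    obtain ⟨h1, h2, h3⟩ := tw_word hx hT
    obtain ⟨h4, h5⟩ := hword _ h2 _ h1
    rw [show (⟨x, hx⟩ : Fin 693) = ⟨_, h4⟩ from Fin.ext h3.symm]
    exact h5
  have hT : ∀ y : ↥(nset D d), Commute c (y : G) ↔ inT0 (C2.e y) = true := by
    classical
    set A : Finset (Fin 693) := Finset.univ.filter fun i => inT0 i = true
    set B : Finset (Fin 693) := Finset.univ.filter fun i => Commute c (C2.e.symm i : G)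
    have hAB : A ⊆ B := fun i hi => Finset.mem_filter.mpr ⟨Finset.mem_univ _,
      hsub i i.2 (Finset.mem_filter.mp hi).2⟩
    have hcA : A.card = 126 := by
      rw [← count_T0]
      refine Finset.card_bij (fun i _ => (i : ℕ)) (fun i hi => ?_) (fun i _ k _ h => Fin.ext h) (fun x hx => ?_)
      · exact Finset.mem_filter.mpr ⟨Finset.mem_range.mpr i.2, (Finset.mem_filter.mp hi).2⟩
      · obtain ⟨hx1, hx2⟩ := Finset.mem_filter.mp hx
        exact ⟨⟨x, Finset.mem_range.mp hx1⟩, Finset.mem_filter.mpr ⟨Finset.mem_univ _, hx2⟩, rfl⟩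
    have hcB : B.card = 126 := by
      rw [← hcount, ← Nat.card_coe_set_eq, ← Nat.card_eq_finsetCard]
      refine (Nat.card_congr (Equiv.ofBijective
        (fun x : ↥Ts => (⟨C2.e ⟨x, x.2.1⟩, Finset.mem_filter.mpr ⟨Finset.mem_univ _, by
          rw [Equiv.symm_apply_apply]; exact x.2.2.2.2⟩⟩ : ↥B)) ⟨fun x y h => ?_, fun i => ?_⟩)).symm
      · exact Subtype.ext (congrArg Subtype.val (C2.e.injective (congrArg Subtype.val h)) :)
      · have hcy := (Finset.mem_filter.mp i.2).2
        set y := C2.e.symm i.1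
        refine ⟨⟨y, y.2, y.2.1, fun h => hnc (h ▸ y.2.2.2), hcy⟩, Subtype.ext ?_⟩
        exact C2.e.apply_symm_apply _
    have heq := Finset.eq_of_subset_of_card_le hAB (by rw [hcA, hcB])
    intro y
    have := Finset.ext_iff.mp heq (C2.e y)
    simp only [A, B, Finset.mem_filter, Finset.mem_univ, true_and, Equiv.symm_apply_apply] at this
    exact this.symm
  exact ⟨C2, hT⟩

end Cfsg.Agent.Spor.M23Rel.Frame22
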