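import Cfsg.Agent.Lib.Spor.M23RelSeven
import Cfsg.Agent.Lib.Spor.M22UNorm

/-!
What the second subgroup of a group of type M(23) gives: eight members commuting with both witnesses, in the
pattern of the diagram Y322.
-/

set_option autoImplicit false
set_option maxRecDepth 100000
set_option maxHeartbeats 1000000
set_option linter.unusedSectionVars false

namespace Cfsg.Agent.Spor.M23Rel.Pattern

open QuadraticMap Cfsg.Agent.Classical.ORefl Cfsg.Agent.Classical.OCount Cfsg.Agent.Classical.OOmega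
open Cfsg.Agent.Spor.M22U (nset)
open Cfsg.Agent.Spor.M23Rel.Seven

/-- the letters of the eight members -/
def lets8 : List ℕ := [0, 1, 2, 3, 4, 5, 7, 8]

/-- the edges among the eight members -/
def edges8 : List (ℕ × ℕ) := [(0, 1), (1, 2), (2, 3), (3, 4), (4, 5), (3, 7), (7, 8)]

/-- adjacency among the eight members -/
def adj8 (i j : ℕ) : Bool := edges8.contains (i, j) || edges8.contains (j, i)

/-- coordinates of the eight roots -/
def root : ℕ → V7
  | 0 => ![1, 0, 0, 0, 0, 0, 0]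
  | 1 => ![1, 1, 1, 1, 0, 0, 0]
  | 2 => ![0, 1, 0, 0, 0, 0, 0]
  | 3 => ![0, 1, 1, 1, 1, 0, 0]
  | 4 => ![0, 0, 2, 1, 1, 1, 0]
  | 5 => ![0, 0, 0, 0, 0, 1, 0]
  | 7 => ![0, 0, 2, 1, 1, 0, 1]
  | _ => ![0, 0, 0, 0, 0, 0, 1]

theorem root_norm : ∀ i ∈ lets8, dot (root i) (root i) = 1 := by decide +kernel

theorem root_perp : ∀ i ∈ lets8, ∀ j ∈ lets8, adj8 i j = false → i ≠ j → dot (root i) (root j) = 0 := by
  decide +kernel

theorem root_adj : ∀ i ∈ lets8, ∀ j ∈ lets8, adj8 i j = true →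
    dot (root i) (root j) ≠ 0 ∧ root i ≠ root j ∧ root i ≠ -root j ∧
      ∃ k : Fin 7, root i k = 0 ∧ root j k = 0 := by decide +kernel

theorem adj8_irrefl : ∀ i ∈ lets8, adj8 i i = false := by decide +kernel

variable {G : Type*} [Group G] [Finite G] {D : Set G}

/-- the map from the class group onto the projective reflection group -/
theorem exists_proj {Q : QuadraticForm F3 V7} {c₃ : ZMod 3} (hc₃ : c₃ ≠ 0) {w : Fin 7 → V7}
    (hw : Base Q c₃ w) :
    ∃ π : ↥(classGroup Q c₃) →* ↥(Cfsg.reflectionSubgroup (⇑Q) c₃) ⧸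
        Subgroup.center ↥(Cfsg.reflectionSubgroup (⇑Q) c₃), Function.Surjective π ∧
      ∀ g : ↥(classGroup Q c₃), π g = 1 ↔ (g : ↥(Iso Q)) = 1 ∨ (g : ↥(Iso Q)) = negId Q := by
  let em : ↥(classGroup Q c₃) →* ↥(Cfsg.reflectionSubgroup (⇑Q) c₃) :=
    ((toMat Q).toMonoidHom.comp (classGroup Q c₃).subtype).codRestrict _ fun g => by
      show toMat Q (g : ↥(Iso Q)) ∈ Cfsg.reflectionSubgroup (⇑Q) c₃
      rw [ReflThree.reflectionSubgroup_eq hc₃]; exact Subgroup.mem_map_of_mem _ g.2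
  have hem_inj : Function.Injective em := fun a b e =>
    Subtype.ext ((toMat Q).injective (congrArg Subtype.val e :))
  have hem_surj : Function.Surjective em := by
    intro r
    have hr : (r : ↥(Cfsg.isometryGroup (ZMod 3) ⇑Q)) ∈ (classGroup Q c₃).map (toMat Q).toMonoidHom := by
      rw [← ReflThree.reflectionSubgroup_eq hc₃]; exact r.2
    obtain ⟨g, hg, hgr⟩ := hr
    exact ⟨⟨g, hg⟩, Subtype.ext hgr⟩
  refine ⟨(QuotientGroup.mk' _).comp em, (QuotientGroup.mk'_surjective _).comp hem_surj, fun g => ?_⟩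
  rw [MonoidHom.comp_apply, QuotientGroup.mk'_apply, QuotientGroup.eq_one_iff, Subgroup.mem_center_iff]
  constructor
  · intro h
    refine scalar_of_comm ⟨w, hw⟩ hc₃ fun v hv => ?_
    have e : (⟨rf Q v, mem_cls hc₃ hv⟩ : ↥(classGroup Q c₃)) * g = g * ⟨rf Q v, mem_cls hc₃ hv⟩ :=
      hem_inj (by rw [map_mul, map_mul]; exact h _)
    exact (congrArg Subtype.val e :).symm
  · intro h x
    obtain ⟨x, rfl⟩ := hem_surj x
    rw [← map_mul, ← map_mul]
    refine congrArg em (Subtype.ext ?_)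
    show (x : ↥(Iso Q)) * g = g * x
    rcases h with h | h <;> rw [h]
    · rw [mul_one, one_mul]
    · exact (negId_comm _).eq.symm

theorem eight_of_proj (hD : Cfsg.IsThreeTranspositionGroup D) {d c : G} {c₃ : ZMod 3} (hc₃ : c₃ ≠ 0)
    {Q : QuadraticForm F3 V7} (hQ : PND Q) {w : Fin 7 → V7} (hw : Base Q c₃ w) {K : Type*} [Group K]
    (π : ↥(classGroup Q c₃) →* K) (hπs : Function.Surjective π)
    (hπ1 : ∀ g : ↥(classGroup Q c₃), π g = 1 ↔ (g : ↥(Iso Q)) = 1 ∨ (g : ↥(Iso Q)) = negId Q)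
    (ψ : ↥(Subgroup.closure (nset D d ∩ nset D c)) →* K) (hψs : Function.Surjective ψ)
    (hker : ∀ h, ψ h = 1 → h ∈ Subgroup.center ↥(Subgroup.closure (nset D d ∩ nset D c))) :
    ∃ s : ℕ → G, (∀ i ∈ lets8, s i ∈ nset D d ∩ nset D c) ∧
      ∀ i ∈ lets8, ∀ j ∈ lets8, Commute (s i) (s j) ↔ adj8 i j = false := by
  classical
  let el : ↥(nset D d ∩ nset D c) → ↥(Subgroup.closure (nset D d ∩ nset D c)) := fun x => ⟨x, Subgroup.subset_closure x.2⟩
  have hsq : ∀ x : ↥(nset D d ∩ nset D c), el x * el x = 1 := fun x =>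
    Subtype.ext (Spor.mul_self_of_order_two (hD.1.1 _ x.2.1.1))
  have hclosed : ∀ g : ↥(Subgroup.closure (nset D d ∩ nset D c)), ∀ x : ↥(nset D d ∩ nset D c), (g : G) * x * (g : G)⁻¹ ∈ (nset D d ∩ nset D c) := by
    intro g x
    have hcd : ∀ e : G, (∀ y ∈ (nset D d ∩ nset D c), Commute e y) → (g : G) * e * (g : G)⁻¹ = e := by
      intro e he
      have : Subgroup.closure (nset D d ∩ nset D c) ≤ Subgroup.centralizer ({e} : Set G) := by
        rw [Subgroup.closure_le]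
        exact fun y hy => Subgroup.mem_centralizer_singleton_iff.mpr (he y hy).symm.eq
      exact mul_inv_eq_iff_eq_mul.mpr (Subgroup.mem_centralizer_singleton_iff.mp (this g.2))
    have h1 := hcd d fun y hy => hy.1.2.2
    have h2 := hcd c fun y hy => hy.2.2.2
    refine ⟨⟨hD.2.1 _ _ x.2.1.1, fun h => x.2.1.2.1 (mul_left_cancel (mul_right_cancel (h.trans h1.symm))), ?_⟩,
      ⟨hD.2.1 _ _ x.2.2.1, fun h => x.2.2.2.1 (mul_left_cancel (mul_right_cancel (h.trans h2.symm))), ?_⟩⟩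
    · have h := (Spor.commute_conj_iff (g := (g : G))).mpr x.2.1.2.2
      rwa [h1] at h
    · have h := (Spor.commute_conj_iff (g := (g : G))).mpr x.2.2.2.2
      rwa [h2] at h
  -- the nontrivial images
  have hE : ∀ x : ↥(nset D d ∩ nset D c), ψ (el x) ≠ 1 →
      ∃ (v : V7) (hv : Q v = c₃), ψ (el x) = π ⟨rf Q v, mem_cls hc₃ hv⟩ := by
    intro x hx
    obtain ⟨g, hg⟩ := hπs (ψ (el x))
    have hg2 : (g : ↥(Iso Q)) * g = 1 ∨ (g : ↥(Iso Q)) * g = negId Q :=
      (hπ1 (g * g)).mp (by rw [map_mul, hg, ← map_mul, hsq, map_one])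
    have hgne : (g : ↥(Iso Q)) ≠ 1 ∧ (g : ↥(Iso Q)) ≠ negId Q :=
      ⟨fun h => hx (hg ▸ (hπ1 g).mpr (Or.inl h)), fun h => hx (hg ▸ (hπ1 g).mpr (Or.inr h))⟩
    have hp : PairOK Q c₃ (g : ↥(Iso Q)) := by
      intro h hh
      obtain ⟨k, hk⟩ := hψs (π ⟨h, hh⟩)
      set y : ↥(nset D d ∩ nset D c) := ⟨_, hclosed k x⟩
      have hy : ψ (el y) = π (⟨h, hh⟩ * g * ⟨h, hh⟩⁻¹) := by
        rw [map_mul, map_mul, map_inv, hg, ← hk, ← map_inv, ← map_mul, ← map_mul]
        exact congrArg ψ (Subtype.ext rfl)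
      have hm : ∀ m : ℕ, (el x * el y) ^ m = 1 →
          ((g : ↥(Iso Q)) * (h * g * h⁻¹)) ^ m = 1 ∨ ((g : ↥(Iso Q)) * (h * g * h⁻¹)) ^ m = negId Q := by
        intro m h1
        refine (hπ1 ((g * (⟨h, hh⟩ * g * ⟨h, hh⟩⁻¹)) ^ m)).mp ?_
        rw [map_pow, map_mul, hg, ← hy, ← map_mul, ← map_pow, h1, map_one]
      rcases hD.1.2 _ x.2.1.1 _ y.2.1.1 with h2 | h3
      · exact Or.inl (hm 2 (Subtype.ext h2))
      · exact Or.inr (hm 3 (Subtype.ext h3))
    obtain ⟨v, hv, hgv⟩ := class_cases hQ hc₃ ⟨w, hw⟩ g.2 hg2 hgne.1 hgne.2 hp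
    refine ⟨v, hv, ?_⟩
    rw [← hg]
    rcases hgv with h | h
    · exact congrArg π (Subtype.ext h)
    · have e : g = ⟨negId Q, negId_mem ⟨w, hw⟩ hc₃⟩ * ⟨rf Q v, mem_cls hc₃ hv⟩ := Subtype.ext h
      rw [e, map_mul, (hπ1 ⟨negId Q, negId_mem ⟨w, hw⟩ hc₃⟩).mpr (Or.inr rfl), one_mul]
  -- some image is nontrivial
  obtain ⟨x₀, hx₀⟩ : ∃ x : ↥(nset D d ∩ nset D c), ψ (el x) ≠ 1 := by
    by_contra hno
    push Not at hno
    have htriv : ∀ h : ↥(Subgroup.closure (nset D d ∩ nset D c)), ψ h = 1 := by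
      rintro ⟨h, hh⟩
      induction hh using Subgroup.closure_induction with
      | mem u hu => exact hno ⟨u, hu⟩
      | one => exact map_one ψ
      | mul u v hu hv iu iv =>
        rw [show (⟨u * v, mul_mem hu hv⟩ : ↥(Subgroup.closure (nset D d ∩ nset D c))) = ⟨u, hu⟩ * ⟨v, hv⟩ from rfl, map_mul, iu, iv, one_mul]
      | inv u hu iu => rw [show (⟨u⁻¹, inv_mem hu⟩ : ↥(Subgroup.closure (nset D d ∩ nset D c))) = (⟨u, hu⟩ : ↥(Subgroup.closure (nset D d ∩ nset D c)))⁻¹ from rfl, map_inv, iu, inv_one]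
    obtain ⟨k, hk⟩ := hψs (π ⟨rf Q (w 0), mem_cls hc₃ (hw.norm 0)⟩)
    rw [htriv] at hk
    rcases (hπ1 _).mp hk.symm with h | h
    · exact ReflThree.rf_ne_one hc₃ (hw.norm 0) h
    · have h1 : (rf Q (w 0)).1 (w 1) = -w 1 := by
        rw [show rf Q (w 0) = negId Q from h, negId_apply]
      rw [rf_fix (hw.orth 0 1 (by decide))] at h1
      exact hc₃ (by rw [← hw.norm 1, neg_fixed_free ReflThree.two_ne_three h1.symm, QuadraticMap.map_zero])
  obtain ⟨v₀, hv₀, hx₀'⟩ := hE x₀ hx₀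
  have hall : ∀ i, ∃ x : ↥(nset D d ∩ nset D c), ∀ hi : i ∈ lets8, ψ (el x) = π ⟨rf Q (ev w (root i)),
      mem_cls hc₃ (by rw [hw.value_ev, root_norm i hi, mul_one])⟩ := by
    intro i
    by_cases hi : i ∈ lets8
    · have hv : Q (ev w (root i)) = c₃ := by rw [hw.value_ev, root_norm i hi, mul_one]
      obtain ⟨g, hg, hgv⟩ := ReflThree.conj_in hQ (by simp) hc₃ hv₀ hv
      obtain ⟨k, hk⟩ := hψs (π ⟨g, hg⟩)
      refine ⟨⟨_, hclosed k x₀⟩, fun _ => ?_⟩
      rw [show el ⟨_, hclosed k x₀⟩ = k * el x₀ * k⁻¹ from Subtype.ext rfl, map_mul, map_mul, map_inv, hk,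
        hx₀', ← map_inv, ← map_mul, ← map_mul]
      exact congrArg π (Subtype.ext hgv)
    · exact ⟨x₀, fun h => absurd h hi⟩
  choose X hX using hall
  refine ⟨fun i => (X i : G), fun i _ => (X i).2, fun i hi j hj => ?_⟩
  have hvi : Q (ev w (root i)) = c₃ := by rw [hw.value_ev, root_norm i hi, mul_one]
  have hvj : Q (ev w (root j)) = c₃ := by rw [hw.value_ev, root_norm j hj, mul_one]
  constructor
  · intro hcomm
    by_contra hadj
    rw [Bool.not_eq_false] at hadj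
    obtain ⟨hdot, hne, hne', k, hki, hkj⟩ := root_adj i hi j hj hadj
    have hpol : polar Q (ev w (root i)) (ev w (root j)) ≠ 0 := by
      rw [hw.polar_ev]; exact mul_ne_zero (mul_ne_zero ReflThree.two_ne_three hc₃) hdot
    set a : ↥(classGroup Q c₃) := ⟨rf Q (ev w (root i)), mem_cls hc₃ hvi⟩
    set b : ↥(classGroup Q c₃) := ⟨rf Q (ev w (root j)), mem_cls hc₃ hvj⟩
    have hc1 : Commute (el (X i)) (el (X j)) := Subtype.ext hcomm.eq
    have hc2 : Commute (π a) (π b) := by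
      have := hc1.map ψ; rwa [hX i hi, hX j hj] at this
    have ha : a * a = 1 := Subtype.ext (rf_mul_self _)
    have hb : b * b = 1 := Subtype.ext (rf_mul_self _)
    have hbr : a * b * a = b * a * b := by
      rcases ReflThree.comm_or_braid hvi hvj with ⟨h0, -⟩ | ⟨-, h⟩
      · exact absurd h0 (mul_ne_zero (inv_ne_zero hc₃) hpol)
      · exact Subtype.ext h
    have hz : π (a * b) = 1 := by
      have e := congrArg π hbr
      have ha' : π a * π a = 1 := by rw [← map_mul, ha, map_one]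
      have hb' : π b * π b = 1 := by rw [← map_mul, hb, map_one]
      rw [map_mul, map_mul, map_mul, map_mul, hc2.eq, mul_assoc, ha', mul_one] at e
      rw [← hc2.eq, mul_assoc, hb', mul_one] at e
      rw [map_mul, ← e]; exact hb'
    rcases (hπ1 _).mp hz with h | h
    · have he : rf Q (ev w (root i)) = rf Q (ev w (root j)) := by
        have h' : rf Q (ev w (root i)) * rf Q (ev w (root j)) = 1 := h
        rwa [mul_eq_one_iff_eq_inv, rf_inv] at h'
      obtain ⟨t, ht⟩ := ReflThree.r_eq_span hc₃ hvi hvj (Subtype.ext (by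
        show toMat Q (rf Q (ev w (root i))) = toMat Q (rf Q (ev w (root j)))
        rw [he]))
      rw [← map_smul] at ht
      have hr := hw.ev_inj hc₃ ht
      rcases ReflThree.unit_cases t with e | e | e
      · apply hdot
        rw [hr, e]
        simp [Seven.dot]
      · exact hne (by rw [hr, e, one_smul])
      · exact hne' (by rw [hr, e, neg_one_smul, neg_neg])
    · have h' : rf Q (ev w (root i)) * rf Q (ev w (root j)) = negId Q := h
      have h1 : (rf Q (ev w (root i))).1 ((rf Q (ev w (root j))).1 (w k)) = -w k :=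
        congrArg (fun z : ↥(Iso Q) => z.1 (w k)) h'
      rw [rf_fix (v := ev w (root j)) (by rw [hw.polar_w, hkj, mul_zero]),
        rf_fix (v := ev w (root i)) (by rw [hw.polar_w, hki, mul_zero])] at h1
      exact hc₃ (by rw [← hw.norm k, neg_fixed_free ReflThree.two_ne_three h1.symm, QuadraticMap.map_zero])
  · intro hadj
    by_cases hij : i = j
    · subst hij; exact Commute.refl _
    have hpol : polar Q (ev w (root i)) (ev w (root j)) = 0 := by
      rw [hw.polar_ev, root_perp i hi j hj hadj hij, mul_zero]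
    have hbr : Commute (el (X i)) (el (X j)) ∨
        el (X i) * el (X j) * el (X i) = el (X j) * el (X i) * el (X j) :=
      (Spor.commute_or_braid hD.1 (X i).2.1.1 (X j).2.1.1).imp (fun h => Subtype.ext h.eq)
        fun h => Subtype.ext h
    have hK : Commute (ψ (el (X i))) (ψ (el (X j))) := by
      rw [hX i hi, hX j hj]
      exact Commute.map (Subtype.ext (rf_commute hpol).eq) π
    exact congrArg Subtype.val (M22U.Norm.commute_lift hker (hsq _) (hsq _) hbr hK).eq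

theorem eight (hD : Cfsg.IsThreeTranspositionGroup D) {d c : G} {c₃ : ZMod 3} (hc₃ : c₃ ≠ 0)
    (hL : Cfsg.IsProjReflectionGroupModThree
      (↥(Subgroup.closure (nset D d ∩ nset D c)) ⧸
        Subgroup.center ↥(Subgroup.closure (nset D d ∩ nset D c))) 7 (-c₃) c₃) :
    ∃ s : ℕ → G, (∀ i ∈ lets8, s i ∈ nset D d ∩ nset D c) ∧
      ∀ i ∈ lets8, ∀ j ∈ lets8, Commute (s i) (s j) ↔ adj8 i j = false := by
  obtain ⟨Q, hQn, hμ, ⟨φ⟩⟩ := hL
  have hQ : PND Q := pnd_of_nondeg hQn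
  obtain ⟨w, hw⟩ := exists_base hQ hc₃ hμ
  obtain ⟨π, hπs, hπ1⟩ := exists_proj hc₃ hw
  refine eight_of_proj hD hc₃ hQ hw π hπs hπ1 (φ.toMonoidHom.comp (QuotientGroup.mk' _))
    (φ.surjective.comp (QuotientGroup.mk'_surjective _)) fun h hh => ?_
  have : φ (QuotientGroup.mk' _ h) = φ 1 := by rw [map_one]; exact hh
  exact (QuotientGroup.eq_one_iff h).mp (φ.injective this)

end Cfsg.Agent.Spor.M23Rel.Pattern
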