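import Cfsg.Agent.Lib.Spor.M23RelOrbitData
import Cfsg.Agent.Lib.Spor.M23RelPattern
import Cfsg.Agent.Lib.Spor.M22UFacts
import Cfsg.Agent.Lib.Spor.Fi22OutMain

/-!
Eight transpositions of Fi22 in the pattern of the diagram Y322 lead, by conjugations among themselves, to a
copy of eight of the nine standard generators.
-/

set_option autoImplicit false
set_option maxRecDepth 100000

namespace Cfsg.Agent.Spor.M23Rel.Orbit

open Cfsg.Agent.Spor.CC Cfsg.Agent.Spor.Fi22Cert Cfsg.Agent.Spor.Fi22Cert.U62Act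
open Cfsg.Agent.Spor.M22U
open Cfsg.Agent.Spor.M22U.Fischer (Dc frame theta)
open Cfsg.Agent.Spor.Fi22Cert.Outer (IsPt transp tW sw sigma genP)
open Cfsg.Agent.Spor.M23Rel.Pattern (lets8 adj8)
open Cfsg.Agent.Spor.M23Rel.OrbitDat

/-- check of a candidate for the first point -/
noncomputable def okA (x : ℕ) : Bool :=
  !(inT0 x) || wa.any fun p => Nat.beq p.1 x && below 7 p.2 && Nat.beq (pev p.2 x) a0

/-- check of a candidate for the second point -/
noncomputable def okB (x : ℕ) : Bool :=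
  !(inT0 x) || orth a0 x ||
    wb.any fun p => Nat.beq p.1 x && below 7 p.2 && Nat.beq (pev p.2 x) b0 && Nat.beq (pev p.2 a0) a0

/-- check of a candidate for the third point -/
noncomputable def okC (x : ℕ) : Bool :=
  !(inT0 x) || !(orth a0 x) || orth b0 x || Nat.beq x a0 ||
    wc.any fun p => Nat.beq p.1 x && below 7 p.2 && Nat.beq (pev p.2 x) c0 && Nat.beq (pev p.2 a0) a0 &&
      Nat.beq (pev p.2 b0) b0

/-- candidates for the outer arm -/
noncomputable def eList : List ℕ :=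
  (List.range 693).filter fun x => inT0 x && orth a0 x && orth b0 x && orth c0 x

/-- candidates for the middle node -/
noncomputable def dList : List ℕ :=
  (List.range 693).filter fun x => !(inT0 x) && orth a0 x && orth b0 x && !(orth c0 x)

/-- check of three candidates -/
noncomputable def okT (e f d : ℕ) : Bool :=
  we.any fun p => Nat.beq p.1.1 e && Nat.beq p.1.2.1 f && Nat.beq p.1.2.2 d && below 7 p.2.2 &&
    Nat.blt p.2.1 4 && Nat.beq (pev p.2.2 a0) a0 && Nat.beq (pev p.2.2 b0) b0 && Nat.beq (pev p.2.2 c0) c0 &&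
    Nat.beq (pev p.2.2 e) (reps.getD p.2.1 (0, 0, 0)).1 && Nat.beq (pev p.2.2 f) (reps.getD p.2.1 (0, 0, 0)).2.1 &&
    Nat.beq (pev p.2.2 d) (reps.getD p.2.1 (0, 0, 0)).2.2

theorem base_lt : a0 < 693 ∧ b0 < 693 ∧ c0 < 693 := by decide +kernel

theorem checkA : rangeOK okA 0 693 = true := by decide +kernel

theorem checkB : rangeOK okB 0 693 = true := by decide +kernel

theorem checkC : rangeOK okC 0 693 = true := by decide +kernel

theorem checkT : (eList.all fun e => eList.all fun f => orth e f ||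
    dList.all fun d => !(orth d f) || orth d e || okT e f d) = true := by decide +kernel

/-- the transposition point of a representative -/
def rpt (k i : ℕ) : ℕ := (rpts.getD k []).getD i 0

/-- conjugator of a representative -/
def rcw (k i : ℕ) : List ℕ := (rconj.getD k []).getD i []

/-- recipe of a new member -/
def rec' (k i : ℕ) : ℕ × List ℕ := (recipe.getD k []).getD i (0, [])

/-- letter after the optional symmetry -/
def twl (k i : ℕ) : ℕ := bif twist.getD k false then sw i else i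

theorem rep_shape : ∀ k < 4, rpt k 0 = fld RepU62.sub2.pts 16 a0 ∧ rpt k 1 = fld RepU62.sub2.pts 16 b0 ∧
    rpt k 2 = fld RepU62.sub2.pts 16 c0 ∧ rpt k 4 = fld RepU62.sub2.pts 16 (reps.getD k (0, 0, 0)).1 ∧
    rpt k 5 = fld RepU62.sub2.pts 16 (reps.getD k (0, 0, 0)).2.1 ∧
    rpt k 3 = fld RepU62.sub2.pts 16 (reps.getD k (0, 0, 0)).2.2 ∧
    rpt k 7 = ev RepU62.rows 9 Fischer.bword 0 ∧ rpt k 8 = 0 ∧
    (reps.getD k (0, 0, 0)).1 < 693 ∧ (reps.getD k (0, 0, 0)).2.1 < 693 ∧
      (reps.getD k (0, 0, 0)).2.2 < 693 := by decide +kernel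

theorem rep_conj : ∀ k < 4, ∀ i ∈ lets8, lettersOK 9 [rcw k i] = true ∧
    ev RepU62.rows 9 (rcw k i) 0 = rpt k i := by decide +kernel

theorem rep_rec : ∀ k < 4, ∀ i ∈ lets8, (rec' k i).1 ∈ lets8 ∧ (∀ j ∈ (rec' k i).2, j ∈ lets8) ∧
    lettersOK 9 [movers.getD k []] = true ∧ twl k i < 9 ∧
    ev RepU62.rows 9 ((rec' k i).2.flatMap fun j => tW (rcw k j)) (rpt k (rec' k i).1) =
      ev RepU62.rows 9 (movers.getD k []) (genP.getD (twl k i) 0) := by decide +kernel

theorem isPt_theta (u : Dc) : IsPt (u : pres.Grp) (theta u : ℕ) :=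
  ⟨_, (isConj_iff.mp u.2).choose_spec.symm, rfl⟩

theorem isPt_point {x : ℕ} (hx : x < 693) : IsPt (frame.pt x) (fld RepU62.sub2.pts 16 x) := by
  have hpt : frame.pt x = ((frame.pi.symm ⟨x, hx⟩ : _) : pres.Grp) := dif_pos hx
  set y := frame.pi.symm ⟨x, hx⟩
  have h1 : Fischer.piFun y = ⟨x, hx⟩ := frame.pi.apply_symm_apply ⟨x, hx⟩
  have h := isPt_theta ⟨(y : pres.Grp), y.2.1⟩
  rw [show theta ⟨(y : pres.Grp), y.2.1⟩ = mu ⟨x, hx⟩ from (Fischer.piFun_spec y).symm.trans (by rw [h1])] at h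
  rw [hpt]
  exact h

theorem isPt_a : IsPt frame.a 0 := by
  refine ⟨1, ?_, by rw [map_one]; rfl⟩
  rw [show frame.a = (Fischer.mem [] : pres.Grp) from rfl, Fischer.mem_nil]
  group

theorem isPt_b : IsPt frame.b (ev RepU62.rows 9 Fischer.bword 0) :=
  ⟨((Fischer.bword).map pres.gen).prod, rfl, Fischer.hom_val (Fischer.word_lt (by simp)) rep.z⟩

/-- a non-commuting pair moves onto the standard one -/
theorem pair_normal {x y : pres.Grp} (hx : x ∈ Dc) (hy : y ∈ Dc) (h : ¬ Commute x y) :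
    ∃ g : pres.Grp, g * x * g⁻¹ = frame.a ∧ g * y * g⁻¹ = frame.b := by
  haveI := order.1
  obtain ⟨g, hg⟩ := frame.trans x hx _ frame.ha
  have hy' : g * y * g⁻¹ ∈ Dc := frame.three.2.1 g y hy
  have hn : ¬ Commute frame.a (g * y * g⁻¹) := by
    rw [← hg, Spor.commute_conj_iff]; exact h
  rcases frame.mem_cases hy' with e | ⟨p, hp, e⟩ | ⟨k, hk, b, e⟩
  · exact absurd (e ▸ Commute.refl _) hn
  · exact absurd (e ▸ (frame.pt_mem hp).2.2) hn
  have key : ∀ h : pres.Grp, h * frame.a * h⁻¹ = frame.a → h * (g * y * g⁻¹) * h⁻¹ = frame.b →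
      ∃ g' : pres.Grp, g' * x * g'⁻¹ = frame.a ∧ g' * y * g'⁻¹ = frame.b := fun h h1 h2 =>
    ⟨h * g, by rw [← h1, ← hg]; group, by rw [← h2]; group⟩
  set w := frame.hw (kw k)
  have hwa : w⁻¹ * frame.a * w⁻¹⁻¹ = frame.a :=
    mul_inv_eq_iff_eq_mul.mpr ((frame.hw_comm_a (kw_spec hk).1).inv_right.symm.eq)
  cases b with
  | true =>
    refine key w⁻¹ hwa ?_
    rw [e]
    show w⁻¹ * (w * frame.b * w⁻¹) * w⁻¹⁻¹ = frame.b
    group
  | false =>
    refine key (w⁻¹ * frame.a⁻¹) ?_ ?_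
    · conv_rhs => rw [← hwa]
      group
    · rw [e]
      show w⁻¹ * frame.a⁻¹ * (frame.a * (w * frame.b * w⁻¹) * frame.a⁻¹) * (w⁻¹ * frame.a⁻¹)⁻¹ = frame.b
      group

/-- points for the members at letters 0 to 5 -/
structure Pts6 (t : ℕ → pres.Grp) (p : ℕ → ℕ) : Prop where
  lt : ∀ i < 6, p i < 693
  at6 : ∀ i < 6, t i = frame.pt (p i)
  inT : ∀ i < 6, i ≠ 3 → inT0 (p i) = true
  out : inT0 (p 3) = false
  pat : ∀ i < 6, ∀ j < 6, orth (p i) (p j) = !(adj8 i j)
  ne : p 2 ≠ p 0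

theorem Pts6.move {t : ℕ → pres.Grp} {p : ℕ → ℕ} (h : Pts6 t p) {w : List ℕ} (hw : below 7 w = true) :
    Pts6 (fun i => frame.hw w * t i * (frame.hw w)⁻¹) (fun i => pev w (p i)) where
  lt i hi := pev_lt (below_mono hw) (h.lt i hi)
  at6 i hi := by
    show frame.hw w * t i * (frame.hw w)⁻¹ = frame.pt (pev w (p i))
    rw [h.at6 i hi, frame.hw_conj (below_mono hw) (h.lt i hi)]
  inT i hi hi3 := (frame.T_stab hw (h.lt i hi)).trans (h.inT i hi hi3)
  out := (frame.T_stab hw (h.lt 3 (by norm_num))).trans h.out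
  pat i hi j hj := (frame.orth_conj (below_mono hw) (h.lt i hi) (h.lt j hj)).trans (h.pat i hi j hj)
  ne e := h.ne (pev_inj (below_mono hw) (h.lt 2 (by norm_num)) (h.lt 0 (by norm_num)) e)

theorem keep_ab {w : List ℕ} (hw : below 7 w = true) :
    frame.hw w * frame.a * (frame.hw w)⁻¹ = frame.a ∧ frame.hw w * frame.b * (frame.hw w)⁻¹ = frame.b :=
  ⟨mul_inv_eq_iff_eq_mul.mpr (frame.hw_comm_a (below_mono hw)).symm.eq,
    mul_inv_eq_iff_eq_mul.mpr (frame.hw_comm_b hw).symm.eq⟩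

/-- the position of a transposition in the standard four -/
theorem exists_rep {t : ℕ → pres.Grp} {p : ℕ → ℕ} (h : Pts6 t p) (h7 : t 7 = frame.b) (h8 : t 8 = frame.a) :
    ∃ g : pres.Grp, ∃ k < 4, ∀ i ∈ lets8, IsPt (g * t i * g⁻¹) (rpt k i) := by
  have step : ∀ {x : ℕ} {P : ℕ → Bool}, rangeOK P 0 693 = true → x < 693 → P x = true :=
    fun hP hx => all_range hP (Nat.zero_le _) (by omega)
  -- first point
  have hA := step checkA (h.lt 0 (by norm_num))
  simp only [okA, h.inT 0 (by norm_num) (by norm_num), Bool.not_true, Bool.false_or, List.any_eq_true,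
    Bool.and_eq_true, beq_iff] at hA
  obtain ⟨⟨x1, w1⟩, -, ⟨-, hw1⟩, e1⟩ := hA
  have g1 := h.move hw1
  have hB := step checkB (g1.lt 1 (by norm_num))
  simp only [okB, g1.inT 1 (by norm_num) (by norm_num), Bool.not_true, Bool.false_or, List.any_eq_true,
    Bool.and_eq_true, beq_iff, Bool.or_eq_true] at hB
  have hB' := hB.resolve_left (by
    have := g1.pat 0 (by norm_num) 1 (by norm_num)
    rw [e1] at this
    rw [this]; decide)
  obtain ⟨⟨x2, w2⟩, -, ⟨⟨-, hw2⟩, e2⟩, e2a⟩ := hB'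
  have g2 := g1.move hw2
  have q0 : pev w2 (pev w1 (p 0)) = a0 := by rw [e1, e2a]
  have hC := step checkC (g2.lt 2 (by norm_num))
  have o02 := g2.pat 0 (by norm_num) 2 (by norm_num)
  have o12 := g2.pat 1 (by norm_num) 2 (by norm_num)
  rw [q0] at o02
  rw [e2] at o12
  have n20 : Nat.beq (pev w2 (pev w1 (p 2))) a0 = false :=
    Bool.eq_false_iff.mpr fun e => g2.ne ((beq_iff.mp e).trans q0.symm)
  simp only [okC, g2.inT 2 (by norm_num) (by norm_num), o02, o12, n20, show adj8 0 2 = false from rfl,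
    show adj8 1 2 = true from rfl, Bool.not_true, Bool.not_false, Bool.false_or, List.any_eq_true,
    Bool.and_eq_true, beq_iff] at hC
  obtain ⟨⟨x3, w3⟩, -, ⟨⟨⟨-, hw3⟩, e3⟩, e3a⟩, e3b⟩ := hC
  have g3 := g2.move hw3
  have r0 : pev w3 (pev w2 (pev w1 (p 0))) = a0 := by rw [q0, e3a]
  have r1 : pev w3 (pev w2 (pev w1 (p 1))) = b0 := by rw [e2, e3b]
  have hs : ∀ i < 6, ∀ (j : ℕ) (v : ℕ), pev w3 (pev w2 (pev w1 (p j))) = v → j < 6 →
      orth v (pev w3 (pev w2 (pev w1 (p i)))) = !(adj8 j i) := fun i hi j v hv hj => by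
    rw [← hv]; exact g3.pat j hj i hi
  set P := fun i => pev w3 (pev w2 (pev w1 (p i)))
  have memE : ∀ i, i = 4 ∨ i = 5 → P i ∈ eList := by
    intro i hi
    have hi6 : i < 6 := by omega
    refine List.mem_filter.mpr ⟨List.mem_range.mpr (g3.lt i hi6), ?_⟩
    rw [g3.inT i hi6 (by omega), hs i hi6 0 a0 r0 (by norm_num), hs i hi6 1 b0 r1 (by norm_num),
      hs i hi6 2 c0 e3 (by norm_num)]
    rcases hi with rfl | rfl <;> rfl
  have memD : P 3 ∈ dList := by
    refine List.mem_filter.mpr ⟨List.mem_range.mpr (g3.lt 3 (by norm_num)), ?_⟩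
    rw [g3.out, hs 3 (by norm_num) 0 a0 r0 (by norm_num), hs 3 (by norm_num) 1 b0 r1 (by norm_num),
      hs 3 (by norm_num) 2 c0 e3 (by norm_num)]
    rfl
  have hT := checkT
  simp only [List.all_eq_true, Bool.or_eq_true] at hT
  have o45 : orth (P 4) (P 5) = false := g3.pat 4 (by norm_num) 5 (by norm_num)
  have o35 : orth (P 3) (P 5) = true := g3.pat 3 (by norm_num) 5 (by norm_num)
  have o34 : orth (P 3) (P 4) = false := g3.pat 3 (by norm_num) 4 (by norm_num)
  have h' := (hT _ (memE 4 (Or.inl rfl)) _ (memE 5 (Or.inr rfl))).resolve_left (by rw [o45]; simp) _ memD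
  simp only [o35, o34, Bool.not_true, Bool.false_eq_true, false_or, or_false, okT, List.any_eq_true,
    Bool.and_eq_true, beq_iff, blt_iff] at h'
  obtain ⟨⟨key, k, w4⟩, -, ⟨⟨⟨⟨⟨⟨⟨⟨⟨-, -⟩, hw4⟩, hk⟩, e4a⟩, e4b⟩, e4c⟩, e4e⟩, e4f⟩, e4d⟩⟩ := h'
  have g4 := g3.move hw4
  refine ⟨frame.hw w4 * frame.hw w3 * frame.hw w2 * frame.hw w1, k, hk, ?_⟩
  have hcj : ∀ z : pres.Grp, frame.hw w4 * frame.hw w3 * frame.hw w2 * frame.hw w1 * z *
      (frame.hw w4 * frame.hw w3 * frame.hw w2 * frame.hw w1)⁻¹ = frame.hw w4 * (frame.hw w3 *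
        (frame.hw w2 * (frame.hw w1 * z * (frame.hw w1)⁻¹) * (frame.hw w2)⁻¹) * (frame.hw w3)⁻¹) *
          (frame.hw w4)⁻¹ := fun z => by group
  obtain ⟨s0, s1, s2, s4, s5, s3, s7, s8, l4, l5, l3⟩ := rep_shape k hk
  intro i hi
  rw [hcj]
  by_cases hi6 : i < 6
  · have e := g4.at6 i hi6
    dsimp only at e
    rw [e]
    simp only [Pattern.lets8, List.mem_cons, List.not_mem_nil, or_false] at hi
    rcases hi with rfl | rfl | rfl | rfl | rfl | rfl | rfl | rfl
    · rw [s0, show P 0 = a0 from r0, e4a]; exact isPt_point base_lt.1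
    · rw [s1, show P 1 = b0 from r1, e4b]; exact isPt_point base_lt.2.1
    · rw [s2, show P 2 = c0 from e3, e4c]; exact isPt_point base_lt.2.2
    · rw [s3, e4d]; exact isPt_point l3
    · rw [s4, e4e]; exact isPt_point l4
    · rw [s5, e4f]; exact isPt_point l5
    · omega
    · omega
  · simp only [Pattern.lets8, List.mem_cons, List.not_mem_nil, or_false] at hi
    obtain rfl | rfl : i = 7 ∨ i = 8 := by omega
    · rw [h7, (keep_ab hw1).2, (keep_ab hw2).2, (keep_ab hw3).2, (keep_ab hw4).2, s7]; exact isPt_b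
    · rw [h8, (keep_ab hw1).1, (keep_ab hw2).1, (keep_ab hw3).1, (keep_ab hw4).1, s8]; exact isPt_a

theorem isPt_word {t : ℕ → pres.Grp} {k : ℕ} (hk : k < 4) (ht : ∀ i ∈ lets8, IsPt (t i) (rpt k i)) :
    ∀ js : List ℕ, (∀ j ∈ js, j ∈ lets8) → ∀ {d : pres.Grp} {q : ℕ}, IsPt d q →
      IsPt ((js.map t).prod * d * (js.map t).prod⁻¹) (ev RepU62.rows 9 (js.flatMap fun j => tW (rcw k j)) q) := by
  intro js
  induction js with
  | nil => intro _ d q hd; simpa [ev] using hd
  | cons j js ih =>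
    intro hjs d q hd
    have hj : j ∈ lets8 := hjs j (by simp)
    have h1 := ih (fun i hi => hjs i (by simp [hi])) hd
    obtain ⟨hl, he⟩ := rep_conj k hk j hj
    have etj : t j = transp (rcw k j) := (ht j hj).inj (Outer.isPt_transp hl he)
    have h2 := h1.conj (t j) h1.lt
    rw [etj, show transp (rcw k j) = ((tW (rcw k j)).map pres.gen).prod from rfl,
      ev_eq rep.valid pres.gen rep.hom rep.hom_gen (Outer.tW_lt hl)] at h2
    convert h2 using 1
    · rw [List.map_cons, List.prod_cons, etj]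
      show _ = transp (rcw k j) * _ * (transp (rcw k j))⁻¹
      group
    · simp [ev, List.flatMap_cons, List.foldr_append]
      rfl

theorem image_Dc (φ : MulAut pres.Grp) (h : φ tA ∈ Dc) : ∀ u, φ u ∈ Dc ↔ u ∈ Dc := by
  have h1 : IsConj tA (φ tA) := h
  intro u
  constructor
  · intro hu
    obtain ⟨g, hg⟩ := isConj_iff.mp (h1.symm.trans hu)
    exact isConj_iff.mpr ⟨φ.symm g, φ.injective (by simp [hg])⟩
  · intro hu
    exact h1.trans ((MonoidHom.map_isConj φ.toMonoidHom) hu)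

/-- eight transpositions in the pattern lead to eight of the standard generators -/
theorem classify {t : ℕ → pres.Grp} (hmem : ∀ i ∈ lets8, t i ∈ Dc)
    (hpat : ∀ i ∈ lets8, ∀ j ∈ lets8, Commute (t i) (t j) ↔ adj8 i j = false) :
    ∃ φ : MulAut pres.Grp, (∀ u, φ u ∈ Dc ↔ u ∈ Dc) ∧ ∀ i ∈ lets8, ∃ b ∈ lets8, ∃ js : List ℕ,
      (∀ j ∈ js, j ∈ lets8) ∧ φ (pres.gen i) = (js.map t).prod * t b * (js.map t).prod⁻¹ := by
  haveI := order.1
  have h87 : ¬ Commute (t 8) (t 7) := fun h => by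
    have := (hpat 8 (by decide) 7 (by decide)).mp h; exact absurd this (by decide)
  obtain ⟨g, hga, hgb⟩ := pair_normal (hmem 8 (by decide)) (hmem 7 (by decide)) h87
  set t' : ℕ → pres.Grp := fun i => g * t i * g⁻¹
  have hmem' : ∀ i ∈ lets8, t' i ∈ Dc := fun i hi => frame.three.2.1 g _ (hmem i hi)
  have hpat' : ∀ i ∈ lets8, ∀ j ∈ lets8, Commute (t' i) (t' j) ↔ adj8 i j = false := fun i hi j hj => by
    rw [Spor.commute_conj_iff]; exact hpat i hi j hj
  have hne : ∀ i ∈ lets8, ∀ j ∈ lets8, ∀ k ∈ lets8, adj8 i k = true → adj8 j k = false → t' i ≠ t' j := by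
    intro i hi j hj k hk h1 h2 e
    have h3 := (hpat' j hj k hk).mpr h2
    rw [← e, hpat' i hi k hk, h1] at h3
    exact Bool.noConfusion h3
  have hin : ∀ i, i < 6 → i ∈ lets8 := fun i hi => by simp [Pattern.lets8]; omega
  have hex : ∀ i, ∃ x, i < 6 → x < 693 ∧ t' i = frame.pt x := by
    intro i
    by_cases hi : i < 6
    · have hne8 : t' i ≠ frame.a := by
        rw [← hga]
        by_cases h3 : i = 3
        · subst h3; exact hne 3 (by decide) 8 (by decide) 2 (by decide) (by decide) (by decide)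
        · exact (hne 8 (by decide) i (hin i hi) 7 (by decide) (by decide) (by interval_cases i <;>
            first | decide | omega)).symm
      have hc : Commute frame.a (t' i) := by
        rw [← hga]
        exact (hpat' 8 (by decide) i (hin i hi)).mpr (by interval_cases i <;> decide)
      obtain ⟨x, hx, e⟩ := frame.pt_surj (hmem' i (hin i hi)) hne8 hc
      exact ⟨x, fun _ => ⟨hx, e.symm⟩⟩
    · exact ⟨0, fun h => absurd h hi⟩
  choose p hp using hex
  have P6 : Pts6 t' p :=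
    { lt := fun i hi => (hp i hi).1
      at6 := fun i hi => (hp i hi).2
      inT := fun i hi hi3 => by
        rw [← frame.commute_b_pt (hp i hi).1, ← (hp i hi).2, ← hgb]
        exact (hpat' 7 (by decide) i (hin i hi)).mpr (by interval_cases i <;> first | decide | omega)
      out := by
        rw [Bool.eq_false_iff]
        intro h
        rw [← frame.commute_b_pt (hp 3 (by norm_num)).1, ← (hp 3 (by norm_num)).2, ← hgb] at h
        exact absurd ((hpat' 7 (by decide) 3 (by decide)).mp h) (by decide)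
      pat := fun i hi j hj => by
        rw [Bool.eq_iff_iff, ← frame.commute_pt (hp i hi).1 (hp j hj).1, ← (hp i hi).2, ← (hp j hj).2,
          hpat' i (hin i hi) j (hin j hj), Bool.not_eq_true']
      ne := fun e => hne 2 (by decide) 0 (by decide) 3 (by decide) (by decide) (by decide)
        (by rw [(hp 2 (by norm_num)).2, (hp 0 (by norm_num)).2, e]) }
  obtain ⟨g2, k, hk, hpts⟩ := exists_rep P6 hgb hga
  set h := g2 * g
  have hh : ∀ i ∈ lets8, IsPt (h * t i * h⁻¹) (rpt k i) := fun i hi => by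
    have := hpts i hi
    rwa [show g2 * (g * t i * g⁻¹) * g2⁻¹ = h * t i * h⁻¹ by simp only [h]; group] at this
  set s : MulAut pres.Grp := bif twist.getD k false then Outer.sigma else 1
  have hsgen : ∀ i, i < 9 → s (pres.gen i) = pres.gen (twl k i) := fun i hi => by
    simp only [s, twl]
    cases twist.getD k false
    · rfl
    · exact Outer.sigma_gen hi
  set m := ((movers.getD k []).map pres.gen).prod
  refine ⟨MulAut.conj (h⁻¹ * m) * s, image_Dc _ ?_, fun i hi => ?_⟩
  · rw [show tA = (Fischer.mem [] : pres.Grp) from Fischer.mem_nil.symm]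
    refine frame.three.2.1 (h⁻¹ * m) _ ?_
    show s (Fischer.mem [] : pres.Grp) ∈ Dc
    rw [Fischer.mem_nil, show (tA : pres.Grp) = pres.gen 0 from rfl, hsgen 0 (by norm_num)]
    exact Outer.gen_mem_class (rep_rec k hk 0 (by decide)).2.2.2.1
  obtain ⟨hb, hjs, hl, htw, hev⟩ := rep_rec k hk i hi
  have hi9 : i < 9 := by
    simp only [Pattern.lets8, List.mem_cons, List.not_mem_nil, or_false] at hi; omega
  refine ⟨_, hb, _, hjs, ?_⟩
  show h⁻¹ * m * s (pres.gen i) * (h⁻¹ * m)⁻¹ = _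
  rw [hsgen i hi9]
  have h1 : IsPt (m * pres.gen (twl k i) * m⁻¹)
      (ev RepU62.rows 9 (movers.getD k []) (genP.getD (twl k i) 0)) := by
    have h2 := (Outer.isPt_gen htw).conj m (Outer.isPt_gen htw).lt
    rwa [ev_eq rep.valid pres.gen rep.hom rep.hom_gen fun x hx => lettersOK_spec hl (by simp) hx] at h2
  have h2 := isPt_word hk hh _ hjs (hh _ hb)
  rw [hev] at h2
  have e := h1.inj h2
  have hprod : ∀ js : List ℕ, (js.map fun i => h * t i * h⁻¹).prod = h * (js.map t).prod * h⁻¹ := fun js => by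
    induction js with
    | nil => simp
    | cons a js ih => rw [List.map_cons, List.prod_cons, ih, List.map_cons, List.prod_cons]; group
  rw [hprod] at e
  calc h⁻¹ * m * pres.gen (twl k i) * (h⁻¹ * m)⁻¹ = h⁻¹ * (m * pres.gen (twl k i) * m⁻¹) * h := by group
    _ = _ := by rw [e]; group

end Cfsg.Agent.Spor.M23Rel.Orbit
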