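import Cfsg.Agent.Lib.Spor.M23RelCent
import Cfsg.Agent.Lib.Spor.M23RelPattern
import Cfsg.Agent.Lib.Spor.M23RelOrbit
import Cfsg.Agent.Lib.Spor.Fi23Three

/-!
A primitive group of type M(23) is isomorphic to the presented group Fi23.
-/

set_option autoImplicit false
set_option maxRecDepth 100000
set_option maxHeartbeats 2000000
set_option linter.unusedSectionVars false

namespace Cfsg.Agent.Spor.M23Rel.Iso

open Cfsg.Agent.Spor.M22U (nset)
open Cfsg.Agent.Spor.Fi22Cert (pres)
open Cfsg.Agent.Spor.M22U.Fischer (Dc)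
open Cfsg.Agent.Spor.CC
open Cfsg.Agent.Spor.M23Rel.Pattern (lets8 adj8)

variable {G : Type*} [Group G] [Finite G] {D : Set G} {d : G} (S : Fix.Setting D d)

include S

/-- coordinates in which eight generators come from members commuting with the second witness -/
theorem coord_witness {c : G} {c₃ : ZMod 3} (hc₃ : c₃ ≠ 0)
    (hL : Cfsg.IsProjReflectionGroupModThree
      (↥(Subgroup.closure (nset D d ∩ nset D c)) ⧸
        Subgroup.center ↥(Subgroup.closure (nset D d ∩ nset D c))) 7 (-c₃) c₃) :
    ∃ e : pres.Grp ≃* (↥(Subgroup.closure (nset D d)) ⧸ Subgroup.center ↥(Subgroup.closure (nset D d))),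
      e '' Dc = nextSet D d ∧ ∀ i ∈ lets8, ∃ x : ↥(Subgroup.closure (nset D d)), (x : G) ∈ nset D d ∧
        (QuotientGroup.mk x : ↥(Subgroup.closure (nset D d)) ⧸ Subgroup.center ↥(Subgroup.closure (nset D d))) =
          e (pres.gen i) ∧ Commute c (x : G) := by
  classical
  obtain ⟨e0, he0⟩ := Cent.exists_coord S
  obtain ⟨s, hs, hpat⟩ := Pattern.eight S.hD hc₃ hL
  let el : ℕ → ↥(Subgroup.closure (nset D d)) := fun i =>
    if h : i ∈ lets8 then ⟨s i, Subgroup.subset_closure (hs i h).1⟩ else 1
  have hel : ∀ i ∈ lets8, (el i : G) = s i := fun i hi => by simp [el, hi]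
  set t : ℕ → pres.Grp := fun i => e0.symm (QuotientGroup.mk (el i)) with ht
  have ht0 : ∀ i, e0 (t i) = QuotientGroup.mk (el i) := fun i => e0.apply_symm_apply _
  have hmem : ∀ i ∈ lets8, t i ∈ Dc := fun i hi => by
    have : (QuotientGroup.mk (el i) : _ ⧸ Subgroup.center ↥(Subgroup.closure (nset D d))) ∈ e0 '' Dc := by
      rw [he0]; exact ⟨el i, show (el i : G) ∈ nset D d by rw [hel i hi]; exact (hs i hi).1, rfl⟩
    obtain ⟨u, hu, e⟩ := this
    show e0.symm (QuotientGroup.mk (el i)) ∈ Dc
    rw [← e, e0.symm_apply_apply]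
    exact hu
  have hcomm : ∀ i ∈ lets8, ∀ j ∈ lets8, Commute (t i) (t j) ↔ adj8 i j = false := by
    intro i hi j hj
    rw [← hpat i hi j hj]
    constructor
    · intro h
      have h' := h.map e0.toMonoidHom
      simp only [MulEquiv.coe_toMonoidHom, ht0] at h'
      have := commute_lift S.pre d (show (el i : G) ∈ nset D d by rw [hel i hi]; exact (hs i hi).1)
        (show (el j : G) ∈ nset D d by rw [hel j hj]; exact (hs j hj).1) h'
      rwa [hel i hi, hel j hj] at this
    · intro h
      have h1 : Commute (el i) (el j) := Subtype.ext (show (el i : G) * el j = el j * el i by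
        rw [hel i hi, hel j hj]; exact h.eq)
      exact (h1.map (QuotientGroup.mk' (Subgroup.center ↥(Subgroup.closure (nset D d))))).map
        e0.symm.toMonoidHom
  obtain ⟨φ, hφ, hgen⟩ := Orbit.classify hmem hcomm
  refine ⟨φ.trans e0, ?_, fun i hi => ?_⟩
  · rw [← he0]
    ext y
    constructor
    · rintro ⟨u, hu, rfl⟩; exact ⟨φ u, (hφ u).mpr hu, rfl⟩
    · rintro ⟨u, hu, rfl⟩
      exact ⟨φ.symm u, (hφ _).mp (by rwa [MulEquiv.apply_symm_apply]), by simp⟩
  obtain ⟨b, hb, js, hjs, e⟩ := hgen i hi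
  refine ⟨(js.map el).prod * el b * (js.map el).prod⁻¹, ?_, ?_, ?_⟩
  · exact nset_conj S.pre (commute_of_mem (js.map el).prod.2) (show (el b : G) ∈ nset D d by
      rw [hel b hb]; exact (hs b hb).1)
  · have hprod : ∀ l : List ℕ, e0 (l.map t).prod = QuotientGroup.mk (l.map el).prod := fun l => by
      induction l with
      | nil => simp
      | cons a l ih => rw [List.map_cons, List.prod_cons, map_mul, ih, ht0, List.map_cons, List.prod_cons,
          QuotientGroup.mk_mul]
    rw [MulEquiv.trans_apply, e, map_mul, map_mul, map_inv, hprod, ht0, QuotientGroup.mk_mul,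
      QuotientGroup.mk_mul, QuotientGroup.mk_inv]
  · have hcm : ∀ l : List ℕ, (∀ j ∈ l, j ∈ lets8) → Commute c ((l.map el).prod : G) := fun l => by
      induction l with
      | nil => intro _; simp
      | cons a l ih =>
        intro hl
        rw [List.map_cons, List.prod_cons, Subgroup.coe_mul]
        exact (by rw [hel a (hl a (by simp))]; exact (hs a (hl a (by simp))).2.2.2 : Commute c (el a : G)).mul_right
          (ih fun j hj => hl j (by simp [hj]))
    rw [Subgroup.coe_mul, Subgroup.coe_mul, Subgroup.coe_inv]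
    exact ((hcm js hjs).mul_right (by rw [hel b hb]; exact (hs b hb).2.2.2)).mul_right (hcm js hjs).inv_right

/-- the number of a letter of Fi23 in Fi22 -/
def dn (x : ℕ) : ℕ := [0, 1, 2, 3, 4, 5, 6, 0, 7, 8].getD x 0

omit S in
theorem label_low : ∀ i < 10, ∀ j < 10, (j < i ∧ i ≠ 7 ∧ j ≠ 7) →
    (dn j < dn i ∧ dn i < 9 ∧
      Cfsg.Spor.coxLabel Fi23Cert.pres.edges (Fi23Cert.pres.nm j) (Fi23Cert.pres.nm i) =
        Cfsg.Spor.coxLabel pres.edges (pres.nm (dn j)) (pres.nm (dn i))) := by decide +kernel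

omit S in
theorem label_seven : (∀ j < 7, Cfsg.Spor.coxLabel Fi23Cert.pres.edges (Fi23Cert.pres.nm j) (Fi23Cert.pres.nm 7) =
      if j = 6 then 3 else 2) ∧
    ∀ i < 10, 7 < i → Cfsg.Spor.coxLabel Fi23Cert.pres.edges (Fi23Cert.pres.nm 7) (Fi23Cert.pres.nm i) = 2 := by
  decide +kernel

/-- the isomorphism -/
theorem exists_iso_setting {c : G} (hc : c ∈ D) (hnc : ¬ Commute d c) {c₃ : ZMod 3} (hc₃ : c₃ ≠ 0)
    (hL : Cfsg.IsProjReflectionGroupModThree
      (↥(Subgroup.closure (nset D d ∩ nset D c)) ⧸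
        Subgroup.center ↥(Subgroup.closure (nset D d ∩ nset D c))) 7 (-c₃) c₃) :
    ∃ e : Fi23Cert.pres.Grp ≃* G, e '' conjugatesOf Fi23Cert.Below.tA = D := by
  classical
  have hE := S.pre
  obtain ⟨e, he, hwit⟩ := coord_witness S hc₃ hL
  have hcl : ∀ i, i < 9 → pres.gen i ∈ Dc := fun i hi => Fi22Cert.Outer.gen_mem_class hi
  choose L0 hL0 hL0e using fun i : Fin 9 => Cent.exists_lift S e he (hcl i i.2)
  let L : ℕ → ↥(Subgroup.closure (nset D d)) := fun i => if hi : i < 9 then L0 ⟨i, hi⟩ else 1
  have hLn : ∀ i, i < 9 → (L i : G) ∈ nset D d := fun i hi => by simp only [L, dif_pos hi]; exact hL0 _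
  have hLe : ∀ i, (QuotientGroup.mk (L i) : (↥(Subgroup.closure (nset D d)) ⧸ Subgroup.center ↥(Subgroup.closure (nset D d)))) = e (pres.gen i) := fun i => by
    by_cases hi : i < 9
    · simp only [L, dif_pos hi]; exact hL0e _
    · simp only [L, dif_neg hi]
      rw [Pres.gen_big (show ¬ i < pres.ng from hi), map_one, QuotientGroup.mk_one]
  have hsq : ∀ i, L i * L i = 1 := fun i => by
    by_cases hi : i < 9
    · exact Subtype.ext (hE.sq _ (hLn i hi).1)
    · simp [L, hi]
  have hcL : ∀ i ∈ lets8, Commute c (L i : G) := fun i hi => by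
    obtain ⟨x, hx, hxe, hxc⟩ := hwit i hi
    have hi9 : i < 9 := by simp [Pattern.lets8] at hi; omega
    rwa [Cent.img_inj' S (hLn i hi9) hx (by rw [hLe, hxe])]
  have hword : ∀ w : List ℕ, (QuotientGroup.mk (w.map L).prod : (↥(Subgroup.closure (nset D d)) ⧸ Subgroup.center ↥(Subgroup.closure (nset D d)))) = e (w.map pres.gen).prod := fun w => by
    induction w with
    | nil => simp
    | cons a w ih => simp [QuotientGroup.mk_mul, ih, hLe a]
  have hrev : ∀ w : List ℕ, (w.reverse.map L).prod = ((w.map L).prod)⁻¹ := fun w => by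
    induction w with
    | nil => simp
    | cons a w ih =>
      rw [List.reverse_cons, List.map_append, List.prod_append, ih]
      simp [inv_eq_of_mul_eq_one_right (hsq a)]
  have hd1 : (d : G) ≠ 1 := S.ne_one _ S.mem
  -- the word of type E7 in the first seven
  have hA0 : (Fi22SixCert.sevenA.map pres.gen).prod = 1 :=
    Fi22Cert.Outer.oneOK_spec Fi22SixCert.base_rels (Fi22SixCert.extra_mem (by simp [Fi22SixCert.extras]))
  have hB0 : (Fi22SixCert.sevenB.map pres.gen).prod = 1 :=
    Pres.relW_one Fi22Cert.pres_ok (by rw [Fi22SixCert.relW_base]; simp [Fi22SixCert.sevenB])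
  have hA : (Fi22SixCert.sevenA.map L).prod = 1 := by
    have hcm : ∀ w : List ℕ, (∀ i ∈ w, i ∈ lets8) → Commute c ((w.map L).prod : G) := fun w => by
      induction w with
      | nil => intro _; simp
      | cons a w ih =>
        intro hw
        rw [List.map_cons, List.prod_cons, Subgroup.coe_mul]
        exact (hcL a (hw a (by simp))).mul_right (ih fun j hj => hw j (by simp [hj]))
    have h1 := hcm Fi22SixCert.sevenA (by decide +kernel)
    rcases S.central_cases (show (QuotientGroup.mk (Fi22SixCert.sevenA.map L).prod : (↥(Subgroup.closure (nset D d)) ⧸ Subgroup.center ↥(Subgroup.closure (nset D d)))) = 1 by rw [hword, hA0, map_one]) with h | h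
    · exact Subtype.ext h
    · exact absurd ((h ▸ h1).symm) hnc
  have hB2 : (Fi22SixCert.sevenB.map L).prod * (Fi22SixCert.sevenB.map L).prod = 1 := by
    apply Subtype.ext
    rcases S.central_cases (show (QuotientGroup.mk (Fi22SixCert.sevenB.map L).prod : (↥(Subgroup.closure (nset D d)) ⧸ Subgroup.center ↥(Subgroup.closure (nset D d)))) = 1 by rw [hword, hB0, map_one]) with h | h <;>
      rw [Subgroup.coe_mul, Subgroup.coe_one, h]
    · exact one_mul 1
    · exact hE.sq d S.mem
  have hconjn : ∀ (w : List ℕ) (i : ℕ), i < 9 →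
      (((w.map L).prod * L i * (w.map L).prod⁻¹ : ↥(Subgroup.closure (nset D d))) : G) ∈ nset D d := fun w i hi =>
    nset_conj hE (commute_of_mem (w.map L).prod.2) (hLn i hi)
  have hcomm : ∀ (w : List ℕ) (i : ℕ), i < 9 → ((w ++ [i] ++ w.reverse ++ [i]).map pres.gen).prod = 1 →
      ((w ++ [i] ++ w.reverse ++ [i]).map L).prod = 1 := by
    intro w i hi hG
    have e1 : ((w ++ [i] ++ w.reverse ++ [i]).map L).prod = (w.map L).prod * L i * (w.map L).prod⁻¹ * L i := by
      simp only [List.map_append, List.prod_append, hrev, List.map_cons, List.map_nil, List.prod_cons, List.prod_nil, mul_one, mul_assoc]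
    have := Cent.lift_pow S (hconjn w i hi) (hLn i hi) 1 (by rw [pow_one, ← e1, hword, hG, map_one])
    rwa [pow_one, ← e1] at this
  have hrel : ∀ r ∈ Fi22SixCert.pres.relW, (r.map L).prod = 1 := by
    intro r hr
    have hG := Fi22Cert.Outer.oneOK_spec Fi22SixCert.base_rels hr
    rcases Fi22SixCert.relW_shape hr with ⟨i, hi, rfl⟩ | ⟨i, j, hi, hj, rfl⟩ | hext
    · simp [hsq]
    · have e1 : ([j, i].map L).prod = L j * L i := by simp
      rw [prod_powW, e1]
      refine Cent.lift_pow S (hLn j (by omega)) (hLn i hi) _ ?_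
      rw [← e1, ← QuotientGroup.mk_pow, ← prod_powW, hword, hG, map_one]
    · simp only [Fi22SixCert.extras, List.mem_append, List.mem_map, List.mem_range, List.mem_cons,
        List.not_mem_nil, or_false] at hext
      rcases hext with ((rfl | rfl | rfl | rfl | rfl) | ⟨i, hi, rfl⟩) | ⟨i, hi, rfl⟩
      · rw [Fi22SixCert.der_shape.1] at hG ⊢
        exact hcomm _ 8 (by norm_num) hG
      · rw [Fi22SixCert.der_shape.2.1] at hG ⊢
        exact hcomm _ 1 (by norm_num) hG
      · rw [Fi22SixCert.der_shape.2.2] at hG ⊢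
        set w := Fi22SixCert.derC.take 10
        have e1 : ((w ++ [1] ++ w.reverse ++ [8]).map L).prod = (w.map L).prod * L 1 * (w.map L).prod⁻¹ * L 8 := by
          simp only [List.map_append, List.prod_append, hrev, List.map_cons, List.map_nil, List.prod_cons, List.prod_nil, mul_one, mul_assoc]
        rw [prod_powW, e1]
        refine Cent.lift_pow S (hconjn w 1 (by norm_num)) (hLn 8 (by norm_num)) _ ?_
        rw [← e1, ← QuotientGroup.mk_pow, ← prod_powW, hword, hG, map_one]
      · exact hA
      · rw [List.map_append, List.prod_append]; exact hB2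
      · exact hcomm _ i hi hG
      · exact hcomm _ i hi hG
  -- the homomorphism of the six-fold cover
  let j : ↥(Subgroup.closure (nset D d)) ≃* Shrink.{0} ↥(Subgroup.closure (nset D d)) := Shrink.mulEquiv.symm
  let Φ : Fi22SixCert.pres.Grp →* ↥(Subgroup.closure (nset D d)) := j.symm.toMonoidHom.comp
    (SpiderCert.homOf Fi22SixCert.pres_ok (fun i => j (L i))
      (fun i hi => by rw [show L i = 1 from dif_neg hi, map_one])
      (fun r hr => by
        rw [show (r.map fun i => j (L i)) = (r.map L).map j by rw [List.map_map]; rfl, ← map_list_prod,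
          hrel r hr, map_one]))
  have hΦgen : ∀ i, Φ (Fi22SixCert.pres.gen i) = L i := fun i => by
    simp only [Φ, MonoidHom.comp_apply, MulEquiv.coe_toMonoidHom, SpiderCert.homOf_gen, MulEquiv.symm_apply_apply]
  have hΦword : ∀ w : List ℕ, Φ (w.map Fi22SixCert.pres.gen).prod = (w.map L).prod := fun w => by
    rw [map_list_prod, List.map_map]
    exact congrArg List.prod (List.map_congr_left fun i _ => hΦgen i)
  have hΦmk : ∀ g, (QuotientGroup.mk (Φ g) : (↥(Subgroup.closure (nset D d)) ⧸ Subgroup.center ↥(Subgroup.closure (nset D d)))) = e (Fi22SixCert.toFi g) := by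
    refine DFunLike.congr_fun (MonoidHom.eq_of_eqOn_dense (Pres.closure_gen Fi22SixCert.pres_ok)
      (f := (QuotientGroup.mk' (Subgroup.center ↥(Subgroup.closure (nset D d)))).comp Φ) (g := e.toMonoidHom.comp Fi22SixCert.toFi) ?_)
    rintro _ ⟨i, hi, rfl⟩
    show (QuotientGroup.mk (Φ (Fi22SixCert.pres.gen i)) : (↥(Subgroup.closure (nset D d)) ⧸ Subgroup.center ↥(Subgroup.closure (nset D d)))) = e (Fi22SixCert.toFi (Fi22SixCert.pres.gen i))
    rw [hΦgen, hLe]
    exact congrArg e (SpiderCert.homOf_gen ..).symm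
  -- the spider
  have hspider : (Fi22SixCert.spider.map L).prod = 1 := by
    have h3 : Fi22SixCert.spE ^ 3 = 1 := by
      set K := Fi22SixCert.toFi.ker
      haveI : Finite K := Nat.finite_of_card_ne_zero (by rw [Fi22SixCert.kernel_card]; norm_num)
      set sv : K := ⟨Fi22SixCert.svE, Fi22SixCert.svE_ker⟩
      haveI : (Subgroup.zpowers sv).Normal := ⟨fun n hn k => by
        obtain ⟨z, rfl⟩ := Subgroup.mem_zpowers_iff.mp hn
        have : k * sv ^ z * k⁻¹ = sv ^ z := mul_inv_eq_iff_eq_mul.mpr (Subtype.ext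
          (Subgroup.mem_center_iff.mp (zpow_mem Fi22SixCert.svE_central z) (k : Fi22SixCert.pres.Grp)))
        rw [this]; exact hn⟩
      have hidx : (Subgroup.zpowers sv).index = 3 := by
        have := (Subgroup.zpowers sv).card_mul_index
        rw [Nat.card_zpowers, Fi22SixCert.kernel_card, ← Subgroup.orderOf_coe, Fi22SixCert.svE_order] at this
        omega
      obtain ⟨z, hz⟩ := Subgroup.mem_zpowers_iff.mp
        ((Subgroup.zpowers sv).pow_index_mem (⟨Fi22SixCert.spE, Fi22SixCert.spE_ker⟩ : K))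
      rw [hidx] at hz
      have hz' : Fi22SixCert.spE ^ 3 = Fi22SixCert.svE ^ z := (congrArg Subtype.val hz).symm
      have h1 : Fi22SixCert.toFi23 (Fi22SixCert.svE ^ z) = 1 := by
        rw [← hz', map_pow, Fi22SixCert.spE, Fi22SixCert.toFi23, SpiderCert.homOf_prod]
        rw [show List.map (fun x => Fi23Cert.pres.gen (Fi22SixCert.upL x)) Fi22SixCert.spider =
          (Fi22SixCert.spider.map Fi22SixCert.upL).map Fi23Cert.pres.gen from by rw [List.map_map]; rfl,
          Pres.relW_one Fi23Cert.pres_ok (r := Fi22SixCert.spider.map Fi22SixCert.upL) (by decide +kernel), one_pow]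
      rcases Int.even_or_odd' z with ⟨m, rfl | rfl⟩
      · rw [hz', zpow_mul, zpow_two, show Fi22SixCert.svE * Fi22SixCert.svE = 1 by
          rw [← pow_two, ← Fi22SixCert.svE_order]; exact pow_orderOf_eq_one _, one_zpow]
      · exfalso
        rw [zpow_add, zpow_mul, zpow_two, show Fi22SixCert.svE * Fi22SixCert.svE = 1 by
          rw [← pow_two, ← Fi22SixCert.svE_order]; exact pow_orderOf_eq_one _, one_zpow, one_mul, zpow_one] at h1
        obtain ⟨u, hu, hne⟩ := Fi22SixCert.seven_moves
        rw [Fi22SixCert.svE, Fi22SixCert.toFi23, SpiderCert.homOf_prod] at h1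
        rw [show List.map (fun x => Fi23Cert.pres.gen (Fi22SixCert.upL x)) Fi22SixCert.sevenB =
          (Fi22SixCert.sevenB.map Fi22SixCert.upL).map Fi23Cert.pres.gen from by rw [List.map_map]; rfl] at h1
        have h' := congrArg (fun p => ((Fi23Cert.rep.hom p ⟨u, hu⟩ : Fin Fi23Cert.rep.P.n) : ℕ)) h1
        simp only [map_one, Equiv.Perm.one_apply] at h'
        rw [ev_eq Fi23Cert.rep.valid Fi23Cert.pres.gen Fi23Cert.rep.hom Fi23Cert.rep.hom_gen
          (fun x hx => lettersOK_spec (show lettersOK 10 [Fi22SixCert.sevenB.map Fi22SixCert.upL] = true by decide +kernel)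
            (List.mem_singleton_self _) hx)] at h'
        exact hne h'
    rw [← hΦword]
    rcases S.central_cases (show (QuotientGroup.mk (Φ Fi22SixCert.spE) : (↥(Subgroup.closure (nset D d)) ⧸ Subgroup.center ↥(Subgroup.closure (nset D d)))) = 1 by
      rw [hΦmk, show Fi22SixCert.toFi Fi22SixCert.spE = 1 from Fi22SixCert.spE_ker, map_one]) with h | h
    · exact Subtype.ext h
    · exfalso
      have : (d : G) ^ 3 = 1 := by rw [← h, ← Subgroup.coe_pow, ← map_pow, h3, map_one, Subgroup.coe_one]
      rw [pow_succ, pow_two, hE.sq d S.mem, one_mul] at this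
      exact hd1 this
  -- every member is a conjugate of the first lift
  have hmem : ∀ y : ↥(Subgroup.closure (nset D d)), (y : G) ∈ nset D d → ∃ q, y = Φ q * L 0 * (Φ q)⁻¹ := by
    intro y hy
    obtain ⟨u, hu, hue⟩ : (QuotientGroup.mk y : (↥(Subgroup.closure (nset D d)) ⧸ Subgroup.center ↥(Subgroup.closure (nset D d)))) ∈ e '' Dc := he.symm ▸ ⟨y, hy, rfl⟩
    obtain ⟨g, hg⟩ := isConj_iff.mp hu
    obtain ⟨g', rfl⟩ := Fi22SixCert.toFi_surj g
    refine ⟨g', Cent.img_inj' S hy (nset_conj hE (commute_of_mem (Φ g').2) (hLn 0 (by norm_num))) ?_⟩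
    rw [QuotientGroup.mk_mul, QuotientGroup.mk_mul, QuotientGroup.mk_inv, hΦmk, hLe, ← hue, ← hg]
    simp
  -- a subgroup with the nine lifts contains all members commuting with the first witness
  have hgenH : ∀ K : Subgroup G, (∀ i < 9, (L i : G) ∈ K) → ∀ x ∈ Subgroup.closure (nset D d), x ∈ K := by
    intro K hK
    have hΦK : ∀ q, (Φ q : G) ∈ K := by
      intro q
      have hq : q ∈ Subgroup.closure (Fi22SixCert.pres.gen '' {x | x < Fi22SixCert.pres.ng}) := by
        rw [Pres.closure_gen Fi22SixCert.pres_ok]; trivial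
      induction hq using Subgroup.closure_induction with
      | mem y hy => obtain ⟨i, hi, rfl⟩ := hy; rw [hΦgen]; exact hK i hi
      | one => rw [map_one]; exact one_mem K
      | mul u v _ _ iu iv => rw [map_mul]; exact mul_mem iu iv
      | inv u _ iu => rw [map_inv]; exact inv_mem iu
    refine (Subgroup.closure_le _).2 fun y hy => ?_
    obtain ⟨q, hq⟩ := hmem ⟨y, Subgroup.subset_closure hy⟩ hy
    have : y = (Φ q : G) * L 0 * (Φ q : G)⁻¹ := congrArg Subtype.val hq
    rw [this]
    exact mul_mem (mul_mem (hΦK q) (hK 0 (by norm_num))) (inv_mem (hΦK q))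
  have h6 : ¬ Commute c (L 6 : G) := by
    intro h
    apply hnc
    have := hgenH (Subgroup.centralizer ({c} : Set G)) (fun i hi => Subgroup.mem_centralizer_singleton_iff.mpr (by
      by_cases hi6 : i = 6
      · subst hi6; exact h.symm.eq
      · exact (hcL i (by simp [Pattern.lets8]; omega)).symm.eq)) d (Cent.mem_closure S)
    exact Subgroup.mem_centralizer_singleton_iff.mp this
  have hbraid : ((L 6 : G) * c) ^ 3 = 1 := by
    rcases S.hD.1.2 _ (hLn 6 (by norm_num)).1 _ hc with h | h
    · exfalso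
      apply h6
      have hi : ((L 6 : G) * c)⁻¹ = (L 6 : G) * c := inv_eq_of_mul_eq_one_right (by rw [← pow_two]; exact h)
      rw [mul_inv_rev, inv_eq_of_mul_eq_one_right (hE.sq c hc),
        inv_eq_of_mul_eq_one_right (hE.sq _ (hLn 6 (by norm_num)).1)] at hi
      exact hi
    · exact h
  -- the images of the ten generators
  let f : ℕ → G := fun x => if x < 10 then (if x = 7 then c else (L (dn x) : G)) else 1
  have hf : ∀ x, x < 10 → x ≠ 7 → f x = (L (dn x) : G) := fun x h1 h2 => by simp [f, h1, h2]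
  have hf7 : f 7 = c := by simp [f]
  have hlab1 := label_low
  obtain ⟨hlab2, hlab3⟩ := label_seven
  have hfrel : ∀ r ∈ Fi23Cert.pres.relW, (r.map f).prod = 1 := by
    intro r hr
    simp only [Pres.relW, List.mem_append, List.mem_map, List.mem_flatMap, List.mem_range] at hr
    rcases hr with (⟨i, hi, rfl⟩ | ⟨i, hi, j, hj, rfl⟩) | hr
    · have hi' : i < 10 := hi
      simp only [List.map_cons, List.map_nil, List.prod_cons, List.prod_nil, mul_one]
      by_cases h7 : i = 7
      · subst h7; rw [hf7]; exact hE.sq c hc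
      · rw [hf i hi' h7, ← Subgroup.coe_mul, hsq, Subgroup.coe_one]
    · have hi' : i < 10 := hi
      rw [prod_powW]
      simp only [List.map_cons, List.map_nil, List.prod_cons, List.prod_nil, mul_one]
      by_cases h7 : i = 7
      · subst h7
        rw [hf j (by omega) (by omega), hf7, hlab2 j hj]
        have hdn : dn j = j := by interval_cases j <;> rfl
        rw [hdn]
        split_ifs with h
        · subst h; exact hbraid
        · have hcj := hcL j (by simp [Pattern.lets8]; omega)
          rw [hcj.symm.mul_pow, pow_two, pow_two, hE.sq c hc, ← Subgroup.coe_mul, hsq, Subgroup.coe_one, one_mul]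
      · by_cases h7j : j = 7
        · subst h7j
          rw [hf i hi' h7, hf7, hlab3 i hi' hj]
          have hcj := hcL (dn i) (by interval_cases i <;> decide)
          rw [hcj.mul_pow, pow_two, pow_two, hE.sq c hc, ← Subgroup.coe_mul, hsq, Subgroup.coe_one, one_mul]
        · obtain ⟨hlt, hi9, hlab⟩ := hlab1 i hi' j (by omega) ⟨hj, h7, h7j⟩
          rw [hf i hi' h7, hf j (by omega) h7j, hlab, ← Subgroup.coe_mul, ← Subgroup.coe_pow]
          rw [Cent.lift_pow S (hLn _ (lt_trans hlt hi9)) (hLn _ hi9) _ ?_, Subgroup.coe_one]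
          have hG : ((powW (Cfsg.Spor.coxLabel pres.edges (pres.nm (dn j)) (pres.nm (dn i))) [dn j, dn i]).map
              pres.gen).prod = 1 := Pres.relW_one Fi22Cert.pres_ok (by
            simp only [Pres.relW, List.mem_append, List.mem_map, List.mem_flatMap, List.mem_range]
            exact Or.inl (Or.inr ⟨dn i, hi9, dn j, hlt, rfl⟩))
          have e1 : ([dn j, dn i].map L).prod = L (dn j) * L (dn i) := by simp
          rw [← e1, ← QuotientGroup.mk_pow, ← prod_powW, hword, hG, map_one]
    · have hr' : r = Fi22SixCert.spider.map Fi22SixCert.upL ∨ r = Fi22SixCert.sevenA.map Fi22SixCert.upL := by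
        have h0 : Fi23Cert.pres.extraW = [Fi22SixCert.spider.map Fi22SixCert.upL,
            Fi22SixCert.sevenA.map Fi22SixCert.upL] := by decide +kernel
        rw [h0] at hr
        simpa using hr
      have hup : ∀ x < 9, f (Fi22SixCert.upL x) = (L x : G) := fun x hx => by
        interval_cases x <;> simp [f, dn, Fi22SixCert.upL]
      have hmap : ∀ w : List ℕ, (∀ x ∈ w, x < 9) →
          ((w.map Fi22SixCert.upL).map f).prod = ((w.map L).prod : G) := fun w hw => by
        rw [SubmonoidClass.coe_list_prod, List.map_map, List.map_map]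
        exact congrArg List.prod (List.map_congr_left fun x hx => hup x (hw x hx))
      rcases hr' with rfl | rfl
      · rw [hmap _ (by decide +kernel), hspider, Subgroup.coe_one]
      · rw [hmap _ (by decide +kernel), hA, Subgroup.coe_one]
  let jG : G ≃* Shrink.{0} G := Shrink.mulEquiv.symm
  let ψ : Fi23Cert.pres.Grp →* G := jG.symm.toMonoidHom.comp
    (SpiderCert.homOf Fi23Cert.pres_ok (fun i => jG (f i))
      (fun i hi => by rw [show f i = 1 from if_neg hi, map_one])
      (fun r hr => by
        rw [show (r.map fun i => jG (f i)) = (r.map f).map jG by rw [List.map_map]; rfl, ← map_list_prod,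
          hfrel r hr, map_one]))
  have hψgen : ∀ i, ψ (Fi23Cert.pres.gen i) = f i := fun i => by
    simp only [ψ, MonoidHom.comp_apply, MulEquiv.coe_toMonoidHom, SpiderCert.homOf_gen, MulEquiv.symm_apply_apply]
  have hLr : ∀ i < 9, ∃ x ∈ Fi23Cert.Below.lets, f x = (L i : G) := fun i hi =>
    ⟨Fi22SixCert.upL i, by interval_cases i <;> decide, by interval_cases i <;> simp [f, dn, Fi22SixCert.upL]⟩
  have hLin : ∀ i < 9, (L i : G) ∈ ψ.range := fun i hi => by
    obtain ⟨x, -, hx⟩ := hLr i hi
    exact ⟨_, (hψgen x).trans hx⟩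
  have htop : ψ.range = ⊤ := by
    have hw : ∃ a ∈ D, ∃ b ∈ D, a ≠ b ∧ Commute a b :=
      ⟨d, S.mem, _, (hLn 0 (by norm_num)).1, Ne.symm (hLn 0 (by norm_num)).2.1, (hLn 0 (by norm_num)).2.2⟩
    refine Fix.dsub_top S.hD S.prim hw S.mem _ (fun y hy hdy => ?_) hc ⟨_, (hψgen 7).trans hf7⟩ hnc
    refine hgenH _ hLin y ?_
    by_cases hyd : y = d
    · rw [hyd]; exact Cent.mem_closure S
    · exact Subgroup.subset_closure ⟨hy, hyd, hdy⟩
  haveI := Fi23Cert.simple
  have hinj : Function.Injective ψ := by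
    rw [← MonoidHom.ker_eq_bot_iff]
    refine (ψ.normal_ker.eq_bot_or_eq_top).resolve_right fun h => ?_
    obtain ⟨g, hg⟩ : d ∈ ψ.range := htop ▸ Subgroup.mem_top d
    exact hd1 (hg ▸ (MonoidHom.mem_ker.mp (h ▸ Subgroup.mem_top g)))
  have htA : ψ Fi23Cert.Below.tA = d := by
    have hH : ∀ x ∈ Fi23Cert.Below.lets, f x ∈ Subgroup.closure (nset D d) := fun x hx => by
      simp only [Fi23Cert.Below.lets, List.mem_cons, List.not_mem_nil, or_false] at hx
      rcases hx with rfl | rfl | rfl | rfl | rfl | rfl | rfl | rfl | rfl <;>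
        (rw [hf _ (by norm_num) (by norm_num)]; exact (L _).2)
    have hmemH : ψ Fi23Cert.Below.tA ∈ Subgroup.closure (nset D d) := by
      rw [map_list_prod, List.map_map]
      refine list_prod_mem fun y hy => ?_
      obtain ⟨x, hx, rfl⟩ := List.mem_map.mp hy
      show ψ (Fi23Cert.pres.gen x) ∈ _
      rw [hψgen]
      exact hH x (Fi23Cert.Below.zW_lets x hx)
    set p : ↥(Subgroup.closure (nset D d)) := ⟨_, hmemH⟩
    have hcomm' : ∀ i < 9, Commute p (L i) := fun i hi => by
      obtain ⟨x, hx, hfx⟩ := hLr i hi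
      apply Subtype.ext
      show ψ Fi23Cert.Below.tA * (L i : G) = (L i : G) * ψ Fi23Cert.Below.tA
      have hk : Fi23Cert.pres.gen x ∈ Fi23Cert.Below.Ksub := by
        rw [Fi23Cert.Below.sub_eq_singles]; exact Subgroup.subset_closure ⟨x, hx, rfl⟩
      rw [← hfx, ← hψgen, ← map_mul, ← map_mul, Fi23Cert.Below.cen_comm _ hk]
    have h1 : e.symm (QuotientGroup.mk p) = 1 := by
      have hcen : e.symm (QuotientGroup.mk p) ∈ Subgroup.center pres.Grp := by
        rw [Subgroup.mem_center_iff]
        intro g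
        have hg : g ∈ Subgroup.centralizer ({e.symm (QuotientGroup.mk p)} : Set pres.Grp) := by
          have hle : Subgroup.closure (pres.gen '' {x | x < pres.ng}) ≤
              Subgroup.centralizer ({e.symm (QuotientGroup.mk p)} : Set pres.Grp) := by
            rw [Subgroup.closure_le]
            rintro _ ⟨i, hi, rfl⟩
            refine Subgroup.mem_centralizer_singleton_iff.mpr ?_
            have h := ((hcomm' i hi).map
              (QuotientGroup.mk' (Subgroup.center ↥(Subgroup.closure (nset D d))))).map e.symm.toMonoidHom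
            simp only [QuotientGroup.mk'_apply, MulEquiv.coe_toMonoidHom, hLe, MulEquiv.symm_apply_apply] at h
            exact h.eq.symm
          exact hle (Pres.closure_gen Fi22Cert.pres_ok ▸ Subgroup.mem_top g)
        exact Subgroup.mem_centralizer_singleton_iff.mp hg
      rwa [M22U.Fischer.center_bot, Subgroup.mem_bot] at hcen
    have h2 : (QuotientGroup.mk p : (↥(Subgroup.closure (nset D d)) ⧸ Subgroup.center ↥(Subgroup.closure (nset D d)))) = 1 := by
      rw [← e.apply_symm_apply (QuotientGroup.mk p), h1, map_one]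
    rcases S.central_cases h2 with h | h
    · exact absurd (hinj (h.trans (map_one ψ).symm)) Fi23Cert.Below.tA_ne_one
    · exact h
  refine ⟨MulEquiv.ofBijective ψ ⟨hinj, MonoidHom.range_eq_top.mp htop⟩, ?_⟩
  ext y
  constructor
  · rintro ⟨u, hu, rfl⟩
    obtain ⟨g, rfl⟩ := isConj_iff.mp hu
    show ψ (g * Fi23Cert.Below.tA * g⁻¹) ∈ D
    rw [map_mul, map_mul, map_inv, htA]
    exact S.hD.2.1 _ _ S.mem
  · intro hy
    obtain ⟨g, hg⟩ := S.prim.1 d S.mem y hy
    obtain ⟨g', rfl⟩ : g ∈ ψ.range := htop ▸ Subgroup.mem_top g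
    exact ⟨g' * Fi23Cert.Below.tA * g'⁻¹, isConj_iff.mpr ⟨g', rfl⟩, by
      show ψ (g' * Fi23Cert.Below.tA * g'⁻¹) = y
      rw [map_mul, map_mul, map_inv, htA, hg]⟩

omit S in
/-- a primitive group of type M(23) is Fi23 with its class of transpositions -/
theorem iso_fi23 (hD : Cfsg.IsThreeTranspositionGroup D) (hprim : Cfsg.IsPrimitiveUnderConj D)
    (ht : Cfsg.IsOfTypeM23 G D) :
    ∃ e : Fi23Cert.pres.Grp ≃* G, e '' conjugatesOf Fi23Cert.Below.tA = D := by
  have hrel := Top.noRel_group hD hprim (Or.inl ht)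
  obtain ⟨hZ, d, hd, c, hc, hnc, h22, c₃, hc₃, hL⟩ := ht
  refine exists_iso_setting (d := d) ⟨hD, hprim, hd, hZ, fun x hx y hy _ _ hxy => ?_, h22, hrel.2⟩ hc hnc hc₃ hL
  rcases relation_dichotomy hD hprim (SameV D) (fun _ _ _ _ => Iff.rfl) (fun _ _ _ _ h => h.symm)
      (fun _ _ _ _ _ _ h h' => h.trans h') (fun g _ _ _ _ h => h.conj hD.2.1 g) with h | h
  · exact h x hx y hy hxy
  · exact absurd ((h d hd c hc).commute hd) hnc

end Cfsg.Agent.Spor.M23Rel.Iso
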