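import Cfsg.Agent.Lib.Spor.M22UTrans

/-!
Products of few commuting members in towers of 3-transposition groups.

A level is a centreless group with a generating, conjugation-invariant set of elements of order at
most two with products of order at most three. The quotient of the subgroup of the members commuting
with one member by its centre is the next level.
-/

set_option autoImplicit false
set_option linter.unusedSectionVars false

namespace Cfsg.Agent.Spor.M23Rel

open Cfsg.Agent.Spor.M22U (nset)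

variable {K : Type*} [Group K]

/-- a generating invariant set of elements of order at most 2 with products of order at most 3 -/
structure Pre (E : Set K) : Prop where
  sq : ∀ e ∈ E, e * e = 1
  two : ∀ a ∈ E, ∀ b ∈ E, (a * b) ^ 2 = 1 ∨ (a * b) ^ 3 = 1
  conj : ∀ g : K, ∀ e ∈ E, g * e * g⁻¹ ∈ E
  gen : Subgroup.closure E = ⊤

/-- the nontrivial members are conjugate -/
def One (E : Set K) : Prop := ∀ a ∈ E, ∀ b ∈ E, a ≠ 1 → b ≠ 1 → ∃ g : K, g * a * g⁻¹ = b

/-- no two nontrivial members commute with the same members -/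
def Sep (E : Set K) : Prop := ∀ a ∈ E, ∀ b ∈ E, a ≠ 1 → b ≠ 1 → SameV E a b → a = b

/-- no product of `k` distinct nontrivial pairwise commuting members is trivial -/
def NoRel (k : ℕ) (E : Set K) : Prop :=
  ∀ l : List K, l.Nodup → l.length = k → (∀ a ∈ l, a ∈ E ∧ a ≠ 1) →
    (∀ a ∈ l, ∀ b ∈ l, Commute a b) → l.prod ≠ 1

/-- the image set in the next level -/
abbrev nextSet (E : Set K) (d : K) :
    Set (↥(Subgroup.closure (nset E d)) ⧸ Subgroup.center ↥(Subgroup.closure (nset E d))) :=
  (QuotientGroup.mk : ↥(Subgroup.closure (nset E d)) → _) ''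
    {x : ↥(Subgroup.closure (nset E d)) | (x : K) ∈ nset E d}

theorem pre_of_group {D : Set K} (hD : Cfsg.IsThreeTranspositionGroup D) : Pre D :=
  ⟨fun e he => mul_self_of_order_two (hD.1.1 e he), hD.1.2, hD.2.1, hD.2.2⟩

theorem braid_of {a b : K} (ha : a * a = 1) (hb : b * b = 1) (h : (a * b) ^ 3 = 1) :
    a * b * a = b * a * b := by
  have h' : (a * b * a) * (b * a * b) = 1 := by rw [← h]; simp only [pow_succ, pow_zero, one_mul, mul_assoc]
  have hbb : (b * a * b) * (b * a * b) = 1 := by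
    calc (b * a * b) * (b * a * b) = b * a * (b * b) * a * b := by simp only [mul_assoc]
      _ = 1 := by rw [hb, mul_one, mul_assoc b a a, ha, mul_one, hb]
  calc a * b * a = (a * b * a) * ((b * a * b) * (b * a * b)) := by rw [hbb, mul_one]
    _ = b * a * b := by rw [← mul_assoc, h', one_mul]

theorem commute_of_sq {a b : K} (ha : a * a = 1) (hb : b * b = 1) (h : (a * b) ^ 2 = 1) : Commute a b := by
  rw [pow_two, mul_eq_one_iff_eq_inv, mul_inv_rev, inv_eq_of_mul_eq_one_right ha,
    inv_eq_of_mul_eq_one_right hb] at h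
  exact h

variable {E : Set K}

theorem Pre.braid (hE : Pre E) {a b : K} (ha : a ∈ E) (hb : b ∈ E) (h : ¬ Commute a b) :
    (a * b) ^ 3 = 1 ∧ a * b * a = b * a * b := by
  rcases hE.two a ha b hb with h' | h'
  · exact absurd (commute_of_sq (hE.sq a ha) (hE.sq b hb) h') h
  · exact ⟨h', braid_of (hE.sq a ha) (hE.sq b hb) h'⟩

/-- members that do not commute are conjugate -/
theorem Pre.conj_of_not_commute (hE : Pre E) {a b : K} (ha : a ∈ E) (hb : b ∈ E) (h : ¬ Commute a b) :
    ∃ g : K, g * a * g⁻¹ = b := by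
  refine ⟨a * b, ?_⟩
  have := (hE.braid ha hb h).2
  rw [mul_inv_rev, inv_eq_of_mul_eq_one_right (hE.sq a ha), inv_eq_of_mul_eq_one_right (hE.sq b hb)]
  calc a * b * a * (b * a) = (b * a * b) * (b * a) := by rw [this]
    _ = b * a * (b * b) * a := by simp only [mul_assoc]
    _ = b := by rw [hE.sq b hb, mul_one, mul_assoc, hE.sq a ha, mul_one]

theorem Pre.central_eq_one (hE : Pre E) (hZ : Subgroup.center K = ⊥) {x : K}
    (h : ∀ e ∈ E, Commute x e) : x = 1 := by
  have := mem_center_of_commutes hE.gen h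
  rwa [hZ, Subgroup.mem_bot] at this

theorem ne_one_of_nc {a b : K} (h : ¬ Commute a b) : a ≠ 1 := fun e => h (e ▸ Commute.one_left b)

theorem nset_conj (hE : Pre E) {d g y : K} (hg : Commute g d) (hy : y ∈ nset E d) :
    g * y * g⁻¹ ∈ nset E d := by
  have hd' : g * d * g⁻¹ = d := mul_inv_eq_iff_eq_mul.mpr hg.eq
  refine ⟨hE.conj g y hy.1, fun h => hy.2.1 (mul_left_cancel (mul_right_cancel (h.trans hd'.symm))), ?_⟩
  rw [← hd']; exact commute_conj_iff.mpr hy.2.2

theorem commute_of_mem {d g : K} (hg : g ∈ Subgroup.closure (nset E d)) : Commute g d := by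
  have : Subgroup.closure (nset E d) ≤ Subgroup.centralizer ({d} : Set K) := by
    rw [Subgroup.closure_le]
    intro u hu
    exact Subgroup.mem_centralizer_singleton_iff.mpr hu.2.2.symm.eq
  exact Subgroup.mem_centralizer_singleton_iff.mp (this hg)

section Next

variable (hE : Pre E) (d : K)

include hE

theorem pre_next : Pre (nextSet E d) := by
  refine ⟨?_, ?_, ?_, ?_⟩
  · rintro _ ⟨x, hx, rfl⟩
    rw [← QuotientGroup.mk_mul, show x * x = 1 from Subtype.ext (hE.sq _ hx.1), QuotientGroup.mk_one]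
  · rintro _ ⟨x, hx, rfl⟩ _ ⟨y, hy, rfl⟩
    rcases hE.two _ hx.1 _ hy.1 with h | h
    · left
      rw [← QuotientGroup.mk_mul, ← QuotientGroup.mk_pow, show (x * y) ^ 2 = 1 from Subtype.ext h,
        QuotientGroup.mk_one]
    · right
      rw [← QuotientGroup.mk_mul, ← QuotientGroup.mk_pow, show (x * y) ^ 3 = 1 from Subtype.ext h,
        QuotientGroup.mk_one]
  · intro p
    rintro _ ⟨x, hx, rfl⟩
    obtain ⟨h, rfl⟩ := QuotientGroup.mk_surjective p
    refine ⟨h * x * h⁻¹, nset_conj hE (commute_of_mem h.2) hx, ?_⟩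
    rfl
  · have h := MonoidHom.map_closure (QuotientGroup.mk' (Subgroup.center ↥(Subgroup.closure (nset E d))))
      {x : ↥(Subgroup.closure (nset E d)) | (x : K) ∈ nset E d}
    rw [show {x : ↥(Subgroup.closure (nset E d)) | (x : K) ∈ nset E d} = Subtype.val ⁻¹' nset E d from rfl,
      Subgroup.closure_closure_coe_preimage, Subgroup.map_top_of_surjective _ (QuotientGroup.mk'_surjective _)] at h
    exact h.symm

omit hE in
theorem mk_eq_one_iff {x : ↥(Subgroup.closure (nset E d))} :
    (x : ↥(Subgroup.closure (nset E d)) ⧸ Subgroup.center ↥(Subgroup.closure (nset E d))) = 1 ↔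
      ∀ e ∈ nset E d, Commute (x : K) e := by
  rw [QuotientGroup.eq_one_iff]
  constructor
  · intro h e he
    exact (congrArg Subtype.val (Subgroup.mem_center_iff.mp h ⟨e, Subgroup.subset_closure he⟩)).symm
  · intro h
    rw [Subgroup.mem_center_iff]
    rintro ⟨g, hg⟩
    apply Subtype.ext
    show g * (x : K) = (x : K) * g
    induction hg using Subgroup.closure_induction with
    | mem e he => exact (h e he).symm
    | one => simp
    | mul a b _ _ ha hb => exact Commute.mul_left (a := a) ha hb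
    | inv a _ ha => exact Commute.inv_left (a := a) ha

/-- commuting is detected in the quotient -/
theorem commute_lift {y w : K} (hy : y ∈ nset E d) (hw : w ∈ nset E d)
    (h : Commute (QuotientGroup.mk (⟨y, Subgroup.subset_closure hy⟩ : ↥(Subgroup.closure (nset E d))) :
        ↥(Subgroup.closure (nset E d)) ⧸ Subgroup.center ↥(Subgroup.closure (nset E d)))
      (QuotientGroup.mk (⟨w, Subgroup.subset_closure hw⟩ : ↥(Subgroup.closure (nset E d))))) :
    Commute y w := by
  by_contra hn
  obtain ⟨h3, -⟩ := hE.braid hy.1 hw.1 hn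
  set a : ↥(Subgroup.closure (nset E d)) := ⟨y, Subgroup.subset_closure hy⟩
  set b : ↥(Subgroup.closure (nset E d)) := ⟨w, Subgroup.subset_closure hw⟩
  set p := (QuotientGroup.mk (a * b) :
    ↥(Subgroup.closure (nset E d)) ⧸ Subgroup.center ↥(Subgroup.closure (nset E d))) with hp
  have hp2 : p ^ 2 = 1 := by
    rw [hp, QuotientGroup.mk_mul, h.mul_pow, pow_two, pow_two, ← QuotientGroup.mk_mul, ← QuotientGroup.mk_mul,
      show a * a = 1 from Subtype.ext (hE.sq y hy.1), show b * b = 1 from Subtype.ext (hE.sq w hw.1),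
      QuotientGroup.mk_one, mul_one]
  have hp3 : p ^ 3 = 1 := by
    rw [hp, ← QuotientGroup.mk_pow, show (a * b) ^ 3 = 1 from Subtype.ext h3, QuotientGroup.mk_one]
  have hp1 : p = 1 := by
    calc p = p ^ 2 * p := by rw [hp2, one_mul]
      _ = 1 := by rw [← pow_succ, hp3]
  have hc := (mk_eq_one_iff d).mp hp1 y hy
  apply hn
  have hc' : y * w * y = y * (y * w) := hc.eq
  rw [← mul_assoc, hE.sq y hy.1, one_mul] at hc'
  show y * w = w * y
  calc y * w = y * w * (y * y) := by rw [hE.sq y hy.1, mul_one]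
    _ = y * w * y * y := (mul_assoc _ _ _).symm
    _ = w * y := by rw [hc']

/-- two members with equal noncentral images are equal -/
theorem mk_inj {y z : K} (hy : y ∈ nset E d) (hz : z ∈ nset E d)
    (hne : (QuotientGroup.mk (⟨y, Subgroup.subset_closure hy⟩ : ↥(Subgroup.closure (nset E d))) :
        ↥(Subgroup.closure (nset E d)) ⧸ Subgroup.center ↥(Subgroup.closure (nset E d))) ≠ 1)
    (h : (QuotientGroup.mk (⟨y, Subgroup.subset_closure hy⟩ : ↥(Subgroup.closure (nset E d))) :
        ↥(Subgroup.closure (nset E d)) ⧸ Subgroup.center ↥(Subgroup.closure (nset E d))) =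
      QuotientGroup.mk (⟨z, Subgroup.subset_closure hz⟩ : ↥(Subgroup.closure (nset E d)))) : y = z := by
  have hyz : Commute y z := commute_lift hE d hy hz (h ▸ Commute.refl _)
  have hyy := hE.sq y hy.1
  have hzz := hE.sq z hz.1
  have hcen : ∀ e ∈ nset E d, Commute (y * z) e := by
    refine (mk_eq_one_iff d (x := ⟨y, Subgroup.subset_closure hy⟩ * ⟨z, Subgroup.subset_closure hz⟩)).mp ?_
    rw [QuotientGroup.mk_mul, h, ← QuotientGroup.mk_mul,
      show (⟨z, Subgroup.subset_closure hz⟩ : ↥(Subgroup.closure (nset E d))) *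
        ⟨z, Subgroup.subset_closure hz⟩ = 1 from Subtype.ext hzz, QuotientGroup.mk_one]
  obtain ⟨w, hw, hwn⟩ : ∃ w ∈ nset E d, ¬ Commute y w := by
    by_contra hc; push Not at hc; exact hne ((mk_eq_one_iff d).mpr hc)
  have hzw : ¬ Commute z w := fun hc => hwn (by
    have := (hcen w hw).mul_left hc
    rwa [mul_assoc, hzz, mul_one] at this)
  have k1 := (hE.braid hy.1 hw.1 hwn).1
  have k2 := (hE.braid hz.1 hw.1 hzw).1
  set u := y * z
  have hz' : z = u * y := by
    show z = y * z * y
    rw [hyz.eq, mul_assoc, hyy, mul_one]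
  have hu2 : u * u = 1 := by
    calc u * u = y * (z * y) * z := by simp only [u, mul_assoc]
      _ = 1 := by rw [← hyz.eq, ← mul_assoc y y z, hyy, one_mul, hzz]
  have hu3 : u ^ 3 = 1 := by
    have hc : Commute u (y * w) := (hcen y hy).mul_right (hcen w hw)
    rw [hz', mul_assoc, hc.mul_pow, k1, mul_one] at k2
    exact k2
  have hu1 : u = 1 := by
    calc u = u * u * u := by rw [hu2, one_mul]
      _ = 1 := by rw [← pow_three']; exact hu3
  rw [hz', hu1, one_mul]

end Next

variable [Finite K]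

/-- a member commuting with all members commuting with `d` is `d` -/
theorem noncentral (hE : Pre E) (h1 : One E) (hS : Sep E) {d y : K} (hd : d ∈ E) (hd1 : d ≠ 1)
    (hy : y ∈ nset E d) (hy1 : y ≠ 1) : ∃ w ∈ nset E d, ¬ Commute y w := by
  by_contra hno
  push Not at hno
  obtain ⟨g, hg⟩ := h1 d hd y hy.1 hd1 hy1
  let A : K → Set K := fun z => {e | e ∈ E ∧ Commute z e}
  have hsub : A d ⊆ A y := fun e ⟨he, hce⟩ => by
    refine ⟨he, ?_⟩
    by_cases hed : e = d
    · exact hed ▸ hy.2.2.symm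
    · exact hno e ⟨he, hed, hce⟩
  have himg : (MulAut.conj g) '' A d = A y := by
    ext e
    constructor
    · rintro ⟨u, ⟨hu, hcu⟩, rfl⟩
      exact ⟨hE.conj g u hu, hg ▸ commute_conj_iff.mpr hcu⟩
    · rintro ⟨he, hce⟩
      refine ⟨g⁻¹ * e * g, ⟨(conj_mem_iff hE.conj g).1 he, ?_⟩, by
        show g * (g⁻¹ * e * g) * g⁻¹ = e; group⟩
      rw [← commute_conj_iff (g := g), hg, show g * (g⁻¹ * e * g) * g⁻¹ = e by group]
      exact hce
  have heq : A d = A y := Set.eq_of_subset_of_ncard_le hsub (by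
    rw [← himg, Set.ncard_image_of_injective _ (MulAut.conj g).injective]) (Set.toFinite _)
  have hsame : SameV E d y := fun e he => by
    have := Set.ext_iff.mp heq e
    simpa [A, he] using this
  exact hy.2.1 (hS d hd y hy.1 hd1 hy1 hsame).symm

theorem next_ne_one (hE : Pre E) (hne : ∀ e ∈ E, e ≠ 1) (h1 : One E) (hS : Sep E) {d : K} (hd : d ∈ E) :
    ∀ f ∈ nextSet E d, f ≠ 1 := by
  rintro _ ⟨x, hx, rfl⟩ h
  obtain ⟨w, hw, hn⟩ := noncentral hE h1 hS hd (hne d hd) hx (hne _ hx.1)
  exact hn ((mk_eq_one_iff d).mp h w hw)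

/-- the next level of a clean level is a 3-transposition group -/
theorem next_group (hE : Pre E) (hne : ∀ e ∈ E, e ≠ 1) (h1 : One E) (hS : Sep E) {d : K} (hd : d ∈ E) :
    Cfsg.IsThreeTranspositionGroup (nextSet E d) := by
  have hp := pre_next hE d
  refine ⟨⟨fun f hf => ?_, hp.two⟩, hp.conj, hp.gen⟩
  exact orderOf_eq_prime (by rw [pow_two]; exact hp.sq f hf) (next_ne_one hE hne h1 hS hd f hf)

/-- one class -/
theorem one_step (hE : Pre E) (hZ : Subgroup.center K = ⊥) {d c : K} (hd : d ∈ E) (hc : c ∈ E)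
    (hnc : ¬ Commute d c) (h1 : One (nextSet E d)) {k : ℕ}
    (hX : k ∣ Nat.card (↥(Subgroup.closure (nset E d)) ⧸ Subgroup.center ↥(Subgroup.closure (nset E d))))
    (hL : ¬ k ∣ Nat.card (↥(Subgroup.closure (nset E d ∩ nset E c)) ⧸
      Subgroup.center ↥(Subgroup.closure (nset E d ∩ nset E c)))) : One E := by
  let R : Set K := {y | y ∈ E ∧ y ≠ 1 ∧ ¬ ∃ g : K, g * d * g⁻¹ = y}
  have hd1 := ne_one_of_nc hnc
  suffices hR : ∀ y, y ∉ R by
    intro a ha b hb ha1 hb1
    obtain ⟨g, hg⟩ : ∃ g : K, g * d * g⁻¹ = a := by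
      by_contra h; exact hR a ⟨ha, ha1, h⟩
    obtain ⟨g', hg'⟩ : ∃ g : K, g * d * g⁻¹ = b := by
      by_contra h; exact hR b ⟨hb, hb1, h⟩
    exact ⟨g' * g⁻¹, by rw [← hg, ← hg']; group⟩
  have hRcomm : ∀ r ∈ R, ∀ e ∈ E, e ∉ R → Commute r e := by
    intro r hr e he heR
    by_contra hn
    obtain ⟨g, hg⟩ : ∃ g : K, g * d * g⁻¹ = e := by
      by_contra h; exact heR ⟨he, fun e1 => hn (e1 ▸ Commute.one_right r), h⟩
    obtain ⟨g', hg'⟩ := hE.conj_of_not_commute he hr.1 (fun h => hn h.symm)
    exact hr.2.2 ⟨g' * g, by rw [← hg', ← hg]; group⟩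
  have hdR : d ∉ R := fun h => h.2.2 ⟨1, by group⟩
  have hcR : c ∉ R := fun h => h.2.2 (hE.conj_of_not_commute hd hc hnc)
  have hRd : ∀ r ∈ R, r ∈ nset E d := fun r hr =>
    ⟨hr.1, fun e => hdR (e ▸ hr), (hRcomm r hr d hd hdR).symm⟩
  have hRc : ∀ r ∈ R, r ∈ nset E c := fun r hr =>
    ⟨hr.1, fun e => hcR (e ▸ hr), (hRcomm r hr c hc hcR).symm⟩
  have hRinv : ∀ (g r : K), r ∈ R → g * r * g⁻¹ ∈ R := by
    intro g r hr
    refine ⟨hE.conj g r hr.1, fun h => hr.2.1 (conj_eq_one_iff.mp h), ?_⟩
    rintro ⟨g', hg'⟩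
    exact hr.2.2 ⟨g⁻¹ * g', by
      rw [show g⁻¹ * g' * d * (g⁻¹ * g')⁻¹ = g⁻¹ * (g' * d * g'⁻¹) * g by group, hg']; group⟩
  intro r0 hr0
  -- the members outside R have central images
  have himg : ∀ r (hr : r ∈ R),
      (QuotientGroup.mk (⟨r, Subgroup.subset_closure (hRd r hr)⟩ : ↥(Subgroup.closure (nset E d))) :
        ↥(Subgroup.closure (nset E d)) ⧸ Subgroup.center ↥(Subgroup.closure (nset E d))) ≠ 1 := by
    intro r hr h
    refine hr.2.1 (hE.central_eq_one hZ fun e he => ?_)
    by_cases heR : e ∈ R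
    · exact (mk_eq_one_iff d).mp h e (hRd e heR)
    · exact hRcomm r hr e he heR
  have hout : ∀ y (hy : y ∈ nset E d), y ∉ R →
      (QuotientGroup.mk (⟨y, Subgroup.subset_closure hy⟩ : ↥(Subgroup.closure (nset E d))) :
        ↥(Subgroup.closure (nset E d)) ⧸ Subgroup.center ↥(Subgroup.closure (nset E d))) = 1 := by
    intro y hy hyR
    by_contra hne
    obtain ⟨p, hp⟩ := h1 _ ⟨⟨r0, Subgroup.subset_closure (hRd r0 hr0)⟩, hRd r0 hr0, rfl⟩ _
      ⟨⟨y, Subgroup.subset_closure hy⟩, hy, rfl⟩ (himg r0 hr0) hne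
    obtain ⟨⟨g, hg⟩, rfl⟩ := QuotientGroup.mk_surjective p
    have hr' := hRinv g r0 hr0
    have he : (QuotientGroup.mk (⟨g * r0 * g⁻¹, Subgroup.subset_closure (hRd _ hr')⟩ : ↥(Subgroup.closure (nset E d))) :
        ↥(Subgroup.closure (nset E d)) ⧸ Subgroup.center ↥(Subgroup.closure (nset E d))) =
        QuotientGroup.mk (⟨y, Subgroup.subset_closure hy⟩ : ↥(Subgroup.closure (nset E d))) := hp
    exact hyR (mk_inj hE d (hRd _ hr') hy (himg _ hr') he ▸ hr')
  -- the subgroup generated by R
  set P := Subgroup.closure R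
  set Hs := Subgroup.closure (nset E d)
  set Ls := Subgroup.closure (nset E d ∩ nset E c)
  have hPH : P ≤ Hs := (Subgroup.closure_le _).mpr fun r hr => Subgroup.subset_closure (hRd r hr)
  have hPL : P ≤ Ls := (Subgroup.closure_le _).mpr fun r hr => Subgroup.subset_closure ⟨hRd r hr, hRc r hr⟩
  let fX : P →* Hs ⧸ Subgroup.center Hs := (QuotientGroup.mk' _).comp (Subgroup.inclusion hPH)
  let fL : P →* Ls ⧸ Subgroup.center Ls := (QuotientGroup.mk' _).comp (Subgroup.inclusion hPL)
  have hfX : Function.Surjective fX := by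
    rw [← MonoidHom.range_eq_top, eq_top_iff, ← (pre_next hE d).gen, Subgroup.closure_le]
    rintro _ ⟨⟨y, hyH⟩, hy, rfl⟩
    by_cases hyR : y ∈ R
    · exact ⟨⟨y, Subgroup.subset_closure hyR⟩, rfl⟩
    · have e := hout y hy hyR
      exact ⟨1, by rw [map_one]; exact e.symm⟩
  have hfL : Function.Injective fL := by
    rw [injective_iff_map_eq_one]
    rintro ⟨u, hu⟩ h
    apply Subtype.ext
    show u = 1
    have hcen := (QuotientGroup.eq_one_iff _).mp h
    refine hE.central_eq_one hZ fun e he => ?_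
    by_cases heR : e ∈ R
    · exact (congrArg Subtype.val
        (Subgroup.mem_center_iff.mp hcen ⟨e, Subgroup.subset_closure ⟨hRd e heR, hRc e heR⟩⟩)).symm
    · clear hcen h
      induction hu using Subgroup.closure_induction with
      | mem r hr => exact hRcomm r hr e he heR
      | one => simp
      | mul a b _ _ ha hb => exact ha.mul_left hb
      | inv a _ ha => exact ha.inv_left
  exact hL (hX.trans ((Subgroup.card_dvd_of_surjective fX hfX).trans (Subgroup.card_dvd_of_injective fL hfL)))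

/-- separation -/
theorem sep_step (hE : Pre E) (h1 : One E) {d c : K} (hd : d ∈ E) (hnc : ¬ Commute d c)
    (hne : ∃ f ∈ nextSet E d, f ≠ 1) (hS : Sep (nextSet E d)) : Sep E := by
  intro a ha b hb ha1 hb1 hab
  by_contra hne'
  have hd1 := ne_one_of_nc hnc
  obtain ⟨_, ⟨⟨y, hyH⟩, hy, rfl⟩, hy0⟩ := hne
  have hy1 : y ≠ 1 := fun e => hy0 ((mk_eq_one_iff d).mpr fun w _ => by
    show Commute y w
    rw [e]; exact Commute.one_left w)
  obtain ⟨g, hg⟩ := h1 a ha y hy.1 ha1 hy1
  set y' := g * b * g⁻¹ with hy'def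
  have hsame : SameV E y y' := hg ▸ hab.conj hE.conj g
  have hyy' : y ≠ y' := fun e => hne' (mul_left_cancel (mul_right_cancel (hg.trans e)))
  have hy'1 : y' ≠ 1 := fun e => hb1 (conj_eq_one_iff.mp e)
  have hy'E : y' ∈ E := hE.conj g b hb
  have hy'd : y' ≠ d := fun e => hy0 ((mk_eq_one_iff d).mpr fun w hw => by
    have := hsame w hw.1
    rw [e] at this
    exact this.mpr hw.2.2)
  have hy' : y' ∈ nset E d := ⟨hy'E, hy'd, ((hsame d hd).mp hy.2.2.symm).symm⟩
  refine hyy' (mk_inj hE d hy hy' hy0 (hS _ ⟨⟨y, hyH⟩, hy, rfl⟩ _ ⟨⟨y', Subgroup.subset_closure hy'⟩, hy', rfl⟩ hy0 ?_ ?_))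
  · intro h
    refine hy0 ((mk_eq_one_iff d).mpr fun w hw => ?_)
    exact (hsame w hw.1).mpr ((mk_eq_one_iff d).mp h w hw)
  · rintro _ ⟨⟨w, hwH⟩, hw, rfl⟩
    constructor
    · intro h
      have h2 := (hsame w hw.1).mp (commute_lift hE d hy hw h)
      exact (Commute.map (x := (⟨y', Subgroup.subset_closure hy'⟩ : ↥(Subgroup.closure (nset E d))))
        (y := ⟨w, hwH⟩) (Subtype.ext h2.eq)
        (QuotientGroup.mk' (Subgroup.center ↥(Subgroup.closure (nset E d)))) :)
    · intro h
      have h2 := (hsame w hw.1).mpr (commute_lift hE d hy' hw h)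
      exact (Commute.map (x := (⟨y, hyH⟩ : ↥(Subgroup.closure (nset E d))))
        (y := ⟨w, hwH⟩) (Subtype.ext h2.eq)
        (QuotientGroup.mk' (Subgroup.center ↥(Subgroup.closure (nset E d)))) :)

/-- three members -/
theorem noRel_three (hE : Pre E) (hS : Sep E) : NoRel 3 E := by
  intro l hn hlen hl hcom hp
  match l, hlen with
  | [x, y, z], _ =>
    simp only [List.nodup_cons, List.mem_cons, List.not_mem_nil, or_false, not_or, List.nodup_nil, and_true,
      not_false_eq_true] at hn
    obtain ⟨⟨hxy, hxz⟩, hyz⟩ := hn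
    simp only [List.prod_cons, List.prod_nil, mul_one] at hp
    obtain ⟨hx, hx1⟩ := hl x (by simp)
    obtain ⟨hy, hy1⟩ := hl y (by simp)
    obtain ⟨hz, hz1⟩ := hl z (by simp)
    have cxy := hcom x (by simp) y (by simp)
    have hz' : z = y * x := by
      have : x * y * z = 1 := by rwa [mul_assoc]
      rw [eq_inv_of_mul_eq_one_right this, mul_inv_rev, inv_eq_of_mul_eq_one_right (hE.sq x hx),
        inv_eq_of_mul_eq_one_right (hE.sq y hy)]
    have key : ∀ u v : K, u ∈ E → v ∈ E → Commute u v → v ≠ 1 → u * v = z → ∀ w ∈ E, Commute v w → Commute u w := by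
      intro u v hu hv cuv hv1 huv w hw hvw
      by_contra hun
      have hzw : ¬ Commute z w := fun h => hun (by
        have := h.mul_left hvw
        rwa [← huv, mul_assoc, hE.sq v hv, mul_one] at this)
      have hb1 := (hE.braid hu hw hun).2
      have hb2 := (hE.braid hz hw hzw).2
      have e1 : z * w * z = u * w * u := by
        rw [← huv]
        calc u * v * w * (u * v) = u * (v * w) * (u * v) := by simp only [mul_assoc]
          _ = u * (w * v) * (v * u) := by rw [hvw.eq, cuv.eq]
          _ = u * w * (v * v) * u := by simp only [mul_assoc]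
          _ = u * w * u := by rw [hE.sq v hv, mul_one]
      rw [hb1, hb2] at e1
      have e2 : z = u := mul_left_cancel (mul_right_cancel e1)
      exact hv1 (mul_left_cancel (a := u) (by rw [huv, e2, mul_one]))
    refine hxy (hS x hx y hy hx1 hy1 fun w hw => ⟨fun h => ?_, fun h => ?_⟩)
    · exact key y x hy hx cxy.symm hx1 hz'.symm w hw h
    · exact key x y hx hy cxy hy1 (cxy.eq.trans hz'.symm) w hw h

/-- descent -/
theorem noRel_step (hE : Pre E) (hne : ∀ e ∈ E, e ≠ 1) (h1 : One E) (hS : Sep E) {d : K} (hd : d ∈ E)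
    {k : ℕ} (hR : NoRel k (nextSet E d)) : NoRel (k + 1) E := by
  intro l hn hlen hl hcom hp
  match l, hlen with
  | x :: t, hlen =>
    obtain ⟨g, hg⟩ := h1 x (hl x (by simp)).1 d hd (hl x (by simp)).2 (hne d hd)
    set φ : K →* K := (MulAut.conj g).toMonoidHom with hφ
    have hφa : ∀ a, φ a = g * a * g⁻¹ := fun a => rfl
    rw [List.nodup_cons] at hn
    have htm : ∀ a ∈ t.map φ, a ∈ nset E d := by
      intro a ha
      obtain ⟨b, hb, rfl⟩ := List.mem_map.mp ha
      rw [hφa, ← hg]
      refine ⟨hE.conj g b (hl b (by simp [hb])).1, fun e => hn.1 ?_, commute_conj_iff.mpr (hcom x (by simp) b (by simp [hb]))⟩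
      rwa [← mul_left_cancel (mul_right_cancel e)]
    let el : {a : K // a ∈ nset E d} → ↥(Subgroup.closure (nset E d)) := fun a => ⟨a, Subgroup.subset_closure a.2⟩
    let t' : List {a : K // a ∈ nset E d} := (t.map φ).attachWith (· ∈ nset E d) htm
    have hval : (t'.map el).map (Subgroup.closure (nset E d)).subtype = t.map φ := by
      rw [List.map_map]
      exact List.attachWith_map_subtype_val htm
    have hnd' : t'.Nodup := by
      refine List.Nodup.of_map Subtype.val ?_
      rw [List.attachWith_map_subtype_val]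
      exact hn.2.map (MulAut.conj g).injective
    have hcom' : ∀ a ∈ t', ∀ b ∈ t', Commute (a : K) (b : K) := by
      intro a ha b hb
      obtain ⟨u, hu, hua⟩ := List.mem_map.mp ((List.mem_attachWith htm a).mp ha)
      obtain ⟨v, hv, hvb⟩ := List.mem_map.mp ((List.mem_attachWith htm b).mp hb)
      rw [← hua, ← hvb, hφa, hφa]
      exact commute_conj_iff.mpr (hcom u (by simp [hu]) v (by simp [hv]))
    let mk := QuotientGroup.mk' (Subgroup.center ↥(Subgroup.closure (nset E d)))
    have hne1 : ∀ a, mk (el a) ≠ 1 := fun a => next_ne_one hE hne h1 hS hd _ ⟨el a, a.2, rfl⟩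
    refine hR (t'.map fun a => mk (el a)) ?_ ?_ ?_ ?_ ?_
    · refine hnd'.map fun a b h => Subtype.ext ?_
      exact mk_inj hE d a.2 b.2 (hne1 a) h
    · simp only [t', List.length_map, List.length_attachWith]
      simpa using hlen
    · intro a ha
      obtain ⟨b, -, rfl⟩ := List.mem_map.mp ha
      exact ⟨⟨el b, b.2, rfl⟩, hne1 b⟩
    · intro a ha b hb
      obtain ⟨u, hu, rfl⟩ := List.mem_map.mp ha
      obtain ⟨v, hv, rfl⟩ := List.mem_map.mp hb
      exact Commute.map (Subtype.ext (hcom' u hu v hv).eq) mk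
    · have e1 : (t.map φ).prod = d := by
        have e0 : φ (x :: t).prod = 1 := by rw [hp, map_one]
        rw [List.prod_cons, map_mul, hφa x, hg, map_list_prod] at e0
        calc (t.map φ).prod = d * (d * (t.map φ).prod) := by rw [← mul_assoc, hE.sq d hd, one_mul]
          _ = d := by rw [e0, mul_one]
      have e2 : (t'.map fun a => mk (el a)).prod = mk (t'.map el).prod := by
        rw [map_list_prod, List.map_map]
        rfl
      rw [e2]
      refine (mk_eq_one_iff d).mpr fun e he => ?_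
      have e3 : (((t'.map el).prod : ↥(Subgroup.closure (nset E d))) : K) = d := by
        refine (map_list_prod (Subgroup.closure (nset E d)).subtype _).trans ?_
        rw [hval]
        exact e1
      rw [e3]
      exact he.2.2

end Cfsg.Agent.Spor.M23Rel
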