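/-!
Tables sorting eight transpositions of Fi22 in the pattern of the diagram Y322 into four classes.
-/

set_option autoImplicit false
set_option maxRecDepth 100000

namespace Cfsg.Agent.Spor.M23Rel.OrbitDat

/-- the first point -/
def a0 : Nat := 317

/-- the second point -/
def b0 : Nat := 2

/-- the third point -/
def c0 : Nat := 5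

/-- words moving candidates onto the first point -/
def wa : List (Nat × List Nat) :=
  [(2, [1, 0, 2, 3, 6, 0]),
   (5, [1, 0, 2, 3, 6, 0, 2, 6]),
   (6, [6, 2, 1, 3, 2, 4, 3]),
   (10, [1, 2, 3, 6, 0, 2]),
   (11, [6, 0, 2, 3]),
   (12, [1, 0, 2, 1, 3, 2, 4]),
   (13, [1, 0, 2, 3, 4, 5, 6, 0, 2, 1]),
   (14, [1, 2, 3, 4, 5, 6, 2, 1, 3]),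
   (21, [6, 2, 1, 3]),
   (22, [1, 6, 2, 3, 4, 5]),
   (23, [1, 2, 3, 4, 6, 0]),
   (24, [1, 2, 3, 6]),
   (25, [1, 2, 6, 2, 3, 4]),
   (26, [1, 0, 2, 3, 4, 5]),
   (27, [1, 2, 3, 4, 5, 6, 0, 2, 3, 6]),
   (37, [1, 2, 6, 0]),
   (38, [1, 0, 2, 3, 4, 6, 2]),
   (39, [1, 0, 2, 3]),
   (40, [1, 2, 3, 4, 5, 6, 0, 2, 6]),
   (41, [1, 0, 2, 1, 3, 4, 5]),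
   (42, [1, 0, 2, 3, 4, 5, 6, 2, 3]),
   (43, [6, 2, 3, 4]),
   (44, [1, 2, 3, 6, 2, 3]),
   (45, [1, 2, 3, 4]),
   (46, [1, 2, 6, 2]),
   (47, [6, 2, 1, 3, 4, 5]),
   (48, [1, 2, 3, 4, 5, 6, 2, 3, 4, 5]),
   (65, [1, 2, 3, 4, 6, 2, 1, 3, 2]),
   (66, [6, 2]),
   (67, [1, 0, 2, 3, 4, 5, 6, 0, 2, 3]),
   (68, [1, 0, 2, 3, 6, 0, 2, 1]),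
   (69, [6, 2, 3, 4, 5]),
   (70, [1, 2, 3, 4, 5, 6, 2, 1]),
   (71, [6, 2, 1, 3, 2, 4, 5]),
   (72, [1, 2, 3, 4, 5, 6, 2]),
   (73, [1, 0, 2, 3, 4, 6, 0, 2]),
   (74, [1, 2, 3, 4, 6, 0, 2, 6]),
   (75, [1, 2, 3, 4, 5, 6, 0, 2, 3, 4]),
   (76, [1, 2, 3, 6, 2, 1, 3, 4]),
   (77, [1, 2]),
   (78, [1, 2, 3, 4, 5, 6, 0, 2]),
   (79, [1, 0, 2, 3, 4, 5, 6, 0, 2, 6]),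
   (80, [1, 0, 2, 1, 3, 2, 4, 3]),
   (105, [1, 2, 3, 4, 6, 2, 3, 4, 5]),
   (106, [1, 2, 3, 4, 5, 6, 2, 1, 3, 4]),
   (107, [1, 6]),
   (108, [1, 0, 2, 6]),
   (109, [1, 2, 3, 4, 6, 2]),
   (110, [6, 2, 1, 3, 2, 4]),
   (111, [1, 0, 2, 1, 3, 2, 4, 3, 5]),
   (112, [1, 2, 3, 4, 5, 6, 0]),
   (113, [1, 0, 2, 3, 4, 5, 6]),
   (114, [1, 0, 2, 3, 4, 5, 6, 0, 2]),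
   (115, [1, 2, 3, 4, 5, 6, 0, 2, 3]),
   (116, [1, 0, 2, 3, 4, 6, 0, 2, 3]),
   (117, [1, 0, 2, 6, 0]),
   (118, [6, 2, 1, 3, 2, 4, 6]),
   (119, [1, 2, 3, 4, 6, 2, 1]),
   (120, [1, 2, 3, 4, 6, 0, 2, 3, 6, 2]),
   (121, [1, 2, 3, 6, 2, 3, 4, 5]),
   (122, [6, 0, 2, 3, 4, 5]),
   (123, [1, 0, 2, 3, 6, 2]),
   (124, [1, 0, 2, 3, 4, 6, 0]),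
   (125, [1, 2, 3, 4, 6, 2, 3]),
   (126, [1, 2, 3, 4, 6, 0, 2]),
   (166, [1, 2, 3, 4, 6, 0, 2, 3]),
   (167, [1, 0, 2, 1, 3, 4]),
   (168, [1, 2, 3, 4, 5, 6, 2, 3]),
   (169, [1, 0, 2, 3, 4, 5, 6, 0]),
   (170, [1, 0, 2, 1, 3, 2, 4, 5]),
   (171, [1, 0, 2, 3, 4, 6, 2, 3]),
   (172, [1, 2, 3, 6, 2, 3, 4]),
   (173, [6, 2, 1, 3, 2, 4, 5, 6]),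
   (174, [1, 0]),
   (175, [6, 2, 1, 3, 2, 4, 3, 6, 2]),
   (176, [6, 0]),
   (177, [1, 0, 2, 3, 4, 5, 6, 2]),
   (178, [1, 0, 2, 1, 3, 2]),
   (179, [1, 2, 3, 4, 5, 6]),
   (180, [1, 0, 2, 3, 6, 0, 2, 1, 6]),
   (181, [1, 0, 2, 3, 4, 6]),
   (182, [6, 2, 1, 3, 2, 4, 3, 5, 6]),
   (184, [1, 2, 3]),
   (186, [1, 2, 3, 4, 5, 6, 2, 3, 4]),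
   (187, [6, 2, 1, 3, 4]),
   (234, [6, 2, 1, 3, 2, 4, 3, 6]),
   (235, [1, 6, 2, 3, 4]),
   (236, [1, 0, 2, 3, 4, 6, 0, 2, 6]),
   (238, [6, 2, 1, 3, 2, 4, 3, 5]),
   (239, [1, 2, 3, 6, 2]),
   (240, [1, 2, 6, 2, 3, 4, 5]),
   (241, [6]),
   (242, [6, 2, 1, 3, 2, 4, 3, 5, 4]),
   (243, [1, 2, 3, 4, 6]),
   (244, [1, 6, 2]),
   (245, [1, 2, 3, 6, 2, 1, 3, 4, 5]),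
   (246, [1, 2, 6, 2, 3]),
   (247, [1, 2, 3, 6, 0, 2, 6]),
   (248, [1, 2, 3, 4, 5, 6, 2, 1, 3, 2]),
   (249, [1, 2, 3, 6, 0]),
   (250, [1]),
   (252, [6, 2, 1, 3, 2]),
   (253, [1, 2, 3, 6, 2, 1, 3]),
   (255, [1, 2, 3, 4, 6, 0, 2, 3, 6]),
   (256, [1, 0, 2, 3, 4]),
   (313, [6, 0, 2, 3, 4]),
   (314, [1, 2, 3, 4, 6, 2, 1, 3, 4]),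
   (316, [1, 0, 2, 3, 4, 6, 0, 2, 1]),
   (317, []),
   (318, [1, 2, 3, 4, 6, 2, 1, 3]),
   (319, [1, 0, 2, 1, 3]),
   (320, [1, 0, 2]),
   (321, [1, 2, 3, 4, 5]),
   (322, [6, 2, 3]),
   (323, [1, 0, 2, 3, 4, 5, 6, 2, 3, 4]),
   (324, [1, 0, 2, 1]),
   (325, [6, 0, 2]),
   (326, [1, 2, 3, 6, 2, 1]),
   (327, [1, 2, 3, 4, 6, 2, 3, 4]),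
   (329, [6, 2, 1, 3, 2, 6]),
   (388, [1, 0, 2, 3, 6]),
   (389, [1, 0, 2, 1, 3, 2, 4, 3, 5, 4]),
   (390, [1, 2, 6]),
   (391, [6, 2, 1]),
   (392, [1, 6, 2, 3]),
   (393, [1, 0, 2, 3, 6, 0, 2])]

/-- words moving candidates onto the second point -/
def wb : List (Nat × List Nat) :=
  [(2, []),
   (6, [1, 0, 2, 1, 4, 6, 0, 2, 3, 6]),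
   (10, [0, 6, 0, 2, 1, 6, 0, 2, 1]),
   (11, [0, 1, 2, 6, 0, 1, 2, 1, 6]),
   (21, [1, 0, 2, 1, 0, 6, 0, 2, 6]),
   (23, [1, 2, 1, 4, 6, 0, 1, 2, 1, 6]),
   (24, [2, 6, 0, 2, 1, 6, 0, 2, 1]),
   (25, [2, 1, 4, 6, 2, 1, 0, 6, 2, 1]),
   (26, [0, 1, 4, 5, 6, 2, 1, 0, 6, 2, 1]),
   (37, [1, 2, 1, 6, 0, 1, 2, 1, 3, 6]),
   (38, [0, 2, 4]),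
   (39, [0, 1, 6, 2, 1, 0, 6, 2, 1]),
   (42, [0, 2, 4, 3, 5]),
   (43, [1, 2, 4, 6, 0, 1, 2, 1, 6]),
   (44, [0, 1, 0, 2, 1, 6, 0, 2, 6]),
   (45, [1, 4, 6, 2, 1, 0, 6, 2, 1]),
   (46, [2, 1, 6, 2, 1, 0, 6, 2, 1, 3]),
   (47, [1, 0, 2, 1, 0, 4, 5, 6, 0, 2, 6]),
   (48, [0, 1, 0, 2, 1, 4, 5, 6, 0, 2, 3, 4, 6]),
   (66, [1, 2, 6, 0, 1, 2, 1, 3, 6]),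
   (67, [2, 4, 3, 5]),
   (69, [1, 2, 4, 5, 6, 0, 1, 2, 1, 6]),
   (71, [1, 0, 2, 1, 4, 5, 6, 0, 2, 6]),
   (72, [4, 5, 6, 0, 2, 1, 6, 0, 2, 1]),
   (73, [2, 4]),
   (75, [0, 4, 5, 6, 0, 2, 1, 6, 0, 2, 1, 3, 4]),
   (77, [1, 6, 2, 1, 0, 6, 2, 1, 3]),
   (78, [0, 4, 5, 6, 0, 2, 1, 6, 0, 2, 1]),
   (105, [0, 1, 0, 2, 1, 4, 5, 6, 0, 2, 3, 6]),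
   (108, [0, 3]),
   (109, [4, 6, 0, 2, 1, 6, 0, 2, 1]),
   (110, [1, 0, 2, 1, 4, 6, 0, 2, 6]),
   (112, [1, 2, 1, 4, 5, 6, 0, 1, 2, 1, 6]),
   (113, [0, 4, 5]),
   (114, [2, 4, 5]),
   (115, [0, 4, 5, 6, 0, 2, 1, 6, 0, 2, 1, 3]),
   (116, [2, 4, 3]),
   (117, [3]),
   (121, [0, 1, 0, 2, 1, 4, 5, 6, 0, 2, 6]),
   (122, [0, 1, 2, 4, 5, 6, 0, 1, 2, 1, 6]),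
   (123, [0, 2]),
   (124, [4]),
   (125, [4, 6, 0, 2, 1, 6, 0, 2, 1, 3]),
   (126, [0, 4, 6, 0, 2, 1, 6, 0, 2, 1]),
   (166, [0, 4, 6, 0, 2, 1, 6, 0, 2, 1, 3]),
   (168, [4, 5, 6, 0, 2, 1, 6, 0, 2, 1, 3]),
   (169, [4, 5]),
   (171, [0, 2, 4, 3]),
   (172, [0, 1, 0, 2, 1, 4, 6, 0, 2, 6]),
   (174, [0, 1, 6, 2, 1, 0, 6, 2, 1, 3, 2]),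
   (176, [0, 1, 2, 6, 0, 1, 2, 1, 3, 6, 2]),
   (177, [0, 2, 4, 5]),
   (179, [2, 4, 5, 6, 0, 2, 1, 6, 0, 2, 1]),
   (180, [2, 4, 3, 5, 4]),
   (181, [0, 4]),
   (184, [1, 6, 2, 1, 0, 6, 2, 1]),
   (186, [4, 5, 6, 0, 2, 1, 6, 0, 2, 1, 3, 4]),
   (187, [1, 0, 2, 1, 0, 4, 6, 0, 2, 6]),
   (238, [1, 0, 2, 1, 4, 5, 6, 0, 2, 3, 6]),
   (239, [6, 0, 2, 1, 6, 0, 2, 1]),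
   (240, [2, 1, 4, 5, 6, 2, 1, 0, 6, 2, 1]),
   (241, [1, 2, 6, 0, 1, 2, 1, 3, 6, 2]),
   (242, [1, 0, 2, 1, 4, 5, 6, 0, 2, 3, 4, 6]),
   (243, [2, 4, 6, 0, 2, 1, 6, 0, 2, 1]),
   (246, [2, 1, 6, 2, 1, 0, 6, 2, 1]),
   (249, [1, 2, 1, 6, 0, 1, 2, 1, 6]),
   (250, [1, 6, 2, 1, 0, 6, 2, 1, 3, 2]),
   (252, [1, 0, 2, 1, 6, 0, 2, 6]),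
   (256, [0, 1, 4, 6, 2, 1, 0, 6, 2, 1]),
   (313, [0, 1, 2, 4, 6, 0, 1, 2, 1, 6]),
   (320, [0, 1, 6, 2, 1, 0, 6, 2, 1, 3]),
   (321, [1, 4, 5, 6, 2, 1, 0, 6, 2, 1]),
   (322, [1, 2, 6, 0, 1, 2, 1, 6]),
   (323, [0, 2, 4, 3, 5, 4]),
   (325, [0, 1, 2, 6, 0, 1, 2, 1, 3, 6]),
   (327, [0, 1, 0, 2, 1, 4, 6, 0, 2, 3, 6]),
   (388, [0]),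
   (390, [2, 6, 0, 2, 1, 6, 0, 2, 1, 3]),
   (391, [1, 0, 2, 1, 0, 6, 0, 2, 3, 6]),
   (393, [2])]

/-- words moving candidates onto the third point -/
def wc : List (Nat × List Nat) :=
  [(5, []),
   (13, [3, 4, 3]),
   (14, [3, 2, 1, 0, 4, 3, 5, 6, 0, 1]),
   (22, [0, 1, 3, 2, 4, 5, 6, 0, 1, 2, 1, 3, 6]),
   (27, [3, 2, 4, 3, 5]),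
   (41, [3, 2, 4, 5, 6, 0, 2, 1, 6, 0, 2, 1, 3]),
   (68, [1, 0, 3, 2, 1, 6, 0, 2, 3, 6]),
   (79, [1, 0, 3, 2, 1, 4, 6, 0, 2, 3, 6]),
   (80, [3, 4, 6, 0, 2, 1, 6, 0, 2, 1, 3]),
   (111, [3, 4, 5, 6, 0, 2, 1, 6, 0, 2, 1, 3]),
   (120, [0, 2, 4, 3, 2, 1, 0, 5, 4, 6, 0, 1, 2]),
   (167, [3, 2, 4, 6, 0, 2, 1, 6, 0, 2, 1, 3]),
   (178, [3, 6, 0, 2, 1, 6, 0, 2, 1, 3]),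
   (182, [0, 2, 1, 0, 4, 3, 5, 4, 6, 0, 1, 2]),
   (234, [0, 1, 3, 4, 6, 2, 1, 0, 6, 2, 1, 3]),
   (235, [0, 1, 3, 2, 4, 6, 0, 1, 2, 1, 3, 6]),
   (236, [1, 0, 3, 2, 1, 4, 5, 6, 0, 2, 3, 6]),
   (244, [0, 1, 3, 2, 6, 0, 1, 2, 1, 3, 6]),
   (247, [0, 1, 3, 6, 2, 1, 0, 6, 2, 1, 3]),
   (253, [2, 3, 2, 1, 0, 6, 0, 1]),
   (255, [3, 2, 4, 3]),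
   (314, [1, 0, 3, 2, 1, 0, 4, 6, 0, 2, 3, 6]),
   (316, [3, 4, 3, 5]),
   (318, [3, 2, 1, 0, 4, 3, 6, 0, 1]),
   (324, [3, 2, 6, 0, 2, 1, 6, 0, 2, 1, 3]),
   (326, [1, 0, 3, 2, 1, 0, 6, 0, 2, 3, 6]),
   (329, [2, 3, 2])]

/-- words moving the remaining three candidates onto one of the four representatives -/
def we : List ((Nat × Nat × Nat) × Nat × List Nat) :=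
  [((40, 70, 365), 0, []),
   ((40, 70, 400), 1, []),
   ((40, 70, 502), 2, []),
   ((40, 70, 658), 3, []),
   ((40, 74, 90), 0, [1, 0, 2, 3, 4, 6, 0, 2, 1, 3, 6, 2, 0, 6, 5, 4, 3, 2, 0, 1]),
   ((40, 74, 529), 3, [1, 0, 2, 3, 4, 6, 0, 2, 1, 3, 6, 2, 0, 6, 5, 4, 3, 2, 0, 1]),
   ((40, 74, 581), 2, [1, 0, 2, 3, 4, 6, 0, 2, 1, 3, 6, 2, 0, 6, 5, 4, 3, 2, 0, 1]),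
   ((40, 74, 616), 1, [1, 0, 2, 3, 4, 6, 0, 2, 1, 3, 6, 2, 0, 6, 5, 4, 3, 2, 0, 1]),
   ((40, 107, 36), 0, [2, 1, 0, 3, 2, 1, 4, 3, 2, 6, 2, 3, 4, 1, 2, 3, 0, 1, 2]),
   ((40, 107, 541), 3, [2, 1, 0, 3, 2, 1, 4, 3, 2, 6, 2, 3, 4, 1, 2, 3, 0, 1, 2]),
   ((40, 107, 581), 2, [2, 1, 0, 3, 2, 1, 4, 3, 2, 6, 2, 3, 4, 1, 2, 3, 0, 1, 2]),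
   ((40, 107, 616), 1, [2, 1, 0, 3, 2, 1, 4, 3, 2, 6, 2, 3, 4, 1, 2, 3, 0, 1, 2]),
   ((40, 389, 395), 0, [1, 2, 4, 3, 6, 0, 1, 2, 1, 0, 6, 3, 4, 2, 1]),
   ((40, 389, 400), 1, [1, 2, 4, 3, 6, 0, 1, 2, 1, 0, 6, 3, 4, 2, 1]),
   ((40, 389, 462), 3, [1, 2, 4, 3, 6, 0, 1, 2, 1, 0, 6, 3, 4, 2, 1]),
   ((40, 389, 502), 2, [1, 2, 4, 3, 6, 0, 1, 2, 1, 0, 6, 3, 4, 2, 1]),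
   ((70, 40, 339), 1, [1, 0, 6, 0, 1]),
   ((70, 40, 436), 0, [1, 0, 6, 0, 1]),
   ((70, 40, 588), 2, [1, 0, 6, 0, 1]),
   ((70, 40, 675), 3, [1, 0, 6, 0, 1]),
   ((70, 107, 36), 0, [5, 2, 1, 0, 4, 3, 2, 1, 5, 6, 0, 2, 3, 1, 2, 6, 0, 1, 2, 6, 4, 5]),
   ((70, 107, 541), 3, [5, 2, 1, 0, 4, 3, 2, 1, 5, 6, 0, 2, 3, 1, 2, 6, 0, 1, 2, 6, 4, 5]),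
   ((70, 107, 581), 2, [5, 2, 1, 0, 4, 3, 2, 1, 5, 6, 0, 2, 3, 1, 2, 6, 0, 1, 2, 6, 4, 5]),
   ((70, 107, 616), 1, [5, 2, 1, 0, 4, 3, 2, 1, 5, 6, 0, 2, 3, 1, 2, 6, 0, 1, 2, 6, 4, 5]),
   ((70, 119, 145), 0, [5, 1, 0, 2, 3, 4, 6, 0, 2, 1, 3, 6, 2, 0, 6, 5, 4, 3, 2, 0, 1]),
   ((70, 119, 580), 3, [5, 1, 0, 2, 3, 4, 6, 0, 2, 1, 3, 6, 2, 0, 6, 5, 4, 3, 2, 0, 1]),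
   ((70, 119, 581), 2, [5, 1, 0, 2, 3, 4, 6, 0, 2, 1, 3, 6, 2, 0, 6, 5, 4, 3, 2, 0, 1]),
   ((70, 119, 616), 1, [5, 1, 0, 2, 3, 4, 6, 0, 2, 1, 3, 6, 2, 0, 6, 5, 4, 3, 2, 0, 1]),
   ((70, 389, 339), 1, [4, 5, 6, 2, 1, 0, 6, 2, 1, 0, 3, 2, 6, 1, 2, 3, 4, 0, 1, 2]),
   ((70, 389, 395), 3, [4, 5, 6, 2, 1, 0, 6, 2, 1, 0, 3, 2, 6, 1, 2, 3, 4, 0, 1, 2]),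
   ((70, 389, 462), 0, [4, 5, 6, 2, 1, 0, 6, 2, 1, 0, 3, 2, 6, 1, 2, 3, 4, 0, 1, 2]),
   ((70, 389, 588), 2, [4, 5, 6, 2, 1, 0, 6, 2, 1, 0, 3, 2, 6, 1, 2, 3, 4, 0, 1, 2]),
   ((74, 40, 136), 1, [1, 0, 2, 3, 4, 6, 0, 2, 1, 3, 6, 2, 0, 6, 5, 4, 3, 2, 0, 1, 5]),
   ((74, 40, 211), 2, [1, 0, 2, 3, 4, 6, 0, 2, 1, 3, 6, 2, 0, 6, 5, 4, 3, 2, 0, 1, 5]),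
   ((74, 40, 436), 3, [1, 0, 2, 3, 4, 6, 0, 2, 1, 3, 6, 2, 0, 6, 5, 4, 3, 2, 0, 1, 5]),
   ((74, 40, 675), 0, [1, 0, 2, 3, 4, 6, 0, 2, 1, 3, 6, 2, 0, 6, 5, 4, 3, 2, 0, 1, 5]),
   ((74, 107, 36), 3, [5, 2, 4, 6, 0, 2, 1, 3, 2, 6, 2, 3, 1, 2, 0, 6, 4, 2]),
   ((74, 107, 136), 1, [5, 2, 4, 6, 0, 2, 1, 3, 2, 6, 2, 3, 1, 2, 0, 6, 4, 2]),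
   ((74, 107, 211), 2, [5, 2, 4, 6, 0, 2, 1, 3, 2, 6, 2, 3, 1, 2, 0, 6, 4, 2]),
   ((74, 107, 541), 0, [5, 2, 4, 6, 0, 2, 1, 3, 2, 6, 2, 3, 1, 2, 0, 6, 4, 2]),
   ((74, 119, 145), 3, [5]),
   ((74, 119, 400), 1, [5]),
   ((74, 119, 502), 2, [5]),
   ((74, 119, 580), 0, [5]),
   ((74, 389, 395), 0, [1, 2, 4, 3, 6, 0, 1, 2, 1, 0, 6, 3, 4, 2, 1, 5]),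
   ((74, 389, 400), 1, [1, 2, 4, 3, 6, 0, 1, 2, 1, 0, 6, 3, 4, 2, 1, 5]),
   ((74, 389, 462), 3, [1, 2, 4, 3, 6, 0, 1, 2, 1, 0, 6, 3, 4, 2, 1, 5]),
   ((74, 389, 502), 2, [1, 2, 4, 3, 6, 0, 1, 2, 1, 0, 6, 3, 4, 2, 1, 5]),
   ((107, 40, 339), 1, [5, 1, 2, 4, 3, 6, 0, 1, 2, 1, 0, 6, 3, 4, 2, 1, 5, 1, 0, 6, 0, 1]),
   ((107, 40, 436), 0, [5, 1, 2, 4, 3, 6, 0, 1, 2, 1, 0, 6, 3, 4, 2, 1, 5, 1, 0, 6, 0, 1]),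
   ((107, 40, 588), 2, [5, 1, 2, 4, 3, 6, 0, 1, 2, 1, 0, 6, 3, 4, 2, 1, 5, 1, 0, 6, 0, 1]),
   ((107, 40, 675), 3, [5, 1, 2, 4, 3, 6, 0, 1, 2, 1, 0, 6, 3, 4, 2, 1, 5, 1, 0, 6, 0, 1]),
   ((107, 70, 365), 0, [5, 1, 2, 4, 3, 6, 0, 1, 2, 1, 0, 6, 3, 4, 2, 1, 5]),
   ((107, 70, 400), 1, [5, 1, 2, 4, 3, 6, 0, 1, 2, 1, 0, 6, 3, 4, 2, 1, 5]),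
   ((107, 70, 502), 2, [5, 1, 2, 4, 3, 6, 0, 1, 2, 1, 0, 6, 3, 4, 2, 1, 5]),
   ((107, 70, 658), 3, [5, 1, 2, 4, 3, 6, 0, 1, 2, 1, 0, 6, 3, 4, 2, 1, 5]),
   ((107, 74, 90), 3, [5, 4, 5, 6, 2, 1, 0, 6, 2, 1, 0, 3, 2, 6, 1, 2, 3, 4, 0, 1, 2]),
   ((107, 74, 339), 1, [5, 4, 5, 6, 2, 1, 0, 6, 2, 1, 0, 3, 2, 6, 1, 2, 3, 4, 0, 1, 2]),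
   ((107, 74, 529), 0, [5, 4, 5, 6, 2, 1, 0, 6, 2, 1, 0, 3, 2, 6, 1, 2, 3, 4, 0, 1, 2]),
   ((107, 74, 588), 2, [5, 4, 5, 6, 2, 1, 0, 6, 2, 1, 0, 3, 2, 6, 1, 2, 3, 4, 0, 1, 2]),
   ((107, 119, 145), 3, [5, 1, 2, 4, 3, 6, 0, 1, 2, 1, 0, 6, 3, 4, 2, 1]),
   ((107, 119, 400), 1, [5, 1, 2, 4, 3, 6, 0, 1, 2, 1, 0, 6, 3, 4, 2, 1]),
   ((107, 119, 502), 2, [5, 1, 2, 4, 3, 6, 0, 1, 2, 1, 0, 6, 3, 4, 2, 1]),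
   ((107, 119, 580), 0, [5, 1, 2, 4, 3, 6, 0, 1, 2, 1, 0, 6, 3, 4, 2, 1]),
   ((119, 70, 136), 1, [5, 1, 0, 2, 3, 4, 6, 0, 2, 1, 3, 6, 2, 0, 6, 5, 4, 3, 2, 0, 1, 5]),
   ((119, 70, 211), 2, [5, 1, 0, 2, 3, 4, 6, 0, 2, 1, 3, 6, 2, 0, 6, 5, 4, 3, 2, 0, 1, 5]),
   ((119, 70, 365), 3, [5, 1, 0, 2, 3, 4, 6, 0, 2, 1, 3, 6, 2, 0, 6, 5, 4, 3, 2, 0, 1, 5]),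
   ((119, 70, 658), 0, [5, 1, 0, 2, 3, 4, 6, 0, 2, 1, 3, 6, 2, 0, 6, 5, 4, 3, 2, 0, 1, 5]),
   ((119, 74, 90), 3, [5, 1, 0, 6, 0, 1]),
   ((119, 74, 339), 1, [5, 1, 0, 6, 0, 1]),
   ((119, 74, 529), 0, [5, 1, 0, 6, 0, 1]),
   ((119, 74, 588), 2, [5, 1, 0, 6, 0, 1]),
   ((119, 107, 36), 3, [5, 2, 1, 0, 4, 3, 2, 1, 5, 6, 0, 2, 3, 1, 2, 6, 0, 1, 2, 6, 4]),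
   ((119, 107, 136), 1, [5, 2, 1, 0, 4, 3, 2, 1, 5, 6, 0, 2, 3, 1, 2, 6, 0, 1, 2, 6, 4]),
   ((119, 107, 211), 2, [5, 2, 1, 0, 4, 3, 2, 1, 5, 6, 0, 2, 3, 1, 2, 6, 0, 1, 2, 6, 4]),
   ((119, 107, 541), 0, [5, 2, 1, 0, 4, 3, 2, 1, 5, 6, 0, 2, 3, 1, 2, 6, 0, 1, 2, 6, 4]),
   ((119, 389, 339), 1, [1, 2, 4, 3, 6, 0, 1, 2, 1, 0, 6, 3, 4, 2, 1, 5, 1, 0, 6, 0, 1]),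
   ((119, 389, 395), 3, [1, 2, 4, 3, 6, 0, 1, 2, 1, 0, 6, 3, 4, 2, 1, 5, 1, 0, 6, 0, 1]),
   ((119, 389, 462), 0, [1, 2, 4, 3, 6, 0, 1, 2, 1, 0, 6, 3, 4, 2, 1, 5, 1, 0, 6, 0, 1]),
   ((119, 389, 588), 2, [1, 2, 4, 3, 6, 0, 1, 2, 1, 0, 6, 3, 4, 2, 1, 5, 1, 0, 6, 0, 1]),
   ((389, 40, 136), 1, [2, 1, 0, 4, 3, 2, 1, 5, 6, 0, 2, 3, 1, 2, 6, 0, 1, 2, 6, 4]),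
   ((389, 40, 211), 2, [2, 1, 0, 4, 3, 2, 1, 5, 6, 0, 2, 3, 1, 2, 6, 0, 1, 2, 6, 4]),
   ((389, 40, 436), 3, [2, 1, 0, 4, 3, 2, 1, 5, 6, 0, 2, 3, 1, 2, 6, 0, 1, 2, 6, 4]),
   ((389, 40, 675), 0, [2, 1, 0, 4, 3, 2, 1, 5, 6, 0, 2, 3, 1, 2, 6, 0, 1, 2, 6, 4]),
   ((389, 70, 136), 1, [2, 4, 6, 0, 2, 1, 3, 2, 6, 2, 3, 1, 2, 0, 6, 4, 2]),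
   ((389, 70, 211), 2, [2, 4, 6, 0, 2, 1, 3, 2, 6, 2, 3, 1, 2, 0, 6, 4, 2]),
   ((389, 70, 365), 3, [2, 4, 6, 0, 2, 1, 3, 2, 6, 2, 3, 1, 2, 0, 6, 4, 2]),
   ((389, 70, 658), 0, [2, 4, 6, 0, 2, 1, 3, 2, 6, 2, 3, 1, 2, 0, 6, 4, 2]),
   ((389, 74, 90), 0, [2, 1, 0, 4, 3, 2, 1, 5, 6, 0, 2, 3, 1, 2, 6, 0, 1, 2, 6, 4, 5]),
   ((389, 74, 529), 3, [2, 1, 0, 4, 3, 2, 1, 5, 6, 0, 2, 3, 1, 2, 6, 0, 1, 2, 6, 4, 5]),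
   ((389, 74, 581), 2, [2, 1, 0, 4, 3, 2, 1, 5, 6, 0, 2, 3, 1, 2, 6, 0, 1, 2, 6, 4, 5]),
   ((389, 74, 616), 1, [2, 1, 0, 4, 3, 2, 1, 5, 6, 0, 2, 3, 1, 2, 6, 0, 1, 2, 6, 4, 5]),
   ((389, 119, 145), 0, [2, 4, 6, 0, 2, 1, 3, 2, 6, 2, 3, 1, 2, 0, 6, 4, 2, 5]),
   ((389, 119, 580), 3, [2, 4, 6, 0, 2, 1, 3, 2, 6, 2, 3, 1, 2, 0, 6, 4, 2, 5]),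
   ((389, 119, 581), 2, [2, 4, 6, 0, 2, 1, 3, 2, 6, 2, 3, 1, 2, 0, 6, 4, 2, 5]),
   ((389, 119, 616), 1, [2, 4, 6, 0, 2, 1, 3, 2, 6, 2, 3, 1, 2, 0, 6, 4, 2, 5])]

/-- the points of the representatives, as (position, point) -/
def reps : List (Nat × Nat × Nat) :=
  [(40, 70, 365), (40, 70, 400), (40, 70, 502), (40, 70, 658)]

/-- the transposition points of the representatives, by letter -/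
def rpts : List (List Nat) :=
  [[836, 16, 26, 560, 90, 213, 0, 1, 0],
   [836, 16, 26, 1776, 90, 213, 0, 1, 0],
   [836, 16, 26, 1565, 90, 213, 0, 1, 0],
   [836, 16, 26, 1604, 90, 213, 0, 1, 0]]

/-- conjugators reaching these points -/
def rconj : List (List (List Nat)) :=
  [[[5, 4, 3, 7, 8, 5, 2, 3, 4, 1, 2, 3, 7, 6, 5, 4, 3, 2, 1], [2, 3, 1, 2, 0, 1], [4, 2, 3, 1, 2, 0, 1], [5, 4, 3, 7, 8, 3, 4, 1, 2, 3, 7, 6, 5, 4, 3, 2, 1], [7, 6, 5, 4, 2, 3, 1, 2, 0, 1], [2, 3, 4, 1, 2, 3, 7, 6, 5, 4, 3, 2, 1], [], [1], []],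
   [[5, 4, 3, 7, 8, 5, 2, 3, 4, 1, 2, 3, 7, 6, 5, 4, 3, 2, 1], [2, 3, 1, 2, 0, 1], [4, 2, 3, 1, 2, 0, 1], [4, 5, 3, 4, 2, 3, 7, 8, 3, 7, 4, 5, 3, 4, 1, 2, 3, 7, 6, 5, 4, 3, 2, 1], [7, 6, 5, 4, 2, 3, 1, 2, 0, 1], [2, 3, 4, 1, 2, 3, 7, 6, 5, 4, 3, 2, 1], [], [1], []],
   [[5, 4, 3, 7, 8, 5, 2, 3, 4, 1, 2, 3, 7, 6, 5, 4, 3, 2, 1], [2, 3, 1, 2, 0, 1], [4, 2, 3, 1, 2, 0, 1], [8, 7, 5, 3, 4, 2, 3, 7, 8, 5, 2, 3, 4, 1, 2, 3, 7, 6, 5, 4, 3, 2, 1], [7, 6, 5, 4, 2, 3, 1, 2, 0, 1], [2, 3, 4, 1, 2, 3, 7, 6, 5, 4, 3, 2, 1], [], [1], []],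
   [[5, 4, 3, 7, 8, 5, 2, 3, 4, 1, 2, 3, 7, 6, 5, 4, 3, 2, 1], [2, 3, 1, 2, 0, 1], [4, 2, 3, 1, 2, 0, 1], [8, 7, 5, 3, 4, 2, 3, 7, 8, 4, 5, 3, 4, 1, 2, 3, 7, 6, 5, 4, 3, 2, 1], [7, 6, 5, 4, 2, 3, 1, 2, 0, 1], [2, 3, 4, 1, 2, 3, 7, 6, 5, 4, 3, 2, 1], [], [1], []]]

/-- for each representative: new eight members as conjugates of the old ones -/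
def recipe : List (List (Nat × List Nat)) :=
  [[(0, [5, 4, 3, 7, 2, 3, 4, 1, 2, 3, 7, 5, 4, 3, 2, 1]), (4, [5]), (3, []), (2, []), (3, [7, 4]), (0, [8, 4, 3, 7, 2, 3, 4, 1, 2, 3, 7, 5, 4, 3, 2, 1]), (0, []), (1, []), (0, [])],
   [(0, []), (1, []), (2, []), (3, []), (4, []), (5, []), (0, []), (7, []), (8, [])],
   [(0, []), (1, []), (2, []), (3, []), (4, []), (5, []), (0, []), (7, []), (8, [])],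
   [(0, [5, 4, 3, 7, 2, 3, 4, 1, 2, 3, 7, 5, 4, 3, 2, 1]), (4, [5]), (3, []), (2, []), (3, [7, 4]), (0, [8, 4, 3, 7, 2, 3, 4, 1, 2, 3, 7, 5, 4, 3, 2, 1]), (0, []), (1, []), (0, [])]]

/-- the element carrying the generators onto the new members, representative 0 -/
def mover0 : List Nat :=
  [5, 4, 3, 7, 8, 5, 2, 3, 4, 1, 2, 3, 7, 6, 5, 4, 3, 2, 1, 3, 7, 6, 5, 4, 3, 2, 0, 4, 3, 7, 8, 7, 5, 2, 3, 4, 1,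
    2, 3, 7, 6, 5, 4, 3, 2, 1, 0, 1, 2, 3, 4, 5, 6, 7, 3, 2, 1, 4, 3, 2, 5, 7, 8, 7, 3, 4, 7, 8, 7, 5, 2, 3, 4, 1,
    2, 3, 7, 6, 5, 4, 3, 2, 1, 0, 1, 2, 3, 4, 5, 6, 7, 3, 2, 1, 4, 3, 2, 5, 7, 8, 7, 6, 5, 4, 2, 3, 7, 8, 1, 2, 3,
    7, 4, 3, 2, 1, 0, 1, 2, 3, 4, 7, 3, 2, 1, 8, 7, 3, 2, 4, 5, 6, 3, 7, 8, 7, 2, 3, 4, 1, 2, 3, 7, 6, 5, 4, 3, 2,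
    1, 0, 1, 2, 3, 4, 5, 6, 7, 3, 2, 1, 4, 3, 2, 7, 8, 7, 3, 4, 3, 7, 8, 7, 5, 2, 3, 4, 1, 2, 3, 7, 6, 5, 4, 3, 2,
    1, 0, 1, 2, 3, 4, 5, 6, 7, 3, 2, 1, 4, 3, 2, 5, 7, 8, 7, 3, 4, 5, 4, 3, 7, 8, 5, 2, 3, 4, 1, 2, 3, 7, 6, 5, 4,
    3, 2, 1, 0, 1, 2, 3, 4, 5, 6, 7, 3, 2, 1, 4, 3, 2, 5, 8, 7, 3, 4, 5, 7, 8, 2, 3, 4, 1, 2, 3, 7, 6, 5, 4, 3, 2,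
    1, 0, 1, 2, 3, 4, 5, 6, 7, 3, 2, 1, 4, 3, 2, 8, 7, 7, 8, 7, 5, 2, 3, 4, 1, 2, 3, 7, 6, 5, 4, 3, 2, 1, 0, 1, 2,
    3, 4, 5, 6, 7, 3, 2, 1, 4, 3, 2, 5, 7, 8, 7, 3, 7, 8, 7, 2, 3, 4, 1, 2, 3, 7, 6, 5, 4, 3, 2, 1, 0, 1, 2, 3, 4,
    5, 6, 7, 3, 2, 1, 4, 3, 2, 7, 8, 7, 3, 7, 8, 2, 3, 4, 1, 2, 3, 7, 6, 5, 4, 3, 2, 1, 0, 1, 2, 3, 4, 5, 6, 7, 3,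
    2, 1, 4, 3, 2, 8, 7, 4, 3, 7, 8, 7, 5, 2, 3, 4, 1, 2, 3, 7, 6, 5, 4, 3, 2, 1, 0, 1, 2, 3, 4, 5, 6, 7, 3, 2, 1,
    4, 3, 2, 5, 7, 8, 7, 3, 4, 7, 8, 2, 3, 4, 1, 2, 3, 7, 6, 5, 4, 3, 2, 1, 0, 1, 2, 3, 4, 5, 6, 7, 3, 2, 1, 4, 3,
    2, 8, 7, 5, 4, 3, 7, 8, 5, 2, 3, 4, 1, 2, 3, 7, 6, 5, 4, 3, 2, 1, 0, 1, 2, 3, 4, 5, 6, 7, 3, 2, 1, 4, 3, 2, 5,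
    8, 7, 3, 4, 5, 7, 8, 7, 5, 2, 3, 4, 1, 2, 3, 7, 6, 5, 4, 3, 2, 1, 0, 1, 2, 3, 4, 5, 6, 7, 3, 2, 1, 4, 3, 2, 5,
    7, 8, 7, 4, 3, 7, 8, 7, 5, 2, 3, 4, 1, 2, 3, 7, 6, 5, 4, 3, 2, 1, 0, 1, 2, 3, 4, 5, 6, 7, 3, 2, 1, 4, 3, 2, 5,
    7, 8, 7, 3, 4, 7, 8, 2, 3, 4, 1, 2, 3, 7, 6, 5, 4, 3, 2, 1, 0, 1, 2, 3, 4, 5, 6, 7, 3, 2, 1, 4, 3, 2, 8, 7, 3,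
    7, 8, 7, 2, 3, 4, 1, 2, 3, 7, 6, 5, 4, 3, 2, 1, 0, 1, 2, 3, 4, 5, 6, 7, 3, 2, 1, 4, 3, 2, 7, 8, 7, 3, 7, 8, 2,
    3, 4, 1, 2, 3, 7, 6, 5, 4, 3, 2, 1, 0, 1, 2, 3, 4, 5, 6, 7, 3, 2, 1, 4, 3, 2, 8, 7, 4, 3, 7, 8, 7, 5, 2, 3, 4,
    1, 2, 3, 7, 6, 5, 4, 3, 2, 1, 0, 1, 2, 3, 4, 5, 6, 7, 3, 2, 1, 4, 3, 2, 5, 7, 8, 7, 3, 4, 7, 8, 7, 5, 2, 3, 4,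
    1, 2, 3, 7, 6, 5, 4, 3, 2, 1, 0, 1, 2, 3, 4, 5, 6, 7, 3, 2, 1, 4, 3, 2, 5, 7, 8, 7, 5, 4, 3, 7, 8, 5, 2, 3, 4,
    1, 2, 3, 7, 6, 5, 4, 3, 2, 1, 0, 1, 2, 3, 4, 5, 6, 7, 3, 2, 1, 4, 3, 2, 5, 8, 7, 3, 4, 5, 7, 8, 2, 3, 4, 1, 2,
    3, 7, 6, 5, 4, 3, 2, 1, 0, 1, 2, 3, 4, 5, 6, 7, 3, 2, 1, 4, 3, 2, 8, 7, 4, 3, 7, 8, 7, 5, 2, 3, 4, 1, 2, 3, 7,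
    6, 5, 4, 3, 2, 1, 0, 1, 2, 3, 4, 5, 6, 7, 3, 2, 1, 4, 3, 2, 5, 7, 8, 7, 3, 4, 7, 8, 7, 5, 2, 3, 4, 1, 2, 3, 7,
    6, 5, 4, 3, 2, 1, 0, 1, 2, 3, 4, 5, 6, 7, 3, 2, 1, 4, 3, 2, 5, 7, 8, 7, 6, 5, 4, 2, 3, 7, 8, 1, 2, 3, 7, 4, 3,
    2, 1, 0, 1, 2, 3, 4, 7, 3, 2, 1, 8, 7, 3, 2, 4, 5, 6, 3, 7, 8, 7, 2, 3, 4, 1, 2, 3, 7, 6, 5, 4, 3, 2, 1, 0, 1,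
    2, 3, 4, 5, 6, 7, 3, 2, 1, 4, 3, 2, 7, 8, 7, 3, 7, 8, 2, 3, 4, 1, 2, 3, 7, 6, 5, 4, 3, 2, 1, 0, 1, 2, 3, 4, 5,
    6, 7, 3, 2, 1, 4, 3, 2, 8, 7, 5, 4, 3, 7, 8, 5, 2, 3, 4, 1, 2, 3, 7, 6, 5, 4, 3, 2, 1, 0, 1, 2, 3, 4, 5, 6, 7,
    3, 2, 1, 4, 3, 2, 5, 8, 7, 3, 4, 5, 6, 5, 4, 3, 7, 8, 3, 4, 5, 2, 3, 4, 1, 2, 3, 7, 6, 5, 4, 3, 2, 1, 0, 1, 2,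
    3, 4, 5, 6, 7, 3, 2, 1, 4, 3, 2, 5, 4, 3, 8, 7, 3, 4, 5, 6, 7, 8, 2, 3, 4, 1, 2, 3, 7, 6, 5, 4, 3, 2, 1, 0, 1,
    2, 3, 4, 5, 6, 7, 3, 2, 1, 4, 3, 2, 8, 7, 5, 4, 3, 7, 8, 5, 2, 3, 4, 1, 2, 3, 7, 6, 5, 4, 3, 2, 1, 0, 1, 2, 3,
    4, 5, 6, 7, 3, 2, 1, 4, 3, 2, 5, 8, 7, 3, 4, 5, 4, 3, 7, 8, 7, 5, 2, 3, 4, 1, 2, 3, 7, 6, 5, 4, 3, 2, 1, 0, 1,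
    2, 3, 4, 5, 6, 7, 3, 2, 1, 4, 3, 2, 5, 7, 8, 7, 3, 4, 3, 7, 8, 7, 2, 3, 4, 1, 2, 3, 7, 6, 5, 4, 3, 2, 1, 0, 1,
    2, 3, 4, 5, 6, 7, 3, 2, 1, 4, 3, 2, 7, 8, 7, 3, 6, 5, 4, 2, 3, 7, 8, 1, 2, 3, 7, 4, 3, 2, 1, 0, 1, 2, 3, 4, 7,
    3, 2, 1, 8, 7, 3, 2, 4, 5, 6, 6, 5, 4, 3, 7, 8, 3, 4, 5, 2, 3, 4, 1, 2, 3, 7, 6, 5, 4, 3, 2, 1, 0, 1, 2, 3, 4,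
    5, 6, 7, 3, 2, 1, 4, 3, 2, 5, 4, 3, 8, 7, 3, 4, 5, 6, 7, 8, 7, 5, 2, 3, 4, 1, 2, 3, 7, 6, 5, 4, 3, 2, 1, 0, 1,
    2, 3, 4, 5, 6, 7, 3, 2, 1, 4, 3, 2, 5, 7, 8, 7, 5, 4, 3, 7, 8, 5, 2, 3, 4, 1, 2, 3, 7, 6, 5, 4, 3, 2, 1, 0, 1,
    2, 3, 4, 5, 6, 7, 3, 2, 1, 4, 3, 2, 5, 8, 7, 3, 4, 5, 4, 3, 7, 8, 7, 5, 2, 3, 4, 1, 2, 3, 7, 6, 5, 4, 3, 2, 1,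
    0, 1, 2, 3, 4, 5, 6, 7, 3, 2, 1, 4, 3, 2, 5, 7, 8, 7, 3, 4, 7, 8, 7, 5, 2, 3, 4, 1, 2, 3, 7, 6, 5, 4, 3, 2, 1,
    0, 1, 2, 3, 4, 5, 6, 7, 3, 2, 1, 4, 3, 2, 5, 7, 8, 7, 3, 7, 8, 7, 2, 3, 4, 1, 2, 3, 7, 6, 5, 4, 3, 2, 1, 0, 1,
    2, 3, 4, 5, 6, 7, 3, 2, 1, 4, 3, 2, 7, 8, 7, 3, 7, 8, 2, 3, 4, 1, 2, 3, 7, 6, 5, 4, 3, 2, 1, 0, 1, 2, 3, 4, 5,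
    6, 7, 3, 2, 1, 4, 3, 2, 8, 7, 4, 3, 7, 8, 7, 5, 2, 3, 4, 1, 2, 3, 7, 6, 5, 4, 3, 2, 1, 0, 1, 2, 3, 4, 5, 6, 7,
    3, 2, 1, 4, 3, 2, 5, 7, 8, 7, 3, 4, 5, 4, 3, 7, 8, 5, 2, 3, 4, 1, 2, 3, 7, 6, 5, 4, 3, 2, 1, 0, 1, 2, 3, 4, 5,
    6, 7, 3, 2, 1, 4, 3, 2, 5, 8, 7, 3, 4, 5, 7, 8, 7, 5, 2, 3, 4, 1, 2, 3, 7, 6, 5, 4, 3, 2, 1, 0, 1, 2, 3, 4, 5,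
    6, 7, 3, 2, 1, 4, 3, 2, 5, 7, 8, 7, 6, 5, 4, 2, 3, 7, 8, 1, 2, 3, 7, 4, 3, 2, 1, 0, 1, 2, 3, 4, 7, 3, 2, 1, 8,
    7, 3, 2, 4, 5, 6, 3, 7, 8, 7, 2, 3, 4, 1, 2, 3, 7, 6, 5, 4, 3, 2, 1, 0, 1, 2, 3, 4, 5, 6, 7, 3, 2, 1, 4, 3, 2,
    7, 8, 7, 3, 4, 3, 7, 8, 7, 5, 2, 3, 4, 1, 2, 3, 7, 6, 5, 4, 3, 2, 1, 0, 1, 2, 3, 4, 5, 6, 7, 3, 2, 1, 4, 3, 2,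
    5, 7, 8, 7, 3, 4, 5, 4, 3, 7, 8, 5, 2, 3, 4, 1, 2, 3, 7, 6, 5, 4, 3, 2, 1, 0, 1, 2, 3, 4, 5, 6, 7, 3, 2, 1, 4,
    3, 2, 5, 8, 7, 3, 4, 5, 7, 8, 2, 3, 4, 1, 2, 3, 7, 6, 5, 4, 3, 2, 1, 0, 1, 2, 3, 4, 5, 6, 7, 3, 2, 1, 4, 3, 2,
    8, 7, 6, 5, 4, 3, 7, 8, 3, 4, 5, 2, 3, 4, 1, 2, 3, 7, 6, 5, 4, 3, 2, 1, 0, 1, 2, 3, 4, 5, 6, 7, 3, 2, 1, 4, 3,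
    2, 5, 4, 3, 8, 7, 3, 4, 5, 6, 7, 8, 2, 3, 4, 1, 2, 3, 7, 6, 5, 4, 3, 2, 1, 0, 1, 2, 3, 4, 5, 6, 7, 3, 2, 1, 4,
    3, 2, 8, 7, 4, 3, 7, 8, 7, 5, 2, 3, 4, 1, 2, 3, 7, 6, 5, 4, 3, 2, 1, 0, 1, 2, 3, 4, 5, 6, 7, 3, 2, 1, 4, 3, 2,
    5, 7, 8, 7, 3, 4, 6, 5, 4, 2, 3, 7, 8, 1, 2, 3, 7, 4, 3, 2, 1, 0, 1, 2, 3, 4, 7, 3, 2, 1, 8, 7, 3, 2, 4, 5, 6,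
    3, 7, 8, 7, 2, 3, 4, 1, 2, 3, 7, 6, 5, 4, 3, 2, 1, 0, 1, 2, 3, 4, 5, 6, 7, 3, 2, 1, 4, 3, 2, 7, 8, 7, 3, 7, 8,
    7, 5, 2, 3, 4, 1, 2, 3, 7, 6, 5, 4, 3, 2, 1, 0, 1, 2, 3, 4, 5, 6, 7, 3, 2, 1, 4, 3, 2, 5, 7, 8, 7, 5, 4, 3, 7,
    8, 5, 2, 3, 4, 1, 2, 3, 7, 6, 5, 4, 3, 2, 1, 0, 1, 2, 3, 4, 5, 6, 7, 3, 2, 1, 4, 3, 2, 5, 8, 7, 3, 4, 5, 7, 8,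
    2, 3, 4, 1, 2, 3, 7, 6, 5, 4, 3, 2, 1, 0, 1, 2, 3, 4, 5, 6, 7, 3, 2, 1, 4, 3, 2, 8, 7, 4, 3, 7, 8, 7, 5, 2, 3,
    4, 1, 2, 3, 7, 6, 5, 4, 3, 2, 1, 0, 1, 2, 3, 4, 5, 6, 7, 3, 2, 1, 4, 3, 2, 5, 7, 8, 7, 3, 4, 7, 8, 2, 3, 4, 1,
    2, 3, 7, 6, 5, 4, 3, 2, 1, 0, 1, 2, 3, 4, 5, 6, 7, 3, 2, 1, 4, 3, 2, 8, 7, 5, 4, 3, 7, 8, 5, 2, 3, 4, 1, 2, 3,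
    7, 6, 5, 4, 3, 2, 1, 0, 1, 2, 3, 4, 5, 6, 7, 3, 2, 1, 4, 3, 2, 5, 8, 7, 3, 4, 5, 7, 8, 7, 5, 2, 3, 4, 1, 2, 3,
    7, 6, 5, 4, 3, 2, 1, 0, 1, 2, 3, 4, 5, 6, 7, 3, 2, 1, 4, 3, 2, 5, 7, 8, 7, 3, 7, 8, 7, 2, 3, 4, 1, 2, 3, 7, 6,
    5, 4, 3, 2, 1, 0, 1, 2, 3, 4, 5, 6, 7, 3, 2, 1, 4, 3, 2, 7, 8, 7, 3, 6, 5, 4, 2, 3, 7, 8, 1, 2, 3, 7, 4, 3, 2,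
    1, 0, 1, 2, 3, 4, 7, 3, 2, 1, 8, 7, 3, 2, 4, 5, 6, 4, 3, 7, 8, 7, 5, 2, 3, 4, 1, 2, 3, 7, 6, 5, 4, 3, 2, 1, 0,
    1, 2, 3, 4, 5, 6, 7, 3, 2, 1, 4, 3, 2, 5, 7, 8, 7, 3, 4, 7, 8, 2, 3, 4, 1, 2, 3, 7, 6, 5, 4, 3, 2, 1, 0, 1, 2,
    3, 4, 5, 6, 7, 3, 2, 1, 4, 3, 2, 8, 7, 6, 5, 4, 3, 7, 8, 3, 4, 5, 2, 3, 4, 1, 2, 3, 7, 6, 5, 4, 3, 2, 1, 0, 1,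
    2, 3, 4, 5, 6, 7, 3, 2, 1, 4, 3, 2, 5, 4, 3, 8, 7, 3, 4, 5, 6, 3, 7, 8, 7, 2, 3, 4, 1, 2, 3, 7, 6, 5, 4, 3, 2,
    1, 0, 1, 2, 3, 4, 5, 6, 7, 3, 2, 1, 4, 3, 2, 7, 8, 7, 3, 4, 3, 7, 8, 7, 5, 2, 3, 4, 1, 2, 3, 7, 6, 5, 4, 3, 2,
    1, 0, 1, 2, 3, 4, 5, 6, 7, 3, 2, 1, 4, 3, 2, 5, 7, 8, 7, 3, 4, 6, 5, 4, 2, 3, 7, 8, 1, 2, 3, 7, 4, 3, 2, 1, 0,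
    1, 2, 3, 4, 7, 3, 2, 1, 8, 7, 3, 2, 4, 5, 6, 7, 8, 7, 5, 2, 3, 4, 1, 2, 3, 7, 6, 5, 4, 3, 2, 1, 0, 1, 2, 3, 4,
    5, 6, 7, 3, 2, 1, 4, 3, 2, 5, 7, 8, 7, 5, 4, 3, 7, 8, 5, 2, 3, 4, 1, 2, 3, 7, 6, 5, 4, 3, 2, 1, 0, 1, 2, 3, 4,
    5, 6, 7, 3, 2, 1, 4, 3, 2, 5, 8, 7, 3, 4, 5, 4, 3, 7, 8, 7, 5, 2, 3, 4, 1, 2, 3, 7, 6, 5, 4, 3, 2, 1, 0, 1, 2,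
    3, 4, 5, 6, 7, 3, 2, 1, 4, 3, 2, 5, 7, 8, 7, 3, 4, 7, 8, 2, 3, 4, 1, 2, 3, 7, 6, 5, 4, 3, 2, 1, 0, 1, 2, 3, 4,
    5, 6, 7, 3, 2, 1, 4, 3, 2, 8, 7, 7, 8, 7, 5, 2, 3, 4, 1, 2, 3, 7, 6, 5, 4, 3, 2, 1, 0, 1, 2, 3, 4, 5, 6, 7, 3,
    2, 1, 4, 3, 2, 5, 7, 8, 7, 5, 4, 3, 7, 8, 5, 2, 3, 4, 1, 2, 3, 7, 6, 5, 4, 3, 2, 1, 0, 1, 2, 3, 4, 5, 6, 7, 3,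
    2, 1, 4, 3, 2, 5, 8, 7, 3, 4, 5, 4, 3, 7, 8, 7, 5, 2, 3, 4, 1, 2, 3, 7, 6, 5, 4, 3, 2, 1, 0, 1, 2, 3, 4, 5, 6,
    7, 3, 2, 1, 4, 3, 2, 5, 7, 8, 7, 3, 4, 7, 8, 2, 3, 4, 1, 2, 3, 7, 6, 5, 4, 3, 2, 1, 0, 1, 2, 3, 4, 5, 6, 7, 3,
    2, 1, 4, 3, 2, 8, 7, 3, 7, 8, 7, 2, 3, 4, 1, 2, 3, 7, 6, 5, 4, 3, 2, 1, 0, 1, 2, 3, 4, 5, 6, 7, 3, 2, 1, 4, 3,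
    2, 7, 8, 7, 3, 5, 4, 3, 7, 8, 5, 2, 3, 4, 1, 2, 3, 7, 6, 5, 4, 3, 2, 1, 0, 1, 2, 3, 4, 5, 6, 7, 3, 2, 1, 4, 3,
    2, 5, 8, 7, 3, 4, 5, 7, 8, 2, 3, 4, 1, 2, 3, 7, 6, 5, 4, 3, 2, 1, 0, 1, 2, 3, 4, 5, 6, 7, 3, 2, 1, 4, 3, 2, 8,
    7, 4, 3, 7, 8, 7, 5, 2, 3, 4, 1, 2, 3, 7, 6, 5, 4, 3, 2, 1, 0, 1, 2, 3, 4, 5, 6, 7, 3, 2, 1, 4, 3, 2, 5, 7, 8,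
    7, 3, 4, 6, 5, 4, 2, 3, 7, 8, 1, 2, 3, 7, 4, 3, 2, 1, 0, 1, 2, 3, 4, 7, 3, 2, 1, 8, 7, 3, 2, 4, 5, 6, 7, 8, 7,
    5, 2, 3, 4, 1, 2, 3, 7, 6, 5, 4, 3, 2, 1, 0, 1, 2, 3, 4, 5, 6, 7, 3, 2, 1, 4, 3, 2, 5, 7, 8, 7, 5, 4, 3, 7, 8,
    5, 2, 3, 4, 1, 2, 3, 7, 6, 5, 4, 3, 2, 1, 0, 1, 2, 3, 4, 5, 6, 7, 3, 2, 1, 4, 3, 2, 5, 8, 7, 3, 4, 5, 7, 8, 2,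
    3, 4, 1, 2, 3, 7, 6, 5, 4, 3, 2, 1, 0, 1, 2, 3, 4, 5, 6, 7, 3, 2, 1, 4, 3, 2, 8, 7, 4, 3, 7, 8, 7, 5, 2, 3, 4,
    1, 2, 3, 7, 6, 5, 4, 3, 2, 1, 0, 1, 2, 3, 4, 5, 6, 7, 3, 2, 1, 4, 3, 2, 5, 7, 8, 7, 3, 4, 7, 8, 2, 3, 4, 1, 2,
    3, 7, 6, 5, 4, 3, 2, 1, 0, 1, 2, 3, 4, 5, 6, 7, 3, 2, 1, 4, 3, 2, 8, 7, 7, 8, 7, 5, 2, 3, 4, 1, 2, 3, 7, 6, 5,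
    4, 3, 2, 1, 0, 1, 2, 3, 4, 5, 6, 7, 3, 2, 1, 4, 3, 2, 5, 7, 8, 7, 7, 8, 2, 3, 4, 1, 2, 3, 7, 6, 5, 4, 3, 2, 1,
    0, 1, 2, 3, 4, 5, 6, 7, 3, 2, 1, 4, 3, 2, 8, 7, 5, 4, 3, 7, 8, 5, 2, 3, 4, 1, 2, 3, 7, 6, 5, 4, 3, 2, 1, 0, 1,
    2, 3, 4, 5, 6, 7, 3, 2, 1, 4, 3, 2, 5, 8, 7, 3, 4, 5, 4, 3, 7, 8, 7, 5, 2, 3, 4, 1, 2, 3, 7, 6, 5, 4, 3, 2, 1,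
    0, 1, 2, 3, 4, 5, 6, 7, 3, 2, 1, 4, 3, 2, 5, 7, 8, 7, 3, 4, 3, 7, 8, 7, 2, 3, 4, 1, 2, 3, 7, 6, 5, 4, 3, 2, 1,
    0, 1, 2, 3, 4, 5, 6, 7, 3, 2, 1, 4, 3, 2, 7, 8, 7, 3, 7, 8, 7, 5, 2, 3, 4, 1, 2, 3, 7, 6, 5, 4, 3, 2, 1, 0, 1,
    2, 3, 4, 5, 6, 7, 3, 2, 1, 4, 3, 2, 5, 7, 8, 7, 5, 4, 3, 7, 8, 5, 2, 3, 4, 1, 2, 3, 7, 6, 5, 4, 3, 2, 1, 0, 1,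
    2, 3, 4, 5, 6, 7, 3, 2, 1, 4, 3, 2, 5, 8, 7, 3, 4, 5, 2, 3, 7, 8, 1, 0, 2, 1, 3, 2, 7, 3, 8, 7]

/-- the element carrying the generators onto the new members, representative 1 -/
def mover1 : List Nat :=
  [4, 3, 7, 8, 7, 5, 2, 3, 4, 1, 2, 3, 7, 6, 5, 4, 3, 2, 1, 0, 1, 2, 3, 4, 5, 6, 7, 3, 2, 1, 4, 3, 2, 5, 7, 8, 7,
    3, 4, 7, 8, 2, 3, 4, 1, 2, 3, 7, 6, 5, 4, 3, 2, 1, 0, 1, 2, 3, 4, 5, 6, 7, 3, 2, 1, 4, 3, 2, 8, 7, 5, 4, 3, 7,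
    8, 5, 2, 3, 4, 1, 2, 3, 7, 6, 5, 4, 3, 2, 1, 0, 1, 2, 3, 4, 5, 6, 7, 3, 2, 1, 4, 3, 2, 5, 8, 7, 3, 4, 5, 3, 7,
    8, 7, 2, 3, 4, 1, 2, 3, 7, 6, 5, 4, 3, 2, 1, 0, 1, 2, 3, 4, 5, 6, 7, 3, 2, 1, 4, 3, 2, 7, 8, 7, 3, 4, 3, 7, 8,
    7, 5, 2, 3, 4, 1, 2, 3, 7, 6, 5, 4, 3, 2, 1, 0, 1, 2, 3, 4, 5, 6, 7, 3, 2, 1, 4, 3, 2, 5, 7, 8, 7, 3, 4, 7, 8,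
    2, 3, 4, 1, 2, 3, 7, 6, 5, 4, 3, 2, 1, 0, 1, 2, 3, 4, 5, 6, 7, 3, 2, 1, 4, 3, 2, 8, 7, 6, 5, 4, 2, 3, 7, 8, 1,
    2, 3, 7, 4, 3, 2, 1, 0, 1, 2, 3, 4, 7, 3, 2, 1, 8, 7, 3, 2, 4, 5, 6, 3, 7, 8, 7, 2, 3, 4, 1, 2, 3, 7, 6, 5, 4,
    3, 2, 1, 0, 1, 2, 3, 4, 5, 6, 7, 3, 2, 1, 4, 3, 2, 7, 8, 7, 3, 4, 3, 7, 8, 7, 5, 2, 3, 4, 1, 2, 3, 7, 6, 5, 4,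
    3, 2, 1, 0, 1, 2, 3, 4, 5, 6, 7, 3, 2, 1, 4, 3, 2, 5, 7, 8, 7, 3, 4, 7, 8, 7, 5, 2, 3, 4, 1, 2, 3, 7, 6, 5, 4,
    3, 2, 1, 0, 1, 2, 3, 4, 5, 6, 7, 3, 2, 1, 4, 3, 2, 5, 7, 8, 7, 4, 3, 7, 8, 7, 5, 2, 3, 4, 1, 2, 3, 7, 6, 5, 4,
    3, 2, 1, 0, 1, 2, 3, 4, 5, 6, 7, 3, 2, 1, 4, 3, 2, 5, 7, 8, 7, 3, 4, 3, 7, 8, 7, 2, 3, 4, 1, 2, 3, 7, 6, 5, 4,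
    3, 2, 1, 0, 1, 2, 3, 4, 5, 6, 7, 3, 2, 1, 4, 3, 2, 7, 8, 7, 3, 6, 5, 4, 2, 3, 7, 8, 1, 2, 3, 7, 4, 3, 2, 1, 0,
    1, 2, 3, 4, 7, 3, 2, 1, 8, 7, 3, 2, 4, 5, 6, 7, 8, 2, 3, 4, 1, 2, 3, 7, 6, 5, 4, 3, 2, 1, 0, 1, 2, 3, 4, 5, 6,
    7, 3, 2, 1, 4, 3, 2, 8, 7, 4, 3, 7, 8, 7, 5, 2, 3, 4, 1, 2, 3, 7, 6, 5, 4, 3, 2, 1, 0, 1, 2, 3, 4, 5, 6, 7, 3,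
    2, 1, 4, 3, 2, 5, 7, 8, 7, 3, 4, 3, 7, 8, 7, 2, 3, 4, 1, 2, 3, 7, 6, 5, 4, 3, 2, 1, 0, 1, 2, 3, 4, 5, 6, 7, 3,
    2, 1, 4, 3, 2, 7, 8, 7, 3, 5, 4, 3, 7, 8, 5, 2, 3, 4, 1, 2, 3, 7, 6, 5, 4, 3, 2, 1, 0, 1, 2, 3, 4, 5, 6, 7, 3,
    2, 1, 4, 3, 2, 5, 8, 7, 3, 4, 5, 7, 8, 2, 3, 4, 1, 2, 3, 7, 6, 5, 4, 3, 2, 1, 0, 1, 2, 3, 4, 5, 6, 7, 3, 2, 1,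
    4, 3, 2, 8, 7, 4, 3, 7, 8, 7, 5, 2, 3, 4, 1, 2, 3, 7, 6, 5, 4, 3, 2, 1, 0, 1, 2, 3, 4, 5, 6, 7, 3, 2, 1, 4, 3,
    2, 5, 7, 8, 7, 3, 4, 3, 7, 8, 7, 2, 3, 4, 1, 2, 3, 7, 6, 5, 4, 3, 2, 1, 0, 1, 2, 3, 4, 5, 6, 7, 3, 2, 1, 4, 3,
    2, 7, 8, 7, 3, 4, 3, 7, 8, 7, 5, 2, 3, 4, 1, 2, 3, 7, 6, 5, 4, 3, 2, 1, 0, 1, 2, 3, 4, 5, 6, 7, 3, 2, 1, 4, 3,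
    2, 5, 7, 8, 7, 3, 4, 7, 8, 2, 3, 4, 1, 2, 3, 7, 6, 5, 4, 3, 2, 1, 0, 1, 2, 3, 4, 5, 6, 7, 3, 2, 1, 4, 3, 2, 8,
    7, 5, 4, 3, 7, 8, 5, 2, 3, 4, 1, 2, 3, 7, 6, 5, 4, 3, 2, 1, 0, 1, 2, 3, 4, 5, 6, 7, 3, 2, 1, 4, 3, 2, 5, 8, 7,
    3, 4, 5, 6, 5, 4, 2, 3, 7, 8, 1, 2, 3, 7, 4, 3, 2, 1, 0, 1, 2, 3, 4, 7, 3, 2, 1, 8, 7, 3, 2, 4, 5, 6, 3, 7, 8,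
    7, 2, 3, 4, 1, 2, 3, 7, 6, 5, 4, 3, 2, 1, 0, 1, 2, 3, 4, 5, 6, 7, 3, 2, 1, 4, 3, 2, 7, 8, 7, 3, 6, 5, 4, 3, 7,
    8, 3, 4, 5, 2, 3, 4, 1, 2, 3, 7, 6, 5, 4, 3, 2, 1, 0, 1, 2, 3, 4, 5, 6, 7, 3, 2, 1, 4, 3, 2, 5, 4, 3, 8, 7, 3,
    4, 5, 6, 7, 8, 7, 5, 2, 3, 4, 1, 2, 3, 7, 6, 5, 4, 3, 2, 1, 0, 1, 2, 3, 4, 5, 6, 7, 3, 2, 1, 4, 3, 2, 5, 7, 8,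
    7, 5, 4, 3, 7, 8, 5, 2, 3, 4, 1, 2, 3, 7, 6, 5, 4, 3, 2, 1, 0, 1, 2, 3, 4, 5, 6, 7, 3, 2, 1, 4, 3, 2, 5, 8, 7,
    3, 4, 5, 7, 8, 2, 3, 4, 1, 2, 3, 7, 6, 5, 4, 3, 2, 1, 0, 1, 2, 3, 4, 5, 6, 7, 3, 2, 1, 4, 3, 2, 8, 7, 5, 4, 3,
    7, 8, 5, 2, 3, 4, 1, 2, 3, 7, 6, 5, 4, 3, 2, 1, 0, 1, 2, 3, 4, 5, 6, 7, 3, 2, 1, 4, 3, 2, 5, 8, 7, 3, 4, 5, 7,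
    8, 2, 3, 4, 1, 2, 3, 7, 6, 5, 4, 3, 2, 1, 0, 1, 2, 3, 4, 5, 6, 7, 3, 2, 1, 4, 3, 2, 8, 7, 5, 4, 3, 7, 8, 5, 2,
    3, 4, 1, 2, 3, 7, 6, 5, 4, 3, 2, 1, 0, 1, 2, 3, 4, 5, 6, 7, 3, 2, 1, 4, 3, 2, 5, 8, 7, 3, 4, 5, 4, 3, 7, 8, 7,
    5, 2, 3, 4, 1, 2, 3, 7, 6, 5, 4, 3, 2, 1, 0, 1, 2, 3, 4, 5, 6, 7, 3, 2, 1, 4, 3, 2, 5, 7, 8, 7, 3, 4, 7, 8, 2,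
    3, 4, 1, 2, 3, 7, 6, 5, 4, 3, 2, 1, 0, 1, 2, 3, 4, 5, 6, 7, 3, 2, 1, 4, 3, 2, 8, 7, 6, 5, 4, 2, 3, 7, 8, 1, 2,
    3, 7, 4, 3, 2, 1, 0, 1, 2, 3, 4, 7, 3, 2, 1, 8, 7, 3, 2, 4, 5, 6, 6, 5, 4, 3, 7, 8, 3, 4, 5, 2, 3, 4, 1, 2, 3,
    7, 6, 5, 4, 3, 2, 1, 0, 1, 2, 3, 4, 5, 6, 7, 3, 2, 1, 4, 3, 2, 5, 4, 3, 8, 7, 3, 4, 5, 6, 7, 8, 7, 5, 2, 3, 4,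
    1, 2, 3, 7, 6, 5, 4, 3, 2, 1, 0, 1, 2, 3, 4, 5, 6, 7, 3, 2, 1, 4, 3, 2, 5, 7, 8, 7, 5, 4, 3, 7, 8, 5, 2, 3, 4,
    1, 2, 3, 7, 6, 5, 4, 3, 2, 1, 0, 1, 2, 3, 4, 5, 6, 7, 3, 2, 1, 4, 3, 2, 5, 8, 7, 3, 4, 5, 4, 3, 7, 8, 7, 5, 2,
    3, 4, 1, 2, 3, 7, 6, 5, 4, 3, 2, 1, 0, 1, 2, 3, 4, 5, 6, 7, 3, 2, 1, 4, 3, 2, 5, 7, 8, 7, 3, 4, 3, 7, 8, 7, 2,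
    3, 4, 1, 2, 3, 7, 6, 5, 4, 3, 2, 1, 0, 1, 2, 3, 4, 5, 6, 7, 3, 2, 1, 4, 3, 2, 7, 8, 7, 3, 7, 8, 7, 5, 2, 3, 4,
    1, 2, 3, 7, 6, 5, 4, 3, 2, 1, 0, 1, 2, 3, 4, 5, 6, 7, 3, 2, 1, 4, 3, 2, 5, 7, 8, 7, 7, 8, 2, 3, 4, 1, 2, 3, 7,
    6, 5, 4, 3, 2, 1, 0, 1, 2, 3, 4, 5, 6, 7, 3, 2, 1, 4, 3, 2, 8, 7, 4, 3, 7, 8, 7, 5, 2, 3, 4, 1, 2, 3, 7, 6, 5,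
    4, 3, 2, 1, 0, 1, 2, 3, 4, 5, 6, 7, 3, 2, 1, 4, 3, 2, 5, 7, 8, 7, 3, 4, 3, 7, 8, 7, 2, 3, 4, 1, 2, 3, 7, 6, 5,
    4, 3, 2, 1, 0, 1, 2, 3, 4, 5, 6, 7, 3, 2, 1, 4, 3, 2, 7, 8, 7, 3, 6, 5, 4, 2, 3, 7, 8, 1, 2, 3, 7, 4, 3, 2, 1,
    0, 1, 2, 3, 4, 7, 3, 2, 1, 8, 7, 3, 2, 4, 5, 6, 7, 8, 7, 5, 2, 3, 4, 1, 2, 3, 7, 6, 5, 4, 3, 2, 1, 0, 1, 2, 3,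
    4, 5, 6, 7, 3, 2, 1, 4, 3, 2, 5, 7, 8, 7, 4, 3, 7, 8, 7, 5, 2, 3, 4, 1, 2, 3, 7, 6, 5, 4, 3, 2, 1, 0, 1, 2, 3,
    4, 5, 6, 7, 3, 2, 1, 4, 3, 2, 5, 7, 8, 7, 3, 4, 3, 7, 8, 7, 2, 3, 4, 1, 2, 3, 7, 6, 5, 4, 3, 2, 1, 0, 1, 2, 3,
    4, 5, 6, 7, 3, 2, 1, 4, 3, 2, 7, 8, 7, 3, 6, 5, 4, 2, 3, 7, 8, 1, 2, 3, 7, 4, 3, 2, 1, 0, 1, 2, 3, 4, 7, 3, 2,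
    1, 8, 7, 3, 2, 4, 5, 6, 6, 5, 4, 3, 7, 8, 3, 4, 5, 2, 3, 4, 1, 2, 3, 7, 6, 5, 4, 3, 2, 1, 0, 1, 2, 3, 4, 5, 6,
    7, 3, 2, 1, 4, 3, 2, 5, 4, 3, 8, 7, 3, 4, 5, 6, 2, 3, 7, 8, 1, 0, 2, 1, 3, 2, 7, 3, 8, 7]

/-- the element carrying the generators onto the new members, representative 2 -/
def mover2 : List Nat :=
  [6, 5, 4, 3, 7, 8, 3, 4, 5, 2, 3, 4, 1, 2, 3, 7, 6, 5, 4, 3, 2, 1, 0, 1, 2, 3, 4, 5, 6, 7, 3, 2, 1, 4, 3, 2, 5,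
    4, 3, 8, 7, 3, 4, 5, 6, 7, 8, 2, 3, 4, 1, 2, 3, 7, 6, 5, 4, 3, 2, 1, 0, 1, 2, 3, 4, 5, 6, 7, 3, 2, 1, 4, 3, 2,
    8, 7, 4, 3, 7, 8, 7, 5, 2, 3, 4, 1, 2, 3, 7, 6, 5, 4, 3, 2, 1, 0, 1, 2, 3, 4, 5, 6, 7, 3, 2, 1, 4, 3, 2, 5, 7,
    8, 7, 3, 4, 6, 5, 4, 2, 3, 7, 8, 1, 2, 3, 7, 4, 3, 2, 1, 0, 1, 2, 3, 4, 7, 3, 2, 1, 8, 7, 3, 2, 4, 5, 6, 3, 7,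
    8, 7, 2, 3, 4, 1, 2, 3, 7, 6, 5, 4, 3, 2, 1, 0, 1, 2, 3, 4, 5, 6, 7, 3, 2, 1, 4, 3, 2, 7, 8, 7, 3, 7, 8, 7, 5,
    2, 3, 4, 1, 2, 3, 7, 6, 5, 4, 3, 2, 1, 0, 1, 2, 3, 4, 5, 6, 7, 3, 2, 1, 4, 3, 2, 5, 7, 8, 7, 5, 4, 3, 7, 8, 5,
    2, 3, 4, 1, 2, 3, 7, 6, 5, 4, 3, 2, 1, 0, 1, 2, 3, 4, 5, 6, 7, 3, 2, 1, 4, 3, 2, 5, 8, 7, 3, 4, 5, 7, 8, 2, 3,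
    4, 1, 2, 3, 7, 6, 5, 4, 3, 2, 1, 0, 1, 2, 3, 4, 5, 6, 7, 3, 2, 1, 4, 3, 2, 8, 7, 4, 3, 7, 8, 7, 5, 2, 3, 4, 1,
    2, 3, 7, 6, 5, 4, 3, 2, 1, 0, 1, 2, 3, 4, 5, 6, 7, 3, 2, 1, 4, 3, 2, 5, 7, 8, 7, 3, 4, 7, 8, 2, 3, 4, 1, 2, 3,
    7, 6, 5, 4, 3, 2, 1, 0, 1, 2, 3, 4, 5, 6, 7, 3, 2, 1, 4, 3, 2, 8, 7, 5, 4, 3, 7, 8, 5, 2, 3, 4, 1, 2, 3, 7, 6,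
    5, 4, 3, 2, 1, 0, 1, 2, 3, 4, 5, 6, 7, 3, 2, 1, 4, 3, 2, 5, 8, 7, 3, 4, 5, 7, 8, 7, 5, 2, 3, 4, 1, 2, 3, 7, 6,
    5, 4, 3, 2, 1, 0, 1, 2, 3, 4, 5, 6, 7, 3, 2, 1, 4, 3, 2, 5, 7, 8, 7, 3, 7, 8, 7, 2, 3, 4, 1, 2, 3, 7, 6, 5, 4,
    3, 2, 1, 0, 1, 2, 3, 4, 5, 6, 7, 3, 2, 1, 4, 3, 2, 7, 8, 7, 3, 6, 5, 4, 2, 3, 7, 8, 1, 2, 3, 7, 4, 3, 2, 1, 0,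
    1, 2, 3, 4, 7, 3, 2, 1, 8, 7, 3, 2, 4, 5, 6, 4, 3, 7, 8, 7, 5, 2, 3, 4, 1, 2, 3, 7, 6, 5, 4, 3, 2, 1, 0, 1, 2,
    3, 4, 5, 6, 7, 3, 2, 1, 4, 3, 2, 5, 7, 8, 7, 3, 4, 7, 8, 2, 3, 4, 1, 2, 3, 7, 6, 5, 4, 3, 2, 1, 0, 1, 2, 3, 4,
    5, 6, 7, 3, 2, 1, 4, 3, 2, 8, 7, 6, 5, 4, 3, 7, 8, 3, 4, 5, 2, 3, 4, 1, 2, 3, 7, 6, 5, 4, 3, 2, 1, 0, 1, 2, 3,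
    4, 5, 6, 7, 3, 2, 1, 4, 3, 2, 5, 4, 3, 8, 7, 3, 4, 5, 6, 3, 7, 8, 7, 2, 3, 4, 1, 2, 3, 7, 6, 5, 4, 3, 2, 1, 0,
    1, 2, 3, 4, 5, 6, 7, 3, 2, 1, 4, 3, 2, 7, 8, 7, 3, 4, 3, 7, 8, 7, 5, 2, 3, 4, 1, 2, 3, 7, 6, 5, 4, 3, 2, 1, 0,
    1, 2, 3, 4, 5, 6, 7, 3, 2, 1, 4, 3, 2, 5, 7, 8, 7, 3, 4, 6, 5, 4, 2, 3, 7, 8, 1, 2, 3, 7, 4, 3, 2, 1, 0, 1, 2,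
    3, 4, 7, 3, 2, 1, 8, 7, 3, 2, 4, 5, 6, 7, 8, 7, 5, 2, 3, 4, 1, 2, 3, 7, 6, 5, 4, 3, 2, 1, 0, 1, 2, 3, 4, 5, 6,
    7, 3, 2, 1, 4, 3, 2, 5, 7, 8, 7, 5, 4, 3, 7, 8, 5, 2, 3, 4, 1, 2, 3, 7, 6, 5, 4, 3, 2, 1, 0, 1, 2, 3, 4, 5, 6,
    7, 3, 2, 1, 4, 3, 2, 5, 8, 7, 3, 4, 5, 4, 3, 7, 8, 7, 5, 2, 3, 4, 1, 2, 3, 7, 6, 5, 4, 3, 2, 1, 0, 1, 2, 3, 4,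
    5, 6, 7, 3, 2, 1, 4, 3, 2, 5, 7, 8, 7, 3, 4, 7, 8, 2, 3, 4, 1, 2, 3, 7, 6, 5, 4, 3, 2, 1, 0, 1, 2, 3, 4, 5, 6,
    7, 3, 2, 1, 4, 3, 2, 8, 7, 7, 8, 7, 5, 2, 3, 4, 1, 2, 3, 7, 6, 5, 4, 3, 2, 1, 0, 1, 2, 3, 4, 5, 6, 7, 3, 2, 1,
    4, 3, 2, 5, 7, 8, 7, 5, 4, 3, 7, 8, 5, 2, 3, 4, 1, 2, 3, 7, 6, 5, 4, 3, 2, 1, 0, 1, 2, 3, 4, 5, 6, 7, 3, 2, 1,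
    4, 3, 2, 5, 8, 7, 3, 4, 5, 4, 3, 7, 8, 7, 5, 2, 3, 4, 1, 2, 3, 7, 6, 5, 4, 3, 2, 1, 0, 1, 2, 3, 4, 5, 6, 7, 3,
    2, 1, 4, 3, 2, 5, 7, 8, 7, 3, 4, 7, 8, 2, 3, 4, 1, 2, 3, 7, 6, 5, 4, 3, 2, 1, 0, 1, 2, 3, 4, 5, 6, 7, 3, 2, 1,
    4, 3, 2, 8, 7, 3, 7, 8, 7, 2, 3, 4, 1, 2, 3, 7, 6, 5, 4, 3, 2, 1, 0, 1, 2, 3, 4, 5, 6, 7, 3, 2, 1, 4, 3, 2, 7,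
    8, 7, 3, 5, 4, 3, 7, 8, 5, 2, 3, 4, 1, 2, 3, 7, 6, 5, 4, 3, 2, 1, 0, 1, 2, 3, 4, 5, 6, 7, 3, 2, 1, 4, 3, 2, 5,
    8, 7, 3, 4, 5, 7, 8, 2, 3, 4, 1, 2, 3, 7, 6, 5, 4, 3, 2, 1, 0, 1, 2, 3, 4, 5, 6, 7, 3, 2, 1, 4, 3, 2, 8, 7, 4,
    3, 7, 8, 7, 5, 2, 3, 4, 1, 2, 3, 7, 6, 5, 4, 3, 2, 1, 0, 1, 2, 3, 4, 5, 6, 7, 3, 2, 1, 4, 3, 2, 5, 7, 8, 7, 3,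
    4, 6, 5, 4, 2, 3, 7, 8, 1, 2, 3, 7, 4, 3, 2, 1, 0, 1, 2, 3, 4, 7, 3, 2, 1, 8, 7, 3, 2, 4, 5, 6, 7, 8, 7, 5, 2,
    3, 4, 1, 2, 3, 7, 6, 5, 4, 3, 2, 1, 0, 1, 2, 3, 4, 5, 6, 7, 3, 2, 1, 4, 3, 2, 5, 7, 8, 7, 5, 4, 3, 7, 8, 5, 2,
    3, 4, 1, 2, 3, 7, 6, 5, 4, 3, 2, 1, 0, 1, 2, 3, 4, 5, 6, 7, 3, 2, 1, 4, 3, 2, 5, 8, 7, 3, 4, 5, 7, 8, 2, 3, 4,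
    1, 2, 3, 7, 6, 5, 4, 3, 2, 1, 0, 1, 2, 3, 4, 5, 6, 7, 3, 2, 1, 4, 3, 2, 8, 7, 4, 3, 7, 8, 7, 5, 2, 3, 4, 1, 2,
    3, 7, 6, 5, 4, 3, 2, 1, 0, 1, 2, 3, 4, 5, 6, 7, 3, 2, 1, 4, 3, 2, 5, 7, 8, 7, 3, 4, 7, 8, 2, 3, 4, 1, 2, 3, 7,
    6, 5, 4, 3, 2, 1, 0, 1, 2, 3, 4, 5, 6, 7, 3, 2, 1, 4, 3, 2, 8, 7, 7, 8, 7, 5, 2, 3, 4, 1, 2, 3, 7, 6, 5, 4, 3,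
    2, 1, 0, 1, 2, 3, 4, 5, 6, 7, 3, 2, 1, 4, 3, 2, 5, 7, 8, 7, 7, 8, 2, 3, 4, 1, 2, 3, 7, 6, 5, 4, 3, 2, 1, 0, 1,
    2, 3, 4, 5, 6, 7, 3, 2, 1, 4, 3, 2, 8, 7, 5, 4, 3, 7, 8, 5, 2, 3, 4, 1, 2, 3, 7, 6, 5, 4, 3, 2, 1, 0, 1, 2, 3,
    4, 5, 6, 7, 3, 2, 1, 4, 3, 2, 5, 8, 7, 3, 4, 5, 4, 3, 7, 8, 7, 5, 2, 3, 4, 1, 2, 3, 7, 6, 5, 4, 3, 2, 1, 0, 1,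
    2, 3, 4, 5, 6, 7, 3, 2, 1, 4, 3, 2, 5, 7, 8, 7, 3, 4, 3, 7, 8, 7, 2, 3, 4, 1, 2, 3, 7, 6, 5, 4, 3, 2, 1, 0, 1,
    2, 3, 4, 5, 6, 7, 3, 2, 1, 4, 3, 2, 7, 8, 7, 3, 7, 8, 7, 5, 2, 3, 4, 1, 2, 3, 7, 6, 5, 4, 3, 2, 1, 0, 1, 2, 3,
    4, 5, 6, 7, 3, 2, 1, 4, 3, 2, 5, 7, 8, 7, 5, 4, 3, 7, 8, 5, 2, 3, 4, 1, 2, 3, 7, 6, 5, 4, 3, 2, 1, 0, 1, 2, 3,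
    4, 5, 6, 7, 3, 2, 1, 4, 3, 2, 5, 8, 7, 3, 4, 5, 2, 3, 7, 8, 1, 0, 2, 1, 3, 2, 7, 3, 8, 7]

/-- the element carrying the generators onto the new members, representative 3 -/
def mover3 : List Nat :=
  [5, 4, 3, 7, 8, 5, 2, 3, 4, 1, 2, 3, 7, 6, 5, 4, 3, 2, 1, 3, 7, 6, 5, 4, 3, 2, 0, 5, 4, 3, 7, 8, 5, 2, 3, 4, 1,
    2, 3, 7, 6, 5, 4, 3, 2, 1, 0, 1, 2, 3, 4, 5, 6, 7, 3, 2, 1, 4, 3, 2, 5, 8, 7, 3, 4, 5, 7, 8, 7, 5, 2, 3, 4, 1,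
    2, 3, 7, 6, 5, 4, 3, 2, 1, 0, 1, 2, 3, 4, 5, 6, 7, 3, 2, 1, 4, 3, 2, 5, 7, 8, 7, 6, 5, 4, 2, 3, 7, 8, 1, 2, 3,
    7, 4, 3, 2, 1, 0, 1, 2, 3, 4, 7, 3, 2, 1, 8, 7, 3, 2, 4, 5, 6, 3, 7, 8, 7, 2, 3, 4, 1, 2, 3, 7, 6, 5, 4, 3, 2,
    1, 0, 1, 2, 3, 4, 5, 6, 7, 3, 2, 1, 4, 3, 2, 7, 8, 7, 3, 4, 3, 7, 8, 7, 5, 2, 3, 4, 1, 2, 3, 7, 6, 5, 4, 3, 2,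
    1, 0, 1, 2, 3, 4, 5, 6, 7, 3, 2, 1, 4, 3, 2, 5, 7, 8, 7, 3, 4, 7, 8, 2, 3, 4, 1, 2, 3, 7, 6, 5, 4, 3, 2, 1, 0,
    1, 2, 3, 4, 5, 6, 7, 3, 2, 1, 4, 3, 2, 8, 7, 7, 8, 7, 5, 2, 3, 4, 1, 2, 3, 7, 6, 5, 4, 3, 2, 1, 0, 1, 2, 3, 4,
    5, 6, 7, 3, 2, 1, 4, 3, 2, 5, 7, 8, 7, 3, 7, 8, 7, 2, 3, 4, 1, 2, 3, 7, 6, 5, 4, 3, 2, 1, 0, 1, 2, 3, 4, 5, 6,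
    7, 3, 2, 1, 4, 3, 2, 7, 8, 7, 3, 7, 8, 2, 3, 4, 1, 2, 3, 7, 6, 5, 4, 3, 2, 1, 0, 1, 2, 3, 4, 5, 6, 7, 3, 2, 1,
    4, 3, 2, 8, 7, 4, 3, 7, 8, 7, 5, 2, 3, 4, 1, 2, 3, 7, 6, 5, 4, 3, 2, 1, 0, 1, 2, 3, 4, 5, 6, 7, 3, 2, 1, 4, 3,
    2, 5, 7, 8, 7, 3, 4, 7, 8, 2, 3, 4, 1, 2, 3, 7, 6, 5, 4, 3, 2, 1, 0, 1, 2, 3, 4, 5, 6, 7, 3, 2, 1, 4, 3, 2, 8,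
    7, 5, 4, 3, 7, 8, 5, 2, 3, 4, 1, 2, 3, 7, 6, 5, 4, 3, 2, 1, 0, 1, 2, 3, 4, 5, 6, 7, 3, 2, 1, 4, 3, 2, 5, 8, 7,
    3, 4, 5, 7, 8, 7, 5, 2, 3, 4, 1, 2, 3, 7, 6, 5, 4, 3, 2, 1, 0, 1, 2, 3, 4, 5, 6, 7, 3, 2, 1, 4, 3, 2, 5, 7, 8,
    7, 4, 3, 7, 8, 7, 5, 2, 3, 4, 1, 2, 3, 7, 6, 5, 4, 3, 2, 1, 0, 1, 2, 3, 4, 5, 6, 7, 3, 2, 1, 4, 3, 2, 5, 7, 8,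
    7, 3, 4, 7, 8, 2, 3, 4, 1, 2, 3, 7, 6, 5, 4, 3, 2, 1, 0, 1, 2, 3, 4, 5, 6, 7, 3, 2, 1, 4, 3, 2, 8, 7, 5, 4, 3,
    7, 8, 5, 2, 3, 4, 1, 2, 3, 7, 6, 5, 4, 3, 2, 1, 0, 1, 2, 3, 4, 5, 6, 7, 3, 2, 1, 4, 3, 2, 5, 8, 7, 3, 4, 5, 4,
    3, 7, 8, 7, 5, 2, 3, 4, 1, 2, 3, 7, 6, 5, 4, 3, 2, 1, 0, 1, 2, 3, 4, 5, 6, 7, 3, 2, 1, 4, 3, 2, 5, 7, 8, 7, 3,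
    4, 3, 7, 8, 7, 2, 3, 4, 1, 2, 3, 7, 6, 5, 4, 3, 2, 1, 0, 1, 2, 3, 4, 5, 6, 7, 3, 2, 1, 4, 3, 2, 7, 8, 7, 3, 4,
    3, 7, 8, 7, 5, 2, 3, 4, 1, 2, 3, 7, 6, 5, 4, 3, 2, 1, 0, 1, 2, 3, 4, 5, 6, 7, 3, 2, 1, 4, 3, 2, 5, 7, 8, 7, 3,
    4, 4, 3, 7, 8, 7, 5, 2, 3, 4, 1, 2, 3, 7, 6, 5, 4, 3, 2, 1, 0, 1, 2, 3, 4, 5, 6, 7, 3, 2, 1, 4, 3, 2, 5, 7, 8,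
    7, 3, 4, 7, 8, 2, 3, 4, 1, 2, 3, 7, 6, 5, 4, 3, 2, 1, 0, 1, 2, 3, 4, 5, 6, 7, 3, 2, 1, 4, 3, 2, 8, 7, 5, 4, 3,
    7, 8, 5, 2, 3, 4, 1, 2, 3, 7, 6, 5, 4, 3, 2, 1, 0, 1, 2, 3, 4, 5, 6, 7, 3, 2, 1, 4, 3, 2, 5, 8, 7, 3, 4, 5, 3,
    7, 8, 7, 2, 3, 4, 1, 2, 3, 7, 6, 5, 4, 3, 2, 1, 0, 1, 2, 3, 4, 5, 6, 7, 3, 2, 1, 4, 3, 2, 7, 8, 7, 3, 4, 3, 7,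
    8, 7, 5, 2, 3, 4, 1, 2, 3, 7, 6, 5, 4, 3, 2, 1, 0, 1, 2, 3, 4, 5, 6, 7, 3, 2, 1, 4, 3, 2, 5, 7, 8, 7, 3, 4, 7,
    8, 2, 3, 4, 1, 2, 3, 7, 6, 5, 4, 3, 2, 1, 0, 1, 2, 3, 4, 5, 6, 7, 3, 2, 1, 4, 3, 2, 8, 7, 6, 5, 4, 2, 3, 7, 8,
    1, 2, 3, 7, 4, 3, 2, 1, 0, 1, 2, 3, 4, 7, 3, 2, 1, 8, 7, 3, 2, 4, 5, 6, 3, 7, 8, 7, 2, 3, 4, 1, 2, 3, 7, 6, 5,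
    4, 3, 2, 1, 0, 1, 2, 3, 4, 5, 6, 7, 3, 2, 1, 4, 3, 2, 7, 8, 7, 3, 4, 3, 7, 8, 7, 5, 2, 3, 4, 1, 2, 3, 7, 6, 5,
    4, 3, 2, 1, 0, 1, 2, 3, 4, 5, 6, 7, 3, 2, 1, 4, 3, 2, 5, 7, 8, 7, 3, 4, 7, 8, 7, 5, 2, 3, 4, 1, 2, 3, 7, 6, 5,
    4, 3, 2, 1, 0, 1, 2, 3, 4, 5, 6, 7, 3, 2, 1, 4, 3, 2, 5, 7, 8, 7, 4, 3, 7, 8, 7, 5, 2, 3, 4, 1, 2, 3, 7, 6, 5,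
    4, 3, 2, 1, 0, 1, 2, 3, 4, 5, 6, 7, 3, 2, 1, 4, 3, 2, 5, 7, 8, 7, 3, 4, 3, 7, 8, 7, 2, 3, 4, 1, 2, 3, 7, 6, 5,
    4, 3, 2, 1, 0, 1, 2, 3, 4, 5, 6, 7, 3, 2, 1, 4, 3, 2, 7, 8, 7, 3, 6, 5, 4, 2, 3, 7, 8, 1, 2, 3, 7, 4, 3, 2, 1,
    0, 1, 2, 3, 4, 7, 3, 2, 1, 8, 7, 3, 2, 4, 5, 6, 7, 8, 2, 3, 4, 1, 2, 3, 7, 6, 5, 4, 3, 2, 1, 0, 1, 2, 3, 4, 5,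
    6, 7, 3, 2, 1, 4, 3, 2, 8, 7, 4, 3, 7, 8, 7, 5, 2, 3, 4, 1, 2, 3, 7, 6, 5, 4, 3, 2, 1, 0, 1, 2, 3, 4, 5, 6, 7,
    3, 2, 1, 4, 3, 2, 5, 7, 8, 7, 3, 4, 3, 7, 8, 7, 2, 3, 4, 1, 2, 3, 7, 6, 5, 4, 3, 2, 1, 0, 1, 2, 3, 4, 5, 6, 7,
    3, 2, 1, 4, 3, 2, 7, 8, 7, 3, 5, 4, 3, 7, 8, 5, 2, 3, 4, 1, 2, 3, 7, 6, 5, 4, 3, 2, 1, 0, 1, 2, 3, 4, 5, 6, 7,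
    3, 2, 1, 4, 3, 2, 5, 8, 7, 3, 4, 5, 7, 8, 2, 3, 4, 1, 2, 3, 7, 6, 5, 4, 3, 2, 1, 0, 1, 2, 3, 4, 5, 6, 7, 3, 2,
    1, 4, 3, 2, 8, 7, 4, 3, 7, 8, 7, 5, 2, 3, 4, 1, 2, 3, 7, 6, 5, 4, 3, 2, 1, 0, 1, 2, 3, 4, 5, 6, 7, 3, 2, 1, 4,
    3, 2, 5, 7, 8, 7, 3, 4, 3, 7, 8, 7, 2, 3, 4, 1, 2, 3, 7, 6, 5, 4, 3, 2, 1, 0, 1, 2, 3, 4, 5, 6, 7, 3, 2, 1, 4,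
    3, 2, 7, 8, 7, 3, 4, 3, 7, 8, 7, 5, 2, 3, 4, 1, 2, 3, 7, 6, 5, 4, 3, 2, 1, 0, 1, 2, 3, 4, 5, 6, 7, 3, 2, 1, 4,
    3, 2, 5, 7, 8, 7, 3, 4, 7, 8, 2, 3, 4, 1, 2, 3, 7, 6, 5, 4, 3, 2, 1, 0, 1, 2, 3, 4, 5, 6, 7, 3, 2, 1, 4, 3, 2,
    8, 7, 5, 4, 3, 7, 8, 5, 2, 3, 4, 1, 2, 3, 7, 6, 5, 4, 3, 2, 1, 0, 1, 2, 3, 4, 5, 6, 7, 3, 2, 1, 4, 3, 2, 5, 8,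
    7, 3, 4, 5, 6, 5, 4, 2, 3, 7, 8, 1, 2, 3, 7, 4, 3, 2, 1, 0, 1, 2, 3, 4, 7, 3, 2, 1, 8, 7, 3, 2, 4, 5, 6, 3, 7,
    8, 7, 2, 3, 4, 1, 2, 3, 7, 6, 5, 4, 3, 2, 1, 0, 1, 2, 3, 4, 5, 6, 7, 3, 2, 1, 4, 3, 2, 7, 8, 7, 3, 6, 5, 4, 3,
    7, 8, 3, 4, 5, 2, 3, 4, 1, 2, 3, 7, 6, 5, 4, 3, 2, 1, 0, 1, 2, 3, 4, 5, 6, 7, 3, 2, 1, 4, 3, 2, 5, 4, 3, 8, 7,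
    3, 4, 5, 6, 7, 8, 7, 5, 2, 3, 4, 1, 2, 3, 7, 6, 5, 4, 3, 2, 1, 0, 1, 2, 3, 4, 5, 6, 7, 3, 2, 1, 4, 3, 2, 5, 7,
    8, 7, 5, 4, 3, 7, 8, 5, 2, 3, 4, 1, 2, 3, 7, 6, 5, 4, 3, 2, 1, 0, 1, 2, 3, 4, 5, 6, 7, 3, 2, 1, 4, 3, 2, 5, 8,
    7, 3, 4, 5, 7, 8, 2, 3, 4, 1, 2, 3, 7, 6, 5, 4, 3, 2, 1, 0, 1, 2, 3, 4, 5, 6, 7, 3, 2, 1, 4, 3, 2, 8, 7, 5, 4,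
    3, 7, 8, 5, 2, 3, 4, 1, 2, 3, 7, 6, 5, 4, 3, 2, 1, 0, 1, 2, 3, 4, 5, 6, 7, 3, 2, 1, 4, 3, 2, 5, 8, 7, 3, 4, 5,
    7, 8, 2, 3, 4, 1, 2, 3, 7, 6, 5, 4, 3, 2, 1, 0, 1, 2, 3, 4, 5, 6, 7, 3, 2, 1, 4, 3, 2, 8, 7, 5, 4, 3, 7, 8, 5,
    2, 3, 4, 1, 2, 3, 7, 6, 5, 4, 3, 2, 1, 0, 1, 2, 3, 4, 5, 6, 7, 3, 2, 1, 4, 3, 2, 5, 8, 7, 3, 4, 5, 4, 3, 7, 8,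
    7, 5, 2, 3, 4, 1, 2, 3, 7, 6, 5, 4, 3, 2, 1, 0, 1, 2, 3, 4, 5, 6, 7, 3, 2, 1, 4, 3, 2, 5, 7, 8, 7, 3, 4, 7, 8,
    2, 3, 4, 1, 2, 3, 7, 6, 5, 4, 3, 2, 1, 0, 1, 2, 3, 4, 5, 6, 7, 3, 2, 1, 4, 3, 2, 8, 7, 6, 5, 4, 2, 3, 7, 8, 1,
    2, 3, 7, 4, 3, 2, 1, 0, 1, 2, 3, 4, 7, 3, 2, 1, 8, 7, 3, 2, 4, 5, 6, 6, 5, 4, 3, 7, 8, 3, 4, 5, 2, 3, 4, 1, 2,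
    3, 7, 6, 5, 4, 3, 2, 1, 0, 1, 2, 3, 4, 5, 6, 7, 3, 2, 1, 4, 3, 2, 5, 4, 3, 8, 7, 3, 4, 5, 6, 7, 8, 7, 5, 2, 3,
    4, 1, 2, 3, 7, 6, 5, 4, 3, 2, 1, 0, 1, 2, 3, 4, 5, 6, 7, 3, 2, 1, 4, 3, 2, 5, 7, 8, 7, 5, 4, 3, 7, 8, 5, 2, 3,
    4, 1, 2, 3, 7, 6, 5, 4, 3, 2, 1, 0, 1, 2, 3, 4, 5, 6, 7, 3, 2, 1, 4, 3, 2, 5, 8, 7, 3, 4, 5, 4, 3, 7, 8, 7, 5,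
    2, 3, 4, 1, 2, 3, 7, 6, 5, 4, 3, 2, 1, 0, 1, 2, 3, 4, 5, 6, 7, 3, 2, 1, 4, 3, 2, 5, 7, 8, 7, 3, 4, 3, 7, 8, 7,
    2, 3, 4, 1, 2, 3, 7, 6, 5, 4, 3, 2, 1, 0, 1, 2, 3, 4, 5, 6, 7, 3, 2, 1, 4, 3, 2, 7, 8, 7, 3, 7, 8, 7, 5, 2, 3,
    4, 1, 2, 3, 7, 6, 5, 4, 3, 2, 1, 0, 1, 2, 3, 4, 5, 6, 7, 3, 2, 1, 4, 3, 2, 5, 7, 8, 7, 7, 8, 2, 3, 4, 1, 2, 3,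
    7, 6, 5, 4, 3, 2, 1, 0, 1, 2, 3, 4, 5, 6, 7, 3, 2, 1, 4, 3, 2, 8, 7, 4, 3, 7, 8, 7, 5, 2, 3, 4, 1, 2, 3, 7, 6,
    5, 4, 3, 2, 1, 0, 1, 2, 3, 4, 5, 6, 7, 3, 2, 1, 4, 3, 2, 5, 7, 8, 7, 3, 4, 3, 7, 8, 7, 2, 3, 4, 1, 2, 3, 7, 6,
    5, 4, 3, 2, 1, 0, 1, 2, 3, 4, 5, 6, 7, 3, 2, 1, 4, 3, 2, 7, 8, 7, 3, 6, 5, 4, 2, 3, 7, 8, 1, 2, 3, 7, 4, 3, 2,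
    1, 0, 1, 2, 3, 4, 7, 3, 2, 1, 8, 7, 3, 2, 4, 5, 6, 7, 8, 7, 5, 2, 3, 4, 1, 2, 3, 7, 6, 5, 4, 3, 2, 1, 0, 1, 2,
    3, 4, 5, 6, 7, 3, 2, 1, 4, 3, 2, 5, 7, 8, 7, 4, 3, 7, 8, 7, 5, 2, 3, 4, 1, 2, 3, 7, 6, 5, 4, 3, 2, 1, 0, 1, 2,
    3, 4, 5, 6, 7, 3, 2, 1, 4, 3, 2, 5, 7, 8, 7, 3, 4, 3, 7, 8, 7, 2, 3, 4, 1, 2, 3, 7, 6, 5, 4, 3, 2, 1, 0, 1, 2,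
    3, 4, 5, 6, 7, 3, 2, 1, 4, 3, 2, 7, 8, 7, 3, 6, 5, 4, 2, 3, 7, 8, 1, 2, 3, 7, 4, 3, 2, 1, 0, 1, 2, 3, 4, 7, 3,
    2, 1, 8, 7, 3, 2, 4, 5, 6, 6, 5, 4, 3, 7, 8, 3, 4, 5, 2, 3, 4, 1, 2, 3, 7, 6, 5, 4, 3, 2, 1, 0, 1, 2, 3, 4, 5,
    6, 7, 3, 2, 1, 4, 3, 2, 5, 4, 3, 8, 7, 3, 4, 5, 6, 2, 3, 7, 8, 1, 0, 2, 1, 3, 2, 7, 3, 8, 7]

/-- the carrying elements -/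
def movers : List (List Nat) := [mover0, mover1, mover2, mover3]

/-- whether the diagram symmetry comes first -/
def twist : List Bool := [false, true, false, true]

end Cfsg.Agent.Spor.M23Rel.OrbitDat
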