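import Cfsg.Agent.Lib.Spor.M23RelTop

/-!
The centralizer of a product of three pairwise commuting members permutes them as the symmetric group.
-/

set_option autoImplicit false
set_option linter.unusedSectionVars false

namespace Cfsg.Agent.Spor.M23Rel.Triple

open Cfsg.Agent.Spor.M22U (nset)

variable {K : Type*} [Group K] [Finite K] {E : Set K}

/-- two distinct commuting members of a class are joined by a member commuting with neither -/
theorem exists_common (hE : Pre E) (hZ : Subgroup.center K = ⊥) (h1 : One E) {a b : K} (ha : a ∈ E)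
    (hb : b ∈ E) (ha1 : a ≠ 1) (hb1 : b ≠ 1) (hab : a ≠ b) (hc : Commute a b) :
    ∃ u ∈ E, ¬ Commute a u ∧ ¬ Commute b u := by
  let P : K → Prop := fun x => x ∈ E ∧ (x = a ∨ ¬ Commute a x ∨ ∃ u ∈ E, ¬ Commute a u ∧ ¬ Commute x u)
  have step : ∀ x y, P x → y ∈ E → ¬ Commute x y → P y := by
    rintro x y ⟨hx, h⟩ hy hxy
    refine ⟨hy, ?_⟩
    rcases h with rfl | h | ⟨u, hu, hau, hxu⟩
    · exact Or.inr (Or.inl hxy)
    · exact Or.inr (Or.inr ⟨x, hx, h, fun h' => hxy h'.symm⟩)
    by_cases hay : Commute a y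
    swap
    · exact Or.inr (Or.inl hay)
    by_cases hax : Commute a x
    swap
    · exact Or.inr (Or.inr ⟨x, hx, hax, fun h' => hxy h'.symm⟩)
    by_cases hyu : Commute y u
    swap
    · exact Or.inr (Or.inr ⟨u, hu, hau, hyu⟩)
    refine Or.inr (Or.inr ⟨x * u * x⁻¹, hE.conj x u hu, fun h' => hau ?_, fun h' => hxy ?_⟩)
    · have hfix : x * a * x⁻¹ = a := mul_inv_eq_iff_eq_mul.mpr hax.eq.symm
      rw [← hfix] at h'
      exact commute_conj_iff.mp h'
    · have hb2 := (hE.braid hx hu hxu).2
      have hfix : u * y * u⁻¹ = y := mul_inv_eq_iff_eq_mul.mpr hyu.eq.symm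
      have e : x * u * x⁻¹ = u * x * u⁻¹ := by
        rw [inv_eq_of_mul_eq_one_right (hE.sq x hx), inv_eq_of_mul_eq_one_right (hE.sq u hu), hb2]
      rw [e, ← hfix] at h'
      exact (commute_conj_iff.mp h').symm
  have inv : ∀ g : K, ∀ x, P x → P (g * x * g⁻¹) := by
    intro g
    have hg : g ∈ Subgroup.closure E := hE.gen ▸ Subgroup.mem_top g
    induction hg using Subgroup.closure_induction'' with
    | one => simp
    | mem e he =>
      intro x hx
      by_cases hc : Commute e x
      · rwa [mul_inv_eq_iff_eq_mul.mpr hc.eq]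
      · refine step e _ (step x e hx he fun h => hc h.symm) (hE.conj e x hx.1) fun h => hc ?_
        have h' : Commute (e * e * e⁻¹) (e * x * e⁻¹) := by rwa [mul_inv_cancel_right]
        exact commute_conj_iff.mp h'
    | inv_mem e he =>
      intro x hx
      rw [inv_inv, inv_eq_of_mul_eq_one_right (hE.sq e he)]
      by_cases hc : Commute e x
      · rwa [show e * x * e = x by rw [hc.eq, mul_assoc, hE.sq e he, mul_one]]
      · refine step e _ (step x e hx he fun h => hc h.symm) ?_ fun h => hc ?_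
        · have := hE.conj e x hx.1
          rwa [inv_eq_of_mul_eq_one_right (hE.sq e he)] at this
        · have h' : Commute (e * e * e⁻¹) (e * x * e⁻¹) := by
            rw [mul_inv_cancel_right, inv_eq_of_mul_eq_one_right (hE.sq e he)]; exact h
          exact commute_conj_iff.mp h'
    | mul g g' _ _ hg hg' =>
      intro x hx
      rw [show g * g' * x * (g * g')⁻¹ = g * (g' * x * g'⁻¹) * g⁻¹ by group]
      exact hg _ (hg' x hx)
  obtain ⟨g, hg⟩ := h1 a ha b hb ha1 hb1
  obtain ⟨-, h⟩ := hg ▸ inv g a ⟨ha, Or.inl rfl⟩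
  rcases h with h | h | ⟨u, hu, hau, hbu⟩
  · exact absurd h.symm hab
  · exact absurd hc h
  · exact ⟨u, hu, hau, hbu⟩

variable {D : Set K}

/-- in type M(23), two of three commuting members are interchanged by an element fixing the third -/
theorem exists_swap (hD : Cfsg.IsThreeTranspositionGroup D) (hprim : Cfsg.IsPrimitiveUnderConj D)
    (ht : Cfsg.IsOfTypeM23 K D) {a b c : K} (ha : a ∈ D) (hb : b ∈ D) (hc : c ∈ D) (hab : a ≠ b)
    (hac : a ≠ c) (hbc : b ≠ c) (cab : Commute a b) (cac : Commute a c) (cbc : Commute b c) :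
    ∃ g : K, g * a * g⁻¹ = b ∧ g * b * g⁻¹ = a ∧ g * c * g⁻¹ = c := by
  obtain ⟨-, d, hd, e, he, hnc, h22, -⟩ := ht
  have hE := pre_of_group hD
  have hne : ∀ x ∈ D, x ≠ 1 := fun x hx h1 => by
    have := hD.1.1 x hx
    rw [h1, orderOf_one] at this
    norm_num at this
  have h1 : One D := fun a ha b hb _ _ => hprim.1 a ha b hb
  have hS : Sep D := by
    intro x hx y hy _ _ hxy
    rcases relation_dichotomy hD hprim (SameV D) (fun _ _ _ _ => Iff.rfl) (fun _ _ _ _ h => h.symm)
        (fun _ _ _ _ _ _ h h' => h.trans h') (fun g _ _ _ _ h => h.conj hD.2.1 g) with h | h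
    · exact h x hx y hy hxy
    · exact absurd ((h d hd e he).commute hd) hnc
  obtain ⟨hX, -⟩ := Top.lev22 (pre_next hE d) h22
  obtain ⟨t, ht'⟩ := hprim.1 c hc d hd
  have mem : ∀ x ∈ D, x ≠ c → Commute x c → t * x * t⁻¹ ∈ nset D d := fun x hx hxc hcm => by
    rw [← ht']
    exact ⟨hD.2.1 t x hx, fun h => hxc (mul_left_cancel (mul_right_cancel h)), commute_conj_iff.mpr hcm.symm⟩
  have hA := mem a ha hac cac
  have hB := mem b hb hbc cbc
  have hne' := next_ne_one hE hne h1 hS hd
  obtain ⟨-, ⟨⟨w, hwH⟩, hw, rfl⟩, hau, hbu⟩ :=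
    exists_common (a := (QuotientGroup.mk (⟨_, Subgroup.subset_closure hA⟩ : ↥(Subgroup.closure (nset D d))) :
        ↥(Subgroup.closure (nset D d)) ⧸ Subgroup.center ↥(Subgroup.closure (nset D d))))
      (b := QuotientGroup.mk (⟨_, Subgroup.subset_closure hB⟩ : ↥(Subgroup.closure (nset D d))))
      (pre_next hE d) h22.1 hX.one ⟨⟨_, Subgroup.subset_closure hA⟩, hA, rfl⟩
      ⟨⟨_, Subgroup.subset_closure hB⟩, hB, rfl⟩ (hne' _ ⟨⟨_, Subgroup.subset_closure hA⟩, hA, rfl⟩)
      (hne' _ ⟨⟨_, Subgroup.subset_closure hB⟩, hB, rfl⟩)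
      (fun h => hab (mul_left_cancel (mul_right_cancel
        (mk_inj hE d hA hB (hne' _ ⟨⟨_, Subgroup.subset_closure hA⟩, hA, rfl⟩) h))))
      (Commute.map (x := (⟨_, Subgroup.subset_closure hA⟩ : ↥(Subgroup.closure (nset D d))))
        (y := ⟨_, Subgroup.subset_closure hB⟩) (Subtype.ext (commute_conj_iff.mpr cab).eq)
        (QuotientGroup.mk' (Subgroup.center ↥(Subgroup.closure (nset D d)))))
  set p := t * a * t⁻¹ with hp
  set q := t * b * t⁻¹ with hq
  have npw : ¬ Commute p w := fun h => hau (Commute.map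
    (x := (⟨p, Subgroup.subset_closure hA⟩ : ↥(Subgroup.closure (nset D d)))) (y := ⟨w, hwH⟩)
    (Subtype.ext h.eq) (QuotientGroup.mk' (Subgroup.center ↥(Subgroup.closure (nset D d)))))
  have nqw : ¬ Commute q w := fun h => hbu (Commute.map
    (x := (⟨q, Subgroup.subset_closure hB⟩ : ↥(Subgroup.closure (nset D d)))) (y := ⟨w, hwH⟩)
    (Subtype.ext h.eq) (QuotientGroup.mk' (Subgroup.center ↥(Subgroup.closure (nset D d)))))
  have pq : Commute p q := commute_conj_iff.mpr cab
  have key : ∀ x y : K, x ∈ D → y ∈ D → ¬ Commute x w → ¬ Commute y w → Commute x y →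
      (w * x * w) * (w * y * w) * x * ((w * x * w) * (w * y * w))⁻¹ = y := by
    intro x y hx hy nx ny cxy
    have xx := hE.sq x hx
    have yy := hE.sq y hy
    have ww := hE.sq w hw.1
    have bx : w * x * w = x * w * x := ((hE.braid hx hw.1 nx).2).symm
    have by' : w * y * w = y * w * y := ((hE.braid hy hw.1 ny).2).symm
    have yi : (w * y * w)⁻¹ = w * y * w := by
      rw [inv_eq_iff_mul_eq_one]
      calc w * y * w * (w * y * w) = w * y * (w * w) * y * w := by simp only [mul_assoc]
        _ = 1 := by rw [ww, mul_one, mul_assoc w y y, yy, mul_one, ww]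
    have xi : (w * x * w)⁻¹ = w * x * w := by
      rw [inv_eq_iff_mul_eq_one]
      calc w * x * w * (w * x * w) = w * x * (w * w) * x * w := by simp only [mul_assoc]
        _ = 1 := by rw [ww, mul_one, mul_assoc w x x, xx, mul_one, ww]
    have inner : (w * y * w) * x * (w * y * w) = x * (w * y * w) * x := by
      calc (w * y * w) * x * (w * y * w) = y * w * (y * x * y) * w * y := by rw [by']; simp only [mul_assoc]
        _ = y * (w * x * w) * y := by rw [← cxy.eq, mul_assoc x y y, yy, mul_one]; simp only [mul_assoc]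
        _ = (y * x) * w * (x * y) := by rw [bx]; simp only [mul_assoc]
        _ = x * (y * w * y) * x := by rw [← cxy.eq, cxy.eq]; nth_rw 1 [← cxy.eq]; simp only [mul_assoc]
        _ = x * (w * y * w) * x := by rw [by']
    calc (w * x * w) * (w * y * w) * x * ((w * x * w) * (w * y * w))⁻¹
        = (w * x * w) * ((w * y * w) * x * (w * y * w)) * (w * x * w) := by
          rw [mul_inv_rev, yi, xi]; simp only [mul_assoc]
      _ = (x * w * x) * (x * (w * y * w) * x) * (x * w * x) := by rw [inner, bx]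
      _ = x * w * (x * x) * w * y * w * (x * x) * w * x := by simp only [mul_assoc]
      _ = x * (w * w) * y * (w * w) * x := by rw [xx, mul_one, mul_one]; simp only [mul_assoc]
      _ = y := by rw [ww, mul_one, mul_one, cxy.eq, mul_assoc, xx, mul_one]
  have kpq := key p q hA.1 hB.1 npw nqw pq
  have kqp := key q p hB.1 hA.1 nqw npw pq.symm
  set g := (w * p * w) * (w * q * w) with hg
  have hsw : (w * q * w) * (w * p * w) = g := by
    calc (w * q * w) * (w * p * w) = w * q * (w * w) * p * w := by simp only [mul_assoc]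
      _ = w * p * (w * w) * q * w := by rw [hE.sq w hw.1, mul_one, mul_one, mul_assoc w q p, ← pq.eq, ← mul_assoc]
      _ = g := by rw [hg]; simp only [mul_assoc]
  rw [hsw] at kqp
  have hgd : Commute g d := by
    refine commute_of_mem (E := D) (Subgroup.mul_mem _ ?_ ?_) <;>
      exact Subgroup.mul_mem _ (Subgroup.mul_mem _ hwH (Subgroup.subset_closure ‹_›)) hwH
  refine ⟨t⁻¹ * g * t, ?_, ?_, ?_⟩
  · calc t⁻¹ * g * t * a * (t⁻¹ * g * t)⁻¹ = t⁻¹ * (g * p * g⁻¹) * t := by rw [hp]; group
      _ = b := by rw [kpq, hq]; group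
  · calc t⁻¹ * g * t * b * (t⁻¹ * g * t)⁻¹ = t⁻¹ * (g * q * g⁻¹) * t := by rw [hq]; group
      _ = a := by rw [kqp, hp]; group
  · calc t⁻¹ * g * t * c * (t⁻¹ * g * t)⁻¹ = t⁻¹ * (g * (t * c * t⁻¹) * g⁻¹) * t := by group
      _ = c := by rw [ht', mul_inv_eq_iff_eq_mul.mpr hgd.eq, ← ht']; group

/-- the centralizer of the product acts on the three members as the symmetric group -/
theorem perm_three (hD : Cfsg.IsThreeTranspositionGroup D) (hprim : Cfsg.IsPrimitiveUnderConj D)
    (ht : Cfsg.IsOfTypeM23 K D) (f : Fin 3 → K) (hf : Function.Injective f) (hfD : ∀ i, f i ∈ D)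
    (hfc : ∀ i j, Commute (f i) (f j)) :
    Subgroup.centralizer (Set.range f) ≤ Subgroup.centralizer ({f 0 * f 1 * f 2} : Set K) ∧
      ∃ _ : ((Subgroup.centralizer (Set.range f)).subgroupOf
          (Subgroup.centralizer ({f 0 * f 1 * f 2} : Set K))).Normal,
        Nonempty (↥(Subgroup.centralizer ({f 0 * f 1 * f 2} : Set K)) ⧸
          (Subgroup.centralizer (Set.range f)).subgroupOf (Subgroup.centralizer ({f 0 * f 1 * f 2} : Set K)) ≃*
            Equiv.Perm (Fin 3)) := by
  set C := Subgroup.centralizer ({f 0 * f 1 * f 2} : Set K) with hC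
  have hle : Subgroup.centralizer (Set.range f) ≤ C := by
    intro g hg
    rw [hC, Subgroup.mem_centralizer_singleton_iff]
    have h : ∀ i, Commute g (f i) := fun i => ((Subgroup.mem_centralizer_iff.mp hg) _ ⟨i, rfl⟩).symm
    exact (((h 0).mul_right (h 1)).mul_right (h 2)).eq
  refine ⟨hle, ?_⟩
  have hperm : ∀ g : C, ∀ i, ∃ j, (g : K) * f i * (g : K)⁻¹ = f j := by
    intro g i
    have hg := Subgroup.mem_centralizer_singleton_iff.mp g.2
    have hfac := Top.factors hD (Top.noRel_group hD hprim (Or.inl ht)) (l := [f 0, f 1, f 2])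
      (l' := [f 0, f 1, f 2].map fun x => (g : K) * x * (g : K)⁻¹)
      (by simp [hf.eq_iff]) (by simp [hf.eq_iff]) (by simp) (by simp)
      (by simp [hfD]) (by simp [hfD, hD.2.1 _ _ (hfD _)]) (by simp [hfc])
      (by simp [hfc, commute_conj_iff])
      (by
        simp only [List.map_cons, List.map_nil, List.prod_cons, List.prod_nil, mul_one]
        calc _ = (g : K) * (f 0 * f 1 * f 2) * (g : K)⁻¹ := by group
          _ = f 0 * (f 1 * f 2) := by rw [hg, mul_inv_cancel_right, mul_assoc])
    have hm : (g : K) * f i * (g : K)⁻¹ ∈ [f 0, f 1, f 2] := by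
      rw [hfac]
      refine List.mem_map.mpr ⟨f i, ?_, rfl⟩
      fin_cases i <;> simp
    simp only [List.mem_cons, List.not_mem_nil, or_false] at hm
    rcases hm with h | h | h
    · exact ⟨0, h⟩
    · exact ⟨1, h⟩
    · exact ⟨2, h⟩
  choose σ hσ using hperm
  have hinj : ∀ g, Function.Injective (σ g) := fun g i j h => hf (by
    have e : (g : K) * f i * (g : K)⁻¹ = (g : K) * f j * (g : K)⁻¹ := by rw [hσ, hσ, h]
    exact mul_left_cancel (mul_right_cancel e))
  let π : C →* Equiv.Perm (Fin 3) := MonoidHom.mk'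
    (fun g => Equiv.ofBijective (σ g) (Finite.injective_iff_bijective.mp (hinj g))) fun g h => by
      ext1 i
      apply hf
      show f (σ (g * h) i) = f (σ g (σ h i))
      rw [← hσ, ← hσ g, ← hσ h, Subgroup.coe_mul]
      group
  have hker : π.ker = (Subgroup.centralizer (Set.range f)).subgroupOf C := by
    ext g
    rw [MonoidHom.mem_ker, Subgroup.mem_subgroupOf, Subgroup.mem_centralizer_iff]
    constructor
    · rintro h _ ⟨i, rfl⟩
      have e : σ g i = i := congrArg (fun p : Equiv.Perm (Fin 3) => p i) h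
      have e2 := hσ g i
      rw [e, mul_inv_eq_iff_eq_mul] at e2
      exact e2.symm
    · intro h
      ext1 i
      apply hf
      show f (σ g i) = f i
      rw [← hσ, ← h (f i) ⟨i, rfl⟩, mul_inv_cancel_right]
  have hsw : ∀ i j k : Fin 3, i ≠ j → i ≠ k → j ≠ k → Equiv.swap i j ∈ π.range := by
    intro i j k hij hik hjk
    obtain ⟨g, g1, g2, g3⟩ := exists_swap hD hprim ht (hfD i) (hfD j) (hfD k) (hf.ne hij) (hf.ne hik) (hf.ne hjk)
      (hfc i j) (hfc i k) (hfc j k)
    have hprod : f i * f j * f k = f 0 * f 1 * f 2 := by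
      have hperm : ∀ a b c : Fin 3, a ≠ b → a ≠ c → b ≠ c → [a, b, c].Perm [0, 1, 2] := by decide
      have := ((hperm i j k hij hik hjk).map f).prod_eq' (List.pairwise_of_forall_mem_list fun x hx y hy => by
        obtain ⟨u, -, rfl⟩ := List.mem_map.mp hx
        obtain ⟨v, -, rfl⟩ := List.mem_map.mp hy
        exact hfc u v)
      simpa [mul_assoc] using this
    have hgC : g ∈ C := by
      rw [hC, Subgroup.mem_centralizer_singleton_iff, ← mul_inv_eq_iff_eq_mul, ← hprod,
        show g * (f i * f j * f k) * g⁻¹ = g * f i * g⁻¹ * (g * f j * g⁻¹) * (g * f k * g⁻¹) by group,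
        g1, g2, g3, (hfc j i).eq]
    refine ⟨⟨g, hgC⟩, ?_⟩
    ext1 x
    apply hf
    show f (σ ⟨g, hgC⟩ x) = _
    rw [← hσ]
    rcases (show x = i ∨ x = j ∨ x = k by omega) with rfl | rfl | rfl
    · rw [Equiv.swap_apply_left]; exact g1
    · rw [Equiv.swap_apply_right]; exact g2
    · rw [Equiv.swap_apply_of_ne_of_ne hik.symm hjk.symm]; exact g3
  have hsurj : Function.Surjective π := by
    rw [← MonoidHom.range_eq_top, eq_top_iff, ← Equiv.Perm.closure_isSwap, Subgroup.closure_le]
    rintro s ⟨i, j, hij, rfl⟩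
    obtain ⟨k, hik, hjk⟩ : ∃ k : Fin 3, i ≠ k ∧ j ≠ k := by
      revert hij; revert i j; decide
    exact hsw i j k hij hik hjk
  have hn : ((Subgroup.centralizer (Set.range f)).subgroupOf C).Normal := hker ▸ inferInstance
  exact ⟨hn, ⟨(QuotientGroup.quotientMulEquivOfEq hker.symm).trans
    (QuotientGroup.quotientKerEquivOfSurjective π hsurj)⟩⟩

end Cfsg.Agent.Spor.M23Rel.Triple
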