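import Cfsg.Agent.Lib.Spor.M23RelPairCent
import Cfsg.Agent.Lib.Spor.M23RelTriple

/-!
The centralizer of a product of two commuting members in a group of type M(23).
-/

set_option autoImplicit false
set_option maxRecDepth 100000
set_option linter.unusedSectionVars false

namespace Cfsg.Agent.Spor.M23Rel.ProdCent

open Cfsg.Agent.Spor.M22U (nset)
open PairCent (Kp Vp mem_Kp)

variable {G : Type*} [Group G] [Finite G] {D : Set G}
  (hD : Cfsg.IsThreeTranspositionGroup D) (hprim : Cfsg.IsPrimitiveUnderConj D) (ht : Cfsg.IsOfTypeM23 G D)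
  {d y : G} (hd : d ∈ D) (hy : y ∈ nset D d)

/-- the centralizer of the product -/
abbrev Cp (d y : G) : Subgroup G := Subgroup.centralizer ({d * y} : Set G)

theorem Kp_le_Cp : Kp d y ≤ Cp d y := fun x hx =>
  Subgroup.mem_centralizer_singleton_iff.mpr (((mem_Kp.mp hx).1.mul_right (mem_Kp.mp hx).2).eq)

include hD hprim ht hd hy in
theorem cases {x : G} (hx : x ∈ Cp d y) :
    (x * d * x⁻¹ = d ∧ x * y * x⁻¹ = y) ∨ (x * d * x⁻¹ = y ∧ x * y * x⁻¹ = d) := by
  have hrel := Top.noRel_group hD hprim (Or.inl ht)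
  have hne : x * d * x⁻¹ ≠ x * y * x⁻¹ := fun h => hy.2.1 (mul_left_cancel (mul_right_cancel h)).symm
  have hprod : ([x * d * x⁻¹, x * y * x⁻¹] : List G).prod = [d, y].prod := by
    rw [Subgroup.mem_centralizer_singleton_iff] at hx
    simp only [List.prod_cons, List.prod_nil, mul_one]
    calc x * d * x⁻¹ * (x * y * x⁻¹) = x * (d * y) * x⁻¹ := by group
      _ = d * y := by rw [hx, mul_inv_cancel_right]
  have hf := Top.factors hD hrel (l := [d, y]) (l' := [x * d * x⁻¹, x * y * x⁻¹]) (by simp [Ne.symm hy.2.1])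
    (by simp [hne]) (by simp) (by simp) (by simp [hd, hy.1]) (by simp [hD.2.1 x d hd, hD.2.1 x y hy.1])
    (by simp [hy.2.2, hy.2.2.symm])
    (by simp [Spor.commute_conj_iff, hy.2.2, hy.2.2.symm]) hprod
  have h1 : x * d * x⁻¹ = d ∨ x * d * x⁻¹ = y := by simpa using (hf (x * d * x⁻¹)).mpr (by simp)
  have h2 : x * y * x⁻¹ = d ∨ x * y * x⁻¹ = y := by simpa using (hf (x * y * x⁻¹)).mpr (by simp)
  rcases h1 with h1 | h1
  · exact Or.inl ⟨h1, h2.resolve_left fun h => hne (h1.trans h.symm)⟩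
  · exact Or.inr ⟨h1, h2.resolve_right fun h => hne (h1.trans h.symm)⟩

theorem mem_Kp_of {x : G} (h : x * d * x⁻¹ = d) (h' : x * y * x⁻¹ = y) : x ∈ Kp d y :=
  mem_Kp.mpr ⟨mul_inv_eq_iff_eq_mul.mp h, mul_inv_eq_iff_eq_mul.mp h'⟩

include hD hprim ht hd hy in
theorem exists_swap : ∃ g : G, g * d * g⁻¹ = y ∧ g * y * g⁻¹ = d := by
  obtain ⟨l, hlen, hm, -⟩ := PairCent.six_in_pair (Shift.setting_of hD hprim ht hd) hy
  obtain ⟨c, hc⟩ := List.exists_mem_of_length_pos (l := l) (by omega)
  obtain ⟨g, h1, h2, -⟩ := Triple.exists_swap hD hprim ht hd hy.1 (hm c hc).1.1 (Ne.symm hy.2.1)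
    (Ne.symm (hm c hc).1.2.1) (Ne.symm (hm c hc).2.2.1) hy.2.2 (hm c hc).1.2.2 (hm c hc).2.2.2
  exact ⟨g, h1, h2⟩

theorem swap_mem {g : G} (h1 : g * d * g⁻¹ = y) (h2 : g * y * g⁻¹ = d) (hc : Commute d y) : g ∈ Cp d y := by
  rw [Subgroup.mem_centralizer_singleton_iff]
  refine mul_inv_eq_iff_eq_mul.mp ?_
  calc g * (d * y) * g⁻¹ = (g * d * g⁻¹) * (g * y * g⁻¹) := by group
    _ = d * y := by rw [h1, h2]; exact hc.symm.eq

include hD hprim ht hd hy in
theorem index_two : ((Kp d y).subgroupOf (Cp d y)).index = 2 := by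
  obtain ⟨g, h1, h2⟩ := exists_swap hD hprim ht hd hy
  rw [Subgroup.index_eq_two_iff]
  refine ⟨⟨g, swap_mem h1 h2 hy.2.2⟩, fun x => ?_⟩
  simp only [Subgroup.mem_subgroupOf, Subgroup.coe_mul]
  have hno : ∀ z : G, z * d * z⁻¹ = y → z ∉ Kp d y := fun z hz hK => hy.2.1 (by
    rw [← hz]; exact mul_inv_eq_iff_eq_mul.mpr (mem_Kp.mp hK).1.eq)
  rcases cases hD hprim ht hd hy x.2 with ⟨a, b⟩ | ⟨a, b⟩
  · refine Or.inr ⟨mem_Kp_of a b, hno _ ?_⟩
    calc (x : G) * g * d * ((x : G) * g)⁻¹ = x * (g * d * g⁻¹) * (x : G)⁻¹ := by group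
      _ = y := by rw [h1, b]
  · refine Or.inl ⟨mem_Kp_of ?_ ?_, hno _ a⟩
    · calc (x : G) * g * d * ((x : G) * g)⁻¹ = x * (g * d * g⁻¹) * (x : G)⁻¹ := by group
        _ = d := by rw [h1, b]
    · calc (x : G) * g * y * ((x : G) * g)⁻¹ = x * (g * y * g⁻¹) * (x : G)⁻¹ := by group
        _ = y := by rw [h2, a]

include hD hprim ht hd hy in
theorem center_quotient [hn : ((Vp d y).subgroupOf (Cp d y)).Normal] :
    Subgroup.center (↥(Cp d y) ⧸ (Vp d y).subgroupOf (Cp d y)) = ⊥ := by
  set S := Shift.setting_of hD hprim ht hd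
  rw [Subgroup.eq_bot_iff_forall]
  intro q hq
  obtain ⟨x, rfl⟩ := QuotientGroup.mk_surjective q
  rw [Subgroup.mem_center_iff] at hq
  have hcomm : ∀ u : G, u ∈ Cp d y → u⁻¹ * (x : G)⁻¹ * u * x ∈ Vp d y := by
    intro u hu
    have h := hq (QuotientGroup.mk ⟨u, hu⟩)
    rw [← QuotientGroup.mk_mul, ← QuotientGroup.mk_mul, eq_comm, QuotientGroup.eq] at h
    have h' : ((x : G) * u)⁻¹ * (u * x) ∈ Vp d y := Subgroup.mem_subgroupOf.mp h
    simpa [mul_assoc] using h'
  have hV : ∀ v ∈ Vp d y, v = 1 ∨ v = d ∨ v = y ∨ v = d * y := by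
    have hdd := Spor.mul_self_of_order_two (hD.1.1 d hd)
    have hyy := Spor.mul_self_of_order_two (hD.1.1 y hy.1)
    have e1 : ∀ z, d * (d * z) = z := fun z => by rw [← mul_assoc, hdd, one_mul]
    have e2 : ∀ z, y * (d * z) = d * (y * z) := fun z => by rw [← mul_assoc, hy.2.2.symm.eq, mul_assoc]
    have e3 : y * d = d * y := hy.2.2.symm.eq
    have e4 : ∀ z, y * (y * z) = z := fun z => by rw [← mul_assoc, hyy, one_mul]
    intro v hv
    induction hv using Subgroup.closure_induction with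
    | mem z hz => rcases hz with rfl | rfl <;> simp
    | one => simp
    | mul a b _ _ ha hb =>
      rcases ha with rfl | rfl | rfl | rfl <;> rcases hb with rfl | rfl | rfl | rfl <;>
        simp [mul_assoc, hdd, hyy, e1, e2, e3, e4]
    | inv a _ ha =>
      rcases ha with rfl | rfl | rfl | rfl <;>
        simp [inv_eq_of_mul_eq_one_right hdd, inv_eq_of_mul_eq_one_right hyy, mul_inv_rev, e3]
  have hxK : (x : G) ∈ Kp d y := by
    rcases cases hD hprim ht hd hy x.2 with ⟨a, b⟩ | ⟨a, b⟩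
    · exact mem_Kp_of a b
    exfalso
    obtain ⟨l, hlen, hm, hp⟩ := PairCent.six_in_pair S hy
    have hfix : ∀ m ∈ l, Commute (x : G) m := by
      intro m hml
      obtain ⟨⟨hmD, hmd, hcd⟩, -, hmy, hcy⟩ := hm m hml
      have hmC : m ∈ Cp d y := Kp_le_Cp (mem_Kp.mpr ⟨hcd.symm, hcy.symm⟩)
      have hv := hV _ (hcomm m hmC)
      have hmm := Spor.mul_self_of_order_two (hD.1.1 m hmD)
      rw [inv_eq_of_mul_eq_one_right hmm] at hv
      set b := (x : G)⁻¹ * m * x with hb
      have hbD : b ∈ D := by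
        have := hD.2.1 (x : G)⁻¹ m hmD
        rwa [inv_inv] at this
      rw [show m * (x : G)⁻¹ * m * x = m * b by rw [hb]; group] at hv
      have hbeq : ∀ v, m * b = v → b = m * v := fun v h => by rw [← h, ← mul_assoc, hmm, one_mul]
      have hrel := Top.noRel_group hD hprim (Or.inl ht)
      have two : ∀ z, z ∈ D → z ≠ m → Commute z m → m * b = z → False := by
        intro z hz hzm hzc hv
        have hb2 : b * b = 1 := Spor.mul_self_of_order_two (hD.1.1 b hbD)
        have e := hbeq z hv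
        have hbz : b ≠ m := fun e' => by
          rw [e'] at hv
          exact S.ne_one z hz (by rw [← hv, hmm])
        have hbz' : b ≠ z := fun e' => by
          rw [e'] at hv
          exact S.ne_one m hmD (mul_eq_right.mp hv)
        have cmb : Commute m b := by rw [e]; exact (Commute.refl m).mul_right hzc.symm
        have cbz : Commute b z := by rw [e]; exact hzc.symm.mul_left (Commute.refl z)
        exact noRel_three S.pre S.sep [m, b, z] (by simp [Ne.symm hbz, Ne.symm hzm, hbz']) rfl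
          (by simp [hmD, hbD, hz, S.ne_one _ hmD, S.ne_one _ hbD, S.ne_one _ hz])
          (by simp [cmb, cmb.symm, hzc, hzc.symm, cbz, cbz.symm])
          (by simp only [List.prod_cons, List.prod_nil, mul_one]
              rw [← mul_assoc, hv, Spor.mul_self_of_order_two (hD.1.1 z hz)])
      rcases hv with hv | hv | hv | hv
      · have : b = m := by rw [hbeq 1 hv, mul_one]
        rw [hb] at this
        show (x : G) * m = m * x
        calc (x : G) * m = x * ((x : G)⁻¹ * m * x) := by rw [this]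
          _ = m * x := by group
      · exact (two d hd (Ne.symm hmd) hcd hv).elim
      · exact (two y hy.1 (Ne.symm hmy) hcy hv).elim
      · exfalso
        have e := hbeq _ hv
        have cmb : Commute m b := by rw [e]; exact (Commute.refl m).mul_right (hcd.symm.mul_right hcy.symm)
        have hbm : m ≠ b := fun e' => by
          rw [← e', hmm] at hv
          exact hy.2.1 ((inv_eq_of_mul_eq_one_right hv.symm).symm.trans
            (inv_eq_of_mul_eq_one_right (Spor.mul_self_of_order_two (hD.1.1 d hd))))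
        have hf := Top.factors hD hrel (l := [d, y]) (l' := [m, b]) (by simp [Ne.symm hy.2.1]) (by simp [hbm])
          (by simp) (by simp) (by simp [hd, hy.1]) (by simp [hmD, hbD])
          (by simp [hy.2.2, hy.2.2.symm]) (by simp [cmb, cmb.symm]) (by simpa using hv)
        have : m = d ∨ m = y := by simpa using (hf m).mpr (by simp)
        exact this.elim hmd hmy
    have : Commute (x : G) d := hp ▸ Commute.list_prod_right l (x : G) hfix
    exact hy.2.1 (by rw [← a]; exact mul_inv_eq_iff_eq_mul.mpr this.eq)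
  set k : ↥(Kp d y) := ⟨x, hxK⟩
  have hZ := PairCent.center_map S hy
  have hk : (QuotientGroup.mk k : ↥(Kp d y) ⧸ Subgroup.center ↥(Kp d y)) = 1 := by
    have hcen : (QuotientGroup.mk k : ↥(Kp d y) ⧸ Subgroup.center ↥(Kp d y)) ∈
        Subgroup.center (↥(Kp d y) ⧸ Subgroup.center ↥(Kp d y)) := by
      rw [Subgroup.mem_center_iff]
      intro r
      obtain ⟨u, rfl⟩ := QuotientGroup.mk_surjective r
      rw [← QuotientGroup.mk_mul, ← QuotientGroup.mk_mul, eq_comm, QuotientGroup.eq]
      have h := hcomm u (Kp_le_Cp u.2)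
      rw [← hZ] at h
      obtain ⟨z, hz, hze⟩ := h
      have : (k * u)⁻¹ * (u * k) = z := Subtype.ext (by
        rw [Subgroup.coe_subtype] at hze
        rw [hze]
        simp [k, mul_assoc])
      rw [this]; exact hz
    haveI := (PairCent.quasisimple S hy).2
    rcases Subgroup.Normal.eq_bot_or_eq_top
      (inferInstance : (Subgroup.center (↥(Kp d y) ⧸ Subgroup.center ↥(Kp d y))).Normal) with h | h
    · rw [h] at hcen; exact Subgroup.mem_bot.mp hcen
    · exfalso
      have hperf := (PairCent.perfect S hy).commutator_eq_top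
      letI : CommGroup (↥(Kp d y) ⧸ Subgroup.center ↥(Kp d y)) := Group.commGroupOfCenterEqTop h
      have hle : commutator ↥(Kp d y) ≤ (QuotientGroup.mk' (Subgroup.center ↥(Kp d y))).ker :=
        Abelianization.commutator_subset_ker _
      rw [QuotientGroup.ker_mk', hperf] at hle
      have : Subsingleton (↥(Kp d y) ⧸ Subgroup.center ↥(Kp d y)) :=
        QuotientGroup.subsingleton_iff.mpr (top_le_iff.mp hle)
      exact not_nontrivial _ (inferInstance : Nontrivial (↥(Kp d y) ⧸ Subgroup.center ↥(Kp d y)))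
  rw [QuotientGroup.eq_one_iff] at hk ⊢
  rw [Subgroup.mem_subgroupOf, ← hZ]
  exact ⟨k, hk, rfl⟩

end Cfsg.Agent.Spor.M23Rel.ProdCent
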