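import Cfsg.Agent.Lib.Spor.ReflThreeQs

/-!
Seven-dimensional orthogonal spaces over the field with three elements whose discriminant is minus the
norm of the reflections: coordinates, and the only class of involutions of the projective reflection group
with products of order at most three.
-/

set_option autoImplicit false
set_option linter.unusedSectionVars false

namespace Cfsg.Agent.Spor.M23Rel.Seven

open Module QuadraticMap Matrix Cfsg.Agent.Classical.ORefl Cfsg.Agent.Classical.OCount
  Cfsg.Agent.Classical.OOmega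

/-- the field -/
abbrev F3 : Type := ZMod 3

/-- the space -/
abbrev V7 : Type := Fin 7 → ZMod 3

variable {Q : QuadraticForm F3 V7} {c : F3}

/-- a non-degenerate subspace -/
def NDSub (Q : QuadraticForm F3 V7) (U : Submodule F3 V7) : Prop :=
  ∀ x ∈ U, (∀ y ∈ U, polar Q x y = 0) → x = 0

theorem nd_top (hQ : PND Q) : NDSub Q ⊤ := fun x _ h => hQ x fun y => h y Submodule.mem_top

theorem nd_comp {U : Submodule F3 V7} (hU : NDSub Q U) : PND (Q.comp U.subtype) := fun v hv =>
  Subtype.ext (hU v v.2 fun y hy => hv ⟨y, hy⟩)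

theorem nd_value {U : Submodule F3 V7} (hU : NDSub Q U) (hn : 2 ≤ finrank F3 U) (a : F3) :
    ∃ x ∈ U, Q x = a := by
  obtain ⟨x, hx⟩ := exists_value ReflThree.two_ne_three (nd_comp hU) hn a
  exact ⟨x, x.2, hx⟩

theorem nd_nonsing {U : Submodule F3 V7} (hU : NDSub Q U) (hn : 1 ≤ finrank F3 U) :
    ∃ x ∈ U, Q x ≠ 0 := by
  obtain ⟨x, hx⟩ := exists_nonsing ReflThree.two_ne_three (nd_comp hU) hn
  exact ⟨x, x.2, hx⟩

theorem nd_step {U : Submodule F3 V7} (hU : NDSub Q U) {v : V7} (hv : v ∈ U) (hv0 : Q v ≠ 0) :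
    ∃ U', NDSub Q U' ∧ finrank F3 U ≤ finrank F3 U' + 1 ∧ ∀ z, z ∈ U' ↔ z ∈ U ∧ polar Q v z = 0 := by
  refine ⟨U ⊓ LinearMap.ker (Q.polarBilin v), fun x hx h => ?_, ?_, fun z => by simp [Submodule.mem_inf]⟩
  · obtain ⟨hxU, hxv⟩ := Submodule.mem_inf.mp hx
    have hxv' : polar Q v x = 0 := hxv
    refine hU x hxU fun y hy => ?_
    have hvv : polar Q v v ≠ 0 := by
      rw [polar_self_two]; exact mul_ne_zero ReflThree.two_ne_three hv0
    have hm : y - (polar Q v y / polar Q v v) • v ∈ U ⊓ LinearMap.ker (Q.polarBilin v) := by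
      refine Submodule.mem_inf.mpr ⟨sub_mem hy (Submodule.smul_mem _ _ hv), ?_⟩
      show polar Q v (y - (polar Q v y / polar Q v v) • v) = 0
      rw [polar_sub_right, polar_smul_right, smul_eq_mul, div_mul_cancel₀ _ hvv, sub_self]
    have := h _ hm
    rwa [polar_sub_right, polar_smul_right, polar_comm (⇑Q) x v, hxv', smul_zero, sub_zero] at this
  · set φ := (Q.polarBilin v).comp U.subtype
    have h1 := LinearMap.finrank_range_add_finrank_ker φ
    have h2 : finrank F3 (LinearMap.range φ) ≤ 1 := (Submodule.finrank_le _).trans_eq (finrank_self F3)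
    have h3 : finrank F3 (LinearMap.ker φ) ≤
        finrank F3 ↥(U ⊓ LinearMap.ker (Q.polarBilin v)) := by
      refine LinearMap.finrank_le_finrank_of_injective
        (f := ((U.subtype.comp (LinearMap.ker φ).subtype).codRestrict _ fun z =>
          Submodule.mem_inf.mpr ⟨z.1.2, LinearMap.mem_ker.mpr (LinearMap.mem_ker.mp z.2 : _)⟩)) ?_
      intro a b e
      exact Subtype.ext (Subtype.ext (congrArg (Subtype.val) e :))
    omega

/-- seven orthogonal vectors of the given norm -/
structure Base (Q : QuadraticForm F3 V7) (c : F3) (w : Fin 7 → V7) : Prop where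
  norm : ∀ i, Q (w i) = c
  orth : ∀ i j, i ≠ j → polar Q (w i) (w j) = 0

theorem exists_orth (hQ : PND Q) (hc : c ≠ 0) : ∀ k, k ≤ 6 → ∃ (w : ℕ → V7) (U : Submodule F3 V7),
    NDSub Q U ∧ 7 ≤ finrank F3 U + k ∧ (∀ i < k, Q (w i) = c) ∧
    (∀ i < k, ∀ j < k, i ≠ j → polar Q (w i) (w j) = 0) ∧ (∀ i < k, ∀ z ∈ U, polar Q (w i) z = 0) := by
  intro k
  induction k with
  | zero =>
    exact fun _ => ⟨fun _ => 0, ⊤, nd_top hQ, by rw [finrank_top, finrank_fintype_fun_eq_card]; simp,
      by omega, by omega, by omega⟩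
  | succ k ih =>
    intro hk
    obtain ⟨w, U, hU, hd, hn, ho, hp⟩ := ih (by omega)
    obtain ⟨v, hv, hvc⟩ := nd_value hU (by omega) c
    obtain ⟨U', hU', hd', hm⟩ := nd_step hU hv (hvc ▸ hc)
    refine ⟨fun i => if i = k then v else w i, U', hU', by omega, fun i hi => ?_, fun i hi j hj hij => ?_,
      fun i hi z hz => ?_⟩
    · dsimp only
      split_ifs with h
      exacts [hvc, hn i (by omega)]
    · dsimp only
      split_ifs with h h'
      · omega
      · rw [polar_comm]; exact hp j (by omega) v hv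
      · exact hp i (by omega) v hv
      · exact ho i (by omega) j (by omega) hij
    · dsimp only
      split_ifs with h
      exacts [((hm z).mp hz).2, hp i (by omega) z ((hm z).mp hz).1]

theorem polar_lin {n : Fin 7 → F3} {w : Fin 7 → V7} (hn : ∀ i, Q (w i) = n i)
    (ho : ∀ i j, i ≠ j → polar Q (w i) (w j) = 0) (x : V7) (j : Fin 7) :
    polar Q (Fintype.linearCombination F3 w x) (w j) = 2 * n j * x j := by
  rw [Fintype.linearCombination_apply, ← QuadraticMap.polarBilin_apply_apply, map_sum,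
    LinearMap.sum_apply, Finset.sum_eq_single j]
  · simp [polar_self_two, hn, mul_comm]
  · intro i _ hij
    simp [ho i j hij]
  · simp

theorem exists_base (hQ : PND Q) (hc : c ≠ 0) (hμ : Cfsg.polarGramDet (⇑Q) = -c) :
    ∃ w, Base Q c w := by
  classical
  obtain ⟨w₀, U, hU, hd, hn, ho, hp⟩ := exists_orth hQ hc 6 le_rfl
  obtain ⟨z, hz, hz0⟩ := nd_nonsing hU (by omega)
  set w : Fin 7 → V7 := fun i => if (i : ℕ) < 6 then w₀ i else z with hwdef
  have hw6 : ∀ i : Fin 7, ¬ (i : ℕ) < 6 → i = 6 := fun i h => Fin.ext (by have := i.2; simp; omega)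
  have hwo : ∀ i j, i ≠ j → polar Q (w i) (w j) = 0 := by
    intro i j hij
    simp only [hwdef]
    split_ifs with h h'
    · exact ho _ h _ h' fun e => hij (Fin.ext e)
    · exact hp _ h z hz
    · rw [polar_comm]; exact hp _ (by assumption) z hz
    · exact absurd ((hw6 i h).trans (hw6 j (by assumption)).symm) hij
  set l := Fintype.linearCombination F3 w with hl
  have hnz : Q z = c := by
    set A := LinearMap.toMatrix₂' F3 Q.polarBilin
    have hA : A.det = -c := by
      rw [← hμ, Cfsg.polarGramDet]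
      congr 1
    have hB : LinearMap.toMatrix₂' F3 (Q.polarBilin.compl₁₂ l l) =
        Matrix.diagonal fun i => 2 * Q (w i) := by
      ext i j
      rw [LinearMap.toMatrix₂'_apply]
      simp only [LinearMap.compl₁₂_apply, QuadraticMap.polarBilin_apply_apply, hl,
        Fintype.linearCombination_apply_single, one_smul]
      by_cases h : i = j
      · subst h; rw [Matrix.diagonal_apply_eq, polar_self_two]
      · rw [Matrix.diagonal_apply_ne _ h, hwo i j h]
    have h := congrArg Matrix.det (LinearMap.toMatrix₂'_compl₁₂ Q.polarBilin l l)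
    rw [hB, Matrix.det_mul, Matrix.det_mul, Matrix.det_transpose, Matrix.det_diagonal, hA,
      Fin.prod_univ_seven] at h
    simp only [hwdef, show ((0 : Fin 7) : ℕ) < 6 from by norm_num, show ((1 : Fin 7) : ℕ) < 6 from by norm_num,
      show ((2 : Fin 7) : ℕ) < 6 from by norm_num, show ((3 : Fin 7) : ℕ) < 6 from by norm_num,
      show ((4 : Fin 7) : ℕ) < 6 from by norm_num, show ((5 : Fin 7) : ℕ) < 6 from by norm_num,
      show ¬ ((6 : Fin 7) : ℕ) < 6 from by norm_num, if_true, if_false] at h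
    rw [hn _ (by norm_num), hn _ (by norm_num), hn _ (by norm_num), hn _ (by norm_num), hn _ (by norm_num),
      hn _ (by norm_num)] at h
    generalize (LinearMap.toMatrix' l).det = p at h
    generalize Q z = n at h hz0
    revert h hz0 hc
    clear * -
    revert p c n
    decide
  refine ⟨w, fun i => ?_, hwo⟩
  simp only [hwdef]
  split_ifs with h
  exacts [hn _ h, hnz]

/-- the vector with given coordinates -/
noncomputable def ev (w : Fin 7 → V7) : V7 →ₗ[F3] V7 := Fintype.linearCombination F3 w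

/-- the scalar product of coordinates -/
def dot (x y : V7) : F3 := ∑ i, x i * y i

namespace Base

variable {w : Fin 7 → V7}

theorem polar_w (hw : Base Q c w) (x : V7) (j : Fin 7) : polar Q (ev w x) (w j) = 2 * c * x j :=
  polar_lin hw.norm hw.orth x j

theorem polar_ev (hw : Base Q c w) (x y : V7) : polar Q (ev w x) (ev w y) = 2 * c * dot x y := by
  conv_lhs => arg 3; rw [ev, Fintype.linearCombination_apply]
  rw [← QuadraticMap.polarBilin_apply_apply, map_sum, dot, Finset.mul_sum]
  refine Finset.sum_congr rfl fun j _ => ?_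
  rw [map_smul, QuadraticMap.polarBilin_apply_apply, hw.polar_w, smul_eq_mul]
  ring

theorem value_ev (hw : Base Q c w) (x : V7) : Q (ev w x) = c * dot x x := by
  have h := hw.polar_ev x x
  rw [polar_self_two, mul_assoc] at h
  exact mul_left_cancel₀ ReflThree.two_ne_three h

theorem ev_inj (hw : Base Q c w) (hc : c ≠ 0) : Function.Injective (ev w) := by
  intro x y h
  funext j
  have h' := hw.polar_w x j
  rw [h, hw.polar_w y j] at h'
  exact (mul_left_cancel₀ (mul_ne_zero ReflThree.two_ne_three hc) h').symm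

theorem ev_surj (hw : Base Q c w) (hc : c ≠ 0) : Function.Surjective (ev w) :=
  LinearMap.surjective_of_injective (hw.ev_inj hc)

theorem ev_single (i : Fin 7) : ev w (Pi.single i 1) = w i := by
  rw [ev, Fintype.linearCombination_apply_single, one_smul]

end Base

/-- minus the identity -/
noncomputable def negId (Q : QuadraticForm F3 V7) : ↥(Iso Q) :=
  ⟨LinearEquiv.neg F3, fun x => QuadraticMap.map_neg _ _⟩

theorem negId_apply (x : V7) : (negId Q).1 x = -x := rfl

theorem negId_sq : negId Q * negId Q = 1 := Subtype.ext (LinearEquiv.ext fun x => neg_neg x)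

theorem negId_comm (g : ↥(Iso Q)) : Commute (negId Q) g :=
  Subtype.ext (LinearEquiv.ext fun x => (map_neg g.1 x).symm)

theorem negId_ne : negId Q ≠ 1 := fun h => by
  have h1 : (negId Q).1 (Pi.single 0 1) = (Pi.single 0 1 : V7) := by rw [h]; rfl
  have h2 := congrFun h1 0
  rw [negId_apply, Pi.neg_apply, Pi.single_eq_same] at h2
  exact absurd h2 (by decide)

theorem mem_cls (hc : c ≠ 0) {v : V7} (hv : Q v = c) : rf Q v ∈ classGroup Q c :=
  rf_mem_class (by rw [hv]; exact hc) (by rw [hv, div_self hc]; exact IsSquare.one)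

theorem rf_flip {w : Fin 7 → V7} (hw : Base Q c w) (hc : c ≠ 0) (i : Fin 7) (x : V7) :
    (rf Q (w i)).1 (ev w x) = ev w (Function.update x i (-x i)) := by
  have hi : Function.update x i (-x i) = x - (2 * x i) • (Pi.single i 1 : V7) := by
    funext j
    by_cases h : j = i
    · subst h; simp; ring
    · simp [Function.update_of_ne h, Pi.single_eq_of_ne h]
  rw [hi, map_sub, map_smul, Base.ev_single, ReflThree.rf_apply (hw.norm i), polar_comm, hw.polar_w]
  congr 2
  field_simp

theorem negId_mem (hw' : ∃ w, Base Q c w) (hc : c ≠ 0) : negId Q ∈ classGroup Q c := by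
  obtain ⟨w, hw⟩ := hw'
  have key : ∀ l : List (Fin 7), l.Nodup → ∃ g ∈ classGroup Q c, ∀ x,
      g.1 (ev w x) = ev w fun i => if i ∈ l then -x i else x i := by
    intro l
    induction l with
    | nil => exact fun _ => ⟨1, one_mem _, fun x => by simp⟩
    | cons a l ih =>
      intro hl
      rw [List.nodup_cons] at hl
      obtain ⟨g, hg, hgx⟩ := ih hl.2
      refine ⟨rf Q (w a) * g, mul_mem (mem_cls hc (hw.norm a)) hg, fun x => ?_⟩
      show (rf Q (w a)).1 (g.1 (ev w x)) = _
      rw [hgx, rf_flip hw hc]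
      congr 1
      funext j
      by_cases h : j = a
      · subst h; simp [hl.1]
      · simp [Function.update_of_ne h, h]
  obtain ⟨g, hg, hgx⟩ := key (List.finRange 7) (List.nodup_finRange 7)
  have : g = negId Q := Subtype.ext (LinearEquiv.ext fun y => by
    obtain ⟨x, rfl⟩ := hw.ev_surj hc y
    rw [hgx, negId_apply, ← map_neg]
    congr 1
    funext i
    simp)
  exact this ▸ hg

/-- an element commuting with all the reflections of one norm is a scalar -/
theorem scalar_of_comm (hw' : ∃ w, Base Q c w) (hc : c ≠ 0) {z : ↥(Iso Q)}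
    (h : ∀ v, Q v = c → Commute z (rf Q v)) : z = 1 ∨ z = negId Q := by
  obtain ⟨w, hw⟩ := hw'
  have hsign : ∀ v, Q v = c → ∃ t : F3, z.1 v = t • v := by
    intro v hv
    have hzv : Q (z.1 v) = c := (z.2 v).trans hv
    refine ReflThree.r_eq_span hc hv hzv (Subtype.ext ?_)
    show toMat Q (rf Q v) = toMat Q (rf Q (z.1 v))
    rw [← conj_rf, (h v hv).eq, mul_inv_cancel_right]
  have hb : ∀ i, ∃ t : F3, z.1 (w i) = t • w i := fun i => hsign _ (hw.norm i)
  choose t ht using hb
  have hsum : ∀ x, z.1 (ev w x) = ev w fun i => x i * t i := by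
    intro x
    simp only [ev, Fintype.linearCombination_apply]
    rw [map_sum]
    exact Finset.sum_congr rfl fun i _ => by rw [map_smul, ht, smul_smul]
  have hfour : ∀ x : V7, dot x x = 1 → ∀ i, x i ≠ 0 → ∀ j, x j ≠ 0 → t i = t j := by
    intro x hx i hi j hj
    obtain ⟨s, hs⟩ := hsign (ev w x) (by rw [hw.value_ev, hx, mul_one])
    rw [hsum, ← map_smul] at hs
    have e := hw.ev_inj hc hs
    have e1 := congrFun e i
    have e2 := congrFun e j
    simp only [Pi.smul_apply, smul_eq_mul, mul_comm s] at e1 e2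
    rw [mul_left_cancel₀ hi e1, mul_left_cancel₀ hj e2]
  have hall : ∀ i, t i = t 0 := by
    intro i
    have h1 := hfour ![1, 1, 1, 1, 0, 0, 0] (by decide)
    have h2 := hfour ![1, 0, 0, 0, 1, 1, 1] (by decide)
    fin_cases i
    · rfl
    · exact h1 _ (by decide) _ (by decide)
    · exact h1 _ (by decide) _ (by decide)
    · exact h1 _ (by decide) _ (by decide)
    · exact h2 _ (by decide) _ (by decide)
    · exact h2 _ (by decide) _ (by decide)
    · exact h2 _ (by decide) _ (by decide)
  have hz : ∀ y, z.1 y = t 0 • y := fun y => by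
    obtain ⟨x, rfl⟩ := hw.ev_surj hc y
    rw [hsum, ← map_smul]
    congr 1
    funext i
    simp [hall i, mul_comm]
  rcases ReflThree.unit_cases (t 0) with e | e | e
  · exfalso
    have := hz (w 0)
    rw [e, zero_smul] at this
    exact hc (by rw [← hw.norm 0, ← z.2 (w 0), this, QuadraticMap.map_zero])
  · exact Or.inl (Subtype.ext (LinearEquiv.ext fun y => by rw [hz, e, one_smul]; rfl))
  · exact Or.inr (Subtype.ext (LinearEquiv.ext fun y => by rw [hz, e, neg_one_smul]; rfl))

theorem outside (hQ : PND Q) (hc : c ≠ 0) {w : V7} (hw : Q w = -c) : rf Q w ∉ classGroup Q c := by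
  intro hmem
  have hdc : ¬ IsSquare (-c / c) := by
    rw [ReflThree.div_square hc (neg_ne_zero.mpr hc)]
    revert hc; clear * -; revert c; decide
  have hall : classGroup Q c = ⊤ := by
    refine eq_top_iff.mpr fun g _ => ?_
    refine induction_on (motive := fun g => g ∈ classGroup Q c) hQ (two_ne ReflThree.two_ne_three) g
      (one_mem _) fun v g hv ih => mul_mem ?_ ih
    by_cases h : Q v = c
    · exact mem_cls hc h
    · have hv' : Q v = -c := by
        revert h hv hc; generalize Q v = a; clear * -; revert a c; decide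
      have := class_pair ReflThree.two_ne_three hQ
        (Or.inr (Or.inl (by rw [finrank_fintype_fun_eq_card]; simp))) hc (neg_ne_zero.mpr hc) hdc hv' hw
      have h2 := mul_mem this hmem
      rwa [mul_assoc, rf_mul_self, mul_one] at h2
  have hi := index_classGroup ReflThree.two_ne_three hQ (by rw [finrank_fintype_fun_eq_card]; simp)
    (Or.inr (Or.inl (by rw [finrank_fintype_fun_eq_card]; simp))) hc
  rw [hall, Subgroup.index_top] at hi
  exact absurd hi (by norm_num)

theorem inv_eq_self (x : F3) : x⁻¹ = x := by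
  rcases ReflThree.unit_cases x with h | h | h
  · rw [h]; exact inv_zero
  · rw [h]; exact inv_one
  · rw [h]; exact inv_eq_of_mul_eq_one_right (by decide)

/-- reflections in the sum and difference of orthogonal vectors of equal norm -/
theorem plane {n : F3} (hn : n ≠ 0) {a b : V7} (ha : Q a = n) (hb : Q b = n) (h : polar Q a b = 0) :
    rf Q (a - b) * rf Q (a + b) = rf Q a * rf Q b := by
  have hp : Q (a + b) = 2 * n := by rw [QuadraticMap.map_add (⇑Q), ha, hb, h]; ring
  have hm : Q (a - b) = 2 * n := by rw [map_sub_two, ha, hb, h]; ring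
  refine Subtype.ext (LinearEquiv.ext fun x => ?_)
  show (rf Q (a - b)).1 ((rf Q (a + b)).1 x) = (rf Q a).1 ((rf Q b).1 x)
  rw [ReflThree.rf_apply hp, ReflThree.rf_apply hm, ReflThree.rf_apply hb, ReflThree.rf_apply ha]
  simp only [polar_add_left, polar_sub_left, polar_sub_right, polar_smul_right, polar_add_right,
    polar_self_two, smul_eq_mul, polar_comm (⇑Q) b a, h, ha, hb]
  generalize polar Q a x = A, polar Q b x = B
  match_scalars
  all_goals
    simp only [inv_eq_self]
    all_goals
      revert hn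
      clear * -
      revert n A B
      decide

theorem rf_fix {v x : V7} (h : polar Q v x = 0) : (rf Q v).1 x = x := refl_fix h

theorem rf_neg {v : V7} (hv : Q v ≠ 0) : (rf Q v).1 v = -v := refl_self hv

theorem rf_commute {v u : V7} (h : polar Q v u = 0) : Commute (rf Q v) (rf Q u) := by
  have := conj_rf (rf Q v) u
  rw [rf_fix h] at this
  exact mul_inv_eq_iff_eq_mul.mp this

theorem commute_mul_sq {A B : ↥(Iso Q)} (h : Commute A B) (hA : A * A = 1) (hB : B * B = 1) :
    A * B * (A * B) = 1 := by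
  rw [h.eq, mul_assoc, ← mul_assoc A B A, h.eq, mul_assoc B A A, hA, mul_one, hB]

/-- an element moved into a product of order six modulo the scalars -/
theorem six_false {y : ↥(Iso Q)} (hy : (y ^ 2 = 1 ∨ y ^ 2 = negId Q) ∨ y ^ 3 = 1 ∨ y ^ 3 = negId Q)
    {A B : ↥(Iso Q)} (e : y = A * B) (hAB : Commute A B) (hA2 : A * A = 1) (hA : A ≠ 1) (hB3 : B ^ 3 = 1)
    (hB : B ≠ 1) {t : V7} (ht0 : t ≠ 0) (ht : A.1 t = t) : False := by
  subst e
  have h2 : (A * B) ^ 2 = B ^ 2 := by rw [hAB.mul_pow, pow_two A, hA2, one_mul]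
  have h3 : (A * B) ^ 3 = A := by rw [hAB.mul_pow, hB3, mul_one, pow_succ, pow_two, hA2, one_mul]
  rw [h2, h3] at hy
  rcases hy with (h | h) | h | h
  · apply hB
    calc B = B ^ 3 := by rw [pow_succ, h, one_mul]
      _ = 1 := hB3
  · apply negId_ne (Q := Q)
    calc negId Q = (negId Q) ^ 3 := by rw [pow_succ, pow_two, negId_sq, one_mul]
      _ = (B ^ 3) ^ 2 := by rw [← h, ← pow_mul, ← pow_mul]
      _ = 1 := by rw [hB3, one_pow]
  · exact hA h
  · apply ht0
    rw [h, negId_apply] at ht
    exact neg_fixed_free ReflThree.two_ne_three ht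

/-- the eigenspace -/
noncomputable def eig (g : ↥(Iso Q)) (ε : F3) : Submodule F3 V7 :=
  LinearMap.ker ((g.1 : V7 →ₗ[F3] V7) - ε • LinearMap.id)

theorem mem_eig {g : ↥(Iso Q)} {ε : F3} {x : V7} : x ∈ eig g ε ↔ g.1 x = ε • x := by
  simp [eig, sub_eq_zero]

section Invol

variable {g : ↥(Iso Q)}

theorem eig_split (hg2 : g * g = 1) (x : V7) :
    ∃ a ∈ eig g 1, ∃ b ∈ eig g (-1), x = a + b := by
  have hgg : g.1 (g.1 x) = x := congrArg (fun h : ↥(Iso Q) => h.1 x) hg2
  refine ⟨-(x + g.1 x), mem_eig.mpr ?_, -(x - g.1 x), mem_eig.mpr ?_, ?_⟩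
  · rw [map_neg, map_add, hgg, one_smul, add_comm]
  · rw [map_neg, map_sub, hgg, neg_one_smul, neg_sub, neg_neg]
  · funext i
    simp only [Pi.add_apply, Pi.neg_apply, Pi.sub_apply]
    generalize x i = p, g.1 x i = q
    revert p q; clear * -; decide

theorem eig_orth {a b : V7} (ha : a ∈ eig g 1) (hb : b ∈ eig g (-1)) : polar Q a b = 0 := by
  have h := polar_iso g.2 a b
  rw [mem_eig.mp ha, mem_eig.mp hb, one_smul, neg_one_smul, polar_neg_right] at h
  exact neg_fixed_free ReflThree.two_ne_three h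

theorem eig_orth' {ε : F3} (hε : ε = 1 ∨ ε = -1) {a b : V7} (ha : a ∈ eig g ε) (hb : b ∈ eig g (-ε)) :
    polar Q a b = 0 := by
  rcases hε with rfl | rfl
  · exact eig_orth ha hb
  · rw [polar_comm]; rw [neg_neg] at hb; exact eig_orth hb ha

theorem eig_nd (hQ : PND Q) (hg2 : g * g = 1) {ε : F3} (hε : ε = 1 ∨ ε = -1) : NDSub Q (eig g ε) := by
  intro x hx h
  refine hQ x fun y => ?_
  obtain ⟨a, ha, b, hb, rfl⟩ := eig_split hg2 y
  rw [polar_add_right]
  rcases hε with rfl | rfl
  · rw [h a ha, eig_orth hx hb, add_zero]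
  · rw [h b hb, polar_comm (⇑Q) x a, eig_orth ha hx, add_zero]

theorem eig_dims (hg2 : g * g = 1) :
    finrank F3 (eig g 1) + finrank F3 (eig g (-1)) = 7 := by
  have hsup : eig g 1 ⊔ eig g (-1) = ⊤ := eq_top_iff.mpr fun x _ => by
    obtain ⟨a, ha, b, hb, rfl⟩ := eig_split hg2 x
    exact Submodule.add_mem_sup ha hb
  have hinf : eig g 1 ⊓ eig g (-1) = ⊥ := by
    refine eq_bot_iff.mpr fun x hx => ?_
    obtain ⟨h1, h2⟩ := Submodule.mem_inf.mp hx
    have e := (mem_eig.mp h1).symm.trans (mem_eig.mp h2)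
    rw [one_smul, neg_one_smul] at e
    exact (Submodule.mem_bot _).mpr (neg_fixed_free ReflThree.two_ne_three e.symm)
  have := Submodule.finrank_sup_add_finrank_inf_eq (eig g 1) (eig g (-1))
  rw [hsup, hinf, finrank_top, finrank_bot, finrank_fintype_fun_eq_card] at this
  simpa using this.symm

/-- the products of two conjugates have order at most three modulo the scalars -/
def PairOK (Q : QuadraticForm F3 V7) (c : F3) (g : ↥(Iso Q)) : Prop :=
  ∀ h ∈ classGroup Q c, ((g * (h * g * h⁻¹)) ^ 2 = 1 ∨ (g * (h * g * h⁻¹)) ^ 2 = negId Q) ∨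
    (g * (h * g * h⁻¹)) ^ 3 = 1 ∨ (g * (h * g * h⁻¹)) ^ 3 = negId Q

theorem rf_image {ε : F3} (hε : ε = 1 ∨ ε = -1) {a b : V7} (ha : a ∈ eig g ε) (hb : b ∈ eig g (-ε)) :
    rf Q (g.1 (a + b)) = rf Q (a - b) := by
  rw [map_add, mem_eig.mp ha, mem_eig.mp hb, neg_smul, ← sub_eq_add_neg, ← smul_sub]
  exact rf_smul (by rcases hε with rfl | rfl <;> decide) _

/-- both eigenspaces cannot be large -/
theorem two_spaces (hQ : PND Q) (hc : c ≠ 0) (hg2 : g * g = 1) (hp : PairOK Q c g) {ε : F3}
    (hε : ε = 1 ∨ ε = -1) (hB : 4 ≤ finrank F3 (eig g ε)) (hS : 2 ≤ finrank F3 (eig g (-ε))) : False := by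
  have hε' : -ε = 1 ∨ -ε = -1 := by rcases hε with rfl | rfl <;> simp
  have hBnd := eig_nd hQ hg2 hε
  have hSnd := eig_nd hQ hg2 hε'
  have hnc : -c ≠ 0 := neg_ne_zero.mpr hc
  obtain ⟨s, hs, hsc⟩ := nd_value hSnd hS (-c)
  obtain ⟨S1, hS1, hS1d, hS1m⟩ := nd_step hSnd hs (hsc ▸ hnc)
  obtain ⟨s', hs'1, hs'0⟩ := nd_nonsing hS1 (by omega)
  obtain ⟨hs', hss'⟩ := (hS1m s').mp hs'1
  obtain ⟨p, hp0, hpc⟩ := nd_value hBnd (by omega) (-c)
  obtain ⟨B1, hB1, hB1d, hB1m⟩ := nd_step hBnd hp0 (hpc ▸ hnc)
  obtain ⟨q, hq1, hqc⟩ := nd_value hB1 (by omega) c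
  obtain ⟨hq, hpq⟩ := (hB1m q).mp hq1
  obtain ⟨B2, hB2, hB2d, hB2m⟩ := nd_step hB1 hq1 (hqc ▸ hc)
  obtain ⟨r, hr2, hrc⟩ := nd_value hB2 (by omega) (-c)
  obtain ⟨hr1, hqr⟩ := (hB2m r).mp hr2
  obtain ⟨hr, hpr⟩ := (hB1m r).mp hr1
  set t := q + r with ht
  have htm : t ∈ eig g ε := add_mem hq hr
  have hpt : polar Q p t = 0 := by rw [ht, polar_add_right, hpq, hpr, add_zero]
  have htt : Q t = 0 := by rw [ht, QuadraticMap.map_add (⇑Q), hqc, hrc, hqr]; ring
  have htq : polar Q t q = 2 * c := by
    rw [ht, polar_add_left, polar_self_two, hqc, polar_comm (⇑Q) r q, hqr, add_zero]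
  have h2c : (2 * c : F3) ≠ 0 := mul_ne_zero ReflThree.two_ne_three hc
  have ht0 : t ≠ 0 := fun e => h2c (by rw [← htq, e, polar_zero_left])
  clear_value t
  -- orthogonality between the two spaces
  have hor : ∀ {x y : V7}, x ∈ eig g ε → y ∈ eig g (-ε) → polar Q x y = 0 := fun hx hy => eig_orth' hε hx hy
  have hor' : ∀ {x y : V7}, x ∈ eig g ε → y ∈ eig g (-ε) → polar Q y x = 0 := fun hx hy => by
    rw [polar_comm]; exact eig_orth' hε hx hy
  -- the product after one conjugation
  have core : ∀ a b : V7, a ∈ eig g ε → b ∈ eig g (-ε) → Q (a + b) = c →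
      ((rf Q p * rf Q s * (rf Q (a - b) * rf Q (a + b))) ^ 2 = 1 ∨
        (rf Q p * rf Q s * (rf Q (a - b) * rf Q (a + b))) ^ 2 = negId Q) ∨
      (rf Q p * rf Q s * (rf Q (a - b) * rf Q (a + b))) ^ 3 = 1 ∨
        (rf Q p * rf Q s * (rf Q (a - b) * rf Q (a + b))) ^ 3 = negId Q := by
    intro a b ha hb hab
    have hv : Q (p + s) = c := by
      rw [QuadraticMap.map_add (⇑Q), hpc, hsc, hor hp0 hs]
      clear * -; revert c; decide
    set h := rf Q (p + s) * rf Q (a + b)
    have key := hp h (mul_mem (mem_cls hc hv) (mem_cls hc hab))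
    have hgi : g⁻¹ = g := inv_eq_of_mul_eq_one_right hg2
    have e : g * (h * g * h⁻¹) =
        rf Q (p - s) * rf Q (a - b) * rf Q (a + b) * rf Q (p + s) := by
      calc g * (h * g * h⁻¹) = (g * rf Q (p + s) * g⁻¹) * (g * rf Q (a + b) * g⁻¹) * (g * g) *
            h⁻¹ := by rw [hg2, hgi]; simp only [h, mul_assoc, hg2, ← mul_assoc g g, one_mul, mul_one]
        _ = _ := by
          rw [hg2, conj_rf, conj_rf, rf_image hε hp0 hs, rf_image hε ha hb, mul_one]
          simp only [h, _root_.mul_inv_rev, rf_inv, mul_assoc]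
    have e2 : rf Q p * rf Q s * (rf Q (a - b) * rf Q (a + b)) =
        rf Q (p + s) * (g * (h * g * h⁻¹)) * (rf Q (p + s))⁻¹ := by
      have hpl : rf Q (p + s) * rf Q (p - s) = rf Q p * rf Q s := by
        have := plane hnc hpc (show Q (-s) = -c by rw [QuadraticMap.map_neg, hsc])
          (show polar Q p (-s) = 0 by rw [polar_neg_right, hor hp0 hs, neg_zero])
        rwa [sub_neg_eq_add, ← sub_eq_add_neg,
          show rf Q (-s) = rf Q s by rw [← neg_one_smul F3 s]; exact rf_smul (by decide) _] at this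
      rw [e, rf_inv, ← hpl]
      simp only [mul_assoc, rf_mul_self, mul_one]
    have hN : rf Q (p + s) * negId Q * (rf Q (p + s))⁻¹ = negId Q :=
      mul_inv_eq_iff_eq_mul.mpr (negId_comm _).eq.symm
    rw [e2, conj_pow, conj_pow]
    rcases key with (k | k) | k | k <;> rw [k]
    · exact Or.inl (Or.inl (by group))
    · exact Or.inl (Or.inr hN)
    · exact Or.inr (Or.inl (by group))
    · exact Or.inr (Or.inr hN)
  have hsp : polar Q p s = 0 := hor hp0 hs
  have hps_ne : ∀ {A : ↥(Iso Q)}, A.1 s = -s → A ≠ 1 := fun hA e => by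
    rw [e] at hA
    have := neg_fixed_free ReflThree.two_ne_three (show -s = s from hA.symm)
    exact hnc (by rw [← hsc, this, QuadraticMap.map_zero])
  have hcases : Q s' = -c ∨ Q s' = c := by
    revert hs'0 hc; generalize Q s' = n; clear * -; revert n c; decide
  rcases hcases with hn | hn
  · -- two anisotropic orthogonal vectors of the other norm
    set w1 := p + t with hw1
    have hw1m : w1 ∈ eig g ε := add_mem hp0 htm
    have hw1c : Q w1 = -c := by rw [hw1, QuadraticMap.map_add (⇑Q), hpc, htt, hpt]; ring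
    have hpw : polar Q p w1 = 2 * -c := by rw [hw1, polar_add_right, hpt, add_zero, polar_self_two, hpc]
    have hu : Q (w1 + s') = c := by
      rw [QuadraticMap.map_add (⇑Q), hw1c, hn, hor hw1m hs']
      clear * -; revert c; decide
    have hk := core w1 s' hw1m hs' hu
    rw [plane hnc hw1c hn (hor hw1m hs')] at hk
    have e : rf Q p * rf Q s * (rf Q w1 * rf Q s') = rf Q s * rf Q s' * (rf Q p * rf Q w1) := by
      have c1 : Commute (rf Q s * rf Q s') (rf Q p) :=
        (rf_commute (hor' hp0 hs)).mul_left (rf_commute (hor' hp0 hs'))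
      have c2 := rf_commute (Q := Q) (hor' hw1m hs)
      calc rf Q p * rf Q s * (rf Q w1 * rf Q s') = rf Q p * (rf Q w1 * (rf Q s * rf Q s')) := by
            rw [← mul_assoc (rf Q w1), ← c2.eq]; simp only [mul_assoc]
        _ = _ := by
            have c3 : Commute (rf Q w1) (rf Q s * rf Q s') :=
              (rf_commute (hor hw1m hs)).mul_right (rf_commute (hor hw1m hs'))
            rw [c3.eq, ← mul_assoc, ← c1.eq, mul_assoc]
    refine six_false hk e ?_ ?_ ?_ ?_ ?_ ht0 ?_
    · exact ((rf_commute (hor' hp0 hs)).mul_left (rf_commute (hor' hp0 hs'))).mul_right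
        ((rf_commute (hor' hw1m hs)).mul_left (rf_commute (hor' hw1m hs')))
    · exact commute_mul_sq (rf_commute hss') (rf_mul_self _) (rf_mul_self _)
    · refine hps_ne ?_
      show (rf Q s).1 ((rf Q s').1 s) = -s
      rw [rf_fix (show polar Q s' s = 0 by rw [polar_comm]; exact hss'), rf_neg (hsc ▸ hnc)]
    · rcases ReflThree.pair_order hpc hw1c with k | k
      · exfalso
        rcases ReflThree.comm_or_braid hpc hw1c with ⟨h0, -⟩ | ⟨-, hbr⟩
        · rw [hpw] at h0
          exact mul_ne_zero (inv_ne_zero hnc) (mul_ne_zero ReflThree.two_ne_three hnc) h0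
        · have hA := rf_mul_self (Q := Q) p
          have hB := rf_mul_self (Q := Q) w1
          have hne : rf Q p ≠ rf Q w1 := by
            intro he
            have h1 : (rf Q p).1 q = (rf Q w1).1 q := by rw [he]
            rw [rf_fix hpq, ReflThree.rf_apply hw1c, hw1, polar_add_left, hpq, htq, zero_add, eq_comm,
              sub_eq_self, smul_eq_zero] at h1
            exact h1.elim (mul_ne_zero (inv_ne_zero hnc) h2c) fun h0 => hnc (by
              rw [← hw1c, hw1, h0, QuadraticMap.map_zero])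
          apply hne
          generalize rf Q p = A, rf Q w1 = B at k hA hB hbr
          rw [pow_two] at k
          have h1 : A * B * A * B = 1 := by rw [mul_assoc (A * B)]; exact k
          rw [hbr, mul_assoc (B * A), hB, mul_one] at h1
          calc A = B * B * A := by rw [hB, one_mul]
            _ = B := by rw [mul_assoc, h1, mul_one]
      · exact k
    · intro he
      have h1 : (rf Q p).1 ((rf Q w1).1 q) = q :=
        congrArg (fun h : ↥(Iso Q) => h.1 q) he
      rw [ReflThree.rf_apply hw1c, hw1, polar_add_left, hpq, htq, zero_add] at h1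
      rw [map_sub, rf_fix hpq, map_smul, map_add, rf_neg (hpc ▸ hnc), rf_fix hpt, sub_eq_self,
        smul_eq_zero] at h1
      refine h1.elim (mul_ne_zero (inv_ne_zero hnc) h2c) fun h0 => ?_
      have := congrArg (fun z => polar Q z q) h0
      rw [polar_add_left, polar_neg_left, hpq, neg_zero, zero_add, htq, polar_zero_left] at this
      exact h2c this
    · show (rf Q s).1 ((rf Q s').1 t) = t
      rw [rf_fix (hor' htm hs'), rf_fix (hor' htm hs)]
  · -- a vector of the reflection norm
    have hu : Q (t + s') = c := by rw [QuadraticMap.map_add (⇑Q), htt, hn, hor htm hs']; ring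
    have hu' : Q (t - s') = c := by rw [map_sub_two, htt, hn, hor htm hs']; ring
    have hk := core t s' htm hs' hu
    have ho : ∀ z, polar Q z t = 0 → polar Q z s' = 0 →
        polar Q z (t - s') = 0 ∧ polar Q z (t + s') = 0 := fun z h1 h2 => by
      rw [polar_sub_right, polar_add_right, h1, h2, sub_zero, add_zero]; exact ⟨rfl, rfl⟩
    have hP := ho p hpt (hor hp0 hs')
    have hS' := ho s (hor' htm hs) hss'
    have hpp : polar Q (t - s') (t + s') ≠ 0 := by
      rw [polar_sub_left, polar_add_right, polar_add_right, polar_self_two, polar_self_two, htt, hn,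
        hor htm hs', hor' htm hs']
      intro e
      apply h2c
      linear_combination -e
    refine six_false hk rfl ?_ ?_ ?_ ?_ ?_ ht0 ?_
    · exact ((rf_commute hP.1).mul_left (rf_commute hS'.1)).mul_right
        ((rf_commute hP.2).mul_left (rf_commute hS'.2))
    · exact commute_mul_sq (rf_commute hsp) (rf_mul_self _) (rf_mul_self _)
    · refine hps_ne ?_
      show (rf Q p).1 ((rf Q s).1 s) = -s
      rw [rf_neg (hsc ▸ hnc), map_neg, rf_fix hsp]
    · rcases ReflThree.comm_or_braid hu' hu with ⟨h0, -⟩ | ⟨-, hbr⟩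
      · exact absurd h0 (mul_ne_zero (inv_ne_zero hc) hpp)
      · have hA := rf_mul_self (Q := Q) (t - s')
        have hB := rf_mul_self (Q := Q) (t + s')
        generalize rf Q (t - s') = A, rf Q (t + s') = B at hA hB hbr
        calc (A * B) ^ 3 = (A * B * A) * (B * A * B) := by
              rw [pow_succ, pow_two]; simp only [mul_assoc]
          _ = B * A * (B * B) * A * B := by rw [hbr]; simp only [mul_assoc]
          _ = 1 := by rw [hB, mul_one, mul_assoc B, hA, mul_one, hB]
    · intro he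
      have he' : rf Q (t - s') = rf Q (t + s') := by
        rw [mul_eq_one_iff_eq_inv, rf_inv] at he; exact he
      have h1 : (rf Q (t - s')).1 q = (rf Q (t + s')).1 q := by rw [he']
      have hsq : polar Q s' q = 0 := hor' hq hs'
      rw [ReflThree.rf_apply hu', ReflThree.rf_apply hu, polar_sub_left, polar_add_left, htq, hsq,
        sub_zero, add_zero, sub_right_inj] at h1
      have h3 := smul_right_injective V7 (mul_ne_zero (inv_ne_zero hc) h2c) h1
      have h4 : -s' = s' := by
        have := congrArg (fun z => z - t) h3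
        simpa using this
      exact hs'0 (by rw [neg_fixed_free ReflThree.two_ne_three h4, QuadraticMap.map_zero])
    · show (rf Q p).1 ((rf Q s).1 t) = t
      rw [rf_fix (hor' htm hs), rf_fix hpt]

theorem one_space (hQ : PND Q) (hg2 : g * g = 1) {ε : F3} (hε : ε = 1 ∨ ε = -1)
    (h1 : finrank F3 (eig g ε) = 1) : ∃ w, Q w ≠ 0 ∧ g = if ε = 1 then negId Q * rf Q w else rf Q w := by
  obtain ⟨w, hw, hw0⟩ := nd_nonsing (eig_nd hQ hg2 hε) h1.ge
  refine ⟨w, hw0, ?_⟩
  have hw0' : (⟨w, hw⟩ : eig g ε) ≠ 0 := fun e => hw0 (by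
    rw [show w = 0 from congrArg Subtype.val e, QuadraticMap.map_zero])
  have hspan : ∀ a ∈ eig g ε, ∃ k : F3, a = k • w := fun a ha => by
    obtain ⟨k, hk⟩ := (finrank_eq_one_iff_of_nonzero' _ hw0').mp h1 ⟨a, ha⟩
    exact ⟨k, (congrArg Subtype.val hk).symm⟩
  refine Subtype.ext (LinearEquiv.ext fun x => ?_)
  obtain ⟨a, ha, b, hb, rfl⟩ := eig_split hg2 x
  rw [map_add, mem_eig.mp ha, mem_eig.mp hb, one_smul, neg_one_smul]
  rcases hε with rfl | rfl
  · obtain ⟨k, rfl⟩ := hspan a ha
    rw [if_pos rfl]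
    show _ = -((rf Q w).1 (k • w + b))
    rw [map_add, map_smul, rf_neg hw0, rf_fix (eig_orth hw hb)]
    simp [add_comm]
  · obtain ⟨k, rfl⟩ := hspan b hb
    rw [if_neg (by decide)]
    rw [map_add, map_smul, rf_neg hw0, rf_fix (by rw [polar_comm]; exact eig_orth ha hw)]
    simp

end Invol

theorem sq_ne_negI (g : ↥(Iso Q)) : g * g ≠ negId Q := by
  intro h
  have h1 : LinearMap.det ((g.1 : V7 →ₗ[F3] V7).comp (g.1 : V7 →ₗ[F3] V7)) =
      LinearMap.det ((-1 : F3) • (LinearMap.id : V7 →ₗ[F3] V7)) := by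
    congr 1
    refine LinearMap.ext fun x => ?_
    show g.1 (g.1 x) = (-1 : F3) • x
    rw [neg_one_smul]
    exact congrArg (fun k : ↥(Iso Q) => k.1 x) h
  rw [LinearMap.det_comp, LinearMap.det_smul, LinearMap.det_id, finrank_fintype_fun_eq_card,
    Fintype.card_fin, mul_one] at h1
  generalize LinearMap.det (g.1 : V7 →ₗ[F3] V7) = a at h1
  revert h1; clear * -; revert a; decide

/-- the only involutions modulo the scalars with products of order at most three are the reflections -/
theorem class_cases (hQ : PND Q) (hc : c ≠ 0) (hw' : ∃ w, Base Q c w) {g : ↥(Iso Q)}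
    (hg : g ∈ classGroup Q c) (h2 : g * g = 1 ∨ g * g = negId Q) (hne : g ≠ 1) (hne' : g ≠ negId Q)
    (hp : PairOK Q c g) : ∃ v, Q v = c ∧ (g = rf Q v ∨ g = negId Q * rf Q v) := by
  have hg2 : g * g = 1 := h2.resolve_right (sq_ne_negI g)
  have hd := eig_dims hg2
  have hall : ∀ {ε : F3}, finrank F3 (eig g ε) = 7 → ∀ x, g.1 x = ε • x := by
    intro ε h x
    have htop : eig g ε = ⊤ :=
      Submodule.eq_top_of_finrank_eq (by rw [h, finrank_fintype_fun_eq_card]; rfl)
    exact mem_eig.mp (htop ▸ Submodule.mem_top)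
  have hone : ∀ {ε : F3}, (ε = 1 ∨ ε = -1) → finrank F3 (eig g ε) = 1 →
      ∃ v, Q v = c ∧ (g = rf Q v ∨ g = negId Q * rf Q v) := by
    intro ε hε h1
    obtain ⟨w, hw0, hgw⟩ := one_space hQ hg2 hε h1
    refine ⟨w, ?_, by split_ifs at hgw <;> [exact Or.inr hgw; exact Or.inl hgw]⟩
    by_contra hwc
    have hwn : Q w = -c := by
      revert hw0 hwc hc; generalize Q w = a; clear * -; revert a c; decide
    refine outside hQ hc hwn ?_
    split_ifs at hgw
    · have := mul_mem (negId_mem hw' hc) hg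
      rwa [hgw, ← mul_assoc, negId_sq, one_mul] at this
    · rwa [← hgw]
  rcases Nat.lt_or_ge (finrank F3 (eig g 1)) 2 with ha | ha
  · rcases (show finrank F3 (eig g 1) = 0 ∨ finrank F3 (eig g 1) = 1 by omega) with e | e
    · refine absurd (Subtype.ext (LinearEquiv.ext fun x => ?_)) hne'
      rw [hall (ε := -1) (by omega), neg_one_smul]; rfl
    · exact hone (Or.inl rfl) e
  rcases Nat.lt_or_ge (finrank F3 (eig g (-1))) 2 with hb | hb
  · rcases (show finrank F3 (eig g (-1)) = 0 ∨ finrank F3 (eig g (-1)) = 1 by omega) with e | e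
    · refine absurd (Subtype.ext (LinearEquiv.ext fun x => ?_)) hne
      rw [hall (ε := 1) (by omega), one_smul]; rfl
    · exact hone (Or.inr rfl) e
  exfalso
  rcases Nat.lt_or_ge (finrank F3 (eig g 1)) 4 with h | h
  · exact two_spaces hQ hc hg2 hp (ε := -1) (Or.inr rfl) (by omega) (by rw [neg_neg]; exact ha)
  · exact two_spaces hQ hc hg2 hp (ε := 1) (Or.inl rfl) h hb

end Cfsg.Agent.Spor.M23Rel.Seven
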