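import Cfsg.Agent.Lib.Spor.M23RelSymData

/-!
Checks for the element of order 7 in Fi23.
-/

set_option autoImplicit false
set_option maxRecDepth 100000
set_option Elab.async false

namespace Cfsg.Agent.Spor.M23Rel.Sym

open Cfsg.Agent.Spor.CC Cfsg.Agent.Spor.M23Rel.Cyc Data

theorem cov7_0 : rangeOK (covOK cfg7.w 8 cfg7.nr cfg7.tab cfg7.repT) 0 8000 = true := by decide +kernel

theorem cov7_8000 : rangeOK (covOK cfg7.w 8 cfg7.nr cfg7.tab cfg7.repT) 8000 8000 = true := by decide +kernel

theorem mov7 : rangeOK cfg7.movOK 0 cfg7.nr = true := by decide +kernel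

theorem desc7 : cfg7.descOK [] cfg7.levels = true := by decide +kernel

theorem trans7 : cfg7.transOK = true := by decide +kernel

theorem basic7 : cfg7.basicOK = true := by decide +kernel

end Cfsg.Agent.Spor.M23Rel.Sym
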