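import Cfsg.Agent.Lib.Spor.M23RelSymData

/-!
Checks for the element of order 7 in Fi23.
-/

set_option autoImplicit false
set_option maxRecDepth 100000
set_option Elab.async false

namespace Cfsg.Agent.Spor.M23Rel.Sym

open Cfsg.Agent.Spor.CC Cfsg.Agent.Spor.M23Rel.Cyc Data

theorem reps7_0 : rangeOK cfg7.repOK 0 2267 = true := by decide +kernel

end Cfsg.Agent.Spor.M23Rel.Sym
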