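import Cfsg.Agent.Lib.Spor.M23RelSymDefs
import Cfsg.Agent.Lib.Spor.M23RelCycMain

/-!
Centralisers of elements of prime order with several fixed members in Fi23: the symmetric group on the fixed
members.
-/

set_option autoImplicit false
set_option maxRecDepth 100000
set_option linter.unusedSectionVars false

namespace Cfsg.Agent.Spor.M23Rel.Sym

open Cfsg.Agent.Spor.CC Cfsg.Agent.Spor.Fi23Cert Cfsg.Agent.Spor.M23Rel.Cyc
open Cfsg.Agent.Spor.Fi23Cert.Outer (IsPt)
open Cfg (alike)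

variable {C : Cfg}

/-- the element -/
noncomputable def xel (C : Cfg) : pres.Grp := el C.w

/-- the fixed members -/
noncomputable def Fx (C : Cfg) : Set pres.Grp := {u | ∃ f ∈ C.fx, u = dp f}

/-- the subgroup of the fixed members -/
noncomputable def Sg (C : Cfg) : Subgroup pres.Grp := Subgroup.closure (Fx C)

/-- an element permuting the fixed points -/
def Good (C : Cfg) (g : pres.Grp) : Prop := ∀ f ∈ C.fx, act g f ∈ C.fx

variable (ok : C.Ok)

include ok in
theorem basic : (∀ x ∈ C.w, x < 10) ∧ (∀ f ∈ C.fx, ptOK f = true ∧ e10 C.w f = f) ∧ C.fx.Nodup ∧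
    ptOK C.c = true ∧ C.like C.c = true ∧ e10 C.w C.c ≠ C.c ∧ (∀ e ∈ C.fpat, e.1 ∈ C.fx) ∧
    chainGen (((List.range C.P).map fun j => xp C.w j C.c) ++ C.fx) C.gen = true ∧
    C.q < 31671 ∧ e10 C.w C.q ≠ C.q ∧ (∀ f ∈ C.fx, e10 (mw f) C.q = C.q) ∧
    lettersOK 10 [powW C.P C.w] = true ∧
    fixOK RepA.rows 10 [powW C.P C.w] (RepA.levels.map Orb.b) = true := by
  have h := ok.basic
  simp only [Cfg.basicOK, Bool.and_eq_true, List.all_eq_true, decide_eq_true_eq, Bool.not_eq_true',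
    List.any_eq_true] at h
  obtain ⟨⟨⟨⟨⟨⟨⟨⟨⟨⟨⟨⟨h1, h2⟩, h3⟩, h4⟩, h5⟩, h6⟩, h7⟩, h8⟩, h9⟩, h10⟩, h11⟩, h12⟩, h13⟩ := h
  refine ⟨fun x hx => Nat.le_of_ble_eq_true (h1 x hx), fun f hf => ⟨(h2 f hf).1, Nat.eq_of_beq_eq_true (h2 f hf).2⟩,
    h3, h4, h5, Nat.ne_of_beq_eq_false h6, fun e he => ?_, h8, Nat.le_of_ble_eq_true h9,
    Nat.ne_of_beq_eq_false h10, fun f hf => Nat.eq_of_beq_eq_true (h11 f hf), h12, h13⟩
  obtain ⟨f, hf, hfe⟩ := h7 e he
  exact Nat.eq_of_beq_eq_true hfe ▸ hf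

include ok in
theorem fx_pt {f : ℕ} (hf : f ∈ C.fx) : ptOK f = true ∧ f < 31671 :=
  ⟨((basic ok).2.1 f hf).1, (ptOK_spec ((basic ok).2.1 f hf).1).1⟩

include ok in
theorem order_x : orderOf (xel C) = C.P := by
  obtain ⟨hw, -, -, hc, -, hmove, -, -, -, -, -, hl, hf⟩ := basic ok
  exact order_prime ok.prime (ptOK_spec hc).1 hw hmove hl hf

include ok in
theorem fixed_iff {p : ℕ} (hp : p < 31671) : act (xel C) p = p ↔ p ∈ C.fx := by
  obtain ⟨hw, hfx, -⟩ := basic ok
  rw [xel, act_el hw hp]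
  constructor
  · intro hfix
    obtain ⟨j, i, hi, hj⟩ := Cyc.cover hw ok.cov hp
    have hxp : ∀ j, xp C.w j p = p := fun j => by
      induction j with
      | zero => rfl
      | succ j ih => show e10 C.w (xp C.w j p) = p; rw [ih, hfix]
    rw [hxp] at hj
    have h := ok.mov i hi
    simp only [Cfg.movOK, ← hj, hfix, Nat.beq_refl, Bool.not_true, Bool.false_or, List.any_eq_true] at h
    obtain ⟨f, hf, hfp⟩ := h
    exact Nat.eq_of_beq_eq_true hfp ▸ hf
  · exact fun h => (hfx p h).2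

include ok in
theorem comm_x_iff {u : pres.Grp} (hu : u ∈ conjugatesOf Below.tA) : Commute u (xel C) ↔ u ∈ Fx C := by
  constructor
  · intro h
    obtain ⟨p, hp⟩ := Outer.exists_pt hu
    have hm := (fixed_iff ok hp.lt).mp (fix_of_commute hp h.symm)
    exact ⟨p, hm, hp.inj (isPt_dp (fx_pt ok hm).1)⟩
  · rintro ⟨f, hf, rfl⟩
    exact (fixed_commute (isPt_dp (fx_pt ok hf).1) ((fixed_iff ok (fx_pt ok hf).2).mpr hf)).symm

include ok in
theorem fx_class {u : pres.Grp} (hu : u ∈ Fx C) : u ∈ conjugatesOf Below.tA := by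
  obtain ⟨f, hf, rfl⟩ := hu
  obtain ⟨g, e, -⟩ := isPt_dp (fx_pt ok hf).1
  exact isConj_iff.mpr ⟨g, e.symm⟩

include ok in
theorem sg_comm_x {s : pres.Grp} (hs : s ∈ Sg C) : Commute s (xel C) := by
  have hle : Sg C ≤ Subgroup.centralizer ({xel C} : Set pres.Grp) := by
    rw [Sg, Subgroup.closure_le]
    exact fun u hu => Subgroup.mem_centralizer_singleton_iff.mpr ((comm_x_iff ok (fx_class ok hu)).mpr hu).eq
  exact Subgroup.mem_centralizer_singleton_iff.mp (hle hs)

include ok in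
theorem good_of_norm {g : pres.Grp} (h : g⁻¹ * xel C * g ∈ Subgroup.zpowers (xel C)) : Good C g := by
  intro f hf
  have hlt := (fx_pt ok hf).2
  obtain ⟨m, hm⟩ : ∃ m : ℕ, xel C ^ m = g⁻¹ * xel C * g := by
    haveI := order.1
    exact Submonoid.mem_powers_iff _ _ |>.mp (mem_powers_iff_mem_zpowers.mpr h)
  refine (fixed_iff ok (act_lt g hlt)).mp ?_
  rw [← act_mul _ _ hlt, show xel C * g = g * xel C ^ m by rw [hm]; group, act_mul _ _ hlt]
  congr 1
  induction m with
  | zero => rw [pow_zero, act_one hlt]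
  | succ m _ =>
    have : ∀ k : ℕ, act (xel C ^ k) f = f := fun k => by
      induction k with
      | zero => rw [pow_zero, act_one hlt]
      | succ k ih => rw [pow_succ', act_mul _ _ hlt, ih, (fixed_iff ok hlt).mpr hf]
    exact this _

include ok in
theorem good_of_commute {g : pres.Grp} (h : Commute g (xel C)) : Good C g :=
  good_of_norm ok (by rw [show g⁻¹ * xel C * g = xel C by rw [mul_assoc, ← h.eq, inv_mul_cancel_left]]
                      exact Subgroup.mem_zpowers _)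

theorem el_memW (l : List ℕ) : el (memW l) = (l.map dp).prod := by
  induction l with
  | nil => rfl
  | cons a l ih =>
    rw [List.map_cons, List.prod_cons, ← ih]
    simp [memW, el, dp, List.map_append, List.prod_append]

theorem alike_iff {prev : List ℕ} {f f' : ℕ} : alike prev f f' = true ↔ ∀ p ∈ prev, rel p f = rel p f' := by
  simp only [alike, List.all_eq_true]
  exact ⟨fun h p hp => Nat.eq_of_beq_eq_true (h p hp), fun h p hp => by rw [h p hp]; exact Nat.beq_refl _⟩

include ok in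
theorem descent : ∀ (L : List (ℕ × List (List ℕ))) (prev : List ℕ), C.descOK prev L = true →
    ∀ g : pres.Grp, Good C g → (∀ p ∈ prev, p ∈ C.fx ∧ act g p = p) →
      ∃ s ∈ Sg C, ∀ f ∈ C.fx, act (s * g) f = f
  | [], prev, h, g, hg, hprev => by
    simp only [Cfg.descOK, List.all_eq_true, Bool.or_eq_true, Bool.not_eq_true'] at h
    refine ⟨1, one_mem _, fun f hf => ?_⟩
    rw [one_mul]
    refine Nat.eq_of_beq_eq_true ((h (act g f) (hg f hf) f hf).resolve_left ?_)
    rw [Bool.not_eq_false, alike_iff]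
    intro p hp
    obtain ⟨hpf, hgp⟩ := hprev p hp
    conv_lhs => rw [← hgp]
    exact rel_act (fx_pt ok hpf).1 (hgp.symm ▸ (fx_pt ok hpf).1) (fx_pt ok hf).2
  | (a, ws) :: rest, prev, h, g, hg, hprev => by
    simp only [Cfg.descOK, Bool.and_eq_true, List.all_eq_true, List.any_eq_true, Bool.or_eq_true,
      Bool.not_eq_true'] at h
    obtain ⟨⟨⟨⟨a', ha', haa⟩, hws⟩, hstep⟩, hrest⟩ := h
    obtain rfl : a' = a := Nat.eq_of_beq_eq_true haa
    obtain ⟨ps, hps, he, hfix⟩ := (hstep (act g a') (hg a' ha')).resolve_left (by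
      rw [Bool.not_eq_false, alike_iff]
      intro p hp
      obtain ⟨hpf, hgp⟩ := hprev p hp
      conv_lhs => rw [← hgp]
      exact rel_act (fx_pt ok hpf).1 (hgp.symm ▸ (fx_pt ok hpf).1) (fx_pt ok ha').2)
    have hmemfx : ∀ p ∈ ps, p ∈ C.fx := fun p hp => by
      obtain ⟨f, hf, hfp⟩ := hws ps hps p hp
      exact Nat.eq_of_beq_eq_true hfp ▸ hf
    have hl : ∀ x ∈ memW ps, x < 10 := by
      intro x hx
      obtain ⟨l, hl, hxl⟩ := List.mem_flatten.mp hx
      obtain ⟨p, hp, rfl⟩ := List.mem_map.mp hl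
      exact mw_lt (fx_pt ok (hmemfx p hp)).1 x hxl
    set u := el (memW ps) with hu
    have huS : u ∈ Sg C := by
      rw [hu, el_memW]
      refine list_prod_mem fun y hy => ?_
      obtain ⟨p, hp, rfl⟩ := List.mem_map.mp hy
      exact Subgroup.subset_closure ⟨p, hmemfx p hp, rfl⟩
    have hinv : ∀ v w : ℕ, v < 31671 → act u v = w → act u⁻¹ w = v := fun v w hv e => by
      rw [← e, ← act_mul _ _ hv, inv_mul_cancel, act_one hv]
    have hug : Good C (u⁻¹ * g) := fun f hf => by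
      rw [act_mul _ _ (fx_pt ok hf).2]
      exact good_of_commute ok (sg_comm_x ok huS).inv_left _ (hg f hf)
    obtain ⟨s, hs, hsf⟩ := descent rest (a' :: prev) hrest (u⁻¹ * g) hug (fun p hp => by
      rcases List.mem_cons.mp hp with rfl | hp
      · refine ⟨ha', ?_⟩
        rw [act_mul _ _ (fx_pt ok ha').2]
        exact hinv _ _ (fx_pt ok ha').2 ((act_el hl (fx_pt ok ha').2).trans (Nat.eq_of_beq_eq_true he))
      · obtain ⟨hpf, hgp⟩ := hprev p hp
        refine ⟨hpf, ?_⟩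
        rw [act_mul _ _ (fx_pt ok hpf).2, hgp]
        exact hinv _ _ (fx_pt ok hpf).2 ((act_el hl (fx_pt ok hpf).2).trans (Nat.eq_of_beq_eq_true (hfix p hp))))
    exact ⟨s * u⁻¹, mul_mem hs (inv_mem huS), fun f hf => by rw [mul_assoc]; exact hsf f hf⟩

include ok in
theorem exists_sg {g : pres.Grp} (hg : Good C g) : ∃ s ∈ Sg C, ∀ f ∈ C.fx, act (s * g) f = f :=
  descent ok C.levels [] ok.desc g hg (fun p hp => absurd hp List.not_mem_nil)

include ok in
theorem kernel {g : pres.Grp} (hg : Commute g (xel C)) (hfix : ∀ f ∈ C.fx, act g f = f) :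
    g ∈ Subgroup.zpowers (xel C) := by
  obtain ⟨hw, hfx, -, hc, hlike, -, hfp, hgen, -⟩ := basic ok
  have hclt := (ptOK_spec hc).1
  obtain ⟨j, i, hi, hj⟩ := Cyc.cover hw ok.cov (act_lt g hclt)
  set g' := xel C ^ j * g with hg'
  have hg'c : act g' C.c = fld C.repT 16 i := by
    rw [hg', act_mul _ _ hclt, xel, ← (xp_act hw (act_lt g hclt) j).1, hj]
  have hcm : Commute g' (xel C) := ((Commute.refl _).pow_left j).mul_left hg
  have hfix' : ∀ f ∈ C.fx, act g' f = f := fun f hf => by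
    rw [hg', act_mul _ _ (fx_pt ok hf).2, hfix f hf, xel, ← (xp_act hw (fx_pt ok hf).2 j).1]
    induction j with
    | zero => rfl
    | succ j _ =>
      have : ∀ k, xp C.w k f = f := fun k => by
        induction k with
        | zero => rfl
        | succ k ih => show e10 C.w (xp C.w k f) = f; rw [ih, (hfx f hf).2]
      exact this _
  have hr := ok.reps i hi
  simp only [Cfg.repOK, Bool.or_eq_true, Bool.and_eq_true, Bool.not_eq_true'] at hr
  have hfc : act g' C.c = C.c := by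
    rcases hr with h | ⟨hpt, hno⟩
    · rw [hg'c]; exact Nat.eq_of_beq_eq_true h
    · exfalso
      have hpt' : ptOK (act g' C.c) = true := hg'c ▸ hpt
      have : C.like (fld C.repT 16 i) = true := by
        simp only [Cfg.like, hasPat, Bool.and_eq_true, List.all_eq_true] at hlike ⊢
        refine ⟨fun e he => ?_, fun e he => ?_⟩
        · rw [← hg'c, ← act_comm hw hcm hclt, rel_act hc hpt' (xp_act hw hclt e.1).2]
          exact hlike.1 e he
        · rw [← hg'c]
          conv in rel _ _ => rw [← hfix' e.1 (hfp e he)]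
          rw [rel_act hc hpt' (fx_pt ok (hfp e he)).2]
          exact hlike.2 e he
      rw [hno] at this
      cases this
  have h1 : g' = 1 := fix_trivial hgen fun k hk => by
    rcases List.mem_append.mp hk with hk | hk
    · obtain ⟨n, -, rfl⟩ := List.mem_map.mp hk
      exact ⟨(xp_act hw hclt n).2, by rw [act_comm hw hcm hclt, hfc]⟩
    · exact ⟨(fx_pt ok hk).2, hfix' k hk⟩
  rw [hg', mul_eq_one_iff_eq_inv] at h1
  have : g = (xel C ^ j)⁻¹ := eq_inv_of_mul_eq_one_right (mul_eq_one_iff_eq_inv.mpr h1)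
  rw [this]
  exact inv_mem (Subgroup.npow_mem_zpowers _ _)

include ok in
theorem sg_fix_q {s : pres.Grp} (hs : s ∈ Sg C) : act s C.q = C.q := by
  obtain ⟨-, hfx, -, -, -, -, -, -, hq, -, hqf, -⟩ := basic ok
  induction hs using Subgroup.closure_induction with
  | mem u hu =>
    obtain ⟨f, hf, rfl⟩ := hu
    rw [dp, act_el (mw_lt (hfx f hf).1) hq]
    exact hqf f hf
  | one => exact act_one hq
  | mul a b _ _ ha hb => rw [act_mul _ _ hq, hb, ha]
  | inv a _ ha =>
    have := congrArg (act a⁻¹) ha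
    rw [← act_mul _ _ hq, inv_mul_cancel, act_one hq] at this
    exact this.symm

include ok in
theorem sg_meet {s : pres.Grp} (hs : s ∈ Sg C) (hz : s ∈ Subgroup.zpowers (xel C)) : s = 1 := by
  haveI := order.1
  by_contra hne
  obtain ⟨hw, -, -, -, -, -, -, -, hq, hmove, -⟩ := basic ok
  have hle : Subgroup.zpowers (xel C) ≤ Sg C := by
    refine le_trans (le_of_eq (Subgroup.eq_of_le_of_card_ge (Subgroup.zpowers_le.mpr hz) ?_).symm)
      (Subgroup.zpowers_le.mpr hs)
    rw [Nat.card_zpowers, Nat.card_zpowers, order_x ok]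
    have h1 : orderOf s ∣ C.P := by
      have := Subgroup.card_dvd_of_le (Subgroup.zpowers_le.mpr hz)
      rwa [Nat.card_zpowers, Nat.card_zpowers, order_x ok] at this
    rcases (Nat.dvd_prime ok.prime).mp h1 with h | h
    · exact absurd (orderOf_eq_one_iff.mp h) hne
    · exact h.ge
  refine hmove ?_
  rw [← act_el hw hq]
  exact sg_fix_q ok (hle (Subgroup.mem_zpowers _))

include ok in
theorem sg_faithful {s : pres.Grp} (hs : s ∈ Sg C) (hfix : ∀ f ∈ C.fx, act s f = f) : s = 1 :=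
  sg_meet ok hs (kernel ok (sg_comm_x ok hs) hfix)

/-- the pairs of points -/
abbrev Two (n : ℕ) := {s : Finset (Fin n) // s.card = 2}

/-- the action on the pairs -/
noncomputable def onTwo (n : ℕ) : Equiv.Perm (Fin n) →* Equiv.Perm (Two n) where
  toFun σ := (Equiv.finsetCongr σ).subtypeEquiv fun s => by simp
  map_one' := Equiv.ext fun s => Subtype.ext (by simp [Equiv.Perm.one_def])
  map_mul' σ τ := Equiv.ext fun s => Subtype.ext (by simp [Finset.map_map]; rfl)

theorem onTwo_val {n : ℕ} (σ : Equiv.Perm (Fin n)) (s : Two n) :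
    ((onTwo n σ s : Two n) : Finset (Fin n)) = s.1.map σ.toEmbedding := rfl

theorem onTwo_injective {n : ℕ} (hn : 3 ≤ n) : Function.Injective (onTwo n) := by
  rw [injective_iff_map_eq_one]
  intro σ h
  ext a
  obtain ⟨b, hb⟩ : ∃ b : Fin n, b ≠ a := by
    haveI : Nontrivial (Fin n) := Fin.nontrivial_iff_two_le.mpr (by omega)
    exact exists_ne a
  obtain ⟨c, hca, hcb⟩ : ∃ c : Fin n, c ≠ a ∧ c ≠ b := by
    by_contra hno
    push Not at hno
    have : (Finset.univ : Finset (Fin n)) ⊆ {a, b} := fun x _ => by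
      simp only [Finset.mem_insert, Finset.mem_singleton]
      by_cases hx : x = a
      · exact Or.inl hx
      · exact Or.inr (hno x hx)
    have := (Finset.card_le_card this).trans (Finset.card_le_two)
    rw [Finset.card_univ, Fintype.card_fin] at this
    omega
  have key : ∀ u : Fin n, u ≠ a → σ a = a ∨ σ a = u := fun u hu => by
    have h1 := congrArg (fun π : Equiv.Perm (Two n) => (π ⟨{a, u}, Finset.card_pair (Ne.symm hu)⟩ : Two n).1) h
    simp only [onTwo_val, Equiv.Perm.one_apply] at h1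
    have : σ a ∈ ({a, u} : Finset (Fin n)) := h1 ▸ Finset.mem_map_of_mem _ (Finset.mem_insert_self a {u})
    simpa using this
  rcases key b hb with h1 | h1
  · exact congrArg Fin.val h1
  · rcases key c hca with h2 | h2
    · exact congrArg Fin.val h2
    · exact absurd (h2.symm.trans h1) hcb

include ok in
theorem trans_data : C.fx.length = C.pairs.length ∧ (∀ i < C.pairs.length, (C.pr i).1 < (C.pr i).2 ∧ (C.pr i).2 < C.n) ∧
    (∀ a < C.n, ∀ b < C.n, a < b → ∃ i < C.pairs.length, C.pr i = (a, b)) ∧ C.pairs.Nodup ∧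
    ∀ i < C.fx.length, ∀ j < C.fx.length, ∃ k < C.fx.length,
      e10 (mw (C.fx.getD i 0)) (C.fx.getD j 0) = C.fx.getD k 0 ∧
      (((C.pr k).1 = C.swp i (C.pr j).1 ∧ (C.pr k).2 = C.swp i (C.pr j).2) ∨
        ((C.pr k).2 = C.swp i (C.pr j).1 ∧ (C.pr k).1 = C.swp i (C.pr j).2)) := by
  have h := ok.trans
  simp only [Cfg.transOK, Bool.and_eq_true, List.all_eq_true, List.any_eq_true, List.mem_range, Bool.or_eq_true,
    Bool.not_eq_true', decide_eq_true_eq] at h
  obtain ⟨⟨⟨⟨h1, h2⟩, h3⟩, h4⟩, h5⟩ := h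
  refine ⟨Nat.eq_of_beq_eq_true h1, fun i hi => ?_, fun a ha b hb hab => ?_, h4, fun i hi j hj => ?_⟩
  · have := h2 (C.pr i) (by rw [Cfg.pr, List.getD_eq_getElem _ _ hi]; exact List.getElem_mem hi)
    exact ⟨Nat.le_of_ble_eq_true this.1, Nat.le_of_ble_eq_true this.2⟩
  · obtain ⟨e, he, e1, e2⟩ := (h3 a ha b hb).resolve_left (by
      rw [Bool.not_eq_false]; exact Nat.ble_eq_true_of_le hab)
    obtain ⟨i, hi, rfl⟩ := List.mem_iff_getElem.mp he
    exact ⟨i, hi, by rw [Cfg.pr, List.getD_eq_getElem _ _ hi]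
                     exact Prod.ext (Nat.eq_of_beq_eq_true e1) (Nat.eq_of_beq_eq_true e2)⟩
  · obtain ⟨k, hk, he, hc⟩ := h5 i hi j hj
    exact ⟨k, hk, Nat.eq_of_beq_eq_true he,
      hc.imp (fun h => ⟨Nat.eq_of_beq_eq_true h.1, Nat.eq_of_beq_eq_true h.2⟩)
        (fun h => ⟨Nat.eq_of_beq_eq_true h.1, Nat.eq_of_beq_eq_true h.2⟩)⟩

/-- the pair of a fixed point, in the symmetric group -/
noncomputable def twoOf (i : Fin C.fx.length) : Two C.n :=
  have h := (trans_data ok).2.1 i ((trans_data ok).1 ▸ i.2)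
  ⟨{⟨(C.pr i).1, lt_trans h.1 h.2⟩, ⟨(C.pr i).2, h.2⟩},
    Finset.card_pair (fun e => absurd (congrArg Fin.val e) h.1.ne)⟩

theorem twoOf_bijective : Function.Bijective (twoOf ok) := by
  obtain ⟨hlen, hlt, hall, hnd, -⟩ := trans_data ok
  constructor
  · intro i j h
    have hi : (i : ℕ) < C.pairs.length := hlen ▸ i.2
    have hj : (j : ℕ) < C.pairs.length := hlen ▸ j.2
    have hv := congrArg Subtype.val h
    simp only [twoOf] at hv
    have m : ∀ x : Fin C.n, x ∈ ({⟨(C.pr i).1, lt_trans (hlt i hi).1 (hlt i hi).2⟩, ⟨(C.pr i).2, (hlt i hi).2⟩} : Finset (Fin C.n)) ↔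
        x ∈ ({⟨(C.pr j).1, lt_trans (hlt j hj).1 (hlt j hj).2⟩, ⟨(C.pr j).2, (hlt j hj).2⟩} : Finset (Fin C.n)) := fun x => by rw [hv]
    have a1 := (m ⟨(C.pr i).1, lt_trans (hlt i hi).1 (hlt i hi).2⟩).mp (by simp)
    have a2 := (m ⟨(C.pr i).2, (hlt i hi).2⟩).mp (by simp)
    simp only [Finset.mem_insert, Finset.mem_singleton, Fin.ext_iff] at a1 a2
    have hp : C.pr i = C.pr j := by
      have o1 := (hlt i hi).1
      have o2 := (hlt j hj).1
      apply Prod.ext <;> omega
    rw [Cfg.pr, Cfg.pr, List.getD_eq_getElem _ _ hi, List.getD_eq_getElem _ _ hj] at hp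
    exact Fin.ext (hnd.getElem_inj_iff.mp hp)
  · rintro ⟨s, hs⟩
    obtain ⟨a, b, hab, rfl⟩ := Finset.card_eq_two.mp hs
    rcases lt_or_gt_of_ne hab with hl | hl
    · obtain ⟨i, hi, he⟩ := hall a a.2 b b.2 hl
      refine ⟨⟨i, hlen.symm ▸ hi⟩, Subtype.ext ?_⟩
      simp [twoOf, he]
    · obtain ⟨i, hi, he⟩ := hall b b.2 a a.2 hl
      refine ⟨⟨i, hlen.symm ▸ hi⟩, Subtype.ext ?_⟩
      simp [twoOf, he, Finset.pair_comm]

/-- the fixed points and the pairs -/
noncomputable def fxTwo : {f // f ∈ C.fx} ≃ Two C.n :=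
  ((basic ok).2.2.1.getEquiv C.fx).symm.trans (Equiv.ofBijective _ (twoOf_bijective ok))

/-- the action on the fixed points -/
noncomputable def onFx : Sg C →* Equiv.Perm {f // f ∈ C.fx} where
  toFun s :=
    { toFun := fun f => ⟨act (s : pres.Grp) f, good_of_commute ok (sg_comm_x ok s.2) f f.2⟩
      invFun := fun f => ⟨act (s : pres.Grp)⁻¹ f, good_of_commute ok (sg_comm_x ok s.2).inv_left f f.2⟩
      left_inv := fun f => Subtype.ext (by
        show act (s : pres.Grp)⁻¹ (act (s : pres.Grp) f) = f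
        rw [← act_mul _ _ (fx_pt ok f.2).2, inv_mul_cancel, act_one (fx_pt ok f.2).2])
      right_inv := fun f => Subtype.ext (by
        show act (s : pres.Grp) (act (s : pres.Grp)⁻¹ f) = f
        rw [← act_mul _ _ (fx_pt ok f.2).2, mul_inv_cancel, act_one (fx_pt ok f.2).2]) }
  map_one' := Equiv.ext fun f => Subtype.ext (act_one (fx_pt ok f.2).2)
  map_mul' s t := Equiv.ext fun f => Subtype.ext (act_mul _ _ (fx_pt ok f.2).2)

/-- the action of the subgroup on the pairs -/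
noncomputable def sgTwo : Sg C →* Equiv.Perm (Two C.n) :=
  ((fxTwo ok).permCongrHom).toMonoidHom.comp (onFx ok)

theorem sgTwo_injective : Function.Injective (sgTwo ok) := by
  refine (fxTwo ok).permCongrHom.injective.comp ?_
  rw [injective_iff_map_eq_one]
  intro s h
  exact Subtype.ext (sg_faithful ok s.2 fun f hf =>
    congrArg (fun π : Equiv.Perm {f // f ∈ C.fx} => ((π ⟨f, hf⟩ : {f // f ∈ C.fx}) : ℕ)) h)

theorem sgTwo_member {i : ℕ} (hi : i < C.fx.length) (h : dp (C.fx.getD i 0) ∈ Sg C) :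
    ∃ a b : Fin C.n, C.pr i = ((a : ℕ), (b : ℕ)) ∧ sgTwo ok ⟨_, h⟩ = onTwo C.n (Equiv.swap a b) := by
  obtain ⟨hlen, hlt, -, -, htr⟩ := trans_data ok
  have hli := hlt i (hlen ▸ hi)
  refine ⟨⟨(C.pr i).1, lt_trans hli.1 hli.2⟩, ⟨(C.pr i).2, hli.2⟩, rfl, Equiv.ext fun t => ?_⟩
  obtain ⟨j, rfl⟩ := (twoOf_bijective ok).2 t
  obtain ⟨k, hk, he, hcase⟩ := htr i hi j j.2
  have hkp : (C.fx.getD k 0) = C.fx[k] := List.getD_eq_getElem _ _ hk
  have hL : sgTwo ok ⟨_, h⟩ (twoOf ok j) = twoOf ok ⟨k, hk⟩ := by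
    show fxTwo ok (onFx ok ⟨_, h⟩ ((fxTwo ok).symm (twoOf ok j))) = _
    have h1 : (fxTwo ok).symm (twoOf ok j) = ((basic ok).2.2.1.getEquiv C.fx) j := by
      rw [Equiv.symm_apply_eq]; simp [fxTwo]
    have h2 : onFx ok ⟨_, h⟩ (((basic ok).2.2.1.getEquiv C.fx) j) = ((basic ok).2.2.1.getEquiv C.fx) ⟨k, hk⟩ := by
      apply Subtype.ext
      show act (dp (C.fx.getD i 0)) (C.fx.get j) = C.fx.get ⟨k, hk⟩
      have hjm : C.fx.getD (j : ℕ) 0 = C.fx.get j := List.getD_eq_getElem _ _ j.2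
      have him : C.fx.getD i 0 ∈ C.fx := by rw [List.getD_eq_getElem _ _ hi]; exact List.getElem_mem hi
      rw [dp, act_el (mw_lt (fx_pt ok him).1) (fx_pt ok (List.get_mem _ _)).2, ← hjm, he, hkp]
      rfl
    rw [h1, h2]
    simp [fxTwo]
  rw [hL]
  apply Subtype.ext
  rw [onTwo_val]
  simp only [twoOf, Finset.map_insert, Finset.map_singleton, Equiv.toEmbedding_apply]
  have sw : ∀ (u : ℕ) (hu : u < C.n), (Equiv.swap (⟨(C.pr i).1, lt_trans hli.1 hli.2⟩ : Fin C.n) ⟨(C.pr i).2, hli.2⟩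
      ⟨u, hu⟩ : ℕ) = C.swp i u := fun u hu => by
    rw [Equiv.swap_apply_def, Cfg.swp]
    by_cases h1 : u = (C.pr i).1
    · simp [h1]
    · have b1 : Nat.beq u (C.pr i).1 = false := by
        rw [← Bool.not_eq_true]; exact fun e => h1 (Nat.eq_of_beq_eq_true e)
      by_cases h2 : u = (C.pr i).2
      · subst h2; simp [b1, h1, Fin.ext_iff]
      · have b2 : Nat.beq u (C.pr i).2 = false := by
          rw [← Bool.not_eq_true]; exact fun e => h2 (Nat.eq_of_beq_eq_true e)
        simp [b1, b2, h1, h2, Fin.ext_iff]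
  have hlj := hlt j (hlen ▸ j.2)
  rcases hcase with ⟨e1, e2⟩ | ⟨e1, e2⟩
  · congr 1
    · exact Fin.ext (e1.trans (sw _ _).symm)
    · rw [Finset.singleton_inj]; exact Fin.ext (e2.trans (sw _ _).symm)
  · rw [Finset.pair_comm]
    congr 1
    · exact Fin.ext (e1.trans (sw _ _).symm)
    · rw [Finset.singleton_inj]; exact Fin.ext (e2.trans (sw _ _).symm)

include ok in
theorem exists_iso (hn : 3 ≤ C.n) :
    ∃ φ : ↥(Sg C) ≃* Equiv.Perm (Fin C.n), ∀ s, onTwo C.n (φ s) = sgTwo ok s := by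
  obtain ⟨hlen, hlt, hall, -, -⟩ := trans_data ok
  have hmem : ∀ i, i < C.fx.length → dp (C.fx.getD i 0) ∈ Sg C := fun i hi =>
    Subgroup.subset_closure ⟨_, by rw [List.getD_eq_getElem _ _ hi]; exact List.getElem_mem hi, rfl⟩
  have hrange : (sgTwo ok).range = (onTwo C.n).range := by
    apply le_antisymm
    · rintro _ ⟨⟨s, hs⟩, rfl⟩
      have key : Sg C ≤ ((onTwo C.n).range.comap (sgTwo ok)).map (Sg C).subtype := by
        refine (Subgroup.closure_le _).mpr ?_
        rintro u ⟨f, hf, rfl⟩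
        obtain ⟨i, hi, rfl⟩ := List.mem_iff_getElem.mp hf
        obtain ⟨a, b, -, e⟩ := sgTwo_member ok hi (hmem i hi)
        refine ⟨⟨_, hmem i hi⟩, ⟨Equiv.swap a b, e.symm⟩, ?_⟩
        show dp (C.fx.getD i 0) = dp C.fx[i]
        rw [List.getD_eq_getElem _ _ hi]
      obtain ⟨t, ht, hte⟩ := key hs
      have : t = ⟨s, hs⟩ := Subtype.ext hte
      exact this ▸ ht
    · rw [MonoidHom.range_eq_map, Subgroup.map_le_iff_le_comap, ← Equiv.Perm.closure_isSwap, Subgroup.closure_le]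
      rintro σ ⟨a, b, hab, rfl⟩
      rcases lt_or_gt_of_ne hab with hl | hl
      · obtain ⟨i, hi, he⟩ := hall a a.2 b b.2 hl
        obtain ⟨a', b', hab', e⟩ := sgTwo_member ok (hlen.symm ▸ hi) (hmem i (hlen.symm ▸ hi))
        rw [he, Prod.mk.injEq] at hab'
        rw [← show a = a' from Fin.ext hab'.1, ← show b = b' from Fin.ext hab'.2] at e
        exact ⟨_, e⟩
      · obtain ⟨i, hi, he⟩ := hall b b.2 a a.2 hl
        obtain ⟨a', b', hab', e⟩ := sgTwo_member ok (hlen.symm ▸ hi) (hmem i (hlen.symm ▸ hi))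
        rw [he, Prod.mk.injEq] at hab'
        rw [← show b = a' from Fin.ext hab'.1, ← show a = b' from Fin.ext hab'.2, Equiv.swap_comm] at e
        exact ⟨_, e⟩
  refine ⟨((MonoidHom.ofInjective (sgTwo_injective ok)).trans (MulEquiv.subgroupCongr hrange)).trans
    (MonoidHom.ofInjective (onTwo_injective hn)).symm, fun s => ?_⟩
  have := (MonoidHom.ofInjective (onTwo_injective hn)).apply_symm_apply
    ((MulEquiv.subgroupCongr hrange) (MonoidHom.ofInjective (sgTwo_injective ok) s))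
  exact congrArg Subtype.val this

include ok in
theorem sg_iso (hn : 3 ≤ C.n) : Nonempty (↥(Sg C) ≃* Equiv.Perm (Fin C.n)) :=
  ⟨(exists_iso ok hn).choose⟩

include ok in
theorem cent_eq : Subgroup.centralizer ({xel C} : Set pres.Grp) = Subgroup.zpowers (xel C) ⊔ Sg C := by
  refine le_antisymm (fun g hg => ?_) (sup_le (Subgroup.zpowers_le.mpr ?_) fun s hs => ?_)
  · rw [Subgroup.mem_centralizer_singleton_iff] at hg
    obtain ⟨s, hs, hfix⟩ := exists_sg ok (good_of_commute ok hg)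
    have h := kernel ok ((sg_comm_x ok hs).mul_left hg) hfix
    have : g = s⁻¹ * (s * g) := by group
    rw [this]
    exact mul_mem (Subgroup.mem_sup_right (inv_mem hs)) (Subgroup.mem_sup_left h)
  · exact Subgroup.mem_centralizer_singleton_iff.mpr rfl
  · exact Subgroup.mem_centralizer_singleton_iff.mpr (sg_comm_x ok hs).eq

end Cfsg.Agent.Spor.M23Rel.Sym
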