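import Cfsg.Agent.Lib.Spor.M23RelCycDefs

/-!
Centralisers of elements of prime order with several fixed members in Fi23: checks.
-/

set_option autoImplicit false
set_option maxRecDepth 100000
set_option linter.unusedSectionVars false

namespace Cfsg.Agent.Spor.M23Rel.Sym

open Cfsg.Agent.Spor.CC Cfsg.Agent.Spor.Fi23Cert Cfsg.Agent.Spor.M23Rel.Cyc

/-- the data of an element -/
structure Cfg where
  /-- its order -/
  P : ℕ
  /-- the degree of the symmetric group on the fixed members -/
  n : ℕ
  /-- its word -/
  w : List ℕ
  /-- number of cycles -/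
  nr : ℕ
  /-- steps to the representatives -/
  tab : ℕ
  /-- representatives -/
  repT : ℕ
  /-- the fixed points -/
  fx : List ℕ
  /-- the pairs -/
  pairs : List (ℕ × ℕ)
  /-- a moved point -/
  c : ℕ
  /-- its relations along its cycle -/
  pat : List (ℕ × ℕ)
  /-- its relations to the fixed points -/
  fpat : List (ℕ × ℕ)
  /-- a moved point fixed by the fixed members -/
  q : ℕ
  /-- successive fixed points with elements reaching the points alike -/
  levels : List (ℕ × List (List ℕ))
  /-- generation -/
  gen : List (ℕ × ℕ × ℕ)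

/-- the word of a product of members -/
def memW (ps : List ℕ) : List ℕ := (ps.map mw).flatten

namespace Cfg
variable (C : Cfg)

/-- a fixed point is among the listed ones -/
noncomputable def movOK (i : ℕ) : Bool :=
  !(Nat.beq (e10 C.w (fld C.repT 16 i)) (fld C.repT 16 i)) || C.fx.any fun f => Nat.beq f (fld C.repT 16 i)

/-- the pattern of the moved point -/
noncomputable def like (r : ℕ) : Bool :=
  hasPat C.w C.pat r && C.fpat.all fun e => Nat.beq (rel r e.1) e.2

/-- one representative -/
noncomputable def repOK (i : ℕ) : Bool :=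
  Nat.beq (fld C.repT 16 i) C.c || (ptOK (fld C.repT 16 i) && !(C.like (fld C.repT 16 i)))

/-- two fixed points with the same relations to a list -/
noncomputable def alike (prev : List ℕ) (f f' : ℕ) : Bool := prev.all fun p => Nat.beq (rel p f) (rel p f')

/-- the successive levels -/
noncomputable def descOK : List ℕ → List (ℕ × List (List ℕ)) → Bool
  | prev, [] => C.fx.all fun f => C.fx.all fun f' => !(alike prev f f') || Nat.beq f f'
  | prev, (a, ws) :: rest =>
    (C.fx.any fun f => Nat.beq f a) && (ws.all fun ps => ps.all fun p => C.fx.any fun f => Nat.beq f p) &&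
      (C.fx.all fun f => !(alike prev f a) ||
        ws.any fun ps => Nat.beq (e10 (memW ps) a) f && prev.all fun p => Nat.beq (e10 (memW ps) p) p) &&
      descOK (a :: prev) rest

/-- the pair of an index -/
def pr (i : ℕ) : ℕ × ℕ := C.pairs.getD i (0, 0)

/-- exchange of two points -/
def swp (i u : ℕ) : ℕ := bif Nat.beq u (C.pr i).1 then (C.pr i).2 else bif Nat.beq u (C.pr i).2 then (C.pr i).1 else u

/-- the fixed members act as the transpositions of their pairs -/
noncomputable def transOK : Bool :=
  Nat.beq C.fx.length C.pairs.length &&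
  (C.pairs.all fun e => Nat.blt e.1 e.2 && Nat.blt e.2 C.n) &&
  ((List.range C.n).all fun a => (List.range C.n).all fun b => !(Nat.blt a b) || C.pairs.any fun e => Nat.beq e.1 a && Nat.beq e.2 b) &&
  decide C.pairs.Nodup &&
  ((List.range C.fx.length).all fun i => (List.range C.fx.length).all fun j => (List.range C.fx.length).any fun k =>
    Nat.beq (e10 (mw (C.fx.getD i 0)) (C.fx.getD j 0)) (C.fx.getD k 0) &&
      ((Nat.beq (C.pr k).1 (C.swp i (C.pr j).1) && Nat.beq (C.pr k).2 (C.swp i (C.pr j).2)) ||
        (Nat.beq (C.pr k).2 (C.swp i (C.pr j).1) && Nat.beq (C.pr k).1 (C.swp i (C.pr j).2))))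

/-- the elementary facts -/
noncomputable def basicOK : Bool :=
  C.w.all (fun x => Nat.blt x 10) && C.fx.all (fun f => ptOK f && Nat.beq (e10 C.w f) f) && decide C.fx.Nodup &&
    ptOK C.c && C.like C.c && !(Nat.beq (e10 C.w C.c) C.c) &&
    (C.fpat.all fun e => C.fx.any fun f => Nat.beq f e.1) &&
    chainGen (((List.range C.P).map fun j => xp C.w j C.c) ++ C.fx) C.gen &&
    Nat.blt C.q 31671 && !(Nat.beq (e10 C.w C.q) C.q) && C.fx.all (fun f => Nat.beq (e10 (mw f) C.q) C.q) &&
    lettersOK 10 [powW C.P C.w] && fixOK RepA.rows 10 [powW C.P C.w] (RepA.levels.map Orb.b)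

/-- all checks -/
structure Ok : Prop where
  prime : C.P.Prime
  cov : ∀ p < 31671, covOK C.w 8 C.nr C.tab C.repT p = true
  mov : ∀ i < C.nr, C.movOK i = true
  reps : ∀ i < C.nr, C.repOK i = true
  desc : C.descOK [] C.levels = true
  trans : C.transOK = true
  basic : C.basicOK = true

end Cfg

end Cfsg.Agent.Spor.M23Rel.Sym
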