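import Cfsg.Agent.Lib.Spor.M23RelSymMain
import Cfsg.Agent.Lib.Spor.M23RelSym7A
import Cfsg.Agent.Lib.Spor.M23RelSym7B
import Cfsg.Agent.Lib.Spor.M23RelSym7C
import Cfsg.Agent.Lib.Spor.M23RelSym7D
import Cfsg.Agent.Lib.Spor.M23RelSym5A
import Cfsg.Agent.Lib.Spor.M23RelSym5B
import Cfsg.Agent.Lib.Spor.M23RelSym5C
import Cfsg.Agent.Lib.Spor.M23RelSym5D
import Cfsg.Agent.Lib.Spor.M23RelSym5E

/-!
The two instances: elements of order seven and five in a group of type M(23).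
-/

set_option autoImplicit false
set_option maxRecDepth 100000
set_option linter.unusedSectionVars false

namespace Cfsg.Agent.Spor.M23Rel.Sym

open Cfsg.Agent.Spor.CC Cfsg.Agent.Spor.Fi23Cert Cfsg.Agent.Spor.M23Rel.Cyc Data

theorem sizes : cfg7.P = 7 ∧ cfg7.n = 5 ∧ cfg5.P = 5 ∧ cfg5.n = 7 ∧ cfg7.nr = 2267 + 2266 ∧
    cfg5.nr = 2200 + 2200 + 1951 := by decide +kernel

theorem ok7 : cfg7.Ok where
  prime := by rw [sizes.1]; norm_num
  cov := split31671 cov7_0 cov7_8000 cov7_16000 cov7_24000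
  mov i hi := all_range (p := cfg7.movOK) mov7 (Nat.zero_le _) (by omega)
  reps i hi := ((range_of_ok reps7_0).append (range_of_ok reps7_1)) i (Nat.zero_le _) (sizes.2.2.2.2.1 ▸ hi)
  desc := desc7
  trans := trans7
  basic := basic7

theorem ok5 : cfg5.Ok where
  prime := by rw [sizes.2.2.1]; norm_num
  cov := split31671 cov5_0 cov5_8000 cov5_16000 cov5_24000
  mov i hi := all_range (p := cfg5.movOK) mov5 (Nat.zero_le _) (by omega)
  reps i hi := (((range_of_ok reps5_0).append (range_of_ok reps5_1)).append (range_of_ok reps5_2)) i (Nat.zero_le _)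
    (sizes.2.2.2.2.2 ▸ hi)
  desc := desc5
  trans := trans5
  basic := basic5

variable {G : Type*} [Group G] [Finite G] {D : Set G}

theorem normalizer7 (hD : Cfsg.IsThreeTranspositionGroup D) (hprim : Cfsg.IsPrimitiveUnderConj D)
    (ht : Cfsg.IsOfTypeM23 G D) {X : Subgroup G} (hX : Nat.card X = 7) :
    ∃ F : Subgroup G, Nat.card ↥F = 42 ∧ X ≤ F ∧ F ⊓ Subgroup.centralizer (X : Set G) = X ∧
      F ⊓ Subgroup.closure (D ∩ (Subgroup.centralizer (X : Set G) : Set G)) = ⊥ ∧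
      (∀ x ∈ F, ∀ y ∈ Subgroup.closure (D ∩ (Subgroup.centralizer (X : Set G) : Set G)), x * y = y * x) ∧
      F ⊔ Subgroup.closure (D ∩ (Subgroup.centralizer (X : Set G) : Set G)) = Subgroup.normalizer (X : Set G) ∧
      Nonempty (↥(Subgroup.closure (D ∩ (Subgroup.centralizer (X : Set G) : Set G))) ≃* Equiv.Perm (Fin 5)) := by
  obtain ⟨e, he, hXe⟩ := iso_to (p := 7) (by norm_num) (by norm_num) (by norm_num) hD hprim ht
    ((order_x ok7).trans sizes.1) hX
  obtain ⟨F, S, h1, h2, h3, h4, h5, h6, ⟨φ⟩, h8, h9, -⟩ := main ok7 (by rw [sizes.2.1]; norm_num) e he hXe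
  subst h3
  refine ⟨F, ?_, h1, h2, h4, h5, h6, ⟨φ.trans (finCongr sizes.2.1).permCongrHom⟩⟩
  rw [sizes.1, sizes.2.1] at h8
  rw [sizes.2.1] at h9
  have hcard := Facts.card_G hD hprim ht
  obtain ⟨m, n, hm, hn, k3, k4⟩ := M22U.PrimeCount.card_normalizer (by norm_num : Nat.Prime 7)
    (by rw [hcard]; norm_num) (by rw [hcard]; norm_num) hX
  rw [k3, h8, show Nat.factorial 5 = 120 from rfl] at h9
  rw [hcard, h8, show Nat.factorial 5 = 120 from rfl] at k4
  have hm6 : m ≤ 6 := Nat.le_of_dvd (by norm_num) hm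
  interval_cases m <;> omega

end Cfsg.Agent.Spor.M23Rel.Sym
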