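import Cfsg.Agent.Lib.Spor.M23RelSymCore
import Cfsg.Agent.Lib.Spor.M23RelFixMain

/-!
Normalisers of elements of prime order with several fixed members in a group of type M(23).
-/

set_option autoImplicit false
set_option maxRecDepth 100000
set_option linter.unusedSectionVars false

namespace Cfsg.Agent.Spor.M23Rel.Sym

open Cfsg.Agent.Spor.CC Cfsg.Agent.Spor.Fi23Cert Cfsg.Agent.Spor.M23Rel.Cyc

variable {C : Cfg} (ok : C.Ok)

/-- the normaliser of the element -/
noncomputable def Nx (C : Cfg) : Subgroup pres.Grp :=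
  Subgroup.normalizer ((Subgroup.zpowers (xel C) : Subgroup pres.Grp) : Set pres.Grp)

/-- the Frobenius factor -/
noncomputable def Fp (C : Cfg) : Subgroup pres.Grp := Nx C ⊓ Subgroup.centralizer (Fx C)

theorem fp_comm {a s : pres.Grp} (ha : a ∈ Fp C) (hs : s ∈ Sg C) : a * s = s * a := by
  have hle : Sg C ≤ Subgroup.centralizer ({a} : Set pres.Grp) := by
    rw [Sg, Subgroup.closure_le]
    exact fun u hu => Subgroup.mem_centralizer_singleton_iff.mpr (Subgroup.mem_centralizer_iff.mp ha.2 u hu)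
  exact (Subgroup.mem_centralizer_singleton_iff.mp (hle hs)).symm

theorem cent_zpowers (x : pres.Grp) :
    Subgroup.centralizer ((Subgroup.zpowers x : Subgroup pres.Grp) : Set pres.Grp) = Subgroup.centralizer ({x} : Set pres.Grp) := by
  rw [Subgroup.zpowers_eq_closure, Subgroup.centralizer_closure]

include ok in
theorem sg_le_nx : Sg C ≤ Nx C := fun s hs =>
  haveI := order.1
  Cyc.cent_le_norm (Subgroup.zpowers (xel C)) (by
    rw [cent_zpowers]; exact Subgroup.mem_centralizer_singleton_iff.mpr (sg_comm_x ok hs).eq)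

include ok in
theorem fix_fx {g : pres.Grp} (hg : g ∈ Subgroup.centralizer (Fx C)) {f : ℕ} (hf : f ∈ C.fx) : act g f = f :=
  fix_of_commute (isPt_dp (fx_pt ok hf).1) (Subgroup.mem_centralizer_iff.mp hg _ ⟨f, hf, rfl⟩).symm

include ok in
theorem fp_sg : Fp C ⊓ Sg C = ⊥ := by
  rw [Subgroup.eq_bot_iff_forall]
  exact fun s hs => sg_faithful ok hs.2 fun f hf => fix_fx ok hs.1.2 hf

include ok in
theorem x_fp : xel C ∈ Fp C := by
  refine ⟨Subgroup.le_normalizer (Subgroup.mem_zpowers _), Subgroup.mem_centralizer_iff.mpr fun u hu => ?_⟩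
  exact ((comm_x_iff ok (fx_class ok hu)).mpr hu).eq

include ok in
theorem fp_cent : Fp C ⊓ Subgroup.centralizer ({xel C} : Set pres.Grp) = Subgroup.zpowers (xel C) := by
  refine le_antisymm (fun g hg => ?_) (le_inf (Subgroup.zpowers_le.mpr (x_fp ok))
    (Subgroup.zpowers_le.mpr (Subgroup.mem_centralizer_singleton_iff.mpr rfl)))
  exact kernel ok (Subgroup.mem_centralizer_singleton_iff.mp hg.2) fun f hf => fix_fx ok hg.1.2 hf

include ok in
theorem fp_sup : Fp C ⊔ Sg C = Nx C := by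
  refine le_antisymm (sup_le inf_le_left (sg_le_nx ok)) fun g hg => ?_
  obtain ⟨s, hs, hfix⟩ := exists_sg ok (good_of_norm ok
    ((Subgroup.mem_normalizer_iff''.mp hg _).mp (Subgroup.mem_zpowers _)))
  have : g = s⁻¹ * (s * g) := by group
  rw [this]
  refine mul_mem (Subgroup.mem_sup_right (inv_mem hs)) (Subgroup.mem_sup_left ⟨mul_mem (sg_le_nx ok hs) hg, ?_⟩)
  refine Subgroup.mem_centralizer_iff.mpr fun u hu => ?_
  obtain ⟨f, hf, rfl⟩ := hu
  exact (fixed_commute (isPt_dp (fx_pt ok hf).1) (hfix f hf)).symm.eq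

universe u
variable {G : Type u} [Group G] [Finite G] {D : Set G}

theorem centralizer_map (e : pres.Grp ≃* G) (A : Set pres.Grp) :
    Subgroup.centralizer (e '' A) = (Subgroup.centralizer A).map e.toMonoidHom := by
  ext g
  rw [Subgroup.mem_map_equiv, Subgroup.mem_centralizer_iff, Subgroup.mem_centralizer_iff]
  constructor
  · intro h a ha
    have := h _ ⟨a, ha, rfl⟩
    apply e.injective
    rw [map_mul, map_mul, e.apply_symm_apply]
    exact this
  · rintro h _ ⟨a, ha, rfl⟩
    have := congrArg e (h a ha)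
    rwa [map_mul, map_mul, e.apply_symm_apply] at this

include ok in
theorem main (hn : 3 ≤ C.n) (e : pres.Grp ≃* G) (he : e '' conjugatesOf Below.tA = D)
    {X : Subgroup G} (hXe : (Subgroup.zpowers (xel C)).map e.toMonoidHom = X) :
    ∃ F S : Subgroup G, X ≤ F ∧ F ⊓ Subgroup.centralizer (X : Set G) = X ∧
      Subgroup.closure (D ∩ (Subgroup.centralizer (X : Set G) : Set G)) = S ∧ F ⊓ S = ⊥ ∧
      (∀ x ∈ F, ∀ y ∈ S, x * y = y * x) ∧ F ⊔ S = Subgroup.normalizer (X : Set G) ∧
      Nonempty (↥S ≃* Equiv.Perm (Fin C.n)) ∧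
      Nat.card ↥(Subgroup.centralizer (X : Set G)) = C.P * C.n.factorial ∧
      Nat.card F * C.n.factorial = Nat.card ↥(Subgroup.normalizer (X : Set G)) ∧
      Subgroup.centralizer (X : Set G) = X ⊔ S := by
  subst hXe
  haveI := order.1
  set S := (Sg C).map e.toMonoidHom
  set F := (Fp C).map e.toMonoidHom
  set X := (Subgroup.zpowers (xel C)).map e.toMonoidHom with hX
  have hcent : Subgroup.centralizer (X : Set G) =
      (Subgroup.centralizer ({xel C} : Set pres.Grp)).map e.toMonoidHom := by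
    rw [← cent_zpowers, ← centralizer_map]; rfl
  have hsup : F ⊔ S = Subgroup.normalizer (X : Set G) := by
    rw [← Subgroup.map_sup, fp_sup ok, Nx, Subgroup.map_equiv_normalizer_eq]
  have hFS : F ⊓ S = ⊥ := by rw [← Subgroup.map_inf _ _ _ e.injective, fp_sg ok, Subgroup.map_bot]
  have hcomm : ∀ x ∈ F, ∀ y ∈ S, x * y = y * x := by
    rintro _ ⟨a, ha, rfl⟩ _ ⟨b, hb, rfl⟩
    rw [← map_mul, ← map_mul, fp_comm ha hb]
  obtain ⟨φ⟩ := sg_iso ok hn
  have φ' := (Subgroup.equivMapOfInjective (Sg C) e.toMonoidHom e.injective).symm.trans φ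
  have hScard : Nat.card S = C.n.factorial := by
    rw [Nat.card_congr φ'.toEquiv, Nat.card_perm, Nat.card_fin]
  have hnorm : ∀ {A : Subgroup G}, (∀ x ∈ A, ∀ y ∈ S, x * y = y * x) → S ≤ Subgroup.normalizer (A : Set G) := by
    intro A hA s hs
    refine Cyc.cent_le_norm A (Subgroup.mem_centralizer_iff.mpr fun x hx => hA x hx s hs)
  have hXF : X ≤ F := Subgroup.map_mono (Subgroup.zpowers_le.mpr (x_fp ok))
  have hC : Subgroup.centralizer (X : Set G) = X ⊔ S := by rw [hcent, cent_eq ok, Subgroup.map_sup]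
  refine ⟨F, S, hXF, ?_, ?_, hFS, hcomm, hsup, ⟨φ'⟩, ?_, ?_, hC⟩
  · rw [hcent, ← Subgroup.map_inf _ _ _ e.injective, fp_cent ok]
  · rw [hcent]
    show _ = (Sg C).map e.toMonoidHom
    rw [Sg, MonoidHom.map_closure]
    congr 1
    ext g
    constructor
    · rintro ⟨hg, hc⟩
      rw [← he] at hg
      obtain ⟨d, hd, rfl⟩ := hg
      obtain ⟨c, hc, hce⟩ := hc
      rw [e.injective hce] at hc
      exact ⟨d, (comm_x_iff ok hd).mp (Subgroup.mem_centralizer_singleton_iff.mp hc), rfl⟩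
    · rintro ⟨d, hd, rfl⟩
      exact ⟨by rw [← he]; exact ⟨_, fx_class ok hd, rfl⟩,
        ⟨_, Subgroup.mem_centralizer_singleton_iff.mpr ((comm_x_iff ok (fx_class ok hd)).mpr hd).eq, rfl⟩⟩
  · rw [hC, JComp.card_sup_disjoint (hnorm fun x hx => hcomm x (hXF hx)) (le_bot_iff.mp (hFS ▸ inf_le_inf_right _ hXF)),
      hScard, hX, ← Nat.card_congr (Subgroup.equivMapOfInjective _ _ e.injective).toEquiv, Nat.card_zpowers, order_x ok]
  · rw [← hsup, JComp.card_sup_disjoint (hnorm hcomm) hFS, hScard]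

end Cfsg.Agent.Spor.M23Rel.Sym
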