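import Cfsg.Agent.Lib.Spor.M23RelTwoOrbDefs

/-!
Orbits of the common centralizer of two non-commuting members of Fi23: checks (representatives, members commuting with the two).
-/

set_option autoImplicit false
set_option maxRecDepth 100000

namespace Cfsg.Agent.Spor.M23Rel.TwoOrb

open Cfsg.Agent.Spor.CC Cfsg.Agent.Spor.Fi23Cert Cfsg.Agent.Spor.M23Rel.Cyc

theorem roots_ok : ∀ i < 8, rootOK i = true := by decide +kernel

theorem tl_ok : tlOK = true := by decide +kernel

theorem near_ok : nearOK = true := by decide +kernel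

theorem near_len : near.length = 126 := by decide +kernel

theorem seven_ok : seven.Nodup ∧ seven.length = 7 ∧ (∀ p ∈ seven, p ∈ tl ∧ ptOK p = true) ∧
    ∀ p ∈ seven, ∀ q ∈ seven, e10 (mw p) q = q := by decide +kernel

theorem points_ok : e10 [7] 0 = 1 ∧ e10 Below.zW 1 = 8006 ∧ (∀ k ∈ ks, e10 [k] 0 = 0 ∧ e10 [k] 1 = 1) ∧
    r0 ∈ tl ∧ r0 ∈ roots ∧ (∀ x ∈ xW, x < 10) ∧ (∀ x ∈ bW, x < 10) ∧ (∀ k ∈ ks, k < 10) := by decide +kernel

end Cfsg.Agent.Spor.M23Rel.TwoOrb
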