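import Cfsg.Agent.Lib.Spor.M23RelTwoOrbDefs

/-!
Orbits of the common centralizer of two non-commuting members of Fi23: checks (adjacency B).
-/

set_option autoImplicit false
set_option maxRecDepth 100000

namespace Cfsg.Agent.Spor.M23Rel.TwoOrb

open Cfsg.Agent.Spor.CC Cfsg.Agent.Spor.Fi23Cert Cfsg.Agent.Spor.M23Rel.Cyc

theorem rowsB_ok : ∀ i < 21, rowOK (21 + i) = true := by decide +kernel

end Cfsg.Agent.Spor.M23Rel.TwoOrb
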