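import Cfsg.Agent.Lib.Spor.M23RelTwoOrbTab
import Cfsg.Agent.Lib.Spor.M23RelTwoOrbChecks
import Cfsg.Agent.Lib.Spor.M23RelTwoOrbClique
import Cfsg.Agent.Lib.Spor.M23RelTwoOrbRowsA
import Cfsg.Agent.Lib.Spor.M23RelTwoOrbRowsB
import Cfsg.Agent.Lib.Spor.M23RelTwoOrbRowsC
import Cfsg.Agent.Lib.Spor.M23RelTwoOrbRowsD
import Cfsg.Agent.Lib.Spor.M23RelTwoOrbRowsE
import Cfsg.Agent.Lib.Spor.M23RelTwoOrbRowsF
import Cfsg.Prelude.Def_FischerSpaces

/-!
Two non-commuting members of the presented Fi23: members inverting or centralising their product, and the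
largest set of commuting members centralising both.
-/

set_option autoImplicit false
set_option maxRecDepth 100000
set_option linter.unusedSectionVars false

namespace Cfsg.Agent.Spor.M23Rel.TwoOrb

open Cfsg.Agent.Spor.CC Cfsg.Agent.Spor.Fi23Cert Cfsg.Agent.Spor.Fi23Cert.Below
  Cfsg.Agent.Spor.M23Rel.Cyc
open Cfsg.Agent.Spor.Fi23Cert.Outer (IsPt)

theorem el_app (u v : List ℕ) : el (u ++ v) = el u * el v := by
  simp only [el, List.map_append, List.prod_append]

theorem el_one (k : ℕ) : el [k] = pres.gen k := by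
  simp only [el, List.map_cons, List.map_nil, List.prod_cons, List.prod_nil, mul_one]

theorem el_zW : el Below.zW = tA := rfl

/-- the second member -/
noncomputable def tB : pres.Grp := el bW

/-- the element of order three -/
noncomputable def xP : pres.Grp := el xW

theorem tB_eq : tB = pres.gen 7 * tA * (pres.gen 7)⁻¹ := by
  rw [tB, bW, el_app, el_app, el_one, el_zW, inv_eq_of_mul_eq_one_left (Pres.gen_sq pres_ok 7)]

theorem xP_eq : xP = tA * tB := by rw [xP, xW, el_app, el_zW]; rfl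

theorem isPt_A : IsPt tA 0 := isPt_root

theorem isPt_B : IsPt tB 1 := by
  have h := isPt_root.conj (pres.gen 7) (by norm_num)
  rw [← tB_eq, ← act_def (pres.gen 7) (show (0 : ℕ) < rep.P.n by decide), ← el_one,
    act_el (by simp) (by norm_num), points_ok.1] at h
  exact h

theorem B_mem : tB ∈ conjugatesOf tA := isConj_iff.mpr ⟨_, tB_eq.symm⟩

theorem A_mem : tA ∈ conjugatesOf tA := IsConj.refl tA

theorem isPt_C : IsPt (tA * tB * tA⁻¹) 8006 := by
  have h := isPt_B.conj tA (by norm_num)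
  rw [← act_def tA (show (1 : ℕ) < rep.P.n by decide), ← el_zW, act_el Below.zW_lt (by norm_num),
    points_ok.2.1, el_zW] at h
  exact h

theorem not_comm : ¬ Commute tA tB := fun h => by
  have h1 := fix_of_commute isPt_B h
  rw [← el_zW, act_el Below.zW_lt (by norm_num), points_ok.2.1] at h1
  norm_num at h1

/-- the subgroup of the eight letters -/
noncomputable def K0 : Subgroup pres.Grp := pres.sub ks

theorem gen_fix {k : ℕ} (hk : k ∈ ks) : Commute (pres.gen k) tA ∧ Commute (pres.gen k) tB := by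
  have hk10 := points_ok.2.2.2.2.2.2.2 k hk
  obtain ⟨h0, h1⟩ := points_ok.2.2.1 k hk
  rw [← el_one]
  exact ⟨fixed_commute isPt_A (by rw [act_el (by simpa using hk10) (by norm_num)]; exact h0),
    fixed_commute isPt_B (by rw [act_el (by simpa using hk10) (by norm_num)]; exact h1)⟩

theorem K0_comm {g : pres.Grp} (hg : g ∈ K0) : Commute g tA ∧ Commute g tB := by
  rw [K0, Pres.sub] at hg
  induction hg using Subgroup.closure_induction with
  | mem y hy => obtain ⟨k, hk, rfl⟩ := hy; exact gen_fix hk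
  | one => exact ⟨Commute.one_left _, Commute.one_left _⟩
  | mul a b _ _ iha ihb => exact ⟨iha.1.mul_left ihb.1, iha.2.mul_left ihb.2⟩
  | inv a _ iha => exact ⟨iha.1.inv_left, iha.2.inv_left⟩

theorem K0_x {g : pres.Grp} (hg : g ∈ K0) : Commute g xP :=
  xP_eq ▸ (K0_comm hg).1.mul_right (K0_comm hg).2

theorem tab_all (p : ℕ) (hp : p < 31671) : tabOK p = true := by
  rcases (by omega : p < 4000 ∨ (4000 ≤ p ∧ p < 8000) ∨ (8000 ≤ p ∧ p < 12000) ∨ (12000 ≤ p ∧ p < 16000) ∨
      (16000 ≤ p ∧ p < 20000) ∨ (20000 ≤ p ∧ p < 24000) ∨ (24000 ≤ p ∧ p < 28000) ∨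
      (28000 ≤ p ∧ p < 31671)) with h | h | h | h | h | h | h | h
  · exact all_range (p := tabOK) tab0_ok (Nat.zero_le _) (by omega)
  · exact all_range (p := tabOK) tab1_ok h.1 (by omega)
  · exact all_range (p := tabOK) tab2_ok h.1 (by omega)
  · exact all_range (p := tabOK) tab3_ok h.1 (by omega)
  · exact all_range (p := tabOK) tab4_ok h.1 (by omega)
  · exact all_range (p := tabOK) tab5_ok h.1 (by omega)
  · exact all_range (p := tabOK) tab6_ok h.1 (by omega)
  · exact all_range (p := tabOK) tab7_ok h.1 (by omega)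

/-- every point is reached from a representative -/
theorem reach {p : ℕ} (hp : p < 31671) : ∃ g ∈ K0, ∃ i < 8, act g (roots.getD i 0) = p := by
  suffices ∀ m, ∀ p, p < 31671 → Nat.div (fld tab 24 p) 256 = m →
      ∃ g ∈ K0, ∃ i < 8, act g (roots.getD i 0) = p from this _ p hp rfl
  intro m
  induction m with
  | zero =>
    intro p hp hm
    have h := tab_all p hp
    simp only [tabOK, hm, Nat.beq_refl, cond_true, List.any_eq_true] at h
    obtain ⟨r, hr, hrp⟩ := h
    obtain ⟨i, hi, hie⟩ := List.getElem_of_mem hr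
    exact ⟨1, one_mem _, i, hi, by
      rw [List.getD_eq_getElem _ _ hi, hie, Nat.eq_of_beq_eq_true hrp, act_one hp]⟩
  | succ m ih =>
    intro p hp hm
    have h := tab_all p hp
    simp only [tabOK, hm, show Nat.beq (m + 1) 0 = false from rfl, cond_false, Bool.and_eq_true] at h
    obtain ⟨h8, hd⟩ := h
    set k := ks.getD (Nat.mod (fld tab 24 p) 256) 0
    have hk8 : Nat.mod (fld tab 24 p) 256 < ks.length := Nat.le_of_ble_eq_true h8
    have hk : k ∈ ks := by
      show ks.getD _ 0 ∈ ks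
      rw [List.getD_eq_getElem _ _ hk8]
      exact List.getElem_mem hk8
    have hk10 : ∀ x ∈ [k], x < 10 := by simpa using points_ok.2.2.2.2.2.2.2 k hk
    have hq := e10_lt hk10 hp
    obtain ⟨g, hg, i, hi, hgi⟩ := ih _ hq (by have := Nat.eq_of_beq_eq_true hd; simp only [Nat.add_eq] at this; omega)
    have hgen : pres.gen k ∈ K0 := Subgroup.subset_closure ⟨k, hk, rfl⟩
    refine ⟨pres.gen k * g, mul_mem hgen hg, i, hi, ?_⟩
    have hr : roots.getD i 0 < 31671 := by
      have := roots_ok i hi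
      simp only [rootOK, Bool.and_eq_true] at this
      exact (ptOK_spec this.1.1).1
    rw [act_mul _ _ hr, hgi, ← el_one, ← act_el hk10 hp, ← act_mul _ _ hp, el_one, Pres.gen_sq pres_ok k,
      act_one hp]

theorem root_facts {i : ℕ} (hi : i < 8) : ptOK (roots.getD i 0) = true ∧
    (roots.getD i 0 = r0 ∨ (act xP (roots.getD i 0) ≠ roots.getD i 0 ∧
      ¬ (act tA (roots.getD i 0) = roots.getD i 0 ∧ act tB (roots.getD i 0) = roots.getD i 0))) ∧
    ((roots.getD i 0 = 0 ∨ roots.getD i 0 = 1 ∨ roots.getD i 0 = 8006) ∨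
      xP * dp (roots.getD i 0) * xP ≠ dp (roots.getD i 0)) := by
  have h := roots_ok i hi
  simp only [rootOK, triv, Bool.and_eq_true, Bool.or_eq_true, Nat.beq_eq, Bool.not_eq_true',
    Bool.and_eq_false_iff] at h
  obtain ⟨⟨hpt, h1⟩, h2⟩ := h
  have hx := points_ok.2.2.2.2.2.1
  have hb := points_ok.2.2.2.2.2.2.1
  have hr := (ptOK_spec hpt).1
  set r := roots.getD i 0
  refine ⟨hpt, h1.imp id (fun h => ⟨fun e => ?_, fun e => ?_⟩), h2.imp (fun h => or_assoc.mp h) (fun h e => ?_)⟩
  · rw [xP, act_el hx hr] at e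
    have h' := h.1
    rw [e, Nat.beq_refl] at h'
    exact absurd h' (by simp)
  · obtain ⟨e1, e2⟩ := e
    rw [← el_zW, act_el Below.zW_lt hr] at e1
    rw [tB, act_el hb hr] at e2
    rcases h.2 with h' | h'
    · rw [e1, Nat.beq_refl] at h'; exact absurd h' (by simp)
    · rw [e2, Nat.beq_refl] at h'; exact absurd h' (by simp)
  · obtain ⟨hw, hne⟩ := h
    have hw' : wits.getD i 0 < 31671 := Nat.le_of_ble_eq_true hw
    have hl : ∀ x ∈ xW ++ mw r ++ xW, x < 10 := by
      intro x hx'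
      simp only [List.mem_append] at hx'
      rcases hx' with (h | h) | h
      exacts [hx x h, mw_lt hpt x h, hx x h]
    rw [← act_el hl hw', ← act_el (mw_lt hpt) hw', el_app, el_app,
      show el xW * el (mw r) * el xW = el (mw r) from e, Nat.beq_refl] at hne
    exact absurd hne (by simp)

/-- every member is a conjugate of a representative -/
theorem member_cases {u : pres.Grp} (hu : u ∈ conjugatesOf tA) :
    ∃ g ∈ K0, ∃ i < 8, IsPt u (act g (roots.getD i 0)) ∧ u = g * dp (roots.getD i 0) * g⁻¹ := by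
  obtain ⟨p, hp⟩ := Outer.exists_pt hu
  obtain ⟨g, hg, i, hi, hgi⟩ := reach hp.lt
  obtain ⟨hpt, -, -⟩ := root_facts hi
  have hr := (ptOK_spec hpt).1
  refine ⟨g, hg, i, hi, hgi.symm ▸ hp, ?_⟩
  have h' := (isPt_dp hpt).conj g hr
  rw [← act_def g hr, hgi] at h'
  exact hp.inj h'

/-- the members inverting the product -/
theorem inverters {u : pres.Grp} (hu : u ∈ conjugatesOf tA) (h : u * xP * u⁻¹ = xP⁻¹) :
    u = tA ∨ u = tB ∨ u = tA * tB * tA⁻¹ := by
  obtain ⟨g, hg, i, hi, hp, hgu⟩ := member_cases hu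
  obtain ⟨hpt, -, hr | hr⟩ := root_facts hi
  · have hA := fix_of_commute isPt_A (K0_comm hg).1
    have hB := fix_of_commute isPt_B (K0_comm hg).2
    rcases hr with e | e | e <;> rw [e] at hp
    · rw [hA] at hp; exact Or.inl (hp.inj isPt_A)
    · rw [hB] at hp; exact Or.inr (Or.inl (hp.inj isPt_B))
    · rw [fix_of_commute isPt_C (((K0_comm hg).1.mul_right (K0_comm hg).2).mul_right (K0_comm hg).1.inv_right)] at hp
      exact Or.inr (Or.inr (hp.inj isPt_C))
  · refine absurd ?_ hr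
    set d := dp (roots.getD i 0)
    have hx : g⁻¹ * xP * g = xP := by rw [mul_assoc, ← (K0_x hg).eq, inv_mul_cancel_left]
    have hx' : g * xP * g⁻¹ = xP := by rw [(K0_x hg).eq, mul_inv_cancel_right]
    have hd : d * xP * d⁻¹ = xP⁻¹ := by
      calc d * xP * d⁻¹ = g⁻¹ * (u * (g * xP * g⁻¹) * u⁻¹) * g := by rw [hgu]; group
        _ = g⁻¹ * xP⁻¹ * g := by rw [hx', h]
        _ = (g⁻¹ * xP * g)⁻¹ := by group
        _ = xP⁻¹ := by rw [hx]
    calc xP * d * xP = xP * (d * xP * d⁻¹) * d := by group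
      _ = d := by rw [hd, mul_inv_cancel, one_mul]

/-- members centralising the product -/
theorem comm_x {u : pres.Grp} (hu : u ∈ conjugatesOf tA) (h : Commute u xP) :
    ∃ g ∈ K0, IsPt u (act g r0) := by
  obtain ⟨g, hg, i, hi, hp, hgu⟩ := member_cases hu
  obtain ⟨hpt, hr | hr, -⟩ := root_facts hi
  · exact ⟨g, hg, hr ▸ hp⟩
  · refine absurd ?_ hr.1
    have hr' := (ptOK_spec hpt).1
    have h1 := fix_of_commute hp h.symm
    rw [← act_mul _ _ hr', (K0_x hg).symm.eq, act_mul _ _ hr'] at h1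
    have h2 := congrArg (act g⁻¹) h1
    simp only [← act_mul _ _ hr', ← mul_assoc, inv_mul_cancel, one_mul, act_one hr'] at h2
    exact h2

theorem r0_pt : ptOK r0 = true := by
  obtain ⟨i, hi, hie⟩ := List.getElem_of_mem points_ok.2.2.2.2.1
  have := (root_facts (i := i) hi).1
  rwa [List.getD_eq_getElem _ _ hi, hie] at this

theorem tl_lt {p : ℕ} (hp : p ∈ tl) : p < 31671 := by
  have h := tl_ok
  simp only [tlOK, List.all_eq_true, Bool.and_eq_true] at h
  exact Nat.le_of_ble_eq_true (h 0 (by decide) p hp).1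

theorem tl_closed {g : pres.Grp} (hg : g ∈ K0) : ∀ p ∈ tl, act g p ∈ tl ∧ act g⁻¹ p ∈ tl := by
  rw [K0, Pres.sub] at hg
  induction hg using Subgroup.closure_induction with
  | mem y hy =>
    obtain ⟨k, hk, rfl⟩ := hy
    intro p hp
    rw [inv_eq_of_mul_eq_one_left (Pres.gen_sq pres_ok k), and_self, ← el_one,
      act_el (by simpa using points_ok.2.2.2.2.2.2.2 k hk) (tl_lt hp)]
    have h := tl_ok
    simp only [tlOK, List.all_eq_true, Bool.and_eq_true, List.any_eq_true] at h
    obtain ⟨q, hq, hqe⟩ := (h k hk p hp).2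
    rwa [← Nat.eq_of_beq_eq_true hqe]
  | one => intro p hp; rw [inv_one, act_one (tl_lt hp)]; exact ⟨hp, hp⟩
  | mul a b _ _ iha ihb =>
    intro p hp
    constructor
    · rw [act_mul _ _ (tl_lt hp)]; exact (iha _ (ihb p hp).1).1
    · rw [mul_inv_rev, act_mul _ _ (tl_lt hp)]; exact (ihb _ (iha p hp).2).2
  | inv a _ iha => intro p hp; rw [inv_inv]; exact (iha p hp).symm

theorem tl_fix {p : ℕ} (hp : ∃ g ∈ K0, act g r0 = p) : p ∈ tl := by
  obtain ⟨g, hg, rfl⟩ := hp
  exact (tl_closed hg r0 points_ok.2.2.2.1).1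

/-- the members commuting with both -/
def TT : Set pres.Grp := {u | u ∈ conjugatesOf tA ∧ Commute tA u ∧ Commute tB u}

theorem TT_iff_x {u : pres.Grp} : u ∈ TT ↔ u ∈ conjugatesOf tA ∧ Commute xP u := by
  refine ⟨fun h => ⟨h.1, xP_eq ▸ h.2.1.mul_left h.2.2⟩, fun h => ⟨h.1, ?_⟩⟩
  obtain ⟨g, hg, hp⟩ := comm_x h.1 h.2.symm
  -- the base member commutes with both
  have hb0 : Commute tA (dp r0) ∧ Commute tB (dp r0) := by
    obtain ⟨q, hq, hqe⟩ : ∃ q ∈ seven, q = r0 := ⟨r0, by decide, rfl⟩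
    have hA : act tA r0 = r0 ∧ act tB r0 = r0 := by
      constructor
      · rw [← el_zW, act_el Below.zW_lt (ptOK_spec r0_pt).1]; exact base_fix.1
      · rw [tB, act_el points_ok.2.2.2.2.2.2.1 (ptOK_spec r0_pt).1]; exact base_fix.2
    exact ⟨fixed_commute (isPt_dp r0_pt) hA.1, fixed_commute (isPt_dp r0_pt) hA.2⟩
  have hu : u = g * dp r0 * g⁻¹ := by
    have hr := (ptOK_spec r0_pt).1
    have h' := (isPt_dp r0_pt).conj g hr
    rw [← act_def g hr] at h'
    exact hp.inj h'
  rw [hu]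
  have c1 := (K0_comm hg).1.symm
  have c2 := (K0_comm hg).2.symm
  exact ⟨(c1.mul_right hb0.1).mul_right c1.inv_right, (c2.mul_right hb0.2).mul_right c2.inv_right⟩
where
  base_fix : e10 Below.zW r0 = r0 ∧ e10 bW r0 = r0 := by decide +kernel

theorem atMost_sound : ∀ (k : ℕ) (l : List ℕ), atMost k l = true → ∀ S : Finset ℕ,
    (∀ a ∈ S, a ∈ l) → (∀ a ∈ S, ∀ b ∈ S, a ≠ b → adj a b = true) → S.card ≤ k := by
  intro k
  induction k with
  | zero =>
    intro l h S hS _
    rw [atMost, List.isEmpty_iff] at h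
    subst h
    simp [Finset.eq_empty_of_forall_notMem (fun a ha => List.not_mem_nil (hS a ha))]
  | succ k ih =>
    intro l
    induction l with
    | nil => intro _ S hS _; simp [Finset.eq_empty_of_forall_notMem (fun a ha => List.not_mem_nil (hS a ha))]
    | cons v r ihr =>
      intro h S hS hadj
      simp only [atMost, List.tails, List.all_cons, Bool.and_eq_true] at h
      by_cases hv : v ∈ S
      · have := ih _ h.1 (S.erase v) (fun a ha => ?_) (fun a ha b hb => hadj a (Finset.mem_of_mem_erase ha) b (Finset.mem_of_mem_erase hb))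
        · rw [Finset.card_erase_of_mem hv] at this; omega
        · obtain ⟨hne, haS⟩ := Finset.mem_erase.mp ha
          exact List.mem_filter.mpr ⟨(List.mem_cons.mp (hS a haS)).resolve_left hne,
            hadj v hv a haS (Ne.symm hne)⟩
      · refine ihr (by simp only [atMost]; exact h.2) S (fun a ha => ?_) hadj
        exact (List.mem_cons.mp (hS a ha)).resolve_left fun e => hv (e ▸ ha)

theorem row_all {i : ℕ} (hi : i < 126) : rowOK i = true := by
  obtain ⟨q, r, hr, rfl⟩ : ∃ q r, r < 21 ∧ i = 21 * q + r :=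
    ⟨i / 21, i % 21, Nat.mod_lt _ (by norm_num), (Nat.div_add_mod i 21).symm⟩
  rcases (by omega : q = 0 ∨ q = 1 ∨ q = 2 ∨ q = 3 ∨ q = 4 ∨ q = 5) with h | h | h | h | h | h <;> subst h
  exacts [rowsA_ok r hr, rowsB_ok r hr, rowsC_ok r hr, rowsD_ok r hr, rowsE_ok r hr, rowsF_ok r hr]

/-- a set of pairwise commuting members through the base member -/
theorem clique_base {E : Finset pres.Grp} (hE : ∀ u ∈ E, u ∈ TT) (hc : ∀ u ∈ E, ∀ v ∈ E, Commute u v)
    (h0 : dp r0 ∈ E) : E.card ≤ 7 := by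
  classical
  have hidx : ∀ u ∈ E.erase (dp r0), ∃ i < 126, IsPt u (near.getD i 0) := by
    intro u hu
    obtain ⟨hne, huE⟩ := Finset.mem_erase.mp hu
    obtain ⟨hcl, hcx⟩ := TT_iff_x.mp (hE u huE)
    obtain ⟨g, hg, hp⟩ := comm_x hcl hcx.symm
    have hmem := tl_fix ⟨g, hg, rfl⟩
    have hfix := fix_of_commute hp (hc _ h0 u huE)
    have h := near_ok
    simp only [nearOK, List.all_eq_true, Bool.or_eq_true, List.any_eq_true, Bool.not_eq_true'] at h
    rcases h _ hmem with (h | h) | ⟨q, hq, hqe⟩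
    · exact absurd ((Nat.eq_of_beq_eq_true h ▸ hp).inj (isPt_dp r0_pt)) hne
    · exfalso
      rw [show act (dp r0) _ = _ from act_el (mw_lt r0_pt) hp.lt] at hfix
      rw [hfix, Nat.beq_refl] at h
      exact absurd h (by simp)
    · obtain ⟨i, hi, hie⟩ := List.getElem_of_mem hq
      exact ⟨i, near_len ▸ hi, by rw [List.getD_eq_getElem _ _ hi, hie, Nat.eq_of_beq_eq_true hqe]; exact hp⟩
  choose f hf hfp using hidx
  set S := (E.erase (dp r0)).attach.image fun u => f u.1 u.2
  have hS : S.card = (E.erase (dp r0)).card := by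
    rw [Finset.card_image_of_injective _ ?_, Finset.card_attach]
    intro a b e
    exact Subtype.ext ((hfp a.1 a.2).inj (by rw [show f a.1 a.2 = f b.1 b.2 from e]; exact hfp b.1 b.2))
  have := atMost_sound 6 (List.range 126) clique_ok S (fun i hi => ?_) ?_
  · rw [hS, Finset.card_erase_of_mem h0] at this; omega
  · obtain ⟨u, -, rfl⟩ := Finset.mem_image.mp hi
    exact List.mem_range.mpr (hf u.1 u.2)
  · intro i hi j hj hij
    obtain ⟨u, -, rfl⟩ := Finset.mem_image.mp hi
    obtain ⟨v, -, rfl⟩ := Finset.mem_image.mp hj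
    have h := row_all (hf u.1 u.2)
    simp only [rowOK, Bool.and_eq_true, List.all_eq_true, Bool.or_eq_true, List.mem_range] at h
    rcases h.2 _ (hf v.1 v.2) with h' | h'
    · exact absurd (Nat.eq_of_beq_eq_true h') hij
    · rw [beq_iff_eq.mp h']
      rw [Nat.beq_eq]
      have e1 := (isPt_dp h.1).inj (hfp u.1 u.2)
      have e2 := fix_of_commute (hfp v.1 v.2) (hc u.1 (Finset.mem_of_mem_erase u.2) v.1 (Finset.mem_of_mem_erase v.2))
      rwa [← e1, show act (dp (near.getD (f u.1 u.2) 0)) _ = _ from act_el (mw_lt h.1) (hfp v.1 v.2).lt] at e2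

theorem width_TT : Cfsg.commutingWidth TT = 7 := by
  classical
  haveI := order.1
  haveI : Fintype pres.Grp := Fintype.ofFinite _
  refine IsGreatest.csSup_eq ⟨?_, ?_⟩
  · obtain ⟨hnd, hlen, hm, hcm⟩ := seven_ok
    refine ⟨((seven.toFinset.image dp : Finset pres.Grp) : Set pres.Grp), ?_, Finset.finite_toSet _, ?_, ?_⟩
    · intro u hu
      obtain ⟨p, hp, rfl⟩ := Finset.mem_image.mp hu
      obtain ⟨hpt, hok⟩ := hm p (List.mem_toFinset.mp hp)

      refine TT_iff_x.mpr ⟨isConj_iff.mpr ⟨_, (dp_conj p).symm⟩, fixed_commute (isPt_dp hok) ?_⟩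
      exact x_fix hp hpt
    · intro u hu v hv
      obtain ⟨p, hp, rfl⟩ := Finset.mem_image.mp hu
      obtain ⟨q, hq, rfl⟩ := Finset.mem_image.mp hv
      have hp' := List.mem_toFinset.mp hp
      have hq' := List.mem_toFinset.mp hq
      exact fixed_commute (isPt_dp (hm q hq').2) (by
        rw [dp, act_el (mw_lt (hm p hp').2) (tl_lt (hm q hq').1)]; exact hcm p hp' q hq')
    · rw [Set.ncard_coe_finset, Finset.card_image_of_injOn, List.toFinset_card_of_nodup hnd, hlen]
      intro p hp q hq e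
      exact (isPt_dp (hm p (List.mem_toFinset.mp hp)).2).unique (e ▸ isPt_dp (hm q (List.mem_toFinset.mp hq)).2)
  · rintro n ⟨E, hsub, hfin, hc, rfl⟩
    rcases E.eq_empty_or_nonempty with rfl | ⟨u, hu⟩
    · simp
    obtain ⟨hcl, hcx⟩ := TT_iff_x.mp (hsub hu)
    obtain ⟨g, hg, hp⟩ := comm_x hcl hcx.symm
    have hr := (ptOK_spec r0_pt).1
    have h' := (isPt_dp r0_pt).conj g hr
    rw [← act_def g hr] at h'
    have hgu := hp.inj h'
    let F : Finset pres.Grp := hfin.toFinset.image fun v => g⁻¹ * v * g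
    have hFc : F.card = E.ncard := by
      rw [Finset.card_image_of_injective _ (fun a b e => mul_left_cancel (mul_right_cancel e)),
        Set.ncard_eq_toFinset_card E hfin]
    rw [← hFc]
    refine clique_base (fun v hv => ?_) (fun v hv w hw => ?_) ?_
    · obtain ⟨v, hv', rfl⟩ := Finset.mem_image.mp hv
      have hvE := hsub (hfin.mem_toFinset.mp hv')
      obtain ⟨c1, c2⟩ := TT_iff_x.mp hvE
      obtain ⟨s, hs⟩ := isConj_iff.mp c1
      refine TT_iff_x.mpr ⟨isConj_iff.mpr ⟨g⁻¹ * s, by rw [← hs]; group⟩, ?_⟩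
      have cg := (K0_x hg).symm
      exact (cg.inv_right.mul_right c2).mul_right cg
    · obtain ⟨v, hv', rfl⟩ := Finset.mem_image.mp hv
      obtain ⟨w, hw', rfl⟩ := Finset.mem_image.mp hw
      show g⁻¹ * v * g * (g⁻¹ * w * g) = g⁻¹ * w * g * (g⁻¹ * v * g)
      calc g⁻¹ * v * g * (g⁻¹ * w * g) = g⁻¹ * (v * w) * g := by group
        _ = g⁻¹ * (w * v) * g := by rw [(hc v (hfin.mem_toFinset.mp hv') w (hfin.mem_toFinset.mp hw')).eq]
        _ = g⁻¹ * w * g * (g⁻¹ * v * g) := by group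
    · exact Finset.mem_image.mpr ⟨u, hfin.mem_toFinset.mpr hu, by rw [hgu]; group⟩
where
  x_fix {p : ℕ} (hs : p ∈ seven.toFinset) (hp : p ∈ tl) : act xP p = p := by
    rw [xP, act_el points_ok.2.2.2.2.2.1 (tl_lt hp)]
    exact fix_all p (List.mem_toFinset.mp hs)
  fix_all : ∀ p ∈ seven, e10 xW p = p := by decide +kernel

end Cfsg.Agent.Spor.M23Rel.TwoOrb
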