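import Cfsg.Agent.Lib.Spor.M23RelTwoOrbDefs

/-!
Orbits of the common centralizer of two non-commuting members of Fi23: checks (table).
-/

set_option autoImplicit false
set_option maxRecDepth 100000

namespace Cfsg.Agent.Spor.M23Rel.TwoOrb

open Cfsg.Agent.Spor.CC Cfsg.Agent.Spor.Fi23Cert Cfsg.Agent.Spor.M23Rel.Cyc

theorem tab0_ok : rangeOK tabOK 0 4000 = true := by decide +kernel

theorem tab1_ok : rangeOK tabOK 4000 4000 = true := by decide +kernel

theorem tab2_ok : rangeOK tabOK 8000 4000 = true := by decide +kernel

theorem tab3_ok : rangeOK tabOK 12000 4000 = true := by decide +kernel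

theorem tab4_ok : rangeOK tabOK 16000 4000 = true := by decide +kernel

theorem tab5_ok : rangeOK tabOK 20000 4000 = true := by decide +kernel

theorem tab6_ok : rangeOK tabOK 24000 4000 = true := by decide +kernel

theorem tab7_ok : rangeOK tabOK 28000 3671 = true := by decide +kernel

end Cfsg.Agent.Spor.M23Rel.TwoOrb
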