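import Cfsg.Agent.Lib.Spor.M24RelMain

/-!
The derived group and the centralizer of two non-commuting members of a group of type M(24).
-/

set_option autoImplicit false
set_option maxRecDepth 100000
set_option linter.unusedSectionVars false

namespace Cfsg.Agent.Spor.M24Rel.Base

open Cfsg.Agent.Spor.M22U (nset)
open Cfsg.Agent.Spor.M23Rel

variable {G : Type*} [Group G] [Finite G] {D : Set G}

theorem comm_facts (hD : Cfsg.IsThreeTranspositionGroup D) (hprim : Cfsg.IsPrimitiveUnderConj D)
    (ht : Cfsg.IsOfTypeM24 G D) :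
    (commutator G).index = 2 ∧ commutator G = Cfsg.layer G ∧ ∀ d ∈ D, d ∉ commutator G := by
  have h2 := (Main.m24_facts hD hprim ht).1
  haveI : (Cfsg.layer G).Normal := Local.layer_normal
  have hle : commutator G ≤ Cfsg.layer G := by
    refine Subgroup.Normal.quotient_commutative_iff_commutator_le.1 ?_
    haveI : IsCyclic (G ⧸ Cfsg.layer G) :=
      haveI : Fact (Nat.Prime 2) := ⟨Nat.prime_two⟩
      isCyclic_of_prime_card (p := 2) (by rw [← Subgroup.index_eq_card, h2])
    infer_instance
  have hge : Cfsg.layer G ≤ commutator G := by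
    rw [← Solv.layer_perfect, commutator_def]
    exact Subgroup.commutator_mono le_top le_top
  have e := le_antisymm hle hge
  refine ⟨e ▸ h2, e, fun d hd hdc => ?_⟩
  have : commutator G = ⊤ := by
    rw [eq_top_iff, ← hD.2.2, Subgroup.closure_le]
    intro y hy
    obtain ⟨g, rfl⟩ := hprim.1 d hd y hy
    exact (inferInstance : (commutator G).Normal).conj_mem d hdc g
  rw [e, ← Subgroup.index_eq_one] at this
  omega

theorem pair_cent (hD : Cfsg.IsThreeTranspositionGroup D) (hprim : Cfsg.IsPrimitiveUnderConj D)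
    (ht : Cfsg.IsOfTypeM24 G D) {d c : G} (hd : d ∈ D) (hc : c ∈ D) (hnc : ¬ Commute d c) :
    Nat.card ↥(Subgroup.centralizer ({d} : Set G) ⊓ Subgroup.centralizer ({c} : Set G)) = 29713078886400 := by
  have B := Count.base_of hD hprim ht
  have h1 := Count.outs_mul B hd (c := c) ⟨hc, hnc⟩
  have h2 := Count.part B hd
  rw [Count.ncard_D B] at h2
  rw [show (Count.outs B d).ncard = 275264 by omega] at h1
  omega

theorem com_card (hD : Cfsg.IsThreeTranspositionGroup D) (hprim : Cfsg.IsPrimitiveUnderConj D)
    (ht : Cfsg.IsOfTypeM24 G D) {d c : G} (hd : d ∈ D) (hc : c ∈ D) (hnc : ¬ Commute d c) :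
    (nset D d ∩ nset D c).ncard = 3240 := by
  have B := Count.base_of hD hprim ht
  have h1 := Count.double_count B hd (c := c) ⟨hc, hnc⟩
  have h2 := Count.part B hd
  rw [Count.ncard_D B] at h2
  rw [show (Count.outs B d).ncard = 275264 by omega] at h1
  omega

end Cfsg.Agent.Spor.M24Rel.Base
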