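import Cfsg.Agent.Lib.Spor.M24RelFix

/-!
In type M(24), a member is a product of seven commuting members and its centralizer is generated by the
members commuting with it.
-/

set_option autoImplicit false
set_option maxRecDepth 100000
set_option linter.unusedSectionVars false

namespace Cfsg.Agent.Spor.M24Rel.Cent

open Cfsg.Agent.Spor.M22U (nset)
open Cfsg.Agent.Spor.M23Rel
open Cfsg.Agent.Spor.Fi23Cert (pres)
open Cfsg.Agent.Spor.Fi23Cert.Outer

/-- an index set of seven of the 23 with product 1 -/
def sevenI : List ℕ := [0, 1, 2, 3, 11, 14, 15]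

theorem sevenI_facts : sevenI.Nodup ∧ sevenI.length = 7 ∧ (∀ j ∈ sevenI, j < 23) ∧
    (sevenI.map fun j => comP.getD j 0).Nodup ∧
    (sevenI.map fun j => maskOf.getD j 0).foldl Nat.xor 0 = 0 := by decide +kernel

theorem com_class {j : ℕ} (hj : j < 23) : com j ∈ conjugatesOf Fi23Cert.Below.tA := by
  obtain ⟨g, e, -⟩ := isPt_com hj
  exact isConj_iff.mpr ⟨g, e.symm⟩

theorem com_comm {i j : ℕ} (hi : i < 23) (hj : j < 23) : Commute (com i) (com j) := by
  show com i * com j = com j * com i
  rw [com_el hi, com_el hj, ← el_xor 11 le_rfl, ← el_xor 11 le_rfl, Nat.xor_comm]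

theorem seven_model : ∃ l : List pres.Grp, l.Nodup ∧ l.length = 7 ∧
    (∀ a ∈ l, a ∈ conjugatesOf Fi23Cert.Below.tA) ∧ (∀ a ∈ l, ∀ b ∈ l, Commute a b) ∧ l.prod = 1 := by
  obtain ⟨hnd, hlen, hlt, hpd, hx⟩ := sevenI_facts
  refine ⟨sevenI.map com, ?_, by rw [List.length_map, hlen], ?_, ?_, ?_⟩
  · refine List.Nodup.map_on (fun i hi j hj h => ?_) hnd
    exact List.inj_on_of_nodup_map hpd hi hj ((isPt_com (hlt i hi)).unique (h ▸ isPt_com (hlt j hj)))
  · intro a ha
    obtain ⟨j, hj, rfl⟩ := List.mem_map.mp ha
    exact com_class (hlt j hj)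
  · intro a ha b hb
    obtain ⟨i, hi, rfl⟩ := List.mem_map.mp ha
    obtain ⟨j, hj, rfl⟩ := List.mem_map.mp hb
    exact com_comm (hlt i hi) (hlt j hj)
  · have h := el_list sevenI hlt 0
    rw [hx, show el 11 0 = 1 by simp [el], one_mul] at h
    exact h.symm

variable {G : Type*} [Group G] [Finite G] {D : Set G} (hS : ∀ x ∈ D, Fix.Setting D x) {d : G} (hd : d ∈ D)

include hS hd

theorem exists_coord : ∃ e : pres.Grp ≃* (↥(Subgroup.closure (nset D d)) ⧸ Subgroup.center ↥(Subgroup.closure (nset D d))),
    e '' conjugatesOf Fi23Cert.Below.tA = nextSet D d :=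
  Iso.iso_fi23 (hS d hd).group (hS d hd).next_prim (hS d hd).next

/-- seven distinct commuting members with product the given member -/
theorem seven_prod : ∃ l : List G, l.Nodup ∧ l.length = 7 ∧ (∀ a ∈ l, a ∈ nset D d) ∧
    (∀ a ∈ l, ∀ b ∈ l, Commute a b) ∧ l.prod = d := by
  classical
  have S := hS d hd
  have hE := S.pre
  obtain ⟨e, he⟩ := exists_coord hS hd
  obtain ⟨l, hnd, hlen, hcl, hcom, hp⟩ := seven_model
  have hlift : ∀ a ∈ l, ∃ y, ∃ hy : y ∈ nset D d, S.img y hy = e a := fun a ha => by
    obtain ⟨⟨y, hyH⟩, hy, hye⟩ : e a ∈ nextSet D d := he ▸ ⟨a, hcl a ha, rfl⟩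
    exact ⟨y, hy, hye⟩
  choose! L hL hLe using hlift
  refine ⟨l.map L, ?_, by rw [List.length_map, hlen], ?_, ?_, ?_⟩
  · refine List.Nodup.map_on (fun a ha b hb h => e.injective ?_) hnd
    rw [← hLe a ha, ← hLe b hb]
    exact congrArg QuotientGroup.mk (Subtype.ext h)
  · intro a ha
    obtain ⟨u, hu, rfl⟩ := List.mem_map.mp ha
    exact hL u hu
  · intro a ha b hb
    obtain ⟨u, hu, rfl⟩ := List.mem_map.mp ha
    obtain ⟨v, hv, rfl⟩ := List.mem_map.mp hb
    refine commute_lift hE d (hL u hu) (hL v hv) ?_
    show Commute (S.img (L u) (hL u hu)) (S.img (L v) (hL v hv))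
    rw [hLe u hu, hLe v hv]
    exact (hcom u hu v hv).map e.toMonoidHom
  · have hmem : ∀ m : List pres.Grp, (∀ a ∈ m, a ∈ l) → ∃ h : (m.map L).prod ∈ Subgroup.closure (nset D d),
        (QuotientGroup.mk (⟨_, h⟩ : ↥(Subgroup.closure (nset D d))) :
          ↥(Subgroup.closure (nset D d)) ⧸ Subgroup.center ↥(Subgroup.closure (nset D d))) = e m.prod := by
      intro m hm
      induction m with
      | nil => exact ⟨one_mem _, (QuotientGroup.mk_one _).trans (map_one e).symm⟩
      | cons a m ih =>
        obtain ⟨h, he'⟩ := ih fun x hx => hm x (by simp [hx])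
        refine ⟨mul_mem (Subgroup.subset_closure (hL a (hm a (by simp)))) h, ?_⟩
        rw [List.prod_cons, map_mul, ← he', ← hLe a (hm a (by simp)), ← QuotientGroup.mk_mul]
        rfl
    obtain ⟨h, he'⟩ := hmem l fun a ha => ha
    rw [hp, map_one] at he'
    rcases S.central_cases he' with h1 | h1
    swap
    · exact h1
    exfalso
    replace h1 : (l.map L).prod = 1 := h1
    clear h he' hmem
    -- six of them would then have central product
    match l, hnd, hlen, hcom, hL, hLe, h1 with
    | x :: r, hnd, hlen, hcom, hL, hLe, h1 =>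
      set x0 := L x
      have hx0 := hL x (by simp)
      have hS' := hS x0 hx0.1
      have hr : ∀ a ∈ r, L a ∈ nset D x0 := by
        intro a ha
        refine ⟨(hL a (by simp [ha])).1, fun e' => ?_, ?_⟩
        · have : a = x := e.injective (by
            rw [← hLe a (by simp [ha]), ← hLe x (by simp)]
            exact congrArg QuotientGroup.mk (Subtype.ext e'))
          exact (List.nodup_cons.mp hnd).1 (this ▸ ha)
        · exact commute_lift hE d hx0 (hL a (by simp [ha]))
            (by
              show Commute (S.img (L x) hx0) (S.img (L a) (hL a (by simp [ha])))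
              rw [hLe x (by simp), hLe a (by simp [ha])]
              exact (hcom x (by simp) a (by simp [ha])).map e.toMonoidHom)
      have h1' : x0 * (r.map L).prod = 1 := by rw [← h1, List.map_cons, List.prod_cons]
      have hrel := (Top.noRel_group hS'.group hS'.next_prim (Or.inl hS'.next)).2
      let el' : G → (↥(Subgroup.closure (nset D x0)) ⧸ Subgroup.center ↥(Subgroup.closure (nset D x0))) :=
        fun a => if ha : a ∈ Subgroup.closure (nset D x0) then QuotientGroup.mk ⟨a, ha⟩ else 1
      have hel : ∀ a (ha : a ∈ Subgroup.closure (nset D x0)), el' a = QuotientGroup.mk ⟨a, ha⟩ := fun a ha => dif_pos ha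
      have hprod : ∀ m : List G, (∀ a ∈ m, a ∈ Subgroup.closure (nset D x0)) →
          (m.map el').prod = el' m.prod := by
        intro m hm
        induction m with
        | nil => rw [List.map_nil, List.prod_nil, List.prod_nil, hel 1 (one_mem _)]; rfl
        | cons a m ih =>
          have hm' : ∀ b ∈ m, b ∈ Subgroup.closure (nset D x0) := fun b hb => hm b (by simp [hb])
          rw [List.map_cons, List.prod_cons, List.prod_cons, ih hm', hel _ (hm a (by simp)),
            hel _ (list_prod_mem hm'), hel _ (mul_mem (hm a (by simp)) (list_prod_mem hm')), ← QuotientGroup.mk_mul]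
          rfl
      refine hrel ((r.map L).map el') ?_ ?_ ?_ ?_ ?_
      · refine List.Nodup.map_on (fun a ha b hb h => ?_)
          (List.Nodup.map_on (fun a ha b hb h => e.injective ?_) (List.nodup_cons.mp hnd).2)
        · obtain ⟨u, hu, rfl⟩ := List.mem_map.mp ha
          obtain ⟨v, hv, rfl⟩ := List.mem_map.mp hb
          rw [hel _ (Subgroup.subset_closure (hr u hu)), hel _ (Subgroup.subset_closure (hr v hv))] at h
          exact hS'.img_inj (hr u hu) (hr v hv) h
        · rw [← hLe a (by simp [ha]), ← hLe b (by simp [hb])]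
          exact congrArg QuotientGroup.mk (Subtype.ext h)
      · rw [List.length_map, List.length_map]
        simpa using hlen
      · intro a ha
        simp only [List.mem_map] at ha
        obtain ⟨_, ⟨u, hu, rfl⟩, rfl⟩ := ha
        rw [hel _ (Subgroup.subset_closure (hr u hu))]
        exact ⟨hS'.img_mem (hr u hu), hS'.next_ne _ (hS'.img_mem (hr u hu))⟩
      · intro a ha b hb
        simp only [List.mem_map] at ha hb
        obtain ⟨_, ⟨u, hu, rfl⟩, rfl⟩ := ha
        obtain ⟨_, ⟨v, hv, rfl⟩, rfl⟩ := hb
        rw [hel _ (Subgroup.subset_closure (hr u hu)), hel _ (Subgroup.subset_closure (hr v hv))]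
        refine Commute.map (Subtype.ext ?_ : Commute (⟨L u, Subgroup.subset_closure (hr u hu)⟩ : ↥(Subgroup.closure (nset D x0))) ⟨L v, Subgroup.subset_closure (hr v hv)⟩) (QuotientGroup.mk' _)
        exact (commute_lift hE d (hL u (by simp [hu])) (hL v (by simp [hv]))
          (by
            show Commute (S.img (L u) (hL u (by simp [hu]))) (S.img (L v) (hL v (by simp [hv])))
            rw [hLe u (by simp [hu]), hLe v (by simp [hv])]
            exact (hcom u (by simp [hu]) v (by simp [hv])).map e.toMonoidHom)).eq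
      · have hm : ∀ a ∈ r.map L, a ∈ Subgroup.closure (nset D x0) := fun a ha => by
          obtain ⟨u, hu, rfl⟩ := List.mem_map.mp ha
          exact Subgroup.subset_closure (hr u hu)
        rw [hprod _ hm, hel _ (list_prod_mem hm), mk_eq_one_iff]
        intro y hy
        show Commute (r.map L).prod y
        rw [eq_inv_of_mul_eq_one_right h1', inv_eq_of_mul_eq_one_right (hE.sq _ hx0.1)]
        exact hy.2.2

theorem mem_closure : d ∈ Subgroup.closure (nset D d) := by
  obtain ⟨l, -, -, hm, -, hp⟩ := seven_prod hS hd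
  have := list_prod_mem (S := Subgroup.closure (nset D d)) (l := l) fun a ha => Subgroup.subset_closure (hm a ha)
  rwa [hp] at this

theorem closure_cent : Subgroup.closure (nset D d) = Subgroup.centralizer ({d} : Set G) := by
  have S := hS d hd
  have hE := S.pre
  refine le_antisymm ((Subgroup.closure_le _).2 fun y hy =>
    Subgroup.mem_centralizer_singleton_iff.mpr hy.2.2.symm.eq) fun x hx => ?_
  have hxd : Commute x d := Subgroup.mem_centralizer_singleton_iff.mp hx
  obtain ⟨p, hp⟩ := Fix.inner_X S.group S.next_prim S.next (M23Rel.Fix.autQ hE hxd)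
  obtain ⟨z, rfl⟩ := QuotientGroup.mk_surjective p
  have hzd : Commute (z : G) d := commute_of_mem z.2
  have hu : ∀ y ∈ nset D d, Commute ((z : G)⁻¹ * x) y := by
    intro y hy
    have h := S.img_inj (nset_conj hE hxd hy) (nset_conj hE hzd hy) (hp (S.img y hy))
    show (z : G)⁻¹ * x * y = y * ((z : G)⁻¹ * x)
    calc (z : G)⁻¹ * x * y = (z : G)⁻¹ * (x * y * x⁻¹) * x := by group
      _ = _ := by rw [h]; group
  rcases S.fix_ext (hzd.inv_left.mul_left hxd) hu with h | h
  · exact (inv_mul_eq_one.mp h) ▸ z.2
  · rw [show x = (z : G) * d from inv_mul_eq_iff_eq_mul.mp h]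
    exact mul_mem z.2 (mem_closure hS hd)

theorem card_center : Nat.card (Subgroup.center ↥(Subgroup.closure (nset D d))) = 2 := by
  have S := hS d hd
  have e : Subgroup.center ↥(Subgroup.closure (nset D d)) =
      (Subgroup.zpowers d).subgroupOf (Subgroup.closure (nset D d)) := by
    refine le_antisymm (fun x hx => ?_) ?_
    · rw [Subgroup.mem_subgroupOf]
      rcases S.central_cases ((QuotientGroup.eq_one_iff x).mpr hx) with h | h <;> rw [h]
      exacts [one_mem _, Subgroup.mem_zpowers d]
    · rintro ⟨y, hy⟩ hy'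
      obtain ⟨n, rfl⟩ := Subgroup.mem_zpowers_iff.mp (Subgroup.mem_subgroupOf.mp hy')
      rw [Subgroup.mem_center_iff]
      exact fun v => Subtype.ext (Commute.zpow_right (commute_of_mem v.2) n)
  rw [e, Nat.card_congr (Subgroup.subgroupOfEquivOfLe (Subgroup.zpowers_le.mpr (mem_closure hS hd))).toEquiv,
    Nat.card_zpowers, S.hD.1.1 d hd]

theorem card_cent : Nat.card (Subgroup.centralizer ({d} : Set G)) = 2 * 4089470473293004800 := by
  have S := hS d hd
  rw [← closure_cent hS hd, Subgroup.card_eq_card_quotient_mul_card_subgroup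
    (Subgroup.center ↥(Subgroup.closure (nset D d))), card_center hS hd,
    Facts.card_G S.group S.next_prim S.next, mul_comm]

theorem ncard_nset : (nset D d).ncard = 31671 := by
  have S := hS d hd
  rw [← Facts.ncard_D S.group S.next_prim S.next]
  refine Set.ncard_congr (fun y hy => S.img y hy) (fun y hy => S.img_mem hy) (fun a b ha hb h => S.img_inj ha hb h) ?_
  rintro _ ⟨⟨y, hyH⟩, hy, rfl⟩
  exact ⟨y, hy, rfl⟩

end Cfsg.Agent.Spor.M24Rel.Cent
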