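import Cfsg.Agent.Lib.Spor.M24RelInvol

/-!
A group of type M(24) has only one class of 3-transpositions.
-/

set_option autoImplicit false
set_option maxRecDepth 100000
set_option linter.unusedSectionVars false

namespace Cfsg.Agent.Spor.M24Rel.Invol

open Cfsg.Agent.Spor.M22U (nset)
open Cfsg.Agent.Spor.M22U.InvClasses (Good)
open Cfsg.Agent.Spor.M23Rel

variable {G : Type*} [Group G] [Finite G] {D : Set G}

theorem class_unique (hD : Cfsg.IsThreeTranspositionGroup D) (hprim : Cfsg.IsPrimitiveUnderConj D)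
    (ht : Cfsg.IsOfTypeM24 G D) {D' : Set G} (hD' : Cfsg.IsThreeTranspositionClass D') : D' = D := by
  have H := hyp_of hD hprim ht
  obtain ⟨hset, ⟨x, hx, hcls⟩, hgen⟩ := hD'
  obtain ⟨l, hl, h1, h4, hp⟩ := exists_good H (hset.1 x hx)
  have hE : Pre D := pre_of_group hD
  have heven : Even l.length → False := fun he => by
    have hle : Subgroup.closure D' ≤ commutator G := by
      rw [Subgroup.closure_le, hcls]
      intro y hy
      obtain ⟨g, rfl⟩ := isConj_iff.mp hy
      exact (inferInstance : (commutator G).Normal).conj_mem x (hp ▸ (H.par l hl.2.1).mpr he) g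
    rw [hgen, top_le_iff] at hle
    have := (Base.comm_facts hD hprim ht).1
    rw [hle, Subgroup.index_top] at this
    norm_num at this
  rcases (show l.length = 1 ∨ l.length = 2 ∨ l.length = 3 ∨ l.length = 4 by omega) with e | e | e | e
  · obtain ⟨a, rfl⟩ := List.length_eq_one_iff.mp e
    simp only [List.prod_cons, List.prod_nil, mul_one] at hp
    subst hp
    have ha := hl.2.1 a (by simp)
    rw [hcls]
    ext y
    constructor
    · intro hy
      obtain ⟨g, rfl⟩ := isConj_iff.mp hy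
      exact hD.2.1 g a ha
    · intro hy
      obtain ⟨g, rfl⟩ := hprim.1 a ha y hy
      exact isConj_iff.mpr ⟨g, rfl⟩
  · exact (heven (e ▸ ⟨1, rfl⟩)).elim
  swap
  · exact (heven (e ▸ ⟨2, rfl⟩)).elim
  exfalso
  obtain ⟨-, a, ha, f, hf, hnc, -⟩ := id ht
  obtain ⟨A, hA, hAc, hA8⟩ := Pair.exists_eight hD hprim ht ha hf hnc
  obtain ⟨b, hb, b', hb', c, hc, hbb, hbc, hb'c⟩ := (Set.two_lt_ncard (Set.toFinite A)).mp (by rw [hA8]; norm_num)
  have hgood : ∀ p, p = a ∨ p = f → ∀ q, q ∈ A → q ≠ c → Good D [p, q, c] := by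
    intro p hp q hq hqc
    have hpn : ∀ z ∈ A, z ∈ nset D p := fun z hz => by
      rcases hp with rfl | rfl
      exacts [(hA hz).1, (hA hz).2]
    refine ⟨?_, ?_, ?_⟩
    · simp [(hpn q hq).2.1.symm, (hpn c hc).2.1.symm, hqc]
    · rcases hp with rfl | rfl <;> simp [ha, hf, (hA hq).1.1, (hA hc).1.1]
    · intro u hu v hv
      simp only [List.mem_cons, List.not_mem_nil, or_false] at hu hv
      rcases hu with rfl | rfl | rfl <;> rcases hv with rfl | rfl | rfl
      exacts [Commute.refl _, (hpn _ hq).2.2, (hpn _ hc).2.2, (hpn _ hq).2.2.symm, Commute.refl _, hAc _ hq _ hc,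
        (hpn _ hc).2.2.symm, hAc _ hc _ hq, Commute.refl _]
  have h1 := hgood a (Or.inl rfl) b hb hbc
  have h2 := hgood f (Or.inr rfl) b' hb' hb'c
  have hmem : ∀ {m : List G}, Good D m → m.length = 3 → m.prod ∈ D' := fun {m} hm hlen => by
    rw [hcls, ← hp]
    exact (good_conj H hm hl (hlen.trans e.symm) (by omega) (by omega)).symm
  have m1 := hmem h1 rfl
  have m2 := hmem h2 rfl
  simp only [List.prod_cons, List.prod_nil, mul_one] at m1 m2
  have hxy : (a * (b * c)) * (f * (b' * c)) = (a * f) * (b * b') := by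
    calc (a * (b * c)) * (f * (b' * c)) = a * b * (c * f) * (b' * c) := by group
      _ = a * b * (f * c) * (b' * c) := by rw [(hA hc).2.2.2.symm.eq]
      _ = a * (b * f) * ((c * b') * c) := by group
      _ = a * (f * b) * ((b' * c) * c) := by rw [(hA hb).2.2.2.symm.eq, hAc c hc b' hb']
      _ = (a * f) * (b * b') * (c * c) := by group
      _ = _ := by rw [hE.sq c (hA hc).1.1, mul_one]
  have hcomm : Commute (a * f) (b * b') :=
    (((hA hb).1.2.2.mul_right (hA hb').1.2.2).mul_left ((hA hb).2.2.2.mul_right (hA hb').2.2.2))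
  obtain ⟨h3, -⟩ := hE.braid ha hf hnc
  have h2' : (b * b') ^ 2 = 1 := by
    rw [(hAc b hb b' hb').mul_pow, pow_two, pow_two, hE.sq b (hA hb).1.1, hE.sq b' (hA hb').1.1, one_mul]
  rcases hset.2 _ m1 _ m2 with h | h <;> rw [hxy, hcomm.mul_pow] at h
  · rw [h2', mul_one] at h
    apply hnc
    rw [Spor.commute_iff_sq (hE.sq a ha) (hE.sq f hf)]
    exact h
  · rw [h3, one_mul, pow_succ, h2', one_mul] at h
    apply hbb
    rw [mul_eq_one_iff_eq_inv, inv_eq_of_mul_eq_one_right (hE.sq b' (hA hb').1.1)] at h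
    exact h

end Cfsg.Agent.Spor.M24Rel.Invol
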