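import Cfsg.Agent.Lib.Spor.M23RelFacts
import Cfsg.Agent.Lib.Spor.M23RelShift

/-!
A level of type M(23) is primitive: its commuting graph is connected and no two members have the same
neighbours.
-/

set_option autoImplicit false
set_option maxRecDepth 100000
set_option linter.unusedSectionVars false

namespace Cfsg.Agent.Spor.M24Rel.Conn

open Cfsg.Agent.Spor.M22U (nset)
open Cfsg.Agent.Spor.M23Rel
open Cfsg.Agent.Spor.M23Rel.Conn (Linked comp SepW comp_block mem_comp_closure linked_symm linked_conj)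
open Cfsg.Agent.Spor.M23Rel.Shift (cq cq_mk)

section Quot

variable {A B : Type*} [Group A] [Group B] (f : A →* B) {s : Set A}

/-- the map between the closures modulo centres -/
theorem center_map (hc : ∀ g ∈ Subgroup.closure s, ∀ x ∈ s, g * x * g⁻¹ ∈ s) (hi : Set.InjOn f s)
    {t : Set B} (ht : f '' s = t) :
    ∃ e : (↥(Subgroup.closure s) ⧸ Subgroup.center ↥(Subgroup.closure s)) ≃*
        (↥(Subgroup.closure t) ⧸ Subgroup.center ↥(Subgroup.closure t)),
      ∀ (x : ↥(Subgroup.closure s)) (y : ↥(Subgroup.closure t)), f x = y →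
        e (QuotientGroup.mk x) = QuotientGroup.mk y := by
  subst ht
  have hmap : (Subgroup.closure s).map f = Subgroup.closure (f '' s) := f.map_closure s
  let r : ↥(Subgroup.closure s) →* ↥(Subgroup.closure (f '' s)) :=
    (f.domRestrict (Subgroup.closure s)).codRestrict _ fun x => hmap ▸ Subgroup.mem_map_of_mem f x.2
  have hr : Function.Surjective r := by
    rintro ⟨y, hy⟩
    rw [← hmap] at hy
    obtain ⟨x, hx, rfl⟩ := hy
    exact ⟨⟨x, hx⟩, rfl⟩
  let φ := (QuotientGroup.mk' (Subgroup.center ↥(Subgroup.closure (f '' s)))).comp r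
  have hker : φ.ker = Subgroup.center ↥(Subgroup.closure s) := by
    ext x
    simp only [φ, MonoidHom.mem_ker, MonoidHom.comp_apply, QuotientGroup.mk'_apply, QuotientGroup.eq_one_iff]
    constructor
    · intro h
      have hcs : ∀ e ∈ s, Commute (x : A) e := by
        intro e he
        have h2 := congrArg Subtype.val (Subgroup.mem_center_iff.mp h (r ⟨e, Subgroup.subset_closure he⟩))
        have h3 : f ((x : A) * e * (x : A)⁻¹) = f e := by
          rw [map_mul, map_mul, map_inv]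
          exact mul_inv_eq_iff_eq_mul.mpr h2.symm
        exact mul_inv_eq_iff_eq_mul.mp (hi (hc _ x.2 e he) he h3)
      rw [Subgroup.mem_center_iff]
      rintro ⟨g, hg⟩
      apply Subtype.ext
      show g * (x : A) = (x : A) * g
      induction hg using Subgroup.closure_induction with
      | mem e he => exact (hcs e he).symm
      | one => simp
      | mul a b _ _ ha hb => exact Commute.mul_left (a := a) ha hb
      | inv a _ ha => exact Commute.inv_left (a := a) ha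
    · intro h
      rw [Subgroup.mem_center_iff] at h ⊢
      intro y
      obtain ⟨g, rfl⟩ := hr y
      rw [← map_mul, ← map_mul, h g]
  refine ⟨(QuotientGroup.quotientMulEquivOfEq hker.symm).trans
    (QuotientGroup.quotientKerEquivOfSurjective φ ((QuotientGroup.mk'_surjective _).comp hr)), ?_⟩
  intro x y hxy
  show φ x = QuotientGroup.mk y
  simp only [φ, MonoidHom.comp_apply, QuotientGroup.mk'_apply]
  exact congrArg _ (Subtype.ext hxy)

end Quot

variable {K : Type*} [Group K] [Finite K] {E : Set K}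

/-- members in one component with simple group modulo centre exclude a second component -/
theorem connected_of_simple (hD : Cfsg.IsThreeTranspositionGroup E) (h1 : M23Rel.One E) {d c : K}
    (hd : d ∈ E) (hcX : c ∈ comp E d) (hnc : ¬ Commute d c) {t0 : K} (ht0 : t0 ∈ nset E d)
    (htr : ∀ x ∈ comp E d, ∃ m ∈ Subgroup.closure (comp E d), m * d * m⁻¹ = x)
    (hsimple : IsSimpleGroup (↥(Subgroup.closure (comp E d)) ⧸ Subgroup.center ↥(Subgroup.closure (comp E d)))) :
    ∀ e ∈ E, Linked E d e := by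
  have hE := pre_of_group hD
  have hne : ∀ e ∈ E, e ≠ 1 := fun e he h1 => by
    have := hD.1.1 e he
    rw [h1, orderOf_one] at this
    norm_num at this
  set X := comp E d with hX
  set M := Subgroup.closure X with hM
  have hdX : d ∈ X := ⟨hd, Relation.ReflTransGen.refl⟩
  have hnX : ∀ y ∈ nset E d, y ∈ X := fun y hy =>
    ⟨hy.1, Relation.ReflTransGen.single ⟨hd, hy.1, hy.2.2⟩⟩
  have hmX : ∀ {x}, x ∈ X → x ∈ M := fun hx => Subgroup.subset_closure hx
  set X' : Set M := {x | (x : K) ∈ X}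
  -- a second component gives a contradiction
  by_contra hcon
  push Not at hcon
  obtain ⟨e0, he0, hne0⟩ := hcon
  obtain ⟨h, hh⟩ := h1 d hd e0 he0 (hne d hd) (hne e0 he0)
  have hB := comp_block hE d
  set C := cimg h X with hC
  set C' := cimg d C with hC'
  have he0C : e0 ∈ C := ⟨d, hdX, hh⟩
  have hCE : C ⊆ E := by rintro _ ⟨u, hu, rfl⟩; exact hE.conj h u hu.1
  have hC'E : C' ⊆ E := by rintro _ ⟨u, hu, rfl⟩; exact hE.conj d u (hCE hu)
  have hcross : ∀ x ∈ X, ∀ e, e ∈ E → e ∉ X → ¬ Commute x e := fun x hx e he hn hc' =>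
    hn ⟨he, hx.2.trans (Relation.ReflTransGen.single ⟨hx.1, he, hc'⟩)⟩
  have hXC : ∀ e ∈ C, e ∉ X := by
    intro e he heX
    have : cimg h X = X := (block_meet hB (g := h) (h := 1) he (by rwa [cimg_one])).trans (cimg_one _)
    exact hne0 (this ▸ he0C : e0 ∈ X).2
  have hsame : ∀ x ∈ X, cimg x C = C' := fun x hx =>
    block_same hD.1 (fun u hu => hu.1) hB hx hdX h hCE
  have hsame' : ∀ x ∈ X, cimg x C' = C := fun x hx => by
    rw [← hsame x hx, cimg_cimg, hE.sq x hx.1, cimg_one]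
  have hXC' : ∀ e ∈ C', e ∉ X := by
    rintro _ ⟨u, hu, rfl⟩ heX
    apply hXC u hu
    have := mem_comp_closure hE hd (hmX hdX) heX
    rwa [show d * (d * u * d⁻¹) * d⁻¹ = (d * d) * u * (d * d)⁻¹ by group, hE.sq d hd, one_mul, inv_one,
      mul_one] at this
  have hCC : C ≠ C' := by
    intro e
    have h2 : d * e0 * d⁻¹ ∈ C := e ▸ ⟨e0, he0C, rfl⟩
    obtain ⟨u, hu, hu'⟩ := h2
    have hl : Linked E e0 (d * e0 * d⁻¹) := by
      rw [← hu', ← hh]
      exact linked_conj hE h hu.2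
    have hb2 := (hE.braid hd he0 (hcross d hdX e0 he0 (hXC e0 he0C))).2
    rw [inv_eq_of_mul_eq_one_right (hE.sq d hd), hb2] at hl
    have := linked_conj hE e0 hl
    rw [mul_inv_cancel_right, show e0 * (e0 * d * e0) * e0⁻¹ = (e0 * e0) * d by group,
      hE.sq e0 he0, one_mul] at this
    exact hne0 (linked_symm this)
  -- the two permutations
  have hP : ∀ m ∈ M, (cimg m C = C ∧ cimg m C' = C') ∨ (cimg m C = C' ∧ cimg m C' = C) := by
    intro m hm
    induction hm using Subgroup.closure_induction'' with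
    | one => exact Or.inl ⟨cimg_one _, cimg_one _⟩
    | mem x hx => exact Or.inr ⟨hsame x hx, hsame' x hx⟩
    | inv_mem x hx =>
      rw [inv_eq_of_mul_eq_one_right (hE.sq x hx.1)]
      exact Or.inr ⟨hsame x hx, hsame' x hx⟩
    | mul a b _ _ iha ihb =>
      rw [← cimg_cimg, ← cimg_cimg]
      rcases ihb with ⟨e1, e2⟩ | ⟨e1, e2⟩ <;> rcases iha with ⟨e3, e4⟩ | ⟨e3, e4⟩ <;> rw [e1, e2]
      · exact Or.inl ⟨e3, e4⟩
      · exact Or.inr ⟨e3, e4⟩
      · exact Or.inr ⟨e4, e3⟩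
      · exact Or.inl ⟨e4, e3⟩
  let N : Subgroup M :=
    { carrier := {m | cimg (m : K) C = C}
      one_mem' := cimg_one _
      mul_mem' := fun {a b} ha hb => by
        show cimg ((a : K) * b) C = C
        rw [← cimg_cimg, hb, ha]
      inv_mem' := fun {a} ha => by
        show cimg ((a : K)⁻¹) C = C
        conv_lhs => rw [← (show cimg (a : K) C = C from ha)]
        rw [cimg_cimg, inv_mul_cancel, cimg_one] }
  haveI hNn : N.Normal := ⟨fun n hn g => by
    show cimg ((g : K) * n * (g : K)⁻¹) C = C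
    have hn' : cimg (n : K) C = C := hn
    rcases hP _ n.2 with ⟨n1, n2⟩ | ⟨n1, -⟩
    · rcases hP _ (M.inv_mem g.2) with ⟨g1, -⟩ | ⟨g1, -⟩
      · rw [← cimg_cimg, ← cimg_cimg, g1, n1]
        conv_lhs => rw [← g1]
        rw [cimg_cimg, mul_inv_cancel, cimg_one]
      · rw [← cimg_cimg, ← cimg_cimg, g1, n2]
        conv_lhs => rw [← g1]
        rw [cimg_cimg, mul_inv_cancel, cimg_one]
    · exact absurd (hn'.symm.trans n1) hCC⟩
  -- a central element exchanging the two components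
  obtain ⟨z, hz, hzC⟩ : ∃ z : M, z ∈ Subgroup.center M ∧ cimg (z : K) C = C' := by
    by_contra hno
    push Not at hno
    have hle : Subgroup.center M ≤ N := fun z hz => (hP _ z.2).elim (fun h => h.1) fun h => absurd h.1 (hno z hz)
    set q := QuotientGroup.mk' (Subgroup.center M)
    haveI := hsimple
    rcases (hNn.map q (QuotientGroup.mk'_surjective _)).eq_bot_or_eq_top with h' | h'
    · have hxy : ∀ u v : M, u ∈ X' → v ∈ X' → q u = q v := by
        intro u v hu hv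
        have hmem : u * v ∈ N := by
          show cimg ((u : K) * v) C = C
          rw [← cimg_cimg, hsame _ hv, hsame' _ hu]
        have h2 : q (u * v) = 1 := by
          have : q (u * v) ∈ N.map q := ⟨_, hmem, rfl⟩
          rwa [h', Subgroup.mem_bot] at this
        have hvv : q v * q v = 1 := by rw [← map_mul, show v * v = 1 from Subtype.ext (hE.sq _ hv.1), map_one]
        rw [map_mul] at h2
        rw [← mul_one (q u), ← hvv, ← mul_assoc, h2, one_mul]
      have e1 := hxy ⟨d, hmX hdX⟩ ⟨c, hmX hcX⟩ hdX hcX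
      have hcen : (⟨d, hmX hdX⟩ : M)⁻¹ * ⟨c, hmX hcX⟩ ∈ Subgroup.center M := QuotientGroup.eq.mp e1
      have hcd := congrArg Subtype.val (Subgroup.mem_center_iff.mp hcen ⟨d, hmX hdX⟩)
      simp only [Subgroup.coe_mul, Subgroup.coe_inv, mul_inv_cancel_left] at hcd
      apply hnc
      show d * c = c * d
      calc d * c = d * (d⁻¹ * c * d) := by rw [← hcd]
        _ = c * d := by group
    · have : (⟨d, hmX hdX⟩ : M) ∈ N := by
        have hq : q ⟨d, hmX hdX⟩ ∈ N.map q := h' ▸ Subgroup.mem_top _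
        obtain ⟨n, hn, hn'⟩ := hq
        have hk : n⁻¹ * ⟨d, hmX hdX⟩ ∈ N := hle (QuotientGroup.eq.mp hn')
        have := N.mul_mem hn hk
        rwa [mul_inv_cancel_left] at this
      exact hCC ((show cimg d C = C from this).symm)
  have hzc : ∀ x ∈ X, Commute (z : K) x := fun x hx =>
    (congrArg Subtype.val (Subgroup.mem_center_iff.mp hz ⟨x, hmX hx⟩)).symm
  have hzM : ∀ m ∈ M, Commute (z : K) m := fun m hm =>
    (congrArg Subtype.val (Subgroup.mem_center_iff.mp hz ⟨m, hm⟩)).symm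
  -- the member of X attached to a member of C
  have hflip : ∀ x ∈ X, ∀ e ∈ C, x * e * x⁻¹ ∈ C' := fun x hx e he => hsame x hx ▸ ⟨e, he, rfl⟩
  have hxinj : ∀ e ∈ C, ∀ x ∈ X, ∀ y ∈ X, x * e * x⁻¹ = y * e * y⁻¹ → x = y := by
    intro e he x hx y hy h'
    have b1 := (hE.braid hx.1 (hCE he) (hcross x hx e (hCE he) (hXC e he))).2
    have b2 := (hE.braid hy.1 (hCE he) (hcross y hy e (hCE he) (hXC e he))).2
    rw [inv_eq_of_mul_eq_one_right (hE.sq x hx.1), inv_eq_of_mul_eq_one_right (hE.sq y hy.1), b1, b2] at h'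
    exact mul_left_cancel (mul_right_cancel h')
  have hcardC : C.ncard = X.ncard := Set.ncard_image_of_injective _ (MulAut.conj h).injective
  have hcardC' : C'.ncard = X.ncard := (Set.ncard_image_of_injective _ (MulAut.conj d).injective).trans hcardC
  have hf : ∀ e : C, ∃ x : X, (x : K) * e * (x : K)⁻¹ = (z : K) * e * (z : K)⁻¹ := by
    intro e
    have himg : (fun x => x * (e : K) * x⁻¹) '' X = C' :=
      Set.eq_of_subset_of_ncard_le (by rintro _ ⟨x, hx, rfl⟩; exact hflip x hx e e.2)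
        (by rw [hcardC', Set.ncard_image_of_injOn fun x hx y hy => hxinj e e.2 x hx y hy]) (Set.toFinite _)
    have : (z : K) * e * (z : K)⁻¹ ∈ C' := hzC ▸ ⟨e, e.2, rfl⟩
    rw [← himg] at this
    obtain ⟨x, hx, hx'⟩ := this
    exact ⟨⟨x, hx⟩, hx'⟩
  choose f hf using hf
  have hmem : ∀ (m : K), cimg m C = C → ∀ e, e ∈ C → m * e * m⁻¹ ∈ C :=
    fun m h' e he => (Set.ext_iff.mp h' _).mp ⟨e, he, rfl⟩
  have hequi : ∀ (m : K) (hm : m ∈ M) (hmC : cimg m C = C) (e : C),
      (f ⟨m * e * m⁻¹, hmem m hmC e e.2⟩ : K) = m * f e * m⁻¹ := by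
    intro m hm hmC e
    have hme : m * e * m⁻¹ ∈ C := hmem m hmC e e.2
    refine hxinj _ hme _ (f _).2 _ (mem_comp_closure hE hd hm (f e).2) ?_
    rw [hf, show m * (f e : K) * m⁻¹ * (m * e * m⁻¹) * (m * (f e : K) * m⁻¹)⁻¹ =
      m * ((f e : K) * e * (f e : K)⁻¹) * m⁻¹ by group, hf e]
    calc (z : K) * (m * e * m⁻¹) * (z : K)⁻¹ = ((z : K) * m) * e * ((z : K) * m)⁻¹ := by group
      _ = (m * (z : K)) * e * (m * (z : K))⁻¹ := by rw [(hzM m hm).eq]
      _ = _ := by group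
  have hfsurj : Function.Surjective f := by
    rintro ⟨w, hw⟩
    obtain ⟨n, hn, hne'⟩ := htr _ (f ⟨e0, he0C⟩).2
    obtain ⟨n', hn', hne''⟩ := htr _ hw
    set m := n' * n⁻¹
    have hm : m ∈ M := M.mul_mem hn' (M.inv_mem hn)
    have hmw : m * (f ⟨e0, he0C⟩ : K) * m⁻¹ = w := by rw [← hne', ← hne'']; simp only [m]; group
    rcases hP m hm with ⟨hmC, -⟩ | ⟨hmC, hmC2⟩
    · exact ⟨⟨m * e0 * m⁻¹, hmem m hmC e0 he0C⟩, Subtype.ext ((hequi m hm hmC ⟨e0, he0C⟩).trans hmw)⟩
    · have hmz : cimg (m * (z : K)) C = C := by rw [← cimg_cimg, hzC, hmC2]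
      refine ⟨⟨m * (z : K) * e0 * (m * (z : K))⁻¹, hmem _ hmz e0 he0C⟩, Subtype.ext ?_⟩
      refine (hequi _ (M.mul_mem hm z.2) hmz ⟨e0, he0C⟩).trans (Eq.trans ?_ hmw)
      calc m * (z : K) * (f ⟨e0, he0C⟩ : K) * (m * (z : K))⁻¹
          = m * ((z : K) * (f ⟨e0, he0C⟩ : K) * (z : K)⁻¹) * m⁻¹ := by group
        _ = _ := by rw [(hzc _ (f ⟨e0, he0C⟩).2).eq, mul_inv_cancel_right]
  have hfinj : Function.Injective f := by
    have hc' : Nat.card C = Nat.card X := hcardC
    haveI := Fintype.ofFinite C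
    haveI := Fintype.ofFinite X
    rw [Nat.card_eq_fintype_card, Nat.card_eq_fintype_card] at hc'
    exact ((Fintype.bijective_iff_surjective_and_card f).mpr ⟨hfsurj, hc'⟩).1
  have hfix : ∀ (m : K) (hm : m ∈ M) (hmC : cimg m C = C) (e : C),
      m * (f e : K) * m⁻¹ = f e → m * (e : K) * m⁻¹ = e := fun m hm hmC e h' =>
    congrArg Subtype.val (hfinj (Subtype.ext ((hequi m hm hmC e).trans h')))
  -- a member commuting with the attached one
  set x := f ⟨e0, he0C⟩ with hx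
  obtain ⟨n, hn, hnx⟩ := htr _ x.2
  set y := n * t0 * n⁻¹ with hy
  have hyX : y ∈ X := mem_comp_closure hE hd hn (hnX t0 ht0)
  have hxy : (x : K) ≠ y := fun e =>
    ht0.2.1 (mul_left_cancel (mul_right_cancel ((hy ▸ e.symm).trans hnx.symm)))
  have hcxy : Commute (x : K) y := by rw [hy, ← hnx]; exact commute_conj_iff.mpr ht0.2.2
  have hzy : cimg ((z : K) * y) C = C := by
    rw [← cimg_cimg, hsame y hyX]
    rcases hP _ z.2 with ⟨e, -⟩ | ⟨-, e⟩
    · exact absurd (e.symm.trans hzC) hCC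
    · exact e
  have k1 := hfix _ (M.mul_mem z.2 (hmX hyX)) hzy ⟨e0, he0C⟩ (by
    rw [← hx, show (z : K) * y * (x : K) * ((z : K) * y)⁻¹ = (z : K) * (y * x * y⁻¹) * (z : K)⁻¹ by group,
      ← hcxy.eq, mul_inv_cancel_right, (hzc _ x.2).eq, mul_inv_cancel_right])
  have hzz : cimg ((z : K) * z) C = C := by
    rw [← cimg_cimg, hzC]
    rcases hP _ z.2 with ⟨e, -⟩ | ⟨-, e⟩
    · exact absurd (e.symm.trans hzC) hCC
    · exact e
  have k2 := hfix _ (M.mul_mem z.2 z.2) hzz ⟨e0, he0C⟩ (by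
    rw [← hx, ((hzc _ x.2).mul_left (hzc _ x.2)).eq, mul_inv_cancel_right])
  refine hxy (hxinj e0 he0C _ x.2 _ hyX ?_)
  rw [hx, hf ⟨e0, he0C⟩]
  calc (z : K) * e0 * (z : K)⁻¹ = (z : K) * ((z : K) * y * e0 * ((z : K) * y)⁻¹) * (z : K)⁻¹ := by rw [k1]
    _ = ((z : K) * z) * y * e0 * (((z : K) * z) * y)⁻¹ := by group
    _ = (y * ((z : K) * z)) * e0 * (y * ((z : K) * z))⁻¹ := by
        rw [((hzc _ hyX).mul_left (hzc _ hyX)).eq]
    _ = y * ((z : K) * z * e0 * ((z : K) * z)⁻¹) * y⁻¹ := by group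
    _ = y * e0 * y⁻¹ := by rw [k2]

theorem mk_inj_q {X : Type*} [Group X] {s : Set X} (hE : Pre s) (hnc : ∀ x ∈ s, ∃ w ∈ s, ¬ Commute x w) :
    (∀ x ∈ s, ∀ y ∈ s, Commute (QuotientGroup.mk' (Subgroup.center X) x) (QuotientGroup.mk' (Subgroup.center X) y) →
      Commute x y) ∧ Set.InjOn (QuotientGroup.mk' (Subgroup.center X)) s := by
  set q := QuotientGroup.mk' (Subgroup.center X)
  have hcomm : ∀ x ∈ s, ∀ y ∈ s, Commute (q x) (q y) → Commute x y := by
    intro x hx y hy h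
    by_contra hn
    obtain ⟨h3, -⟩ := hE.braid hx hy hn
    have hp2 : q (x * y) ^ 2 = 1 := by
      rw [map_mul, h.mul_pow, pow_two, pow_two, ← map_mul, ← map_mul, hE.sq x hx, hE.sq y hy, map_one, mul_one]
    have hp3 : q (x * y) ^ 3 = 1 := by rw [← map_pow, h3, map_one]
    have hp1 : q (x * y) = 1 := by
      calc q (x * y) = q (x * y) ^ 2 * q (x * y) := by rw [hp2, one_mul]
        _ = 1 := by rw [← pow_succ, hp3]
    have hc : x * (x * y) = (x * y) * x := Subgroup.mem_center_iff.mp ((QuotientGroup.eq_one_iff _).mp hp1) x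
    rw [← mul_assoc, hE.sq x hx, one_mul] at hc
    apply hn
    show x * y = y * x
    calc x * y = x * y * (x * x) := by rw [hE.sq x hx, mul_one]
      _ = x * y * x * x := (mul_assoc _ _ _).symm
      _ = y * x := by rw [← hc]
  refine ⟨hcomm, fun x hx y hy h => ?_⟩
  obtain ⟨w, hw, hxw⟩ := hnc x hx
  have hcen : y⁻¹ * x ∈ Subgroup.center X := QuotientGroup.eq.mp h.symm
  have hyw : ¬ Commute y w := fun hc => hxw (hcomm x hx w hw (by rw [h]; exact hc.map q))
  have e1 := (hE.braid hx hw hxw).2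
  have e2 := (hE.braid hy hw hyw).2
  have e3 : x * w * x = y * w * y := by
    have hc := Subgroup.mem_center_iff.mp hcen w
    calc x * w * x = y * (y⁻¹ * x * w) * x := by group
      _ = y * (w * (y⁻¹ * x)) * x := by rw [hc]
      _ = y * w * y⁻¹ * (x * x) := by group
      _ = y * w * y := by rw [hE.sq x hx, mul_one, inv_eq_of_mul_eq_one_right (hE.sq y hy)]
  rw [e1, e2] at e3
  exact mul_left_cancel (mul_right_cancel e3)

/-- a level of type M(23) is primitive -/
theorem primitive23 (hD : Cfsg.IsThreeTranspositionGroup E) (ht : Cfsg.IsOfTypeM23 K E) :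
    Cfsg.IsPrimitiveUnderConj E := by
  classical
  have hE := pre_of_group hD
  have hne : ∀ e ∈ E, e ≠ 1 := fun e he h1 => by
    have := hD.1.1 e he
    rw [h1, orderOf_one] at this
    norm_num at this
  obtain ⟨hlev, -⟩ := Top.lev23 hE hne ht
  obtain ⟨hZ, d, hd, c, hc, hnc, h22, c₃, hc₃, hL⟩ := ht
  have hne1 := next_ne_one hE hne hlev.one hlev.sep hd
  have hgrp := next_group hE hne hlev.one hlev.sep hd
  obtain ⟨hlev2, -⟩ := Top.lev22 (pre_next hE d) h22
  have hcl : Cfsg.IsThreeTranspositionClass E := by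
    refine ⟨hD.1, ⟨d, hd, ?_⟩, hD.2.2⟩
    ext x
    refine ⟨fun hx => isConj_iff.2 (hlev.one d hd x hx (hne d hd) (hne x hx)), fun hx => ?_⟩
    obtain ⟨g, rfl⟩ := isConj_iff.1 hx
    exact hE.conj g d hd
  -- a member commuting with d and c, and one commuting only with d
  obtain ⟨s, hs, -⟩ := Pattern.eight hD hc₃ hL
  have ht0 := hs 1 (by decide)
  set t0 := s 1
  obtain ⟨y0, hy0, hy0c⟩ : ∃ y ∈ nset E d, ¬ Commute c y := by
    by_contra hno
    push Not at hno
    refine Top.refl_not_dvd le_rfl hL ?_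
    have e : nset E d ∩ nset E c = nset E d :=
      Set.inter_eq_left.mpr fun y hy => ⟨hy.1, fun e => hnc (e ▸ hy.2.2), hno y hy⟩
    rw [e]
    exact hlev2.big
  -- no two members with the same neighbours
  have hW : SepW E := by
    obtain ⟨-, d₂, hd₂, -, -, -, ⟨F, _, _, hF, ⟨φ₀⟩⟩, -⟩ := h22
    let σ : F ≃+* SpFour.F4 := FiniteField.ringEquivOfCardEq (hF.trans SpFour.F4.card.symm)
    obtain ⟨ψ⟩ := PSUTransfer.psu_congr (n := 6) (q := 2) σ
    let φ := φ₀.trans ψ
    obtain ⟨f, ⟨⟨y, hyH⟩, hy, rfl⟩, -⟩ := Bottom.exists_member (pre_next (pre_next hE d) d₂) φ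
    exact M23Rel.Conn.sepW_step hE hne hlev.one hlev.sep hd ⟨t0, ht0.1⟩
      (M23Rel.Conn.sepW_step (pre_next hE d) hne1 hlev2.one hlev2.sep hd₂ ⟨y, hy⟩
        (M23Rel.Conn.sepW_bottom (pre_next (pre_next hE d) d₂)
          (next_ne_one (pre_next hE d) hne1 hlev2.one hlev2.sep hd₂) φ))
  set X := comp E d with hX
  set M := Subgroup.closure X with hM
  have hdX : d ∈ X := ⟨hd, Relation.ReflTransGen.refl⟩
  have hnX : ∀ y ∈ nset E d, y ∈ X := fun y hy =>
    ⟨hy.1, Relation.ReflTransGen.single ⟨hd, hy.1, hy.2.2⟩⟩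
  have hcX : c ∈ X := ⟨hc, (hnX t0 ht0.1).2.trans (Relation.ReflTransGen.single ⟨ht0.1.1, hc, ht0.2.2.2.symm⟩)⟩
  have hmX : ∀ {x}, x ∈ X → x ∈ M := fun hx => Subgroup.subset_closure hx
  have hout : ∀ x ∈ X, ∀ e ∈ E, e ∉ X → ¬ Commute x e := fun x hx e he hn hc' =>
    hn ⟨he, hx.2.trans (Relation.ReflTransGen.single ⟨hx.1, he, hc'⟩)⟩
  have hbr : ∀ {a b : K}, a ∈ X → b ∈ X → ¬ Commute a b → ∃ m ∈ M, m * a * m⁻¹ = b := by
    intro a b ha hb h
    refine ⟨a * b, M.mul_mem (hmX ha) (hmX hb), ?_⟩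
    have := (hE.braid ha.1 hb.1 h).2
    rw [mul_inv_rev, inv_eq_of_mul_eq_one_right (hE.sq a ha.1), inv_eq_of_mul_eq_one_right (hE.sq b hb.1)]
    calc a * b * a * (b * a) = (b * a * b) * (b * a) := by rw [this]
      _ = b * a * (b * b) * a := by simp only [mul_assoc]
      _ = b := by rw [hE.sq b hb.1, mul_one, mul_assoc, hE.sq a ha.1, mul_one]
  have hnb : ∀ y ∈ nset E d, ∃ m ∈ M, m * d * m⁻¹ = y := by
    intro y hy
    obtain ⟨m1, hm1, e1⟩ := hbr hdX hcX hnc
    obtain ⟨m2, hm2, e2⟩ := hbr hcX (hnX y0 hy0) hy0c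
    have a1 : (QuotientGroup.mk ⟨y0, Subgroup.subset_closure hy0⟩ :
        ↥(Subgroup.closure (nset E d)) ⧸ Subgroup.center ↥(Subgroup.closure (nset E d))) ∈ nextSet E d :=
      ⟨_, hy0, rfl⟩
    have a2 : (QuotientGroup.mk ⟨y, Subgroup.subset_closure hy⟩ :
        ↥(Subgroup.closure (nset E d)) ⧸ Subgroup.center ↥(Subgroup.closure (nset E d))) ∈ nextSet E d :=
      ⟨_, hy, rfl⟩
    obtain ⟨p, hp⟩ := hlev2.one _ a1 _ a2 (hne1 _ a1) (hne1 _ a2)
    obtain ⟨⟨g, hg⟩, rfl⟩ := QuotientGroup.mk_surjective p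
    have hgy : g * y0 * g⁻¹ = y :=
      mk_inj hE d (nset_conj hE (commute_of_mem hg) hy0) hy
        (hne1 _ ⟨⟨_, Subgroup.subset_closure (nset_conj hE (commute_of_mem hg) hy0)⟩,
          nset_conj hE (commute_of_mem hg) hy0, rfl⟩) hp
    have hgM : g ∈ M := (Subgroup.closure_le M).mpr (fun u hu => hmX (hnX u hu)) hg
    exact ⟨g * m2 * m1, M.mul_mem (M.mul_mem hgM hm2) hm1, by rw [← hgy, ← e2, ← e1]; group⟩
  have htr : ∀ x ∈ X, ∃ m ∈ M, m * d * m⁻¹ = x := by
    rintro x ⟨-, hx⟩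
    induction hx with
    | refl => exact ⟨1, M.one_mem, by group⟩
    | @tail p q hdp hpq ih =>
      obtain ⟨m, hm, hmp⟩ := ih
      by_cases hqp : q = p
      · exact ⟨m, hm, hmp.trans hqp.symm⟩
      set u := m⁻¹ * q * m
      have hu : u ∈ nset E d := by
        refine ⟨(conj_mem_iff hE.conj m).1 hpq.2.1, fun e => hqp ?_, ?_⟩
        · calc q = m * u * m⁻¹ := by simp only [u]; group
            _ = p := by rw [e, hmp]
        · rw [← commute_conj_iff (g := m), hmp, show m * u * m⁻¹ = q by simp only [u]; group]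
          exact hpq.2.2
      obtain ⟨m', hm', e⟩ := hnb u hu
      exact ⟨m * m', M.mul_mem hm hm', by
        rw [show m * m' * d * (m * m')⁻¹ = m * (m' * d * m'⁻¹) * m⁻¹ by group, e]; simp only [u]; group⟩
  -- the component modulo the centre
  set X' : Set M := {x | (x : K) ∈ X} with hX'
  have hpM : Pre X' := ⟨fun x hx => Subtype.ext (hE.sq _ hx.1), fun x hx y hy => by
      rcases hE.two _ hx.1 _ hy.1 with h | h
      · exact Or.inl (Subtype.ext h)
      · exact Or.inr (Subtype.ext h),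
    fun g x hx => mem_comp_closure hE hd g.2 hx, Subgroup.closure_closure_coe_preimage⟩
  have hM1 : ∀ x ∈ X', ∀ y ∈ X', ∃ g : M, g * x * g⁻¹ = y := by
    intro x hx y hy
    obtain ⟨m, hm, e⟩ := htr _ hx
    obtain ⟨n, hn, e'⟩ := htr _ hy
    refine ⟨⟨n * m⁻¹, M.mul_mem hn (M.inv_mem hm)⟩, Subtype.ext ?_⟩
    show n * m⁻¹ * (x : K) * (n * m⁻¹)⁻¹ = y
    rw [← e, ← e']; group
  set d' : M := ⟨d, hmX hdX⟩ with hd'
  set c' : M := ⟨c, hmX hcX⟩ with hc'
  have hnc' : ∀ x ∈ X', ∃ w ∈ X', ¬ Commute x w := by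
    intro x hx
    obtain ⟨g, hg⟩ := hM1 d' hdX x hx
    exact ⟨g * c' * g⁻¹, hpM.conj g _ hcX,
      fun h => by
        rw [← hg, commute_conj_iff] at h
        exact hnc (congrArg Subtype.val h.eq)⟩
  obtain ⟨hcomm, hinj⟩ := mk_inj_q hpM hnc'
  set q := QuotientGroup.mk' (Subgroup.center M) with hq
  have hq2 : Pre (q '' X') := by
    refine ⟨?_, ?_, ?_, ?_⟩
    · rintro _ ⟨x, hx, rfl⟩; rw [← map_mul, hpM.sq x hx, map_one]
    · rintro _ ⟨x, hx, rfl⟩ _ ⟨y, hy, rfl⟩
      rcases hpM.two x hx y hy with h | h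
      · left; rw [← map_mul, ← map_pow, h, map_one]
      · right; rw [← map_mul, ← map_pow, h, map_one]
    · intro p
      rintro _ ⟨x, hx, rfl⟩
      obtain ⟨g, rfl⟩ := QuotientGroup.mk'_surjective _ p
      exact ⟨g * x * g⁻¹, hpM.conj g x hx, by simp [q]⟩
    · rw [← MonoidHom.map_closure, hpM.gen, Subgroup.map_top_of_surjective _ (QuotientGroup.mk'_surjective _)]
  have hqne : ∀ x ∈ X', q x ≠ 1 := fun x hx h => by
    obtain ⟨w, hw, hxw⟩ := hnc' x hx
    exact hxw ((Subgroup.mem_center_iff.mp ((QuotientGroup.eq_one_iff _).mp h) w).symm)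
  have hQD : Cfsg.IsThreeTranspositionGroup (q '' X') := by
    refine ⟨⟨?_, hq2.two⟩, hq2.conj, hq2.gen⟩
    rintro _ ⟨x, hx, rfl⟩
    exact orderOf_eq_prime (by rw [pow_two]; exact hq2.sq _ ⟨x, hx, rfl⟩) (hqne x hx)
  have hQZ : Subgroup.center (M ⧸ Subgroup.center M) = ⊥ := by
    rw [eq_bot_iff]
    intro p hp
    obtain ⟨g, rfl⟩ := QuotientGroup.mk'_surjective _ p
    rw [Subgroup.mem_bot]
    refine (QuotientGroup.eq_one_iff _).mpr (mem_center_of_commutes hpM.gen fun x hx => ?_)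
    have e : q (g * x * g⁻¹) = q x := by
      rw [map_mul, map_mul, map_inv, ← Subgroup.mem_center_iff.mp hp (q x), mul_inv_cancel_right]
    exact mul_inv_eq_iff_eq_mul.mp (hinj (hpM.conj g x hx) hx e)
  have hqn : ∀ x ∈ X', q '' nset X' x = nset (q '' X') (q x) := by
    intro x hx
    ext z
    constructor
    · rintro ⟨u, ⟨hu, hne, hcu⟩, rfl⟩
      exact ⟨⟨u, hu, rfl⟩, fun e => hne (hinj hu hx e), hcu.map q⟩
    · rintro ⟨⟨u, hu, rfl⟩, hne, hcu⟩
      exact ⟨u, ⟨hu, fun e => hne (by rw [e]), hcomm x hx u hu hcu⟩, rfl⟩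
  have hin : M.subtype '' nset X' d' = nset E d := by
    ext z
    constructor
    · rintro ⟨u, ⟨hu, hne, hcu⟩, rfl⟩
      exact ⟨hu.1, fun e => hne (Subtype.ext e), congrArg Subtype.val hcu.eq⟩
    · intro hz
      exact ⟨⟨z, hmX (hnX z hz)⟩, ⟨hnX z hz, fun e => hz.2.1 (congrArg Subtype.val e), Subtype.ext hz.2.2.eq⟩, rfl⟩
  have hinc : M.subtype '' (nset X' d' ∩ nset X' c') = nset E d ∩ nset E c := by
    rw [Set.image_inter (Subgroup.subtype_injective M), hin]
    ext z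
    constructor
    · rintro ⟨hz, u, ⟨hu, hne, hcu⟩, rfl⟩
      exact ⟨hz, hu.1, fun e => hne (Subtype.ext e), congrArg Subtype.val hcu.eq⟩
    · rintro ⟨hz, hzc⟩
      exact ⟨hz, ⟨z, hmX (hnX z hz)⟩,
        ⟨hnX z hz, fun e => hzc.2.1 (congrArg Subtype.val e), Subtype.ext hzc.2.2.eq⟩, rfl⟩
  have hcon : ∀ a ∈ X', ∀ g ∈ Subgroup.closure (nset X' a), ∀ x ∈ nset X' a, g * x * g⁻¹ ∈ nset X' a :=
    fun a _ g hg x hx => nset_conj hpM (commute_of_mem hg) hx
  have hcon2 : ∀ g ∈ Subgroup.closure (nset X' d' ∩ nset X' c'), ∀ x ∈ nset X' d' ∩ nset X' c',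
      g * x * g⁻¹ ∈ nset X' d' ∩ nset X' c' := fun g hg x hx =>
    ⟨hcon d' hdX g (Subgroup.closure_mono Set.inter_subset_left hg) x hx.1,
      hcon c' hcX g (Subgroup.closure_mono Set.inter_subset_right hg) x hx.2⟩
  obtain ⟨i1, hi1⟩ := center_map M.subtype (hcon d' hdX) (Subtype.val_injective.injOn) hin
  obtain ⟨i2, hi2⟩ := center_map q (hcon d' hdX) (hinj.mono fun x hx => hx.1) (hqn d' hdX)
  obtain ⟨j1, -⟩ := center_map M.subtype hcon2 (Subtype.val_injective.injOn) hinc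
  obtain ⟨j2, -⟩ := center_map q hcon2 (hinj.mono fun x hx => hx.1.1)
    (t := nset (q '' X') (q d') ∩ nset (q '' X') (q c')) (by
    rw [← hqn d' hdX, ← hqn c' hcX, hinj.image_inter (fun x hx => hx.1) (fun x hx => hx.1)])
  have hQt : Cfsg.IsOfTypeM23 (M ⧸ Subgroup.center M) (q '' X') := by
    refine ⟨hQZ, q d', ⟨d', hdX, rfl⟩, q c', ⟨c', hcX, rfl⟩,
      fun h => hnc (congrArg Subtype.val (hcomm _ hdX _ hcX h).eq), ?_, c₃, hc₃, ?_⟩
    · have h := M23Rel.Shift.type22_congr (i1.symm.trans i2) h22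
      convert h using 1
      ext z
      constructor
      · rintro ⟨⟨y, hy1⟩, hy, rfl⟩
        obtain ⟨u, hu, rfl⟩ := (hqn d' hdX).symm ▸ (show y ∈ nset (q '' X') (q d') from hy)
        refine ⟨i1 (QuotientGroup.mk ⟨u, Subgroup.subset_closure hu⟩), ?_, ?_⟩
        · have hu' : (u : K) ∈ nset E d := hin ▸ ⟨u, hu, rfl⟩
          exact ⟨⟨u, Subgroup.subset_closure hu'⟩, hu', (hi1 _ _ rfl).symm⟩
        · rw [MulEquiv.trans_apply, MulEquiv.symm_apply_apply]
          exact hi2 _ _ rfl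
      · rintro ⟨_, ⟨⟨y, hy1⟩, hy, rfl⟩, rfl⟩
        obtain ⟨u, hu, hue⟩ := hin.symm ▸ (show y ∈ nset E d from hy)
        have hu' : q u ∈ nset (q '' X') (q d') := hqn d' hdX ▸ ⟨u, hu, rfl⟩
        refine ⟨⟨q u, Subgroup.subset_closure hu'⟩, hu', ?_⟩
        rw [MulEquiv.trans_apply, ← hi1 ⟨u, Subgroup.subset_closure hu⟩ ⟨y, hy1⟩ hue, MulEquiv.symm_apply_apply]
        exact (hi2 _ _ rfl).symm
    · obtain ⟨Q, hQn, hQd, ⟨ψ⟩⟩ := hL
      exact ⟨Q, hQn, hQd, ⟨(j1.symm.trans j2).symm.trans ψ⟩⟩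
  have hQcl : Cfsg.IsThreeTranspositionClass (q '' X') := by
    refine ⟨hQD.1, ⟨q d', ⟨d', hdX, rfl⟩, ?_⟩, hQD.2.2⟩
    ext z
    constructor
    · rintro ⟨x, hx, rfl⟩
      obtain ⟨g, hg⟩ := hM1 d' hdX x hx
      exact isConj_iff.2 ⟨q g, by rw [← hg]; simp [q]⟩
    · intro hz
      obtain ⟨p, rfl⟩ := isConj_iff.1 hz
      exact hq2.conj p _ ⟨d', hdX, rfl⟩
  have hQ2 : Cfsg.pCore 2 (M ⧸ Subgroup.center M) = ⊥ := by
    refine le_bot_iff.mp ((core_two_central hQcl ⟨d', hdX, rfl⟩ ?_).trans hQZ.le)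
    rintro _ ⟨v, hv, rfl⟩ h
    refine congrArg q (Subtype.ext (hlev.sep (d : K) hd (v : K) hv.1 (hne d hd) (hne _ hv.1) fun e he => ?_).symm)
    by_cases heX : e ∈ X
    · have := h (q ⟨e, hmX heX⟩) ⟨_, heX, rfl⟩
      constructor
      · intro hh
        exact congrArg Subtype.val (hcomm v hv _ heX (this.1 (Commute.map (Subtype.ext hh.eq) q))).eq
      · intro hh
        exact congrArg Subtype.val (hcomm d' hdX _ heX (this.2 (Commute.map (Subtype.ext hh.eq) q))).eq
    · exact iff_of_false (hout d hdX e he heX) (hout _ hv e he heX)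
  have hQ3 : Cfsg.pCore 3 (M ⧸ Subgroup.center M) = ⊥ := by
    refine le_bot_iff.mp ((core_three_central hQcl ⟨d', hdX, rfl⟩ ?_).trans hQZ.le)
    rintro _ ⟨v, hv, rfl⟩ h
    refine congrArg q (Subtype.ext (hW (d : K) hd (v : K) hv.1 fun e he => ?_).symm)
    by_cases heX : e ∈ X
    · have := h (q ⟨e, hmX heX⟩) ⟨_, heX, rfl⟩
      constructor
      · rintro ⟨hh1, hh2⟩
        obtain ⟨k1, k2⟩ := this.1 ⟨fun e' => hh1 (congrArg Subtype.val (hinj heX hdX e')),
          Commute.map (Subtype.ext hh2.eq) q⟩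
        exact ⟨fun e' => k1 (congrArg q (Subtype.ext e')), congrArg Subtype.val (hcomm v hv _ heX k2).eq⟩
      · rintro ⟨hh1, hh2⟩
        obtain ⟨k1, k2⟩ := this.2 ⟨fun e' => hh1 (congrArg Subtype.val (hinj heX hv e')),
          Commute.map (Subtype.ext hh2.eq) q⟩
        exact ⟨fun e' => k1 (congrArg q (Subtype.ext e')), congrArg Subtype.val (hcomm d' hdX _ heX k2).eq⟩
    · exact iff_of_false (fun hh => hout d hdX e he heX hh.2) fun hh => hout _ hv e he heX hh.2
  have hQc : (Cfsg.commutingGraph (q '' X')).Connected := by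
    have hr : ∀ x, ∀ _ : Linked E d x, ∀ hxX : x ∈ X, (Cfsg.commutingGraph (q '' X')).Reachable
        ⟨q d', d', hdX, rfl⟩ ⟨q ⟨x, hmX hxX⟩, ⟨x, hmX hxX⟩, hxX, rfl⟩ := by
      intro x hx
      induction hx with
      | refl => intro _; exact SimpleGraph.Reachable.refl _
      | @tail p r hdp hpq ih =>
        intro hqX
        have hpX : p ∈ X := ⟨hpq.1, hdp⟩
        refine (ih hpX).trans ?_
        by_cases he : p = r
        · subst he; exact SimpleGraph.Reachable.refl _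
        · refine SimpleGraph.Adj.reachable ?_
          rw [Cfsg.commutingGraph, SimpleGraph.fromRel_adj]
          refine ⟨fun e => he (congrArg Subtype.val (hinj (x₁ := ⟨p, hmX hpX⟩) hpX (x₂ := ⟨r, hmX hqX⟩) hqX
            (congrArg Subtype.val e :))), Or.inl (Commute.map (Subtype.ext hpq.2.2.eq) q)⟩
    haveI : Nonempty ↑(q '' X') := ⟨⟨q d', d', hdX, rfl⟩⟩
    refine ⟨?_⟩
    rintro ⟨_, x, hx, rfl⟩ ⟨_, y, hy, rfl⟩
    exact (hr _ hx.2 hx).symm.trans (hr _ hy.2 hy)
  have hQw : ∃ a ∈ q '' X', ∃ b ∈ q '' X', a ≠ b ∧ Commute a b :=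
    ⟨q d', ⟨d', hdX, rfl⟩, q ⟨t0, hmX (hnX t0 ht0.1)⟩, ⟨_, hnX t0 ht0.1, rfl⟩,
      fun e => ht0.1.2.1 (congrArg Subtype.val (hinj hdX (hnX t0 ht0.1) e)).symm,
      Commute.map (Subtype.ext ht0.1.2.2.eq) q⟩
  have hQp := (Cfsg.Agent.S5361.result hQcl hQZ hQw).2.mpr ⟨hQ2, hQ3, hQc⟩
  have hsimple := M23Rel.Facts.simple_G hQD hQp hQt
  have hlink := connected_of_simple hD hlev.one hd hcX hnc ht0.1 htr hsimple
  refine (Cfsg.Agent.S5361.result hcl hZ ⟨d, hd, t0, ht0.1.1, ht0.1.2.1.symm, ht0.1.2.2⟩).2.mpr ⟨?_, ?_, ?_⟩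
  · refine le_bot_iff.mp ((core_two_central hcl hd fun v hv h => ?_).trans hZ.le)
    exact (hlev.sep d hd v hv (hne d hd) (hne v hv) h).symm
  · exact le_bot_iff.mp ((core_three_central hcl hd fun v hv h => (hW d hd v hv h).symm).trans hZ.le)
  · have hr : ∀ x, Linked E d x → ∀ hx : x ∈ E, (Cfsg.commutingGraph E).Reachable ⟨d, hd⟩ ⟨x, hx⟩ := by
      intro x hx
      induction hx with
      | refl => intro _; exact SimpleGraph.Reachable.refl _
      | @tail p q hdp hpq ih =>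
        intro hq
        refine (ih hpq.1).trans ?_
        by_cases he : p = q
        · subst he; exact SimpleGraph.Reachable.refl _
        · refine SimpleGraph.Adj.reachable ?_
          rw [Cfsg.commutingGraph, SimpleGraph.fromRel_adj]
          exact ⟨fun e => he (congrArg Subtype.val e), Or.inl hpq.2.2⟩
    haveI : Nonempty E := ⟨⟨d, hd⟩⟩
    exact ⟨fun u v => (hr _ (hlink u u.2) u.2).symm.trans (hr _ (hlink v v.2) v.2)⟩

end Cfsg.Agent.Spor.M24Rel.Conn
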