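import Mathlib

/-!
The trace obstruction for a strongly regular graph whose eigenvalues are irrational.
-/

set_option autoImplicit false

namespace Cfsg.Agent.Spor.M24Rel.Srg

open Matrix

variable {V : Type*} [Fintype V] [DecidableEq V]

theorem idem_trace (E : Matrix V V ℝ) (h : E * E = E) : ∃ n : ℕ, E.trace = n := by
  have hi : IsIdempotentElem (Matrix.toLin' E) := by
    show Matrix.toLin' E * Matrix.toLin' E = Matrix.toLin' E
    rw [Module.End.mul_eq_comp, ← Matrix.toLin'_mul, h]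
  refine ⟨Module.finrank ℝ (LinearMap.range (Matrix.toLin' E)), ?_⟩
  rw [← Matrix.trace_toLin'_eq]
  exact LinearMap.IsProj.trace (LinearMap.IsIdempotentElem.isProj_range _ hi)

theorem trace_obstruction (A : Matrix V V ℝ) {k s e m : ℝ} (hv : (Fintype.card V : ℝ) ≠ 0)
    (hA : A * A = s • A + e • 1 + m • Matrix.of (fun _ _ => (1 : ℝ)))
    (hAJ : A * Matrix.of (fun _ _ => (1 : ℝ)) = k • Matrix.of (fun _ _ => (1 : ℝ)))
    (hJA : Matrix.of (fun _ _ => (1 : ℝ)) * A = k • Matrix.of (fun _ _ => (1 : ℝ)))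
    (htr : A.trace = 0) (hΔ : 0 < s ^ 2 + 4 * e) :
    ∃ j : ℤ, -(s * ((Fintype.card V : ℝ) - 1)) - 2 * k = j * Real.sqrt (s ^ 2 + 4 * e) := by
  set J : Matrix V V ℝ := Matrix.of (fun _ _ => (1 : ℝ)) with hJ
  set v : ℝ := (Fintype.card V : ℝ)
  set Δ := s ^ 2 + 4 * e with hΔdef
  have hJJ : J * J = v • J := by
    ext i j
    simp [hJ, Matrix.mul_apply, v]
  have hJtr : J.trace = v := by simp [hJ, Matrix.trace, v]
  obtain ⟨M, hM⟩ : ∃ M, M = (2 : ℝ) • A - s • (1 : Matrix V V ℝ) := ⟨_, rfl⟩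
  obtain ⟨P, hP⟩ : ∃ P, P = (1 : Matrix V V ℝ) - v⁻¹ • J := ⟨_, rfl⟩
  have hMJ : M * J = (2 * k - s) • J := by
    rw [hM, Matrix.sub_mul, Matrix.smul_mul, hAJ, Matrix.smul_mul, Matrix.one_mul, smul_smul, ← sub_smul]
  have hJM : J * M = (2 * k - s) • J := by
    rw [hM, Matrix.mul_sub, Matrix.mul_smul, hJA, Matrix.mul_smul, Matrix.mul_one, smul_smul, ← sub_smul]
  have hMM : M * M = Δ • (1 : Matrix V V ℝ) + (4 * m) • J := by
    rw [hM, Matrix.sub_mul, Matrix.mul_sub, Matrix.mul_sub, Matrix.smul_mul, Matrix.mul_smul, hA,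
      Matrix.smul_mul, Matrix.mul_smul, Matrix.mul_one, Matrix.smul_mul, Matrix.mul_smul, Matrix.one_mul,
      Matrix.smul_mul, Matrix.mul_smul, Matrix.one_mul, hΔdef]
    module
  have hJP : J * P = 0 := by
    rw [hP, Matrix.mul_sub, Matrix.mul_one, Matrix.mul_smul, hJJ, smul_smul, inv_mul_cancel₀ hv, one_smul,
      sub_self]
  have hPP : P * P = P := by
    calc P * P = (1 - v⁻¹ • J) * P := by rw [← hP]
      _ = P - v⁻¹ • (J * P) := by rw [Matrix.sub_mul, Matrix.one_mul, Matrix.smul_mul]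
      _ = P := by rw [hJP, smul_zero, sub_zero]
  have hPM : P * M = M * P := by
    rw [hP, Matrix.sub_mul, Matrix.mul_sub, Matrix.smul_mul, Matrix.mul_smul, hJM, hMJ, one_mul, mul_one]
  obtain ⟨N, hN⟩ : ∃ N, N = M * P := ⟨_, rfl⟩
  have hPN : P * N = N := by rw [hN, ← Matrix.mul_assoc, hPM, Matrix.mul_assoc, hPP]
  have hNP : N * P = N := by rw [hN, Matrix.mul_assoc, hPP]
  have hNN : N * N = Δ • P := by
    calc N * N = M * (P * M) * P := by rw [hN]; simp only [Matrix.mul_assoc]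
      _ = M * M * (P * P) := by rw [hPM]; simp only [Matrix.mul_assoc]
      _ = Δ • P := by
          rw [hPP, hMM, Matrix.add_mul, Matrix.smul_mul, Matrix.one_mul, Matrix.smul_mul, hJP, smul_zero, add_zero]
  set c := (Real.sqrt Δ)⁻¹ with hc
  have hcc : c * c * Δ = 1 := by
    rw [hc, ← mul_inv, Real.mul_self_sqrt hΔ.le, inv_mul_cancel₀ hΔ.ne']
  have hidem : ∀ σ : ℝ, σ * σ * Δ = 1 → ((1 / 2 : ℝ) • (P + σ • N)) * ((1 / 2 : ℝ) • (P + σ • N)) =
      (1 / 2 : ℝ) • (P + σ • N) := by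
    intro σ hσ
    rw [Matrix.smul_mul, Matrix.mul_smul, smul_smul, Matrix.add_mul, Matrix.mul_add, Matrix.mul_add,
      Matrix.smul_mul, Matrix.smul_mul, Matrix.mul_smul, Matrix.mul_smul, hPP, hPN, hNP, hNN, smul_smul, smul_smul,
      hσ, one_smul]
    module
  obtain ⟨a, ha⟩ := idem_trace _ (hidem c hcc)
  obtain ⟨b, hb⟩ := idem_trace _ (hidem (-c) (by linear_combination hcc))
  rw [Matrix.trace_smul, Matrix.trace_add, Matrix.trace_smul, smul_eq_mul, smul_eq_mul] at ha hb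
  have hNtr : N.trace = -(s * (v - 1)) - 2 * k := by
    rw [hN, hP, Matrix.mul_sub, Matrix.mul_one, Matrix.mul_smul, hMJ, smul_smul, Matrix.trace_sub,
      Matrix.trace_smul, hJtr, hM, Matrix.trace_sub, Matrix.trace_smul, htr, Matrix.trace_smul, Matrix.trace_one,
      smul_eq_mul, smul_eq_mul, smul_eq_mul]
    field_simp
    ring
  refine ⟨(a : ℤ) - b, ?_⟩
  rw [← hNtr]
  have h1 : c * N.trace = (a : ℝ) - b := by rw [← ha, ← hb]; ring
  have hs : Real.sqrt Δ ≠ 0 := (Real.sqrt_pos.mpr hΔ).ne'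
  push_cast
  rw [← h1, hc]
  field_simp

theorem no_srg (A : Matrix V V ℝ) {k s e m : ℝ} {n : ℕ} (hv : (Fintype.card V : ℝ) ≠ 0)
    (hA : A * A = s • A + e • 1 + m • Matrix.of (fun _ _ => (1 : ℝ)))
    (hAJ : A * Matrix.of (fun _ _ => (1 : ℝ)) = k • Matrix.of (fun _ _ => (1 : ℝ)))
    (hJA : Matrix.of (fun _ _ => (1 : ℝ)) * A = k • Matrix.of (fun _ _ => (1 : ℝ)))
    (htr : A.trace = 0) (hn : s ^ 2 + 4 * e = (n : ℝ)) (hn0 : 0 < n) (hsq : ¬ IsSquare n)
    {T : ℤ} (hT : -(s * ((Fintype.card V : ℝ) - 1)) - 2 * k = (T : ℝ)) : T = 0 := by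
  obtain ⟨j, hj⟩ := trace_obstruction A hv hA hAJ hJA htr (by rw [hn]; exact_mod_cast hn0)
  rw [hn, hT] at hj
  by_contra hne
  rcases eq_or_ne j 0 with rfl | hj0
  · simp at hj; exact hne hj
  have hirr : Irrational (Real.sqrt n) := irrational_sqrt_natCast_iff.mpr hsq
  exact ((hirr.intCast_mul hj0).ne_int T) hj.symm

end Cfsg.Agent.Spor.M24Rel.Srg
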