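import Cfsg.Agent.Lib.Spor.M24RelCent
import Cfsg.Agent.Lib.Spor.M24RelSrg
import Cfsg.Agent.Lib.Fischer.Transitive
import Cfsg.Agent.Lib.Classical.OrthPOmega

/-!
A group of type M(24) has 306936 transpositions.
-/

set_option autoImplicit false
set_option maxRecDepth 100000
set_option linter.unusedSectionVars false

namespace Cfsg.Agent.Spor.M24Rel.Count

open Cfsg.Agent.Spor.M22U (nset)
open Cfsg.Agent.Spor.M23Rel

theorem ncard_class {X : Type*} [Group X] [Finite X] {E : Set X} (hE : Cfsg.IsThreeTranspositionGroup E)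
    (hp : Cfsg.IsPrimitiveUnderConj E) {x : X} (hx : x ∈ E) :
    E.ncard * Nat.card (Subgroup.centralizer ({x} : Set X)) = Nat.card X := by
  have e : E = (fun g : X => g * x * g⁻¹) '' ((⊤ : Subgroup X) : Set X) := by
    ext y
    constructor
    · intro hy
      obtain ⟨g, hg⟩ := hp.1 x hx y hy
      exact ⟨g, Subgroup.mem_top g, hg⟩
    · rintro ⟨g, -, rfl⟩
      exact hE.2.1 g x hx
  conv_lhs => rw [e, Spor.conj_image_ncard, Subgroup.relIndex_top_right]
  exact Subgroup.index_mul_card _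

theorem card_pomega : Nat.card (Cfsg.POmega (ZMod 3) (Cfsg.quadFormPlus 4 (ZMod 3))) = 4952179814400 := by
  have h := Classical.OOmega.card_POmega_plus (F := ZMod 3) (m := 4) (by norm_num)
  rw [ZMod.card] at h
  rw [show Nat.gcd 4 (3 ^ 4 - 1) = 4 from rfl, show 3 ^ (4 * (4 - 1)) * (3 ^ 4 - 1) *
    ∏ i ∈ Finset.range (4 - 1), (3 ^ (2 * (i + 1)) - 1) = 4 * 4952179814400 from by decide +kernel] at h
  exact Nat.eq_of_mul_eq_mul_left (by norm_num : (0:ℕ) < 4) h

variable {G : Type*} [Group G] [Finite G] {D : Set G}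

/-- the common neighbours of two commuting members -/
theorem ncard_adj (hS : ∀ x ∈ D, Fix.Setting D x) {d a : G} (hd : d ∈ D) (ha : a ∈ nset D d) :
    (nset D d ∩ nset D a).ncard = 3510 := by
  have S := hS d hd
  have hE := S.pre
  set a' := S.img a ha
  have ha' : a' ∈ nextSet D d := S.img_mem ha
  have S' := M23Rel.Shift.setting_of S.group S.next_prim S.next ha'
  have h3510 : (nextSet (nextSet D d) a').ncard = 3510 := by
    obtain ⟨z, hz⟩ := S'.exists_member
    have hz' : S'.img z hz ∈ nextSet (nextSet D d) a' := ⟨_, hz, rfl⟩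
    have h := ncard_class S'.group S'.next_prim hz'
    rw [(M22U.Facts.cover_at S'.group S'.next_prim S'.next hz').1,
      M22U.Facts.card_G S'.group S'.next_prim S'.next] at h
    omega
  rw [← h3510]
  have h1 : (nset D d ∩ nset D a).ncard = (nset (nextSet D d) a').ncard := by
    refine Set.ncard_congr (fun y hy => S.img y hy.1) ?_ ?_ ?_
    · intro y hy
      refine ⟨S.img_mem hy.1, fun e => hy.2.2.1 (S.img_inj hy.1 ha e), ?_⟩
      exact (Commute.map (Subtype.ext hy.2.2.2.eq : Commute (⟨a, Subgroup.subset_closure ha⟩ :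
        ↥(Subgroup.closure (nset D d))) ⟨y, Subgroup.subset_closure hy.1⟩)
        (QuotientGroup.mk' (Subgroup.center ↥(Subgroup.closure (nset D d)))) :)
    · intro p q hp hq e; exact S.img_inj hp.1 hq.1 e
    · rintro _ ⟨⟨⟨y, hyH⟩, hy, rfl⟩, hne, hc⟩
      exact ⟨y, ⟨hy, hy.1, fun e => hne (by subst e; rfl), commute_lift hE d ha hy hc⟩, rfl⟩
  rw [h1]
  refine Set.ncard_congr (fun y hy => S'.img y hy) (fun y hy => ⟨_, hy, rfl⟩)
    (fun p q hp hq e => S'.img_inj hp hq e) ?_
  rintro _ ⟨⟨y, hyH⟩, hy, rfl⟩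
  exact ⟨y, hy, rfl⟩

/-- the standing facts -/
structure Base (D : Set G) : Prop where
  set : ∀ x ∈ D, Fix.Setting D x
  hyp : Fischer.Hyp D
  big : ∃ d ∈ D, ∃ c ∈ D, ¬ Commute d c ∧
    29713078886400 ∣ Nat.card ↥(Subgroup.centralizer ({d} : Set G) ⊓ Subgroup.centralizer ({c} : Set G))

theorem base_of (hD : Cfsg.IsThreeTranspositionGroup D) (hprim : Cfsg.IsPrimitiveUnderConj D)
    (ht : Cfsg.IsOfTypeM24 G D) : Base D := by
  have hS : ∀ x ∈ D, Fix.Setting D x := fun x hx => Fix.setting_of hD hprim ht hx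
  obtain ⟨-, d, hd, c, hc, hnc, -, N, hN, ⟨φ⟩, ⟨ψ⟩⟩ := ht
  refine ⟨hS, ⟨class_of_primitive hD hprim, hprim, ?_⟩, d, hd, c, hc, hnc, ?_⟩
  · obtain ⟨y, hy⟩ := (hS d hd).exists_member
    exact ⟨d, hd, y, hy.1, hy.2.1.symm, hy.2.2⟩
  · set L := Subgroup.closure (nset D d ∩ nset D c)
    have hle : L ≤ Subgroup.centralizer ({d} : Set G) ⊓ Subgroup.centralizer ({c} : Set G) :=
      (Subgroup.closure_le _).2 fun y hy => ⟨Subgroup.mem_centralizer_singleton_iff.mpr hy.1.2.2.symm.eq,
        Subgroup.mem_centralizer_singleton_iff.mpr hy.2.2.2.symm.eq⟩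
    have h6 : Nat.card (↥L ⧸ Subgroup.center ↥L) = 29713078886400 := by
      rw [Subgroup.card_eq_card_quotient_mul_card_subgroup N, Nat.card_congr ψ.toEquiv,
        Nat.card_congr φ.toEquiv, card_pomega, Nat.card_perm, Nat.card_eq_fintype_card, Fintype.card_fin]
      rfl
    rw [← h6]
    exact (Subgroup.card_quotient_dvd_card (Subgroup.center ↥L)).trans (Subgroup.card_dvd_of_le hle)

variable (B : Base D)

include B

/-- the members not commuting with one member -/
def outs (_B : Base D) (d : G) : Set G := {y | y ∈ D ∧ ¬ Commute d y}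

theorem com_const {d c e : G} (hd : d ∈ D) (hc : c ∈ outs B d) (he : e ∈ outs B d) :
    (nset D d ∩ nset D c).ncard = (nset D d ∩ nset D e).ncard := by
  have hE := (B.set d hd).pre
  obtain ⟨g, hg, hge⟩ := B.hyp.outside_transitive hd hc.1 he.1 hc.2 he.2
  have him : (MulAut.conj g : G ≃* G) '' D = D := by
    ext y
    constructor
    · rintro ⟨u, hu, rfl⟩; exact hE.conj g u hu
    · intro hy
      exact ⟨g⁻¹ * y * g, (Spor.conj_mem_iff hE.conj g).1 hy, by
        show g * (g⁻¹ * y * g) * g⁻¹ = y; group⟩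
  have hgd : (MulAut.conj g : G ≃* G) d = d := mul_inv_eq_iff_eq_mul.mpr hg.eq
  have h := M23Rel.Shift.map_nset_inter (MulAut.conj g : G ≃* G) D d c
  rw [him, hgd, show (MulAut.conj g : G ≃* G) c = e from hge] at h
  rw [← h, Set.ncard_image_of_injective _ (MulAut.conj g : G ≃* G).injective]

theorem part {d : G} (hd : d ∈ D) : D.ncard = 31672 + (outs B d).ncard := by
  have e : D = insert d (nset D d) ∪ outs B d := by
    ext y
    constructor
    · intro hy
      by_cases hc : Commute d y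
      · by_cases he : y = d
        · exact Or.inl (Or.inl he)
        · exact Or.inl (Or.inr ⟨hy, he, hc⟩)
      · exact Or.inr ⟨hy, hc⟩
    · rintro ((rfl | h) | h)
      exacts [hd, h.1, h.1]
  conv_lhs => rw [e]
  rw [Set.ncard_union_eq ?_ (Set.toFinite _) (Set.toFinite _), Set.ncard_insert_of_notMem (fun h => h.2.1 rfl),
    Cent.ncard_nset B.set hd]
  rw [Set.disjoint_left]
  rintro y (rfl | h) h'
  exacts [h'.2 (Commute.refl _), h'.2 h.2.2]

theorem double_count {d c : G} (hd : d ∈ D) (hc : c ∈ outs B d) :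
    (outs B d).ncard * (nset D d ∩ nset D c).ncard = 891855360 := by
  classical
  have := Fintype.ofFinite G
  have h := Finset.card_mul_eq_card_mul (fun a b : G => Commute a b) (s := (nset D d).toFinset)
    (t := (outs B d).toFinset) (m := 28160) (n := (nset D d ∩ nset D c).ncard) ?_ ?_
  · rw [← Set.ncard_eq_toFinset_card', ← Set.ncard_eq_toFinset_card', Cent.ncard_nset B.set hd] at h
    rw [← h]
  · intro a ha
    rw [Set.mem_toFinset] at ha
    have e : nset D a = insert d (nset D d ∩ nset D a) ∪ {y | y ∈ outs B d ∧ Commute a y} := by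
      ext y
      constructor
      · intro hy
        by_cases hcy : Commute d y
        · by_cases he : y = d
          · exact Or.inl (Or.inl he)
          · exact Or.inl (Or.inr ⟨⟨hy.1, he, hcy⟩, hy⟩)
        · exact Or.inr ⟨⟨hy.1, hcy⟩, hy.2.2⟩
      · rintro ((rfl | ⟨-, h⟩) | ⟨h, h'⟩)
        · exact ⟨hd, ha.2.1.symm, ha.2.2.symm⟩
        · exact h
        · exact ⟨h.1, fun e => h.2 (e ▸ ha.2.2), h'⟩
    have h1 := congrArg Set.ncard e
    rw [Set.ncard_union_eq ?_ (Set.toFinite _) (Set.toFinite _), Set.ncard_insert_of_notMem (fun h => h.1.2.1 rfl),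
      ncard_adj B.set hd ha, Cent.ncard_nset B.set ha.1] at h1
    · rw [show (outs B d).toFinset.bipartiteAbove (fun a b : G => Commute a b) a =
        {y | y ∈ outs B d ∧ Commute a y}.toFinset by ext y; simp, ← Set.ncard_eq_toFinset_card']
      omega
    · rw [Set.disjoint_left]
      rintro y (rfl | h) h'
      exacts [h'.1.2 (Commute.refl _), h'.1.2 h.1.2.2]
  · intro b hb
    rw [Set.mem_toFinset] at hb
    rw [show (nset D d).toFinset.bipartiteBelow (fun a b : G => Commute a b) b =
      (nset D d ∩ nset D b).toFinset by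
        ext y
        simp only [Finset.mem_bipartiteBelow, Set.mem_toFinset, Set.mem_inter_iff]
        constructor
        · rintro ⟨hy, hyb⟩
          exact ⟨hy, hy.1, fun e => hb.2 (e ▸ hy.2.2), hyb.symm⟩
        · exact fun h => ⟨h.1, h.2.2.2.symm⟩,
      ← Set.ncard_eq_toFinset_card']
    exact com_const B hd hb hc

theorem outs_mul {d c : G} (hd : d ∈ D) (hc : c ∈ outs B d) :
    (outs B d).ncard * Nat.card ↥(Subgroup.centralizer ({d} : Set G) ⊓ Subgroup.centralizer ({c} : Set G)) =
      2 * 4089470473293004800 := by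
  set C := Subgroup.centralizer ({d} : Set G)
  have e : outs B d = (fun g : G => g * c * g⁻¹) '' (C : Set G) := by
    ext y
    constructor
    · intro hy
      obtain ⟨g, hg, hge⟩ := B.hyp.outside_transitive hd hc.1 hy.1 hc.2 hy.2
      exact ⟨g, Subgroup.mem_centralizer_singleton_iff.mpr hg.eq, hge⟩
    · rintro ⟨g, hg, rfl⟩
      exact ⟨(B.set d hd).pre.conj g c hc.1, fun h => hc.2
        ((Fischer.Hyp.conj_commute (Subgroup.mem_centralizer_singleton_iff.mp hg)).1 h)⟩
  rw [← Cent.card_cent B.set hd, e, Spor.conj_image_ncard, inf_comm, Subgroup.relIndex,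
    ← Nat.card_congr (Subgroup.subgroupOfEquivOfLe (inf_le_right :
      Subgroup.centralizer ({c} : Set G) ⊓ C ≤ C)).toEquiv, Subgroup.inf_subgroupOf_right]
  exact Subgroup.index_mul_card _

theorem exists_outs {d : G} (hd : d ∈ D) : ∃ c, c ∈ outs B d := by
  obtain ⟨x, hx, hn⟩ := Spor.exists_braid B.hyp.cls B.hyp.prim.2.1 hd
  exact ⟨x, hx, hn⟩

theorem outs_le_cases : ∃ t, (t = 1 ∨ t = 2 ∨ t = 4 ∨ t = 8) ∧
    ∀ d ∈ D, t * (outs B d).ncard = 275264 ∧ ∀ c ∈ outs B d, (nset D d ∩ nset D c).ncard = 3240 * t := by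
  obtain ⟨d0, hd0, c0, hc0, hnc0, k, hk⟩ := B.big
  have hc : c0 ∈ outs B d0 := ⟨hc0, hnc0⟩
  have h1 := outs_mul B hd0 hc
  rw [hk] at h1
  have hk1 : (outs B d0).ncard * k = 275264 :=
    Nat.eq_of_mul_eq_mul_right (show 0 < 29713078886400 by norm_num) (by rw [mul_right_comm, mul_assoc]; exact h1)
  have hle : (nset D d0 ∩ nset D c0).ncard ≤ 31671 :=
    (Set.ncard_le_ncard Set.inter_subset_left (Set.toFinite _)).trans (Cent.ncard_nset B.set hd0).le
  have h2 := double_count B hd0 hc
  have hpos : 0 < (outs B d0).ncard := (Set.ncard_pos (Set.toFinite _)).mpr ⟨c0, hc⟩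
  have hμ : (nset D d0 ∩ nset D c0).ncard = 3240 * k := by
    apply Nat.eq_of_mul_eq_mul_left hpos
    rw [h2, mul_left_comm, hk1]
    rfl
  have hk9 : k ≤ 9 := by omega
  have hkd : k ∣ 275264 := ⟨_, by rw [mul_comm]; exact hk1.symm⟩
  refine ⟨k, ?_, fun d hd => ?_⟩
  · interval_cases k <;> omega
  · have he : (outs B d).ncard = (outs B d0).ncard := by
      have := part B hd; have := part B hd0; omega
    refine ⟨by rw [he, mul_comm, hk1], fun c hcd => ?_⟩
    apply Nat.eq_of_mul_eq_mul_left hpos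
    rw [← he, double_count B hd hcd, mul_left_comm, he, hk1]
    rfl

theorem ncard_D : D.ncard = 306936 := by
  classical
  obtain ⟨t, ht, hall⟩ := outs_le_cases B
  obtain ⟨d0, hd0, -⟩ := B.big
  have hv := part B hd0
  have h0 := (hall d0 hd0).1
  rcases ht with rfl | ht'
  · omega
  exfalso
  have := Fintype.ofFinite G
  let r : D → D → Prop := fun x y => (y : G) ∈ nset D x
  have hcard : ∀ x : D, (Finset.univ.filter (r x)).card = 31671 := fun x => by
    rw [← Cent.ncard_nset B.set x.2, Set.ncard_eq_toFinset_card']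
    refine Finset.card_bij (fun y _ => (y : G)) (fun y hy => Set.mem_toFinset.mpr (Finset.mem_filter.mp hy).2) (fun a _ b _ e => Subtype.ext e) ?_
    intro y hy
    rw [Set.mem_toFinset] at hy
    exact ⟨⟨y, hy.1⟩, Finset.mem_filter.mpr ⟨Finset.mem_univ _, hy⟩, rfl⟩
  have hsymm : ∀ x y : D, r x y ↔ r y x := fun x y =>
    ⟨fun h => ⟨x.2, h.2.1.symm, h.2.2.symm⟩, fun h => ⟨y.2, h.2.1.symm, h.2.2.symm⟩⟩
  have hcom : ∀ x y : D, (Finset.univ.filter fun z => r x z ∧ r y z).card = (nset D x ∩ nset D y).ncard := fun x y => by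
    rw [Set.ncard_eq_toFinset_card']
    refine Finset.card_bij (fun z _ => (z : G)) (fun z hz => Set.mem_toFinset.mpr (Finset.mem_filter.mp hz).2) (fun a _ b _ e => Subtype.ext e) ?_
    intro z hz
    rw [Set.mem_toFinset] at hz
    exact ⟨⟨z, hz.1.1⟩, Finset.mem_filter.mpr ⟨Finset.mem_univ _, hz⟩, rfl⟩
  let A : Matrix D D ℝ := Matrix.of fun x y => if r x y then 1 else 0
  have hA : A * A = ((3510 : ℝ) - 3240 * t) • A + ((31671 : ℝ) - 3240 * t) • 1 +
      ((3240 : ℝ) * t) • Matrix.of (fun _ _ => (1 : ℝ)) := by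
    ext x y
    have hl : (A * A) x y = ((Finset.univ.filter fun z => r x z ∧ r y z).card : ℝ) := by
      rw [Matrix.mul_apply, Finset.card_filter, Nat.cast_sum]
      refine Finset.sum_congr rfl fun z _ => ?_
      simp only [A, Matrix.of_apply, hsymm z y]
      by_cases h1 : r x z <;> by_cases h2 : r y z <;> simp [h1, h2]
    rw [hl, hcom]
    simp only [Matrix.add_apply, Matrix.smul_apply, Matrix.of_apply, A, Matrix.one_apply, smul_eq_mul]
    by_cases hxy : x = y
    · subst hxy
      rw [Set.inter_self, Cent.ncard_nset B.set x.2, if_neg (fun h : r x x => h.2.1 rfl), if_pos rfl]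
      push_cast; ring
    rw [if_neg hxy]
    have hne : (y : G) ≠ x := fun e => hxy (Subtype.ext e.symm)
    by_cases hc : Commute (x : G) y
    · rw [if_pos (show r x y from ⟨y.2, hne, hc⟩), ncard_adj B.set x.2 ⟨y.2, hne, hc⟩]
      push_cast; ring
    · rw [if_neg (fun h : r x y => hc h.2.2), (hall x x.2).2 y ⟨y.2, hc⟩]
      push_cast; ring
  have hAJ : A * Matrix.of (fun _ _ => (1 : ℝ)) = (31671 : ℝ) • Matrix.of (fun _ _ => (1 : ℝ)) := by
    ext x y
    simp only [Matrix.mul_apply, Matrix.smul_apply, Matrix.of_apply, A, mul_one, smul_eq_mul]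
    exact (Finset.sum_boole (R := ℝ) _ _).trans (by rw [hcard]; norm_num)
  have hJA : Matrix.of (fun _ _ => (1 : ℝ)) * A = (31671 : ℝ) • Matrix.of (fun _ _ => (1 : ℝ)) := by
    ext x y
    simp only [Matrix.mul_apply, Matrix.smul_apply, Matrix.of_apply, A, one_mul, mul_one, smul_eq_mul]
    refine (Finset.sum_boole (R := ℝ) _ _).trans ?_
    rw [show (Finset.univ.filter fun z => r z y) = Finset.univ.filter (r y) from
      Finset.filter_congr fun z _ => hsymm z y, hcard]
    norm_num
  have htr : A.trace = 0 := Finset.sum_eq_zero fun x _ => if_neg (fun h : r x x => h.2.1 rfl)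
  have hcv : Fintype.card D = D.ncard := by rw [← Nat.card_eq_fintype_card, Nat.card_coe_set_eq]
  have hv0 : (Fintype.card D : ℝ) ≠ 0 := by rw [hcv]; exact_mod_cast (show D.ncard ≠ 0 by omega)
  rcases ht' with rfl | rfl | rfl
  · have hvv : Fintype.card D = 169304 := by omega
    have := Srg.no_srg A (n := 8921664) hv0 hA hAJ hJA htr (by norm_num) (by norm_num) (by decide +kernel)
      (T := (2970 : ℤ) * 169303 - 63342) (by rw [hvv]; norm_num)
    norm_num at this
  · have hvv : Fintype.card D = 100488 := by omega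
    have := Srg.no_srg A (n := 89377344) hv0 hA hAJ hJA htr (by norm_num) (by norm_num) (by decide +kernel)
      (T := (9450 : ℤ) * 100487 - 63342) (by rw [hvv]; norm_num)
    norm_num at this
  · have hvv : Fintype.card D = 66080 := by omega
    have := Srg.no_srg A (n := 502231104) hv0 hA hAJ hJA htr (by norm_num) (by norm_num) (by decide +kernel)
      (T := (22410 : ℤ) * 66079 - 63342) (by rw [hvv]; norm_num)
    norm_num at this

theorem card_G : Nat.card G = 2 ^ 22 * 3 ^ 16 * 5 ^ 2 * 7 ^ 3 * 11 * 13 * 17 * 23 * 29 := by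
  obtain ⟨d, hd, -⟩ := B.big
  have S := B.set d hd
  rw [← ncard_class S.hD S.prim hd, ncard_D B, Cent.card_cent B.set hd]
  norm_num

end Cfsg.Agent.Spor.M24Rel.Count
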