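import Cfsg.Agent.Lib.Spor.M24RelCent
import Cfsg.Agent.Lib.Fischer.Transitive
import Cfsg.Agent.Lib.Spor.Fi23MultMain

/-!
The centralizer of a member of a group of type M(24) has a homomorphism of order two sending the members to
the nontrivial element.
-/

set_option autoImplicit false
set_option maxRecDepth 100000
set_option linter.unusedSectionVars false

namespace Cfsg.Agent.Spor.M24Rel.Eps

open Cfsg.Agent.Spor.M22U (nset)
open Cfsg.Agent.Spor.M23Rel

/-- a finite group with quotient Fi23 by a central kernel inside the derived group is Fi23 -/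
theorem stem_trivial {Γ : Type*} [Group Γ] [Finite Γ] (π : Γ →* Fi23Cert.pres.Grp)
    (hπ : Cfsg.IsStemExtension π) : ∀ k ∈ π.ker, k = 1 := by
  haveI : Small.{0} Γ := inferInstance
  let e : Shrink.{0} Γ ≃* Γ := Shrink.mulEquiv
  haveI : Finite (Shrink.{0} Γ) := Finite.of_equiv _ e.symm.toEquiv
  have hst : Cfsg.IsStemExtension (π.comp e.toMonoidHom) := by
    refine ⟨hπ.1.comp e.surjective, fun x hx => ?_, fun x hx => ?_⟩
    · have h := Subgroup.mem_center_iff.mp (hπ.2.1 (show e x ∈ π.ker from hx))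
      exact Subgroup.mem_center_iff.mpr fun y => e.injective (by rw [map_mul, map_mul]; exact h (e y))
    · have hm : (commutator (Shrink.{0} Γ)).map e.toMonoidHom = commutator Γ := by
        rw [commutator_def, commutator_def, Subgroup.map_commutator,
          Subgroup.map_top_of_surjective _ e.surjective]
      have h := hπ.2.2 (show e x ∈ π.ker from hx)
      rw [← hm] at h
      obtain ⟨y, hy, hye⟩ := h
      exact e.injective hye ▸ hy
  intro k hk
  have h := Fi23Cert.Mult.ker_trivial hst (e.symm k) (by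
    show π (e (e.symm k)) = 1
    rw [e.apply_symm_apply]; exact hk)
  rw [← e.apply_symm_apply k, h, map_one]

variable {G : Type*} [Group G] [Finite G] {D : Set G}

theorem mem_cent {d y : G} (hy : y ∈ nset D d) : y ∈ Subgroup.centralizer ({d} : Set G) :=
  Subgroup.mem_centralizer_singleton_iff.mpr hy.2.2.symm.eq

theorem self_cent (d : G) : d ∈ Subgroup.centralizer ({d} : Set G) :=
  Subgroup.mem_centralizer_singleton_iff.mpr rfl

theorem exists_eps (hS : ∀ x ∈ D, Fix.Setting D x) (hyp : Fischer.Hyp D) {d : G} (hd : d ∈ D) :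
    ∃ ε : Subgroup.centralizer ({d} : Set G) →* ℤˣ,
      (∀ (y : G) (hy : y ∈ nset D d), ε ⟨y, mem_cent hy⟩ = -1) ∧ ε ⟨d, self_cent d⟩ = -1 := by
  classical
  have S := hS d hd
  have hE := S.pre
  set H := Subgroup.closure (nset D d) with hH
  obtain ⟨y0, hy0⟩ := S.exists_member
  set q := QuotientGroup.mk' (commutator ↥H)
  set a := q ⟨y0, Subgroup.subset_closure hy0⟩ with ha
  have hgen : ∀ y (hy : y ∈ nset D d), q ⟨y, Subgroup.subset_closure hy⟩ = a := by
    intro y hy
    obtain ⟨g, hg, hgy⟩ := hyp.nbr_transitive hd hy0 hy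
    have e : (⟨y, Subgroup.subset_closure hy⟩ : ↥H) = ⟨g, hg⟩ * ⟨y0, Subgroup.subset_closure hy0⟩ * ⟨g, hg⟩⁻¹ :=
      Subtype.ext hgy.symm
    have hab : Commute (q ⟨g, hg⟩) a := by
      have : IsMulCommutative (↥H ⧸ commutator ↥H) :=
        Subgroup.Normal.quotient_commutative_iff_commutator_le.2 le_rfl
      exact this.1.1 _ _
    rw [e, map_mul, map_mul, map_inv, ← ha, hab.eq, mul_inv_cancel_right]
  have haa : a * a = 1 := by
    rw [ha, ← map_mul, show (⟨y0, Subgroup.subset_closure hy0⟩ : ↥H) * ⟨y0, Subgroup.subset_closure hy0⟩ = 1 from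
      Subtype.ext (hE.sq _ hy0.1), map_one]
  have hall : ∀ z : ↥H ⧸ commutator ↥H, z = 1 ∨ z = a := by
    intro z
    obtain ⟨⟨u, hu⟩, rfl⟩ := QuotientGroup.mk'_surjective _ z
    induction hu using Subgroup.closure_induction'' with
    | one => exact Or.inl (map_one q)
    | mem y hy => exact Or.inr (hgen y hy)
    | inv_mem y hy =>
      refine Or.inr ?_
      rw [show (⟨y⁻¹, H.inv_mem (Subgroup.subset_closure hy)⟩ : ↥H) = (⟨y, Subgroup.subset_closure hy⟩)⁻¹ from rfl,
        map_inv, hgen y hy]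
      exact inv_eq_of_mul_eq_one_right haa
    | mul u v hu hv iu iv =>
      rw [show (⟨u * v, H.mul_mem hu hv⟩ : ↥H) = ⟨u, hu⟩ * ⟨v, hv⟩ from rfl, map_mul]
      rcases iu with e1 | e1 <;> rcases iv with e2 | e2 <;> rw [e1, e2]
      · exact Or.inl (mul_one 1)
      · exact Or.inr (one_mul a)
      · exact Or.inr (mul_one a)
      · exact Or.inl haa
  have ha1 : a ≠ 1 := by
    intro h1
    have hperf : commutator ↥H = ⊤ := by
      rw [eq_top_iff]
      intro u _
      rcases hall (q u) with h | h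
      · exact (QuotientGroup.eq_one_iff u).mp h
      · exact (QuotientGroup.eq_one_iff u).mp (h.trans h1)
    obtain ⟨e, -⟩ := Cent.exists_coord hS hd
    let π : ↥H →* Fi23Cert.pres.Grp := e.symm.toMonoidHom.comp (QuotientGroup.mk' (Subgroup.center ↥H))
    have hst : Cfsg.IsStemExtension π := by
      refine ⟨e.symm.surjective.comp (QuotientGroup.mk'_surjective _), fun x hx => ?_, by rw [hperf]; exact le_top⟩
      exact (QuotientGroup.eq_one_iff x).mp (e.symm.injective ((MonoidHom.mem_ker.mp hx).trans (map_one e.symm).symm))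
    have hk := stem_trivial π hst ⟨d, Cent.mem_closure hS hd⟩ (by
      show e.symm (QuotientGroup.mk _) = 1
      rw [(mk_eq_one_iff d).mpr fun y hy => hy.2.2, map_one])
    exact S.ne_one d hd (congrArg Subtype.val hk)
  let f : ↥H ⧸ commutator ↥H →* ℤˣ := MonoidHom.mk' (fun z => if z = 1 then 1 else -1) fun u v => by
    rcases hall u with rfl | rfl <;> rcases hall v with rfl | rfl <;> simp [haa, ha1]
  let ε : Subgroup.centralizer ({d} : Set G) →* ℤˣ :=
    (f.comp q).comp (MulEquiv.subgroupCongr (Cent.closure_cent hS hd).symm).toMonoidHom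
  have hε : ∀ (y : G) (hy : y ∈ nset D d), ε ⟨y, mem_cent hy⟩ = -1 := fun y hy => by
    show f (q ⟨y, _⟩) = -1
    rw [hgen y hy]
    exact if_neg ha1
  refine ⟨ε, hε, ?_⟩
  obtain ⟨l, -, hlen, hm, -, hp⟩ := Cent.seven_prod hS hd
  have hl : ∀ m : List G, (∀ x ∈ m, x ∈ nset D d) →
      ∃ h : m.prod ∈ Subgroup.centralizer ({d} : Set G), ε ⟨m.prod, h⟩ = (-1) ^ m.length := by
    intro m hm
    induction m with
    | nil => exact ⟨one_mem _, (map_one ε).trans (pow_zero _).symm⟩
    | cons x m ih =>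
      obtain ⟨h, he⟩ := ih fun y hy => hm y (by simp [hy])
      refine ⟨mul_mem (mem_cent (hm x (by simp))) h, ?_⟩
      rw [List.length_cons, pow_succ', ← he, ← hε x (hm x (by simp)), ← map_mul]
      rfl
  obtain ⟨h, he⟩ := hl l hm
  rw [hlen] at he
  have : (⟨d, self_cent d⟩ : Subgroup.centralizer ({d} : Set G)) = ⟨l.prod, h⟩ := Subtype.ext hp.symm
  rw [this, he]
  rfl

end Cfsg.Agent.Spor.M24Rel.Eps
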