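import Cfsg.Agent.Lib.Spor.M23RelFacts
import Cfsg.Agent.Lib.Spor.Fi23OutClass
import Cfsg.Agent.S5345

/-!
Any 23 commuting members of a group of type M(23) correspond to the chosen 23 of Fi23.
-/

set_option autoImplicit false
set_option maxRecDepth 100000
set_option linter.unusedSectionVars false

namespace Cfsg.Agent.Spor.M24Rel.Frame

open Cfsg.Agent.Spor.M22U (nset)
open Cfsg.Agent.Spor.M23Rel
open Cfsg.Agent.Spor.Fi23Cert (pres)
open Cfsg.Agent.Spor.Fi23Cert.Outer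

theorem closure_comm {A : Type*} [Group A] {s : Set A} (hc : ∀ a ∈ s, ∀ b ∈ s, Commute a b) :
    ∀ x ∈ Subgroup.closure s, ∀ y ∈ Subgroup.closure s, Commute x y := by
  intro x hx y hy
  have h1 : ∀ b ∈ s, Commute x b := by
    intro b hb
    induction hx using Subgroup.closure_induction with
    | mem a ha => exact hc a ha b hb
    | one => exact Commute.one_left b
    | mul u v _ _ iu iv => exact iu.mul_left iv
    | inv u _ iu => exact iu.inv_left
  induction hy using Subgroup.closure_induction with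
  | mem b hb => exact h1 b hb
  | one => exact Commute.one_right x
  | mul u v _ _ iu iv => exact iu.mul_right iv
  | inv u _ iu => exact iu.inv_right

theorem closure_two {A : Type*} [Group A] {s : Set A} (hc : ∀ a ∈ s, ∀ b ∈ s, Commute a b)
    (hs : ∀ a ∈ s, a * a = 1) : IsPGroup 2 (Subgroup.closure s) := by
  rintro ⟨x, hx⟩
  refine ⟨1, Subtype.ext ?_⟩
  show x ^ 2 ^ 1 = 1
  rw [pow_one, pow_two]
  have key : ∀ y ∈ Subgroup.closure s, y * y = 1 := by
    intro y hy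
    induction hy using Subgroup.closure_induction with
    | mem a ha => exact hs a ha
    | one => simp
    | mul u v hu hv iu iv => rw [(closure_comm hc v hv u hu).mul_mul_mul_comm, iu, iv, one_mul]
    | inv u _ iu => rw [← mul_inv_rev, iu, inv_one]
  exact key x hx

theorem com_inj {i j : ℕ} (hi : i < 23) (hj : j < 23) (h : com i = com j) : i = j := by
  have hp := (isPt_com hi).unique (h ▸ isPt_com hj)
  have hl : comP.length = 23 := rfl
  have hn : comP.Nodup := by decide +kernel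
  rw [List.getD_eq_getElem _ _ (by omega), List.getD_eq_getElem _ _ (by omega)] at hp
  exact hn.getElem_inj_iff.mp hp

theorem com_class {j : ℕ} (hj : j < 23) : com j ∈ conjugatesOf Fi23Cert.Below.tA := by
  obtain ⟨g, e, -⟩ := isPt_com hj
  exact isConj_iff.mpr ⟨g, e.symm⟩

theorem com_comm {i j : ℕ} (hi : i < 23) (hj : j < 23) : Commute (com i) (com j) := by
  show com i * com j = com j * com i
  rw [com_el hi, com_el hj, ← el_xor 11 le_rfl, ← el_xor 11 le_rfl, Nat.xor_comm]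

theorem closure_com : Subgroup.closure (com '' {j | j < 23}) = X := by
  refine le_antisymm ((Subgroup.closure_le _).2 ?_) ?_
  · rintro _ ⟨j, hj, rfl⟩
    exact com_mem_X hj
  · rintro _ ⟨m, -, rfl⟩
    refine list_prod_mem fun a ha => ?_
    obtain ⟨i, hi, rfl⟩ := List.mem_map.mp ha
    refine Subgroup.subset_closure ⟨_, ?_, rfl⟩
    have h11 : ∀ k < 11, basisI.getD k 0 < 23 := by decide +kernel
    exact h11 i (List.mem_range.mp (List.mem_filter.mp hi).1)

variable {Q : Type*} [Group Q] [Finite Q] {E : Set Q}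

theorem frame_iso (hD : Cfsg.IsThreeTranspositionGroup E) (hp : Cfsg.IsPrimitiveUnderConj E)
    (ht : Cfsg.IsOfTypeM23 Q E) {F : Set Q} (hF : F ⊆ E) (hc : ∀ a ∈ F, ∀ b ∈ F, Commute a b)
    (hn : F.ncard = 23) :
    ∃ e : pres.Grp ≃* Q, e '' conjugatesOf Fi23Cert.Below.tA = E ∧ e '' (com '' {j | j < 23}) = F := by
  obtain ⟨e0, he0⟩ := Iso.iso_fi23 hD hp ht
  have hw := Facts.width_eq hD hp ht
  set F0 := e0 '' (com '' {j | j < 23}) with hF0def
  have hF0 : F0 ⊆ E := by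
    rintro _ ⟨_, ⟨j, hj, rfl⟩, rfl⟩
    exact he0 ▸ ⟨_, com_class hj, rfl⟩
  have hc0 : ∀ a ∈ F0, ∀ b ∈ F0, Commute a b := by
    rintro _ ⟨_, ⟨i, hi, rfl⟩, rfl⟩ _ ⟨_, ⟨j, hj, rfl⟩, rfl⟩
    exact (com_comm hi hj).map e0.toMonoidHom
  have hn0 : F0.ncard = 23 := by
    rw [hF0def, Set.ncard_image_of_injective _ e0.injective,
      (show Set.InjOn com {j | j < 23} from fun i hi j hj h => com_inj hi hj h).ncard_image,
      show {j | j < 23} = ↑(Finset.range 23) by ext; simp, Set.ncard_coe_finset, Finset.card_range]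
  have key : ∀ A : Set Q, A ⊆ E → (∀ a ∈ A, ∀ b ∈ A, Commute a b) → A.ncard = 23 →
      ∃ T : Sylow 2 Q, {d | d ∈ E ∧ d ∈ T} = A := by
    intro A hA hcA hnA
    obtain ⟨T, hT⟩ := (closure_two hcA fun a ha => mul_self_of_order_two (hD.1.1 a (hA ha))).exists_le_sylow
    refine ⟨T, (Set.eq_of_subset_of_ncard_le (s := A) (t := {d | d ∈ E ∧ d ∈ T}) (fun a ha => ⟨hA ha, hT (Subgroup.subset_closure ha)⟩) ?_
      (Set.toFinite _)).symm⟩
    rw [(Cfsg.Agent.S5345.result hD T).2, hw, hnA]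
  obtain ⟨T0, hT0⟩ := key F0 hF0 hc0 hn0
  obtain ⟨T, hT⟩ := key F hF hc hn
  haveI : Fact (Nat.Prime 2) := ⟨Nat.prime_two⟩
  obtain ⟨g, hg⟩ := MulAction.exists_smul_eq Q T0 T
  have hmem : ∀ x : Q, g * x * g⁻¹ ∈ T ↔ x ∈ T0 := by
    intro x
    rw [← hg]
    show g * x * g⁻¹ ∈ (g • T0 : Sylow 2 Q).toSubgroup ↔ _
    rw [Sylow.coe_subgroup_smul, Subgroup.mem_pointwise_smul_iff_inv_smul_mem]
    simp [MulAut.smul_def, mul_assoc]
    exact Iff.rfl
  refine ⟨e0.trans (MulAut.conj g), ?_, ?_⟩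
  · ext y
    constructor
    · rintro ⟨u, hu, rfl⟩
      exact hD.2.1 g _ (he0 ▸ ⟨u, hu, rfl⟩)
    · intro hy
      have hy' : g⁻¹ * y * g ∈ E := (Spor.conj_mem_iff hD.2.1 g).1 hy
      rw [← he0] at hy'
      obtain ⟨u, hu, hue⟩ := hy'
      exact ⟨u, hu, by show g * e0 u * g⁻¹ = y; rw [hue]; group⟩
  · rw [← hT]
    ext y
    constructor
    · rintro ⟨u, hu, rfl⟩
      have h0 : e0 u ∈ {d | d ∈ E ∧ d ∈ T0} := hT0.symm ▸ (⟨u, hu, rfl⟩ : e0 u ∈ F0)
      exact ⟨hD.2.1 g _ h0.1, (hmem _).2 h0.2⟩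
    · rintro ⟨hy, hyT⟩
      have h0 : g⁻¹ * y * g ∈ {d | d ∈ E ∧ d ∈ T0} :=
        ⟨(Spor.conj_mem_iff hD.2.1 g).1 hy, (hmem _).1 (by rwa [show g * (g⁻¹ * y * g) * g⁻¹ = y by group])⟩
      rw [hT0] at h0
      obtain ⟨u, hu, hue⟩ := h0
      exact ⟨u, hu, by show g * e0 u * g⁻¹ = y; rw [hue]; group⟩

end Cfsg.Agent.Spor.M24Rel.Frame
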