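import Cfsg.Agent.S2608
import Cfsg.Agent.S0296
import Cfsg.Agent.S1265

/-!
Groups with generalized Fitting subgroup PΩ⁺(8,3) and quotient the symmetric group of degree 3 are isomorphic.
-/

set_option autoImplicit false

namespace Cfsg.Agent.Spor.PlusEightExt

open Cfsg

/-- a subgroup of order 6 of the symmetric group of degree 4 is a point stabiliser -/
theorem six_stab (H : Subgroup (Equiv.Perm (Fin 4))) (hH : Nat.card H = 6) :
    ∃ i : Fin 4, H = MulAction.stabilizer (Equiv.Perm (Fin 4)) i := by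
  classical
  haveI : Fact (Nat.Prime 3) := ⟨by norm_num⟩
  obtain ⟨h, hh⟩ := exists_prime_orderOf_dvd_card' (G := H) 3 (by rw [hH]; norm_num)
  have ho : orderOf (h : Equiv.Perm (Fin 4)) = 3 := by rw [Subgroup.orderOf_coe]; exact hh
  have key : ∀ σ : Equiv.Perm (Fin 4), σ * σ * σ = 1 → σ ≠ 1 → ∃ i, σ i = i ∧ ∀ j, j ≠ i →
      ({j, σ j, σ (σ j)} : Finset (Fin 4)) = Finset.univ.erase i := by decide +kernel
  obtain ⟨i, hi, htr⟩ := key h (by have := pow_orderOf_eq_one (h : Equiv.Perm (Fin 4)); rw [ho] at this; simpa [pow_succ, mul_assoc] using this)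
    (fun e => by rw [e, orderOf_one] at ho; norm_num at ho)
  have horb : ∀ g ∈ H, g i = i := by
    intro g hg
    by_contra hne
    have hsur : ∀ j, ∃ f ∈ H, f i = j := by
      intro j
      by_cases hj : j = i
      · exact ⟨1, H.one_mem, hj.symm⟩
      have := htr (g i) hne
      have hm : j ∈ ({g i, (h : Equiv.Perm (Fin 4)) (g i), (h : Equiv.Perm (Fin 4)) ((h : Equiv.Perm (Fin 4)) (g i))} : Finset (Fin 4)) := by
        rw [this]; exact Finset.mem_erase.2 ⟨hj, Finset.mem_univ _⟩
      simp only [Finset.mem_insert, Finset.mem_singleton] at hm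
      rcases hm with rfl | rfl | rfl
      · exact ⟨g, hg, rfl⟩
      · exact ⟨h * g, H.mul_mem h.2 hg, rfl⟩
      · exact ⟨h * (h * g), H.mul_mem h.2 (H.mul_mem h.2 hg), rfl⟩
    haveI : MulAction.IsPretransitive H (Fin 4) := ⟨fun a b => by
      obtain ⟨f1, hf1, e1⟩ := hsur a
      obtain ⟨f2, hf2, e2⟩ := hsur b
      refine ⟨⟨f2 * f1⁻¹, H.mul_mem hf2 (H.inv_mem hf1)⟩, ?_⟩
      show (f2 * f1⁻¹) a = b
      rw [← e1, Equiv.Perm.mul_apply, Equiv.Perm.inv_def, Equiv.symm_apply_apply, e2]⟩
    have := MulAction.index_stabilizer_of_transitive (G := H) (x := i)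
    have h2 := Subgroup.index_dvd_card (MulAction.stabilizer H i)
    rw [this, hH, Nat.card_eq_fintype_card, Fintype.card_fin] at h2
    norm_num at h2
  refine ⟨i, SetLike.coe_injective (Set.eq_of_subset_of_ncard_le (fun g hg => horb g hg) ?_ (Set.toFinite _))⟩
  rw [← Nat.card_coe_set_eq, ← Nat.card_coe_set_eq]
  show Nat.card ↥(MulAction.stabilizer (Equiv.Perm (Fin 4)) i) ≤ Nat.card ↥H
  rw [hH]
  have := Subgroup.card_mul_index (MulAction.stabilizer (Equiv.Perm (Fin 4)) i)
  rw [MulAction.index_stabilizer_of_transitive, Nat.card_perm, Nat.card_eq_fintype_card (α := Fin 4), Fintype.card_fin] at this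
  have h24 : Nat.card ↥(MulAction.stabilizer (Equiv.Perm (Fin 4)) i) * 4 = 24 := this
  omega

theorem six_conj (H K : Subgroup (Equiv.Perm (Fin 4))) (hH : Nat.card H = 6) (hK : Nat.card K = 6) :
    ∃ c, ∀ x, x ∈ K ↔ c⁻¹ * x * c ∈ H := by
  obtain ⟨i, rfl⟩ := six_stab H hH
  obtain ⟨j, rfl⟩ := six_stab K hK
  refine ⟨Equiv.swap i j, fun x => ?_⟩
  simp only [MulAction.mem_stabilizer_iff, Equiv.Perm.smul_def, Equiv.Perm.mul_apply, Equiv.Perm.inv_def,
    Equiv.swap_apply_left, Equiv.symm_swap]
  rw [← (Equiv.swap i j).injective.eq_iff (a := x j) (b := j), Equiv.swap_apply_right]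

/-- the embedding in the automorphism group -/
theorem embed {G P : Type*} [Group G] [Finite G] [Group P] [IsSimpleGroup P] (hnc : Subgroup.center P = ⊥)
    (hF : Nonempty (↥(generalizedFittingSubgroup G) ≃* P)) [(generalizedFittingSubgroup G).Normal]
    {k : ℕ} (hk : Nat.card (G ⧸ generalizedFittingSubgroup G) = k) :
    ∃ f : G →* MulAut P, Function.Injective f ∧ Inn P ≤ f.range ∧
      Nat.card (f.range.map (QuotientGroup.mk' (Inn P))) = k := by
  obtain ⟨e⟩ := hF
  let f : G →* MulAut P := (MulAut.congr e).toMonoidHom.comp MulAut.conjNormal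
  have fval : ∀ (g : G) (x : P), f g x = e (MulAut.conjNormal g (e.symm x)) := fun _ _ => rfl
  have hin : ∀ n : generalizedFittingSubgroup G, f n = MulAut.conj (e n) := fun n => MulEquiv.ext fun x => by
    rw [fval, MulAut.conj_apply]
    have : MulAut.conjNormal (n : G) (e.symm x) = n * e.symm x * n⁻¹ := Subtype.ext (by simp)
    rw [this, map_mul, map_mul, map_inv, MulEquiv.apply_symm_apply]
  have hinj : Function.Injective f := by
    rw [injective_iff_map_eq_one]
    intro g hg
    have hc : g ∈ Subgroup.centralizer (generalizedFittingSubgroup G : Set G) := by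
      rw [Subgroup.mem_centralizer_iff]
      intro n hn
      have h1 := DFunLike.congr_fun hg (e ⟨n, hn⟩)
      rw [fval, MulEquiv.symm_apply_apply, MulAut.one_apply] at h1
      have h2 := congrArg Subtype.val (e.injective h1)
      simp only [MulAut.conjNormal_apply] at h2
      calc n * g = g * n * g⁻¹ * g := by rw [h2]
        _ = g * n := inv_mul_cancel_right _ _
    have hgF := S1265.result hc
    have hz : e ⟨g, hgF⟩ ∈ Subgroup.center P := by
      rw [Subgroup.mem_center_iff]
      intro x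
      obtain ⟨n, rfl⟩ := e.surjective x
      rw [← map_mul, ← map_mul]
      exact congrArg e (Subtype.ext (Subgroup.mem_centralizer_iff.1 hc n n.2))
    rw [hnc, Subgroup.mem_bot, e.map_eq_one_iff] at hz
    exact congrArg Subtype.val hz
  have hle : Inn P ≤ f.range := by
    rintro _ ⟨x, rfl⟩
    exact ⟨(e.symm x : G), by rw [hin, MulEquiv.apply_symm_apply]⟩
  refine ⟨f, hinj, hle, ?_⟩
  let q : G →* Out P := (QuotientGroup.mk' (Inn P)).comp f
  have hker : q.ker = generalizedFittingSubgroup G := by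
    ext g
    rw [MonoidHom.mem_ker, MonoidHom.comp_apply, QuotientGroup.mk'_apply, QuotientGroup.eq_one_iff]
    constructor
    · rintro ⟨x, hx⟩
      obtain ⟨n, rfl⟩ := e.surjective x
      rw [← hin] at hx
      exact hinj hx ▸ n.2
    · exact fun hg => ⟨e ⟨g, hg⟩, (hin ⟨g, hg⟩).symm⟩
  have hr : f.range.map (QuotientGroup.mk' (Inn P)) = q.range := (MonoidHom.range_comp _ _).symm
  rw [hr, ← hk, ← Nat.card_congr (QuotientGroup.quotientKerEquivRange q).toEquiv]
  exact Nat.card_congr (QuotientGroup.quotientMulEquivOfEq hker).toEquiv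

theorem unique_gen {P : Type} [Group P] [IsSimpleGroup P] (eo : Out P ≃* Equiv.Perm (Fin 4))
    {G G' : Type*} [Group G] [Finite G] [Group G'] [Finite G']
    (hF : Nonempty (↥(generalizedFittingSubgroup G) ≃* P))
    (hF' : Nonempty (↥(generalizedFittingSubgroup G') ≃* P))
    [(generalizedFittingSubgroup G).Normal] [(generalizedFittingSubgroup G').Normal]
    (hq : Nonempty (G ⧸ generalizedFittingSubgroup G ≃* Equiv.Perm (Fin 3)))
    (hq' : Nonempty (G' ⧸ generalizedFittingSubgroup G' ≃* Equiv.Perm (Fin 3))) : Nonempty (G ≃* G') := by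
  classical
  have hnc : Subgroup.center P = ⊥ := by
    rcases IsSimpleGroup.eq_bot_or_eq_top_of_normal (Subgroup.center P) inferInstance with h | h
    · exact h
    exfalso
    have hab : ∀ a b : P, a * b = b * a := fun a b =>
      (Subgroup.mem_center_iff.1 (h ▸ Subgroup.mem_top b) a)
    letI : CommGroup P := { (inferInstance : Group P) with mul_comm := hab }
    -- a simple abelian group has at most as many automorphisms as elements
    haveI : IsCyclic P := IsSimpleGroup.isCyclic
    have hcomm : ∀ a b : Out P, a * b = b * a := by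
      intro a b
      obtain ⟨a, rfl⟩ := QuotientGroup.mk_surjective a
      obtain ⟨b, rfl⟩ := QuotientGroup.mk_surjective b
      rw [← QuotientGroup.mk_mul, ← QuotientGroup.mk_mul]
      congr 1
      refine MulEquiv.ext fun x => ?_
      obtain ⟨m, hm⟩ := MonoidHom.map_cyclic a.toMonoidHom
      obtain ⟨n, hn⟩ := MonoidHom.map_cyclic b.toMonoidHom
      show a (b x) = b (a x)
      rw [show b x = x ^ n from hn x, show a x = x ^ m from hm x, map_zpow, map_zpow,
        show a x = x ^ m from hm x, show b x = x ^ n from hn x, ← zpow_mul, ← zpow_mul, mul_comm]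
    have h1 := congrArg eo (hcomm (eo.symm (Equiv.swap 0 1)) (eo.symm (Equiv.swap 1 2)))
    rw [map_mul, map_mul, MulEquiv.apply_symm_apply, MulEquiv.apply_symm_apply] at h1
    exact absurd h1 (by decide)
  have six : Nat.card (Equiv.Perm (Fin 3)) = 6 := by rw [Nat.card_perm, Nat.card_fin]; rfl
  obtain ⟨f, fi, fInn, fc⟩ := embed hnc hF ((Nat.card_congr hq.some.toEquiv).trans six)
  obtain ⟨f', fi', fInn', fc'⟩ := embed hnc hF' ((Nat.card_congr hq'.some.toEquiv).trans six)
  have cH : ∀ {A : Subgroup (Out P)}, Nat.card A = 6 → Nat.card (A.map eo.toMonoidHom) = 6 := fun {A} h => by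
    rw [← h]; exact (Nat.card_congr (A.equivMapOfInjective eo.toMonoidHom eo.injective).toEquiv).symm
  obtain ⟨c, hc⟩ := six_conj _ _ (cH fc) (cH fc')
  obtain ⟨s, hs⟩ := QuotientGroup.mk_surjective (eo.symm c)
  have memR : ∀ {ff : MonoidHom.range f ≤ ⊤} (x : MulAut P), x ∈ f.range ↔
      eo (x : Out P) ∈ (f.range.map (QuotientGroup.mk' (Inn P))).map eo.toMonoidHom := fun {_} x => by
    rw [show eo (x : Out P) = eo.toMonoidHom (QuotientGroup.mk' (Inn P) x) from rfl,
      Subgroup.mem_map_iff_mem eo.injective, ← Subgroup.mem_comap, Subgroup.comap_map_eq, QuotientGroup.ker_mk',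
      sup_eq_left.2 fInn]
  have memR' : ∀ x : MulAut P, x ∈ f'.range ↔
      eo (x : Out P) ∈ (f'.range.map (QuotientGroup.mk' (Inn P))).map eo.toMonoidHom := fun x => by
    rw [show eo (x : Out P) = eo.toMonoidHom (QuotientGroup.mk' (Inn P) x) from rfl,
      Subgroup.mem_map_iff_mem eo.injective, ← Subgroup.mem_comap, Subgroup.comap_map_eq, QuotientGroup.ker_mk',
      sup_eq_left.2 fInn']
  have himg : f.range.map (MulAut.conj s).toMonoidHom = f'.range := by
    ext x
    rw [memR' x, hc, Subgroup.mem_map_equiv, MulAut.conj_symm_apply, memR (ff := le_top)]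
    rw [QuotientGroup.mk_mul, QuotientGroup.mk_mul, QuotientGroup.mk_inv, hs, map_mul, map_mul, map_inv,
      MulEquiv.apply_symm_apply]
  exact ⟨(MonoidHom.ofInjective fi).trans
    ((f.range.equivMapOfInjective _ (MulAut.conj s).injective).trans
      ((MulEquiv.subgroupCongr himg).trans (MonoidHom.ofInjective fi').symm))⟩

theorem unique {G G' : Type*} [Group G] [Finite G] [Group G'] [Finite G']
    (hF : Nonempty (↥(generalizedFittingSubgroup G) ≃* POmega (ZMod 3) (quadFormPlus 4 (ZMod 3))))
    (hF' : Nonempty (↥(generalizedFittingSubgroup G') ≃* POmega (ZMod 3) (quadFormPlus 4 (ZMod 3))))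
    [(generalizedFittingSubgroup G).Normal] [(generalizedFittingSubgroup G').Normal]
    (hq : Nonempty (G ⧸ generalizedFittingSubgroup G ≃* Equiv.Perm (Fin 3)))
    (hq' : Nonempty (G' ⧸ generalizedFittingSubgroup G' ≃* Equiv.Perm (Fin 3))) : Nonempty (G ≃* G') := by
  haveI : Fact (Nat.Prime 3) := ⟨by norm_num⟩
  haveI := S0296.result (F := ZMod 3) 4 le_rfl
  have h := S2608.result (F := ZMod 3) (p := 3) (f := 1) (m := 4) le_rfl (by simp [ZMod.card]) (by norm_num) le_rfl
  rw [if_pos rfl] at h
  obtain ⟨e⟩ := h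
  haveI : Subsingleton (Multiplicative (ZMod 1)) := inferInstanceAs (Subsingleton (Fin 1))
  haveI : Unique (Multiplicative (ZMod 1)) := Unique.mk' _
  exact unique_gen (e.trans MulEquiv.prodUnique) hF hF' hq hq'

end Cfsg.Agent.Spor.PlusEightExt
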