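import Cfsg.Agent.Lib.Small.FoldG2
import Cfsg.Agent.Lib.Small.FoldAgree
import Cfsg.Agent.Lib.Small.ChevAut.Tables
import Cfsg.Agent.Lib.Lie.RepD4
import Cfsg.Agent.Lib.Spor.PlusEightExt
import Cfsg.Agent.S1059
import Cfsg.Agent.Lib.Spor.M24RelCount

/-!
Two automorphisms of PΩ⁺(8,3) generating a symmetric group of degree 3 and fixing a group of type G2.
-/

set_option autoImplicit false
set_option maxRecDepth 100000

namespace Cfsg.Agent.Spor.M24Rel.G2Model

open Cfsg.Lie Cfsg.Agent.Lie Cfsg.Agent.Small.Fold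
open scoped MatrixGroups

theorem stable_c : ∀ r < chevG2.nroots,
    ((img Small.FoldG2.tab r).map fun p =>
      (Small.ChevAut.graphD4c.img p.1, Small.ChevAut.graphD4c.sign p.1 * p.2)).Perm (img Small.FoldG2.tab r) := by
  decide +kernel

theorem expo_a : ∀ r < chevD4.nroots, graphD4a.expo r = 1 := by decide +kernel
theorem expo_c : ∀ r < chevD4.nroots, Small.ChevAut.graphD4c.expo r = 1 := by decide +kernel
theorem nodes_a : ∀ i : Fin chevD4.rank, graphD4a.img (chevD4.simple i.val) = chevD4.simple (D4.σ i).val ∧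
    graphD4a.sign (chevD4.simple i.val) = 1 ∧
    graphD4a.img (chevD4.neg (chevD4.simple i.val)) = chevD4.neg (chevD4.simple (D4.σ i).val) ∧
    graphD4a.sign (chevD4.neg (chevD4.simple i.val)) = 1 := by decide +kernel

/-- the exchange of two outer nodes -/
def sw : Equiv.Perm (Fin chevD4.rank) := nodePerm chevD4 [0, 1, 3, 2] [0, 1, 3, 2] (by decide +kernel)

theorem nodes_c : ∀ i : Fin chevD4.rank, Small.ChevAut.graphD4c.img (chevD4.simple i.val) = chevD4.simple (sw i).val ∧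
    Small.ChevAut.graphD4c.sign (chevD4.simple i.val) = 1 ∧
    Small.ChevAut.graphD4c.img (chevD4.neg (chevD4.simple i.val)) = chevD4.neg (chevD4.simple (sw i).val) ∧
    Small.ChevAut.graphD4c.sign (chevD4.neg (chevD4.simple i.val)) = 1 := by decide +kernel

theorem rels : ∀ i : Fin chevD4.rank, D4.σ (D4.σ (D4.σ i)) = i ∧ sw (sw i) = i ∧
    sw (D4.σ (sw (D4.σ i))) = i := by decide +kernel

variable {F : Type*} [Field F]

/-- an automorphism given on the root elements by a root map acts on the nodes as told -/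
theorem actsBy_of {R : RMap} {σ : Fin chevD4.rank → Fin chevD4.rank} {φ : MulAut ↥(chevD4.group F)}
    (h : ∀ r, r < chevD4.nroots → ∀ t : F, φ ⟨factsD4.xg r t, factsD4.xg_mem_group _ _⟩ =
      ⟨factsD4.xg (R.img r) ((R.sign r : F) * t ^ R.expo r), factsD4.xg_mem_group _ _⟩)
    (he : ∀ r < chevD4.nroots, R.expo r = 1)
    (hn : ∀ i : Fin chevD4.rank, R.img (chevD4.simple i.val) = chevD4.simple (σ i).val ∧
      R.sign (chevD4.simple i.val) = 1 ∧
      R.img (chevD4.neg (chevD4.simple i.val)) = chevD4.neg (chevD4.simple (σ i).val) ∧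
      R.sign (chevD4.neg (chevD4.simple i.val)) = 1) : ActsBy factsD4 φ σ := by
  intro i t
  obtain ⟨h1, h2, h3, h4⟩ := hn i
  have hlt := factsD4.simple_lt _ i.isLt
  constructor
  · rw [h _ hlt t]
    simp only [h1, h2, he _ hlt, Int.cast_one, one_mul, pow_one]
  · rw [h _ (factsD4.neg_lt hlt) t]
    simp only [h3, h4, he _ (factsD4.neg_lt hlt), Int.cast_one, one_mul, pow_one]

theorem exists_aut [Finite F] {R : RMap} {N : ℕ} (hok : R.okMap chevD4 0 = true) (hord : R.okOrder chevD4 0 N 1 = true) :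
    ∃ φ : MulAut ↥(chevD4.group F), ∀ r, r < chevD4.nroots → ∀ t : F,
      φ ⟨factsD4.xg r t, factsD4.xg_mem_group _ _⟩ =
        ⟨factsD4.xg (R.img r) ((R.sign r : F) * t ^ R.expo r), factsD4.xg_mem_group _ _⟩ := by
  obtain ⟨α, hα⟩ := factsD4.rootMap_aut (modField_zero F) hok (stHyp_of_mem (by simp)) hord (RingHom.id F)
    (fun t => (pow_one t).symm)
  refine ⟨α, fun r hr t => Subtype.ext (Units.ext ?_)⟩
  rw [hα _ r t hr (factsD4.coe_xg _ _)]
  exact (factsD4.coe_xg _ _).symm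

/-- the fixed points of the twisting map are the folded group -/
theorem fix_range [Fintype F] (T : Twist factsD4 F) (hR : T.R = graphD4a) (hs : T.σ = D4.σ) (hfr : ∀ t, T.fr t = t)
    (hd : Data chevG2 chevD4 Small.FoldG2.tab Small.FoldG2.Os) :
    T.fix = (foldHom (F := F) (hF := factsD4) hd).range := by
  obtain ⟨hF'⟩ := facts_of_mem (D := chevG2) (by simp)
  have hH : StHyp chevG2 := stHyp_of_mem (by simp)
  have hx : FixData chevG2 chevD4 Small.FoldG2.tab Small.FoldG2.Os T.R Small.FoldG2.pj := by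
    rw [hR]; exact fixData_of_ok Small.FoldG2.okFix'
  have hOs : okOrbits chevD4 T.R T.σ Small.FoldG2.Os = true := by rw [hR, hs]; exact Small.FoldG2.okOrbits'
  have hker : ∀ z : Fin chevD4.rank → Fˣ, (∀ i : Fin chevD4.rank, torChar chevD4 z (chevD4.simple i.val) = 1) → z ^ 2 = 1 := by
    intro z hz
    funext i
    have key : ∀ (u : Fˣ) (S : Finset (Fin chevD4.rank)) (e : Fin chevD4.rank → ℤ),
        ∏ s ∈ S, u ^ e s = u ^ ∑ s ∈ S, e s := by
      intro u S e
      induction S using Finset.induction_on with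
      | empty => simp
      | insert a S ha ih => rw [Finset.prod_insert ha, Finset.sum_insert ha, ih, zpow_add]
    have h1 : ∏ s, torChar chevD4 z (chevD4.simple s.val) ^ Small.FoldG2.W i s = z i ^ (2 : ℤ) := by
      simp only [torChar, ← Finset.prod_zpow, ← zpow_mul]
      rw [Finset.prod_comm]
      simp only [key, mul_comm (chevD4.cartan _ _), Small.FoldG2.W_spec]
      rw [Finset.prod_eq_single i]
      · simp
      · intro k _ hk
        simp [hk]
      · simp
    simp only [hz, one_zpow, Finset.prod_const_one] at h1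
    exact_mod_cast h1.symm
  exact fix_eq_range T hd hx hOs hfr hF' hH (N := 3) (m := 2) (by rw [hs]; exact Small.FoldG2.σ_pow) (by decide) hker

/-- an automorphism with a stable table fixes the folded group -/
theorem range_fixed {R : RMap} {φ : MulAut ↥(chevD4.group F)}
    (h : ∀ r, r < chevD4.nroots → ∀ t : F, φ ⟨factsD4.xg r t, factsD4.xg_mem_group _ _⟩ =
      ⟨factsD4.xg (R.img r) ((R.sign r : F) * t ^ R.expo r), factsD4.xg_mem_group _ _⟩)
    (he : ∀ r < chevD4.nroots, R.expo r = 1)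
    (hst : ∀ r < chevG2.nroots, ((img Small.FoldG2.tab r).map fun p =>
      (R.img p.1, R.sign p.1 * p.2)).Perm (img Small.FoldG2.tab r))
    (hd : Data chevG2 chevD4 Small.FoldG2.tab Small.FoldG2.Os) :
    (foldHom (F := F) (hF := factsD4) hd).range ≤
      ((MonoidHom.eqLocus φ.toMonoidHom (MonoidHom.id ↥(chevD4.group F))).map (chevD4.group F).subtype) := by
  rw [MonoidHom.range_eq_map, ← PresentedGroup.closure_range_of, MonoidHom.map_closure, Subgroup.closure_le]
  rintro _ ⟨_, ⟨⟨r, t⟩, rfl⟩, rfl⟩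
  show foldHom hd (PresentedGroup.of (r, t)) ∈ _
  rw [show PresentedGroup.of (rels := chevG2.steinbergRels F) (r, t) = chevG2.stGen F r t by
    rw [ChevalleyDatum.stGen, ChevalleyDatum.stX, dif_pos r.isLt]; rfl, foldHom_x, xf_eq]
  have hlt : ∀ p ∈ img Small.FoldG2.tab r.val, p.1 < chevD4.nroots := fun p hp => (hd.lt _ r.isLt p hp).1
  have hsig : ∀ L : List (ℕ × ℤ), (∀ p ∈ L, p.1 < chevD4.nroots) →
      φ (L.map fun p => (⟨factsD4.xg p.1 ((p.2 : F) * t), factsD4.xg_mem_group _ _⟩ : ↥(chevD4.group F))).prod =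
        ((L.map fun p => (R.img p.1, R.sign p.1 * p.2)).map fun p =>
          (⟨factsD4.xg p.1 ((p.2 : F) * t), factsD4.xg_mem_group _ _⟩ : ↥(chevD4.group F))).prod := by
    intro L
    induction L with
    | nil => intro; simp
    | cons a L ih =>
      intro hL
      have ha := hL a List.mem_cons_self
      simp only [List.map_cons, List.prod_cons, map_mul]
      rw [ih fun p hp => hL p (List.mem_cons_of_mem _ hp), h _ ha]
      simp only [he _ ha, pow_one, Int.cast_mul, mul_assoc]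
  refine ⟨((img Small.FoldG2.tab r.val).map fun p =>
    (⟨factsD4.xg p.1 ((p.2 : F) * t), factsD4.xg_mem_group _ _⟩ : ↥(chevD4.group F))).prod, ?_, ?_⟩
  · show φ _ = _
    rw [hsig _ hlt]
    refine List.Perm.prod_eq' ((hst _ r.isLt).map _) ?_
    refine List.pairwise_map.2 (List.pairwise_of_forall_mem_list fun p hp q hq => ?_)
    have hp' := (hst _ r.isLt).mem_iff.1 hp
    have hq' := (hst _ r.isLt).mem_iff.1 hq
    refine Subtype.ext ?_
    show factsD4.xg _ _ * factsD4.xg _ _ = factsD4.xg _ _ * factsD4.xg _ _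
    by_cases hne : p.1 = q.1
    · rw [hne, ← factsD4.xg_add, ← factsD4.xg_add, add_comm]
    · exact commute_img hd r.isLt hp' hq' hne (Or.inl rfl) (Or.inl rfl) _ _
  · rw [map_list_prod, List.map_map]
    rfl

/-- the two automorphisms -/
theorem chev_model [Fintype F] :
    ∃ τ π : MulAut ↥(chevD4.group F), τ ^ 3 = 1 ∧ π ^ 2 = 1 ∧ π * τ * π * τ = 1 ∧
      (∀ x, τ x = x → π x = x) ∧
      Nonempty (↥(MonoidHom.eqLocus τ.toMonoidHom (MonoidHom.id ↥(chevD4.group F))) ≃* ↥(chevG2.group F)) := by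
  classical
  obtain ⟨φ, hφ⟩ := exists_aut (F := F) okMap_D4a okOrder_D4a
  obtain ⟨π, hπ⟩ := exists_aut (F := F) Small.ChevAut.okMap_D4c Small.ChevAut.okOrder_D4c
  have aφ := actsBy_of hφ expo_a nodes_a
  have aπ := actsBy_of hπ expo_c nodes_c
  have hd : Data chevG2 chevD4 Small.FoldG2.tab Small.FoldG2.Os :=
    data_of_ok Small.FoldG2.okShape' (fun r hr => Small.FoldG2.row hr) Small.FoldG2.okWeyl'
      (facts_of_mem (D := chevG2) (by simp)) Small.FoldG2.okEta' Small.FoldG2.okN1 Small.FoldG2.okN2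
  obtain ⟨T, hR, hs, hfr, -⟩ := factsD4.exists_twist (modField_zero F) okMap_D4a
    (stHyp_of_mem (by simp)) okOrder_D4a (RingHom.id F) (fun t => (pow_one t).symm) D4.σ
    D4.okTwist_σ (RingHom.id F)
  have hfr' : ∀ t, T.fr t = t := fun t => by rw [hfr]; rfl
  have hexp : ∀ r, r < chevD4.nroots → T.R.expo r = 1 := by rw [hR]; exact expo_a
  have hneg : ∀ i : Fin chevD4.rank, T.R.sign (chevD4.neg (chevD4.simple i.val)) = 1 := by
    rw [hR]; exact fun i => (nodes_a i).2.2.2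
  obtain ⟨e₂⟩ := Small.FoldG2.main T hR hs hfr'
  obtain ⟨e₁⟩ := iso_of_actsBy T φ hfr' hexp hneg (by rw [hs]; exact aφ)
  refine ⟨φ, π, ?_, ?_, ?_, fun x hx => ?_, ⟨e₁.trans e₂⟩⟩
  · rw [pow_succ, pow_two]
    exact ((aφ.comp aφ).comp aφ).eq_one fun i => (rels i).1
  · rw [pow_two]; exact (aπ.comp aπ).eq_one fun i => (rels i).2.1
  · exact (((aπ.comp aφ).comp aπ).comp aφ).eq_one fun i => (rels i).2.2
  have hall : ∀ g : ↥(chevD4.group F), ((φ g : ↥(chevD4.group F)) : GL chevD4.Idx F) = T.sig g.1 := by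
    let σh : ↥(chevD4.group F) →* GL chevD4.Idx F :=
      MonoidHom.mk' (fun g => T.sig g.1) fun a b => T.sig_mul _ a.2 _ b.2
    let E : Subgroup ↥(chevD4.group F) := MonoidHom.eqLocus ((chevD4.group F).subtype.comp φ.toMonoidHom) σh
    have hE : chevD4.group F ≤ E.map (chevD4.group F).subtype := by
      refine Small.FieldGraph.group_le_of_simple factsD4 _ fun i hi t => ?_
      have hlt := factsD4.simple_lt _ hi
      refine ⟨⟨⟨factsD4.xg (chevD4.simple i) t, factsD4.xg_mem_group _ _⟩, ?_, rfl⟩,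
        ⟨⟨factsD4.xg (chevD4.neg (chevD4.simple i)) t, factsD4.xg_mem_group _ _⟩, ?_, rfl⟩⟩
      · show ((φ _ : ↥(chevD4.group F)) : GL chevD4.Idx F) = T.sig _
        rw [hφ _ hlt, T.sig_x _ hlt, factsD4.imgX_lt T.R hlt, hR, hfr']
      · show ((φ _ : ↥(chevD4.group F)) : GL chevD4.Idx F) = T.sig _
        rw [hφ _ (factsD4.neg_lt hlt), T.sig_x _ (factsD4.neg_lt hlt), factsD4.imgX_lt T.R (factsD4.neg_lt hlt),
          hR, hfr']
    intro g
    obtain ⟨z, hz, hzy⟩ := hE g.2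
    obtain rfl : z = g := Subtype.ext hzy
    exact hz
  have hxf : (x : GL chevD4.Idx F) ∈ T.fix := ⟨x.2, by rw [← hall x]; exact congrArg Subtype.val hx⟩
  rw [fix_range T hR hs hfr' hd] at hxf
  obtain ⟨y, hy, hyx⟩ := range_fixed hπ expo_c stable_c hd hxf
  obtain rfl : y = x := Subtype.ext hyx
  exact hy


theorem perm_facts : ∀ a b : Equiv.Perm (Fin 4), a * a * a = 1 → a ≠ 1 → b * b = 1 → b * a * b * a = 1 →
    ∃ i, a i = i ∧ b i = i := by decide +kernel


/-- moving two automorphisms along an isomorphism -/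
theorem model_transfer {P Q H : Type} [Group P] [Group Q] [Group H] (e : Q ≃* P) {τ₀ π₀ : MulAut Q}
    (h1 : τ₀ ^ 3 = 1) (h2 : π₀ ^ 2 = 1) (h3 : π₀ * τ₀ * π₀ * τ₀ = 1) (h4 : ∀ x, τ₀ x = x → π₀ x = x)
    (g : ↥(MonoidHom.eqLocus τ₀.toMonoidHom (MonoidHom.id Q)) ≃* H) (hcen : Subgroup.center H = ⊥)
    (hne : Nat.card H ≠ Nat.card P) :
    ∃ τ π : MulAut P, τ ^ 3 = 1 ∧ π ^ 2 = 1 ∧ π * τ * π * τ = 1 ∧
      τ ∉ Cfsg.Inn P ∧ π ∉ Cfsg.Inn P ∧ π * τ ∉ Cfsg.Inn P ∧
      (∀ x, τ x = x → π x = x) ∧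
      Nonempty (↥(MonoidHom.eqLocus τ.toMonoidHom (MonoidHom.id P)) ≃* H) := by
  set τ := MulAut.congr e τ₀
  set π := MulAut.congr e π₀
  have vτ : ∀ x, τ x = e (τ₀ (e.symm x)) := fun _ => rfl
  have vπ : ∀ x, π x = e (π₀ (e.symm x)) := fun _ => rfl
  have t3 : τ ^ 3 = 1 := by rw [← map_pow, h1, map_one]
  have p2 : π ^ 2 = 1 := by rw [← map_pow, h2, map_one]
  have hrel : π * τ * π * τ = 1 := by rw [← map_mul, ← map_mul, ← map_mul, h3, map_one]
  have hfix : ∀ x, τ x = x → π x = x := fun x hx => by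
    rw [vτ] at hx
    rw [vπ, h4 _ (e.injective (hx.trans (e.apply_symm_apply x).symm)), e.apply_symm_apply]
  set K := MonoidHom.eqLocus τ.toMonoidHom (MonoidHom.id P)
  have hK : ∀ x, x ∈ K ↔ τ x = x := fun _ => Iff.rfl
  have hK0 : ∀ x : K, τ₀ (e.symm x.1) = e.symm x.1 := fun x => by
    have hx := (hK _).1 x.2
    rw [vτ] at hx
    exact e.injective (hx.trans (e.apply_symm_apply x.1).symm)
  have eK : Nonempty (↥K ≃* H) := ⟨{
      toFun := fun x => g ⟨e.symm x.1, hK0 x⟩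
      invFun := fun y => ⟨e ((g.symm y).1), (hK _).2 (by
        rw [vτ, e.symm_apply_apply]
        exact congrArg e ((g.symm y).2 : τ₀ (g.symm y).1 = (g.symm y).1))⟩
      left_inv := fun x => Subtype.ext (by
        show e (g.symm (g ⟨e.symm x.1, hK0 x⟩)).1 = x.1
        rw [g.symm_apply_apply, e.apply_symm_apply])
      right_inv := fun y => by
        refine (congrArg g (Subtype.ext ?_)).trans (g.apply_symm_apply y)
        exact e.symm_apply_apply _
      map_mul' := fun x y => by rw [← map_mul]; exact congrArg g (Subtype.ext (map_mul e.symm _ _)) }⟩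
  obtain ⟨eK'⟩ := eK
  have hτ : τ ∉ Cfsg.Inn P := by
    rintro ⟨c, hc⟩
    have hτv : ∀ x, τ x = c * x * c⁻¹ := fun x => by rw [← hc]; rfl
    have hcK : c ∈ K := (hK c).2 (by rw [hτv, mul_inv_cancel_right])
    have : eK' ⟨c, hcK⟩ ∈ Subgroup.center H := by
      rw [Subgroup.mem_center_iff]
      intro y
      obtain ⟨x, rfl⟩ := eK'.surjective y
      rw [← map_mul, ← map_mul]
      refine congrArg eK' (Subtype.ext ?_)
      have hx := (hK _).1 x.2
      rw [hτv, mul_inv_eq_iff_eq_mul] at hx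
      exact hx.symm
    rw [hcen, Subgroup.mem_bot, eK'.map_eq_one_iff] at this
    have hc1 : c = 1 := congrArg Subtype.val this
    have hKtop : K = ⊤ := eq_top_iff.2 fun x _ => (hK x).2 (by rw [hτv, hc1]; group)
    exact hne ((Nat.card_congr eK'.toEquiv).symm.trans (by rw [hKtop, Subgroup.card_top]))
  have hπ : π ∉ Cfsg.Inn P := fun h => hτ (by
    have hi : π * τ * π⁻¹ = τ⁻¹ := by
      rw [inv_eq_of_mul_eq_one_right (show π * π = 1 by rw [← pow_two, p2])]
      exact eq_inv_of_mul_eq_one_left hrel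
    have hn : τ * π⁻¹ * τ⁻¹ ∈ Cfsg.Inn P := (inferInstance : (Cfsg.Inn P).Normal).conj_mem _ (inv_mem h) τ
    have h2' : π * (τ * π⁻¹ * τ⁻¹) = τ⁻¹ * τ⁻¹ := by rw [← mul_assoc, ← mul_assoc, hi]
    have h3' : τ⁻¹ * τ⁻¹ = τ := by
      rw [← mul_inv_rev, inv_eq_iff_mul_eq_one, ← pow_two, ← pow_succ, t3]
    rw [← h3', ← h2']
    exact mul_mem h hn)
  refine ⟨τ, π, t3, p2, hrel, hτ, hπ, fun h => hπ ?_, hfix, ⟨eK'⟩⟩
  -- the product is conjugate to the involution
  have hc : τ⁻¹ * (π * τ) * τ⁻¹⁻¹ ∈ Cfsg.Inn P := (inferInstance : (Cfsg.Inn P).Normal).conj_mem _ h _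
  have e1 : τ⁻¹ * (π * τ) * τ⁻¹⁻¹ = π := by
    have hi : π * τ = τ⁻¹ * π := by
      have := eq_inv_of_mul_eq_one_left hrel
      rw [← this, mul_assoc (π * τ) π π, ← pow_two, p2, mul_one]
    rw [inv_inv, hi]
    calc τ⁻¹ * (τ⁻¹ * π) * τ = τ⁻¹ * τ⁻¹ * (π * τ) := by group
      _ = τ⁻¹ * τ⁻¹ * τ⁻¹ * π := by rw [hi]; group
      _ = π := by
        rw [← mul_inv_rev, ← mul_inv_rev, ← pow_two, ← pow_succ', t3, inv_one, one_mul]
  rwa [e1] at hc

/-- the automorphisms for the orthogonal group over the field with three elements -/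
theorem pomega_model :
    ∃ τ π : MulAut (Cfsg.POmega (ZMod 3) (Cfsg.quadFormPlus 4 (ZMod 3))),
      τ ^ 3 = 1 ∧ π ^ 2 = 1 ∧ π * τ * π * τ = 1 ∧
      τ ∉ Cfsg.Inn (Cfsg.POmega (ZMod 3) (Cfsg.quadFormPlus 4 (ZMod 3))) ∧
      π ∉ Cfsg.Inn (Cfsg.POmega (ZMod 3) (Cfsg.quadFormPlus 4 (ZMod 3))) ∧
      π * τ ∉ Cfsg.Inn (Cfsg.POmega (ZMod 3) (Cfsg.quadFormPlus 4 (ZMod 3))) ∧
      (∀ x, τ x = x → π x = x) ∧
      Nonempty (↥(MonoidHom.eqLocus τ.toMonoidHom (MonoidHom.id _)) ≃* ↥(chevG2.group (ZMod 3))) := by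
  haveI : Fact (Nat.Prime 3) := ⟨by norm_num⟩
  obtain ⟨τ₀, π₀, h1, h2, h3, h4, ⟨g⟩⟩ := chev_model (F := ZMod 3)
  obtain ⟨e⟩ := d4_iso_pOmega (F := ZMod 3)
  refine model_transfer (P := Cfsg.POmega (ZMod 3) (Cfsg.quadFormPlus 4 (ZMod 3))) (Q := ↥(chevD4.group (ZMod 3))) (H := ↥(chevG2.group (ZMod 3))) e h1 h2 h3 h4 g ?_ ?_
  · obtain ⟨hF'⟩ := facts_of_mem (D := chevG2) (by simp)
    have hH : StHyp chevG2 := stHyp_of_mem (by simp)
    rw [Subgroup.eq_bot_iff_forall]
    intro z hz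
    refine Subtype.ext (hF'.center_trivial hH.2.2 z.2 fun g hg => ?_)
    exact congrArg Subtype.val (Subgroup.mem_center_iff.1 hz ⟨g, hg⟩)
  · rw [S1059.result (F := ZMod 3) (q := 3) (by simp [ZMod.card]), Count.card_pomega]
    norm_num

end Cfsg.Agent.Spor.M24Rel.G2Model
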