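import Cfsg.Agent.Lib.Spor.M24RelFix

/-!
A group of type M(24) has width 24.
-/

set_option autoImplicit false
set_option maxRecDepth 100000
set_option linter.unusedSectionVars false

namespace Cfsg.Agent.Spor.M24Rel.Width

open Cfsg.Agent.Spor.M22U (nset)
open Cfsg.Agent.Spor.M23Rel

variable {G : Type*} [Group G] [Finite G] {D : Set G}

theorem width_eq (hD : Cfsg.IsThreeTranspositionGroup D) (hprim : Cfsg.IsPrimitiveUnderConj D)
    (ht : Cfsg.IsOfTypeM24 G D) : Cfsg.commutingWidth D = 24 := by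
  classical
  obtain ⟨-, d, hd, -⟩ := id ht
  have S := Fix.setting_of hD hprim ht hd
  have hE := S.pre
  have hw := M23Rel.Facts.width_eq S.group S.next_prim S.next
  set N := {n : ℕ | ∃ E : Set (↥(Subgroup.closure (nset D d)) ⧸ Subgroup.center ↥(Subgroup.closure (nset D d))),
    E ⊆ nextSet D d ∧ E.Finite ∧ (∀ a ∈ E, ∀ b ∈ E, Commute a b) ∧ E.ncard = n} with hN
  have hbd : BddAbove N := ⟨Nat.card _, fun n ⟨E, _, _, _, hn⟩ => hn ▸ Set.ncard_le_card _⟩
  refine IsGreatest.csSup_eq ⟨?_, ?_⟩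
  · have hmem : 23 ∈ N := by
      rw [← hw]; exact Nat.sSup_mem ⟨0, ∅, Set.empty_subset _, Set.finite_empty, by simp, Set.ncard_empty _⟩ hbd
    obtain ⟨E, hE1, -, hE3, hE4⟩ := hmem
    set F : Set G := {y | ∃ hy : y ∈ nset D d, S.img y hy ∈ E}
    have hF : F.ncard = 23 := by
      rw [← hE4]
      refine Set.ncard_congr (fun y hy => S.img y hy.choose) (fun y hy => hy.choose_spec) ?_ ?_
      · intro a b ha hb e; exact S.img_inj ha.choose hb.choose e
      · intro z hz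
        obtain ⟨x, hx, rfl⟩ := hE1 hz
        exact ⟨(x : G), ⟨hx, hz⟩, rfl⟩
    have hdF : d ∉ F := fun ⟨h, _⟩ => h.2.1 rfl
    refine ⟨insert d F, ?_, Set.toFinite _, ?_, by rw [Set.ncard_insert_of_notMem hdF, hF]⟩
    · rintro y (rfl | ⟨hy, -⟩)
      · exact S.mem
      · exact hy.1
    · rintro a (rfl | ⟨ha, ha'⟩) b (rfl | ⟨hb, hb'⟩)
      · exact Commute.refl _
      · exact hb.2.2
      · exact ha.2.2.symm
      · exact commute_lift hE d ha hb (hE3 _ ha' _ hb')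
  · rintro n ⟨E, hE1, hEf, hE3, rfl⟩
    by_contra hgt
    push Not at hgt
    obtain ⟨a, ha⟩ := Set.nonempty_of_ncard_ne_zero (s := E) (by omega)
    obtain ⟨g, hg⟩ := hprim.1 a (hE1 ha) d S.mem
    set E' := (fun y => g * y * g⁻¹) '' E
    have hE'c : E'.ncard = E.ncard :=
      Set.ncard_image_of_injective _ fun p q e => mul_left_cancel (mul_right_cancel e)
    have hd' : d ∈ E' := ⟨a, ha, hg⟩
    have hE'1 : ∀ y ∈ E', y ≠ d → y ∈ nset D d := by
      rintro _ ⟨y, hy, rfl⟩ hne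
      refine ⟨hD.2.1 g y (hE1 hy), hne, ?_⟩
      rw [← hg]; exact Spor.commute_conj_iff.mpr (hE3 a ha y hy)
    set T : Set (↥(Subgroup.closure (nset D d)) ⧸ Subgroup.center ↥(Subgroup.closure (nset D d))) :=
      {q | ∃ y, ∃ hy : y ∈ nset D d, y ∈ E' ∧ S.img y hy = q}
    have hcard : (E' \ {d}).ncard = T.ncard := by
      refine Set.ncard_congr (fun y hy => S.img y (hE'1 y hy.1 hy.2)) ?_ ?_ ?_
      · exact fun y hy => ⟨y, hE'1 y hy.1 hy.2, hy.1, rfl⟩
      · intro p q hp hq e; exact S.img_inj _ _ e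
      · rintro _ ⟨y, hy, hyE, rfl⟩
        exact ⟨y, ⟨hyE, hy.2.1⟩, rfl⟩
    have hT : T.ncard ∈ N := by
      refine ⟨T, ?_, Set.toFinite _, ?_, rfl⟩
      · rintro _ ⟨y, hy, -, rfl⟩; exact ⟨⟨y, Subgroup.subset_closure hy⟩, hy, rfl⟩
      · rintro _ ⟨p, hp, ⟨p', hp', rfl⟩, rfl⟩ _ ⟨q, hq, ⟨q', hq', rfl⟩, rfl⟩
        refine Commute.map (?_ : Commute (⟨_, Subgroup.subset_closure hp⟩ : ↥(Subgroup.closure (nset D d)))
          ⟨_, Subgroup.subset_closure hq⟩) (QuotientGroup.mk' _)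
        exact Subtype.ext (Spor.commute_conj_iff.mpr (hE3 p' hp' q' hq')).eq
    have h22 : T.ncard ≤ 23 := hw ▸ le_csSup hbd hT
    have := Set.ncard_sdiff_singleton_add_one hd' (Set.toFinite _)
    omega

end Cfsg.Agent.Spor.M24Rel.Width
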