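import Cfsg.Agent.Lib.Spor.M24RelEps
import Cfsg.Agent.Lib.Spor.M24RelWidth
import Cfsg.Agent.Lib.Spor.M24RelFrame
import Cfsg.Agent.Lib.Spor.Fi23FrameOrbMain

/-!
A Sylow 2-subgroup of a group of type M(24) has a homomorphism of order two sending every member in it to the
nontrivial element; by transfer the group has a normal subgroup of index two.
-/

set_option autoImplicit false
set_option maxRecDepth 100000
set_option linter.unusedSectionVars false

namespace Cfsg.Agent.Spor.M24Rel.Parity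

open Cfsg.Agent.Spor.M22U (nset)
open Cfsg.Agent.Spor.M23Rel
open Cfsg.Agent.Spor.Fi23Cert (pres)
open Cfsg.Agent.Spor.Fi23Cert.Outer (com X)
open Cfsg.Agent.Spor.Fi23Cert.FrameOrb (sevenSet)

variable {G : Type*} [Group G] [Finite G] {D : Set G}

/-- the members in a Sylow subgroup -/
def fr (D : Set G) (S : Sylow 2 G) : Set G := {f | f ∈ D ∧ f ∈ S}

/-- the members of the frame commuting with a member -/
def adjs (D : Set G) (S : Sylow 2 G) (x : G) : Set G := {f | f ∈ fr D S ∧ Commute f x}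

/-- the members outside the frame commuting with eight of it -/
def octs (D : Set G) (S : Sylow 2 G) : Set G := {x | x ∈ D ∧ x ∉ fr D S ∧ (adjs D S x).ncard = 8}

variable (hS : ∀ x ∈ D, Fix.Setting D x) (T : Sylow 2 G) (hn : (fr D T).ncard = 24)
  (hc : ∀ a ∈ fr D T, ∀ b ∈ fr D T, Commute a b)

include hS hn hc

theorem frame_at {d : G} (hd : d ∈ fr D T) :
    ∃ e : pres.Grp ≃* (↥(Subgroup.closure (nset D d)) ⧸ Subgroup.center ↥(Subgroup.closure (nset D d))),
      e '' conjugatesOf Fi23Cert.Below.tA = nextSet D d ∧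
      e '' (com '' {j | j < 23}) = {z | ∃ f, ∃ hf : f ∈ nset D d, f ∈ fr D T ∧ (hS d hd.1).img f hf = z} := by
  have S := hS d hd.1
  refine Frame.frame_iso S.group S.next_prim S.next ?_ ?_ ?_
  · rintro _ ⟨f, hf, -, rfl⟩; exact S.img_mem hf
  · rintro _ ⟨f, hf, hfF, rfl⟩ _ ⟨g, hg, hgF, rfl⟩
    exact (Commute.map (Subtype.ext (hc f hfF g hgF).eq :
      Commute (⟨f, Subgroup.subset_closure hf⟩ : ↥(Subgroup.closure (nset D d))) ⟨g, Subgroup.subset_closure hg⟩)
      (QuotientGroup.mk' (Subgroup.center ↥(Subgroup.closure (nset D d)))) :)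
  · have hmem : ∀ f ∈ fr D T \ {d}, f ∈ nset D d := fun f hf => ⟨hf.1.1, hf.2, hc d hd f hf.1⟩
    have h := Set.ncard_sdiff_singleton_add_one hd (Set.toFinite _)
    rw [hn] at h
    have e : {z | ∃ f, ∃ hf : f ∈ nset D d, f ∈ fr D T ∧ S.img f hf = z}.ncard = (fr D T \ {d}).ncard := by
      symm
      refine Set.ncard_congr (fun f hf => S.img f (hmem f hf)) (fun f hf => ⟨f, hmem f hf, hf.1, rfl⟩)
        (fun a b ha hb e => S.img_inj _ _ e) ?_
      rintro _ ⟨f, hf, hfF, rfl⟩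
      exact ⟨f, ⟨hfF, hf.2.1⟩, rfl⟩
    omega

theorem adjs_model {d : G} (hd : d ∈ fr D T)
    {e : pres.Grp ≃* (↥(Subgroup.closure (nset D d)) ⧸ Subgroup.center ↥(Subgroup.closure (nset D d)))}
    (heF : e '' (com '' {j | j < 23}) = {z | ∃ f, ∃ hf : f ∈ nset D d, f ∈ fr D T ∧ (hS d hd.1).img f hf = z})
    {x : G} (hx : x ∈ nset D d) {u : pres.Grp} (hu : e u = (hS d hd.1).img x hx) :
    (adjs D T x).ncard = {j | j < 23 ∧ Commute (com j) u}.ncard + 1 ∧
      (x ∈ fr D T → {j | j < 23 ∧ Commute (com j) u}.ncard = 23) := by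
  have S := hS d hd.1
  have hE := S.pre
  have hlift : ∀ j, j < 23 → ∃ f, ∃ hf : f ∈ nset D d, f ∈ fr D T ∧ S.img f hf = e (com j) := fun j hj => by
    have hm : e (com j) ∈ e '' (com '' {j | j < 23}) := ⟨_, ⟨j, hj, rfl⟩, rfl⟩
    rw [heF] at hm
    exact hm
  choose L hL hLF hLe using hlift
  have hiff : ∀ j (hj : j < 23), Commute (com j) u ↔ Commute (L j hj) x := by
    intro j hj
    constructor
    · intro h
      refine commute_lift hE d (hL j hj) hx ?_
      have := h.map e.toMonoidHom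
      rwa [MulEquiv.coe_toMonoidHom, ← hLe j hj, hu] at this
    · intro h
      have h1 : Commute (S.img (L j hj) (hL j hj)) (S.img x hx) :=
        (Commute.map (Subtype.ext h.eq : Commute (⟨L j hj, Subgroup.subset_closure (hL j hj)⟩ :
          ↥(Subgroup.closure (nset D d))) ⟨x, Subgroup.subset_closure hx⟩) (QuotientGroup.mk' (Subgroup.center ↥(Subgroup.closure (nset D d)))) :)
      rw [hLe, ← hu] at h1
      have := h1.map e.symm.toMonoidHom
      simpa using this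
  refine ⟨?_, fun hxF => ?_⟩
  · have h := Set.ncard_sdiff_singleton_add_one (show d ∈ adjs D T x from ⟨hd, hx.2.2⟩) (Set.toFinite _)
    rw [← h]
    congr 1
    symm
    refine Set.ncard_congr (fun j hj => L j hj.1) (fun j hj => ⟨⟨hLF j hj.1, (hiff j hj.1).1 hj.2⟩, (hL j hj.1).2.1⟩) ?_ ?_
    · intro i j hi hj h
      refine Frame.com_inj hi.1 hj.1 (e.injective ?_)
      rw [← hLe i hi.1, ← hLe j hj.1]
      exact congrArg QuotientGroup.mk (Subtype.ext h)
    · rintro f ⟨⟨hfF, hfx⟩, hfd⟩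
      have hf : f ∈ nset D d := ⟨hfF.1, hfd, hc d hd f hfF⟩
      obtain ⟨_, ⟨j, hj, rfl⟩, hje⟩ : S.img f hf ∈ e '' (com '' {j | j < 23}) := heF ▸ ⟨f, hf, hfF, rfl⟩
      have he : L j hj = f := S.img_inj (hL j hj) hf ((hLe j hj).trans hje)
      exact ⟨j, ⟨hj, (hiff j hj).2 (he ▸ hfx)⟩, he⟩
  · rw [show {j | j < 23 ∧ Commute (com j) u} = ↑(Finset.range 23) from ?_, Set.ncard_coe_finset, Finset.card_range]
    ext j
    simp only [Finset.coe_range, Set.mem_Iio, Set.mem_setOf_eq, and_iff_left_iff_imp]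
    exact fun hj => (hiff j hj).2 (hc _ (hLF j hj) x hxF)

theorem ncard_at {d : G} (hd : d ∈ fr D T) : {x | x ∈ octs D T ∧ Commute d x}.ncard = 8096 := by
  have S := hS d hd.1
  obtain ⟨e, heD, heF⟩ := frame_at hS T hn hc hd
  rw [← Fi23Cert.FrameOrb.ncard_sevenSet]
  have hmem : ∀ x ∈ {x | x ∈ octs D T ∧ Commute d x}, x ∈ nset D d :=
    fun x hx => ⟨hx.1.1, fun h => hx.1.2.1 (h ▸ hd), hx.2⟩
  refine Set.ncard_congr (fun x hx => e.symm (S.img x (hmem x hx))) ?_ ?_ ?_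
  · intro x hx
    refine ⟨?_, ?_⟩
    · obtain ⟨u, hu, hue⟩ : S.img x (hmem x hx) ∈ e '' conjugatesOf Fi23Cert.Below.tA := heD ▸ S.img_mem _
      rw [← hue, e.symm_apply_apply]; exact hu
    · have := (adjs_model hS T hn hc hd heF (hmem x hx) (e.apply_symm_apply _)).1
      rw [hx.1.2.2] at this
      exact (Nat.add_right_cancel (m := 1) this.symm :)
  · exact fun a b ha hb h => S.img_inj _ _ (e.symm.injective h)
  · rintro u ⟨hu, h7⟩
    obtain ⟨⟨x, hxH⟩, hx, hxe⟩ : e u ∈ nextSet D d := heD ▸ ⟨u, hu, rfl⟩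
    have hue : e u = S.img x hx := hxe.symm
    obtain ⟨h1, h2⟩ := adjs_model hS T hn hc hd heF hx hue
    exact ⟨x, ⟨⟨hx.1, fun hF => absurd ((h2 hF).symm.trans h7) (by norm_num), h1.trans (congrArg (· + 1) h7)⟩, hx.2.2⟩,
      (congrArg e.symm hue).symm.trans (e.symm_apply_apply u)⟩

theorem ncard_octs : (octs D T).ncard = 24288 := by
  classical
  have := Fintype.ofFinite G
  have h := Finset.card_mul_eq_card_mul (fun a b : G => Commute a b) (s := (fr D T).toFinset)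
    (t := (octs D T).toFinset) (m := 8096) (n := 8) ?_ ?_
  · rw [← Set.ncard_eq_toFinset_card', ← Set.ncard_eq_toFinset_card', hn] at h
    omega
  · intro d hd
    rw [Set.mem_toFinset] at hd
    rw [show (octs D T).toFinset.bipartiteAbove (fun a b : G => Commute a b) d =
      {x | x ∈ octs D T ∧ Commute d x}.toFinset by ext y; simp, ← Set.ncard_eq_toFinset_card']
    exact ncard_at hS T hn hc hd
  · intro x hx
    rw [Set.mem_toFinset] at hx
    rw [show (fr D T).toFinset.bipartiteBelow (fun a b : G => Commute a b) x = (adjs D T x).toFinset by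
      ext y
      rw [Finset.mem_bipartiteBelow, Set.mem_toFinset, Set.mem_toFinset]
      exact Iff.rfl, ← Set.ncard_eq_toFinset_card']
    exact hx.2.2

theorem orbit_card {x : G} (hx : x ∈ octs D T) :
    ((fun h : G => h * x * h⁻¹) '' (Subgroup.closure (fr D T) : Set G)).ncard = 32 := by
  have hne : (adjs D T x).Nonempty := Set.nonempty_of_ncard_ne_zero (by rw [hx.2.2]; norm_num)
  obtain ⟨d, hd, hdx⟩ := hne
  have S := hS d hd.1
  set H := Subgroup.closure (nset D d)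
  obtain ⟨e, heD, heF⟩ := frame_at hS T hn hc hd
  have hxn : x ∈ nset D d := ⟨hx.1, fun h => hx.2.1 (h ▸ hd), hdx⟩
  set u := e.symm (S.img x hxn) with hu
  have hu7 : u ∈ sevenSet := by
    refine ⟨?_, ?_⟩
    · obtain ⟨v, hv, hve⟩ : S.img x hxn ∈ e '' conjugatesOf Fi23Cert.Below.tA := heD ▸ S.img_mem _
      rw [hu, ← hve, e.symm_apply_apply]; exact hv
    · have := (adjs_model hS T hn hc hd heF hxn (e.apply_symm_apply _)).1
      rw [hx.2.2] at this
      exact (Nat.add_right_cancel (m := 1) this.symm :)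
  rw [← Fi23Cert.FrameOrb.orbit_card hu7]
  have hle : Subgroup.closure (fr D T) ≤ H := by
    refine (Subgroup.closure_le _).2 fun f hf => ?_
    by_cases hfd : f = d
    · rw [hfd]; exact Cent.mem_closure hS hd.1
    · exact Subgroup.subset_closure ⟨hf.1, hfd, hc d hd f hf⟩
  let π : ↥H →* pres.Grp := e.symm.toMonoidHom.comp (QuotientGroup.mk' (Subgroup.center ↥H))
  have hπd : π ⟨d, Cent.mem_closure hS hd.1⟩ = 1 := by
    show e.symm (QuotientGroup.mk _) = 1
    rw [(mk_eq_one_iff d).mpr fun y hy => hy.2.2, map_one]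
  have hπF : ∀ f (hf : f ∈ fr D T), π ⟨f, hle (Subgroup.subset_closure hf)⟩ ∈ X := by
    intro f hf
    by_cases hfd : f = d
    · subst hfd; rw [show π ⟨_, _⟩ = 1 from hπd]; exact one_mem _
    · have hfn : f ∈ nset D d := ⟨hf.1, hfd, hc d hd f hf⟩
      obtain ⟨_, ⟨j, hj, rfl⟩, hje⟩ : S.img f hfn ∈ e '' (com '' {j | j < 23}) := heF ▸ ⟨f, hfn, hf, rfl⟩
      show e.symm (S.img f hfn) ∈ X
      rw [← hje, e.symm_apply_apply]
      exact Fi23Cert.Outer.com_mem_X hj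
  have hmap : ∀ h (hh : h ∈ Subgroup.closure (fr D T)), π ⟨h, hle hh⟩ ∈ X := by
    intro h hh
    induction hh using Subgroup.closure_induction with
    | mem f hf => exact hπF f hf
    | one => rw [show (⟨1, _⟩ : ↥H) = 1 from rfl, map_one]; exact one_mem _
    | mul a b ha hb ia ib =>
      rw [show (⟨a * b, _⟩ : ↥H) = ⟨a, hle ha⟩ * ⟨b, hle hb⟩ from rfl, map_mul]; exact mul_mem ia ib
    | inv a ha ia => rw [show (⟨a⁻¹, _⟩ : ↥H) = ⟨a, hle ha⟩⁻¹ from rfl, map_inv]; exact inv_mem ia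
  have hXle : X ≤ ((Subgroup.closure (fr D T)).subgroupOf H).map π := by
    rw [← Frame.closure_com, Subgroup.closure_le]
    rintro _ ⟨j, hj, rfl⟩
    have hm : e (com j) ∈ e '' (com '' {j | j < 23}) := ⟨_, ⟨j, hj, rfl⟩, rfl⟩
    rw [heF] at hm
    obtain ⟨f, hf, hfF, hfe⟩ := hm
    refine ⟨⟨f, Subgroup.subset_closure hf⟩, Subgroup.mem_subgroupOf.mpr (Subgroup.subset_closure hfF), ?_⟩
    show e.symm (S.img f hf) = com j
    rw [hfe, e.symm_apply_apply]
  have hconj : ∀ (h : G) (hh : h ∈ H) (hy : h * x * h⁻¹ ∈ nset D d),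
      e.symm (S.img (h * x * h⁻¹) hy) = π ⟨h, hh⟩ * u * (π ⟨h, hh⟩)⁻¹ := by
    intro h hh hy
    show π ⟨h * x * h⁻¹, _⟩ = _
    rw [show (⟨h * x * h⁻¹, Subgroup.subset_closure hy⟩ : ↥H) =
      ⟨h, hh⟩ * ⟨x, Subgroup.subset_closure hxn⟩ * ⟨h, hh⟩⁻¹ from rfl, map_mul, map_mul, map_inv]
    rfl
  have hmem : ∀ y ∈ (fun h : G => h * x * h⁻¹) '' (Subgroup.closure (fr D T) : Set G), y ∈ nset D d := by
    rintro _ ⟨h, hh, rfl⟩
    exact nset_conj S.pre (commute_of_mem (hle hh)) hxn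
  refine Set.ncard_congr (fun y hy => e.symm (S.img y (hmem y hy))) ?_ ?_ ?_
  · rintro _ ⟨h, hh, rfl⟩
    exact ⟨_, hmap h hh, (hconj h (hle hh) _).symm⟩
  · exact fun a b ha hb h => S.img_inj _ _ (e.symm.injective h)
  · rintro _ ⟨v, hv, rfl⟩
    obtain ⟨⟨h, hhH⟩, hh, rfl⟩ := hXle hv
    exact ⟨h * x * h⁻¹, ⟨h, Subgroup.mem_subgroupOf.mp hh, rfl⟩, hconj h hhH _⟩

theorem exists_fixed : ∃ x ∈ octs D T, ∀ s ∈ T, ∃ h ∈ Subgroup.closure (fr D T), s * x * s⁻¹ = h * x * h⁻¹ := by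
  classical
  haveI : Fact (Nat.Prime 2) := ⟨Nat.prime_two⟩
  have hE : Pre D := by
    obtain ⟨d, hd⟩ := Set.nonempty_of_ncard_ne_zero (s := fr D T) (by rw [hn]; norm_num)
    exact (hS d hd.1).pre
  have hFinv : ∀ s ∈ T, ∀ f ∈ fr D T, s * f * s⁻¹ ∈ fr D T := fun s hs f hf =>
    ⟨hE.conj s f hf.1, mul_mem (mul_mem hs hf.2) (inv_mem hs)⟩
  have hΩ : ∀ s ∈ T, ∀ x ∈ octs D T, s * x * s⁻¹ ∈ octs D T := by
    intro s hs x hx
    refine ⟨hE.conj s x hx.1, fun h => hx.2.1 ?_, ?_⟩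
    · have := hFinv s⁻¹ (inv_mem hs) _ h
      rwa [show s⁻¹ * (s * x * s⁻¹) * s⁻¹⁻¹ = x by group] at this
    · rw [← hx.2.2]
      have e : adjs D T (s * x * s⁻¹) = (fun f => s * f * s⁻¹) '' adjs D T x := by
        ext f
        constructor
        · rintro ⟨hf, hfx⟩
          refine ⟨s⁻¹ * f * s, ⟨?_, ?_⟩, by group⟩
          · have := hFinv s⁻¹ (inv_mem hs) f hf
            rwa [inv_inv] at this
          · rw [← Spor.commute_conj_iff (g := s), show s * (s⁻¹ * f * s) * s⁻¹ = f by group]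
            exact hfx
        · rintro ⟨f, ⟨hf, hfx⟩, rfl⟩
          exact ⟨hFinv s hs f hf, Spor.commute_conj_iff.mpr hfx⟩
      rw [e, Set.ncard_image_of_injective _ fun a b h => mul_left_cancel (mul_right_cancel h)]
  have hET : Subgroup.closure (fr D T) ≤ T := (Subgroup.closure_le _).2 fun f hf => hf.2
  let act : MulAction (T : Subgroup G) (octs D T) :=
    { smul := fun s x => ⟨(s : G) * x * (s : G)⁻¹, hΩ s s.2 x x.2⟩
      one_smul := fun x => Subtype.ext (by show (1 : G) * x * (1 : G)⁻¹ = x; group)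
      mul_smul := fun s t x => Subtype.ext (by
        show ((s : G) * t) * x * ((s : G) * t)⁻¹ = s * (t * x * (t : G)⁻¹) * (s : G)⁻¹; group) }
  letI := act
  have hval : ∀ (s : (T : Subgroup G)) (x : octs D T), ((s • x : octs D T) : G) = (s : G) * x * (s : G)⁻¹ :=
    fun _ _ => rfl
  by_contra hno
  push Not at hno
  have hdiv : ∀ x : octs D T, 64 ∣ Nat.card (MulAction.orbit (T : Subgroup G) x) := by
    intro x
    obtain ⟨k, hk⟩ := IsPGroup.card_orbit T.isPGroup' x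
    rw [hk]
    obtain ⟨s, hs, hout⟩ := hno x x.2
    have hsub : insert ((s : G) * x * s⁻¹) ((fun h : G => h * (x : G) * h⁻¹) '' (Subgroup.closure (fr D T) : Set G))
        ⊆ Subtype.val '' MulAction.orbit (T : Subgroup G) x := by
      rintro y (rfl | ⟨h, hh, rfl⟩)
      · exact ⟨_, ⟨⟨s, hs⟩, rfl⟩, hval _ _⟩
      · exact ⟨_, ⟨⟨h, hET hh⟩, rfl⟩, hval _ _⟩
    have h1 := Set.ncard_le_ncard hsub (Set.toFinite _)
    rw [Set.ncard_insert_of_notMem (by rintro ⟨h, hh, he⟩; exact hout h hh he.symm) (Set.toFinite _),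
      orbit_card hS T hn hc x.2, Set.ncard_image_of_injective _ Subtype.val_injective, ← Nat.card_coe_set_eq, hk] at h1
    have h6 : 6 ≤ k := by
      by_contra hk5
      have : 2 ^ k ≤ 2 ^ 5 := Nat.pow_le_pow_right (by norm_num) (by omega)
      omega
    exact (show 64 = 2 ^ 6 by norm_num) ▸ Nat.pow_dvd_pow 2 h6
  have := Fintype.ofFinite (octs D T)
  haveI := Fintype.ofFinite (MulAction.orbitRel.Quotient (T : Subgroup G) (octs D T))
  have hsum : Nat.card (octs D T) = ∑ ω : MulAction.orbitRel.Quotient (T : Subgroup G) (octs D T),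
      Nat.card (MulAction.orbit (T : Subgroup G) ω.out) := by
    rw [Nat.card_congr (MulAction.selfEquivSigmaOrbits (T : Subgroup G) (octs D T)), Nat.card_sigma]
  have h64 : 64 ∣ Nat.card (octs D T) := hsum ▸ Finset.dvd_sum fun ω _ => hdiv _
  rw [Nat.card_coe_set_eq, ncard_octs hS T hn hc] at h64
  norm_num at h64

omit hn hc

theorem eps_agree (hyp : Fischer.Hyp D) {d x : G} (hd : d ∈ D) (hx : x ∈ nset D d)
    {εd : Subgroup.centralizer ({d} : Set G) →* ℤˣ} {εx : Subgroup.centralizer ({x} : Set G) →* ℤˣ}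
    (hεd : (∀ (y : G) (hy : y ∈ nset D d), εd ⟨y, Eps.mem_cent hy⟩ = -1) ∧ εd ⟨d, Eps.self_cent d⟩ = -1)
    (hεx : ∀ (y : G) (hy : y ∈ nset D x), εx ⟨y, Eps.mem_cent hy⟩ = -1)
    {u : G} (hud : u ∈ Subgroup.centralizer ({d} : Set G)) (hux : u ∈ Subgroup.centralizer ({x} : Set G)) :
    εd ⟨u, hud⟩ = εx ⟨u, hux⟩ := by
  have S := hS d hd
  have hE := S.pre
  set C := Subgroup.centralizer ({d} : Set G) ⊓ Subgroup.centralizer ({x} : Set G)
  let f1 : ↥C →* ℤˣ := εd.comp (Subgroup.inclusion inf_le_left)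
  let f2 : ↥C →* ℤˣ := εx.comp (Subgroup.inclusion inf_le_right)
  suffices h : ∀ w : ↥C, f1 w = f2 w from h ⟨u, hud, hux⟩
  have hdn : d ∈ nset D x := ⟨hd, hx.2.1.symm, hx.2.2.symm⟩
  have hdC : d ∈ C := ⟨Eps.self_cent d, Eps.mem_cent hdn⟩
  have hgen : C ≤ Subgroup.closure (insert d (nset D d ∩ nset D x)) := by
    intro w hw
    have hwH : w ∈ Subgroup.closure (nset D d) := (Cent.closure_cent hS hd).symm ▸ hw.1
    set x' := S.img x hx
    have hx' : x' ∈ nextSet D d := S.img_mem hx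
    have hwc : (QuotientGroup.mk ⟨w, hwH⟩ : ↥(Subgroup.closure (nset D d)) ⧸ _) ∈ Subgroup.centralizer {x'} := by
      rw [Subgroup.mem_centralizer_singleton_iff]
      exact (Commute.map (Subtype.ext (Subgroup.mem_centralizer_singleton_iff.mp hw.2) :
        Commute (⟨w, hwH⟩ : ↥(Subgroup.closure (nset D d))) ⟨x, Subgroup.subset_closure hx⟩) (QuotientGroup.mk' (Subgroup.center ↥(Subgroup.closure (nset D d)))) :)
    rw [← Facts.closure_cent S.group S.next_prim S.next hx'] at hwc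
    set K := (Subgroup.closure (insert d (nset D d ∩ nset D x))).subgroupOf (Subgroup.closure (nset D d))
    have hle : Subgroup.closure (nset (nextSet D d) x') ≤ K.map (QuotientGroup.mk' _) := by
      rw [Subgroup.closure_le]
      rintro _ ⟨⟨⟨y, hyH⟩, hy, rfl⟩, hne, hcy⟩
      exact ⟨⟨y, hyH⟩, Subgroup.mem_subgroupOf.mpr (Subgroup.subset_closure (Or.inr ⟨hy, hy.1,
        fun e => hne (by subst e; rfl), commute_lift hE d hx hy hcy⟩)), rfl⟩
    obtain ⟨⟨v, hv⟩, hvK, hve⟩ := hle hwc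
    rcases S.central_cases ((QuotientGroup.eq_one_iff _).mpr (QuotientGroup.eq.mp hve)) with h | h
    · have h' : v⁻¹ * w = 1 := h
      rw [← inv_mul_eq_one.mp h']
      exact hvK
    · have h' : v⁻¹ * w = d := h
      rw [show w = v * d by rw [← h']; group]
      exact mul_mem hvK (Subgroup.subset_closure (Or.inl rfl))
  have hsub : insert d (nset D d ∩ nset D x) ⊆ C := by
    rintro y (rfl | hy)
    · exact hdC
    · exact ⟨Eps.mem_cent hy.1, Eps.mem_cent hy.2⟩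
  have hCle : Subgroup.closure (insert d (nset D d ∩ nset D x)) ≤ C := (Subgroup.closure_le _).2 hsub
  suffices h : ∀ y (hy : y ∈ Subgroup.closure (insert d (nset D d ∩ nset D x))),
      f1 ⟨y, hCle hy⟩ = f2 ⟨y, hCle hy⟩ from fun w => h w (hgen w.2)
  intro y hy
  induction hy using Subgroup.closure_induction with
  | mem y hy =>
    rcases hy with rfl | hy
    · show εd ⟨y, _⟩ = εx ⟨y, _⟩
      rw [hεd.2, hεx y hdn]
    · show εd ⟨y, _⟩ = εx ⟨y, _⟩
      rw [hεd.1 y hy.1, hεx y hy.2]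
  | one => exact (map_one f1).trans (map_one f2).symm
  | mul a b ha hb ia ib =>
    rw [show (⟨a * b, _⟩ : ↥C) = ⟨a, hCle ha⟩ * ⟨b, hCle hb⟩ from rfl, map_mul, map_mul, ia, ib]
  | inv a ha ia => rw [show (⟨a⁻¹, _⟩ : ↥C) = ⟨a, hCle ha⟩⁻¹ from rfl, map_inv, map_inv, ia]

include hn hc

theorem exists_psi (hyp : Fischer.Hyp D) :
    ∃ ψ : (T : Subgroup G) →* ℤˣ, ∀ (f : G) (hf : f ∈ fr D T), ψ ⟨f, hf.2⟩ = -1 := by
  classical
  obtain ⟨x, hx, hfix⟩ := exists_fixed hS T hn hc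
  obtain ⟨d, hd, hdx⟩ : (adjs D T x).Nonempty := Set.nonempty_of_ncard_ne_zero (by rw [hx.2.2]; norm_num)
  have hxn : x ∈ nset D d := ⟨hx.1, fun h => hx.2.1 (h ▸ hd), hdx⟩
  obtain ⟨εd, hεd⟩ := Eps.exists_eps hS hyp hd.1
  obtain ⟨εx, hεx, -⟩ := Eps.exists_eps hS hyp hx.1
  have hE := (hS d hd.1).pre
  set E := Subgroup.closure (fr D T) with hEdef
  have hET : E ≤ T := (Subgroup.closure_le _).2 fun f hf => hf.2
  have hEd : E ≤ Subgroup.centralizer ({d} : Set G) := (Subgroup.closure_le _).2 fun f hf =>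
    Subgroup.mem_centralizer_singleton_iff.mpr (hc f hf d hd).eq
  let par : ↥E →* ℤˣ := εd.comp (Subgroup.inclusion hEd)
  have hparF : ∀ f (hf : f ∈ fr D T), par ⟨f, Subgroup.subset_closure hf⟩ = -1 := by
    intro f hf
    show εd ⟨f, _⟩ = -1
    by_cases hfd : f = d
    · subst hfd; exact hεd.2
    · exact hεd.1 f ⟨hf.1, hfd, hc d hd f hf⟩
  have hnorm : ∀ s ∈ T, ∀ e (he : e ∈ E), ∃ he' : s * e * s⁻¹ ∈ E, par ⟨_, he'⟩ = par ⟨e, he⟩ := by
    intro s hs e he
    induction he using Subgroup.closure_induction with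
    | mem f hf =>
      have hf' : s * f * s⁻¹ ∈ fr D T := ⟨hE.conj s f hf.1, mul_mem (mul_mem hs hf.2) (inv_mem hs)⟩
      exact ⟨Subgroup.subset_closure hf', (hparF _ hf').trans (hparF f hf).symm⟩
    | one =>
      refine ⟨by simp, ?_⟩
      congr 1
      exact Subtype.ext (by simp)
    | mul a b ha hb ia ib =>
      obtain ⟨ha', ea⟩ := ia
      obtain ⟨hb', eb⟩ := ib
      refine ⟨by rw [show s * (a * b) * s⁻¹ = (s * a * s⁻¹) * (s * b * s⁻¹) by group]; exact mul_mem ha' hb', ?_⟩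
      rw [show (⟨a * b, E.mul_mem ha hb⟩ : ↥E) = ⟨a, ha⟩ * ⟨b, hb⟩ from rfl, map_mul, ← ea, ← eb, ← map_mul]
      exact congrArg par (Subtype.ext (show s * (a * b) * s⁻¹ = (s * a * s⁻¹) * (s * b * s⁻¹) by group))
    | inv a ha ia =>
      obtain ⟨ha', ea⟩ := ia
      refine ⟨by rw [show s * a⁻¹ * s⁻¹ = (s * a * s⁻¹)⁻¹ by group]; exact inv_mem ha', ?_⟩
      rw [show (⟨a⁻¹, E.inv_mem ha⟩ : ↥E) = ⟨a, ha⟩⁻¹ from rfl, map_inv, ← ea, ← map_inv]
      exact congrArg par (Subtype.ext (show s * a⁻¹ * s⁻¹ = (s * a * s⁻¹)⁻¹ by group))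
  -- the value on a product of an element of the frame group and one fixing x
  let val : (s : G) → (e : ↥E) → ((e : G)⁻¹ * s ∈ Subgroup.centralizer ({x} : Set G)) → ℤˣ :=
    fun s e h => par e * εx ⟨(e : G)⁻¹ * s, h⟩
  have hwd : ∀ s (e e' : ↥E) (h : (e : G)⁻¹ * s ∈ Subgroup.centralizer ({x} : Set G))
      (h' : (e' : G)⁻¹ * s ∈ Subgroup.centralizer ({x} : Set G)), val s e h = val s e' h' := by
    intro s e e' h h'
    have hu : ((e⁻¹ * e' : ↥E) : G) ∈ Subgroup.centralizer ({x} : Set G) := by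
      show (e : G)⁻¹ * e' ∈ _
      rw [show (e : G)⁻¹ * e' = ((e : G)⁻¹ * s) * ((e' : G)⁻¹ * s)⁻¹ by group]
      exact mul_mem h (inv_mem h')
    have hag := eps_agree hS hyp hd.1 hxn hεd hεx (hEd (e⁻¹ * e' : ↥E).2) hu
    show par e * εx ⟨_, h⟩ = par e' * εx ⟨_, h'⟩
    rw [show (⟨(e : G)⁻¹ * s, h⟩ : Subgroup.centralizer ({x} : Set G)) = ⟨_, hu⟩ * ⟨(e' : G)⁻¹ * s, h'⟩ from
      Subtype.ext (show (e : G)⁻¹ * s = ((e : G)⁻¹ * e') * ((e' : G)⁻¹ * s) by group), map_mul, ← hag, ← mul_assoc]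
    congr 1
    show par e * par (e⁻¹ * e') = par e'
    rw [← map_mul, mul_inv_cancel_left]
  have hdec : ∀ s : (T : Subgroup G), ∃ e : ↥E, (e : G)⁻¹ * s ∈ Subgroup.centralizer ({x} : Set G) := by
    intro s
    obtain ⟨h, hh, he⟩ := hfix s s.2
    refine ⟨⟨h, hh⟩, Subgroup.mem_centralizer_singleton_iff.mpr ?_⟩
    show h⁻¹ * (s : G) * x = x * (h⁻¹ * (s : G))
    calc h⁻¹ * (s : G) * x = h⁻¹ * ((s : G) * x * (s : G)⁻¹) * s := by group
      _ = x * (h⁻¹ * (s : G)) := by rw [he]; group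
  choose σ hσ using hdec
  let ψ : (T : Subgroup G) →* ℤˣ := MonoidHom.mk' (fun s => val s (σ s) (hσ s)) (by
    intro s t
    set c : G := ((σ s : ↥E) : G)⁻¹ * s with hcdef
    have hcT : c ∈ T := mul_mem (inv_mem (hET (σ s).2)) s.2
    obtain ⟨he', hpe⟩ := hnorm c hcT _ (σ t).2
    have h' : ((σ s * ⟨_, he'⟩ : ↥E) : G)⁻¹ * ((s * t : (T : Subgroup G)) : G) ∈
        Subgroup.centralizer ({x} : Set G) := by
      show ((σ s : G) * (c * (σ t : G) * c⁻¹))⁻¹ * ((s : G) * t) ∈ _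
      rw [show ((σ s : G) * (c * (σ t : G) * c⁻¹))⁻¹ * ((s : G) * t) = c * ((σ t : G)⁻¹ * t) by
        rw [hcdef]; group]
      exact mul_mem (hσ s) (hσ t)
    rw [hwd _ _ _ (hσ _) h']
    show par (σ s * ⟨_, he'⟩) * εx ⟨_, h'⟩ = par (σ s) * εx ⟨_, hσ s⟩ * (par (σ t) * εx ⟨_, hσ t⟩)
    rw [map_mul, hpe, show (⟨_, h'⟩ : Subgroup.centralizer ({x} : Set G)) = ⟨_, hσ s⟩ * ⟨_, hσ t⟩ from
      Subtype.ext (show ((σ s : G) * (c * (σ t : G) * c⁻¹))⁻¹ * ((s : G) * t) = c * ((σ t : G)⁻¹ * t) by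
        rw [hcdef]; group), map_mul]
    rw [mul_mul_mul_comm])
  refine ⟨ψ, fun f hf => ?_⟩
  have h1 : ((⟨f, Subgroup.subset_closure hf⟩ : ↥E) : G)⁻¹ * ((⟨f, hf.2⟩ : (T : Subgroup G)) : G) ∈
      Subgroup.centralizer ({x} : Set G) := by
    show f⁻¹ * f ∈ _
    rw [inv_mul_cancel]; exact one_mem _
  show val f (σ _) (hσ _) = -1
  rw [hwd _ _ ⟨f, Subgroup.subset_closure hf⟩ (hσ _) h1]
  show par _ * εx ⟨_, h1⟩ = -1
  rw [show (⟨_, h1⟩ : Subgroup.centralizer ({x} : Set G)) = 1 from Subtype.ext (inv_mul_cancel f), map_one,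
    mul_one, hparF f hf]

end Cfsg.Agent.Spor.M24Rel.Parity
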