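import Cfsg.Agent.Lib.Spor.M24RelCount
import Cfsg.Agent.Lib.Spor.M24RelParity
import Cfsg.Agent.S5354

/-!
The basic facts about a group of type M(24).
-/

set_option autoImplicit false
set_option maxRecDepth 100000
set_option linter.unusedSectionVars false

namespace Cfsg.Agent.Spor.M24Rel.Main

open Cfsg.Agent.Spor.M22U (nset)
open Cfsg.Agent.Spor.M23Rel

variable {G : Type*} [Group G] [Finite G] {D : Set G}

theorem transfer_member (hsq : ∀ d ∈ D, d * d = 1) (hconj : ∀ g : G, ∀ d ∈ D, g * d * g⁻¹ ∈ D)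
    (T : Sylow 2 G) (ψ : (T : Subgroup G) →* ℤˣ) (hψ : ∀ (f : G), f ∈ D → ∀ hf : f ∈ T, ψ ⟨f, hf⟩ = -1)
    {d : G} (hd : d ∈ D) : ψ.transfer d = -1 := by
  classical
  haveI : Fact (Nat.Prime 2) := ⟨Nat.prime_two⟩
  have hdd := hsq d hd
  have := Fintype.ofFinite (Quotient (MulAction.orbitRel (Subgroup.zpowers d) (G ⧸ (T : Subgroup G))))
  rw [MonoidHom.transfer_eq_prod_quotient_orbitRel_zpowers_quot ψ d]
  have hper : ∀ q : G ⧸ (T : Subgroup G), Function.minimalPeriod (d • ·) q ∣ 2 := by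
    intro q
    apply Function.IsPeriodicPt.minimalPeriod_dvd
    show (fun x => d • x) ((fun x => d • x) q) = q
    simp only [smul_smul, hdd, one_smul]
  have hval : ∀ q : Quotient (MulAction.orbitRel (Subgroup.zpowers d) (G ⧸ (T : Subgroup G))),
      ψ ⟨q.out.out⁻¹ * d ^ Function.minimalPeriod (d • ·) q.out * q.out.out,
        QuotientGroup.out_conj_pow_minimalPeriod_mem (T : Subgroup G) d q.out⟩ =
        (-1) ^ Function.minimalPeriod (d • ·) q.out := by
    intro q
    have key : ∀ (p : ℕ) (hp : q.out.out⁻¹ * d ^ p * q.out.out ∈ (T : Subgroup G)), p ∣ 2 →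
        ψ ⟨_, hp⟩ = (-1) ^ p := by
      intro p hp hp2
      rcases (Nat.dvd_prime Nat.prime_two).1 hp2 with rfl | rfl
      · refine (hψ _ ?_ hp).trans (pow_one _).symm
        rw [pow_one]
        have := hconj q.out.out⁻¹ d hd
        rwa [inv_inv] at this
      · rw [show (⟨_, hp⟩ : (T : Subgroup G)) = 1 from Subtype.ext (by
          show q.out.out⁻¹ * d ^ 2 * q.out.out = 1
          rw [pow_two, hdd]; group), map_one]
        rfl
    exact key _ _ (hper _)
  rw [Finset.prod_congr rfl fun q _ => hval q, Finset.prod_pow_eq_pow_sum,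
    ← Subgroup.index_eq_sum_minimalPeriod (T : Subgroup G) d]
  refine Odd.neg_one_pow (Nat.odd_iff.mpr ?_)
  have := Sylow.not_dvd_index T
  omega

theorem m24_facts (hD : Cfsg.IsThreeTranspositionGroup D) (hprim : Cfsg.IsPrimitiveUnderConj D)
    (ht : Cfsg.IsOfTypeM24 G D) :
    (Cfsg.layer G).index = 2 ∧ D.ncard = 306936 ∧
      Nat.card G = 2 ^ 22 * 3 ^ 16 * 5 ^ 2 * 7 ^ 3 * 11 * 13 * 17 * 23 * 29 ∧ Cfsg.commutingWidth D = 24 ∧
      ∀ d ∈ D, Subgroup.closure (nset D d) = Subgroup.centralizer ({d} : Set G) := by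
  have B := Count.base_of hD hprim ht
  have hw := Width.width_eq hD hprim ht
  refine ⟨?_, Count.ncard_D B, Count.card_G B, hw, fun d hd => Cent.closure_cent B.set hd⟩
  haveI : Fact (Nat.Prime 2) := ⟨Nat.prime_two⟩
  obtain ⟨T⟩ : Nonempty (Sylow 2 G) := inferInstance
  obtain ⟨hcomm, hcard⟩ := Cfsg.Agent.S5345.result hD T
  rw [hw] at hcard
  have hc : ∀ a ∈ Parity.fr D T, ∀ b ∈ Parity.fr D T, Commute a b := fun a ha b hb =>
    (congrArg Subtype.val (hcomm.1.1 ⟨a, Subgroup.subset_closure ha⟩ ⟨b, Subgroup.subset_closure hb⟩) :)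
  obtain ⟨ψ, hψ⟩ := Parity.exists_psi B.set T hcard hc B.hyp
  have hV : ∀ d ∈ D, ψ.transfer d = -1 := fun d hd =>
    transfer_member (fun e he => mul_self_of_order_two (hD.1.1 e he)) hD.2.1 T ψ
      (fun f hf hfT => hψ f ⟨hf, hfT⟩) hd
  obtain ⟨⟨L, hLn, hL, hLi, -⟩, -, -⟩ := Cfsg.Agent.S5354.result hD hprim B.hyp.width
  haveI := hLn
  have hLc : Cfsg.IsComponent L := ⟨Subgroup.Normal.isSubnormal inferInstance, hL⟩
  have e1 : Cfsg.layer G = L := le_antisymm
    (sSup_le fun K hK => ((component_unique B.hyp.cls).2 K L hK hLc).le) (Solv.component_le_layer hLc)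
  rw [e1]
  have h0 : L.index ≠ 0 := Subgroup.FiniteIndex.index_ne_zero
  rcases (show L.index = 1 ∨ L.index = 2 by omega) with h | h
  swap
  · exact h
  exfalso
  obtain ⟨d, hd, -⟩ := B.big
  have hker : L ≤ (ψ.transfer).ker := by
    rw [← Solv.qs_self_commutator hL, Subgroup.commutator_le]
    intro a _ b _
    rw [MonoidHom.mem_ker, map_commutatorElement, commutatorElement_eq_one_iff_mul_comm]
    exact mul_comm _ _
  have := MonoidHom.mem_ker.mp (hker (Subgroup.index_eq_one.mp h ▸ Subgroup.mem_top d))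
  rw [hV d hd] at this
  exact absurd this (by decide)

end Cfsg.Agent.Spor.M24Rel.Main
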