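import Cfsg.Agent.Lib.Spor.M24RelBase
import Cfsg.Agent.Lib.Spor.M23RelFixMain

/-!
Subgroups of odd order centralised by a member of a group of type M(24), seen in the group of type M(23)
of the members commuting with that member.
-/

set_option autoImplicit false
set_option maxRecDepth 100000
set_option linter.unusedSectionVars false

namespace Cfsg.Agent.Spor.M24Rel.Near

open Cfsg.Agent.Spor.M22U (nset)
open Cfsg.Agent.Spor.M23Rel

variable {G : Type*} [Group G] [Finite G] {D : Set G} {d : G}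

/-- the group of the members commuting with the member -/
abbrev H (D : Set G) (d : G) : Subgroup G := Subgroup.closure (nset D d)

/-- the projection to the group of type M(23) -/
abbrev π (D : Set G) (d : G) : ↥(H D d) →* ↥(H D d) ⧸ Subgroup.center ↥(H D d) := QuotientGroup.mk' _

/-- the image of a subgroup -/
abbrev bar (D : Set G) (d : G) (X : Subgroup G) : Subgroup (↥(H D d) ⧸ Subgroup.center ↥(H D d)) :=
  (X.subgroupOf (H D d)).map (π D d)

theorem odd_pow {X : Subgroup G} {z : G} (hz : z ∈ X) : z ^ Nat.card X = 1 := by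
  have : (⟨z, hz⟩ : X) ^ Nat.card X = 1 := pow_card_eq_one'
  exact congrArg Subtype.val this

theorem dd (hd2 : d * d = 1) {n : ℕ} (hn : Odd n) : d ^ n = d := by
  obtain ⟨k, rfl⟩ := hn
  rw [pow_succ, pow_mul, pow_two, hd2, one_pow, one_mul]

section

variable (hS : ∀ x ∈ D, Fix.Setting D x) (hd : d ∈ D)

include hS hd

theorem le_H {X : Subgroup G} (h : d ∈ Subgroup.centralizer (X : Set G)) : X ≤ H D d := fun x hx => by
  rw [H, Cent.closure_cent hS hd, Subgroup.mem_centralizer_singleton_iff]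
  exact Subgroup.mem_centralizer_iff.mp h x hx

theorem mem_H {x : G} (h : Commute x d) : x ∈ H D d := by
  rw [H, Cent.closure_cent hS hd, Subgroup.mem_centralizer_singleton_iff]
  exact h.eq

theorem d_mem : d ∈ H D d := Cent.mem_closure hS hd

theorem comm_d {x : G} (hx : x ∈ H D d) : Commute x d := commute_of_mem hx

theorem π_d : π D d ⟨d, d_mem hS hd⟩ = 1 := (mk_eq_one_iff d).mpr fun _ hy => hy.2.2

theorem π_eq {a b : ↥(H D d)} (h : π D d a = π D d b) : (b : G) = a ∨ (b : G) = a * d := by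
  have h1 : π D d (a⁻¹ * b) = 1 := by rw [map_mul, map_inv, h, inv_mul_cancel]
  rcases (hS d hd).central_cases h1 with h | h
  · exact Or.inl (inv_mul_eq_one.mp h).symm
  · exact Or.inr (inv_mul_eq_iff_eq_mul.mp h)

/-- two elements of an odd subgroup with the same image -/
theorem π_eq_odd {X : Subgroup G} (hodd : Odd (Nat.card X)) (hdC : d ∈ Subgroup.centralizer (X : Set G))
    {a b : ↥(H D d)} (ha : (a : G) ∈ X) (hb : (b : G) ^ Nat.card X = 1) (h : π D d a = π D d b) :
    (b : G) = a := by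
  rcases π_eq hS hd h with e | e
  · exact e
  · exfalso
    have hd2 := mul_self_of_order_two ((hS d hd).hD.1.1 d hd)
    rw [e, (show Commute (a : G) d from Subgroup.mem_centralizer_iff.mp hdC _ ha).mul_pow, odd_pow ha,
      one_mul, dd hd2 hodd] at hb
    exact (hS d hd).ne_one d hd hb

theorem card_bar {X : Subgroup G} (hodd : Odd (Nat.card X)) (hdC : d ∈ Subgroup.centralizer (X : Set G)) :
    Nat.card ↥(bar D d X) = Nat.card X := by
  have hle := le_H hS hd hdC
  have hinj : Set.InjOn (π D d) (X.subgroupOf (H D d) : Set ↥(H D d)) := fun a ha b hb h =>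
    (Subtype.ext (π_eq_odd hS hd hodd hdC ha (odd_pow hb) h)).symm
  rw [← Nat.card_congr (Subgroup.subgroupOfEquivOfLe hle).toEquiv]
  exact Nat.card_image_of_injOn hinj

theorem odd_bar {X : Subgroup G} (hodd : Odd (Nat.card X)) (hdC : d ∈ Subgroup.centralizer (X : Set G)) :
    Odd (Nat.card ↥(bar D d X)) := (card_bar hS hd hodd hdC).symm ▸ hodd

theorem mem_of_bar {X : Subgroup G} (hodd : Odd (Nat.card X)) (hdC : d ∈ Subgroup.centralizer (X : Set G))
    {h : ↥(H D d)} (hh : π D d h ∈ bar D d X) : (h : G) ∈ X ∨ ∃ x ∈ X, (h : G) = x * d := by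
  obtain ⟨x, hx, hxe⟩ := hh
  rcases π_eq hS hd hxe with e | e
  · exact Or.inl (e ▸ hx)
  · exact Or.inr ⟨x, hx, e⟩

theorem cent_iff {X : Subgroup G} (hodd : Odd (Nat.card X)) (hdC : d ∈ Subgroup.centralizer (X : Set G))
    (h : ↥(H D d)) :
    π D d h ∈ Subgroup.centralizer ((bar D d X : Subgroup _) : Set (↥(H D d) ⧸ Subgroup.center ↥(H D d))) ↔ (h : G) ∈ Subgroup.centralizer (X : Set G) := by
  have hle := le_H hS hd hdC
  constructor
  · intro hh
    rw [Subgroup.mem_centralizer_iff]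
    intro x hx
    have h1 : π D d (h * ⟨x, hle hx⟩ * h⁻¹) = π D d ⟨x, hle hx⟩ := by
      rw [map_mul, map_mul, map_inv, ← Subgroup.mem_centralizer_iff.mp hh _ ⟨⟨x, hle hx⟩, hx, rfl⟩,
        mul_inv_cancel_right]
    have h2 : (h : G) * x * (h : G)⁻¹ = x := π_eq_odd hS hd hodd hdC (a := ⟨x, hle hx⟩)
      (b := h * ⟨x, hle hx⟩ * h⁻¹) hx (by
        show ((h : G) * x * (h : G)⁻¹) ^ Nat.card X = 1
        rw [conj_pow, odd_pow hx, mul_one, mul_inv_cancel]) h1.symm
    exact (mul_inv_eq_iff_eq_mul.mp h2).symm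
  · intro hh
    rw [Subgroup.mem_centralizer_iff]
    rintro _ ⟨x, hx, rfl⟩
    rw [← map_mul, ← map_mul]
    exact congrArg _ (Subtype.ext (Subgroup.mem_centralizer_iff.mp hh _ hx))

theorem norm_iff {X : Subgroup G} (hodd : Odd (Nat.card X)) (hdC : d ∈ Subgroup.centralizer (X : Set G))
    (h : ↥(H D d)) :
    π D d h ∈ Subgroup.normalizer ((bar D d X : Subgroup _) : Set (↥(H D d) ⧸ Subgroup.center ↥(H D d))) ↔ (h : G) ∈ Subgroup.normalizer (X : Set G) := by
  have hle := le_H hS hd hdC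
  constructor
  · intro hh
    refine (Subgroup.mem_normalizer_iff_map_conj_eq).mpr (Subgroup.eq_of_le_of_card_ge ?_ (le_of_eq ?_))
    · rintro _ ⟨x, hx, rfl⟩
      obtain ⟨y, hy, hye⟩ : π D d (h * ⟨x, hle hx⟩ * h⁻¹) ∈ bar D d X := by
        rw [map_mul, map_mul, map_inv]
        exact (Subgroup.mem_normalizer_iff.mp hh _).mp ⟨⟨x, hle hx⟩, hx, rfl⟩
      have h2 := π_eq_odd hS hd hodd hdC hy (b := h * ⟨x, hle hx⟩ * h⁻¹) (by
        show ((h : G) * x * (h : G)⁻¹) ^ Nat.card X = 1
        rw [conj_pow, odd_pow hx, mul_one, mul_inv_cancel]) hye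
      show (h : G) * x * (h : G)⁻¹ ∈ X
      have h2' : (h : G) * x * (h : G)⁻¹ = y := h2
      rw [h2']; exact hy
    · exact Nat.card_congr (Subgroup.equivMapOfInjective _ _ (MulAut.conj (h : G)).injective).toEquiv
  · intro hh
    refine (Subgroup.mem_normalizer_iff_map_conj_eq).mpr (Subgroup.eq_of_le_of_card_ge ?_ (le_of_eq ?_))
    · rintro _ ⟨_, ⟨x, hx, rfl⟩, rfl⟩
      refine ⟨h * x * h⁻¹, (Subgroup.mem_normalizer_iff.mp hh _).mp hx, ?_⟩
      show π D d (h * x * h⁻¹) = π D d h * π D d x * (π D d h)⁻¹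
      simp
    · exact Nat.card_congr (Subgroup.equivMapOfInjective _ _ (MulAut.conj (π D d h)).injective).toEquiv

theorem card_comap (U : Subgroup (↥(H D d) ⧸ Subgroup.center ↥(H D d))) :
    Nat.card ↥(U.comap (π D d)) = 2 * Nat.card ↥U := by
  have hi : (U.comap (π D d)).index = U.index :=
    Subgroup.index_comap_of_surjective _ (QuotientGroup.mk'_surjective _)
  have h1 := Subgroup.card_mul_index (U.comap (π D d))
  have h2 := Subgroup.card_mul_index U
  rw [hi, Subgroup.card_eq_card_quotient_mul_card_subgroup (Subgroup.center ↥(H D d)), Cent.card_center hS hd,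
    ← h2] at h1
  have : U.index ≠ 0 := Subgroup.FiniteIndex.index_ne_zero
  exact Nat.eq_of_mul_eq_mul_right (Nat.pos_of_ne_zero this) (h1.trans (by ring))

theorem card_inf {A : Subgroup G} {U : Subgroup (↥(H D d) ⧸ Subgroup.center ↥(H D d))}
    (hA : ∀ h : ↥(H D d), π D d h ∈ U ↔ (h : G) ∈ A) :
    Nat.card ↥(A ⊓ Subgroup.centralizer ({d} : Set G)) = 2 * Nat.card ↥U := by
  have e : (U.comap (π D d)).map (H D d).subtype = A ⊓ Subgroup.centralizer ({d} : Set G) := by
    ext g
    constructor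
    · rintro ⟨h, hh, rfl⟩
      exact ⟨(hA h).mp hh, Subgroup.mem_centralizer_singleton_iff.mpr (comm_d hS hd h.2).eq⟩
    · rintro ⟨hg, hgd⟩
      exact ⟨⟨g, mem_H hS hd (Subgroup.mem_centralizer_singleton_iff.mp hgd)⟩, (hA _).mpr hg, rfl⟩
  rw [← e, ← Nat.card_congr (Subgroup.equivMapOfInjective _ _ (H D d).subtype_injective).toEquiv,
    card_comap hS hd]

theorem card_norm {X : Subgroup G} (hodd : Odd (Nat.card X)) (hdC : d ∈ Subgroup.centralizer (X : Set G)) :
    Nat.card ↥(Subgroup.normalizer (X : Set G) ⊓ Subgroup.centralizer ({d} : Set G)) =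
      2 * Nat.card ↥(Subgroup.normalizer ((bar D d X : Subgroup _) : Set (↥(H D d) ⧸ Subgroup.center ↥(H D d)))) :=
  card_inf hS hd (norm_iff hS hd hodd hdC)

/-- the members commuting with the subgroup and the member, and those of the quotient -/
theorem img_cent {X : Subgroup G} (hodd : Odd (Nat.card X)) (hdC : d ∈ Subgroup.centralizer (X : Set G))
    {u : G} (hu : u ∈ nset D d) :
    u ∈ Subgroup.centralizer (X : Set G) ↔
      (hS d hd).img u hu ∈ nextSet D d ∩ ((Subgroup.centralizer ((bar D d X : Subgroup _) : Set (↥(H D d) ⧸ Subgroup.center ↥(H D d))) : Subgroup _) : Set (↥(H D d) ⧸ Subgroup.center ↥(H D d))) :=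
  ⟨fun h => ⟨(hS d hd).img_mem hu, (cent_iff hS hd hodd hdC _).mpr h⟩,
    fun h => (cent_iff hS hd hodd hdC _).mp h.2⟩

theorem lift_member {X : Subgroup G} (hodd : Odd (Nat.card X)) (hdC : d ∈ Subgroup.centralizer (X : Set G))
    {q : ↥(H D d) ⧸ Subgroup.center ↥(H D d)}
    (hq : q ∈ nextSet D d ∩ ((Subgroup.centralizer ((bar D d X : Subgroup _) : Set (↥(H D d) ⧸ Subgroup.center ↥(H D d))) : Subgroup _) : Set (↥(H D d) ⧸ Subgroup.center ↥(H D d)))) :
    ∃ u, ∃ hu : u ∈ nset D d, u ∈ Subgroup.centralizer (X : Set G) ∧ (hS d hd).img u hu = q := by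
  obtain ⟨⟨⟨u, huH⟩, hu, rfl⟩, hc⟩ := hq
  exact ⟨u, hu, (cent_iff hS hd hodd hdC _).mp hc, rfl⟩

/-- an element fixing the member and the image of another fixes that one -/
theorem fix_of_img {g : ↥(H D d)} {u : G} (hu : u ∈ nset D d)
    (h : Commute (π D d g) ((hS d hd).img u hu)) : Commute (g : G) u := by
  have hg := comm_d hS hd g.2
  have h1 : (hS d hd).img ((g : G) * u * (g : G)⁻¹) (nset_conj (hS d hd).pre hg hu) = (hS d hd).img u hu := by
    show π D d (g * ⟨u, Subgroup.subset_closure hu⟩ * g⁻¹) = π D d ⟨u, Subgroup.subset_closure hu⟩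
    rw [map_mul, map_mul, map_inv]
    show π D d g * (hS d hd).img u hu * (π D d g)⁻¹ = (hS d hd).img u hu
    rw [h.eq, mul_inv_cancel_right]
  exact mul_inv_eq_iff_eq_mul.mp ((hS d hd).img_inj (nset_conj (hS d hd).pre hg hu) hu h1)

end

/-- every subgroup of prime order centralises a member when all of them are conjugate -/
theorem member_cent (hS : ∀ x ∈ D, Fix.Setting D x) {d0 : G} (hd0 : d0 ∈ D) {p : ℕ} (hp : p.Prime)
    (h1 : p ∣ 4089470473293004800) (hG2 : ¬ p * p ∣ Nat.card G) {B : Subgroup G} (hB : Nat.card B = p) :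
    ∃ d ∈ D, d ∈ Subgroup.centralizer (B : Set G) := by
  haveI := Fact.mk hp
  obtain ⟨y, hy⟩ := exists_prime_orderOf_dvd_card' (G := ↥(Subgroup.centralizer ({d0} : Set G))) p
    (by rw [Cent.card_cent hS hd0]; exact Dvd.dvd.mul_left h1 2)
  have hy' : Nat.card (Subgroup.zpowers (y : G)) = p := by rw [Nat.card_zpowers, Subgroup.orderOf_coe, hy]
  have hpG : p ∣ Nat.card G := hy' ▸ Subgroup.card_subgroup_dvd_card _
  obtain ⟨g, hg⟩ := M22U.PrimeCount.conj_of_card hp hpG hG2 hy' hB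
  refine ⟨g * d0 * g⁻¹, (hS d0 hd0).hD.2.1 g d0 hd0, ?_⟩
  rw [← hg, Subgroup.mem_centralizer_iff]
  rintro _ ⟨z, hz, rfl⟩
  have hzc : Commute z d0 := Subgroup.mem_centralizer_singleton_iff.mp (Subgroup.zpowers_le.mpr y.2 hz)
  exact (hzc.map (MulAut.conj g).toMonoidHom).eq

end Cfsg.Agent.Spor.M24Rel.Near
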