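import Cfsg.Agent.Lib.Spor.M24RelPairFrame
import Cfsg.Agent.Lib.Spor.M24RelPairGfit
import Cfsg.Agent.S0296

/-!
The centralizer of two non-commuting members of a group of type M(24): it is generated by members, has a simple
normal subgroup of orthogonal type with quotient symmetric of degree 3, and nothing in it centralises that
subgroup.
-/

set_option autoImplicit false
set_option maxRecDepth 100000
set_option linter.unusedSectionVars false

namespace Cfsg.Agent.Spor.M24Rel.Pair

open Cfsg.Agent.Spor.M22U (nset)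
open Cfsg.Agent.Spor.M23Rel

variable {G : Type*} [Group G] [Finite G] {D : Set G}

theorem card_cen (hD : Cfsg.IsThreeTranspositionGroup D) (hprim : Cfsg.IsPrimitiveUnderConj D)
    (ht : Cfsg.IsOfTypeM24 G D) {a d : G} (ha : a ∈ D) (hd : d ∈ D) (hnc : ¬ Commute a d) :
    Nat.card (cen a d) = 29713078886400 := by
  rw [cen_eq]; exact Base.pair_cent hD hprim ht ha hd hnc

theorem com_le (a d : G) : Subgroup.closure (nset D a ∩ nset D d) ≤ cen a d :=
  (Subgroup.closure_le _).2 fun _ hy => mem_cen.mpr ⟨hy.1.2.2.symm, hy.2.2.2.symm⟩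

/-- conjugation between two such centralizers -/
noncomputable def cenEquiv (g a d : G) : cen a d ≃* cen (g * a * g⁻¹) (g * d * g⁻¹) :=
  (MulEquiv.subgroupMap (MulAut.conj g) (cen a d)).trans (MulEquiv.subgroupCongr (by
    ext y
    constructor
    · rintro ⟨u, hu, rfl⟩
      exact mem_cen.mpr ⟨(mem_cen.mp hu).1.map (MulAut.conj g).toMonoidHom,
        (mem_cen.mp hu).2.map (MulAut.conj g).toMonoidHom⟩
    · intro hy
      have e : g * (g⁻¹ * y * g) * g⁻¹ = y := by group
      refine ⟨g⁻¹ * y * g, mem_cen.mpr ?_, e⟩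
      rw [← commute_conj_iff (g := g), ← commute_conj_iff (g := g) (b := d), e]
      exact mem_cen.mp hy))

theorem closure_com (hD : Cfsg.IsThreeTranspositionGroup D) (hprim : Cfsg.IsPrimitiveUnderConj D)
    (ht : Cfsg.IsOfTypeM24 G D) {a d : G} (ha : a ∈ D) (hd : d ∈ D) (hnc : ¬ Commute a d) :
    Subgroup.closure (nset D a ∩ nset D d) = cen a d ∧
      ∃ f : cen a d →* Equiv.Perm (Fin 3), Function.Surjective f ∧
        Nonempty (f.ker ≃* Cfsg.POmega (ZMod 3) (Cfsg.quadFormPlus 4 (ZMod 3))) := by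
  have B := Count.base_of hD hprim ht
  obtain ⟨-, d0, hd0, c0, hc0, hnc0, -, N, hN, ⟨φ⟩, ⟨ψ⟩⟩ := id ht
  set L0 := Subgroup.closure (nset D d0 ∩ nset D c0) with hL0
  have h6 : Nat.card (↥L0 ⧸ Subgroup.center ↥L0) = 29713078886400 := by
    rw [Subgroup.card_eq_card_quotient_mul_card_subgroup N, Nat.card_congr ψ.toEquiv,
      Nat.card_congr φ.toEquiv, Count.card_pomega, Nat.card_perm, Nat.card_eq_fintype_card, Fintype.card_fin]
    rfl
  have hcard := card_cen hD hprim ht hd0 hc0 hnc0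
  have hsplit := Subgroup.card_eq_card_quotient_mul_card_subgroup (Subgroup.center ↥L0)
  rw [h6] at hsplit
  have hle := Subgroup.card_le_of_le (com_le (D := D) d0 c0)
  rw [← hL0, hcard, hsplit] at hle
  have hpos : 0 < Nat.card (Subgroup.center ↥L0) := Nat.card_pos
  have hz : Nat.card (Subgroup.center ↥L0) = 1 := by omega
  rw [hz, mul_one] at hsplit
  have h0 : L0 = cen d0 c0 := Subgroup.eq_of_le_of_card_ge (com_le d0 c0) (by rw [hcard]; exact hsplit.ge)
  haveI := hN
  let π : cen d0 c0 →* ↥L0 ⧸ Subgroup.center ↥L0 :=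
    (QuotientGroup.mk' _).comp (MulEquiv.subgroupCongr h0.symm).toMonoidHom
  have hπ : Function.Bijective π := by
    refine ⟨?_, (QuotientGroup.mk'_surjective _).comp (MulEquiv.subgroupCongr h0.symm).surjective⟩
    intro x y hxy
    refine (MulEquiv.subgroupCongr h0.symm).injective ?_
    have := QuotientGroup.eq.mp hxy
    rw [Subgroup.card_eq_one.mp hz, Subgroup.mem_bot] at this
    exact inv_mul_eq_one.mp this
  let P : cen d0 c0 ≃* ↥L0 ⧸ Subgroup.center ↥L0 := MulEquiv.ofBijective π hπ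
  let f0 : cen d0 c0 →* Equiv.Perm (Fin 3) :=
    ψ.toMonoidHom.comp ((QuotientGroup.mk' N).comp P.toMonoidHom)
  have hf0 : Function.Surjective f0 := ψ.surjective.comp ((QuotientGroup.mk'_surjective N).comp P.surjective)
  have hk0 : ∀ x, x ∈ f0.ker ↔ P x ∈ N := fun x => by
    rw [MonoidHom.mem_ker]
    show ψ (QuotientGroup.mk (P x)) = 1 ↔ _
    rw [map_eq_one_iff ψ ψ.injective, QuotientGroup.eq_one_iff]
  obtain ⟨g, hga, hgd⟩ := pair_conj B hd0 hc0 hnc0 ha hd hnc
  subst hga hgd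
  set E := cenEquiv g d0 c0
  refine ⟨?_, f0.comp E.symm.toMonoidHom, hf0.comp E.symm.surjective, ⟨?_⟩⟩
  · refine Subgroup.eq_of_le_of_card_ge (com_le _ _) ?_
    rw [← com_image hD g d0 c0, ← MulEquiv.coe_toMonoidHom, ← MonoidHom.map_closure, ← hL0,
      Nat.card_congr (Subgroup.equivMapOfInjective L0 (MulAut.conj g : G ≃* G).toMonoidHom
        (MulAut.conj g : G ≃* G).injective).symm.toEquiv, hsplit, card_cen hD hprim ht ha hd hnc]
  · have e : (f0.comp E.symm.toMonoidHom).ker = N.map (P.symm.trans E).toMonoidHom := by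
      ext x
      rw [Subgroup.mem_map_equiv, MonoidHom.mem_ker, MonoidHom.comp_apply, ← MonoidHom.mem_ker, hk0]
      rfl
    exact ((MulEquiv.subgroupCongr e).trans (Subgroup.equivMapOfInjective N _ (P.symm.trans E).injective).symm).trans φ

variable {a d : G}

set_option synthInstance.maxSize 1000 in
theorem perm_three : ∀ s : Equiv.Perm (Fin 3), s ≠ 1 → s ^ 3 ≠ 1 →
    ∃ u, u * s * u⁻¹ * s⁻¹ ≠ 1 ∧ (u * s * u⁻¹ * s⁻¹) ^ 3 = 1 := by decide +kernel

theorem perm_two : ∀ s : Equiv.Perm (Fin 3), s * s = 1 → s ^ 3 = 1 → s = 1 := by decide +kernel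

theorem perm_invols : ∀ s : Equiv.Perm (Fin 3), s * s = 1 → s ≠ 1 →
    s = Equiv.swap 0 1 ∨ s = Equiv.swap 0 2 ∨ s = Equiv.swap 1 2 := by decide +kernel

set_option synthInstance.maxSize 1000 in
theorem perm_same : ∀ s u : Equiv.Perm (Fin 3), s * s = 1 → s ≠ 1 → u * u = 1 → u ≠ 1 → s * u = u * s → s = u := by
  decide +kernel

set_option synthInstance.maxSize 1000 in
theorem perm_inv : ∀ s v : Equiv.Perm (Fin 3), s * s = 1 → s ≠ 1 → v ≠ 1 → v ^ 3 = 1 → s * v * s⁻¹ = v⁻¹ := by
  decide +kernel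

theorem perm_shift : ∀ s v : Equiv.Perm (Fin 3), v ≠ 1 → s ≠ v * s := by decide +kernel

set_option synthInstance.maxSize 1000 in
theorem perm_conj : ∀ s t : Equiv.Perm (Fin 3), s * s = 1 → s ≠ 1 → t * t = 1 → t ≠ 1 →
    ∃ u, u * s * u⁻¹ = t := by decide +kernel

/-- nothing in the centralizer centralises the simple subgroup -/
theorem cent_ker (hD : Cfsg.IsThreeTranspositionGroup D) (hprim : Cfsg.IsPrimitiveUnderConj D)
    (ht : Cfsg.IsOfTypeM24 G D) (ha : a ∈ D) (hd : d ∈ D) (hnc : ¬ Commute a d)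
    (f : cen a d →* Equiv.Perm (Fin 3)) (hf : Function.Surjective f)
    (hiso : Nonempty (f.ker ≃* Cfsg.POmega (ZMod 3) (Cfsg.quadFormPlus 4 (ZMod 3)))) :
    IsSimpleGroup f.ker ∧ Nat.card f.ker = 4952179814400 ∧
      Subgroup.centralizer (f.ker : Set (cen a d)) = ⊥ := by
  obtain ⟨η⟩ := hiso
  haveI : IsSimpleGroup (Cfsg.POmega (ZMod 3) (Cfsg.quadFormPlus 4 (ZMod 3))) := S0296.result 4 le_rfl
  haveI hs : IsSimpleGroup f.ker := η.isSimpleGroup
  have hcard : Nat.card f.ker = 4952179814400 := (Nat.card_congr η.toEquiv).trans Count.card_pomega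
  refine ⟨hs, hcard, ?_⟩
  set T := Subgroup.centralizer (f.ker : Set (cen a d))
  haveI hTn : T.Normal := Subgroup.normal_centralizer
  have hTN : ∀ x ∈ T, f x = 1 → x = 1 := by
    have h : (T.subgroupOf f.ker) = ⊥ := by
      refine (Subgroup.normal_subgroupOf (H := f.ker) (N := T)).eq_bot_or_eq_top.resolve_right fun h => ?_
      have hle := Subgroup.subgroupOf_eq_top.mp h
      letI : CommGroup f.ker := { (inferInstance : Group f.ker) with
        mul_comm := fun u v => Subtype.ext (Subgroup.mem_centralizer_iff.mp (hle v.2) u u.2) }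
      have := IsSimpleGroup.prime_card (α := f.ker)
      rw [hcard] at this
      norm_num at this
    intro x hx hfx
    have : (⟨x, hfx⟩ : f.ker) ∈ T.subgroupOf f.ker := hx
    rw [h, Subgroup.mem_bot] at this
    exact congrArg Subtype.val this
  rw [eq_bot_iff]
  intro t0 ht0
  rw [Subgroup.mem_bot]
  by_contra ht01
  -- the members in the centralizer
  obtain ⟨hcl, -⟩ := closure_com hD hprim ht ha hd hnc
  set Λ : Set (cen a d) := {y | (y : G) ∈ nset D a ∩ nset D d} with hΛdef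
  have hgen : Subgroup.closure Λ = ⊤ := by
    have h := Subgroup.closure_closure_coe_preimage (k := nset D a ∩ nset D d)
    rw [eq_top_iff]
    intro x _
    have hx : (x : G) ∈ Subgroup.closure (nset D a ∩ nset D d) := hcl.symm ▸ x.2
    have key : Subgroup.closure (nset D a ∩ nset D d) ≤ (Subgroup.closure Λ).map (cen a d).subtype :=
      (Subgroup.closure_le _).2 fun y hy =>
        ⟨⟨y, com_le a d (Subgroup.subset_closure hy)⟩, Subgroup.subset_closure hy, rfl⟩
    obtain ⟨z, hz, hzx⟩ := key hx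
    rw [← Subtype.ext (a1 := z) hzx]
    exact hz
  have hE : Pre D := (Count.base_of hD hprim ht).set a ha |>.pre
  have hsq : ∀ y ∈ Λ, y * y = 1 := fun y hy => Subtype.ext (hE.sq _ hy.1.1)
  have hΛc : ∀ (k : cen a d), ∀ y ∈ Λ, k * y * k⁻¹ ∈ Λ := fun k y hy =>
    ⟨nset_conj hE (mem_cen.mp k.2).1 hy.1, nset_conj hE (mem_cen.mp k.2).2 hy.2⟩
  have hbr : ∀ y ∈ Λ, ∀ z ∈ Λ, ¬ Commute y z → (y * z) ^ 3 = 1 ∧ y * z * y = z * y * z := fun y hy z hz h => by
    obtain ⟨h1, h2⟩ := hE.braid hy.1.1 hz.1.1 fun h' => h (Subtype.ext h'.eq)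
    exact ⟨Subtype.ext h1, Subtype.ext h2⟩
  have hmix : ∀ y ∈ Λ, ∀ z ∈ Λ, f y = 1 → f z ≠ 1 → Commute y z := fun y hy z hz h1 h2 => by
    by_contra h
    have h3 := congrArg f (hbr y hy z hz h).1
    rw [map_pow, map_mul, h1, one_mul, map_one] at h3
    exact h2 (perm_two _ (by rw [← map_mul, hsq z hz, map_one]) h3)
  set M : Set (cen a d) := {y | y ∈ Λ ∧ f y = 1} with hMdef
  set O : Set (cen a d) := {y | y ∈ Λ ∧ f y ≠ 1} with hOdef
  have hMc : ∀ k, ∀ y ∈ M, k * y * k⁻¹ ∈ M := fun k y hy =>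
    ⟨hΛc k y hy.1, by rw [map_mul, map_mul, hy.2, mul_one, map_inv, mul_inv_cancel]⟩
  have hMN : Subgroup.closure M ≤ f.ker := (Subgroup.closure_le _).2 fun y hy => hy.2
  -- a subset of the kernel closed under conjugation generates it
  have hfull : ∀ X ⊆ M, X.Nonempty → (∀ k ∈ f.ker, ∀ y ∈ X, k * y * k⁻¹ ∈ X) → Subgroup.closure X = f.ker := by
    intro X hX ⟨y, hy⟩ hXc
    have hle : Subgroup.closure X ≤ f.ker := (Subgroup.closure_mono hX).trans hMN
    haveI : ((Subgroup.closure X).subgroupOf f.ker).Normal := by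
      constructor
      intro u hu k
      rw [Subgroup.mem_subgroupOf] at hu ⊢
      have : Subgroup.closure X ≤ (Subgroup.closure X).comap (MulAut.conj (k : cen a d)).toMonoidHom :=
        (Subgroup.closure_le _).2 fun z hz => Subgroup.subset_closure (hXc k k.2 z hz)
      exact this hu
    rcases (inferInstance : ((Subgroup.closure X).subgroupOf f.ker).Normal).eq_bot_or_eq_top with h | h
    · exfalso
      have hy' : (⟨y, (hX hy).2⟩ : f.ker) ∈ (Subgroup.closure X).subgroupOf f.ker := Subgroup.subset_closure hy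
      rw [h, Subgroup.mem_bot] at hy'
      exact (Count.base_of hD hprim ht).set a ha |>.ne_one _ (hX hy).1.1.1
        (congrArg (fun u : f.ker => ((u : cen a d) : G)) hy')
    · exact le_antisymm hle (Subgroup.subgroupOf_eq_top.mp h)
  rcases M.eq_empty_or_nonempty with hM0 | hMne
  · -- no member in the simple subgroup
    obtain ⟨t, htT, ht1, ht3⟩ : ∃ t ∈ T, f t ≠ 1 ∧ f t ^ 3 = 1 := by
      have hs1 : f t0 ≠ 1 := fun h => ht01 (hTN t0 ht0 h)
      by_cases h3 : f t0 ^ 3 = 1
      · exact ⟨t0, ht0, hs1, h3⟩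
      obtain ⟨u, hu1, hu3⟩ := perm_three _ hs1 h3
      obtain ⟨v, rfl⟩ := hf u
      refine ⟨v * t0 * v⁻¹ * t0⁻¹, mul_mem (hTn.conj_mem t0 ht0 v) (inv_mem ht0), ?_, ?_⟩
      · simpa only [map_mul, map_inv] using hu1
      · simpa only [map_mul, map_inv] using hu3
    have hno : ∀ y ∈ Λ, f y ≠ 1 := fun y hy h => (Set.eq_empty_iff_forall_notMem.mp hM0 y) ⟨hy, h⟩
    have hinv : ∀ y ∈ Λ, y * t * y⁻¹ = t⁻¹ := fun y hy => by
      have hy1 : f y * f y = 1 := by rw [← map_mul, hsq y hy, map_one]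
      have := hTN (y * t * y⁻¹ * t) (mul_mem (hTn.conj_mem t htT y) htT)
        (by rw [map_mul, map_mul, map_mul, map_inv, perm_inv _ _ hy1 (hno y hy) ht1 ht3,
          inv_mul_cancel])
      exact eq_inv_of_mul_eq_one_left this
    have ht3' : t ^ 3 = 1 := hTN _ (pow_mem htT 3) (by rw [map_pow, ht3])
    obtain ⟨y0, hy0, z0, hz0, hne, hyz⟩ := exists_two hD hprim ht ha hd hnc
    set y : cen a d := ⟨y0, com_le a d (Subgroup.subset_closure hy0)⟩
    set z : cen a d := ⟨z0, com_le a d (Subgroup.subset_closure hz0)⟩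
    have hy : y ∈ Λ := hy0
    have hz : z ∈ Λ := hz0
    have hy1 : f y * f y = 1 := by rw [← map_mul, hsq y hy, map_one]
    have hz1 : f z * f z = 1 := by rw [← map_mul, hsq z hz, map_one]
    have hcyz : Commute z y := Subtype.ext hyz.symm.eq
    have hfe : f z = f y := perm_same _ _ hz1 (hno z hz) hy1 (hno y hy) (hcyz.map f).eq
    have htk : Commute t (z * y) :=
      (Subgroup.mem_centralizer_iff.mp htT (z * y)
        (by rw [SetLike.mem_coe, MonoidHom.mem_ker, map_mul, hfe, hy1])).symm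
    set w := t * y
    have hw : w = t ^ 2 * y * (t ^ 2)⁻¹ := by
      have h1 : y * t⁻¹ = t * y := by
        rw [show y * t⁻¹ = (y * t⁻¹ * y⁻¹) * y by group, show y * t⁻¹ * y⁻¹ = (y * t * y⁻¹)⁻¹ by group,
          hinv y hy, inv_inv]
      calc t * y = t ^ 3 * (t * y) := by rw [ht3', one_mul]
        _ = t ^ 2 * (t * (t * y)) := by group
        _ = t ^ 2 * (t * (y * t⁻¹)) := by rw [h1]
        _ = t ^ 2 * ((t * y) * t⁻¹) := by group
        _ = t ^ 2 * ((y * t⁻¹) * t⁻¹) := by rw [h1]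
        _ = t ^ 2 * y * (t ^ 2)⁻¹ := by group
    have hwΛ : w ∈ Λ := hw ▸ hΛc (t ^ 2) y hy
    have hw1 : f w * f w = 1 := by rw [← map_mul, hsq w hwΛ, map_one]
    have hnw : ¬ Commute z w := fun h => by
      have := perm_same _ _ hz1 (hno z hz) hw1 (hno w hwΛ) (h.map f).eq
      rw [map_mul, hfe] at this
      exact perm_shift _ _ ht1 this
    have h3 := (hbr z hz w hwΛ hnw).1
    have e : z * w = t⁻¹ * (z * y) := by
      rw [← hinv z hz]; group; simp [w, mul_assoc]
    rw [e, htk.inv_left.mul_pow, inv_pow, ht3', inv_one, one_mul] at h3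
    have h2 : (z * y) ^ 2 = 1 := by rw [hcyz.mul_pow, pow_two, pow_two, hsq z hz, hsq y hy, one_mul]
    rw [pow_succ, h2, one_mul, mul_eq_one_iff_eq_inv, inv_eq_of_mul_eq_one_right (hsq y hy)] at h3
    exact hne (congrArg Subtype.val h3).symm
  -- the members in the simple subgroup generate it and form one class
  have hMfull : Subgroup.closure M = f.ker := hfull M subset_rfl hMne fun k _ y hy => hMc k y hy
  have hOT : ∀ z ∈ O, z ∈ T := fun z hz => Subgroup.mem_centralizer_iff.mpr fun k hk => by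
    have : f.ker ≤ Subgroup.centralizer ({z} : Set (cen a d)) := by
      rw [← hMfull, Subgroup.closure_le]
      exact fun y hy => Subgroup.mem_centralizer_singleton_iff.mpr (hmix y hy.1 z hz.1 hy.2 hz.2).eq
    exact Subgroup.mem_centralizer_singleton_iff.mp (this hk)
  have hinj : Set.InjOn f O := fun y hy z hz h =>
    mul_inv_eq_one.mp (hTN _ (mul_mem (hOT y hy) (inv_mem (hOT z hz))) (by rw [map_mul, map_inv, h, mul_inv_cancel]))
  have hO1 : O.Nonempty := by
    by_contra hne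
    obtain ⟨x, hx⟩ := hf (Equiv.swap 0 1)
    have : Subgroup.closure Λ ≤ f.ker := (Subgroup.closure_le _).2 fun y hy => by
      by_contra h
      exact hne ⟨y, hy, h⟩
    rw [hgen] at this
    have := this (Subgroup.mem_top x)
    rw [MonoidHom.mem_ker, hx] at this
    exact absurd this (by decide +kernel)
  have hO : O.ncard = 3 := by
    have e : f '' O = {s | s * s = 1 ∧ s ≠ 1} := by
      refine Set.Subset.antisymm ?_ fun s hs => ?_
      · rintro _ ⟨y, hy, rfl⟩
        exact ⟨by rw [← map_mul, hsq y hy.1, map_one], hy.2⟩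
      · obtain ⟨y, hy⟩ := hO1
        obtain ⟨u, rfl⟩ := perm_conj (f y) s (by rw [← map_mul, hsq y hy.1, map_one]) hy.2 hs.1 hs.2
        obtain ⟨v, rfl⟩ := hf u
        exact ⟨v * y * v⁻¹, ⟨hΛc v y hy.1, by rw [map_mul, map_mul, map_inv]; exact hs.2⟩,
          by rw [map_mul, map_mul, map_inv]⟩
    have e2 : ({s | s * s = 1 ∧ s ≠ 1} : Set (Equiv.Perm (Fin 3))) =
        {Equiv.swap 0 1, Equiv.swap 0 2, Equiv.swap 1 2} := by
      ext s
      constructor
      · exact fun h => perm_invols s h.1 h.2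
      · rintro (rfl | rfl | rfl) <;> exact ⟨by decide +kernel, by decide +kernel⟩
    rw [← hinj.ncard_image, e, e2, Set.ncard_eq_three]
    exact ⟨_, _, _, by decide +kernel, by decide +kernel, by decide +kernel, rfl⟩
  have hΛn : Λ.ncard = 3240 := by
    rw [← Base.com_card hD hprim ht ha hd hnc, ← Set.ncard_image_of_injective Λ Subtype.val_injective]
    congr 1
    ext y
    exact ⟨fun ⟨z, hz, e⟩ => e ▸ hz, fun hy => ⟨⟨y, com_le a d (Subgroup.subset_closure hy)⟩, hy, rfl⟩⟩
  have hMn : M.ncard = 3237 := by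
    have := Set.ncard_inter_add_ncard_sdiff_eq_ncard Λ {y | f y = 1} (Set.toFinite _)
    rw [show Λ ∩ {y | f y = 1} = M from rfl, show Λ \ {y | f y = 1} = O from rfl, hO, hΛn] at this
    omega
  obtain ⟨y, hy⟩ := hMne
  set X : Set (cen a d) := (fun k => k * y * k⁻¹) '' (f.ker : Set (cen a d)) with hXdef
  have hXM : X ⊆ M := by rintro _ ⟨k, -, rfl⟩; exact hMc k y hy
  have hXc : ∀ k ∈ f.ker, ∀ u ∈ X, k * u * k⁻¹ ∈ X := by
    rintro k hk _ ⟨l, hl, rfl⟩
    exact ⟨k * l, mul_mem hk hl, by group⟩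
  have hXfull := hfull X hXM ⟨y, 1, one_mem _, by group⟩ hXc
  have hXeq : X = M := by
    refine hXM.antisymm fun z hz => ?_
    by_contra hzX
    have : f.ker ≤ Subgroup.centralizer ({z} : Set (cen a d)) := by
      rw [← hXfull, Subgroup.closure_le]
      intro u hu
      rw [SetLike.mem_coe, Subgroup.mem_centralizer_singleton_iff]
      by_contra hn
      apply hzX
      obtain ⟨-, hb⟩ := hbr u (hXM hu).1 z hz.1 hn
      have : z = (u * z) * u * (u * z)⁻¹ := by rw [hb]; group
      rw [this]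
      exact hXc _ (by rw [MonoidHom.mem_ker, map_mul, (hXM hu).2, hz.2, one_mul]) u hu
    have hz1 := hTN z (Subgroup.mem_centralizer_iff.mpr fun k hk =>
      Subgroup.mem_centralizer_singleton_iff.mp (this hk)) hz.2
    exact (Count.base_of hD hprim ht).set a ha |>.ne_one _ hz.1.1.1 (congrArg Subtype.val hz1)
  have hdvd : M.ncard ∣ Nat.card f.ker := by
    rw [← hXeq, hXdef, Spor.conj_image_ncard, Subgroup.relIndex]
    exact Subgroup.index_dvd_card _
  rw [hMn, hcard] at hdvd
  norm_num at hdvd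

end Cfsg.Agent.Spor.M24Rel.Pair
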