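import Cfsg.Agent.Lib.Spor.M24RelBase
import Cfsg.Agent.Lib.Spor.M24RelParity
import Cfsg.Agent.Lib.Spor.Fi23FrameOrbPop

/-!
Pairs of non-commuting members in a group of type M(24): all are conjugate, and at most eight pairwise commuting
members commute with both.
-/

set_option autoImplicit false
set_option maxRecDepth 100000
set_option linter.unusedSectionVars false

namespace Cfsg.Agent.Spor.M24Rel.Pair

open Cfsg.Agent.Spor.M22U (nset)
open Cfsg.Agent.Spor.M23Rel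
open Cfsg.Agent.Spor.M24Rel.Parity (fr adjs octs)

variable {G : Type*} [Group G] [Finite G] {D : Set G}

/-- the centralizer of two elements -/
abbrev cen (a d : G) : Subgroup G := Subgroup.centralizer ({a, d} : Set G)

theorem mem_cen {a d g : G} : g ∈ cen a d ↔ Commute g a ∧ Commute g d := by
  rw [Subgroup.mem_centralizer_iff]
  constructor
  · exact fun h => ⟨(h a (by simp)).symm, (h d (by simp)).symm⟩
  · rintro ⟨h1, h2⟩ z (rfl | rfl)
    exacts [h1.symm.eq, h2.symm.eq]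

theorem cen_eq (a d : G) :
    cen a d = Subgroup.centralizer ({a} : Set G) ⊓ Subgroup.centralizer ({d} : Set G) := by
  ext g
  rw [mem_cen, Subgroup.mem_inf, Subgroup.mem_centralizer_singleton_iff, Subgroup.mem_centralizer_singleton_iff]
  exact Iff.rfl

theorem pair_conj (B : Count.Base D) {a d a' d' : G} (ha : a ∈ D) (hd : d ∈ D) (hnc : ¬ Commute a d)
    (ha' : a' ∈ D) (hd' : d' ∈ D) (hnc' : ¬ Commute a' d') : ∃ g, g * a * g⁻¹ = a' ∧ g * d * g⁻¹ = d' := by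
  have S := B.set a ha
  obtain ⟨g, rfl⟩ := S.prim.1 a ha a' ha'
  obtain ⟨h, hh, hhe⟩ := B.hyp.outside_transitive ha' (S.pre.conj g d hd) hd'
    (fun hc => hnc (commute_conj_iff.mp hc)) hnc'
  refine ⟨h * g, ?_, ?_⟩
  · rw [show h * g * a * (h * g)⁻¹ = h * (g * a * g⁻¹) * h⁻¹ by group]
    exact mul_inv_eq_iff_eq_mul.mpr hh.eq
  · rw [show h * g * d * (h * g)⁻¹ = h * (g * d * g⁻¹) * h⁻¹ by group]
    exact hhe

theorem image_conj (hD : Cfsg.IsThreeTranspositionGroup D) (g : G) : (MulAut.conj g : G ≃* G) '' D = D := by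
  ext y
  constructor
  · rintro ⟨u, hu, rfl⟩; exact hD.2.1 g u hu
  · intro hy
    exact ⟨g⁻¹ * y * g, (Spor.conj_mem_iff hD.2.1 g).1 hy, by
      show g * (g⁻¹ * y * g) * g⁻¹ = y; group⟩

theorem com_image (hD : Cfsg.IsThreeTranspositionGroup D) (g a d : G) :
    (MulAut.conj g : G ≃* G) '' (nset D a ∩ nset D d) =
      nset D (g * a * g⁻¹) ∩ nset D (g * d * g⁻¹) := by
  rw [M23Rel.Shift.map_nset_inter, image_conj hD g]
  rfl

theorem frame_facts (hD : Cfsg.IsThreeTranspositionGroup D) (hprim : Cfsg.IsPrimitiveUnderConj D)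
    (ht : Cfsg.IsOfTypeM24 G D) (T : Sylow 2 G) :
    (fr D T).ncard = 24 ∧ ∀ a ∈ fr D T, ∀ b ∈ fr D T, Commute a b := by
  obtain ⟨hcomm, hcard⟩ := Cfsg.Agent.S5345.result hD T
  exact ⟨hcard.trans (Width.width_eq hD hprim ht), fun a ha b hb =>
    (congrArg Subtype.val (hcomm.1.1 ⟨a, Subgroup.subset_closure ha⟩ ⟨b, Subgroup.subset_closure hb⟩) :)⟩

theorem exists_frame (hD : Cfsg.IsThreeTranspositionGroup D) {A : Set G} (hA : A ⊆ D)
    (hc : ∀ a ∈ A, ∀ b ∈ A, Commute a b) : ∃ T : Sylow 2 G, A ⊆ fr D T := by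
  obtain ⟨T, hT⟩ := (Frame.closure_two hc fun a ha => mul_self_of_order_two (hD.1.1 a (hA ha))).exists_le_sylow
  exact ⟨T, fun a ha => ⟨hA ha, hT (Subgroup.subset_closure ha)⟩⟩

theorem adjs_le_eight (hD : Cfsg.IsThreeTranspositionGroup D) (hprim : Cfsg.IsPrimitiveUnderConj D)
    (ht : Cfsg.IsOfTypeM24 G D) (T : Sylow 2 G) {x f : G} (hx : x ∈ D) (hf : f ∈ fr D T) (hfx : ¬ Commute f x) :
    (adjs D T x).ncard ≤ 8 := by
  have B := Count.base_of hD hprim ht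
  obtain ⟨hn, hc⟩ := frame_facts hD hprim ht T
  have hxF : x ∉ fr D T := fun h => hfx (hc f hf x h)
  rcases Set.eq_empty_or_nonempty (adjs D T x) with h | ⟨d, hd, hdx⟩
  · simp [h]
  have hlt : (adjs D T x).ncard < (fr D T).ncard :=
    Set.ncard_lt_ncard ⟨fun y hy => hy.1, fun h => hfx (h hf).2⟩ (Set.toFinite _)
  have hxn : x ∈ nset D d := ⟨hx, fun e => hxF (e ▸ hd), hdx⟩
  obtain ⟨e, heD, heF⟩ := Parity.frame_at B.set T hn hc hd
  obtain ⟨u, hu, hue⟩ : (B.set d hd.1).img x hxn ∈ e '' conjugatesOf Fi23Cert.Below.tA :=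
    heD ▸ (B.set d hd.1).img_mem _
  have h1 := (Parity.adjs_model B.set T hn hc hd heF hxn hue).1
  rcases Fi23Cert.FrameOrb.ncard_fix_cases hu with h | h | h <;> omega

theorem com_le_eight (hD : Cfsg.IsThreeTranspositionGroup D) (hprim : Cfsg.IsPrimitiveUnderConj D)
    (ht : Cfsg.IsOfTypeM24 G D) {a d : G} (ha : a ∈ D) (hd : d ∈ D) (hnc : ¬ Commute a d)
    {A : Set G} (hA : A ⊆ nset D a ∩ nset D d) (hc : ∀ x ∈ A, ∀ y ∈ A, Commute x y) : A.ncard ≤ 8 := by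
  have hc' : ∀ x ∈ insert a A, ∀ y ∈ insert a A, Commute x y := by
    rintro x (rfl | hx) y (rfl | hy)
    exacts [Commute.refl _, (hA hy).1.2.2, (hA hx).1.2.2.symm, hc x hx y hy]
  obtain ⟨T, hT⟩ := exists_frame hD (Set.insert_subset ha fun x hx => (hA hx).1.1) hc'
  refine (Set.ncard_le_ncard (t := adjs D T d) (fun x hx => ⟨hT (Or.inr hx), (hA hx).2.2.2.symm⟩)
    (Set.toFinite _)).trans (adjs_le_eight hD hprim ht T hd (hT (Or.inl rfl)) hnc)

theorem exists_eight (hD : Cfsg.IsThreeTranspositionGroup D) (hprim : Cfsg.IsPrimitiveUnderConj D)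
    (ht : Cfsg.IsOfTypeM24 G D) {a d : G} (ha : a ∈ D) (hd : d ∈ D) (hnc : ¬ Commute a d) :
    ∃ A, A ⊆ nset D a ∩ nset D d ∧ (∀ x ∈ A, ∀ y ∈ A, Commute x y) ∧ A.ncard = 8 := by
  have B := Count.base_of hD hprim ht
  obtain ⟨T⟩ : Nonempty (Sylow 2 G) := inferInstance
  obtain ⟨hn, hc⟩ := frame_facts hD hprim ht T
  obtain ⟨x, hxD, hxF, hx8⟩ : (octs D T).Nonempty :=
    Set.nonempty_of_ncard_ne_zero (by rw [Parity.ncard_octs B.set T hn hc]; norm_num)
  obtain ⟨f, hf, hfn⟩ : (fr D T \ adjs D T x).Nonempty := by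
    refine Set.sdiff_nonempty.mpr fun h => ?_
    have := Set.ncard_le_ncard h (Set.toFinite _)
    omega
  have hfx : ¬ Commute f x := fun h => hfn ⟨hf, h⟩
  have hsub : adjs D T x ⊆ nset D f ∩ nset D x := fun y hy =>
    ⟨⟨hy.1.1, fun e => hfn (e ▸ hy), hc f hf y hy.1⟩, hy.1.1, fun e => hxF (e ▸ hy.1), hy.2.symm⟩
  obtain ⟨g, rfl, rfl⟩ := pair_conj B hf.1 hxD hfx ha hd hnc
  refine ⟨(MulAut.conj g : G ≃* G) '' adjs D T x, ?_, ?_, ?_⟩
  · rw [← com_image hD g f x]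
    exact Set.image_mono hsub
  · rintro _ ⟨y, hy, rfl⟩ _ ⟨z, hz, rfl⟩
    exact (hc y hy.1 z hz.1).map (MulAut.conj g : G ≃* G).toMonoidHom
  · rw [Set.ncard_image_of_injective _ (MulAut.conj g : G ≃* G).injective]
    exact hx8

theorem exists_two (hD : Cfsg.IsThreeTranspositionGroup D) (hprim : Cfsg.IsPrimitiveUnderConj D)
    (ht : Cfsg.IsOfTypeM24 G D) {a d : G} (ha : a ∈ D) (hd : d ∈ D) (hnc : ¬ Commute a d) :
    ∃ y ∈ nset D a ∩ nset D d, ∃ z ∈ nset D a ∩ nset D d, y ≠ z ∧ Commute y z := by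
  obtain ⟨A, hA, hc, h8⟩ := exists_eight hD hprim ht ha hd hnc
  obtain ⟨y, hy, z, hz, hne⟩ := (Set.one_lt_ncard (Set.toFinite A)).mp (by rw [h8]; norm_num)
  exact ⟨y, hA hy, z, hA hz, hne, hc y hy z hz⟩

theorem width_com (hD : Cfsg.IsThreeTranspositionGroup D) (hprim : Cfsg.IsPrimitiveUnderConj D)
    (ht : Cfsg.IsOfTypeM24 G D) {a d : G} (ha : a ∈ D) (hd : d ∈ D) (hnc : ¬ Commute a d) :
    Cfsg.commutingWidth (nset D a ∩ nset D d) = 8 := by
  apply le_antisymm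
  · refine csSup_le' ?_
    rintro n ⟨E, hE, -, hc, rfl⟩
    exact com_le_eight hD hprim ht ha hd hnc hE hc
  · obtain ⟨A, hA, hc, h8⟩ := exists_eight hD hprim ht ha hd hnc
    refine le_csSup ⟨8, ?_⟩ ⟨A, hA, Set.toFinite _, hc, h8⟩
    rintro n ⟨E, hE, -, hc', rfl⟩
    exact com_le_eight hD hprim ht ha hd hnc hE hc'

end Cfsg.Agent.Spor.M24Rel.Pair
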