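import Cfsg.Agent.Lib.Spor.M24RelPairFrame
import Cfsg.Agent.Lib.Spor.M23RelShift
import Cfsg.Agent.Lib.Spor.M22UFacts

/-!
A member of a group of type M(24) is determined, up to conjugation by a non-commuting one, by the members
commuting with both.
-/

set_option autoImplicit false
set_option maxRecDepth 100000
set_option linter.unusedSectionVars false

namespace Cfsg.Agent.Spor.M24Rel.Pair

open Cfsg.Agent.Spor.M22U (nset)
open Cfsg.Agent.Spor.M23Rel

theorem twin22 {X : Type*} [Group X] [Finite X] {E : Set X} (hE : Cfsg.IsThreeTranspositionGroup E)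
    (hp : Cfsg.IsPrimitiveUnderConj E) (ht : Cfsg.IsOfTypeM22 X E) {a d e : X} (ha : a ∈ E) (hd : d ∈ E)
    (he : e ∈ E) (hnd : ¬ Commute a d) (hne : ¬ Commute a e)
    (hsub : ∀ w ∈ E, w ≠ a → Commute a w → Commute d w → Commute e w) : e = d ∨ e = a * d * a⁻¹ := by
  haveI := Fi22Cert.order.1
  obtain ⟨i, hia, hiE⟩ := M22U.Facts.exists_iso_at hE hp ht ha
  set F := M22U.Fischer.frame
  have hFa : i F.a = a := by
    rw [show F.a = Fi22Cert.U62Act.tA from M22U.Fischer.mem_nil]; exact hia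
  obtain ⟨u, hu, rfl⟩ := hiE.symm ▸ hd
  obtain ⟨v, hv, rfl⟩ := hiE.symm ▸ he
  have cm : ∀ {p q}, Commute (i p) (i q) ↔ Commute p q := fun {p q} =>
    ⟨fun h => i.injective (by rw [map_mul, map_mul]; exact h.eq), fun h => h.map i.toMonoidHom⟩
  rw [← hFa, cm] at hnd hne
  rcases F.mem_cases hu with rfl | ⟨x, hx, rfl⟩ | ⟨k, hk, b, rfl⟩
  · exact absurd (Commute.refl _) hnd
  · exact absurd (F.pt_mem hx).2.2 hnd
  rcases F.mem_cases hv with rfl | ⟨x, hx, rfl⟩ | ⟨l, hl, b', rfl⟩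
  · exact absurd (Commute.refl _) hne
  · exact absurd (F.pt_mem hx).2.2 hne
  have hkl : k = l := F.set_inj hk hl fun x hx hin => by
    obtain ⟨h1, h2, h3⟩ := F.pt_mem hx
    refine (F.sh_pt hl hx b').mp (cm.mp (hsub _ (hiE ▸ ⟨_, h1, rfl⟩)
      (fun h => h2 (i.injective (h.trans hFa.symm))) (hFa ▸ cm.mpr h3) (cm.mpr ((F.sh_pt hk hx b).mpr hin))))
  subst hkl
  rw [← hFa, ← map_inv, ← map_mul, ← map_mul, F.conj_a_sh k b]
  cases b <;> cases b' <;> simp

theorem commute_img {K : Type*} [Group K] {E : Set K} {c y w : K} (hy : y ∈ nset E c) (hw : w ∈ nset E c)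
    (h : Commute y w) :
    Commute (QuotientGroup.mk (⟨y, Subgroup.subset_closure hy⟩ : ↥(Subgroup.closure (nset E c))) :
        ↥(Subgroup.closure (nset E c)) ⧸ Subgroup.center ↥(Subgroup.closure (nset E c)))
      (QuotientGroup.mk (⟨w, Subgroup.subset_closure hw⟩ : ↥(Subgroup.closure (nset E c)))) :=
  (Commute.map (x := (⟨y, Subgroup.subset_closure hy⟩ : ↥(Subgroup.closure (nset E c))))
    (y := ⟨w, Subgroup.subset_closure hw⟩) (Subtype.ext h.eq)
    (QuotientGroup.mk' (Subgroup.center ↥(Subgroup.closure (nset E c)))) :)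

variable {G : Type*} [Group G] [Finite G] {D : Set G}

theorem twin (hD : Cfsg.IsThreeTranspositionGroup D) (hprim : Cfsg.IsPrimitiveUnderConj D)
    (ht : Cfsg.IsOfTypeM24 G D) {a d e : G} (ha : a ∈ D) (hd : d ∈ D) (he : e ∈ D) (hnd : ¬ Commute a d)
    (hne : ¬ Commute a e) (hsub : ∀ w ∈ nset D a ∩ nset D d, Commute e w) : e = d ∨ e = a * d * a⁻¹ := by
  obtain ⟨y, hy, z, hz, hyz, hc⟩ := exists_two hD hprim ht ha hd hnd
  have S := Fix.setting_of hD hprim ht hy.1.1
  have hE := S.pre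
  have hney : e ≠ y := fun h => hne (h ▸ hy.1.2.2)
  have hnez : e ≠ z := fun h => hne (h ▸ hz.1.2.2)
  have hay : a ∈ nset D y := ⟨ha, hy.1.2.1.symm, hy.1.2.2.symm⟩
  have hdy : d ∈ nset D y := ⟨hd, hy.2.2.1.symm, hy.2.2.2.symm⟩
  have hey : e ∈ nset D y := ⟨he, hney, (hsub y hy).symm⟩
  have hzy : z ∈ nset D y := ⟨hz.1.1, hyz.symm, hc⟩
  have S2 := M23Rel.Shift.setting_of S.group S.next_prim S.next (S.img_mem hzy)
  have mk : ∀ w (hw : w ∈ nset D y), w ≠ z → Commute z w → S.img w hw ∈ nset (nextSet D y) (S.img z hzy) :=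
    fun w hw hwz hzw => ⟨S.img_mem hw, fun h => hwz (S.img_inj hw hzy h), commute_img hzy hw hzw⟩
  have ha2 := mk a hay hz.1.2.1.symm hz.1.2.2.symm
  have hd2 := mk d hdy hz.2.2.1.symm hz.2.2.2.symm
  have he2 := mk e hey hnez (hsub z hz).symm
  set ια := S2.img _ ha2
  set ιd := S2.img _ hd2
  set ιe := S2.img _ he2
  have him : ∀ w (hw : w ∈ nset (nextSet D y) (S.img z hzy)), S2.img w hw ∈ nextSet (nextSet D y) (S.img z hzy) :=
    fun w hw => ⟨_, hw, rfl⟩
  have h2 : ιe = ιd ∨ ιe = ια * ιd * ια⁻¹ := by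
    refine twin22 S2.group S2.next_prim S2.next (him _ ha2) (him _ hd2) (him _ he2) ?_ ?_ ?_
    · exact fun h => hnd (commute_lift hE y hay hdy (commute_lift S2.pre _ ha2 hd2 h))
    · exact fun h => hne (commute_lift hE y hay hey (commute_lift S2.pre _ ha2 he2 h))
    · rintro _ ⟨⟨q, hqc⟩, hq, rfl⟩ hqa h1 h2
      obtain ⟨⟨w, hwc⟩, hw, rfl⟩ := hq.1
      have h1' : Commute a w := commute_lift hE y hay hw (commute_lift S2.pre _ ha2 hq h1)
      have h2' : Commute d w := commute_lift hE y hdy hw (commute_lift S2.pre _ hd2 hq h2)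
      have hwa : w ≠ a := by rintro rfl; exact hqa rfl
      have hwd : w ≠ d := by rintro rfl; exact hnd h1'
      exact commute_img he2 hq (commute_img hey hw (hsub w ⟨⟨hw.1, hwa, h1'⟩, hw.1, hwd, h2'⟩))
  rcases h2 with h | h
  · exact Or.inl (S.img_inj hey hdy (S2.img_inj he2 hd2 h))
  · refine Or.inr ?_
    have hcy : Commute a y := hay.2.2.symm
    have h3 : a * d * a⁻¹ ∈ nset D y := nset_conj hE hcy hdy
    have hcz : Commute (S.img a hay) (S.img z hzy) := ha2.2.2.symm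
    have h4 : S.img (a * d * a⁻¹) h3 ∈ nset (nextSet D y) (S.img z hzy) :=
      nset_conj S2.pre hcz hd2
    exact S.img_inj hey h3 (S2.img_inj he2 h4 h)

end Cfsg.Agent.Spor.M24Rel.Pair
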