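import Cfsg.Agent.Lib.Spor.M24RelPairQs
import Cfsg.Agent.Lib.Spor.M24RelBase
import Cfsg.Agent.Lib.Spor.Fi22OutMain
import Cfsg.Agent.Lib.Local.Basics
import Cfsg.Agent.Lib.Spor.M23RelTop

/-!
The centralizer in the derived group of the product of two commuting members of a group of type M(24).
-/

set_option autoImplicit false
set_option maxRecDepth 100000
set_option linter.unusedSectionVars false

namespace Cfsg.Agent.Spor.M24Rel.Two

open Cfsg.Agent.Spor.M22U (nset)
open Cfsg.Agent.Spor.M23Rel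

variable {G : Type*} [Group G] [Finite G] {D : Set G}

theorem cent_hom {Q : Type*} [Group Q] {t : Q} {H : Subgroup G} {Kg : Subgroup G} (hle : Kg ≤ H) (f : H →* Q)
    (hinj : ∀ u ∈ Kg, ∀ hu : u ∈ H, f ⟨u, hu⟩ = 1 → u = 1)
    (himg : ∀ q : Q, Commute q t ↔ ∃ u, ∃ hu : u ∈ Kg, f ⟨u, hle hu⟩ = q) :
    ∃ ι : Kg ≃* Subgroup.centralizer ({t} : Set Q), ∀ u : Kg, (ι u : Q) = f ⟨u, hle u.2⟩ := by
  let g : Kg →* Subgroup.centralizer ({t} : Set Q) :=
    { toFun := fun u => ⟨f ⟨u, hle u.2⟩, Subgroup.mem_centralizer_singleton_iff.mpr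
        ((himg _).mpr ⟨u, u.2, rfl⟩).eq⟩
      map_one' := Subtype.ext (map_one f)
      map_mul' := fun u v => Subtype.ext (map_mul f ⟨u, hle u.2⟩ ⟨v, hle v.2⟩) }
  have hg : Function.Bijective g := by
    refine ⟨(injective_iff_map_eq_one g).mpr fun u hu => Subtype.ext ?_, fun q => ?_⟩
    · exact hinj u u.2 (hle u.2) (congrArg Subtype.val hu)
    · obtain ⟨u, hu, e⟩ := (himg q).mp (Subgroup.mem_centralizer_singleton_iff.mp q.2)
      exact ⟨⟨u, hu⟩, Subtype.ext e⟩
  exact ⟨MulEquiv.ofBijective g hg, fun u => rfl⟩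

/-- a product of two commuting members determines the pair -/
theorem pair_det (hD : Cfsg.IsThreeTranspositionGroup D) (h4 : NoRel 4 D) {a b c e : G} (ha : a ∈ D) (hb : b ∈ D)
    (hc : c ∈ D) (he : e ∈ D) (hab : a ≠ b) (hcab : Commute a b) (hce : c ≠ e) (hcce : Commute c e)
    (h : c * e = a * b) : (c = a ∧ e = b) ∨ (c = b ∧ e = a) := by
  have sq : ∀ x ∈ D, x * x = 1 := fun x hx => mul_self_of_order_two (hD.1.1 x hx)
  by_cases hca : c = a
  · subst hca; exact Or.inl ⟨rfl, mul_left_cancel h⟩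
  by_cases hcb : c = b
  · subst hcb; exact Or.inr ⟨rfl, mul_left_cancel (h.trans hcab.eq)⟩
  by_cases hea : e = a
  · subst hea; exact absurd (mul_left_cancel (hcce.eq.symm.trans h)) hcb
  by_cases heb : e = b
  · subst heb; exact absurd (mul_right_cancel h) hca
  exfalso
  have hx : ∀ z ∈ ({c, e} : Set G), Commute z a ∧ Commute z b := by
    intro z hz
    have hzm : z ∈ D := by rcases hz with rfl | rfl <;> assumption
    refine (commute_pair_iff hD.1 ha hb hzm hab hcab).mp ?_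
    rw [← h]
    rcases hz with rfl | rfl
    · exact (Commute.refl _).mul_right hcce
    · exact hcce.symm.mul_right (Commute.refl _)
  refine h4 [c, e, a, b] ?_ rfl ?_ ?_ ?_
  · simp [hce, hca, hcb, hea, heb, hab]
  · intro x hx'
    simp only [List.mem_cons, List.not_mem_nil, or_false] at hx'
    have hne : ∀ x ∈ D, x ≠ 1 := fun x hx e' => by
      have := hD.1.1 x hx; rw [e', orderOf_one] at this; norm_num at this
    rcases hx' with rfl | rfl | rfl | rfl
    exacts [⟨hc, hne _ hc⟩, ⟨he, hne _ he⟩, ⟨ha, hne _ ha⟩, ⟨hb, hne _ hb⟩]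
  · intro x hx1 y hy
    simp only [List.mem_cons, List.not_mem_nil, or_false] at hx1 hy
    have h1 := hx c (by simp)
    have h2 := hx e (by simp)
    rcases hx1 with rfl | rfl | rfl | rfl <;> rcases hy with rfl | rfl | rfl | rfl
    exacts [Commute.refl _, hcce, h1.1, h1.2, hcce.symm, Commute.refl _, h2.1, h2.2,
      h1.1.symm, h2.1.symm, Commute.refl _, hcab, h1.2.symm, h2.2.symm, hcab.symm, Commute.refl _]
  · simp only [List.prod_cons, List.prod_nil, mul_one]
    rw [← mul_assoc, h, hcab.symm.mul_mul_mul_comm, sq a ha, sq b hb, one_mul]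

theorem mulaut_card : Nat.card (MulAut Fi22Cert.pres.Grp) = 2 * Nat.card Fi22Cert.pres.Grp := by
  haveI := Fi22Cert.order.1
  haveI : IsSimpleGroup Fi22Cert.pres.Grp := Fi22Cert.simple
  have hinj : Function.Injective (MulAut.conj : Fi22Cert.pres.Grp →* MulAut Fi22Cert.pres.Grp) := by
    rw [← MonoidHom.ker_eq_bot_iff]
    refine ((inferInstance : ((MulAut.conj : Fi22Cert.pres.Grp →* MulAut Fi22Cert.pres.Grp).ker).Normal).eq_bot_or_eq_top).resolve_right fun h => ?_
    have hcomm : ∀ a b : Fi22Cert.pres.Grp, a * b = b * a := fun a b => by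
      have ha : MulAut.conj a = 1 := (h ▸ Subgroup.mem_top a :)
      have := DFunLike.congr_fun ha b
      rw [MulAut.conj_apply, MulAut.one_apply] at this
      exact mul_inv_eq_iff_eq_mul.mp this
    letI : CommGroup Fi22Cert.pres.Grp := { (inferInstance : Group Fi22Cert.pres.Grp) with mul_comm := hcomm }
    have := IsSimpleGroup.prime_card (α := Fi22Cert.pres.Grp)
    rw [Fi22Cert.order.2.1] at this
    norm_num at this
  rw [Subgroup.card_eq_card_quotient_mul_card_subgroup (Cfsg.Inn Fi22Cert.pres.Grp)]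
  rw [show Nat.card (MulAut Fi22Cert.pres.Grp ⧸ Cfsg.Inn Fi22Cert.pres.Grp) = 2 from Fi22Cert.Outer.card_out,
    ← Nat.card_congr (MonoidHom.ofInjective hinj).toEquiv]

theorem two_main (hD : Cfsg.IsThreeTranspositionGroup D) (hprim : Cfsg.IsPrimitiveUnderConj D)
    (ht : Cfsg.IsOfTypeM24 G D) {d₁ d₂ : G} (h₁ : d₁ ∈ D) (h₂ : d₂ ∈ D) (hne : d₁ ≠ d₂) (hc : Commute d₁ d₂)
    (K CL : Subgroup G) (hK : K = commutator G ⊓ Subgroup.centralizer ({d₁, d₂} : Set G))
    (hCL : CL = commutator G ⊓ Subgroup.centralizer ({d₁ * d₂} : Set G))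
    [hn : ((Subgroup.zpowers (d₁ * d₂)).subgroupOf CL).Normal] :
    Cfsg.IsQuasisimple ↥K ∧ K = (Cfsg.generalizedFittingSubgroup ↥CL).map CL.subtype ∧ K ≤ CL ∧
      (K.subgroupOf CL).index = 2 ∧ d₁ * d₂ ∈ K ∧
      Nonempty (↥CL ⧸ (Subgroup.zpowers (d₁ * d₂)).subgroupOf CL ≃* MulAut Cfsg.Spor.Fi22) := by
  classical
  have B := Count.base_of hD hprim ht
  obtain ⟨hi, -, hnD⟩ := Base.comm_facts hD hprim ht
  obtain ⟨h4, -⟩ := Top.noRel_group hD hprim (Or.inr ht)
  have S := B.set d₁ h₁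
  have hsq1 := mul_self_of_order_two (hD.1.1 d₁ h₁)
  set j := d₁ * d₂ with hj
  have hmK : ∀ u, u ∈ K ↔ u ∈ commutator G ∧ Commute u d₁ ∧ Commute u d₂ := fun u => by
    rw [hK, Subgroup.mem_inf, Subgroup.mem_centralizer_iff]
    refine and_congr_right fun _ => ⟨fun h => ⟨(h d₁ (by simp)).symm, (h d₂ (by simp)).symm⟩, ?_⟩
    rintro ⟨h1, h2⟩ z (rfl | rfl)
    exacts [h1.symm.eq, h2.symm.eq]
  have hmCL : ∀ u, u ∈ CL ↔ u ∈ commutator G ∧ Commute u j := fun u => by
    rw [hCL, Subgroup.mem_inf, Subgroup.mem_centralizer_singleton_iff]; rfl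
  have hjK : j ∈ K := (hmK j).mpr ⟨(Subgroup.mul_mem_iff_of_index_two hi).mpr
      (iff_of_false (hnD d₁ h₁) (hnD d₂ h₂)),
    (Commute.refl d₁).mul_left hc.symm, hc.mul_left (Commute.refl d₂)⟩
  have hKCL : K ≤ CL := fun u hu => by
    obtain ⟨h1, h2, h3⟩ := (hmK u).mp hu
    exact (hmCL u).mpr ⟨h1, h2.mul_right h3⟩
  -- identify K in the next level
  have hd2 : d₂ ∈ nset D d₁ := ⟨h₂, hne.symm, hc⟩
  have hKH : K ≤ Subgroup.closure (nset D d₁) := fun u hu => by
    rw [Cent.closure_cent B.set h₁]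
    exact Subgroup.mem_centralizer_singleton_iff.mpr ((hmK u).mp hu).2.1.eq
  obtain ⟨ι, hι⟩ := cent_hom (t := S.img d₂ hd2) hKH (QuotientGroup.mk' (Subgroup.center ↥(Subgroup.closure (nset D d₁))))
    (fun u hu huH h => (S.central_cases h).resolve_right fun e => hnD d₁ h₁ (e ▸ ((hmK u).mp hu).1))
    (fun q => by
      constructor
      · intro hq
        obtain ⟨⟨u, hu⟩, rfl⟩ := QuotientGroup.mk_surjective q
        have hud1 : Commute u d₁ := commute_of_mem hu
        have hud : Commute u d₂ := by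
          refine mul_inv_eq_iff_eq_mul.mp (S.img_inj (nset_conj S.pre hud1 hd2) hd2 ?_)
          exact mul_inv_eq_iff_eq_mul.mpr hq.eq
        by_cases huc : u ∈ commutator G
        · exact ⟨u, (hmK u).mpr ⟨huc, hud1, hud⟩, rfl⟩
        refine ⟨u * d₁, (hmK _).mpr ⟨(Subgroup.mul_mem_iff_of_index_two hi).mpr (iff_of_false huc (hnD d₁ h₁)),
          hud1.mul_left (Commute.refl _), hud.mul_left hc⟩, ?_⟩
        refine (QuotientGroup.eq.mpr ?_)
        rw [Subgroup.mem_center_iff]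
        intro v
        refine Subtype.ext ?_
        show (v : G) * ((u * d₁)⁻¹ * u) = (u * d₁)⁻¹ * u * v
        rw [show (u * d₁)⁻¹ * u = d₁⁻¹ by group]
        exact (commute_of_mem v.2).inv_right.eq
      · rintro ⟨u, hu, rfl⟩
        exact (Commute.map (x := (⟨u, hKH hu⟩ : ↥(Subgroup.closure (nset D d₁))))
          (y := ⟨d₂, Subgroup.subset_closure hd2⟩) (Subtype.ext ((hmK u).mp hu).2.2.eq)
          (QuotientGroup.mk' (Subgroup.center ↥(Subgroup.closure (nset D d₁)))) :))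
  have ht2 := S.img_mem hd2
  set t := S.img d₂ hd2
  have hqC := M23Rel.Facts.quasisimple_cent S.group S.next_prim S.next ht2
  have hqK : Cfsg.IsQuasisimple ↥K := Local.isQuasisimple_congr ι.symm hqC
  obtain ⟨hz2, ⟨ψ⟩, -⟩ := M23Rel.Facts.cover_at S.group S.next_prim S.next ht2
  have hcen : (Subgroup.center ↥K).map ι.toMonoidHom = Subgroup.center ↥(Subgroup.centralizer ({t} : Set _)) := by
    ext z
    rw [Subgroup.mem_map_equiv, Subgroup.mem_center_iff, Subgroup.mem_center_iff]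
    constructor
    · intro h w
      apply ι.symm.injective
      rw [map_mul, map_mul]; exact h _
    · intro h w
      apply ι.injective
      rw [map_mul, map_mul, ι.apply_symm_apply]; exact h _
  have hZc : Nat.card (Subgroup.center ↥K) = 2 := by
    rw [Nat.card_congr ((Subgroup.center ↥K).equivMapOfInjective ι.toMonoidHom ι.injective).toEquiv, hcen, hz2]
  let θ : (↥K ⧸ Subgroup.center ↥K) ≃* Fi22Cert.pres.Grp :=
    (QuotientGroup.congr _ _ ι hcen).trans ψ
  haveI := Fi22Cert.order.1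
  have hj1 : j ≠ 1 := fun e => hne (by
    rw [mul_eq_one_iff_eq_inv, inv_eq_of_mul_eq_one_right (mul_self_of_order_two (hD.1.1 d₂ h₂))] at e
    exact e)
  have hjj : j * j = 1 := by
    rw [hc.symm.mul_mul_mul_comm, hsq1, mul_self_of_order_two (hD.1.1 d₂ h₂), one_mul]
  have hoj : Nat.card (Subgroup.zpowers j) = 2 := by
    haveI : Fact (Nat.Prime 2) := ⟨Nat.prime_two⟩
    rw [Nat.card_zpowers, orderOf_eq_prime (by rw [pow_two, hjj]) hj1]
  have hZK : Subgroup.center ↥K = (Subgroup.zpowers j).subgroupOf K := by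
    have hle : Subgroup.zpowers j ≤ K := Subgroup.zpowers_le.mpr hjK
    refine (Subgroup.eq_of_le_of_card_ge ?_ ?_).symm
    · rintro ⟨y, hy⟩ hy'
      obtain ⟨n, rfl⟩ := Subgroup.mem_zpowers_iff.mp (Subgroup.mem_subgroupOf.mp hy')
      rw [Subgroup.mem_center_iff]
      intro v
      exact Subtype.ext ((((hmK v).mp v.2).2.1.mul_right ((hmK v).mp v.2).2.2).zpow_right n).eq
    · rw [hZc, Nat.card_congr (Subgroup.subgroupOfEquivOfLe hle).toEquiv, hoj]
  -- the swap
  obtain ⟨s, hsC, hs1, hs2⟩ : ∃ s ∈ commutator G, s * d₁ * s⁻¹ = d₂ ∧ s * d₂ * s⁻¹ = d₁ := by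
    obtain ⟨g, hg⟩ := hprim.1 d₁ h₁ d₂ h₂
    have hx : g * d₂ * g⁻¹ ∈ nset D d₂ := by
      refine ⟨hD.2.1 g d₂ h₂, fun e => hne ?_, ?_⟩
      · exact (mul_left_cancel (mul_right_cancel (e.trans hg.symm))).symm
      · have := (commute_conj_iff (g := g)).mpr hc
        rwa [hg] at this
    obtain ⟨k, hk, hke⟩ := B.hyp.nbr_transitive h₂ hx (show d₁ ∈ nset D d₂ from ⟨h₁, hne, hc.symm⟩)
    have hk2 : Commute k d₂ := commute_of_mem hk
    have e1 : k * g * d₁ * (k * g)⁻¹ = d₂ := by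
      rw [show k * g * d₁ * (k * g)⁻¹ = k * (g * d₁ * g⁻¹) * k⁻¹ by group, hg, hk2.eq, mul_inv_cancel_right]
    have e2 : k * g * d₂ * (k * g)⁻¹ = d₁ := by
      rw [show k * g * d₂ * (k * g)⁻¹ = k * (g * d₂ * g⁻¹) * k⁻¹ by group, hke]
    by_cases hkc : k * g ∈ commutator G
    · exact ⟨_, hkc, e1, e2⟩
    refine ⟨k * g * d₁, (Subgroup.mul_mem_iff_of_index_two hi).mpr (iff_of_false hkc (hnD d₁ h₁)), ?_, ?_⟩
    · rw [show k * g * d₁ * d₁ * (k * g * d₁)⁻¹ = k * g * d₁ * (k * g)⁻¹ by group, e1]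
    · rw [show k * g * d₁ * d₂ * (k * g * d₁)⁻¹ = k * g * (d₁ * d₂ * d₁⁻¹) * (k * g)⁻¹ by group, hc.eq,
        mul_inv_cancel_right, e2]
  have hsCL : s ∈ CL := (hmCL s).mpr ⟨hsC, mul_inv_eq_iff_eq_mul.mp (by
    rw [hj, show s * (d₁ * d₂) * s⁻¹ = (s * d₁ * s⁻¹) * (s * d₂ * s⁻¹) by group, hs1, hs2, hc.eq])⟩
  have hperm : ∀ u ∈ CL, (u * d₁ * u⁻¹ = d₁ ∧ u * d₂ * u⁻¹ = d₂) ∨ (u * d₁ * u⁻¹ = d₂ ∧ u * d₂ * u⁻¹ = d₁) := by
    intro u hu
    refine pair_det hD h4 h₁ h₂ (hD.2.1 u _ h₁) (hD.2.1 u _ h₂) hne hc (fun e => hne ?_) (commute_conj_iff.mpr hc) ?_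
    · exact mul_left_cancel (mul_right_cancel e)
    · rw [← show u * j * u⁻¹ = u * d₁ * u⁻¹ * (u * d₂ * u⁻¹) by rw [hj]; group,
        ((hmCL u).mp hu).2.eq, mul_inv_cancel_right]
  set P := K.subgroupOf CL with hP
  have hPn : P.Normal := by
    constructor
    intro k hk u
    rw [hP, Subgroup.mem_subgroupOf] at hk ⊢
    obtain ⟨k1, k2, k3⟩ := (hmK k).mp hk
    refine (hmK _).mpr ⟨(inferInstance : (commutator G).Normal).conj_mem _ k1 u, ?_, ?_⟩
    · rcases hperm u u.2 with ⟨e1, e2⟩ | ⟨e1, e2⟩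
      · rw [← e1]; exact commute_conj_iff.mpr k2
      · rw [← e2]; exact commute_conj_iff.mpr k3
    · rcases hperm u u.2 with ⟨e1, e2⟩ | ⟨e1, e2⟩
      · rw [← e2]; exact commute_conj_iff.mpr k3
      · rw [← e1]; exact commute_conj_iff.mpr k2
  have hsP : (⟨s, hsCL⟩ : CL) ∉ P := fun h => hne (by
    have := ((hmK s).mp h).2.1
    rw [← hs1, this.eq, mul_inv_cancel_right])
  have hidx : P.index = 2 := by
    rw [Subgroup.index_eq_two_iff_exists_notMem_and]
    refine ⟨⟨s, hsCL⟩, hsP, fun u => ?_⟩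
    rcases hperm u u.2 with ⟨e1, e2⟩ | ⟨e1, e2⟩
    · exact Or.inr ((hmK u).mpr ⟨((hmCL u).mp u.2).1, mul_inv_eq_iff_eq_mul.mp e1, mul_inv_eq_iff_eq_mul.mp e2⟩)
    · refine Or.inl ((hmK _).mpr ⟨mul_mem ((hmCL u).mp u.2).1 hsC, ?_, ?_⟩) <;>
        refine mul_inv_eq_iff_eq_mul.mp ?_ <;>
        show (u : G) * s * _ * ((u : G) * s)⁻¹ = _
      · rw [show (u : G) * s * d₁ * ((u : G) * s)⁻¹ = u * (s * d₁ * s⁻¹) * (u : G)⁻¹ by group, hs1, e2]
      · rw [show (u : G) * s * d₂ * ((u : G) * s)⁻¹ = u * (s * d₂ * s⁻¹) * (u : G)⁻¹ by group, hs2, e1]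
  let εP : ↥P ≃* ↥K := Subgroup.subgroupOfEquivOfLe hKCL
  have hqP : Cfsg.IsQuasisimple ↥P := Local.isQuasisimple_congr εP.symm hqK
  set Z := (Subgroup.zpowers j).subgroupOf CL with hZ
  have hcent : Subgroup.centralizer (P : Set CL) = Z := by
    ext u
    constructor
    · intro hu
      have huc : ∀ k ∈ K, (u : G) * k * (u : G)⁻¹ = k := fun k hk => by
        have h := congrArg Subtype.val (Subgroup.mem_centralizer_iff.mp hu ⟨k, hKCL hk⟩ hk)
        simp only [Subgroup.coe_mul] at h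
        rw [← h, mul_inv_cancel_right]
      rcases hperm u u.2 with ⟨e1, e2⟩ | ⟨e1, e2⟩
      · have huK : (u : G) ∈ K :=
          (hmK u).mpr ⟨((hmCL u).mp u.2).1, mul_inv_eq_iff_eq_mul.mp e1, mul_inv_eq_iff_eq_mul.mp e2⟩
        have hm : (⟨u, huK⟩ : K) ∈ Subgroup.center ↥K := Subgroup.mem_center_iff.mpr fun k =>
          Subtype.ext (by
            show (k : G) * u = u * k
            exact (mul_inv_eq_iff_eq_mul.mp (huc k k.2)).symm)
        rw [hZK] at hm
        exact hm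
      · exfalso
        obtain ⟨y, hy1, hy2⟩ : ∃ y, y ∈ nset D d₁ ∧ y ∈ nset D d₂ := by
          have := Count.ncard_adj B.set h₁ hd2
          obtain ⟨y, hy⟩ : (nset D d₁ ∩ nset D d₂).Nonempty := Set.nonempty_of_ncard_ne_zero (by rw [this]; norm_num)
          exact ⟨y, hy.1, hy.2⟩
        have hdy : d₁ * y ∈ K := (hmK _).mpr ⟨(Subgroup.mul_mem_iff_of_index_two hi).mpr
            (iff_of_false (hnD d₁ h₁) (hnD y hy1.1)),
          (Commute.refl d₁).mul_left hy1.2.2.symm, hc.mul_left hy2.2.2.symm⟩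
        have h1 := huc _ hdy
        rw [show (u : G) * (d₁ * y) * (u : G)⁻¹ = ((u : G) * d₁ * (u : G)⁻¹) * ((u : G) * y * (u : G)⁻¹) by group,
          e1] at h1
        set y' := (u : G) * y * (u : G)⁻¹
        have hy' : Commute y' d₂ := by
          rw [← e1]; exact commute_conj_iff.mpr hy1.2.2.symm
        rcases pair_det hD h4 h₁ hy1.1 h₂ (hD.2.1 _ _ hy1.1) hy1.2.1.symm hy1.2.2
            (fun e => hy1.2.1 (by
              rw [← e1] at e
              exact (mul_left_cancel (mul_right_cancel e)).symm)) hy'.symm h1 with ⟨e, -⟩ | ⟨e, -⟩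
        · exact hne e.symm
        · exact hy2.2.1 e.symm
    · intro hu
      rw [hZ, Subgroup.mem_subgroupOf] at hu
      obtain ⟨n, hn⟩ := Subgroup.mem_zpowers_iff.mp hu
      refine Subgroup.mem_centralizer_iff.mpr fun k hk => Subtype.ext ?_
      obtain ⟨-, k1, k2⟩ := (hmK k).mp hk
      show (k : G) * u = u * k
      rw [← hn]
      exact ((k1.mul_right k2).zpow_right n).eq
  have hZP : Z ≤ P := fun u hu => (Subgroup.zpowers_le.mpr hjK) hu
  refine ⟨hqK, ?_, hKCL, hidx, hjK, ?_⟩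
  · haveI := hPn
    rw [Qs.gfit_qs P hqP (hcent ▸ hZP), hP, Subgroup.subgroupOf_map_subtype, inf_eq_left.mpr hKCL]
  · haveI := hPn
    haveI : Z.Normal := hn
    let θP : (↥P ⧸ Subgroup.center ↥P) ≃* Fi22Cert.pres.Grp :=
      (QuotientGroup.congr _ _ εP (by
        ext z
        show z ∈ Subgroup.map εP.toMonoidHom _ ↔ _
        rw [Subgroup.mem_map_equiv, Subgroup.mem_center_iff, Subgroup.mem_center_iff]
        constructor
        · intro h w
          apply εP.symm.injective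
          rw [map_mul, map_mul]; exact h _
        · intro h w
          apply εP.injective
          rw [map_mul, map_mul, εP.apply_symm_apply]; exact h _)).trans θ
    refine Qs.quot_iso P hqP θP Z hcent ?_
    have h1 := Subgroup.card_mul_index P
    rw [hidx, Nat.card_congr εP.toEquiv, Subgroup.card_eq_card_quotient_mul_card_subgroup (Subgroup.center ↥K),
      Nat.card_congr θ.toEquiv, hZc, Subgroup.card_eq_card_quotient_mul_card_subgroup Z,
      Nat.card_congr (Subgroup.subgroupOfEquivOfLe (Subgroup.zpowers_le.mpr (hKCL hjK))).toEquiv,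
      hoj] at h1
    rw [mulaut_card]
    omega

end Cfsg.Agent.Spor.M24Rel.Two
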