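import Cfsg.Agent.Lib.Spor.M24RelQMate
import Cfsg.Agent.Lib.Spor.M24RelOrdPlane
import Cfsg.Agent.Lib.Spor.M24RelInvol
import Cfsg.Agent.Lib.Spor.M23RelFacts
import Cfsg.Agent.Lib.Spor.M22UFacts

/-!
An element fixing the members commuting with a product of four commuting members of a group of type M(24)
has square one.
-/

set_option autoImplicit false
set_option maxRecDepth 100000
set_option linter.unusedSectionVars false

namespace Cfsg.Agent.Spor.M24Rel.QCen

open Cfsg.Agent.Spor.M22U (nset orth)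
open Cfsg.Agent.Spor.M22U.InvClasses (Good)
open Cfsg.Agent.Spor.M23Rel
open Cfsg.Agent.Spor.M24Rel.Ord3 (com3 Co lift24 lift23 img_nset24 img_nset23)

variable {G : Type*} [Group G] [Finite G] {D : Set G}

theorem comm_mk {H : Subgroup G} {x y : H} (h : Commute (x : G) y) :
    Commute (QuotientGroup.mk x : H ⧸ Subgroup.center H) (QuotientGroup.mk y) :=
  Commute.map (Subtype.ext h.eq : Commute x y) (QuotientGroup.mk' (Subgroup.center H))

variable (hD : Cfsg.IsThreeTranspositionGroup D) (hprim : Cfsg.IsPrimitiveUnderConj D)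
  (ht : Cfsg.IsOfTypeM24 G D)
include hD hprim ht

/-- an element fixing the members commuting with three members is a product of some of them -/
theorem cen3 {a b c x : G} (ha : a ∈ D) (hb : b ∈ nset D a) (hca : c ∈ nset D a) (hcb : c ∈ nset D b)
    (xa : Commute x a) (xb : Commute x b) (xc : Commute x c) (hx : ∀ m ∈ com3 D a b c, Commute x m) :
    x ∈ [1, a, b, b * a, c, a * c, b * c, b * a * c] := by
  classical
  have S1 := M24Rel.Fix.setting_of hD hprim ht ha
  have hH1 := (Invol.hyp_of hD hprim ht).cent a ha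
  set b1 := S1.img b hb with hb1
  have hc1 := img_nset24 S1 hb hca hcb
  have S2 := M23Rel.Shift.setting_of S1.group S1.next_prim S1.next (S1.img_mem hb)
  set c2 := S2.img (S1.img c hca) hc1 with hc2
  have hH2 := M23Rel.Facts.closure_cent S1.group S1.next_prim S1.next (S1.img_mem hb)
  have hc2m : c2 ∈ nextSet (nextSet D a) b1 := ⟨_, hc1, rfl⟩
  -- the images of such an element
  have inH : ∀ {g : G}, Commute g a → g ∈ Subgroup.closure (nset D a) := fun {g} hg =>
    hH1.symm ▸ Subgroup.mem_centralizer_singleton_iff.mpr hg.eq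
  let X1 : ∀ {g : G}, Commute g a → ↥(Subgroup.closure (nset D a)) ⧸ Subgroup.center ↥(Subgroup.closure (nset D a)) :=
    fun hg => QuotientGroup.mk ⟨_, inH hg⟩
  have inH2 : ∀ {g : G} (hg : Commute g a), Commute g b → X1 hg ∈ Subgroup.closure (nset (nextSet D a) b1) :=
    fun {g} hg hgb => hH2.symm ▸ Subgroup.mem_centralizer_singleton_iff.mpr (comm_mk hgb).eq
  let X2 : ∀ {g : G} (hg : Commute g a), Commute g b →
      ↥(Subgroup.closure (nset (nextSet D a) b1)) ⧸ Subgroup.center ↥(Subgroup.closure (nset (nextSet D a) b1)) :=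
    fun hg hgb => QuotientGroup.mk ⟨_, inH2 hg hgb⟩
  have low : ∀ {g : G} (hg : Commute g a) (hgb : Commute g b), X2 hg hgb = 1 → g ∈ [1, a, b, b * a] := by
    intro g hg hgb h
    have hgc1 := inH2 hg hgb
    rcases S2.central_cases (x := ⟨_, hgc1⟩) h with e | e
    · rcases S1.central_cases (x := ⟨g, inH hg⟩) e with e' | e' <;> simp at e' <;> simp [e']
    · have hbg : Commute (b⁻¹ * g) a := hb.2.2.symm.inv_left.mul_left hg
      have h1 : (QuotientGroup.mk ⟨b⁻¹ * g, inH hbg⟩ :
          ↥(Subgroup.closure (nset D a)) ⧸ Subgroup.center ↥(Subgroup.closure (nset D a))) = 1 := by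
        rw [show (⟨b⁻¹ * g, inH hbg⟩ : ↥(Subgroup.closure (nset D a))) = ⟨b, Subgroup.subset_closure hb⟩⁻¹ *
          ⟨g, inH hg⟩ from rfl, QuotientGroup.mk_mul, QuotientGroup.mk_inv]
        exact inv_mul_eq_one.mpr (e.trans rfl).symm
      rcases S1.central_cases h1 with e' | e'
      · have : b = g := inv_mul_eq_one.mp e'
        simp [this]
      · have : g = b * a := eq_mul_of_inv_mul_eq e'
        simp [this]
  have hX2c : X2 xa xb = 1 ∨ X2 xa xb = c2 := by
    have hcl := M22U.Facts.closure_cent S2.group S2.next_prim S2.next hc2m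
    have hcen := M22U.Facts.center_cent S2.group S2.next_prim S2.next hc2m
    have hmem : X2 xa xb ∈ Subgroup.centralizer ({c2} : Set _) :=
      Subgroup.mem_centralizer_singleton_iff.mpr (comm_mk (comm_mk xc)).eq
    have hz : (⟨_, hmem⟩ : ↥(Subgroup.centralizer ({c2} : Set _))) ∈ Subgroup.center _ := by
      rw [Subgroup.mem_center_iff]
      rintro ⟨v, hv⟩
      refine Subtype.ext ?_
      show v * X2 xa xb = X2 xa xb * v
      have hv' : v ∈ Subgroup.closure (nset (nextSet (nextSet D a) b1) c2) := hcl.symm ▸ hv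
      clear hv
      induction hv' using Subgroup.closure_induction with
      | mem v hv =>
        obtain ⟨z1, hz1, hz1c, rfl⟩ := lift23 S2 hc1 hv
        obtain ⟨z, hz, hzb, rfl⟩ := lift24 S1 hb hz1
        have hzm : z ∈ com3 D a b c := ⟨⟨hz, hzb⟩, hz.1, fun h => hz1c.2.1 (by subst h; rfl),
          M23Rel.commute_lift S1.pre a hca hz hz1c.2.2⟩
        exact (comm_mk (comm_mk (hx z hzm))).eq.symm
      | one => rw [one_mul, mul_one]
      | mul u v _ _ hu hv => exact (Commute.mul_left (show Commute u _ from hu) hv).eq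
      | inv u _ hu => exact (Commute.inv_left (show Commute u _ from hu)).eq
    rw [hcen, Subgroup.mem_subgroupOf] at hz
    obtain ⟨n, hn⟩ := Subgroup.mem_zpowers_iff.mp hz
    have ho : c2 ^ (2 : ℤ) = 1 := by
      show c2 ^ ((2 : ℕ) : ℤ) = 1
      rw [zpow_natCast, ← S2.group.1.1 c2 hc2m]
      exact pow_orderOf_eq_one _
    have hn' : c2 ^ n = X2 xa xb := hn
    rw [← hn', ← Int.mul_ediv_add_emod n 2, zpow_add, zpow_mul, ho, one_zpow, one_mul]
    rcases Int.emod_two_eq_zero_or_one n with e | e <;> rw [e]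
    · exact Or.inl (zpow_zero _)
    · exact Or.inr (zpow_one _)
  rcases hX2c with h | h
  · have h0 := low xa xb h
    simp only [List.mem_cons, List.not_mem_nil, or_false] at h0 ⊢
    rcases h0 with e | e | e | e <;> simp [e]
  · have ga : Commute (x * c⁻¹) a := xa.mul_left hca.2.2.symm.inv_left
    have gb : Commute (x * c⁻¹) b := xb.mul_left hcb.2.2.symm.inv_left
    have h' : X2 ga gb = 1 := by
      have e : X2 ga gb = X2 xa xb * c2⁻¹ := rfl
      rw [e, h, mul_inv_cancel]
    have h0 := low ga gb h'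
    simp only [List.mem_cons, List.not_mem_nil, or_false, mul_inv_eq_iff_eq_mul] at h0 ⊢
    rcases h0 with e | e | e | e <;> simp [e]

/-- coordinates starting at a member -/
theorem exists_co_at {a b c s : G} (ha : a ∈ D) (hb : b ∈ nset D a) (hca : c ∈ nset D a) (hcb : c ∈ nset D b)
    (hs : s ∈ com3 D a b c) : ∃ C : Co D a b c, C.L 317 = s := by
  obtain ⟨C⟩ := Ord3.exists_co hD hprim ht ha hb hca hcb
  obtain ⟨k, hk, rfl⟩ := C.surj s hs
  obtain ⟨w, hw, hwk⟩ := M22U.Pts.from_first hk
  rw [Ord3.Cnt.first.1] at hwk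
  exact ⟨C.move w hw, congrArg C.L hwk⟩

/-- the square of an element fixing the members near a quadruple fixes the members near a triple of it -/
theorem mate_sq {a b c s w : G} (ha : a ∈ D) (hb : b ∈ nset D a) (hca : c ∈ nset D a) (hcb : c ∈ nset D b)
    (hs : s ∈ com3 D a b c) (wa : Commute w a) (wb : Commute w b) (wc : Commute w c) (ws : Commute w s)
    (hw : ∀ m ∈ com3 D a b c, Commute s m → Commute w m) : ∀ y ∈ com3 D a b c, Commute (w * w) y := by
  classical
  obtain ⟨C, hC⟩ := exists_co_at hD hprim ht ha hb hca hcb hs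
  have hE := M23Rel.pre_of_group hD
  have hstay : ∀ {g : G}, Commute g a → Commute g b → Commute g c → ∀ {m}, m ∈ com3 D a b c →
      g * m * g⁻¹ ∈ com3 D a b c := fun ga gb gc _ hm =>
    ⟨⟨nset_conj hE ga hm.1.1, nset_conj hE gb hm.1.2⟩, nset_conj hE gc hm.2⟩
  have h317 : 317 < 693 := by norm_num
  have hfar : ∀ {k}, k < 693 → ¬ Commute s (C.L k) → orth 317 k = false := fun hk h =>
    Bool.eq_false_iff.mpr fun ho => h (hC ▸ (C.comm _ h317 _ hk).mpr ho)
  intro y hy
  by_cases hsy : Commute s y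
  · exact (hw y hy hsy).mul_left (hw y hy hsy)
  have sa := hs.1.1.2.2.symm
  have sb := hs.1.2.2.2.symm
  have sc := hs.2.2.2.symm
  have hsame : ∀ {g : G}, Commute g s → ¬ Commute s (g * y * g⁻¹) := fun {g} hg h => hsy (by
    rw [← Spor.commute_conj_iff (g := g), hg.eq, mul_inv_cancel_right]; exact h)
  obtain ⟨k, hk, hky⟩ := C.surj y hy
  obtain ⟨k1, hk1, hk1y⟩ := C.surj _ (hstay wa wb wc hy)
  obtain ⟨k2, hk2, hk2y⟩ := C.surj _ (hstay sa sb sc hy)
  have hpat : ∀ {g : G} {k' : ℕ}, k' < 693 → C.L k' = g * y * g⁻¹ →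
      (∀ r, r < 693 → orth 317 r = true → Commute g (C.L r)) → Ord3.Mate.pat k = Ord3.Mate.pat k' := by
    intro g k' hk' he hg
    refine Ord3.Mate.pat_eq fun r hr _ hor => Bool.eq_iff_iff.mpr ?_
    have h1 := Spor.commute_conj_iff (g := g) (a := y) (b := C.L r)
    rw [(hg r hr hor).eq, mul_inv_cancel_right, ← he] at h1
    rw [← C.comm _ hk _ hr, ← C.comm _ hk' _ hr, hky]
    exact h1.symm
  have hnear : ∀ r, r < 693 → orth 317 r = true → Commute s (C.L r) := fun r hr hor =>
    hC ▸ (C.comm _ h317 _ hr).mpr hor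
  have p1 := hpat hk1 hk1y fun r hr hor => hw _ (C.mem r hr) (hnear r hr hor)
  have p2 := hpat hk2 hk2y hnear
  rcases Ord3.Mate.two_only hk hk1 hk2 (hfar hk (hky ▸ hsy)) (hfar hk1 (hk1y ▸ hsame ws))
      (hfar hk2 (hk2y ▸ hsame (Commute.refl s))) p1 p2 with e | e | e
  · have hc' : Commute w y := mul_inv_eq_iff_eq_mul.mp (by rw [← hk1y, ← e, hky])
    exact hc'.mul_left hc'
  · exact absurd (mul_inv_eq_iff_eq_mul.mp (by rw [← hk2y, ← e, hky] : s * y * s⁻¹ = y)) hsy
  · have he : w * y * w⁻¹ = s * y * s⁻¹ := by rw [← hk1y, ← hk2y, e]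
    have hs2 : s * s = 1 := Spor.mul_self_of_order_two (hD.1.1 s hs.1.1.1)
    refine mul_inv_eq_iff_eq_mul.mp ?_
    rw [show w * w * y * (w * w)⁻¹ = w * (w * y * w⁻¹) * w⁻¹ by group, he,
      show w * (s * y * s⁻¹) * w⁻¹ = (w * s) * y * (w * s)⁻¹ by group, ws.eq,
      show s * w * y * (s * w)⁻¹ = s * (w * y * w⁻¹) * s⁻¹ by group, he,
      show s * (s * y * s⁻¹) * s⁻¹ = s * s * y * (s * s)⁻¹ by group, hs2, one_mul, inv_one, mul_one]

/-- an element fixing the members commuting with a product of four has square one -/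
theorem square_one {p q r s w : G} (hl : Good D [p, q, r, s])
    (hw : ∀ m ∈ D, Commute (p * (q * (r * s))) m → Commute w m) : w * w = 1 := by
  have h := Invol.hyp_of hD hprim ht
  obtain ⟨hn, hmem, hcom⟩ := id hl
  simp only [List.nodup_cons, List.mem_cons, List.not_mem_nil, or_false, not_or, List.nodup_nil, and_true,
    not_false_eq_true] at hn
  obtain ⟨⟨npq, npr, nps⟩, ⟨nqr, nqs⟩, nrs⟩ := hn
  have hp := hmem p (by simp)
  have hq := hmem q (by simp)
  have hr := hmem r (by simp)
  have hs := hmem s (by simp)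
  have cpq := hcom p (by simp) q (by simp)
  have cpr := hcom p (by simp) r (by simp)
  have cps := hcom p (by simp) s (by simp)
  have cqr := hcom q (by simp) r (by simp)
  have cqs := hcom q (by simp) s (by simp)
  have crs := hcom r (by simp) s (by simp)
  have hjm : ∀ {m}, Commute p m → Commute q m → Commute r m → Commute s m →
      Commute (p * (q * (r * s))) m := fun a b c d => a.mul_left (b.mul_left (c.mul_left d))
  have wp := hw p hp (hjm (Commute.refl _) cpq.symm cpr.symm cps.symm)
  have wq := hw q hq (hjm cpq (Commute.refl _) cqr.symm cqs.symm)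
  have wr := hw r hr (hjm cpr cqr (Commute.refl _) crs.symm)
  have ws := hw s hs (hjm cps cqs crs (Commute.refl _))
  have ns : ∀ {u v}, v ∈ D → u ≠ v → Commute u v → v ∈ nset D u := fun hv n c => ⟨hv, Ne.symm n, c⟩
  have key : ∀ {a b c e : G}, a ∈ D → b ∈ nset D a → c ∈ nset D a → c ∈ nset D b → e ∈ com3 D a b c →
      Commute w a → Commute w b → Commute w c → Commute w e →
      (∀ m, Commute a m → Commute b m → Commute c m → Commute e m → Commute (p * (q * (r * s))) m) →
      w * w ∈ [1, a, b, b * a, c, a * c, b * c, b * a * c] := fun ha hb hca hcb he wa wb wc we hj =>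
    cen3 hD hprim ht ha hb hca hcb (wa.mul_left wa) (wb.mul_left wb) (wc.mul_left wc)
      (mate_sq hD hprim ht ha hb hca hcb he wa wb wc we fun m hm hem =>
        hw m hm.1.1.1 (hj m hm.1.1.2.2 hm.1.2.2.2 hm.2.2.2 hem))
  have k1 := key hp (ns hq npq cpq) (ns hr npr cpr) (ns hr nqr cqr)
    ⟨⟨ns hs nps cps, ns hs nqs cqs⟩, ns hs nrs crs⟩ wp wq wr ws fun m a b c d => hjm a b c d
  have k2 := key hp (ns hq npq cpq) (ns hs nps cps) (ns hs nqs cqs)
    ⟨⟨ns hr npr cpr, ns hr nqr cqr⟩, ns hr (Ne.symm nrs) crs.symm⟩ wp wq ws wr fun m a b c d => hjm a b d c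
  have k3 := key hs (ns hq (Ne.symm nqs) cqs.symm) (ns hr (Ne.symm nrs) crs.symm) (ns hr nqr cqr)
    ⟨⟨ns hp (Ne.symm nps) cps.symm, ns hp (Ne.symm npq) cpq.symm⟩, ns hp (Ne.symm npr) cpr.symm⟩ ws wq wr wp
      fun m a b c d => hjm d b c a
  haveI := Subgroup.normal_of_index_eq_two (Base.comm_facts hD hprim ht).1
  have hL : w * w ∈ commutator G := Subgroup.mul_self_mem_of_index_two (Base.comm_facts hD hprim ht).1 w
  have odd : ∀ l : List G, (∀ a ∈ l, a ∈ D) → ¬ Even l.length → w * w ≠ l.prod := fun l hl' he e =>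
    he ((h.par l hl').mp (e ▸ hL))
  have o1 : ∀ {u}, u ∈ D → w * w ≠ u := fun {u} hu e =>
    odd [u] (by simp [hu]) (by simp) (by simp [e])
  have o3 : ∀ {u v t}, u ∈ D → v ∈ D → t ∈ D → w * w ≠ u * v * t := fun {u v t} hu hv ht' e =>
    odd [u, v, t] (by simp [hu, hv, ht']) (by simp [Nat.even_iff]) (by simp [e, mul_assoc])
  have hj := Invol.prod_ne_one h hl (by simp) (by simp)
  simp only [List.prod_cons, List.prod_nil, mul_one] at hj
  have e1 : p * r * (q * s) = p * (q * (r * s)) := by simp only [mul_assoc, cqr.symm.left_comm]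
  have sq : ∀ {u v}, Commute u v → u ∈ D → v ∈ D → (u * v) * (u * v) = 1 := fun {u v} c hu hv => by
    rw [c.symm.mul_mul_mul_comm, Spor.mul_self_of_order_two (hD.1.1 u hu), Spor.mul_self_of_order_two (hD.1.1 v hv),
      one_mul]
  simp only [List.mem_cons, List.not_mem_nil, or_false] at k1 k2 k3
  rcases k1 with e | e | e | e | e | e | e | e
  · exact e
  · exact absurd e (o1 hp)
  · exact absurd e (o1 hq)
  · rcases k3 with f | f | f | f | f | f | f | f
    · exact f
    · exact absurd f (o1 hs)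
    · exact absurd f (o1 hq)
    · exact absurd (mul_left_cancel (e.symm.trans f)) nps
    · exact absurd f (o1 hr)
    · exfalso
      have h4 : q * p = s * r := e.symm.trans f
      refine hj ?_
      rw [show p * (q * (r * s)) = (q * p) * (s * r) by rw [crs.eq, ← mul_assoc, cpq.eq], h4,
        sq crs.symm hs hr]
    · exact absurd (mul_left_cancel (e.symm.trans f)) npr
    · exact absurd f (o3 hq hs hr)
  · exact absurd e (o1 hr)
  · rcases k2 with f | f | f | f | f | f | f | f
    · exact f
    · exact absurd f (o1 hp)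
    · exact absurd f (o1 hq)
    · exact absurd (mul_left_cancel ((e.symm.trans f).trans cpq.eq.symm)) (Ne.symm nqr)
    · exact absurd f (o1 hs)
    · exact absurd (mul_left_cancel (e.symm.trans f)) nrs
    · exact absurd (by rw [← e1, ← e.symm.trans f, sq cpr hp hr]) hj
    · exact absurd f (o3 hq hp hs)
  · rcases k2 with f | f | f | f | f | f | f | f
    · exact f
    · exact absurd f (o1 hp)
    · exact absurd f (o1 hq)
    · exact absurd (mul_left_cancel (e.symm.trans f)) (Ne.symm npr)
    · exact absurd f (o1 hs)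
    · exfalso
      refine hj ?_
      rw [show p * (q * (r * s)) = (p * s) * (q * r) by rw [crs.eq]; simp only [mul_assoc, cqs.symm.left_comm],
        show q * r = p * s from e.symm.trans f, sq cps hp hs]
    · exact absurd (mul_left_cancel (e.symm.trans f)) nrs
    · exact absurd f (o3 hq hp hs)
  · exact absurd e (o3 hq hp hr)

end Cfsg.Agent.Spor.M24Rel.QCen
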