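import Cfsg.Agent.Lib.Spor.M24RelSevSixDefs

/-!
Six orthogonal vectors of norm one in the complement of a vector of norm two, and its lines of norm one.
-/

set_option autoImplicit false
set_option maxRecDepth 100000

namespace Cfsg.Agent.Spor.M24Rel.Sev

/-- six orthogonal vectors of norm one -/
def frame6 : Fin 6 → V7 := ![![1, 0, 0, 0, 0, 0, 0], ![0, 0, 0, 0, 0, 1, 1], ![0, 0, 0, 1, 1, 0, 0],
  ![0, 1, 1, 0, 0, 0, 0], ![0, 1, 2, 1, 2, 0, 0], ![0, 1, 2, 2, 1, 0, 0]]

/-- minus one on the complement -/
def sig (z : V7) : V7 := (2 * b7 x2 z) • x2 - z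

/-- the reflection in coordinates -/
def rc (x z : V7) : V7 := z - b7 x z • x

theorem frame6_facts : (∀ i, q7 (frame6 i) = 1 ∧ frame6 i 5 = frame6 i 6) ∧
    (∀ i k, i ≠ k → b7 (frame6 i) (frame6 k) = 0) := by decide +kernel

theorem frame6_prod : ∀ z : V7, ((List.finRange 6).map frame6).foldr rc z = sig z := by decide +kernel

theorem two_witness : ∀ v : V7, q7 v = 1 → v 5 = v 6 →
    ∃ i : Fin 12, b7 (cand i) v ≠ 0 ∧ cand i ≠ v ∧ cand i ≠ -v := by decide +kernel

theorem sig_facts : sig y0 ≠ y0 ∧ sig x2 = x2 := by decide +kernel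

theorem sig_fixed : ∀ z : V7, sig z = z → z = b7 x2 z • x2 := by decide +kernel

/-- a sign is fixed -/
def canon (v : V7) : Bool :=
  match (List.ofFn v).find? (· != 0) with
  | some c => c == 1
  | none => false

/-- representatives of the lines of norm one of the complement -/
def lines : Finset V7 := Finset.univ.filter fun v => q7 v = 1 ∧ v 5 = v 6 ∧ canon v = true

theorem lines_card : lines.card = 126 := by decide +kernel

theorem canon_neg : ∀ v : V7, canon v = true → canon (-v) = false := by decide +kernel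

theorem lines_neg (v : V7) (h : v ∈ lines) : -v ∉ lines := fun h' => by
  have := canon_neg v (Finset.mem_filter.mp h).2.2.2
  rw [(Finset.mem_filter.mp h').2.2.2] at this
  exact Bool.noConfusion this

end Cfsg.Agent.Spor.M24Rel.Sev
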