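import Cfsg.Agent.Lib.Spor.M24RelQQuads

/-!
The subgroup of the centralizer of a product of four commuting members acting on each quadruple as the four group.
-/

set_option autoImplicit false
set_option maxRecDepth 100000
set_option linter.unusedSectionVars false

namespace Cfsg.Agent.Spor.M24Rel.QTop

open Cfsg.Agent.Spor.M22U.InvClasses (Good)
open Cfsg.Agent.Spor.M23Rel

variable {G : Type*} [Group G] [Finite G] {D : Set G} {j : G}

/-- pairs of one quadruple go to themselves or their complements -/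
def Tr (D : Set G) (j g m : G) : Prop :=
  ∀ a b, Sib D j m a → Sib D j m b → a ≠ b → g * (a * b) * g⁻¹ = a * b ∨ g * (a * b) * g⁻¹ = j * (a * b)

/-- the elements acting on each quadruple as the four group -/
def TSet (D : Set G) (j : G) : Set G := {g | Commute g j ∧ ∀ m, Tr D j g m}

/-- the elements fixing each quadruple -/
def KSet (D : Set G) (j : G) : Set G := {g | Commute g j ∧ ∀ m ∈ U D j, Sib D j m (g * m * g⁻¹)}

theorem Tr.one (m : G) : Tr D j 1 m := fun a b _ _ _ => Or.inl (by group)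

theorem Tr.mul {g h m : G} (hg : Commute g j) (hjj : j * j = 1) (tg : Tr D j g m) (th : Tr D j h m) :
    Tr D j (g * h) m := by
  intro a b ha hb hne
  rw [show g * h * (a * b) * (g * h)⁻¹ = g * (h * (a * b) * h⁻¹) * g⁻¹ by group]
  rcases th a b ha hb hne with e | e <;> rw [e]
  · exact tg a b ha hb hne
  · rw [show g * (j * (a * b)) * g⁻¹ = g * j * g⁻¹ * (g * (a * b) * g⁻¹) by group, hg.eq, mul_inv_cancel_right]
    rcases tg a b ha hb hne with e' | e' <;> rw [e']
    · exact Or.inr rfl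
    · rw [← mul_assoc, hjj, one_mul]; exact Or.inl rfl

theorem Tr.inv {g m : G} (hg : Commute g j) (hjj : j * j = 1) (tg : Tr D j g m) : Tr D j g⁻¹ m := by
  intro a b ha hb hne
  rcases tg a b ha hb hne with e | e
  · left
    conv_lhs => rw [← e]
    group
  · right
    have e' : a * b = g⁻¹ * (j * (a * b)) * g := by rw [← e]; group
    rw [show g⁻¹ * (j * (a * b)) * g = g⁻¹ * j * g * (g⁻¹ * (a * b) * g) by group, mul_assoc g⁻¹ j g,
      ← hg.eq, inv_mul_cancel_left] at e'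
    rw [inv_inv]
    conv_rhs => rw [e', ← mul_assoc, hjj, one_mul]

theorem tr_sib {g m m' : G} (hD : Cfsg.IsThreeTranspositionGroup D) (hprim : Cfsg.IsPrimitiveUnderConj D)
    (ht : Cfsg.IsOfTypeM24 G D) (h : Sib D j m m') (tg : Tr D j g m) : Tr D j g m' :=
  fun a b ha hb => tg a b (h.trans hD hprim ht ha) (h.trans hD hprim ht hb)

variable (hD : Cfsg.IsThreeTranspositionGroup D) (hprim : Cfsg.IsPrimitiveUnderConj D)
  (ht : Cfsg.IsOfTypeM24 G D)
include hD hprim ht

/-- a quadruple through two members -/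
theorem two_front {a b : G} (h : Sib D j a b) (hne : a ≠ b) : ∃ c e, IsQ D j [a, b, c, e] := by
  classical
  obtain ⟨l, hl, ha, hb⟩ := h
  obtain ⟨p, q, r, hg, hi⟩ := hl.front ha
  have hb' := (hi b).mpr hb
  simp only [List.mem_cons, List.not_mem_nil, or_false] at hb'
  rcases hb' with e | e | e | e <;> subst e
  · exact absurd rfl hne
  · exact ⟨q, r, hg⟩
  · exact ⟨p, r, hg.perm ((List.Perm.swap p b [r]).cons a)⟩
  · exact ⟨p, q, hg.perm (((List.perm_append_comm (l₁ := [b]) (l₂ := [p, q]))).cons a)⟩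

theorem pair_other {a b c e : G} (h : IsQ D j [a, b, c, e]) : j * (a * b) = c * e := by
  have h4 := h.four
  have cab : Commute a b := h.1.2.2 a (by simp) b (by simp)
  have haa := sq hD (h.1.2.1 a (by simp))
  have hbb := sq hD (h.1.2.1 b (by simp))
  have hj : Commute (a * b) j := (h.mem_U (m := a) (by simp)).2.symm.mul_left (h.mem_U (m := b) (by simp)).2.symm
  rw [← hj.eq, ← h4, show a * b * (a * (b * (c * e))) = (a * b) * (a * b) * (c * e) by simp only [mul_assoc],
    cab.symm.mul_mul_mul_comm, haa, hbb, one_mul, one_mul]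

theorem pair_eq {a b c e : G} (h : Sib D j a b) (h' : Sib D j c e) (hne : a ≠ b) (hne' : c ≠ e)
    (he : a * b = c * e) : (c = a ∧ e = b) ∨ (c = b ∧ e = a) := by
  have hy := Invol.hyp_of hD hprim ht
  have hU := h.mem_U
  have hU' := h'.mem_U
  have cab := sib_comm hD hprim ht h
  have cce := sib_comm hD hprim ht h'
  have hpair : ∀ {x z : G}, Commute x z → ∀ u ∈ [x, z], ∀ v ∈ [x, z], Commute u v := by
    intro x z hxz u hu v hv
    simp only [List.mem_cons, List.not_mem_nil, or_false] at hu hv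
    rcases hu with e1 | e1 <;> rcases hv with e2 | e2 <;> rw [e1, e2]
    exacts [hxz, hxz.symm]
  have key := Top.factors hD ⟨hy.four, hy.six⟩ (l := [a, b]) (l' := [c, e]) (by simp [hne]) (by simp [hne'])
    (by simp) rfl (by simp [hU.1.1, hU.2.1]) (by simp [hU'.1.1, hU'.2.1]) (hpair cab) (hpair cce) (by simp [he])
  have hc := (key c).mpr (by simp)
  have he' := (key e).mpr (by simp)
  simp only [List.mem_cons, List.not_mem_nil, or_false] at hc he'
  rcases hc with e1 | e1 <;> rcases he' with e2 | e2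
  · exact absurd (e1.trans e2.symm) hne'
  · exact Or.inl ⟨e1, e2⟩
  · exact Or.inr ⟨e1, e2⟩
  · exact absurd (e1.trans e2.symm) hne'

/-- the images of a pair -/
theorem tr_pair {g m a b c e : G} (hg : Commute g j) (tg : Tr D j g m) (hm : Sib D j m a)
    (h : IsQ D j [a, b, c, e]) :
    (g * a * g⁻¹ = a ∧ g * b * g⁻¹ = b) ∨ (g * a * g⁻¹ = b ∧ g * b * g⁻¹ = a) ∨
      (g * a * g⁻¹ = c ∧ g * b * g⁻¹ = e) ∨ (g * a * g⁻¹ = e ∧ g * b * g⁻¹ = c) := by
  have hn := h.1.1
  simp only [List.nodup_cons, List.mem_cons, List.not_mem_nil, or_false, not_or, List.nodup_nil, and_true,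
    not_false_eq_true] at hn
  have hab : Sib D j a b := ⟨_, h, by simp, by simp⟩
  have hce : Sib D j c e := ⟨_, h, by simp, by simp⟩
  have hne : g * a * g⁻¹ ≠ g * b * g⁻¹ := fun e1 => hn.1.1 (mul_left_cancel (mul_right_cancel e1))
  have hs := hab.conj hD hg
  have e0 : g * (a * b) * g⁻¹ = g * a * g⁻¹ * (g * b * g⁻¹) := by group
  rcases tg a b hm (hm.trans hD hprim ht hab) hn.1.1 with e1 | e1
  · rcases pair_eq hD hprim ht hab hs hn.1.1 hne (e1.symm.trans e0) with h2 | h2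
    · exact Or.inl h2
    · exact Or.inr (Or.inl h2)
  · rw [pair_other hD hprim ht h] at e1
    rcases pair_eq hD hprim ht hce hs hn.2.2 hne (e1.symm.trans e0) with h2 | h2
    · exact Or.inr (Or.inr (Or.inl h2))
    · exact Or.inr (Or.inr (Or.inr h2))

theorem tr_fix {g m x : G} (hg : Commute g j) (tg : Tr D j g m) (hfix : g * m * g⁻¹ = m) (hx : Sib D j m x) :
    g * x * g⁻¹ = x := by
  rcases eq_or_ne m x with e | hne
  · rw [← e]; exact hfix
  obtain ⟨c, e, h⟩ := two_front hD hprim ht hx hne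
  have hn := h.1.1
  simp only [List.nodup_cons, List.mem_cons, List.not_mem_nil, or_false, not_or, List.nodup_nil, and_true,
    not_false_eq_true] at hn
  rcases tr_pair hD hprim ht hg tg (m := m) ⟨_, h, by simp, by simp⟩ h with ⟨-, h2⟩ | ⟨h1, -⟩ | ⟨h1, -⟩ | ⟨h1, -⟩
  · exact h2
  · exact absurd (hfix.symm.trans h1) hne
  · exact absurd (hfix.symm.trans h1) hn.1.2.1
  · exact absurd (hfix.symm.trans h1) hn.1.2.2

theorem tr_swap {g a b c e : G} (hg : Commute g j) (tg : Tr D j g a) (h : IsQ D j [a, b, c, e])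
    (hab : g * a * g⁻¹ = b) : g * b * g⁻¹ = a ∧ g * c * g⁻¹ = e ∧ g * e * g⁻¹ = c := by
  have hn := h.1.1
  simp only [List.nodup_cons, List.mem_cons, List.not_mem_nil, or_false, not_or, List.nodup_nil, and_true,
    not_false_eq_true] at hn
  have haa : Sib D j a a := ⟨_, h, by simp, by simp⟩
  have h1 : IsQ D j [a, c, b, e] := h.perm ((List.Perm.swap b c [e]).cons a)
  have h2 : IsQ D j [a, e, b, c] := h.perm (((List.perm_append_comm (l₁ := [e]) (l₂ := [b, c]))).cons a)
  refine ⟨?_, ?_, ?_⟩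
  · rcases tr_pair hD hprim ht hg tg haa h with ⟨i, -⟩ | ⟨-, i⟩ | ⟨i, -⟩ | ⟨i, -⟩
    exacts [absurd (i.symm.trans hab) hn.1.1, i, absurd (hab.symm.trans i) hn.2.1.1,
      absurd (hab.symm.trans i) hn.2.1.2]
  · rcases tr_pair hD hprim ht hg tg haa h1 with ⟨i, -⟩ | ⟨i, -⟩ | ⟨-, i⟩ | ⟨i, -⟩
    exacts [absurd (i.symm.trans hab) hn.1.1, absurd (hab.symm.trans i) hn.2.1.1, i,
      absurd (hab.symm.trans i) hn.2.1.2]
  · rcases tr_pair hD hprim ht hg tg haa h2 with ⟨i, -⟩ | ⟨i, -⟩ | ⟨-, i⟩ | ⟨i, -⟩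
    exacts [absurd (i.symm.trans hab) hn.1.1, absurd (hab.symm.trans i) hn.2.1.2, i,
      absurd (hab.symm.trans i) hn.2.1.1]

/-- such elements stay in the quadruple -/
theorem tr_K {g m : G} (hg : Commute g j) (tg : Tr D j g m) {l : List G} (hl : IsQ D j l) (hm : m ∈ U D j) :
    Sib D j m (g * m * g⁻¹) := by
  obtain ⟨t, ht', hmt⟩ := exists_quad hD hprim ht hl hm
  obtain ⟨p, q, r, hq, -⟩ := ht'.front hmt
  have hmm : Sib D j m m := ⟨_, hq, by simp, by simp⟩
  rcases tr_pair hD hprim ht hg tg hmm hq with ⟨h1, -⟩ | ⟨h1, -⟩ | ⟨h1, -⟩ | ⟨h1, -⟩ <;> rw [h1] <;>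
    exact ⟨_, hq, by simp, by simp⟩

omit hprim ht in
theorem conj_tr {g h m : G} (hg : Commute g j) (th : Tr D j h m) :
    Tr D j (g * h * g⁻¹) (g * m * g⁻¹) := by
  intro a b ha hb hne
  have key : ∀ {x}, Sib D j (g * m * g⁻¹) x → Sib D j m (g⁻¹ * x * g) := fun {x} hx => by
    have := hx.conj hD hg.inv_left
    simpa [mul_assoc] using this
  have e0 : g * h * g⁻¹ * (a * b) * (g * h * g⁻¹)⁻¹ = g * (h * ((g⁻¹ * a * g) * (g⁻¹ * b * g)) * h⁻¹) * g⁻¹ := by
    group
  have e1 : g * ((g⁻¹ * a * g) * (g⁻¹ * b * g)) * g⁻¹ = a * b := by group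
  rw [e0]
  rcases th _ _ (key ha) (key hb) (fun e => hne (mul_left_cancel (mul_right_cancel e))) with e | e <;> rw [e]
  · exact Or.inl e1
  · refine Or.inr ?_
    rw [show g * (j * ((g⁻¹ * a * g) * (g⁻¹ * b * g))) * g⁻¹ =
      g * j * g⁻¹ * (g * ((g⁻¹ * a * g) * (g⁻¹ * b * g)) * g⁻¹) by group, hg.eq, mul_inv_cancel_right, e1]

variable {l : List G} (hl : IsQ D j l)
include hl

/-- the elements acting on each quadruple as the four group, as a subgroup -/
def TG : Subgroup G where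
  carrier := TSet D j
  one_mem' := ⟨Commute.one_left j, Tr.one⟩
  mul_mem' h h' := ⟨h.1.mul_left h'.1, fun m => (h.2 m).mul h.1 (hl.sq_one hD hprim ht) (h'.2 m)⟩
  inv_mem' h := ⟨h.1.inv_left, fun m => (h.2 m).inv h.1 (hl.sq_one hD hprim ht)⟩

theorem mem_TG {g : G} : g ∈ TG hD hprim ht hl ↔ Commute g j ∧ ∀ m, Tr D j g m := Iff.rfl

theorem TG_conj {g t : G} (hg : Commute g j) (htT : t ∈ TG hD hprim ht hl) :
    g * t * g⁻¹ ∈ TG hD hprim ht hl := by
  refine ⟨(hg.mul_left htT.1).mul_left hg.inv_left, fun m => ?_⟩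
  have := conj_tr hD (g := g) hg (htT.2 (g⁻¹ * m * g))
  simpa [mul_assoc] using this

/-- the elements fixing each quadruple, as a subgroup -/
def KG : Subgroup G where
  carrier := KSet D j
  one_mem' := ⟨Commute.one_left j, fun m hm => by simpa using sib_refl hD hprim ht hl hm⟩
  mul_mem' {g h} hg hh := by
    refine ⟨hg.1.mul_left hh.1, fun m hm => ?_⟩
    have h1 := hh.2 m hm
    have h2 := hg.2 _ (h1.mem_U).2
    rw [show g * (h * m * h⁻¹) * g⁻¹ = g * h * m * (g * h)⁻¹ by group] at h2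
    exact h1.trans hD hprim ht h2
  inv_mem' {g} hg := by
    refine ⟨hg.1.inv_left, fun m hm => ?_⟩
    have h1 := hg.2 _ (U_conj hD hm hg.1.inv_left)
    rw [show g * (g⁻¹ * m * g⁻¹⁻¹) * g⁻¹ = m by group] at h1
    exact h1.symm

theorem mem_KG {g : G} : g ∈ KG hD hprim ht hl ↔ Commute g j ∧ ∀ m ∈ U D j, Sib D j m (g * m * g⁻¹) := Iff.rfl

theorem TG_le_KG : TG hD hprim ht hl ≤ KG hD hprim ht hl :=
  fun _ h => ⟨h.1, fun m hm => tr_K hD hprim ht h.1 (h.2 m) hl hm⟩

theorem KG_conj {g k : G} (hg : Commute g j) (hk : k ∈ KG hD hprim ht hl) :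
    g * k * g⁻¹ ∈ KG hD hprim ht hl := by
  refine ⟨(hg.mul_left hk.1).mul_left hg.inv_left, fun m hm => ?_⟩
  have := (hk.2 _ (U_conj hD hm hg.inv_left)).conj hD hg
  simpa [mul_assoc] using this

theorem TG_sq {g : G} (hg : g ∈ TG hD hprim ht hl) : g * g = 1 ∨ g * g = j := by
  refine cent_fix hD hprim ht hl (hg.1.mul_left hg.1) fun m hm => mul_inv_eq_iff_eq_mul.mp ?_
  rw [show g * g * m * (g * g)⁻¹ = g * (g * m * g⁻¹) * g⁻¹ by group]
  rcases eq_or_ne m (g * m * g⁻¹) with e | e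
  · rw [← e, ← e]
  · obtain ⟨c, d, hq⟩ := two_front hD hprim ht (tr_K hD hprim ht hg.1 (hg.2 m) hl hm) e
    exact (tr_swap hD hprim ht hg.1 (hg.2 m) hq rfl).1

theorem TG_act_comm {g h : G} (hg : g ∈ TG hD hprim ht hl) (hh : h ∈ TG hD hprim ht hl) {m : G} (hm : m ∈ U D j) :
    g * (h * m * h⁻¹) * g⁻¹ = h * (g * m * g⁻¹) * h⁻¹ := by
  have hs : ∀ {k}, k ∈ TG hD hprim ht hl → Sib D j m (k * m * k⁻¹) := fun hk =>
    tr_K hD hprim ht hk.1 (hk.2 m) hl hm
  rcases eq_or_ne m (g * m * g⁻¹) with e | e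
  · rw [← e]; exact tr_fix hD hprim ht hg.1 (hg.2 m) e.symm (hs hh)
  rcases eq_or_ne m (h * m * h⁻¹) with e' | e'
  · rw [← e']; exact (tr_fix hD hprim ht hh.1 (hh.2 m) e'.symm (hs hg)).symm
  obtain ⟨c, d, hq⟩ := two_front hD hprim ht (hs hg) e
  obtain ⟨hg1, hg2, hg3⟩ := tr_swap hD hprim ht hg.1 (hg.2 m) hq rfl
  have hw := (Sib.iff hD hprim ht hq (m := m) (by simp) _).mp (hs hh)
  simp only [List.mem_cons, List.not_mem_nil, or_false] at hw
  rcases hw with w | w | w | w
  · exact absurd w.symm e'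
  · rw [w, hg1]
    exact ((tr_swap hD hprim ht hh.1 (hh.2 m) hq w).1).symm
  · have hq2 : IsQ D j [m, c, g * m * g⁻¹, d] := hq.perm ((List.Perm.swap (g * m * g⁻¹) c [d]).cons m)
    rw [w, hg2]
    exact ((tr_swap hD hprim ht hh.1 (hh.2 m) hq2 w).2.1).symm
  · have hq2 : IsQ D j [m, d, g * m * g⁻¹, c] :=
      hq.perm (((List.perm_append_comm (l₁ := [d]) (l₂ := [g * m * g⁻¹, c]))).cons m)
    rw [w, hg3]
    exact ((tr_swap hD hprim ht hh.1 (hh.2 m) hq2 w).2.1).symm

theorem TG_commutator {g h : G} (hg : g ∈ TG hD hprim ht hl) (hh : h ∈ TG hD hprim ht hl) :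
    g * h * g⁻¹ * h⁻¹ = 1 ∨ g * h * g⁻¹ * h⁻¹ = j := by
  refine cent_fix hD hprim ht hl (((hg.1.mul_left hh.1).mul_left hg.1.inv_left).mul_left hh.1.inv_left) fun m hm => ?_
  have key := TG_act_comm hD hprim ht hl (inv_mem hg) (inv_mem hh) hm
  refine mul_inv_eq_iff_eq_mul.mp ?_
  rw [show g * h * g⁻¹ * h⁻¹ * m * (g * h * g⁻¹ * h⁻¹)⁻¹ = g * (h * (g⁻¹ * (h⁻¹ * m * h⁻¹⁻¹) * g⁻¹⁻¹) * h⁻¹) * g⁻¹
    by group, key]
  group

/-- products of two members of a quadruple act as the four group -/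
theorem pair_mem {p q : G} (h : Sib D j p q) : p * q ∈ TG hD hprim ht hl := by
  rcases eq_or_ne p q with e | hpq
  · subst e; rw [sq hD h.mem_U.1.1]; exact one_mem _
  obtain ⟨hpU, hqU⟩ := h.mem_U
  have hjg : Commute (p * q) j := hpU.2.symm.mul_left hqU.2.symm
  refine ⟨hjg, fun m a b ha hb hne => ?_⟩
  have hmU := ha.mem_U.1
  have haU := ha.mem_U.2
  have hbU := hb.mem_U.2
  by_cases hc : Commute a p
  · have hab : Sib D j a b := ha.symm.trans hD hprim ht hb
    have h1 : Commute a q := all_none hD hprim ht haU h hc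
    have h2 : Commute p b := all_none hD hprim ht hpU hab hc.symm
    have h3 : Commute q b := all_none hD hprim ht hqU hab h1.symm
    left
    have : Commute (p * q) (a * b) := (hc.symm.mul_right h2).mul_left (h1.symm.mul_right h3)
    rw [this.eq, mul_inv_cancel_right]
  obtain ⟨c, d, hq⟩ := two_front hD hprim ht (ha.symm.trans hD hprim ht hb) hne
  set g := p * q with hgdef
  have cpq := sib_comm hD hprim ht h
  have hgg : g * g = 1 := by
    rw [cpq.symm.mul_mul_mul_comm, sq hD hpU.1, sq hD hqU.1, one_mul]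
  have hin : ∀ x ∈ [a, b, c, d], g * x * g⁻¹ ∈ [a, b, c, d] ∧ g * x * g⁻¹ ≠ x := by
    intro x hx
    have hxU := hq.mem_U hx
    have hax : Sib D j a x := ⟨_, hq, by simp, hx⟩
    have hxp : ¬ Commute x p := fun hh => hc (all_none hD hprim ht hpU hax.symm hh.symm).symm
    refine ⟨(Sib.iff hD hprim ht hq (by simp) _).mp (hax.trans hD hprim ht ?_), fun e => hxp ?_⟩
    · have hs1 : Sib D j (x * p * x⁻¹) (x * q * x⁻¹) := h.conj hD hxU.2.symm
      have hxq : ¬ Commute x q := fun hh => hxp (all_none hD hprim ht hxU h.symm hh)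
      have e1 : x * p * x⁻¹ = p * x * p⁻¹ := by
        have hb' := (Spor.commute_or_braid hD.1 hxU.1 hpU.1).resolve_left hxp
        rw [inv_eq_of_mul_eq_one_right (sq hD hxU.1), inv_eq_of_mul_eq_one_right (sq hD hpU.1), hb']
      have e2 : x * q * x⁻¹ = q * x * q⁻¹ := by
        have hb' := (Spor.commute_or_braid hD.1 hxU.1 hqU.1).resolve_left hxq
        rw [inv_eq_of_mul_eq_one_right (sq hD hxU.1), inv_eq_of_mul_eq_one_right (sq hD hqU.1), hb']
      rw [e1, e2] at hs1
      have h2 := hs1.conj hD hpU.2.symm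
      rw [show p * (p * x * p⁻¹) * p⁻¹ = (p * p) * x * (p * p)⁻¹ by group, sq hD hpU.1, one_mul, inv_one, mul_one,
        show p * (q * x * q⁻¹) * p⁻¹ = p * q * x * (p * q)⁻¹ by group] at h2
      exact h2
    · exact ((Spor.commute_pair_iff hD.1 hpU.1 hqU.1 hxU.1 hpq cpq).mp
        (show Commute x g from (mul_inv_eq_iff_eq_mul.mp e).symm)).1
  have hinv : ∀ {x z : G}, g * x * g⁻¹ = z → g * z * g⁻¹ = x := fun {x z} e => by
    rw [← e, show g * (g * x * g⁻¹) * g⁻¹ = (g * g) * x * (g * g)⁻¹ by group, hgg, one_mul, inv_one, mul_one]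
  have hn := hq.1.1
  simp only [List.nodup_cons, List.mem_cons, List.not_mem_nil, or_false, not_or, List.nodup_nil, and_true,
    not_false_eq_true] at hn
  obtain ⟨ha1, ha2⟩ := hin a (by simp)
  obtain ⟨hb1, hb2⟩ := hin b (by simp)
  simp only [List.mem_cons, List.not_mem_nil, or_false] at ha1 hb1
  have e0 : g * (a * b) * g⁻¹ = g * a * g⁻¹ * (g * b * g⁻¹) := by group
  have cce : Commute c d := hq.1.2.2 c (by simp) d (by simp)
  have cab : Commute a b := hq.1.2.2 a (by simp) b (by simp)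
  rcases ha1 with e | e | e | e
  · exact absurd e ha2
  · left; rw [e0, hinv e, e, cab.eq]
  · rcases hb1 with f | f | f | f
    · exact absurd ((hinv f).symm.trans e) hn.2.1.1
    · exact absurd f hb2
    · exact absurd (mul_left_cancel (mul_right_cancel (e.trans f.symm))) hn.1.1
    · right; rw [e0, e, f, pair_other hD hprim ht hq]
  · rcases hb1 with f | f | f | f
    · exact absurd ((hinv f).symm.trans e) hn.2.1.2
    · exact absurd f hb2
    · right; rw [e0, e, f, pair_other hD hprim ht hq, cce.eq]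
    · exact absurd (mul_left_cancel (mul_right_cancel (e.trans f.symm))) hn.1.1

/-- the pairs through a member move a non-commuting one to each member of its quadruple -/
theorem pairs_move {m a b : G} (hm : m ∈ U D j) (hnc : ¬ Commute a m) (hab : Sib D j a b) :
    ∃ x, Sib D j m x ∧ (m * x) * a * (m * x)⁻¹ = b := by
  classical
  obtain ⟨t, htq, hmt⟩ := exists_quad hD hprim ht hl hm
  obtain ⟨q, r, s, hq, -⟩ := htq.front hmt
  have hmm := sq hD hm.1
  obtain ⟨haU, -⟩ := hab.mem_U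
  set f : G → G := fun x => (m * x) * a * (m * x)⁻¹
  have hsib : ∀ x ∈ [m, q, r, s], Sib D j m x := fun x hx => ⟨_, hq, by simp, hx⟩
  have hinj : ∀ x ∈ [m, q, r, s], ∀ z ∈ [m, q, r, s], f x = f z → x = z := by
    intro x hx z hz e
    by_contra hne
    have hxz : Sib D j x z := ⟨_, hq, hx, hz⟩
    have cxz := sib_comm hD hprim ht hxz
    have hxx := sq hD hxz.mem_U.1.1
    have hzz := sq hD hxz.mem_U.2.1
    refine hnc ?_
    have h1 : Commute a (x * z) := by
      have e' : x * a * x⁻¹ = z * a * z⁻¹ := by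
        have := congrArg (fun u => m⁻¹ * u * m) e
        simpa [f, mul_assoc] using this
      rw [inv_eq_of_mul_eq_one_right hxx, inv_eq_of_mul_eq_one_right hzz] at e'
      show a * (x * z) = x * z * a
      calc a * (x * z) = x * (x * a * x) * z := by simp only [← mul_assoc, hxx, one_mul]
        _ = x * (z * a * z) * z := by rw [e']
        _ = x * z * a := by simp only [mul_assoc, hzz, mul_one]
    have h2 := ((Spor.commute_pair_iff hD.1 hxz.mem_U.1.1 hxz.mem_U.2.1 haU.1 hne cxz).mp h1).1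
    exact all_none hD hprim ht haU (hsib x hx).symm h2
  have hnd : ([m, q, r, s].map f).Nodup := List.Nodup.map_on hinj hq.1.1
  obtain ⟨u, huq, hau⟩ := exists_quad hD hprim ht hl haU
  have hsub : [m, q, r, s].map f ⊆ u := by
    intro z hz
    obtain ⟨x, hx, rfl⟩ := List.mem_map.mp hz
    exact (Sib.iff hD hprim ht huq hau _).mp ((TG_le_KG hD hprim ht hl
      (pair_mem hD hprim ht hl (hsib x hx))).2 a haU)
  have hperm := (List.subperm_of_subset hnd hsub).perm_of_length_le (by rw [huq.2.1]; rfl)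
  obtain ⟨x, hx, he⟩ := List.mem_map.mp (hperm.mem_iff.mpr ((Sib.iff hD hprim ht huq hau b).mp hab))
  exact ⟨x, hsib x hx, he⟩

/-- the subgroup is transitive on each quadruple -/
theorem TG_trans {a b : G} (hab : Sib D j a b) : ∃ t ∈ TG hD hprim ht hl, t * a * t⁻¹ = b := by
  obtain ⟨m, hm, hnc⟩ := exists_ncomm hD hprim ht hl hab.mem_U.1
  obtain ⟨x, hx, he⟩ := pairs_move hD hprim ht hl hm hnc hab
  exact ⟨_, pair_mem hD hprim ht hl hx, he⟩

/-- the property spreads to non-commuting members -/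
theorem spread {g m p : G} (hg : g ∈ KG hD hprim ht hl) (hm : m ∈ U D j) (hp : p ∈ U D j) (hnc : ¬ Commute p m)
    (tg : Tr D j g m) : Tr D j g p := by
  obtain ⟨t, htT, he⟩ := TG_trans hD hprim ht hl (hg.2 m hm)
  set h := t⁻¹ * g with hh
  have hhj : Commute h j := htT.1.inv_left.mul_left hg.1
  have hhK : h ∈ KG hD hprim ht hl := mul_mem (inv_mem (TG_le_KG hD hprim ht hl htT)) hg
  have th : Tr D j h m := (Tr.inv htT.1 (hl.sq_one hD hprim ht) (htT.2 m)).mul htT.1.inv_left (hl.sq_one hD hprim ht) tg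
  have hfix : h * m * h⁻¹ = m := by
    rw [hh, show t⁻¹ * g * m * (t⁻¹ * g)⁻¹ = t⁻¹ * (g * m * g⁻¹) * t by group, ← he]; group
  rw [show g = t * h by rw [hh]; group]
  refine (htT.2 p).mul htT.1 (hl.sq_one hD hprim ht) fun a b ha hb hne => ?_
  have hnca : ¬ Commute a m := fun c => hnc (all_none hD hprim ht hm ha.symm c.symm).symm
  obtain ⟨x, hx, hxe⟩ := pairs_move hD hprim ht hl hm hnca (ha.symm.trans hD hprim ht hb)
  obtain ⟨z, hz, hze⟩ := pairs_move hD hprim ht hl hm hnca (hhK.2 a ha.mem_U.2)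
  have hs := pair_mem hD hprim ht hl hx
  have hz' := pair_mem hD hprim ht hl hz
  have hb' : h * b * h⁻¹ = (m * z) * b * (m * z)⁻¹ := by
    have cs : Commute h (m * x) :=
      (show Commute h m from mul_inv_eq_iff_eq_mul.mp hfix).mul_right
        (show Commute h x from mul_inv_eq_iff_eq_mul.mp (tr_fix hD hprim ht hhj th hfix hx))
    rw [← hxe, show h * (m * x * a * (m * x)⁻¹) * h⁻¹ = h * (m * x) * a * (h * (m * x))⁻¹ by group, cs.eq,
      show m * x * h * a * (m * x * h)⁻¹ = m * x * (h * a * h⁻¹) * (m * x)⁻¹ by group, ← hze]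
    exact TG_act_comm hD hprim ht hl hs hz' ha.mem_U.2
  have e : h * (a * b) * h⁻¹ = (m * z) * (a * b) * (m * z)⁻¹ := by
    rw [show h * (a * b) * h⁻¹ = h * a * h⁻¹ * (h * b * h⁻¹) by group, hb', ← hze]
    group
  rw [e]
  exact hz'.2 p a b ha hb hne

end Cfsg.Agent.Spor.M24Rel.QTop
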