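import Cfsg.Agent.Lib.Spor.M24RelQLift
import Cfsg.Agent.Lib.Spor.M24RelQTrans
import Mathlib.GroupTheory.Sylow
import Mathlib.GroupTheory.SpecificGroups.Cyclic

/-!
The elements fixing every quadruple, and the centralizer of the product as the four-group subgroup times the
normalizer of the subgroup of order three.
-/

set_option autoImplicit false
set_option maxRecDepth 100000
set_option linter.unusedSectionVars false

namespace Cfsg.Agent.Spor.M24Rel.Sev

open Module QuadraticMap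
open scoped Pointwise
open Cfsg.Agent.Classical.ORefl (Iso polar_iso)
open Cfsg.Agent.Classical.OOmega (rf)
open Cfsg.Agent.Spor.M24Rel.TriAlg
open Cfsg.Agent.Spor.M22U.InvClasses (Good)
open Cfsg.Agent.Spor.M24Rel.QTop (IsQ Sib U Tr)

/-- two hubs for the frame -/
def hub : Fin 2 → V7 := ![![1, 1, 1, 1, 1, 1, 1], ![0, 0, 2, 1, 1, 0, 0]]

/-- sums of four of the frame -/
def four4 : Fin 2 → Fin 4 → Fin 6 := ![![0, 1, 2, 3], ![2, 3, 4, 5]]

theorem hub_facts : (∀ k, q7 (hub k) = 1 ∧ hub k 5 = hub k 6) ∧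
    (∀ k i, b7 (frame6 (four4 k i)) (hub k) ≠ 0) ∧
    (∀ k t, hub k t = ∑ i, frame6 (four4 k i) t) ∧
    (∀ i : Fin 6, ∃ k l, four4 k l = i) := by decide +kernel

theorem frame6_expand : ∀ z : V7, z 5 = z 6 → ∀ t, z t = ∑ i, 2 * b7 (frame6 i) z * frame6 i t := by decide +kernel

theorem sig_move : ∀ w : V7, w + sig w = 0 → w 5 = w 6 := by decide +kernel

theorem hub_In6 (k : Fin 2) : Q7 (hub k) = 1 ∧ In6 (hub k) :=
  ⟨(q7_eq _).trans (hub_facts.1 k).1, In6_iff.mpr (hub_facts.1 k).2⟩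

theorem expand6 {z : V7} (h : In6 z) : z = ∑ i, (2 * b7 (frame6 i) z) • frame6 i := by
  funext t
  rw [frame6_expand z (In6_iff.mp h) t]
  simp

theorem hub_sum (k : Fin 2) : hub k = ∑ i, frame6 (four4 k i) := by
  funext t
  rw [hub_facts.2.2.1 k t]
  simp

theorem frame6_nonorth {v : V7} (hv : Q7 v = 1) (hv6 : In6 v) : ∃ i, polar Q7 (frame6 i) v ≠ 0 := by
  by_contra hc
  push Not at hc
  refine Mdl.q7_ne hv ?_
  rw [expand6 hv6]
  exact Finset.sum_eq_zero fun i _ => by rw [← b7_eq, hc i, mul_zero, zero_smul]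

variable {G : Type*} [Group G] [Finite G] {D : Set G} {a d : G}

namespace Mdl.Jd

variable {M : Mdl D a d} {j : G} (J : M.Jd j) {l : List G} (hl : IsQ D j l)

/-- the subgroup acting on each quadruple as the four group -/
def T (_J : M.Jd j) {l : List G} (hl : IsQ D j l) : Subgroup G := QTop.TG M.hD M.prim M.type hl

/-- the subgroup fixing each quadruple -/
def K (_J : M.Jd j) {l : List G} (hl : IsQ D j l) : Subgroup G := QTop.KG M.hD M.prim M.type hl

/-- the centralizer of the product in the normalizer -/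
noncomputable def N1 (_J : M.Jd j) : Subgroup G :=
  Subgroup.centralizer ({j} : Set G) ⊓ Subgroup.normalizer (M.X0 : Set G)

theorem y_mem : M.th x2 ∈ M.X0 := Subgroup.mem_zpowers _

include J hl

theorem T_le_K : J.T hl ≤ J.K hl := QTop.TG_le_KG M.hD M.prim M.type hl

theorem comm_of_K {g : G} (hg : g ∈ J.K hl) : Commute g j := hg.1

theorem j_T : j ∈ J.T hl := by
  refine ⟨Commute.refl j, fun m a b ha hb _ => Or.inl ?_⟩
  rw [(ha.mem_U.2.2.mul_right hb.mem_U.2.2).eq, mul_inv_cancel_right]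

theorem y_K : M.th x2 ∈ J.K hl := by
  refine ⟨J.comm_y, fun m hm => ?_⟩
  obtain ⟨v, e, he, hs⟩ := J.cover hm
  have h1 := hs.conj M.hD J.comm_y
  rw [show M.th x2 * e * (M.th x2)⁻¹ = e by rw [(J.fixed he).eq, mul_inv_cancel_right]] at h1
  exact hs.symm.trans M.hD M.prim M.type h1

theorem fix_lift {g : G} (hg : g ∈ J.K hl) (hgy : g * M.th x2 * g⁻¹ ∈ M.X0) {v : V7} {e : G} (he : M.Lf j v e) :
    g * e * g⁻¹ = e := by
  have hs := hg.2 e (J.mem_U he)
  have hc : Commute (M.th x2) (g * e * g⁻¹) := by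
    obtain ⟨n, hn⟩ := Subgroup.mem_zpowers_iff.mp hgy
    have h1 : Commute (g * M.th x2 * g⁻¹) (g * e * g⁻¹) := Spor.commute_conj_iff.mpr (J.fixed he)
    rw [← hn] at h1
    have hne : g * M.th x2 * g⁻¹ ≠ 1 := by
      intro h
      have hy1 : M.th x2 = 1 := by
        have := congrArg (fun z => g⁻¹ * z * g) h
        simpa [mul_assoc] using this
      exact x2_ne (M.th_eq_one hy1)
    rw [← hn, ← Int.mul_ediv_add_emod n 3, zpow_add, zpow_mul,
      show M.th x2 ^ (3 : ℤ) = 1 by exact_mod_cast M.th_cube x2, one_zpow, one_mul] at hne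
    rw [← Int.mul_ediv_add_emod n 3, zpow_add, zpow_mul,
      show M.th x2 ^ (3 : ℤ) = 1 by exact_mod_cast M.th_cube x2, one_zpow, one_mul] at h1
    rcases (by omega : n % 3 = 0 ∨ n % 3 = 1 ∨ n % 3 = 2) with h | h | h <;> rw [h] at h1 hne
    · simp at hne
    · rwa [zpow_one] at h1
    · have h2 := h1.mul_left h1
      rw [← zpow_add, show (2 : ℤ) + 2 = 3 + 1 from rfl, zpow_add,
        show M.th x2 ^ (3 : ℤ) = 1 by exact_mod_cast M.th_cube x2, one_mul, zpow_one] at h2
      exact h2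
  obtain ⟨w, hw⟩ := J.six_of_sib he hs hc
  exact (J.sib_eq he hw hs).symm

/-- the element of order three moves the other members of a quadruple -/
theorem y_free {v : V7} {e x : G} (he : M.Lf j v e) (hs : Sib D j e x) (hne : x ≠ e) :
    M.th x2 * x * (M.th x2)⁻¹ ≠ x := fun h => by
  obtain ⟨w, hw⟩ := J.six_of_sib he hs (mul_inv_eq_iff_eq_mul.mp h)
  exact hne (J.sib_eq he hw hs).symm

theorem y_notT : M.th x2 ∉ J.T hl := fun h => by
  obtain ⟨e, he⟩ := J.lift (frame6_In6 0).1 (frame6_In6 0).2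
  obtain ⟨t, htq, het⟩ := QTop.exists_quad M.hD M.prim M.type hl (J.mem_U he)
  obtain ⟨p, q, r, hg, -⟩ := htq.front het
  have hs : Sib D j e p := ⟨_, hg, by simp, by simp⟩
  have hn := hg.1.1
  simp only [List.nodup_cons, List.mem_cons, List.not_mem_nil, or_false, not_or] at hn
  exact J.y_free hl he hs (Ne.symm hn.1.1) (QTop.tr_fix M.hD M.prim M.type h.1 (h.2 e)
    (by rw [(J.fixed he).eq, mul_inv_cancel_right]) hs)

theorem T_pow4 {g : G} (hg : g ∈ J.T hl) : g ^ 4 = 1 := by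
  rw [show (4 : ℕ) = 2 + 2 from rfl, pow_add, pow_two]
  rcases QTop.TG_sq M.hD M.prim M.type hl hg with h | h <;> rw [h]
  · rw [one_mul]
  · exact J.sq

theorem T_pgroup : IsPGroup 2 (J.T hl) := fun g => ⟨2, Subtype.ext (by
  rw [SubgroupClass.coe_pow]; exact J.T_pow4 hl g.2)⟩

theorem link_step {g : G} (hg : g ∈ J.K hl) {v w : V7} {e f : G} (he : M.Lf j v e) (hf : M.Lf j w f)
    (hb : polar Q7 v w ≠ 0) (tg : Tr D j g e) : Tr D j g f := by
  rcases eq_or_ne f e with h | hne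
  · rw [h]; exact tg
  refine QTop.spread M.hD M.prim M.type hl hg (J.mem_U he) (J.mem_U hf) (fun hc => ?_) tg
  rcases (J.comm_iff hf he).mp hc with h | h
  · exact hne h
  · exact hb (by rw [polar_comm]; exact h)

/-- the property at one frame member gives it everywhere -/
theorem mem_T {g : G} (hg : g ∈ J.K hl) {v : V7} {e : G} (he : M.Lf j v e) (tg : Tr D j g e) : g ∈ J.T hl := by
  have hlf : ∀ i, ∃ f, M.Lf j (frame6 i) f := fun i => J.lift (frame6_In6 i).1 (frame6_In6 i).2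
  choose f hf using hlf
  have hlh : ∀ k, ∃ h, M.Lf j (hub k) h := fun k => J.lift (hub_In6 k).1 (hub_In6 k).2
  choose h hh using hlh
  have hb : ∀ k i, polar Q7 (frame6 (four4 k i)) (hub k) ≠ 0 := fun k i => by
    rw [b7_eq]; exact hub_facts.2.1 k i
  have down : ∀ k i, Tr D j g (h k) → Tr D j g (f (four4 k i)) := fun k i t =>
    J.link_step hl hg (hh k) (hf _) (by rw [polar_comm]; exact hb k i) t
  have up : ∀ k i, Tr D j g (f (four4 k i)) → Tr D j g (h k) := fun k i t =>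
    J.link_step hl hg (hf _) (hh k) (hb k i) t
  obtain ⟨i, hi⟩ := frame6_nonorth he.1.2.1 he.2.1
  have ti := J.link_step hl hg he (hf i) (by rw [polar_comm]; exact hi) tg
  have hall : ∀ i, Tr D j g (f i) := by
    obtain ⟨k, l', e'⟩ := hub_facts.2.2.2 i
    rw [← e'] at ti
    have h2 : Tr D j g (f 2) := by
      have tk := up k l' ti
      fin_cases k
      · exact down 0 2 tk
      · exact down 1 0 tk
    intro i'
    obtain ⟨k', l'', e''⟩ := hub_facts.2.2.2 i'
    rw [← e'']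
    have tk : Tr D j g (h k') := by
      fin_cases k'
      · exact up 0 2 h2
      · exact up 1 0 h2
    exact down k' l'' tk
  refine ⟨hg.1, fun m a b ha hb' hne => ?_⟩
  obtain ⟨w, u, hu, hs⟩ := J.cover ha.mem_U.1
  obtain ⟨i', hi'⟩ := frame6_nonorth hu.1.2.1 hu.2.1
  exact QTop.tr_sib M.hD M.prim M.type hs (J.link_step hl hg (hf i') hu hi' (hall i')) a b ha hb' hne

/-- elements of order three fixing each quadruple lie in the join with the subgroup of order three -/
theorem cube_mem {g : G} (hg : g ∈ J.K hl) (h3 : g ^ 3 = 1) : g ∈ J.T hl ⊔ M.X0 := by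
  classical
  obtain ⟨e, he⟩ := J.lift (frame6_In6 0).1 (frame6_In6 0).2
  obtain ⟨t, htq, het⟩ := QTop.exists_quad M.hD M.prim M.type hl (J.mem_U he)
  have hmem : ∀ x, Sib D j e x ↔ x ∈ t := fun x => Sib.iff M.hD M.prim M.type htq het x
  let S := {x : G // x ∈ t}
  letI : Fintype S := Fintype.subtype t.toFinset (fun x => List.mem_toFinset)
  have hS : Fintype.card S = 4 := by
    rw [Fintype.subtype_card, List.toFinset_card_of_nodup htq.1.1, htq.2.1]
  have hstay : ∀ {g : G}, g ∈ J.K hl → ∀ {x}, x ∈ t → g * x * g⁻¹ ∈ t := fun hg x hx => by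
    rw [← hmem] at hx ⊢
    exact hx.trans M.hD M.prim M.type (hg.2 _ hx.mem_U.2)
  let act : ↥(J.K hl) → S → S := fun g x => ⟨(g : G) * x.1 * (g : G)⁻¹, hstay g.2 x.2⟩
  letI : MulAction ↥(J.K hl) S :=
    { smul := act
      one_smul := fun x => Subtype.ext (show (1 : G) * x.1 * 1⁻¹ = x.1 by group)
      mul_smul := fun g h x => Subtype.ext (show (g : G) * h * x.1 * ((g : G) * h)⁻¹ =
        (g : G) * (h * x.1 * (h : G)⁻¹) * (g : G)⁻¹ by group) }
  let π := MulAction.toPermHom ↥(J.K hl) S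
  have hker : ∀ k : ↥(J.K hl), π k = 1 → (k : G) ∈ J.T hl := fun k hk => by
    refine J.mem_T hl k.2 he fun a b ha hb _ => Or.inl ?_
    have hfix : ∀ {x}, Sib D j e x → (k : G) * x * (k : G)⁻¹ = x := fun {x} hx =>
      congrArg Subtype.val (Equiv.congr_fun hk (⟨x, (hmem x).mp hx⟩ : S))
    rw [show (k : G) * (a * b) * (k : G)⁻¹ = (k : G) * a * (k : G)⁻¹ * ((k : G) * b * (k : G)⁻¹) by group,
      hfix ha, hfix hb]
  set H0 : Subgroup G := J.T hl ⊔ M.X0 with hH0
  have hX : M.X0 ≤ J.K hl := Subgroup.zpowers_le.mpr (J.y_K hl)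
  set H : Subgroup (Equiv.Perm S) := (H0.subgroupOf (J.K hl)).map π with hH
  have h4 : 4 ∣ Nat.card H := by
    haveI : MulAction.IsPretransitive H S := by
      constructor
      intro x z
      obtain ⟨s, hs, hse⟩ := QTop.TG_trans M.hD M.prim M.type hl (show Sib D j x.1 z.1 from ⟨t, htq, x.2, z.2⟩)
      exact ⟨⟨π ⟨s, J.T_le_K hl hs⟩, _, show (⟨s, J.T_le_K hl hs⟩ : ↥(J.K hl)) ∈ H0.subgroupOf _ from
        Subgroup.mem_sup_left hs, rfl⟩, Subtype.ext hse⟩
    have h := MulAction.index_stabilizer_of_transitive H (⟨e, het⟩ : S)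
    rw [Nat.card_eq_fintype_card, hS] at h
    exact h ▸ Subgroup.index_dvd_card _
  have h3d : 3 ∣ Nat.card H := by
    haveI : Fact (Nat.Prime 3) := ⟨Nat.prime_three⟩
    set Y : ↥H := ⟨π ⟨M.th x2, J.y_K hl⟩, _, show (⟨M.th x2, J.y_K hl⟩ : ↥(J.K hl)) ∈ H0.subgroupOf _ from
      Subgroup.mem_sup_right (y_mem (M := M)), rfl⟩
    have ho : orderOf Y = 3 := by
      refine orderOf_eq_prime (Subtype.ext ?_) fun h => ?_
      · show π ⟨M.th x2, J.y_K hl⟩ ^ 3 = 1
        rw [← map_pow, show (⟨M.th x2, J.y_K hl⟩ : ↥(J.K hl)) ^ 3 = 1 from Subtype.ext (M.th_cube x2), map_one]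
      · obtain ⟨p, q, r, hg', hi⟩ := htq.front het
        have hn := hg'.1.1
        simp only [List.nodup_cons, List.mem_cons, List.not_mem_nil, or_false, not_or] at hn
        exact J.y_free hl he ⟨_, hg', by simp, by simp⟩ (Ne.symm hn.1.1)
          (congrArg Subtype.val (Equiv.congr_fun (congrArg Subtype.val h) (⟨p, (hi p).mp (by simp)⟩ : S)))
    exact ho ▸ orderOf_dvd_natCard Y
  have h24 : Nat.card (Equiv.Perm S) = 24 := by rw [Nat.card_perm, Nat.card_eq_fintype_card, hS]; rfl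
  have h12 : 12 ∣ Nat.card H := Nat.Coprime.mul_dvd_of_dvd_of_dvd (by decide : Nat.Coprime 4 3) h4 h3d
  have hidx : H.index = 1 ∨ H.index = 2 := by
    have := Subgroup.card_mul_index H
    rw [h24] at this
    obtain ⟨c, hc⟩ := h12
    rw [hc] at this
    have : c * H.index = 2 := by linarith
    have h2 : H.index ∣ 2 := Dvd.intro_left c this
    exact (Nat.dvd_prime Nat.prime_two).mp h2
  have hsq : ∀ σ : Equiv.Perm S, σ * σ ∈ H := fun σ => by
    rcases hidx with h | h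
    · rw [Subgroup.index_eq_one.mp h]; trivial
    · exact Subgroup.mul_self_mem_of_index_two h σ
  obtain ⟨k, hk, hke⟩ : π ⟨g, hg⟩ ∈ H := by
    have e1 : (⟨g, hg⟩ : ↥(J.K hl)) = ⟨g, hg⟩ ^ 2 * ⟨g, hg⟩ ^ 2 := Subtype.ext (by
      show g = g ^ 2 * g ^ 2
      rw [← pow_add, show 2 + 2 = 3 + 1 from rfl, pow_succ, h3, one_mul])
    rw [e1, map_mul]
    exact hsq _
  have h1 : (k⁻¹ * ⟨g, hg⟩ : ↥(J.K hl)).1 ∈ J.T hl :=
    hker _ (by rw [map_mul, map_inv, hke, inv_mul_cancel])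
  have := mul_mem (show (k : G) ∈ H0 from hk) (Subgroup.mem_sup_left (T := M.X0) h1)
  simpa using this

/-- a conjugate of the subgroup of order three inside the join comes from an element of the join -/
theorem join_conj {g : G} (hg : Commute g j) : ∃ n ∈ J.T hl ⊔ M.X0, n⁻¹ * g ∈ J.N1 := by
  classical
  haveI : Fact (Nat.Prime 3) := ⟨Nat.prime_three⟩
  set H0 : Subgroup G := J.T hl ⊔ M.X0 with hH0
  have hT : J.T hl ≤ H0 := le_sup_left
  have hX : M.X0 ≤ H0 := le_sup_right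
  have hH0c : ∀ x ∈ H0, Commute x j := by
    have hle : H0 ≤ Subgroup.centralizer ({j} : Set G) := sup_le
      (fun x hx => Subgroup.mem_centralizer_singleton_iff.mpr hx.1.eq)
      (Subgroup.zpowers_le.mpr (Subgroup.mem_centralizer_singleton_iff.mpr J.comm_y.eq))
    exact fun x hx => Subgroup.mem_centralizer_singleton_iff.mp (hle hx)
  set T' := (J.T hl).subgroupOf H0
  haveI : T'.Normal := ⟨fun t ht' x => QTop.TG_conj M.hD M.prim M.type hl (hH0c _ x.2) ht'⟩
  have hquot : Nat.card (H0 ⧸ T') = 3 := by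
    set yb : H0 ⧸ T' := QuotientGroup.mk ⟨M.th x2, hX (y_mem (M := M))⟩
    have htop : Subgroup.zpowers yb = ⊤ := by
      refine top_le_iff.mp fun x _ => ?_
      obtain ⟨⟨x, hx⟩, rfl⟩ := QuotientGroup.mk_surjective x
      have hle : H0 ≤ ((Subgroup.zpowers yb).comap (QuotientGroup.mk' T')).map H0.subtype := by
        refine sup_le (fun s hs => ⟨⟨s, hT hs⟩, ?_, rfl⟩) (Subgroup.zpowers_le.mpr ⟨⟨_, hX (y_mem (M := M))⟩,
          Subgroup.mem_zpowers yb, rfl⟩)
        show (QuotientGroup.mk ⟨s, hT hs⟩ : H0 ⧸ T') ∈ Subgroup.zpowers yb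
        rw [(QuotientGroup.eq_one_iff _).mpr (show (⟨s, hT hs⟩ : H0) ∈ T' from hs)]
        exact one_mem _
      obtain ⟨⟨z, hz'⟩, hz, rfl⟩ := hle hx
      exact hz
    rw [← Subgroup.card_top (G := H0 ⧸ T'), ← htop, Nat.card_zpowers]
    refine orderOf_eq_prime ?_ fun h =>
      J.y_notT hl ((QuotientGroup.eq_one_iff (⟨M.th x2, hX (y_mem (M := M))⟩ : H0)).mp h)
    rw [← QuotientGroup.mk_pow, show (⟨M.th x2, _⟩ : H0) ^ 3 = 1 from Subtype.ext (M.th_cube x2),
      QuotientGroup.mk_one]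
  obtain ⟨n, hn⟩ := IsPGroup.iff_card.mp (J.T_pgroup hl)
  have hcard : Nat.card H0 = 2 ^ n * 3 := by
    rw [Subgroup.card_eq_card_quotient_mul_card_subgroup T', hquot,
      Nat.card_congr (Subgroup.subgroupOfEquivOfLe hT).toEquiv, hn, mul_comm]
  have hfac : (Nat.card H0).factorization 3 = 1 := by
    rw [hcard, Nat.factorization_mul (by positivity) (by norm_num), Finsupp.add_apply, Nat.factorization_pow,
      Finsupp.smul_apply, Nat.factorization_eq_zero_of_not_dvd (show ¬ 3 ∣ 2 by norm_num), smul_zero, zero_add,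
      Nat.prime_three.factorization_self]
  have hXg : ∀ x ∈ M.X0, g * x * g⁻¹ ∈ H0 := by
    intro x hx
    refine J.cube_mem hl (QTop.KG_conj M.hD M.prim M.type hl hg ?_) ?_
    · exact Subgroup.zpowers_le.mpr (J.y_K hl) hx
    · obtain ⟨i, rfl⟩ := Subgroup.mem_zpowers_iff.mp hx
      rw [conj_pow, ← zpow_natCast, ← zpow_mul, mul_comm, zpow_mul,
        show M.th x2 ^ ((3 : ℕ) : ℤ) = 1 by rw [zpow_natCast]; exact M.th_cube x2, one_zpow, mul_one, mul_inv_cancel]
  have hle : M.X0.map (MulAut.conj g).toMonoidHom ≤ H0 := by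
    rintro _ ⟨x, hx, rfl⟩; exact hXg x hx
  let P : Sylow 3 H0 := Sylow.ofCard (M.X0.subgroupOf H0)
    (by rw [Nat.card_congr (Subgroup.subgroupOfEquivOfLe hX).toEquiv, M.X0_card, hfac, pow_one])
  let Q : Sylow 3 H0 := Sylow.ofCard ((M.X0.map (MulAut.conj g).toMonoidHom).subgroupOf H0)
    (by rw [Nat.card_congr (Subgroup.subgroupOfEquivOfLe hle).toEquiv, M23Rel.Threes.card_map_conj, M.X0_card, hfac,
      pow_one])
  obtain ⟨h, hh⟩ := MulAction.exists_smul_eq H0 P Q
  refine ⟨h, h.2, ⟨Subgroup.mem_centralizer_singleton_iff.mpr ((hH0c _ h.2).inv_left.mul_left hg).eq, ?_⟩⟩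
  show _ ∈ Subgroup.normalizer _
  rw [Subgroup.mem_normalizer_iff_map_conj_eq]
  refine Subgroup.eq_of_le_of_card_ge ?_ (le_of_eq (M23Rel.Threes.card_map_conj _ _).symm)
  rintro _ ⟨x, hx, rfl⟩
  have h1 : (⟨g * x * g⁻¹, hXg x hx⟩ : H0) ∈ (Q : Subgroup H0) := ⟨x, hx, rfl⟩
  rw [← hh] at h1
  obtain ⟨p, hp, e⟩ := h1
  have e' : (h : G) * (p : G) * (h : G)⁻¹ = g * x * g⁻¹ := congrArg Subtype.val e
  show (h : G)⁻¹ * g * x * ((h : G)⁻¹ * g)⁻¹ ∈ M.X0
  rw [show (h : G)⁻¹ * g * x * ((h : G)⁻¹ * g)⁻¹ = (h : G)⁻¹ * (g * x * g⁻¹) * h by group, ← e']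
  simpa [mul_assoc] using (show (p : G) ∈ M.X0 from hp)

/-- the centralizer of the product -/
theorem cent_split {g : G} (hg : Commute g j) : ∃ t ∈ J.T hl, ∃ n ∈ J.N1, g = t * n := by
  classical
  obtain ⟨n, hn, hng⟩ := J.join_conj hl hg
  have hle : M.X0 ≤ Subgroup.normalizer (J.T hl : Set G) := by
    intro x hx
    rw [Subgroup.mem_normalizer_iff]
    have hc : Commute x j := (J.K hl).zpow_mem (J.y_K hl) (Subgroup.mem_zpowers_iff.mp hx).choose |>
      fun h => (Subgroup.mem_zpowers_iff.mp hx).choose_spec ▸ h.1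
    intro t
    refine ⟨fun h => QTop.TG_conj M.hD M.prim M.type hl hc h, fun h => ?_⟩
    have := QTop.TG_conj M.hD M.prim M.type hl hc.inv_left h
    simpa [Mdl.Jd.T, mul_assoc] using this
  have hset : n ∈ ((J.T hl : Set G) * (M.X0 : Set G)) := by
    rw [← Subgroup.coe_mul_of_right_le_normalizer_left _ _ hle]; exact hn
  obtain ⟨t, htT, x, hx, rfl⟩ := hset
  refine ⟨t, htT, x * ((t * x)⁻¹ * g), mul_mem ⟨?_, ?_⟩ hng, by group⟩
  · exact Subgroup.zpowers_le.mpr (Subgroup.mem_centralizer_singleton_iff.mpr J.comm_y.eq) hx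
  · exact Subgroup.le_normalizer hx

/-- the kernel of the action on the complement -/
theorem A_cent {w : V7} (h : Commute (M.th w) j) : M.th w ∈ M.X0 := by
  have h1 : sig w = w := M.th_inj (by rw [← J.act]; exact mul_inv_eq_iff_eq_mul.mpr h.symm.eq)
  rw [sig_fixed w h1]
  rcases f3_cases (b7 x2 w) with e | e | e <;> rw [e]
  · rw [zero_smul, M.th_zero]; exact one_mem _
  · rw [one_smul]; exact y_mem
  · rw [two_smul, M.th_add]; exact mul_mem y_mem y_mem

/-- elements of the normalizer fixing each quadruple -/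
theorem KN1 {g : G} (hg : g ∈ J.K hl) (hn : g ∈ J.N1) : g ∈ M.X0 ⊔ Subgroup.zpowers j := by
  classical
  have hnN : g ∈ M.Nm := M.norm_le hn.2
  have hgy : g * M.th x2 * g⁻¹ ∈ M.X0 := (Subgroup.mem_normalizer_iff.mp hn.2 _).mp y_mem
  set k := M.rhoI ⟨g, hnN⟩ with hk
  have hline : ∀ {v : V7}, Q7 v = 1 → In6 v → k.1 v = v ∨ k.1 v = -v := by
    intro v hv hv6
    obtain ⟨e, he⟩ := J.lift hv hv6
    have h1 := M.ref_conj hnN he.1
    rw [J.fix_lift hl hg hgy he] at h1
    exact rf_inj7 he.1.2.1 h1.2.1 fun w => M.th_inj (by rw [← he.1.2.2, ← h1.2.2])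
  have hfr : ∀ i, ∃ c : F3, c ≠ 0 ∧ k.1 (frame6 i) = c • frame6 i := fun i => by
    rcases hline (frame6_In6 i).1 (frame6_In6 i).2 with e | e
    · exact ⟨1, one_ne_zero, by rw [e, one_smul]⟩
    · exact ⟨-1, by decide, by rw [e, neg_one_smul]⟩
  choose c hc0 hc using hfr
  have hhub : ∀ k', ∃ s : F3, ∀ i, c (four4 k' i) = s := fun k' => by
    have hinj : Function.Injective (four4 k') := by revert k'; decide
    have hco : ∀ (s : F3), k.1 (hub k') = s • hub k' → ∀ i, c (four4 k' i) = s := by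
      intro s hs i
      rw [hub_sum, map_sum, Finset.smul_sum] at hs
      have h2 := congrArg (fun z => polar Q7 (frame6 (four4 k' i)) z) hs
      simp only [← polarBilin_apply_apply, map_sum, hc, map_smul] at h2
      have hz : ∀ i' : Fin 4, i' ≠ i → polarBilin Q7 (frame6 (four4 k' i)) (frame6 (four4 k' i')) = 0 := fun i' h' => by
        rw [polarBilin_apply_apply, b7_eq]; exact frame6_facts.2 _ _ fun e => h' (hinj e).symm
      rw [Finset.sum_eq_single i (fun i' _ h' => by rw [hz i' h', smul_zero]) (by simp),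
        Finset.sum_eq_single i (fun i' _ h' => by rw [hz i' h', smul_zero]) (by simp), polarBilin_apply_apply,
        Classical.ORefl.polar_self_two, (frame6_In6 _).1, mul_one, smul_eq_mul, smul_eq_mul] at h2
      exact mul_right_cancel₀ two_ne_zero3 h2
    rcases hline (hub_In6 k').1 (hub_In6 k').2 with e | e
    · exact ⟨1, hco 1 (by rw [e, one_smul])⟩
    · exact ⟨-1, hco (-1) (by rw [e, neg_one_smul])⟩
  obtain ⟨s, hs⟩ : ∃ s, ∀ i, c i = s := by
    obtain ⟨s0, h0⟩ := hhub 0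
    obtain ⟨s1, h1⟩ := hhub 1
    refine ⟨c 2, fun i => ?_⟩
    obtain ⟨k', l', rfl⟩ := hub_facts.2.2.2 i
    fin_cases k'
    · exact (h0 l').trans (h0 2).symm
    · exact (h1 l').trans (h1 0).symm
  have hall : ∀ z, In6 z → k.1 z = s • z := fun z hz => by
    rw [expand6 hz, map_sum, Finset.smul_sum]
    exact Finset.sum_congr rfl fun i _ => by rw [map_smul, hc, hs, smul_comm]
  have hy : k.1 x2 = x2 ∨ k.1 x2 = -x2 := by
    obtain ⟨i, hi⟩ := Subgroup.mem_zpowers_iff.mp hgy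
    have h1 : M.th (k.1 x2) = g * M.th x2 * g⁻¹ := M.rhoI_spec _ _
    rw [← hi, ← Int.mul_ediv_add_emod i 3, zpow_add, zpow_mul,
      show M.th x2 ^ (3 : ℤ) = 1 by exact_mod_cast M.th_cube x2, one_zpow, one_mul] at h1
    rcases (by omega : i % 3 = 0 ∨ i % 3 = 1 ∨ i % 3 = 2) with h | h | h <;> rw [h] at h1
    · exfalso
      rw [zpow_zero] at h1
      exact x2_ne (k.1.injective ((M.th_eq_one h1).trans (map_zero _).symm))
    · rw [zpow_one] at h1; exact Or.inl (M.th_inj h1)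
    · refine Or.inr (M.th_inj (h1.trans ?_))
      rw [M.th_neg]
      refine (inv_eq_of_mul_eq_one_right ?_).symm
      show M.th x2 * M.th x2 ^ ((2 : ℕ) : ℤ) = 1
      rw [zpow_natCast, ← pow_succ']
      exact M.th_cube x2
  -- an element acting trivially on the complement
  have triv : ∀ {n : G} (hn : n ∈ M.Nm), Commute n j → (∀ z, In6 z → (M.rhoI ⟨n, hn⟩).1 z = z) →
      ((M.rhoI ⟨n, hn⟩).1 x2 = x2 ∨ (M.rhoI ⟨n, hn⟩).1 x2 = -x2) → n ∈ M.X0 := by
    intro n hn hnj h6 h2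
    rcases h2 with h2 | h2
    · obtain ⟨w, hw⟩ := M.mem_A.mp (M.ker_rho (n := ⟨n, hn⟩) (Subtype.ext (LinearEquiv.ext fun z => by
        show (M.rhoI ⟨n, hn⟩).1 z = z
        conv_lhs => rw [split6 z, map_add, map_smul, h6 _ (eta_In6 _), h2]
        exact (split6 z).symm)))
      change M.th w = n at hw
      rw [← hw] at hnj ⊢
      exact J.A_cent hl hnj
    · exfalso
      refine two_not_cg Q7_pnd dim7_le x2_facts.1 ?_
      suffices h : rf Q7 x2 = M.rhoI ⟨n, hn⟩ by rw [h, ← M.rho_range]; exact ⟨_, rfl⟩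
      refine Subtype.ext (LinearEquiv.ext fun w => ?_)
      conv_lhs => rw [split6 w, map_add, map_smul]
      conv_rhs => rw [split6 w, map_add, map_smul, h6 _ (eta_In6 _), h2]
      show Classical.ORefl.refl Q7 x2 _ + _ • Classical.ORefl.refl Q7 x2 x2 = _
      rw [Classical.ORefl.refl_fix (eta_In6 _), Classical.ORefl.refl_self (by rw [x2_facts.1]; decide)]
  have hgj : Commute g j := hg.1
  rcases f3_cases s with e | e | e
  · exact absurd ((hs 0).trans e) (hc0 0)
  · refine Subgroup.mem_sup_left (triv hnN hgj (fun z hz => ?_) hy)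
    rw [← hk, hall z hz, e, one_smul]
  · have hjN := M.act_Nm J.act
    have hjk : ∀ z, (M.rhoI ⟨j, hjN⟩).1 z = sig z := fun z => M.th_inj (by rw [M.rhoI_spec]; exact J.act z)
    have hmem : g * j ∈ M.X0 := by
      refine triv (mul_mem hnN hjN) (hgj.mul_left (Commute.refl j)) (fun z hz => ?_) ?_
      · show (M.rhoI (⟨g, hnN⟩ * ⟨j, hjN⟩)).1 z = z
        rw [map_mul]
        show k.1 ((M.rhoI ⟨j, hjN⟩).1 z) = z
        rw [hjk, sig_In6 hz, map_neg, hall z hz, e, ← neg_smul, show -(2 : F3) = 1 from by decide, one_smul]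
      · show (M.rhoI (⟨g, hnN⟩ * ⟨j, hjN⟩)).1 x2 = x2 ∨ (M.rhoI (⟨g, hnN⟩ * ⟨j, hjN⟩)).1 x2 = -x2
        rw [map_mul]
        show k.1 ((M.rhoI ⟨j, hjN⟩).1 x2) = x2 ∨ k.1 ((M.rhoI ⟨j, hjN⟩).1 x2) = -x2
        rw [hjk, sig_facts.2]
        exact hy
    rw [show g = g * j * j by rw [mul_assoc, J.sq, mul_one]]
    exact mul_mem (Subgroup.mem_sup_left hmem) (Subgroup.mem_sup_right (Subgroup.mem_zpowers j))

/-- the subgroup fixing each quadruple -/
theorem K_eq : J.K hl = J.T hl ⊔ M.X0 := by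
  refine le_antisymm (fun g hg => ?_) (sup_le (J.T_le_K hl) (Subgroup.zpowers_le.mpr (J.y_K hl)))
  obtain ⟨t, htT, n, hn, rfl⟩ := J.cent_split hl hg.1
  have hnK : n ∈ J.K hl := by
    have := mul_mem (inv_mem (J.T_le_K hl htT)) hg
    rwa [inv_mul_cancel_left] at this
  refine mul_mem (Subgroup.mem_sup_left htT) ?_
  exact sup_le le_sup_right ((Subgroup.zpowers_le.mpr (Subgroup.mem_sup_left (J.j_T hl)))) (J.KN1 hl hnK hn)

/-- the subgroup meets the normalizer in the powers of the product -/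
theorem T_N1 : J.T hl ⊓ J.N1 = Subgroup.zpowers j := by
  refine le_antisymm ?_ ?_
  · rintro t ⟨htT, htN⟩
    change t ∈ J.T hl at htT
    have h1 := J.KN1 hl (J.T_le_K hl htT) htN
    have hle : M.X0 ≤ Subgroup.normalizer (Subgroup.zpowers j : Set G) := by
      intro x hx
      refine Subgroup.centralizer_le_normalizer _ (Subgroup.mem_centralizer_iff.mpr fun z hz => ?_)
      obtain ⟨i, rfl⟩ := Subgroup.mem_zpowers_iff.mp hx
      obtain ⟨i', rfl⟩ := Subgroup.mem_zpowers_iff.mp hz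
      exact ((J.comm_y.symm.zpow_left i').zpow_right i).eq
    have hset : t ∈ ((M.X0 : Set G) * (Subgroup.zpowers j : Set G)) := by
      rw [← Subgroup.coe_mul_of_left_le_normalizer_right _ _ hle]; exact h1
    obtain ⟨x, hx, z, hz, rfl⟩ := hset
    have hzT : z ∈ J.T hl := Subgroup.zpowers_le.mpr (J.j_T hl) hz
    have hxT : x ∈ J.T hl := by
      have := mul_mem htT (inv_mem hzT)
      rwa [mul_inv_cancel_right] at this
    have hx1 : x = 1 := by
      have e3 : x ^ 3 = 1 := by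
        obtain ⟨i, rfl⟩ := Subgroup.mem_zpowers_iff.mp hx
        rw [← zpow_natCast, ← zpow_mul, mul_comm, zpow_mul, zpow_natCast, M.th_cube, one_zpow]
      have e4 := J.T_pow4 hl hxT
      rw [pow_succ, e3, one_mul] at e4
      exact e4
    rw [hx1]
    simpa using hz
  · refine Subgroup.zpowers_le.mpr ⟨J.j_T hl, Subgroup.mem_centralizer_singleton_iff.mpr rfl, ?_⟩
    refine Subgroup.centralizer_le_normalizer _ (M.cent_X0.mpr J.comm_y.symm)

end Mdl.Jd

end Cfsg.Agent.Spor.M24Rel.Sev
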