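import Cfsg.Agent.Lib.Spor.M24RelQQuads
import Cfsg.Agent.Lib.Spor.M24RelSevSix
import Cfsg.Agent.Lib.Spor.M24RelQFrame

/-!
A product of four commuting members of a group of type M(24) acting as minus one on a six-dimensional complement
in the elementary abelian subgroup of order 2187, and the members of its quadruples fixing the subgroup of
order three.
-/

set_option autoImplicit false
set_option maxRecDepth 100000
set_option linter.unusedSectionVars false

namespace Cfsg.Agent.Spor.M24Rel.Sev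

open Module QuadraticMap
open Cfsg.Agent.Classical.ORefl (Iso polar_iso)
open Cfsg.Agent.Classical.OOmega (rf)
open Cfsg.Agent.Spor.M24Rel.TriAlg
open Cfsg.Agent.Spor.M22U (nset)
open Cfsg.Agent.Spor.M22U.InvClasses (Good)
open Cfsg.Agent.Spor.M24Rel.QTop (IsQ Sib U)

theorem frame6_In6 (i : Fin 6) : Q7 (frame6 i) = 1 ∧ In6 (frame6 i) :=
  ⟨(q7_eq _).trans (frame6_facts.1 i).1, In6_iff.mpr (frame6_facts.1 i).2⟩

theorem sig_In6 {z : V7} (h : In6 z) : sig z = -z := by
  rw [sig, ← b7_eq, show polar Q7 x2 z = 0 from h, mul_zero, zero_smul, zero_sub]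

theorem x2_ne : x2 ≠ 0 := l1_facts.2.2.2.2.2.2.2.1

theorem rf_neg7 (v : V7) : rf Q7 (-v) = rf Q7 v := by
  rw [← neg_one_smul F3 v, Classical.OOmega.rf_smul (by decide)]

/-- a nonzero vector of the complement orthogonal to four -/
theorem exists_perp6 (v : Fin 4 → V7) : ∃ z, z ≠ 0 ∧ In6 z ∧ ∀ i, polar Q7 (v i) z = 0 := by
  let f : V7 →ₗ[F3] (Fin 5 → F3) := LinearMap.pi fun i => Q7.polarBilin ((Fin.cons x2 v : Fin 5 → V7) i)
  have hni : ¬ Function.Injective f := fun h => by
    have := LinearMap.finrank_le_finrank_of_injective h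
    simp at this
  rw [← LinearMap.ker_eq_bot] at hni
  obtain ⟨z, hz, hz0⟩ := Submodule.exists_mem_ne_zero_of_ne_bot hni
  have hz' : ∀ i, polar Q7 ((Fin.cons x2 v : Fin 5 → V7) i) z = 0 := fun i => congrFun (LinearMap.mem_ker.mp hz) i
  exact ⟨z, hz0, hz' 0, fun i => by simpa using hz' i.succ⟩

variable {G : Type*} [Group G] [Finite G] {D : Set G} {a d : G}

namespace Mdl

variable (M : Mdl D a d) {j : G}

theorem ref_conj {n : G} (hn : n ∈ M.Nm) {x : V7} {e : G} (he : M.Ref x e) :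
    M.Ref ((M.rhoI ⟨n, hn⟩).1 x) (n * e * n⁻¹) :=
  M.act_ref (M.Nm_A hn) (fun z => M.rho7_iso ⟨n, hn⟩ z) he

theorem move_th (g : G) (z : V7) : (M.move g).th z = g * M.th z * g⁻¹ := by
  show (g * a * g⁻¹ * (g * d * g⁻¹)) ^ (z 0).val * (g * M.kap (sg z) * g⁻¹) =
    g * ((a * d) ^ (z 0).val * M.kap (sg z)) * g⁻¹
  rw [show g * a * g⁻¹ * (g * d * g⁻¹) = g * (a * d) * g⁻¹ by group, conj_pow]
  group

/-- the product of four acting as minus one on the complement -/
structure Jd (M : Mdl D a d) (j : G) : Prop where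
  act : ∀ z, j * M.th z * j⁻¹ = M.th (sig z)
  quad : ∃ l, IsQ D j l

/-- the member of a line commuting with the product -/
def Lf (j : G) (v : V7) (e : G) : Prop := M.Ref v e ∧ In6 v ∧ Commute j e

theorem act_Nm (hact : ∀ z, j * M.th z * j⁻¹ = M.th (sig z)) : j ∈ M.Nm :=
  M.mem_norm.mpr fun z => hact z ▸ M.th_A _

/-- every line has a member commuting with the product -/
theorem exists_lift (hact : ∀ z, j * M.th z * j⁻¹ = M.th (sig z)) (hjj : j * j = 1) {v : V7} (hv : Q7 v = 1)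
    (hv6 : In6 v) : ∃ e, M.Lf j v e := by
  obtain ⟨e, -, he⟩ := M.six_exists hv hv6
  by_cases hc : Commute j e
  · exact ⟨e, he, hv6, hc⟩
  have hjinv : j⁻¹ = j := inv_eq_of_mul_eq_one_right hjj
  have hjN := M.act_Nm hact
  have hjv : (M.rhoI ⟨j, hjN⟩).1 v = -v := by
    refine M.th_inj ?_
    rw [M.rhoI_spec]
    show j * M.th v * j⁻¹ = _
    rw [hact, sig_In6 hv6]
  set e' := j * e * j⁻¹ with he'
  have hne : e' ≠ e := fun h => hc (mul_inv_eq_iff_eq_mul.mp h)
  have hr' : M.Ref v e' := by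
    have := M.ref_sign (M.ref_conj hjN he) (c := -1) (by decide)
    rwa [hjv, neg_one_smul, neg_neg] at this
  have hnc : ¬ Commute e e' := fun h => by
    rcases M.orth_comm he hr' h with h1 | h1
    · exact hne h1.symm
    · rw [Classical.ORefl.polar_self_two, hv, mul_one] at h1; exact two_ne_zero3 h1
  have hb := Pair.braid_of M.hD he.1 hr'.1 hnc
  have hbr := hb.br
  have he2 : e⁻¹ = e := inv_eq_of_mul_eq_one_right hb.aa
  have hr'' : M.Ref v (e * e' * e⁻¹) := by
    have := M.ref_sign (M.ref_conj (M.ref_Nm he) hr') (c := -1) (by decide)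
    rwa [show (M.rhoI ⟨e, M.ref_Nm he⟩).1 v = -v from M.th_inj (by
      rw [M.rhoI_spec]
      show e * M.th v * e⁻¹ = _
      rw [he.2.2, show (rf Q7 v).1 v = -v from Classical.ORefl.refl_self (by rw [hv]; exact one_ne_zero)]),
      neg_one_smul, neg_neg] at this
  refine ⟨_, hr'', hv6, mul_inv_eq_iff_eq_mul.mp ?_⟩
  have h1 : j * e' * j⁻¹ = e := by
    rw [he', show j * (j * e * j⁻¹) * j⁻¹ = (j * j) * e * (j * j)⁻¹ by group, hjj, one_mul, inv_one, mul_one]
  calc j * (e * e' * e⁻¹) * j⁻¹ = (j * e * j⁻¹) * (j * e' * j⁻¹) * (j * e * j⁻¹)⁻¹ := by group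
    _ = e' * e * e' := by rw [← he', h1, inv_eq_of_mul_eq_one_right hb.dd]
    _ = e * e' * e⁻¹ := by rw [he2, hbr]

/-- the member is unique -/
theorem lift_unique (hact : ∀ z, j * M.th z * j⁻¹ = M.th (sig z)) {v : V7} {e f : G} (he : M.Lf j v e)
    (hf : M.Lf j v f) : e = f := by
  have hee : e * e = 1 := Spor.mul_self_of_order_two (M.hD.1.1 e he.1.1)
  have hff : f * f = 1 := Spor.mul_self_of_order_two (M.hD.1.1 f hf.1.1)
  have hk : M.rhoI (⟨e, M.ref_Nm he.1⟩ * ⟨f, M.ref_Nm hf.1⟩) = 1 := M.rhoI_eq fun z => by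
    show (e * f) * M.th z * (e * f)⁻¹ = M.th z
    rw [show (e * f) * M.th z * (e * f)⁻¹ = e * (f * M.th z * f⁻¹) * e⁻¹ by group, hf.1.2.2, he.1.2.2]
    exact congrArg M.th (congrArg (fun g : ↥(Iso Q7) => g.1 z) (Classical.OOmega.rf_mul_self v))
  obtain ⟨w, hw⟩ := M.mem_A.mp (M.ker_rho hk)
  change M.th w = e * f at hw
  have h1 : sig w = w := M.th_inj (by
    rw [← hact, hw]; exact mul_inv_eq_iff_eq_mul.mpr (he.2.2.mul_right hf.2.2).eq)
  have h2 : (rf Q7 v).1 w = -w := M.th_inj (by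
    rw [← he.1.2.2, M.th_neg, hw, mul_inv_rev, inv_eq_of_mul_eq_one_right hee, inv_eq_of_mul_eq_one_right hff,
      ← mul_assoc e e f, hee, one_mul])
  have h3 : (rf Q7 v).1 w = w := Classical.ORefl.refl_fix (by
    rw [sig_fixed w h1, polar_smul_right, polar_comm, show polar Q7 x2 v = 0 from he.2.1, smul_zero])
  have h4 : w = 0 := by
    rw [← smul_eq_zero_iff_right (two_ne_zero3) (m := w), two_smul]
    nth_rw 1 [← h3]; rw [h2, neg_add_cancel]
  rw [h4, M.th_zero] at hw
  rw [← inv_eq_of_mul_eq_one_right hw.symm, inv_eq_of_mul_eq_one_right hee]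

/-- the product exists -/
theorem exists_jd (M : Mdl D a d) : ∃ j, M.Jd j := by
  classical
  have hD := M.hD
  have h := Invol.hyp_of hD M.prim M.type
  choose e he using fun i => M.exists_ref (frame6_In6 i).1
  have hcm : ∀ i k, Commute (e i) (e k) := fun i k => by
    rcases eq_or_ne i k with rfl | hne
    · exact Commute.refl _
    · exact M.comm_orth (he i) (he k) (by rw [b7_eq]; exact frame6_facts.2 i k hne)
  set l := (List.finRange 6).map e with hl
  set j := l.prod with hj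
  have hlist : ∀ L : List (Fin 6), ∀ z,
      (L.map e).prod * M.th z * ((L.map e).prod)⁻¹ = M.th ((L.map frame6).foldr rc z) := by
    intro L
    induction L with
    | nil => intro z; simp
    | cons i L ih =>
      intro z
      rw [List.map_cons, List.map_cons, List.prod_cons, List.foldr_cons,
        show e i * (L.map e).prod * M.th z * (e i * (L.map e).prod)⁻¹ =
          e i * ((L.map e).prod * M.th z * ((L.map e).prod)⁻¹) * (e i)⁻¹ by group, ih, (he i).2.2,
        rf7_apply (frame6_In6 i).1, b7_eq]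
      rfl
  have hact : ∀ z, j * M.th z * j⁻¹ = M.th (sig z) := fun z => by rw [hj, hl, hlist, frame6_prod]
  have hD' : ∀ x ∈ l, x ∈ D := by
    intro x hx
    obtain ⟨i, -, rfl⟩ := List.mem_map.mp hx
    exact (he i).1
  have hjj : j * j = 1 := M23Rel.Invol.prod_sq (M23Rel.pre_of_group hD) l hD' (by
    intro x hx y hy
    obtain ⟨i, -, rfl⟩ := List.mem_map.mp hx
    obtain ⟨k, -, rfl⟩ := List.mem_map.mp hy
    exact hcm i k)
  have hjL : j ∈ commutator G := (h.par l hD').mpr (by rw [hl, List.length_map, List.length_finRange]; decide)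
  have hne : j ≠ 1 := fun e1 => sig_facts.1 (M.th_inj (by rw [← hact, e1, one_mul, inv_one, mul_one]))
  obtain ⟨t, htg, t1, t4, htp⟩ := Invol.exists_good h (orderOf_eq_prime (by rw [pow_two, hjj]) hne)
  have heven : Even t.length := (h.par t htg.2.1).mp (htp.symm ▸ hjL)
  rcases (show t.length = 2 ∨ t.length = 4 by rw [Nat.even_iff] at heven; omega) with e2 | e4
  swap
  · exact ⟨j, hact, t, htg, e4, htp⟩
  exfalso
  obtain ⟨p, q, rfl⟩ := List.length_eq_two.mp e2
  obtain ⟨hn, hmem, hcom⟩ := id htg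
  have hpq : p ≠ q := by simpa using hn
  have hperm : ∀ g, Commute g j → g * p * g⁻¹ = p ∨ g * p * g⁻¹ = q := fun g hg => by
    obtain ⟨g1, g2⟩ := M23Rel.Invol.good_conjugate (M23Rel.pre_of_group hD) htg g
    have := M23Rel.Top.factors hD ⟨h.four, h.six⟩ g1.1 hn (by simp) (by simp) g1.2.1 hmem g1.2.2 hcom
      (by rw [g2, htp, hg.eq, mul_inv_cancel_right]) (g * p * g⁻¹)
    simpa using this.mp (by simp)
  have hcp : Commute p q := hcom p (by simp) q (by simp)
  have hfix : ∀ {f}, f ∈ D → Commute f j → Commute f p := by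
    intro f hf hfj
    rcases hperm f hfj with e1 | e1
    · exact mul_inv_eq_iff_eq_mul.mp e1
    by_contra hnc
    have hb := Pair.braid_of hD hf (hmem p (by simp)) hnc
    refine hnc ?_
    have h1 : Commute p (p * f * p⁻¹) := by
      rw [inv_eq_of_mul_eq_one_right hb.dd, ← hb.br]
      rw [inv_eq_of_mul_eq_one_right hb.aa] at e1
      rw [e1]; exact hcp
    have h2 := (Spor.commute_conj_iff (g := p) (a := p) (b := f)).mp (by rwa [mul_inv_cancel_right])
    exact h2.symm
  have hyj : Commute (M.th x2) j := by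
    refine (Commute.symm ?_)
    refine mul_inv_eq_iff_eq_mul.mp ?_
    rw [hact, sig_facts.2]
  have hpy : Commute (M.th x2) p := by
    rcases hperm _ hyj with e1 | e1
    · exact mul_inv_eq_iff_eq_mul.mp e1
    exfalso
    rcases hperm _ (hyj.mul_left hyj) with e3 | e3
    · have h3 := M.th_cube x2
      rw [pow_succ, pow_two] at h3
      have : M.th x2 * (M.th x2 * M.th x2 * p * (M.th x2 * M.th x2)⁻¹) * (M.th x2)⁻¹ = p := by
        rw [show M.th x2 * (M.th x2 * M.th x2 * p * (M.th x2 * M.th x2)⁻¹) * (M.th x2)⁻¹ =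
          (M.th x2 * M.th x2 * M.th x2) * p * (M.th x2 * M.th x2 * M.th x2)⁻¹ by group, h3, one_mul, inv_one, mul_one]
      rw [e3, e1] at this
      exact hpq this.symm
    · rw [show M.th x2 * M.th x2 * p * (M.th x2 * M.th x2)⁻¹ =
        M.th x2 * (M.th x2 * p * (M.th x2)⁻¹) * (M.th x2)⁻¹ by group, e1] at e3
      exact hpq (mul_left_cancel (mul_right_cancel (e1.trans e3.symm)))
  obtain ⟨e0, he0⟩ := M.exists_lift hact hjj (frame6_In6 0).1 (frame6_In6 0).2
  have hp6 := M.six_nbr (M.six_ref he0.1 he0.2.1) ⟨hmem p (by simp), M.cent_X0.mpr hpy.symm⟩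
    (hfix he0.1.1 he0.2.2.symm)
  obtain ⟨v, hv6, hv⟩ := M.six_vec hp6
  obtain ⟨i, hi1, hi2, hi3⟩ := two_witness v ((q7_eq v).symm.trans hv.2.1) (In6_iff.mp hv6)
  obtain ⟨f, hf⟩ := M.exists_lift hact hjj (cand_In6 i).1 (cand_In6 i).2
  rcases M.orth_comm hf.1 hv (hfix hf.1.1 hf.2.2.symm) with e1 | e1
  · subst e1
    rcases rf_inj7 hv.2.1 hf.1.2.1 (fun w => M.th_inj (by rw [← hv.2.2, ← hf.1.2.2])) with e | e
    · exact hi2 e
    · exact hi3 e
  · exact hi1 ((b7_eq _ _).symm.trans e1)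

namespace Jd

variable {M}

theorem sq (J : M.Jd j) : j * j = 1 := J.quad.elim fun _ hl => hl.sq_one M.hD M.prim M.type

theorem ne_one (J : M.Jd j) : j ≠ 1 := J.quad.elim fun _ hl => hl.ne_one M.hD M.prim M.type

theorem comm_y (J : M.Jd j) : Commute (M.th x2) j :=
  (mul_inv_eq_iff_eq_mul.mp ((J.act x2).trans (congrArg M.th sig_facts.2))).symm

theorem move (J : M.Jd j) (g : G) : (M.move g).Jd (g * j * g⁻¹) := by
  obtain ⟨l, hl⟩ := J.quad
  obtain ⟨h1, h2⟩ := M23Rel.Invol.good_conjugate (M23Rel.pre_of_group M.hD) hl.1 g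
  refine ⟨fun z => ?_, _, h1, (List.length_map _).trans hl.2.1, by rw [h2, hl.2.2]⟩
  rw [M.move_th, M.move_th, ← J.act]
  group

theorem lift (J : M.Jd j) {v : V7} (hv : Q7 v = 1) (hv6 : In6 v) : ∃ e, M.Lf j v e :=
  M.exists_lift J.act J.sq hv hv6

theorem mem_U (_J : M.Jd j) {v : V7} {e : G} (he : M.Lf j v e) : e ∈ U D j := ⟨he.1.1, he.2.2⟩

theorem fixed (_J : M.Jd j) {v : V7} {e : G} (he : M.Lf j v e) : Commute (M.th x2) e :=
  ((M.cent_X0).mp (M.six_ref he.1 he.2.1).2.2).symm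

/-- members of the quadruple of such a member fixed by the element of order three -/
theorem six_of_sib (J : M.Jd j) {v : V7} {e m : G} (he : M.Lf j v e) (hs : Sib D j e m)
    (hm : Commute (M.th x2) m) : ∃ w, M.Lf j w m := by
  have hmU := (hs.mem_U).2
  obtain ⟨w, hw6, hw⟩ := M.six_vec (M.six_nbr (M.six_ref he.1 he.2.1)
    ⟨hmU.1, M.cent_X0.mpr hm.symm⟩ (QTop.sib_comm M.hD M.prim M.type hs))
  exact ⟨w, hw, hw6, hmU.2⟩

theorem vec_eq (J : M.Jd j) {v w : V7} {e : G} (he : M.Lf j v e) (hw : M.Lf j w e) : w = v ∨ w = -v :=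
  rf_inj7 he.1.2.1 hw.1.2.1 fun z => M.th_inj (by rw [← he.1.2.2, ← hw.1.2.2])

theorem comm_iff (_J : M.Jd j) {v w : V7} {e f : G} (he : M.Lf j v e) (hf : M.Lf j w f) :
    Commute e f ↔ e = f ∨ polar Q7 v w = 0 :=
  ⟨M.orth_comm he.1 hf.1, fun h => h.elim (fun h => h ▸ Commute.refl _) (M.comm_orth he.1 hf.1)⟩

/-- different members are in different quadruples -/
theorem sib_eq (J : M.Jd j) {v w : V7} {e f : G} (he : M.Lf j v e) (hf : M.Lf j w f) (hs : Sib D j e f) :
    e = f := by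
  by_contra hne
  have hD := M.hD
  obtain ⟨l, hl, hel, hfl⟩ := hs
  obtain ⟨p, q, r, hg, hi⟩ := hl.front hel
  have hy := J.comm_y
  set y := M.th x2
  have hfix : ∀ x ∈ [e, p, q, r], Commute y x := by
    classical
    have hconj : ∀ {g}, Commute g j → Commute g e → ∀ x ∈ [e, p, q, r], g * x * g⁻¹ ∈ [e, p, q, r] :=
      fun {g} hgj hge x hx => by
        refine (QTop.quad_eq hD M.prim M.type (hg.conj hD hgj) hg (m := e) ?_ (by simp) _).mp
          (List.mem_map_of_mem (f := fun a => g * a * g⁻¹) hx)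
        exact List.mem_map.mpr ⟨e, by simp, by rw [hge.eq, mul_inv_cancel_right]⟩
    have hye := J.fixed he
    have hyf := J.fixed hf
    intro x hx
    by_contra hnx
    have x1 := hconj hy hye x hx
    have x2' := hconj hy hye _ x1
    have hf' := (hi f).mpr hfl
    have hxx : y * x * y⁻¹ ≠ x := fun h => hnx (mul_inv_eq_iff_eq_mul.mp h)
    have hxy : y * (y * x * y⁻¹) * y⁻¹ ≠ x := fun h => hxx (by
      have h3 := M.th_cube x2
      rw [pow_succ, pow_two] at h3
      conv_lhs => rw [← h]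
      rw [show y * (y * (y * x * y⁻¹) * y⁻¹) * y⁻¹ = (y * y * y) * x * (y * y * y)⁻¹ by group, h3, one_mul, inv_one,
        mul_one])
    have hyy : y * (y * x * y⁻¹) * y⁻¹ ≠ y * x * y⁻¹ := fun h => hxx (mul_left_cancel (mul_right_cancel h))
    have hmove : ∀ {c}, Commute y c → x ≠ c ∧ y * x * y⁻¹ ≠ c ∧ y * (y * x * y⁻¹) * y⁻¹ ≠ c := by
      intro c hc
      have hcc : y * c * y⁻¹ = c := by rw [hc.eq, mul_inv_cancel_right]
      have h1 : x ≠ c := fun h => hnx (h ▸ hc)
      have h2 : y * x * y⁻¹ ≠ c := fun h => h1 (mul_left_cancel (mul_right_cancel (h.trans hcc.symm)))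
      exact ⟨h1, h2, fun h => h2 (mul_left_cancel (mul_right_cancel (h.trans hcc.symm)))⟩
    have hnd : [e, f, x, y * x * y⁻¹, y * (y * x * y⁻¹) * y⁻¹].Nodup := by
      obtain ⟨a1, a2, a3⟩ := hmove hye
      obtain ⟨b1, b2, b3⟩ := hmove hyf
      simp [hne, Ne.symm a1, Ne.symm a2, Ne.symm a3, Ne.symm b1, Ne.symm b2, Ne.symm b3, Ne.symm hxx, Ne.symm hxy,
        Ne.symm hyy]
    have := (List.subperm_of_subset hnd (l₂ := [e, p, q, r]) (by
      intro u hu
      simp only [List.mem_cons, List.not_mem_nil, or_false] at hu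
      rcases hu with e1 | e1 | e1 | e1 | e1 <;> rw [e1]
      exacts [by simp, hf', hx, x1, x2'])).length_le
    simp at this
  obtain ⟨z, hz0, hz6, hzp⟩ := exists_perp6 ![v, Classical.choose (J.six_of_sib he
      ⟨_, hg, by simp, (show p ∈ [e, p, q, r] by simp)⟩ (hfix p (by simp))),
    Classical.choose (J.six_of_sib he ⟨_, hg, by simp, (show q ∈ [e, p, q, r] by simp)⟩ (hfix q (by simp))),
    Classical.choose (J.six_of_sib he ⟨_, hg, by simp, (show r ∈ [e, p, q, r] by simp)⟩ (hfix r (by simp)))]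
  have hstep : ∀ {u : V7} {x : G}, M.Lf j u x → polar Q7 u z = 0 → x * M.th z * x⁻¹ = M.th z :=
    fun {u x} hx hu => by rw [hx.1.2.2, show (rf Q7 u).1 z = z from Classical.ORefl.refl_fix hu]
  have h1 := hstep he (hzp 0)
  have h2 := hstep (Classical.choose_spec (J.six_of_sib he
    ⟨_, hg, by simp, (show p ∈ [e, p, q, r] by simp)⟩ (hfix p (by simp)))) (hzp 1)
  have h3 := hstep (Classical.choose_spec (J.six_of_sib he
    ⟨_, hg, by simp, (show q ∈ [e, p, q, r] by simp)⟩ (hfix q (by simp)))) (hzp 2)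
  have h4 := hstep (Classical.choose_spec (J.six_of_sib he
    ⟨_, hg, by simp, (show r ∈ [e, p, q, r] by simp)⟩ (hfix r (by simp)))) (hzp 3)
  have hjz : j * M.th z * j⁻¹ = M.th z := by
    rw [← hg.four, show e * (p * (q * r)) * M.th z * (e * (p * (q * r)))⁻¹ =
      e * (p * (q * (r * M.th z * r⁻¹) * q⁻¹) * p⁻¹) * e⁻¹ by group, h4, h3, h2, h1]
  rw [J.act, sig_In6 hz6] at hjz
  refine hz0 ((smul_eq_zero_iff_right two_ne_zero3).mp ?_)
  rw [two_smul]
  nth_rw 1 [← M.th_inj hjz]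
  exact neg_add_cancel z

/-- every member commuting with the product shares a quadruple with one of them -/
theorem cover (J : M.Jd j) {m : G} (hm : m ∈ U D j) : ∃ v e, M.Lf j v e ∧ Sib D j e m := by
  classical
  have hD := M.hD
  obtain ⟨l0, hl0⟩ := J.quad
  have hex : ∀ v : ↥lines, ∃ e t, M.Lf j v.1 e ∧ IsQ D j t ∧ e ∈ t := fun v => by
    obtain ⟨h1, h2, -⟩ := (Finset.mem_filter.mp v.2).2
    obtain ⟨e, he⟩ := J.lift ((q7_eq _).trans h1) (In6_iff.mpr h2)
    obtain ⟨t, ht, het⟩ := QTop.exists_quad hD M.prim M.type hl0 (J.mem_U he)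
    exact ⟨e, t, he, ht, het⟩
  choose e t he ht het using hex
  by_contra hc
  push Not at hc
  set S : Finset G := (Finset.univ : Finset ↥lines).biUnion fun v => (t v).toFinset
  have hS : S.card = 504 := by
    rw [Finset.card_biUnion, Finset.sum_congr rfl fun v _ => (List.toFinset_card_of_nodup (ht v).1.1).trans (ht v).2.1,
      Finset.sum_const, Finset.card_univ, Fintype.card_coe, lines_card, smul_eq_mul]
    intro v _ w _ hvw
    refine Finset.disjoint_left.mpr fun x hx hx' => hvw (Subtype.ext ?_)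
    have hsib : Sib D j (e v) (e w) := Sib.trans hD M.prim M.type ⟨_, ht v, het v, List.mem_toFinset.mp hx⟩
      ⟨_, ht w, List.mem_toFinset.mp hx', het w⟩
    have heq := J.sib_eq (he v) (he w) hsib
    rcases J.vec_eq (he v) (heq ▸ he w) with h | h
    · exact h.symm
    · exact absurd (h ▸ w.2) (lines_neg _ v.2)
  have hsub : (↑S : Set G) ⊆ U D j \ {m} := by
    intro x hx
    obtain ⟨v, -, hxv⟩ := Finset.mem_biUnion.mp (Finset.mem_coe.mp hx)
    refine ⟨(ht v).mem_U (List.mem_toFinset.mp hxv), ?_⟩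
    rintro rfl
    exact hc _ _ (he v) ⟨_, ht v, het v, List.mem_toFinset.mp hxv⟩
  have h1 := Set.ncard_le_ncard hsub (Set.toFinite _)
  rw [Set.ncard_coe_finset, hS, Set.ncard_sdiff_singleton_of_mem hm, QTop.card_U hD M.prim M.type hl0] at h1
  omega

end Jd

end Mdl

end Cfsg.Agent.Spor.M24Rel.Sev
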