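import Cfsg.Agent.Lib.Spor.M24RelQMateData
import Cfsg.Agent.Lib.Spor.M22UTupData
import Cfsg.Agent.Lib.Spor.M24RelOrdTri

/-!
Two points not orthogonal to the first point with the same neighbours in its orthogonal set are paired.
-/

set_option autoImplicit false
set_option maxRecDepth 100000
set_option maxHeartbeats 4000000
set_option Elab.async false

namespace Cfsg.Agent.Spor.M24Rel.Ord3.Mate

open Cfsg.Agent.Spor.M22U (orth)
open Cfsg.Agent.Spor.CC (rangeOK all_range)

theorem mate0 : rangeOK mateOK 0 231 = true := by decide +kernel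
theorem mate1 : rangeOK mateOK 231 231 = true := by decide +kernel
theorem mate2 : rangeOK mateOK 462 231 = true := by decide +kernel
theorem sorted_ok : sortedOK = true ∧ probeOK = true := by decide +kernel

theorem mate_spec {k : ℕ} (hk : k < 693) (ho : orth 317 k = false) :
    ∃ i < 256, keys.getD i 0 = pat k ∧ (fsts.getD i 693 = k ∨ snds.getD i 693 = k) := by
  have h : mateOK k = true := by
    by_cases h1 : k < 231
    · exact all_range (p := mateOK) mate0 (Nat.zero_le _) (by omega)
    by_cases h2 : k < 462
    · exact all_range (p := mateOK) mate1 (by omega) (by omega)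
    · exact all_range (p := mateOK) mate2 (by omega) (by omega)
  simp only [mateOK, ho, Bool.false_or, Bool.and_eq_true, Bool.or_eq_true] at h
  exact ⟨_, Nat.le_of_ble_eq_true h.1.1, Nat.eq_of_beq_eq_true h.1.2,
    h.2.imp Nat.eq_of_beq_eq_true Nat.eq_of_beq_eq_true⟩

theorem keys_lt : ∀ {i j : ℕ}, i < j → j < 256 → keys.getD i 0 < keys.getD j 0 := by
  intro i j hij hj
  have hs := sorted_ok.1
  rw [sortedOK, List.all_eq_true] at hs
  have step : ∀ m < 255, keys.getD m 0 < keys.getD (m + 1) 0 := fun m hm =>
    Nat.le_of_ble_eq_true (hs m (List.mem_range.mpr hm))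
  induction j with
  | zero => omega
  | succ n ih =>
    rcases Nat.lt_or_eq_of_le (Nat.lt_succ_iff.mp hij) with h | h
    · exact (ih h (by omega)).trans (step n (by omega))
    · subst h; exact step i (by omega)

/-- at most two points share a pattern -/
theorem two_only {a b c : ℕ} (ha : a < 693) (hb : b < 693) (hc : c < 693) (oa : orth 317 a = false)
    (ob : orth 317 b = false) (oc : orth 317 c = false) (hab : pat a = pat b) (hac : pat a = pat c) :
    a = b ∨ a = c ∨ b = c := by
  obtain ⟨i, hi, ei, hia⟩ := mate_spec ha oa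
  obtain ⟨j, hj, ej, hjb⟩ := mate_spec hb ob
  obtain ⟨l, hl, el, hlc⟩ := mate_spec hc oc
  have key : ∀ {i j : ℕ}, i < 256 → j < 256 → keys.getD i 0 = keys.getD j 0 → i = j := by
    intro i j hi hj h
    rcases lt_trichotomy i j with h' | h' | h'
    · exact absurd h (keys_lt h' hj).ne
    · exact h'
    · exact absurd h (keys_lt h' hi).ne'
  obtain rfl : i = j := key hi hj (by rw [ei, ej, hab])
  obtain rfl : i = l := key hi hl (by rw [ei, el, hac])
  rcases hia with h | h <;> rcases hjb with h' | h' <;> rcases hlc with h'' | h'' <;> omega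

theorem pat_congr : ∀ {l : List ℕ} {a b : ℕ}, (∀ r ∈ l, orth a r = orth b r) →
    l.foldr (fun r acc => bif orth a r then 2 * acc + 1 else 2 * acc) 0 =
      l.foldr (fun r acc => bif orth b r then 2 * acc + 1 else 2 * acc) 0
  | [], _, _, _ => rfl
  | r :: l, a, b, h => by
    simp only [List.foldr_cons, h r (by simp), pat_congr (l := l) fun x hx => h x (by simp [hx])]

theorem probe_spec {r : ℕ} (hr : r ∈ probes) : r < 693 ∧ orth 317 r = true ∧ r ≠ 317 := by
  have h := sorted_ok.2
  rw [probeOK, List.all_eq_true] at h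
  have h' := h r hr
  simp only [Bool.and_eq_true, Bool.not_eq_true'] at h'
  exact ⟨Nat.le_of_ble_eq_true h'.1.1, h'.1.2, fun e => by simp [e] at h'⟩

theorem pat_eq {a b : ℕ} (h : ∀ r, r < 693 → r ≠ 317 → orth 317 r = true → orth a r = orth b r) : pat a = pat b :=
  pat_congr fun r hr => h r (probe_spec hr).1 (probe_spec hr).2.2 (probe_spec hr).2.1

end Cfsg.Agent.Spor.M24Rel.Ord3.Mate
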