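import Cfsg.Agent.Lib.Spor.M24RelQKer
import Cfsg.Agent.Lib.Spor.M24RelNineQuad
import Cfsg.Agent.Lib.Classical.OrthClosed

/-!
The orders of the centralizer of the product of four members and of its four-group subgroup.
-/

set_option autoImplicit false
set_option maxRecDepth 100000
set_option linter.unusedSectionVars false

namespace Cfsg.Agent.Spor.M24Rel.Nine

open Cfsg.Agent.Spor.M22U (nset orth gpt gpt_lt)
open Cfsg.Agent.Spor.M24Rel.Ord3 (com3 Co)

variable {G : Type*} [Group G] [Finite G] {D : Set G}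

/-- the order of the centralizer of four members -/
theorem quad_order (hD : Cfsg.IsThreeTranspositionGroup D) (hprim : Cfsg.IsPrimitiveUnderConj D)
    (ht : Cfsg.IsOfTypeM24 G D) {a b c d : G} (ha : a ∈ D) (hb : b ∈ nset D a) (hc : c ∈ nset D a ∩ nset D b)
    (hd : d ∈ com3 D a b c) : Nat.card (quad a b c d) = 106168320 := by
  classical
  have hE := M23Rel.pre_of_group hD
  have B := Count.base_of hD hprim ht
  have hmov : ∀ {g y : G}, Commute g y → ∀ {w : G}, w ∈ nset D y → g * w * g⁻¹ ∈ nset D y :=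
    fun hg _ hw => M23Rel.nset_conj hE hg hw
  have hfix : ∀ {g y : G}, g * y * g⁻¹ = y → Commute g y := fun h => mul_inv_eq_iff_eq_mul.mp h
  obtain ⟨C⟩ := Ord3.exists_co hD hprim ht ha hb hc.1 hc.2
  have hg0 : gpt 0 < 693 := gpt_lt (by norm_num)
  have htrans : ∀ w ∈ com3 D a b c, ∃ g, Commute g a ∧ Commute g b ∧ Commute g c ∧
      g * C.L (gpt 0) * g⁻¹ = w := by
    intro w hw
    obtain ⟨k, hk, rfl⟩ := C.surj w hw
    obtain ⟨l, hl, hlk⟩ := M22U.Pts.from_first hk
    obtain ⟨h1, h2, h3⟩ := C.gw_fix hl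
    exact ⟨C.gw l, h1, h2, h3, by rw [C.gw_conj hl hg0, hlk]⟩
  obtain ⟨g, hga, hgb, hgc, hgd⟩ := htrans d hd
  have s1 := orbit_step (Subgroup.centralizer ({a} : Set G)) (nset D a) hb
    (fun s hs w hw => hmov (mem_cent.mp hs) hw) (by
    intro w hw
    obtain ⟨u, hu⟩ : (nset D a ∩ nset D w).Nonempty := Set.nonempty_of_ncard_ne_zero (by
      rw [Count.ncard_adj B.set ha hw]; norm_num)
    obtain ⟨s, h1, h2, -⟩ := Ord3.conj_triple hD hprim ht ha hw hu ha hb hc
    exact ⟨s, mem_cent.mpr (hfix h1), h2⟩)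
  have s2 := orbit_step (Subgroup.centralizer ({a} : Set G) ⊓ Subgroup.centralizer ({b} : Set G))
    (nset D a ∩ nset D b) hc
    (fun s hs w hw => ⟨hmov (mem_cent.mp hs.1) hw.1, hmov (mem_cent.mp hs.2) hw.2⟩) (by
    intro w hw
    obtain ⟨s, h1, h2, h3⟩ := Ord3.conj_triple hD hprim ht ha hb hw ha hb hc
    exact ⟨s, ⟨mem_cent.mpr (hfix h1), mem_cent.mpr (hfix h2)⟩, h3⟩)
  have s3 := orbit_step (Subgroup.centralizer ({a} : Set G) ⊓ Subgroup.centralizer ({b} : Set G) ⊓
    Subgroup.centralizer ({c} : Set G)) (com3 D a b c) hd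
    (fun s hs w hw => ⟨⟨hmov (mem_cent.mp hs.1.1) hw.1.1, hmov (mem_cent.mp hs.1.2) hw.1.2⟩,
      hmov (mem_cent.mp hs.2) hw.2⟩) (by
    intro w hw
    obtain ⟨h, h1, h2, h3, h4⟩ := htrans w hw
    refine ⟨h * g⁻¹, ⟨⟨mem_cent.mpr (h1.mul_left hga.inv_left), mem_cent.mpr (h2.mul_left hgb.inv_left)⟩,
      mem_cent.mpr (h3.mul_left hgc.inv_left)⟩, ?_⟩
    rw [← hgd, show h * g⁻¹ * (g * C.L (gpt 0) * g⁻¹) * (h * g⁻¹)⁻¹ = h * C.L (gpt 0) * h⁻¹ by group, h4])
  have h693 : (com3 D a b c).ncard = 693 := by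
    have e : com3 D a b c = C.L '' Set.Iio 693 := by
      ext y
      exact ⟨fun hy => (C.surj y hy).imp fun k hk => ⟨hk.1, hk.2⟩, fun ⟨k, hk, e⟩ => e ▸ C.mem k hk⟩
    rw [e, Set.InjOn.ncard_image (s := Set.Iio 693) (fun i hi j hj h => C.inj i hi j hj h), ← Finset.coe_Iio,
      Set.ncard_coe_finset, Nat.card_Iio]
  rw [Cent.ncard_nset B.set ha, Cent.card_cent B.set ha] at s1
  rw [Count.ncard_adj B.set ha hb] at s2
  rw [h693] at s3
  unfold quad
  omega

end Cfsg.Agent.Spor.M24Rel.Nine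

namespace Cfsg.Agent.Spor.M24Rel.Sev

open Module QuadraticMap
open scoped Pointwise
open Cfsg.Agent.Classical.ORefl (Iso polar_iso)
open Cfsg.Agent.Classical.OOmega (rf)
open Cfsg.Agent.Spor.M24Rel.TriAlg
open Cfsg.Agent.Spor.M22U (nset)
open Cfsg.Agent.Spor.M22U.InvClasses (Good)
open Cfsg.Agent.Spor.M24Rel.QTop (IsQ Sib U Tr)

/-- a vector of norm two orthogonal to the first of the frame -/
def tv : V7 := frame6 2 + frame6 3

theorem tv_facts : q7 tv = 2 ∧ tv 5 = tv 6 ∧ b7 tv x2 = 0 ∧ b7 tv (frame6 0) = 0 ∧ tv ≠ 0 := by decide +kernel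

theorem pair_zero : ∀ w : V7, w + sig w = 0 → w + (w - sig w) = 0 := by decide +kernel

variable {G : Type*} [Group G] [Finite G] {D : Set G} {a d : G}

namespace Mdl.Jd

variable {M : Mdl D a d} {j : G} (J : M.Jd j) {l : List G} (hl : IsQ D j l)

include J

/-- an element of the normalizer, moved by the subgroup to commute with the product -/
theorem adjust {n : G} (hn : n ∈ Subgroup.normalizer (M.X0 : Set G)) :
    ∃ w : V7, M.th w * n ∈ J.N1 := by
  have hnN : n ∈ M.Nm := M.norm_le hn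
  set k := M.rhoI ⟨n, hnN⟩
  have h2 : k.1 x2 = x2 ∨ k.1 x2 = -x2 := by
    have h1 : M.th (k.1 x2) ∈ M.X0 := by
      rw [show M.th (k.1 x2) = n * M.th x2 * n⁻¹ from M.rhoI_spec _ x2]
      exact (Subgroup.mem_normalizer_iff.mp hn _).mp y_mem
    obtain ⟨i, hi⟩ := Subgroup.mem_zpowers_iff.mp h1
    rw [← Int.mul_ediv_add_emod i 3, zpow_add, zpow_mul,
      show M.th x2 ^ (3 : ℤ) = 1 by exact_mod_cast M.th_cube x2, one_zpow, one_mul] at hi
    rcases (by omega : i % 3 = 0 ∨ i % 3 = 1 ∨ i % 3 = 2) with h | h | h <;> rw [h] at hi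
    · exfalso
      rw [zpow_zero] at hi
      exact x2_ne (k.1.injective ((M.th_eq_one hi.symm).trans (map_zero _).symm))
    · rw [zpow_one] at hi; exact Or.inl (M.th_inj hi.symm)
    · refine Or.inr (M.th_inj ?_)
      rw [← hi, M.th_neg]
      refine (inv_eq_of_mul_eq_one_right ?_).symm
      show M.th x2 * M.th x2 ^ ((2 : ℕ) : ℤ) = 1
      rw [zpow_natCast, ← pow_succ']
      exact M.th_cube x2
  have hsig : ∀ z, k.1 (sig z) = sig (k.1 z) := fun z => by
    unfold sig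
    rw [map_sub, map_smul, ← b7_eq, ← b7_eq]
    rcases h2 with e | e
    · rw [e, ← polar_iso k.2 x2 z, e]
    · rw [e, ← polar_iso k.2 x2 z, e, polar_neg_left, mul_neg, neg_smul, smul_neg, neg_neg]
  set m : M.Nm := ⟨n, hnN⟩ * ⟨j, M.act_Nm J.act⟩ * ⟨n, hnN⟩⁻¹ * ⟨j, M.act_Nm J.act⟩⁻¹
  have hm : M.rhoI m = 1 := M.rhoI_eq fun z => by
    show (n * j * n⁻¹ * j⁻¹) * M.th z * (n * j * n⁻¹ * j⁻¹)⁻¹ = M.th z
    obtain ⟨u, rfl⟩ := k.1.surjective z
    have hj' : j⁻¹ = j := inv_eq_of_mul_eq_one_right J.sq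
    rw [show n * j * n⁻¹ * j⁻¹ * M.th (k.1 u) * (n * j * n⁻¹ * j⁻¹)⁻¹ =
      n * (j * (n⁻¹ * (j⁻¹ * M.th (k.1 u) * j⁻¹⁻¹) * n) * j⁻¹) * n⁻¹ by group, hj', hj']
    have e1 : j * M.th (k.1 u) * j = M.th (k.1 (sig u)) := by
      conv_lhs => enter [2]; rw [← hj']
      rw [J.act, hsig]
    have e2 : n⁻¹ * M.th (k.1 (sig u)) * n = M.th (sig u) := by
      rw [show M.th (k.1 (sig u)) = n * M.th (sig u) * n⁻¹ from M.rhoI_spec _ _]; group
    have e3 : j * M.th (sig u) * j = M.th u := by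
      have h := J.act (sig u)
      have e4 : sig (sig u) = u := by
        have hb : b7 x2 (sig u) = b7 x2 u := by
          rw [← b7_eq, ← b7_eq]; unfold sig
          rw [polar_sub_right, polar_smul_right, x2_facts.2, ← b7_eq, smul_eq_mul]
          generalize polar Q7 x2 u = t; revert t; decide
        conv_lhs => unfold sig
        rw [show ((2 * b7 x2 u) • x2 - u) = sig u from rfl, hb]
        unfold sig
        abel
      rw [e4, hj'] at h
      exact h
    rw [e1, e2, e3, show M.th (k.1 u) = n * M.th u * n⁻¹ from M.rhoI_spec _ _]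
  obtain ⟨w, hw⟩ := M.mem_A.mp (M.ker_rho hm)
  change M.th w = n * j * n⁻¹ * j⁻¹ at hw
  have hw' : n * j * n⁻¹ = M.th w * j := by rw [hw]; group
  have hsw : w + sig w = 0 := M.th_eq_one (by
    have h1 : (n * j * n⁻¹) * (n * j * n⁻¹) = 1 := by
      rw [show n * j * n⁻¹ * (n * j * n⁻¹) = n * (j * j) * n⁻¹ by group, J.sq, mul_one, mul_inv_cancel]
    rw [hw'] at h1
    rw [M.th_add, ← J.act, inv_eq_of_mul_eq_one_right J.sq]
    simpa [mul_assoc] using h1)
  refine ⟨w, Subgroup.mem_centralizer_singleton_iff.mpr ?_, mul_mem (M.A_le_X0 (M.th_A w)) hn⟩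
  refine mul_inv_eq_iff_eq_mul.mp ?_
  rw [show M.th w * n * j * (M.th w * n)⁻¹ = M.th w * (n * j * n⁻¹) * (M.th w)⁻¹ by group, hw',
    show M.th w * (M.th w * j) * (M.th w)⁻¹ = M.th w * M.th w * (j * (M.th w)⁻¹ * j⁻¹) * j by group,
    ← M.th_neg, J.act, ← M.th_add, ← M.th_add]
  have : w + w + sig (-w) = 0 := by
    have e : sig (-w) = -sig w := by
      unfold sig; rw [← b7_eq, ← b7_eq, polar_neg_right, mul_neg, neg_smul]; abel
    rw [e, ← pair_zero w hsw]; abel
  rw [this, M.th_zero, one_mul]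

/-- the order of the centralizer of the product in the normalizer -/
theorem card_N1 : Nat.card ↥J.N1 = 3 * 26127360 := by
  classical
  set NX := Subgroup.normalizer (M.X0 : Set G)
  obtain ⟨hnor, ⟨e⟩⟩ := M.quot_six
  have hle : J.N1 ≤ NX := inf_le_right
  set f : ↥J.N1 →* ↥NX ⧸ M.A.subgroupOf NX := (QuotientGroup.mk' _).comp (Subgroup.inclusion hle)
  have hsurj : Function.Surjective f := by
    intro q
    obtain ⟨⟨n, hn⟩, rfl⟩ := QuotientGroup.mk_surjective q
    obtain ⟨w, hw⟩ := J.adjust hn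
    refine ⟨⟨_, hw⟩, ?_⟩
    show QuotientGroup.mk (⟨M.th w * n, hle hw⟩ : ↥NX) = QuotientGroup.mk ⟨n, hn⟩
    rw [show (⟨M.th w * n, hle hw⟩ : ↥NX) = ⟨M.th w, M.A_le_X0 (M.th_A w)⟩ * ⟨n, hn⟩ from rfl, QuotientGroup.mk_mul,
      (QuotientGroup.eq_one_iff _).mpr (show (⟨M.th w, _⟩ : ↥NX) ∈ M.A.subgroupOf NX from M.th_A w), one_mul]
  obtain ⟨l, hl⟩ := J.quad
  have hXN : M.X0 ≤ J.N1 := le_inf (Subgroup.zpowers_le.mpr (Subgroup.mem_centralizer_singleton_iff.mpr J.comm_y.eq))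
    Subgroup.le_normalizer
  have hker : f.ker = M.X0.subgroupOf J.N1 := by
    ext ⟨n, hn⟩
    rw [MonoidHom.mem_ker, Subgroup.mem_subgroupOf]
    show QuotientGroup.mk (⟨n, hle hn⟩ : ↥NX) = 1 ↔ _
    rw [QuotientGroup.eq_one_iff, Subgroup.mem_subgroupOf]
    refine ⟨fun h => ?_, fun h => M.X0_le h⟩
    obtain ⟨w, hw⟩ := M.mem_A.mp h
    change M.th w = n at hw
    subst hw
    exact J.A_cent hl (Subgroup.mem_centralizer_singleton_iff.mp hn.1)
  have h1 := Subgroup.card_eq_card_quotient_mul_card_subgroup f.ker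
  rw [Nat.card_congr (QuotientGroup.quotientKerEquivOfSurjective f hsurj).toEquiv, Nat.card_congr e.toEquiv,
    Classical.OCount.card_GO_minus (F := ZMod 3) 2 0 1 (by decide +kernel), ZMod.card, hker,
    Nat.card_congr (Subgroup.subgroupOfEquivOfLe hXN).toEquiv, M.X0_card] at h1
  rw [h1]
  decide

include hl

/-- a closed property of the lifts -/
theorem link_all {P : G → Prop} (hstep : ∀ {v w e f}, M.Lf j v e → M.Lf j w f → polar Q7 v w ≠ 0 → P e → P f)
    {v w : V7} {e f : G} (he : M.Lf j v e) (hf : M.Lf j w f) (h : P e) : P f := by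
  have hlf : ∀ i, ∃ f, M.Lf j (frame6 i) f := fun i => J.lift (frame6_In6 i).1 (frame6_In6 i).2
  choose F hF using hlf
  have hlh : ∀ k, ∃ h, M.Lf j (hub k) h := fun k => J.lift (hub_In6 k).1 (hub_In6 k).2
  choose H hH using hlh
  have hb : ∀ k i, polar Q7 (frame6 (four4 k i)) (hub k) ≠ 0 := fun k i => by
    rw [b7_eq]; exact hub_facts.2.1 k i
  have down : ∀ k i, P (H k) → P (F (four4 k i)) := fun k i => hstep (hH k) (hF _) (by rw [polar_comm]; exact hb k i)
  have up : ∀ k i, P (F (four4 k i)) → P (H k) := fun k i => hstep (hF _) (hH k) (hb k i)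
  obtain ⟨i, hi⟩ := frame6_nonorth he.1.2.1 he.2.1
  have ti := hstep he (hF i) (by rw [polar_comm]; exact hi) h
  have h2 : P (F 2) := by
    obtain ⟨k, l', e'⟩ := hub_facts.2.2.2 i
    rw [← e'] at ti
    have tk := up k l' ti
    fin_cases k
    · exact down 0 2 tk
    · exact down 1 0 tk
  obtain ⟨i', hi'⟩ := frame6_nonorth hf.1.2.1 hf.2.1
  refine hstep (hF i') hf hi' ?_
  obtain ⟨k', l'', e''⟩ := hub_facts.2.2.2 i'
  rw [← e'']
  refine down k' l'' ?_
  fin_cases k'
  · exact up 0 2 h2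
  · exact up 1 0 h2

/-- the centralizer is transitive on the members commuting with the product -/
theorem trans_U {m x : G} (hm : m ∈ U D j) (hx : x ∈ U D j) : ∃ g, Commute g j ∧ g * m * g⁻¹ = x := by
  obtain ⟨v, e, he, hs⟩ := J.cover hm
  obtain ⟨w, f, hf, hs'⟩ := J.cover hx
  obtain ⟨t, htT, hte⟩ := QTop.TG_trans M.hD M.prim M.type hl hs.symm
  obtain ⟨t', htT', hte'⟩ := QTop.TG_trans M.hD M.prim M.type hl hs'
  obtain ⟨g, hg, hge⟩ : ∃ g, Commute g j ∧ g * e * g⁻¹ = f := by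
    refine J.link_all hl (P := fun f => ∃ g, Commute g j ∧ g * e * g⁻¹ = f) ?_ he hf ⟨1, Commute.one_left j, by group⟩
    intro v1 w1 e1 f1 h1 h2 hb hP
    obtain ⟨g, hg, hge⟩ := hP
    rcases eq_or_ne e1 f1 with h | hne
    · exact ⟨g, hg, hge.trans h⟩
    have hnc : ¬ Commute e1 f1 := fun h => by
      rcases (J.comm_iff h1 h2).mp h with h | h
      exacts [hne h, hb h]
    have hbd := Pair.braid_of M.hD h1.1.1 h2.1.1 hnc
    refine ⟨e1 * f1 * e1 * g, ((h1.2.2.symm.mul_left h2.2.2.symm).mul_left h1.2.2.symm).mul_left hg, ?_⟩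
    rw [show e1 * f1 * e1 * g * e * (e1 * f1 * e1 * g)⁻¹ = e1 * f1 * e1 * (g * e * g⁻¹) * (e1 * f1 * e1)⁻¹ by group,
      hge]
    simp only [mul_inv_rev, inv_eq_of_mul_eq_one_right hbd.aa, inv_eq_of_mul_eq_one_right hbd.dd]
    calc e1 * f1 * e1 * e1 * (e1 * (f1 * e1)) = e1 * f1 * (e1 * e1) * (e1 * f1 * e1) := by group
      _ = e1 * f1 * (f1 * e1 * f1) := by rw [hbd.aa, mul_one, hbd.br]
      _ = e1 * (f1 * f1) * e1 * f1 := by group
      _ = f1 := by rw [hbd.dd, mul_one, hbd.aa, one_mul]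
  refine ⟨t' * g * t, (htT'.1.mul_left hg).mul_left htT.1, ?_⟩
  rw [show t' * g * t * m * (t' * g * t)⁻¹ = t' * (g * (t * m * t⁻¹) * g⁻¹) * t'⁻¹ by group, hte, hge, hte']

/-- the order of the centralizer of the product -/
theorem card_cent : Nat.card (Subgroup.centralizer ({j} : Set G)) = 504 * 6 * 106168320 := by
  classical
  have hD := M.hD
  set C := Subgroup.centralizer ({j} : Set G)
  have hC : ∀ {g}, g ∈ C ↔ Commute g j := Subgroup.mem_centralizer_singleton_iff
  obtain ⟨e, he⟩ := J.lift (frame6_In6 0).1 (frame6_In6 0).2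
  obtain ⟨t, htq, het⟩ := QTop.exists_quad hD M.prim M.type hl (J.mem_U he)
  obtain ⟨p, q, r, hg, -⟩ := htq.front het
  obtain ⟨hn, hmem, hcom⟩ := id hg.1
  simp only [List.nodup_cons, List.mem_cons, List.not_mem_nil, or_false, not_or, List.nodup_nil, and_true,
    not_false_eq_true] at hn
  have s1 := Nine.orbit_step C (U D j) (J.mem_U he)
    (fun s hs w hw => QTop.U_conj hD hw (hC.mp hs))
    (fun w hw => (J.trans_U hl (J.mem_U he) hw).imp fun g hg => ⟨hC.mpr hg.1, hg.2⟩)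
  rw [QTop.card_U hD M.prim M.type hl] at s1
  have hsib : ∀ {g}, Commute g j → Commute g e → ∀ x ∈ [e, p, q, r], g * x * g⁻¹ ∈ [e, p, q, r] := by
    intro g hgj hge x hx
    have h1 : Sib D j (g * e * g⁻¹) (g * x * g⁻¹) :=
      Sib.conj hD ⟨_, hg, by simp, hx⟩ hgj
    rw [hge.eq, mul_inv_cancel_right] at h1
    exact (Sib.iff hD M.prim M.type hg (by simp) _).mp h1
  set y := M.th x2
  have hye := J.fixed he
  have ysib : ∀ {x}, x ∈ [p, q, r] → y * x * y⁻¹ ∈ [p, q, r] ∧ y * x * y⁻¹ ≠ x := by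
    intro x hx
    have hne : x ≠ e := fun h => by
      subst h
      simp [hn.1.1, hn.1.2.1, hn.1.2.2] at hx
    refine ⟨?_, J.y_free hl he ⟨_, hg, by simp, List.mem_cons_of_mem _ hx⟩ hne⟩
    rcases List.mem_cons.mp (hsib J.comm_y hye x (List.mem_cons_of_mem _ hx)) with h | h
    · exact absurd (mul_left_cancel (mul_right_cancel (h.trans (by rw [hye.eq, mul_inv_cancel_right] :
        e = y * e * y⁻¹)))) hne
    · exact h
  have ycyc : y * (y * p * y⁻¹) * y⁻¹ ≠ p := fun h => (ysib (x := p) (by simp)).2 (by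
    have h3 := M.th_cube x2
    rw [pow_succ, pow_two] at h3
    conv_lhs => rw [← h]
    rw [show y * (y * (y * p * y⁻¹) * y⁻¹) * y⁻¹ = (y * y * y) * p * (y * y * y)⁻¹ by group, h3, one_mul, inv_one,
      mul_one])
  obtain ⟨h11, h12⟩ := ysib (x := p) (by simp)
  obtain ⟨h21, h22⟩ := ysib h11
  have s2 := Nine.orbit_step (C ⊓ Subgroup.centralizer ({e} : Set G)) ({p, q, r} : Set G) (v := p) (by simp)
    (fun s hs w hw => by
      have hw' : w ∈ [p, q, r] := by simpa using hw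
      rcases List.mem_cons.mp (hsib (hC.mp hs.1) (Nine.mem_cent.mp hs.2) w (List.mem_cons_of_mem _ hw')) with h | h
      · exfalso
        have h2 : s * e * s⁻¹ = e := by rw [(Nine.mem_cent.mp hs.2).eq, mul_inv_cancel_right]
        have := mul_left_cancel (mul_right_cancel (h.trans h2.symm))
        subst this
        simp [hn.1.1, hn.1.2.1, hn.1.2.2] at hw'
      · simpa using h)
    (fun w hw => by
      have hw' : w ∈ [p, q, r] := by simpa using hw
      have hys : y ∈ C ⊓ Subgroup.centralizer ({e} : Set G) := ⟨hC.mpr J.comm_y, Nine.mem_cent.mpr hye⟩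
      have hperm := (List.subperm_of_subset (l₁ := [p, y * p * y⁻¹, y * (y * p * y⁻¹) * y⁻¹])
        (by simp [Ne.symm h12, Ne.symm h22, Ne.symm ycyc]) (l₂ := [p, q, r]) (by
          intro u hu
          simp only [List.mem_cons, List.not_mem_nil, or_false] at hu
          rcases hu with e1 | e1 | e1 <;> rw [e1]
          exacts [by simp, h11, h21])).perm_of_length_le (by simp)
      have := hperm.mem_iff.mpr hw'
      simp only [List.mem_cons, List.not_mem_nil, or_false] at this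
      rcases this with e1 | e1 | e1 <;> rw [e1]
      · exact ⟨1, one_mem _, by group⟩
      · exact ⟨y, hys, rfl⟩
      · exact ⟨y * y, mul_mem hys hys, by group⟩)
  have h3 : ({p, q, r} : Set G).ncard = 3 :=
    Set.ncard_eq_three.mpr ⟨p, q, r, hn.2.1.1, hn.2.1.2, hn.2.2, rfl⟩
  rw [h3] at s2
  -- an element interchanging two
  obtain ⟨n, hnN, hne, hny⟩ : ∃ n, n ∈ J.N1 ∧ Commute n e ∧ n * y * n⁻¹ = y⁻¹ := by
    have htv : Q7 tv = 2 := (q7_eq _).trans tv_facts.1
    have hk : rf Q7 tv * rf Q7 x2 ∈ cg Q7 := (Subgroup.mul_mem_iff_of_index_two (index_cg Q7_pnd dim7_le)).mpr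
      ⟨fun h => absurd h (two_not_cg Q7_pnd dim7_le htv),
        fun h => absurd h (two_not_cg Q7_pnd dim7_le x2_facts.1)⟩
    obtain ⟨n, hn, hz⟩ := M.realise hk
    have hx : n * y * n⁻¹ = y⁻¹ := by
      show n * M.th x2 * n⁻¹ = _
      rw [hz, ← M.th_neg]
      congr 1
      show (rf Q7 tv).1 ((rf Q7 x2).1 x2) = -x2
      rw [show (rf Q7 x2).1 x2 = -x2 from Classical.ORefl.refl_self (by rw [x2_facts.1]; decide), map_neg,
        show (rf Q7 tv).1 x2 = x2 from Classical.ORefl.refl_fix (by rw [b7_eq]; exact tv_facts.2.2.1)]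
    have hnX : n ∈ Subgroup.normalizer (M.X0 : Set G) := by
      rw [Subgroup.mem_normalizer_iff_map_conj_eq]
      refine Subgroup.eq_of_le_of_card_ge ?_ (le_of_eq (M23Rel.Threes.card_map_conj _ _).symm)
      rw [Subgroup.map_le_iff_le_comap]
      exact Subgroup.zpowers_le.mpr (show n * M.th x2 * n⁻¹ ∈ M.X0 from hx ▸ inv_mem y_mem)
    obtain ⟨w, hw⟩ := J.adjust hnX
    refine ⟨_, hw, ?_, ?_⟩
    · have hk' : (M.rhoI ⟨M.th w * n, M.norm_le hw.2⟩).1 (frame6 0) = frame6 0 := M.th_inj (by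
        rw [M.rhoI_spec]
        show M.th w * n * M.th (frame6 0) * (M.th w * n)⁻¹ = _
        rw [show M.th w * n * M.th (frame6 0) * (M.th w * n)⁻¹ =
          M.th w * (n * M.th (frame6 0) * n⁻¹) * (M.th w)⁻¹ by group, hz, M.th_conj_A]
        congr 1
        show (rf Q7 tv).1 ((rf Q7 x2).1 (frame6 0)) = frame6 0
        rw [show (rf Q7 x2).1 (frame6 0) = frame6 0 from Classical.ORefl.refl_fix (frame6_In6 0).2,
          show (rf Q7 tv).1 (frame6 0) = frame6 0 from Classical.ORefl.refl_fix (by rw [b7_eq]; exact tv_facts.2.2.2.1)])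
      have h1 := M.ref_conj (M.norm_le hw.2) he.1
      rw [hk'] at h1
      have h2 : Commute j (M.th w * n * e * (M.th w * n)⁻¹) :=
        (QTop.U_conj hD (J.mem_U he) (hC.mp hw.1)).2
      exact mul_inv_eq_iff_eq_mul.mp (M.lift_unique J.act ⟨h1, he.2.1, h2⟩ he)
    · rw [show M.th w * n * y * (M.th w * n)⁻¹ = M.th w * (n * y * n⁻¹) * (M.th w)⁻¹ by group, hx, ← M.th_neg]
      exact M.th_conj_A w (-x2)
  obtain ⟨g, hgj, hge, hgp, hgq⟩ : ∃ g, Commute g j ∧ Commute g e ∧ Commute g p ∧ g * q * g⁻¹ ≠ q := by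
    have hnp := hsib (hC.mp hnN.1) hne p (by simp)
    -- adjust by a power of the element of order three
    obtain ⟨u, hu, hyu⟩ : ∃ u, (∃ i : ℕ, u = y ^ i * n) ∧ u * p * u⁻¹ = p := by
      have hne' : n * p * n⁻¹ ≠ e := fun h => hn.1.1 (mul_left_cancel (mul_right_cancel
        ((show n * e * n⁻¹ = e by rw [hne.eq, mul_inv_cancel_right]).trans h.symm)))
      have hnp' : n * p * n⁻¹ ∈ [p, y * p * y⁻¹, y * (y * p * y⁻¹) * y⁻¹] := by
        have hperm := (List.subperm_of_subset (l₁ := [p, y * p * y⁻¹, y * (y * p * y⁻¹) * y⁻¹])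
          (by simp [Ne.symm h12, Ne.symm h22, Ne.symm ycyc]) (l₂ := [p, q, r]) (by
            intro u hu
            simp only [List.mem_cons, List.not_mem_nil, or_false] at hu
            rcases hu with e1 | e1 | e1 <;> rw [e1]
            exacts [by simp, h11, h21])).perm_of_length_le (by simp)
        exact hperm.mem_iff.mpr ((List.mem_cons.mp hnp).resolve_left hne')
      have h3' : y ^ 3 = 1 := M.th_cube x2
      simp only [List.mem_cons, List.not_mem_nil, or_false] at hnp'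
      rcases hnp' with e1 | e1 | e1
      · exact ⟨n, ⟨0, by simp⟩, e1⟩
      · refine ⟨y ^ 2 * n, ⟨2, rfl⟩, ?_⟩
        rw [show y ^ 2 * n * p * (y ^ 2 * n)⁻¹ = y ^ 2 * (n * p * n⁻¹) * (y ^ 2)⁻¹ by group, e1,
          show y ^ 2 * (y * p * y⁻¹) * (y ^ 2)⁻¹ = y ^ 3 * p * (y ^ 3)⁻¹ by group, h3', one_mul, inv_one, mul_one]
      · refine ⟨y ^ 1 * n, ⟨1, rfl⟩, ?_⟩
        rw [show y ^ 1 * n * p * (y ^ 1 * n)⁻¹ = y * (n * p * n⁻¹) * y⁻¹ by group, e1,
          show y * (y * (y * p * y⁻¹) * y⁻¹) * y⁻¹ = y ^ 3 * p * (y ^ 3)⁻¹ by rw [pow_succ, pow_two]; group, h3', one_mul, inv_one, mul_one]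
    obtain ⟨i, rfl⟩ := hu
    refine ⟨_, (J.comm_y.pow_left i).mul_left (hC.mp hnN.1), (hye.pow_left i).mul_left hne,
      mul_inv_eq_iff_eq_mul.mp hyu, fun hq' => ?_⟩
    -- then it fixes the three and commutes with the element
    set u := y ^ i * n
    have huy : u * y * u⁻¹ = y⁻¹ := by
      rw [show u * y * u⁻¹ = y ^ i * (n * y * n⁻¹) * (y ^ i)⁻¹ by simp only [u]; group, hny]
      group
    have hfix : ∀ x ∈ [p, q, r], u * x * u⁻¹ = x := by
      have hur := hsib (((J.comm_y.pow_left i).mul_left (hC.mp hnN.1))) ((hye.pow_left i).mul_left hne) r (by simp)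
      have hue : u * e * u⁻¹ = e := by rw [((hye.pow_left i).mul_left hne).eq, mul_inv_cancel_right]
      intro x hx
      simp only [List.mem_cons, List.not_mem_nil, or_false] at hx hur
      rcases hx with rfl | rfl | rfl
      · exact hyu
      · exact hq'
      · rcases hur with e1 | e1 | e1 | e1
        · exact absurd (mul_left_cancel (mul_right_cancel (e1.trans hue.symm))) (Ne.symm hn.1.2.2)
        · exact absurd (mul_left_cancel (mul_right_cancel (e1.trans hyu.symm))) (Ne.symm hn.2.1.2)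
        · exact absurd (mul_left_cancel (mul_right_cancel (e1.trans hq'.symm))) (Ne.symm hn.2.2)
        · exact e1
    have h1 : u * (y * p * y⁻¹) * u⁻¹ = y⁻¹ * p * y := by
      rw [show u * (y * p * y⁻¹) * u⁻¹ = (u * y * u⁻¹) * (u * p * u⁻¹) * (u * y * u⁻¹)⁻¹ by group, huy, hyu, inv_inv]
    rw [hfix _ h11] at h1
    refine ycyc ?_
    rw [h1]
    group
  have s3 := Nine.orbit_step (C ⊓ Subgroup.centralizer ({e} : Set G) ⊓ Subgroup.centralizer ({p} : Set G))
    ({q, r} : Set G) (v := q) (by simp)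
    (fun s hs w hw => by
      have hw' : w ∈ [e, p, q, r] := by
        simp only [Set.mem_insert_iff, Set.mem_singleton_iff] at hw
        rcases hw with rfl | rfl <;> simp
      have h := hsib (hC.mp hs.1.1) (Nine.mem_cent.mp hs.1.2) w hw'
      have h2 : s * e * s⁻¹ = e := by rw [(Nine.mem_cent.mp hs.1.2).eq, mul_inv_cancel_right]
      have h3 : s * p * s⁻¹ = p := by rw [(Nine.mem_cent.mp hs.2).eq, mul_inv_cancel_right]
      simp only [List.mem_cons, List.not_mem_nil, or_false] at h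
      simp only [Set.mem_insert_iff, Set.mem_singleton_iff] at hw ⊢
      rcases h with h | h | h | h
      · exfalso
        have := mul_left_cancel (mul_right_cancel (h.trans h2.symm))
        subst this
        rcases hw with h | h
        exacts [hn.1.2.1 h, hn.1.2.2 h]
      · exfalso
        have := mul_left_cancel (mul_right_cancel (h.trans h3.symm))
        subst this
        rcases hw with h | h
        exacts [hn.2.1.1 h, hn.2.1.2 h]
      · exact Or.inl h
      · exact Or.inr h)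
    (fun w hw => by
      simp only [Set.mem_insert_iff, Set.mem_singleton_iff] at hw
      rcases hw with rfl | rfl
      · exact ⟨1, one_mem _, by group⟩
      · refine ⟨g, ⟨⟨hC.mpr hgj, Nine.mem_cent.mpr hge⟩, Nine.mem_cent.mpr hgp⟩, ?_⟩
        have h := hsib hgj hge q (by simp)
        have h2 : g * e * g⁻¹ = e := by rw [hge.eq, mul_inv_cancel_right]
        have h3 : g * p * g⁻¹ = p := by rw [hgp.eq, mul_inv_cancel_right]
        simp only [List.mem_cons, List.not_mem_nil, or_false] at h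
        rcases h with h | h | h | h
        · exact absurd (mul_left_cancel (mul_right_cancel (h.trans h2.symm))) (Ne.symm hn.1.2.1)
        · exact absurd (mul_left_cancel (mul_right_cancel (h.trans h3.symm))) (Ne.symm hn.2.1.1)
        · exact absurd h hgq
        · exact h)
  rw [Set.ncard_pair hn.2.2] at s3
  have heq : C ⊓ Subgroup.centralizer ({e} : Set G) ⊓ Subgroup.centralizer ({p} : Set G) ⊓
      Subgroup.centralizer ({q} : Set G) = Nine.quad e p q r := by
    ext x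
    simp only [Nine.quad, Subgroup.mem_inf, hC, Nine.mem_cent]
    constructor
    · rintro ⟨⟨⟨h1, h2⟩, h3⟩, h4⟩
      refine ⟨⟨⟨h2, h3⟩, h4⟩, ?_⟩
      have e' : r = q⁻¹ * (p⁻¹ * (e⁻¹ * j)) := by rw [← hg.four]; group
      rw [e']
      exact h4.inv_right.mul_right (h3.inv_right.mul_right (h2.inv_right.mul_right h1))
    · rintro ⟨⟨⟨h2, h3⟩, h4⟩, h5⟩
      refine ⟨⟨⟨?_, h2⟩, h3⟩, h4⟩
      rw [← hg.four]
      exact h2.mul_right (h3.mul_right (h4.mul_right h5))
  have ns : ∀ {u v}, v ∈ D → u ≠ v → Commute u v → v ∈ nset D u := fun hv n c => ⟨hv, Ne.symm n, c⟩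
  have hquad := Nine.quad_order hD M.prim M.type (hmem e (by simp))
    (ns (hmem p (by simp)) hn.1.1 (hcom e (by simp) p (by simp)))
    (c := q) ⟨ns (hmem q (by simp)) hn.1.2.1 (hcom e (by simp) q (by simp)),
      ns (hmem q (by simp)) hn.2.1.1 (hcom p (by simp) q (by simp))⟩
    (d := r) ⟨⟨ns (hmem r (by simp)) hn.1.2.2 (hcom e (by simp) r (by simp)),
      ns (hmem r (by simp)) hn.2.1.2 (hcom p (by simp) r (by simp))⟩,
      ns (hmem r (by simp)) hn.2.2 (hcom q (by simp) r (by simp))⟩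
  rw [heq, hquad] at s3
  omega

/-- the order of the four-group subgroup -/
theorem card_T : Nat.card ↥(J.T hl) = 2 ^ 13 := by
  classical
  set C := Subgroup.centralizer ({j} : Set G)
  set T' := (J.T hl).subgroupOf C
  haveI : T'.Normal :=
    ⟨fun t ht' x => QTop.TG_conj M.hD M.prim M.type hl (Subgroup.mem_centralizer_singleton_iff.mp x.2) ht'⟩
  have hN : J.N1 ≤ C := inf_le_left
  have hT : J.T hl ≤ C := fun t ht' => Subgroup.mem_centralizer_singleton_iff.mpr ht'.1.eq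
  set f : ↥J.N1 →* ↥C ⧸ T' := (QuotientGroup.mk' T').comp (Subgroup.inclusion hN)
  have hsurj : Function.Surjective f := by
    intro q
    obtain ⟨⟨g, hg⟩, rfl⟩ := QuotientGroup.mk_surjective q
    obtain ⟨t, htT, n, hn, rfl⟩ := J.cent_split hl (Subgroup.mem_centralizer_singleton_iff.mp hg)
    refine ⟨⟨n, hn⟩, ?_⟩
    show QuotientGroup.mk (⟨n, hN hn⟩ : ↥C) = QuotientGroup.mk ⟨t * n, hg⟩
    rw [show (⟨t * n, hg⟩ : ↥C) = ⟨t, hT htT⟩ * ⟨n, hN hn⟩ from rfl, QuotientGroup.mk_mul,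
      (QuotientGroup.eq_one_iff _).mpr (show (⟨t, hT htT⟩ : ↥C) ∈ T' from htT), one_mul]
  have hker : f.ker = (J.T hl ⊓ J.N1).subgroupOf J.N1 := by
    ext ⟨n, hn⟩
    rw [MonoidHom.mem_ker, Subgroup.mem_subgroupOf]
    show QuotientGroup.mk (⟨n, hN hn⟩ : ↥C) = 1 ↔ _
    rw [QuotientGroup.eq_one_iff]
    exact ⟨fun h => ⟨h, hn⟩, fun h => h.1⟩
  have h1 := Subgroup.card_eq_card_quotient_mul_card_subgroup f.ker
  rw [Nat.card_congr (QuotientGroup.quotientKerEquivOfSurjective f hsurj).toEquiv, hker,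
    Nat.card_congr (Subgroup.subgroupOfEquivOfLe (inf_le_right : J.T hl ⊓ J.N1 ≤ J.N1)).toEquiv, J.T_N1 hl,
    Nat.card_zpowers, orderOf_eq_prime (by rw [pow_two, J.sq]) J.ne_one, J.card_N1] at h1
  have h2 := Subgroup.card_eq_card_quotient_mul_card_subgroup T'
  rw [Nat.card_congr (Subgroup.subgroupOfEquivOfLe hT).toEquiv, J.card_cent hl,
    show Nat.card (↥C ⧸ T') = 39191040 by omega] at h2
  omega

end Mdl.Jd

end Cfsg.Agent.Spor.M24Rel.Sev
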