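import Cfsg.Agent.Lib.Spor.M24RelQOrd
import Cfsg.Agent.Lib.Classical.OrthPOmega

/-!
The orthogonal group of minus type of dimension six over three elements, and the action of the centralizer of
the product of four on it.
-/

set_option autoImplicit false
set_option maxRecDepth 100000
set_option linter.unusedSectionVars false

namespace Cfsg.Agent.Spor.M24Rel.Sev

open Module QuadraticMap
open Cfsg.Agent.Classical.ORefl (Iso polar_iso toMat)
open Cfsg.Agent.Classical.OOmega (rf negI formOf coe_minus)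
open Cfsg.Agent.Classical.OCount (planeForm)
open Cfsg.Agent.Spor.M24Rel.TriAlg
open Cfsg.Agent.Spor.M24Rel.QTop (IsQ Sib U Tr)

theorem plane_aniso : ∀ z₁ z₂ : ZMod 3, z₁ ^ 2 + 0 * z₁ * z₂ + 1 * z₂ ^ 2 = 0 → z₁ = 0 ∧ z₂ = 0 := by
  decide +kernel

theorem Q6_form : Q6 = formOf 2 (Equiv.refl ((Fin 2 ⊕ Fin 2) ⊕ Fin 2)) (planeForm (0 : ZMod 3) 1) :=
  DFunLike.coe_injective (Q6_coe.trans (coe_minus 2 0 1).symm)

theorem card_six : Nat.card ↥(Iso Q6) = 26127360 := by
  rw [Nat.card_congr (toMat Q6).toEquiv, Q6_coe, Classical.OCount.card_GO_minus 2 0 1 plane_aniso, ZMod.card]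
  decide

theorem negI_six : negI Q6 ∈ commutator ↥(Iso Q6) ∧ orderOf (negI Q6) = 2 := by
  constructor
  · rw [Q6_form]
    exact (Classical.OOmega.negI_minus (F := ZMod 3) (by rw [ZMod.card]; decide) (m := 3) (by norm_num) 0 1
      plane_aniso).mpr (by rw [ZMod.card]; norm_num)
  · refine orderOf_eq_prime ?_ fun h => ?_
    · exact Subtype.ext (LinearEquiv.ext fun x => by
        rw [pow_two]; show -(-x) = x; rw [neg_neg])
    · have h1 := congrArg (fun g : ↥(Iso Q6) => g.1 (Pi.single (Sum.inr 0) 1) (Sum.inr 0)) h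
      exact absurd h1 (by show ¬ -(Pi.single (Sum.inr 0) (1 : F3) : I6 → F3) (Sum.inr 0) =
        (Pi.single (Sum.inr 0) (1 : F3) : I6 → F3) (Sum.inr 0); decide +kernel)

instance finite_six : Finite ↥(Iso Q6) := Finite.of_equiv _ (toMat Q6).symm.toEquiv

theorem negI_central (g : ↥(Iso Q6)) : g * negI Q6 = negI Q6 * g :=
  Subtype.ext (LinearEquiv.ext fun x => show g.1 (-x) = -g.1 x from map_neg _ _)

theorem omega_six : (commutator ↥(Iso Q6)).index = 4 ∧
    Nat.card ↥(Subgroup.center ↥(commutator ↥(Iso Q6))) = 2 := by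
  constructor
  · have h : (Cfsg.Omega (ZMod 3) ⇑Q6).index = 4 :=
      Classical.OOmega.index_omega_odd (by decide) (by
        rw [Q6_form]; exact Classical.OOmega.formOf_pnd (Classical.OOmega.pnd_plane plane_aniso)) (by simp)
    rwa [Classical.OOmega.omega_eq_map, MulEquiv.toMonoidHom_eq_coe, Subgroup.index_map_equiv] at h
  · rw [Q6_form, Classical.OOmega.card_center_standard (Classical.OOmega.pnd_plane plane_aniso) (by norm_num)
      (by simp)]
    rw [if_pos ⟨Q6_form ▸ negI_six.1, by decide⟩]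

/-- the sign subgroup -/
noncomputable def Zs : Subgroup ↥(Iso Q6) := Subgroup.zpowers (negI Q6)

theorem Zs_card : Nat.card ↥Zs = 2 := (Nat.card_zpowers _).trans negI_six.2

instance Zs_normal : Zs.Normal := ⟨fun n hn g => by
  obtain ⟨i, rfl⟩ := Subgroup.mem_zpowers_iff.mp hn
  rw [((show Commute g (negI Q6) from negI_central g).zpow_right i).eq, mul_inv_cancel_right]
  exact Subgroup.zpow_mem _ (Subgroup.mem_zpowers _) i⟩

/-- the image of the derived group modulo the signs -/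
noncomputable def Om : Subgroup (↥(Iso Q6) ⧸ Zs) := commutator (↥(Iso Q6) ⧸ Zs)

theorem Om_eq : Om = (commutator ↥(Iso Q6)).map (QuotientGroup.mk' Zs) := by
  rw [Om, commutator_def, commutator_def, Subgroup.map_commutator,
    Subgroup.map_top_of_surjective _ (QuotientGroup.mk'_surjective Zs)]

theorem Om_card : Nat.card ↥Om = 3265920 ∧ Nat.card (↥(Iso Q6) ⧸ Zs) = 13063680 := by
  have hq : Nat.card (↥(Iso Q6) ⧸ Zs) = 13063680 := by
    have := Subgroup.card_eq_card_quotient_mul_card_subgroup Zs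
    rw [card_six, Zs_card] at this
    omega
  refine ⟨?_, hq⟩
  have h1 : Om.index = 4 := by
    rw [Om_eq, Subgroup.index_map_eq _ (QuotientGroup.mk'_surjective Zs) (by
      rw [QuotientGroup.ker_mk']; exact Subgroup.zpowers_le.mpr negI_six.1), omega_six.1]
  have h2 := Subgroup.card_mul_index Om
  rw [h1, hq] at h2
  omega

theorem Om_iso : Nonempty (↥Om ≃* Cfsg.POmega (ZMod 3) (Cfsg.quadFormMinus 2 (ZMod 3) 0 1)) := by
  set W := commutator ↥(Iso Q6)
  set f : ↥W →* ↥Om := ((QuotientGroup.mk' Zs).comp W.subtype).codRestrict Om fun w =>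
    Om_eq.symm ▸ Subgroup.mem_map_of_mem _ w.2
  have hsurj : Function.Surjective f := fun x => by
    obtain ⟨w, hw, e⟩ := (Om_eq ▸ x.2 : (x : ↥(Iso Q6) ⧸ Zs) ∈ W.map (QuotientGroup.mk' Zs))
    exact ⟨⟨w, hw⟩, Subtype.ext e⟩
  have hker : f.ker = Subgroup.center ↥W := by
    have hle : f.ker ≤ Subgroup.center ↥W := fun w hw => by
      have h1 : (w : ↥(Iso Q6)) ∈ Zs := (QuotientGroup.eq_one_iff _).mp (congrArg Subtype.val hw)
      obtain ⟨i, hi⟩ := Subgroup.mem_zpowers_iff.mp h1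
      refine Subgroup.mem_center_iff.mpr fun v => Subtype.ext ?_
      show (v : ↥(Iso Q6)) * (w : ↥(Iso Q6)) = (w : ↥(Iso Q6)) * (v : ↥(Iso Q6))
      rw [← hi]
      exact ((show Commute (v : ↥(Iso Q6)) (negI Q6) from negI_central _).zpow_right i).eq
    refine Subgroup.eq_of_le_of_card_ge hle ?_
    rw [omega_six.2]
    refine le_trans (le_of_eq Zs_card.symm) (Nat.card_le_card_of_injective (fun z : ↥Zs =>
      (⟨⟨z.1, Subgroup.zpowers_le.mpr negI_six.1 z.2⟩, Subtype.ext ((QuotientGroup.eq_one_iff _).mpr z.2)⟩ : f.ker))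
      fun a b h => Subtype.ext (congrArg (fun t : f.ker => (t.1 : ↥(Iso Q6))) h))
  let e1 : ↥Om ≃* ↥W ⧸ Subgroup.center ↥W :=
    (QuotientGroup.quotientKerEquivOfSurjective f hsurj).symm.trans (QuotientGroup.quotientMulEquivOfEq hker)
  let e : ↥W ≃* ↥(Cfsg.Omega (ZMod 3) ⇑Q6) :=
    (W.equivMapOfInjective _ (toMat Q6).injective).trans
      (MulEquiv.subgroupCongr (Classical.OOmega.omega_eq_map (Q := Q6)).symm)
  have hmap : (Subgroup.center ↥W).map e.toMonoidHom = Subgroup.center _ := by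
    ext y
    rw [Subgroup.mem_map]
    constructor
    · rintro ⟨x, hx, rfl⟩
      exact Subgroup.mem_center_iff.mpr fun u => by
        obtain ⟨v, rfl⟩ := e.surjective u
        show e v * e x = e x * e v
        rw [← map_mul, ← map_mul, Subgroup.mem_center_iff.mp hx v]
    · intro hy
      refine ⟨e.symm y, Subgroup.mem_center_iff.mpr fun v => e.injective ?_, e.apply_symm_apply y⟩
      rw [map_mul, map_mul, e.apply_symm_apply]
      exact Subgroup.mem_center_iff.mp hy (e v)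
  refine ⟨e1.trans ((QuotientGroup.congr _ _ e hmap).trans ?_)⟩
  rw [Q6_coe]

variable {G : Type*} [Group G] [Finite G] {D : Set G} {a d : G}

namespace Mdl.Jd

variable {M : Mdl D a d} {j : G} (J : M.Jd j) {l : List G} (hl : IsQ D j l)

include J hl

/-- the action of the normalizer part on the complement -/
theorem exists_psi : ∃ ψ : ↥J.N1 →* ↥(Iso Q6), Function.Surjective ψ ∧
    (∀ n : ↥J.N1, ψ n = 1 ↔ (n : G) ∈ M.X0) ∧ (∀ n : ↥J.N1, (n : G) = j → ψ n = negI Q6) := by
  classical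
  have hNX : J.N1 ≤ M.Nm := fun n hn => M.norm_le hn.2
  let r : ↥J.N1 →* ↥(Iso Q7) := M.rhoI.comp (Subgroup.inclusion hNX)
  have hr2 : ∀ n : ↥J.N1, (r n).1 x2 = x2 ∨ (r n).1 x2 = -x2 := by
    intro n
    have h1 : M.th ((r n).1 x2) ∈ M.X0 := by
      rw [show M.th ((r n).1 x2) = (n : G) * M.th x2 * (n : G)⁻¹ from M.rhoI_spec _ x2]
      exact (Subgroup.mem_normalizer_iff.mp n.2.2 _).mp (Subgroup.mem_zpowers _)
    obtain ⟨k, hk⟩ := Subgroup.mem_zpowers_iff.mp h1
    rw [← Int.mul_ediv_add_emod k 3, zpow_add, zpow_mul,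
      show M.th x2 ^ (3 : ℤ) = 1 by exact_mod_cast M.th_cube x2, one_zpow, one_mul] at hk
    rcases (by omega : k % 3 = 0 ∨ k % 3 = 1 ∨ k % 3 = 2) with h | h | h <;> rw [h] at hk
    · exfalso
      rw [zpow_zero] at hk
      exact x2_ne ((r n).1.injective ((M.th_eq_one hk.symm).trans (map_zero _).symm))
    · rw [zpow_one] at hk; exact Or.inl (M.th_inj hk.symm)
    · refine Or.inr (M.th_inj ?_)
      rw [← hk, M.th_neg]
      refine (inv_eq_of_mul_eq_one_right ?_).symm
      show M.th x2 * M.th x2 ^ ((2 : ℕ) : ℤ) = 1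
      rw [zpow_natCast, ← pow_succ']
      exact M.th_cube x2
  have h6 : ∀ (n : ↥J.N1) v, In6 ((r n).1 (eta v)) := fun n v => by
    have h : polar Q7 ((r n).1 x2) ((r n).1 (eta v)) = 0 := by rw [polar_iso (r n).2]; exact eta_In6 v
    rcases hr2 n with e | e <;> rw [e] at h
    · exact h
    · rwa [polar_neg_left, neg_eq_zero] at h
  have hlin : ∀ n : ↥J.N1, Function.Injective (pi6 ∘ₗ (r n).1.toLinearMap ∘ₗ eta) := fun n v w h => by
    have h' := congrArg eta h
    simp only [LinearMap.comp_apply, LinearEquiv.coe_coe, eta_pi6 (h6 n _)] at h'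
    rw [← pi6_eta v, (r n).1.injective h', pi6_eta]
  let ψ : ↥J.N1 →* ↥(Iso Q6) :=
    { toFun := fun n => ⟨LinearEquiv.ofBijective _ ⟨hlin n, Finite.surjective_of_injective (hlin n)⟩, fun v => by
        show Q7 (eta (pi6 ((r n).1 (eta v)))) = Q7 (eta v)
        rw [eta_pi6 (h6 n v), (r n).2]⟩
      map_one' := Subtype.ext (LinearEquiv.ext fun v => by
        show pi6 ((r 1).1 (eta v)) = v
        rw [map_one]; exact pi6_eta v)
      map_mul' := fun m n => Subtype.ext (LinearEquiv.ext fun v => by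
        show pi6 ((r (m * n)).1 (eta v)) = pi6 ((r m).1 (eta (pi6 ((r n).1 (eta v)))))
        rw [eta_pi6 (h6 n v), map_mul]; rfl) }
  have hker : ∀ n : ↥J.N1, ψ n = 1 ↔ (n : G) ∈ M.X0 := by
    intro n
    constructor
    · intro hn
      have hv : ∀ v, (r n).1 (eta v) = eta v := fun v => by
        rw [← eta_pi6 (h6 n v)]
        exact congrArg eta (congrArg (fun g : ↥(Iso Q6) => g.1 v) hn)
      have hA : (n : G) ∈ M.A := by
        refine M.ker_rho (n := Subgroup.inclusion hNX n) (Subtype.ext (LinearEquiv.ext fun z => ?_))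
        show (r n).1 z = z
        rcases hr2 n with e | e
        · conv_lhs => rw [split6 z, map_add, map_smul, hv, e]
          exact (split6 z).symm
        · exfalso
          refine two_not_cg Q7_pnd dim7_le x2_facts.1 ?_
          suffices h : rf Q7 x2 = r n by rw [h, ← M.rho_range]; exact ⟨_, rfl⟩
          refine Subtype.ext (LinearEquiv.ext fun w => ?_)
          conv_lhs => rw [split6 w, map_add, map_smul]
          conv_rhs => rw [split6 w, map_add, map_smul, hv, e]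
          show Classical.ORefl.refl Q7 x2 _ + _ • Classical.ORefl.refl Q7 x2 x2 = _
          rw [Classical.ORefl.refl_fix (eta_In6 _), Classical.ORefl.refl_self (by rw [x2_facts.1]; decide)]
      obtain ⟨w, hw⟩ := M.mem_A.mp hA
      have hc : Commute (n : G) j := Subgroup.mem_centralizer_singleton_iff.mp n.2.1
      rw [← hw] at hc ⊢
      exact J.A_cent hl hc
    · intro hn
      obtain ⟨w, hw⟩ := M.mem_A.mp (M.X0_le hn)
      have h1 : r n = 1 := M.rhoI_eq fun z => by
        show (n : G) * M.th z * (n : G)⁻¹ = M.th z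
        rw [← show M.th w = (n : G) from hw, M.th_conj_A]
      refine Subtype.ext (LinearEquiv.ext fun v => ?_)
      show pi6 ((r n).1 (eta v)) = v
      rw [h1]; exact pi6_eta v
  refine ⟨ψ, ?_, hker, fun n hn => Subtype.ext (LinearEquiv.ext fun v => ?_)⟩
  · have hk : Nat.card ψ.ker = 3 := by
      have e : ψ.ker = M.X0.subgroupOf J.N1 := by
        ext n; exact hker n
      rw [e, Nat.card_congr (Subgroup.subgroupOfEquivOfLe (show M.X0 ≤ J.N1 from le_inf (Subgroup.zpowers_le.mpr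
        (Subgroup.mem_centralizer_singleton_iff.mpr J.comm_y.eq)) Subgroup.le_normalizer)).toEquiv,
        M.X0_card]
    have h1 := Subgroup.card_eq_card_quotient_mul_card_subgroup ψ.ker
    rw [J.card_N1, hk, Nat.card_congr (QuotientGroup.quotientKerEquivRange ψ).toEquiv] at h1
    haveI : Finite ↥(Iso Q6) := Finite.of_equiv _ (toMat Q6).symm.toEquiv
    exact MonoidHom.range_eq_top.mp (Subgroup.eq_top_of_le_card _ (by rw [card_six]; omega))
  · show pi6 ((r n).1 (eta v)) = -v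
    rw [show (r n).1 (eta v) = -eta v from M.th_inj (by
      rw [show M.th ((r n).1 (eta v)) = (n : G) * M.th (eta v) * (n : G)⁻¹ from M.rhoI_spec _ _, hn, J.act,
        sig_In6 (eta_In6 v)]), map_neg, pi6_eta]

/-- the action of the centralizer on the complement modulo signs -/
theorem exists_phi : ∃ Φ : ↥(Subgroup.centralizer ({j} : Set G)) →* ↥(Iso Q6) ⧸ Zs, Function.Surjective Φ ∧
    Φ.ker = (J.T hl ⊔ M.X0).subgroupOf (Subgroup.centralizer ({j} : Set G)) := by
  classical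
  obtain ⟨ψ, hψs, hψk, hψj⟩ := J.exists_psi hl
  set C := Subgroup.centralizer ({j} : Set G)
  set T' := (J.T hl).subgroupOf C
  haveI : T'.Normal :=
    ⟨fun t ht' x => QTop.TG_conj M.hD M.prim M.type hl (Subgroup.mem_centralizer_singleton_iff.mp x.2) ht'⟩
  have hN : J.N1 ≤ C := inf_le_left
  have hT : J.T hl ≤ C := fun t ht' => Subgroup.mem_centralizer_singleton_iff.mpr ht'.1.eq
  set f : ↥J.N1 →* ↥C ⧸ T' := (QuotientGroup.mk' T').comp (Subgroup.inclusion hN)
  have hsplit : ∀ g : ↥C, ∃ n : ↥J.N1, f n = QuotientGroup.mk g := by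
    rintro ⟨g, hg⟩
    obtain ⟨t, htT, n, hn, rfl⟩ := J.cent_split hl (Subgroup.mem_centralizer_singleton_iff.mp hg)
    refine ⟨⟨n, hn⟩, ?_⟩
    show QuotientGroup.mk (⟨n, hN hn⟩ : ↥C) = QuotientGroup.mk ⟨t * n, hg⟩
    rw [show (⟨t * n, hg⟩ : ↥C) = ⟨t, hT htT⟩ * ⟨n, hN hn⟩ from rfl, QuotientGroup.mk_mul,
      (QuotientGroup.eq_one_iff _).mpr (show (⟨t, hT htT⟩ : ↥C) ∈ T' from htT), one_mul]
  have hsurj : Function.Surjective f := fun q => by
    obtain ⟨g, rfl⟩ := QuotientGroup.mk_surjective q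
    exact hsplit g
  set g0 : ↥J.N1 →* ↥(Iso Q6) ⧸ Zs := (QuotientGroup.mk' Zs).comp ψ
  have hfk : ∀ n : ↥J.N1, f n = 1 ↔ (n : G) ∈ Subgroup.zpowers j := fun n => by
    show QuotientGroup.mk (⟨n.1, hN n.2⟩ : ↥C) = 1 ↔ _
    rw [QuotientGroup.eq_one_iff, ← J.T_N1 hl]
    exact ⟨fun h => ⟨h, n.2⟩, fun h => h.1⟩
  have hjN : j ∈ J.N1 := (J.T_N1 hl ▸ Subgroup.mem_zpowers j : j ∈ J.T hl ⊓ J.N1).2
  have hle : f.ker ≤ g0.ker := fun n hn => by
    obtain ⟨i, hi⟩ := Subgroup.mem_zpowers_iff.mp ((hfk n).mp hn)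
    have e : n = ⟨j, hjN⟩ ^ i := Subtype.ext (by rw [SubgroupClass.coe_zpow]; exact hi.symm)
    rw [MonoidHom.mem_ker, e, map_zpow]
    show (QuotientGroup.mk' Zs (ψ ⟨j, hjN⟩)) ^ i = 1
    rw [hψj ⟨j, hjN⟩ rfl, QuotientGroup.mk'_apply, (QuotientGroup.eq_one_iff (N := Zs) _).mpr (Subgroup.mem_zpowers _), one_zpow]
  set h0 := f.liftOfSurjective hsurj ⟨g0, hle⟩
  have hh0 : ∀ n, h0 (f n) = g0 n := fun n => MonoidHom.liftOfRightInverse_comp_apply _ _ _ _ _
  refine ⟨h0.comp (QuotientGroup.mk' T'), fun q => ?_, ?_⟩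
  · obtain ⟨u, rfl⟩ := QuotientGroup.mk_surjective q
    obtain ⟨n, rfl⟩ := hψs u
    exact ⟨Subgroup.inclusion hN n, hh0 n⟩
  · ext g
    rw [MonoidHom.mem_ker, Subgroup.mem_subgroupOf]
    obtain ⟨n, hn⟩ := hsplit g
    show h0 (QuotientGroup.mk g) = 1 ↔ _
    rw [← hn, hh0]
    have hcoset : (g : G)⁻¹ * n ∈ J.T hl := (QuotientGroup.eq.mp hn.symm : g⁻¹ * ⟨n.1, hN n.2⟩ ∈ T')
    constructor
    · intro h
      obtain ⟨i, hi⟩ := Subgroup.mem_zpowers_iff.mp ((QuotientGroup.eq_one_iff (N := Zs) _).mp h : ψ n ∈ Zs)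
      have h1 : ψ (n * (⟨j, hjN⟩ ^ i)⁻¹) = 1 := by
        rw [map_mul, map_inv, map_zpow, hψj ⟨j, hjN⟩ rfl, hi, mul_inv_cancel]
      have h2 := (hψk _).mp h1
      simp only [Subgroup.coe_mul, Subgroup.coe_inv, SubgroupClass.coe_zpow] at h2
      have hji : j ^ i ∈ J.T hl := Subgroup.zpow_mem _ (J.j_T hl) i
      have : (g : G) = (n : G) * (j ^ i)⁻¹ * (j ^ i) * ((g : G)⁻¹ * n)⁻¹ := by group
      rw [this]
      exact mul_mem (mul_mem (Subgroup.mem_sup_right h2) (Subgroup.mem_sup_left hji))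
        (Subgroup.mem_sup_left (inv_mem hcoset))
    · intro h
      have hnS : (n : G) ∈ J.T hl ⊔ M.X0 := by
        have := mul_mem h (Subgroup.mem_sup_left (T := M.X0) hcoset)
        rwa [mul_inv_cancel_left] at this
      rw [← J.K_eq hl] at hnS
      have h3 := J.KN1 hl hnS n.2
      refine (QuotientGroup.eq_one_iff (N := Zs) _).mpr ?_
      have hle3 : M.X0 ⊔ Subgroup.zpowers j ≤ (Zs.comap ψ).map J.N1.subtype := by
        refine sup_le (fun x hx => ?_) (Subgroup.zpowers_le.mpr ⟨⟨j, hjN⟩, ?_, rfl⟩)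
        · have hxN : x ∈ J.N1 := (le_inf (Subgroup.zpowers_le.mpr
            (Subgroup.mem_centralizer_singleton_iff.mpr J.comm_y.eq)) Subgroup.le_normalizer : M.X0 ≤ J.N1) hx
          exact ⟨⟨x, hxN⟩, show ψ ⟨x, hxN⟩ ∈ Zs by rw [(hψk ⟨x, hxN⟩).mpr hx]; exact one_mem _, rfl⟩
        · show ψ ⟨j, hjN⟩ ∈ Zs
          rw [hψj ⟨j, hjN⟩ rfl]; exact Subgroup.mem_zpowers _
      obtain ⟨n', hn', e'⟩ := hle3 h3
      rwa [Subtype.ext e'] at hn'

end Mdl.Jd

end Cfsg.Agent.Spor.M24Rel.Sev
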