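import Cfsg.Agent.Lib.Spor.M24RelQCen
import Cfsg.Agent.Lib.Spor.M24RelOrdTri
import Cfsg.Agent.Lib.Spor.M24RelSevenQuad
import Cfsg.Agent.Lib.Spor.M23RelTop

/-!
The quadruples of commuting members with a given product in a group of type M(24): they partition the members
commuting with the product, and only the powers of the product centralize those.
-/

set_option autoImplicit false
set_option maxRecDepth 100000
set_option linter.unusedSectionVars false

namespace Cfsg.Agent.Spor.M24Rel.QTop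

open Cfsg.Agent.Spor.M22U (nset orth)
open Cfsg.Agent.Spor.M22U.InvClasses (Good)
open Cfsg.Agent.Spor.M23Rel
open Cfsg.Agent.Spor.M24Rel.Ord3 (com3 Co Adj)

variable {G : Type*} [Group G] [Finite G] {D : Set G} {j : G}

/-- a quadruple with the product -/
def IsQ (D : Set G) (j : G) (l : List G) : Prop := Good D l ∧ l.length = 4 ∧ l.prod = j

/-- two members of one quadruple -/
def Sib (D : Set G) (j m x : G) : Prop := ∃ l, IsQ D j l ∧ m ∈ l ∧ x ∈ l

/-- the members commuting with the product -/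
def U (D : Set G) (j : G) : Set G := {y | y ∈ D ∧ Commute j y}

theorem good_prod_comm {l : List G} (hl : Good D l) {m : G} (hm : m ∈ l) : Commute m l.prod :=
  Commute.list_prod_right l m fun x hx => hl.2.2 m hm x hx

theorem IsQ.mem_U {l : List G} (hl : IsQ D j l) {m : G} (hm : m ∈ l) : m ∈ U D j :=
  ⟨hl.1.2.1 m hm, hl.2.2 ▸ (good_prod_comm hl.1 hm).symm⟩

theorem IsQ.perm {l l' : List G} (hl : IsQ D j l) (h : l'.Perm l) : IsQ D j l' := by
  obtain ⟨⟨hn, hm, hc⟩, h4, hp⟩ := hl
  refine ⟨⟨h.nodup_iff.mpr hn, fun x hx => hm x (h.mem_iff.mp hx),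
    fun x hx y hy => hc x (h.mem_iff.mp hx) y (h.mem_iff.mp hy)⟩, h.length_eq.trans h4, ?_⟩
  rw [h.prod_eq' (List.pairwise_of_forall_mem_list fun a ha b hb => hc a (h.mem_iff.mp ha) b (h.mem_iff.mp hb)), hp]

/-- a quadruple with a given member in front -/
theorem IsQ.front {l : List G} (hl : IsQ D j l) {m : G} (hm : m ∈ l) :
    ∃ p q r, IsQ D j [m, p, q, r] ∧ ∀ x, x ∈ [m, p, q, r] ↔ x ∈ l := by
  classical
  have h := List.perm_cons_erase hm
  have hlen : (l.erase m).length = 3 := by rw [List.length_erase_of_mem hm, hl.2.1]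
  obtain ⟨p, q, r, e⟩ := List.length_eq_three.mp hlen
  rw [e] at h
  exact ⟨p, q, r, hl.perm h.symm, fun x => h.symm.mem_iff⟩

theorem IsQ.four {p q r s : G} (hl : IsQ D j [p, q, r, s]) : p * (q * (r * s)) = j := by
  have := hl.2.2
  simpa using this

theorem Sib.symm {m x : G} : Sib D j m x → Sib D j x m := fun ⟨l, hl, a, b⟩ => ⟨l, hl, b, a⟩

theorem Sib.mem_U {m x : G} : Sib D j m x → m ∈ U D j ∧ x ∈ U D j := fun ⟨_, hl, a, b⟩ => ⟨hl.mem_U a, hl.mem_U b⟩

variable (hD : Cfsg.IsThreeTranspositionGroup D) (hprim : Cfsg.IsPrimitiveUnderConj D)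
  (ht : Cfsg.IsOfTypeM24 G D)
include hD

theorem sq {x : G} (hx : x ∈ D) : x * x = 1 := Spor.mul_self_of_order_two (hD.1.1 x hx)

theorem IsQ.conj {l : List G} (hl : IsQ D j l) {g : G} (hg : Commute g j) :
    IsQ D j (l.map fun a => g * a * g⁻¹) := by
  obtain ⟨h1, h2⟩ := Invol.good_conjugate (M23Rel.pre_of_group hD) hl.1 g
  exact ⟨h1, (List.length_map _).trans hl.2.1, by rw [h2, hl.2.2, hg.eq, mul_inv_cancel_right]⟩

theorem Sib.conj {m x g : G} (h : Sib D j m x) (hg : Commute g j) : Sib D j (g * m * g⁻¹) (g * x * g⁻¹) := by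
  obtain ⟨l, hl, a, b⟩ := h
  exact ⟨_, hl.conj hD hg, List.mem_map_of_mem (f := fun a => g * a * g⁻¹) a,
    List.mem_map_of_mem (f := fun a => g * a * g⁻¹) b⟩

theorem U_conj {m g : G} (h : m ∈ U D j) (hg : Commute g j) : g * m * g⁻¹ ∈ U D j := by
  refine ⟨hD.2.1 g m h.1, ?_⟩
  have := (Spor.commute_conj_iff (a := j) (b := m) (g := g)).mpr h.2
  rwa [hg.eq, mul_inv_cancel_right] at this

include hprim ht

theorem IsQ.ne_one {l : List G} (hl : IsQ D j l) : j ≠ 1 :=
  hl.2.2 ▸ Invol.prod_ne_one (Invol.hyp_of hD hprim ht) hl.1 (by rw [hl.2.1]; norm_num) (by rw [hl.2.1]; norm_num)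

theorem IsQ.sq_one {l : List G} (hl : IsQ D j l) : j * j = 1 :=
  hl.2.2 ▸ M23Rel.Invol.prod_sq (M23Rel.pre_of_group hD) l hl.1.2.1 hl.1.2.2

theorem IsQ.mem_L {l : List G} (hl : IsQ D j l) : j ∈ commutator G :=
  hl.2.2 ▸ ((Invol.hyp_of hD hprim ht).par l hl.1.2.1).mpr (hl.2.1 ▸ by decide)

/-- every member commuting with the product is in a quadruple -/
theorem exists_quad {l : List G} (hl : IsQ D j l) {m : G} (hm : m ∈ U D j) : ∃ t, IsQ D j t ∧ m ∈ t := by
  have h := Invol.hyp_of hD hprim ht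
  have hmm := sq hD hm.1
  have hx2 : m * j * (m * j) = 1 := by
    rw [hm.2.mul_mul_mul_comm, hmm, hl.sq_one hD hprim ht, one_mul]
  have hne : m * j ≠ 1 := fun e => by
    have e' : j = m := by rw [← one_mul j, ← hmm, mul_assoc, e, mul_one]
    have h3 := (h.par [m] (by simp [hm.1])).mp (by simpa [← e'] using hl.mem_L hD hprim ht)
    simp at h3
  obtain ⟨t, ht', h1, h4, hp⟩ := Invol.exists_good h (orderOf_eq_prime (by rw [pow_two, hx2]) hne)
  have hj : m * t.prod = j := by rw [hp, ← mul_assoc, hmm, one_mul]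
  have hodd : ¬ Even t.length := fun he => by
    have h2 := (h.par t ht'.2.1).mpr he
    rw [hp, Subgroup.mul_mem_cancel_right _ (hl.mem_L hD hprim ht)] at h2
    have h3 := (h.par [m] (by simp [hm.1])).mp (by simpa using h2)
    simp at h3
  have short : ∀ {t' : List G}, Good D t' → 1 ≤ t'.length → t'.length ≤ 3 → t'.prod ≠ j := fun g1 g2 g3 e => by
    have := Invol.length_eq h hl.1 g1 (by rw [hl.2.1]; norm_num) (by rw [hl.2.1]) g2 (by omega) (by rw [e, hl.2.2])
    rw [hl.2.1] at this; omega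
  have hmt : Commute m t.prod := by rw [hp]; exact (Commute.refl m).mul_right hm.2.symm
  rcases (show t.length = 1 ∨ t.length = 3 by rw [Nat.even_iff] at hodd; omega) with e | e
  · obtain ⟨u, rfl⟩ := List.length_eq_one_iff.mp e
    simp only [List.prod_cons, List.prod_nil, mul_one] at hj hmt
    rcases eq_or_ne m u with rfl | hmu
    · exact absurd (hj.symm.trans hmm) (hl.ne_one hD hprim ht)
    refine absurd (?_ : [m, u].prod = j) (short ⟨by simp [hmu], ?_, ?_⟩ (by simp) (by simp))
    · simpa using hj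
    · simp [hm.1, ht'.2.1 u (by simp)]
    · intro a ha b hb
      simp only [List.mem_cons, List.not_mem_nil, or_false] at ha hb
      rcases ha with e | e <;> rcases hb with e' | e' <;> rw [e, e']
      exacts [hmt, hmt.symm]
  · obtain ⟨p, q, r, rfl⟩ := List.length_eq_three.mp e
    obtain ⟨hn, hmem, hcom⟩ := id ht'
    simp only [List.nodup_cons, List.mem_cons, List.not_mem_nil, or_false, not_or, List.nodup_nil, and_true,
      not_false_eq_true] at hn
    simp only [List.prod_cons, List.prod_nil, mul_one] at hj hmt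
    rw [← mul_assoc p q r] at hmt
    obtain ⟨c1, c2, c3⟩ := (Spor.commute_triple_iff hD.1 (hmem p (by simp)) (hmem q (by simp)) (hmem r (by simp))
      hm.1 hn.1.1 hn.1.2 hn.2 (hcom p (by simp) q (by simp)) (hcom p (by simp) r (by simp))
      (hcom q (by simp) r (by simp))).mp hmt
    have hcm : ∀ a ∈ [p, q, r], Commute m a := by simp [c1, c2, c3]
    by_cases hmem' : m ∈ [p, q, r]
    · exfalso
      classical
      have hperm := List.perm_cons_erase hmem'
      set t' := [p, q, r].erase m with ht''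
      have hg : Good D t' := ⟨ht'.1.erase m, fun a ha => hmem a (List.mem_of_mem_erase ha),
        fun a ha b hb => hcom a (List.mem_of_mem_erase ha) b (List.mem_of_mem_erase hb)⟩
      have hlen : t'.length = 2 := by rw [ht'', List.length_erase_of_mem hmem']; rfl
      refine short hg (by omega) (by omega) ?_
      have := hperm.prod_eq' (List.pairwise_of_forall_mem_list fun a ha b hb => hcom a ha b hb)
      simp only [List.prod_cons, List.prod_nil, mul_one] at this
      rw [this, ← mul_assoc, hmm, one_mul] at hj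
      exact hj
    · refine ⟨[m, p, q, r], ⟨⟨List.nodup_cons.mpr ⟨hmem', ht'.1⟩, ?_, ?_⟩, rfl, by simpa using hj⟩, by simp⟩
      · intro a ha
        rcases List.mem_cons.mp ha with e | ha
        exacts [e ▸ hm.1, hmem a ha]
      · intro a ha b hb
        rcases List.mem_cons.mp ha with e | ha <;> rcases List.mem_cons.mp hb with e' | hb
        exacts [e ▸ e' ▸ Commute.refl _, e ▸ hcm b hb, e' ▸ (hcm a ha).symm, hcom a ha b hb]

/-- a member determines its quadruple -/
theorem quad_eq {l l' : List G} (hl : IsQ D j l) (hl' : IsQ D j l') {m : G} (hm : m ∈ l) (hm' : m ∈ l') :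
    ∀ x, x ∈ l ↔ x ∈ l' := by
  have h := Invol.hyp_of hD hprim ht
  obtain ⟨p, q, r, hg, hi⟩ := hl.front hm
  obtain ⟨p', q', r', hg', hi'⟩ := hl'.front hm'
  have key := Top.factors hD ⟨h.four, h.six⟩ (l := [p, q, r]) (l' := [p', q', r'])
    (List.nodup_cons.mp hg.1.1).2 (List.nodup_cons.mp hg'.1.1).2 (by simp) rfl
    (fun a ha => hg.1.2.1 a (List.mem_cons_of_mem _ ha)) (fun a ha => hg'.1.2.1 a (List.mem_cons_of_mem _ ha))
    (fun a ha b hb => hg.1.2.2 a (List.mem_cons_of_mem _ ha) b (List.mem_cons_of_mem _ hb))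
    (fun a ha b hb => hg'.1.2.2 a (List.mem_cons_of_mem _ ha) b (List.mem_cons_of_mem _ hb))
    (mul_left_cancel (a := m) (by rw [← List.prod_cons, ← List.prod_cons, hg.2.2, hg'.2.2]))
  intro x
  rw [← hi, ← hi', List.mem_cons, List.mem_cons (a := x) (b := m), key]

theorem Sib.trans {a b c : G} (h : Sib D j a b) (h' : Sib D j b c) : Sib D j a c := by
  obtain ⟨l, hl, ha, hb⟩ := h
  obtain ⟨l', hl', hb', hc⟩ := h'
  exact ⟨l', hl', (quad_eq hD hprim ht hl hl' hb hb' a).mp ha, hc⟩

theorem Sib.iff {l : List G} (hl : IsQ D j l) {m : G} (hm : m ∈ l) (x : G) : Sib D j m x ↔ x ∈ l :=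
  ⟨fun ⟨l', hl', hm', hx⟩ => (quad_eq hD hprim ht hl hl' hm hm' x).mpr hx, fun hx => ⟨l, hl, hm, hx⟩⟩

theorem sib_refl {l : List G} (hl : IsQ D j l) {m : G} (hm : m ∈ U D j) : Sib D j m m :=
  (exists_quad hD hprim ht hl hm).elim fun t h => ⟨t, h.1, h.2, h.2⟩

/-- a member commutes with all or none of a quadruple -/
theorem all_none {y : G} (hy : y ∈ U D j) {m x : G} (h : Sib D j m x) (hc : Commute y m) : Commute y x := by
  obtain ⟨l, hl, hm, hx⟩ := h
  obtain ⟨p, q, r, hg, hi⟩ := hl.front hm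
  obtain ⟨hn, hmem, hcom⟩ := id hg.1
  simp only [List.nodup_cons, List.mem_cons, List.not_mem_nil, or_false, not_or, List.nodup_nil, and_true,
    not_false_eq_true] at hn
  have e : p * q * r = m * j := by rw [← hg.four, ← mul_assoc m m, sq hD (hmem m (by simp)), one_mul, mul_assoc]
  have h3 : Commute y (p * q * r) := e ▸ hc.mul_right hy.2.symm
  obtain ⟨c1, c2, c3⟩ := (Spor.commute_triple_iff hD.1 (hmem p (by simp)) (hmem q (by simp)) (hmem r (by simp))
    hy.1 hn.2.1.1 hn.2.1.2 hn.2.2 (hcom p (by simp) q (by simp)) (hcom p (by simp) r (by simp))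
    (hcom q (by simp) r (by simp))).mp h3
  have hx' := (hi x).mpr hx
  simp only [List.mem_cons, List.not_mem_nil, or_false] at hx'
  rcases hx' with e | e | e | e <;> rw [e]
  exacts [hc, c1, c2, c3]

theorem sib_comm {m x : G} : Sib D j m x → Commute m x := fun ⟨_, hl, a, b⟩ => hl.1.2.2 m a x b

theorem card_U {l : List G} (hl : IsQ D j l) : (U D j).ncard = 504 := by
  obtain ⟨a, ha⟩ : ∃ a, a ∈ l := ⟨_, List.head_mem (List.ne_nil_of_length_pos (by rw [hl.2.1]; norm_num))⟩
  obtain ⟨p, q, r, hg, -⟩ := hl.front ha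
  show {y | y ∈ D ∧ Commute j y}.ncard = 504
  rw [← hg.four]
  exact Seven.count_quad hD hprim ht hg.1

/-- a member commuting with all the neighbours of a member is in its quadruple -/
theorem quad_char {m y : G} (hm : Sib D j m m) (hy : y ∈ U D j)
    (h : ∀ u ∈ U D j, Commute m u → Commute y u) : Sib D j m y := by
  classical
  obtain ⟨l, hl, hml, -⟩ := hm
  obtain ⟨q, r, s, hg, hi⟩ := hl.front hml
  by_contra hns
  have hy4 : y ∉ [m, q, r, s] := fun e => hns ⟨l, hl, hml, (hi y).mp e⟩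
  simp only [List.mem_cons, List.not_mem_nil, or_false, not_or] at hy4
  obtain ⟨hn, hmem, hcom⟩ := id hg.1
  simp only [List.nodup_cons, List.mem_cons, List.not_mem_nil, or_false, not_or, List.nodup_nil, and_true,
    not_false_eq_true] at hn
  have ns : ∀ {u v : G}, v ∈ D → u ≠ v → Commute u v → v ∈ nset D u := fun hv n c => ⟨hv, Ne.symm n, c⟩
  have hmD := hmem m (by simp)
  have hall : ∀ x ∈ [m, q, r, s], Commute y x := fun x hx =>
    h x (hg.mem_U hx) (hcom m (by simp) x hx)
  obtain ⟨C, hC⟩ := QCen.exists_co_at hD hprim ht hmD (ns (hmem q (by simp)) hn.1.1 (hcom m (by simp) q (by simp)))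
    (ns (hmem r (by simp)) hn.1.2.1 (hcom m (by simp) r (by simp)))
    (ns (hmem r (by simp)) hn.2.1.1 (hcom q (by simp) r (by simp)))
    (s := s) ⟨⟨ns (hmem s (by simp)) hn.1.2.2 (hcom m (by simp) s (by simp)),
      ns (hmem s (by simp)) hn.2.1.2 (hcom q (by simp) s (by simp))⟩,
      ns (hmem s (by simp)) hn.2.2 (hcom r (by simp) s (by simp))⟩
  obtain ⟨k, hk, hky⟩ := C.surj y ⟨⟨ns hy.1 (Ne.symm hy4.1) (hall m (by simp)).symm,
    ns hy.1 (Ne.symm hy4.2.1) (hall q (by simp)).symm⟩, ns hy.1 (Ne.symm hy4.2.2.1) (hall r (by simp)).symm⟩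
  obtain ⟨hdeg, hcom2⟩ := C.counts
  have h317 : 317 < 693 := by norm_num
  set z : Fin 693 := ⟨317, h317⟩
  set v : Fin 693 := ⟨k, hk⟩
  have hzv : z ≠ v := fun e => hy4.2.2.2 (by
    have : (317 : ℕ) = k := congrArg Fin.val e
    rw [← hky, ← this, hC])
  have hsub : {u | Adj z u} ⊆ insert v {w | Adj z w ∧ Adj v w} := by
    intro u hu
    rcases eq_or_ne v u with e | e
    · exact Or.inl e.symm
    refine Or.inr ⟨hu, e, ?_⟩
    have hmu := C.mem _ u.2
    have hsu : Commute s (C.L u) := hC ▸ (C.comm _ h317 _ u.2).mpr hu.2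
    refine (C.comm _ hk _ u.2).mp ?_
    rw [hky]
    refine h _ ⟨hmu.1.1.1, ?_⟩ hmu.1.1.2.2
    rw [← hg.four]
    exact hmu.1.1.2.2.mul_left (hmu.1.2.2.2.mul_left (hmu.2.2.2.mul_left hsu))
  have h1 := Set.ncard_le_ncard hsub (Set.toFinite _)
  have h2 := Set.ncard_insert_le v {w | Adj z w ∧ Adj v w}
  rw [hdeg z] at h1
  rw [hcom2 z v hzv] at h2
  cases hb : orth (z : ℕ) (v : ℕ) <;> rw [hb] at h2 <;> simp at h2 <;> omega

/-- no member commutes with all of them -/
theorem exists_ncomm {l : List G} (hl : IsQ D j l) {m : G} (hm : m ∈ U D j) : ∃ u ∈ U D j, ¬ Commute m u := by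
  classical
  by_contra hc
  push Not at hc
  have hsib : ∀ u ∈ U D j, Sib D j u m := fun u hu =>
    quad_char hD hprim ht (sib_refl hD hprim ht hl hu) hm fun w hw _ => hc w hw
  obtain ⟨t, htq, hmt⟩ := exists_quad hD hprim ht hl hm
  have hsub : U D j ⊆ ↑t.toFinset := fun u hu =>
    List.mem_toFinset.mpr ((Sib.iff hD hprim ht htq hmt u).mp (hsib u hu).symm)
  have h1 := Set.ncard_le_ncard hsub (Finset.finite_toSet _)
  rw [card_U hD hprim ht hl, Set.ncard_coe_finset] at h1
  have h2 := List.toFinset_card_le t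
  rw [htq.2.1] at h2
  omega

/-- only the powers of the product fix all the members commuting with it -/
theorem cent_fix {l : List G} (hl : IsQ D j l) {w : G} (hwj : Commute w j)
    (hw : ∀ m ∈ U D j, Commute w m) : w = 1 ∨ w = j := by
  classical
  have h := Invol.hyp_of hD hprim ht
  obtain ⟨a, ha⟩ : ∃ a, a ∈ l := ⟨_, List.head_mem (List.ne_nil_of_length_pos (by rw [hl.2.1]; norm_num))⟩
  obtain ⟨p, q, r, hg, -⟩ := hl.front ha
  have h2 : w * w = 1 := QCen.square_one hD hprim ht hg.1 fun m hm hc => hw m ⟨hm, hg.four ▸ hc⟩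
  refine or_iff_not_imp_left.mpr fun h1 => ?_
  obtain ⟨t, htg, t1, t4, htp⟩ := Invol.exists_good h (orderOf_eq_prime (by rw [pow_two, h2]) h1)
  by_cases h3 : t.length ≤ 3
  · exfalso
    have hall : ∀ x ∈ t, ∀ u ∈ U D j, Commute x u := by
      intro x hx u hu
      have hcu : Commute u t.prod := htp ▸ (hw u hu).symm
      obtain ⟨hn, hmem, hcom⟩ := id htg
      rcases (show t.length = 1 ∨ t.length = 2 ∨ t.length = 3 by omega) with e | e | e
      · obtain ⟨p, rfl⟩ := List.length_eq_one_iff.mp e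
        rw [List.mem_singleton.mp hx]
        simpa using hcu.symm
      · obtain ⟨p, q, rfl⟩ := List.length_eq_two.mp e
        simp only [List.nodup_cons, List.mem_cons, List.not_mem_nil, or_false, List.nodup_nil, and_true,
          not_false_eq_true] at hn hx
        simp only [List.prod_cons, List.prod_nil, mul_one] at hcu
        obtain ⟨c1, c2⟩ := (Spor.commute_pair_iff hD.1 (hmem p (by simp)) (hmem q (by simp)) hu.1 hn
          (hcom p (by simp) q (by simp))).mp hcu
        rcases hx with e | e <;> rw [e]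
        exacts [c1.symm, c2.symm]
      · obtain ⟨p, q, r, rfl⟩ := List.length_eq_three.mp e
        simp only [List.nodup_cons, List.mem_cons, List.not_mem_nil, or_false, not_or, List.nodup_nil, and_true,
          not_false_eq_true] at hn hx
        simp only [List.prod_cons, List.prod_nil, mul_one, ← mul_assoc] at hcu
        obtain ⟨c1, c2, c3⟩ := (Spor.commute_triple_iff hD.1 (hmem p (by simp)) (hmem q (by simp))
          (hmem r (by simp)) hu.1 hn.1.1 hn.1.2 hn.2 (hcom p (by simp) q (by simp)) (hcom p (by simp) r (by simp))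
          (hcom q (by simp) r (by simp))).mp hcu
        rcases hx with e | e | e <;> rw [e]
        exacts [c1.symm, c2.symm, c3.symm]
    have hb := List.head_mem (List.ne_nil_of_length_pos t1)
    set b := t.head _
    have hbU : b ∈ U D j := ⟨htg.2.1 b hb, by
      rw [← hg.four]
      have c : ∀ x ∈ [a, p, q, r], Commute x b := fun x hx => (hall b hb x (hg.mem_U hx)).symm
      exact (c a (by simp)).mul_left ((c p (by simp)).mul_left ((c q (by simp)).mul_left (c r (by simp))))⟩
    obtain ⟨u, hu, hun⟩ := exists_ncomm hD hprim ht hl hbU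
    exact hun (hall b hb u hu)
  · have htw : IsQ D w t := ⟨htg, by omega, htp⟩
    have hUeq : U D j = U D w := Set.eq_of_subset_of_ncard_le (fun u hu => ⟨hu.1, hw u hu⟩)
      (le_of_eq ((card_U hD hprim ht htw).trans (card_U hD hprim ht hl).symm)) (Set.toFinite _)
    have hxU : ∀ x ∈ t, x ∈ U D j := fun x hx => hUeq.symm ▸ htw.mem_U hx
    obtain ⟨b, hb⟩ : ∃ b, b ∈ t := ⟨_, List.head_mem (List.ne_nil_of_length_pos t1)⟩
    obtain ⟨t', ht', hb'⟩ := exists_quad hD hprim ht hl (hxU b hb)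
    have hsub : t ⊆ t' := fun x hx => (Sib.iff hD hprim ht ht' hb' x).mp
      (quad_char hD hprim ht ⟨t', ht', hb', hb'⟩ (hxU x hx) fun u hu hbu =>
        (all_none hD hprim ht (hUeq ▸ hu) ⟨t, htw, hb, hx⟩ hbu.symm).symm)
    have hperm : t.Perm t' := (List.subperm_of_subset htg.1 hsub).perm_of_length_le
      (by rw [ht'.2.1, htw.2.1])
    exact htp.symm.trans (ht'.perm hperm).2.2

end Cfsg.Agent.Spor.M24Rel.QTop
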