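import Cfsg.Agent.Lib.Spor.M24RelQPsi
import Cfsg.Agent.Lib.Spor.LargeQuotient
import Cfsg.Agent.Lib.Fusion.LocalConstrained
import Cfsg.Agent.Lib.Classical.KleinHermitian

/-!
The centralizer in the derived group of a product of four commuting members of a group of type M(24).
-/

set_option autoImplicit false
set_option maxRecDepth 100000
set_option linter.unusedSectionVars false

namespace Cfsg.Agent.Spor.M24Rel.Sev

open Module QuadraticMap
open scoped Pointwise
open Cfsg.Agent.Classical.ORefl (Iso)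
open Cfsg.Agent.Spor.M22U.InvClasses (Good)
open Cfsg.Agent.Spor.M24Rel.QTop (IsQ Sib U Tr)

variable {G : Type*} [Group G] [Finite G] {D : Set G} {a d : G}

namespace Mdl.Jd

variable {M : Mdl D a d} {j : G} (J : M.Jd j) {l : List G} (hl : IsQ D j l)

include J hl

/-- only the powers of the product centralize the four-group subgroup -/
theorem cent_T {g : G} (hg : Commute g j) (h : ∀ t ∈ J.T hl, Commute g t) : g = 1 ∨ g = j := by
  have hD := M.hD
  refine QTop.cent_fix hD M.prim M.type hl hg fun m hm => mul_inv_eq_iff_eq_mul.mp ?_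
  obtain ⟨t, htq, hmt⟩ := QTop.exists_quad hD M.prim M.type hl hm
  obtain ⟨p, q, r, hq, -⟩ := htq.front hmt
  have hn := hq.1.1
  simp only [List.nodup_cons, List.mem_cons, List.not_mem_nil, or_false, not_or] at hn
  have key : ∀ {x}, x ∈ [m, p, q, r] → m ≠ x → g * m * g⁻¹ = m ∨ g * m * g⁻¹ = x := by
    intro x hx hne
    have hs : Sib D j m x := ⟨_, hq, by simp, hx⟩
    have he : g * (m * x) * g⁻¹ = m * x := by
      rw [(h _ (QTop.pair_mem hD M.prim M.type hl hs)).eq, mul_inv_cancel_right]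
    rcases QTop.pair_eq hD M.prim M.type hs (hs.conj hD hg) hne
      (fun e => hne (mul_left_cancel (mul_right_cancel e))) (he.symm.trans (by group)) with h2 | h2
    · exact Or.inl h2.1
    · exact Or.inr h2.1
  rcases key (x := p) (by simp) hn.1.1 with e | e
  · exact e
  · rcases key (x := q) (by simp) hn.1.2.1 with e' | e'
    · exact e'
    · exact absurd (e.symm.trans e') hn.2.1.1

/-- the subgroup lies in the derived group -/
theorem T_le_L : J.T hl ≤ commutator G := by
  classical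
  have hD := M.hD
  set Z : Subgroup ↥(J.T hl) := (Subgroup.zpowers j).subgroupOf (J.T hl)
  set y := M.th x2
  have hjL : j ∈ commutator G := hl.mem_L hD M.prim M.type
  have hmem : ∀ t : ↥(J.T hl), y * t * y⁻¹ * (t : G)⁻¹ ∈ J.T hl := fun t =>
    mul_mem (QTop.TG_conj hD M.prim M.type hl J.comm_y t.2) (inv_mem t.2)
  let φ : ↥(J.T hl) ⧸ Z → ↥(J.T hl) ⧸ Z := fun q => QuotientGroup.mk ⟨_, hmem q.out⟩
  have hjt : ∀ u ∈ J.T hl, ∀ z ∈ Subgroup.zpowers j, Commute z u := fun u hu z hz => by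
    obtain ⟨i, rfl⟩ := Subgroup.mem_zpowers_iff.mp hz
    exact (show Commute j u from hu.1.symm).zpow_left i
  have hinj : Function.Injective φ := fun q q' h => by
    rw [← Quotient.out_eq q, ← Quotient.out_eq q']
    refine QuotientGroup.eq.mpr (Subgroup.mem_subgroupOf.mpr ?_)
    set s : G := (q.out : G) with hs
    set t : G := (q'.out : G) with ht
    show s⁻¹ * t ∈ Subgroup.zpowers j
    have h1 : (y * s * y⁻¹ * s⁻¹)⁻¹ * (y * t * y⁻¹ * t⁻¹) ∈ Subgroup.zpowers j :=
      (QuotientGroup.eq (s := Z) (a := ⟨_, hmem q.out⟩) (b := ⟨_, hmem q'.out⟩)).mp h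
    set z' := (y * s * y⁻¹ * s⁻¹)⁻¹ * (y * t * y⁻¹ * t⁻¹) with hz'
    have hsT : s ∈ J.T hl := q.out.2
    have htT : t ∈ J.T hl := q'.out.2
    set u := s⁻¹ * t with hu
    have huT : u ∈ J.T hl := mul_mem (inv_mem hsT) htT
    have hu2 : y * u * y⁻¹ = z' * u := by
      have cz := hjt _ hsT z' h1
      have e1 : y * t * y⁻¹ = (y * s * y⁻¹ * s⁻¹) * z' * t := by rw [hz']; group
      calc y * u * y⁻¹ = (y * s * y⁻¹)⁻¹ * (y * t * y⁻¹) := by rw [hu]; group
        _ = s⁻¹ * z' * t := by rw [e1]; group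
        _ = z' * u := by rw [hu, ← cz.inv_right.eq, mul_assoc]
    have hzy : Commute z' y := by
      obtain ⟨i, hi⟩ := Subgroup.mem_zpowers_iff.mp h1
      rw [← hi]; exact J.comm_y.symm.zpow_left i
    have h3 : y * (y * (y * u * y⁻¹) * y⁻¹) * y⁻¹ = z' * z' * z' * u := by
      have st : ∀ v, y * (z' * v) * y⁻¹ = z' * (y * v * y⁻¹) := fun v => by
        rw [← mul_assoc y z' v, ← hzy.eq]; group
      rw [hu2, st, hu2, st, st, hu2]; simp only [mul_assoc]
    have h3y := M.th_cube x2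
    rw [pow_succ, pow_two] at h3y
    rw [show y * (y * (y * u * y⁻¹) * y⁻¹) * y⁻¹ = (y * y * y) * u * (y * y * y)⁻¹ by group, h3y, one_mul, inv_one,
      mul_one] at h3
    have hz1 : z' = 1 := by
      have h4 : z' * z' * z' = 1 := mul_eq_right.mp h3.symm
      obtain ⟨i, hi⟩ := Subgroup.mem_zpowers_iff.mp h1
      have h2 : z' * z' = 1 := by
        rw [← hi, ← zpow_add, show i + i = 2 * i by ring, zpow_mul,
          show j ^ (2 : ℤ) = 1 by rw [show (2 : ℤ) = 1 + 1 from rfl, zpow_add, zpow_one]; exact J.sq, one_zpow]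
      rwa [h2, one_mul] at h4
    rw [hz1, one_mul] at hu2
    have hc : Commute y u := mul_inv_eq_iff_eq_mul.mp hu2
    rw [← J.T_N1 hl]
    exact ⟨huT, Subgroup.mem_centralizer_singleton_iff.mpr huT.1.eq,
      Subgroup.centralizer_le_normalizer _ (M.cent_X0.mpr hc.symm)⟩
  intro t htT
  obtain ⟨q, hq⟩ := Finite.surjective_of_injective hinj (QuotientGroup.mk ⟨t, htT⟩)
  have h1 : (y * (q.out : G) * y⁻¹ * (q.out : G)⁻¹)⁻¹ * t ∈ Subgroup.zpowers j :=
    (QuotientGroup.eq (s := Z) (a := ⟨_, hmem q.out⟩) (b := ⟨t, htT⟩)).mp hq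
  have h2 : y * (q.out : G) * y⁻¹ * (q.out : G)⁻¹ ∈ commutator G := by
    rw [← commutatorElement_def]
    exact Subgroup.commutator_mem_commutator (Subgroup.mem_top _) (Subgroup.mem_top _)
  have := mul_mem h2 (Subgroup.zpowers_le.mpr hjL h1)
  rwa [mul_inv_cancel_left] at this

/-- the normal subgroups of two-power order of the centralizer lie in the four-group subgroup -/
theorem two_normal {R : Subgroup G} (hRC : R ≤ Subgroup.centralizer ({j} : Set G)) (hR : IsPGroup 2 R)
    (hn : ∀ g, Commute g j → ∀ x ∈ R, g * x * g⁻¹ ∈ R) : R ≤ J.T hl := by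
  classical
  have hD := M.hD
  haveI : Fact (Nat.Prime 2) := ⟨Nat.prime_two⟩
  have hcj : ∀ {x}, x ∈ R → Commute x j := fun hx => Subgroup.mem_centralizer_singleton_iff.mp (hRC hx)
  have hord : ∀ {u v}, u ∈ D → v ∈ D → u * v ∈ R → Commute u v := by
    intro u v hu hv h
    by_contra hnc
    have h3 : orderOf (u * v) = 3 := PairGen.order_x (Pair.braid_of hD hu hv hnc)
    obtain ⟨k, hk⟩ := hR ⟨u * v, h⟩
    have h2 : orderOf (u * v) ∣ 2 ^ k := orderOf_dvd_of_pow_eq_one (congrArg Subtype.val hk)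
    rw [h3] at h2
    exact absurd ((Nat.prime_three).dvd_of_dvd_pow h2) (by norm_num)
  intro r hr
  have hrK : r ∈ J.K hl := by
    refine ⟨hcj hr, fun e he => ?_⟩
    set e' := r * e * r⁻¹ with he'
    have he'U : e' ∈ U D j := QTop.U_conj hD he (hcj hr)
    have hee := QTop.sq hD he.1
    have hee' := QTop.sq hD he'U.1
    have hmem : e' * e ∈ R := by
      have h1 := hn e he.2.symm _ (inv_mem hr)
      have := mul_mem hr h1
      rw [inv_eq_of_mul_eq_one_right hee] at this
      simpa [he', mul_assoc] using this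
    refine (QTop.quad_char hD M.prim M.type (QTop.sib_refl hD M.prim M.type hl he'U) he fun f hf hcf => ?_).symm
    by_contra hnc
    have h2 := hn f hf.2.symm _ hmem
    have e1 : f * (e' * e) * f⁻¹ = e' * (f * e * f⁻¹) := by
      rw [show f * (e' * e) * f⁻¹ = f * e' * f⁻¹ * (f * e * f⁻¹) by group, ← hcf.eq, mul_inv_cancel_right]
    rw [e1] at h2
    have h3 := mul_mem (inv_mem hmem) h2
    rw [mul_inv_rev, mul_assoc, inv_mul_cancel_left, inv_eq_of_mul_eq_one_right hee] at h3
    have h4 := hord he.1 (hD.2.1 f e he.1) h3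
    refine hnc ?_
    have hb := Pair.braid_of hD hf.1 he.1 fun c => hnc c.symm
    rw [inv_eq_of_mul_eq_one_right hb.aa, hb.br] at h4
    have h5 : Commute e f := by
      have := h4.eq
      rw [← mul_assoc, ← mul_assoc, hb.dd, one_mul, mul_assoc (e * f), hb.dd, mul_one] at this
      exact this.symm
    exact h5
  rw [J.K_eq hl] at hrK
  have hle : M.X0 ≤ Subgroup.normalizer (J.T hl : Set G) := by
    intro x hx
    have hc : Commute x j := ((J.K_eq hl) ▸ Subgroup.mem_sup_right hx : x ∈ J.K hl).1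
    rw [Subgroup.mem_normalizer_iff]
    refine fun t => ⟨fun h => QTop.TG_conj hD M.prim M.type hl hc h, fun h => ?_⟩
    have := QTop.TG_conj hD M.prim M.type hl hc.inv_left h
    simpa [Mdl.Jd.T, mul_assoc] using this
  obtain ⟨k, hk⟩ := hR ⟨r, hr⟩
  have hrk : r ^ 2 ^ k = 1 := congrArg Subtype.val hk
  have hset : r ∈ ((J.T hl : Set G) * (M.X0 : Set G)) := by
    rw [← Subgroup.coe_mul_of_right_le_normalizer_left _ _ hle]; exact hrK
  obtain ⟨t, htT, x, hx, rfl⟩ := hset
  -- the powers stay in the coset of the powers of the element of order three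
  have hpow : ∀ n : ℕ, ((t * x) ^ n) * (x ^ n)⁻¹ ∈ J.T hl := by
    intro n
    induction n with
    | zero => simp
    | succ n ih =>
      have h1 : x ^ n * t * (x ^ n)⁻¹ ∈ J.T hl :=
        QTop.TG_conj hD M.prim M.type hl
          (((J.K_eq hl) ▸ Subgroup.mem_sup_right hx : x ∈ J.K hl).1.pow_left n) htT
      have e : (t * x) ^ (n + 1) * (x ^ (n + 1))⁻¹ = ((t * x) ^ n * (x ^ n)⁻¹) * (x ^ n * t * (x ^ n)⁻¹) := by
        rw [pow_succ, pow_succ]; group
      rw [e]; exact mul_mem ih h1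
  have hxT : x ^ 2 ^ k ∈ J.T hl := by
    have := hpow (2 ^ k)
    rw [hrk, one_mul] at this
    exact inv_mem_iff.mp this
  have h4 := J.T_pow4 hl hxT
  have h3 : x ^ 3 = 1 := by
    obtain ⟨i, rfl⟩ := Subgroup.mem_zpowers_iff.mp hx
    rw [← zpow_natCast, ← zpow_mul, mul_comm, zpow_mul, zpow_natCast, M.th_cube, one_zpow]
  rw [← pow_mul] at h4
  have hx1 : x = 1 := by
    have h5 : orderOf x ∣ Nat.gcd 3 (2 ^ k * 4) :=
      Nat.dvd_gcd (orderOf_dvd_of_pow_eq_one h3) (orderOf_dvd_of_pow_eq_one h4)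
    have h6 : Nat.Coprime 3 (2 ^ k * 4) := Nat.Coprime.mul_right (Nat.Coprime.pow_right k (by decide)) (by decide)
    rw [h6.gcd_eq_one, Nat.dvd_one, orderOf_eq_one_iff] at h5
    exact h5
  rw [hx1]
  simpa using htT

/-- the structure of the centralizer in the derived group -/
theorem main (C : Subgroup G) (hC : C = commutator G ⊓ Subgroup.centralizer ({j} : Set G)) :
    ∃ (Q : Subgroup ↥C) (_ : Q.Normal), Cfsg.generalizedFittingSubgroup ↥C = Q ∧ Cfsg.IsExtraspecial 2 ↥Q ∧
      Nat.card Q = 2 ^ 13 ∧ ∃ (N M : Subgroup ↥C) (_ : N.Normal) (_ : M.Normal), Q ≤ N ∧ N ≤ M ∧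
        Nat.card N = 3 * Nat.card Q ∧ (∃ (K : Type) (_ : Field K) (_ : Fintype K), Fintype.card K = 9 ∧
          Nonempty (↥M ⧸ N.subgroupOf M ≃* Cfsg.PSU 4 K 3)) ∧ M.index = 2 := by
  classical
  subst hC
  have hD := M.hD
  haveI : Fact (Nat.Prime 2) := ⟨Nat.prime_two⟩
  obtain ⟨hi2, -, hodd⟩ := Base.comm_facts hD M.prim M.type
  haveI := Subgroup.normal_of_index_eq_two hi2
  set C := commutator G ⊓ Subgroup.centralizer ({j} : Set G) with hCdef
  set Cj := Subgroup.centralizer ({j} : Set G) with hCj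
  have hcj : ∀ {g}, g ∈ Cj → Commute g j := fun h => Subgroup.mem_centralizer_singleton_iff.mp h
  have hTC : J.T hl ≤ C := le_inf (J.T_le_L hl) fun t ht => Subgroup.mem_centralizer_singleton_iff.mpr ht.1.eq
  set Q := (J.T hl).subgroupOf C with hQ
  haveI hQn : Q.Normal := ⟨fun t ht x => QTop.TG_conj hD M.prim M.type hl (hcj x.2.2) ht⟩
  have hQcard : Nat.card Q = 2 ^ 13 := by
    rw [Nat.card_congr (Subgroup.subgroupOfEquivOfLe hTC).toEquiv, J.card_T hl]
  have hjC : j ∈ C := hTC (J.j_T hl)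
  have hQp : IsPGroup 2 Q := (J.T_pgroup hl).comap_subtype
  -- extraspecial
  have hcenQ : ∀ c : ↥C, (∀ q ∈ Q, Commute c q) → c = 1 ∨ c = ⟨j, hjC⟩ := fun c h => by
    rcases J.cent_T hl (g := (c : G)) (hcj c.2.2) (fun t ht => congrArg Subtype.val (h ⟨t, hTC ht⟩ ht).eq) with e | e
    · exact Or.inl (Subtype.ext e)
    · exact Or.inr (Subtype.ext e)
  have X : Large.XT (⟨j, hjC⟩ : ↥C) Q :=
    { ne := fun e => J.ne_one (congrArg Subtype.val e)
      sq := Subtype.ext J.sq
      mem := J.j_T hl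
      cen := fun q hq => Subtype.ext (hcj q.2.2).symm.eq
      comm := fun x hx z hz => by
        rcases QTop.TG_commutator hD M.prim M.type hl hx hz with e | e
        · left
          exact Subtype.ext (mul_inv_eq_one.mp e)
        · right
          refine Subtype.ext ?_
          show (x : G) * z * (x : G)⁻¹ = (z : G) * j
          rw [show (x : G) * z * (x : G)⁻¹ = j * z from mul_inv_eq_iff_eq_mul.mp e]
          exact (hcj z.2.2).symm.eq
      eq_of_cen := fun c _ h => hcenQ c h }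
  have hne : ∃ x ∈ Q, ∃ z ∈ Q, ¬ Commute x z := by
    by_contra hc
    push Not at hc
    have hsub : (Q : Set ↥C) ⊆ {1, ⟨j, hjC⟩} := fun q hq => by
      rcases hcenQ q fun z hz => hc q hq z hz with e | e <;> simp [e]
    have h1 := Set.ncard_le_ncard hsub (Set.toFinite _)
    have h2 := Set.ncard_insert_le (1 : ↥C) {⟨j, hjC⟩}
    rw [← Nat.card_coe_set_eq] at h1
    rw [Set.ncard_singleton] at h2
    change Nat.card Q ≤ _ at h1
    rw [hQcard] at h1
    omega
  have hext := (Large.isExtraspecial_of_xt X hQp hne).1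
  -- the largest normal subgroup of two-power order
  have hcore : Cfsg.pCore 2 ↥C = Q := by
    refine le_antisymm ?_ (Fusion.le_pCore hQp)
    have hR : ((Cfsg.pCore 2 ↥C).map C.subtype : Subgroup G) ≤ J.T hl := by
      refine J.two_normal hl ((Subgroup.map_subtype_le _).trans inf_le_right) ((Fusion.isPGroup_pCore 2 ↥C).map _) ?_
      intro g hg x hx
      obtain ⟨x', hx', rfl⟩ := hx
      have hmemC : ∀ {h : G}, Commute h j → ∀ {z : G}, z ∈ C → h * z * h⁻¹ ∈ C := fun hh _ hz =>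
        ⟨Subgroup.Normal.conj_mem inferInstance _ hz.1 _,
          Subgroup.mem_centralizer_singleton_iff.mpr ((hh.mul_left (hcj hz.2)).mul_left hh.inv_left).eq⟩
      let e : MulAut ↥C :=
        { toFun := fun z => ⟨g * z.1 * g⁻¹, hmemC hg z.2⟩
          invFun := fun z => ⟨g⁻¹ * z.1 * g, by simpa using hmemC hg.inv_left z.2⟩
          left_inv := fun z => Subtype.ext (show g⁻¹ * (g * z.1 * g⁻¹) * g = z.1 by group)
          right_inv := fun z => Subtype.ext (show g * (g⁻¹ * z.1 * g) * g⁻¹ = z.1 by group)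
          map_mul' := fun z w => Subtype.ext (show g * (z.1 * w.1) * g⁻¹ = g * z.1 * g⁻¹ * (g * w.1 * g⁻¹) by group) }
      haveI : ((Cfsg.pCore 2 ↥C).map e.toMonoidHom).Normal := Subgroup.Normal.map inferInstance _ e.surjective
      have hle : (Cfsg.pCore 2 ↥C).map e.toMonoidHom ≤ Cfsg.pCore 2 ↥C :=
        Fusion.le_pCore ((Fusion.isPGroup_pCore 2 ↥C).map _)
      exact ⟨e x', hle ⟨x', hx', rfl⟩, rfl⟩
    exact fun x hx => hR ⟨x, hx, rfl⟩
  have hgfit : Cfsg.generalizedFittingSubgroup ↥C = Q := by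
    refine (Fusion.gfit_eq_pCore_iff.mpr ?_).trans hcore
    rw [hcore]
    intro c hc
    rcases hcenQ c fun q hq => (Subgroup.mem_centralizer_iff.mp hc q hq).symm with e | e <;> rw [e]
    · exact one_mem _
    · exact J.j_T hl
  -- the action on the complement
  obtain ⟨Φ, hΦs, hΦk⟩ := J.exists_phi hl
  have hCle : C ≤ Cj := inf_le_right
  set P : ↥C →* ↥(Iso Q6) ⧸ Zs := Φ.comp (Subgroup.inclusion hCle)
  have hXC : M.X0 ≤ C := by
    refine Subgroup.zpowers_le.mpr ⟨?_, Subgroup.mem_centralizer_singleton_iff.mpr J.comm_y.eq⟩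
    have h := Subgroup.mul_self_mem_of_index_two hi2 (M.th x2 * M.th x2)
    have e : M.th x2 * M.th x2 * (M.th x2 * M.th x2) = M.th x2 := by
      have h3 := M.th_cube x2
      rw [pow_succ, pow_two] at h3
      rw [← mul_assoc, h3, one_mul]
    rwa [e] at h
  have hKC : J.T hl ⊔ M.X0 ≤ C := sup_le hTC hXC
  set N := (J.T hl ⊔ M.X0).subgroupOf C with hN
  have hPk : P.ker = N := by
    ext c
    rw [MonoidHom.mem_ker, hN, Subgroup.mem_subgroupOf]
    show Φ (Subgroup.inclusion hCle c) = 1 ↔ _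
    rw [← MonoidHom.mem_ker, hΦk, Subgroup.mem_subgroupOf]
    rfl
  haveI hNn : N.Normal := hPk ▸ inferInstance
  have hQN : Q ≤ N := fun q hq => Subgroup.mem_sup_left (T := M.X0) hq
  set M' : Subgroup ↥C := Om.comap P with hM'
  haveI : Om.Normal := inferInstanceAs (commutator (↥(Iso Q6) ⧸ Zs)).Normal
  haveI hMn : M'.Normal := inferInstanceAs (Om.comap P).Normal
  have hNM : N ≤ M' := by
    rw [← hPk]
    intro x hx
    show P x ∈ Om
    rw [MonoidHom.mem_ker.mp hx]; exact one_mem _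
  -- counting
  obtain ⟨hOm, hbar⟩ := Om_card
  have hkc : Nat.card Φ.ker = 3 * 2 ^ 13 := by
    have h1 := Subgroup.card_eq_card_quotient_mul_card_subgroup Φ.ker
    rw [J.card_cent hl, Nat.card_congr (QuotientGroup.quotientKerEquivOfSurjective Φ hΦs).toEquiv, hbar] at h1
    omega
  have hNcard : Nat.card N = 3 * 2 ^ 13 := by
    rw [hΦk, Nat.card_congr (Subgroup.subgroupOfEquivOfLe (hKC.trans hCle)).toEquiv] at hkc
    rw [hN, Nat.card_congr (Subgroup.subgroupOfEquivOfLe hKC).toEquiv, hkc]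
  have hCcard : Nat.card ↥C * 2 = 504 * 6 * 106168320 := by
    obtain ⟨e, he⟩ := J.lift (frame6_In6 0).1 (frame6_In6 0).2
    have heC : e ∈ Cj := Subgroup.mem_centralizer_singleton_iff.mpr he.2.2.symm.eq
    have h1 := Subgroup.card_mul_index ((commutator G).subgroupOf Cj)
    have h2 : ((commutator G).subgroupOf Cj).index = 2 := by
      have h3 : (commutator G).relIndex Cj ∣ (commutator G).index := Subgroup.relIndex_dvd_index_of_normal _ _
      rw [hi2] at h3
      rcases (Nat.dvd_prime Nat.prime_two).mp h3 with h4 | h4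
      · exact absurd (Subgroup.relIndex_eq_one.mp h4 heC) (hodd e he.1.1)
      · exact h4
    have e2 : (commutator G).subgroupOf Cj = C.subgroupOf Cj := (Subgroup.inf_subgroupOf_right _ _).symm
    rw [h2, e2, Nat.card_congr (Subgroup.subgroupOfEquivOfLe hCle).toEquiv, J.card_cent hl] at h1
    exact h1
  set f : ↥M' →* ↥Om := (P.comp M'.subtype).codRestrict Om fun m => m.2
  have hcommC : ∀ x ∈ commutator ↥Cj, (x : G) ∈ C := fun x hx =>
    ⟨Subgroup.commutator_mono le_top le_top ((Subgroup.map_subtype_commutator Cj).le ⟨x, hx, rfl⟩), x.2⟩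
  have hfs : Function.Surjective f := fun u => by
    have hu : (u : ↥(Iso Q6) ⧸ Zs) ∈ (commutator ↥Cj).map Φ := by
      rw [commutator_def, Subgroup.map_commutator, Subgroup.map_top_of_surjective Φ hΦs, ← commutator_def]
      exact u.2
    obtain ⟨x, hx, e⟩ := hu
    have hP : P ⟨x.1, hcommC x hx⟩ = u.1 := e
    exact ⟨⟨⟨x.1, hcommC x hx⟩, show P _ ∈ Om by rw [hP]; exact u.2⟩, Subtype.ext hP⟩
  have hfk : f.ker = N.subgroupOf M' := by
    ext m
    rw [MonoidHom.mem_ker, Subgroup.mem_subgroupOf, ← hPk, MonoidHom.mem_ker]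
    exact ⟨fun h => congrArg Subtype.val h, fun h => Subtype.ext h⟩
  have hMcard : Nat.card M' = 3265920 * (3 * 2 ^ 13) := by
    rw [Subgroup.card_eq_card_quotient_mul_card_subgroup f.ker,
      Nat.card_congr (QuotientGroup.quotientKerEquivOfSurjective f hfs).toEquiv, hOm, hfk,
      Nat.card_congr (Subgroup.subgroupOfEquivOfLe hNM).toEquiv, hNcard]
  have hidx : M'.index = 2 := by
    have h1 := Subgroup.card_mul_index M'
    rw [hMcard] at h1
    omega
  refine ⟨Q, hQn, hgfit, hext, hQcard, N, M', hNn, hMn, hQN, hNM, by rw [hNcard, hQcard], ?_, hidx⟩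
  obtain ⟨e1⟩ := Om_iso
  haveI : Fintype (GaloisField 3 2) := Fintype.ofFinite _
  have hK : Fintype.card (GaloisField 3 2) = 9 := by
    rw [← Nat.card_eq_fintype_card, GaloisField.card 3 2 (by norm_num)]; rfl
  obtain ⟨e2⟩ := Classical.KleinHerm.pOmega_six_minus (F := ZMod 3) (K := GaloisField 3 2) (q := 3) (ZMod.card 3)
    (by rw [hK]; rfl) 0 1 plane_aniso
  exact ⟨GaloisField 3 2, inferInstance, inferInstance, hK,
    ⟨((QuotientGroup.quotientMulEquivOfEq hfk.symm).trans (QuotientGroup.quotientKerEquivOfSurjective f hfs)).trans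
      (e1.trans e2)⟩⟩

end Mdl.Jd

/-- the centralizer of a product of four commuting members -/
theorem four_main (hD : Cfsg.IsThreeTranspositionGroup D) (hprim : Cfsg.IsPrimitiveUnderConj D)
    (ht : Cfsg.IsOfTypeM24 G D) {z : G} {l : List G} (hl : IsQ D z l) (C : Subgroup G)
    (hC : C = commutator G ⊓ Subgroup.centralizer ({z} : Set G)) :
    ∃ (Q : Subgroup ↥C) (_ : Q.Normal), Cfsg.generalizedFittingSubgroup ↥C = Q ∧ Cfsg.IsExtraspecial 2 ↥Q ∧
      Nat.card Q = 2 ^ 13 ∧ ∃ (N M : Subgroup ↥C) (_ : N.Normal) (_ : M.Normal), Q ≤ N ∧ N ≤ M ∧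
        Nat.card N = 3 * Nat.card Q ∧ (∃ (K : Type) (_ : Field K) (_ : Fintype K), Fintype.card K = 9 ∧
          Nonempty (↥M ⧸ N.subgroupOf M ≃* Cfsg.PSU 4 K 3)) ∧ M.index = 2 := by
  obtain ⟨a, d, M, -⟩ := seven_main hD hprim ht
  obtain ⟨j, J⟩ := M.exists_jd
  obtain ⟨l', hl'⟩ := J.quad
  have hc := Invol.good_conj (Invol.hyp_of hD hprim ht) hl'.1 hl.1 (hl'.2.1.trans hl.2.1.symm)
    (by rw [hl'.2.1]; norm_num) (by rw [hl'.2.1])
  rw [hl'.2.2, hl.2.2] at hc
  obtain ⟨g, hg⟩ := isConj_iff.mp hc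
  subst hg
  exact (J.move g).main hl C hC

end Cfsg.Agent.Spor.M24Rel.Sev
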