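import Cfsg.Agent.Lib.Spor.M24RelThirteenNorm
import Cfsg.Agent.Lib.Spor.M24RelG2Model

/-!
Four members of a group of type M(24) whose common centralizer is of type G2 over the field with three elements.
-/

set_option autoImplicit false
set_option maxRecDepth 100000

namespace Cfsg.Agent.Spor.M24Rel.Thirteen

open Cfsg Cfsg.Agent.Spor.PairGen
open Cfsg.Agent.Spor.M24Rel.Pair (cen mem_cen)

universe u

set_option synthInstance.maxSize 4096 in
theorem perm_cent : ∀ s t v : Equiv.Perm (Fin 3), s * s = 1 → s ≠ 1 → t * t = 1 → t ≠ 1 → s ≠ t →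
    v * s = s * v → v * t = t * v → v = 1 := by decide +kernel

/-- an automorphism conjugating a given subgroup with outer image of order 6 onto one containing two given ones -/
theorem align {P : Type} [Group P] (eo : Out P ≃* Equiv.Perm (Fin 4)) {R : Subgroup (MulAut P)} (hR : Inn P ≤ R)
    (h6 : Nat.card (R.map (QuotientGroup.mk' (Inn P))) = 6) {τ π : MulAut P} (h3 : τ ^ 3 = 1) (h2 : π ^ 2 = 1)
    (hrel : π * τ * π * τ = 1) (hτ : τ ∉ Inn P) :
    ∃ θ : MulAut P, θ * τ * θ⁻¹ ∈ R ∧ θ * π * θ⁻¹ ∈ R := by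
  classical
  set ρ : MulAut P →* Equiv.Perm (Fin 4) := eo.toMonoidHom.comp (QuotientGroup.mk' (Inn P)) with hρ
  have hker : ρ.ker = Inn P := by
    ext x
    rw [MonoidHom.mem_ker, hρ]
    show eo _ = 1 ↔ _
    rw [eo.map_eq_one_iff, QuotientGroup.mk'_apply, QuotientGroup.eq_one_iff]
  obtain ⟨i, hiτ, hiπ⟩ := G2Model.perm_facts (ρ τ) (ρ π)
    (by rw [← map_mul, ← map_mul, ← pow_two, ← pow_succ, h3, map_one])
    (fun h => hτ (by rw [← hker]; exact h))
    (by rw [← map_mul, ← pow_two, h2, map_one])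
    (by rw [← map_mul, ← map_mul, ← map_mul, hrel, map_one])
  obtain ⟨j, hj⟩ := PlusEightExt.six_stab ((R.map (QuotientGroup.mk' (Inn P))).map eo.toMonoidHom)
    ((Nat.card_congr ((R.map (QuotientGroup.mk' (Inn P))).equivMapOfInjective eo.toMonoidHom eo.injective).toEquiv).symm.trans h6)
  rw [Subgroup.map_map] at hj
  obtain ⟨θ, hθ⟩ : ∃ θ, ρ θ = Equiv.swap i j := by
    obtain ⟨q, hq⟩ := QuotientGroup.mk_surjective (eo.symm (Equiv.swap i j))
    exact ⟨q, by show eo (QuotientGroup.mk q) = _; rw [hq, eo.apply_symm_apply]⟩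
  have key : ∀ α : MulAut P, ρ α i = i → θ * α * θ⁻¹ ∈ R := by
    intro α hα
    have h1 : θ * α * θ⁻¹ ∈ (R.map ρ).comap ρ := by
      rw [Subgroup.mem_comap, show R.map ρ = _ from hj, MulAction.mem_stabilizer_iff, Equiv.Perm.smul_def,
        map_mul, map_mul, map_inv, hθ, Equiv.swap_inv, Equiv.Perm.mul_apply, Equiv.Perm.mul_apply,
        Equiv.swap_apply_right, hα, Equiv.swap_apply_left]
    rwa [Subgroup.comap_map_eq, hker, sup_eq_left.2 hR] at h1
  exact ⟨θ, key τ hiτ, key π hiπ⟩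

/-- the two elements and their common centralizer in the kernel -/
theorem transfer {L : Type u} [Group L] (f : L →* Equiv.Perm (Fin 3)) (hf : Function.Surjective f)
    (hc : Subgroup.centralizer (f.ker : Set L) = ⊥) {P : Type} [Group P] (η : f.ker ≃* P)
    (eo : Out P ≃* Equiv.Perm (Fin 4)) {τ π : MulAut P} (h3 : τ ^ 3 = 1) (h2 : π ^ 2 = 1)
    (hrel : π * τ * π * τ = 1) (hτ : τ ∉ Inn P) (hπ : π ∉ Inn P) (hπτ : π * τ ∉ Inn P)
    (hfix : ∀ p, τ p = p → π p = p) :
    ∃ (x y : L) (j : ↥(MonoidHom.eqLocus τ.toMonoidHom (MonoidHom.id P)) →* L), Function.Injective j ∧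
      x * x = 1 ∧ y * y = 1 ∧ f x ≠ 1 ∧ f y ≠ 1 ∧ f x ≠ f y ∧
      ∀ l : L, l ∈ j.range ↔ f l = 1 ∧ Commute l x ∧ Commute l y := by
  classical
  set ψ0 : L →* MulAut P := (MulAut.congr η).toMonoidHom.comp MulAut.conjNormal with hψ0
  have v0 : ∀ (l : L) (p : P), ψ0 l p = η (MulAut.conjNormal l (η.symm p)) := fun _ _ => rfl
  have hin0 : ∀ k : f.ker, ψ0 k = MulAut.conj (η k) := fun k => MulEquiv.ext fun p => by
    rw [v0, MulAut.conj_apply]
    have : MulAut.conjNormal (k : L) (η.symm p) = k * η.symm p * k⁻¹ := Subtype.ext (by simp)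
    rw [this, map_mul, map_mul, map_inv, MulEquiv.apply_symm_apply]
  have hinj0 : Function.Injective ψ0 := by
    rw [injective_iff_map_eq_one]
    intro g hg
    have : g ∈ Subgroup.centralizer (f.ker : Set L) := by
      rw [Subgroup.mem_centralizer_iff]
      intro k hk
      have h1 := DFunLike.congr_fun hg (η ⟨k, hk⟩)
      rw [v0, MulEquiv.symm_apply_apply, MulAut.one_apply] at h1
      have h4 := congrArg Subtype.val (η.injective h1)
      simp only [MulAut.conjNormal_apply] at h4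
      calc k * g = g * k * g⁻¹ * g := by rw [h4]
        _ = g * k := inv_mul_cancel_right _ _
    rwa [hc, Subgroup.mem_bot] at this
  have hInn0 : Inn P ≤ ψ0.range := by
    rintro _ ⟨p, rfl⟩
    exact ⟨(η.symm p : L), by rw [hin0, η.apply_symm_apply]⟩
  have h6 : Nat.card (ψ0.range.map (QuotientGroup.mk' (Inn P))) = 6 := by
    let q : L →* Out P := (QuotientGroup.mk' (Inn P)).comp ψ0
    have hker : q.ker = f.ker := by
      ext g
      rw [MonoidHom.mem_ker, MonoidHom.comp_apply, QuotientGroup.mk'_apply, QuotientGroup.eq_one_iff]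
      constructor
      · rintro ⟨p, hp⟩
        obtain ⟨k, rfl⟩ := η.surjective p
        rw [← hin0] at hp
        exact hinj0 hp ▸ k.2
      · exact fun hg => ⟨η ⟨g, hg⟩, (hin0 ⟨g, hg⟩).symm⟩
    rw [show ψ0.range.map (QuotientGroup.mk' (Inn P)) = q.range from (MonoidHom.range_comp _ _).symm,
      ← Nat.card_congr (QuotientGroup.quotientKerEquivRange q).toEquiv, ← Subgroup.index_eq_card, hker,
      Subgroup.index_ker, f.range_eq_top.2 hf, Subgroup.card_top, Nat.card_perm, Nat.card_fin]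
    rfl
  obtain ⟨θ, ⟨t0, ht0⟩, ⟨p0, hp0⟩⟩ := align eo hInn0 h6 h3 h2 hrel hτ
  set ψ : L →* MulAut P := (MulAut.conj θ⁻¹).toMonoidHom.comp ψ0 with hψ
  have vψ : ∀ l, ψ l = θ⁻¹ * ψ0 l * θ := fun l => by
    show θ⁻¹ * ψ0 l * θ⁻¹⁻¹ = _; rw [inv_inv]
  have hinj : Function.Injective ψ := (MulAut.conj θ⁻¹).injective.comp hinj0
  have hin : ∀ k : f.ker, ψ k = MulAut.conj (θ⁻¹ (η k)) := fun k => by
    rw [vψ, hin0]
    ext p
    simp only [MulAut.mul_apply, MulAut.conj_apply, map_mul, map_inv, MulAut.inv_apply_self]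
  have hout : ∀ l, ψ l ∉ Inn P → f l ≠ 1 := fun l h e => h ⟨_, (hin ⟨l, e⟩).symm⟩
  have hxψ : ψ p0 = π := by rw [vψ, hp0]; group
  have htψ : ψ t0 = τ := by rw [vψ, ht0]; group
  have hyψ : ψ (p0 * t0) = π * τ := by rw [map_mul, hxψ, htψ]
  have hyy : (p0 * t0) * (p0 * t0) = 1 := hinj (by rw [map_mul, hyψ, map_one, ← mul_assoc]; exact hrel)
  -- the element of the kernel with a given image
  let up : P →* L := f.ker.subtype.comp (η.symm.toMonoidHom.comp θ.toMonoidHom)
  have hup : ∀ p, ψ (up p) = MulAut.conj p := fun p => by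
    rw [show up p = ((η.symm (θ p) : f.ker) : L) from rfl, hin, η.apply_symm_apply, MulAut.inv_apply_self]
  have hupk : ∀ p, f (up p) = 1 := fun p => (η.symm (θ p)).2
  have hupi : Function.Injective up :=
    f.ker.subtype_injective.comp (η.symm.injective.comp θ.injective)
  have hcomm : ∀ (p : P) (l : L), ψ l p = p → Commute (up p) l := fun p l h => hinj (by
    rw [map_mul, map_mul, hup]
    ext q
    simp only [MulAut.mul_apply, MulAut.conj_apply, map_mul, map_inv, h])
  have hcomm' : ∀ (p : P) (l : L), Commute (up p) l → ψ l p = p := fun p l h => by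
    have e := congrArg (fun z => ψ z) h.eq
    simp only [map_mul, hup] at e
    have hker : ∀ q, p * ψ l q * p⁻¹ = ψ l p * ψ l q * (ψ l p)⁻¹ := fun q => by
      have := DFunLike.congr_fun e q
      simpa only [MulAut.mul_apply, MulAut.conj_apply, map_mul, map_inv] using this
    -- the quotient is central
    have hk : η.symm (θ ((ψ l p)⁻¹ * p)) = 1 := by
      have : up ((ψ l p)⁻¹ * p) = 1 := hinj (by
        rw [hup, map_one]
        ext q
        obtain ⟨q', rfl⟩ := (ψ l).surjective q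
        rw [MulAut.conj_apply, MulAut.one_apply]
        calc (ψ l p)⁻¹ * p * ψ l q' * ((ψ l p)⁻¹ * p)⁻¹ = (ψ l p)⁻¹ * (p * ψ l q' * p⁻¹) * ψ l p := by group
          _ = ψ l q' := by rw [hker q']; group)
      exact Subtype.ext this
    rw [η.symm.map_eq_one_iff, θ.map_eq_one_iff, inv_mul_eq_one] at hk
    exact hk
  set K := MonoidHom.eqLocus τ.toMonoidHom (MonoidHom.id P)
  refine ⟨p0, p0 * t0, up.comp K.subtype, hupi.comp K.subtype_injective, ?_, hyy, hout _ (hxψ ▸ hπ), hout _ (hyψ ▸ hπτ),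
    ?_, fun l => ?_⟩
  · exact hinj (by rw [map_mul, hxψ, map_one, ← pow_two, h2])
  · intro e
    rw [map_mul] at e
    exact hout t0 (htψ ▸ hτ) (mul_left_cancel ((e.symm).trans (mul_one _).symm))
  constructor
  · rintro ⟨k, rfl⟩
    have hk : τ k.1 = k.1 := k.2
    refine ⟨hupk _, hcomm _ _ (by rw [hxψ]; exact hfix _ hk), hcomm _ _ ?_⟩
    rw [hyψ, MulAut.mul_apply, Subgroup.subtype_apply, hk]
    exact hfix _ hk
  · rintro ⟨hl, hlx, hly⟩
    set p := θ⁻¹ (η ⟨l, hl⟩) with hp
    have hlp : up p = l := by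
      show ((η.symm (θ p) : f.ker) : L) = l
      rw [hp, MulAut.apply_inv_self, η.symm_apply_apply]
    rw [← hlp] at hlx hly
    have a1 := hcomm' _ _ hlx
    have a2 := hcomm' _ _ hly
    rw [hxψ] at a1
    rw [hyψ, MulAut.mul_apply] at a2
    exact ⟨⟨p, π.injective (a2.trans a1.symm)⟩, hlp⟩

variable {G : Type u} [Group G] [Finite G] {D : Set G}

/-- there are four members with centralizer of type G2 -/
theorem exists_g2 (hD : Cfsg.IsThreeTranspositionGroup D) (hprim : Cfsg.IsPrimitiveUnderConj D)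
    (ht : Cfsg.IsOfTypeM24 G D) :
    ∃ (a b c d : G) (B : Subgroup G), Nat.card B = 13 ∧ Four D B a b c d ∧
      Nonempty (↥(Subgroup.centralizer (Subgroup.closure ({a, b, c, d} : Set G) : Set G)) ≃*
        ↥(Cfsg.Lie.chevG2.group (ZMod 3))) := by
  classical
  obtain ⟨d, hd, a, ha, hnc', -⟩ := (Count.base_of hD hprim ht).big
  have hnc : ¬ Commute a d := fun h => hnc' h.symm
  obtain ⟨-, f, hf, hiso⟩ := Pair.closure_com hD hprim ht ha hd hnc
  obtain ⟨-, -, hc⟩ := Pair.cent_ker hD hprim ht ha hd hnc f hf hiso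
  obtain ⟨η⟩ := hiso
  haveI : Fact (Nat.Prime 3) := ⟨by norm_num⟩
  haveI : IsSimpleGroup (Cfsg.POmega (ZMod 3) (Cfsg.quadFormPlus 4 (ZMod 3))) := S0296.result 4 le_rfl
  have hS := S2608.result (F := ZMod 3) (p := 3) (f := 1) (m := 4) le_rfl (by simp [ZMod.card]) (by norm_num) le_rfl
  rw [if_pos rfl] at hS
  obtain ⟨e4⟩ := hS
  haveI : Subsingleton (Multiplicative (ZMod 1)) := inferInstanceAs (Subsingleton (Fin 1))
  haveI : Unique (Multiplicative (ZMod 1)) := Unique.mk' _
  obtain ⟨τ, π, h3, h2, hrel, hτ, hπ, hπτ, hfix, ⟨g⟩⟩ := G2Model.pomega_model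
  obtain ⟨x, y, j, hj, hxx, hyy, hfx, hfy, hxy, hrange⟩ :=
    transfer f hf hc η (e4.trans MulEquiv.prodUnique) h3 h2 hrel hτ hπ hπτ hfix
  let ι : ↥(MonoidHom.eqLocus τ.toMonoidHom (MonoidHom.id _)) →* G := (cen a d).subtype.comp j
  have hι : Function.Injective ι := (cen a d).subtype_injective.comp hj
  haveI : Fact (Nat.Prime 13) := ⟨by norm_num⟩
  haveI := Finite.of_injective ι hι
  obtain ⟨u, hu⟩ := exists_prime_orderOf_dvd_card' (G := ↥(MonoidHom.eqLocus τ.toMonoidHom (MonoidHom.id _))) 13 (by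
    rw [Nat.card_congr g.toEquiv, S1059.result (F := ZMod 3) (q := 3) (by simp [ZMod.card])]; norm_num)
  set B := Subgroup.zpowers (ι u)
  have hB : Nat.card B = 13 := by rw [Nat.card_zpowers, orderOf_injective ι hι, hu]
  have hBad : ∀ z ∈ B, Commute z a ∧ Commute z d := fun z hz =>
    mem_cen.mp (show z ∈ cen a d from Subgroup.zpowers_le.mpr (j u).2 hz)
  have hBa : B ≤ Subgroup.centralizer ({a} : Set G) := fun z hz =>
    Subgroup.mem_centralizer_singleton_iff.mpr (hBad z hz).1.eq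
  have hBd : B ≤ Subgroup.centralizer ({d} : Set G) := fun z hz =>
    Subgroup.mem_centralizer_singleton_iff.mpr (hBad z hz).2.eq
  -- a pair of members to go with them
  obtain ⟨n1, n2, -⟩ := near13 hD hprim ht hB hd hBd
  obtain ⟨b, hb, c, hc', hbc⟩ := (Set.one_lt_ncard (Set.toFinite _)).1 (by rw [n1]; norm_num : 1 < (nbr D B d).ncard)
  have e := nbr_eq hD hprim ht hB ha hd hBa hBd hnc
  have hba : b ∈ nbr D B a := e.symm ▸ hb
  have hca : c ∈ nbr D B a := e.symm ▸ hc'
  have F0 : Four D B a b c d := ⟨⟨ha, hb.1.1, hc'.1.1, hd⟩, ⟨hBa, hb.2, hc'.2, hBd⟩, hnc, n2 b hb c hc' hbc,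
    hba.1.2.2, hca.1.2.2, hb.1.2.2, hc'.1.2.2⟩
  have hbr := F0.braid hD
  -- the two involutions are members
  have hmem : ∀ z : cen a d, z * z = 1 → f z ≠ 1 → Commute (j u) z →
      (z : G) ∈ D ∧ B ≤ Subgroup.centralizer ({(z : G)} : Set G) := by
    intro z hz hfz hzu
    have hzB : (z : G) ∈ Subgroup.centralizer (B : Set G) := by
      rw [Subgroup.mem_centralizer_iff]
      intro w hw
      obtain ⟨k, rfl⟩ := Subgroup.mem_zpowers_iff.mp hw
      exact (((hzu.map (cen a d).subtype)).zpow_left k).eq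
    obtain ⟨β, hβ, s, hs, hzs⟩ := F0.pair_dec hD hprim ht hB hzB (mem_cen.mp z.2).1 (mem_cen.mp z.2).2
    have hβs : Commute β s := by
      have : Subgroup.closure ({b, c} : Set G) ≤ Subgroup.centralizer ({β} : Set G) :=
        (Subgroup.closure_le _).2 fun w hw => Subgroup.mem_centralizer_singleton_iff.mpr (by
          rcases hw with rfl | rfl
          exacts [(commute_B F0.cen.2.1 hβ).symm.eq, (commute_B F0.cen.2.2.1 hβ).symm.eq])
      exact (Subgroup.mem_centralizer_singleton_iff.mp (this hs) : s * β = β * s).symm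
    have hs6 : s ^ 6 = 1 := by
      have := pow_card_eq_one' (x := (⟨s, hs⟩ : Subgroup.closure ({b, c} : Set G)))
      rw [braid_card hbr] at this
      exact congrArg Subtype.val this
    have hβ1 : β = 1 := by
      have h13 : β ^ 13 = 1 := Cyc.pow_mem_prime (by norm_num : Nat.Prime 13) hB hβ
      have h6 : β ^ 6 = 1 := by
        have hzz : (z : G) * z = 1 := congrArg Subtype.val hz
        have := congrArg (fun w => w ^ 6) hzs
        simp only [hβs.mul_pow, hs6, mul_one, show (z : G) ^ 6 = ((z : G) * z) ^ 3 by rw [← pow_two, ← pow_mul],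
          hzz, one_pow] at this
        exact this.symm
      calc β = β ^ 13 * ((β ^ 6) ^ 2)⁻¹ := by rw [← pow_mul]; group
        _ = 1 := by rw [h13, h6, one_pow, inv_one, one_mul]
    subst hβ1
    rw [one_mul] at hzs
    refine ⟨?_, fun w hw => Subgroup.mem_centralizer_singleton_iff.mpr
      (Subgroup.mem_centralizer_iff.mp hzB w hw)⟩
    have hcases := mem_six hbr hs
    have hzz : (z : G) * z = 1 := congrArg Subtype.val hz
    have hne : (z : G) ≠ 1 := fun h => hfz (by rw [show z = 1 from Subtype.ext h, map_one])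
    rw [hzs] at hzz hne ⊢
    rcases hcases with rfl | rfl | rfl | rfl | rfl | rfl
    · exact absurd rfl hne
    · exact F0.mem.2.1
    · exact F0.mem.2.2.1
    · exact absurd (show b * c = c * b by
        rw [eq_inv_of_mul_eq_one_left hzz, mul_inv_rev, inv_eq_of_mul_eq_one_right hbr.aa,
          inv_eq_of_mul_eq_one_right hbr.dd]) hbr.nc
    · exact absurd (show b * c = c * b by
        rw [eq_inv_of_mul_eq_one_left hzz, mul_inv_rev, inv_eq_of_mul_eq_one_right hbr.aa,
          inv_eq_of_mul_eq_one_right hbr.dd]) hbr.nc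
    · have := hD.2.1 b c F0.mem.2.2.1
      rwa [inv_eq_of_mul_eq_one_right hbr.aa] at this
  have hu' := (hrange (j u)).1 ⟨u, rfl⟩
  obtain ⟨hxD, hxB⟩ := hmem x hxx hfx hu'.2.1
  obtain ⟨hyD, hyB⟩ := hmem y hyy hfy hu'.2.2
  have hnxy : ¬ Commute (x : G) y := fun h => hxy (Pair.perm_same _ _ (by rw [← map_mul, hxx, map_one]) hfx
    (by rw [← map_mul, hyy, map_one]) hfy ((show Commute x y from Subtype.ext h.eq).map f).eq)
  have F1 : Four D B a x y d := ⟨⟨ha, hxD, hyD, hd⟩, ⟨hBa, hxB, hyB, hBd⟩, hnc, hnxy,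
    (mem_cen.mp x.2).1.symm, (mem_cen.mp y.2).1.symm, (mem_cen.mp x.2).2.symm, (mem_cen.mp y.2).2.symm⟩
  refine ⟨a, x, y, d, B, hB, F1, ?_⟩
  have hK : Subgroup.centralizer (Subgroup.closure ({a, (x : G), (y : G), d} : Set G) : Set G) = ι.range := by
    ext w
    rw [Subgroup.centralizer_closure, Subgroup.mem_centralizer_iff]
    constructor
    · intro hw
      have hwL : w ∈ cen a d := mem_cen.mpr ⟨(hw a (by simp)).symm, (hw d (by simp)).symm⟩
      set z : cen a d := ⟨w, hwL⟩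
      have hzx : Commute z x := Subtype.ext (hw x (by simp)).symm
      have hzy : Commute z y := Subtype.ext (hw y (by simp)).symm
      have hfz : f z = 1 := perm_cent (f x) (f y) (f z) (by rw [← map_mul, hxx, map_one]) hfx
        (by rw [← map_mul, hyy, map_one]) hfy hxy (hzx.map f).eq (hzy.map f).eq
      obtain ⟨k, hk⟩ := (hrange z).2 ⟨hfz, hzx, hzy⟩
      exact ⟨k, congrArg Subtype.val hk⟩
    · rintro ⟨k, rfl⟩ z hz
      obtain ⟨-, h1, h4⟩ := (hrange (j k)).1 ⟨k, rfl⟩
      rcases hz with e | e | e | e <;> rw [e]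
      exacts [(mem_cen.mp (j k).2).1.symm.eq, (h1.map (cen a d).subtype).symm.eq,
        (h4.map (cen a d).subtype).symm.eq, (mem_cen.mp (j k).2).2.symm.eq]
  exact ⟨(MulEquiv.subgroupCongr hK).trans ((MonoidHom.ofInjective hι).symm.trans g)⟩

end Cfsg.Agent.Spor.M24Rel.Thirteen
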