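import Cfsg.Agent.Lib.Spor.M24RelThirteen
import Cfsg.Agent.Lib.JComp.SymFour

/-!
The normalizer of a subgroup of order 13 in a group of type M(24).
-/

set_option autoImplicit false
set_option maxRecDepth 100000
set_option linter.unusedSectionVars false

namespace Cfsg.Agent.Spor.M24Rel.Thirteen

open Cfsg.Agent.Spor.M22U (nset)
open Cfsg.Agent.Spor.PairGen

universe u

variable {G : Type u} [Group G] [Finite G] {D : Set G}

theorem braid_card {a d : G} (h : Braid a d) : Nat.card ↥(Subgroup.closure ({a, d} : Set G)) = 6 := by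
  obtain ⟨φ⟩ := equiv_perm h _ rfl
  rw [Nat.card_congr φ.toEquiv, Nat.card_perm, Nat.card_fin]; rfl

/-- moving a member of a triangle to the first one -/
theorem tri_move {b c x : G} (h : Braid b c) (hx : x = b ∨ x = c ∨ x = b * c * b) :
    ∃ t ∈ Subgroup.closure ({b, c} : Set G), t * x * t⁻¹ = b := by
  have hb : b ∈ Subgroup.closure ({b, c} : Set G) := Subgroup.subset_closure (by simp)
  have hc : c ∈ Subgroup.closure ({b, c} : Set G) := Subgroup.subset_closure (by simp)
  have hbi : b⁻¹ = b := inv_eq_of_mul_eq_one_right h.aa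
  have hci : c⁻¹ = c := inv_eq_of_mul_eq_one_right h.dd
  rcases hx with rfl | rfl | rfl
  · exact ⟨1, one_mem _, by group⟩
  · refine ⟨b * x * b, mul_mem (mul_mem hb hc) hb, ?_⟩
    rw [mul_inv_rev, mul_inv_rev, hbi, hci]
    calc b * x * b * x * (b * (x * b)) = b * (x * b * x) * (b * x * b) := by simp only [mul_assoc]
      _ = b * (b * x * b) * (b * x * b) := by rw [h.br]
      _ = b := by
        calc b * (b * x * b) * (b * x * b) = (b * b) * x * (b * b) * x * b := by simp only [mul_assoc]
          _ = b := by rw [h.aa, one_mul, mul_one, h.dd, one_mul]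
  · refine ⟨c, hc, ?_⟩
    rw [hci, h.br]
    calc c * (c * b * c) * c = (c * c) * b * (c * c) := by simp only [mul_assoc]
      _ = b := by rw [h.dd, one_mul, mul_one]

theorem sup_comm {P Q : Subgroup G} (h : ∀ x ∈ P, ∀ y ∈ Q, Commute x y) : Q ≤ Subgroup.normalizer (P : Set G) :=
  fun y hy => Cyc.mem_normalizer_of_card fun x hx => by
    rw [← (h x hx y hy).eq, mul_inv_cancel_right]; exact hx

namespace Four

variable {B : Subgroup G} {a b c d : G} (h : Four D B a b c d)
include h

theorem comm_pairs : ∀ x ∈ Subgroup.closure ({a, d} : Set G), ∀ y ∈ Subgroup.closure ({b, c} : Set G),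
    Commute x y := by
  intro x hx y hy
  have h1 : Subgroup.closure ({a, d} : Set G) ≤ Subgroup.centralizer ({y} : Set G) := by
    refine (Subgroup.closure_le _).2 fun z hz => Subgroup.mem_centralizer_singleton_iff.mpr ?_
    have h2 : Subgroup.closure ({b, c} : Set G) ≤ Subgroup.centralizer ({z} : Set G) := by
      refine (Subgroup.closure_le _).2 fun w hw => Subgroup.mem_centralizer_singleton_iff.mpr ?_
      rcases hz with rfl | rfl <;> rcases hw with rfl | rfl
      exacts [h.ab.symm.eq, h.ac.symm.eq, h.db.symm.eq, h.dc.symm.eq]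
    exact (Subgroup.mem_centralizer_singleton_iff.mp (h2 hy)).symm
  exact Subgroup.mem_centralizer_singleton_iff.mp (h1 hx)

theorem T_eq : Subgroup.closure ({a, b, c, d} : Set G) =
    Subgroup.closure ({a, d} : Set G) ⊔ Subgroup.closure ({b, c} : Set G) := by
  rw [← Subgroup.closure_union]
  congr 1
  ext x
  simp only [Set.mem_insert_iff, Set.mem_singleton_iff, Set.mem_union]
  tauto

theorem inter_bot (hD : Cfsg.IsThreeTranspositionGroup D) :
    Subgroup.closure ({a, d} : Set G) ⊓ Subgroup.closure ({b, c} : Set G) = ⊥ := by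
  rw [Subgroup.eq_bot_iff_forall]
  intro x hx
  exact central_trivial (h.braid' hD) hx.1 (h.comm_pairs a (Subgroup.subset_closure (by simp)) x hx.2).symm
    (h.comm_pairs d (Subgroup.subset_closure (by simp)) x hx.2).symm

theorem card_T (hD : Cfsg.IsThreeTranspositionGroup D) :
    Nat.card ↥(Subgroup.closure ({a, b, c, d} : Set G)) = 36 := by
  rw [h.T_eq, JComp.card_sup_disjoint (sup_comm h.comm_pairs) (h.inter_bot hD), braid_card (h.braid' hD),
    braid_card (h.braid hD)]

theorem central_T (hD : Cfsg.IsThreeTranspositionGroup D) {g : G} (hg : g ∈ Subgroup.closure ({a, b, c, d} : Set G))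
    (hc : g ∈ Subgroup.centralizer (Subgroup.closure ({a, b, c, d} : Set G) : Set G)) : g = 1 := by
  rw [h.T_eq] at hg
  obtain ⟨x, hx, y, hy, rfl⟩ := (JComp.mem_sup_iff_mul (sup_comm h.comm_pairs)).1 hg
  have hC : ∀ z, z ∈ ({a, b, c, d} : Set G) → Commute (x * y) z := fun z hz =>
    (Subgroup.mem_centralizer_iff.mp hc z (Subgroup.subset_closure hz)).symm
  have hx1 : x = 1 := by
    refine central_trivial (h.braid' hD) hx ?_ ?_
    · have := (hC a (by simp)).mul_left (h.comm_pairs a (Subgroup.subset_closure (by simp)) y hy).symm.inv_left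
      rwa [mul_inv_cancel_right] at this
    · have := (hC d (by simp)).mul_left (h.comm_pairs d (Subgroup.subset_closure (by simp)) y hy).symm.inv_left
      rwa [mul_inv_cancel_right] at this
  subst hx1
  rw [one_mul]
  exact central_trivial (h.braid hD) hy (by have := hC b (by simp); rwa [one_mul] at this)
    (by have := hC c (by simp); rwa [one_mul] at this)

theorem B_le : B ≤ Subgroup.centralizer (Subgroup.closure ({a, b, c, d} : Set G) : Set G) := by
  intro x hx
  rw [Subgroup.mem_centralizer_iff]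
  intro t ht
  have : Subgroup.closure ({a, b, c, d} : Set G) ≤ Subgroup.centralizer ({x} : Set G) := by
    refine (Subgroup.closure_le _).2 fun z hz => Subgroup.mem_centralizer_singleton_iff.mpr ?_
    rcases hz with rfl | rfl | rfl | rfl
    exacts [(commute_B h.cen.1 hx).symm.eq, (commute_B h.cen.2.1 hx).symm.eq,
      (commute_B h.cen.2.2.1 hx).symm.eq, (commute_B h.cen.2.2.2 hx).symm.eq]
  exact Subgroup.mem_centralizer_singleton_iff.mp (this ht)

theorem six_le {x : G} (hx : x ∈ ({a, d, a * d * a, b, c, b * c * b} : Set G)) :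
    x ∈ Subgroup.closure ({a, b, c, d} : Set G) := by
  have ha : a ∈ Subgroup.closure ({a, b, c, d} : Set G) := Subgroup.subset_closure (by simp)
  have hb : b ∈ Subgroup.closure ({a, b, c, d} : Set G) := Subgroup.subset_closure (by simp)
  have hc : c ∈ Subgroup.closure ({a, b, c, d} : Set G) := Subgroup.subset_closure (by simp)
  have hd : d ∈ Subgroup.closure ({a, b, c, d} : Set G) := Subgroup.subset_closure (by simp)
  rcases hx with rfl | rfl | rfl | rfl | rfl | rfl
  exacts [ha, hd, mul_mem (mul_mem ha hd) ha, hb, hc, mul_mem (mul_mem hb hc) hb]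

theorem conj_six (hD : Cfsg.IsThreeTranspositionGroup D) (hprim : Cfsg.IsPrimitiveUnderConj D)
    (ht : Cfsg.IsOfTypeM24 G D) (hB : Nat.card B = 13) {g : G} (hg : g ∈ Subgroup.normalizer (B : Set G))
    {x : G} (hx : x ∈ D) (hBx : B ≤ Subgroup.centralizer ({x} : Set G)) :
    g * x * g⁻¹ ∈ D ∧ B ≤ Subgroup.centralizer ({g * x * g⁻¹} : Set G) ∧
      g * x * g⁻¹ ∈ ({a, d, a * d * a, b, c, b * c * b} : Set G) := by
  have h1 := hD.2.1 g x hx
  have h2 : B ≤ Subgroup.centralizer ({g * x * g⁻¹} : Set G) := by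
    intro y hy
    have hy' := (Subgroup.mem_normalizer_iff''.mp hg y).mp hy
    rw [Subgroup.mem_centralizer_singleton_iff]
    have := (commute_B hBx hy').eq
    calc y * (g * x * g⁻¹) = g * ((g⁻¹ * y * g) * x) * g⁻¹ := by group
      _ = g * (x * (g⁻¹ * y * g)) * g⁻¹ := by rw [this]
      _ = g * x * g⁻¹ * y := by group
  exact ⟨h1, h2, h.members hD hprim ht hB h1 h2⟩

theorem norm_T (hD : Cfsg.IsThreeTranspositionGroup D) (hprim : Cfsg.IsPrimitiveUnderConj D)
    (ht : Cfsg.IsOfTypeM24 G D) (hB : Nat.card B = 13) {g : G} (hg : g ∈ Subgroup.normalizer (B : Set G)) :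
    g ∈ Subgroup.normalizer (Subgroup.closure ({a, b, c, d} : Set G) : Set G) := by
  refine Cyc.mem_normalizer_of_card fun t htT => ?_
  have : Subgroup.closure ({a, b, c, d} : Set G) ≤
      (Subgroup.closure ({a, b, c, d} : Set G)).comap (MulAut.conj g).toMonoidHom := by
    refine (Subgroup.closure_le _).2 fun x hx => ?_
    show g * x * g⁻¹ ∈ Subgroup.closure ({a, b, c, d} : Set G)
    rcases hx with rfl | rfl | rfl | rfl
    exacts [h.six_le (h.conj_six hD hprim ht hB hg h.mem.1 h.cen.1).2.2,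
      h.six_le (h.conj_six hD hprim ht hB hg h.mem.2.1 h.cen.2.1).2.2,
      h.six_le (h.conj_six hD hprim ht hB hg h.mem.2.2.1 h.cen.2.2.1).2.2,
      h.six_le (h.conj_six hD hprim ht hB hg h.mem.2.2.2 h.cen.2.2.2).2.2]
  exact this htT

theorem norm_K (hD : Cfsg.IsThreeTranspositionGroup D) (hprim : Cfsg.IsPrimitiveUnderConj D)
    (ht : Cfsg.IsOfTypeM24 G D) (hB : Nat.card B = 13) :
    Subgroup.normalizer (B : Set G) ≤
      Subgroup.normalizer (Subgroup.centralizer (Subgroup.closure ({a, b, c, d} : Set G) : Set G) : Set G) := by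
  intro g hg
  refine Cyc.mem_normalizer_of_card fun k hk => Subgroup.mem_centralizer_iff.mpr fun t htT => ?_
  have ht' := (Subgroup.mem_normalizer_iff''.mp (h.norm_T hD hprim ht hB hg) t).mp htT
  have := Subgroup.mem_centralizer_iff.mp hk _ ht'
  calc t * (g * k * g⁻¹) = g * ((g⁻¹ * t * g) * k) * g⁻¹ := by group
    _ = g * (k * (g⁻¹ * t * g)) * g⁻¹ := by rw [this]
    _ = g * k * g⁻¹ * t := by group

theorem card_NB (hD : Cfsg.IsThreeTranspositionGroup D) (hprim : Cfsg.IsPrimitiveUnderConj D)
    (ht : Cfsg.IsOfTypeM24 G D) (hB : Nat.card B = 13) :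
    Nat.card ↥(Subgroup.normalizer (B : Set G)) = 5616 := by
  classical
  have hG := Count.card_G (Count.base_of hD hprim ht)
  have h936 := (near13 hD hprim ht hB h.mem.2.2.2 h.cen.2.2.2).2.2.2
  set N := Subgroup.normalizer (B : Set G)
  have hs := Spor.conj_image_ncard d N
  set s := (Subgroup.centralizer ({d} : Set G)).relIndex N
  have hs6 : s ≤ 6 := by
    rw [← hs]
    refine (Set.ncard_le_ncard (t := ({a, d, a * d * a, b, c, b * c * b} : Set G)) ?_ (Set.toFinite _)).trans ?_
    · rintro _ ⟨g, hg, rfl⟩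
      exact (h.conj_six hD hprim ht hB hg h.mem.2.2.2 h.cen.2.2.2).2.2
    · repeat (first
        | exact (Set.ncard_singleton _).le
        | refine (Set.ncard_insert_le _ _).trans (Nat.add_le_add_right ?_ 1))
  have hN : s * 936 = Nat.card N := by
    rw [← h936, ← Nat.card_congr (Subgroup.subgroupOfEquivOfLe (inf_le_left :
      N ⊓ Subgroup.centralizer ({d} : Set G) ≤ N)).toEquiv, Subgroup.inf_subgroupOf_left, mul_comm]
    exact Subgroup.card_mul_index _
  obtain ⟨m, n, -, hn, h3, h4⟩ := M22U.PrimeCount.card_normalizer (by norm_num : Nat.Prime 13)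
    (by rw [hG]; norm_num) (by rw [hG]; norm_num) hB
  rw [← h3] at h4
  rw [hG, ← hN] at h4
  rw [← hN]
  interval_cases s <;> omega

theorem card_KN (hD : Cfsg.IsThreeTranspositionGroup D) (hprim : Cfsg.IsPrimitiveUnderConj D)
    (ht : Cfsg.IsOfTypeM24 G D) (hB : Nat.card B = 13) :
    Nat.card ↥(Subgroup.centralizer (Subgroup.closure ({a, b, c, d} : Set G) : Set G) ⊓
      Subgroup.normalizer (B : Set G)) = 78 := by
  have hbr := h.braid hD
  have hbr' := h.braid' hD
  set T := Subgroup.closure ({a, b, c, d} : Set G) with hT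
  set N := Subgroup.normalizer (B : Set G)
  set W := Subgroup.centralizer (T : Set G) ⊓ N
  set S := Subgroup.closure ({b, c} : Set G) with hS
  set U := Subgroup.zpowers d ⊔ S
  have hdS : ∀ x ∈ Subgroup.zpowers d, ∀ y ∈ S, Commute x y := fun x hx y hy => by
    obtain ⟨k, rfl⟩ := Subgroup.mem_zpowers_iff.mp hx
    exact (h.comm_pairs d (Subgroup.subset_closure (by simp)) y hy).zpow_left k
  have hdz : ∀ x ∈ Subgroup.zpowers d, x = 1 ∨ x = d := by
    intro x hx
    obtain ⟨k, rfl⟩ := Subgroup.mem_zpowers_iff.mp hx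
    have hd2 : d ^ (2 : ℤ) = 1 := by rw [zpow_two]; exact hbr'.dd
    rcases Int.even_or_odd k with ⟨j, rfl⟩ | ⟨j, rfl⟩
    · left; rw [← two_mul, zpow_mul, hd2, one_zpow]
    · right; rw [zpow_add, zpow_mul, hd2, one_zpow, one_mul, zpow_one]
  have hdis : Subgroup.zpowers d ⊓ S = ⊥ := by
    rw [Subgroup.eq_bot_iff_forall]
    intro x hx
    rcases hdz x hx.1 with rfl | rfl
    · rfl
    · exact absurd (h.comm_pairs a (Subgroup.subset_closure (by simp)) x hx.2) h.nad
  have hU : Nat.card U = 12 := by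
    rw [JComp.card_sup_disjoint (sup_comm hdS) hdis, Nat.card_zpowers, hD.1.1 d h.mem.2.2.2, braid_card hbr]
  have hUT : U ≤ T := by
    rw [hT, h.T_eq]
    exact sup_le (le_trans (Subgroup.zpowers_le.mpr (Subgroup.subset_closure (by simp))) le_sup_left) le_sup_right
  have hTB : T ≤ Subgroup.centralizer (B : Set G) := fun t htT => Subgroup.mem_centralizer_iff.mpr fun x hx =>
    (Subgroup.mem_centralizer_iff.mp (h.B_le hx) t htT).symm
  have hTN : T ≤ N := hTB.trans (M23Rel.Cyc.cent_le_norm B)
  have hWU : W ⊓ U = ⊥ := by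
    rw [Subgroup.eq_bot_iff_forall]
    intro x hx
    exact h.central_T hD (hUT hx.2) hx.1.1
  have hcomm : ∀ x ∈ W, ∀ y ∈ U, Commute x y := fun x hx y hy =>
    (Subgroup.mem_centralizer_iff.mp hx.1 y (hUT hy)).symm
  have hsup : W ⊔ U = N ⊓ Subgroup.centralizer ({d} : Set G) := by
    have hdT : d ∈ T := Subgroup.subset_closure (by simp)
    have hUd : U ≤ Subgroup.centralizer ({d} : Set G) := sup_le
      (Subgroup.zpowers_le.mpr (Subgroup.mem_centralizer_singleton_iff.mpr rfl))
      ((Subgroup.closure_le _).2 fun x hx => Subgroup.mem_centralizer_singleton_iff.mpr (by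
        rcases hx with rfl | rfl
        exacts [h.db.symm.eq, h.dc.symm.eq]))
    refine le_antisymm (sup_le (le_inf inf_le_right fun x hx => ?_) (le_inf (hUT.trans hTN) hUd)) fun n hn => ?_
    · exact Subgroup.mem_centralizer_singleton_iff.mpr (Subgroup.mem_centralizer_iff.mp hx.1 d hdT).symm
    have hnd : Commute n d := Subgroup.mem_centralizer_singleton_iff.mp hn.2
    -- the image of a neighbour
    have himg : ∀ g ∈ N, Commute g d → ∀ x ∈ ({b, c, b * c * b} : Set G),
        g * x * g⁻¹ ∈ ({b, c, b * c * b} : Set G) := by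
      intro g hg hgd x hx
      rw [← h.nbr_d hD hprim ht hB] at hx ⊢
      exact ⟨M23Rel.nset_conj ((Count.base_of hD hprim ht).set d h.mem.2.2.2).pre hgd hx.1,
        (h.conj_six hD hprim ht hB hg hx.1.1 hx.2).2.1⟩
    obtain ⟨t, htS, htb⟩ := tri_move hbr (x := n * b * n⁻¹) (by simpa using himg n hn.1 hnd b (by simp))
    have hbS : b ∈ S := Subgroup.subset_closure (by simp)
    have htd : ∀ s ∈ S, Commute s d := fun s hs => (h.comm_pairs d (Subgroup.subset_closure (by simp)) s hs).symm
    have hsT : ∀ s ∈ S, s ∈ N := fun s hs => hTN (hUT (Subgroup.mem_sup_right hs))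
    have hm1N : t * n ∈ N := mul_mem (hsT t htS) hn.1
    have hm1d : Commute (t * n) d := (htd t htS).mul_left hnd
    have hm1b : (t * n) * b * (t * n)⁻¹ = b := by
      rw [← show t * (n * b * n⁻¹) * t⁻¹ = t * n * b * (t * n)⁻¹ by group]; exact htb
    obtain ⟨t', ht'S, ht'b, ht'c⟩ : ∃ t' ∈ S, t' * b * t'⁻¹ = b ∧ t' * ((t * n) * c * (t * n)⁻¹) * t'⁻¹ = c := by
      rcases himg _ hm1N hm1d c (by simp) with e | e | e
      · exfalso
        have := mul_left_cancel (mul_right_cancel (e.trans hm1b.symm))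
        exact h.nbc (this ▸ Commute.refl b)
      · exact ⟨1, one_mem _, by group, by rw [e]; group⟩
      · refine ⟨b, hbS, by group, ?_⟩
        rw [e, inv_eq_of_mul_eq_one_right hbr.aa]
        calc b * (b * c * b) * b = (b * b) * c * (b * b) := by simp only [mul_assoc]
          _ = c := by rw [hbr.aa, one_mul, mul_one]
    set m := t' * (t * n) with hm
    have hmN : m ∈ N := mul_mem (hsT t' ht'S) hm1N
    have hmd : Commute m d := (htd t' ht'S).mul_left hm1d
    have hmb : m * b * m⁻¹ = b := by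
      rw [← show t' * ((t * n) * b * (t * n)⁻¹) * t'⁻¹ = m * b * m⁻¹ by rw [hm]; group, hm1b, ht'b]
    have hmc : m * c * m⁻¹ = c := by
      rw [← show t' * ((t * n) * c * (t * n)⁻¹) * t'⁻¹ = m * c * m⁻¹ by rw [hm]; group, ht'c]
    obtain ⟨i, hiU, hia, hib, hic, hid⟩ : ∃ i ∈ U, i * (m * a * m⁻¹) * i⁻¹ = a ∧ Commute i b ∧ Commute i c ∧
        Commute i d := by
      obtain ⟨-, -, h6⟩ := h.conj_six hD hprim ht hB hmN h.mem.1 h.cen.1
      have hna : ¬ Commute (m * a * m⁻¹) d := fun hc => h.nad (by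
        have hh := (Spor.commute_conj_iff (g := m⁻¹)).mpr hc
        rwa [show m⁻¹ * (m * a * m⁻¹) * m⁻¹⁻¹ = a by group, inv_inv,
          show m⁻¹ * d * m = d by rw [mul_assoc, ← hmd.eq, inv_mul_cancel_left]] at hh)
      rcases h6 with e | e | e | e | e | e
      · exact ⟨1, one_mem _, by rw [e]; group, Commute.one_left _, Commute.one_left _, Commute.one_left _⟩
      · exact absurd (e ▸ Commute.refl d) hna
      · refine ⟨d, Subgroup.mem_sup_left (Subgroup.mem_zpowers d), ?_, h.db, h.dc, Commute.refl d⟩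
        rw [e, hbr'.br, inv_eq_of_mul_eq_one_right hbr'.dd]
        calc d * (d * a * d) * d = (d * d) * a * (d * d) := by simp only [mul_assoc]
          _ = a := by rw [hbr'.dd, one_mul, mul_one]
      · exact absurd (e ▸ h.db.symm) hna
      · exact absurd (e ▸ h.dc.symm) hna
      · exact absurd (e ▸ (h.db.symm.mul_left h.dc.symm).mul_left h.db.symm) hna
    have hW : i * m ∈ W := by
      refine ⟨Subgroup.mem_centralizer_iff.mpr fun x hx => ?_, mul_mem (hTN (hUT hiU)) hmN⟩
      have hle : T ≤ Subgroup.centralizer ({i * m} : Set G) := by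
        refine (Subgroup.closure_le _).2 fun z hz => Subgroup.mem_centralizer_singleton_iff.mpr ?_
        have key : ∀ w, (i * m) * w * (i * m)⁻¹ = w → w * (i * m) = (i * m) * w := fun w hw =>
          (mul_inv_eq_iff_eq_mul.mp hw).symm
        rcases hz with rfl | rfl | rfl | rfl
        · exact key _ (by rw [show i * m * z * (i * m)⁻¹ = i * (m * z * m⁻¹) * i⁻¹ by group]; exact hia)
        · exact key _ (by
            rw [show i * m * z * (i * m)⁻¹ = i * (m * z * m⁻¹) * i⁻¹ by group, hmb, hib.eq,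
              mul_inv_cancel_right])
        · exact key _ (by
            rw [show i * m * z * (i * m)⁻¹ = i * (m * z * m⁻¹) * i⁻¹ by group, hmc, hic.eq,
              mul_inv_cancel_right])
        · exact (hid.mul_left hmd).symm.eq
      exact Subgroup.mem_centralizer_singleton_iff.mp (hle hx)
    have e : n = (i * t' * t)⁻¹ * (i * m) := by rw [hm]; group
    rw [e]
    exact mul_mem (Subgroup.mem_sup_right (inv_mem (mul_mem (mul_mem hiU (Subgroup.mem_sup_right ht'S))
      (Subgroup.mem_sup_right htS)))) (Subgroup.mem_sup_left hW)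
  have h936 := (near13 hD hprim ht hB h.mem.2.2.2 h.cen.2.2.2).2.2.2
  rw [← hsup, JComp.card_sup_disjoint (sup_comm hcomm) hWU, hU] at h936
  omega

theorem cent_K (hD : Cfsg.IsThreeTranspositionGroup D) (hprim : Cfsg.IsPrimitiveUnderConj D)
    (ht : Cfsg.IsOfTypeM24 G D) (hB : Nat.card B = 13) :
    Subgroup.centralizer (Subgroup.closure ({a, b, c, d} : Set G) : Set G) ⊓
      Subgroup.centralizer (B : Set G) = B := by
  haveI : Fact (Nat.Prime 13) := ⟨by norm_num⟩
  refine le_antisymm (fun g hg => ?_) (le_inf h.B_le (M23Rel.Cyc.le_cent_self hB))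
  have hc : ∀ x ∈ ({a, b, c, d} : Set G), Commute g x := fun x hx =>
    (Subgroup.mem_centralizer_iff.mp hg.1 x (Subgroup.subset_closure hx)).symm
  obtain ⟨β, hβ, s, hs, rfl⟩ := h.pair_dec hD hprim ht hB hg.2 (hc a (by simp)) (hc d (by simp))
  have : s = 1 := by
    refine central_trivial (h.braid hD) hs ?_ ?_
    · have := (commute_B h.cen.2.1 hβ).inv_left.mul_left (hc b (by simp))
      rwa [inv_mul_cancel_left] at this
    · have := (commute_B h.cen.2.2.1 hβ).inv_left.mul_left (hc c (by simp))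
      rwa [inv_mul_cancel_left] at this
  rw [this, mul_one]; exact hβ

theorem index_two (hD : Cfsg.IsThreeTranspositionGroup D) (hprim : Cfsg.IsPrimitiveUnderConj D)
    (ht : Cfsg.IsOfTypeM24 G D) (hB : Nat.card B = 13) :
    (((Subgroup.centralizer (Subgroup.closure ({a, b, c, d} : Set G) : Set G) ⊓ Subgroup.normalizer (B : Set G)) ⊔
      Subgroup.closure ({a, b, c, d} : Set G)).subgroupOf (Subgroup.normalizer (B : Set G))).index = 2 := by
  set T := Subgroup.closure ({a, b, c, d} : Set G)
  set N := Subgroup.normalizer (B : Set G)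
  set W := Subgroup.centralizer (T : Set G) ⊓ N
  have hTN : T ≤ N := fun t htT => M23Rel.Cyc.cent_le_norm B (Subgroup.mem_centralizer_iff.mpr fun x hx =>
    (Subgroup.mem_centralizer_iff.mp (h.B_le hx) t htT).symm)
  have hcomm : ∀ x ∈ W, ∀ y ∈ T, Commute x y := fun x hx y hy =>
    (Subgroup.mem_centralizer_iff.mp hx.1 y hy).symm
  have hdis : W ⊓ T = ⊥ := by
    rw [Subgroup.eq_bot_iff_forall]
    exact fun x hx => h.central_T hD hx.2 hx.1.1
  have h1 := Subgroup.card_mul_index ((W ⊔ T).subgroupOf N)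
  rw [Nat.card_congr (Subgroup.subgroupOfEquivOfLe (sup_le inf_le_right hTN)).toEquiv,
    JComp.card_sup_disjoint (sup_comm hcomm) hdis, h.card_KN hD hprim ht hB, h.card_T hD,
    h.card_NB hD hprim ht hB] at h1
  omega

end Four

end Cfsg.Agent.Spor.M24Rel.Thirteen
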