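import Cfsg.Agent.Lib.Spor.M24RelPairTwo
import Cfsg.Agent.Lib.Spor.M24RelTriPsu
import Cfsg.Agent.Lib.Spor.M23RelProdCent

/-!
The centralizer in the derived group of the product of three commuting members of a group of type M(24).
-/

set_option autoImplicit false
set_option maxRecDepth 100000
set_option linter.unusedSectionVars false

namespace Cfsg.Agent.Spor.M24Rel.Tri

open Cfsg.Agent.Spor.M22U (nset)
open Cfsg.Agent.Spor.M23Rel

variable {G : Type*} [Group G] [Finite G] {D : Set G}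

theorem card_four {Q : Type*} [Group Q] {a b : Q} (ha : a * a = 1) (hb : b * b = 1) (hab : Commute a b)
    (h1 : a ≠ 1) (h2 : b ≠ 1) (hne : a ≠ b) : Nat.card (Subgroup.closure ({a, b} : Set Q)) = 4 := by
  let S : Subgroup Q :=
    { carrier := {1, a, b, a * b}
      one_mem' := Or.inl rfl
      mul_mem' := by
        rintro x y (rfl | rfl | rfl | rfl) (rfl | rfl | rfl | rfl) <;>
          simp only [Set.mem_insert_iff, Set.mem_singleton_iff, mul_one, one_mul, ha, hb, ← mul_assoc] <;>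
          simp [mul_assoc, ha, hb, hab.symm.eq] <;> simp [← mul_assoc, ha, hb]
      inv_mem' := by
        rintro x (rfl | rfl | rfl | rfl) <;>
          simp [inv_eq_of_mul_eq_one_right ha, inv_eq_of_mul_eq_one_right hb, mul_inv_rev, hab.symm.eq] }
  have e : Subgroup.closure ({a, b} : Set Q) = S := by
    refine le_antisymm ((Subgroup.closure_le _).2 ?_) ?_
    · rintro x (rfl | rfl)
      exacts [Or.inr (Or.inl rfl), Or.inr (Or.inr (Or.inl rfl))]
    · rintro x (rfl | rfl | rfl | rfl)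
      exacts [one_mem _, Subgroup.subset_closure (by simp), Subgroup.subset_closure (by simp),
        mul_mem (Subgroup.subset_closure (by simp)) (Subgroup.subset_closure (by simp))]
  rw [e, ← SetLike.coe_sort_coe, Nat.card_coe_set_eq]
  have hab1 : a * b ≠ 1 := fun h => hne ((eq_inv_of_mul_eq_one_left h).trans (inv_eq_of_mul_eq_one_right hb))
  show ({1, a, b, a * b} : Set Q).ncard = 4
  have := Set.toFinite ({1, a, b, a * b} : Set Q)
  rw [Set.ncard_insert_of_notMem, Set.ncard_insert_of_notMem, Set.ncard_pair]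
  · exact fun h => h1 (mul_eq_right.mp h.symm)
  · simp [hne, Ne.symm hab1, h2]
  · simp [Ne.symm h1, Ne.symm h2, Ne.symm hab1]

theorem perm_cover : ∀ σ : Equiv.Perm (Fin 3), σ = 1 ∨ σ = Equiv.swap 0 1 ∨ σ = Equiv.swap 0 2 ∨
    σ = Equiv.swap 0 1 * Equiv.swap 0 2 ∨ σ = Equiv.swap 0 2 * Equiv.swap 0 1 ∨
    σ = Equiv.swap 0 1 * Equiv.swap 0 2 * Equiv.swap 0 1 := by decide +kernel

/-- an element of the derived group exchanging two members and fixing a third -/
theorem exists_swap (hD : Cfsg.IsThreeTranspositionGroup D) (hprim : Cfsg.IsPrimitiveUnderConj D)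
    (ht : Cfsg.IsOfTypeM24 G D) {a b c : G} (hc : c ∈ D) (ha : a ∈ nset D c) (hb : b ∈ nset D c) (hab : a ≠ b)
    (cab : Commute a b) : ∃ g ∈ commutator G, g * a * g⁻¹ = b ∧ g * b * g⁻¹ = a ∧ g * c * g⁻¹ = c := by
  have B := Count.base_of hD hprim ht
  obtain ⟨hi, -, hnD⟩ := Base.comm_facts hD hprim ht
  have S := B.set c hc
  have hy : S.img b hb ∈ nset (nextSet D c) (S.img a ha) :=
    ⟨S.img_mem hb, fun h => hab (S.img_inj ha hb h.symm),
      (Commute.map (x := (⟨a, Subgroup.subset_closure ha⟩ : ↥(Subgroup.closure (nset D c))))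
        (y := ⟨b, Subgroup.subset_closure hb⟩) (Subtype.ext cab.eq)
        (QuotientGroup.mk' (Subgroup.center ↥(Subgroup.closure (nset D c)))) :)⟩
  obtain ⟨u, hu1, hu2⟩ := ProdCent.exists_swap S.group S.next_prim S.next (S.img_mem ha) hy
  obtain ⟨⟨g, hg⟩, rfl⟩ := QuotientGroup.mk_surjective u
  have hgc : Commute g c := commute_of_mem hg
  have e1 : g * a * g⁻¹ = b := S.img_inj (nset_conj S.pre hgc ha) hb hu1
  have e2 : g * b * g⁻¹ = a := S.img_inj (nset_conj S.pre hgc hb) ha hu2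
  by_cases hgC : g ∈ commutator G
  · exact ⟨g, hgC, e1, e2, mul_inv_eq_iff_eq_mul.mpr hgc.eq⟩
  refine ⟨g * c, (Subgroup.mul_mem_iff_of_index_two hi).mpr (iff_of_false hgC (hnD c hc)), ?_, ?_, ?_⟩
  · rw [show g * c * a * (g * c)⁻¹ = g * (c * a * c⁻¹) * g⁻¹ by group, ha.2.2.eq, mul_inv_cancel_right, e1]
  · rw [show g * c * b * (g * c)⁻¹ = g * (c * b * c⁻¹) * g⁻¹ by group, hb.2.2.eq, mul_inv_cancel_right, e2]
  · rw [show g * c * c * (g * c)⁻¹ = g * c * g⁻¹ by group, hgc.eq, mul_inv_cancel_right]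

theorem tri_main (hD : Cfsg.IsThreeTranspositionGroup D) (hprim : Cfsg.IsPrimitiveUnderConj D)
    (ht : Cfsg.IsOfTypeM24 G D) {d₁ d₂ d₃ : G} (h₁ : d₁ ∈ D) (h₂ : d₂ ∈ D) (h₃ : d₃ ∈ D)
    (h12 : d₁ ≠ d₂) (h13 : d₁ ≠ d₃) (h23 : d₂ ≠ d₃) (c12 : Commute d₁ d₂) (c13 : Commute d₁ d₃)
    (c23 : Commute d₂ d₃) (E CL K : Subgroup G)
    (hE : E = Subgroup.closure ({d₁ * d₂, d₁ * d₃} : Set G))
    (hCL : CL = commutator G ⊓ Subgroup.centralizer ({d₁ * d₂ * d₃} : Set G))
    (hK : K = (Cfsg.generalizedFittingSubgroup ↥CL).map CL.subtype) :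
    Cfsg.IsQuasisimple ↥K ∧ (Subgroup.center ↥K).map K.subtype = E ∧
      K = commutator G ⊓ Subgroup.centralizer (E : Set G) ∧
      (∃ (_ : (E.subgroupOf K).Normal) (F : Type) (_ : Field F) (_ : Fintype F), Fintype.card F = 4 ∧
        Nonempty (↥K ⧸ E.subgroupOf K ≃* Cfsg.PSU 6 F 2)) ∧
      ∃ _ : (K.subgroupOf CL).Normal, Nonempty (↥CL ⧸ K.subgroupOf CL ≃* Equiv.Perm (Fin 3)) ∧ E ≤ CL ∧
        ∃ (_ : (E.subgroupOf CL).Normal) (F : Type) (_ : Field F) (_ : Fintype F), Fintype.card F = 4 ∧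
          Nonempty (↥CL ⧸ E.subgroupOf CL ≃* MulAut (Cfsg.PSU 6 F 2)) := by
  classical
  have B := Count.base_of hD hprim ht
  obtain ⟨hi, -, hnD⟩ := Base.comm_facts hD hprim ht
  have hrel := Top.noRel_group hD hprim (Or.inr ht)
  have S := B.set d₁ h₁
  have sq : ∀ x ∈ D, x * x = 1 := fun x hx => mul_self_of_order_two (hD.1.1 x hx)
  set j := d₁ * d₂ * d₃ with hj
  have n2 : d₂ ∈ nset D d₁ := ⟨h₂, h12.symm, c12⟩
  have n3 : d₃ ∈ nset D d₁ := ⟨h₃, h13.symm, c13⟩
  set t₂ := S.img d₂ n2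
  set t₃ := S.img d₃ n3
  have ht3 : t₃ ∈ nset (nextSet D d₁) t₂ :=
    ⟨S.img_mem n3, fun h => h23 (S.img_inj n2 n3 h.symm),
      (Commute.map (x := (⟨d₂, Subgroup.subset_closure n2⟩ : ↥(Subgroup.closure (nset D d₁))))
        (y := ⟨d₃, Subgroup.subset_closure n3⟩) (Subtype.ext c23.eq)
        (QuotientGroup.mk' (Subgroup.center ↥(Subgroup.closure (nset D d₁)))) :)⟩
  have S' := Shift.setting_of S.group S.next_prim S.next (S.img_mem n2)
  set K0 := commutator G ⊓ Subgroup.centralizer (E : Set G) with hK0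
  -- elements centralising the two products fix the three members
  have hpair : ∀ {a b g : G}, a ∈ D → b ∈ D → a ≠ b → Commute a b → Commute g (a * b) →
      (g * a * g⁻¹ = a ∧ g * b * g⁻¹ = b) ∨ (g * a * g⁻¹ = b ∧ g * b * g⁻¹ = a) := by
    intro a b g ha hb hab cab hg
    refine Two.pair_det hD hrel.1 ha hb (hD.2.1 g a ha) (hD.2.1 g b hb) hab cab
      (fun e => hab (mul_left_cancel (mul_right_cancel e))) (Spor.commute_conj_iff.mpr cab) ?_
    rw [show g * a * g⁻¹ * (g * b * g⁻¹) = g * (a * b) * g⁻¹ by group, hg.eq, mul_inv_cancel_right]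
  have e12E : d₁ * d₂ ∈ E := hE ▸ Subgroup.subset_closure (by simp)
  have e13E : d₁ * d₃ ∈ E := hE ▸ Subgroup.subset_closure (by simp)
  have hmK : ∀ u, u ∈ K0 ↔ u ∈ commutator G ∧ Commute u d₁ ∧ Commute u d₂ ∧ Commute u d₃ := fun u => by
    rw [hK0, Subgroup.mem_inf]
    refine and_congr_right fun _ => ⟨fun h => ?_, ?_⟩
    · have k12 : Commute u (d₁ * d₂) := (Subgroup.mem_centralizer_iff.mp h _ e12E).symm
      have k13 : Commute u (d₁ * d₃) := (Subgroup.mem_centralizer_iff.mp h _ e13E).symm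
      rcases hpair h₁ h₂ h12 c12 k12 with ⟨a, b⟩ | ⟨a, b⟩ <;>
        rcases hpair h₁ h₃ h13 c13 k13 with ⟨a', b'⟩ | ⟨a', b'⟩
      · exact ⟨mul_inv_eq_iff_eq_mul.mp a, mul_inv_eq_iff_eq_mul.mp b, mul_inv_eq_iff_eq_mul.mp b'⟩
      · exact absurd (a.symm.trans a') h13
      · exact absurd (a.symm.trans a').symm h12
      · exact absurd (a.symm.trans a') h23
    · rintro ⟨k1, k2, k3⟩
      have : E ≤ Subgroup.centralizer ({u} : Set G) := by
        rw [hE, Subgroup.closure_le]
        rintro z (rfl | rfl)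
        · exact Subgroup.mem_centralizer_singleton_iff.mpr (k1.mul_right k2).symm.eq
        · exact Subgroup.mem_centralizer_singleton_iff.mpr (k1.mul_right k3).symm.eq
      exact Subgroup.mem_centralizer_iff.mpr fun z hz => Subgroup.mem_centralizer_singleton_iff.mp (this hz)
  have e12K : d₁ * d₂ ∈ K0 := (hmK _).mpr ⟨(Subgroup.mul_mem_iff_of_index_two hi).mpr
    (iff_of_false (hnD d₁ h₁) (hnD d₂ h₂)), (Commute.refl d₁).mul_left c12.symm,
    c12.mul_left (Commute.refl d₂), c13.mul_left c23⟩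
  have e13K : d₁ * d₃ ∈ K0 := (hmK _).mpr ⟨(Subgroup.mul_mem_iff_of_index_two hi).mpr
    (iff_of_false (hnD d₁ h₁) (hnD d₃ h₃)), (Commute.refl d₁).mul_left c13.symm,
    c12.mul_left c23.symm, c13.mul_left (Commute.refl d₃)⟩
  have hEK : E ≤ K0 := by
    rw [hE, Subgroup.closure_le]
    rintro z (rfl | rfl)
    exacts [e12K, e13K]
  have hKH : K0 ≤ Subgroup.closure (nset D d₁) := fun u hu => by
    rw [Cent.closure_cent B.set h₁]
    exact Subgroup.mem_centralizer_singleton_iff.mpr ((hmK u).mp hu).2.1.eq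
  let mkH := QuotientGroup.mk' (Subgroup.center ↥(Subgroup.closure (nset D d₁)))
  have hmk1 : ∀ u (hu : u ∈ Subgroup.closure (nset D d₁)) (hu' : d₁ * u ∈ Subgroup.closure (nset D d₁)),
      mkH ⟨d₁ * u, hu'⟩ = mkH ⟨u, hu⟩ := fun u hu hu' => by
    refine QuotientGroup.eq.mpr ?_
    rw [Subgroup.mem_center_iff]
    intro v
    refine Subtype.ext ?_
    show (v : G) * ((d₁ * u)⁻¹ * u) = (d₁ * u)⁻¹ * u * v
    have huc : Commute u d₁ := commute_of_mem hu
    rw [show (d₁ * u)⁻¹ * u = d₁⁻¹ by rw [← huc.eq]; group]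
    exact (commute_of_mem v.2).inv_right.eq
  let f : K0 →* ↥(Subgroup.closure (nset D d₁)) ⧸ Subgroup.center ↥(Subgroup.closure (nset D d₁)) :=
    mkH.comp (Subgroup.inclusion hKH)
  have hfinj : Function.Injective f := (injective_iff_map_eq_one f).mpr fun u hu =>
    Subtype.ext ((S.central_cases hu).resolve_right fun e => hnD d₁ h₁ (e ▸ ((hmK u).mp u.2).1))
  have hfrange : f.range = PairCent.Kp t₂ t₃ := by
    ext q
    constructor
    · rintro ⟨u, rfl⟩
      obtain ⟨-, -, k2, k3⟩ := (hmK u).mp u.2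
      exact PairCent.mem_Kp.mpr
        ⟨(Commute.map (x := (⟨u, hKH u.2⟩ : ↥(Subgroup.closure (nset D d₁))))
          (y := ⟨d₂, Subgroup.subset_closure n2⟩) (Subtype.ext k2.eq) mkH :),
        (Commute.map (x := (⟨u, hKH u.2⟩ : ↥(Subgroup.closure (nset D d₁))))
          (y := ⟨d₃, Subgroup.subset_closure n3⟩) (Subtype.ext k3.eq) mkH :)⟩
    · intro hq
      obtain ⟨hq2, hq3⟩ := PairCent.mem_Kp.mp hq
      obtain ⟨⟨u, hu⟩, rfl⟩ := QuotientGroup.mk_surjective q
      have hud1 : Commute u d₁ := commute_of_mem hu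
      have hu2 : Commute u d₂ := mul_inv_eq_iff_eq_mul.mp
        (S.img_inj (nset_conj S.pre hud1 n2) n2 (mul_inv_eq_iff_eq_mul.mpr hq2.eq))
      have hu3 : Commute u d₃ := mul_inv_eq_iff_eq_mul.mp
        (S.img_inj (nset_conj S.pre hud1 n3) n3 (mul_inv_eq_iff_eq_mul.mpr hq3.eq))
      by_cases huc : u ∈ commutator G
      · exact ⟨⟨u, (hmK u).mpr ⟨huc, hud1, hu2, hu3⟩⟩, rfl⟩
      have hk : d₁ * u ∈ K0 := (hmK _).mpr ⟨(Subgroup.mul_mem_iff_of_index_two hi).mpr
        (iff_of_false (hnD d₁ h₁) huc), (Commute.refl _).mul_left hud1, c12.mul_left hu2, c13.mul_left hu3⟩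
      exact ⟨⟨_, hk⟩, hmk1 u hu (hKH hk)⟩
  let ι : K0 ≃* PairCent.Kp t₂ t₃ := (MonoidHom.ofInjective hfinj).trans (MulEquiv.subgroupCongr hfrange)
  have hqK : Cfsg.IsQuasisimple ↥K0 := Local.isQuasisimple_congr ι.symm (PairCent.quasisimple S' ht3)
  have hcen : (Subgroup.center ↥K0).map ι.toMonoidHom = Subgroup.center ↥(PairCent.Kp t₂ t₃) := by
    ext z
    show z ∈ Subgroup.map ι.toMonoidHom _ ↔ _
    rw [Subgroup.mem_map_equiv, Subgroup.mem_center_iff, Subgroup.mem_center_iff]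
    constructor
    · intro h w
      apply ι.symm.injective
      rw [map_mul, map_mul]; exact h _
    · intro h w
      apply ι.injective
      rw [map_mul, map_mul, ι.apply_symm_apply]; exact h _
  have hsub : E.subgroupOf K0 = Subgroup.closure ({⟨_, e12K⟩, ⟨_, e13K⟩} : Set K0) := by
    refine Subgroup.map_injective K0.subtype_injective ?_
    rw [MonoidHom.map_closure, Subgroup.subgroupOf_map_subtype, inf_eq_left.mpr hEK, Set.image_pair, hE]
    rfl
  have hZE : Subgroup.center ↥K0 = E.subgroupOf K0 := by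
    refine Subgroup.map_injective hfinj ?_
    have h1 : (Subgroup.center ↥K0).map f = PairCent.Vp t₂ t₃ := by
      have h := PairCent.center_map S' ht3
      rw [← hcen, Subgroup.map_map] at h
      exact h
    rw [h1, hsub, MonoidHom.map_closure, Set.image_pair]
    show Subgroup.closure {t₂, t₃} = Subgroup.closure {mkH ⟨d₁ * d₂, _⟩, mkH ⟨d₁ * d₃, _⟩}
    rw [hmk1 d₂ (Subgroup.subset_closure n2), hmk1 d₃ (Subgroup.subset_closure n3)]
    rfl
  have hV4 : Nat.card (PairCent.Vp t₂ t₃) = 4 :=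
    card_four (S'.pre.sq _ (S.img_mem n2)) (S'.pre.sq _ (S.img_mem n3)) ht3.2.2 (S.next_ne _ (S.img_mem n2))
      (S.next_ne _ (S.img_mem n3)) ht3.2.1.symm
  have hZ4 : Nat.card (Subgroup.center ↥K0) = 4 := by
    rw [Nat.card_congr ((Subgroup.center ↥K0).equivMapOfInjective ι.toMonoidHom ι.injective).toEquiv, hcen,
      Nat.card_congr ((Subgroup.center _).equivMapOfInjective (PairCent.Kp t₂ t₃).subtype
        (Subgroup.subtype_injective _)).toEquiv, PairCent.center_map S' ht3, hV4]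
  obtain ⟨F, iF, iF', hF, ⟨ψ⟩⟩ := PairCent.psu S' ht3
  let θ : (↥K0 ⧸ Subgroup.center ↥K0) ≃* Cfsg.PSU 6 F 2 := (QuotientGroup.congr _ _ ι hcen).trans ψ
  haveI : Finite (Cfsg.PSU 6 F 2) := Finite.of_equiv _ θ.toEquiv
  have hz : Subgroup.center (Cfsg.PSU 6 F 2) = ⊥ := by
    rw [Subgroup.eq_bot_iff_forall]
    intro z hz
    have : θ.symm z ∈ Subgroup.center (↥K0 ⧸ Subgroup.center ↥K0) := Subgroup.mem_center_iff.mpr fun w =>
      θ.injective (by rw [map_mul, map_mul, θ.apply_symm_apply, Subgroup.mem_center_iff.mp hz])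
    rw [center_bot_of_qs hqK, Subgroup.mem_bot] at this
    rw [← θ.apply_symm_apply z, this, map_one]
  -- the action on the three members
  let T : Fin 3 → G := ![d₁, d₂, d₃]
  have hTD : ∀ i, T i ∈ D := fun i => by fin_cases i <;> assumption
  have hTi : Function.Injective T := by
    intro a b h
    fin_cases a <;> fin_cases b <;> simp [T] at h ⊢ <;>
      (first
        | exact absurd h h12
        | exact absurd h.symm h12
        | exact absurd h h13
        | exact absurd h.symm h13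
        | exact absurd h h23
        | exact absurd h.symm h23)
  have hTc : ∀ a b, Commute (T a) (T b) := fun a b => by
    fin_cases a <;> fin_cases b
    exacts [Commute.refl _, c12, c13, c12.symm, Commute.refl _, c23, c13.symm, c23.symm, Commute.refl _]
  have hmCL : ∀ u, u ∈ CL ↔ u ∈ commutator G ∧ Commute u j := fun u => by
    rw [hCL, Subgroup.mem_inf, Subgroup.mem_centralizer_singleton_iff]; rfl
  have hperm : ∀ u ∈ CL, ∀ i, ∃ k, u * T i * u⁻¹ = T k := by
    intro u hu i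
    have hf := Top.factors hD hrel (l := [d₁, d₂, d₃]) (l' := [d₁, d₂, d₃].map fun x => u * x * u⁻¹)
      (by simp [h12, h13, h23]) ((List.Nodup.map fun a b e => mul_left_cancel (mul_right_cancel e))
        (by simp [h12, h13, h23])) (by simp) (by simp)
      (by simp [h₁, h₂, h₃]) (by simp [hD.2.1 u _ h₁, hD.2.1 u _ h₂, hD.2.1 u _ h₃])
      (by simp [c12, c13, c23, c12.symm, c13.symm, c23.symm])
      (by simp [Spor.commute_conj_iff, c12, c13, c23, c12.symm, c13.symm, c23.symm]) (by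
        simp only [List.map_cons, List.map_nil, List.prod_cons, List.prod_nil, mul_one]
        calc u * d₁ * u⁻¹ * (u * d₂ * u⁻¹ * (u * d₃ * u⁻¹)) = u * j * u⁻¹ := by rw [hj]; group
          _ = d₁ * (d₂ * d₃) := by rw [((hmCL u).mp hu).2.eq, mul_inv_cancel_right, hj, mul_assoc])
    have hmem : u * T i * u⁻¹ ∈ ([d₁, d₂, d₃] : List G) := (hf _).mpr (by fin_cases i <;> simp [T])
    simp only [List.mem_cons, List.not_mem_nil, or_false] at hmem
    rcases hmem with e | e | e
    exacts [⟨0, e⟩, ⟨1, e⟩, ⟨2, e⟩]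
  choose π hπ using hperm
  have hπmul : ∀ u (hu : u ∈ CL) v (hv : v ∈ CL) i, π (u * v) (mul_mem hu hv) i = π u hu (π v hv i) := by
    intro u hu v hv i
    apply hTi
    rw [← hπ, ← hπ, ← hπ]; group
  have hπone : ∀ i, π 1 (one_mem CL) i = i := fun i => hTi (by rw [← hπ]; group)
  let ρ : CL →* Equiv.Perm (Fin 3) :=
    { toFun := fun u =>
        { toFun := π u u.2
          invFun := π (u⁻¹ : CL) (u⁻¹).2
          left_inv := fun i => hTi (by rw [← hπ, ← hπ]; simp [mul_assoc])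
          right_inv := fun i => hTi (by rw [← hπ, ← hπ]; simp [mul_assoc]) }
      map_one' := Equiv.ext fun i => hπone i
      map_mul' := fun u v => Equiv.ext fun i => hπmul u u.2 v v.2 i }
  have hρ : ∀ (u : CL) i, (u : G) * T i * (u : G)⁻¹ = T (ρ u i) := fun u i => hπ u u.2 i
  have hKCL : K0 ≤ CL := fun u hu => by
    obtain ⟨a, b, c, e⟩ := (hmK u).mp hu
    exact (hmCL u).mpr ⟨a, (b.mul_right c).mul_right e⟩
  have hker : ρ.ker = K0.subgroupOf CL := by
    ext u
    rw [MonoidHom.mem_ker, Subgroup.mem_subgroupOf, hmK]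
    constructor
    · intro h
      have hfix : ∀ i, Commute (u : G) (T i) := fun i => mul_inv_eq_iff_eq_mul.mp (by rw [hρ, h]; rfl)
      exact ⟨((hmCL u).mp u.2).1, hfix 0, hfix 1, hfix 2⟩
    · rintro ⟨-, a, b, c⟩
      refine Equiv.ext fun i => hTi ?_
      rw [← hρ, Equiv.Perm.one_apply]
      refine mul_inv_eq_iff_eq_mul.mpr ?_
      fin_cases i
      exacts [a.eq, b.eq, c.eq]
  have hswap : ∀ a b c : Fin 3, a ≠ b → a ≠ c → b ≠ c → ∃ u : CL, ρ u = Equiv.swap a b := by
    intro a b c hab hac hbc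
    obtain ⟨g, hg, e1, e2, e3⟩ := exists_swap hD hprim ht (hTD c)
      (show T a ∈ nset D (T c) from ⟨hTD a, fun e => hac (hTi e), hTc c a⟩)
      (show T b ∈ nset D (T c) from ⟨hTD b, fun e => hbc (hTi e), hTc c b⟩) (fun e => hab (hTi e)) (hTc a b)
    have hg' : ∀ i, g * T i * g⁻¹ = T (Equiv.swap a b i) := by
      intro i
      rcases (by omega : i = a ∨ i = b ∨ i = c) with rfl | rfl | rfl
      · rw [e1, Equiv.swap_apply_left]
      · rw [e2, Equiv.swap_apply_right]
      · rw [e3, Equiv.swap_apply_of_ne_of_ne hac.symm hbc.symm]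
    have hgj : Commute g j := by
      refine mul_inv_eq_iff_eq_mul.mp ?_
      have hje : j = T 0 * T 1 * T 2 := rfl
      have hs : ∀ a b : Fin 3, T (Equiv.swap a b 0) * T (Equiv.swap a b 1) * T (Equiv.swap a b 2) = j := by
        intro a b
        fin_cases a <;> fin_cases b <;> simp [T, Equiv.swap_apply_def, hj] <;>
          simp only [mul_assoc, c12.eq, c13.eq, c23.eq] <;>
          simp only [← mul_assoc, c12.eq, c13.eq, c23.eq]
      calc g * j * g⁻¹ = (g * T 0 * g⁻¹) * (g * T 1 * g⁻¹) * (g * T 2 * g⁻¹) := by rw [hje]; group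
        _ = j := by rw [hg', hg', hg', hs]
    exact ⟨⟨g, (hmCL g).mpr ⟨hg, hgj⟩⟩, Equiv.ext fun i => hTi ((hρ _ i).symm.trans (hg' i))⟩
  have hsurj : Function.Surjective ρ := by
    obtain ⟨u, hu⟩ := hswap 0 1 2 (by decide) (by decide) (by decide)
    obtain ⟨v, hv⟩ := hswap 0 2 1 (by decide) (by decide) (by decide)
    intro σ
    rcases perm_cover σ with rfl | rfl | rfl | rfl | rfl | rfl
    exacts [⟨1, map_one ρ⟩, ⟨u, hu⟩, ⟨v, hv⟩, ⟨u * v, by rw [map_mul, hu, hv]⟩, ⟨v * u, by rw [map_mul, hu, hv]⟩,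
      ⟨u * v * u, by rw [map_mul, map_mul, hu, hv]⟩]
  -- a further member commuting with the three
  obtain ⟨y, hy⟩ : ∃ y, ∀ i, y ∈ nset D (T i) := by
    obtain ⟨l, hlen, hm, -⟩ := PairCent.six_in_pair S' ht3
    obtain ⟨q, hq⟩ := List.exists_mem_of_length_pos (l := l) (by omega)
    obtain ⟨⟨hq0, hq2, hq2c⟩, -, hq3, hq3c⟩ := hm q hq
    obtain ⟨⟨y, hyH⟩, hy, rfl⟩ := hq0
    refine ⟨y, fun i => ?_⟩
    fin_cases i
    · exact hy
    · exact ⟨hy.1, fun e => hq2 (congrArg QuotientGroup.mk (Subtype.ext e)), commute_lift S.pre d₁ n2 hy hq2c⟩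
    · exact ⟨hy.1, fun e => hq3 (congrArg QuotientGroup.mk (Subtype.ext e)), commute_lift S.pre d₁ n3 hy hq3c⟩
  have hTy : ∀ i, T i * y ∈ K0 := fun i => (hmK _).mpr ⟨(Subgroup.mul_mem_iff_of_index_two hi).mpr
      (iff_of_false (hnD _ (hTD i)) (hnD y (hy 0).1)),
    (hTc i 0).mul_left (hy 0).2.2.symm, (hTc i 1).mul_left (hy 1).2.2.symm, (hTc i 2).mul_left (hy 2).2.2.symm⟩
  set P := K0.subgroupOf CL with hP
  set Z := E.subgroupOf CL with hZ
  haveI hPn : P.Normal := hker ▸ MonoidHom.normal_ker ρ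
  have hcent : Subgroup.centralizer (P : Set CL) = Z := by
    ext u
    constructor
    · intro hu
      have huc : ∀ k ∈ K0, (u : G) * k * (u : G)⁻¹ = k := fun k hk => by
        have h := congrArg Subtype.val (Subgroup.mem_centralizer_iff.mp hu ⟨k, hKCL hk⟩ hk)
        simp only [Subgroup.coe_mul] at h
        rw [← h, mul_inv_cancel_right]
      have hfix : ρ u = 1 := by
        refine Equiv.ext fun i => hTi ?_
        rw [← hρ, Equiv.Perm.one_apply]
        have h1 := huc _ (hTy i)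
        rw [show (u : G) * (T i * y) * (u : G)⁻¹ = ((u : G) * T i * (u : G)⁻¹) * ((u : G) * y * (u : G)⁻¹) by group] at h1
        rcases Two.pair_det hD hrel.1 (hTD i) (hy i).1 (hD.2.1 _ _ (hTD i)) (hD.2.1 _ _ (hy i).1)
            (hy i).2.1.symm (hy i).2.2 (fun e => (hy i).2.1 (mul_left_cancel (mul_right_cancel e)).symm)
            (Spor.commute_conj_iff.mpr (hy i).2.2) h1 with ⟨e, -⟩ | ⟨e, -⟩
        · exact e
        · rw [hρ] at e
          exact absurd e.symm (hy _).2.1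
      have huK : (u : G) ∈ K0 := by
        have : u ∈ ρ.ker := hfix
        rwa [hker] at this
      have hm : (⟨u, huK⟩ : K0) ∈ Subgroup.center ↥K0 := Subgroup.mem_center_iff.mpr fun k =>
        Subtype.ext (by
          show (k : G) * u = u * k
          exact (mul_inv_eq_iff_eq_mul.mp (huc k k.2)).symm)
      rw [hZE] at hm
      exact hm
    · intro hu
      refine Subgroup.mem_centralizer_iff.mpr fun k hk => Subtype.ext ?_
      exact (Subgroup.mem_centralizer_iff.mp hk.2 u hu).symm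
  have hZP : Z ≤ P := fun u hu => hEK hu
  let εP : ↥P ≃* ↥K0 := Subgroup.subgroupOfEquivOfLe hKCL
  have hqP : Cfsg.IsQuasisimple ↥P := Local.isQuasisimple_congr εP.symm hqK
  have hKeq : K = K0 := by
    rw [hK, Qs.gfit_qs P hqP (hcent ▸ hZP), hP, Subgroup.subgroupOf_map_subtype, inf_eq_left.mpr hKCL]
  subst hKeq
  have hEK' : (E.subgroupOf K0).Normal := hZE ▸ inferInstance
  refine ⟨hqK, ?_, hK0, ⟨hEK', F, iF, iF', hF, ?_⟩, hPn, ?_, hEK.trans hKCL, ?_⟩
  · rw [hZE, Subgroup.subgroupOf_map_subtype, inf_eq_left.mpr hEK]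
  · exact ⟨(QuotientGroup.quotientMulEquivOfEq hZE.symm).trans θ⟩
  · exact ⟨(QuotientGroup.quotientMulEquivOfEq hker.symm).trans (QuotientGroup.quotientKerEquivOfSurjective ρ hsurj)⟩
  have hZn : Z.Normal := hcent ▸ Subgroup.normal_centralizer
  refine ⟨hZn, F, iF, iF', hF, ?_⟩
  let θP : (↥P ⧸ Subgroup.center ↥P) ≃* Cfsg.PSU 6 F 2 :=
    (QuotientGroup.congr _ _ εP (by
      ext z
      show z ∈ Subgroup.map εP.toMonoidHom _ ↔ _
      rw [Subgroup.mem_map_equiv, Subgroup.mem_center_iff, Subgroup.mem_center_iff]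
      constructor
      · intro h w
        apply εP.symm.injective
        rw [map_mul, map_mul]; exact h _
      · intro h w
        apply εP.injective
        rw [map_mul, map_mul, εP.apply_symm_apply]; exact h _)).trans θ
  haveI := hZn
  refine Qs.quot_iso P hqP θP Z hcent ?_
  have h1 := Subgroup.card_mul_index P
  have hidx : P.index = 6 := by
    rw [← hker, Subgroup.index_eq_card, Nat.card_congr (QuotientGroup.quotientKerEquivOfSurjective ρ hsurj).toEquiv,
      Nat.card_perm, Nat.card_eq_fintype_card, Fintype.card_fin]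
    rfl
  have hE4 : Nat.card E = 4 := by
    rw [← hZ4, hZE, Nat.card_congr (Subgroup.subgroupOfEquivOfLe hEK).toEquiv]
  rw [hidx, Nat.card_congr εP.toEquiv, Subgroup.card_eq_card_quotient_mul_card_subgroup (Subgroup.center ↥K0),
    Nat.card_congr θ.toEquiv, hZ4, Subgroup.card_eq_card_quotient_mul_card_subgroup Z,
    Nat.card_congr (Subgroup.subgroupOfEquivOfLe (hEK.trans hKCL)).toEquiv, hE4] at h1
  rw [mulaut_psu hF hz]
  omega

end Cfsg.Agent.Spor.M24Rel.Tri
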