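import Cfsg.Agent.Lib.Spor.M24RelModelPair
import Cfsg.Agent.Lib.Spor.M24RelPairQuot
import Cfsg.Agent.Lib.Spor.M24RelTwin
import Cfsg.Agent.Lib.Spor.M24RelBase
import Cfsg.Agent.Lib.Spor.M24RelPairInv

/-!
Uniqueness of the groups of type M(24).

Fix a member a and a member d not commuting with it. The members commuting with a, with the set of those
commuting with d as well, are the same in all groups of this type. The centralizers of a correspond through the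
action on this configuration, carrying the centralizer of the pair to that of the pair. Two members conjugate to d
under the centralizer of a commute exactly when the conjugating element lies in a double coset read off from this
configuration, so the commuting graph, and with it the group, is determined.
-/

set_option autoImplicit false
set_option maxRecDepth 100000
set_option linter.unusedSectionVars false

namespace Cfsg.Agent.Spor.M24Rel.Unique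

open Cfsg.Agent.Spor.M22U (nset)
open Cfsg.Agent.Spor.M23Rel (Pre pre_of_group nset_conj commute_of_mem)
open Cfsg.Agent.Spor (commute_conj_iff)
open Cfsg.Agent.Spor.M24Rel.Model (Coord lamOf std model_iso)
open Cfsg.Agent.Spor.M24Rel.Pair (cen mem_cen)
open Cfsg.Agent.Spor.Fi23Cert (pres)

/-! ### groups from bijections of classes -/

theorem mem_conj {H : Type*} [Group H] {E : Set H} (hE : ∀ (g : H), ∀ e ∈ E, g * e * g⁻¹ ∈ E)
    {g : H} {e : H} (h : g * e * g⁻¹ ∈ E) : e ∈ E := by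
  have := hE g⁻¹ _ h
  simpa [mul_assoc] using this

/-- a bijection of generating classes respecting conjugation gives an isomorphism -/
theorem iso_of_bij {G₁ G₂ : Type*} [Group G₁] [Group G₂] {D₁ : Set G₁} {D₂ : Set G₂}
    (h1g : Subgroup.closure D₁ = ⊤) (h2g : Subgroup.closure D₂ = ⊤)
    (h1c : ∀ g, ∀ e ∈ D₁, g * e * g⁻¹ ∈ D₁) (h2c : ∀ g, ∀ e ∈ D₂, g * e * g⁻¹ ∈ D₂)
    (hZ₁ : Subgroup.center G₁ = ⊥) (hZ₂ : Subgroup.center G₂ = ⊥) (R : G₁ → G₂ → Prop)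
    (hdom : ∀ x y, R x y → x ∈ D₁ ∧ y ∈ D₂) (htot : ∀ x ∈ D₁, ∃ y, R x y) (hsur : ∀ y ∈ D₂, ∃ x, R x y)
    (hfun : ∀ x y y', R x y → R x y' → y = y') (hinj : ∀ x x' y, R x y → R x' y → x = x')
    (hconj : ∀ x y u v, R x y → R u v → R (x * u * x⁻¹) (y * v * y⁻¹)) :
    ∃ e : G₁ ≃* G₂, e '' D₁ = D₂ := by
  set Γ : Subgroup (G₁ × G₂) := Subgroup.closure {p | R p.1 p.2} with hΓ
  have hinv : ∀ p ∈ Γ, ∀ x y, R x y → R (p.1 * x * p.1⁻¹) (p.2 * y * p.2⁻¹) := by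
    intro p hp
    induction hp using Subgroup.closure_induction with
    | mem q hq => exact fun x y h => hconj _ _ _ _ hq h
    | one => intro x y h; simpa using h
    | mul p q _ _ ip iq =>
      intro x y h
      have := ip _ _ (iq x y h)
      simpa [mul_assoc] using this
    | inv p _ ip =>
      intro x y h
      obtain ⟨hx, hy⟩ := hdom x y h
      obtain ⟨y', hy'⟩ := htot _ (h1c p.1⁻¹ x hx)
      have h1 := ip _ _ hy'
      rw [show p.1 * (p.1⁻¹ * x * p.1⁻¹⁻¹) * p.1⁻¹ = x by group] at h1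
      rw [hfun x y _ h h1]
      simpa [mul_assoc] using hy'
  have h2 : ∀ p ∈ Γ, p.1 = 1 → p = 1 := by
    intro p hp h1
    have hz : p.2 ∈ Subgroup.center G₂ := by
      have hc : Subgroup.closure D₂ ≤ Subgroup.centralizer ({p.2} : Set G₂) := by
        rw [Subgroup.closure_le]
        intro y hy
        obtain ⟨x, hx⟩ := hsur y hy
        have h := hinv p hp x y hx
        rw [h1, one_mul, inv_one, mul_one] at h
        exact Subgroup.mem_centralizer_singleton_iff.mpr (mul_inv_eq_iff_eq_mul.mp (hfun x _ _ h hx)).symm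
      rw [Subgroup.mem_center_iff]
      intro y
      exact Subgroup.mem_centralizer_singleton_iff.mp (hc (h2g ▸ Subgroup.mem_top y))
    rw [hZ₂, Subgroup.mem_bot] at hz
    exact Prod.ext h1 hz
  have h1 : ∀ p ∈ Γ, p.2 = 1 → p = 1 := by
    intro p hp h1
    have hz : p.1 ∈ Subgroup.center G₁ := by
      have hc : Subgroup.closure D₁ ≤ Subgroup.centralizer ({p.1} : Set G₁) := by
        rw [Subgroup.closure_le]
        intro x hx
        obtain ⟨y, hy⟩ := htot x hx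
        have h := hinv p hp x y hy
        rw [h1, one_mul, inv_one, mul_one] at h
        exact Subgroup.mem_centralizer_singleton_iff.mpr (mul_inv_eq_iff_eq_mul.mp (hinj _ x _ h hy)).symm
      rw [Subgroup.mem_center_iff]
      intro x
      exact Subgroup.mem_centralizer_singleton_iff.mp (hc (h1g ▸ Subgroup.mem_top x))
    rw [hZ₁, Subgroup.mem_bot] at hz
    exact Prod.ext hz h1
  let π₁ : ↥Γ →* G₁ := (MonoidHom.fst G₁ G₂).comp Γ.subtype
  let π₂ : ↥Γ →* G₂ := (MonoidHom.snd G₁ G₂).comp Γ.subtype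
  have hb₁ : Function.Bijective π₁ := by
    refine ⟨(injective_iff_map_eq_one π₁).mpr fun p hp => Subtype.ext (h2 p p.2 hp), ?_⟩
    rw [← MonoidHom.range_eq_top, eq_top_iff, ← h1g, Subgroup.closure_le]
    intro x hx
    obtain ⟨y, hy⟩ := htot x hx
    exact ⟨⟨(x, y), Subgroup.subset_closure hy⟩, rfl⟩
  have hb₂ : Function.Bijective π₂ := by
    refine ⟨(injective_iff_map_eq_one π₂).mpr fun p hp => Subtype.ext (h1 p p.2 hp), ?_⟩
    rw [← MonoidHom.range_eq_top, eq_top_iff, ← h2g, Subgroup.closure_le]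
    intro y hy
    obtain ⟨x, hx⟩ := hsur y hy
    exact ⟨⟨(x, y), Subgroup.subset_closure hx⟩, rfl⟩
  refine ⟨(MulEquiv.ofBijective π₁ hb₁).symm.trans (MulEquiv.ofBijective π₂ hb₂), ?_⟩
  have he : ∀ x y, R x y → (MulEquiv.ofBijective π₁ hb₁).symm.trans (MulEquiv.ofBijective π₂ hb₂) x = y := by
    intro x y h
    rw [MulEquiv.trans_apply, show (MulEquiv.ofBijective π₁ hb₁).symm x = ⟨(x, y), Subgroup.subset_closure h⟩ from
      (MulEquiv.symm_apply_eq _).mpr rfl]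
    rfl
  ext y
  constructor
  · rintro ⟨x, hx, rfl⟩
    obtain ⟨y, hy⟩ := htot x hx
    rw [he x y hy]
    exact (hdom x y hy).2
  · intro hy
    obtain ⟨x, hx⟩ := hsur y hy
    exact ⟨x, (hdom x y hx).1, he x y hx⟩

/-! ### one group around a member and a non-commuting one -/

variable {G : Type*} [Group G] [Finite G] {D : Set G}

theorem parity_mem (hD : Cfsg.IsThreeTranspositionGroup D) (hprim : Cfsg.IsPrimitiveUnderConj D)
    (ht : Cfsg.IsOfTypeM24 G D) {x y : G} (hx : x ∈ D) :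
    x * y ∈ commutator G ↔ y ∉ commutator G := by
  obtain ⟨h2, -, hno⟩ := Base.comm_facts hD hprim ht
  rw [Subgroup.mul_mem_iff_of_index_two h2]
  simp [hno x hx]

/-- the relation of two members conjugate to d, in terms of the conjugating element -/
theorem comm_iff_coset (hD : Cfsg.IsThreeTranspositionGroup D) {a d k : G} (ha : a ∈ D) (hd : d ∈ D)
    (hnc : ¬ Commute a d) (hk : Commute k a) :
    Commute d (k * d * k⁻¹) ↔ k ∈ cen a d ∨ ∃ y ∈ nset D a, y ∉ nset D d ∧ (a * y)⁻¹ * k ∈ cen a d := by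
  have hE := pre_of_group hD
  have haa : a * a = 1 := hE.sq a ha
  have hdd : d * d = 1 := hE.sq d hd
  have hai : a⁻¹ = a := inv_eq_of_mul_eq_one_right haa
  have hdi : d⁻¹ = d := inv_eq_of_mul_eq_one_right hdd
  have had := (Pair.braid_of hD ha hd hnc).br
  set f := k * d * k⁻¹ with hf
  have hfD : f ∈ D := hE.conj k d hd
  have haf : ¬ Commute a f := fun h => hnc (by
    rw [← commute_conj_iff (g := k), hk.eq, mul_inv_cancel_right]
    exact h)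
  constructor
  · intro hdf
    by_cases hfd : f = d
    · exact Or.inl (mem_cen.mpr ⟨hk, mul_inv_eq_iff_eq_mul.mp hfd⟩)
    right
    have hafb := (Pair.braid_of hD ha hfD haf).br
    have hff : f * f = 1 := hE.sq f hfD
    have hp : ¬ Commute d (a * f * a⁻¹) := fun h => hnc (by
      have h2 : Commute d (f * (a * f * a⁻¹) * f) := (hdf.mul_right h).mul_right hdf
      rw [hai, hafb, show f * (f * a * f) * f = (f * f) * a * (f * f) by group, hff, one_mul, mul_one] at h2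
      exact h2.symm)
    set p := a * f * a⁻¹ with hpd
    have hpD : p ∈ D := hE.conj a f hfD
    have hdpb := (Pair.braid_of hD hd hpD hp).br
    set y := d * p * d⁻¹ with hy
    have hyD : y ∈ D := hE.conj d p hpD
    have hya : Commute a y := by
      have h1 : Commute (a * d * a⁻¹) p := commute_conj_iff.mpr hdf
      rw [hai, had] at h1
      have h2 := (commute_conj_iff (g := d)).mpr h1
      rw [← hy, hdi, show d * (d * a * d) * d = (d * d) * a * (d * d) by group, hdd, one_mul, mul_one] at h2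
      exact h2
    have hyd : ¬ Commute d y := fun h => hp (by
      have h1 := (commute_conj_iff (g := d⁻¹)).mpr h
      rw [hy, show d⁻¹ * d * d⁻¹⁻¹ = d by group, show d⁻¹ * (d * p * d⁻¹) * d⁻¹⁻¹ = p by group] at h1
      exact h1)
    have hyy : y * y = 1 := hE.sq y hyD
    have hbr := (Pair.braid_of hD hd hyD hyd).br
    refine ⟨y, ⟨hyD, fun e => hfd ?_, hya⟩, fun h => hyd h.2.2, ?_⟩
    · have hpe : p = d * a * d := by
        rw [← hdi]; nth_rw 2 [hdi]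
        rw [show p = d⁻¹ * y * d by rw [hy]; group, e, hdi]
      rw [← had] at hpe
      rw [show f = a⁻¹ * p * a by rw [hpd]; group, hpe, hai,
        show a * (a * d * a) * a = (a * a) * d * (a * a) by group, haa, one_mul, mul_one]
    · have hfy : f = a * y * d * (a * y)⁻¹ := by
        have hyi : y⁻¹ = y := inv_eq_of_mul_eq_one_right hyy
        rw [mul_inv_rev, hyi, hai, show a * y * d * (y * a) = a * (y * d * y) * a by group, ← hbr,
          show d * y * d = p by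
            rw [hy, hdi, show d * (d * p * d) * d = (d * d) * p * (d * d) by group, hdd, one_mul, mul_one],
          hpd, hai, show a * (a * f * a) * a = (a * a) * f * (a * a) by group, haa, one_mul, mul_one]
      refine mem_cen.mpr ⟨(((Commute.refl a).mul_left hya.symm).inv_left).mul_left hk, ?_⟩
      refine mul_inv_eq_iff_eq_mul.mp ?_
      rw [show (a * y)⁻¹ * k * d * ((a * y)⁻¹ * k)⁻¹ = (a * y)⁻¹ * (k * d * k⁻¹) * (a * y) by group, ← hf, hfy]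
      group
  · rintro (h | ⟨y, hy, hyd, hc⟩)
    · rw [hf, (mem_cen.mp h).2.eq, mul_inv_cancel_right]
    have hyd' : ¬ Commute d y := fun h => hyd ⟨hy.1, fun e => hnc (e ▸ hy.2.2), h⟩
    have hfy : f = a * y * d * (a * y)⁻¹ := by
      have h := (mem_cen.mp hc).2.eq
      rw [hf, show k = a * y * ((a * y)⁻¹ * k) by group]
      rw [show a * y * ((a * y)⁻¹ * k) * d * (a * y * ((a * y)⁻¹ * k))⁻¹ =
        a * y * (((a * y)⁻¹ * k) * d * ((a * y)⁻¹ * k)⁻¹) * (a * y)⁻¹ by group, h, mul_inv_cancel_right]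
    have hbr := (Pair.braid_of hD hd hy.1 hyd').br
    have hyi : y⁻¹ = y := inv_eq_of_mul_eq_one_right (hE.sq y hy.1)
    rw [hfy, mul_inv_rev, hyi, hai, show a * y * d * (y * a) = a * (y * d * y) * a by group, ← hbr]
    rw [← commute_conj_iff (g := a), hai, show a * (a * (d * y * d) * a) * a = (a * a) * (d * y * d) * (a * a) by group,
      haa, one_mul, mul_one, had]
    have := (commute_conj_iff (g := d)).mpr hy.2.2
    rwa [hdi] at this

/-! ### two groups -/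

variable {G₁ G₂ : Type*} [Group G₁] [Finite G₁] [Group G₂] [Finite G₂] {D₁ : Set G₁} {D₂ : Set G₂}

/-- the correspondence of the members commuting with the first member -/
structure Match (D₁ : Set G₁) (D₂ : Set G₂) (a₁ d₁ : G₁) (a₂ d₂ : G₂) where
  hD₁ : Cfsg.IsThreeTranspositionGroup D₁
  prim₁ : Cfsg.IsPrimitiveUnderConj D₁
  type₁ : Cfsg.IsOfTypeM24 G₁ D₁
  hD₂ : Cfsg.IsThreeTranspositionGroup D₂
  prim₂ : Cfsg.IsPrimitiveUnderConj D₂
  type₂ : Cfsg.IsOfTypeM24 G₂ D₂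
  a_mem₁ : a₁ ∈ D₁
  d_mem₁ : d₁ ∈ D₁
  nc₁ : ¬ Commute a₁ d₁
  a_mem₂ : a₂ ∈ D₂
  d_mem₂ : d₂ ∈ D₂
  nc₂ : ¬ Commute a₂ d₂
  /-- paired members -/
  T : G₁ → G₂ → Prop
  dom : ∀ y z, T y z → y ∈ nset D₁ a₁ ∧ z ∈ nset D₂ a₂
  tot : ∀ y ∈ nset D₁ a₁, ∃ z, T y z
  sur : ∀ z ∈ nset D₂ a₂, ∃ y, T y z
  func : ∀ y z z', T y z → T y z' → z = z'
  inj : ∀ y y' z, T y z → T y' z → y = y'
  comm : ∀ y z u v, T y z → T u v → (Commute y u ↔ Commute z v)
  conj : ∀ y z u v, T y z → T u v → T (y * u * y⁻¹) (z * v * z⁻¹)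
  com : ∀ y z, T y z → (y ∈ nset D₁ d₁ ↔ z ∈ nset D₂ d₂)

theorem exists_match (hD₁ : Cfsg.IsThreeTranspositionGroup D₁) (hp₁ : Cfsg.IsPrimitiveUnderConj D₁)
    (ht₁ : Cfsg.IsOfTypeM24 G₁ D₁) (hD₂ : Cfsg.IsThreeTranspositionGroup D₂)
    (hp₂ : Cfsg.IsPrimitiveUnderConj D₂) (ht₂ : Cfsg.IsOfTypeM24 G₂ D₂) :
    ∃ a₁ d₁ a₂ d₂, Nonempty (Match D₁ D₂ a₁ d₁ a₂ d₂) := by
  obtain ⟨-, a₁, ha₁, d₁, hd₁, hn₁, -⟩ := id ht₁
  obtain ⟨-, a₂, ha₂, d₂, hd₂, hn₂, -⟩ := id ht₂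
  obtain ⟨b₁, hb₁⟩ := Set.nonempty_of_ncard_ne_zero (s := nset D₁ a₁ ∩ nset D₁ d₁)
    (by rw [Base.com_card hD₁ hp₁ ht₁ ha₁ hd₁ hn₁]; norm_num)
  obtain ⟨b₂, hb₂⟩ := Set.nonempty_of_ncard_ne_zero (s := nset D₂ a₂ ∩ nset D₂ d₂)
    (by rw [Base.com_card hD₂ hp₂ ht₂ ha₂ hd₂ hn₂]; norm_num)
  obtain ⟨C₁, hC₁⟩ := model_iso hD₁ hp₁ ht₁ ha₁ hd₁ hn₁ hb₁
  obtain ⟨C₂, hC₂⟩ := model_iso hD₂ hp₂ ht₂ ha₂ hd₂ hn₂ hb₂
  refine ⟨a₁, d₁, a₂, d₂, ⟨{
    hD₁ := hD₁, prim₁ := hp₁, type₁ := ht₁, hD₂ := hD₂, prim₂ := hp₂, type₂ := ht₂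
    a_mem₁ := ha₁, d_mem₁ := hd₁, nc₁ := hn₁, a_mem₂ := ha₂, d_mem₂ := hd₂, nc₂ := hn₂
    T := fun y z => ∃ (hy : y ∈ nset D₁ a₁) (hz : z ∈ nset D₂ a₂), C₁.pre y hy = C₂.pre z hz
    dom := fun y z ⟨hy, hz, _⟩ => ⟨hy, hz⟩
    tot := fun y hy => ?_
    sur := fun z hz => ?_
    func := fun y z z' ⟨_, hz, e⟩ ⟨_, hz', e'⟩ => C₂.pre_inj hz hz' (e.symm.trans e')
    inj := fun y y' z ⟨hy, _, e⟩ ⟨hy', _, e'⟩ => C₁.pre_inj hy hy' (e.trans e'.symm)
    comm := fun y z u v ⟨hy, hz, e⟩ ⟨hu, hv, e'⟩ => by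
      rw [← C₁.commute_pre hy hu, e, e', C₂.commute_pre hz hv]
    conj := fun y z u v ⟨hy, hz, e⟩ ⟨hu, hv, e'⟩ => ?_
    com := fun y z ⟨hy, hz, e⟩ => ?_ }⟩⟩
  · obtain ⟨z, hz, e⟩ := C₂.exists_member (C₁.pre_class hy)
    exact ⟨z, hy, hz, e.symm⟩
  · obtain ⟨y, hy, e⟩ := C₁.exists_member (C₂.pre_class hz)
    exact ⟨y, hy, hz, e⟩
  · have h1 := nset_conj C₁.S.pre hy.2.2.symm hu
    have h2 := nset_conj C₂.S.pre hz.2.2.symm hv
    refine ⟨h1, h2, ?_⟩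
    have f1 : C₁.pre _ h1 = C₁.pre y hy * C₁.pre u hu * (C₁.pre y hy)⁻¹ := C₁.e.injective (by
      rw [C₁.e_pre, map_mul, map_mul, map_inv, C₁.e_pre, C₁.e_pre]; rfl)
    have f2 : C₂.pre _ h2 = C₂.pre z hz * C₂.pre v hv * (C₂.pre z hz)⁻¹ := C₂.e.injective (by
      rw [C₂.e_pre, map_mul, map_mul, map_inv, C₂.e_pre, C₂.e_pre]; rfl)
    rw [f1, f2, e, e']
  · constructor
    · intro hd
      have h : C₁.pre y hy ∈ lamOf C₂ d₂ := by rw [hC₂, ← hC₁]; exact ⟨y, hy, hd, rfl⟩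
      obtain ⟨w, hw, hwd, e'⟩ := h
      exact (C₂.pre_inj hw hz (e'.trans e)) ▸ hwd
    · intro hd
      have h : C₂.pre z hz ∈ lamOf C₁ d₁ := by rw [hC₁, ← hC₂]; exact ⟨z, hz, hd, rfl⟩
      obtain ⟨w, hw, hwd, e'⟩ := h
      exact (C₁.pre_inj hw hy (e'.trans e.symm)) ▸ hwd

namespace Match

variable {a₁ d₁ : G₁} {a₂ d₂ : G₂} (M : Match D₁ D₂ a₁ d₁ a₂ d₂)

/-- the correspondence of the centralizers of the first member -/
def K : Subgroup (G₁ × G₂) := Subgroup.closure {p | M.T p.1 p.2}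

theorem K_comm {p : G₁ × G₂} (hp : p ∈ M.K) : Commute p.1 a₁ ∧ Commute p.2 a₂ := by
  induction hp using Subgroup.closure_induction with
  | mem q hq => exact ⟨(M.dom _ _ hq).1.2.2.symm, (M.dom _ _ hq).2.2.2.symm⟩
  | one => exact ⟨Commute.one_left _, Commute.one_left _⟩
  | mul p q _ _ ip iq => exact ⟨ip.1.mul_left iq.1, ip.2.mul_left iq.2⟩
  | inv p _ ip => exact ⟨ip.1.inv_left, ip.2.inv_left⟩

theorem K_parity {p : G₁ × G₂} (hp : p ∈ M.K) : p.1 ∈ commutator G₁ ↔ p.2 ∈ commutator G₂ := by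
  induction hp using Subgroup.closure_induction with
  | mem q hq =>
    obtain ⟨h1, h2⟩ := M.dom _ _ hq
    exact iff_of_false ((Base.comm_facts M.hD₁ M.prim₁ M.type₁).2.2 _ h1.1)
      ((Base.comm_facts M.hD₂ M.prim₂ M.type₂).2.2 _ h2.1)
  | one => exact iff_of_true (one_mem _) (one_mem _)
  | mul p q _ _ ip iq =>
    rw [Prod.fst_mul, Prod.snd_mul, Subgroup.mul_mem_iff_of_index_two (Base.comm_facts M.hD₁ M.prim₁ M.type₁).1,
      Subgroup.mul_mem_iff_of_index_two (Base.comm_facts M.hD₂ M.prim₂ M.type₂).1, ip, iq]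
  | inv p _ ip => rw [Prod.fst_inv, Prod.snd_inv, inv_mem_iff, inv_mem_iff, ip]

theorem K_act {p : G₁ × G₂} (hp : p ∈ M.K) :
    ∀ y z, M.T y z → M.T (p.1 * y * p.1⁻¹) (p.2 * z * p.2⁻¹) := by
  induction hp using Subgroup.closure_induction with
  | mem q hq => exact fun y z h => M.conj _ _ _ _ hq h
  | one => intro y z h; simpa using h
  | mul p q _ _ ip iq =>
    intro y z h
    have := ip _ _ (iq y z h)
    simpa [mul_assoc] using this
  | inv p hp' ip =>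
    intro y z h
    obtain ⟨hy, hz⟩ := M.dom y z h
    obtain ⟨z', hz'⟩ := M.tot _ (nset_conj (pre_of_group M.hD₁) (M.K_comm hp').1.inv_left hy)
    have h1 := ip _ _ hz'
    rw [show p.1 * (p.1⁻¹ * y * p.1⁻¹⁻¹) * p.1⁻¹ = y by group] at h1
    rw [M.func y z _ h h1]
    simpa [mul_assoc] using hz'

/-- the mirror image -/
def swap : Match D₂ D₁ a₂ d₂ a₁ d₁ where
  hD₁ := M.hD₂
  prim₁ := M.prim₂
  type₁ := M.type₂
  hD₂ := M.hD₁
  prim₂ := M.prim₁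
  type₂ := M.type₁
  a_mem₁ := M.a_mem₂
  d_mem₁ := M.d_mem₂
  nc₁ := M.nc₂
  a_mem₂ := M.a_mem₁
  d_mem₂ := M.d_mem₁
  nc₂ := M.nc₁
  T z y := M.T y z
  dom z y h := (M.dom y z h).symm
  tot := M.sur
  sur := M.tot
  func z y y' h h' := M.inj y y' z h h'
  inj z z' y h h' := M.func y z z' h h'
  comm z y v u h h' := (M.comm y z u v h h').symm
  conj z y v u h h' := M.conj y z u v h h'
  com z y h := (M.com y z h).symm

theorem swap_K {p : G₁ × G₂} (hp : p ∈ M.K) : (p.2, p.1) ∈ M.swap.K := by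
  induction hp using Subgroup.closure_induction with
  | mem q hq => exact Subgroup.subset_closure hq
  | one => exact one_mem _
  | mul p q _ _ ip iq => exact Subgroup.mul_mem _ ip iq
  | inv p _ ip => exact Subgroup.inv_mem _ ip

theorem K_tot {x : G₁} (hx : Commute x a₁) : ∃ y, (x, y) ∈ M.K := by
  have h : x ∈ Subgroup.closure (nset D₁ a₁) := by
    rw [Cent.closure_cent (Count.base_of M.hD₁ M.prim₁ M.type₁).set M.a_mem₁]
    exact Subgroup.mem_centralizer_singleton_iff.mpr hx.eq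
  induction h using Subgroup.closure_induction with
  | mem y hy =>
    obtain ⟨z, hz⟩ := M.tot y hy
    exact ⟨z, Subgroup.subset_closure hz⟩
  | one => exact ⟨1, one_mem _⟩
  | mul u v hu hv iu iv =>
    obtain ⟨p, hp⟩ := iu (commute_of_mem hu)
    obtain ⟨q, hq⟩ := iv (commute_of_mem hv)
    exact ⟨p * q, mul_mem hp hq⟩
  | inv u hu iu =>
    obtain ⟨p, hp⟩ := iu (commute_of_mem hu)
    exact ⟨p⁻¹, inv_mem hp⟩

theorem K_one {z : G₂} (hp : ((1 : G₁), z) ∈ M.K) : z = 1 := by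
  have S := (Count.base_of M.hD₂ M.prim₂ M.type₂).set a₂ M.a_mem₂
  rcases S.fix_ext (M.K_comm hp).2 (fun v hv => by
    obtain ⟨u, hu⟩ := M.sur v hv
    have h := M.K_act hp u v hu
    simp only [one_mul, inv_one, mul_one] at h
    exact mul_inv_eq_iff_eq_mul.mp (M.func u _ _ h hu)) with h | h
  · exact h
  · exfalso
    have h1 := (M.K_parity hp).mp (one_mem _)
    rw [h] at h1
    exact (Base.comm_facts M.hD₂ M.prim₂ M.type₂).2.2 a₂ M.a_mem₂ h1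

theorem K_func {x : G₁} {y y' : G₂} (h : (x, y) ∈ M.K) (h' : (x, y') ∈ M.K) : y = y' := by
  have h2 := mul_mem (inv_mem h) h'
  have h3 : ((1 : G₁), y⁻¹ * y') ∈ M.K := by simpa [Prod.inv_mk, Prod.mk_mul_mk] using h2
  exact inv_mul_eq_one.mp (M.K_one h3)

/-- the centralizers of the pairs correspond -/
theorem K_cen {p : G₁ × G₂} (hp : p ∈ M.K) (h : p.1 ∈ cen a₁ d₁) : p.2 ∈ cen a₂ d₂ := by
  obtain ⟨x, y⟩ := p
  have hc : x ∈ Subgroup.closure (nset D₁ a₁ ∩ nset D₁ d₁) := by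
    rw [(Pair.closure_com M.hD₁ M.prim₁ M.type₁ M.a_mem₁ M.d_mem₁ M.nc₁).1]; exact h
  obtain ⟨z, hz, hzc⟩ : ∃ z, (x, z) ∈ M.K ∧ z ∈ cen a₂ d₂ := by
    clear hp h
    induction hc using Subgroup.closure_induction with
    | mem u hu =>
      obtain ⟨v, hv⟩ := M.tot u hu.1
      exact ⟨v, Subgroup.subset_closure hv,
        mem_cen.mpr ⟨(M.dom _ _ hv).2.2.2.symm, ((M.com u v hv).mp hu.2).2.2.symm⟩⟩
    | one => exact ⟨1, one_mem _, one_mem _⟩
    | mul u v _ _ iu iv =>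
      obtain ⟨p, hp, hpc⟩ := iu
      obtain ⟨q, hq, hqc⟩ := iv
      exact ⟨p * q, mul_mem hp hq, mul_mem hpc hqc⟩
    | inv u _ iu =>
      obtain ⟨p, hp, hpc⟩ := iu
      exact ⟨p⁻¹, inv_mem hp, inv_mem hpc⟩
  exact M.K_func hp hz ▸ hzc

theorem K_cen' {p : G₁ × G₂} (hp : p ∈ M.K) (h : p.2 ∈ cen a₂ d₂) : p.1 ∈ cen a₁ d₁ :=
  M.swap.K_cen (M.swap_K hp) h

theorem a_pair : (a₁, a₂) ∈ M.K := by
  obtain ⟨z, hz⟩ := M.K_tot (Commute.refl a₁)
  have S := (Count.base_of M.hD₂ M.prim₂ M.type₂).set a₂ M.a_mem₂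
  rcases S.fix_ext (M.K_comm hz).2 (fun v hv => by
    obtain ⟨u, hu⟩ := M.sur v hv
    have h := M.K_act hz u v hu
    dsimp only at h
    rw [(M.dom u v hu).1.2.2.eq, mul_inv_cancel_right] at h
    exact mul_inv_eq_iff_eq_mul.mp (M.func u _ _ h hu)) with h | h
  · exfalso
    have h1 := (M.K_parity hz).mpr (by rw [h]; exact one_mem _)
    exact (Base.comm_facts M.hD₁ M.prim₁ M.type₁).2.2 a₁ M.a_mem₁ h1
  · exact h ▸ hz

/-- the correspondence of all members -/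
def R (x : G₁) (y : G₂) : Prop :=
  (x = a₁ ∧ y = a₂) ∨ M.T x y ∨ ∃ p ∈ M.K, x = p.1 * d₁ * p.1⁻¹ ∧ y = p.2 * d₂ * p.2⁻¹

theorem swap_R {x : G₁} {y : G₂} (h : M.R x y) : M.swap.R y x := by
  rcases h with ⟨rfl, rfl⟩ | h | ⟨p, hp, rfl, rfl⟩
  exacts [Or.inl ⟨rfl, rfl⟩, Or.inr (Or.inl h), Or.inr (Or.inr ⟨(p.2, p.1), M.swap_K hp, rfl, rfl⟩)]

theorem R_dom {x : G₁} {y : G₂} (h : M.R x y) : x ∈ D₁ ∧ y ∈ D₂ := by
  rcases h with ⟨rfl, rfl⟩ | h | ⟨p, -, rfl, rfl⟩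
  exacts [⟨M.a_mem₁, M.a_mem₂⟩, ⟨(M.dom _ _ h).1.1, (M.dom _ _ h).2.1⟩,
    ⟨M.hD₁.2.1 _ _ M.d_mem₁, M.hD₂.2.1 _ _ M.d_mem₂⟩]

theorem out_nc {p : G₁ × G₂} (hp : p ∈ M.K) : ¬ Commute a₁ (p.1 * d₁ * p.1⁻¹) := fun h => M.nc₁ (by
  rw [← commute_conj_iff (g := p.1), (M.K_comm hp).1.eq, mul_inv_cancel_right]
  exact h)

theorem R_tot {x : G₁} (hx : x ∈ D₁) : ∃ y, M.R x y := by
  by_cases hc : Commute a₁ x
  · by_cases he : x = a₁
    · exact ⟨a₂, Or.inl ⟨he, rfl⟩⟩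
    · obtain ⟨z, hz⟩ := M.tot x ⟨hx, he, hc⟩
      exact ⟨z, Or.inr (Or.inl hz)⟩
  · obtain ⟨g, hg, hge⟩ := (Count.base_of M.hD₁ M.prim₁ M.type₁).hyp.outside_transitive M.a_mem₁ M.d_mem₁ hx
      M.nc₁ hc
    obtain ⟨h, hh⟩ := M.K_tot hg
    exact ⟨_, Or.inr (Or.inr ⟨_, hh, hge.symm, rfl⟩)⟩

theorem R_func {x : G₁} {y y' : G₂} (h : M.R x y) (h' : M.R x y') : y = y' := by
  rcases h with ⟨hx, hy⟩ | h | ⟨p, hp, hx, hy⟩ <;> rcases h' with ⟨hx', hy'⟩ | h' | ⟨q, hq, hx', hy'⟩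
  · rw [hy, hy']
  · exact absurd hx (M.dom _ _ h').1.2.1
  · exact absurd (hx'.symm.trans hx ▸ Commute.refl a₁) (M.out_nc hq)
  · exact absurd hx' (M.dom _ _ h).1.2.1
  · exact M.func _ _ _ h h'
  · exact absurd (hx' ▸ (M.dom _ _ h).1.2.2) (M.out_nc hq)
  · exact absurd (hx.symm.trans hx' ▸ Commute.refl a₁) (M.out_nc hp)
  · exact absurd (hx ▸ (M.dom _ _ h').1.2.2) (M.out_nc hp)
  · have hm := mul_mem (inv_mem hq) hp
    have hk := M.K_cen hm (mem_cen.mpr ⟨(M.K_comm hm).1, mul_inv_eq_iff_eq_mul.mp (by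
      show q.1⁻¹ * p.1 * d₁ * (q.1⁻¹ * p.1)⁻¹ = d₁
      rw [show q.1⁻¹ * p.1 * d₁ * (q.1⁻¹ * p.1)⁻¹ = q.1⁻¹ * (p.1 * d₁ * p.1⁻¹) * q.1 by group, ← hx, hx']
      group)⟩)
    have h2 := (mem_cen.mp hk).2.eq
    rw [hy, hy', show p.2 = q.2 * (q⁻¹ * p).2 by simp [mul_assoc]]
    rw [show q.2 * (q⁻¹ * p).2 * d₂ * (q.2 * (q⁻¹ * p).2)⁻¹ =
      q.2 * ((q⁻¹ * p).2 * d₂ * (q⁻¹ * p).2⁻¹) * q.2⁻¹ by group, h2, mul_inv_cancel_right]

theorem comm_mp {x u : G₁} {y v : G₂} (h : M.R x y) (h' : M.R u v) (hc : Commute x u) : Commute y v := by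
  have key : ∀ {y : G₁} {z : G₂} {p : G₁ × G₂}, M.T y z → p ∈ M.K → Commute y (p.1 * d₁ * p.1⁻¹) →
      Commute z (p.2 * d₂ * p.2⁻¹) := by
    intro y z p hT hp hc
    have hT' := M.K_act (inv_mem hp) y z hT
    obtain ⟨hy, -⟩ := M.dom _ _ hT'
    have h1 := (commute_conj_iff (g := p.1⁻¹)).mpr hc
    rw [show p.1⁻¹ * (p.1 * d₁ * p.1⁻¹) * p.1⁻¹⁻¹ = d₁ by group] at h1
    have hyd : p.1⁻¹ * y * p.1⁻¹⁻¹ ∈ nset D₁ d₁ := ⟨hy.1, fun e => M.nc₁ (e ▸ hy.2.2), h1.symm⟩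
    have h2 := (commute_conj_iff (g := p.2)).mpr ((M.com _ _ hT').mp hyd).2.2.symm
    rw [Prod.snd_inv, show p.2 * (p.2⁻¹ * z * p.2⁻¹⁻¹) * p.2⁻¹ = z by group] at h2
    exact h2
  rcases h with ⟨hx, hy⟩ | h | ⟨p, hp, hx, hy⟩ <;> rcases h' with ⟨hu, hv⟩ | h' | ⟨q, hq, hu, hv⟩
  · rw [hy, hv]
  · rw [hy]; exact (M.dom _ _ h').2.2.2
  · exact absurd (hx ▸ hu ▸ hc) (M.out_nc hq)
  · rw [hv]; exact (M.dom _ _ h).2.2.2.symm
  · exact (M.comm _ _ _ _ h h').mp hc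
  · rw [hv]; exact key h hq (hu ▸ hc)
  · exact absurd (hu ▸ hx ▸ hc.symm) (M.out_nc hp)
  · rw [hy]; exact (key h' hp (hx ▸ hc.symm)).symm
  · rw [hx, hu] at hc
    rw [hy, hv]
    have hm := mul_mem (inv_mem hp) hq
    set k := p⁻¹ * q with hk
    have hc1 : Commute d₁ (k.1 * d₁ * k.1⁻¹) := by
      have h1 := (commute_conj_iff (g := p.1⁻¹)).mpr hc
      rw [show p.1⁻¹ * (p.1 * d₁ * p.1⁻¹) * p.1⁻¹⁻¹ = d₁ by group,
        show p.1⁻¹ * (q.1 * d₁ * q.1⁻¹) * p.1⁻¹⁻¹ = k.1 * d₁ * k.1⁻¹ by rw [hk]; simp [mul_assoc]] at h1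
      exact h1
    have hc2 : Commute d₂ (k.2 * d₂ * k.2⁻¹) := by
      refine (comm_iff_coset M.hD₂ M.a_mem₂ M.d_mem₂ M.nc₂ (M.K_comm hm).2).mpr ?_
      rcases (comm_iff_coset M.hD₁ M.a_mem₁ M.d_mem₁ M.nc₁ (M.K_comm hm).1).mp hc1 with h | ⟨s, hs, hsd, h⟩
      · exact Or.inl (M.K_cen hm h)
      · obtain ⟨t, hst⟩ := M.tot s hs
        refine Or.inr ⟨t, (M.dom _ _ hst).2, fun h' => hsd ((M.com _ _ hst).mpr h'), ?_⟩
        exact M.K_cen (p := ((a₁, a₂) * (s, t))⁻¹ * k)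
          (mul_mem (inv_mem (mul_mem M.a_pair (Subgroup.subset_closure hst))) hm) h
    have h2 := (commute_conj_iff (g := p.2)).mpr hc2
    rwa [show p.2 * (k.2 * d₂ * k.2⁻¹) * p.2⁻¹ = q.2 * d₂ * q.2⁻¹ by rw [hk]; simp [mul_assoc]] at h2

theorem comm_R {x u : G₁} {y v : G₂} (h : M.R x y) (h' : M.R u v) : Commute x u ↔ Commute y v :=
  ⟨M.comm_mp h h', M.swap.comm_mp (M.swap_R h) (M.swap_R h')⟩

theorem R_conj {x u : G₁} {y v : G₂} (h : M.R x y) (h' : M.R u v) : M.R (x * u * x⁻¹) (y * v * y⁻¹) := by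
  by_cases hc : Commute x u
  · rwa [hc.eq, mul_inv_cancel_right, (M.comm_mp h h' hc).eq, mul_inv_cancel_right]
  obtain ⟨hx, hy⟩ := M.R_dom h
  obtain ⟨hu, hv⟩ := M.R_dom h'
  have hcy : ¬ Commute y v := fun e => hc ((M.comm_R h h').mpr e)
  have hw : x * u * x⁻¹ ∈ D₁ := M.hD₁.2.1 x u hu
  obtain ⟨z, hz⟩ := M.R_tot hw
  obtain ⟨-, hzD⟩ := M.R_dom hz
  have hwne : x * u * x⁻¹ ≠ u := fun e => hc (mul_inv_eq_iff_eq_mul.mp e)
  have hyz : ¬ Commute y z := fun e => hc (by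
    have h1 := (commute_conj_iff (g := x⁻¹)).mpr ((M.comm_R h hz).mpr e)
    rw [show x⁻¹ * x * x⁻¹⁻¹ = x by group, show x⁻¹ * (x * u * x⁻¹) * x⁻¹⁻¹ = u by group] at h1
    exact h1)
  have hsub : ∀ t ∈ nset D₂ y ∩ nset D₂ v, Commute z t := by
    intro t ht
    obtain ⟨s, hs⟩ : ∃ s, M.R s t := by
      obtain ⟨s, hs⟩ := M.swap.R_tot ht.1.1
      exact ⟨s, M.swap.swap_R hs⟩
    have h1 : Commute x s := (M.comm_R h hs).mpr ht.1.2.2
    have h2 : Commute u s := (M.comm_R h' hs).mpr ht.2.2.2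
    exact M.comm_mp hz hs ((h1.mul_left h2).mul_left h1.inv_left)
  rcases Pair.twin M.hD₂ M.prim₂ M.type₂ hy hv hzD hcy hyz hsub with e | e
  · exfalso
    exact hwne (M.swap.R_func (M.swap_R (e ▸ hz)) (M.swap_R h'))
  · exact e ▸ hz

include M in
theorem iso : ∃ e : G₁ ≃* G₂, e '' D₁ = D₂ :=
  iso_of_bij M.hD₁.2.2 M.hD₂.2.2 M.hD₁.2.1 M.hD₂.2.1 M.type₁.1 M.type₂.1 M.R (fun _ _ => M.R_dom)
    (fun _ => M.R_tot)
    (fun y hy => by
      obtain ⟨x, hx⟩ := M.swap.R_tot hy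
      exact ⟨x, M.swap.swap_R hx⟩)
    (fun _ _ _ => M.R_func) (fun _ _ _ h h' => M.swap.R_func (M.swap_R h) (M.swap_R h'))
    (fun _ _ _ _ => M.R_conj)

end Match

theorem unique (hD₁ : Cfsg.IsThreeTranspositionGroup D₁) (hp₁ : Cfsg.IsPrimitiveUnderConj D₁)
    (ht₁ : Cfsg.IsOfTypeM24 G₁ D₁) (hD₂ : Cfsg.IsThreeTranspositionGroup D₂)
    (hp₂ : Cfsg.IsPrimitiveUnderConj D₂) (ht₂ : Cfsg.IsOfTypeM24 G₂ D₂) : ∃ e : G₁ ≃* G₂, e '' D₁ = D₂ := by
  obtain ⟨a₁, d₁, a₂, d₂, ⟨M⟩⟩ := exists_match hD₁ hp₁ ht₁ hD₂ hp₂ ht₂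
  exact M.iso

end Cfsg.Agent.Spor.M24Rel.Unique
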