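import Cfsg.Agent.Lib.Spor.MathieuOutTwelve

/-!
# The outer automorphism group of M11 is trivial

An automorphism permutes the twelve points off the dodecad. Composed with inner automorphisms it fixes an element of
order eleven or inverts it; inversion does not preserve the hexads.
-/

set_option autoImplicit false
set_option maxRecDepth 100000

namespace Cfsg.Agent.Spor.MathieuOutEleven

open Cfsg Cfsg.Agent.Spor MulAction MathieuOut MathieuOutTwelve
open scoped Pointwise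

local notation "D" => Cfsg.Spor.squareDodecad
local notation "M11'" => Cfsg.Spor.M11

theorem mem_D_zero : (some 0 : GolayPt) ∈ D := by decide +kernel

/-- the points off the dodecad -/
abbrev Off : Type := {p : GolayPt // p ∉ Cfsg.Spor.squareDodecad}

instance instActOff : MulAction Cfsg.Spor.M11 Off where
  smul g x := ⟨(g : Equiv.Perm GolayPt) x.1, fun h => x.2
    ((mem_of_stab (d := D) (g := ⟨(g : Equiv.Perm GolayPt), g.2.1.1⟩) g.2.1.2).1 h)⟩
  one_smul _ := rfl
  mul_smul _ _ _ := rfl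

theorem smul_val (g : Cfsg.Spor.M11) (x : Off) : (g • x).1 = (g : Equiv.Perm GolayPt) x.1 := rfl

/-- the inclusion in `M24` -/
def toM24 : Cfsg.Spor.M11 →* M24 := Subgroup.inclusion (inf_le_left.trans inf_le_left)

theorem toM24_inj : Function.Injective toM24 := Subgroup.inclusion_injective _

theorem toM24_range : toM24.range = M11Local.eleven D (some 0) := by
  ext g
  exact ⟨fun ⟨k, hk⟩ => hk ▸ ⟨k.2.1.2, k.2.2⟩, fun h => ⟨⟨g.1, ⟨g.2, h.1⟩, h.2⟩, rfl⟩⟩

theorem toM24_stab (x : Off) : (stabilizer Cfsg.Spor.M11 x).map toM24 =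
    M11Local.eleven D (some 0) ⊓ stabilizer M24 x.1 := by
  ext g
  exact ⟨fun ⟨k, hk, hkg⟩ => hkg ▸ ⟨⟨k.2.1.2, k.2.2⟩, congrArg Subtype.val hk⟩,
    fun h => ⟨⟨g.1, ⟨g.2, h.1.1⟩, h.1.2⟩, Subtype.ext h.2, rfl⟩⟩

theorem card_stab (x : Off) : Nat.card (stabilizer Cfsg.Spor.M11 x) = 660 := by
  rw [← Subgroup.card_map_of_injective toM24_inj, toM24_stab]
  exact M11Local.card_two square_mem mem_D_zero x.2

theorem card_M11 : Nat.card Cfsg.Spor.M11 = 7920 := by
  rw [show Nat.card Cfsg.Spor.M11 = Nat.card toM24.range from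
    Nat.card_congr (MonoidHom.ofInjective toM24_inj).toEquiv, toM24_range]
  exact card_stab_point square_mem (some 0)

theorem index_stab (x : Off) : (stabilizer Cfsg.Spor.M11 x).index = 12 := by
  have h := (stabilizer Cfsg.Spor.M11 x).card_mul_index
  rw [card_stab, card_M11] at h
  omega

/-- A subgroup of index twelve fixes a point off the dodecad. -/
theorem eq_stab_of_index {H : Subgroup Cfsg.Spor.M11} (hH : H.index = 12) :
    ∃ x : Off, H = stabilizer Cfsg.Spor.M11 x := by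
  haveI : Fact (Nat.Prime 11) := ⟨by norm_num⟩
  haveI : Fact (Nat.Prime 3) := ⟨by norm_num⟩
  set K := H.map toM24 with hK
  have hKc : Nat.card K = 660 := by
    have h := H.card_mul_index
    rw [hH, card_M11] at h
    rw [hK, Subgroup.card_map_of_injective toM24_inj]
    omega
  have hle : K ≤ M11Local.eleven D (some 0) := toM24_range ▸ Subgroup.map_le_range toM24 H
  have hKd : K ≤ stabilizer M24 D := hle.trans inf_le_left
  obtain ⟨g, hgK, ho⟩ := exists_elt (K := K) 11 (by rw [hKc]; norm_num)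
  obtain ⟨q, r, hq, hr, hgq, hgr, huniq⟩ := fix_one_one square_mem (hKd hgK) ho
  have hdc := compl_dodecad square_mem
  rcases orbit_one_or_twelve hdc (hKd.trans (stab_compl D).ge) hgK ho (Finset.mem_compl.2 hr) hgr with hKr | hKr
  · refine ⟨⟨r, hr⟩, Subgroup.map_injective toM24_inj ?_⟩
    rw [toM24_stab]
    refine Subgroup.eq_of_le_of_card_ge (le_inf hle (le_stab_of_orbit_one hKr)) ?_
    rw [M11Local.card_two square_mem mem_D_zero hr, ← hK, hKc]
  exfalso
  obtain ⟨y, hyK, hy3⟩ := exists_elt (K := K) 3 (by rw [hKc]; norm_num)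
  have hy1 : y ≠ 1 := fun e => by rw [e] at hy3; simp at hy3
  have hin : fixSet (y : Equiv.Perm GolayPt) = (fixSet (y : Equiv.Perm GolayPt)).filter fun p => p ∈ D := by
    refine (Finset.filter_true_of_mem fun b hb => ?_).symm
    by_contra hbd
    have hbO : b ∈ orbitSet K r := hKr.symm ▸ Finset.mem_compl.2 hbd
    have horb : orbitSet K b = Dᶜ := by
      rw [orbitSet, Set.Finite.mem_toFinset, ← orbit_eq_iff] at hbO
      rw [← hKr]
      simp [orbitSet, hbO]
    have h55 := card_stab_sub (H := K) b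
    rw [horb, hdc.2, hKc] at h55
    have hdvd : 3 ∣ Nat.card ↥(K ⊓ stabilizer M24 b) := by
      rw [← hy3, Subgroup.orderOf_coe]
      exact Subgroup.orderOf_dvd_natCard _ ⟨hyK, (Finset.mem_filter.1 hb).2⟩
    obtain ⟨c, hc⟩ := hdvd
    omega
  have h4 := fix_le_four square_mem (hKd hyK) hy1
  rw [← hin] at h4
  have hq2 : 0 < (fixSet (y : Equiv.Perm GolayPt)).card :=
    Finset.card_pos.2 ⟨some 0, Finset.mem_filter.2 ⟨Finset.mem_univ _, (hle hyK).2⟩⟩
  rcases three_by_fix y.2 hy3 with ⟨e, -⟩ | ⟨e, -⟩ <;> omega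

theorem stab_off_inj {x y : Off} (h : stabilizer Cfsg.Spor.M11 x = stabilizer Cfsg.Spor.M11 y) : x = y := by
  haveI : Fact (Nat.Prime 11) := ⟨by norm_num⟩
  have h' := congrArg (Subgroup.map toM24) h
  rw [toM24_stab, toM24_stab] at h'
  obtain ⟨g, hg, ho⟩ := exists_elt (K := M11Local.eleven D (some 0) ⊓ stabilizer M24 x.1) 11
    (by rw [M11Local.card_two square_mem mem_D_zero x.2]; norm_num)
  obtain ⟨q, r, hq, hr, -, -, huniq⟩ := fix_one_one square_mem hg.1.1 ho
  have hgy : g ∈ M11Local.eleven D (some 0) ⊓ stabilizer M24 y.1 := h' ▸ hg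
  apply Subtype.ext
  rcases huniq x.1 hg.2 with e | e <;> rcases huniq y.1 hgy.2 with e' | e'
  · exact e.trans e'.symm
  · exact absurd (e ▸ hq) x.2
  · exact absurd (e' ▸ hq) y.2
  · exact e.trans e'.symm

/-- multiplication by two -/
def gList : List ℕ :=
  [0, 2, 4, 6, 8, 10, 12, 14, 16, 18, 20, 22, 1, 3, 5, 7, 9, 11, 13, 15, 17, 19, 21, 23]

/-- an element conjugating `gList` to its cube -/
def tList : List ℕ :=
  [0, 18, 6, 3, 2, 21, 1, 5, 16, 12, 7, 19, 8, 9, 17, 15, 13, 11, 4, 22, 10, 20, 14, 23]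

/-- inversion on the cycle of fifteen -/
def sList : List ℕ :=
  [0, 1, 2, 3, 4, 22, 6, 19, 8, 9, 11, 10, 12, 13, 21, 15, 16, 20, 18, 7, 17, 14, 5, 23]

/-- an element of M11 -/
def hList : List ℕ :=
  [0, 9, 6, 4, 3, 14, 13, 10, 12, 8, 20, 5, 18, 2, 21, 23, 1, 19, 16, 17, 7, 15, 22, 11]

/-- iterate of a list -/
def gPow : ℕ → List ℕ
  | 0 => List.range 24
  | n + 1 => lmul gList (gPow n)

theorem lists_ok : (∀ l ∈ [gList, tList, hList], m24ok l = true ∧ pm l 340831 0 = 340831 ∧ l.getD 0 0 = 0) ∧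
    lok sList = true ∧ lmul tList gList = lmul (gPow 3) tList ∧ tList.getD 23 0 = 23 ∧ tList.getD 15 0 = 15 ∧
    gList.getD 23 0 = 23 ∧ gPow 11 = List.range 24 ∧ gList ≠ List.range 24 ∧ sList.getD 23 0 = 23 := by
  decide +kernel

theorem cycle_ok : (∀ i, i < 11 → sList.getD ((gPow i).getD 15 0) 0 = (gPow (10 * i % 11)).getD 15 0) ∧
    ∀ p : GolayPt, p ∈ D ∨ p = none ∨ ∃ i, i < 11 ∧ idx p = (gPow i).getD 15 0 := by
  decide +kernel

theorem hexad_ok : 12222476 ∈ octMasks ∧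
    pm sList (pm hList (pm sList (12222476 &&& (16777215 ^^^ 340831)) 0) 0) 0 = 8932480 ∧
    ∀ m ∈ octMasks, m &&& 8932480 ≠ 8932480 := by decide +kernel

theorem mk_ok {l : List ℕ} (hl : m24ok l = true) (hd : pm l 340831 0 = 340831) (h0 : l.getD 0 0 = 0) :
    lperm l ∈ Cfsg.Spor.M11 := by
  refine ⟨⟨lperm_mem hl, ?_⟩, ?_⟩
  · show lperm l • D = D
    apply mask_injective
    rw [mask_smul_lperm (m24ok_lok hl), square_mask, hd]
  · show lperm l (some 0) = some 0
    apply idx_injective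
    rw [← rep_lperm (m24ok_lok hl) (some 0)]
    exact h0

/-- multiplication by two, in M11 -/
noncomputable def gM : Cfsg.Spor.M11 :=
  ⟨lperm gList, mk_ok (lists_ok.1 _ (by simp)).1 (lists_ok.1 _ (by simp)).2.1 (lists_ok.1 _ (by simp)).2.2⟩

/-- the element normalising it -/
noncomputable def tM : Cfsg.Spor.M11 :=
  ⟨lperm tList, mk_ok (lists_ok.1 _ (by simp)).1 (lists_ok.1 _ (by simp)).2.1 (lists_ok.1 _ (by simp)).2.2⟩

/-- the test element -/
noncomputable def hM : Cfsg.Spor.M11 :=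
  ⟨lperm hList, mk_ok (lists_ok.1 _ (by simp)).1 (lists_ok.1 _ (by simp)).2.1 (lists_ok.1 _ (by simp)).2.2⟩

/-- the fixed point -/
def r0 : Off := ⟨none, by decide +kernel⟩

/-- a point of the cycle -/
def x1 : Off := ⟨pt 15, by decide +kernel⟩

theorem g_rep : Rep (lperm gList) gList := rep_lperm (m24ok_lok (lists_ok.1 _ (by simp)).1)

theorem t_rep : Rep (lperm tList) tList := rep_lperm (m24ok_lok (lists_ok.1 _ (by simp)).1)

theorem g_pow_rep : ∀ n, Rep (lperm gList ^ n) (gPow n)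
  | 0 => fun p => by
    rw [pow_zero, gPow, List.getD_eq_getElem _ _ (by simp [idx_lt p]), List.getElem_range]
    rfl
  | n + 1 => by rw [pow_succ']; exact g_rep.mul (g_pow_rep n)

theorem rep_ext {σ τ : Equiv.Perm GolayPt} {l : List ℕ} (hσ : Rep σ l) (hτ : Rep τ l) : σ = τ :=
  Equiv.ext fun p => idx_injective ((hσ p).symm.trans (hτ p))

theorem g_order : orderOf gM = 11 := by
  haveI : Fact (Nat.Prime 11) := ⟨by norm_num⟩
  refine orderOf_eq_prime ?_ fun e => ?_
  · have h : lperm gList ^ 11 = 1 := rep_ext (g_pow_rep 11) (by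
      rw [lists_ok.2.2.2.2.2.2.1]
      intro p
      rw [List.getD_eq_getElem _ _ (by simp [idx_lt p]), List.getElem_range]
      rfl)
    exact Subtype.ext (by rw [SubgroupClass.coe_pow]; exact h)
  · have h1 : lperm gList = 1 := congrArg Subtype.val e
    have h : gList.getD (idx (pt 1)) 0 = idx (pt 1) := by
      have := g_rep (pt 1)
      rwa [h1] at this
    revert h
    decide +kernel

theorem gt_rel : tM * gM * tM⁻¹ = gM ^ 3 := by
  rw [mul_inv_eq_iff_eq_mul]
  apply Subtype.ext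
  show lperm tList * lperm gList = ((gM ^ 3 : Cfsg.Spor.M11) : Equiv.Perm GolayPt) * lperm tList
  rw [SubgroupClass.coe_pow]
  refine rep_ext (t_rep.mul g_rep) ?_
  rw [lists_ok.2.2.1]
  exact (g_pow_rep 3).mul t_rep

theorem g_r0 : gM • r0 = r0 := Subtype.ext (idx_injective ((g_rep none).symm.trans lists_ok.2.2.2.2.2.1))

theorem t_r0 : tM • r0 = r0 := Subtype.ext (idx_injective ((t_rep none).symm.trans lists_ok.2.2.2.1))

theorem t_x1 : tM • x1 = x1 := Subtype.ext (idx_injective (by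
  show idx (lperm tList (pt 15)) = idx (pt 15)
  rw [← t_rep (pt 15), idx_pt 15 (by norm_num), lists_ok.2.2.2.2.1]))

theorem g_pow_smul (n : ℕ) : idx ((gM ^ n) • x1).1 = (gPow n).getD 15 0 := by
  rw [smul_val, SubgroupClass.coe_pow]
  show idx ((lperm gList ^ n) (pt 15)) = _
  rw [← g_pow_rep n (pt 15), idx_pt 15 (by norm_num)]

theorem off_cases (y : Off) : y = r0 ∨ ∃ i, i < 11 ∧ y = (gM ^ i) • x1 := by
  rcases cycle_ok.2 y.1 with h | h | ⟨i, hi, h⟩
  · exact absurd h y.2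
  · exact Or.inl (Subtype.ext h)
  · exact Or.inr ⟨i, hi, Subtype.ext (idx_injective (h.trans (g_pow_smul i).symm))⟩

/-- An element of M11 fixing all points off the dodecad is trivial. -/
theorem eq_of_off {a b : Cfsg.Spor.M11} (h : ∀ y : Off, a • y = b • y) : a = b := by
  by_contra hne
  have h1 : toM24 (a⁻¹ * b) ≠ 1 := fun e => hne (inv_mul_eq_one.1 (toM24_inj (e.trans (map_one _).symm)))
  have hd : toM24 (a⁻¹ * b) ∈ stabilizer M24 D := (toM24_range ▸ ⟨_, rfl⟩ :
    toM24 (a⁻¹ * b) ∈ M11Local.eleven D (some 0)).1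
  have h4 := fix_le_four (compl_dodecad square_mem) ((stab_compl D).symm ▸ hd) h1
  have hall : ((fixSet ((toM24 (a⁻¹ * b) : M24) : Equiv.Perm GolayPt)).filter fun p => p ∈ Dᶜ) = Dᶜ := by
    ext p
    simp only [Finset.mem_filter, Finset.mem_univ, true_and]
    refine ⟨fun hp => hp.2, fun hp => ⟨?_, hp⟩⟩
    show (((a⁻¹ * b : Cfsg.Spor.M11)) : Equiv.Perm GolayPt) p = p
    have := h ⟨p, Finset.mem_compl.1 hp⟩
    have h2 : (a⁻¹ * b) • (⟨p, Finset.mem_compl.1 hp⟩ : Off) = ⟨p, Finset.mem_compl.1 hp⟩ := by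
      rw [mul_smul, ← this, inv_smul_smul]
    exact congrArg Subtype.val h2
  rw [hall, (compl_dodecad square_mem).2] at h4
  omega

/-- inversion of the cycle does not normalise M11 -/
theorem no_inversion (β : MulAut Cfsg.Spor.M11) (σ : Equiv.Perm Off)
    (hσ : ∀ (k : Cfsg.Spor.M11) (x : Off), σ (k • x) = β k • σ x) (h0 : σ r0 = r0) (h1 : σ x1 = x1)
    (hg : β gM = gM ^ 10) : False := by
  have hsrep : Rep (lperm sList) sList := rep_lperm lists_ok.2.1
  have hS : ∀ y : Off, (σ y).1 = lperm sList y.1 := by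
    intro y
    rcases off_cases y with rfl | ⟨i, hi, rfl⟩
    · rw [h0]
      exact idx_injective (lists_ok.2.2.2.2.2.2.2.2.symm.trans (hsrep none))
    · rw [hσ, h1, map_pow, hg, ← pow_mul]
      refine idx_injective ?_
      rw [g_pow_smul, ← hsrep, g_pow_smul, cycle_ok.1 i hi]
      have e : gM ^ (10 * i % 11) = gM ^ (10 * i) := by
        conv_rhs => rw [← pow_mod_orderOf, g_order]
      rw [← g_pow_smul (10 * i), ← g_pow_smul (10 * i % 11), e]
  obtain ⟨hoct, hB, hno⟩ := hexad_ok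
  set k := (β hM : Cfsg.Spor.M11) with hk
  set o := ofMask 12222476 with ho
  have hlt : (12222476 : ℕ) < 2 ^ 24 := by norm_num
  have hko : ((k : Equiv.Perm GolayPt) • o) ∈ octads :=
    smul_octad k.2.1.1 (by rw [mem_octads, ho, mask_ofMask hlt]; exact hoct)
  have hslok := lists_ok.2.1
  have hhlok : lok hList = true := m24ok_lok (lists_ok.1 _ (by simp)).1
  have hAm : mask (o ∩ Dᶜ) = 12222476 &&& (16777215 ^^^ 340831) := by
    rw [mask_inter, ho, mask_ofMask hlt, show mask Dᶜ = 16777215 ^^^ 340831 by decide +kernel]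
  set B := lperm sList • lperm hList • lperm sList • (o ∩ Dᶜ) with hBdef
  have hBm : mask B = 8932480 := by
    rw [hBdef, mask_smul_lperm hslok, mask_smul_lperm hhlok, mask_smul_lperm hslok, hAm, hB]
  have hsub : B ⊆ (k : Equiv.Perm GolayPt) • o := by
    intro z hz
    rw [hBdef] at hz
    obtain ⟨z1, hz1, rfl⟩ := Finset.mem_smul_finset.1 hz
    obtain ⟨z2, hz2, rfl⟩ := Finset.mem_smul_finset.1 hz1
    obtain ⟨a, ha, rfl⟩ := Finset.mem_smul_finset.1 hz2
    simp only [Finset.mem_inter, Finset.mem_compl] at ha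
    refine Finset.mem_smul_finset.2 ⟨a, ha.1, ?_⟩
    set y := σ.symm ⟨a, ha.2⟩ with hy
    have hsy : σ y = ⟨a, ha.2⟩ := σ.apply_symm_apply _
    have hya : lperm sList a = y.1 := by
      have h2 := hS y
      rw [hsy] at h2
      simp only at h2
      rw [h2]
      refine idx_injective ?_
      rw [← hsrep, ← hsrep]
      have inv : ∀ p : GolayPt, sList.getD (sList.getD (idx p) 0) 0 = idx p := by decide +kernel
      exact inv y.1
    simp only [Equiv.Perm.smul_def]
    rw [hya]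
    have e := congrArg Subtype.val (hσ hM y)
    rw [hS, smul_val, smul_val, hsy] at e
    exact e.symm
  refine hno (mask ((k : Equiv.Perm GolayPt) • o)) (mem_octads.1 hko) ?_
  rw [← hBm, ← mask_inter, Finset.inter_eq_right.2 hsub]

/-- after normalising, the automorphism is inner -/
theorem inner_step4 (β : MulAut Cfsg.Spor.M11) (σ : Equiv.Perm Off)
    (hσ : ∀ (k : Cfsg.Spor.M11) (x : Off), σ (k • x) = β k • σ x) (h0 : σ r0 = r0) (h1 : σ x1 = x1)
    (hg : β gM = gM) : β = 1 := by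
  have hid : ∀ y, σ y = y := by
    intro y
    rcases off_cases y with rfl | ⟨i, hi, rfl⟩
    · exact h0
    · rw [hσ, h1, map_pow, hg]
  refine MulEquiv.ext fun k => eq_of_off fun y => ?_
  have h := hσ k y
  rw [hid, hid] at h
  exact h.symm

theorem conj_step (β : MulAut Cfsg.Spor.M11) (σ : Equiv.Perm Off)
    (hσ : ∀ (k : Cfsg.Spor.M11) (x : Off), σ (k • x) = β k • σ x) (m : Cfsg.Spor.M11) :
    ∀ (k : Cfsg.Spor.M11) (x : Off), (σ.trans (MulAction.toPerm m)) (k • x) =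
      (MulAut.conj m * β) k • (σ.trans (MulAction.toPerm m)) x := by
  intro k x
  simp only [Equiv.trans_apply, MulAction.toPerm_apply, hσ, MulAut.mul_apply, MulAut.conj_apply]
  rw [mul_smul, mul_smul, inv_smul_smul]

theorem inner_of_conj {β : MulAut Cfsg.Spor.M11} {m : Cfsg.Spor.M11}
    (h : MulAut.conj m * β ∈ Cfsg.Inn Cfsg.Spor.M11) : β ∈ Cfsg.Inn Cfsg.Spor.M11 :=
  (Subgroup.mul_mem_cancel_left _ (show MulAut.conj m ∈ Cfsg.Inn Cfsg.Spor.M11 from ⟨m, rfl⟩)).1 h

theorem inner_step3 : ∀ (e : ℕ) (s : ℕ) (β : MulAut Cfsg.Spor.M11) (σ : Equiv.Perm Off),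
    (∀ (k : Cfsg.Spor.M11) (x : Off), σ (k • x) = β k • σ x) → σ r0 = r0 → σ x1 = x1 → β gM = gM ^ s →
    (s * 3 ^ e % 11 = 1 ∨ s * 3 ^ e % 11 = 10) → β ∈ Cfsg.Inn Cfsg.Spor.M11
  | 0, s, β, σ, hσ, h0, h1, hg, hs => by
    rw [pow_zero, mul_one] at hs
    rw [← pow_mod_orderOf, g_order] at hg
    rcases hs with hs | hs <;> rw [hs] at hg
    · rw [inner_step4 β σ hσ h0 h1 (by rw [hg, pow_one])]
      exact one_mem _
    · exact (no_inversion β σ hσ h0 h1 hg).elim
  | e + 1, s, β, σ, hσ, h0, h1, hg, hs => by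
    refine inner_of_conj (m := tM) (inner_step3 e (3 * s) _ _ (conj_step β σ hσ tM) ?_ ?_ ?_ ?_)
    · simp only [Equiv.trans_apply, MulAction.toPerm_apply, h0, t_r0]
    · simp only [Equiv.trans_apply, MulAction.toPerm_apply, h1, t_x1]
    · rw [MulAut.mul_apply, hg, map_pow, MulAut.conj_apply, gt_rel, ← pow_mul]
    · rwa [show 3 * s * 3 ^ e = s * 3 ^ (e + 1) by ring]

theorem inner_step2 (β : MulAut Cfsg.Spor.M11) (σ : Equiv.Perm Off)
    (hσ : ∀ (k : Cfsg.Spor.M11) (x : Off), σ (k • x) = β k • σ x) (h0 : σ r0 = r0) (s : ℕ)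
    (hg : β gM = gM ^ s) : β ∈ Cfsg.Inn Cfsg.Spor.M11 := by
  have hs : s % 11 ≠ 0 := fun h => by
    have h11 : orderOf (β gM) = 11 := by rw [MulEquiv.orderOf_eq, g_order]
    rw [hg, ← pow_mod_orderOf, g_order, h, pow_zero, orderOf_one] at h11
    omega
  rcases off_cases (σ x1) with h | ⟨j, hj, h⟩
  · exact absurd (σ.injective (h.trans h0.symm)) (by
      intro e
      exact absurd (congrArg Subtype.val e) (by decide +kernel))
  have key : ∀ t : ℕ, t < 11 → t ≠ 0 → ∃ e, e < 5 ∧ (t * 3 ^ e % 11 = 1 ∨ t * 3 ^ e % 11 = 10) := by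
    decide +kernel
  obtain ⟨e, -, he⟩ := key (s % 11) (Nat.mod_lt _ (by norm_num)) hs
  refine inner_of_conj (m := (gM ^ j)⁻¹) (inner_step3 e s _ _ (conj_step β σ hσ _) ?_ ?_ ?_ ?_)
  · simp only [Equiv.trans_apply, MulAction.toPerm_apply, h0]
    exact inv_smul_eq_iff.2 (mem_stabilizer_iff.1 (Subgroup.pow_mem _ (show gM ∈ stabilizer _ r0 from g_r0) j)).symm
  · simp only [Equiv.trans_apply, MulAction.toPerm_apply, h, inv_smul_smul]
  · rw [MulAut.mul_apply, hg, MulAut.conj_apply, inv_inv]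
    rw [mul_assoc, (Commute.pow_pow (Commute.refl gM) s j).eq, inv_mul_cancel_left]
  · rwa [Nat.mul_mod, Nat.mod_mod, ← Nat.mul_mod] at he

theorem aut_M11_inner (α : MulAut Cfsg.Spor.M11) : α ∈ Cfsg.Inn Cfsg.Spor.M11 := by
  haveI : Fact (Nat.Prime 11) := ⟨by norm_num⟩
  obtain ⟨σ, hσ⟩ := perm_of_aut' (G := Cfsg.Spor.M11) (X := Off) (n := 12) index_stab
    (fun H hH => eq_stab_of_index hH) (fun x y h => stab_off_inj h) α
  obtain ⟨m, hm⟩ : ∃ m : Cfsg.Spor.M11, m • σ r0 = r0 := by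
    obtain ⟨b, hb, hb2⟩ : ∃ b : GolayPt, b ∉ D ∧ b ≠ (σ r0).1 := by
      by_cases e : (σ r0).1 = none
      · exact ⟨pt 15, x1.2, fun h => by rw [e] at h; revert h; decide +kernel⟩
      · exact ⟨none, r0.2, Ne.symm e⟩
    obtain ⟨c, hc, hc2⟩ : ∃ c : GolayPt, c ∉ D ∧ c ≠ none := ⟨pt 15, x1.2, by decide +kernel⟩
    obtain ⟨g, hg, e, -⟩ := M11Local.two_trans square_mem mem_D_zero (σ r0).2 hb r0.2 hc hb2.symm hc2.symm
    obtain ⟨k, hk⟩ : g ∈ toM24.range := toM24_range ▸ hg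
    exact ⟨k, Subtype.ext (by rw [smul_val, ← e, ← hk]; rfl)⟩
  refine inner_of_conj (m := m) ?_
  set β := MulAut.conj m * α
  set τ := σ.trans (MulAction.toPerm m) with hτdef
  have hτ := conj_step α σ hσ m
  have hτ0 : τ r0 = r0 := hm
  set K := stabilizer Cfsg.Spor.M11 r0 with hK
  have hgK : gM ∈ K := g_r0
  have hbK : β gM ∈ K := by
    have := hτ gM r0
    rw [g_r0, ← hτdef, hτ0] at this
    exact this.symm
  -- both generate Sylow subgroups of the stabiliser
  have hsyl : ∀ a : K, orderOf a = 11 → ∃ P : Sylow 11 K, (P : Subgroup K) = Subgroup.zpowers a := fun a ha =>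
    ⟨Sylow.ofCard (Subgroup.zpowers a) (by
      rw [Nat.card_zpowers, ha, card_stab, show (660 : ℕ) = 11 * 60 by norm_num,
        Nat.factorization_mul (by norm_num) (by norm_num)]
      simp [Nat.factorization_eq_zero_of_not_dvd (show ¬ 11 ∣ 60 by norm_num),
        (Fact.out : Nat.Prime 11).factorization_self]), rfl⟩
  obtain ⟨P, hP⟩ := hsyl ⟨gM, hgK⟩ (by rw [← Subgroup.orderOf_coe]; exact g_order)
  obtain ⟨Q, hQ⟩ := hsyl ⟨β gM, hbK⟩ (by rw [← Subgroup.orderOf_coe, MulEquiv.orderOf_eq]; exact g_order)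
  obtain ⟨k, hk⟩ := MulAction.exists_smul_eq K Q P
  have hmem : k * ⟨β gM, hbK⟩ * k⁻¹ ∈ (P : Subgroup K) := by
    rw [← hk, Sylow.coe_subgroup_smul]
    exact Subgroup.smul_mem_pointwise_smul _ (MulAut.conj k) _ (hQ ▸ Subgroup.mem_zpowers _)
  rw [hP, ← mem_powers_iff_mem_zpowers] at hmem
  obtain ⟨s, hs⟩ := hmem
  have hs' : (k : Cfsg.Spor.M11) * β gM * (k : Cfsg.Spor.M11)⁻¹ = gM ^ s := (congrArg Subtype.val hs).symm
  refine inner_of_conj (m := (k : Cfsg.Spor.M11)) (inner_step2 _ _ (conj_step β τ hτ _) ?_ s hs')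
  simp only [Equiv.trans_apply, MulAction.toPerm_apply, hτ0]
  exact k.2

theorem card_out_M11 : Nat.card (Cfsg.Out Cfsg.Spor.M11) = 1 := by
  show (Cfsg.Inn Cfsg.Spor.M11).index = 1
  rw [Subgroup.index_eq_one, eq_top_iff]
  exact fun α _ => aut_M11_inner α

end Cfsg.Agent.Spor.MathieuOutEleven
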