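import Cfsg.Agent.Lib.Local.FS.MathieuPerms
import Cfsg.Agent.Lib.Spor.MathieuOutEleven
import Cfsg.Agent.Lib.Solv.StemSylowLocal

/-!
The Schur multiplier of the smallest Mathieu group is trivial.
-/

set_option autoImplicit false
set_option maxRecDepth 100000

universe u

namespace Cfsg.Agent.Spor.MathieuMult

open Cfsg Cfsg.Agent.Local.FS.Mathieu

/-- An element of the smallest Mathieu group. -/
def elR : Equiv.Perm GolayPt :=
  mkPerm [0, 8, 2, 13, 16, 20, 4, 11, 12, 18, 21, 10, 6, 1, 5, 14, 3, 23, 9, 22, 17, 7, 15, 19] [0, 13, 2, 16, 6, 14, 12, 21, 1, 18, 11, 7, 8, 3, 15, 22, 4, 20, 9, 23, 5, 10, 19, 17] (by decide +kernel) (by decide +kernel)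

/-- An element of the smallest Mathieu group. -/
def elS : Equiv.Perm GolayPt :=
  mkPerm [0, 12, 2, 4, 3, 15, 6, 7, 16, 18, 10, 21, 1, 13, 23, 5, 8, 19, 9, 17, 20, 11, 22, 14] [0, 12, 2, 4, 3, 15, 6, 7, 16, 18, 10, 21, 1, 13, 23, 5, 8, 19, 9, 17, 20, 11, 22, 14] (by decide +kernel) (by decide +kernel)

/-- An element of the smallest Mathieu group. -/
def elA : Equiv.Perm GolayPt :=
  mkPerm [0, 16, 3, 12, 6, 5, 9, 20, 8, 4, 23, 19, 2, 13, 14, 10, 18, 7, 1, 21, 17, 11, 22, 15] [0, 18, 12, 2, 9, 5, 4, 17, 8, 6, 15, 21, 3, 13, 14, 23, 1, 20, 16, 11, 7, 19, 22, 10] (by decide +kernel) (by decide +kernel)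

/-- An element of the smallest Mathieu group. -/
def elB : Equiv.Perm GolayPt :=
  mkPerm [0, 12, 6, 9, 1, 14, 16, 17, 8, 18, 23, 11, 4, 13, 22, 10, 2, 20, 3, 19, 7, 21, 5, 15] [0, 4, 16, 18, 12, 22, 2, 20, 8, 3, 15, 11, 1, 13, 5, 23, 6, 7, 9, 19, 17, 21, 14, 10] (by decide +kernel) (by decide +kernel)

/-- An element of the smallest Mathieu group. -/
def elH : Equiv.Perm GolayPt :=
  mkPerm [0, 6, 18, 3, 4, 21, 1, 20, 13, 12, 10, 14, 9, 8, 11, 15, 16, 17, 2, 22, 7, 5, 19, 23] [0, 6, 18, 3, 4, 21, 1, 20, 13, 12, 10, 14, 9, 8, 11, 15, 16, 17, 2, 22, 7, 5, 19, 23] (by decide +kernel) (by decide +kernel)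

theorem m11_mem_of_lst {σ : Equiv.Perm GolayPt}
    (h : (Cfsg.Agent.Local.FS.Mathieu.inCode (lst σ) && (pmask (lst σ) 340831 == 340831)) = true) (h0 : (lst σ).getD 0 0 = 0) :
    σ ∈ Spor.M11 :=
  ⟨m12_mem_of_lst h, MulAction.mem_stabilizer_iff.2 (fix_of_lst (p := some 0) h0)⟩

theorem el_mem : elR ∈ Spor.M11 ∧ elS ∈ Spor.M11 ∧ elA ∈ Spor.M11 ∧ elB ∈ Spor.M11 ∧ elH ∈ Spor.M11 :=
  ⟨m11_mem_of_lst (by decide +kernel) (by decide +kernel), m11_mem_of_lst (by decide +kernel) (by decide +kernel),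
    m11_mem_of_lst (by decide +kernel) (by decide +kernel), m11_mem_of_lst (by decide +kernel) (by decide +kernel),
    m11_mem_of_lst (by decide +kernel) (by decide +kernel)⟩

theorem el_facts : elR ^ 8 = 1 ∧ elR ^ 4 ≠ 1 ∧ elS * elS = 1 ∧ elS * elR = elR ^ 3 * elS ∧ elR * elS ≠ elS * elR ∧
    elA ^ 3 = 1 ∧ elA ≠ 1 ∧ elA * elB = elB * elA ∧ elH * elA = elB * elH ∧ elH * elB = elA * elH ∧
    elB ^ 3 = 1 ∧ elB ≠ elA ∧ elB ≠ elA ^ 2 ∧ elB ≠ 1 := by
  decide +kernel

theorem card_closure_of_list {G : Type*} [Group G] (S : Set G) (L : List G) (hnd : L.Nodup)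
    (hmem : ∀ v ∈ L, v ∈ Subgroup.closure S) (h1 : (1 : G) ∈ L) (hcl : ∀ g ∈ S, ∀ v ∈ L, g * v ∈ L) :
    Nat.card (Subgroup.closure S) = L.length := by
  classical
  have e : (Subgroup.closure S : Set G) = (L.toFinset : Set G) := by
    refine Set.Subset.antisymm (fun v hv => ?_) fun v hv => hmem v (by simpa using hv)
    rw [Finset.mem_coe, List.mem_toFinset]
    induction hv using Subgroup.closure_induction_left with
    | one => exact h1
    | mul_left g hg v _ ih => exact hcl g hg v ih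
    | inv_mul_cancel g hg v _ ih =>
      obtain ⟨F, hF⟩ : ∃ F : {x // x ∈ L} → {x // x ∈ L}, ∀ x, (F x).1 = g * x.1 :=
        ⟨fun x => ⟨g * x.1, hcl g hg x.1 x.2⟩, fun _ => rfl⟩
      have hinj : Function.Injective F := fun x y h =>
        Subtype.ext (mul_left_cancel (a := g) (by rw [← hF, ← hF, h]))
      obtain ⟨w, hw⟩ := (Finite.injective_iff_surjective.mp hinj) ⟨v, ih⟩
      rw [← (show g * w.1 = v by rw [← hF, hw]), inv_mul_cancel_left]
      exact w.2
  rw [← SetLike.coe_sort_coe, Nat.card_congr (Equiv.setCongr e), Nat.card_coe_set_eq, Set.ncard_coe_finset,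
    List.toFinset_card_of_nodup hnd]

/-- Products of powers of two elements. -/
def grid {G : Type*} [Monoid G] (a b : G) (n m : ℕ) : List G :=
  (List.range n).flatMap fun i => (List.range m).map fun j => a ^ i * b ^ j

/-- Composition of image lists. -/
def comp (l m : List ℕ) : List ℕ := m.map fun i => l.getD i 0

/-- A power of an image list. -/
def powC (l : List ℕ) : ℕ → List ℕ
  | 0 => List.range 24
  | k + 1 => comp (powC l k) l

/-- The grid of image lists. -/
def gridC (a b : List ℕ) (n m : ℕ) : List (List ℕ) :=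
  (List.range n).flatMap fun i => (List.range m).map fun j => comp (powC a i) (powC b j)

theorem lst_mul (σ τ : Equiv.Perm GolayPt) : lst (σ * τ) = comp (lst σ) (lst τ) := by
  rw [comp]
  simp only [lst, List.map_map]
  refine List.map_congr_left fun i hi => ?_
  simp [lst, List.getD_eq_getElem?_getD, Cfsg.Agent.Spor.idx_lt, Cfsg.Agent.Spor.pt_idx]

theorem lst_pow (σ : Equiv.Perm GolayPt) : ∀ k, lst (σ ^ k) = powC (lst σ) k
  | 0 => by
    rw [pow_zero, powC, lst]
    refine (List.map_congr_left fun i hi => ?_).trans (List.map_id _)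
    simp [Cfsg.Agent.Spor.idx_pt i (List.mem_range.mp hi)]
  | k + 1 => by rw [pow_succ, lst_mul, lst_pow σ k, powC]

theorem lst_injective {σ τ : Equiv.Perm GolayPt} (h : lst σ = lst τ) : σ = τ := by
  refine Equiv.ext fun p => Cfsg.Agent.Spor.idx_injective ?_
  rw [← rep_lst σ p, ← rep_lst τ p, h]

theorem lst_grid (a b : Equiv.Perm GolayPt) (n m : ℕ) : (grid a b n m).map lst = gridC (lst a) (lst b) n m := by
  simp [grid, gridC, List.map_flatMap, Function.comp_def, lst_mul, lst_pow]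

/-- The list criterion for a grid. -/
def gridCheck (a b : List ℕ) (n m : ℕ) : Bool :=
  decide (gridC a b n m).Nodup && (gridC a b n m).contains (List.range 24) &&
    (gridC a b n m).all fun v => (gridC a b n m).contains (comp a v) && (gridC a b n m).contains (comp b v)

theorem grid_of_check {a b : Equiv.Perm GolayPt} {n m : ℕ} (h : gridCheck (lst a) (lst b) n m = true) :
    (grid a b n m).Nodup ∧ 1 ∈ grid a b n m ∧
      ∀ v ∈ grid a b n m, a * v ∈ grid a b n m ∧ b * v ∈ grid a b n m := by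
  simp only [gridCheck, Bool.and_eq_true, decide_eq_true_eq, List.all_eq_true, List.contains_iff_mem] at h
  obtain ⟨⟨hn, h1⟩, hc⟩ := h
  rw [← lst_grid] at hn h1 hc
  have mem : ∀ w, lst w ∈ (grid a b n m).map lst → w ∈ grid a b n m := fun w hw => by
    obtain ⟨u, hu, e⟩ := List.mem_map.mp hw
    exact lst_injective e ▸ hu
  refine ⟨hn.of_map _, mem 1 ?_, fun v hv => ?_⟩
  · rw [← pow_zero a, lst_pow]
    exact h1
  · obtain ⟨c1, c2⟩ := hc (lst v) (List.mem_map.mpr ⟨v, hv, rfl⟩)
    exact ⟨mem _ (by rw [lst_mul]; exact c1), mem _ (by rw [lst_mul]; exact c2)⟩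

theorem grid_check : gridCheck (lst elR) (lst elS) 8 2 = true ∧ gridCheck (lst elA) (lst elB) 3 3 = true :=
  ⟨by decide +kernel, by decide +kernel⟩

theorem card_pair {x y : ↥Cfsg.Spor.M11} {n m : ℕ}
    (h : (grid (x : Equiv.Perm GolayPt) y n m).Nodup ∧ 1 ∈ grid (x : Equiv.Perm GolayPt) y n m ∧
      ∀ v ∈ grid (x : Equiv.Perm GolayPt) y n m, (x : Equiv.Perm GolayPt) * v ∈ grid (x : Equiv.Perm GolayPt) y n m ∧
        (y : Equiv.Perm GolayPt) * v ∈ grid (x : Equiv.Perm GolayPt) y n m) :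
    Nat.card (Subgroup.closure ({x, y} : Set ↥Cfsg.Spor.M11)) =
      (grid (x : Equiv.Perm GolayPt) y n m).length := by
  obtain ⟨hnd, h1, hcl⟩ := h
  rw [← Subgroup.card_map_of_injective (f := (Cfsg.Spor.M11).subtype) Subtype.val_injective,
    MonoidHom.map_closure, Set.image_pair]
  refine card_closure_of_list _ _ hnd (fun v hv => ?_) h1 fun g hg v hv => ?_
  · obtain ⟨i, -, hv⟩ := List.mem_flatMap.mp hv
    obtain ⟨j, -, rfl⟩ := List.mem_map.mp hv
    refine mul_mem (pow_mem ?_ i) (pow_mem ?_ j)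
    · exact Subgroup.subset_closure (Set.mem_insert _ _)
    · exact Subgroup.subset_closure (Set.mem_insert_of_mem _ rfl)
  · rcases hg with rfl | rfl
    · exact (hcl v hv).1
    · exact (hcl v hv).2

/-- The Schur multiplier of the Mathieu group of degree eleven is trivial. -/
theorem eleven_trivial : Cfsg.HasCyclicSchurMultiplier ↥Cfsg.Spor.M11 1 := by
  refine Cfsg.Agent.Solv.hasCyclicSchur_one_of fun Γ _ _ σ hσ k hk => ?_
  suffices σ.ker = ⊥ by rw [this] at hk; exact hk
  refine Cfsg.Agent.Solv.StemLocal.ker_eq_bot σ hσ fun p hp P x hx hx1 => ?_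
  haveI := Fact.mk hp
  obtain ⟨hsurj, hc, -⟩ := hσ
  obtain ⟨mR, mS, mA, mB, mH⟩ := el_mem
  obtain ⟨r8, r4, ss, sr, rs, a3, a1, ab, ha, hb, b3, ba, ba2, b1⟩ := el_facts
  obtain ⟨g1, g2⟩ := grid_check
  have hcard := Cfsg.Agent.Spor.MathieuOutEleven.card_M11
  have hidx : ∀ K : Subgroup ↥Cfsg.Spor.M11, K.index * Nat.card K = 7920 := fun K => by
    rw [K.index_mul_card, hcard]
  by_cases h2 : p = 2
  · subst h2
    have hK := card_pair (x := ⟨_, mR⟩) (y := ⟨_, mS⟩) (n := 8) (m := 2) (grid_of_check g1)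
    rw [show (grid (_ : Equiv.Perm GolayPt) _ 8 2).length = 16 by simp [grid]] at hK
    have hi := hidx (Subgroup.closure {⟨_, mR⟩, ⟨_, mS⟩})
    rw [hK] at hi
    obtain ⟨γ, hγ⟩ := Cfsg.Agent.Solv.StemLocal.image_conj σ hsurj hc P _
      (IsPGroup.of_card (n := 4) hK) (by omega)
    refine Cfsg.Agent.Solv.StemLocal.semidihedral σ hsurj hc ?_ (Subtype.ext ss) (Subtype.ext sr) P hγ x hx hx1
    rw [← Subgroup.orderOf_coe]
    exact orderOf_eq_prime_pow (p := 2) (n := 2) r4 r8
  have hcomm : ∀ u v : (P : Subgroup Γ), (u : Γ) * v = v * u := by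
    by_cases h3 : p = 3
    · subst h3
      have hK := card_pair (x := ⟨_, mA⟩) (y := ⟨_, mB⟩) (n := 3) (m := 3) (grid_of_check g2)
      rw [show (grid (_ : Equiv.Perm GolayPt) _ 3 3).length = 9 by simp [grid]] at hK
      have hi := hidx (Subgroup.closure {⟨_, mA⟩, ⟨_, mB⟩})
      rw [hK] at hi
      obtain ⟨γ, hγ⟩ := Cfsg.Agent.Solv.StemLocal.image_conj σ hsurj hc P _
        (IsPGroup.of_card (n := 2) hK) (by omega)
      intro u v
      have e := Cfsg.Agent.Solv.StemLocal.comm_rank_two σ hsurj hc (p := 3) (by norm_num)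
        (h := ⟨_, mH⟩) (Subtype.ext a3) (Subtype.ext ab) (Subtype.ext ha) (Subtype.ext hb) (hγ u u.2) (hγ v v.2)
      have e' := congrArg (fun w => γ⁻¹ * w * γ) e
      simpa [mul_assoc] using e'
    · intro u v
      obtain ⟨Q, hQ⟩ := (P.isPGroup'.map σ).exists_le_sylow
      have hcyc : IsCyclic (Subgroup.map σ (P : Subgroup Γ)) := by
        obtain ⟨n, hn⟩ := IsPGroup.iff_card.mp (P.isPGroup'.map σ)
        have hd : p ^ n ∣ 7920 := by rw [← hn, ← hcard]; exact Subgroup.card_subgroup_dvd_card _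
        rcases Nat.lt_or_ge n 2 with hn2 | hn2
        · interval_cases n
          · haveI := (Nat.card_eq_one_iff_unique.mp (by rw [hn, pow_zero])).1
            exact isCyclic_of_subsingleton
          · exact isCyclic_of_prime_card (p := p) (by rw [hn, pow_one])
        · exfalso
          have h2d : p ^ 2 ∣ 7920 := dvd_trans (pow_dvd_pow p hn2) hd
          have hp12 : p ∣ 12 := by
            have : p ^ 2 ∣ 12 ^ 2 * 55 := by norm_num; exact h2d
            by_contra hne
            have hcp : Nat.Coprime (p ^ 2) (12 ^ 2) :=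
              Nat.Coprime.pow 2 2 ((hp.coprime_iff_not_dvd).mpr hne)
            have h55 : p * p ∣ 55 := by rw [← pow_two]; exact hcp.dvd_of_dvd_mul_left this
            have hle : p ≤ 55 := Nat.le_of_dvd (by norm_num) (dvd_trans (dvd_mul_right p p) h55)
            interval_cases p <;> first
              | omega
              | norm_num at h55
          have hle : p ≤ 12 := Nat.le_of_dvd (by norm_num) hp12
          interval_cases p <;> first
            | omega
            | norm_num at hp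
            | norm_num at hp12
      have := Cfsg.Agent.Lie.StemSylow.comm_of_cyclic_image σ hc (P : Subgroup Γ) hcyc
      exact congrArg Subtype.val (this.is_comm.comm u v)
  have : commutator (P : Subgroup Γ) = ⊥ := by
    rw [commutator_eq_closure, Subgroup.closure_eq_bot_iff]
    rintro _ ⟨u, v, rfl⟩
    rw [Set.mem_singleton_iff, commutatorElement_eq_one_iff_mul_comm]
    exact Subtype.ext (hcomm u v)
  rw [this] at hx
  exact hx

end Cfsg.Agent.Spor.MathieuMult
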