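import Cfsg.Agent.Lib.Spor.MathieuSimple
import Cfsg.Agent.Lib.Spor.GolayElemFacts
import Cfsg.Prelude.Def_Spor_Mathieu
import Cfsg.Prelude.Def_KGroupFacts

/-!
# Automorphisms of M24 and M23 are inner

Subgroups of index 24, respectively 23, fix a point, by Sylow counting with the elements of order
23, 11 and 7; so an automorphism comes from a permutation of the points, which preserves the octads.
-/

set_option autoImplicit false
set_option maxRecDepth 100000

namespace Cfsg.Agent.Spor.MathieuOut

open Cfsg Cfsg.Agent.Spor MulAction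
open scoped Pointwise

/-- the cycle count of an element of prime order -/
theorem cycle_count {g : Equiv.Perm GolayPt} {r : ℕ} [Fact r.Prime] (h : orderOf g = r) :
    ∃ k, (fixSet g).card + r * (k + 1) = 24 ∧ g.support.card = r * (k + 1) := by
  obtain ⟨k, hk⟩ := Equiv.Perm.cycleType_prime_order (show (orderOf g).Prime from h ▸ Fact.out)
  have hs : g.support.card = r * (k + 1) := by
    rw [← Equiv.Perm.sum_cycleType, hk, Multiset.sum_replicate, smul_eq_mul, h, mul_comm]
  refine ⟨k, ?_, hs⟩
  have e : fixSet g = g.supportᶜ := by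
    ext p
    simp
  rw [e, Finset.card_compl, hs]
  have := hs ▸ g.support.card_le_univ
  rw [Fintype.card_option, ZMod.card] at this ⊢
  omega

theorem fix_lt_ten {g : Equiv.Perm GolayPt} (hg : g ∈ M24) (h1 : g ≠ 1) : (fixSet g).card < 10 := by
  by_contra h
  exact h1 (eq_one_of_fix_ten hg (not_lt.1 h) fun p hp => by simpa using hp)

theorem fix_card_23 {g : Equiv.Perm GolayPt} (h : orderOf g = 23) :
    (fixSet g).card = 1 := by
  haveI : Fact (Nat.Prime 23) := ⟨by norm_num⟩
  obtain ⟨k, hk, -⟩ := cycle_count h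
  omega

theorem fix_card_11 {g : Equiv.Perm GolayPt} (hg : g ∈ M24) (h : orderOf g = 11) :
    (fixSet g).card = 2 ∧ g.support.card = 22 := by
  haveI : Fact (Nat.Prime 11) := ⟨by norm_num⟩
  obtain ⟨k, hk, hs⟩ := cycle_count h
  have := fix_lt_ten hg (by rintro rfl; simp at h)
  obtain rfl : k = 1 := by omega
  omega

theorem fix_card_7 {g : Equiv.Perm GolayPt} (hg : g ∈ M24) (h : orderOf g = 7) :
    (fixSet g).card = 3 := by
  haveI : Fact (Nat.Prime 7) := ⟨by norm_num⟩
  obtain ⟨k, hk, -⟩ := cycle_count h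
  have := fix_lt_ten hg (by rintro rfl; simp at h)
  omega

/-- A set invariant under an element of prime order meets the moved points in a multiple of that prime. -/
theorem dvd_card_moved {g : Equiv.Perm GolayPt} {r : ℕ} [Fact r.Prime] (hg : g ^ r = 1) (O : Finset GolayPt)
    (hO : ∀ p ∈ O, g p ∈ O) : r ∣ (O.filter fun p => g p ≠ p).card := by
  classical
  let σ : Equiv.Perm {p // p ∈ O} := g.subtypePerm fun p => ⟨fun h => by
    obtain ⟨n, hn⟩ : ∃ n, g⁻¹ = g ^ n := ⟨r - 1, inv_eq_of_mul_eq_one_right (by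
      rw [← pow_succ', Nat.sub_add_cancel (Fact.out : r.Prime).one_le, hg])⟩
    have e : p = (g ^ n) (g p) := by rw [← hn]; simp
    rw [e]
    exact Nat.rec (motive := fun m => (g ^ m) (g p) ∈ O) (by simpa using h)
      (fun m ih => by rw [pow_succ', Equiv.Perm.mul_apply]; exact hO _ ih) n, hO p⟩
  have hσ : σ ^ r ^ 1 = 1 := by
    rw [pow_one]
    ext p
    simp [σ, Equiv.Perm.subtypePerm_pow, hg]
  have hmod := Equiv.Perm.card_compl_support_modEq hσ
  have h1 : σ.supportᶜ.card = (O.filter fun p => g p = p).card := by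
    rw [← Finset.card_map (Function.Embedding.subtype _)]
    congr 1
    ext p
    simp [σ, Subtype.ext_iff]
    exact and_comm
  rw [h1, Fintype.card_coe] at hmod
  have h2 := Finset.card_filter_add_card_filter_not (s := O) (fun p => g p = p)
  have h3 := (Nat.modEq_iff_dvd' (Finset.card_filter_le O _)).1 hmod
  simp only [ne_eq] at h2 ⊢
  rwa [show (O.filter fun p => ¬g p = p).card = O.card - (O.filter fun p => g p = p).card by omega]

/-- Only powers of an element of order eleven centralise it inside a point stabiliser. -/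
theorem centralizer_card (K : Subgroup M24) {p : GolayPt} (hK : K ≤ stabilizer M24 p) (P : Subgroup K) {x : K}
    (hxP : Subgroup.zpowers x = P) (ho : orderOf x = 11) (hdvd : ¬ 11 ^ 2 ∣ Nat.card K) :
    Nat.card (Subgroup.centralizer (P : Set K)) = 11 := by
  haveI : Fact (Nat.Prime 11) := ⟨by norm_num⟩
  set g : Equiv.Perm GolayPt := ((x : M24) : Equiv.Perm GolayPt) with hgdef
  have hg : g ∈ M24 := (x : M24).2
  have hog : orderOf g = 11 := by rw [hgdef, Subgroup.orderOf_coe, Subgroup.orderOf_coe, ho]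
  obtain ⟨hf, hsupp⟩ := fix_card_11 hg hog
  set C := Subgroup.centralizer (P : Set K)
  have hPC : x ∈ C := Subgroup.mem_centralizer_iff.2 fun y hy => by
    rw [SetLike.mem_coe, ← hxP] at hy
    obtain ⟨n, rfl⟩ := Subgroup.mem_zpowers_iff.1 hy
    exact (Commute.zpow_left (Commute.refl x) n).eq
  have h11 : 11 ∣ Nat.card C := ho ▸ Subgroup.orderOf_dvd_natCard C hPC
  have hall : ∀ r : ℕ, r.Prime → r ∣ Nat.card C → r = 11 := by
    intro r hr hrd
    by_contra hr11
    haveI := Fact.mk hr
    obtain ⟨c, hc⟩ := exists_prime_orderOf_dvd_card' (G := C) r hrd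
    set v : Equiv.Perm GolayPt := (((c : K) : M24) : Equiv.Perm GolayPt) with hvdef
    have hv : v ∈ M24 := ((c : K) : M24).2
    have hov : orderOf v = r := by
      rw [hvdef, Subgroup.orderOf_coe, Subgroup.orderOf_coe, Subgroup.orderOf_coe, hc]
    have hvp : v p = p := hK (c : K).2
    have hgp : g p = p := hK x.2
    have hcomm : Commute v g := by
      have h := Subgroup.mem_centralizer_iff.1 c.2 x
        (by rw [SetLike.mem_coe, ← hxP]; exact Subgroup.mem_zpowers x)
      have := congrArg (fun z : K => ((z : M24) : Equiv.Perm GolayPt)) h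
      exact this.symm
    have hv1 : v ≠ 1 := fun e => hr.ne_one (by rw [← hov, e, orderOf_one])
    have hlt := fix_lt_ten hv hv1
    have hg11 : g ^ 11 = 1 := hog ▸ pow_orderOf_eq_one g
    -- the points fixed by v form a g-invariant set
    have hmoved := dvd_card_moved hg11 (fixSet v) (fun q hq => by
      simp only [Finset.mem_filter, Finset.mem_univ, true_and] at hq ⊢
      rw [← Equiv.Perm.mul_apply, hcomm.eq, Equiv.Perm.mul_apply, hq])
    -- v permutes the two points fixed by g and fixes one of them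
    have hsub : fixSet g ⊆ fixSet v := by
      obtain ⟨a, b, hab, hfab⟩ := Finset.card_eq_two.1 hf
      have hmem : ∀ y, g y = y ↔ y = a ∨ y = b := fun y => by
        have := Finset.ext_iff.1 hfab y; simpa using this
      intro y hy
      simp only [Finset.mem_filter, Finset.mem_univ, true_and] at hy ⊢
      have hvy : g (v y) = v y := by
        rw [← Equiv.Perm.mul_apply, ← hcomm.eq, Equiv.Perm.mul_apply, hy]
      by_contra hne
      have hyp : y ≠ p := fun e => hne (by rw [e, hvp])
      have hvyp : v y ≠ p := fun e => hyp (v.injective (e.trans hvp.symm))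
      rcases (hmem y).1 hy with e | e <;> rcases (hmem p).1 hgp with e' | e' <;>
        rcases (hmem _).1 hvy with e'' | e'' <;>
        first
          | exact hne (e''.trans e.symm)
          | exact hyp (e.trans e'.symm)
          | exact hvyp (e''.trans e'.symm)
    have hfix2 : (fixSet v).card = 2 := by
      have h1 := Finset.card_filter_add_card_filter_not (s := fixSet v) (fun q => g q = q)
      have h2 : ((fixSet v).filter fun q => g q = q) = fixSet g := by
        ext q
        simp only [Finset.mem_filter, Finset.mem_univ, true_and]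
        exact ⟨fun h => h.2, fun h => ⟨(Finset.mem_filter.1 (hsub (by simpa using h))).2, h⟩⟩
      rw [h2, hf] at h1
      simp only [ne_eq] at hmoved
      obtain ⟨t, ht⟩ := hmoved
      omega
    obtain ⟨k, hk, -⟩ := cycle_count hov
    rw [hfix2] at hk
    have h22 : r ∣ 2 * 11 := ⟨k + 1, by omega⟩
    rcases hr.dvd_mul.1 h22 with h | h
    · obtain rfl := (Nat.prime_dvd_prime_iff_eq hr Nat.prime_two).1 h
      rcases invol_by_fix hv hov with ⟨e, -⟩ | ⟨e, -⟩ <;> omega
    · exact hr11 ((Nat.prime_dvd_prime_iff_eq hr (Fact.out)).1 h)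
  have hpow : ∃ n, Nat.card C = 11 ^ n :=
    ⟨_, Nat.eq_prime_pow_of_unique_prime_dvd Nat.card_pos.ne' fun {d} hd hdc => hall d hd hdc⟩
  obtain ⟨n, hn⟩ := hpow
  have hn2 : n < 2 := by
    by_contra h
    exact hdvd ((pow_dvd_pow 11 (not_lt.1 h)).trans (hn ▸ Subgroup.card_subgroup_dvd_card C))
  interval_cases n
  · rw [hn] at h11; norm_num at h11
  · rw [hn, pow_one]

/-- No subgroup of order 425040 fixes a point. -/
theorem no_425040 (K : Subgroup M24) {p : GolayPt} (hK : K ≤ stabilizer M24 p) (hc : Nat.card K = 425040) :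
    False := by
  haveI : Fact (Nat.Prime 11) := ⟨by norm_num⟩
  obtain ⟨P⟩ : Nonempty (Sylow 11 K) := inferInstance
  have hP : Nat.card P = 11 ^ 1 := by
    rw [P.card_eq_multiplicity, hc]
    congr 1
    rw [show 425040 = 11 * 38640 by norm_num, Nat.factorization_mul (by norm_num) (by norm_num)]
    simp [Nat.factorization_eq_zero_of_not_dvd (show ¬ 11 ∣ 38640 by norm_num),
      (Fact.out : Nat.Prime 11).factorization_self]
  set N := Subgroup.normalizer ((P : Subgroup K) : Set K)
  obtain ⟨x, hx⟩ := exists_prime_orderOf_dvd_card' (G := (P : Subgroup K)) 11 (by rw [hP]; norm_num)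
  have hxp : Subgroup.zpowers (x : K) = (P : Subgroup K) := Subgroup.eq_of_le_of_card_ge
    (Subgroup.zpowers_le.2 x.2) (by rw [Nat.card_zpowers, Subgroup.orderOf_coe, hx, hP]; norm_num)
  have hCP : Nat.card (Subgroup.centralizer ((P : Subgroup K) : Set K)) = 11 :=
    centralizer_card K hK P hxp (by rw [Subgroup.orderOf_coe, hx]) (by rw [hc]; norm_num)
  have hmul := N.card_mul_index
  rw [hc, show N.index = Nat.card (Sylow 11 K) from (Sylow.card_eq_index_normalizer P).symm] at hmul
  have hmod : Nat.card (Sylow 11 K) % 11 = 1 := by rw [card_sylow_modEq_one 11 K]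
  have h11 : 11 ∣ Nat.card N :=
    dvd_trans (by rw [hP]; norm_num) (Subgroup.card_dvd_of_le (Subgroup.le_normalizer (H := (P : Subgroup K))))
  -- the normaliser order divides 11 * 10
  have hle : Nat.card N ∣ 110 := by
    haveI : IsCyclic (P : Subgroup K) := isCyclic_of_prime_card (hP.trans (pow_one 11))
    have hker := Subgroup.normalizerMonoidHom_ker (H := (P : Subgroup K))
    have hcm := ((P : Subgroup K).normalizerMonoidHom.ker).card_mul_index
    rw [Subgroup.index_ker, hker, Nat.card_congr (Subgroup.subgroupOfEquivOfLe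
      (Subgroup.centralizer_le_normalizer ((P : Subgroup K) : Set K))).toEquiv, hCP] at hcm
    rw [← hcm, show 110 = 11 * 10 by norm_num]
    refine Nat.mul_dvd_mul_left 11 ((Subgroup.card_subgroup_dvd_card _).trans ?_)
    rw [IsCyclic.card_mulAut, hP, pow_one, Nat.totient_prime (by norm_num)]
  have key : ∀ n ∈ Nat.divisors 110, 11 ∣ n → 425040 / n % 11 ≠ 1 := by decide +kernel
  refine key _ (Nat.mem_divisors.2 ⟨hle, by norm_num⟩) h11 ?_
  rwa [← hmul, Nat.mul_div_cancel_left _ Nat.card_pos]

/-- the orbit of a point under a subgroup, as a finite set -/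
noncomputable def orbitSet (H : Subgroup M24) (p : GolayPt) : Finset GolayPt :=
  (Set.toFinite (orbit H p)).toFinset

theorem orbitSet_inv (H : Subgroup M24) (p : GolayPt) {h : M24} (hh : h ∈ H) :
    ∀ q ∈ orbitSet H p, (h : Equiv.Perm GolayPt) q ∈ orbitSet H p := by
  intro q hq
  rw [orbitSet, Set.Finite.mem_toFinset] at hq ⊢
  obtain ⟨k, rfl⟩ := hq
  exact ⟨⟨h, hh⟩ * k, mul_smul (⟨h, hh⟩ : H) k p⟩

theorem orbitSet_card (H : Subgroup M24) (p : GolayPt) :
    (orbitSet H p).card = (stabilizer H p).index := by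
  rw [index_stabilizer, orbitSet, Set.ncard_eq_toFinset_card]

theorem le_stab_of_orbit_one {H : Subgroup M24} {p : GolayPt} (h : (orbitSet H p).card = 1) :
    H ≤ stabilizer M24 p := by
  obtain ⟨a, ha⟩ := Finset.card_eq_one.1 h
  have hp : p ∈ orbitSet H p := by simp [orbitSet]
  intro g hg
  have hgp := orbitSet_inv H p hg p hp
  rw [ha, Finset.mem_singleton] at hp hgp
  exact hgp.trans hp.symm

/-- A subgroup of index 24 fixes a point. -/
theorem eq_stab_of_card {H : Subgroup M24} (hH : Nat.card H = 10200960) : ∃ p : GolayPt, H = stabilizer M24 p := by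
  haveI : Fact (Nat.Prime 23) := ⟨by norm_num⟩
  obtain ⟨x, hx⟩ := exists_prime_orderOf_dvd_card' (G := H) 23 (by rw [hH]; norm_num)
  set g : Equiv.Perm GolayPt := ((x : M24) : Equiv.Perm GolayPt) with hgdef
  have ho : orderOf g = 23 := by rw [hgdef, Subgroup.orderOf_coe, Subgroup.orderOf_coe, hx]
  obtain ⟨p, hp⟩ := Finset.card_eq_one.1 (fix_card_23 ho)
  have hmoved := dvd_card_moved (r := 23) (ho ▸ pow_orderOf_eq_one g) (orbitSet H p)
    (orbitSet_inv H p x.2)
  have hpO : p ∈ orbitSet H p := by simp [orbitSet]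
  have hfilter : ((orbitSet H p).filter fun q => g q ≠ q) = (orbitSet H p).erase p := by
    ext q
    have := Finset.ext_iff.1 hp q
    simp only [Finset.mem_filter, Finset.mem_univ, true_and, Finset.mem_singleton] at this
    simp only [Finset.mem_filter, Finset.mem_erase, ne_eq, this, and_comm]
  rw [hfilter, Finset.card_erase_of_mem hpO] at hmoved
  have hle : (orbitSet H p).card ≤ 24 := by
    refine (Finset.card_le_univ _).trans (le_of_eq ?_)
    rw [Fintype.card_option, ZMod.card]
  have hpos : 0 < (orbitSet H p).card := Finset.card_pos.2 ⟨p, hpO⟩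
  refine ⟨p, Subgroup.eq_of_le_of_card_ge (le_stab_of_orbit_one ?_) (by rw [card_stabilizer_point, hH])⟩
  by_contra hne
  have h24 : (orbitSet H p).card = 24 := by obtain ⟨t, ht⟩ := hmoved; omega
  refine no_425040 ((stabilizer H p).map H.subtype) (p := p) ?_ ?_
  · rintro _ ⟨k, hk, rfl⟩
    exact hk
  · have := (stabilizer H p).card_mul_index
    rw [← orbitSet_card, h24, hH] at this
    rw [Subgroup.card_map_of_injective H.subtype_injective]
    omega

/-- A subgroup of index 23 in a point stabiliser fixes a second point. -/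
theorem eq_stab_two_of_card {H : Subgroup M24} (hn : H ≤ stabilizer M24 (none : GolayPt))
    (hH : Nat.card H = 443520) :
    ∃ q : GolayPt, q ≠ none ∧ H = stabilizer M24 (none : GolayPt) ⊓ stabilizer M24 q := by
  haveI : Fact (Nat.Prime 11) := ⟨by norm_num⟩
  haveI : Fact (Nat.Prime 7) := ⟨by norm_num⟩
  obtain ⟨x, hx⟩ := exists_prime_orderOf_dvd_card' (G := H) 11 (by rw [hH]; norm_num)
  set g : Equiv.Perm GolayPt := ((x : M24) : Equiv.Perm GolayPt) with hgdef
  have ho : orderOf g = 11 := by rw [hgdef, Subgroup.orderOf_coe, Subgroup.orderOf_coe, hx]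
  have hgn : g none = none := hn x.2
  obtain ⟨q, hq, hqn⟩ := Finset.exists_mem_ne (s := fixSet g)
    (by rw [(fix_card_11 (x : M24).2 ho).1]; norm_num) none
  simp only [Finset.mem_filter, Finset.mem_univ, true_and] at hq
  have hqO : q ∈ orbitSet H q := by simp [orbitSet]
  have hnO : (none : GolayPt) ∉ orbitSet H q := by
    rw [orbitSet, Set.Finite.mem_toFinset]
    rintro ⟨k, hk⟩
    exact hqn (((k : M24) : Equiv.Perm GolayPt).injective (hk.trans (hn k.2).symm))
  have hle : (orbitSet H q).card ≤ 23 := by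
    refine Nat.le_of_lt_succ (lt_of_lt_of_le (Finset.card_lt_univ_of_notMem hnO) (le_of_eq ?_))
    rw [Fintype.card_option, ZMod.card]
  have hmoved := dvd_card_moved (r := 11) (ho ▸ pow_orderOf_eq_one g) (orbitSet H q)
    (orbitSet_inv H q x.2)
  have hfilter : ((orbitSet H q).filter fun a => g a ≠ a) = (orbitSet H q).erase q := by
    obtain ⟨a, b, hab, hfab⟩ := Finset.card_eq_two.1 (fix_card_11 (x : M24).2 ho).1
    have hmem : ∀ y, g y = y ↔ y = a ∨ y = b := fun y => by
      have := Finset.ext_iff.1 hfab y; simpa using this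
    ext y
    simp only [Finset.mem_filter, Finset.mem_erase, ne_eq]
    constructor
    · exact fun h => ⟨fun e => h.2 (e ▸ hq), h.1⟩
    · rintro ⟨hyq, hy⟩
      refine ⟨hy, fun hfy => ?_⟩
      have hyn : y ≠ none := fun e => hnO (e ▸ hy)
      rcases (hmem y).1 hfy with e | e <;> rcases (hmem q).1 hq with e' | e' <;>
        rcases (hmem none).1 hgn with e'' | e'' <;>
        first
          | exact hyq (e.trans e'.symm)
          | exact hyn (e.trans e''.symm)
          | exact hqn (e'.trans e''.symm)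
  rw [hfilter, Finset.card_erase_of_mem hqO] at hmoved
  have hpos : 0 < (orbitSet H q).card := Finset.card_pos.2 ⟨q, hqO⟩
  refine ⟨q, hqn, Subgroup.eq_of_le_of_card_ge (le_inf hn (le_stab_of_orbit_one ?_))
    (by rw [card_stabilizer_two (Ne.symm hqn), hH])⟩
  by_contra hne
  have hdvd : (orbitSet H q).card ∣ 443520 := by
    rw [orbitSet_card, ← hH]; exact Subgroup.index_dvd_card _
  have h12 : (orbitSet H q).card = 12 := by
    obtain ⟨t, ht⟩ := hmoved
    have : (orbitSet H q).card ≠ 23 := fun e => by rw [e] at hdvd; norm_num at hdvd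
    omega
  -- an element of order seven moves too many points
  obtain ⟨z, hz⟩ := exists_prime_orderOf_dvd_card' (G := H) 7 (by rw [hH]; norm_num)
  set f : Equiv.Perm GolayPt := ((z : M24) : Equiv.Perm GolayPt) with hfdef
  have hfo : orderOf f = 7 := by rw [hfdef, Subgroup.orderOf_coe, Subgroup.orderOf_coe, hz]
  have h7 : f ^ 7 = 1 := hfo ▸ pow_orderOf_eq_one f
  have hfn : f none = none := hn z.2
  set R : Finset GolayPt := (Finset.univ.erase none) \ orbitSet H q with hR
  have hRinv : ∀ a ∈ R, f a ∈ R := by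
    intro a ha
    simp only [hR, Finset.mem_sdiff, Finset.mem_erase, Finset.mem_univ, and_true] at ha ⊢
    refine ⟨fun e => ha.1 (f.injective (e.trans hfn.symm)), fun hfa => ha.2 ?_⟩
    have := orbitSet_inv H q (inv_mem z.2) _ hfa
    rwa [show ((((z : M24)⁻¹ : M24)) : Equiv.Perm GolayPt) (f a) = a from f.symm_apply_apply a] at this
  have hRc : R.card = 11 := by
    rw [hR, Finset.card_sdiff_of_subset (fun a (ha : a ∈ orbitSet H q) => Finset.mem_erase.2 ⟨fun e : a = none => hnO (e ▸ ha), Finset.mem_univ a⟩),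
      Finset.card_erase_of_mem (Finset.mem_univ _), h12, Finset.card_univ, Fintype.card_option, ZMod.card]
  have m1 := dvd_card_moved (r := 7) h7 (orbitSet H q) (orbitSet_inv H q z.2)
  have m2 := dvd_card_moved (r := 7) h7 R hRinv
  have hcover : f.support ⊆ ((orbitSet H q).filter fun a => f a ≠ a) ∪ (R.filter fun a => f a ≠ a) := by
    intro a ha
    rw [Equiv.Perm.mem_support] at ha
    rw [Finset.mem_union, Finset.mem_filter, Finset.mem_filter]
    by_cases hO : a ∈ orbitSet H q
    · exact Or.inl ⟨hO, ha⟩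
    · exact Or.inr ⟨Finset.mem_sdiff.2 ⟨Finset.mem_erase.2 ⟨fun e => ha (e ▸ hfn), Finset.mem_univ a⟩, hO⟩, ha⟩
  have hcard := (Finset.card_le_card hcover).trans (Finset.card_union_le _ _)
  obtain ⟨k, hk, hs⟩ := cycle_count hfo
  rw [fix_card_7 (z : M24).2 hfo] at hk
  rw [hs] at hcard
  have l1 := Finset.card_filter_le (orbitSet H q) (fun a => f a ≠ a)
  have l2 := Finset.card_filter_le R (fun a => f a ≠ a)
  obtain ⟨t1, ht1⟩ := m1
  obtain ⟨t2, ht2⟩ := m2
  omega

/-- An automorphism permutes the points of a transitive action whose stabilisers are the subgroups of that index. -/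
theorem perm_of_aut {G X : Type*} [Group G] [Finite G] [MulAction G X] [Finite X] [IsPretransitive G X]
    (hchar : ∀ H : Subgroup G, H.index = Nat.card X → ∃ x : X, H = stabilizer G x)
    (hinj : ∀ x y : X, stabilizer G x = stabilizer G y → x = y) (α : MulAut G) :
    ∃ σ : Equiv.Perm X, ∀ (g : G) (x : X), σ (g • x) = α g • σ x := by
  have h : ∀ x : X, ∃ y : X, (stabilizer G x).map (α : G ≃* G).toMonoidHom = stabilizer G y := fun x => by
    refine hchar _ ?_
    rw [Subgroup.index_map_of_bijective (f := (α : G ≃* G).toMonoidHom) (α : G ≃* G).bijective,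
      index_stabilizer_of_transitive]
  choose σ hσ using h
  have hb : Function.Bijective σ := Finite.injective_iff_bijective.1 fun a b e => by
    refine hinj a b (Subgroup.map_injective (f := (α : G ≃* G).toMonoidHom) (α : G ≃* G).injective ?_)
    rw [hσ, hσ, e]
  refine ⟨Equiv.ofBijective σ hb, fun g x => hinj _ _ ?_⟩
  show stabilizer G (σ (g • x)) = stabilizer G (α g • σ x)
  rw [← hσ (g • x)]
  ext k
  rw [Subgroup.mem_map_equiv, mem_stabilizer_iff, mem_stabilizer_iff]
  have e : α.symm k • g • x = g • x ↔ (g⁻¹ * α.symm k * g) • x = x := by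
    rw [mul_smul, mul_smul, inv_smul_eq_iff]
  have e2 : k • α g • σ x = α g • σ x ↔ ((α g)⁻¹ * k * α g) • σ x = σ x := by
    rw [mul_smul, mul_smul, inv_smul_eq_iff]
  rw [e, e2, ← mem_stabilizer_iff, ← mem_stabilizer_iff, ← hσ x, Subgroup.mem_map_equiv]
  rw [show α.symm ((α g)⁻¹ * k * α g) = g⁻¹ * α.symm k * g by simp]

/-- twelve octads through the extra point; they span the code -/
def noneOctads : List ℕ :=
  [8414120, 8439632, 8464984, 9045270, 9701932, 9835530, 10881097, 11055264, 11282452, 12717187, 13721920, 14682450]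

/-- A permutation mapping octads through the extra point to octads lies in `M24`. -/
theorem mem_M24_of_octads {σ : Equiv.Perm GolayPt}
    (h : ∀ o ∈ octads, (none : GolayPt) ∈ o → σ • o ∈ octads) : σ ∈ M24 := by
  rw [mem_M24]
  have key : ∀ m ∈ xorSpan noneOctads, m < 2 ^ 24 ∧ mask (σ • ofMask m) ∈ codeMasks := by
    apply xorSpan_induction
    · refine ⟨by norm_num, ?_⟩
      rw [show ofMask 0 = ∅ from by decide +kernel, Finset.smul_finset_empty]
      exact xorSpan_zero _
    · rintro a b ⟨ha, ha'⟩ ⟨hb, hb'⟩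
      refine ⟨Nat.xor_lt_two_pow ha hb, ?_⟩
      have : ofMask (a ^^^ b) = symmDiff (ofMask a) (ofMask b) := by
        apply mask_injective
        rw [mask_symmDiff, mask_ofMask ha, mask_ofMask hb, mask_ofMask (Nat.xor_lt_two_pow ha hb)]
      rw [this, smul_symmDiff', mask_symmDiff]
      exact codeMasks_xor ha' hb'
    · intro g hg
      have hlt : g < 2 ^ 24 := by revert g hg; decide +kernel
      refine ⟨hlt, ?_⟩
      have ho : ofMask g ∈ octads := by
        rw [mem_octads, mask_ofMask hlt]
        revert g hg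
        decide +kernel
      have hnone : (none : GolayPt) ∈ ofMask g := by
        rw [mem_ofMask]
        clear hlt ho
        revert g hg
        decide +kernel
      exact mem_supports.1 (h _ ho hnone).1
  intro g hg
  refine (key g ?_).2
  revert g hg
  decide +kernel

/-- every octad is the fixed point set of an involution -/
theorem exists_invol {o : Finset GolayPt} (ho : o ∈ octads) :
    ∃ u ∈ M24, orderOf u = 2 ∧ fixSet u = o := by
  obtain ⟨k, hk, e⟩ := octad_trans card_fix_invol.2.2 ho
  have hu : lperm involFixed ∈ M24 := lperm_mem invol_ok.2.2.1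
  have h2 : orderOf (lperm involFixed) = 2 := by
    refine orderOf_eq_prime (by rw [pow_two]; decide +kernel) fun h => ?_
    have := card_fix_invol.2.1
    rw [h, show fixSet (1 : Equiv.Perm GolayPt) = Finset.univ from Finset.filter_true_of_mem fun _ _ => rfl,
      Finset.card_univ, Fintype.card_option, ZMod.card] at this
    omega
  refine ⟨k * lperm involFixed * k⁻¹, mul_mem (mul_mem hk hu) (inv_mem hk), ?_, by rw [fixSet_conj, e]⟩
  rw [← MulAut.conj_apply, MulEquiv.orderOf_eq, h2]

/-- A permutation inducing an automorphism of a subgroup of `M24` holding the needed involutions is in `M24`. -/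
theorem mem_M24_of_conj {G : Subgroup (Equiv.Perm GolayPt)} (hG : G ≤ M24)
    (hinv : ∀ u ∈ M24, u none = none → u ∈ G) {σ : Equiv.Perm GolayPt}
    (hσ : ∀ g ∈ G, σ * g * σ⁻¹ ∈ G) : σ ∈ M24 := by
  refine mem_M24_of_octads fun o ho hno => ?_
  obtain ⟨u, hu, hu2, rfl⟩ := exists_invol ho
  have hv := hG (hσ u (hinv u hu (by simpa using hno)))
  have hv2 : orderOf (σ * u * σ⁻¹) = 2 := by rw [← MulAut.conj_apply, MulEquiv.orderOf_eq, hu2]
  rw [← fixSet_conj]
  rcases invol_by_fix hv hv2 with ⟨h, -⟩ | ⟨-, h, -⟩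
  · rw [card_fixSet_conj, ho.2] at h
    omega
  · exact h

theorem aut_M24_inner (α : MulAut M24) : ∃ g : M24, MulAut.conj g = α := by
  haveI := M24_isMultiplyPretransitive (k := 1) (by norm_num)
  haveI : IsPretransitive M24 GolayPt :=
    ⟨fun a b => by
      obtain ⟨σ, hσ, h⟩ := M24_trans (k := 1) (by norm_num)
        ⟨fun _ => a, fun i j _ => Subsingleton.elim i j⟩ ⟨fun _ => b, fun i j _ => Subsingleton.elim i j⟩
      exact ⟨⟨σ, hσ⟩, h 0⟩⟩
  obtain ⟨σ, hσ⟩ := perm_of_aut (G := M24) (X := GolayPt) (fun H hH => eq_stab_of_card (by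
      have := H.card_mul_index
      rw [hH, card_M24, show Nat.card GolayPt = 24 by rw [Nat.card_eq_fintype_card]; rfl] at this
      omega)) (fun x y e => by
      by_contra hne
      have h1 := card_stabilizer_two hne
      rw [e, inf_idem, card_stabilizer_point] at h1
      omega) α
  have hconj : ∀ g : M24, σ * (g : Equiv.Perm GolayPt) * σ⁻¹ = (α g : Equiv.Perm GolayPt) := fun g => by
    ext1 y
    obtain ⟨x, rfl⟩ := σ.surjective y
    rw [Equiv.Perm.mul_apply, Equiv.Perm.mul_apply, show σ⁻¹ (σ x) = x from σ.symm_apply_apply x]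
    exact hσ g x
  have hm : σ ∈ M24 := mem_M24_of_conj le_rfl (fun u hu _ => hu) fun g hg =>
    (hconj ⟨g, hg⟩).symm ▸ (α ⟨g, hg⟩).2
  exact ⟨⟨σ, hm⟩, MulEquiv.ext fun g => Subtype.ext (hconj g)⟩

/-- the points other than the extra one -/
@[implicit_reducible]
def actM23 : MulAction Cfsg.Spor.M23 {p : GolayPt // p ≠ none} where
  smul g x := ⟨(g : Equiv.Perm GolayPt) x.1, fun h => x.2 ((g : Equiv.Perm GolayPt).injective (h.trans g.2.2.symm))⟩
  one_smul _ := rfl
  mul_smul _ _ _ := rfl

theorem aut_M23_inner (α : MulAut Cfsg.Spor.M23) : ∃ g : Cfsg.Spor.M23, MulAut.conj g = α := by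
  letI := actM23
  haveI : IsPretransitive Cfsg.Spor.M23 {p : GolayPt // p ≠ none} := ⟨fun a b => by
    obtain ⟨σ, hσ, h⟩ := M24_trans (k := 2) (by norm_num)
      ⟨![none, a.1], by intro i j h; fin_cases i <;> fin_cases j <;> simp_all [Ne.symm a.2, a.2]⟩
      ⟨![none, b.1], by intro i j h; fin_cases i <;> fin_cases j <;> simp_all [Ne.symm b.2, b.2]⟩
    exact ⟨⟨σ, hσ, h 0⟩, Subtype.ext (h 1)⟩⟩
  let e : Cfsg.Spor.M23 →* M24 := Subgroup.inclusion inf_le_left
  have he : Function.Injective e := Subgroup.inclusion_injective _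
  have hrange : e.range = stabilizer M24 (none : GolayPt) := by
    ext g
    exact ⟨fun ⟨k, hk⟩ => hk ▸ k.2.2, fun h => ⟨⟨g.1, g.2, h⟩, rfl⟩⟩
  have hstab : ∀ x : {p : GolayPt // p ≠ none}, (stabilizer Cfsg.Spor.M23 x).map e =
      stabilizer M24 (none : GolayPt) ⊓ stabilizer M24 x.1 := fun x => by
    ext g
    exact ⟨fun ⟨k, hk, hkg⟩ => hkg ▸ ⟨k.2.2, congrArg Subtype.val hk⟩,
      fun h => ⟨⟨g.1, g.2, h.1⟩, Subtype.ext h.2, rfl⟩⟩
  have hcard : Nat.card Cfsg.Spor.M23 = 10200960 := by
    rw [← card_stabilizer_point none, ← hrange]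
    exact Nat.card_congr (MonoidHom.ofInjective he).toEquiv
  obtain ⟨σ, hσ⟩ := perm_of_aut (G := Cfsg.Spor.M23) (X := {p : GolayPt // p ≠ none}) (fun H hH => by
      have hX : Nat.card {p : GolayPt // p ≠ none} = 23 := by
        rw [Nat.card_eq_fintype_card, Fintype.card_subtype_compl, Fintype.card_subtype_eq,
          Fintype.card_option, ZMod.card]
      have h1 := H.card_mul_index
      rw [hH, hX, hcard] at h1
      obtain ⟨q, hq, h2⟩ := eq_stab_two_of_card (H := H.map e)
        (hrange ▸ Subgroup.map_le_range e H) (by rw [Subgroup.card_map_of_injective he]; omega)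
      exact ⟨⟨q, hq⟩, Subgroup.map_injective he (h2.trans (hstab ⟨q, hq⟩).symm)⟩)
    (fun x y exy => by
      have h2 := hstab x
      rw [exy, hstab y] at h2
      by_contra hne
      -- some element fixes two of the points and moves the third
      have hxy : x.1 ≠ y.1 := fun e => hne (Subtype.ext e)
      obtain ⟨z, hz⟩ : (({none, x.1, y.1} : Finset GolayPt)ᶜ).Nonempty := by
        rw [← Finset.card_pos, Finset.card_compl]
        have := Finset.card_le_three (a := (none : GolayPt)) (b := x.1) (c := y.1)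
        rw [Fintype.card_option, ZMod.card]
        omega
      simp only [Finset.mem_compl, Finset.mem_insert, Finset.mem_singleton, not_or] at hz
      obtain ⟨k, hk, hm⟩ := M24_trans (k := 3) (by norm_num)
        ⟨![none, x.1, y.1], by
          intro i j h
          fin_cases i <;> fin_cases j <;> simp_all [Ne.symm x.2, x.2, Ne.symm y.2, y.2, Ne.symm hxy]⟩
        ⟨![none, x.1, z], by
          intro i j h
          fin_cases i <;> fin_cases j <;>
            simp_all [Ne.symm x.2, x.2, Ne.symm hz.1, hz.1, Ne.symm hz.2.1, hz.2.1]⟩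
      have hmem : (⟨k, hk⟩ : M24) ∈ stabilizer M24 (none : GolayPt) ⊓ stabilizer M24 y.1 :=
        h2 ▸ ⟨hm 0, hm 1⟩
      exact hz.2.2 ((hm 2).symm.trans hmem.2)) α
  -- extend to the extra point
  let τ : Equiv.Perm GolayPt := Equiv.Perm.ofSubtype σ
  have hτ : ∀ x : {p : GolayPt // p ≠ none}, τ x.1 = (σ x).1 := Equiv.Perm.ofSubtype_apply_coe σ
  have hτn : τ none = none := Equiv.Perm.ofSubtype_apply_of_not_mem σ (by simp)
  have hconj : ∀ g : Cfsg.Spor.M23, τ * (g : Equiv.Perm GolayPt) * τ⁻¹ = (α g : Equiv.Perm GolayPt) := fun g => by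
    ext1 y
    obtain ⟨x, rfl⟩ := τ.surjective y
    rw [Equiv.Perm.mul_apply, Equiv.Perm.mul_apply, show τ⁻¹ (τ x) = x from τ.symm_apply_apply x]
    by_cases hx : x = none
    · subst hx
      rw [show (g : Equiv.Perm GolayPt) none = none from g.2.2, hτn]
      exact (α g).2.2.symm
    · rw [hτ ⟨x, hx⟩]
      exact (hτ (g • ⟨x, hx⟩)).trans (congrArg Subtype.val (hσ g ⟨x, hx⟩))
  have hm : τ ∈ M24 := mem_M24_of_conj (G := Cfsg.Spor.M23) inf_le_left (fun u hu h => ⟨hu, h⟩) fun g hg =>
    (hconj ⟨g, hg⟩).symm ▸ (α ⟨g, hg⟩).2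
  exact ⟨⟨τ, hm, hτn⟩, MulEquiv.ext fun g => Subtype.ext (hconj g)⟩

theorem card_out_of_inner {G : Type*} [Group G] (h : ∀ α : MulAut G, ∃ g : G, MulAut.conj g = α) :
    Nat.card (Cfsg.Out G) = 1 := by
  have : Cfsg.Inn G = ⊤ := eq_top_iff.2 fun α _ => h α
  show (Cfsg.Inn G).index = 1
  rw [this, Subgroup.index_top]

end Cfsg.Agent.Spor.MathieuOut
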