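import Cfsg.Agent.Lib.Spor.MathieuOut
import Cfsg.Agent.Lib.Spor.GolayTriosOctad

/-!
Invariant point sets of subgroups of the group of the length-24 code: divisibility from transitivity
on small sets, and the octad fixed by a subgroup containing a Sylow two subgroup.
-/

set_option autoImplicit false
set_option maxRecDepth 100000

namespace Cfsg.Agent.Spor.MathieuIdx

open Cfsg Cfsg.Agent.Spor Cfsg.Agent.Spor.MathieuOut MulAction
open scoped Pointwise

/-- Counting pairs of a set of size `t` inside an image of `B`. -/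
theorem choose_dvd {G α : Type*} [Group G] [Finite G] [MulAction G α] [DecidableEq α]
    (Ω B : Finset α) (hB : B ⊆ Ω) (t : ℕ) (hΩ : ∀ g : G, g • Ω = Ω)
    (htr : ∀ T T' : Finset α, T ⊆ Ω → T' ⊆ Ω → T.card = t → T'.card = t → ∃ g : G, g • T = T')
    (H : Subgroup G) (hH : ∀ h ∈ H, h • B = B) :
    Ω.card.choose t ∣ H.index * B.card.choose t := by
  classical
  have horb : (orbit G B).ncard ∣ H.index := by
    rw [← index_stabilizer]
    exact Subgroup.index_dvd_of_le fun h hh => mem_stabilizer_iff.2 (hH h hh)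
  refine dvd_trans ?_ (Nat.mul_dvd_mul_right horb _)
  have hfin : (orbit G B).Finite := Set.finite_range _
  set Ob := hfin.toFinset with hOb
  have hmem : ∀ {s : Finset α}, s ∈ Ob ↔ s ∈ orbit G B := fun {s} => hfin.mem_toFinset
  rw [Set.ncard_eq_toFinset_card _ hfin, ← hOb]
  have hsub : ∀ s ∈ Ob, s ⊆ Ω ∧ s.card = B.card := by
    intro s hs
    obtain ⟨g, rfl⟩ := hmem.1 hs
    exact ⟨hΩ g ▸ Finset.smul_finset_subset_smul_finset hB, Finset.card_smul_finset _ _⟩
  have hinv : ∀ (g : G) (s : Finset α), s ∈ Ob → g • s ∈ Ob := by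
    intro g s hs
    obtain ⟨k, rfl⟩ := hmem.1 hs
    exact hmem.2 ⟨g * k, mul_smul g k B⟩
  rcases (Ω.powersetCard t).eq_empty_or_nonempty with h0 | ⟨T₀, hT₀⟩
  · have hlt : Ω.card < t := by
      by_contra h
      exact Finset.powersetCard_nonempty.2 (not_lt.1 h) |>.ne_empty h0
    rw [Nat.choose_eq_zero_of_lt hlt,
      Nat.choose_eq_zero_of_lt (lt_of_le_of_lt (Finset.card_le_card hB) hlt), mul_zero]
  set c := (Ob.filter fun s => T₀ ⊆ s).card with hc
  have hconst : ∀ T ∈ Ω.powersetCard t, (Ob.filter fun s => T ⊆ s).card = c := by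
    intro T hT
    rw [Finset.mem_powersetCard] at hT hT₀
    obtain ⟨g, hg⟩ := htr T₀ T hT₀.1 hT.1 hT₀.2 hT.2
    refine (Finset.card_bij (fun s _ => g • s) ?_ ?_ ?_).symm
    · intro s hs
      rw [Finset.mem_filter] at hs ⊢
      exact ⟨hinv g s hs.1, hg ▸ Finset.smul_finset_subset_smul_finset hs.2⟩
    · intro a _ b _ h
      exact (MulAction.injective g) h
    · intro s hs
      rw [Finset.mem_filter] at hs
      refine ⟨g⁻¹ • s, Finset.mem_filter.2 ⟨hinv _ s hs.1, ?_⟩, smul_inv_smul g s⟩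
      have h := Finset.smul_finset_subset_smul_finset (a := g⁻¹) hs.2
      rwa [← hg, inv_smul_smul] at h
  refine ⟨c, ?_⟩
  have h2 := Finset.sum_card_bipartiteAbove_eq_sum_card_bipartiteBelow
    (s := Ω.powersetCard t) (t := Ob) (fun T s => T ⊆ s)
  simp only [Finset.bipartiteAbove] at h2
  rw [Finset.sum_congr rfl hconst, Finset.sum_const, smul_eq_mul, Finset.card_powersetCard] at h2
  rw [h2, Finset.sum_congr rfl (g := fun _ => B.card.choose t) ?_, Finset.sum_const, smul_eq_mul]
  intro s hs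
  rw [← (hsub s hs).2, ← Finset.card_powersetCard t s]
  congr 1
  ext T
  simp only [Finset.bipartiteBelow, Finset.mem_filter, Finset.mem_powersetCard]
  exact ⟨fun h => ⟨h.2, h.1.2⟩, fun h => ⟨⟨h.1.trans (hsub s hs).1, h.2⟩, h.1⟩⟩

/-! ### the action of M24 -/

/-- the elements of M24 fixing a set pointwise -/
def fixA (A : Finset GolayPt) : Subgroup M24 where
  carrier := {g | ∀ p ∈ A, (g : Equiv.Perm GolayPt) p = p}
  one_mem' := fun _ _ => rfl
  mul_mem' := fun {a b} ha hb p hp => by
    show (a : Equiv.Perm GolayPt) ((b : Equiv.Perm GolayPt) p) = p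
    rw [hb p hp, ha p hp]
  inv_mem' := fun {a} ha p hp => by
    show ((a : Equiv.Perm GolayPt)⁻¹) p = p
    rw [Equiv.Perm.inv_eq_iff_eq]
    exact (ha p hp).symm

theorem mem_fixA {A : Finset GolayPt} {g : M24} :
    g ∈ fixA A ↔ ∀ p ∈ A, (g : Equiv.Perm GolayPt) p = p := Iff.rfl

theorem fixA_smul {A : Finset GolayPt} {g : M24} (hg : g ∈ fixA A) : g • A = A := by
  refine Finset.eq_of_subset_of_card_le ?_ (by rw [Finset.card_smul_finset])
  intro p hp
  obtain ⟨q, hq, rfl⟩ := Finset.mem_smul_finset.1 hp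
  show (g : Equiv.Perm GolayPt) q ∈ A
  rw [hg q hq]
  exact hq

theorem fixA_singleton (x : GolayPt) : fixA {x} = stabilizer M24 x := by
  ext g
  simp [mem_fixA]
  rfl

/-- orders of pointwise stabilisers -/
def fixOrder (a : ℕ) : ℕ := [244823040, 10200960, 443520, 20160, 960, 48].getD a 0

theorem card_fixA (A : Finset GolayPt) (hA : A.card ≤ 5) : Nat.card (fixA A) = fixOrder A.card := by
  let x : Fin A.card ↪ GolayPt :=
    A.equivFin.symm.toEmbedding.trans (Function.Embedding.subtype _)
  have hr : Set.range x = (A : Set GolayPt) := by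
    ext p
    constructor
    · rintro ⟨i, rfl⟩; exact (A.equivFin.symm i).2
    · intro hp; exact ⟨A.equivFin ⟨p, hp⟩, by simp [x]⟩
  refine (Nat.card_congr ?_).trans (card_fix hA x)
  exact
    { toFun := fun g => ⟨g.1.1, g.1.2, (mem_fixingSubgroup_iff _).2 fun p hp => g.2 p (by
        rw [hr] at hp; exact hp)⟩
      invFun := fun g => ⟨⟨g.1, g.2.1⟩, fun p hp =>
        (mem_fixingSubgroup_iff _).1 g.2.2 p (by rw [hr]; exact hp)⟩
      left_inv := fun _ => rfl
      right_inv := fun _ => rfl }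

theorem fixA_trans (A T T' : Finset GolayPt) (hT : Disjoint A T) (hT' : Disjoint A T')
    (hc : T'.card = T.card) (h5 : A.card + T.card ≤ 5) : ∃ g ∈ fixA A, g • T = T' := by
  classical
  obtain ⟨e⟩ : Nonempty (Fin T.card ≃ T) := ⟨T.equivFin.symm⟩
  obtain ⟨e'⟩ : Nonempty (Fin T.card ≃ T') := ⟨(T'.equivFinOfCardEq hc).symm⟩
  obtain ⟨f⟩ : Nonempty (Fin A.card ≃ A) := ⟨A.equivFin.symm⟩
  have mk : ∀ (U : Finset GolayPt), Disjoint A U → ∀ u : Fin T.card ≃ U,
      ∃ v : Fin (A.card + T.card) ↪ GolayPt,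
        (∀ i, v (Fin.castAdd _ i) = f i) ∧ ∀ i, v (Fin.natAdd _ i) = u i := by
    intro U hU u
    refine ⟨⟨Fin.addCases (fun i => (f i : GolayPt)) (fun i => (u i : GolayPt)), ?_⟩,
      fun i => Fin.addCases_left (n := T.card) (motive := fun _ => GolayPt)
        (left := fun i => (f i : GolayPt)) (right := fun i => (u i : GolayPt)) i,
      fun i => Fin.addCases_right (m := A.card) (motive := fun _ => GolayPt)
        (left := fun i => (f i : GolayPt)) (right := fun i => (u i : GolayPt)) i⟩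
    intro i j h
    induction i using Fin.addCases with
    | left i =>
      induction j using Fin.addCases with
      | left j =>
        simp only [Fin.addCases_left] at h
        rw [f.injective (Subtype.ext h)]
      | right j =>
        simp only [Fin.addCases_left, Fin.addCases_right] at h
        exact absurd (f i).2 (Finset.disjoint_right.1 hU (h ▸ (u j).2))
    | right i =>
      induction j using Fin.addCases with
      | left j =>
        simp only [Fin.addCases_left, Fin.addCases_right] at h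
        exact absurd (f j).2 (Finset.disjoint_right.1 hU (h ▸ (u i).2))
      | right j =>
        simp only [Fin.addCases_right] at h
        rw [u.injective (Subtype.ext h)]
  obtain ⟨v, hv1, hv2⟩ := mk T hT e
  obtain ⟨w, hw1, hw2⟩ := mk T' hT' e'
  obtain ⟨σ, hσ, h⟩ := M24_trans h5 v w
  refine ⟨⟨σ, hσ⟩, fun p hp => ?_, ?_⟩
  · have := h (Fin.castAdd _ (f.symm ⟨p, hp⟩))
    simpa [hv1, hw1] using this
  · refine Finset.eq_of_subset_of_card_le ?_ (by rw [Finset.card_smul_finset, hc])
    intro p hp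
    obtain ⟨q, hq, rfl⟩ := Finset.mem_smul_finset.1 hp
    have := h (Fin.natAdd _ (e.symm ⟨q, hq⟩))
    rw [hv2, hw2, Equiv.apply_symm_apply] at this
    show σ q ∈ T'
    rw [this]
    exact (e' _).2

/-- An invariant set away from `A` forces a divisibility. -/
theorem set_bound {A B : Finset GolayPt} (hd : Disjoint A B) {H : Subgroup M24} (hA : H ≤ fixA A)
    (hB : ∀ h ∈ H, h • B = B) (t : ℕ) (h5 : A.card + t ≤ 5) (idx : ℕ)
    (hidx : idx * Nat.card H = fixOrder A.card) :
    (24 - A.card).choose t ∣ idx * B.card.choose t := by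
  classical
  have hc : (Finset.univ \ A).card = 24 - A.card := by
    rw [Finset.card_sdiff_of_subset (Finset.subset_univ _), Finset.card_univ, Fintype.card_option,
      ZMod.card]
  have h := choose_dvd (G := fixA A) (Finset.univ \ A) B
    (fun p hp => Finset.mem_sdiff.2 ⟨Finset.mem_univ _, Finset.disjoint_right.1 hd hp⟩) t
    (fun g => by
      show (g : M24) • (Finset.univ \ A) = Finset.univ \ A
      rw [Finset.smul_finset_sdiff, fixA_smul g.2, Finset.smul_finset_univ])
    (fun T T' hT hT' c c' => by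
      obtain ⟨g, hg, e⟩ := fixA_trans A T T'
        (Finset.disjoint_right.2 fun p hp => (Finset.mem_sdiff.1 (hT hp)).2)
        (Finset.disjoint_right.2 fun p hp => (Finset.mem_sdiff.1 (hT' hp)).2)
        (by omega) (by omega)
      exact ⟨⟨g, hg⟩, e⟩)
    (H.subgroupOf (fixA A)) (fun g hg => hB _ hg)
  have hm := (H.subgroupOf (fixA A)).card_mul_index
  rw [Nat.card_congr (Subgroup.subgroupOfEquivOfLe hA).toEquiv, card_fixA A (by omega), ← hidx,
    mul_comm idx] at hm
  rw [Nat.eq_of_mul_eq_mul_left Nat.card_pos hm] at h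
  rwa [hc] at h

/-- The order of a subgroup with an invariant set divides a number. -/
theorem card_le_of_set {A B : Finset GolayPt} (hd : Disjoint A B) {H : Subgroup M24} (hA : H ≤ fixA A)
    (hB : ∀ h ∈ H, h • B = B) (t : ℕ) (h5 : A.card + t ≤ 5) {d : ℕ}
    (key : ∀ idx, (24 - A.card).choose t ∣ idx * B.card.choose t → d ∣ idx) :
    d * Nat.card H ∣ fixOrder A.card := by
  obtain ⟨k, hk⟩ := card_fixA A (by omega) ▸ Subgroup.card_dvd_of_le hA
  rw [hk, mul_comm d]
  exact Nat.mul_dvd_mul_left _ (key k (set_bound hd hA hB t h5 k (by rw [mul_comm]; exact hk.symm)))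

theorem compl_inv {A B : Finset GolayPt} {H : Subgroup M24} (hA : H ≤ fixA A)
    (hB : ∀ h ∈ H, h • B = B) : ∀ h ∈ H, h • ((Finset.univ \ A) \ B) = (Finset.univ \ A) \ B :=
  fun h hh => by rw [Finset.smul_finset_sdiff, Finset.smul_finset_sdiff, Finset.smul_finset_univ,
    fixA_smul (hA hh), hB h hh]

theorem orbitSet_smul (H : Subgroup M24) (p : GolayPt) : ∀ h ∈ H, h • orbitSet H p = orbitSet H p := by
  intro h hh
  refine Finset.eq_of_subset_of_card_le ?_ (by rw [Finset.card_smul_finset])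
  intro q hq
  obtain ⟨r, hr, rfl⟩ := Finset.mem_smul_finset.1 hq
  exact orbitSet_inv H p hh r hr

theorem orbitSet_self (H : Subgroup M24) (p : GolayPt) : p ∈ orbitSet H p := by simp [orbitSet]

theorem mem_orbitSet {H : Subgroup M24} {p q : GolayPt} :
    q ∈ orbitSet H p ↔ ∃ h ∈ H, (h : Equiv.Perm GolayPt) p = q := by
  rw [orbitSet, Set.Finite.mem_toFinset]
  exact ⟨fun ⟨k, hk⟩ => ⟨k, k.2, hk⟩, fun ⟨k, hk, e⟩ => ⟨⟨k, hk⟩, e⟩⟩

theorem orbitSet_dvd (H : Subgroup M24) (p : GolayPt) : (orbitSet H p).card ∣ Nat.card H := by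
  rw [orbitSet_card]; exact Subgroup.index_dvd_card _

theorem orbitSet_subset {H : Subgroup M24} {B : Finset GolayPt} (hB : ∀ h ∈ H, h • B = B)
    {p : GolayPt} (hp : p ∈ B) : orbitSet H p ⊆ B := by
  intro q hq
  obtain ⟨h, hh, rfl⟩ := mem_orbitSet.1 hq
  exact hB h hh ▸ Finset.smul_mem_smul_finset (a := h) hp

theorem orbitSet_avoid {A : Finset GolayPt} {H : Subgroup M24} (hA : H ≤ fixA A) {p : GolayPt}
    (hp : p ∉ A) : Disjoint A (orbitSet H p) := by
  refine Finset.disjoint_left.2 fun q hq hqo => ?_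
  obtain ⟨h, hh, rfl⟩ := mem_orbitSet.1 hqo
  exact hp (((h : Equiv.Perm GolayPt).injective (hA hh _ hq)) ▸ hq)

/-- the elements of M24 fixing an octad pointwise lie in the subgroup -/
def Contains (H : Subgroup M24) (o : Finset GolayPt) : Prop :=
  ∀ g : M24, (g : Equiv.Perm GolayPt) ∈ fixM o → g ∈ H

/-- The pointwise stabiliser of an octad moves a point outside to every point outside. -/
theorem contains_outside {H : Subgroup M24} {o : Finset GolayPt} (ho : o ∈ octads)
    (hc : Contains H o) {q : GolayPt} (hq : q ∉ o) : oᶜ ⊆ orbitSet H q := by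
  classical
  haveI : Fintype (fixM o) := Fintype.ofFinite _
  have himg : (Finset.univ : Finset (fixM o)).image (fun e => e.1 q) = oᶜ := by
    refine Finset.eq_of_subset_of_card_le ?_ ?_
    · intro r hr
      obtain ⟨e, -, rfl⟩ := Finset.mem_image.1 hr
      rw [Finset.mem_compl]
      intro hin
      exact hq (e.1.injective ((mem_fixM.1 e.2).2 _ hin) ▸ hin)
    · rw [Finset.card_image_of_injective _ ?_, Finset.card_univ, ← Nat.card_eq_fintype_card,
        (card_fixM_octad ho).1, Finset.card_compl, ho.2, Fintype.card_option, ZMod.card]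
      intro e e' h
      have h1 : (e'⁻¹ * e : fixM o) = 1 := Subtype.ext
        (fixM_octad_regular ho (e'⁻¹ * e).2 hq (by
          show (e'.1⁻¹) (e.1 q) = q
          rw [Equiv.Perm.inv_eq_iff_eq]
          exact h))
      exact (inv_mul_eq_one.1 h1).symm
  intro r hr
  rw [← himg] at hr
  obtain ⟨e, -, rfl⟩ := Finset.mem_image.1 hr
  exact mem_orbitSet.2 ⟨⟨e.1, (mem_fixM.1 e.2).1⟩, hc _ e.2, rfl⟩

/-- An invariant set with fewer than sixteen points lies in the octad. -/
theorem subset_octad {H : Subgroup M24} {o : Finset GolayPt} (ho : o ∈ octads) (hc : Contains H o)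
    {B : Finset GolayPt} (hB : ∀ h ∈ H, h • B = B) (hlt : B.card < 16) : B ⊆ o := by
  intro q hq
  by_contra hqo
  have h := Finset.card_le_card ((contains_outside ho hc hqo).trans (orbitSet_subset hB hq))
  rw [Finset.card_compl, ho.2, Fintype.card_option, ZMod.card] at h
  omega

theorem fact_two (a : ℕ) {m : ℕ} (hm : ¬ 2 ∣ m) : (2 ^ a * m).factorization 2 = a := by
  rw [Nat.factorization_mul (by positivity) (by rintro rfl; exact hm (dvd_zero 2)), Finsupp.add_apply,
    Nat.prime_two.factorization_pow, Finsupp.single_eq_same,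
    Nat.factorization_eq_zero_of_not_dvd hm, add_zero]

theorem m24_two : (Nat.card M24).factorization 2 = 10 := by
  rw [card_M24]
  exact fact_two 10 (m := 239085) (by norm_num)

theorem sylow_card [Fact (Nat.Prime 2)] (S : Sylow 2 M24) : Nat.card (S : Subgroup M24) = 2 ^ 10 := by
  rw [← m24_two]
  exact S.card_eq_multiplicity

/-- A Sylow two subgroup of M24 fixes an octad and contains its pointwise stabiliser. -/
theorem sylow_octad [Fact (Nat.Prime 2)] (S : Sylow 2 M24) : ∃ o ∈ octads,
    (∀ g ∈ (S : Subgroup M24), g • o = o) ∧ Contains (S : Subgroup M24) o := by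
  obtain ⟨o₀, ho₀⟩ : ∃ o, o ∈ octads := ⟨_, baseOctad_mem⟩
  set D := stabilizer M24 o₀ with hD
  have hDc : Nat.card D = 322560 := by rw [hD, ← card_stabM, card_stabM_octad ho₀]
  obtain ⟨S₀⟩ : Nonempty (Sylow 2 D) := inferInstance
  have f1 : (322560 : ℕ).factorization 2 = 10 := fact_two 10 (m := 315) (by norm_num)
  have hc0 : Nat.card ((S₀ : Subgroup D).map D.subtype) = 2 ^ (Nat.card M24).factorization 2 := by
    rw [Subgroup.card_map_of_injective D.subtype_injective, S₀.card_eq_multiplicity, hDc, f1,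
      m24_two]
  obtain ⟨k, hk⟩ := exists_smul_eq M24 (Sylow.ofCard _ hc0) S
  -- the pointwise stabiliser is a normal two subgroup
  set N : Subgroup D := (fixA o₀).subgroupOf D with hN
  haveI hNn : N.Normal := ⟨fun n hn d p hp => by
    have hd : ((d : M24)⁻¹) • o₀ = o₀ := inv_smul_eq_iff.2 d.2.symm
    have hp' : ((d : M24)⁻¹ : M24) • p ∈ o₀ := hd ▸ Finset.smul_mem_smul_finset hp
    have e1 : ((n : M24)) • (((d : M24)⁻¹ : M24) • p) = ((d : M24)⁻¹ : M24) • p := hn _ hp'
    show ((d : M24) * (n : M24) * (d : M24)⁻¹) • p = p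
    rw [mul_smul, mul_smul, e1, smul_inv_smul]⟩
  have hNp : IsPGroup 2 N := fun g => ⟨1, Subtype.ext (Subtype.ext (Subtype.ext (by
    have h := (card_fixM_octad ho₀).2 (((g : D) : M24) : Equiv.Perm GolayPt)
      (mem_fixM.2 ⟨((g : D) : M24).2, g.2⟩)
    show ((((g ^ 2 ^ 1 : N) : D) : M24) : Equiv.Perm GolayPt) = 1
    rw [pow_one, sq]
    exact h)))⟩
  have hNS : N ≤ (S₀ : Subgroup D) := hNp.le_sylow_of_normal S₀
  have hS : (S : Subgroup M24) = ((S₀ : Subgroup D).map D.subtype).map (MulAut.conj k).toMonoidHom := by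
    rw [← hk]
    rfl
  refine ⟨k • o₀, smul_octad k.2 ho₀, ?_, ?_⟩
  · intro g hg
    rw [hS] at hg
    obtain ⟨_, ⟨d, -, rfl⟩, rfl⟩ := hg
    show (k * (d : M24) * k⁻¹) • k • o₀ = k • o₀
    rw [mul_smul, mul_smul, inv_smul_smul, show (d : M24) • o₀ = o₀ from d.2]
  · intro g hg
    have hfix : ∀ p ∈ o₀, ((k⁻¹ * g * k : M24) : Equiv.Perm GolayPt) p = p := fun p hp => by
      have h := (mem_fixM.1 ((fixM_smul k.2 o₀).1 (show (g : Equiv.Perm GolayPt) ∈ fixM _ from hg))).2
      exact h p hp
    rw [hS]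
    refine ⟨k⁻¹ * g * k, ⟨⟨k⁻¹ * g * k, fixA_smul hfix⟩, hNS hfix, rfl⟩, ?_⟩
    show k * (k⁻¹ * g * k) * k⁻¹ = g
    group

theorem octad_of_two_pow [Fact (Nat.Prime 2)] {H : Subgroup M24} (h : 2 ^ 10 ∣ Nat.card H) :
    ∃ o ∈ octads, Contains H o := by
  obtain ⟨P, hP⟩ := Sylow.exists_subgroup_card_pow_prime 2 h
  obtain ⟨S, hS⟩ := (IsPGroup.of_card (n := 10)
    ((Subgroup.card_map_of_injective H.subtype_injective).trans hP)).exists_le_sylow
  obtain ⟨o, ho, -, hc⟩ := sylow_octad S
  have e : P.map H.subtype = (S : Subgroup M24) := Subgroup.eq_of_le_of_card_ge hS (by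
    rw [Subgroup.card_map_of_injective H.subtype_injective, hP, sylow_card])
  refine ⟨o, ho, fun g hg => ?_⟩
  have := hc g hg
  rw [← e] at this
  exact Subgroup.map_subtype_le _ this

theorem octad_of_two_pow_point [Fact (Nat.Prime 2)] {H : Subgroup M24} {x : GolayPt}
    (hx : H ≤ fixA {x}) (h : 2 ^ 7 ∣ Nat.card H) : ∃ o ∈ octads, x ∈ o ∧ Contains H o := by
  obtain ⟨P, hP⟩ := Sylow.exists_subgroup_card_pow_prime 2 h
  obtain ⟨S, hS⟩ := (IsPGroup.of_card (n := 7)
    ((Subgroup.card_map_of_injective H.subtype_injective).trans hP)).exists_le_sylow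
  obtain ⟨o, ho, hfix, hc⟩ := sylow_octad S
  set Sx := (S : Subgroup M24) ⊓ fixA {x} with hSx
  have hle : P.map H.subtype ≤ Sx := le_inf hS ((Subgroup.map_subtype_le _).trans hx)
  have hSc : Nat.card (S : Subgroup M24) = 2 ^ 10 := sylow_card S
  have hd : Nat.card Sx ∣ 2 ^ 7 := by
    obtain ⟨i, hi, e⟩ := (Nat.dvd_prime_pow Nat.prime_two).1
      (hSc ▸ Subgroup.card_dvd_of_le (inf_le_left : Sx ≤ (S : Subgroup M24)))
    have h2 : Nat.card Sx ∣ fixOrder 1 :=
      card_fixA {x} (by simp) ▸ Subgroup.card_dvd_of_le (inf_le_right : Sx ≤ fixA {x})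
    rw [e] at h2 ⊢
    refine pow_dvd_pow 2 ?_
    by_contra hlt
    exact absurd ((pow_dvd_pow 2 (not_le.1 hlt)).trans h2) (by decide)
  have e : P.map H.subtype = Sx := Subgroup.eq_of_le_of_card_ge hle (by
    rw [Subgroup.card_map_of_injective H.subtype_injective, hP]
    exact Nat.le_of_dvd (by norm_num) hd)
  have hxo : x ∈ o := by
    by_contra hxo
    have h16 := Finset.card_le_card (contains_outside ho hc hxo)
    rw [Finset.card_compl, ho.2, Fintype.card_option, ZMod.card, orbitSet_card] at h16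
    have hm := (stabilizer (S : Subgroup M24) x).card_mul_index
    have hst : Nat.card (stabilizer (S : Subgroup M24) x) = 2 ^ 7 := by
      rw [show stabilizer (S : Subgroup M24) x = (Sx).subgroupOf (S : Subgroup M24) from ?_,
        Nat.card_congr (Subgroup.subgroupOfEquivOfLe inf_le_left).toEquiv]
      · show Nat.card Sx = _
        rw [← e, Subgroup.card_map_of_injective H.subtype_injective, hP]
      ext g
      simp [hSx, Subgroup.mem_subgroupOf, mem_fixA]
      rfl
    rw [hst, hSc] at hm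
    have : (stabilizer (S : Subgroup M24) x).index = 8 := by omega
    omega
  refine ⟨o, ho, hxo, fun g hg => ?_⟩
  have h1 : g ∈ Sx := ⟨hc g hg, fun p hp => by
    rw [Finset.mem_singleton] at hp
    exact (mem_fixM.1 hg).2 p (hp ▸ hxo)⟩
  rw [← e] at h1
  exact Subgroup.map_subtype_le _ h1

/-- the octad is fixed once five of its points are mapped into it -/
theorem octad_fixed {o : Finset GolayPt} (ho : o ∈ octads) {g : M24} {F : Finset GolayPt}
    (hF : F ⊆ o) (hg : g • F = F) (h5 : 5 ≤ F.card) : g • o = o := by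
  refine octad_eq_of_five (smul_octad g.2 ho) ho (h5.trans (Finset.card_le_card ?_))
  exact Finset.subset_inter (hg ▸ Finset.smul_finset_subset_smul_finset hF) hF

/-- An element of order five fixes exactly four points. -/
theorem fix_card_5 {g : M24} (h : orderOf (g : Equiv.Perm GolayPt) = 5) :
    (fixSet (g : Equiv.Perm GolayPt)).card = 4 := by
  classical
  haveI : Fact (Nat.Prime 5) := ⟨by norm_num⟩
  obtain ⟨k, hk, -⟩ := cycle_count h
  have hlt := fix_lt_ten g.2 (fun e => by rw [e, orderOf_one] at h; omega)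
  by_contra hne
  have h9 : 9 = (fixSet (g : Equiv.Perm GolayPt)).card := by omega
  obtain ⟨P, hP, hPc⟩ := Finset.exists_subset_card_eq (s := fixSet (g : Equiv.Perm GolayPt))
    (n := 5) (by omega)
  obtain ⟨o, ho, hPo⟩ := exists_octad_of_five hPc
  obtain ⟨z, hz, hzo⟩ : ∃ z ∈ fixSet (g : Equiv.Perm GolayPt), z ∉ o := by
    by_contra hall
    push_neg at hall
    have := Finset.card_le_card (show fixSet (g : Equiv.Perm GolayPt) ⊆ o from hall)
    rw [ho.2] at this
    omega
  have hE : (insert z P).card = 6 := by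
    rw [Finset.card_insert_of_notMem (fun h => hzo (hPo h)), hPc]
  have hno : inSomeOctad (insert z P) = false := by
    rw [← Bool.not_eq_true, inSomeOctad_iff]
    rintro ⟨o', ho', hsub⟩
    have : o' = o := octad_eq_of_five ho' ho (hPc ▸ Finset.card_le_card
      (Finset.subset_inter ((Finset.subset_insert _ _).trans hsub) hPo))
    exact hzo (this ▸ hsub (Finset.mem_insert_self _ _))
  have hmem : (g : Equiv.Perm GolayPt) ∈ fixM (insert z P) := mem_fixM.2 ⟨g.2, fun p hp => by
    rcases Finset.mem_insert.1 hp with rfl | hp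
    · exact (Finset.mem_filter.1 hz).2
    · exact (Finset.mem_filter.1 (hP hp)).2⟩
  have hd := Subgroup.orderOf_dvd_natCard _ hmem
  rw [h, card_fixM_six hE, hno] at hd
  norm_num at hd

end Cfsg.Agent.Spor.MathieuIdx
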