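/-!
Generating pairs of the Mathieu group of degree 23 with prescribed prime orders, as image lists.
-/

set_option autoImplicit false
set_option maxRecDepth 100000

namespace Cfsg.Agent.Spor.MathieuTriples

/-- orders, the two elements, and words giving elements of orders 5, 7, 11 and 23 -/
def rows : List ((Nat × Nat × Nat) × List Nat × List Nat × List (List Nat × Nat)) := [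
  ((2, 5, 11), [17, 1, 2, 3, 18, 14, 15, 7, 8, 13, 11, 10, 19, 9, 5, 6, 21, 0, 4, 12, 20, 16, 22, 23], [0, 17, 20, 6, 21, 19, 12, 5, 4, 13, 9, 18, 2, 1, 14, 22, 16, 10, 7, 11, 3, 15, 8, 23], [([1], 1), ([0, 1, 0, 1, 1, 0, 1, 1], 1), ([0, 1], 1), ([0, 1, 0, 1, 0, 1, 0, 1, 1, 1], 1)]),
  ((2, 5, 23), [0, 21, 13, 3, 10, 19, 9, 11, 8, 6, 4, 7, 22, 2, 14, 15, 17, 16, 18, 5, 20, 1, 12, 23], [5, 12, 0, 22, 4, 7, 8, 14, 17, 19, 1, 15, 11, 13, 2, 10, 3, 9, 20, 6, 16, 21, 18, 23], [([1], 1), ([0, 1, 0, 1, 1, 1, 1, 0, 1, 1], 1), ([0, 1, 1], 1), ([0, 1], 1)]),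
  ((2, 7, 7), [0, 14, 13, 7, 18, 20, 16, 3, 8, 22, 10, 11, 17, 2, 1, 15, 6, 12, 4, 19, 5, 21, 9, 23], [11, 19, 18, 5, 4, 0, 15, 3, 1, 17, 22, 9, 6, 2, 14, 20, 13, 7, 10, 12, 8, 16, 21, 23], [([0, 1, 1, 0, 1, 1, 1, 1], 1), ([1], 1), ([0, 1, 0, 1, 0, 1, 1, 1, 1], 1), ([0, 1, 0, 1, 1, 1], 1)]),
  ((2, 7, 11), [5, 1, 6, 18, 4, 0, 2, 8, 7, 21, 10, 11, 12, 13, 22, 15, 19, 20, 3, 16, 17, 9, 14, 23], [5, 7, 9, 15, 22, 11, 6, 4, 20, 8, 14, 17, 19, 2, 16, 13, 0, 10, 1, 18, 3, 21, 12, 23], [([0, 1, 1, 0, 1, 1, 1, 1, 1], 1), ([1], 1), ([0, 1], 1), ([0, 1, 0, 1, 1], 1)]),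
  ((2, 7, 23), [5, 1, 2, 3, 18, 0, 15, 22, 20, 9, 16, 21, 12, 13, 17, 6, 10, 14, 4, 19, 8, 11, 7, 23], [2, 16, 7, 19, 0, 5, 22, 18, 21, 1, 12, 9, 13, 8, 3, 15, 14, 4, 20, 11, 17, 6, 10, 23], [([0, 1, 0, 1, 1, 1, 1, 1, 1], 1), ([1], 1), ([0, 1, 1, 1], 1), ([0, 1], 1)]),
  ((2, 11, 11), [5, 1, 11, 21, 4, 0, 6, 7, 15, 14, 10, 2, 19, 17, 9, 8, 16, 13, 22, 12, 20, 3, 18, 23], [15, 8, 10, 12, 20, 5, 4, 9, 21, 16, 18, 19, 11, 17, 3, 22, 13, 2, 0, 6, 1, 14, 7, 23], [([0, 1, 0, 1, 1, 0, 1, 1, 1, 1], 1), ([0, 1, 1], 1), ([1], 1), ([0, 1, 0, 1, 1], 1)]),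
  ((2, 11, 23), [0, 9, 2, 19, 6, 11, 4, 8, 7, 1, 10, 5, 12, 13, 16, 20, 14, 17, 22, 3, 15, 21, 18, 23], [1, 4, 0, 21, 11, 18, 12, 17, 5, 13, 2, 8, 15, 20, 14, 16, 3, 10, 7, 6, 22, 9, 19, 23], [([0, 1, 0, 1, 1, 0, 1, 1, 0, 1, 1], 1), ([0, 1, 1, 1, 1, 1], 1), ([1], 1), ([0, 1], 1)]),
  ((2, 23, 23), [0, 19, 21, 22, 14, 5, 6, 7, 11, 20, 12, 8, 10, 13, 4, 18, 16, 17, 15, 1, 9, 2, 3, 23], [18, 8, 17, 11, 7, 19, 21, 15, 9, 13, 16, 10, 0, 14, 20, 2, 6, 22, 5, 4, 3, 12, 1, 23], [([0, 1, 0, 1, 1, 1], 1), ([0, 1, 0, 1, 1], 1), ([0, 1, 1, 1], 1), ([1], 1)]),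
  ((3, 3, 11), [10, 12, 18, 3, 9, 1, 6, 7, 21, 13, 19, 11, 5, 4, 17, 8, 16, 20, 22, 0, 14, 15, 2, 23], [18, 5, 1, 10, 4, 2, 3, 8, 14, 0, 6, 15, 12, 16, 7, 22, 17, 13, 9, 19, 20, 21, 11, 23], [([0, 0, 1, 0, 1, 1, 0, 1], 1), ([0, 1, 0, 1, 1], 1), ([0, 1], 1), ([0, 0, 1, 0, 1, 0, 1], 1)]),
  ((3, 3, 23), [21, 13, 14, 20, 4, 5, 3, 16, 8, 7, 11, 15, 1, 12, 18, 10, 9, 17, 2, 0, 6, 19, 22, 23], [9, 6, 2, 8, 0, 16, 17, 10, 21, 4, 19, 11, 12, 13, 5, 22, 14, 1, 15, 7, 20, 3, 18, 23], [([0, 0, 1], 3), ([0, 0, 1, 0, 1, 0, 1, 1], 1), ([0, 0, 1, 0, 1], 1), ([0, 1], 1)]),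
  ((3, 5, 5), [10, 1, 5, 14, 19, 8, 6, 17, 2, 9, 22, 7, 18, 12, 20, 4, 16, 11, 13, 15, 3, 21, 0, 23], [0, 5, 15, 21, 13, 2, 7, 8, 20, 6, 3, 11, 17, 10, 18, 19, 14, 16, 12, 1, 9, 4, 22, 23], [([1], 1), ([0, 0, 1, 0, 1, 1, 1], 1), ([0, 0, 1, 0, 1], 1), ([0, 1, 1], 1)]),
  ((3, 5, 7), [0, 1, 2, 21, 17, 6, 22, 4, 12, 10, 15, 8, 11, 3, 19, 9, 14, 7, 18, 16, 20, 13, 5, 23], [3, 9, 22, 1, 7, 5, 15, 14, 8, 20, 17, 18, 12, 11, 10, 13, 21, 4, 6, 16, 0, 2, 19, 23], [([1], 1), ([0, 1], 1), ([0, 0, 1], 1), ([0, 0, 1, 0, 0, 1, 1], 1)]),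
  ((3, 5, 11), [6, 1, 2, 13, 14, 17, 21, 7, 18, 9, 16, 4, 3, 12, 11, 8, 22, 20, 15, 19, 5, 0, 10, 23], [19, 16, 21, 15, 3, 4, 6, 5, 2, 17, 10, 12, 22, 13, 9, 7, 14, 1, 8, 11, 18, 20, 0, 23], [([1], 1), ([0, 0, 1, 0, 1, 0, 1], 1), ([0, 1], 1), ([0, 1, 0, 1, 1, 1], 1)]),
  ((3, 5, 23), [4, 1, 11, 20, 17, 19, 6, 8, 10, 9, 7, 15, 12, 16, 3, 2, 18, 0, 13, 22, 14, 21, 5, 23], [14, 19, 0, 8, 3, 9, 12, 4, 18, 20, 10, 11, 5, 13, 1, 17, 21, 22, 7, 2, 6, 15, 16, 23], [([1], 1), ([0, 0, 1, 1], 2), ([0, 1, 0, 1, 1, 1], 1), ([0, 1], 1)]),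
  ((3, 7, 7), [10, 1, 9, 22, 13, 5, 6, 18, 2, 8, 12, 20, 0, 14, 4, 7, 16, 3, 15, 19, 21, 11, 17, 23], [11, 8, 20, 17, 1, 19, 0, 7, 13, 2, 4, 3, 12, 14, 22, 16, 5, 18, 21, 9, 15, 6, 10, 23], [([0, 0, 1, 1, 0, 1, 0, 0, 1, 1, 1], 1), ([1], 1), ([0, 0, 1, 0, 1, 0, 1], 1), ([0, 1, 1], 1)]),
  ((3, 7, 11), [6, 11, 5, 17, 4, 22, 16, 21, 8, 3, 12, 15, 13, 10, 14, 1, 0, 9, 18, 19, 7, 20, 2, 23], [21, 17, 22, 19, 15, 0, 12, 7, 14, 18, 1, 3, 8, 11, 5, 9, 16, 4, 10, 20, 2, 6, 13, 23], [([0, 1, 0, 1, 1], 1), ([1], 1), ([0, 1], 1), ([0, 0, 1], 1)]),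
  ((3, 7, 23), [12, 15, 2, 1, 4, 7, 6, 9, 20, 5, 8, 13, 22, 19, 17, 3, 14, 16, 18, 11, 10, 21, 0, 23], [13, 16, 11, 2, 22, 14, 18, 20, 8, 9, 3, 1, 19, 17, 12, 6, 21, 5, 7, 0, 4, 10, 15, 23], [([0, 0, 1, 0, 0, 1, 1], 1), ([1], 1), ([0, 0, 1, 0, 1, 0, 1, 1], 1), ([0, 1], 1)]),
  ((3, 11, 11), [7, 1, 5, 16, 13, 22, 20, 9, 6, 0, 4, 11, 12, 10, 21, 15, 18, 14, 3, 19, 8, 17, 2, 23], [19, 15, 20, 16, 8, 0, 2, 21, 10, 9, 13, 5, 18, 6, 22, 11, 1, 7, 4, 17, 14, 3, 12, 23], [([0, 0, 1, 0, 1, 1, 1], 1), ([0, 1, 1], 1), ([1], 1), ([0, 0, 1, 1, 1, 0, 1], 1)]),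
  ((3, 11, 23), [0, 22, 4, 2, 3, 16, 17, 5, 8, 9, 15, 10, 20, 6, 1, 11, 7, 13, 12, 19, 18, 21, 14, 23], [15, 10, 11, 19, 12, 21, 2, 14, 16, 3, 6, 9, 5, 13, 0, 20, 1, 8, 7, 17, 22, 18, 4, 23], [([0, 1, 0, 1, 1], 1), ([0, 1, 0, 1, 1, 1], 1), ([1], 1), ([0, 1], 1)]),
  ((3, 23, 23), [0, 5, 1, 3, 8, 2, 18, 20, 13, 10, 12, 11, 9, 4, 14, 19, 7, 17, 21, 22, 16, 6, 15, 23], [3, 22, 11, 7, 15, 19, 12, 4, 13, 0, 16, 18, 1, 10, 9, 8, 6, 21, 14, 17, 5, 2, 20, 23], [([0, 1, 1, 1], 1), ([0, 0, 1, 1, 1], 1), ([0, 0, 1], 1), ([1], 1)]),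
  ((5, 5, 5), [5, 0, 3, 1, 4, 2, 19, 6, 10, 22, 16, 7, 21, 12, 14, 11, 18, 17, 20, 15, 8, 9, 13, 23], [1, 7, 10, 11, 5, 0, 16, 4, 8, 14, 19, 12, 21, 13, 17, 15, 2, 22, 9, 6, 3, 20, 18, 23], [([0], 1), ([0, 1, 1], 1), ([0, 0, 1, 1], 1), ([0, 0, 1], 1)]),
  ((5, 5, 7), [0, 13, 14, 15, 4, 10, 18, 9, 19, 12, 1, 21, 3, 17, 22, 7, 8, 5, 16, 6, 20, 2, 11, 23], [18, 14, 20, 21, 1, 5, 6, 12, 15, 7, 22, 0, 8, 19, 13, 9, 2, 17, 3, 4, 10, 11, 16, 23], [([0], 1), ([0, 1], 1), ([0, 0, 0, 1, 1], 1), ([0, 0, 1], 1)]),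
  ((5, 5, 11), [21, 19, 2, 22, 9, 12, 6, 0, 18, 17, 15, 11, 13, 14, 16, 20, 5, 8, 4, 7, 3, 1, 10, 23], [7, 2, 3, 14, 5, 21, 0, 11, 8, 9, 10, 20, 22, 16, 18, 17, 4, 12, 1, 15, 6, 13, 19, 23], [([0], 1), ([0, 0, 0, 1, 1], 1), ([0, 1], 1), ([0, 0, 0, 0, 1], 1)]),
  ((5, 5, 23), [12, 4, 22, 16, 21, 5, 18, 1, 2, 8, 10, 11, 17, 9, 6, 20, 14, 15, 3, 7, 0, 19, 13, 23], [18, 22, 4, 5, 21, 8, 17, 13, 7, 9, 15, 12, 1, 3, 14, 0, 16, 2, 19, 10, 11, 6, 20, 23], [([0], 1), ([0, 1, 1], 2), ([0, 0, 1, 1], 1), ([0, 1], 1)]),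
  ((5, 7, 7), [2, 17, 19, 21, 4, 20, 22, 7, 18, 11, 9, 6, 12, 1, 15, 0, 8, 3, 5, 14, 16, 13, 10, 23], [2, 1, 3, 15, 14, 18, 7, 20, 16, 9, 12, 21, 11, 17, 6, 19, 0, 4, 10, 8, 13, 22, 5, 23], [([0], 1), ([1], 1), ([0, 0, 1], 1), ([0, 1, 1], 1)]),
  ((5, 7, 11), [12, 20, 2, 4, 11, 5, 16, 0, 17, 22, 13, 14, 9, 19, 21, 15, 10, 1, 8, 6, 18, 3, 7, 23], [20, 18, 4, 9, 17, 8, 3, 22, 11, 10, 5, 6, 12, 2, 13, 19, 7, 1, 14, 16, 15, 21, 0, 23], [([0], 1), ([1], 1), ([0, 1], 1), ([0, 0, 1], 1)]),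
  ((5, 7, 23), [16, 18, 12, 0, 13, 14, 5, 7, 15, 9, 2, 11, 19, 21, 17, 4, 1, 22, 3, 20, 10, 8, 6, 23], [14, 17, 19, 4, 2, 3, 8, 5, 0, 12, 11, 6, 20, 13, 18, 1, 7, 9, 10, 16, 21, 15, 22, 23], [([0], 1), ([1], 1), ([0, 0, 1, 1], 1), ([0, 1], 1)]),
  ((5, 11, 11), [0, 12, 2, 15, 10, 19, 3, 16, 1, 9, 22, 18, 11, 21, 4, 5, 13, 14, 8, 6, 7, 20, 17, 23], [1, 18, 17, 14, 13, 7, 21, 2, 10, 16, 4, 3, 12, 0, 8, 5, 19, 6, 20, 22, 11, 9, 15, 23], [([0], 1), ([0, 0, 1, 1], 1), ([1], 1), ([0, 0, 1, 0, 1, 1], 1)]),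
  ((5, 11, 23), [6, 15, 16, 3, 4, 7, 10, 19, 11, 9, 20, 1, 14, 22, 21, 17, 5, 8, 0, 2, 18, 13, 12, 23], [10, 12, 1, 15, 17, 13, 16, 0, 21, 6, 14, 9, 8, 20, 4, 2, 18, 11, 7, 19, 22, 5, 3, 23], [([0], 1), ([0, 0, 0, 1], 1), ([1], 1), ([0, 1], 1)]),
  ((5, 23, 23), [21, 16, 5, 3, 18, 9, 6, 11, 8, 1, 7, 4, 13, 15, 17, 14, 2, 12, 10, 20, 22, 19, 0, 23], [19, 7, 5, 17, 2, 1, 11, 0, 6, 12, 15, 22, 10, 4, 9, 21, 3, 20, 8, 14, 13, 18, 16, 23], [([0], 1), ([0, 0, 0, 1], 1), ([0, 1, 1, 1], 1), ([1], 1)]),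
  ((7, 7, 7), [19, 21, 22, 0, 2, 4, 20, 13, 18, 3, 9, 6, 15, 12, 5, 11, 16, 17, 14, 1, 7, 10, 8, 23], [11, 13, 1, 9, 6, 5, 7, 8, 18, 10, 12, 3, 14, 17, 0, 15, 2, 21, 22, 16, 4, 19, 20, 23], [([0, 0, 1, 1, 0, 1], 1), ([0], 1), ([0, 0, 1, 0, 1, 1], 1), ([0, 0, 0, 1, 1], 1)]),
  ((7, 7, 11), [18, 20, 0, 7, 8, 17, 9, 19, 22, 13, 10, 5, 1, 14, 2, 11, 3, 4, 6, 12, 16, 21, 15, 23], [21, 10, 18, 15, 19, 13, 4, 1, 22, 6, 2, 11, 12, 7, 9, 20, 17, 3, 5, 0, 8, 14, 16, 23], [([0, 0, 1, 1], 1), ([0], 1), ([0, 1], 1), ([0, 1, 1], 1)]),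
  ((7, 7, 23), [14, 1, 15, 19, 20, 10, 12, 5, 11, 13, 21, 16, 0, 17, 3, 8, 4, 7, 6, 18, 2, 9, 22, 23], [21, 2, 14, 3, 20, 12, 10, 5, 1, 6, 16, 15, 8, 11, 7, 4, 22, 18, 13, 19, 17, 9, 0, 23], [([0, 0, 1, 1], 1), ([0], 1), ([0, 1, 1], 1), ([0, 1], 1)]),
  ((7, 11, 11), [16, 22, 18, 13, 20, 19, 2, 7, 0, 10, 1, 14, 17, 4, 9, 15, 3, 5, 12, 6, 8, 11, 21, 23], [4, 8, 3, 20, 22, 6, 7, 11, 21, 16, 14, 0, 9, 19, 5, 1, 15, 17, 2, 10, 12, 18, 13, 23], [([0, 0, 1, 1, 1], 1), ([0], 1), ([1], 1), ([0, 0, 0, 0, 1, 1], 1)]),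
  ((7, 11, 23), [13, 19, 1, 12, 10, 9, 16, 7, 4, 15, 17, 14, 6, 20, 3, 0, 21, 2, 5, 8, 18, 11, 22, 23], [9, 4, 3, 21, 20, 2, 18, 19, 6, 1, 5, 11, 13, 7, 0, 22, 15, 8, 16, 17, 10, 14, 12, 23], [([0, 1, 0, 1, 1], 1), ([0], 1), ([1], 1), ([0, 1], 1)]),
  ((7, 23, 23), [18, 2, 6, 16, 0, 11, 3, 1, 8, 19, 17, 21, 10, 13, 7, 12, 14, 22, 20, 15, 5, 4, 9, 23], [1, 12, 21, 0, 2, 15, 13, 16, 7, 19, 14, 8, 9, 20, 22, 17, 5, 3, 10, 18, 11, 6, 4, 23], [([0, 0, 1, 0, 1], 1), ([0], 1), ([0, 0, 0, 1, 1], 1), ([1], 1)]),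
  ((11, 11, 11), [14, 13, 9, 8, 1, 3, 20, 11, 22, 0, 6, 21, 12, 16, 5, 18, 17, 7, 4, 15, 2, 19, 10, 23], [3, 21, 18, 12, 17, 7, 15, 13, 1, 20, 22, 5, 19, 0, 14, 4, 11, 2, 8, 9, 16, 10, 6, 23], [([0, 1, 0, 1, 1], 1), ([0, 1, 1, 1, 1], 1), ([0], 1), ([0, 0, 0, 0, 1, 1], 1)]),
  ((11, 11, 23), [16, 19, 20, 12, 0, 4, 9, 8, 6, 2, 14, 5, 11, 7, 13, 18, 22, 17, 21, 10, 1, 3, 15, 23], [7, 10, 21, 22, 1, 15, 20, 3, 14, 16, 18, 11, 6, 9, 2, 19, 12, 4, 13, 0, 17, 5, 8, 23], [([0, 0, 0, 1, 1, 1, 0, 1], 1), ([0, 0, 1, 0, 1], 1), ([0], 1), ([0, 1], 1)]),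
  ((11, 23, 23), [10, 17, 2, 5, 11, 20, 7, 9, 4, 0, 12, 19, 1, 14, 16, 21, 18, 22, 8, 3, 13, 6, 15, 23], [14, 3, 18, 20, 6, 8, 7, 2, 11, 4, 17, 1, 22, 16, 15, 19, 10, 0, 13, 21, 9, 12, 5, 23], [([0, 1, 1, 1, 1], 1), ([0, 1, 1], 1), ([0], 1), ([1], 1)]),
  ((23, 23, 23), [17, 19, 11, 0, 15, 2, 10, 3, 20, 12, 14, 18, 22, 6, 16, 21, 7, 9, 8, 13, 1, 5, 4, 23], [18, 4, 10, 13, 14, 17, 2, 9, 19, 8, 11, 15, 5, 21, 6, 3, 1, 22, 20, 16, 7, 12, 0, 23], [([0, 1, 1, 1], 1), ([0, 1, 1], 1), ([0, 0, 1, 1, 1], 1), ([0], 1)])]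

end Cfsg.Agent.Spor.MathieuTriples
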