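import Mathlib

/-!
The theorem of Ree on two permutations generating a transitive group: the numbers of cycles of the two
permutations and of their product add up to at most the degree plus two.
-/

set_option autoImplicit false

namespace Cfsg.Agent.Spor.PermRee

open MulAction

variable {Ω : Type*}

/-- the number of cycles, counting fixed points -/
noncomputable def orbCount (g : Equiv.Perm Ω) : ℕ :=
  Nat.card (orbitRel.Quotient (Subgroup.zpowers g) Ω)

theorem orbCount_pos [Finite Ω] [Nonempty Ω] (g : Equiv.Perm Ω) : 0 < orbCount g := by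
  haveI : Nonempty (orbitRel.Quotient (Subgroup.zpowers g) Ω) :=
    ⟨Quotient.mk'' (Classical.arbitrary Ω)⟩
  exact Nat.card_pos

/-- composition with a permutation -/
noncomputable def T (g : Equiv.Perm Ω) : (Ω → ℚ) →ₗ[ℚ] (Ω → ℚ) :=
  LinearMap.funLeft ℚ ℚ g

/-- one minus a permutation -/
noncomputable def D (g : Equiv.Perm Ω) : (Ω → ℚ) →ₗ[ℚ] (Ω → ℚ) := LinearMap.id - T g

theorem D_apply (g : Equiv.Perm Ω) (v : Ω → ℚ) (a : Ω) : D g v a = v a - v (g a) := rfl

theorem rank_D [Fintype Ω] (g : Equiv.Perm Ω) :
    Module.finrank ℚ (LinearMap.range (D g)) + orbCount g ≤ Fintype.card Ω := by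
  classical
  have h := LinearMap.finrank_range_add_finrank_ker (D g)
  rw [Module.finrank_pi] at h
  rw [← h]
  refine Nat.add_le_add_left ?_ _
  haveI : Fintype (orbitRel.Quotient (Subgroup.zpowers g) Ω) := Fintype.ofFinite _
  let L : (orbitRel.Quotient (Subgroup.zpowers g) Ω → ℚ) →ₗ[ℚ] LinearMap.ker (D g) :=
    (LinearMap.funLeft ℚ ℚ fun a : Ω =>
      (Quotient.mk'' a : orbitRel.Quotient (Subgroup.zpowers g) Ω)).codRestrict _ fun f => by
      rw [LinearMap.mem_ker]
      funext a
      rw [D_apply, Pi.zero_apply, sub_eq_zero]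
      show f (Quotient.mk'' a) = f (Quotient.mk'' (g a))
      congr 1
      exact Quotient.sound (s := orbitRel (Subgroup.zpowers g) Ω)
        ⟨⟨g⁻¹, inv_mem (Subgroup.mem_zpowers g)⟩, g.symm_apply_apply a⟩
  have hL : Function.Injective L := by
    intro f f' e
    funext q
    obtain ⟨a, rfl⟩ := Quotient.mk''_surjective q
    exact congrFun (congrArg Subtype.val e) a
  have := LinearMap.finrank_le_finrank_of_injective hL
  rwa [Module.finrank_pi, ← Nat.card_eq_fintype_card] at this

theorem sum_single [Fintype Ω] [DecidableEq Ω] (v : Ω → ℚ) :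
    v = ∑ a, v a • (Pi.single a (1 : ℚ) : Ω → ℚ) := by
  funext b
  rw [Finset.sum_apply, Finset.sum_eq_single b]
  · simp
  · intro a _ hab
    simp [Pi.single_eq_of_ne (Ne.symm hab)]
  · simp

/-- Ree's inequality -/
theorem ree [Fintype Ω] [Nonempty Ω] (x y : Equiv.Perm Ω)
    (htr : ∀ a b : Ω, ∃ g ∈ Subgroup.closure ({x, y} : Set (Equiv.Perm Ω)), g a = b) :
    orbCount x + orbCount y + orbCount (x * y) ≤ Fintype.card Ω + 2 := by
  classical
  obtain ⟨o⟩ := ‹Nonempty Ω›
  have hx := rank_D x
  have hy := rank_D y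
  have hz := rank_D (x * y)
  -- the differences of unit vectors
  set S : Submodule ℚ (Ω → ℚ) := LinearMap.range (D y) ⊔ LinearMap.range (D x) with hS
  let K : Subgroup (Equiv.Perm Ω) :=
    { carrier := {g | ∀ a, Pi.single a (1 : ℚ) - Pi.single (g a) (1 : ℚ) ∈ S}
      one_mem' := fun a => by simp
      mul_mem' := fun {g h} hg hh a => by
        have e := S.add_mem (hh a) (hg (h a))
        rwa [sub_add_sub_cancel] at e
      inv_mem' := fun {g} hg a => by
        have e := hg (g⁻¹ a)
        rw [show g (g⁻¹ a) = a from g.apply_symm_apply a] at e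
        have := S.neg_mem e
        rwa [neg_sub] at this }
  have hgen : ∀ g : Equiv.Perm Ω, LinearMap.range (D g) ≤ S → g ∈ K := by
    intro g hg a
    have e : D g (Pi.single (g a) (-1 : ℚ)) = Pi.single a (1 : ℚ) - Pi.single (g a) (1 : ℚ) := by
      funext b
      rw [D_apply, Pi.sub_apply]
      by_cases h1 : b = a
      · subst h1
        by_cases h2 : g b = b
        · simp [h2]
        · simp [Pi.single_eq_of_ne (Ne.symm h2)]
      · by_cases h2 : b = g a
        · subst h2
          have h3 : g (g a) ≠ g a := fun e => h1 (g.injective e)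
          simp [Pi.single_eq_of_ne h1, Pi.single_eq_of_ne h3]
        · have h3 : g b ≠ g a := fun e => h1 (g.injective e)
          simp [Pi.single_eq_of_ne h1, Pi.single_eq_of_ne h2, Pi.single_eq_of_ne h3]
    exact e ▸ hg (LinearMap.mem_range_self _ _)
  have hdiff : ∀ a, Pi.single a (1 : ℚ) - Pi.single o (1 : ℚ) ∈ S := by
    intro a
    obtain ⟨g, hg, e⟩ := htr a o
    have : g ∈ K := (Subgroup.closure_le K).2 (by
      rintro h (rfl | rfl)
      · exact hgen _ le_sup_right
      · exact hgen _ le_sup_left) hg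
    exact e ▸ this a
  have hSdim : Fintype.card Ω ≤ Module.finrank ℚ S + 1 := by
    have htop : S ⊔ Submodule.span ℚ {(Pi.single o (1 : ℚ) : Ω → ℚ)} = ⊤ := by
      rw [eq_top_iff]
      intro v _
      rw [sum_single v]
      refine Submodule.sum_mem _ fun a _ => Submodule.smul_mem _ _ ?_
      rw [← sub_add_cancel (Pi.single a (1 : ℚ) : Ω → ℚ) (Pi.single o 1)]
      exact Submodule.add_mem_sup (hdiff a) (Submodule.mem_span_singleton_self _)
    have h := Submodule.finrank_add_le_finrank_add_finrank S
      (Submodule.span ℚ {(Pi.single o (1 : ℚ) : Ω → ℚ)})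
    have h1 := finrank_span_le_card (R := ℚ) ({(Pi.single o (1 : ℚ) : Ω → ℚ)} : Set (Ω → ℚ))
    rw [htop, finrank_top, Module.finrank_pi] at h
    simp only [Set.toFinset_singleton, Finset.card_singleton] at h1
    omega
  -- the two maps
  let φ : (Ω → ℚ) →ₗ[ℚ] LinearMap.range (D y) × LinearMap.range (D x) :=
    LinearMap.prod ((D y).rangeRestrict.comp (T x)) (D x).rangeRestrict
  let ψ : LinearMap.range (D y) × LinearMap.range (D x) →ₗ[ℚ] (Ω → ℚ) :=
    LinearMap.coprod (LinearMap.range (D y)).subtype (LinearMap.range (D x)).subtype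
  have hcomp : ψ.comp φ = D (x * y) := by
    refine LinearMap.ext fun v => funext fun a => ?_
    show D y (T x v) a + D x v a = D (x * y) v a
    simp only [D_apply, T, LinearMap.funLeft_apply, Equiv.Perm.mul_apply]
    ring
  have hker : Module.finrank ℚ (LinearMap.ker φ) ≤ 1 := by
    let ev : LinearMap.ker φ →ₗ[ℚ] ℚ := (LinearMap.proj o).comp (LinearMap.ker φ).subtype
    have hev : Function.Injective ev := by
      rw [← LinearMap.ker_eq_bot, LinearMap.ker_eq_bot']
      intro v hv
      have hv0 : (v : Ω → ℚ) o = 0 := hv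
      have h1 : D y (T x v.1) = 0 := congrArg (fun p => (p.1 : Ω → ℚ)) (LinearMap.mem_ker.1 v.2)
      have h2 : D x v.1 = 0 := congrArg (fun p => (p.2 : Ω → ℚ)) (LinearMap.mem_ker.1 v.2)
      have e2 : ∀ a, (v : Ω → ℚ) (x a) = (v : Ω → ℚ) a := fun a => by
        have := congrFun h2 a
        rw [D_apply, Pi.zero_apply, sub_eq_zero] at this
        exact this.symm
      have e1 : ∀ a, (v : Ω → ℚ) (y a) = (v : Ω → ℚ) a := fun a => by
        have := congrFun h1 a
        rw [D_apply, Pi.zero_apply, sub_eq_zero] at this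
        simp only [T, LinearMap.funLeft_apply, e2] at this
        exact this.symm
      let J : Subgroup (Equiv.Perm Ω) :=
        { carrier := {g | ∀ a, (v : Ω → ℚ) (g a) = (v : Ω → ℚ) a}
          one_mem' := fun a => rfl
          mul_mem' := fun {g h} hg hh a => by rw [Equiv.Perm.mul_apply, hg, hh]
          inv_mem' := fun {g} hg a => by
            have := hg (g⁻¹ a)
            rw [show g (g⁻¹ a) = a from g.apply_symm_apply a] at this
            exact this.symm }
      apply Subtype.ext
      funext a
      obtain ⟨g, hg, e⟩ := htr o a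
      have : g ∈ J := (Subgroup.closure_le J).2 (by rintro h (rfl | rfl); exacts [e2, e1]) hg
      show (v : Ω → ℚ) a = 0
      rw [← e, this o, hv0]
    simpa using LinearMap.finrank_le_finrank_of_injective hev
  have hφ := LinearMap.finrank_range_add_finrank_ker φ
  rw [Module.finrank_pi] at hφ
  have hψ := LinearMap.finrank_range_add_finrank_ker ψ
  rw [Module.finrank_prod] at hψ
  have hψr : LinearMap.range ψ = S := by rw [LinearMap.range_coprod, Submodule.range_subtype,
    Submodule.range_subtype]
  rw [hψr] at hψ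
  let φ' : LinearMap.ker (D (x * y)) →ₗ[ℚ] LinearMap.ker ψ :=
    (φ.comp (LinearMap.ker (D (x * y))).subtype).codRestrict (LinearMap.ker ψ) fun v => by
      rw [LinearMap.mem_ker, ← LinearMap.comp_apply, ← LinearMap.comp_assoc, hcomp]
      exact v.2
  have hφ' := LinearMap.finrank_range_add_finrank_ker (K := ℚ) (V := LinearMap.ker (D (x * y)))
    (V₂ := LinearMap.ker ψ) φ'
  have hk1 : Module.finrank ℚ (LinearMap.ker φ') ≤ Module.finrank ℚ (LinearMap.ker φ) := by
    refine LinearMap.finrank_le_finrank_of_injective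
      (f := (((LinearMap.ker (D (x * y))).subtype).comp (LinearMap.ker φ').subtype).codRestrict
        (LinearMap.ker φ) fun v => congrArg Subtype.val (LinearMap.mem_ker.1 v.2)) ?_
    intro v w e
    exact Subtype.ext (Subtype.ext (congrArg (fun u : LinearMap.ker φ => (u : Ω → ℚ)) e))
  have hk2 : Module.finrank ℚ (LinearMap.range φ') ≤ Module.finrank ℚ (LinearMap.ker ψ) :=
    Submodule.finrank_le _
  have hD := LinearMap.finrank_range_add_finrank_ker (D (x * y))
  rw [Module.finrank_pi] at hD
  omega

/-- The number of cycles of an element of prime order. -/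
theorem orbCount_prime [Fintype Ω] [DecidableEq Ω] {g : Equiv.Perm Ω} {p : ℕ} [Fact p.Prime]
    (h : orderOf g = p) :
    p * orbCount g = Fintype.card Ω + (p - 1) * (Finset.univ.filter fun a => g a = a).card := by
  classical
  haveI : Fintype (orbitRel.Quotient (Subgroup.zpowers g) Ω) := Fintype.ofFinite _
  haveI : Fintype (Subgroup.zpowers g) := Fintype.ofFinite _
  have hb := sum_card_fixedBy_eq_card_orbits_mul_card_group (Subgroup.zpowers g) Ω
  have hc : Fintype.card (Subgroup.zpowers g) = p := by
    rw [← Nat.card_eq_fintype_card, Nat.card_zpowers, h]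
  rw [hc, ← Nat.card_eq_fintype_card (α := Quotient _)] at hb
  rw [orbCount, mul_comm, show Nat.card (orbitRel.Quotient (Subgroup.zpowers g) Ω) * p = _ from hb.symm,
    ← Finset.add_sum_erase Finset.univ _ (Finset.mem_univ (1 : Subgroup.zpowers g))]
  congr 1
  · exact Fintype.card_congr ((Equiv.setCongr (Set.eq_univ_of_forall fun a => rfl)).trans
      (Equiv.Set.univ Ω))
  rw [Finset.sum_congr rfl (g := fun _ => (Finset.univ.filter fun a => g a = a).card) ?_,
    Finset.sum_const, Finset.card_erase_of_mem (Finset.mem_univ _), Finset.card_univ, hc, smul_eq_mul]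
  intro k hk
  rw [Finset.mem_erase] at hk
  rw [← Fintype.card_subtype]
  refine Fintype.card_congr (Equiv.subtypeEquivRight fun a => ?_)
  show (k : Equiv.Perm Ω) a = a ↔ g a = a
  obtain ⟨n, hn⟩ := k.2
  refine ⟨fun hka => ?_, fun hga => ?_⟩
  · have hk1 : orderOf (k : Equiv.Perm Ω) = p := by
      refine orderOf_eq_prime ?_ (fun e => hk.1 (Subtype.ext e))
      rw [← hn, ← zpow_natCast, ← zpow_mul, mul_comm, zpow_mul, zpow_natCast, ← h, pow_orderOf_eq_one,
        one_zpow]
    have hgz : g ∈ Subgroup.zpowers (k : Equiv.Perm Ω) := by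
      rw [Subgroup.eq_of_le_of_card_ge (Subgroup.zpowers_le.2 k.2)
        (by rw [Nat.card_zpowers, Nat.card_zpowers, hk1, h])]
      exact Subgroup.mem_zpowers g
    obtain ⟨m, hm⟩ := hgz
    rw [← hm]
    exact Equiv.Perm.zpow_apply_eq_self_of_apply_eq_self hka m
  · rw [← hn]
    exact Equiv.Perm.zpow_apply_eq_self_of_apply_eq_self hga n

end Cfsg.Agent.Spor.PermRee
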