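import Cfsg.Agent.Lib.Spor.MathieuFrob
import Cfsg.Agent.Lib.Spor.MathieuDesign
import Cfsg.Agent.Lib.Spor.MathieuTriplesData
import Cfsg.Agent.Lib.Spor.PermRee

/-!
Generation of the Mathieu group of degree 23 by triples of elements of prime order.
-/

set_option autoImplicit false
set_option maxRecDepth 100000

namespace Cfsg.Agent.Spor.MathieuTriples

open Cfsg Cfsg.Agent.Spor Cfsg.Agent.Spor.MathieuFrob Cfsg.Agent.Spor.MathieuOut
open Cfsg.Agent.Spor.MathieuIdx Cfsg.Agent.Spor.PermRee MulAction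
open scoped Pointwise

abbrev M23 := Cfsg.Spor.M23

/-- powers of an image list -/
def lpow (l : List ℕ) : ℕ → List ℕ
  | 0 => List.range 24
  | n + 1 => lmul l (lpow l n)

/-- a word in two image lists -/
def wordL (x y : List ℕ) (w : List ℕ) : List ℕ :=
  w.foldr (fun k r => lmul (bif k == 0 then x else y) r) (List.range 24)

/-- the list of exact order `p` -/
def ordOK (l : List ℕ) (p : ℕ) : Bool :=
  lok l && (lpow l p == List.range 24) && !(l == List.range 24)

/-- the orders of the witnesses -/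
def witOrd : List ℕ := [5, 7, 11, 23]

/-- a row is in order -/
def rowOK (row : (ℕ × ℕ × ℕ) × List ℕ × List ℕ × List (List ℕ × ℕ)) : Bool :=
  m24ok row.2.1 && m24ok row.2.2.1 && (row.2.1.getD 23 0 == 23) && (row.2.2.1.getD 23 0 == 23) &&
    ordOK row.2.1 row.1.1 && ordOK row.2.2.1 row.1.2.1 &&
    ordOK (lmul row.2.1 row.2.2.1) row.1.2.2 &&
    (List.range 4).all fun i => ordOK
      (lpow (wordL row.2.1 row.2.2.1 (row.2.2.2.getD i ([], 0)).1) (row.2.2.2.getD i ([], 0)).2)
      (witOrd.getD i 0)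

theorem rows_ok : rows.all rowOK = true := by decide +kernel

theorem rep_one : Rep (1 : Equiv.Perm GolayPt) (List.range 24) := fun p => by
  rw [List.getD_eq_getElem _ _ (by rw [List.length_range]; exact idx_lt p), List.getElem_range]
  rfl

theorem rep_lpow {σ : Equiv.Perm GolayPt} {l : List ℕ} (h : Rep σ l) :
    ∀ n, Rep (σ ^ n) (lpow l n) := by
  intro n
  induction n with
  | zero => rw [pow_zero]; exact rep_one
  | succ n ih => rw [pow_succ']; exact h.mul ih

theorem rep_word {x y : Equiv.Perm GolayPt} {lx ly : List ℕ} (hx : Rep x lx) (hy : Rep y ly) :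
    ∀ w : List ℕ, ∃ g ∈ Subgroup.closure ({x, y} : Set (Equiv.Perm GolayPt)), Rep g (wordL lx ly w) := by
  intro w
  induction w with
  | nil => exact ⟨1, one_mem _, rep_one⟩
  | cons k w ih =>
      obtain ⟨g, hg, hr⟩ := ih
      cases hk : (k == 0) with
      | true =>
          refine ⟨x * g, mul_mem (Subgroup.subset_closure (Or.inl rfl)) hg, ?_⟩
          have := hx.mul hr
          simp only [wordL, List.foldr_cons, hk, cond_true] at this ⊢
          exact this
      | false =>
          refine ⟨y * g, mul_mem (Subgroup.subset_closure (Or.inr rfl)) hg, ?_⟩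
          have := hy.mul hr
          simp only [wordL, List.foldr_cons, hk, cond_false] at this ⊢
          exact this

theorem order_of_ok {σ : Equiv.Perm GolayPt} {l : List ℕ} {p : ℕ} (hp : p.Prime) (h : Rep σ l)
    (hok : ordOK l p = true) : orderOf σ = p := by
  haveI := Fact.mk hp
  simp only [ordOK, Bool.and_eq_true, beq_iff_eq, Bool.not_eq_true', beq_eq_false_iff_ne] at hok
  refine orderOf_eq_prime ?_ ?_
  · exact rep_unique (rep_lpow h p) (hok.1.2 ▸ rep_one)
  · rintro rfl
    apply hok.2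
    have hl : l.length = 24 := by
      have := hok.1.1
      simp only [lok, Bool.and_eq_true, beq_iff_eq] at this
      exact this.1.1
    refine List.ext_getElem (by rw [hl, List.length_range]) fun i h1 h2 => ?_
    have e := h (pt i)
    rw [idx_pt i (by omega), List.getD_eq_getElem _ _ h1] at e
    rw [List.getElem_range, e]
    exact idx_pt i (by omega)

/-- the orders of subgroups -/
theorem order_gen : ∀ m ∈ Nat.divisors 1152, ∀ a ∈ Nat.divisors 11, ∀ b ∈ Nat.divisors 5,
    8855 * m / (23 * a) % 23 = 1 → 8855 * m / (11 * b) % 11 = 1 → 23 * a ∣ 8855 * m →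
      11 * b ∣ 8855 * m → m = 1152 := by decide +kernel

theorem eq_top_of_orders (K : Subgroup G23) (h : 8855 ∣ Nat.card K) : K = ⊤ := by
  haveI : Fact (Nat.Prime 23) := ⟨by norm_num⟩
  haveI : Fact (Nat.Prime 11) := ⟨by norm_num⟩
  have hd : Nat.card K ∣ 10200960 := card_G23 ▸ Subgroup.card_subgroup_dvd_card K
  obtain ⟨m, hm⟩ := h
  have hmd : m ∣ 1152 := by
    rw [hm, show 10200960 = 8855 * 1152 by norm_num] at hd
    exact Nat.dvd_of_mul_dvd_mul_left (by norm_num) hd
  have n23 : ¬ 23 ^ 2 ∣ Nat.card K := fun h => absurd (h.trans hd) (by norm_num)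
  have n11 : ¬ 11 ^ 2 ∣ Nat.card K := fun h => absurd (h.trans hd) (by norm_num)
  obtain ⟨Q⟩ : Nonempty (Sylow 23 K) := inferInstance
  obtain ⟨U⟩ : Nonempty (Sylow 11 K) := inferInstance
  have hQ : Nat.card Q = 23 := by
    rw [Q.card_eq_multiplicity,
      factorization_one (Fact.out) (hm ▸ Dvd.dvd.mul_right (by norm_num) m) n23, pow_one]
  have hU : Nat.card U = 11 := by
    rw [U.card_eq_multiplicity,
      factorization_one (Fact.out) (hm ▸ Dvd.dvd.mul_right (by norm_num) m) n11, pow_one]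
  obtain ⟨a, ha, -, ha3, ha2⟩ := normalizer_card_of_prime_sylow Q hQ (dvd23 Q hQ)
  obtain ⟨b, hb, -, hb3, hb2⟩ := normalizer_card_of_prime_sylow U hU (dvd11 n11 U hU)
  have ha4 : 23 * a ∣ 23 * 11 := by
    have t := norm_dvd
      (factorization_one (Fact.out) (by rw [card_G23]; norm_num) (by rw [card_G23]; norm_num))
      Q hQ top23
    rwa [ha] at t
  have hb4 : 11 * b ∣ 11 * 5 := by
    have t := norm_dvd
      (factorization_one (Fact.out) (by rw [card_G23]; norm_num) (by rw [card_G23]; norm_num))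
      U hU top11
    rwa [hb] at t
  rw [hm] at ha2 hb2 ha3 hb3
  have := order_gen m (Nat.mem_divisors.2 ⟨hmd, by norm_num⟩) a
    (Nat.mem_divisors.2 ⟨Nat.dvd_of_mul_dvd_mul_left (by norm_num) ha4, by norm_num⟩) b
    (Nat.mem_divisors.2 ⟨Nat.dvd_of_mul_dvd_mul_left (by norm_num) hb4, by norm_num⟩) ha2 hb2 ha3 hb3
  exact Subgroup.eq_top_of_card_eq _ (by rw [hm, this, card_G23])

/-- the two descriptions of the point stabiliser -/
def toG23 : M23 ≃* G23 where
  toFun g := ⟨⟨g.1, g.2.1⟩, g.2.2⟩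
  invFun g := ⟨g.1.1, g.1.2, g.2⟩
  left_inv _ := rfl
  right_inv _ := rfl
  map_mul' _ _ := rfl

theorem eq_top_of_elements (K : Subgroup M23)
    (h : ∀ p ∈ witOrd, ∃ g ∈ K, orderOf ((g : M23) : Equiv.Perm GolayPt) = p) : K = ⊤ := by
  have hdvd : ∀ p ∈ witOrd, p ∣ Nat.card (K.map toG23.toMonoidHom) := fun p hp => by
    obtain ⟨g, hg, e⟩ := h p hp
    rw [Subgroup.card_map_of_injective toG23.injective, ← e, Subgroup.orderOf_coe]
    exact Subgroup.orderOf_dvd_natCard K hg
  have h8855 : 8855 ∣ Nat.card (K.map toG23.toMonoidHom) := by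
    have a := Nat.Coprime.mul_dvd_of_dvd_of_dvd (by norm_num : Nat.Coprime 5 7) (hdvd 5 (by decide))
      (hdvd 7 (by decide))
    have b := Nat.Coprime.mul_dvd_of_dvd_of_dvd (by norm_num : Nat.Coprime (5 * 7) 11) a
      (hdvd 11 (by decide))
    exact Nat.Coprime.mul_dvd_of_dvd_of_dvd (by norm_num : Nat.Coprime (5 * 7 * 11) 23) b
      (hdvd 23 (by decide))
  have := eq_top_of_orders _ h8855
  apply Subgroup.map_injective (f := toG23.toMonoidHom) toG23.injective
  rw [this]
  exact (Subgroup.map_top_of_surjective _ toG23.surjective).symm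

theorem exists_of_row {p q r : ℕ} (hp : p.Prime) (hq : q.Prime) (hr : r.Prime)
    (h : (p, q, r) ∈ rows.map Prod.fst) :
    ∃ x y z : M23, orderOf x = p ∧ orderOf y = q ∧ orderOf z = r ∧ x * y * z = 1 ∧
      Subgroup.closure {x, y} = ⊤ := by
  obtain ⟨row, hrow, e⟩ := List.mem_map.1 h
  have hok := List.all_eq_true.1 rows_ok row hrow
  simp only [rowOK, Bool.and_eq_true, beq_iff_eq, List.all_eq_true, List.mem_range] at hok
  obtain ⟨⟨⟨⟨⟨⟨⟨hx, hy⟩, hxn⟩, hyn⟩, ox⟩, oy⟩, oz⟩, hw⟩ := hok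
  obtain ⟨⟨p', q', r'⟩, lx, ly, ws⟩ := row
  simp only [Prod.mk.injEq] at e
  obtain ⟨rfl, rfl, rfl⟩ := e
  have hlx := lok_of_m24ok hx
  have hly := lok_of_m24ok hy
  have fixn : ∀ l, lok l = true → l.getD 23 0 = 23 → lperm l none = none := fun l hl e => by
    apply idx_injective
    rw [← rep_lperm hl none]
    exact e
  let x : M23 := ⟨lperm lx, lperm_mem hx, fixn lx hlx hxn⟩
  let y : M23 := ⟨lperm ly, lperm_mem hy, fixn ly hly hyn⟩
  refine ⟨x, y, (x * y)⁻¹, ?_, ?_, ?_, mul_inv_cancel _, ?_⟩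
  · rw [← Subgroup.orderOf_coe]
    exact order_of_ok hp (rep_lperm hlx) ox
  · rw [← Subgroup.orderOf_coe]
    exact order_of_ok hq (rep_lperm hly) oy
  · rw [orderOf_inv, ← Subgroup.orderOf_coe]
    exact order_of_ok hr ((rep_lperm hlx).mul (rep_lperm hly)) oz
  · refine eq_top_of_elements _ fun n hn => ?_
    obtain ⟨i, hi, rfl⟩ := List.getElem_of_mem hn
    have hok := hw i (by simpa [witOrd] using hi)
    rw [List.getD_eq_getElem witOrd 0 hi] at hok
    obtain ⟨g, hg, hrep⟩ := rep_word (rep_lperm hlx) (rep_lperm hly) (ws.getD i ([], 0)).1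
    have himg : g ∈ (Subgroup.closure ({x, y} : Set M23)).map (Subgroup.subtype _) := by
      rw [MonoidHom.map_closure]
      refine Subgroup.closure_mono ?_ hg
      rintro w (rfl | rfl)
      exacts [⟨x, Or.inl rfl, rfl⟩, ⟨y, Or.inr rfl, rfl⟩]
    obtain ⟨k, hk, ek⟩ := himg
    have ek' : (k : Equiv.Perm GolayPt) = g := ek
    refine ⟨k ^ (ws.getD i ([], 0)).2, pow_mem hk _, ?_⟩
    have hpr : (witOrd[i]).Prime := by
      have : ∀ n ∈ witOrd, n.Prime := by
        intro n hn
        simp only [witOrd, List.mem_cons, List.not_mem_nil, or_false] at hn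
        rcases hn with rfl | rfl | rfl | rfl <;> norm_num
      exact this _ (List.getElem_mem hi)
    rw [SubgroupClass.coe_pow, ek']
    exact order_of_ok hpr (rep_lpow hrep _) hok

/-! ### no generation -/

/-- the points other than the fixed one -/
abbrev Pts := {p : GolayPt // p ≠ none}

/-- the action on those points -/
def res : M23 →* Equiv.Perm Pts where
  toFun g := (g : Equiv.Perm GolayPt).subtypePerm fun p => by
    constructor
    · intro h e
      exact h (e ▸ g.2.2)
    · intro h e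
      exact h ((g : Equiv.Perm GolayPt).injective (e.trans g.2.2.symm))
  map_one' := rfl
  map_mul' _ _ := rfl

theorem res_inj : Function.Injective res := fun a b h => by
  refine Subtype.ext (Equiv.ext fun p => ?_)
  by_cases hp : p = none
  · rw [hp]; exact (a.2.2 : (a : Equiv.Perm GolayPt) none = none).trans (b.2.2 : (b : Equiv.Perm GolayPt) none = none).symm
  · exact congrArg Subtype.val (DFunLike.congr_fun h ⟨p, hp⟩)

theorem card_pts : Fintype.card Pts = 23 := by
  rw [Fintype.card_subtype_compl, Fintype.card_subtype_eq]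
  rfl

/-- numbers of cycles -/
theorem cycles (g : M23) :
    (orderOf g = 2 → orbCount (res g) = 15) ∧ (orderOf g = 3 → orbCount (res g) = 11) ∧
    (orderOf g = 5 → orbCount (res g) = 7) ∧ (orderOf g = 7 → orbCount (res g) = 5) := by
  have hn : (g : Equiv.Perm GolayPt) none = none := g.2.2
  have hfix : ((fixSet (g : Equiv.Perm GolayPt)).card) =
      (Finset.univ.filter fun a : Pts => res g a = a).card + 1 := by
    have h2 : fixSet (g : Equiv.Perm GolayPt) =
        insert none ((Finset.univ.filter fun a : Pts => res g a = a).map (Function.Embedding.subtype _)) := by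
      ext p
      simp only [Finset.mem_filter, Finset.mem_univ, true_and, Finset.mem_insert, Finset.mem_map,
        Function.Embedding.subtype_apply]
      constructor
      · intro hp
        by_cases h : p = none
        · exact Or.inl h
        · exact Or.inr ⟨⟨p, h⟩, Subtype.ext hp, rfl⟩
      · rintro (rfl | ⟨a, ha, rfl⟩)
        · exact hn
        · exact congrArg Subtype.val ha
    rw [h2, Finset.card_insert_of_notMem, Finset.card_map]
    simp
  have base : ∀ p : ℕ, p.Prime → orderOf g = p →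
      p * orbCount (res g) = 23 + (p - 1) * ((fixSet (g : Equiv.Perm GolayPt)).card - 1) := by
    intro p hp h
    haveI := Fact.mk hp
    have hz := orbCount_prime (g := res g) (p := p) (by rw [orderOf_injective res res_inj, h])
    rw [hz, card_pts, hfix, Nat.add_sub_cancel]
  have hmem : none ∈ fixSet (g : Equiv.Perm GolayPt) := Finset.mem_filter.2 ⟨Finset.mem_univ _, hn⟩
  have hpos : (fixSet (g : Equiv.Perm GolayPt)).card ≠ 0 := fun e => by
    rw [Finset.card_eq_zero] at e
    rw [e] at hmem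
    exact absurd hmem (Finset.notMem_empty _)
  refine ⟨fun h => ?_, fun h => ?_, fun h => ?_, fun h => ?_⟩
  all_goals have ho : orderOf (g : Equiv.Perm GolayPt) = _ := (Subgroup.orderOf_coe g).trans h
  · have b := base 2 Nat.prime_two h
    rcases invol_by_fix g.2.1 ho with ⟨e, -⟩ | ⟨e, -⟩ <;> omega
  · have b := base 3 Nat.prime_three h
    rcases three_by_fix g.2.1 ho with ⟨e, -⟩ | ⟨e, -⟩ <;> omega
  · have b := base 5 (by norm_num) h
    have e : (fixSet (g : Equiv.Perm GolayPt)).card = 4 := fix_card_5 (g := ⟨g.1, g.2.1⟩) ho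
    omega
  · have b := base 7 (by norm_num) h
    have e := fix_card_7 g.2.1 ho
    omega

theorem none_bad {x y z : M23} {p q r : ℕ} (hx : orderOf x = p) (hy : orderOf y = q) (hz : orderOf z = r)
    (hxyz : x * y * z = 1) (hgen : Subgroup.closure {x, y} = ⊤)
    (hbad : (p = 2 ∧ q = 3) ∨ (p = 2 ∧ q = 5 ∧ r = 5) ∨ (p = 2 ∧ q = 5 ∧ r = 7) ∨
      (p = 3 ∧ q = 3 ∧ (r = 3 ∨ r = 5 ∨ r = 7))) : False := by
  haveI : Nonempty Pts := ⟨⟨some 0, by simp⟩⟩
  have htr : ∀ a b : Pts, ∃ g ∈ Subgroup.closure ({res x, res y} : Set (Equiv.Perm Pts)), g a = b := by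
    intro a b
    obtain ⟨g, hg, e⟩ := fixA_trans {none} {a.1} {b.1}
      (Finset.disjoint_singleton.2 (Ne.symm a.2)) (Finset.disjoint_singleton.2 (Ne.symm b.2))
      (by simp) (by simp)
    let k : M23 := ⟨g.1, g.2, hg none (by simp)⟩
    refine ⟨res k, ?_, Subtype.ext ?_⟩
    · have : res k ∈ (Subgroup.closure ({x, y} : Set M23)).map res :=
        ⟨k, hgen ▸ Subgroup.mem_top k, rfl⟩
      rwa [MonoidHom.map_closure, Set.image_pair] at this
    · rw [Finset.smul_finset_singleton, Finset.singleton_inj] at e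
      exact e
  have h := ree (res x) (res y) htr
  rw [card_pts, ← map_mul] at h
  have hxy : orderOf (x * y) = r := by rw [eq_inv_of_mul_eq_one_left hxyz, orderOf_inv, hz]
  have h0 := orbCount_pos (res (x * y))
  obtain ⟨a2, a3, -, -⟩ := cycles x
  obtain ⟨-, b3, b5, -⟩ := cycles y
  obtain ⟨-, c3, c5, c7⟩ := cycles (x * y)
  rcases hbad with ⟨rfl, rfl⟩ | ⟨rfl, rfl, rfl⟩ | ⟨rfl, rfl, rfl⟩ | ⟨rfl, rfl, rfl | rfl | rfl⟩
  · have := a2 hx; have := b3 hy; omega
  · have := a2 hx; have := b5 hy; have := c5 hxy; omega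
  · have := a2 hx; have := b5 hy; have := c7 hxy; omega
  · have := a3 hx; have := b3 hy; have := c3 hxy; omega
  · have := a3 hx; have := b3 hy; have := c5 hxy; omega
  · have := a3 hx; have := b3 hy; have := c7 hxy; omega

theorem primes_m23 {p : ℕ} (hp : p.Prime) (h : p ∣ 10200960) : p ∈ [2, 3, 5, 7, 11, 23] := by
  rw [show 10200960 = 2 ^ 7 * 3 ^ 2 * 5 * 7 * 11 * 23 by norm_num] at h
  simp only [List.mem_cons, List.not_mem_nil, or_false]
  have aux : ∀ n q : ℕ, q.Prime → p ∣ q ^ n → p = q := fun n q hq h =>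
    (Nat.prime_dvd_prime_iff_eq hp hq).1 (hp.dvd_of_dvd_pow h)
  rcases (Nat.Prime.dvd_mul hp).1 h with h | h
  · rcases (Nat.Prime.dvd_mul hp).1 h with h | h
    · rcases (Nat.Prime.dvd_mul hp).1 h with h | h
      · rcases (Nat.Prime.dvd_mul hp).1 h with h | h
        · rcases (Nat.Prime.dvd_mul hp).1 h with h | h
          · exact Or.inl (aux _ _ Nat.prime_two h)
          · exact Or.inr (Or.inl (aux _ _ Nat.prime_three h))
        · exact Or.inr (Or.inr (Or.inl ((Nat.prime_dvd_prime_iff_eq hp (by norm_num)).1 h)))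
      · exact Or.inr (Or.inr (Or.inr (Or.inl ((Nat.prime_dvd_prime_iff_eq hp (by norm_num)).1 h))))
    · exact Or.inr (Or.inr (Or.inr (Or.inr (Or.inl ((Nat.prime_dvd_prime_iff_eq hp (by norm_num)).1 h)))))
  · exact Or.inr (Or.inr (Or.inr (Or.inr (Or.inr ((Nat.prime_dvd_prime_iff_eq hp (by norm_num)).1 h)))))

/-- every admissible triple has a row -/
theorem rows_cover : ∀ p ∈ [2, 3, 5, 7, 11, 23], ∀ q ∈ [2, 3, 5, 7, 11, 23], ∀ r ∈ [2, 3, 5, 7, 11, 23],
    p ≤ q → q ≤ r → ¬ (p = 2 ∧ q = 2) →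
    ¬ ((p = 2 ∧ q = 3) ∨ (p = 2 ∧ q = 5 ∧ r = 5) ∨ (p = 2 ∧ q = 5 ∧ r = 7) ∨ (p = 3 ∧ q = 3 ∧ r ≤ 7)) →
    (p, q, r) ∈ rows.map Prod.fst := by decide +kernel

theorem triples (p q r : ℕ) (hp : p.Prime) (hq : q.Prime) (hr : r.Prime) (hpq : p ≤ q) (hqr : q ≤ r)
    (hp2 : ¬ (p = 2 ∧ q = 2)) (hdvd : p ∣ 10200960 ∧ q ∣ 10200960 ∧ r ∣ 10200960) :
    (∃ x y z : M23, orderOf x = p ∧ orderOf y = q ∧ orderOf z = r ∧ x * y * z = 1 ∧
        Subgroup.closure {x, y} = ⊤) ↔
      ¬ ((p = 2 ∧ q = 3) ∨ (p = 2 ∧ q = 5 ∧ r = 5) ∨ (p = 2 ∧ q = 5 ∧ r = 7) ∨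
        (p = 3 ∧ q = 3 ∧ r ≤ 7)) := by
  obtain ⟨d1, d2, d3⟩ := hdvd
  constructor
  · rintro ⟨x, y, z, hx, hy, hz, hxyz, hgen⟩ hbad
    refine none_bad hx hy hz hxyz hgen ?_
    rcases hbad with h | h | h | ⟨h1, h2, h3⟩
    · exact Or.inl h
    · exact Or.inr (Or.inl h)
    · exact Or.inr (Or.inr (Or.inl h))
    · refine Or.inr (Or.inr (Or.inr ⟨h1, h2, ?_⟩))
      have := primes_m23 hr d3
      simp only [List.mem_cons, List.not_mem_nil, or_false] at this
      omega
  · intro hgood
    exact exists_of_row hp hq hr (rows_cover p (primes_m23 hp d1) q (primes_m23 hq d2) r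
      (primes_m23 hr d3) hpq hqr hp2 hgood)

end Cfsg.Agent.Spor.MathieuTriples
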