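/-
Majorana axes: decompositions, transport under automorphisms, commuting pairs.
-/
import Cfsg.Prelude.Def_AxialAlgebras

set_option autoImplicit false

namespace Cfsg.Agent.Spor

open Cfsg.Axial

variable {V : Type*} [AddCommGroup V] [Module ℝ V]

theorem mem_eigen {mul : V →ₗ[ℝ] V →ₗ[ℝ] V} {a v : V} {c : ℝ} :
    v ∈ eigen mul a c ↔ mul a v = c • v := Module.End.mem_eigenspace_iff

theorem eigenSum_two (mul : V →ₗ[ℝ] V →ₗ[ℝ] V) (a : V) (c d : ℝ) :
    eigenSum mul a {c, d} = eigen mul a c ⊔ eigen mul a d := by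
  rw [eigenSum, iSup_insert, iSup_singleton]

theorem eigenSum_three (mul : V →ₗ[ℝ] V →ₗ[ℝ] V) (a : V) (c d e : ℝ) :
    eigenSum mul a {c, d, e} = eigen mul a c ⊔ (eigen mul a d ⊔ eigen mul a e) := by
  rw [eigenSum, iSup_insert, iSup_insert, iSup_singleton]

theorem eigenSum_one (mul : V →ₗ[ℝ] V →ₗ[ℝ] V) (a : V) (c : ℝ) :
    eigenSum mul a {c} = eigen mul a c := by
  rw [eigenSum, iSup_singleton]

theorem monsterLaw_zero_zero : monsterLaw (F := ℝ) (1 / 4) (1 / 32) 0 0 = {0} := by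
  unfold monsterLaw; norm_num

theorem monsterLaw_zero_quarter : monsterLaw (F := ℝ) (1 / 4) (1 / 32) 0 (1 / 4) = {1 / 4} := by
  unfold monsterLaw; norm_num

theorem monsterLaw_quarter_quarter :
    monsterLaw (F := ℝ) (1 / 4) (1 / 32) (1 / 4) (1 / 4) = {1, 0} := by
  unfold monsterLaw; norm_num

/-- the quarter part of a vector in the sum of the other two eigenspaces is zero -/
theorem quarter_eq_zero {mul : V →ₗ[ℝ] V →ₗ[ℝ] V} {a v : V}
    (hv : v ∈ eigen mul a (1 / 4)) (hv' : v ∈ eigenSum mul a {1, 0}) : v = 0 := by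
  rw [eigenSum_two] at hv'
  obtain ⟨x, hx, y, hy, rfl⟩ := Submodule.mem_sup.1 hv'
  rw [mem_eigen] at hv hx hy
  rw [map_add, hx, hy, one_smul, zero_smul, add_zero] at hv
  have h2 := congrArg (mul a) hv
  rw [map_smul, map_add, hx, hy, one_smul, zero_smul, add_zero] at h2
  have hx0 : x = 0 := by
    have h3 : (3 / 4 : ℝ) • x = 0 := by
      rw [show (3 / 4 : ℝ) = 1 - 1 / 4 by norm_num, sub_smul, one_smul, ← h2, sub_self]
    exact (smul_eq_zero.1 h3).resolve_left (by norm_num)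
  rw [hx0, zero_add] at hv
  rw [hx0, zero_add]
  exact (smul_eq_zero.1 hv.symm).resolve_left (by norm_num)

theorem product_zero_zero {mul : V →ₗ[ℝ] V →ₗ[ℝ] V} {a u v : V}
    (h : IsPrimitiveAxis mul (monsterLaw (1 / 4) (1 / 32)) majoranaSpectrum a)
    (hu : u ∈ eigen mul a 0) (hv : v ∈ eigen mul a 0) : mul u v ∈ eigen mul a 0 := by
  have := h.1.2.2.2 0 (by simp [majoranaSpectrum]) 0 (by simp [majoranaSpectrum]) u hu v hv
  rwa [monsterLaw_zero_zero, eigenSum_one] at this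

theorem product_zero_quarter {mul : V →ₗ[ℝ] V →ₗ[ℝ] V} {a u v : V}
    (h : IsPrimitiveAxis mul (monsterLaw (1 / 4) (1 / 32)) majoranaSpectrum a)
    (hu : u ∈ eigen mul a 0) (hv : v ∈ eigen mul a (1 / 4)) : mul u v ∈ eigen mul a (1 / 4) := by
  have := h.1.2.2.2 0 (by simp [majoranaSpectrum]) (1 / 4) (by simp [majoranaSpectrum]) u hu v hv
  rwa [monsterLaw_zero_quarter, eigenSum_one] at this

theorem product_quarter_quarter {mul : V →ₗ[ℝ] V →ₗ[ℝ] V} {a u v : V}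
    (h : IsPrimitiveAxis mul (monsterLaw (1 / 4) (1 / 32)) majoranaSpectrum a)
    (hu : u ∈ eigen mul a (1 / 4)) (hv : v ∈ eigen mul a (1 / 4)) :
    mul u v ∈ eigenSum mul a {1, 0} := by
  have := h.1.2.2.2 (1 / 4) (by simp [majoranaSpectrum]) (1 / 4) (by simp [majoranaSpectrum]) u hu v hv
  rwa [monsterLaw_quarter_quarter] at this

/-- the vectors fixed by the involution -/
theorem fixed_mem {mul : V →ₗ[ℝ] V →ₗ[ℝ] V} {B : LinearMap.BilinForm ℝ V} {μ : V ≃ₗ[ℝ] V} {a v : V}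
    (h : IsMajoranaPair mul B μ a) (hv : μ v = v) : v ∈ eigenSum mul a {1, 0, 1 / 4} := by
  obtain ⟨-, -, hax, hfix, hneg⟩ := h
  have htop : eigenSum mul a majoranaSpectrum = eigenSum mul a {1, 0, 1 / 4} ⊔ eigen mul a (1 / 32) := by
    rw [majoranaSpectrum, eigenSum, iSup_insert, iSup_insert, iSup_insert, iSup_singleton,
      eigenSum_three]
    simp only [sup_assoc]
  have hmem : v ∈ eigenSum mul a {1, 0, 1 / 4} ⊔ eigen mul a (1 / 32) := by
    rw [← htop, hax.1.2.2.1]; trivial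
  obtain ⟨s, hs, w, hw, rfl⟩ := Submodule.mem_sup.1 hmem
  rw [map_add, show μ s = s from hfix s hs, show μ w = -w from hneg w hw, add_right_inj,
    neg_eq_iff_add_eq_zero, ← two_smul ℝ w] at hv
  rw [(smul_eq_zero.1 hv).resolve_left (by norm_num), add_zero]
  exact hs

theorem eigen_transport {mul : V →ₗ[ℝ] V →ₗ[ℝ] V} (φ : V ≃ₗ[ℝ] V)
    (hφ : ∀ u v, φ (mul u v) = mul (φ u) (φ v)) (a : V) (c : ℝ) :
    eigen mul (φ a) c = (eigen mul a c).map (φ : V →ₗ[ℝ] V) := by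
  ext v
  rw [Submodule.mem_map, mem_eigen]
  constructor
  · intro h
    refine ⟨φ.symm v, mem_eigen.2 (φ.injective ?_), φ.apply_symm_apply v⟩
    rw [hφ, map_smul, φ.apply_symm_apply, h]
  · rintro ⟨u, hu, rfl⟩
    show mul (φ a) (φ u) = c • φ u
    rw [← hφ, mem_eigen.1 hu, map_smul]

theorem eigenSum_transport {mul : V →ₗ[ℝ] V →ₗ[ℝ] V} (φ : V ≃ₗ[ℝ] V)
    (hφ : ∀ u v, φ (mul u v) = mul (φ u) (φ v)) (a : V) (S : Set ℝ) :
    eigenSum mul (φ a) S = (eigenSum mul a S).map (φ : V →ₗ[ℝ] V) := by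
  simp only [eigenSum, Submodule.map_iSup, eigen_transport φ hφ]

theorem pair_transport {mul : V →ₗ[ℝ] V →ₗ[ℝ] V} {B : LinearMap.BilinForm ℝ V} {μ φ : V ≃ₗ[ℝ] V}
    {a : V} (h : IsMajoranaPair mul B μ a) (hφ : ∀ u v, φ (mul u v) = mul (φ u) (φ v))
    (hcomm : ∀ v, μ (φ v) = φ (μ v)) : IsMajoranaPair mul B μ (φ a) := by
  obtain ⟨hm, hB, ⟨⟨hne, hid, htop, hfus⟩, hone⟩, hfix, hneg⟩ := h
  refine ⟨hm, hB, ⟨⟨fun e => hne (φ.injective (e.trans (map_zero φ).symm)), by rw [← hφ, hid], ?_, ?_⟩, ?_⟩, ?_, ?_⟩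
  · rw [eigenSum_transport φ hφ, htop, Submodule.map_top, LinearEquiv.range]
  · intro c hc d hd u hu v hv
    rw [eigen_transport φ hφ] at hu hv
    obtain ⟨u, hu, rfl⟩ := hu
    obtain ⟨v, hv, rfl⟩ := hv
    rw [eigenSum_transport φ hφ]
    exact ⟨mul u v, hfus c hc d hd u hu v hv, hφ u v⟩
  · rw [eigen_transport φ hφ, hone, Submodule.map_span, Set.image_singleton]; rfl
  · intro v hv
    rw [eigenSum_transport φ hφ] at hv
    obtain ⟨v, hv, rfl⟩ := hv
    show μ (φ v) = φ v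
    rw [hcomm, show μ v = v from hfix v hv]
  · intro v hv
    rw [eigen_transport φ hφ] at hv
    obtain ⟨v, hv, rfl⟩ := hv
    show μ (φ v) = -φ v
    rw [hcomm, show μ v = -v from hneg v hv, map_neg]

/-- an axis fixed by the involution of another one, split along the latter -/
theorem axis_split {mul : V →ₗ[ℝ] V →ₗ[ℝ] V} {B : LinearMap.BilinForm ℝ V}
    (hV : IsMajoranaAmbient mul B) {μ : V ≃ₗ[ℝ] V} {a b : V} (ha : IsMajoranaPair mul B μ a)
    (hn : B a a = 1) (hfix : μ b = b) :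
    ∃ p q : V, b = B a b • a + p + q ∧ p ∈ eigen mul a 0 ∧ q ∈ eigen mul a (1 / 4) ∧
      B a p = 0 ∧ B a q = 0 := by
  have hmem := fixed_mem ha hfix
  rw [eigenSum_three, ha.2.2.1.2] at hmem
  obtain ⟨x, hx, y, hy, rfl⟩ := Submodule.mem_sup.1 hmem
  obtain ⟨p, hp, q, hq, rfl⟩ := Submodule.mem_sup.1 hy
  obtain ⟨l, rfl⟩ := Submodule.mem_span_singleton.1 hx
  have hass : ∀ v, B a (mul a v) = B a v := fun v => by rw [hV.2.2.2.1, ha.2.2.1.1.2.1]
  have hp0 : B a p = 0 := by rw [← hass, mem_eigen.1 hp, zero_smul, map_zero]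
  have hq0 : B a q = 0 := by
    have := hass q
    rw [mem_eigen.1 hq, map_smul, smul_eq_mul] at this
    linarith
  refine ⟨p, q, ?_, hp, hq, hp0, hq0⟩
  rw [map_add, map_add, map_smul, hn, hp0, hq0, smul_eq_mul, mul_one, add_zero, add_zero, add_assoc]

theorem commuting_pair {mul : V →ₗ[ℝ] V →ₗ[ℝ] V} {B : LinearMap.BilinForm ℝ V}
    (hV : IsMajoranaAmbient mul B) {μ₀ μ₁ : V ≃ₗ[ℝ] V} {a₀ a₁ : V}
    (h₀ : IsMajoranaPair mul B μ₀ a₀) (h₁ : IsMajoranaPair mul B μ₁ a₁)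
    (hu₀ : ∀ a : V, IsMajoranaPair mul B μ₀ a → a = a₀)
    (hu₁ : ∀ a : V, IsMajoranaPair mul B μ₁ a → a = a₁)
    (hn₀ : B a₀ a₀ = 1) (hn₁ : B a₁ a₁ = 1) (hc : μ₀ * μ₁ = μ₁ * μ₀) (hne : a₀ ≠ a₁) :
    (B a₀ a₁ = 0 ∧ mul a₀ a₁ = 0) ∨
      (B a₀ a₁ = 1 / 8 ∧
        mul (a₀ + a₁ - (8 : ℝ) • mul a₀ a₁) (a₀ + a₁ - (8 : ℝ) • mul a₀ a₁) =
          a₀ + a₁ - (8 : ℝ) • mul a₀ a₁ ∧
        mul a₀ (a₀ + a₁ - (8 : ℝ) • mul a₀ a₁) =
          (1 / 8 : ℝ) • (a₀ + (a₀ + a₁ - (8 : ℝ) • mul a₀ a₁) - a₁) ∧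
        mul a₁ (a₀ + a₁ - (8 : ℝ) • mul a₀ a₁) =
          (1 / 8 : ℝ) • (a₁ + (a₀ + a₁ - (8 : ℝ) • mul a₀ a₁) - a₀)) := by
  have hcv : ∀ v, μ₀ (μ₁ v) = μ₁ (μ₀ v) := fun v => LinearEquiv.congr_fun hc v
  have f1 : μ₀ a₁ = a₁ := hu₁ _ (pair_transport h₁ h₀.1 fun v => (hcv v).symm)
  have f0 : μ₁ a₀ = a₀ := hu₀ _ (pair_transport h₀ h₁.1 hcv)
  obtain ⟨p, q, e1, hp, hq, hp0, hq0⟩ := axis_split hV h₀ hn₀ f1
  obtain ⟨p', q', e0, hp', hq', -, -⟩ := axis_split hV h₁ hn₁ f0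
  have hA := h₀.2.2.1
  have hid₀ : mul a₀ a₀ = a₀ := h₀.2.2.1.1.2.1
  have hid₁ : mul a₁ a₁ = a₁ := h₁.2.2.1.1.2.1
  have hcm : ∀ u v, mul u v = mul v u := hV.1
  have hsym : B a₁ a₀ = B a₀ a₁ := hV.2.1 _ _
  rw [hsym] at e0
  set l := B a₀ a₁ with hl
  have hp_ := mem_eigen.1 hp
  have hq_ := mem_eigen.1 hq
  have hp'_ := mem_eigen.1 hp'
  have hq'_ := mem_eigen.1 hq'
  -- the product of the two axes
  have m01 : mul a₀ a₁ = l • a₀ + (1 / 4 : ℝ) • q := by
    conv_lhs => rw [e1]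
    rw [map_add, map_add, map_smul, hid₀, hp_, hq_, zero_smul, add_zero]
  have m10 : mul a₁ a₀ = l • a₁ + (1 / 4 : ℝ) • q' := by
    conv_lhs => rw [e0]
    rw [map_add, map_add, map_smul, hid₁, hp'_, hq'_, zero_smul, add_zero]
  have eq' : q' = (4 * l) • a₀ + q - (4 * l) • a₁ := by
    have h := m10
    rw [hcm, m01] at h
    linear_combination (norm := module) (-4 : ℝ) • h
  have m1q : mul a₁ q = (l - 4 * l * l) • a₀ + (1 / 4 - l) • q + (3 * l) • a₁ := by
    have h := hq'_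
    rw [eq', map_sub, map_add, map_smul, map_smul, hid₁, hcm a₁ a₀, m01] at h
    linear_combination (norm := module) h
  have hp2 : mul p p ∈ eigenSum mul a₀ {1, 0} := by
    rw [eigenSum_two]; exact Submodule.mem_sup_right (product_zero_zero hA hp hp)
  have hq2 : mul q q ∈ eigenSum mul a₀ {1, 0} := product_quarter_quarter hA hq hq
  have hpq := product_zero_quarter hA hp hq
  have hone : a₀ ∈ eigenSum mul a₀ {1, 0} := by
    rw [eigenSum_two]; exact Submodule.mem_sup_left (mem_eigen.2 (by rw [hid₀, one_smul]))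
  have hzero : p ∈ eigenSum mul a₀ {1, 0} := by
    rw [eigenSum_two]; exact Submodule.mem_sup_right hp
  have sq1 : mul a₁ a₁ = (l * l) • a₀ + mul p p + mul q q + ((l / 2) • q + (2 : ℝ) • mul p q) := by
    conv_lhs => rw [e1]
    simp only [map_add, map_smul, LinearMap.add_apply, LinearMap.smul_apply, hid₀, hp_, hq_,
      hcm p a₀, hcm q a₀, hcm q p]
    module
  have key : (l / 2) • q + (2 : ℝ) • mul p q = q := by
    refine sub_eq_zero.1 (quarter_eq_zero (sub_mem (add_mem (Submodule.smul_mem _ _ hq)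
      (Submodule.smul_mem _ _ hpq)) hq) ?_)
    have e : (l / 2) • q + (2 : ℝ) • mul p q - q =
        l • a₀ + p - ((l * l) • a₀ + mul p p + mul q q) := by
      linear_combination (norm := module) sq1.symm.trans (hid₁.trans e1)
    rw [e]
    exact sub_mem (add_mem (Submodule.smul_mem _ _ hone) hzero)
      (add_mem (add_mem (Submodule.smul_mem _ _ hone) hp2) hq2)
  have h1q : mul a₁ q = (1 / 2 : ℝ) • q + mul q q := by
    conv_lhs => rw [e1]
    simp only [map_add, map_smul, LinearMap.add_apply, LinearMap.smul_apply, hq_]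
    linear_combination (norm := module) (1 / 2 : ℝ) • key
  have hzero' : (1 / 4 - 2 * l) • q = 0 := by
    refine quarter_eq_zero (Submodule.smul_mem _ _ hq) ?_
    have e : (1 / 4 - 2 * l) • q = (l - l * l) • a₀ + (3 * l) • p - mul q q := by
      linear_combination (norm := module) h1q.symm.trans m1q + (3 * l) • e1
    rw [e]
    exact sub_mem (add_mem (Submodule.smul_mem _ _ hone) (Submodule.smul_mem _ _ hzero)) hq2
  rcases smul_eq_zero.1 hzero' with h8 | hq00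
  · right
    have hl8 : l = 1 / 8 := by linarith
    rw [hl8] at m01 m1q key e1
    have e2 : a₀ + a₁ - (8 : ℝ) • mul a₀ a₁ = a₁ - (2 : ℝ) • q := by
      rw [m01]; module
    rw [e2]
    refine ⟨hl8, ?_, ?_, ?_⟩
    · simp only [map_sub, map_smul, LinearMap.sub_apply, LinearMap.smul_apply, hid₁, hcm q a₁, m1q]
      have hqq : mul q q = mul a₁ q - (1 / 2 : ℝ) • q := by rw [h1q]; module
      rw [hqq, m1q]
      module
    · rw [map_sub, map_smul, hq_, m01]; module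
    · rw [map_sub, map_smul, m1q, hid₁]; module
  · left
    subst hq00
    have hl01 : l = l * l := by
      have e := congrArg (fun v => B a₀ v) (sq1.symm.trans (hid₁.trans e1))
      have hpp : B a₀ (mul p p) = 0 := by
        rw [hV.2.2.2.1, hp_, zero_smul, map_zero, LinearMap.zero_apply]
      simp only [map_add, map_smul, map_zero, smul_zero, hn₀, hp0, hpp, add_zero,
        smul_eq_mul, mul_one] at e
      exact e.symm
    have hl0 : l = 0 := by
      by_contra h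
      have h1 : l = 1 := mul_left_cancel₀ h (by rw [mul_one, ← hl01])
      rw [h1, one_smul, add_zero] at e1
      have hnorm : B a₁ a₁ = 1 + B p p := by
        rw [e1]
        simp only [map_add, LinearMap.add_apply, hn₀, hp0, hV.2.1 p a₀]
        ring
      rw [hn₁] at hnorm
      have hpz : p = 0 := by
        by_contra hpz
        have := hV.2.2.1 p hpz
        linarith
      rw [hpz, add_zero] at e1
      exact hne e1.symm
    exact ⟨hl0, by rw [m01, hl0]; simp⟩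

/-- at most four elements for pairwise type 2A -/
theorem no_eight {mul : V →ₗ[ℝ] V →ₗ[ℝ] V} {B : LinearMap.BilinForm ℝ V}
    (hV : IsMajoranaAmbient mul B) {a y z xy xz yz xyz : V}
    (ha : IsPrimitiveAxis mul (monsterLaw (1 / 4) (1 / 32)) majoranaSpectrum a)
    (e1 : mul a y = (1 / 8 : ℝ) • (a + y - xy)) (e2 : mul a xy = (1 / 8 : ℝ) • (a + xy - y))
    (e3 : mul a z = (1 / 8 : ℝ) • (a + z - xz)) (e4 : mul a xz = (1 / 8 : ℝ) • (a + xz - z))
    (f1 : mul y z = (1 / 8 : ℝ) • (y + z - yz)) (f2 : mul y xz = (1 / 8 : ℝ) • (y + xz - xyz))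
    (e5 : mul a yz = (1 / 8 : ℝ) • (a + yz - xyz)) (e6 : mul a xyz = (1 / 8 : ℝ) • (a + xyz - yz))
    (f3 : mul xy z = (1 / 8 : ℝ) • (xy + z - xyz)) (f4 : mul xy xz = (1 / 8 : ℝ) • (xy + xz - yz)) :
    yz = xyz := by
  have hu : y - xy ∈ eigen mul a (1 / 4) := mem_eigen.2 (by rw [map_sub, e1, e2]; module)
  have hw : z - xz ∈ eigen mul a (1 / 4) := mem_eigen.2 (by rw [map_sub, e3, e4]; module)
  have g1 : yz - xyz ∈ eigen mul a (1 / 4) := mem_eigen.2 (by rw [map_sub, e5, e6]; module)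
  have hp := product_quarter_quarter ha hu hw
  have hval : mul (y - xy) (z - xz) = (-1 / 4 : ℝ) • (yz - xyz) := by
    simp only [map_sub, LinearMap.sub_apply, f1, f2, f3, f4]; module
  rw [hval] at hp
  have hp' : yz - xyz ∈ eigenSum mul a {1, 0} := by
    have := Submodule.smul_mem _ (-4 : ℝ) hp
    rwa [smul_smul, show (-4 : ℝ) * (-1 / 4) = 1 by norm_num, one_smul] at this
  exact sub_eq_zero.1 (quarter_eq_zero g1 hp')

end Cfsg.Agent.Spor
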