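import Mathlib

/-!
Data for the double cover of the Mathieu group of degree twelve: signed permutations and signed hexads.
-/

set_option autoImplicit false

namespace Cfsg.Agent.Spor.MathieuMult.Twelve

/-- The lift of the first generator. -/
def liftA : List ℕ := [1, 0, 4, 5, 2, 3, 7, 6, 10, 11, 8, 9, 13, 12, 16, 17, 14, 15, 19, 18, 22, 23, 20, 21]

/-- The lift of the first generator, inverted. -/
def liftAi : List ℕ := [1, 0, 4, 5, 2, 3, 7, 6, 10, 11, 8, 9, 13, 12, 16, 17, 14, 15, 19, 18, 22, 23, 20, 21]

/-- The lift of the second generator. -/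
def liftB : List ℕ := [2, 3, 6, 7, 8, 9, 0, 1, 12, 13, 14, 15, 4, 5, 18, 19, 20, 21, 10, 11, 22, 23, 16, 17]

/-- The lift of the second generator, inverted. -/
def liftBi : List ℕ := [6, 7, 0, 1, 12, 13, 2, 3, 4, 5, 18, 19, 8, 9, 10, 11, 22, 23, 14, 15, 16, 17, 20, 21]

/-- The signed hexads. -/
def hexads : List ℕ := [1638, 2457, 25161, 37254, 71842, 270501, 140369, 528474, 1081882, 2113829, 4327461, 4727176, 8455194, 8655428, 2196036, 1315936, 1196424, 2631824, 8538256, 9969729, 4212241, 4293728, 6557826, 8423714, 2523394, 1116422, 352516, 1655297, 2229769, 692744, 9077761, 11015176, 5279816, 611344, 4540418, 5515268, 10510468, 436256, 2770948, 10756384, 5382304, 4784273, 1329424, 1410056, 5771792, 10555472, 8781922, 2655776, 8749584, 10782784, 8525344, 6357538, 1327174, 4785668, 4494592, 4866336, 5784704, 4270352, 9568529, 2654345, 8784136, 8940032, 1713408, 11141760, 2140424, 2253328, 9455625, 9511432, 4457545, 1140800, 2431488, 5570880, 1070596, 1151264, 6325254, 6426884, 8915078, 2266240, 6314016, 10627074, 8949920, 8493060, 4620420, 1573282,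 83077, 4280960, 5537825, 9479184, 5313537, 4481104, 4350984, 8994888, 2359889, 165962, 8560960, 11026450, 10523137, 10649640, 2498632, 657938, 1736784, 2688066, 4200970, 82258, 1384466, 5898250, 5267714, 5324820, 1642628, 328993, 2441376, 1443969, 8398085, 164513, 2756641, 10813445, 9052180, 10486945, 297477, 6818049, 8667521, 1059361, 106648, 1315081, 4739077, 5244200, 6359176, 4526120, 5245010, 541962, 9700866, 4751938, 2102546, 151652, 2630150, 8691722, 10488340, 9569348, 2396180, 2230624, 10486090, 8536582, 566340, 398342, 4235812, 4727842, 4199572, 329812, 9454176, 9535618, 1597480, 1115792, 5243525, 4292873, 284808, 600073, 8409368, 8656913, 8398952, 656552, 6324624, 6438977, 8914256, 8423048, 8523913, 2197521, 397712, 542817, 565521, 2114648, 1185816, 598624, 84520, 1057108, 541332, 1082689, 4596225, 4459168, 4213060, 4268102, 1197090, 296082, 283170, 1083556, 2171940, 165140, 2101928, 295272, 2116226, 8982786, 2360708, 153857, 680066, 2138210, 2228374, 9994500, 328330, 530724, 8454564, 1352320, 4198753, 272706, 4326786, 1611778, 1575496,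 108034, 364609, 1069201, 1114217, 6570504, 655685, 271896, 4325976, 2642240, 8397458, 530049, 8456769, 2384897, 8410178, 2361386, 8913449, 8421461, 6685712, 4855872, 1057930, 39504, 1184322, 70165, 37929, 2183178, 4753432, 4237441, 1573909, 4456726, 4210858, 10029088, 8725632, 2103365, 26016, 2171265, 139562, 26646, 1220613, 8668196, 409625, 141956, 10568960, 6299673, 8478753, 9699480, 1442340, 625024, 622630, 70984, 5409280, 9441318, 4362258, 6815844, 2687256, 411200, 9850880, 6301248, 6922240, 9443712]

/-- A signed hexad through the first fibre and a given one. -/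
def through : List ℕ := [1638, 1638, 1638, 1638, 1638, 1638, 25161, 25161, 71842, 270501, 1081882, 4327461]

/-- A word. -/
def wordX : List ℕ := [0, 1, 0, 1, 0, 1, 0, 1, 0, 1, 1, 0, 1]

/-- A word. -/
def wordY : List ℕ := [0, 1, 1, 0, 1, 0, 1, 1, 0, 1, 0, 1, 0, 1, 0, 1, 1, 0]

end Cfsg.Agent.Spor.MathieuMult.Twelve
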