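import Cfsg.Agent.Lib.Spor.MathieuMultBound
import Cfsg.Agent.Lib.Spor.MathieuMultTwelveData
import Cfsg.Agent.Lib.Spor.MathieuMultTwelveCover
import Cfsg.Agent.Lib.Spor.MathieuMultEleven
import Cfsg.Agent.Lib.Spor.MathieuSimple

/-!
The Schur multiplier of the Mathieu group of degree twelve has order two.
-/

set_option autoImplicit false
set_option maxRecDepth 100000

namespace Cfsg.Agent.Spor.MathieuMult

open Cfsg Cfsg.Agent.Local.FS.Mathieu Cfsg.Agent.Solv.StabCocycle Cfsg.Agent.Spor.WordChain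
open scoped commutatorElement

/-- The Mathieu group of degree eleven is perfect. -/
theorem eleven_perfect : commutator ↥Cfsg.Spor.M11 = ⊤ := by
  obtain ⟨φ⟩ : Nonempty (↥Cfsg.Spor.M11 ≃* ↥(Cfsg.Agent.Spor.M11Local.eleven Cfsg.Spor.squareDodecad (some 0))) :=
    ⟨(MonoidHom.ofInjective Cfsg.Agent.Spor.MathieuOutEleven.toM24_inj).trans
      (MulEquiv.subgroupCongr Cfsg.Agent.Spor.MathieuOutEleven.toM24_range)⟩
  haveI : IsSimpleGroup ↥(Cfsg.Agent.Spor.M11Local.eleven Cfsg.Spor.squareDodecad (some 0)) :=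
    simple_dodecad_point Cfsg.Agent.Spor.MathieuOutTwelve.square_mem Cfsg.Agent.Spor.MathieuOutEleven.mem_D_zero
  refine perfect_congr φ (perfect_of_simple ?_)
  obtain ⟨-, -, -, -, rs, -⟩ := el_facts
  refine ⟨φ ⟨_, el_mem.1⟩, φ ⟨_, el_mem.2.1⟩, fun h => rs ?_⟩
  rw [← map_mul, ← map_mul] at h
  exact congrArg Subtype.val (φ.injective h)

namespace Twelve

/-- The first generator. -/
def permA : Equiv.Perm GolayPt := mkPerm genA genAi (by decide +kernel) (by decide +kernel)

/-- The second generator. -/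
def permB : Equiv.Perm GolayPt := mkPerm genB genBi (by decide +kernel) (by decide +kernel)

theorem lst_gens : lst permA = genA ∧ lst permB = genB := ⟨by decide +kernel, by decide +kernel⟩

theorem mem_A : permA ∈ Cfsg.Spor.M12 := m12_mem_of_lst (by decide +kernel)

theorem mem_B : permB ∈ Cfsg.Spor.M12 := m12_mem_of_lst (by decide +kernel)

theorem chain_ok : (chainOK [genA, genB] chain [] && Nat.ble 95040 (chainSize chain)) = true := by decide +kernel

theorem gen_top : Subgroup.closure ({⟨permA, mem_A⟩, ⟨permB, mem_B⟩} : Set Cfsg.Spor.M12) = ⊤ := by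
  have h := chain_ok
  rw [Bool.and_eq_true, Nat.ble_eq] at h
  exact closure_pair_eq (H := Cfsg.Spor.M12) (fun j => if j = 0 then permA else permB) mem_A mem_B card_m12 chain
    (by show chainOK [lst permA, lst permB] chain [] = true; rw [lst_gens.1, lst_gens.2]; exact h.1) h.2

theorem rel_ok : (cert.words.all fun w => w.all (fun j => Nat.blt j 2) &&
    (lword [genA, genB] w == List.range 24)) = true := by decide +kernel

theorem cert_ok : cert.check = true := by decide +kernel

theorem act_ok : (List.range cert.n).all (fun i =>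
    Nat.beq (genA.getD (points.getD i 0) 0) (points.getD (cert.actF 0 i) 0) &&
      Nat.beq (genB.getD (points.getD i 0) 0) (points.getD (cert.actF 1 i) 0) &&
      Nat.blt (points.getD i 0) 24) = true := by decide +kernel

theorem points_ok : points.Nodup ∧ cert.n = 12 ∧ points.length = 12 ∧ points.getD 0 0 = 0 ∧ cert.N = 2 := by
  decide +kernel

/-- The kernel of a stem extension has order at most two. -/
theorem bound (Γ : Type) [Group Γ] [Finite Γ] (σ : Γ →* Cfsg.Spor.M12) (hσ : Cfsg.IsStemExtension σ) :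
    ∃ g : σ.ker, g ^ 2 = 1 ∧ ∀ k : σ.ker, k ∈ Subgroup.zpowers g := by
  obtain ⟨hnd, hn, hlen, hp0, hN⟩ := points_ok
  have hact := act_ok
  simp only [List.all_eq_true, List.mem_range, Bool.and_eq_true, Nat.beq_eq, Nat.blt_eq] at hact
  have key := kernel_bound (X := GolayPt) permA permB mem_A mem_B gen_top
    (fun i => pt (points.getD i 0)) cert cert_ok (fun i hi => ?_) (fun i hi h => ?_)
    (by rw [lst_gens.1, lst_gens.2]; exact rel_ok) ?_ ?_ Γ σ hσ
  · rwa [hN] at key
  · obtain ⟨⟨e1, e2⟩, e3⟩ := hact i hi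
    refine ⟨?_, ?_⟩
    · show permA (pt _) = _
      rw [lst_perm_getD _ e3, lst_gens.1, e1]
    · show permB (pt _) = _
      rw [lst_perm_getD _ e3, lst_gens.2, e2]
  · have e3 := (hact i hi).2
    have h' := congrArg Cfsg.Agent.Spor.idx h
    rw [Cfsg.Agent.Spor.idx_pt _ e3, Cfsg.Agent.Spor.idx_pt _ (by rw [hp0]; norm_num)] at h'
    rw [List.getD_eq_getElem _ _ (by omega), List.getD_eq_getElem _ _ (by omega)] at h'
    exact (hnd.getElem_inj_iff).mp h'
  · exact perfect_congr (stabEquiv Cfsg.Spor.M12 _) eleven_perfect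
  · exact trivial_congr (stabEquiv Cfsg.Spor.M12 _) eleven_trivial

/-- A permutation of the twenty-four signed points. -/
def mkFin (l k : List ℕ) (h1 : ∀ x : Fin 24, Fin.ofNat 24 (k.getD ((Fin.ofNat 24 (l.getD x 0) : Fin 24) : ℕ) 0) = x)
    (h2 : ∀ x : Fin 24, Fin.ofNat 24 (l.getD ((Fin.ofNat 24 (k.getD x 0) : Fin 24) : ℕ) 0) = x) :
    Equiv.Perm (Fin 24) :=
  ⟨fun x => Fin.ofNat 24 (l.getD x 0), fun x => Fin.ofNat 24 (k.getD x 0), h1, h2⟩

/-- The lift of the first generator. -/
def upA : Equiv.Perm (Fin 24) := mkFin liftA liftAi (by decide +kernel) (by decide +kernel)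

/-- The lift of the second generator. -/
def upB : Equiv.Perm (Fin 24) := mkFin liftB liftBi (by decide +kernel) (by decide +kernel)

/-- Exchanging the signs. -/
def swp : Equiv.Perm (Fin 24) :=
  mkFin [1, 0, 3, 2, 5, 4, 7, 6, 9, 8, 11, 10, 13, 12, 15, 14, 17, 16, 19, 18, 21, 20, 23, 22]
    [1, 0, 3, 2, 5, 4, 7, 6, 9, 8, 11, 10, 13, 12, 15, 14, 17, 16, 19, 18, 21, 20, 23, 22]
    (by decide +kernel) (by decide +kernel)

/-- The image of a set of signed points. -/
def imMask (l : List ℕ) (w : ℕ) : ℕ :=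
  ((List.range 24).map fun x => bif w.testBit x then 2 ^ l.getD x 0 else 0).sum

/-- The fibre is met. -/
def occ (w i : ℕ) : Bool := w.testBit (2 * i) || w.testBit (2 * i + 1)

/-- The properties of the elements of the cover. -/
def Good (g : Equiv.Perm GolayPt) (p : Equiv.Perm (Fin 24)) : Prop :=
  (∀ x : Fin 24, g (pt (points.getD ((x : ℕ) / 2) 0)) = pt (points.getD ((p x : ℕ) / 2) 0)) ∧
    (∀ x, p (swp x) = swp (p x)) ∧ ∀ w ∈ hexads, ∃ w' ∈ hexads, ∀ x : Fin 24, w'.testBit (p x) = w.testBit x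

theorem good_one : Good 1 1 :=
  ⟨fun _ => rfl, fun _ => rfl, fun w hw => ⟨w, hw, fun _ => rfl⟩⟩

theorem good_mul {g h : Equiv.Perm GolayPt} {p q : Equiv.Perm (Fin 24)} (h1 : Good g p) (h2 : Good h q) :
    Good (g * h) (p * q) := by
  refine ⟨fun x => ?_, fun x => ?_, fun w hw => ?_⟩
  · rw [Equiv.Perm.mul_apply, Equiv.Perm.mul_apply, h2.1, h1.1]
  · rw [Equiv.Perm.mul_apply, Equiv.Perm.mul_apply, h2.2.1, h1.2.1]
  · obtain ⟨w', hw', e'⟩ := h2.2.2 w hw
    obtain ⟨w'', hw'', e''⟩ := h1.2.2 w' hw'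
    exact ⟨w'', hw'', fun x => by rw [Equiv.Perm.mul_apply, e'', e']⟩

theorem gens_pointwise :
    (∀ x : Fin 24, permA (pt (points.getD ((x : ℕ) / 2) 0)) = pt (points.getD ((upA x : ℕ) / 2) 0)) ∧
    (∀ x : Fin 24, permB (pt (points.getD ((x : ℕ) / 2) 0)) = pt (points.getD ((upB x : ℕ) / 2) 0)) ∧
    (∀ x, upA (swp x) = swp (upA x)) ∧ ∀ x, upB (swp x) = swp (upB x) := by
  decide +kernel

theorem hexads_ok : (hexads.all fun w =>
    (List.range 24).all (fun x => (imMask liftA w).testBit (liftA.getD x 0) == w.testBit x) &&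
    (List.range 24).all (fun x => (imMask liftB w).testBit (liftB.getD x 0) == w.testBit x) &&
    hexads.contains (imMask liftA w) && hexads.contains (imMask liftB w)) = true := by decide +kernel

theorem up_val : (∀ x : Fin 24, ((upA x : ℕ)) = liftA.getD x 0) ∧ ∀ x : Fin 24, ((upB x : ℕ)) = liftB.getD x 0 := by
  decide +kernel

theorem good_gens : Good permA upA ∧ Good permB upB := by
  obtain ⟨a1, b1, a2, b2⟩ := gens_pointwise
  have h := hexads_ok
  simp only [List.all_eq_true, Bool.and_eq_true, List.mem_range, beq_iff_eq, List.contains_iff_mem] at h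
  exact ⟨⟨a1, a2, fun w hw => ⟨_, (h w hw).1.2, fun x => by rw [up_val.1]; exact (h w hw).1.1.1 x x.2⟩⟩,
    ⟨b1, b2, fun w hw => ⟨_, (h w hw).2, fun x => by rw [up_val.2]; exact (h w hw).1.1.2 x x.2⟩⟩⟩

theorem through_ok : (List.range 12).all (fun i => hexads.contains (through.getD i 0) && occ (through.getD i 0) 0 &&
    occ (through.getD i 0) i && (List.range 12).all (fun j =>
      !((through.getD i 0).testBit (2 * j) && (through.getD i 0).testBit (2 * j + 1))) &&
    hexads.all fun w => Nat.beq w (through.getD i 0) || Nat.beq w (imMask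
      [1, 0, 3, 2, 5, 4, 7, 6, 9, 8, 11, 10, 13, 12, 15, 14, 17, 16, 19, 18, 21, 20, 23, 22] (through.getD i 0)) ||
      (List.range 12).any fun j => occ w j != occ (through.getD i 0) j) = true := by decide +kernel

theorem imMask_swp : (List.range 12).all (fun i => (List.range 24).all fun x => (imMask
      [1, 0, 3, 2, 5, 4, 7, 6, 9, 8, 11, 10, 13, 12, 15, 14, 17, 16, 19, 18, 21, 20, 23, 22]
        (through.getD i 0)).testBit x == (through.getD i 0).testBit (bif x % 2 == 0 then x + 1 else x - 1)) = true := by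
  decide +kernel

theorem swp_val : ∀ x : Fin 24, (swp x : ℕ) = bif (x : ℕ) % 2 == 0 then (x : ℕ) + 1 else (x : ℕ) - 1 := by
  decide +kernel

theorem fibre_pts : ∀ i j : Fin 12, pt (points.getD i 0) = pt (points.getD j 0) → i = j := by decide +kernel

theorem good_kernel {d : Equiv.Perm (Fin 24)} (h : Good 1 d) : d = 1 ∨ d = swp := by
  obtain ⟨h1, h2, h3⟩ := h
  have hfib : ∀ x : Fin 24, (d x : ℕ) / 2 = (x : ℕ) / 2 := fun x => by
    have := h1 x
    rw [Equiv.Perm.one_apply] at this
    exact (congrArg Fin.val (fibre_pts ⟨_, by omega⟩ ⟨_, by omega⟩ this)).symm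
  have hsv : ∀ x : Fin 24, d x = x ∨ d x = swp x := fun x => by
    have := hfib x
    have := swp_val x
    rcases Nat.mod_two_eq_zero_or_one (x : ℕ) with e | e <;> simp [e] at this <;>
      rcases Nat.mod_two_eq_zero_or_one (d x : ℕ) with e' | e' <;>
      first
        | exact Or.inl (Fin.ext (by omega))
        | exact Or.inr (Fin.ext (by omega))
  have hsw : ∀ x : Fin 24, swp x ≠ x := by decide +kernel
  have hT := through_ok
  have hI := imMask_swp
  simp only [List.all_eq_true, List.any_eq_true, List.mem_range, Bool.and_eq_true, Bool.or_eq_true, Nat.beq_eq,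
    List.contains_iff_mem, beq_iff_eq, bne_iff_ne, Bool.not_eq_true', Bool.and_eq_false_iff] at hT hI
  have hall : ∀ x : Fin 24, (d x = x ↔ d 0 = 0) := by
    intro x
    obtain ⟨⟨⟨⟨hmem, ho0⟩, hoi⟩, hone⟩, huniq⟩ := hT ((x : ℕ) / 2) (by omega)
    obtain ⟨w', hw', e⟩ := h3 _ hmem
    obtain ⟨w, hwdef⟩ : ∃ w, w = through.getD ((x : ℕ) / 2) 0 := ⟨_, rfl⟩
    rw [← hwdef] at hmem ho0 hoi hone huniq e
    have hpick : ∀ j < 12, occ w j = true →
        ∃ y : Fin 24, (y : ℕ) / 2 = j ∧ w.testBit y = true ∧ w.testBit (swp y) = false := by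
      intro j hj ho
      rw [occ, Bool.or_eq_true] at ho
      rcases ho with ho | ho
      · refine ⟨⟨2 * j, by omega⟩, by simp, ho, ?_⟩
        rcases hone j hj with h | h
        · rw [h] at ho; exact absurd ho (by simp)
        · rw [swp_val]; simpa using h
      · refine ⟨⟨2 * j + 1, by omega⟩, by simp; omega, ho, ?_⟩
        rcases hone j hj with h | h
        · rw [swp_val, show ((⟨2 * j + 1, by omega⟩ : Fin 24) : ℕ) = 2 * j + 1 from rfl,
            show ((2 * j + 1) % 2 == 0) = false by simp]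
          simpa using h
        · rw [h] at ho; exact absurd ho (by simp)
    have hcl : ∀ y : Fin 24, (y : ℕ) / 2 = (x : ℕ) / 2 ∨ (y : ℕ) / 2 = 0 →
        (d y = y ↔ w' = w) := by
      intro y hy
      obtain ⟨y0, hy0, t1, t2⟩ := hpick ((y : ℕ) / 2) (by omega) (by
        rcases hy with hy | hy <;> rw [hy]
        exacts [hoi, ho0])
      have hyy : y = y0 ∨ y = swp y0 := by
        have := swp_val y0
        rcases Nat.mod_two_eq_zero_or_one (y0 : ℕ) with e | e <;> simp [e] at this <;>
          rcases Nat.mod_two_eq_zero_or_one (y : ℕ) with e' | e' <;>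
          first
            | exact Or.inl (Fin.ext (by omega))
            | exact Or.inr (Fin.ext (by omega))
      have hy0y : d y = y ↔ d y0 = y0 := by
        rcases hyy with rfl | rfl
        · rfl
        · rw [h2]; exact ⟨fun h => swp.injective h, fun h => by rw [h]⟩
      rw [hy0y]
      have hocc : ∀ j < 12, occ w' j = occ w j := by
        intro j hj
        have a1 := e ⟨2 * j, by omega⟩
        have a2 := e ⟨2 * j + 1, by omega⟩
        have b1 := hfib ⟨2 * j, by omega⟩
        have b2 := hfib ⟨2 * j + 1, by omega⟩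
        have hne : (d ⟨2 * j, by omega⟩ : ℕ) ≠ d ⟨2 * j + 1, by omega⟩ := fun h => by
          have := congrArg Fin.val (d.injective (Fin.ext h))
          simp at this
        simp only at a1 a2 b1 b2
        rw [occ, occ, ← a1, ← a2]
        rcases Nat.mod_two_eq_zero_or_one (d ⟨2 * j, by omega⟩ : ℕ) with h | h
        · rw [show (d ⟨2 * j, by omega⟩ : ℕ) = 2 * j by omega, show (d ⟨2 * j + 1, by omega⟩ : ℕ) = 2 * j + 1 by omega]
        · rw [show (d ⟨2 * j, by omega⟩ : ℕ) = 2 * j + 1 by omega, show (d ⟨2 * j + 1, by omega⟩ : ℕ) = 2 * j by omega,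
            Bool.or_comm]
      refine ⟨fun hd => ?_, fun hw => ?_⟩
      · rcases huniq w' hw' with (h | h) | ⟨j, hj, h⟩
        · exact h
        · have h' := e y0
          rw [hd, h, hwdef, hI ((x : ℕ) / 2) (by omega) y0 y0.2, ← swp_val, ← hwdef, t1, t2] at h'
          exact absurd h' (by simp)
        · exact absurd (hocc j hj) h
      · rcases hsv y0 with h | h
        · exact h
        · have h' := e y0
          rw [h, hw, t1, t2] at h'
          exact absurd h' (by simp)
    rw [hcl x (Or.inl rfl), hcl 0 (Or.inr rfl)]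
  rcases hsv 0 with h | h
  · exact Or.inl (Equiv.ext fun x => (hall x).2 h)
  · refine Or.inr (Equiv.ext fun x => (hsv x).resolve_left fun hx => hsw 0 ?_)
    rw [← h, (hall x).1 hx]

/-- The pair of a letter. -/
def up (j : ℕ) : Cfsg.Spor.M12 × Equiv.Perm (Fin 24) :=
  if j = 0 then (⟨permA, mem_A⟩, upA) else (⟨permB, mem_B⟩, upB)

theorem word_facts :
    lmul (lword [genA, genB] wordX) (lword [genA, genB] wordY) =
      lmul (lword [genA, genB] wordY) (lword [genA, genB] wordX) ∧
    (evalW (fun j => if j = 0 then upA else upB) wordX * evalW (fun j => if j = 0 then upA else upB) wordY =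
      swp * (evalW (fun j => if j = 0 then upA else upB) wordY * evalW (fun j => if j = 0 then upA else upB) wordX)) ∧
    (∀ j ∈ wordX ++ wordY, j < 2) :=
  ⟨by decide +kernel, by decide +kernel, by decide +kernel⟩

set_option maxHeartbeats 1000000 in
/-- The double cover. -/
theorem exists_cover : ∃ (Γ : Type) (_ : Group Γ) (_ : Finite Γ) (σ : Γ →* Cfsg.Spor.M12),
    Cfsg.IsStemExtension σ ∧ Nonempty (σ.ker ≃* Multiplicative (ZMod 2)) := by
  obtain ⟨T, hT⟩ : ∃ T, T = Subgroup.closure ({up 0, up 1} : Set (Cfsg.Spor.M12 × Equiv.Perm (Fin 24))) :=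
    ⟨_, rfl⟩
  have hgood : ∀ t ∈ T, Good (t.1 : Equiv.Perm GolayPt) t.2 := by
    intro t ht
    rw [hT, ← Subgroup.mem_toSubmonoid, Subgroup.closure_toSubmonoid_of_finite] at ht
    induction ht using Submonoid.closure_induction with
    | mem x hx =>
      rcases hx with rfl | rfl
      exacts [good_gens.1, good_gens.2]
    | one => exact good_one
    | mul x y _ _ hx hy => exact good_mul hx hy
  obtain ⟨σ, hσ⟩ : ∃ σ : T →* Cfsg.Spor.M12, ∀ t, σ t = t.1.1 :=
    ⟨(MonoidHom.fst _ _).comp T.subtype, fun _ => rfl⟩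
  have hsurj : Function.Surjective σ := by
    rw [← MonoidHom.range_eq_top, eq_top_iff, ← gen_top, Subgroup.closure_le]
    rintro g (rfl | rfl)
    · exact ⟨⟨up 0, hT ▸ Subgroup.subset_closure (Or.inl rfl)⟩, hσ _⟩
    · exact ⟨⟨up 1, hT ▸ Subgroup.subset_closure (Or.inr rfl)⟩, hσ _⟩
  have hev : ∀ w, evalW up w ∈ T := fun w => by
    induction w with
    | nil => exact one_mem T
    | cons j w ih =>
      rw [evalW]
      refine mul_mem ih (hT ▸ Subgroup.subset_closure ?_)
      by_cases h : j = 0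
      · rw [h]; exact Or.inl rfl
      · exact Or.inr (show up j = up 1 by simp [up, h])
  have hfst : ∀ w, ((evalW up w).1 : Equiv.Perm GolayPt) = evalW (fun j => if j = 0 then permA else permB) w ∧
      (evalW up w).2 = evalW (fun j => if j = 0 then upA else upB) w := fun w => by
    induction w with
    | nil => exact ⟨rfl, rfl⟩
    | cons j w ih =>
      simp only [evalW, Prod.fst_mul, Prod.snd_mul, Subgroup.coe_mul, ih.1, ih.2]
      by_cases h : j = 0 <;> simp [up, h]
  obtain ⟨X, hX⟩ : ∃ X : T, (X : _ × _) = evalW up wordX := ⟨⟨evalW up wordX, hev wordX⟩, rfl⟩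
  obtain ⟨Y, hY⟩ : ∃ Y : T, (Y : _ × _) = evalW up wordY := ⟨⟨evalW up wordY, hev wordY⟩, rfl⟩
  obtain ⟨w1, w2, w3⟩ := word_facts
  have hk1 : σ ⁅X, Y⁆ = 1 := by
    rw [map_commutatorElement, commutatorElement_eq_one_iff_mul_comm, hσ, hσ, hX, hY]
    refine Subtype.ext (lst_injective ?_)
    have hl : ∀ w, (∀ j ∈ w, j < 2) →
        lst (evalW (fun j => if j = 0 then permA else permB) w) = lword [genA, genB] w := by
      refine fun w hw => lst_word _ _ w fun j hj => ?_
      obtain rfl | rfl : j = 0 ∨ j = 1 := by have := hw j hj; omega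
      exacts [lst_gens.1.symm, lst_gens.2.symm]
    rw [Subgroup.coe_mul, Subgroup.coe_mul, lst_lmul, lst_lmul, (hfst _).1, (hfst _).1,
      hl _ fun j hj => w3 j (List.mem_append_left _ hj), hl _ fun j hj => w3 j (List.mem_append_right _ hj)]
    exact w1
  have hk2 : (((⁅X, Y⁆ : T)) : Cfsg.Spor.M12 × Equiv.Perm (Fin 24)).2 = swp := by
    rw [commutatorElement_def]
    simp only [Subgroup.coe_mul, Subgroup.coe_inv, Prod.snd_mul, Prod.snd_inv, hX, hY, (hfst _).2]
    rw [w2]
    group
  obtain ⟨z, hz⟩ : ∃ z : σ.ker, (z : T) = ⁅X, Y⁆ := ⟨⟨_, hk1⟩, rfl⟩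
  have hall : ∀ t : σ.ker, t = 1 ∨ t = z := by
    intro t
    have ht : ((t : T) : Cfsg.Spor.M12 × Equiv.Perm (Fin 24)).1 = 1 := by rw [← hσ]; exact t.2
    have hg := hgood _ (t : T).2
    rw [ht] at hg
    rcases good_kernel hg with h | h
    · exact Or.inl (Subtype.ext (Subtype.ext (Prod.ext ht h)))
    · refine Or.inr (Subtype.ext (Subtype.ext (Prod.ext ?_ ?_)))
      · rw [ht, ← hσ, z.2]
      · rw [h, hz, hk2]
  have hne : z ≠ 1 := fun e => by
    have := congrArg (fun u : σ.ker => ((u : T) : Cfsg.Spor.M12 × Equiv.Perm (Fin 24)).2) e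
    simp only [hz, hk2] at this
    simp only [OneMemClass.coe_one, Prod.snd_one] at this
    exact absurd (Equiv.ext_iff.mp this 0) (by decide +kernel)
  have hcard : Nat.card σ.ker = 2 := Nat.card_eq_two_iff.mpr
    ⟨1, z, Ne.symm hne, Set.eq_univ_of_forall fun t => by rcases hall t with h | h <;> simp [h]⟩
  refine ⟨T, inferInstance, inferInstance, σ, ⟨hsurj, fun t ht => ?_, fun t ht => ?_⟩, ?_⟩
  · refine Subgroup.mem_center_iff.2 fun s => Subtype.ext (Prod.ext ?_ ?_)
    · have h1 : (t : Cfsg.Spor.M12 × Equiv.Perm (Fin 24)).1 = 1 := by rw [← hσ]; exact ht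
      simp [h1]
    · have hg := hgood _ t.2
      rw [show (t : Cfsg.Spor.M12 × Equiv.Perm (Fin 24)).1 = 1 by rw [← hσ]; exact ht] at hg
      rcases good_kernel hg with h | h
      · simp [h]
      · simp only [Subgroup.coe_mul, Prod.snd_mul, h]
        exact Equiv.ext fun x => (hgood _ s.2).2.1 x
  · rcases hall ⟨t, ht⟩ with e | e
    · rw [show t = 1 from congrArg Subtype.val e]; exact one_mem _
    · rw [show t = ⁅X, Y⁆ from (congrArg Subtype.val e).trans hz]
      exact Subgroup.commutator_mem_commutator (Subgroup.mem_top X) (Subgroup.mem_top Y)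
  · haveI : Fact (Nat.Prime 2) := ⟨Nat.prime_two⟩
    exact ⟨mulEquivOfPrimeCardEq (p := 2) hcard (by simp)⟩

/-- The Schur multiplier of the Mathieu group of degree twelve has order two. -/
theorem multiplier : Cfsg.HasCyclicSchurMultiplier ↥Cfsg.Spor.M12 2 :=
  Cfsg.Agent.Solv.hasCyclicSchur_of exists_cover fun Γ _ _ σ hσ => bound Γ σ hσ

end Twelve

end Cfsg.Agent.Spor.MathieuMult
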