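import Cfsg.Agent.Lib.Spor.MathieuMultTwentyThreeData

/-!
End points of the relators on the dodecads for the Mathieu group of degree twenty-three.
-/

set_option autoImplicit false
set_option maxRecDepth 100000

namespace Cfsg.Agent.Spor.MathieuMult.TwentyThree

open Cfsg.Agent.Solv.StabCocycle

theorem end0_0 : ((List.range 322).all fun j =>
    Nat.beq (endPt cert.actF (cert.words.getD 0 []) (0 + j)) (0 + j)) = true := by
  decide +kernel

theorem end0_1 : ((List.range 322).all fun j =>
    Nat.beq (endPt cert.actF (cert.words.getD 0 []) (322 + j)) (322 + j)) = true := by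
  decide +kernel

theorem end0_2 : ((List.range 322).all fun j =>
    Nat.beq (endPt cert.actF (cert.words.getD 0 []) (644 + j)) (644 + j)) = true := by
  decide +kernel

theorem end0_3 : ((List.range 322).all fun j =>
    Nat.beq (endPt cert.actF (cert.words.getD 0 []) (966 + j)) (966 + j)) = true := by
  decide +kernel

theorem end0 {i : ℕ} (hi : i < 1288) : endPt cert.actF (cert.words.getD 0 []) i = i := by
  have key : ∀ st, ((List.range 322).all fun j =>
      Nat.beq (endPt cert.actF (cert.words.getD 0 []) (st + j)) (st + j)) = true →
      st ≤ i → i < st + 322 → endPt cert.actF (cert.words.getD 0 []) i = i := fun st h h1 h2 => by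
    have := List.all_eq_true.mp h (i - st) (List.mem_range.mpr (by omega))
    rwa [Nat.beq_eq, Nat.add_sub_cancel' h1] at this
  by_cases c1 : i < 322
  · exact key 0 end0_0 (Nat.zero_le _) (by omega)
  by_cases c2 : i < 644
  · exact key 322 end0_1 (by omega) (by omega)
  by_cases c3 : i < 966
  · exact key 644 end0_2 (by omega) (by omega)
  exact key 966 end0_3 (by omega) (by omega)

theorem end1_0 : ((List.range 322).all fun j =>
    Nat.beq (endPt cert.actF (cert.words.getD 1 []) (0 + j)) (0 + j)) = true := by
  decide +kernel

theorem end1_1 : ((List.range 322).all fun j =>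
    Nat.beq (endPt cert.actF (cert.words.getD 1 []) (322 + j)) (322 + j)) = true := by
  decide +kernel

theorem end1_2 : ((List.range 322).all fun j =>
    Nat.beq (endPt cert.actF (cert.words.getD 1 []) (644 + j)) (644 + j)) = true := by
  decide +kernel

theorem end1_3 : ((List.range 322).all fun j =>
    Nat.beq (endPt cert.actF (cert.words.getD 1 []) (966 + j)) (966 + j)) = true := by
  decide +kernel

theorem end1 {i : ℕ} (hi : i < 1288) : endPt cert.actF (cert.words.getD 1 []) i = i := by
  have key : ∀ st, ((List.range 322).all fun j =>
      Nat.beq (endPt cert.actF (cert.words.getD 1 []) (st + j)) (st + j)) = true →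
      st ≤ i → i < st + 322 → endPt cert.actF (cert.words.getD 1 []) i = i := fun st h h1 h2 => by
    have := List.all_eq_true.mp h (i - st) (List.mem_range.mpr (by omega))
    rwa [Nat.beq_eq, Nat.add_sub_cancel' h1] at this
  by_cases c1 : i < 322
  · exact key 0 end1_0 (Nat.zero_le _) (by omega)
  by_cases c2 : i < 644
  · exact key 322 end1_1 (by omega) (by omega)
  by_cases c3 : i < 966
  · exact key 644 end1_2 (by omega) (by omega)
  exact key 966 end1_3 (by omega) (by omega)

theorem end2_0 : ((List.range 322).all fun j =>
    Nat.beq (endPt cert.actF (cert.words.getD 2 []) (0 + j)) (0 + j)) = true := by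
  decide +kernel

theorem end2_1 : ((List.range 322).all fun j =>
    Nat.beq (endPt cert.actF (cert.words.getD 2 []) (322 + j)) (322 + j)) = true := by
  decide +kernel

theorem end2_2 : ((List.range 322).all fun j =>
    Nat.beq (endPt cert.actF (cert.words.getD 2 []) (644 + j)) (644 + j)) = true := by
  decide +kernel

theorem end2_3 : ((List.range 322).all fun j =>
    Nat.beq (endPt cert.actF (cert.words.getD 2 []) (966 + j)) (966 + j)) = true := by
  decide +kernel

theorem end2 {i : ℕ} (hi : i < 1288) : endPt cert.actF (cert.words.getD 2 []) i = i := by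
  have key : ∀ st, ((List.range 322).all fun j =>
      Nat.beq (endPt cert.actF (cert.words.getD 2 []) (st + j)) (st + j)) = true →
      st ≤ i → i < st + 322 → endPt cert.actF (cert.words.getD 2 []) i = i := fun st h h1 h2 => by
    have := List.all_eq_true.mp h (i - st) (List.mem_range.mpr (by omega))
    rwa [Nat.beq_eq, Nat.add_sub_cancel' h1] at this
  by_cases c1 : i < 322
  · exact key 0 end2_0 (Nat.zero_le _) (by omega)
  by_cases c2 : i < 644
  · exact key 322 end2_1 (by omega) (by omega)
  by_cases c3 : i < 966
  · exact key 644 end2_2 (by omega) (by omega)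
  exact key 966 end2_3 (by omega) (by omega)

theorem end3_0 : ((List.range 322).all fun j =>
    Nat.beq (endPt cert.actF (cert.words.getD 3 []) (0 + j)) (0 + j)) = true := by
  decide +kernel

theorem end3_1 : ((List.range 322).all fun j =>
    Nat.beq (endPt cert.actF (cert.words.getD 3 []) (322 + j)) (322 + j)) = true := by
  decide +kernel

theorem end3_2 : ((List.range 322).all fun j =>
    Nat.beq (endPt cert.actF (cert.words.getD 3 []) (644 + j)) (644 + j)) = true := by
  decide +kernel

theorem end3_3 : ((List.range 322).all fun j =>
    Nat.beq (endPt cert.actF (cert.words.getD 3 []) (966 + j)) (966 + j)) = true := by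
  decide +kernel

theorem end3 {i : ℕ} (hi : i < 1288) : endPt cert.actF (cert.words.getD 3 []) i = i := by
  have key : ∀ st, ((List.range 322).all fun j =>
      Nat.beq (endPt cert.actF (cert.words.getD 3 []) (st + j)) (st + j)) = true →
      st ≤ i → i < st + 322 → endPt cert.actF (cert.words.getD 3 []) i = i := fun st h h1 h2 => by
    have := List.all_eq_true.mp h (i - st) (List.mem_range.mpr (by omega))
    rwa [Nat.beq_eq, Nat.add_sub_cancel' h1] at this
  by_cases c1 : i < 322
  · exact key 0 end3_0 (Nat.zero_le _) (by omega)
  by_cases c2 : i < 644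
  · exact key 322 end3_1 (by omega) (by omega)
  by_cases c3 : i < 966
  · exact key 644 end3_2 (by omega) (by omega)
  exact key 966 end3_3 (by omega) (by omega)

theorem end4_0 : ((List.range 322).all fun j =>
    Nat.beq (endPt cert.actF (cert.words.getD 4 []) (0 + j)) (0 + j)) = true := by
  decide +kernel

theorem end4_1 : ((List.range 322).all fun j =>
    Nat.beq (endPt cert.actF (cert.words.getD 4 []) (322 + j)) (322 + j)) = true := by
  decide +kernel

theorem end4_2 : ((List.range 322).all fun j =>
    Nat.beq (endPt cert.actF (cert.words.getD 4 []) (644 + j)) (644 + j)) = true := by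
  decide +kernel

theorem end4_3 : ((List.range 322).all fun j =>
    Nat.beq (endPt cert.actF (cert.words.getD 4 []) (966 + j)) (966 + j)) = true := by
  decide +kernel

theorem end4 {i : ℕ} (hi : i < 1288) : endPt cert.actF (cert.words.getD 4 []) i = i := by
  have key : ∀ st, ((List.range 322).all fun j =>
      Nat.beq (endPt cert.actF (cert.words.getD 4 []) (st + j)) (st + j)) = true →
      st ≤ i → i < st + 322 → endPt cert.actF (cert.words.getD 4 []) i = i := fun st h h1 h2 => by
    have := List.all_eq_true.mp h (i - st) (List.mem_range.mpr (by omega))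
    rwa [Nat.beq_eq, Nat.add_sub_cancel' h1] at this
  by_cases c1 : i < 322
  · exact key 0 end4_0 (Nat.zero_le _) (by omega)
  by_cases c2 : i < 644
  · exact key 322 end4_1 (by omega) (by omega)
  by_cases c3 : i < 966
  · exact key 644 end4_2 (by omega) (by omega)
  exact key 966 end4_3 (by omega) (by omega)

end Cfsg.Agent.Spor.MathieuMult.TwentyThree
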