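import Cfsg.Agent.Lib.Spor.MathieuMultTwentyThreeData

/-!
End points of the relators on the dodecads for the Mathieu group of degree twenty-three.
-/

set_option autoImplicit false
set_option maxRecDepth 100000

namespace Cfsg.Agent.Spor.MathieuMult.TwentyThree

open Cfsg.Agent.Solv.StabCocycle

theorem end5_0 : ((List.range 322).all fun j =>
    Nat.beq (endPt cert.actF (cert.words.getD 5 []) (0 + j)) (0 + j)) = true := by
  decide +kernel

theorem end5_1 : ((List.range 322).all fun j =>
    Nat.beq (endPt cert.actF (cert.words.getD 5 []) (322 + j)) (322 + j)) = true := by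
  decide +kernel

theorem end5_2 : ((List.range 322).all fun j =>
    Nat.beq (endPt cert.actF (cert.words.getD 5 []) (644 + j)) (644 + j)) = true := by
  decide +kernel

theorem end5_3 : ((List.range 322).all fun j =>
    Nat.beq (endPt cert.actF (cert.words.getD 5 []) (966 + j)) (966 + j)) = true := by
  decide +kernel

theorem end5 {i : ℕ} (hi : i < 1288) : endPt cert.actF (cert.words.getD 5 []) i = i := by
  have key : ∀ st, ((List.range 322).all fun j =>
      Nat.beq (endPt cert.actF (cert.words.getD 5 []) (st + j)) (st + j)) = true →
      st ≤ i → i < st + 322 → endPt cert.actF (cert.words.getD 5 []) i = i := fun st h h1 h2 => by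
    have := List.all_eq_true.mp h (i - st) (List.mem_range.mpr (by omega))
    rwa [Nat.beq_eq, Nat.add_sub_cancel' h1] at this
  by_cases c1 : i < 322
  · exact key 0 end5_0 (Nat.zero_le _) (by omega)
  by_cases c2 : i < 644
  · exact key 322 end5_1 (by omega) (by omega)
  by_cases c3 : i < 966
  · exact key 644 end5_2 (by omega) (by omega)
  exact key 966 end5_3 (by omega) (by omega)

theorem end6_0 : ((List.range 322).all fun j =>
    Nat.beq (endPt cert.actF (cert.words.getD 6 []) (0 + j)) (0 + j)) = true := by
  decide +kernel

theorem end6_1 : ((List.range 322).all fun j =>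
    Nat.beq (endPt cert.actF (cert.words.getD 6 []) (322 + j)) (322 + j)) = true := by
  decide +kernel

theorem end6_2 : ((List.range 322).all fun j =>
    Nat.beq (endPt cert.actF (cert.words.getD 6 []) (644 + j)) (644 + j)) = true := by
  decide +kernel

theorem end6_3 : ((List.range 322).all fun j =>
    Nat.beq (endPt cert.actF (cert.words.getD 6 []) (966 + j)) (966 + j)) = true := by
  decide +kernel

theorem end6 {i : ℕ} (hi : i < 1288) : endPt cert.actF (cert.words.getD 6 []) i = i := by
  have key : ∀ st, ((List.range 322).all fun j =>
      Nat.beq (endPt cert.actF (cert.words.getD 6 []) (st + j)) (st + j)) = true →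
      st ≤ i → i < st + 322 → endPt cert.actF (cert.words.getD 6 []) i = i := fun st h h1 h2 => by
    have := List.all_eq_true.mp h (i - st) (List.mem_range.mpr (by omega))
    rwa [Nat.beq_eq, Nat.add_sub_cancel' h1] at this
  by_cases c1 : i < 322
  · exact key 0 end6_0 (Nat.zero_le _) (by omega)
  by_cases c2 : i < 644
  · exact key 322 end6_1 (by omega) (by omega)
  by_cases c3 : i < 966
  · exact key 644 end6_2 (by omega) (by omega)
  exact key 966 end6_3 (by omega) (by omega)

theorem end7_0 : ((List.range 322).all fun j =>
    Nat.beq (endPt cert.actF (cert.words.getD 7 []) (0 + j)) (0 + j)) = true := by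
  decide +kernel

theorem end7_1 : ((List.range 322).all fun j =>
    Nat.beq (endPt cert.actF (cert.words.getD 7 []) (322 + j)) (322 + j)) = true := by
  decide +kernel

theorem end7_2 : ((List.range 322).all fun j =>
    Nat.beq (endPt cert.actF (cert.words.getD 7 []) (644 + j)) (644 + j)) = true := by
  decide +kernel

theorem end7_3 : ((List.range 322).all fun j =>
    Nat.beq (endPt cert.actF (cert.words.getD 7 []) (966 + j)) (966 + j)) = true := by
  decide +kernel

theorem end7 {i : ℕ} (hi : i < 1288) : endPt cert.actF (cert.words.getD 7 []) i = i := by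
  have key : ∀ st, ((List.range 322).all fun j =>
      Nat.beq (endPt cert.actF (cert.words.getD 7 []) (st + j)) (st + j)) = true →
      st ≤ i → i < st + 322 → endPt cert.actF (cert.words.getD 7 []) i = i := fun st h h1 h2 => by
    have := List.all_eq_true.mp h (i - st) (List.mem_range.mpr (by omega))
    rwa [Nat.beq_eq, Nat.add_sub_cancel' h1] at this
  by_cases c1 : i < 322
  · exact key 0 end7_0 (Nat.zero_le _) (by omega)
  by_cases c2 : i < 644
  · exact key 322 end7_1 (by omega) (by omega)
  by_cases c3 : i < 966
  · exact key 644 end7_2 (by omega) (by omega)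
  exact key 966 end7_3 (by omega) (by omega)

theorem end8_0 : ((List.range 322).all fun j =>
    Nat.beq (endPt cert.actF (cert.words.getD 8 []) (0 + j)) (0 + j)) = true := by
  decide +kernel

theorem end8_1 : ((List.range 322).all fun j =>
    Nat.beq (endPt cert.actF (cert.words.getD 8 []) (322 + j)) (322 + j)) = true := by
  decide +kernel

theorem end8_2 : ((List.range 322).all fun j =>
    Nat.beq (endPt cert.actF (cert.words.getD 8 []) (644 + j)) (644 + j)) = true := by
  decide +kernel

theorem end8_3 : ((List.range 322).all fun j =>
    Nat.beq (endPt cert.actF (cert.words.getD 8 []) (966 + j)) (966 + j)) = true := by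
  decide +kernel

theorem end8 {i : ℕ} (hi : i < 1288) : endPt cert.actF (cert.words.getD 8 []) i = i := by
  have key : ∀ st, ((List.range 322).all fun j =>
      Nat.beq (endPt cert.actF (cert.words.getD 8 []) (st + j)) (st + j)) = true →
      st ≤ i → i < st + 322 → endPt cert.actF (cert.words.getD 8 []) i = i := fun st h h1 h2 => by
    have := List.all_eq_true.mp h (i - st) (List.mem_range.mpr (by omega))
    rwa [Nat.beq_eq, Nat.add_sub_cancel' h1] at this
  by_cases c1 : i < 322
  · exact key 0 end8_0 (Nat.zero_le _) (by omega)
  by_cases c2 : i < 644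
  · exact key 322 end8_1 (by omega) (by omega)
  by_cases c3 : i < 966
  · exact key 644 end8_2 (by omega) (by omega)
  exact key 966 end8_3 (by omega) (by omega)

end Cfsg.Agent.Spor.MathieuMult.TwentyThree
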