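import Cfsg.Agent.Lib.Spor.MathieuMultBound
import Cfsg.Agent.Lib.Spor.MathieuMultTwentyThreeEndA
import Cfsg.Agent.Lib.Spor.MathieuMultTwentyThreeEndB
import Cfsg.Agent.Lib.Spor.MathieuMultTwelve

/-!
The Schur multiplier of the Mathieu group of degree twenty-three is trivial: it acts on the dodecads avoiding
the fixed point, and the stabiliser of one of them is the Mathieu group of degree eleven.
-/

set_option autoImplicit false
set_option maxRecDepth 100000

namespace Cfsg.Agent.Spor.MathieuMult.TwentyThree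

open Cfsg Cfsg.Agent.Local.FS.Mathieu Cfsg.Agent.Solv.StabCocycle Cfsg.Agent.Spor.WordChain
open scoped Pointwise

/-- The first generator. -/
def permA : Equiv.Perm GolayPt := mkPerm genA genAi (by decide +kernel) (by decide +kernel)

/-- The second generator. -/
def permB : Equiv.Perm GolayPt := mkPerm genB genBi (by decide +kernel) (by decide +kernel)

/-- A permutation carrying the dodecad of squares to the first point. -/
def sig : Equiv.Perm GolayPt :=
  mkPerm [23, 20, 10, 11, 5, 0, 17, 1, 22, 21, 8, 9, 14, 19, 16, 6, 15, 13, 7, 3, 2, 12, 4, 18]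
    [5, 7, 20, 19, 22, 4, 15, 18, 10, 11, 2, 3, 21, 17, 12, 16, 14, 6, 23, 13, 1, 9, 8, 0]
    (by decide +kernel) (by decide +kernel)

theorem lst_gens : lst permA = genA ∧ lst permB = genB := ⟨by decide +kernel, by decide +kernel⟩

theorem mem_A : permA ∈ Cfsg.Spor.M23 := m23_mem_of_lst (by decide +kernel)

theorem mem_B : permB ∈ Cfsg.Spor.M23 := m23_mem_of_lst (by decide +kernel)

theorem chain_ok : (chainOK [genA, genB] chain [] && Nat.ble 10200960 (chainSize chain)) = true := by decide +kernel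

theorem gen_top : Subgroup.closure ({⟨permA, mem_A⟩, ⟨permB, mem_B⟩} : Set Cfsg.Spor.M23) = ⊤ := by
  have h := chain_ok
  rw [Bool.and_eq_true, Nat.ble_eq] at h
  exact closure_pair_eq (H := Cfsg.Spor.M23) (fun j => if j = 0 then permA else permB) mem_A mem_B card_m23 chain
    (by show chainOK [lst permA, lst permB] chain [] = true; rw [lst_gens.1, lst_gens.2]; exact h.1) h.2

theorem rel_ok : (cert.words.all fun w => w.all (fun j => Nat.blt j 2) &&
    (lword [genA, genB] w == List.range 24)) = true := by decide +kernel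

theorem numbers : cert.n = 1288 ∧ cert.words.length = 9 ∧ cert.N = 1 ∧ ptsT.get 0 = 16436384 := by decide +kernel

theorem fields_ok : cert.fieldsOK = true := by decide +kernel

theorem run_ok : cert.run cert.steps 0 = true := by decide +kernel

theorem final_ok : cert.finalOK = true := by decide +kernel

theorem head_ok : decide (0 < cert.n ∧ cert.words.length ≤ cert.k ∧ cert.l0 < cert.k ∧ cert.bias < cert.M ∧
    1 < cert.M ∧ 2 * cert.M ≤ 2 ^ cert.W) = true := by decide +kernel

theorem table_ok : ((List.range cert.n).all fun i => Nat.blt (cert.actF 0 i) cert.n && Nat.blt (cert.actF 1 i) cert.n &&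
    (Nat.beq i 0 || (decide ((cert.parF i).2 < i) && Nat.beq (cert.actF (cert.parF i).1 (cert.parF i).2) i))) = true := by
  decide +kernel

theorem words_ok : (cert.words.all fun w => decide ((w.length + 1) * cert.M ≤ 2 ^ cert.W) &&
    w.all (fun j => Nat.blt j 2)) = true := by decide +kernel

theorem norm_ok : decide (((List.range cert.words.length).map fun q =>
      cert.m0.getD q 0 * (cert.words.getD q []).count 0).sum = 1 ∧
    ((List.range cert.words.length).map fun q => cert.m0.getD q 0 * (cert.words.getD q []).count 1).sum = 0 ∧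
    ((List.range cert.words.length).map fun q => cert.m1.getD q 0 * (cert.words.getD q []).count 0).sum = 0 ∧
    ((List.range cert.words.length).map fun q => cert.m1.getD q 0 * (cert.words.getD q []).count 1).sum = 1) = true := by
  decide +kernel

theorem cert_ok : cert.check = true := by
  have hw := words_ok
  simp only [List.all_eq_true, Bool.and_eq_true] at hw
  rw [Cert.check, Cert.shapeOK, head_ok, table_ok, norm_ok, fields_ok, run_ok, final_ok]
  simp only [Bool.true_and, Bool.and_true, List.all_eq_true, Bool.and_eq_true, List.mem_range, Nat.beq_eq]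
  intro w hwm
  refine ⟨hw w hwm, fun i hi => ?_⟩
  obtain ⟨q, hq, rfl⟩ := List.getElem_of_mem hwm
  rw [← List.getD_eq_getElem _ [] hq]
  rw [numbers.1] at hi
  rw [numbers.2.1] at hq
  interval_cases q
  exacts [end0 hi, end1 hi, end2 hi, end3 hi, end4 hi, end5 hi, end6 hi, end7 hi, end8 hi]

theorem act_ok : (List.range cert.n).all (fun i =>
    Nat.beq (pmask genA (ptsT.get i)) (ptsT.get (cert.actF 0 i)) &&
      Nat.beq (pmask genB (ptsT.get i)) (ptsT.get (cert.actF 1 i)) &&
      Nat.blt (ptsT.get i) 16777216 && (Nat.beq i 0 || !Nat.beq (ptsT.get i) 16436384)) = true := by decide +kernel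

theorem sig_facts : sig ∈ M24 ∧ sig (some 0) = none ∧
    pmask (lst sig) 340831 = 16436384 :=
  ⟨m24_mem_of_lst (by decide +kernel), by decide +kernel, by decide +kernel⟩

/-- The conjugation carrying the Mathieu group of degree eleven to the stabiliser of the first point. -/
theorem stab_iso : Nonempty (↥(Cfsg.Spor.M23 ⊓
    MulAction.stabilizer (Equiv.Perm GolayPt) (Cfsg.Agent.Spor.ofMask 16436384)) ≃* ↥Cfsg.Spor.M11) := by
  obtain ⟨hs, h0, hm⟩ := sig_facts
  have hsd : Cfsg.Agent.Spor.mask Cfsg.Spor.squareDodecad = 340831 := by decide +kernel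
  have hd : sig • Cfsg.Spor.squareDodecad = Cfsg.Agent.Spor.ofMask 16436384 := by
    refine Cfsg.Agent.Spor.mask_injective ?_
    rw [(rep_lst sig).mask_smul, hsd, hm, Cfsg.Agent.Spor.mask_ofMask (by norm_num)]
  have hinv : sig⁻¹ none = some 0 := by rw [← h0]; exact sig.symm_apply_apply _
  have hmap : Cfsg.Spor.M11.map (MulAut.conj sig).toMonoidHom =
      Cfsg.Spor.M23 ⊓ MulAction.stabilizer (Equiv.Perm GolayPt) (Cfsg.Agent.Spor.ofMask 16436384) := by
    ext g
    rw [Subgroup.mem_map]
    refine ⟨?_, fun hg => ⟨sig⁻¹ * g * sig, ?_, ?_⟩⟩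
    · rintro ⟨x, ⟨⟨hx1, hx2⟩, hx3⟩, rfl⟩
      refine ⟨⟨M24.mul_mem (M24.mul_mem hs hx1) (M24.inv_mem hs), ?_⟩, ?_⟩
      · show sig (x (sig⁻¹ none)) = none
        rw [hinv, show x (some 0) = some 0 from hx3, h0]
      · show (sig * x * sig⁻¹) • Cfsg.Agent.Spor.ofMask 16436384 = _
        rw [← hd, smul_smul, inv_mul_cancel_right, mul_smul, show x • Cfsg.Spor.squareDodecad = _ from hx2]
    · obtain ⟨⟨hg1, hg2⟩, hg3⟩ := hg
      refine ⟨⟨M24.mul_mem (M24.mul_mem (M24.inv_mem hs) hg1) hs, ?_⟩, ?_⟩
      · show (sig⁻¹ * g * sig) • Cfsg.Spor.squareDodecad = _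
        rw [mul_smul, hd, mul_smul, show g • Cfsg.Agent.Spor.ofMask 16436384 = _ from hg3, inv_smul_eq_iff, hd]
      · show sig⁻¹ (g (sig (some 0))) = some 0
        rw [h0, show g none = none from hg2, hinv]
    · show sig * (sig⁻¹ * g * sig) * sig⁻¹ = g
      group
  exact ⟨((MulEquiv.subgroupCongr hmap.symm)).trans (Cfsg.Spor.M11.equivMapOfInjective _
    (MulAut.conj sig).injective).symm⟩

/-- The Schur multiplier of the Mathieu group of degree twenty-three is trivial. -/
theorem multiplier : Cfsg.HasCyclicSchurMultiplier ↥Cfsg.Spor.M23 1 := by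
  refine Cfsg.Agent.Solv.hasCyclicSchur_one_of fun Γ _ _ σ hσ k hk => ?_
  have hact := act_ok
  simp only [List.all_eq_true, List.mem_range, Bool.and_eq_true, Nat.beq_eq, Nat.blt_eq, Bool.or_eq_true,
    Bool.not_eq_true'] at hact
  have hmask : ∀ (σ : Equiv.Perm GolayPt) (m : ℕ), m < 16777216 →
      Cfsg.Agent.Spor.mask (σ • Cfsg.Agent.Spor.ofMask m) = pmask (lst σ) m := fun σ m hm => by
    rw [(rep_lst σ).mask_smul, Cfsg.Agent.Spor.mask_ofMask (by simpa using hm)]
  have hsm : ∀ (σ : Equiv.Perm GolayPt) (l : List ℕ) (m m' : ℕ), lst σ = l → m < 16777216 → m' < 16777216 →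
      pmask l m = m' → σ • Cfsg.Agent.Spor.ofMask m = Cfsg.Agent.Spor.ofMask m' := fun σ l m m' hl hm hm' h => by
    refine Cfsg.Agent.Spor.mask_injective ?_
    rw [hmask σ m hm, hl, h, Cfsg.Agent.Spor.mask_ofMask (by simpa using hm')]
  obtain ⟨φ⟩ := stab_iso
  have hp0 : Cfsg.Agent.Spor.ofMask (ptsT.get 0) = Cfsg.Agent.Spor.ofMask 16436384 :=
    congrArg Cfsg.Agent.Spor.ofMask numbers.2.2.2
  have htable := table_ok
  simp only [List.all_eq_true, List.mem_range, Bool.and_eq_true, Nat.blt_eq] at htable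
  have key := kernel_bound (X := Finset GolayPt) permA permB mem_A mem_B gen_top
    (fun i => Cfsg.Agent.Spor.ofMask (ptsT.get i)) cert cert_ok (fun i hi => ?_) (fun i hi h => ?_)
    (by rw [lst_gens.1, lst_gens.2]; exact rel_ok) ?_ ?_ Γ σ hσ
  · obtain ⟨g, hg, hall⟩ := key
    rw [numbers.2.2.1, pow_one] at hg
    obtain ⟨m, hm⟩ := Subgroup.mem_zpowers_iff.mp (hall ⟨k, hk⟩)
    rw [hg, one_zpow] at hm
    exact congrArg Subtype.val hm.symm
  · obtain ⟨⟨⟨e1, e2⟩, e3⟩, -⟩ := hact i hi
    refine ⟨hsm permA genA _ _ lst_gens.1 e3 (hact _ (htable i hi).1.1).1.2 e1,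
      hsm permB genB _ _ lst_gens.2 e3 (hact _ (htable i hi).1.2).1.2 e2⟩
  · obtain ⟨⟨-, e3⟩, e4⟩ := hact i hi
    rcases e4 with e4 | e4
    · exact e4
    · have h' := congrArg Cfsg.Agent.Spor.mask (h.trans hp0)
      rw [Cfsg.Agent.Spor.mask_ofMask (by simpa using e3), Cfsg.Agent.Spor.mask_ofMask (by norm_num)] at h'
      rw [h'] at e4
      simp at e4
  · refine perfect_congr ((stabEquiv Cfsg.Spor.M23 _).trans ?_) eleven_perfect
    exact (MulEquiv.subgroupCongr (by rw [hp0])).trans φ
  · refine trivial_congr ((stabEquiv Cfsg.Spor.M23 _).trans ?_) eleven_trivial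
    exact (MulEquiv.subgroupCongr (by rw [hp0])).trans φ

end Cfsg.Agent.Spor.MathieuMult.TwentyThree
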