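import Cfsg.Agent.Lib.Spor.MathieuOut
import Cfsg.Agent.Lib.Spor.MathieuFrobData
import Cfsg.Agent.Lib.Spor.GolayLocal
import Cfsg.Agent.Lib.Local.FS.MathieuPerms

/-!
The projective special linear group on 24 points is maximal in the group of the length-24 code, and
the Frobenius group of order 253 is maximal in a point stabiliser.
-/

set_option autoImplicit false
set_option maxRecDepth 100000

namespace Cfsg.Agent.Spor.MathieuFrob

open Cfsg Cfsg.Agent.Spor Cfsg.Agent.Spor.MathieuOut MulAction
open Cfsg.Agent.Local.FS.Mathieu (lst rep_lst)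
open scoped Pointwise

/-- the translation -/
abbrev tr : Equiv.Perm GolayPt := Equiv.optionCongr (Equiv.addRight (1 : ZMod 23))

/-- a multiplication -/
abbrev mu (u : (ZMod 23)ˣ) : Equiv.Perm GolayPt := Equiv.optionCongr (Units.mulLeft u)

/-- the multiplications by squares -/
abbrev sqMaps : Set (Equiv.Perm GolayPt) :=
  {g | ∃ u : (ZMod 23)ˣ, IsSquare u ∧ g = Equiv.optionCongr (Units.mulLeft u)}

/-- the group of order 253 -/
abbrev frob : Subgroup (Equiv.Perm GolayPt) :=
  Subgroup.closure ({Equiv.optionCongr (Equiv.addRight (1 : ZMod 23))} ∪ sqMaps)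

/-- the group of order 6072 -/
abbrev psl : Subgroup (Equiv.Perm GolayPt) :=
  Subgroup.closure ({Equiv.optionCongr (Equiv.addRight (1 : ZMod 23)), Cfsg.projInv} ∪ sqMaps)

/-- the square two -/
def two : (ZMod 23)ˣ := ⟨2, 12, by decide, by decide⟩

theorem square_is_pow : ∀ u : (ZMod 23)ˣ, IsSquare u → ∃ i : Fin 11, u = two ^ (i : ℕ) := by
  decide +kernel

theorem mu_mul (a b : (ZMod 23)ˣ) : mu (a * b) = mu a * mu b := by
  ext p
  cases p <;> simp [mu, mul_assoc]

theorem mu_pow (a : (ZMod 23)ˣ) : ∀ i : ℕ, mu (a ^ i) = mu a ^ i := by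
  intro i
  induction i with
  | zero =>
      ext p
      cases p <;> simp [mu]
  | succ i ih => rw [pow_succ, pow_succ, mu_mul, ih]

theorem sqMaps_le {K : Subgroup (Equiv.Perm GolayPt)} (h : mu two ∈ K) : sqMaps ⊆ K := by
  rintro g ⟨u, hu, rfl⟩
  obtain ⟨i, rfl⟩ := square_is_pow u hu
  show mu (two ^ (i : ℕ)) ∈ K
  rw [mu_pow]
  exact pow_mem h _

theorem mu_mem_frob : mu two ∈ frob :=
  Subgroup.subset_closure (Or.inr ⟨two, ⟨⟨5, 14, by decide, by decide⟩, by decide⟩, rfl⟩)

theorem tr_mem_frob : tr ∈ frob := Subgroup.subset_closure (Or.inl rfl)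

theorem gens_m24 : m24ok (lst tr) = true ∧ m24ok (lst projInv) = true ∧
    m24ok (lst (mu two)) = true := by decide +kernel

theorem lperm_lst {σ : Equiv.Perm GolayPt} (h : lok (lst σ) = true) : lperm (lst σ) = σ :=
  rep_unique (rep_lperm h) (rep_lst σ)

theorem lok_of_m24ok {l : List ℕ} (h : m24ok l = true) : lok l = true := by
  simp only [m24ok, Bool.and_eq_true] at h
  exact h.1

theorem mem_of_m24ok {σ : Equiv.Perm GolayPt} (h : m24ok (lst σ) = true) : σ ∈ M24 :=
  lperm_lst (lok_of_m24ok h) ▸ lperm_mem h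

theorem fixed_none : tr none = none ∧ mu two none = none := ⟨rfl, rfl⟩

theorem frob_le : frob ≤ M24 ⊓ stabilizer (Equiv.Perm GolayPt) (none : GolayPt) := by
  refine (Subgroup.closure_le _).2 (Set.union_subset ?_ (sqMaps_le ?_))
  · rintro g rfl
    exact ⟨mem_of_m24ok gens_m24.1, fixed_none.1⟩
  · exact ⟨mem_of_m24ok gens_m24.2.2, fixed_none.2⟩

theorem psl_le : psl ≤ M24 := by
  refine (Subgroup.closure_le _).2 (Set.union_subset ?_ (sqMaps_le (mem_of_m24ok gens_m24.2.2)))
  intro g hg
  rcases hg with rfl | rfl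
  exacts [mem_of_m24ok gens_m24.1, mem_of_m24ok gens_m24.2.1]

theorem frob_le_psl : frob ≤ psl :=
  Subgroup.closure_mono (Set.union_subset_union_left _ (fun g hg => Or.inl hg))

/-! ### the point stabiliser -/

/-- the point stabiliser -/
abbrev G23 : Subgroup M24 := stabilizer M24 (none : GolayPt)

theorem dvd23 {K : Subgroup G23} (Q : Sylow 23 K) (hQ : Nat.card Q = 23) :
    Subgroup.centralizer ((Q : Subgroup K) : Set K) ≤ (Q : Subgroup K) := by
  haveI : Fact (Nat.Prime 23) := ⟨by norm_num⟩
  have hs : ∀ g : M24, g ∈ G23 → ∀ x, x ≠ (none : GolayPt) → (g : Equiv.Perm GolayPt) x ≠ none :=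
    fun g hg x hx h => hx ((g : Equiv.Perm GolayPt).injective (h.trans hg.symm))
  letI := restrictAct G23 (· ≠ (none : GolayPt)) hs
  haveI := faithful_of_complement (H := G23) hs (fun g hg x hx => by
    obtain rfl := not_not.1 hx
    exact hg)
  haveI : FaithfulSMul K {x : GolayPt // x ≠ none} :=
    ⟨fun {a b} h => Subtype.ext (FaithfulSMul.eq_of_smul_eq_smul h)⟩
  refine centralizer_le_of_prime_transitive (Ω := {x : GolayPt // x ≠ none}) hQ ?_
  rw [Nat.card_eq_fintype_card, Fintype.card_subtype_compl, Fintype.card_subtype_eq]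
  rfl

theorem dvd11 {K : Subgroup G23} (hK : ¬ 11 ^ 2 ∣ Nat.card K) (Q : Sylow 11 K) (hQ : Nat.card Q = 11) :
    Subgroup.centralizer ((Q : Subgroup K) : Set K) ≤ (Q : Subgroup K) := by
  haveI : Fact (Nat.Prime 11) := ⟨by norm_num⟩
  obtain ⟨x, hx⟩ := exists_prime_orderOf_dvd_card' (G := (Q : Subgroup K)) 11 (by rw [hQ])
  have hxq : Subgroup.zpowers (x : K) = (Q : Subgroup K) := Subgroup.eq_of_le_of_card_ge
    (Subgroup.zpowers_le.2 x.2) (by rw [Nat.card_zpowers, Subgroup.orderOf_coe, hx, hQ])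
  set e : K ≃* K.map G23.subtype := Subgroup.equivMapOfInjective _ _ G23.subtype_injective
  have h : Nat.card (Subgroup.centralizer (((Q : Subgroup K).map e.toMonoidHom : Subgroup _) :
      Set (K.map G23.subtype))) = 11 := by
    refine centralizer_card (K.map G23.subtype) (p := none) ?_ _ (x := e (x : K)) ?_ ?_ ?_
    · rintro _ ⟨k, -, rfl⟩
      exact k.2
    · have hm := congrArg (Subgroup.map e.toMonoidHom) hxq
      rw [MonoidHom.map_zpowers] at hm
      exact hm
    · rw [MulEquiv.orderOf_eq, Subgroup.orderOf_coe, hx]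
    · rwa [Subgroup.card_map_of_injective G23.subtype_injective]
  intro c hc
  have hle : ((Q : Subgroup K).map e.toMonoidHom) ≤
      Subgroup.centralizer (((Q : Subgroup K).map e.toMonoidHom : Subgroup _) :
        Set (K.map G23.subtype)) := by
    rintro _ ⟨a, ha, rfl⟩
    refine Subgroup.mem_centralizer_iff.2 ?_
    rintro _ ⟨b, hb, rfl⟩
    haveI : IsCyclic (Q : Subgroup K) := isCyclic_of_prime_card hQ
    letI := IsCyclic.commGroup (α := (Q : Subgroup K))
    rw [← map_mul, ← map_mul, show b * a = a * b from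
      congrArg Subtype.val (mul_comm (⟨b, hb⟩ : (Q : Subgroup K)) ⟨a, ha⟩)]
  have heq := Subgroup.eq_of_le_of_card_ge hle (by
    rw [h, Subgroup.card_map_of_injective e.injective, hQ])
  have hec : e c ∈ Subgroup.centralizer (((Q : Subgroup K).map e.toMonoidHom : Subgroup _) :
      Set (K.map G23.subtype)) := by
    refine Subgroup.mem_centralizer_iff.2 ?_
    rintro _ ⟨b, hb, rfl⟩
    exact (map_mul e b c).symm.trans
      ((congrArg e (Subgroup.mem_centralizer_iff.1 hc b hb)).trans (map_mul e c b))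
  rw [← heq] at hec
  obtain ⟨d, hd, he⟩ := hec
  exact e.injective he ▸ hd

/-- orders that pass the Sylow tests for 23 and 11 -/
theorem order_test : ∀ m ∈ Nat.divisors 40320, ∀ a ∈ Nat.divisors 22, ∀ b ∈ Nat.divisors 10,
    a ∣ 11 → b ∣ 5 → 253 ∣ 23 * a → 253 * m / (23 * a) % 23 = 1 → 253 * m / (11 * b) % 11 = 1 →
    m = 1 ∨ m = 40320 := by decide +kernel

/-- normaliser numbers in the point stabiliser -/
theorem top_test : (∀ a ∈ Nat.divisors 22, 10200960 / (23 * a) % 23 = 1 → a = 11) ∧
    ∀ b ∈ Nat.divisors 10, 10200960 / (11 * b) % 11 = 1 → b = 5 := by decide +kernel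

theorem factorization_one {n r : ℕ} (hr : r.Prime) (h1 : r ∣ n) (h2 : ¬ r ^ 2 ∣ n) :
    n.factorization r = 1 := by
  have hn : n ≠ 0 := by rintro rfl; exact h2 (dvd_zero _)
  have a := (hr.pow_dvd_iff_le_factorization hn).1 (by simpa using h1 : r ^ 1 ∣ n)
  have b : ¬ 2 ≤ n.factorization r := fun h => h2 ((hr.pow_dvd_iff_le_factorization hn).2 h)
  omega

/-- the normaliser of a Sylow subgroup of a subgroup divides the one of the whole group -/
theorem norm_dvd {r kk : ℕ} [Fact r.Prime] (hG : (Nat.card G23).factorization r = 1)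
    {K : Subgroup G23} (Q : Sylow r K) (hQ : Nat.card Q = r)
    (htop : ∀ P : Sylow r G23,
      Nat.card (Subgroup.normalizer ((P : Subgroup G23) : Set G23)) = r * kk) :
    Nat.card (Subgroup.normalizer ((Q : Subgroup K) : Set K)) ∣ r * kk := by
  have hc : Nat.card ((Q : Subgroup K).map K.subtype) = r ^ (Nat.card G23).factorization r := by
    rw [Subgroup.card_map_of_injective K.subtype_injective, hQ, hG, pow_one]
  rw [← htop (Sylow.ofCard _ hc),
    ← Subgroup.card_map_of_injective (K := Subgroup.normalizer ((Q : Subgroup K) : Set K))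
      K.subtype_injective]
  exact Subgroup.card_dvd_of_le (Subgroup.le_normalizer_map K.subtype)

theorem card_G23 : Nat.card G23 = 10200960 := card_stabilizer_point none

theorem top23 [Fact (Nat.Prime 23)] (P : Sylow 23 G23) :
    Nat.card (Subgroup.normalizer ((P : Subgroup G23) : Set G23)) = 23 * 11 := by
  have hP : Nat.card P = 23 := by
    rw [P.card_eq_multiplicity, factorization_one (Fact.out) (by rw [card_G23]; norm_num)
      (by rw [card_G23]; norm_num), pow_one]
  have hs : ∀ g : M24, g ∈ G23 → ∀ x, x ≠ (none : GolayPt) → (g : Equiv.Perm GolayPt) x ≠ none :=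
    fun g hg x hx h => hx ((g : Equiv.Perm GolayPt).injective (h.trans hg.symm))
  letI := restrictAct G23 (· ≠ (none : GolayPt)) hs
  haveI := faithful_of_complement (H := G23) hs (fun g hg x hx => by
    obtain rfl := not_not.1 hx
    exact hg)
  obtain ⟨k, hk, hk1, -, hk2⟩ := normalizer_card_of_prime_sylow P hP
    (centralizer_le_of_prime_transitive (Ω := {x : GolayPt // x ≠ none}) hP (by
      rw [Nat.card_eq_fintype_card, Fintype.card_subtype_compl, Fintype.card_subtype_eq]
      rfl))
  rw [card_G23] at hk2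
  rw [hk, top_test.1 k (Nat.mem_divisors.2 ⟨hk1, by norm_num⟩) hk2]

theorem top11 [Fact (Nat.Prime 11)] (P : Sylow 11 G23) :
    Nat.card (Subgroup.normalizer ((P : Subgroup G23) : Set G23)) = 11 * 5 := by
  have hP : Nat.card P = 11 := by
    rw [P.card_eq_multiplicity, factorization_one (Fact.out) (by rw [card_G23]; norm_num)
      (by rw [card_G23]; norm_num), pow_one]
  obtain ⟨x, hx⟩ := exists_prime_orderOf_dvd_card' (G := (P : Subgroup G23)) 11 (by rw [hP])
  have hxq : Subgroup.zpowers (x : G23) = (P : Subgroup G23) := Subgroup.eq_of_le_of_card_ge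
    (Subgroup.zpowers_le.2 x.2) (by rw [Nat.card_zpowers, Subgroup.orderOf_coe, hx, hP])
  have hC := centralizer_card G23 le_rfl _ hxq (by rw [Subgroup.orderOf_coe, hx])
    (by rw [card_G23]; norm_num)
  have hle : (P : Subgroup G23) ≤ Subgroup.centralizer ((P : Subgroup G23) : Set G23) := by
    intro a ha
    haveI : IsCyclic (P : Subgroup G23) := isCyclic_of_prime_card hP
    letI := IsCyclic.commGroup (α := (P : Subgroup G23))
    exact Subgroup.mem_centralizer_iff.2 fun b hb =>
      congrArg Subtype.val (mul_comm (⟨b, hb⟩ : (P : Subgroup G23)) ⟨a, ha⟩)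
  obtain ⟨k, hk, hk1, -, hk2⟩ := normalizer_card_of_prime_sylow P hP
    (Subgroup.eq_of_le_of_card_ge hle (by rw [hC, hP])).ge
  rw [card_G23] at hk2
  rw [hk, top_test.2 k (Nat.mem_divisors.2 ⟨hk1, by norm_num⟩) hk2]

set_option maxHeartbeats 2000000 in
/-- a subgroup above one of order 253 is that subgroup or the whole point stabiliser -/
theorem eq_of_contains {K F : Subgroup G23} (hF : Nat.card F = 253) (hFK : F ≤ K) :
    K = F ∨ K = ⊤ := by
  haveI : Fact (Nat.Prime 23) := ⟨by norm_num⟩
  haveI : Fact (Nat.Prime 11) := ⟨by norm_num⟩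
  have hd : Nat.card K ∣ 10200960 := card_G23 ▸ Subgroup.card_subgroup_dvd_card K
  obtain ⟨m, hm⟩ : 253 ∣ Nat.card K := hF ▸ Subgroup.card_dvd_of_le hFK
  have hmd : m ∣ 40320 := by
    rw [hm, show 10200960 = 253 * 40320 by norm_num] at hd
    exact Nat.dvd_of_mul_dvd_mul_left (by norm_num) hd
  have n23 : ¬ 23 ^ 2 ∣ Nat.card K := fun h => absurd (h.trans hd) (by norm_num)
  have n11 : ¬ 11 ^ 2 ∣ Nat.card K := fun h => absurd (h.trans hd) (by norm_num)
  -- the Sylow subgroup for 23 inside the subgroup of order 253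
  set F' := F.subgroupOf K
  have hF' : Nat.card F' = 253 := by rw [Nat.card_congr (Subgroup.subgroupOfEquivOfLe hFK).toEquiv, hF]
  obtain ⟨R⟩ : Nonempty (Sylow 23 F') := inferInstance
  have hRc : Nat.card R = 23 := by
    rw [R.card_eq_multiplicity, factorization_one (Fact.out) (by rw [hF']; norm_num)
      (by rw [hF']; norm_num), pow_one]
  have hRn : ((R : Subgroup F')).Normal := by
    refine Subgroup.normalizer_eq_top_iff.1 ?_
    apply Subgroup.eq_top_of_card_eq
    have h1 := (R.card_eq_index_normalizer).symm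
    have h2 := card_sylow_modEq_one 23 F'
    have h3 : Nat.card (Sylow 23 F') ∣ 253 := hF' ▸ h1 ▸ Subgroup.index_dvd_card _
    have h4 : Nat.card (Sylow 23 F') = 1 := by
      have hk : ∀ n ∈ Nat.divisors 253, n % 23 = 1 → n = 1 := by decide +kernel
      exact hk _ (Nat.mem_divisors.2 ⟨h3, by norm_num⟩) h2
    have h5 := (Subgroup.normalizer ((R : Subgroup F') : Set F')).card_mul_index
    rwa [show (Subgroup.normalizer ((R : Subgroup F') : Set F')).index = 1 from h1.trans h4,
      mul_one] at h5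
  have hQc : Nat.card ((R : Subgroup F').map F'.subtype) = 23 ^ (Nat.card K).factorization 23 := by
    rw [Subgroup.card_map_of_injective F'.subtype_injective, hRc,
      factorization_one (Fact.out) (hm ▸ Dvd.dvd.mul_right (by norm_num) m) n23, pow_one]
  obtain ⟨Q, hQR⟩ : ∃ Q : Sylow 23 K, (Q : Subgroup K) = (R : Subgroup F').map F'.subtype :=
    ⟨Sylow.ofCard _ hQc, rfl⟩
  have hQ : Nat.card Q = 23 := by
    show Nat.card (Q : Subgroup K) = 23
    rw [hQR, Subgroup.card_map_of_injective F'.subtype_injective, hRc]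
  have hFN : F' ≤ Subgroup.normalizer ((Q : Subgroup K) : Set K) := by
    intro f hf
    rw [Subgroup.mem_normalizer_iff, hQR]
    intro z
    constructor
    · rintro ⟨r, hr, rfl⟩
      exact ⟨⟨f, hf⟩ * r * ⟨f, hf⟩⁻¹, hRn.conj_mem r hr _, rfl⟩
    · rintro ⟨r, hr, e⟩
      refine ⟨⟨f, hf⟩⁻¹ * r * ⟨f, hf⟩, by have t := hRn.conj_mem r hr ⟨f, hf⟩⁻¹; rwa [inv_inv] at t, ?_⟩
      have e' : (r : K) = f * z * f⁻¹ := e
      simp [e', mul_assoc]
  obtain ⟨a, ha, ha1, -, ha2⟩ := normalizer_card_of_prime_sylow Q hQ (dvd23 Q hQ)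
  have ha3 : 253 ∣ 23 * a := by
    have t := Subgroup.card_dvd_of_le hFN
    rwa [hF', ha] at t
  have ha4 : 23 * a ∣ 23 * 11 := by
    have t := norm_dvd
      (factorization_one (Fact.out) (by rw [card_G23]; norm_num) (by rw [card_G23]; norm_num))
      Q hQ top23
    rwa [ha] at t
  obtain ⟨U⟩ : Nonempty (Sylow 11 K) := inferInstance
  have hU : Nat.card U = 11 := by
    rw [U.card_eq_multiplicity,
      factorization_one (Fact.out) (hm ▸ Dvd.dvd.mul_right (by norm_num) m) n11, pow_one]
  obtain ⟨b, hb, hb1, -, hb2⟩ := normalizer_card_of_prime_sylow U hU (dvd11 n11 U hU)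
  have hb4 : 11 * b ∣ 11 * 5 := by
    have t := norm_dvd
      (factorization_one (Fact.out) (by rw [card_G23]; norm_num) (by rw [card_G23]; norm_num))
      U hU top11
    rwa [hb] at t
  rw [hm] at ha2 hb2
  rcases order_test m (Nat.mem_divisors.2 ⟨hmd, by norm_num⟩) a
      (Nat.mem_divisors.2 ⟨ha1, by norm_num⟩) b (Nat.mem_divisors.2 ⟨hb1, by norm_num⟩)
      (Nat.dvd_of_mul_dvd_mul_left (by norm_num) ha4)
      (Nat.dvd_of_mul_dvd_mul_left (by norm_num) hb4) ha3 ha2 hb2 with rfl | rfl
  · exact Or.inl (Subgroup.eq_of_le_of_card_ge hFK (by rw [hm, hF])).symm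
  · exact Or.inr (Subgroup.eq_top_of_card_eq _ (by rw [hm, card_G23]))

/-! ### orders -/

/-- the group of order 253 inside the point stabiliser -/
abbrev frobG : Subgroup G23 := (frob.subgroupOf M24).subgroupOf G23

theorem card_sub (K : Subgroup (Equiv.Perm GolayPt)) (h : K ≤ M24) :
    Nat.card (K.subgroupOf M24) = Nat.card K :=
  Nat.card_congr (Subgroup.subgroupOfEquivOfLe h).toEquiv

theorem frob_le_G23 : frob.subgroupOf M24 ≤ G23 := fun g hg => (frob_le hg).2

theorem card_frobG : Nat.card frobG = Nat.card frob := by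
  rw [Nat.card_congr (Subgroup.subgroupOfEquivOfLe frob_le_G23).toEquiv,
    card_sub _ (frob_le.trans inf_le_left)]

theorem tr_mu_order : tr ^ 23 = 1 ∧ tr ≠ 1 ∧ mu two ^ 11 = 1 ∧ mu two ≠ 1 ∧
    mu two * tr * (mu two)⁻¹ = tr * tr := by decide +kernel

theorem card_frob : Nat.card frob = 253 := by
  classical
  haveI : Fact (Nat.Prime 23) := ⟨by norm_num⟩
  haveI : Fact (Nat.Prime 11) := ⟨by norm_num⟩
  obtain ⟨h1, h2, h3, h4, h5⟩ := tr_mu_order
  have o23 : orderOf tr = 23 := orderOf_eq_prime h1 h2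
  have o11 : orderOf (mu two) = 11 := orderOf_eq_prime h3 h4
  have hdvd : 253 ∣ Nat.card frob := by
    have a := Subgroup.orderOf_dvd_natCard frob tr_mem_frob
    have b := Subgroup.orderOf_dvd_natCard frob mu_mem_frob
    rw [o23] at a
    rw [o11] at b
    exact Nat.Coprime.mul_dvd_of_dvd_of_dvd (by norm_num : Nat.Coprime 23 11) a b
  -- it normalises the translations
  set trG : G23 := ⟨⟨tr, mem_of_m24ok gens_m24.1⟩, fixed_none.1⟩
  have otr : orderOf trG = 23 := by rw [← Subgroup.orderOf_coe, ← Subgroup.orderOf_coe]; exact o23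
  have hPc : Nat.card (Subgroup.zpowers trG) = 23 ^ (Nat.card G23).factorization 23 := by
    rw [Nat.card_zpowers, otr,
      factorization_one (Fact.out) (by rw [card_G23]; norm_num) (by rw [card_G23]; norm_num),
      pow_one]
  have hN := top23 (Sylow.ofCard _ hPc)
  have hfr : frob ≤ Subgroup.normalizer ((Subgroup.zpowers tr : Subgroup _) : Set (Equiv.Perm GolayPt)) := by
    refine (Subgroup.closure_le _).2 (Set.union_subset ?_ (sqMaps_le ?_))
    · rintro g rfl
      exact Subgroup.le_normalizer (Subgroup.mem_zpowers _)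
    · refine Subgroup.mem_normalizer_iff_map_conj_eq.2 (Subgroup.eq_of_le_of_card_ge ?_ ?_)
      · rw [MonoidHom.map_zpowers, Subgroup.zpowers_le]
        show mu two * tr * (mu two)⁻¹ ∈ _
        rw [h5]
        exact mul_mem (Subgroup.mem_zpowers _) (Subgroup.mem_zpowers _)
      · rw [Subgroup.card_map_of_injective (MulEquiv.injective _)]
  have hle : Nat.card frobG ∣ 23 * 11 := by
    rw [← hN]
    refine Subgroup.card_dvd_of_le ?_
    intro g hg
    have := hfr hg
    rw [Subgroup.mem_normalizer_iff] at this ⊢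
    intro z
    show z ∈ Subgroup.zpowers trG ↔ g * z * g⁻¹ ∈ Subgroup.zpowers trG
    have key : ∀ w : G23, w ∈ Subgroup.zpowers trG ↔
        ((w : M24) : Equiv.Perm GolayPt) ∈ Subgroup.zpowers tr := by
      intro w
      constructor
      · rintro ⟨k, rfl⟩
        exact ⟨k, rfl⟩
      · rintro ⟨k, hk⟩
        exact ⟨k, Subtype.ext (Subtype.ext hk)⟩
    rw [key, key]
    exact this ((z : M24) : Equiv.Perm GolayPt)
  rw [card_frobG] at hle
  exact Nat.dvd_antisymm hle hdvd

theorem frob_coatom : IsCoatom frobG := by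
  refine ⟨fun h => ?_, fun K hK => ?_⟩
  · have := congrArg (fun S : Subgroup G23 => Nat.card S) h
    simp only [card_frobG, card_frob, Subgroup.card_top, card_G23] at this
    omega
  · exact (eq_of_contains (card_frobG.trans card_frob) hK.le).resolve_left hK.ne'

/-- the orbit of the dodecad of squares -/
theorem inv_checks : fixesConf sqOrbit (lst tr) = true ∧ fixesConf sqOrbit (lst projInv) = true ∧
    fixesConf sqOrbit (lst (mu two)) = true ∧ m24ok (baseLists.getD 3 []) = true ∧
    (sqOrbit.any fun m => !sqOrbit.elem (pm (baseLists.getD 3 []) m 0)) = true ∧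
    sqOrbit.all (fun m => decide (m < 2 ^ 24)) = true := by decide +kernel

theorem psl_ne : psl.subgroupOf M24 ≠ ⊤ := by
  intro h
  obtain ⟨i1, i2, i3, i4, i5, i6⟩ := inv_checks
  simp only [List.all_eq_true, decide_eq_true_eq] at i6
  simp only [List.any_eq_true, Bool.not_eq_true', ← Bool.not_eq_true, List.elem_iff] at i5
  obtain ⟨m, hm, hne⟩ := i5
  have hfix : psl ≤ stabilizer (Equiv.Perm GolayPt) (confOf sqOrbit) := by
    have key : ∀ σ, m24ok (lst σ) = true → fixesConf sqOrbit (lst σ) = true →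
        σ ∈ stabilizer (Equiv.Perm GolayPt) (confOf sqOrbit) := fun σ h1 h2 => by
      have := fixesConf_sound (lok_of_m24ok h1) h2
      rwa [lperm_lst (lok_of_m24ok h1)] at this
    refine (Subgroup.closure_le _).2 (Set.union_subset ?_ (sqMaps_le (key _ gens_m24.2.2 i3)))
    intro g hg
    rcases hg with rfl | rfl
    exacts [key _ gens_m24.1 i1, key _ gens_m24.2.1 i2]
  have hb : lperm (baseLists.getD 3 []) ∈ psl :=
    Subgroup.mem_subgroupOf.1 (h ▸ Subgroup.mem_top (⟨_, lperm_mem i4⟩ : M24))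
  have hs : ofMask (pm (baseLists.getD 3 []) m 0) ∈ confOf sqOrbit := by
    rw [← mem_stabilizer_iff.1 (hfix hb)]
    exact Finset.mem_smul_finset.2 ⟨ofMask m, mem_confOf.2 ⟨m, hm, rfl⟩,
      ofMask_eq_smul (lok_of_m24ok i4) (i6 m hm) rfl⟩
  obtain ⟨m', hm', e⟩ := mem_confOf.1 hs
  have e' := congrArg mask e
  rw [mask_ofMask (i6 m' hm')] at e'
  have hlt : pm (baseLists.getD 3 []) m 0 < 2 ^ 24 := by
    have h1 := mask_smul_lperm (lok_of_m24ok i4) (ofMask m)
    rw [mask_ofMask (i6 m hm)] at h1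
    exact h1 ▸ mask_lt _
  rw [mask_ofMask hlt] at e'
  exact hne (e' ▸ hm')

theorem translate : ∀ (n : ℕ) (x : ZMod 23), (tr ^ n) (some x) = some (x + n) := by
  intro n
  induction n with
  | zero => simp
  | succ n ih =>
      intro x
      rw [pow_succ', Equiv.Perm.mul_apply, ih]
      simp [tr, add_assoc]

/-- a group containing the translations and the inversion is transitive -/
theorem orbit_all {K : Subgroup M24} (hK : psl.subgroupOf M24 ≤ K) (q : GolayPt) :
    ∃ g ∈ K, (g : Equiv.Perm GolayPt) none = q := by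
  have hp : projInv ∈ psl := Subgroup.subset_closure (Or.inl (Or.inr rfl))
  cases q with
  | none => exact ⟨1, one_mem K, rfl⟩
  | some x =>
      refine ⟨⟨tr ^ x.val * projInv, psl_le (mul_mem (pow_mem (frob_le_psl tr_mem_frob) _) hp)⟩,
        hK (mul_mem (pow_mem (frob_le_psl tr_mem_frob) _) hp), ?_⟩
      show (tr ^ x.val) (projInv none) = some x
      rw [show projInv none = some 0 from rfl, translate, zero_add, ZMod.natCast_zmod_val]

theorem orbit_card {K : Subgroup M24} (hK : psl.subgroupOf M24 ≤ K) :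
    Nat.card K = 24 * Nat.card (G23.subgroupOf K) := by
  have h1 : (stabilizer K (none : GolayPt)).index = 24 := by
    haveI : IsPretransitive K GolayPt := by
      refine ⟨fun a b => ?_⟩
      obtain ⟨g, hg, ea⟩ := orbit_all hK a
      obtain ⟨g', hg', eb⟩ := orbit_all hK b
      have ea' : (⟨g, hg⟩ : K) • (none : GolayPt) = a := ea
      exact ⟨⟨g', hg'⟩ * (⟨g, hg⟩ : K)⁻¹, by rw [mul_smul, ← ea', inv_smul_smul]; exact eb⟩
    rw [index_stabilizer_of_transitive, Nat.card_eq_fintype_card]
    rfl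
  have h2 : stabilizer K (none : GolayPt) = G23.subgroupOf K := by
    ext g
    rfl
  rw [← h2, ← (stabilizer K (none : GolayPt)).card_mul_index, h1, mul_comm]

theorem psl_facts : Nat.card psl = 6072 ∧ IsCoatom (psl.subgroupOf M24) := by
  have hF : ∀ K : Subgroup M24, psl.subgroupOf M24 ≤ K →
      Nat.card K = 6072 ∨ K = ⊤ := by
    intro K hK
    have hle : frobG ≤ K.subgroupOf G23 := fun g hg => hK (frob_le_psl hg)
    have e : Nat.card (G23.subgroupOf K) = Nat.card (K.subgroupOf G23) := by
      rw [← Subgroup.card_map_of_injective (K := G23.subgroupOf K) K.subtype_injective,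
        ← Subgroup.card_map_of_injective (K := K.subgroupOf G23) G23.subtype_injective,
        Subgroup.subgroupOf_map_subtype, Subgroup.subgroupOf_map_subtype, inf_comm]
    rw [orbit_card hK, e]
    rcases eq_of_contains (card_frobG.trans card_frob) hle with h | h
    · left; rw [h, card_frobG, card_frob]
    · right
      refine Subgroup.eq_top_of_card_eq _ ?_
      rw [orbit_card hK, e, h, Subgroup.card_top, card_G23, card_M24]
  have hc : Nat.card (psl.subgroupOf M24) = 6072 := (hF _ le_rfl).resolve_right psl_ne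
  refine ⟨(card_sub _ psl_le).symm.trans hc, psl_ne, fun K hK => ?_⟩
  refine (hF K hK.le).resolve_left fun h => hK.ne (Subgroup.eq_of_le_of_card_ge hK.le ?_)
  rw [h, hc]

end Cfsg.Agent.Spor.MathieuFrob
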