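import Cfsg.Agent.Lib.Spor.MathieuDesign

/-!
Subgroups of given index in the Mathieu groups of degree 24 and 23: the stabilisers of octads,
heptads, pairs and sextets.
-/

set_option autoImplicit false
set_option maxRecDepth 100000

namespace Cfsg.Agent.Spor.MathieuIdx

open Cfsg Cfsg.Agent.Spor Cfsg.Agent.Spor.MathieuOut MulAction
open scoped Pointwise

theorem orbitSet_eq {H : Subgroup M24} {p q : GolayPt} (h : q ∈ orbitSet H p) :
    orbitSet H q = orbitSet H p := by
  refine Finset.Subset.antisymm (orbitSet_subset (orbitSet_smul H p) h) ?_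
  refine orbitSet_subset (orbitSet_smul H q) ?_
  obtain ⟨g, hg, e⟩ := mem_orbitSet.1 h
  refine mem_orbitSet.2 ⟨g⁻¹, inv_mem hg, ?_⟩
  rw [← e]
  exact Equiv.symm_apply_apply (g : Equiv.Perm GolayPt) p

theorem card_univ_pt : (Finset.univ : Finset GolayPt).card = 24 := by
  rw [Finset.card_univ, Fintype.card_option, ZMod.card]

/-- the subgroup fixing one more point -/
def ptStab (H : Subgroup M24) (x : GolayPt) : Subgroup M24 := H ⊓ fixA {x}

theorem mem_ptStab {H : Subgroup M24} {x : GolayPt} {g : M24} :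
    g ∈ ptStab H x ↔ g ∈ H ∧ (g : Equiv.Perm GolayPt) x = x := by
  simp [ptStab, mem_fixA]

theorem card_ptStab (H : Subgroup M24) (x : GolayPt) :
    (orbitSet H x).card * Nat.card (ptStab H x) = Nat.card H := by
  rw [orbitSet_card, ← (stabilizer H x).card_mul_index, mul_comm]
  congr 1
  exact Nat.card_congr
    { toFun := fun g => ⟨⟨g.1, (mem_ptStab.1 g.2).1⟩, (mem_ptStab.1 g.2).2⟩
      invFun := fun g => ⟨g.1.1, mem_ptStab.2 ⟨g.1.2, g.2⟩⟩
      left_inv := fun _ => rfl
      right_inv := fun _ => rfl }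

/-- translates of orbits of point stabilisers -/
theorem orbitSet_conj {H : Subgroup M24} {h : M24} (hh : h ∈ H) (x y : GolayPt) :
    orbitSet (ptStab H (h • x)) (h • y) = h • orbitSet (ptStab H x) y := by
  ext q
  constructor
  · intro hq
    obtain ⟨g, hg, rfl⟩ := mem_orbitSet.1 hq
    obtain ⟨hgH, hgx⟩ := mem_ptStab.1 hg
    refine Finset.mem_smul_finset.2 ⟨(h⁻¹ * g * h) • y, mem_orbitSet.2 ⟨h⁻¹ * g * h, ?_, rfl⟩, ?_⟩
    · refine mem_ptStab.2 ⟨mul_mem (mul_mem (inv_mem hh) hgH) hh, ?_⟩
      show (h⁻¹ * g * h) • x = x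
      rw [mul_smul, mul_smul, show g • (h • x) = h • x from hgx, inv_smul_smul]
    · rw [mul_smul, mul_smul, smul_inv_smul]
      rfl
  · intro hq
    obtain ⟨z, hz, rfl⟩ := Finset.mem_smul_finset.1 hq
    obtain ⟨g, hg, rfl⟩ := mem_orbitSet.1 hz
    obtain ⟨hgH, hgx⟩ := mem_ptStab.1 hg
    refine mem_orbitSet.2 ⟨h * g * h⁻¹, mem_ptStab.2 ⟨mul_mem (mul_mem hh hgH) (inv_mem hh), ?_⟩, ?_⟩
    · show (h * g * h⁻¹) • (h • x) = h • x
      rw [mul_smul, mul_smul, inv_smul_smul, show g • x = x from hgx]
    · show (h * g * h⁻¹) • (h • y) = h • (g • y)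
      rw [mul_smul, mul_smul, inv_smul_smul]

/-- one orbit holds everything outside the octad -/
theorem big_orbit {A : Finset GolayPt} {H : Subgroup M24} (hA : H ≤ fixA A) {o : Finset GolayPt}
    (ho : o ∈ octads) (hc : Contains H o) (hAo : A ⊆ o) :
    ∃ q R, q ∉ o ∧ R = (Finset.univ \ A) \ orbitSet H q ∧ R ⊆ o \ A ∧ (∀ h ∈ H, h • R = R) ∧
      A.card + R.card + (orbitSet H q).card = 24 := by
  obtain ⟨q, hq⟩ : ∃ q, q ∉ o := by
    by_contra h
    push_neg at h
    have := Finset.card_le_card (show Finset.univ ⊆ o from fun p _ => h p)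
    rw [card_univ_pt, ho.2] at this
    omega
  refine ⟨q, _, hq, rfl, fun p hp => ?_, compl_inv hA (orbitSet_smul H q), ?_⟩
  · rw [Finset.mem_sdiff, Finset.mem_sdiff] at hp
    refine Finset.mem_sdiff.2 ⟨?_, hp.1.2⟩
    by_contra hpo
    exact hp.2 (contains_outside ho hc hq (Finset.mem_compl.2 hpo))
  · have h1 : orbitSet H q ⊆ Finset.univ \ A := fun p hp => Finset.mem_sdiff.2
      ⟨Finset.mem_univ _, Finset.disjoint_right.1 (orbitSet_avoid hA (fun h => hq (hAo h))) hp⟩
    have h2 := Finset.card_sdiff_of_subset h1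
    have h3 := Finset.card_le_card h1
    have h4 := Finset.card_le_card (Finset.subset_univ A)
    rw [Finset.card_sdiff_of_subset (Finset.subset_univ A), card_univ_pt] at h2 h3
    rw [card_univ_pt] at h4
    omega

/-- orders of a subgroup of a point stabiliser in the three cases -/
theorem point_key : ∀ p ∈ [(253, 40320), (759, 13440), (1771, 5760)], ∀ r < 4,
    ((23 - r) ∣ p.2 ∧ Nat.choose 23 r ∣ p.1) →
      (r = 2 ∧ (p.1 = 253 ∨ p.1 = 759)) ∨ (r = 3 ∧ p.1 = 1771) := by decide +kernel

/-- the invariant sets of a large subgroup of a point stabiliser -/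
theorem point_cases [Fact (Nat.Prime 2)] {x : GolayPt} {K : Subgroup M24} (hK : K ≤ fixA {x})
    {idx n : ℕ} (hp : (idx, n) ∈ [(253, 40320), (759, 13440), (1771, 5760)]) (hn : Nat.card K = n) :
    ∃ o R, o ∈ octads ∧ x ∈ o ∧ Contains K o ∧ R ⊆ o.erase x ∧ (∀ h ∈ K, h • R = R) ∧
      ((R.card = 7 ∧ ∀ h ∈ K, h • o = o) ∨ (R.card = 2 ∧ (idx = 253 ∨ idx = 759)) ∨
        (R.card = 3 ∧ idx = 1771)) ∧
      ∀ y, y ≠ x → y ∉ R → (orbitSet K y).card = 23 - R.card := by
  have hmul : idx * Nat.card K = fixOrder 1 ∧ 2 ^ 7 ∣ Nat.card K := by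
    rw [hn]
    fin_cases hp <;> decide
  obtain ⟨o, ho, hxo, hc⟩ := octad_of_two_pow_point hK hmul.2
  obtain ⟨q, R, hqo, hR, hRo, hRinv, hsum⟩ := big_orbit hK ho hc (Finset.singleton_subset_iff.2 hxo)
  rw [Finset.card_singleton] at hsum
  have hRe : R ⊆ o.erase x := fun p hpR => by
    have := hRo hpR
    rw [Finset.mem_sdiff, Finset.mem_singleton] at this
    exact Finset.mem_erase.2 ⟨this.2, this.1⟩
  refine ⟨o, R, ho, hxo, hc, hRe, hRinv, ?_, fun y hy hyR => ?_⟩
  · rcases Nat.lt_or_ge R.card 4 with hlt | hge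
    · have d1 : 23 - R.card ∣ n := by
        rw [← hn, show 23 - R.card = (orbitSet K q).card by omega]
        exact orbitSet_dvd K q
      have d2 : Nat.choose 23 R.card ∣ idx := by
        have h := set_bound (A := {x}) (B := R) (Finset.disjoint_singleton_left.2 fun h =>
          (Finset.mem_erase.1 (hRe h)).1 rfl) hK hRinv R.card (by simp; omega) idx
          (by rw [Finset.card_singleton]; exact hmul.1)
        rwa [Finset.card_singleton, Nat.choose_self, mul_one] at h
      rcases point_key _ hp R.card hlt ⟨d1, d2⟩ with h | h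
      · exact Or.inr (Or.inl h)
      · exact Or.inr (Or.inr h)
    · have hfix : ∀ h ∈ K, h • o = o := fun h hh => by
        refine octad_fixed ho (F := insert x R) ?_ ?_ ?_
        · exact Finset.insert_subset hxo (hRe.trans (Finset.erase_subset _ _))
        · rw [Finset.smul_finset_insert, hRinv h hh, show h • x = x from hK hh x (by simp)]
        · rw [Finset.card_insert_of_notMem fun h => (Finset.mem_erase.1 (hRe h)).1 rfl]
          omega
      refine Or.inl ⟨?_, hfix⟩
      have h1 := Finset.card_le_card hRe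
      rw [Finset.card_erase_of_mem hxo, ho.2] at h1
      have h2 := Finset.card_le_card (orbitSet_subset (B := Finset.univ \ o)
        (fun h hh => by rw [Finset.smul_finset_sdiff, Finset.smul_finset_univ, hfix h hh])
        (Finset.mem_sdiff.2 ⟨Finset.mem_univ q, hqo⟩))
      rw [Finset.card_sdiff_of_subset (Finset.subset_univ _), card_univ_pt, ho.2] at h2
      omega
  · have hyo : y ∈ orbitSet K q := by
      by_contra h
      exact hyR (hR ▸ Finset.mem_sdiff.2
        ⟨Finset.mem_sdiff.2 ⟨Finset.mem_univ _, by simpa using hy⟩, h⟩)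
    rw [orbitSet_eq hyo]
    omega

theorem card_le_octad_point {o : Finset GolayPt} (ho : o ∈ octads) {x : GolayPt} (hx : x ∈ o) :
    Nat.card ↥(stabilizer M24 o ⊓ fixA {x}) ≤ 40320 := by
  have h := card_le_of_set (A := {x}) (B := o.erase x) (d := 253)
    (Finset.disjoint_singleton_left.2 (Finset.notMem_erase x o))
    (H := stabilizer M24 o ⊓ fixA {x}) inf_le_right (fun h hh => by
      rw [Finset.erase_eq, Finset.smul_finset_sdiff, fixA_smul hh.2,
        show h • o = o from hh.1]) 4 (by simp) ?_
  · rw [Finset.card_singleton] at h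
    have := Nat.le_of_dvd (by decide) h
    simp only [fixOrder, List.getD_cons_succ, List.getD_cons_zero] at this
    omega
  · intro idx hidx
    rw [Finset.card_erase_of_mem hx, ho.2, Finset.card_singleton,
      show Nat.choose (24 - 1) 4 = 8855 from by decide +kernel,
      show Nat.choose (8 - 1) 4 = 35 from by decide +kernel] at hidx
    obtain ⟨c, hc⟩ := hidx
    exact ⟨c, by omega⟩

theorem card_le_small {B : Finset GolayPt} {x : GolayPt} (hxB : x ∉ B) (hB : B.card ≤ 4) :
    Nat.choose 23 B.card * Nat.card ↥(stabilizer M24 B ⊓ fixA {x}) ≤ 10200960 := by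
  have h := card_le_of_set (A := {x}) (B := B) (Finset.disjoint_singleton_left.2 hxB)
    (H := stabilizer M24 B ⊓ fixA {x}) inf_le_right (fun h hh => hh.1) B.card (by simp; omega)
    (d := Nat.choose 23 B.card) (fun idx hidx => by
      rwa [Finset.card_singleton, Nat.choose_self, mul_one] at hidx)
  rw [Finset.card_singleton] at h
  exact Nat.le_of_dvd (by decide) h

/-- subgroups of index 253 in a point stabiliser -/
theorem index_253_point (x : GolayPt) (H : Subgroup M24) (hx : H ≤ fixA {x})
    (hH : Nat.card H = 40320) :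
    (∃ s : Finset GolayPt, s.card = 2 ∧ x ∉ s ∧ H = stabilizer M24 s ⊓ fixA {x}) ∨
      ∃ o ∈ octads, x ∈ o ∧ H = stabilizer M24 o ⊓ fixA {x} := by
  haveI : Fact (Nat.Prime 2) := ⟨Nat.prime_two⟩
  obtain ⟨o, R, ho, hxo, -, hRo, hR, hcase, -⟩ :=
    point_cases hx (idx := 253) (by decide) hH
  rcases hcase with ⟨-, hfix⟩ | ⟨hc, -⟩ | ⟨-, h⟩
  · exact Or.inr ⟨o, ho, hxo, Subgroup.eq_of_le_of_card_ge
      (le_inf (fun h hh => hfix h hh) hx) (hH ▸ card_le_octad_point ho hxo)⟩
  · have hxR : x ∉ R := fun h => (Finset.mem_erase.1 (hRo h)).1 rfl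
    refine Or.inl ⟨R, hc, hxR, Subgroup.eq_of_le_of_card_ge (le_inf (fun h hh => hR h hh) hx) ?_⟩
    have h := card_le_small hxR (by omega : R.card ≤ 4)
    rw [hc, show Nat.choose 23 2 = 253 from by decide +kernel] at h
    omega
  · omega

/-! ### index 759, 1771 and 253 in M24 -/

/-- the small orbits of a point stabiliser -/
noncomputable def blk (H : Subgroup M24) (x : GolayPt) : Finset GolayPt :=
  Finset.univ.filter fun y => (orbitSet (ptStab H x) y).card < 16

theorem mem_blk {H : Subgroup M24} {x y : GolayPt} :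
    y ∈ blk H x ↔ (orbitSet (ptStab H x) y).card < 16 := by simp [blk]

theorem blk_smul {H : Subgroup M24} {h : M24} (hh : h ∈ H) (x : GolayPt) :
    blk H (h • x) = h • blk H x := by
  ext y
  rw [mem_blk, ← Finset.inv_smul_mem_iff, mem_blk]
  conv_lhs => rw [← smul_inv_smul h y, orbitSet_conj hh, Finset.card_smul_finset]

theorem outer_key : ∀ p ∈ [(253, 967680), (759, 322560), (1771, 138240)],
    p.1 * p.2 = fixOrder 0 ∧ 2 ^ 10 ∣ p.2 ∧ (p.2 ∣ 322560 → p.1 = 759) ∧
      ∀ r, r < 5 → Nat.choose 24 r ∣ p.1 → r = 0 := by decide +kernel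

theorem orbit_le {K L : Subgroup M24} {a q : GolayPt} (hL : L = ptStab K a) :
    (orbitSet K q).card ≤ (orbitSet K a).card * (orbitSet L q).card := by
  have h1 := card_ptStab K a
  have h2 := card_ptStab K q
  have h3 := card_ptStab L q
  rw [← hL] at h1
  have hle : Nat.card (ptStab L q) ≤ Nat.card (ptStab K q) :=
    Nat.le_of_dvd Nat.card_pos (Subgroup.card_dvd_of_le fun g hg => by
      rw [mem_ptStab, hL, mem_ptStab] at hg
      exact mem_ptStab.2 ⟨hg.1.1, hg.2⟩)
  refine Nat.le_of_mul_le_mul_right ?_ (Nat.card_pos (α := ptStab K q))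
  calc (orbitSet K q).card * Nat.card (ptStab K q)
      = (orbitSet K a).card * Nat.card L := h2.trans h1.symm
    _ = (orbitSet K a).card * ((orbitSet L q).card * Nat.card (ptStab L q)) := by rw [h3]
    _ ≤ (orbitSet K a).card * (orbitSet L q).card * Nat.card (ptStab K q) := by
        rw [mul_assoc]
        exact Nat.mul_le_mul_left _ (Nat.mul_le_mul_left _ hle)

/-- subgroups of index 759, 1771 or 253 -/
theorem index_large {H : Subgroup M24} {idx n : ℕ}
    (hp : (idx, n) ∈ [(253, 967680), (759, 322560), (1771, 138240)]) (hn : Nat.card H = n) :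
    (idx = 759 ∧ ∃ o ∈ octads, H = stabilizer M24 o) ∨
      (idx = 1771 ∧ ∃ S ∈ sextets, H = stabilizer M24 S) := by
  classical
  haveI : Fact (Nat.Prime 2) := ⟨Nat.prime_two⟩
  haveI : Fact (Nat.Prime 5) := ⟨by norm_num⟩
  obtain ⟨hk1, hk2, hk3, hk4⟩ := outer_key _ hp
  simp only at hk1 hk2 hk3 hk4
  obtain ⟨o, ho, hc⟩ := octad_of_two_pow (hn ▸ hk2)
  have hA : H ≤ fixA ∅ := fun g _ p hp => absurd hp (Finset.notMem_empty p)
  obtain ⟨q, R, hqo, hR, hRo, hRinv, hsum⟩ := big_orbit hA ho hc (Finset.empty_subset o)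
  rw [Finset.card_empty, zero_add] at hsum
  rw [Finset.sdiff_empty] at hRo
  rcases Nat.lt_or_ge R.card 5 with hlt | hge
  swap
  · -- the octad is fixed
    have hle : H ≤ stabilizer M24 o := fun h hh => octad_fixed ho hRo (hRinv h hh) hge
    have hco : Nat.card (stabilizer M24 o) = 322560 := by rw [← card_stabM, card_stabM_octad ho]
    have h759 := hk3 (hn ▸ hco ▸ Subgroup.card_dvd_of_le hle)
    refine Or.inl ⟨h759, o, ho, Subgroup.eq_of_le_of_card_ge hle ?_⟩
    subst h759
    simp only [fixOrder, List.getD_cons_zero] at hk1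
    omega
  have hr0 : R.card = 0 := by
    refine hk4 _ hlt ?_
    have h := set_bound (A := ∅) (B := R) (Finset.disjoint_empty_left _) hA hRinv R.card
      (by simp; omega) idx (by rw [hn, Finset.card_empty]; exact hk1)
    rwa [Nat.choose_self, mul_one, Finset.card_empty, Nat.sub_zero] at h
  have htr : ∀ p, ∃ h ∈ H, h • q = p := by
    intro p
    have hall : orbitSet H q = Finset.univ := Finset.eq_univ_of_card _ (by
      rw [Fintype.card_option, ZMod.card]; omega)
    exact mem_orbitSet.1 (hall ▸ Finset.mem_univ p)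
  have horb : ∀ x, (orbitSet H x).card = 24 := fun x => by
    obtain ⟨h, hh, e⟩ := htr x
    rw [orbitSet_eq (mem_orbitSet.2 ⟨h, hh, e⟩)]
    omega
  obtain ⟨n', hp', hKn⟩ : ∃ n', (idx, n') ∈ [(253, 40320), (759, 13440), (1771, 5760)] ∧
      ∀ x, Nat.card (ptStab H x) = n' := by
    refine ⟨n / 24, ?_, fun x => ?_⟩
    · fin_cases hp <;> decide
    · have := card_ptStab H x
      rw [horb, hn] at this
      omega
  have hK : ∀ x, ptStab H x ≤ fixA {x} := fun x => inf_le_right
  -- properties of the blocks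
  have hblk : ∀ x, ∃ o R, o ∈ octads ∧ x ∈ o ∧ Contains (ptStab H x) o ∧ R ⊆ o.erase x ∧
      blk H x = insert x R ∧ (∀ h ∈ ptStab H x, h • blk H x = blk H x) ∧
      ((R.card = 7 ∧ blk H x = o) ∨ (R.card = 2 ∧ (idx = 253 ∨ idx = 759)) ∨
        (R.card = 3 ∧ idx = 1771)) ∧
      ∀ y, y ∉ blk H x → (orbitSet (ptStab H x) y).card = 24 - (blk H x).card := by
    intro x
    obtain ⟨o, R, ho, hxo, hc, hRo, hR, hcase, horb'⟩ := point_cases (hK x) hp' (hKn x)
    have hxR : x ∉ R := fun h => (Finset.mem_erase.1 (hRo h)).1 rfl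
    have hRc : R.card ≤ 7 := by
      have := Finset.card_le_card hRo
      rwa [Finset.card_erase_of_mem hxo, ho.2] at this
    have e : blk H x = insert x R := by
      ext y
      rw [mem_blk, Finset.mem_insert]
      constructor
      · intro hlt
        by_contra hne
        push_neg at hne
        rw [horb' y hne.1 hne.2] at hlt
        omega
      · rintro (rfl | hy)
        · have h := orbitSet_subset (H := ptStab H y) (B := {y})
            (fun h hh => fixA_smul (hK y hh)) (Finset.mem_singleton_self y)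
          exact lt_of_le_of_lt (Finset.card_le_card h) (by simp)
        · exact lt_of_le_of_lt (Finset.card_le_card (orbitSet_subset hR hy)) (by omega)
    refine ⟨o, R, ho, hxo, hc, hRo, e, fun h hh => ?_, ?_, fun y hy => ?_⟩
    · rw [e, Finset.smul_finset_insert, hR h hh, show h • x = x from hK x hh x (by simp)]
    · rcases hcase with ⟨h7, -⟩ | h | h
      · refine Or.inl ⟨h7, ?_⟩
        rw [e]
        refine Finset.eq_of_subset_of_card_le
          (Finset.insert_subset hxo (hRo.trans (Finset.erase_subset _ _))) ?_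
        rw [Finset.card_insert_of_notMem hxR, h7, ho.2]
      · exact Or.inr (Or.inl h)
      · exact Or.inr (Or.inr h)
    · rw [e, Finset.mem_insert, not_or] at hy
      rw [horb' y hy.1 hy.2, e, Finset.card_insert_of_notMem hxR]
      omega
  have hself : ∀ x, x ∈ blk H x := fun x => by
    obtain ⟨_, _, _, _, _, _, e, _⟩ := hblk x
    rw [e]; exact Finset.mem_insert_self _ _
  have hsize : ∀ x, (blk H x).card = (blk H q).card := fun x => by
    obtain ⟨h, hh, rfl⟩ := htr x
    rw [blk_smul hh, Finset.card_smul_finset]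
  -- blocks agree
  have hblock : ∀ x, ∀ a ∈ blk H x, blk H a = blk H x := by
    intro x a ha
    obtain ⟨o, R, ho, hxo, hc, hRo, e, hinv, hcase, hout⟩ := hblk x
    obtain ⟨oa, Ra, -, -, -, -, -, hinva, -, -⟩ := hblk a
    set L := ptStab (ptStab H x) a with hL
    have hLa : L ≤ ptStab H a := fun g hg => by
      rw [hL, mem_ptStab, mem_ptStab] at hg
      exact mem_ptStab.2 ⟨hg.1.1, hg.2⟩
    have hinvL : ∀ h ∈ L, h • blk H a = blk H a := fun h hh => hinva h (hLa hh)
    have hao : a ∈ o := by
      rw [e] at ha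
      rcases Finset.mem_insert.1 ha with rfl | h
      exacts [hxo, (Finset.mem_erase.1 (hRo h)).2]
    have hxR : x ∉ R := fun h => (Finset.mem_erase.1 (hRo h)).1 rfl
    have hcL : Contains L o := fun g hg => mem_ptStab.2 ⟨hc g hg, (mem_fixM.1 hg).2 a hao⟩
    have hs : (blk H a).card = (blk H x).card := (hsize a).trans (hsize x).symm
    have hs' : (blk H x).card = R.card + 1 := by rw [e, Finset.card_insert_of_notMem hxR]
    refine Finset.eq_of_subset_of_card_le ?_ hs.ge
    rcases hcase with ⟨h7, ho'⟩ | h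
    · rw [ho']
      exact subset_octad ho hcL hinvL (by omega)
    · intro z hz
      by_contra hzx
      have h1 := orbit_le (q := z) hL
      have h2 := Finset.card_le_card (orbitSet_subset hinvL hz)
      have h3 := Finset.card_le_card (orbitSet_subset hinv ha)
      rw [hout z hzx] at h1
      have h4 := h1.trans (Nat.mul_le_mul h3 h2)
      rw [hs, hs'] at h4
      rcases h with ⟨h2', -⟩ | ⟨h3', -⟩
      · rw [h2'] at h4; omega
      · rw [h3'] at h4; omega
  obtain ⟨o₁, R₁, ho₁, hxo₁, hc₁, hRo₁, e₁, hinv₁, hcase₁, hout₁⟩ := hblk q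
  have hxR₁ : q ∉ R₁ := fun h => (Finset.mem_erase.1 (hRo₁ h)).1 rfl
  have hs : (blk H q).card = R₁.card + 1 := by rw [e₁, Finset.card_insert_of_notMem hxR₁]
  by_cases h3 : R₁.card = 3
  · -- a sextet
    have h1771 : idx = 1771 := by
      rcases hcase₁ with ⟨h, -⟩ | ⟨h, -⟩ | ⟨-, h⟩ <;> omega
    subst h1771
    obtain ⟨S, ⟨hS, hTS⟩, -⟩ := existsUnique_sextet (show (blk H q).card = 4 by omega)
    have hn' : Nat.card (ptStab H q) = 5760 := by
      rw [hKn q]
      simp only [List.mem_cons, Prod.mk.injEq, List.not_mem_nil, or_false] at hp'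
      omega
    have hfull : ptStab H q = stabilizer M24 R₁ ⊓ fixA {q} := by
      refine Subgroup.eq_of_le_of_card_ge (le_inf (fun h hh => ?_) (hK q)) ?_
      · have := hinv₁ h hh
        rw [e₁, Finset.smul_finset_insert, show h • q = q from hK q hh q (by simp)] at this
        have h2 := congrArg (fun s => Finset.erase s q) this
        simp only [Finset.erase_insert hxR₁] at h2
        rw [Finset.erase_insert] at h2
        · exact h2
        · intro hq
          obtain ⟨r, hr, e⟩ := Finset.mem_smul_finset.1 hq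
          have : r = q := (h : Equiv.Perm GolayPt).injective (e.trans (hK q hh q (by simp)).symm)
          exact hxR₁ (this ▸ hr)
      · have h := card_le_small hxR₁ (by omega : R₁.card ≤ 4)
        rw [h3, show Nat.choose 23 3 = 1771 from by decide +kernel] at h
        omega
    have hTp : ∀ p, blk H p ∈ S := by
      intro p
      by_cases hp : p ∈ blk H q
      · rw [hblock q p hp]; exact hTS
      obtain ⟨T', ⟨hT', hpT'⟩, -⟩ := sextet_mem_unique hS p
      have hne : blk H q ≠ T' := fun e => hp (e ▸ hpT')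
      have ho' : blk H q ∪ T' ∈ octads := hS.2.2 _ hTS _ hT' hne
      have hc' : Contains (ptStab H p) (blk H q ∪ T') := fun g hg => by
        have hfix := (mem_fixM.1 hg).2
        have hgq : g ∈ ptStab H q := by
          rw [hfull]
          refine ⟨fixA_smul fun r hr => hfix r (Finset.mem_union_left _ ?_), fun r hr => ?_⟩
          · rw [e₁]; exact Finset.mem_insert_of_mem hr
          · rw [Finset.mem_singleton] at hr
            exact hfix r (Finset.mem_union_left _ (hr ▸ hself q))
        exact mem_ptStab.2 ⟨(mem_ptStab.1 hgq).1, hfix p (Finset.mem_union_right _ hpT')⟩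
      obtain ⟨_, _, _, _, _, _, _, hinvp, _, _⟩ := hblk p
      have hsub := subset_octad ho' hc' hinvp (by rw [hsize p]; omega)
      have : blk H p = T' := by
        refine Finset.eq_of_subset_of_card_le (fun r hr => ?_)
          (by rw [hS.2.1 T' hT', hsize p]; omega)
        rcases Finset.mem_union.1 (hsub hr) with h | h
        · have e2 : blk H p = blk H q := (hblock p r hr).symm.trans (hblock q r h)
          exact absurd (e2 ▸ hself p) hp
        · exact h
      exact this ▸ hT'
    have hle : H ≤ stabilizer M24 S := fun h hh => by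
      refine Finset.eq_of_subset_of_card_le ?_ (by rw [Finset.card_smul_finset])
      intro t ht
      obtain ⟨u, hu, rfl⟩ := Finset.mem_smul_finset.1 ht
      obtain ⟨p, hp⟩ := Finset.card_pos.1 (by rw [hS.2.1 u hu]; norm_num : 0 < u.card)
      have : blk H p = u := (sextet_mem_unique hS p).unique ⟨hTp p, hself p⟩ ⟨hu, hp⟩
      rw [← this, ← blk_smul hh]
      exact hTp _
    have hcn : Nat.card H = 138240 := by
      simp only [fixOrder, List.getD_cons_zero] at hk1
      omega
    exact Or.inr ⟨rfl, S, hS, Subgroup.eq_of_le_of_card_ge hle (by rw [card_stab_sextet hS, hcn])⟩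
  · -- blocks of three or eight points and an element of order five
    exfalso
    have hs38 : (blk H q).card = 3 ∨ (blk H q).card = 8 := by
      rcases hcase₁ with ⟨h, -⟩ | ⟨h, -⟩ | ⟨h, -⟩ <;> omega
    have h5 : 5 ∣ Nat.card (ptStab H q) := by
      rw [hKn q]
      fin_cases hp' <;> norm_num
    obtain ⟨f, hf⟩ := exists_prime_orderOf_dvd_card' (G := ptStab H q) 5 h5
    have hfo : orderOf ((f : M24) : Equiv.Perm GolayPt) = 5 := by
      rw [Subgroup.orderOf_coe, Subgroup.orderOf_coe, hf]
    have h4 := fix_card_5 hfo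
    set σ : Equiv.Perm GolayPt := ((f : M24) : Equiv.Perm GolayPt) with hσ
    have hpow : σ ^ 5 = 1 := hfo ▸ pow_orderOf_eq_one σ
    obtain ⟨hfH, hfq⟩ := mem_ptStab.1 f.2
    -- a block of a fixed point
    have hfixed : ∀ z, σ z = z →
        ((blk H z).filter fun p => σ p = p).card = 3 ∨ ((blk H z).filter fun p => σ p = p).card = 8 := by
      intro z hz
      have hinvz : ∀ p ∈ blk H z, σ p ∈ blk H z := fun p hp => by
        have h := blk_smul hfH z
        rw [show (f : M24) • z = z from hz] at h
        rw [h]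
        exact Finset.smul_mem_smul_finset (a := (f : M24)) hp
      obtain ⟨t, ht⟩ := dvd_card_moved hpow (blk H z) hinvz
      have h2 := Finset.card_filter_add_card_filter_not (s := blk H z) (fun p => σ p = p)
      have h1 : 0 < ((blk H z).filter fun p => σ p = p).card :=
        Finset.card_pos.2 ⟨z, Finset.mem_filter.2 ⟨hself z, hz⟩⟩
      have h0 := hsize z
      simp only [ne_eq] at ht
      rcases hs38 with h | h <;> omega
    have hle : ∀ z, ((blk H z).filter fun p => σ p = p) ⊆ fixSet σ := fun z p hp =>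
      Finset.mem_filter.2 ⟨Finset.mem_univ _, (Finset.mem_filter.1 hp).2⟩
    have ha := hfixed q hfq
    obtain ⟨z, hz, hzq⟩ : ∃ z, σ z = z ∧ z ∉ blk H q := by
      by_contra h
      push_neg at h
      have := Finset.card_le_card (show fixSet σ ⊆ (blk H q).filter fun p => σ p = p from
        fun p hp => Finset.mem_filter.2 ⟨h p (Finset.mem_filter.1 hp).2, (Finset.mem_filter.1 hp).2⟩)
      have hb := Finset.card_le_card (hle q)
      omega
    have hb := hfixed z hz
    have hdis : Disjoint ((blk H q).filter fun p => σ p = p) ((blk H z).filter fun p => σ p = p) := by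
      refine Finset.disjoint_left.2 fun p h1 h2 => hzq ?_
      rw [← hblock q p (Finset.mem_filter.1 h1).1, hblock z p (Finset.mem_filter.1 h2).1]
      exact hself z
    have := Finset.card_le_card (Finset.union_subset (hle q) (hle z))
    rw [Finset.card_union_of_disjoint hdis] at this
    omega

/-! ### index 276 -/

theorem pair_key : (∀ k < 25, (∀ t < 6, Nat.choose 24 t ∣ 276 * Nat.choose k t) →
    k = 0 ∨ k = 2 ∨ k = 22 ∨ k = 24) ∧
    ∀ k < 24, (∀ t < 5, Nat.choose 23 t ∣ 276 * Nat.choose k t) →
      k = 0 ∨ k = 1 ∨ k = 22 ∨ k = 23 := by decide +kernel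

/-- subgroups of index 276 -/
theorem index_276 {H : Subgroup M24} (hn : Nat.card H = 887040) :
    ∃ s : Finset GolayPt, s.card = 2 ∧ H = stabilizer M24 s := by
  classical
  have hA : H ≤ fixA ∅ := fun g _ p hp => absurd hp (Finset.notMem_empty p)
  have hk : ∀ B : Finset GolayPt, (∀ h ∈ H, h • B = B) →
      B.card = 0 ∨ B.card = 2 ∨ B.card = 22 ∨ B.card = 24 := by
    intro B hB
    refine pair_key.1 _ ?_ fun t ht => ?_
    · have := Finset.card_le_univ B; rw [Fintype.card_option, ZMod.card] at this; omega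
    · have h := set_bound (A := ∅) (B := B) (Finset.disjoint_empty_left _) hA hB t (by simp; omega)
        276 (by rw [hn]; decide)
      rwa [Finset.card_empty, Nat.sub_zero] at h
  have finish : ∀ s : Finset GolayPt, s.card = 2 → (∀ h ∈ H, h • s = s) → H = stabilizer M24 s := by
    intro s hs hinv
    refine Subgroup.eq_of_le_of_card_ge (fun h hh => hinv h hh) ?_
    have h := card_le_of_set (A := ∅) (B := s) (Finset.disjoint_empty_left _)
      (H := stabilizer M24 s) (fun g _ p hp => absurd hp (Finset.notMem_empty p)) (fun h hh => hh) 2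
      (by simp) (d := 276) (fun idx hidx => by
        rwa [Finset.card_empty, Nat.sub_zero, hs, show Nat.choose 24 2 = 276 from by decide +kernel,
          show Nat.choose 2 2 = 1 from rfl, mul_one] at hidx)
    have := Nat.le_of_dvd (by decide) h
    simp only [Finset.card_empty, fixOrder, List.getD_cons_zero] at this
    rw [hn]
    omega
  by_cases htr : ∀ x, (orbitSet H x).card = 24
  swap
  · push_neg at htr
    obtain ⟨x, hx⟩ := htr
    have hpos : 0 < (orbitSet H x).card := Finset.card_pos.2 ⟨x, orbitSet_self H x⟩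
    rcases hk _ (orbitSet_smul H x) with h | h | h | h
    · omega
    · exact ⟨_, h, finish _ h (orbitSet_smul H x)⟩
    · refine ⟨Finset.univ \ orbitSet H x, ?_, finish _ ?_ fun g hg => ?_⟩
      · rw [Finset.card_sdiff_of_subset (Finset.subset_univ _), card_univ_pt, h]
      · rw [Finset.card_sdiff_of_subset (Finset.subset_univ _), card_univ_pt, h]
      · rw [Finset.smul_finset_sdiff, Finset.smul_finset_univ, orbitSet_smul H x g hg]
    · omega
  exfalso
  have hKn : ∀ x, Nat.card (ptStab H x) = 36960 := fun x => by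
    have := card_ptStab H x
    rw [htr, hn] at this
    omega
  have hK : ∀ x, ptStab H x ≤ fixA {x} := fun x => inf_le_right
  -- the partner of a point
  have hex : ∀ x, ∃ y, y ≠ x ∧ ∀ g ∈ ptStab H x, (g : Equiv.Perm GolayPt) y = y := by
    intro x
    have fix_of : ∀ z, ptStab H x ≤ fixA {x} → z ≠ x →
        (∀ g ∈ ptStab H x, g • ({z} : Finset GolayPt) = {z}) →
        ∃ y, y ≠ x ∧ ∀ g ∈ ptStab H x, (g : Equiv.Perm GolayPt) y = y := fun z _ hz hinv =>
      ⟨z, hz, fun g hg => by
        have := hinv g hg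
        rw [Finset.smul_finset_singleton, Finset.singleton_inj] at this
        exact this⟩
    obtain ⟨z, hz⟩ : ∃ z, z ≠ x := exists_ne x
    set B := orbitSet (ptStab H x) z with hBdef
    have hd : Disjoint {x} B := orbitSet_avoid (hK x) (by simpa using hz)
    have hlt : B.card < 24 := by
      have := Finset.card_lt_univ_of_notMem (Finset.disjoint_singleton_left.1 hd)
      rwa [Fintype.card_option, ZMod.card] at this
    rcases pair_key.2 _ hlt (fun t ht => by
        have h := set_bound hd (hK x) (orbitSet_smul _ z) t (by simp; omega) 276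
          (by rw [hKn x, Finset.card_singleton]; decide)
        rwa [Finset.card_singleton] at h) with h | h | h | h
    · have := Finset.card_pos.2 ⟨z, orbitSet_self (ptStab H x) z⟩
      rw [← hBdef, h] at this
      omega
    · obtain ⟨w, hw⟩ := Finset.card_eq_one.1 h
      have hzw : z = w := Finset.mem_singleton.1 (hw ▸ orbitSet_self (ptStab H x) z)
      exact fix_of z (hK x) hz fun g hg => by rw [hzw, ← hw]; exact orbitSet_smul _ z g hg
    · obtain ⟨w, hw⟩ := Finset.card_eq_one.1 (show ((Finset.univ \ {x}) \ B).card = 1 by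
        rw [Finset.card_sdiff_of_subset (fun p hp => Finset.mem_sdiff.2
          ⟨Finset.mem_univ _, Finset.disjoint_right.1 hd hp⟩),
          Finset.card_sdiff_of_subset (Finset.subset_univ _), card_univ_pt, Finset.card_singleton, h])
      have hwx : w ≠ x := by
        have : w ∈ (Finset.univ \ {x}) \ B := hw ▸ Finset.mem_singleton_self w
        simp only [Finset.mem_sdiff, Finset.mem_singleton, Finset.mem_univ, true_and] at this
        exact this.1
      exact fix_of w (hK x) hwx fun g hg => by
        rw [← hw]; exact compl_inv (hK x) (orbitSet_smul _ z) g hg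
    · have := orbitSet_dvd (ptStab H x) z
      rw [← hBdef, h, hKn] at this
      omega
  choose P hP hPfix using hex
  have huniq : ∀ x y, y ≠ x → (∀ g ∈ ptStab H x, (g : Equiv.Perm GolayPt) y = y) → y = P x := by
    intro x y hy hfix
    by_contra hne
    have hle : ptStab H x ≤ fixA {x, y, P x} := fun g hg p hp => by
      simp only [Finset.mem_insert, Finset.mem_singleton] at hp
      rcases hp with rfl | rfl | rfl
      exacts [(mem_ptStab.1 hg).2, hfix g hg, hPfix _ g hg]
    have hc : ({x, y, P x} : Finset GolayPt).card = 3 :=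
      Finset.card_eq_three.2 ⟨x, y, P x, hy.symm, (hP x).symm, hne, rfl⟩
    have := Subgroup.card_dvd_of_le hle
    rw [hKn, card_fixA _ (by omega), hc] at this
    exact absurd (Nat.le_of_dvd (by decide) this) (by decide)
  have hinvol : ∀ x, P (P x) = x := fun x => by
    have heq : ptStab H x = ptStab H (P x) := Subgroup.eq_of_le_of_card_ge
      (fun g hg => mem_ptStab.2 ⟨(mem_ptStab.1 hg).1, hPfix x g hg⟩) (by rw [hKn, hKn])
    exact (huniq (P x) x (hP x).symm fun g hg => (mem_ptStab.1 (heq ▸ hg)).2).symm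
  haveI : Fact (Nat.Prime 7) := ⟨by norm_num⟩
  obtain ⟨f, hf⟩ := exists_prime_orderOf_dvd_card' (G := ptStab H none) 7 (by rw [hKn]; norm_num)
  have hfo : orderOf ((f : M24) : Equiv.Perm GolayPt) = 7 := by
    rw [Subgroup.orderOf_coe, Subgroup.orderOf_coe, hf]
  have h3 := fix_card_7 (f : M24).2 hfo
  obtain ⟨hfH, hfn⟩ := mem_ptStab.1 f.2
  set σ : Equiv.Perm GolayPt := ((f : M24) : Equiv.Perm GolayPt)
  have hFx : none ∈ fixSet σ := Finset.mem_filter.2 ⟨Finset.mem_univ _, hfn⟩
  have hFy : P none ∈ fixSet σ := Finset.mem_filter.2 ⟨Finset.mem_univ _, hPfix none _ f.2⟩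
  have hmem2 : ({none, P none} : Finset GolayPt) ⊆ fixSet σ := by
    simp [Finset.insert_subset_iff, hFx, hFy]
  obtain ⟨z, hz⟩ := Finset.card_eq_one.1 (show (fixSet σ \ {none, P none}).card = 1 by
    rw [Finset.card_sdiff_of_subset hmem2, h3, Finset.card_pair (hP none).symm])
  have hzm : z ∈ fixSet σ \ {none, P none} := hz ▸ Finset.mem_singleton_self z
  rw [Finset.mem_sdiff, Finset.mem_insert, Finset.mem_singleton, not_or] at hzm
  have hfz : σ z = z := (Finset.mem_filter.1 hzm.1).2
  have hPz : P z ∈ fixSet σ := Finset.mem_filter.2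
    ⟨Finset.mem_univ _, hPfix z _ (mem_ptStab.2 ⟨hfH, hfz⟩)⟩
  by_cases hin : P z ∈ ({none, P none} : Finset GolayPt)
  · rcases Finset.mem_insert.1 hin with e | e
    · exact hzm.2.2 (by rw [← hinvol z, e])
    · rw [Finset.mem_singleton] at e
      exact hzm.2.1 (by rw [← hinvol z, e, hinvol])
  · exact hP z (Finset.mem_singleton.1 (hz ▸ Finset.mem_sdiff.2 ⟨hPz, hin⟩))

theorem m24_index {H : Subgroup M24} {i : ℕ} (h : H.index = i) (hi : i ≠ 0) :
    Nat.card H = 244823040 / i := by
  have := H.card_mul_index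
  rw [h, card_M24] at this
  rw [← this, Nat.mul_div_cancel _ (Nat.pos_of_ne_zero hi)]

end Cfsg.Agent.Spor.MathieuIdx
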