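import Cfsg.Agent.Lib.Spor.MathieuIndex

/-!
The two-point stabiliser in the group of the length-24 code has no subgroups of index 56 or 210.
-/

set_option autoImplicit false
set_option maxRecDepth 100000

namespace Cfsg.Agent.Spor.MathieuIdx

open Cfsg Cfsg.Agent.Spor Cfsg.Agent.Spor.MathieuOut MulAction
open scoped Pointwise

/-- counting Sylow eleven subgroups -/
theorem sylow_eleven_test (K : Subgroup M24) {p : GolayPt} (hK : K ≤ stabilizer M24 p)
    (h1 : 11 ∣ Nat.card K) (h2 : ¬ 11 ^ 2 ∣ Nat.card K) :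
    ∃ k, k ∣ 10 ∧ 11 * k ∣ Nat.card K ∧ Nat.card K / (11 * k) % 11 = 1 := by
  haveI : Fact (Nat.Prime 11) := ⟨by norm_num⟩
  obtain ⟨P⟩ : Nonempty (Sylow 11 K) := inferInstance
  have hne : Nat.card K ≠ 0 := Nat.card_pos.ne'
  have hP : Nat.card P = 11 := by
    have a := ((Fact.out : Nat.Prime 11).pow_dvd_iff_le_factorization hne).1
      (by simpa using h1 : 11 ^ 1 ∣ Nat.card K)
    have b : ¬ 2 ≤ (Nat.card K).factorization 11 := fun h =>
      h2 (((Fact.out : Nat.Prime 11).pow_dvd_iff_le_factorization hne).2 h)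
    rw [P.card_eq_multiplicity, show (Nat.card K).factorization 11 = 1 by omega, pow_one]
  obtain ⟨x, hx⟩ := exists_prime_orderOf_dvd_card' (G := (P : Subgroup K)) 11 (by rw [hP])
  have hxq : Subgroup.zpowers (x : K) = (P : Subgroup K) := Subgroup.eq_of_le_of_card_ge
    (Subgroup.zpowers_le.2 x.2) (by rw [Nat.card_zpowers, Subgroup.orderOf_coe, hx, hP])
  have hC := centralizer_card K hK _ hxq (by rw [Subgroup.orderOf_coe, hx]) h2
  have hle : (P : Subgroup K) ≤ Subgroup.centralizer ((P : Subgroup K) : Set K) := by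
    intro a ha
    haveI : IsCyclic (P : Subgroup K) := isCyclic_of_prime_card hP
    letI := IsCyclic.commGroup (α := (P : Subgroup K))
    exact Subgroup.mem_centralizer_iff.2 fun b hb =>
      congrArg Subtype.val (mul_comm (⟨b, hb⟩ : (P : Subgroup K)) ⟨a, ha⟩)
  obtain ⟨k, -, hk1, hk2, hk3⟩ := normalizer_card_of_prime_sylow P hP
    (Subgroup.eq_of_le_of_card_ge hle (by rw [hC, hP])).ge
  exact ⟨k, hk1, hk2, hk3⟩

theorem test_2112 : ∀ k ∈ Nat.divisors 10, 11 * k ∣ 2112 → 2112 / (11 * k) % 11 ≠ 1 := by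
  decide +kernel

theorem two_key : (∀ k < 22, (∀ t < 4, Nat.choose 22 t ∣ 56 * Nat.choose k t) → k = 0) ∧
    ∀ k < 22, (∀ t < 3, Nat.choose 21 t ∣ 56 * Nat.choose k t) →
      k = 0 ∨ k = 6 ∨ k = 15 ∨ k = 21 := by decide +kernel

theorem z3 : ∀ d : ZMod 3, d * d ≠ (2 : ZMod 3) ^ 22 * (1 + 22) := by decide +kernel

theorem z7 : ((22 : ℕ) : ZMod 7) ≠ 0 := by decide +kernel

variable {p q : GolayPt} {H : Subgroup M24}

/-- an orbit test away from two or three points -/
theorem orbit_test {A : Finset GolayPt} (hA : H ≤ fixA A) {B : Finset GolayPt}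
    (hB : ∀ h ∈ H, h • B = B) (hd : Disjoint A B) (hidx : 56 * Nat.card H = fixOrder A.card) {m : ℕ}
    (hm : A.card + m ≤ 6) : ∀ t < m, (24 - A.card).choose t ∣ 56 * B.card.choose t :=
  fun t ht => set_bound hd hA hB t (by omega) 56 hidx

/-- no subgroup of order 7920 fixes two points -/
theorem no_7920 (hpq : p ≠ q) (hA : H ≤ fixA {p, q}) (hn : Nat.card H = 7920) : False := by
  classical
  have hA2 : ({p, q} : Finset GolayPt).card = 2 := Finset.card_pair hpq
  set Ω := (Finset.univ : Finset GolayPt) \ {p, q} with hΩ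
  have hΩc : Ω.card = 22 := by
    rw [hΩ, Finset.card_sdiff_of_subset (Finset.subset_univ _), card_univ_pt, hA2]
  have hdis : ∀ x ∈ Ω, x ∉ ({p, q} : Finset GolayPt) := fun x hx => (Finset.mem_sdiff.1 hx).2
  -- transitivity
  have htr : ∀ x ∈ Ω, orbitSet H x = Ω := by
    intro x hx
    have hd := orbitSet_avoid hA (hdis x hx)
    have hsub : orbitSet H x ⊆ Ω := fun y hy =>
      Finset.mem_sdiff.2 ⟨Finset.mem_univ _, Finset.disjoint_right.1 hd hy⟩
    refine Finset.eq_of_subset_of_card_le hsub ?_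
    by_contra hlt
    have h := two_key.1 (orbitSet H x).card (by omega) (fun t ht => by
      have := orbit_test hA (orbitSet_smul H x) hd (by rw [hn, hA2]; decide) (m := 4) (by omega) t ht
      rwa [hA2] at this)
    exact absurd (Finset.card_pos.2 ⟨x, orbitSet_self H x⟩) (by omega)
  have hKn : ∀ x ∈ Ω, Nat.card (ptStab H x) = 360 := fun x hx => by
    have := card_ptStab H x
    rw [htr x hx, hΩc, hn] at this
    omega
  have hK3 : ∀ x ∈ Ω, ptStab H x ≤ fixA {p, q, x} ∧ ({p, q, x} : Finset GolayPt).card = 3 := by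
    intro x hx
    have h := hdis x hx
    simp only [Finset.mem_insert, Finset.mem_singleton, not_or] at h
    refine ⟨fun g hg r hr => ?_, Finset.card_eq_three.2 ⟨p, q, x, hpq, Ne.symm h.1, Ne.symm h.2, rfl⟩⟩
    simp only [Finset.mem_insert, Finset.mem_singleton] at hr
    rcases hr with rfl | rfl | rfl
    · exact hA (mem_ptStab.1 hg).1 _ (by simp)
    · exact hA (mem_ptStab.1 hg).1 _ (by simp)
    · exact (mem_ptStab.1 hg).2
  have hsub21 : ∀ x ∈ Ω, ∀ B : Finset GolayPt, B ⊆ Ω.erase x → (∀ g ∈ ptStab H x, g • B = B) →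
      B.card = 0 ∨ B.card = 6 ∨ B.card = 15 ∨ B.card = 21 := by
    intro x hx B hB hinv
    have hB21 := Finset.card_le_card hB
    rw [Finset.card_erase_of_mem hx, hΩc] at hB21
    refine two_key.2 _ (by omega) fun t ht => ?_
    have hd : Disjoint {p, q, x} B := Finset.disjoint_left.2 fun r hr hrB => by
      have h1 := Finset.mem_erase.1 (hB hrB)
      have h2 := hdis r h1.2
      simp only [Finset.mem_insert, Finset.mem_singleton] at hr h2
      tauto
    have := orbit_test (H := ptStab H x) (hK3 x hx).1 hinv hd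
      (by rw [hKn x hx, (hK3 x hx).2]; decide) (m := 3) (by rw [(hK3 x hx).2]) t ht
    rwa [(hK3 x hx).2] at this
  have horb : ∀ x ∈ Ω, ∀ y ∈ Ω.erase x, orbitSet (ptStab H x) y ⊆ Ω.erase x ∧
      ((orbitSet (ptStab H x) y).card = 6 ∨ (orbitSet (ptStab H x) y).card = 15) := by
    intro x hx y hy
    have hd := orbitSet_avoid (hK3 x hx).1 (p := y) (by
      have h1 := Finset.mem_erase.1 hy
      have h2 := hdis y h1.2
      simp only [Finset.mem_insert, Finset.mem_singleton] at h2 ⊢
      tauto)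
    have hsub : orbitSet (ptStab H x) y ⊆ Ω.erase x := fun r hr => by
      have h := Finset.disjoint_right.1 hd hr
      simp only [Finset.mem_insert, Finset.mem_singleton, not_or] at h
      refine Finset.mem_erase.2 ⟨h.2.2, Finset.mem_sdiff.2 ⟨Finset.mem_univ _, ?_⟩⟩
      simp only [Finset.mem_insert, Finset.mem_singleton, not_or]
      exact ⟨h.1, h.2.1⟩
    refine ⟨hsub, ?_⟩
    have hpos := Finset.card_pos.2 ⟨y, orbitSet_self (ptStab H x) y⟩
    have hdv := orbitSet_dvd (ptStab H x) y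
    rw [hKn x hx] at hdv
    rcases hsub21 x hx _ hsub (orbitSet_smul _ y) with h | h | h | h
    · omega
    · exact Or.inl h
    · exact Or.inr h
    · rw [h] at hdv; norm_num at hdv
  -- the graph
  let Adj : GolayPt → GolayPt → Prop := fun x y => x ≠ y ∧ (orbitSet (ptStab H x) y).card = 6
  let N : GolayPt → Finset GolayPt := fun x => Ω.filter fun y => Adj x y
  have hN : ∀ x ∈ Ω, (N x).card = 6 ∧ (∀ y ∈ N x, orbitSet (ptStab H x) y = N x) ∧
      ∀ y ∈ Ω.erase x, y ∉ N x → orbitSet (ptStab H x) y = Ω.erase x \ N x := by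
    intro x hx
    have hmemN : ∀ y, y ∈ N x ↔ y ∈ Ω.erase x ∧ (orbitSet (ptStab H x) y).card = 6 := fun y => by
      simp only [N, Adj, Finset.mem_filter, Finset.mem_erase]
      exact ⟨fun h => ⟨⟨Ne.symm h.2.1, h.1⟩, h.2.2⟩, fun h => ⟨h.1.2, Ne.symm h.1.1, h.2⟩⟩
    obtain ⟨y₀, hy₀, h6⟩ : ∃ y ∈ Ω.erase x, (orbitSet (ptStab H x) y).card = 6 := by
      by_contra hall
      push_neg at hall
      obtain ⟨y, hy⟩ := Finset.card_pos.1 (show 0 < (Ω.erase x).card by
        rw [Finset.card_erase_of_mem hx, hΩc]; norm_num)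
      obtain ⟨hs, h6 | h15⟩ := horb x hx y hy
      · exact hall y hy h6
      · obtain ⟨z, hz⟩ := Finset.card_pos.1 (show 0 < (Ω.erase x \ orbitSet (ptStab H x) y).card by
          rw [Finset.card_sdiff_of_subset hs, Finset.card_erase_of_mem hx, hΩc, h15]; norm_num)
        rw [Finset.mem_sdiff] at hz
        obtain ⟨hs', h6' | h15'⟩ := horb x hx z hz.1
        · exact hall z hz.1 h6'
        · have hd : Disjoint (orbitSet (ptStab H x) y) (orbitSet (ptStab H x) z) :=
            Finset.disjoint_left.2 fun r h1 h2 =>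
              hz.2 (orbitSet_eq h1 ▸ orbitSet_eq h2 ▸ orbitSet_self _ z)
          have := Finset.card_le_card (Finset.union_subset hs hs')
          rw [Finset.card_union_of_disjoint hd, Finset.card_erase_of_mem hx, hΩc, h15, h15'] at this
          omega
    have hNeq : N x = orbitSet (ptStab H x) y₀ := by
      ext y
      rw [hmemN]
      refine ⟨fun ⟨hy, h⟩ => ?_, fun hy => ⟨(horb x hx y₀ hy₀).1 hy, by rw [orbitSet_eq hy]; exact h6⟩⟩
      by_contra hne
      have hd : Disjoint (orbitSet (ptStab H x) y₀) (orbitSet (ptStab H x) y) :=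
        Finset.disjoint_left.2 fun r h1 h2 =>
          hne (orbitSet_eq h1 ▸ orbitSet_eq h2 ▸ orbitSet_self _ y)
      have h12 := hsub21 x hx _ (Finset.union_subset (horb x hx y₀ hy₀).1 (horb x hx y hy).1)
        (fun g hg => by
          rw [Finset.smul_finset_union, orbitSet_smul _ y₀ g hg, orbitSet_smul _ y g hg])
      rw [Finset.card_union_of_disjoint hd, h6, h] at h12
      omega
    refine ⟨hNeq ▸ h6, fun y hy => by rw [hNeq] at hy ⊢; exact orbitSet_eq hy, fun y hy hyN => ?_⟩
    obtain ⟨hs, h | h⟩ := horb x hx y hy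
    · exact absurd ((hmemN y).2 ⟨hy, h⟩) hyN
    · refine Finset.eq_of_subset_of_card_le (fun r hr => Finset.mem_sdiff.2 ⟨hs hr, fun hrN => ?_⟩) ?_
      · rw [hNeq] at hrN hyN
        exact hyN (orbitSet_eq hrN ▸ orbitSet_eq hr ▸ orbitSet_self _ y)
      · rw [Finset.card_sdiff_of_subset (fun r hr => ((hmemN r).1 hr).1), hNeq, h6,
          Finset.card_erase_of_mem hx, hΩc, h]
  have hsymm : ∀ x ∈ Ω, ∀ y ∈ Ω, Adj x y → Adj y x := by
    intro x hx y hy ⟨hne, h⟩
    refine ⟨hne.symm, ?_⟩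
    have h1 := card_ptStab (ptStab H x) y
    have h2 := card_ptStab (ptStab H y) x
    have he : ptStab (ptStab H x) y = ptStab (ptStab H y) x := by
      ext g
      simp only [mem_ptStab]
      tauto
    rw [hKn x hx, h, he] at h1
    rw [hKn y hy] at h2
    have hpos : 0 < Nat.card (ptStab (ptStab H y) x) := Nat.card_pos
    exact Nat.eq_of_mul_eq_mul_right hpos (h2.trans h1.symm)
  have hΩinv : ∀ h ∈ H, ∀ x ∈ Ω, h • x ∈ Ω := fun h hh x hx => by
    rw [← htr x hx]
    exact mem_orbitSet.2 ⟨h, hh, rfl⟩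
  have hadj : ∀ h ∈ H, ∀ x y, Adj x y → Adj (h • x) (h • y) := fun h hh x y hxy =>
    ⟨fun e => hxy.1 (MulAction.injective h e), by rw [orbitSet_conj hh, Finset.card_smul_finset]; exact hxy.2⟩
  have hadj' : ∀ h ∈ H, ∀ x y, (Adj (h • x) (h • y) ↔ Adj x y) := fun h hh x y =>
    ⟨fun e => by simpa [inv_smul_smul] using hadj h⁻¹ (inv_mem hh) _ _ e, hadj h hh x y⟩
  -- common neighbours
  let cn : GolayPt → GolayPt → ℕ := fun x y => (Ω.filter fun z => Adj x z ∧ Adj z y).card
  have hcn : ∀ h ∈ H, ∀ x y, cn (h • x) (h • y) = cn x y := by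
    intro h hh x y
    refine (Finset.card_bij (fun z _ => h • z) ?_ ?_ ?_).symm
    · intro z hz
      rw [Finset.mem_filter] at hz ⊢
      exact ⟨hΩinv h hh z hz.1, hadj h hh _ _ hz.2.1, hadj h hh _ _ hz.2.2⟩
    · intro a _ b _ e
      exact MulAction.injective h e
    · intro z hz
      rw [Finset.mem_filter] at hz
      refine ⟨h⁻¹ • z, Finset.mem_filter.2 ⟨hΩinv _ (inv_mem hh) z hz.1, ?_, ?_⟩, smul_inv_smul h z⟩
      · rw [← hadj' h hh, smul_inv_smul]; exact hz.2.1
      · rw [← hadj' h hh, smul_inv_smul]; exact hz.2.2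
  obtain ⟨x₀, hx₀⟩ := Finset.card_pos.1 (show 0 < Ω.card by omega)
  obtain ⟨hN6, hNorb, hRorb⟩ := hN x₀ hx₀
  obtain ⟨y₁, hy₁⟩ := Finset.card_pos.1 (show 0 < (N x₀).card by omega)
  have hNsub : N x₀ ⊆ Ω.erase x₀ := fun r hr => by
    rw [Finset.mem_filter] at hr
    exact Finset.mem_erase.2 ⟨Ne.symm hr.2.1, hr.1⟩
  have hRc : (Ω.erase x₀ \ N x₀).card = 15 := by
    rw [Finset.card_sdiff_of_subset hNsub, hN6, Finset.card_erase_of_mem hx₀, hΩc]
  obtain ⟨y₂, hy₂⟩ := Finset.card_pos.1 (show 0 < (Ω.erase x₀ \ N x₀).card by omega)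
  set l := cn x₀ y₁
  set m := cn x₀ y₂
  have hval : ∀ x ∈ Ω, ∀ y ∈ Ω, cn x y = if x = y then 6 else if Adj x y then l else m := by
    intro x hx y hy
    split_ifs with h1 h2
    · subst h1
      refine (congrArg Finset.card (Finset.filter_congr fun z hz => ?_)).trans (hN x hx).1
      exact ⟨fun h => h.1, fun h => ⟨h, hsymm x hx z hz h⟩⟩
    all_goals
      obtain ⟨h, hh, e⟩ := mem_orbitSet.1 (show x₀ ∈ orbitSet H x from (htr x hx).symm ▸ hx₀)
      have hy' := hΩinv h hh y hy
      have e0 : h • x = x₀ := e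
      rw [← hcn h hh x y, e0]
      have hne : h • y ≠ x₀ := fun e' => h1 (MulAction.injective h (e0.trans e'.symm))
    · have hA' : Adj x₀ (h • y) := e0 ▸ hadj h hh x y h2
      obtain ⟨k, hk, ek⟩ := mem_orbitSet.1 (show h • y ∈ orbitSet (ptStab H x₀) y₁ by
        rw [hNorb y₁ hy₁]; exact Finset.mem_filter.2 ⟨hy', hA'⟩)
      have := hcn k (mem_ptStab.1 hk).1 x₀ y₁
      rwa [show k • x₀ = x₀ from (mem_ptStab.1 hk).2, show k • y₁ = h • y from ek] at this
    · have hA' : ¬ Adj x₀ (h • y) := fun a => h2 ((hadj' h hh x y).1 (e0 ▸ a))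
      rw [Finset.mem_sdiff] at hy₂
      obtain ⟨k, hk, ek⟩ := mem_orbitSet.1 (show h • y ∈ orbitSet (ptStab H x₀) y₂ by
        rw [hRorb y₂ hy₂.1 hy₂.2]
        exact Finset.mem_sdiff.2 ⟨Finset.mem_erase.2 ⟨hne, hy'⟩,
          fun hm' => hA' (Finset.mem_filter.1 hm').2⟩)
      have := hcn k (mem_ptStab.1 hk).1 x₀ y₂
      rwa [show k • x₀ = x₀ from (mem_ptStab.1 hk).2, show k • y₂ = h • y from ek] at this
  -- counting paths of length two
  have hsum : 6 * l + 15 * m = 30 := by
    have h1 : ∑ y ∈ Ω, cn x₀ y = 36 := by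
      simp only [cn, Finset.card_eq_sum_ones, Finset.sum_filter]
      rw [Finset.sum_comm]
      have : ∀ z ∈ Ω, (∑ y ∈ Ω, if Adj x₀ z ∧ Adj z y then 1 else 0) = if Adj x₀ z then 6 else 0 := by
        intro z hz
        by_cases ha : Adj x₀ z
        · simp only [ha, true_and, if_true]
          rw [← Finset.sum_filter, ← Finset.card_eq_sum_ones]
          exact (hN z hz).1
        · simp [ha]
      rw [Finset.sum_congr rfl this, ← Finset.sum_filter, Finset.sum_const,
        show (Ω.filter fun z => Adj x₀ z).card = 6 from hN6]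
      rfl
    rw [← Finset.add_sum_erase Ω _ hx₀, hval x₀ hx₀ x₀ hx₀, if_pos rfl,
      ← Finset.sum_sdiff hNsub] at h1
    rw [Finset.sum_congr rfl (g := fun _ => m) (fun y hy => ?_),
      Finset.sum_congr (s₁ := N x₀) rfl (g := fun _ => l) (fun y hy => ?_),
      Finset.sum_const, Finset.sum_const, hRc, hN6, smul_eq_mul, smul_eq_mul] at h1
    · omega
    · rw [Finset.mem_filter] at hy
      rw [hval x₀ hx₀ y hy.1, if_neg hy.2.1, if_pos hy.2]
    · rw [Finset.mem_sdiff, Finset.mem_erase] at hy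
      rw [hval x₀ hx₀ y hy.1.2, if_neg (Ne.symm hy.1.1),
        if_neg (fun a => hy.2 (Finset.mem_filter.2 ⟨hy.1.2, a⟩))]
  have hl5 : l ≤ 5 := by
    have hy1 := Finset.mem_filter.1 hy₁
    refine le_trans (Finset.card_le_card (t := (N x₀).erase y₁) fun z hz => ?_) ?_
    · rw [Finset.mem_filter] at hz
      exact Finset.mem_erase.2 ⟨hz.2.2.1, Finset.mem_filter.2 ⟨hz.1, hz.2.1⟩⟩
    · rw [Finset.card_erase_of_mem hy₁, hN6]
  -- the adjacency matrix
  have hsq : ∀ (R : Type) [CommRing R] (x y : Ω),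
      ((Matrix.of fun a b : Ω => if Adj a b then (1 : R) else 0) *
        (Matrix.of fun a b : Ω => if Adj a b then (1 : R) else 0)) x y =
      ((if (x : GolayPt) = y then 6 else if Adj x y then l else m : ℕ) : R) := by
    intro R _ x y
    rw [← hval x x.2 y y.2, Matrix.mul_apply]
    simp only [cn, Finset.card_eq_sum_ones, Finset.sum_filter, Nat.cast_sum]
    rw [← Finset.sum_coe_sort Ω]
    refine Finset.sum_congr rfl fun z _ => ?_
    by_cases h1 : Adj x z <;> by_cases h2 : Adj z y <;> simp [h1, h2]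
  have hirr : ∀ x, ¬ Adj x x := fun x h => h.1 rfl
  haveI : Fintype.card Ω = 22 → Nonempty Ω := fun _ => ⟨⟨x₀, hx₀⟩⟩
  have hcard : Fintype.card Ω = 22 := by rw [Fintype.card_coe, hΩc]
  rcases (show (l = 0 ∧ m = 2) ∨ (l = 5 ∧ m = 0) by omega) with ⟨hl, hm⟩ | ⟨hl, hm⟩
  · -- a square equal to a non square
    haveI : Fact (Nat.Prime 3) := ⟨by norm_num⟩
    set M : Matrix Ω Ω (ZMod 3) := (Matrix.of fun a b : Ω => if Adj a b then (1 : ZMod 3) else 0) + 1
      with hM
    have hMM : M * M = (2 : ZMod 3) • (1 + Matrix.replicateCol Unit (fun _ : Ω => (1 : ZMod 3)) *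
        Matrix.replicateRow Unit (fun _ : Ω => (1 : ZMod 3))) := by
      set A : Matrix Ω Ω (ZMod 3) := Matrix.of fun a b : Ω => if Adj a b then (1 : ZMod 3) else 0
        with hA
      rw [hM, show (A + 1) * (A + 1) = A * A + A + A + 1 by noncomm_ring]
      ext x y
      have eJ : (Matrix.replicateCol Unit (fun _ : Ω => (1 : ZMod 3)) *
          Matrix.replicateRow Unit (fun _ : Ω => (1 : ZMod 3))) x y = 1 := by simp [Matrix.mul_apply]
      have eA : A x y = if Adj x y then 1 else 0 := rfl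
      rw [Matrix.add_apply, Matrix.add_apply, Matrix.add_apply, hA, hsq, ← hA, eA, Matrix.smul_apply,
        Matrix.add_apply, eJ, Matrix.one_apply, hl, hm, smul_eq_mul]
      by_cases hxy : x = y
      · subst hxy
        rw [if_pos rfl, if_pos rfl, if_neg (hirr _)]
        rfl
      · have hxy' : (x : GolayPt) ≠ y := fun e => hxy (Subtype.ext e)
        rw [if_neg hxy', if_neg hxy]
        split_ifs <;> rfl
    have hdet := congrArg Matrix.det hMM
    have hJ : (1 + Matrix.replicateRow Unit (fun _ : Ω => (1 : ZMod 3)) *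
        Matrix.replicateCol Unit (fun _ : Ω => (1 : ZMod 3))).det = (1 + 22 : ZMod 3) := by
      rw [Matrix.det_unique]
      simp [Matrix.mul_apply, hΩc]
    rw [Matrix.det_mul, Matrix.det_smul, Matrix.det_one_add_mul_comm, hcard, hJ] at hdet
    exact z3 _ hdet
  · -- a nilpotent matrix with non zero trace
    haveI : Fact (Nat.Prime 7) := ⟨by norm_num⟩
    set M : Matrix Ω Ω (ZMod 7) := (Matrix.of fun a b : Ω => if Adj a b then (1 : ZMod 7) else 0) + 1
      with hM
    have hMM : M * M = 0 := by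
      set A : Matrix Ω Ω (ZMod 7) := Matrix.of fun a b : Ω => if Adj a b then (1 : ZMod 7) else 0
        with hA
      rw [hM, show (A + 1) * (A + 1) = A * A + A + A + 1 by noncomm_ring]
      ext x y
      have eA : A x y = if Adj x y then 1 else 0 := rfl
      rw [Matrix.add_apply, Matrix.add_apply, Matrix.add_apply, hA, hsq, ← hA, eA, Matrix.one_apply,
        Matrix.zero_apply, hl, hm]
      by_cases hxy : x = y
      · subst hxy
        rw [if_pos rfl, if_pos rfl, if_neg (hirr _)]
        rfl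
      · have hxy' : (x : GolayPt) ≠ y := fun e => hxy (Subtype.ext e)
        rw [if_neg hxy', if_neg hxy]
        split_ifs <;> rfl
    have htrc := (Matrix.isNilpotent_trace_of_isNilpotent ⟨2, by rw [pow_two, hMM]⟩ :
      IsNilpotent M.trace).eq_zero
    simp only [hM, Matrix.trace_add, Matrix.trace_one, hcard] at htrc
    rw [Matrix.trace, Finset.sum_eq_zero fun x _ => ?_, zero_add] at htrc
    · exact z7 htrc
    · simp [hirr]

/-- the statement for the two-point stabiliser -/
theorem no_small_index (hpq : p ≠ q) (H : Subgroup ↥(stabilizer M24 p ⊓ stabilizer M24 q)) :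
    H.index ≠ 56 ∧ H.index ≠ 210 := by
  have hmul := H.card_mul_index
  rw [card_stabilizer_two hpq] at hmul
  have hle : H.map (stabilizer M24 p ⊓ stabilizer M24 q).subtype ≤ fixA {p, q} := by
    rintro _ ⟨g, -, rfl⟩ r hr
    simp only [Finset.mem_insert, Finset.mem_singleton] at hr
    rcases hr with rfl | rfl
    exacts [g.2.1, g.2.2]
  have hc : Nat.card (H.map (stabilizer M24 p ⊓ stabilizer M24 q).subtype) = Nat.card H :=
    Subgroup.card_map_of_injective (Subgroup.subtype_injective _)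
  constructor
  · intro h
    rw [h] at hmul
    exact no_7920 hpq hle (by omega)
  · intro h
    rw [h] at hmul
    have h2112 : Nat.card (H.map (stabilizer M24 p ⊓ stabilizer M24 q).subtype) = 2112 := by omega
    obtain ⟨k, hk1, hk2, hk3⟩ := sylow_eleven_test _ (p := p)
      (fun g hg => hle hg p (by simp)) (by rw [h2112]; norm_num) (by rw [h2112]; norm_num)
    rw [h2112] at hk2 hk3
    exact test_2112 k (Nat.mem_divisors.2 ⟨hk1, by norm_num⟩) hk2 hk3

end Cfsg.Agent.Spor.MathieuIdx
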