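import Cfsg.Agent.Lib.Spor.GolayWordChain
import Cfsg.Agent.Lib.Solv.StabCocycleCheck

/-!
Bounds for Schur multipliers of permutation groups on the twenty-four points from cocycle certificates.
-/

set_option autoImplicit false

namespace Cfsg.Agent.Spor.MathieuMult

open Cfsg Cfsg.Agent.Local.FS.Mathieu Cfsg.Agent.Solv.StabCocycle Cfsg.Agent.Spor.WordChain

universe u v

/-- A trivial Schur multiplier is preserved by isomorphisms. -/
theorem trivial_congr {G : Type u} {G' : Type u} [Group G] [Group G'] (e : G ≃* G')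
    (h : Cfsg.HasCyclicSchurMultiplier G' 1) : Cfsg.HasCyclicSchurMultiplier G 1 := by
  obtain ⟨⟨Γ, i1, i2, σ, ⟨hs, hc, hd⟩, hk⟩, huniv⟩ := h
  have hker : ∀ {Δ : Type u} [Group Δ] (τ : Δ →* G'), (e.symm.toMonoidHom.comp τ).ker = τ.ker := by
    intro Δ _ τ; ext x; simp
  refine ⟨⟨Γ, i1, i2, e.symm.toMonoidHom.comp σ, ⟨e.symm.surjective.comp hs, by rw [hker]; exact hc,
    by rw [hker]; exact hd⟩, ?_⟩, fun Δ _ _ τ hτ => ?_⟩
  · rw [hker]; exact hk
  · obtain ⟨hs', hc', hd'⟩ := hτ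
    have hk' : (e.toMonoidHom.comp τ).ker = τ.ker := by ext x; simp
    have := huniv Δ (e.toMonoidHom.comp τ) ⟨e.surjective.comp hs', by rw [hk']; exact hc', by rw [hk']; exact hd'⟩
    rwa [hk'] at this

/-- Perfectness is preserved by isomorphisms. -/
theorem perfect_congr {G : Type u} {G' : Type v} [Group G] [Group G'] (e : G ≃* G') (h : commutator G' = ⊤) :
    commutator G = ⊤ := by
  refine Subgroup.map_injective (f := e.toMonoidHom) e.injective ?_
  rw [Subgroup.map_top_of_surjective _ e.surjective, commutator_def, Subgroup.map_commutator,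
    Subgroup.map_top_of_surjective _ e.surjective, ← commutator_def, h]

/-- A noncommutative simple group is perfect. -/
theorem perfect_of_simple {G : Type u} [Group G] [IsSimpleGroup G] (h : ∃ a b : G, a * b ≠ b * a) :
    commutator G = ⊤ := by
  obtain ⟨a, b, hab⟩ := h
  rcases (inferInstance : (commutator G).Normal).eq_bot_or_eq_top with h | h
  · exact absurd (commutatorElement_eq_one_iff_mul_comm.mp (Subgroup.mem_bot.mp
      (h ▸ Subgroup.commutator_mem_commutator (Subgroup.mem_top a) (Subgroup.mem_top b)))) hab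
  · exact h

/-- The stabiliser inside a subgroup is the intersection with the stabiliser. -/
def stabEquiv {K X : Type*} [Group K] [MulAction K X] (H : Subgroup K) (x : X) :
    MulAction.stabilizer H x ≃* ↥(H ⊓ MulAction.stabilizer K x) where
  toFun g := ⟨g.1.1, g.1.2, g.2⟩
  invFun g := ⟨⟨g.1, g.2.1⟩, g.2.2⟩
  left_inv _ := rfl
  right_inv _ := rfl
  map_mul' _ _ := rfl

theorem coe_evalW {H : Subgroup (Equiv.Perm GolayPt)} (a : ℕ → H) : ∀ w,
    ((evalW a w : H) : Equiv.Perm GolayPt) = evalW (fun j => (a j : Equiv.Perm GolayPt)) w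
  | [] => rfl
  | j :: w => by rw [evalW, Subgroup.coe_mul, coe_evalW a w, evalW]

/-- The kernel of a stem extension of a permutation group on the points. -/
theorem kernel_bound {H : Subgroup (Equiv.Perm GolayPt)} {X : Type*} [MulAction H X] (a b : Equiv.Perm GolayPt)
    (ha : a ∈ H) (hb : b ∈ H) (hgen : Subgroup.closure ({⟨a, ha⟩, ⟨b, hb⟩} : Set H) = ⊤) (pts : ℕ → X) (c : Cfsg.Agent.Solv.StabCocycle.Cert)
    (hchk : c.check = true)
    (hact : ∀ i < c.n, (⟨a, ha⟩ : H) • pts i = pts (c.actF 0 i) ∧ (⟨b, hb⟩ : H) • pts i = pts (c.actF 1 i))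
    (h0 : ∀ i < c.n, pts i = pts 0 → i = 0)
    (hrel : (c.words.all fun w => w.all (fun j => Nat.blt j 2) && (lword [lst a, lst b] w == List.range 24)) = true)
    (hHp : commutator ↥(MulAction.stabilizer H (pts 0)) = ⊤)
    (hH : Cfsg.HasCyclicSchurMultiplier ↥(MulAction.stabilizer H (pts 0)) 1)
    (Γ : Type) [Group Γ] [Finite Γ] (σ : Γ →* H) (hσ : Cfsg.IsStemExtension σ) :
    ∃ g : σ.ker, g ^ c.N = 1 ∧ ∀ k : σ.ker, k ∈ Subgroup.zpowers g := by
  obtain ⟨f, hf⟩ : ∃ f : ℕ → H, ∀ j, f j = if j = 0 then ⟨a, ha⟩ else ⟨b, hb⟩ := ⟨_, fun _ => rfl⟩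
  have f0 : f 0 = ⟨a, ha⟩ := by rw [hf, if_pos rfl]
  have f1 : f 1 = ⟨b, hb⟩ := by rw [hf, if_neg Nat.one_ne_zero]
  refine kernel_cyclic f (by rw [f0, f1]; exact hgen) pts c hchk (fun i hi j hj => ?_) h0 (fun w hw => ?_) hHp hH
    Γ σ hσ
  · obtain rfl | rfl : j = 0 ∨ j = 1 := by omega
    · rw [f0]; exact (hact i hi).1
    · rw [f1]; exact (hact i hi).2
  · simp only [List.all_eq_true, Bool.and_eq_true, Nat.blt_eq, beq_iff_eq] at hrel
    obtain ⟨hlt, he⟩ := hrel w hw
    refine Subtype.ext (lst_injective ?_)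
    rw [coe_evalW, OneMemClass.coe_one, lst_one, lst_word _ [lst a, lst b] w fun j hj => ?_, he]
    obtain rfl | rfl : j = 0 ∨ j = 1 := by have := hlt j hj; omega
    · rw [f0]; rfl
    · rw [f1]; rfl

end Cfsg.Agent.Spor.MathieuMult
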