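/-
The Mathieu group on nine points: a group of order 72 with the given four generators has a normal elementary
abelian Sylow 3-subgroup and quaternion Sylow 2-subgroups.
-/
import Mathlib

set_option autoImplicit false

namespace Cfsg.Agent.Spor.NineStruct

variable {K : Type*} [Group K]

theorem powHom_exists {n : ℕ} [NeZero n] (g : K) (hg : g ^ n = 1) :
    ∃ f : Multiplicative (ZMod n) →* K, f (Multiplicative.ofAdd 1) = g ∧
      ∀ k : ℕ, f (Multiplicative.ofAdd (k : ZMod n)) = g ^ k := by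
  refine ⟨AddMonoidHom.toMultiplicativeLeft (ZMod.lift n ⟨(zmultiplesHom (Additive K)) (Additive.ofMul g), ?_⟩), ?_, fun k => ?_⟩
  · rw [zmultiplesHom_apply, natCast_zsmul, ← ofMul_pow, hg, ofMul_one]
  · have h := ZMod.lift_coe n (⟨(zmultiplesHom (Additive K)) (Additive.ofMul g), by
      rw [zmultiplesHom_apply, natCast_zsmul, ← ofMul_pow, hg, ofMul_one]⟩ :
      {f : ℤ →+ Additive K // f n = 0}) 1
    simp only [Int.cast_one, zmultiplesHom_apply, one_zsmul] at h
    exact congrArg Additive.toMul h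
  · have h := ZMod.lift_coe n (⟨(zmultiplesHom (Additive K)) (Additive.ofMul g), by
      rw [zmultiplesHom_apply, natCast_zsmul, ← ofMul_pow, hg, ofMul_one]⟩ :
      {f : ℤ →+ Additive K // f n = 0}) k
    simp only [Int.cast_natCast, zmultiplesHom_apply, natCast_zsmul, ← ofMul_pow] at h
    exact congrArg Additive.toMul h

/-- the quaternion group of order 8 maps onto two elements satisfying its relations -/
theorem quat_hom {i j : K} (hi : i ^ 4 = 1) (hj : j ^ 2 = i ^ 2) (hji : j * i = i⁻¹ * j) :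
    ∃ f : QuaternionGroup 2 →* K, f (QuaternionGroup.a 1) = i ∧ f (QuaternionGroup.xa 0) = j ∧
      ∀ k, f (QuaternionGroup.xa k) = j * f (QuaternionGroup.a k) := by
  obtain ⟨w, w1, wk⟩ := powHom_exists (n := 2 * 2) i hi
  set v : ZMod (2 * 2) → K := fun x => w (Multiplicative.ofAdd x)
  have vadd : ∀ x y, v (x + y) = v x * v y := fun x y => w.map_mul _ _
  have vneg : ∀ x, v (-x) = (v x)⁻¹ := fun x => w.map_inv (Multiplicative.ofAdd x)
  have vsub : ∀ x y, v (x - y) = v x * (v y)⁻¹ := fun x y => by rw [sub_eq_add_neg, vadd, vneg]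
  have vcomm : ∀ x y, v x * v y = v y * v x := fun x y => by rw [← vadd, ← vadd, add_comm]
  have flip : ∀ x, j * v x = (v x)⁻¹ * j := by
    intro x
    have e : v x = i ^ x.val := by
      show w (Multiplicative.ofAdd x) = _
      rw [← wk x.val, ZMod.natCast_zmod_val]
    rw [e]
    generalize x.val = k
    induction k with
    | zero => simp
    | succ k ih => rw [pow_succ, ← mul_assoc, ih, mul_assoc, hji, ← mul_assoc, ← mul_inv_rev, ← pow_succ', ← pow_succ]
  have hjj : j * j = v ((2 : ℕ) : ZMod (2 * 2)) := by rw [← sq, hj]; exact (wk 2).symm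
  refine ⟨{ toFun := fun q => match q with
              | QuaternionGroup.a k => v k
              | QuaternionGroup.xa k => j * v k
            map_one' := w.map_one
            map_mul' := ?_ }, w1, ?_, fun k => rfl⟩
  · rintro (x | x) (y | y)
    · exact vadd x y
    · show j * v (y - x) = v x * (j * v y)
      rw [vsub, ← mul_assoc (v x)]
      have : v x * j = j * (v x)⁻¹ := by
        rw [← vneg, flip, ← vneg, neg_neg]
      rw [this, mul_assoc, ← vneg, vcomm (-x)]
    · show j * v (x + y) = j * v x * v y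
      rw [vadd, mul_assoc]
    · show v ((2 : ℕ) + y - x) = j * v x * (j * v y)
      have h2 : v x * j = j * (v x)⁻¹ := by rw [← vneg, flip, ← vneg, neg_neg]
      have h3 : v y * (v x)⁻¹ = (v x)⁻¹ * v y := by rw [← vneg, vcomm]
      rw [vsub, vadd, ← hjj, mul_assoc (j * j), h3, mul_assoc j (v x), ← mul_assoc (v x) j, h2]
      group
  · show j * v 0 = j
    rw [show v 0 = 1 from w.map_one, mul_one]

theorem nine_exp : ∀ w : Multiplicative (ZMod 3) × Multiplicative (ZMod 3), w ^ 3 = 1 := by decide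

theorem structure_nine [Finite K] (hK : Nat.card K = 72) {a b i j : K} (ha : a ^ 3 = 1) (hb : b ^ 3 = 1)
    (hab : a * b = b * a) (ha1 : a ≠ 1) (hb0 : b ≠ 1) (hb1 : b ≠ a) (hb2 : b ≠ a ^ 2)
    (hi : i ^ 4 = 1) (hi2 : i ^ 2 ≠ 1) (hj : j ^ 2 = i ^ 2) (hji : j * i = i⁻¹ * j) (hj1 : j ≠ i) (hj3 : j ≠ i ^ 3)
    (hia : i * a * i⁻¹ = b) (hib : i * b * i⁻¹ = a ^ 2) (hja : j * a * j⁻¹ = a * b) (hjb : j * b * j⁻¹ = a * b ^ 2) :
    (∀ Q : Sylow 3 K, (Q : Subgroup K).Normal ∧ Nat.card Q = 9 ∧ ∀ x ∈ (Q : Subgroup K), x ^ 3 = 1) ∧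
      ∀ P : Sylow 2 K, Nonempty (↥P ≃* QuaternionGroup 2) := by
  classical
  haveI := Fact.mk (show Nat.Prime 3 by norm_num)
  haveI := Fact.mk (show Nat.Prime 2 by norm_num)
  obtain ⟨fa, fa1, fak⟩ := powHom_exists (n := 3) a ha
  obtain ⟨fb, fb1, fbk⟩ := powHom_exists (n := 3) b hb
  have hcomm : ∀ x y, Commute (fa x) (fb y) := by
    intro x y
    have e1 := fak (Multiplicative.toAdd x).val
    have e2 := fbk (Multiplicative.toAdd y).val
    rw [ZMod.natCast_zmod_val, ofAdd_toAdd] at e1 e2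
    rw [e1, e2]
    exact (show Commute a b from hab).pow_pow _ _
  set f := fa.noncommCoprod fb hcomm with hfdef
  have fval : ∀ (s t : Fin 3), f (Multiplicative.ofAdd ((s : ℕ) : ZMod 3), Multiplicative.ofAdd ((t : ℕ) : ZMod 3)) = a ^ (s : ℕ) * b ^ (t : ℕ) := by
    intro s t
    rw [hfdef, MonoidHom.noncommCoprod_apply, fak, fbk]
  have hf : Function.Injective f := by
    rw [injective_iff_map_eq_one]
    rintro ⟨x, y⟩ hxy
    obtain ⟨s, rfl⟩ : ∃ s : Fin 3, x = Multiplicative.ofAdd ((s : ℕ) : ZMod 3) :=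
      ⟨⟨(Multiplicative.toAdd x).val, ZMod.val_lt _⟩, by simp [ZMod.natCast_zmod_val]⟩
    obtain ⟨t, rfl⟩ : ∃ t : Fin 3, y = Multiplicative.ofAdd ((t : ℕ) : ZMod 3) :=
      ⟨⟨(Multiplicative.toAdd y).val, ZMod.val_lt _⟩, by simp [ZMod.natCast_zmod_val]⟩
    rw [fval] at hxy
    fin_cases s <;> fin_cases t <;>
      simp only [pow_zero, pow_one, one_mul, mul_one] at hxy
    · rfl
    · exact absurd hxy hb0
    · exact absurd (calc b = b ^ 3 * (b ^ 2)⁻¹ := by group
        _ = 1 := by rw [hb, hxy]; group) hb0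
    · exact absurd hxy ha1
    · exact absurd (calc b = a ^ 2 * (a * b) := by rw [← mul_assoc, ← pow_succ, ha, one_mul]
        _ = a ^ 2 := by rw [hxy, mul_one]) hb2
    · exact absurd (calc b = a * b ^ 2 * b := by rw [hxy, one_mul]
        _ = a := by rw [mul_assoc, ← pow_succ, hb, mul_one]) hb1
    · exact absurd (calc a = a ^ 3 * (a ^ 2)⁻¹ := by group
        _ = 1 := by rw [ha, hxy]; group) ha1
    · exact absurd (calc b = a * (a ^ 2 * b) := by rw [← mul_assoc, ← pow_succ', ha, one_mul]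
        _ = a := by rw [hxy, mul_one]) hb1
    · exact absurd (calc b = a ^ 2 * b ^ 2 * b := by rw [hxy, one_mul]
        _ = a ^ 2 := by rw [mul_assoc, ← pow_succ, hb, mul_one]) hb2
  have hN : Nat.card f.range = 9 := by
    rw [← Nat.card_congr (MonoidHom.ofInjective hf).toEquiv, Nat.card_prod, Nat.card_congr Multiplicative.toAdd, Nat.card_zmod]
  have haN : a ∈ f.range := ⟨(Multiplicative.ofAdd ((1 : Fin 3) : ℕ), Multiplicative.ofAdd ((0 : Fin 3) : ℕ)), by rw [fval]; simp⟩
  have hbN : b ∈ f.range := ⟨(Multiplicative.ofAdd ((0 : Fin 3) : ℕ), Multiplicative.ofAdd ((1 : Fin 3) : ℕ)), by rw [fval]; simp⟩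
  have norm_of : ∀ g, g * a * g⁻¹ ∈ f.range → g * b * g⁻¹ ∈ f.range → g ∈ Subgroup.normalizer (f.range : Set K) := by
    intro g h1 h2
    haveI : Fintype K := Fintype.ofFinite K
    refine Subgroup.mem_normalizer_fintype fun n hn => ?_
    obtain ⟨⟨x, y⟩, rfl⟩ := hn
    have e1 := fak (Multiplicative.toAdd x).val
    have e2 := fbk (Multiplicative.toAdd y).val
    rw [ZMod.natCast_zmod_val, ofAdd_toAdd] at e1 e2
    rw [hfdef, MonoidHom.noncommCoprod_apply, e1, e2, ← conj_mul, ← conj_pow, ← conj_pow]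
    exact mul_mem (pow_mem h1 _) (pow_mem h2 _)
  have na : a ∈ Subgroup.normalizer (f.range : Set K) := Subgroup.le_normalizer haN
  have nb : b ∈ Subgroup.normalizer (f.range : Set K) := Subgroup.le_normalizer hbN
  have ni : i ∈ Subgroup.normalizer (f.range : Set K) := norm_of i (by rw [hia]; exact hbN) (by rw [hib]; exact pow_mem haN 2)
  have nj : j ∈ Subgroup.normalizer (f.range : Set K) :=
    norm_of j (by rw [hja]; exact mul_mem haN hbN) (by rw [hjb]; exact mul_mem haN (pow_mem hbN 2))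
  obtain ⟨q, qa, qx, qk⟩ := quat_hom hi hj hji
  have qpow : ∀ k : Fin 4, q (QuaternionGroup.a ((k : ℕ) : ZMod (2 * 2))) = i ^ (k : ℕ) := by
    intro k
    rw [← QuaternionGroup.a_one_pow, map_pow, qa]
  have hq : Function.Injective q := by
    rw [injective_iff_map_eq_one]
    have i1 : i ≠ 1 := fun h => hi2 (by rw [h, one_pow])
    have i3 : i ^ 3 ≠ 1 := fun h => i1 (by
      have := hi
      rw [pow_succ, h, one_mul] at this
      exact this)
    have jne : ∀ k : ℕ, j * i ^ k = 1 → j = (i ^ k)⁻¹ := fun k h => eq_inv_of_mul_eq_one_left h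
    have ei : i⁻¹ = i ^ 3 := inv_eq_of_mul_eq_one_right (by rw [← pow_succ', hi])
    rintro (k | k) h <;>
      (obtain ⟨s, rfl⟩ : ∃ s : Fin 4, k = ((s : ℕ) : ZMod (2 * 2)) := ⟨⟨k.val, ZMod.val_lt _⟩, (ZMod.natCast_zmod_val k).symm⟩)
    · rw [qpow] at h
      fin_cases s
      · rfl
      · exact absurd (by simpa using h) i1
      · exact absurd h hi2
      · exact absurd h i3
    · exfalso
      rw [qk, qpow] at h
      have h' := jne _ h
      fin_cases s
      · simp only [pow_zero, inv_one] at h'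
        exact hi2 (by rw [← hj, h', one_pow])
      · simp only [pow_one] at h'
        exact hj3 (h'.trans ei)
      · have e : (i ^ 2)⁻¹ = i ^ 2 := inv_eq_of_mul_eq_one_right (by rw [← pow_add, hi])
        simp only at h'
        rw [e] at h'
        apply hi2
        rw [← hj, h', ← pow_mul, hi]
      · simp only at h'
        rw [← ei, inv_inv] at h'
        exact hj1 h'
  have hQ : Nat.card q.range = 8 := by
    rw [← Nat.card_congr (MonoidHom.ofInjective hq).toEquiv, Nat.card_eq_fintype_card, QuaternionGroup.card]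
  have hqle : q.range ≤ Subgroup.normalizer (f.range : Set K) := by
    rintro _ ⟨x, rfl⟩
    rcases x with k | k
    · rw [← ZMod.natCast_zmod_val k, ← QuaternionGroup.a_one_pow, map_pow, qa]; exact pow_mem ni _
    · rw [qk, ← ZMod.natCast_zmod_val k, ← QuaternionGroup.a_one_pow, map_pow, qa]; exact mul_mem nj (pow_mem ni _)
  have htop : Subgroup.normalizer (f.range : Set K) = ⊤ := by
    have h9 : 9 ∣ Nat.card (Subgroup.normalizer (f.range : Set K)) := hN ▸ Subgroup.card_dvd_of_le Subgroup.le_normalizer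
    have h8 : 8 ∣ Nat.card (Subgroup.normalizer (f.range : Set K)) := hQ ▸ Subgroup.card_dvd_of_le hqle
    refine Subgroup.eq_top_of_card_eq _ (Nat.dvd_antisymm (Subgroup.card_subgroup_dvd_card _) ?_)
    rw [hK]
    exact Nat.Coprime.mul_dvd_of_dvd_of_dvd (show Nat.Coprime 9 8 by norm_num) h9 h8
  have hnormal : f.range.Normal := Subgroup.normalizer_eq_top_iff.1 htop
  have f72 : ∀ p, (Nat.card K).factorization p = (2 ^ 3 * 3 ^ 2 : ℕ).factorization p := fun p => by rw [hK]; norm_num
  let S3 : Sylow 3 K := Sylow.ofCard f.range (by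
    rw [hN, f72, Nat.factorization_mul (by norm_num) (by norm_num), Nat.Prime.factorization_pow (by norm_num),
      Nat.Prime.factorization_pow (by norm_num)]
    simp)
  let S2 : Sylow 2 K := Sylow.ofCard q.range (by
    rw [hQ, f72, Nat.factorization_mul (by norm_num) (by norm_num), Nat.Prime.factorization_pow (by norm_num),
      Nat.Prime.factorization_pow (by norm_num)]
    simp)
  refine ⟨fun Q => ?_, fun P => ⟨(P.equiv S2).trans (MonoidHom.ofInjective hq).symm⟩⟩
  haveI : (S3 : Subgroup K).Normal := hnormal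
  haveI : Subsingleton (Sylow 3 K) := (Sylow.unique_of_normal S3 inferInstance).instSubsingleton
  obtain rfl := Subsingleton.elim Q S3
  refine ⟨hnormal, hN, ?_⟩
  rintro _ ⟨z, rfl⟩
  rw [← map_pow]
  have : z ^ 3 = 1 := by
    clear_value S3 S2
    exact nine_exp z
  rw [this, map_one]

end Cfsg.Agent.Spor.NineStruct
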