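import Cfsg.Agent.Lib.Spor.MathieuOut
import Cfsg.Agent.Lib.Spor.GolayModules
import Cfsg.Agent.Lib.Spor.M11Local

/-!
# The outer automorphism group of M12 has order two

A subgroup of order 7920 of a dodecad stabiliser fixes one of the 24 points: otherwise a subgroup of order 60 would
fix a tetrad meeting the dodecad in two points, which elements of order 5 and 3 rule out.
-/

set_option autoImplicit false
set_option maxRecDepth 100000

namespace Cfsg.Agent.Spor.MathieuOutTwelve

open Cfsg Cfsg.Agent.Spor MulAction MathieuOut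
open scoped Pointwise

theorem smul_compl (σ : Equiv.Perm GolayPt) (s : Finset GolayPt) : σ • sᶜ = (σ • s)ᶜ := by
  ext p
  rw [Finset.mem_compl, ← Finset.inv_smul_mem_iff, Finset.mem_compl, ← Finset.inv_smul_mem_iff]

theorem compl_dodecad {d : Finset GolayPt} (hd : d ∈ dodecads) : dᶜ ∈ dodecads := by
  have h1 : mask (Finset.univ : Finset GolayPt) ∈ codeMasks := by decide +kernel
  have e : symmDiff (Finset.univ : Finset GolayPt) d = dᶜ := by
    ext p; simp [Finset.mem_symmDiff]
  refine ⟨mem_supports.2 ?_, by rw [Finset.card_compl, hd.2, Fintype.card_option, ZMod.card]⟩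
  rw [← e, mask_symmDiff]
  exact codeMasks_xor h1 (mem_supports.1 hd.1)

theorem stab_compl (d : Finset GolayPt) : stabilizer M24 dᶜ = stabilizer M24 d := by
  ext g
  rw [mem_stabilizer_iff, mem_stabilizer_iff]
  show (g : Equiv.Perm GolayPt) • dᶜ = dᶜ ↔ (g : Equiv.Perm GolayPt) • d = d
  rw [smul_compl, compl_inj_iff]

theorem card_stab_point {d : Finset GolayPt} (hd : d ∈ dodecads) (p : GolayPt) :
    Nat.card ↥(stabilizer M24 d ⊓ stabilizer M24 p) = 7920 := by
  by_cases hp : p ∈ d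
  · exact card_stab_dodecad_point hd hp
  · rw [← stab_compl d]
    exact card_stab_dodecad_point (compl_dodecad hd) (Finset.mem_compl.2 hp)

theorem mem_of_stab {d : Finset GolayPt} {g : M24} (hg : g ∈ stabilizer M24 d) {x : GolayPt} :
    (g : Equiv.Perm GolayPt) x ∈ d ↔ x ∈ d := by
  have h : (g : Equiv.Perm GolayPt) • d = d := hg
  conv_lhs => rw [← h]
  exact Finset.smul_mem_smul_finset_iff _

/-- a nontrivial element fixes at most four points of an invariant dodecad -/
theorem fix_le_four {d : Finset GolayPt} (hd : d ∈ dodecads) {g : M24} (hg : g ∈ stabilizer M24 d) (h1 : g ≠ 1) :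
    ((fixSet (g : Equiv.Perm GolayPt)).filter fun p => p ∈ d).card ≤ 4 := by
  by_contra h
  obtain ⟨e⟩ : Nonempty (Fin 5 ↪ {p // p ∈ (fixSet (g : Equiv.Perm GolayPt)).filter fun p => p ∈ d}) :=
    Function.Embedding.nonempty_of_card_le (by rw [Fintype.card_coe, Fintype.card_fin]; omega)
  refine h1 (Subtype.ext (dodecad_fix_five hd g.2 hg (e.trans (Function.Embedding.subtype _)) (fun i => ?_)
    fun i => ?_))
  · exact (Finset.mem_filter.1 (e i).2).2
  · exact (Finset.mem_filter.1 (Finset.mem_filter.1 (e i).2).1).2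

theorem fix_split (g : Equiv.Perm GolayPt) (d : Finset GolayPt) :
    (fixSet g).card = ((fixSet g).filter fun p => p ∈ d).card + ((fixSet g).filter fun p => p ∈ dᶜ).card := by
  have h := Finset.card_filter_add_card_filter_not (s := fixSet g) (fun p => p ∈ d)
  simpa only [Finset.mem_compl] using h.symm

/-- an element of order five fixes four points -/
theorem fix_card_5 {d : Finset GolayPt} (hd : d ∈ dodecads) {g : M24} (hg : g ∈ stabilizer M24 d)
    (ho : orderOf (g : Equiv.Perm GolayPt) = 5) : (fixSet (g : Equiv.Perm GolayPt)).card = 4 := by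
  haveI : Fact (Nat.Prime 5) := ⟨by norm_num⟩
  obtain ⟨k, hk, -⟩ := cycle_count ho
  have h1 : g ≠ 1 := fun e => by rw [e] at ho; simp at ho
  have a := fix_le_four hd hg h1
  have b := fix_le_four (compl_dodecad hd) ((stab_compl d).symm ▸ hg) h1
  have c := fix_split (g : Equiv.Perm GolayPt) d
  omega

/-- moved points of an invariant finite set come in multiples of the prime order -/
theorem dvd_moved {β : Type*} [DecidableEq β] {f : Equiv.Perm β} {r : ℕ} [Fact r.Prime] (hf : f ^ r = 1)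
    (O : Finset β) (hO : ∀ p, f p ∈ O ↔ p ∈ O) : r ∣ (O.filter fun p => f p ≠ p).card := by
  classical
  let σ : Equiv.Perm {p // p ∈ O} := f.subtypePerm hO
  have hσ : σ ^ r ^ 1 = 1 := by
    rw [pow_one]
    ext p
    simp [σ, Equiv.Perm.subtypePerm_pow, hf]
  have hmod := Equiv.Perm.card_compl_support_modEq hσ
  have h1 : σ.supportᶜ.card = (O.filter fun p => f p = p).card := by
    rw [← Finset.card_map (Function.Embedding.subtype _)]
    congr 1
    ext p
    simp [σ, Subtype.ext_iff]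
    exact and_comm
  rw [h1, Fintype.card_coe] at hmod
  have h2 := Finset.card_filter_add_card_filter_not (s := O) (fun p => f p = p)
  have h3 := (Nat.modEq_iff_dvd' (Finset.card_filter_le O _)).1 hmod
  simp only [ne_eq] at h2 ⊢
  rwa [show (O.filter fun p => ¬f p = p).card = O.card - (O.filter fun p => f p = p).card by omega]

/-- No elements of orders five and three preserve a dodecad and fix two points inside and two outside. -/
theorem no_five_three {d : Finset GolayPt} (hd : d ∈ dodecads) {q q' r r' : GolayPt} (hq : q ∈ d) (hq' : q' ∈ d)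
    (hr : r ∉ d) (hr' : r' ∉ d) (hne : q ≠ q') (hne' : r ≠ r') {y z : M24} (hy : y ∈ stabilizer M24 d)
    (hz : z ∈ stabilizer M24 d) (hy5 : orderOf (y : Equiv.Perm GolayPt) = 5)
    (hz3 : orderOf (z : Equiv.Perm GolayPt) = 3)
    (hfy : ∀ p ∈ ({q, q', r, r'} : Finset GolayPt), (y : Equiv.Perm GolayPt) p = p)
    (hfz : ∀ p ∈ ({q, q', r, r'} : Finset GolayPt), (z : Equiv.Perm GolayPt) p = p) : False := by
  haveI : Fact (Nat.Prime 5) := ⟨by norm_num⟩
  haveI : Fact (Nat.Prime 3) := ⟨by norm_num⟩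
  have n1 : q ≠ r := fun e => hr (e ▸ hq)
  have n2 : q ≠ r' := fun e => hr' (e ▸ hq)
  have n3 : q' ≠ r := fun e => hr (e ▸ hq')
  have n4 : q' ≠ r' := fun e => hr' (e ▸ hq')
  set t : Finset GolayPt := {q, q', r, r'} with ht
  have ht4 : t.card = 4 := by
    rw [ht, Finset.card_insert_of_notMem (by simp [hne, n1, n2]), Finset.card_insert_of_notMem (by simp [n3, n4]),
      Finset.card_pair hne']
  have htd : (t.filter fun p => p ∈ d).card = 2 := by
    rw [show t.filter (fun p => p ∈ d) = {q, q'} by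
      ext p
      simp only [ht, Finset.mem_filter, Finset.mem_insert, Finset.mem_singleton]
      constructor
      · rintro ⟨rfl | rfl | rfl | rfl, hp⟩ <;> first | exact Or.inl rfl | exact Or.inr rfl | contradiction
      · rintro (rfl | rfl) <;> simp [hq, hq'], Finset.card_pair hne]
  obtain ⟨S, ⟨hS, htS⟩, huniq⟩ := existsUnique_sextet ht4
  -- sets fixed by y and z
  have hfixS : ∀ g : M24, (∀ p ∈ t, (g : Equiv.Perm GolayPt) p = p) → (g : Equiv.Perm GolayPt) • S = S := by
    intro g hg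
    have hgt : (g : Equiv.Perm GolayPt) • t = t := Finset.eq_of_subset_of_card_le
      (fun p hp => by
        obtain ⟨a, ha, rfl⟩ := Finset.mem_smul_finset.1 hp
        rw [Equiv.Perm.smul_def, hg a ha]; exact ha) (by rw [Finset.card_smul_finset])
    exact huniq _ ⟨smul_sextet g.2 hS, hgt ▸ Finset.smul_mem_smul_finset htS⟩
  have hyfix : fixSet (y : Equiv.Perm GolayPt) = t :=
    (Finset.eq_of_subset_of_card_le (fun p hp => by simpa using hfy p hp)
      (by rw [fix_card_5 hd hy hy5, ht4])).symm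
  have moved : ∀ g : M24, g ∈ stabilizer M24 d → ∀ {n : ℕ} [Fact n.Prime], (g : Equiv.Perm GolayPt) ^ n = 1 →
      ∀ O : Finset GolayPt, (∀ p, (g : Equiv.Perm GolayPt) p ∈ O ↔ p ∈ O) → O.card < n →
        O ⊆ fixSet (g : Equiv.Perm GolayPt) := by
    intro g _ n _ hgn O hO hlt p hp
    have h := dvd_moved hgn O hO
    have h0 : (O.filter fun p => (g : Equiv.Perm GolayPt) p ≠ p).card = 0 :=
      Nat.eq_zero_of_dvd_of_lt h (lt_of_le_of_lt (Finset.card_filter_le _ _) hlt)
    rw [Finset.card_eq_zero, Finset.filter_eq_empty_iff] at h0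
    simpa using h0 hp
  have inv_iff : ∀ (g : Equiv.Perm GolayPt) (O : Finset GolayPt), g • O = O → ∀ p, g p ∈ O ↔ p ∈ O :=
    fun g O e p => by conv_lhs => rw [← e]
                      exact Finset.smul_mem_smul_finset_iff _
  have disj : ∀ u ∈ S, ∀ v ∈ S, u ≠ v → Disjoint u v := fun u hu v hv huv =>
    Finset.disjoint_left.2 fun p hpu hpv => huv ((sextet_mem_unique hS p).unique ⟨hu, hpu⟩ ⟨hv, hpv⟩)
  have hy5' : (y : Equiv.Perm GolayPt) ^ 5 = 1 := hy5 ▸ pow_orderOf_eq_one _
  have hz3' : (z : Equiv.Perm GolayPt) ^ 3 = 1 := hz3 ▸ pow_orderOf_eq_one _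
  -- y moves the five other tetrads, so they meet d equally
  let Y : Equiv.Perm (Finset GolayPt) := MulAction.toPermHom (Equiv.Perm GolayPt) _ (y : Equiv.Perm GolayPt)
  let Z : Equiv.Perm (Finset GolayPt) := MulAction.toPermHom (Equiv.Perm GolayPt) _ (z : Equiv.Perm GolayPt)
  have hYapp : ∀ u, Y u = (y : Equiv.Perm GolayPt) • u := fun _ => rfl
  have hZapp : ∀ u, Z u = (z : Equiv.Perm GolayPt) • u := fun _ => rfl
  have hY5 : Y ^ 5 = 1 := by rw [← map_pow, hy5', map_one]
  have hZ3 : Z ^ 3 = 1 := by rw [← map_pow, hz3', map_one]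
  have inside : ∀ (g : M24), g ∈ stabilizer M24 d → ∀ u : Finset GolayPt,
      (((g : Equiv.Perm GolayPt) • u).filter fun p => p ∈ d).card = (u.filter fun p => p ∈ d).card := by
    intro g hg u
    rw [← Finset.card_smul_finset (g : Equiv.Perm GolayPt) (u.filter fun p => p ∈ d)]
    congr 1
    ext p
    simp only [Finset.mem_filter, Finset.mem_smul_finset, Equiv.Perm.smul_def]
    constructor
    · rintro ⟨⟨a, ha, rfl⟩, hp⟩
      exact ⟨a, ⟨ha, (mem_of_stab hg).1 hp⟩, rfl⟩
    · rintro ⟨a, ⟨ha, had⟩, rfl⟩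
      exact ⟨⟨a, ha, rfl⟩, (mem_of_stab hg).2 had⟩
  have hinvA : ∀ (g : M24), g ∈ stabilizer M24 d → (g : Equiv.Perm GolayPt) • S = S →
      (g : Equiv.Perm GolayPt) • t = t → ∀ u, ((g : Equiv.Perm GolayPt) • u ∈ S.erase t ↔ u ∈ S.erase t) := by
    intro g _ hgS hgt u
    rw [Finset.mem_erase, Finset.mem_erase]
    conv_lhs => rw [← hgS]; arg 1; rw [← hgt]
    rw [Finset.smul_mem_smul_finset_iff, ne_eq, smul_left_cancel_iff]
  have hgt : ∀ g : M24, (∀ p ∈ t, (g : Equiv.Perm GolayPt) p = p) → (g : Equiv.Perm GolayPt) • t = t := fun g hg =>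
    Finset.eq_of_subset_of_card_le (fun p hp => by
      obtain ⟨a, ha, rfl⟩ := Finset.mem_smul_finset.1 hp
      rw [Equiv.Perm.smul_def, hg a ha]; exact ha) (by rw [Finset.card_smul_finset])
  have hA5 : (S.erase t).card = 5 := by rw [Finset.card_erase_of_mem htS, hS.1]
  have hk : ∀ u ∈ S.erase t, (u.filter fun p => p ∈ d).card = 2 := by
    -- a y-invariant part of the five is empty or everything
    have hconst : ∀ u ∈ S.erase t, ∀ v ∈ S.erase t,
        (v.filter fun p => p ∈ d).card = (u.filter fun p => p ∈ d).card := by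
      intro u hu
      set A := (S.erase t).filter fun v => (v.filter fun p => p ∈ d).card = (u.filter fun p => p ∈ d).card with hA
      have hd5 := dvd_moved hY5 A fun v => by
        rw [hA, Finset.mem_filter, Finset.mem_filter, hYapp, inside y hy, hinvA y hy (hfixS y hfy) (hgt y hfy)]
      have hall : (A.filter fun v => Y v ≠ v) = A := by
        refine Finset.filter_true_of_mem fun v hv hfix => ?_
        rw [hA, Finset.mem_filter, Finset.mem_erase] at hv
        have hsub := moved y hy hy5' v (inv_iff _ _ (by rw [← hYapp]; exact hfix))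
          (by rw [hS.2.1 v hv.1.2]; norm_num)
        rw [hyfix] at hsub
        obtain ⟨p, hp⟩ := Finset.card_pos.1 (by rw [hS.2.1 v hv.1.2]; norm_num : 0 < v.card)
        exact Finset.disjoint_left.1 (disj v hv.1.2 t htS hv.1.1) hp (hsub hp)
      rw [hall] at hd5
      have hpos : 0 < A.card := Finset.card_pos.2 ⟨u, Finset.mem_filter.2 ⟨hu, rfl⟩⟩
      have hle : A.card ≤ 5 := hA5 ▸ Finset.card_filter_le _ _
      have hAeq : A = S.erase t := Finset.eq_of_subset_of_card_le (Finset.filter_subset _ _)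
        (by obtain ⟨c, hc⟩ := hd5; omega)
      intro v hv
      exact (Finset.mem_filter.1 (hAeq ▸ hv : v ∈ A)).2
    intro u hu
    have hsum : (S.biUnion fun v => v.filter fun p => p ∈ d).card =
        ∑ v ∈ S, (v.filter fun p => p ∈ d).card :=
      Finset.card_biUnion fun a ha b hb hab => Finset.disjoint_filter_filter (disj a ha b hb hab)
    have hcov : (S.biUnion fun v => v.filter fun p => p ∈ d) = d := by
      ext p
      simp only [Finset.mem_biUnion, Finset.mem_filter]
      exact ⟨fun ⟨_, _, _, h⟩ => h, fun h => by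
        obtain ⟨v, hv, -⟩ := sextet_mem_unique hS p
        exact ⟨v, hv.1, hv.2, h⟩⟩
    rw [hcov, hd.2, ← Finset.add_sum_erase S _ htS, htd, Finset.sum_congr rfl (hconst u hu), Finset.sum_const,
      hA5, smul_eq_mul] at hsum
    omega
  -- z fixes two of them pointwise
  have hd3 := dvd_moved hZ3 (S.erase t) fun v => by
    rw [hZapp]; exact hinvA z hz (hfixS z hfz) (hgt z hfz) v
  have h2 : 2 ≤ ((S.erase t).filter fun v => Z v = v).card := by
    have h := Finset.card_filter_add_card_filter_not (s := S.erase t) (fun v => Z v = v)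
    simp only [ne_eq] at hd3 h
    obtain ⟨c, hc⟩ := hd3
    omega
  obtain ⟨u, hu, v, hv, huv⟩ := Finset.one_lt_card.1 h2
  have hptfix : ∀ w ∈ (S.erase t).filter (fun v => Z v = v), w ⊆ fixSet (z : Equiv.Perm GolayPt) := by
    intro w hw
    rw [Finset.mem_filter, hZapp] at hw
    have hw4 := hS.2.1 w (Finset.mem_of_mem_erase hw.1)
    have hin := hk w hw.1
    have hout := Finset.card_filter_add_card_filter_not (s := w) (fun p => p ∈ d)
    have a1 := moved z hz hz3' (w.filter fun p => p ∈ d) (fun p => by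
      simp only [Finset.mem_filter, inv_iff _ _ hw.2 p, mem_of_stab hz]) (by omega)
    have a2 := moved z hz hz3' (w.filter fun p => p ∉ d) (fun p => by
      simp only [Finset.mem_filter, inv_iff _ _ hw.2 p, mem_of_stab hz]) (by omega)
    intro p hp
    by_cases hpd : p ∈ d
    · exact a1 (Finset.mem_filter.2 ⟨hp, hpd⟩)
    · exact a2 (Finset.mem_filter.2 ⟨hp, hpd⟩)
  have hsub : t ∪ u ∪ v ⊆ fixSet (z : Equiv.Perm GolayPt) :=
    Finset.union_subset (Finset.union_subset (fun p hp => by simpa using hfz p hp) (hptfix u hu)) (hptfix v hv)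
  have hu' := (Finset.mem_erase.1 (Finset.mem_filter.1 hu).1)
  have hv' := (Finset.mem_erase.1 (Finset.mem_filter.1 hv).1)
  have hcard := Finset.card_le_card hsub
  rw [Finset.card_union_of_disjoint (Finset.disjoint_union_left.2
      ⟨disj t htS v hv'.2 hv'.1.symm, disj u hu'.2 v hv'.2 huv⟩),
    Finset.card_union_of_disjoint (disj t htS u hu'.2 hu'.1.symm), ht4, hS.2.1 u hu'.2, hS.2.1 v hv'.2] at hcard
  have := fix_lt_ten z.2 (fun e => by rw [e] at hz3; simp at hz3)
  omega

theorem fix_one_one {d : Finset GolayPt} (hd : d ∈ dodecads) {g : M24} (hg : g ∈ stabilizer M24 d)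
    (ho : orderOf (g : Equiv.Perm GolayPt) = 11) :
    ∃ q r, q ∈ d ∧ r ∉ d ∧ (g : Equiv.Perm GolayPt) q = q ∧ (g : Equiv.Perm GolayPt) r = r ∧
      ∀ a, (g : Equiv.Perm GolayPt) a = a → a = q ∨ a = r := by
  haveI : Fact (Nat.Prime 11) := ⟨by norm_num⟩
  have h1 : g ≠ 1 := fun e => by rw [e] at ho; simp at ho
  have part : ∀ e ∈ dodecads, g ∈ stabilizer M24 e →
      ∃ q, q ∈ e ∧ (g : Equiv.Perm GolayPt) q = q ∧ ∀ a ∈ e, (g : Equiv.Perm GolayPt) a = a → a = q := by
    intro e he hge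
    have hle := fix_le_four he hge h1
    have hd' := dvd_moved (r := 11) (ho ▸ pow_orderOf_eq_one _) e fun p => mem_of_stab hge
    have hsum := Finset.card_filter_add_card_filter_not (s := e) (fun p => (g : Equiv.Perm GolayPt) p = p)
    have heq : ((fixSet (g : Equiv.Perm GolayPt)).filter fun p => p ∈ e) =
        e.filter fun p => (g : Equiv.Perm GolayPt) p = p := by
      ext p; simp [and_comm]
    rw [heq] at hle
    rw [he.2] at hsum
    simp only [ne_eq] at hd' hsum
    obtain ⟨c, hc⟩ := hd'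
    obtain ⟨q, hq⟩ := Finset.card_eq_one.1
      (show (e.filter fun p => (g : Equiv.Perm GolayPt) p = p).card = 1 by omega)
    have hm : ∀ a, (a ∈ e ∧ (g : Equiv.Perm GolayPt) a = a) ↔ a = q := fun a => by
      have := Finset.ext_iff.1 hq a
      simpa using this
    exact ⟨q, ((hm q).2 rfl).1, ((hm q).2 rfl).2, fun a ha hga => (hm a).1 ⟨ha, hga⟩⟩
  obtain ⟨q, hq, hgq, uq⟩ := part d hd hg
  obtain ⟨r, hr, hgr, ur⟩ := part dᶜ (compl_dodecad hd) ((stab_compl d).symm ▸ hg)
  refine ⟨q, r, hq, Finset.mem_compl.1 hr, hgq, hgr, fun a ha => ?_⟩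
  by_cases had : a ∈ d
  · exact Or.inl (uq a had ha)
  · exact Or.inr (ur a (Finset.mem_compl.2 had) ha)

theorem orbitSet_subset {H : Subgroup M24} {d : Finset GolayPt} (hH : H ≤ stabilizer M24 d) {p : GolayPt}
    (hp : p ∈ d) : orbitSet H p ⊆ d := by
  intro a ha
  rw [orbitSet, Set.Finite.mem_toFinset] at ha
  obtain ⟨k, rfl⟩ := ha
  exact (mem_of_stab (hH k.2)).2 hp

/-- orbit sizes seen by an element of order eleven -/
theorem orbit_one_or_twelve {H : Subgroup M24} {d : Finset GolayPt} (hd : d ∈ dodecads) (hH : H ≤ stabilizer M24 d)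
    {g : M24} (hgH : g ∈ H) (ho : orderOf (g : Equiv.Perm GolayPt) = 11) {p : GolayPt} (hp : p ∈ d)
    (hgp : (g : Equiv.Perm GolayPt) p = p) : (orbitSet H p).card = 1 ∨ orbitSet H p = d := by
  haveI : Fact (Nat.Prime 11) := ⟨by norm_num⟩
  obtain ⟨q, r, hq, hr, -, -, huniq⟩ := fix_one_one hd (hH hgH) ho
  have hm := dvd_card_moved (r := 11) (ho ▸ pow_orderOf_eq_one _) (orbitSet H p) (orbitSet_inv H p hgH)
  have hsub := orbitSet_subset hH hp
  have hpO : p ∈ orbitSet H p := by simp [orbitSet]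
  have hpq : p = q := (huniq p hgp).resolve_right fun e => hr (e ▸ hp)
  have hfilter : ((orbitSet H p).filter fun a => (g : Equiv.Perm GolayPt) a ≠ a) = (orbitSet H p).erase p := by
    ext a
    simp only [Finset.mem_filter, Finset.mem_erase, ne_eq]
    exact ⟨fun h => ⟨fun e => h.2 (e ▸ hgp), h.1⟩, fun h => ⟨h.2, fun e => by
      rcases huniq a e with ha | ha
      · exact h.1 (ha.trans hpq.symm)
      · exact hr (ha ▸ hsub h.2)⟩⟩
  rw [hfilter, Finset.card_erase_of_mem hpO] at hm
  have hle := Finset.card_le_card hsub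
  rw [hd.2] at hle
  have hpos : 0 < (orbitSet H p).card := Finset.card_pos.2 ⟨p, hpO⟩
  obtain ⟨c, hc⟩ := hm
  by_cases h1 : (orbitSet H p).card = 1
  · exact Or.inl h1
  · exact Or.inr (Finset.eq_of_subset_of_card_le hsub (by rw [hd.2]; omega))

theorem card_stab_sub {H : Subgroup M24} (p : GolayPt) :
    Nat.card ↥(H ⊓ stabilizer M24 p) * (orbitSet H p).card = Nat.card H := by
  have e : Nat.card (stabilizer H p) = Nat.card ↥(H ⊓ stabilizer M24 p) :=
    Nat.card_congr
      { toFun := fun g => ⟨g.1.1, g.1.2, g.2⟩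
        invFun := fun g => ⟨⟨g.1, g.2.1⟩, g.2.2⟩
        left_inv := fun _ => rfl
        right_inv := fun _ => rfl }
  rw [← e, orbitSet_card, Subgroup.card_mul_index]

theorem exists_elt {K : Subgroup M24} (r : ℕ) [Fact r.Prime] (h : r ∣ Nat.card K) :
    ∃ g : M24, g ∈ K ∧ orderOf (g : Equiv.Perm GolayPt) = r := by
  obtain ⟨g, hg⟩ := exists_prime_orderOf_dvd_card' (G := K) r h
  exact ⟨g.1, g.2, by rw [Subgroup.orderOf_coe, Subgroup.orderOf_coe, hg]⟩

/-- A subgroup of index twelve of a dodecad stabiliser fixes a point. -/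
theorem eq_stab_point_of_card {d : Finset GolayPt} (hd : d ∈ dodecads) {H : Subgroup M24}
    (hHd : H ≤ stabilizer M24 d) (hH : Nat.card H = 7920) :
    ∃ q : GolayPt, H = stabilizer M24 d ⊓ stabilizer M24 q := by
  haveI : Fact (Nat.Prime 11) := ⟨by norm_num⟩
  haveI : Fact (Nat.Prime 5) := ⟨by norm_num⟩
  haveI : Fact (Nat.Prime 3) := ⟨by norm_num⟩
  obtain ⟨g, hgH, ho⟩ := exists_elt (K := H) 11 (by rw [hH]; norm_num)
  obtain ⟨q, r, hq, hr, hgq, hgr, huniq⟩ := fix_one_one hd (hHd hgH) ho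
  have finish : ∀ p : GolayPt, (orbitSet H p).card = 1 → ∃ q : GolayPt, H = stabilizer M24 d ⊓ stabilizer M24 q :=
    fun p hp => ⟨p, Subgroup.eq_of_le_of_card_ge (le_inf hHd (le_stab_of_orbit_one hp))
      (by rw [card_stab_point hd, hH])⟩
  rcases orbit_one_or_twelve hd hHd hgH ho hq hgq with h | hOq
  · exact finish q h
  set K := H ⊓ stabilizer M24 q with hK
  have hKc : Nat.card K = 660 := by
    have h := card_stab_sub (H := H) q
    rw [hOq, hd.2, hH, ← hK] at h
    omega
  have hKd : K ≤ stabilizer M24 d := inf_le_left.trans hHd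
  have hgK : g ∈ K := ⟨hgH, hgq⟩
  have hdc := compl_dodecad hd
  rcases orbit_one_or_twelve hdc (hKd.trans (stab_compl d).ge) hgK ho (Finset.mem_compl.2 hr) hgr with hKr | hKr
  swap
  · -- an element of order three of K has no fixed point outside d
    obtain ⟨y, hyK, hy3⟩ := exists_elt (K := K) 3 (by rw [hKc]; norm_num)
    have hy1 : y ≠ 1 := fun e => by rw [e] at hy3; simp at hy3
    have hin : fixSet (y : Equiv.Perm GolayPt) = (fixSet (y : Equiv.Perm GolayPt)).filter fun p => p ∈ d := by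
      refine (Finset.filter_true_of_mem fun b hb => ?_).symm
      by_contra hbd
      have hbO : b ∈ orbitSet K r := hKr.symm ▸ Finset.mem_compl.2 hbd
      have horb : orbitSet K b = dᶜ := by
        rw [orbitSet, Set.Finite.mem_toFinset, ← orbit_eq_iff] at hbO
        rw [← hKr]
        simp [orbitSet, hbO]
      have h55 := card_stab_sub (H := K) b
      rw [horb, hdc.2, hKc] at h55
      have hdvd : 3 ∣ Nat.card ↥(K ⊓ stabilizer M24 b) := by
        rw [← hy3, Subgroup.orderOf_coe]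
        exact Subgroup.orderOf_dvd_natCard _ ⟨hyK, (Finset.mem_filter.1 hb).2⟩
      obtain ⟨c, hc⟩ := hdvd
      omega
    have h4 := fix_le_four hd (hKd hyK) hy1
    rw [← hin] at h4
    have hq2 : 0 < (fixSet (y : Equiv.Perm GolayPt)).card :=
      Finset.card_pos.2 ⟨q, Finset.mem_filter.2 ⟨Finset.mem_univ q, hyK.2⟩⟩
    rcases three_by_fix y.2 hy3 with ⟨e, -⟩ | ⟨e, -⟩ <;> omega
  have hKr' : K ≤ stabilizer M24 r := le_stab_of_orbit_one hKr
  rcases orbit_one_or_twelve hdc (hHd.trans (stab_compl d).ge) hgH ho (Finset.mem_compl.2 hr) hgr with h | hOr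
  · exact finish r h
  exfalso
  have hHr : H ⊓ stabilizer M24 r = K := by
    symm
    refine Subgroup.eq_of_le_of_card_ge (le_inf inf_le_left hKr') ?_
    have h := card_stab_sub (H := H) r
    rw [hOr, hdc.2, hH] at h
    omega
  obtain ⟨q', hq', hne⟩ := Finset.exists_mem_ne (s := d) (by rw [hd.2]; norm_num) q
  -- the stabiliser of q' in K has order 60
  have hK60 : Nat.card ↥(K ⊓ stabilizer M24 q') = 60 := by
    have horb : orbitSet K q' = d.erase q := by
      have hsub : orbitSet K q' ⊆ d.erase q := fun a ha => by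
        refine Finset.mem_erase.2 ⟨fun e => ?_, orbitSet_subset hKd hq' ha⟩
        rw [e, orbitSet, Set.Finite.mem_toFinset] at ha
        obtain ⟨k, hk⟩ := ha
        exact hne (((k : M24) : Equiv.Perm GolayPt).injective (hk.trans k.2.2.symm))
      have hm := dvd_card_moved (r := 11) (ho ▸ pow_orderOf_eq_one _) (orbitSet K q') (orbitSet_inv K q' hgK)
      rw [Finset.filter_true_of_mem (fun a ha e => by
        have := Finset.mem_erase.1 (hsub ha)
        rcases huniq a e with h | h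
        · exact this.1 h
        · exact hr (h ▸ this.2))] at hm
      refine Finset.eq_of_subset_of_card_le hsub ?_
      have hpos : 0 < (orbitSet K q').card := Finset.card_pos.2 ⟨q', by simp [orbitSet]⟩
      rw [Finset.card_erase_of_mem hq, hd.2]
      obtain ⟨c, hc⟩ := hm
      omega
    have h := card_stab_sub (H := K) q'
    rw [horb, Finset.card_erase_of_mem hq, hd.2, hKc] at h
    omega
  obtain ⟨h, hh⟩ : ∃ h : H, ((h : M24) : Equiv.Perm GolayPt) q = q' := by
    have hm : q' ∈ orbitSet H q := hOq.symm ▸ hq'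
    rw [orbitSet, Set.Finite.mem_toFinset] at hm
    exact hm
  set r' := ((h : M24) : Equiv.Perm GolayPt) r with hr'def
  have hr' : r' ∉ d := fun e => hr ((mem_of_stab (hHd h.2)).1 e)
  have hrr' : r ≠ r' := fun e => by
    have hm : (h : M24) ∈ K := hHr ▸ ⟨h.2, e.symm⟩
    exact hne (hh.symm.trans hm.2)
  have hall : ∀ k ∈ K ⊓ stabilizer M24 q', ∀ p ∈ ({q, q', r, r'} : Finset GolayPt),
      (k : Equiv.Perm GolayPt) p = p := by
    intro k hk p hp
    simp only [Finset.mem_insert, Finset.mem_singleton] at hp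
    rcases hp with rfl | rfl | rfl | rfl
    · exact hk.1.2
    · exact hk.2
    · exact hKr' hk.1
    · have hm : (h : M24)⁻¹ * k * h ∈ K := ⟨H.mul_mem (H.mul_mem (H.inv_mem h.2) hk.1.1) h.2, by
        show ((h : M24) : Equiv.Perm GolayPt).symm ((k : Equiv.Perm GolayPt) (((h : M24) : Equiv.Perm GolayPt) q)) = q
        rw [hh, show (k : Equiv.Perm GolayPt) q' = q' from hk.2, ← hh]
        exact Equiv.symm_apply_apply _ q⟩
      have h2 : ((h : M24) : Equiv.Perm GolayPt).symm ((k : Equiv.Perm GolayPt) r') = r := hKr' hm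
      exact (Equiv.symm_apply_eq _).1 h2
  obtain ⟨y, hyK, hy5⟩ := exists_elt (K := K ⊓ stabilizer M24 q') 5 (by rw [hK60]; norm_num)
  obtain ⟨z, hzK, hz3⟩ := exists_elt (K := K ⊓ stabilizer M24 q') 3 (by rw [hK60]; norm_num)
  exact no_five_three hd hq hq' hr hr' (Ne.symm hne) hrr' (hKd hyK.1) (hKd hzK.1) hy5 hz3 (hall y hyK) (hall z hzK)

/-- distinct points have distinct stabilisers in a dodecad stabiliser -/
theorem stab_point_inj {d : Finset GolayPt} (hd : d ∈ dodecads) {x y : GolayPt}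
    (h : stabilizer M24 d ⊓ stabilizer M24 x = stabilizer M24 d ⊓ stabilizer M24 y) : x = y := by
  haveI : Fact (Nat.Prime 11) := ⟨by norm_num⟩
  obtain ⟨g, hg, ho⟩ := exists_elt (K := stabilizer M24 d ⊓ stabilizer M24 x) 11
    (by rw [card_stab_point hd]; norm_num)
  obtain ⟨q, r, hq, hr, -, -, huniq⟩ := fix_one_one hd hg.1 ho
  have hgy : (g : Equiv.Perm GolayPt) y = y := (h ▸ hg : g ∈ stabilizer M24 d ⊓ stabilizer M24 y).2
  have two : ∀ a b : GolayPt, a ∈ d → b ∉ d →
      stabilizer M24 d ⊓ stabilizer M24 a ≠ stabilizer M24 d ⊓ stabilizer M24 b := by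
    intro a b ha hb e
    have hc := M11Local.card_two hd ha hb
    rw [M11Local.eleven, inf_eq_left.2 (e.le.trans inf_le_right), card_stab_point hd] at hc
    omega
  rcases huniq x hg.2 with rfl | rfl <;> rcases huniq y hgy with rfl | rfl
  · rfl
  · exact absurd h (two _ _ hq hr)
  · exact absurd h.symm (two _ _ hq hr)
  · rfl

theorem exists_map_in_dodecad {d : Finset GolayPt} (hd : d ∈ dodecads) {x y : GolayPt} (hx : x ∈ d) (hy : y ∈ d) :
    ∃ g : M24, g ∈ stabilizer M24 d ∧ (g : Equiv.Perm GolayPt) x = y := by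
  obtain ⟨e⟩ : Nonempty (Fin 5 ↪ {p // p ∈ d}) :=
    Function.Embedding.nonempty_of_card_le (by rw [Fintype.card_coe, hd.2, Fintype.card_fin]; norm_num)
  let mk : {p // p ∈ d} → (Fin 5 ↪ GolayPt) := fun a =>
    (e.trans (Equiv.swap (e 0) a).toEmbedding).trans (Function.Embedding.subtype _)
  obtain ⟨g, hg, -⟩ := dodecad_five_trans hd (mk ⟨x, hx⟩) (mk ⟨y, hy⟩) (fun i => Subtype.property _)
    (fun i => Subtype.property _)
  refine ⟨g.1, g.2, ?_⟩
  have h0 := hg 0
  simpa [mk] using h0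

/-- octads spanning the code, each with an involution of `M12` fixing exactly it -/
def twelveInvols : List (ℕ × List ℕ) :=
  [(1084018, [12,1,13,8,4,5,6,19,3,9,21,11,0,2,22,15,18,23,16,7,20,10,14,17]),
   (4523185, [0,12,3,2,4,5,8,7,6,13,10,14,1,9,11,20,16,21,18,23,15,17,22,19]),
   (4336072, [1,0,9,3,18,19,6,7,8,2,23,11,16,13,21,20,12,17,4,5,15,14,22,10]),
   (11797828, [3,13,2,0,9,7,6,5,8,4,10,17,16,1,15,14,12,11,18,22,20,21,19,23]),
   (1737489, [0,16,3,2,4,22,13,14,8,9,11,10,18,6,7,15,1,17,12,19,20,23,5,21]),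
   (15274244, [4,13,2,9,0,17,18,11,8,3,20,7,12,1,15,14,16,5,6,19,10,21,22,23]),
   (8660134, [3,1,2,0,12,5,8,7,6,16,10,15,4,13,17,11,9,14,18,22,21,20,19,23]),
   (5262104, [2,6,0,3,4,15,1,19,8,9,17,11,13,12,14,5,18,10,16,7,20,23,22,21]),
   (2826278, [4,1,2,6,0,5,3,14,12,18,20,15,8,13,7,11,16,17,9,19,10,21,23,22]),
   (555160, [18,6,16,3,4,23,1,7,9,8,17,11,12,13,14,21,2,10,0,19,22,15,20,5]),
   (7145475, [0,1,6,9,12,14,2,23,13,3,17,11,4,8,5,20,16,10,18,19,15,21,22,7]),
   (2120980, [16,9,2,18,4,17,13,23,8,1,10,11,12,6,14,22,0,5,3,20,19,21,15,7])]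

theorem twelveInvols_ok : (∀ ml ∈ twelveInvols, m24ok ml.2 = true ∧ lmul ml.2 ml.2 = List.range 24 ∧
      fixMask ml.2 = ml.1 ∧ pm ml.2 340831 0 = 340831 ∧ pc ml.1 = 8) ∧
    ∀ g ∈ codeBasis, g ∈ xorSpan (twelveInvols.map Prod.fst) := by
  decide +kernel

theorem square_mask : mask Cfsg.Spor.squareDodecad = 340831 := by decide +kernel

theorem square_mem : Cfsg.Spor.squareDodecad ∈ dodecads := by
  rw [mem_dodecads, square_mask]
  decide +kernel

/-- An automorphism permutes the points of an action with equal stabiliser indices, if those are the subgroups of that index. -/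
theorem perm_of_aut' {G X : Type*} [Group G] [Finite G] [MulAction G X] [Finite X] {n : ℕ}
    (hindex : ∀ x : X, (stabilizer G x).index = n)
    (hchar : ∀ H : Subgroup G, H.index = n → ∃ x : X, H = stabilizer G x)
    (hinj : ∀ x y : X, stabilizer G x = stabilizer G y → x = y) (α : MulAut G) :
    ∃ σ : Equiv.Perm X, ∀ (g : G) (x : X), σ (g • x) = α g • σ x := by
  have h : ∀ x : X, ∃ y : X, (stabilizer G x).map (α : G ≃* G).toMonoidHom = stabilizer G y := fun x => by
    refine hchar _ ?_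
    rw [Subgroup.index_map_of_bijective (f := (α : G ≃* G).toMonoidHom) (α : G ≃* G).bijective, hindex]
  choose σ hσ using h
  have hb : Function.Bijective σ := Finite.injective_iff_bijective.1 fun a b e => by
    refine hinj a b (Subgroup.map_injective (f := (α : G ≃* G).toMonoidHom) (α : G ≃* G).injective ?_)
    rw [hσ, hσ, e]
  refine ⟨Equiv.ofBijective σ hb, fun g x => hinj _ _ ?_⟩
  show stabilizer G (σ (g • x)) = stabilizer G (α g • σ x)
  rw [← hσ (g • x)]
  ext k
  rw [Subgroup.mem_map_equiv, mem_stabilizer_iff, mem_stabilizer_iff]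
  have e : α.symm k • g • x = g • x ↔ (g⁻¹ * α.symm k * g) • x = x := by
    rw [mul_smul, mul_smul, inv_smul_eq_iff]
  have e2 : k • α g • σ x = α g • σ x ↔ ((α g)⁻¹ * k * α g) • σ x = σ x := by
    rw [mul_smul, mul_smul, inv_smul_eq_iff]
  rw [e, e2, ← mem_stabilizer_iff, ← mem_stabilizer_iff, ← hσ x, Subgroup.mem_map_equiv]
  rw [show α.symm ((α g)⁻¹ * k * α g) = g⁻¹ * α.symm k * g by simp]

/-- A permutation normalising M12 lies in `M24`. -/
theorem mem_M24_of_conj12 {σ : Equiv.Perm GolayPt}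
    (hσ : ∀ g ∈ Cfsg.Spor.M12, σ * g * σ⁻¹ ∈ Cfsg.Spor.M12) : σ ∈ M24 := by
  rw [Spor.mem_M24]
  have key : ∀ m ∈ xorSpan (twelveInvols.map Prod.fst), m < 2 ^ 24 ∧ mask (σ • ofMask m) ∈ codeMasks := by
    apply xorSpan_induction
    · refine ⟨by norm_num, ?_⟩
      rw [show ofMask 0 = ∅ from by decide +kernel, Finset.smul_finset_empty]
      exact xorSpan_zero _
    · rintro a b ⟨ha, ha'⟩ ⟨hb, hb'⟩
      refine ⟨Nat.xor_lt_two_pow ha hb, ?_⟩
      have : ofMask (a ^^^ b) = symmDiff (ofMask a) (ofMask b) := by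
        apply mask_injective
        rw [mask_symmDiff, mask_ofMask ha, mask_ofMask hb, mask_ofMask (Nat.xor_lt_two_pow ha hb)]
      rw [this, smul_symmDiff', mask_symmDiff]
      exact codeMasks_xor ha' hb'
    · intro g hg
      obtain ⟨⟨m, l⟩, hml, rfl⟩ := List.mem_map.1 hg
      obtain ⟨hok, hsq, hfm, hpd, hpc⟩ := twelveInvols_ok.1 _ hml
      simp only at hok hsq hfm hpd hpc ⊢
      have hlok := m24ok_lok hok
      have hlt : m < 2 ^ 24 := hfm ▸ fixMask_lt l
      refine ⟨hlt, ?_⟩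
      have hu2 : lperm l * lperm l = 1 := Equiv.ext fun p => by
        have h1 := ((rep_lperm hlok).mul (rep_lperm hlok)) p
        rw [hsq, List.getD_eq_getElem _ _ (by simp [idx_lt p]), List.getElem_range] at h1
        exact (idx_injective h1).symm
      have hfix : fixSet (lperm l) = ofMask m := by rw [fixSet_lperm hlok, hfm]
      have h8 : (fixSet (lperm l)).card = 8 := by rw [hfix, ← pc_mask, mask_ofMask hlt, hpc]
      have hu12 : lperm l ∈ Cfsg.Spor.M12 := ⟨lperm_mem hok, by
        show lperm l • Cfsg.Spor.squareDodecad = _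
        apply mask_injective
        rw [mask_smul_lperm hlok, square_mask, hpd]⟩
      have hv := (hσ _ hu12).1
      have ho : orderOf (σ * lperm l * σ⁻¹) = 2 := by
        rw [← MulAut.conj_apply, MulEquiv.orderOf_eq]
        refine orderOf_eq_prime (by rw [pow_two, hu2]) fun e => ?_
        rw [e, show fixSet (1 : Equiv.Perm GolayPt) = Finset.univ from Finset.filter_true_of_mem fun _ _ => rfl,
          Finset.card_univ, Fintype.card_option, ZMod.card] at h8
        omega
      rcases invol_by_fix hv ho with ⟨h, -⟩ | ⟨-, h, -⟩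
      · rw [card_fixSet_conj, h8] at h
        omega
      · rw [fixSet_conj, hfix] at h
        exact mem_supports.1 h.1
  intro g hg
  exact (key g (twelveInvols_ok.2 g hg)).2

/-- Every automorphism of M12 is conjugation by an element of `M24` preserving or exchanging the two dodecads. -/
theorem aut_M12_conj (α : MulAut Cfsg.Spor.M12) :
    ∃ σ ∈ M24, (σ • Cfsg.Spor.squareDodecad = Cfsg.Spor.squareDodecad ∨
        σ • Cfsg.Spor.squareDodecad = Cfsg.Spor.squareDodecadᶜ) ∧
      ∀ g : Cfsg.Spor.M12, σ * (g : Equiv.Perm GolayPt) * σ⁻¹ = (α g : Equiv.Perm GolayPt) := by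
  set d := Cfsg.Spor.squareDodecad with hddef
  have hd : d ∈ dodecads := square_mem
  let e : Cfsg.Spor.M12 →* M24 := Subgroup.inclusion inf_le_left
  have he : Function.Injective e := Subgroup.inclusion_injective _
  have hrange : e.range = stabilizer M24 d := by
    ext g
    exact ⟨fun ⟨k, hk⟩ => hk ▸ k.2.2, fun h => ⟨⟨g.1, g.2, h⟩, rfl⟩⟩
  have hstab : ∀ x : GolayPt, (stabilizer Cfsg.Spor.M12 x).map e = stabilizer M24 d ⊓ stabilizer M24 x := fun x => by
    ext g
    exact ⟨fun ⟨k, hk, hkg⟩ => hkg ▸ ⟨k.2.2, hk⟩, fun h => ⟨⟨g.1, g.2, h.1⟩, h.2, rfl⟩⟩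
  have hcard : Nat.card Cfsg.Spor.M12 = 95040 := by
    rw [← card_stab_dodecad hd, ← hrange]
    exact Nat.card_congr (MonoidHom.ofInjective he).toEquiv
  obtain ⟨σ, hσ⟩ := perm_of_aut' (G := Cfsg.Spor.M12) (X := GolayPt) (n := 12)
    (fun x => by
      have h1 := (stabilizer Cfsg.Spor.M12 x).card_mul_index
      rw [hcard, ← Subgroup.card_map_of_injective he, hstab, card_stab_point hd] at h1
      omega)
    (fun H hH => by
      have h1 := H.card_mul_index
      rw [hH, hcard] at h1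
      obtain ⟨q, h2⟩ := eq_stab_point_of_card hd (hrange ▸ Subgroup.map_le_range e H)
        (by rw [Subgroup.card_map_of_injective he]; omega)
      exact ⟨q, Subgroup.map_injective he (h2.trans (hstab q).symm)⟩)
    (fun x y h => stab_point_inj hd (by rw [← hstab, ← hstab, h])) α
  have hconj : ∀ g : Cfsg.Spor.M12, σ * (g : Equiv.Perm GolayPt) * σ⁻¹ = (α g : Equiv.Perm GolayPt) := fun g => by
    ext1 y
    obtain ⟨x, rfl⟩ := σ.surjective y
    rw [Equiv.Perm.mul_apply, Equiv.Perm.mul_apply, show σ⁻¹ (σ x) = x from σ.symm_apply_apply x]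
    exact hσ g x
  refine ⟨σ, mem_M24_of_conj12 fun g hg => (hconj ⟨g, hg⟩).symm ▸ (α ⟨g, hg⟩).2, ?_, hconj⟩
  obtain ⟨x, hx⟩ := Finset.card_pos.1 (show 0 < d.card by rw [hd.2]; norm_num)
  have hside : ∀ y ∈ d, (σ y ∈ d ↔ σ x ∈ d) := by
    intro y hy
    obtain ⟨g, hg, hgx⟩ := exists_map_in_dodecad hd hx hy
    rw [show σ y = ((α ⟨g.1, g.2, hg⟩ : Cfsg.Spor.M12) : Equiv.Perm GolayPt) (σ x) from
      (congrArg σ hgx.symm).trans (hσ ⟨g.1, g.2, hg⟩ x)]
    exact mem_of_stab (g := ⟨_, (α ⟨g.1, g.2, hg⟩).2.1⟩) (α ⟨g.1, g.2, hg⟩).2.2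
  by_cases hsx : σ x ∈ d
  · refine Or.inl (Finset.eq_of_subset_of_card_le (fun z hz => ?_) (by rw [Finset.card_smul_finset]))
    obtain ⟨y, hy, rfl⟩ := Finset.mem_smul_finset.1 hz
    exact (hside y hy).2 hsx
  · refine Or.inr (Finset.eq_of_subset_of_card_le (fun z hz => ?_)
      (by rw [Finset.card_smul_finset, (compl_dodecad hd).2, hd.2]))
    obtain ⟨y, hy, rfl⟩ := Finset.mem_smul_finset.1 hz
    exact Finset.mem_compl.2 fun h => hsx ((hside y hy).1 h)

theorem card_out_M12 : Nat.card (Cfsg.Out Cfsg.Spor.M12) = 2 := by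
  show (Cfsg.Inn Cfsg.Spor.M12).index = 2
  set d := Cfsg.Spor.squareDodecad with hddef
  have hd : d ∈ dodecads := square_mem
  have hne : d ≠ dᶜ := fun e => by
    obtain ⟨x, hx⟩ := Finset.card_pos.1 (show 0 < d.card by rw [hd.2]; norm_num)
    exact (Finset.mem_compl.1 (e ▸ hx : x ∈ dᶜ)) hx
  obtain ⟨s, hs, hsd⟩ := dodecad_trans hd (compl_dodecad hd)
  have hsc : s • dᶜ = d := by rw [smul_compl, hsd, compl_compl]
  have mem : ∀ u : Equiv.Perm GolayPt, u ∈ M24 → (u • d = d ∨ u • d = dᶜ) →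
      ∀ g ∈ Cfsg.Spor.M12, u * g * u⁻¹ ∈ Cfsg.Spor.M12 := by
    intro u hu hcase g hg
    have hgd : g • d = d := hg.2
    have hM : g ∈ M24 := hg.1
    refine ⟨M24.mul_mem (M24.mul_mem hu hM) (M24.inv_mem hu), ?_⟩
    show (u * g * u⁻¹) • d = d
    rcases hcase with h | h
    · rw [mul_smul, mul_smul, show u⁻¹ • d = d by rw [inv_smul_eq_iff, h], hgd, h]
    · rw [mul_smul, mul_smul, show u⁻¹ • d = dᶜ by
        rw [inv_smul_eq_iff, smul_compl, h, compl_compl],
        smul_compl, hgd, smul_compl, h, compl_compl]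
  have hsi : s⁻¹ • d = dᶜ := by rw [inv_smul_eq_iff, hsc]
  let a : MulAut Cfsg.Spor.M12 :=
    { toFun := fun g => ⟨s * g * s⁻¹, mem s hs (Or.inr hsd) g g.2⟩
      invFun := fun g => ⟨s⁻¹ * g * s⁻¹⁻¹, mem s⁻¹ (inv_mem hs) (Or.inr hsi) g g.2⟩
      left_inv := fun g => Subtype.ext (by simp [mul_assoc])
      right_inv := fun g => Subtype.ext (by simp [mul_assoc])
      map_mul' := fun g h => Subtype.ext (by simp [mul_assoc]) }
  have ha : a ∉ Cfsg.Inn Cfsg.Spor.M12 := by
    rintro ⟨k, hk⟩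
    have hk' : ∀ g : Cfsg.Spor.M12, (k : Equiv.Perm GolayPt) * g * (k : Equiv.Perm GolayPt)⁻¹ =
        s * (g : Equiv.Perm GolayPt) * s⁻¹ :=
      fun g => congrArg (fun f : MulAut Cfsg.Spor.M12 => ((f g : Cfsg.Spor.M12) : Equiv.Perm GolayPt)) hk
    set v : Equiv.Perm GolayPt := (k : Equiv.Perm GolayPt)⁻¹ * s with hv
    have hvc : ∀ g : Cfsg.Spor.M12, v * (g : Equiv.Perm GolayPt) * v⁻¹ = (g : Equiv.Perm GolayPt) := fun g => by
      calc (k : Equiv.Perm GolayPt)⁻¹ * s * g * ((k : Equiv.Perm GolayPt)⁻¹ * s)⁻¹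
          = (k : Equiv.Perm GolayPt)⁻¹ * (s * g * s⁻¹) * k := by simp [mul_assoc]
        _ = g := by rw [← hk' g]; simp [mul_assoc]
    have hv1 : v = 1 := Equiv.ext fun p => stab_point_inj hd (Subgroup.ext fun g => by
      simp only [Subgroup.mem_inf, and_congr_right_iff]
      intro hg
      show (g : Equiv.Perm GolayPt) (v p) = v p ↔ (g : Equiv.Perm GolayPt) p = p
      conv_lhs => rw [← show v * (g : Equiv.Perm GolayPt) * v⁻¹ = g from hvc ⟨g.1, g.2, hg⟩]
      rw [Equiv.Perm.mul_apply, Equiv.Perm.mul_apply, show v⁻¹ (v p) = p from v.symm_apply_apply p]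
      exact v.injective.eq_iff)
    rw [hv, inv_mul_eq_one] at hv1
    have hkd : (k : Equiv.Perm GolayPt) • d = d := k.2.2
    rw [hv1, hsd] at hkd
    exact hne hkd.symm
  refine Subgroup.index_eq_two_iff.2 ⟨a, fun b => ?_⟩
  by_cases hb : b ∈ Cfsg.Inn Cfsg.Spor.M12
  · exact Or.inr ⟨hb, fun h => ha (by simpa using mul_mem (inv_mem hb) h)⟩
  · refine Or.inl ⟨?_, hb⟩
    obtain ⟨τ, hτ, hcase, hτg⟩ := aut_M12_conj b
    rcases hcase with c | c
    · exact absurd ⟨⟨τ, hτ, c⟩, MulEquiv.ext fun g => Subtype.ext (hτg g)⟩ hb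
    · refine ⟨⟨τ * s, mul_mem hτ hs, ?_⟩, MulEquiv.ext fun g => Subtype.ext ?_⟩
      · show (τ * s) • d = d
        rw [mul_smul, hsd, smul_compl, c, compl_compl]
      · show τ * s * (g : Equiv.Perm GolayPt) * (τ * s)⁻¹ = ((b (a g)) : Equiv.Perm GolayPt)
        rw [← hτg]
        show _ = τ * (s * (g : Equiv.Perm GolayPt) * s⁻¹) * τ⁻¹
        simp [mul_assoc]

end Cfsg.Agent.Spor.MathieuOutTwelve
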