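import Cfsg.Agent.Lib.Spor.HsRankOrb
import Cfsg.Agent.Lib.Spor.MclConfig
import Cfsg.Agent.Lib.Spor.MclRankData

/-!
The McLaughlin group on 2025 points: rank four with subdegrees 1, 330, 462, 1232.
-/

set_option autoImplicit false
set_option maxRecDepth 100000
set_option Elab.async false

namespace Cfsg.Agent.Spor

open Cfsg

local notation "Zv" => GolayPt → ℤ

namespace MclRank

open HsRank (cd dgt vecC permOK slot rngOK of_rng vecL big)

/-- one word of data -/
def info (i : ℕ) : ℕ := slot infoTab 32 i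
/-- parent -/
def par (i : ℕ) : ℕ := Nat.mod (info i) 16384
/-- generator -/
def gen (i : ℕ) : ℕ := Nat.mod (Nat.div (info i) 16384) 4
/-- depth -/
def dep (i : ℕ) : ℕ := Nat.mod (Nat.div (info i) 65536) 256
/-- class -/
def cls (i : ℕ) : ℕ := Nat.div (info i) 16777216

/-- membership in the 2025 -/
def sel (i : ℕ) : Bool := Nat.beq (Nat.add (dgt (cd i) 23) (dgt (cd i) 0)) 8

/-- one vector of the trees -/
noncomputable def nodeOK (i : ℕ) : Bool :=
  !sel i || (Nat.blt (cls i) 4 &&
  (bif Nat.beq (gen i) 3 then Nat.beq (rootAt.getD (cls i) 0) i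
  else Nat.blt (par i) 11178 && Nat.blt (dep (par i)) (dep i) && Nat.beq (cls (par i)) (cls i) && sel (par i) &&
    (bif Nat.beq (gen i) 0 then permOK HsRank.pw0 (cd (par i)) (cd i)
     else permOK HsRank.pw1 (cd (par i)) (cd i))))

theorem node0 : rngOK nodeOK 0 = true := by decide +kernel
theorem node1 : rngOK nodeOK 1 = true := by decide +kernel
theorem node2 : rngOK nodeOK 2 = true := by decide +kernel
theorem node3 : rngOK nodeOK 3 = true := by decide +kernel
theorem node4 : rngOK nodeOK 4 = true := by decide +kernel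
theorem node5 : rngOK nodeOK 5 = true := by decide +kernel
theorem node6 : rngOK nodeOK 6 = true := by decide +kernel
theorem node7 : rngOK nodeOK 7 = true := by decide +kernel
theorem node8 : rngOK nodeOK 8 = true := by decide +kernel
theorem node9 : rngOK nodeOK 9 = true := by decide +kernel
theorem node10 : rngOK nodeOK 10 = true := by decide +kernel
theorem node11 : rngOK nodeOK 11 = true := by decide +kernel
theorem node12 : rngOK nodeOK 12 = true := by decide +kernel
theorem node13 : rngOK nodeOK 13 = true := by decide +kernel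
theorem node14 : rngOK nodeOK 14 = true := by decide +kernel
theorem node15 : rngOK nodeOK 15 = true := by decide +kernel
theorem node16 : rngOK nodeOK 16 = true := by decide +kernel
theorem node17 : rngOK nodeOK 17 = true := by decide +kernel
theorem node18 : rngOK nodeOK 18 = true := by decide +kernel
theorem node19 : rngOK nodeOK 19 = true := by decide +kernel
theorem node20 : rngOK nodeOK 20 = true := by decide +kernel
theorem node21 : rngOK nodeOK 21 = true := by decide +kernel
theorem node22 : rngOK nodeOK 22 = true := by decide +kernel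
theorem node23 : rngOK nodeOK 23 = true := by decide +kernel
theorem node24 : rngOK nodeOK 24 = true := by decide +kernel
theorem node25 : rngOK nodeOK 25 = true := by decide +kernel
theorem node26 : rngOK nodeOK 26 = true := by decide +kernel
theorem node27 : rngOK nodeOK 27 = true := by decide +kernel
theorem node28 : rngOK nodeOK 28 = true := by decide +kernel
theorem node29 : rngOK nodeOK 29 = true := by decide +kernel
theorem node30 : rngOK nodeOK 30 = true := by decide +kernel
theorem node31 : rngOK nodeOK 31 = true := by decide +kernel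
theorem node32 : rngOK nodeOK 32 = true := by decide +kernel
theorem node33 : rngOK nodeOK 33 = true := by decide +kernel
theorem node34 : rngOK nodeOK 34 = true := by decide +kernel
theorem node35 : rngOK nodeOK 35 = true := by decide +kernel
theorem node36 : rngOK nodeOK 36 = true := by decide +kernel
theorem node37 : rngOK nodeOK 37 = true := by decide +kernel
theorem node38 : rngOK nodeOK 38 = true := by decide +kernel
theorem node39 : rngOK nodeOK 39 = true := by decide +kernel
theorem node40 : rngOK nodeOK 40 = true := by decide +kernel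
theorem node41 : rngOK nodeOK 41 = true := by decide +kernel
theorem node42 : rngOK nodeOK 42 = true := by decide +kernel
theorem node43 : rngOK nodeOK 43 = true := by decide +kernel
theorem node44 : rngOK nodeOK 44 = true := by decide +kernel

theorem node_all : ∀ i < 11178, nodeOK i = true := of_rng fun c hc => by
  interval_cases c
  exacts [node0, node1, node2, node3, node4, node5, node6, node7, node8, node9, node10, node11, node12, node13, node14, node15, node16, node17, node18, node19, node20, node21, node22, node23, node24, node25, node26, node27, node28, node29, node30, node31, node32, node33, node34, node35, node36, node37, node38, node39, node40, node41, node42, node43, node44]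


theorem counts : ((List.range 11178).filter sel).length = 2025 ∧
    ([0, 1, 2, 3] : List ℕ).map (fun j => ((List.range 11178).filter fun i => sel i && Nat.beq (cls i) j).length)
      = [1, 462, 1232, 330] := by decide +kernel

theorem root_facts : ∀ j < 4, rootAt.getD j 0 < 11178 ∧ sel (rootAt.getD j 0) = true ∧ cls (rootAt.getD j 0) = j ∧
    dotInt (fun p => -fourVec (-1) p) (vecC (cd (rootAt.getD j 0))) = ([32, 16, 8, 0] : List ℤ).getD j 0 ∧
    (j = 0 → ∀ p, vecC (cd (rootAt.getD j 0)) p = -fourVec (-1) p) := by decide +kernel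

theorem perm_fix : ∀ k < 2, ∀ p,
    fourVec 1 (pt ([HsRank.perm0, HsRank.perm1].getD k [] |>.getD (idx p) 0)) = fourVec 1 p := by decide +kernel

theorem fix_facts :
    (∀ p, vecOf ((fixTr.getD 0 []).headD []) p = uRef p ∧ vecOf ((fixTr.getD 0 []).getLastD []) p = uRef p) ∧
    (∀ p, vecOf ((fixTr.getD 1 []).headD []) p = fourVec 1 p ∧
      vecOf ((fixTr.getD 1 []).getLastD []) p = fourVec 1 p) := by
  refine ⟨?_, ?_⟩ <;> decide +kernel

theorem traces_ok : fixTr.all (traceOk extraW) = true ∧ edgeTr.all (traceOk extraW) = true := by decide +kernel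

theorem edge_facts : edgeTr.length = 3 ∧ fixTr.length = 2 ∧ ∀ j < 3, (edgeAt.getD j (0, 0)).1 < 11178 ∧ (edgeAt.getD j (0, 0)).2 < 11178 ∧
    sel (edgeAt.getD j (0, 0)).1 = true ∧ sel (edgeAt.getD j (0, 0)).2 = true ∧
    (cls (edgeAt.getD j (0, 0)).1, cls (edgeAt.getD j (0, 0)).2) = ([(0, 1), (1, 2), (1, 3)] : List (ℕ × ℕ)).getD j (0, 0) ∧
    (∀ p, vecOf ((edgeTr.getD j []).getLastD []) p = vecC (cd (edgeAt.getD j (0, 0)).1) p) ∧
    (∀ p, vecOf ((edgeTr.getD j []).headD []) p = vecC (cd (edgeAt.getD j (0, 0)).2) p) := by decide +kernel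

/-- fixing the two vectors and the base point -/
def Fix3 (g : ↥Co0) : Prop := MFix g ∧ g • HsRank.base = HsRank.base

theorem fix3_one : Fix3 1 := ⟨⟨one_smul _ _, one_smul _ _⟩, one_smul _ _⟩

theorem fix3_inv {g : ↥Co0} (h : Fix3 g) : Fix3 g⁻¹ := ⟨h.1.inv, by rw [inv_smul_eq_iff, h.2]⟩

theorem fix3_mul {g k : ↥Co0} (h : Fix3 g) (h' : Fix3 k) : Fix3 (g * k) :=
  ⟨h.1.mul h'.1, by rw [mul_smul, h'.2, h.2]⟩

theorem perm_gens (k : ℕ) (hk : k < 2) : ∃ g : ↥Co0, Fix3 g ∧
    ∀ v : ↥leechLattice, ((g • v : ↥leechLattice) : Zv) = wordApp (HsRank.genW k) (v : Zv) := by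
  obtain ⟨g, ⟨g1, g2⟩, hg⟩ := HsRank.gens_ok k (by omega)
  refine ⟨g, ⟨⟨g1, Subtype.ext ((hg mclVec).trans ?_)⟩, by rw [HsRank.base, co0_neg, g2]⟩, hg⟩
  funext p
  interval_cases k
  · exact perm_fix 0 (by norm_num) p
  · exact perm_fix 1 (by norm_num) p

theorem extra_gen : ∃ g : ↥Co0, MFix g ∧
    ∀ v : ↥leechLattice, ((g • v : ↥leechLattice) : Zv) = wordApp extraW (v : Zv) := by
  obtain ⟨f0, f1⟩ := fix_facts
  obtain ⟨hf, -⟩ := traces_ok
  rw [List.all_eq_true] at hf
  obtain ⟨x, hxi⟩ := exists_xi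
  have mem : ∀ i, i < 2 → fixTr.getD i [] ∈ fixTr := fun i hi => by
    rw [List.getD_eq_getElem _ _ (by rw [edge_facts.2.1]; exact hi)]
    exact List.getElem_mem _
  have t0 := trace_sound _ _ (hf _ (mem 0 (by norm_num)))
  obtain ⟨g, -, hg⟩ := word_elem ⊤ (fun _ _ => Subgroup.mem_top _) (Subgroup.mem_top x) hxi extraW t0.1
  refine ⟨g, ⟨Subtype.ext ((hg refU).trans ?_), Subtype.ext ((hg mclVec).trans ?_)⟩, hg⟩
  · have e := t0.2
    rw [funext fun p => (f0 p).1, funext fun p => (f0 p).2] at e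
    exact e
  · have e := (trace_sound _ _ (hf _ (mem 1 (by norm_num)))).2
    rw [funext fun p => (f1 p).1, funext fun p => (f1 p).2] at e
    exact e

theorem lt_of_sel {i : ℕ} (hi : i < 11178) (hs : sel i = true) : cls i < 4 := by
  have h := node_all i hi
  simp only [nodeOK, hs, Bool.not_true, Bool.false_or, Bool.and_eq_true] at h
  exact Nat.le_of_ble_eq_true h.1

theorem tree_orb : ∀ (n i : ℕ), i < 11178 → sel i = true → dep i = n →
    ∃ g, Fix3 g ∧ g • vecL (rootAt.getD (cls i) 0) = vecL i := by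
  intro n
  induction n using Nat.strong_induction_on with
  | _ n ih =>
    intro i hi hs hn
    have h := node_all i hi
    simp only [nodeOK, hs, Bool.not_true, Bool.false_or, Bool.and_eq_true] at h
    obtain ⟨-, h⟩ := h
    cases hg3 : Nat.beq (gen i) 3
    · rw [hg3, cond_false] at h
      simp only [Bool.and_eq_true] at h
      obtain ⟨⟨⟨⟨hp, hd⟩, hlab⟩, hsp⟩, h⟩ := h
      have hp : par i < 11178 := Nat.le_of_ble_eq_true hp
      have hd : dep (par i) < dep i := Nat.le_of_ble_eq_true hd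
      have hlab : cls (par i) = cls i := Nat.eq_of_beq_eq_true hlab
      obtain ⟨a, ha, e⟩ := ih _ (hn ▸ hd) (par i) hp hsp rfl
      rw [hlab] at e
      have step : ∀ k < 2, wordApp (HsRank.genW k) (vecC (cd (par i))) = vecC (cd i) →
          ∃ g, Fix3 g ∧ g • vecL (rootAt.getD (cls i) 0) = vecL i := by
        intro k hk e'
        obtain ⟨b, hb, hbv⟩ := perm_gens k hk
        refine ⟨b * a, fix3_mul hb ha, Subtype.ext ?_⟩
        rw [mul_smul, e, hbv, (HsRank.vec_facts hp).1, e', (HsRank.vec_facts hi).1]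
      cases h0 : Nat.beq (gen i) 0
      · rw [h0, cond_false] at h
        exact step 1 (by norm_num)
          (HsRank.perm_step _ _ _ (HsRank.weights_ok.2 ▸ h) fun k hk => (HsRank.perm_lt k hk).2)
      · rw [h0, cond_true] at h
        exact step 0 (by norm_num)
          (HsRank.perm_step _ _ _ (HsRank.weights_ok.1 ▸ h) fun k hk => (HsRank.perm_lt k hk).1)
    · rw [hg3, cond_true] at h
      exact ⟨1, fix3_one, by rw [one_smul, Nat.eq_of_beq_eq_true h]⟩

/-- the 2025 points -/
def pts : Set ↥leechLattice :=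
  {y | sqNorm (y : Zv) = 32 ∧ dotInt uRef (y : Zv) = -16 ∧ dotInt (fourVec 1) (y : Zv) = 0}

theorem sel_iff {i : ℕ} (hi : i < 11178) : sel i = true ↔ dotInt (fourVec 1) (vecL i : Zv) = 0 := by
  rw [(HsRank.vec_facts hi).1, dot_fourPos]
  have e : ∀ k, k < 24 → vecC (cd i) (pt k) = (dgt (cd i) k : ℤ) - 4 := fun k hk => by
    show (dgt (cd i) (idx (pt k)) : ℤ) - 4 = _
    rw [idx_pt k hk]
  rw [show (none : GolayPt) = pt 23 from rfl, e 23 (by norm_num), e 0 (by norm_num), sel]
  constructor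
  · intro h
    have : dgt (cd i) 23 + dgt (cd i) 0 = 8 := Nat.eq_of_beq_eq_true h
    omega
  · intro h
    have e8 : Nat.add (dgt (cd i) 23) (dgt (cd i) 0) = 8 := by
      show dgt (cd i) 23 + dgt (cd i) 0 = 8
      omega
    rw [e8]
    rfl

theorem pts_eq : pts = vecL '' {i | i < 11178 ∧ sel i = true} := by
  ext y
  constructor
  · rintro ⟨h1, h2, h3⟩
    have hy : y ∈ big := ⟨h1, h2⟩
    rw [HsRank.big_eq] at hy
    obtain ⟨i, hi, rfl⟩ := hy
    exact ⟨i, ⟨hi, (sel_iff hi).2 h3⟩, rfl⟩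
  · rintro ⟨i, ⟨hi, hs⟩, rfl⟩
    obtain ⟨-, ⟨h1, h2⟩, -, -⟩ := HsRank.vec_facts hi
    exact ⟨h1, h2, (sel_iff hi).1 hs⟩

theorem vecL_inj {s : Set ℕ} (hs : ∀ i ∈ s, i < 11178) : Set.InjOn vecL s := fun i hi j hj e =>
  HsRank.vec_inj (hs i hi) (hs j hj) (by rw [← (HsRank.vec_facts (hs i hi)).1, ← (HsRank.vec_facts (hs j hj)).1, e])

theorem ncard_filter (q : ℕ → Bool) :
    (vecL '' {i | i < 11178 ∧ q i = true}).ncard = ((List.range 11178).filter q).length := by
  have e : {i | i < 11178 ∧ q i = true} = ↑((List.range 11178).filter q).toFinset := by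
    ext i; simp [List.mem_range]
  rw [Set.InjOn.ncard_image (vecL_inj fun i h => h.1), e, Set.ncard_coe_finset,
    List.toFinset_card_of_nodup (List.nodup_range.filter _)]

theorem base_root : vecL (rootAt.getD 0 0) = HsRank.base := by
  obtain ⟨h1, -, -, -, h⟩ := root_facts 0 (by norm_num)
  exact Subtype.ext ((HsRank.vec_facts h1).1.trans (funext (h rfl)))

theorem connected {y : ↥leechLattice} (hy : y ∈ pts) : ∃ g, MFix g ∧ g • HsRank.base = y := by
  rw [pts_eq] at hy
  obtain ⟨i, ⟨hi, hs⟩, rfl⟩ := hy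
  obtain ⟨g, hg, hgv⟩ := extra_gen
  -- each root is reached from the base
  have edge : ∀ j < 3, ∃ a b, MFix a ∧ a • vecL (rootAt.getD (([(0, 1), (1, 2), (1, 3)] : List (ℕ × ℕ)).getD j (0, 0)).1 0) = b ∧
      ∃ c, MFix c ∧ c • vecL (rootAt.getD (([(0, 1), (1, 2), (1, 3)] : List (ℕ × ℕ)).getD j (0, 0)).2 0) = b := by
    intro j hj
    obtain ⟨la, lb, sa, sb, hc, ea, eb⟩ := edge_facts.2.2 j hj
    obtain ⟨p, hp, ep⟩ := tree_orb _ _ la sa rfl
    obtain ⟨q, hq, eq⟩ := tree_orb _ _ lb sb rfl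
    have ht := List.all_eq_true.1 traces_ok.2 (edgeTr.getD j []) (by
      rw [List.getD_eq_getElem _ _ (by rw [edge_facts.1]; exact hj)]; exact List.getElem_mem _)
    have e := (trace_sound _ _ ht).2
    rw [funext ea, funext eb] at e
    refine ⟨g * p, vecL (edgeAt.getD j (0, 0)).2, hg.mul hp.1, ?_, q, hq.1, ?_⟩
    · rw [← hc, mul_smul, ep]
      exact Subtype.ext (by rw [hgv, (HsRank.vec_facts la).1, e, (HsRank.vec_facts lb).1])
    · rw [← hc]; exact eq
  have roots : ∀ c < 4, ∃ a, MFix a ∧ a • HsRank.base = vecL (rootAt.getD c 0) := by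
    have nxt : ∀ j < 3, ∀ a, MFix a → a • HsRank.base = vecL (rootAt.getD (([(0, 1), (1, 2), (1, 3)] : List (ℕ × ℕ)).getD j (0, 0)).1 0) →
        ∃ a', MFix a' ∧ a' • HsRank.base = vecL (rootAt.getD (([(0, 1), (1, 2), (1, 3)] : List (ℕ × ℕ)).getD j (0, 0)).2 0) := by
      intro j hj a ha e
      obtain ⟨p, b, hp, ep, c, hc, ec⟩ := edge j hj
      refine ⟨c⁻¹ * (p * a), hc.inv.mul (hp.mul ha), ?_⟩
      rw [mul_smul, mul_smul, e, ep, ← ec, inv_smul_smul]
    have r0 : ∃ a, MFix a ∧ a • HsRank.base = vecL (rootAt.getD 0 0) :=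
      ⟨1, fix3_one.1, by rw [one_smul, base_root]⟩
    obtain ⟨a0, ha0, e0⟩ := r0
    obtain ⟨a1, ha1, e1⟩ := nxt 0 (by norm_num) a0 ha0 e0
    intro c hc
    interval_cases c
    · exact ⟨a0, ha0, e0⟩
    · exact ⟨a1, ha1, e1⟩
    · exact nxt 1 (by norm_num) a1 ha1 e1
    · exact nxt 2 (by norm_num) a1 ha1 e1
  obtain ⟨t, ht, et⟩ := tree_orb _ i hi hs rfl
  obtain ⟨a, ha, ea⟩ := roots (cls i) (lt_of_sel hi hs)
  exact ⟨t * a, ht.1.mul ha, by rw [mul_smul, ea, et]⟩

/-- the point stabiliser -/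
abbrev Stab : Subgroup ↥Co0 :=
  MulAction.stabilizer ↥Co0 refU ⊓ MulAction.stabilizer ↥Co0 mclVec ⊓ MulAction.stabilizer ↥Co0 HsRank.base

theorem mem_stab {g : ↥Co0} : g ∈ Stab ↔ Fix3 g := by
  rw [Subgroup.mem_inf, Subgroup.mem_inf, MulAction.mem_stabilizer_iff, MulAction.mem_stabilizer_iff,
    MulAction.mem_stabilizer_iff]
  exact Iff.rfl

theorem orbit_card {j : ℕ} (hj : j < 4) :
    (MulAction.orbit ↥Stab (vecL (rootAt.getD j 0))).ncard = ([1, 462, 1232, 330] : List ℕ).getD j 0 ∧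
      vecL (rootAt.getD j 0) ∈ pts := by
  obtain ⟨hr, hsr, hcr, hdr, -⟩ := root_facts j hj
  have hm : vecL (rootAt.getD j 0) ∈ pts := by rw [pts_eq]; exact ⟨_, ⟨hr, hsr⟩, rfl⟩
  refine ⟨?_, hm⟩
  have e : MulAction.orbit ↥Stab (vecL (rootAt.getD j 0)) =
      vecL '' {i | i < 11178 ∧ (sel i && Nat.beq (cls i) j) = true} := by
    ext y
    constructor
    · rintro ⟨⟨g, hg⟩, rfl⟩
      obtain ⟨⟨g1, g2⟩, g3⟩ := mem_stab.1 hg
      have mem : g • vecL (rootAt.getD j 0) ∈ pts := by
        refine ⟨(g.2.2 _).trans hm.1, ?_, ?_⟩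
        · have := co0_dot g refU (vecL (rootAt.getD j 0)); rw [g1] at this; exact this.trans hm.2.1
        · have := co0_dot g mclVec (vecL (rootAt.getD j 0)); rw [g2] at this; exact this.trans hm.2.2
      rw [pts_eq] at mem
      obtain ⟨i, ⟨hi, hs⟩, e⟩ := mem
      refine ⟨i, ⟨hi, ?_⟩, e⟩
      rw [hs, Bool.true_and]
      obtain ⟨t, ht, et⟩ := tree_orb _ i hi hs rfl
      have d1 := co0_dot g HsRank.base (vecL (rootAt.getD j 0))
      have d2 := co0_dot t HsRank.base (vecL (rootAt.getD (cls i) 0))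
      rw [g3, ← e] at d1
      rw [ht.2, et] at d2
      rw [d2] at d1
      have hl := lt_of_sel hi hs
      obtain ⟨hr', -, -, hd', -⟩ := root_facts _ hl
      have b : ∀ k, k < 4 → rootAt.getD k 0 < 11178 → dotInt (HsRank.base : Zv) (vecL (rootAt.getD k 0) : Zv) =
          dotInt (fun p => -fourVec (-1) p) (vecC (cd (rootAt.getD k 0))) := fun k _ h => by
        rw [(HsRank.vec_facts h).1]; rfl
      rw [b _ hl hr', b _ hj hr, hd', hdr] at d1
      have sep : ∀ a < 4, ∀ c < 4, ([32, 16, 8, 0] : List ℤ).getD a 0 = ([32, 16, 8, 0] : List ℤ).getD c 0 → a = c := by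
        decide
      rw [sep _ hl _ hj d1]
      exact Nat.beq_refl j
    · rintro ⟨i, ⟨hi, h⟩, rfl⟩
      rw [Bool.and_eq_true] at h
      obtain ⟨t, ht, et⟩ := tree_orb _ i hi h.1 rfl
      rw [Nat.eq_of_beq_eq_true h.2] at et
      exact ⟨⟨t, mem_stab.2 ht⟩, et⟩
  rw [e, ncard_filter]
  have := congrArg (fun l : List ℕ => l.getD j 0) counts.2
  rw [← this]
  interval_cases j <;> rfl

theorem rank_four (v w : ↥leechLattice) (hv : sqNorm (v : Zv) = 32) (hw : sqNorm (w : Zv) = 32)
    (hvw : dotInt (v : Zv) (w : Zv) = -8) :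
    let S := {x : ↥leechLattice | sqNorm (x : Zv) = 32 ∧ dotInt (v : Zv) (x : Zv) = 0 ∧ dotInt (w : Zv) (x : Zv) = 16}
    S.ncard = 2025 ∧ (∀ x ∈ S, ∀ x' ∈ S, ∃ g : ↥Co0, g • v = v ∧ g • w = w ∧ g • x = x') ∧
    ∀ x ∈ S, ∃ y₁ ∈ S, ∃ y₂ ∈ S, ∃ y₃ ∈ S,
      (MulAction.orbit ↥(MulAction.stabilizer ↥Co0 v ⊓ MulAction.stabilizer ↥Co0 w ⊓ MulAction.stabilizer ↥Co0 x) y₁).ncard = 330 ∧
      (MulAction.orbit ↥(MulAction.stabilizer ↥Co0 v ⊓ MulAction.stabilizer ↥Co0 w ⊓ MulAction.stabilizer ↥Co0 x) y₂).ncard = 462 ∧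
      (MulAction.orbit ↥(MulAction.stabilizer ↥Co0 v ⊓ MulAction.stabilizer ↥Co0 w ⊓ MulAction.stabilizer ↥Co0 x) y₃).ncard = 1232 := by
  intro S
  have hu : sqNorm ((v + w : ↥leechLattice) : Zv) = 48 := by
    rw [AddSubgroup.coe_add, sqNorm_add, hv, hw, hvw]; norm_num
  obtain ⟨k, k1, k2⟩ := mcl_pair_map (v + w) v hu ⟨hv, by
    have e : ((v + w : ↥leechLattice) : Zv) - (v : Zv) = (w : Zv) := by rw [AddSubgroup.coe_add]; abel
    show sqNorm (((v + w : ↥leechLattice) : Zv) - (v : Zv)) = 32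
    rw [e, hw]⟩
  have k3 : k • w = refU - mclVec := by
    rw [eq_sub_iff_add_eq, ← k2, ← co0_add, add_comm w v, k1]
  have fixes : ∀ g : ↥Co0, MFix g → (k⁻¹ * g * k) • v = v ∧ (k⁻¹ * g * k) • w = w := by
    rintro g ⟨g1, g2⟩
    have g3 : g • (refU - mclVec) = refU - mclVec := by
      rw [sub_eq_add_neg, co0_add, co0_neg, g1, g2]
    exact ⟨by rw [mul_smul, mul_smul, k2, g2, ← k2, inv_smul_smul],
      by rw [mul_smul, mul_smul, k3, g3, ← k3, inv_smul_smul]⟩
  -- the configuration goes to the negatives of the points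
  have hS : ∀ x : ↥leechLattice, x ∈ S ↔ -(k • x) ∈ pts := by
    intro x
    have a := co0_dot k v x
    have b := co0_dot k (v + w) x
    rw [k2] at a
    rw [k1, AddSubgroup.coe_add, dot_comm' ((v : Zv) + (w : Zv)), dot_add_right, dot_comm' _ (v : Zv), dot_comm' _ (w : Zv)] at b
    have n : sqNorm ((-(k • x) : ↥leechLattice) : Zv) = sqNorm (x : Zv) := by
      rw [AddSubgroup.coe_neg, sqNorm_neg]; exact k.2.2 x
    change dotInt (fourVec 1) _ = _ at a
    change dotInt uRef _ = _ at b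
    show (sqNorm (x : Zv) = 32 ∧ dotInt (v : Zv) (x : Zv) = 0 ∧ dotInt (w : Zv) (x : Zv) = 16) ↔
      (sqNorm ((-(k • x) : ↥leechLattice) : Zv) = 32 ∧ dotInt uRef ((-(k • x) : ↥leechLattice) : Zv) = -16 ∧
        dotInt (fourVec 1) ((-(k • x) : ↥leechLattice) : Zv) = 0)
    rw [n, AddSubgroup.coe_neg, dot_neg_right, dot_neg_right, a, b]
    omega
  have back : ∀ z : ↥leechLattice, z ∈ pts → k⁻¹ • (-z) ∈ S := fun z hz => by
    rw [hS, smul_inv_smul, neg_neg]; exact hz
  have trans1 : ∀ x ∈ S, ∀ x' ∈ S, ∃ g : ↥Co0, g • v = v ∧ g • w = w ∧ g • x = x' := by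
    intro x hx x' hx'
    obtain ⟨a, ha, ea⟩ := connected ((hS x).1 hx)
    obtain ⟨b, hb, eb⟩ := connected ((hS x').1 hx')
    obtain ⟨f1, f2⟩ := fixes (b * a⁻¹) (hb.mul ha.inv)
    refine ⟨k⁻¹ * (b * a⁻¹) * k, f1, f2, ?_⟩
    have e : (b * a⁻¹) • (k • x) = k • x' := by
      apply neg_injective
      rw [← co0_neg, ← eb, ← ea, mul_smul, inv_smul_smul]
    rw [mul_smul, mul_smul, e, inv_smul_smul]
  refine ⟨?_, trans1, fun x hx => ?_⟩
  · have e : S = (fun z => k⁻¹ • (-z)) '' pts := by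
      ext x
      exact ⟨fun hx => ⟨_, (hS x).1 hx, by simp only [neg_neg, inv_smul_smul]⟩,
        fun ⟨z, hz, e⟩ => e ▸ back z hz⟩
    rw [e, Set.ncard_image_of_injective _ fun a b h => neg_injective (MulAction.injective k⁻¹ h), pts_eq,
      ncard_filter, counts.1]
  · obtain ⟨a, ha, ea⟩ := connected ((hS x).1 hx)
    set c := k⁻¹ * a with hc
    have c0 : c • (-HsRank.base) = x := by
      rw [hc, mul_smul, co0_neg, ea, neg_neg, inv_smul_smul]
    have cu : ∀ g : ↥Co0, g ∈ MulAction.stabilizer ↥Co0 v ⊓ MulAction.stabilizer ↥Co0 w ⊓ MulAction.stabilizer ↥Co0 x ↔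
        c⁻¹ * g * c ∈ Stab := by
      intro g
      have cv : c • mclVec = v := by rw [hc, mul_smul, ha.2, ← k2, inv_smul_smul]
      have cuu : c • refU = v + w := by rw [hc, mul_smul, ha.1, ← k1, inv_smul_smul]
      rw [Subgroup.mem_inf, Subgroup.mem_inf, MulAction.mem_stabilizer_iff, MulAction.mem_stabilizer_iff,
        MulAction.mem_stabilizer_iff, mem_stab]
      have conj : ∀ z : ↥leechLattice, (c⁻¹ * g * c) • z = z ↔ g • c • z = c • z := fun z => by
        rw [mul_smul, mul_smul, inv_smul_eq_iff]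
      show _ ↔ ((c⁻¹ * g * c) • refU = refU ∧ (c⁻¹ * g * c) • mclVec = mclVec) ∧
        (c⁻¹ * g * c) • HsRank.base = HsRank.base
      rw [conj, conj, conj, cv, cuu, co0_add]
      have hb : c • HsRank.base = -x := by rw [← c0, co0_neg, neg_neg]
      rw [hb, co0_neg, neg_inj]
      constructor
      · rintro ⟨⟨h1, h2⟩, h3⟩; exact ⟨⟨by rw [h1, h2], h1⟩, h3⟩
      · rintro ⟨⟨h1, h2⟩, h3⟩
        rw [h2] at h1
        exact ⟨⟨h2, add_left_cancel h1⟩, h3⟩
    have card : ∀ y : ↥leechLattice, (MulAction.orbit ↥(MulAction.stabilizer ↥Co0 v ⊓ MulAction.stabilizer ↥Co0 w ⊓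
        MulAction.stabilizer ↥Co0 x) (c • (-y))).ncard = (MulAction.orbit ↥Stab y).ncard := by
      intro y
      rw [← Set.ncard_image_of_injective (MulAction.orbit ↥Stab y) (f := fun z => c • (-z))
        fun a b h => neg_injective (MulAction.injective c h)]
      congr 1
      ext z
      constructor
      · rintro ⟨⟨g, hg⟩, rfl⟩
        refine ⟨(c⁻¹ * g * c) • y, ⟨⟨_, (cu g).1 hg⟩, rfl⟩, ?_⟩
        show c • (-((c⁻¹ * g * c) • y)) = g • c • (-y)
        rw [← co0_neg, ← mul_smul, ← mul_smul g c, show c * (c⁻¹ * g * c) = g * c by group]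
      · rintro ⟨_, ⟨⟨g, hg⟩, rfl⟩, rfl⟩
        refine ⟨⟨c * g * c⁻¹, (cu _).2 ?_⟩, ?_⟩
        · have e : c⁻¹ * (c * g * c⁻¹) * c = g := by group
          rw [e]; exact hg
        · show (c * g * c⁻¹) • c • (-y) = c • (-(g • y))
          rw [← co0_neg g y, ← mul_smul, ← mul_smul c g, show c * g * c⁻¹ * c = c * g by group]
    have memS : ∀ j < 4, c • (-vecL (rootAt.getD j 0)) ∈ S := by
      intro j hj
      obtain ⟨h1, h2, h3⟩ := (orbit_card hj).2
      rw [hS, show k • c • (-vecL (rootAt.getD j 0)) = -(a • vecL (rootAt.getD j 0)) by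
        rw [hc, mul_smul, smul_inv_smul, co0_neg], neg_neg]
      refine ⟨(a.2.2 _).trans h1, ?_, ?_⟩
      · have := co0_dot a refU (vecL (rootAt.getD j 0)); rw [ha.1] at this; exact this.trans h2
      · have := co0_dot a mclVec (vecL (rootAt.getD j 0)); rw [ha.2] at this; exact this.trans h3
    exact ⟨_, memS 3 (by norm_num), _, memS 1 (by norm_num), _, memS 2 (by norm_num),
      (card _).trans (orbit_card (by norm_num)).1, (card _).trans (orbit_card (by norm_num)).1,
      (card _).trans (orbit_card (by norm_num)).1⟩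

end MclRank

end Cfsg.Agent.Spor
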