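import Cfsg.Agent.Lib.Spor.MclUniqueTree

/-!
Soundness of search trees for truth values meeting every set of four members in exactly two.
-/

set_option autoImplicit false

namespace Cfsg.Agent.Spor.MclUnique

/-- a member of a set of four -/
def qv4 (k i : ℕ) : ℕ := (quadT >>> (16 * (4 * k + i))) % 65536

/-- the number of members of a set in a mask -/
def cnt (T k : ℕ) : ℕ :=
  (T.testBit (qv4 k 0)).toNat + (T.testBit (qv4 k 1)).toNat + (T.testBit (qv4 k 2)).toNat +
    (T.testBit (qv4 k 3)).toNat

/-- membership in a set -/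
def inQ (k v : ℕ) : Bool := qv4 k 0 == v || qv4 k 1 == v || qv4 k 2 == v || qv4 k 3 == v

/-- forced steps -/
def runS : ℕ → ℕ → ℕ → ℕ → Option (ℕ × ℕ)
  | 0, _, T, F => some (T, F)
  | n + 1, st, T, F =>
    let k := st % 262144 / 512
    let v := st % 512
    bif decide (k < 280) && inQ k v then
      bif cnt T k == 2 && !T.testBit v then runS n (st >>> 18) T (F ||| 2 ^ v)
      else bif cnt F k == 2 && !F.testBit v then runS n (st >>> 18) (T ||| 2 ^ v) F else none
    else none

/-- check of a tree; `sols` lists the accepted solutions, `all` is the mask of the variables -/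
def chk (sols : ℕ → ℕ) (num all : ℕ) : HT → ℕ → ℕ → Bool
  | .sol n st idx, T, F =>
    match runS n st T F with
    | some (T', F') => decide (idx < num) && (T' == sols idx) && ((T' ||| F') == all)
    | none => false
  | .dead n st q, T, F =>
    match runS n st T F with
    | some (T', F') => decide (q < 280) && (decide (2 < cnt T' q) || decide (2 < cnt F' q))
    | none => false
  | .br n st v t f l r, T, F =>
    match runS n st T F with
    | some (T', F') => (T' == t) && (F' == f) && chk sols num all l (t ||| 2 ^ v) f && chk sols num all r t (f ||| 2 ^ v)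
    | none => false

/-- truth values agreeing with two masks -/
def Agree (χ : ℕ → Bool) (T F : ℕ) : Prop :=
  (∀ v, T.testBit v = true → χ v = true) ∧ ∀ v, F.testBit v = true → χ v = false

/-- exactly two members of every set -/
def Two (χ : ℕ → Bool) : Prop :=
  ∀ k < 280, (χ (qv4 k 0)).toNat + (χ (qv4 k 1)).toNat + (χ (qv4 k 2)).toNat + (χ (qv4 k 3)).toNat = 2

theorem bit_le {a b : Bool} (h : a = true → b = true) : a.toNat ≤ b.toNat := by
  cases a <;> cases b <;> simp_all

theorem bit_le' {a b : Bool} (h : a = true → b = false) : a.toNat + b.toNat ≤ 1 := by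
  cases a <;> cases b <;> simp_all

theorem cnt_le {χ : ℕ → Bool} {T F k : ℕ} (hA : Agree χ T F) (hT : Two χ) (hk : k < 280) :
    cnt T k ≤ 2 ∧ cnt F k ≤ 2 := by
  have h := hT k hk
  have t0 := bit_le (hA.1 (qv4 k 0)); have t1 := bit_le (hA.1 (qv4 k 1))
  have t2 := bit_le (hA.1 (qv4 k 2)); have t3 := bit_le (hA.1 (qv4 k 3))
  have f0 := bit_le' (hA.2 (qv4 k 0)); have f1 := bit_le' (hA.2 (qv4 k 1))
  have f2 := bit_le' (hA.2 (qv4 k 2)); have f3 := bit_le' (hA.2 (qv4 k 3))
  unfold cnt
  omega

theorem Agree.set_true {χ : ℕ → Bool} {T F v : ℕ} (hA : Agree χ T F) (h : χ v = true) :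
    Agree χ (T ||| 2 ^ v) F := by
  refine ⟨fun w hw => ?_, hA.2⟩
  rw [Nat.testBit_or, Nat.testBit_two_pow, Bool.or_eq_true, decide_eq_true_eq] at hw
  rcases hw with hw | rfl
  · exact hA.1 w hw
  · exact h

theorem Agree.set_false {χ : ℕ → Bool} {T F v : ℕ} (hA : Agree χ T F) (h : χ v = false) :
    Agree χ T (F ||| 2 ^ v) := by
  refine ⟨hA.1, fun w hw => ?_⟩
  rw [Nat.testBit_or, Nat.testBit_two_pow, Bool.or_eq_true, decide_eq_true_eq] at hw
  rcases hw with hw | rfl
  · exact hA.2 w hw
  · exact h

theorem forced_false {χ : ℕ → Bool} {T F k v : ℕ} (hA : Agree χ T F) (hT : Two χ) (hk : k < 280)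
    (hv : inQ k v = true) (hc : cnt T k = 2) (hn : T.testBit v = false) : χ v = false := by
  have h := hT k hk
  unfold cnt at hc
  have t0 := bit_le (hA.1 (qv4 k 0)); have t1 := bit_le (hA.1 (qv4 k 1))
  have t2 := bit_le (hA.1 (qv4 k 2)); have t3 := bit_le (hA.1 (qv4 k 3))
  simp only [inQ, Bool.or_eq_true, beq_iff_eq] at hv
  cases hχ : χ v
  · rfl
  · exfalso
    have ev : (χ v).toNat = 1 := by rw [hχ]; rfl
    have en : (T.testBit v).toNat = 0 := by rw [hn]; rfl
    rcases hv with ((rfl | rfl) | rfl) | rfl <;> omega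

theorem forced_true {χ : ℕ → Bool} {T F k v : ℕ} (hA : Agree χ T F) (hT : Two χ) (hk : k < 280)
    (hv : inQ k v = true) (hc : cnt F k = 2) (hn : F.testBit v = false) : χ v = true := by
  have h := hT k hk
  unfold cnt at hc
  have f0 := bit_le' (hA.2 (qv4 k 0)); have f1 := bit_le' (hA.2 (qv4 k 1))
  have f2 := bit_le' (hA.2 (qv4 k 2)); have f3 := bit_le' (hA.2 (qv4 k 3))
  simp only [inQ, Bool.or_eq_true, beq_iff_eq] at hv
  cases hχ : χ v
  · exfalso
    have ev : (χ v).toNat = 0 := by rw [hχ]; rfl
    have en : (F.testBit v).toNat = 0 := by rw [hn]; rfl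
    rcases hv with ((rfl | rfl) | rfl) | rfl <;> omega
  · rfl

theorem runS_agree {χ : ℕ → Bool} (hT : Two χ) : ∀ (n st T F T' F' : ℕ),
    runS n st T F = some (T', F') → Agree χ T F → Agree χ T' F'
  | 0, _, T, F, T', F', h, hA => by
    simp only [runS, Option.some.injEq, Prod.mk.injEq] at h
    obtain ⟨rfl, rfl⟩ := h
    exact hA
  | n + 1, st, T, F, T', F', h, hA => by
    simp only [runS] at h
    by_cases h0 : (decide (st % 262144 / 512 < 280) && inQ (st % 262144 / 512) (st % 512)) = true
    · rw [h0, cond_true] at h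
      simp only [Bool.and_eq_true, decide_eq_true_eq] at h0
      by_cases h1 : (cnt T (st % 262144 / 512) == 2 && !T.testBit (st % 512)) = true
      · rw [h1, cond_true] at h
        simp only [Bool.and_eq_true, beq_iff_eq, Bool.not_eq_true'] at h1
        exact runS_agree hT n _ _ _ _ _ h (hA.set_false (forced_false hA hT h0.1 h0.2 h1.1 h1.2))
      · rw [eq_false_of_ne_true h1, cond_false] at h
        by_cases h2 : (cnt F (st % 262144 / 512) == 2 && !F.testBit (st % 512)) = true
        · rw [h2, cond_true] at h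
          simp only [Bool.and_eq_true, beq_iff_eq, Bool.not_eq_true'] at h2
          exact runS_agree hT n _ _ _ _ _ h (hA.set_true (forced_true hA hT h0.1 h0.2 h2.1 h2.2))
        · rw [eq_false_of_ne_true h2, cond_false] at h
          exact absurd h (by simp)
    · rw [eq_false_of_ne_true h0, cond_false] at h
      exact absurd h (by simp)

/-- A checked tree lists all assignments with exactly two members of every set. -/
theorem chk_sound {χ : ℕ → Bool} (hT : Two χ) {sols : ℕ → ℕ} {num all : ℕ} :
    ∀ (t : HT) (T F : ℕ), chk sols num all t T F = true → Agree χ T F →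
      ∃ i < num, ∀ v, all.testBit v = true → χ v = (sols i).testBit v
  | .sol n st idx, T, F, h, hA => by
    simp only [chk] at h
    split at h
    · rename_i T' F' he
      simp only [Bool.and_eq_true, decide_eq_true_eq, beq_iff_eq] at h
      obtain ⟨⟨hi, h1⟩, h2⟩ := h
      have hA' := runS_agree hT _ _ _ _ _ _ he hA
      refine ⟨idx, hi, fun v hv => ?_⟩
      rw [← h2, Nat.testBit_or, Bool.or_eq_true] at hv
      rw [← h1]
      cases hTv : T'.testBit v
      · exact hA'.2 v (by simpa [hTv] using hv)
      · exact hA'.1 v hTv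
    · exact absurd h Bool.false_ne_true
  | .dead n st q, T, F, h, hA => by
    simp only [chk] at h
    split at h
    · rename_i T' F' he
      simp only [Bool.and_eq_true, decide_eq_true_eq, Bool.or_eq_true] at h
      have := cnt_le (runS_agree hT _ _ _ _ _ _ he hA) hT h.1
      omega
    · exact absurd h Bool.false_ne_true
  | .br n st v t f l r, T, F, h, hA => by
    simp only [chk] at h
    split at h
    · rename_i T' F' he
      simp only [Bool.and_eq_true, beq_iff_eq] at h
      obtain ⟨⟨⟨rfl, rfl⟩, hl⟩, hr⟩ := h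
      have hA' := runS_agree hT _ _ _ _ _ _ he hA
      cases hv : χ v
      · exact chk_sound hT r _ _ hr (hA'.set_false hv)
      · exact chk_sound hT l _ _ hl (hA'.set_true hv)
    · exact absurd h Bool.false_ne_true

end Cfsg.Agent.Spor.MclUnique
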