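import Cfsg.Agent.Lib.Spor.U43Frames
import Cfsg.Agent.Lib.Spor.U43Data
import Cfsg.Agent.Lib.Local.FS.McLUnitaryField

/-!
Kernel checks of the data for the three classes of subgroups 3.U4(3) of SU(6,2).
-/

set_option autoImplicit false
set_option maxRecDepth 100000

namespace Cfsg.Agent.Spor.U43

open Cfsg.Agent.Spor.CC Matrix
open Cfsg.Agent.Spor.SpFour (F4)
open Cfsg.Agent.Spor.SUSix (G6 actN scal)

/-- five cycle -/
def c5 : Equiv.Perm (Fin 6) := Equiv.swap 0 1 * Equiv.swap 1 2 * Equiv.swap 2 3 * Equiv.swap 3 4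
/-- five cycle -/
def c5b : Equiv.Perm (Fin 6) := Equiv.swap 1 2 * Equiv.swap 2 3 * Equiv.swap 3 4 * Equiv.swap 4 5
/-- double transposition -/
def pa : Equiv.Perm (Fin 6) := Equiv.swap 0 1 * Equiv.swap 3 4
/-- transposition -/
def t01 : Equiv.Perm (Fin 6) := Equiv.swap 0 1

/-- the scalar of order three -/
def dlt (n : ℕ) : Fin 6 → F4 := fun j => if j = 0 then F4.w ^ n else 1

/-- the frames parameters of a case -/
def kOf (i : ℕ) : Fin 4 := Fin.ofNat 4 (i / 8)
/-- the frames parameters of a case -/
def lOf (i : ℕ) : Fin 4 := Fin.ofNat 4 (i / 2)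

/-- the matrix of a case -/
def caseM (i : ℕ) : M6 := if i % 2 = 0 then blkM (kOf i) (lOf i) else blkM (kOf i) (lOf i) * pmM t01

theorem lg_diag : LG.take 5 = [7, 21, 63, 189, 81].map fun e => encM (Matrix.diagonal (fv e)) := by decide +kernel

theorem lg_perm : LG.drop 5 = [sA, sB, pa, sw, c5, c5b].map fun p => encM (pmM p) := by decide +kernel

theorem lg_even : ∀ p ∈ [sA, sB, pa, sw, c5, c5b], Equiv.Perm.sign p = 1 := by decide +kernel

theorem gk_eq : GK = [encM (Matrix.diagonal (fv 1)), encM (pmM sA), encM (pmM sB), encM (pmM c5),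
    encM (pmM c5b), encM (caseM 11)] := by decide +kernel

theorem cc_ok : ∀ i < 32, CC.getD i [] = encM (caseM i) := by decide +kernel

theorem ec_ok : ∀ i < 3, EC.getD i [] =
    encM (Matrix.diagonal (dlt i) * caseM 11 * Matrix.diagonal (dlt (2 * i))) := by decide +kernel

/-- an element of order eleven modulo scalars -/
def elevenOK (gs : List (List ℕ)) (st pw : List (ℕ × List ℕ)) : Bool :=
  chainOK gs oneL st && chainOK [chainEnd oneL st] oneL pw && (pw.length == 11) &&
    ([F4.i, F4.w, F4.v].any fun c => chainEnd oneL pw == encM (scal c)) &&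
    !([F4.i, F4.w, F4.v].any fun c => chainEnd oneL st == encM (scal c))

theorem bad_ok : (badD.all fun x => elevenOK (LG ++ [CC.getD x.1 []]) x.2.1 x.2.2) = true := by decide +kernel

theorem good_ok : (goodD.all fun x =>
    decide (x.2.1 < 3) && reach (LG ++ [CC.getD x.1 []]) x.2.2 (EC.getD x.2.1 [])) = true := by decide +kernel

theorem odd_ok : (oddD.all fun x =>
    decide (x.1 % 2 = 0 ∧ x.1 + 1 ∈ goodD.map Prod.fst) &&
      reach (LG ++ [CC.getD x.1 []]) x.2 (encM (pmM t01))) = true := by decide +kernel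

theorem cases_cover : ∀ i < 32, 2 ≤ i →
    i ∈ badD.map Prod.fst ∨ i ∈ goodD.map Prod.fst ∨ i ∈ oddD.map Prod.fst := by decide +kernel

theorem norm_ok : ∀ i < 3, reach (LG ++ [EC.getD i []]) (normD.getD i [])
    (mulL (mulL (encM (pmM t01)) (EC.getD i [])) (encM (pmM t01))) = true := by decide +kernel

theorem pair_ok : (pairD.all fun x =>
    elevenOK (LG ++ [EC.getD x.1 [], EC.getD x.2.1 []]) x.2.2.1 x.2.2.2) = true := by decide +kernel

theorem pair_cover : ∀ i j : Fin 3, i < j → (i.val, j.val) ∈ pairD.map fun x => (x.1, x.2.1) := by decide +kernel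

/-! ### The reference group -/

/-- one coset representative -/
def cosOK (n : ℕ) : Bool :=
  let x := cosD.getD n (0, 0, [])
  if n = 0 then x.2.2 == oneL
  else decide (x.1 < n ∧ x.2.1 < 6) && (mulL (GK.getD x.2.1 []) (cosD.getD x.1 (0, 0, [])).2.2 == x.2.2)

theorem cos_ok : ∀ n < 112, cosOK n = true := by decide +kernel

/-- the multiples of the columns -/
def keyOf (l : List ℕ) : ℕ :=
  ([0, 1, 2, 3, 4, 5] : List (Fin 6)).foldl
    (fun m j => [F4.i, F4.w, F4.v].foldl (fun m c => m ||| 2 ^ SUSix.code (c • fun i => matL l i j)) m) 0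

/-- the keys of the representatives -/
def cosKeys : List ℕ := cosD.map fun x => keyOf x.2.2

theorem cos_keys : cosKeys.Nodup := by decide +kernel

theorem cos_len : cosD.length = 112 := by decide +kernel

/-- value of a coded permutation -/
def pc (k i : ℕ) : ℕ := k / 6 ^ i % 6

/-- the generators of the even permutations -/
def permG : List (Equiv.Perm (Fin 6)) := [c5, c5b, sA, sB]

/-- one even permutation -/
def permOK (n : ℕ) : Bool :=
  let x := permD.getD n (0, 0, 0)
  decide (∀ j : Fin 6, if n = 0 then pc x.2.2 j = j else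
    x.1 < n ∧ x.2.1 < 4 ∧ pc x.2.2 j = pc (permD.getD x.1 (0, 0, 0)).2.2 ((permG.getD x.2.1 1 j) : Fin 6))

theorem perm_ok : ∀ n < 360, permOK n = true := by decide +kernel

theorem perm_nodup : (permD.map fun x => x.2.2).Nodup := by decide +kernel

theorem perm_len : permD.length = 360 ∧ ∀ x ∈ permD, x.2.2 < 6 ^ 6 := by decide +kernel

/-- table of an image -/
def upv (s x : ℕ) : ℕ := fld (upT.getD s 0) 16 x

/-- one image of a point -/
def upOK (s x : ℕ) : Bool := actN (matL (GK.getD s [])) x == upv s x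

theorem up_ok : ∀ s < 6, rangeOK (upOK s) 0 693 = true := by decide +kernel

/-- renumbered point set -/
def famP (i : ℕ) : List ℕ := famD.getD (fld rhoT 16 i) []

/-- image of a renumbered point set -/
def qv (s i : ℕ) : ℕ := fld riT 16 (fld (qT.getD s 0) 16 (fld rhoT 16 i))

/-- one point set -/
def famOK (i : ℕ) : Bool :=
  decide ((famP i).length = 18 ∧ (famP i).Pairwise (· < ·) ∧ (∀ x ∈ famP i, x < 693)) &&
    (List.range 6).all fun s => decide (qv s i < 280) &&
      (famP i).all fun x => (famP (qv s i)).contains (upv s x)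

theorem fam_ok : rangeOK famOK 0 280 = true := by decide +kernel

/-- the code of a point set -/
def famK (i : ℕ) : ℕ := (famP i).foldl (fun m x => 1024 * m + x) 0

theorem fam_distinct : ((List.range 280).map famK).Nodup := by decide +kernel

/-- value of a word in packed permutations -/
def evW (T : ℕ → ℕ → ℕ) (w : List ℕ) (i : ℕ) : ℕ := w.foldr (fun s y => T s y) i

/-- value of one of the three permutations -/
def sgv (s i : ℕ) : ℕ := fld (sigT.getD s 0) 16 i

theorem wordA_ok : ∀ s < 6, ((wordA.getD s []).all fun t => decide (t < 3)) = true ∧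
    rangeOK (fun i => evW sgv (wordA.getD s []) i == qv s i) 0 280 = true := by decide +kernel

theorem wordB_ok : ∀ s < 3, ((wordB.getD s []).all fun t => decide (t < 6)) = true ∧
    rangeOK (fun i => evW qv (wordB.getD s []) i == sgv s i) 0 280 = true := by decide +kernel

theorem sig_ok : ∀ s : Fin 3, ((List.range 280).all fun i =>
    ((Local.FS.McLSmall.Unitary.sig s (Fin.ofNat 280 i)).val == sgv s i)) = true := by decide +kernel

/-- seven points isolated by point sets -/
def sepOK (x : ℕ × List ℕ) : Bool :=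
  decide (x.1 < 693 ∧ x.2 ≠ [] ∧ ∀ j ∈ x.2, j < 280) && (x.2.all fun j => (famD.getD j []).contains x.1) &&
    (famD.getD x.2.headI []).all fun y => (y == x.1) || x.2.any fun j => !(famD.getD j []).contains y

theorem sev_ok : sepD.all sepOK = true := by decide +kernel

theorem ri_ok : rangeOK (fun j => decide (fld riT 16 j < 280) && (fld rhoT 16 (fld riT 16 j) == j)) 0 280 = true := by
  decide +kernel

/-- column of the basis -/
def basV (j : Fin 6) : Fin 6 → F4 := fun i => matL basB i j

theorem bas_ok : matL basB * matL basI = 1 ∧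
    (∀ j : Fin 6, basV j = SUSix.vecOf (SUSix.pt (sepD.getD j (0, [])).1)) ∧
    ∀ j : Fin 6, (matL basI *ᵥ SUSix.vecOf (SUSix.pt (sepD.getD 6 (0, [])).1)) j ≠ 0 := by decide +kernel

end Cfsg.Agent.Spor.U43
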