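import Cfsg.Agent.Lib.Spor.MclUniqueData
import Cfsg.Agent.Lib.Spor.MclUniqueSearch
import Cfsg.Agent.Lib.Spor.U43Checks
import Cfsg.Agent.Lib.Local.FS.McLUnitaryStab

/-!
Kernel checks for the uniqueness of the McLaughlin group as a rank three group.
-/

set_option autoImplicit false
set_option maxRecDepth 100000
set_option Elab.async false

namespace Cfsg.Agent.Spor.MclUnique

open Cfsg.Agent.Local.FS.McLSmall Cfsg.Agent.Local.FS.McLSmall.Unitary

/-- a packed entry -/
def g16 (T i : ℕ) : ℕ := (T >>> (16 * i)) % 65536

/-- a generator of the point stabiliser -/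
def gp (s x : ℕ) : ℕ := Local.FS.McLSmall.nget (Cent.pe (Cent.hI.getD s 0)) x

/-- adjacency in the model -/
def adjM (u v : ℕ) : Bool := adjB (rowCodes.getD u 0) (rowCodes.getD v 0)

/-- membership in the neighbours of the base point -/
def isL (u : ℕ) : Bool := lineMask.testBit u

/-- a set of lines -/
def orbM (o i : ℕ) : ℕ := (orbD.getD o 0 >>> (275 * i)) % 2 ^ 275

/-- the candidates of the search -/
def orbF (n : ℕ) : ℕ := orbM (n / 162) (n % 162)

/-- image of an index -/
def orbI (o s i : ℕ) : ℕ := g16 (orbT.getD (3 * o + s) 0) i

/-- the vertex of an index -/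
def cv (i : ℕ) : ℕ := g16 cvT i

/-- the index of a vertex -/
def ci (u : ℕ) : ℕ := g16 cvI u

/-- the isomorphism -/
def psi (o u : ℕ) : ℕ := g16 (psiT.getD o 0) u

/-- its inverse -/
def psi' (o u : ℕ) : ℕ := g16 (psiI.getD o 0) u

/-- a generator on the vertices of an abstract graph -/
def absP (o s u : ℕ) : ℕ := bif u == base || isL u then gp s u else cv (orbI o s (ci u))

/-- value of a word in the generators -/
def gev (w : List ℕ) (u : ℕ) : ℕ := w.foldr gp u

/-- vertices -/
def vertexOK (u : ℕ) : Bool :=
  decide (u = base ∨ isL u = true ∨ (ci u < 162 ∧ cv (ci u) = u)) &&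
    !(u == base && isL u) && (adjM base u == isL u)

theorem vertex_ok : ((List.range 275).all vertexOK) = true := by decide +kernel

theorem cv_ok : ((List.range 162).all fun i => decide (cv i < 275) && (ci (cv i) == i) && !(isL (cv i)) &&
    !(cv i == base)) = true := by decide +kernel

theorem line_list : lines.length = 112 ∧ (lines.all fun l => decide (l < 275) && isL l) = true ∧
    ((List.range 275).all fun u => !isL u || lines.elem u) = true := by decide +kernel

theorem mask_small : lineMask < 2 ^ 275 := by decide +kernel

/-- one image in an orbit -/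
def orbStep (o i : ℕ) : Bool :=
  (List.range 3).all fun s => decide (orbI o s i < 162) &&
    (lines.all fun l => (orbM o (orbI o s i)).testBit (gp s l) == (orbM o i).testBit l)

theorem orb_step0a : ((List.range' 0 81).all (orbStep 0)) = true := by decide +kernel

theorem orb_step0b : ((List.range' 81 81).all (orbStep 0)) = true := by decide +kernel

theorem orb_step1a : ((List.range' 0 81).all (orbStep 1)) = true := by decide +kernel

theorem orb_step1b : ((List.range' 81 81).all (orbStep 1)) = true := by decide +kernel

theorem orb_step2a : ((List.range' 0 81).all (orbStep 2)) = true := by decide +kernel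

theorem orb_step2b : ((List.range' 81 81).all (orbStep 2)) = true := by decide +kernel

theorem orb_step3a : ((List.range' 0 81).all (orbStep 3)) = true := by decide +kernel

theorem orb_step3b : ((List.range' 81 81).all (orbStep 3)) = true := by decide +kernel

theorem orb_step {o i : ℕ} (ho : o < 4) (hi : i < 162) : orbStep o i = true := by
  rcases Nat.lt_or_ge i 81 with h | h
  · interval_cases o
    · exact List.all_eq_true.mp orb_step0a i (List.mem_range'_1.mpr ⟨by omega, by omega⟩)
    · exact List.all_eq_true.mp orb_step1a i (List.mem_range'_1.mpr ⟨by omega, by omega⟩)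
    · exact List.all_eq_true.mp orb_step2a i (List.mem_range'_1.mpr ⟨by omega, by omega⟩)
    · exact List.all_eq_true.mp orb_step3a i (List.mem_range'_1.mpr ⟨by omega, by omega⟩)
  · interval_cases o
    · exact List.all_eq_true.mp orb_step0b i (List.mem_range'_1.mpr ⟨by omega, by omega⟩)
    · exact List.all_eq_true.mp orb_step1b i (List.mem_range'_1.mpr ⟨by omega, by omega⟩)
    · exact List.all_eq_true.mp orb_step2b i (List.mem_range'_1.mpr ⟨by omega, by omega⟩)
    · exact List.all_eq_true.mp orb_step3b i (List.mem_range'_1.mpr ⟨by omega, by omega⟩)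

/-- one parent in an orbit -/
def orbPar (o i : ℕ) : Bool :=
  let q := orbP.getD (162 * o + i) (0, 0)
  i == 0 || (decide (q.1 < i ∧ q.2 < 3) && orbI o q.2 q.1 == i)

theorem orb_par : ((List.range 4).all fun o => (List.range 162).all (orbPar o)) = true := by decide +kernel

theorem orb_sub : ((List.range 648).all fun n => (orbF n &&& lineMask) == orbF n) = true := by decide +kernel

theorem orb_nodup : ((List.range 648).map orbF).Nodup := by decide +kernel

theorem tree_ok : chk orbF 648 lineMask tree 0 0 = true := by decide +kernel

theorem quadT_ok : ((List.range 280).all fun k => ([0, 1, 2, 3] : List ℕ).map (qv4 k) == quads.getD k []) = true := by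
  decide +kernel

/-- one pair in a set of four lines -/
def pairTwo (k : ℕ) : Bool :=
  let q := quads.getD k []
  decide q.Nodup && (q.all fun a => q.all fun b => a == b ||
    ((nbr.getD a 0).testBit b &&
      (nbr.getD a 0 &&& nbr.getD b 0) == Local.FS.McLSmall.Unitary.pmask ((q.filter fun c => !(c == a) && !(c == b)))))

theorem pair_two : ((List.range 280).all pairTwo) = true := by decide +kernel

/-- number of members of a mask among the lines, counted up to a bound -/
def over30 (m : ℕ) : Bool := decide (30 < (lines.filter fun l => m.testBit l).length)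

/-- an abstract adjacency at the three representatives -/
def absA (o : ℕ) : ℕ → ℕ → Bool
  | 0, v => isL v
  | 1, v => bif v == base then true else bif isL v then adjM ((lineP.getD 0 (0, 0, 0)).1) v
      else (orbM o (ci v)).testBit ((lineP.getD 0 (0, 0, 0)).1)
  | _, v => bif v == base then false else bif isL v then (orbM o 0).testBit v
      else !(v == cv 0) && !over30 (orbM o 0 &&& orbM o (ci v))

/-- a representative -/
def rep : ℕ → ℕ
  | 0 => base
  | 1 => (lineP.getD 0 (0, 0, 0)).1
  | _ => cv 0

/-- an isomorphism at the representatives -/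
def isoRow (o r : ℕ) : Bool :=
  (List.range 275).all fun v => adjM (psi o (rep r)) (psi o v) == absA o r v

theorem iso_row0 : ((List.range 3).all (isoRow 0)) = true := by decide +kernel

theorem iso_row1 : ((List.range 3).all (isoRow 1)) = true := by decide +kernel

theorem iso_row2 : ((List.range 3).all (isoRow 2)) = true := by decide +kernel

theorem iso_row3 : ((List.range 3).all (isoRow 3)) = true := by decide +kernel

theorem iso_rows {o : ℕ} (ho : o < 4) : ((List.range 3).all (isoRow o)) = true := by
  interval_cases o
  exacts [iso_row0, iso_row1, iso_row2, iso_row3]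

theorem fifty_six : ((List.range 4).all fun o => ((List.range 162).filter fun j =>
    !(j == 0) && !over30 (orbM o 0 &&& orbM o j)).length == 56) = true := by decide +kernel

theorem psi_ok : ((List.range 4).all fun o => psi o base == base && (List.range 275).all fun u =>
    decide (psi o u < 275 ∧ psi' o u < 275) && (psi o (psi' o u) == u) && (psi' o (psi o u) == u)) = true := by
  decide +kernel

/-- a conjugated generator is a word -/
def confOK (o s : ℕ) : Bool :=
  ((psiW.getD (3 * o + s) []).all fun t => decide (t < 3)) &&
    (List.range 275).all fun u => gev (psiW.getD (3 * o + s) []) (psi o u) == psi o (absP o s u)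

theorem conj_ok : ((List.range 4).all fun o => (List.range 3).all (confOK o)) = true := by decide +kernel

/-- one parent among the lines -/
def linePar (i : ℕ) : Bool :=
  let q := lineP.getD i (0, 0, 0)
  isL q.1 && (i == 0 || (decide (q.2.1 < i ∧ q.2.2 < 3) && gp q.2.2 (lineP.getD q.2.1 (0, 0, 0)).1 == q.1))

theorem line_par : ((List.range 112).all linePar) = true ∧ lineP.length = 112 ∧
    (lineP.map fun q => q.1).Nodup := by decide +kernel

/-- one parent among the sets of four lines -/
def quadPar (i : ℕ) : Bool :=
  let q := quadP.getD i (0, 0, 0)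
  decide (q.1 < 280) && (i == 0 || (decide (q.2.1 < i ∧ q.2.2 < 3) &&
    (sigma.getD q.2.2 []).getD (quadP.getD q.2.1 (0, 0, 0)).1 0 == q.1))

theorem quad_par : ((List.range 280).all quadPar) = true ∧ quadP.length = 280 ∧
    (quadP.map fun q => q.1).Nodup := by decide +kernel

/-- action of a member of the 3-group on the lines -/
def pL (s x : ℕ) : ℕ := gev (U43.wordA.getD s []) x

/-- one parent in an orbit of the 3-group -/
def partOK (f : ℕ → ℕ → ℕ) (l : List (ℕ × ℕ × ℕ)) : Bool :=
  (List.range l.length).all fun i =>
    let q := l.getD i (0, 0, 0)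
    i == 0 || (decide (q.2.1 < i ∧ q.2.2 < 3) && f q.2.2 (l.getD q.2.1 (0, 0, 0)).1 == q.1)

/-- the mask of an orbit -/
def partMask (l : List (ℕ × ℕ × ℕ)) : ℕ := Local.FS.McLSmall.Unitary.pmask (l.map fun q => q.1)

theorem line_parts : (lineOrb.all (partOK pL)) = true ∧
    lineOrb.map (fun l => l.length) = [1, 3, 27, 81] ∧
    (lineOrb.flatMap fun l => l.map fun q => q.1).Nodup ∧
    (lineOrb.getD 0 []).map (fun q => q.1) = [(lineP.getD 0 (0, 0, 0)).1] ∧
    ((List.range 3).all fun s => pL s (lineP.getD 0 (0, 0, 0)).1 == (lineP.getD 0 (0, 0, 0)).1) = true ∧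
    (lineOrb.all fun l => l.all fun q => isL q.1) = true := by decide +kernel

theorem meet_row : (lines.all fun v => adjM (lineP.getD 0 (0, 0, 0)).1 v ==
    (partMask (lineOrb.getD 1 []) ||| partMask (lineOrb.getD 2 [])).testBit v) = true := by decide +kernel

theorem quad_parts : (quadOrb.all (partOK U43.qv)) = true ∧
    quadOrb.map (fun l => l.length) = [1, 9, 27, 243] ∧
    (quadOrb.flatMap fun l => l.map fun q => q.1).Nodup ∧
    (quadOrb.all fun l => l.all fun q => decide (q.1 < 280)) = true ∧
    ((List.range 3).all fun s => U43.qv s ((quadOrb.getD 0 []).getD 0 (0, 0, 0)).1 ==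
      ((quadOrb.getD 0 []).getD 0 (0, 0, 0)).1) = true := by decide +kernel

/-- the quads of the first line -/
def l0quads : List ℕ := ((quadOrb.getD 0 []) ++ (quadOrb.getD 1 [])).map fun q => q.1

theorem first_line : (l0quads.all fun k => (quads.getD k []).elem (lineP.getD 0 (0, 0, 0)).1) = true ∧
    ((List.range 275).all fun u => u == (lineP.getD 0 (0, 0, 0)).1 ||
      l0quads.any fun k => !(quads.getD k []).elem u) = true := by decide +kernel

theorem sig_eq : ((List.range 3).all fun s => (List.range 280).all fun i =>
    (sigma.getD s []).getD i 0 % 280 == U43.sgv s i) = true := by decide +kernel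

/-! ### A base of the model graph -/

/-- a base vertex -/
def bv (i : ℕ) : ℕ := baseV.getD i 0

/-- candidates at a level of the base -/
def cands (i : ℕ) : List ℕ :=
  (List.range 275).filter fun v => (List.range i).all fun k =>
    !(v == bv k) && (adjM (bv k) v == adjM (bv k) (bv i))

/-- the pattern of a vertex -/
def patt (v : ℕ) : ℕ :=
  (List.range 15).foldl (fun m k => 4 * m + (bif adjM (bv k) v then 1 else 0) + (bif v == bv k then 2 else 0)) 0

theorem base_counts : baseV.length = 15 ∧ ((List.range 15).all fun i => decide (bv i < 275)) = true ∧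
    baseV.Nodup ∧ ((List.range 15).all fun i => decide ((cands i).length ≤ baseC.getD i 0)) = true ∧
    ((List.range 15).map fun i => baseC.getD i 0).prod < 275 * 898128000 := by decide +kernel

theorem base_patt : ((List.range 275).map patt).Nodup := by decide +kernel

end Cfsg.Agent.Spor.MclUnique
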