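import Cfsg.Agent.Lib.Spor.MclUniqueLines

/-!
The points far from the base point are the sets of lines found by the search.
-/

set_option autoImplicit false
set_option maxRecDepth 100000

namespace Cfsg.Agent.Spor.MclUnique

open Equiv
attribute [local instance] Classical.propDecidable
open Cfsg.Agent.Local.FS.McLSmall (K act)
open Cfsg.Agent.Local.FS.McLSmall.Unitary (Gx mem_Gx xB xB_val lines quads nbr nbr_bit)

theorem lines_nodup : lines.Nodup := by decide +kernel

attribute [local irreducible] gp Local.FS.McLSmall.Cent.pe Local.FS.McLSmall.nget isL adjM psi orbI cv ci pL orbM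
  qv4 orbF

theorem isL_mask (u : ℕ) : lineMask.testBit u = isL u := by rw [isL]

theorem mask_line {o i v : ℕ} (ho : o < 4) (hi : i < 162) (h : (orbM o i).testBit v = true) : isL v = true := by
  have hn : 162 * o + i < 648 := by omega
  have e : orbF (162 * o + i) = orbM o i := by
    rw [orbF, show (162 * o + i) / 162 = o by omega, show (162 * o + i) % 162 = i by omega]
  have hs := List.all_eq_true.mp orb_sub _ (List.mem_range.mpr hn)
  rw [e, beq_iff_eq] at hs
  rw [← hs, Nat.testBit_and, Bool.and_eq_true, isL_mask] at h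
  exact h.2

theorem mask_inj {o i j : ℕ} (ho : o < 4) (hi : i < 162) (hj : j < 162)
    (h : ∀ v : Fin 275, isL v = true → (orbM o i).testBit v = (orbM o j).testBit v) : i = j := by
  have e : orbM o i = orbM o j := Nat.eq_of_testBit_eq fun v => by
    by_cases hv : isL v = true
    · exact h ⟨v, isL_lt hv⟩ hv
    · rw [Bool.eq_false_iff.mpr fun hc => hv (mask_line ho hi hc),
        Bool.eq_false_iff.mpr fun hc => hv (mask_line ho hj hc)]
  have e' : orbF (162 * o + i) = orbF (162 * o + j) := by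
    rw [orbF, orbF, show (162 * o + i) / 162 = o by omega, show (162 * o + i) % 162 = i by omega,
      show (162 * o + j) / 162 = o by omega, show (162 * o + j) % 162 = j by omega]
    exact e
  have := orb_nodup.getElem_inj_iff (i := 162 * o + i) (j := 162 * o + j)
    (hi := by rw [List.length_map, List.length_range]; omega)
    (hj := by rw [List.length_map, List.length_range]; omega)
  rw [List.getElem_map, List.getElem_map, List.getElem_range, List.getElem_range] at this
  have := this.mp e'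
  omega

theorem mask_step (s : Fin 3) {o i : ℕ} (ho : o < 4) (hi : i < 162) :
    orbI o s i < 162 ∧ ∀ v : Fin 275, isL v = true →
      (orbM o (orbI o s i)).testBit (act (gG s).1 v) = (orbM o i).testBit v := by
  have h := List.all_eq_true.mp (orb_step ho hi) s.val (List.mem_range.mpr s.2)
  simp only [Bool.and_eq_true, decide_eq_true_eq] at h
  refine ⟨h.1, fun v hv => ?_⟩
  have hvl : (v : ℕ) ∈ lines := by
    have := List.all_eq_true.mp line_list.2.2 v (List.mem_range.mpr v.2)
    rw [hv, Bool.not_true, Bool.false_or] at this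
    simpa using this
  rw [gG_val]
  exact beq_iff_eq.mp (List.all_eq_true.mp h.2 v hvl)

theorem mask_reach {o : ℕ} (ho : o < 4) : ∀ i, i < 162 → ∃ g : Gx, ∀ v : Fin 275, isL v = true →
    (orbM o i).testBit (act g.1 v) = (orbM o 0).testBit v := by
  intro i
  induction i using Nat.strong_induction_on with
  | _ i ih =>
    intro hi
    rcases eq_or_ne i 0 with rfl | h0
    · exact ⟨1, fun v _ => by rw [OneMemClass.coe_one, map_one, Equiv.Perm.one_apply]⟩
    have h := List.all_eq_true.mp (List.all_eq_true.mp orb_par o (List.mem_range.mpr ho)) i (List.mem_range.mpr hi)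
    simp only [orbPar, Bool.and_eq_true, Bool.or_eq_true, decide_eq_true_eq, beq_iff_eq] at h
    rcases h with h | ⟨⟨h1, h2⟩, h3⟩
    · exact absurd h h0
    obtain ⟨g, hg⟩ := ih _ h1 (h1.trans hi)
    refine ⟨gG ⟨_, h2⟩ * g, fun v hv => ?_⟩
    have h4 := (mask_step ⟨_, h2⟩ ho (h1.trans hi)).2 (act g.1 v) ((isL_act g).mpr hv)
    rw [show orbI o ((⟨_, h2⟩ : Fin 3) : ℕ) (orbP.getD (162 * o + i) (0, 0)).1 = i from h3] at h4
    rw [Subgroup.coe_mul, map_mul, Equiv.Perm.mul_apply, h4, hg v hv]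

namespace Ctx

noncomputable section

variable {Ω : Type*} [Fintype Ω] [DecidableEq Ω] (C : Ctx Ω)

/-- the lines adjacent to a point -/
def chi (y : Ω) (v : ℕ) : Bool := decide (∃ h : v < 275, isL v = true ∧ C.S.Adj y (C.f ⟨v, h⟩))

theorem chi_line (y : Ω) {v : Fin 275} (hv : isL v = true) : C.chi y v = true ↔ C.S.Adj y (C.f v) := by
  simp only [chi, decide_eq_true_eq]
  exact ⟨fun ⟨_, _, h⟩ => h, fun h => ⟨v.2, hv, h⟩⟩

theorem chi_out (y : Ω) {v : ℕ} (hv : ¬ isL v = true) : C.chi y v = false := by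
  simp only [chi, decide_eq_false_iff_not]
  exact fun ⟨_, h, _⟩ => hv h

theorem chi_sm (g : Gx) (y : Ω) {v : Fin 275} (hv : isL v = true) : C.chi (C.sm g y) (act g.1 v : ℕ) = C.chi y v := by
  rw [Bool.eq_iff_iff, C.chi_line _ ((isL_act g).mpr hv), C.chi_line _ hv, C.f_act g hv, adj_sm]

theorem card_common {u v : Fin 275} (hu : isL u = true) (hv : isL v = true) (huv : MA u v)
    (h2 : (LF.filter fun l => MA u l ∧ MA v l).card = 2) :
    (C.S.fC.filter fun y => C.S.Adj y (C.f u) ∧ C.S.Adj y (C.f v)).card = 27 := by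
  classical
  have hadj := (C.adj_f hu hv).mpr huv
  have h30 := C.S.common hadj
  rw [C.bp_row.2] at h30
  have e : C.S.N (C.f u) ∩ C.S.N (C.f v) = insert C.S.a ((C.S.fB.filter fun y => C.S.Adj (C.f u) y ∧ C.S.Adj (C.f v) y) ∪
      (C.S.fC.filter fun y => C.S.Adj y (C.f u) ∧ C.S.Adj y (C.f v))) := by
    ext z
    simp only [Finset.mem_inter, Setting.mem_N, Finset.mem_insert, Finset.mem_union, Finset.mem_filter, Setting.mem_fB,
      Setting.mem_fC]
    constructor
    · rintro ⟨h1, h2⟩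
      rcases C.S.cover z with rfl | h | h
      · exact Or.inl rfl
      · exact Or.inr (Or.inl ⟨h, h1, h2⟩)
      · exact Or.inr (Or.inr ⟨h, C.S.adj_symm h1, C.S.adj_symm h2⟩)
    · rintro (rfl | ⟨-, h⟩ | ⟨-, h1, h2⟩)
      · exact ⟨C.S.adj_symm ((C.S.adj_a _).mpr (C.f_oB hu)), C.S.adj_symm ((C.S.adj_a _).mpr (C.f_oB hv))⟩
      · exact h
      · exact ⟨C.S.adj_symm h1, C.S.adj_symm h2⟩
  rw [e, Finset.card_insert_of_notMem, Finset.card_union_of_disjoint, C.card_B] at h30
  · have : (LF.filter fun l => C.S.Adj (C.f u) (C.f l) ∧ C.S.Adj (C.f v) (C.f l)) =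
        LF.filter fun l => MA u l ∧ MA v l := Finset.filter_congr fun l hl => by
      have hl' : isL l = true := (Finset.mem_filter.mp hl).2
      rw [C.adj_f hu hl', C.adj_f hv hl']
    rw [this, h2] at h30
    omega
  · exact Finset.disjoint_left.mpr fun z hz hz' => C.S.not_both (C.S.mem_fB.mp (Finset.mem_filter.mp hz).1)
      (C.S.mem_fC.mp (Finset.mem_filter.mp hz').1)
  · simp only [Finset.mem_union, Finset.mem_filter, Setting.mem_fB, Setting.mem_fC]
    rintro (⟨h, -⟩ | ⟨h, -⟩)
    · exact C.S.a_not_oB h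
    · exact C.S.a_not_oC h

theorem card_line_C {u : Fin 275} (hu : isL u = true) : (C.S.fC.filter fun y => C.S.Adj y (C.f u)).card = 81 := by
  classical
  have e : (C.S.fC.filter fun y => C.S.Adj y (C.f u)) = C.S.inC (C.f u) := by
    ext z
    simp only [Finset.mem_filter, Setting.inC, Finset.mem_inter, Setting.mem_N]
    exact ⟨fun h => ⟨C.S.adj_symm h.2, h.1⟩, fun h => ⟨h.2, C.S.adj_symm h.1⟩⟩
  have h1 := C.S.split_B (C.f_oB hu)
  have h2 := C.S.inB_const_B (C.f_oB hu) (MulAction.mem_orbit_self _ : C.S.b ∈ C.S.oB)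
  rw [C.bp_row.2] at h2
  rw [e]
  omega

/-- members of a set of four lines -/
theorem quad_facts (k : ℕ) (hk : k < 280) : ∃ q : Fin 4 → Fin 275, (∀ i : Fin 4, qv4 k i = q i) ∧
    Function.Injective q ∧ (∀ i, isL (q i) = true) ∧
    ∀ i j, i ≠ j → MA (q i) (q j) ∧ (LF.filter fun l => MA (q i) l ∧ MA (q j) l).card = 2 := by
  classical
  have hQ := beq_iff_eq.mp (List.all_eq_true.mp quadT_ok k (List.mem_range.mpr hk))
  have hP := List.all_eq_true.mp pair_two k (List.mem_range.mpr hk)
  simp only [pairTwo, Bool.and_eq_true, decide_eq_true_eq] at hP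
  obtain ⟨hnd, hP⟩ := hP
  have hlt : ∀ x ∈ quads.getD k [], x < 275 := fun x hx => by
    simpa using List.all_eq_true.mp (List.all_eq_true.mp Local.FS.McLSmall.Unitary.quads_ok.2 _
      (Local.FS.McLSmall.Unitary.qms_get ⟨k, hk⟩).2.2) x hx
  have hmem : ∀ i : Fin 4, qv4 k i ∈ quads.getD k [] := fun i => by
    rw [← hQ]
    exact List.mem_map.mpr ⟨i.val, by fin_cases i <;> simp, rfl⟩
  let q : Fin 4 → Fin 275 := fun i => ⟨qv4 k i, hlt _ (hmem i)⟩
  have hinj : Function.Injective q := fun i j e => by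
    have e' : qv4 k i = qv4 k j := congrArg Fin.val e
    rw [← hQ] at hnd
    exact Fin.ext (List.inj_on_of_nodup_map hnd (by fin_cases i <;> simp) (by fin_cases j <;> simp) e')
  have hpair : ∀ i j, i ≠ j → (nbr.getD (q i) 0).testBit (q j) = true ∧
      (nbr.getD (q i) 0 &&& nbr.getD (q j) 0) = Local.FS.McLSmall.Unitary.pmask
        ((quads.getD k []).filter fun c => !(c == (q i : ℕ)) && !(c == (q j : ℕ))) := fun i j hij => by
    have h := List.all_eq_true.mp (List.all_eq_true.mp hP _ (hmem i)) _ (hmem j)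
    simp only [Bool.or_eq_true, beq_iff_eq, Bool.and_eq_true] at h
    rcases h with h | h
    · exact absurd (hinj (Fin.ext h)) hij
    · exact h
  have hisL : ∀ i, isL (q i) = true := fun i => by
    obtain ⟨j, hj⟩ : ∃ j, j ≠ i := exists_ne i
    obtain ⟨h, -, hx⟩ := (nbr_bit (q j) (q i)).mp (hpair j i hj).1
    exact (adj_base _).mp hx
  refine ⟨q, fun i => rfl, hinj, hisL, fun i j hij => ⟨?_, ?_⟩⟩
  · exact ((nbr_bit (q i) (q j)).mp (hpair i j hij).1).2.1
  have e : (LF.filter fun l => MA (q i) l ∧ MA (q j) l).map Fin.valEmbedding =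
      (((quads.getD k []).toFinset.erase (q i : ℕ)).erase (q j : ℕ)) := by
    ext x
    simp only [Finset.mem_map, Finset.mem_filter, LF, Finset.mem_univ, true_and, Fin.valEmbedding_apply,
      Finset.mem_erase, List.mem_toFinset]
    have hx : ∀ hx : x < 275, (isL x = true ∧ MA (q i) ⟨x, hx⟩ ∧ MA (q j) ⟨x, hx⟩) ↔
        (x ∈ quads.getD k [] ∧ x ≠ q i ∧ x ≠ q j) := fun hx => by
      have h : (nbr.getD (q i) 0 &&& nbr.getD (q j) 0).testBit x = true ↔ (Local.FS.McLSmall.Unitary.pmask
          ((quads.getD k []).filter fun c => !(c == (q i : ℕ)) && !(c == (q j : ℕ)))).testBit x = true := by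
        rw [(hpair i j hij).2]
      rw [Nat.testBit_and, Bool.and_eq_true, Local.FS.McLSmall.Unitary.testBit_pmask, nbr_bit, nbr_bit, List.mem_filter] at h
      simp only [Bool.and_eq_true, Bool.not_eq_true', beq_eq_false_iff_ne] at h
      rw [← h, ← adj_base ⟨x, hx⟩]
      exact ⟨fun ⟨a, b, c⟩ => ⟨⟨hx, b, a⟩, hx, c, a⟩, fun ⟨⟨_, b, a⟩, _, c, _⟩ => ⟨a, b, c⟩⟩
    constructor
    · rintro ⟨l, ⟨a, b, c⟩, rfl⟩
      obtain ⟨d, e, f⟩ := (hx l.2).mp ⟨a, b, c⟩
      exact ⟨f, e, d⟩
    · rintro ⟨f, e, d⟩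
      obtain ⟨a, b, c⟩ := (hx (hlt x d)).mpr ⟨d, e, f⟩
      exact ⟨⟨x, hlt x d⟩, ⟨a, b, c⟩, rfl⟩
  have hc := congrArg Finset.card e
  rw [Finset.card_map, Finset.card_erase_of_mem, Finset.card_erase_of_mem, List.toFinset_card_of_nodup hnd] at hc
  · rw [hc, ← hQ]
    rfl
  · exact List.mem_toFinset.mpr (hmem i)
  · exact Finset.mem_erase.mpr ⟨fun h => hij (hinj (Fin.ext h)).symm, List.mem_toFinset.mpr (hmem j)⟩

theorem two {y : Ω} (hy : y ∈ C.S.oC) : Two (C.chi y) := by
  classical
  intro k hk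
  obtain ⟨q, hqv, hinj, hL, hpq⟩ := quad_facts k hk
  let x : Ω → ℕ := fun z => ∑ i : Fin 4, if C.S.Adj z (C.f (q i)) then 1 else 0
  have h1 : ∑ z ∈ C.S.fC, x z = 324 := by
    simp only [x]
    rw [Finset.sum_comm, Finset.sum_congr rfl fun i _ => by rw [← Finset.card_filter, C.card_line_C (hL i)]]
    simp
  have h2 : ∑ z ∈ C.S.fC, x z * x z = 648 := by
    have e : ∀ z, x z * x z = ∑ i : Fin 4, ∑ j : Fin 4,
        if C.S.Adj z (C.f (q i)) ∧ C.S.Adj z (C.f (q j)) then 1 else 0 := fun z => by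
      simp only [x]
      rw [Finset.sum_mul_sum]
      refine Finset.sum_congr rfl fun i _ => Finset.sum_congr rfl fun j _ => ?_
      by_cases hi : C.S.Adj z (C.f (q i)) <;> by_cases hj : C.S.Adj z (C.f (q j)) <;> simp [hi, hj]
    rw [Finset.sum_congr rfl fun z _ => e z, Finset.sum_comm,
      Finset.sum_congr rfl fun i _ => Finset.sum_comm]
    have hterm : ∀ i j : Fin 4, (∑ z ∈ C.S.fC, if C.S.Adj z (C.f (q i)) ∧ C.S.Adj z (C.f (q j)) then 1 else 0) =
        if i = j then 81 else 27 := fun i j => by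
      rw [← Finset.card_filter]
      split_ifs with h
      · subst h
        simp only [and_self]
        exact C.card_line_C (hL i)
      · exact C.card_common (hL i) (hL j) (hpq i j h).1 (hpq i j h).2
    simp only [hterm]
    decide
  have h0 : ∑ z ∈ C.S.fC, ((x z : ℤ) - 2) * ((x z : ℤ) - 2) = 0 := by
    have a1 := congrArg Nat.cast h1 (α := ℕ) (β := ℤ)
    have a2 := congrArg Nat.cast h2 (α := ℕ) (β := ℤ)
    push_cast at a1 a2
    rw [Finset.sum_congr rfl fun z _ => show ((x z : ℤ) - 2) * ((x z : ℤ) - 2) = (x z : ℤ) * x z - 4 * x z + 4 by ring,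
      Finset.sum_add_distrib, Finset.sum_sub_distrib, ← Finset.mul_sum, a1, a2, Finset.sum_const, C.S.card_fC]
    norm_num
  have hxy : x y = 2 := by
    have := (Finset.sum_eq_zero_iff_of_nonneg fun z _ => mul_self_nonneg _).mp h0 y (C.S.mem_fC.mpr hy)
    rw [mul_self_eq_zero, sub_eq_zero] at this
    exact_mod_cast this
  have hb : ∀ i : Fin 4, (C.chi y (qv4 k i)).toNat = if C.S.Adj y (C.f (q i)) then 1 else 0 := fun i => by
    rw [hqv i]
    by_cases h : C.S.Adj y (C.f (q i))
    · rw [(C.chi_line y (hL i)).mpr h, if_pos h]; rfl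
    · rw [Bool.eq_false_iff.mpr fun hc => h ((C.chi_line y (hL i)).mp hc), if_neg h]; rfl
  have := hb 0; have := hb 1; have := hb 2; have := hb 3
  simp only [x, Fin.sum_univ_four] at hxy
  simp only [Fin.val_zero, Fin.val_one, Fin.val_two] at *
  rw [show ((3 : Fin 4) : ℕ) = 3 from rfl] at *
  omega

/-- the adjacent lines form a given set -/
def Has (o : ℕ) (y : Ω) (i : ℕ) : Prop := ∀ v : Fin 275, isL v = true → C.chi y v = (orbM o i).testBit v

theorem Has.unique {o i j : ℕ} {y : Ω} (ho : o < 4) (hi : i < 162) (hj : j < 162) (h : C.Has o y i)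
    (h' : C.Has o y j) : i = j :=
  mask_inj ho hi hj fun v hv => (h v hv).symm.trans (h' v hv)

theorem exists_root : ∃ o, o < 4 ∧ ∃ r ∈ C.S.oC, C.Has o r 0 := by
  have hc : C.S.c ∈ C.S.oC := MulAction.mem_orbit_self _
  obtain ⟨n, hn, h⟩ := chk_sound (C.two hc) tree 0 0 tree_ok ⟨fun v hv => by simp at hv, fun v hv => by simp at hv⟩
  refine ⟨n / 162, by omega, ?_⟩
  obtain ⟨g, hg⟩ := mask_reach (o := n / 162) (by omega) (n % 162) (by omega)
  refine ⟨C.sm g⁻¹ C.S.c, C.sm_oC _ hc, fun v hv => ?_⟩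
  have h1 := h (act g.1 v) (by rw [isL_mask]; exact (isL_act g).mpr hv)
  rw [orbF, hg v hv] at h1
  rw [← h1, ← C.chi_sm g _ hv, ← sm_mul, mul_inv_cancel, sm_one]

/-- the number of the search result -/
def o : ℕ := C.exists_root.choose

theorem o_lt : C.o < 4 := C.exists_root.choose_spec.1

/-- the point with the first set -/
def root : Ω := C.exists_root.choose_spec.2.choose

theorem root_oC : C.root ∈ C.S.oC := C.exists_root.choose_spec.2.choose_spec.1

theorem root_has : C.Has C.o C.root 0 := C.exists_root.choose_spec.2.choose_spec.2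

theorem has_sm {g : Gx} {y : Ω} {i j : ℕ} (h : C.Has C.o y i)
    (hg : ∀ v : Fin 275, isL v = true → (orbM C.o j).testBit (act g.1 v) = (orbM C.o i).testBit v) :
    C.Has C.o (C.sm g y) j := by
  intro v hv
  obtain ⟨u, rfl⟩ := (act g.1).surjective v
  have hu := (isL_act g).mp hv
  rw [C.chi_sm g y hu, h u hu, hg u hu]

/-- the mover of the root -/
def cg (i : Fin 162) : Gx := (mask_reach C.o_lt i i.2).choose

/-- the points far from the base point -/
def cpt (i : Fin 162) : Ω := C.sm (C.cg i) C.root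

theorem cpt_oC (i : Fin 162) : C.cpt i ∈ C.S.oC := C.sm_oC _ C.root_oC

theorem cpt_has (i : Fin 162) : C.Has C.o (C.cpt i) i := C.has_sm C.root_has (mask_reach C.o_lt i i.2).choose_spec

theorem cpt_inj : Function.Injective C.cpt := fun i j e =>
  Fin.ext (Has.unique C C.o_lt i.2 j.2 (C.cpt_has i) (e ▸ C.cpt_has j))

theorem fC_eq : (Finset.univ : Finset (Fin 162)).image C.cpt = C.S.fC := by
  refine Finset.eq_of_subset_of_card_le (fun y hy => ?_) ?_
  · obtain ⟨i, -, rfl⟩ := Finset.mem_image.mp hy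
    exact C.S.mem_fC.mpr (C.cpt_oC i)
  · rw [Finset.card_image_of_injective _ C.cpt_inj, C.S.card_fC]
    simp

theorem cpt_surj {y : Ω} (hy : y ∈ C.S.oC) : ∃ i, C.cpt i = y := by
  have := C.S.mem_fC.mpr hy
  rw [← C.fC_eq, Finset.mem_image] at this
  obtain ⟨i, -, e⟩ := this
  exact ⟨i, e⟩

theorem eq_cpt {y : Ω} (hy : y ∈ C.S.oC) (i : Fin 162) (h : C.Has C.o y i) : y = C.cpt i := by
  obtain ⟨j, rfl⟩ := C.cpt_surj hy
  rw [Fin.ext (Has.unique C C.o_lt j.2 i.2 (C.cpt_has j) h)]

theorem sm_gG_cpt (s : Fin 3) (i : Fin 162) :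
    C.sm (gG s) (C.cpt i) = C.cpt ⟨orbI C.o s i, (mask_step s C.o_lt i.2).1⟩ :=
  C.eq_cpt (C.sm_oC _ (C.cpt_oC i)) _ (C.has_sm (C.cpt_has i) (mask_step s C.o_lt i.2).2)

theorem cpt_zero : C.cpt 0 = C.root := (C.eq_cpt C.root_oC 0 C.root_has).symm

theorem adj_cpt (i : Fin 162) {v : Fin 275} (hv : isL v = true) :
    C.S.Adj (C.cpt i) (C.f v) ↔ (orbM C.o i).testBit v = true := by
  rw [← C.cpt_has i v hv, C.chi_line _ hv]

theorem adj_root (j : Fin 162) :
    C.S.Adj (C.cpt 0) (C.cpt j) ↔ (!(j.val == 0) && !over30 (orbM C.o 0 &&& orbM C.o j)) = true := by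
  classical
  set A := (Finset.univ : Finset (Fin 162)).filter fun j => C.S.Adj (C.cpt 0) (C.cpt j) with hA
  set B := (Finset.univ : Finset (Fin 162)).filter fun j : Fin 162 =>
    (!(j.val == 0) && !over30 (orbM C.o 0 &&& orbM C.o j)) = true with hB
  have hsub : A ⊆ B := fun j hj => by
    simp only [hA, hB, Finset.mem_filter, Finset.mem_univ, true_and, Bool.and_eq_true, Bool.not_eq_true',
      beq_eq_false_iff_ne] at hj ⊢
    refine ⟨fun e => ?_, ?_⟩
    · rw [show j = 0 from Fin.ext e] at hj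
      exact C.S.adj_irrefl _ hj
    · rw [over30, decide_eq_false_iff_not, not_lt]
      have h30 := C.S.common hj
      rw [C.bp_row.2] at h30
      refine le_of_le_of_eq ?_ h30
      rw [← List.toFinset_card_of_nodup (lines_nodup.filter _)]
      refine Finset.card_le_card_of_injOn (fun v => C.f (Fin.ofNat 275 v)) (fun v hv => ?_) (fun v hv w hw e => ?_)
      · rw [Finset.mem_coe, List.mem_toFinset, List.mem_filter, Nat.testBit_and, Bool.and_eq_true] at hv
        have hl := List.all_eq_true.mp line_list.2.1 v hv.1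
        simp only [Bool.and_eq_true, decide_eq_true_eq] at hl
        have he : ((Fin.ofNat 275 v : Fin 275) : ℕ) = v := Nat.mod_eq_of_lt hl.1
        have hL : isL ((Fin.ofNat 275 v : Fin 275) : ℕ) = true := he.symm ▸ hl.2
        rw [Finset.mem_coe, Finset.mem_inter, C.S.mem_N, C.S.mem_N, C.adj_cpt _ hL, C.adj_cpt _ hL, he]
        exact hv.2
      · rw [Finset.mem_coe, List.mem_toFinset, List.mem_filter] at hv hw
        have hl := List.all_eq_true.mp line_list.2.1 v hv.1
        have hl' := List.all_eq_true.mp line_list.2.1 w hw.1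
        simp only [Bool.and_eq_true, decide_eq_true_eq] at hl hl'
        have he : ((Fin.ofNat 275 v : Fin 275) : ℕ) = v := Nat.mod_eq_of_lt hl.1
        have he' : ((Fin.ofNat 275 w : Fin 275) : ℕ) = w := Nat.mod_eq_of_lt hl'.1
        have := congrArg Fin.val (C.f_inj (he.symm ▸ hl.2) (he'.symm ▸ hl'.2) e)
        rwa [he, he'] at this
  have hAc : A.card = 56 := by
    have h1 := C.S.split_C (C.cpt_oC 0)
    have h2 := C.S.inB_const_C (C.cpt_oC 0) (MulAction.mem_orbit_self _ : C.S.c ∈ C.S.oC)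
    rw [C.k_eq] at h2
    have h3 : A.card = (C.S.inC (C.cpt 0)).card := by
      refine Finset.card_bij (fun j _ => C.cpt j) (fun j hj => ?_) (fun _ _ _ _ e => C.cpt_inj e) (fun y hy => ?_)
      · simp only [hA, Finset.mem_filter, Finset.mem_univ, true_and] at hj
        exact Finset.mem_inter.mpr ⟨C.S.mem_N.mpr hj, C.S.mem_fC.mpr (C.cpt_oC j)⟩
      · rw [Setting.inC, Finset.mem_inter, C.S.mem_N, C.S.mem_fC] at hy
        obtain ⟨j, rfl⟩ := C.cpt_surj hy.2
        exact ⟨j, by simp [hA, hy.1], rfl⟩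
    omega
  have hBc : B.card = 56 := by
    have h := beq_iff_eq.mp (List.all_eq_true.mp fifty_six C.o (List.mem_range.mpr C.o_lt))
    rw [← h, ← List.toFinset_card_of_nodup ((List.nodup_range).filter _), ← Finset.card_map Fin.valEmbedding]
    congr 1
    ext x
    simp only [hB, Finset.mem_map, Finset.mem_filter, Finset.mem_univ, true_and, Fin.valEmbedding_apply,
      List.mem_toFinset, List.mem_filter, List.mem_range]
    exact ⟨fun ⟨j, hj, e⟩ => e ▸ ⟨j.2, hj⟩, fun ⟨hx, hh⟩ => ⟨⟨x, hx⟩, hh, rfl⟩⟩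
  have heq : A = B := Finset.eq_of_subset_of_card_le hsub (by omega)
  have := congrArg (fun s : Finset (Fin 162) => j ∈ s) heq
  simpa [hA, hB] using this

end

end Ctx

end Cfsg.Agent.Spor.MclUnique
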