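import Mathlib

/-!
The orbital graph of valency 112 of a transitive group on 275 points whose point stabiliser has
orbits of sizes 1, 112 and 162.
-/

set_option autoImplicit false

namespace Cfsg.Agent.Spor.MclUnique

/-- the hypotheses -/
structure Setting (Ω : Type*) [Fintype Ω] [DecidableEq Ω] where
  /-- the group -/
  G : Subgroup (Equiv.Perm Ω)
  /-- the point -/
  a : Ω
  /-- a point of the smaller suborbit -/
  b : Ω
  /-- a point of the larger suborbit -/
  c : Ω
  htrans : MulAction.IsPretransitive G Ω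
  hΩ : Fintype.card Ω = 275
  hb : (MulAction.orbit (MulAction.stabilizer G a) b).ncard = 112
  hc : (MulAction.orbit (MulAction.stabilizer G a) c).ncard = 162

namespace Setting

variable {Ω : Type*} [Fintype Ω] [DecidableEq Ω] (S : Setting Ω)

/-- the smaller suborbit -/
def oB : Set Ω := MulAction.orbit (MulAction.stabilizer S.G S.a) S.b

/-- the larger suborbit -/
def oC : Set Ω := MulAction.orbit (MulAction.stabilizer S.G S.a) S.c

/-- adjacency -/
def Adj (y z : Ω) : Prop := ∃ g : S.G, g • S.a = y ∧ g⁻¹ • z ∈ S.oB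

theorem ex_move (y : Ω) : ∃ g : S.G, g • S.a = y :=
  haveI := S.htrans
  MulAction.exists_smul_eq S.G S.a y

theorem smul_oB {g : S.G} (hg : g • S.a = S.a) {z : Ω} (hz : z ∈ S.oB) : g • z ∈ S.oB := by
  obtain ⟨k, rfl⟩ := hz
  exact ⟨(⟨g, hg⟩ : MulAction.stabilizer S.G S.a) * k, mul_smul (⟨g, hg⟩ : MulAction.stabilizer S.G S.a) k S.b⟩

theorem smul_oC {g : S.G} (hg : g • S.a = S.a) {z : Ω} (hz : z ∈ S.oC) : g • z ∈ S.oC := by
  obtain ⟨k, rfl⟩ := hz
  exact ⟨(⟨g, hg⟩ : MulAction.stabilizer S.G S.a) * k, mul_smul (⟨g, hg⟩ : MulAction.stabilizer S.G S.a) k S.c⟩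

theorem inv_fix {g : S.G} (hg : g • S.a = S.a) : g⁻¹ • S.a = S.a := by rw [inv_smul_eq_iff, hg]

theorem adj_iff {g : S.G} {y : Ω} (hg : g • S.a = y) (z : Ω) : S.Adj y z ↔ g⁻¹ • z ∈ S.oB := by
  refine ⟨?_, fun h => ⟨g, hg, h⟩⟩
  rintro ⟨g', hg', h⟩
  have hfix : (g⁻¹ * g') • S.a = S.a := by rw [mul_smul, hg', ← hg, inv_smul_smul]
  have := S.smul_oB hfix h
  rwa [← mul_smul, mul_assoc, mul_inv_cancel, mul_one] at this

theorem adj_a (z : Ω) : S.Adj S.a z ↔ z ∈ S.oB := by
  rw [S.adj_iff (g := 1) (one_smul _ _), inv_one, one_smul]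

theorem adj_smul (h : S.G) (y z : Ω) : S.Adj (h • y) (h • z) ↔ S.Adj y z := by
  obtain ⟨g, hg⟩ := S.ex_move y
  rw [S.adj_iff (g := h * g) (by rw [mul_smul, hg]), S.adj_iff hg, _root_.mul_inv_rev, mul_smul, inv_smul_smul]

theorem a_not_oB : S.a ∉ S.oB := by
  rintro h
  have e : MulAction.orbit (MulAction.stabilizer S.G S.a) S.a = S.oB := MulAction.orbit_eq_iff.mpr h
  have h1 : MulAction.orbit (MulAction.stabilizer S.G S.a) S.a = {S.a} := by
    ext x
    constructor
    · rintro ⟨k, rfl⟩; exact k.2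
    · rintro rfl; exact MulAction.mem_orbit_self _
  have := congrArg Set.ncard (h1.symm.trans e)
  rw [Set.ncard_singleton, oB, S.hb] at this
  norm_num at this

theorem a_not_oC : S.a ∉ S.oC := by
  rintro h
  have e : MulAction.orbit (MulAction.stabilizer S.G S.a) S.a = S.oC := MulAction.orbit_eq_iff.mpr h
  have h1 : MulAction.orbit (MulAction.stabilizer S.G S.a) S.a = {S.a} := by
    ext x
    constructor
    · rintro ⟨k, rfl⟩; exact k.2
    · rintro rfl; exact MulAction.mem_orbit_self _
  have := congrArg Set.ncard (h1.symm.trans e)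
  rw [Set.ncard_singleton, oC, S.hc] at this
  norm_num at this

theorem not_both {z : Ω} (h : z ∈ S.oB) (h' : z ∈ S.oC) : False := by
  have e : S.oB = S.oC := (MulAction.orbit_eq_iff.mpr h).symm.trans (MulAction.orbit_eq_iff.mpr h')
  have := congrArg Set.ncard e
  rw [oB, oC, S.hb, S.hc] at this
  norm_num at this

theorem cover (z : Ω) : z = S.a ∨ z ∈ S.oB ∨ z ∈ S.oC := by
  classical
  by_contra h
  push Not at h
  have hd : Disjoint S.oB S.oC := Set.disjoint_left.mpr fun x hx hx' => S.not_both hx hx'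
  have h1 : (S.oB ∪ S.oC ∪ {S.a}).ncard = 275 := by
    rw [Set.ncard_union_eq (by
        rw [Set.disjoint_singleton_right]
        rintro (hx | hx)
        · exact S.a_not_oB hx
        · exact S.a_not_oC hx) (Set.toFinite _) (Set.toFinite _),
      Set.ncard_union_eq hd (Set.toFinite _) (Set.toFinite _), Set.ncard_singleton]
    rw [oB, oC, S.hb, S.hc]
  have h2 : S.oB ∪ S.oC ∪ {S.a} = Set.univ :=
    Set.eq_of_subset_of_ncard_le (Set.subset_univ _) (by rw [h1, Set.ncard_univ, Nat.card_eq_fintype_card, S.hΩ])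
      (Set.toFinite _)
  have := h2.symm ▸ Set.mem_univ z
  rcases this with (h' | h') | h'
  · exact h.2.1 h'
  · exact h.2.2 h'
  · exact h.1 h'

/-- neighbours -/
noncomputable def N (y : Ω) : Finset Ω := by
  classical exact Finset.univ.filter fun z => S.Adj y z

theorem mem_N {y z : Ω} : z ∈ S.N y ↔ S.Adj y z := by simp [N]

/-- the smaller suborbit as a finite set -/
noncomputable def fB : Finset Ω := S.N S.a

theorem mem_fB {z : Ω} : z ∈ S.fB ↔ z ∈ S.oB := by rw [fB, mem_N, adj_a]

/-- the larger suborbit as a finite set -/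
noncomputable def fC : Finset Ω := by
  classical exact Finset.univ.filter fun z => z ∈ S.oC

theorem mem_fC {z : Ω} : z ∈ S.fC ↔ z ∈ S.oC := by simp [fC]

theorem card_fB : S.fB.card = 112 := by
  rw [← Set.ncard_coe_finset, show (S.fB : Set Ω) = S.oB from Set.ext fun z => S.mem_fB]
  exact S.hb

theorem card_fC : S.fC.card = 162 := by
  rw [← Set.ncard_coe_finset, show (S.fC : Set Ω) = S.oC from Set.ext fun z => S.mem_fC]
  exact S.hc

theorem N_smul (h : S.G) (y : Ω) : S.N (h • y) = (S.N y).map (MulAction.toPerm h).toEmbedding := by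
  ext z
  rw [Finset.mem_map_equiv, mem_N, mem_N, MulAction.toPerm_symm_apply, ← S.adj_smul h y, smul_inv_smul]

theorem card_N (y : Ω) : (S.N y).card = 112 := by
  obtain ⟨g, rfl⟩ := S.ex_move y
  rw [N_smul, Finset.card_map]
  exact S.card_fB

theorem adj_symm {y z : Ω} (h : S.Adj y z) : S.Adj z y := by
  classical
  obtain ⟨g, rfl⟩ := S.ex_move y
  obtain ⟨x, rfl⟩ : ∃ x, z = g • x := ⟨g⁻¹ • z, (smul_inv_smul _ _).symm⟩
  rw [adj_smul] at h ⊢
  -- the points seeing the base point form the smaller suborbit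
  let P : Finset Ω := Finset.univ.filter fun w => S.Adj w S.a
  have hin : ∀ w : Ω, (Finset.univ.filter fun v => S.Adj v w).card = P.card := fun w => by
    obtain ⟨k, rfl⟩ := S.ex_move w
    rw [show (Finset.univ.filter fun v => S.Adj v (k • S.a)) = P.map (MulAction.toPerm k).toEmbedding by
      ext v
      simp only [P, Finset.mem_filter, Finset.mem_univ, true_and, Finset.mem_map_equiv, MulAction.toPerm_symm_apply]
      rw [← S.adj_smul k (k⁻¹ • v), smul_inv_smul], Finset.card_map]
  have hP : P.card = 112 := by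
    have hd := Finset.sum_card_bipartiteAbove_eq_sum_card_bipartiteBelow (s := (Finset.univ : Finset Ω))
      (t := (Finset.univ : Finset Ω)) (r := fun v w => S.Adj v w)
    have h1 : ∀ v : Ω, (Finset.bipartiteAbove (fun v w => S.Adj v w) Finset.univ v).card = 112 := fun v => by
      rw [← S.card_N v]; rfl
    have h2 : ∀ w : Ω, (Finset.bipartiteBelow (fun v w => S.Adj v w) Finset.univ w).card = P.card := fun w => by
      rw [← hin w]; rfl
    rw [Finset.sum_congr rfl fun v _ => h1 v, Finset.sum_congr rfl fun w _ => h2 w, Finset.sum_const,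
      Finset.sum_const, Finset.card_univ, S.hΩ] at hd
    simp only [smul_eq_mul] at hd
    omega
  have hinv : ∀ k : S.G, k • S.a = S.a → ∀ w ∈ P, k • w ∈ P := fun k hk w hw => by
    simp only [P, Finset.mem_filter, Finset.mem_univ, true_and] at hw ⊢
    rw [← hk]; exact (S.adj_smul k w S.a).mpr hw
  have hPa : S.a ∉ P := fun ha => by
    simp only [P, Finset.mem_filter, Finset.mem_univ, true_and, adj_a] at ha
    exact S.a_not_oB ha
  have hPB : P = S.fB := by
    by_cases hex : ∃ w ∈ P, w ∈ S.oC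
    · obtain ⟨w, hw, hwC⟩ := hex
      have hle : S.fC ⊆ P := fun v hv => by
        have hvw : v ∈ MulAction.orbit (MulAction.stabilizer S.G S.a) w := by
          rw [MulAction.orbit_eq_iff.mpr hwC]
          exact S.mem_fC.mp hv
        obtain ⟨k, hk⟩ := hvw
        have := hinv k.1 k.2 w hw
        exact hk ▸ this
      have := Finset.card_le_card hle
      rw [card_fC, hP] at this
      norm_num at this
    · refine Finset.eq_of_subset_of_card_le (fun w hw => ?_) (by rw [card_fB, hP])
      rcases S.cover w with rfl | hB | hC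
      · exact absurd hw hPa
      · exact S.mem_fB.mpr hB
      · exact absurd ⟨w, hw, hC⟩ hex
  have : x ∈ P := by rw [hPB, mem_fB]; exact (S.adj_a x).mp h
  simpa [P] using this

theorem adj_irrefl (y : Ω) : ¬ S.Adj y y := by
  obtain ⟨g, rfl⟩ := S.ex_move y
  rw [adj_smul, adj_a]
  exact S.a_not_oB

/-- neighbours inside the smaller suborbit -/
noncomputable def inB (y : Ω) : Finset Ω := S.N y ∩ S.fB

/-- neighbours inside the larger suborbit -/
noncomputable def inC (y : Ω) : Finset Ω := S.N y ∩ S.fC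

theorem inB_smul {k : S.G} (hk : k • S.a = S.a) (y : Ω) :
    S.inB (k • y) = (S.inB y).map (MulAction.toPerm k).toEmbedding := by
  rw [inB, inB, Finset.map_inter, ← N_smul]
  congr 1
  rw [fB, ← N_smul, hk]

theorem inB_const_B {x x' : Ω} (hx : x ∈ S.oB) (hx' : x' ∈ S.oB) : (S.inB x).card = (S.inB x').card := by
  obtain ⟨k, rfl⟩ := hx
  obtain ⟨k', rfl⟩ := hx'
  show (S.inB (k.1 • S.b)).card = (S.inB (k'.1 • S.b)).card
  rw [S.inB_smul k.2, S.inB_smul k'.2, Finset.card_map, Finset.card_map]

theorem inB_const_C {x x' : Ω} (hx : x ∈ S.oC) (hx' : x' ∈ S.oC) : (S.inB x).card = (S.inB x').card := by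
  obtain ⟨k, rfl⟩ := hx
  obtain ⟨k', rfl⟩ := hx'
  show (S.inB (k.1 • S.c)).card = (S.inB (k'.1 • S.c)).card
  rw [S.inB_smul k.2, S.inB_smul k'.2, Finset.card_map, Finset.card_map]

theorem split_B {x : Ω} (hx : x ∈ S.oB) : 1 + (S.inB x).card + (S.inC x).card = 112 := by
  have e : S.N x = insert S.a (S.inB x ∪ S.inC x) := by
    ext z
    simp only [Finset.mem_insert, Finset.mem_union, inB, inC, Finset.mem_inter, mem_N, mem_fB, mem_fC]
    constructor
    · intro h
      rcases S.cover z with rfl | hz | hz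
      · exact Or.inl rfl
      · exact Or.inr (Or.inl ⟨h, hz⟩)
      · exact Or.inr (Or.inr ⟨h, hz⟩)
    · rintro (rfl | ⟨h, -⟩ | ⟨h, -⟩)
      · exact S.adj_symm ((S.adj_a x).mpr hx)
      · exact h
      · exact h
  have hd : Disjoint (S.inB x) (S.inC x) := Finset.disjoint_left.mpr fun z hz hz' => by
    simp only [inB, inC, Finset.mem_inter, mem_fB, mem_fC] at hz hz'
    exact S.not_both hz.2 hz'.2
  have hni : S.a ∉ S.inB x ∪ S.inC x := by
    simp only [Finset.mem_union, inB, inC, Finset.mem_inter, mem_fB, mem_fC]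
    rintro (⟨-, h⟩ | ⟨-, h⟩)
    · exact S.a_not_oB h
    · exact S.a_not_oC h
  have := S.card_N x
  rw [e, Finset.card_insert_of_notMem hni, Finset.card_union_of_disjoint hd] at this
  omega

theorem split_C {y : Ω} (hy : y ∈ S.oC) : (S.inB y).card + (S.inC y).card = 112 := by
  have e : S.N y = S.inB y ∪ S.inC y := by
    ext z
    simp only [Finset.mem_union, inB, inC, Finset.mem_inter, mem_N, mem_fB, mem_fC]
    constructor
    · intro h
      rcases S.cover z with rfl | hz | hz
      · exact (S.not_both ((S.adj_a y).mp (S.adj_symm h)) hy).elim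
      · exact Or.inl ⟨h, hz⟩
      · exact Or.inr ⟨h, hz⟩
    · rintro (⟨h, -⟩ | ⟨h, -⟩) <;> exact h
  have hd : Disjoint (S.inB y) (S.inC y) := Finset.disjoint_left.mpr fun z hz hz' => by
    simp only [inB, inC, Finset.mem_inter, mem_fB, mem_fC] at hz hz'
    exact S.not_both hz.2 hz'.2
  have := S.card_N y
  rw [e, Finset.card_union_of_disjoint hd] at this
  exact this

theorem edge_count (hb' : S.b ∈ S.oB) (hc' : S.c ∈ S.oC) :
    112 * (S.inC S.b).card = 162 * (S.inB S.c).card := by
  classical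
  have hd := Finset.sum_card_bipartiteAbove_eq_sum_card_bipartiteBelow (s := S.fB) (t := S.fC)
    (r := fun v w => S.Adj v w)
  have h1 : ∀ v ∈ S.fB, (Finset.bipartiteAbove (fun v w => S.Adj v w) S.fC v).card = (S.inC S.b).card := by
    intro v hv
    have hvB := S.mem_fB.mp hv
    have e : Finset.bipartiteAbove (fun v w => S.Adj v w) S.fC v = S.inC v := by
      ext w; simp [Finset.bipartiteAbove, inC, mem_N, and_comm]
    rw [e]
    have a1 := S.split_B hvB
    have a2 := S.split_B hb'
    have a3 := S.inB_const_B hvB hb'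
    omega
  have h2 : ∀ w ∈ S.fC, (Finset.bipartiteBelow (fun v w => S.Adj v w) S.fB w).card = (S.inB S.c).card := by
    intro w hw
    rw [← S.inB_const_C (S.mem_fC.mp hw) hc']
    congr 1
    ext v
    simp only [Finset.bipartiteBelow, Finset.mem_filter, inB, Finset.mem_inter, mem_N]
    exact ⟨fun h => ⟨S.adj_symm h.2, h.1⟩, fun h => ⟨h.2, S.adj_symm h.1⟩⟩
  rw [Finset.sum_congr rfl h1, Finset.sum_congr rfl h2, Finset.sum_const, Finset.sum_const, card_fB, card_fC] at hd
  simpa using hd

theorem not_clique (hb' : S.b ∈ S.oB) : (S.inB S.b).card ≠ 111 := by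
  classical
  intro h
  have hall : ∀ x ∈ S.oB, insert x (S.N x) = insert S.a S.fB := fun x hx => by
    have h0 := S.inB_const_B hx hb'
    have hC : S.inC x = ∅ := Finset.card_eq_zero.mp (by have := S.split_B hx; omega)
    refine Finset.eq_of_subset_of_card_le (fun z hz => ?_) ?_
    · rcases Finset.mem_insert.mp hz with rfl | hz
      · exact Finset.mem_insert_of_mem (S.mem_fB.mpr hx)
      · rcases S.cover z with rfl | hzB | hzC
        · exact Finset.mem_insert_self _ _
        · exact Finset.mem_insert_of_mem (S.mem_fB.mpr hzB)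
        · have : z ∈ S.inC x := Finset.mem_inter.mpr ⟨hz, S.mem_fC.mpr hzC⟩
          rw [hC] at this
          exact absurd this (Finset.notMem_empty z)
    · rw [Finset.card_insert_of_notMem (fun e => S.adj_irrefl x (S.mem_N.mp e)), card_N,
        Finset.card_insert_of_notMem (fun e => S.a_not_oB (S.mem_fB.mp e)), card_fB]
  let T : Ω → Finset Ω := fun y => insert y (S.N y)
  have hT : ∀ y z, z ∈ T y → T z = T y := by
    intro y z hz
    obtain ⟨g, rfl⟩ := S.ex_move y
    obtain ⟨x, rfl⟩ : ∃ x, z = g • x := ⟨g⁻¹ • z, (smul_inv_smul _ _).symm⟩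
    rcases Finset.mem_insert.mp hz with e | e
    · rw [e]
    · rw [mem_N, adj_smul, adj_a] at e
      have hm : ∀ w, T (g • w) = (T w).map (MulAction.toPerm g).toEmbedding := fun w => by
        simp only [T, Finset.map_insert, N_smul]
        rfl
      rw [hm, hm]
      congr 1
      simpa [T, fB] using hall x e
  have hsum := Finset.card_eq_sum_card_image T (Finset.univ : Finset Ω)
  have hfib : ∀ t ∈ (Finset.univ : Finset Ω).image T,
      ((Finset.univ : Finset Ω).filter fun w => T w = t).card = 113 := by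
    intro t ht
    obtain ⟨y, -, rfl⟩ := Finset.mem_image.mp ht
    rw [show ((Finset.univ : Finset Ω).filter fun w => T w = T y) = T y from ?_]
    · simp only [T]
      rw [Finset.card_insert_of_notMem (fun e => S.adj_irrefl y (S.mem_N.mp e)), card_N]
    · ext w
      simp only [Finset.mem_filter, Finset.mem_univ, true_and]
      exact ⟨fun e => e ▸ Finset.mem_insert_self _ _, hT y w⟩
  rw [Finset.sum_congr rfl hfib, Finset.sum_const, Finset.card_univ, S.hΩ, smul_eq_mul] at hsum
  omega

theorem common {y z : Ω} (h : S.Adj y z) : (S.N y ∩ S.N z).card = (S.inB S.b).card := by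
  obtain ⟨g, rfl⟩ := S.ex_move y
  obtain ⟨x, rfl⟩ : ∃ x, z = g • x := ⟨g⁻¹ • z, (smul_inv_smul _ _).symm⟩
  rw [adj_smul, adj_a] at h
  rw [N_smul, N_smul, ← Finset.map_inter, Finset.card_map, Finset.inter_comm]
  exact S.inB_const_B h (MulAction.mem_orbit_self _)

end Setting

end Cfsg.Agent.Spor.MclUnique
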