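import Cfsg.Agent.Lib.Spor.MclUniqueModel

/-!
The subgroups of index 112 of the point stabiliser of the McLaughlin graph are stabilisers of lines.
-/

set_option autoImplicit false
set_option maxRecDepth 100000

namespace Cfsg.Agent.Spor.MclUnique

open Equiv
open Cfsg.Agent.Local.FS.McLSmall (K act act_injective)
open Cfsg.Agent.Local.FS.McLSmall.Unitary (Gx mem_Gx xB tau tau_apply timg qm quads exists_image card_Gx)

attribute [local irreducible] gp Local.FS.McLSmall.Cent.pe Local.FS.McLSmall.nget isL adjM psi orbI cv ci pL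

/-- the members of a part -/
def partSet (l : List (ℕ × ℕ × ℕ)) : Finset ℕ := (l.map fun q => q.1).toFinset

/-- the members of all parts -/
def partsAll (L : List (List (ℕ × ℕ × ℕ))) : List ℕ := L.flatMap fun l => l.map fun q => q.1

theorem part_union {f : ℕ → ℕ → ℕ} {L : List (List (ℕ × ℕ × ℕ))} (hL : L.all (partOK f) = true)
    (hnd : (partsAll L).Nodup) {O : Finset ℕ} (hO : O ⊆ (partsAll L).toFinset)
    (hinv : ∀ s < 3, ∀ x ∈ partsAll L, f s x ∈ partsAll L ∧ (f s x ∈ O ↔ x ∈ O)) :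
    O = ((Finset.range L.length).filter fun k => ((L.getD k []).getD 0 (0, 0, 0)).1 ∈ O).biUnion
        (fun k => partSet (L.getD k [])) ∧
      O.card = ∑ k ∈ Finset.range L.length,
        if ((L.getD k []).getD 0 (0, 0, 0)).1 ∈ O then (L.getD k []).length else 0 := by
  classical
  have hmem : ∀ k < L.length, ∀ x ∈ (L.getD k []).map (fun q => q.1), x ∈ partsAll L := fun k hk x hx => by
    rw [partsAll, List.mem_flatMap]
    exact ⟨_, by rw [List.getD_eq_getElem _ _ hk]; exact List.getElem_mem hk, hx⟩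
  have hall : ∀ k < L.length, ∀ x ∈ partSet (L.getD k []),
      (x ∈ O ↔ ((L.getD k []).getD 0 (0, 0, 0)).1 ∈ O) := by
    intro k hk x hx
    rw [partSet, List.mem_toFinset] at hx
    obtain ⟨i, hi, rfl⟩ := List.mem_iff_getElem.mp hx
    rw [List.length_map] at hi
    have hp : partOK f (L.getD k []) = true := by
      rw [List.getD_eq_getElem _ _ hk]
      exact List.all_eq_true.mp hL _ (List.getElem_mem hk)
    have h0 : ((L.getD k []).getD 0 (0, 0, 0)).1 ∈ partsAll L := by
      refine hmem k hk _ (List.mem_map.mpr ⟨_, ?_, rfl⟩)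
      rw [List.getD_eq_getElem _ _ (by omega : 0 < (L.getD k []).length)]
      exact List.getElem_mem _
    rw [List.getElem_map, ← List.getD_eq_getElem _ (0, 0, 0) hi]
    constructor
    · intro hxO
      by_contra h0'
      exact (part_closed hp (S := fun x => x ∈ partsAll L ∧ x ∉ O)
        (fun s hs x hx => ⟨(hinv s hs x hx.1).1, fun h => hx.2 ((hinv s hs x hx.1).2.mp h)⟩) i hi ⟨h0, h0'⟩).2 hxO
    · intro h
      exact (part_closed hp (S := fun x => x ∈ partsAll L ∧ x ∈ O)
        (fun s hs x hx => ⟨(hinv s hs x hx.1).1, (hinv s hs x hx.1).2.mpr hx.2⟩) i hi ⟨h0, h⟩).2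
  have hsplit : ∀ x ∈ O, ∃ k < L.length, x ∈ partSet (L.getD k []) := fun x hx => by
    have hx' := List.mem_toFinset.mp (hO hx)
    rw [partsAll, List.mem_flatMap] at hx'
    obtain ⟨l, hl, hxl⟩ := hx'
    obtain ⟨k, hk, rfl⟩ := List.mem_iff_getElem.mp hl
    exact ⟨k, hk, by rw [partSet, List.mem_toFinset, List.getD_eq_getElem _ _ hk]; exact hxl⟩
  set sel := (Finset.range L.length).filter fun k => ((L.getD k []).getD 0 (0, 0, 0)).1 ∈ O with hsel
  have e : O = sel.biUnion fun k => partSet (L.getD k []) := by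
    ext x
    simp only [hsel, Finset.mem_biUnion, Finset.mem_filter, Finset.mem_range]
    refine ⟨fun hx => ?_, fun ⟨k, ⟨hk, h⟩, hx⟩ => (hall k hk x hx).mpr h⟩
    obtain ⟨k, hk, hx'⟩ := hsplit x hx
    exact ⟨k, ⟨hk, (hall k hk x hx').mp hx⟩, hx'⟩
  refine ⟨e, ?_⟩
  rw [partsAll, List.nodup_flatMap] at hnd
  have hdis : ∀ j < L.length, ∀ k < L.length, j ≠ k → Disjoint (partSet (L.getD j [])) (partSet (L.getD k [])) := by
    intro j hj k hk hjk
    have hp := List.pairwise_iff_getElem.mp hnd.2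
    rw [List.getD_eq_getElem _ _ hj, List.getD_eq_getElem _ _ hk, partSet, partSet,
      List.disjoint_toFinset_iff_disjoint]
    rcases Nat.lt_or_gt_of_ne hjk with h | h
    · exact hp j k hj hk h
    · exact (hp k j hk hj h).symm
  conv_lhs => rw [e]
  rw [Finset.card_biUnion fun j hj k hk hjk => hdis j (Finset.mem_range.mp (Finset.mem_filter.mp hj).1) k
      (Finset.mem_range.mp (Finset.mem_filter.mp hk).1) hjk, Finset.sum_filter]
  refine Finset.sum_congr rfl fun k hk => if_congr Iff.rfl ?_ rfl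
  have hk' := Finset.mem_range.mp hk
  rw [partSet, List.toFinset_card_of_nodup, List.length_map]
  rw [List.getD_eq_getElem _ _ hk']
  exact hnd.1 _ (List.getElem_mem hk')

theorem l0_val : (l0 : ℕ) = (lineP.getD 0 (0, 0, 0)).1 := rfl

theorem quad_count {c : ℕ} {p q r t : Prop} [Decidable p] [Decidable q] [Decidable r] [Decidable t]
    (h : c = (if p then 1 else 0) + (if q then 9 else 0) + (if r then 27 else 0) + (if t then 243 else 0))
    (hp : p) (hd : c ∣ 29160) (h1 : c ≠ 1) : q ∧ ¬ r ∧ ¬ t := by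
  rw [if_pos hp] at h
  by_cases hq : q <;> by_cases hr : r <;> by_cases ht : t <;>
    simp only [hq, hr, ht, if_true, if_false] at h <;> subst h
  all_goals first | exact ⟨hq, hr, ht⟩ | exact absurd rfl h1 | norm_num at hd

set_option maxHeartbeats 2000000 in
theorem sub_le_L0 (H : Subgroup Gx) (hcard : Nat.card H = 29160) (hPP : PP ≤ H) : H ≤ L0 := by
  classical
  haveI : Finite Gx := Nat.finite_of_card_ne_zero (by rw [card_Gx]; norm_num)
  obtain ⟨hok, hlen, hnd, hlt, -⟩ := quad_parts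
  have hlt' : ∀ x ∈ partsAll quadOrb, x < 280 := fun x hx => by
    rw [partsAll, List.mem_flatMap] at hx
    obtain ⟨l, hl, hx⟩ := hx
    obtain ⟨q, hq, rfl⟩ := List.mem_map.mp hx
    exact of_decide_eq_true (List.all_eq_true.mp (List.all_eq_true.mp hlt l hl) q hq)
  replace hnd : (partsAll quadOrb).Nodup := hnd
  have h4 : quadOrb.length = 4 := by simpa using congrArg List.length hlen
  have hX : (partsAll quadOrb).toFinset = Finset.range 280 := by
    refine Finset.eq_of_subset_of_card_le (fun x hx => Finset.mem_range.mpr (hlt' x (List.mem_toFinset.mp hx))) ?_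
    rw [List.toFinset_card_of_nodup hnd, Finset.card_range, partsAll, List.length_flatMap]
    simp only [List.length_map]
    rw [hlen]
    norm_num
  have hget : ∀ k (hk : k < 4), (quadOrb.getD k []).length = [1, 9, 27, 243][k] := fun k hk => by
    rw [List.getD_eq_getElem _ _ (h4.symm ▸ hk)]
    have e : (quadOrb.map fun l => l.length)[k]'(by simpa [h4] using hk) = [1, 9, 27, 243][k] := by
      simp only [hlen]
    rwa [List.getElem_map] at e
  have hq0 : ((quadOrb.getD 0 []).getD 0 (0, 0, 0)).1 < 280 := by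
    refine hlt' _ ?_
    rw [partsAll, List.mem_flatMap]
    refine ⟨quadOrb.getD 0 [], ?_, List.mem_map.mpr ⟨_, ?_, rfl⟩⟩
    · rw [List.getD_eq_getElem _ _ (by omega : 0 < quadOrb.length)]; exact List.getElem_mem _
    · rw [List.getD_eq_getElem (quadOrb.getD 0 []) _ (by rw [hget 0 (by norm_num)]; norm_num)]
      exact List.getElem_mem _
  set p0 : Fin 280 := ⟨_, hq0⟩ with hp0
  letI : MulAction Gx (Fin 280) := MulAction.compHom (Fin 280) tau
  set O : Finset ℕ := (Finset.univ.filter fun j : Fin 280 => ∃ h ∈ H, tau h p0 = j).map Fin.valEmbedding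
    with hOdef
  have hO : ∀ j : Fin 280, (j : ℕ) ∈ O ↔ ∃ h ∈ H, tau h p0 = j := fun j => by
    rw [hOdef, Finset.mem_map]
    constructor
    · rintro ⟨j', hj', e⟩
      obtain rfl : j' = j := Fin.ext e
      simpa using hj'
    · exact fun h => ⟨j, by simpa using h, rfl⟩
  have hOmove : ∀ g ∈ H, ∀ j : Fin 280, ((tau g j : ℕ) ∈ O ↔ (j : ℕ) ∈ O) := fun g hg j => by
    rw [hO, hO]
    constructor
    · rintro ⟨h, hh, e⟩
      exact ⟨g⁻¹ * h, H.mul_mem (H.inv_mem hg) hh, by
        rw [map_mul, Equiv.Perm.mul_apply, e, map_inv, Equiv.Perm.inv_def, Equiv.symm_apply_apply]⟩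
    · rintro ⟨h, hh, rfl⟩
      exact ⟨g * h, H.mul_mem hg hh, by rw [map_mul, Equiv.Perm.mul_apply]⟩
  obtain ⟨eO, hsum⟩ := part_union (f := U43.qv) hok hnd (O := O) (by
      rw [hX]
      intro x hx
      rw [hOdef, Finset.mem_map] at hx
      obtain ⟨j, -, rfl⟩ := hx
      exact Finset.mem_range.mpr j.2) (fun s hs x hx => by
      have hx' := hlt' x hx
      have e := gP_tau ⟨s, hs⟩ ⟨x, hx'⟩
      refine ⟨?_, ?_⟩
      · rw [← List.mem_toFinset, hX, Finset.mem_range]
        exact lt_of_eq_of_lt e.symm (tau (gP ⟨s, hs⟩) ⟨x, hx'⟩).2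
      · have h := hOmove (gP ⟨s, hs⟩) (hPP (Subgroup.subset_closure ⟨_, rfl⟩)) ⟨x, hx'⟩
        rwa [e] at h)
  rw [h4, Finset.sum_range_succ, Finset.sum_range_succ, Finset.sum_range_succ, Finset.sum_range_succ,
    Finset.sum_range_zero, zero_add, hget 0 (by norm_num), hget 1 (by norm_num), hget 2 (by norm_num),
    hget 3 (by norm_num)] at hsum
  have hp0O : ((quadOrb.getD 0 []).getD 0 (0, 0, 0)).1 ∈ O :=
    (hO p0).mpr ⟨1, H.one_mem, by rw [map_one, Equiv.Perm.one_apply]⟩
  -- the orbit as a set of cosets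
  have hcO : O.card = (MulAction.orbit H p0).ncard := by
    rw [hOdef, Finset.card_map, ← Set.ncard_coe_finset]
    congr 1
    ext j
    simp only [Finset.coe_filter, Finset.mem_univ, true_and, Set.mem_ofPred_eq, MulAction.mem_orbit_iff]
    exact ⟨fun ⟨h, hh, e⟩ => ⟨⟨h, hh⟩, e⟩, fun ⟨⟨h, hh⟩, e⟩ => ⟨h, hh, e⟩⟩
  have hd : O.card ∣ 29160 := by
    rw [hcO, ← hcard, ← MulAction.index_stabilizer]
    exact Subgroup.index_dvd_card _
  have h1 : O.card ≠ 1 := fun e1 => by
    have hle : H ≤ MulAction.stabilizer Gx p0 := fun h hh => by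
      rw [MulAction.mem_stabilizer_iff]
      obtain ⟨z, hz⟩ := Finset.card_eq_one.mp e1
      have a1 : (tau h p0 : ℕ) ∈ O := (hO _).mpr ⟨h, hh, rfl⟩
      have a2 : (p0 : ℕ) ∈ O := hp0O
      rw [hz, Finset.mem_singleton] at a1 a2
      exact Fin.ext (a1.trans a2.symm)
    haveI : MulAction.IsPretransitive Gx (Fin 280) := ⟨fun p q => tau_trans p q⟩
    have hidx : (MulAction.stabilizer Gx p0).index = 280 := by
      rw [MulAction.index_stabilizer_of_transitive, Nat.card_fin]
    have hH := Subgroup.card_mul_index H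
    rw [hcard, card_Gx] at hH
    have := Nat.le_of_dvd (by omega) (Subgroup.index_dvd_of_le hle)
    omega
  obtain ⟨hq, hr, ht⟩ := quad_count hsum hp0O hd h1
  have hl0 : ∀ k ∈ l0quads, k ∈ O := fun k hk => by
    rw [eO, Finset.mem_biUnion]
    rw [l0quads, List.map_append, List.mem_append] at hk
    rcases hk with hk | hk
    · exact ⟨0, Finset.mem_filter.mpr ⟨Finset.mem_range.mpr (by omega), hp0O⟩, List.mem_toFinset.mpr hk⟩
    · exact ⟨1, Finset.mem_filter.mpr ⟨Finset.mem_range.mpr (by omega), hq⟩, List.mem_toFinset.mpr hk⟩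
  have hOl : ∀ k ∈ O, k ∈ l0quads := fun k hk => by
    rw [eO, Finset.mem_biUnion] at hk
    obtain ⟨i, hi, hk⟩ := hk
    rw [Finset.mem_filter, Finset.mem_range, h4] at hi
    rw [l0quads, List.map_append, List.mem_append]
    obtain ⟨hi4, hi0⟩ := hi
    interval_cases i
    · exact Or.inl (List.mem_toFinset.mp hk)
    · exact Or.inr (List.mem_toFinset.mp hk)
    · exact absurd hi0 hr
    · exact absurd hi0 ht
  intro h hh
  rw [mem_L0]
  by_contra hne
  have hu := List.all_eq_true.mp first_line.2 (act h.1 l0 : ℕ) (List.mem_range.mpr (act h.1 l0).2)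
  rw [Bool.or_eq_true, beq_iff_eq, List.any_eq_true] at hu
  rcases hu with hu | ⟨k, hk, hu⟩
  · exact hne (Fin.ext hu)
  have hk280 : k < 280 := by
    have := hl0 k hk
    rw [hOdef, Finset.mem_map] at this
    obtain ⟨j, -, rfl⟩ := this
    exact j.2
  have hj : ((tau h⁻¹ ⟨k, hk280⟩ : Fin 280) : ℕ) ∈ l0quads := hOl _ ((hOmove _ (H.inv_mem hh) ⟨k, hk280⟩).mpr (hl0 k hk))
  set j : Fin 280 := tau h⁻¹ ⟨k, hk280⟩ with hjdef
  have htj : timg h j = ⟨k, hk280⟩ := by
    rw [← tau_apply, hjdef, map_inv, Equiv.Perm.inv_def, Equiv.apply_symm_apply]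
  have hs : (qm (timg h j)).testBit (act h.1 l0) = (qm j).testBit l0 := (exists_image h j).choose_spec l0
  have h1' : (qm j).testBit l0 = true := by
    rw [qm, Local.FS.McLSmall.Unitary.testBit_pmask, l0_val]
    exact List.elem_iff.mp (List.all_eq_true.mp first_line.1 _ hj)
  rw [htj, h1', qm, Local.FS.McLSmall.Unitary.testBit_pmask] at hs
  rw [Bool.not_eq_true'] at hu
  have := List.elem_iff.mpr hs
  rw [show ((⟨k, hk280⟩ : Fin 280) : ℕ) = k from rfl] at this
  rw [this] at hu
  exact absurd hu (by simp)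

theorem three_sylow {P : Subgroup Gx} (hP : IsPGroup 3 P) (hc : 729 ≤ Nat.card P) (Q : Sylow 3 Gx) (hle : P ≤ Q) :
    (Q : Subgroup Gx) = P := by
  haveI : Finite Gx := Nat.finite_of_card_ne_zero (by rw [card_Gx]; norm_num)
  haveI : Fact (Nat.Prime 3) := ⟨by norm_num⟩
  refine (Subgroup.eq_of_le_of_card_ge hle ?_).symm
  obtain ⟨n, hn⟩ := IsPGroup.iff_card.mp Q.2
  have hd := Subgroup.card_subgroup_dvd_card (Q : Subgroup Gx)
  rw [hn, card_Gx] at hd
  rw [hn]
  refine le_trans ?_ hc
  by_contra h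
  have h6 : 6 < n := (Nat.pow_lt_pow_iff_right (by norm_num : 1 < 3)).mp (lt_of_eq_of_lt (by norm_num) (not_le.mp h))
  have := (pow_dvd_pow 3 (show 7 ≤ n by omega)).trans hd
  norm_num at this

/-- a subgroup of index 112 becomes the stabiliser of the first line -/
theorem index_conj (H : Subgroup Gx) (hH : H.index = 112) : ∃ g : Gx, H.map (MulAut.conj g).toMonoidHom = L0 := by
  haveI : Finite Gx := Nat.finite_of_card_ne_zero (by rw [card_Gx]; norm_num)
  haveI : Fact (Nat.Prime 3) := ⟨by norm_num⟩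
  have hc : Nat.card H = 29160 := by
    have h := Subgroup.card_mul_index H
    rw [hH, card_Gx] at h
    omega
  obtain ⟨P, hP⟩ := Sylow.exists_subgroup_card_pow_prime 3 (n := 6) (G := H) (by rw [hc]; norm_num)
  have hP' : Nat.card (P.map H.subtype) = 729 := by
    rw [Subgroup.card_map_of_injective H.subtype_injective, hP]; norm_num
  have h3 : IsPGroup 3 (P.map H.subtype) := IsPGroup.of_card (n := 6) (by rw [hP']; norm_num)
  obtain ⟨Q, hQ⟩ := h3.exists_le_sylow
  have eQ := three_sylow h3 hP'.ge Q hQ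
  obtain ⟨Q', hQ'⟩ := PP_three.exists_le_sylow
  obtain ⟨g, hg⟩ := MulAction.exists_smul_eq Gx Q Q'
  refine ⟨g, Subgroup.eq_of_le_of_card_ge (sub_le_L0 _ ?_ ?_) ?_⟩
  · rw [Subgroup.card_map_of_injective (MulEquiv.injective _), hc]
  · refine hQ'.trans ?_
    rw [← hg, Sylow.coe_subgroup_smul, eQ, Subgroup.pointwise_smul_def]
    exact Subgroup.map_mono (Subgroup.map_subtype_le P)
  · rw [Subgroup.card_map_of_injective (MulEquiv.injective _), hc, card_L0]

end Cfsg.Agent.Spor.MclUnique
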