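import Cfsg.Agent.Lib.Spor.MclUniqueGraph
import Cfsg.Agent.Lib.Spor.MclUniqueSub

/-!
The neighbours of the base point are the lines, adjacent as in the model.
-/

set_option autoImplicit false
set_option maxRecDepth 100000

namespace Cfsg.Agent.Spor.MclUnique

open Equiv
open Cfsg.Agent.Local.FS.McLSmall (K act)
open Cfsg.Agent.Local.FS.McLSmall.Unitary (Gx mem_Gx xB xB_val lines)

attribute [local irreducible] gp Local.FS.McLSmall.Cent.pe Local.FS.McLSmall.nget isL adjM psi orbI cv ci pL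

/-- a setting with an identification of the point stabiliser -/
structure Ctx (Ω : Type*) [Fintype Ω] [DecidableEq Ω] where
  /-- the setting -/
  S : Setting Ω
  /-- the identification -/
  θ : Gx ≃* MulAction.stabilizer S.G S.a

namespace Ctx

noncomputable section

variable {Ω : Type*} [Fintype Ω] [DecidableEq Ω] (C : Ctx Ω)

/-- the element of the group -/
def gs (g : Gx) : C.S.G := (C.θ g).1

theorem gs_fix (g : Gx) : C.gs g • C.S.a = C.S.a := (C.θ g).2

theorem gs_mul (g h : Gx) : C.gs (g * h) = C.gs g * C.gs h := by rw [gs, gs, gs, map_mul, Subgroup.coe_mul]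

theorem gs_one : C.gs 1 = 1 := by rw [gs, map_one, OneMemClass.coe_one]

/-- the action of the model stabiliser -/
def sm (g : Gx) (y : Ω) : Ω := C.gs g • y

theorem sm_mul (g h : Gx) (y : Ω) : C.sm (g * h) y = C.sm g (C.sm h y) := by
  rw [sm, sm, sm, gs_mul, mul_smul]

theorem sm_one (y : Ω) : C.sm 1 y = y := by rw [sm, gs_one, one_smul]

theorem sm_a (g : Gx) : C.sm g C.S.a = C.S.a := C.gs_fix g

theorem sm_inj (g : Gx) : Function.Injective (C.sm g) := MulAction.injective _

theorem sm_inv_sm (g : Gx) (y : Ω) : C.sm g⁻¹ (C.sm g y) = y := by rw [← sm_mul, inv_mul_cancel, sm_one]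

theorem adj_sm (g : Gx) (y z : Ω) : C.S.Adj (C.sm g y) (C.sm g z) ↔ C.S.Adj y z := C.S.adj_smul _ y z

theorem sm_oB (g : Gx) {y : Ω} (hy : y ∈ C.S.oB) : C.sm g y ∈ C.S.oB := C.S.smul_oB (C.gs_fix g) hy

theorem sm_oC (g : Gx) {y : Ω} (hy : y ∈ C.S.oC) : C.sm g y ∈ C.S.oC := C.S.smul_oC (C.gs_fix g) hy

theorem orbit_sm {x y : Ω} (hy : y ∈ MulAction.orbit (MulAction.stabilizer C.S.G C.S.a) x) :
    ∃ g : Gx, C.sm g x = y := by
  obtain ⟨k, rfl⟩ := hy
  refine ⟨C.θ.symm k, ?_⟩
  rw [sm, gs, MulEquiv.apply_symm_apply]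
  rfl

theorem exists_bp : ∃ b' ∈ C.S.oB, ∀ g : Gx, C.sm g b' = b' ↔ g ∈ L0 := by
  have hidx : ((MulAction.stabilizer (MulAction.stabilizer C.S.G C.S.a) C.S.b).comap C.θ.toMonoidHom).index = 112 := by
    rw [Subgroup.index_comap_of_surjective _ (MulEquiv.surjective C.θ), MulAction.index_stabilizer, C.S.hb]
  obtain ⟨g, hg⟩ := index_conj _ hidx
  refine ⟨C.sm g C.S.b, C.sm_oB g (MulAction.mem_orbit_self _), fun h => ?_⟩
  rw [← hg, Subgroup.mem_map]
  constructor
  · intro e
    refine ⟨g⁻¹ * h * g, ?_, ?_⟩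
    · rw [Subgroup.mem_comap, MulAction.mem_stabilizer_iff]
      show C.sm (g⁻¹ * h * g) C.S.b = C.S.b
      rw [sm_mul, sm_mul, e, sm_inv_sm]
    · simp only [MulEquiv.coe_toMonoidHom, MulAut.conj_apply]
      group
  · rintro ⟨k, hk, rfl⟩
    rw [Subgroup.mem_comap, MulAction.mem_stabilizer_iff] at hk
    have hk' : C.sm k C.S.b = C.S.b := hk
    simp only [MulEquiv.coe_toMonoidHom, MulAut.conj_apply]
    rw [← sm_mul, inv_mul_cancel_right, sm_mul, hk']

/-- the point of the first line -/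
noncomputable def bp : Ω := C.exists_bp.choose

theorem bp_oB : C.bp ∈ C.S.oB := C.exists_bp.choose_spec.1

theorem bp_fix {g : Gx} : C.sm g C.bp = C.bp ↔ g ∈ L0 := C.exists_bp.choose_spec.2 g

/-- the point of a line -/
noncomputable def f (u : Fin 275) : Ω :=
  if h : isL u = true then C.sm (exists_to_line h).choose C.bp else C.S.a

theorem f_act (g : Gx) {u : Fin 275} (hu : isL u = true) : C.f (act g.1 u) = C.sm g (C.f u) := by
  have hgu : isL (act g.1 u : ℕ) = true := (isL_act g).mpr hu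
  rw [f, f, dif_pos hgu, dif_pos hu, ← sm_mul]
  set k := (exists_to_line hgu).choose
  set h := (exists_to_line hu).choose
  have hk : act k.1 l0 = act g.1 u := (exists_to_line hgu).choose_spec
  have hh : act h.1 l0 = u := (exists_to_line hu).choose_spec
  have hm : k⁻¹ * (g * h) ∈ L0 := by
    rw [mem_L0, Subgroup.coe_mul, Subgroup.coe_mul, map_mul, map_mul, Equiv.Perm.mul_apply, Equiv.Perm.mul_apply,
      hh, ← hk, Subgroup.coe_inv, map_inv, Equiv.Perm.inv_def, Equiv.symm_apply_apply]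
  rw [show g * h = k * (k⁻¹ * (g * h)) from (mul_inv_cancel_left _ _).symm, C.sm_mul k, C.bp_fix.mpr hm]

theorem isL_l0 : isL l0 = true := isL_line_par (by norm_num)

theorem f_l0 : C.f l0 = C.bp := by
  rw [f, dif_pos isL_l0, C.bp_fix, mem_L0]
  exact (exists_to_line isL_l0).choose_spec

theorem f_oB {u : Fin 275} (hu : isL u = true) : C.f u ∈ C.S.oB := by
  rw [f, dif_pos hu]
  exact C.sm_oB _ C.bp_oB

theorem f_inj {u v : Fin 275} (hu : isL u = true) (hv : isL v = true) (e : C.f u = C.f v) : u = v := by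
  obtain ⟨g, rfl⟩ := exists_to_line hu
  obtain ⟨h, rfl⟩ := exists_to_line hv
  rw [C.f_act g isL_l0, C.f_act h isL_l0, f_l0] at e
  have hm : h⁻¹ * g ∈ L0 := by rw [← C.bp_fix, sm_mul, e, sm_inv_sm]
  rw [mem_L0, Subgroup.coe_mul, map_mul, Equiv.Perm.mul_apply, Subgroup.coe_inv, map_inv, Equiv.Perm.inv_def,
    Equiv.symm_apply_eq] at hm
  exact hm

theorem f_surj {y : Ω} (hy : y ∈ C.S.oB) : ∃ u : Fin 275, isL u = true ∧ C.f u = y := by
  obtain ⟨g, rfl⟩ := C.orbit_sm (show y ∈ MulAction.orbit _ C.bp by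
    rw [MulAction.orbit_eq_iff.mpr C.bp_oB]; exact hy)
  exact ⟨act g.1 l0, (isL_act g).mpr isL_l0, by rw [C.f_act g isL_l0, f_l0]⟩

/-- counting in the smaller suborbit is counting lines -/
theorem card_B (p : Ω → Prop) [DecidablePred p] :
    (C.S.fB.filter p).card = (LF.filter fun l => p (C.f l)).card := by
  refine (Finset.card_bij (fun u _ => C.f u) ?_ ?_ ?_).symm
  · intro u hu
    simp only [LF, Finset.mem_filter, Finset.mem_univ, true_and] at hu
    exact Finset.mem_filter.mpr ⟨C.S.mem_fB.mpr (C.f_oB hu.1), hu.2⟩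
  · intro u hu v hv e
    simp only [LF, Finset.mem_filter, Finset.mem_univ, true_and] at hu hv
    exact C.f_inj hu.1 hv.1 e
  · intro y hy
    rw [Finset.mem_filter] at hy
    obtain ⟨u, hu, e⟩ := C.f_surj (C.S.mem_fB.mp hy.1)
    exact ⟨u, by simp [LF, hu, e, hy.2], e⟩

theorem line_count {c x y : ℕ} {p q r t : Prop} [Decidable p] [Decidable q] [Decidable r] [Decidable t]
    (h : c = (if p then 1 else 0) + (if q then 3 else 0) + (if r then 27 else 0) + (if t then 81 else 0))
    (hp : ¬ p) (hs : 1 + c + x = 112) (he : 112 * x = 162 * y) (hc : c ≠ 111) : q ∧ r ∧ ¬ t ∧ c = 30 := by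
  rw [if_neg hp] at h
  by_cases hq : q <;> by_cases hr : r <;> by_cases ht : t <;>
    simp only [hq, hr, ht, if_true, if_false] at h <;>
    first
      | exact ⟨hq, hr, ht, h⟩
      | omega

theorem bp_row : (∀ v : Fin 275, isL v = true → (C.S.Adj C.bp (C.f v) ↔ MA l0 v)) ∧ (C.S.inB C.S.b).card = 30 := by
  classical
  obtain ⟨hok, hlen, hnd, h00, hfix, hisL⟩ := line_parts
  replace hnd : (partsAll lineOrb).Nodup := hnd
  have h4 : lineOrb.length = 4 := by simpa using congrArg List.length hlen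
  have hget : ∀ k (hk : k < 4), (lineOrb.getD k []).length = [1, 3, 27, 81][k] := fun k hk => by
    rw [List.getD_eq_getElem _ _ (h4.symm ▸ hk)]
    have e : (lineOrb.map fun l => l.length)[k]'(by simpa [h4] using hk) = [1, 3, 27, 81][k] := by simp only [hlen]
    rwa [List.getElem_map] at e
  have hXL : ∀ x ∈ partsAll lineOrb, isL x = true := fun x hx => by
    rw [partsAll, List.mem_flatMap] at hx
    obtain ⟨l, hl, hx⟩ := hx
    obtain ⟨q, hq, rfl⟩ := List.mem_map.mp hx
    exact List.all_eq_true.mp (List.all_eq_true.mp hisL l hl) q hq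
  have hX : (partsAll lineOrb).toFinset = LF.map Fin.valEmbedding := by
    refine Finset.eq_of_subset_of_card_le (fun x hx => ?_) ?_
    · have h := hXL x (List.mem_toFinset.mp hx)
      exact Finset.mem_map.mpr ⟨⟨x, isL_lt h⟩, by simp [LF, h], rfl⟩
    · rw [List.toFinset_card_of_nodup hnd, Finset.card_map, card_LF, partsAll, List.length_flatMap]
      simp only [List.length_map]
      rw [hlen]
      norm_num
  set T := LF.filter fun l => C.S.Adj C.bp (C.f l) with hT
  set O := T.map Fin.valEmbedding with hOdef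
  have hO : ∀ u : Fin 275, isL u = true → ((u : ℕ) ∈ O ↔ C.S.Adj C.bp (C.f u)) := fun u hu => by
    rw [hOdef, Finset.mem_map]
    constructor
    · rintro ⟨v, hv, e⟩
      obtain rfl : v = u := Fin.ext e
      exact (Finset.mem_filter.mp hv).2
    · exact fun h => ⟨u, Finset.mem_filter.mpr ⟨by simp [LF, hu], h⟩, rfl⟩
  obtain ⟨eO, hsum⟩ := part_union (f := pL) hok hnd (O := O)
    (hX ▸ Finset.map_subset_map.mpr (Finset.filter_subset _ _)) (fun s hs x hx => by
      have hxL := hXL x hx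
      have hl0 : act (gP ⟨s, hs⟩).1 l0 = l0 := Fin.ext (by
        rw [gP_act]
        exact beq_iff_eq.mp (List.all_eq_true.mp hfix s (List.mem_range.mpr hs)))
      have e := gP_act ⟨s, hs⟩ ⟨x, isL_lt hxL⟩
      have hL' := (isL_act (gP ⟨s, hs⟩) (u := ⟨x, isL_lt hxL⟩)).mpr hxL
      have e' : pL s x = (act (gP ⟨s, hs⟩).1 ⟨x, isL_lt hxL⟩ : ℕ) := e.symm
      rw [e']
      refine ⟨?_, ?_⟩
      · rw [← List.mem_toFinset, hX]
        exact Finset.mem_map.mpr ⟨act (gP ⟨s, hs⟩).1 ⟨x, isL_lt hxL⟩, by simp [LF, hL'], rfl⟩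
      · show _ ↔ ((⟨x, isL_lt hxL⟩ : Fin 275) : ℕ) ∈ O
        rw [hO _ hL', hO _ hxL, C.f_act _ hxL]
        conv_lhs => rw [← C.f_l0]
        nth_rewrite 1 [← hl0]
        rw [C.f_act _ isL_l0, adj_sm, f_l0])
  rw [h4, Finset.sum_range_succ, Finset.sum_range_succ, Finset.sum_range_succ, Finset.sum_range_succ,
    Finset.sum_range_zero, zero_add, hget 0 (by norm_num), hget 1 (by norm_num), hget 2 (by norm_num),
    hget 3 (by norm_num)] at hsum
  have hp : ((lineOrb.getD 0 []).getD 0 (0, 0, 0)).1 ∉ O := by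
    have e : ((lineOrb.getD 0 []).getD 0 (0, 0, 0)).1 = (l0 : ℕ) := by
      rw [List.getD_eq_getElem (lineOrb.getD 0 []) _ (by rw [hget 0 (by norm_num)]; norm_num)]
      have : ((lineOrb.getD 0 []).map fun q => q.1)[0]'(by rw [List.length_map, hget 0 (by norm_num)]; norm_num) =
          (l0 : ℕ) := by
        simp only [h00, l0_val, List.getElem_cons_zero]
      rwa [List.getElem_map] at this
    rw [e, hO l0 isL_l0, f_l0]
    exact C.S.adj_irrefl _
  have hcard : O.card = (C.S.inB C.S.b).card := by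
    rw [← C.S.inB_const_B C.bp_oB (MulAction.mem_orbit_self _), hOdef, Finset.card_map, hT,
      ← C.card_B fun y => C.S.Adj C.bp y]
    congr 1
    ext z
    simp [Setting.inB, Setting.mem_N, and_comm]
  rw [hcard] at hsum
  obtain ⟨hq, hr, ht, h30⟩ := line_count hsum hp (C.S.split_B (MulAction.mem_orbit_self _))
    (C.S.edge_count (MulAction.mem_orbit_self _) (MulAction.mem_orbit_self _)) (C.S.not_clique (MulAction.mem_orbit_self _))
  refine ⟨fun v hv => ?_, h30⟩
  have hvl : (v : ℕ) ∈ lines := by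
    have := List.all_eq_true.mp line_list.2.2 v (List.mem_range.mpr v.2)
    rw [hv, Bool.not_true, Bool.false_or] at this
    simpa using this
  have hm := beq_iff_eq.mp (List.all_eq_true.mp meet_row v hvl)
  rw [← hO v hv, eO, MA_iff, l0_val, hm, Nat.testBit_or, Bool.or_eq_true, partMask, partMask,
    Local.FS.McLSmall.Unitary.testBit_pmask, Local.FS.McLSmall.Unitary.testBit_pmask, Finset.mem_biUnion]
  simp only [Finset.mem_filter, Finset.mem_range, h4, partSet, List.mem_toFinset]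
  constructor
  · rintro ⟨i, ⟨hi4, hi0⟩, hi⟩
    interval_cases i
    · exact absurd hi0 hp
    · exact Or.inl hi
    · exact Or.inr hi
    · exact absurd hi0 ht
  · rintro (h | h)
    · exact ⟨1, ⟨by norm_num, hq⟩, h⟩
    · exact ⟨2, ⟨by norm_num, hr⟩, h⟩

theorem adj_f {u v : Fin 275} (hu : isL u = true) (hv : isL v = true) : C.S.Adj (C.f u) (C.f v) ↔ MA u v := by
  obtain ⟨g, rfl⟩ := exists_to_line hu
  obtain ⟨w, rfl⟩ : ∃ w, v = act g.1 w := ⟨(act g.1).symm v, ((act g.1).apply_symm_apply v).symm⟩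
  have hw : isL w = true := (isL_act g).mp hv
  rw [C.f_act g isL_l0, C.f_act g hw, adj_sm, f_l0, C.bp_row.1 w hw]
  exact (Local.FS.McLSmall.Unitary.adj_act _ _ _).symm

theorem k_eq : (C.S.inB C.S.c).card = 56 := by
  have h1 := C.S.split_B (MulAction.mem_orbit_self _ : C.S.b ∈ C.S.oB)
  have h2 := C.S.edge_count (MulAction.mem_orbit_self _) (MulAction.mem_orbit_self _)
  rw [C.bp_row.2] at h1
  omega

end

end Ctx

end Cfsg.Agent.Spor.MclUnique
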