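import Cfsg.Agent.Lib.Spor.MclUniqueFar

/-!
The graph is the model graph and the group is the McLaughlin group.
-/

set_option autoImplicit false
set_option maxRecDepth 100000

namespace Cfsg.Agent.Spor.MclUnique

open Equiv
open Cfsg.Agent.Local.FS.McLSmall (K act act_injective)
open Cfsg.Agent.Local.FS.McLSmall.Unitary (Gx mem_Gx xB xB_val card_Gx adj_act)

attribute [local instance] Classical.propDecidable

attribute [local irreducible] gp Local.FS.McLSmall.Cent.pe Local.FS.McLSmall.nget isL adjM psi psi' orbI cv ci pL orbM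
  absA over30

theorem cv_facts (i : Fin 162) : cv i < 275 ∧ ci (cv i) = i.val ∧ isL (cv i) = false ∧ cv i ≠ Local.FS.McLSmall.Unitary.base := by
  have h := List.all_eq_true.mp cv_ok i.val (List.mem_range.mpr i.2)
  simp only [Bool.and_eq_true, decide_eq_true_eq, beq_iff_eq, Bool.not_eq_true', beq_eq_false_iff_ne] at h
  exact ⟨h.1.1.1, h.1.1.2, h.1.2, h.2⟩

theorem cv_lt (i : Fin 162) : cv i < 275 := (cv_facts i).1

theorem vertex_cases (u : Fin 275) : (u = xB ∧ isL u = false) ∨ (u ≠ xB ∧ isL u = true) ∨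
    (u ≠ xB ∧ isL u = false ∧ ci u < 162 ∧ cv (ci u) = u) := by
  have h := List.all_eq_true.mp vertex_ok u (List.mem_range.mpr u.2)
  simp only [vertexOK, Bool.and_eq_true, decide_eq_true_eq, Bool.not_eq_true', Bool.and_eq_false_iff,
    beq_eq_false_iff_ne] at h
  obtain ⟨⟨h1, h2⟩, -⟩ := h
  by_cases hb : u = xB
  · rcases h2 with h2 | h2
    · exact absurd (by rw [hb, xB_val]) h2
    · exact Or.inl ⟨hb, h2⟩
  · have hb' : (u : ℕ) ≠ Local.FS.McLSmall.Unitary.base := fun e => hb (Fin.ext (e.trans xB_val.symm))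
    by_cases hl : isL u = true
    · exact Or.inr (Or.inl ⟨hb, hl⟩)
    · rcases h1 with h1 | h1 | h1
      · exact absurd h1 hb'
      · exact absurd h1 hl
      · exact Or.inr (Or.inr ⟨hb, Bool.eq_false_iff.mpr hl, h1.1, h1.2⟩)

theorem psi_facts {o : ℕ} (ho : o < 4) :
    psi o Local.FS.McLSmall.Unitary.base = Local.FS.McLSmall.Unitary.base ∧
      ∀ u < 275, psi o u < 275 ∧ psi' o u < 275 ∧ psi o (psi' o u) = u ∧ psi' o (psi o u) = u := by
  have h := List.all_eq_true.mp psi_ok o (List.mem_range.mpr ho)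
  rw [Bool.and_eq_true, beq_iff_eq] at h
  refine ⟨h.1, fun u hu => ?_⟩
  have h2 := List.all_eq_true.mp h.2 u (List.mem_range.mpr hu)
  simp only [Bool.and_eq_true, decide_eq_true_eq, beq_iff_eq] at h2
  exact ⟨h2.1.1.1, h2.1.1.2, h2.1.2, h2.2⟩

/-- the isomorphism as a permutation -/
def kappa {o : ℕ} (ho : o < 4) : Perm (Fin 275) where
  toFun u := ⟨psi o u, ((psi_facts ho).2 u u.2).1⟩
  invFun u := ⟨psi' o u, ((psi_facts ho).2 u u.2).2.1⟩
  left_inv u := Fin.ext ((psi_facts ho).2 u u.2).2.2.2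
  right_inv u := Fin.ext ((psi_facts ho).2 u u.2).2.2.1

namespace Ctx

noncomputable section

variable {Ω : Type*} [Fintype Ω] [DecidableEq Ω] (C : Ctx Ω)

/-- the vertices of the graph -/
def Psi (u : Fin 275) : Ω :=
  if u = xB then C.S.a else if isL u = true then C.f u else
    if h : ci u < 162 then C.cpt ⟨ci u, h⟩ else C.S.a

theorem Psi_base : C.Psi xB = C.S.a := if_pos rfl

theorem Psi_line {u : Fin 275} (hu : isL u = true) : C.Psi u = C.f u := by
  rcases vertex_cases u with h | h | h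
  · rw [hu] at h; exact absurd h.2 (by decide)
  · rw [Psi, if_neg h.1, if_pos h.2]
  · rw [hu] at h; exact absurd h.2.1 (by decide)

theorem Psi_cv (i : Fin 162) : C.Psi ⟨cv i, cv_lt i⟩ = C.cpt i := by
  obtain ⟨h1, h2, h3, h4⟩ := cv_facts i
  have hne : (⟨cv i, h1⟩ : Fin 275) ≠ xB := fun e => h4 (congrArg Fin.val e)
  rw [Psi, if_neg hne, if_neg (show ¬ isL ((⟨cv i, h1⟩ : Fin 275) : ℕ) = true by simp [h3])]
  rw [dif_pos (show ci ((⟨cv i, h1⟩ : Fin 275) : ℕ) < 162 by rw [show ((⟨cv i, h1⟩ : Fin 275) : ℕ) = cv i from rfl, h2]; exact i.2)]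
  exact congrArg C.cpt (Fin.ext h2)

theorem three (u : Fin 275) : u = xB ∨ isL u = true ∨ ∃ i : Fin 162, u = ⟨cv i, cv_lt i⟩ := by
  rcases vertex_cases u with h | h | h
  · exact Or.inl h.1
  · exact Or.inr (Or.inl h.2)
  · exact Or.inr (Or.inr ⟨⟨_, h.2.2.1⟩, Fin.ext h.2.2.2.symm⟩)

theorem Psi_inj : Function.Injective C.Psi := by
  intro u v e
  rcases three u with rfl | hu | ⟨i, rfl⟩ <;> rcases three v with rfl | hv | ⟨j, rfl⟩
  · rfl
  · rw [Psi_base, C.Psi_line hv] at e
    exact absurd (e ▸ C.f_oB hv) C.S.a_not_oB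
  · rw [Psi_base, Psi_cv] at e
    exact absurd (e ▸ C.cpt_oC j) C.S.a_not_oC
  · rw [Psi_base, C.Psi_line hu] at e
    exact absurd (e.symm ▸ C.f_oB hu) C.S.a_not_oB
  · rw [C.Psi_line hu, C.Psi_line hv] at e
    exact C.f_inj hu hv e
  · rw [C.Psi_line hu, Psi_cv] at e
    exact (C.S.not_both (C.f_oB hu) (e.symm ▸ C.cpt_oC j)).elim
  · rw [Psi_base, Psi_cv] at e
    exact absurd (e.symm ▸ C.cpt_oC i) C.S.a_not_oC
  · rw [Psi_cv, C.Psi_line hv] at e
    exact (C.S.not_both (C.f_oB hv) (e ▸ C.cpt_oC i)).elim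
  · rw [Psi_cv, Psi_cv] at e
    rw [C.cpt_inj e]

/-- the vertices as an equivalence -/
def PsiE : Fin 275 ≃ Ω :=
  Equiv.ofBijective C.Psi ((Fintype.bijective_iff_injective_and_card _).mpr ⟨C.Psi_inj, by rw [Fintype.card_fin, C.S.hΩ]⟩)

theorem PsiE_apply (u : Fin 275) : C.PsiE u = C.Psi u := rfl

theorem base_gp (s : Fin 3) : act (gG s).1 xB = xB := mem_Gx.1 (gG s).2

theorem absP_lt (s : Fin 3) (u : Fin 275) : absP C.o s u < 275 := by
  rcases three u with rfl | hu | ⟨i, rfl⟩
  · rw [absP, show (((xB : Fin 275) : ℕ) == Local.FS.McLSmall.Unitary.base || isL (xB : Fin 275)) = true by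
      rw [xB_val, beq_self_eq_true, Bool.true_or], cond_true, ← gG_val]
    exact (act (gG s).1 xB).2
  · rw [absP, hu, Bool.or_true, cond_true, ← gG_val]
    exact (act (gG s).1 u).2
  · obtain ⟨h1, h2, h3, h4⟩ := cv_facts i
    rw [absP, show ((cv i == Local.FS.McLSmall.Unitary.base) || isL (cv i)) = false by
      rw [h3, Bool.or_false]; exact beq_eq_false_iff_ne.mpr h4, cond_false]
    show cv (orbI C.o s (ci (cv i))) < 275
    rw [h2]
    exact (cv_facts ⟨_, (mask_step s C.o_lt i.2).1⟩).1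

theorem sm_Psi (s : Fin 3) (u : Fin 275) : C.sm (gG s) (C.Psi u) = C.Psi ⟨absP C.o s u, C.absP_lt s u⟩ := by
  rcases three u with rfl | hu | ⟨i, rfl⟩
  · rw [Psi_base, sm_a, ← Psi_base]
    congr 1
    refine Fin.ext ?_
    show (xB : ℕ) = absP C.o s (xB : Fin 275)
    rw [absP, show (((xB : Fin 275) : ℕ) == Local.FS.McLSmall.Unitary.base || isL (xB : Fin 275)) = true by
      rw [xB_val, beq_self_eq_true, Bool.true_or], cond_true, ← gG_val, base_gp]
  · have e : (⟨absP C.o s u, C.absP_lt s u⟩ : Fin 275) = act (gG s).1 u := Fin.ext (by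
      show absP C.o s u = _
      rw [absP, hu, Bool.or_true, cond_true, gG_val])
    rw [e, C.Psi_line hu, C.Psi_line ((isL_act _).mpr hu), C.f_act _ hu]
  · obtain ⟨h1, h2, h3, h4⟩ := cv_facts i
    rw [Psi_cv, sm_gG_cpt, ← Psi_cv]
    congr 1
    refine Fin.ext ?_
    show cv (orbI C.o s i) = absP C.o s (cv i)
    rw [absP, show ((cv i == Local.FS.McLSmall.Unitary.base) || isL (cv i)) = false by
      rw [h3, Bool.or_false]; exact beq_eq_false_iff_ne.mpr h4, cond_false, h2]

/-- the numbering of the points by the model -/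
def E : Ω ≃ Fin 275 := C.PsiE.symm.trans (kappa C.o_lt)

theorem E_Psi (u : Fin 275) : C.E (C.Psi u) = kappa C.o_lt u := by
  rw [E, Equiv.trans_apply, ← PsiE_apply, Equiv.symm_apply_apply]

theorem exists_word (g : Gx) : ∃ h : Gx, ∀ z, act h.1 (C.E z) = C.E (C.sm g z) := by
  refine gG_induct (p := fun g => ∃ h : Gx, ∀ z, act h.1 (C.E z) = C.E (C.sm g z)) (fun s => ?_) ?_ ?_ ?_ g
  · have hc := List.all_eq_true.mp (List.all_eq_true.mp conj_ok C.o (List.mem_range.mpr C.o_lt)) s.val
      (List.mem_range.mpr s.2)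
    simp only [confOK, Bool.and_eq_true] at hc
    refine ⟨(((psiW.getD (3 * C.o + s.val) []).pmap Fin.mk fun t ht =>
      of_decide_eq_true (List.all_eq_true.mp hc.1 t ht)).map gG).prod, fun z => ?_⟩
    obtain ⟨u, rfl⟩ := C.PsiE.surjective z
    rw [PsiE_apply, E_Psi, C.sm_Psi s u, E_Psi]
    refine Fin.ext ?_
    rw [act_word, List.map_pmap]
    have := beq_iff_eq.mp (List.all_eq_true.mp hc.2 u.val (List.mem_range.mpr u.2))
    simpa [kappa] using this
  · exact ⟨1, fun z => by rw [OneMemClass.coe_one, map_one, Equiv.Perm.one_apply, sm_one]⟩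
  · rintro x y ⟨h, hh⟩ ⟨k, hk⟩
    exact ⟨h * k, fun z => by rw [Subgroup.coe_mul, map_mul, Equiv.Perm.mul_apply, hk, hh, sm_mul]⟩
  · rintro x ⟨h, hh⟩
    refine ⟨h⁻¹, fun z => ?_⟩
    have := hh (C.sm x⁻¹ z)
    rw [← sm_mul, mul_inv_cancel, sm_one] at this
    rw [← this, Subgroup.coe_inv, map_inv, Equiv.Perm.inv_def, Equiv.symm_apply_apply]

/-- the representative vertices -/
def repF : Fin 3 → Fin 275
  | 0 => xB
  | 1 => l0
  | 2 => ⟨cv (0 : Fin 162), cv_lt 0⟩

theorem repF_val (r : Fin 3) : (repF r : ℕ) = rep r := by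
  fin_cases r <;> simp [repF, rep, l0_val, xB_val]

theorem not_base {u : Fin 275} (hu : u ≠ xB) : ((u : ℕ) == Local.FS.McLSmall.Unitary.base) = false :=
  beq_eq_false_iff_ne.mpr fun e => hu (Fin.ext (e.trans xB_val.symm))

theorem adj_rep (r : Fin 3) (v : Fin 275) : C.S.Adj (C.Psi (repF r)) (C.Psi v) ↔ absA C.o r v = true := by
  have hb0 : isL (xB : Fin 275) = false := by
    rcases vertex_cases xB with h | h | h
    · exact h.2
    · exact absurd rfl h.1
    · exact absurd rfl h.1
  fin_cases r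
  · simp only [repF, Fin.zero_eta, Psi_base, Fin.val_zero, absA, C.S.adj_a]
    rcases three v with rfl | hv | ⟨j, rfl⟩
    · rw [Psi_base, hb0]
      exact iff_of_false C.S.a_not_oB (by decide)
    · rw [C.Psi_line hv, hv]
      exact iff_of_true (C.f_oB hv) rfl
    · rw [Psi_cv, (cv_facts j).2.2.1]
      exact iff_of_false (fun h => C.S.not_both h (C.cpt_oC j)) (by decide)
  · simp only [repF, Fin.mk_one, Fin.val_one, absA, C.Psi_line isL_l0]
    rcases three v with rfl | hv | ⟨j, rfl⟩
    · rw [Psi_base, xB_val, beq_self_eq_true, cond_true]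
      exact iff_of_true (C.S.adj_symm ((C.S.adj_a _).mpr (C.f_oB isL_l0))) rfl
    · have hne : v ≠ xB := fun e => by rw [e, hb0] at hv; exact absurd hv (by decide)
      rw [not_base hne, cond_false, hv, cond_true, C.Psi_line hv, C.adj_f isL_l0 hv, MA_iff, l0_val]
    · have h2 := (cv_facts j).2.1
      have h3 := (cv_facts j).2.2.1
      have h4 := (cv_facts j).2.2.2
      rw [show ((cv j : ℕ) == Local.FS.McLSmall.Unitary.base) = false from beq_eq_false_iff_ne.mpr h4, cond_false]
      simp only [h3, cond_false]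
      rw [h2, Psi_cv, ← l0_val, ← C.adj_cpt j isL_l0]
      exact ⟨C.S.adj_symm, C.S.adj_symm⟩
  · simp only [repF, absA, Psi_cv]
    rcases three v with rfl | hv | ⟨j, rfl⟩
    · rw [Psi_base, xB_val, beq_self_eq_true, cond_true]
      exact iff_of_false (fun h => C.S.not_both ((C.S.adj_a _).mp (C.S.adj_symm h)) (C.cpt_oC 0)) (by decide)
    · have hne : v ≠ xB := fun e => by rw [e, hb0] at hv; exact absurd hv (by decide)
      rw [not_base hne, cond_false, hv, cond_true, C.Psi_line hv, C.adj_cpt 0 hv]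
      rfl
    · have h2 := (cv_facts j).2.1
      have h3 := (cv_facts j).2.2.1
      have h4 := (cv_facts j).2.2.2
      rw [show ((cv j : ℕ) == Local.FS.McLSmall.Unitary.base) = false from beq_eq_false_iff_ne.mpr h4, cond_false]
      simp only [h3, cond_false]
      rw [h2, Psi_cv, C.adj_root j]
      have e : ((cv j : ℕ) == cv 0) = (j.val == 0) := by
        rw [Bool.eq_iff_iff, beq_iff_eq, beq_iff_eq]
        refine ⟨fun e => ?_, fun e => by rw [e]⟩
        have := (cv_facts 0).2.1
        rw [Fin.val_zero] at this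
        rw [← h2, e, this]
      rw [e]

theorem adj_E (y z : Ω) : C.S.Adj y z ↔ MA (C.E y) (C.E z) := by
  -- every point is moved from one of three representatives
  have hy : ∃ g : Gx, ∃ r : Fin 3, C.sm g (C.Psi (repF r)) = y := by
    rcases C.S.cover y with rfl | h | h
    · exact ⟨1, 0, by simp only [repF]; rw [sm_one, Psi_base]⟩
    · obtain ⟨u, hu, rfl⟩ := C.f_surj h
      obtain ⟨g, rfl⟩ := exists_to_line hu
      exact ⟨g, 1, by simp only [repF]; rw [C.Psi_line isL_l0, C.f_act g isL_l0]⟩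
    · obtain ⟨i, rfl⟩ := C.cpt_surj h
      exact ⟨C.cg i, 2, by simp only [repF]; rw [Psi_cv, cpt_zero]; rfl⟩
  obtain ⟨g, r, rfl⟩ := hy
  obtain ⟨v, rfl⟩ : ∃ v, z = C.sm g (C.Psi v) := by
    refine ⟨C.PsiE.symm (C.sm g⁻¹ z), ?_⟩
    rw [← PsiE_apply, Equiv.apply_symm_apply, ← sm_mul, mul_inv_cancel, sm_one]
  obtain ⟨h, hh⟩ := C.exists_word g
  rw [adj_sm, ← hh, ← hh, C.adj_rep, MA, adj_act, E_Psi, E_Psi]
  have h2 := beq_iff_eq.mp (List.all_eq_true.mp (List.all_eq_true.mp (iso_rows C.o_lt) r.val (List.mem_range.mpr r.2))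
    v.val (List.mem_range.mpr v.2))
  show _ ↔ MA (kappa C.o_lt (repF r)) (kappa C.o_lt v)
  rw [MA_iff, show ((kappa C.o_lt (repF r) : Fin 275) : ℕ) = psi C.o (rep r) by rw [← repF_val]; rfl,
    show ((kappa C.o_lt v : Fin 275) : ℕ) = psi C.o v from rfl, h2]

end

end Ctx

/-! ### Automorphisms of the model graph -/

/-- the automorphisms fixing the first vertices of the base -/
def fixBase (i : ℕ) : Subgroup (Perm (Fin 275)) where
  carrier := {σ | (∀ u v, MA (σ u) (σ v) ↔ MA u v) ∧ ∀ k < i, ∀ u : Fin 275, u.val = bv k → σ u = u}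
  mul_mem' {σ τ} hs ht := ⟨fun u v => (hs.1 _ _).trans (ht.1 u v), fun k hk u hu => by
    rw [Equiv.Perm.mul_apply, ht.2 k hk u hu, hs.2 k hk u hu]⟩
  one_mem' := ⟨fun _ _ => Iff.rfl, fun _ _ _ _ => rfl⟩
  inv_mem' {σ} hs := ⟨fun u v => by
    conv_rhs => rw [← σ.apply_symm_apply u, ← σ.apply_symm_apply v, hs.1]
    rfl, fun k hk u hu => by
    conv_lhs => rw [← hs.2 k hk u hu]
    exact σ.symm_apply_apply u⟩

theorem bv_lt {k : ℕ} (hk : k < 15) : bv k < 275 := of_decide_eq_true (List.all_eq_true.mp base_counts.2.1 k (List.mem_range.mpr hk))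

theorem base_fix {σ : Perm (Fin 275)} (hσ : σ ∈ fixBase 15) : σ = 1 := by
  refine Equiv.ext fun v => ?_
  have hp : patt (σ v : ℕ) = patt v := by
    rw [patt, patt]
    refine List.foldl_ext _ _ _ ?_
    intro m k hk
    rw [List.mem_range] at hk
    have hb := hσ.2 k hk ⟨bv k, bv_lt hk⟩ rfl
    have h1 : adjM (bv k) (σ v : ℕ) = adjM (bv k) v := by
      rw [Bool.eq_iff_iff, ← MA_iff ⟨bv k, bv_lt hk⟩, ← MA_iff ⟨bv k, bv_lt hk⟩]
      conv_lhs => rw [← hb]
      exact hσ.1 _ _
    have h2 : ((σ v : ℕ) == bv k) = ((v : ℕ) == bv k) := by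
      rw [Bool.eq_iff_iff, beq_iff_eq, beq_iff_eq]
      refine ⟨fun e => ?_, fun e => by rw [show v = ⟨bv k, bv_lt hk⟩ from Fin.ext e, hb]⟩
      have : σ v = σ ⟨bv k, bv_lt hk⟩ := by rw [hb]; exact Fin.ext e
      rw [σ.injective this]
    rw [h1, h2]
  have := (base_patt.getElem_inj_iff (i := (σ v : ℕ)) (j := (v : ℕ))
    (hi := by rw [List.length_map, List.length_range]; exact (σ v).2)
    (hj := by rw [List.length_map, List.length_range]; exact v.2)).mp (by
      rw [List.getElem_map, List.getElem_map, List.getElem_range, List.getElem_range]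
      exact hp)
  exact Fin.ext this

theorem fix_step {i : ℕ} (hi : i < 15) :
    Nat.card (fixBase i) ≤ baseC.getD i 0 * Nat.card (fixBase (i + 1)) := by
  letI : MulAction (fixBase i) (Fin 275) := MulAction.compHom (Fin 275) (fixBase i).subtype
  set p : Fin 275 := ⟨bv i, bv_lt hi⟩ with hp
  have horb : (MulAction.orbit (fixBase i) p).ncard ≤ baseC.getD i 0 := by
    refine le_trans ?_ (of_decide_eq_true (List.all_eq_true.mp base_counts.2.2.2.1 i (List.mem_range.mpr hi)))
    refine le_trans ?_ (List.toFinset_card_le (cands i))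
    rw [← Set.ncard_coe_finset]
    refine le_trans (le_of_eq (Set.ncard_image_of_injective (MulAction.orbit (fixBase i) p) Fin.val_injective).symm)
      (Set.ncard_le_ncard ?_ (Finset.finite_toSet _))
    rintro x ⟨q, ⟨g, rfl⟩, rfl⟩
    rw [Finset.mem_coe, List.mem_toFinset, cands, List.mem_filter, List.mem_range]
    refine ⟨(g • p).2, List.all_eq_true.mpr fun k hk => ?_⟩
    rw [List.mem_range] at hk
    have hb := g.2.2 k hk ⟨bv k, bv_lt (hk.trans hi)⟩ rfl
    rw [Bool.and_eq_true, Bool.not_eq_true', beq_eq_false_iff_ne, beq_iff_eq]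
    refine ⟨fun e => ?_, ?_⟩
    · have e' : g.1 p = g.1 ⟨bv k, bv_lt (hk.trans hi)⟩ := by rw [hb]; exact Fin.ext e
      have := congrArg Fin.val (g.1.injective e')
      have hnd := base_counts.2.2.1
      rw [hp] at this
      change bv i = bv k at this
      rw [bv, bv, List.getD_eq_getElem _ _ (by rw [base_counts.1]; exact hi),
        List.getD_eq_getElem _ _ (by rw [base_counts.1]; exact hk.trans hi), hnd.getElem_inj_iff] at this
      omega
    · rw [Bool.eq_iff_iff]
      show adjM (bv k) (g.1 p : ℕ) = true ↔ adjM (bv k) (bv i) = true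
      rw [← MA_iff ⟨bv k, bv_lt (hk.trans hi)⟩, ← MA_iff ⟨bv k, bv_lt (hk.trans hi)⟩ p]
      conv_lhs => rw [← hb]
      exact g.2.1 _ _
  have hstab : Nat.card (MulAction.stabilizer (fixBase i) p) ≤ Nat.card (fixBase (i + 1)) := by
    refine Nat.card_le_card_of_injective (fun g => ⟨g.1.1, g.1.2.1, fun k hk u hu => ?_⟩)
      (fun g h e => Subtype.ext (Subtype.ext (congrArg Subtype.val e :)))
    rcases Nat.lt_succ_iff_lt_or_eq.mp hk with hk | rfl
    · exact g.1.2.2 k hk u hu
    · rw [show u = p from Fin.ext hu]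
      exact g.2
  rw [← Subgroup.card_mul_index (MulAction.stabilizer (fixBase i) p), MulAction.index_stabilizer, mul_comm]
  exact Nat.mul_le_mul horb hstab

theorem card_aut : Nat.card (fixBase 0) < 275 * 898128000 := by
  have h : ∀ n, n ≤ 15 → Nat.card (fixBase 0) ≤ ((List.range n).map fun i => baseC.getD i 0).prod * Nat.card (fixBase n) := by
    intro n
    induction n with
    | zero => simp
    | succ n ih =>
      intro hn
      refine (ih (by omega)).trans ?_
      rw [List.range_succ, List.map_append, List.map_singleton, List.prod_append, List.prod_singleton, mul_assoc]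
      exact Nat.mul_le_mul_left _ (fix_step (by omega))
  refine lt_of_le_of_lt ?_ base_counts.2.2.2.2
  refine (h 15 le_rfl).trans (le_of_eq ?_)
  have : fixBase 15 = ⊥ := (Subgroup.eq_bot_iff_forall _).mpr fun σ hσ => base_fix hσ
  rw [this, Subgroup.card_bot, mul_one]

namespace Ctx

noncomputable section

variable {Ω : Type*} [Fintype Ω] [DecidableEq Ω] (C : Ctx Ω)

/-- the group on the model -/
def phi : C.S.G →* Perm (Fin 275) := (C.E.permCongrHom).toMonoidHom.comp C.S.G.subtype

theorem phi_apply (g : C.S.G) (z : Ω) : C.phi g (C.E z) = C.E (g • z) := by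
  simp [phi, Equiv.permCongr_apply]
  rfl

theorem phi_inj : Function.Injective C.phi :=
  C.E.permCongrHom.injective.comp C.S.G.subtype_injective

theorem phi_aut (g : C.S.G) : C.phi g ∈ fixBase 0 := by
  refine ⟨fun u v => ?_, fun k hk => absurd hk (Nat.not_lt_zero k)⟩
  obtain ⟨y, rfl⟩ := C.E.surjective u
  obtain ⟨z, rfl⟩ := C.E.surjective v
  rw [phi_apply, phi_apply, ← adj_E, ← adj_E, Setting.adj_smul]

theorem iso : Nonempty (C.S.G ≃* K) := by
  haveI := Local.FS.McLSmall.Cent.finite_K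
  haveI := C.S.htrans
  haveI : Finite Gx := Nat.finite_of_card_ne_zero (by rw [card_Gx]; norm_num)
  set St := MulAction.stabilizer C.S.G C.S.a with hSt
  have hstab : Nat.card St = 3265920 := by rw [← card_Gx]; exact (Nat.card_congr C.θ.toEquiv).symm
  have hidx : St.index = 275 := by
    rw [hSt, MulAction.index_stabilizer_of_transitive, Nat.card_eq_fintype_card, C.S.hΩ]
  have hG : Nat.card C.S.G = 898128000 := by rw [← Subgroup.card_mul_index St, hstab, hidx]
  set P : Subgroup C.S.G := act.range.comap C.phi with hP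
  have hle : St ≤ P := fun k hk => by
    obtain ⟨h, hh⟩ := C.exists_word (C.θ.symm ⟨k, hk⟩)
    refine ⟨h.1, Equiv.ext fun u => ?_⟩
    obtain ⟨z, rfl⟩ := C.E.surjective u
    rw [hh, phi_apply, sm, gs, MulEquiv.apply_symm_apply]
  -- a larger subgroup is transitive
  by_cases htop : P = ⊤
  · have hbij : Function.Bijective (fun g : C.S.G => (⟨C.phi g, (htop ▸ Subgroup.mem_top g : g ∈ P)⟩ : act.range)) := by
      rw [Nat.bijective_iff_injective_and_card]
      refine ⟨fun g h e => C.phi_inj (congrArg Subtype.val e), ?_⟩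
      rw [hG, ← Nat.card_congr (MonoidHom.ofInjective act_injective).toEquiv, Local.FS.McLSmall.Cent.card_K]
    exact ⟨(MulEquiv.ofBijective (C.phi.codRestrict act.range fun g => (htop ▸ Subgroup.mem_top g : g ∈ P)) hbij).trans
      (MonoidHom.ofInjective act_injective).symm⟩
  exfalso
  have hPeq : P = St := by
    refine le_antisymm (fun k hk => ?_) hle
    by_contra hka
    apply htop
    have hkne : k • C.S.a ≠ C.S.a := fun e => hka e
    -- the orbit contains a whole suborbit
    have horb : MulAction.orbit St (k • C.S.a) ⊆ MulAction.orbit P C.S.a := by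
      rintro y ⟨s, rfl⟩
      exact ⟨⟨s.1 * k, P.mul_mem (hle s.2) hk⟩, mul_smul s.1 k C.S.a⟩
    have h113 : 113 ≤ (MulAction.orbit P C.S.a).ncard := by
      have hins : insert C.S.a (MulAction.orbit St (k • C.S.a)) ⊆ MulAction.orbit P C.S.a :=
        Set.insert_subset (MulAction.mem_orbit_self _) horb
      have hn : C.S.a ∉ MulAction.orbit St (k • C.S.a) := by
        rintro ⟨s, hs⟩
        apply hkne
        have : s.1 • (k • C.S.a) = s.1 • C.S.a := hs.trans s.2.symm
        exact MulAction.injective s.1 this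
      have := Set.ncard_le_ncard hins (Set.toFinite _)
      rw [Set.ncard_insert_of_notMem hn (Set.toFinite _)] at this
      rcases C.S.cover (k • C.S.a) with e | e | e
      · exact absurd e hkne
      · rw [show MulAction.orbit St (k • C.S.a) = C.S.oB from MulAction.orbit_eq_iff.mpr e, Setting.oB, C.S.hb] at this
        exact this
      · rw [show MulAction.orbit St (k • C.S.a) = C.S.oC from MulAction.orbit_eq_iff.mpr e, Setting.oC, C.S.hc] at this
        omega
    have hr : St.relIndex P = (MulAction.orbit P C.S.a).ncard := by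
      rw [← MulAction.index_stabilizer]
      rfl
    have hm := Subgroup.relIndex_mul_index hle
    rw [hr, hidx] at hm
    rw [← Subgroup.index_eq_one]
    rcases Nat.eq_or_lt_of_le (Nat.one_le_iff_ne_zero.mpr (Subgroup.index_ne_zero_of_finite (H := P))) with h | h
    · exact h.symm
    · exfalso
      have : 2 * 113 ≤ (MulAction.orbit P C.S.a).ncard * P.index := by
        rw [mul_comm 2]; exact Nat.mul_le_mul h113 h
      have hd : (MulAction.orbit P C.S.a).ncard ∣ 275 := ⟨_, hm.symm⟩
      have := Nat.le_of_dvd (by norm_num) hd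
      generalize (MulAction.orbit P C.S.a).ncard = n at *
      interval_cases n <;> omega
  -- too many automorphisms
  let ι : (C.S.G ⧸ P) × K → fixBase 0 := fun q => ⟨C.phi q.1.out * act q.2,
    (fixBase 0).mul_mem (C.phi_aut _) ⟨fun u v => adj_act _ u v, fun k hk => absurd hk (Nat.not_lt_zero k)⟩⟩
  have hι : Function.Injective ι := by
    rintro ⟨q, m⟩ ⟨q', m'⟩ e
    have e' : C.phi q.out * act m = C.phi q'.out * act m' := congrArg Subtype.val e
    have hmem : q'.out⁻¹ * q.out ∈ P := by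
      refine ⟨m' * m⁻¹, ?_⟩
      rw [map_mul, map_inv, map_mul, map_inv, eq_inv_mul_iff_mul_eq, ← mul_assoc, mul_inv_eq_iff_eq_mul, e']
    have hq : q = q' := by
      rw [← QuotientGroup.out_eq' q, ← QuotientGroup.out_eq' q']
      exact (QuotientGroup.eq.mpr hmem).symm
    subst hq
    rw [act_injective (mul_left_cancel e')]
  have := Nat.card_le_card_of_injective ι hι
  rw [Nat.card_prod, ← Subgroup.index_eq_card, hPeq, hidx, Local.FS.McLSmall.Cent.card_K] at this
  exact absurd card_aut (not_lt.mpr this)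

end

end Ctx

end Cfsg.Agent.Spor.MclUnique
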