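import Cfsg.Agent.Lib.Spor.U43Gens
import Cfsg.Agent.Lib.Local.FS.McLUnitaryStab

/-!
The reference group K1 of SU(6,2) permutes 280 sets of isotropic points as PSU(4,3) does on its
isotropic points; it is a central extension of PSU(4,3) by the scalars.
-/

set_option autoImplicit false
set_option maxRecDepth 100000

namespace Cfsg.Agent.Spor.U43

open Cfsg.Agent.Spor.CC Matrix
open Cfsg.Agent.Spor.SpFour (F4)
open Cfsg.Agent.Spor.SUSix (G6 uperm scal actN)

/-- an element maps one point set into another -/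
def Sends (A : G6) (i k : Fin 280) : Prop :=
  ∀ x : Fin 693, x.val ∈ famP i → ((uperm A x : Fin 693) : ℕ) ∈ famP k

theorem Sends.mul {A B : G6} {i j k : Fin 280} (ha : Sends A j k) (hb : Sends B i j) : Sends (A * B) i k := by
  intro x hx
  rw [map_mul, Equiv.Perm.mul_apply]
  exact ha _ (hb x hx)

theorem Sends.one (i : Fin 280) : Sends 1 i i := fun x hx => by rw [map_one]; exact hx

theorem fam_spec (i : Fin 280) : (famP i).length = 18 ∧ (famP i).Pairwise (· < ·) ∧ ∀ x ∈ famP i, x < 693 := by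
  have h := all_range (p := famOK) (st := 0) (len := 280) fam_ok (u := i.val) (Nat.zero_le _) (by omega)
  simp only [famOK, Bool.and_eq_true, decide_eq_true_eq] at h
  exact h.1

/-- the points of a set -/
def famF (i : Fin 280) : Finset (Fin 693) := Finset.univ.filter fun x => x.val ∈ famP i

theorem map_famF (i : Fin 280) : (famF i).map Fin.valEmbedding = (famP i).toFinset := by
  ext x
  simp only [famF, Finset.mem_map, Finset.mem_filter, Finset.mem_univ, true_and, Fin.valEmbedding_apply,
    List.mem_toFinset]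
  exact ⟨fun ⟨a, ha, e⟩ => e ▸ ha, fun hx => ⟨⟨x, (fam_spec i).2.2 x hx⟩, hx, rfl⟩⟩

theorem card_famF (i : Fin 280) : (famF i).card = 18 := by
  rw [← Finset.card_map Fin.valEmbedding, map_famF, List.toFinset_card_of_nodup
    ((fam_spec i).2.1.imp fun h => ne_of_lt h), (fam_spec i).1]

theorem famF_inj {i j : Fin 280} (h : famF i = famF j) : i = j := by
  have e := congrArg (Finset.map Fin.valEmbedding) h
  rw [map_famF, map_famF] at e
  have hp := (List.perm_ext_iff_of_nodup ((fam_spec i).2.1.imp fun h => ne_of_lt h)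
    ((fam_spec j).2.1.imp fun h => ne_of_lt h)).mpr fun a => by
      rw [← List.mem_toFinset, e, List.mem_toFinset]
  have hl : famP i = famP j := hp.eq_of_pairwise' ((fam_spec i).2.1.imp le_of_lt) ((fam_spec j).2.1.imp le_of_lt)
  have hk : ((List.range 280).map famK)[i.val]'(by simp) = ((List.range 280).map famK)[j.val]'(by simp) := by
    simp [famK, hl]
  exact Fin.ext (fam_distinct.getElem_inj_iff.mp hk)

theorem Sends.unique {A : G6} {i k k' : Fin 280} (h : Sends A i k) (h' : Sends A i k') : k = k' := by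
  have key : ∀ m, Sends A i m → (famF i).map (uperm A).toEmbedding = famF m := fun m hm => by
    refine Finset.eq_of_subset_of_card_le ?_ (by rw [Finset.card_map, card_famF, card_famF])
    intro y hy
    obtain ⟨x, hx, rfl⟩ := Finset.mem_map.mp hy
    exact Finset.mem_filter.mpr ⟨Finset.mem_univ _, hm x (Finset.mem_filter.mp hx).2⟩
  exact famF_inj ((key k h).symm.trans (key k' h'))

/-- the elements permuting the point sets -/
def FamG : Subgroup G6 where
  carrier := {A | ∀ i, ∃ k, Sends A i k}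
  one_mem' := fun i => ⟨i, Sends.one i⟩
  mul_mem' ha hb := fun i => by
    obtain ⟨j, hj⟩ := hb i
    obtain ⟨k, hk⟩ := ha j
    exact ⟨k, hk.mul hj⟩
  inv_mem' {A} h := by
    obtain ⟨n, hn⟩ := (isOfFinOrder_of_finite A).mem_powers_iff_mem_zpowers.mpr ⟨-1, zpow_neg_one A⟩
    intro i
    rw [← hn]
    clear hn
    induction n with
    | zero => exact ⟨i, Sends.one i⟩
    | succ m ih =>
      obtain ⟨j, hj⟩ := ih
      obtain ⟨k, hk⟩ := h j
      refine ⟨k, ?_⟩
      show Sends (A ^ (m + 1)) i k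
      rw [pow_succ']
      exact hk.mul hj

/-- the image of a set -/
noncomputable def fimg (A : FamG) (i : Fin 280) : Fin 280 := (A.2 i).choose

theorem fimg_spec (A : FamG) (i : Fin 280) : Sends A.1 i (fimg A i) := (A.2 i).choose_spec

/-- the action on the point sets -/
noncomputable def famHom : FamG →* Equiv.Perm (Fin 280) :=
  MonoidHom.toHomPerm
    { toFun := fimg
      map_one' := funext fun i => (fimg_spec 1 i).unique (Sends.one i)
      map_mul' := fun a b => funext fun i => (fimg_spec (a * b) i).unique ((fimg_spec a _).mul (fimg_spec b i)) }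

theorem famHom_eq (A : FamG) {i k : Fin 280} (h : Sends A.1 i k) : famHom A i = k :=
  (fimg_spec A i).unique h

/-- the image of a renumbered set under a generator -/
def qF (s : Fin 6) (i : Fin 280) : Fin 280 := Fin.ofNat 280 (qv s i)

theorem gk_sends (s : Fin 6) (i : Fin 280) : Sends (gk s) i (qF s i) ∧ qv s i < 280 := by
  have h := all_range (p := famOK) (st := 0) (len := 280) fam_ok (u := i.val) (Nat.zero_le _) (by omega)
  simp only [famOK, Bool.and_eq_true, decide_eq_true_eq, List.all_eq_true, List.mem_range] at h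
  obtain ⟨hlt, hall⟩ := h.2 s.val s.2
  refine ⟨fun x hx => ?_, hlt⟩
  have hu := all_range (p := upOK s) (st := 0) (len := 693) (up_ok s s.2) (u := x.val) (Nat.zero_le _) (by omega)
  simp only [upOK, beq_iff_eq] at hu
  have := hall x.val hx
  rw [List.contains_iff_mem] at this
  rw [SUSix.uperm_val, show (gk s).1.1 = matL (GK.getD s []) from mat_gk s, hu, qF,
    show (Fin.ofNat 280 (qv s i)).val = qv s i from Nat.mod_eq_of_lt hlt]
  exact this

theorem K1_le_FamG : K1 ≤ FamG :=
  (Subgroup.closure_le _).mpr fun _ ⟨s, hs⟩ => hs ▸ fun i => ⟨_, (gk_sends s i).1⟩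

/-- the reference group acting on 280 objects -/
noncomputable def pi1 : K1 →* Equiv.Perm (Fin 280) := famHom.comp (Subgroup.inclusion K1_le_FamG)

theorem pi1_gk (s : Fin 6) (i : Fin 280) : ((pi1 ⟨gk s, gk_mem s⟩ i : Fin 280) : ℕ) = qv s i := by
  rw [show pi1 ⟨gk s, gk_mem s⟩ i = qF s i from famHom_eq _ (gk_sends s i).1]
  exact Nat.mod_eq_of_lt (gk_sends s i).2

theorem eval_word {ι : Type} (P : ι → Equiv.Perm (Fin 280)) (T : ℕ → ℕ → ℕ) (num : ι → ℕ)
    (h : ∀ a i, ((P a i : Fin 280) : ℕ) = T (num a) i) :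
    ∀ (w : List ι) (i : Fin 280), (((w.map P).prod i : Fin 280) : ℕ) = evW T (w.map num) i
  | [], i => rfl
  | a :: w, i => by
    rw [List.map_cons, List.prod_cons, Equiv.Perm.mul_apply, h, eval_word P T num h w i]
    rfl

theorem pi1_range_card : Nat.card pi1.range = 3265920 ∧
    ∀ (F : Type) [Field F] [Fintype F], Fintype.card F = 9 → Nonempty (pi1.range ≃* Cfsg.PSU 4 F 3) := by
  have key : ∀ (F : Type) [Field F] [Fintype F], Fintype.card F = 9 →
      Nat.card pi1.range = 3265920 ∧ Nonempty (pi1.range ≃* Cfsg.PSU 4 F 3) := by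
    intro F _ _ hF
    obtain ⟨hcard, Φ, hΦ⟩ := Local.FS.McLSmall.Unitary.exists_psu_action hF
    haveI : Finite (Cfsg.PSU 4 F 3) := Nat.finite_of_card_ne_zero (by rw [hcard]; norm_num)
    choose g hg using hΦ
    have hP : ∀ (s : Fin 3) (i : Fin 280), ((Φ (g s) i : Fin 280) : ℕ) = sgv s i := fun s i => by
      rw [hg]
      have h := sig_ok s
      simp only [List.all_eq_true, List.mem_range, beq_iff_eq] at h
      have := h i.val i.2
      rwa [show Fin.ofNat 280 i.val = i from Fin.ext (Nat.mod_eq_of_lt i.2)] at this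
    have hA : ∀ s : Fin 6, pi1 ⟨gk s, gk_mem s⟩ ∈ Φ.range := by
      intro s
      obtain ⟨hlt, hev⟩ := wordA_ok s s.2
      simp only [List.all_eq_true, decide_eq_true_eq] at hlt
      let w : List (Fin 3) := (wordA.getD s []).pmap Fin.mk hlt
      refine ⟨(w.map g).prod, Equiv.ext fun i => Fin.ext ?_⟩
      rw [map_list_prod, List.map_map, pi1_gk, eval_word (Φ ∘ g) sgv Fin.val hP]
      have := all_range (p := fun i => evW sgv (wordA.getD s []) i == qv s i) (st := 0) (len := 280) hev
        (u := i.val) (Nat.zero_le _) (by omega)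
      rw [beq_iff_eq] at this
      rw [← this]
      congr 1
      simp [w, List.map_pmap]
    have hle : pi1.range ≤ Φ.range := by
      rintro _ ⟨⟨x, hx⟩, rfl⟩
      induction hx using Subgroup.closure_induction with
      | mem x hx => obtain ⟨s, rfl⟩ := hx; exact hA s
      | one => exact (map_one pi1).symm ▸ one_mem _
      | mul a b ha hb iha ihb => exact (map_mul pi1 ⟨a, ha⟩ ⟨b, hb⟩) ▸ mul_mem iha ihb
      | inv a ha iha => exact (map_inv pi1 ⟨a, ha⟩) ▸ inv_mem iha
    have hge : Local.FS.McLSmall.Unitary.tau.range ≤ pi1.range := by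
      refine Local.FS.McLSmall.Unitary.tau_range_le _ fun s => ?_
      obtain ⟨hlt, hev⟩ := wordB_ok s s.2
      simp only [List.all_eq_true, decide_eq_true_eq] at hlt
      let w : List (Fin 6) := (wordB.getD s []).pmap Fin.mk hlt
      refine ⟨(w.map fun t => pi1 ⟨gk t, gk_mem t⟩).prod, ?_, fun i => ?_⟩
      · refine list_prod_mem fun y hy => ?_
        obtain ⟨t, -, rfl⟩ := List.mem_map.mp hy
        exact ⟨_, rfl⟩
      · show _ = Local.FS.McLSmall.Unitary.sig s i
        rw [← hg s i]
        refine Fin.ext ?_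
        rw [hP, eval_word _ qv Fin.val pi1_gk]
        have := all_range (p := fun i => evW qv (wordB.getD s []) i == sgv s i) (st := 0) (len := 280) hev
          (u := i.val) (Nat.zero_le _) (by omega)
        rw [beq_iff_eq] at this
        rw [← this]
        congr 1
        simp [w, List.map_pmap]
    have h1 : Nat.card Local.FS.McLSmall.Unitary.tau.range = 3265920 := by
      rw [← Local.FS.McLSmall.Unitary.card_Gx]
      exact (Nat.card_congr (MonoidHom.ofInjective Local.FS.McLSmall.Unitary.tau_injective).toEquiv).symm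
    have h2 : Nat.card Φ.range ≤ 3265920 := hcard ▸ Finite.card_range_le Φ
    have h3 : 3265920 ≤ Nat.card pi1.range := h1 ▸ Subgroup.card_le_of_le hge
    have heq : pi1.range = Φ.range := Subgroup.eq_of_le_of_card_ge hle (h2.trans h3)
    have hc : Nat.card pi1.range = 3265920 := le_antisymm (heq ▸ h2) h3
    have hbij : Function.Bijective Φ.rangeRestrict :=
      (Nat.bijective_iff_surjective_and_card _).2 ⟨Φ.rangeRestrict_surjective, by rw [hcard, ← heq, hc]⟩
    exact ⟨hc, ⟨(MulEquiv.subgroupCongr heq).trans (MulEquiv.ofBijective Φ.rangeRestrict hbij).symm⟩⟩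
  refine ⟨?_, fun F _ _ hF => (key F hF).2⟩
  haveI : Fact (Nat.Prime 3) := ⟨by norm_num⟩
  haveI : Fintype (GaloisField 3 2) := Fintype.ofFinite _
  exact (key (GaloisField 3 2) (by rw [← Nat.card_eq_fintype_card, GaloisField.card 3 2 (by norm_num)]; norm_num)).1

/-! ### The kernel -/

theorem fixed_of_ker {A : K1} (hA : pi1 A = 1) {x : ℕ × List ℕ} (hx : x ∈ sepD) :
    ∃ c : F4, mat A.1 *ᵥ SUSix.vecOf (SUSix.pt x.1) = c • SUSix.vecOf (SUSix.pt x.1) := by
  have hs := List.all_eq_true.mp sev_ok x hx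
  simp only [sepOK, Bool.and_eq_true, decide_eq_true_eq, List.all_eq_true, Bool.or_eq_true, beq_iff_eq,
    List.any_eq_true, Bool.not_eq_true', List.contains_iff_mem] at hs
  obtain ⟨⟨⟨hlt, hne, hj⟩, hmem⟩, hiso⟩ := hs
  have himg : ∀ j ∈ x.2, ((uperm A.1 ⟨x.1, hlt⟩ : Fin 693) : ℕ) ∈ famD.getD j [] := fun j hjx => by
    have hr := all_range (p := fun j => decide (fld riT 16 j < 280) && (fld rhoT 16 (fld riT 16 j) == j))
      (st := 0) (len := 280) ri_ok (u := j) (Nat.zero_le _) (by have := hj j hjx; omega)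
    simp only [Bool.and_eq_true, decide_eq_true_eq, beq_iff_eq] at hr
    have hP : famP (⟨fld riT 16 j, hr.1⟩ : Fin 280) = famD.getD j [] := by simp only [famP, hr.2]
    have hS := fimg_spec (Subgroup.inclusion K1_le_FamG A) ⟨fld riT 16 j, hr.1⟩
    rw [show fimg (Subgroup.inclusion K1_le_FamG A) ⟨fld riT 16 j, hr.1⟩ = ⟨fld riT 16 j, hr.1⟩ from
      congrArg (fun σ : Equiv.Perm (Fin 280) => σ ⟨fld riT 16 j, hr.1⟩) hA] at hS
    exact hP ▸ hS ⟨x.1, hlt⟩ (by rw [hP]; exact hmem j hjx)
  obtain ⟨j0, hj0⟩ : ∃ j0, x.2.headI = j0 ∧ j0 ∈ x.2 := by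
    cases hx2 : x.2 with
    | nil => exact absurd hx2 hne
    | cons a t => exact ⟨a, rfl, List.mem_cons_self⟩
  have hfix : ((uperm A.1 ⟨x.1, hlt⟩ : Fin 693) : ℕ) = x.1 := by
    rcases hiso _ (hj0.1 ▸ himg j0 hj0.2) with h | ⟨j, hjx, hno⟩
    · exact h
    · exact absurd (himg j hjx) (by simpa [List.contains_iff_mem] using hno)
  obtain ⟨-, c, -, he⟩ := SUSix.exists_pt _ (SUSix.img_ok A.1 hlt).1 (SUSix.img_ok A.1 hlt).2
  have hidx : SUSix.idx (SUSix.code (A.1.1.1 *ᵥ SUSix.vecOf (SUSix.pt x.1))) = x.1 := hfix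
  rw [hidx] at he
  exact ⟨c, he⟩

theorem ker_pi1 : pi1.ker = (Subgroup.center G6).subgroupOf K1 := by
  ext A
  rw [MonoidHom.mem_ker, Subgroup.mem_subgroupOf]
  constructor
  · intro hA
    have hlen : sepD.length = 7 := rfl
    have hm : ∀ n, n < 7 → sepD.getD n (0, []) ∈ sepD := fun n hn => by
      rw [List.getD_eq_getElem _ _ (hlen.symm ▸ hn)]; exact List.getElem_mem _
    obtain ⟨hBI, hB, hv⟩ := bas_ok
    choose l hl using fun j : Fin 6 => fixed_of_ker hA (hm j.val (by omega))
    obtain ⟨μ, hμ⟩ := fixed_of_ker hA (hm 6 (by norm_num))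
    have hAB : mat A.1 * matL basB = matL basB * Matrix.diagonal l := by
      ext i j
      have := congrFun (hl j) i
      rw [← hB j] at this
      rw [Matrix.mul_diagonal, mul_comm]
      exact this
    have hIB : matL basI * matL basB = 1 := mul_eq_one_comm.mp hBI
    have hd : Matrix.diagonal l = matL basI * (mat A.1 * matL basB) := by
      rw [hAB, ← mul_assoc, hIB, one_mul]
    set v := SUSix.vecOf (SUSix.pt (sepD.getD 6 (0, [])).1) with hv'
    have hall : ∀ j, l j = μ := fun j => by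
      have e : Matrix.diagonal l *ᵥ (matL basI *ᵥ v) = μ • (matL basI *ᵥ v) := by
        rw [hd, Matrix.mulVec_mulVec, mul_assoc, mul_assoc, hBI, mul_one, ← Matrix.mulVec_mulVec, hμ,
          Matrix.mulVec_smul]
      have e' := congrFun e j
      rw [Matrix.mulVec_diagonal, Pi.smul_apply, smul_eq_mul] at e'
      exact mul_right_cancel₀ (hv j) e'
    refine mem_center_of_scal (c := μ) ?_
    have hl' : l = fun _ => μ := funext hall
    have : mat A.1 = matL basB * Matrix.diagonal l * matL basI := by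
      rw [← hAB, mul_assoc, hBI, mul_one]
    rw [this, hl', SUSix.scal]
    rw [show Matrix.diagonal (fun _ : Fin 6 => μ) = μ • (1 : M6) from (Matrix.smul_one_eq_diagonal μ).symm,
      Matrix.mul_smul, Matrix.smul_mul, mul_one, hBI]
  · intro hA
    have hu : uperm A.1 = 1 := MonoidHom.mem_ker.mp (SUSix.ker_eq ▸ hA)
    exact Equiv.ext fun i => famHom_eq (Subgroup.inclusion K1_le_FamG A) (fun x hx => by
      show ((uperm A.1 x : Fin 693) : ℕ) ∈ famP i
      rw [hu]; exact hx)

theorem center_le_K1 : Subgroup.center G6 ≤ K1 := center_le_DD.trans DD_le_K1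

theorem card_K1 : Nat.card K1 = 9797760 := by
  rw [Subgroup.card_eq_card_quotient_mul_card_subgroup pi1.ker,
    Nat.card_congr (QuotientGroup.quotientKerEquivRange pi1).toEquiv, pi1_range_card.1, ker_pi1,
    Nat.card_congr (Subgroup.subgroupOfEquivOfLe center_le_K1).toEquiv, SUSix.card_center]

theorem center_K1 : Subgroup.center K1 = (Subgroup.center G6).subgroupOf K1 := by
  refine le_antisymm ?_ fun z hz => Subgroup.mem_center_iff.mpr fun y =>
    Subtype.ext (Subgroup.mem_center_iff.mp (Subgroup.mem_subgroupOf.mp hz) y.1)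
  intro z hz
  rw [Subgroup.mem_subgroupOf]
  have hcomm : ∀ y ∈ K1, y * z.1 = z.1 * y := fun y hy =>
    congrArg Subtype.val (Subgroup.mem_center_iff.mp hz ⟨y, hy⟩)
  have hN : z.1 ∈ NN := mem_NN_of_normalises fun d hd => by
    rw [← hcomm d (DD_le_K1 hd), mul_assoc, mul_inv_cancel, mul_one]; exact hd
  -- commuting with the diagonal group the element is diagonal
  have hdiag : z.1 ∈ DD := mem_lift6.mpr ⟨hN, Subgroup.mem_bot.mpr (Equiv.ext fun j => by
    by_contra hne
    obtain ⟨hok, hsep⟩ := sep_ok j (mp ⟨z.1, hN⟩ j) (fun e => hne e.symm)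
    have e := hcomm (dE (ev (sepV j (mp ⟨z.1, hN⟩ j)))) (DD_le_K1 (dE_mem _))
    have e' : mat z.1 * Matrix.diagonal (sepV j (mp ⟨z.1, hN⟩ j)) =
        (1 : F4) • (Matrix.diagonal (sepV j (mp ⟨z.1, hN⟩ j)) * mat z.1) := by
      rw [one_smul]
      have := congrArg mat e
      rw [mat_mul, mat_mul] at this
      have hm : mat (dE (ev (sepV j (mp ⟨z.1, hN⟩ j)))) = Matrix.diagonal (sepV j (mp ⟨z.1, hN⟩ j)) := by
        show Matrix.diagonal (fv _) = _
        rw [fv_ev hok]
      rw [hm] at this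
      exact this.symm
    exact hsep (by simpa using diag_comm hN e' j))⟩
  refine mem_center_of_scal (c := dia (mat z.1) 0) ?_
  rw [SUSix.scal]
  conv_lhs => rw [mat_DD hdiag]
  congr 1
  funext j
  have hperm : ∀ p : Equiv.Perm (Fin 6), pm p ∈ K1 → ∀ k, dia (mat z.1) k = dia (mat z.1) (p k) := fun p hp k => by
    have := congrArg mat (hcomm _ hp)
    rw [mat_mul, mat_mul, mat_DD hdiag] at this
    have h := diag_comm (pm_mem p) (c := 1) (by rw [one_smul]; exact this) k
    rwa [one_mul, mp_pm] at h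
  have h5 := hperm c5 (gk_mem 3)
  have hB := hperm sB (gk_mem 2)
  have k0 := h5 0; have k1 := h5 1; have k2 := h5 2; have k3 := h5 3; have k4 := hB 4
  rw [show c5 0 = 1 by decide] at k0
  rw [show c5 1 = 2 by decide] at k1
  rw [show c5 2 = 3 by decide] at k2
  rw [show c5 3 = 4 by decide] at k3
  rw [show sB 4 = 5 by decide] at k4
  fin_cases j
  exacts [rfl, k0.symm, (k0.trans k1).symm, (k0.trans (k1.trans k2)).symm,
    (k0.trans (k1.trans (k2.trans k3))).symm, (k0.trans (k1.trans (k2.trans (k3.trans k4)))).symm]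

theorem card_center_K1 : Nat.card (Subgroup.center K1) = 3 := by
  rw [center_K1, Nat.card_congr (Subgroup.subgroupOfEquivOfLe center_le_K1).toEquiv, SUSix.card_center]

theorem K1_iso (F : Type) [Field F] [Fintype F] (hF : Fintype.card F = 9) :
    Nonempty (K1 ⧸ Subgroup.center K1 ≃* Cfsg.PSU 4 F 3) := by
  obtain ⟨e⟩ := pi1_range_card.2 F hF
  exact ⟨((QuotientGroup.quotientMulEquivOfEq (by rw [center_K1, ker_pi1])).trans
    (QuotientGroup.quotientKerEquivRange pi1)).trans e⟩

/-! ### The transposition is not in the reference group -/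

/-- the code of a representative -/
def cosC (n : ℕ) : List ℕ := (cosD.getD n (0, 0, [])).2.2

theorem cos_mem : ∀ n, n < 112 → Has K1 (cosC n) := by
  intro n
  induction n using Nat.strong_induction_on with
  | _ n ih =>
    intro hn
    have h := cos_ok n hn
    simp only [cosOK] at h
    rcases eq_or_ne n 0 with rfl | h0
    · rw [if_pos rfl, beq_iff_eq] at h
      rw [cosC, h]; exact Has.one _
    · rw [if_neg h0, Bool.and_eq_true, decide_eq_true_eq, beq_iff_eq] at h
      obtain ⟨⟨h1, h2⟩, h3⟩ := h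
      rw [cosC, ← h3]
      exact Has.mul ⟨gk ⟨_, h2⟩, gk_mem _, mat_gk ⟨_, h2⟩⟩ (ih _ h1 (h1.trans hn))

theorem testBit_fold {α : Type} (f : α → ℕ) (k : ℕ) : ∀ (cs : List α) (m : ℕ),
    (cs.foldl (fun m c => m ||| 2 ^ f c) m).testBit k = true ↔ m.testBit k = true ∨ ∃ c ∈ cs, f c = k
  | [], m => by simp
  | a :: t, m => by simp [testBit_fold f k t, Nat.testBit_two_pow, or_assoc]

theorem testBit_fold_fold {α β : Type} (f : α → β → ℕ) (k : ℕ) (cs : List β) : ∀ (js : List α) (m : ℕ),
    (js.foldl (fun m j => cs.foldl (fun m c => m ||| 2 ^ f j c) m) m).testBit k = true ↔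
      m.testBit k = true ∨ ∃ j ∈ js, ∃ c ∈ cs, f j c = k
  | [], m => by simp
  | a :: t, m => by
    rw [List.foldl_cons, testBit_fold_fold f k cs t, testBit_fold (f a) k cs]
    simp only [List.mem_cons, exists_eq_or_imp, or_assoc]

theorem testBit_key (l : List ℕ) (k : ℕ) :
    (keyOf l).testBit k = true ↔ ∃ j : Fin 6, ∃ c : F4, c ≠ 0 ∧ SUSix.code (c • fun i => matL l i j) = k := by
  rw [keyOf, testBit_fold_fold (fun j c => SUSix.code (c • fun i => matL l i j)) k]
  simp only [Nat.zero_testBit, Bool.false_eq_true, false_or]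
  constructor
  · rintro ⟨j, -, c, hc, h⟩
    exact ⟨j, c, by revert hc; cases c <;> decide, h⟩
  · rintro ⟨j, c, hc, h⟩
    exact ⟨j, by fin_cases j <;> simp, c, by revert hc; cases c <;> decide, h⟩

theorem key_le {a b : List ℕ} {x y : G6} (hx : mat x = matL a) (hy : mat y = matL b) (h : x⁻¹ * y ∈ NN) {k : ℕ}
    (hk : (keyOf b).testBit k = true) : (keyOf a).testBit k = true := by
  obtain ⟨j, c, hc, he⟩ := (testBit_key b k).mp hk
  refine (testBit_key a k).mpr ⟨rowAt ⟨_, h⟩ j, c * mat (x⁻¹ * y) (rowAt ⟨_, h⟩ j) j,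
    mul_ne_zero hc (rowAt_ne ⟨_, h⟩ j), ?_⟩
  rw [← he]
  congr 1
  funext i
  simp only [Pi.smul_apply, smul_eq_mul, ← hx, ← hy]
  rw [show mat y i j = mat (x * (x⁻¹ * y)) i j by rw [mul_inv_cancel_left], mat_mul x, Matrix.mul_apply,
    Finset.sum_eq_single (rowAt ⟨_, h⟩ j) (fun r _ hr => by rw [entry_zero ⟨_, h⟩ hr, mul_zero])
      (fun h => absurd (Finset.mem_univ _) h)]
  rw [mul_assoc, mul_comm (mat (x⁻¹ * y) (rowAt ⟨_, h⟩ j) j)]

theorem t01_odd : Equiv.Perm.sign t01 = -1 := by decide +kernel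

theorem t01_notMem : pm t01 ∉ K1 := by
  intro hmem
  -- then the whole monomial group lies in the reference group
  have hNN : NN ≤ K1 := by
    intro x hx
    rcases Int.units_eq_one_or (Equiv.Perm.sign (mp ⟨x, hx⟩)) with h | h
    · exact MM_le_K1 (mem_MM.mpr ⟨hx, h⟩)
    · have : x * pm t01 ∈ MM := mem_MM.mpr ⟨mul_mem hx (pm_mem _), by
        rw [show (⟨x * pm t01, _⟩ : NN) = ⟨x, hx⟩ * ⟨pm t01, pm_mem _⟩ from rfl, map_mul, map_mul, mp_pm, h,
          t01_odd]
        decide⟩
      have := mul_mem (MM_le_K1 this) (inv_mem hmem)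
      rwa [mul_inv_cancel_right] at this
  choose x hx hm using fun n : Fin 112 => cos_mem n.val n.2
  have hinj : ∀ a b : Fin 112, (x a)⁻¹ * x b ∈ NN → a = b := fun a b h => by
    have h' : (x b)⁻¹ * x a ∈ NN := by simpa using inv_mem h
    have e : keyOf (cosC a) = keyOf (cosC b) := Nat.eq_of_testBit_eq fun k => by
      rw [Bool.eq_iff_iff]
      exact ⟨key_le (hm b) (hm a) h', key_le (hm a) (hm b) h⟩
    have hc : ∀ n : Fin 112, cosKeys[n.val]'(by simp [cosKeys, cos_len]) = keyOf (cosC n) := fun n => by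
      simp [cosKeys, cosC, List.getElem?_eq_getElem (show n.val < cosD.length by rw [cos_len]; exact n.2)]
    exact Fin.ext (cos_keys.getElem_inj_iff.mp ((hc a).trans (e.trans (hc b).symm)))
  have hf : Function.Injective (fun p : Fin 112 × NN => (⟨x p.1 * p.2.1, mul_mem (hx _) (hNN p.2.2)⟩ : K1)) := by
    rintro ⟨a, m⟩ ⟨b, m'⟩ e
    have e' : x a * m.1 = x b * m'.1 := congrArg Subtype.val e
    have hab : (x a)⁻¹ * x b ∈ NN := by
      rw [show (x a)⁻¹ * x b = m.1 * m'.1⁻¹ by
        rw [eq_mul_inv_iff_mul_eq, mul_assoc, ← e', inv_mul_cancel_left]]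
      exact mul_mem m.2 (inv_mem m'.2)
    obtain rfl := hinj a b hab
    exact Prod.ext rfl (Subtype.ext (mul_left_cancel e'))
  have hle := Nat.card_le_card_of_injective _ hf
  have hN : Nat.card NN = 720 * 243 := by
    rw [show NN = lift6 ⊤ from le_antisymm (fun A hA => mem_lift6.mpr ⟨hA, Subgroup.mem_top _⟩) (lift6_le _), card_lift6,
      Subgroup.card_top, Nat.card_perm, Nat.card_fin]
    rfl
  rw [Nat.card_prod, Nat.card_fin, hN, card_K1] at hle
  norm_num at hle

end Cfsg.Agent.Spor.U43
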