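import Mathlib

/-!
Sylow conjugacy inside a subgroup, and a transfer of Sylow data along an isomorphism.
-/

set_option autoImplicit false

namespace Cfsg.Agent.Spor.U43

/-- Two subgroups of the order of a Sylow subgroup inside a finite subgroup are conjugate inside it. -/
theorem exists_conj_of_card {G : Type*} [Group G] [Finite G] {p n : ℕ} [Fact p.Prime] {K P Q : Subgroup G}
    (hK : (Nat.card K).factorization p = n) (hP : P ≤ K) (hQ : Q ≤ K) (hPc : Nat.card P = p ^ n)
    (hQc : Nat.card Q = p ^ n) : ∃ k ∈ K, P.map (MulAut.conj k).toMonoidHom = Q := by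
  let SP : Sylow p K := Sylow.ofCard (P.subgroupOf K)
    (by rw [Nat.card_congr (Subgroup.subgroupOfEquivOfLe hP).toEquiv, hPc, hK])
  let SQ : Sylow p K := Sylow.ofCard (Q.subgroupOf K)
    (by rw [Nat.card_congr (Subgroup.subgroupOfEquivOfLe hQ).toEquiv, hQc, hK])
  obtain ⟨k, hk⟩ := MulAction.exists_smul_eq K SP SQ
  refine ⟨k.1, k.2, ?_⟩
  have h : (SP : Subgroup K).map (MulAut.conj k).toMonoidHom = (SQ : Subgroup K) := by
    rw [← hk]
    rfl
  rw [Sylow.coe_ofCard, Sylow.coe_ofCard] at h
  have h' := congrArg (Subgroup.map K.subtype) h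
  rw [Subgroup.map_subgroupOf_eq_of_le hQ, Subgroup.map_map] at h'
  rw [← h']
  conv_lhs => rw [← Subgroup.map_subgroupOf_eq_of_le hP, Subgroup.map_map]
  rfl

theorem fact_three (n m : ℕ) (hm : ¬ 3 ∣ m) : (3 ^ n * m).factorization 3 = n := by
  rw [Nat.factorization_mul (pow_ne_zero _ (by norm_num)) (fun h => hm (by rw [h]; exact dvd_zero 3)),
    Finsupp.add_apply, Nat.factorization_eq_zero_of_not_dvd hm, Nat.Prime.factorization_pow Nat.prime_three,
    Finsupp.single_eq_same, add_zero]

theorem fact27 : (3265920 : ℕ).factorization 3 = 6 := by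
  have h := fact_three 6 4480 (by norm_num)
  norm_num at h
  exact h

theorem fact37 : (9797760 : ℕ).factorization 3 = 7 := by
  have h := fact_three 7 4480 (by norm_num)
  norm_num at h
  exact h

theorem fact_su : (27590492160 : ℕ).factorization 3 = 7 := by
  have h := fact_three 7 12615680 (by norm_num)
  norm_num at h
  exact h

/-- an element of order eleven modulo a normal subgroup forces a factor eleven of the index -/
theorem eleven_false {G : Type*} [Group G] [Finite G] {H Z : Subgroup G} [Z.Normal] {x : G} (hx : x ∈ H)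
    (h11 : x ^ 11 ∈ Z) (hn : x ∉ Z) (hc : ¬ 11 ∣ Nat.card H) : False := by
  apply hc
  haveI : Fact (Nat.Prime 11) := ⟨by norm_num⟩
  have ho : orderOf (QuotientGroup.mk (s := Z) x) = 11 :=
    orderOf_eq_prime (by rw [← QuotientGroup.mk_pow, QuotientGroup.eq_one_iff]; exact h11)
      (fun h => hn ((QuotientGroup.eq_one_iff x).mp h))
  have h1 : 11 ∣ orderOf x := ho ▸ orderOf_map_dvd (QuotientGroup.mk' Z) x
  exact h1.trans (Subgroup.orderOf_dvd_natCard H hx)

end Cfsg.Agent.Spor.U43
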