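import Cfsg.Agent.Lib.Spor.MclUniqueChecks
import Cfsg.Agent.Lib.Spor.U43Ref
import Cfsg.Agent.Lib.Spor.U43Sylow

/-!
The point stabiliser of the McLaughlin graph: its subgroups of index 112 and its orbits.
-/

set_option autoImplicit false
set_option maxRecDepth 100000

namespace Cfsg.Agent.Spor.MclUnique

open Equiv
open Cfsg.Agent.Local.FS.McLSmall (K act act_injective nget_code code)
open Cfsg.Agent.Local.FS.McLSmall.Unitary (Gx mem_Gx xB xB_val tau tau_apply timg_eq qm sigma quads Hs Gx_eq card_Gx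
  tau_injective base_ok sigma_match adj_code lines)

attribute [local irreducible] gp Local.FS.McLSmall.Cent.pe Local.FS.McLSmall.nget isL adjM psi orbI cv ci

/-- the model graph -/
abbrev MA (i j : Fin 275) : Prop := Local.FS.McLSmall.Unitary.Adj i j

theorem MA_iff (i j : Fin 275) : MA i j ↔ adjM i j = true := by
  rw [adjM]
  exact adj_code i j

theorem gen_fix (s : Fin 3) : gp s Local.FS.McLSmall.Unitary.base = Local.FS.McLSmall.Unitary.base := by
  have hs : (s : ℕ) < Local.FS.McLSmall.Cent.hI.length := by rw [base_ok.2]; exact s.2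
  have h := List.all_eq_true.1 base_ok.1 (Local.FS.McLSmall.Cent.hI.getD s 0)
    (by rw [List.getD_eq_getElem _ _ hs]; exact List.getElem_mem hs)
  rw [gp]
  exact beq_iff_eq.1 h

theorem el_val (i : ℕ) (x : Fin 275) :
    (act (Local.FS.McLSmall.Cent.el i) x : ℕ) = Local.FS.McLSmall.nget (Local.FS.McLSmall.Cent.pe i) x := by
  rw [← Local.FS.McLSmall.Cent.code_el]
  exact (nget_code _ x.2).symm

theorem gp_eq (s x : ℕ) :
    gp s x = Local.FS.McLSmall.nget (Local.FS.McLSmall.Cent.pe (Local.FS.McLSmall.Cent.hI.getD s 0)) x := by rw [gp]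

theorem exists_gG (s : Fin 3) : ∃ g : Gx, ∀ x : Fin 275, (act g.1 x : ℕ) = gp s x := by
  refine ⟨⟨Local.FS.McLSmall.Cent.el (Local.FS.McLSmall.Cent.hI.getD s 0), ?_⟩, fun x => ?_⟩
  · refine mem_Gx.2 (Fin.ext ?_)
    rw [el_val, ← gp_eq, xB_val]
    exact gen_fix s
  · rw [el_val, ← gp_eq]

/-- the generators of the point stabiliser -/
noncomputable def gG (s : Fin 3) : Gx := (exists_gG s).choose

theorem gG_val (s : Fin 3) (x : Fin 275) : (act (gG s).1 x : ℕ) = gp s x := (exists_gG s).choose_spec x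

theorem gG_induct {p : Gx → Prop} (hg : ∀ s, p (gG s)) (h1 : p 1) (hm : ∀ x y, p x → p y → p (x * y))
    (hi : ∀ x, p x → p x⁻¹) (g : Gx) : p g := by
  have hle : Hs ≤ (Subgroup.closure (Set.range gG)).map Gx.subtype := by
    refine (Subgroup.closure_le _).mpr fun z hz => ?_
    obtain ⟨h, hh, e⟩ := List.mem_map.1 hz
    obtain ⟨s, hs, rfl⟩ := List.mem_iff_getElem.1 hh
    have hs3 : s < 3 := base_ok.2 ▸ hs
    refine ⟨gG ⟨s, hs3⟩, Subgroup.subset_closure ⟨_, rfl⟩, act_injective (Equiv.ext fun x => Fin.ext ?_)⟩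
    rw [Subgroup.coe_subtype, gG_val, gp, List.getD_eq_getElem _ _ hs, e, nget_code _ x.2]
  obtain ⟨y, hy, e⟩ := hle (show g.1 ∈ Hs from Gx_eq ▸ g.2)
  have : y = g := Subtype.ext e
  subst this
  exact Subgroup.closure_induction (p := fun x _ => p x) (fun x hx => by obtain ⟨s, rfl⟩ := hx; exact hg s) h1
    (fun x y _ _ hx hy => hm x y hx hy) (fun x _ hx => hi x hx) hy

theorem tau_gG (s : Fin 3) (j : Fin 280) : (tau (gG s) j : ℕ) = U43.sgv s j := by
  have hm := List.all_eq_true.1 (List.all_eq_true.1 sigma_match s (List.mem_range.2 s.2)) j (List.mem_range.2 j.2)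
  simp only [Bool.and_eq_true, Nat.blt_eq, beq_iff_eq] at hm
  obtain ⟨hlt, hmask⟩ := hm
  have he := List.all_eq_true.1 (List.all_eq_true.1 sig_eq s (List.mem_range.2 s.2)) j (List.mem_range.2 j.2)
  rw [beq_iff_eq, Nat.mod_eq_of_lt hlt] at he
  have : tau (gG s) j = ⟨_, hlt⟩ := by
    refine (tau_apply _ j).trans (timg_eq fun p => ?_)
    rw [qm, qm]
    show (Local.FS.McLSmall.Unitary.pmask (quads.getD ((sigma.getD s []).getD j 0) [])).testBit _ = _
    rw [← hmask, Bool.eq_iff_iff, Local.FS.McLSmall.Unitary.testBit_pmask,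
      Local.FS.McLSmall.Unitary.testBit_pmask, List.mem_map]
    constructor
    · rintro ⟨q, hq, hqp⟩
      have hq' : q < 275 := by
        simpa using List.all_eq_true.1 (List.all_eq_true.1 Local.FS.McLSmall.Unitary.quads_ok.2 _
          (Local.FS.McLSmall.Unitary.qms_get j).2.2) q hq
      have hq2 : gp s q = (act (gG s).1 p : ℕ) := (gp_eq _ _).trans hqp
      rw [← gG_val s ⟨q, hq'⟩] at hq2
      rwa [← (act (gG s).1).injective (Fin.ext hq2)]
    · intro hq
      exact ⟨p, hq, (gp_eq _ _).symm.trans (gG_val s p).symm⟩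
  rw [this]
  exact he

theorem act_word : ∀ (w : List (Fin 3)) (x : Fin 275),
    (act (w.map gG).prod.1 x : ℕ) = gev (w.map Fin.val) x
  | [], x => by simp [gev]
  | s :: w, x => by
    rw [List.map_cons, List.prod_cons, Subgroup.coe_mul, map_mul, Equiv.Perm.mul_apply, gG_val, act_word w x]
    rfl

/-- the three generators of the 3-group -/
noncomputable def gP (s : Fin 3) : Gx :=
  (((U43.wordA.getD s []).pmap Fin.mk (fun t ht => by
    have h := List.all_eq_true.mp (U43.wordA_ok s (by omega)).1 t ht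
    exact of_decide_eq_true h)).map gG).prod

theorem gP_act (s : Fin 3) (x : Fin 275) : (act (gP s).1 x : ℕ) = pL s x := by
  rw [gP, act_word, pL]
  congr 1
  simp [List.map_pmap]

theorem gP_tau (s : Fin 3) (j : Fin 280) : (tau (gP s) j : ℕ) = U43.qv s j := by
  rw [gP, map_list_prod, List.map_map, U43.eval_word (tau ∘ gG) U43.sgv Fin.val tau_gG]
  have h := Cfsg.Agent.Spor.CC.all_range (p := fun i => U43.evW U43.sgv (U43.wordA.getD s []) i == U43.qv s i)
    (st := 0) (len := 280) (U43.wordA_ok s (by omega)).2 (u := j.val) (Nat.zero_le _) (by omega)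
  rw [beq_iff_eq] at h
  rw [← h]
  congr 1
  simp [List.map_pmap]

/-- the 3-group -/
noncomputable def PP : Subgroup Gx := Subgroup.closure (Set.range gP)

theorem PP_three : IsPGroup 3 PP := by
  haveI : Fact (Nat.Prime 3) := ⟨by norm_num⟩
  let ι : Fin 3 → Fin 6 := fun s => ⟨s.val, by omega⟩
  have hP : ∀ s : Fin 3, U43.gk (ι s) ∈ U43.P6 := fun s => by
    fin_cases s
    · exact U43.DD_le_P6 (U43.dE_mem 1)
    · exact U43.pm_mem_P6 U43.sA_mem
    · exact U43.pm_mem_P6 U43.sB_mem
  have h6 : IsPGroup 3 (U43.P6.subgroupOf U43.K1) := IsPGroup.of_card (n := 7) (by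
    rw [Nat.card_congr (Subgroup.subgroupOfEquivOfLe (U43.P6_le_MM.trans U43.MM_le_K1)).toEquiv, U43.card_P6]
    norm_num)
  have hle : PP.map tau ≤ (U43.P6.subgroupOf U43.K1).map U43.pi1 := by
    rw [PP, MonoidHom.map_closure, Subgroup.closure_le]
    rintro _ ⟨_, ⟨s, rfl⟩, rfl⟩
    refine ⟨⟨U43.gk (ι s), U43.gk_mem _⟩, hP s, Equiv.ext fun j => Fin.ext ?_⟩
    rw [U43.pi1_gk, gP_tau]
  exact (IsPGroup.to_le (h6.map _) hle).of_equiv (Subgroup.equivMapOfInjective PP tau tau_injective).symm

/-- the first line -/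
def l0n : ℕ := (lineP.getD 0 (0, 0, 0)).1

theorem isL_lt {u : ℕ} (h : isL u = true) : u < 275 := by
  by_contra hge
  have : lineMask < 2 ^ u := lt_of_lt_of_le mask_small (Nat.pow_le_pow_right (by norm_num) (by omega))
  rw [isL, Nat.testBit_lt_two_pow this] at h
  exact Bool.false_ne_true h

theorem isL_line_par {i : ℕ} (hi : i < 112) : isL (lineP.getD i (0, 0, 0)).1 = true := by
  have h := List.all_eq_true.mp line_par.1 i (List.mem_range.mpr hi)
  simp only [linePar, Bool.and_eq_true] at h
  exact h.1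

/-- the first line as a point -/
def l0 : Fin 275 := ⟨l0n, isL_lt (isL_line_par (by norm_num))⟩

/-- the action on the vertices -/
@[reducible] noncomputable def actG : MulAction Gx (Fin 275) := MulAction.compHom (Fin 275) (act.comp Gx.subtype)

/-- stabiliser of the first line -/
noncomputable def L0 : Subgroup Gx := (MulAction.stabilizer (Perm (Fin 275)) l0).comap (act.comp Gx.subtype)

theorem mem_L0 {g : Gx} : g ∈ L0 ↔ act g.1 l0 = l0 := Iff.rfl

theorem adj_base (u : Fin 275) : MA xB u ↔ isL u = true := by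
  have h := List.all_eq_true.mp vertex_ok u (List.mem_range.mpr u.2)
  simp only [vertexOK, Bool.and_eq_true, beq_iff_eq] at h
  rw [MA_iff, xB_val, h.2]

theorem isL_act (g : Gx) {u : Fin 275} : isL (act g.1 u : ℕ) = true ↔ isL u = true := by
  rw [← adj_base, ← adj_base]
  conv_lhs => rw [← mem_Gx.1 g.2]
  exact Local.FS.McLSmall.Unitary.adj_act _ _ _

theorem line_reach : ∀ i, i < 112 → ∃ g : Gx, (act g.1 l0 : ℕ) = (lineP.getD i (0, 0, 0)).1 := by
  intro i
  induction i using Nat.strong_induction_on with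
  | _ i ih =>
    intro hi
    rcases eq_or_ne i 0 with rfl | h0
    · exact ⟨1, by simp [l0, l0n]⟩
    have h := List.all_eq_true.mp line_par.1 i (List.mem_range.mpr hi)
    simp only [linePar, Bool.and_eq_true, Bool.or_eq_true, decide_eq_true_eq, beq_iff_eq] at h
    obtain ⟨-, h | ⟨⟨h1, h2⟩, h3⟩⟩ := h
    · exact absurd h h0
    obtain ⟨g, hg⟩ := ih _ h1 (h1.trans hi)
    refine ⟨gG ⟨_, h2⟩ * g, ?_⟩
    rw [Subgroup.coe_mul, map_mul, Equiv.Perm.mul_apply, gG_val, hg]
    exact h3

/-- the lines -/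
def LF : Finset (Fin 275) := Finset.univ.filter fun u => isL u.val = true

theorem card_LF : LF.card = 112 := by
  have : LF = ((lineP.map fun q : ℕ × ℕ × ℕ => q.1).pmap Fin.mk (fun x hx => by
      obtain ⟨i, hi, rfl⟩ := List.mem_iff_getElem.mp hx
      rw [List.length_map] at hi
      rw [List.getElem_map, ← List.getD_eq_getElem _ (0, 0, 0) hi]
      exact isL_lt (isL_line_par (line_par.2.1 ▸ hi)))).toFinset := by
    ext u
    simp only [LF, Finset.mem_filter, Finset.mem_univ, true_and, List.mem_toFinset, List.mem_pmap]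
    constructor
    · intro hu
      have hsub : ((lineP.map fun q => q.1).toFinset) ⊆ lines.toFinset := fun x hx => by
        rw [List.mem_toFinset] at hx ⊢
        obtain ⟨i, hi, rfl⟩ := List.mem_iff_getElem.mp hx
        rw [List.length_map] at hi
        rw [List.getElem_map, ← List.getD_eq_getElem _ (0, 0, 0) hi]
        have hl := isL_line_par (line_par.2.1 ▸ hi)
        have h := List.all_eq_true.mp line_list.2.2 _ (List.mem_range.mpr (isL_lt hl))
        rw [hl, Bool.not_true, Bool.false_or] at h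
        simpa using h
      have he := Finset.eq_of_subset_of_card_le hsub (by
        rw [List.toFinset_card_of_nodup line_par.2.2, List.length_map, line_par.2.1]
        exact le_trans (List.toFinset_card_le _) line_list.1.le)
      have hu' : u.val ∈ lines.toFinset := by
        rw [List.mem_toFinset]
        simpa [hu] using List.all_eq_true.mp line_list.2.2 _ (List.mem_range.mpr u.2)
      rw [← he, List.mem_toFinset] at hu'
      exact ⟨u.val, hu', rfl⟩
    · rintro ⟨x, hx, rfl⟩
      obtain ⟨i, hi, rfl⟩ := List.mem_iff_getElem.mp hx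
      rw [List.length_map] at hi
      have e : (lineP.map fun q : ℕ × ℕ × ℕ => q.1)[i]'(by simpa using hi) = (lineP.getD i (0, 0, 0)).1 := by
        rw [List.getElem_map, List.getD_eq_getElem _ (0, 0, 0) hi]
      exact (congrArg isL e).trans (isL_line_par (line_par.2.1 ▸ hi))
  rw [this, List.toFinset_card_of_nodup, List.length_pmap, List.length_map, line_par.2.1]
  exact List.Nodup.pmap (fun a ha b hb h => Fin.val_eq_of_eq h) line_par.2.2

theorem exists_to_line {u : Fin 275} (hu : isL u = true) : ∃ g : Gx, act g.1 l0 = u := by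
  have hl : (LF : Finset (Fin 275)) = (Finset.univ : Finset (Fin 112)).image (fun i : Fin 112 =>
      (⟨(lineP.getD i.val (0, 0, 0)).1, isL_lt (isL_line_par i.2)⟩ : Fin 275)) := by
    refine (Finset.eq_of_subset_of_card_le (fun x hx => ?_) ?_).symm
    · obtain ⟨i, -, rfl⟩ := Finset.mem_image.mp hx
      exact Finset.mem_filter.mpr ⟨Finset.mem_univ _, isL_line_par i.2⟩
    · rw [card_LF, Finset.card_image_of_injective]
      · simp
      intro i j e
      have e' := congrArg Fin.val e
      simp only at e'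
      rw [List.getD_eq_getElem _ _ (by rw [line_par.2.1]; exact i.2),
        List.getD_eq_getElem _ _ (by rw [line_par.2.1]; exact j.2)] at e'
      have := line_par.2.2
      exact Fin.ext ((this.getElem_inj_iff (hi := by rw [List.length_map, line_par.2.1]; exact i.2)
        (hj := by rw [List.length_map, line_par.2.1]; exact j.2)).mp (by simpa using e'))
  have : u ∈ LF := by simp [LF, hu]
  rw [hl, Finset.mem_image] at this
  obtain ⟨i, -, rfl⟩ := this
  obtain ⟨g, hg⟩ := line_reach i i.2
  exact ⟨g, Fin.ext hg⟩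

theorem card_L0 : Nat.card L0 = 29160 := by
  letI := actG
  have horb : MulAction.orbit Gx l0 = (LF : Set (Fin 275)) := by
    ext u
    simp only [LF, Finset.coe_filter, Finset.mem_univ, true_and, Set.mem_ofPred_eq, MulAction.mem_orbit_iff]
    exact ⟨fun ⟨g, hg⟩ => hg ▸ (isL_act g).mpr (isL_line_par (by norm_num)), exists_to_line⟩
  have h := Subgroup.card_mul_index (MulAction.stabilizer Gx l0)
  rw [MulAction.index_stabilizer, horb, Set.ncard_coe_finset, card_LF, card_Gx] at h
  have e : MulAction.stabilizer Gx l0 = L0 := rfl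
  rw [e] at h
  omega

theorem quad_reach : ∀ i, i < 280 → ∀ p : Fin 280, (p : ℕ) = (quadP.getD 0 (0, 0, 0)).1 →
    ∃ g : Gx, (tau g p : ℕ) = (quadP.getD i (0, 0, 0)).1 := by
  intro i
  induction i using Nat.strong_induction_on with
  | _ i ih =>
    intro hi p hp
    rcases eq_or_ne i 0 with rfl | h0
    · exact ⟨1, by simpa using hp⟩
    have h := List.all_eq_true.mp quad_par.1 i (List.mem_range.mpr hi)
    simp only [quadPar, Bool.and_eq_true, Bool.or_eq_true, decide_eq_true_eq, beq_iff_eq] at h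
    obtain ⟨h280, h | ⟨⟨h1, h2⟩, h3⟩⟩ := h
    · exact absurd h h0
    obtain ⟨g, hg⟩ := ih _ h1 (h1.trans hi) p hp
    refine ⟨gG ⟨_, h2⟩ * g, ?_⟩
    rw [map_mul, Equiv.Perm.mul_apply, tau_gG, hg]
    have he := List.all_eq_true.1 (List.all_eq_true.1 sig_eq _ (List.mem_range.2 h2)) _
      (List.mem_range.2 (show (quadP.getD (quadP.getD i (0, 0, 0)).2.1 (0, 0, 0)).1 < 280 from
        hg ▸ (tau g p).2))
    rw [beq_iff_eq, h3, Nat.mod_eq_of_lt h280] at he
    exact he.symm

theorem tau_trans (p q : Fin 280) : ∃ g : Gx, tau g p = q := by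
  have hr : ∃ r : Fin 280, (r : ℕ) = (quadP.getD 0 (0, 0, 0)).1 := by
    have h := List.all_eq_true.mp quad_par.1 0 (List.mem_range.mpr (by norm_num))
    simp only [quadPar, Bool.and_eq_true, decide_eq_true_eq] at h
    exact ⟨⟨_, h.1⟩, rfl⟩
  obtain ⟨r, hr⟩ := hr
  have hall : ∀ x : Fin 280, ∃ g : Gx, tau g r = x := by
    intro x
    let f : Fin 280 → Fin 280 := fun i => Fin.ofNat 280 (quadP.getD i (0, 0, 0)).1
    have hv : ∀ i : Fin 280, (f i : ℕ) = (quadP.getD i (0, 0, 0)).1 := fun i => by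
      have h := List.all_eq_true.mp quad_par.1 i (List.mem_range.mpr i.2)
      simp only [quadPar, Bool.and_eq_true, decide_eq_true_eq] at h
      exact Nat.mod_eq_of_lt h.1
    have hf : Function.Injective f := fun i j e => by
      have e' := congrArg Fin.val e
      rw [hv, hv, List.getD_eq_getElem _ _ (by rw [quad_par.2.1]; exact i.2),
        List.getD_eq_getElem _ _ (by rw [quad_par.2.1]; exact j.2)] at e'
      exact Fin.ext ((quad_par.2.2.getElem_inj_iff (hi := by rw [List.length_map, quad_par.2.1]; exact i.2)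
        (hj := by rw [List.length_map, quad_par.2.1]; exact j.2)).mp (by simpa using e'))
    obtain ⟨i, rfl⟩ := (Finite.injective_iff_surjective.mp hf) x
    obtain ⟨g, hg⟩ := quad_reach i i.2 r hr
    exact ⟨g, Fin.ext (hg.trans (hv i).symm)⟩
  obtain ⟨g, hg⟩ := hall p
  obtain ⟨h, hh⟩ := hall q
  exact ⟨h * g⁻¹, by rw [← hg, map_mul, Equiv.Perm.mul_apply, map_inv, Equiv.Perm.inv_def, Equiv.symm_apply_apply, hh]⟩

theorem part_closed {f : ℕ → ℕ → ℕ} {l : List (ℕ × ℕ × ℕ)} (h : partOK f l = true) {S : ℕ → Prop}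
    (hS : ∀ s < 3, ∀ x, S x → S (f s x)) : ∀ i, i < l.length → S (l.getD 0 (0, 0, 0)).1 →
      S (l.getD i (0, 0, 0)).1 := by
  intro i
  induction i using Nat.strong_induction_on with
  | _ i ih =>
    intro hi h0
    have hp := List.all_eq_true.mp h i (List.mem_range.mpr hi)
    simp only [Bool.or_eq_true, Bool.and_eq_true, decide_eq_true_eq, beq_iff_eq] at hp
    rcases hp with hp | ⟨⟨h1, h2⟩, h3⟩
    · subst hp; exact h0
    · rw [← h3]; exact hS _ h2 _ (ih _ h1 (h1.trans hi) h0)

end Cfsg.Agent.Spor.MclUnique
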