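import Cfsg.Agent.Lib.Spor.Co1Seven

/-!
A Sylow 7-subgroup of the joint centraliser of two commuting conjugates of the central involution in a
group of Monster type, in standard position, and fusion inside its centraliser.
-/

set_option autoImplicit false
set_option maxRecDepth 100000

namespace Cfsg.Agent.Spor.MonsterSeven

open Cfsg Cfsg.Agent.Spor.MonsterFusion
open scoped Pointwise

local notation "Zv" => GolayPt → ℤ
set_option quotPrecheck false in
local notation "Lv" => ↥leechLattice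

variable {G : Type*} [Group G] [Finite G] {z : G} {Q : Subgroup (Subgroup.centralizer ({z} : Set G))} [Q.Normal]
  {e : (Subgroup.centralizer ({z} : Set G)) ⧸ Q ≃* Cfsg.Spor.Co1} {ψ : Lv → Q ⧸ Subgroup.center Q}

/-! ### an odd order element acting on a group with commutators in a group of order two -/

/-- the product of the first translates -/
def transProd (b y : G) : ℕ → G
  | 0 => 1
  | n + 1 => transProd b y n * (b ^ n * y * (b ^ n)⁻¹)

theorem flip_fixed {K : Subgroup G} {c b x y : G} {m : ℕ} (hm : Odd m) (hbm : b ^ m = 1) (hcc : c * c = 1)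
    (hK : ∀ u ∈ K, ∀ v ∈ K, u * v * u⁻¹ * v⁻¹ = 1 ∨ u * v * u⁻¹ * v⁻¹ = c) (hcK : ∀ u ∈ K, u * c = c * u)
    (hbK : ∀ u ∈ K, b * u * b⁻¹ ∈ K) (hbc : b * c = c * b) (hbx : b * x = x * b) (hy : y ∈ K)
    (hyx : y * x * y⁻¹ = x * c) : ∃ y' ∈ K, b * y' = y' * b ∧ y' * x * y'⁻¹ = x * c := by
  have hpowK : ∀ (n : ℕ) (u : G), u ∈ K → b ^ n * u * (b ^ n)⁻¹ ∈ K := by
    intro n
    induction n with
    | zero => intro u hu; simpa using hu
    | succ n ih =>
      intro u hu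
      rw [show b ^ (n + 1) * u * (b ^ (n + 1))⁻¹ = b * (b ^ n * u * (b ^ n)⁻¹) * b⁻¹ by
        rw [pow_succ']; group]
      exact hbK _ (ih u hu)
  have hP : ∀ n, transProd b y n ∈ K := by
    intro n
    induction n with
    | zero => exact one_mem _
    | succ n ih => exact mul_mem ih (hpowK n y hy)
  have hact : ∀ n, transProd b y n * x * (transProd b y n)⁻¹ = x * c ^ n := by
    intro n
    induction n with
    | zero => simp [transProd]
    | succ n ih =>
      have h1 : b ^ n * y * (b ^ n)⁻¹ * x * (b ^ n * y * (b ^ n)⁻¹)⁻¹ = x * c := by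
        have hx' : (b ^ n)⁻¹ * x * b ^ n = x := by
          rw [mul_assoc, ← (Commute.pow_left hbx n).eq, inv_mul_cancel_left]
        calc b ^ n * y * (b ^ n)⁻¹ * x * (b ^ n * y * (b ^ n)⁻¹)⁻¹
            = b ^ n * (y * ((b ^ n)⁻¹ * x * b ^ n) * y⁻¹) * (b ^ n)⁻¹ := by group
          _ = b ^ n * (x * c) * (b ^ n)⁻¹ := by rw [hx', hyx]
          _ = x * c := by
            rw [((Commute.pow_left hbx n).mul_right (Commute.pow_left hbc n)).eq, mul_inv_cancel_right]
      have hcP : transProd b y n * c * (transProd b y n)⁻¹ = c := by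
        rw [hcK _ (hP n), mul_inv_cancel_right]
      rw [transProd, show transProd b y n * (b ^ n * y * (b ^ n)⁻¹) * x *
          (transProd b y n * (b ^ n * y * (b ^ n)⁻¹))⁻¹ =
          transProd b y n * (b ^ n * y * (b ^ n)⁻¹ * x * (b ^ n * y * (b ^ n)⁻¹)⁻¹) * (transProd b y n)⁻¹ by group,
        h1, show transProd b y n * (x * c) * (transProd b y n)⁻¹ =
          (transProd b y n * x * (transProd b y n)⁻¹) * (transProd b y n * c * (transProd b y n)⁻¹) by group,
        ih, hcP, pow_succ, mul_assoc]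
  have hshift : ∀ n, y * (b * transProd b y n * b⁻¹) = transProd b y (n + 1) := by
    intro n
    induction n with
    | zero => simp [transProd]
    | succ n ih =>
      rw [transProd, show b * (transProd b y n * (b ^ n * y * (b ^ n)⁻¹)) * b⁻¹ =
        (b * transProd b y n * b⁻¹) * (b ^ (n + 1) * y * (b ^ (n + 1))⁻¹) by rw [pow_succ']; group,
        ← mul_assoc, ih]
      rfl
  obtain ⟨k, rfl⟩ := hm
  set P := transProd b y (2 * k + 1) with hPdef
  have hcpow : ∀ j : ℕ, c ^ (2 * j + 1) = c := fun j => by rw [pow_succ, pow_mul, sq, hcc, one_pow, one_mul]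
  refine ⟨P, hP _, ?_, by rw [hPdef, hact, hcpow]⟩
  have h1 : y * (b * P * b⁻¹) = P * y := by
    rw [hPdef, hshift]
    show P * (b ^ (2 * k + 1) * y * (b ^ (2 * k + 1))⁻¹) = P * y
    rw [hbm, one_mul, inv_one, mul_one]
  have h2 : b * P * b⁻¹ = P ∨ b * P * b⁻¹ = c * P := by
    have e : b * P * b⁻¹ = (y⁻¹ * P * y * P⁻¹) * P := by
      rw [show b * P * b⁻¹ = y⁻¹ * (y * (b * P * b⁻¹)) by group, h1]; group
    have h3 := hK y⁻¹ (inv_mem hy) P (hP _)
    rw [inv_inv] at h3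
    rcases h3 with h | h <;> rw [e, h]
    · exact Or.inl (one_mul _)
    · exact Or.inr rfl
  rcases h2 with h | h
  · calc b * P = b * P * b⁻¹ * b := by group
      _ = P * b := by rw [h]
  · have hpow : ∀ n : ℕ, b ^ n * P * (b ^ n)⁻¹ = c ^ n * P := by
      intro n
      induction n with
      | zero => simp
      | succ n ih =>
        rw [pow_succ', show b * b ^ n * P * (b * b ^ n)⁻¹ = b * (b ^ n * P * (b ^ n)⁻¹) * b⁻¹ by group, ih,
          show b * (c ^ n * P) * b⁻¹ = (b * c ^ n * b⁻¹) * (b * P * b⁻¹) by group, h,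
          (Commute.pow_right hbc n).eq, mul_inv_cancel_right, ← mul_assoc, ← pow_succ, pow_succ']
    have h4 := hpow (2 * k + 1)
    rw [hbm, one_mul, inv_one, mul_one, hcpow] at h4
    rw [← h4] at h
    calc b * P = b * P * b⁻¹ * b := by group
      _ = P * b := by rw [h]

/-! ### the extraspecial subgroup inside the group -/

/-- the extraspecial subgroup as a subgroup of the whole group -/
def KS (Q : Subgroup (Subgroup.centralizer ({z} : Set G))) : Subgroup G :=
  Q.map (Subgroup.centralizer ({z} : Set G)).subtype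

theorem mem_KS {u : G} : u ∈ KS Q ↔ ∃ q : Q, ((q : Subgroup.centralizer ({z} : Set G)) : G) = u := by
  constructor
  · rintro ⟨q, hq, rfl⟩; exact ⟨⟨q, hq⟩, rfl⟩
  · rintro ⟨q, rfl⟩; exact ⟨q, q.2, rfl⟩

theorem val_mem_KS {h : Subgroup.centralizer ({z} : Set G)} : (h : G) ∈ KS Q ↔ h ∈ Q := by
  constructor
  · rintro ⟨q, hq, e⟩
    rwa [show h = q from Subtype.ext e.symm]
  · exact fun h' => ⟨h, h', rfl⟩

theorem KS_le : KS Q ≤ Subgroup.centralizer ({z} : Set G) := Subgroup.map_subtype_le _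

theorem zz (S : Setting z Q e ψ) : z * z = 1 := by rw [← sq, ← S.hS.1, pow_orderOf_eq_one]

theorem z_comm_KS {u : G} (hu : u ∈ KS Q) : u * z = z * u := Subgroup.mem_centralizer_singleton_iff.1 (KS_le hu)

theorem z_in_KS (S : Setting z Q e ψ) : z ∈ KS Q := ⟨zC z, z_mem e, rfl⟩

theorem KS_comm (S : Setting z Q e ψ) : ∀ u ∈ KS Q, ∀ v ∈ KS Q,
    u * v * u⁻¹ * v⁻¹ = 1 ∨ u * v * u⁻¹ * v⁻¹ = z := by
  intro u hu v hv
  obtain ⟨p, rfl⟩ := mem_KS.1 hu
  obtain ⟨q, rfl⟩ := mem_KS.1 hv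
  rcases (S.center_iff _).1 (MonsterForm.comm_center S.extra p q) with h | h
  · exact Or.inl (congrArg Subtype.val h :)
  · exact Or.inr (congrArg Subtype.val h :)

theorem KS_sq (S : Setting z Q e ψ) {u : G} (hu : u ∈ KS Q) : u * u = 1 ∨ u * u = z := by
  obtain ⟨p, rfl⟩ := mem_KS.1 hu
  rcases (S.center_iff _).1 (MonsterForm.sq_center S.extra p) with h | h
  · exact Or.inl (congrArg Subtype.val h :)
  · exact Or.inr (congrArg Subtype.val h :)

theorem KS_flip (S : Setting z Q e ψ) {u : G} (hu : u ∈ KS Q) (h1 : u ≠ 1) (hz : u ≠ z) :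
    ∃ y ∈ KS Q, y * u * y⁻¹ = u * z := by
  obtain ⟨p, rfl⟩ := mem_KS.1 hu
  obtain ⟨y, hy⟩ := S.flip (x := p) fun h => by
    rcases (S.center_iff p).1 h with h' | h'
    · exact h1 (congrArg Subtype.val h')
    · exact hz (congrArg Subtype.val h')
  exact ⟨_, mem_KS.2 ⟨y, rfl⟩, congrArg Subtype.val hy⟩

theorem KS_normal {h u : G} (hh : h * z = z * h) (hu : u ∈ KS Q) : h * u * h⁻¹ ∈ KS Q := by
  obtain ⟨p, rfl⟩ := mem_KS.1 hu
  exact ⟨⟨h, Subgroup.mem_centralizer_singleton_iff.2 hh⟩ * p * ⟨h, Subgroup.mem_centralizer_singleton_iff.2 hh⟩⁻¹,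
    (inferInstance : Q.Normal).conj_mem _ p.2 _, rfl⟩

theorem KS_two_power (S : Setting z Q e ψ) {u : G} (hu : u ∈ KS Q) : u ^ 4 = 1 := by
  rcases KS_sq S hu with h | h <;>
    rw [show u ^ 4 = (u * u) * (u * u) by rw [← sq, ← sq, ← pow_mul], h] <;> simp [zz S]

theorem KS_odd_eq_one (S : Setting z Q e ψ) {u : G} (hu : u ∈ KS Q) (h7 : u ^ 7 = 1) : u = 1 := by
  have h4 := KS_two_power S hu
  rw [← orderOf_eq_one_iff]
  exact Nat.dvd_one.1 (by
    simpa using Nat.dvd_gcd (orderOf_dvd_of_pow_eq_one h7) (orderOf_dvd_of_pow_eq_one h4))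

/-- standard position -/
structure Frame (z : G) (Q : Subgroup (Subgroup.centralizer ({z} : Set G))) [Q.Normal]
    (e : (Subgroup.centralizer ({z} : Set G)) ⧸ Q ≃* Cfsg.Spor.Co1) (ψ : Lv → Q ⧸ Subgroup.center Q)
    (b : Subgroup.centralizer ({z} : Set G)) (x0 : Q) : Prop where
  hs : Setting z Q e ψ
  hb7 : b ^ 7 = 1
  hpb : proj e b = Co1Seven.beta
  hx0 : ψ (e8 none) = QuotientGroup.mk x0
  hbx : b * (x0 : Subgroup.centralizer ({z} : Set G)) = x0 * b

variable {b : Subgroup.centralizer ({z} : Set G)} {x0 : Q}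

theorem Frame.x0_conj (F : Frame z Q e ψ b x0) :
    IsConj z (((x0 : Subgroup.centralizer ({z} : Set G))) : G) ∧ (((x0 : Subgroup.centralizer ({z} : Set G))) : G) ≠ z :=
  (F.hs.conj_iff x0).2 ⟨e8 none, e8_norm none, F.hx0⟩

theorem Frame.b_pow (F : Frame z Q e ψ b x0) : (b : G) ^ 7 = 1 := by
  rw [← SubmonoidClass.coe_pow, F.hb7]; rfl

theorem Frame.b_z (F : Frame z Q e ψ b x0) : (b : G) * z = z * b := Subgroup.mem_centralizer_singleton_iff.1 b.2

theorem Frame.b_ne (F : Frame z Q e ψ b x0) : (b : G) ≠ 1 := by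
  intro h
  have h1 := F.hpb
  rw [show b = 1 from Subtype.ext h, map_one] at h1
  have := Co1Seven.orderOf_beta
  rw [← h1, orderOf_one] at this
  omega

theorem Frame.orderOf_b (F : Frame z Q e ψ b x0) : orderOf (b : G) = 7 := by
  haveI : Fact (Nat.Prime 7) := ⟨by norm_num⟩
  exact orderOf_eq_prime F.b_pow F.b_ne

theorem Frame.KS_meet (F : Frame z Q e ψ b x0) {u : G} (hu : u ∈ KS Q) (hz : u ∈ Subgroup.zpowers (b : G)) : u = 1 := by
  refine KS_odd_eq_one F.hs hu ?_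
  obtain ⟨k, rfl⟩ := Subgroup.mem_zpowers_iff.1 hz
  rw [← zpow_natCast, ← zpow_mul, mul_comm, zpow_mul, zpow_natCast, F.b_pow, one_zpow]

/-- fusion of the conjugates inside the centraliser of the element -/
theorem Frame.fuse (F : Frame z Q e ψ b x0) {x : G} (hx : x ∈ KS Q) (hc : IsConj z x) (hne : x ≠ z)
    (hbx : (b : G) * x = x * b) : ∃ m : G, (b : G) * m = m * b ∧ m * z * m⁻¹ = x := by
  have S := F.hs
  haveI : Fact (Nat.Prime 2) := ⟨Nat.prime_two⟩
  obtain ⟨g, hg⟩ := isConj_iff.1 hc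
  obtain ⟨p, rfl⟩ := mem_KS.1 hx
  set x : G := ((p : Subgroup.centralizer ({z} : Set G)) : G) with hxdef
  have hcard := S.meet_card p hg hne
  set K' := (KS Q).map (MulAut.conj g).toMonoidHom with hK'
  have hK'mem : ∀ u, u ∈ K' ↔ g⁻¹ * u * g ∈ KS Q := fun u => by
    constructor
    · rintro ⟨w, hw, rfl⟩
      show g⁻¹ * (g * w * g⁻¹) * g ∈ KS Q
      rwa [show g⁻¹ * (g * w * g⁻¹) * g = w by group]
    · intro h
      exact ⟨_, h, by show g * (g⁻¹ * u * g) * g⁻¹ = u; group⟩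
  have hx1 : x ≠ 1 := fun h => S.z_ne (by
    rw [show z = g⁻¹ * (g * z * g⁻¹) * g by group, hg, h]; group)
  -- the first involution lies in the second group
  set φ : Q →* G := (Subgroup.centralizer ({z} : Set G)).subtype.comp Q.subtype with hφ
  have hφi : Function.Injective φ := (Subgroup.subtype_injective _).comp (Subgroup.subtype_injective Q)
  set A := (KS Q ⊓ K').comap φ with hA
  have hAcard : Nat.card A = 2 ^ 13 := by
    rw [← hcard, Nat.card_congr (Subgroup.equivMapOfInjective A φ hφi).toEquiv]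
    congr 1
    rw [hA, Subgroup.map_comap_eq, hφ, MonoidHom.range_comp, Subgroup.range_subtype]
    exact congrArg (fun H : Subgroup G => ↥H) (inf_eq_right.2 (inf_le_left : KS Q ⊓ K' ≤ KS Q))
  have hAcomm : ∀ u ∈ A, ∀ v ∈ A, u * v = v * u := by
    intro u hu v hv
    rw [hA, Subgroup.mem_comap, Subgroup.mem_inf] at hu hv
    apply hφi
    rw [map_mul, map_mul]
    rcases KS_comm S _ hu.1 _ hv.1 with h | h
    · rw [mul_inv_eq_one, mul_inv_eq_iff_eq_mul] at h; exact h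
    · exfalso
      rcases KS_comm S _ ((hK'mem _).1 hu.2) _ ((hK'mem _).1 hv.2) with h' | h'
      · refine S.z_ne (h.symm.trans ?_)
        calc φ u * φ v * (φ u)⁻¹ * (φ v)⁻¹
            = g * (g⁻¹ * φ u * g * (g⁻¹ * φ v * g) * (g⁻¹ * φ u * g)⁻¹ * (g⁻¹ * φ v * g)⁻¹) * g⁻¹ := by group
          _ = 1 := by rw [h']; group
      · refine hne (Eq.trans ?_ h)
        calc x = g * z * g⁻¹ := hg.symm
          _ = g * (g⁻¹ * φ u * g * (g⁻¹ * φ v * g) * (g⁻¹ * φ u * g)⁻¹ * (g⁻¹ * φ v * g)⁻¹) * g⁻¹ := by rw [h']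
          _ = φ u * φ v * (φ u)⁻¹ * (φ v)⁻¹ := by group
  have hzK' : z ∈ K' := by
    have hB : IsMulCommutative ↥(A ⊔ Subgroup.center Q) := ⟨⟨fun u v => Subtype.ext (by
      obtain ⟨a, ha, c, hc, hu⟩ := Subgroup.mem_sup_of_normal_right.1 u.2
      obtain ⟨a', ha', c', hc', hv⟩ := Subgroup.mem_sup_of_normal_right.1 v.2
      rw [Subgroup.coe_mul, Subgroup.coe_mul, ← hu, ← hv]
      calc a * c * (a' * c') = a * (c * a') * c' := by group
        _ = a * (a' * c) * c' := by rw [← Subgroup.mem_center_iff.1 hc a']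
        _ = a * a' * (c * c') := by group
        _ = a' * a * (c' * c) := by rw [hAcomm a ha a' ha', Subgroup.mem_center_iff.1 hc' c]
        _ = a' * (a * c') * c := by group
        _ = a' * (c' * a) * c := by rw [Subgroup.mem_center_iff.1 hc' a]
        _ = _ := by group)⟩⟩
    have heq := Subgroup.eq_of_le_of_card_ge (le_sup_left (a := A) (b := Subgroup.center Q))
      (by rw [hAcard]; exact abelian_le S hB)
    have hz : (⟨zC z, z_mem e⟩ : Q) ∈ A :=
      heq ▸ le_sup_right (a := A) ((S.center_iff _).2 (Or.inr rfl))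
    rw [hA, Subgroup.mem_comap, Subgroup.mem_inf] at hz
    exact hz.2
  -- flips
  have hx' : ∀ u ∈ K', u * x = x * u := by
    intro u hu
    have h := z_comm_KS ((hK'mem u).1 hu)
    rw [← hg]
    calc u * (g * z * g⁻¹) = g * ((g⁻¹ * u * g) * z) * g⁻¹ := by group
      _ = g * (z * (g⁻¹ * u * g)) * g⁻¹ := by rw [h]
      _ = _ := by group
  obtain ⟨y0, hy0, hy0z⟩ : ∃ y ∈ K', y * z * y⁻¹ = z * x := by
    obtain ⟨w, hw, hwz⟩ := KS_flip S ((hK'mem z).1 hzK')
      (fun h => S.z_ne (by rw [show z = g * (g⁻¹ * z * g) * g⁻¹ by group, h]; group))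
      (fun h => hne (by rw [← hg]; conv_lhs => rw [← h]
                        group))
    refine ⟨g * w * g⁻¹, ⟨w, hw, rfl⟩, ?_⟩
    calc g * w * g⁻¹ * z * (g * w * g⁻¹)⁻¹ = g * (w * (g⁻¹ * z * g) * w⁻¹) * g⁻¹ := by group
      _ = g * (g⁻¹ * z * g * z) * g⁻¹ := by rw [hwz]
      _ = z * (g * z * g⁻¹) := by group
      _ = z * x := by rw [hg]
  have hcK' : ∀ u ∈ K', ∀ v ∈ K', u * v * u⁻¹ * v⁻¹ = 1 ∨ u * v * u⁻¹ * v⁻¹ = x := by
    intro u hu v hv
    rcases KS_comm S _ ((hK'mem u).1 hu) _ ((hK'mem v).1 hv) with h | h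
    · left
      calc u * v * u⁻¹ * v⁻¹ = g * (g⁻¹ * u * g * (g⁻¹ * v * g) * (g⁻¹ * u * g)⁻¹ * (g⁻¹ * v * g)⁻¹) * g⁻¹ := by group
        _ = 1 := by rw [h]; group
    · right
      calc u * v * u⁻¹ * v⁻¹ = g * (g⁻¹ * u * g * (g⁻¹ * v * g) * (g⁻¹ * u * g)⁻¹ * (g⁻¹ * v * g)⁻¹) * g⁻¹ := by group
        _ = x := by rw [h, hg]
  have hbK' : ∀ u ∈ K', (b : G) * u * (b : G)⁻¹ ∈ K' := by
    intro u hu
    rw [hK'mem]
    have hc' : g⁻¹ * (b : G) * g * z = z * (g⁻¹ * (b : G) * g) := by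
      calc g⁻¹ * (b : G) * g * z = g⁻¹ * ((b : G) * (g * z * g⁻¹)) * g := by group
        _ = g⁻¹ * (g * z * g⁻¹ * (b : G)) * g := by rw [hg, hbx]
        _ = _ := by group
    have := KS_normal hc' ((hK'mem u).1 hu)
    rwa [show g⁻¹ * (b : G) * g * (g⁻¹ * u * g) * (g⁻¹ * (b : G) * g)⁻¹ = g⁻¹ * ((b : G) * u * (b : G)⁻¹) * g by group]
      at this
  have hxx : x * x = 1 := by
    rw [← hg, show g * z * g⁻¹ * (g * z * g⁻¹) = g * (z * z) * g⁻¹ by group, zz S]; group
  obtain ⟨y, hy, hby, hyz⟩ := flip_fixed (m := 7) ⟨3, rfl⟩ F.b_pow hxx hcK' hx' hbK' hbx F.b_z hy0 hy0z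
  obtain ⟨q0, hq0, hq0x⟩ := KS_flip S hx hx1 hne
  obtain ⟨q, hq, hbq, hqx⟩ := flip_fixed (m := 7) ⟨3, rfl⟩ F.b_pow (zz S) (KS_comm S) (fun u hu => z_comm_KS hu)
    (fun u hu => KS_normal F.b_z hu) F.b_z hbx hq0 hq0x
  refine ⟨q * y, by rw [← mul_assoc, hbq, mul_assoc, hby, ← mul_assoc], ?_⟩
  calc q * y * z * (q * y)⁻¹ = q * (y * z * y⁻¹) * q⁻¹ := by group
    _ = q * (z * x) * q⁻¹ := by rw [hyz]
    _ = (q * z * q⁻¹) * (q * x * q⁻¹) := by group
    _ = z * (x * z) := by rw [hqx, z_comm_KS hq, mul_inv_cancel_right]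
    _ = z * (z * x) := by rw [z_comm_KS hx]
    _ = x := by rw [← mul_assoc, zz S, one_mul]

/-- an element acting on the section as a power lifts to one acting so on the element -/
theorem Frame.lift_norm (F : Frame z Q e ψ b x0) {a : Cfsg.Spor.Co1} {i : ℕ}
    (h : a * Co1Seven.beta = Co1Seven.beta ^ i * a) :
    ∃ h' : Subgroup.centralizer ({z} : Set G), proj e h' = a ∧ h' * b = b ^ i * h' := by
  classical
  haveI : Fact (Nat.Prime 7) := ⟨by norm_num⟩
  have S := F.hs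
  obtain ⟨h0, hh0⟩ := proj_surj (e := e) a
  set P := (Subgroup.zpowers Co1Seven.beta).comap (proj e) with hP
  have hbP : b ∈ P := by rw [hP, Subgroup.mem_comap, F.hpb]; exact Subgroup.mem_zpowers _
  set x := h0 * b * h0⁻¹ with hx
  have hpx : proj e x = Co1Seven.beta ^ i := by
    rw [hx, map_mul, map_mul, map_inv, hh0, F.hpb, h, mul_inv_cancel_right]
  have hxP : x ∈ P := by rw [hP, Subgroup.mem_comap, hpx]; exact Subgroup.npow_mem_zpowers _ _
  have hob : orderOf b = 7 := by rw [← Subgroup.orderOf_coe]; exact F.orderOf_b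
  have hox : orderOf x = 7 := by
    rw [hx, show h0 * b * h0⁻¹ = MulAut.conj h0 b from rfl, MulEquiv.orderOf_eq, hob]
  have hPcard : Nat.card P = 7 * Nat.card Q := by
    let f : P →* ↥(Subgroup.zpowers Co1Seven.beta) := ((proj e).comp P.subtype).codRestrict _ fun p => p.2
    have e1 := Subgroup.card_eq_card_quotient_mul_card_subgroup f.ker
    have hsurj : Function.Surjective f := fun y => by
      obtain ⟨p, hp⟩ := proj_surj (e := e) (y : Cfsg.Spor.Co1)
      exact ⟨⟨p, by rw [hP, Subgroup.mem_comap, hp]; exact y.2⟩, Subtype.ext hp⟩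
    rw [Nat.card_congr (QuotientGroup.quotientKerEquivOfSurjective f hsurj).toEquiv, Nat.card_zpowers,
      Co1Seven.orderOf_beta] at e1
    rw [e1]
    congr 1
    exact Nat.card_congr ⟨fun k => ⟨((k : P) : Subgroup.centralizer ({z} : Set G)),
        (proj_one (e := e) _).1 (congrArg Subtype.val k.2)⟩,
      fun q => ⟨⟨q, by rw [hP, Subgroup.mem_comap, (proj_one (e := e) _).2 q.2]; exact one_mem _⟩,
        Subtype.ext ((proj_one (e := e) _).2 q.2)⟩, fun _ => rfl, fun _ => rfl⟩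
  have hf : (Nat.card P).factorization 7 = 1 := by
    rw [hPcard, S.hS.2.2.2.1, Nat.factorization_mul (by norm_num) (by norm_num), Finsupp.add_apply,
      Nat.Prime.factorization_self (by norm_num),
      Nat.factorization_eq_zero_of_not_dvd (fun hd => by
        have := Nat.Prime.dvd_of_dvd_pow (by norm_num : Nat.Prime 7) hd
        norm_num at this)]
  have hc : ∀ u : Subgroup.centralizer ({z} : Set G), ∀ hu : u ∈ P, orderOf u = 7 →
      Nat.card (Subgroup.zpowers (⟨u, hu⟩ : P)) = 7 := fun u hu ho => by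
    rw [Nat.card_zpowers, ← Subgroup.orderOf_coe]; exact ho
  let Sb := Sylow.ofCard (Subgroup.zpowers (⟨b, hbP⟩ : P)) (p := 7) (by rw [hc b hbP hob, hf]; rfl)
  let Sx := Sylow.ofCard (Subgroup.zpowers (⟨x, hxP⟩ : P)) (p := 7) (by rw [hc x hxP hox, hf]; rfl)
  obtain ⟨k, hk⟩ := MulAction.exists_smul_eq P Sx Sb
  have hk' := congrArg (fun T : Sylow 7 P => (T : Subgroup P)) hk
  have hmem : k * ⟨x, hxP⟩ * k⁻¹ ∈ Subgroup.zpowers (⟨b, hbP⟩ : P) := by
    have e2 : (Subgroup.zpowers (⟨x, hxP⟩ : P)).map (MulAut.conj k).toMonoidHom =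
        Subgroup.zpowers (⟨b, hbP⟩ : P) := hk'
    rw [← e2]
    exact ⟨_, Subgroup.mem_zpowers _, rfl⟩
  obtain ⟨l, hl⟩ := Subgroup.mem_zpowers_iff.1 hmem
  have hl' : b ^ l = (k : Subgroup.centralizer ({z} : Set G)) * x * (k : Subgroup.centralizer ({z} : Set G))⁻¹ := by
    have := congrArg Subtype.val hl
    simpa using this
  obtain ⟨j, hj⟩ := Subgroup.mem_zpowers_iff.1 (k.2 : proj e k ∈ Subgroup.zpowers Co1Seven.beta)
  have hli : Co1Seven.beta ^ l = Co1Seven.beta ^ (i : ℤ) := by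
    have := congrArg (proj e) hl'
    rw [map_zpow, F.hpb, map_mul, map_mul, map_inv, hpx, ← hj] at this
    rw [this, zpow_natCast, (Commute.pow_right (Commute.zpow_self Co1Seven.beta j) i).eq, mul_inv_cancel_right]
  have hbli : b ^ l = b ^ i := by
    rw [← zpow_natCast b i, zpow_eq_zpow_iff_modEq, hob]
    rw [zpow_eq_zpow_iff_modEq, Co1Seven.orderOf_beta] at hli
    exact hli
  refine ⟨(b ^ j)⁻¹ * k * h0, ?_, ?_⟩
  · rw [map_mul, map_mul, map_inv, map_zpow, F.hpb, hh0, hj, inv_mul_cancel, one_mul]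
  · have e3 : (k : Subgroup.centralizer ({z} : Set G)) * h0 * b = b ^ i * (k * h0) := by
      rw [← hbli, hl', hx]; group
    calc (b ^ j)⁻¹ * k * h0 * b = (b ^ j)⁻¹ * (k * h0 * b) := by group
      _ = ((b ^ j)⁻¹ * b ^ i) * (k * h0) := by rw [e3, mul_assoc]
      _ = (b ^ i * (b ^ j)⁻¹) * (k * h0) := by
        rw [((Commute.pow_right (Commute.zpow_self b j) i).inv_left).eq]
      _ = _ := by group

/-- the Sylow 7-subgroup of the joint centraliser in standard position -/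
theorem exists_frame (hM : IsOfMonsterType z Q) {s : G}
    (hsQ : ∃ hsc : s ∈ Subgroup.centralizer ({z} : Set G), (⟨s, hsc⟩ : Subgroup.centralizer ({z} : Set G)) ∈ Q)
    (hs : IsConj z s) (hs1 : s ≠ z) {B : Subgroup G} (hB : B ≤ Subgroup.centralizer ({z, s} : Set G))
    (hBp : Nat.card B = 7 ^ (Nat.card ↥(Subgroup.centralizer ({z, s} : Set G))).factorization 7) :
    ∃ (e : (Subgroup.centralizer ({z} : Set G)) ⧸ Q ≃* Cfsg.Spor.Co1) (ψ : Lv → Q ⧸ Subgroup.center Q)
      (b : Subgroup.centralizer ({z} : Set G)) (x0 : Q), Frame z Q e ψ b x0 ∧ B = Subgroup.zpowers (b : G) := by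
  classical
  haveI := co0_finite
  haveI : Fact (Nat.Prime 7) := ⟨by norm_num⟩
  obtain ⟨hS, e1, ψ1, hψ1⟩ := hM
  have S1 : Setting z Q e1 ψ1 := ⟨hS, hψ1⟩
  obtain ⟨hsc, hsm⟩ := hsQ
  set x0 : Q := ⟨⟨s, hsc⟩, hsm⟩ with hx0d
  obtain ⟨v, hv, hψv⟩ := S1.conj_type (x := x0) hs hs1
  obtain ⟨g0, u, hu, hg0⟩ := class_transitive (e8 none) v (e8_norm none) hv
  have S2 := S1.twist g0
  set e2 := e1.trans (MulAut.conj (QuotientGroup.mk' (Subgroup.center ↥Co0) g0)⁻¹) with he2
  set ψ2 : Lv → Q ⧸ Subgroup.center Q := fun x => ψ1 (g0 • x) with hψ2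
  have hx0 : ψ2 (e8 none) = QuotientGroup.mk x0 := by
    show ψ1 (g0 • e8 none) = _
    rw [S1.coset_eq ⟨u, hu, hg0⟩, hψv]
  have hx0c := S2.noncentral hx0 (Or.inr (e8_norm none))
  set C2 := Subgroup.centralizer ({z, s} : Set G) with hC2
  have hC2z : ∀ c : C2, (c : G) ∈ Subgroup.centralizer ({z} : Set G) := fun c =>
    Subgroup.centralizer_le (by simp) c.2
  have hC2s : ∀ c : C2, (c : G) * s = s * c := fun c =>
    (Subgroup.mem_centralizer_iff.1 c.2 s (by simp)).symm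
  let ρ : C2 →* Cfsg.Spor.Co1 := (proj e2).comp
    (MonoidHom.mk' (fun c => (⟨c, hC2z c⟩ : Subgroup.centralizer ({z} : Set G))) fun _ _ => rfl)
  have hρ : ρ.range = classStab1 (e8 none) := by
    refine le_antisymm ?_ ?_
    · rintro _ ⟨c, rfl⟩
      refine S2.stab_image hx0 ?_
      rw [mul_inv_eq_iff_eq_mul]
      exact Subtype.ext (hC2s c)
    · rintro _ ⟨g, hg, rfl⟩
      obtain ⟨h, hh, hhx⟩ := S2.conj_to hx0 hx0 hx0c (g := g) hg
      refine ⟨⟨h, ?_⟩, hh⟩
      rw [hC2, Subgroup.mem_centralizer_iff]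
      intro y hy
      rcases hy with rfl | rfl
      · exact (Subgroup.mem_centralizer_singleton_iff.1 h.2).symm
      · rw [mul_inv_eq_iff_eq_mul] at hhx
        exact (congrArg Subtype.val hhx).symm
  have hker : IsPGroup 2 ρ.ker := by
    haveI : Fact (Nat.Prime 2) := ⟨Nat.prime_two⟩
    refine (IsPGroup.of_card (n := 2 * 12 + 1) S2.hS.2.2.2.1).of_injective
      (MonoidHom.mk' (fun k => (⟨⟨((k : C2) : G), hC2z k⟩, (proj_one (e := e2) _).1 k.2⟩ : Q)) fun _ _ => rfl) ?_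
    intro k k' h
    exact Subtype.ext (Subtype.ext (congrArg (fun q : Q => ((q : Subgroup.centralizer ({z} : Set G)) : G)) h))
  have hH : Nat.card (classStab1 (e8 none)) = 2048 * 244823040 := by
    let f := (QuotientGroup.mk' (Subgroup.center ↥Co0)).subgroupMap (classStab (e8 none))
    have h1 := Subgroup.card_eq_card_quotient_mul_card_subgroup f.ker
    have hc : Nat.card (classStab (e8 none)) = 4096 * 244823040 := by rw [classStab_e8, card_monoSub]
    rw [Nat.card_congr (QuotientGroup.quotientKerEquivOfSurjective f (MonoidHom.subgroupMap_surjective _ _)).toEquiv,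
      hc] at h1
    have h2 : Nat.card f.ker = 2 := by
      rw [← card_center]
      exact Nat.card_congr ⟨fun k => ⟨((k : classStab (e8 none)) : ↥Co0),
          (QuotientGroup.eq_one_iff _).1 (congrArg Subtype.val k.2)⟩,
        fun c => ⟨⟨(c : ↥Co0), center_le_classStab _ c.2⟩, Subtype.ext ((QuotientGroup.eq_one_iff _).2 c.2)⟩,
        fun _ => rfl, fun _ => rfl⟩
    rw [h2] at h1
    exact Nat.eq_of_mul_eq_mul_right two_pos (h1.symm.trans (by norm_num))
  have hfH : (2048 * 244823040 : ℕ).factorization 7 = 1 := by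
    rw [show (2048 * 244823040 : ℕ) = 7 ^ 1 * (2048 * 34974720) by norm_num,
      Nat.factorization_mul (by norm_num) (by norm_num), Finsupp.add_apply,
      Nat.Prime.factorization_pow (by norm_num : Nat.Prime 7), Finsupp.single_eq_same,
      Nat.factorization_eq_zero_of_not_dvd (by norm_num)]
  have hB7 : Nat.card B = 7 := by
    have h1 := Subgroup.card_eq_card_quotient_mul_card_subgroup ρ.ker
    rw [Nat.card_congr (QuotientGroup.quotientKerEquivRange ρ).toEquiv, hρ, hH] at h1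
    obtain ⟨n, hn⟩ := IsPGroup.iff_card.1 hker
    rw [hBp, h1, hn, Nat.factorization_mul (by norm_num) (by positivity), Finsupp.add_apply, hfH,
      Nat.factorization_eq_zero_of_not_dvd (fun hd => by
        have := Nat.Prime.dvd_of_dvd_pow (by norm_num : Nat.Prime 7) hd
        norm_num at this)]
    rfl
  haveI : IsCyclic B := isCyclic_of_prime_card hB7
  obtain ⟨⟨b0, hb0⟩, hgen⟩ := IsCyclic.exists_generator (α := B)
  have hb0o : orderOf b0 = 7 := by
    rw [← hB7, ← orderOf_eq_card_of_forall_mem_zpowers hgen, ← Subgroup.orderOf_coe]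
  set c0 : C2 := ⟨b0, hB hb0⟩ with hc0
  have hρ0 : ρ c0 ≠ 1 := by
    intro h
    obtain ⟨n, hn⟩ := hker ⟨c0, h⟩
    have h1 : b0 ^ 2 ^ n = 1 :=
      congrArg (fun k : ρ.ker => (((k : C2) : G))) hn
    have h2 := orderOf_dvd_of_pow_eq_one h1
    rw [hb0o] at h2
    have := Nat.Prime.dvd_of_dvd_pow (by norm_num : Nat.Prime 7) h2
    norm_num at this
  have hρo : orderOf (ρ c0) = 7 := by
    refine orderOf_eq_prime ?_ hρ0
    rw [← map_pow, show c0 ^ 7 = 1 from Subtype.ext (by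
      show b0 ^ 7 = 1; rw [← hb0o, pow_orderOf_eq_one]), map_one]
  set Hs := classStab1 (e8 none) with hHs
  have h0 : ρ c0 ∈ Hs := hρ ▸ ⟨c0, rfl⟩
  have hS7 : ∀ a : Cfsg.Spor.Co1, ∀ ha : a ∈ Hs, orderOf a = 7 →
      Nat.card (Subgroup.zpowers (⟨a, ha⟩ : Hs)) = 7 ^ (Nat.card Hs).factorization 7 := fun a ha ho => by
    rw [Nat.card_zpowers, hH, hfH, ← Subgroup.orderOf_coe]; exact ho.trans (pow_one _).symm
  let P0 := Sylow.ofCard (Subgroup.zpowers (⟨ρ c0, h0⟩ : Hs)) (p := 7) (hS7 _ h0 hρo)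
  let P1 := Sylow.ofCard (Subgroup.zpowers (⟨Co1Seven.beta, Co1Seven.beta_mem_stab⟩ : Hs)) (p := 7)
    (hS7 _ _ Co1Seven.orderOf_beta)
  obtain ⟨t, ht⟩ := MulAction.exists_smul_eq Hs P0 P1
  have ht' : (Subgroup.zpowers (⟨ρ c0, h0⟩ : Hs)).map (MulAut.conj t).toMonoidHom =
      Subgroup.zpowers (⟨Co1Seven.beta, Co1Seven.beta_mem_stab⟩ : Hs) :=
    congrArg (fun T : Sylow 7 Hs => (T : Subgroup Hs)) ht
  obtain ⟨w, hw, hwt⟩ : (⟨Co1Seven.beta, Co1Seven.beta_mem_stab⟩ : Hs) ∈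
      (Subgroup.zpowers (⟨ρ c0, h0⟩ : Hs)).map (MulAut.conj t).toMonoidHom := ht' ▸ Subgroup.mem_zpowers _
  obtain ⟨j, rfl⟩ := Subgroup.mem_zpowers_iff.1 hw
  obtain ⟨g1, hg1, hg1e⟩ : ∃ g1 ∈ classStab (e8 none), QuotientGroup.mk' (Subgroup.center ↥Co0) g1 = (t : Cfsg.Spor.Co1)⁻¹ := by
    obtain ⟨g, hg, hge⟩ := (inv_mem t.2 : (t : Cfsg.Spor.Co1)⁻¹ ∈ Hs)
    exact ⟨g, hg, hge⟩
  set b : Subgroup.centralizer ({z} : Set G) := ⟨b0, hC2z c0⟩ ^ j with hb
  refine ⟨_, _, b, x0, ⟨S2.twist g1, ?_, ?_, ?_, ?_⟩, ?_⟩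
  · refine Subtype.ext ?_
    rw [hb, SubmonoidClass.coe_pow, SubgroupClass.coe_zpow, ← zpow_natCast, ← zpow_mul, mul_comm, zpow_mul,
      zpow_natCast, ← hb0o, pow_orderOf_eq_one, one_zpow]
    rfl
  · have h1 := congrArg Subtype.val hwt
    have h2 : (t : Cfsg.Spor.Co1) * (ρ c0) ^ j * (t : Cfsg.Spor.Co1)⁻¹ = Co1Seven.beta := by simpa using h1
    show MulAut.conj (QuotientGroup.mk' (Subgroup.center ↥Co0) g1)⁻¹ (proj e2 b) = _
    rw [hg1e, inv_inv, hb, map_zpow (proj e2)]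
    exact h2
  · show ψ2 (g1 • e8 none) = _
    rw [S2.coset_eq (mem_classStab.1 hg1), hx0]
  · rw [hb]
    exact (Commute.zpow_left (show Commute (⟨b0, hC2z c0⟩ : Subgroup.centralizer ({z} : Set G))
      (x0 : Subgroup.centralizer ({z} : Set G)) from Subtype.ext (hC2s c0)) j).eq
  · have hbB : (b : G) ∈ B := by
      rw [hb, SubgroupClass.coe_zpow]; exact zpow_mem hb0 j
    have hb1 : (b : G) ≠ 1 := by
      intro h
      have h1 := congrArg Subtype.val hwt
      have hρj : ρ c0 ^ j = 1 := by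
        rw [← map_zpow, ← map_one ρ]
        refine congrArg ρ (Subtype.ext ?_)
        rw [SubgroupClass.coe_zpow]
        rw [hb, SubgroupClass.coe_zpow] at h
        exact h
      have h2 : (t : Cfsg.Spor.Co1) * (ρ c0) ^ j * (t : Cfsg.Spor.Co1)⁻¹ = Co1Seven.beta := by simpa using h1
      rw [hρj, mul_one, mul_inv_cancel] at h2
      have := Co1Seven.orderOf_beta
      rw [← h2, orderOf_one] at this
      omega
    refine (Subgroup.eq_of_le_of_card_ge (Subgroup.zpowers_le.2 hbB) ?_).symm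
    rw [hB7, Nat.card_zpowers, orderOf_eq_prime (p := 7) ?_ hb1]
    rw [hb, SubgroupClass.coe_zpow, ← zpow_natCast, ← zpow_mul, mul_comm, zpow_mul, zpow_natCast, ← hb0o,
      pow_orderOf_eq_one, one_zpow]

end Cfsg.Agent.Spor.MonsterSeven
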