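import Cfsg.Agent.Lib.Spor.MonsterSevenBase

/-!
The centraliser of the seven element in a group of Monster type, modulo it, is of Held type.
-/

set_option autoImplicit false
set_option maxRecDepth 100000

namespace Cfsg.Agent.Spor.MonsterSeven

open Cfsg Cfsg.Agent.Spor.MonsterFusion
open scoped Pointwise commutatorElement

local notation "Zv" => GolayPt → ℤ
set_option quotPrecheck false in
local notation "Lv" => ↥leechLattice
local notation "V6" => Fin 6 → ZMod 2
local notation "V3" => Fin 3 → ZMod 2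
local notation "SL3" => Matrix.SpecialLinearGroup (Fin 3) (ZMod 2)

/-- a subgroup whose commutators and squares lie in a non-trivial group of order two is extraspecial,
if no element outside that group is central -/
theorem extra_crit {H : Type*} [Group H] (E : Subgroup H) [Finite E] {c : H} (hcE : c ∈ E) (hc1 : c ≠ 1)
    (hcc : c * c = 1) (hcen : ∀ u ∈ E, u * c = c * u)
    (hcomm : ∀ u ∈ E, ∀ v ∈ E, u * v * u⁻¹ * v⁻¹ = 1 ∨ u * v * u⁻¹ * v⁻¹ = c)
    (hsq : ∀ u ∈ E, u * u = 1 ∨ u * u = c)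
    (hflip : ∀ u ∈ E, u ≠ 1 → u ≠ c → ∃ y ∈ E, y * u * y⁻¹ = u * c)
    (hne : ∃ u ∈ E, u ≠ 1 ∧ u ≠ c) : Cfsg.IsExtraspecial 2 ↥E := by
  haveI : Fact (Nat.Prime 2) := ⟨Nat.prime_two⟩
  have hmem : ∀ x : E, x ∈ Subgroup.center ↥E ↔ ((x : H) = 1 ∨ (x : H) = c) := by
    intro x
    rw [Subgroup.mem_center_iff]
    constructor
    · intro hx
      by_contra hn
      push_neg at hn
      obtain ⟨y, hy, hyx⟩ := hflip x x.2 hn.1 hn.2
      have h : y * (x : H) = (x : H) * y := congrArg Subtype.val (hx ⟨y, hy⟩)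
      rw [h, mul_inv_cancel_right] at hyx
      exact hc1 (mul_eq_left.1 hyx.symm)
    · rintro (h | h) y <;> refine Subtype.ext ?_ <;> simp only [Subgroup.coe_mul, h]
      · rw [mul_one, one_mul]
      · exact hcen y y.2
  have hcard : Nat.card (Subgroup.center ↥E) = 2 := by
    refine Nat.card_eq_two_iff.2 ⟨1, ⟨⟨c, hcE⟩, (hmem _).2 (Or.inr rfl)⟩, fun h => hc1 ?_, ?_⟩
    · exact (congrArg (fun u : Subgroup.center ↥E => ((u : E) : H)) h).symm
    · refine Set.eq_univ_of_forall fun u => ?_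
      rcases (hmem u).1 u.2 with h | h
      · exact Or.inl (Subtype.ext (Subtype.ext h))
      · exact Or.inr (Subtype.ext (Subtype.ext h))
  have hp : IsPGroup 2 ↥E := fun x => ⟨2, Subtype.ext (by
    show (x : H) ^ (2 ^ 2) = 1
    rw [show (x : H) ^ (2 ^ 2) = ((x : H) * x) * ((x : H) * x) by rw [← sq, ← sq, ← pow_mul]; rfl]
    rcases hsq x x.2 with h | h <;> rw [h] <;> simp [hcc])⟩
  refine Cfsg.Agent.Solv.isExtraspecial_of hp hcard ?_ fun x => ?_
  · refine le_antisymm ?_ ?_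
    · rw [commutator_def, Subgroup.commutator_le]
      intro a _ b _
      exact (hmem _).2 (hcomm a a.2 b b.2)
    · intro x hx
      rcases (hmem x).1 hx with h | h
      · rw [show x = 1 from Subtype.ext h]; exact one_mem _
      · obtain ⟨u, hu, hu1, huc⟩ := hne
        obtain ⟨y, hy, hyu⟩ := hflip u hu hu1 huc
        rw [show x = ⁅(⟨y, hy⟩ : E), (⟨u, hu⟩ : E)⁆ from Subtype.ext (by
          show (x : H) = y * u * y⁻¹ * u⁻¹
          rw [hyu, h, hcen u hu, mul_inv_cancel_right])]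
        exact Subgroup.commutator_mem_commutator (Subgroup.mem_top _) (Subgroup.mem_top _)
  · refine (hmem _).2 ?_
    rw [SubmonoidClass.coe_pow, sq]
    exact hsq x x.2

variable {G : Type*} [Group G] [Finite G] {z : G} {Q : Subgroup (Subgroup.centralizer ({z} : Set G))} [Q.Normal]
  {e : (Subgroup.centralizer ({z} : Set G)) ⧸ Q ≃* Cfsg.Spor.Co1} {ψ : Lv → Q ⧸ Subgroup.center Q}
  {b : Subgroup.centralizer ({z} : Set G)} {x0 : Q}

/-- the centraliser of the seven element inside the involution centraliser -/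
def Cz (b : Subgroup.centralizer ({z} : Set G)) : Subgroup (Subgroup.centralizer ({z} : Set G)) :=
  Subgroup.centralizer {b}

/-- its part in the extraspecial subgroup -/
def Rz (Q : Subgroup (Subgroup.centralizer ({z} : Set G))) (b : Subgroup.centralizer ({z} : Set G)) :
    Subgroup (Cz b) := Q.subgroupOf (Cz b)

theorem Cz_val (h : Cz b) : ((h : Subgroup.centralizer ({z} : Set G)) : G) * b = b * (h : Subgroup.centralizer ({z} : Set G)) :=
  congrArg Subtype.val (Subgroup.mem_centralizer_singleton_iff.1 h.2)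

theorem Frame.proj_cent (F : Frame z Q e ψ b x0) (h : Cz b) :
    proj e (h : Subgroup.centralizer ({z} : Set G)) ∈ Subgroup.centralizer ({Co1Seven.beta} : Set Cfsg.Spor.Co1) := by
  rw [Subgroup.mem_centralizer_singleton_iff, ← F.hpb, ← map_mul, ← map_mul, Subgroup.mem_centralizer_singleton_iff.1 h.2]

/-- the representation on half of the fixed classes -/
noncomputable def Frame.nu (F : Frame z Q e ψ b x0) : ↥(Cz b) →* SL3 :=
  Co1Seven.mu.comp (((proj e).comp (Cz b).subtype).codRestrict _ F.proj_cent)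

theorem Frame.nu_surj (F : Frame z Q e ψ b x0) : Function.Surjective F.nu := by
  intro A
  obtain ⟨a, ha⟩ := Co1Seven.mu_surjective A
  obtain ⟨h, hh, hb⟩ := F.lift_norm (a := (a : Cfsg.Spor.Co1)) (i := 1) (by
    rw [pow_one]; exact Subgroup.mem_centralizer_singleton_iff.1 a.2)
  refine ⟨⟨h, Subgroup.mem_centralizer_singleton_iff.2 (by rwa [pow_one] at hb)⟩, ?_⟩
  show Co1Seven.mu _ = A
  rw [← ha]
  exact congrArg Co1Seven.mu (Subtype.ext hh)

theorem Frame.b_mem (F : Frame z Q e ψ b x0) : b ∈ Cz b := Subgroup.mem_centralizer_singleton_iff.2 rfl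

theorem Frame.nu_eq_one (F : Frame z Q e ψ b x0) (h : Cz b) :
    F.nu h = 1 ↔ ∃ j : ℤ, ∃ r : Rz Q b, h = (⟨b, F.b_mem⟩ : Cz b) ^ j * (r : Cz b) := by
  have hk := Co1Seven.mu_ker ⟨_, F.proj_cent h⟩
  show Co1Seven.mu _ = 1 ↔ _
  refine hk.trans ⟨fun hm => ?_, ?_⟩
  · obtain ⟨j, hj⟩ := Subgroup.mem_zpowers_iff.1 hm
    refine ⟨j, ⟨((⟨b, F.b_mem⟩ : Cz b) ^ j)⁻¹ * h, ?_⟩, by simp⟩
    show (((⟨b, F.b_mem⟩ : Cz b) ^ j)⁻¹ * h : Cz b).1 ∈ Q
    refine (proj_one (e := e) _).1 ?_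
    simp only [Subgroup.coe_mul, InvMemClass.coe_inv, SubgroupClass.coe_zpow, map_mul, map_inv, map_zpow, F.hpb]
    rw [inv_mul_eq_one]; exact hj
  · rintro ⟨j, r, rfl⟩
    simp only [Subgroup.coe_mul, SubgroupClass.coe_zpow, map_mul, map_zpow, F.hpb,
      (proj_one (e := e) ((r : Cz b) : Subgroup.centralizer ({z} : Set G))).2 r.2, mul_one]
    exact Subgroup.zpow_mem_zpowers _ _

theorem pel_fix_basis : ∀ (j : Fin 6) (q : GolayPt),
    vecOf (Co1Seven.basisL.getD j []) (Co1Seven.sx q) = vecOf (Co1Seven.basisL.getD j []) q := by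
  decide +kernel

theorem pel_comb (c : V6) : Co1Seven.pel • Co1Seven.comb c = Co1Seven.comb c := by
  refine Subtype.ext (funext fun p => ?_)
  obtain ⟨q, rfl⟩ := Co1Seven.sigma.surjective p
  rw [Co1Seven.sigma_apply, Co1Seven.pel_apply, Co1Seven.comb_val, ← Co1Seven.comb_val]
  rw [Co1Seven.comb_val, eq_comm]
  simp only [Co1Seven.combF]
  exact Finset.sum_congr rfl fun j _ => by rw [pel_fix_basis j q]

theorem Frame.act (F : Frame z Q e ψ b x0) {h : Subgroup.centralizer ({z} : Set G)} {g : ↥Co0}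
    (hg : Co1Seven.pr g = proj e h) {v : Lv} {q : Q} (hq : ψ v = QuotientGroup.mk q) :
    ψ (g • v) = QuotientGroup.mk ⟨h * q * h⁻¹, (inferInstance : Q.Normal).conj_mem (q : Subgroup.centralizer ({z} : Set G)) q.2 h⟩ :=
  F.hs.hψ.2.2.2 h g (proj_spec hg) v q hq

theorem Frame.fixed_of_class (F : Frame z Q e ψ b x0) {c : V6} {q : Q}
    (hq : ψ (Co1Seven.comb c) = QuotientGroup.mk q) :
    b * (q : Subgroup.centralizer ({z} : Set G)) = (q : Subgroup.centralizer ({z} : Set G)) * b := by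
  have h := F.act (g := Co1Seven.pel) (h := b) (by rw [F.hpb]; rfl) hq
  rw [pel_comb, hq, QuotientGroup.eq] at h
  rcases (F.hs.center_iff _).1 h with h1 | h1
  · simp only [Subgroup.coe_mul, InvMemClass.coe_inv] at h1
    rw [inv_mul_eq_one] at h1
    calc b * (q : Subgroup.centralizer ({z} : Set G)) = b * q * b⁻¹ * b := by group
      _ = q * b := by rw [← h1]
  · exfalso
    simp only [Subgroup.coe_mul, InvMemClass.coe_inv] at h1
    rw [inv_mul_eq_iff_eq_mul] at h1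
    have hzc : ∀ n : ℕ, b ^ n * (q : Subgroup.centralizer ({z} : Set G)) * (b ^ n)⁻¹ = q * zC z ^ n := by
      intro n
      induction n with
      | zero => simp
      | succ n ih =>
        rw [pow_succ', show b * b ^ n * (q : Subgroup.centralizer ({z} : Set G)) * (b * b ^ n)⁻¹ =
          b * (b ^ n * q * (b ^ n)⁻¹) * b⁻¹ by group, ih,
          show b * ((q : Subgroup.centralizer ({z} : Set G)) * zC z ^ n) * b⁻¹ = (b * q * b⁻¹) * (b * zC z ^ n * b⁻¹) by group,
          h1, (Commute.pow_right (zC_comm b) n).eq, mul_inv_cancel_right, mul_assoc, ← pow_succ']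
    have h7 := hzc 7
    rw [F.hb7, one_mul, inv_one, mul_one] at h7
    have hz7 : zC z ^ 7 = 1 := mul_eq_left.1 h7.symm
    have hz2 : zC z ^ 2 = 1 := Subtype.ext (by
      show z ^ 2 = 1
      rw [sq]; exact zz F.hs)
    have : zC z = 1 := by
      rw [show (7 : ℕ) = 2 * 3 + 1 from rfl, pow_succ, pow_mul, hz2, one_pow, one_mul] at hz7
      exact hz7
    exact F.hs.z_ne (congrArg Subtype.val this)

theorem Frame.exists_coord (F : Frame z Q e ψ b x0) (r : Rz Q b) :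
    ∃ c : V6, ψ (Co1Seven.comb c) = QuotientGroup.mk (⟨_, r.2⟩ : Q) := by
  obtain ⟨v, hv⟩ := F.hs.hψ.2.1 (QuotientGroup.mk (⟨_, r.2⟩ : Q))
  have h := F.act (g := Co1Seven.pel) (h := b) (by rw [F.hpb]; rfl) hv
  have hfix : ψ (Co1Seven.pel • v) = ψ v := by
    rw [h, hv]
    refine congrArg QuotientGroup.mk (Subtype.ext ?_)
    show b * ((r : Cz b) : Subgroup.centralizer ({z} : Set G)) * b⁻¹ = ((r : Cz b) : Subgroup.centralizer ({z} : Set G))
    rw [← Subgroup.mem_centralizer_singleton_iff.1 (r : Cz b).2, mul_inv_cancel_right]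
  obtain ⟨c, hc⟩ := Co1Seven.fixed_class (F.hs.cong_of_eq hfix)
  exact ⟨c, by rw [← F.hs.coset_eq hc, hv]⟩

/-- the class of an element -/
noncomputable def Frame.coord (F : Frame z Q e ψ b x0) (r : Rz Q b) : V6 := (F.exists_coord r).choose

theorem Frame.coord_spec (F : Frame z Q e ψ b x0) (r : Rz Q b) :
    ψ (Co1Seven.comb (F.coord r)) = QuotientGroup.mk (⟨_, r.2⟩ : Q) := (F.exists_coord r).choose_spec

/-- the central involution in the fixed subgroup -/
def Frame.zR (F : Frame z Q e ψ b x0) : Rz Q b :=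
  ⟨⟨zC z, Subgroup.mem_centralizer_singleton_iff.2 (zC_comm b).symm⟩, z_mem e⟩

theorem Frame.coord_zero (F : Frame z Q e ψ b x0) (r : Rz Q b) : F.coord r = 0 ↔ r = 1 ∨ r = F.zR := by
  have h := F.coord_spec r
  constructor
  · intro h0
    rw [h0, Co1Seven.comb_zero] at h
    rcases (F.hs.center_iff _).1 ((F.hs.central_iff h).2 ⟨0, by simp⟩) with h1 | h1
    · exact Or.inl (Subtype.ext (Subtype.ext h1))
    · exact Or.inr (Subtype.ext (Subtype.ext h1))
  · intro hr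
    have hc : (⟨_, r.2⟩ : Q) ∈ Subgroup.center Q := by
      rw [F.hs.center_iff]
      rcases hr with rfl | rfl
      · exact Or.inl rfl
      · exact Or.inr rfl
    obtain ⟨w, hw⟩ := (F.hs.central_iff h).1 hc
    refine Co1Seven.comb_eq_zero ⟨(w : Zv), w.2, ?_⟩
    rw [sub_zero, hw, AddSubgroup.coe_add, two_nsmul]

theorem Frame.coord_mul (F : Frame z Q e ψ b x0) (r s : Rz Q b) : F.coord (r * s) = F.coord r + F.coord s := by
  refine Co1Seven.comb_inj (F.hs.cong_of_eq ?_)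
  rw [← F.hs.coset_eq (Co1Seven.comb_add_cong _ _), F.hs.hψ.1, F.coord_spec, F.coord_spec, F.coord_spec,
    ← QuotientGroup.mk_mul]
  rfl

theorem Frame.coord_eq (F : Frame z Q e ψ b x0) {r s : Rz Q b} (h : F.coord r = F.coord s) :
    r = s ∨ r = s * F.zR := by
  have h1 : F.coord (s⁻¹ * r) = 0 := by
    have h2 : F.coord s + F.coord (s⁻¹ * r) = F.coord s := by rw [← F.coord_mul, mul_inv_cancel_left, h]
    exact add_eq_left.1 h2
  rcases (F.coord_zero _).1 h1 with h2 | h2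
  · exact Or.inl (inv_mul_eq_one.1 h2).symm
  · exact Or.inr (inv_mul_eq_iff_eq_mul.1 h2)

theorem Frame.coord_surj (F : Frame z Q e ψ b x0) (c : V6) : ∃ r : Rz Q b, F.coord r = c := by
  obtain ⟨q, hq⟩ := QuotientGroup.mk_surjective (ψ (Co1Seven.comb c))
  let r : Rz Q b := ⟨⟨q, Subgroup.mem_centralizer_singleton_iff.2 (F.fixed_of_class hq.symm).symm⟩, q.2⟩
  exact ⟨r, Co1Seven.comb_inj (F.hs.cong_of_eq ((F.coord_spec r).trans hq))⟩

theorem Frame.zR_ne (F : Frame z Q e ψ b x0) : F.zR ≠ 1 := fun h =>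
  F.hs.z_ne (congrArg (fun r : Rz Q b => (((r : Cz b) : Subgroup.centralizer ({z} : Set G)) : G)) h)

theorem Frame.zR_sq (F : Frame z Q e ψ b x0) : F.zR * F.zR = 1 := Subtype.ext (Subtype.ext (Subtype.ext (zz F.hs : z * z = 1)))

/-- the elements are pairs of a class and a sign -/
theorem Frame.param (F : Frame z Q e ψ b x0) : ∃ f : V6 × ZMod 2 → Rz Q b, Function.Bijective f ∧
    (∀ p, F.coord (f p) = p.1) ∧ f (0, 1) = F.zR ∧ f (0, 0) = 1 := by
  classical
  choose r hr using F.coord_surj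
  have h0 : F.coord (1 : Rz Q b) = 0 := (F.coord_zero 1).2 (Or.inl rfl)
  have hz0 : F.coord F.zR = 0 := (F.coord_zero _).2 (Or.inr rfl)
  let r' : V6 → Rz Q b := fun c => if c = 0 then 1 else r c
  have hr' : ∀ c, F.coord (r' c) = c := fun c => by
    simp only [r']
    split_ifs with h
    · rw [h, h0]
    · exact hr c
  let f : V6 × ZMod 2 → Rz Q b := fun p => if p.2 = 0 then r' p.1 else r' p.1 * F.zR
  have hf : ∀ p, F.coord (f p) = p.1 := fun p => by
    simp only [f]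
    split_ifs
    · exact hr' _
    · rw [F.coord_mul, hr', hz0, add_zero]
  refine ⟨f, ⟨fun p q h => ?_, fun x => ?_⟩, hf, by simp [f, r'], by simp [f, r']⟩
  · have h1 := congrArg F.coord h
    rw [hf, hf] at h1
    refine Prod.ext h1 ?_
    simp only [f, h1] at h
    rcases word_eq_one_or_zero p.2 with a | a <;> rcases word_eq_one_or_zero q.2 with a' | a' <;>
      rw [a, a'] at h ⊢
    · exact absurd (mul_eq_left.1 (show r' q.1 * F.zR = r' q.1 by simpa using h.symm)) F.zR_ne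
    · exact absurd (mul_eq_left.1 (show r' q.1 * F.zR = r' q.1 by simpa using h)) F.zR_ne
  · rcases F.coord_eq (s := r' (F.coord x)) (r := x) (hr' _).symm with h | h
    · exact ⟨(F.coord x, 0), by simp [f, ← h]⟩
    · exact ⟨(F.coord x, 1), by simp [f, ← h]⟩

theorem Frame.card_Rz (F : Frame z Q e ψ b x0) : Nat.card (Rz Q b) = 2 ^ 7 := by
  obtain ⟨f, hf, -⟩ := F.param
  rw [← Nat.card_eq_of_bijective f hf]
  simp [Nat.card_prod, Nat.card_fun, Nat.card_zmod]

/-- an element of the fixed subgroup as an element of the group -/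
def rv (r : Rz Q b) : G := (((r : Cz b) : Subgroup.centralizer ({z} : Set G)) : G)

theorem rv_KS (r : Rz Q b) : rv r ∈ KS Q := val_mem_KS.2 r.2

theorem rv_comm (r : Rz Q b) : (b : G) * rv r = rv r * b := (Cz_val (r : Cz b)).symm

theorem rv_mk {u : G} (hu : u ∈ KS Q) (hb : (b : G) * u = u * b) : ∃ r : Rz Q b, rv r = u := by
  obtain ⟨q, rfl⟩ := mem_KS.1 hu
  exact ⟨⟨⟨q, Subgroup.mem_centralizer_singleton_iff.2 (Subtype.ext hb.symm)⟩, q.2⟩, rfl⟩

theorem Frame.flip_R (F : Frame z Q e ψ b x0) {r : Rz Q b} (h1 : rv r ≠ 1) (hz : rv r ≠ z) :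
    ∃ y : Rz Q b, rv y * rv r * (rv y)⁻¹ = rv r * z := by
  obtain ⟨q0, hq0, hq0x⟩ := KS_flip F.hs (rv_KS r) h1 hz
  obtain ⟨q, hq, hbq, hqx⟩ := flip_fixed (m := 7) ⟨3, rfl⟩ F.b_pow (zz F.hs) (KS_comm F.hs)
    (fun u hu => z_comm_KS hu) (fun u hu => KS_normal F.b_z hu) F.b_z (rv_comm r) hq0 hq0x
  obtain ⟨y, rfl⟩ := rv_mk hq hbq
  exact ⟨y, hqx⟩

theorem Frame.conj_class_iff (F : Frame z Q e ψ b x0) (r : Rz Q b) :
    IsConj z (rv r) ↔ r = F.zR ∨ (F.coord r ≠ 0 ∧ Co1Seven.Half (F.coord r)) := by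
  constructor
  · intro h
    by_cases hz : rv r = z
    · exact Or.inl (Subtype.ext (Subtype.ext (Subtype.ext hz)))
    obtain ⟨v, hv, hψv⟩ := (F.hs.conj_iff ⟨_, r.2⟩).1 ⟨h, hz⟩
    exact Or.inr (Co1Seven.half_of_norm hv (F.hs.cong_of_eq (hψv.trans (F.coord_spec r).symm)))
  · rintro (rfl | ⟨h0, hh⟩)
    · exact IsConj.refl z
    · obtain ⟨v, hv, hvc⟩ := Co1Seven.norm_of_half h0 hh
      exact ((F.hs.conj_iff ⟨_, r.2⟩).2 ⟨v, hv, (F.hs.coset_eq hvc).trans (F.coord_spec r)⟩).1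

theorem Frame.coord_x0 (F : Frame z Q e ψ b x0) :
    ∃ r : Rz Q b, rv r = ((x0 : Subgroup.centralizer ({z} : Set G)) : G) ∧
      F.coord r = Co1Seven.up (Pi.single 0 1) := by
  obtain ⟨r, hr⟩ := rv_mk (b := b) (mem_KS.2 ⟨x0, rfl⟩) (congrArg Subtype.val F.hbx)
  refine ⟨r, hr, Co1Seven.comb_inj ((F.hs.cong_of_eq ?_).trans Co1Seven.base_cong)⟩
  rw [F.coord_spec, F.hx0]
  exact congrArg QuotientGroup.mk (Subtype.ext (Subtype.ext hr))

theorem Frame.centralizes (F : Frame z Q e ψ b x0) (h : Cz b) (hh : ∀ r : Rz Q b, (r : Cz b) * h = h * r) :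
    F.nu h = 1 := by
  obtain ⟨g, hg, -⟩ := Co1Seven.exists_lift ⟨_, F.proj_cent h⟩
  refine Subtype.ext ((Co1Seven.mu_spec _ (g := g) hg).unique fun a => ?_)
  show Cong2 _ ((Co1Seven.comb (Co1Seven.up ((1 : Matrix (Fin 3) (Fin 3) (ZMod 2)).mulVec a)) : Lv) : Zv)
  rw [Matrix.one_mulVec]
  refine F.hs.cong_of_eq ?_
  obtain ⟨r, hr⟩ := F.coord_surj (Co1Seven.up a)
  have hs := F.coord_spec r
  rw [hr] at hs
  rw [F.act hg hs, hs]
  refine congrArg QuotientGroup.mk (Subtype.ext ?_)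
  show (h : Subgroup.centralizer ({z} : Set G)) * _ * (h : Subgroup.centralizer ({z} : Set G))⁻¹ = _
  rw [mul_inv_eq_iff_eq_mul]
  exact congrArg Subtype.val (hh r).symm

theorem half_count : ((Finset.univ : Finset ((Fin 6 → ZMod 2) × ZMod 2)).filter
    fun p => (p.1 = 0 ∧ p.2 = 1) ∨ (p.1 ≠ 0 ∧ Co1Seven.Half p.1)).card = 29 := by decide +kernel

theorem Frame.conj_count (F : Frame z Q e ψ b x0) :
    Nat.card {r : Rz Q b // IsConj z (rv r)} = 29 := by
  classical
  obtain ⟨f, hf, hfc, hfz, hf1⟩ := F.param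
  rw [← half_count, ← Fintype.card_coe, ← Nat.card_eq_fintype_card]
  refine (Nat.card_congr ((Equiv.ofBijective f hf).subtypeEquiv fun p => ?_)).symm
  rw [Finset.mem_filter, F.conj_class_iff]
  simp only [Finset.mem_univ, true_and, Equiv.ofBijective_apply, hfc]
  refine or_congr ⟨fun h => ?_, fun h => ?_⟩ Iff.rfl
  · rw [show p = (0, 1) from Prod.ext h.1 h.2, hfz]
  · have := hf.1 (h.trans hfz.symm)
    exact ⟨by rw [this], by rw [this]⟩

theorem up_single_ne : Co1Seven.up (Pi.single 0 1) ≠ (0 : V6) := by decide +kernel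

/-- the main theorem, with the involution and the subgroup exhibited -/
theorem Frame.held_data (F : Frame z Q e ψ b x0) (B : Subgroup G) (hB : B = Subgroup.zpowers (b : G))
    [hn : (B.subgroupOf (Subgroup.centralizer (B : Set G))).Normal] :
    ∃ (zM : ↥(Subgroup.centralizer (B : Set G)) ⧸ B.subgroupOf (Subgroup.centralizer (B : Set G)))
      (RD : Subgroup (Subgroup.centralizer
        ({zM} : Set (↥(Subgroup.centralizer (B : Set G)) ⧸ B.subgroupOf (Subgroup.centralizer (B : Set G))))))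
      (_ : RD.Normal),
      IsExtraspecialCentralizerSetting zM RD 3 ∧
      Nonempty (Subgroup.centralizer
        ({zM} : Set (↥(Subgroup.centralizer (B : Set G)) ⧸ B.subgroupOf (Subgroup.centralizer (B : Set G)))) ⧸ RD ≃* SL3) ∧
      Set.ncard {x | x ∈ RD ∧ IsConj zM (x : ↥(Subgroup.centralizer (B : Set G)) ⧸ B.subgroupOf (Subgroup.centralizer (B : Set G)))} = 29 ∧
      (∀ h : z ∈ Subgroup.centralizer (B : Set G), zM = QuotientGroup.mk ⟨z, h⟩) ∧
      ∀ x ∈ RD, ∃ r : Rz Q b, ∃ h : rv r ∈ Subgroup.centralizer (B : Set G),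
        (x : ↥(Subgroup.centralizer (B : Set G)) ⧸ B.subgroupOf (Subgroup.centralizer (B : Set G))) =
          QuotientGroup.mk ⟨rv r, h⟩ := by
  classical
  haveI : Fact (Nat.Prime 2) := ⟨Nat.prime_two⟩
  have S := F.hs
  set M := Subgroup.centralizer (B : Set G) with hMdef
  set N := B.subgroupOf M with hN
  set π := QuotientGroup.mk' N with hπ
  have hMmem : ∀ m : G, m ∈ M ↔ m * (b : G) = b * m := fun m => by
    rw [hMdef, hB, Subgroup.mem_centralizer_iff]
    refine ⟨fun h => (h _ (Subgroup.mem_zpowers _)).symm, fun h y hy => ?_⟩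
    obtain ⟨k, rfl⟩ := Subgroup.mem_zpowers_iff.1 hy
    exact ((show Commute m (b : G) from h).zpow_right k).eq.symm
  have hπ1 : ∀ m : M, π m = 1 ↔ (m : G) ∈ B := fun m => by
    rw [hπ, QuotientGroup.mk'_apply, QuotientGroup.eq_one_iff]; rfl
  have hinj2 : ∀ β : G, β ∈ B → β * β = 1 → β = 1 := fun β hβ h2 => by
    rw [hB] at hβ
    obtain ⟨k, rfl⟩ := Subgroup.mem_zpowers_iff.1 hβ
    have h7 : ((b : G) ^ k) ^ 7 = 1 := by
      rw [← zpow_natCast, ← zpow_mul, mul_comm, zpow_mul, zpow_natCast, F.b_pow, one_zpow]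
    rwa [show (7 : ℕ) = 2 * 3 + 1 from rfl, pow_succ, pow_mul, sq, h2, one_pow, one_mul] at h7
  have hBc : ∀ m : M, ∀ β ∈ B, (m : G) * β = β * m := fun m β hβ =>
    (Subgroup.mem_centralizer_iff.1 m.2 β hβ).symm
  let φ : Cz b →* M :=
    MonoidHom.mk' (fun h => ⟨((h : Subgroup.centralizer ({z} : Set G)) : G), (hMmem _).2 (Cz_val h)⟩) fun _ _ => rfl
  set zM := π (φ (F.zR : Cz b)) with hzM
  set D := Subgroup.centralizer ({zM} : Set (↥M ⧸ N)) with hD
  have hφD : ∀ h, π (φ h) ∈ D := fun h => by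
    rw [hD, Subgroup.mem_centralizer_singleton_iff, hzM, ← map_mul, ← map_mul]
    exact congrArg π (Subtype.ext (Subgroup.mem_centralizer_singleton_iff.1
      (h : Subgroup.centralizer ({z} : Set G)).2))
  let φD : Cz b →* D := (π.comp φ).codRestrict D hφD
  have hφD1 : ∀ h : Cz b, φD h = 1 ↔ ((h : Subgroup.centralizer ({z} : Set G)) : G) ∈ B := fun h => by
    exact Subtype.ext_iff.trans (hπ1 (φ h))
  have hsurj : Function.Surjective φD := by
    intro d
    obtain ⟨m, hm⟩ := QuotientGroup.mk'_surjective N (d : ↥M ⧸ N)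
    have hc : π m * zM = zM * π m := hm ▸ Subgroup.mem_centralizer_singleton_iff.1 d.2
    rw [hzM, ← map_mul, ← map_mul, hπ, QuotientGroup.mk'_eq_mk'] at hc
    obtain ⟨β, hβ, hc⟩ := hc
    have hc' : (m : G) * z * β = z * m := congrArg Subtype.val hc
    have hβz : z * (β : G) = β * z := (hBc (φ (F.zR : Cz b)) _ hβ :)
    have h1 : (m : G) * z * (m : G)⁻¹ = z * (β : G)⁻¹ := by
      have hmb : (m : G) * (β : G) = β * m := hBc m _ hβ
      calc (m : G) * z * (m : G)⁻¹ = ((m : G) * z * β) * ((β : G)⁻¹ * (m : G)⁻¹) := by group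
        _ = z * ((m : G) * ((β : G)⁻¹ * (m : G)⁻¹)) := by rw [hc', mul_assoc]
        _ = z * ((m : G) * ((m : G) * β)⁻¹) := by rw [mul_inv_rev]
        _ = z * (β : G)⁻¹ := by rw [hmb, mul_inv_rev]; group
    have h2 : (z * (β : G)⁻¹) * (z * (β : G)⁻¹) = 1 := by
      rw [← h1, show (m : G) * z * (m : G)⁻¹ * ((m : G) * z * (m : G)⁻¹) = (m : G) * (z * z) * (m : G)⁻¹ by group, zz S]
      group
    have h3 : (β : G) * (β : G) = 1 := by
      have e1 : (z * (β : G)⁻¹) * (z * (β : G)⁻¹) = (z * z) * ((β : G)⁻¹ * (β : G)⁻¹) :=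
        Commute.mul_mul_mul_comm (show Commute (β : G)⁻¹ z from (show Commute (β : G) z from hβz.symm).inv_left) z (β : G)⁻¹
      rw [e1, zz S, one_mul, ← mul_inv_rev, inv_eq_one] at h2
      exact h2
    have h4 : (β : G) = 1 := hinj2 _ hβ h3
    rw [h4, inv_one, mul_one, mul_inv_eq_iff_eq_mul] at h1
    exact ⟨⟨⟨m, Subgroup.mem_centralizer_singleton_iff.2 h1⟩, Subgroup.mem_centralizer_singleton_iff.2
      (Subtype.ext ((hMmem _).1 m.2))⟩, Subtype.ext hm⟩
  have hRinj : ∀ r s : Rz Q b, φD r = φD s → r = s := by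
    intro r s h
    have h1 : φD (((r⁻¹ * s : Rz Q b)) : Cz b) = 1 := by
      rw [Subgroup.coe_mul, InvMemClass.coe_inv, map_mul, map_inv, h, inv_mul_cancel]
    have h2 := F.KS_meet (rv_KS (r⁻¹ * s)) (hB ▸ (hφD1 _).1 h1)
    exact inv_mul_eq_one.1 (Subtype.ext (Subtype.ext (Subtype.ext h2)))
  set RD := (Rz Q b).map φD with hRD
  haveI : RD.Normal := Subgroup.Normal.map (inferInstance : (Q.subgroupOf (Cz b)).Normal) _ hsurj
  have hRcard : Nat.card RD = 2 ^ 7 := by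
    rw [← F.card_Rz]
    exact (Nat.card_eq_of_bijective (fun r : Rz Q b => (⟨φD r, _, r.2, rfl⟩ : RD))
      ⟨fun r s h => hRinj r s (congrArg Subtype.val h), fun ⟨_, r, hr, rfl⟩ => ⟨⟨r, hr⟩, rfl⟩⟩).symm
  have hzne : φD (F.zR : Cz b) ≠ 1 := fun h =>
    F.zR_ne (hRinj _ 1 (by rw [h]; exact (map_one φD).symm))
  have hzv : ∀ u : Rz Q b, rv u = z → u = F.zR := fun u hu => Subtype.ext (Subtype.ext (Subtype.ext hu))
  have h1v : ∀ u : Rz Q b, rv u = 1 → u = 1 := fun u hu => Subtype.ext (Subtype.ext (Subtype.ext hu))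
  have hex : Cfsg.IsExtraspecial 2 ↥RD := by
    refine extra_crit RD (c := φD (F.zR : Cz b)) ⟨_, F.zR.2, rfl⟩ hzne
      (by rw [← map_mul, ← Subgroup.coe_mul, F.zR_sq]; exact map_one φD) ?_ ?_ ?_ ?_ ?_
    · rintro _ ⟨u, hu, rfl⟩
      rw [← map_mul, ← map_mul]
      exact congrArg φD (Subtype.ext (Subtype.ext (z_comm_KS (Q := Q) (rv_KS (⟨u, hu⟩ : Rz Q b)))))
    · rintro _ ⟨u, hu, rfl⟩ _ ⟨v, hv, rfl⟩
      rcases KS_comm S _ (rv_KS ⟨u, hu⟩) _ (rv_KS ⟨v, hv⟩) with h | h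
      · left
        rw [← map_inv, ← map_inv, ← map_mul, ← map_mul, ← map_mul, ← map_one φD]
        exact congrArg φD (Subtype.ext (Subtype.ext h))
      · right
        rw [← map_inv, ← map_inv, ← map_mul, ← map_mul, ← map_mul]
        exact congrArg φD (Subtype.ext (Subtype.ext h))
    · rintro _ ⟨u, hu, rfl⟩
      rw [← map_mul]
      rcases KS_sq S (rv_KS ⟨u, hu⟩) with h | h
      · left; rw [← map_one φD]; exact congrArg φD (Subtype.ext (Subtype.ext h))
      · right; exact congrArg φD (Subtype.ext (Subtype.ext h))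
    · rintro _ ⟨u, hu, rfl⟩ hu1 huc
      obtain ⟨y, hy⟩ := F.flip_R (r := ⟨u, hu⟩)
        (fun h => hu1 (by have := congrArg Subtype.val (h1v ⟨u, hu⟩ h); rw [show u = 1 from this, map_one]))
        (fun h => huc (by have := congrArg Subtype.val (hzv ⟨u, hu⟩ h); rw [show u = (F.zR : Cz b) from this]))
      refine ⟨φD y, ⟨_, y.2, rfl⟩, ?_⟩
      rw [← map_inv, ← map_mul, ← map_mul, ← map_mul]
      exact congrArg φD (Subtype.ext (Subtype.ext hy))
    · obtain ⟨r, hr⟩ := F.coord_surj (Co1Seven.up (Pi.single 0 1))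
      have hne : F.coord r ≠ 0 := hr ▸ up_single_ne
      refine ⟨φD r, ⟨_, r.2, rfl⟩, fun h => hne ?_, fun h => hne ?_⟩
      · rw [hRinj r 1 (h.trans (map_one φD).symm)]; exact (F.coord_zero 1).2 (Or.inl rfl)
      · rw [hRinj r F.zR h]; exact (F.coord_zero _).2 (Or.inr rfl)
  -- the quotient
  obtain ⟨eD, -⟩ := quot_iso ((QuotientGroup.mk' RD).comp φD) F.nu
    ((QuotientGroup.mk'_surjective RD).comp hsurj) F.nu_surj (by
      ext h
      rw [MonoidHom.mem_ker, MonoidHom.mem_ker, F.nu_eq_one, MonoidHom.comp_apply, QuotientGroup.mk'_apply,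
        QuotientGroup.eq_one_iff]
      have hb1 : φD ⟨b, F.b_mem⟩ = 1 := (hφD1 _).2 (hB ▸ Subgroup.mem_zpowers _)
      constructor
      · rintro ⟨r, hr, he⟩
        have h1 : φD (h * r⁻¹) = 1 := by rw [map_mul, map_inv, he, mul_inv_cancel]
        obtain ⟨j, hj⟩ := Subgroup.mem_zpowers_iff.1 (hB ▸ (hφD1 _).1 h1 :
          (((h * r⁻¹ : Cz b) : Subgroup.centralizer ({z} : Set G)) : G) ∈ Subgroup.zpowers (b : G))
        refine ⟨j, ⟨r, hr⟩, ?_⟩
        rw [← mul_inv_eq_iff_eq_mul]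
        refine Subtype.ext (Subtype.ext ?_)
        simpa using hj.symm
      · rintro ⟨j, r, rfl⟩
        exact ⟨r, r.2, by rw [map_mul, map_zpow, hb1, one_zpow, one_mul]⟩)
  haveI := Co1Seven.sl_simple
  haveI : IsSimpleGroup (↥D ⧸ RD) := eD.isSimpleGroup
  have hDR : Nat.card (↥D ⧸ RD) = 168 := by rw [Nat.card_congr eD.toEquiv, Co1Seven.card_sl]
  have hcent : Subgroup.centralizer (RD : Set D) ≤ RD := by
    intro d hd
    obtain ⟨h, rfl⟩ := hsurj d
    have hh : ∀ r : Rz Q b, (r : Cz b) * h = h * r := by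
      intro r
      have h1 : φD r * φD h = φD h * φD r := Subgroup.mem_centralizer_iff.1 hd _ ⟨_, r.2, rfl⟩
      have hq : h * (r : Cz b) * h⁻¹ ∈ Rz Q b :=
        (inferInstance : (Q.subgroupOf (Cz b)).Normal).conj_mem _ r.2 _
      have h2 := congrArg Subtype.val (hRinj ⟨_, hq⟩ r (by
        show φD (h * (r : Cz b) * h⁻¹) = φD r
        rw [map_mul, map_mul, map_inv, ← h1, mul_inv_cancel_right]))
      rw [mul_inv_eq_iff_eq_mul] at h2
      exact h2.symm
    obtain ⟨j, r, e⟩ := (F.nu_eq_one h).1 (F.centralizes h hh)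
    refine ⟨r, r.2, ?_⟩
    rw [e, map_mul, map_zpow, show φD ⟨b, F.b_mem⟩ = 1 from (hφD1 _).2 (hB ▸ Subgroup.mem_zpowers _),
      one_zpow, one_mul]
  refine ⟨zM, RD, inferInstance, ⟨?_, ?_, hex, hRcard, ?_⟩, ⟨eD⟩, ?_, fun h => rfl, fun x hx => ?_⟩
  · refine orderOf_eq_prime ?_ fun h => hzne (Subtype.ext h)
    rw [hzM, ← map_pow, ← map_pow, sq, ← Subgroup.coe_mul, F.zR_sq]
    simp
  · exact gfit_eq RD hex.1.1.isNilpotent hcent Nat.prime_three (by norm_num : Nat.Prime 7) (by norm_num)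
      (hDR ▸ by norm_num) (hDR ▸ by norm_num)
  · obtain ⟨r, hr, hrc⟩ := F.coord_x0
    obtain ⟨hc, hne⟩ := F.x0_conj
    obtain ⟨m, hbm, hm⟩ := F.fuse (mem_KS.2 ⟨x0, rfl⟩) hc hne (congrArg Subtype.val F.hbx)
    have heM : (⟨m, (hMmem m).2 hbm.symm⟩ : M) * φ (F.zR : Cz b) * (⟨m, (hMmem m).2 hbm.symm⟩ : M)⁻¹ = φ r :=
      Subtype.ext (hm.trans hr.symm)
    have hconj : π ⟨m, (hMmem m).2 hbm.symm⟩ * zM * (π ⟨m, (hMmem m).2 hbm.symm⟩)⁻¹ = π (φ r) := by
      rw [hzM, ← map_inv, ← map_mul, ← map_mul, heM]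
    refine ⟨π ⟨m, (hMmem m).2 hbm.symm⟩, ⟨?_, ?_⟩, ?_⟩
    · rw [hconj]; exact hφD r
    · exact ⟨r, r.2, Subtype.ext hconj.symm⟩
    · intro hcon
      rw [hconj] at hcon
      have h0 := congrArg F.coord (hRinj r F.zR (Subtype.ext hcon))
      rw [hrc, (F.coord_zero _).2 (Or.inr rfl)] at h0
      exact up_single_ne h0
  · rw [← F.conj_count, ← Nat.card_coe_set_eq]
    refine (Nat.card_eq_of_bijective
      (fun r : {r : Rz Q b // IsConj z (rv r)} => (⟨φD r.1, ⟨_, r.1.2, rfl⟩, ?_⟩ :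
        ({x : D | x ∈ RD ∧ IsConj zM (x : ↥M ⧸ N)} : Set D))) ⟨?_, ?_⟩).symm
    · by_cases hrz : rv r.1 = z
      · rw [hzv r.1 hrz]; exact IsConj.refl _
      obtain ⟨m, hbm, hm⟩ := F.fuse (rv_KS r.1) r.2 hrz (rv_comm r.1)
      refine isConj_iff.2 ⟨π ⟨m, (hMmem m).2 hbm.symm⟩, ?_⟩
      rw [hzM, ← map_inv, ← map_mul, ← map_mul]
      exact congrArg π (Subtype.ext hm)
    · intro r s h
      exact Subtype.ext (hRinj _ _ (congrArg Subtype.val h))
    · rintro ⟨_, ⟨r, hr, rfl⟩, hc⟩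
      obtain ⟨d, hd⟩ := isConj_iff.1 hc
      obtain ⟨m, rfl⟩ := QuotientGroup.mk'_surjective N d
      rw [hzM, ← map_inv, ← map_mul, ← map_mul] at hd
      have hd' : π (m * φ (F.zR : Cz b) * m⁻¹) = π (φ r) := hd
      rw [hπ, QuotientGroup.mk'_eq_mk'] at hd'
      obtain ⟨β, hβ, hd'⟩ := hd'
      have e1 : (m : G) * z * (m : G)⁻¹ * β = rv (⟨r, hr⟩ : Rz Q b) := congrArg Subtype.val hd'
      have hcm : (b : G) * rv (⟨r, hr⟩ : Rz Q b) = rv (⟨r, hr⟩ : Rz Q b) * b := rv_comm _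
      have e2 : (β : G) * β = rv (⟨r, hr⟩ : Rz Q b) * rv (⟨r, hr⟩ : Rz Q b) := by
        rw [← e1]
        have hcβ : Commute (β : G) ((m : G) * z * (m : G)⁻¹) :=
          ((show Commute (m : G) (β : G) from hBc m _ hβ).symm.mul_right
            (show Commute (β : G) z from ((hBc (φ (F.zR : Cz b)) _ hβ :)).symm)).mul_right
            (show Commute (β : G) (m : G)⁻¹ from (show Commute (β : G) (m : G) from (hBc m _ hβ).symm).inv_right)
        calc (β : G) * β = ((m : G) * z * (m : G)⁻¹) * ((m : G) * z * (m : G)⁻¹) * ((β : G) * β) := by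
              rw [show (m : G) * z * (m : G)⁻¹ * ((m : G) * z * (m : G)⁻¹) = (m : G) * (z * z) * (m : G)⁻¹ by group, zz S]
              group
          _ = _ := (hcβ.mul_mul_mul_comm _ _).symm
      have e3 : rv (⟨r, hr⟩ : Rz Q b) * rv (⟨r, hr⟩ : Rz Q b) = 1 :=
        F.KS_meet (mul_mem (rv_KS _) (rv_KS _)) (by
          rw [← hB, ← e2]
          exact mul_mem (hβ : (β : G) ∈ B) (hβ : (β : G) ∈ B))
      have e4 : (β : G) = 1 := hinj2 _ hβ (e2.trans e3)
      rw [e4, mul_one] at e1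
      exact ⟨⟨⟨r, hr⟩, isConj_iff.2 ⟨m, e1⟩⟩, rfl⟩
  · obtain ⟨r, hr, rfl⟩ := hx
    exact ⟨⟨r, hr⟩, (φ r).2, rfl⟩

/-- the main theorem -/
theorem Frame.held (F : Frame z Q e ψ b x0) (B : Subgroup G) (hB : B = Subgroup.zpowers (b : G))
    [hn : (B.subgroupOf (Subgroup.centralizer (B : Set G))).Normal] :
    IsOfHeldType (↥(Subgroup.centralizer (B : Set G)) ⧸ B.subgroupOf (Subgroup.centralizer (B : Set G))) := by
  obtain ⟨zM, RD, hN, h1, h2, h3, -, -⟩ := F.held_data B hB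
  exact ⟨zM, RD, hN, h1, h2, h3⟩

end Cfsg.Agent.Spor.MonsterSeven
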