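import Cfsg.Agent.Lib.Spor.MonsterSevenHeld
import Cfsg.Agent.Lib.Spor.MonsterSplit

/-!
Which conjugates of the central involution lie in both extraspecial subgroups and commute with the element of order
seven.
-/

set_option autoImplicit false
set_option maxRecDepth 100000

namespace Cfsg.Agent.Spor.MonsterSeven

open Cfsg Cfsg.Agent.Spor.MonsterFusion
open scoped Pointwise

local notation "Zv" => GolayPt → ℤ
set_option quotPrecheck false in
local notation "Lv" => ↥leechLattice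
local notation "V6" => Fin 6 → ZMod 2

/-- the base vector as a function -/
def baseF (p : GolayPt) : ℤ := if p = none then 8 else 0

theorem basis_ok : ∀ m ∈ codeBasis, inCode m = true ∧ m < 2 ^ 24 := by decide +kernel

theorem crit_check : ∀ c : V6, c ≠ 0 → Co1Seven.Half c → c ≠ Co1Seven.up (Pi.single 0 1) →
    ∃ m ∈ codeBasis, Co1Seven.congB (sgn (ofMaskW m) (Co1Seven.combF c)) (Co1Seven.combF c) = false ∧
      Co1Seven.congB (sgn (ofMaskW m) (Co1Seven.combF c)) (fun p => Co1Seven.combF c p + baseF p) = false := by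
  decide +kernel

variable {G : Type*} [Group G] [Finite G] {z : G} {Q : Subgroup (Subgroup.centralizer ({z} : Set G))} [Q.Normal]
  {e : (Subgroup.centralizer ({z} : Set G)) ⧸ Q ≃* Cfsg.Spor.Co1} {ψ : Lv → Q ⧸ Subgroup.center Q}

/-- the sign changes come from the second extraspecial subgroup -/
theorem sign_lift (S : Setting z Q e ψ) {x : Q} (hx : ψ (e8 none) = QuotientGroup.mk x) {g : G}
    (hg : g * z * g⁻¹ = ((x : Subgroup.centralizer ({z} : Set G)) : G)) {gs : ↥Co0} (hgs : gs ∈ signSub) :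
    ∃ m : Subgroup.centralizer ({z} : Set G), g⁻¹ * (m : G) * g ∈ KS Q ∧
      proj e m = QuotientGroup.mk' (Subgroup.center ↥Co0) gs := by
  haveI := co0_finite
  have hxc := S.noncentral hx (Or.inr (e8_norm none))
  have hne : ((x : Subgroup.centralizer ({z} : Set G)) : G) ≠ z := fun h =>
    hxc ((S.center_iff x).2 (Or.inr (Subtype.ext h)))
  obtain ⟨hEX, hnorm, hel, hcard, -⟩ := S.split x hg hne _ _ rfl rfl
  set H := (Subgroup.centralizer ({z} : Set G) ⊓
    Subgroup.centralizer ({((x : Subgroup.centralizer ({z} : Set G)) : G)} : Set G)).subgroupOf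
      (Subgroup.centralizer ({z} : Set G)) with hH
  set M := ((Q.map (Subgroup.centralizer ({z} : Set G)).subtype).map (MulAut.conj g).toMonoidHom ⊓
    Subgroup.centralizer ({z} : Set G)).subgroupOf (Subgroup.centralizer ({z} : Set G)) with hM
  set W := (M.map (QuotientGroup.mk' Q)).map e.toMonoidHom with hW
  have hxH : ∀ k : Subgroup.centralizer ({z} : Set G), k ∈ H ↔
      k * x * k⁻¹ = (x : Subgroup.centralizer ({z} : Set G)) := fun k => by
    rw [mul_inv_eq_iff_eq_mul, Subtype.ext_iff, hH, Subgroup.mem_subgroupOf, Subgroup.mem_inf,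
      Subgroup.mem_centralizer_singleton_iff]
    simp only [Subgroup.coe_mul, Subgroup.mem_centralizer_singleton_iff]
    exact ⟨fun h => h.2, fun h => ⟨Subgroup.mem_centralizer_singleton_iff.1 k.2, h⟩⟩
  have hWc : Nat.card W = 2048 := by
    rw [hW, Subgroup.card_map_of_injective e.injective, hcard]
    norm_num
  have hWs : W = signSub1 := by
    refine eq_sign (IsPGroup.of_card (n := 11) (by rw [hWc]; norm_num)) ?_ ?_ hWc
    · rintro _ ⟨_, hy, rfl⟩
      obtain ⟨k, hk, rfl⟩ := hEX hy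
      exact S.stab_image hx ((hxH k).1 hk)
    · rintro _ ⟨g0, hg0, rfl⟩ _ ⟨y, hy, rfl⟩
      obtain ⟨k, hk, hkx⟩ := S.conj_to hx hx hxc (g := g0) hg0
      refine ⟨QuotientGroup.mk' Q k * y * (QuotientGroup.mk' Q k)⁻¹, hnorm _ ⟨k, (hxH k).2 hkx, rfl⟩ _ hy, ?_⟩
      rw [map_mul, map_mul, map_inv, ← hk]
      rfl
  have hmem : QuotientGroup.mk' (Subgroup.center ↥Co0) gs ∈ W := hWs ▸ Subgroup.mem_map_of_mem _ hgs
  obtain ⟨_, ⟨m, hm, rfl⟩, hmq⟩ := hmem
  obtain ⟨⟨k, hk, hkm⟩, -⟩ := Subgroup.mem_subgroupOf.1 hm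
  change g * k * g⁻¹ = (m : G) at hkm
  refine ⟨m, ?_, hmq⟩
  rw [← hkm, show g⁻¹ * (g * k * g⁻¹) * g = k by group]
  exact hk

/-- the classes of the common part are fixed by the sign changes up to the base class -/
theorem meet_sign (S : Setting z Q e ψ) {x : Q} (hx : ψ (e8 none) = QuotientGroup.mk x) {g : G}
    (hg : g * z * g⁻¹ = ((x : Subgroup.centralizer ({z} : Set G)) : G)) {u : Q}
    (hu : g⁻¹ * ((u : Subgroup.centralizer ({z} : Set G)) : G) * g ∈ KS Q) {w : Lv}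
    (hw : ψ w = QuotientGroup.mk u) {gs : ↥Co0} (hgs : gs ∈ signSub) :
    Cong2 ((gs • w : Lv) : Zv) (w : Zv) ∨ Cong2 ((gs • w : Lv) : Zv) ((w + e8 none : Lv) : Zv) := by
  obtain ⟨m, hm, hpm⟩ := sign_lift S hx hg hgs
  have hact := S.hψ.2.2.2 m gs (proj_spec hpm.symm) w u hw
  rcases KS_comm S _ hm _ hu with h | h
  · left
    refine S.cong_of_eq (hact.trans (hw.symm ▸ congrArg QuotientGroup.mk (Subtype.ext (Subtype.ext ?_))))
    show (m : G) * ((u : Subgroup.centralizer ({z} : Set G)) : G) * (m : G)⁻¹ =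
      ((u : Subgroup.centralizer ({z} : Set G)) : G)
    calc (m : G) * ((u : Subgroup.centralizer ({z} : Set G)) : G) * (m : G)⁻¹ =
        g * (g⁻¹ * (m : G) * g * (g⁻¹ * ((u : Subgroup.centralizer ({z} : Set G)) : G) * g) * (g⁻¹ * (m : G) * g)⁻¹ *
          (g⁻¹ * ((u : Subgroup.centralizer ({z} : Set G)) : G) * g)⁻¹) * g⁻¹ *
          ((u : Subgroup.centralizer ({z} : Set G)) : G) := by group
      _ = _ := by rw [h]; group
  · right
    refine S.cong_of_eq (hact.trans ?_)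
    rw [add_comm, S.hψ.1, hx, hw, ← QuotientGroup.mk_mul]
    refine congrArg QuotientGroup.mk (Subtype.ext (Subtype.ext ?_))
    show (m : G) * ((u : Subgroup.centralizer ({z} : Set G)) : G) * (m : G)⁻¹ =
      ((x : Subgroup.centralizer ({z} : Set G)) : G) * ((u : Subgroup.centralizer ({z} : Set G)) : G)
    calc (m : G) * ((u : Subgroup.centralizer ({z} : Set G)) : G) * (m : G)⁻¹ =
        g * (g⁻¹ * (m : G) * g * (g⁻¹ * ((u : Subgroup.centralizer ({z} : Set G)) : G) * g) * (g⁻¹ * (m : G) * g)⁻¹ *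
          (g⁻¹ * ((u : Subgroup.centralizer ({z} : Set G)) : G) * g)⁻¹) * g⁻¹ *
          ((u : Subgroup.centralizer ({z} : Set G)) : G) := by group
      _ = _ := by rw [h, hg]

theorem cong_fixed {gl : ↥Co0} (hgl : gl * Co1Seven.pel = Co1Seven.pel * gl ∨
    gl * Co1Seven.pel = Co1Seven.pel⁻¹ * gl) (c : V6) :
    Co1Seven.pel • (gl⁻¹ • Co1Seven.comb c) = gl⁻¹ • Co1Seven.comb c := by
  have hinv : Co1Seven.pel⁻¹ • Co1Seven.comb c = Co1Seven.comb c := by
    conv_lhs => rw [← pel_comb c]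
    rw [inv_smul_smul]
  rw [← mul_smul]
  rcases hgl with h | h
  · rw [show Co1Seven.pel * gl⁻¹ = gl⁻¹ * Co1Seven.pel by
      calc Co1Seven.pel * gl⁻¹ = gl⁻¹ * (gl * Co1Seven.pel) * gl⁻¹ := by group
        _ = _ := by rw [h]; group, mul_smul, pel_comb]
  · rw [show Co1Seven.pel * gl⁻¹ = gl⁻¹ * Co1Seven.pel⁻¹ by
      calc Co1Seven.pel * gl⁻¹ = gl⁻¹ * (gl * Co1Seven.pel) * gl⁻¹ := by group
        _ = _ := by rw [h]; group, mul_smul, hinv]

/-- a frame element carrying the base class to a given class of the fixed part -/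
theorem exists_carrier {c : V6} (h0 : c ≠ 0) (hH : Co1Seven.Half c) : ∃ gl : ↥Co0,
    (gl * Co1Seven.pel = Co1Seven.pel * gl ∨ gl * Co1Seven.pel = Co1Seven.pel⁻¹ * gl) ∧
      Cong2 ((gl • e8 none : Lv) : Zv) ((Co1Seven.comb c : Lv) : Zv) := by
  obtain ⟨a, ha, rfl | rfl⟩ := Co1Seven.half_cases c h0 hH
  · obtain ⟨g, hg, hga⟩ := Co1Seven.exists_move a ha
    exact ⟨g, Or.inl hg, hga⟩
  · obtain ⟨g, hg, hga⟩ := Co1Seven.exists_move a ha
    refine ⟨Co1Seven.uel * g, Or.inr ?_, ?_⟩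
    · rw [mul_assoc, hg, ← mul_assoc, Co1Seven.pel_inv_uel, mul_assoc]
    · rw [mul_smul]
      exact (Co1Seven.cong_smul _ hga).trans (Co1Seven.u_cong a)

variable {b : Subgroup.centralizer ({z} : Set G)} {x0 : Q}

/-- the common part of two extraspecial subgroups contains no further conjugate commuting with the element -/
theorem Frame.small (F : Frame z Q e ψ b x0) (r r' : Rz Q b) {m : G} (hm : m * z * m⁻¹ = rv r)
    (hne : rv r ≠ z) (hc : IsConj z (rv r')) (hr' : m⁻¹ * rv r' * m ∈ KS Q) :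
    rv r' = z ∨ rv r' = rv r ∨ rv r' = z * rv r := by
  have S := F.hs
  by_cases hz : rv r' = z
  · exact Or.inl hz
  refine Or.inr ?_
  have hx : F.coord r ≠ 0 ∧ Co1Seven.Half (F.coord r) := ((F.conj_class_iff r).1 (isConj_iff.2 ⟨m, hm⟩)).resolve_left
    fun e => hne (congrArg rv e)
  obtain ⟨gl, hgl, hglc⟩ := exists_carrier hx.1 hx.2
  set x : Q := ⟨_, r.2⟩
  set u : Q := ⟨_, r'.2⟩
  have hxψ : ψ (Co1Seven.comb (F.coord r)) = QuotientGroup.mk x := F.coord_spec r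
  have huψ : ψ (Co1Seven.comb (F.coord r')) = QuotientGroup.mk u := F.coord_spec r'
  have hxc : x ∉ Subgroup.center Q := fun h => by
    rcases (S.center_iff _).1 h with h' | h'
    · exact hx.1 ((F.coord_zero r).2 (Or.inl (Subtype.ext (Subtype.ext h'))))
    · exact hx.1 ((F.coord_zero r).2 (Or.inr (Subtype.ext (Subtype.ext h'))))
  obtain ⟨h, hh, hhx⟩ := S.conj_to F.hx0 hxψ hxc (g := gl) hglc
  set u0 : Q := ⟨h⁻¹ * (u : Subgroup.centralizer ({z} : Set G)) * h⁻¹⁻¹,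
    (inferInstance : Q.Normal).conj_mem _ u.2 _⟩
  set w0 : Lv := gl⁻¹ • Co1Seven.comb (F.coord r') with hw0
  have hw0ψ : ψ w0 = QuotientGroup.mk u0 :=
    S.hψ.2.2.2 h⁻¹ gl⁻¹ (proj_spec (by rw [map_inv, map_inv, hh])) _ u huψ
  have hg0 : ((h⁻¹ : Subgroup.centralizer ({z} : Set G)) : G) * m * z * (((h⁻¹ : Subgroup.centralizer ({z} : Set G)) : G) * m)⁻¹ =
      ((x0 : Subgroup.centralizer ({z} : Set G)) : G) := by
    have e1 : (h : G) * ((x0 : Subgroup.centralizer ({z} : Set G)) : G) * (h : G)⁻¹ = rv r := congrArg Subtype.val hhx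
    rw [← hm] at e1
    rw [InvMemClass.coe_inv, show (h : G)⁻¹ * m * z * ((h : G)⁻¹ * m)⁻¹ = (h : G)⁻¹ * (m * z * m⁻¹) * (h : G) by group,
      ← e1]
    group
  have hu0 : (((h⁻¹ : Subgroup.centralizer ({z} : Set G)) : G) * m)⁻¹ * ((u0 : Subgroup.centralizer ({z} : Set G)) : G) *
      (((h⁻¹ : Subgroup.centralizer ({z} : Set G)) : G) * m) ∈ KS Q := by
    show ((h : G)⁻¹ * m)⁻¹ * ((h : G)⁻¹ * rv r' * (h : G)⁻¹⁻¹) * ((h : G)⁻¹ * m) ∈ KS Q
    rwa [show ((h : G)⁻¹ * m)⁻¹ * ((h : G)⁻¹ * rv r' * (h : G)⁻¹⁻¹) * ((h : G)⁻¹ * m) = m⁻¹ * rv r' * m by group]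
  obtain ⟨c, hcw⟩ := Co1Seven.fixed_class (v := w0) (by rw [hw0, cong_fixed hgl]; exact Cong2.refl' _)
  have hcψ : ψ (Co1Seven.comb c) = QuotientGroup.mk u0 := (S.coset_eq hcw).symm.trans hw0ψ
  have hu0c : IsConj z ((u0 : Subgroup.centralizer ({z} : Set G)) : G) :=
    hc.trans (isConj_iff.2 ⟨(h : G)⁻¹, rfl⟩)
  have hu0z : ((u0 : Subgroup.centralizer ({z} : Set G)) : G) ≠ z := fun hh' => hz (by
    have h1 : (h : G)⁻¹ * rv r' * (h : G)⁻¹⁻¹ = z := hh'
    have hhz := Subgroup.mem_centralizer_singleton_iff.1 h.2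
    calc rv r' = (h : G) * ((h : G)⁻¹ * rv r' * (h : G)⁻¹⁻¹) * (h : G)⁻¹ := by group
      _ = z := by rw [h1, hhz, mul_inv_cancel_right])
  obtain ⟨v, hv, hvψ⟩ := S.conj_type hu0c hu0z
  obtain ⟨hc0, hcH⟩ := Co1Seven.half_of_norm hv (S.cong_of_eq (hvψ.trans hcψ.symm))
  have hbase : c = Co1Seven.up (Pi.single 0 1) := by
    by_contra hcb
    obtain ⟨k, hk, k1, k2⟩ := crit_check c hc0 hcH hcb
    obtain ⟨hkc, hkl⟩ := basis_ok k hk
    have hw := dec_code hkc hkl
    obtain ⟨gs, hgs⟩ := exists_sgn hw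
    have e1 : ((gs • Co1Seven.comb c : Lv) : Zv) = sgn (ofMaskW k) (Co1Seven.combF c) := by
      rw [hgs, Co1Seven.comb_val]
    rcases meet_sign S F.hx0 hg0 hu0 hcψ (gs := gs) ⟨_, hw, hgs⟩ with h' | h' <;> rw [e1] at h'
    · rw [Co1Seven.comb_val] at h'
      exact Bool.false_ne_true (k1.symm.trans (Co1Seven.congB_complete h'))
    · have e2 : ((Co1Seven.comb c + e8 none : Lv) : Zv) = fun p => Co1Seven.combF c p + baseF p := by
        rw [AddSubgroup.coe_add, Co1Seven.comb_val]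
        funext p
        simp [e8, baseF, Pi.single_apply]
      rw [e2] at h'
      exact Bool.false_ne_true (k2.symm.trans (Co1Seven.congB_complete h'))
  have heq : (QuotientGroup.mk u0 : Q ⧸ Subgroup.center Q) = QuotientGroup.mk x0 := by
    rw [← hcψ, hbase, ← S.coset_eq Co1Seven.base_cong, F.hx0]
  have hzh := Subgroup.mem_centralizer_singleton_iff.1 h.2
  rw [QuotientGroup.eq] at heq
  have e1 : (h : G) * ((x0 : Subgroup.centralizer ({z} : Set G)) : G) * (h : G)⁻¹ = rv r := congrArg Subtype.val hhx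
  rcases (S.center_iff _).1 heq with h' | h'
  · left
    have h2 : ((h : G)⁻¹ * rv r' * (h : G)⁻¹⁻¹)⁻¹ * ((x0 : Subgroup.centralizer ({z} : Set G)) : G) = 1 := congrArg Subtype.val h'
    rw [inv_mul_eq_one] at h2
    rw [← e1, ← h2]; group
  · right
    have h2 : ((h : G)⁻¹ * rv r' * (h : G)⁻¹⁻¹)⁻¹ * ((x0 : Subgroup.centralizer ({z} : Set G)) : G) = z := congrArg Subtype.val h'
    rw [inv_mul_eq_iff_eq_mul] at h2
    rw [← e1, h2, show (h : G) * ((h : G)⁻¹ * rv r' * (h : G)⁻¹⁻¹ * z) * (h : G)⁻¹ =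
      rv r' * ((h : G) * z * (h : G)⁻¹) by group, hzh, mul_inv_cancel_right, z_comm_KS (rv_KS r'), ← mul_assoc,
      zz S, one_mul]

end Cfsg.Agent.Spor.MonsterSeven
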