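import Cfsg.Agent.Lib.Spor.MonsterSevenCrit
import Cfsg.Agent.Lib.Spor.HeldType.Side

/-!
The quotient of the centraliser of the element of order seven is the Held group.
-/

set_option autoImplicit false
set_option maxRecDepth 100000

namespace Cfsg.Agent.Spor.MonsterSeven

open Cfsg Cfsg.Agent.Spor.MonsterFusion
open scoped Pointwise

local notation "Zv" => GolayPt → ℤ
set_option quotPrecheck false in
local notation "Lv" => ↥leechLattice

variable {G : Type*} [Group G] [Finite G] {z : G} {Q : Subgroup (Subgroup.centralizer ({z} : Set G))} [Q.Normal]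
  {e : (Subgroup.centralizer ({z} : Set G)) ⧸ Q ≃* Cfsg.Spor.Co1} {ψ : Lv → Q ⧸ Subgroup.center Q}
  {b : Subgroup.centralizer ({z} : Set G)} {x0 : Q}

/-- elements of exponent four agreeing modulo the subgroup of order seven are equal -/
theorem Frame.lift_eq (F : Frame z Q e ψ b x0) {B : Subgroup G} (hB : B = Subgroup.zpowers (b : G))
    [hn : (B.subgroupOf (Subgroup.centralizer (B : Set G))).Normal] {a c : Subgroup.centralizer (B : Set G)}
    (h : (QuotientGroup.mk a : ↥(Subgroup.centralizer (B : Set G)) ⧸ B.subgroupOf (Subgroup.centralizer (B : Set G))) =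
      QuotientGroup.mk c) (ha : (a : G) ^ 4 = 1) (hc : (c : G) ^ 4 = 1) : (a : G) = c := by
  have hβ : (a : G)⁻¹ * (c : G) ∈ B := by
    have h1 := Subgroup.mem_subgroupOf.1 (QuotientGroup.eq.1 h)
    rwa [Subgroup.coe_mul, InvMemClass.coe_inv] at h1
  have hcom : Commute (a : G) ((a : G)⁻¹ * (c : G)) := (Subgroup.mem_centralizer_iff.1 a.2 _ hβ).symm
  have h4 : ((a : G)⁻¹ * (c : G)) ^ 4 = 1 := by
    have h1 := hcom.mul_pow 4
    rw [mul_inv_cancel_left, hc, ha, one_mul] at h1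
    exact h1.symm
  rw [← inv_mul_eq_one]
  obtain ⟨k, hk⟩ := Subgroup.mem_zpowers_iff.1
    (show (a : G)⁻¹ * (c : G) ∈ Subgroup.zpowers (b : G) by rwa [← hB])
  have h7 : ((a : G)⁻¹ * (c : G)) ^ 7 = 1 := by
    rw [← hk, ← zpow_natCast, ← zpow_mul, mul_comm, zpow_mul, zpow_natCast, F.b_pow, one_zpow]
  rw [← orderOf_eq_one_iff]
  exact Nat.dvd_one.1 ((Nat.dvd_gcd (orderOf_dvd_of_pow_eq_one h4) (orderOf_dvd_of_pow_eq_one h7)).trans (by norm_num))

/-- the main theorem -/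
theorem Frame.iso_he (F : Frame z Q e ψ b x0) (B : Subgroup G) (hB : B = Subgroup.zpowers (b : G))
    [hn : (B.subgroupOf (Subgroup.centralizer (B : Set G))).Normal] :
    Cfsg.Spor.IsoHe (↥(Subgroup.centralizer (B : Set G)) ⧸ B.subgroupOf (Subgroup.centralizer (B : Set G))) := by
  obtain ⟨zM, RD, hN, ⟨ho, hF, hex, hcard, -⟩, ⟨eD⟩, hcnt, hzM, hrep⟩ := F.held_data B hB
  have hzB : z ∈ Subgroup.centralizer (B : Set G) := Subgroup.mem_centralizer_iff.2 fun y hy => by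
    obtain ⟨j, rfl⟩ := Subgroup.mem_zpowers_iff.1 (show y ∈ Subgroup.zpowers (b : G) from hB ▸ hy)
    exact ((show Commute (b : G) z from F.b_z).zpow_left j).eq
  have hz4 : z ^ 4 = 1 := KS_two_power F.hs (z_in_KS F.hs)
  have hR : HeldType.Data zM (RD.map (Subgroup.centralizer ({zM} : Set _)).subtype) := by
    refine ⟨ho, Subgroup.map_subtype_le _, ?_, ?_, ?_, ?_⟩
    · rintro c hc _ ⟨x, hx, rfl⟩
      exact ⟨⟨c, Subgroup.mem_centralizer_singleton_iff.2 hc⟩ * x *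
        (⟨c, Subgroup.mem_centralizer_singleton_iff.2 hc⟩ : Subgroup.centralizer ({zM} : Set _))⁻¹,
        hN.conj_mem _ hx _, rfl⟩
    · rw [Subgroup.card_map_of_injective Subtype.val_injective, hcard]
    · refine ⟨⟨zM, Subgroup.mem_centralizer_singleton_iff.2 rfl⟩, ?_, rfl⟩
      rw [← hF]
      refine Solv.centralizer_gfit_le (Subgroup.mem_centralizer_iff.2 fun w _ => ?_)
      exact Subtype.ext (Subgroup.mem_centralizer_singleton_iff.1 w.2)
    · rw [← hcnt, ← Set.ncard_image_of_injective _ Subtype.val_injective]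
      congr 1
      ext x
      constructor
      · rintro ⟨⟨y, hy, rfl⟩, hx⟩
        exact ⟨y, ⟨hy, hx⟩, rfl⟩
      · rintro ⟨y, ⟨hy, hx⟩, rfl⟩
        exact ⟨⟨y, hy, rfl⟩, hx⟩
  obtain ⟨Fr⟩ := HeldType.exists_frame ho RD hF hex (by rw [hcard]) eD hR
  refine HeldType.iso_he Fr hR fun g y hg hne hy hgy hcy => ?_
  obtain ⟨m, rfl⟩ := QuotientGroup.mk_surjective g
  obtain ⟨k, hk⟩ := isConj_iff.1 hcy
  obtain ⟨k, rfl⟩ := QuotientGroup.mk_surjective k
  obtain ⟨x, hx, hxe⟩ := hg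
  obtain ⟨r, hr, hxr⟩ := hrep x hx
  obtain ⟨x', hx', rfl⟩ := hy
  obtain ⟨r', hr', hxr'⟩ := hrep x' hx'
  obtain ⟨x'', hx'', hxe''⟩ := hgy
  obtain ⟨r'', hr'', hxr''⟩ := hrep x'' hx''
  have hr4 : ∀ s : Rz Q b, rv s ^ 4 = 1 := fun s => KS_two_power F.hs (rv_KS s)
  have hc4 : ∀ u v : G, v ^ 4 = 1 → (u * v * u⁻¹) ^ 4 = 1 := fun u v h => by
    rw [conj_pow, h, mul_one, mul_inv_cancel]
  rw [Subgroup.coe_subtype] at hxe hxe'' hk ⊢
  rw [hxr, hzM hzB, ← QuotientGroup.mk_mul, ← QuotientGroup.mk_inv, ← QuotientGroup.mk_mul] at hxe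
  have em : (m : G) * z * (m : G)⁻¹ = rv r := (F.lift_eq hB hxe.symm (hc4 _ _ hz4) (hr4 r))
  rw [hxr', hzM hzB, ← QuotientGroup.mk_mul, ← QuotientGroup.mk_inv, ← QuotientGroup.mk_mul] at hk
  have ek : (k : G) * z * (k : G)⁻¹ = rv r' := F.lift_eq hB hk (hc4 _ _ hz4) (hr4 r')
  rw [hxr'', hxr', ← QuotientGroup.mk_inv, ← QuotientGroup.mk_mul, ← QuotientGroup.mk_mul] at hxe''
  have e'' : (m : G)⁻¹ * rv r' * (m : G) = rv r'' := F.lift_eq hB hxe''.symm (by
    have := hc4 (m : G)⁻¹ _ (hr4 r')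
    rwa [inv_inv] at this) (hr4 r'')
  have hrz : rv r ≠ z := fun h => hne (by
    rw [hzM hzB, ← QuotientGroup.mk_inv, ← QuotientGroup.mk_mul, ← QuotientGroup.mk_mul]
    exact congrArg QuotientGroup.mk (Subtype.ext (em.trans h)))
  rw [hxr', hzM hzB, ← QuotientGroup.mk_inv, ← QuotientGroup.mk_mul, ← QuotientGroup.mk_mul, ← QuotientGroup.mk_mul]
  rcases F.small r r' em hrz (isConj_iff.2 ⟨k, ek⟩) (e'' ▸ rv_KS r'') with h | h | h
  · exact Or.inl (congrArg QuotientGroup.mk (Subtype.ext h))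
  · exact Or.inr (Or.inl (congrArg QuotientGroup.mk (Subtype.ext (h.trans em.symm))))
  · exact Or.inr (Or.inr (congrArg QuotientGroup.mk (Subtype.ext (h.trans (congrArg (z * ·) em.symm)))))

end Cfsg.Agent.Spor.MonsterSeven
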