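import Cfsg.Agent.Lib.Spor.MonsterSevenHeld

/-!
Group of Monster type: the automiser of the seven element has order six and an inverting involution
induces a non-inner automorphism on the layer of its centraliser.
-/

set_option autoImplicit false
set_option maxRecDepth 100000

namespace Cfsg.Agent.Spor.MonsterSeven

open Cfsg Cfsg.Agent.Spor.MonsterFusion
open scoped Pointwise commutatorElement

local notation "Zv" => GolayPt → ℤ
set_option quotPrecheck false in
local notation "Lv" => ↥leechLattice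
local notation "V6" => Fin 6 → ZMod 2
local notation "SL3" => Matrix.SpecialLinearGroup (Fin 3) (ZMod 2)

theorem component_equiv {A B : Type*} [Group A] [Group B] (f : A ≃* B) {K : Subgroup A} (hK : Cfsg.IsComponent K) :
    Cfsg.IsComponent (K.map f.toMonoidHom) :=
  ⟨Subgroup.IsSubnormal.map (f := f.toMonoidHom) f.surjective hK.1,
    Local.isQuasisimple_congr (K.equivMapOfInjective _ f.injective) hK.2⟩

theorem layer_equiv {A : Type*} [Group A] (f : A ≃* A) {x : A} (hx : x ∈ Cfsg.layer A) : f x ∈ Cfsg.layer A := by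
  have h : Cfsg.layer A ≤ (Cfsg.layer A).comap f.toMonoidHom := by
    refine sSup_le fun K hK => Subgroup.map_le_iff_le_comap.1 ?_
    exact Cfsg.Agent.Solv.component_le_layer (component_equiv f hK)
  exact h hx

theorem basis_sum : ∀ c : V6, c = ∑ j, if c j = 1 then Pi.single j 1 else 0 := by decide +kernel

theorem basis_half : ∀ j : Fin 6, (Pi.single j 1 : V6) ≠ 0 ∧ Co1Seven.Half (Pi.single j 1) := by decide +kernel

variable {G : Type*} [Group G] [Finite G] {z : G} {Q : Subgroup (Subgroup.centralizer ({z} : Set G))} [Q.Normal]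
  {e : (Subgroup.centralizer ({z} : Set G)) ⧸ Q ≃* Cfsg.Spor.Co1} {ψ : Lv → Q ⧸ Subgroup.center Q}
  {b : Subgroup.centralizer ({z} : Set G)} {x0 : Q} {B : Subgroup G}

theorem Frame.mem_cent (F : Frame z Q e ψ b x0) (hB : B = Subgroup.zpowers (b : G)) (m : G) :
    m ∈ Subgroup.centralizer (B : Set G) ↔ m * (b : G) = b * m := by
  rw [hB, Subgroup.mem_centralizer_iff]
  refine ⟨fun h => (h _ (Subgroup.mem_zpowers _)).symm, fun h y hy => ?_⟩
  obtain ⟨k, rfl⟩ := Subgroup.mem_zpowers_iff.1 hy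
  exact ((show Commute m (b : G) from h).zpow_right k).eq.symm

/-- the embedding of the local subgroup -/
noncomputable def Frame.emb (F : Frame z Q e ψ b x0) (hB : B = Subgroup.zpowers (b : G)) :
    ↥(Cz b) →* ↥(Subgroup.centralizer (B : Set G)) :=
  MonoidHom.mk' (fun h => ⟨((h : Subgroup.centralizer ({z} : Set G)) : G), (F.mem_cent hB _).2 (Cz_val h)⟩)
    fun _ _ => rfl

theorem Frame.emb_inj (F : Frame z Q e ψ b x0) (hB : B = Subgroup.zpowers (b : G)) :
    Function.Injective (F.emb hB) := fun a c h =>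
  Subtype.ext (Subtype.ext (congrArg (fun m : Subgroup.centralizer (B : Set G) => (m : G)) h))

theorem Frame.sq_zero (F : Frame z Q e ψ b x0) (hB : B = Subgroup.zpowers (b : G)) {β : G} (hβ : β ∈ B)
    (h2 : β * β = 1) : β = 1 := by
  rw [hB] at hβ
  obtain ⟨k, rfl⟩ := Subgroup.mem_zpowers_iff.1 hβ
  have h7 : ((b : G) ^ k) ^ 7 = 1 := by
    rw [← zpow_natCast, ← zpow_mul, mul_comm, zpow_mul, zpow_natCast, F.b_pow, one_zpow]
  rwa [show (7 : ℕ) = 2 * 3 + 1 from rfl, pow_succ, pow_mul, sq, h2, one_pow, one_mul] at h7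

theorem sl_no_two (I : Subgroup SL3) [I.Normal] (hI : IsPGroup 2 I) : I = ⊥ := by
  haveI : Fact (Nat.Prime 2) := ⟨Nat.prime_two⟩
  haveI := Co1Seven.sl_simple
  refine (IsSimpleGroup.eq_bot_or_eq_top_of_normal I inferInstance).resolve_right fun h => ?_
  obtain ⟨k, hk⟩ := IsPGroup.iff_card.1 hI
  rw [h, Subgroup.card_top, Co1Seven.card_sl] at hk
  have : (3 : ℕ) ∣ 2 ^ k := hk ▸ ⟨56, rfl⟩
  exact absurd (Nat.prime_three.dvd_of_dvd_pow this) (by norm_num)

section Internal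

variable (F : Frame z Q e ψ b x0) (hB : B = Subgroup.zpowers (b : G))

set_option quotPrecheck false in
local notation "MM" => ↥(Subgroup.centralizer (B : Set G))

include F hB

theorem Frame.z_in (N : Subgroup MM) [N.Normal] {r : Rz Q b} (hr : r ≠ 1) (hN : F.emb hB r ∈ N) :
    F.emb hB (F.zR : Cz b) ∈ N := by
  by_cases hz : r = F.zR
  · rwa [← hz]
  obtain ⟨y, hy⟩ := F.flip_R (r := r) (fun h => hr (Subtype.ext (Subtype.ext (Subtype.ext h))))
    (fun h => hz (Subtype.ext (Subtype.ext (Subtype.ext h))))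
  have h1 : (F.emb hB y * F.emb hB r * (F.emb hB y)⁻¹) = F.emb hB r * F.emb hB (F.zR : Cz b) := Subtype.ext hy
  have h2 := mul_mem (inv_mem hN) ((inferInstance : N.Normal).conj_mem _ hN (F.emb hB y))
  rwa [h1, inv_mul_cancel_left] at h2

theorem Frame.R_le (N : Subgroup MM) [N.Normal] (hz : F.emb hB (F.zR : Cz b) ∈ N) (r : Rz Q b) :
    F.emb hB r ∈ N := by
  have h0 : F.coord (1 : Rz Q b) = 0 := (F.coord_zero 1).2 (Or.inl rfl)
  let T : AddSubgroup V6 :=
    { carrier := {c | ∃ s : Rz Q b, F.coord s = c ∧ F.emb hB s ∈ N}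
      zero_mem' := ⟨1, h0, by rw [OneMemClass.coe_one, map_one]; exact one_mem N⟩
      add_mem' := by
        rintro c d ⟨s, hs, hs'⟩ ⟨t, ht, ht'⟩
        exact ⟨s * t, by rw [F.coord_mul, hs, ht], by rw [Subgroup.coe_mul, map_mul]; exact mul_mem hs' ht'⟩
      neg_mem' := by
        intro c hc
        rwa [show -c = c from funext fun j => ZMod.neg_eq_self_mod_two _] }
  have hj : ∀ j, (Pi.single j 1 : V6) ∈ T := by
    intro j
    obtain ⟨s, hs⟩ := F.coord_surj (Pi.single j 1)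
    have hsz : s ≠ F.zR := fun h => (basis_half j).1 (by rw [← hs, h]; exact (F.coord_zero _).2 (Or.inr rfl))
    have hc : IsConj z (rv s) := (F.conj_class_iff s).2 (Or.inr (hs ▸ basis_half j))
    obtain ⟨m, hbm, hm⟩ := F.fuse (rv_KS s) hc (fun h => hsz (Subtype.ext (Subtype.ext (Subtype.ext h)))) (rv_comm s)
    refine ⟨s, hs, ?_⟩
    have : (⟨m, (F.mem_cent hB m).2 hbm.symm⟩ : MM) * F.emb hB (F.zR : Cz b) *
        (⟨m, (F.mem_cent hB m).2 hbm.symm⟩ : MM)⁻¹ = F.emb hB s := Subtype.ext hm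
    rw [← this]
    exact (inferInstance : N.Normal).conj_mem _ hz _
  obtain ⟨s, hs, hs'⟩ : F.coord r ∈ T := by
    rw [basis_sum (F.coord r)]
    refine sum_mem fun j _ => ?_
    split_ifs
    · exact hj j
    · exact zero_mem _
  rcases F.coord_eq hs.symm with h | h
  · rwa [h]
  · rw [h, Subgroup.coe_mul, map_mul]; exact mul_mem hs' hz

theorem Frame.small_fix (N : Subgroup MM) [N.Normal] (hno : ∀ r : Rz Q b, F.emb hB r ∈ N → r = 1) :
    ∀ n ∈ N, (n : G) * z = z * (n : G) → (n : G) ∈ B := by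
  intro n hn hnz
  let h : Cz b := ⟨⟨n, Subgroup.mem_centralizer_singleton_iff.2 hnz⟩,
    Subgroup.mem_centralizer_singleton_iff.2 (Subtype.ext ((F.mem_cent hB _).1 n.2))⟩
  have hhn : F.emb hB h = n := rfl
  have hc : ∀ r : Rz Q b, (r : Cz b) * h = h * r := by
    intro r
    have hmem : h * (r : Cz b) * h⁻¹ * (r : Cz b)⁻¹ ∈ Rz Q b :=
      mul_mem ((inferInstance : (Q.subgroupOf (Cz b)).Normal).conj_mem _ r.2 h) (inv_mem r.2)
    have h1 : F.emb hB (h * (r : Cz b) * h⁻¹ * (r : Cz b)⁻¹) ∈ N := by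
      rw [map_mul, map_mul, map_mul, map_inv, map_inv, hhn,
        show n * F.emb hB r * n⁻¹ * (F.emb hB r)⁻¹ = n * (F.emb hB r * n⁻¹ * (F.emb hB r)⁻¹) by group]
      exact mul_mem hn ((inferInstance : N.Normal).conj_mem _ (inv_mem hn) _)
    have h2 := congrArg Subtype.val (hno ⟨_, hmem⟩ h1)
    have h3 : h * (r : Cz b) * h⁻¹ * (r : Cz b)⁻¹ = 1 := h2
    rw [mul_inv_eq_one, mul_inv_eq_iff_eq_mul] at h3
    exact h3.symm
  obtain ⟨j, r, he⟩ := (F.nu_eq_one h).1 (F.centralizes h hc)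
  have hrc : ∀ s : Rz Q b, s * r = r * s := by
    intro s
    refine Subtype.ext ?_
    have hbs : Commute (⟨b, F.b_mem⟩ : Cz b) (s : Cz b) := Subtype.ext (Subgroup.mem_centralizer_singleton_iff.1 (s : Cz b).2).symm
    have h4 := hc s
    rw [he, ← mul_assoc, ← (hbs.zpow_left j).eq, mul_assoc, mul_assoc, mul_left_cancel_iff] at h4
    exact h4
  have hr1 : r = 1 := by
    by_contra hr
    have hrz : r = F.zR := by
      by_contra hz
      obtain ⟨y, hy⟩ := F.flip_R (r := r) (fun h => hr (Subtype.ext (Subtype.ext (Subtype.ext h))))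
        (fun h => hz (Subtype.ext (Subtype.ext (Subtype.ext h))))
      have h5 : rv y * rv r = rv r * rv y := congrArg rv (hrc y)
      rw [h5, mul_inv_cancel_right] at hy
      exact F.hs.z_ne (mul_eq_left.1 hy.symm)
    refine hr (hno r ?_)
    have h7 : h ^ 7 = (r : Cz b) ^ 7 := by
      have hbr : Commute ((⟨b, F.b_mem⟩ : Cz b) ^ j) (r : Cz b) :=
        (show Commute (⟨b, F.b_mem⟩ : Cz b) (r : Cz b) from
          Subtype.ext (Subgroup.mem_centralizer_singleton_iff.1 (r : Cz b).2).symm).zpow_left j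
      rw [he, hbr.mul_pow, ← zpow_natCast, ← zpow_mul, mul_comm j, zpow_mul, zpow_natCast,
        show (⟨b, F.b_mem⟩ : Cz b) ^ 7 = 1 from Subtype.ext F.hb7, one_zpow, one_mul]
    have hr7 : (r : Cz b) ^ 7 = r := by
      rw [hrz, show (7 : ℕ) = 2 * 3 + 1 from rfl, pow_succ, pow_mul, sq, ← Subgroup.coe_mul, F.zR_sq,
        OneMemClass.coe_one, one_pow, one_mul]
    rw [← hr7, ← h7, map_pow, hhn]
    exact pow_mem hn 7
  have hn' : n = F.emb hB h := hhn.symm
  rw [hn', he, hr1, OneMemClass.coe_one, mul_one]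
  show (((⟨b, F.b_mem⟩ : Cz b) ^ j : Cz b).1 : G) ∈ B
  rw [SubgroupClass.coe_zpow, SubgroupClass.coe_zpow, hB]
  exact Subgroup.zpow_mem_zpowers _ _

theorem Frame.inverted (N : Subgroup MM) [N.Normal]
    (hfix : ∀ n ∈ N, (n : G) * z = z * (n : G) → (n : G) ∈ B) : ∀ n ∈ N, (n : G) * n ∈ B := by
  classical
  have hbB : ∀ β ∈ B, ∀ m : MM, (m : G) * β = β * m := fun β hβ m =>
    (Subgroup.mem_centralizer_iff.1 m.2 β hβ).symm
  haveI hBn : (B.subgroupOf (Subgroup.centralizer (B : Set G))).Normal := ⟨fun β hβ m => by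
    rw [Subgroup.mem_subgroupOf] at hβ ⊢
    simp only [Subgroup.coe_mul, InvMemClass.coe_inv]
    rwa [hbB _ hβ m, mul_inv_cancel_right]⟩
  set π := QuotientGroup.mk' (B.subgroupOf (Subgroup.centralizer (B : Set G))) with hπ
  have hπ1 : ∀ m : MM, π m = 1 ↔ (m : G) ∈ B := fun m => by
    rw [hπ, QuotientGroup.mk'_apply, QuotientGroup.eq_one_iff]; rfl
  set Nb := N.map π with hNb
  haveI : Nb.Normal := Subgroup.Normal.map inferInstance _ (QuotientGroup.mk'_surjective _)
  set ζ := F.emb hB (F.zR : Cz b) with hζ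
  have hζ2 : ζ * ζ = 1 := by rw [hζ, ← map_mul, ← Subgroup.coe_mul, F.zR_sq]; exact map_one _
  let φ : Nb →* Nb := MonoidHom.mk' (fun x => ⟨π ζ * x * (π ζ)⁻¹, (inferInstance : Nb.Normal).conj_mem _ x.2 _⟩)
    fun x y => Subtype.ext (by simp only [Subgroup.coe_mul]; group)
  have hinv : Function.Involutive φ := fun x => Subtype.ext (by
    show π ζ * (π ζ * x.1 * (π ζ)⁻¹) * (π ζ)⁻¹ = x.1
    rw [show π ζ * (π ζ * x.1 * (π ζ)⁻¹) * (π ζ)⁻¹ = (π ζ * π ζ) * x.1 * (π ζ * π ζ)⁻¹ by group,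
      ← map_mul, hζ2, map_one, one_mul, inv_one, mul_one])
  have hfpf : MonoidHom.FixedPointFree φ := by
    rintro ⟨_, n, hn, rfl⟩ hx
    have h1 : π (ζ * n * ζ⁻¹) = π n := by rw [map_mul, map_mul, map_inv]; exact congrArg Subtype.val hx
    refine Subtype.ext ((hπ1 n).2 (hfix n hn ?_))
    rw [hπ, QuotientGroup.mk'_eq_mk'] at h1
    obtain ⟨β, hβ, h1⟩ := h1
    have hβ' : (β : G) ∈ B := hβ
    have e1 : (ζ * n * ζ⁻¹) * β = n := h1
    have hβ2 : β * β = 1 := by
      have c : ∀ m : MM, Commute m β := fun m => Subtype.ext (hbB _ hβ' m)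
      have e2 : ζ * (ζ * n * ζ⁻¹ * β) * ζ⁻¹ = ζ * n * ζ⁻¹ := by rw [e1]
      rw [show ζ * (ζ * n * ζ⁻¹ * β) * ζ⁻¹ = (ζ * ζ) * n * ζ⁻¹ * (β * ζ⁻¹) by group,
        hζ2, one_mul, ← (c ζ⁻¹).eq, show n * ζ⁻¹ * (ζ⁻¹ * β) = n * (ζ * ζ)⁻¹ * β by group, hζ2, inv_one,
        mul_one] at e2
      have e3 : n * β * β = n := by rw [e2]; exact e1
      rwa [mul_assoc, mul_eq_left] at e3
    have hβ1 : β = 1 := Subtype.ext (F.sq_zero hB hβ' (congrArg Subtype.val hβ2))
    rw [hβ1, mul_one, mul_inv_eq_iff_eq_mul] at e1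
    exact (congrArg Subtype.val e1).symm
  have hflip : ∀ n ∈ N, π (ζ * n * ζ⁻¹) = π n⁻¹ := by
    intro n hn
    have := congrFun (MonoidHom.FixedPointFree.coe_eq_inv_of_involutive hfpf hinv) ⟨π n, n, hn, rfl⟩
    rw [map_mul, map_mul, map_inv, map_inv]
    exact congrArg Subtype.val this
  have hconj : ∀ (s : Rz Q b), IsConj z (rv s) → s ≠ F.zR → ∀ n ∈ N,
      π (F.emb hB s * n * (F.emb hB s)⁻¹) = π n⁻¹ := by
    intro s hs hsz n hn
    obtain ⟨m, hbm, hm⟩ := F.fuse (rv_KS s) hs (fun h => hsz (Subtype.ext (Subtype.ext (Subtype.ext h)))) (rv_comm s)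
    set mm : MM := ⟨m, (F.mem_cent hB m).2 hbm.symm⟩
    have he : F.emb hB s = mm * ζ * mm⁻¹ := Subtype.ext hm.symm
    have h1 := hflip _ ((inferInstance : N.Normal).conj_mem n hn mm⁻¹)
    rw [he, show mm * ζ * mm⁻¹ * n * (mm * ζ * mm⁻¹)⁻¹ = mm * (ζ * (mm⁻¹ * n * mm⁻¹⁻¹) * ζ⁻¹) * mm⁻¹ by group,
      map_mul, map_mul, h1, ← map_mul, ← map_mul]
    congr 1; group
  obtain ⟨r, hr, hrc⟩ := F.coord_x0
  have hhalf : Co1Seven.up (Pi.single 0 1) ≠ (0 : V6) ∧ Co1Seven.Half (Co1Seven.up (Pi.single 0 1)) :=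
    Co1Seven.half_up _ (fun h => up_single_ne (by rw [h]; funext j; fin_cases j <;> rfl))
  have hrz : r ≠ F.zR := fun h => hhalf.1 (by rw [← hrc, h]; exact (F.coord_zero _).2 (Or.inr rfl))
  have hr2c : F.coord (r * F.zR) = F.coord r := by
    rw [F.coord_mul, (F.coord_zero F.zR).2 (Or.inr rfl), add_zero]
  have hrz' : r * F.zR ≠ F.zR := fun h => hhalf.1 (by
    rw [← hrc, ← hr2c, h]; exact (F.coord_zero _).2 (Or.inr rfl))
  intro n hn
  have h1 := hconj r ((F.conj_class_iff r).2 (Or.inr (hrc ▸ hhalf))) hrz n hn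
  have h2 := hconj (r * F.zR) ((F.conj_class_iff _).2 (Or.inr (by rw [hr2c, hrc]; exact hhalf))) hrz' n hn
  have hrz2 : F.emb hB ((r * F.zR : Rz Q b) : Cz b) = F.emb hB r * ζ := map_mul (F.emb hB) _ _
  rw [hrz2,
    show F.emb hB r * ζ * n * (F.emb hB r * ζ)⁻¹ = F.emb hB r * (ζ * n * ζ⁻¹) * (F.emb hB r)⁻¹ by group,
    map_mul, map_mul, hflip n hn, map_inv π n, map_inv] at h2
  rw [map_mul, map_mul, map_inv, map_inv] at h1
  have h3 : π (n * n) = 1 := by
    have h4 : π (F.emb hB r) * π n * (π (F.emb hB r))⁻¹ = π n := by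
      have := congrArg (fun y => y⁻¹) h2
      simp only [inv_inv, mul_inv_rev] at this
      rw [← mul_assoc] at this
      exact this
    rw [h4] at h1
    rw [map_mul]
    exact eq_inv_iff_mul_eq_one.1 h1
  exact (hπ1 _).1 h3

theorem Frame.odd_small (N : Subgroup MM) [N.Normal] (hodd : Odd (Nat.card N)) : ∀ n ∈ N, (n : G) ∈ B := by
  have h1 : ∀ r : Rz Q b, F.emb hB r ∈ N → r = 1 := by
    intro r hr
    have h4 : (F.emb hB r) ^ 4 = 1 := Subtype.ext (KS_two_power F.hs (rv_KS r))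
    have h5 : orderOf (F.emb hB r) ∣ Nat.card N := by
      rw [show orderOf (F.emb hB r) = orderOf (⟨_, hr⟩ : N) from Subgroup.orderOf_coe ⟨_, hr⟩]
      exact orderOf_dvd_natCard _
    have hd : orderOf (F.emb hB r) ∣ Nat.gcd 4 (Nat.card N) := Nat.dvd_gcd (orderOf_dvd_of_pow_eq_one h4) h5
    have hg : Nat.gcd 4 (Nat.card N) = 1 := by
      show Nat.Coprime (2 ^ 2) _
      exact Nat.Coprime.pow_left 2 ((Nat.coprime_two_left).2 hodd)
    rw [hg, Nat.dvd_one, orderOf_eq_one_iff] at hd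
    exact Subtype.ext (F.emb_inj hB (hd.trans (map_one _).symm))
  intro n hn
  have h2 := F.inverted hB N (F.small_fix hB N h1) n hn
  obtain ⟨k, hk⟩ := hodd
  have h3 : n ^ Nat.card N = 1 := by
    have := pow_card_eq_one' (G := N) (x := ⟨n, hn⟩)
    exact (congrArg Subtype.val this :)
  have h3' : (n : G) ^ (2 * k + 1) = 1 := by rw [← hk, ← SubmonoidClass.coe_pow, h3]; rfl
  have h4 : (n : G) = (((n : G) * n) ^ k)⁻¹ := by
    rw [← sq, ← pow_mul, eq_inv_iff_mul_eq_one, ← pow_succ']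
    exact h3'
  rw [h4]
  exact inv_mem (pow_mem h2 k)

theorem Frame.layer_ne : Cfsg.layer MM ≠ ⊥ := by
  classical
  haveI : Fact (Nat.Prime 2) := ⟨Nat.prime_two⟩
  intro hL
  set T := Cfsg.pCore 2 MM with hT
  haveI : T.Normal := Cfsg.Agent.Solv.pCore_normal 2
  have hTp : IsPGroup 2 T := Cfsg.Agent.Solv.pCore_isPGroup 2
  set NB := B.subgroupOf (Subgroup.centralizer (B : Set G)) with hNB
  set Ff := Cfsg.fittingSubgroup MM with hFf
  haveI hFn : Ff.Normal := Cfsg.Agent.Solv.fittingSubgroup_normal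
  haveI : Group.IsNilpotent Ff := Cfsg.Agent.Solv.fittingSubgroup_nilpotent
  have hFle : Ff ≤ NB ⊔ T := by
    suffices h : (NB ⊔ T).subgroupOf Ff = ⊤ from Subgroup.subgroupOf_eq_top.1 h
    rw [← Subgroup.index_eq_one]
    by_contra hne
    obtain ⟨p, hp, hpd⟩ := Nat.exists_prime_and_dvd hne
    haveI : Fact p.Prime := ⟨hp⟩
    obtain ⟨P⟩ : Nonempty (Sylow p Ff) := inferInstance
    have hPn : (P : Subgroup Ff).Normal :=
      ((Group.isNilpotent_of_finite_tfae (G := Ff)).out 0 3 rfl rfl).mp inferInstance p ⟨hp⟩ P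
    haveI := hPn
    haveI : (P : Subgroup Ff).Characteristic := Sylow.characteristic_of_normal P hPn
    set Pm := (P : Subgroup Ff).map Ff.subtype with hPm
    haveI : Pm.Normal := Cfsg.Agent.Solv.map_subtype_normal_of_characteristic Ff _
    have hPle : Pm ≤ NB ⊔ T := by
      by_cases h2 : p = 2
      · subst h2
        exact le_sup_of_le_right (Cfsg.Agent.Solv.normal_le_pCore (P.2.map _))
      · refine le_sup_of_le_left fun n hn => F.odd_small hB Pm ?_ n hn
        obtain ⟨k, hk⟩ := IsPGroup.iff_card.1 (P.2.map Ff.subtype)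
        rw [hPm, hk]
        exact (hp.odd_of_ne_two h2).pow
    have hle : (P : Subgroup Ff) ≤ (NB ⊔ T).subgroupOf Ff := fun x hx => hPle ⟨x, hx, rfl⟩
    exact P.not_dvd_index (hpd.trans (Subgroup.index_dvd_of_le hle))
  have hC : Subgroup.centralizer (T : Set MM) ≤ NB ⊔ T := by
    refine le_trans ?_ hFle
    have h1 := Cfsg.Agent.Solv.centralizer_gfit_le (G := MM)
    rw [Cfsg.generalizedFittingSubgroup, hL, bot_sup_eq, ← hFf] at h1
    refine le_trans (fun m hm => ?_) h1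
    refine Subgroup.mem_centralizer_iff.2 fun y hy => ?_
    have hle : NB ⊔ T ≤ Subgroup.centralizer ({m} : Set MM) := sup_le
      (fun β hβ => Subgroup.mem_centralizer_singleton_iff.2 (Subtype.ext
        ((Subgroup.mem_centralizer_iff.1 m.2 _ (hβ : (β : G) ∈ B)))))
      (fun t ht => Subgroup.mem_centralizer_singleton_iff.2 (Subgroup.mem_centralizer_iff.1 hm t ht))
    exact Subgroup.mem_centralizer_singleton_iff.1 (hle (hFle hy))
  have hz1 : z ∉ B := fun h => F.hs.z_ne (F.KS_meet (z_in_KS F.hs) (hB ▸ h))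
  by_cases hno : ∀ r : Rz Q b, F.emb hB r ∈ T → r = 1
  · have hT1 : T = ⊥ := by
      rw [Subgroup.eq_bot_iff_forall]
      have hmeet : ∀ n ∈ T, (n : G) ∈ B → n = 1 := by
        intro n hn hnB
        obtain ⟨k, hk⟩ := hTp ⟨n, hn⟩
        have h1 : (n : G) ^ 2 ^ k = 1 := congrArg (fun x : T => (((x : MM)) : G)) hk
        have h7 : (n : G) ^ 7 = 1 := by
          obtain ⟨j, hj⟩ := Subgroup.mem_zpowers_iff.1 ((le_of_eq hB) hnB)
          rw [← hj, ← zpow_natCast, ← zpow_mul, mul_comm, zpow_mul, zpow_natCast, F.b_pow, one_zpow]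
        refine Subtype.ext (orderOf_eq_one_iff.1 (Nat.dvd_one.1 ?_))
        have := Nat.dvd_gcd (orderOf_dvd_of_pow_eq_one h7) (orderOf_dvd_of_pow_eq_one h1)
        rwa [show Nat.gcd 7 (2 ^ k) = 1 from Nat.Coprime.pow_right k (by norm_num)] at this
      have hsq : ∀ n ∈ T, n * n = 1 := fun n hn =>
        hmeet _ (mul_mem hn hn) (F.inverted hB T (F.small_fix hB T hno) n hn)
      intro n hn
      set ζ := F.emb hB (F.zR : Cz b)
      have hζ2 : ζ * ζ = 1 := by rw [← map_mul, ← Subgroup.coe_mul, F.zR_sq]; exact map_one _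
      have hcomm : ∀ a ∈ T, ∀ c ∈ T, a * c = c * a := fun a ha c hc => by
        have hi : ∀ x ∈ T, x⁻¹ = x := fun x hx => inv_eq_of_mul_eq_one_right (hsq x hx)
        rw [← hi _ (mul_mem ha hc), mul_inv_rev, hi a ha, hi c hc]
      have hfix1 : ∀ x ∈ T, x * ζ = ζ * x → x = 1 := fun x hx hxz =>
        hmeet x hx (F.small_fix hB T hno x hx (congrArg Subtype.val hxz))
      have hn' := (inferInstance : T.Normal).conj_mem n hn ζ
      have hu : n * (ζ * n * ζ⁻¹) = 1 := hfix1 _ (mul_mem hn hn') (by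
        have hζi : ζ⁻¹ = ζ := inv_eq_of_mul_eq_one_right hζ2
        calc n * (ζ * n * ζ⁻¹) * ζ = n * ζ * n := by group
          _ = (ζ * ζ) * n * ζ⁻¹ * n := by rw [hζ2, one_mul, hζi]
          _ = ζ * ((ζ * n * ζ⁻¹) * n) := by group
          _ = ζ * (n * (ζ * n * ζ⁻¹)) := by rw [hcomm _ hn' n hn])
      refine hfix1 n hn ?_
      have hi : n⁻¹ = n := inv_eq_of_mul_eq_one_right (hsq n hn)
      have e1 : ζ * n * ζ⁻¹ = n := by rw [← hi]; rw [mul_eq_one_iff_inv_eq] at hu; rw [hi]; rw [hi] at hu; exact hu.symm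
      rw [mul_inv_eq_iff_eq_mul] at e1
      exact e1.symm
    have hall : (F.emb hB (F.zR : Cz b)) ∈ NB ⊔ T := hC (by
      rw [hT1, Subgroup.mem_centralizer_iff]
      intro y hy
      rw [SetLike.mem_coe, Subgroup.mem_bot] at hy
      rw [hy, one_mul, mul_one])
    rw [hT1, sup_bot_eq] at hall
    exact hz1 hall
  · push_neg at hno
    obtain ⟨r, hr, hr1⟩ := hno
    have hz := F.z_in hB T hr1 hr
    have hRle := F.R_le hB T hz
    set RT := ((Rz Q b).map (F.emb hB)).subgroupOf T with hRT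
    have hCT : ∀ n ∈ T, (n : G) * z = z * (n : G) → n ∈ (Rz Q b).map (F.emb hB) := by
      intro n hn hnz
      let h : Cz b := ⟨⟨n, Subgroup.mem_centralizer_singleton_iff.2 hnz⟩,
        Subgroup.mem_centralizer_singleton_iff.2 (Subtype.ext ((F.mem_cent hB _).1 n.2))⟩
      set TT := T.comap (F.emb hB) with hTT
      have hTTp : IsPGroup 2 TT := hTp.comap_of_injective _ (F.emb_inj hB)
      haveI : (TT.map F.nu).Normal := Subgroup.Normal.map (Subgroup.Normal.comap inferInstance _) _ F.nu_surj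
      have hbot := sl_no_two (TT.map F.nu) (hTTp.map _)
      have h1 : F.nu h = 1 := by
        have : F.nu h ∈ TT.map F.nu := ⟨h, hn, rfl⟩
        rwa [hbot, Subgroup.mem_bot] at this
      obtain ⟨j, s, he⟩ := (F.nu_eq_one h).1 h1
      have h2 : (⟨b, F.b_mem⟩ : Cz b) ^ j ∈ TT := by
        have h3 : h * (s : Cz b)⁻¹ ∈ TT := mul_mem hn (inv_mem (hRle s))
        rwa [he, mul_inv_cancel_right] at h3
      obtain ⟨k, hk⟩ := hTTp ⟨_, h2⟩
      have hk' : ((⟨b, F.b_mem⟩ : Cz b) ^ j) ^ 2 ^ k = 1 := congrArg Subtype.val hk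
      have h7 : ((⟨b, F.b_mem⟩ : Cz b) ^ j) ^ 7 = 1 := by
        rw [← zpow_natCast, ← zpow_mul, mul_comm, zpow_mul, zpow_natCast,
          show (⟨b, F.b_mem⟩ : Cz b) ^ 7 = 1 from Subtype.ext F.hb7, one_zpow]
      have hj : (⟨b, F.b_mem⟩ : Cz b) ^ j = 1 := orderOf_eq_one_iff.1 (Nat.dvd_one.1 (by
        have := Nat.dvd_gcd (orderOf_dvd_of_pow_eq_one h7) (orderOf_dvd_of_pow_eq_one hk')
        rwa [show Nat.gcd 7 (2 ^ k) = 1 from Nat.Coprime.pow_right k (by norm_num)] at this))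
      rw [hj, one_mul] at he
      exact ⟨s, s.2, by rw [← he]; rfl⟩
    haveI : Group.IsNilpotent T := hTp.isNilpotent
    have htop : RT = ⊤ := by
      by_contra hne
      have hlt := Group.normalizerCondition_of_isNilpotent (G := T) RT (lt_top_iff_ne_top.2 hne)
      obtain ⟨n, hn, hnR⟩ := SetLike.exists_of_lt hlt
      refine hnR (hCT n n.2 ?_)
      set ζT : T := ⟨_, hz⟩ with hζT
      have hmem : n * ζT * n⁻¹ ∈ RT := (Subgroup.mem_normalizer_iff.1 hn ζT).1 ⟨_, F.zR.2, rfl⟩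
      obtain ⟨s, hs, hse⟩ := hmem
      by_cases hs1 : (⟨s, hs⟩ : Rz Q b) = F.zR
      · have e1 : s = (F.zR : Cz b) := congrArg Subtype.val hs1
        rw [e1] at hse
        have e2 : ((n : MM) : G) * z * ((n : MM) : G)⁻¹ = z := (congrArg Subtype.val hse).symm
        rwa [mul_inv_eq_iff_eq_mul] at e2
      · exfalso
        have hs0 : (⟨s, hs⟩ : Rz Q b) ≠ 1 := fun h => by
          have e1 : s = 1 := congrArg Subtype.val h
          rw [e1, map_one] at hse
          have e2 : ((n : MM) : G) * z * ((n : MM) : G)⁻¹ = 1 := (congrArg Subtype.val hse).symm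
          exact F.hs.z_ne (by
            rw [show z = ((n : MM) : G)⁻¹ * (((n : MM) : G) * z * ((n : MM) : G)⁻¹) * (n : MM) by group, e2]; group)
        obtain ⟨y, hy⟩ := F.flip_R (r := ⟨s, hs⟩) (fun h => hs0 (Subtype.ext (Subtype.ext (Subtype.ext h))))
          (fun h => hs1 (Subtype.ext (Subtype.ext (Subtype.ext h))))
        set yT : T := ⟨F.emb hB y, hRle y⟩ with hyT
        have hyR : yT ∈ RT := ⟨_, y.2, rfl⟩
        have hy' := (Subgroup.mem_normalizer_iff'.1 hn (n⁻¹ * yT)).2 (by simpa using hyR)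
        obtain ⟨y', hy'R, hy'e⟩ := hy'
        have hcy : F.emb hB y' * F.emb hB (F.zR : Cz b) = F.emb hB (F.zR : Cz b) * F.emb hB y' :=
          Subtype.ext (z_comm_KS (Q := Q) (rv_KS (Q := Q) (⟨y', hy'R⟩ : Rz Q b)))
        have e1 : F.emb hB y' = ((n : MM))⁻¹ * F.emb hB y * (n : MM) := by rw [hy'e]; simp [hyT]
        rw [e1] at hcy
        have e2 : F.emb hB y * F.emb hB s * (F.emb hB y)⁻¹ = F.emb hB s := by
          rw [show F.emb hB s = (n : MM) * F.emb hB (F.zR : Cz b) * (n : MM)⁻¹ from hse, mul_inv_eq_iff_eq_mul]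
          calc F.emb hB y * ((n : MM) * F.emb hB (F.zR : Cz b) * (n : MM)⁻¹)
              = (n : MM) * ((n : MM)⁻¹ * F.emb hB y * (n : MM) * F.emb hB (F.zR : Cz b)) * (n : MM)⁻¹ := by group
            _ = (n : MM) * (F.emb hB (F.zR : Cz b) * ((n : MM)⁻¹ * F.emb hB y * (n : MM))) * (n : MM)⁻¹ := by rw [hcy]
            _ = _ := by group
        have e3 : rv y * rv (⟨s, hs⟩ : Rz Q b) * (rv y)⁻¹ = rv (⟨s, hs⟩ : Rz Q b) := congrArg Subtype.val e2
        rw [e3] at hy
        exact F.hs.z_ne (mul_eq_left.1 hy.symm)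
    obtain ⟨r0, hr0, hr0c⟩ := F.coord_x0
    obtain ⟨hc, hne⟩ := F.x0_conj
    obtain ⟨m, hbm, hm⟩ := F.fuse (mem_KS.2 ⟨x0, rfl⟩) hc hne (congrArg Subtype.val F.hbx)
    set mm : MM := ⟨m, (F.mem_cent hB m).2 hbm.symm⟩
    obtain ⟨y, hy⟩ := F.flip_R (r := r0) (fun h => F.hs.z_ne (by
        rw [hr0, ← hm] at h
        rw [show z = m⁻¹ * (m * z * m⁻¹) * m by group, h]; group)) (by rw [hr0]; exact hne)
    obtain ⟨y', hy'R, hy'e⟩ : (⟨_, (inferInstance : T.Normal).conj_mem _ (hRle y) mm⁻¹⟩ : T) ∈ RT :=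
      htop ▸ Subgroup.mem_top _
    have h1 : (F.emb hB y' : MM) = mm⁻¹ * F.emb hB y * mm⁻¹⁻¹ := hy'e
    have h2 : rv (⟨y', hy'R⟩ : Rz Q b) = m⁻¹ * rv y * m := by
      have := congrArg Subtype.val h1
      simp only [Subgroup.coe_mul, InvMemClass.coe_inv, inv_inv] at this
      exact this
    have h3 := z_comm_KS (Q := Q) (rv_KS (⟨y', hy'R⟩ : Rz Q b))
    rw [h2] at h3
    have h4 : rv y * rv r0 * (rv y)⁻¹ = rv r0 := by
      rw [hr0, ← hm, mul_inv_eq_iff_eq_mul]
      calc rv y * (m * z * m⁻¹) = m * ((m⁻¹ * rv y * m) * z) * m⁻¹ := by group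
        _ = m * (z * (m⁻¹ * rv y * m)) * m⁻¹ := by rw [h3]
        _ = _ := by group
    rw [h4] at hy
    exact F.hs.z_ne (mul_eq_left.1 hy.symm)

theorem Frame.R_le_layer (r : Rz Q b) : F.emb hB r ∈ Cfsg.layer MM := by
  classical
  haveI : (Cfsg.layer MM).Normal := Local.layer_normal
  by_cases hno : ∀ s : Rz Q b, F.emb hB s ∈ Cfsg.layer MM → s = 1
  · exfalso
    have hsq := F.inverted hB (Cfsg.layer MM) (F.small_fix hB _ hno)
    have hbB : ∀ β ∈ B, ∀ m : MM, (m : G) * β = β * m := fun β hβ m =>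
      (Subgroup.mem_centralizer_iff.1 m.2 β hβ).symm
    have hcom : ∀ x ∈ Cfsg.layer MM, ∀ y ∈ Cfsg.layer MM, ((⁅x, y⁆ : MM) : G) ∈ B := by
      intro x hx y hy
      have h1 := hsq x hx
      have h2 := hsq y⁻¹ (inv_mem hy)
      have h3 := hsq (x⁻¹ * y) (mul_mem (inv_mem hx) hy)
      have e : ((⁅x, y⁆ : MM) : G) =
          ((x : G) * x) * (((x⁻¹ * y : MM) : G) * ((x⁻¹ * y : MM) : G)) * (((y⁻¹ : MM) : G) * ((y⁻¹ : MM) : G)) := by
        simp only [commutatorElement_def, Subgroup.coe_mul, InvMemClass.coe_inv]; group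
      rw [e]
      exact mul_mem (mul_mem h1 h3) h2
    have hle : ∀ x ∈ Cfsg.layer MM, (x : G) ∈ B := by
      intro x hx
      rw [← Cfsg.Agent.Solv.layer_perfect] at hx
      have : ⁅Cfsg.layer MM, Cfsg.layer MM⁆ ≤ B.subgroupOf (Subgroup.centralizer (B : Set G)) :=
        Subgroup.commutator_le.2 fun a ha c hc => hcom a ha c hc
      exact this hx
    refine F.layer_ne hB ?_
    rw [← Cfsg.Agent.Solv.layer_perfect, Subgroup.commutator_eq_bot_iff_le_centralizer]
    exact fun x hx => Subgroup.mem_centralizer_iff.2 fun y hy => Subtype.ext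
      (hbB _ (hle x hx) y)
  · push_neg at hno
    obtain ⟨s, hs, hs1⟩ := hno
    exact F.R_le hB _ (F.z_in hB _ hs1 hs) r

end Internal

theorem Frame.sign_invol (F : Frame z Q e ψ b x0) {s : Cfsg.Spor.Co1} (hs : s ∈ signSub1) (hs1 : s ≠ 1) :
    ∃ h : Subgroup.centralizer ({z} : Set G), h * h = 1 ∧ proj e h = s := by
  classical
  have S := F.hs
  haveI : Fact (Nat.Prime 2) := ⟨Nat.prime_two⟩
  obtain ⟨hc, hne⟩ := F.x0_conj
  set x : G := ((x0 : Subgroup.centralizer ({z} : Set G)) : G) with hx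
  obtain ⟨g, hg⟩ := isConj_iff.1 hc
  have hx0c := S.noncentral F.hx0 (Or.inr (e8_norm none))
  set K' := (KS Q).map (MulAut.conj g).toMonoidHom with hK'
  have hK'mem : ∀ u, u ∈ K' ↔ g⁻¹ * u * g ∈ KS Q := fun u => by
    constructor
    · rintro ⟨w, hw, rfl⟩
      show g⁻¹ * (g * w * g⁻¹) * g ∈ KS Q
      rwa [show g⁻¹ * (g * w * g⁻¹) * g = w by group]
    · intro h
      exact ⟨_, h, by show g * (g⁻¹ * u * g) * g⁻¹ = u; group⟩
  obtain ⟨hle, hEn, -, hcard, -⟩ := S.split x0 hg hne _ _ rfl rfl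
  set M := ((K' ⊓ Subgroup.centralizer ({z} : Set G)).subgroupOf (Subgroup.centralizer ({z} : Set G))) with hM
  set W := (M.map (QuotientGroup.mk' Q)).map e.toMonoidHom with hW
  have hWc : Nat.card W = 2048 := by
    rw [hW, ← Nat.card_congr (Subgroup.equivMapOfInjective _ e.toMonoidHom e.injective).toEquiv]
    exact hcard.trans (by norm_num)
  have hXW : ∀ k ∈ ((Subgroup.centralizer ({z} : Set G) ⊓ Subgroup.centralizer
      ({x} : Set G)).subgroupOf (Subgroup.centralizer ({z} : Set G))).map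
        (QuotientGroup.mk' Q), e k ∈ classStab1 (e8 none) := by
    rintro _ ⟨k, hk, rfl⟩
    refine S.stab_image F.hx0 ?_
    rw [mul_inv_eq_iff_eq_mul]
    exact Subtype.ext (Subgroup.mem_centralizer_singleton_iff.1 hk.2)
  have hWs : W = signSub1 := by
    refine eq_sign (IsPGroup.of_card (n := 11) (by rw [hWc]; norm_num)) ?_ ?_ hWc
    · rintro _ ⟨k, hk, rfl⟩
      exact hXW k (hle hk)
    · intro t ht w hw
      obtain ⟨g1, hg1, rfl⟩ := ht
      obtain ⟨h, hh, hhx⟩ := S.conj_to F.hx0 F.hx0 hx0c (g := g1) hg1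
      obtain ⟨k, hk, rfl⟩ := hw
      refine ⟨QuotientGroup.mk' Q h * k * (QuotientGroup.mk' Q h)⁻¹, hEn _ ⟨h, ?_, rfl⟩ k hk, ?_⟩
      · rw [SetLike.mem_coe, Subgroup.mem_subgroupOf]
        refine ⟨h.2, Subgroup.mem_centralizer_singleton_iff.2 ?_⟩
        rw [mul_inv_eq_iff_eq_mul] at hhx
        exact congrArg Subtype.val hhx
      · rw [map_mul, map_mul, map_inv]
        show e (QuotientGroup.mk' Q h) * e k * (e (QuotientGroup.mk' Q h))⁻¹ = _
        rw [← hh]; rfl
  obtain ⟨_, ⟨k, hk, rfl⟩, hks⟩ : s ∈ W := hWs ▸ hs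
  have hkp : proj e k = s := hks
  have hkK : (k : G) ∈ K' := hk.1
  have hsq : (k : G) * k = 1 ∨ (k : G) * k = x := by
    rcases KS_sq S ((hK'mem _).1 hkK) with h | h
    · left
      calc (k : G) * k = g * ((g⁻¹ * (k : G) * g) * (g⁻¹ * (k : G) * g)) * g⁻¹ := by group
        _ = 1 := by rw [h]; group
    · right
      calc (k : G) * k = g * ((g⁻¹ * (k : G) * g) * (g⁻¹ * (k : G) * g)) * g⁻¹ := by group
        _ = x := by rw [h, hg]
  rcases hsq with hsq | hsq
  · exact ⟨k, Subtype.ext hsq, hkp⟩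
  set A := KS Q ⊓ K' with hA
  have hAmem : ∀ a ∈ A, a * a = 1 ∧ a * (k : G) * a⁻¹ * (k : G)⁻¹ ∈ ({1, x} : Set G) := by
    intro a ha
    obtain ⟨ha1, ha2⟩ := Subgroup.mem_inf.1 ha
    refine ⟨?_, ?_⟩
    · rcases KS_sq S ha1 with h | h
      · exact h
      · exfalso
        rcases KS_sq S ((hK'mem a).1 ha2) with h' | h'
        · refine S.z_ne (h.symm.trans ?_)
          calc a * a = g * ((g⁻¹ * a * g) * (g⁻¹ * a * g)) * g⁻¹ := by group
            _ = 1 := by rw [h']; group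
        · refine hne (Eq.trans ?_ h)
          calc x = g * ((g⁻¹ * a * g) * (g⁻¹ * a * g)) * g⁻¹ := by rw [h', hg]
            _ = a * a := by group
    · rcases KS_comm S _ ((hK'mem a).1 ha2) _ ((hK'mem _).1 hkK) with h | h
      · left
        calc a * (k : G) * a⁻¹ * (k : G)⁻¹ = g * (g⁻¹ * a * g * (g⁻¹ * (k : G) * g) * (g⁻¹ * a * g)⁻¹ *
              (g⁻¹ * (k : G) * g)⁻¹) * g⁻¹ := by group
          _ = 1 := by rw [h]; group
      · right
        show _ = x
        calc a * (k : G) * a⁻¹ * (k : G)⁻¹ = g * (g⁻¹ * a * g * (g⁻¹ * (k : G) * g) * (g⁻¹ * a * g)⁻¹ *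
              (g⁻¹ * (k : G) * g)⁻¹) * g⁻¹ := by group
          _ = x := by rw [h, hg]
  obtain ⟨a, ha, hax⟩ : ∃ a ∈ A, a * (k : G) * a⁻¹ * (k : G)⁻¹ = x := by
    by_contra hcon
    push_neg at hcon
    have hcomm : ∀ a ∈ A, a * (k : G) = k * a := fun a ha => by
      have h := (hAmem a ha).2.resolve_right (hcon a ha)
      rwa [mul_inv_eq_one, mul_inv_eq_iff_eq_mul] at h
    have hAc : ∀ a ∈ A, ∀ c ∈ A, a * c = c * a := fun a ha c hc => by
      have hi : ∀ w ∈ A, w⁻¹ = w := fun w hw => inv_eq_of_mul_eq_one_right (hAmem w hw).1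
      rw [← hi _ (mul_mem ha hc), mul_inv_rev, hi a ha, hi c hc]
    set φ : Q →* G := (Subgroup.centralizer ({z} : Set G)).subtype.comp Q.subtype with hφ
    set ψ' : Q →* G := (MulAut.conj g).toMonoidHom.comp φ with hψ'
    have hψi : Function.Injective ψ' := (MulAut.conj g).injective.comp
      ((Subgroup.subtype_injective _).comp (Subgroup.subtype_injective Q))
    have hrange : ψ'.range = K' := by
      rw [hψ', MonoidHom.range_comp, hφ, MonoidHom.range_comp, Subgroup.range_subtype]; rfl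
    set A' := A ⊔ Subgroup.zpowers (k : G) with hA'
    have hA'K : A' ≤ K' := sup_le inf_le_right (Subgroup.zpowers_le.2 hkK)
    have hAcent : A' ≤ Subgroup.centralizer (A' : Set G) := by
      refine sup_le ?_ ?_ <;> rw [Subgroup.le_centralizer_iff] <;> refine sup_le ?_ ?_
      · exact fun c hc => Subgroup.mem_centralizer_iff.2 fun a ha => hAc a ha c hc
      · exact Subgroup.zpowers_le.2 (Subgroup.mem_centralizer_iff.2 fun a ha => hcomm a ha)
      · intro c hc
        refine Subgroup.mem_centralizer_iff.2 fun w hw => ?_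
        obtain ⟨i, rfl⟩ := Subgroup.mem_zpowers_iff.1 hw
        exact ((show Commute c (k : G) from hcomm c hc).zpow_right i).eq.symm
      · refine Subgroup.zpowers_le.2 (Subgroup.mem_centralizer_iff.2 fun w hw => ?_)
        obtain ⟨i, rfl⟩ := Subgroup.mem_zpowers_iff.1 hw
        exact ((Commute.refl (k : G)).zpow_left i).eq
    have hcm : IsMulCommutative ↥(A'.comap ψ') := ⟨⟨fun u v => Subtype.ext (hψi (by
      rw [Subgroup.coe_mul, Subgroup.coe_mul, map_mul, map_mul]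
      exact (Subgroup.mem_centralizer_iff.1 (hAcent u.2) _ v.2).symm))⟩⟩
    have hle13 := abelian_le S hcm
    have hcard' : Nat.card (A'.comap ψ') = Nat.card A' := by
      rw [Nat.card_congr (Subgroup.equivMapOfInjective _ ψ' hψi).toEquiv]
      exact congrArg (fun H : Subgroup G => Nat.card H) (by
        rw [Subgroup.map_comap_eq, hrange]; exact inf_eq_right.2 hA'K)
    have hAcard : Nat.card A = 2 ^ 13 := S.meet_card x0 hg hne
    have heq := Subgroup.eq_of_le_of_card_ge (le_sup_left : A ≤ A') (by rw [hAcard, ← hcard']; exact hle13)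
    have hkA : (k : G) ∈ A := heq ▸ Subgroup.mem_sup_right (Subgroup.mem_zpowers _)
    exact hs1 (hkp ▸ (proj_one (e := e) k).2 (val_mem_KS.1 hkA.1))
  obtain ⟨q, hq, hqa⟩ := (Subgroup.mem_inf.1 ha).1
  refine ⟨q * k, Subtype.ext ?_, by rw [map_mul, (proj_one (e := e) q).2 hq, one_mul, hkp]⟩
  change (q : G) = a at hqa
  show (q : G) * (k : G) * ((q : G) * (k : G)) = 1
  rw [hqa]
  obtain ⟨h2, -⟩ := hAmem a ha
  have hai : a⁻¹ = a := inv_eq_of_mul_eq_one_right h2
  rw [hai, mul_inv_eq_iff_eq_mul] at hax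
  calc a * (k : G) * (a * (k : G)) = a * (k : G) * a * (k : G) := by group
    _ = x * ((k : G) * k) := by rw [hax]; group
    _ = x * x := by rw [hsq]
    _ = 1 := by rw [← hg, show g * z * g⁻¹ * (g * z * g⁻¹) = g * (z * z) * g⁻¹ by group, zz S]; group

theorem Frame.invol_inv (F : Frame z Q e ψ b x0) :
    ∃ t : Subgroup.centralizer ({z} : Set G), t * t = 1 ∧ t ≠ 1 ∧ t * b = b⁻¹ * t ∧
      proj e t * Co1Seven.beta = Co1Seven.beta⁻¹ * proj e t := by
  classical
  haveI : Fact (Nat.Prime 7) := ⟨by norm_num⟩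
  obtain ⟨c, s, hs, hs1, hrel⟩ := Co1Seven.beta_inverted
  obtain ⟨h, hh2, hhs⟩ := F.sign_invol hs hs1
  obtain ⟨hc, hhc⟩ := proj_surj (e := e) c
  set u := hc * h * hc⁻¹ with hu
  have hu2 : u * u = 1 := by
    rw [hu, show hc * h * hc⁻¹ * (hc * h * hc⁻¹) = hc * (h * h) * hc⁻¹ by group, hh2]; group
  have hpu : proj e u * Co1Seven.beta = Co1Seven.beta⁻¹ * proj e u := by
    rw [hu, map_mul, map_mul, map_inv, hhc, hhs]; exact hrel
  have hui : u⁻¹ = u := inv_eq_of_mul_eq_one_right hu2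
  have hpu2 : proj e u * proj e u = 1 := by rw [← map_mul, hu2, map_one]
  clear_value u
  set y := u * (b⁻¹ * u * b) with hy
  have hpy : proj e y = Co1Seven.beta ^ 2 := by
    rw [hy, map_mul, map_mul, map_mul, map_inv, F.hpb, ← mul_assoc, ← mul_assoc]
    have e1 : proj e u * Co1Seven.beta⁻¹ = Co1Seven.beta * proj e u := by
      rw [mul_inv_eq_iff_eq_mul, mul_assoc, hpu, ← mul_assoc, mul_inv_cancel, one_mul]
    rw [e1, mul_assoc Co1Seven.beta, hpu2, mul_one, sq]
  have hinv : u * y * u⁻¹ = y⁻¹ := by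
    rw [hy, hui]
    calc u * (u * (b⁻¹ * u * b)) * u = (u * u) * (b⁻¹ * u * b) * u := by group
      _ = (b⁻¹ * u * b) * u := by rw [hu2, one_mul]
      _ = (b⁻¹ * u⁻¹ * b) * u⁻¹ := by rw [hui]
      _ = _ := by group
  set c7 := y ^ (2 ^ 25 : ℕ) with hc7
  set P := (Subgroup.zpowers Co1Seven.beta).comap (proj e) with hP
  have hyP : y ∈ P := by rw [hP, Subgroup.mem_comap, hpy]; exact Subgroup.npow_mem_zpowers _ _
  have hy7 : y ^ 7 ∈ Q := (proj_one (e := e) _).1 (by
    rw [map_pow, hpy, ← pow_mul, mul_comm, pow_mul, ← Co1Seven.orderOf_beta, pow_orderOf_eq_one, one_pow])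
  have hc77 : c7 ^ 7 = 1 := by
    rw [hc7, ← pow_mul, mul_comm, pow_mul]
    have := congrArg (fun q : Q => (q : Subgroup.centralizer ({z} : Set G)))
      (pow_card_eq_one' (G := Q) (x := ⟨y ^ 7, hy7⟩))
    rwa [F.hs.hS.2.2.2.1] at this
  have hpc : proj e c7 = Co1Seven.beta ^ (2 ^ 26 : ℕ) := by
    rw [hc7, map_pow, hpy, ← pow_mul]; norm_num
  have hci : u * c7 * u⁻¹ = c7⁻¹ := by rw [hc7, ← inv_pow, ← hinv, conj_pow]
  have hc1 : c7 ≠ 1 := by
    intro h
    rw [h, map_one] at hpc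
    have := orderOf_dvd_of_pow_eq_one hpc.symm
    rw [Co1Seven.orderOf_beta] at this
    exact absurd (Nat.Prime.dvd_of_dvd_pow (by norm_num : Nat.Prime 7) this) (by norm_num)
  have hc7P : c7 ∈ P := pow_mem hyP _
  -- Sylow conjugacy
  have hob : orderOf b = 7 := by rw [← Subgroup.orderOf_coe]; exact F.orderOf_b
  have hbP : b ∈ P := by rw [hP, Subgroup.mem_comap, F.hpb]; exact Subgroup.mem_zpowers _
  have hoc : orderOf c7 = 7 := orderOf_eq_prime hc77 hc1
  have hdvd : Nat.card P ∣ 7 * 2 ^ 25 := by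
    let f : P →* ↥(Subgroup.zpowers Co1Seven.beta) := ((proj e).comp P.subtype).codRestrict _ fun p => p.2
    have e1 := Subgroup.card_eq_card_quotient_mul_card_subgroup f.ker
    rw [Nat.card_congr (QuotientGroup.quotientKerEquivRange f).toEquiv] at e1
    rw [e1]
    refine Nat.mul_dvd_mul ?_ ?_
    · refine (Subgroup.card_subgroup_dvd_card _).trans ?_
      rw [Nat.card_zpowers, Co1Seven.orderOf_beta]
    · refine (Subgroup.card_dvd_of_injective (MonoidHom.mk' (fun k : f.ker =>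
        (⟨((k : P) : Subgroup.centralizer ({z} : Set G)), (proj_one (e := e) _).1 (congrArg Subtype.val k.2)⟩ : Q))
        fun _ _ => rfl) (fun k k' h => Subtype.ext (Subtype.ext (congrArg (fun q : Q => (q : Subgroup.centralizer ({z} : Set G))) h)))).trans ?_
      rw [F.hs.hS.2.2.2.1]
  have hf : (Nat.card P).factorization 7 = 1 := by
    refine le_antisymm ?_ ?_
    · by_contra hcon
      have h49 : 7 ^ 2 ∣ Nat.card P :=
        (pow_dvd_pow 7 (by omega : 2 ≤ (Nat.card P).factorization 7)).trans (Nat.ordProj_dvd _ _)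
      exact absurd (h49.trans hdvd) (by norm_num)
    · refine (Nat.Prime.dvd_iff_one_le_factorization (by norm_num) Nat.card_pos.ne').1 ?_
      rw [← hob, show orderOf b = orderOf (⟨b, hbP⟩ : P) from Subgroup.orderOf_coe ⟨b, hbP⟩]
      exact orderOf_dvd_natCard _
  have hc : ∀ w : Subgroup.centralizer ({z} : Set G), ∀ hw : w ∈ P, orderOf w = 7 →
      Nat.card (Subgroup.zpowers (⟨w, hw⟩ : P)) = 7 := fun w hw ho => by
    rw [Nat.card_zpowers, ← Subgroup.orderOf_coe]; exact ho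
  let Sb := Sylow.ofCard (Subgroup.zpowers (⟨b, hbP⟩ : P)) (p := 7) (by rw [hc b hbP hob, hf]; rfl)
  let Sx := Sylow.ofCard (Subgroup.zpowers (⟨c7, hc7P⟩ : P)) (p := 7) (by rw [hc c7 hc7P hoc, hf]; rfl)
  obtain ⟨k, hk⟩ := MulAction.exists_smul_eq P Sx Sb
  have hk' : (Subgroup.zpowers (⟨c7, hc7P⟩ : P)).map (MulAut.conj k).toMonoidHom =
      Subgroup.zpowers (⟨b, hbP⟩ : P) := congrArg (fun T : Sylow 7 P => (T : Subgroup P)) hk
  obtain ⟨w, hw, hwb⟩ : (⟨b, hbP⟩ : P) ∈ (Subgroup.zpowers (⟨c7, hc7P⟩ : P)).map (MulAut.conj k).toMonoidHom :=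
    hk' ▸ Subgroup.mem_zpowers _
  obtain ⟨l, rfl⟩ := Subgroup.mem_zpowers_iff.1 hw
  set kk : Subgroup.centralizer ({z} : Set G) := (k : Subgroup.centralizer ({z} : Set G))
  have hbeq : b = kk * c7 ^ l * kk⁻¹ := by
    have := congrArg Subtype.val hwb
    simpa using this.symm
  set t := kk * u * kk⁻¹ with ht
  have ht2 : t * t = 1 := by
    rw [ht, show kk * u * kk⁻¹ * (kk * u * kk⁻¹) = kk * (u * u) * kk⁻¹ by group, hu2]; group
  have htb : t * b = b⁻¹ * t := by
    rw [hbeq, ht]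
    have e1 : u * c7 ^ l = (c7 ^ l)⁻¹ * u := by
      rw [← mul_inv_eq_iff_eq_mul, ← conj_zpow, hci, inv_zpow]
    calc kk * u * kk⁻¹ * (kk * c7 ^ l * kk⁻¹) = kk * (u * c7 ^ l) * kk⁻¹ := by group
      _ = kk * ((c7 ^ l)⁻¹ * u) * kk⁻¹ := by rw [e1]
      _ = _ := by group
  refine ⟨t, ht2, ?_, htb, ?_⟩
  · intro h
    rw [h, one_mul, mul_one] at htb
    have h2 : b ^ 2 = 1 := by rw [sq]; nth_rewrite 1 [htb]; exact inv_mul_cancel b
    have := orderOf_dvd_of_pow_eq_one h2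
    rw [hob] at this
    exact absurd (Nat.le_of_dvd two_pos this) (by norm_num)
  · rw [← F.hpb, ← map_mul, htb, map_mul, map_inv]

theorem Frame.in_normalizer (F : Frame z Q e ψ b x0) (hB : B = Subgroup.zpowers (b : G)) {n : G} {i : ℤ}
    (h : n * (b : G) * n⁻¹ = (b : G) ^ i) : n ∈ Subgroup.normalizer (B : Set G) := by
  refine Subgroup.mem_normalizer_iff_map_conj_eq.2 ?_
  refine Subgroup.eq_of_le_of_card_ge ?_ ?_
  · rw [hB]
    rintro _ ⟨y, hy, rfl⟩
    obtain ⟨j, rfl⟩ := Subgroup.mem_zpowers_iff.1 hy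
    show n * (b : G) ^ j * n⁻¹ ∈ _
    rw [← conj_zpow, h, ← zpow_mul]
    exact Subgroup.zpow_mem_zpowers _ _
  · rw [Subgroup.card_map_of_injective (MulAut.conj n).injective]

theorem Frame.outer (F : Frame z Q e ψ b x0) (hB : B = Subgroup.zpowers (b : G)) :
    (Subgroup.centralizer (B : Set G)).relIndex (Subgroup.normalizer (B : Set G)) = 6 ∧
    ∃ t : G, orderOf t = 2 ∧ (∀ y ∈ B, t * y * t⁻¹ = y⁻¹) ∧
      (∀ x ∈ (Cfsg.layer ↥(Subgroup.centralizer (B : Set G))).map (Subgroup.centralizer (B : Set G)).subtype,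
        t * x * t⁻¹ ∈ (Cfsg.layer ↥(Subgroup.centralizer (B : Set G))).map (Subgroup.centralizer (B : Set G)).subtype) ∧
      ¬ ∃ l ∈ (Cfsg.layer ↥(Subgroup.centralizer (B : Set G))).map (Subgroup.centralizer (B : Set G)).subtype,
        ∀ x ∈ (Cfsg.layer ↥(Subgroup.centralizer (B : Set G))).map (Subgroup.centralizer (B : Set G)).subtype,
          t * x * t⁻¹ = l * x * l⁻¹ := by
  classical
  haveI : Fact (Nat.Prime 2) := ⟨Nat.prime_two⟩
  haveI : Fact (Nat.Prime 3) := ⟨Nat.prime_three⟩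
  obtain ⟨tc, ht2, ht1, htb, htp⟩ := F.invol_inv
  set t : G := (tc : G) with htdef
  have htt : t * t = 1 := congrArg Subtype.val ht2
  have htinv : t⁻¹ = t := inv_eq_of_mul_eq_one_right htt
  have htb' : t * (b : G) * t⁻¹ = (b : G)⁻¹ := by
    rw [mul_inv_eq_iff_eq_mul]; exact congrArg Subtype.val htb
  have hconjB : ∀ y ∈ B, t * y * t⁻¹ = y⁻¹ := by
    intro y hy
    rw [hB] at hy
    obtain ⟨j, rfl⟩ := Subgroup.mem_zpowers_iff.1 hy
    rw [← conj_zpow, htb', inv_zpow]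
  have htN : t ∈ Subgroup.normalizer (B : Set G) := F.in_normalizer hB (i := -1) (by rw [zpow_neg_one]; exact htb')
  constructor
  · obtain ⟨c, -, hc⟩ := Co1Seven.beta_squared
    obtain ⟨h', -, hh'⟩ := F.lift_norm (a := c) (i := 2) hc
    have hsb : (h' : G) * b * (h' : G)⁻¹ = (b : G) ^ 2 := by
      rw [mul_inv_eq_iff_eq_mul, ← SubmonoidClass.coe_pow]
      exact congrArg Subtype.val hh'
    have hsN : (h' : G) ∈ Subgroup.normalizer (B : Set G) :=
      F.in_normalizer hB (i := 2) (by rw [hsb]; exact (zpow_natCast (b : G) 2).symm)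
    set f := B.normalizerMonoidHom with hf
    have hcardB : Nat.card B = 7 := by rw [hB, Nat.card_zpowers, F.orderOf_b]
    haveI : IsCyclic B := by
      haveI : Fact (Nat.Prime 7) := ⟨by norm_num⟩
      exact isCyclic_of_prime_card hcardB
    have hAut : Nat.card (MulAut B) = 6 := by
      rw [IsCyclic.card_mulAut, hcardB]; rfl
    have hbB : (b : G) ∈ B := hB ▸ Subgroup.mem_zpowers _
    have hf2 : orderOf (f ⟨t, htN⟩) = 2 := by
      refine orderOf_eq_prime ?_ ?_
      · rw [← map_pow, show (⟨t, htN⟩ : Subgroup.normalizer (B : Set G)) ^ 2 = 1 from Subtype.ext (by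
          show t ^ 2 = 1; rw [sq, htt]), map_one]
      · intro h
        have h0 : f ⟨t, htN⟩ ⟨(b : G), hbB⟩ = ⟨(b : G), hbB⟩ := by rw [h]; rfl
        have h1 : t * (b : G) * t⁻¹ = (b : G) :=
          congrArg Subtype.val h0
        rw [htb'] at h1
        have h2 : (b : G) ^ 2 = 1 := by rw [sq]; nth_rewrite 1 [← h1]; exact inv_mul_cancel _
        have := orderOf_dvd_of_pow_eq_one h2
        rw [F.orderOf_b] at this
        exact absurd (Nat.le_of_dvd two_pos this) (by norm_num)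
    have hf3 : orderOf (f ⟨h', hsN⟩) = 3 := by
      refine orderOf_eq_prime ?_ ?_
      · rw [← map_pow]
        refine MulEquiv.ext fun y => Subtype.ext ?_
        show (h' : G) ^ 3 * (y : G) * ((h' : G) ^ 3)⁻¹ = y
        obtain ⟨j, hj⟩ := Subgroup.mem_zpowers_iff.1 (hB ▸ y.2 : (y : G) ∈ Subgroup.zpowers (b : G))
        have e8' : (h' : G) ^ 3 * b * ((h' : G) ^ 3)⁻¹ = b := by
          rw [show (h' : G) ^ 3 * b * ((h' : G) ^ 3)⁻¹ =
            (h' : G) * ((h' : G) * ((h' : G) * b * (h' : G)⁻¹) * (h' : G)⁻¹) * (h' : G)⁻¹ by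
              rw [pow_succ, pow_two, mul_inv_rev, mul_inv_rev]; simp only [mul_assoc], hsb]
          rw [← conj_pow, hsb, ← pow_mul, ← conj_pow, hsb, ← pow_mul,
            show 2 * (2 * 2) = 7 + 1 from rfl, pow_succ, F.b_pow, one_mul]
        rw [← hj, ← conj_zpow, e8']
      · intro h
        have h0 : f ⟨h', hsN⟩ ⟨(b : G), hbB⟩ = ⟨(b : G), hbB⟩ := by rw [h]; rfl
        have h1 : (h' : G) * (b : G) * (h' : G)⁻¹ = (b : G) :=
          congrArg Subtype.val h0
        rw [hsb, sq, mul_eq_left] at h1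
        exact F.b_ne h1
    have hrange : Nat.card f.range = 6 := by
      refine Nat.dvd_antisymm (hAut ▸ Subgroup.card_subgroup_dvd_card _) ?_
      show 2 * 3 ∣ _
      refine Nat.Coprime.mul_dvd_of_dvd_of_dvd (by norm_num) ?_ ?_
      · rw [← hf2, show orderOf (f ⟨t, htN⟩) = orderOf (⟨_, ⟨t, htN⟩, rfl⟩ : f.range) from Subgroup.orderOf_coe ⟨_, _⟩]
        exact orderOf_dvd_natCard _
      · rw [← hf3, show orderOf (f ⟨h', hsN⟩) = orderOf (⟨_, ⟨h', hsN⟩, rfl⟩ : f.range) from Subgroup.orderOf_coe ⟨_, _⟩]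
        exact orderOf_dvd_natCard _
    rw [Subgroup.relIndex, ← Subgroup.normalizerMonoidHom_ker, Subgroup.index_ker, ← hf, hrange]
  · refine ⟨t, orderOf_eq_prime (by rw [sq, htt]) fun h => ht1 (Subtype.ext h), hconjB, ?_, ?_⟩
    · set M := Subgroup.centralizer (B : Set G)
      have hM : ∀ m ∈ M, t * m * t⁻¹ ∈ M := by
        intro m hm
        rw [Subgroup.mem_centralizer_iff] at hm ⊢
        intro y hy
        have hy' : t * y * t⁻¹ ∈ B := by rw [hconjB y hy]; exact inv_mem hy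
        have e1 := hm _ hy'
        rw [htinv] at e1 ⊢
        calc y * (t * m * t) = (t * t) * y * (t * m * t) := by rw [htt, one_mul]
          _ = t * (t * y * t * m) * t := by group
          _ = t * (m * (t * y * t)) * t := by rw [e1]
          _ = t * m * t * y * (t * t) := by group
          _ = _ := by rw [htt, mul_one]
      let α : M ≃* M :=
        { toFun := fun m => ⟨t * m * t⁻¹, hM m m.2⟩
          invFun := fun m => ⟨t * m * t⁻¹, hM m m.2⟩
          left_inv := fun m => Subtype.ext (by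
            show t * (t * (m : G) * t⁻¹) * t⁻¹ = m
            rw [show t * (t * (m : G) * t⁻¹) * t⁻¹ = (t * t) * m * (t * t)⁻¹ by group, htt]; simp)
          right_inv := fun m => Subtype.ext (by
            show t * (t * (m : G) * t⁻¹) * t⁻¹ = m
            rw [show t * (t * (m : G) * t⁻¹) * t⁻¹ = (t * t) * m * (t * t)⁻¹ by group, htt]; simp)
          map_mul' := fun m n => Subtype.ext (by simp only [Subgroup.coe_mul]; group) }
      rintro _ ⟨m, hm, rfl⟩
      exact ⟨α m, layer_equiv α hm, rfl⟩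
    · rintro ⟨l, ⟨lm, hlm, rfl⟩, hl⟩
      set u : G := (lm : G)⁻¹ * t with hu
      have hfix : ∀ r : Rz Q b, u * rv r = rv r * u := by
        intro r
        have h1 : t * rv r * t⁻¹ = (lm : G) * rv r * (lm : G)⁻¹ := hl _ ⟨_, F.R_le_layer hB r, rfl⟩
        calc u * rv r = (lm : G)⁻¹ * (t * rv r * t⁻¹) * t := by rw [hu]; group
          _ = rv r * u := by rw [h1, hu]; group
      have huz : u ∈ Subgroup.centralizer ({z} : Set G) :=
        Subgroup.mem_centralizer_singleton_iff.2 (hfix F.zR)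
      have hub : u * (b : G) = (b : G)⁻¹ * u := by
        have h1 := (F.mem_cent hB _).1 (inv_mem lm.2 : (lm : G)⁻¹ ∈ Subgroup.centralizer (B : Set G))
        rw [mul_inv_eq_iff_eq_mul] at htb'
        calc u * (b : G) = (lm : G)⁻¹ * (t * (b : G)) := by rw [hu, mul_assoc]
          _ = ((lm : G)⁻¹ * (b : G)⁻¹) * t := by rw [htb', mul_assoc]
          _ = ((b : G)⁻¹ * (lm : G)⁻¹) * t := by rw [(Commute.inv_right (h1 : Commute (lm : G)⁻¹ (b : G))).eq]
          _ = _ := by rw [hu, mul_assoc]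
      obtain ⟨r, hr, -⟩ := F.coord_x0
      set uc : Subgroup.centralizer ({z} : Set G) := ⟨u, huz⟩
      have hst : proj e uc ∈ classStab1 (e8 none) := by
        refine F.hs.stab_image F.hx0 (Subtype.ext ?_)
        show u * ((x0 : Subgroup.centralizer ({z} : Set G)) : G) * u⁻¹ = _
        rw [← hr, hfix r, mul_inv_cancel_right]
      refine Co1Seven.stab_no_invert hst ?_
      rw [← F.hpb, ← map_inv, ← map_mul, ← map_mul]
      exact congrArg (proj e) (Subtype.ext hub)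

end Cfsg.Agent.Spor.MonsterSeven
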