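import Cfsg.Agent.Lib.Spor.O73CovIdxA3Data

/-!
Coset certificate `IdxA3` of O73Cov: checks.
-/

set_option autoImplicit false
set_option maxRecDepth 100000

namespace Cfsg.Agent.Spor.O73CovCert.IdxA3

open Cfsg.Agent.Spor.CC

/-- checked entries -/
def edL0 : List ℕ := [
0x1801,
0x2001,
0x2801,
0x1,
0x4001,
0x3801,
0x801,
0x401,
0x4801,
0x1001,
0xc01,
0x3001,
0x5001,
0x1401,
0x6001,
0x5801]

theorem edOK0 : edgesOK dat 13 edL0 0 = true := by decide +kernel

end Cfsg.Agent.Spor.O73CovCert.IdxA3
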