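import Cfsg.Agent.Lib.Spor.O73CovLift
import Cfsg.Agent.Lib.Spor.O73CovIdxOneCert
import Cfsg.Agent.Lib.Spor.O73CovIdxTwoCert
import Cfsg.Agent.Lib.Spor.O73CovIdxA3Cert
import Cfsg.Agent.Lib.Spor.O73CovIdxA4Cert
import Cfsg.Agent.Lib.Spor.O73CovIdxA5Cert
import Cfsg.Agent.Lib.Spor.O73CovIdxA6Cert
import Cfsg.Agent.Lib.Spor.O73CovIdxE7Cert
import Cfsg.Agent.Lib.Spor.O73CovIdxTopCert

/-!
Every stem kernel over the orthogonal group in dimension seven over the field with three elements has at
most six elements.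
-/

set_option autoImplicit false
set_option maxRecDepth 100000

namespace Cfsg.Agent.Spor.O73CovCert

open Cfsg.Agent.Spor.CC
open scoped commutatorElement

theorem no_more : ∀ r ∈ ([] : List (List ℕ)), (r.map pres.gen).prod = 1 := by simp

theorem step {D : Data} {m : ℕ} (hc : Checked D m) {ks ks' : List ℕ} (hks : ks.length = D.ng)
    {wit : List (ℕ × ℕ × Bool)} {subW : List (List ℕ)}
    (hw : wordsOK D ks pres.ng (pres.relW ++ []) wit subW = true)
    (e : pres.wsub subW = pres.sub ks') {b c : ℕ}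
    (hH : Finite (pres.sub ks') ∧ Nat.card (pres.sub ks') ≤ b) (hnn : (D.nn * b).ble c = true) :
    Finite (pres.sub ks) ∧ Nat.card (pres.sub ks) ≤ c := by
  have h := Pres.sub_card_le pres_ok hc hks no_more hw (b := b) (e.symm ▸ hH)
  exact ⟨h.1, h.2.trans (Nat.le_of_ble_eq_true hnn)⟩

theorem cardOne : Finite (pres.sub IdxOne.letters) ∧ Nat.card (pres.sub IdxOne.letters) ≤ 2 := by
  have h := Pres.sub_card_le pres_ok IdxOne.checked (ks := IdxOne.letters) rfl no_more IdxOne.words_ok
    (b := 1) (by rw [show IdxOne.subW = [] from rfl, Pres.wsub_nil]; exact bot_card)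
  exact ⟨h.1, h.2.trans (Nat.le_of_ble_eq_true (by decide +kernel))⟩

theorem cardTwo : Finite (pres.sub IdxTwo.letters) ∧ Nat.card (pres.sub IdxTwo.letters) ≤ 12 :=
  step IdxTwo.checked rfl IdxTwo.words_ok (Pres.wsub_singles [0]) cardOne (by decide +kernel)

theorem cardA3 : Finite (pres.sub IdxA3.letters) ∧ Nat.card (pres.sub IdxA3.letters) ≤ 48 :=
  step IdxA3.checked rfl IdxA3.words_ok (Pres.wsub_singles [0, 1, 2]) cardTwo (by decide +kernel)

theorem cardA4 : Finite (pres.sub IdxA4.letters) ∧ Nat.card (pres.sub IdxA4.letters) ≤ 240 :=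
  step IdxA4.checked rfl IdxA4.words_ok (Pres.wsub_singles [0, 1, 2, 3]) cardA3 (by decide +kernel)

theorem cardA5 : Finite (pres.sub IdxA5.letters) ∧ Nat.card (pres.sub IdxA5.letters) ≤ 1440 :=
  step IdxA5.checked rfl IdxA5.words_ok (Pres.wsub_singles [0, 1, 2, 3, 4]) cardA4 (by decide +kernel)

theorem cardA6 : Finite (pres.sub IdxA6.letters) ∧ Nat.card (pres.sub IdxA6.letters) ≤ 10080 :=
  step IdxA6.checked rfl IdxA6.words_ok (Pres.wsub_singles [0, 1, 2, 3, 4, 5]) cardA5 (by decide +kernel)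

theorem cardE7 : Finite (pres.sub IdxE7.letters) ∧ Nat.card (pres.sub IdxE7.letters) ≤ 5806080 :=
  step IdxE7.checked rfl IdxE7.words_ok (Pres.wsub_singles [0, 1, 2, 3, 4, 5, 6]) cardA6 (by decide +kernel)

theorem cardTop : Finite (pres.sub IdxTop.letters) ∧ Nat.card (pres.sub IdxTop.letters) ≤ 55024220160 :=
  step IdxTop.checked rfl IdxTop.words_ok (Pres.wsub_singles [0, 1, 2, 3, 4, 5, 6, 7]) cardE7
    (by decide +kernel)

theorem card_le : Finite pres.Grp ∧ Nat.card pres.Grp ≤ 12 * 4585351680 := by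
  have h := cardTop
  rw [Pres.sub_all pres_ok (ks := IdxTop.letters) (by decide)] at h
  obtain ⟨hf, hc⟩ := h
  haveI := hf
  refine ⟨Finite.of_equiv _ Subgroup.topEquiv.toEquiv, ?_⟩
  rw [← Nat.card_congr (Subgroup.topEquiv (G := pres.Grp)).toEquiv]
  exact hc.trans (Nat.le_of_ble_eq_true (by decide +kernel))

/-- the sign of a generator -/
def sgn (x : ℕ) : Multiplicative (ZMod 2) := if 1 ≤ x ∧ x ≤ 8 then Multiplicative.ofAdd 1 else 1

theorem sgn_rels : ∀ r ∈ pres.relW, (r.map sgn).prod = 1 := by decide +kernel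

theorem sgn_big (x : ℕ) (hx : ¬ x < pres.ng) : sgn x = 1 :=
  if_neg (by have hx' : ¬ x < 11 := hx; omega)

/-- the parity -/
noncomputable def parity : pres.Grp →* Multiplicative (ZMod 2) :=
  SpiderCert.homOf pres_ok sgn sgn_big sgn_rels

theorem comm_onto : Function.Surjective (toR.comp (commutator pres.Grp).subtype) := by
  rw [← MonoidHom.range_eq_top, MonoidHom.range_comp, Subgroup.range_subtype, commutator_def,
    Subgroup.map_commutator, Subgroup.map_top_of_surjective _ toR_surj, ← commutator_def, R_perfect]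

theorem even_bound : Nat.card (toR.ker ⊓ commutator pres.Grp : Subgroup pres.Grp) ≤ 6 := by
  haveI := card_le.1
  have hle : commutator pres.Grp ≤ parity.ker := Abelianization.commutator_subset_ker parity
  have hsurj : Function.Surjective parity := by
    have h : ∀ z : Multiplicative (ZMod 2), z = 1 ∨ z = Multiplicative.ofAdd 1 := by decide
    intro z
    rcases h z with rfl | rfl
    · exact ⟨1, map_one _⟩
    · exact ⟨pres.gen 1, by rw [parity, SpiderCert.homOf_gen]; rfl⟩
  have h2 : 2 * Nat.card parity.ker = Nat.card pres.Grp := by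
    rw [← Subgroup.card_mul_index parity.ker, Subgroup.index_ker, MonoidHom.range_eq_top.mpr hsurj,
      Nat.card_congr (Subgroup.topEquiv (G := Multiplicative (ZMod 2))).toEquiv,
      Nat.card_congr (Multiplicative.toAdd (α := ZMod 2)), Nat.card_zmod, mul_comm]
  let f := toR.comp (commutator pres.Grp).subtype
  have h3 := Subgroup.card_mul_index f.ker
  rw [Subgroup.index_ker, MonoidHom.range_eq_top.mpr comm_onto,
    Nat.card_congr (Subgroup.topEquiv (G := R)).toEquiv, card_R] at h3
  have h4 : Nat.card (commutator pres.Grp) ≤ Nat.card parity.ker := Subgroup.card_le_of_le hle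
  have h5 : Nat.card f.ker = Nat.card (toR.ker ⊓ commutator pres.Grp : Subgroup pres.Grp) := by
    rw [← Subgroup.card_map_of_injective (f := (commutator pres.Grp).subtype) Subtype.val_injective,
      show f.ker = toR.ker.subgroupOf (commutator pres.Grp) from rfl, Subgroup.subgroupOf_map_subtype]
  have h6 := card_le.2
  rw [← h5]
  omega

theorem der_shapes : derA = conW (derA.take 42) 8 ++ [8] ∧ derB = conW (derB.take 42) 1 ++ [1] := by
  decide +kernel

section

variable {Γ : Type} [Group Γ] {π : Γ →* R}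

theorem kernel_le (h : Cfsg.IsStemExtension π) : Nat.card π.ker ≤ 6 := by
  haveI := card_le.1
  obtain ⟨W⟩ := exists_lifts h
  have hzc : ∀ g : Γ, g * W.z = W.z * g := ker_comm h W.zone
  let e1 : Γ × Multiplicative (ZMod 4) := (W.z, Multiplicative.ofAdd 2)
  let N : Subgroup (Γ × Multiplicative (ZMod 4)) := Subgroup.zpowers e1
  have hNn : N.Normal := ⟨fun x hx g => by
    have hc : ∀ q : Γ × Multiplicative (ZMod 4), q * x = x * q := by
      obtain ⟨n, rfl⟩ := Subgroup.mem_zpowers_iff.mp hx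
      intro q
      have : Commute q e1 := Prod.ext (hzc q.1) (mul_comm _ _)
      exact (this.zpow_right n).eq
    rwa [hc g, mul_inv_cancel_right]⟩
  haveI := hNn
  let mk := QuotientGroup.mk' N
  let P : Γ × Multiplicative (ZMod 4) →* R := π.comp (MonoidHom.fst Γ (Multiplicative (ZMod 4)))
  let ρ : (Γ × Multiplicative (ZMod 4)) ⧸ N →* R := QuotientGroup.lift N P (by
    rw [Subgroup.zpowers_le]
    exact W.zone)
  have hρ : ∀ q, ρ (mk q) = π q.1 := fun q => rfl
  have hcentral : ∀ q, ρ q = 1 → ∀ y, y * q = q * y := by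
    intro q hq y
    obtain ⟨q, rfl⟩ := QuotientGroup.mk'_surjective N q
    obtain ⟨y, rfl⟩ := QuotientGroup.mk'_surjective N y
    rw [← map_mul, ← map_mul]
    exact congrArg _ (Prod.ext (ker_comm h hq y.1) (mul_comm _ _))
  let g : ℕ → (Γ × Multiplicative (ZMod 4)) ⧸ N := fun x => mk (W.L x, Multiplicative.ofAdd 1)
  have hrel : ∀ x y : Γ × Multiplicative (ZMod 4), y = x * e1 ∨ y = x → mk x = mk y := by
    rintro x y (rfl | rfl)
    · rw [map_mul, show mk e1 = 1 from (QuotientGroup.eq_one_iff e1).mpr (Subgroup.mem_zpowers e1), mul_one]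
    · rfl
  have hgsq : ∀ x, 1 ≤ x → x ≤ 8 → g x * g x = 1 := fun x a b => by
    simp only [g, ← map_mul, Prod.mk_mul_mk, W.sq x a b]
    exact (QuotientGroup.eq_one_iff _).mpr (Subgroup.mem_zpowers e1)
  have hρg : ∀ x, 1 ≤ x → x ≤ 8 → ρ (g x) = gR x := fun x a b => (hρ _).trans (W.proj x a b)
  have hρw : ∀ w : List ℕ, (∀ x ∈ w, 1 ≤ x ∧ x ≤ 8) → ρ ((w.map g).prod) = (w.map gR).prod := by
    intro w hw
    rw [map_list_prod, List.map_map]
    exact congrArg List.prod (List.map_congr_left fun x hx => hρg x (hw x hx).1 (hw x hx).2)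
  have hrev : ∀ l : List ℕ, (∀ x ∈ l, 1 ≤ x ∧ x ≤ 8) → (l.reverse.map g).prod = (l.map g).prod⁻¹ := by
    intro l hl
    induction l with
    | nil => simp
    | cons a l ih =>
      rw [List.reverse_cons, List.map_append, List.prod_append,
        ih fun x hx => hl x (List.mem_cons_of_mem _ hx)]
      simp [inv_eq_of_mul_eq_one_left (hgsq a (hl a (List.mem_cons_self ..)).1 (hl a (List.mem_cons_self ..)).2)]
  have hsign : ∀ k, ρ k = 1 → k * k = 1 → Sign g k := fun k hk h2 => ⟨h2, fun x _ _ => hcentral k hk _⟩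
  have hword : ∀ (w u : List ℕ) (x : ℕ), w = conW u x ++ [x] → (∀ y ∈ w, 1 ≤ y ∧ y ≤ 8) →
      (w.map gR).prod = 1 → ρ (w.map g).prod = 1 ∧ (w.map g).prod * (w.map g).prod = 1 := by
    intro w u x e hw hR
    have h1 : ρ (w.map g).prod = 1 := by rw [hρw w hw, hR]
    refine ⟨h1, ?_⟩
    have hu : ∀ y ∈ u, 1 ≤ y ∧ y ≤ 8 := fun y hy => hw y (by simp [e, conW, hy])
    have hx := hgsq x (hw x (by simp [e])).1 (hw x (by simp [e])).2
    have ew : (w.map g).prod = (u.map g).prod * g x * (u.map g).prod⁻¹ * g x := by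
      rw [e]
      simp only [conW, List.map_append, List.prod_append, hrev u hu, List.map_cons, List.map_nil, List.prod_cons,
        List.prod_nil, mul_one]
    have hk := hcentral _ h1 (g x)
    rw [ew] at h1 hk ⊢
    generalize (u.map g).prod = U at h1 hk ⊢
    generalize g x = X at hx h1 hk ⊢
    calc U * X * U⁻¹ * X * (U * X * U⁻¹ * X) = (U * X * U⁻¹ * X) * (U * X * U⁻¹) * X := by group
      _ = (U * X * U⁻¹ * X) * (U * X * U⁻¹ * X) * X⁻¹ * X := by group
      _ = (U * X * U⁻¹) * (X * (U * X * U⁻¹ * X)) := by group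
      _ = (U * X * U⁻¹) * (U * X * U⁻¹ * X * X) := by rw [hk]
      _ = U * (X * X) * U⁻¹ * (X * X) := by group
      _ = 1 := by rw [hx]; group
  obtain ⟨a1, a2⟩ := hword derA _ 8 der_shapes.1 derA_letters base.wordA
  obtain ⟨b1, b2⟩ := hword derB _ 1 der_shapes.2 derB_letters base.wordB
  have hb : Base g (mk (W.z, 1)) (derA.map g).prod (derB.map g).prod :=
    { sz := hsign _ W.zone (by
        rw [← map_mul, Prod.mk_mul_mk, W.zsq, mul_one]; exact map_one mk)
      sa := hsign _ a1 a2
      sb := hsign _ b1 b2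
      za := hcentral _ a1 _
      zb := hcentral _ b1 _
      ab := hcentral _ b1 _
      sq := hgsq
      pair := fun p hp => by
        obtain ⟨⟨x1, x8⟩, y1, y8⟩ := commP_bounds p hp
        have hs := swap_of_comm W.zsq hzc (W.pair p hp)
        simp only [g, ← map_mul, ← map_pow]
        refine hrel _ _ (Or.inr ?_)
        rw [pow_two]
        refine Prod.ext ?_ ?_
        · show W.z = W.L p.1 * W.L p.2 * (W.L p.1 * W.L p.2)
          symm
          calc W.L p.1 * W.L p.2 * (W.L p.1 * W.L p.2) = W.L p.1 * (W.L p.2 * W.L p.1) * W.L p.2 := by group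
            _ = W.L p.1 * W.z * W.L p.1 * (W.L p.2 * W.L p.2) := by rw [hs.2]; group
            _ = W.z * (W.L p.1 * W.L p.1) * (W.L p.2 * W.L p.2) := by rw [hzc (W.L p.1)]; group
            _ = W.z := by rw [W.sq _ x1 x8, W.sq _ y1 y8, W.zsq, one_mul]
        · simp only [Prod.snd_mul]
          rfl
      braid := fun p hp => by
        obtain ⟨⟨x1, x8⟩, y1, y8⟩ := treeP_bounds p hp
        have e : g p.1 * g p.2 * g p.1 = g p.2 * g p.1 * g p.2 := by
          simp only [g, ← map_mul, Prod.mk_mul_mk, W.braid p hp]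
        have hx := hgsq _ x1 x8
        have hy := hgsq _ y1 y8
        generalize g p.1 = a at e hx ⊢
        generalize g p.2 = b at e hy ⊢
        rw [pow_succ, pow_two]
        calc a * b * (a * b) * (a * b) = (a * b * a) * (b * a * b) := by group
          _ = (a * b * a) * (a * b * a) := by rw [e]
          _ = a * b * (a * a) * b * a := by group
          _ = 1 := by rw [hx, mul_one, mul_assoc a b b, hy, mul_one, hx]
      wordA := rfl
      wordB := rfl }
  let φ := mkHom hb
  have hcomp : ∀ s, ρ (φ s) = toR s := by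
    intro s
    refine DFunLike.congr_fun (PresentedGroup.ext (φ := ρ.comp φ) (ψ := toR) fun a => ?_) s
    rw [MonoidHom.comp_apply, ← Pres.gen_of pres_ok a, toR, mkHom_gen, mkHom_gen]
    rcases (show a.val = 0 ∨ (1 ≤ a.val ∧ a.val ≤ 8) ∨ a.val = 9 ∨ a.val = 10 by omega) with e | ⟨e1, e8⟩ | e | e
    · show ρ (vals g _ _ _ a.val) = vals gR 1 1 1 a.val
      rw [e]; exact W.zone
    · show ρ (vals g _ _ _ a.val) = vals gR 1 1 1 a.val
      rw [vals_mid e1 e8, vals_mid e1 e8]; exact hρg _ e1 e8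
    · show ρ (vals g _ _ _ a.val) = vals gR 1 1 1 a.val
      rw [e]; exact a1
    · show ρ (vals g _ _ _ a.val) = vals gR 1 1 1 a.val
      rw [e]; exact b1
  have hdec : ∀ y, ∃ s, ρ (y * (φ s)⁻¹) = 1 := fun y => by
    obtain ⟨s, hs⟩ := toR_surj (ρ y)
    exact ⟨s, by rw [map_mul, map_inv, hcomp, hs, mul_inv_cancel]⟩
  have hle : commutator ((Γ × Multiplicative (ZMod 4)) ⧸ N) ≤ (commutator pres.Grp).map φ := by
    rw [commutator_def, Subgroup.commutator_le]
    intro a _ b _
    obtain ⟨s, hs⟩ := hdec a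
    obtain ⟨t, ht⟩ := hdec b
    refine ⟨⁅s, t⁆, Subgroup.commutator_mem_commutator (Subgroup.mem_top s) (Subgroup.mem_top t), ?_⟩
    rw [map_commutatorElement]
    have hu := hcentral _ hs
    have hv := hcentral _ ht
    have e := comm_central (x := φ s) (y := φ t) hu hv
    rw [hu, hv] at e
    rw [← e]
    congr 1 <;> group
  let ι : Γ →* (Γ × Multiplicative (ZMod 4)) ⧸ N := mk.comp (MonoidHom.inl Γ (Multiplicative (ZMod 4)))
  have hι : Function.Injective ι := by
    rw [injective_iff_map_eq_one]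
    intro x hx
    obtain ⟨n, hn⟩ := Subgroup.mem_zpowers_iff.mp ((QuotientGroup.eq_one_iff _).mp hx)
    have h1 : W.z ^ n = x := congrArg Prod.fst hn
    have h2 : (Multiplicative.ofAdd (2 : ZMod 4)) ^ n = 1 := congrArg Prod.snd hn
    have h4 : orderOf (Multiplicative.ofAdd (2 : ZMod 4)) = 2 := by
      haveI : Fact (Nat.Prime 2) := ⟨Nat.prime_two⟩
      exact orderOf_eq_prime (by decide) (by decide)
    have h5 := orderOf_dvd_iff_zpow_eq_one.mpr h2
    rw [h4] at h5
    obtain ⟨m, rfl⟩ := h5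
    rw [← h1]
    show W.z ^ ((2 : ℤ) * m) = 1
    rw [zpow_mul, zpow_two, W.zsq, one_zpow]
  refine le_trans ?_ even_bound
  have hex : ∀ k : π.ker, ∃ s : (toR.ker ⊓ commutator pres.Grp : Subgroup pres.Grp), φ s = ι k := by
    intro k
    have hk : ι (k : Γ) ∈ commutator ((Γ × Multiplicative (ZMod 4)) ⧸ N) := by
      have h0 : ι (k : Γ) ∈ (commutator Γ).map ι :=
        ⟨_, (stem_perfect h).symm ▸ Subgroup.mem_top _, rfl⟩
      rw [commutator_def, Subgroup.map_commutator] at h0
      exact Subgroup.commutator_mono le_top le_top h0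
    obtain ⟨s, hs, e⟩ := hle hk
    refine ⟨⟨s, Subgroup.mem_inf.mpr ⟨?_, hs⟩⟩, e⟩
    rw [MonoidHom.mem_ker, ← hcomp, e]
    exact k.2
  choose κ hκ using hex
  refine Nat.card_le_card_of_injective κ fun a b e => ?_
  have := hκ a
  rw [e, hκ b] at this
  exact Subtype.ext (hι this).symm

end

end Cfsg.Agent.Spor.O73CovCert
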