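import Cfsg.Agent.Lib.Spor.O73CovHom
import Cfsg.Agent.Lib.Spor.O73CovData

/-!
A representation of the cover presentation on 4480 spinors, on which the central sign is not trivial.
-/

set_option autoImplicit false
set_option maxRecDepth 100000
set_option Elab.async false

namespace Cfsg.Agent.Spor.O73CovCert.Spin

open Cfsg.Agent.Spor.CC

theorem inv0 : invOK Dat.srows 9 4480 0 2240 = true := by decide +kernel
theorem inv1 : invOK Dat.srows 9 4480 2240 2240 = true := by decide +kernel

/-- the table -/
def stab : Table where
  T := Dat.srows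
  ng := 9
  n := 4480

theorem valid : stab.Valid := fun u hu x hx => by
  by_cases h : u < 2240
  · exact invOK_spec inv0 (Nat.zero_le _) (lt_of_lt_of_eq h (Nat.zero_add _).symm) hx
  · exact invOK_spec inv1 (Nat.le_of_not_lt h) (lt_of_lt_of_eq hu (by rfl)) hx

/-- the relations to check -/
def chk : List (List ℕ) :=
  ((List.range 8).map fun x => [0, x + 1, 0, x + 1]) ++ commP.map pairW ++
    (treeP.map fun p => powW 3 [p.1, p.2]) ++ [[0, 0], derA ++ [0], derB ++ [0], spider]

theorem chk_letters : lettersOK 9 chk = true := by decide +kernel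

theorem loop0 : loopOK Dat.srows 9 chk 0 560 = true := by decide +kernel
theorem loop1 : loopOK Dat.srows 9 chk 560 560 = true := by decide +kernel
theorem loop2 : loopOK Dat.srows 9 chk 1120 560 = true := by decide +kernel
theorem loop3 : loopOK Dat.srows 9 chk 1680 560 = true := by decide +kernel
theorem loop4 : loopOK Dat.srows 9 chk 2240 560 = true := by decide +kernel
theorem loop5 : loopOK Dat.srows 9 chk 2800 560 = true := by decide +kernel
theorem loop6 : loopOK Dat.srows 9 chk 3360 560 = true := by decide +kernel
theorem loop7 : loopOK Dat.srows 9 chk 3920 560 = true := by decide +kernel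

theorem loops : stab.Loops chk := by
  intro u hu r hr
  have hu' : u < 4480 := hu
  by_cases h0 : u < 560
  · exact loopOK_spec loop0 (Nat.zero_le _) (by omega) hr
  by_cases h1 : u < 1120
  · exact loopOK_spec loop1 (by omega) (by omega) hr
  by_cases h2 : u < 1680
  · exact loopOK_spec loop2 (by omega) (by omega) hr
  by_cases h3 : u < 2240
  · exact loopOK_spec loop3 (by omega) (by omega) hr
  by_cases h4 : u < 2800
  · exact loopOK_spec loop4 (by omega) (by omega) hr
  by_cases h5 : u < 3360
  · exact loopOK_spec loop5 (by omega) (by omega) hr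
  by_cases h6 : u < 3920
  · exact loopOK_spec loop6 (by omega) (by omega) hr
  · exact loopOK_spec loop7 (by omega) (by omega) hr

/-- the permutations -/
noncomputable def g (x : ℕ) : Equiv.Perm (Fin 4480) := stab.perm valid x

theorem chk_one {r : List ℕ} (hr : r ∈ chk) : (r.map g).prod = 1 :=
  stab.loops_prod valid loops hr fun _ hx => lettersOK_spec chk_letters hr hx

theorem g_sq (x : ℕ) : g x * g x = 1 := stab.perm_sq valid x

theorem last_mem {r : List ℕ} (h : r ∈ [[0, 0], derA ++ [0], derB ++ [0], spider]) : r ∈ chk :=
  List.mem_append.mpr (Or.inr h)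

theorem sign : Sign g (g 0) := ⟨g_sq 0, fun x h1 h8 => by
  have := chk_one (r := [0, x, 0, x]) (List.mem_append.mpr (Or.inl (List.mem_append.mpr (Or.inl
    (List.mem_append.mpr (Or.inl (List.mem_map.mpr ⟨x - 1, List.mem_range.mpr (by omega),
      by rw [Nat.sub_add_cancel h1]⟩)))))))
  simp only [List.map_cons, List.map_nil, List.prod_cons, List.prod_nil, mul_one] at this
  have hx := g_sq x
  have h0 := g_sq 0
  generalize g 0 = a at this h0 ⊢
  generalize g x = b at this hx ⊢
  calc b * a = (a * a) * (b * a * (b * b)) := by rw [h0, hx, one_mul, mul_one]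
    _ = a * (a * (b * (a * b))) * b := by group
    _ = a * b := by rw [this, mul_one]⟩

theorem base : Base g (g 0) (g 0) (g 0) where
  sz := sign
  sa := sign
  sb := sign
  za := rfl
  zb := rfl
  ab := rfl
  sq := fun x _ _ => g_sq x
  pair := fun p hp => by
    have := chk_one (r := pairW p) (List.mem_append.mpr (Or.inl (List.mem_append.mpr (Or.inl
      (List.mem_append.mpr (Or.inr (List.mem_map.mpr ⟨p, hp, rfl⟩)))))))
    simp only [pairW, List.map_cons, List.map_nil, List.prod_cons, List.prod_nil, mul_one] at this
    rw [pow_two]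
    calc g p.1 * g p.2 * (g p.1 * g p.2) = (g p.1 * (g p.2 * (g p.1 * (g p.2 * g 0)))) * (g 0)⁻¹ := by group
      _ = g 0 := by rw [this, one_mul, inv_eq_of_mul_eq_one_left (g_sq 0)]
  braid := fun p hp => by
    have := chk_one (r := powW 3 [p.1, p.2]) (List.mem_append.mpr (Or.inl (List.mem_append.mpr (Or.inr
      (List.mem_map.mpr ⟨p, hp, rfl⟩)))))
    rw [prod_powW] at this
    simpa using this
  wordA := by
    have := chk_one (last_mem (r := derA ++ [0]) (by simp))
    rw [List.map_append, List.prod_append] at this
    simp only [List.map_cons, List.map_nil, List.prod_cons, List.prod_nil, mul_one] at this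
    exact (eq_inv_of_mul_eq_one_left this).trans (inv_eq_of_mul_eq_one_left (g_sq 0))
  wordB := by
    have := chk_one (last_mem (r := derB ++ [0]) (by simp))
    rw [List.map_append, List.prod_append] at this
    simp only [List.map_cons, List.map_nil, List.prod_cons, List.prod_nil, mul_one] at this
    exact (eq_inv_of_mul_eq_one_left this).trans (inv_eq_of_mul_eq_one_left (g_sq 0))

theorem spider_one : (spider.map g).prod = 1 := chk_one (last_mem (by simp))

theorem zero_moves : g 0 ≠ 1 := by
  intro e
  have h := congrArg (fun p : Equiv.Perm (Fin 4480) => ((p ⟨0, by norm_num⟩ : Fin 4480) : ℕ)) e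
  have hv : img Dat.srows 9 0 0 ≠ 0 := by decide +kernel
  simp only [Equiv.Perm.one_apply] at h
  exact hv ((stab.perm_val valid (show 0 < stab.ng by decide) ⟨0, by decide⟩).symm.trans h)

end Cfsg.Agent.Spor.O73CovCert.Spin
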