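import Cfsg.Agent.Lib.Spor.O73CovBound
import Cfsg.Agent.Lib.Spor.O73CovSpin
import Cfsg.Agent.Lib.Spor.Fi22SixMat

/-!
The six-fold stem extension of the orthogonal group in dimension seven over the field with three elements.
-/

set_option autoImplicit false
set_option maxRecDepth 100000

namespace Cfsg.Agent.Spor.O73CovCert

open Cfsg.Agent.Spor.CC
open scoped commutatorElement


/-- the checks of the matrices -/
def matChk : List (List ℕ) :=
  (commP.map fun p => powW 2 [p.1, p.2]) ++ (treeP.map fun p => powW 3 [p.1, p.2]) ++ [derA, derB]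

theorem mat_ok : (matChk.all fun r => Fi22SixCert.Mat.wordM r == Fi22SixCert.Mat.idC) = true := by
  decide +kernel

theorem spider_eq : spider = Fi22SixCert.spider := by decide +kernel

theorem omC_cube : Fi22SixCert.Mat.mulC Fi22SixCert.Mat.omC
    (Fi22SixCert.Mat.mulC Fi22SixCert.Mat.omC Fi22SixCert.Mat.omC) = Fi22SixCert.Mat.idC := by decide +kernel

theorem matBase : Base Fi22SixCert.Mat.g (1 : Equiv.Perm (Fin (2 ^ 54))) 1 1 where
  sz := ⟨one_mul 1, fun x _ _ => by rw [mul_one, one_mul]⟩
  sa := ⟨one_mul 1, fun x _ _ => by rw [mul_one, one_mul]⟩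
  sb := ⟨one_mul 1, fun x _ _ => by rw [mul_one, one_mul]⟩
  za := rfl
  zb := rfl
  ab := rfl
  sq := fun x _ _ => Equiv.ext fun v => Fin.ext (Fi22SixCert.Mat.colG_invol v)
  pair := fun p hp => by
    have := Fi22SixCert.Mat.word_one (beq_iff_eq.mp (List.all_eq_true.mp mat_ok (powW 2 [p.1, p.2])
      (List.mem_append.mpr (Or.inl (List.mem_append.mpr (Or.inl (List.mem_map.mpr ⟨p, hp, rfl⟩)))))))
    rw [prod_powW] at this
    simpa using this
  braid := fun p hp => by
    have := Fi22SixCert.Mat.word_one (beq_iff_eq.mp (List.all_eq_true.mp mat_ok (powW 3 [p.1, p.2])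
      (List.mem_append.mpr (Or.inl (List.mem_append.mpr (Or.inr (List.mem_map.mpr ⟨p, hp, rfl⟩)))))))
    rw [prod_powW] at this
    simpa using this
  wordA := Fi22SixCert.Mat.word_one (beq_iff_eq.mp (List.all_eq_true.mp mat_ok derA
    (List.mem_append.mpr (Or.inr (by simp)))))
  wordB := Fi22SixCert.Mat.word_one (beq_iff_eq.mp (List.all_eq_true.mp mat_ok derB
    (List.mem_append.mpr (Or.inr (by simp)))))

/-- the two faithful pictures of the kernel -/
noncomputable def both : pres.Grp →* Equiv.Perm (Fin 4480) × Equiv.Perm (Fin (2 ^ 54)) :=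
  (mkHom Spin.base).prod (mkHom matBase)

/-- the image of the spider -/
noncomputable def omP : Equiv.Perm (Fin (2 ^ 54)) := (spider.map Fi22SixCert.Mat.g).prod

theorem omP_comm {x : ℕ} (hx : x < 9) : omP * Fi22SixCert.Mat.g x = Fi22SixCert.Mat.g x * omP :=
  Fi22SixCert.Mat.word_comm (by rw [spider_eq, Fi22SixCert.Mat.spider_scalar]; exact Fi22SixCert.Mat.omC_ok.2 x hx)

theorem omP_order : orderOf omP = 3 := by
  haveI : Fact (Nat.Prime 3) := ⟨Nat.prime_three⟩
  refine orderOf_eq_prime ?_ ?_
  · rw [omP, ← prod_powW]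
    refine Fi22SixCert.Mat.word_one ?_
    exact (by decide +kernel : Fi22SixCert.Mat.wordM (powW 3 spider) = Fi22SixCert.Mat.idC)
  · intro e
    obtain ⟨j, hj, hne⟩ : ∃ j < 54, Fi22SixCert.Mat.appl Fi22SixCert.Mat.omC (2 ^ j) ≠ 2 ^ j :=
      ⟨0, by decide +kernel⟩
    have hlt : 2 ^ j < 2 ^ 54 := Nat.pow_lt_pow_right (by norm_num) hj
    have h := congrArg (fun p : Equiv.Perm (Fin (2 ^ 54)) => ((p ⟨2 ^ j, hlt⟩ : Fin (2 ^ 54)) : ℕ)) e
    simp only [omP, Fi22SixCert.Mat.g_word, spider_eq, Fi22SixCert.Mat.spider_scalar, Equiv.Perm.one_apply] at h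
    exact hne h

/-- the kernel inside the commutator subgroup -/
noncomputable abbrev kerN : Subgroup pres.Grp := toR.ker ⊓ commutator pres.Grp

theorem gen_pair {p : ℕ × ℕ} (hp : p ∈ commP) :
    (pres.gen p.1 * pres.gen p.2) ^ 2 = pres.gen 0 := by
  have h := Pres.relW_one pres_ok (r := pairW p) (by
    simp only [Pres.relW, pres, extras, List.mem_append, List.mem_map]
    exact Or.inr (Or.inl ⟨p, hp, rfl⟩))
  simp only [pairW, List.map_cons, List.map_nil, List.prod_cons, List.prod_nil, mul_one] at h
  rw [pow_two]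
  calc pres.gen p.1 * pres.gen p.2 * (pres.gen p.1 * pres.gen p.2)
      = (pres.gen p.1 * (pres.gen p.2 * (pres.gen p.1 * (pres.gen p.2 * pres.gen 0)))) * (pres.gen 0)⁻¹ := by group
    _ = pres.gen 0 := by rw [h, one_mul, inv_eq_of_mul_eq_one_left (Pres.gen_sq pres_ok 0)]

theorem of_gen {x : ℕ} (h1 : 1 ≤ x) (h8 : x ≤ 8) :
    Abelianization.of (pres.gen x) = Abelianization.of (pres.gen 3) := by
  have hb : ∀ p ∈ treeP, Abelianization.of (pres.gen p.1) = Abelianization.of (pres.gen p.2) := by
    intro p hp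
    have hl : ∀ p ∈ treeP, p.1 < pres.ng ∧ p.2 < pres.ng ∧
        Cfsg.Spor.coxLabel pres.edges (pres.nm p.1) (pres.nm p.2) = 3 := by decide +kernel
    obtain ⟨a, b, e⟩ := hl p hp
    have h := congrArg Abelianization.of (Pres.cox_one pres_ok a b)
    rw [e, map_pow, map_mul, map_one] at h
    have ha : Abelianization.of (pres.gen p.1) * Abelianization.of (pres.gen p.1) = 1 := by
      rw [← map_mul, Pres.gen_sq pres_ok, map_one]
    have hb : Abelianization.of (pres.gen p.2) * Abelianization.of (pres.gen p.2) = 1 := by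
      rw [← map_mul, Pres.gen_sq pres_ok, map_one]
    generalize Abelianization.of (pres.gen p.1) = A at h ha ⊢
    generalize Abelianization.of (pres.gen p.2) = B at h hb ⊢
    rw [mul_pow, pow_succ A, pow_two A, ha, pow_succ B, pow_two B, hb, one_mul, one_mul] at h
    rw [eq_inv_of_mul_eq_one_left h, inv_eq_of_mul_eq_one_left hb]
  have e32 := hb (3, 2) (by decide)
  have e21 := hb (2, 1) (by decide)
  have e34 := hb (3, 4) (by decide)
  have e45 := hb (4, 5) (by decide)
  have e56 := hb (5, 6) (by decide)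
  have e37 := hb (3, 7) (by decide)
  have e78 := hb (7, 8) (by decide)
  interval_cases x <;> simp_all

theorem even_mem {w : List ℕ} (hw : ∀ x ∈ w, 1 ≤ x ∧ x ≤ 8) (he : w.length % 2 = 0) :
    (w.map pres.gen).prod ∈ commutator pres.Grp := by
  rw [← Abelianization.ker_of, MonoidHom.mem_ker, map_list_prod, List.map_map,
    show w.map (⇑Abelianization.of ∘ pres.gen) = List.replicate w.length (Abelianization.of (pres.gen 3)) from
      List.eq_replicate_iff.mpr ⟨List.length_map _, fun b hb => by
        obtain ⟨x, hx, rfl⟩ := List.mem_map.mp hb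
        exact of_gen (hw x hx).1 (hw x hx).2⟩,
    List.prod_replicate]
  obtain ⟨k, hk⟩ := Nat.dvd_of_mod_eq_zero he
  rw [hk, pow_mul, pow_two, ← map_mul, Pres.gen_sq pres_ok, map_one, one_pow]

theorem zero_mem : pres.gen 0 ∈ kerN := by
  refine Subgroup.mem_inf.mpr ⟨?_, ?_⟩
  · rw [MonoidHom.mem_ker, toR, mkHom_gen]; rfl
  · have h := gen_pair (p := (1, 3)) (by decide)
    rw [← h]
    have := even_mem (w := powW 2 [1, 3]) (by decide +kernel) (by decide +kernel)
    rw [prod_powW] at this
    simpa using this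

/-- the spider in the presentation -/
noncomputable def spE : pres.Grp := (spider.map pres.gen).prod

theorem spE_mem : spE ∈ kerN :=
  Subgroup.mem_inf.mpr ⟨by rw [MonoidHom.mem_ker, spE, toR, mkHom_word base spider_letters, gR_spider],
    even_mem spider_letters (by decide +kernel)⟩

theorem both_zero : both (pres.gen 0) = (Spin.g 0, 1) := by
  rw [both, MonoidHom.prod_apply, mkHom_gen, mkHom_gen]; rfl

theorem both_spE : both spE = (1, omP) := by
  rw [both, MonoidHom.prod_apply, spE, mkHom_word Spin.base spider_letters, mkHom_word matBase spider_letters,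
    Spin.spider_one]; rfl

/-- a generator of the kernel -/
noncomputable def six : kerN := ⟨pres.gen 0 * spE, mul_mem zero_mem spE_mem⟩

theorem six_image : orderOf (both (six : pres.Grp)) = 6 := by
  haveI : Fact (Nat.Prime 2) := ⟨Nat.prime_two⟩
  have h2 : orderOf (Spin.g 0) = 2 :=
    orderOf_eq_prime (by rw [pow_two, Spin.g_sq]) Spin.zero_moves
  rw [show (six : pres.Grp) = pres.gen 0 * spE from rfl, map_mul, both_zero, both_spE, Prod.mk_mul_mk, mul_one,
    one_mul, Prod.orderOf, h2, omP_order]
  rfl

theorem kerN_card : Nat.card kerN = 6 ∧ ∀ n : kerN, n ∈ Subgroup.zpowers six := by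
  haveI := card_le.1
  have hd : 6 ∣ orderOf six := by
    rw [← six_image]
    exact (orderOf_map_dvd both _).trans (by rw [Subgroup.orderOf_coe])
  have h1 : orderOf six ≤ Nat.card kerN := Nat.le_of_dvd Nat.card_pos (orderOf_dvd_natCard six)
  have h6 : 6 ≤ orderOf six := Nat.le_of_dvd (orderOf_pos six) hd
  have hc : Nat.card kerN = 6 := le_antisymm even_bound (h6.trans h1)
  refine ⟨hc, ?_⟩
  have ht : Subgroup.zpowers six = ⊤ := by
    refine Subgroup.eq_top_of_card_eq _ ?_
    rw [Nat.card_zpowers]
    exact le_antisymm (Nat.le_of_dvd Nat.card_pos (orderOf_dvd_natCard six)) (hc.le.trans h6)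
  exact fun n => ht ▸ Subgroup.mem_top n

theorem both_inj {n : pres.Grp} (hn : n ∈ kerN) (h : both n = 1) : n = 1 := by
  obtain ⟨hc, hgen⟩ := kerN_card
  haveI := card_le.1
  obtain ⟨k, hk⟩ := Subgroup.mem_zpowers_iff.mp (hgen ⟨n, hn⟩)
  have hk' : (six : pres.Grp) ^ k = n := by
    rw [← SubgroupClass.coe_zpow, hk]
  rw [← hk', map_zpow] at h
  have h6 := orderOf_dvd_iff_zpow_eq_one.mpr h
  rw [six_image] at h6
  have hs : orderOf (six : pres.Grp) ∣ 6 := by
    rw [Subgroup.orderOf_coe, ← hc]; exact orderOf_dvd_natCard six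
  rw [← hk']
  exact orderOf_dvd_iff_zpow_eq_one.mp ((Int.natCast_dvd_natCast.mpr hs).trans h6)

theorem both_six_central (s : pres.Grp) : both s * both (six : pres.Grp) = both (six : pres.Grp) * both s := by
  have hs : s ∈ Subgroup.closure (pres.gen '' {x | x < pres.ng}) := Pres.closure_gen pres_ok ▸ Subgroup.mem_top s
  induction hs using Subgroup.closure_induction with
  | mem y hy =>
    obtain ⟨x, hx, rfl⟩ := hy
    have hx11 : x < 11 := hx
    have e6 : both (six : pres.Grp) = (Spin.g 0, omP) := by
      rw [show (six : pres.Grp) = pres.gen 0 * spE from rfl, map_mul, both_zero, both_spE]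
      exact Prod.ext (mul_one _) (one_mul _)
    have ex : both (pres.gen x) = (vals Spin.g (Spin.g 0) (Spin.g 0) (Spin.g 0) x,
        vals Fi22SixCert.Mat.g 1 1 1 x) :=
      Prod.ext (mkHom_gen Spin.base x) (mkHom_gen matBase x)
    rw [e6, ex]
    rcases (show x = 0 ∨ (1 ≤ x ∧ x ≤ 8) ∨ x = 9 ∨ x = 10 by omega) with rfl | ⟨h1, h8⟩ | rfl | rfl
    · exact Prod.ext rfl (by simp [vals])
    · rw [vals_mid h1 h8, vals_mid h1 h8]
      exact Prod.ext (Spin.sign.2 x h1 h8) (omP_comm (by omega)).symm
    · exact Prod.ext rfl (by simp [vals])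
    · exact Prod.ext rfl (by simp [vals])
  | one => rw [map_one, one_mul, mul_one]
  | mul p r _ _ hp hr =>
    rw [map_mul]
    calc both p * both r * both (six : pres.Grp) = both p * (both r * both (six : pres.Grp)) := mul_assoc _ _ _
      _ = (both p * both (six : pres.Grp)) * both r := by rw [hr, mul_assoc]
      _ = both (six : pres.Grp) * (both p * both r) := by rw [hp, mul_assoc]
  | inv p _ hp =>
    rw [map_inv]
    exact ((show Commute (both p) (both (six : pres.Grp)) from hp).inv_left).eq

theorem kerN_central {n : pres.Grp} (hn : n ∈ kerN) (s : pres.Grp) : s * n = n * s := by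
  haveI : toR.ker.Normal := inferInstance
  have hmem : s * n * s⁻¹ * n⁻¹ ∈ kerN := by
    obtain ⟨a, b⟩ := Subgroup.mem_inf.mp hn
    exact mul_mem (Subgroup.mem_inf.mpr ⟨toR.normal_ker.conj_mem n a s,
      (inferInstance : (commutator pres.Grp).Normal).conj_mem n b s⟩) (inv_mem hn)
  have h1 : both (s * n * s⁻¹ * n⁻¹) = 1 := by
    obtain ⟨k, hk⟩ := Subgroup.mem_zpowers_iff.mp (kerN_card.2 ⟨n, hn⟩)
    have hk' : (six : pres.Grp) ^ k = n := by rw [← SubgroupClass.coe_zpow, hk]
    have hc : Commute (both s) (both n) := by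
      rw [← hk', map_zpow]
      exact (show Commute (both s) (both (six : pres.Grp)) from both_six_central s).zpow_right k
    rw [map_mul, map_mul, map_mul, map_inv, map_inv, hc.eq]
    group
  have := both_inj hmem h1
  calc s * n = (s * n * s⁻¹ * n⁻¹) * (n * s) := by group
    _ = n * s := by rw [this, one_mul]

/-- the six-fold cover -/
abbrev Cover : Subgroup pres.Grp := commutator pres.Grp

/-- onto the orthogonal group -/
noncomputable def coverMap : Cover →* R := toR.comp (commutator pres.Grp).subtype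

theorem cover_perfect : commutator Cover = ⊤ := by
  haveI := card_le.1
  let D : Subgroup pres.Grp := ⁅commutator pres.Grp, commutator pres.Grp⁆
  have hsplit : ∀ k ∈ commutator pres.Grp, ∃ d ∈ D, ∃ n ∈ kerN, k = d * n := by
    intro k hk
    have hm : toR k ∈ D.map toR := by
      rw [show D = ⁅commutator pres.Grp, commutator pres.Grp⁆ from rfl, Subgroup.map_commutator,
        show (commutator pres.Grp).map toR = ⊤ by
          rw [commutator_def, Subgroup.map_commutator, Subgroup.map_top_of_surjective _ toR_surj,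
            ← commutator_def, R_perfect],
        ← commutator_def, R_perfect]
      exact Subgroup.mem_top _
    obtain ⟨d, hd, e⟩ := hm
    refine ⟨d, hd, d⁻¹ * k, Subgroup.mem_inf.mpr ⟨?_, ?_⟩, by group⟩
    · rw [MonoidHom.mem_ker, map_mul, map_inv, e, inv_mul_cancel]
    · exact mul_mem (inv_mem ((Subgroup.commutator_mono le_top le_top) hd)) hk
  haveI hDn : D.Normal := inferInstance
  let q := QuotientGroup.mk' D
  have hqc : ∀ k ∈ commutator pres.Grp, ∀ y, q y * q k = q k * q y := by
    intro k hk y
    obtain ⟨d, hd, n, hn, rfl⟩ := hsplit k hk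
    rw [map_mul, show q d = 1 from (QuotientGroup.eq_one_iff d).mpr hd, one_mul, ← map_mul, ← map_mul,
      kerN_central hn y]
  have hgen : ∀ x y, x < pres.ng → y < pres.ng → q (pres.gen x) * q (pres.gen y) = q (pres.gen y) * q (pres.gen x) := by
    have h0 : ∀ x, (x = 0 ∨ x = 9 ∨ x = 10) → pres.gen x ∈ commutator pres.Grp := by
      rintro x (rfl | rfl | rfl)
      · exact (Subgroup.mem_inf.mp zero_mem).2
      · have h := Pres.relW_one pres_ok (r := derA ++ [9]) (by simp [Pres.relW, pres, extras])
        rw [List.map_append, List.prod_append] at h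
        simp only [List.map_cons, List.map_nil, List.prod_cons, List.prod_nil, mul_one] at h
        rw [← inv_inv (pres.gen 9), ← eq_inv_of_mul_eq_one_left h]
        exact inv_mem (even_mem derA_letters (by decide +kernel))
      · have h := Pres.relW_one pres_ok (r := derB ++ [10]) (by simp [Pres.relW, pres, extras])
        rw [List.map_append, List.prod_append] at h
        simp only [List.map_cons, List.map_nil, List.prod_cons, List.prod_nil, mul_one] at h
        rw [← inv_inv (pres.gen 10), ← eq_inv_of_mul_eq_one_left h]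
        exact inv_mem (even_mem derB_letters (by decide +kernel))
    intro x y hx hy
    have hx' : x < 11 := hx
    have hy' : y < 11 := hy
    by_cases ex : x = 0 ∨ x = 9 ∨ x = 10
    · exact (hqc _ (h0 x ex) _).symm
    by_cases ey : y = 0 ∨ y = 9 ∨ y = 10
    · exact hqc _ (h0 y ey) _
    have hxy : pres.gen x * pres.gen y ∈ commutator pres.Grp := by
      have := even_mem (w := [x, y]) (fun a ha => by
        simp only [List.mem_cons, List.not_mem_nil, or_false] at ha
        omega) (by simp)
      simpa using this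
    have e := hqc _ hxy (pres.gen x)
    rw [map_mul] at e
    have hx2 : q (pres.gen x) * q (pres.gen x) = 1 := by rw [← map_mul, Pres.gen_sq pres_ok, map_one]
    rw [← mul_assoc, hx2, one_mul] at e
    calc q (pres.gen x) * q (pres.gen y) = q (pres.gen x) * (q (pres.gen x) * q (pres.gen y) * q (pres.gen x)) := by
          rw [← e]
      _ = (q (pres.gen x) * q (pres.gen x)) * (q (pres.gen y) * q (pres.gen x)) := by group
      _ = q (pres.gen y) * q (pres.gen x) := by rw [hx2, one_mul]
  have hab : ∀ a b : pres.Grp, q a * q b = q b * q a := by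
    have h1 : ∀ x, x < pres.ng → ∀ b, q (pres.gen x) * q b = q b * q (pres.gen x) := by
      intro x hx b
      have hb : b ∈ Subgroup.closure (pres.gen '' {x | x < pres.ng}) :=
        Pres.closure_gen pres_ok ▸ Subgroup.mem_top b
      have hmem : b ∈ (Subgroup.centralizer ({q (pres.gen x)} : Set _)).comap q := by
        refine (Subgroup.closure_le _).mpr ?_ hb
        rintro _ ⟨y, hy, rfl⟩
        exact Subgroup.mem_centralizer_singleton_iff.mpr (hgen y x hy hx)
      exact (Subgroup.mem_centralizer_singleton_iff.mp hmem).symm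
    intro a b
    have ha : a ∈ Subgroup.closure (pres.gen '' {x | x < pres.ng}) :=
      Pres.closure_gen pres_ok ▸ Subgroup.mem_top a
    have hmem : a ∈ (Subgroup.centralizer ({q b} : Set _)).comap q := by
      refine (Subgroup.closure_le _).mpr ?_ ha
      rintro _ ⟨y, hy, rfl⟩
      exact Subgroup.mem_centralizer_singleton_iff.mpr (h1 y hy b)
    exact Subgroup.mem_centralizer_singleton_iff.mp hmem
  have hle : commutator pres.Grp ≤ D := by
    rw [commutator_def, Subgroup.commutator_le]
    intro a _ b _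
    rw [← QuotientGroup.eq_one_iff (N := D)]
    show q ⁅a, b⁆ = 1
    rw [map_commutatorElement, commutatorElement_eq_one_iff_mul_comm]
    exact hab a b
  rw [eq_top_iff]
  intro k _
  have hk : (k : pres.Grp) ∈ (commutator Cover).map Cover.subtype := by
    rw [commutator_def, Subgroup.map_commutator, ← MonoidHom.range_eq_map, Subgroup.range_subtype]
    exact hle k.2
  obtain ⟨k', hk', e⟩ := hk
  exact Subtype.ext e ▸ hk'

theorem cover_stem : Cfsg.IsStemExtension coverMap := by
  refine ⟨comm_onto, fun k hk => Subgroup.mem_center_iff.mpr fun y => Subtype.ext ?_,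
    fun _ _ => cover_perfect ▸ Subgroup.mem_top _⟩
  exact kerN_central (Subgroup.mem_inf.mpr ⟨hk, k.2⟩) (y : pres.Grp)

theorem cover_kernel : Nonempty (coverMap.ker ≃* Multiplicative (ZMod 6)) := by
  obtain ⟨hc, hgen⟩ := kerN_card
  let e : coverMap.ker ≃* kerN :=
    { toFun := fun k => ⟨((k : Cover) : pres.Grp), Subgroup.mem_inf.mpr ⟨k.2, (k : Cover).2⟩⟩
      invFun := fun n => ⟨⟨(n : pres.Grp), (Subgroup.mem_inf.mp n.2).2⟩, (Subgroup.mem_inf.mp n.2).1⟩
      left_inv := fun _ => rfl
      right_inv := fun _ => rfl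
      map_mul' := fun _ _ => rfl }
  haveI : IsCyclic kerN := ⟨⟨six, hgen⟩⟩
  exact ⟨e.trans (hc ▸ zmodCyclicMulEquiv (inferInstance : IsCyclic kerN)).symm⟩

end Cfsg.Agent.Spor.O73CovCert
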