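import Cfsg.Agent.Lib.Spor.O73CovPres
import Cfsg.Agent.Lib.Spor.SpiderHom

/-!
Homomorphisms out of the cover presentation of the orthogonal group in dimension seven over the field
with three elements.
-/

set_option autoImplicit false
set_option maxRecDepth 100000

namespace Cfsg.Agent.Spor.O73CovCert

open Cfsg.Agent.Spor.CC

/-- the edges of the tree, parents first -/
def treeP : List (ℕ × ℕ) := [(3, 2), (2, 1), (3, 4), (4, 5), (5, 6), (3, 7), (7, 8)]

theorem spider_letters : ∀ x ∈ spider, 1 ≤ x ∧ x ≤ 8 := by decide +kernel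

theorem derA_letters : ∀ x ∈ derA, 1 ≤ x ∧ x ≤ 8 := by decide +kernel

theorem derB_letters : ∀ x ∈ derB, 1 ≤ x ∧ x ≤ 8 := by decide +kernel

theorem label_all : ((List.range 11).all fun i => (List.range i).all fun j =>
    (fun e => decide (e = 0) ||
      ((decide (j = 0) || decide (9 ≤ j) || decide (9 ≤ i)) && decide (e = 2)) ||
      ((decide ((j, i) ∈ treeP) || decide ((i, j) ∈ treeP)) && decide (e = 3)))
      (Cfsg.Spor.coxLabel pres.edges (pres.nm j) (pres.nm i))) = true := by decide +kernel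

theorem label_cases {i : ℕ} (hi : i < 11) {j : ℕ} (hj : j < i) :
    Cfsg.Spor.coxLabel pres.edges (pres.nm j) (pres.nm i) = 0 ∨
    ((j = 0 ∨ 9 ≤ j ∨ 9 ≤ i) ∧ Cfsg.Spor.coxLabel pres.edges (pres.nm j) (pres.nm i) = 2) ∨
    (((j, i) ∈ treeP ∨ (i, j) ∈ treeP) ∧
      Cfsg.Spor.coxLabel pres.edges (pres.nm j) (pres.nm i) = 3) := by
  have h := List.all_eq_true.mp (List.all_eq_true.mp label_all i (List.mem_range.mpr hi)) j
    (List.mem_range.mpr hj)
  simpa only [Bool.or_eq_true, Bool.and_eq_true, decide_eq_true_eq, or_assoc, and_assoc] using h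

theorem commP_bounds : ∀ p ∈ commP, (1 ≤ p.1 ∧ p.1 ≤ 8) ∧ (1 ≤ p.2 ∧ p.2 ≤ 8) := by decide +kernel

theorem treeP_bounds : ∀ p ∈ treeP, (1 ≤ p.1 ∧ p.1 ≤ 8) ∧ (1 ≤ p.2 ∧ p.2 ≤ 8) := by decide +kernel

section

variable {M : Type} [Group M]

/-- values on the eleven generators from values on the eight and the central ones -/
def vals (g : ℕ → M) (z ka kb : M) (x : ℕ) : M :=
  if x = 0 then z else if x < 9 then g x else if x = 9 then ka else if x = 10 then kb else 1

/-- a central involution or one -/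
def Sign (g : ℕ → M) (k : M) : Prop := k * k = 1 ∧ ∀ x, 1 ≤ x → x ≤ 8 → g x * k = k * g x

/-- the conditions on the values -/
structure Base (g : ℕ → M) (z ka kb : M) : Prop where
  sz : Sign g z
  sa : Sign g ka
  sb : Sign g kb
  za : z * ka = ka * z
  zb : z * kb = kb * z
  ab : ka * kb = kb * ka
  sq : ∀ x, 1 ≤ x → x ≤ 8 → g x * g x = 1
  pair : ∀ p ∈ commP, (g p.1 * g p.2) ^ 2 = z
  braid : ∀ p ∈ treeP, (g p.1 * g p.2) ^ 3 = 1
  wordA : (derA.map g).prod = ka
  wordB : (derB.map g).prod = kb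

variable {g : ℕ → M} {z ka kb : M}

theorem vals_mid {x : ℕ} (h1 : 1 ≤ x) (h8 : x ≤ 8) : vals g z ka kb x = g x := by
  rw [vals, if_neg (by omega), if_pos (by omega)]

theorem vals_word {w : List ℕ} (hw : ∀ x ∈ w, 1 ≤ x ∧ x ≤ 8) :
    (w.map (vals g z ka kb)).prod = (w.map g).prod :=
  congrArg List.prod (List.map_congr_left fun x hx => vals_mid (hw x hx).1 (hw x hx).2)

theorem vals_big (x : ℕ) (hx : ¬ x < pres.ng) : vals g z ka kb x = 1 := by
  have hx' : ¬ x < 11 := hx
  rw [vals, if_neg (by omega), if_neg (by omega), if_neg (by omega), if_neg (by omega)]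

theorem vals_sq (h : Base g z ka kb) (x : ℕ) : vals g z ka kb x * vals g z ka kb x = 1 := by
  by_cases h0 : x = 0
  · simp [vals, h0, h.sz.1]
  by_cases h8 : x ≤ 8
  · rw [vals_mid (by omega) h8]; exact h.sq x (by omega) h8
  by_cases h9 : x = 9
  · simp [vals, h9, h.sa.1]
  by_cases h10 : x = 10
  · simp [vals, h10, h.sb.1]
  · rw [vals_big x (show ¬ x < 11 by omega), one_mul]

theorem vals_comm (h : Base g z ka kb) {i j : ℕ} (hi : i < 11) (hj : j < i) (hs : j = 0 ∨ 9 ≤ j ∨ 9 ≤ i) :
    vals g z ka kb j * vals g z ka kb i = vals g z ka kb i * vals g z ka kb j := by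
  have v0 : vals g z ka kb 0 = z := rfl
  have v9 : vals g z ka kb 9 = ka := rfl
  have v10 : vals g z ka kb 10 = kb := rfl
  by_cases hi8 : i ≤ 8
  · obtain rfl : j = 0 := by omega
    rw [v0, vals_mid (by omega) hi8]
    exact (h.sz.2 i (by omega) hi8).symm
  rcases (show i = 9 ∨ i = 10 by omega) with rfl | rfl
  · by_cases hj0 : j = 0
    · subst hj0; rw [v0, v9]; exact h.za
    · rw [v9, vals_mid (by omega) (by omega)]
      exact h.sa.2 j (by omega) (by omega)
  · by_cases hj0 : j = 0
    · subst hj0; rw [v0, v10]; exact h.zb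
    by_cases hj9 : j = 9
    · subst hj9; rw [v9, v10]; exact h.ab
    · rw [v10, vals_mid (by omega) (by omega)]
      exact h.sb.2 j (by omega) (by omega)

theorem vals_rels (h : Base g z ka kb) : ∀ r ∈ pres.relW, (r.map (vals g z ka kb)).prod = 1 := by
  intro r hr
  simp only [Pres.relW, List.mem_append, List.mem_map, List.mem_flatMap, List.mem_range] at hr
  rcases hr with (⟨i, hi, rfl⟩ | ⟨i, hi, j, hj, rfl⟩) | he
  · simpa using vals_sq h i
  · have hi' : i < 11 := hi
    rw [prod_powW]
    simp only [List.map_cons, List.map_nil, List.prod_cons, List.prod_nil, mul_one]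
    rcases label_cases hi' hj with e | ⟨hs, e⟩ | ⟨hp, e⟩
    · rw [e, pow_zero]
    · rw [e, (show Commute (vals g z ka kb j) (vals g z ka kb i) from vals_comm h hi' hj hs).mul_pow, pow_two,
        pow_two, vals_sq h, vals_sq h, one_mul]
    · rw [e]
      rcases hp with hp | hp <;> obtain ⟨⟨a1, a2⟩, b1, b2⟩ := treeP_bounds _ hp
      · rw [vals_mid a1 a2, vals_mid b1 b2]; exact h.braid _ hp
      · rw [vals_mid a1 a2, vals_mid b1 b2]
        have := h.braid _ hp
        have ee : g j * g i = (g i * g j)⁻¹ := by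
          rw [mul_inv_rev, inv_eq_of_mul_eq_one_left (h.sq j b1 b2), inv_eq_of_mul_eq_one_left (h.sq i a1 a2)]
        rw [ee, inv_pow, this, inv_one]
  · simp only [pres, extras, List.mem_append, List.mem_map, List.mem_cons, List.not_mem_nil, or_false] at he
    rcases he with ⟨p, hp, rfl⟩ | rfl | rfl
    · obtain ⟨⟨a1, a2⟩, b1, b2⟩ := commP_bounds p hp
      have := h.pair p hp
      simp only [pairW, List.map_cons, List.map_nil, List.prod_cons, List.prod_nil, mul_one]
      rw [vals_mid a1 a2, vals_mid b1 b2, show vals g z ka kb 0 = z from rfl]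
      calc g p.1 * (g p.2 * (g p.1 * (g p.2 * z))) = (g p.1 * g p.2) ^ 2 * z := by
            rw [pow_two]; group
        _ = 1 := by rw [this, h.sz.1]
    · rw [List.map_append, List.prod_append, vals_word derA_letters, h.wordA]
      simp [vals, h.sa.1]
    · rw [List.map_append, List.prod_append, vals_word derB_letters, h.wordB]
      simp [vals, h.sb.1]

/-- the homomorphism of the values -/
noncomputable def mkHom (h : Base g z ka kb) : pres.Grp →* M :=
  SpiderCert.homOf pres_ok (vals g z ka kb) vals_big (vals_rels h)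

theorem mkHom_gen (h : Base g z ka kb) (x : ℕ) : mkHom h (pres.gen x) = vals g z ka kb x :=
  SpiderCert.homOf_gen ..

theorem mkHom_word (h : Base g z ka kb) {w : List ℕ} (hw : ∀ x ∈ w, 1 ≤ x ∧ x ≤ 8) :
    mkHom h (w.map pres.gen).prod = (w.map g).prod := by
  rw [mkHom, SpiderCert.homOf_prod, vals_word hw]

end

end Cfsg.Agent.Spor.O73CovCert
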