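import Cfsg.Agent.Lib.Spor.O73CovPres

/-!
Coset certificate `IdxA3` of O73Cov: data.
-/

set_option autoImplicit false
set_option maxRecDepth 100000

namespace Cfsg.Agent.Spor.O73CovCert.IdxA3

open Cfsg.Agent.Spor.CC

/-- packed equalities -/
def factC0 : ℕ := 0x20000c0003030000c0003000000c000300000080002000000400010100004000103000080002020000000000100000000000000000000010000c00020200008000103000040000

/-- the recorded equalities -/
def facts (id : ℕ) : ℕ :=
  fld factC0 44 (Nat.sub id 0)

/-- packed words -/
def words : ℕ := 0x201000000000000000000000000000000000000000000000000000000000000000000000000000000000000000000000000000000000000000000000000000001010000000000000000000000000000000000000000000000000000000000000000000000000000000000000000000000000000000000000000000000000000000100000000000000000000000000000000000000000000000000000000000000000000000000000000000000000000000000000000000000000000000021212106000000000000000000000000000000000000000000000000000000000000000000000000000000000000000000000000000000000000000000000000031310050000000000000000000000000000000000000000000000000000000000000000000000000000000000000000000000000000000000000000000000000010100400000000000000000000000000000000000000000000000000000000000000000000000000000000000000000000000000000000000000000000000000202004000000000000000000000000000000000000000000000000000000000000000000000000000000000000000000000000000000000000000000000000031031050000000000000000000000000000000000000000000000000000000000000000000000000000000000000000000000000000000000000000000000000031310500000000000000000000000000000000000000000000000000000000000000000000000000000000000000000000000000000000000000000000000032323206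

/-- the certificate -/
def dat : Data where
  ng := 4
  na := 4
  nn := 4
  facts := facts
  words := words
  nr := 7
  nw := 10

/-- witnesses for the words -/
def wit : List (ℕ × ℕ × Bool) := [
  (16, 0, false),
  (66, 0, false),
  (66, 2, false),
  (12, 0, false),
  (11, 0, false),
  (66, 4, false),
  (13, 0, false)]

/-- subgroup words -/
def subW : List (List ℕ) := [[0], [1], [2]]

/-- letters -/
def letters : List ℕ := [0, 1, 2, 3]

theorem defs_ok : ∀ k, k < dat.na - 1 → defOK dat k = true := by decide +kernel

end Cfsg.Agent.Spor.O73CovCert.IdxA3
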