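import Cfsg.Agent.Lib.Spor.O73CovIdxA3Data

/-!
Coset certificate `IdxA3` of O73Cov: checks.
-/

set_option autoImplicit false
set_option maxRecDepth 100000

namespace Cfsg.Agent.Spor.O73CovCert.IdxA3

open Cfsg.Agent.Spor.CC

/-- checked entries -/
def stL0 : List ℕ := [
0x1c0000,
0x200000,
0x240000,
0x200000000008000000000a0080300000000,
0x1800000000080080200040000,
0x700000000000000080080200080000,
0x8000040001000402000c0001,
0x1000008000120040200100002,
0x200003000008000120080200140002,
0x400001000010000040000e0080300180001]

theorem stOK0 : stepsOK dat stL0 3 = true := by decide +kernel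

end Cfsg.Agent.Spor.O73CovCert.IdxA3
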