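import Cfsg.Agent.Lib.Spor.O73CovPres

/-!
Coset certificate `IdxA4` of O73Cov: data.
-/

set_option autoImplicit false
set_option maxRecDepth 100000

namespace Cfsg.Agent.Spor.O73CovCert.IdxA4

open Cfsg.Agent.Spor.CC

/-- packed equalities -/
def factC0 : ℕ := 0x3000100004030000c00030000010000404000100004040000c0003000000c0003020001000040100008000201000040001000000800020000004000102000040001040000800020300000000002000000000010000000000000000000001000100003020000c00020300008000104000040000

/-- the recorded equalities -/
def facts (id : ℕ) : ℕ :=
  fld factC0 44 (Nat.sub id 0)

/-- packed words -/
def words : ℕ := 0x30100000000000000000000000000000000000000000000000000000000000000000000000000000000000000000000000000000000000000000000000000000201000000000000000000000000000000000000000000000000000000000000000000000000000000000000000000000000000000000000000000000000000001010000000000000000000000000000000000000000000000000000000000000000000000000000000000000000000000000000000000000000000000000000000100000000000000000000000000000000000000000000000000000000000000000000000000000000000000000000000000000000000000000000000001031305000000000000000000000000000000000000000000000000000000000000000000000000000000000000000000000000000000000000000000000000323232060000000000000000000000000000000000000000000000000000000000000000000000000000000000000000000000000000000000000000000000000140140500000000000000000000000000000000000000000000000000000000000000000000000000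000000000000000000000000000000000000000000000001410405000000000000000000000000000000000000000000000000000000000000000000000000000000000000000000000000000000000000000000000000042420050000000000000000000000000000000000000000000000000000000000000000000000000000000000000000000000000000000000000000000000000020200400000000000000000000000000000000000000000000000000000000000000000000000000000000000000000000000000000000000000000000000021212106000000000000000000000000000000000000000000000000000000000000000000000000000000000000000000000000000000000000000000000000003131050000000000000000000000000000000000000000000000000000000000000000000000000000000000000000000000000000000000000000000000000414100500000000000000000000000000000000000000000000000000000000000000000000000000000000000000000000000000000000000000000000000000303004000000000000000000000000000000000000000000000000000000000000000000000000000000000000000000000000000000000000000000000000042042050000000000000000000000000000000000000000000000000000000000000000000000000000000000000000000000000000000000000000000000000042420500000000000000000000000000000000000000000000000000000000000000000000000000000000000000000000000000000000000000000000000043434306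

/-- the certificate -/
def dat : Data where
  ng := 5
  na := 5
  nn := 5
  facts := facts
  words := words
  nr := 13
  nw := 17

/-- witnesses for the words -/
def wit : List (ℕ × ℕ × Bool) := [
  (20, 0, false),
  (68, 0, false),
  (68, 2, false),
  (14, 0, false),
  (67, 4, false),
  (66, 0, false),
  (13, 0, false),
  (12, 0, false),
  (68, 4, false),
  (67, 3, false),
  (67, 2, true),
  (16, 0, false),
  (66, 1, false)]

/-- subgroup words -/
def subW : List (List ℕ) := [[0], [1], [2], [3]]

/-- letters -/
def letters : List ℕ := [0, 1, 2, 3, 4]

theorem defs_ok : ∀ k, k < dat.na - 1 → defOK dat k = true := by decide +kernel

end Cfsg.Agent.Spor.O73CovCert.IdxA4
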