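import Cfsg.Agent.Lib.Spor.O73CovIdxA4Data

/-!
Coset certificate `IdxA4` of O73Cov: checks.
-/

set_option autoImplicit false
set_option maxRecDepth 100000

namespace Cfsg.Agent.Spor.O73CovCert.IdxA4

open Cfsg.Agent.Spor.CC

/-- checked entries -/
def stL0 : List ℕ := [
0x340000,
0x380000,
0x3c0000,
0x400000,
0x200000000008000000000e0080300000000,
0x20000000000c0080200040000,
0x9000000000000000c0080200080000,
0x8000040001400402000c0001,
0x28000020001400c0100100001,
0x100005000004000180080200140001,
0x600002000018000080001a0080300180002,
0x10000080001600402001c0002,
0x200004000008000160080200200002,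
0x30000180003c000200040300240003,
0x110000180000c000200080200280003,
0x400001000010000040001200803002c0001,
0x120000180000c000260080200300003]

theorem stOK0 : stepsOK dat stL0 4 = true := by decide +kernel

end Cfsg.Agent.Spor.O73CovCert.IdxA4
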