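import Cfsg.Agent.Lib.Spor.O73CovIdxA5Data

/-!
Coset certificate `IdxA5` of O73Cov: checks.
-/

set_option autoImplicit false
set_option maxRecDepth 100000

namespace Cfsg.Agent.Spor.O73CovCert.IdxA5

open Cfsg.Agent.Spor.CC

/-- checked entries -/
def stL0 : List ℕ := [
0x540000,
0x580000,
0x5c0000,
0x600000,
0x640000,
0x20000000000800000000120080300000000,
0x2800000000100080200040000,
0xb00000000000000100080200080000,
0x8000040001800402000c0001,
0x30000020001800c0100100001,
0x38000020001800c0100140001,
0x1000060000040001e0080200180001,
0x600002000018000080002000803001c0002,
0x1000060000040001c0080200200001,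
0x200006800008000240080200240002,
0x1300001000008000240080200280002,
0x180000c0002800402002c0003,
0x20000500000a000280000400300003,
0x150000180000c0002c0080200340003,
0x4000020000540002e0040300380004,
0x18000020000100002e00802003c0004,
0x400008800012000320000400400005,
0x8000030000200000c000260080300440003,
0x40000100001000004000160080300480001,
0x150000180000c0003800802004c0003,
0x19000020000100003a0080200500004]

theorem stOK0 : stepsOK dat stL0 5 = true := by decide +kernel

end Cfsg.Agent.Spor.O73CovCert.IdxA5
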