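import Cfsg.Agent.Lib.Spor.O73CovIdxA6Data

/-!
Coset certificate `IdxA6` of O73Cov: checks.
-/

set_option autoImplicit false
set_option maxRecDepth 100000

namespace Cfsg.Agent.Spor.O73CovCert.IdxA6

open Cfsg.Agent.Spor.CC

/-- checked entries -/
def stL0 : List ℕ := [
0x780000,
0x7c0000,
0x800000,
0x840000,
0x880000,
0x8c0000,
0x20000000000800000000160080300000000,
0x3000000000140080200040000,
0xd00000000000000140080200080000,
0x8000040001c00402000c0001,
0x38000020001c00c0100100001,
0x40000020001c00c0100140001,
0x48000020001c00c0100180001,
0x1000070000040002400802001c0001,
0x60000200001800008000260080300200002,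
0x100007000004000220080200240001,
0x2000078000080002a0080200280002,
0x16000010000080002a00802002c0002,
0x180000c0002e0040200300003,
0x20000600000a0002e0000400340003,
0x180000180000c000320080200380003,
0x4000020000600003400403003c0004,
0x1b00002000010000340080200400004,
0x2800014000380040200440005,
0x40000a000012000380000400480005,
0x50000d800014000380080200100005,
0x1d000028000140003c00802004c0005,
0x8000030000200000c0002c0080300500003,
0x1d00002800014000420080200540005,
0x100007000004000200080200580001,
0x2000078000080004600802005c0002,
0x30000b80000c000480080200600003,
0xa00004000028000100004a0080300640004,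
0x400001000010000040001a0080300680001,
0x180000180000c0004e00802006c0003,
0x1c00002000010000500080200700004,
0x1d00002800014000520080200740005]

theorem stOK0 : stepsOK dat stL0 6 = true := by decide +kernel

end Cfsg.Agent.Spor.O73CovCert.IdxA6
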