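import Cfsg.Agent.Lib.Spor.O73CovIdxOneData

/-!
Coset certificate `IdxOne` of O73Cov: checks.
-/

set_option autoImplicit false
set_option maxRecDepth 100000

namespace Cfsg.Agent.Spor.O73CovCert.IdxOne

open Cfsg.Agent.Spor.CC

/-- checked entries -/
def edL0 : List ℕ := [
0x1,
0x401]

theorem edOK0 : edgesOK dat 1 edL0 0 = true := by decide +kernel

end Cfsg.Agent.Spor.O73CovCert.IdxOne
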