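import Cfsg.Agent.Lib.Spor.O73CovIdxTwoData

/-!
Coset certificate `IdxTwo` of O73Cov: checks.
-/

set_option autoImplicit false
set_option maxRecDepth 100000

namespace Cfsg.Agent.Spor.O73CovCert.IdxTwo

open Cfsg.Agent.Spor.CC

/-- checked entries -/
def stL0 : List ℕ := [
0x6000010000040000a000090000500000005,
0xc0000,
0xc0040200040000,
0x8000040000c0040200080000,
0x180000c000100040200040002,
0x2800014000120040200080004,
0x2400012000140040200040005]

theorem stOK0 : stepsOK dat stL0 5 = true := by decide +kernel

end Cfsg.Agent.Spor.O73CovCert.IdxTwo
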