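import Cfsg.Agent.Lib.Spor.O73CovRep
import Cfsg.Prelude.Def_KGroupFacts

/-!
Stem extensions of the orthogonal group in dimension seven over the field with three elements: lifts of
commuting transpositions anticommute, and after adjoining a square root of the central sign the lifts
satisfy the cover presentation.
-/

set_option autoImplicit false
set_option maxRecDepth 100000
set_option Elab.async false

namespace Cfsg.Agent.Spor.O73CovCert

open Cfsg.Agent.Spor.CC
open scoped commutatorElement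

/-- the word of a conjugate -/
def conW (c : List ℕ) (x : ℕ) : List ℕ := c ++ [x] ++ c.reverse

/-- the conjugators of the commuting pairs of generators -/
def pairChk : List (List ℕ) :=
  (List.range 21).flatMap fun k =>
    [conW (Dat.pairC.getD k []) 1 ++ [(commP.getD k (0, 0)).1],
     conW (Dat.pairC.getD k []) 3 ++ [(commP.getD k (0, 0)).2]]

/-- the conjugate transposition -/
def sevW (i : ℕ) : List ℕ := conW (Dat.sevC.getD i []) 3

/-- the checks of the seven -/
def sevChk : List (List ℕ) :=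
  [(List.range 7).flatMap sevW] ++ (List.range 7).flatMap fun i => (List.range i).flatMap fun j =>
    [conW ((Dat.sevP.getD i []).getD j []) 1 ++ sevW j,
     conW ((Dat.sevP.getD i []).getD j []) 3 ++ sevW i]

theorem pair_one : oneR pairChk = true ∧ commP.length = 21 := by decide +kernel

theorem sev_one : oneR sevChk = true := by decide +kernel

theorem gR_rev : ∀ {l : List ℕ}, (∀ x ∈ l, 1 ≤ x ∧ x ≤ 8) →
    (l.reverse.map gR).prod = (l.map gR).prod⁻¹ := by
  intro l hl
  induction l with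
  | nil => simp
  | cons a l ih =>
    rw [List.reverse_cons, List.map_append, List.prod_append, ih fun x hx => hl x (List.mem_cons_of_mem _ hx)]
    simp [inv_eq_of_mul_eq_one_left (gR_sq (hl a (List.mem_cons_self ..)).1 (hl a (List.mem_cons_self ..)).2)]

theorem conW_prod {c : List ℕ} {x : ℕ} (hl : ∀ y ∈ conW c x, 1 ≤ y ∧ y ≤ 8) :
    ((conW c x).map gR).prod = (c.map gR).prod * gR x * (c.map gR).prod⁻¹ := by
  rw [conW, List.map_append, List.map_append, List.prod_append, List.prod_append,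
    gR_rev fun y hy => hl y (by simp [conW, hy])]
  simp

theorem oneR_letters {W : List (List ℕ)} (h : oneR W = true) {w : List ℕ} (hw : w ∈ W) :
    ∀ x ∈ w, 1 ≤ x ∧ x ≤ 8 := fun x hx => by
  have := List.all_eq_true.mp (List.all_eq_true.mp (Bool.and_eq_true_iff.mp h).1 w hw) x hx
  simpa using this

theorem pair_conj {p : ℕ × ℕ} (hp : p ∈ commP) :
    ∃ C : R, C * gR 1 * C⁻¹ = gR p.1 ∧ C * gR 3 * C⁻¹ = gR p.2 := by
  obtain ⟨h, hlen⟩ := pair_one
  obtain ⟨k, hk, rfl⟩ := List.mem_iff_getElem.mp hp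
  obtain ⟨⟨a1, a2⟩, b1, b2⟩ := commP_bounds _ hp
  refine ⟨((Dat.pairC.getD k []).map gR).prod, ?_, ?_⟩
  · have hm : conW (Dat.pairC.getD k []) 1 ++ [(commP.getD k (0, 0)).1] ∈ pairChk :=
      List.mem_flatMap.mpr ⟨k, List.mem_range.mpr (hlen ▸ hk), List.mem_cons_self ..⟩
    have e := oneR_spec h hm
    have hl := oneR_letters h hm
    rw [List.map_append, List.prod_append, conW_prod fun y hy => hl y (List.mem_append.mpr (Or.inl hy)),
      List.getD_eq_getElem _ _ hk] at e
    simp only [List.map_cons, List.map_nil, List.prod_cons, List.prod_nil, mul_one] at e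
    exact (eq_inv_of_mul_eq_one_left e).trans (inv_eq_of_mul_eq_one_left (gR_sq a1 a2))
  · have hm : conW (Dat.pairC.getD k []) 3 ++ [(commP.getD k (0, 0)).2] ∈ pairChk :=
      List.mem_flatMap.mpr ⟨k, List.mem_range.mpr (hlen ▸ hk), List.mem_cons_of_mem _ (List.mem_cons_self ..)⟩
    have e := oneR_spec h hm
    have hl := oneR_letters h hm
    rw [List.map_append, List.prod_append, conW_prod fun y hy => hl y (List.mem_append.mpr (Or.inl hy)),
      List.getD_eq_getElem _ _ hk] at e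
    simp only [List.map_cons, List.map_nil, List.prod_cons, List.prod_nil, mul_one] at e
    exact (eq_inv_of_mul_eq_one_left e).trans (inv_eq_of_mul_eq_one_left (gR_sq b1 b2))

/-- the seven transpositions -/
noncomputable def sevR (i : ℕ) : R :=
  ((Dat.sevC.getD i []).map gR).prod * gR 3 * ((Dat.sevC.getD i []).map gR).prod⁻¹

theorem sev_letters : ∀ i < 7, ∀ x ∈ sevW i, 1 ≤ x ∧ x ≤ 8 := by decide +kernel

theorem sevR_sq (i : ℕ) : sevR i * sevR i = 1 := by
  unfold sevR
  generalize ((Dat.sevC.getD i []).map gR).prod = C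
  calc C * gR 3 * C⁻¹ * (C * gR 3 * C⁻¹) = C * (gR 3 * gR 3) * C⁻¹ := by group
    _ = 1 := by rw [gR_sq (by norm_num) (by norm_num)]; group

theorem sev_prod : ((List.range 7).map sevR).prod = 1 := by
  have e := oneR_spec sev_one (w := (List.range 7).flatMap sevW) (List.mem_cons_self ..)
  have key : ∀ l : List ℕ, (∀ i ∈ l, i < 7) → ((l.flatMap sevW).map gR).prod = (l.map sevR).prod := by
    intro l
    induction l with
    | nil => simp
    | cons a l ih =>
      intro hl
      rw [List.flatMap_cons, List.map_append, List.prod_append, ih fun i hi => hl i (List.mem_cons_of_mem _ hi),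
        List.map_cons, List.prod_cons, sevR, sevW, conW_prod (sev_letters a (hl a (List.mem_cons_self ..)))]
  rw [← key _ fun i hi => List.mem_range.mp hi]
  exact e

theorem sev_conj {i j : ℕ} (hi : i < 7) (hj : j < i) :
    ∃ C : R, C * gR 1 * C⁻¹ = sevR j ∧ C * gR 3 * C⁻¹ = sevR i := by
  refine ⟨(((Dat.sevP.getD i []).getD j []).map gR).prod, ?_, ?_⟩
  · have hm : conW ((Dat.sevP.getD i []).getD j []) 1 ++ sevW j ∈ sevChk :=
      List.mem_cons_of_mem _ (List.mem_flatMap.mpr ⟨i, List.mem_range.mpr hi,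
        List.mem_flatMap.mpr ⟨j, List.mem_range.mpr hj, List.mem_cons_self ..⟩⟩)
    have e := oneR_spec sev_one hm
    have hl := oneR_letters sev_one hm
    rw [List.map_append, List.prod_append, conW_prod fun y hy => hl y (List.mem_append.mpr (Or.inl hy)),
      show ((sevW j).map gR).prod = sevR j from conW_prod (sev_letters j (hj.trans hi))] at e
    exact (eq_inv_of_mul_eq_one_left e).trans (inv_eq_of_mul_eq_one_left (sevR_sq j))
  · have hm : conW ((Dat.sevP.getD i []).getD j []) 3 ++ sevW i ∈ sevChk :=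
      List.mem_cons_of_mem _ (List.mem_flatMap.mpr ⟨i, List.mem_range.mpr hi,
        List.mem_flatMap.mpr ⟨j, List.mem_range.mpr hj, List.mem_cons_of_mem _ (List.mem_cons_self ..)⟩⟩)
    have e := oneR_spec sev_one hm
    have hl := oneR_letters sev_one hm
    rw [List.map_append, List.prod_append, conW_prod fun y hy => hl y (List.mem_append.mpr (Or.inl hy)),
      show ((sevW i).map gR).prod = sevR i from conW_prod (sev_letters i hi)] at e
    exact (eq_inv_of_mul_eq_one_left e).trans (inv_eq_of_mul_eq_one_left (sevR_sq i))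

section

variable {Γ : Type} [Group Γ] {π : Γ →* R}

theorem stem_perfect (h : Cfsg.IsStemExtension π) : commutator Γ = ⊤ := by
  have hmap : (commutator Γ).map π = ⊤ := by
    rw [commutator_def, Subgroup.map_commutator, Subgroup.map_top_of_surjective _ h.1, ← commutator_def,
      R_perfect]
  rw [eq_top_iff]
  intro x _
  obtain ⟨c, hc, hcx⟩ : π x ∈ (commutator Γ).map π := hmap ▸ Subgroup.mem_top _
  have hk : c⁻¹ * x ∈ π.ker := by rw [MonoidHom.mem_ker, map_mul, map_inv, hcx, inv_mul_cancel]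
  simpa using mul_mem hc (h.2.2 hk)

theorem ker_comm (h : Cfsg.IsStemExtension π) {k : Γ} (hk : π k = 1) (g : Γ) : g * k = k * g :=
  Subgroup.mem_center_iff.mp (h.2.1 hk) g

theorem comm_central {k l x y : Γ} (hk : ∀ g : Γ, g * k = k * g) (hl : ∀ g : Γ, g * l = l * g) :
    ⁅x * k, y * l⁆ = ⁅x, y⁆ := by
  simp only [commutatorElement_def]
  calc x * k * (y * l) * (x * k)⁻¹ * (y * l)⁻¹
      = x * (k * (y * l)) * k⁻¹ * x⁻¹ * l⁻¹ * y⁻¹ := by group
    _ = x * (y * l * k) * k⁻¹ * x⁻¹ * l⁻¹ * y⁻¹ := by rw [hk (y * l)]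
    _ = x * y * (l * x⁻¹) * l⁻¹ * y⁻¹ := by group
    _ = x * y * (x⁻¹ * l) * l⁻¹ * y⁻¹ := by rw [hl x⁻¹]
    _ = x * y * x⁻¹ * y⁻¹ := by group

/-- the commutator of lifts of a pair conjugate to the base pair -/
theorem comm_pair (h : Cfsg.IsStemExtension π) {a0 b0 a b : Γ} (ha0 : π a0 = gR 1) (hb0 : π b0 = gR 3)
    (hab : ∃ C : R, C * gR 1 * C⁻¹ = π a ∧ C * gR 3 * C⁻¹ = π b) : ⁅a, b⁆ = ⁅a0, b0⁆ := by
  obtain ⟨C, hCa, hCb⟩ := hab
  obtain ⟨γ, rfl⟩ := h.1 C
  have hk : π ((γ * a0 * γ⁻¹)⁻¹ * a) = 1 := by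
    rw [map_mul, map_inv, map_mul, map_mul, map_inv, ha0, hCa, inv_mul_cancel]
  have hl : π ((γ * b0 * γ⁻¹)⁻¹ * b) = 1 := by
    rw [map_mul, map_inv, map_mul, map_mul, map_inv, hb0, hCb, inv_mul_cancel]
  have e := comm_central (x := γ * a0 * γ⁻¹) (y := γ * b0 * γ⁻¹) (ker_comm h hk) (ker_comm h hl)
  rw [mul_inv_cancel_left, mul_inv_cancel_left] at e
  rw [e]
  have hz : π ⁅a0, b0⁆ = 1 := by
    rw [map_commutatorElement, ha0, hb0, commutatorElement_eq_one_iff_mul_comm]
    have := base.pair (1, 3) (by decide)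
    have h1 := gR_sq (x := 1) le_rfl (by norm_num)
    have h3 := gR_sq (x := 3) (by norm_num) (by norm_num)
    generalize gR 1 = p at this h1
    generalize gR 3 = q at this h3
    rw [pow_two] at this
    calc p * q = (p * q * (p * q)) * (q⁻¹ * p⁻¹) := by group
      _ = q * p := by rw [this, one_mul, inv_eq_of_mul_eq_one_left h1, inv_eq_of_mul_eq_one_left h3]
  have := ker_comm h hz γ
  calc ⁅γ * a0 * γ⁻¹, γ * b0 * γ⁻¹⁆ = γ * ⁅a0, b0⁆ * γ⁻¹ := by simp only [commutatorElement_def]; group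
    _ = ⁅a0, b0⁆ := by rw [this]; group

theorem swap_of_comm {z a b : Γ} (hz : z * z = 1) (hc : ∀ g : Γ, g * z = z * g) (e : ⁅a, b⁆ = z) :
    a * b = z * (b * a) ∧ b * a = z * (a * b) := by
  have h1 : a * b = z * (b * a) := by
    rw [← e, commutatorElement_def]; group
  exact ⟨h1, by rw [h1, ← mul_assoc, hz, one_mul]⟩

theorem sq_prod {c z : Γ} (hzc : ∀ g : Γ, g * z = z * g) (hcc : ∀ g : Γ, g * c = c * g) (hz : z * z = 1) :
    ∀ l : List Γ, (∀ a ∈ l, a * a = c) → l.Pairwise (fun a b => ⁅b, a⁆ = z ∨ ⁅a, b⁆ = z) →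
      l.prod * l.prod = c ^ l.length * z ^ l.length.choose 2
  | [], _, _ => by simp
  | a :: l, h1, h2 => by
    rw [List.pairwise_cons] at h2
    have ih := sq_prod hzc hcc hz l (fun b hb => h1 b (List.mem_cons_of_mem _ hb)) h2.2
    have hmove : ∀ m : List Γ, (∀ b ∈ m, b * a = z * (a * b)) → m.prod * a = z ^ m.length * (a * m.prod) := by
      intro m
      induction m with
      | nil => simp
      | cons b m ihm =>
        intro hm
        have hb := hm b (List.mem_cons_self ..)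
        have hi := ihm fun q hq => hm q (List.mem_cons_of_mem _ hq)
        have hc := ((Commute.pow_right (hzc b) m.length)).eq
        rw [List.prod_cons, List.length_cons, pow_succ]
        calc b * m.prod * a = b * (m.prod * a) := by group
          _ = b * z ^ m.length * (a * m.prod) := by rw [hi]; group
          _ = z ^ m.length * (b * a) * m.prod := by rw [hc]; group
          _ = z ^ m.length * z * (a * (b * m.prod)) := by rw [hb]; group
    have hP := hmove l fun b hb => by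
      rcases h2.1 b hb with e | e
      · exact (swap_of_comm hz hzc e).1
      · exact (swap_of_comm hz hzc e).2
    have hcp := ((Commute.pow_right (hzc a) l.length)).eq
    have hcp' := ((Commute.pow_left (hcc (z ^ l.length)).symm 1)).eq
    rw [List.prod_cons, List.length_cons, Nat.choose_succ_succ, Nat.choose_one_right, pow_succ', pow_add]
    calc a * l.prod * (a * l.prod) = a * (l.prod * a) * l.prod := by group
      _ = a * z ^ l.length * a * (l.prod * l.prod) := by rw [hP]; group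
      _ = z ^ l.length * (a * a) * (c ^ l.length * z ^ l.length.choose 2) := by rw [hcp, ih]; group
      _ = z ^ l.length * c * (c ^ l.length * z ^ l.length.choose 2) := by rw [h1 a (List.mem_cons_self ..)]
      _ = c * (z ^ l.length * c ^ l.length) * z ^ l.length.choose 2 := by rw [hcc (z ^ l.length)]; group
      _ = c * (c ^ l.length * z ^ l.length) * z ^ l.length.choose 2 := by
        rw [((Commute.pow_pow (hcc z) l.length l.length)).eq]
      _ = c * c ^ l.length * (z ^ l.length * z ^ l.length.choose 2) := by group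

theorem exists_sign (h : Cfsg.IsStemExtension π) : ∃ z t : Γ, z * z = 1 ∧ π z = 1 ∧ π t = gR 3 ∧ t * t = z ∧
    ∀ a b : Γ, (∃ C : R, C * gR 1 * C⁻¹ = π a ∧ C * gR 3 * C⁻¹ = π b) → ⁅a, b⁆ = z := by
  obtain ⟨a0, ha0⟩ := h.1 (gR 1)
  obtain ⟨b0, hb0⟩ := h.1 (gR 3)
  have hpair : ∀ a b : Γ, (∃ C : R, C * gR 1 * C⁻¹ = π a ∧ C * gR 3 * C⁻¹ = π b) → ⁅a, b⁆ = ⁅a0, b0⁆ :=
    fun a b => comm_pair h ha0 hb0
  have hz1 : π ⁅a0, b0⁆ = 1 := by
    rw [map_commutatorElement, ha0, hb0, commutatorElement_eq_one_iff_mul_comm]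
    have := base.pair (1, 3) (by decide)
    have h1 := gR_sq (x := 1) le_rfl (by norm_num)
    have h3 := gR_sq (x := 3) (by norm_num) (by norm_num)
    generalize gR 1 = p at this h1
    generalize gR 3 = q at this h3
    rw [pow_two] at this
    calc p * q = (p * q * (p * q)) * (q⁻¹ * p⁻¹) := by group
      _ = q * p := by rw [this, one_mul, inv_eq_of_mul_eq_one_left h1, inv_eq_of_mul_eq_one_left h3]
  have hzc := ker_comm h hz1
  have haa : π (a0 * a0) = 1 := by rw [map_mul, ha0, gR_sq le_rfl (by norm_num)]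
  have hz : ⁅a0, b0⁆ * ⁅a0, b0⁆ = 1 := by
    have e : a0 * b0 * a0⁻¹ = ⁅a0, b0⁆ * b0 := by rw [commutatorElement_def]; group
    have hc := ker_comm h haa b0
    generalize ⁅a0, b0⁆ = z at e hzc ⊢
    calc z * z = (z * (z * b0)) * b0⁻¹ := by group
      _ = (z * (a0 * b0 * a0⁻¹)) * b0⁻¹ := by rw [e]
      _ = (a0 * z * b0 * a0⁻¹) * b0⁻¹ := by rw [hzc a0]; group
      _ = a0 * (a0 * b0 * a0⁻¹) * a0⁻¹ * b0⁻¹ := by rw [e]; group
      _ = (a0 * a0) * b0 * (a0 * a0)⁻¹ * b0⁻¹ := by group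
      _ = 1 := by rw [← hc]; group
  generalize hzdef : ⁅a0, b0⁆ = z at hz hz1 hzc hpair
  have hbb : π (b0 * b0) = 1 := by rw [map_mul, hb0, gR_sq (by norm_num) (by norm_num)]
  have hcc := ker_comm h hbb
  obtain ⟨C, hC⟩ : ∃ C : ℕ → Γ, ∀ i, π (C i) = ((Dat.sevC.getD i []).map gR).prod :=
    ⟨fun i => (h.1 _).choose, fun i => (h.1 _).choose_spec⟩
  let s : ℕ → Γ := fun i => C i * b0 * (C i)⁻¹
  have hs : ∀ i, π (s i) = sevR i := fun i => by
    simp only [s]; rw [map_mul, map_mul, map_inv, hC, hb0, sevR]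
  have hsq : ∀ i, s i * s i = b0 * b0 := fun i => by
    simp only [s]
    calc C i * b0 * (C i)⁻¹ * (C i * b0 * (C i)⁻¹) = C i * (b0 * b0) * (C i)⁻¹ := by group
      _ = b0 * b0 := by rw [hcc (C i)]; group
  have hE : π ((List.range 7).map s).prod = 1 := by
    rw [map_list_prod, List.map_map, ← sev_prod]
    exact congrArg List.prod (List.map_congr_left fun i _ => hs i)
  have hE2 := sq_prod hzc hcc hz ((List.range 7).map s)
    (fun a ha => by obtain ⟨i, -, rfl⟩ := List.mem_map.mp ha; exact hsq i)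
    (by
      rw [List.pairwise_map]
      refine (List.pairwise_lt_range (n := 7)).imp_of_mem ?_
      intro i j hi hj hij
      refine Or.inr (hpair _ _ ?_)
      rw [hs, hs]
      exact sev_conj (List.mem_range.mp hj) hij)
  rw [List.length_map, List.length_range, show Nat.choose 7 2 = 21 from by decide] at hE2
  generalize ((List.range 7).map s).prod = E at hE hE2
  have hz21 : z ^ 21 = z := by
    rw [show 21 = 2 * 10 + 1 from rfl, pow_succ, pow_mul, pow_two, hz, one_pow, one_mul]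
  rw [hz21] at hE2
  generalize hcdef : b0 * b0 = c at hcc hbb hE2
  have hA : π (c ^ 3 * E⁻¹) = 1 := by rw [map_mul, map_pow, map_inv, hbb, hE]; simp
  refine ⟨z, c ^ 3 * E⁻¹ * b0, hz, hz1, by rw [map_mul, hA, one_mul, hb0], ?_, hpair⟩
  have hAc := ker_comm h hA b0
  have hEc := ker_comm h hE
  calc c ^ 3 * E⁻¹ * b0 * (c ^ 3 * E⁻¹ * b0) = c ^ 3 * E⁻¹ * (b0 * (c ^ 3 * E⁻¹)) * b0 := by group
    _ = c ^ 3 * E⁻¹ * (c ^ 3 * E⁻¹) * (b0 * b0) := by rw [hAc]; group
    _ = c ^ 3 * (E⁻¹ * c ^ 3) * E⁻¹ * c := by rw [hcdef]; group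
    _ = c ^ 3 * (c ^ 3 * E⁻¹) * E⁻¹ * c := by rw [((Commute.pow_right (hcc E⁻¹) 3)).eq]
    _ = c ^ 6 * (E * E)⁻¹ * c := by group
    _ = c ^ 6 * z⁻¹ * (c ^ 7)⁻¹ * c := by rw [hE2]; group
    _ = z := by
      rw [inv_eq_of_mul_eq_one_left hz, ← ((Commute.pow_right (hcc z) 6)).eq]
      group

theorem next_lift (h : Cfsg.IsStemExtension π) {z : Γ} (hz1 : π z = 1) {x y : ℕ} (hp : (x, y) ∈ treeP) {a : Γ}
    (ha : π a = gR x) (ha2 : a * a = z) :
    ∃ b : Γ, π b = gR y ∧ b * b = z ∧ a * b * a = b * a * b := by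
  obtain ⟨c, hc⟩ := h.1 (gR y)
  have hb : ∀ p ∈ treeP, (1 ≤ p.1 ∧ p.1 ≤ 8) ∧ (1 ≤ p.2 ∧ p.2 ≤ 8) := by decide +kernel
  obtain ⟨⟨x1, x8⟩, y1, y8⟩ := hb _ hp
  have hπ : π (a * c * a * (a * c)⁻¹) = gR y := by
    rw [map_mul, map_inv, map_mul, map_mul, ha, hc]
    have := base.braid _ hp
    have hx := gR_sq (x := x) x1 x8
    have hy := gR_sq (x := y) y1 y8
    generalize gR x = p at this hx
    generalize gR y = q at this hy ⊢
    rw [pow_succ, pow_two] at this
    rw [mul_inv_rev, inv_eq_of_mul_eq_one_left hx, inv_eq_of_mul_eq_one_left hy]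
    calc p * q * p * (q * p) = (p * q * (p * q) * (p * q)) * q⁻¹ := by group
      _ = q := by rw [this, one_mul, inv_eq_of_mul_eq_one_left hy]
  refine ⟨a * c * a * (a * c)⁻¹, hπ, ?_, ?_⟩
  · calc a * c * a * (a * c)⁻¹ * (a * c * a * (a * c)⁻¹) = (a * c) * (a * a) * (a * c)⁻¹ := by group
      _ = z := by rw [ha2, ker_comm h hz1]; group
  · generalize hb' : a * c * a * (a * c)⁻¹ = b at hπ
    have hk : π (c⁻¹ * b) = 1 := by rw [map_mul, map_inv, hc, hπ, inv_mul_cancel]
    have hkc := ker_comm h hk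
    have e : b = a * b * a * (a * b)⁻¹ := by
      have hbk : b = c * (c⁻¹ * b) := by group
      generalize c⁻¹ * b = k at hbk hkc
      conv_lhs => rw [← hb']
      rw [hbk]
      calc a * c * a * (a * c)⁻¹ = a * c * a * k * k⁻¹ * (a * c)⁻¹ := by group
        _ = a * c * (k * a) * k⁻¹ * (a * c)⁻¹ := by rw [← hkc a]; group
        _ = a * (c * k) * a * (a * (c * k))⁻¹ := by group
    calc a * b * a = (a * b * a * (a * b)⁻¹) * (a * b) := by group
      _ = b * (a * b) := by rw [← e]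
      _ = b * a * b := by group

/-- lifts of the eight generators -/
structure Lifts (π : Γ →* R) where
  /-- the sign -/
  z : Γ
  /-- the lifts -/
  L : ℕ → Γ
  zsq : z * z = 1
  zone : π z = 1
  proj : ∀ x, 1 ≤ x → x ≤ 8 → π (L x) = gR x
  sq : ∀ x, 1 ≤ x → x ≤ 8 → L x * L x = z
  pair : ∀ p ∈ commP, ⁅L p.1, L p.2⁆ = z
  braid : ∀ p ∈ treeP, L p.1 * L p.2 * L p.1 = L p.2 * L p.1 * L p.2

theorem exists_lifts (h : Cfsg.IsStemExtension π) : Nonempty (Lifts π) := by
  obtain ⟨z, t, hz, hz1, ht, ht2, hpair⟩ := exists_sign h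
  obtain ⟨l2, p2, s2, b2⟩ := next_lift h hz1 (x := 3) (y := 2) (by decide) ht ht2
  obtain ⟨l1, p1, s1, b1⟩ := next_lift h hz1 (x := 2) (y := 1) (by decide) p2 s2
  obtain ⟨l4, p4, s4, b4⟩ := next_lift h hz1 (x := 3) (y := 4) (by decide) ht ht2
  obtain ⟨l5, p5, s5, b5⟩ := next_lift h hz1 (x := 4) (y := 5) (by decide) p4 s4
  obtain ⟨l6, p6, s6, b6⟩ := next_lift h hz1 (x := 5) (y := 6) (by decide) p5 s5
  obtain ⟨l7, p7, s7, b7⟩ := next_lift h hz1 (x := 3) (y := 7) (by decide) ht ht2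
  obtain ⟨l8, p8, s8, b8⟩ := next_lift h hz1 (x := 7) (y := 8) (by decide) p7 s7
  let L : ℕ → Γ := fun x => [1, l1, l2, t, l4, l5, l6, l7, l8].getD x 1
  have hproj : ∀ x, 1 ≤ x → x ≤ 8 → π (L x) = gR x := fun x a b => by
    interval_cases x <;> assumption
  refine ⟨⟨z, L, hz, hz1, hproj, fun x a b => by interval_cases x <;> assumption, fun p hp => ?_, ?_⟩⟩
  · obtain ⟨⟨a1, a8⟩, c1, c8⟩ := commP_bounds p hp
    refine hpair _ _ ?_
    rw [hproj _ a1 a8, hproj _ c1 c8]
    exact pair_conj hp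
  · intro p hp
    simp only [treeP, List.mem_cons, List.not_mem_nil, or_false] at hp
    rcases hp with rfl | rfl | rfl | rfl | rfl | rfl | rfl <;> assumption

end

end Cfsg.Agent.Spor.O73CovCert
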