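import Cfsg.Prelude.Def_Classical

/-!
Transport of odd-dimensional projective orthogonal groups along an isomorphism of fields in any universes.
-/

set_option autoImplicit false

namespace Cfsg.Agent.Spor.POmegaTransfer

open Cfsg Matrix

universe u v

variable {m : ℕ} {F : Type u} {F' : Type v} [Field F] [Field F']

/-- the index set -/
abbrev Ix (m : ℕ) : Type := Unit ⊕ (Fin m ⊕ Fin m)

/-- the matrices over isomorphic fields -/
noncomputable def glEquiv (φ : F ≃+* F') : GL (Ix m) F ≃* GL (Ix m) F' :=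
  Units.mapEquiv (φ.mapMatrix : Matrix (Ix m) (Ix m) F ≃+* Matrix (Ix m) (Ix m) F').toMulEquiv

theorem mem_map (φ : F ≃+* F') (g : GL (Ix m) F) (hg : g ∈ isometryGroup F (quadFormOdd m F)) :
    glEquiv φ g ∈ isometryGroup F' (quadFormOdd m F') := by
  intro u w
  obtain ⟨u, rfl⟩ : ∃ u' : Ix m → F, u = φ ∘ u' := ⟨φ.symm ∘ u, by ext; simp⟩
  have hm : ((glEquiv φ g : GL (Ix m) F') : Matrix (Ix m) (Ix m) F') *ᵥ (φ ∘ u) =
      φ ∘ ((g : Matrix (Ix m) (Ix m) F) *ᵥ u) := by
    ext i; exact (RingHom.map_mulVec φ.toRingHom (g : Matrix (Ix m) (Ix m) F) u i).symm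
  have hq : ∀ a : Ix m → F, quadFormOdd m F' (φ ∘ a) = φ (quadFormOdd m F a) := fun a => by
    simp [quadFormOdd, map_add, map_sum, map_mul, map_pow]
  show quadFormOdd m F' (((glEquiv φ g : GL (Ix m) F') : Matrix (Ix m) (Ix m) F') *ᵥ (φ ∘ u)) = _
  rw [hm, hq]
  exact (congrArg φ (hg u u)).trans (hq u).symm

/-- the isometry groups over isomorphic fields -/
noncomputable def isoEquiv (φ : F ≃+* F') :
    ↥(isometryGroup F (quadFormOdd m F)) ≃* ↥(isometryGroup F' (quadFormOdd m F')) where
  toFun g := ⟨_, mem_map φ g.1 g.2⟩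
  invFun g := ⟨_, mem_map φ.symm g.1 g.2⟩
  left_inv g := by
    refine Subtype.ext (Units.ext ?_)
    ext i j
    simp [glEquiv]
  right_inv g := by
    refine Subtype.ext (Units.ext ?_)
    ext i j
    simp [glEquiv]
  map_mul' a b := Subtype.ext (map_mul _ _ _)

/-- the commutator subgroups over isomorphic fields -/
noncomputable def omegaEquiv (φ : F ≃+* F') :
    ↥(Omega F (quadFormOdd m F)) ≃* ↥(Omega F' (quadFormOdd m F')) :=
  (MulEquiv.subgroupMap (isoEquiv (m := m) φ) (Omega F (quadFormOdd m F))).trans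
    (MulEquiv.subgroupCongr (by
      show (commutator _).map (isoEquiv (m := m) φ).toMonoidHom = commutator _
      rw [commutator_def, Subgroup.map_commutator, Subgroup.map_top_of_surjective _ (isoEquiv φ).surjective,
        ← commutator_def]))

/-- Isomorphic fields give isomorphic groups. -/
theorem pomega_congr (φ : F ≃+* F') :
    Nonempty (POmega F (quadFormOdd m F) ≃* POmega F' (quadFormOdd m F')) :=
  ⟨QuotientGroup.congr _ _ (omegaEquiv φ) (by
    ext x
    rw [Subgroup.mem_map]
    constructor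
    · rintro ⟨z, hz, rfl⟩
      rw [Subgroup.mem_center_iff] at hz ⊢
      intro y
      obtain ⟨w, rfl⟩ := (omegaEquiv φ).surjective y
      show (omegaEquiv φ) w * (omegaEquiv φ) z = (omegaEquiv φ) z * (omegaEquiv φ) w
      rw [← map_mul, ← map_mul, hz w]
    · intro hx
      obtain ⟨z, rfl⟩ := (omegaEquiv φ).surjective x
      refine ⟨z, Subgroup.mem_center_iff.2 fun w => (omegaEquiv φ).injective ?_, rfl⟩
      rw [map_mul, map_mul]
      exact Subgroup.mem_center_iff.1 hx _)⟩

end Cfsg.Agent.Spor.POmegaTransfer
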