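import Cfsg.Agent.Lib.Spor.O73CovExist
import Cfsg.Agent.Lib.Lie.CoverUniversal
import Cfsg.Agent.Lib.Spor.POmegaTransfer

/-!
The Schur multiplier of the orthogonal group in dimension seven over the field with three elements.
-/

set_option autoImplicit false
set_option maxRecDepth 100000

namespace Cfsg.Agent.Spor.O73CovCert

universe u

theorem multiplier {G : Type u} [Group G] (e : G ≃* R) : Cfsg.HasCyclicSchurMultiplier G 6 := by
  haveI := finite_R
  haveI : Finite G := Finite.of_equiv R e.symm.toEquiv
  haveI := card_le.1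
  have hperf : commutator G = ⊤ := by
    have := congrArg (Subgroup.map e.symm.toMonoidHom) R_perfect
    rw [commutator_def, Subgroup.map_commutator, Subgroup.map_top_of_surjective _ e.symm.surjective] at this
    rwa [commutator_def]
  refine Lie.CoverUniversal.hasSchur_of hperf ?_ fun Γ _ _ σ hσ => ?_
  · obtain ⟨eK⟩ := cover_kernel
    let π : ULift.{u} Cover →* G := e.symm.toMonoidHom.comp (coverMap.comp MulEquiv.ulift.toMonoidHom)
    have hmem : ∀ x, x ∈ π.ker ↔ x.down ∈ coverMap.ker := fun x => by
      simp only [MonoidHom.mem_ker, π, MonoidHom.comp_apply, MulEquiv.coe_toMonoidHom,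
        EmbeddingLike.map_eq_one_iff]
      rfl
    refine ⟨ULift.{u} Cover, inferInstance, inferInstance, π, ⟨?_, ?_, ?_⟩, ⟨?_⟩⟩
    · exact e.symm.surjective.comp (cover_stem.1.comp MulEquiv.ulift.surjective)
    · intro x hx
      rw [Subgroup.mem_center_iff]
      intro y
      exact ULift.ext _ _ (Subgroup.mem_center_iff.mp (cover_stem.2.1 ((hmem x).mp hx)) y.down)
    · have h := congrArg (Subgroup.map (MulEquiv.ulift.{0, u} (α := ↥Cover)).symm.toMonoidHom)
        cover_perfect
      rw [commutator_def, Subgroup.map_commutator,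
        Subgroup.map_top_of_surjective _ MulEquiv.ulift.symm.surjective] at h
      rw [commutator_def, h]
      exact le_top
    · exact MulEquiv.trans
        { toFun := fun x => ⟨x.1.down, (hmem x.1).mp x.2⟩
          invFun := fun x => ⟨⟨x.1⟩, (hmem _).mpr x.2⟩
          left_inv := fun _ => rfl
          right_inv := fun _ => rfl
          map_mul' := fun _ _ => rfl } eK
  · let E : Shrink.{0} Γ ≃* Γ := Shrink.mulEquiv
    haveI : Finite (Shrink.{0} Γ) := Finite.of_equiv Γ E.symm.toEquiv
    let σ0 : Shrink.{0} Γ →* R := e.toMonoidHom.comp (σ.comp E.toMonoidHom)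
    have hmem : ∀ x, x ∈ σ0.ker ↔ E x ∈ σ.ker := fun x => by
      simp only [MonoidHom.mem_ker, σ0, MonoidHom.comp_apply, MulEquiv.coe_toMonoidHom,
        EmbeddingLike.map_eq_one_iff]
    have h0 : Cfsg.IsStemExtension σ0 := by
      refine ⟨e.surjective.comp (hσ.1.comp E.surjective), fun x hx => ?_, fun x hx => ?_⟩
      · rw [Subgroup.mem_center_iff]
        intro y
        apply E.injective
        rw [map_mul, map_mul]
        exact Subgroup.mem_center_iff.mp (hσ.2.1 ((hmem x).mp hx)) (E y)
      · have := Subgroup.mem_map_of_mem E.symm.toMonoidHom (hσ.2.2 ((hmem x).mp hx))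
        rw [commutator_def, Subgroup.map_commutator, Subgroup.map_top_of_surjective _ E.symm.surjective,
          ← commutator_def] at this
        simpa using this
    have hcard : Nat.card σ0.ker = Nat.card σ.ker :=
      Nat.card_congr (Equiv.subtypeEquiv E.toEquiv hmem)
    rw [← hcard, Nat.card_congr (Multiplicative.toAdd (α := ZMod 6)), Nat.card_zmod]
    exact kernel_le h0

theorem multiplier_omega {F : Type u} [Field F] [Fintype F] (hF : Fintype.card F = 3) :
    Cfsg.HasCyclicSchurMultiplier (Cfsg.POmega F (Cfsg.quadFormOdd 3 F)) 6 := by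
  obtain ⟨e1⟩ := POmegaTransfer.pomega_congr (m := 3)
    (FiniteField.ringEquivOfCardEq (K := F) (K' := ZMod 3) (hF.trans (ZMod.card 3).symm))
  obtain ⟨e2⟩ := Fi22Cert.O7Act.ksub_equiv
  exact multiplier (e1.trans e2.symm)

end Cfsg.Agent.Spor.O73CovCert
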