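import Cfsg.Agent.Lib.Spor.OrbitCert

/-!
A graph presentation of a cover of the orthogonal group in dimension seven over the field with three
elements: generator 0 is central and is the square of the product of two commuting generators; generators 9 and 10 are central signs.
-/

set_option autoImplicit false

namespace Cfsg.Agent.Spor.O73CovCert

open Cfsg.Agent.Spor.CC

/-- pairs of commuting generators -/
def commP : List (ℕ × ℕ) := [(1, 3), (1, 4), (2, 4), (1, 5), (2, 5), (3, 5), (1, 6), (2, 6), (3, 6), (4, 6), (1, 7), (2, 7), (4, 7), (5, 7), (6, 7), (1, 8), (2, 8), (3, 8), (4, 8), (5, 8), (6, 8)]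

/-- the edges -/
def edges : List (Fin 11 × ℕ × Fin 11) := [(0, 2, 1), (3, 3, 2), (2, 3, 1), (3, 3, 4), (4, 3, 5), (5, 3, 6), (3, 3, 7), (7, 3, 8), (1, 0, 3), (1, 0, 4), (2, 0, 4), (1, 0, 5), (2, 0, 5), (3, 0, 5), (1, 0, 6), (2, 0, 6), (3, 0, 6), (4, 0, 6), (1, 0, 7), (2, 0, 7), (4, 0, 7), (5, 0, 7), (6, 0, 7), (1, 0, 8), (2, 0, 8), (3, 0, 8), (4, 0, 8), (5, 0, 8), (6, 0, 8), (0, 2, 9), (9, 2, 10)]

/-- the spider word -/
def spider : List ℕ := powW 10 [3, 2, 1, 3, 4, 5, 3, 7, 8]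

/-- a word commuting with generator 8 -/
def derA : List ℕ := [7, 3, 2, 1, 4, 3, 2, 5, 4, 3, 6, 5, 4, 7, 3, 2, 1, 4, 3, 2, 5, 4, 3, 6, 5, 4, 7, 3, 2, 1, 4, 3, 5, 4, 6, 5, 7, 3, 2, 4, 3, 7, 8, 7, 3, 4, 2, 3, 7, 5, 6, 4, 5, 3, 4, 1, 2, 3, 7, 4, 5, 6, 3, 4, 5, 2, 3, 4, 1, 2, 3, 7, 4, 5, 6, 3, 4, 5, 2, 3, 4, 1, 2, 3, 7, 8]

/-- a word commuting with generator 1 -/
def derB : List ℕ := [2, 3, 4, 5, 6, 7, 3, 2, 4, 3, 5, 4, 7, 3, 2, 8, 7, 3, 2, 4, 3, 5, 4, 6, 5, 7, 3, 2, 4, 3, 7, 8, 7, 3, 2, 4, 3, 5, 4, 7, 3, 2, 1, 2, 3, 7, 4, 5, 3, 4, 2, 3, 7, 8, 7, 3, 4, 2, 3, 7, 5, 6, 4, 5, 3, 4, 2, 3, 7, 8, 2, 3, 7, 4, 5, 3, 4, 2, 3, 7, 6, 5, 4, 3, 2, 1]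

/-- the relator of a commuting pair -/
def pairW (p : ℕ × ℕ) : List ℕ := [p.1, p.2, p.1, p.2, 0]

/-- the further relators as words -/
def extras : List (List ℕ) := commP.map pairW ++ [derA ++ [9], derB ++ [10]]

/-- the name of a generator -/
def nm9 (x : ℕ) : Fin 11 := [0, 1, 2, 3, 4, 5, 6, 7, 8, 9, 10].getD x 0

/-- a word in the free group -/
def freeW (w : List ℕ) : FreeGroup (Fin 11) := (w.map fun x => FreeGroup.of (nm9 x)).prod

/-- the numbered presentation -/
def pres : Pres (Fin 11) where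
  edges := edges
  extra := extras.map freeW
  ng := 11
  ix := fun a => a.val
  nm := nm9
  extraW := extras

theorem extras_letters : lettersOK 11 extras = true := by decide +kernel

theorem nm9_val : ∀ x, x < 11 → (nm9 x).val = x := by decide +kernel

theorem pres_ok : pres.OK where
  ix_lt := fun a => a.isLt
  nm_ix := fun a => Fin.ext (nm9_val a.val a.isLt)
  ix_nm := nm9_val
  node := by decide +kernel
  symm := by decide +kernel
  ng_le := by decide
  extra_eq := by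
    intro M _ f _
    show (extras.map freeW).map (FreeGroup.lift (f ∘ fun a : Fin 11 => a.val)) = extras.map fun w => (w.map f).prod
    rw [List.map_map]
    refine List.map_congr_left fun w hw => ?_
    rw [Function.comp_apply, freeW, map_list_prod, List.map_map]
    refine congrArg List.prod (List.map_congr_left fun x hx => ?_)
    rw [Function.comp_apply, FreeGroup.lift_apply_of, Function.comp_apply]
    exact congrArg f (nm9_val x (lettersOK_spec extras_letters hw hx))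

theorem relW_letters : lettersOK 11 pres.relW = true := by decide +kernel

end Cfsg.Agent.Spor.O73CovCert
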