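import Cfsg.Agent.Lib.Spor.Fi22O7Threes
import Cfsg.Agent.Lib.Spor.O73CovHom
import Cfsg.Agent.Lib.Spor.O73CovData

/-!
The orthogonal group in dimension seven over the field with three elements as an image of the cover
presentation.
-/

set_option autoImplicit false
set_option maxRecDepth 100000
set_option Elab.async false

namespace Cfsg.Agent.Spor.O73CovCert

open Cfsg.Agent.Spor.CC
open Fi22Cert.O7Act (Ksub gK orows otab otab_valid phi phi_gen card_Ksub)
open Fi22Cert.O7Threes (phi_injective)

/-- the group -/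
abbrev R : Subgroup Fi22Cert.pres.Grp := Ksub

/-- the generators, numbered from one -/
noncomputable def gR (x : ℕ) : R := gK (x - 1)

/-- the generators on 351 points, numbered from one -/
def rrows (x v : ℕ) : ℕ := bif Nat.beq x 0 then v else orows (Nat.sub x 1) v

/-- the table -/
def rtab : Table where
  T := rrows
  ng := 9
  n := 351

theorem rtab_inv : invOK rrows 9 351 0 351 = true := by decide +kernel

theorem rtab_valid : rtab.Valid := fun _ hu _ hx =>
  invOK_spec rtab_inv (Nat.zero_le _) (lt_of_lt_of_eq hu (Nat.zero_add _).symm) hx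

/-- the generators and the identity -/
noncomputable def gR0 (x : ℕ) : R := if x = 0 then 1 else gR x

theorem gR0_val (x : ℕ) (hx : x < rtab.ng) : phi (gR0 x) = rtab.perm rtab_valid x := by
  have hx9 : x < 9 := hx
  by_cases h0 : x = 0
  · subst h0
    rw [gR0, if_pos rfl, map_one]
    refine Equiv.ext fun u => Fin.ext ?_
    refine Eq.trans ?_ (rtab.perm_val rtab_valid hx u).symm
    show (u : ℕ) = img rrows 9 0 u
    simp [img, rrows]
  · rw [gR0, if_neg h0, gR, phi_gen _ (show x - 1 < 8 by omega)]
    refine Equiv.ext fun u => Fin.ext ?_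
    refine Eq.trans ?_ (rtab.perm_val rtab_valid hx u).symm
    refine (otab.perm_val otab_valid (show x - 1 < 8 by omega) u).trans ?_
    show img orows 8 (x - 1) u = img rrows 9 x u
    obtain ⟨y, rfl⟩ : ∃ y, x = y + 1 := ⟨x - 1, by omega⟩
    simp [img, rrows, show y < 8 by omega, show y + 1 < 9 by omega]
    rfl

/-- words with letters from one to eight act as one -/
noncomputable def oneR (W : List (List ℕ)) : Bool :=
  (W.all fun w => w.all fun x => decide (1 ≤ x) && decide (x ≤ 8)) && loopOK rrows 9 W 0 351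

theorem oneR_spec {W : List (List ℕ)} (h : oneR W = true) {w : List ℕ} (hw : w ∈ W) :
    (w.map gR).prod = 1 := by
  obtain ⟨hl, hf⟩ := Bool.and_eq_true_iff.mp h
  have hlet : ∀ x ∈ w, 1 ≤ x ∧ x ≤ 8 := fun x hx => by
    have := List.all_eq_true.mp (List.all_eq_true.mp hl w hw) x hx
    simpa using this
  have e : (w.map gR).prod = (w.map gR0).prod :=
    congrArg List.prod (List.map_congr_left fun x hx => by
      rw [gR0, if_neg (by have := hlet x hx; omega)])
  rw [e]
  refine phi_injective (Equiv.ext fun u => Fin.ext ?_)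
  rw [map_one]
  refine (ev_eq (P := rtab) rtab_valid gR0 phi gR0_val (fun x hx => by
    show x < 9
    have := hlet x hx; omega) u).trans ?_
  exact loopOK_spec hf (Nat.zero_le _) (lt_of_lt_of_eq u.2 (Nat.zero_add _).symm) hw

/-- the checks of the conditions -/
def baseChk : List (List ℕ) :=
  ((List.range 8).map fun x => [x + 1, x + 1]) ++ (commP.map fun p => powW 2 [p.1, p.2]) ++
    (treeP.map fun p => powW 3 [p.1, p.2]) ++ [spider, derA, derB]

theorem base_one : oneR baseChk = true := by decide +kernel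

theorem gR_sq {x : ℕ} (h1 : 1 ≤ x) (h8 : x ≤ 8) : gR x * gR x = 1 := by
  have := oneR_spec base_one (w := [x, x]) (by
    simp only [baseChk, List.mem_append, List.mem_map, List.mem_range]
    exact Or.inl (Or.inl (Or.inl ⟨x - 1, by omega, by rw [Nat.sub_add_cancel h1]⟩)))
  simpa using this

theorem gR_spider : (spider.map gR).prod = 1 :=
  oneR_spec base_one (List.mem_append.mpr (Or.inr (by simp)))

theorem sign_one : Sign gR (1 : R) := ⟨one_mul 1, fun x _ _ => by rw [mul_one, one_mul]⟩

theorem base : Base gR (1 : R) 1 1 where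
  sz := sign_one
  sa := sign_one
  sb := sign_one
  za := rfl
  zb := rfl
  ab := rfl
  sq := fun x h1 h8 => gR_sq h1 h8
  pair := fun p hp => by
    have := oneR_spec base_one (w := powW 2 [p.1, p.2])
      (List.mem_append.mpr (Or.inl (List.mem_append.mpr (Or.inl (List.mem_append.mpr (Or.inr
        (List.mem_map.mpr ⟨p, hp, rfl⟩)))))))
    rw [prod_powW] at this
    simpa using this
  braid := fun p hp => by
    have := oneR_spec base_one (w := powW 3 [p.1, p.2])
      (List.mem_append.mpr (Or.inl (List.mem_append.mpr (Or.inr (List.mem_map.mpr ⟨p, hp, rfl⟩)))))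
    rw [prod_powW] at this
    simpa using this
  wordA := oneR_spec base_one (List.mem_append.mpr (Or.inr (by simp)))
  wordB := oneR_spec base_one (List.mem_append.mpr (Or.inr (by simp)))

/-- the projection -/
noncomputable def toR : pres.Grp →* R := mkHom base

theorem toR_gen {x : ℕ} (h1 : 1 ≤ x) (h8 : x ≤ 8) : toR (pres.gen x) = gR x := by
  rw [toR, mkHom_gen, vals_mid h1 h8]

theorem toR_surj : Function.Surjective toR := by
  rintro ⟨s, hs⟩
  have hs' : s ∈ Fi22Cert.pres.sub [1, 2, 3, 4, 5, 6, 7, 8] := Fi22Cert.O7Act.sub_eq_singles ▸ hs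
  have key : Fi22Cert.pres.sub [1, 2, 3, 4, 5, 6, 7, 8] ≤ toR.range.map Ksub.subtype := by
    rw [Pres.sub, Subgroup.closure_le]
    rintro _ ⟨x, hx, rfl⟩
    have h18 : 1 ≤ x ∧ x ≤ 8 := by
      simp only [Set.mem_setOf_eq, List.mem_cons, List.not_mem_nil, or_false] at hx
      omega
    refine ⟨gR x, ⟨pres.gen x, toR_gen h18.1 h18.2⟩, ?_⟩
    rw [Subgroup.coe_subtype, gR, gK, dif_pos (show x - 1 < 8 by omega)]
    show Fi22Cert.pres.gen (x - 1 + 1) = _
    rw [Nat.sub_add_cancel h18.1]
  obtain ⟨r, ⟨a, ha⟩, hr⟩ := key hs'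
  exact ⟨a, ha.trans (Subtype.ext hr)⟩

theorem card_R : Nat.card R = 4585351680 := card_Ksub.2

theorem finite_R : Finite R := card_Ksub.1

theorem R_perfect : commutator R = ⊤ := Fi22Cert.O7Act.perfect

end Cfsg.Agent.Spor.O73CovCert
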