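import Cfsg.Agent.Lib.Spor.OEightTree

/-!
The thirteen classes of subgroups of order three of the orthogonal group of plus type in dimension eight over three
elements inside Fi23, and their seven orbits under the permutations of the three sets of members.
-/

set_option autoImplicit false
set_option maxRecDepth 100000
set_option linter.unusedSectionVars false

namespace Cfsg.Agent.Spor.OEight

open Cfsg.Agent.Spor.CC Cfsg.Agent.Spor.Fi23Cert Cfsg.Agent.Spor.M23Rel.Cyc
open Cfsg.Agent.Spor.M23Rel.Tri (T K L T_inj InCls InCls.conj inCls_list inCls_offset sg sg_spec sigma_val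
 sigma_K sigma_surj L_norm K_L)

/-- the subgroup of a representative -/
noncomputable def Yk (c : Fin 13) : Subgroup pres.Grp := Subgroup.zpowers (rep c)

/-- the entry of a triple -/
def tr (c : Fin 13) (j : Fin 3) : ℕ := (Dat.trip.getD (c : ℕ) []).getD (j : ℕ) 0

theorem tr_inj {a b : Fin 13} (h : ∀ j, tr a j = tr b j) : a = b :=
  Fin.ext (trips_ok _ a.2 _ b.2 (by
    simp only [List.all_cons, List.all_nil, Bool.and_true, Bool.and_eq_true]
    exact ⟨Nat.beq_eq.mpr (h 0), Nat.beq_eq.mpr (h 1), Nat.beq_eq.mpr (h 2)⟩))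

theorem rep_spec (c : Fin 13) : rep c ∈ K ∧ rep c ^ 3 = 1 ∧ rep c ≠ 1 ∧ Match (rep c) (ev (repW c)) ∧
    ∀ j : Fin 3, fixCount c j = tr c j := by
  have h := reps_ok c c.2
  simp only [repOK, Bool.and_eq_true, List.any_eq_true, Bool.not_eq_true'] at h
  obtain ⟨⟨⟨⟨⟨hlev, hcube⟩, b, hb, hne⟩, h0⟩, h1⟩, h2⟩ := h
  have hw : ∀ s ∈ repW c, s < 16 := fun s hs => lt_trans (fromLev_lt hlev s hs).2 (by norm_num)
  refine ⟨nW_mem hw, ?_, fun e => ?_, match_word _ hw, ?_⟩
  · have e := eqR_sound hcube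
    rw [nW_app, nW_app] at e
    simpa [rep, nW, pow_succ, mul_assoc] using e
  · have hb' : b < 3240 := by
      have : ∀ x ∈ base, x < 3240 := by decide
      exact this b hb
    obtain ⟨hlt, e'⟩ := match_word _ hw b hb'
    rw [show nW (repW c) = 1 from e, one_mul, inv_one, mul_one] at e'
    rw [← T_inj hb' hlt e', Nat.beq_refl] at hne
    cases hne
  · intro j
    fin_cases j
    exacts [Nat.eq_of_beq_eq_true h0, Nat.eq_of_beq_eq_true h1, Nat.eq_of_beq_eq_true h2]

theorem Yk_le (c : Fin 13) : Yk c ≤ K := Subgroup.zpowers_le.mpr (rep_spec c).1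

theorem card_Yk (c : Fin 13) : Nat.card (Yk c) = 3 := by
  haveI : Fact (Nat.Prime 3) := ⟨Nat.prime_three⟩
  obtain ⟨-, h3, h1, -, -⟩ := rep_spec c
  rw [Yk, Nat.card_zpowers, orderOf_eq_prime h3 h1]

/-- the number of members of one set commuting with a subgroup -/
noncomputable def F (j : Fin 3) (X : Subgroup pres.Grp) : ℕ :=
  {y : pres.Grp | InCls j y ∧ ∀ x ∈ X, Commute x y}.ncard

theorem F_Yk (c : Fin 13) (j : Fin 3) : F j (Yk c) = tr c j := by
  classical
  obtain ⟨-, -, -, hm, hf⟩ := rep_spec c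
  have hj := j.2
  have e : {y : pres.Grp | InCls j y ∧ ∀ x ∈ Yk c, Commute x y} =
      ↑(((Finset.range 1080).filter fun i =>
        Nat.beq (ev (repW c) (1080 * (j : ℕ) + i)) (1080 * (j : ℕ) + i) = true).image
          fun i => T (1080 * (j : ℕ) + i)) := by
    ext y
    simp only [Finset.coe_image, Set.mem_image, Finset.mem_coe, Finset.mem_filter, Finset.mem_range,
      Set.mem_setOf_eq]
    constructor
    · rintro ⟨hy, hc⟩
      obtain ⟨i, hi, hdiv, rfl⟩ := inCls_list hy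
      have e1 : 1080 * (j : ℕ) + (i - 1080 * (j : ℕ)) = i := by omega
      refine ⟨i - 1080 * (j : ℕ), ⟨by omega, ?_⟩, by rw [e1]⟩
      rw [e1]
      obtain ⟨hlt, h2⟩ := hm i hi
      rw [(hc (rep c) (Subgroup.mem_zpowers _)).eq, mul_inv_cancel_right] at h2
      rw [← T_inj hi hlt h2, Nat.beq_refl]
    · rintro ⟨i, ⟨hi, hfix⟩, rfl⟩
      have hlt : 1080 * (j : ℕ) + i < 3240 := by omega
      refine ⟨?_, fun x hx => ?_⟩
      · have := inCls_offset hlt
        rwa [show (⟨(1080 * (j : ℕ) + i) / 1080, by omega⟩ : Fin 3) = j from Fin.ext (by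
          show (1080 * (j : ℕ) + i) / 1080 = (j : ℕ); omega)] at this
      · have h2 := (hm _ hlt).2
        rw [Nat.eq_of_beq_eq_true hfix] at h2
        obtain ⟨n, rfl⟩ := Subgroup.mem_zpowers_iff.mp hx
        exact (show Commute (rep c) (T (1080 * (j : ℕ) + i)) from mul_inv_eq_iff_eq_mul.mp h2).zpow_left n
  rw [F, e, Set.ncard_coe_finset, Finset.card_image_of_injOn fun a ha b hb h => by
    simp only [Finset.coe_filter, Finset.mem_range, Set.mem_setOf_eq] at ha hb
    have := T_inj (by omega) (by omega) h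
    omega]
  exact hf j

theorem F_conj (x : L) (X : Subgroup pres.Grp) (j : Fin 3) :
    F (M23Rel.Tri.sigma x j) (X.map (MulAut.conj (x : pres.Grp)).toMonoidHom) = F j X := by
  have hset : {y : pres.Grp | InCls (M23Rel.Tri.sigma x j) y ∧
      ∀ z ∈ X.map (MulAut.conj (x : pres.Grp)).toMonoidHom, Commute z y} =
      MulAut.conj (x : pres.Grp) '' {y | InCls j y ∧ ∀ z ∈ X, Commute z y} := by
    ext y
    constructor
    · rintro ⟨hy, hc⟩
      refine ⟨(x : pres.Grp)⁻¹ * y * (x : pres.Grp), ⟨?_, fun z hz => ?_⟩, by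
        rw [MulAut.conj_apply]; group⟩
      · have hback : sg x⁻¹ (M23Rel.Tri.sigma x j) = j := by
          rw [← sigma_val, ← Equiv.Perm.mul_apply, ← map_mul, inv_mul_cancel, map_one, Equiv.Perm.one_apply]
        have h := hy.conj (L_norm (x⁻¹).2) (j' := j) (by
          have := sg_spec x⁻¹ (M23Rel.Tri.sigma x j)
          rwa [hback] at this)
        simpa using h
      · have h := (hc _ ⟨z, hz, rfl⟩).map (MulAut.conj (x : pres.Grp)⁻¹).toMonoidHom
        simp only [MulEquiv.coe_toMonoidHom, MulAut.conj_apply, inv_inv] at h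
        rwa [show (x : pres.Grp)⁻¹ * ((x : pres.Grp) * z * (x : pres.Grp)⁻¹) * (x : pres.Grp) = z by group] at h
    · rintro ⟨y, ⟨hy, hc⟩, rfl⟩
      refine ⟨hy.conj (L_norm x.2) (sg_spec x j), ?_⟩
      rintro _ ⟨z, hz, rfl⟩
      exact (hc z hz).map (MulAut.conj (x : pres.Grp)).toMonoidHom
  rw [F, hset, Set.ncard_image_of_injective _ (MulAut.conj (x : pres.Grp)).injective]
  rfl

theorem F_conj_K {k : pres.Grp} (hk : k ∈ K) (X : Subgroup pres.Grp) (j : Fin 3) :
    F j (X.map (MulAut.conj k).toMonoidHom) = F j X := by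
  have h := F_conj ⟨k, K_L hk⟩ X j
  rwa [sigma_K (x := ⟨k, K_L hk⟩) hk, Equiv.Perm.one_apply] at h

theorem thirteen_distinct {a b : Fin 13} {k : pres.Grp} (hk : k ∈ K)
    (h : (Yk a).map (MulAut.conj k).toMonoidHom = Yk b) : a = b :=
  tr_inj fun j => by rw [← F_Yk, ← F_Yk, ← h, F_conj_K hk]

theorem card_K : Nat.card K = 3 ^ 12 * 9318400 := by
  rw [Nat.card_congr M23Rel.Tri.kEq.toEquiv, M23Rel.Tri.gOm_facts.2.1]
  norm_num

theorem thirteen_complete (X : Subgroup pres.Grp) (hX : X ≤ K) (h3 : Nat.card X = 3) :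
    ∃ c : Fin 13, ∃ k ∈ K, X.map (MulAut.conj k).toMonoidHom = Yk c := by
  haveI := order.1
  haveI : Fact (Nat.Prime 3) := ⟨Nat.prime_three⟩
  haveI : IsCyclic X := isCyclic_of_prime_card h3
  obtain ⟨x, hx⟩ := IsCyclic.exists_generator (α := X)
  have hXz : X = Subgroup.zpowers (x : pres.Grp) := by
    refine le_antisymm (fun y hy => ?_) (Subgroup.zpowers_le.mpr x.2)
    obtain ⟨n, hn⟩ := Subgroup.mem_zpowers_iff.mp (hx ⟨y, hy⟩)
    exact Subgroup.mem_zpowers_iff.mpr ⟨n, congrArg Subtype.val hn⟩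
  have hox : orderOf (x : pres.Grp) = 3 := by rw [← Nat.card_zpowers, ← hXz, h3]
  let P : Sylow 3 K := Sylow.ofCard ((Nl 0).subgroupOf K) (by
    rw [Nat.card_congr (Subgroup.subgroupOfEquivOfLe (Nl_le 0)).toEquiv, card_U, card_K,
      Nat.factorization_def _ Nat.prime_three, padicValNat.mul (by norm_num) (by norm_num), padicValNat.prime_pow,
      padicValNat.eq_zero_of_not_dvd (by norm_num), add_zero])
  let xk : K := ⟨x, hX x.2⟩
  have hp : IsPGroup 3 (Subgroup.zpowers xk) := by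
    refine IsPGroup.of_card (n := 1) ?_
    rw [Nat.card_zpowers, pow_one, ← hox, ← Subgroup.orderOf_coe]
  obtain ⟨S, hS⟩ := hp.exists_le_sylow
  obtain ⟨g, hg⟩ := MulAction.exists_smul_eq K S P
  have hmem : (g : pres.Grp) * x * (g : pres.Grp)⁻¹ ∈ Nl 0 := by
    have : g * xk * g⁻¹ ∈ ((g • S : Sylow 3 K) : Subgroup K) := by
      rw [Sylow.coe_subgroup_smul]
      exact ⟨xk, hS (Subgroup.mem_zpowers xk), rfl⟩
    rw [hg] at this
    exact this
  have hgood := nodes_good 3033 0 (by norm_num) le_rfl _ (by rw [root_ok.1]; exact hmem)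
  rw [root_ok.2, show nW [] = 1 from rfl, one_mul] at hgood
  rcases hgood (by rw [conj_pow, ← hox, pow_orderOf_eq_one]; group) with h1 | ⟨c, hc, k, hk, hcase⟩
  · rw [conj_eq_one_iff] at h1
    rw [h1, orderOf_one] at hox
    norm_num at hox
  refine ⟨⟨c, hc⟩, k * g, mul_mem hk g.2, ?_⟩
  rw [hXz, MonoidHom.map_zpowers]
  simp only [MulEquiv.coe_toMonoidHom, MulAut.conj_apply]
  rw [show k * (g : pres.Grp) * x * (k * (g : pres.Grp))⁻¹ =
    k * ((g : pres.Grp) * x * (g : pres.Grp)⁻¹) * k⁻¹ by group]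
  rcases hcase with e | e
  · rw [e]; rfl
  · rw [e, Yk]
    refine le_antisymm (Subgroup.zpowers_le.mpr (mul_mem (Subgroup.mem_zpowers _) (Subgroup.mem_zpowers _)))
      (Subgroup.zpowers_le.mpr (Subgroup.mem_zpowers_iff.mpr ⟨2, ?_⟩))
    have h3' := (rep_spec ⟨c, hc⟩).2.1
    show (rep c * rep c) ^ (2 : ℤ) = rep c
    rw [show (rep c * rep c) ^ (2 : ℤ) = rep c ^ 3 * rep c by
      simp only [zpow_two, pow_succ, pow_zero, one_mul, mul_assoc]]
    rw [show rep c ^ 3 = 1 from h3', one_mul]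

/-- representatives of the orbits under the permutations of the sets -/
def seven : Fin 7 → Fin 13 := ![0, 1, 2, 3, 7, 11, 12]

theorem seven_facts : (∀ q q' : Fin 7, ∀ p : Equiv.Perm (Fin 3), (∀ j, tr (seven q') (p j) = tr (seven q) j) → q = q') ∧
    (∀ i : Fin 13, ∃ q : Fin 7, ∃ p : Equiv.Perm (Fin 3), ∀ j, tr (seven q) (p j) = tr i j) := by
  decide +kernel

theorem seven_distinct {q q' : Fin 7} {x : pres.Grp} (hx : x ∈ L)
    (h : (Yk (seven q)).map (MulAut.conj x).toMonoidHom = Yk (seven q')) : q = q' :=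
  seven_facts.1 q q' (M23Rel.Tri.sigma ⟨x, hx⟩) fun j => by rw [← F_Yk, ← h, ← F_Yk]; exact F_conj ⟨x, hx⟩ _ j

theorem seven_complete (X : Subgroup pres.Grp) (hX : X ≤ K) (h3 : Nat.card X = 3) :
    ∃ q : Fin 7, ∃ x ∈ L, X.map (MulAut.conj x).toMonoidHom = Yk (seven q) := by
  obtain ⟨i, k, hk, hi⟩ := thirteen_complete X hX h3
  obtain ⟨q, p, hp⟩ := seven_facts.2 i
  obtain ⟨x, hx⟩ := sigma_surj p
  set X' := X.map (MulAut.conj (x : pres.Grp)).toMonoidHom with hX'
  have hX'K : X' ≤ K := by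
    rintro _ ⟨y, hy, rfl⟩
    exact (Subgroup.mem_normalizer_iff.mp (L_norm x.2) y).mp (hX hy)
  have h3' : Nat.card X' = 3 := by
    rw [hX', ← Nat.card_congr (Subgroup.equivMapOfInjective _ _ (MulAut.conj (x : pres.Grp)).injective).toEquiv, h3]
  obtain ⟨i', k', hk', hi'⟩ := thirteen_complete X' hX'K h3'
  have hii : i' = seven q := tr_inj fun j => by
    obtain ⟨j, rfl⟩ := p.surjective j
    rw [hp, ← F_Yk, ← F_Yk, ← hi', ← hi, F_conj_K hk', F_conj_K hk, hX', ← hx]
    exact F_conj x X j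
  refine ⟨q, k' * x, mul_mem (K_L hk') x.2, ?_⟩
  rw [← hii, ← hi', hX', Subgroup.map_map]
  congr 1
  ext y
  simp [mul_assoc]

end Cfsg.Agent.Spor.OEight
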