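import Cfsg.Agent.Lib.Spor.OEightData
import Cfsg.Agent.Lib.Spor.M23RelTriDefs

/-!
Checks for a Sylow three-subgroup of the orthogonal group of plus type in dimension eight over three elements,
read on three sets of 1080 members of Fi23.
-/

set_option autoImplicit false
set_option maxRecDepth 100000

namespace Cfsg.Agent.Spor.OEight

open Cfsg.Agent.Spor.CC Cfsg.Agent.Spor.Fi23Cert Cfsg.Agent.Spor.M23Rel.Cyc
open Cfsg.Agent.Spor.M23Rel.Tri (fp tWd)

/-- entry of the table of a member -/
noncomputable def mT (s i : ℕ) : ℕ := fld (Dat.mTabs.getD s 0) 16 i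

/-- entry of the table of a root element -/
noncomputable def rT (l i : ℕ) : ℕ := fld (Dat.rTabs.getD l 0) 16 i

/-- a member -/
def mem (s : ℕ) : ℕ := Dat.mem.getD s 0

/-- one entry of a generating member -/
noncomputable def genOK (s i : ℕ) : Bool :=
  Nat.blt (mT s i) 3240 && Nat.beq (e10 (tWd (mem s)) (fp i)) (fp (mT s i))

/-- one entry of a generating member on the first set -/
noncomputable def lowOK (s i : ℕ) : Bool := Nat.beq (mT s i) (M23Rel.Tri.Dat.grows s i)

/-- the shape of a step to another member -/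
noncomputable def mShape (j : ℕ) : Bool :=
  Nat.blt (Dat.mops.getD j (0, 0)).1 9 && Nat.blt (Dat.mops.getD j (0, 0)).2 (9 + j) &&
    Nat.beq (mem (9 + j)) (mT (Dat.mops.getD j (0, 0)).1 (mem (Dat.mops.getD j (0, 0)).2))

/-- one entry of a member -/
noncomputable def mopVal (j i : ℕ) : Bool :=
  Nat.blt (mT (9 + j) i) 3240 &&
    Nat.beq (mT (9 + j) i) (mT (Dat.mops.getD j (0, 0)).1
      (mT (Dat.mops.getD j (0, 0)).2 (mT (Dat.mops.getD j (0, 0)).1 i)))

/-- one entry of a root element -/
noncomputable def rVal (l i : ℕ) : Bool :=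
  Nat.blt (rT l i) 3240 && Nat.beq (rT l i) ((Dat.rw4.getD l []).foldr mT i)

/-- value of a word in the root elements -/
noncomputable def ev (w : List ℕ) (i : ℕ) : ℕ := w.foldr rT i

/-- a base -/
def base : List ℕ := [0, 3, 40, 68, 342, 72, 350, 74, 6]

/-- equality of words -/
noncomputable def eqR (u v : List ℕ) : Bool :=
  u.all (fun s => Nat.blt s 16) && v.all (fun s => Nat.blt s 16) &&
    base.all fun b => Nat.beq (ev u b) (ev v b)

/-- letters of the series from one level on -/
noncomputable def fromLev (i : ℕ) (r : List ℕ) : Bool := r.all fun k => Nat.ble i k && Nat.blt k 12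

/-- a conjugate in the series -/
noncomputable def conjOK (g l : ℕ) : Bool :=
  fromLev l ((Dat.conjW.getD g []).getD l []) &&
    eqR [g, l] ((Dat.conjW.getD g []).getD l [] ++ [g])

/-- one point of the stability of a separating set -/
noncomputable def sepVal (l i : ℕ) : Bool :=
  !(Nat.testBit (Dat.seps.getD l 0) i) ||
    (List.range 12).all fun k => Nat.ble k l || Nat.testBit (Dat.seps.getD l 0) (rT k i)

/-- one separating set -/
noncomputable def sepOK (l : ℕ) : Bool :=
  Nat.blt (Dat.sepW.getD l 0) 3240 && Nat.testBit (Dat.seps.getD l 0) (Dat.sepW.getD l 0) &&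
    !(Nat.testBit (Dat.seps.getD l 0) (rT l (Dat.sepW.getD l 0))) && rangeOK (sepVal l) 0 3240

/-- a node -/
def node (k : ℕ) : ℕ × List ℕ × Dat.Kind := (Dat.blocks.getD (k / 100) []).getD (k % 100) (0, [], .one)

/-- a child node -/
noncomputable def childOK (k c i : ℕ) (r : List ℕ) : Bool :=
  Nat.blt k c && Nat.blt c 3033 && Nat.beq (node c).1 i && decide ((node c).2.1 = r)

/-- a representative -/
def repW (c : ℕ) : List ℕ := Dat.repW.getD c []

/-- one node -/
noncomputable def nodeOK (k : ℕ) : Bool :=
  fromLev 0 (node k).2.1 && Nat.ble (node k).1 12 &&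
  match (node k).2.2 with
  | .prune l e rest => Nat.blt l (node k).1 && (Nat.beq e 1 || Nat.beq e 2) && fromLev (l + 1) rest &&
      eqR ((node k).2.1 ++ (node k).2.1 ++ (node k).2.1) (List.replicate e l ++ rest)
  | .one => Nat.beq (node k).1 12 && decide ((node k).2.1 = [])
  | .leaf c s g => Nat.beq (node k).1 12 && Nat.blt c 13 && g.all (fun x => Nat.blt x 16) &&
      bif Nat.beq s 0 then eqR (g ++ (node k).2.1) (repW c ++ g)
      else eqR (g ++ (node k).2.1) (repW c ++ repW c ++ g)
  | .split a b c => Nat.blt (node k).1 12 && childOK k a ((node k).1 + 1) (node k).2.1 &&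
      childOK k b ((node k).1 + 1) ((node k).2.1 ++ [(node k).1]) &&
      childOK k c ((node k).1 + 1) ((node k).2.1 ++ [(node k).1, (node k).1])
  | .fuse ch x1 m1 x2 m2 => Nat.blt (node k).1 12 && childOK k ch ((node k).1 + 1) (node k).2.1 &&
      fromLev 0 x1 && fromLev 0 x2 && fromLev ((node k).1 + 1) m1 && fromLev ((node k).1 + 1) m2 &&
      eqR (x1 ++ (node k).2.1) ((node k).2.1 ++ [(node k).1] ++ m1 ++ x1) &&
      eqR (x2 ++ (node k).2.1) ((node k).2.1 ++ [(node k).1, (node k).1] ++ m2 ++ x2)

/-- the number of members of one set fixed by a representative -/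
noncomputable def fixCount (c j : ℕ) : ℕ :=
  ((Finset.range 1080).filter fun i => Nat.beq (ev (repW c) (1080 * j + i)) (1080 * j + i) = true).card

/-- one representative -/
noncomputable def repOK (c : ℕ) : Bool :=
  fromLev 0 (repW c) && eqR (repW c ++ repW c ++ repW c) [] &&
    base.any (fun b => !(Nat.beq (ev (repW c) b) b)) &&
    Nat.beq (fixCount c 0) ((Dat.trip.getD c []).getD 0 0) &&
    Nat.beq (fixCount c 1) ((Dat.trip.getD c []).getD 1 0) &&
    Nat.beq (fixCount c 2) ((Dat.trip.getD c []).getD 2 0)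

end Cfsg.Agent.Spor.OEight
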