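import Cfsg.Agent.Lib.Spor.M23RelTriMain
import Cfsg.Agent.Lib.Spor.OEightGen0
import Cfsg.Agent.Lib.Spor.OEightGen1
import Cfsg.Agent.Lib.Spor.OEightGen2
import Cfsg.Agent.Lib.Spor.OEightGen3
import Cfsg.Agent.Lib.Spor.OEightGen4
import Cfsg.Agent.Lib.Spor.OEightGen5
import Cfsg.Agent.Lib.Spor.OEightGen6
import Cfsg.Agent.Lib.Spor.OEightGen7
import Cfsg.Agent.Lib.Spor.OEightGen8
import Cfsg.Agent.Lib.Spor.OEightOpsA
import Cfsg.Agent.Lib.Spor.OEightOpsB
import Cfsg.Agent.Lib.Spor.OEightOpsC
import Cfsg.Agent.Lib.Spor.OEightSmall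

/-!
Root elements of the orthogonal group of plus type in dimension eight over three elements inside Fi23, with their
tables on the three sets of members.
-/

set_option autoImplicit false
set_option maxRecDepth 100000
set_option linter.unusedSectionVars false

namespace Cfsg.Agent.Spor.OEight

open Cfsg.Agent.Spor.CC Cfsg.Agent.Spor.Fi23Cert Cfsg.Agent.Spor.M23Rel.Cyc
open Cfsg.Agent.Spor.M23Rel.Tri (fp tWd T K L T_conj T_inj T_inv even_K cent_trivial K_L)

/-- an element with the given table on the three sets -/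
def Match (g : pres.Grp) (f : ℕ → ℕ) : Prop := ∀ i, i < 3240 → f i < 3240 ∧ g * T i * g⁻¹ = T (f i)

theorem Match.comp {g h : pres.Grp} {f f' : ℕ → ℕ} (hg : Match g f) (hh : Match h f') :
    Match (g * h) (fun i => f (f' i)) := fun i hi => by
  obtain ⟨b1, b2⟩ := hh i hi
  obtain ⟨a1, a2⟩ := hg _ b1
  exact ⟨a1, by rw [← a2, ← b2]; group⟩

theorem match_one : Match 1 (fun i => i) := fun i hi => ⟨hi, by simp⟩

theorem mem_lt {s : ℕ} (hs : s < 130) : mem s < 1080 := shape_ok.2.1 s hs

theorem gen_val (s i : ℕ) (hs : s < 9) (h1 : 1080 ≤ i) (hi : i < 3240) : genOK s i = true := by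
  interval_cases s
  exacts [all_range gen0 h1 (by omega), all_range gen1 h1 (by omega), all_range gen2 h1 (by omega), all_range gen3 h1 (by omega), all_range gen4 h1 (by omega), all_range gen5 h1 (by omega), all_range gen6 h1 (by omega), all_range gen7 h1 (by omega), all_range gen8 h1 (by omega)]

theorem mop_val (j i : ℕ) (hj : j < 121) (hi : i < 3240) : mopVal j i = true := by
  have h : rangeOK (mopVal j) 0 3240 = true := by
    by_cases h : j < 61
    · exact mopsA j h
    · have := mopsB (j - 61) (by omega)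
      rwa [Nat.add_sub_cancel' (by omega)] at this
  exact all_range (p := mopVal j) h (Nat.zero_le _) (by omega)

theorem match_mem : ∀ s, s < 130 → Match (T (mem s)) (mT s) := by
  intro s
  induction s using Nat.strong_induction_on with
  | _ s ih =>
    intro hs i hi
    by_cases h9 : s < 9
    · by_cases hlow : i < 1080
      · have h := all_range (p := lowOK s) (lows_ok s h9) (u := i) (Nat.zero_le _) (by omega)
        simp only [lowOK] at h
        rw [Nat.eq_of_beq_eq_true h]
        refine ⟨lt_of_lt_of_le (M23Rel.Tri.grows_spec h9 hlow).1 (by norm_num), ?_⟩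
        rw [shape_ok.2.2.1 s h9]
        exact M23Rel.Tri.act_gen h9 hlow
      have h := gen_val s i h9 (not_lt.mp hlow) hi
      simp only [genOK, Bool.and_eq_true] at h
      exact ⟨Nat.le_of_ble_eq_true h.1, T_conj (lt_of_lt_of_le (mem_lt hs) (by norm_num)) hi
        (Nat.le_of_ble_eq_true h.1) (Nat.eq_of_beq_eq_true h.2)⟩
    · obtain ⟨j, rfl⟩ : ∃ j, s = 9 + j := ⟨s - 9, by omega⟩
      have hsh := shape_ok.1 j (by omega)
      simp only [mShape, Bool.and_eq_true] at hsh
      obtain ⟨⟨hk, ha⟩, he⟩ := hsh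
      have hk' := Nat.le_of_ble_eq_true hk
      have ha' := Nat.le_of_ble_eq_true ha
      have he' := Nat.eq_of_beq_eq_true he
      set k := (Dat.mops.getD j (0, 0)).1 with hkdef
      set a := (Dat.mops.getD j (0, 0)).2 with hadef
      have hmk := ih k (show k < 9 + j by omega) (show k < 130 by omega)
      have hma := ih a ha' (show a < 130 by omega)
      have hinv : (T (mem k))⁻¹ = T (mem k) :=
        T_inv (lt_of_lt_of_le (mem_lt (show k < 130 by omega)) (by norm_num))
      have hT : T (mem k) * T (mem a) * T (mem k) = T (mem (9 + j)) := by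
        have h1 := (hmk (mem a) (lt_of_lt_of_le (mem_lt (show a < 130 by omega)) (by norm_num))).2
        rw [hinv] at h1
        rw [h1, he']
      have hv := mop_val j i (by omega) hi
      simp only [mopVal, Bool.and_eq_true] at hv
      refine ⟨Nat.le_of_ble_eq_true hv.1, ?_⟩
      obtain ⟨-, h2⟩ := ((hmk.comp hma).comp hmk) i hi
      rw [hT] at h2
      rw [h2, Nat.eq_of_beq_eq_true hv.2]

/-- the element of a word in the members -/
noncomputable def mW (w : List ℕ) : pres.Grp := (w.map fun s => T (mem s)).prod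

theorem match_mW : ∀ w : List ℕ, (∀ s ∈ w, s < 130) → Match (mW w) (fun i => w.foldr mT i)
  | [], _ => match_one
  | s :: w, h => by
    have := (match_mem s (h s (List.mem_cons_self ..))).comp
      (match_mW w fun x hx => h x (List.mem_cons_of_mem _ hx))
    simpa [mW] using this

/-- a root element -/
noncomputable def R (l : ℕ) : pres.Grp := mW (Dat.rw4.getD l [])

theorem R_spec {l : ℕ} (hl : l < 16) : R l ∈ K ∧ Match (R l) (rT l) := by
  obtain ⟨h4, hw⟩ := shape_ok.2.2.2 l hl
  constructor
  · have e : R l = (((Dat.rw4.getD l []).map mem).map T).prod := by rw [List.map_map]; rfl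
    rw [e]
    refine even_K _ (by rw [List.length_map, h4]; decide) fun i hi => ?_
    obtain ⟨s, hs, rfl⟩ := List.mem_map.mp hi
    exact mem_lt (hw s hs)
  · intro i hi
    obtain ⟨-, h2⟩ := match_mW _ hw i hi
    have hv := all_range (p := rVal l) (rops l hl) (u := i) (Nat.zero_le _) (by omega)
    simp only [rVal, Bool.and_eq_true] at hv
    refine ⟨Nat.le_of_ble_eq_true hv.1, ?_⟩
    rw [Nat.eq_of_beq_eq_true hv.2]
    exact h2

/-- the element of a word in the root elements -/
noncomputable def nW (w : List ℕ) : pres.Grp := (w.map R).prod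

theorem nW_app (a b : List ℕ) : nW (a ++ b) = nW a * nW b := by simp [nW]

theorem nW_mem {w : List ℕ} (h : ∀ s ∈ w, s < 16) : nW w ∈ K :=
  list_prod_mem fun _ hg => by obtain ⟨l, hl, rfl⟩ := List.mem_map.mp hg; exact (R_spec (h l hl)).1

theorem match_word : ∀ w : List ℕ, (∀ s ∈ w, s < 16) → Match (nW w) (ev w)
  | [], _ => match_one
  | s :: w, h => by
    have := (R_spec (h s (List.mem_cons_self ..))).2.comp
      (match_word w fun x hx => h x (List.mem_cons_of_mem _ hx))
    simp only [nW, List.map_cons, List.prod_cons, ev] at this ⊢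
    exact this

theorem match_unique {g h : pres.Grp} {f f' : ℕ → ℕ} (hgK : g ∈ K) (hhK : h ∈ K) (hg : Match g f) (hh : Match h f')
    (e : ∀ b ∈ base, f b = f' b) : g = h := by
  have hb : ∀ k, k < 9 → Commute (h⁻¹ * g) (T (base.getD k 0)) := fun k hk => by
    have hm : base.getD k 0 ∈ base := by
      have hl : k < base.length := hk
      rw [List.getD_eq_getElem _ _ hl]
      exact List.getElem_mem hl
    have hlt : base.getD k 0 < 3240 := by
      rw [← shape_ok.2.2.1 k hk]; exact lt_of_lt_of_le (mem_lt (by omega)) (by norm_num)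
    have e1 := (hg _ hlt).2
    rw [e _ hm, ← (hh _ hlt).2] at e1
    refine mul_inv_eq_iff_eq_mul.mp ?_
    calc h⁻¹ * g * T (base.getD k 0) * (h⁻¹ * g)⁻¹
        = h⁻¹ * (g * T (base.getD k 0) * g⁻¹) * h := by group
      _ = h⁻¹ * (h * T (base.getD k 0) * h⁻¹) * h := by rw [e1]
      _ = T (base.getD k 0) := by group
  have hK : h⁻¹ * g ∈ K := mul_mem (inv_mem hhK) hgK
  have hle : K ≤ Subgroup.centralizer ({h⁻¹ * g} : Set pres.Grp) := by
    rw [K, Subgroup.closure_le]
    rintro _ ⟨k, hk, rfl⟩
    have hbase : ∀ k, M23Rel.Tri.Dat.gk.getD k 0 = base.getD k 0 := fun k => rfl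
    rw [SetLike.mem_coe, Subgroup.mem_centralizer_singleton_iff, hbase, hbase]
    exact ((hb 0 (by norm_num)).mul_right (hb k hk)).eq.symm
  have := cent_trivial (K_L hK) fun k hk => (Subgroup.mem_centralizer_singleton_iff.mp (hle hk)).symm
  exact (inv_mul_eq_one.mp this).symm

theorem eqR_sound {u v : List ℕ} (h : eqR u v = true) : nW u = nW v := by
  simp only [eqR, Bool.and_eq_true, List.all_eq_true] at h
  have hu := fun s hs => Nat.le_of_ble_eq_true (h.1.1 s hs)
  have hv := fun s hs => Nat.le_of_ble_eq_true (h.1.2 s hs)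
  exact match_unique (nW_mem hu) (nW_mem hv) (match_word u hu) (match_word v hv)
    fun b hb => Nat.eq_of_beq_eq_true (h.2 b hb)

end Cfsg.Agent.Spor.OEight
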