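import Cfsg.Agent.Lib.Spor.OEightDefs

/-!
Checks for a Sylow three-subgroup of the orthogonal group in Fi23 (nodes, part 1).
-/

set_option autoImplicit false
set_option maxRecDepth 100000
set_option Elab.async false

namespace Cfsg.Agent.Spor.OEight

open Cfsg.Agent.Spor.CC

theorem nodes1 : ∀ k < 500, nodeOK (500 + k) = true := by decide +kernel

end Cfsg.Agent.Spor.OEight
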