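import Cfsg.Agent.Lib.Spor.OEightDefs

/-!
Checks for a Sylow three-subgroup of the orthogonal group in Fi23 (series and representatives).
-/

set_option autoImplicit false
set_option maxRecDepth 100000
set_option Elab.async false

namespace Cfsg.Agent.Spor.OEight

open Cfsg.Agent.Spor.CC

theorem shape_ok : (∀ j < 121, mShape j = true) ∧ (∀ s < 130, mem s < 1080) ∧ (∀ s < 9, mem s = base.getD s 0) ∧
    (∀ l < 16, (Dat.rw4.getD l []).length = 4 ∧ ∀ s ∈ Dat.rw4.getD l [], s < 130) := by decide +kernel

theorem lows_ok : ∀ s < 9, rangeOK (lowOK s) 0 1080 = true := by decide +kernel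

theorem conjs_ok : ∀ g < 12, ∀ l < 12, conjOK g l = true := by decide +kernel

theorem cubes_ok : ∀ l < 12, eqR [l, l, l] [] = true := by decide +kernel

theorem reps_ok : ∀ c < 13, repOK c = true := by decide +kernel

theorem trips_ok : ∀ a < 13, ∀ b < 13, ([0, 1, 2].all fun j =>
    Nat.beq ((Dat.trip.getD a []).getD j 0) ((Dat.trip.getD b []).getD j 0)) = true → a = b := by decide +kernel

theorem root_ok : (node 0).1 = 0 ∧ (node 0).2.1 = [] := by decide +kernel

end Cfsg.Agent.Spor.OEight
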