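import Cfsg.Agent.Lib.Spor.OEightClasses
import Cfsg.Agent.Lib.Spor.PlusEightExt

/-!
The classes of subgroups of order three transferred to the orthogonal group and to its extension by the symmetric
group of degree three.
-/

set_option autoImplicit false
set_option maxRecDepth 100000
set_option linter.unusedSectionVars false

namespace Cfsg.Agent.Spor.OEight

open Cfsg.Agent.Spor.CC Cfsg.Agent.Spor.Fi23Cert
open Cfsg.Agent.Spor.M23Rel.Tri (K L K_L K_equiv K_simple K_card_ne_prime cent_trivial gfit_of_simple sigma_ker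
 sigma_surj L_norm finite_grp)

/-- classes of subgroups of order three transferred along an injective homomorphism -/
theorem transfer {A B : Type*} [Group A] [Group B] {n : ℕ} (φ : A →* B) (hφ : Function.Injective φ)
    (S : Subgroup A) (Y : Fin n → Subgroup B) (hY : ∀ i, Y i ≤ S.map φ ∧ Nat.card (Y i) = 3)
    (hd : ∀ i j, ∀ g : A, (Y i).map (MulAut.conj (φ g)).toMonoidHom = Y j → i = j)
    (hc : ∀ X : Subgroup B, X ≤ S.map φ → Nat.card X = 3 → ∃ i, ∃ g : A, X.map (MulAut.conj (φ g)).toMonoidHom = Y i) :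
    (∀ i, (Y i).comap φ ≤ S ∧ Nat.card ((Y i).comap φ) = 3) ∧
    (∀ i j, (∃ g : A, ((Y i).comap φ).map (MulAut.conj g).toMonoidHom = (Y j).comap φ) → i = j) ∧
    ∀ X : Subgroup A, X ≤ S → Nat.card X = 3 → ∃ i, ∃ g : A, X.map (MulAut.conj g).toMonoidHom = (Y i).comap φ := by
  have hcomm : ∀ (Z : Subgroup A) (g : A), (Z.map (MulAut.conj g).toMonoidHom).map φ =
      (Z.map φ).map (MulAut.conj (φ g)).toMonoidHom := fun Z g => by
    rw [Subgroup.map_map, Subgroup.map_map]
    congr 1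
    ext z
    simp
  have hback : ∀ i, ((Y i).comap φ).map φ = Y i := fun i =>
    Subgroup.map_comap_eq_self ((hY i).1.trans (Subgroup.map_le_range φ S))
  refine ⟨fun i => ⟨fun a ha => ?_, ?_⟩, ?_, ?_⟩
  · obtain ⟨s, hs, e⟩ := (hY i).1 (Subgroup.mem_comap.mp ha)
    rwa [← hφ e]
  · rw [Nat.card_congr (Subgroup.equivMapOfInjective _ φ hφ).toEquiv, hback, (hY i).2]
  · rintro i j ⟨g, hg⟩
    refine hd i j g ?_
    rw [← hback i, ← hback j, ← hg, hcomm]
  · intro X hX h3
    obtain ⟨i, g, hg⟩ := hc (X.map φ) (Subgroup.map_mono hX) (by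
      rw [← Nat.card_congr (Subgroup.equivMapOfInjective _ φ hφ).toEquiv, h3])
    refine ⟨i, g, Subgroup.map_injective hφ ?_⟩
    rw [hcomm, hg, hback]

theorem pomega_thirteen : ∃ Y : Fin 13 → Subgroup (Cfsg.POmega (ZMod 3) (Cfsg.quadFormPlus 4 (ZMod 3))),
    (∀ i, Nat.card (Y i) = 3) ∧
    (∀ i j, (∃ g : Cfsg.POmega (ZMod 3) (Cfsg.quadFormPlus 4 (ZMod 3)),
      (Y i).map (MulAut.conj g).toMonoidHom = Y j) → i = j) ∧
    (∀ X : Subgroup (Cfsg.POmega (ZMod 3) (Cfsg.quadFormPlus 4 (ZMod 3))), Nat.card X = 3 →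
      ∃ i, ∃ g : Cfsg.POmega (ZMod 3) (Cfsg.quadFormPlus 4 (ZMod 3)),
        X.map (MulAut.conj g).toMonoidHom = Y i) := by
  obtain ⟨e⟩ := K_equiv
  have htop : (⊤ : Subgroup (Cfsg.POmega (ZMod 3) M23Rel.Tri.q8)).map (K.subtype.comp e.symm.toMonoidHom) = K := by
    rw [← Subgroup.map_map, Subgroup.map_top_of_surjective _ e.symm.surjective, ← MonoidHom.range_eq_map,
      Subgroup.range_subtype]
  obtain ⟨h1, h2, h3⟩ := transfer (K.subtype.comp e.symm.toMonoidHom) (K.subtype_injective.comp e.symm.injective) ⊤ Yk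
    (fun i => ⟨by rw [htop]; exact Yk_le i, card_Yk i⟩)
    (fun i j g h => thirteen_distinct (e.symm g).2 h)
    (fun X hX h3 => by
      rw [htop] at hX
      obtain ⟨c, k, hk, h⟩ := thirteen_complete X hX h3
      exact ⟨c, e ⟨k, hk⟩, by simpa using h⟩)
  exact ⟨_, fun i => (h1 i).2, h2, fun X => h3 X le_top⟩

theorem model_gfit : Cfsg.generalizedFittingSubgroup L = K.subgroupOf L ∧
    Nonempty (↥(K.subgroupOf L) ≃* Cfsg.POmega (ZMod 3) (Cfsg.quadFormPlus 4 (ZMod 3))) := by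
  haveI := finite_grp
  haveI : IsSimpleGroup K := K_simple
  haveI : (K.subgroupOf L).Normal := by rw [← sigma_ker]; infer_instance
  let η : ↥(K.subgroupOf L) ≃* K := Subgroup.subgroupOfEquivOfLe K_L
  refine ⟨gfit_of_simple _ η.isSimpleGroup (by rw [Nat.card_congr η.toEquiv]; exact K_card_ne_prime) ?_,
    K_equiv.map fun q => η.trans q⟩
  rw [eq_bot_iff]
  intro y hy
  rw [Subgroup.mem_bot]
  exact Subtype.ext (cent_trivial y.2 fun k hk =>
    (congrArg Subtype.val (Subgroup.mem_centralizer_iff.mp hy ⟨k, K_L hk⟩ hk)).symm)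

theorem gfit_of_iso {A B : Type*} [Group A] [Group B] [Finite A] [Finite B] (θ : A ≃* B) (N : Subgroup A) [N.Normal]
    (hs : IsSimpleGroup N) (hp : ¬ (Nat.card N).Prime) (hc : Subgroup.centralizer (N : Set A) = ⊥) :
    Cfsg.generalizedFittingSubgroup B = N.map θ.toMonoidHom := by
  haveI := hs
  haveI : (N.map θ.toMonoidHom).Normal := Subgroup.Normal.map inferInstance _ θ.surjective
  refine gfit_of_simple _ (θ.subgroupMap N).symm.isSimpleGroup
    (fun h => hp (by rwa [Nat.card_congr (θ.subgroupMap N).toEquiv])) ?_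
  rw [eq_bot_iff]
  intro y hy
  have : θ.symm y ∈ Subgroup.centralizer (N : Set A) := Subgroup.mem_centralizer_iff.mpr fun n hn => by
    apply θ.injective
    rw [map_mul, map_mul, θ.apply_symm_apply]
    exact Subgroup.mem_centralizer_iff.mp hy (θ n) ⟨n, hn, rfl⟩
  rw [hc, Subgroup.mem_bot] at this
  rw [Subgroup.mem_bot, ← θ.apply_symm_apply y, this, map_one]

universe u

theorem ext_seven {G : Type u} [Group G] [Finite G]
    (hF : Nonempty (↥(Cfsg.generalizedFittingSubgroup G) ≃* Cfsg.POmega (ZMod 3) (Cfsg.quadFormPlus 4 (ZMod 3))))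
    [(Cfsg.generalizedFittingSubgroup G).Normal]
    (hq : Nonempty (G ⧸ Cfsg.generalizedFittingSubgroup G ≃* Equiv.Perm (Fin 3))) :
    ∃ Y : Fin 7 → Subgroup G, (∀ i, Y i ≤ Cfsg.generalizedFittingSubgroup G ∧ Nat.card (Y i) = 3) ∧
      (∀ i j, (∃ g : G, (Y i).map (MulAut.conj g).toMonoidHom = Y j) → i = j) ∧
      ∀ X : Subgroup G, X ≤ Cfsg.generalizedFittingSubgroup G → Nat.card X = 3 →
        ∃ i, ∃ g : G, X.map (MulAut.conj g).toMonoidHom = Y i := by
  haveI := finite_grp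
  obtain ⟨hg, hiso⟩ := model_gfit
  haveI : (Cfsg.generalizedFittingSubgroup L).Normal := by rw [hg, ← sigma_ker]; infer_instance
  obtain ⟨θ⟩ := PlusEightExt.unique (G := L) (G' := G) (by rw [hg]; exact hiso) hF
    ⟨(QuotientGroup.quotientMulEquivOfEq (hg.trans sigma_ker.symm)).trans
      (QuotientGroup.quotientKerEquivOfSurjective M23Rel.Tri.sigma sigma_surj)⟩ hq
  haveI : IsSimpleGroup K := K_simple
  haveI : (K.subgroupOf L).Normal := by rw [← sigma_ker]; infer_instance
  have hcent : Subgroup.centralizer ((K.subgroupOf L : Subgroup L) : Set L) = ⊥ := by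
    rw [eq_bot_iff]
    intro y hy
    rw [Subgroup.mem_bot]
    exact Subtype.ext (cent_trivial y.2 fun k hk =>
      (congrArg Subtype.val (Subgroup.mem_centralizer_iff.mp hy ⟨k, K_L hk⟩ hk)).symm)
  have hgG := gfit_of_iso θ (K.subgroupOf L) (Subgroup.subgroupOfEquivOfLe K_L).isSimpleGroup
    (by rw [Nat.card_congr (Subgroup.subgroupOfEquivOfLe K_L).toEquiv]; exact K_card_ne_prime) hcent
  let φ : G →* pres.Grp := L.subtype.comp θ.symm.toMonoidHom
  have hφ : Function.Injective φ := L.subtype_injective.comp θ.symm.injective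
  have hS : (Cfsg.generalizedFittingSubgroup G).map φ = K := by
    rw [hgG]
    ext z
    constructor
    · rintro ⟨_, ⟨w, hw, rfl⟩, rfl⟩
      show ((θ.symm (θ w) : L) : pres.Grp) ∈ K
      rw [θ.symm_apply_apply]
      exact hw
    · intro hz
      exact ⟨θ ⟨z, K_L hz⟩, ⟨_, hz, rfl⟩, congrArg Subtype.val (θ.symm_apply_apply _)⟩
  exact ⟨_, transfer φ hφ _ (fun q => Yk (seven q))
    (fun q => ⟨by rw [hS]; exact Yk_le _, card_Yk _⟩)
    (fun i j g h => seven_distinct (θ.symm g).2 h)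
    (fun X hX h3 => by
      rw [hS] at hX
      obtain ⟨q, x, hx, h⟩ := seven_complete X hX h3
      refine ⟨q, θ ⟨x, hx⟩, ?_⟩
      show X.map (MulAut.conj ((θ.symm (θ ⟨x, hx⟩) : L) : pres.Grp)).toMonoidHom = _
      rw [θ.symm_apply_apply]
      exact h)⟩

end Cfsg.Agent.Spor.OEight
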