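import Cfsg.Agent.Lib.Spor.OEightMatch
import Cfsg.Agent.Lib.Spor.OEightSep
import Cfsg.Agent.Lib.Spor.OEightNodes0
import Cfsg.Agent.Lib.Spor.OEightNodes1
import Cfsg.Agent.Lib.Spor.OEightNodes2
import Cfsg.Agent.Lib.Spor.OEightNodes3
import Cfsg.Agent.Lib.Spor.OEightNodes4
import Cfsg.Agent.Lib.Spor.OEightNodes5
import Cfsg.Agent.Lib.JComp.Basic

/-!
Each element of order three of the orthogonal group of plus type in dimension eight over three elements, realized
inside Fi23, is conjugate to one of thirteen representatives or to the square of one.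
-/

set_option autoImplicit false
set_option maxRecDepth 100000
set_option linter.unusedSectionVars false

namespace Cfsg.Agent.Spor.OEight

open Cfsg.Agent.Spor.CC Cfsg.Agent.Spor.Fi23Cert Cfsg.Agent.Spor.M23Rel.Cyc
open Cfsg.Agent.Spor.M23Rel.Tri (T K L T_inj)

theorem fromLev_lt {l : ℕ} {r : List ℕ} (h : fromLev l r = true) : ∀ s ∈ r, l ≤ s ∧ s < 12 := by
  simp only [fromLev, List.all_eq_true, Bool.and_eq_true] at h
  exact fun s hs => ⟨Nat.le_of_ble_eq_true (h s hs).1, Nat.le_of_ble_eq_true (h s hs).2⟩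

/-- the series -/
noncomputable def Nl (l : ℕ) : Subgroup pres.Grp := Subgroup.closure {g | ∃ k, l ≤ k ∧ k < 12 ∧ g = R k}

theorem R_Nl {l k : ℕ} (h : l ≤ k) (hk : k < 12) : R k ∈ Nl l := Subgroup.subset_closure ⟨k, h, hk, rfl⟩

theorem nW_Nl {l : ℕ} {r : List ℕ} (h : fromLev l r = true) : nW r ∈ Nl l :=
  list_prod_mem fun g hg => by
    obtain ⟨k, hk, rfl⟩ := List.mem_map.mp hg
    exact R_Nl (fromLev_lt h k hk).1 (fromLev_lt h k hk).2

theorem Nl_anti {l m : ℕ} (h : l ≤ m) : Nl m ≤ Nl l :=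
  Subgroup.closure_mono fun g ⟨k, hk, hk', e⟩ => ⟨k, h.trans hk, hk', e⟩

theorem Nl_le (l : ℕ) : Nl l ≤ K :=
  (Subgroup.closure_le _).mpr fun g ⟨k, _, hk, e⟩ => e ▸ (R_spec (show k < 16 by omega)).1

theorem Nl0_norm (l : ℕ) : Nl 0 ≤ Subgroup.normalizer (Nl l : Set pres.Grp) := by
  haveI := order.1
  rw [Nl, Subgroup.closure_le]
  rintro _ ⟨g, -, hg, rfl⟩
  rw [SetLike.mem_coe, Subgroup.mem_normalizer_iff_map_conj_eq]
  refine Subgroup.eq_of_le_of_card_ge ?_ (le_of_eq (by
    rw [← Nat.card_congr (Subgroup.equivMapOfInjective _ _ (MulAut.conj _).injective).toEquiv]))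
  rw [Nl, MonoidHom.map_closure, Subgroup.closure_le]
  rintro _ ⟨_, ⟨k, hlk, hk, rfl⟩, rfl⟩
  have h := conjs_ok g hg k hk
  simp only [conjOK, Bool.and_eq_true] at h
  have e : R g * R k = nW ((Dat.conjW.getD g []).getD k []) * R g := by
    have := eqR_sound h.2
    rw [nW_app] at this
    simpa [nW] using this
  show R g * R k * (R g)⁻¹ ∈ Nl l
  rw [e, mul_inv_cancel_right]
  exact Nl_anti hlk (nW_Nl h.1)

theorem conj_Nl {l : ℕ} {p x : pres.Grp} (hp : p ∈ Nl 0) (hx : x ∈ Nl l) : p * x * p⁻¹ ∈ Nl l :=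
  (Subgroup.mem_normalizer_iff.mp (Nl0_norm l hp) x).mp hx

theorem conj_Nl' {l : ℕ} {p x : pres.Grp} (hp : p ∈ Nl 0) (hx : x ∈ Nl l) : p⁻¹ * x * p ∈ Nl l := by
  have := conj_Nl (inv_mem hp) hx
  rwa [inv_inv] at this

theorem R_cube {l : ℕ} (hl : l < 12) : R l ^ 3 = 1 := by
  have e := eqR_sound (cubes_ok l hl)
  simpa [nW, pow_succ, mul_assoc] using e

theorem cube_mem {l : ℕ} (hl : l < 12) : R l ^ 3 ∈ Nl (l + 1) := by
  rw [R_cube hl]; exact one_mem _

theorem step {l : ℕ} (hl : l < 12) {x : pres.Grp} (hx : x ∈ Nl l) :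
    ∃ j, j < 3 ∧ ∃ m ∈ Nl (l + 1), x = R l ^ j * m := by
  haveI := order.1
  have hle : Nl l ≤ Nl (l + 1) ⊔ Subgroup.zpowers (R l) := by
    rw [Nl, Subgroup.closure_le]
    rintro _ ⟨k, hlk, hk, rfl⟩
    rcases Nat.eq_or_lt_of_le hlk with rfl | h
    · exact Subgroup.mem_sup_right (Subgroup.mem_zpowers _)
    · exact Subgroup.mem_sup_left (R_Nl h hk)
  obtain ⟨k, hk, q, hq, rfl⟩ := (JComp.mem_sup_iff_mul
    ((Subgroup.zpowers_le.mpr (R_Nl (Nat.zero_le _) hl)).trans (Nl0_norm (l + 1)))).1 (hle hx)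
  obtain ⟨a, rfl⟩ := mem_powers_iff_mem_zpowers.mpr hq
  refine ⟨a % 3, Nat.mod_lt _ (by norm_num), (R l ^ 3) ^ (a / 3) * ((R l ^ a)⁻¹ * k * R l ^ a),
    mul_mem (pow_mem (cube_mem hl) _) (conj_Nl' (pow_mem (R_Nl (Nat.zero_le _) hl) _) hk), ?_⟩
  show k * R l ^ a = _
  rw [← mul_assoc, ← pow_mul, ← pow_add, Nat.mod_add_div, ← mul_assoc, ← mul_assoc, mul_inv_cancel, one_mul]

theorem not_next {l : ℕ} (hl : l < 12) : R l ∉ Nl (l + 1) := by
  haveI := order.1
  intro hn
  have h := seps_ok l hl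
  simp only [sepOK, Bool.and_eq_true] at h
  obtain ⟨⟨⟨hw, hbit⟩, hout⟩, hcl⟩ := h
  have hw' := Nat.le_of_ble_eq_true hw
  rw [Nl, ← Subgroup.mem_toSubmonoid, Subgroup.closure_toSubmonoid_of_finite] at hn
  have key : ∀ g ∈ Submonoid.closure {g | ∃ k, l + 1 ≤ k ∧ k < 12 ∧ g = R k}, ∀ i < 3240,
      Nat.testBit (Dat.seps.getD l 0) i = true →
        ∃ i' < 3240, g * T i * g⁻¹ = T i' ∧ Nat.testBit (Dat.seps.getD l 0) i' = true := by
    intro g hg
    induction hg using Submonoid.closure_induction with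
    | mem y hy =>
      obtain ⟨k, hlk, hk, rfl⟩ := hy
      intro i hi hb
      obtain ⟨h1, h2⟩ := (R_spec (show k < 16 by omega)).2 i hi
      refine ⟨_, h1, h2, ?_⟩
      have h3 := all_range (p := sepVal l) hcl (u := i) (Nat.zero_le _) (by omega)
      simp only [sepVal, hb, Bool.not_true, Bool.false_or, List.all_eq_true, Bool.or_eq_true] at h3
      exact (h3 k (List.mem_range.mpr hk)).resolve_left fun h => by have := Nat.le_of_ble_eq_true h; omega
    | one => intro i hi hb; exact ⟨i, hi, by simp, hb⟩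
    | mul a b _ _ iha ihb =>
      intro i hi hb
      obtain ⟨i', hi', e', hb'⟩ := ihb i hi hb
      obtain ⟨i'', hi'', e'', hb''⟩ := iha i' hi' hb'
      exact ⟨i'', hi'', by rw [← e'', ← e']; group, hb''⟩
  obtain ⟨i', hi', e', hb'⟩ := key _ hn _ hw' hbit
  obtain ⟨h1, h2⟩ := (R_spec (show l < 16 by omega)).2 _ hw'
  rw [T_inj h1 hi' (h2.symm.trans e'), hb'] at hout
  exact absurd hout (by simp)

theorem pow_not_next {l e : ℕ} (hl : l < 12) (he : e = 1 ∨ e = 2) : R l ^ e ∉ Nl (l + 1) := by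
  intro h
  apply not_next hl
  rcases he with rfl | rfl
  · rwa [pow_one] at h
  · have h4 : R l ^ 4 ∈ Nl (l + 1) := by rw [show (4 : ℕ) = 2 + 2 from rfl, pow_add]; exact mul_mem h h
    have e3 : R l = (R l ^ 3)⁻¹ * R l ^ 4 := by rw [pow_succ (R l) 3, inv_mul_cancel_left]
    rw [e3]
    exact mul_mem (inv_mem (cube_mem hl)) h4

theorem card_step {l : ℕ} (hl : l < 12) : Nat.card (Nl l) = 3 * Nat.card (Nl (l + 1)) := by
  haveI := order.1
  let f : Fin 3 × ↥(Nl (l + 1)) → ↥(Nl l) := fun p =>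
    ⟨R l ^ (p.1 : ℕ) * (p.2 : pres.Grp),
      mul_mem (pow_mem (R_Nl le_rfl hl) _) (Nl_anti (Nat.le_succ l) p.2.2)⟩
  have hf : Function.Bijective f := by
    constructor
    · rintro ⟨a, m⟩ ⟨b, m'⟩ h
      have e : R l ^ (a : ℕ) * (m : pres.Grp) = R l ^ (b : ℕ) * (m' : pres.Grp) := congrArg Subtype.val h
      have key : ∀ (a b : Fin 3) (m m' : ↥(Nl (l + 1))), (a : ℕ) < b →
          R l ^ (a : ℕ) * (m : pres.Grp) = R l ^ (b : ℕ) * (m' : pres.Grp) → False := by
        intro a b m m' hab e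
        obtain ⟨d, hd⟩ := Nat.exists_eq_add_of_lt hab
        rw [hd, add_assoc, pow_add, mul_assoc, mul_left_cancel_iff] at e
        refine pow_not_next hl (e := d + 1) (by omega) ?_
        rw [show R l ^ (d + 1) = (m : pres.Grp) * (m' : pres.Grp)⁻¹ by rw [e, mul_inv_cancel_right]]
        exact mul_mem m.2 (inv_mem m'.2)
      rcases lt_trichotomy (a : ℕ) b with hab | hab | hab
      · exact (key a b m m' hab e).elim
      · have : a = b := Fin.ext hab
        subst this
        exact Prod.ext rfl (Subtype.ext (mul_left_cancel e))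
      · exact (key b a m' m hab e.symm).elim
    · rintro ⟨x, hx⟩
      obtain ⟨j, hj, m, hm, rfl⟩ := step hl hx
      exact ⟨(⟨j, hj⟩, ⟨m, hm⟩), rfl⟩
  rw [← Nat.card_eq_of_bijective f hf, Nat.card_prod, Nat.card_fin]

theorem Nl_top : Nl 12 = ⊥ := by
  rw [Nl, show {g | ∃ k, 12 ≤ k ∧ k < 12 ∧ g = R k} = (∅ : Set pres.Grp) by
    ext g; simp only [Set.mem_setOf_eq, Set.mem_empty_iff_false, iff_false]; rintro ⟨k, h1, h2, -⟩; omega,
    Subgroup.closure_empty]

theorem card_U : Nat.card (Nl 0) = 3 ^ 12 := by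
  have key : ∀ d l, l + d = 12 → Nat.card (Nl l) = 3 ^ d := by
    intro d
    induction d with
    | zero => intro l h; obtain rfl : l = 12 := by omega
              rw [Nl_top, Subgroup.card_bot, pow_zero]
    | succ d ih => intro l h; rw [card_step (by omega), ih (l + 1) (by omega), pow_succ']
  exact key 12 0 rfl

/-- a representative -/
noncomputable def rep (c : ℕ) : pres.Grp := nW (repW c)

/-- the property shown for every coset of the tree -/
def Good (x : pres.Grp) : Prop :=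
  x ^ 3 = 1 → x = 1 ∨ ∃ c, c < 13 ∧ ∃ g ∈ K, g * x * g⁻¹ = rep c ∨ g * x * g⁻¹ = rep c * rep c

theorem good_conj {x g : pres.Grp} (hg : g ∈ K) (h : Good (g⁻¹ * x * g)) : Good x := by
  intro hx
  have e : (g⁻¹ * x * g) ^ 3 = 1 := by
    rw [show (g⁻¹ * x * g) ^ 3 = g⁻¹ * x ^ 3 * g by simp only [pow_succ, pow_zero, one_mul]; group, hx]
    group
  rcases h e with h1 | ⟨c, hc, k, hk, hcase⟩
  · left
    rw [show x = g * (g⁻¹ * x * g) * g⁻¹ by group, h1]; group
  · refine Or.inr ⟨c, hc, k * g⁻¹, mul_mem hk (inv_mem hg), ?_⟩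
    rw [show k * g⁻¹ * x * (k * g⁻¹)⁻¹ = k * (g⁻¹ * x * g) * k⁻¹ by group]
    exact hcase

theorem node_ok {k : ℕ} (hk : k < 3033) : nodeOK k = true := by
  rcases (by omega : k < 500 ∨ (500 ≤ k ∧ k < 1000) ∨ (1000 ≤ k ∧ k < 1500) ∨ (1500 ≤ k ∧ k < 2000) ∨
    (2000 ≤ k ∧ k < 2500) ∨ (2500 ≤ k ∧ k < 3033)) with h | h | h | h | h | h
  · have := nodes0 k h; rwa [Nat.zero_add] at this
  · have := nodes1 (k - 500) (by omega); rwa [Nat.add_sub_cancel' (by omega)] at this
  · have := nodes2 (k - 1000) (by omega); rwa [Nat.add_sub_cancel' (by omega)] at this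
  · have := nodes3 (k - 1500) (by omega); rwa [Nat.add_sub_cancel' (by omega)] at this
  · have := nodes4 (k - 2000) (by omega); rwa [Nat.add_sub_cancel' (by omega)] at this
  · have := nodes5 (k - 2500) (by omega); rwa [Nat.add_sub_cancel' (by omega)] at this

theorem nodes_good : ∀ d k, k < 3033 → 3033 - k ≤ d → ∀ m ∈ Nl (node k).1, Good (nW (node k).2.1 * m) := by
  haveI := order.1
  intro d
  induction d with
  | zero => intro k hk hd; omega
  | succ d ih =>
    intro k hk hd m hm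
    have h := node_ok hk
    simp only [nodeOK, Bool.and_eq_true] at h
    obtain ⟨⟨hr, hlev⟩, h⟩ := h
    set i := (node k).1
    set r := (node k).2.1
    have hrP : nW r ∈ Nl 0 := nW_Nl hr
    have hmP : m ∈ Nl 0 := Nl_anti (Nat.zero_le _) hm
    have child : ∀ c r', childOK k c (i + 1) r' = true → ∀ m' ∈ Nl (i + 1), Good (nW r' * m') := by
      intro c r' hc m' hm'
      simp only [childOK, Bool.and_eq_true, decide_eq_true_eq] at hc
      obtain ⟨⟨⟨h1, h2⟩, h3⟩, h4⟩ := hc
      have h1' : k < c := Nat.le_of_ble_eq_true h1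
      have := ih c (Nat.le_of_ble_eq_true h2) (by omega) m' (by rw [Nat.eq_of_beq_eq_true h3]; exact hm')
      rwa [h4] at this
    have one1 : nW [i] = R i := by simp [nW]
    have two1 : nW [i, i] = R i ^ 2 := by simp [nW, pow_two]
    generalize (node k).2.2 = kd at h
    cases kd with
    | prune l e rest =>
      intro hx
      exfalso
      simp only [Bool.and_eq_true, Bool.or_eq_true, Nat.beq_eq] at h
      obtain ⟨⟨⟨hl, he⟩, hrest⟩, heq⟩ := h
      have hli : l < i := Nat.le_of_ble_eq_true hl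
      have hl12 : l < 12 := lt_of_lt_of_le hli (Nat.le_of_ble_eq_true hlev)
      have e3 := eqR_sound heq
      rw [nW_app, nW_app, nW_app] at e3
      have hrep : nW (List.replicate e l) = R l ^ e := by simp [nW, List.map_replicate, List.prod_replicate]
      rw [hrep] at e3
      -- the cube of the representative lies in the subgroup of the node
      have hr3 : nW r * nW r * nW r ∈ Nl i := by
        have h1 : (nW r * nW r * nW r)⁻¹ * (nW r * m) ^ 3 ∈ Nl i := by
          have e1 : (nW r * nW r * nW r)⁻¹ * (nW r * m) ^ 3 =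
              ((nW r * nW r)⁻¹ * m * (nW r * nW r)) * ((nW r)⁻¹ * m * nW r) * m := by
            simp only [pow_succ, pow_zero, one_mul]; group
          rw [e1]
          exact mul_mem (mul_mem (conj_Nl' (mul_mem hrP hrP) hm) (conj_Nl' hrP hm)) hm
        rw [hx, mul_one] at h1
        exact inv_mem_iff.mp h1
      refine pow_not_next hl12 he ?_
      rw [show R l ^ e = (nW r * nW r * nW r) * (nW rest)⁻¹ by rw [e3, mul_inv_cancel_right]]
      exact mul_mem (Nl_anti hli hr3) (inv_mem (nW_Nl hrest))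
    | one =>
      intro _
      simp only [Bool.and_eq_true, decide_eq_true_eq] at h
      obtain ⟨h12, hr0⟩ := h
      left
      rw [show i = 12 from Nat.eq_of_beq_eq_true h12, Nl_top, Subgroup.mem_bot] at hm
      rw [hm, hr0]; simp [nW]
    | leaf c sgn g =>
      intro _
      simp only [Bool.and_eq_true, List.all_eq_true] at h
      obtain ⟨⟨⟨h12, hc⟩, hg⟩, he⟩ := h
      rw [show i = 12 from Nat.eq_of_beq_eq_true h12, Nl_top, Subgroup.mem_bot] at hm
      refine Or.inr ⟨c, Nat.le_of_ble_eq_true hc, nW g, nW_mem fun s hs => Nat.le_of_ble_eq_true (hg s hs), ?_⟩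
      rw [hm, mul_one]
      rcases hb : Nat.beq sgn 0 with _ | _
      · right
        rw [hb, cond_false] at he
        have e := eqR_sound he
        rw [nW_app, nW_app, nW_app] at e
        rw [e, mul_inv_cancel_right]; rfl
      · left
        rw [hb, cond_true] at he
        have e := eqR_sound he
        rw [nW_app, nW_app] at e
        rw [e, mul_inv_cancel_right]; rfl
    | split a b c =>
      simp only [Bool.and_eq_true] at h
      obtain ⟨⟨⟨hi12, ha⟩, hb⟩, hc⟩ := h
      obtain ⟨j, hj, m', hm', rfl⟩ := step (Nat.le_of_ble_eq_true hi12) hm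
      interval_cases j
      · rw [pow_zero, one_mul]; exact child _ _ ha m' hm'
      · have := child _ _ hb m' hm'
        rw [nW_app, one1, mul_assoc] at this
        rwa [pow_one]
      · have := child _ _ hc m' hm'
        rwa [nW_app, two1, mul_assoc] at this
    | fuse ch x1 m1 x2 m2 =>
      simp only [Bool.and_eq_true] at h
      obtain ⟨⟨⟨⟨⟨⟨⟨hi12, hch⟩, hx1⟩, hx2⟩, hm1⟩, hm2⟩, he1⟩, he2⟩ := h
      obtain ⟨j, hj, m', hm', rfl⟩ := step (Nat.le_of_ble_eq_true hi12) hm
      have fused : ∀ (xw mw' : List ℕ) (z : pres.Grp), fromLev 0 xw = true → fromLev (i + 1) mw' = true →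
          nW xw * nW r = nW r * z * nW mw' * nW xw → Good (nW r * (z * m')) := by
        intro xw mw' z hx hmw e
        have hxP : nW xw ∈ Nl 0 := nW_Nl hx
        refine good_conj (g := nW xw) (Nl_le 0 hxP) ?_
        have e1 : (nW xw)⁻¹ * (nW r * (z * m')) * nW xw =
            nW r * ((nW xw)⁻¹ * ((nW mw')⁻¹ * m') * nW xw) := by
          calc (nW xw)⁻¹ * (nW r * (z * m')) * nW xw
              = (nW xw)⁻¹ * (nW r * z * nW mw' * nW xw) * ((nW xw)⁻¹ * ((nW mw')⁻¹ * m') * nW xw) := by group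
            _ = (nW xw)⁻¹ * (nW xw * nW r) * ((nW xw)⁻¹ * ((nW mw')⁻¹ * m') * nW xw) := by rw [e]
            _ = nW r * ((nW xw)⁻¹ * ((nW mw')⁻¹ * m') * nW xw) := by group
        rw [e1]
        exact child _ _ hch _ (conj_Nl' hxP (mul_mem (inv_mem (nW_Nl hmw)) hm'))
      interval_cases j
      · rw [pow_zero, one_mul]; exact child _ _ hch m' hm'
      · refine fused x1 m1 _ hx1 hm1 ?_
        have e := eqR_sound he1
        rwa [nW_app, nW_app, nW_app, nW_app, one1, ← pow_one (R i)] at e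
      · refine fused x2 m2 _ hx2 hm2 ?_
        have e := eqR_sound he2
        rwa [nW_app, nW_app, nW_app, nW_app, two1] at e

end Cfsg.Agent.Spor.OEight
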