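import Cfsg.Agent.Lib.Spor.ONJ1IdxDData

/-!
Coset certificate `IdxD` of ONJ1: checks.
-/

set_option autoImplicit false
set_option maxRecDepth 100000

namespace Cfsg.Agent.Spor.ONJ1Cert.IdxD

open Cfsg.Agent.Spor.CC

/-- checked entries -/
def edL0 : List ℕ := [
0x1,
0x801,
0x401,
0x1001,
0x1801,
0xc01,
0x2001,
0x1401,
0x1c01,
0x2801,
0x2401,
0x3001,
0x3801,
0x2c01,
0x4001,
0x3401,
0x3c01,
0x4801,
0x4401,
0x5001,
0x5801,
0x4c01,
0x5c01,
0x5401]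

theorem edOK0 : edgesOK dat 12 edL0 0 = true := by decide +kernel

end Cfsg.Agent.Spor.ONJ1Cert.IdxD
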