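import Cfsg.Agent.Lib.Spor.ONJ1Pres

/-!
Coset certificate `IdxD` of ONJ1: data.
-/

set_option autoImplicit false
set_option maxRecDepth 100000

namespace Cfsg.Agent.Spor.ONJ1Cert.IdxD

open Cfsg.Agent.Spor.CC

/-- packed equalities -/
def factC0 : ℕ := 0x2c000a010002c0009010002800080000024000700000200006010001c0005010001800040000014000300000100002010000c00010100008000000000040000

/-- the recorded equalities -/
def facts (id : ℕ) : ℕ :=
  fld factC0 44 (Nat.sub id 0)

/-- packed words -/
def words : ℕ := 0x101010101010c

/-- the certificate -/
def dat : Data where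
  ng := 2
  na := 12
  nn := 12
  facts := facts
  words := words
  nr := 1
  nw := 1

/-- witnesses for the words -/
def wit : List (ℕ × ℕ × Bool) := [
  (3, 0, true)]

/-- subgroup words -/
def subW : List (List ℕ) := []

/-- letters -/
def letters : List ℕ := [0, 1]

theorem defs_ok : ∀ k, k < dat.na - 1 → defOK dat k = true := by decide +kernel

end Cfsg.Agent.Spor.ONJ1Cert.IdxD
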