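import Cfsg.Agent.Lib.Spor.ONJ1IdxDData

/-!
Coset certificate `IdxD` of ONJ1: checks.
-/

set_option autoImplicit false
set_option maxRecDepth 100000

namespace Cfsg.Agent.Spor.ONJ1Cert.IdxD

open Cfsg.Agent.Spor.CC

/-- checked entries -/
def stL0 : List ℕ := [
0x480001c0000a0000300000800002000050000480003400022000150000b0000000b]

theorem stOK0 : stepsOK dat stL0 11 = true := by decide +kernel

end Cfsg.Agent.Spor.ONJ1Cert.IdxD
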