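import Cfsg.Agent.Lib.Spor.RepCert

/-!
Tools for subgroups on three involutions: presentations, simplicity, recognising trivial elements
from a few points.
-/

set_option autoImplicit false

namespace Cfsg.Agent.Spor.ONSub

open Cfsg.Agent.Spor.CC

/-- three generators -/
inductive Tri
  | a
  | b
  | c
  deriving DecidableEq

/-- numbering -/
def ixTri : Tri → ℕ
  | .a => 0
  | .b => 1
  | .c => 2

/-- names -/
def nmTri (x : ℕ) : Tri := [Tri.a, .b, .c].getD x .a

/-- words as free group elements -/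
def asFree (W : List (List ℕ)) : List (FreeGroup Tri) :=
  W.map fun w => (w.map fun x => FreeGroup.of (nmTri x)).prod

theorem tri_ok (Q : Pres Tri) (hng : Q.ng = 3) (hix : Q.ix = ixTri) (hnm : Q.nm = nmTri)
    (hex : Q.extra = asFree Q.extraW) (hlet : lettersOK 3 Q.extraW = true)
    (hnode : ∀ x, x < 3 → nmTri x ∈ Cfsg.Spor.coxNodes Q.edges)
    (hsymm : ∀ i, i < 3 → ∀ j, j < 3 → Cfsg.Spor.coxLabel Q.edges (nmTri i) (nmTri j) =
      Cfsg.Spor.coxLabel Q.edges (nmTri j) (nmTri i)) : Q.OK where
  ix_lt a := by rw [hix, hng]; cases a <;> decide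
  nm_ix a := by rw [hix, hnm]; cases a <;> rfl
  ix_nm := by
    rw [hix, hnm, hng]
    decide +kernel
  node := by rw [hnm, hng]; exact hnode
  symm := by rw [hnm, hng]; exact hsymm
  ng_le := by omega
  extra_eq := by
    intro M _ f _
    rw [hex, asFree, List.map_map]
    refine List.map_congr_left fun w hw => ?_
    rw [Function.comp_apply, map_list_prod, List.map_map]
    refine congrArg List.prod (List.map_congr_left fun x hx => ?_)
    rw [Function.comp_apply, FreeGroup.lift_apply_of, Function.comp_apply, hix]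
    have key : ∀ y, y < 3 → ixTri (nmTri y) = y := by decide +kernel
    rw [key x (lettersOK_spec hlet hw hx)]

/-- a nontrivial normal subgroup contains a generator that is a product of two `q`-elements -/
theorem gen_mem_normal' {α : Type} [DecidableEq α] {Q : Pres α} (R : Rep Q) [Finite Q.Grp]
    (hinj : Function.Injective R.hom) {L : List Orb} {Lb : ℕ}
    (hpart : partOK R.P.T R.P.ng R.P.n L Lb = true) (hsum : sumsOK R.P.n (L.map Orb.k) = true)
    (hz : fld Lb 4 R.z = 0) {W : List (List ℕ)} (hLW : ∀ O ∈ L, O.ws = W)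
    (hlW : lettersOK R.P.ng W = true) (hfix : fixOK R.P.T R.P.ng W [(R.z : ℕ)] = true)
    {q : ℕ} (hq : q.Prime) (hn : q ∣ R.P.n) (hfull : ¬ q ^ 2 ∣ Nat.card Q.Grp) {w1 w2 : List ℕ} {a : ℕ}
    (hl : lettersOK R.P.ng [powW q w1, powW q w2, w1 ++ w2 ++ [a]] = true)
    (hloop : R.P.Loops [powW q w1, powW q w2, w1 ++ w2 ++ [a]])
    (N : Subgroup Q.Grp) [N.Normal] : N = ⊥ ∨ Q.gen a ∈ N := by
  have hone : ∀ w ∈ [powW q w1, powW q w2, w1 ++ w2 ++ [a]], (w.map Q.gen).prod = 1 := by
    intro w hw
    apply hinj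
    rw [map_one]
    ext u
    rw [ev_eq R.valid Q.gen R.hom R.hom_gen (fun x hx => lettersOK_spec hl hw hx)]
    exact hloop u u.2 w hw
  have hle := R.wsub_le_stab hlW hfix
  have hprim := fun M hM => primitive R.valid Q.gen R.hom R.hom_gen hpart hsum R.z hz R.transitive
    (fun O hO w hw => hle (Subgroup.subset_closure ⟨w, (hLW O hO) ▸ hw, rfl⟩)) M hM
  rcases normal_cases R.hom hinj R.z R.transitive hprim N hq (e := 1) (by rwa [pow_one]) hfull with h | h
  · exact Or.inl h
  · right
    have h1 : (w1.map Q.gen).prod ∈ N := by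
      refine h _ 1 ?_
      have := hone _ (List.mem_cons_self ..)
      rwa [prod_powW, ← pow_one q] at this
    have h2 : (w2.map Q.gen).prod ∈ N := by
      refine h _ 1 ?_
      have := hone _ (List.mem_cons_of_mem _ (List.mem_cons_self ..))
      rwa [prod_powW, ← pow_one q] at this
    have h3 := hone _ (List.mem_cons_of_mem _ (List.mem_cons_of_mem _ (List.mem_cons_self ..)))
    simp only [List.map_append, List.prod_append, List.map_cons, List.map_nil, List.prod_cons,
      List.prod_nil, mul_one] at h3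
    have e : Q.gen a = (w1.map Q.gen).prod * (w2.map Q.gen).prod := by
      rw [eq_inv_of_mul_eq_one_left h3, inv_eq_of_mul_eq_one_left (Pres.gen_sq R.ok a)]
    rw [e]
    exact mul_mem h1 h2

section

variable {K : Type*} [Group K] {P : Table} (h : P.Valid) (g : ℕ → K)
  (φ : K →* Equiv.Perm (Fin P.n)) (hφ : ∀ x, x < P.ng → φ (g x) = P.perm h x)

/-- the elements fixing given points -/
def fixing (S : Subgroup K) (B : List ℕ) : Subgroup K where
  carrier := {s | s ∈ S ∧ ∀ b ∈ B, ∀ u : Fin P.n, (u : ℕ) = b → φ s u = u}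
  one_mem' := ⟨one_mem S, fun _ _ u _ => by rw [map_one]; rfl⟩
  mul_mem' {s t} hs ht := ⟨mul_mem hs.1 ht.1, fun b hb u hu => by
    rw [map_mul, Equiv.Perm.mul_apply, ht.2 b hb u hu, hs.2 b hb u hu]⟩
  inv_mem' {s} hs := ⟨inv_mem hs.1, fun b hb u hu => by
    rw [map_inv, Equiv.Perm.inv_eq_iff_eq]; exact (hs.2 b hb u hu).symm⟩

include hφ in
theorem chain_fix_le : ∀ (L : List Orb) (bs : List ℕ), chainOK P.T P.ng P.n L bs = true →
    ∀ (S : Subgroup K) [Finite S], (∀ s : K, (∀ b ∈ bs, ∀ u : Fin P.n, (u : ℕ) = b → φ s u = u) →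
      (∃ O ∈ L, ∃ w ∈ O.ws, s = (w.map g).prod) → s ∈ S) →
      chainSize L * Nat.card (fixing φ S (L.map Orb.b)) ≤ Nat.card S
  | [], _, _, S, _, _ => by
    rw [show chainSize [] = 1 from rfl, one_mul]
    exact Subgroup.card_le_of_le fun s hs => hs.1
  | O :: rest, bs, hL, S, hfin, hS => by
    simp only [chainOK, Bool.and_eq_true] at hL
    obtain ⟨⟨⟨⟨hbn, hO⟩, hl⟩, hfix⟩, hrest⟩ := hL
    let b : Fin P.n := ⟨O.b, Nat.le_of_ble_eq_true hbn⟩
    have hWS : ∀ w ∈ O.ws, (w.map g).prod ∈ S := by
      intro w hw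
      refine hS _ (fun c hc u hu => ?_) ⟨O, by simp, w, hw, rfl⟩
      apply Fin.ext
      rw [ev_eq h g φ hφ (fun x hx => lettersOK_spec hl hw hx), hu]
      exact Nat.eq_of_beq_eq_true (List.all_eq_true.mp (List.all_eq_true.mp hfix w hw) c hc)
    have horb := orb_mem h g φ hφ hO hl S hWS b rfl
    letI : MulAction S (Fin P.n) := MulAction.compHom _ (φ.comp S.subtype)
    have hsmul : ∀ (s : S) (u : Fin P.n), s • u = φ (s : K) u := fun s u => rfl
    let f : Fin O.k → MulAction.orbit S b := fun j =>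
      ⟨φ (horb j j.2).choose b, ⟨⟨_, (horb j j.2).choose_spec.1⟩, hsmul _ _⟩⟩
    have hf : Function.Injective f := by
      intro i j e
      have e' := congrArg (fun q : MulAction.orbit S b => ((q : Fin P.n) : ℕ)) e
      simp only [f] at e'
      rw [(horb i i.2).choose_spec.2, (horb j j.2).choose_spec.2] at e'
      exact Fin.ext (orb_inj hO i.2 j.2 e')
    have hk : O.k ≤ Nat.card (MulAction.orbit S b) := by
      simpa using Nat.card_le_card_of_injective f hf
    let S' : Subgroup K := (MulAction.stabilizer S b).map S.subtype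
    haveI : Finite S' := Finite.of_surjective
      (fun s : MulAction.stabilizer S b => (⟨((s : S) : K), ⟨s, s.2, rfl⟩⟩ : S'))
      (fun ⟨p, q, hq, e⟩ => ⟨⟨q, hq⟩, Subtype.ext e⟩)
    have hrec : chainSize rest * Nat.card (fixing φ S' (rest.map Orb.b)) ≤ Nat.card S' := by
      refine chain_fix_le rest (O.b :: bs) hrest S' fun s hs hw => ?_
      obtain ⟨O', hO', w, hw', rfl⟩ := hw
      have hmem : (w.map g).prod ∈ S :=
        hS _ (fun c hc u hu => hs c (by simp [hc]) u hu) ⟨O', by simp [hO'], w, hw', rfl⟩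
      exact ⟨⟨_, hmem⟩, hs O.b (by simp) b rfl, rfl⟩
    have hsame : fixing φ S ((O :: rest).map Orb.b) = fixing φ S' (rest.map Orb.b) := by
      ext s
      constructor
      · rintro ⟨hs, hb⟩
        exact ⟨⟨⟨s, hs⟩, hb O.b (by simp) b rfl, rfl⟩, fun c hc => hb c (by simp [List.map_cons, hc])⟩
      · rintro ⟨⟨t, ht, rfl⟩, hb⟩
        refine ⟨t.2, fun c hc u hu => ?_⟩
        rw [List.map_cons, List.mem_cons] at hc
        rcases hc with rfl | hc
        · have : u = b := Fin.ext hu
          subst this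
          exact ht
        · exact hb c hc u hu
    have hcard : Nat.card S' = Nat.card (MulAction.stabilizer S b) :=
      Nat.card_congr (Subgroup.equivMapOfInjective _ _ S.subtype_injective).symm.toEquiv
    have hos : Nat.card (MulAction.orbit S b) * Nat.card (MulAction.stabilizer S b) = Nat.card S := by
      rw [← Nat.card_congr (MulAction.orbitProdStabilizerEquivGroup S b), Nat.card_prod]
    rw [chainSize, List.map_cons, List.prod_cons, ← hos, hsame, mul_assoc]
    exact Nat.mul_le_mul hk (hcard ▸ hrec)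

end

end Cfsg.Agent.Spor.ONSub
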