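import Cfsg.Agent.Lib.Spor.OrbitCert
import Cfsg.Agent.Lib.Spor.ONSubBase

/-!
A presentation of J1 on three involutions.
-/

set_option autoImplicit false

namespace Cfsg.Agent.Spor.ONJ1Cert

open Cfsg.Agent.Spor.CC

/-- the presentation -/
def pres : Pres ONSub.Tri where
  edges := [(.a, 6, .b), (.a, 3, .c), (.b, 0, .c)]
  extra := ONSub.asFree [[0, 1, 0, 1, 2, 0, 1, 0, 1, 2, 0, 1, 0, 1, 2], [0, 1, 0, 2, 0, 1, 2, 0, 1, 0, 2, 1, 0, 2, 0, 1, 0, 2, 1, 2, 1, 0, 2, 0, 1, 2, 1, 2]]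
  ng := 3
  ix := ONSub.ixTri
  nm := ONSub.nmTri
  extraW := [[0, 1, 0, 1, 2, 0, 1, 0, 1, 2, 0, 1, 0, 1, 2], [0, 1, 0, 2, 0, 1, 2, 0, 1, 0, 2, 1, 0, 2, 0, 1, 0, 2, 1, 2, 1, 0, 2, 0, 1, 2, 1, 2]]

theorem pres_ok : pres.OK := ONSub.tri_ok pres rfl rfl rfl rfl (by decide +kernel) (by decide +kernel) (by decide +kernel)

theorem relW_letters : lettersOK 3 pres.relW = true := by decide +kernel

end Cfsg.Agent.Spor.ONJ1Cert
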