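import Cfsg.Agent.Lib.Spor.ONJ1RepLoops0
import Cfsg.Agent.Lib.Spor.ONJ1RepOrbits

/-!
Table `Rep` of ONJ1: assembled.
-/

set_option autoImplicit false
set_option maxRecDepth 100000

namespace Cfsg.Agent.Spor.ONJ1Cert.Rep

open Cfsg.Agent.Spor.CC

theorem valid : tab.Valid := by
  intro u hu x hx
  replace hu : u < 266 := hu
  exact invOK_spec inv0 (by omega) hu hx

theorem loops : tab.Loops Cfsg.Agent.Spor.ONJ1Cert.pres.relW := by
  intro u hu r hr
  replace hu : u < 266 := hu
  exact loopOK_spec loop0 (by omega) hu hr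

end Cfsg.Agent.Spor.ONJ1Cert.Rep
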