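import Cfsg.Agent.Lib.Spor.ONM11IdxDData

/-!
Coset certificate `IdxD` of ONM11: checks.
-/

set_option autoImplicit false
set_option maxRecDepth 100000

namespace Cfsg.Agent.Spor.ONM11Cert.IdxD

open Cfsg.Agent.Spor.CC

/-- checked entries -/
def stL0 : List ℕ := [
0xe000050000180000400001000028000240001a000110000900000009]

theorem stOK0 : stepsOK dat stL0 9 = true := by decide +kernel

end Cfsg.Agent.Spor.ONM11Cert.IdxD
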