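import Cfsg.Agent.Lib.Spor.ONM11Pres

/-!
Permutation table `Rep` of ONM11.
-/

set_option autoImplicit false
set_option maxRecDepth 100000

namespace Cfsg.Agent.Spor.ONM11Cert.Rep

open Cfsg.Agent.Spor.CC

/-- packed images -/
def col0C0 : ℕ := 0xa0007000800090004000300060005000200000001

/-- images under generator 0 -/
def col0N0x1 (u : ℕ) : ℕ := fld col0C0 16 (Nat.sub u 0)

/-- packed images -/
def col1C0 : ℕ := 0xa0008000900040006000500070001000000030002

/-- images under generator 1 -/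
def col1N0x1 (u : ℕ) : ℕ := fld col1C0 16 (Nat.sub u 0)

/-- packed images -/
def col2C0 : ℕ := 0x9000a000600070008000500010003000000040002

/-- images under generator 2 -/
def col2N0x1 (u : ℕ) : ℕ := fld col2C0 16 (Nat.sub u 0)

/-- the table entries -/
def rows (x u : ℕ) : ℕ := bif Nat.beq x 0 then col0N0x1 u else bif Nat.beq x 1 then col1N0x1 u else col2N0x1 u

/-- the table -/
def tab : Table where
  T := rows
  ng := 3
  n := 11

theorem img_0 (m u : ℕ) : img rows m 0 u = col0N0x1 u := rfl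

theorem img_1 (m u : ℕ) : img rows m 1 u = col1N0x1 u := rfl

theorem img_2 (m u : ℕ) : img rows m 2 u = col2N0x1 u := rfl

/-- points -/
def allOrbPts : ℕ := 0xa0009000800070006000500040003000200010000

/-- positions -/
def allOrbPos : ℕ := 0xa0009000800070006000500040003000200010000

/-- tree -/
def allOrbTree : ℕ := 0x20009000007020006010004000004000003020001010001010000000000

/-- orbit -/
def allOrb : Orb where
  b := 0
  k := 11
  pts := allOrbPts
  posn := allOrbPos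
  tree := allOrbTree
  ws := [[0], [1], [2]]

/-- points -/
def sub0Pts : ℕ := 0x0

/-- positions -/
def sub0Pos : ℕ := 0x0

/-- tree -/
def sub0Tree : ℕ := 0x0

/-- suborbit -/
def sub0 : Orb where
  b := 0
  k := 1
  pts := sub0Pts
  posn := sub0Pos
  tree := sub0Tree
  ws := [[2, 1], [2, 1, 2, 0, 2]]

/-- points -/
def sub1Pts : ℕ := 0x8000600020007000900050004000a00030001

/-- positions -/
def sub1Pos : ℕ := 0x20005000900060008000400030001000700000000

/-- tree -/
def sub1Tree : ℕ := 0x8000005010003000003000002010001000001010000000000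

/-- suborbit -/
def sub1 : Orb where
  b := 1
  k := 10
  pts := sub1Pts
  posn := sub1Pos
  tree := sub1Tree
  ws := [[2, 1], [2, 1, 2, 0, 2]]

/-- the suborbits -/
def subs : List Orb := [sub0, sub1]

/-- suborbit labels -/
def labels : ℕ := 0x11111111110

/-- points -/
def lev0Pts : ℕ := 0xa0009000800070006000500040003000200010000

/-- positions -/
def lev0Pos : ℕ := 0xa0009000800070006000500040003000200010000

/-- tree -/
def lev0Tree : ℕ := 0x20009000007020006010004000004000003020001010001010000000000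

/-- level of the chain -/
def lev0 : Orb where
  b := 0
  k := 11
  pts := lev0Pts
  posn := lev0Pos
  tree := lev0Tree
  ws := [[0], [1], [2]]

/-- points -/
def lev1Pts : ℕ := 0xa000200090008000300060004000500070001

/-- positions -/
def lev1Pos : ℕ := 0x90007000600010004000200030005000800000000

/-- tree -/
def lev1Tree : ℕ := 0x7010005000004010003000003010001000001010000000000

/-- level of the chain -/
def lev1 : Orb where
  b := 1
  k := 10
  pts := lev1Pts
  posn := lev1Pos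
  tree := lev1Tree
  ws := [[1, 2], [1, 0, 1]]

/-- points -/
def lev2Pts : ℕ := 0x3000a0004000900070008000600050002

/-- positions -/
def lev2Pos : ℕ := 0x70005000300040002000100060008000000000000

/-- tree -/
def lev2Tree : ℕ := 0x10006000005010004010003010002010001000001000000

/-- level of the chain -/
def lev2 : Orb where
  b := 2
  k := 9
  pts := lev2Pts
  posn := lev2Pos
  tree := lev2Tree
  ws := [[1, 0, 2, 1, 0, 1], [2, 0, 2, 1, 0, 2, 1, 2]]

/-- points -/
def lev3Pts : ℕ := 0xa0004000700090006000800050003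

/-- positions -/
def lev3Pos : ℕ := 0x70004000200050003000100060000000000000000

/-- tree -/
def lev3Tree : ℕ := 0x10003000003000002010001000001010000000000

/-- level of the chain -/
def lev3 : Orb where
  b := 3
  k := 8
  pts := lev3Pts
  posn := lev3Pos
  tree := lev3Tree
  ws := [[1, 0, 1, 2, 0, 1, 2, 0, 2, 1, 0, 2, 1, 2], [1, 0, 2, 1, 0, 1, 2, 0, 2, 1, 0, 2, 1, 2, 1, 0, 2, 1, 0, 1]]

/-- the chain -/
def levels : List Orb := [lev0, lev1, lev2, lev3]

/-- relators, listed -/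
def relW : List (List ℕ) := [[0, 0], [1, 1], [2, 2], [0, 1, 0, 1, 0, 1, 0, 1, 0, 1], [0, 2, 0, 2, 0, 2, 0, 2, 0, 2, 0, 2], [], [0, 1, 2, 0, 2, 1, 0, 1, 2, 0, 2, 1, 0, 1, 2, 0, 2, 1], [0, 2, 0, 2, 1, 2, 0, 2, 0, 2, 1, 2, 0, 2, 0, 2, 1, 2], [0, 1, 0, 1, 2, 1, 2, 0, 1, 0, 2, 1, 0, 2, 0, 1, 0, 2, 0, 1, 2]]

/-- a word applied to a point -/
def rel0 (u : ℕ) : ℕ := col0N0x1 (col0N0x1 (u))

/-- a word applied to a point -/
def rel1 (u : ℕ) : ℕ := col1N0x1 (col1N0x1 (u))

/-- a word applied to a point -/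
def rel2 (u : ℕ) : ℕ := col2N0x1 (col2N0x1 (u))

/-- a word applied to a point -/
def rel3 (u : ℕ) : ℕ := col0N0x1 (col1N0x1 (col0N0x1 (col1N0x1 (col0N0x1 (col1N0x1 (col0N0x1 (col1N0x1 (col0N0x1 (col1N0x1 (u))))))))))

/-- a word applied to a point -/
def rel4 (u : ℕ) : ℕ := col0N0x1 (col2N0x1 (col0N0x1 (col2N0x1 (col0N0x1 (col2N0x1 (col0N0x1 (col2N0x1 (col0N0x1 (col2N0x1 (col0N0x1 (col2N0x1 (u))))))))))))

/-- a word applied to a point -/
def rel5 (u : ℕ) : ℕ := u

/-- a word applied to a point -/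
def rel6 (u : ℕ) : ℕ := col0N0x1 (col1N0x1 (col2N0x1 (col0N0x1 (col2N0x1 (col1N0x1 (col0N0x1 (col1N0x1 (col2N0x1 (col0N0x1 (col2N0x1 (col1N0x1 (col0N0x1 (col1N0x1 (col2N0x1 (col0N0x1 (col2N0x1 (col1N0x1 (u))))))))))))))))))

/-- a word applied to a point -/
def rel7 (u : ℕ) : ℕ := col0N0x1 (col2N0x1 (col0N0x1 (col2N0x1 (col1N0x1 (col2N0x1 (col0N0x1 (col2N0x1 (col0N0x1 (col2N0x1 (col1N0x1 (col2N0x1 (col0N0x1 (col2N0x1 (col0N0x1 (col2N0x1 (col1N0x1 (col2N0x1 (u))))))))))))))))))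

/-- a word applied to a point -/
def rel8 (u : ℕ) : ℕ := col0N0x1 (col1N0x1 (col0N0x1 (col1N0x1 (col2N0x1 (col1N0x1 (col2N0x1 (col0N0x1 (col1N0x1 (col0N0x1 (col2N0x1 (col1N0x1 (col0N0x1 (col2N0x1 (col0N0x1 (col1N0x1 (col0N0x1 (col2N0x1 (col0N0x1 (col1N0x1 (col2N0x1 (u)))))))))))))))))))))

/-- all words fix a point -/
def relAll (u : ℕ) : Bool := (Nat.beq (rel0 u) u && (Nat.beq (rel1 u) u && (Nat.beq (rel2 u) u && (Nat.beq (rel3 u) u && (Nat.beq (rel4 u) u && (Nat.beq (rel5 u) u && (Nat.beq (rel6 u) u && (Nat.beq (rel7 u) u && (Nat.beq (rel8 u) u && true)))))))))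

theorem rel0_eq (u : ℕ) : ev rows 3 [0, 0] u = rel0 u := by
  simp only [ev, List.foldr_cons, List.foldr_nil, img_0, img_1, img_2]
  rfl

theorem rel1_eq (u : ℕ) : ev rows 3 [1, 1] u = rel1 u := by
  simp only [ev, List.foldr_cons, List.foldr_nil, img_0, img_1, img_2]
  rfl

theorem rel2_eq (u : ℕ) : ev rows 3 [2, 2] u = rel2 u := by
  simp only [ev, List.foldr_cons, List.foldr_nil, img_0, img_1, img_2]
  rfl

theorem rel3_eq (u : ℕ) : ev rows 3 [0, 1, 0, 1, 0, 1, 0, 1, 0, 1] u = rel3 u := by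
  simp only [ev, List.foldr_cons, List.foldr_nil, img_0, img_1, img_2]
  rfl

theorem rel4_eq (u : ℕ) : ev rows 3 [0, 2, 0, 2, 0, 2, 0, 2, 0, 2, 0, 2] u = rel4 u := by
  simp only [ev, List.foldr_cons, List.foldr_nil, img_0, img_1, img_2]
  rfl

theorem rel5_eq (u : ℕ) : ev rows 3 [] u = rel5 u := by
  simp only [ev, List.foldr_cons, List.foldr_nil, img_0, img_1, img_2]
  rfl

theorem rel6_eq (u : ℕ) : ev rows 3 [0, 1, 2, 0, 2, 1, 0, 1, 2, 0, 2, 1, 0, 1, 2, 0, 2, 1] u = rel6 u := by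
  simp only [ev, List.foldr_cons, List.foldr_nil, img_0, img_1, img_2]
  rfl

theorem rel7_eq (u : ℕ) : ev rows 3 [0, 2, 0, 2, 1, 2, 0, 2, 0, 2, 1, 2, 0, 2, 0, 2, 1, 2] u = rel7 u := by
  simp only [ev, List.foldr_cons, List.foldr_nil, img_0, img_1, img_2]
  rfl

theorem rel8_eq (u : ℕ) : ev rows 3 [0, 1, 0, 1, 2, 1, 2, 0, 1, 0, 2, 1, 0, 2, 0, 1, 0, 2, 0, 1, 2] u = rel8 u := by
  simp only [ev, List.foldr_cons, List.foldr_nil, img_0, img_1, img_2]
  rfl

theorem rel_eq (u : ℕ) : (relW.all fun r => Nat.beq (ev rows 3 r u) u) = relAll u := by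
  simp only [relW, relAll, List.all_cons, List.all_nil, rel0_eq, rel1_eq, rel2_eq, rel3_eq, rel4_eq, rel5_eq, rel6_eq, rel7_eq, rel8_eq]

theorem relW_eq : relW = Cfsg.Agent.Spor.ONM11Cert.pres.relW := by decide +kernel

end Cfsg.Agent.Spor.ONM11Cert.Rep
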