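import Cfsg.Agent.Lib.Spor.ONM11RepPerm

/-!
Generators of M11 as products of two elements of order 11.
-/

set_option autoImplicit false
set_option maxRecDepth 100000

namespace Cfsg.Agent.Spor.ONM11Cert.Rep

open Cfsg.Agent.Spor.CC

/-- the factors -/
def facs : List (List ℕ × List ℕ) := [([0, 2, 1, 2, 1, 2, 0, 1, 2, 1, 0, 1, 0, 2], [2, 0, 1, 0, 1, 2, 1, 0, 2, 1, 2, 1, 2]), ([0, 2, 1, 0, 1, 0, 2], [2, 0, 1, 0, 1, 2, 0, 1]), ([0, 2, 1, 0, 1, 0, 2, 1, 2], [2, 1, 2, 0, 1, 0, 1, 2, 0, 2])]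

theorem sums_ok' : sumsOK 11 (subs.map Orb.k) = true := by decide +kernel

theorem facs_ok : ((List.range 3).all fun a => (fun p => lettersOK 3 [powW 11 p.1, powW 11 p.2, p.1 ++ p.2 ++ [a]] &&
    loopOK rows 3 [powW 11 p.1, powW 11 p.2, p.1 ++ p.2 ++ [a]] 0 11) (facs.getD a ([], []))) = true := by
  decide +kernel

end Cfsg.Agent.Spor.ONM11Cert.Rep
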