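import Cfsg.Agent.Lib.Spor.ONM11RepData

/-!
Checks for table `Rep` of ONM11.
-/

set_option autoImplicit false
set_option maxRecDepth 100000

namespace Cfsg.Agent.Spor.ONM11Cert.Rep

open Cfsg.Agent.Spor.CC

theorem inv0 : invOK rows 3 11 0 11 = true := by decide +kernel

theorem loop0 : loopOK rows 3 Cfsg.Agent.Spor.ONM11Cert.pres.relW 0 11 = true :=
  relW_eq ▸ loop_of (fun u => rel_eq u) (by decide +kernel : rangeOK relAll 0 11 = true)

end Cfsg.Agent.Spor.ONM11Cert.Rep
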