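import Cfsg.Agent.Lib.Spor.ONM11RepData

/-!
Orbit checks for table `Rep` of ONM11.
-/

set_option autoImplicit false
set_option maxRecDepth 100000

namespace Cfsg.Agent.Spor.ONM11Cert.Rep

open Cfsg.Agent.Spor.CC

theorem all_ok : orbOK rows 3 allOrb = true := by decide +kernel

theorem all_letters : lettersOK 3 allOrb.ws = true := by decide +kernel

theorem sub0_ok : orbOK rows 3 sub0 = true := by decide +kernel

theorem sub0_closed : closedOK rows 3 sub0 = true := by decide +kernel

theorem sub0_letters : lettersOK 3 sub0.ws = true := by decide +kernel

theorem sub1_ok : orbOK rows 3 sub1 = true := by decide +kernel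

theorem sub1_closed : closedOK rows 3 sub1 = true := by decide +kernel

theorem sub1_letters : lettersOK 3 sub1.ws = true := by decide +kernel

theorem part_ok : partOK rows 3 11 subs labels = true := by decide +kernel

theorem chain_ok : chainOK rows 3 11 levels [] = true := by decide +kernel

theorem chain_size : chainSize levels = 7920 := by decide +kernel

end Cfsg.Agent.Spor.ONM11Cert.Rep
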