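import Cfsg.Agent.Lib.Spor.ONOutChecks

/-!
The involutions commuting with the chosen element of order three.
-/

set_option autoImplicit false
set_option maxRecDepth 100000

namespace Cfsg.Agent.Spor.ONCert.Outer

open Cfsg.Agent.Spor.CC

theorem cand_ok : candW.all candOK = true := by decide +kernel

end Cfsg.Agent.Spor.ONCert.Outer
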