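import Cfsg.Agent.Lib.Spor.ONOutChecks

/-!
The small checks for the outer automorphisms.
-/

set_option autoImplicit false
set_option maxRecDepth 100000

namespace Cfsg.Agent.Spor.ONCert.Outer

open Cfsg.Agent.Spor.CC

theorem steps_ok : rangeOK stepOK 0 5586 = true := by decide +kernel

theorem cover_ok : rangeOK coverOK 58654 5586 = true := by decide +kernel

theorem xpt_zero : xpt 0 = pPt ∧ 58654 ≤ pPt ∧ pPt < 64240 := by decide +kernel

theorem reps_ok : rangeOK repOK 0 294 = true := by decide +kernel

theorem rep_zero : evt (repT.getD 0 []) 0 = pPt ∧ wordOK (repT.getD 0 []) = true := by decide +kernel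

theorem xpw_ok : ((List.range 19).all fun i => same (xpW.getD i []) (powW i xW)) = true := by decide +kernel

theorem x_pow_one : same (powW 19 xW) [] = true := by decide +kernel

theorem x_fix : evt xW 0 = 0 ∧ sixOK xW = true ∧ evt xW 58654 ≠ 58654 := by decide +kernel

theorem y_conj : same (cW ++ (yW ++ cW.reverse)) (powW cExp xW) = true ∧ evt cW yPt = 0 := by decide +kernel

theorem z_conj : same (zW ++ (xW ++ zW.reverse)) (powW 8 xW) = true := by decide +kernel

theorem z_sq : same (zW ++ zW) uW = true := by decide +kernel

theorem u_facts : evt uW 0 = 0 ∧ sixOK uW = true := by decide +kernel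

theorem h_ok : ((List.range 45).all fun i => Nat.beq (evt (hW.getD i []) 0) (fixU.getD i 0) &&
    same (hW.getD i [] ++ uW) (uW ++ hW.getD i [])) = true := by decide +kernel

theorem fixU_length : fixU.length = 45 ∧ hW.length = 45 := by decide +kernel

theorem fixU_class : (fixU.all fun f => !Nat.beq (Tab.lab f) 2 || qU.contains f) = true := by decide +kernel

theorem q_ok : qU.length = 6 ∧ qW.length = 6 ∧ ((List.range 6).all fun i =>
    Nat.beq (evt (qW.getD i []) pPt) (qU.getD i 0) && sixOK (qW.getD i []) &&
      same (qW.getD i [] ++ uW) (uW ++ qW.getD i [])) = true := by decide +kernel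

theorem p_reach : evt pW 58654 = pPt ∧ sixOK pW = true := by decide +kernel

theorem stab_ok : stabW.all stabOK = true := by decide +kernel

theorem stab_keys : stabW.map key = stabKeys := by decide +kernel

theorem keys_incr : incr stabKeys = true ∧ stabKeys.length = 672 := by decide +kernel

theorem d_comm : (dW.all fun d => same (d ++ uW) (uW ++ d)) = true := by decide +kernel

theorem w_facts : same (wW ++ uW) (uW ++ wW) = true ∧ same (wW ++ wW) [] = true ∧
    differ wW [] = true := by decide +kernel

theorem w_at : same (invW.getD wIdx []) wW = true ∧ same (invW.getD vIdx []) vW = true := by decide +kernel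

theorem inv_length : invW.length = 45 := by decide +kernel

theorem gen_ok : ((List.range 7).all fun y => same (substW 1 wW (genPat.getD y [])) [y]) = true := by
  decide +kernel

theorem tests_ok : (testW.all fun t => same (powW t.2 (substW 1 wW t.1)) []) = true := by decide +kernel

theorem wit_ok : ((List.range 3).all fun c => (List.range 45).all fun j => witOK c j) = true := by
  decide +kernel

theorem sig_rels : (pres.relW.all fun r => same (sigOf r) []) = true := by decide +kernel

theorem sig_x : same (sigOf xW) xW = true := by decide +kernel

theorem sig_w : same (sigOf wW) vW = true := by decide +kernel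

theorem x_moves : ((List.range 19).all fun i =>
    differ (xpW.getD i [] ++ (wW ++ (xpW.getD i []).reverse)) vW) = true := by decide +kernel

theorem small_arith : ∀ k : Fin 19, (k : ℕ) ≠ 0 →
    ∃ j : Fin 6, ∃ c : Fin 3, (k : ℕ) * 8 ^ (j : ℕ) % 19 = expReps.getD c 0 := by decide +kernel

end Cfsg.Agent.Spor.ONCert.Outer
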