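import Cfsg.Agent.Lib.Spor.ONOutChecks

/-!
Scans of all points.
-/

set_option autoImplicit false
set_option maxRecDepth 100000

namespace Cfsg.Agent.Spor.ONCert.Outer

open Cfsg.Agent.Spor.CC

theorem fix11 : rangeOK fixAll 30690 2790 = true := by decide +kernel

theorem fix12 : rangeOK fixAll 33480 2790 = true := by decide +kernel

theorem fix13 : rangeOK fixAll 36270 2790 = true := by decide +kernel

theorem fix14 : rangeOK fixAll 39060 2790 = true := by decide +kernel

theorem fix15 : rangeOK fixAll 41850 2790 = true := by decide +kernel

theorem fix16 : rangeOK fixAll 44640 2790 = true := by decide +kernel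

theorem fix17 : rangeOK fixAll 47430 2790 = true := by decide +kernel

theorem fix18 : rangeOK fixAll 50220 2790 = true := by decide +kernel

theorem fix19 : rangeOK fixAll 53010 2790 = true := by decide +kernel

theorem fix20 : rangeOK fixAll 55800 2790 = true := by decide +kernel

theorem fix21 : rangeOK fixAll 58590 2790 = true := by decide +kernel

end Cfsg.Agent.Spor.ONCert.Outer
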