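import Cfsg.Agent.Lib.Spor.ONOutChecks

/-!
Scans of all points.
-/

set_option autoImplicit false
set_option maxRecDepth 100000

namespace Cfsg.Agent.Spor.ONCert.Outer

open Cfsg.Agent.Spor.CC

theorem fix22 : rangeOK fixAll 61380 2790 = true := by decide +kernel

theorem fix23 : rangeOK fixAll 64170 2790 = true := by decide +kernel

theorem fix24 : rangeOK fixAll 66960 2790 = true := by decide +kernel

theorem fix25 : rangeOK fixAll 69750 2790 = true := by decide +kernel

theorem fix26 : rangeOK fixAll 72540 2790 = true := by decide +kernel

theorem fix27 : rangeOK fixAll 75330 2790 = true := by decide +kernel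

theorem fix28 : rangeOK fixAll 78120 2790 = true := by decide +kernel

theorem fix29 : rangeOK fixAll 80910 2790 = true := by decide +kernel

theorem fix30 : rangeOK fixAll 83700 2790 = true := by decide +kernel

theorem fix31 : rangeOK fixAll 86490 2790 = true := by decide +kernel

theorem fix32 : rangeOK fixAll 89280 2790 = true := by decide +kernel

end Cfsg.Agent.Spor.ONCert.Outer
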