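import Cfsg.Agent.Lib.Spor.ONOutChecks

/-!
Scans of all points.
-/

set_option autoImplicit false
set_option maxRecDepth 100000

namespace Cfsg.Agent.Spor.ONCert.Outer

open Cfsg.Agent.Spor.CC

theorem fix33 : rangeOK fixAll 92070 2790 = true := by decide +kernel

theorem fix34 : rangeOK fixAll 94860 2790 = true := by decide +kernel

theorem fix35 : rangeOK fixAll 97650 2790 = true := by decide +kernel

theorem fix36 : rangeOK fixAll 100440 2790 = true := by decide +kernel

theorem fix37 : rangeOK fixAll 103230 2790 = true := by decide +kernel

theorem fix38 : rangeOK fixAll 106020 2790 = true := by decide +kernel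

theorem fix39 : rangeOK fixAll 108810 2790 = true := by decide +kernel

theorem fix40 : rangeOK fixAll 111600 2790 = true := by decide +kernel

theorem fix41 : rangeOK fixAll 114390 2790 = true := by decide +kernel

theorem fix42 : rangeOK fixAll 117180 2790 = true := by decide +kernel

theorem fix43 : rangeOK fixAll 119970 2790 = true := by decide +kernel

end Cfsg.Agent.Spor.ONCert.Outer
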