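import Cfsg.Agent.Lib.Spor.ONOutChecks

/-!
Scans of all points.
-/

set_option autoImplicit false
set_option maxRecDepth 100000

namespace Cfsg.Agent.Spor.ONCert.Outer

open Cfsg.Agent.Spor.CC

theorem lab0 : rangeOK labAll 0 2790 = true := by decide +kernel

theorem lab1 : rangeOK labAll 2790 2790 = true := by decide +kernel

theorem lab2 : rangeOK labAll 5580 2790 = true := by decide +kernel

theorem lab3 : rangeOK labAll 8370 2790 = true := by decide +kernel

theorem lab4 : rangeOK labAll 11160 2790 = true := by decide +kernel

theorem lab5 : rangeOK labAll 13950 2790 = true := by decide +kernel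

theorem lab6 : rangeOK labAll 16740 2790 = true := by decide +kernel

theorem lab7 : rangeOK labAll 19530 2790 = true := by decide +kernel

theorem lab8 : rangeOK labAll 22320 2790 = true := by decide +kernel

theorem lab9 : rangeOK labAll 25110 2790 = true := by decide +kernel

theorem lab10 : rangeOK labAll 27900 2790 = true := by decide +kernel

end Cfsg.Agent.Spor.ONCert.Outer
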