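import Cfsg.Agent.Lib.Spor.ONOutChecks

/-!
Scans of all points.
-/

set_option autoImplicit false
set_option maxRecDepth 100000

namespace Cfsg.Agent.Spor.ONCert.Outer

open Cfsg.Agent.Spor.CC

theorem lab11 : rangeOK labAll 30690 2790 = true := by decide +kernel

theorem lab12 : rangeOK labAll 33480 2790 = true := by decide +kernel

theorem lab13 : rangeOK labAll 36270 2790 = true := by decide +kernel

theorem lab14 : rangeOK labAll 39060 2790 = true := by decide +kernel

theorem lab15 : rangeOK labAll 41850 2790 = true := by decide +kernel

theorem lab16 : rangeOK labAll 44640 2790 = true := by decide +kernel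

theorem lab17 : rangeOK labAll 47430 2790 = true := by decide +kernel

theorem lab18 : rangeOK labAll 50220 2790 = true := by decide +kernel

theorem lab19 : rangeOK labAll 53010 2790 = true := by decide +kernel

theorem lab20 : rangeOK labAll 55800 2790 = true := by decide +kernel

theorem lab21 : rangeOK labAll 58590 2790 = true := by decide +kernel

end Cfsg.Agent.Spor.ONCert.Outer
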