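import Cfsg.Agent.Lib.Spor.ONOutChecks

/-!
Scans of all points.
-/

set_option autoImplicit false
set_option maxRecDepth 100000

namespace Cfsg.Agent.Spor.ONCert.Outer

open Cfsg.Agent.Spor.CC

theorem lab22 : rangeOK labAll 61380 2790 = true := by decide +kernel

theorem lab23 : rangeOK labAll 64170 2790 = true := by decide +kernel

theorem lab24 : rangeOK labAll 66960 2790 = true := by decide +kernel

theorem lab25 : rangeOK labAll 69750 2790 = true := by decide +kernel

theorem lab26 : rangeOK labAll 72540 2790 = true := by decide +kernel

theorem lab27 : rangeOK labAll 75330 2790 = true := by decide +kernel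

theorem lab28 : rangeOK labAll 78120 2790 = true := by decide +kernel

theorem lab29 : rangeOK labAll 80910 2790 = true := by decide +kernel

theorem lab30 : rangeOK labAll 83700 2790 = true := by decide +kernel

theorem lab31 : rangeOK labAll 86490 2790 = true := by decide +kernel

theorem lab32 : rangeOK labAll 89280 2790 = true := by decide +kernel

end Cfsg.Agent.Spor.ONCert.Outer
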