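import Cfsg.Agent.Lib.Spor.ONOutChecks

/-!
Scans of all points.
-/

set_option autoImplicit false
set_option maxRecDepth 100000

namespace Cfsg.Agent.Spor.ONCert.Outer

open Cfsg.Agent.Spor.CC

theorem lab33 : rangeOK labAll 92070 2790 = true := by decide +kernel

theorem lab34 : rangeOK labAll 94860 2790 = true := by decide +kernel

theorem lab35 : rangeOK labAll 97650 2790 = true := by decide +kernel

theorem lab36 : rangeOK labAll 100440 2790 = true := by decide +kernel

theorem lab37 : rangeOK labAll 103230 2790 = true := by decide +kernel

theorem lab38 : rangeOK labAll 106020 2790 = true := by decide +kernel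

theorem lab39 : rangeOK labAll 108810 2790 = true := by decide +kernel

theorem lab40 : rangeOK labAll 111600 2790 = true := by decide +kernel

theorem lab41 : rangeOK labAll 114390 2790 = true := by decide +kernel

theorem lab42 : rangeOK labAll 117180 2790 = true := by decide +kernel

theorem lab43 : rangeOK labAll 119970 2790 = true := by decide +kernel

end Cfsg.Agent.Spor.ONCert.Outer
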