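import Cfsg.Agent.Lib.Spor.ONOutScanFix0
import Cfsg.Agent.Lib.Spor.ONOutScanFix1
import Cfsg.Agent.Lib.Spor.ONOutScanFix2
import Cfsg.Agent.Lib.Spor.ONOutScanFix3
import Cfsg.Agent.Lib.Spor.ONOutScanLab0
import Cfsg.Agent.Lib.Spor.ONOutScanLab1
import Cfsg.Agent.Lib.Spor.ONOutScanLab2
import Cfsg.Agent.Lib.Spor.ONOutScanLab3
import Cfsg.Agent.Lib.Spor.PermBig

/-!
The scans assembled.
-/

set_option autoImplicit false
set_option maxRecDepth 100000

namespace Cfsg.Agent.Spor.ONCert.Outer

open Cfsg.Agent.Spor.CC

theorem fix_range : Range fixAll 0 122760 := ((((((range_of_ok fix0).append (range_of_ok fix1)).append ((range_of_ok fix2).append ((range_of_ok fix3).append (range_of_ok fix4)))).append (((range_of_ok fix5).append ((range_of_ok fix6).append (range_of_ok fix7))).append ((range_of_ok fix8).append ((range_of_ok fix9).append (range_of_ok fix10))))).append ((((range_of_ok fix11).append (range_of_ok fix12)).append ((range_of_ok fix13).append ((range_of_ok fix14).append (range_of_ok fix15)))).append (((range_of_ok fix16).append ((range_of_ok fix17).append (range_of_ok fix18))).append ((range_of_ok fix19).append ((range_of_ok fix20).append (range_of_ok fix21)))))).append (((((range_of_ok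 fix22).append (range_of_ok fix23)).append ((range_of_ok fix24).append ((range_of_ok fix25).append (range_of_ok fix26)))).append (((range_of_ok fix27).append ((range_of_ok fix28).append (range_of_ok fix29))).append ((range_of_ok fix30).append ((range_of_ok fix31).append (range_of_ok fix32))))).append ((((range_of_ok fix33).append (range_of_ok fix34)).append ((range_of_ok fix35).append ((range_of_ok fix36).append (range_of_ok fix37)))).append (((range_of_ok fix38).append ((range_of_ok fix39).append (range_of_ok fix40))).append ((range_of_ok fix41).append ((range_of_ok fix42).append (range_of_ok fix43)))))))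

theorem lab_range : Range labAll 0 122760 := ((((((range_of_ok lab0).append (range_of_ok lab1)).append ((range_of_ok lab2).append ((range_of_ok lab3).append (range_of_ok lab4)))).append (((range_of_ok lab5).append ((range_of_ok lab6).append (range_of_ok lab7))).append ((range_of_ok lab8).append ((range_of_ok lab9).append (range_of_ok lab10))))).append ((((range_of_ok lab11).append (range_of_ok lab12)).append ((range_of_ok lab13).append ((range_of_ok lab14).append (range_of_ok lab15)))).append (((range_of_ok lab16).append ((range_of_ok lab17).append (range_of_ok lab18))).append ((range_of_ok lab19).append ((range_of_ok lab20).append (range_of_ok lab21)))))).append (((((range_of_ok lab22).append (range_of_ok lab23)).append ((range_of_ok lab24).append ((range_of_ok lab25).append (range_of_ok lab26)))).append (((range_of_ok lab27).append ((range_of_ok lab28).append (range_of_ok lab29))).append ((range_of_ok lab30).append ((range_of_ok lab31).append (range_of_ok lab32))))).append ((((range_of_ok lab33).append (range_of_ok lab34)).append ((range_of_ok lab35).append ((range_of_ok lab36).append (range_of_ok lab37)))).append (((range_of_ok lab38).append ((range_of_ok lab39).append (range_of_ok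 lab40))).append ((range_of_ok lab41).append ((range_of_ok lab42).append (range_of_ok lab43)))))))

end Cfsg.Agent.Spor.ONCert.Outer
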