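import Cfsg.Agent.Lib.Spor.ONOutBasic
import Cfsg.Agent.Lib.Spor.ONOutFacts
import Cfsg.Agent.Lib.Spor.ONOutScans

/-!
Centralisers of an element of order nineteen and of one of order three in the O'Nan group.
-/

set_option autoImplicit false
set_option maxRecDepth 100000

namespace Cfsg.Agent.Spor.ONCert.Outer

open Cfsg.Agent.Spor.CC

/-- the element of order nineteen -/
def xEl : pres.Grp := el xW

/-- the element normalising it -/
def zEl : pres.Grp := el zW

/-- the element of order three -/
def uEl : pres.Grp := el uW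

/-- the second generator -/
def wEl : pres.Grp := el wW

/-- the point in the class of 5586 points -/
def pFin : Fin Tab.tab.n := ⟨pPt, by decide⟩

theorem x_pow : xEl ^ 19 = 1 := by
  rw [xEl, ← el_powW, same_spec x_pow_one, el_nil]

theorem x_pow_mod (n : ℕ) : xEl ^ (n % 19) = xEl ^ n := by
  conv_rhs => rw [← Nat.mod_add_div n 19, pow_add, pow_mul, x_pow, one_pow, mul_one]

theorem x_ne : xEl ≠ 1 := by
  intro e
  obtain ⟨-, hl, hne⟩ := x_fix
  apply hne
  have h := evt_apply (wordOK_of_six hl) (⟨58654, by decide⟩ : Fin Tab.tab.n)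
  rw [← xEl, e, map_one, Equiv.Perm.one_apply] at h
  exact h.symm

theorem x_order : orderOf xEl = 19 := by
  haveI : Fact (Nat.Prime 19) := ⟨by norm_num⟩
  exact orderOf_eq_prime x_pow x_ne

theorem xpow_el {i : ℕ} (hi : i < 19) : el (xpW.getD i []) = xEl ^ i := by
  rw [same_spec (List.all_eq_true.mp xpw_ok i (List.mem_range.mpr hi)), el_powW]
  rfl

theorem xpow_word {i : ℕ} (hi : i < 19) : wordOK (xpW.getD i []) = true := by
  have h := List.all_eq_true.mp xpw_ok i (List.mem_range.mpr hi)
  simp only [same, Bool.and_eq_true] at h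
  exact h.1.1

theorem lab_six {g : pres.Grp} (hg : g ∈ pres.sub six) :
    ∀ u : Fin Tab.tab.n, Tab.lab (A g u) = Tab.lab u := by
  refine Subgroup.closure_induction ?_ ?_ ?_ ?_ hg
  · rintro _ ⟨x, hx, rfl⟩ u
    have h := lab_range u (Nat.zero_le _) (lt_of_lt_of_eq u.2 tab_n)
    simp only [six, Set.mem_setOf_eq, List.mem_cons, List.not_mem_nil, or_false] at hx
    simp only [labAll, Bool.and_eq_true] at h
    obtain ⟨h0, h1, h2, h3, h4, h5⟩ := h
    rw [act_val facts (by omega)]
    rcases hx with rfl | rfl | rfl | rfl | rfl | rfl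
    exacts [Nat.eq_of_beq_eq_true h0, Nat.eq_of_beq_eq_true h1, Nat.eq_of_beq_eq_true h2,
      Nat.eq_of_beq_eq_true h3, Nat.eq_of_beq_eq_true h4, Nat.eq_of_beq_eq_true h5]
  · intro u; rw [map_one, Equiv.Perm.one_apply]
  · intro a b _ _ ha hb u
    rw [map_mul, Equiv.Perm.mul_apply, ha, hb]
  · intro a _ ha u
    conv_rhs => rw [← Equiv.apply_symm_apply (A a) u, ha]
    rw [map_inv, Equiv.Perm.inv_def]

theorem lab_two {u : Fin Tab.tab.n} (h : Tab.lab u = 2) : 58654 ≤ (u : ℕ) ∧ (u : ℕ) < 64240 :=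
  (lab_iff (lt_of_lt_of_eq u.2 tab_n) (i := 2) (by norm_num)).mp h

theorem p_lab : Tab.lab (pFin : ℕ) = 2 := by decide +kernel

theorem x_base : A xEl base = base :=
  Fin.ext ((evt_apply (wordOK_of_six x_fix.2.1) base).trans x_fix.1)

theorem evt_y (u : ℕ) : evt yW u = Tab.rows 1 (Tab.rows 2 (Tab.rows 4 (Tab.rows 6 u))) := by
  simp only [evt, yW, ev, List.foldr_cons, List.foldr_nil, CC.img]

theorem evt_u (u : ℕ) : evt uW u = Tab.rows 0 (Tab.rows 1 u) := by
  simp only [evt, uW, ev, List.foldr_cons, List.foldr_nil, CC.img]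

theorem fix_unique {v : Fin Tab.tab.n} (h : A xEl v = v) : v = base := by
  obtain ⟨hc, hc0⟩ := y_conj
  have hlet := hc
  simp only [same, Bool.and_eq_true, wordOK, List.all_append] at hlet
  have hcW : wordOK cW = true := hlet.1.1.1
  have hyW : wordOK yW = true := hlet.1.1.2.1
  have e := same_spec hc
  rw [el_append, el_append, el_reverse, el_powW, ← xEl] at e
  set v' := (A (el cW))⁻¹ v with hv'
  have hm : A (xEl ^ cExp) v = v := by
    rw [map_pow]; exact Equiv.Perm.pow_apply_eq_self_of_apply_eq_self h _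
  rw [← e, map_mul, map_mul, map_inv, Equiv.Perm.mul_apply, Equiv.Perm.mul_apply, ← hv'] at hm
  have hy : A (el yW) v' = v' := by
    rw [hv', Equiv.Perm.inv_def, Equiv.eq_symm_apply]
    exact hm
  have hs := fix_range v' (Nat.zero_le _) (lt_of_lt_of_eq v'.2 tab_n)
  simp only [fixAll, Bool.and_eq_true] at hs
  have hy2 : Nat.beq (Tab.rows 1 (Tab.rows 2 (Tab.rows 4 (Tab.rows 6 (v' : ℕ))))) v' = true := by
    rw [← evt_y, ← evt_apply hyW, hy]
    exact Nat.beq_refl _
  have h2 := hs.2
  rw [hy2, cond_true] at h2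
  apply Fin.ext
  calc (v : ℕ) = (A (el cW) v' : Fin Tab.tab.n) := by rw [hv', Equiv.Perm.inv_def, Equiv.apply_symm_apply]
    _ = evt cW v' := evt_apply hcW _
    _ = 0 := by rw [Nat.eq_of_beq_eq_true h2]; exact hc0

theorem stab_base_of_commute {g : pres.Grp} (hg : Commute xEl g) : A g base = base := by
  apply fix_unique
  rw [← Equiv.Perm.mul_apply, ← map_mul, hg.eq, map_mul, Equiv.Perm.mul_apply, x_base]

/-- the elements fixing the base point and `pFin` are listed -/
theorem stab_list {g : pres.Grp} (hb : A g base = base) (hp : A g pFin = pFin) :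
    ∃ w ∈ stabW, g = el w := by
  haveI := finite facts
  obtain ⟨hincr, hlen⟩ := keys_incr
  obtain ⟨hpw, hp6⟩ := p_reach
  let S : Subgroup pres.Grp := pres.sub six ⊓ stab A pFin
  have hchain := Tab.chain_ok
  simp only [Tab.levels, chainOK, Bool.and_eq_true] at hchain
  obtain ⟨⟨⟨⟨-, hO⟩, hl⟩, -⟩, -⟩ := hchain
  have hlev : Tab.lev0 ∈ Tab.levels := List.mem_cons_self ..
  let a : Fin Tab.tab.n := ⟨58654, by decide⟩
  have horb := orb_mem facts.valid pres.gen A (act_gen facts) hO hl (pres.sub six)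
    (fun w hw => el_six (chain_letters_lt hlev hw)) a rfl
  have hpa : A (el pW) a = pFin := Fin.ext ((evt_apply (wordOK_of_six hp6) a).trans hpw)
  let f : Fin 5586 × S → pres.sub six := fun t =>
    ⟨(horb t.1 t.1.2).choose * (el pW)⁻¹ * (t.2 : pres.Grp),
      mul_mem (mul_mem (horb t.1 t.1.2).choose_spec.1 (inv_mem (el_six hp6))) t.2.2.1⟩
  have hf : Function.Injective f := by
    rintro ⟨i, s⟩ ⟨j, t⟩ e
    have e' : (horb i i.2).choose * (el pW)⁻¹ * (s : pres.Grp) =
        (horb j j.2).choose * (el pW)⁻¹ * (t : pres.Grp) := congrArg Subtype.val e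
    have key : ∀ (k : Fin 5586) (r : S),
        ((A ((horb k k.2).choose * (el pW)⁻¹ * (r : pres.Grp)) pFin : Fin Tab.tab.n) : ℕ) =
          fld Tab.lev0.pts 16 k := fun k r => by
      rw [map_mul, map_mul, Equiv.Perm.mul_apply, Equiv.Perm.mul_apply, mem_stab.mp r.2.2, map_inv,
        show (A (el pW))⁻¹ pFin = a by rw [← hpa, Equiv.Perm.inv_def, Equiv.symm_apply_apply]]
      exact (horb k k.2).choose_spec.2
    have h1 := key i s
    rw [e', key j t] at h1
    obtain rfl : i = j := Fin.ext (orb_inj (P := Tab.tab) (O := Tab.lev0) hO i.2 j.2 h1.symm)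
    rw [Prod.mk.injEq]
    exact ⟨rfl, Subtype.ext (mul_left_cancel e')⟩
  haveI : Finite (pres.sub six) := facts.six_card.1
  have hcard : Nat.card S ≤ 672 := by
    have h := Nat.card_le_card_of_injective f hf
    rw [Nat.card_prod, Nat.card_fin, (six_image facts).1] at h
    omega
  have hlenW : stabW.length = 672 := by rw [← hlen, ← stab_keys, List.length_map]
  have hmem : ∀ w ∈ stabW, el w ∈ S := fun w hw => by
    have h := List.all_eq_true.mp stab_ok w hw
    simp only [stabOK, Bool.and_eq_true] at h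
    obtain ⟨⟨⟨h6, hfix⟩, -⟩, -⟩ := h
    exact ⟨el_six h6, mem_stab.mpr (Fin.ext
      ((evt_apply (wordOK_of_six h6) pFin).trans (Nat.eq_of_beq_eq_true hfix)))⟩
  let F : Fin stabW.length → S := fun j => ⟨el stabW[j], hmem _ (List.getElem_mem j.2)⟩
  have hnd : ∀ l : List ℕ, incr l = true → l.Pairwise (· < ·) := by
    intro l
    induction l with
    | nil => simp
    | cons x l ih =>
      intro h
      cases l with
      | nil => simp
      | cons y r =>
        simp only [incr, Bool.and_eq_true] at h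
        have hxy : x < y := Nat.le_of_ble_eq_true h.1
        have ih' := ih h.2
        refine List.pairwise_cons.mpr ⟨fun z hz => ?_, ih'⟩
        rcases List.mem_cons.mp hz with rfl | hz
        · exact hxy
        · exact hxy.trans ((List.pairwise_cons.mp ih').1 z hz)
  have hF : Function.Injective F := by
    intro i j e
    have e' : el stabW[i] = el stabW[j] := congrArg Subtype.val e
    have hw : ∀ k : Fin stabW.length, wordOK stabW[k] = true := fun k => by
      have h := List.all_eq_true.mp stab_ok _ (List.getElem_mem k.2)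
      simp only [stabOK, Bool.and_eq_true] at h
      exact wordOK_of_six h.1.1.1
    have hval : ∀ b : ℕ, b < 122760 → evt stabW[i] b = evt stabW[j] b := fun b hb' => by
      rw [← evt_apply (hw i) ⟨b, hb'⟩, ← evt_apply (hw j) ⟨b, hb'⟩, e']
    have hk : key stabW[i] = key stabW[j] := by
      rw [key, key, hval 58654 (by norm_num), hval 58973 (by norm_num)]
    have hn : (stabW.map key).Nodup := by
      rw [stab_keys]
      exact (hnd _ hincr).imp fun h => h.ne
    refine Fin.ext (hn.getElem_inj_iff (hi := by simp) (hj := by simp) |>.mp ?_)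
    simpa using hk
  have hbij := hF.bijective_of_nat_card_le (by rw [Nat.card_fin]; omega)
  obtain ⟨j, hj⟩ := hbij.2 ⟨g, ⟨base_stab.mpr hb, mem_stab.mpr hp⟩⟩
  exact ⟨_, List.getElem_mem j.2, (congrArg Subtype.val hj).symm⟩

theorem xpt_pow (r : ℕ) (hr : r < 294) (u : Fin Tab.tab.n) (hu : (u : ℕ) = xpt (r * 19)) :
    ∀ j, j < 19 → ((A (xEl ^ j) u : Fin Tab.tab.n) : ℕ) = xpt (r * 19 + j)
  | 0, _ => by rw [pow_zero, map_one, Equiv.Perm.one_apply, hu, Nat.add_zero]
  | j + 1, hj => by
    rw [pow_succ', map_mul, Equiv.Perm.mul_apply, xEl, evt_apply (wordOK_of_six x_fix.2.1), ← xEl,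
      xpt_pow r hr u hu j (by omega)]
    have h := all_range steps_ok (u := r * 19 + j) (Nat.zero_le _) (by omega)
    simp only [stepOK, Bool.or_eq_true] at h
    rcases h with h | h
    · have := Nat.eq_of_beq_eq_true h
      omega
    · exact Nat.eq_of_beq_eq_true h

theorem cent_x {g : pres.Grp} (hg : Commute xEl g) : ∃ i, g = xEl ^ i := by
  have hb := stab_base_of_commute hg
  have hg6 := base_stab.mpr hb
  have hlab : Tab.lab (A g pFin : Fin Tab.tab.n) = 2 := (lab_six hg6 pFin).trans p_lab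
  obtain ⟨h1, h2⟩ := lab_two hlab
  have hc := all_range cover_ok h1 (by omega)
  simp only [coverOK, Bool.and_eq_true] at hc
  have hi : xpos (A g pFin : Fin Tab.tab.n) < 5586 := Nat.le_of_ble_eq_true hc.1
  have hq : xpt (xpos (A g pFin : Fin Tab.tab.n)) = (A g pFin : Fin Tab.tab.n) :=
    Nat.eq_of_beq_eq_true hc.2
  generalize xpos (A g pFin : Fin Tab.tab.n) = i at hi hq
  have hr : i / 19 < 294 := by omega
  set r := i / 19 with hrdef
  set j := i % 19 with hjdef
  have hj : j < 19 := Nat.mod_lt _ (by norm_num)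
  have hrep := all_range reps_ok (u := r) (Nat.zero_le _) (by omega)
  -- the first point of the orbit
  obtain ⟨u, hu, hsig⟩ : ∃ u : Fin Tab.tab.n, (u : ℕ) = xpt (r * 19) ∧ (r = 0 ∨
      (wordOK (repT.getD r []) = true ∧ A (el (repT.getD r [])) base = u ∧ repWit.getD r 0 < 19 ∧
        Tab.lab (evt ((repT.getD r []).reverse ++ xpW.getD (repWit.getD r 0) []) u) ≠
          Tab.lab (evt ((repT.getD 0 []).reverse ++ xpW.getD (repWit.getD r 0) []) pPt))) := by
    by_cases h0 : r = 0
    · exact ⟨pFin, by rw [h0]; exact xpt_zero.1.symm, Or.inl h0⟩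
    · simp only [repOK, Bool.or_eq_true, Bool.and_eq_true, Bool.not_eq_true'] at hrep
      rcases hrep with hrep | ⟨⟨⟨hw, ht⟩, hwit⟩, hne⟩
      · exact absurd (Nat.eq_of_beq_eq_true hrep) h0
      · have hu : ((A (el (repT.getD r [])) base : Fin Tab.tab.n) : ℕ) = xpt (r * 19) :=
          (evt_apply hw base).trans (Nat.eq_of_beq_eq_true ht)
        refine ⟨_, hu, Or.inr ⟨hw, rfl, Nat.le_of_ble_eq_true hwit, ?_⟩⟩
        rw [hu]
        exact fun e => by rw [e, Nat.beq_refl] at hne; cases hne
  have hxu : A (xEl ^ j) u = A g pFin := Fin.ext (by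
    rw [xpt_pow r hr u hu j hj, ← hq]
    congr 1
    omega)
  set g' := (xEl ^ j)⁻¹ * g with hg'def
  have hg' : Commute xEl g' := (((Commute.refl xEl).pow_right j).inv_right).mul_right hg
  have hp' : A g' pFin = u := by
    rw [map_mul, Equiv.Perm.mul_apply, ← hxu, map_inv, Equiv.Perm.inv_def, Equiv.symm_apply_apply]
  have hb' := stab_base_of_commute hg'
  rcases hsig with h0 | ⟨hw, ht, hwit, hne⟩
  · have hpu : u = pFin := Fin.ext (by rw [hu, h0]; exact xpt_zero.1)
    rw [hpu] at hp'
    obtain ⟨w, hw, e⟩ := stab_list hb' hp'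
    have h := List.all_eq_true.mp stab_ok w hw
    simp only [stabOK, Bool.and_eq_true, Bool.or_eq_true, Bool.not_eq_true'] at h
    obtain ⟨⟨⟨h6, -⟩, -⟩, hlast⟩ := h
    rcases hlast with hne | hs
    · exfalso
      have hx1 : ((A xEl pFin : Fin Tab.tab.n) : ℕ) = xpt 1 := by
        have := xpt_pow 0 (by norm_num) pFin xpt_zero.1.symm 1 (by norm_num)
        simpa using this
      have hfix : A g' (A xEl pFin) = A xEl pFin := by
        rw [← Equiv.Perm.mul_apply, ← map_mul, ← hg'.eq, map_mul, Equiv.Perm.mul_apply, hp']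
      have := evt_apply (wordOK_of_six h6) (A xEl pFin)
      rw [← e, hfix, hx1] at this
      rw [← this, Nat.beq_refl] at hne
      cases hne
    · refine ⟨j, ?_⟩
      rw [same_spec hs, el_nil, hg'def, inv_mul_eq_one] at e
      exact e.symm
  · exfalso
    obtain ⟨ht0, hw0⟩ := rep_zero
    apply hne
    set k := repWit.getD r 0 with hk
    set T := el (repT.getD r []) with hT
    set T0 := el (repT.getD 0 []) with hT0
    have hT0p : A T0 base = pFin := Fin.ext ((evt_apply hw0 base).trans ht0)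
    have hs : T⁻¹ * g' * T0 ∈ pres.sub six := base_stab.mpr (by
      rw [map_mul, map_mul, Equiv.Perm.mul_apply, Equiv.Perm.mul_apply, hT0p, hp', ← ht, map_inv,
        Equiv.Perm.inv_def, Equiv.symm_apply_apply])
    have e := lab_six hs ((A T0)⁻¹ (A (xEl ^ k) pFin))
    have e2 : A (T⁻¹ * g' * T0) ((A T0)⁻¹ (A (xEl ^ k) pFin)) = (A T)⁻¹ (A (xEl ^ k) u) := by
      rw [map_mul, map_mul, Equiv.Perm.mul_apply, Equiv.Perm.mul_apply]
      simp only [Equiv.Perm.inv_def, Equiv.apply_symm_apply, map_inv]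
      congr 1
      rw [← Equiv.Perm.mul_apply, ← map_mul, ← (hg'.pow_left k).eq, map_mul, Equiv.Perm.mul_apply, hp']
    rw [e2] at e
    have hwr : ∀ a : List ℕ, wordOK a = true → wordOK (a.reverse ++ xpW.getD k []) = true := fun a ha => by
      simp only [wordOK, List.all_append, List.all_reverse, Bool.and_eq_true]
      exact ⟨ha, xpow_word hwit⟩
    rw [← evt_apply (hwr _ hw) u, show pPt = ((pFin : Fin Tab.tab.n) : ℕ) from rfl,
      ← evt_apply (hwr _ hw0) pFin, el_append, el_append, el_reverse, el_reverse, xpow_el hwit,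
      map_mul, map_mul, map_inv, map_inv, Equiv.Perm.mul_apply, Equiv.Perm.mul_apply]
    exact e

theorem u_base : A uEl base = base :=
  Fin.ext ((evt_apply (wordOK_of_six u_facts.2) base).trans u_facts.1)

theorem u_p : A uEl pFin = pFin := by
  have h : evt uW pPt = pPt := by decide +kernel
  exact Fin.ext ((evt_apply (wordOK_of_six u_facts.2) pFin).trans h)

theorem u_fixed {v : Fin Tab.tab.n} (h : A uEl v = v) : (v : ℕ) ∈ fixU := by
  have hs := fix_range v (Nat.zero_le _) (lt_of_lt_of_eq v.2 tab_n)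
  simp only [fixAll, Bool.and_eq_true] at hs
  have h2 : Nat.beq (Tab.rows 0 (Tab.rows 1 (v : ℕ))) v = true := by
    rw [← evt_u, ← evt_apply (wordOK_of_six u_facts.2), ← uEl, h]
    exact Nat.beq_refl _
  have h3 := hs.1
  rw [h2, cond_true] at h3
  exact List.contains_iff_mem.mp h3

theorem cent_u {g : pres.Grp} (hg : Commute uEl g) : ∃ a ∈ candW, g = el a := by
  have hfix : A uEl (A g base) = A g base := by
    rw [← Equiv.Perm.mul_apply, ← map_mul, hg.eq, map_mul, Equiv.Perm.mul_apply, u_base]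
  obtain ⟨i, hi, hie⟩ := List.mem_iff_getElem.mp (u_fixed hfix)
  have hi45 : i < 45 := fixU_length.1 ▸ hi
  have hh := List.all_eq_true.mp h_ok i (List.mem_range.mpr hi45)
  simp only [Bool.and_eq_true] at hh
  have hhW : wordOK (hW.getD i []) = true := by
    have h2 := hh.2
    simp only [same, Bool.and_eq_true, wordOK, List.all_append] at h2
    exact h2.1.1.1
  have hcomh : Commute uEl (el (hW.getD i [])) := by
    have e := same_spec hh.2
    rw [el_append, el_append] at e
    exact e.symm
  set h := el (hW.getD i []) with hhdef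
  have hb0 : A h base = A g base := Fin.ext (by
    refine ((evt_apply hhW base).trans (Nat.eq_of_beq_eq_true hh.1)).trans ?_
    rw [List.getD_eq_getElem _ _ hi]; exact hie)
  set g1 := h⁻¹ * g with hg1
  have hc1 : Commute uEl g1 := hcomh.inv_right.mul_right hg
  have hb1 : A g1 base = base := by
    rw [map_mul, Equiv.Perm.mul_apply, ← hb0, map_inv, Equiv.Perm.inv_def, Equiv.symm_apply_apply]
  have hfix1 : A uEl (A g1 pFin) = A g1 pFin := by
    rw [← Equiv.Perm.mul_apply, ← map_mul, hc1.eq, map_mul, Equiv.Perm.mul_apply, u_p]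
  have hcl := List.all_eq_true.mp fixU_class _ (u_fixed hfix1)
  rw [(lab_six (base_stab.mpr hb1) pFin).trans p_lab] at hcl
  simp only [Nat.beq_refl, Bool.not_true, Bool.false_or] at hcl
  obtain ⟨k, hk, hke⟩ := List.mem_iff_getElem.mp (List.contains_iff_mem.mp hcl)
  obtain ⟨hq6, hqW6, hqall⟩ := q_ok
  have hqk := List.all_eq_true.mp hqall k (List.mem_range.mpr (hq6 ▸ hk))
  simp only [Bool.and_eq_true] at hqk
  set c := el (qW.getD k []) with hcdef
  have hcomc : Commute uEl c := by
    have e := same_spec hqk.2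
    rw [el_append, el_append] at e
    exact e.symm
  have hcp : A c pFin = A g1 pFin := Fin.ext (by
    refine ((evt_apply (wordOK_of_six hqk.1.2) pFin).trans (Nat.eq_of_beq_eq_true hqk.1.1)).trans ?_
    rw [List.getD_eq_getElem _ _ hk]; exact hke)
  set g2 := c⁻¹ * g1 with hg2
  have hc2 : Commute uEl g2 := hcomc.inv_right.mul_right hc1
  have hb2 : A g2 base = base :=
    base_stab.mp (mul_mem (inv_mem (el_six hqk.1.2)) (base_stab.mpr hb1))
  have hp2 : A g2 pFin = pFin := by
    rw [map_mul, Equiv.Perm.mul_apply, ← hcp, map_inv, Equiv.Perm.inv_def, Equiv.symm_apply_apply]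
  obtain ⟨d, hd, he⟩ := stab_list hb2 hp2
  have hsd := List.all_eq_true.mp stab_ok d hd
  simp only [stabOK, Bool.and_eq_true, Bool.or_eq_true] at hsd
  rcases hsd.1.2 with hdm | hdiff
  · refine ⟨hW.getD i [] ++ (qW.getD k [] ++ d), ?_, ?_⟩
    · refine List.mem_flatMap.mpr ⟨hW.getD i [], ?_, List.mem_flatMap.mpr ⟨qW.getD k [], ?_,
        List.mem_map.mpr ⟨d, List.contains_iff_mem.mp hdm, rfl⟩⟩⟩
      · rw [List.getD_eq_getElem _ _ (fixU_length.2.symm ▸ hi45)]; exact List.getElem_mem _
      · rw [List.getD_eq_getElem _ _ (show k < qW.length by omega)]; exact List.getElem_mem _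
    · rw [el_append, el_append, ← he, ← hhdef, ← hcdef, hg2, mul_inv_cancel_left, hg1, mul_inv_cancel_left]
  · exfalso
    refine differ_spec hdiff ?_
    rw [el_append, el_append, ← he]
    exact hc2.eq.symm

end Cfsg.Agent.Spor.ONCert.Outer
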