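import Cfsg.Agent.Lib.Spor.ONOutCentral
import Cfsg.Agent.Lib.Spor.ONOutCand
import Cfsg.Prelude.Def_KGroupFacts
import Mathlib.GroupTheory.Sylow

/-!
The outer automorphism group of the presented O'Nan group has order two.
-/

set_option autoImplicit false
set_option maxRecDepth 100000

namespace Cfsg.Agent.Spor.ONCert.Outer

open Cfsg.Agent.Spor.CC

theorem w_invol {a : List ℕ} (ha : a ∈ candW) (hsq : el a * el a = 1) (hne : el a ≠ 1) :
    ∃ j < 45, el a = el (invW.getD j []) := by
  have h := List.all_eq_true.mp cand_ok a ha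
  simp only [candOK, Bool.or_eq_true] at h
  rcases h with (h | h) | h
  · exact absurd (by rw [el_append, hsq, el_nil]) (differ_spec h)
  · exact absurd ((same_spec h).trans el_nil) hne
  · obtain ⟨v, hv, he⟩ := List.any_eq_true.mp h
    obtain ⟨j, hj, rfl⟩ := List.mem_iff_getElem.mp hv
    exact ⟨j, inv_length ▸ hj, by rw [List.getD_eq_getElem _ _ hj]; exact same_spec he⟩

/-- evaluation of a pattern -/
noncomputable def valP (X V : pres.Grp) (p : List ℕ) : pres.Grp :=
  (p.map fun e => if e = 0 then V else X ^ e).prod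

theorem el_subst (k : ℕ) (v : List ℕ) : ∀ p : List ℕ, el (substW k v p) = valP (xEl ^ k) (el v) p
  | [] => rfl
  | e :: p => by
    rw [substW, List.flatMap_cons, el_append, ← substW, el_subst k v p, valP, valP, List.map_cons,
      List.prod_cons]
    congr 1
    by_cases he : e = 0
    · subst he; rfl
    · rw [if_neg he, piece, show Nat.beq e 0 = false from Bool.eq_false_iff.mpr
        (fun h => he (Nat.eq_of_beq_eq_true h)), cond_false, xpow_el (Nat.mod_lt _ (by norm_num)),
        x_pow_mod, ← pow_mul, mul_comm]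

theorem map_valP (f : pres.Grp →* pres.Grp) (X V : pres.Grp) (p : List ℕ) :
    f (valP X V p) = valP (f X) (f V) p := by
  rw [valP, valP, map_list_prod, List.map_map]
  congr 1
  refine List.map_congr_left fun e _ => ?_
  by_cases he : e = 0 <;> simp [he]

theorem gens_top : Subgroup.closure {xEl, wEl} = (⊤ : Subgroup pres.Grp) := by
  rw [eq_top_iff, ← Pres.closure_gen pres_ok, Subgroup.closure_le]
  rintro _ ⟨y, hy, rfl⟩
  have hy7 : y < 7 := hy
  have h := same_spec (List.all_eq_true.mp gen_ok y (List.mem_range.mpr hy7))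
  rw [el_subst, el_single, pow_one, ← wEl] at h
  rw [← h, SetLike.mem_coe]
  refine list_prod_mem fun a ha => ?_
  obtain ⟨e, -, rfl⟩ := List.mem_map.mp ha
  by_cases he : e = 0
  · rw [if_pos he]; exact Subgroup.subset_closure (Or.inr rfl)
  · rw [if_neg he]
    exact pow_mem (Subgroup.subset_closure (show xEl ∈ ({xEl, wEl} : Set pres.Grp) from Or.inl rfl)) _

theorem ext_gens {f g : pres.Grp →* pres.Grp} (hx : f xEl = g xEl) (hw : f wEl = g wEl) : f = g :=
  MonoidHom.eq_of_eqOn_dense gens_top (by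
    rintro a (rfl | rfl)
    · exact hx
    · exact hw)

/-- images of the generators under the outer automorphism -/
noncomputable def sigG (y : ℕ) : pres.Grp := el (sigW.getD y [])

theorem el_sigOf : ∀ a : List ℕ, el (sigOf a) = (a.map sigG).prod
  | [] => rfl
  | y :: a => by
    rw [sigOf, List.flatMap_cons, el_append, ← sigOf, el_sigOf a, List.map_cons, List.prod_cons]; rfl

theorem sig_rel {r : List ℕ} (hr : r ∈ pres.relW) : (r.map sigG).prod = 1 := by
  rw [← el_sigOf, same_spec (List.all_eq_true.mp sig_rels r hr), el_nil]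

theorem sigG_sq (y : ℕ) : sigG y * sigG y = 1 := by
  by_cases hy : y < 7
  · have h := sig_rel (r := [y, y]) (by
      simp only [Pres.relW, List.mem_append, List.mem_map, List.mem_range]
      exact Or.inl (Or.inl ⟨y, hy, rfl⟩))
    simpa using h
  · rw [sigG, List.getD_eq_default _ _ (by
      have : sigW.length = 7 := rfl
      omega), el_nil, one_mul]

theorem sig_cox {x y : ℕ} (hx : x < 7) (hy : y < 7) :
    (sigG x * sigG y) ^ Cfsg.Spor.coxLabel pres.edges (pres.nm x) (pres.nm y) = 1 := by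
  have key : ∀ i j, i < 7 → j < i →
      (sigG j * sigG i) ^ Cfsg.Spor.coxLabel pres.edges (pres.nm j) (pres.nm i) = 1 := by
    intro i j hi hj
    have := sig_rel (r := powW (Cfsg.Spor.coxLabel pres.edges (pres.nm j) (pres.nm i)) [j, i]) (by
      simp only [Pres.relW, List.mem_append, List.mem_map, List.mem_flatMap, List.mem_range]
      exact Or.inl (Or.inr ⟨i, hi, j, hj, rfl⟩))
    rw [prod_powW] at this
    simpa using this
  rcases lt_trichotomy x y with hlt | rfl | hgt
  · exact key y x hy hlt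
  · rw [sigG_sq, one_pow]
  · have := key x y hx hgt
    rw [pres_ok.symm y hy x hx] at this
    have e : sigG x * sigG y = (sigG y * sigG x)⁻¹ := by
      rw [mul_inv_rev, inv_eq_of_mul_eq_one_left (sigG_sq x), inv_eq_of_mul_eq_one_left (sigG_sq y)]
    rw [e, inv_pow, this, inv_one]

theorem sig_rels_hom : ∀ r ∈ Cfsg.Spor.coxRelators pres.edges ∪ {r | r ∈ pres.extra},
    FreeGroup.lift (fun a => sigG (pres.ix a)) r = 1 := by
  intro r hr
  rcases hr with ⟨a, -, b, -, rfl⟩ | hr
  · rw [map_pow, map_mul, FreeGroup.lift_apply_of, FreeGroup.lift_apply_of]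
    have h := sig_cox (pres_ok.ix_lt a) (pres_ok.ix_lt b)
    rwa [pres_ok.nm_ix, pres_ok.nm_ix] at h
  · have key := pres_ok.extra_eq pres.Grp sigG sigG_sq
    have hmem : FreeGroup.lift (sigG ∘ pres.ix) r ∈ pres.extra.map (FreeGroup.lift (sigG ∘ pres.ix)) :=
      List.mem_map.mpr ⟨r, hr, rfl⟩
    rw [key] at hmem
    obtain ⟨w, hw, e⟩ := List.mem_map.mp hmem
    show FreeGroup.lift (sigG ∘ pres.ix) r = 1
    rw [← e]
    exact sig_rel (by simp [Pres.relW, hw])

/-- the outer automorphism as a homomorphism -/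
noncomputable def sigHom : pres.Grp →* pres.Grp := PresentedGroup.toGroup sig_rels_hom

theorem sigHom_gen (y : ℕ) : sigHom (pres.gen y) = sigG y := by
  by_cases hy : y < 7
  · rw [show pres.gen y = PresentedGroup.of (pres.nm y) from if_pos hy, sigHom, PresentedGroup.toGroup.of,
      pres_ok.ix_nm y hy]
  · rw [Pres.gen_big (Q := pres) hy, map_one, sigG, List.getD_eq_default _ _ (by
      have : sigW.length = 7 := rfl
      omega), el_nil]

theorem sigHom_el (a : List ℕ) : sigHom (el a) = el (sigOf a) := by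
  rw [el_sigOf, el, map_list_prod, List.map_map]
  exact congrArg List.prod (List.map_congr_left fun y _ => sigHom_gen y)

theorem sigHom_x : sigHom xEl = xEl := by rw [xEl, sigHom_el, same_spec sig_x]

theorem sigHom_w : sigHom wEl = el vW := by rw [wEl, sigHom_el, same_spec sig_w]

theorem sigHom_injective : Function.Injective sigHom := by
  haveI := simple facts
  rw [← MonoidHom.ker_eq_bot_iff]
  refine ((MonoidHom.normal_ker sigHom).eq_bot_or_eq_top).resolve_right fun e => x_ne ?_
  rw [← sigHom_x]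
  exact MonoidHom.mem_ker.mp (e ▸ Subgroup.mem_top xEl)

/-- the outer automorphism -/
noncomputable def sig : MulAut pres.Grp :=
  MulEquiv.ofBijective sigHom (haveI := finite facts; Finite.injective_iff_bijective.mp sigHom_injective)

theorem sig_apply (a : pres.Grp) : sig a = sigHom a := rfl

theorem sig_not_inner : sig ∉ Cfsg.Inn pres.Grp := by
  rintro ⟨g, hg⟩
  have hx : MulAut.conj g xEl = xEl := by rw [hg, sig_apply, sigHom_x]
  rw [MulAut.conj_apply, mul_inv_eq_iff_eq_mul] at hx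
  obtain ⟨i, hi⟩ := cent_x (show Commute xEl g from hx.symm)
  have hw : MulAut.conj g wEl = el vW := by rw [hg, sig_apply, sigHom_w]
  rw [hi, ← x_pow_mod, MulAut.conj_apply] at hw
  have h := List.all_eq_true.mp x_moves (i % 19) (List.mem_range.mpr (Nat.mod_lt _ (by norm_num)))
  refine differ_spec h ?_
  rw [el_append, el_append, el_reverse, xpow_el (Nat.mod_lt _ (by norm_num)), ← mul_assoc]
  exact hw

theorem pow_conj {g : pres.Grp} {m : ℕ} (h : g * xEl * g⁻¹ = xEl ^ m) :
    ∀ j : ℕ, g ^ j * xEl * (g ^ j)⁻¹ = xEl ^ (m ^ j)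
  | 0 => by simp
  | j + 1 => by
    calc g ^ (j + 1) * xEl * (g ^ (j + 1))⁻¹ = g * (g ^ j * xEl * (g ^ j)⁻¹) * g⁻¹ := by
          rw [pow_succ']; group
      _ = (g * xEl * g⁻¹) ^ (m ^ j) := by rw [pow_conj h j, conj_pow]
      _ = xEl ^ (m ^ (j + 1)) := by rw [h, ← pow_mul, pow_succ']

theorem z_x : zEl * xEl * zEl⁻¹ = xEl ^ 8 := by
  have h := same_spec z_conj
  rwa [el_append, el_append, el_reverse, el_powW, ← mul_assoc] at h

theorem wit_elim {c j : ℕ} (hc : c < 3) (hj : j < 45) (f : pres.Grp →* pres.Grp)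
    (hx : f xEl = xEl ^ expReps.getD c 0) (hw : f wEl = el (invW.getD j [])) :
    c = 0 ∧ (j = wIdx ∨ j = vIdx) := by
  have h := List.all_eq_true.mp (List.all_eq_true.mp wit_ok c (List.mem_range.mpr hc)) j (List.mem_range.mpr hj)
  simp only [witOK, Bool.or_eq_true, Bool.and_eq_true] at h
  rcases h with ⟨h0, h1 | h1⟩ | ⟨hlt, hd⟩
  · exact ⟨Nat.eq_of_beq_eq_true h0, Or.inl (Nat.eq_of_beq_eq_true h1)⟩
  · exact ⟨Nat.eq_of_beq_eq_true h0, Or.inr (Nat.eq_of_beq_eq_true h1)⟩
  · exfalso
    set t := (witW.getD c []).getD j 0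
    have hlt' : t < testW.length := Nat.le_of_ble_eq_true hlt
    have hmem : testW.getD t ([], 0) ∈ testW := by
      rw [List.getD_eq_getElem _ _ hlt']; exact List.getElem_mem hlt'
    have h1 := same_spec (List.all_eq_true.mp tests_ok _ hmem)
    rw [el_powW, el_subst, pow_one, ← wEl, el_nil] at h1
    refine differ_spec hd ?_
    rw [el_powW, el_subst, el_nil, ← hw, ← hx, ← map_valP, ← map_pow, h1, map_one]

theorem factor_nineteen : (460815505920 : ℕ).factorization 19 = 1 := by
  rw [show (460815505920 : ℕ) = 19 * 24253447680 by norm_num,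
    Nat.factorization_mul (by norm_num) (by norm_num), Finsupp.add_apply,
    Nat.Prime.factorization_self (by norm_num), Nat.factorization_eq_zero_of_not_dvd (by norm_num)]

theorem classify (φ : MulAut pres.Grp) :
    ∃ χ ∈ Cfsg.Inn pres.Grp, χ * φ = 1 ∨ χ * φ = sig := by
  haveI := finite facts
  haveI : Fact (Nat.Prime 19) := ⟨by norm_num⟩
  have hfac : Nat.card (Subgroup.zpowers xEl) = 19 ^ (Nat.card pres.Grp).factorization 19 := by
    rw [Nat.card_zpowers, x_order, card facts, factor_nineteen, pow_one]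
  let P : Sylow 19 pres.Grp := Sylow.ofCard (Subgroup.zpowers xEl) hfac
  let Q : Sylow 19 pres.Grp := Sylow.ofCard (Subgroup.zpowers (φ xEl))
    (by rw [← hfac, Nat.card_zpowers, Nat.card_zpowers, MulEquiv.orderOf_eq])
  obtain ⟨g, hg⟩ := MulAction.exists_smul_eq pres.Grp Q P
  have hmem : g * φ xEl * g⁻¹ ∈ Subgroup.zpowers xEl := by
    have h : MulAut.conj g (φ xEl) ∈ ((g • Q : Sylow 19 pres.Grp) : Subgroup pres.Grp) := by
      rw [Sylow.coe_subgroup_smul]
      exact Subgroup.smul_mem_pointwise_smul _ _ _ (Subgroup.mem_zpowers (φ xEl))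
    rw [hg, MulAut.conj_apply] at h
    exact h
  obtain ⟨k, hk⟩ := ((isOfFinOrder_of_finite xEl).mem_powers_iff_mem_zpowers).mpr hmem
  have hk' : xEl ^ (k % 19) = g * φ xEl * g⁻¹ := (x_pow_mod k).trans hk
  have hk0 : k % 19 ≠ 0 := by
    intro e
    rw [e, pow_zero] at hk'
    have h1 : φ xEl = 1 := by
      calc φ xEl = g⁻¹ * (g * φ xEl * g⁻¹) * g := by group
        _ = 1 := by rw [← hk']; group
    exact x_ne (φ.injective (h1.trans (map_one φ).symm))
  obtain ⟨⟨j, hj6⟩, ⟨c, hc⟩, hj⟩ := small_arith ⟨k % 19, Nat.mod_lt _ (by norm_num)⟩ hk0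
  simp only at hj
  set r := expReps.getD c 0 with hr
  let f1 : MulAut pres.Grp := MulAut.conj (zEl ^ j * g) * φ
  have hf1 : f1 xEl = xEl ^ r := by
    show MulAut.conj (zEl ^ j * g) (φ xEl) = _
    rw [MulAut.conj_apply, ← hj, x_pow_mod, mul_comm, pow_mul, ← pow_conj z_x j, conj_pow, hk']
    group
  obtain ⟨m, hm⟩ : ∃ m, r * m % 19 = 1 := by
    rw [hr]
    interval_cases c
    exacts [⟨1, rfl⟩, ⟨10, rfl⟩, ⟨5, rfl⟩]
  have hz1 : f1 zEl * xEl * (f1 zEl)⁻¹ = xEl ^ 8 := by
    have h : f1 zEl * xEl ^ r * (f1 zEl)⁻¹ = (xEl ^ r) ^ 8 := by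
      rw [← hf1, ← map_inv, ← map_mul, ← map_mul, z_x, map_pow]
    have e : xEl = (xEl ^ r) ^ m := by rw [← pow_mul, ← x_pow_mod, hm, pow_one]
    calc f1 zEl * xEl * (f1 zEl)⁻¹ = (f1 zEl * xEl ^ r * (f1 zEl)⁻¹) ^ m := by
          rw [conj_pow, ← e]
      _ = xEl ^ 8 := by rw [h, pow_right_comm, ← e]
  have hcz : Commute xEl (zEl⁻¹ * f1 zEl) := by
    show xEl * (zEl⁻¹ * f1 zEl) = zEl⁻¹ * f1 zEl * xEl
    calc xEl * (zEl⁻¹ * f1 zEl) = zEl⁻¹ * (zEl * xEl * zEl⁻¹) * f1 zEl := by group
      _ = zEl⁻¹ * (f1 zEl * xEl * (f1 zEl)⁻¹) * f1 zEl := by rw [z_x, hz1]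
      _ = zEl⁻¹ * f1 zEl * xEl := by group
  obtain ⟨i, hi⟩ := cent_x hcz
  have hzi : f1 zEl = zEl * xEl ^ i := by rw [← hi]; group
  let f : MulAut pres.Grp := MulAut.conj (xEl ^ (88 * i)) * f1
  have hfx : f xEl = xEl ^ r := by
    show MulAut.conj (xEl ^ (88 * i)) (f1 xEl) = _
    rw [hf1, MulAut.conj_apply, (Commute.pow_pow_self xEl (88 * i) r).eq, mul_inv_cancel_right]
  have hfz : f zEl = zEl := by
    show MulAut.conj (xEl ^ (88 * i)) (f1 zEl) = _
    have e : xEl ^ (88 * i) * zEl = zEl * xEl ^ (11 * i) := by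
      rw [show 88 * i = 8 * (11 * i) by ring, pow_mul, ← z_x, conj_pow, inv_mul_cancel_right]
    rw [hzi, MulAut.conj_apply, ← mul_assoc (xEl ^ (88 * i)), e, mul_assoc zEl, ← pow_add,
      ← x_pow_mod (11 * i + i), show (11 * i + i) % 19 = 88 * i % 19 by omega, x_pow_mod,
      mul_inv_cancel_right]
  have hzz : zEl * zEl = uEl := by
    have h := same_spec z_sq
    rwa [el_append] at h
  have hfu : f uEl = uEl := by rw [← hzz, map_mul, hfz]
  obtain ⟨hwu, hww, hwne⟩ := w_facts
  have hsq : wEl * wEl = 1 := by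
    have h := same_spec hww
    rwa [el_append, el_nil] at h
  have hne : wEl ≠ 1 := by
    have h := differ_spec hwne
    rwa [el_nil] at h
  have hcomm : Commute uEl (f wEl) := by
    have h := same_spec hwu
    rw [el_append, el_append] at h
    show uEl * f wEl = f wEl * uEl
    rw [← hfu, ← map_mul, ← map_mul, show uEl * wEl = wEl * uEl from h.symm]
  obtain ⟨a, ha, hae⟩ := cent_u hcomm
  obtain ⟨q, hq, haq⟩ := w_invol ha
    (by rw [← hae, ← map_mul, hsq, map_one])
    (by rw [← hae]; exact fun h => hne (f.injective (h.trans (map_one f).symm)))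
  have hcw : f wEl = el (invW.getD q []) := hae.trans haq
  obtain ⟨rfl, hq'⟩ := wit_elim hc hq f.toMonoidHom hfx hcw
  refine ⟨MulAut.conj (xEl ^ (88 * i) * (zEl ^ j * g)), ⟨_, rfl⟩, ?_⟩
  have hcomp : MulAut.conj (xEl ^ (88 * i) * (zEl ^ j * g)) * φ = f := by
    rw [map_mul MulAut.conj, mul_assoc]
  rw [hcomp]
  have hfx1 : f xEl = xEl := by rw [hfx, show r = 1 from rfl, pow_one]
  obtain ⟨hat, hatv⟩ := w_at
  rcases hq' with rfl | rfl
  · left
    rw [same_spec hat, ← wEl] at hcw
    exact MulEquiv.toMonoidHom_injective (ext_gens (f := f.toMonoidHom) (g := MonoidHom.id _) hfx1 hcw)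
  · right
    rw [same_spec hatv] at hcw
    exact MulEquiv.toMonoidHom_injective (ext_gens (f := f.toMonoidHom) (g := sig.toMonoidHom)
      (hfx1.trans sigHom_x.symm) (hcw.trans sigHom_w.symm))

theorem card_out : Nat.card (Cfsg.Out pres.Grp) = 2 := by
  let mk := QuotientGroup.mk' (Cfsg.Inn pres.Grp)
  have hne : mk sig ≠ 1 := fun e => sig_not_inner ((QuotientGroup.eq_one_iff _).mp e)
  refine Nat.card_eq_two_iff.mpr ⟨1, mk sig, hne.symm, Set.eq_univ_iff_forall.mpr fun q => ?_⟩
  obtain ⟨φ, rfl⟩ := QuotientGroup.mk'_surjective (Cfsg.Inn pres.Grp) q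
  obtain ⟨χ, hχ, h⟩ := classify φ
  have e : mk χ = 1 := (QuotientGroup.eq_one_iff _).mpr hχ
  rcases h with h | h
  · left
    show mk φ = 1
    rw [show mk φ = mk (χ * φ) by rw [map_mul, e, one_mul], h, map_one]
  · right
    show mk φ = mk sig
    rw [← h, map_mul, e, one_mul]

end Cfsg.Agent.Spor.ONCert.Outer
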