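import Cfsg.Agent.Lib.Spor.ONOutChecks

/-!
Scans of all points.
-/

set_option autoImplicit false
set_option maxRecDepth 100000

namespace Cfsg.Agent.Spor.ONCert.Outer

open Cfsg.Agent.Spor.CC

theorem fix0 : rangeOK fixAll 0 2790 = true := by decide +kernel

theorem fix1 : rangeOK fixAll 2790 2790 = true := by decide +kernel

theorem fix2 : rangeOK fixAll 5580 2790 = true := by decide +kernel

theorem fix3 : rangeOK fixAll 8370 2790 = true := by decide +kernel

theorem fix4 : rangeOK fixAll 11160 2790 = true := by decide +kernel

theorem fix5 : rangeOK fixAll 13950 2790 = true := by decide +kernel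

theorem fix6 : rangeOK fixAll 16740 2790 = true := by decide +kernel

theorem fix7 : rangeOK fixAll 19530 2790 = true := by decide +kernel

theorem fix8 : rangeOK fixAll 22320 2790 = true := by decide +kernel

theorem fix9 : rangeOK fixAll 25110 2790 = true := by decide +kernel

theorem fix10 : rangeOK fixAll 27900 2790 = true := by decide +kernel

end Cfsg.Agent.Spor.ONCert.Outer
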