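import Mathlib

/-!
Matrices over the field of seven elements for the subgroup L₃(7):2 of the O'Nan group.
-/

set_option autoImplicit false
set_option maxRecDepth 100000

namespace Cfsg.Agent.Spor.ONCert.Plane

/-- SL(3, 7) -/
abbrev S37 : Type := Matrix.SpecialLinearGroup (Fin 3) (ZMod 7)

/-- scalar matrices of determinant one -/
def scalars : List S37 := [⟨!![1, 0, 0; 0, 1, 0; 0, 0, 1], by decide +kernel⟩, ⟨!![2, 0, 0; 0, 2, 0; 0, 0, 2], by decide +kernel⟩, ⟨!![4, 0, 0; 0, 4, 0; 0, 0, 4], by decide +kernel⟩]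

/-- the six matrices -/
def mats : List S37 := [
  ⟨!![1, 1, 3; 1, 3, 1; 3, 1, 1], by decide +kernel⟩,
  ⟨!![1, 1, 3; 1, 2, 2; 3, 2, 4], by decide +kernel⟩,
  ⟨!![1, 0, 0; 0, 1, 0; 0, 0, 1], by decide +kernel⟩,
  ⟨!![0, 0, 1; 0, 6, 2; 1, 2, 5], by decide +kernel⟩,
  ⟨!![0, 3, 4; 3, 6, 6; 4, 6, 6], by decide +kernel⟩,
  ⟨!![0, 0, 3; 0, 3, 0; 3, 0, 0], by decide +kernel⟩]

/-- a matrix -/
def q0 : S37 := ⟨!![1, 0, 0; 0, 1, 0; 0, 0, 1], by decide +kernel⟩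

/-- a matrix -/
def q1 : S37 := ⟨!![1, 0, 0; 6, 2, 0; 3, 2, 4], by decide +kernel⟩

/-- a matrix -/
def q2 : S37 := ⟨!![1, 0, 0; 4, 4, 0; 6, 5, 2], by decide +kernel⟩

/-- a matrix -/
def q3 : S37 := ⟨!![1, 1, 3; 1, 3, 1; 3, 1, 1], by decide +kernel⟩

/-- a matrix -/
def q4 : S37 := ⟨!![4, 0, 0; 0, 4, 0; 0, 0, 4], by decide +kernel⟩

/-- a matrix -/
def q5 : S37 := ⟨!![3, 1, 1; 5, 6, 1; 4, 5, 3], by decide +kernel⟩

/-- a matrix -/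
def q6 : S37 := ⟨!![2, 5, 0; 5, 5, 0; 0, 0, 6], by decide +kernel⟩

/-- a matrix -/
def q7 : S37 := ⟨!![1, 5, 5; 5, 1, 5; 5, 5, 1], by decide +kernel⟩

/-- a matrix -/
def q8 : S37 := ⟨!![2, 0, 0; 0, 2, 0; 0, 0, 2], by decide +kernel⟩

/-- a matrix -/
def q9 : S37 := ⟨!![1, 1, 3; 1, 2, 2; 3, 2, 4], by decide +kernel⟩

/-- a matrix -/
def q10 : S37 := ⟨!![4, 2, 3; 2, 2, 1; 3, 1, 1], by decide +kernel⟩

/-- a matrix -/
def q11 : S37 := ⟨!![3, 1, 1; 4, 0, 1; 2, 4, 3], by decide +kernel⟩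

/-- a matrix -/
def q12 : S37 := ⟨!![2, 5, 0; 0, 5, 0; 2, 6, 5], by decide +kernel⟩

/-- a matrix -/
def q13 : S37 := ⟨!![1, 5, 5; 3, 3, 5; 6, 3, 1], by decide +kernel⟩

/-- a matrix -/
def q14 : S37 := ⟨!![2, 2, 6; 2, 6, 2; 6, 2, 2], by decide +kernel⟩

/-- a matrix -/
def q15 : S37 := ⟨!![5, 2, 1; 2, 6, 0; 1, 0, 0], by decide +kernel⟩

/-- a matrix -/
def q16 : S37 := ⟨!![2, 1, 5; 1, 5, 2; 5, 2, 1], by decide +kernel⟩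

/-- a matrix -/
def q17 : S37 := ⟨!![3, 3, 2; 3, 4, 1; 2, 1, 5], by decide +kernel⟩

/-- a matrix -/
def q18 : S37 := ⟨!![2, 3, 3; 3, 2, 3; 3, 3, 2], by decide +kernel⟩

/-- a matrix -/
def q19 : S37 := ⟨!![5, 1, 2; 1, 4, 3; 2, 3, 3], by decide +kernel⟩

/-- a matrix -/
def q20 : S37 := ⟨!![1, 2, 5; 2, 5, 1; 5, 1, 2], by decide +kernel⟩

/-- a matrix -/
def q21 : S37 := ⟨!![0, 0, 1; 0, 6, 2; 1, 2, 5], by decide +kernel⟩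

/-- a matrix -/
def q22 : S37 := ⟨!![0, 6, 1; 6, 5, 5; 1, 5, 5], by decide +kernel⟩

/-- a matrix -/
def q23 : S37 := ⟨!![0, 0, 5; 0, 5, 0; 5, 0, 0], by decide +kernel⟩

/-- a matrix -/
def q24 : S37 := ⟨!![6, 2, 2; 3, 5, 2; 1, 3, 6], by decide +kernel⟩

/-- a matrix -/
def q25 : S37 := ⟨!![1, 5, 5; 3, 5, 5; 3, 6, 1], by decide +kernel⟩

/-- a matrix -/
def q26 : S37 := ⟨!![3, 4, 0; 5, 0, 3; 3, 2, 4], by decide +kernel⟩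

/-- a matrix -/
def q27 : S37 := ⟨!![5, 0, 0; 3, 2, 0; 4, 3, 5], by decide +kernel⟩

/-- a matrix -/
def q28 : S37 := ⟨!![4, 3, 0; 0, 3, 0; 4, 5, 3], by decide +kernel⟩

/-- a matrix -/
def q29 : S37 := ⟨!![0, 3, 4; 3, 6, 6; 4, 6, 6], by decide +kernel⟩

/-- a matrix -/
def q30 : S37 := ⟨!![6, 1, 0; 2, 2, 1; 2, 2, 6], by decide +kernel⟩

/-- a matrix -/
def q31 : S37 := ⟨!![3, 1, 1; 4, 1, 1; 0, 4, 3], by decide +kernel⟩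

/-- a matrix -/
def q32 : S37 := ⟨!![4, 6, 6; 6, 4, 6; 6, 6, 4], by decide +kernel⟩

/-- a matrix -/
def q33 : S37 := ⟨!![2, 3, 3; 6, 6, 3; 5, 6, 2], by decide +kernel⟩

/-- a matrix -/
def q34 : S37 := ⟨!![0, 0, 3; 0, 3, 0; 3, 0, 0], by decide +kernel⟩

/-- a matrix -/
def q35 : S37 := ⟨!![3, 0, 0; 6, 4, 0; 1, 6, 3], by decide +kernel⟩

/-- a matrix -/
def q36 : S37 := ⟨!![3, 3, 1; 5, 1, 0; 3, 6, 1], by decide +kernel⟩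

/-- a matrix -/
def q37 : S37 := ⟨!![0, 6, 6; 1, 5, 2; 6, 5, 2], by decide +kernel⟩

/-- a matrix -/
def q38 : S37 := ⟨!![6, 6, 0; 2, 6, 0; 2, 6, 5], by decide +kernel⟩

/-- a matrix -/
def q39 : S37 := ⟨!![6, 3, 4; 1, 1, 4; 2, 4, 3], by decide +kernel⟩

/-- a matrix -/
def q40 : S37 := ⟨!![0, 1, 4; 4, 1, 1; 4, 1, 6], by decide +kernel⟩

/-- a matrix -/
def q41 : S37 := ⟨!![0, 5, 6; 0, 1, 1; 6, 5, 2], by decide +kernel⟩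

/-- a matrix -/
def q42 : S37 := ⟨!![2, 2, 0; 3, 6, 0; 0, 0, 6], by decide +kernel⟩

/-- a matrix -/
def q43 : S37 := ⟨!![2, 1, 6; 4, 5, 4; 4, 5, 3], by decide +kernel⟩

/-- a matrix -/
def q44 : S37 := ⟨!![0, 5, 6; 3, 1, 0; 0, 0, 6], by decide +kernel⟩

/-- a matrix -/
def q45 : S37 := ⟨!![6, 0, 5; 0, 6, 5; 6, 5, 2], by decide +kernel⟩

/-- a matrix -/
def q46 : S37 := ⟨!![0, 4, 0; 5, 4, 0; 6, 4, 1], by decide +kernel⟩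

/-- a matrix -/
def q47 : S37 := ⟨!![2, 2, 0; 0, 2, 0; 0, 0, 2], by decide +kernel⟩

/-- a matrix -/
def q48 : S37 := ⟨!![0, 0, 1; 0, 3, 5; 2, 6, 5], by decide +kernel⟩

/-- a matrix -/
def q49 : S37 := ⟨!![2, 4, 3; 1, 6, 4; 5, 1, 2], by decide +kernel⟩

/-- a matrix -/
def q50 : S37 := ⟨!![0, 0, 2; 0, 3, 1; 1, 2, 5], by decide +kernel⟩

/-- a matrix -/
def q51 : S37 := ⟨!![2, 3, 3; 5, 6, 6; 3, 6, 1], by decide +kernel⟩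

/-- a matrix -/
def q52 : S37 := ⟨!![3, 3, 2; 6, 6, 5; 1, 3, 6], by decide +kernel⟩

/-- a matrix -/
def q53 : S37 := ⟨!![4, 4, 5; 3, 5, 6; 6, 4, 1], by decide +kernel⟩

/-- a matrix -/
def q54 : S37 := ⟨!![5, 4, 4; 3, 1, 3; 4, 1, 6], by decide +kernel⟩

/-- a matrix -/
def q55 : S37 := ⟨!![0, 0, 3; 2, 3, 2; 5, 3, 4], by decide +kernel⟩

/-- a matrix -/
def q56 : S37 := ⟨!![3, 6, 1; 2, 1, 4; 4, 5, 3], by decide +kernel⟩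

/-- a matrix -/
def q57 : S37 := ⟨!![0, 0, 5; 4, 4, 1; 3, 2, 4], by decide +kernel⟩

/-- a matrix -/
def q58 : S37 := ⟨!![6, 2, 2; 2, 0, 4; 1, 3, 6], by decide +kernel⟩

/-- a matrix -/
def q59 : S37 := ⟨!![2, 0, 0; 2, 2, 0; 0, 0, 2], by decide +kernel⟩

/-- a matrix -/
def q60 : S37 := ⟨!![3, 2, 4; 5, 2, 6; 4, 1, 6], by decide +kernel⟩

/-- a matrix -/
def q61 : S37 := ⟨!![0, 0, 3; 0, 5, 4; 6, 5, 2], by decide +kernel⟩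

/-- a matrix -/
def q62 : S37 := ⟨!![2, 3, 3; 1, 0, 2; 5, 3, 4], by decide +kernel⟩

/-- a matrix -/
def q63 : S37 := ⟨!![2, 0, 0; 2, 1, 1; 0, 0, 4], by decide +kernel⟩

/-- a matrix -/
def q64 : S37 := ⟨!![3, 4, 2; 6, 3, 2; 4, 0, 0], by decide +kernel⟩

/-- a matrix -/
def q65 : S37 := ⟨!![4, 1, 6; 2, 3, 1; 5, 4, 4], by decide +kernel⟩

/-- a matrix -/
def q66 : S37 := ⟨!![6, 4, 1; 1, 6, 6; 4, 4, 5], by decide +kernel⟩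

/-- a matrix -/
def q67 : S37 := ⟨!![1, 3, 6; 4, 4, 4; 3, 3, 2], by decide +kernel⟩

/-- a matrix -/
def q68 : S37 := ⟨!![3, 6, 1; 4, 4, 4; 2, 3, 3], by decide +kernel⟩

/-- a matrix -/
def q69 : S37 := ⟨!![2, 4, 3; 0, 1, 2; 0, 0, 4], by decide +kernel⟩

/-- a matrix -/
def q70 : S37 := ⟨!![0, 0, 1; 1, 1, 0; 1, 2, 5], by decide +kernel⟩

/-- a matrix -/
def q71 : S37 := ⟨!![1, 0, 0; 0, 1, 1; 0, 0, 1], by decide +kernel⟩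

/-- a matrix -/
def q72 : S37 := ⟨!![0, 0, 1; 0, 5, 3; 4, 6, 6], by decide +kernel⟩

/-- a matrix -/
def q73 : S37 := ⟨!![2, 4, 3; 5, 5, 0; 6, 0, 0], by decide +kernel⟩

/-- a matrix -/
def q74 : S37 := ⟨!![0, 0, 3; 5, 6, 1; 4, 3, 0], by decide +kernel⟩

/-- a matrix -/
def q75 : S37 := ⟨!![2, 3, 3; 0, 2, 1; 1, 0, 1], by decide +kernel⟩

/-- a matrix -/
def q76 : S37 := ⟨!![5, 0, 0; 0, 3, 5; 0, 6, 4], by decide +kernel⟩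

/-- a matrix -/
def q77 : S37 := ⟨!![0, 0, 4; 4, 1, 0; 6, 2, 0], by decide +kernel⟩

/-- a matrix -/
def q78 : S37 := ⟨!![5, 1, 2; 3, 2, 3; 0, 3, 6], by decide +kernel⟩

/-- a matrix -/
def q79 : S37 := ⟨!![0, 0, 4; 4, 6, 0; 3, 5, 2], by decide +kernel⟩

/-- a matrix -/
def q80 : S37 := ⟨!![4, 1, 6; 0, 1, 2; 2, 6, 2], by decide +kernel⟩

/-- a matrix -/
def q81 : S37 := ⟨!![4, 5, 3; 2, 3, 0; 5, 3, 0], by decide +kernel⟩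

/-- a matrix -/
def q82 : S37 := ⟨!![3, 1, 1; 0, 4, 1; 0, 4, 4], by decide +kernel⟩

/-- a matrix -/
def q83 : S37 := ⟨!![1, 0, 0; 6, 2, 0; 2, 4, 4], by decide +kernel⟩

/-- a matrix -/
def q84 : S37 := ⟨!![1, 0, 0; 0, 1, 0; 0, 1, 1], by decide +kernel⟩

/-- products of pairs with their powers -/
def pairData : List (ℕ × ℕ × S37 × List S37) := [
  (0, 0, q0, []),
  (0, 1, q1, [q2, q0]),
  (0, 2, q3, [q4]),
  (0, 3, q5, [q4]),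
  (0, 4, q6, [q0]),
  (0, 5, q7, [q8]),
  (1, 0, q2, [q1, q0]),
  (1, 1, q0, []),
  (1, 2, q9, [q10, q0]),
  (1, 3, q11, [q0]),
  (1, 4, q12, [q4]),
  (1, 5, q13, [q4]),
  (2, 0, q14, [q8]),
  (2, 1, q10, [q9, q0]),
  (2, 2, q0, []),
  (2, 3, q15, [q16, q17, q18, q19, q20, q21, q0]),
  (2, 4, q22, [q8]),
  (2, 5, q23, [q4]),
  (3, 0, q24, [q8]),
  (3, 1, q11, [q0]),
  (3, 2, q21, [q20, q19, q18, q17, q16, q15, q0]),
  (3, 3, q0, []),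
  (3, 4, q25, [q26, q0]),
  (3, 5, q27, [q4]),
  (4, 0, q6, [q0]),
  (4, 1, q28, [q8]),
  (4, 2, q29, [q4]),
  (4, 3, q26, [q25, q0]),
  (4, 4, q0, []),
  (4, 5, q30, [q31, q0]),
  (5, 0, q32, [q4]),
  (5, 1, q33, [q8]),
  (5, 2, q34, [q8]),
  (5, 3, q35, [q8]),
  (5, 4, q31, [q30, q0]),
  (5, 5, q0, [])]

/-- a fourth power -/
def fourth : S37 := q18

/-- partial products -/
def word01 : List (ℕ × ℕ × S37) := [
  (1, 2, q9),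
  (4, 3, q36),
  (2, 1, q37),
  (3, 2, q38),
  (4, 3, q39),
  (2, 1, q40),
  (0, 3, q41),
  (2, 3, q42),
  (4, 3, q43),
  (2, 1, q44),
  (3, 2, q45),
  (3, 4, q46),
  (1, 0, q47)]

/-- the value of the word, up to a scalar -/
def val01 : S37 := q47

/-- partial products -/
def word10 : List (ℕ × ℕ × S37) := [
  (1, 0, q2),
  (3, 2, q48),
  (1, 3, q49),
  (2, 3, q50),
  (2, 4, q51),
  (3, 2, q52),
  (1, 3, q53),
  (2, 3, q54),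
  (2, 4, q55),
  (3, 2, q56),
  (1, 3, q57),
  (4, 2, q58),
  (3, 0, q59)]

/-- the value of the word, up to a scalar -/
def val10 : S37 := q59

/-- partial products -/
def word12 : List (ℕ × ℕ × S37) := [
  (1, 3, q11),
  (2, 1, q60),
  (0, 3, q61),
  (2, 1, q62),
  (4, 3, q63),
  (2, 3, q64),
  (5, 4, q65),
  (3, 2, q66),
  (1, 3, q67),
  (2, 3, q68),
  (2, 4, q69),
  (3, 1, q70),
  (2, 3, q71)]

/-- the value of the word, up to a scalar -/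
def val12 : S37 := q71

/-- partial products -/
def word21 : List (ℕ × ℕ × S37) := [
  (0, 1, q1),
  (3, 2, q72),
  (1, 3, q73),
  (4, 3, q74),
  (2, 1, q75),
  (0, 3, q76),
  (2, 5, q77),
  (4, 3, q78),
  (2, 1, q79),
  (3, 2, q80),
  (3, 4, q81),
  (3, 2, q82),
  (3, 0, q83),
  (1, 0, q84)]

/-- the value of the word, up to a scalar -/
def val21 : S37 := q84

end Cfsg.Agent.Spor.ONCert.Plane
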