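import Cfsg.Agent.Lib.Spor.ONSixPres
import Cfsg.Agent.Lib.Spor.ONPlaneData
import Cfsg.Agent.Lib.Classical.LinBasic
import Cfsg.Agent.Lib.Lead.GLBasic

/-!
The six-generator group is PSL(3, 7) extended by the transpose-inverse automorphism.
-/

set_option autoImplicit false
set_option maxRecDepth 100000

namespace Cfsg.Agent.Spor.ONCert.Plane

open Cfsg.Agent.Spor.CC Matrix

instance prime_seven : Fact (Nat.Prime 7) := ⟨by norm_num⟩

/-- transpose of the inverse -/
def tinv : S37 →* S37 where
  toFun A := ⟨((A⁻¹ : S37) : Matrix (Fin 3) (Fin 3) (ZMod 7))ᵀ, by rw [Matrix.det_transpose]; exact A⁻¹.2⟩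
  map_one' := by apply Subtype.ext; simp
  map_mul' A B := by
    apply Subtype.ext
    show (((A * B)⁻¹ : S37) : Matrix (Fin 3) (Fin 3) (ZMod 7))ᵀ =
      ((A⁻¹ : S37) : Matrix (Fin 3) (Fin 3) (ZMod 7))ᵀ * ((B⁻¹ : S37) : Matrix (Fin 3) (Fin 3) (ZMod 7))ᵀ
    rw [_root_.mul_inv_rev]
    exact Matrix.transpose_mul (B⁻¹ : S37).1 (A⁻¹ : S37).1

theorem tinv_tinv (A : S37) : tinv (tinv A) = A := by
  have h : tinv A⁻¹ = (tinv A)⁻¹ := map_inv tinv A
  apply Subtype.ext
  show (((tinv A)⁻¹ : S37) : Matrix (Fin 3) (Fin 3) (ZMod 7))ᵀ = A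
  rw [← h]
  show ((((A⁻¹)⁻¹ : S37) : Matrix (Fin 3) (Fin 3) (ZMod 7))ᵀ)ᵀ = A
  rw [inv_inv, Matrix.transpose_transpose]

/-- transpose-inverse as an automorphism -/
def tinvEquiv : S37 ≃* S37 :=
  { tinv with
    invFun := tinv
    left_inv := tinv_tinv
    right_inv := tinv_tinv }

/-- PSL(3, 7) -/
abbrev P37 : Type := Matrix.ProjectiveSpecialLinearGroup (Fin 3) (ZMod 7)

theorem center_map : (Subgroup.center S37).map (tinvEquiv : S37 →* S37) = Subgroup.center S37 := by
  ext A
  constructor
  · rintro ⟨B, hB, rfl⟩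
    refine Subgroup.mem_center_iff.mpr fun g => ?_
    have := Subgroup.mem_center_iff.mp hB (tinvEquiv.symm g)
    simpa using congrArg tinvEquiv this
  · intro hA
    refine ⟨tinvEquiv.symm A, Subgroup.mem_center_iff.mpr fun g => ?_, by simp⟩
    have := Subgroup.mem_center_iff.mp hA (tinvEquiv g)
    simpa using congrArg tinvEquiv.symm this

/-- transpose-inverse on PSL(3, 7) -/
def flip : MulAut P37 := QuotientGroup.congr _ _ tinvEquiv center_map

theorem flip_mk (A : S37) : flip (QuotientGroup.mk A) = QuotientGroup.mk (tinv A) := rfl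

theorem flip_flip : flip * flip = 1 := by
  ext x
  induction x using QuotientGroup.induction_on with
  | H A =>
    show flip (flip (QuotientGroup.mk A)) = QuotientGroup.mk A
    rw [flip_mk, flip_mk, tinv_tinv]

/-- the action of the group of order two -/
def theta : Multiplicative (ZMod 2) →* MulAut P37 where
  toFun s := if Multiplicative.toAdd s = 0 then 1 else flip
  map_one' := by simp
  map_mul' s t := by
    obtain ⟨s, rfl⟩ := Multiplicative.ofAdd.surjective s
    obtain ⟨t, rfl⟩ := Multiplicative.ofAdd.surjective t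
    have h : ∀ z : ZMod 2, z = 0 ∨ z = 1 := by decide
    have h11 : (1 : ZMod 2) + 1 = 0 := by decide
    rcases h s with rfl | rfl <;> rcases h t with rfl | rfl <;>
      simp [← ofAdd_add, h11, flip_flip]

/-- PSL(3, 7) extended by transpose-inverse -/
abbrev Target : Type := P37 ⋊[theta] Multiplicative (ZMod 2)

/-- one of the six matrices -/
def mat (k : ℕ) : S37 := mats.getD k 1

/-- the image of a node -/
def img (k : ℕ) : Target := ⟨QuotientGroup.mk (mat k), Multiplicative.ofAdd 1⟩

theorem img_mul (i j : ℕ) :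
    img i * img j = SemidirectProduct.inl (QuotientGroup.mk (mat i * tinv (mat j))) := by
  have h11 : (1 : ZMod 2) + 1 = 0 := by decide
  have ht : theta (Multiplicative.ofAdd (1 : ZMod 2)) = flip :=
    show (if (1 : ZMod 2) = 0 then (1 : MulAut P37) else flip) = flip by simp
  refine SemidirectProduct.ext ?_ ?_
  · show QuotientGroup.mk (mat i) * theta (Multiplicative.ofAdd 1) (QuotientGroup.mk (mat j)) = _
    rw [ht, flip_mk]; rfl
  · show Multiplicative.ofAdd (1 : ZMod 2) * Multiplicative.ofAdd 1 = 1
    rw [← ofAdd_add, h11]; rfl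

/-- is the matrix scalar -/
def isScal (A : S37) : Bool := scalars.any fun c => decide (A = c)

theorem scalars_central : ∀ c ∈ scalars, c ∈ Subgroup.center S37 := by
  intro c hc
  rw [Matrix.SpecialLinearGroup.mem_center_iff]
  fin_cases hc
  · exact ⟨1, by decide, by decide +kernel⟩
  · exact ⟨2, by decide, by decide +kernel⟩
  · exact ⟨4, by decide, by decide +kernel⟩

theorem isScal_mk {A : S37} (h : isScal A = true) : (QuotientGroup.mk A : P37) = 1 := by
  obtain ⟨c, hc, e⟩ := List.any_eq_true.mp h
  rw [QuotientGroup.eq_one_iff, of_decide_eq_true e]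
  exact scalars_central c hc

/-- a chain of powers ending in a scalar -/
def powList (p : S37) : S37 → List S37 → Bool
  | cur, [] => isScal cur
  | cur, q :: r => decide (cur * p = q) && powList p q r

theorem powList_spec (p : S37) : ∀ (l : List S37) (k : ℕ), powList p (p ^ k) l = true →
    isScal (p ^ (k + l.length)) = true
  | [], k, h => h
  | q :: r, k, h => by
    simp only [powList, Bool.and_eq_true, decide_eq_true_iff] at h
    have e : q = p ^ (k + 1) := by rw [pow_succ]; exact h.1.symm
    rw [e] at h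
    rw [List.length_cons, show k + (r.length + 1) = k + 1 + r.length by omega]
    exact powList_spec p r (k + 1) h.2

/-- check of one row of pair data -/
def rowOK (e : ℕ × ℕ × S37 × List S37) : Bool :=
  decide (mat e.1 * tinv (mat e.2.1) = e.2.2.1) && powList e.2.2.1 e.2.2.1 e.2.2.2 &&
    decide (Cfsg.Spor.coxLabel pres6.edges (pres6.nm e.1) (pres6.nm e.2.1) = e.2.2.2.length + 1)

theorem rows_ok : pairData.all rowOK = true := by decide +kernel

theorem rows_cover : ((List.range 6).all fun i => (List.range 6).all fun j =>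
    pairData.any fun e => decide (e.1 = i ∧ e.2.1 = j)) = true := by decide +kernel

theorem pair_rel {i j : ℕ} (hi : i < 6) (hj : j < 6) :
    (img i * img j) ^ Cfsg.Spor.coxLabel pres6.edges (pres6.nm i) (pres6.nm j) = 1 := by
  obtain ⟨e, he, hij⟩ := List.any_eq_true.mp (List.all_eq_true.mp (List.all_eq_true.mp rows_cover i
    (List.mem_range.mpr hi)) j (List.mem_range.mpr hj))
  obtain ⟨rfl, rfl⟩ := of_decide_eq_true hij
  have h := List.all_eq_true.mp rows_ok e he
  simp only [rowOK, Bool.and_eq_true, decide_eq_true_iff] at h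
  obtain ⟨⟨h1, h2⟩, h3⟩ := h
  have hp : powList e.2.2.1 (e.2.2.1 ^ 1) e.2.2.2 = true := by rwa [pow_one]
  have h4 := powList_spec _ _ 1 hp
  rw [img_mul, h1, h3, ← map_pow, ← QuotientGroup.mk_pow, show e.2.2.2.length + 1 = 1 + e.2.2.2.length by omega,
    isScal_mk h4, map_one]

theorem fourth_eq : mat 3 * tinv (mat 2) * (mat 3 * tinv (mat 2)) * (mat 3 * tinv (mat 2)) *
    (mat 3 * tinv (mat 2)) = fourth := by decide +kernel

theorem af_scal : isScal (mat 0 * tinv (mat 5) * fourth) = true := by decide +kernel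

theorem extra_rel : ([0, 5, 3, 2, 3, 2, 3, 2, 3, 2].map img).prod = 1 := by
  have e : ([0, 5, 3, 2, 3, 2, 3, 2, 3, 2].map img).prod =
      (img 0 * img 5) * (((img 3 * img 2) * (img 3 * img 2) * (img 3 * img 2)) * (img 3 * img 2)) := by
    simp [mul_assoc]
  rw [e, img_mul, img_mul, ← map_mul, ← map_mul, ← map_mul, ← map_mul, ← QuotientGroup.mk_mul,
    ← QuotientGroup.mk_mul, ← QuotientGroup.mk_mul, ← QuotientGroup.mk_mul, fourth_eq,
    isScal_mk af_scal, map_one]

theorem img_sq (k : ℕ) (hk : k < 6) : img k * img k = 1 := by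
  have := pair_rel hk hk
  rwa [Cfsg.Spor.coxLabel, if_pos rfl, pow_one] at this

/-- the homomorphism to PSL(3, 7):2 -/
def toTarget : pres6.Grp →* Target :=
  PresentedGroup.toGroup (f := fun x => img (pres6.ix x)) (by
    intro r hr
    rcases hr with ⟨x, -, y, -, rfl⟩ | hr
    · rw [map_pow, map_mul, FreeGroup.lift_apply_of, FreeGroup.lift_apply_of]
      have := pair_rel (pres6_ok.ix_lt x) (pres6_ok.ix_lt y)
      rwa [pres6_ok.nm_ix, pres6_ok.nm_ix] at this
    · simp only [pres6, List.mem_singleton, Set.mem_setOf_eq] at hr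
      subst hr
      have hi : ∀ k, k < 6 → (img k)⁻¹ = img k := fun k hk => inv_eq_of_mul_eq_one_left (img_sq k hk)
      have := extra_rel
      simp only [map_mul, map_inv, map_pow, FreeGroup.lift_apply_of, pres6, ixSix]
      simpa [pow_succ, _root_.mul_inv_rev, hi 2 (by decide), hi 3 (by decide), mul_assoc] using this)

theorem toTarget_gen {k : ℕ} (hk : k < 6) : toTarget (pres6.gen k) = img k := by
  rw [Pres.gen, if_pos (show k < pres6.ng from hk), toTarget, PresentedGroup.toGroup.of, pres6_ok.ix_nm k hk]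

/-- the elements of SL(3, 7) reached -/
def reached : Subgroup S37 :=
  toTarget.range.comap ((SemidirectProduct.inl : P37 →* Target).comp (QuotientGroup.mk' _))

/-- check of partial products -/
def prefOK : S37 → List (ℕ × ℕ × S37) → Bool
  | _, [] => true
  | cur, e :: r => decide (e.1 < 6 ∧ e.2.1 < 6) && decide (cur * (mat e.1 * tinv (mat e.2.1)) = e.2.2) &&
      prefOK e.2.2 r

/-- the last partial product -/
def lastMat : S37 → List (ℕ × ℕ × S37) → S37
  | cur, [] => cur
  | _, e :: r => lastMat e.2.2 r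

theorem prefOK_spec : ∀ (l : List (ℕ × ℕ × S37)) (cur : S37), prefOK cur l = true → cur ∈ reached →
    lastMat cur l ∈ reached
  | [], cur, _, h => h
  | e :: r, cur, hl, h => by
    simp only [prefOK, Bool.and_eq_true, decide_eq_true_iff] at hl
    obtain ⟨⟨⟨hi, hj⟩, he⟩, hr⟩ := hl
    refine prefOK_spec r e.2.2 hr ?_
    rw [← he]
    refine mul_mem h ⟨pres6.gen e.1 * pres6.gen e.2.1, ?_⟩
    rw [map_mul, toTarget_gen hi, toTarget_gen hj, img_mul]
    rfl

theorem scal_reached {c : S37} (hc : c ∈ scalars) : c ∈ reached := by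
  refine ⟨1, ?_⟩
  rw [map_one, MonoidHom.comp_apply, QuotientGroup.mk'_apply, (QuotientGroup.eq_one_iff _).mpr (scalars_central c hc),
    map_one]

theorem tr_reached {A : S37} {l : List (ℕ × ℕ × S37)} (h : prefOK 1 l = true) {v : S37}
    (hv : lastMat 1 l = v) (hA : scalars.any (fun c => decide (v * c = A)) = true) :
    A ∈ reached := by
  obtain ⟨c, hc, e⟩ := List.any_eq_true.mp hA
  rw [← of_decide_eq_true e, ← hv]
  exact mul_mem (prefOK_spec l 1 h (one_mem _)) (scal_reached hc)

theorem tr01 : (SpecialLinearGroup.transvection (show (0 : Fin 3) ≠ 1 by decide) (1 : ZMod 7) : S37) ∈ reached :=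
  tr_reached (l := word01) (v := val01) (by decide +kernel) (by decide +kernel) (by decide +kernel)

theorem tr10 : (SpecialLinearGroup.transvection (show (1 : Fin 3) ≠ 0 by decide) (1 : ZMod 7) : S37) ∈ reached :=
  tr_reached (l := word10) (v := val10) (by decide +kernel) (by decide +kernel) (by decide +kernel)

theorem tr12 : (SpecialLinearGroup.transvection (show (1 : Fin 3) ≠ 2 by decide) (1 : ZMod 7) : S37) ∈ reached :=
  tr_reached (l := word12) (v := val12) (by decide +kernel) (by decide +kernel) (by decide +kernel)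

theorem tr21 : (SpecialLinearGroup.transvection (show (2 : Fin 3) ≠ 1 by decide) (1 : ZMod 7) : S37) ∈ reached :=
  tr_reached (l := word21) (v := val21) (by decide +kernel) (by decide +kernel) (by decide +kernel)

theorem tr_one {i j : Fin 3} (hij : i ≠ j) :
    (SpecialLinearGroup.transvection hij (1 : ZMod 7) : S37) ∈ reached := by
  have comm : ∀ {i j k : Fin 3} (hij : i ≠ j) (hik : i ≠ k) (hkj : k ≠ j),
      (SpecialLinearGroup.transvection hik (1 : ZMod 7) : S37) ∈ reached →
      (SpecialLinearGroup.transvection hkj (1 : ZMod 7) : S37) ∈ reached →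
      (SpecialLinearGroup.transvection hij (1 : ZMod 7) : S37) ∈ reached := by
    intro i j k hij hik hkj h1 h2
    have e := Classical.sl_transvection_commutator (F := ZMod 7) hij hik hkj 1 1
    rw [mul_one] at e
    rw [← e, commutatorElement_def]
    exact mul_mem (mul_mem (mul_mem h1 h2) (inv_mem h1)) (inv_mem h2)
  fin_cases i <;> fin_cases j
  · exact absurd rfl hij
  · exact tr01
  · exact comm hij (by decide) (by decide) tr01 tr12
  · exact tr10
  · exact absurd rfl hij
  · exact tr12
  · exact comm hij (by decide) (by decide) tr21 tr10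
  · exact tr21
  · exact absurd rfl hij

theorem tr_nat {i j : Fin 3} (hij : i ≠ j) : ∀ k : ℕ,
    (SpecialLinearGroup.transvection hij (k : ZMod 7) : S37) ∈ reached
  | 0 => by
    have : (SpecialLinearGroup.transvection hij ((0 : ℕ) : ZMod 7) : S37) = 1 :=
      Subtype.ext (by simp [SpecialLinearGroup.transvection_coe])
    rw [this]; exact one_mem _
  | k + 1 => by
    rw [Nat.cast_succ, SpecialLinearGroup.transvection_add]
    exact mul_mem (tr_nat hij k) (tr_one hij)

theorem reached_top : reached = ⊤ := by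
  rw [eq_top_iff, ← Classical.sl_closure_transvections (ι := Fin 3) (F := ZMod 7), Subgroup.closure_le]
  rintro g ⟨i, j, hij, c, rfl⟩
  rw [← ZMod.natCast_rightInverse c]
  exact tr_nat hij _

theorem toTarget_surjective : Function.Surjective toTarget := by
  rw [← MonoidHom.range_eq_top, eq_top_iff]
  rintro ⟨n, s⟩ -
  have hn : (SemidirectProduct.inl n : Target) ∈ toTarget.range := by
    induction n using QuotientGroup.induction_on with
    | H A =>
      have : A ∈ reached := reached_top ▸ Subgroup.mem_top A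
      exact this
  rw [SemidirectProduct.mk_eq_inl_mul_inr]
  refine mul_mem hn ?_
  obtain ⟨z, rfl⟩ := Multiplicative.ofAdd.surjective s
  have h : ∀ z : ZMod 2, z = 0 ∨ z = 1 := by decide
  rcases h z with rfl | rfl
  · rw [ofAdd_zero, map_one]; exact one_mem _
  · have e : (SemidirectProduct.inr (Multiplicative.ofAdd (1 : ZMod 2)) : Target) =
        (SemidirectProduct.inl (QuotientGroup.mk (mat 0)))⁻¹ * img 0 := by
      rw [img, SemidirectProduct.mk_eq_inl_mul_inr, inv_mul_cancel_left]
    rw [e]
    refine mul_mem (inv_mem ?_) ⟨pres6.gen 0, toTarget_gen (by decide)⟩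
    have : mat 0 ∈ reached := reached_top ▸ Subgroup.mem_top _
    exact this

theorem card_target : Nat.card Target = 3753792 := by
  have hGL : Nat.card (GL (Fin 3) (ZMod 7)) = 33784128 := by
    rw [Matrix.card_GL_field, ZMod.card]
    rfl
  have h1 := Cfsg.Agent.Lead.GLBasic.card_GL_eq (F := ZMod 7) 3
  have h2 := Cfsg.Agent.Lead.GLBasic.card_PSL (F := ZMod 7) 3
  rw [hGL, ZMod.card] at h1
  rw [ZMod.card, show Nat.gcd 3 (7 - 1) = 3 from rfl] at h2
  change 3 * Nat.card P37 = _ at h2
  rw [SemidirectProduct.card, show Nat.card (Multiplicative (ZMod 2)) = 2 by simp [Nat.card_eq_fintype_card]]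
  omega

theorem toTarget_bijective : Function.Bijective toTarget := by
  haveI := card6.1
  refine toTarget_surjective.bijective_of_nat_card_le ?_
  rw [card_target]
  exact card6.2

/-- the six-generator group is PSL(3, 7):2 -/
noncomputable def sixTarget : pres6.Grp ≃* Target := MulEquiv.ofBijective toTarget toTarget_bijective

end Cfsg.Agent.Spor.ONCert.Plane
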