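import Cfsg.Agent.Lib.Spor.ONMain
import Cfsg.Agent.Lib.Spor.ONPlane

/-!
In the presented O'Nan group ⟨a, …, f⟩ is PSL(3, 7):2.
-/

set_option autoImplicit false
set_option maxRecDepth 100000

namespace Cfsg.Agent.Spor.ONCert

open Cfsg.Agent.Spor.CC

/-- from the six-generator group into the big group -/
def sixHom : Plane.pres6.Grp →* pres.Grp :=
  PresentedGroup.toGroup (f := fun x => pres.gen (Plane.pres6.ix x)) (by
    intro r hr
    rcases hr with ⟨x, -, y, -, rfl⟩ | hr
    · have key : ∀ i, i < 6 → ∀ j, j < 6 → Cfsg.Spor.coxLabel Plane.pres6.edges (Plane.pres6.nm i) (Plane.pres6.nm j) =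
          Cfsg.Spor.coxLabel pres.edges (pres.nm i) (pres.nm j) := by decide +kernel
      have hx := Plane.pres6_ok.ix_lt x
      have hy := Plane.pres6_ok.ix_lt y
      have e := key _ hx _ hy
      rw [Plane.pres6_ok.nm_ix, Plane.pres6_ok.nm_ix] at e
      rw [map_pow, map_mul, FreeGroup.lift_apply_of, FreeGroup.lift_apply_of, e]
      exact Pres.cox_one pres_ok (Nat.lt_succ_of_lt hx) (Nat.lt_succ_of_lt hy)
    · simp only [Plane.pres6, List.mem_singleton, Set.mem_setOf_eq] at hr
      subst hr
      have hi : ∀ k, (pres.gen k)⁻¹ = pres.gen k := fun k => inv_eq_of_mul_eq_one_left (Pres.gen_sq pres_ok k)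
      have := Pres.relW_one pres_ok (r := [0, 5, 3, 2, 3, 2, 3, 2, 3, 2]) (by decide +kernel)
      simp only [map_mul, map_inv, map_pow, FreeGroup.lift_apply_of, Plane.pres6, Plane.ixSix]
      simpa [pow_succ, mul_inv_rev, hi, mul_assoc] using this)

theorem sixHom_range : sixHom.range = pres.sub six := by
  rw [MonoidHom.range_eq_map, ← Pres.closure_gen Plane.pres6_ok, MonoidHom.map_closure, Pres.sub]
  congr 1
  rw [← Set.image_comp]
  have e : ∀ k, k < 6 → sixHom (Plane.pres6.gen k) = pres.gen k := fun k hk => by
    rw [Pres.gen, if_pos (show k < Plane.pres6.ng from hk), sixHom, PresentedGroup.toGroup.of,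
      Plane.pres6_ok.ix_nm k hk]
  have hset : {x | x ∈ six} = {x | x < Plane.pres6.ng} := by
    ext k
    simp only [six, Set.mem_setOf_eq, List.mem_cons, List.not_mem_nil, or_false]
    show _ ↔ k < 6
    omega
  rw [hset]
  exact Set.image_congr fun k hk => e k hk

/-- the six-generator group is ⟨a, …, f⟩ -/
noncomputable def sixEquiv : Plane.pres6.Grp ≃* pres.sub six :=
  (MonoidHom.ofInjective (f := sixHom) (by
    haveI := Plane.card6.1
    have h := Nat.card_le_card_of_surjective _ sixHom.rangeRestrict_surjective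
    have hr : Nat.card sixHom.range = 3753792 :=
      (congrArg (fun S : Subgroup pres.Grp => Nat.card S) sixHom_range).trans (six_image facts).1
    have hb := sixHom.rangeRestrict_surjective.bijective_of_nat_card_le (hr ▸ Plane.card6.2)
    exact fun a b e => hb.1 (Subtype.ext e))).trans (MulEquiv.subgroupCongr sixHom_range)

/-- ⟨a, …, f⟩ is PSL(3, 7):2 -/
noncomputable def wordsTarget : wordsSub ≃* Plane.Target :=
  ((equiv.subgroupMap wordsSub).trans ((MulEquiv.subgroupCongr words_map).trans sixEquiv.symm)).trans
    Plane.sixTarget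

theorem words_index_two : ∃ N : Subgroup wordsSub, N.Normal ∧ N.index = 2 ∧ Nonempty (N ≃* Plane.P37) := by
  let R : Subgroup Plane.Target := (SemidirectProduct.inl : Plane.P37 →* Plane.Target).range
  let ψ : wordsSub →* Plane.Target := wordsTarget.toMonoidHom
  have hsurj : Function.Surjective ψ := wordsTarget.surjective
  haveI hR : R.Normal := by
    show ((SemidirectProduct.inl : Plane.P37 →* Plane.Target).range).Normal
    rw [SemidirectProduct.range_inl_eq_ker_rightHom]
    exact MonoidHom.normal_ker _
  have hidx : R.index = 2 := by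
    have e := Subgroup.card_mul_index R
    rw [show Nat.card R = Nat.card Plane.P37 from
        (Nat.card_congr (MonoidHom.ofInjective SemidirectProduct.inl_injective).toEquiv).symm,
      SemidirectProduct.card, show Nat.card (Multiplicative (ZMod 2)) = 2 by simp [Nat.card_eq_fintype_card]] at e
    have hpos : 0 < Nat.card Plane.P37 := Nat.card_pos
    exact Nat.eq_of_mul_eq_mul_left hpos e
  refine ⟨R.comap ψ, hR.comap ψ, by rw [Subgroup.index_comap_of_surjective _ hsurj, hidx], ⟨?_⟩⟩
  exact ((wordsTarget.subgroupMap (R.comap ψ)).trans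
    (MulEquiv.subgroupCongr (Subgroup.map_comap_eq_self_of_surjective hsurj R))).trans
    (MonoidHom.ofInjective SemidirectProduct.inl_injective).symm

end Cfsg.Agent.Spor.ONCert
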