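import Cfsg.Agent.Lib.Spor.ONPres
import Cfsg.Agent.Lib.Spor.ONIdxACert
import Cfsg.Agent.Lib.Spor.ONIdxJCert

/-!
The subgroup ⟨a, …, f⟩ of the O'Nan group as a presented group: an order bound.
-/

set_option autoImplicit false
set_option maxRecDepth 100000

namespace Cfsg.Agent.Spor.ONCert.Plane

open Cfsg.Agent.Spor.CC

/-- the six nodes -/
inductive Six
  | a
  | b
  | c
  | d
  | e
  | f
  deriving DecidableEq

/-- numbering -/
def ixSix : Six → ℕ
  | .a => 0
  | .b => 1
  | .c => 2
  | .d => 3
  | .e => 4
  | .f => 5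

/-- names -/
def nmSix (x : ℕ) : Six := [Six.a, .b, .c, .d, .e, .f].getD x .a

/-- the path a – b – c – d – e – f with the relation af = (cd)⁴ -/
def pres6 : Pres Six where
  edges := [(.a, 3, .b), (.b, 3, .c), (.c, 8, .d), (.d, 3, .e), (.e, 3, .f)]
  extra := [FreeGroup.of .a * FreeGroup.of .f * ((FreeGroup.of .c * FreeGroup.of .d) ^ 4)⁻¹]
  ng := 6
  ix := ixSix
  nm := nmSix
  extraW := [[0, 5, 3, 2, 3, 2, 3, 2, 3, 2]]

theorem pres6_ok : pres6.OK where
  ix_lt := fun a => by cases a <;> decide
  nm_ix := fun a => by cases a <;> rfl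
  ix_nm := by decide +kernel
  node := by decide +kernel
  symm := by decide +kernel
  ng_le := by decide
  extra_eq := by
    intro M _ f hf
    have hi : ∀ x, (f x)⁻¹ = f x := fun x => inv_eq_of_mul_eq_one_left (hf x)
    simp [pres6, pow_succ, mul_inv_rev, hi, mul_assoc, ixSix]

theorem relW_letters6 : lettersOK 6 pres6.relW = true := by decide +kernel

/-- witnesses -/
def witA : List (ℕ × ℕ × Bool) := [(20, 0, false), (16, 0, true), (12, 0, false), (16, 0, false), (17, 0, true), (13, 0, false), (17, 0, false), (18, 0, true), (14, 0, false), (18, 0, false), (8, 0, false), (7, 0, true), (7, 0, false), (6, 0, false), (8, 0, true), (6, 0, true)]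

/-- witnesses -/
def witJ : List (ℕ × ℕ × Bool) := [(14, 0, true), (10, 0, true), (13, 0, false), (15, 0, false), (19, 0, true), (9, 0, true), (7, 0, false), (9, 0, false), (12, 0, false), (18, 0, true), (13, 0, true), (18, 0, false), (14, 0, false), (16, 0, true), (12, 0, true), (10, 0, false), (16, 0, false), (17, 0, true), (17, 0, false), (8, 0, false), (7, 0, true), (20, 0, false), (15, 0, true), (20, 0, true), (19, 0, false), (21, 7, false), (21, 6, true), (21, 0, true), (6, 0, false), (21, 0, false), (21, 4, false), (21, 6, false), (21, 9, true), (8, 0, true), (21, 1, true), (21, 1, false), (21, 7, true), (21, 9, false), (21, 3, false), (21, 3, true), (6, 0, true), (21, 8, false), (21, 5, false), (21, 2, false), (21, 2, true), (11, 0, true), (11, 0, false), (21, 5, true), (21, 8, true), (21, 4, true)]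

theorem wordsA_ok : wordsOK IdxA.dat IdxA.letters 6 (pres6.relW ++ []) witA IdxA.subW = true := by decide +kernel

theorem wordsJ_ok : wordsOK IdxJ.dat IdxJ.letters 6 (pres6.relW ++ []) witJ IdxJ.subW = true := by decide +kernel

theorem card6 : Finite pres6.Grp ∧ Nat.card pres6.Grp ≤ 3753792 := by
  have h0 := Pres.sub_card_le pres6_ok IdxA.checked (ks := IdxA.letters) rfl (more := []) (by simp) wordsA_ok
    (b := 1) (by rw [show IdxA.subW = [] from rfl, Pres.wsub_nil]; exact bot_card)
  have e1 : pres6.wsub IdxJ.subW = pres6.sub IdxA.letters := Pres.wsub_singles [0, 1, 2, 4, 5]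
  have h1 := Pres.sub_card_le pres6_ok IdxJ.checked (ks := IdxJ.letters) rfl (more := []) (by simp) wordsJ_ok
    (e1 ▸ h0)
  have htop : pres6.sub IdxJ.letters = ⊤ := Pres.sub_all pres6_ok (by decide)
  rw [htop] at h1
  haveI := h1.1
  exact ⟨Finite.of_surjective _ (Subgroup.topEquiv (G := pres6.Grp)).surjective,
    (Nat.card_congr Subgroup.topEquiv.toEquiv).symm.trans_le (h1.2.trans (le_of_eq rfl))⟩

end Cfsg.Agent.Spor.ONCert.Plane
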