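import Cfsg.Agent.Lib.Spor.ONSubBase

/-!
A weaker suborbit test: a block of half the degree is excluded by elements of odd order.
-/

set_option autoImplicit false
set_option maxRecDepth 100000

namespace Cfsg.Agent.Spor.ONSub

open Cfsg.Agent.Spor.CC

/-- partial sums of suborbit lengths dividing the degree are trivial or one half -/
def sums2OK (m : ℕ) (ks : List ℕ) : Bool :=
  ((List.range (2 ^ ks.length)).all fun mask =>
    let t := (((List.range ks.length).map fun i => if mask.testBit i then ks.getD i 0 else 0)).sum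
    !(mask.testBit 0 && m % t == 0) || t == 1 || t == m || 2 * t == m)

section

variable {K : Type*} [Group K]

theorem primitive2 {P : Table} (h : P.Valid) (g : ℕ → K) (φ : K →* Equiv.Perm (Fin P.n))
    (hφ : ∀ x, x < P.ng → φ (g x) = P.perm h x) {L : List Orb} {Lb : ℕ}
    (hpart : partOK P.T P.ng P.n L Lb = true) (hsum : sums2OK P.n (L.map Orb.k) = true)
    (z : Fin P.n) (hz : fld Lb 4 z = 0) (htr : (sorbit φ ⊤ z).ncard = P.n)
    (hws : ∀ O ∈ L, ∀ w ∈ O.ws, (w.map g).prod ∈ stab φ z)
    (M : Subgroup K) (hM : stab φ z ≤ M) :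
    (sorbit φ M z).ncard = 1 ∨ (sorbit φ M z).ncard = P.n ∨ 2 * (sorbit φ M z).ncard = P.n := by
  classical
  simp only [partOK, Bool.and_eq_true, List.all_eq_true, List.mem_range] at hpart
  obtain ⟨horbs, hcov⟩ := hpart
  have hL : ∀ i, i < L.length → ∃ O, L[i]? = some O := fun i hi => ⟨_, List.getElem?_eq_getElem hi⟩
  set A := sorbit φ M z with hA
  let lab : Fin P.n → ℕ := fun u => fld Lb 4 u
  have hlab : ∀ u, lab u < L.length := by
    intro u
    by_contra hc
    have := hcov u u.2
    rw [List.getElem?_eq_none (by simpa [lab] using hc)] at this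
    cases this
  have hstab : ∀ s ∈ stab φ z, ∀ u ∈ A, φ s u ∈ A := by
    rintro s hs u ⟨t, ht, rfl⟩
    exact ⟨s * t, mul_mem (hM hs) ht, by rw [map_mul, Equiv.Perm.mul_apply]⟩
  have hfib : ∀ i, i < L.length → ∀ O, L[i]? = some O →
      {u | u ∈ A ∧ lab u = i}.ncard = if (∃ u ∈ A, lab u = i) then O.k else 0 := by
    intro i hi O hO
    have hh := horbs i hi
    simp only [hO, Bool.and_eq_true, List.all_eq_true, List.mem_range] at hh
    obtain ⟨⟨⟨⟨_, hb⟩, hok⟩, hlt⟩, hlbl⟩ := hh
    have hmem : O ∈ L := List.mem_of_getElem? hO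
    have hreach := orb_mem h g φ hφ hok hlt (stab φ z) (hws O hmem) ⟨O.b, Nat.le_of_ble_eq_true hb⟩ rfl
    split
    · rename_i hex
      obtain ⟨u, hu, hui⟩ := hex
      have hb' : (⟨O.b, Nat.le_of_ble_eq_true hb⟩ : Fin P.n) ∈ A := by
        have := hcov u u.2
        rw [show fld Lb 4 (u : ℕ) = i from hui, hO] at this
        simp only [Bool.and_eq_true] at this
        obtain ⟨s, hs, hse⟩ := hreach _ (Nat.le_of_ble_eq_true this.1)
        rw [Nat.eq_of_beq_eq_true this.2] at hse
        have : (⟨O.b, Nat.le_of_ble_eq_true hb⟩ : Fin P.n) = φ s⁻¹ u := by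
          rw [show u = φ s ⟨O.b, Nat.le_of_ble_eq_true hb⟩ from Fin.ext hse.symm, map_inv]
          simp
        rw [this]
        exact hstab _ (inv_mem hs) u hu
      have heq : Fin.val '' {u | u ∈ A ∧ lab u = i} = (fun j => fld O.pts 16 j) '' {j | j < O.k} := by
        ext v
        constructor
        · rintro ⟨w, ⟨-, hwi⟩, rfl⟩
          have := hcov w w.2
          rw [show fld Lb 4 (w : ℕ) = i from hwi, hO] at this
          simp only [Bool.and_eq_true] at this
          exact ⟨_, Nat.le_of_ble_eq_true this.1, Nat.eq_of_beq_eq_true this.2⟩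
        · rintro ⟨j, hj, rfl⟩
          obtain ⟨s, hs, hse⟩ := hreach j hj
          refine ⟨φ s ⟨O.b, Nat.le_of_ble_eq_true hb⟩, ⟨hstab s hs _ hb', ?_⟩, hse⟩
          show fld Lb 4 (φ s _ : ℕ) = i
          rw [hse]
          exact Nat.eq_of_beq_eq_true (hlbl j hj)
      rw [← Set.ncard_image_of_injective _ Fin.val_injective, heq, (orb_inj hok).ncard_image]
      show (Set.Iio O.k).ncard = O.k
      simp
    · rename_i hne
      rw [Set.ncard_eq_zero]
      ext u
      simp only [Set.mem_setOf_eq, Set.mem_empty_iff_false, iff_false, not_and]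
      exact fun hu he => hne ⟨u, hu, he⟩
  let keep : Finset ℕ := (Finset.range L.length).filter fun i => ∃ u ∈ A, lab u = i
  have hsumA : A.ncard = (((List.range (L.map Orb.k).length).map fun i =>
      if (∑ j ∈ keep, 2 ^ j).testBit i then (L.map Orb.k).getD i 0 else 0)).sum := by
    rw [List.length_map, Set.ncard_eq_toFinset_card',
      Finset.card_eq_sum_card_fiberwise (t := Finset.range L.length) (f := lab)
        (fun u _ => Finset.mem_range.mpr (hlab u)),
      show ((List.range L.length).map _).sum = ∑ i ∈ Finset.range L.length, _ from rfl]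
    refine Finset.sum_congr rfl fun i hi => ?_
    obtain ⟨O, hO⟩ := hL i (Finset.mem_range.mp hi)
    have := hfib i (Finset.mem_range.mp hi) O hO
    rw [Set.ncard_eq_toFinset_card'] at this
    rw [show (L.map Orb.k).getD i 0 = O.k by simp [List.getD, List.getElem?_map, hO]]
    have hbit : (∑ j ∈ keep, 2 ^ j).testBit i ↔ (∃ u ∈ A, lab u = i) := by
      rw [← Nat.mem_bitIndices, ← List.mem_toFinset, Finset.toFinset_bitIndices_sum_two_pow]
      simp [keep, Finset.mem_range.mp hi]
    rw [show A.toFinset.filter (fun u => lab u = i) = {u | u ∈ A ∧ lab u = i}.toFinset by ext u; simp, this]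
    by_cases hex : ∃ u ∈ A, lab u = i
    · rw [if_pos hex, if_pos (hbit.mpr hex)]
    · rw [if_neg hex, if_neg (fun hc => hex (hbit.mp hc))]
  have hmask : ∑ j ∈ keep, 2 ^ j < 2 ^ (L.map Orb.k).length := by
    rw [List.length_map]
    calc _ ≤ ∑ j ∈ Finset.range L.length, 2 ^ j :=
          Finset.sum_le_sum_of_subset (Finset.filter_subset _ _)
      _ < _ := Nat.geomSum_lt le_rfl (fun k hk => Finset.mem_range.mp hk)
  have hz0 : (∑ j ∈ keep, 2 ^ j).testBit 0 = true := by
    rw [← Nat.mem_bitIndices, ← List.mem_toFinset, Finset.toFinset_bitIndices_sum_two_pow]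
    simp only [keep, Finset.mem_filter, Finset.mem_range]
    exact ⟨hz ▸ hlab z, z, ⟨1, one_mem M, by simp⟩, hz⟩
  have hdvd : A.ncard ∣ P.n := by
    rw [hA, sorbit_ncard]
    have e := Subgroup.relIndex_mul_index hM
    rw [sorbit_ncard, Subgroup.relIndex_top_right] at htr
    rw [htr] at e
    exact ⟨_, e.symm⟩
  have key := List.all_eq_true.mp hsum _ (List.mem_range.mpr hmask)
  simp only [← hsumA, hz0, Bool.true_and, Bool.or_eq_true, beq_iff_eq,
    Bool.not_eq_true', beq_eq_false_iff_ne] at key
  rcases key with ((hk | hk) | hk) | hk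
  · exact absurd (Nat.mod_eq_zero_of_dvd hdvd) hk
  · exact Or.inl hk
  · exact Or.inr (Or.inl hk)
  · exact Or.inr (Or.inr hk)

end

/-- simplicity when products of two elements of prime order give the generators -/
theorem simple_of_half {α : Type} [DecidableEq α] {Q : Pres α} (R : Rep Q) [Finite Q.Grp]
    (hinj : Function.Injective R.hom) {L : List Orb} {Lb : ℕ}
    (hpart : partOK R.P.T R.P.ng R.P.n L Lb = true) (hsum : sums2OK R.P.n (L.map Orb.k) = true)
    (hz : fld Lb 4 R.z = 0) {W : List (List ℕ)} (hLW : ∀ O ∈ L, O.ws = W)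
    (hlW : lettersOK R.P.ng W = true) (hfix : fixOK R.P.T R.P.ng W [(R.z : ℕ)] = true)
    {q : ℕ} (hq : q.Prime) (hodd : q % 2 = 1) (hn : q ∣ R.P.n) (hfull : ¬ q ^ 2 ∣ Nat.card Q.Grp)
    (hgen : ∀ M : Subgroup Q.Grp, (∀ s : Q.Grp, s ^ q = 1 → s ∈ M) → M = ⊤) :
    ∀ N : Subgroup Q.Grp, N.Normal → N = ⊥ ∨ N = ⊤ := by
  have hle := R.wsub_le_stab hlW hfix
  have hprim : ∀ M : Subgroup Q.Grp, stab R.hom R.z ≤ M →
      (sorbit R.hom M R.z).ncard = 1 ∨ (sorbit R.hom M R.z).ncard = R.P.n := by
    intro M hM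
    rcases primitive2 R.valid Q.gen R.hom R.hom_gen hpart hsum R.z hz R.transitive
      (fun O hO w hw => hle (Subgroup.subset_closure ⟨w, (hLW O hO) ▸ hw, rfl⟩)) M hM with h | h | h
    · exact Or.inl h
    · exact Or.inr h
    · exfalso
      have hidx : M.index = 2 := by
        have e := Subgroup.relIndex_mul_index hM
        have htr := R.transitive
        rw [sorbit_ncard, Subgroup.relIndex_top_right] at htr
        rw [sorbit_ncard] at h
        replace e := (e.trans htr).trans (h.symm.trans (mul_comm _ _))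
        have hpos : 0 < (stab R.hom R.z).relIndex M := by
          have := R.z.2
          omega
        exact Nat.eq_of_mul_eq_mul_left hpos e
      have htop := hgen M fun s hs => by
        have h2 : s ^ 2 ∈ M := Subgroup.sq_mem_of_index_two hidx s
        have e : s = (s ^ q) * ((s ^ 2) ^ (q / 2))⁻¹ := by
          rw [← pow_mul, eq_mul_inv_iff_mul_eq, ← pow_succ']
          congr 1
          omega
        rw [e, hs, one_mul]
        exact inv_mem (pow_mem h2 _)
      rw [htop, Subgroup.index_top] at hidx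
      cases hidx
  intro N hN
  haveI := hN
  rcases normal_cases R.hom hinj R.z R.transitive hprim N hq (e := 1) (by rwa [pow_one]) hfull with h | h
  · exact Or.inl h
  · exact Or.inr (hgen N fun s hs => h s 1 (by rwa [pow_one]))

end Cfsg.Agent.Spor.ONSub
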