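import Cfsg.Agent.Lib.Spor.ONMain
import Cfsg.Agent.Lib.Spor.ONSubBase
import Cfsg.Agent.Lib.Spor.ONSubPrim
import Cfsg.Agent.Lib.Spor.ONJ1RepFacs
import Cfsg.Agent.Lib.Spor.ONJ1IdxDCert
import Cfsg.Agent.Lib.Spor.ONJ1IdxMainCert
import Cfsg.Agent.Lib.Spor.ONM11RepFacs
import Cfsg.Agent.Lib.Spor.ONM11IdxDCert
import Cfsg.Agent.Lib.Spor.ONM11IdxMainCert

/-!
J₁ and M₁₁ inside the presented O'Nan group; the permutation group of degree 122760.
-/

set_option autoImplicit false
set_option maxRecDepth 100000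

namespace Cfsg.Agent.Spor.ONSub

open Cfsg.Agent.Spor.CC

/-- points that determine an element -/
def probes : List ℕ := 0 :: ONCert.Tab.levels.map Orb.b

theorem probes_lt : ∀ b ∈ probes, b < 122760 := by decide +kernel

theorem word_one {w : List ℕ} (hl : ∀ x ∈ w, x < 7)
    (hf : probes.all (fun b => Nat.beq (ev ONCert.Tab.rows 7 w b) b) = true) :
    (w.map ONCert.pres.gen).prod = 1 := by
  let F := ONCert.facts
  generalize hs : (w.map ONCert.pres.gen).prod = s
  have hfix : ∀ b ∈ probes, ∀ u : Fin ONCert.Tab.tab.n, (u : ℕ) = b → ONCert.act F s u = u := by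
    intro b hb u hu
    apply Fin.ext
    rw [← hs, ev_eq F.valid ONCert.pres.gen (ONCert.act F) (ONCert.act_gen F) hl, hu]
    exact Nat.eq_of_beq_eq_true (List.all_eq_true.mp hf b hb)
  have hmem : s ∈ ONCert.pres.sub ONCert.six := by
    rw [(ONCert.six_eq F).1, mem_stab]
    exact hfix 0 (List.mem_cons_self ..) ONCert.base rfl
  haveI := F.six_card.1
  have hle := chain_fix_le F.valid ONCert.pres.gen (ONCert.act F) (ONCert.act_gen F) ONCert.Tab.levels []
    ONCert.Tab.chain_ok (ONCert.pres.sub ONCert.six) (by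
      rintro t - ⟨O, hO, v, hv, rfl⟩
      refine list_prod_mem fun y hy => ?_
      obtain ⟨x, hx, rfl⟩ := List.mem_map.mp hy
      refine Subgroup.subset_closure ⟨x, ?_, rfl⟩
      have : x < 6 := Nat.le_of_ble_eq_true (List.all_eq_true.mp (List.all_eq_true.mp (List.all_eq_true.mp
        ONCert.Tab.chain_letters O hO) v hv) x hx)
      simp only [ONCert.six, Set.mem_setOf_eq, List.mem_cons, List.not_mem_nil, or_false]
      omega)
  rw [ONCert.Tab.chain_size, (ONCert.six_image F).1] at hle
  let S1 := fixing (ONCert.act F) (ONCert.pres.sub ONCert.six) (ONCert.Tab.levels.map Orb.b)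
  have hin : s ∈ S1 := ⟨hmem, fun b hb => hfix b (List.mem_cons_of_mem _ hb)⟩
  haveI : Finite S1 := Finite.of_injective (fun t : S1 => (⟨t.1, t.2.1⟩ : ONCert.pres.sub ONCert.six))
    (fun a b e => Subtype.ext (congrArg (fun q : ONCert.pres.sub ONCert.six => (q : ONCert.pres.Grp)) e))
  have hone : Nat.card S1 ≤ 1 := by
    change 3753792 * Nat.card S1 ≤ 3753792 at hle
    omega
  have := (Finite.card_le_one_iff_subsingleton.mp hone).elim ⟨s, hin⟩ 1
  exact congrArg Subtype.val this

/-- the checks for images of generators -/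
noncomputable def imgOK (Q : Pres Tri) (imgs : List (List ℕ)) : Bool :=
  (imgs.all fun w => w.all fun x => Nat.blt x 7) &&
    Q.relW.all (fun r => probes.all fun b =>
      Nat.beq (ev ONCert.Tab.rows 7 (r.flatMap fun x => imgs.getD x []) b) b)

theorem img_letters {Q : Pres Tri} {imgs : List (List ℕ)} (h : imgOK Q imgs = true) (r : List ℕ) :
    ∀ x ∈ r.flatMap (fun x => imgs.getD x []), x < 7 := by
  intro x hx
  obtain ⟨y, -, hy⟩ := List.mem_flatMap.mp hx
  simp only [imgOK, Bool.and_eq_true] at h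
  by_cases hlt : y < imgs.length
  · rw [List.getD_eq_getElem _ _ hlt] at hy
    exact Nat.le_of_ble_eq_true (List.all_eq_true.mp (List.all_eq_true.mp h.1 _ (List.getElem_mem hlt)) x hy)
  · rw [List.getD_eq_default _ _ (by omega)] at hy
    simp at hy

/-- image of a numbered generator -/
def genImg (Q : Pres Tri) (imgs : List (List ℕ)) (x : ℕ) : ONCert.pres.Grp :=
  if x < Q.ng then ((imgs.getD x []).map ONCert.pres.gen).prod else 1

theorem genImg_rel {Q : Pres Tri} {imgs : List (List ℕ)} (h : imgOK Q imgs = true) {r : List ℕ}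
    (hr : r ∈ Q.relW) (hlet : ∀ x ∈ r, x < Q.ng) : (r.map (genImg Q imgs)).prod = 1 := by
  have e : ∀ l : List ℕ, (∀ x ∈ l, x < Q.ng) →
      (l.map (genImg Q imgs)).prod = ((l.flatMap fun x => imgs.getD x []).map ONCert.pres.gen).prod := by
    intro l hl
    induction l with
    | nil => rfl
    | cons a l ih =>
      rw [List.map_cons, List.prod_cons, ih (fun x hx => hl x (List.mem_cons_of_mem _ hx)), List.flatMap_cons,
        List.map_append, List.prod_append, genImg, if_pos (hl a (List.mem_cons_self ..))]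
  rw [e r hlet]
  refine word_one (img_letters h r) ?_
  simp only [imgOK, Bool.and_eq_true] at h
  exact List.all_eq_true.mp h.2 r hr

theorem relW_lt {Q : Pres Tri} (hQ : Q.OK) {r : List ℕ} (hr : r ∈ Q.relW)
    (hl : lettersOK Q.ng Q.extraW = true) : ∀ x ∈ r, x < Q.ng := by
  intro x hx
  simp only [Pres.relW, List.mem_append, List.mem_map, List.mem_flatMap, List.mem_range] at hr
  rcases hr with (⟨i, hi, rfl⟩ | ⟨i, hi, j, hj, rfl⟩) | hr
  · simp only [List.mem_cons, List.not_mem_nil, or_false] at hx; omega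
  · simp only [powW, List.mem_flatten, List.mem_replicate] at hx
    obtain ⟨l, ⟨-, rfl⟩, hx⟩ := hx
    simp only [List.mem_cons, List.not_mem_nil, or_false] at hx; omega
  · exact lettersOK_spec hl hr hx

theorem genImg_sq {Q : Pres Tri} (hQ : Q.OK) {imgs : List (List ℕ)} (h : imgOK Q imgs = true) (x : ℕ) :
    genImg Q imgs x * genImg Q imgs x = 1 := by
  by_cases hx : x < Q.ng
  · have := genImg_rel h (r := [x, x]) (by simp [Pres.relW, hx]) (by simp [hx])
    simpa using this
  · rw [genImg, if_neg hx, one_mul]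

theorem relW_img {Q : Pres Tri} (hQ : Q.OK) {imgs : List (List ℕ)} (h : imgOK Q imgs = true) {x y : ℕ}
    (hx : x < Q.ng) (hy : y < Q.ng) :
    (genImg Q imgs x * genImg Q imgs y) ^ Cfsg.Spor.coxLabel Q.edges (Q.nm x) (Q.nm y) = 1 := by
  have key : ∀ i j, i < Q.ng → j < i →
      (genImg Q imgs j * genImg Q imgs i) ^ Cfsg.Spor.coxLabel Q.edges (Q.nm j) (Q.nm i) = 1 := by
    intro i j hi hj
    have := genImg_rel h (r := powW (Cfsg.Spor.coxLabel Q.edges (Q.nm j) (Q.nm i)) [j, i]) (by
      simp only [Pres.relW, List.mem_append, List.mem_map, List.mem_flatMap, List.mem_range]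
      exact Or.inl (Or.inr ⟨i, hi, j, hj, rfl⟩)) (by
        intro z hz
        simp only [powW, List.mem_flatten, List.mem_replicate] at hz
        obtain ⟨l, ⟨-, rfl⟩, hz⟩ := hz
        simp only [List.mem_cons, List.not_mem_nil, or_false] at hz; omega)
    rw [prod_powW] at this
    simpa using this
  rcases lt_trichotomy x y with hlt | rfl | hgt
  · exact key y x hy hlt
  · rw [genImg_sq hQ h, one_pow]
  · have := key x y hx hgt
    rw [hQ.symm _ hy _ hx] at this
    have e : genImg Q imgs x * genImg Q imgs y = (genImg Q imgs y * genImg Q imgs x)⁻¹ := by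
      rw [mul_inv_rev, inv_eq_of_mul_eq_one_left (genImg_sq hQ h x), inv_eq_of_mul_eq_one_left (genImg_sq hQ h y)]
    rw [e, inv_pow, this, inv_one]

/-- the homomorphism given by checked images -/
noncomputable def embedding {Q : Pres Tri} (hQ : Q.OK) (imgs : List (List ℕ)) (h : imgOK Q imgs = true)
    (hl : lettersOK Q.ng Q.extraW = true := by decide +kernel) : Q.Grp →* ONCert.pres.Grp :=
  PresentedGroup.toGroup (f := genImg Q imgs ∘ Q.ix) (by
    intro r hr
    rcases hr with ⟨x, -, y, -, rfl⟩ | hr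
    · rw [map_pow, map_mul, FreeGroup.lift_apply_of, FreeGroup.lift_apply_of]
      have := relW_img hQ h (hQ.ix_lt x) (hQ.ix_lt y)
      rwa [hQ.nm_ix, hQ.nm_ix] at this
    · have key := hQ.extra_eq ONCert.pres.Grp (genImg Q imgs) (genImg_sq hQ h)
      have hmem : FreeGroup.lift (genImg Q imgs ∘ Q.ix) r ∈
          Q.extra.map (FreeGroup.lift (genImg Q imgs ∘ Q.ix)) := List.mem_map.mpr ⟨r, hr, rfl⟩
      rw [key] at hmem
      obtain ⟨w, hw, e⟩ := List.mem_map.mp hmem
      rw [← e]
      exact genImg_rel h (by simp [Pres.relW, hw]) fun x hx => lettersOK_spec hl hw hx)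

theorem gen_zero_ne : ONCert.pres.gen 0 ≠ 1 := by
  intro e
  have h := ONCert.act_val ONCert.facts (x := 0) (by norm_num) ⟨2, by decide⟩
  rw [e, map_one] at h
  have h' : ONCert.Tab.rows 0 2 ≠ 2 := by decide +kernel
  exact h' h.symm

theorem embed_injective {Q : Pres Tri} [IsSimpleGroup Q.Grp] (hQ : Q.OK) (imgs : List (List ℕ))
    (h : imgOK Q imgs = true) {hl : lettersOK Q.ng Q.extraW = true} (h0 : imgs.getD 0 [] = [0]) (hng : 0 < Q.ng) :
    Function.Injective (embedding hQ imgs h hl) := by
  rw [← MonoidHom.ker_eq_bot_iff]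
  rcases Subgroup.Normal.eq_bot_or_eq_top (MonoidHom.normal_ker (embedding hQ imgs h hl)) with e | e
  · exact e
  · exfalso
    refine gen_zero_ne ?_
    have hm : Q.gen 0 ∈ (embedding hQ imgs h hl).ker := e ▸ Subgroup.mem_top _
    rw [MonoidHom.mem_ker, Pres.gen, if_pos hng, embedding, PresentedGroup.toGroup.of, Function.comp_apply,
      hQ.ix_nm 0 hng, genImg, if_pos hng, h0] at hm
    simpa using hm

namespace J1

open ONJ1Cert

/-- the representation on 266 points -/
noncomputable def rep : Rep ONJ1Cert.pres where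
  P := Rep.tab
  ok := ONJ1Cert.pres_ok
  valid := Rep.valid
  hng := rfl
  letters := ONJ1Cert.relW_letters
  loops := Rep.loops
  z := ⟨0, by decide⟩
  all := Rep.allOrb
  all_b := rfl
  all_k := rfl
  all_ok := Rep.all_ok
  all_letters := Rep.all_letters

theorem order : Finite ONJ1Cert.pres.Grp ∧ Nat.card ONJ1Cert.pres.Grp = 175560 ∧ Function.Injective rep.hom := by
  refine rep.order_eq Rep.chain_ok Rep.chain_size ?_
  have h0 := Pres.sub_card_le ONJ1Cert.pres_ok IdxD.checked (ks := IdxD.letters) rfl (more := []) (by simp) IdxD.words_ok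
    (b := 1) (by rw [show IdxD.subW = [] from rfl, Pres.wsub_nil]; exact bot_card)
  have e1 : ONJ1Cert.pres.wsub IdxMain.subW = ONJ1Cert.pres.sub IdxD.letters := Pres.wsub_singles [0, 1]
  have h1 := Pres.sub_card_le ONJ1Cert.pres_ok IdxMain.checked (ks := IdxMain.letters) rfl (more := []) (by simp)
    IdxMain.words_ok (e1 ▸ h0)
  rw [Pres.sub_all ONJ1Cert.pres_ok (ks := IdxMain.letters) (by decide)] at h1
  exact ⟨h1.1, h1.2.trans (le_of_eq rfl)⟩

theorem subs_ws : ∀ O ∈ Rep.subs, O.ws = [[1], [2, 1, 2, 1, 0, 1, 0, 1, 0, 2]] := by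
  intro O hO
  simp only [Rep.subs, List.mem_cons, List.not_mem_nil, or_false] at hO
  rcases hO with rfl | rfl | rfl | rfl | rfl <;> rfl

theorem simple : IsSimpleGroup ONJ1Cert.pres.Grp := by
  obtain ⟨hfin, hcard, hinj⟩ := order
  haveI : Nontrivial ONJ1Cert.pres.Grp := Finite.one_lt_card_iff_nontrivial.mp (by rw [hcard]; norm_num)
  refine ⟨ONSub.simple_of_half rep hinj Rep.part_ok (by decide +kernel) (by decide +kernel) subs_ws
    (by decide +kernel) (by decide +kernel) (q := 19) (by norm_num) rfl (by decide +kernel)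
    (by rw [hcard]; norm_num) fun M hM => ?_⟩
  rw [eq_top_iff, ← Pres.closure_gen ONJ1Cert.pres_ok]
  refine (Subgroup.closure_le _).mpr ?_
  rintro _ ⟨x, hx, rfl⟩
  have h := List.all_eq_true.mp Rep.facs_ok x (List.mem_range.mpr hx)
  simp only [Bool.and_eq_true] at h
  set p := Rep.facs.getD x ([], [])
  have hone : ∀ w : List ℕ, w ∈ ([powW 19 p.1, powW 19 p.2, p.1 ++ p.2 ++ [x]] : List (List ℕ)) →
      (w.map ONJ1Cert.pres.gen).prod = 1 := fun w hw => hinj (by
    rw [map_one]
    ext u
    rw [ev_eq rep.valid ONJ1Cert.pres.gen rep.hom rep.hom_gen (fun y hy => lettersOK_spec h.1 hw hy)]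
    exact loopOK_spec h.2 (Nat.zero_le _) (lt_of_lt_of_eq u.2 (Nat.zero_add _).symm) hw)
  have h1 := hone _ (List.mem_cons_self ..)
  have h2 := hone _ (List.mem_cons_of_mem _ (List.mem_cons_self ..))
  have h3 := hone _ (List.mem_cons_of_mem _ (List.mem_cons_of_mem _ (List.mem_cons_self ..)))
  rw [prod_powW] at h1 h2
  simp only [List.map_append, List.prod_append, List.map_cons, List.map_nil, List.prod_cons,
    List.prod_nil, mul_one] at h3
  rw [SetLike.mem_coe, show ONJ1Cert.pres.gen x = _ from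
    ((eq_inv_of_mul_eq_one_left h3).trans (inv_eq_of_mul_eq_one_left (Pres.gen_sq ONJ1Cert.pres_ok x))).symm]
  exact mul_mem (hM _ h1) (hM _ h2)

/-- images of the generators in the big group -/
def imgs : List (List ℕ) := [[0], [6, 1, 4, 6, 1, 3, 3, 3, 1, 6, 4, 1, 6], [4, 3, 1, 6, 2, 3, 1, 2, 1, 3, 2, 6, 1, 3, 4]]

theorem imgs_ok : ONSub.imgOK ONJ1Cert.pres imgs = true := by decide +kernel

/-- the embedding -/
noncomputable def embed : ONJ1Cert.pres.Grp →* ONCert.pres.Grp := ONSub.embedding ONJ1Cert.pres_ok imgs imgs_ok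

theorem embed_injective : Function.Injective embed := by
  haveI := simple
  exact ONSub.embed_injective ONJ1Cert.pres_ok imgs imgs_ok rfl (by decide)

end J1

namespace M11

open ONM11Cert

/-- the representation on 11 points -/
noncomputable def rep : Rep ONM11Cert.pres where
  P := Rep.tab
  ok := ONM11Cert.pres_ok
  valid := Rep.valid
  hng := rfl
  letters := ONM11Cert.relW_letters
  loops := Rep.loops
  z := ⟨0, by decide⟩
  all := Rep.allOrb
  all_b := rfl
  all_k := rfl
  all_ok := Rep.all_ok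
  all_letters := Rep.all_letters

theorem order : Finite ONM11Cert.pres.Grp ∧ Nat.card ONM11Cert.pres.Grp = 7920 ∧ Function.Injective rep.hom := by
  refine rep.order_eq Rep.chain_ok Rep.chain_size ?_
  have h0 := Pres.sub_card_le ONM11Cert.pres_ok IdxD.checked (ks := IdxD.letters) rfl (more := []) (by simp) IdxD.words_ok
    (b := 1) (by rw [show IdxD.subW = [] from rfl, Pres.wsub_nil]; exact bot_card)
  have e1 : ONM11Cert.pres.wsub IdxMain.subW = ONM11Cert.pres.sub IdxD.letters := Pres.wsub_singles [0, 1]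
  have h1 := Pres.sub_card_le ONM11Cert.pres_ok IdxMain.checked (ks := IdxMain.letters) rfl (more := []) (by simp)
    IdxMain.words_ok (e1 ▸ h0)
  rw [Pres.sub_all ONM11Cert.pres_ok (ks := IdxMain.letters) (by decide)] at h1
  exact ⟨h1.1, h1.2.trans (le_of_eq rfl)⟩

theorem subs_ws : ∀ O ∈ Rep.subs, O.ws = [[2, 1], [2, 1, 2, 0, 2]] := by
  intro O hO
  simp only [Rep.subs, List.mem_cons, List.not_mem_nil, or_false] at hO
  rcases hO with rfl | rfl <;> rfl

theorem simple : IsSimpleGroup ONM11Cert.pres.Grp := by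
  obtain ⟨hfin, hcard, hinj⟩ := order
  haveI : Nontrivial ONM11Cert.pres.Grp := Finite.one_lt_card_iff_nontrivial.mp (by rw [hcard]; norm_num)
  refine ⟨fun N hN => ?_⟩
  haveI := hN
  by_cases hb : N = ⊥
  · exact Or.inl hb
  right
  rw [eq_top_iff, ← Pres.closure_gen ONM11Cert.pres_ok]
  refine (Subgroup.closure_le _).mpr ?_
  rintro _ ⟨x, hx, rfl⟩
  have h := List.all_eq_true.mp Rep.facs_ok x (List.mem_range.mpr hx)
  simp only [Bool.and_eq_true] at h
  refine (ONSub.gen_mem_normal' rep hinj Rep.part_ok Rep.sums_ok' (by decide +kernel) subs_ws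
    (by decide +kernel) (by decide +kernel) (q := 11) (by norm_num) (by decide +kernel)
    (by rw [hcard]; norm_num) (a := x) h.1 (fun u hu r hr => ?_) N).resolve_left hb
  exact loopOK_spec h.2 (Nat.zero_le _) (lt_of_lt_of_eq hu (Nat.zero_add _).symm) hr

/-- images of the generators in the big group -/
def imgs : List (List ℕ) := [[0], [5, 3, 2, 1, 6, 5, 4, 6, 3, 6, 4, 5, 6, 1, 2, 3, 5], [1, 0, 6, 0, 1, 6, 5, 2, 6, 2, 5, 6, 1, 0, 6, 0, 1]]

theorem imgs_ok : ONSub.imgOK ONM11Cert.pres imgs = true := by decide +kernel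

/-- the embedding -/
noncomputable def embed : ONM11Cert.pres.Grp →* ONCert.pres.Grp := ONSub.embedding ONM11Cert.pres_ok imgs imgs_ok

theorem embed_injective : Function.Injective embed := by
  haveI := simple
  exact ONSub.embed_injective ONM11Cert.pres_ok imgs imgs_ok rfl (by decide)

end M11

/-- the permutation group -/
noncomputable def big : ONCert.pres.Grp →* Equiv.Perm (Fin 122760) := ONCert.act ONCert.facts

theorem big_injective : Function.Injective big := ONCert.act_inj ONCert.facts

theorem range_sub {Q : Pres Tri} (e : Q.Grp →* ONCert.pres.Grp) (he : Function.Injective e)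
    (hs : IsSimpleGroup Q.Grp) {N : ℕ} (hc : Nat.card Q.Grp = N) :
    ∃ K : Subgroup big.range, IsSimpleGroup K ∧ Nat.card K = N := by
  let f : Q.Grp →* big.range := big.rangeRestrict.comp e
  have hf : Function.Injective f := fun a b hab =>
    he (big_injective (congrArg Subtype.val hab))
  let E := MonoidHom.ofInjective hf
  refine ⟨f.range, ?_, by rw [← Nat.card_congr E.toEquiv, hc]⟩
  haveI := hs
  haveI : Nontrivial f.range := E.symm.toEquiv.nontrivial
  exact IsSimpleGroup.isSimpleGroup_of_surjective E.toMonoidHom E.surjective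

theorem realization : ∃ H : Subgroup (Equiv.Perm (Fin 122760)), Cfsg.IsON H ∧
    MulAction.IsPretransitive H (Fin 122760) ∧ Nat.card (MulAction.stabilizer H (0 : Fin 122760)) = 3753792 ∧
    (∃ K : Subgroup H, Cfsg.IsJ1 K) ∧ (∃ K : Subgroup H, Cfsg.IsM11 K) := by
  let F := ONCert.facts
  let E := MonoidHom.ofInjective big_injective
  refine ⟨big.range, ⟨?_, ?_⟩, ⟨fun u v => ?_⟩, ?_, ?_, ?_⟩
  · haveI := ONCert.simple F
    haveI : Nontrivial big.range := E.symm.toEquiv.nontrivial
    exact IsSimpleGroup.isSimpleGroup_of_surjective E.toMonoidHom E.surjective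
  · rw [← Nat.card_congr E.toEquiv, ONCert.card F]
  · obtain ⟨p, hp⟩ := ONCert.exists_move F u
    obtain ⟨q, hq⟩ := ONCert.exists_move F v
    refine ⟨⟨big (q * p⁻¹), ⟨q * p⁻¹, rfl⟩⟩, ?_⟩
    show ONCert.act F (q * p⁻¹) u = v
    refine (Equiv.congr_fun (map_mul (ONCert.act F) q p⁻¹) u).trans ?_
    refine (Equiv.Perm.mul_apply _ _ _).trans ?_
    refine Eq.trans (congrArg (ONCert.act F q) ?_) hq
    rw [map_inv]
    exact Equiv.Perm.inv_eq_iff_eq.mpr hp.symm
  · have hmap : MulAction.stabilizer big.range (0 : Fin 122760) =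
        (ONCert.pres.sub ONCert.six).map big.rangeRestrict := by
      rw [(ONCert.six_eq F).1]
      ext ⟨x, p, rfl⟩
      constructor
      · intro hx
        exact ⟨p, hx, Subtype.ext rfl⟩
      · rintro ⟨s, hs, e⟩
        have : big p = big s := congrArg Subtype.val e.symm
        show big p (0 : Fin 122760) = 0
        rw [this]
        exact hs
    rw [hmap, ← (ONCert.six_image F).1]
    exact Nat.card_congr (Subgroup.equivMapOfInjective _ _
      (fun a b hab => big_injective (congrArg Subtype.val hab))).symm.toEquiv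
  · obtain ⟨K, h1, h2⟩ := range_sub J1.embed J1.embed_injective J1.simple J1.order.2.1
    exact ⟨K, h1, h2⟩
  · obtain ⟨K, h1, h2⟩ := range_sub M11.embed M11.embed_injective M11.simple M11.order.2.1
    exact ⟨K, h1, h2⟩

end Cfsg.Agent.Spor.ONSub
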