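import Cfsg.Agent.Lib.Spor.PresCert

/-!
Index, orbit and simplicity consequences of a checked permutation action.
-/

set_option autoImplicit false

namespace Cfsg.Agent.Spor.CC

variable {K : Type*} [Group K] {n : ℕ}

/-- the stabiliser of a point -/
def stab (φ : K →* Equiv.Perm (Fin n)) (z : Fin n) : Subgroup K :=
  (MulAction.stabilizer (Equiv.Perm (Fin n)) z).comap φ

theorem mem_stab {φ : K →* Equiv.Perm (Fin n)} {z : Fin n} {s : K} : s ∈ stab φ z ↔ φ s z = z :=
  Iff.rfl

/-- orbit of a point under a subgroup -/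
def sorbit (φ : K →* Equiv.Perm (Fin n)) (S : Subgroup K) (z : Fin n) : Set (Fin n) :=
  {u | ∃ s ∈ S, φ s z = u}

theorem sorbit_ncard (φ : K →* Equiv.Perm (Fin n)) (S : Subgroup K) (z : Fin n) :
    (sorbit φ S z).ncard = (stab φ z).relIndex S := by
  letI : MulAction S (Fin n) := MulAction.compHom _ (φ.comp S.subtype)
  have e1 : sorbit φ S z = MulAction.orbit S z := by
    ext u
    exact ⟨fun ⟨s, hs, e⟩ => ⟨⟨s, hs⟩, e⟩, fun ⟨s, e⟩ => ⟨s, s.2, e⟩⟩
  have e2 : (stab φ z).subgroupOf S = MulAction.stabilizer S z := by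
    ext s; exact Iff.rfl
  rw [e1, Subgroup.relIndex, e2, MulAction.index_stabilizer]

/-- a subgroup fixing a point with a small enough index is the stabiliser -/
theorem eq_stab (φ : K →* Equiv.Perm (Fin n)) (z : Fin n) (H : Subgroup K) (hle : H ≤ stab φ z)
    (htr : (sorbit φ ⊤ z).ncard = n) (hi : H.index ≠ 0 ∧ H.index ≤ n) :
    H = stab φ z ∧ H.index = n := by
  rw [sorbit_ncard, Subgroup.relIndex_top_right] at htr
  have hmul := Subgroup.relIndex_mul_index hle
  rw [htr] at hmul
  have hn : 0 < n := z.pos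
  have h1 : H.relIndex (stab φ z) = 1 := by
    rcases Nat.lt_trichotomy (H.relIndex (stab φ z)) 1 with h | h | h
    · simp [Nat.lt_one_iff.mp h] at hmul; exact absurd hmul.symm hi.1
    · exact h
    · have : 2 * n ≤ H.index := hmul ▸ Nat.mul_le_mul_right _ h
      omega
  exact ⟨le_antisymm hle (Subgroup.relIndex_eq_one.mp h1), by rw [← hmul, h1, one_mul]⟩

/-- orbits on cosets are orbits on points -/
theorem coset_orbit (φ : K →* Equiv.Perm (Fin n)) (z : Fin n) (H : Subgroup K) (hH : H = stab φ z)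
    (p : K) : (MulAction.orbit H (p : K ⧸ H)).ncard = (sorbit φ H (φ p z)).ncard := by
  let ψ : K ⧸ H → Fin n := fun q => Quotient.liftOn' q (fun r => φ r z) (by
    intro a b hab
    rw [QuotientGroup.leftRel_apply, hH, mem_stab, map_mul, map_inv, Equiv.Perm.mul_apply,
      Equiv.Perm.inv_eq_iff_eq] at hab
    exact hab.symm)
  have hψ : ∀ r : K, ψ (r : K ⧸ H) = φ r z := fun r => rfl
  have hinj : Function.Injective ψ := by
    intro a b
    induction a using QuotientGroup.induction_on with
    | H a =>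
      induction b using QuotientGroup.induction_on with
      | H b =>
        intro e
        rw [hψ, hψ] at e
        rw [QuotientGroup.eq, hH, mem_stab, map_mul, map_inv, Equiv.Perm.mul_apply,
          Equiv.Perm.inv_eq_iff_eq]
        exact e.symm
  rw [← Set.ncard_image_of_injective _ hinj]
  congr 1
  ext u
  constructor
  · rintro ⟨_, ⟨s, rfl⟩, rfl⟩
    refine ⟨s, s.2, ?_⟩
    show φ (s : K) (φ p z) = ψ (((s : K) * p : K) : K ⧸ H)
    rw [hψ, map_mul, Equiv.Perm.mul_apply]
  · rintro ⟨s, hs, rfl⟩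
    refine ⟨(((s * p : K)) : K ⧸ H), ⟨⟨s, hs⟩, rfl⟩, ?_⟩
    rw [hψ, map_mul, Equiv.Perm.mul_apply]

/-- every point is in exactly one of the listed orbits, named by the label table -/
noncomputable def partOK (T : ℕ → ℕ → ℕ) (ng m : ℕ) (L : List Orb) (Lb : ℕ) : Bool :=
  ((List.range L.length).all fun i =>
    match L[i]? with
    | some O => Nat.blt 0 O.k && Nat.blt O.b m && orbOK T ng O && lettersOK ng O.ws &&
        (List.range O.k).all fun j => Nat.beq (fld Lb 4 (fld O.pts 16 j)) i
    | none => false) &&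
  ((List.range m).all fun u =>
    match L[fld Lb 4 u]? with
    | some O => Nat.blt (fld O.posn 16 u) O.k && Nat.beq (fld O.pts 16 (fld O.posn 16 u)) u
    | none => false)

/-- the sums of orbit sizes that can be orbit sizes of a larger group -/
def sumsOK (m : ℕ) (ks : List ℕ) : Bool :=
  ((List.range (2 ^ ks.length)).all fun mask =>
    let t := (((List.range ks.length).map fun i => if mask.testBit i then ks.getD i 0 else 0)).sum
    !(mask.testBit 0 && m % t == 0) || t == 1 || t == m)

theorem primitive {P : Table} (h : P.Valid) (g : ℕ → K) (φ : K →* Equiv.Perm (Fin P.n))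
    (hφ : ∀ x, x < P.ng → φ (g x) = P.perm h x) {L : List Orb} {Lb : ℕ}
    (hpart : partOK P.T P.ng P.n L Lb = true) (hsum : sumsOK P.n (L.map Orb.k) = true)
    (z : Fin P.n) (hz : fld Lb 4 z = 0) (htr : (sorbit φ ⊤ z).ncard = P.n)
    (hws : ∀ O ∈ L, ∀ w ∈ O.ws, (w.map g).prod ∈ stab φ z)
    (M : Subgroup K) (hM : stab φ z ≤ M) :
    (sorbit φ M z).ncard = 1 ∨ (sorbit φ M z).ncard = P.n := by
  classical
  simp only [partOK, Bool.and_eq_true, List.all_eq_true, List.mem_range] at hpart
  obtain ⟨horbs, hcov⟩ := hpart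
  have hL : ∀ i, i < L.length → ∃ O, L[i]? = some O := fun i hi => ⟨_, List.getElem?_eq_getElem hi⟩
  set A := sorbit φ M z with hA
  let lab : Fin P.n → ℕ := fun u => fld Lb 4 u
  have hlab : ∀ u, lab u < L.length := by
    intro u
    by_contra hc
    have := hcov u u.2
    rw [List.getElem?_eq_none (by simpa [lab] using hc)] at this
    cases this
  have hstab : ∀ s ∈ stab φ z, ∀ u ∈ A, φ s u ∈ A := by
    rintro s hs u ⟨t, ht, rfl⟩
    exact ⟨s * t, mul_mem (hM hs) ht, by rw [map_mul, Equiv.Perm.mul_apply]⟩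
  have hfib : ∀ i, i < L.length → ∀ O, L[i]? = some O →
      {u | u ∈ A ∧ lab u = i}.ncard = if (∃ u ∈ A, lab u = i) then O.k else 0 := by
    intro i hi O hO
    have hh := horbs i hi
    simp only [hO, Bool.and_eq_true, List.all_eq_true, List.mem_range] at hh
    obtain ⟨⟨⟨⟨_, hb⟩, hok⟩, hlt⟩, hlbl⟩ := hh
    have hmem : O ∈ L := List.mem_of_getElem? hO
    have hreach := orb_mem h g φ hφ hok hlt (stab φ z) (hws O hmem) ⟨O.b, Nat.le_of_ble_eq_true hb⟩ rfl
    split
    · rename_i hex
      obtain ⟨u, hu, hui⟩ := hex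
      have hb' : (⟨O.b, Nat.le_of_ble_eq_true hb⟩ : Fin P.n) ∈ A := by
        have := hcov u u.2
        rw [show fld Lb 4 (u : ℕ) = i from hui, hO] at this
        simp only [Bool.and_eq_true] at this
        obtain ⟨s, hs, hse⟩ := hreach _ (Nat.le_of_ble_eq_true this.1)
        rw [Nat.eq_of_beq_eq_true this.2] at hse
        have : (⟨O.b, Nat.le_of_ble_eq_true hb⟩ : Fin P.n) = φ s⁻¹ u := by
          rw [show u = φ s ⟨O.b, Nat.le_of_ble_eq_true hb⟩ from Fin.ext hse.symm, map_inv]
          simp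
        rw [this]
        exact hstab _ (inv_mem hs) u hu
      have heq : Fin.val '' {u | u ∈ A ∧ lab u = i} = (fun j => fld O.pts 16 j) '' {j | j < O.k} := by
        ext v
        constructor
        · rintro ⟨w, ⟨-, hwi⟩, rfl⟩
          have := hcov w w.2
          rw [show fld Lb 4 (w : ℕ) = i from hwi, hO] at this
          simp only [Bool.and_eq_true] at this
          exact ⟨_, Nat.le_of_ble_eq_true this.1, Nat.eq_of_beq_eq_true this.2⟩
        · rintro ⟨j, hj, rfl⟩
          obtain ⟨s, hs, hse⟩ := hreach j hj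
          refine ⟨φ s ⟨O.b, Nat.le_of_ble_eq_true hb⟩, ⟨hstab s hs _ hb', ?_⟩, hse⟩
          show fld Lb 4 (φ s _ : ℕ) = i
          rw [hse]
          exact Nat.eq_of_beq_eq_true (hlbl j hj)
      rw [← Set.ncard_image_of_injective _ Fin.val_injective, heq, (orb_inj hok).ncard_image]
      show (Set.Iio O.k).ncard = O.k
      simp
    · rename_i hne
      rw [Set.ncard_eq_zero]
      ext u
      simp only [Set.mem_setOf_eq, Set.mem_empty_iff_false, iff_false, not_and]
      exact fun hu he => hne ⟨u, hu, he⟩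
  let keep : Finset ℕ := (Finset.range L.length).filter fun i => ∃ u ∈ A, lab u = i
  have hsumA : A.ncard = (((List.range (L.map Orb.k).length).map fun i =>
      if (∑ j ∈ keep, 2 ^ j).testBit i then (L.map Orb.k).getD i 0 else 0)).sum := by
    rw [List.length_map, Set.ncard_eq_toFinset_card',
      Finset.card_eq_sum_card_fiberwise (t := Finset.range L.length) (f := lab)
        (fun u _ => Finset.mem_range.mpr (hlab u)),
      show ((List.range L.length).map _).sum = ∑ i ∈ Finset.range L.length, _ from rfl]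
    refine Finset.sum_congr rfl fun i hi => ?_
    obtain ⟨O, hO⟩ := hL i (Finset.mem_range.mp hi)
    have := hfib i (Finset.mem_range.mp hi) O hO
    rw [Set.ncard_eq_toFinset_card'] at this
    rw [show (L.map Orb.k).getD i 0 = O.k by simp [List.getD, List.getElem?_map, hO]]
    have hbit : (∑ j ∈ keep, 2 ^ j).testBit i ↔ (∃ u ∈ A, lab u = i) := by
      rw [← Nat.mem_bitIndices, ← List.mem_toFinset, Finset.toFinset_bitIndices_sum_two_pow]
      simp [keep, Finset.mem_range.mp hi]
    rw [show A.toFinset.filter (fun u => lab u = i) = {u | u ∈ A ∧ lab u = i}.toFinset by ext u; simp, this]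
    by_cases hex : ∃ u ∈ A, lab u = i
    · rw [if_pos hex, if_pos (hbit.mpr hex)]
    · rw [if_neg hex, if_neg (fun hc => hex (hbit.mp hc))]
  have hmask : ∑ j ∈ keep, 2 ^ j < 2 ^ (L.map Orb.k).length := by
    rw [List.length_map]
    calc _ ≤ ∑ j ∈ Finset.range L.length, 2 ^ j :=
          Finset.sum_le_sum_of_subset (Finset.filter_subset _ _)
      _ < _ := Nat.geomSum_lt le_rfl (fun k hk => Finset.mem_range.mp hk)
  have hz0 : (∑ j ∈ keep, 2 ^ j).testBit 0 = true := by
    rw [← Nat.mem_bitIndices, ← List.mem_toFinset, Finset.toFinset_bitIndices_sum_two_pow]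
    simp only [keep, Finset.mem_filter, Finset.mem_range]
    exact ⟨hz ▸ hlab z, z, ⟨1, one_mem M, by simp⟩, hz⟩
  have hdvd : A.ncard ∣ P.n := by
    rw [hA, sorbit_ncard]
    have e := Subgroup.relIndex_mul_index hM
    rw [sorbit_ncard, Subgroup.relIndex_top_right] at htr
    rw [htr] at e
    exact ⟨_, e.symm⟩
  have key := List.all_eq_true.mp hsum _ (List.mem_range.mpr hmask)
  simp only [← hsumA, hz0, Bool.true_and, Bool.or_eq_true, beq_iff_eq,
    Bool.not_eq_true', beq_eq_false_iff_ne] at key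
  rcases key with (hk | hk) | hk
  · exact absurd (Nat.mod_eq_zero_of_dvd hdvd) hk
  · exact Or.inl hk
  · exact Or.inr hk

/-- normal subgroups of a primitive faithful group: trivial, or containing all elements of
`q`-power order when the full `q`-part of the order divides the degree -/
theorem normal_cases (φ : K →* Equiv.Perm (Fin n)) [Finite K] (hinj : Function.Injective φ)
    (z : Fin n) (htr : (sorbit φ ⊤ z).ncard = n)
    (hprim : ∀ M : Subgroup K, stab φ z ≤ M → (sorbit φ M z).ncard = 1 ∨ (sorbit φ M z).ncard = n)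
    (N : Subgroup K) [N.Normal] {q e : ℕ} (hq : q.Prime) (he : q ^ e ∣ n)
    (hfull : ¬ q ^ (e + 1) ∣ Nat.card K) :
    N = ⊥ ∨ ∀ x : K, ∀ j : ℕ, x ^ q ^ j = 1 → x ∈ N := by
  have htr' : (sorbit φ ⊤ z) = Set.univ :=
    Set.eq_of_subset_of_ncard_le (Set.subset_univ _) (by rw [Set.ncard_univ, Nat.card_fin, htr])
  have hall : ∀ u, ∃ p : K, φ p z = u := fun u => by
    obtain ⟨p, -, hp⟩ := (htr' ▸ Set.mem_univ u : u ∈ sorbit φ ⊤ z)
    exact ⟨p, hp⟩
  rcases hprim (stab φ z ⊔ N) le_sup_left with h | h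
  · left
    obtain ⟨a, ha⟩ := Set.ncard_eq_one.mp h
    have hfix : ∀ s ∈ stab φ z ⊔ N, φ s z = z := by
      intro s hs
      have h1 : φ s z ∈ sorbit φ (stab φ z ⊔ N) z := ⟨s, hs, rfl⟩
      have h2 : z ∈ sorbit φ (stab φ z ⊔ N) z := ⟨1, one_mem _, by simp⟩
      rw [ha] at h1 h2
      exact h1.trans h2.symm
    rw [Subgroup.eq_bot_iff_forall]
    intro x hx
    apply hinj
    rw [map_one]
    ext u
    obtain ⟨p, rfl⟩ := hall u
    have := hfix (p⁻¹ * x * p)
      (Subgroup.mem_sup_right (by simpa using Subgroup.Normal.conj_mem ‹N.Normal› x hx p⁻¹))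
    rw [map_mul, map_mul, map_inv, Equiv.Perm.mul_apply, Equiv.Perm.mul_apply,
      Equiv.Perm.inv_eq_iff_eq] at this
    rw [Equiv.Perm.one_apply, this]
  · right
    have hN : (sorbit φ N z).ncard = n := by
      refine Eq.trans ?_ h
      congr 1
      refine Set.Subset.antisymm (fun u ⟨s, hs, e⟩ => ⟨s, Subgroup.mem_sup_right hs, e⟩) ?_
      rintro u ⟨s, hs, rfl⟩
      rw [sup_comm, ← SetLike.mem_coe, Subgroup.normal_mul] at hs
      obtain ⟨a, ha, b, hb, rfl⟩ := hs
      exact ⟨a, ha, by rw [map_mul, Equiv.Perm.mul_apply, mem_stab.mp hb]⟩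
    have hndvd : n ∣ Nat.card N := by
      have e1 := Subgroup.card_mul_index ((stab φ z).subgroupOf N)
      rw [show ((stab φ z).subgroupOf N).index = (stab φ z).relIndex N from rfl,
        ← sorbit_ncard, hN] at e1
      exact ⟨_, by rw [← e1, mul_comm]⟩
    intro x j hx
    have hidx : ¬ q ∣ N.index := by
      intro hd
      apply hfull
      rw [← Subgroup.card_mul_index N, pow_succ]
      exact Nat.mul_dvd_mul (he.trans hndvd) hd
    have h1 : (x : K ⧸ N) ^ q ^ j = 1 := by
      rw [← QuotientGroup.mk_pow, hx, QuotientGroup.mk_one]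
    have h2 : orderOf (x : K ⧸ N) ∣ q ^ j := orderOf_dvd_of_pow_eq_one h1
    have h3 : orderOf (x : K ⧸ N) ∣ N.index := orderOf_dvd_natCard _
    have h4 : orderOf (x : K ⧸ N) = 1 :=
      Nat.eq_one_of_dvd_coprimes
        (Nat.Coprime.pow_left _ ((Nat.Prime.coprime_iff_not_dvd hq).mpr hidx)) h2 h3
    rw [orderOf_eq_one_iff, QuotientGroup.eq_one_iff] at h4
    exact h4

end Cfsg.Agent.Spor.CC
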