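import Cfsg.Prelude.Def_SporadicB
import Cfsg.Agent.Lib.Classical.OrthMatrix
import Cfsg.Agent.Lib.Classical.OrthForms

/-!
Orthogonal transvections over the field with two elements form a class of 3-transpositions.
-/

set_option autoImplicit false
set_option linter.unusedSectionVars false

namespace Cfsg.Agent.Spor.OrthTrans

open Module QuadraticMap Matrix Cfsg.Agent.Classical.ORefl Cfsg.Agent.Classical.OCount

variable {ι : Type} [Fintype ι] [DecidableEq ι] (Q : QuadraticForm (ZMod 2) (ι → ZMod 2))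

theorem two_cases : ∀ a : ZMod 2, a = 0 ∨ a = 1 := by decide

/-- the reflection as a matrix isometry -/
noncomputable def tv (v : ι → ZMod 2) : ↥(Cfsg.isometryGroup (ZMod 2) ⇑Q) := toMat Q ⟨refl Q v, refl_mem v⟩

theorem refl_eq {v : ι → ZMod 2} (hv : Q v = 1) (x : ι → ZMod 2) :
    refl Q v x = x + polar Q v x • v := by
  rw [refl_apply, hv, inv_one, one_mul, sub_eq_add_neg, ← neg_smul, CharTwo.neg_eq]

theorem tv_conj (g : ↥(Cfsg.isometryGroup (ZMod 2) ⇑Q)) (v : ι → ZMod 2) :
    g * tv Q v * g⁻¹ = tv Q ((toMat Q).symm g |>.1 v) := by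
  have h := conj_refl ((toMat Q).symm g).2 v
  unfold tv
  conv_lhs => rw [← (toMat Q).apply_symm_apply g]
  rw [← map_inv, ← map_mul, ← map_mul]
  exact congrArg _ (Subtype.ext h)

theorem tv_sq (v : ι → ZMod 2) : tv Q v * tv Q v = 1 := by
  unfold tv
  rw [← map_mul]
  exact (congrArg _ (Subtype.ext (refl_mul_self v))).trans (map_one _)

theorem mulVec_sub_one (g : ↥(Cfsg.isometryGroup (ZMod 2) ⇑Q)) (x : ι → ZMod 2) :
    (((g : GL ι (ZMod 2)) : Matrix ι ι (ZMod 2)) - 1) *ᵥ x = ((toMat Q).symm g).1 x - x := by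
  rw [Matrix.sub_mulVec, Matrix.one_mulVec, ← toMat_apply ((toMat Q).symm g) x, MulEquiv.apply_symm_apply]

theorem tv_rank (hQ : PND Q) {v : ι → ZMod 2} (hv : Q v = 1) :
    (((tv Q v : GL ι (ZMod 2)) : Matrix ι ι (ZMod 2)) - 1).rank = 1 := by
  have hv0 : v ≠ 0 := fun h => by rw [h, QuadraticMap.map_zero] at hv; exact zero_ne_one hv
  have hr : LinearMap.range (((tv Q v : GL ι (ZMod 2)) : Matrix ι ι (ZMod 2)) - 1).mulVecLin =
      (Submodule.span (ZMod 2) {v}) := by
    ext y
    rw [LinearMap.mem_range, Submodule.mem_span_singleton]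
    constructor
    · rintro ⟨x, rfl⟩
      refine ⟨polar Q v x, ?_⟩
      rw [Matrix.mulVecLin_apply, mulVec_sub_one]
      unfold tv
      rw [MulEquiv.symm_apply_apply, refl_eq Q hv, add_sub_cancel_left]
    · rintro ⟨c, rfl⟩
      obtain ⟨x, hx⟩ : ∃ x, polar Q v x = 1 := by
        by_contra hno
        push Not at hno
        exact hv0 (hQ v fun x => (two_cases _).resolve_right (hno x))
      refine ⟨c • x, ?_⟩
      rw [Matrix.mulVecLin_apply, mulVec_sub_one]
      unfold tv
      rw [MulEquiv.symm_apply_apply, refl_eq Q hv, add_sub_cancel_left, polar_smul_right, hx]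
      simp
  rw [Matrix.rank, hr]
  exact finrank_span_singleton hv0

theorem exists_tv (hQ : PND Q) (g : ↥(Cfsg.isometryGroup (ZMod 2) ⇑Q))
    (hg : (((g : GL ι (ZMod 2)) : Matrix ι ι (ZMod 2)) - 1).rank = 1) :
    ∃ v, Q v = 1 ∧ g = tv Q v := by
  set f := ((toMat Q).symm g) with hf
  rw [Matrix.rank] at hg
  obtain ⟨⟨w, hw⟩, hw0, hspan⟩ := finrank_eq_one_iff'.1 hg
  have hw0' : w ≠ 0 := fun h => hw0 (Subtype.ext h)
  have hsub : ∀ x, f.1 x = x ∨ f.1 x = x + w := by
    intro x
    obtain ⟨c, hc⟩ := hspan ⟨_, LinearMap.mem_range_self (((g : GL ι (ZMod 2)) : Matrix ι ι (ZMod 2)) - 1).mulVecLin x⟩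
    have hc' : c • w = f.1 x - x := by
      rw [← mulVec_sub_one]
      exact congrArg Subtype.val hc
    rcases two_cases c with rfl | rfl
    · left; rw [zero_smul] at hc'; exact sub_eq_zero.1 hc'.symm
    · right; rw [one_smul] at hc'; rw [hc']; abel
  have hiso : ∀ x, Q (f.1 x) = Q x := f.2
  have hmove : ∀ x, f.1 x = x + w → polar Q x w + Q w = 0 := by
    intro x hx
    have := hiso x
    rw [hx, map_two] at this
    linear_combination this
  obtain ⟨x₀, hx₀⟩ : ∃ x, f.1 x = x + w := by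
    by_contra hno
    push Not at hno
    obtain ⟨x, hx⟩ := hw
    rw [Matrix.mulVecLin_apply, mulVec_sub_one, ← hf, (hsub x).resolve_right (hno x), sub_self] at hx
    exact hw0' hx.symm
  have hfix : ∀ x, f.1 x = x → f.1 (x + x₀) = x + x₀ + w := fun x hx => by
    rw [map_add, hx, hx₀]; abel
  have hQw : Q w = 1 := by
    refine (two_cases _).resolve_left fun h => hw0' (hQ w fun x => ?_)
    have key : ∀ x, f.1 x = x + w → polar Q w x = 0 := fun x hx => by
      have := hmove x hx
      rwa [h, add_zero, polar_comm] at this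
    rcases hsub x with hx | hx
    · have := key _ (hfix x hx)
      rwa [polar_add_right, key x₀ hx₀, add_zero] at this
    · exact key x hx
  refine ⟨w, hQw, ?_⟩
  have hval : ∀ x, f.1 x = x + w → polar Q w x = 1 := fun x hx => by
    have := hmove x hx
    rw [hQw, polar_comm] at this
    rcases two_cases (polar Q w x) with h | h
    · rw [h, zero_add] at this; exact absurd this one_ne_zero
    · exact h
  have hfe : f = ⟨refl Q w, refl_mem w⟩ := by
    refine Subtype.ext (LinearEquiv.ext fun x => ?_)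
    show f.1 x = refl Q w x
    rw [refl_eq Q hQw]
    rcases hsub x with hx | hx
    · have := hval _ (hfix x hx)
      rw [polar_add_right, hval x₀ hx₀] at this
      rw [hx, show polar Q w x = 0 by linear_combination this, zero_smul, add_zero]
    · rw [hx, hval x hx, one_smul]
  unfold tv
  rw [← hfe, hf, MulEquiv.apply_symm_apply]

theorem tv_order (hQ : PND Q) {v : ι → ZMod 2} (hv : Q v = 1) : orderOf (tv Q v) = 2 := by
  haveI : Fact (Nat.Prime 2) := ⟨Nat.prime_two⟩
  refine orderOf_eq_prime (by rw [pow_two, tv_sq]) fun h => ?_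
  have := tv_rank Q hQ hv
  rw [h] at this
  simp at this

theorem tv_pair {v w : ι → ZMod 2} (hv : Q v = 1) (hw : Q w = 1) :
    (tv Q v * tv Q w) ^ 2 = 1 ∨ (tv Q v * tv Q w) ^ 3 = 1 := by
  have happ : ∀ (u x : ι → ZMod 2), Q u = 1 →
      ((toMat Q).symm (tv Q u)).1 x = x + polar Q u x • u := fun u x hu => by
    unfold tv
    rw [MulEquiv.symm_apply_apply]; exact refl_eq Q hu x
  have hinv : ∀ u, (tv Q u)⁻¹ = tv Q u := fun u => inv_eq_of_mul_eq_one_right (tv_sq Q u)
  have h1 := tv_conj Q (tv Q v) w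
  have h2 := tv_conj Q (tv Q w) v
  rw [happ v w hv, hinv] at h1
  rw [happ w v hw, hinv, polar_comm (⇑Q) w v] at h2
  rcases two_cases (polar Q v w) with h | h <;> rw [h] at h1 h2
  · left
    rw [zero_smul, add_zero] at h1
    rw [pow_two, ← mul_assoc, h1, tv_sq]
  · right
    rw [one_smul] at h1 h2
    have e : tv Q v * tv Q w * tv Q v = tv Q w * tv Q v * tv Q w := by rw [h1, h2, add_comm]
    calc (tv Q v * tv Q w) ^ 3 = (tv Q v * tv Q w * tv Q v) * (tv Q w * tv Q v * tv Q w) := by
          rw [pow_succ, pow_two]; simp only [mul_assoc]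
      _ = tv Q w * tv Q v * (tv Q w * tv Q w) * tv Q v * tv Q w := by rw [e]; simp only [mul_assoc]
      _ = 1 := by rw [tv_sq, mul_one, mul_assoc (tv Q w), tv_sq, mul_one, tv_sq]

/-- orthogonal transvections form a class of 3-transpositions -/
theorem isClass (hQ : PND Q) (hne : Fintype.card ι ≠ 4) {u : ι → ZMod 2} (hu : Q u = 1) :
    Cfsg.IsThreeTranspositionClass {g : ↥(Cfsg.isometryGroup (ZMod 2) ⇑Q) |
      (((g : GL ι (ZMod 2)) : Matrix ι ι (ZMod 2)) - 1).rank = 1} := by
  refine ⟨⟨fun d hd => ?_, fun d hd e he => ?_⟩, ⟨tv Q u, tv_rank Q hQ hu, ?_⟩, ?_⟩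
  · obtain ⟨v, hv, rfl⟩ := exists_tv Q hQ d hd
    exact tv_order Q hQ hv
  · obtain ⟨v, hv, rfl⟩ := exists_tv Q hQ d hd
    obtain ⟨w, hw, rfl⟩ := exists_tv Q hQ e he
    exact tv_pair Q hv hw
  · ext g
    show _ ↔ IsConj (tv Q u) g
    rw [isConj_iff]
    constructor
    · intro hg
      obtain ⟨v, hv, rfl⟩ := exists_tv Q hQ g hg
      have hu0 : u ≠ 0 := fun h => by rw [h, QuadraticMap.map_zero] at hu; exact zero_ne_one hu
      have hv0 : v ≠ 0 := fun h => by rw [h, QuadraticMap.map_zero] at hv; exact zero_ne_one hv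
      let e := LinearEquiv.toSpanNonzeroSingleton (ZMod 2) (ι → ZMod 2) u hu0
      let f : (Submodule.span (ZMod 2) {u}) →ₗ[ZMod 2] (ι → ZMod 2) :=
        (LinearMap.toSpanSingleton (ZMod 2) (ι → ZMod 2) v).comp e.symm.toLinearMap
      have hfe : ∀ c : ZMod 2, f (e c) = c • v := fun c => by
        show LinearMap.toSpanSingleton (ZMod 2) (ι → ZMod 2) v (e.symm (e c)) = c • v
        rw [LinearEquiv.symm_apply_apply, LinearMap.toSpanSingleton_apply]
      have hinj : Function.Injective f := by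
        intro a b hab
        obtain ⟨a, rfl⟩ := e.surjective a
        obtain ⟨b, rfl⟩ := e.surjective b
        rw [hfe, hfe] at hab
        rw [smul_left_injective (ZMod 2) hv0 hab]
      have hf : ∀ x : Submodule.span (ZMod 2) {u}, Q (f x) = Q x := by
        intro x
        obtain ⟨c, rfl⟩ := e.surjective x
        rw [hfe, QuadraticMap.map_smul, hv]
        show c * c * 1 = Q (c • u)
        rw [QuadraticMap.map_smul, hu]
        rfl
      obtain ⟨g, hg', hgx⟩ := witt hQ _ f hinj hf
      refine ⟨toMat Q ⟨g, hg'⟩, ?_⟩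
      rw [tv_conj, MulEquiv.symm_apply_apply]
      congr 1
      have h1 := hgx ⟨u, Submodule.mem_span_singleton_self u⟩
      rw [show g u = _ from h1]
      have he1 : e 1 = ⟨u, Submodule.mem_span_singleton_self u⟩ := by
        ext1; simp [e, LinearEquiv.toSpanNonzeroSingleton_apply]
      rw [← he1, hfe, one_smul]
    · rintro ⟨c, rfl⟩
      show _ = 1
      rw [tv_conj]
      exact tv_rank Q hQ (((toMat Q).symm c).2 u |>.trans hu)
  · have hrg := iso_eq_reflGroup hQ (Or.inr (by rw [Module.finrank_fintype_fun_eq_card]; exact hne))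
    rw [eq_top_iff]
    intro g _
    have hmem : ((toMat Q).symm g).1 ∈ reflGroup Q := hrg.symm ▸ ((toMat Q).symm g).2
    set S := Subgroup.closure {g : ↥(Cfsg.isometryGroup (ZMod 2) ⇑Q) |
      (((g : GL ι (ZMod 2)) : Matrix ι ι (ZMod 2)) - 1).rank = 1}
    have key : ∀ f ∈ reflGroup Q, ∀ hf : f ∈ Iso Q, toMat Q ⟨f, hf⟩ ∈ S := by
      intro f hf
      unfold reflGroup at hf
      induction hf using Subgroup.closure_induction with
      | mem y hy =>
        intro _
        obtain ⟨v, hv, rfl⟩ := hy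
        exact Subgroup.subset_closure (tv_rank Q hQ ((two_cases _).resolve_left hv))
      | one => intro _; exact (map_one (toMat Q)).symm ▸ one_mem S
      | mul a b ha hb iha ihb =>
        intro _
        have ha' : a ∈ Iso Q := hrg ▸ ha
        have hb' : b ∈ Iso Q := hrg ▸ hb
        rw [show (⟨a * b, ‹_›⟩ : Iso Q) = ⟨a, ha'⟩ * ⟨b, hb'⟩ from rfl, map_mul]
        exact mul_mem (iha ha') (ihb hb')
      | inv a ha iha =>
        intro _
        have ha' : a ∈ Iso Q := hrg ▸ ha
        rw [show (⟨a⁻¹, ‹_›⟩ : Iso Q) = ⟨a, ha'⟩⁻¹ from rfl, map_inv]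
        exact inv_mem (iha ha')
    have := key _ hmem ((toMat Q).symm g).2
    rwa [Subtype.coe_eta, MulEquiv.apply_symm_apply] at this

end Cfsg.Agent.Spor.OrthTrans
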