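import Cfsg.Agent.Lib.Spor.SteinerCount
import Mathlib

/-!
The projective plane of order four is unique: a hyperoval turns it into the model on the six letters,
fifteen synthemes and six totals.
-/

set_option autoImplicit false
set_option maxHeartbeats 2000000

namespace Cfsg.Agent.Spor.PlaneFour

open Finset

/-- the fifteen synthemes on six letters, as involutions -/
def synth : Fin 15 → Fin 6 → Fin 6 :=
  ![![1, 0, 3, 2, 5, 4], ![1, 0, 4, 5, 2, 3], ![1, 0, 5, 4, 3, 2], ![2, 3, 0, 1, 5, 4], ![2, 4, 0, 5, 1, 3],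
    ![2, 5, 0, 4, 3, 1], ![3, 2, 1, 0, 5, 4], ![3, 4, 5, 0, 1, 2], ![3, 5, 4, 0, 2, 1], ![4, 2, 1, 5, 0, 3],
    ![4, 3, 5, 1, 0, 2], ![4, 5, 3, 2, 0, 1], ![5, 2, 1, 4, 3, 0], ![5, 3, 4, 1, 2, 0], ![5, 4, 3, 2, 1, 0]]

/-- the fifteen duads -/
def duad : Fin 15 → Fin 6 × Fin 6 :=
  ![(0, 1), (0, 2), (0, 3), (0, 4), (0, 5), (1, 2), (1, 3), (1, 4), (1, 5), (2, 3), (2, 4), (2, 5), (3, 4), (3, 5),
    (4, 5)]

/-- the six totals -/
def total : Fin 6 → Finset (Fin 15) :=
  ![{0, 4, 8, 10, 12}, {0, 5, 7, 9, 13}, {1, 3, 7, 11, 12}, {1, 5, 6, 10, 14}, {2, 3, 8, 9, 14}, {2, 4, 6, 11, 13}]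

/-- two synthemes with no common duad -/
def Apart (a b : Fin 15) : Prop := ∀ i, synth a i ≠ synth b i

instance (a b : Fin 15) : Decidable (Apart a b) := inferInstanceAs (Decidable (∀ _, _))

set_option synthInstance.maxSize 4000 in
set_option synthInstance.maxHeartbeats 200000 in
set_option maxRecDepth 4000 in
theorem synth_all : ∀ a : Fin 6, a ≠ 0 → ∀ b : Fin 6, b ≠ 1 → (a = 1 ↔ b = 0) → ∀ c : Fin 6, c ≠ 2 →
    (a = 2 ↔ c = 0) → (b = 2 ↔ c = 1) → ∀ d : Fin 6, d ≠ 3 → (a = 3 ↔ d = 0) → (b = 3 ↔ d = 1) → (c = 3 ↔ d = 2) →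
    ∀ e : Fin 6, e ≠ 4 → (a = 4 ↔ e = 0) → (b = 4 ↔ e = 1) → (c = 4 ↔ e = 2) → (d = 4 ↔ e = 3) →
    ∀ f : Fin 6, f ≠ 5 → (a = 5 ↔ f = 0) → (b = 5 ↔ f = 1) → (c = 5 ↔ f = 2) → (d = 5 ↔ f = 3) →
    (e = 5 ↔ f = 4) →
    ∃ k, synth k 0 = a ∧ synth k 1 = b ∧ synth k 2 = c ∧ synth k 3 = d ∧ synth k 4 = e ∧ synth k 5 = f := by
  decide +kernel

theorem synth_exists (σ : Fin 6 → Fin 6) (hne : ∀ i, σ i ≠ i) (hinv : ∀ i, σ (σ i) = i) :
    ∃ k, synth k = σ := by
  have h : ∀ i j, (σ i = j ↔ σ j = i) := fun i j => ⟨fun e => e ▸ hinv i, fun e => e ▸ hinv j⟩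
  obtain ⟨k, h0, h1, h2, h3, h4, h5⟩ := synth_all (σ 0) (hne 0) (σ 1) (hne 1) (h 0 1) (σ 2) (hne 2) (h 0 2) (h 1 2)
    (σ 3) (hne 3) (h 0 3) (h 1 3) (h 2 3) (σ 4) (hne 4) (h 0 4) (h 1 4) (h 2 4) (h 3 4)
    (σ 5) (hne 5) (h 0 5) (h 1 5) (h 2 5) (h 3 5) (h 4 5)
  refine ⟨k, funext fun i => ?_⟩
  fin_cases i <;> assumption

theorem total_unique : ∀ a b : Fin 15, Apart a b → ∃ t, a ∈ total t ∧ b ∈ total t ∧
    ∀ c : Fin 15, Apart a c → Apart b c → ∀ d : Fin 15, Apart a d → Apart b d → Apart c d → c ∈ total t := by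
  decide +kernel

theorem duad_eq : ∀ i j : Fin 6, i ≠ j → ∃ d, ({(duad d).1, (duad d).2} : Finset (Fin 6)) = {i, j} := by
  decide +kernel

/-- the image of a secant -/
def secant (d : Fin 15) : Finset (Fin 6 ⊕ Fin 15) :=
  ({(duad d).1, (duad d).2} : Finset (Fin 6)).disjSum (univ.filter fun k => synth k (duad d).1 = (duad d).2)

/-- the image of an external line -/
def external (t : Fin 6) : Finset (Fin 6 ⊕ Fin 15) := (∅ : Finset (Fin 6)).disjSum (total t)

/-- the lines of the model -/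
def lines : Finset (Finset (Fin 6 ⊕ Fin 15)) := univ.image secant ∪ univ.image external

theorem card_lines : lines.card ≤ 21 :=
  (card_union_le _ _).trans (Nat.add_le_add card_image_le card_image_le)

theorem card_secant : ∀ d, (secant d).card = 5 := by decide +kernel

theorem card_external : ∀ t, (external t).card = 5 := by decide +kernel

variable {α : Type*} [Fintype α] [DecidableEq α] {B : Finset (Finset α)}

section Plane

variable (hα : Fintype.card α = 21) (hB : Cfsg.IsSteinerSystem 2 5 (B : Set (Finset α)))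
include hα hB

omit hα in
omit [Fintype α] in
theorem line_ex {x y : α} (h : x ≠ y) : ∃ l ∈ B, x ∈ l ∧ y ∈ l := by
  obtain ⟨l, ⟨hl, hs⟩, -⟩ := hB.2 {x, y} (card_pair h)
  exact ⟨l, hl, hs (mem_insert_self _ _), hs (mem_insert_of_mem (mem_singleton_self _))⟩

omit hα in
omit [Fintype α] in
theorem line_eq {x y : α} (h : x ≠ y) {l l' : Finset α} (hl : l ∈ B) (hl' : l' ∈ B) (hx : x ∈ l) (hy : y ∈ l)
    (hx' : x ∈ l') (hy' : y ∈ l') : l = l' :=
  Steiner.block_eq hB hl hl' (by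
    rw [← card_pair h]
    exact card_le_card (insert_subset (mem_inter.2 ⟨hx, hx'⟩) (singleton_subset_iff.2 (mem_inter.2 ⟨hy, hy'⟩))))

theorem lines_through (x : α) : (B.filter fun l => x ∈ l).card = 5 := by
  have e := Steiner.cov_mul hB (S := {x}) (by simp)
  rw [Steiner.cov] at e
  simp only [singleton_subset_iff, card_singleton, hα] at e
  norm_num at e
  omega

theorem card_B : B.card = 21 := by
  have e := Steiner.ncard_mul hB
  rw [hα] at e
  norm_num [Nat.choose] at e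
  omega

theorem meet {l l' : Finset α} (hl : l ∈ B) (hl' : l' ∈ B) (hne : l ≠ l') : (l ∩ l').card = 1 := by
  have e0 := Steiner.block_profile hB hl (by norm_num) 0 21 (by norm_num) (by rw [hα]; decide)
  have e1 := Steiner.block_profile hB hl (by norm_num) 1 5 (by norm_num) (by rw [hα]; decide)
  simp only [sum_range_succ, sum_range_zero, Steiner.block_big hB hl (by norm_num) 2 le_rfl,
    Steiner.block_big hB hl (by norm_num) 3 (by norm_num), Steiner.block_big hB hl (by norm_num) 4 (by norm_num),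
    Steiner.block_big hB hl (by norm_num) 5 (by norm_num)] at e0 e1
  norm_num [-Finset.card_eq_zero, Nat.choose] at e0 e1
  have h0 : (B.filter fun c => (l ∩ c).card = 0) = ∅ := card_eq_zero.1 (by omega)
  have h2 : (l ∩ l').card < 2 := by
    by_contra h
    exact hne (Steiner.block_eq hB hl hl' (by omega))
  have : (l ∩ l').card ≠ 0 := fun e => by
    have : l' ∈ B.filter fun c => (l ∩ c).card = 0 := mem_filter.2 ⟨hl', e⟩
    rw [h0] at this
    exact notMem_empty _ this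
  omega

/-- a six-set met at most twice by each line is met in none or two -/
theorem zero_or_two {H : Finset α} (hHc : H.card = 6) (le2 : ∀ l ∈ B, (l ∩ H).card ≤ 2) :
    ∀ l ∈ B, (l ∩ H).card = 0 ∨ (l ∩ H).card = 2 := by
  intro l hl
  have h2 := le2 l hl
  by_contra hne
  push Not at hne
  obtain ⟨h, hh⟩ := card_pos.1 (show 0 < (l ∩ H).card by omega)
  rw [mem_inter] at hh
  -- the five lines at h carry the five other points
  have hex : ∀ k ∈ H.erase h, ∃ m ∈ B.filter (fun m => h ∈ m), k ∈ m := fun k hk => by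
    obtain ⟨m, hm, h1, h2⟩ := line_ex hB (mem_erase.1 hk).1.symm
    exact ⟨m, mem_filter.2 ⟨hm, h1⟩, h2⟩
  choose f hf hkf using hex
  have himg : (H.erase h).attach.image (fun k => f k.1 k.2) = B.filter fun m => h ∈ m := by
    refine eq_of_subset_of_card_le (fun m hm => ?_) ?_
    · obtain ⟨k, -, rfl⟩ := mem_image.1 hm; exact hf _ _
    · rw [lines_through hα hB, card_image_of_injective, card_attach, card_erase_of_mem hh.2, hHc]
      intro k k' e
      by_contra hkk
      have hm := mem_filter.1 (hf k.1 k.2)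
      have : ({h, k.1, k'.1} : Finset α) ⊆ f k.1 k.2 ∩ H := by
        intro t ht
        simp only [mem_insert, mem_singleton] at ht
        rcases ht with rfl | rfl | rfl
        · exact mem_inter.2 ⟨hm.2, hh.2⟩
        · exact mem_inter.2 ⟨hkf _ _, (mem_erase.1 k.2).2⟩
        · refine mem_inter.2 ⟨?_, (mem_erase.1 k'.2).2⟩
          have := hkf k'.1 k'.2
          simp only at e
          rwa [← e] at this
      have := card_le_card this
      rw [card_eq_three.2 ⟨h, k.1, k'.1, (mem_erase.1 k.2).1.symm, (mem_erase.1 k'.2).1.symm,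
        fun e => hkk (Subtype.ext e), rfl⟩] at this
      have := le2 _ hm.1
      omega
  have hlm : l ∈ B.filter fun m => h ∈ m := mem_filter.2 ⟨hl, hh.1⟩
  rw [← himg, mem_image] at hlm
  obtain ⟨k, -, rfl⟩ := hlm
  have : ({h, k.1} : Finset α) ⊆ f k.1 k.2 ∩ H := insert_subset (mem_inter.2 hh)
    (singleton_subset_iff.2 (mem_inter.2 ⟨hkf _ _, (mem_erase.1 k.2).2⟩))
  have := card_le_card this
  rw [card_pair (mem_erase.1 k.2).1.symm] at this
  omega

/-- the coordinates given by a hyperoval -/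

theorem hyperoval_of_quad {A : Finset α} (hAc : A.card = 4) (gen : ∀ l ∈ B, (l ∩ A).card ≤ 2) :
    ∃ H : Finset α, H.card = 6 ∧ A ⊆ H ∧ ∀ l ∈ B, (l ∩ H).card ≤ 2 := by
  classical
  obtain ⟨a, b, c, d, hab, hac, had, hbc, hbd, hcd, hA⟩ := card_eq_four.1 hAc
  obtain ⟨ab, hlab, haab, hbab⟩ := line_ex hB hab
  obtain ⟨ac, hlac, haac, hcac⟩ := line_ex hB hac
  obtain ⟨bc, hlbc, hbbc, hcbc⟩ := line_ex hB hbc
  have off : ∀ x y z : α, ∀ L ∈ B, x ≠ y → x ≠ z → y ≠ z → x ∈ A → y ∈ A → z ∈ A → x ∈ L → y ∈ L → z ∉ L := by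
    intro x y z L hL hxy hxz hyz hx hy hz hxL hyL hzL
    have h3 := gen L hL
    have hs : ({x, y, z} : Finset α) ⊆ L ∩ A := by
      intro t ht
      simp only [mem_insert, mem_singleton] at ht
      rcases ht with rfl | rfl | rfl <;> exact mem_inter.2 ⟨by assumption, by assumption⟩
    have := card_le_card hs
    rw [card_eq_three.2 ⟨x, y, z, hxy, hxz, hyz, rfl⟩] at this
    omega
  have ia : a ∈ A := by simp [hA]
  have ib : b ∈ A := by simp [hA]
  have ic : c ∈ A := by simp [hA]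
  have id' : d ∈ A := by simp [hA]
  have hc : c ∉ ab := off a b c ab hlab hab hac hbc ia ib ic haab hbab
  have hd : (d ∉ ab ∧ d ∉ ac) ∧ d ∉ bc := ⟨⟨off a b d ab hlab hab had hbd ia ib id' haab hbab,
    off a c d ac hlac hac had hcd ia ic id' haac hcac⟩, off b c d bc hlbc hbc hbd hcd ib ic id' hbbc hcbc⟩
  -- the points off the six secants
  set S := B.filter fun l => (l ∩ A).card = 2
  have sec : ∀ x ∈ A, ∀ y ∈ A, x ≠ y → ∀ l ∈ B, x ∈ l → y ∈ l → l ∈ S := by
    intro x hx y hy hxy l hl hxl hyl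
    refine mem_filter.2 ⟨hl, le_antisymm (gen l hl) ?_⟩
    rw [← card_pair hxy]
    exact card_le_card (insert_subset (mem_inter.2 ⟨hxl, hx⟩) (singleton_subset_iff.2 (mem_inter.2 ⟨hyl, hy⟩)))
  obtain ⟨ad, hlad, haad, hdad⟩ := line_ex hB had
  obtain ⟨bd, hlbd, hbbd, hdbd⟩ := line_ex hB hbd
  obtain ⟨cd, hlcd, hccd, hdcd⟩ := line_ex hB hcd
  have hSeq : ∀ l ∈ S, l = ab ∨ l = ac ∨ l = ad ∨ l = bc ∨ l = bd ∨ l = cd := by
    intro l hl
    rw [mem_filter] at hl
    obtain ⟨x, y, hxy, e⟩ := card_eq_two.1 hl.2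
    have hx : x ∈ l ∩ A := e ▸ mem_insert_self _ _
    have hy : y ∈ l ∩ A := e ▸ mem_insert_of_mem (mem_singleton_self _)
    rw [mem_inter, hA] at hx hy
    simp only [mem_insert, mem_singleton] at hx hy
    obtain ⟨hxl, hx⟩ := hx
    obtain ⟨hyl, hy⟩ := hy
    rcases hx with rfl | rfl | rfl | rfl <;> rcases hy with rfl | rfl | rfl | rfl <;>
      first
        | exact absurd rfl hxy
        | exact Or.inl (line_eq hB hab hl.1 hlab (by assumption) (by assumption) haab hbab)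
        | exact Or.inr (Or.inl (line_eq hB hac hl.1 hlac (by assumption) (by assumption) haac hcac))
        | exact Or.inr (Or.inr (Or.inl (line_eq hB had hl.1 hlad (by assumption) (by assumption) haad hdad)))
        | exact Or.inr (Or.inr (Or.inr (Or.inl (line_eq hB hbc hl.1 hlbc (by assumption) (by assumption) hbbc hcbc))))
        | exact Or.inr (Or.inr (Or.inr (Or.inr (Or.inl
            (line_eq hB hbd hl.1 hlbd (by assumption) (by assumption) hbbd hdbd)))))
        | exact Or.inr (Or.inr (Or.inr (Or.inr (Or.inr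
            (line_eq hB hcd hl.1 hlcd (by assumption) (by assumption) hccd hdcd)))))
  set V := (ab ∪ cd ∪ (ac ∪ bd) ∪ (ad ∪ bc)) with hV
  have hVc : V.card ≤ 19 := by
    have pair : ∀ l l' x y z w, l ∈ B → l' ∈ B → l ≠ l' → x ∈ l → y ∈ l → z ∈ l' → w ∈ l' → A = {x, y, z, w} →
        ((l ∪ l') \ A).card ≤ 5 := by
      intro l l' x y z w hl hl' hne hx hy hz hw hA'
      have := card_union_add_card_inter l l'
      rw [meet hα hB hl hl' hne, hB.1 l hl, hB.1 l' hl'] at this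
      have hs : A ⊆ l ∪ l' := by
        rw [hA']; intro t ht
        simp only [mem_insert, mem_singleton] at ht
        rcases ht with rfl | rfl | rfl | rfl <;> simp [hx, hy, hz, hw]
      rw [card_sdiff_of_subset hs, hAc]
      omega
    have hne1 : ab ≠ cd := fun e => hc (e ▸ hccd)
    have hne2 : ac ≠ bd := fun e => hd.1.2 (e ▸ hdbd)
    have hne3 : ad ≠ bc := fun e => hd.2 (e ▸ hdad)
    have p1 := pair ab cd a b c d hlab hlcd hne1 haab hbab hccd hdcd hA
    have p2 := pair ac bd a c b d hlac hlbd hne2 haac hcac hbbd hdbd (by ext; simp [hA]; tauto)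
    have p3 := pair ad bc a d b c hlad hlbc hne3 haad hdad hbbc hcbc (by ext; simp [hA]; tauto)
    have hVA : V ⊆ A ∪ ((ab ∪ cd) \ A) ∪ ((ac ∪ bd) \ A) ∪ ((ad ∪ bc) \ A) := fun t ht => by
      simp only [hV, mem_union, mem_sdiff] at ht ⊢
      tauto
    have := card_le_card hVA
    have := card_union_le (A ∪ ((ab ∪ cd) \ A) ∪ ((ac ∪ bd) \ A)) ((ad ∪ bc) \ A)
    have := card_union_le (A ∪ ((ab ∪ cd) \ A)) ((ac ∪ bd) \ A)
    have := card_union_le A ((ab ∪ cd) \ A)
    omega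
  obtain ⟨P, hP, Q, hQ, hPQ⟩ := one_lt_card.1 (show 1 < (univ \ V).card by
    rw [card_sdiff_of_subset (subset_univ _), card_univ, hα]; omega)
  rw [mem_sdiff] at hP hQ
  have offS : ∀ x, x ∉ V → ∀ l ∈ S, x ∉ l := by
    intro x hx l hl hxl
    apply hx
    rcases hSeq l hl with rfl | rfl | rfl | rfl | rfl | rfl <;> simp [hV, hxl]
  have hAV : A ⊆ V := by
    intro t ht
    simp only [hA, mem_insert, mem_singleton] at ht
    rcases ht with rfl | rfl | rfl | rfl <;> simp [hV, haab, hbab, hccd, hdcd]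
  -- the line of the two points misses the four
  have offA : ∀ l ∈ B, P ∈ l → Q ∈ l → l ∩ A = ∅ := by
    intro l hl hPl hQl
    by_contra hne
    obtain ⟨x, hx⟩ := nonempty_iff_ne_empty.2 hne
    rw [mem_inter] at hx
    have hlS : l ∉ S := fun h => offS P hP.2 l h hPl
    have h1 : l ∩ A = {x} := eq_singleton_iff_unique_mem.2 ⟨mem_inter.2 hx, fun y hy => by
      by_contra hyx
      rw [mem_inter] at hy
      exact hlS (sec x hx.2 y hy.2 (Ne.symm hyx) l hl hx.1 hy.1)⟩
    obtain ⟨u, v, w, huv, huw, hvw, e⟩ := card_eq_three.1 (show (A.erase x).card = 3 by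
      rw [card_erase_of_mem hx.2, hAc])
    have hu : u ≠ x ∧ u ∈ A := mem_erase.1 (e ▸ by simp)
    have hv : v ≠ x ∧ v ∈ A := mem_erase.1 (e ▸ by simp)
    have hw : w ≠ x ∧ w ∈ A := mem_erase.1 (e ▸ by simp)
    have sub : ∀ p q, p ∈ A → q ∈ A → p ≠ q → p ≠ x → q ≠ x →
        ∃ L ∈ S, p ∈ L ∧ q ∈ L ∧ ∃ r, r ∈ l ∧ r ∈ L ∧ r ≠ x := by
      intro p q hp hq hpq hpx hqx
      obtain ⟨L, hL, hpL, hqL⟩ := line_ex hB hpq
      have hLS := sec p hp q hq hpq L hL hpL hqL
      obtain ⟨r, hr⟩ := card_pos.1 (show 0 < (l ∩ L).card by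
        rw [meet hα hB hl hL (fun e => hlS (e ▸ hLS))]; norm_num)
      rw [mem_inter] at hr
      refine ⟨L, hLS, hpL, hqL, r, hr.1, hr.2, ?_⟩
      rintro rfl
      have h3 := gen L hL
      have : ({r, p, q} : Finset α) ⊆ L ∩ A := by
        intro t ht
        simp only [mem_insert, mem_singleton] at ht
        rcases ht with rfl | rfl | rfl <;> exact mem_inter.2 ⟨by first | assumption | exact hr.2, by first | assumption | exact hx.2⟩
      have := card_le_card this
      rw [card_eq_three.2 ⟨r, p, q, Ne.symm hpx, Ne.symm hqx, hpq, rfl⟩] at this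
      omega
    obtain ⟨L1, hL1, hu1, hv1, r1, r1l, r1L, r1x⟩ := sub u v hu.2 hv.2 huv hu.1 hv.1
    obtain ⟨L2, hL2, hu2, hw2, r2, r2l, r2L, r2x⟩ := sub u w hu.2 hw.2 huw hu.1 hw.1
    obtain ⟨L3, hL3, hv3, hw3, r3, r3l, r3L, r3x⟩ := sub v w hv.2 hw.2 hvw hv.1 hw.1
    have notA : ∀ r, r ∈ l → r ≠ x → r ∉ A := fun r hr hrx hrA => hrx (by
      have : r ∈ l ∩ A := mem_inter.2 ⟨hr, hrA⟩
      rw [h1, mem_singleton] at this
      exact this)
    have dist : ∀ (L L' : Finset α) r r' p, L ∈ S → L' ∈ S → p ∈ A → p ∈ L → p ∈ L' → L ≠ L' → r ∈ l → r ≠ x →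
        r ∈ L → r' ∈ L' → r ≠ r' := by
      intro L L' r r' p hL hL' hp hpL hpL' hne hr hrx hrL hrL' e
      subst e
      exact hne (line_eq hB (fun e : p = r => notA r hr hrx (e ▸ hp)) (mem_filter.1 hL).1 (mem_filter.1 hL').1
        hpL hrL hpL' hrL')
    have three : ∀ p q r (L : Finset α), L ∈ S → p ∈ A → q ∈ A → r ∈ A → p ≠ q → p ≠ r → q ≠ r → p ∈ L → q ∈ L →
        r ∉ L := by
      intro p q r L hL hp hq hr hpq hpr hqr hpL hqL hrL
      have h3 := gen L (mem_filter.1 hL).1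
      have : ({p, q, r} : Finset α) ⊆ L ∩ A := by
        intro t ht
        simp only [mem_insert, mem_singleton] at ht
        rcases ht with rfl | rfl | rfl <;> exact mem_inter.2 ⟨by assumption, by assumption⟩
      have := card_le_card this
      rw [card_eq_three.2 ⟨p, q, r, hpq, hpr, hqr, rfl⟩] at this
      omega
    have n12 : L1 ≠ L2 := fun e => three u v w L1 hL1 hu.2 hv.2 hw.2 huv huw hvw hu1 hv1 (e ▸ hw2)
    have n13 : L1 ≠ L3 := fun e => three u v w L1 hL1 hu.2 hv.2 hw.2 huv huw hvw hu1 hv1 (e ▸ hw3)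
    have n23 : L2 ≠ L3 := fun e => three u w v L2 hL2 hu.2 hw.2 hv.2 huw huv (Ne.symm hvw) hu2 hw2 (e ▸ hv3)
    have d12 := dist L1 L2 r1 r2 u hL1 hL2 hu.2 hu1 hu2 n12 r1l r1x r1L r2L
    have d13 := dist L1 L3 r1 r3 v hL1 hL3 hv.2 hv1 hv3 n13 r1l r1x r1L r3L
    have d23 := dist L2 L3 r2 r3 w hL2 hL3 hw.2 hw2 hw3 n23 r2l r2x r2L r3L
    have hsub : ({x, r1, r2, r3, P, Q} : Finset α) ⊆ l := by
      intro t ht
      simp only [mem_insert, mem_singleton] at ht
      rcases ht with rfl | rfl | rfl | rfl | rfl | rfl <;> simp [*]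
    have h6 := card_le_card hsub
    rw [hB.1 l hl] at h6
    have nP : ∀ r L, L ∈ S → r ∈ L → r ≠ P ∧ r ≠ Q :=
      fun r L hL hr => ⟨fun e => offS P hP.2 L hL (e ▸ hr), fun e => offS Q hQ.2 L hL (e ▸ hr)⟩
    have xP : x ≠ P := fun e => hP.2 (hAV (e ▸ hx.2))
    have xQ : x ≠ Q := fun e => hQ.2 (hAV (e ▸ hx.2))
    obtain ⟨a1, b1⟩ := nP r1 L1 hL1 r1L
    obtain ⟨a2, b2⟩ := nP r2 L2 hL2 r2L
    obtain ⟨a3, b3⟩ := nP r3 L3 hL3 r3L
    simp [card_insert_of_notMem, r1x.symm, r2x.symm, r3x.symm, xP, xQ, d12, d13, d23, a1, b1, a2, b2, a3, b3,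
      hPQ] at h6
  set H := insert P (insert Q A) with hH
  have hHc : H.card = 6 := by
    rw [hH, card_insert_of_notMem, card_insert_of_notMem (fun h => hQ.2 (hAV h)), hAc]
    simp only [mem_insert, not_or]
    exact ⟨hPQ, fun h => hP.2 (hAV h)⟩
  have le2 : ∀ l ∈ B, (l ∩ H).card ≤ 2 := by
    intro l hl
    have hle : (l ∩ H).card ≤ (if P ∈ l then 1 else 0) + ((if Q ∈ l then 1 else 0) + (l ∩ A).card) := by
      by_cases hp : P ∈ l <;> by_cases hq : Q ∈ l <;>
        simp only [hH, hp, hq, inter_insert_of_mem, inter_insert_of_notMem, if_true, if_false, not_false_iff] <;>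
        · have := card_insert_le P (insert Q (l ∩ A))
          have := card_insert_le Q (l ∩ A)
          have := card_insert_le P (l ∩ A)
          omega
    have hg := gen l hl
    by_cases hp : P ∈ l
    · have : l ∉ S := fun h => offS P hP.2 l h hp
      have : (l ∩ A).card ≠ 2 := fun e => this (mem_filter.2 ⟨hl, e⟩)
      by_cases hq : Q ∈ l
      · rw [offA l hl hp hq, card_empty] at hle; simp [hp, hq] at hle; exact hle
      · simp [hp, hq] at hle; omega
    · by_cases hq : Q ∈ l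
      · have : l ∉ S := fun h => offS Q hQ.2 l h hq
        have : (l ∩ A).card ≠ 2 := fun e => this (mem_filter.2 ⟨hl, e⟩)
        simp [hp, hq] at hle; omega
      · simp [hp, hq] at hle; omega
  exact ⟨H, hHc, fun x hx => mem_insert_of_mem (mem_insert_of_mem hx), le2⟩

/-- six points meeting every line in none or two -/
theorem exists_hyperoval : ∃ H : Finset α, H.card = 6 ∧ ∀ l ∈ B, (l ∩ H).card = 0 ∨ (l ∩ H).card = 2 := by
  classical
  -- four points in general position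
  obtain ⟨a, b, hab⟩ := Fintype.exists_pair_of_one_lt_card (α := α) (by omega)
  obtain ⟨ab, hlab, haab, hbab⟩ := line_ex hB hab
  obtain ⟨c, -, hc⟩ := exists_mem_notMem_of_card_lt_card (s := ab) (t := univ) (by rw [hB.1 _ hlab, card_univ]; omega)
  have hac : a ≠ c := fun e => hc (e ▸ haab)
  have hbc : b ≠ c := fun e => hc (e ▸ hbab)
  obtain ⟨ac, hlac, haac, hcac⟩ := line_ex hB hac
  obtain ⟨bc, hlbc, hbbc, hcbc⟩ := line_ex hB hbc
  obtain ⟨d, -, hd⟩ := exists_mem_notMem_of_card_lt_card (s := ab ∪ ac ∪ bc) (t := univ) (by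
    have := card_union_le (ab ∪ ac) bc
    have := card_union_le ab ac
    rw [hB.1 _ hlab, hB.1 _ hlac] at this
    rw [hB.1 _ hlbc] at *
    rw [card_univ]; omega)
  simp only [mem_union, not_or] at hd
  have had : a ≠ d := fun e => hd.1.1 (e ▸ haab)
  have hbd : b ≠ d := fun e => hd.1.1 (e ▸ hbab)
  have hcd : c ≠ d := fun e => hd.1.2 (e ▸ hcac)
  set A : Finset α := {a, b, c, d} with hA
  have gen : ∀ l ∈ B, (l ∩ A).card ≤ 2 := by
    intro l hl
    by_contra h
    have key : ∀ x y z (L : Finset α), x ≠ y → L ∈ B → x ∈ L → y ∈ L → z ∉ L → ¬ (x ∈ l ∧ y ∈ l ∧ z ∈ l) :=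
      fun x y z L hxy hL hx hy hz hh => hz (line_eq hB hxy hl hL hh.1 hh.2.1 hx hy ▸ hh.2.2)
    have k1 := key a b c ab hab hlab haab hbab hc
    have k2 := key a b d ab hab hlab haab hbab hd.1.1
    have k3 := key a c d ac hac hlac haac hcac hd.1.2
    have k4 := key b c d bc hbc hlbc hbbc hcbc hd.2
    rw [hA] at h
    by_cases ha : a ∈ l <;> by_cases hb : b ∈ l <;> by_cases hc' : c ∈ l <;> by_cases hd' : d ∈ l <;>
      simp_all [Finset.inter_insert_of_mem, Finset.inter_insert_of_notMem]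
  obtain ⟨H, hHc, -, le2⟩ := hyperoval_of_quad hα hB (A := A) (by simp [hA, hab, hac, had, hbc, hbd, hcd]) gen
  exact ⟨H, hHc, zero_or_two hα hB hHc le2⟩

theorem coord_of {H : Finset α} (hH : ∀ l ∈ B, (l ∩ H).card = 0 ∨ (l ∩ H).card = 2) (ε : Fin 6 ≃ H) :
    ∃ Ψ : α ≃ Fin 6 ⊕ Fin 15, (∀ i, Ψ (ε i : α) = Sum.inl i) ∧ ∀ l : Finset α, l ∈ B ↔ l.image Ψ ∈ lines := by
  classical
  have εinj : ∀ i j, (ε i : α) = ε j → i = j := fun i j e => ε.injective (Subtype.ext e)
  have εsurj : ∀ h ∈ H, ∃ i, (ε i : α) = h := fun h hh => ⟨ε.symm ⟨h, hh⟩, by simp⟩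
  -- partners
  have step : ∀ x ∉ H, ∀ i, ∃ j, j ≠ i ∧ ∃ l ∈ B, x ∈ l ∧ (ε i : α) ∈ l ∧ (ε j : α) ∈ l ∧
      l ∩ H = {(ε i : α), (ε j : α)} := by
    intro x hx i
    obtain ⟨l, hl, hxl, hil⟩ := line_ex hB (x := x) (y := ε i) (fun e => hx (e ▸ (ε i).2))
    rcases hH l hl with e | e
    · rw [card_eq_zero] at e
      exact absurd (mem_inter.2 ⟨hil, (ε i).2⟩) (by rw [e]; exact notMem_empty _)
    · obtain ⟨k, hk⟩ := card_eq_one.1 (show ((l ∩ H).erase (ε i : α)).card = 1 by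
        rw [card_erase_of_mem (mem_inter.2 ⟨hil, (ε i).2⟩), e])
      have hk' := mem_erase.1 (hk ▸ mem_singleton_self k : k ∈ (l ∩ H).erase (ε i : α))
      obtain ⟨j, rfl⟩ := εsurj k (mem_inter.1 hk'.2).2
      exact ⟨j, fun e => hk'.1 (e ▸ rfl), l, hl, hxl, hil, (mem_inter.1 hk'.2).1,
        by rw [← hk, insert_erase (mem_inter.2 ⟨hil, (ε i).2⟩)]⟩
  choose p hp lx hlx hxl hil hjl hlH using step
  have puniq : ∀ x (hx : x ∉ H) i j l, l ∈ B → x ∈ l → (ε i : α) ∈ l → (ε j : α) ∈ l → j ≠ i → p x hx i = j := by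
    intro x hx i j l hl hx' hi hj hne
    have e := line_eq hB (fun e : x = ε i => hx (e ▸ (ε i).2)) hl (hlx x hx i) hx' hi (hxl x hx i) (hil x hx i)
    subst e
    have : (ε j : α) ∈ lx x hx i ∩ H := mem_inter.2 ⟨hj, (ε j).2⟩
    rw [hlH, mem_insert, mem_singleton] at this
    rcases this with e | e
    · exact absurd (εinj _ _ e) hne
    · exact (εinj _ _ e).symm
  have psymm : ∀ x hx i, p x hx (p x hx i) = i := fun x hx i =>
    puniq x hx (p x hx i) i (lx x hx i) (hlx x hx i) (hxl x hx i) (hjl x hx i) (hil x hx i) (Ne.symm (hp x hx i))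
  have hk : ∀ x (hx : x ∉ H), ∃ k, synth k = p x hx := fun x hx => synth_exists _ (hp x hx) (psymm x hx)
  choose K hK using hk
  have apart : ∀ x y (hx : x ∉ H) (hy : y ∉ H) l, l ∈ B → x ∈ l → y ∈ l → x ≠ y → l ∩ H = ∅ →
      Apart (K x hx) (K y hy) := by
    intro x y hx hy l hl hxl' hyl' hxy hlH' i e
    rw [hK, hK] at e
    have hjy := hjl y hy i
    rw [← e] at hjy
    have e1 : lx x hx i = lx y hy i := line_eq hB (fun e' => hp x hx i (εinj _ _ e'.symm)) (hlx x hx i) (hlx y hy i)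
      (hil x hx i) (hjl x hx i) (hil y hy i) hjy
    have e2 := line_eq hB hxy hl (hlx x hx i) hxl' hyl' (hxl x hx i) (e1 ▸ hxl y hy i)
    have : (ε i : α) ∈ l ∩ H := mem_inter.2 ⟨e2 ▸ hil x hx i, (ε i).2⟩
    rw [hlH'] at this
    exact notMem_empty _ this
  have Kinj : ∀ x y hx hy, K x hx = K y hy → x = y := by
    intro x y hx hy e
    by_contra hxy
    have ep : ∀ i, p x hx i = p y hy i := fun i => by rw [← hK, ← hK, e]
    have same : ∀ i, lx x hx i = lx y hy i := fun i => by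
      have hjy := hjl y hy i
      rw [← ep] at hjy
      exact line_eq hB (fun e' => hp x hx i (εinj _ _ e'.symm)) (hlx x hx i) (hlx y hy i) (hil x hx i) (hjl x hx i)
        (hil y hy i) hjy
    obtain ⟨i1, hi1, hi1'⟩ : ∃ i1 : Fin 6, i1 ≠ 0 ∧ i1 ≠ p x hx 0 := by
      generalize p x hx 0 = j
      revert j; decide
    have e2 := line_eq hB hxy (hlx x hx 0) (hlx x hx i1) (hxl x hx 0) ((same 0) ▸ hxl y hy 0) (hxl x hx i1)
      ((same i1) ▸ hxl y hy i1)
    have : (ε i1 : α) ∈ lx x hx 0 ∩ H := mem_inter.2 ⟨e2 ▸ hil x hx i1, (ε i1).2⟩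
    rw [hlH, mem_insert, mem_singleton] at this
    rcases this with e | e
    · exact hi1 (εinj _ _ e)
    · exact hi1' (εinj _ _ e)
  let Ψ : α → Fin 6 ⊕ Fin 15 := fun x => if hx : x ∈ H then Sum.inl (ε.symm ⟨x, hx⟩) else Sum.inr (K x hx)
  have Ψinj : Function.Injective Ψ := by
    intro x y e
    by_cases hx : x ∈ H <;> by_cases hy : y ∈ H <;> simp [Ψ, hx, hy] at e
    · exact e
    · exact Kinj x y hx hy e
  set Ψe : α ≃ Fin 6 ⊕ Fin 15 := Equiv.ofBijective Ψ ((Fintype.bijective_iff_injective_and_card Ψ).2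
    ⟨Ψinj, by rw [hα]; rfl⟩)
  have hΨε : ∀ i, Ψ (ε i : α) = Sum.inl i := fun i => by simp [Ψ, (ε i).2]
  have himg : ∀ l ∈ B, l.image Ψe ∈ lines := by
    intro l hl
    have hc : (l.image Ψe).card = 5 := by rw [card_image_of_injective _ Ψe.injective, hB.1 l hl]
    rcases hH l hl with e | e
    · rw [card_eq_zero] at e
      have hlH' : ∀ x ∈ l, x ∉ H := fun x hx hh => by
        have : x ∈ l ∩ H := mem_inter.2 ⟨hx, hh⟩
        rw [e] at this; exact notMem_empty _ this
      obtain ⟨x, hx, y, hy, hxy⟩ := one_lt_card.1 (show 1 < l.card by rw [hB.1 l hl]; norm_num)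
      obtain ⟨t, hta, htb, ht⟩ := total_unique _ _ (apart x y (hlH' x hx) (hlH' y hy) l hl hx hy hxy e)
      refine mem_union_right _ (mem_image.2 ⟨t, mem_univ _, (eq_of_subset_of_card_le ?_ (by
        rw [card_external, hc])).symm⟩)
      intro q hq
      obtain ⟨z, hz, rfl⟩ := mem_image.1 hq
      show Ψ z ∈ external t
      simp only [Ψ, dif_neg (hlH' z hz), external, inr_mem_disjSum]
      by_cases hzx : z = x
      · subst hzx; exact hta
      by_cases hzy : z = y
      · subst hzy; exact htb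
      obtain ⟨w, hw, hwn⟩ := exists_mem_notMem_of_card_lt_card (s := ({x, y, z} : Finset α)) (t := l) (by
        rw [hB.1 l hl, card_eq_three.2 ⟨x, y, z, hxy, Ne.symm hzx, Ne.symm hzy, rfl⟩]; norm_num)
      simp only [mem_insert, mem_singleton, not_or] at hwn
      exact ht _ (apart x z (hlH' x hx) (hlH' z hz) l hl hx hz (Ne.symm hzx) e)
        (apart y z (hlH' y hy) (hlH' z hz) l hl hy hz (Ne.symm hzy) e) _
        (apart x w (hlH' x hx) (hlH' w hw) l hl hx hw (Ne.symm hwn.1) e)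
        (apart y w (hlH' y hy) (hlH' w hw) l hl hy hw (Ne.symm hwn.2.1) e)
        (apart z w (hlH' z hz) (hlH' w hw) l hl hz hw (Ne.symm hwn.2.2) e)
    · obtain ⟨u, v, huv, e'⟩ := card_eq_two.1 e
      have hu : u ∈ l ∩ H := e' ▸ mem_insert_self _ _
      have hv : v ∈ l ∩ H := e' ▸ mem_insert_of_mem (mem_singleton_self _)
      rw [mem_inter] at hu hv
      obtain ⟨i, rfl⟩ := εsurj u hu.2
      obtain ⟨j, rfl⟩ := εsurj v hv.2
      have hij : i ≠ j := fun h => huv (h ▸ rfl)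
      obtain ⟨d, hd⟩ := duad_eq i j hij
      refine mem_union_left _ (mem_image.2 ⟨d, mem_univ _, (eq_of_subset_of_card_le ?_ (by
        rw [card_secant, hc])).symm⟩)
      intro q hq
      obtain ⟨z, hz, rfl⟩ := mem_image.1 hq
      show Ψ z ∈ secant d
      by_cases hzH : z ∈ H
      · have : z ∈ ({(ε i : α), (ε j : α)} : Finset α) := e' ▸ mem_inter.2 ⟨hz, hzH⟩
        simp only [mem_insert, mem_singleton] at this
        rcases this with rfl | rfl <;> rw [hΨε, secant, inl_mem_disjSum, hd] <;> simp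
      · simp only [Ψ, dif_neg hzH, secant, inr_mem_disjSum, mem_filter, mem_univ, true_and, hK]
        have h1 : (duad d).1 ∈ ({i, j} : Finset (Fin 6)) := hd ▸ mem_insert_self _ _
        have h2 : (duad d).2 ∈ ({i, j} : Finset (Fin 6)) := hd ▸ mem_insert_of_mem (mem_singleton_self _)
        have hne : (duad d).2 ≠ (duad d).1 := fun h => by
          rw [h, pair_eq_singleton] at hd
          have hi : i ∈ ({(duad d).1} : Finset (Fin 6)) := hd ▸ mem_insert_self _ _
          have hj : j ∈ ({(duad d).1} : Finset (Fin 6)) := hd ▸ mem_insert_of_mem (mem_singleton_self _)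
          exact hij ((mem_singleton.1 hi).trans (mem_singleton.1 hj).symm)
        have inl : ∀ k, k ∈ ({i, j} : Finset (Fin 6)) → (ε k : α) ∈ l := fun k hk => by
          simp only [mem_insert, mem_singleton] at hk
          rcases hk with rfl | rfl
          exacts [hu.1, hv.1]
        exact puniq z hzH _ _ l hl hz (inl _ h1) (inl _ h2) hne
  have hall : B.image (fun l => l.image Ψe) = lines := by
    refine eq_of_subset_of_card_le (fun t ht => ?_) ?_
    · obtain ⟨l, hl, rfl⟩ := mem_image.1 ht; exact himg l hl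
    · rw [card_image_of_injective _ (image_injective Ψe.injective), card_B hα hB]; exact card_lines
  refine ⟨Ψe, hΨε, fun l => ⟨himg l, fun hl => ?_⟩⟩
  rw [← hall, mem_image] at hl
  obtain ⟨l', hl', e⟩ := hl
  rwa [← image_injective Ψe.injective e]

theorem exists_coord : ∃ Ψ : α ≃ Fin 6 ⊕ Fin 15, ∀ l : Finset α, l ∈ B ↔ l.image Ψ ∈ lines := by
  obtain ⟨H, hHc, hH⟩ := exists_hyperoval hα hB
  obtain ⟨Ψ, -, h⟩ := coord_of hα hB hH (Fintype.equivFinOfCardEq (by rw [Fintype.card_coe, hHc])).symm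
  exact ⟨Ψ, h⟩

end Plane

/-- uniqueness -/
theorem plane_unique {β : Type*} [Fintype β] [DecidableEq β] {B' : Finset (Finset β)} (hα : Fintype.card α = 21)
    (hβ : Fintype.card β = 21) (hB : Cfsg.IsSteinerSystem 2 5 (B : Set (Finset α)))
    (hB' : Cfsg.IsSteinerSystem 2 5 (B' : Set (Finset β))) :
    Cfsg.SetSystemIso (B : Set (Finset α)) (B' : Set (Finset β)) := by
  obtain ⟨Ψ, h⟩ := exists_coord hα hB
  obtain ⟨Ψ', h'⟩ := exists_coord hβ hB'
  refine ⟨Ψ.trans Ψ'.symm, ?_⟩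
  have key : ∀ l : Finset α, (l.image (Ψ.trans Ψ'.symm)).image Ψ' = l.image Ψ := fun l => by
    rw [image_image]; congr 1; funext x; simp
  ext t
  simp only [Set.mem_image, mem_coe]
  constructor
  · rintro ⟨l, hl, rfl⟩
    rw [h', key, ← h]; exact hl
  · intro ht
    have e : (t.image (Ψ.trans Ψ'.symm).symm).image (Ψ.trans Ψ'.symm) = t := by
      rw [image_image, Equiv.self_comp_symm, image_id]
    refine ⟨t.image (Ψ.trans Ψ'.symm).symm, ?_, e⟩
    rw [h, ← key, e, ← h']; exact ht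

end Cfsg.Agent.Spor.PlaneFour
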