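/-
Quartets of a dodecad: the list on the standard dodecad, uniqueness from two triples, transitivity, orbits of a
stabiliser.
-/
import Cfsg.Agent.Lib.Spor.GolayDodecad
import Cfsg.Agent.Lib.Spor.GolayDomains
import Cfsg.Agent.Lib.Spor.QuartetData
import Cfsg.Prelude.Def_SporadicCombinatorics

set_option autoImplicit false
set_option maxRecDepth 100000

namespace Cfsg.Agent.Spor.Quartet

open Cfsg Finset
open scoped Pointwise

theorem smul_hexadsOn {σ : Equiv.Perm GolayPt} (hσ : σ ∈ M24) {d h : Finset GolayPt} (hh : h ∈ hexadsOn d) :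
    σ • h ∈ hexadsOn (σ • d) := by
  obtain ⟨h6, o, ho, rfl⟩ := hh
  exact ⟨by rw [card_smul_finset, h6], σ • o, smul_octad hσ ho, by rw [smul_finset_inter]⟩

theorem smul_quartet {σ : Equiv.Perm GolayPt} (hσ : σ ∈ M24) {d : Finset GolayPt} {Q : Finset (Finset GolayPt)}
    (hQ : Q ∈ quartets d) : σ • Q ∈ quartets (σ • d) := by
  obtain ⟨h4, h3, hu⟩ := hQ
  refine ⟨by rw [card_smul_finset, h4], ?_, ?_⟩
  · intro t' ht'
    obtain ⟨t, ht, rfl⟩ := mem_smul_finset.1 ht'
    exact ⟨by rw [card_smul_finset, (h3 t ht).1], smul_finset_subset_smul_finset (h3 t ht).2⟩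
  · intro t' ht' u' hu' htu
    obtain ⟨t, ht, rfl⟩ := mem_smul_finset.1 ht'
    obtain ⟨u, hu'', rfl⟩ := mem_smul_finset.1 hu'
    rw [← smul_finset_union]
    exact smul_hexadsOn hσ (hu t ht u hu'' fun e => htu (congrArg _ e))

theorem hexList_ok : (∀ m ∈ hexList, ∃ o ∈ octMasks, o &&& baseDod = m ∧ pc m = 6) ∧
    ∀ o ∈ octMasks, pc (o &&& baseDod) = 6 → o &&& baseDod ∈ hexList := by
  decide +kernel

theorem oct_lt : ∀ o ∈ octMasks, o < 2 ^ 24 := by decide +kernel

theorem hexadsOn_base {h : Finset GolayPt} : h ∈ hexadsOn (ofMask baseDod) ↔ mask h ∈ hexList := by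
  constructor
  · rintro ⟨h6, o, ho, rfl⟩
    have e : mask (o ∩ ofMask baseDod) = mask o &&& baseDod := by rw [mask_inter, mask_ofMask baseDod_lt]
    rw [e]
    refine hexList_ok.2 _ (mem_octads.1 ho) ?_
    rw [← e, pc_mask, h6]
  · intro hm
    obtain ⟨o, ho, e, hpc⟩ := hexList_ok.1 _ hm
    refine ⟨by rw [← pc_mask, hpc], ofMask o, ?_, mask_injective ?_⟩
    · rw [mem_octads, mask_ofMask]
      · exact ho
      · exact oct_lt o ho
    · rw [mask_inter, mask_ofMask baseDod_lt, mask_ofMask (oct_lt o ho), e]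

theorem tripList_ok : ∀ m ∈ tripList, m < 2 ^ 24 ∧ pc m = 3 ∧ m &&& baseDod = m := by
  decide +kernel

/-- the numbers of the points of the standard dodecad -/
def dodBits : List ℕ := (List.range 24).filter fun i => Nat.testBit baseDod i

theorem trip_complete : ∀ i ∈ dodBits, ∀ j ∈ dodBits, ∀ k ∈ dodBits,
    (i < j ∧ j < k) → tripList.elem (2 ^ i + 2 ^ j + 2 ^ k) = true := by
  decide +kernel

theorem mem_dodBits {p : GolayPt} (h : p ∈ ofMask baseDod) : idx p ∈ dodBits :=
  List.mem_filter.2 ⟨List.mem_range.2 (idx_lt p), mem_ofMask.1 h⟩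

theorem mem_tripList {t : Finset GolayPt} (h3 : t.card = 3) (hd : t ⊆ ofMask baseDod) : mask t ∈ tripList := by
  obtain ⟨a, b, c, hab, hac, hbc, rfl⟩ := card_eq_three.1 h3
  have key : ∀ a b c : GolayPt, idx a < idx b → idx b < idx c → mask {a, b, c} = 2 ^ idx a + 2 ^ idx b + 2 ^ idx c := by
    intro a b c h1 h2
    rw [mask, image_insert, image_insert, image_singleton, sum_insert, sum_insert, sum_singleton, add_assoc]
    · simp only [mem_singleton]; omega
    · simp only [mem_insert, mem_singleton]; omega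
  have ha := hd (by simp : a ∈ ({a, b, c} : Finset GolayPt))
  have hb := hd (by simp : b ∈ ({a, b, c} : Finset GolayPt))
  have hc := hd (by simp : c ∈ ({a, b, c} : Finset GolayPt))
  have go : ∀ x y z : GolayPt, ({a, b, c} : Finset GolayPt) = {x, y, z} → x ∈ ofMask baseDod → y ∈ ofMask baseDod →
      z ∈ ofMask baseDod → idx x < idx y → idx y < idx z → mask {a, b, c} ∈ tripList := by
    intro x y z e hx hy hz h1 h2
    rw [e, key x y z h1 h2]
    exact List.elem_iff.1 (trip_complete _ (mem_dodBits hx) _ (mem_dodBits hy) _ (mem_dodBits hz) ⟨h1, h2⟩)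
  rcases lt_or_gt_of_ne (idx_injective.ne hab) with h1 | h1 <;>
    rcases lt_or_gt_of_ne (idx_injective.ne hac) with h2 | h2 <;>
      rcases lt_or_gt_of_ne (idx_injective.ne hbc) with h3 | h3 <;>
        first
          | omega
          | exact go a b c rfl ha hb hc h1 h3
          | exact go a c b (by aesop) ha hc hb h2 h3
          | exact go b a c (by aesop) hb ha hc h1 h2
          | exact go b c a (by aesop) hb hc ha h3 h2
          | exact go c a b (by aesop) hc ha hb h2 h1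
          | exact go c b a (by aesop) hc hb ha h3 h1

/-- lowest set bit -/
def low (m : ℕ) : ℕ := ((List.range 24).find? fun i => Nat.testBit m i).getD 0

theorem quart_enum : ∀ t ∈ tripList.filter (fun t => Nat.testBit t 0),
    ∀ u ∈ tripList.filter (fun u => Nat.testBit u (low (baseDod ^^^ t))),
      (t &&& u == 0 && hexList.elem (t ||| u)) = true →
      ∀ v ∈ tripList.filter (fun v => Nat.testBit v (low (baseDod ^^^ t ^^^ u))),
        (t &&& v == 0 && u &&& v == 0 && hexList.elem (t ||| v) && hexList.elem (u ||| v) &&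
          hexList.elem (t ||| (baseDod ^^^ t ^^^ u ^^^ v)) && hexList.elem (u ||| (baseDod ^^^ t ^^^ u ^^^ v))) = true →
          ∃ l ∈ quartList, t ∈ l ∧ u ∈ l ∧ v ∈ l ∧ baseDod ^^^ t ^^^ u ^^^ v ∈ l := by
  decide +kernel

theorem quartList_ok : ∀ l ∈ quartList, l.length = 4 ∧ l.Nodup ∧
    (∀ m ∈ l, m < 2 ^ 24 ∧ pc m = 3 ∧ m &&& baseDod = m) ∧
    ∀ m ∈ l, ∀ n ∈ l, m ≠ n → m ||| n ∈ hexList := by
  decide +kernel

theorem quartList_mem {l : List ℕ} (hl : l ∈ quartList) : confOf l ∈ quartets (ofMask baseDod) := by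
  obtain ⟨hlen, hnd, hm, hu⟩ := quartList_ok l hl
  refine ⟨by rw [confOf_card hnd fun m h => (hm m h).1, hlen], ?_, ?_⟩
  · intro t ht
    obtain ⟨m, h, rfl⟩ := mem_confOf.1 ht
    refine ⟨by rw [← pc_mask, mask_ofMask (hm m h).1, (hm m h).2.1], ?_⟩
    intro p hp
    rw [mem_ofMask] at hp ⊢
    rw [← (hm m h).2.2, Nat.testBit_and, Bool.and_eq_true] at hp
    exact hp.2
  · intro t ht u hu' htu
    obtain ⟨m, h, rfl⟩ := mem_confOf.1 ht
    obtain ⟨n, h', rfl⟩ := mem_confOf.1 hu'
    rw [hexadsOn_base, mask_union, mask_ofMask (hm m h).1, mask_ofMask (hm n h').1]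
    exact hu m h n h' fun e => htu (by rw [e])

theorem quartet_disjoint {d : Finset GolayPt} {Q : Finset (Finset GolayPt)} (hQ : Q ∈ quartets d)
    {t u : Finset GolayPt} (ht : t ∈ Q) (hu : u ∈ Q) (htu : t ≠ u) : Disjoint t u := by
  have h6 := (hQ.2.2 t ht u hu htu).1
  rw [← card_union_eq_card_add_card, h6, (hQ.2.1 t ht).1, (hQ.2.1 u hu).1]

theorem quartet_cover {d : Finset GolayPt} (hd : d.card = 12) {Q : Finset (Finset GolayPt)} (hQ : Q ∈ quartets d)
    {p : GolayPt} (hp : p ∈ d) : ∃ t ∈ Q, p ∈ t := by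
  have h : Q.biUnion id = d := by
    refine eq_of_subset_of_card_le (biUnion_subset.2 fun t ht => (hQ.2.1 t ht).2) ?_
    rw [card_biUnion (t := id) fun t ht u hu htu => quartet_disjoint hQ ht hu htu, hd]
    simp only [id_eq]
    rw [sum_congr rfl (g := fun _ => 3) fun t ht => (hQ.2.1 t ht).1, sum_const, hQ.1]
    rfl
  rw [← h] at hp
  simpa using hp

theorem base_card : (ofMask baseDod).card = 12 := baseDod_mem.2

theorem testBit_low : ∀ t ∈ tripList, Nat.testBit baseDod (low (baseDod ^^^ t)) = true ∧ low (baseDod ^^^ t) < 24 ∧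
    Nat.testBit t (low (baseDod ^^^ t)) = false := by
  decide +kernel

theorem testBit_low_two : ∀ h ∈ hexList, Nat.testBit baseDod (low (baseDod ^^^ h)) = true ∧
    low (baseDod ^^^ h) < 24 ∧ Nat.testBit h (low (baseDod ^^^ h)) = false := by
  decide +kernel

theorem mem_quartets_base {Q : Finset (Finset GolayPt)} :
    Q ∈ quartets (ofMask baseDod) ↔ ∃ l ∈ quartList, confOf l = Q := by
  constructor
  swap
  · rintro ⟨l, hl, rfl⟩; exact quartList_mem hl
  intro hQ
  have hb : ∀ {i : ℕ}, i < 24 → Nat.testBit baseDod i = true → pt i ∈ ofMask baseDod := fun hi h => by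
    rwa [mem_ofMask, idx_pt _ hi]
  have hbit : ∀ {i : ℕ} {t : Finset GolayPt}, i < 24 → (Nat.testBit (mask t) i = true ↔ pt i ∈ t) := fun {i t} hi => by
    conv_lhs => rw [← idx_pt i hi]
    exact testBit_mask_idx
  have hxor : ∀ {a b : Finset GolayPt}, b ⊆ a → mask (a \ b) = mask a ^^^ mask b := by
    intro a b hab
    refine mask_eq_iff.2 ⟨fun p => ?_, fun j hj => ?_⟩
    · rw [Nat.testBit_xor, mem_sdiff]
      by_cases h1 : p ∈ b
      · simp [testBit_mask_idx.2 h1, testBit_mask_idx.2 (hab h1), h1]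
      · have : Nat.testBit (mask b) (idx p) = false := by simpa using mt testBit_mask_idx.1 h1
        simp [this, testBit_mask_idx, h1]
    · rw [Nat.testBit_xor, testBit_mask_ge hj, testBit_mask_ge hj]; rfl
  have mD := mask_ofMask baseDod_lt
  obtain ⟨t, ht, h0⟩ := quartet_cover base_card hQ (hb (by norm_num) (show Nat.testBit baseDod 0 = true by decide))
  have t3 := hQ.2.1 t ht
  have tl := mem_tripList t3.1 t3.2
  obtain ⟨b1, l1, n1⟩ := testBit_low _ tl
  obtain ⟨u, hu, h1⟩ := quartet_cover base_card hQ (hb l1 b1)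
  have htu : t ≠ u := fun e => by
    rw [← e, ← hbit l1, n1] at h1; exact Bool.false_ne_true h1
  have u3 := hQ.2.1 u hu
  have dtu := quartet_disjoint hQ ht hu htu
  have hh : mask t ||| mask u ∈ hexList := by
    rw [← mask_union, ← hexadsOn_base]; exact hQ.2.2 t ht u hu htu
  have hx2 : baseDod ^^^ mask t ^^^ mask u = baseDod ^^^ (mask t ||| mask u) := by
    have e : mask (t ∪ u) = mask t ^^^ mask u := by
      refine mask_eq_iff.2 ⟨fun p => ?_, fun j hj => ?_⟩
      · rw [Nat.testBit_xor, mem_union]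
        by_cases h : p ∈ t
        · have : Nat.testBit (mask u) (idx p) = false := by
            simpa using mt testBit_mask_idx.1 (disjoint_left.1 dtu h)
          simp [this, testBit_mask_idx.2 h, h]
        · have : Nat.testBit (mask t) (idx p) = false := by simpa using mt testBit_mask_idx.1 h
          simp [this, testBit_mask_idx, h]
      · rw [Nat.testBit_xor, testBit_mask_ge hj, testBit_mask_ge hj]; rfl
    rw [Nat.xor_assoc, ← e, mask_union]
  obtain ⟨b2, l2, n2⟩ := testBit_low_two _ hh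
  rw [← hx2] at b2 l2 n2
  obtain ⟨v, hv, h2⟩ := quartet_cover base_card hQ (hb l2 b2)
  rw [Nat.testBit_or, Bool.or_eq_false_iff] at n2
  have hvt : t ≠ v := fun e => by
    rw [← e, ← hbit l2, n2.1] at h2; exact Bool.false_ne_true h2
  have hvu : u ≠ v := fun e => by
    rw [← e, ← hbit l2, n2.2] at h2; exact Bool.false_ne_true h2
  obtain ⟨w, hw⟩ : ∃ w, (Q.erase t).erase u \ {v} = {w} := by
    refine card_eq_one.1 ?_
    rw [card_sdiff_of_subset (singleton_subset_iff.2 (mem_erase.2 ⟨hvu.symm, mem_erase.2 ⟨hvt.symm, hv⟩⟩)),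
      card_erase_of_mem (mem_erase.2 ⟨htu.symm, hu⟩), card_erase_of_mem ht, hQ.1, card_singleton]
  have hwm : w ∈ Q ∧ w ≠ t ∧ w ≠ u ∧ w ≠ v := by
    have := (Finset.ext_iff.1 hw w).2 (mem_singleton_self w)
    simp only [mem_sdiff, mem_erase, mem_singleton] at this
    exact ⟨this.1.2.2, this.1.2.1, this.1.1, this.2⟩
  have dtv := quartet_disjoint hQ ht hv hvt
  have duv := quartet_disjoint hQ hu hv hvu
  have hQ4 : Q = {t, u, v, w} := by
    refine (eq_of_subset_of_card_le ?_ ?_).symm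
    · intro x hx
      simp only [mem_insert, mem_singleton] at hx
      rcases hx with rfl | rfl | rfl | rfl <;> first | assumption | exact hwm.1
    · rw [hQ.1, card_insert_of_notMem, card_insert_of_notMem, card_pair hwm.2.2.2.symm]
      · simp only [mem_insert, mem_singleton, not_or]; exact ⟨hvu, hwm.2.2.1.symm⟩
      · simp only [mem_insert, mem_singleton, not_or]; exact ⟨htu, hvt, hwm.2.1.symm⟩
  have hwd : w = ((ofMask baseDod \ t) \ u) \ v := by
    refine eq_of_subset_of_card_le ?_ ?_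
    · intro p hp
      simp only [mem_sdiff]
      refine ⟨⟨⟨(hQ.2.1 w hwm.1).2 hp, ?_⟩, ?_⟩, ?_⟩
      · exact disjoint_left.1 (quartet_disjoint hQ hwm.1 ht hwm.2.1) hp
      · exact disjoint_left.1 (quartet_disjoint hQ hwm.1 hu hwm.2.2.1) hp
      · exact disjoint_left.1 (quartet_disjoint hQ hwm.1 hv hwm.2.2.2) hp
    · rw [(hQ.2.1 w hwm.1).1, card_sdiff_of_subset, card_sdiff_of_subset, card_sdiff_of_subset t3.2, base_card, t3.1,
        u3.1, (hQ.2.1 v hv).1]
      · exact subset_sdiff.2 ⟨u3.2, dtu.symm⟩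
      · exact subset_sdiff.2 ⟨subset_sdiff.2 ⟨(hQ.2.1 v hv).2, dtv.symm⟩, duv.symm⟩
  have mw : mask w = baseDod ^^^ mask t ^^^ mask u ^^^ mask v := by
    rw [hwd, hxor, hxor, hxor t3.2, mD]
    · exact subset_sdiff.2 ⟨u3.2, dtu.symm⟩
    · exact subset_sdiff.2 ⟨subset_sdiff.2 ⟨(hQ.2.1 v hv).2, dtv.symm⟩, duv.symm⟩
  have dis0 : ∀ {a b : Finset GolayPt}, Disjoint a b → mask a &&& mask b = 0 := fun h => by
    rw [← mask_inter, disjoint_iff_inter_eq_empty.1 h]; rfl
  have hex : ∀ a ∈ Q, ∀ b ∈ Q, a ≠ b → mask a ||| mask b ∈ hexList := fun a ha b hb hab => by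
    rw [← mask_union, ← hexadsOn_base]; exact hQ.2.2 a ha b hb hab
  obtain ⟨l, hl, l1', l2', l3', l4'⟩ := quart_enum (mask t)
    (List.mem_filter.2 ⟨tl, (hbit (by norm_num)).2 h0⟩) (mask u)
    (List.mem_filter.2 ⟨mem_tripList u3.1 u3.2, (hbit l1).2 h1⟩)
    (by simp only [Bool.and_eq_true, beq_iff_eq, List.elem_iff]; exact ⟨dis0 dtu, hh⟩)
    (mask v) (List.mem_filter.2 ⟨mem_tripList (hQ.2.1 v hv).1 (hQ.2.1 v hv).2, (hbit l2).2 h2⟩)
    (by
      simp only [Bool.and_eq_true, beq_iff_eq, List.elem_iff, ← mw]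
      exact ⟨⟨⟨⟨⟨dis0 dtv, dis0 duv⟩, hex t ht v hv hvt⟩, hex u hu v hv hvu⟩, hex t ht w hwm.1 hwm.2.1.symm⟩,
        hex u hu w hwm.1 hwm.2.2.1.symm⟩)
  refine ⟨l, hl, (eq_of_subset_of_card_le ?_ ?_).symm⟩
  · rw [← mw] at l4'
    intro x hx
    rw [hQ4] at hx
    simp only [mem_insert, mem_singleton] at hx
    rcases hx with rfl | rfl | rfl | rfl <;> exact mem_confOf.2 ⟨_, by assumption, ofMask_mask _⟩
  · rw [confOf_card (quartList_ok l hl).2.1 fun m h => ((quartList_ok l hl).2.2.1 m h).1, (quartList_ok l hl).1, hQ.1]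

theorem quart_pair : ∀ h ∈ hexList, ∀ t ∈ tripList.filter (fun t => t &&& h == t),
    (quartList.filter fun l => l.elem t && l.elem (h ^^^ t)).length = 1 := by
  decide +kernel

theorem confOf_mem_iff {l : List ℕ} (hl : l ∈ quartList) {t : Finset GolayPt} : t ∈ confOf l ↔ mask t ∈ l := by
  constructor
  · intro h
    obtain ⟨m, hm, rfl⟩ := mem_confOf.1 h
    rwa [mask_ofMask ((quartList_ok l hl).2.2.1 m hm).1]
  · exact fun h => mem_confOf.2 ⟨_, h, ofMask_mask t⟩

theorem two_triples_base {t u : Finset GolayPt} (ht : t.card = 3) (htu : Disjoint t u)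
    (hh : t ∪ u ∈ hexadsOn (ofMask baseDod)) :
    ∃! Q, Q ∈ quartets (ofMask baseDod) ∧ t ∈ Q ∧ u ∈ Q := by
  have hsub : t ∪ u ⊆ ofMask baseDod := by
    obtain ⟨-, o, -, e⟩ := hh
    rw [← e]; exact inter_subset_right
  have hm := hexadsOn_base.1 hh
  have hxu : mask (t ∪ u) ^^^ mask t = mask u := by
    refine (mask_eq_iff.2 ⟨fun p => ?_, fun j hj => ?_⟩).symm
    · rw [Nat.testBit_xor]
      by_cases h : p ∈ t
      · simp [testBit_mask_idx.2 h, testBit_mask_idx.2 (mem_union_left u h), disjoint_left.1 htu h]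
      · have e : Nat.testBit (mask t) (idx p) = false := by simpa using mt testBit_mask_idx.1 h
        simp [e, testBit_mask_idx, h]
    · rw [Nat.testBit_xor, testBit_mask_ge hj, testBit_mask_ge hj]; rfl
  obtain ⟨l, hl⟩ := List.length_eq_one_iff.1 (quart_pair _ hm (mask t) (List.mem_filter.2
    ⟨mem_tripList ht (subset_union_left.trans hsub), by
      rw [beq_iff_eq, ← mask_inter, inter_eq_left.2 subset_union_left]⟩))
  rw [hxu] at hl
  have hiff : ∀ m, m ∈ quartList → (mask t ∈ m ∧ mask u ∈ m ↔ m = l) := by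
    intro m hm'
    have := Iff.of_eq (congrArg (fun L : List (List ℕ) => m ∈ L) hl)
    simpa [hm'] using this
  have hlq : l ∈ quartList := by
    have : l ∈ [l] := List.mem_singleton_self l
    rw [← hl] at this
    exact (List.mem_filter.1 this).1
  refine ⟨confOf l, ⟨quartList_mem hlq, (confOf_mem_iff hlq).2 ((hiff l hlq).2 rfl).1,
    (confOf_mem_iff hlq).2 ((hiff l hlq).2 rfl).2⟩, ?_⟩
  rintro Q ⟨hQ, htQ, huQ⟩
  obtain ⟨m, hm', rfl⟩ := mem_quartets_base.1 hQ
  rw [(hiff m hm').1 ⟨(confOf_mem_iff hm').1 htQ, (confOf_mem_iff hm').1 huQ⟩]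

theorem two_triples {d : Finset GolayPt} (hd : d ∈ dodecads) {t u : Finset GolayPt} (ht : t.card = 3)
    (htu : Disjoint t u) (hh : t ∪ u ∈ hexadsOn d) : ∃! Q, Q ∈ quartets d ∧ t ∈ Q ∧ u ∈ Q := by
  obtain ⟨σ, hσ, rfl⟩ := exists_base_dodecad hd
  have back : ∀ {Q}, Q ∈ quartets (σ • ofMask baseDod) → σ⁻¹ • Q ∈ quartets (ofMask baseDod) := fun h => by
    simpa using smul_quartet (inv_mem hσ) h
  obtain ⟨Q, ⟨hQ, htQ, huQ⟩, huniq⟩ := two_triples_base (t := σ⁻¹ • t) (u := σ⁻¹ • u) (by rw [card_smul_finset, ht])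
    (by
      rw [disjoint_iff_inter_eq_empty, ← smul_finset_inter, disjoint_iff_inter_eq_empty.1 htu, smul_finset_empty])
    (by rw [← smul_finset_union]; simpa using smul_hexadsOn (inv_mem hσ) hh)
  refine ⟨σ • Q, ⟨smul_quartet hσ hQ, inv_smul_mem_iff.1 htQ, inv_smul_mem_iff.1 huQ⟩, ?_⟩
  rintro R ⟨hR, htR, huR⟩
  rw [← huniq (σ⁻¹ • R) ⟨back hR, smul_mem_smul_finset htR, smul_mem_smul_finset huR⟩, smul_inv_smul]

/-- the test that a configuration is carried to a listed one -/
def confTest (R : List (List ℕ)) (f : ℕ → ℕ) (p : List ℕ × ℕ) : Bool :=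
  (R.getD p.2 []).all fun m => p.1.elem (f m)

theorem confTest_sound {R : List (List ℕ)} {σ : Equiv.Perm GolayPt} {f : ℕ → ℕ}
    (hf : ∀ s : Finset GolayPt, mask (σ • s) = f (mask s)) {p : List ℕ × ℕ} (h : confTest R f p = true)
    (hp : p.1 ∈ quartList) (hr : R.getD p.2 [] ∈ quartList) : σ • confOf (R.getD p.2 []) = confOf p.1 := by
  simp only [confTest, List.all_eq_true, List.elem_iff] at h
  exact smul_confOf_eq hf (fun m hm => ((quartList_ok _ hr).2.2.1 m hm).1)
    (fun m hm => ((quartList_ok _ hp).2.2.1 m hm).1) (quartList_ok _ hr).2.1 (quartList_ok _ hp).2.1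
    ((quartList_ok _ hr).1.trans (quartList_ok _ hp).1.symm) h

theorem trans_cert : cover (confTest (quartList.take 1)) dodStabGens (quartList.zip (List.replicate 220 0))
    quartTransWords = true := by
  decide +kernel

theorem dod_gens : GensIn (MulAction.stabilizer M24 (ofMask baseDod)) dodStabGens :=
  GensIn.mk' (P := fun g => pm g baseDod 0 == baseDod) (by decide +kernel) fun g hg hP => by
    have hl : lok g = true := by simp only [m24ok, Bool.and_eq_true] at hg; exact hg.1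
    exact ofMask_eq_smul hl baseDod_lt (beq_iff_eq.1 hP)

theorem quartList_nodup : quartList.Nodup ∧ quartList.length = 220 ∧
    ∀ l ∈ quartList, ∀ l' ∈ quartList, (∀ m ∈ l, m ∈ l') → l = l' := by
  refine ⟨by decide +kernel, rfl, by decide +kernel⟩

theorem confOf_inj {l l' : List ℕ} (hl : l ∈ quartList) (hl' : l' ∈ quartList) (h : confOf l = confOf l') : l = l' := by
  refine quartList_nodup.2.2 l hl l' hl' fun m hm => ?_
  have := (confOf_mem_iff hl' (t := ofMask m)).1 (h ▸ mem_confOf.2 ⟨m, hm, rfl⟩)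
  rwa [mask_ofMask ((quartList_ok l hl).2.2.1 m hm).1] at this

theorem ncard_base : (quartets (ofMask baseDod)).ncard = 220 := by
  have e : quartets (ofMask baseDod) = ((quartList.toFinset.image confOf : Finset _) : Set (Finset (Finset GolayPt))) := by
    ext Q; rw [mem_quartets_base]; simp
  rw [e, Set.ncard_coe_finset, card_image_of_injOn, List.toFinset_card_of_nodup quartList_nodup.1, quartList_nodup.2.1]
  exact fun a ha b hb h => confOf_inj (List.mem_toFinset.1 ha) (List.mem_toFinset.1 hb) h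

theorem trans_base {l : List ℕ} (hl : l ∈ quartList) :
    ∃ g ∈ MulAction.stabilizer M24 (ofMask baseDod), (g : Equiv.Perm GolayPt) • confOf ((quartList.take 1).getD 0 []) = confOf l := by
  have hz : (l, 0) ∈ quartList.zip (List.replicate 220 0) := by revert l; decide +kernel
  obtain ⟨k, f, hf, ht⟩ := coverK_sound dod_gens trans_cert hz
  exact ⟨k, k.2, confTest_sound hf ht hl (by show (quartList.take 1).getD 0 [] ∈ quartList; decide +kernel)⟩

theorem count_transitive {d : Finset GolayPt} (hd : d ∈ dodecads) : (quartets d).ncard = 220 ∧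
    ∀ Q ∈ quartets d, ∀ Q' ∈ quartets d, ∃ g : Equiv.Perm GolayPt, g ∈ M24 ∧ g • d = d ∧ g • Q = Q' := by
  obtain ⟨σ, hσ, rfl⟩ := exists_base_dodecad hd
  have back : ∀ {Q}, Q ∈ quartets (σ • ofMask baseDod) → σ⁻¹ • Q ∈ quartets (ofMask baseDod) := fun h => by
    simpa using smul_quartet (inv_mem hσ) h
  have e : quartets (σ • ofMask baseDod) = (fun Q => σ • Q) '' quartets (ofMask baseDod) := by
    ext Q
    exact ⟨fun h => ⟨_, back h, smul_inv_smul σ Q⟩, by rintro ⟨R, hR, rfl⟩; exact smul_quartet hσ hR⟩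
  refine ⟨by rw [e, Set.ncard_image_of_injective _ (MulAction.injective σ), ncard_base], fun Q hQ Q' hQ' => ?_⟩
  obtain ⟨l, hl, el⟩ := mem_quartets_base.1 (back hQ)
  obtain ⟨l', hl', el'⟩ := mem_quartets_base.1 (back hQ')
  obtain ⟨a, ha, ea⟩ := trans_base hl
  obtain ⟨b, hb, eb⟩ := trans_base hl'
  refine ⟨σ * ((b : Equiv.Perm GolayPt) * (a : Equiv.Perm GolayPt)⁻¹) * σ⁻¹,
    mul_mem (mul_mem hσ (mul_mem b.2 (inv_mem a.2))) (inv_mem hσ), ?_, ?_⟩
  · have ha' : (a : Equiv.Perm GolayPt) • ofMask baseDod = ofMask baseDod := ha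
    have hb' : (b : Equiv.Perm GolayPt) • ofMask baseDod = ofMask baseDod := hb
    rw [mul_smul, inv_smul_smul, mul_smul, mul_smul, inv_smul_eq_iff.2 ha'.symm, hb']
  · rw [mul_smul, ← el, mul_smul, mul_smul, ← ea, inv_smul_smul, eb, el', smul_inv_smul]

end Cfsg.Agent.Spor.Quartet
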