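/-
Orbits of a quartet stabiliser on the quartets of its dodecad.
-/
import Cfsg.Agent.Lib.Spor.Quartets
import Cfsg.Agent.Lib.Spor.GolayTransfer

set_option autoImplicit false
set_option maxRecDepth 100000

namespace Cfsg.Agent.Spor.Quartet

open Cfsg Finset
open scoped Pointwise

/-- the first quartet -/
def quartRoot : List ℕ := quartList.getD 0 []

/-- number of disjoint pairs of triples -/
def apart (A B : Finset (Finset GolayPt)) : ℕ := ((A ×ˢ B).filter fun x => (x.1 ∩ x.2).card = 0).card

theorem apart_smul (g : Equiv.Perm GolayPt) (A B : Finset (Finset GolayPt)) : apart (g • A) (g • B) = apart A B := by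
  refine (card_bij (fun x _ => (g • x.1, g • x.2)) ?_ ?_ ?_).symm
  · intro x hx
    simp only [mem_filter, mem_product] at hx ⊢
    exact ⟨⟨smul_mem_smul_finset hx.1.1, smul_mem_smul_finset hx.1.2⟩,
      by rw [← smul_finset_inter, card_smul_finset, hx.2]⟩
  · intro x _ y _ h
    rw [Prod.mk.injEq] at h
    exact Prod.ext (MulAction.injective g h.1) (MulAction.injective g h.2)
  · rintro ⟨a, b⟩ h
    simp only [mem_filter, mem_product] at h
    obtain ⟨a, ha, rfl⟩ := mem_smul_finset.1 h.1.1
    obtain ⟨b, hb, rfl⟩ := mem_smul_finset.1 h.1.2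
    refine ⟨(a, b), ?_, rfl⟩
    simp only [mem_filter, mem_product]
    exact ⟨⟨ha, hb⟩, by rw [← h.2, ← smul_finset_inter, card_smul_finset]⟩

/-- the stabiliser of the standard dodecad and the first quartet -/
def rootStab : Subgroup M24 :=
  MulAction.stabilizer M24 (ofMask baseDod) ⊓ MulAction.stabilizer M24 (confOf quartRoot)

theorem root_gens : GensIn rootStab quartGens :=
  GensIn.mk' (P := fun g => (pm g baseDod 0 == baseDod) && fixesConf quartRoot g) (by decide +kernel) fun g hg hP => by
    have hl : lok g = true := by simp only [m24ok, Bool.and_eq_true] at hg; exact hg.1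
    rw [Bool.and_eq_true] at hP
    exact ⟨ofMask_eq_smul hl baseDod_lt (beq_iff_eq.1 hP.1), fixesConf_sound hl hP.2⟩

theorem orbit_cert : cover (confTest quartReps) quartGens (quartList.zip quartTags) quartWords = true := by
  decide +kernel

theorem tag_facts : quartList.length = quartTags.length ∧ (∀ c ∈ quartTags, c ∈ List.range 5) ∧
    (∀ c ∈ List.range 5, quartReps.getD c [] ∈ quartList) ∧
    (∀ c ∈ List.range 5, ((quartList.zip quartTags).filter fun p => decide (p.2 = c)).length = [1, 12, 27, 72, 108].getD c 0) ∧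
    quartReps.getD 0 [] = quartRoot := by
  decide +kernel

theorem sep : ∀ c ∈ List.range 5, ∀ c' ∈ List.range 5,
    apart (confOf quartRoot) (confOf (quartReps.getD c [])) = apart (confOf quartRoot) (confOf (quartReps.getD c' [])) →
      c = c' := by
  decide +kernel

theorem orbits_base :
    (∀ c < 5, confOf (quartReps.getD c []) ∈ quartets (ofMask baseDod) ∧
      (MulAction.orbit rootStab (confOf (quartReps.getD c []))).ncard = [1, 12, 27, 72, 108].getD c 0) ∧
      ∀ Q ∈ quartets (ofMask baseDod), ∃ c < 5, Q ∈ MulAction.orbit rootStab (confOf (quartReps.getD c [])) := by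
  classical
  let code : Finset (Finset GolayPt) → Finset ℕ := fun Q => Q.image mask
  have hcode : ∀ {l}, l ∈ quartList → code (confOf l) = l.toFinset := by
    intro l hl
    ext m
    simp only [code, mem_image, List.mem_toFinset, mem_confOf]
    constructor
    · rintro ⟨-, ⟨n, hn, rfl⟩, rfl⟩
      rwa [mask_ofMask ((quartList_ok l hl).2.2.1 n hn).1]
    · exact fun hm => ⟨_, ⟨m, hm, rfl⟩, mask_ofMask ((quartList_ok l hl).2.2.1 m hm).1⟩
  set L := (quartList.zip quartTags).map fun p => (p.1.toFinset, p.2) with hLdef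
  have hfst : L.map Prod.fst = quartList.map List.toFinset := by
    rw [hLdef, List.map_map]
    show List.map (List.toFinset ∘ Prod.fst) _ = _
    rw [← List.map_map, List.map_fst_zip (by rw [tag_facts.1])]
  obtain ⟨h1, h2, -⟩ := orbit_classes (K := rootStab) (S := quartets (ofMask baseDod))
    (fun k Q hQ => by
      have h := smul_quartet (k : M24).2 hQ
      rwa [show ((k : M24) : Equiv.Perm GolayPt) • ofMask baseDod = ofMask baseDod from k.2.1] at h)
    (code := code) (fun Q _ R _ h => Finset.image_injective mask_injective h) (L := L)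
    (by
      rw [hfst]
      refine (List.nodup_map_iff_inj_on quartList_nodup.1).2 fun a ha b hb e => ?_
      exact quartList_nodup.2.2 a ha b hb fun m hm => by rw [← List.mem_toFinset] at hm ⊢; rwa [← e])
    (fun Q hQ => by
      obtain ⟨l, hl, rfl⟩ := mem_quartets_base.1 hQ
      rw [hfst, hcode hl]
      exact List.mem_map.2 ⟨l, hl, rfl⟩)
    (cs := List.range 5)
    (fun p hp => by
      obtain ⟨q, hq, rfl⟩ := List.mem_map.1 hp
      exact tag_facts.2.1 _ (List.of_mem_zip hq).2)
    (r := fun c => confOf (quartReps.getD c []))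
    (fun c hc => quartList_mem (tag_facts.2.2.1 c hc))
    (fun p hp => by
      obtain ⟨q, hq, rfl⟩ := List.mem_map.1 hp
      obtain ⟨k, f, hf, ht⟩ := coverK_sound root_gens orbit_cert hq
      refine ⟨k, ?_⟩
      show code (((k : M24) : Equiv.Perm GolayPt) • confOf _) = q.1.toFinset
      rw [confTest_sound hf ht (List.of_mem_zip hq).1 (tag_facts.2.2.1 _ (tag_facts.2.1 _ (List.of_mem_zip hq).2)),
        hcode (List.of_mem_zip hq).1])
    (inv := fun Q => apart (confOf quartRoot) Q)
    (fun k Q => by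
      show apart _ (((k : M24) : Equiv.Perm GolayPt) • Q) = _
      conv_lhs => rw [← show ((k : M24) : Equiv.Perm GolayPt) • confOf quartRoot = confOf quartRoot from k.2.2]
      rw [apart_smul])
    sep
  refine ⟨fun c hc => ⟨quartList_mem (tag_facts.2.2.1 c (List.mem_range.2 hc)), ?_⟩, fun Q hQ => ?_⟩
  · rw [h1 c (List.mem_range.2 hc), ← tag_facts.2.2.2.1 c (List.mem_range.2 hc), hLdef, List.filter_map, List.length_map]
    rfl
  · obtain ⟨c, hc, h⟩ := h2 Q hQ
    exact ⟨c, List.mem_range.1 hc, h⟩

theorem exists_standard {d : Finset GolayPt} (hd : d ∈ dodecads) {Q : Finset (Finset GolayPt)} (hQ : Q ∈ quartets d) :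
    ∃ σ : M24, σ • ofMask baseDod = d ∧ σ • confOf quartRoot = Q := by
  obtain ⟨τ, hτ, eτ⟩ := exists_base_dodecad hd
  have hroot : confOf quartRoot ∈ quartets (ofMask baseDod) := quartList_mem (by decide +kernel)
  obtain ⟨g, hg, hgd, hgQ⟩ := (count_transitive hd).2 _ (eτ ▸ smul_quartet hτ hroot) Q hQ
  refine ⟨⟨g * τ, mul_mem hg hτ⟩, ?_, ?_⟩
  · show (g * τ) • ofMask baseDod = d
    rw [mul_smul, eτ, hgd]
  · show (g * τ) • confOf quartRoot = Q
    rw [mul_smul, hgQ]

theorem stab_pair (d : Finset GolayPt) (Q : Finset (Finset GolayPt)) :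
    MulAction.stabilizer M24 (d, Q) = MulAction.stabilizer M24 d ⊓ MulAction.stabilizer M24 Q := by
  ext g
  simp [MulAction.mem_stabilizer_iff, Prod.ext_iff]

theorem orbit_subgroup_congr {G Y : Type*} [Group G] [MulAction G Y] {H K : Subgroup G} (h : H = K) (y : Y) :
    MulAction.orbit H y = MulAction.orbit K y := by
  subst h; rfl

theorem stabilizer_orbits {d : Finset GolayPt} (hd : d ∈ dodecads) {Q : Finset (Finset GolayPt)}
    (hQ : Q ∈ quartets d) :
    ∃ r : ℕ → Finset (Finset GolayPt),
      r 0 = Q ∧ (∀ c < 5, r c ∈ quartets d ∧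
        (MulAction.orbit ↥(MulAction.stabilizer M24 d ⊓ MulAction.stabilizer M24 Q) (r c)).ncard =
          [1, 12, 27, 72, 108].getD c 0 ∧
        MulAction.orbit ↥(MulAction.stabilizer M24 d ⊓ MulAction.stabilizer M24 Q) (r c) ⊆ quartets d) ∧
      ∀ X ∈ quartets d, ∃ c < 5, X ∈ MulAction.orbit ↥(MulAction.stabilizer M24 d ⊓ MulAction.stabilizer M24 Q) (r c) := by
  obtain ⟨σ, ed, eQ⟩ := exists_standard hd hQ
  have horb : ∀ X : Finset (Finset GolayPt), MulAction.orbit ↥(MulAction.stabilizer M24 d ⊓ MulAction.stabilizer M24 Q) (σ • X) =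
      (fun u => σ • u) '' MulAction.orbit rootStab X := by
    intro X
    rw [← ed, ← eQ, orbit_subgroup_congr (stab_pair _ _).symm,
      show ((σ • ofMask baseDod, σ • confOf quartRoot) : Finset GolayPt × Finset (Finset GolayPt)) =
        σ • (ofMask baseDod, confOf quartRoot) from rfl,
      orbit_stabilizer_smul, orbit_subgroup_congr (stab_pair _ _)]
    rfl
  have hsub : ∀ X ∈ quartets (ofMask baseDod), σ • X ∈ quartets d := fun X hX => ed ▸ smul_quartet σ.2 hX
  obtain ⟨h1, h2⟩ := orbits_base
  refine ⟨fun c => σ • confOf (quartReps.getD c []), by show σ • confOf (quartReps.getD 0 []) = Q; rw [tag_facts.2.2.2.2, eQ], fun c hc => ⟨hsub _ (h1 c hc).1, ?_, ?_⟩,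
    fun X hX => ?_⟩
  · rw [horb, Set.ncard_image_of_injective _ (MulAction.injective σ), (h1 c hc).2]
  · rw [horb]
    rintro _ ⟨Y, ⟨k, rfl⟩, rfl⟩
    refine hsub _ ?_
    have h := smul_quartet (k : M24).2 (h1 c hc).1
    rwa [show ((k : M24) : Equiv.Perm GolayPt) • ofMask baseDod = ofMask baseDod from k.2.1] at h
  · have hX' : σ⁻¹ • X ∈ quartets (ofMask baseDod) := by
      have h := smul_quartet (σ⁻¹).2 hX
      rwa [← ed, show (↑σ⁻¹ : Equiv.Perm GolayPt) • σ • ofMask baseDod = ofMask baseDod from inv_smul_smul σ _] at h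
    obtain ⟨c, hc, h⟩ := h2 _ hX'
    refine ⟨c, hc, ?_⟩
    rw [horb]
    exact ⟨_, h, smul_inv_smul σ X⟩

end Cfsg.Agent.Spor.Quartet
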