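/-
A quartet stabiliser: order 432, a normal subgroup of order 9 with quotient GL(2,3), transitive on the dodecad.
-/
import Cfsg.Agent.Lib.Spor.QuartetOrbits
import Cfsg.Agent.Lib.Spor.MathieuNine

set_option autoImplicit false
set_option maxRecDepth 100000

namespace Cfsg.Agent.Spor.Quartet

open Cfsg Finset
open scoped Pointwise

/-- a listed element -/
def lA : List ℕ := [0, 1, 2, 5, 6, 17, 8, 12, 4, 10, 15, 22, 13, 7, 14, 9, 19, 3, 16, 18, 20, 11, 21, 23]

/-- its inverse -/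
def lA' : List ℕ := [0, 1, 2, 17, 8, 3, 4, 13, 6, 15, 9, 21, 7, 12, 14, 10, 18, 5, 19, 16, 20, 22, 11, 23]

/-- the permutation listed by `lA` -/
def pA : Equiv.Perm GolayPt where
  toFun p := pt (lA.getD (idx p) 0)
  invFun p := pt (lA'.getD (idx p) 0)
  left_inv := by decide +kernel
  right_inv := by decide +kernel

/-- a listed element -/
def lB : List ℕ := [1, 2, 0, 3, 8, 5, 4, 16, 6, 10, 15, 7, 19, 18, 14, 9, 11, 17, 21, 22, 20, 13, 12, 23]

/-- its inverse -/
def lB' : List ℕ := [2, 0, 1, 3, 6, 5, 8, 11, 4, 15, 9, 16, 22, 21, 14, 10, 7, 17, 13, 12, 20, 18, 19, 23]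

/-- the permutation listed by `lB` -/
def pB : Equiv.Perm GolayPt where
  toFun p := pt (lB.getD (idx p) 0)
  invFun p := pt (lB'.getD (idx p) 0)
  left_inv := by decide +kernel
  right_inv := by decide +kernel

/-- a listed element -/
def lG : List ℕ := [8, 6, 4, 2, 10, 1, 15, 22, 9, 5, 3, 21, 16, 13, 14, 17, 11, 0, 12, 18, 23, 7, 19, 20]

/-- its inverse -/
def lG' : List ℕ := [17, 5, 3, 10, 2, 9, 1, 21, 0, 8, 4, 16, 18, 13, 14, 6, 12, 15, 19, 22, 23, 11, 7, 20]

/-- the permutation listed by `lG` -/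
def pG : Equiv.Perm GolayPt where
  toFun p := pt (lG.getD (idx p) 0)
  invFun p := pt (lG'.getD (idx p) 0)
  left_inv := by decide +kernel
  right_inv := by decide +kernel

/-- a listed element -/
def lH : List ℕ := [8, 6, 4, 17, 1, 5, 0, 16, 2, 10, 15, 7, 13, 22, 20, 9, 11, 3, 12, 18, 14, 19, 21, 23]

/-- its inverse -/
def lH' : List ℕ := [6, 4, 8, 17, 2, 5, 1, 11, 0, 15, 9, 16, 18, 12, 20, 10, 7, 3, 19, 21, 14, 22, 13, 23]

/-- the permutation listed by `lH` -/
def pH : Equiv.Perm GolayPt where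
  toFun p := pt (lH.getD (idx p) 0)
  invFun p := pt (lH'.getD (idx p) 0)
  left_inv := by decide +kernel
  right_inv := by decide +kernel

theorem point_cert : cover (setTest 1) quartGens (dodBits.map (2 ^ ·)) [0, 40, 7, 49, 16, 13, 121, 1, 4, 22, 76, 211] = true := by
  decide +kernel

/-- words in two generators -/
def glWords : List (List (Fin 2)) := [[], [0], [1], [0, 0], [1, 0], [0, 1], [0, 0, 0], [1, 0, 0], [0, 1, 0], [0, 0, 1], [1, 0, 1], [0, 0, 0, 0], [1, 0, 0, 0], [0, 1, 0, 0], [0, 0, 1, 0], [1, 0, 1, 0], [0, 0, 0, 1], [1, 0, 0, 1], [0, 1, 0, 1], [0, 0, 0, 0, 0], [1, 0, 0, 0, 0], [0, 1, 0, 0, 0], [0, 0, 1, 0, 0], [1, 0, 1, 0, 0], [0, 0, 0, 1, 0], [1, 0, 0, 1, 0], [1, 0, 0, 0, 1], [0, 1, 0, 0, 1], [0, 0, 1, 0, 1], [1, 0, 1, 0, 1], [0, 0, 0, 0, 0, 0], [1, 0, 0, 0, 0, 0], [0, 1, 0, 0, 0, 0], [0, 0, 1, 0, 0, 0], [1, 0, 1, 0, 0, 0], [0, 0, 0, 1, 0, 0], [1, 0, 0, 1, 0, 0], [1, 0, 0, 0, 1, 0], [0, 1, 0, 0, 1, 0], [0, 1, 0, 0, 0, 1], [0, 0,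 1, 0, 0, 1], [0, 0, 0, 1, 0, 1], [1, 0, 0, 0, 0, 0, 0], [0, 0, 1, 0, 0, 0, 0], [1, 0, 1, 0, 0, 0, 0], [0, 1, 0, 0, 1, 0, 0], [0, 1, 0, 0, 0, 1, 0], [0, 0, 1, 0, 0, 1, 0]]

/-- the two matrices -/
def glGen : Fin 2 → Matrix (Fin 2) (Fin 2) (ZMod 3) := ![!![2, 2; 2, 0], !![2, 0; 2, 1]]

theorem glWords_cover : ∀ a b c d : ZMod 3, a * d - b * c ≠ 0 →
    ∃ w ∈ glWords, (w.map glGen).prod = !![a, b; c, d] := by
  decide +kernel

section General

variable {K : Type*} [Group K]

theorem pair_hom {a b : K} (ha : a ^ 3 = 1) (hb : b ^ 3 = 1) (hab : a * b = b * a) (ha1 : a ≠ 1) (hb0 : b ≠ 1)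
    (hb1 : b ≠ a) (hb2 : b ≠ a ^ 2) :
    ∃ f : Multiplicative (Fin 2 → ZMod 3) →* K, Function.Injective f ∧
      ∀ s t : ℕ, f (Multiplicative.ofAdd ![(s : ZMod 3), (t : ZMod 3)]) = a ^ s * b ^ t := by
  obtain ⟨fa, -, fak⟩ := NineStruct.powHom_exists (n := 3) a ha
  obtain ⟨fb, -, fbk⟩ := NineStruct.powHom_exists (n := 3) b hb
  have val : ∀ x : Multiplicative (ZMod 3), fa x = a ^ (Multiplicative.toAdd x).val ∧ fb x = b ^ (Multiplicative.toAdd x).val := by
    intro x
    refine ⟨?_, ?_⟩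
    · rw [← fak, ZMod.natCast_zmod_val, ofAdd_toAdd]
    · rw [← fbk, ZMod.natCast_zmod_val, ofAdd_toAdd]
  have comm : ∀ x y, Commute (fa x) (fb y) := fun x y => by
    rw [(val x).1, (val y).2]; exact (show Commute a b from hab).pow_pow _ _
  let f : Multiplicative (Fin 2 → ZMod 3) →* K :=
    { toFun := fun v => fa (Multiplicative.ofAdd (Multiplicative.toAdd v 0)) * fb (Multiplicative.ofAdd (Multiplicative.toAdd v 1))
      map_one' := by simp
      map_mul' := fun v w => by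
        rw [toAdd_mul, Pi.add_apply, Pi.add_apply, ofAdd_add, ofAdd_add, map_mul, map_mul, mul_assoc, mul_assoc,
          ← mul_assoc (fa (Multiplicative.ofAdd (Multiplicative.toAdd w 0))), (comm _ _).eq, mul_assoc] }
  refine ⟨f, ?_, fun s t => ?_⟩
  · rw [injective_iff_map_eq_one]
    intro v hv
    change fa (Multiplicative.ofAdd (Multiplicative.toAdd v 0)) * fb (Multiplicative.ofAdd (Multiplicative.toAdd v 1)) = 1 at hv
    rw [(val _).1, (val _).2, toAdd_ofAdd, toAdd_ofAdd] at hv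
    apply Multiplicative.toAdd.injective
    rw [toAdd_one]
    generalize hs : Multiplicative.toAdd v 0 = s at hv
    generalize ht : Multiplicative.toAdd v 1 = t at hv
    suffices s = 0 ∧ t = 0 by
      funext i
      fin_cases i
      · exact hs.trans this.1
      · exact ht.trans this.2
    have cs : s.val = 0 ∨ s.val = 1 ∨ s.val = 2 := by have := ZMod.val_lt s; omega
    have ct : t.val = 0 ∨ t.val = 1 ∨ t.val = 2 := by have := ZMod.val_lt t; omega
    have zero : ∀ x : ZMod 3, x.val = 0 → x = 0 := fun x => (ZMod.val_eq_zero x).1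
    rcases cs with es | es | es <;> rcases ct with et | et | et <;> rw [es, et] at hv <;>
      try simp only [pow_zero, pow_one, one_mul, mul_one] at hv
    · exact ⟨zero _ es, zero _ et⟩
    · exact absurd hv hb0
    · exact absurd (calc b = b ^ 3 * (b ^ 2)⁻¹ := by group
        _ = 1 := by rw [hb, hv]; group) hb0
    · exact absurd hv ha1
    · exact absurd (calc b = a ^ 2 * (a * b) := by rw [← mul_assoc, ← pow_succ, ha, one_mul]
        _ = a ^ 2 := by rw [hv, mul_one]) hb2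
    · exact absurd (calc b = a * b ^ 2 * b := by rw [hv, one_mul]
        _ = a := by rw [mul_assoc, ← pow_succ, hb, mul_one]) hb1
    · exact absurd (calc a = a ^ 3 * (a ^ 2)⁻¹ := by group
        _ = 1 := by rw [ha, hv]; group) ha1
    · exact absurd (calc b = a * (a ^ 2 * b) := by rw [← mul_assoc, ← pow_succ', ha, one_mul]
        _ = a := by rw [hv, mul_one]) hb1
    · exact absurd (calc b = a ^ 2 * b ^ 2 * b := by rw [hv, one_mul]
        _ = a ^ 2 := by rw [mul_assoc, ← pow_succ, hb, mul_one]) hb2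
  · show fa (Multiplicative.ofAdd (s : ZMod 3)) * fb (Multiplicative.ofAdd (t : ZMod 3)) = _
    rw [fak, fbk]

theorem gl_map (f : Multiplicative (Fin 2 → ZMod 3) →* K)
    (hf : Function.Injective f) (hn : f.range.Normal) (g : Fin 2 → K)
    (hg : ∀ i, ∀ j, g i * f (Multiplicative.ofAdd (Pi.single j 1)) * (g i)⁻¹ =
      f (Multiplicative.ofAdd ((glGen i).mulVec (Pi.single j 1)))) :
    ∃ φ : K →* GL (Fin 2) (ZMod 3), Function.Surjective φ ∧ f.range ≤ φ.ker := by
  classical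
  have hex : ∀ (x : K) (v : Fin 2 → ZMod 3), ∃ w, f (Multiplicative.ofAdd w) = x * f (Multiplicative.ofAdd v) * x⁻¹ := by
    intro x v
    obtain ⟨w, hw⟩ := hn.conj_mem _ ⟨Multiplicative.ofAdd v, rfl⟩ x
    exact ⟨Multiplicative.toAdd w, hw⟩
  choose L hL using hex
  have Linj : ∀ {u w}, f (Multiplicative.ofAdd u) = f (Multiplicative.ofAdd w) → u = w :=
    fun h => Multiplicative.ofAdd.injective (hf h)
  have Ladd : ∀ x u w, L x (u + w) = L x u + L x w := fun x u w => Linj (by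
    rw [hL, ofAdd_add, ofAdd_add, map_mul, map_mul, hL, hL]; group)
  let lin : K → ((Fin 2 → ZMod 3) →ₗ[ZMod 3] (Fin 2 → ZMod 3)) := fun x =>
    (AddMonoidHom.mk' (L x) (Ladd x)).toZModLinearMap 3
  have hmul : ∀ x y, LinearMap.toMatrix' (lin (x * y)) = LinearMap.toMatrix' (lin x) * LinearMap.toMatrix' (lin y) := by
    intro x y
    rw [← LinearMap.toMatrix'_comp]
    congr 1
    refine LinearMap.ext fun v => Linj ?_
    show f (Multiplicative.ofAdd (L (x * y) v)) = f (Multiplicative.ofAdd (L x (L y v)))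
    rw [hL, hL, hL]; group
  have hone : LinearMap.toMatrix' (lin 1) = 1 := by
    rw [show lin 1 = LinearMap.id from LinearMap.ext fun v => Linj (by
      show f (Multiplicative.ofAdd (L 1 v)) = _
      rw [hL]; group; rfl), LinearMap.toMatrix'_id]
  let ρ : K →* Matrix (Fin 2) (Fin 2) (ZMod 3) :=
    { toFun := fun x => LinearMap.toMatrix' (lin x), map_one' := hone, map_mul' := hmul }
  let φ : K →* GL (Fin 2) (ZMod 3) := ρ.toHomUnits
  have hgen : ∀ i, ρ (g i) = glGen i := by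
    intro i
    ext r j
    show LinearMap.toMatrix' (lin (g i)) r j = _
    rw [LinearMap.toMatrix'_apply]
    have e : L (g i) (Pi.single j 1) = (glGen i).mulVec (Pi.single j 1) := Linj (by rw [hL, hg])
    show L (g i) _ r = _
    have e2 : (fun j' => if j' = j then (1 : ZMod 3) else 0) = Pi.single j 1 := by
      funext j'; rw [Pi.single_apply]
    first
      | rw [e, Matrix.mulVec_single_one]; rfl
      | rw [e2, e, Matrix.mulVec_single_one]; rfl
  have hsurj : Function.Surjective φ := by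
    intro M
    obtain ⟨a, b, c, d, e⟩ : ∃ a b c d, (M : Matrix (Fin 2) (Fin 2) (ZMod 3)) = !![a, b; c, d] :=
      ⟨_, _, _, _, Matrix.eta_fin_two _⟩
    have hdet : a * d - b * c ≠ 0 := by
      have h := Matrix.GeneralLinearGroup.det_ne_zero M
      rw [e, Matrix.det_fin_two_of] at h
      exact h
    obtain ⟨w, -, hw⟩ := glWords_cover a b c d hdet
    refine ⟨(w.map g).prod, Units.ext ?_⟩
    show ρ (w.map g).prod = _
    rw [map_list_prod, List.map_map, e, ← hw]
    congr 1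
    exact List.map_congr_left fun i _ => hgen i
  have hle : f.range ≤ φ.ker := by
    rintro _ ⟨z, rfl⟩
    rw [MonoidHom.mem_ker]
    refine Units.ext ?_
    show LinearMap.toMatrix' (lin (f z)) = 1
    rw [← LinearMap.toMatrix'_id]
    congr 1
    refine LinearMap.ext fun v => Linj ?_
    show f (Multiplicative.ofAdd (L (f z) v)) = f (Multiplicative.ofAdd v)
    rw [hL, ← map_inv, ← map_mul, ← map_mul, mul_comm z, mul_assoc, mul_inv_cancel, mul_one]
  exact ⟨φ, hsurj, hle⟩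

theorem card_gl : Nat.card (GL (Fin 2) (ZMod 3)) = 48 := by
  rw [Matrix.card_GL_field, Fin.prod_univ_two, ZMod.card]; rfl

theorem card_range_pair {f : Multiplicative (Fin 2 → ZMod 3) →* K} (hf : Function.Injective f) : Nat.card f.range = 9 := by
  rw [← Nat.card_congr (MonoidHom.ofInjective hf).toEquiv, Nat.card_congr Multiplicative.toAdd, Nat.card_fun,
    Nat.card_zmod, Nat.card_fin]
  rfl

theorem card_ge [Finite K] {f : Multiplicative (Fin 2 → ZMod 3) →* K} (hf : Function.Injective f)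
    {φ : K →* GL (Fin 2) (ZMod 3)} (hs : Function.Surjective φ) (hle : f.range ≤ φ.ker) :
    Nat.card K = Nat.card φ.ker * 48 ∧ 9 ≤ Nat.card φ.ker := by
  refine ⟨?_, card_range_pair hf ▸ Nat.le_of_dvd Nat.card_pos (Subgroup.card_dvd_of_le hle)⟩
  have h := Subgroup.card_eq_card_quotient_mul_card_subgroup φ.ker
  rw [Nat.card_congr (QuotientGroup.quotientKerEquivOfSurjective φ hs).toEquiv, card_gl] at h
  rw [h, mul_comm]

theorem quotient_gl [Finite K] (hK : Nat.card K = 432) (f : Multiplicative (Fin 2 → ZMod 3) →* K)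
    (hf : Function.Injective f) (g : Fin 2 → K)
    (hg : ∀ i, ∀ j, g i * f (Multiplicative.ofAdd (Pi.single j 1)) * (g i)⁻¹ =
      f (Multiplicative.ofAdd ((glGen i).mulVec (Pi.single j 1)))) :
    ∃ _ : f.range.Normal, Nat.card f.range = 9 ∧ Nonempty (K ⧸ f.range ≃* GL (Fin 2) (ZMod 3)) := by
  classical
  set M := Subgroup.normalizer (f.range : Set K) with hM
  have gM : ∀ i, g i ∈ M := by
    intro i
    haveI : Fintype K := Fintype.ofFinite K
    refine Subgroup.mem_normalizer_fintype fun n hn => ?_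
    obtain ⟨v, rfl⟩ := hn
    obtain ⟨s, t, rfl⟩ : ∃ s t : ℕ, v = Multiplicative.ofAdd (s • Pi.single 0 1 + t • Pi.single 1 1) :=
      ⟨(Multiplicative.toAdd v 0).val, (Multiplicative.toAdd v 1).val, by
        apply Multiplicative.toAdd.injective
        funext k; fin_cases k <;> simp only [toAdd_ofAdd, Pi.add_apply, Pi.smul_apply] <;> simp⟩
    rw [ofAdd_add, ofAdd_nsmul, ofAdd_nsmul, map_mul, map_pow, map_pow, ← conj_mul, ← conj_pow, ← conj_pow, hg, hg]
    exact mul_mem (pow_mem (MonoidHom.mem_range.2 ⟨_, rfl⟩) _) (pow_mem (MonoidHom.mem_range.2 ⟨_, rfl⟩) _)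
  have hle : f.range ≤ M := Subgroup.le_normalizer
  let f' : Multiplicative (Fin 2 → ZMod 3) →* M := f.codRestrict M fun v => hle ⟨v, rfl⟩
  have hf' : Function.Injective f' := fun x y h => hf (congrArg Subtype.val h)
  have hn' : f'.range.Normal := by
    refine ⟨?_⟩
    rintro _ ⟨v, rfl⟩ x
    obtain ⟨w, hw⟩ := (Subgroup.mem_normalizer_iff.1 x.2 (f v)).1 ⟨v, rfl⟩
    exact ⟨w, Subtype.ext hw⟩
  obtain ⟨φ, hs, hk⟩ := gl_map f' hf' hn' (fun i => ⟨g i, gM i⟩) fun i j => Subtype.ext (hg i j)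
  obtain ⟨hc, h9⟩ := card_ge hf' hs hk
  have htop : M = ⊤ := Subgroup.eq_top_of_le_card _ (by rw [hc, hK]; omega)
  have hn : f.range.Normal := Subgroup.normalizer_eq_top_iff.1 htop
  obtain ⟨ψ, hsψ, hkψ⟩ := gl_map f hf hn g hg
  obtain ⟨hcψ, h9ψ⟩ := card_ge hf hsψ hkψ
  have hk : f.range = ψ.ker := Subgroup.eq_of_le_of_card_ge hkψ (by rw [card_range_pair hf]; omega)
  exact ⟨hn, card_range_pair hf, ⟨(QuotientGroup.quotientMulEquivOfEq hk).trans (QuotientGroup.quotientKerEquivOfSurjective ψ hsψ)⟩⟩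

end General

theorem lists_ok : ∀ l ∈ [lA, lB, lG, lH], m24ok l = true ∧ pm l baseDod 0 = baseDod ∧ fixesConf quartRoot l = true := by
  decide +kernel

theorem rels : pA ^ 3 = 1 ∧ pB ^ 3 = 1 ∧ pA * pB = pB * pA ∧ pA ≠ 1 ∧ pB ≠ 1 ∧ pB ≠ pA ∧ pB ≠ pA ^ 2 := by
  refine ⟨?_, ?_, ?_, ?_, ?_, ?_, ?_⟩ <;> decide +kernel

theorem conj_rels : pG * pA * pG⁻¹ = pA ^ 2 * pB ^ 2 ∧ pG * pB * pG⁻¹ = pA ^ 2 * pB ^ 0 ∧
    pH * pA * pH⁻¹ = pA ^ 2 * pB ^ 2 ∧ pH * pB * pH⁻¹ = pA ^ 0 * pB ^ 1 := by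
  refine ⟨?_, ?_, ?_, ?_⟩ <;> decide +kernel

theorem card_rootStab : Nat.card rootStab = 432 := by
  have hd := baseDod_mem
  set S := MulAction.stabilizer M24 (ofMask baseDod) with hS
  have hroot : confOf quartRoot ∈ quartets (ofMask baseDod) := quartList_mem (by decide +kernel)
  have horb : MulAction.orbit S (confOf quartRoot) = quartets (ofMask baseDod) := by
    ext Q
    constructor
    · rintro ⟨k, rfl⟩
      have h := smul_quartet (k : M24).2 hroot
      rwa [show ((k : M24) : Equiv.Perm GolayPt) • ofMask baseDod = ofMask baseDod from k.2] at h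
    · intro hQ
      obtain ⟨g, hg, hgd, hgQ⟩ := (count_transitive hd).2 _ hroot Q hQ
      exact ⟨⟨⟨g, hg⟩, hgd⟩, hgQ⟩
  have h := Nat.card_congr (MulAction.orbitProdStabilizerEquivGroup S (confOf quartRoot))
  rw [Nat.card_prod, horb, Nat.card_coe_set_eq, ncard_base, hS, card_stab_dodecad hd] at h
  have e : Nat.card (MulAction.stabilizer S (confOf quartRoot)) = Nat.card rootStab :=
    Nat.card_congr
      { toFun := fun x => ⟨((x : S) : M24), (x : S).2, x.2⟩
        invFun := fun x => ⟨⟨(x : M24), x.2.1⟩, x.2.2⟩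
        left_inv := fun _ => rfl
        right_inv := fun _ => rfl }
  replace h : 220 * Nat.card rootStab = 95040 := e ▸ h
  omega

theorem root_structure : ∃ (N : Subgroup rootStab) (_ : N.Normal), Nat.card N = 9 ∧
    Nonempty (rootStab ⧸ N ≃* GL (Fin 2) (ZMod 3)) := by
  have mk : ∀ {l : List ℕ} {p : Equiv.Perm GolayPt}, l ∈ [lA, lB, lG, lH] → (∀ x, p x = pt (l.getD (idx x) 0)) →
      ∃ x : rootStab, ((x : M24) : Equiv.Perm GolayPt) = p := by
    intro l p hl hp
    obtain ⟨h1, h2, h3⟩ := lists_ok l hl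
    have hlok : lok l = true := by simp only [m24ok, Bool.and_eq_true] at h1; exact h1.1
    exact ⟨⟨⟨lperm l, lperm_mem h1⟩, ofMask_eq_smul hlok baseDod_lt h2, fixesConf_sound hlok h3⟩,
      Equiv.ext fun x => (lperm_apply hlok x).trans (hp x).symm⟩
  obtain ⟨a, ha⟩ := mk (l := lA) (p := pA) (by simp) fun _ => rfl
  obtain ⟨b, hb⟩ := mk (l := lB) (p := pB) (by simp) fun _ => rfl
  obtain ⟨g, hg⟩ := mk (l := lG) (p := pG) (by simp) fun _ => rfl
  obtain ⟨h, hh⟩ := mk (l := lH) (p := pH) (by simp) fun _ => rfl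
  let ι : rootStab →* Equiv.Perm GolayPt := M24.subtype.comp rootStab.subtype
  have hι : Function.Injective ι := M24.subtype_injective.comp rootStab.subtype_injective
  replace ha : ι a = pA := ha
  replace hb : ι b = pB := hb
  replace hg : ι g = pG := hg
  replace hh : ι h = pH := hh
  obtain ⟨R1, R2, R3, R4, R5, R6, R7⟩ := rels
  obtain ⟨C1, C2, C3, C4⟩ := conj_rels
  obtain ⟨f, hf, hval⟩ := pair_hom (a := a) (b := b) (hι (by rw [map_pow, map_one, ha, R1]))
    (hι (by rw [map_pow, map_one, hb, R2])) (hι (by rw [map_mul, map_mul, ha, hb, R3]))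
    (fun e => R4 (by rw [← ha, e, map_one])) (fun e => R5 (by rw [← hb, e, map_one]))
    (fun e => R6 (by rw [← hb, ← ha, e])) (fun e => R7 (by rw [← hb, ← ha, e, map_pow]))
  have e0 : Multiplicative.ofAdd (Pi.single 0 1 : Fin 2 → ZMod 3) = Multiplicative.ofAdd ![((1 : ℕ) : ZMod 3), ((0 : ℕ) : ZMod 3)] := by
    congr 1; decide +kernel
  have e1 : Multiplicative.ofAdd (Pi.single 1 1 : Fin 2 → ZMod 3) = Multiplicative.ofAdd ![((0 : ℕ) : ZMod 3), ((1 : ℕ) : ZMod 3)] := by
    congr 1; decide +kernel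
  have fA : f (Multiplicative.ofAdd (Pi.single 0 1)) = a := by rw [e0, hval, pow_one, pow_zero, mul_one]
  have fB : f (Multiplicative.ofAdd (Pi.single 1 1)) = b := by rw [e1, hval, pow_one, pow_zero, one_mul]
  have mv : ∀ (i j : Fin 2) (s t : ℕ), (glGen i).mulVec (Pi.single j 1) = ![(s : ZMod 3), (t : ZMod 3)] →
      f (Multiplicative.ofAdd ((glGen i).mulVec (Pi.single j 1))) = a ^ s * b ^ t := fun i j s t e => by rw [e, hval]
  have hconj : ∀ i j, ![g, h] i * f (Multiplicative.ofAdd (Pi.single j 1)) * (![g, h] i)⁻¹ =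
      f (Multiplicative.ofAdd ((glGen i).mulVec (Pi.single j 1))) := by
    intro i j
    fin_cases i <;> fin_cases j
    · show g * f (Multiplicative.ofAdd (Pi.single 0 1)) * g⁻¹ = _
      rw [fA]; refine Eq.trans ?_ (mv 0 0 2 2 (by decide +kernel)).symm
      exact hι (by simp only [map_mul, map_inv, map_pow, ha, hb, hg, C1])
    · show g * f (Multiplicative.ofAdd (Pi.single 1 1)) * g⁻¹ = _
      rw [fB]; refine Eq.trans ?_ (mv 0 1 2 0 (by decide +kernel)).symm
      exact hι (by simp only [map_mul, map_inv, map_pow, ha, hb, hg, C2])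
    · show h * f (Multiplicative.ofAdd (Pi.single 0 1)) * h⁻¹ = _
      rw [fA]; refine Eq.trans ?_ (mv 1 0 2 2 (by decide +kernel)).symm
      exact hι (by simp only [map_mul, map_inv, map_pow, ha, hb, hh, C3])
    · show h * f (Multiplicative.ofAdd (Pi.single 1 1)) * h⁻¹ = _
      rw [fB]; refine Eq.trans ?_ (mv 1 1 0 1 (by decide +kernel)).symm
      exact hι (by simp only [map_mul, map_inv, map_pow, ha, hb, hh, C4])
  obtain ⟨hn, h9, hq⟩ := quotient_gl card_rootStab f hf ![g, h] hconj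
  exact ⟨f.range, hn, h9, hq⟩

theorem root_transitive {p q : GolayPt} (hp : p ∈ ofMask baseDod) (hq : q ∈ ofMask baseDod) :
    ∃ g ∈ rootStab, ((g : M24) : Equiv.Perm GolayPt) p = q := by
  have hne := root_gens
  have key : ∀ x ∈ ofMask baseDod, ∃ σ ∈ rootStab.map M24.subtype, σ (pt 0) = x := by
    intro x hx
    have hmask : mask ({x} : Finset GolayPt) = 2 ^ idx x := by rw [mask, image_singleton, sum_singleton]
    obtain ⟨σ, hσ, e⟩ := setCover_sound (L := rootStab.map M24.subtype) (by norm_num) hne.1 hne.2.1 hne.2.2 point_cert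
      (s := {x}) (by rw [hmask]; exact List.mem_map.2 ⟨_, mem_dodBits hx, rfl⟩)
    refine ⟨σ, hσ, ?_⟩
    have e1 : ofMask 1 = {pt 0} := by decide +kernel
    rw [e1, smul_finset_singleton] at e
    exact singleton_injective e
  obtain ⟨σ, ⟨s, hs, rfl⟩, es⟩ := key p hp
  obtain ⟨τ, ⟨t, ht, rfl⟩, et⟩ := key q hq
  refine ⟨t * s⁻¹, mul_mem ht (inv_mem hs), ?_⟩
  rw [← es, ← et]
  show (t : Equiv.Perm GolayPt) ((s : Equiv.Perm GolayPt).symm ((s : Equiv.Perm GolayPt) (pt 0))) = _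
  rw [Equiv.symm_apply_apply]
  rfl

/-- the stabiliser of any quartet and its dodecad -/
theorem quartet_stab_structure {d : Finset GolayPt} (hd : d ∈ dodecads) {Q : Finset (Finset GolayPt)}
    (hQ : Q ∈ quartets d) :
    Nat.card ↥(MulAction.stabilizer M24 d ⊓ MulAction.stabilizer M24 Q) = 432 ∧
      (∃ (N : Subgroup ↥(MulAction.stabilizer M24 d ⊓ MulAction.stabilizer M24 Q)) (_ : N.Normal), Nat.card N = 9 ∧
        Nonempty (↥(MulAction.stabilizer M24 d ⊓ MulAction.stabilizer M24 Q) ⧸ N ≃* GL (Fin 2) (ZMod 3))) ∧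
      ∀ p ∈ d, ∀ q ∈ d, ∃ g ∈ MulAction.stabilizer M24 d ⊓ MulAction.stabilizer M24 Q,
        ((g : M24) : Equiv.Perm GolayPt) p = q := by
  obtain ⟨σ, rfl, rfl⟩ := exists_standard hd hQ
  have heq : rootStab.map (MulAut.conj σ).toMonoidHom =
      MulAction.stabilizer M24 (σ • ofMask baseDod) ⊓ MulAction.stabilizer M24 (σ • confOf quartRoot) := by
    rw [rootStab, Subgroup.map_inf _ _ _ (MulAut.conj σ).injective, MulAction.stabilizer_smul_eq_stabilizer_map_conj,
      MulAction.stabilizer_smul_eq_stabilizer_map_conj]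
  rw [← heq]
  let e : rootStab ≃* rootStab.map (MulAut.conj σ).toMonoidHom :=
    rootStab.equivMapOfInjective _ (MulAut.conj σ).injective
  refine ⟨by rw [← Nat.card_congr e.toEquiv, card_rootStab], ?_, fun p hp q hq => ?_⟩
  · obtain ⟨N, hN, h9, ⟨iso⟩⟩ := root_structure
    haveI := hN
    haveI : (N.map e.toMonoidHom).Normal := Subgroup.Normal.map hN _ e.surjective
    refine ⟨N.map e.toMonoidHom, inferInstance, ?_, ⟨(QuotientGroup.congr N (N.map e.toMonoidHom) e rfl).symm.trans iso⟩⟩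
    rw [← Nat.card_congr (N.equivMapOfInjective e.toMonoidHom e.injective).toEquiv, h9]
  · obtain ⟨a, ha, rfl⟩ := mem_smul_finset.1 hp
    obtain ⟨b, hb, rfl⟩ := mem_smul_finset.1 hq
    obtain ⟨g, hg, e'⟩ := root_transitive ha hb
    refine ⟨σ * g * σ⁻¹, ⟨g, hg, rfl⟩, ?_⟩
    show (σ : Equiv.Perm GolayPt) ((g : Equiv.Perm GolayPt) ((σ : Equiv.Perm GolayPt).symm ((σ : Equiv.Perm GolayPt) a))) = _
    rw [Equiv.symm_apply_apply, e']
    rfl

end Cfsg.Agent.Spor.Quartet
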