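import Cfsg.Agent.Lib.Spor.RuMin

/-!
No vector of the scaled Rudvalis lattice has norm 8.
-/

set_option autoImplicit false
set_option maxRecDepth 100000
set_option Elab.async false

namespace Cfsg.Agent.Spor.RuMin

open Cfsg.Spor

/-- parity of the number of chosen elements -/
def evenOn (h : List ℕ) (f : ℕ → Bool) : Bool := Nat.beq ((h.filter f).length % 2) 0

/-- a code word from its values at the information positions -/
def extend (piv : List ℕ) (deps : List (ℕ × List ℕ)) (s : List ℕ) : List ℕ :=
  s ++ (deps.filter fun t => !evenOn t.2 fun p => s.contains p).map Prod.fst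

/-- the dependencies of the even code -/
def eDeps : List (ℕ × List ℕ) := eChecks.map fun t => (t.1, t.2.1)

/-- the pattern with one odd coordinate at each point of a support -/
def patt (s T : List ℕ) (k : ℕ) : Bool :=
  s.contains (k / 2) && (if k % 2 = 0 then T.contains (k / 2) else !T.contains (k / 2))

/-- a support of weight at most eight is not realised -/
def supportOK (s : List ℕ) : Bool :=
  !Nat.ble s.length 8 || s.isEmpty || s.sublists.all fun T => checks.any fun h => !evenOn h (patt s T)

theorem c_words : (cPiv.sublists.all fun s => supportOK (extend cPiv cChecks s)) = true := by decide +kernel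

/-- the seven blocks -/
def blockOf (U : List ℕ) : Bool :=
  (List.range 7).any fun b => (List.range 28).all fun p => U.contains p == Nat.beq (p / 4) b

theorem e_words : (ePiv.sublists.all fun s => !Nat.ble (extend ePiv eDeps s).length 4 ||
    (extend ePiv eDeps s).isEmpty || blockOf (extend ePiv eDeps s)) = true := by decide +kernel

/-- the vector of signs on a block -/
def signVal (b : ℕ) (T : List ℕ) (k : ℕ) : ℤ :=
  if k / 8 = b then (if T.contains k then -1 else 1) else 0

theorem blocks_out : ∀ b < 7, ((List.range' (8 * b) 8).sublists.all fun T => basis.any fun a =>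
    !decide (((List.range' (8 * b) 8).map fun k => a.getD k 0 * signVal b T k).sum % 4 = 0)) = true := by
  decide +kernel

theorem columns : ((List.range 56).all fun k => (List.range k).all fun l =>
    basis.any fun a => !decide ((a.getD k 0 + a.getD l 0) % 2 = 0)) = true := by decide +kernel

theorem piv_ok : (∀ p ∈ cPiv, p < 28) ∧ (∀ p ∈ ePiv, p < 28) ∧
    (∀ t ∈ cChecks, t.1 < 28 ∧ ∀ p ∈ t.2, p ∈ cPiv) ∧ (∀ t ∈ eChecks, t.1 < 28 ∧ ∀ p ∈ t.2.1, p ∈ ePiv) ∧
    (∀ p < 28, p ∈ cPiv ∨ p ∈ cChecks.map Prod.fst) ∧ (∀ p < 28, p ∈ ePiv ∨ p ∈ eDeps.map Prod.fst) ∧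
    (cPiv ++ cChecks.map Prod.fst).Nodup ∧ (ePiv ++ eDeps.map Prod.fst).Nodup := by decide +kernel

theorem eChecks_perm : (eChecks.all fun t => decide
    (List.Perm (t.2.2.1.map fun k => k / 2) (t.1 :: t.2.1 ++ t.2.2.2 ++ t.2.2.2))) = true := by decide +kernel

theorem sum_parity (f : ℕ → ℤ) (odd : ℕ → Bool) (hf : ∀ p, f p % 2 = if odd p then 1 else 0) :
    ∀ l : List ℕ, (l.map f).sum % 2 = ((l.filter odd).length % 2 : ℕ)
  | [] => by simp
  | a :: l => by
    have ih := sum_parity f odd hf l
    have ha := hf a
    rw [List.map_cons, List.sum_cons, List.filter_cons]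
    by_cases h : odd a = true
    · rw [if_pos h] at ha ⊢; rw [List.length_cons]; omega
    · rw [if_neg h] at ha ⊢; omega

/-- The odd positions of a function obeying the dependencies are recovered from the information positions. -/
theorem extend_spec (piv : List ℕ) (deps : List (ℕ × List ℕ)) (f : ℕ → ℤ) (odd : ℕ → Bool)
    (hf : ∀ p, f p % 2 = if odd p then 1 else 0)
    (hd : ∀ t ∈ deps, (f t.1 + (t.2.map f).sum) % 2 = 0) (hsub : ∀ t ∈ deps, ∀ p ∈ t.2, p ∈ piv)
    {p : ℕ} (hp : p ∈ piv ∨ p ∈ deps.map Prod.fst) (hnd : (piv ++ deps.map Prod.fst).Nodup) :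
    p ∈ extend piv deps (piv.filter odd) ↔ odd p = true := by
  have key : ∀ t ∈ deps, (!evenOn t.2 fun q => (piv.filter odd).contains q) = odd t.1 := by
    intro t ht
    have e : t.2.filter (fun q => (piv.filter odd).contains q) = t.2.filter odd :=
      List.filter_congr fun q hq => by simp [hsub t ht q hq]
    have h1 := hd t ht
    have h2 := sum_parity f odd hf t.2
    have h3 := hf t.1
    rw [evenOn, e]
    cases ho : odd t.1 <;> rw [ho] at h3 <;>
      rcases Nat.mod_two_eq_zero_or_one (t.2.filter odd).length with hl | hl <;> rw [hl] at h2 ⊢ <;>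
      first | rfl | (simp only [Bool.false_eq_true, if_false, if_true] at h3; omega)
  rw [extend, List.mem_append, List.mem_filter]
  constructor
  · rintro (⟨-, h⟩ | h)
    · exact h
    · obtain ⟨t, ht, rfl⟩ := List.mem_map.1 h
      rw [List.mem_filter] at ht
      exact (key t ht.1).symm.trans ht.2
  · intro h
    rcases hp with hp | hp
    · exact Or.inl ⟨hp, h⟩
    · obtain ⟨t, ht, rfl⟩ := List.mem_map.1 hp
      exact Or.inr (List.mem_map.2 ⟨t, List.mem_filter.2 ⟨ht, (key t ht).trans h⟩, rfl⟩)

theorem extend_nodup {piv : List ℕ} {deps : List (ℕ × List ℕ)} (hnd : (piv ++ deps.map Prod.fst).Nodup)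
    (odd : ℕ → Bool) : (extend piv deps (piv.filter odd)).Nodup :=
  hnd.sublist (List.Sublist.append List.filter_sublist (List.Sublist.map _ List.filter_sublist))

open Finset in
/-- The main step: coordinates subject to all conditions cannot have square sum 8. -/
theorem no_eight (z : ℕ → ℤ) (hN : ∑ k ∈ range 56, z k * z k = 8)
    (hD : ∀ h ∈ checks, (h.map z).sum % 2 = 0)
    (hC : ∀ t ∈ cChecks, ((both (t.1 :: t.2)).map z).sum % 2 = 0)
    (hE : ∀ t ∈ eChecks, (t.2.2.1.map z).sum % 2 = 0)
    (hdot : ∀ a ∈ basis, (∑ k ∈ range 56, a.getD k 0 * z k) % 4 = 0) : False := by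
  obtain ⟨piv1, piv2, dep1, dep2, cov1, cov2, nd1, nd2⟩ := piv_ok
  -- the pattern modulo one plus i
  let c : ℕ → Bool := fun p => decide ((z (2 * p) + z (2 * p + 1)) % 2 = 1)
  have hc : ∀ p, (z (2 * p) + z (2 * p + 1)) % 2 = if c p then 1 else 0 := fun p => by
    simp only [c, decide_eq_true_eq]; split_ifs <;> omega
  have hboth : ∀ l : List ℕ, ((both l).map z).sum = (l.map fun p => z (2 * p) + z (2 * p + 1)).sum := by
    intro l
    induction l with
    | nil => rfl
    | cons a l ih =>
      simp only [both, List.flatMap_cons, List.map_append, List.map_cons, List.map_nil, List.sum_append,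
        List.sum_cons, List.sum_nil, add_zero] at ih ⊢
      rw [ih]
  set C := extend cPiv cChecks (cPiv.filter c) with hCdef
  have memC : ∀ p < 28, (p ∈ C ↔ c p = true) := fun p hp =>
    extend_spec cPiv cChecks _ c hc (fun t ht => by
      have := hC t ht
      rwa [hboth, List.map_cons, List.sum_cons] at this) (fun t ht => (dep1 t ht).2) (cov1 p hp) nd1
  have Clt : ∀ p ∈ C, p < 28 := fun p hp => by
    rw [hCdef, extend, List.mem_append] at hp
    rcases hp with hp | hp
    · exact piv1 p (List.mem_filter.1 hp).1
    · obtain ⟨t, ht, rfl⟩ := List.mem_map.1 hp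
      exact (dep1 t (List.mem_filter.1 ht).1).1
  -- sums over pairs
  let g : ℕ → ℤ := fun p => z (2 * p) * z (2 * p) + z (2 * p + 1) * z (2 * p + 1)
  have hg : ∑ p ∈ range 28, g p = 8 := by
    rw [← hN]
    simp only [g, sum_range_succ, sum_range_zero]
    ring
  have g0 : ∀ p, 0 ≤ g p := fun p => add_nonneg (mul_self_nonneg _) (mul_self_nonneg _)
  have sq1 : ∀ a : ℤ, a % 2 = 1 → 1 ≤ a * a := fun a ha => by
    have : a ≤ -1 ∨ 1 ≤ a := by omega
    rcases this with e | e <;> nlinarith
  have sq_one : ∀ a : ℤ, a * a ≤ 1 → a = 0 ∨ a = 1 ∨ a = -1 := fun a ha => by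
    have h1 : a ≤ 1 := by nlinarith
    have h2 : -1 ≤ a := by nlinarith
    omega
  have small : ∀ (L : List ℕ), L.Nodup → (∀ p ∈ L, p < 28) → ∀ m : ℕ, (∀ p ∈ L, (m : ℤ) ≤ g p) →
      m * L.length ≤ 8 ∧ (m * L.length = 8 → ∀ p < 28, g p = if p ∈ L then (m : ℤ) else 0) := by
    intro L hL hlt m hm
    have le : ∀ p ∈ range 28, (if p ∈ L then (m : ℤ) else 0) ≤ g p := fun p _ => by
      split_ifs with h
      · exact hm p h
      · exact g0 p
    have e : ∑ p ∈ range 28, (if p ∈ L then (m : ℤ) else 0) = (m * L.length : ℕ) := by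
      rw [← sum_filter, sum_const, show (range 28).filter (fun p => p ∈ L) = L.toFinset from by
        ext p; simp only [mem_filter, mem_range, List.mem_toFinset]; exact ⟨fun h => h.2, fun h => ⟨hlt p h, h⟩⟩,
        List.toFinset_card_of_nodup hL, nsmul_eq_mul]
      push_cast; ring
    have := sum_le_sum le
    rw [e, hg] at this
    refine ⟨by exact_mod_cast this, fun h8 p hp => ((sum_eq_sum_iff_of_le le).1 ?_ p (mem_range.2 hp)).symm⟩
    rw [e, hg, h8]; rfl
  obtain ⟨lenC, eqC⟩ := small C (extend_nodup nd1 c) Clt 1 fun p hp => by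
    have h := (memC p (Clt p hp)).1 hp
    have := hc p; rw [h, if_pos rfl] at this
    rcases Int.emod_two_eq (z (2 * p)) with e | e
    · have := sq1 (z (2 * p + 1)) (by omega); have := mul_self_nonneg (z (2 * p)); simp only [g]; omega
    · have := sq1 (z (2 * p)) e; have := mul_self_nonneg (z (2 * p + 1)); simp only [g]; omega
  have hw := List.all_eq_true.1 c_words (cPiv.filter c) (List.mem_sublists.2 List.filter_sublist)
  rw [← hCdef, supportOK] at hw
  by_cases hC0 : C = []
  swap
  · -- one odd coordinate at each point of the support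
    simp only [Bool.or_eq_true, Bool.not_eq_true', List.isEmpty_iff, hC0, or_false,
      show Nat.ble C.length 8 = true from Nat.ble_eq_true_of_le (by omega), Bool.true_eq_false, false_or] at hw
    have h8 : C.length = 8 := by
      by_contra hne
      have : ∀ s ∈ cPiv.sublists, (extend cPiv cChecks s).length < 8 → (extend cPiv cChecks s).isEmpty = true := by
        decide +kernel
      exact hC0 (List.isEmpty_iff.1 (this _ (List.mem_sublists.2 List.filter_sublist)
        (by rw [← hCdef]; omega)))
    have hp := eqC (by omega)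
    let T := C.filter fun p => decide (z (2 * p) % 2 = 1)
    have hT := List.all_eq_true.1 hw T (List.mem_sublists.2 List.filter_sublist)
    rw [List.any_eq_true] at hT
    obtain ⟨h, hh, hne⟩ := hT
    have := sum_parity (fun k => if k < 56 then z k else 0) (patt C T) (fun k => ?_) h
    · have hD' := hD h hh
      rw [List.map_congr_left (f := fun k => if k < 56 then z k else 0) (g := z)
        fun k hk => if_pos (checks_lt.1 h hh k hk)] at this
      rw [Bool.not_eq_true', evenOn] at hne
      have : (h.filter (patt C T)).length % 2 ≠ 0 := fun e => by rw [e] at hne; exact absurd hne (by decide)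
      omega
    · have key : ∀ p, p < 28 → ∀ k, k = 2 * p ∨ k = 2 * p + 1 → z k % 2 = if patt C T k then 1 else 0 := by
        intro p hp28 k hk
        have e := hp p hp28
        have hkp : k / 2 = p := by omega
        have := mul_self_nonneg (z (2 * p)); have := mul_self_nonneg (z (2 * p + 1))
        simp only [g] at e
        by_cases hpC : p ∈ C
        · rw [if_pos hpC] at e
          have a1 := sq_one (z (2 * p)) (by push_cast at e; omega)
          have a2 := sq_one (z (2 * p + 1)) (by push_cast at e; omega)
          have hcp := hc p; rw [(memC p hp28).1 hpC, if_pos rfl] at hcp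
          simp only [patt, hkp, T]
          rcases hk with rfl | rfl <;> rcases Int.emod_two_eq (z (2 * p)) with o | o <;>
            simp [hpC, o] <;> omega
        · rw [if_neg hpC] at e
          have z1 : z (2 * p) = 0 := mul_self_eq_zero.1 (by omega)
          have z2 : z (2 * p + 1) = 0 := mul_self_eq_zero.1 (by omega)
          simp only [patt, hkp]
          rcases hk with rfl | rfl <;> simp [hpC, z1, z2]
      show (if k < 56 then z k else 0) % 2 = _
      rcases Nat.lt_or_ge k 56 with hk | hk
      · rw [if_pos hk]; exact key (k / 2) (by omega) k (by omega)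
      · rw [if_neg (by omega)]
        have : ¬ k / 2 ∈ C := fun h => by have := Clt _ h; omega
        simp [patt, this]
  -- both coordinates of each point have the same parity
  have same : ∀ p < 28, z (2 * p + 1) % 2 = z (2 * p) % 2 := fun p hp => by
    have h := hc p
    rw [if_neg (fun e => by have := (memC p hp).2 e; rw [hC0] at this; simp at this)] at h
    omega
  let u : ℕ → Bool := fun p => decide (z (2 * p) % 2 = 1)
  have hu : ∀ p, z (2 * p) % 2 = if u p then 1 else 0 := fun p => by
    simp only [u, decide_eq_true_eq]; split_ifs <;> omega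
  have hdep : ∀ t ∈ eDeps, (z (2 * t.1) + (t.2.map fun p => z (2 * p)).sum) % 2 = 0 := by
    intro t ht
    obtain ⟨t', ht', rfl⟩ := List.mem_map.1 ht
    have h := hE t' ht'
    have hlt := checks_lt.2.2 t' ht'
    have hperm : List.Perm (t'.2.2.1.map fun k => k / 2) (t'.1 :: t'.2.1 ++ t'.2.2.2 ++ t'.2.2.2) :=
      of_decide_eq_true (List.all_eq_true.1 eChecks_perm t' ht')
    have e := (hperm.map fun p => z (2 * p)).sum_eq
    simp only [List.map_map, List.map_append, List.map_cons, List.sum_append, List.sum_cons] at e
    have cg : ∀ l : List ℕ, (∀ k ∈ l, k < 56) →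
        (l.map z).sum % 2 = (l.map ((fun p => z (2 * p)) ∘ fun k => k / 2)).sum % 2 := by
      intro l
      induction l with
      | nil => intro; rfl
      | cons a l ih =>
        intro hl
        have ih := ih fun k hk => hl k (List.mem_cons_of_mem _ hk)
        have ha := hl a (List.mem_cons_self ..)
        simp only [List.map_cons, List.sum_cons, Function.comp_apply] at ih ⊢
        have := same (a / 2) (by omega)
        rcases Nat.mod_two_eq_zero_or_one a with o | o
        · rw [show 2 * (a / 2) = a by omega]; omega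
        · rw [show 2 * (a / 2) + 1 = a by omega] at this; omega
    have := cg _ hlt
    simp only [] at e ⊢
    omega
  set U := extend ePiv eDeps (ePiv.filter u) with hUdef
  have hdep2 : ∀ t ∈ eDeps, ∀ p ∈ t.2, p ∈ ePiv := fun t ht => by
    obtain ⟨t', ht', rfl⟩ := List.mem_map.1 ht
    exact (dep2 t' ht').2
  have memU : ∀ p < 28, (p ∈ U ↔ u p = true) := fun p hp =>
    extend_spec ePiv eDeps _ u hu hdep hdep2 (cov2 p hp) nd2
  have Ult : ∀ p ∈ U, p < 28 := fun p hp => by
    rw [hUdef, extend, List.mem_append] at hp
    rcases hp with hp | hp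
    · exact piv2 p (List.mem_filter.1 hp).1
    · obtain ⟨t, ht, rfl⟩ := List.mem_map.1 hp
      obtain ⟨t', ht', rfl⟩ := List.mem_map.1 (List.mem_filter.1 ht).1
      exact (dep2 t' ht').1
  obtain ⟨lenU, eqU⟩ := small U (extend_nodup nd2 u) Ult 2 fun p hp => by
    have h : z (2 * p) % 2 = 1 := of_decide_eq_true ((memU p (Ult p hp)).1 hp)
    have := sq1 _ h
    have := sq1 (z (2 * p + 1)) ((same p (Ult p hp)).trans h)
    simp only [g]; push_cast; omega
  have hu' := List.all_eq_true.1 e_words (ePiv.filter u) (List.mem_sublists.2 List.filter_sublist)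
  rw [← hUdef] at hu'
  simp only [Bool.or_eq_true, Bool.not_eq_true', List.isEmpty_iff,
    show Nat.ble U.length 4 = true from Nat.ble_eq_true_of_le (by omega), Bool.true_eq_false, false_or] at hu'
  rcases hu' with hU0 | hblock
  · -- twice a vector of norm two
    have ev : ∀ k ∈ range 56, z k % 2 = 0 := fun k hk => by
      have hp : k / 2 < 28 := by have := mem_range.1 hk; omega
      have h1 := hu (k / 2)
      rw [if_neg (fun e => by have := (memU _ hp).2 e; rw [hU0] at this; simp at this)] at h1
      have := same _ hp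
      rcases Nat.mod_two_eq_zero_or_one k with o | o
      · rwa [show 2 * (k / 2) = k by omega] at h1
      · rw [show 2 * (k / 2) + 1 = k by omega] at this; omega
    have hw2 : ∑ k ∈ range 56, z k / 2 * (z k / 2) = 2 := by
      have e : ∀ k ∈ range 56, z k * z k = 4 * (z k / 2 * (z k / 2)) := fun k hk => by
        have := ev k hk
        obtain ⟨m, hm⟩ := Int.dvd_of_emod_eq_zero this
        rw [hm, Int.mul_ediv_cancel_left _ (by norm_num)]; ring
      rw [sum_congr rfl e, ← mul_sum] at hN
      omega
    set W := (range 56).filter fun k => z k ≠ 0 with hW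
    have one : ∀ k ∈ W, (1 : ℤ) ≤ z k / 2 * (z k / 2) := fun k hk => by
      obtain ⟨h1, h2⟩ := mem_filter.1 hk
      have := ev k h1
      have : z k / 2 ≤ -1 ∨ 1 ≤ z k / 2 := by omega
      rcases this with e | e <;> nlinarith
    have rest : ∀ k ∈ range 56, k ∉ W → z k / 2 * (z k / 2) = 0 := fun k hk hn => by
      rw [show z k = 0 from by_contra fun e => hn (mem_filter.2 ⟨hk, e⟩)]; rfl
    rw [← sum_subset (show W ⊆ range 56 from filter_subset _ _) rest] at hw2
    have le := sum_le_sum one
    rw [sum_const, nsmul_eq_mul, mul_one, hw2] at le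
    have hsq : W.card = 2 := by
      rcases (show W.card = 0 ∨ W.card = 1 ∨ W.card = 2 by omega) with c0 | c1 | c2
      · rw [card_eq_zero.1 c0, sum_empty] at hw2; norm_num at hw2
      · obtain ⟨k, hk⟩ := card_eq_one.1 c1
        rw [hk, sum_singleton] at hw2
        have : z k / 2 ≤ -2 ∨ z k / 2 = -1 ∨ z k / 2 = 0 ∨ z k / 2 = 1 ∨ 2 ≤ z k / 2 := by omega
        rcases this with e | e | e | e | e <;> (try rw [e] at hw2) <;> nlinarith
      · exact c2
    have hone : ∀ k ∈ W, z k / 2 * (z k / 2) = 1 := fun k hk => by
      refine ((sum_eq_sum_iff_of_le one).1 ?_ k hk).symm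
      rw [hw2, sum_const, hsq]; rfl
    obtain ⟨k, l, hkl, hWeq⟩ := card_eq_two.1 hsq
    have val : ∀ a ∈ W, z a = 2 ∨ z a = -2 := fun a ha => by
      have := sq_one _ (le_of_eq (hone a ha))
      have := ev a (mem_filter.1 ha).1
      have := (mem_filter.1 ha).2
      omega
    have hk : k ∈ W := by rw [hWeq]; exact mem_insert_self _ _
    have hl : l ∈ W := by rw [hWeq]; exact mem_insert_of_mem (mem_singleton_self _)
    have k56 := mem_range.1 (mem_filter.1 hk).1
    have l56 := mem_range.1 (mem_filter.1 hl).1
    have pick : ∀ k' l', k' < 56 → l' < k' → ∃ a ∈ basis, ¬ (a.getD k' 0 + a.getD l' 0) % 2 = 0 := by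
      intro k' l' h1 h2
      have := List.all_eq_true.1 (List.all_eq_true.1 columns k' (List.mem_range.2 h1)) l' (List.mem_range.2 h2)
      rw [List.any_eq_true] at this
      obtain ⟨a, ha, h⟩ := this
      exact ⟨a, ha, by simpa using h⟩
    obtain ⟨a, ha, hne⟩ : ∃ a ∈ basis, ¬ (a.getD k 0 + a.getD l 0) % 2 = 0 := by
      rcases Nat.lt_or_gt_of_ne hkl with h | h
      · obtain ⟨a, ha, hne⟩ := pick l k l56 h
        exact ⟨a, ha, by rwa [add_comm] at hne⟩
      · exact pick k l k56 h
    have h4 := hdot a ha
    rw [← sum_subset (show W ⊆ range 56 from filter_subset _ _) (fun i hi hn => by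
      rw [show z i = 0 from by_contra fun e => hn (mem_filter.2 ⟨hi, e⟩), mul_zero]), hWeq,
      sum_pair hkl] at h4
    rcases val k hk with e | e <;> rcases val l hl with e' | e' <;> rw [e, e'] at h4 <;> omega
  · -- one block
    rw [blockOf, List.any_eq_true] at hblock
    obtain ⟨b, hb, hU⟩ := hblock
    rw [List.mem_range] at hb
    have hU' : ∀ p < 28, (p ∈ U ↔ p / 4 = b) := fun p hp => by
      have h := List.all_eq_true.1 hU p (List.mem_range.2 hp)
      rw [beq_iff_eq] at h
      rw [← List.contains_iff_mem, h]
      exact ⟨Nat.eq_of_beq_eq_true, fun e => by rw [e]; exact Nat.beq_refl b⟩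
    have hlen : 4 ≤ U.length := by
      have : [4 * b, 4 * b + 1, 4 * b + 2, 4 * b + 3] ⊆ U := by
        intro p hp
        simp only [List.mem_cons, List.not_mem_nil, or_false] at hp
        exact (hU' p (by omega)).2 (by omega)
      have nd : [4 * b, 4 * b + 1, 4 * b + 2, 4 * b + 3].Nodup := by
        simp [List.nodup_cons]
      exact (List.Nodup.subperm nd this).length_le
    have hp := eqU (by omega)
    let T := (List.range' (8 * b) 8).filter fun k => decide (z k = -1)
    have hT := List.all_eq_true.1 (blocks_out b hb) T (List.mem_sublists.2 List.filter_sublist)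
    rw [List.any_eq_true] at hT
    obtain ⟨a, ha, hne⟩ := hT
    have val : ∀ k < 56, z k = signVal b T k := by
      intro k hk
      have e := hp (k / 2) (by omega)
      have := mul_self_nonneg (z (2 * (k / 2))); have := mul_self_nonneg (z (2 * (k / 2) + 1))
      simp only [g] at e
      by_cases hkb : k / 8 = b
      · have hm : k / 2 ∈ U := (hU' _ (by omega)).2 (by omega)
        rw [if_pos hm] at e
        have o : z (2 * (k / 2)) % 2 = 1 := of_decide_eq_true ((memU _ (by omega)).1 hm)
        have := sq1 _ o
        have := sq1 (z (2 * (k / 2) + 1)) ((same _ (by omega)).trans o)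
        have a1 := sq_one (z (2 * (k / 2))) (by push_cast at e; omega)
        have a2 := sq_one (z (2 * (k / 2) + 1)) (by push_cast at e; omega)
        have o2 := (same (k / 2) (by omega)).trans o
        have hv : z k = 1 ∨ z k = -1 := by
          rcases Nat.mod_two_eq_zero_or_one k with q | q
          · rw [show 2 * (k / 2) = k by omega] at a1 o; omega
          · rw [show 2 * (k / 2) + 1 = k by omega] at a2 o2; omega
        have hr : k ∈ List.range' (8 * b) 8 := List.mem_range'_1.2 (by omega)
        rcases hv with v | v <;> simp [signVal, hkb, T, hr, v]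
      · have hm : k / 2 ∉ U := fun h => hkb (by have := (hU' _ (by omega)).1 h; omega)
        rw [if_neg hm] at e
        rw [signVal, if_neg hkb]
        rcases Nat.mod_two_eq_zero_or_one k with q | q
        · rw [show 2 * (k / 2) = k by omega] at *; exact mul_self_eq_zero.1 (by omega)
        · rw [show 2 * (k / 2) + 1 = k by omega] at *; exact mul_self_eq_zero.1 (by omega)
    have h4 := hdot a ha
    have esum : ∑ k ∈ range 56, a.getD k 0 * z k =
        ((List.range' (8 * b) 8).map fun k => a.getD k 0 * signVal b T k).sum := by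
      rw [sum_congr rfl fun k hk => by rw [val k (mem_range.1 hk)],
        ← sum_subset (s₁ := (List.range' (8 * b) 8).toFinset) (fun k hk => by
            rw [List.mem_toFinset, List.mem_range'_1] at hk; exact mem_range.2 (by omega))
          (fun k _ hn => by
            rw [List.mem_toFinset, List.mem_range'_1] at hn
            rw [signVal, if_neg (by omega), mul_zero]),
        List.sum_toFinset _ (List.nodup_range' ..)]
    rw [esum] at h4
    rw [h4] at hne
    exact absurd hne (by decide)

theorem norm_ne_eight {x : RuVec} (hx : x ∈ span) : ruNorm x ≠ 8 := fun h => by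
  refine no_eight (co x) (by rw [← norm_co, h]) (fun t ht => csum_even (checks_lt.1 t ht) (checks_basis t ht) hx)
    (fun t ht => csum_even (checks_lt.2.1 t ht) (cChecks_basis t ht) hx)
    (fun t ht => csum_even (checks_lt.2.2 t ht) (eChecks_basis t ht) hx) fun a ha => dot_four ha hx

theorem norm_pos {x : RuVec} (hx : x ≠ 0) : 0 < ruNorm x := by
  rw [norm_co]
  refine lt_of_le_of_ne (Finset.sum_nonneg fun k _ => mul_self_nonneg _) fun e => hx ?_
  have h := (Finset.sum_eq_zero_iff_of_nonneg fun k _ => mul_self_nonneg (co x k)).1 e.symm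
  have h0 : coL x = zeroL := by
    refine List.ext_getElem (by simp [coL, zeroL]) fun k h1 h2 => ?_
    simp only [coL, List.getElem_map, List.getElem_range, zeroL, List.getElem_replicate]
    exact mul_self_eq_zero.1 (h k (Finset.mem_range.2 (by simpa [coL] using h1)))
  rw [← emb_coL x, h0, emb_zeroL]

theorem table_norm : ((coL (ruTable.getD 0 0)).map fun a => a * a).sum = 16 := by decide +kernel

theorem norm_sixteen : ∃ x ∈ ruLattice, ruNorm x = 16 := by
  have hm : ruTable.getD 0 0 ∈ ruTable := by
    rw [List.getD_eq_getElem _ _ (by rw [show ruTable.length = 20 from rfl]; norm_num)]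
    exact List.getElem_mem _
  refine ⟨_, (AddSubgroup.mem_sInf.2 fun L hL => hL.1 _ hm), ?_⟩
  rw [norm_co, ← table_norm, coL, List.map_map]
  rfl

end Cfsg.Agent.Spor.RuMin
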