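import Cfsg.Agent.Lib.Spor.RuOutForm

/-!
Kernel checks for the frame of the Rudvalis group.
-/

set_option autoImplicit false
set_option maxRecDepth 100000

namespace Cfsg.Agent.Spor.RuOut

open Cfsg.Agent.Spor.RuCert Cfsg.Agent.Spor.CC

noncomputable section

/-- the first generator to the power `k` -/
def xPow (k : ℕ) : ℕ := powB gen0 k

/-- the image of the first generator under the normalising element -/
def xR : ℕ := powB gen0 4

/-- the normalising element to the thirteenth power -/
def nK : ℕ := powB nM 13

/-- a product of known matrices -/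
def evW (f : ℕ → ℕ) (w : List ℕ) : ℕ := w.foldr (fun k r => mulB (f k) r) idB

/-- the generators of the frame -/
def xyN (k : ℕ) : ℕ := bif Nat.beq k 0 then gen0 else yM

theorem frame_ok : Nat.beq (evW genN nWord) nM = true ∧ Nat.beq (evW genN yWord) yM = true ∧
    Nat.beq (evW xyN gWord) gen1 = true ∧ (∀ k ∈ nWord ++ yWord ++ gWord, k < 2) ∧
    Nat.beq (mulB nM gen0) (mulB xR nM) = true ∧ Nat.beq (mulB yM nK) (mulB nM yM) = true ∧
    Nat.beq gen0 idB = false := by
  decide +kernel

/-- products along the orbit of the first generator -/
def gramX : List Bool := (List.range 29).map fun k => bilN (rVec 0) (orbN gen0 (rVec 0) k)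

/-- the image of a point has the products -/
def goodX (i : ℕ) : Bool := walk xR (rVec i) gramX (rVec i)

/-- a listed image -/
def inNorm (i : ℕ) : Bool := normCert.any fun c => Nat.beq c.1 i

theorem norm_list : (List.range 4060).all (fun i => !goodX i || inNorm i) = true := by decide +kernel

/-- the sum of chosen orbit vectors -/
def xorSel (M v m : ℕ) : ℕ :=
  ((List.range 29).filter fun k => m.testBit k).foldr (fun k r => Nat.xor (orbN M v k) r) 0

/-- one listed image: it comes from the coset, or a point leaves the 4060 -/
def normOK (c : ℕ × ℕ × ℕ) : Bool :=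
  Nat.blt c.1 4060 &&
  (bif Nat.beq c.2.1 1 then Nat.beq (orbN gen0 (mulB nM (rVec 0)) c.2.2) (rVec c.1)
    else
      let t := c.2.2 / 4294967296
      let m := c.2.2 % 4294967296
      Nat.blt t 4060 && Nat.beq (xorSel gen0 (rVec 0) m) (rVec t) &&
        strictN (xorSel xR (rVec c.1) m) fun w => (List.range 4060).all fun j => !Nat.beq (rVec j) w)

theorem norm_cert : normCert.all normOK = true := by decide +kernel

theorem x_span : Nat.beq (mulB xSpan xSpanInv) idB = true ∧
    (∀ j < 28, xSel.getD j 0 < 29 ∧ Nat.beq (colB xSpan j) (orbN gen0 (rVec 0) (xSel.getD j 0)) = true) := by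
  decide +kernel

/-- products along an orbit of the thirteenth power -/
def gramN (a b : ℕ) : List Bool := (List.range 14).map fun k => bilN (rVec a) (orbN nK (rVec b) k)

/-- the products of the first point -/
def goodP (i : ℕ) : Bool := walk nM (rVec i) (gramN ptA ptA) (rVec i)

/-- the products of the second point -/
def goodQ (i : ℕ) : Bool := walk nM (rVec i) (gramN ptB ptB) (rVec i)

theorem list_P : (List.range 4060).all (fun i => !goodP i || listP.any (Nat.beq i)) = true := by decide +kernel

theorem list_Q : (List.range 4060).all (fun i => !goodQ i || listQ.any (Nat.beq i)) = true := by decide +kernel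

theorem list_pairs : listP.all (fun i => listQ.all fun j =>
    !walk nM (rVec i) (gramN ptA ptB) (rVec j) || pairs.any fun c => Nat.beq c.1 i && Nat.beq c.2.1 j) = true := by
  decide +kernel

/-- one place among the two orbits -/
def place (M a b k : ℕ) : ℕ := bif Nat.blt k 14 then orbN M a k else orbN M b (Nat.sub k 14)

theorem pair_mats : pairs.all (fun c => (List.range 28).all fun j =>
    Nat.beq (mulB c.2.2 (colB ySpan j)) (place nM (rVec c.1) (rVec c.2.1) (ySel.getD j 0))) = true := by
  decide +kernel

theorem y_span : Nat.beq (mulB ySpan ySpanInv) idB = true ∧ ptA < 4060 ∧ ptB < 4060 ∧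
    (∀ j < 28, ySel.getD j 0 < 28 ∧
      Nat.beq (colB ySpan j) (place nK (rVec ptA) (rVec ptB) (ySel.getD j 0)) = true) := by
  decide +kernel

/-- the value of a relation -/
def relV (x u : ℕ) (q : List ℕ × ℕ) : ℕ :=
  powB (q.1.foldr (fun a r => mulB (mulB (powB x a) u) r) idB) q.2

/-- some relation fails -/
def fails (x u : ℕ) : Bool := rels.any fun q => !Nat.beq (relV x u q % 2 ^ 784) idB

theorem rels_true : rels.all (fun q => Nat.beq (relV gen0 yM q) idB) = true := by decide +kernel

theorem cand_one : pairs.all (fun c => Nat.beq c.2.2 yM || fails gen0 c.2.2) = true := by decide +kernel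

theorem cand_two : pairs.all (fun c => fails (powB gen0 2) c.2.2) = true := by decide +kernel

end

end Cfsg.Agent.Spor.RuOut
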