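import Cfsg.Agent.Lib.Spor.RuGroup
import Cfsg.Agent.Lib.Spor.RuOutData

/-!
The invariant form of the Rudvalis group on twenty-eight dimensions and orbits of vectors under one matrix.
-/

set_option autoImplicit false
set_option maxRecDepth 100000

namespace Cfsg.Agent.Spor.RuOut

open Cfsg.Agent.Spor.RuCert Cfsg.Agent.Spor.CC Matrix

/-- evaluate the argument first -/
def strictN {α : Type} : ℕ → (ℕ → α) → α
  | 0, f => f 0
  | n + 1, f => f (n + 1)

theorem strictN_eq {α : Type} : ∀ (k : ℕ) (f : ℕ → α), strictN k f = f k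
  | 0, _ => rfl
  | _ + 1, _ => rfl

/-- xor with a shift -/
def foldBits (x s : ℕ) : ℕ := Nat.xor x (Nat.shiftRight x s)

/-- the parity of the first twenty-eight bits -/
def parN (x : ℕ) : Bool :=
  (foldBits (foldBits (foldBits (foldBits (foldBits (Nat.land x 268435455) 16) 8) 4) 2) 1).testBit 0

/-- the form on codes -/
def bilN (u v : ℕ) : Bool := parN (Nat.land (mulB formN u) v)

/-- the form on vectors -/
def bform (u v : Fin 28 → ZMod 2) : ZMod 2 := (matB formN *ᵥ u) ⬝ᵥ v

theorem parN_spec (x : ℕ) : bit01 (parN x) = ∑ i : Fin 28, bit01 (x.testBit i) := by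
  have hm : ∀ i, (x &&& 268435455).testBit i = (decide (i < 28) && x.testBit i) := fun i => by
    rw [Nat.testBit_and, show (268435455 : ℕ) = 2 ^ 28 - 1 from rfl, Nat.testBit_two_pow_sub_one, Bool.and_comm]
  have hl : ∀ a b : ℕ, Nat.land a b = a &&& b := fun _ _ => rfl
  have hx : ∀ a b : ℕ, Nat.xor a b = a ^^^ b := fun _ _ => rfl
  have hs : ∀ a b : ℕ, Nat.shiftRight a b = a >>> b := fun _ _ => rfl
  simp only [parN, foldBits, hl, hx, hs, Nat.testBit_xor, Nat.testBit_shiftRight, hm, bit01_xor]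
  simp only [Fin.sum_univ_succ, Finset.univ_eq_empty, Finset.sum_empty, Fin.val_succ, Fin.val_zero]
  simp [bit01]
  ring

theorem bilN_spec (u v : ℕ) : bit01 (bilN u v) = bform (vecB u) (vecB v) := by
  rw [bilN, parN_spec, bform, ← mulB_vec]
  refine Finset.sum_congr rfl fun i _ => ?_
  show bit01 ((mulB formN u &&& v).testBit i) = _
  rw [Nat.testBit_and, bit01_and]
  rfl

theorem gens_form : Nat.beq (mulB (mulB gen0T formN) gen0) formN = true ∧
    Nat.beq (mulB (mulB gen1T formN) gen1) formN = true ∧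
    ∀ i < 28, ∀ j < 28, gen0T.testBit (28 * j + i) = gen0.testBit (28 * i + j) ∧
      gen1T.testBit (28 * j + i) = gen1.testBit (28 * i + j) := by
  decide +kernel

/-- preserving the form -/
def Pres (g : Matrix (Fin 28) (Fin 28) (ZMod 2)) : Prop := gᵀ * matB formN * g = matB formN

theorem pres_gen {k : ℕ} (hk : k < 2) : Pres (matB (genN k)) := by
  obtain ⟨h0, h1, ht⟩ := gens_form
  have t0 : (matB gen0)ᵀ = matB gen0T := by
    ext i j
    simp only [transpose_apply, matB, of_apply, (ht i i.2 j j.2).1]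
  have t1 : (matB gen1)ᵀ = matB gen1T := by
    ext i j
    simp only [transpose_apply, matB, of_apply, (ht i i.2 j j.2).2]
  interval_cases k
  · show (matB gen0)ᵀ * _ * matB gen0 = _
    rw [t0, ← mulB_mat, ← mulB_mat, Nat.eq_of_beq_eq_true h0]
  · show (matB gen1)ᵀ * _ * matB gen1 = _
    rw [t1, ← mulB_mat, ← mulB_mat, Nat.eq_of_beq_eq_true h1]

theorem pres_mem {g : G28} (hg : g ∈ Gru) : Pres (g : Matrix (Fin 28) (Fin 28) (ZMod 2)) := by
  induction hg using Subgroup.closure_induction with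
  | mem x hx => obtain ⟨k, hk, e⟩ := hx; rw [e]; exact pres_gen hk
  | one => simp [Pres]
  | mul x y _ _ hx hy =>
    unfold Pres at *
    rw [Units.val_mul, transpose_mul]
    calc _ = ((y : Matrix (Fin 28) (Fin 28) (ZMod 2)))ᵀ *
          (((x : Matrix (Fin 28) (Fin 28) (ZMod 2)))ᵀ * matB formN * x) * y := by simp only [Matrix.mul_assoc]
      _ = _ := by rw [hx, hy]
  | inv x _ hx =>
    unfold Pres at *
    calc _ = (((x⁻¹ : G28) : Matrix (Fin 28) (Fin 28) (ZMod 2)))ᵀ *
          (((x : Matrix (Fin 28) (Fin 28) (ZMod 2)))ᵀ * matB formN * x) *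
          ((x⁻¹ : G28) : Matrix (Fin 28) (Fin 28) (ZMod 2)) := by rw [hx]
      _ = (((x * x⁻¹ : G28) : Matrix (Fin 28) (Fin 28) (ZMod 2)))ᵀ * matB formN *
          ((x * x⁻¹ : G28) : Matrix (Fin 28) (Fin 28) (ZMod 2)) := by
            simp only [Units.val_mul, transpose_mul, Matrix.mul_assoc]
      _ = _ := by rw [mul_inv_cancel, Units.val_one, transpose_one, Matrix.one_mul, Matrix.mul_one]

theorem bform_map {g : G28} (hg : g ∈ Gru) (u v : Fin 28 → ZMod 2) :
    bform ((g : Matrix (Fin 28) (Fin 28) (ZMod 2)) *ᵥ u) ((g : Matrix (Fin 28) (Fin 28) (ZMod 2)) *ᵥ v) =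
      bform u v := by
  unfold bform
  rw [dotProduct_mulVec, ← mulVec_transpose, mulVec_mulVec, mulVec_mulVec, pres_mem hg]

theorem bil_map {g : G28} (hg : g ∈ Gru) {u v u' v' : ℕ}
    (hu : vecB u' = (g : Matrix (Fin 28) (Fin 28) (ZMod 2)) *ᵥ vecB u)
    (hv : vecB v' = (g : Matrix (Fin 28) (Fin 28) (ZMod 2)) *ᵥ vecB v) : bilN u' v' = bilN u v := by
  have h : bit01 (bilN u' v') = bit01 (bilN u v) := by rw [bilN_spec, bilN_spec, hu, hv, bform_map hg]
  revert h
  cases bilN u' v' <;> cases bilN u v <;> simp [bit01]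

/-- the orbit of a vector under a matrix -/
def orbN (M v : ℕ) : ℕ → ℕ
  | 0 => v
  | k + 1 => mulB M (orbN M v k)

theorem orbN_vec (M v : ℕ) : ∀ k, vecB (orbN M v k) = matB M ^ k *ᵥ vecB v
  | 0 => by rw [pow_zero, one_mulVec]; rfl
  | k + 1 => by rw [orbN, mulB_vec, orbN_vec M v k, mulVec_mulVec, pow_succ']

/-- products along an orbit agree with given values -/
def walk (M p : ℕ) : List Bool → ℕ → Bool
  | [], _ => true
  | b :: bs, q => (bilN p q == b) && strictN (mulB M q) (fun q' => walk M p bs q')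

theorem walk_of {M p : ℕ} : ∀ (bs : List Bool) (q : ℕ),
    (∀ k < bs.length, bilN p (orbN M q k) = bs.getD k false) → walk M p bs q = true
  | [], _, _ => rfl
  | b :: bs, q, h => by
    have h0 := h 0 (Nat.succ_pos _)
    rw [orbN, List.getD_cons_zero] at h0
    rw [walk, strictN_eq, h0, beq_self_eq_true, Bool.true_and]
    refine walk_of bs _ fun k hk => ?_
    have h' := h (k + 1) (Nat.succ_lt_succ hk)
    rw [List.getD_cons_succ] at h'
    rwa [show orbN M (mulB M q) k = orbN M q (k + 1) from ?_]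
    clear h h' hk
    induction k with
    | zero => rfl
    | succ k ih => rw [orbN, ih]; rfl

/-- linear maps agreeing on independent vectors are equal -/
theorem eq_of_span {P Q : ℕ} (hPQ : Nat.beq (mulB P Q) idB = true) {g h : Matrix (Fin 28) (Fin 28) (ZMod 2)}
    (e : ∀ j < 28, g *ᵥ vecB (colB P j) = h *ᵥ vecB (colB P j)) : g = h := by
  have hcol : ∀ j : Fin 28, (fun z => matB P z j) = vecB (colB P j) := fun j => by
    funext z
    rw [vecB, colB_bit _ _ z.2]
    rfl
  have hB : g * matB P = h * matB P := by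
    ext i j
    have := congrFun (e (j : ℕ) j.2) i
    rw [← hcol j] at this
    rw [Matrix.mul_apply, Matrix.mul_apply]
    exact this
  have hinv : matB P * matB Q = 1 := by rw [← mulB_mat, Nat.eq_of_beq_eq_true hPQ, matB_id]
  calc g = g * (matB P * matB Q) := by rw [hinv, Matrix.mul_one]
    _ = h * (matB P * matB Q) := by rw [← Matrix.mul_assoc, hB, Matrix.mul_assoc]
    _ = h := by rw [hinv, Matrix.mul_one]

/-- the group permutes the 4060 -/
theorem rvec_perm {g : G28} (hg : g ∈ Gru) {i : ℕ} (hi : i < 4060) :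
    ∃ j < 4060, (g : Matrix (Fin 28) (Fin 28) (ZMod 2)) *ᵥ vecB (rVec i) = vecB (rVec j) := by
  obtain ⟨u, hu, eu⟩ := rtab_in i hi
  obtain ⟨j, hj, m, hm, e⟩ := r_cover (mul_mem hg hu)
  refine ⟨j, hj, ?_⟩
  rw [← (rtab_facts hi).1, mulB_vec, ← eu, Matrix.mulVec_mulVec, ← Units.val_mul, e,
    ← Matrix.mulVec_mulVec, kfix hm, ← mulB_vec, (rtab_facts hj).1]

end Cfsg.Agent.Spor.RuOut
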