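import Cfsg.Agent.Lib.Spor.RuOutCheck
import Cfsg.Agent.Lib.Lie.OutCriterion

/-!
The Rudvalis matrix group has no outer automorphisms.
-/

set_option autoImplicit false
set_option maxRecDepth 100000
set_option maxHeartbeats 1000000

namespace Cfsg.Agent.Spor.RuOut

open Cfsg.Agent.Spor.RuCert Cfsg.Agent.Spor.CC Matrix

/-- the matrix of an element -/
abbrev mat (g : Gru) : Matrix (Fin 28) (Fin 28) (ZMod 2) := ((g : G28) : Matrix (Fin 28) (Fin 28) (ZMod 2))

theorem mat_inj {g h : Gru} (e : mat g = mat h) : g = h := Subtype.ext (Units.ext e)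

theorem mat_pow (g : Gru) (k : ℕ) : mat (g ^ k) = mat g ^ k := by
  simp only [mat, SubmonoidClass.coe_pow, Units.val_pow_eq_pow_val]

theorem mat_mul (g h : Gru) : mat (g * h) = mat g * mat h := by
  simp only [mat, MulMemClass.coe_mul, Units.val_mul]

theorem word_elem {f : ℕ → ℕ} {H : Subgroup Gru} (hf : ∀ k < 2, ∃ g ∈ H, mat g = matB (f k)) :
    ∀ w : List ℕ, (∀ k ∈ w, k < 2) → ∃ g ∈ H, mat g = matB (evW f w)
  | [], _ => ⟨1, H.one_mem, by
      show ((1 : G28) : Matrix (Fin 28) (Fin 28) (ZMod 2)) = matB idB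
      rw [matB_id, Units.val_one]⟩
  | k :: w, h => by
    obtain ⟨g, hg, eg⟩ := hf k (h k List.mem_cons_self)
    obtain ⟨r, hr, er⟩ := word_elem hf w fun x hx => h x (List.mem_cons_of_mem _ hx)
    exact ⟨g * r, H.mul_mem hg hr, by rw [mat_mul, eg, er, ← mulB_mat]; rfl⟩

theorem exists_mat {k : ℕ} (hk : k < 2) : ∃ g : Gru, mat g = matB (genN k) := by
  obtain ⟨g, hg, e⟩ := gen_in hk
  exact ⟨⟨g, hg⟩, e⟩

/-- the first generator -/
noncomputable def xE : Gru := (exists_mat (show 0 < 2 by norm_num)).choose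

theorem xE_mat : mat xE = matB gen0 := (exists_mat (show 0 < 2 by norm_num)).choose_spec

theorem word_ex (w : List ℕ) (h : ∀ k ∈ w, k < 2) : ∃ g : Gru, mat g = matB (evW genN w) := by
  obtain ⟨g, -, e⟩ := word_elem (H := ⊤) (fun k hk => ⟨_, trivial, (exists_mat hk).choose_spec⟩) w h
  exact ⟨g, e⟩

theorem nWord_ok : ∀ k ∈ nWord, k < 2 := fun k hk =>
  frame_ok.2.2.2.1 k (List.mem_append_left _ (List.mem_append_left _ hk))

theorem yWord_ok : ∀ k ∈ yWord, k < 2 := fun k hk =>
  frame_ok.2.2.2.1 k (List.mem_append_left _ (List.mem_append_right _ hk))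

/-- the normalising element -/
noncomputable def nE : Gru := (word_ex nWord nWord_ok).choose

/-- the second generator -/
noncomputable def yE : Gru := (word_ex yWord yWord_ok).choose

theorem nE_mat : mat nE = matB nM := by
  exact (word_ex nWord nWord_ok).choose_spec.trans (congrArg matB (Nat.eq_of_beq_eq_true frame_ok.1))

theorem yE_mat : mat yE = matB yM := by
  exact (word_ex yWord yWord_ok).choose_spec.trans (congrArg matB (Nat.eq_of_beq_eq_true frame_ok.2.1))

theorem order_x : orderOf xE = 29 := by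
  haveI : Fact (Nat.Prime 29) := ⟨by norm_num⟩
  refine orderOf_eq_prime (mat_inj ?_) fun e => ?_
  · rw [mat_pow, xE_mat, ← matB_powB, show gen0 = genN 0 from rfl,
      Nat.eq_of_beq_eq_true (gens_pow 0 (by norm_num)).1, matB_id]
    rfl
  · have h : matB gen0 = matB idB := by rw [← xE_mat, e, matB_id]; rfl
    have hb : ∀ j < 28, ∀ i < 28, gen0.testBit (28 * j + i) = idB.testBit (28 * j + i) := fun j hj i hi => by
      have := congrFun (congrFun h ⟨i, hi⟩) ⟨j, hj⟩
      simp only [matB, of_apply] at this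
      revert this
      cases gen0.testBit (28 * j + i) <;> cases idB.testBit (28 * j + i) <;> simp [bit01]
    have hex : ¬ ∀ j < 28, ∀ i < 28, gen0.testBit (28 * j + i) = idB.testBit (28 * j + i) := by decide +kernel
    exact hex hb

theorem norm_eq : nE * xE = xE ^ 4 * nE := mat_inj (by
  rw [mat_mul, mat_mul, mat_pow, nE_mat, xE_mat, ← matB_powB, ← mulB_mat, ← mulB_mat,
    Nat.eq_of_beq_eq_true frame_ok.2.2.2.2.1]
  rfl)

theorem yrel : yE * nE ^ 13 = nE * yE := mat_inj (by
  rw [mat_mul, mat_mul, mat_pow, nE_mat, yE_mat, ← matB_powB, ← mulB_mat, ← mulB_mat]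
  exact congrArg matB (Nat.eq_of_beq_eq_true frame_ok.2.2.2.2.2.1))

theorem gen_xy : Subgroup.closure {xE, yE} = ⊤ := by
  set H := Subgroup.closure ({xE, yE} : Set Gru)
  have hf : ∀ k < 2, ∃ g ∈ H, mat g = matB (xyN k) := fun k hk => by
    interval_cases k
    · exact ⟨xE, Subgroup.subset_closure (Or.inl rfl), xE_mat⟩
    · exact ⟨yE, Subgroup.subset_closure (Or.inr rfl), yE_mat⟩
  obtain ⟨g1, hg1, e1⟩ := word_elem hf gWord fun k hk => frame_ok.2.2.2.1 k (List.mem_append_right _ hk)
  rw [Nat.eq_of_beq_eq_true frame_ok.2.2.1] at e1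
  have hle : Gru ≤ H.map Gru.subtype := genSub_le fun k hk => by
    interval_cases k
    · exact ⟨(xE : G28), ⟨xE, Subgroup.subset_closure (Or.inl rfl), rfl⟩, xE_mat⟩
    · exact ⟨(g1 : G28), ⟨g1, hg1, rfl⟩, e1⟩
  refine eq_top_iff.2 fun g _ => ?_
  obtain ⟨h, hh, e⟩ := hle g.2
  rwa [show g = h from Subtype.ext e.symm]

/-- the image of an orbit point -/
theorem orb_image {g a b : Gru} {A B : ℕ} (hA : mat a = matB A) (hB : mat b = matB B) (h : g * a = b * g)
    {v p : ℕ} (hp : vecB p = mat g *ᵥ vecB v) (k : ℕ) :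
    vecB (orbN B p k) = mat g *ᵥ vecB (orbN A v k) := by
  have hk : g * a ^ k = b ^ k * g := by
    induction k with
    | zero => rw [pow_zero, pow_zero, mul_one, one_mul]
    | succ k ih => rw [pow_succ, pow_succ, ← mul_assoc, ih, mul_assoc, h, ← mul_assoc]
  rw [orbN_vec, orbN_vec, hp, mulVec_mulVec, mulVec_mulVec, ← hA, ← hB, ← mat_pow, ← mat_pow, ← mat_mul,
    ← mat_mul, hk]

theorem image_point (g : Gru) {i : ℕ} (hi : i < 4060) :
    ∃ j < 4060, vecB (rVec j) = mat g *ᵥ vecB (rVec i) :=
  (rvec_perm g.2 hi).imp fun _ ⟨hj, e⟩ => ⟨hj, e.symm⟩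

theorem nK_mat : mat (nE ^ 13) = matB nK := by rw [mat_pow, nE_mat, nK, matB_powB]

theorem xR_mat : mat (xE ^ 4) = matB xR := by rw [mat_pow, xE_mat, xR, matB_powB]

theorem xor_image {g a b : Gru} {A B : ℕ} (hA : mat a = matB A) (hB : mat b = matB B) (h : g * a = b * g)
    {v p : ℕ} (hp : vecB p = mat g *ᵥ vecB v) (m : ℕ) : vecB (xorSel B p m) = mat g *ᵥ vecB (xorSel A v m) := by
  unfold xorSel
  induction (List.range 29).filter fun k => m.testBit k with
  | nil =>
    have z : vecB 0 = 0 := by funext i; simp [vecB, bit01]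
    simp only [List.foldr_nil, z, mulVec_zero]
  | cons k l ih =>
    have hx : ∀ u w : ℕ, vecB (Nat.xor u w) = vecB u + vecB w := fun u w => by
      funext i
      show bit01 ((u ^^^ w).testBit i) = _
      rw [Nat.testBit_xor, bit01_xor]
      rfl
    simp only [List.foldr_cons, hx, mulVec_add, orb_image hA hB h hp k, ih]

theorem cosets (g : Gru) (hg : g * xE = xE ^ 4 * g) : ∃ i, g = xE ^ i * nE := by
  obtain ⟨i, hi, hp⟩ := image_point g (show 0 < 4060 by norm_num)
  have hgood : goodX i = true := by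
    refine walk_of _ _ fun k hk => ?_
    rw [gramX, List.length_map, List.length_range] at hk
    rw [gramX, List.getD_eq_getElem _ _ (by simpa using hk), List.getElem_map, List.getElem_range]
    exact bil_map g.2 hp (orb_image xE_mat xR_mat hg hp k)
  have h := List.all_eq_true.1 norm_list i (List.mem_range.2 hi)
  rw [hgood, Bool.not_true, Bool.false_or, inNorm, List.any_eq_true] at h
  obtain ⟨c, hc, hci⟩ := h
  have hok := List.all_eq_true.1 norm_cert c hc
  rw [normOK, Bool.and_eq_true] at hok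
  rw [Nat.eq_of_beq_eq_true hci] at hok
  obtain ⟨-, hok⟩ := hok
  cases hb : Nat.beq c.2.1 1 <;> rw [hb] at hok
  · simp only [cond_false, Bool.and_eq_true, strictN_eq] at hok
    obtain ⟨⟨ht, he⟩, hall⟩ := hok
    obtain ⟨j, hj, ej⟩ := image_point g (Nat.le_of_ble_eq_true ht)
    rw [← Nat.eq_of_beq_eq_true he] at ej
    have hw := xor_image xE_mat xR_mat hg hp (c.2.2 % 4294967296)
    rw [← ej] at hw
    have hv : xorSel xR (rVec i) (c.2.2 % 4294967296) % 2 ^ 28 = rVec j := by
      refine Nat.eq_of_testBit_eq fun b => ?_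
      rw [Nat.testBit_mod_two_pow]
      rcases Nat.lt_or_ge b 28 with hb28 | hb28
      · have := congrFun hw ⟨b, hb28⟩
        simp only [vecB] at this
        revert this
        cases (xorSel xR (rVec i) (c.2.2 % 4294967296)).testBit b <;> cases (rVec j).testBit b <;>
          simp [bit01, hb28]
      · rw [Nat.testBit_lt_two_pow (lt_of_lt_of_le (rtab_facts hj).2 (Nat.pow_le_pow_right (by norm_num) hb28))]
        simp [Nat.not_lt.2 hb28]
    have hlt : ∀ k, orbN xR (rVec i) k < 2 ^ 28 := by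
      intro k
      induction k with
      | zero => exact (rtab_facts hi).2
      | succ k ih => exact mulB_vec_lt _ ih
    have hxlt : xorSel xR (rVec i) (c.2.2 % 4294967296) < 2 ^ 28 := by
      unfold xorSel
      induction (List.range 29).filter fun k => (c.2.2 % 4294967296).testBit k with
      | nil => norm_num
      | cons k l ih => exact Nat.xor_lt_two_pow (hlt k) ih
    rw [Nat.mod_eq_of_lt hxlt] at hv
    have := List.all_eq_true.1 hall j (List.mem_range.2 hj)
    rw [hv, Nat.beq_refl] at this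
    exact absurd this (by decide)
  · rw [cond_true] at hok
    refine ⟨c.2.2, ?_⟩
    set h' : Gru := xE ^ c.2.2 * nE with hh'
    have h2 : h' * xE = xE ^ 4 * h' := by
      rw [hh', mul_assoc, norm_eq, ← mul_assoc, ← mul_assoc, ← pow_add, ← pow_add, Nat.add_comm]
    have hp2 : vecB (rVec i) = mat h' *ᵥ vecB (rVec 0) := by
      rw [← Nat.eq_of_beq_eq_true hok, orbN_vec, mulB_vec, mulVec_mulVec, hh', mat_mul, mat_pow, xE_mat, nE_mat]
    refine mat_inj (eq_of_span x_span.1 fun j hj => ?_)
    obtain ⟨-, hcol⟩ := x_span.2 j hj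
    rw [Nat.eq_of_beq_eq_true hcol, ← orb_image xE_mat xR_mat hg hp, ← orb_image xE_mat xR_mat h2 hp2]

theorem candidates (u : Gru) (hu : u * nE ^ 13 = nE * u) : ∃ c ∈ pairs, mat u = matB c.2.2 := by
  obtain ⟨hP, ha, hb, hcol⟩ := y_span
  obtain ⟨i, hi, hp⟩ := image_point u ha
  obtain ⟨j, hj, hq⟩ := image_point u hb
  have gram : ∀ {a b p q : ℕ}, vecB p = mat u *ᵥ vecB (rVec a) → vecB q = mat u *ᵥ vecB (rVec b) →
      walk nM p (gramN a b) q = true := fun {a b p q} e1 e2 => by
    refine walk_of _ _ fun k hk => ?_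
    rw [gramN, List.length_map, List.length_range] at hk
    rw [gramN, List.getD_eq_getElem _ _ (by simpa using hk), List.getElem_map, List.getElem_range]
    exact bil_map u.2 e1 (orb_image nK_mat nE_mat hu e2 k)
  have h1 := List.all_eq_true.1 list_P i (List.mem_range.2 hi)
  rw [show goodP i = true from gram hp hp, Bool.not_true, Bool.false_or, List.any_eq_true] at h1
  obtain ⟨i', hiP, ei⟩ := h1
  have h2 := List.all_eq_true.1 list_Q j (List.mem_range.2 hj)
  rw [show goodQ j = true from gram hq hq, Bool.not_true, Bool.false_or, List.any_eq_true] at h2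
  obtain ⟨j', hjQ, ej⟩ := h2
  rw [← Nat.eq_of_beq_eq_true ei] at hiP
  rw [← Nat.eq_of_beq_eq_true ej] at hjQ
  have h3 := List.all_eq_true.1 (List.all_eq_true.1 list_pairs i hiP) j hjQ
  rw [gram hp hq, Bool.not_true, Bool.false_or, List.any_eq_true] at h3
  obtain ⟨c, hc, ec⟩ := h3
  rw [Bool.and_eq_true] at ec
  refine ⟨c, hc, eq_of_span hP fun s hs => ?_⟩
  obtain ⟨hlt, hsp⟩ := hcol s hs
  have hm := List.all_eq_true.1 (List.all_eq_true.1 pair_mats c hc) s (List.mem_range.2 hs)
  rw [← mulB_vec, Nat.eq_of_beq_eq_true hm, Nat.eq_of_beq_eq_true ec.1, Nat.eq_of_beq_eq_true ec.2,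
    Nat.eq_of_beq_eq_true hsp]
  unfold place
  cases Nat.blt (ySel.getD s 0) 14
  · exact (orb_image nK_mat nE_mat hu hq _).symm
  · exact (orb_image nK_mat nE_mat hu hp _).symm

theorem rel_value {x u : Gru} {X U : ℕ} (hx : mat x = matB X) (hu : mat u = matB U) (q : List ℕ × ℕ) :
    mat ((q.1.map fun a => x ^ a * u).prod ^ q.2) = matB (relV X U q) := by
  rw [mat_pow, relV, matB_powB]
  congr 1
  induction q.1 with
  | nil =>
    show ((1 : G28) : Matrix (Fin 28) (Fin 28) (ZMod 2)) = matB idB
    rw [matB_id, Units.val_one]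
  | cons a l ih => rw [List.map_cons, List.prod_cons, mat_mul, mat_mul, mat_pow, hx, hu, ih, List.foldr_cons,
      mulB_mat, mulB_mat, matB_powB]

theorem matB_mod784 (A : ℕ) : matB (A % 2 ^ 784) = matB A := by
  funext i j
  simp only [matB, of_apply, Nat.testBit_mod_two_pow]
  rw [decide_eq_true (show 28 * (j : ℕ) + i < 784 by omega), Bool.true_and]

theorem rels_hold {β : MulAut Gru} {X U : ℕ} (hx : mat (β xE) = matB X) (hu : mat (β yE) = matB U) :
    fails X U = false := by
  rw [← Bool.not_eq_true]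
  intro h
  obtain ⟨q, hq, hne⟩ := List.any_eq_true.1 h
  have ht := Nat.eq_of_beq_eq_true (List.all_eq_true.1 rels_true q hq)
  have e : ((q.1.map fun a => xE ^ a * yE).prod ^ q.2) = 1 := mat_inj (by
    rw [rel_value xE_mat yE_mat, ht, matB_id]
    rfl)
  have e2 := congrArg β e
  rw [map_one, map_pow, map_list_prod, List.map_map,
    show (q.1.map ((β : Gru → Gru) ∘ fun a => xE ^ a * yE)) = q.1.map (fun a => β xE ^ a * β yE) from
      List.map_congr_left fun a _ => by simp [map_mul, map_pow]] at e2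
  have e3 := congrArg mat e2
  rw [rel_value hx hu] at e3
  have hval : relV X U q % 2 ^ 784 = idB := by
    refine matB_inj (Nat.mod_lt _ (by positivity)) (by decide +kernel) ?_
    rw [matB_mod784, e3, matB_id]
    rfl
  rw [hval, Nat.beq_refl] at hne
  exact absurd hne (by decide)

/-- **No outer automorphisms.** -/
theorem card_out : Nat.card (Cfsg.Out Gru) = 1 := by
  haveI : Finite Gru := Nat.finite_of_card_ne_zero (by rw [card_G]; norm_num)
  let F : Cfsg.Agent.Lie.OutCriterion.Frame Gru :=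
    { x := xE, n := nE, y := yE, p := 29, prime := by norm_num
      once := by rw [card_G]; norm_num
      order := order_x, r := 4, norm := norm_eq, gen := gen_xy, cosets := cosets, c := 2, d := 15
      c_inv := by norm_num
      classes := by decide +kernel
      shift := by decide +kernel }
  refine Cfsg.Agent.Lie.OutCriterion.card_eq_one F fun β hn hx => ?_
  change β nE = nE at hn
  change β xE = xE ∨ β xE = xE ^ 2 at hx
  show β xE = xE ∧ β yE = yE
  have hu : β yE * nE ^ 13 = nE * β yE := by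
    have e := congrArg β yrel
    rwa [map_mul, map_mul, map_pow, hn] at e
  obtain ⟨c, hc, hcu⟩ := candidates _ hu
  rcases hx with e | e
  · refine ⟨e, ?_⟩
    have h := List.all_eq_true.1 cand_one c hc
    rw [rels_hold (X := gen0) (by rw [e, xE_mat]) hcu, Bool.or_false] at h
    exact mat_inj (by rw [hcu, Nat.eq_of_beq_eq_true h, yE_mat])
  · have h := List.all_eq_true.1 cand_two c hc
    rw [rels_hold (X := powB gen0 2) (by rw [e, mat_pow, xE_mat, matB_powB]) hcu] at h
    exact absurd h (by decide)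

end Cfsg.Agent.Spor.RuOut
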