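import Cfsg.Agent.Lib.Spor.RuRankThirteen

/-!
The subgroups of index 2304 are the stabilisers of lines.
-/

set_option autoImplicit false
set_option maxRecDepth 100000
set_option linter.style.haveILetI false

namespace Cfsg.Agent.Spor.RuRank

open Cfsg.Agent.Spor.SuzUnique

attribute [local irreducible] g1 g2 jF uF hF hL xwF hhF

theorem norm_all {q : ℕ} (hq : q < 20480) : normOK q = true := by
  rcases (show q < 4096 ∨ (4096 ≤ q ∧ q < 8192) ∨ (8192 ≤ q ∧ q < 12288) ∨ (12288 ≤ q ∧ q < 16384) ∨ 16384 ≤ q by omega)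
    with h | h | h | h | h
  · exact List.all_eq_true.mp norm_ok0 q (List.mem_range'_1.2 ⟨Nat.zero_le _, by omega⟩)
  · exact List.all_eq_true.mp norm_ok1 q (List.mem_range'_1.2 ⟨h.1, by omega⟩)
  · exact List.all_eq_true.mp norm_ok2 q (List.mem_range'_1.2 ⟨h.1, by omega⟩)
  · exact List.all_eq_true.mp norm_ok3 q (List.mem_range'_1.2 ⟨h.1, by omega⟩)
  · exact List.all_eq_true.mp norm_ok4 q (List.mem_range'_1.2 ⟨h, by omega⟩)

theorem case_words (m : ℕ) : (∀ s ∈ (caseT.getD m (0, [], 0, [], [])).2.1, s < 6) ∧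
    ∀ s ∈ (caseT.getD m (0, [], 0, [], [])).2.2.2.1, s < 6 := by
  by_cases hm : m < caseT.length
  · have h := List.all_eq_true.mp words_lt.2 _ (List.getElem_mem hm)
    rw [Bool.and_eq_true] at h
    rw [List.getD_eq_getElem _ _ hm]
    exact ⟨fun s hs => blt_lt (List.all_eq_true.mp h.1 s hs), fun s hs => blt_lt (List.all_eq_true.mp h.2 s hs)⟩
  · rw [List.getD_eq_default _ _ (by omega)]
    simp

namespace Model

variable {X : Type} [Group X] (D : Model X)

theorem hh_pow_phi (k : ℕ) (j : Fin 1755) : (D.φ (D.hh ^ k) j : ℕ) = hPow k j := D.pow_phi D.hh_phi k j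

theorem hh_four : D.hh ^ 4 = 1 := by
  refine D.eq_of_b3 (D.hh_pow_phi 4) D.one_phi (List.all_eq_true.mpr fun b hb => ?_)
  exact List.all_eq_true.mp h_fix.2.2.2 b hb

theorem hh_order : orderOf D.hh = 4 := by
  refine orderOf_eq_prime_pow (p := 2) (n := 1) (fun h => ?_) D.hh_four
  rw [hh, ← pow_mul] at h
  have e : D.nel 78 = D.nel 0 := by rw [nel_eq, nel_eq]; simpa using h
  exact absurd (D.nel_inj (by norm_num) (by norm_num) e) (by norm_num)

theorem hh_zpowers {g : X} (hg : g ∈ Subgroup.zpowers D.hh) : ∃ k < 4, g = D.hh ^ k := by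
  haveI := D.finite
  obtain ⟨n, rfl⟩ := (mem_powers_iff_mem_zpowers (G := X) (x := D.hh)).2 hg
  exact ⟨n % 4, Nat.mod_lt _ (by norm_num), by rw [← D.hh_order, pow_mod_orderOf]⟩

/-- a conjugate of the element of order four by a normalising element -/
theorem hh_conj {g : X} (hg : g ∈ Subgroup.normalizer ((Subgroup.zpowers D.hh : Subgroup X) : Set X)) :
    g * D.hh = D.hh * g ∨ g * D.hh = D.hh * (D.hh * (D.hh * g)) := by
  obtain ⟨k, hk, e⟩ := D.hh_zpowers (mem_norm_zpowers hg)
  have ho : orderOf (g * D.hh * g⁻¹) = 4 := by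
    rw [← MulAut.conj_apply, MulEquiv.orderOf_eq, D.hh_order]
  rw [e] at ho
  have e' : g * D.hh = D.hh ^ k * g := by rw [← e]; group
  interval_cases k
  · rw [pow_zero, orderOf_one] at ho
    norm_num at ho
  · exact Or.inl (by rw [e', pow_one])
  · exfalso
    have h2 : (D.hh ^ 2) ^ 2 = 1 := by rw [← pow_mul]; exact D.hh_four
    have := orderOf_dvd_of_pow_eq_one h2
    rw [ho] at this
    norm_num at this
  · exact Or.inr (by rw [e', pow_succ, pow_two, mul_assoc, mul_assoc])

/-- the first fixed point -/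
def fp : Fin 1755 := D.φ (D.el cW) p0

theorem fp_val : (D.fp : ℕ) = hFix.getD 0 0 := (D.el_phi _ _).trans (Nat.eq_of_beq_eq_true h_fix.2.1)

theorem hh_fix {g : X} (hg : g ∈ Subgroup.normalizer ((Subgroup.zpowers D.hh : Subgroup X) : Set X)) :
    (D.φ g D.fp : ℕ) ∈ hFix := by
  have hf : D.φ D.hh D.fp = D.fp := Fin.ext (by
    have h : (D.fp : ℕ) ∈ hFix := by
      rw [D.fp_val, List.getD_eq_getElem _ _ (by decide +kernel)]
      exact List.getElem_mem _
    rw [← h_fix.1, List.mem_filter] at h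
    rw [hh_phi]
    exact Nat.eq_of_beq_eq_true h.2)
  obtain ⟨k, -, e⟩ := D.hh_zpowers (mem_norm_zpowers (inv_mem hg))
  rw [inv_inv] at e
  have hfix : D.φ D.hh (D.φ g D.fp) = D.φ g D.fp := by
    have e2 : D.hh * g = g * D.hh ^ k := by rw [← e]; group
    rw [← Equiv.Perm.mul_apply, ← map_mul, e2, map_mul, Equiv.Perm.mul_apply]
    congr 1
    have hs : D.hh ∈ D.J D.fp := hf
    exact pow_mem hs k
  rw [← h_fix.1, List.mem_filter, List.mem_range]
  refine ⟨(D.φ g D.fp).2, ?_⟩
  rw [Nat.beq_eq, ← D.hh_phi, hfix]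

/-- a case element -/
def ce (m : ℕ) : X := D.el (caseT.getD m (0, [], 0, [], [])).2.1

theorem cj_phi (q : ℕ) (j : Fin 1755) : (D.φ (D.el cW * D.jel q * (D.el cW)⁻¹) j : ℕ) = cjF q j := by
  rw [map_mul, map_mul, Equiv.Perm.mul_apply, Equiv.Perm.mul_apply]
  unfold cjF jel
  rw [el_phi, elW_img D.jk_phi, D.el_inv_phi (word_lt (by simp))]

/-- the normalising elements outside with square inside are among the cases -/
theorem norm_cases {g : X} (hg : g ∈ Subgroup.normalizer ((Subgroup.zpowers D.hh : Subgroup X) : Set X))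
    (hout : g ∉ Subgroup.zpowers D.hh) (hsq : g ^ 2 ∈ Subgroup.zpowers D.hh) :
    ∃ m < 7, ∃ k < 4, g = D.ce m * D.hh ^ k := by
  haveI := D.finite
  have hmem := D.hh_fix hg
  obtain ⟨y, hy, hye⟩ := List.mem_iff_getElem.1 hmem
  have hy3 : y < 3 := by
    have : hFix.length = 3 := by decide +kernel
    omega
  set r := D.el (rYW.getD y []) with hr
  have hrl : rYW.length = 3 := by decide +kernel
  have hrf : D.φ r D.fp = D.φ g D.fp := Fin.ext (by
    rw [hr, el_phi, D.fp_val, ← hye]
    have h := h_fix.2.2.1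
    rw [List.getD_eq_getElem _ _ (by omega)]
    conv_rhs => rw [List.getElem_of_eq h.symm]
    rw [List.getElem_map])
  have hrn : r ∈ Subgroup.normalizer ((Subgroup.zpowers D.hh : Subgroup X) : Set X) := by
    refine norm_zpowers ?_
    have h := List.all_eq_true.mp rY_norm (rYW.getD y []) (by
      rw [List.getD_eq_getElem _ _ (by omega)]; exact List.getElem_mem _)
    rw [Bool.or_eq_true] at h
    rcases h with h | h
    · rw [show r * D.hh = D.hh * r from
        D.eq_of_b3 (D.comp_phi (D.el_phi _) D.hh_phi) (D.comp_phi D.hh_phi (D.el_phi _)) h, mul_inv_cancel_right]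
      exact Subgroup.mem_zpowers _
    · rw [show r * D.hh = D.hh * (D.hh * (D.hh * r)) from D.eq_of_b3 (D.comp_phi (D.el_phi _) D.hh_phi)
        (D.comp_phi D.hh_phi (D.comp_phi D.hh_phi (D.comp_phi D.hh_phi (D.el_phi _)))) h,
        show D.hh * (D.hh * (D.hh * r)) * r⁻¹ = D.hh ^ 3 by
          rw [← mul_assoc, ← mul_assoc, mul_inv_cancel_right, pow_succ, pow_two]]
      exact Subgroup.npow_mem_zpowers _ _
  set g' := r⁻¹ * g with hg'
  have hg'n := mul_mem (inv_mem hrn) hg
  rw [← hg'] at hg'n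
  have hg'f : D.φ g' D.fp = D.fp := by
    rw [hg', map_mul, Equiv.Perm.mul_apply, ← hrf, map_inv, Equiv.Perm.inv_def, Equiv.symm_apply_apply]
  obtain ⟨q, hq, hqe⟩ := D.J_elem (g := (D.el cW)⁻¹ * g' * D.el cW) (by
    show D.φ _ p0 = p0
    rw [map_mul, map_mul, Equiv.Perm.mul_apply, Equiv.Perm.mul_apply,
      show D.φ (D.el cW) p0 = D.fp from rfl, hg'f, map_inv, Equiv.Perm.inv_def, Equiv.symm_apply_eq]
    rfl)
  have hg'e : g' = D.el cW * D.jel q * (D.el cW)⁻¹ := by rw [← hqe]; group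
  have hpass : cjPass q = true := by
    rw [cjPass, Bool.or_eq_true]
    rcases D.hh_conj hg'n with e | e
    · left
      rw [hg'e] at e
      exact (D.eq_iff_b3 (D.comp_phi (D.cj_phi q) D.hh_phi) (D.comp_phi D.hh_phi (D.cj_phi q))).2 e
    · right
      rw [hg'e] at e
      exact (D.eq_iff_b3 (D.comp_phi (D.cj_phi q) D.hh_phi)
        (D.comp_phi D.hh_phi (D.comp_phi D.hh_phi (D.comp_phi D.hh_phi (D.cj_phi q))))).2 e
  have hfin := norm_all hq
  rw [normOK, hpass, cond_true] at hfin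
  have h := List.all_eq_true.mp hfin y (List.mem_range.mpr hy3)
  have hge : g = r * (D.el cW * D.jel q * (D.el cW)⁻¹) := by rw [← hg'e, hg', mul_inv_cancel_left]
  have hgp : ∀ j : Fin 1755, (D.φ g j : ℕ) = (evW g1 (rYW.getD y []) ∘ cjF q) j := fun j => by
    rw [hge]; exact D.mul_phi (D.el_phi _) (D.cj_phi q) j
  simp only [finOK, Bool.or_eq_true, Bool.not_eq_true'] at h
  rcases h with (h | h) | h
  · obtain ⟨k, -, hk⟩ := List.any_eq_true.mp h
    exact absurd (D.eq_of_b3 hgp (D.hh_pow_phi k) hk ▸ Subgroup.npow_mem_zpowers _ _) hout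
  · exfalso
    obtain ⟨k, hk, e⟩ := D.hh_zpowers hsq
    have e' : g * g = D.hh ^ k := by rw [← pow_two, e]
    have hb := (D.eq_iff_b3 (D.comp_phi hgp hgp) (D.hh_pow_phi k)).2 e'
    exact Bool.false_ne_true (h.symm.trans (List.any_eq_true.mpr ⟨k, List.mem_range.mpr hk, hb⟩))
  · obtain ⟨m, hm, hm'⟩ := List.any_eq_true.mp h
    obtain ⟨k, hk, hk'⟩ := List.any_eq_true.mp hm'
    exact ⟨m, List.mem_range.mp hm, k, List.mem_range.mp hk,
      D.eq_of_b3 hgp (D.comp_phi (D.el_phi _) (D.hh_pow_phi k)) hk'⟩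

/-- the group of the given generators is the stabiliser of the first line -/
theorem hG_eq : Subgroup.closure (Set.range D.hk) = D.P l0 := by
  classical
  haveI := D.finite
  set A := Subgroup.closure (Set.range D.hk) with hA
  refine Subgroup.eq_of_le_of_card_ge ((Subgroup.closure_le _).2 (by rintro _ ⟨k, rfl⟩; exact D.hk_mem k)) ?_
  have hk : ∀ k, D.hk k ∈ A := fun k => Subgroup.subset_closure ⟨k, rfl⟩
  have hT := tree_all p1PtT_ok
  letI : MulAction A (Fin 1755) := MulAction.compHom _ (D.φ.comp A.subtype)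
  have hl : p1PtR.getD 0 0 < 1755 := by decide +kernel
  set a : Fin 1755 := ⟨p1PtR.getD 0 0, hl⟩ with ha
  have horb : 780 ≤ (MulAction.orbit A a).ncard := by
    rw [show 780 = ([780, 975] : List ℕ).getD 0 0 from rfl, ← p1Pt_sizes ⟨0, by norm_num⟩, ← Set.ncard_coe_finset]
    refine Set.ncard_le_ncard (fun y hy => ?_) (Set.toFinite _)
    rw [Finset.mem_coe, Finset.mem_filter] at hy
    obtain ⟨k, hk', r, hr, hkr⟩ := tree_reach hT hk D.hk_phi y
    rw [hy.2] at hr
    exact ⟨⟨k, hk'⟩, (show D.φ k a = y by rw [show a = r from Fin.ext hr.symm]; exact hkr)⟩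
  have h20 : 20 ≤ Nat.card (MulAction.stabilizer A a) := by
    have h := lv_le hk D.hk_phi p1Lv [p1PtR.getD 0 0] (lvFast_spec _ _ p1Lv_ok.1) fun l hl =>
      blt_lt (List.all_eq_true.mp p1Lv_ok.2.2 l hl)
    rw [p1Lv_ok.2.1] at h
    refine le_trans (le_trans (Nat.le_mul_of_pos_right _ ?_) h) ?_
    · exact (Set.ncard_pos (Set.toFinite _)).2 ⟨1, one_mem _, fun c _ => by rw [map_one]; rfl⟩
    · rw [← Nat.card_coe_set_eq]
      exact Nat.card_le_card_of_injective (fun x => ⟨⟨x.1, x.2.1⟩, x.2.2 a (by simp [ha])⟩)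
        fun x y e => Subtype.ext (congrArg (fun z : MulAction.stabilizer A a => z.1.1) e)
  rw [D.card_P, ← Subgroup.card_mul_index (MulAction.stabilizer A a), MulAction.index_stabilizer,
    show 15600 = 20 * 780 by norm_num]
  exact Nat.mul_le_mul h20 horb

theorem case_step {H : Subgroup X} (hH : Nat.card H = 15600) (hx : D.xw 0 ∈ H) (hh : D.hh ∈ H) {m : ℕ} (hm : m < 7)
    (hg : D.ce m ∈ H) : ∃ i, H = D.P i := by
  classical
  haveI := D.finite
  set e : ℕ → X := fun s => bif Nat.beq s 0 then D.xw 0 else bif Nat.beq s 1 then D.hh else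
    bif Nat.beq s 2 then D.ce m else 1 with he
  have hel : ∀ s, e s ∈ H := fun s => by
    simp only [he]
    cases Nat.beq s 0 <;> cases Nat.beq s 1 <;> cases Nat.beq s 2 <;>
      simp only [cond_true, cond_false] <;> first | assumption | exact one_mem H
  have hf : ∀ (s : ℕ) (j : Fin 1755), (D.φ (e s) j : ℕ) = cF m s j := fun s j => by
    simp only [he, cF]
    cases Nat.beq s 0 <;> cases Nat.beq s 1 <;> cases Nat.beq s 2 <;>
      simp only [cond_true, cond_false] <;>
      first | exact D.xw_phi 0 j | exact D.hh_phi j | exact D.el_phi _ j | (rw [map_one]; rfl)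
  have h := List.all_eq_true.mp case_ok m (List.mem_range.mpr hm)
  rw [caseOK] at h
  cases hc : Nat.beq (caseT.getD m (0, [], 0, [], [])).1 0 with
  | true =>
    exfalso
    simp only [hc, cond_true] at h
    have hT := tree_all h
    letI : MulAction H (Fin 1755) := MulAction.compHom _ (D.φ.comp H.subtype)
    haveI : MulAction.IsPretransitive H (Fin 1755) := by
      have hreach : ∀ q : Fin 1755, ∃ k : H, k • p0 = q := fun q => by
        obtain ⟨k, hk, r, hr, hkr⟩ := tree_reach hT hel hf q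
        have : r = p0 := Fin.ext (by
          rw [hr]
          have := tree_lab hT q
          simp only [List.length_singleton, Nat.lt_one_iff] at this
          rw [this]; rfl)
        exact ⟨⟨k, hk⟩, by rw [← hkr, this]; rfl⟩
      exact ⟨fun a b => by
        obtain ⟨x, rfl⟩ := hreach a
        obtain ⟨y, rfl⟩ := hreach b
        exact ⟨y * x⁻¹, by rw [mul_smul, inv_smul_smul]⟩⟩
    have h1 : 1755 ∣ Nat.card H := by
      have := Subgroup.index_dvd_card (MulAction.stabilizer H p0)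
      rwa [MulAction.index_stabilizer_of_transitive, Nat.card_fin] at this
    rw [hH] at h1
    norm_num at h1
  | false =>
    simp only [hc, cond_false, Bool.and_eq_true] at h
    obtain ⟨⟨hi, hmv⟩, hgen⟩ := h
    set mv := (caseT.getD m (0, [], 0, [], [])).2.2.2.1 with hmvd
    set i : Fin 2304 := ⟨_, blt_lt hi⟩ with hidef
    have hme : D.ψ (D.el mv) l0 = i := Fin.ext ((D.el_psi _ _).trans (Nat.eq_of_beq_eq_true hmv))
    have hle : ∀ g ∈ D.P l0, D.el mv * g * (D.el mv)⁻¹ ∈ H := by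
      intro g hgP
      rw [← D.hG_eq] at hgP
      induction hgP using Subgroup.closure_induction with
      | mem y hy =>
        obtain ⟨k, rfl⟩ := hy
        by_cases hk : k < 2
        · have hb := List.all_eq_true.mp hgen k (List.mem_range.mpr hk)
          have hval : ∀ j : Fin 1755, (D.φ (D.el mv * D.hk k * (D.el mv)⁻¹) j : ℕ) =
              (fun b => evW g1 mv (hF k (evW g1 (invW mv) b))) j := fun j => by
            rw [map_mul, map_mul, Equiv.Perm.mul_apply, Equiv.Perm.mul_apply, el_phi, hk_phi,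
              D.el_inv_phi (case_words m).2]
          have e' : elW e ((caseT.getD m (0, [], 0, [], [])).2.2.2.2.getD k []) = D.el mv * D.hk k * (D.el mv)⁻¹ :=
            D.eq_of_b3 (elW_img hf _) hval hb
          rw [← e']
          exact elW_mem hel _
        · have h1 : hsW.length = 2 := by decide +kernel
          rw [show D.hk k = 1 by unfold Model.hk; rw [List.getD_eq_default _ _ (by omega)]; rfl, mul_one,
            mul_inv_cancel]
          exact one_mem H
      | one => rw [mul_one, mul_inv_cancel]; exact one_mem H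
      | mul a b _ _ ha hb =>
        rw [show D.el mv * (a * b) * (D.el mv)⁻¹ = D.el mv * a * (D.el mv)⁻¹ * (D.el mv * b * (D.el mv)⁻¹) by group]
        exact mul_mem ha hb
      | inv a _ ha =>
        rw [show D.el mv * a⁻¹ * (D.el mv)⁻¹ = (D.el mv * a * (D.el mv)⁻¹)⁻¹ by group]
        exact inv_mem ha
    refine ⟨i, (Subgroup.eq_of_le_of_card_ge (fun g hg' => ?_) (by rw [hH, D.card_P])).symm⟩
    have := hle ((D.el mv)⁻¹ * g * D.el mv) (by
      rw [mem_P, map_mul, map_mul, Equiv.Perm.mul_apply, Equiv.Perm.mul_apply, hme, show D.ψ g i = i from hg',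
        map_inv, Equiv.Perm.inv_def, Equiv.symm_apply_eq]
      exact hme.symm)
    rwa [show D.el mv * ((D.el mv)⁻¹ * g * D.el mv) * (D.el mv)⁻¹ = g by group] at this

theorem index2304_of_x {H : Subgroup X} (hH : Nat.card H = 15600) (hx : D.xw 0 ∈ H) : ∃ i, H = D.P i := by
  haveI := D.finite
  haveI : Fact (Nat.Prime 2) := ⟨Nat.prime_two⟩
  have hh := D.hh_mem hH hx
  set Z : Subgroup H := Subgroup.zpowers ⟨D.hh, hh⟩ with hZ
  have hZc : Nat.card Z = 2 ^ 2 := by
    rw [hZ, Nat.card_zpowers, ← Subgroup.orderOf_coe, D.hh_order]; norm_num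
  obtain ⟨K, hK, hZK⟩ := Sylow.exists_subgroup_card_pow_succ (p := 2) (n := 2) (by rw [hH]; norm_num) hZc
  have hidx : (Z.subgroupOf K).index = 2 := by
    have h := (Z.subgroupOf K).card_mul_index
    rw [Nat.card_congr (Subgroup.subgroupOfEquivOfLe hZK).toEquiv, hZc, hK] at h
    omega
  obtain ⟨g, hgK, hgZ⟩ : ∃ g ∈ K, g ∉ Z := by
    by_contra hne
    push Not at hne
    have := Subgroup.card_le_of_le (show K ≤ Z from hne)
    rw [hK, hZc] at this
    norm_num at this
  haveI := Subgroup.normal_of_index_eq_two hidx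
  have hzmem : ∀ z : H, z ∈ Z → (z : X) ∈ Subgroup.zpowers D.hh := fun z hz => by
    obtain ⟨n, hn⟩ := Subgroup.mem_zpowers_iff.1 hz
    exact Subgroup.mem_zpowers_iff.2 ⟨n, congrArg (Subtype.val : H → X) hn⟩
  have hn : (g : X) ∈ Subgroup.normalizer ((Subgroup.zpowers D.hh : Subgroup X) : Set X) := by
    refine norm_zpowers ?_
    have h := Subgroup.Normal.conj_mem (H := Z.subgroupOf K) inferInstance
      ⟨⟨D.hh, hh⟩, hZK (Subgroup.mem_zpowers _)⟩ (Subgroup.mem_zpowers _) ⟨g, hgK⟩
    exact hzmem _ (Subgroup.mem_subgroupOf.1 h)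
  have hsq : (g : X) ^ 2 ∈ Subgroup.zpowers D.hh :=
    hzmem (g ^ 2) (Subgroup.mem_subgroupOf.1 (Subgroup.sq_mem_of_index_two hidx (⟨g, hgK⟩ : K)))
  have hout : (g : X) ∉ Subgroup.zpowers D.hh := fun h => by
    obtain ⟨n, hn'⟩ := Subgroup.mem_zpowers_iff.1 h
    exact hgZ (Subgroup.mem_zpowers_iff.2 ⟨n, Subtype.ext hn'⟩)
  obtain ⟨m, hm, k, -, e⟩ := D.norm_cases hn hout hsq
  refine D.case_step hH hx hh hm ?_
  rw [show D.ce m = (g : X) * (D.hh ^ k)⁻¹ by rw [e, mul_inv_cancel_right]]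
  exact mul_mem g.2 (inv_mem (pow_mem hh k))

theorem index2304 (H : Subgroup X) (hH : H.index = 2304) : ∃ i, H = D.P i := by
  haveI := D.finite
  haveI : Fact (Nat.Prime 13) := ⟨by norm_num⟩
  have hc : Nat.card H = 15600 := by
    have h := H.card_mul_index
    rw [hH, D.card] at h
    omega
  obtain ⟨y, hy⟩ := exists_prime_orderOf_dvd_card' (G := H) 13 (by rw [hc]; norm_num)
  have h13 : (Nat.card X).factorization 13 = 1 := by
    rw [D.card, show (35942400 : ℕ) = 13 ^ 1 * 2764800 by norm_num,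
      Nat.factorization_mul (by norm_num) (by norm_num), Finsupp.add_apply,
      (show Nat.Prime 13 by norm_num).factorization_pow, Finsupp.single_eq_same,
      Nat.factorization_eq_zero_of_not_dvd (by norm_num : ¬13 ∣ 2764800)]
  let P1 : Sylow 13 X := Sylow.ofCard (Subgroup.zpowers (y : X))
    (by rw [Nat.card_zpowers, Subgroup.orderOf_coe, hy, h13, pow_one])
  let P0 : Sylow 13 X := Sylow.ofCard (Subgroup.zpowers (D.xw 0)) (by rw [Nat.card_zpowers, D.x_order, h13, pow_one])
  obtain ⟨g, hg⟩ := MulAction.exists_smul_eq X P0 P1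
  have e := congrArg (fun P : Sylow 13 X => (P : Subgroup X)) hg
  simp only [P0, P1, Sylow.coe_subgroup_smul, Sylow.coe_ofCard] at e
  have hx : D.xw 0 ∈ H.comap (MulAut.conj g).toMonoidHom := by
    rw [Subgroup.mem_comap]
    have h1 : g * D.xw 0 * g⁻¹ ∈ Subgroup.zpowers (y : X) := by
      rw [← e, Subgroup.mem_pointwise_smul_iff_inv_smul_mem]
      show (MulAut.conj g)⁻¹ (g * D.xw 0 * g⁻¹) ∈ _
      rw [MulAut.conj_inv_apply]
      simp [mul_assoc]
    exact (Subgroup.zpowers_le.2 y.2) h1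
  obtain ⟨i, hi⟩ := D.index2304_of_x (H := H.comap (MulAut.conj g).toMonoidHom) (by
      rw [← hc]
      exact Nat.card_congr ((MulAut.conj g).toEquiv.subtypeEquiv fun x => Iff.rfl)) hx
  refine ⟨D.ψ g i, ?_⟩
  ext z
  have h := SetLike.ext_iff.1 hi (g⁻¹ * z * g)
  rw [Subgroup.mem_comap] at h
  simp only [MulEquiv.coe_toMonoidHom, MulAut.conj_apply] at h
  rw [show g * (g⁻¹ * z * g) * g⁻¹ = z by group] at h
  rw [h, mem_P, mem_P, map_mul, map_mul, map_inv, Equiv.Perm.mul_apply, Equiv.Perm.mul_apply, Equiv.Perm.inv_def,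
    Equiv.symm_apply_eq]

end Model

end Cfsg.Agent.Spor.RuRank
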