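import Cfsg.Agent.Lib.Spor.RuRankTools
import Cfsg.Agent.Lib.Spor.RuRankData
import Cfsg.Agent.Lib.Spor.RuGroup

/-!
Kernel checks for the uniqueness of the Rudvalis group as a rank three group.
-/

set_option autoImplicit false
set_option maxRecDepth 100000
set_option Elab.async false

namespace Cfsg.Agent.Spor.RuRank

open Cfsg.Agent.Spor.SuzUnique (evW nfW treeOK tLab lvSize)
open Cfsg.Agent.Spor.CC (fld)
open Cfsg.Agent.Spor.RuCert (mulB kgenN rVec srtOK)

/-- a table of permutations of the points, the identity beyond -/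
def tab1 (P : List ℕ) (s j : ℕ) : ℕ := bif Nat.blt s P.length then fld (P.getD s 0) 11 j else j
/-- a table of permutations of the lines, the identity beyond -/
def tab2 (P : List ℕ) (s j : ℕ) : ℕ := bif Nat.blt s P.length then fld (P.getD s 0) 12 j else j

/-- a generator on the points -/
def g1 (s j : ℕ) : ℕ := bif Nat.blt s 6 then fld (kP.getD s 0) 11 j else j
/-- a generator on the lines -/
def g2 (s i : ℕ) : ℕ := bif Nat.blt s 6 then fld (kL.getD s 0) 12 i else i
/-- a point among the 4060 -/
def pI (j : ℕ) : ℕ := fld idxP 12 j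
/-- a line among the 4060 -/
def lI (i : ℕ) : ℕ := fld idxL 12 i

/-- the base -/
def b3 : List ℕ := [0, 1, 2]

/-- generators of the stabiliser of the first point -/
def jF (k j : ℕ) : ℕ := tab1 jP k j
/-- generators of the two group -/
def uF (k j : ℕ) : ℕ := bif Nat.blt k 12 then jF k j else j
/-- generators of the stabiliser of the first line on points -/
def hF (k j : ℕ) : ℕ := tab1 hsP k j
/-- generators of the stabiliser of the first line on lines -/
def hL (k i : ℕ) : ℕ := tab2 hsL k i
/-- the element of order thirteen and the normalising one -/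
def xwF (k j : ℕ) : ℕ := tab1 xwP k j
/-- the element of order four -/
def hhF (j : ℕ) : ℕ := xwF 1 (xwF 1 (xwF 1 j))

/-- moves on vectors agree with the tables -/
noncomputable def moveP (s : ℕ) (j : ℕ) : Bool :=
  Nat.blt (g1 s j) 1755 && Nat.beq (mulB (kgenN s) (rVec (pI j))) (rVec (pI (g1 s j)))

/-- moves on vectors agree with the tables -/
noncomputable def moveL (s : ℕ) (i : ℕ) : Bool :=
  Nat.blt (g2 s i) 2304 && Nat.beq (mulB (kgenN s) (rVec (lI i))) (rVec (lI (g2 s i)))

theorem moveP0 : ((List.range 1755).all (moveP 0)) = true := by decide +kernel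
theorem moveP1 : ((List.range 1755).all (moveP 1)) = true := by decide +kernel
theorem moveP2 : ((List.range 1755).all (moveP 2)) = true := by decide +kernel
theorem moveL0 : ((List.range 2304).all (moveL 0)) = true := by decide +kernel
theorem moveL1 : ((List.range 2304).all (moveL 1)) = true := by decide +kernel
theorem moveL2 : ((List.range 2304).all (moveL 2)) = true := by decide +kernel

/-- the indices are in range and distinct -/
def idxOK (f : ℕ → ℕ) (j : ℕ) : Bool := Nat.blt (f j) 4060 && Nat.beq (fld idxInv 12 (f j)) j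

theorem idxP_ok : ((List.range 1755).all (idxOK pI)) = true := by decide +kernel
theorem idxL_ok : ((List.range 2304).all (idxOK lI)) = true := by decide +kernel

/-- the last three generators are the inverses -/
def invOK (n : ℕ) (g : ℕ → ℕ → ℕ) : Bool :=
  (List.range n).all fun j => (List.range 3).all fun s =>
    Nat.beq (g (s + 3) (g s j)) j && Nat.beq (g s (g (s + 3) j)) j && Nat.blt (g (s + 3) j) n

theorem g1_inv : invOK 1755 g1 = true := by decide +kernel
theorem g2_inv : invOK 2304 g2 = true := by decide +kernel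

/-- tables agree with words -/
def tabOK (n : ℕ) (t : ℕ → ℕ → ℕ) (len : ℕ) (f : ℕ → ℕ → ℕ) (W : List (List ℕ)) : Bool :=
  Nat.beq W.length len && (List.range len).all fun s => (List.range n).all fun j =>
    Nat.beq (t s j) (evW f (W.getD s []) j)

theorem jP_ok : tabOK 1755 jF 13 g1 jW = true ∧ jP.length = 13 := by decide +kernel
theorem hsP_ok : tabOK 1755 hF 2 g1 hsW = true ∧ hsP.length = 2 := by decide +kernel
theorem hsL_ok : tabOK 2304 hL 2 g2 hsW = true ∧ hsL.length = 2 := by decide +kernel
theorem xwP_ok : tabOK 1755 xwF 2 g1 [xW, wW] = true ∧ xwP.length = 2 := by decide +kernel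

theorem words_lt : ((jW ++ hsW ++ [xW, wW, cW] ++ rYW ++ jPtW ++ p1LineW ++ baseW).all fun w =>
    w.all fun s => Nat.blt s 6) = true ∧
    (caseT.all fun q => (q.2.1.all fun s => Nat.blt s 6) && q.2.2.2.1.all fun s => Nat.blt s 6) = true := by
  decide +kernel

theorem fixes : ((List.range 13).all fun k => Nat.beq (jF k 0) 0) = true ∧
    ((List.range 2).all fun k => Nat.beq (hL k 0) 0) = true ∧ Nat.beq (evW g2 xW 0) 0 = true := by decide +kernel

/-! ### trees -/

theorem ptT_ok : treeOK 1755 g1 [0] ptT 0 1755 = true := by decide +kernel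
theorem lineT_ok : treeOK 2304 g2 [0] lineT 0 2304 = true := by decide +kernel
theorem jPtT_ok : treeOK 1755 jF jPtR jPtT 0 1755 = true := by decide +kernel
theorem uPtT_ok : treeOK 1755 uF uPtR uPtT 0 1755 = true := by decide +kernel
theorem p1PtT_ok : treeOK 1755 hF p1PtR p1PtT 0 1755 = true := by decide +kernel
theorem p1LineT_ok : treeOK 2304 hL p1LineR p1LineT 0 2304 = true := by decide +kernel

theorem roots : jPtR.length = 5 ∧ jPtR.getD 0 1 = 0 ∧ uPtR.length = 8 ∧ uPtR.getD 0 1 = 0 ∧ p1PtR.length = 2 ∧
    p1LineR.length = 6 ∧ p1LineR.getD 0 1 = 0 ∧ p1LineW.map (fun w => evW g2 w 0) = p1LineR ∧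
    jPtW.map (fun w => evW g1 w 0) = jPtR := by decide +kernel

theorem jPt_sizes : ∀ l : Fin [1, 10, 80, 640, 1024].length,
    (Finset.univ.filter fun x : Fin 1755 => tLab jPtT x = l).card = [1, 10, 80, 640, 1024].getD l 0 := by decide +kernel

theorem uPt_sizes : ∀ l : Fin [1, 2, 8, 16, 64, 128, 512, 1024].length,
    (Finset.univ.filter fun x : Fin 1755 => tLab uPtT x = l).card = [1, 2, 8, 16, 64, 128, 512, 1024].getD l 0 := by
  decide +kernel

theorem p1Pt_sizes : ∀ l : Fin [780, 975].length,
    (Finset.univ.filter fun x : Fin 1755 => tLab p1PtT x = l).card = [780, 975].getD l 0 := by decide +kernel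

theorem p1Line_sizes : ∀ l : Fin [1, 78, 300, 300, 650, 975].length,
    (Finset.univ.filter fun x : Fin 2304 => tLab p1LineT x = l).card = [1, 78, 300, 300, 650, 975].getD l 0 := by
  decide +kernel

theorem j_sums : ∀ S ∈ (Finset.range 5).powerset, 0 ∉ S →
    195 * (1754 - ∑ l ∈ S, [1, 10, 80, 640, 1024].getD l 0) % 256 = 0 →
      S = {1, 2, 3} ∨ (∑ l ∈ S, [1, 10, 80, 640, 1024].getD l 0) = 1754 := by decide +kernel

theorem u_sums : ∀ S ∈ (Finset.range 8).powerset, 0 ∈ S →
    (∑ l ∈ S, [1, 2, 8, 16, 64, 128, 512, 1024].getD l 0) ≠ 5 := by decide +kernel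

theorem p1_sums : (∀ S ∈ (Finset.range 2).powerset, (∑ l ∈ S, [780, 975].getD l 0) = 780 → S = {0}) ∧
    (∀ S ∈ (Finset.range 6).powerset, 0 ∉ S → (∑ l ∈ S, [1, 78, 300, 300, 650, 975].getD l 0) = 975 → S = {5}) := by
  decide +kernel

theorem p1_moved : ((List.range' 1 5).all fun l =>
    Nat.blt (p1Moved.getD (l - 1) 0) 1755 && Nat.beq (tLab p1PtT (p1Moved.getD (l - 1) 0)) 0 &&
      !(Nat.beq (tLab p1PtT (evW g1 (p1LineW.getD l []) (p1Moved.getD (l - 1) 0))) 0)) = true := by decide +kernel

/-! ### transversals -/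

theorem jLv_ok : lvFast jF jLv [] = true ∧ lvSize jLv = 20480 ∧ (jLv.all fun l => Nat.blt l.1 1755) = true ∧
    (jLv.map Prod.fst).all (fun b => b3.contains b) = true := by
  decide +kernel

theorem p1Lv_ok : lvFast hF p1Lv [p1PtR.getD 0 0] = true ∧ lvSize p1Lv = 20 ∧
    (p1Lv.all fun l => Nat.blt l.1 1755) = true := by decide +kernel

/-! ### the two group and its supplement -/

/-- an element of the two group -/
def nfF (a j : ℕ) : ℕ := evW uF (nfW 12 a) j

/-- relations of the series -/
def serOK (k : ℕ) : Bool :=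
  Nat.blt (uSq.getD k 0) (2 ^ k) && (b3.all fun b => Nat.beq (uF k (uF k b)) (evW uF (nfW k (uSq.getD k 0)) b)) &&
    (List.range k).all fun i => Nat.blt ((uCj.getD k []).getD i 0) (2 ^ k) &&
      b3.all fun b => Nat.beq (uF k (uF i b)) (evW uF (nfW k ((uCj.getD k []).getD i 0)) (uF k b))

theorem ser_ok : ((List.range 12).all serOK) = true := by decide +kernel

/-- a new generator -/
def serNew (k : ℕ) : Bool :=
  (List.range (2 ^ k)).all fun a => b3.any fun b => !(Nat.beq (uF k b) (evW uF (nfW k a) b))

theorem ser_new : ((List.range 12).all serNew) = true := by decide +kernel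

theorem v_five : (b3.all fun b => Nat.beq (evW jF [12, 12, 12, 12, 12] b) b) = true ∧
    (b3.any fun b => !(Nat.beq (jF 12 b) b)) = true := by decide +kernel

/-! ### order thirteen -/

theorem xw_rel : (b3.all fun b => Nat.beq (evW xwF (List.replicate 13 0) b) b &&
      Nat.beq (evW xwF (List.replicate 12 1) b) b && Nat.beq (xwF 1 (xwF 0 b)) (xwF 0 (xwF 0 (xwF 1 b)))) = true ∧
    (b3.any fun b => !(Nat.beq (xwF 0 b) b)) = true := by decide +kernel

/-- the image of the base -/
def key3 (f : ℕ → ℕ) : List ℕ := b3.map f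

/-- an element of the normaliser -/
def nW (i j : ℕ) : List ℕ := List.replicate i 0 ++ List.replicate j 1

theorem n_distinct : ((List.range 156).map fun q => key3 (evW xwF (nW (q % 13) (q / 13)))).Nodup := by decide +kernel

theorem n_power : ((List.range 156).all fun q => Nat.beq (q / 13 % 3) 0 ||
    b3.any fun b => !(Nat.beq ((List.range 52).foldl (fun u _ => evW xwF (nW (q % 13) (q / 13)) u) b) b)) = true := by
  decide +kernel

theorem x_lines : ((List.range 2304).filter fun i => Nat.beq (evW g2 xW i) i) = xLines ∧ xLines.length = 3 := by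
  decide +kernel

/-- a conjugate of the element of order thirteen -/
def xcF (k j : ℕ) : ℕ := evW hF (xConjW.getD k []) (xwF 0 (evW g1 (invW ((xConjW.getD k []).flatMap fun i => hsW.getD i [])) j))

/-- two conjugates do not commute -/
def xcOK (k : ℕ) : Bool :=
  (List.range k).all fun i => b3.any fun b => !(Nat.beq (xcF k (xcF i b)) (xcF i (xcF k b)))

theorem xc_ok : ((List.range 41).all xcOK) = true := by decide +kernel

/-! ### the normaliser of the element of order four -/

theorem h_fix : ((List.range 1755).filter fun j => Nat.beq (hhF j) j) = hFix ∧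
    Nat.beq (evW g1 cW 0) (hFix.getD 0 0) = true ∧
    rYW.map (fun w => evW g1 w (hFix.getD 0 0)) = hFix ∧ (b3.all fun b => Nat.beq (hhF (hhF (hhF (hhF b)))) b) = true := by
  decide +kernel

theorem rY_norm : (rYW.all fun w =>
    (b3.all fun b => Nat.beq (evW g1 w (hhF b)) (hhF (evW g1 w b))) ||
    (b3.all fun b => Nat.beq (evW g1 w (hhF b)) (hhF (hhF (hhF (evW g1 w b)))))) = true := by decide +kernel

/-- an element fixing the fixed point -/
def cjF (q j : ℕ) : ℕ :=
  evW g1 cW (evW jF (List.replicate (q / 4096) 12 ++ nfW 12 (q % 4096)) (evW g1 (invW cW) j))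

/-- it normalises the group of order four -/
def cjPass (q : ℕ) : Bool :=
  (b3.all fun b => Nat.beq (cjF q (hhF b)) (hhF (cjF q b))) ||
  (b3.all fun b => Nat.beq (cjF q (hhF b)) (hhF (hhF (hhF (cjF q b)))))

/-- a power of the element of order four -/
def hPow (k j : ℕ) : ℕ := (List.range k).foldl (fun u _ => hhF u) j

/-- a normalising element outside the group of order four with square inside is one of the cases -/
def finOK (y q : ℕ) : Bool :=
  (List.range 4).any (fun k => b3.all fun b => Nat.beq (evW g1 (rYW.getD y []) (cjF q b)) (hPow k b)) ||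
  !((List.range 4).any fun k => b3.all fun b =>
      Nat.beq (evW g1 (rYW.getD y []) (cjF q (evW g1 (rYW.getD y []) (cjF q b)))) (hPow k b)) ||
  (List.range 7).any fun m => (List.range 4).any fun k => b3.all fun b =>
    Nat.beq (evW g1 (rYW.getD y []) (cjF q b)) (evW g1 (caseT.getD m (0, [], 0, [], [])).2.1 (hPow k b))

/-- all elements -/
def normOK (q : ℕ) : Bool := bif cjPass q then (List.range 3).all fun y => finOK y q else true

theorem norm_ok0 : ((List.range' 0 4096).all normOK) = true := by decide +kernel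
theorem norm_ok1 : ((List.range' 4096 4096).all normOK) = true := by decide +kernel
theorem norm_ok2 : ((List.range' 8192 4096).all normOK) = true := by decide +kernel
theorem norm_ok3 : ((List.range' 12288 4096).all normOK) = true := by decide +kernel
theorem norm_ok4 : ((List.range' 16384 4096).all normOK) = true := by decide +kernel

/-- generators of the group of a case -/
def cF (m s j : ℕ) : ℕ :=
  bif Nat.beq s 0 then xwF 0 j else bif Nat.beq s 1 then hhF j else
    bif Nat.beq s 2 then evW g1 (caseT.getD m (0, [], 0, [], [])).2.1 j else j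

/-- a certificate -/
def caseOK (m : ℕ) : Bool :=
  (fun c : ℕ × List ℕ × ℕ × List ℕ × List (List ℕ) =>
    bif Nat.beq c.1 0 then treeOK 1755 (cF m) [0] (badT.getD m 0) 0 1755
    else Nat.blt c.2.2.1 2304 && Nat.beq (evW g2 c.2.2.2.1 0) c.2.2.1 &&
      (List.range 2).all fun k => b3.all fun b => Nat.beq (evW (cF m) (c.2.2.2.2.getD k []) b)
        (evW g1 c.2.2.2.1 (hF k (evW g1 (invW c.2.2.2.1) b)))) (caseT.getD m (0, [], 0, [], []))

theorem case_ok : ((List.range 7).all caseOK) = true := by decide +kernel

end Cfsg.Agent.Spor.RuRank
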