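import Cfsg.Agent.Lib.Spor.RuRankChecks
import Cfsg.Agent.Lib.Lie.TitsMult.Code

/-!
Further kernel checks for the uniqueness of the Rudvalis group as a rank three group.
-/

set_option autoImplicit false
set_option maxRecDepth 100000
set_option Elab.async false

namespace Cfsg.Agent.Spor.RuRank

open Cfsg.Agent.Spor.SuzUnique (evW nfW treeOK tLab lvSize)
open Cfsg.Agent.Spor.CC (fld)
open Cfsg.Agent.Spor.RuCert (mulB kgenN rVec srtOK)

/-! ### the graph on the suborbit -/

/-- the label seen from a base vertex -/
def labB (k v : ℕ) : ℕ := fld (baseN.getD k 0) 4 v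

/-- a row -/
def rowOK (k : ℕ) : Bool :=
  Nat.beq (evW g1 (baseW.getD k []) 0) (baseV.getD k 0) &&
    (List.range 1755).all fun j => Nat.beq (labB k (evW g1 (baseW.getD k []) j)) (tLab jPtT j)

theorem row_ok : ((List.range 30).all rowOK) = true := by decide +kernel

/-- labels of neighbours -/
def nearB (l : ℕ) : Bool := Nat.blt 0 l && Nat.blt l 4

/-- common neighbours of the first point and a root -/
def cnN (l : ℕ) : ℕ :=
  ((List.range 1755).filter fun x => nearB (tLab jPtT x) && nearB (tLab jPtT (evW g1 (invW (jPtW.getD l [])) x))).length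

theorem cn_ok : ((List.range 5).map cnN) = cnT ∧ cnT.Nodup := by decide +kernel

/-- the pattern of a point -/
def pattN (v : ℕ) : ℕ := (List.range 30).foldr (fun k acc => 16 * acc + labB k v) 0

theorem base_patt : ((List.range 1755).all (srtOK pattN (fun i => fld pSrt 11 i) (fun i => fld pRank 11 i) 1755)) = true := by
  decide +kernel

/-- candidates for a base image -/
def candsN (i : ℕ) : List ℕ :=
  (List.range 1755).filter fun v => (List.range i).all fun k => Nat.beq (labB k v) (labB k (baseV.getD i 0))

theorem base_counts : baseV.length = 30 ∧ (baseV.all fun b => Nat.blt b 1755) = true ∧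
    ((List.range 30).all fun i => Nat.ble (candsN i).length (baseC.getD i 0)) = true ∧
    ((List.range 30).map fun i => baseC.getD i 0).prod = 41405644800 := by decide +kernel

/-! ### the twisted group -/

open Cfsg.Agent.Lie.F4Two (app naM ncM)

/-- a vector of the orbit -/
def gVec (j : ℕ) : ℕ := fld gVecs 52 j
/-- a generator of the twisted group on the orbit -/
def gtF (s j : ℕ) : ℕ := tab1 gtP s j

theorem g_sort : ((List.range 1755).all (srtOK gVec (fun i => fld gSrt 11 i) (fun i => fld gRank 11 i) 1755)) = true := by
  decide +kernel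

/-- the matrices of the four generators -/
noncomputable def gtM : List (List ℕ) := [Cfsg.Agent.Lie.F4Two.wT [33, 24], Cfsg.Agent.Lie.F4Two.wT [14, 23],
  Cfsg.Agent.Lie.F4Two.wT [27, 25, 28], Cfsg.Agent.Lie.F4Two.wT [20, 22, 19]]

/-- moves of the orbit -/
noncomputable def moveG (A : List ℕ) (P : ℕ) : Bool :=
  (List.range 1755).all fun j => Nat.blt (fld P 11 j) 1755 && Nat.beq (app A (gVec j)) (gVec (fld P 11 j))

theorem moveG_ok : gtP.length = 4 ∧ ((List.range 4).all fun s => moveG (gtM.getD s []) (gtP.getD s 0)) = true := by
  decide +kernel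

theorem k_words : ((List.range 3).all fun s => (List.range 1755).all fun j =>
    Nat.beq (evW gtF (kW.getD s []) j) (g1 s j)) = true := by decide +kernel

end Cfsg.Agent.Spor.RuRank
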