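import Cfsg.Agent.Lib.Spor.RuRankModel

/-!
The subgroups of index 1755 are the stabilisers of points: they contain a Sylow two group, whose orbits
leave no room for an orbit of five points.
-/

set_option autoImplicit false
set_option maxRecDepth 100000
set_option linter.style.haveILetI false

namespace Cfsg.Agent.Spor.RuRank

open Cfsg.Agent.Spor.SuzUnique

attribute [local irreducible] g1 g2 jF uF hF hL xwF

namespace Model

variable {X : Type} [Group X] (D : Model X)

include D in
theorem fact_two : (Nat.card X).factorization 2 = 12 := by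
  rw [D.card, show (35942400 : ℕ) = 2 ^ 12 * 8775 by norm_num,
    Nat.factorization_mul (by norm_num) (by norm_num), Finsupp.add_apply, Nat.prime_two.factorization_pow,
    Finsupp.single_eq_same, Nat.factorization_eq_zero_of_not_dvd (by norm_num : ¬2 ∣ 8775)]

theorem index1755_of_U {H : Subgroup X} (hH : Nat.card H = 20480) (hU : D.U ≤ H) : H = D.J p0 := by
  classical
  haveI := D.finite
  letI : MulAction H (Fin 1755) := MulAction.compHom _ (D.φ.comp H.subtype)
  let O : Finset (Fin 1755) := (MulAction.orbit H p0).toFinite.toFinset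
  have hmem : ∀ y, y ∈ O ↔ y ∈ MulAction.orbit H p0 := fun y => Set.Finite.mem_toFinset _
  have hT := tree_all uPtT_ok
  obtain ⟨S, hS, hlab⟩ := exists_labels hT (H := D.U) D.u_U D.u_phi O (fun g hg y hy => by
    rw [hmem] at hy ⊢
    obtain ⟨k, rfl⟩ := hy
    exact ⟨⟨g, hU hg⟩ * k, mul_smul (⟨g, hU hg⟩ : H) k p0⟩)
  rw [roots.2.2.1] at hS
  have hcard := card_labels hlab uPt_sizes fun l hl => by
    simpa using Finset.mem_range.1 (Finset.mem_powerset.1 hS hl)
  have h0 : 0 ∈ S := by
    have hp : tLab uPtT p0 = 0 := by decide +kernel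
    exact hp ▸ (hlab p0).1 ((hmem _).2 (MulAction.mem_orbit_self _))
  have hO : O.card = (MulAction.orbit H p0).ncard := (Set.ncard_eq_toFinset_card _ _).symm
  have hdvd : O.card ∣ 5 := by
    have hle : Nat.card D.U ∣ Nat.card (MulAction.stabilizer H p0) := by
      let f : D.U →* MulAction.stabilizer H p0 := MonoidHom.mk' (fun g => ⟨⟨g, hU g.2⟩, D.U_le_J g.2⟩)
        fun a b => rfl
      exact Subgroup.card_dvd_of_injective f fun a b e =>
        Subtype.ext (congrArg (fun z : MulAction.stabilizer H p0 => ((z : H) : X)) e)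
    have h := Subgroup.card_mul_index (MulAction.stabilizer H p0)
    rw [MulAction.index_stabilizer, ← hO, hH] at h
    obtain ⟨c, hc⟩ := hle
    rw [D.U_facts.1] at hc
    rw [hc] at h
    exact ⟨c, by
      have : 4096 * (c * O.card) = 4096 * 5 := by rw [← mul_assoc, h]
      rw [mul_comm]
      exact (Nat.eq_of_mul_eq_mul_left (by norm_num) this).symm⟩
  have h5 : O.card ≠ 5 := hcard ▸ u_sums S hS h0
  have h1 : O.card = 1 := ((Nat.dvd_prime (by norm_num)).1 hdvd).resolve_right h5
  refine Subgroup.eq_of_le_of_card_ge (fun g hg => ?_) (by rw [D.card_J, hH])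
  obtain ⟨a, ha⟩ := Finset.card_eq_one.1 h1
  have e1 := (hmem _).2 (⟨⟨g, hg⟩, rfl⟩ : (⟨g, hg⟩ : H) • p0 ∈ MulAction.orbit H p0)
  have e2 := (hmem _).2 (MulAction.mem_orbit_self (M := H) p0)
  rw [ha, Finset.mem_singleton] at e1 e2
  show D.φ g p0 = p0
  exact (show D.φ g p0 = a from e1).trans e2.symm

theorem index1755 (H : Subgroup X) (hH : H.index = 1755) : ∃ q, H = D.J q := by
  haveI := D.finite
  haveI : Fact (Nat.Prime 2) := ⟨Nat.prime_two⟩
  have hc : Nat.card H = 20480 := by
    have h := H.card_mul_index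
    rw [hH, D.card] at h
    omega
  obtain ⟨S, hS⟩ := Sylow.exists_subgroup_card_pow_prime 2 (G := H) (n := 12) (by rw [hc]; norm_num)
  let P1 : Sylow 2 X := Sylow.ofCard (S.map H.subtype) (by
    rw [Subgroup.card_map_of_injective H.subtype_injective, hS, D.fact_two])
  let P0 : Sylow 2 X := Sylow.ofCard D.U (by rw [D.U_facts.1, D.fact_two]; norm_num)
  obtain ⟨g, hg⟩ := MulAction.exists_smul_eq X P0 P1
  have hle : D.U.map (MulAut.conj g).toMonoidHom ≤ H := by
    have e := congrArg (fun P : Sylow 2 X => (P : Subgroup X)) hg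
    simp only [P0, P1, Sylow.coe_subgroup_smul, Sylow.coe_ofCard] at e
    intro y hy
    obtain ⟨z, hz, rfl⟩ := hy
    have : g * z * g⁻¹ ∈ S.map H.subtype := by
      rw [← e, Subgroup.mem_pointwise_smul_iff_inv_smul_mem]
      show (MulAut.conj g)⁻¹ (g * z * g⁻¹) ∈ D.U
      rw [MulAut.conj_inv_apply]
      simpa [mul_assoc] using hz
    obtain ⟨w, -, hw⟩ := this
    show g * z * g⁻¹ ∈ H
    rw [← hw]
    exact w.2
  have key := D.index1755_of_U (H := H.comap (MulAut.conj g).toMonoidHom)
    (by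
      rw [← hc]
      exact Nat.card_congr ((MulAut.conj g).toEquiv.subtypeEquiv fun x => Iff.rfl))
    (fun z hz => hle ⟨z, hz, rfl⟩)
  refine ⟨D.φ g p0, ?_⟩
  ext y
  have h := SetLike.ext_iff.1 key (g⁻¹ * y * g)
  rw [Subgroup.mem_comap] at h
  simp only [MulEquiv.coe_toMonoidHom, MulAut.conj_apply] at h
  rw [show g * (g⁻¹ * y * g) * g⁻¹ = y by group] at h
  rw [h, mem_J, mem_J, map_mul, map_mul, map_inv, Equiv.Perm.mul_apply, Equiv.Perm.mul_apply, Equiv.Perm.inv_def,
    Equiv.symm_apply_eq]

end Model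

end Cfsg.Agent.Spor.RuRank
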