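import Cfsg.Agent.Lib.Spor.RuRankChecks

/-!
The point stabiliser of the Rudvalis group acting on 1755 points and on 2304 lines: the stabilisers of
a point and of a line, and the Sylow two group.
-/

set_option autoImplicit false
set_option maxRecDepth 100000
set_option linter.style.haveILetI false

namespace Cfsg.Agent.Spor.RuRank

open Cfsg.Agent.Spor.SuzUnique

attribute [local irreducible] g1 g2 jF uF hF hL xwF

/-- a group acting on points and lines by the given tables -/
structure Model (X : Type) [Group X] where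
  /-- the action on the points -/
  φ : X →* Equiv.Perm (Fin 1755)
  /-- the action on the lines -/
  ψ : X →* Equiv.Perm (Fin 2304)
  /-- the generators -/
  gen : ℕ → X
  inv : ∀ s < 6, gen s * gen ((s + 3) % 6) = 1
  gen_phi : ∀ (s : ℕ) (j : Fin 1755), (φ (gen s) j : ℕ) = g1 s j
  gen_psi : ∀ (s : ℕ) (i : Fin 2304), (ψ (gen s) i : ℕ) = g2 s i
  card : Nat.card X = 35942400

theorem blt_lt {a b : ℕ} (h : Nat.blt a b = true) : a < b := by rwa [Nat.blt_eq] at h

theorem lt_blt {a b : ℕ} (h : a < b) : Nat.blt a b = true := by rwa [Nat.blt_eq]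

theorem b3_lt : ∀ b ∈ b3, b < 1755 := by decide

theorem tabOK_spec {n len : ℕ} {t f : ℕ → ℕ → ℕ} {W : List (List ℕ)} (h : tabOK n t len f W = true) :
    W.length = len ∧ ∀ s < len, ∀ j < n, t s j = evW f (W.getD s []) j := by
  simp only [tabOK, Bool.and_eq_true, List.all_eq_true, List.mem_range, Nat.beq_eq] at h
  exact h

theorem tab1_out {P : List ℕ} {s : ℕ} (h : P.length ≤ s) (j : ℕ) : tab1 P s j = j := by
  rw [tab1, show Nat.blt s P.length = false from Bool.eq_false_iff.2 fun c => by have := blt_lt c; omega, cond_false]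

theorem tab2_out {P : List ℕ} {s : ℕ} (h : P.length ≤ s) (j : ℕ) : tab2 P s j = j := by
  rw [tab2, show Nat.blt s P.length = false from Bool.eq_false_iff.2 fun c => by have := blt_lt c; omega, cond_false]

theorem jF_eq (k : ℕ) (j : Fin 1755) : jF k j = evW g1 (jW.getD k []) j := by
  obtain ⟨hl, h⟩ := tabOK_spec jP_ok.1
  by_cases hk : k < 13
  · exact h k hk j j.2
  · rw [List.getD_eq_default _ _ (by omega)]
    unfold jF
    exact tab1_out (by rw [jP_ok.2]; omega) _

theorem hF_eq (k : ℕ) (j : Fin 1755) : hF k j = evW g1 (hsW.getD k []) j := by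
  obtain ⟨hl, h⟩ := tabOK_spec hsP_ok.1
  by_cases hk : k < 2
  · exact h k hk j j.2
  · rw [List.getD_eq_default _ _ (by omega)]
    unfold hF
    exact tab1_out (by rw [hsP_ok.2]; omega) _

theorem hL_eq (k : ℕ) (i : Fin 2304) : hL k i = evW g2 (hsW.getD k []) i := by
  obtain ⟨hl, h⟩ := tabOK_spec hsL_ok.1
  by_cases hk : k < 2
  · exact h k hk i i.2
  · rw [List.getD_eq_default _ _ (by omega)]
    unfold hL
    exact tab2_out (by rw [hsL_ok.2]; omega) _

theorem xwF_eq (k : ℕ) (j : Fin 1755) : xwF k j = evW g1 (([xW, wW] : List (List ℕ)).getD k []) j := by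
  obtain ⟨hl, h⟩ := tabOK_spec xwP_ok.1
  by_cases hk : k < 2
  · exact h k hk j j.2
  · rw [List.getD_eq_default _ _ (by omega)]
    unfold xwF
    exact tab1_out (by rw [xwP_ok.2]; omega) _

theorem word_lt {w : List ℕ} (h : w ∈ jW ++ hsW ++ [xW, wW, cW] ++ rYW ++ jPtW ++ p1LineW ++ baseW) : ∀ s ∈ w, s < 6 :=
  fun s hs => blt_lt (List.all_eq_true.mp (List.all_eq_true.mp words_lt.1 w h) s hs)

theorem getD_lt {W : List (List ℕ)} (h : ∀ w ∈ W, ∀ s ∈ w, s < 6) (k : ℕ) : ∀ s ∈ W.getD k [], s < 6 := by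
  by_cases hk : k < W.length
  · rw [List.getD_eq_getElem _ _ hk]; exact h _ (List.getElem_mem _)
  · rw [List.getD_eq_default _ _ (by omega)]; simp

theorem tree_all {m : ℕ} {f : ℕ → ℕ → ℕ} {root : List ℕ} {T : ℕ} (h : treeOK m f root T 0 m = true) :
    ∀ x < m, tStep m f root T x = true := fun x hx => tree_spec h (Nat.zero_le _) (by omega)

/-- the first point -/
abbrev p0 : Fin 1755 := ⟨0, by norm_num⟩
/-- the first line -/
abbrev l0 : Fin 2304 := ⟨0, by norm_num⟩

namespace Model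

variable {X : Type} [Group X] (D : Model X)

/-- the value of a word -/
def el (w : List ℕ) : X := elW D.gen w

theorem el_phi (w : List ℕ) (j : Fin 1755) : (D.φ (D.el w) j : ℕ) = evW g1 w j := elW_img D.gen_phi w j

theorem el_psi (w : List ℕ) (i : Fin 2304) : (D.ψ (D.el w) i : ℕ) = evW g2 w i := elW_img D.gen_psi w i

theorem el_inv {w : List ℕ} (hw : ∀ s ∈ w, s < 6) : D.el (invW w) = (D.el w)⁻¹ := elW_invW D.inv w hw

theorem el_inv_phi {w : List ℕ} (hw : ∀ s ∈ w, s < 6) (j : Fin 1755) : (D.φ (D.el w)⁻¹ j : ℕ) = evW g1 (invW w) j := by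
  rw [← D.el_inv hw, el_phi]

theorem el_inv_psi {w : List ℕ} (hw : ∀ s ∈ w, s < 6) (i : Fin 2304) : (D.ψ (D.el w)⁻¹ i : ℕ) = evW g2 (invW w) i := by
  rw [← D.el_inv hw, el_psi]

theorem el_flat {W : List (List ℕ)} : ∀ w : List ℕ,
    elW (fun k => D.el (W.getD k [])) w = D.el (w.flatMap fun i => W.getD i [])
  | [] => rfl
  | s :: w => by
    rw [List.flatMap_cons, el, elW_append, elW_cons, el_flat w]
    rfl

/-- generators of the stabiliser of the first point -/
def jk (k : ℕ) : X := D.el (jW.getD k [])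
/-- generators of the two group -/
def u (k : ℕ) : X := bif Nat.blt k 12 then D.jk k else 1
/-- generators of the stabiliser of the first line -/
def hk (k : ℕ) : X := D.el (hsW.getD k [])

theorem jk_phi (k : ℕ) (j : Fin 1755) : (D.φ (D.jk k) j : ℕ) = jF k j := (D.el_phi _ j).trans (jF_eq k j).symm

theorem u_phi (k : ℕ) (j : Fin 1755) : (D.φ (D.u k) j : ℕ) = uF k j := by
  unfold u uF
  cases Nat.blt k 12 with
  | true => exact D.jk_phi k j
  | false => rw [cond_false, cond_false, map_one]; rfl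

theorem hk_phi (k : ℕ) (j : Fin 1755) : (D.φ (D.hk k) j : ℕ) = hF k j := (D.el_phi _ j).trans (hF_eq k j).symm

theorem hk_psi (k : ℕ) (i : Fin 2304) : (D.ψ (D.hk k) i : ℕ) = hL k i := (D.el_psi _ i).trans (hL_eq k i).symm

/-- the stabiliser of a line -/
def P (i : Fin 2304) : Subgroup X := (MulAction.stabilizer (Equiv.Perm (Fin 2304)) i).comap D.ψ

theorem mem_P {g : X} {i : Fin 2304} : g ∈ D.P i ↔ D.ψ g i = i := Iff.rfl

/-- the stabiliser of a point -/
def J (q : Fin 1755) : Subgroup X := (MulAction.stabilizer (Equiv.Perm (Fin 1755)) q).comap D.φ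

theorem mem_J {g : X} {q : Fin 1755} : g ∈ D.J q ↔ D.φ g q = q := Iff.rfl

theorem point_trans (q : Fin 1755) : ∃ g : X, D.φ g p0 = q := by
  have hT := tree_all ptT_ok
  obtain ⟨k, -, r, hr, hk⟩ := tree_reach hT (H := ⊤) (fun _ => trivial) D.gen_phi q
  refine ⟨k, ?_⟩
  have : r = p0 := Fin.ext (by
    rw [hr]
    have := tree_lab hT q
    simp only [List.length_singleton, Nat.lt_one_iff] at this
    rw [this]; rfl)
  rwa [this] at hk

theorem line_trans (i : Fin 2304) : ∃ g : X, D.ψ g l0 = i := by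
  have hT := tree_all lineT_ok
  obtain ⟨k, -, r, hr, hk⟩ := tree_reach hT (H := ⊤) (fun _ => trivial) D.gen_psi i
  refine ⟨k, ?_⟩
  have : r = l0 := Fin.ext (by
    rw [hr]
    have := tree_lab hT i
    simp only [List.length_singleton, Nat.lt_one_iff] at this
    rw [this]; rfl)
  rwa [this] at hk

include D in
theorem finite : Finite X := Nat.finite_of_card_ne_zero (by rw [D.card]; norm_num)

theorem card_P (i : Fin 2304) : Nat.card (D.P i) = 15600 := by
  haveI := D.finite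
  letI : MulAction X (Fin 2304) := MulAction.compHom _ D.ψ
  haveI : MulAction.IsPretransitive X (Fin 2304) := ⟨fun a b => by
    obtain ⟨g, hg⟩ := D.line_trans a
    obtain ⟨h, hh⟩ := D.line_trans b
    refine ⟨h * g⁻¹, ?_⟩
    show D.ψ (h * g⁻¹) a = b
    rw [map_mul, map_inv, Equiv.Perm.mul_apply, ← hg, Equiv.Perm.inv_def, Equiv.symm_apply_apply, hh]⟩
  have h := Subgroup.card_mul_index (MulAction.stabilizer X i)
  rw [MulAction.index_stabilizer_of_transitive, Nat.card_fin, D.card] at h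
  show Nat.card (MulAction.stabilizer X i) = _
  omega

theorem card_J (q : Fin 1755) : Nat.card (D.J q) = 20480 := by
  haveI := D.finite
  letI : MulAction X (Fin 1755) := MulAction.compHom _ D.φ
  haveI : MulAction.IsPretransitive X (Fin 1755) := ⟨fun a b => by
    obtain ⟨g, hg⟩ := D.point_trans a
    obtain ⟨h, hh⟩ := D.point_trans b
    refine ⟨h * g⁻¹, ?_⟩
    show D.φ (h * g⁻¹) a = b
    rw [map_mul, map_inv, Equiv.Perm.mul_apply, ← hg, Equiv.Perm.inv_def, Equiv.symm_apply_apply, hh]⟩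
  have h := Subgroup.card_mul_index (MulAction.stabilizer X q)
  rw [MulAction.index_stabilizer_of_transitive, Nat.card_fin, D.card] at h
  show Nat.card (MulAction.stabilizer X q) = _
  omega

theorem jk_mem (k : ℕ) : D.jk k ∈ D.J p0 := by
  refine Fin.ext ((D.jk_phi k p0).trans ?_)
  by_cases hk : k < 13
  · exact Nat.eq_of_beq_eq_true (List.all_eq_true.mp fixes.1 k (List.mem_range.mpr hk))
  · unfold jF
    exact tab1_out (by rw [jP_ok.2]; omega) _

theorem u_mem (k : ℕ) : D.u k ∈ D.J p0 := by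
  unfold u
  cases Nat.blt k 12 with
  | true => exact D.jk_mem k
  | false => exact one_mem _

theorem hk_mem (k : ℕ) : D.hk k ∈ D.P l0 := by
  refine Fin.ext ((D.hk_psi k l0).trans ?_)
  by_cases hk : k < 2
  · exact Nat.eq_of_beq_eq_true (List.all_eq_true.mp fixes.2.1 k (List.mem_range.mpr hk))
  · unfold hL
    exact tab2_out (by rw [hsL_ok.2]; omega) _

/-- elements fixing the base are trivial -/
theorem fix_base {g : X} (hg : ∀ c : Fin 1755, (c : ℕ) ∈ b3 → D.φ g c = c) : g = 1 := by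
  haveI := D.finite
  have h := lv_le D.jk_mem D.jk_phi jLv [] (lvFast_spec _ _ jLv_ok.1) fun l hl =>
    blt_lt (List.all_eq_true.mp jLv_ok.2.2.1 l hl)
  rw [jLv_ok.2.1, List.nil_append] at h
  have hS : (fixIn D.φ (D.J p0) []).ncard ≤ 20480 := by
    rw [← D.card_J p0, ← Nat.card_coe_set_eq]
    exact Nat.card_le_card_of_injective (fun x => ⟨x.1, x.2.1⟩) fun x y q => Subtype.ext (congrArg Subtype.val q :)
  have h1 : (fixIn D.φ (D.J p0) (jLv.map Prod.fst)).ncard ≤ 1 :=
    Nat.le_of_mul_le_mul_left (by rw [mul_one]; exact h.trans hS) (by norm_num : 0 < 20480)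
  refine (Set.ncard_le_one (Set.toFinite _)).1 h1 g ⟨hg p0 (by decide), fun c hc => hg c ?_⟩ 1
    ⟨one_mem _, fun c _ => by rw [map_one]; rfl⟩
  exact List.contains_iff_mem.mp (List.all_eq_true.mp jLv_ok.2.2.2 _ hc)

theorem phi_inj : Function.Injective D.φ := by
  refine (injective_iff_map_eq_one D.φ).2 fun g hg => D.fix_base fun c _ => ?_
  rw [hg]; rfl

/-- two elements agreeing on the base are equal -/
theorem eq_of_b3 {x y : X} {f f' : ℕ → ℕ} (hx : ∀ j : Fin 1755, (D.φ x j : ℕ) = f j)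
    (hy : ∀ j : Fin 1755, (D.φ y j : ℕ) = f' j) (h : b3.all (fun b => Nat.beq (f b) (f' b)) = true) : x = y := by
  refine ((inv_mul_eq_one (a := y) (b := x)).1 (D.fix_base fun c hc => ?_)).symm
  have e : D.φ x c = D.φ y c := Fin.ext (by
    rw [hx, hy]; exact Nat.eq_of_beq_eq_true (List.all_eq_true.mp h c hc))
  rw [map_mul, map_inv, Equiv.Perm.mul_apply, e, Equiv.Perm.inv_def, Equiv.symm_apply_apply]

/-- two elements differing on the base are different -/
theorem ne_of_b3 {x y : X} {f f' : ℕ → ℕ} (hx : ∀ j : Fin 1755, (D.φ x j : ℕ) = f j)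
    (hy : ∀ j : Fin 1755, (D.φ y j : ℕ) = f' j) (h : b3.any (fun b => !(Nat.beq (f b) (f' b))) = true) : x ≠ y := by
  obtain ⟨b, hb, h⟩ := List.any_eq_true.mp h
  rintro rfl
  rw [← (hx ⟨b, b3_lt b hb⟩).symm.trans (hy ⟨b, b3_lt b hb⟩), Nat.beq_refl] at h
  exact Bool.false_ne_true h

/-- agreement on the base, as an equivalence -/
theorem eq_iff_b3 {x y : X} {f f' : ℕ → ℕ} (hx : ∀ j : Fin 1755, (D.φ x j : ℕ) = f j)
    (hy : ∀ j : Fin 1755, (D.φ y j : ℕ) = f' j) : b3.all (fun b => Nat.beq (f b) (f' b)) = true ↔ x = y := by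
  refine ⟨D.eq_of_b3 hx hy, fun e => List.all_eq_true.mpr fun b hb => ?_⟩
  rw [Nat.beq_eq, ← hx ⟨b, b3_lt b hb⟩, ← hy ⟨b, b3_lt b hb⟩, e]

theorem one_phi (j : Fin 1755) : (D.φ 1 j : ℕ) = id (j : ℕ) := by rw [map_one]; rfl

theorem mul_phi {x y : X} {f f' : ℕ → ℕ} (hx : ∀ j : Fin 1755, (D.φ x j : ℕ) = f j)
    (hy : ∀ j : Fin 1755, (D.φ y j : ℕ) = f' j) (j : Fin 1755) : (D.φ (x * y) j : ℕ) = f (f' j) := by
  rw [map_mul, Equiv.Perm.mul_apply, hx, hy]

theorem pow_phi {x : X} {f : ℕ → ℕ} (hx : ∀ j : Fin 1755, (D.φ x j : ℕ) = f j) :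
    ∀ (n : ℕ) (j : Fin 1755), (D.φ (x ^ n) j : ℕ) = (List.range n).foldl (fun u _ => f u) j
  | 0, j => by rw [pow_zero, map_one]; rfl
  | n + 1, j => by
    rw [pow_succ', map_mul, Equiv.Perm.mul_apply, hx, pow_phi hx n, List.range_succ, List.foldl_append]
    rfl

/-! ### the two group -/

theorem nf_phi (k a : ℕ) (j : Fin 1755) : (D.φ (elW D.u (nfW k a)) j : ℕ) = evW uF (nfW k a) j := elW_img D.u_phi _ j

theorem ser_hyp : (∀ k < 12, D.u k * D.u k ∈ serG D.u k) ∧
    (∀ k < 12, ∀ i < k, D.u k * D.u i * (D.u k)⁻¹ ∈ serG D.u k) ∧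
    ∀ k < 12, ∀ a < 2 ^ k, D.u k ≠ elW D.u (nfW k a) := by
  refine ⟨fun k hk => ?_, fun k hk i hi => ?_, fun k hk a ha => ?_⟩
  · have h := List.all_eq_true.mp ser_ok k (List.mem_range.mpr hk)
    simp only [serOK, Bool.and_eq_true] at h
    rw [D.eq_of_b3 (D.mul_phi (D.u_phi k) (D.u_phi k)) (D.nf_phi k _) h.1.2]
    exact nf_mem _ _ _
  · have h := List.all_eq_true.mp ser_ok k (List.mem_range.mpr hk)
    simp only [serOK, Bool.and_eq_true] at h
    have h' := List.all_eq_true.mp h.2 i (List.mem_range.mpr hi)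
    simp only [Bool.and_eq_true] at h'
    rw [mul_inv_eq_of_eq_mul (D.eq_of_b3 (D.mul_phi (D.u_phi k) (D.u_phi i))
      (D.mul_phi (D.nf_phi k _) (D.u_phi k)) h'.2)]
    exact nf_mem _ _ _
  · exact D.ne_of_b3 (D.u_phi k) (D.nf_phi k a)
      (List.all_eq_true.mp (List.all_eq_true.mp ser_new k (List.mem_range.mpr hk)) a (List.mem_range.mpr ha))

/-- the Sylow two group -/
def U : Subgroup X := serG D.u 12

theorem U_facts : Nat.card D.U = 4096 ∧ ∀ x ∈ D.U, ∃ a < 4096, x = elW D.u (nfW 12 a) :=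
  haveI := D.finite
  series D.ser_hyp.1 D.ser_hyp.2.1 D.ser_hyp.2.2 12 le_rfl

theorem u_U (k : ℕ) : D.u k ∈ D.U := by
  by_cases hk : k < 12
  · exact gen_serG _ hk
  · rw [u, show Nat.blt k 12 = false from Bool.eq_false_iff.2 fun c => hk (blt_lt c), cond_false]
    exact one_mem _

theorem U_le_J : D.U ≤ D.J p0 := (Subgroup.closure_le _).2 fun x hx => by
  obtain ⟨k, -, rfl⟩ := hx
  exact D.u_mem k

theorem u_eq_jk {w : List ℕ} (h : ∀ i ∈ w, i < 12) : elW D.u w = elW D.jk w := by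
  unfold elW
  refine congrArg List.prod (List.map_congr_left fun i hi => ?_)
  rw [u, lt_blt (h i hi), cond_true]

/-- the elements of the stabiliser of the first point -/
def jel (q : ℕ) : X := elW D.jk (List.replicate (q / 4096) 12 ++ nfW 12 (q % 4096))

theorem v_order : orderOf (D.jk 12) = 5 := by
  haveI : Fact (Nat.Prime 5) := ⟨by norm_num⟩
  refine orderOf_eq_prime ?_ ?_
  · have e : D.jk 12 ^ 5 = elW D.jk [12, 12, 12, 12, 12] := by
      simp [elW, pow_succ, pow_zero, mul_assoc]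
    rw [e]
    exact D.eq_of_b3 (elW_img D.jk_phi _) D.one_phi v_five.1
  · exact D.ne_of_b3 (D.jk_phi 12) D.one_phi v_five.2

theorem J_elem {g : X} (hg : g ∈ D.J p0) : ∃ q < 20480, g = D.jel q := by
  haveI := D.finite
  let m : Fin 5 × D.U → D.J p0 := fun p =>
    ⟨D.jk 12 ^ (p.1 : ℕ) * p.2.1, mul_mem (pow_mem (D.jk_mem 12) _) (D.U_le_J p.2.2)⟩
  have hU : ∀ n : ℕ, D.jk 12 ^ n ∈ D.U → 5 ∣ n := fun n hn => by
    have h1 := Subgroup.orderOf_dvd_natCard D.U hn
    rw [D.U_facts.1] at h1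
    have h2 : orderOf (D.jk 12 ^ n) ∣ 5 := D.v_order ▸ orderOf_pow_dvd n
    have h3 : orderOf (D.jk 12 ^ n) = 1 :=
      Nat.dvd_one.1 ((Nat.dvd_gcd h1 h2).trans (by norm_num))
    rw [← D.v_order]
    exact orderOf_dvd_of_pow_eq_one (orderOf_eq_one_iff.1 h3)
  have hinj : Function.Injective m := by
    rintro ⟨r, x⟩ ⟨s, y⟩ e
    have e' : D.jk 12 ^ (r : ℕ) * x.1 = D.jk 12 ^ (s : ℕ) * y.1 := congrArg Subtype.val e
    obtain rfl : r = s := by
      wlog hle : (r : ℕ) ≤ s generalizing r s x y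
      · exact (this s y r x e.symm e'.symm (by omega)).symm
      have h := hU ((s : ℕ) - r) (by
        have : D.jk 12 ^ ((s : ℕ) - r) = x.1 * y.1⁻¹ := by
          rw [eq_mul_inv_iff_mul_eq]
          refine mul_left_cancel (a := D.jk 12 ^ (r : ℕ)) ?_
          rw [← mul_assoc, ← pow_add, show (r : ℕ) + (s - r) = s by omega, e']
        rw [this]
        exact mul_mem x.2 (inv_mem y.2))
      apply Fin.ext
      have := s.2
      omega
    exact Prod.ext rfl (Subtype.ext (mul_left_cancel e'))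
  have hbij : Function.Bijective m := (Nat.bijective_iff_injective_and_card m).2 ⟨hinj, by
    rw [Nat.card_prod, Nat.card_fin, D.U_facts.1, D.card_J]⟩
  obtain ⟨⟨r, x, hx⟩, e⟩ := hbij.2 ⟨g, hg⟩
  obtain ⟨a, ha, rfl⟩ := D.U_facts.2 x hx
  refine ⟨4096 * r + a, by have := r.2; omega, ?_⟩
  rw [← show D.jk 12 ^ (r : ℕ) * elW D.u (nfW 12 a) = g from congrArg Subtype.val e, jel,
    show (4096 * (r : ℕ) + a) / 4096 = r by omega, show (4096 * (r : ℕ) + a) % 4096 = a by omega, elW_append,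
    ← D.u_eq_jk (w := nfW 12 a) (fun i hi => List.mem_range.mp (List.mem_filter.mp hi).1)]
  simp [elW]

end Model

end Cfsg.Agent.Spor.RuRank
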