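import Cfsg.Agent.Lib.Spor.RuRankMain

/-!
The point stabiliser inside the Rudvalis group and the setting of its action on 4060 points.
-/

set_option autoImplicit false
set_option maxRecDepth 100000
set_option linter.style.haveILetI false

noncomputable section

namespace Cfsg.Agent.Spor.RuRank

open Cfsg.Agent.Spor.CC (fld)
open Cfsg.Agent.Spor.RuCert (G28 Gru Kru kgenN matB vecB rVec mulB mulB_vec InB)
open Matrix

theorem kru_gen_exists (s : ℕ) (hs : s < 3) : ∃ g : Kru, ((g : G28) : Matrix (Fin 28) (Fin 28) (ZMod 2)) = matB (kgenN s) := by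
  obtain ⟨g, hg, e⟩ := RuCert.kgen_in hs
  exact ⟨⟨g, hg⟩, e⟩

/-- a generator of the point stabiliser -/
def kEl (s : ℕ) : Kru := if h : s < 3 then (kru_gen_exists s h).choose else 1

theorem kEl_val {s : ℕ} (hs : s < 3) : ((kEl s : G28) : Matrix (Fin 28) (Fin 28) (ZMod 2)) = matB (kgenN s) := by
  rw [kEl, dif_pos hs]
  exact (kru_gen_exists s hs).choose_spec

/-- the generators with their inverses -/
def kgen (s : ℕ) : Kru := if s < 3 then kEl s else if s < 6 then (kEl (s - 3))⁻¹ else 1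

theorem kgen_inv : ∀ s < 6, kgen s * kgen ((s + 3) % 6) = 1 := by
  intro s hs
  interval_cases s <;> simp [kgen]

instance : Finite Kru := Nat.finite_of_card_ne_zero (by rw [RuCert.card_K]; norm_num)

theorem kEl_top : Subgroup.closure (kEl '' {s | s < 3}) = ⊤ := by
  apply Subgroup.map_injective Kru.subtype_injective
  rw [MonoidHom.map_closure, ← MonoidHom.range_eq_map, Subgroup.range_subtype]
  refine le_antisymm ((Subgroup.closure_le _).2 ?_) ((Subgroup.closure_le _).2 ?_)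
  · rintro _ ⟨x, -, rfl⟩; exact x.2
  · rintro g ⟨k, hk, e⟩
    exact Subgroup.subset_closure ⟨kEl k, ⟨k, hk, rfl⟩, Units.ext ((kEl_val hk).trans e.symm)⟩

/-- the action of the stabiliser on vectors -/
def kAct (g : Kru) (v : Fin 28 → ZMod 2) : Fin 28 → ZMod 2 := (g : G28).1 *ᵥ v

theorem kAct_one (v : Fin 28 → ZMod 2) : kAct 1 v = v := by simp [kAct]

theorem kAct_mul (x y : Kru) (v : Fin 28 → ZMod 2) : kAct (x * y) v = kAct x (kAct y v) := by
  simp [kAct, Matrix.mulVec_mulVec]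

/-- a point as a vector -/
def pV (j : Fin 1755) : Fin 28 → ZMod 2 := vecB (rVec (pI j))
/-- a line as a vector -/
def lV (i : Fin 2304) : Fin 28 → ZMod 2 := vecB (rVec (lI i))

theorem pI_lt {j : ℕ} (hj : j < 1755) : pI j < 4060 ∧ fld idxInv 12 (pI j) = j := by
  have h := List.all_eq_true.mp idxP_ok j (List.mem_range.mpr hj)
  simp only [idxOK, Bool.and_eq_true] at h
  exact ⟨blt_lt h.1, Nat.eq_of_beq_eq_true h.2⟩

theorem lI_lt {j : ℕ} (hj : j < 2304) : lI j < 4060 ∧ fld idxInv 12 (lI j) = j := by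
  have h := List.all_eq_true.mp idxL_ok j (List.mem_range.mpr hj)
  simp only [idxOK, Bool.and_eq_true] at h
  exact ⟨blt_lt h.1, Nat.eq_of_beq_eq_true h.2⟩

theorem pV_inj : Function.Injective pV := fun i j e => Fin.ext (by
  rw [← (pI_lt i.2).2, RuCert.rvec_uniq (pI_lt i.2).1 (pI_lt j.2).1 e, (pI_lt j.2).2])

theorem lV_inj : Function.Injective lV := fun i j e => Fin.ext (by
  rw [← (lI_lt i.2).2, RuCert.rvec_uniq (lI_lt i.2).1 (lI_lt j.2).1 e, (lI_lt j.2).2])

theorem point_move {s : ℕ} (hs : s < 3) (j : Fin 1755) :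
    ∃ k : Fin 1755, (k : ℕ) = g1 s j ∧ kAct (kEl s) (pV j) = pV k := by
  have h : moveP s j = true := by
    interval_cases s
    exacts [List.all_eq_true.mp moveP0 j (List.mem_range.mpr j.2), List.all_eq_true.mp moveP1 j (List.mem_range.mpr j.2),
      List.all_eq_true.mp moveP2 j (List.mem_range.mpr j.2)]
  simp only [moveP, Bool.and_eq_true] at h
  refine ⟨⟨_, blt_lt h.1⟩, rfl, ?_⟩
  rw [kAct, show (kEl s : G28).1 = _ from kEl_val hs, pV, ← mulB_vec]
  exact congrArg vecB (Nat.eq_of_beq_eq_true h.2)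

theorem line_move {s : ℕ} (hs : s < 3) (j : Fin 2304) :
    ∃ k : Fin 2304, (k : ℕ) = g2 s j ∧ kAct (kEl s) (lV j) = lV k := by
  have h : moveL s j = true := by
    interval_cases s
    exacts [List.all_eq_true.mp moveL0 j (List.mem_range.mpr j.2), List.all_eq_true.mp moveL1 j (List.mem_range.mpr j.2),
      List.all_eq_true.mp moveL2 j (List.mem_range.mpr j.2)]
  simp only [moveL, Bool.and_eq_true] at h
  refine ⟨⟨_, blt_lt h.1⟩, rfl, ?_⟩
  rw [kAct, show (kEl s : G28).1 = _ from kEl_val hs, lV, ← mulB_vec]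
  exact congrArg vecB (Nat.eq_of_beq_eq_true h.2)

theorem exists_phi : ∃ ρ : Kru →* Equiv.Perm (Fin 1755), ∀ (h : Kru) (j : Fin 1755), kAct h (pV j) = pV (ρ h j) := by
  refine exists_perm_hom kEl_top kAct kAct_one kAct_mul pV pV_inj ?_
  rintro _ ⟨s, hs, rfl⟩ j
  obtain ⟨k, -, hk⟩ := point_move hs j
  exact ⟨k, hk⟩

theorem exists_psi : ∃ ρ : Kru →* Equiv.Perm (Fin 2304), ∀ (h : Kru) (j : Fin 2304), kAct h (lV j) = lV (ρ h j) := by
  refine exists_perm_hom kEl_top kAct kAct_one kAct_mul lV lV_inj ?_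
  rintro _ ⟨s, hs, rfl⟩ j
  obtain ⟨k, -, hk⟩ := line_move hs j
  exact ⟨k, hk⟩

theorem table_gen {n : ℕ} (ρ : Kru →* Equiv.Perm (Fin n)) (g : ℕ → ℕ → ℕ) (hinv : invOK n g = true)
    (hbase : ∀ s < 3, ∀ j : Fin n, (ρ (kEl s) j : ℕ) = g s j) (hout : ∀ s, ¬ s < 6 → ∀ j, g s j = j)
    (s : ℕ) (j : Fin n) : (ρ (kgen s) j : ℕ) = g s j := by
  unfold kgen
  by_cases h3 : s < 3
  · rw [if_pos h3, hbase s h3]
  by_cases h6 : s < 6
  · rw [if_neg h3, if_pos h6, map_inv, Equiv.Perm.inv_def]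
    have hh : ∀ t < n, ∀ r < 3, g r (g (r + 3) t) = t ∧ g (r + 3) t < n := fun t ht r hr => by
      have := List.all_eq_true.mp (List.all_eq_true.mp hinv t (List.mem_range.mpr ht)) r (List.mem_range.mpr hr)
      simp only [Bool.and_eq_true] at this
      exact ⟨Nat.eq_of_beq_eq_true this.1.2, blt_lt this.2⟩
    obtain ⟨r, rfl⟩ : ∃ r, s = r + 3 := ⟨s - 3, by omega⟩
    obtain ⟨e, hlt⟩ := hh j j.2 r (by omega)
    rw [Nat.add_sub_cancel]
    rw [show (ρ (kEl r)).symm j = ⟨g (r + 3) j, hlt⟩ from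
      (Equiv.symm_apply_eq _).2 (Fin.ext ((hbase r (by omega) _).trans e).symm)]
  · rw [if_neg h3, if_neg h6, map_one, hout s h6]
    rfl

theorem phi_gen (s : ℕ) (j : Fin 1755) : (exists_phi.choose (kgen s) j : ℕ) = g1 s j := by
  refine table_gen _ g1 g1_inv (fun r hr i => ?_) (fun r hr i => ?_) s j
  · obtain ⟨k, hk, e⟩ := point_move hr i
    rw [exists_phi.choose_spec] at e
    rw [pV_inj e, hk]
  · rw [g1, show Nat.blt r 6 = false from Bool.eq_false_iff.2 fun c => hr (blt_lt c), cond_false]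

theorem psi_gen (s : ℕ) (i : Fin 2304) : (exists_psi.choose (kgen s) i : ℕ) = g2 s i := by
  refine table_gen _ g2 g2_inv (fun r hr i => ?_) (fun r hr i => ?_) s i
  · obtain ⟨k, hk, e⟩ := line_move hr i
    rw [exists_psi.choose_spec] at e
    rw [lV_inj e, hk]
  · rw [g2, show Nat.blt r 6 = false from Bool.eq_false_iff.2 fun c => hr (blt_lt c), cond_false]

/-- the tables -/
def model : Model Kru where
  φ := exists_phi.choose
  ψ := exists_psi.choose
  gen := kgen
  inv := kgen_inv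
  gen_phi := phi_gen
  gen_psi := psi_gen
  card := RuCert.card_K

theorem act_all : ∃ φ : Gru →* Equiv.Perm (Fin 4060), ∀ (g : Gru) (i : Fin 4060),
    ((g : G28) : Matrix (Fin 28) (Fin 28) (ZMod 2)) *ᵥ vecB (rVec i) = vecB (rVec (φ g i)) :=
  RuCert.action_of (fun i hi => (RuCert.rtab_facts hi).2)
    (fun hi hj e => RuCert.srt_inj RuCert.rsort_all hi hj e) fun g hg i hi => by
      obtain ⟨u, hu, eu⟩ := RuCert.rtab_in i hi
      obtain ⟨j, hj, m, hm, e⟩ := RuCert.r_cover (mul_mem hg hu)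
      refine ⟨j, hj, ?_⟩
      rw [← (RuCert.rtab_facts hi).1, mulB_vec, ← eu, Matrix.mulVec_mulVec, ← Units.val_mul, e,
        ← Matrix.mulVec_mulVec, RuCert.kfix hm, ← mulB_vec, (RuCert.rtab_facts hj).1]

/-- the group of the action -/
abbrev G0 : Subgroup (Equiv.Perm (Fin 4060)) := act_all.choose.range

theorem hom_inj : Function.Injective act_all.choose := by
  refine (injective_iff_map_eq_one act_all.choose).2 fun g hg => Subtype.ext (RuCert.eq_one_of_fix fun i hi => ?_)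
  have := act_all.choose_spec g ⟨i, hi⟩
  rw [hg] at this
  exact this

theorem idx_uniq {i j : Fin 4060} (e : vecB (rVec i) = vecB (rVec j)) : i = j :=
  Fin.ext (RuCert.rvec_uniq i.2 j.2 e)

/-- the base point -/
abbrev z0 : Fin 4060 := ⟨0, by norm_num⟩

theorem fix_iff (g : Gru) : act_all.choose g z0 = z0 ↔ (g : G28) ∈ Kru := by
  constructor
  · intro h
    refine RuCert.fix_in g.2 ?_
    have := act_all.choose_spec g z0
    rw [h] at this
    rwa [RuCert.rvec_zero] at this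
  · intro h
    refine idx_uniq ?_
    rw [← act_all.choose_spec g z0]
    show (g : G28).1 *ᵥ vecB (rVec 0) = vecB (rVec 0)
    rw [RuCert.rvec_zero, RuCert.kfix h]

theorem trans0 : MulAction.IsPretransitive G0 (Fin 4060) := by
  have key : ∀ u : Fin 4060, ∃ g : Gru, act_all.choose g z0 = u := fun u => by
    obtain ⟨t, ht, e⟩ := RuCert.rtab_in u u.2
    refine ⟨⟨t, ht⟩, idx_uniq ?_⟩
    rw [← act_all.choose_spec ⟨t, ht⟩ z0]
    show (t : G28).1 *ᵥ vecB (rVec 0) = _
    rw [RuCert.rvec_zero, e, ← mulB_vec, (RuCert.rtab_facts u.2).1]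
  refine ⟨fun u v => ?_⟩
  obtain ⟨p, hp⟩ := key u
  obtain ⟨q, hq⟩ := key v
  refine ⟨⟨act_all.choose (q * p⁻¹), q * p⁻¹, rfl⟩, ?_⟩
  show act_all.choose (q * p⁻¹) u = v
  rw [map_mul, map_inv, Equiv.Perm.mul_apply, ← hp, Equiv.Perm.inv_def, Equiv.symm_apply_apply, hq]

/-- the inclusion of the stabiliser -/
def incl : Kru →* Gru := Subgroup.inclusion RuCert.K_le_G

theorem orbit_range {m : ℕ} (ρ : Kru →* Equiv.Perm (Fin m)) (ν : Fin m → Fin 4060)
    (hρ : ∀ (h : Kru) (j : Fin m), act_all.choose (incl h) (ν j) = ν (ρ h j)) (hν : Function.Injective ν)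
    (j0 : Fin m) (htr : ∀ j, ∃ g, ρ g j0 = j) :
    (MulAction.orbit (MulAction.stabilizer G0 z0) (ν j0)).ncard = m := by
  have e : MulAction.orbit (MulAction.stabilizer G0 z0) (ν j0) = Set.range ν := by
    ext y
    constructor
    · rintro ⟨⟨⟨_, p, rfl⟩, hp⟩, rfl⟩
      exact ⟨ρ ⟨p, (fix_iff p).1 hp⟩ j0, (hρ ⟨p, (fix_iff p).1 hp⟩ j0).symm⟩
    · rintro ⟨j, rfl⟩
      obtain ⟨g, hg⟩ := htr j
      refine ⟨⟨⟨act_all.choose (incl g), incl g, rfl⟩, (fix_iff (incl g)).2 g.2⟩, ?_⟩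
      show act_all.choose (incl g) (ν j0) = ν j
      rw [hρ, hg]
  rw [e, ← Set.image_univ, Set.ncard_image_of_injective _ hν, Set.ncard_univ, Nat.card_fin]

/-- a point among the 4060 -/
def nuP (j : Fin 1755) : Fin 4060 := ⟨pI j, (pI_lt j.2).1⟩
/-- a line among the 4060 -/
def nuL (i : Fin 2304) : Fin 4060 := ⟨lI i, (lI_lt i.2).1⟩

/-- the setting of the Rudvalis group -/
def setting0 : Setting (Fin 4060) where
  G := G0
  a := z0
  b := nuP p0
  c := nuL l0
  htrans := trans0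
  hΩ := Fintype.card_fin _
  hb := orbit_range exists_phi.choose nuP
    (fun h j => idx_uniq ((act_all.choose_spec (incl h) (nuP j)).symm.trans (exists_phi.choose_spec h j)))
    (fun i j e => pV_inj (congrArg (fun q : Fin 4060 => vecB (rVec q)) e)) p0 model.point_trans
  hc := orbit_range exists_psi.choose nuL
    (fun h j => idx_uniq ((act_all.choose_spec (incl h) (nuL j)).symm.trans (exists_psi.choose_spec h j)))
    (fun i j e => lV_inj (congrArg (fun q : Fin 4060 => vecB (rVec q)) e)) l0 model.line_trans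

theorem theta0 : Nonempty (Kru ≃* MulAction.stabilizer setting0.G setting0.a) := by
  let f : Kru →* MulAction.stabilizer setting0.G setting0.a :=
    MonoidHom.mk' (fun h => ⟨⟨act_all.choose (incl h), incl h, rfl⟩, (fix_iff (incl h)).2 h.2⟩)
      fun x y => Subtype.ext (Subtype.ext (by simp))
  refine ⟨MulEquiv.ofBijective f ⟨fun x y e => ?_, ?_⟩⟩
  · exact Subgroup.inclusion_injective RuCert.K_le_G (hom_inj (congrArg (fun g => (g.1.1)) e))
  · rintro ⟨⟨_, p, rfl⟩, hp⟩
    exact ⟨⟨p, (fix_iff p).1 hp⟩, rfl⟩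

/-- recognition of the Rudvalis group -/
theorem iso_gru {Ω : Type*} [Fintype Ω] [DecidableEq Ω] (S : Setting Ω)
    (θ : Kru ≃* MulAction.stabilizer S.G S.a) : Nonempty (S.G ≃* Gru) := by
  obtain ⟨θ0⟩ := theta0
  obtain ⟨e⟩ := Ctx.iso (⟨setting0, model, θ0⟩ : Ctx (Fin 4060) Kru) (⟨S, model, θ⟩ : Ctx Ω Kru) rfl
  exact ⟨e.trans (MonoidHom.ofInjective hom_inj).symm⟩

end Cfsg.Agent.Spor.RuRank
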