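import Cfsg.Agent.Lib.Spor.RuRankModel

/-!
The normaliser of a group of order thirteen in the point stabiliser of the Rudvalis group.
-/

set_option autoImplicit false
set_option maxRecDepth 100000
set_option linter.style.haveILetI false

namespace Cfsg.Agent.Spor.RuRank

open Cfsg.Agent.Spor.SuzUnique

attribute [local irreducible] g1 g2 jF uF hF hL xwF

/-- a group of order 15600 and its normalisers of groups of order thirteen -/
theorem norm13 {G : Type*} [Group G] [Finite G] (hG : Nat.card G = 15600) {y : G} (hy : orderOf y = 13) :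
    ((Subgroup.normalizer ((Subgroup.zpowers y : Subgroup G) : Set G)).index = 300 ∧
      Nat.card (Subgroup.normalizer ((Subgroup.zpowers y : Subgroup G) : Set G)) = 52) ∨
    (Subgroup.normalizer ((Subgroup.zpowers y : Subgroup G) : Set G)).index ≤ 40 := by
  haveI : Fact (Nat.Prime 13) := ⟨by norm_num⟩
  have hcard : Nat.card (Subgroup.zpowers y) = 13 ^ (Nat.card G).factorization 13 := by
    rw [Nat.card_zpowers, hy, hG, show (15600 : ℕ) = 13 ^ 1 * 1200 by norm_num,
      Nat.factorization_mul (by norm_num) (by norm_num), Finsupp.add_apply,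
      (show Nat.Prime 13 by norm_num).factorization_pow, Finsupp.single_eq_same,
      Nat.factorization_eq_zero_of_not_dvd (by norm_num : ¬13 ∣ 1200)]
    norm_num
  let P : Sylow 13 G := Sylow.ofCard _ hcard
  have hmod := card_sylow_modEq_one 13 G
  have hdvd : Nat.card (Sylow 13 G) ∣ 1200 := by
    have h := P.card_dvd_index
    have hi := (Subgroup.zpowers y).card_mul_index
    rw [Nat.card_zpowers, hy, hG] at hi
    rw [show P.index = (Subgroup.zpowers y).index from rfl] at h
    rwa [show (Subgroup.zpowers y).index = 1200 by omega] at h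
  have hn : (Subgroup.normalizer ((Subgroup.zpowers y : Subgroup G) : Set G)).index = Nat.card (Sylow 13 G) :=
    P.card_eq_index_normalizer.symm
  have hm := (Subgroup.normalizer ((Subgroup.zpowers y : Subgroup G) : Set G)).card_mul_index
  rw [hG, hn] at hm
  have key : ∀ n ∈ Nat.divisors 1200, n % 13 = 1 → n = 1 ∨ n = 40 ∨ n = 300 := by decide +kernel
  rcases key _ (Nat.mem_divisors.2 ⟨hdvd, by norm_num⟩) hmod with h | h | h
  · exact Or.inr (by rw [hn, h]; norm_num)
  · exact Or.inr (by rw [hn, h])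
  · exact Or.inl ⟨hn.trans h, by rw [h] at hm; omega⟩

theorem mem_norm_zpowers {G : Type*} [Group G] {g y : G}
    (hg : g ∈ Subgroup.normalizer ((Subgroup.zpowers y : Subgroup G) : Set G)) : g * y * g⁻¹ ∈ Subgroup.zpowers y :=
  (Subgroup.mem_normalizer_iff.1 hg y).1 (Subgroup.mem_zpowers y)

theorem norm_zpowers {G : Type*} [Group G] [Finite G] {g y : G} (h : g * y * g⁻¹ ∈ Subgroup.zpowers y) :
    g ∈ Subgroup.normalizer ((Subgroup.zpowers y : Subgroup G) : Set G) := by
  let Z := Subgroup.zpowers y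
  have hle : Z.map (MulAut.conj g).toMonoidHom ≤ Z := by
    rw [MonoidHom.map_zpowers, Subgroup.zpowers_le]
    exact h
  have heq := Subgroup.eq_of_le_of_card_ge hle
    (by rw [Subgroup.card_map_of_injective (MulEquiv.injective _)])
  refine Subgroup.mem_normalizer_iff.2 fun k => ⟨fun hk => hle ⟨k, hk, rfl⟩, fun hk => ?_⟩
  obtain ⟨z, hz, e⟩ := (show g * k * g⁻¹ ∈ Z.map (MulAut.conj g).toMonoidHom by rw [heq]; exact hk)
  rwa [show k = z from (MulEquiv.injective (MulAut.conj g)) e.symm]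

namespace Model

variable {X : Type} [Group X] (D : Model X)

theorem comp_phi {x y : X} {f f' : ℕ → ℕ} (hx : ∀ j : Fin 1755, (D.φ x j : ℕ) = f j)
    (hy : ∀ j : Fin 1755, (D.φ y j : ℕ) = f' j) (j : Fin 1755) : (D.φ (x * y) j : ℕ) = (f ∘ f') j := D.mul_phi hx hy j

/-- the element of order thirteen and the normalising element -/
def xw (k : ℕ) : X := D.el (([xW, wW] : List (List ℕ)).getD k [])

theorem xw_phi (k : ℕ) (j : Fin 1755) : (D.φ (D.xw k) j : ℕ) = xwF k j := (D.el_phi _ j).trans (xwF_eq k j).symm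

/-- the elements of the normaliser -/
def nel (q : ℕ) : X := elW D.xw (nW (q % 13) (q / 13))

theorem nel_phi (q : ℕ) (j : Fin 1755) : (D.φ (D.nel q) j : ℕ) = evW xwF (nW (q % 13) (q / 13)) j :=
  elW_img D.xw_phi _ j

theorem nel_eq (q : ℕ) : D.nel q = D.xw 0 ^ (q % 13) * D.xw 1 ^ (q / 13) := by
  simp [nel, nW, elW]

theorem x_order : orderOf (D.xw 0) = 13 := by
  haveI : Fact (Nat.Prime 13) := ⟨by norm_num⟩
  refine orderOf_eq_prime ?_ (D.ne_of_b3 (D.xw_phi 0) D.one_phi xw_rel.2)
  rw [show D.xw 0 ^ 13 = elW D.xw (List.replicate 13 0) by rw [elW, List.map_replicate, List.prod_replicate]]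
  refine D.eq_of_b3 (elW_img D.xw_phi _) D.one_phi (List.all_eq_true.mpr fun b hb => ?_)
  have h := List.all_eq_true.mp xw_rel.1 b hb
  simp only [Bool.and_eq_true] at h
  exact h.1.1

theorem w_conj : D.xw 1 * D.xw 0 * (D.xw 1)⁻¹ = D.xw 0 ^ 2 := by
  rw [mul_inv_eq_iff_eq_mul, pow_two, mul_assoc]
  have e := D.comp_phi (D.xw_phi 0) (D.comp_phi (D.xw_phi 0) (D.xw_phi 1))
  refine D.eq_of_b3 (D.comp_phi (D.xw_phi 1) (D.xw_phi 0)) e (List.all_eq_true.mpr fun b hb => ?_)
  have h := List.all_eq_true.mp xw_rel.1 b hb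
  simp only [Bool.and_eq_true] at h
  exact h.2

theorem x_P0 : D.xw 0 ∈ D.P l0 :=
  Fin.ext ((D.el_psi _ l0).trans (Nat.eq_of_beq_eq_true fixes.2.2))

/-- the group of order thirteen -/
def Zx : Subgroup X := Subgroup.zpowers (D.xw 0)

/-- its normaliser -/
def Nx : Subgroup X := Subgroup.normalizer ((D.Zx : Subgroup X) : Set X)

theorem nel_mem (q : ℕ) : D.nel q ∈ D.Nx := by
  haveI := D.finite
  rw [nel_eq]
  refine mul_mem (pow_mem (Subgroup.le_normalizer (Subgroup.mem_zpowers _)) _) (pow_mem (norm_zpowers ?_) _)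
  rw [w_conj]
  exact Subgroup.npow_mem_zpowers _ _

theorem nel_inj {q r : ℕ} (hq : q < 156) (hr : r < 156) (e : D.nel q = D.nel r) : q = r := by
  have h : key3 (evW xwF (nW (q % 13) (q / 13))) = key3 (evW xwF (nW (r % 13) (r / 13))) :=
    List.map_congr_left fun b hb => by
      rw [← D.nel_phi q ⟨b, b3_lt b hb⟩, ← D.nel_phi r ⟨b, b3_lt b hb⟩, e]
  exact (n_distinct.getElem_inj_iff (i := q) (j := r) (hi := by simpa using hq) (hj := by simpa using hr)).1
    (by simpa using h)

/-- conjugates of the group of order thirteen -/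
def cg (k : ℕ) : X := elW D.hk (xConjW.getD k [])

theorem xc_phi (k : ℕ) (j : Fin 1755) :
    (D.φ (D.cg k * D.xw 0 * (D.cg k)⁻¹) j : ℕ) = xcF k j := by
  have e : (D.cg k)⁻¹ = D.el (invW ((xConjW.getD k []).flatMap fun i => hsW.getD i [])) := by
    rw [D.el_inv fun s hs => ?_]
    · exact congrArg (·⁻¹) (el_flat D _)
    · obtain ⟨i, -, hi⟩ := List.mem_flatMap.mp hs
      exact getD_lt (fun w hw => word_lt (by simp [hw])) i s hi
  rw [map_mul, map_mul, Equiv.Perm.mul_apply, Equiv.Perm.mul_apply, e]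
  unfold xcF cg
  rw [elW_img D.hk_phi, xw_phi, el_phi]

theorem card_NxP : Nat.card ↥(D.Nx ⊓ D.P l0) ≤ 52 := by
  classical
  haveI := D.finite
  let y : D.P l0 := ⟨D.xw 0, D.x_P0⟩
  have hy : orderOf y = 13 := by rw [← Subgroup.orderOf_coe]; exact D.x_order
  set N := Subgroup.normalizer ((Subgroup.zpowers y : Subgroup (D.P l0)) : Set (D.P l0)) with hN
  have h41 : 41 ≤ N.index := by
    let g : Fin 41 → D.P l0 ⧸ N := fun k =>
      QuotientGroup.mk (⟨D.cg k, elW_mem (fun s => D.hk_mem s) _⟩ : D.P l0)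
    have hg : Function.Injective g := by
      intro i k e
      by_contra hne
      wlog hlt : (i : ℕ) < k generalizing i k
      · exact this e.symm (Ne.symm hne) (by
          have : (i : ℕ) ≠ k := fun h => hne (Fin.ext h)
          omega)
      have hm := mem_norm_zpowers (QuotientGroup.eq.1 e)
      obtain ⟨n, hn⟩ := Subgroup.mem_zpowers_iff.1 hm
      have hn' : D.xw 0 ^ n = (D.cg i)⁻¹ * D.cg k * D.xw 0 * ((D.cg i)⁻¹ * D.cg k)⁻¹ :=
        congrArg (Subtype.val : D.P l0 → X) hn
      have hconj : D.cg k * D.xw 0 * (D.cg k)⁻¹ = D.cg i * (D.xw 0 ^ n) * (D.cg i)⁻¹ := by rw [hn']; group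
      have hcomm : (D.cg k * D.xw 0 * (D.cg k)⁻¹) * (D.cg i * D.xw 0 * (D.cg i)⁻¹) =
          (D.cg i * D.xw 0 * (D.cg i)⁻¹) * (D.cg k * D.xw 0 * (D.cg k)⁻¹) := by
        rw [hconj]
        group
      exact D.ne_of_b3 (D.comp_phi (D.xc_phi k) (D.xc_phi i)) (D.comp_phi (D.xc_phi i) (D.xc_phi k))
        (List.all_eq_true.mp (List.all_eq_true.mp xc_ok k (List.mem_range.mpr k.2)) i (List.mem_range.mpr hlt)) hcomm
    have h := Nat.card_le_card_of_injective g hg
    rwa [Nat.card_fin, ← Subgroup.index_eq_card] at h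
  have h52 : Nat.card N = 52 := by
    have h13 := norm13 (D.card_P l0) hy
    rw [← hN] at h13
    rcases h13 with h | h
    · exact h.2
    · omega
  rw [← h52]
  refine Nat.card_le_card_of_injective (fun g => ⟨⟨g.1, g.2.2⟩, norm_zpowers ?_⟩)
    fun a b e => Subtype.ext (congrArg (fun z : N => z.1.1) e)
  obtain ⟨n, hn⟩ := Subgroup.mem_zpowers_iff.1 (mem_norm_zpowers g.2.1)
  exact Subgroup.mem_zpowers_iff.2 ⟨n, Subtype.ext hn⟩

theorem card_Nx : Nat.card D.Nx ≤ 156 := by
  classical
  haveI := D.finite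
  letI : MulAction D.Nx (Fin 2304) := MulAction.compHom _ (D.ψ.comp D.Nx.subtype)
  rw [← Subgroup.card_mul_index (MulAction.stabilizer D.Nx l0), MulAction.index_stabilizer,
    show 156 = 52 * 3 by norm_num]
  refine Nat.mul_le_mul (le_trans ?_ D.card_NxP) ?_
  · exact Nat.card_le_card_of_injective (fun g => ⟨g.1.1, g.1.2, g.2⟩)
      fun a b e => Subtype.ext (Subtype.ext (congrArg Subtype.val e :))
  rw [← x_lines.2]
  refine le_trans ?_ (List.toFinset_card_le xLines)
  rw [← Set.ncard_coe_finset]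
  refine le_trans (le_of_eq (Set.ncard_image_of_injective (MulAction.orbit D.Nx l0) Fin.val_injective).symm)
    (Set.ncard_le_ncard ?_ (Finset.finite_toSet _))
  rintro i ⟨r, ⟨g, rfl⟩, rfl⟩
  rw [Finset.mem_coe, List.mem_toFinset, ← x_lines.1, List.mem_filter, List.mem_range]
  refine ⟨(g • l0).2, ?_⟩
  rw [Nat.beq_eq, ← D.el_psi]
  refine congrArg Fin.val ?_
  show D.ψ (D.xw 0) (D.ψ g.1 l0) = D.ψ g.1 l0
  have hc : g.1⁻¹ * D.xw 0 * g.1⁻¹⁻¹ ∈ D.P l0 :=
    (Subgroup.zpowers_le.2 D.x_P0) (mem_norm_zpowers (inv_mem g.2))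
  rw [inv_inv, mem_P, map_mul, map_mul, map_inv, Equiv.Perm.mul_apply, Equiv.Perm.mul_apply, Equiv.Perm.inv_def,
    Equiv.symm_apply_eq] at hc
  exact hc

theorem Nx_elem {g : X} (hg : g ∈ D.Nx) : ∃ q < 156, g = D.nel q := by
  haveI := D.finite
  let m : Fin 156 → D.Nx := fun q => ⟨D.nel q, D.nel_mem q⟩
  have hinj : Function.Injective m := fun q r e => Fin.ext (D.nel_inj q.2 r.2 (congrArg Subtype.val e))
  have hc : Nat.card D.Nx = 156 := le_antisymm D.card_Nx (by
    have := Nat.card_le_card_of_injective m hinj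
    rwa [Nat.card_fin] at this)
  obtain ⟨q, hq⟩ := ((Nat.bijective_iff_injective_and_card m).2 ⟨hinj, by rw [Nat.card_fin, hc]⟩).2 ⟨g, hg⟩
  exact ⟨q, q.2, (congrArg Subtype.val hq).symm⟩

/-- the element of order four -/
def hh : X := D.xw 1 ^ 3

theorem hh_phi (j : Fin 1755) : (D.φ D.hh j : ℕ) = hhF j := by
  rw [hh, pow_succ, pow_two, map_mul, map_mul, Equiv.Perm.mul_apply, Equiv.Perm.mul_apply, xw_phi, xw_phi, xw_phi]
  rfl

theorem n52 : ((Finset.range 156).filter fun q => q / 13 % 3 = 0).card = 52 := by decide +kernel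

/-- a group of order 15600 containing the element of order thirteen contains the element of order four -/
theorem hh_mem {H : Subgroup X} (hH : Nat.card H = 15600) (hx : D.xw 0 ∈ H) : D.hh ∈ H := by
  classical
  haveI := D.finite
  let y : H := ⟨D.xw 0, hx⟩
  have hy : orderOf y = 13 := by rw [← Subgroup.orderOf_coe]; exact D.x_order
  set N := Subgroup.normalizer ((Subgroup.zpowers y : Subgroup H) : Set H) with hN
  have hmem : ∀ g : N, (g.1 : X) ∈ D.Nx := fun g => norm_zpowers (by
    obtain ⟨n, hn⟩ := Subgroup.mem_zpowers_iff.1 (mem_norm_zpowers g.2)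
    exact Subgroup.mem_zpowers_iff.2 ⟨n, congrArg (Subtype.val : H → X) hn⟩)
  have h52 : Nat.card N = 52 := by
    have h13 := norm13 hH hy
    rw [← hN] at h13
    rcases h13 with h | h
    · exact h.2
    · exfalso
      have hc : Nat.card N ≤ 156 := le_trans
        (Nat.card_le_card_of_injective (fun g : N => (⟨(g.1 : X), hmem g⟩ : D.Nx))
          fun a b e => Subtype.ext (Subtype.ext (congrArg Subtype.val e :))) D.card_Nx
      have hm := N.card_mul_index
      rw [hH] at hm
      have := Nat.mul_le_mul hc h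
      omega
  choose q hq hqe using fun g : N => D.Nx_elem (hmem g)
  have hgood : ∀ g : N, q g / 13 % 3 = 0 := by
    intro g
    have h := List.all_eq_true.mp n_power (q g) (List.mem_range.mpr (hq g))
    rw [Bool.or_eq_true] at h
    rcases h with h | h
    · exact Nat.eq_of_beq_eq_true h
    · exfalso
      refine D.ne_of_b3 (D.pow_phi (D.nel_phi _) 52) D.one_phi h ?_
      rw [← hqe g]
      have hp : g ^ 52 = 1 := h52 ▸ pow_card_eq_one'
      exact congrArg (fun z : N => ((z : H) : X)) hp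
  let T := (Finset.range 156).filter fun q => q / 13 % 3 = 0
  let m : N → T := fun g => ⟨q g, Finset.mem_filter.2 ⟨Finset.mem_range.2 (hq g), hgood g⟩⟩
  have hinj : Function.Injective m := fun a b e => Subtype.ext (Subtype.ext (by
    rw [hqe a, hqe b, show q a = q b from congrArg Subtype.val e]))
  obtain ⟨g, hg⟩ := ((Nat.bijective_iff_injective_and_card m).2 ⟨hinj, by
    rw [h52, Nat.card_eq_fintype_card, Fintype.card_coe, n52]⟩).2 ⟨39, by decide⟩
  have : D.hh = (g.1 : X) := by
    rw [hqe g, show q g = 39 from congrArg Subtype.val hg, nel_eq, hh]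
    simp
  exact this ▸ g.1.2

end Model

end Cfsg.Agent.Spor.RuRank
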