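import Cfsg.Agent.Lib.Spor.SuzUniqueTools

/-!
Fast checks of transversals, inverse words and homomorphisms given on generators.
-/

set_option autoImplicit false

namespace Cfsg.Agent.Spor.RuRank

open Cfsg.Agent.Spor.SuzUnique

/-- distinct numbers, with a set of bits of those seen -/
def ndB : List ℕ → ℕ → Bool
  | [], _ => true
  | x :: l, seen => bif Nat.testBit seen x then false else ndB l (Nat.lor seen (2 ^ x))

theorem ndB_spec : ∀ (l : List ℕ) (seen : ℕ), ndB l seen = true →
    l.Nodup ∧ ∀ x ∈ l, Nat.testBit seen x = false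
  | [], _, _ => ⟨List.nodup_nil, fun _ h => absurd h List.not_mem_nil⟩
  | x :: l, seen, h => by
    cases hx : Nat.testBit seen x with
    | true => simp [ndB, hx] at h
    | false =>
      simp only [ndB, hx, cond_false] at h
      obtain ⟨hn, hl⟩ := ndB_spec l _ h
      have hor : Nat.lor seen (2 ^ x) = seen ||| 2 ^ x := rfl
      refine ⟨List.nodup_cons.2 ⟨fun hm => ?_, hn⟩, fun y hy => ?_⟩
      · have := hl x hm
        rw [hor, Nat.testBit_or, Nat.testBit_two_pow_self, Bool.or_true] at this
        exact absurd this (by decide)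
      · rcases List.mem_cons.1 hy with rfl | hy
        · exact hx
        · have := hl y hy
          rw [hor, Nat.testBit_or, Bool.or_eq_false_iff] at this
          exact this.1

/-- transversals along a base, fast -/
def lvFast (f : ℕ → ℕ → ℕ) : List (ℕ × List (List ℕ)) → List ℕ → Bool
  | [], _ => true
  | (b, ws) :: L, fx =>
    (ws.all fun w => fx.all fun c => Nat.beq (evW f w c) c) && ndB (ws.map fun w => evW f w b) 0 &&
      lvFast f L (fx ++ [b])

theorem lvFast_spec {f : ℕ → ℕ → ℕ} : ∀ (L : List (ℕ × List (List ℕ))) (fx : List ℕ),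
    lvFast f L fx = true → lvOK f L fx = true
  | [], _, _ => rfl
  | (b, ws) :: L, fx, h => by
    simp only [lvFast, lvOK, Bool.and_eq_true, decide_eq_true_eq] at h ⊢
    exact ⟨⟨h.1.1, (ndB_spec _ _ h.1.2).1⟩, lvFast_spec L _ h.2⟩

/-- the word of the inverse -/
def invW (w : List ℕ) : List ℕ := w.reverse.map fun s => (s + 3) % 6

theorem elW_invW {K : Type*} [Group K] {e : ℕ → K} (h : ∀ s < 6, e s * e ((s + 3) % 6) = 1) :
    ∀ w : List ℕ, (∀ s ∈ w, s < 6) → elW e (invW w) = (elW e w)⁻¹
  | [], _ => by simp [invW, elW]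
  | s :: w, hw => by
    rw [invW, List.reverse_cons, List.map_append, List.map_singleton, ← invW, elW_append,
      elW_invW h w fun t ht => hw t (List.mem_cons_of_mem _ ht), elW_single, elW_cons, _root_.mul_inv_rev,
      inv_eq_of_mul_eq_one_right (h s (hw s List.mem_cons_self))]

theorem closure_preserves {K : Type*} [Group K] [Finite K] {S : Set K} (hS : Subgroup.closure S = ⊤)
    (P : K → Prop) (h1 : P 1) (hm : ∀ x y, P x → P y → P (x * y)) (hg : ∀ s ∈ S, P s) (x : K) : P x := by
  have hx : x ∈ (Subgroup.closure S).toSubmonoid := by rw [hS]; trivial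
  rw [Subgroup.closure_toSubmonoid_of_finite] at hx
  induction hx using Submonoid.closure_induction with
  | mem y hy => exact hg y hy
  | one => exact h1
  | mul y z _ _ hy hz => exact hm y z hy hz

/-- a homomorphism into permutations from the moves of the generators -/
theorem exists_perm_hom {K V : Type*} [Group K] [Finite K] {S : Set K} (hS : Subgroup.closure S = ⊤)
    (act : K → V → V) (hone : ∀ v, act 1 v = v) (hmul : ∀ x y v, act (x * y) v = act x (act y v))
    {m : ℕ} (ν : Fin m → V) (hν : Function.Injective ν)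
    (hmove : ∀ s ∈ S, ∀ j, ∃ k, act s (ν j) = ν k) :
    ∃ ρ : K →* Equiv.Perm (Fin m), ∀ (h : K) (j : Fin m), act h (ν j) = ν (ρ h j) := by
  have key : ∀ h : K, ∀ j, ∃ k, act h (ν j) = ν k := closure_preserves hS _ (fun j => ⟨j, hone _⟩)
    (fun x y hx hy j => by
      obtain ⟨k, hk⟩ := hy j
      obtain ⟨l, hl⟩ := hx k
      exact ⟨l, by rw [hmul, hk, hl]⟩) hmove
  choose f hf using key
  have h1 : ∀ j, f 1 j = j := fun j => hν ((hf 1 j).symm.trans (hone _))
  have h2 : ∀ g h j, f (g * h) j = f g (f h j) := fun g h j => hν ((hf (g * h) j).symm.trans (by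
    rw [hmul, hf h j, hf g]))
  exact ⟨MonoidHom.mk' (fun g => ⟨f g, f g⁻¹, fun j => by rw [← h2, inv_mul_cancel, h1],
    fun j => by rw [← h2, mul_inv_cancel, h1]⟩) (fun g h => Equiv.ext (h2 g h)), fun g j => hf g j⟩

end Cfsg.Agent.Spor.RuRank
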