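import Cfsg.Agent.Lib.Spor.RuRankRep
import Cfsg.Agent.Lib.Spor.RuRankChecksGraph

/-!
The twisted group of type F₄ over two elements is the point stabiliser of the Rudvalis group: both act on
1755 points with the same image.
-/

set_option autoImplicit false
set_option maxRecDepth 100000
set_option linter.style.haveILetI false

noncomputable section

namespace Cfsg.Agent.Spor.RuRank

open Cfsg.Lie Cfsg.Agent.Lie.F4Two Matrix
open Cfsg.Agent.Lie.TitsMult (vec nv nv_vec nv_step)
open Cfsg.Agent.Spor.SuzUnique (evW elW elW_img)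
open Cfsg.Agent.Spor.CC (fld)
open scoped MatrixGroups

attribute [local irreducible] g1 g2 gtF gtM gVec

/-- the four generators -/
def gtE : ℕ → GT
  | 0 => eA
  | 1 => eAm
  | 2 => eC
  | 3 => eCm
  | _ => 1

theorem rep_gtE : ∀ s < 4, Rep (gtE s).1 (gtM.getD s []) := by
  intro s hs
  unfold gtM
  obtain ⟨h0, h1, h2, h3⟩ := coe_gens
  interval_cases s
  · show Rep eA.1 (wT [33, 24]); rw [h0]; exact rep_wT (by decide)
  · show Rep eAm.1 (wT [14, 23]); rw [h1]; exact rep_wT (by decide)
  · show Rep eC.1 (wT [27, 25, 28]); rw [h2]; exact rep_wT (by decide)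
  · show Rep eCm.1 (wT [20, 22, 19]); rw [h3]; exact rep_wT (by decide)

/-- the group of the four generators -/
def H4 : Subgroup GT := Subgroup.closure (Set.range gtE)

/-- a generator inside -/
def gtH (s : ℕ) : H4 := ⟨gtE s, Subgroup.subset_closure ⟨s, rfl⟩⟩

theorem gtH_top : Subgroup.closure (Set.range gtH) = ⊤ := by
  apply Subgroup.map_injective H4.subtype_injective
  rw [MonoidHom.map_closure, ← MonoidHom.range_eq_map, Subgroup.range_subtype, ← Set.range_comp]
  rfl

/-- a vector of the orbit -/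
def gV (j : Fin 1755) : chevF4.Idx → ZMod 2 := vec (gVec j)

theorem gV_inj : Function.Injective gV := fun i j e => by
  have h := congrArg nv e
  have hlt : ∀ k, gVec k < 2 ^ 52 := fun k => by
    unfold gVec fld
    exact lt_of_le_of_lt Nat.and_le_right (by norm_num)
  rw [gV, gV, nv_vec, nv_vec, Nat.mod_eq_of_lt (hlt _), Nat.mod_eq_of_lt (hlt _)] at h
  exact Fin.ext (RuCert.srt_inj (fun k hk => List.all_eq_true.mp g_sort k (List.mem_range.mpr hk)) i.2 j.2 h)

theorem gt_move (s : ℕ) (j : Fin 1755) :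
    ∃ k : Fin 1755, (k : ℕ) = gtF s j ∧ (gtE s).1.val *ᵥ gV j = gV k := by
  by_cases hs : s < 4
  · have h := List.all_eq_true.mp (List.all_eq_true.mp moveG_ok.2 s (List.mem_range.mpr hs)) j (List.mem_range.mpr j.2)
    simp only [Bool.and_eq_true] at h
    have e : gtF s j = fld (gtP.getD s 0) 11 j := by
      unfold gtF
      rw [tab1, lt_blt (by rw [moveG_ok.1]; exact hs), cond_true]
    refine ⟨⟨_, blt_lt h.1⟩, e.symm, ?_⟩
    refine ((rep_gtE s hs).mulVec _).trans ?_
    show vec (app (gtM.getD s []) (gVec j)) = _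
    exact congrArg Cfsg.Agent.Lie.TitsMult.vec (Nat.eq_of_beq_eq_true h.2)
  · refine ⟨j, ?_, ?_⟩
    · unfold gtF
      rw [tab1_out (by rw [moveG_ok.1]; omega)]
    · rw [show gtE s = 1 from match s, hs with | 0, h | 1, h | 2, h | 3, h => absurd (by norm_num) h | n + 4, _ => rfl,
        OneMemClass.coe_one, Units.val_one, Matrix.one_mulVec]

theorem exists_gphi : ∃ ρ : H4 →* Equiv.Perm (Fin 1755), ∀ (s : ℕ) (j : Fin 1755), (ρ (gtH s) j : ℕ) = gtF s j := by
  haveI : Finite GT := Nat.finite_of_card_ne_zero (by rw [card_data.1]; norm_num)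
  obtain ⟨ρ, hρ⟩ := exists_perm_hom gtH_top (fun g v => g.1.1.val *ᵥ v) (fun v => by simp)
    (fun x y v => by simp [Matrix.mulVec_mulVec]) gV gV_inj (by
      rintro _ ⟨s, rfl⟩ j
      obtain ⟨k, -, hk⟩ := gt_move s j
      exact ⟨k, hk⟩)
  refine ⟨ρ, fun s j => ?_⟩
  obtain ⟨k, hk, e⟩ := gt_move s j
  rw [← hk, gV_inj ((hρ (gtH s) j).symm.trans e)]

theorem twisted_equiv : Nonempty (RuCert.Kru ≃* twistedF4 (ZMod 2) 1) := by
  obtain ⟨ρ, hρ⟩ := exists_gphi
  haveI : Finite GT := Nat.finite_of_card_ne_zero (by rw [card_data.1]; norm_num)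
  set φ := model.φ with hφd
  have hφ : Function.Injective φ := model.phi_inj
  have hle : φ.range ≤ ρ.range := by
    rintro _ ⟨g, rfl⟩
    refine closure_preserves kEl_top (fun g => φ g ∈ ρ.range) (by rw [map_one]; exact one_mem _)
      (fun x y hx hy => by rw [map_mul]; exact mul_mem hx hy) ?_ g
    rintro _ ⟨s, hs, rfl⟩
    refine ⟨elW gtH (kW.getD s []), Equiv.ext fun j => Fin.ext ?_⟩
    rw [elW_img hρ]
    have h := Nat.eq_of_beq_eq_true (List.all_eq_true.mp (List.all_eq_true.mp k_words s (List.mem_range.mpr hs)) j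
      (List.mem_range.mpr j.2))
    rw [h, ← phi_gen]
    rw [kgen, if_pos (show s < 3 from hs)]
    rfl
  have h1 : Nat.card φ.range = 35942400 := by
    rw [← Nat.card_congr (MonoidHom.ofInjective hφ).toEquiv, RuCert.card_K]
  have h2 : Nat.card ρ.range ≤ Nat.card H4 := Nat.card_le_card_of_surjective ρ.rangeRestrict ρ.rangeRestrict_surjective
  have h3 : Nat.card H4 ≤ 35942400 := (Subgroup.card_le_card_group H4).trans (le_of_eq (by rw [card_data.1]))
  have h4 : Nat.card φ.range ≤ Nat.card ρ.range := Subgroup.card_le_of_le hle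
  have heq := Subgroup.eq_of_le_of_card_ge hle (by omega)
  have hbij : Function.Bijective ρ.rangeRestrict :=
    (Nat.bijective_iff_surjective_and_card ρ.rangeRestrict).2 ⟨ρ.rangeRestrict_surjective, by omega⟩
  have htop : H4 = ⊤ := Subgroup.eq_top_of_le_card H4 (by rw [card_data.1]; omega)
  exact ⟨(((MonoidHom.ofInjective hφ).trans (MulEquiv.subgroupCongr heq)).trans
    (MulEquiv.ofBijective ρ.rangeRestrict hbij).symm).trans ((MulEquiv.subgroupCongr htop).trans Subgroup.topEquiv)⟩

end Cfsg.Agent.Spor.RuRank
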