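/-
The six-transposition property of Majorana involutions (Sakuma's theorem): the algebra of two axes.
-/
import Cfsg.Agent.Lib.Spor.Majorana

set_option autoImplicit false
set_option maxHeartbeats 1000000

namespace Cfsg.Agent.Spor.Sakuma

open Cfsg.Axial

variable {V : Type*} [AddCommGroup V] [Module ℝ V]

/-- the invariant combination of two axes -/
noncomputable def sg (mul : V →ₗ[ℝ] V →ₗ[ℝ] V) (x y : V) : V := mul x y - (1 / 32 : ℝ) • (x + y)

/-- an axis of squared length one with its involution -/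
structure Side (mul : V →ₗ[ℝ] V →ₗ[ℝ] V) (B : LinearMap.BilinForm ℝ V) (μ : V ≃ₗ[ℝ] V) (a : V) : Prop where
  amb : IsMajoranaAmbient mul B
  pair : IsMajoranaPair mul B μ a
  norm : B a a = 1

variable {mul : V →ₗ[ℝ] V →ₗ[ℝ] V} {B : LinearMap.BilinForm ℝ V} {μ ν : V ≃ₗ[ℝ] V} {a b : V}

theorem mul_eq_sg (x y : V) : mul x y = sg mul x y + (1 / 32 : ℝ) • (x + y) := by
  rw [sg]; module

theorem Side.comm (A : Side mul B μ a) (u v : V) : mul u v = mul v u := A.amb.1 u v

theorem Side.idem (A : Side mul B μ a) : mul a a = a := A.pair.2.2.1.1.2.1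

theorem Side.mid (A : Side mul B μ a) (u v : V) : B u (mul a v) = B (mul a u) v := by
  rw [A.amb.2.2.2.1, A.amb.1 u a]

theorem Side.ax (A : Side mul B μ a) (v : V) : B a (mul a v) = B a v := by rw [A.mid, A.idem]

theorem Side.fix_self (A : Side mul B μ a) : μ a = a :=
  A.pair.2.2.2.1 a (by
    rw [eigenSum_three]
    exact Submodule.mem_sup_left (mem_eigen.2 (by rw [A.idem, one_smul])))

theorem Side.orth (A : Side mul B μ a) {c d : ℝ} (hcd : c ≠ d) {u v : V} (hu : mul a u = c • u)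
    (hv : mul a v = d • v) : B u v = 0 := by
  have h := A.mid u v
  rw [hv, hu, map_smul, map_smul, LinearMap.smul_apply, smul_eq_mul, smul_eq_mul] at h
  exact (mul_eq_mul_right_iff.1 h.symm).resolve_left hcd

/-- the splitting of a vector along an axis -/
theorem Side.split (A : Side mul B μ a) (b : V) : ∃ p q t : V,
    b = B a b • a + p + q + t ∧ μ b = B a b • a + p + q - t ∧ mul a p = 0 ∧
      mul a q = (1 / 4 : ℝ) • q ∧ mul a t = (1 / 32 : ℝ) • t := by
  obtain ⟨hm, hB, hax, hfix, hneg⟩ := A.pair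
  have htop : eigenSum mul a majoranaSpectrum = eigenSum mul a {1, 0, 1 / 4} ⊔ eigen mul a (1 / 32) := by
    rw [majoranaSpectrum, eigenSum, iSup_insert, iSup_insert, iSup_insert, iSup_singleton,
      eigenSum_three]
    simp only [sup_assoc]
  have hmem : b ∈ eigenSum mul a {1, 0, 1 / 4} ⊔ eigen mul a (1 / 32) := by
    rw [← htop, hax.1.2.2.1]; trivial
  obtain ⟨s, hs, t, ht, rfl⟩ := Submodule.mem_sup.1 hmem
  have hμs : μ s = s := hfix s hs
  have hμt : μ t = -t := hneg t ht
  rw [eigenSum_three, hax.2] at hs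
  obtain ⟨x, hx, y, hy, rfl⟩ := Submodule.mem_sup.1 hs
  obtain ⟨p, hp, q, hq, rfl⟩ := Submodule.mem_sup.1 hy
  obtain ⟨l, rfl⟩ := Submodule.mem_span_singleton.1 hx
  have hp' : mul a p = 0 := by rw [mem_eigen.1 hp, zero_smul]
  have ha : mul a a = (1 : ℝ) • a := by rw [A.idem, one_smul]
  have h1 : B a p = 0 := A.orth (c := 1) (d := 0) (by norm_num) ha (by rw [hp', zero_smul])
  have h2 : B a q = 0 := A.orth (c := 1) (d := 1 / 4) (by norm_num) ha (mem_eigen.1 hq)
  have h3 : B a t = 0 := A.orth (c := 1) (d := 1 / 32) (by norm_num) ha (mem_eigen.1 ht)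
  have hl : B a (l • a + (p + q) + t) = l := by
    simp only [map_add, map_smul, A.norm, h1, h2, h3, smul_eq_mul]; ring
  refine ⟨p, q, t, ?_, ?_, hp', mem_eigen.1 hq, mem_eigen.1 ht⟩
  · rw [hl]; module
  · rw [hl, map_add, hμs, hμt]; module

theorem Side.invol (A : Side mul B μ a) (v : V) : μ (μ v) = v := by
  obtain ⟨p, q, t, hv, hμv, hp, hq, ht⟩ := A.split v
  have e1 : μ (B a v • a + p + q) = B a v • a + p + q :=
    A.pair.2.2.2.1 _ (by
      rw [eigenSum_three, add_assoc]
      exact Submodule.add_mem_sup (Submodule.smul_mem _ _ (mem_eigen.2 (by rw [A.idem, one_smul])))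
        (Submodule.add_mem_sup (mem_eigen.2 (by rw [hp, zero_smul])) (mem_eigen.2 hq)))
  have e2 : μ t = -t := A.pair.2.2.2.2 t (mem_eigen.2 ht)
  rw [hμv, map_sub, e1, e2, sub_neg_eq_add]
  exact hv.symm

/-- what one axis knows of another vector of squared length one that is idempotent -/
theorem Side.basic (A : Side mul B μ a) (hbb : mul b b = b) (hb1 : B b b = 1) :
    mul a (μ b) = sg mul a b + (1 / 32 : ℝ) • (a + μ b) ∧
    mul a ((-4 : ℝ) • sg mul a b + (3 * B a b - 1 / 8) • a + (7 / 16 : ℝ) • (b + μ b)) = 0 ∧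
    mul a ((4 : ℝ) • sg mul a b + (1 / 8 - 4 * B a b) • a + (1 / 16 : ℝ) • (b + μ b)) =
      (1 / 4 : ℝ) • ((4 : ℝ) • sg mul a b + (1 / 8 - 4 * B a b) • a + (1 / 16 : ℝ) • (b + μ b)) ∧
    mul a (sg mul a b) = (7 / 32 : ℝ) • sg mul a b + ((3 / 4) * B a b - 25 / 1024) • a
      + (7 / 2048 : ℝ) • (b + μ b) ∧
    B ((4 : ℝ) • sg mul a b + (1 / 8 - 4 * B a b) • a + (1 / 16 : ℝ) • (b + μ b))
      ((4 : ℝ) • sg mul a b + (1 / 8 - 4 * B a b) • a + (1 / 16 : ℝ) • (b + μ b)) =
      4 * (B a b - B a b * B a b - (1 - B b (μ b)) / 64) := by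
  obtain ⟨p, q, t, hb, hμb, hp, hq, ht⟩ := A.split b
  generalize hl : B a b = l at hb hμb ⊢
  have hab : mul a b = l • a + (1 / 4 : ℝ) • q + (1 / 32 : ℝ) • t := by
    conv_lhs => rw [hb]
    simp only [map_add, map_smul, A.idem, hp, hq, ht, add_zero]
  have hab' : mul a (μ b) = l • a + (1 / 4 : ℝ) • q - (1 / 32 : ℝ) • t := by
    rw [hμb]
    simp only [map_add, map_sub, map_smul, A.idem, hp, hq, ht, add_zero]
  have hinv : mul a (μ b) = sg mul a b + (1 / 32 : ℝ) • (a + μ b) := by
    rw [hab', sg, hab, hμb]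
    linear_combination (norm := module) (1 / 32 : ℝ) • hb
  have hq' : (4 : ℝ) • sg mul a b + (1 / 8 - 4 * l) • a + (1 / 16 : ℝ) • (b + μ b) = q := by
    rw [sg, hab, hμb]
    linear_combination (norm := module) (-(1 / 16) : ℝ) • hb
  have hp' : (-4 : ℝ) • sg mul a b + (3 * l - 1 / 8) • a + (7 / 16 : ℝ) • (b + μ b) = p := by
    rw [sg, hab, hμb]
    linear_combination (norm := module) (9 / 16 : ℝ) • hb
  refine ⟨hinv, hp'.symm ▸ hp, hq'.symm ▸ hq, ?_, ?_⟩
  · have h0 := hp'.symm ▸ hp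
    simp only [map_add, map_smul, A.idem, hinv, mul_eq_sg (mul := mul) a b] at h0
    linear_combination (norm := module) (-(1 / 4) : ℝ) • h0
  · rw [hq']
    have hzero : mul a p = (0 : ℝ) • p := by rw [hp, zero_smul]
    have ha : mul a a = (1 : ℝ) • a := by rw [A.idem, one_smul]
    have o1 : B a q = 0 := A.orth (c := 1) (d := 1 / 4) (by norm_num) ha hq
    have o2 : B a t = 0 := A.orth (c := 1) (d := 1 / 32) (by norm_num) ha ht
    have o3 : B p q = 0 := A.orth (c := 0) (d := 1 / 4) (by norm_num) hzero hq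
    have o4 : B p t = 0 := A.orth (c := 0) (d := 1 / 32) (by norm_num) hzero ht
    have o5 : B q t = 0 := A.orth (c := 1 / 4) (d := 1 / 32) (by norm_num) hq ht
    have o5' : B t q = 0 := by rw [A.amb.2.1, o5]
    have hbab : B b (mul a b) = l := by rw [A.comm, A.amb.2.2.2.1, hbb, A.amb.2.1, hl]
    have eba : B b a = l := by rw [A.amb.2.1, hl]
    have ebq : B b q = B q q := by
      conv_lhs => rw [hb]
      simp only [map_add, map_smul, LinearMap.add_apply, LinearMap.smul_apply, o1, o3, o5', smul_eq_mul]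
      ring
    have ebt : B b t = B t t := by
      conv_lhs => rw [hb]
      simp only [map_add, map_smul, LinearMap.add_apply, LinearMap.smul_apply, o2, o4, o5, smul_eq_mul]
      ring
    have htt : B b t = (1 - B b (μ b)) / 2 := by
      have e : t = (1 / 2 : ℝ) • (b - μ b) := by
        rw [hμb]
        linear_combination (norm := module) (-(1 / 2) : ℝ) • hb
      conv_lhs => rw [e]
      rw [map_smul, map_sub, hb1, smul_eq_mul]
      ring
    rw [hab, map_add, map_add, map_smul, map_smul, map_smul, eba, ebq, htt] at hbab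
    simp only [smul_eq_mul] at hbab
    linarith

/-- two axes: the product with the invariant of the far pair, and the square of the invariant -/
theorem Side.cross (A : Side mul B μ a) (Bs : Side mul B ν b) :
    mul a (sg mul b (μ b)) =
      ((1 / 6) * B a b - 19 / 3072) • (b + μ b) + (7 / 6144 : ℝ) • (ν a + μ (ν a))
      + (-(32 / 3) * (B a b * B a b) + (5 / 3) * B a b - (1 / 24) * B b (μ b) - 127 / 3072) • a
      + ((32 / 3) * B a b - 19 / 48) • sg mul a b + (7 / 96 : ℝ) • sg mul a (ν a) ∧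
    mul (sg mul a b) (sg mul a b) =
      ((49 / 768) * B a b - 245 / 196608) • (b + μ b) + (49 / 196608 : ℝ) • (ν a + μ (ν a))
      + ((7 / 6) * (B a b * B a b) - (7 / 384) * B a b + (7 / 1536) * B b (μ b) - 7 / 98304) • a
      + (-(5 / 12) * B a b - 13 / 1536) • sg mul a b + (-(7 / 1536) : ℝ) • sg mul a (ν a)
      + (7 / 2048 : ℝ) • sg mul b (μ b) := by
  obtain ⟨hinv, hP, hQ, haS, hQQ⟩ := A.basic Bs.idem Bs.norm
  obtain ⟨hinvb, -, -, hbS, -⟩ := Bs.basic A.idem A.norm
  have hBs : sg mul b a = sg mul a b := by rw [sg, sg, A.comm b a]; module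
  have hBl : B b a = B a b := A.amb.2.1 b a
  rw [hBs, hBl] at hbS
  have hμmul := A.pair.1
  have hμS : μ (sg mul a b) = sg mul a b := by
    conv_lhs => rw [sg]
    rw [map_sub, map_smul, map_add, hμmul, A.fix_self, hinv]
    module
  have hbS' : mul (μ b) (sg mul a b) = (7 / 32 : ℝ) • sg mul a b
      + ((3 / 4) * B a b - 25 / 1024) • μ b + (7 / 2048 : ℝ) • (a + μ (ν a)) := by
    have h := congrArg μ hbS
    rw [hμmul, hμS] at h
    simp only [map_add, map_smul, hμS, A.fix_self] at h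
    exact h
  have hcc : mul (ν a) (ν a) = ν a := by rw [← Bs.pair.1, A.idem]
  have hc1 : B (ν a) (ν a) = 1 := by rw [Bs.pair.2.1, A.norm]
  have hac' := (A.basic hcc hc1).1
  have hac := mul_eq_sg (mul := mul) a (ν a)
  have hab := mul_eq_sg (mul := mul) a b
  have hbb' := mul_eq_sg (mul := mul) b (μ b)
  have hb'b' : mul (μ b) (μ b) = μ b := by rw [← hμmul, Bs.idem]
  have hSa : mul (sg mul a b) a = mul a (sg mul a b) := A.comm _ _
  have hSb : mul (sg mul a b) b = mul b (sg mul a b) := A.comm _ _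
  have hSb' : mul (sg mul a b) (μ b) = mul (μ b) (sg mul a b) := A.comm _ _
  have hba : mul b a = mul a b := A.comm _ _
  have hb'a : mul (μ b) a = mul a (μ b) := A.comm _ _
  have hb'b : mul (μ b) b = mul b (μ b) := A.comm _ _
  generalize hl : B a b = l at *
  generalize hn : B b (μ b) = n at *
  generalize hS : sg mul a b = S at *
  generalize hPd : (-4 : ℝ) • S + (3 * l - 1 / 8) • a + (7 / 16 : ℝ) • (b + μ b) = P at hP
  generalize hQd : (4 : ℝ) • S + (1 / 8 - 4 * l) • a + (1 / 16 : ℝ) • (b + μ b) = Q at hQ hQQ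
  have hax := A.pair.2.2.1
  have mP : P ∈ eigen mul a 0 := mem_eigen.2 (by rw [hP, zero_smul])
  have mQ : Q ∈ eigen mul a (1 / 4) := mem_eigen.2 hQ
  have fPP : mul a (mul P P) = 0 := by
    rw [mem_eigen.1 (product_zero_zero hax mP mP), zero_smul]
  have fPQ : mul a (mul P Q) = (1 / 4 : ℝ) • mul P Q := mem_eigen.1 (product_zero_quarter hax mP mQ)
  have fQQ : mul a (mul Q Q) = (l - l * l - (1 - n) / 64) • a := by
    have hm := product_quarter_quarter hax mQ mQ
    rw [eigenSum_two, hax.2] at hm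
    obtain ⟨x, hx, z, hz, e⟩ := Submodule.mem_sup.1 hm
    obtain ⟨β, rfl⟩ := Submodule.mem_span_singleton.1 hx
    have hz' : mul a z = 0 := by rw [mem_eigen.1 hz, zero_smul]
    have hβ : B a (mul Q Q) = β := by
      rw [← e, map_add, map_smul, A.norm, smul_eq_mul]
      have : B a z = 0 := A.orth (c := 1) (d := 0) (by norm_num) (by rw [A.idem, one_smul]) (mem_eigen.1 hz)
      rw [this]; ring
    have hβ' : B a (mul Q Q) = (1 / 4 : ℝ) * B Q Q := by
      rw [A.amb.2.2.2.1, hQ, map_smul, LinearMap.smul_apply, smul_eq_mul]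
    have : β = l - l * l - (1 - n) / 64 := by linarith
    rw [← e, map_add, map_smul, A.idem, hz', add_zero, this]
  have fX : mul a (mul ((1 / 2 : ℝ) • (b + μ b) - l • a) ((1 / 2 : ℝ) • (b + μ b) - l • a)) =
      (1 / 2 : ℝ) • mul P Q + (l - l * l - (1 - n) / 64) • a := by
    have e : (1 / 2 : ℝ) • (b + μ b) - l • a = P + Q := by rw [← hPd, ← hQd]; module
    rw [e]
    simp only [map_add, LinearMap.add_apply, A.comm Q P, fPP, fPQ, fQQ]
    module
  have key : mul a (sg mul b (μ b)) =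
      ((1 / 6) * l - 19 / 3072) • (b + μ b) + (7 / 6144 : ℝ) • (ν a + μ (ν a))
      + (-(32 / 3) * (l * l) + (5 / 3) * l - (1 / 24) * n - 127 / 3072) • a
      + ((32 / 3) * l - 19 / 48) • S + (7 / 96 : ℝ) • sg mul a (ν a) := by
    rw [← hPd] at fPP
    rw [← hQd] at fQQ
    simp only [map_add, map_smul, LinearMap.add_apply, LinearMap.smul_apply, smul_add, smul_smul,
      A.idem, Bs.idem, hb'b', hSa, hSb, hSb', hba, hb'a, hb'b, haS, hbS, hbS', hab, hinv, hbb',
      hac, hac'] at fPP fQQ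
    linear_combination (norm := module) (8 / 3 : ℝ) • fPP - (8 / 3 : ℝ) • fQQ
  refine ⟨key, ?_⟩
  rw [← hPd, ← hQd] at fX
  simp only [map_add, map_sub, map_smul, LinearMap.add_apply, LinearMap.sub_apply, LinearMap.smul_apply,
    smul_add, smul_sub, smul_smul, A.idem, Bs.idem, hb'b', hSa, hSb, hSb', hba, hb'a, hb'b, haS, hbS,
    hbS', hab, hinv, hbb', hac, hac', key] at fX
  linear_combination (norm := module) (1 / 8 : ℝ) • fX

/-- the distances of the two kinds agree -/
theorem Side.far_eq (A : Side mul B μ a) (Bs : Side mul B ν b) : B a (ν a) = B b (μ b) := by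
  obtain ⟨hinv, -, -, haS, -⟩ := A.basic Bs.idem Bs.norm
  have key := (A.cross Bs).1
  have h := congrArg (B a) key
  rw [A.ax] at h
  have eb' : B a (μ b) = B a b := by
    have := A.pair.2.1 a b
    rwa [A.fix_self] at this
  have ec' : B a (μ (ν a)) = B a (ν a) := by
    have := A.pair.2.1 a (ν a)
    rwa [A.fix_self] at this
  have e1 : B a (mul a b) = B a b := A.ax b
  have e2 : B a (mul a (ν a)) = B a (ν a) := A.ax _
  have e3 : B a (mul b (μ b)) = B a b - (1 + B a b) / 32 + (B a b + B b (μ b)) / 32 := by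
    rw [A.amb.2.2.2.1]
    have f1 : B (mul a (μ b)) (μ b) = B a b := by
      rw [← A.amb.2.2.2.1, ← A.pair.1, Bs.idem, eb']
    rw [hinv] at f1
    rw [mul_eq_sg (mul := mul) a b]
    have f4 : B (μ b) (μ b) = 1 := by rw [A.pair.2.1, Bs.norm]
    simp only [map_add, map_smul, LinearMap.add_apply, LinearMap.smul_apply, smul_eq_mul, eb', f4] at f1 ⊢
    linarith
  simp only [sg, map_add, map_sub, map_smul, smul_eq_mul, A.norm, eb', ec', e1, e2, e3] at h
  linarith

end Cfsg.Agent.Spor.Sakuma
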