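/-
Sakuma's theorem: the axes of the dihedral group of two Majorana involutions and the six-transposition property.
-/
import Cfsg.Agent.Lib.Spor.Sakuma

set_option autoImplicit false
set_option maxHeartbeats 1000000

namespace Cfsg.Agent.Spor.Sakuma

open Cfsg.Axial

variable {V : Type*} [AddCommGroup V] [Module ℝ V]
variable {mul : V →ₗ[ℝ] V →ₗ[ℝ] V} {B : LinearMap.BilinForm ℝ V} {μ ν φ : V ≃ₗ[ℝ] V} {a b : V}

/-- an automorphism of the algebra carrying one axis to another intertwines the involutions -/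
theorem conj_eq (A : Side mul B μ a) (Bs : Side mul B ν b) (hφ : ∀ u v, φ (mul u v) = mul (φ u) (φ v))
    (hab : φ a = b) : φ * μ = ν * φ := by
  refine LinearEquiv.ext fun v => ?_
  show φ (μ v) = ν (φ v)
  obtain ⟨p, q, t, hv, hμv, hp, hq, ht⟩ := A.split v
  have hp' : mul b (φ p) = 0 := by rw [← hab, ← hφ, hp, map_zero]
  have hq' : mul b (φ q) = (1 / 4 : ℝ) • φ q := by rw [← hab, ← hφ, hq, map_smul]
  have ht' : mul b (φ t) = (1 / 32 : ℝ) • φ t := by rw [← hab, ← hφ, ht, map_smul]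
  have e1 : ν (B a v • b + φ p + φ q) = B a v • b + φ p + φ q :=
    Bs.pair.2.2.2.1 _ (by
      rw [eigenSum_three, add_assoc]
      exact Submodule.add_mem_sup (Submodule.smul_mem _ _ (mem_eigen.2 (by rw [Bs.idem, one_smul])))
        (Submodule.add_mem_sup (mem_eigen.2 (by rw [hp', zero_smul])) (mem_eigen.2 hq')))
  have e2 : ν (φ t) = -φ t := Bs.pair.2.2.2.2 _ (mem_eigen.2 ht')
  rw [hμv]
  conv_rhs => rw [hv]
  simp only [map_add, map_sub, map_smul, hab] at e1 ⊢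
  rw [e1, e2, sub_eq_add_neg]

/-- vectors at inner product one with squared length one are equal -/
theorem eq_of_one (hV : IsMajoranaAmbient mul B) {u v : V} (hu : B u u = 1) (hv : B v v = 1)
    (huv : B u v = 1) : u = v := by
  by_contra h
  have hp := hV.2.2.1 (u - v) (sub_ne_zero.2 h)
  simp only [map_sub, LinearMap.sub_apply, hu, hv, huv, hV.2.1 v u] at hp
  linarith

variable {μ₀ μ₁ : V ≃ₗ[ℝ] V} {a₀ a₁ : V}

/-- the axes of the dihedral group, in cyclic order -/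
def pt (μ₀ μ₁ : V ≃ₗ[ℝ] V) (a₀ a₁ : V) (i : ℤ) : V :=
  ((μ₁ * μ₀) ^ (i / 2) : V ≃ₗ[ℝ] V) (if i % 2 = 0 then a₀ else a₁)

local notation "P" => pt μ₀ μ₁ a₀ a₁

theorem pt_zero : P 0 = a₀ := by simp [pt]

theorem pt_one : P 1 = a₁ := by simp [pt]

theorem pt_add_two (i : ℤ) : P (i + 2) = μ₁ (μ₀ (P i)) := by
  rw [pt, pt, show (i + 2) / 2 = 1 + i / 2 by omega, show (i + 2) % 2 = i % 2 by omega, zpow_add, zpow_one]
  rfl

theorem par_induction {p : ℤ → Prop} (h0 : p 0) (h1 : p 1) (hs : ∀ i, p i ↔ p (i + 2)) (i : ℤ) : p i := by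
  suffices H : ∀ k : ℤ, p (2 * k) ∧ p (2 * k + 1) by
    rcases Int.even_or_odd' i with ⟨k, rfl | rfl⟩
    exacts [(H k).1, (H k).2]
  intro k
  induction k using Int.induction_on with
  | zero => exact ⟨h0, h1⟩
  | succ j ih =>
    rw [show 2 * ((j : ℤ) + 1) = 2 * j + 2 by ring, show 2 * (j : ℤ) + 2 + 1 = 2 * j + 1 + 2 by ring]
    exact ⟨(hs _).1 ih.1, (hs _).1 ih.2⟩
  | pred j ih =>
    rw [hs (2 * (-(j : ℤ) - 1)), hs (2 * (-(j : ℤ) - 1) + 1),
      show 2 * (-(j : ℤ) - 1) + 2 = 2 * -(j : ℤ) by ring,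
      show 2 * (-(j : ℤ) - 1) + 1 + 2 = 2 * -(j : ℤ) + 1 by ring]
    exact ih

section
variable (A : Side mul B μ₀ a₀) (Bs : Side mul B μ₁ a₁)
include A Bs

theorem pt_neg (i : ℤ) : μ₀ (P i) = P (-i) := by
  refine par_induction (p := fun i => μ₀ (P i) = P (-i)) ?_ ?_ (fun i => ?_) i
  · rw [pt_zero, A.fix_self, neg_zero, pt_zero]
  · have h := pt_add_two (μ₀ := μ₀) (μ₁ := μ₁) (a₀ := a₀) (a₁ := a₁) (-1)
    rw [show (-1 : ℤ) + 2 = 1 by norm_num, pt_one] at h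
    have h2 := congrArg μ₁ h
    rw [Bs.invol, Bs.fix_self] at h2
    rw [pt_one]
    conv_lhs => rw [h2]
    exact A.invol _
  · have h := pt_add_two (μ₀ := μ₀) (μ₁ := μ₁) (a₀ := a₀) (a₁ := a₁) (-(i + 2))
    rw [show -(i + 2) + 2 = -i by ring] at h
    rw [pt_add_two, h]
    constructor
    · intro e
      have e2 := congrArg μ₁ e
      rw [Bs.invol] at e2
      rw [e2, A.invol]
    · intro e
      rw [← e, A.invol, Bs.invol]

theorem pt_two_sub (i : ℤ) : μ₁ (P i) = P (2 - i) := by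
  rw [show 2 - i = -i + 2 by ring, pt_add_two, ← pt_neg A Bs i, A.invol]

theorem shift_mul (u v : V) : μ₁ (μ₀ (mul u v)) = mul (μ₁ (μ₀ u)) (μ₁ (μ₀ v)) := by
  rw [A.pair.1, Bs.pair.1]

theorem shift_form (u v : V) : B (μ₁ (μ₀ u)) (μ₁ (μ₀ v)) = B u v := by
  rw [Bs.pair.2.1, A.pair.2.1]

theorem B_shift (i j : ℤ) : B (P (i + 2)) (P (j + 2)) = B (P i) (P j) := by
  rw [pt_add_two, pt_add_two, shift_form A Bs]

theorem B_neg (i j : ℤ) : B (P (-i)) (P (-j)) = B (P i) (P j) := by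
  rw [← pt_neg A Bs, ← pt_neg A Bs, A.pair.2.1]

theorem B_diff (i : ℤ) : ∀ d : ℤ, B (P i) (P (i + d)) =
    if i % 2 = 0 then B a₀ (P d) else B a₁ (P (1 + d)) := by
  refine par_induction (p := fun i => ∀ d : ℤ, B (P i) (P (i + d)) =
    if i % 2 = 0 then B a₀ (P d) else B a₁ (P (1 + d))) (fun d => ?_) (fun d => ?_) (fun i => ?_) i
  · simp [pt_zero]
  · simp [pt_one]
  · rw [show (i + 2) % 2 = i % 2 by omega]
    exact ⟨fun h d => by rw [show i + 2 + d = i + d + 2 by ring, B_shift A Bs, h d],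
      fun h d => by rw [← h d, show i + 2 + d = i + d + 2 by ring, B_shift A Bs]⟩

theorem B_self (i : ℤ) : B (P i) (P i) = 1 := by
  have := B_diff A Bs i 0
  rw [add_zero] at this
  rw [this, pt_zero, add_zero, pt_one, A.norm, Bs.norm, ite_self]

/-- equal axes bound the order of the product -/
theorem pow_of_coincide {n : ℕ} (h : P (n : ℤ) = a₀ ∨ (2 ∣ n ∧ P (1 + n : ℤ) = a₁)) :
    (μ₀ * μ₁) ^ n = 1 := by
  have h00 : μ₀ * μ₀ = 1 := LinearEquiv.ext A.invol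
  have h11 : μ₁ * μ₁ = 1 := LinearEquiv.ext Bs.invol
  have hinv0 : μ₀⁻¹ = μ₀ := inv_eq_of_mul_eq_one_left h00
  have hinv1 : μ₁⁻¹ = μ₁ := inv_eq_of_mul_eq_one_left h11
  set r : V ≃ₗ[ℝ] V := μ₁ * μ₀ with hr
  suffices hrn : r ^ (n : ℤ) = 1 by
    rw [zpow_natCast] at hrn
    rw [show μ₀ * μ₁ = r⁻¹ by rw [hr, mul_inv_rev, hinv0, hinv1], inv_pow, hrn, inv_one]
  have haut : ∀ k : ℤ, ∀ u v, (r ^ k) (mul u v) = mul ((r ^ k) u) ((r ^ k) v) := by
    intro k
    induction k using Int.induction_on with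
    | zero => intro u v; rfl
    | succ j ih =>
      intro u v
      rw [zpow_add_one]
      show (r ^ (j : ℤ)) (μ₁ (μ₀ (mul u v))) = _
      rw [shift_mul A Bs, ih]; rfl
    | pred j ih =>
      intro u v
      rw [zpow_sub_one, show r⁻¹ = μ₀ * μ₁ by rw [hr, mul_inv_rev, hinv0, hinv1]]
      show (r ^ (-(j : ℤ))) (μ₀ (μ₁ (mul u v))) = _
      rw [Bs.pair.1, A.pair.1, ih]; rfl
  have hsc : SemiconjBy μ₀ r r⁻¹ := by
    show μ₀ * r = r⁻¹ * μ₀
    rw [hr, mul_inv_rev, hinv0, hinv1, mul_assoc]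
  have hc : ∀ k : ℤ, μ₀ * r ^ k = (r ^ k)⁻¹ * μ₀ := fun k => by
    have := (hsc.zpow_right k).eq
    rwa [inv_zpow] at this
  have h1r : μ₁ = r * μ₀ := by rw [hr, mul_assoc, h00, mul_one]
  obtain ⟨k, hk⟩ := Nat.even_or_odd' n
  rcases h with h | ⟨h2, h⟩
  · rcases hk with rfl | rfl
    · have e : (r ^ (k : ℤ)) a₀ = a₀ := by
        rw [pt, ← hr, show ((2 * k : ℕ) : ℤ) / 2 = (k : ℤ) by omega, if_pos (by omega)] at h
        exact h
      have hcj := conj_eq A A (haut k) e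
      rw [hc] at hcj
      have := mul_right_cancel hcj
      rw [show ((2 * k : ℕ) : ℤ) = (k : ℤ) + k by omega, zpow_add]
      conv_lhs => arg 1; rw [this]
      exact inv_mul_cancel _
    · have e : (r ^ (k : ℤ)) a₁ = a₀ := by
        rw [pt, ← hr, show ((2 * k + 1 : ℕ) : ℤ) / 2 = (k : ℤ) by omega, if_neg (by omega)] at h
        exact h
      have hcj := conj_eq Bs A (haut k) e
      rw [hc, h1r, ← mul_assoc] at hcj
      have := mul_right_cancel hcj
      rw [show ((2 * k + 1 : ℕ) : ℤ) = k + (k + 1) by omega, zpow_add, zpow_add_one r (k : ℤ)]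
      conv_lhs => arg 2; rw [this]
      exact mul_inv_cancel _
  · obtain ⟨k, rfl⟩ := h2
    have e : (r ^ (k : ℤ)) a₁ = a₁ := by
      rw [pt, ← hr, show (1 + ((2 * k : ℕ) : ℤ)) / 2 = (k : ℤ) by omega, if_neg (by omega)] at h
      exact h
    have hcj := conj_eq Bs Bs (haut k) e
    have hz : r ^ (k : ℤ) * r = r * r ^ (k : ℤ) := (Commute.zpow_self r k).eq
    have e2 : r ^ (k : ℤ) = (r ^ (k : ℤ))⁻¹ := by
      refine mul_left_cancel (a := r) (mul_right_cancel (b := μ₀) ?_)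
      calc r * r ^ (k : ℤ) * μ₀ = r ^ (k : ℤ) * (r * μ₀) := by rw [← hz]; exact mul_assoc _ r _
        _ = r * μ₀ * r ^ (k : ℤ) := by rw [← h1r]; exact hcj
        _ = r * (r ^ (k : ℤ))⁻¹ * μ₀ := by
          rw [mul_assoc r μ₀ (r ^ (k : ℤ)), hc, mul_assoc r (r ^ (k : ℤ))⁻¹ μ₀]
    rw [show ((2 * k : ℕ) : ℤ) = (k : ℤ) + k by omega, zpow_add]
    conv_lhs => arg 1; rw [e2]
    exact inv_mul_cancel _

end

end Cfsg.Agent.Spor.Sakuma
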