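/-
Sakuma's theorem: the inner products of the axes and the conclusion.
-/
import Cfsg.Agent.Lib.Spor.SakumaDihedral

set_option autoImplicit false
set_option maxHeartbeats 2000000
set_option maxRecDepth 10000

namespace Cfsg.Agent.Spor.Sakuma

open Cfsg.Axial

variable {V : Type*} [AddCommGroup V] [Module ℝ V]
variable {mul : V →ₗ[ℝ] V →ₗ[ℝ] V} {B : LinearMap.BilinForm ℝ V} {μ ν : V ≃ₗ[ℝ] V} {a b : V}

theorem Side.fix_sg (A : Side mul B μ a) (hbb : mul b b = b) (hb1 : B b b = 1) :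
    μ (sg mul a b) = sg mul a b := by
  conv_lhs => rw [sg]
  rw [map_sub, map_smul, map_add, A.pair.1, A.fix_self, (A.basic hbb hb1).1]
  module

theorem sg_comm (A : Side mul B μ a) (x y : V) : sg mul x y = sg mul y x := by
  rw [sg, sg, A.comm x y, add_comm x y]

theorem Side.dot_near (A : Side mul B μ a) (b : V) : B a (sg mul a b) = B a b - (1 + B a b) / 32 := by
  rw [sg, map_sub, map_smul, map_add, A.ax, A.norm, smul_eq_mul]; ring

theorem Side.dot_far (A : Side mul B μ a) (Bs : Side mul B ν b) :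
    B a (sg mul b (μ b)) = (B a b - (1 + B a b) / 32) + (B a b + B b (μ b)) / 32 - 2 * B a b / 32 := by
  have hinv := (A.basic Bs.idem Bs.norm).1
  have eb' : B a (μ b) = B a b := by
    have := A.pair.2.1 a b
    rwa [A.fix_self] at this
  have f1 : B (mul a (μ b)) (μ b) = B a b := by
    rw [← A.amb.2.2.2.1, ← A.pair.1, Bs.idem, eb']
  rw [hinv] at f1
  have f4 : B (μ b) (μ b) = 1 := by rw [A.pair.2.1, Bs.norm]
  have e3 : B a (mul b (μ b)) = B (sg mul a b) (μ b) + (1 / 32) * (B a b + B b (μ b)) := by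
    rw [A.amb.2.2.2.1, mul_eq_sg (mul := mul) a b]
    simp only [map_add, map_smul, LinearMap.add_apply, LinearMap.smul_apply, smul_eq_mul, eb']
  conv_lhs => rw [sg]
  simp only [map_add, map_sub, map_smul, LinearMap.add_apply, LinearMap.smul_apply, smul_eq_mul, eb', f4,
    e3] at f1 ⊢
  linarith

variable {μ₀ μ₁ : V ≃ₗ[ℝ] V} {a₀ a₁ : V}

local notation "P" => pt μ₀ μ₁ a₀ a₁

theorem six_transposition (A : Side mul B μ₀ a₀) (Bs : Side mul B μ₁ a₁) :
    ∃ n : ℕ, 1 ≤ n ∧ n ≤ 6 ∧ (μ₀ * μ₁) ^ n = 1 := by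
  have hsym := A.amb.2.1
  -- the first axes
  have p0 : a₀ = P 0 := pt_zero.symm
  have p1 : a₁ = P 1 := pt_one.symm
  have hn := pt_neg A Bs
  have ht := pt_two_sub A Bs
  have n1 : μ₀ (P 1) = P (-1) := hn 1
  have n2 : μ₀ (P 2) = P (-2) := hn 2
  have t0 : μ₁ (P 0) = P 2 := by simpa using ht 0
  have tm1 : μ₁ (P (-1)) = P 3 := by simpa using ht (-1)
  have A' : Side mul B μ₀ (P 0) := p0 ▸ A
  have Bs' : Side mul B μ₁ (P 1) := p1 ▸ Bs
  have hid : ∀ i, mul (P i) (P i) = P i :=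
    par_induction (p := fun i => mul (P i) (P i) = P i) A'.idem Bs'.idem fun i => by
      rw [pt_add_two, ← shift_mul A Bs]
      exact ⟨fun h => by rw [h], fun h => μ₀.injective (μ₁.injective h)⟩
  have hone := B_self A Bs
  -- inner products of axes
  generalize hl : B a₀ a₁ = l
  generalize hm : B a₀ (P 2) = m
  generalize hL3 : B a₀ (P 3) = L3
  generalize hL4 : B a₀ (P 4) = L4
  generalize hL5 : B a₀ (P 5) = L5
  generalize hO4 : B a₁ (P 5) = O4
  generalize hO6 : B a₁ (P 7) = O6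
  generalize hL6 : B a₀ (P 6) = L6
  have hfar : B a₁ (P (-1)) = m := by
    rw [← hm, ← t0, ← p0, ← n1, ← p1]; exact (A.far_eq Bs).symm
  have hq : ∀ (i d : ℤ) (v : ℝ), (if i % 2 = 0 then B a₀ (P d) else B a₁ (P (1 + d))) = v →
      B (P i) (P (i + d)) = v := fun i d v h => (B_diff A Bs i d).trans h
  have hswap : ∀ d : ℤ, (1 + d) % 2 = 0 → B a₁ (P (1 + d)) = B a₀ (P d) := fun d hd => by
    have h := B_diff A Bs (1 + d) (-d)
    rw [add_neg_cancel_right, if_pos hd, pt_one] at h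
    rw [hsym, h]
    have h2 := B_neg A Bs 0 d
    rw [neg_zero, pt_zero] at h2
    exact h2
  have b0 : B a₀ (P 1) = l := by rw [pt_one, hl]
  have b1 := hm
  have b2 := hL3
  have b3 := hL4
  have b4 := hL5
  have b5 := hL6
  have b6 := hO4
  have c1 : B a₁ (P 2) = l := by have := hswap 1 (by norm_num); norm_num [b0] at this; exact this
  have c2 : B a₁ (P 3) = m := by
    have := Bs.pair.2.1 a₁ (P (-1))
    rw [Bs.fix_self, tm1, hfar] at this
    exact this
  have c3 : B a₁ (P 4) = L3 := by have := hswap 3 (by norm_num); norm_num [b2] at this; exact this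
  have c4 := hO4
  have c5 : B a₁ (P 6) = L5 := by have := hswap 5 (by norm_num); norm_num [b4] at this; exact this
  have c6 := hO6
  have qm3_m2 : B (P (-3)) (P (-2)) = l := hq (-3) 1 _ (by norm_num [b0, b1, b2, b3, b4, b5, b6, c1, c2, c3, c4, c5, c6])
  have qm3_m1 : B (P (-3)) (P (-1)) = m := hq (-3) 2 _ (by norm_num [b0, b1, b2, b3, b4, b5, b6, c1, c2, c3, c4, c5, c6])
  have qm3_0 : B (P (-3)) (P 0) = L3 := hq (-3) 3 _ (by norm_num [b0, b1, b2, b3, b4, b5, b6, c1, c2, c3, c4, c5, c6])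
  have qm3_1 : B (P (-3)) (P 1) = O4 := hq (-3) 4 _ (by norm_num [b0, b1, b2, b3, b4, b5, b6, c1, c2, c3, c4, c5, c6])
  have qm3_2 : B (P (-3)) (P 2) = L5 := hq (-3) 5 _ (by norm_num [b0, b1, b2, b3, b4, b5, b6, c1, c2, c3, c4, c5, c6])
  have qm3_3 : B (P (-3)) (P 3) = O6 := hq (-3) 6 _ (by norm_num [b0, b1, b2, b3, b4, b5, b6, c1, c2, c3, c4, c5, c6])
  have qm2_m2 : B (P (-2)) (P (-2)) = 1 := B_self A Bs _
  have qm2_m1 : B (P (-2)) (P (-1)) = l := hq (-2) 1 _ (by norm_num [b0, b1, b2, b3, b4, b5, b6, c1, c2, c3, c4, c5, c6])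
  have qm2_0 : B (P (-2)) (P 0) = m := hq (-2) 2 _ (by norm_num [b0, b1, b2, b3, b4, b5, b6, c1, c2, c3, c4, c5, c6])
  have qm2_1 : B (P (-2)) (P 1) = L3 := hq (-2) 3 _ (by norm_num [b0, b1, b2, b3, b4, b5, b6, c1, c2, c3, c4, c5, c6])
  have qm2_2 : B (P (-2)) (P 2) = L4 := hq (-2) 4 _ (by norm_num [b0, b1, b2, b3, b4, b5, b6, c1, c2, c3, c4, c5, c6])
  have qm2_3 : B (P (-2)) (P 3) = L5 := hq (-2) 5 _ (by norm_num [b0, b1, b2, b3, b4, b5, b6, c1, c2, c3, c4, c5, c6])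
  have qm1_m2 : B (P (-1)) (P (-2)) = l := (hsym _ _).trans (hq (-2) 1 _ (by norm_num [b0, b1, b2, b3, b4, b5, b6, c1, c2, c3, c4, c5, c6]))
  have qm1_m1 : B (P (-1)) (P (-1)) = 1 := B_self A Bs _
  have qm1_0 : B (P (-1)) (P 0) = l := hq (-1) 1 _ (by norm_num [b0, b1, b2, b3, b4, b5, b6, c1, c2, c3, c4, c5, c6])
  have qm1_1 : B (P (-1)) (P 1) = m := hq (-1) 2 _ (by norm_num [b0, b1, b2, b3, b4, b5, b6, c1, c2, c3, c4, c5, c6])
  have qm1_2 : B (P (-1)) (P 2) = L3 := hq (-1) 3 _ (by norm_num [b0, b1, b2, b3, b4, b5, b6, c1, c2, c3, c4, c5, c6])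
  have qm1_3 : B (P (-1)) (P 3) = O4 := hq (-1) 4 _ (by norm_num [b0, b1, b2, b3, b4, b5, b6, c1, c2, c3, c4, c5, c6])
  have q0_m2 : B (P 0) (P (-2)) = m := (hsym _ _).trans (hq (-2) 2 _ (by norm_num [b0, b1, b2, b3, b4, b5, b6, c1, c2, c3, c4, c5, c6]))
  have q0_m1 : B (P 0) (P (-1)) = l := (hsym _ _).trans (hq (-1) 1 _ (by norm_num [b0, b1, b2, b3, b4, b5, b6, c1, c2, c3, c4, c5, c6]))
  have q0_0 : B (P 0) (P 0) = 1 := B_self A Bs _
  have q0_1 : B (P 0) (P 1) = l := hq 0 1 _ (by norm_num [b0, b1, b2, b3, b4, b5, b6, c1, c2, c3, c4, c5, c6])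
  have q0_2 : B (P 0) (P 2) = m := hq 0 2 _ (by norm_num [b0, b1, b2, b3, b4, b5, b6, c1, c2, c3, c4, c5, c6])
  have q0_3 : B (P 0) (P 3) = L3 := hq 0 3 _ (by norm_num [b0, b1, b2, b3, b4, b5, b6, c1, c2, c3, c4, c5, c6])
  have q0_4 : B (P 0) (P 4) = L4 := hq 0 4 _ (by norm_num [b0, b1, b2, b3, b4, b5, b6, c1, c2, c3, c4, c5, c6])
  have q0_5 : B (P 0) (P 5) = L5 := hq 0 5 _ (by norm_num [b0, b1, b2, b3, b4, b5, b6, c1, c2, c3, c4, c5, c6])
  have q2_m2 : B (P 2) (P (-2)) = L4 := (hsym _ _).trans (hq (-2) 4 _ (by norm_num [b0, b1, b2, b3, b4, b5, b6, c1, c2, c3, c4, c5, c6]))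
  have q2_m1 : B (P 2) (P (-1)) = L3 := (hsym _ _).trans (hq (-1) 3 _ (by norm_num [b0, b1, b2, b3, b4, b5, b6, c1, c2, c3, c4, c5, c6]))
  have q2_0 : B (P 2) (P 0) = m := (hsym _ _).trans (hq 0 2 _ (by norm_num [b0, b1, b2, b3, b4, b5, b6, c1, c2, c3, c4, c5, c6]))
  have q2_1 : B (P 2) (P 1) = l := (hsym _ _).trans (hq 1 1 _ (by norm_num [b0, b1, b2, b3, b4, b5, b6, c1, c2, c3, c4, c5, c6]))
  have q2_2 : B (P 2) (P 2) = 1 := B_self A Bs _
  have q2_3 : B (P 2) (P 3) = l := hq 2 1 _ (by norm_num [b0, b1, b2, b3, b4, b5, b6, c1, c2, c3, c4, c5, c6])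

  -- the invariant vectors
  generalize hS : sg mul (P 0) (P 1) = S
  generalize hSe : sg mul (P 0) (P 2) = Se
  generalize hSo : sg mul (P 1) (P (-1)) = So
  obtain ⟨i01, -, -, aS, -⟩ := A'.basic (hid 1) (hone 1)
  obtain ⟨i02, -, -, aSe, -⟩ := A'.basic (hid 2) (hone 2)
  obtain ⟨i10, -, -, -, -⟩ := Bs'.basic (hid 0) (hone 0)
  obtain ⟨i1m, -, -, bSo, -⟩ := Bs'.basic (hid (-1)) (hone (-1))
  obtain ⟨aSo, s0⟩ := A'.cross Bs'
  obtain ⟨bSe, s1⟩ := Bs'.cross A'
  have hS' : sg mul (P 1) (P 0) = S := by rw [sg_comm A, hS]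
  have fS0 : μ₀ S = S := by rw [← hS]; exact A'.fix_sg (hid 1) (hone 1)
  have fS1 : μ₁ S = S := by rw [← hS']; exact Bs'.fix_sg (hid 0) (hone 0)
  have fSe0 : μ₀ Se = Se := by rw [← hSe]; exact A'.fix_sg (hid 2) (hone 2)
  have fSe1 : μ₁ Se = Se := by
    have e : μ₁ (P 2) = P 0 := by simpa using ht 2
    rw [← hSe]
    conv_lhs => rw [sg, map_sub, map_smul, map_add, Bs.pair.1, e, t0]
    rw [sg, A.comm (P 2) (P 0)]; module
  have fSo1 : μ₁ So = So := by rw [← hSo]; exact Bs'.fix_sg (hid (-1)) (hone (-1))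
  have fSo0 : μ₀ So = So := by
    have e : μ₀ (P (-1)) = P 1 := by simpa using hn (-1)
    rw [← hSo]
    conv_lhs => rw [sg, map_sub, map_smul, map_add, A.pair.1, e, n1]
    rw [sg, A.comm (P (-1)) (P 1)]; module
  have w0S : B (P 0) S = l - (1 + l) / 32 := by rw [← hS, A'.dot_near, q0_1]
  have q10 : B (P 1) (P 0) = l := by rw [hsym, q0_1]
  have w1S : B (P 1) S = l - (1 + l) / 32 := by rw [← hS', Bs'.dot_near, q10]
  have w0Se : B (P 0) Se = m - (1 + m) / 32 := by rw [← hSe, A'.dot_near, q0_2]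
  have q1m : B (P 1) (P (-1)) = m := by rw [pt_one]; exact hfar
  have w1So : B (P 1) So = m - (1 + m) / 32 := by rw [← hSo, Bs'.dot_near, q1m]
  have w0So : B (P 0) So = (l - (1 + l) / 32) + (l + m) / 32 - 2 * l / 32 := by
    have := A'.dot_far Bs'
    rwa [n1, hSo, q0_1, q1m] at this
  have w1Se : B (P 1) Se = (l - (1 + l) / 32) + (l + m) / 32 - 2 * l / 32 := by
    have := Bs'.dot_far A'
    rwa [t0, hSe, q10, q0_2] at this
  have hW : ∀ W : V, μ₀ W = W → μ₁ W = W → ∀ i, B (P i) W = if i % 2 = 0 then B (P 0) W else B (P 1) W := by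
    intro W h0 h1
    refine par_induction (p := fun i => B (P i) W = if i % 2 = 0 then B (P 0) W else B (P 1) W)
      (by simp) (by simp) fun i => ?_
    have h := shift_form A Bs (P i) W
    rw [h0, h1, ← pt_add_two] at h
    rw [show (i + 2) % 2 = i % 2 by omega, h]
  have vS := hW S fS0 fS1
  have vSe := hW Se fSe0 fSe1
  have vSo := hW So fSo0 fSo1
  simp only [n1, n2, t0, tm1, hS, hSe, hSo, hS', q0_1, q0_2, q1m, q10] at aS aSe aSo bSo bSe s0 s1 i10 i1m
  have uSm3 : B (P (-3)) S = l - (1 + l) / 32 := (vS (-3)).trans ((if_neg (by norm_num)).trans w1S)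
  have uSm2 : B (P (-2)) S = l - (1 + l) / 32 := (vS (-2)).trans ((if_pos (by norm_num)).trans w0S)
  have uSm1 : B (P (-1)) S = l - (1 + l) / 32 := (vS (-1)).trans ((if_neg (by norm_num)).trans w1S)
  have uS2 : B (P 2) S = l - (1 + l) / 32 := (vS 2).trans ((if_pos (by norm_num)).trans w0S)
  have uS3 : B (P 3) S = l - (1 + l) / 32 := (vS 3).trans ((if_neg (by norm_num)).trans w1S)
  have uSem3 : B (P (-3)) Se = (l - (1 + l) / 32) + (l + m) / 32 - 2 * l / 32 := (vSe (-3)).trans ((if_neg (by norm_num)).trans w1Se)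
  have uSem2 : B (P (-2)) Se = m - (1 + m) / 32 := (vSe (-2)).trans ((if_pos (by norm_num)).trans w0Se)
  have uSem1 : B (P (-1)) Se = (l - (1 + l) / 32) + (l + m) / 32 - 2 * l / 32 := (vSe (-1)).trans ((if_neg (by norm_num)).trans w1Se)
  have uSe2 : B (P 2) Se = m - (1 + m) / 32 := (vSe 2).trans ((if_pos (by norm_num)).trans w0Se)
  have uSe3 : B (P 3) Se = (l - (1 + l) / 32) + (l + m) / 32 - 2 * l / 32 := (vSe 3).trans ((if_neg (by norm_num)).trans w1Se)
  have uSom3 : B (P (-3)) So = m - (1 + m) / 32 := (vSo (-3)).trans ((if_neg (by norm_num)).trans w1So)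
  have uSom2 : B (P (-2)) So = (l - (1 + l) / 32) + (l + m) / 32 - 2 * l / 32 := (vSo (-2)).trans ((if_pos (by norm_num)).trans w0So)
  have uSom1 : B (P (-1)) So = m - (1 + m) / 32 := (vSo (-1)).trans ((if_neg (by norm_num)).trans w1So)
  have uSo2 : B (P 2) So = (l - (1 + l) / 32) + (l + m) / 32 - 2 * l / 32 := (vSo 2).trans ((if_pos (by norm_num)).trans w0So)
  have uSo3 : B (P 3) So = m - (1 + m) / 32 := (vSo 3).trans ((if_neg (by norm_num)).trans w1So)
  -- the linear relation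
  have R : (P (-2) - P 3) + (256 * l - 6) • (P (-1) - P 2)
      + ((32768 * (l * l) - 2304 * l + 128 * m + 33) / 7) • (P 0 - P 1) - (32 : ℝ) • (Se - So) = 0 := by
    linear_combination (norm := module) (196608 / 49 : ℝ) • s1 - (196608 / 49 : ℝ) • s0
  have E : ∀ j : ℤ, B (P j) (P (-2)) - B (P j) (P 3) + (256 * l - 6) * (B (P j) (P (-1)) - B (P j) (P 2))
      + ((32768 * (l * l) - 2304 * l + 128 * m + 33) / 7) * (B (P j) (P 0) - B (P j) (P 1))
      - 32 * (B (P j) Se - B (P j) So) = 0 := fun j => by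
    have h := congrArg (B (P j)) R
    simpa only [map_add, map_sub, map_smul, smul_eq_mul, map_zero] using h
  have E0 := E 0
  have E2 := E 2
  have Em2 := E (-2)
  have Em1 := E (-1)
  have Em3 := E (-3)
  simp only [qm3_m2, qm3_m1, qm3_0, qm3_1, qm3_2, qm3_3, qm2_m2, qm2_m1, qm2_0, qm2_1, qm2_2, qm2_3, qm1_m2, qm1_m1, qm1_0, qm1_1, qm1_2, qm1_3, q0_m2, q0_m1, q0_0, q0_1, q0_2, q0_3, q0_4, q0_5, q2_m2, q2_m1, q2_0, q2_1, q2_2, q2_3, uSm3, uSm2, uSm1, uS2, uS3, uSem3, uSem2, uSem1, uSe2, uSe3, uSom3, uSom2, uSom1, uSo2, uSo3, w0Se, w0So, w1Se, w1So] at E0 E2 Em2 Em1 Em3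
  have h3 : L3 = -(32768 / 7) * l ^ 3 - 1920 / 7 * (l * m) + 36864 / 7 * l ^ 2 - 2169 / 7 * l - 33 / 7 * m + 33 / 7 := by
    linarith
  subst h3
  have h4 : L4 = 8388608 / 7 * l ^ 4 + 65536 * (l ^ 2 * m) - 9601024 / 7 * l ^ 3 - 640 / 7 * (l * m) + 110592 * l ^ 2
      - 128 / 7 * m ^ 2 - 19840 / 7 * l - 3 * m + 156 / 7 := by linarith
  subst h4
  have h4' : O4 = 8388608 / 7 * l ^ 4 + 65536 * (l ^ 2 * m) - 9601024 / 7 * l ^ 3 - 640 / 7 * (l * m) + 110592 * l ^ 2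
      - 128 / 7 * m ^ 2 - 19840 / 7 * l - 3 * m + 156 / 7 := by linarith
  subst h4'
  have h5 : L5 = -(13958643712 / 49) * l ^ 5 - 754974720 / 49 * (l ^ 3 * m) + 16273899520 / 49 * l ^ 4
      + 475136 / 49 * (l * m ^ 2) + 12582912 / 49 * (l ^ 2 * m) - 1633419264 / 49 * l ^ 3 + 259584 / 49 * (l * m)
      + 8683520 / 7 * l ^ 2 - 256 / 49 * m ^ 2 - 137721 / 7 * l - 5256 / 49 * m + 5512 / 49 := by linarith
  subst h5
  -- the relation against the invariant of the even axes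
  have dot : ∀ W : V, B Se W = B (P 2) (mul (P 0) W) - (B (P 0) W + B (P 2) W) / 32 := fun W => by
    rw [A.amb.2.2.2.1 (P 2) (P 0) W, A.comm (P 2) (P 0), ← hSe, sg]
    simp only [map_sub, map_add, map_smul, LinearMap.sub_apply, LinearMap.add_apply, LinearMap.smul_apply, smul_eq_mul]
    ring
  have F0 : B Se (P (-2)) - B Se (P 3) + (256 * l - 6) * (B Se (P (-1)) - B Se (P 2))
      + ((32768 * (l * l) - 2304 * l + 128 * m + 33) / 7) * (B Se (P 0) - B Se (P 1))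
      - 32 * (B Se Se - B Se So) = 0 := by
    have h := congrArg (B Se) R
    simpa only [map_add, map_sub, map_smul, smul_eq_mul, map_zero] using h
  rw [hsym Se (P (-2)), hsym Se (P 3), hsym Se (P (-1)), hsym Se (P 2), hsym Se (P 0), hsym Se (P 1),
    dot Se, dot So, aSe, aSo] at F0
  simp only [map_add, map_smul, smul_eq_mul, n2, qm3_m2, qm3_m1, qm3_0, qm3_1, qm3_2, qm3_3, qm2_m2, qm2_m1, qm2_0, qm2_1, qm2_2, qm2_3, qm1_m2, qm1_m1, qm1_0, qm1_1, qm1_2, qm1_3, q0_m2, q0_m1, q0_0, q0_1, q0_2, q0_3, q0_4, q0_5, q2_m2, q2_m1, q2_0, q2_1, q2_2, q2_3, uSm3, uSm2, uSm1, uS2, uS3, uSem3, uSem2, uSem1, uSe2, uSe3, uSom3, uSom2, uSom1, uSo2, uSo3, w0S, w1S, w0Se, w0So, w1Se, w1So] at F0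
  -- the product with a further axis
  have sh : ∀ u v w : V, mul u v = w → mul (μ₁ (μ₀ u)) (μ₁ (μ₀ v)) = μ₁ (μ₀ w) := fun u v w h => by
    rw [← shift_mul A Bs, h]
  have g1 := sh _ _ _ ((mul_eq_sg (mul := mul) (P 1) (P (-1))).trans (by rw [hSo]))
  have g2 := sh _ _ _ ((mul_eq_sg (mul := mul) (P 1) (P 0)).trans (by rw [hS']))
  have g4 := sh _ _ _ i10
  have g5 := sh _ _ _ i1m
  have gSo := sh _ _ _ bSo
  have gSe := sh _ _ _ bSe
  simp only [map_add, map_smul, ← pt_add_two, fS0, fS1, fSe0, fSe1, fSo0, fSo1, Int.reduceAdd, Int.reduceNeg,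
    neg_add_cancel, zero_add] at g1 g2 g4 g5 gSo gSe
  have R2 := congrArg (fun v => μ₁ (μ₀ v)) R
  simp only [map_add, map_sub, map_smul, map_zero, ← pt_add_two, fSe0, fSe1, fSo0, fSo1, Int.reduceAdd,
    Int.reduceNeg, neg_add_cancel, zero_add] at R2
  have H0 := congrArg (fun v => B (P 0) (mul (P 3) v)) R2
  have e30 : B (P 0) (mul (P 3) (P 0)) = B (P 0) (P 3) := by rw [A.comm (P 3) (P 0), A'.ax]
  simp only [map_add, map_sub, map_smul, map_zero, smul_eq_mul, e30, g1, g2, g4, g5, gSo, gSe, hid 3,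
    qm3_m2, qm3_m1, qm3_0, qm3_1, qm3_2, qm3_3, qm2_m2, qm2_m1, qm2_0, qm2_1, qm2_2, qm2_3, qm1_m2, qm1_m1, qm1_0, qm1_1, qm1_2, qm1_3, q0_m2, q0_m1, q0_0, q0_1, q0_2, q0_3, q0_4, q0_5, q2_m2, q2_m1, q2_0, q2_1, q2_2, q2_3, w0S, w0Se, w0So] at H0
  -- the possible inner products
  have hG : (64 * l - 1) * ((16384 * l ^ 2 + 37888 * l + 195) * m
      + (4194304 * l ^ 4 - 4358144 * l ^ 3 + 102400 * l ^ 2 + 7168 * l - 195)) = 0 := by
    linear_combination (784 / 45) * H0 - (784 / 45) * (289406976 / 343 * l + 8552448 / 343) * (49 / 196608) * F0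
  have one : ∀ {i : ℤ}, B a₀ (P i) = 1 → P i = a₀ := fun {i} h => (eq_of_one A.amb A.norm (hone i) h).symm
  have two : ∀ n : ℕ, 1 ≤ n → n ≤ 6 → B a₀ (P (n : ℤ)) = 1 → ∃ n : ℕ, 1 ≤ n ∧ n ≤ 6 ∧ (μ₀ * μ₁) ^ n = 1 :=
    fun n h1 h6 h => ⟨n, h1, h6, pow_of_coincide A Bs (Or.inl (one h))⟩
  rcases mul_eq_zero.1 hG with hl64 | hde
  · obtain rfl : l = 1 / 64 := by linarith only [hl64]
    have hq2 : (m - 1 / 64) * (m - 1 / 8) = 0 := by
      linear_combination (-(4096 / 7 : ℝ) * (49 / 196608)) * F0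
    rcases mul_eq_zero.1 hq2 with h | h
    · obtain rfl : m = 1 / 64 := by linarith only [h]
      exact two 3 (by norm_num) (by norm_num) (hL3.trans (by norm_num))
    · obtain rfl : m = 1 / 8 := by linarith only [h]
      exact two 4 (by norm_num) (by norm_num) (hL4.trans (by norm_num))
  · have hp7 : l * (l - 1) * (8 * l - 1) * (256 * l - 13) * (32 * l - 1) * (128 * l - 3) * (256 * l - 5) = 0 := by
      linear_combination (1 / 3211264) * (((16384 * l ^ 2 + 37888 * l + 195) ^ 2 * (524288 / 7 * (49 / 196608))) * F0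
        - (-128 * ((16384 * l ^ 2 + 37888 * l + 195) * m
            - (4194304 * l ^ 4 - 4358144 * l ^ 3 + 102400 * l ^ 2 + 7168 * l - 195))
          + (-40960 * l ^ 2 - 8896 * l + 167) * (16384 * l ^ 2 + 37888 * l + 195)) * hde)
    simp only [mul_eq_zero] at hp7
    rcases hp7 with (((((h | h) | h) | h) | h) | h) | h
    · subst h
      obtain rfl : m = 1 := by linarith only [hde]
      exact two 2 (by norm_num) (by norm_num) hm
    · obtain rfl : l = 1 := by linarith only [h]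
      exact two 1 (by norm_num) (by norm_num) b0
    · obtain rfl : l = 1 / 8 := by linarith only [h]
      obtain rfl : m = 1 := by linarith only [hde]
      exact two 2 (by norm_num) (by norm_num) hm
    · obtain rfl : l = 13 / 256 := by linarith only [h]
      obtain rfl : m = 13 / 256 := by linarith only [hde]
      exact two 3 (by norm_num) (by norm_num) (hL3.trans (by norm_num))
    · obtain rfl : l = 1 / 32 := by linarith only [h]
      obtain rfl : m = 0 := by linarith only [hde]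
      exact two 4 (by norm_num) (by norm_num) (hL4.trans (by norm_num))
    · obtain rfl : l = 3 / 128 := by linarith only [h]
      obtain rfl : m = 3 / 128 := by linarith only [hde]
      exact two 5 (by norm_num) (by norm_num) (hL5.trans (by norm_num))
    · obtain rfl : l = 5 / 256 := by linarith only [h]
      obtain rfl : m = 13 / 256 := by linarith only [hde]
      have h6 : O6 = 1 := by linarith only [Em3]
      refine ⟨6, by norm_num, le_rfl, pow_of_coincide A Bs (Or.inr ⟨by norm_num, ?_⟩)⟩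
      exact (eq_of_one A.amb Bs.norm (hone 7) (hO6.trans h6)).symm

end Cfsg.Agent.Spor.Sakuma
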