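import Cfsg.Agent.Lib.Spor.SteinerCount
import Mathlib

/-!
Self-orthogonal binary codes of length 24, dimension 12 and minimum weight at least 8.
-/

set_option autoImplicit false

namespace Cfsg.Agent.Spor.Code24

open Finset

variable {ι : Type*} [Fintype ι] [DecidableEq ι]

/-- The support of a word. -/
def supp (v : ι → ZMod 2) : Finset ι := univ.filter fun p => v p ≠ 0

/-- The indicator word of a set. -/
def ind (U : Finset ι) : ι → ZMod 2 := fun p => if p ∈ U then 1 else 0

omit [DecidableEq ι] in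
theorem norm_eq (v : ι → ZMod 2) : hammingNorm v = (supp v).card := rfl

omit [Fintype ι] in
theorem zmod_two (x : ZMod 2) : x = 0 ∨ x = 1 := by revert x; decide

theorem supp_ind (U : Finset ι) : supp (ind U) = U := by
  ext p
  by_cases h : p ∈ U <;> simp [supp, ind, h]

omit [DecidableEq ι] in
theorem mem_supp (v : ι → ZMod 2) (p : ι) : p ∈ supp v ↔ v p = 1 := by
  rcases zmod_two (v p) with h | h <;> simp [supp, h]

theorem ind_supp (v : ι → ZMod 2) : ind (supp v) = v := by
  funext p
  rcases zmod_two (v p) with h | h <;> simp [ind, mem_supp, h]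

theorem supp_add (u v : ι → ZMod 2) : supp (u + v) = symmDiff (supp u) (supp v) := by
  ext p
  rw [mem_supp, Finset.mem_symmDiff, mem_supp, mem_supp, Pi.add_apply]
  rcases zmod_two (u p) with h | h <;> rcases zmod_two (v p) with h' | h' <;> simp [h, h'] <;> decide

omit [Fintype ι] in
theorem card_sd (u v : Finset ι) : (symmDiff u v).card + 2 * (u ∩ v).card = u.card + v.card := by
  have h1 : symmDiff u v = (u \ v) ∪ (v \ u) := rfl
  have h2 : Disjoint (u \ v) (v \ u) := disjoint_left.2 fun x hx hx' => by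
    rw [mem_sdiff] at hx hx'; exact hx.2 hx'.1
  rw [h1, card_union_of_disjoint h2]
  have := card_sdiff_add_card_inter u v
  have := card_sdiff_add_card_inter v u
  rw [inter_comm v u] at this
  omega

theorem norm_add (u v : ι → ZMod 2) :
    hammingNorm (u + v) + 2 * (supp u ∩ supp v).card = hammingNorm u + hammingNorm v := by
  rw [norm_eq, norm_eq, norm_eq, supp_add]
  exact card_sd _ _

omit [Fintype ι] [DecidableEq ι] in
theorem sub_eq_add' (u v : ι → ZMod 2) : u - v = u + v := by
  funext p
  rcases zmod_two (u p) with h | h <;> rcases zmod_two (v p) with h' | h' <;> simp [h, h'] <;> decide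

theorem inner_eq (u v : ι → ZMod 2) : ∑ p, u p * v p = ((supp u ∩ supp v).card : ZMod 2) := by
  rw [show supp u ∩ supp v = univ.filter (fun p => u p = 1 ∧ v p = 1) from by
    ext p; simp [mem_supp], card_filter, Nat.cast_sum]
  refine sum_congr rfl fun p _ => ?_
  rcases zmod_two (u p) with h | h <;> rcases zmod_two (v p) with h' | h' <;> simp [h, h']

/-- The hypotheses. -/
structure Good (C : Submodule (ZMod 2) (ι → ZMod 2)) : Prop where
  card : Fintype.card ι = 24
  dim : Module.finrank (ZMod 2) C = 12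
  orth : ∀ v ∈ C, ∀ w ∈ C, ∑ i, v i * w i = 0
  min : ∀ w ∈ C, w ≠ 0 → 8 ≤ hammingNorm w

variable {C : Submodule (ZMod 2) (ι → ZMod 2)}

theorem card_small_sets {α : Type*} [DecidableEq α] (T : Finset α) (hT : T.card = 23) :
    (T.powerset.filter fun U => U.card ≤ 3).card = 2048 := by
  have e : (T.powerset.filter fun U => U.card ≤ 3) =
      T.powersetCard 0 ∪ T.powersetCard 1 ∪ T.powersetCard 2 ∪ T.powersetCard 3 := by
    ext U
    simp only [mem_filter, mem_powerset, mem_union, mem_powersetCard]
    constructor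
    · rintro ⟨h, hc⟩
      have : U.card = 0 ∨ U.card = 1 ∨ U.card = 2 ∨ U.card = 3 := by omega
      tauto
    · rintro (((⟨h, hc⟩ | ⟨h, hc⟩) | ⟨h, hc⟩) | ⟨h, hc⟩) <;> exact ⟨h, by omega⟩
  rw [e, card_union_of_disjoint, card_union_of_disjoint, card_union_of_disjoint]
  · simp only [card_powersetCard, hT]; decide
  all_goals
    simp only [disjoint_left, mem_union, mem_powersetCard, not_and]
    intro U hU hU'
    omega

/-- Every five-set is covered by exactly one word of weight 8. -/
theorem five_cover (h : Good C) (s : Finset ι) (hs : s.card = 5) :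
    ∃! o : Finset ι, (∃ c ∈ C, hammingNorm c = 8 ∧ supp c = o) ∧ s ⊆ o := by
  classical
  obtain ⟨i, hi⟩ : s.Nonempty := card_pos.1 (by omega)
  set e : ι → ZMod 2 := ind {i} with he
  set D := C ⊔ Submodule.span (ZMod 2) {e} with hD
  have he1 : hammingNorm e = 1 := by rw [norm_eq, he, supp_ind, card_singleton]
  have memD : ∀ x ∈ D, x ∈ C ∨ x + e ∈ C := by
    intro x hx
    obtain ⟨c, hc, y, hy, rfl⟩ := Submodule.mem_sup.1 hx
    obtain ⟨a, rfl⟩ := Submodule.mem_span_singleton.1 hy
    rcases zmod_two a with rfl | rfl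
    · left; simpa using hc
    · right
      rw [one_smul, add_assoc, ← sub_eq_add' e e, sub_self, add_zero]
      exact hc
  have heC : e ∉ C := fun hc => by
    have := h.min e hc (fun h0 => by rw [h0] at he1; simp at he1)
    omega
  have hdim : Module.finrank (ZMod 2) D = 13 := by
    rw [hD]
    have he0 : e ≠ 0 := fun h0 => heC (h0 ▸ C.zero_mem)
    have := Submodule.finrank_sup_add_finrank_inf_eq C (Submodule.span (ZMod 2) {e})
    have hinf : C ⊓ Submodule.span (ZMod 2) {e} = ⊥ := by
      rw [eq_bot_iff]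
      rintro x ⟨hxC, hxe⟩
      obtain ⟨a, rfl⟩ := Submodule.mem_span_singleton.1 hxe
      rcases zmod_two a with rfl | rfl
      · simp
      · exact absurd (by simpa using hxC) heC
    rw [hinf, finrank_bot, h.dim, finrank_span_singleton he0] at this
    omega
  have hcardQ : Nat.card ((ι → ZMod 2) ⧸ D) = 2048 := by
    rw [Module.natCard_eq_pow_finrank (K := ZMod 2), Submodule.finrank_quotient, hdim,
      Module.finrank_fintype_fun_eq_card, h.card, Nat.card_zmod]
    norm_num
  let T := {U : Finset ι // U ∈ (univ.erase i).powerset.filter fun U => U.card ≤ 3}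
  have hT : Nat.card T = 2048 := by
    rw [Nat.card_eq_fintype_card, Fintype.card_coe]
    exact card_small_sets _ (by rw [card_erase_of_mem (mem_univ i), card_univ, h.card])
  let f : T → (ι → ZMod 2) ⧸ D := fun U => Submodule.Quotient.mk (ind U.1)
  have hf : Function.Injective f := by
    rintro ⟨U, hU⟩ ⟨V, hV⟩ hUV
    simp only [mem_filter, mem_powerset] at hU hV
    have hd : ind U + ind V ∈ D := by
      rw [← sub_eq_add']; exact (Submodule.Quotient.eq D).1 hUV
    have hn := norm_add (ind U) (ind V)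
    rw [norm_eq (ind U), norm_eq (ind V), supp_ind, supp_ind] at hn
    apply Subtype.ext
    show U = V
    have h0 : ind U + ind V = 0 := by
      rcases memD _ hd with hc | hc
      · by_contra h0
        have := h.min _ hc h0
        omega
      · exfalso
        have h1 : (ind U + ind V + e) i = 1 := by
          have hiU : i ∉ U := fun hh => (mem_erase.1 (hU.1 hh)).1 rfl
          have hiV : i ∉ V := fun hh => (mem_erase.1 (hV.1 hh)).1 rfl
          simp [ind, he, hiU, hiV]
        have hne : ind U + ind V + e ≠ 0 := fun h0 => by rw [h0] at h1; simp at h1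
        have := h.min _ hc hne
        have := norm_add (ind U + ind V) e
        omega
    rw [← sub_eq_add', sub_eq_zero] at h0
    rw [← supp_ind U, h0, supp_ind]
  have hbij := (Nat.bijective_iff_injective_and_card f).2 ⟨hf, hT.trans hcardQ.symm⟩
  obtain ⟨⟨U, hU⟩, hUf⟩ := hbij.2 (Submodule.Quotient.mk (ind s))
  simp only [mem_filter, mem_powerset] at hU
  have hiU : i ∉ U := fun hh => (mem_erase.1 (hU.1 hh)).1 rfl
  have hd : ind U + ind s ∈ D := by
    rw [← sub_eq_add']; exact (Submodule.Quotient.eq D).1 hUf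
  have hn := norm_add (ind U) (ind s)
  rw [norm_eq (ind U), norm_eq (ind s), supp_ind, supp_ind, hs] at hn
  have unique : ∀ o o' : Finset ι, ((∃ c ∈ C, hammingNorm c = 8 ∧ supp c = o) ∧ s ⊆ o) →
      ((∃ c ∈ C, hammingNorm c = 8 ∧ supp c = o') ∧ s ⊆ o') → o = o' := by
    rintro o o' ⟨⟨c, hc, hc8, rfl⟩, hso⟩ ⟨⟨c', hc', hc'8, rfl⟩, hso'⟩
    have hsum := norm_add c c'
    have h5 := card_le_card (subset_inter hso hso')
    rw [hs] at h5
    have h0 : c + c' = 0 := by
      by_contra h0
      have := h.min _ (C.add_mem hc hc') h0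
      omega
    rw [← sub_eq_add', sub_eq_zero] at h0
    rw [h0]
  rcases memD _ hd with hc | hc
  · have h0 : ind U + ind s ≠ 0 := by
      intro h0
      have := congrFun h0 i
      simp [ind, hiU, hi] at this
    have h8 := h.min _ hc h0
    refine ⟨supp (ind U + ind s), ⟨⟨_, hc, by omega, rfl⟩, fun p hp => ?_⟩, fun o ho => unique _ _ ho ?_⟩
    · have hdis : Disjoint U s := by
        rw [disjoint_iff_inter_eq_empty, ← card_eq_zero]; omega
      rw [mem_supp]
      simp [ind, hp, disjoint_right.1 hdis hp]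
    · refine ⟨⟨_, hc, by omega, rfl⟩, fun p hp => ?_⟩
      have hdis : Disjoint U s := by
        rw [disjoint_iff_inter_eq_empty, ← card_eq_zero]; omega
      rw [mem_supp]
      simp [ind, hp, disjoint_right.1 hdis hp]
  · exfalso
    have hn2 := norm_add (ind U + ind s) e
    have hi' : (supp (ind U + ind s) ∩ supp e).card = 1 := by
      rw [he, supp_ind, inter_singleton_of_mem, card_singleton]
      rw [mem_supp]
      simp [ind, hiU, hi]
    have h0 : ind U + ind s + e ≠ 0 := by
      intro h0
      obtain ⟨j, hj, hji⟩ : ∃ j ∈ s, j ≠ i ∧ j ∉ U := by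
        by_contra hcon
        push_neg at hcon
        have hsub : s.erase i ⊆ U := fun j hj => hcon j (mem_erase.1 hj).2 (mem_erase.1 hj).1
        have := card_le_card hsub
        rw [card_erase_of_mem hi] at this
        omega
      have := congrFun h0 j
      simp [ind, he, hj, hji.1, hji.2] at this
    have := h.min _ hc h0
    omega

/-- The supports of the words of weight 8. -/
noncomputable def octs (C : Submodule (ZMod 2) (ι → ZMod 2)) : Finset (Finset ι) := by
  classical exact univ.filter fun o => ∃ c ∈ C, hammingNorm c = 8 ∧ supp c = o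

theorem mem_octs {o : Finset ι} : o ∈ octs C ↔ ∃ c ∈ C, hammingNorm c = 8 ∧ supp c = o := by
  classical simp [octs]

theorem octs_steiner (h : Good C) : Cfsg.IsSteinerSystem 5 8 (octs C : Set (Finset ι)) := by
  refine ⟨fun o ho => ?_, fun s hs => ?_⟩
  · obtain ⟨c, -, hc, rfl⟩ := mem_octs.1 (mem_coe.1 ho)
    exact hc
  · simp only [mem_coe, mem_octs]
    exact five_cover h s hs

/-- Every word is congruent modulo the words of weight eight to one of weight at most four. -/
theorem reduce (h : Good C) (w : ι → ZMod 2) : ∃ c ∈ Submodule.span (ZMod 2)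
    {w : ι → ZMod 2 | w ∈ C ∧ hammingNorm w = 8}, hammingNorm (w + c) ≤ 4 := by
  induction hn : hammingNorm w using Nat.strong_induction_on generalizing w with
  | _ n ih =>
    by_cases hle : n ≤ 4
    · exact ⟨0, Submodule.zero_mem _, by rw [add_zero]; omega⟩
    obtain ⟨s, hs, hsc⟩ := exists_subset_card_eq (s := supp w) (n := 5) (by
      rw [← norm_eq]; omega)
    obtain ⟨o, ⟨⟨c, hc, hc8, hco⟩, hso⟩, -⟩ := five_cover h s hsc
    have h5 := card_le_card (subset_inter hs (hco ▸ hso))
    rw [hsc] at h5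
    have hn' := norm_add w c
    obtain ⟨d, hd, hd4⟩ := ih (hammingNorm (w + c)) (by omega) (w + c) rfl
    exact ⟨c + d, Submodule.add_mem _ (Submodule.subset_span ⟨hc, hc8⟩) hd, by rwa [← add_assoc]⟩

theorem span_octs (h : Good C) :
    Submodule.span (ZMod 2) {w : ι → ZMod 2 | w ∈ C ∧ hammingNorm w = 8} = C := by
  refine le_antisymm (Submodule.span_le.2 fun w hw => hw.1) fun w hw => ?_
  obtain ⟨c, hc, h4⟩ := reduce h w
  have hcC : c ∈ C := Submodule.span_le.2 (fun x hx => hx.1) hc
  have h0 : w + c = 0 := by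
    by_contra h0
    have := h.min _ (C.add_mem hw hcC) h0
    omega
  rw [← sub_eq_add', sub_eq_zero] at h0
  rw [h0]; exact hc

theorem four_dvd (h : Good C) (w : ι → ZMod 2) (hw : w ∈ C) : 4 ∣ hammingNorm w := by
  have key : w ∈ C ∧ 4 ∣ hammingNorm w := by
    rw [← span_octs h] at hw
    induction hw using Submodule.span_induction with
    | mem x hx => exact ⟨hx.1, by rw [hx.2]; norm_num⟩
    | zero => exact ⟨C.zero_mem, by simp⟩
    | add x y _ _ ihx ihy =>
      refine ⟨C.add_mem ihx.1 ihy.1, ?_⟩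
      have h0 := h.orth x ihx.1 y ihy.1
      rw [inner_eq, ZMod.natCast_eq_zero_iff_even] at h0
      have := norm_add x y
      obtain ⟨m, hm⟩ := h0
      obtain ⟨a, ha⟩ := ihx.2
      obtain ⟨b, hb⟩ := ihy.2
      omega
    | smul a x _ ih =>
      rcases zmod_two a with rfl | rfl
      · exact ⟨by simp, by simp⟩
      · simpa using ih
  exact key.2

theorem exists_eight (h : Good C) : ∃ w ∈ C, hammingNorm w = 8 := by
  obtain ⟨s, -, hs⟩ := exists_subset_card_eq (s := (univ : Finset ι)) (n := 5) (by
    rw [card_univ, h.card]; norm_num)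
  obtain ⟨o, ⟨⟨c, hc, hc8, -⟩, -⟩, -⟩ := five_cover h s hs
  exact ⟨c, hc, hc8⟩

theorem coset_pair (h : Good C) {w u u' : ι → ZMod 2} (hu : u - w ∈ C) (hu' : u' - w ∈ C)
    (h4 : hammingNorm u ≤ 4) (h4' : hammingNorm u' ≤ 4) (hne : u ≠ u') :
    hammingNorm u = 4 ∧ hammingNorm u' = 4 ∧ Disjoint (supp u) (supp u') ∧
      supp u ∪ supp u' ∈ octs C := by
  have hd : u + u' ∈ C := by
    rw [← sub_eq_add', ← sub_sub_sub_cancel_right u u' w]
    exact C.sub_mem hu hu'
  have h0 : u + u' ≠ 0 := fun h0 => hne (by rwa [← sub_eq_add', sub_eq_zero] at h0)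
  have h8 := h.min _ hd h0
  have hn := norm_add u u'
  have hdis : Disjoint (supp u) (supp u') := by
    rw [disjoint_iff_inter_eq_empty, ← card_eq_zero]; omega
  refine ⟨by omega, by omega, hdis, mem_octs.2 ⟨_, hd, by omega, ?_⟩⟩
  rw [supp_add]
  exact Disjoint.symmDiff_eq_sup hdis

theorem coset_leaders (h : Good C) (w : ι → ZMod 2) :
    (∃ u : ι → ZMod 2, {u : ι → ZMod 2 | u - w ∈ C ∧ hammingNorm u ≤ 4} = {u} ∧ hammingNorm u ≤ 3) ∨
      ({u : ι → ZMod 2 | u - w ∈ C ∧ hammingNorm u ≤ 4}.ncard = 6 ∧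
        ∀ u ∈ {u : ι → ZMod 2 | u - w ∈ C ∧ hammingNorm u ≤ 4}, hammingNorm u = 4 ∧
          ∀ u' ∈ {u : ι → ZMod 2 | u - w ∈ C ∧ hammingNorm u ≤ 4}, u ≠ u' →
            Disjoint (supp u) (supp u')) := by
  classical
  obtain ⟨c, hc, hu4⟩ := reduce h w
  set u := w + c with hu
  have hcC : c ∈ C := Submodule.span_le.2 (fun x hx => hx.1) hc
  have huw : u - w ∈ C := by rw [hu, add_sub_cancel_left]; exact hcC
  by_cases h3 : hammingNorm u ≤ 3
  · left
    refine ⟨u, Set.eq_singleton_iff_unique_mem.2 ⟨⟨huw, hu4⟩, fun v hv => ?_⟩, h3⟩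
    by_contra hne
    have := (coset_pair h huw hv.1 hu4 hv.2 (Ne.symm hne)).1
    omega
  right
  have hu4' : hammingNorm u = 4 := by omega
  have all4 : ∀ v ∈ {v : ι → ZMod 2 | v - w ∈ C ∧ hammingNorm v ≤ 4}, hammingNorm v = 4 := by
    intro v hv
    by_cases hvu : v = u
    · rw [hvu, hu4']
    · exact (coset_pair h hv.1 huw hv.2 hu4 hvu).1
  refine ⟨?_, fun v hv => ⟨all4 v hv, fun v' hv' hne => (coset_pair h hv.1 hv'.1 hv.2 hv'.2 hne).2.2.1⟩⟩
  set S := {v : ι → ZMod 2 | v - w ∈ C ∧ hammingNorm v ≤ 4} with hS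
  have hcov : Steiner.cov (octs C) (supp u) = 5 := by
    have := Steiner.cov_mul (octs_steiner h) (S := supp u) (by rw [← norm_eq, hu4']; norm_num)
    rw [← norm_eq, hu4', h.card] at this
    norm_num [Nat.choose] at this
    omega
  have hbij : (S \ {u}).ncard = 5 := by
    rw [← hcov, Steiner.cov, ← Set.ncard_coe_finset]
    refine Set.ncard_congr (fun v _ => supp u ∪ supp v) (fun v hv => ?_) (fun v v' hv hv' he => ?_)
      fun o ho => ?_
    · rw [mem_coe, mem_filter]
      exact ⟨(coset_pair h huw hv.1.1 hu4 hv.1.2 (Ne.symm hv.2)).2.2.2, subset_union_left⟩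
    · have hd := (coset_pair h huw hv.1.1 hu4 hv.1.2 (Ne.symm hv.2)).2.2.1
      have hd' := (coset_pair h huw hv'.1.1 hu4 hv'.1.2 (Ne.symm hv'.2)).2.2.1
      have : supp v = supp v' := by
        rw [← union_sdiff_cancel_left hd, ← union_sdiff_cancel_left hd']
        exact congrArg (· \ supp u) he
      rw [← ind_supp v, this, ind_supp]
    · rw [mem_coe, mem_filter] at ho
      obtain ⟨d, hd, hd8, rfl⟩ := mem_octs.1 ho.1
      refine ⟨u + d, ⟨⟨?_, ?_⟩, ?_⟩, ?_⟩
      · rw [add_sub_right_comm]; exact C.add_mem huw hd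
      · have := norm_add u d
        rw [inter_eq_left.2 ho.2, ← norm_eq] at this
        omega
      · intro h0
        have : d = 0 := by simpa using h0
        rw [this] at hd8; simp at hd8
      · rw [supp_add u d]
        ext p
        rw [mem_union, Finset.mem_symmDiff]
        constructor
        · rintro (hp | (⟨hp, -⟩ | ⟨hp, -⟩))
          exacts [ho.2 hp, ho.2 hp, hp]
        · intro hp
          by_cases hpu : p ∈ supp u
          · exact Or.inl hpu
          · exact Or.inr (Or.inr ⟨hp, hpu⟩)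
  have humem : u ∈ S := ⟨huw, hu4⟩
  rw [← Set.ncard_sdiff_singleton_add_one humem, hbij]

end Cfsg.Agent.Spor.Code24
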