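import Cfsg.Agent.Lib.Perm.HallFourPerm
import Mathlib

/-!
Degrees of sharply `k`-transitive permutation groups for `k ≥ 5`.
-/

set_option autoImplicit false

namespace Cfsg.Agent.Spor.SharpDegree

open Cfsg.Agent.Perm.HallFour Cfsg.Agent.Perm.HallFourPerm

universe u

/-- sharply `k`-transitive -/
def Sharp {α : Type u} (G : Subgroup (Equiv.Perm α)) (k : ℕ) : Prop :=
  (∀ x y : Fin k ↪ α, ∃ g ∈ G, ∀ i, g (x i) = y i) ∧
    ∀ g ∈ G, ∀ x : Fin k ↪ α, (∀ i, g (x i) = x i) → g = 1

theorem sharp_of {α : Type u} (G : Subgroup (Equiv.Perm α)) (k : ℕ)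
    (ht : MulAction.IsMultiplyPretransitive G α k)
    (hs : ∀ x : Fin k ↪ α, MulAction.stabilizer G x = ⊥) : Sharp G k := by
  refine ⟨fun x y => ?_, fun g hg x h => ?_⟩
  · obtain ⟨g, hg⟩ := ht.exists_smul_eq x y
    exact ⟨g, g.2, fun i => congrArg (fun e : Fin k ↪ α => e i) hg⟩
  · have : (⟨g, hg⟩ : G) ∈ MulAction.stabilizer G x := Function.Embedding.ext fun i => h i
    rw [hs x, Subgroup.mem_bot] at this
    exact congrArg Subtype.val this

theorem Sharp.instances {α : Type u} {G : Subgroup (Equiv.Perm α)} {k : ℕ} (h : Sharp G k) :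
    MulAction.IsMultiplyPretransitive G α k ∧ ∀ x : Fin k ↪ α, MulAction.stabilizer G x = ⊥ := by
  refine ⟨⟨fun x y => ?_⟩, fun x => ?_⟩
  · obtain ⟨g, hg, h'⟩ := h.1 x y
    exact ⟨⟨g, hg⟩, Function.Embedding.ext h'⟩
  · rw [eq_bot_iff]
    intro g hg
    rw [Subgroup.mem_bot]
    exact Subtype.ext (h.2 g g.2 x fun i => congrArg (fun e : Fin k ↪ α => e i) hg)

theorem Sharp.card {α : Type u} [Fintype α] {G : Subgroup (Equiv.Perm α)} {k : ℕ} (h : Sharp G k)
    (hk : k ≤ Fintype.card α) : Nat.card G = (Fintype.card α).descFactorial k := by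
  obtain ⟨x⟩ : Nonempty (Fin k ↪ α) :=
    Function.Embedding.nonempty_of_card_le (by rw [Fintype.card_fin]; exact hk)
  have e : G ≃ (Fin k ↪ α) := Equiv.ofBijective (fun g => x.trans (g : Equiv.Perm α).toEmbedding) ⟨
    fun g g' he => by
      have h1 := h.2 ((g : Equiv.Perm α)⁻¹ * g') (mul_mem (inv_mem g.2) g'.2) x fun i => by
        have := congrArg (fun e : Fin k ↪ α => e i) he
        simp only [Function.Embedding.trans_apply, Equiv.coe_toEmbedding] at this
        rw [Equiv.Perm.mul_apply, ← this, ← Equiv.Perm.mul_apply, inv_mul_cancel, Equiv.Perm.one_apply]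
      exact Subtype.ext (eq_of_inv_mul_eq_one h1),
    fun y => by
      obtain ⟨g, hg, h'⟩ := h.1 x y
      exact ⟨⟨g, hg⟩, Function.Embedding.ext h'⟩⟩
  rw [Nat.card_congr e, Nat.card_eq_fintype_card, Fintype.card_embedding_eq, Fintype.card_fin]

theorem Sharp.step {α : Type u} {G : Subgroup (Equiv.Perm α)} {k : ℕ} (h : Sharp G (k + 1)) (a : α) :
    ∃ H : Subgroup (Equiv.Perm {x : α // x ≠ a}), Sharp H k := by
  classical
  refine ⟨G.comap (Equiv.Perm.ofSubtype (p := fun x : α => x ≠ a)), ?_, ?_⟩
  · intro x y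
    let ext : (Fin k ↪ {x : α // x ≠ a}) → (Fin (k + 1) ↪ α) := fun z =>
      ⟨Fin.cons a fun i => (z i : α), by
        rw [Fin.cons_injective_iff]
        exact ⟨fun ⟨i, hi⟩ => (z i).2 hi, fun i j e => z.injective (Subtype.ext e)⟩⟩
    obtain ⟨g, hg, hh⟩ := h.1 (ext x) (ext y)
    have ha : g a = a := hh 0
    have hne : ∀ x, g x ≠ a ↔ x ≠ a := fun x => not_congr ⟨fun e => g.injective (e.trans ha.symm), fun e => e ▸ ha⟩
    refine ⟨g.subtypePerm hne, ?_, fun i => Subtype.ext (hh i.succ)⟩
    rw [Subgroup.mem_comap]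
    rwa [Equiv.Perm.ofSubtype_subtypePerm]
    intro x hx e
    exact hx (e ▸ ha)
  · intro g hg z hz
    let w : Fin (k + 1) ↪ α := ⟨Fin.cons a fun i => (z i : α), by
        rw [Fin.cons_injective_iff]
        exact ⟨fun ⟨i, hi⟩ => (z i).2 hi, fun i j e => z.injective (Subtype.ext e)⟩⟩
    have h1 := h.2 (Equiv.Perm.ofSubtype g) hg w fun i => by
      refine Fin.cases ?_ (fun i => ?_) i
      · exact Equiv.Perm.ofSubtype_apply_of_not_mem g (fun e => e rfl)
      · show Equiv.Perm.ofSubtype g (z i : α) = z i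
        rw [Equiv.Perm.ofSubtype_apply_coe, hz]
    exact Equiv.Perm.ofSubtype_injective (h1.trans (map_one _).symm)

theorem four {α : Type u} [Fintype α] [DecidableEq α] {G : Subgroup (Equiv.Perm α)} (h : Sharp G 4)
    (h4 : 4 ≤ Fintype.card α) :
    Fintype.card α = 4 ∨ Fintype.card α = 5 ∨ Fintype.card α = 6 ∨ Fintype.card α = 11 := by
  obtain ⟨x⟩ : Nonempty (Fin 4 ↪ α) :=
    Function.Embedding.nonempty_of_card_le (by rw [Fintype.card_fin]; exact h4)
  obtain ⟨hG, hsharp⟩ := h.instances
  have hs : Nat.card (MulAction.stabilizer G x) = 1 := by rw [hsharp x, Subgroup.card_bot]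
  have hd := degree (h4_of_perm hG x (by rw [hs]; exact odd_one))
    (by rw [Nat.card_eq_fintype_card]; exact h4)
  rw [Nat.card_eq_fintype_card] at hd
  rcases hd with e | e | e | e | e
  · exact Or.inl e
  · exact Or.inr (Or.inl e)
  · exact Or.inr (Or.inr (Or.inl e))
  · exfalso
    have hc := card_eq hG x
    have hidx := G.card_mul_index
    rw [Nat.card_perm, Nat.card_eq_fintype_card (α := α), hc, hs, e] at hidx
    norm_num [Nat.descFactorial, Nat.factorial] at hidx
    exact index_ne_six (G := G) e (by omega)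
  · exact Or.inr (Or.inr (Or.inr e))

theorem no_thirteen {α : Type u} [Fintype α] [DecidableEq α] (hα : Fintype.card α = 13)
    (G : Subgroup (Equiv.Perm α)) (hG : Nat.card G = 1235520) : False := by
  classical
  haveI : Fact (Nat.Prime 13) := ⟨by norm_num⟩
  have P : Sylow 13 G := default
  set Q : Subgroup G := (P : Subgroup G) with hQ
  have hP : Nat.card Q = 13 := by
    rw [hQ, P.card_eq_multiplicity, hG]
    have : (1235520 : ℕ) = 13 ^ 1 * 95040 := by norm_num
    rw [this, Nat.factorization_mul (by norm_num) (by norm_num), Finsupp.add_apply,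
      Nat.Prime.factorization_pow (by norm_num : Nat.Prime 13), Finsupp.single_eq_same,
      Nat.factorization_eq_zero_of_not_dvd (by norm_num)]
    rfl
  -- a nontrivial element moves a point, so the Sylow subgroup is transitive
  obtain ⟨c, hc1⟩ : ∃ c : Q, c ≠ 1 := by
    haveI : Nontrivial Q := Finite.one_lt_card_iff_nontrivial.1 (by rw [hP]; norm_num)
    exact exists_ne 1
  obtain ⟨a, ha⟩ : ∃ a : α, c • a ≠ a := by
    by_contra hno
    push Not at hno
    exact hc1 (Subtype.ext (Subtype.ext (Equiv.ext hno)))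
  have horb : ∀ b : α, b ∈ MulAction.orbit Q a := by
    have hmul : Nat.card (MulAction.orbit Q a) * Nat.card (MulAction.stabilizer Q a) = 13 := by
      rw [← Nat.card_prod, Nat.card_congr (MulAction.orbitProdStabilizerEquivGroup Q a), hP]
    rcases (Nat.dvd_prime (by norm_num : Nat.Prime 13)).1 (dvd_of_mul_right_eq _ hmul) with e | e
    · exact absurd (MulAction.mem_orbit a c) (fun hm => ha (by
        have hs : Subsingleton (MulAction.orbit Q a) := (Nat.card_eq_one_iff_unique.1 e).1
        exact congrArg Subtype.val (hs.elim ⟨_, hm⟩ ⟨a, MulAction.mem_orbit_self a⟩)))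
    · have hu : MulAction.orbit Q a = Set.univ :=
        Set.eq_of_subset_of_ncard_le (Set.subset_univ _) (by
          rw [Set.ncard_univ, ← Nat.card_coe_set_eq, e, Nat.card_eq_fintype_card, hα])
      exact fun b => hu ▸ Set.mem_univ b
  have hC : Nat.card (Subgroup.centralizer (Q : Set G)) = 13 := by
    refine le_antisymm ?_ ?_
    · have := Nat.card_le_card_of_injective (fun g : Subgroup.centralizer (Q : Set G) => (g : G) • a)
        (fun g h e => by
          refine Subtype.ext (Subtype.ext (Equiv.ext fun b => ?_))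
          obtain ⟨q, rfl⟩ := horb b
          have hg := Subgroup.mem_centralizer_iff.1 g.2 _ q.2
          have hh := Subgroup.mem_centralizer_iff.1 h.2 _ q.2
          show (g : G) • ((q : G) • a) = (h : G) • ((q : G) • a)
          rw [← mul_smul, ← mul_smul, ← hg, ← hh, mul_smul, mul_smul]
          exact congrArg _ e)
      rwa [Nat.card_eq_fintype_card (α := α), hα] at this
    · have hle : Q ≤ Subgroup.centralizer (Q : Set G) := by
        haveI : IsCyclic Q := isCyclic_of_prime_card hP
        intro x hx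
        rw [Subgroup.mem_centralizer_iff]
        intro y hy
        exact congrArg Subtype.val ((IsCyclic.commGroup (α := Q)).mul_comm ⟨y, hy⟩ ⟨x, hx⟩)
      rw [← hP]
      exact Nat.card_le_card_of_injective _ (Subgroup.inclusion_injective hle)
  let f := Q.normalizerMonoidHom
  have hker : Nat.card f.ker = 13 := by
    rw [Subgroup.normalizerMonoidHom_ker, Nat.card_congr (Subgroup.subgroupOfEquivOfLe
      (Subgroup.centralizer_le_normalizer _)).toEquiv, hC]
  have hrange : Nat.card f.range ∣ 12 := by
    haveI : IsCyclic Q := isCyclic_of_prime_card hP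
    have := Subgroup.card_subgroup_dvd_card f.range
    rwa [IsCyclic.card_mulAut, hP, Nat.totient_prime (by norm_num : Nat.Prime 13)] at this
  have hN := Subgroup.card_eq_card_quotient_mul_card_subgroup f.ker
  rw [Nat.card_congr (QuotientGroup.quotientKerEquivRange f).toEquiv, hker] at hN
  have hidx := Subgroup.card_mul_index (Subgroup.normalizer (Q : Set G))
  have hh : (Subgroup.normalizer (Q : Set G)).index = Nat.card (Sylow 13 G) :=
    P.card_eq_index_normalizer.symm
  rw [hh, hN, hG] at hidx
  have hmod := card_sylow_modEq_one 13 G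
  rw [Nat.ModEq] at hmod
  rcases (Nat.mem_divisors.2 ⟨hrange, by norm_num⟩ : Nat.card f.range ∈ Nat.divisors 12) with hd
  rw [show Nat.divisors 12 = {1, 2, 3, 4, 6, 12} from by decide] at hd
  simp only [Finset.mem_insert, Finset.mem_singleton] at hd
  rcases hd with e | e | e | e | e | e <;> rw [e] at hidx <;> omega

theorem degree_ge_five : ∀ (k : ℕ) (α : Type u) [Fintype α] [DecidableEq α] (G : Subgroup (Equiv.Perm α)),
    Sharp G (k + 4) → k + 4 ≤ Fintype.card α →
    Fintype.card α = k + 4 ∨ Fintype.card α = k + 5 ∨ Fintype.card α = k + 6 ∨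
      (Fintype.card α = k + 11 ∧ k ≤ 1) := by
  intro k
  induction k with
  | zero =>
    intro α _ _ G h h4
    rcases four h h4 with e | e | e | e <;> omega
  | succ k ih =>
    intro α _ _ G h hn
    obtain ⟨a⟩ : Nonempty α := Fintype.card_pos_iff.1 (by omega)
    obtain ⟨H, hH⟩ := Sharp.step (k := k + 4) h a
    have hc : Fintype.card {x : α // x ≠ a} = Fintype.card α - 1 := by
      rw [Fintype.card_subtype_compl, Fintype.card_subtype_eq]
    rcases ih {x : α // x ≠ a} H hH (by omega) with e | e | e | ⟨e, hk⟩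
    · omega
    · omega
    · omega
    · rcases Nat.eq_zero_or_pos k with rfl | hk'
      · omega
      · exfalso
        obtain rfl : k = 1 := by omega
        refine no_thirteen (by omega) G ?_
        rw [h.card hn, show Fintype.card α = 13 by omega]
        decide

end Cfsg.Agent.Spor.SharpDegree
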