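import Cfsg.Agent.Lib.Spor.SpFourPoints

/-!
The projective action of the symplectic group in dimension four over the field with four elements.
-/

set_option autoImplicit false
set_option maxRecDepth 100000

namespace Cfsg.Agent.Spor.SpFour

open Cfsg.Agent.Spor.CC Matrix

/-- the listed points -/
def ptTab : ℕ := 0xfdbd7d3dedad6d2ddd9d5d1dcd8d4d0df9b97939e9a96929d9995919c9894909f5b57535e5a56525d5955515c5854505f1b17131e1a16121d1915111c1814101f4b47434e4a46424d4945414c4844404d090501040

/-- index of a vector -/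
def idxTab : ℕ := 0x2a3f540a4a2f440f3a4f34141a1f2402323b5012522b400b424b3010221b20032e434c0e4e333c133e532c0c1e231c04263748064627380736472808161718002c3e530c4c2e430e3c4e33131c1e2304343a4f14542a3f0a444a2f0f241a1f0230424b1050323b1240522b0b20221b03283647084826370638462707181617002b40520b4b3042103b5032121b202203333c4e13532c3e0c434c2e0e231c1e042f444a0f4f343a143f542a0a1f241a0227384607472836083748260617181600293d5109492d410d394d3111191d210131394d1151293d0941492d0d21191d012d41490d4d3139113d5129091d21190125354505452535053545250515151555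

/-- the vector of a point -/
def pt (i : ℕ) : ℕ := fld ptTab 8 i
/-- the point of a vector -/
def idx (k : ℕ) : ℕ := fld idxTab 8 k

/-- scalar multiple of a numbered vector -/
def smulN (c : F4) (k : ℕ) : ℕ := code (c • vecOf k)

theorem scale_ok : ((List.range 256).all fun k =>
    [F4.i, F4.w, F4.v].all fun c => idx (smulN c k) == idx k) = true := by decide +kernel

theorem pt_ok : ((List.range 256).all fun k => k == 0 ||
    (decide (idx k < 85) && [F4.i, F4.w, F4.v].any fun c => k == smulN c (pt (idx k)))) = true := by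
  decide +kernel

theorem idx_ok : ((List.range 85).all fun i => idx (pt i) == i && decide (pt i < 256) &&
    decide (pt i ≠ 0) && decide (code (vecOf (pt i)) = pt i)) = true := by decide +kernel

theorem idx_smul (c : F4) (hc : c ≠ 0) (f : Vec) : idx (code (c • f)) = idx (code f) := by
  have h := List.all_eq_true.mp scale_ok (code f) (List.mem_range.mpr (code_lt f))
  have hmem : c ∈ [F4.i, F4.w, F4.v] := by
    revert hc; cases c <;> decide
  have := eq_of_beq (List.all_eq_true.mp h c hmem)
  rwa [smulN, vecOf_code] at this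

theorem exists_pt (f : Vec) (hf : f ≠ 0) :
    idx (code f) < 85 ∧ ∃ c : F4, c ≠ 0 ∧ f = c • vecOf (pt (idx (code f))) := by
  have h := List.all_eq_true.mp pt_ok (code f) (List.mem_range.mpr (code_lt f))
  rcases Bool.or_eq_true_iff.mp h with h0 | h1
  · exfalso
    apply hf
    rw [← vecOf_code f, eq_of_beq h0]
    funext s
    rcases s with s | s <;> fin_cases s <;> rfl
  · rw [Bool.and_eq_true_iff, decide_eq_true_iff, List.any_eq_true] at h1
    obtain ⟨hlt, c, hc, he⟩ := h1
    refine ⟨hlt, c, ?_, ?_⟩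
    · revert hc; cases c <;> decide
    · have e := congrArg vecOf (eq_of_beq he)
      rwa [smulN, vecOf_code, vecOf_code] at e

theorem pt_ne {i : ℕ} (hi : i < 85) : vecOf (pt i) ≠ 0 := by
  have h := List.all_eq_true.mp idx_ok i (List.mem_range.mpr hi)
  simp only [Bool.and_eq_true, beq_iff_eq, decide_eq_true_iff] at h
  intro e
  apply h.1.2
  rw [← h.2, e]
  decide +kernel

theorem idx_pt {i : ℕ} (hi : i < 85) : idx (code (vecOf (pt i))) = i := by
  have h := List.all_eq_true.mp idx_ok i (List.mem_range.mpr hi)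
  simp only [Bool.and_eq_true, beq_iff_eq, decide_eq_true_iff] at h
  rw [h.2]; exact h.1.1.1

/-- image of a point under a matrix -/
def actN (A : Matrix (Fin 2 ⊕ Fin 2) (Fin 2 ⊕ Fin 2) F4) (i : ℕ) : ℕ :=
  idx (code (A *ᵥ vecOf (pt i)))

/-- the symplectic group -/
abbrev Sp4 : Type := Matrix.symplecticGroup (Fin 2) F4

theorem mulVec_ne (A : Sp4) {f : Vec} (hf : f ≠ 0) : A.1 *ᵥ f ≠ 0 := by
  intro e
  apply hf
  have : (A⁻¹ * A : Sp4).1 *ᵥ f = 0 := by
    rw [Submonoid.coe_mul, ← Matrix.mulVec_mulVec, e, Matrix.mulVec_zero]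
  rwa [inv_mul_cancel, Submonoid.coe_one, Matrix.one_mulVec] at this

theorem actN_lt (A : Sp4) {i : ℕ} (hi : i < 85) : actN A.1 i < 85 :=
  (exists_pt _ (mulVec_ne A (pt_ne hi))).1

instance : MulAction Sp4 (Fin 85) where
  smul A i := ⟨actN A.1 i, actN_lt A i.2⟩
  one_smul i := Fin.ext (show actN (1 : Sp4).1 i = i by
    rw [actN, Submonoid.coe_one, Matrix.one_mulVec, idx_pt i.2])
  mul_smul A B i := Fin.ext (by
    show actN (A * B : Sp4).1 i = actN A.1 (actN B.1 i)
    obtain ⟨-, c, hc, he⟩ := exists_pt _ (mulVec_ne B (pt_ne i.2))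
    unfold actN
    rw [Submonoid.coe_mul, ← Matrix.mulVec_mulVec]
    conv_lhs => rw [he]
    rw [Matrix.mulVec_smul, idx_smul c hc])

/-- the action as a homomorphism -/
def perm : Sp4 →* Equiv.Perm (Fin 85) := MulAction.toPermHom Sp4 (Fin 85)

theorem perm_val (A : Sp4) (i : Fin 85) : (perm A i : ℕ) = actN A.1 i := rfl

theorem eigen {A : Sp4} (hA : perm A = 1) (f : Vec) (hf : f ≠ 0) :
    ∃ c : F4, A.1 *ᵥ f = c • f := by
  obtain ⟨hlt, c, hc, he⟩ := exists_pt f hf
  obtain ⟨-, d, hd, he'⟩ := exists_pt _ (mulVec_ne A (pt_ne hlt))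
  have hfix : actN A.1 (idx (code f)) = idx (code f) := by
    have := congrArg (fun σ : Equiv.Perm (Fin 85) => ((σ ⟨_, hlt⟩ : Fin 85) : ℕ)) hA
    simpa [perm_val] using this
  rw [show idx (code (A.1 *ᵥ vecOf (pt (idx (code f))))) = idx (code f) from hfix] at he'
  refine ⟨d, ?_⟩
  generalize vecOf (pt (idx (code f))) = b at he he'
  subst he
  rw [Matrix.mulVec_smul, he', smul_comm]

theorem perm_injective : Function.Injective perm := by
  rw [injective_iff_map_eq_one]
  intro A hA
  have hs : ∀ s, ∃ c : F4, A.1 *ᵥ Pi.single s 1 = c • Pi.single s 1 := fun s =>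
    eigen hA _ (by intro e; have e' := congrFun e s; rw [Pi.single_eq_same] at e'; exact one_ne_zero e')
  choose c hc using hs
  have hent : ∀ s t, A.1 t s = c s * (Pi.single s 1 : Vec) t := fun s t => by
    have := congrFun (hc s) t
    simpa using this
  obtain ⟨d, hd⟩ := eigen hA (fun _ => 1) (fun e => one_ne_zero (α := F4) (congrFun e (Sum.inl 0)))
  have hdiag : ∀ t, c t = d := fun t => by
    have := congrFun hd t
    simp only [Matrix.mulVec, dotProduct, mul_one, Pi.smul_apply, smul_eq_mul] at this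
    rw [← this, Finset.sum_eq_single t (fun s _ hst => by rw [hent, Pi.single_eq_of_ne hst.symm, mul_zero])
      (fun h => absurd (Finset.mem_univ t) h), hent, Pi.single_eq_same, mul_one]
  have hAd : A.1 = d • (1 : Matrix (Fin 2 ⊕ Fin 2) (Fin 2 ⊕ Fin 2) F4) := by
    ext t s
    rw [hent, hdiag, Matrix.smul_apply, Matrix.one_apply, smul_eq_mul]
    by_cases h : t = s
    · subst h; simp
    · rw [Pi.single_eq_of_ne h, if_neg h]
  have hJ := SymplecticGroup.mem_iff.mp A.2
  rw [hAd, Matrix.transpose_smul, Matrix.transpose_one, Matrix.smul_mul, Matrix.one_mul,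
    Matrix.mul_smul, Matrix.mul_one, smul_smul] at hJ
  have h1 := congrFun (congrFun hJ (Sum.inr 0)) (Sum.inl 0)
  have hd1 : d = 1 := by
    have : d * d = 1 := by simpa [Matrix.J] using h1
    revert this; cases d <;> decide +kernel
  apply Subtype.ext
  rw [hAd, hd1, one_smul]; rfl

theorem card_sp4 : Nat.card Sp4 = 979200 := by
  rw [Cfsg.Agent.Classical.SpCount.card_symplecticGroup, F4.card]
  decide +kernel

end Cfsg.Agent.Spor.SpFour
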