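import Cfsg.Agent.Lib.Spor.SpiderIdxCollData

/-!
Coset certificate `IdxColl` of Spider: checks.
-/

set_option autoImplicit false
set_option maxRecDepth 100000

namespace Cfsg.Agent.Spor.SpiderCert.IdxColl

open Cfsg.Agent.Spor.CC

/-- checked entries -/
def edL0 : List ℕ := [
0xe05001,
0xe05801,
0xe06001,
0xe06801,
0xe07001,
0x2a250151200a88c0544402a210150fe0a8760543502a00014f520a8410540802977814c820a798053a2829dd014fde0a764041fb829f0c14e700a7dc053e4029dc014dbc0a750053ad829d3c14fd80a8050540c829ea8150360a7ce05404029edc1502e0a7b00541d829ff414f4c0a7ff053fd02a04c150940a8660543e82a21c151160a88f0544980000035,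
0xe07801,
0xe08001,
0xe08801,
0xe09001,
0xe09801]

theorem edOK0 : edgesOK dat 21579 edL0 0 = true := by decide +kernel

end Cfsg.Agent.Spor.SpiderCert.IdxColl
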