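import Cfsg.Agent.Lib.Spor.SpiderIdxCollSteps0
import Cfsg.Agent.Lib.Spor.SpiderIdxCollSteps1
import Cfsg.Agent.Lib.Spor.SpiderIdxCollEdges0

/-!
Coset certificate `IdxColl` of Spider: assembled.
-/

set_option autoImplicit false
set_option maxRecDepth 100000

namespace Cfsg.Agent.Spor.SpiderCert.IdxColl

open Cfsg.Agent.Spor.CC

theorem steps_all : ∀ k, 7178 ≤ k → k < 21579 → ∃ s, stepOK dat k s = true := by
  intro k hk0 hk
  by_cases h0 : k < 9678
  · exact stepsOK_spec _ _ stOK0 k (by omega) (lt_of_lt_of_eq h0 (by decide +kernel))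
  by_cases h1 : k < 12178
  · exact stepsOK_spec _ _ stOK1 k (by omega) (lt_of_lt_of_eq h1 (by decide +kernel))
  by_cases h2 : k < 14678
  · exact stepsOK_spec _ _ stOK2 k (by omega) (lt_of_lt_of_eq h2 (by decide +kernel))
  by_cases h3 : k < 17178
  · exact stepsOK_spec _ _ stOK3 k (by omega) (lt_of_lt_of_eq h3 (by decide +kernel))
  by_cases h4 : k < 19678
  · exact stepsOK_spec _ _ stOK4 k (by omega) (lt_of_lt_of_eq h4 (by decide +kernel))
  exact stepsOK_spec _ _ stOK5 k (by omega) (lt_of_lt_of_eq hk (by decide +kernel))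

theorem edges_all : ∀ k, k < 11 → ∃ s, edgeOK dat 21579 k s = true := by
  intro k hk
  exact edgesOK_spec _ _ edOK0 k (by omega) (lt_of_lt_of_eq hk (by decide +kernel))

theorem checked : Checked dat 21579 where
  defs := defs_ok
  steps := steps_all
  edges := fun k hk => edges_all k hk
  pos := by decide
  ng_le := by decide

theorem words_ok : wordsOK dat letters 11 (Cfsg.Agent.Spor.SpiderCert.pres.relW ++ []) wit subW = true := by decide +kernel

end Cfsg.Agent.Spor.SpiderCert.IdxColl
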