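import Cfsg.Agent.Lib.Spor.SpiderIdxD5Data

/-!
Coset certificate `IdxD5` of Spider: checks.
-/

set_option autoImplicit false
set_option maxRecDepth 100000

namespace Cfsg.Agent.Spor.SpiderCert.IdxD5

open Cfsg.Agent.Spor.CC

/-- checked entries -/
def edL0 : List ℕ := [
0x12001,
0x12801,
0x13001,
0x13801,
0x1,
0x14001,
0x38001,
0x2f001,
0x25801,
0x801,
0x401,
0x14801,
0x38801,
0x2f801,
0x1001,
0xc01,
0x1d001,
0x15001,
0x39001,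
0x1801,
0x1401,
0x26001,
0x1d801,
0x2001,
0x2801,
0x1c01,
0x30001,
0x26801,
0x1e001,
0x3001,
0x3a001,
0x11801,
0x15801,
0x27001,
0x1e801,
0x2401,
0x2c01,
0x39801,
0x30801,
0x2e801,
0x25001,
0x3801,
0xf801,
0x11c01,
0x4001,
0x27801,
0x1f001,
0x3401,
0xfc01,
0x3a801,
0x4801,
0x28001,
0x1f801,
0x3c01,
0x10001,
0x16001,
0x4401,
0x5001,
0x20001,
0x31001,
0x10401,
0x5801,
0x4c01,
0x6001,
0x20801,
0x31801,
0x10801,
0x17001,
0x28801,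
0x5401,
0x6801,
0x32001,
0x16801,
0x5c01,
0x3b001,
0x7001,
0x23001,
0x36001,
0x10c01,
0xe801,
0x29001,
0x6401,
0x7801,
0x32801,
0x11001,
0x18001,
0x29801,
0x21001,
0x6c01,
0x33001,
0x17801,
0xec01,
0x8001,
0x7401,
0x8801,
0x35001,
0x11401,
0xf001,
0x2a001,
0x21801,
0x7c01,
0x33801,
0x1a001,
0x2b801,
0x8401,
0x3b801,
0x9001,
0x9801,
0x18801,
0xf401,
0xe001,
0x22001,
0x8c01,
0x34001,
0x19001,
0x2a801,
0xe401,
0xa001,
0x9401,
0xa801,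
0x1b801,
0x2d001,
0x35801,
0x3c801,
0xd801,
0x9c01,
0x19801,
0x2b001,
0x22801,
0xa401,
0x3c001,
0xb001,
0x1a801,
0x2c001,
0x34801,
0xd001,
0xdc01,
0xac01,
0x1b001,
0x2c801,
0xb801,
0xd401,
0x3d001,
0xb401,
0x1c001,
0xc001,
0xbc01,
0x36801,
0x3d801,
0x23801,
0xc801,
0xc401,
0x2d801,
0x37001,
0x3e001,
0x24001,
0xcc01,
0x1c801,
0x2e001,
0x37801,
0x3e801,
0x24801]

theorem edOK0 : edgesOK dat 126 edL0 0 = true := by decide +kernel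

end Cfsg.Agent.Spor.SpiderCert.IdxD5
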