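import Cfsg.Agent.Lib.Spor.SpiderIdxE7Data

/-!
Coset certificate `IdxE7` of Spider: checks.
-/

set_option autoImplicit false
set_option maxRecDepth 100000

namespace Cfsg.Agent.Spor.SpiderCert.IdxE7

open Cfsg.Agent.Spor.CC

/-- checked entries -/
def edL10 : List ℕ := [
0x22a4c01,
0x17f8801,
0x61a401,
0x22a3401,
0x922c01,
0x22a1401,
0x233c401,
0x233d401,
0x22a5c01,
0x177a001,
0xd47c01,
0x61ac01,
0x628801,
0x437a01f8ec02,
0x11b9401,
0x629001,
0x847600e1a822a6403,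
0x17cc001,
0x912401,
0x90c801,
0x233e401,
0x421c8233f402,
0x231b801,
0x61b401,
0xc71401,
0x165b801,
0x61bc01,
0xfd8401,
0x226cc01,
0x219ec01,
0x219cc01,
0x21a1401,
0xc6bc01,
0x1ba7801,
0x61c401,
0x219a401,
0x921401,
0x2049401,
0xfd8c01,
0x405201d3e002,
0xc6fc01,
0x1c1d801,
0x83cd00f080202cc03,
0x61cc01,
0x629801,
0x3f36020e6c02,
0xfd9c01,
0x62a001,
0xc6ec01,
0x1c1b001,
0x911c01,
0x90c001,
0x405201d3d802,
0x3f33020d5402,
0x235b001,
0x61d401,
0x10aec0236c04511021a8c04,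
0x1a98801,
0x61dc01,
0xfcec01,
0x861200f9e02070c03,
0x4510021a8c02,
0x1016821a8c02,
0x437d021a8c02,
0x84d000ded821ae403,
0xe3ac01,
0x61e401,
0x2072c01,
0x920401,
0x204ac01,
0xfccc01,
0x206cc01,
0x2354801,
0xe3c401,
0x911401,
0x2074c01,
0x2073401,
0xc61401,
0x62a801,
0x61ec01,
0x233cc01,
0xd34c01,
0x61f401,
0xfd4401,
0x417f81e03002,
0x22fac01,
0x21d5401,
0xbbbc01,
0x8aaa00e29022f4803,
0x14f8801,
0x61fc01,
0x44d80067f002,
0x91f401,
0x21aec01,
0xfd3c01,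
0x439c82319c02,
0x7e1a03e7d820ed403,
0x14f9001,
0x910c01,
0x3a97820ed402,
0x873903a98820ed403,
0x4006820ed402,
0x408200676802,
0x620401,
0xc70001,
0xe3fc01,
0xd4d001,
0x408402040c02,
0x620c01,
0x398a82040c02,
0xd0382040c02,
0x81010398b82040c03,
0xc6f001,
0xe3ec01,
0xd49001,
0x910401,
0x2042801,
0x436682357c02,
0x2045801,
0x621401,
0x1c21801,
0xe3d801,
0x1596801,
0x2076401,
0x2075c01,
0x2076c01,
0x621c01,
0xfcbc01,
0xd17401,
0x165c001,
0x90fc01,
0x2286801,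
0x2287001,
0x622401,
0x231b401,
0x42c602287802,
0xd17c01,
0x1659801,
0x436681cb9802,
0x843901037821b3c03,
0x21b2c01,
0x21be401,
0x622c01,
0x437a021bcc02,
0xd16c01,
0x22b9001,
0x623401,
0x46b780676002,
0x897e011a28228b403,
0x21f9401,
0x436680675802,
0x21af801,
0xd19c01,
0x1ba4801,
0x623c01,
0x4082021b0402,
0x21a9c01,
0x91b401,
0x204bc01,
0x21af401,
0xd19401,
0x1ba6801,
0x46b781cba802,
0x624401,
0x3a9f8202b402,
0x40820236d402,
0x46b88202b402,
0x405881d20802,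
0xd1a401,
0x1ba8001,
0x90f401,
0x405880782002,
0x938401,
0x21b0c01,
0x2046401,
0x624c01,
0x3a0e82103402,
0x1a98001,
0x90ec01,
0x858c00e8202103403,
0x84390103602059c03,
0x625401,
0x3e5d02059c02,
0x3a1082103402,
0x21aa401,
0x409b81cae002,
0x625c01,
0x205e401,
0xd07401,
0x919401,
0x204d401,
0x2052401,
0x439c8231a402,
0xf05401,
0x90e401,
0x233bc01,
0x934c01,
0x205ec01,
0x205fc01,
0x626401,
0x235a001,
0xf0fc01,
0x2359801,
0x204c801,
0x206c401,
0x408081cb6002,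
0x626c01,
0xfcc001,
0x86cd039720203d803,
0x14f5801,
0x407900675002,
0x90dc01,
0x86f4039698203d803,
0x41b901f9a402,
0xce68203d802,
0x627401,
0x8d6f039740203fc03,
0x14f6801,
0x408081cb5802,
0x396a8203fc02,
0x4087806be802,
0x46b50203fc02,
0x627c01,
0x408201cbb002,
0x8be200e1602062c03,
0xe1cc01,
0x106e401bf203e2b8203b404,
0x111c8203b402,
0x2075001,
0x90d401,
0x628401,
0x7e7403e2b8203b403,
0x235a401,
0x177c001,
0xd4d401,
0x436002041402,
0x628c01,
0x46da02041402,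
0xced82041402,
0x397682041402,
0x818a00e16822f8c03,
0x1779001,
0xd49401,
0x90cc01,
0xd7d82043802,
0x21be001,
0x231b001,
0x629401,
0xc70401,
0x1c1e801,
0x2359c01,
0xf048202c002,
0x629c01,
0x407f0235ac02,
0x235b401,
0x405601d50002,
0xc6f401,
0x1c1f801,
0x101d807c5600df9820dcc04,
0x90c401,
0x405601d4f802,
0x3f34020dcc02,
0x2046001,
0x62a401,
0x80fe039748235b803,
0xe3dc01,
0x39758235b802,
0xcec8235b802,
0x2075401,
0x408101cc5002,
0x62ac01,
0xfcc401]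

theorem edOK10 : edgesOK dat 18184 edL10 25000 = true := by decide +kernel

end Cfsg.Agent.Spor.SpiderCert.IdxE7
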