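import Cfsg.Agent.Lib.Spor.SpiderIdxE7Steps0
import Cfsg.Agent.Lib.Spor.SpiderIdxE7Steps1
import Cfsg.Agent.Lib.Spor.SpiderIdxE7Edges0
import Cfsg.Agent.Lib.Spor.SpiderIdxE7Edges1
import Cfsg.Agent.Lib.Spor.SpiderIdxE7Edges2

/-!
Coset certificate `IdxE7` of Spider: assembled.
-/

set_option autoImplicit false
set_option maxRecDepth 100000

namespace Cfsg.Agent.Spor.SpiderCert.IdxE7

open Cfsg.Agent.Spor.CC

theorem steps_all : ∀ k, 4632 ≤ k → k < 18184 → ∃ s, stepOK dat k s = true := by
  intro k hk0 hk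
  by_cases h0 : k < 7132
  · exact stepsOK_spec _ _ stOK0 k (by omega) (lt_of_lt_of_eq h0 (by decide +kernel))
  by_cases h1 : k < 9632
  · exact stepsOK_spec _ _ stOK1 k (by omega) (lt_of_lt_of_eq h1 (by decide +kernel))
  by_cases h2 : k < 12132
  · exact stepsOK_spec _ _ stOK2 k (by omega) (lt_of_lt_of_eq h2 (by decide +kernel))
  by_cases h3 : k < 14632
  · exact stepsOK_spec _ _ stOK3 k (by omega) (lt_of_lt_of_eq h3 (by decide +kernel))
  by_cases h4 : k < 17132
  · exact stepsOK_spec _ _ stOK4 k (by omega) (lt_of_lt_of_eq h4 (by decide +kernel))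
  exact stepsOK_spec _ _ stOK5 k (by omega) (lt_of_lt_of_eq hk (by decide +kernel))

theorem edges_all : ∀ k, k < 25272 → ∃ s, edgeOK dat 18184 k s = true := by
  intro k hk
  by_cases h0 : k < 2500
  · exact edgesOK_spec _ _ edOK0 k (by omega) (lt_of_lt_of_eq h0 (by decide +kernel))
  by_cases h1 : k < 5000
  · exact edgesOK_spec _ _ edOK1 k (by omega) (lt_of_lt_of_eq h1 (by decide +kernel))
  by_cases h2 : k < 7500
  · exact edgesOK_spec _ _ edOK2 k (by omega) (lt_of_lt_of_eq h2 (by decide +kernel))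
  by_cases h3 : k < 10000
  · exact edgesOK_spec _ _ edOK3 k (by omega) (lt_of_lt_of_eq h3 (by decide +kernel))
  by_cases h4 : k < 12500
  · exact edgesOK_spec _ _ edOK4 k (by omega) (lt_of_lt_of_eq h4 (by decide +kernel))
  by_cases h5 : k < 15000
  · exact edgesOK_spec _ _ edOK5 k (by omega) (lt_of_lt_of_eq h5 (by decide +kernel))
  by_cases h6 : k < 17500
  · exact edgesOK_spec _ _ edOK6 k (by omega) (lt_of_lt_of_eq h6 (by decide +kernel))
  by_cases h7 : k < 20000
  · exact edgesOK_spec _ _ edOK7 k (by omega) (lt_of_lt_of_eq h7 (by decide +kernel))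
  by_cases h8 : k < 22500
  · exact edgesOK_spec _ _ edOK8 k (by omega) (lt_of_lt_of_eq h8 (by decide +kernel))
  by_cases h9 : k < 25000
  · exact edgesOK_spec _ _ edOK9 k (by omega) (lt_of_lt_of_eq h9 (by decide +kernel))
  exact edgesOK_spec _ _ edOK10 k (by omega) (lt_of_lt_of_eq hk (by decide +kernel))

theorem checked : Checked dat 18184 where
  defs := defs_ok
  steps := steps_all
  edges := fun k hk => edges_all k hk
  pos := by decide
  ng_le := by decide

theorem words_ok : wordsOK dat letters 11 (Cfsg.Agent.Spor.SpiderCert.pres.relW ++ []) wit subW = true := by decide +kernel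

end Cfsg.Agent.Spor.SpiderCert.IdxE7
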