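import Cfsg.Agent.Lib.Spor.SpiderIdxOneData

/-!
Coset certificate `IdxOne` of Spider: checks.
-/

set_option autoImplicit false
set_option maxRecDepth 100000

namespace Cfsg.Agent.Spor.SpiderCert.IdxOne

open Cfsg.Agent.Spor.CC

/-- checked entries -/
def stL0 : List ℕ := [
0x140000400001c000260001f0000500000010,
0xa0000400002f0040200040010,
0x48000220001d000030004000f,
0x2c000130000a00003c00033008030008000f,
0xe0000200000c0001a00019000050000000d,
0x900003400037004020004000d,
0x300001600017000030004000c,
0x2a00011000090000300003b008030008000c,
0xa000010000040000e000110000500080009,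
0x260000e0000880002c0003f0080300000009,
0xb000054000410040200040014,
0x310001a8000e40007a0004300803000c0017,
0x150001080003c00036000450080300100011]

theorem stOK0 : stepsOK dat stL0 23 = true := by decide +kernel

end Cfsg.Agent.Spor.SpiderCert.IdxOne
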