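import Cfsg.Agent.Lib.Spor.SpiderHom
import Cfsg.Agent.Lib.Spor.SpiderIdxOneCert
import Cfsg.Agent.Lib.Spor.SpiderIdxA3Cert
import Cfsg.Agent.Lib.Spor.SpiderIdxA4Cert
import Cfsg.Agent.Lib.Spor.SpiderIdxD5Cert
import Cfsg.Agent.Lib.Spor.SpiderIdxE6Cert
import Cfsg.Agent.Lib.Spor.SpiderIdxE7Cert
import Cfsg.Agent.Lib.Spor.SpiderIdxY332Cert
import Cfsg.Agent.Lib.Spor.SpiderIdxY432Cert
import Cfsg.Agent.Lib.Spor.SpiderIdxCollCert
import Cfsg.Agent.Lib.Spor.Fi23Main

/-!
With the spider relation alone, the diagram with arms five, three and two gives a double cover of Fi23: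
two consequences of this.
-/

set_option autoImplicit false
set_option maxRecDepth 100000

namespace Cfsg.Agent.Spor.SpiderCert

open Cfsg.Agent.Spor.CC

theorem no_more : ∀ r ∈ ([] : List (List ℕ)), (r.map pres.gen).prod = 1 := by simp

theorem sub_perm {ks ks' : List ℕ} (h : ∀ x, x ∈ ks ↔ x ∈ ks') : pres.sub ks = pres.sub ks' := by
  simp only [Pres.sub, h]

theorem step {D : Data} {m : ℕ} (hc : Checked D m) {ks ks' : List ℕ} (hks : ks.length = D.ng)
    {wit : List (ℕ × ℕ × Bool)} {subW : List (List ℕ)}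
    (hw : wordsOK D ks pres.ng (pres.relW ++ []) wit subW = true)
    (e : pres.wsub subW = pres.sub ks') {b c : ℕ}
    (hH : Finite (pres.sub ks') ∧ Nat.card (pres.sub ks') ≤ b) (hnn : (D.nn * b).ble c = true) :
    Finite (pres.sub ks) ∧ Nat.card (pres.sub ks) ≤ c := by
  have h := Pres.sub_card_le pres_ok hc hks no_more hw (b := b) (e.symm ▸ hH)
  exact ⟨h.1, h.2.trans (Nat.le_of_ble_eq_true hnn)⟩

theorem cardOne : Finite (pres.sub IdxOne.letters) ∧ Nat.card (pres.sub IdxOne.letters) ≤ 24 := by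
  have h := Pres.sub_card_le pres_ok IdxOne.checked (ks := IdxOne.letters) rfl no_more IdxOne.words_ok
    (b := 1) (by rw [show IdxOne.subW = [] from rfl, Pres.wsub_nil]; exact bot_card)
  exact ⟨h.1, h.2.trans (Nat.le_of_ble_eq_true (by decide +kernel))⟩

theorem cardA3 : Finite (pres.sub IdxA3.letters) ∧ Nat.card (pres.sub IdxA3.letters) ≤ 120 := by
  exact step IdxA3.checked rfl IdxA3.words_ok (Pres.wsub_singles [1, 2, 3]) cardOne (by decide +kernel)

theorem cardA4 : Finite (pres.sub IdxA4.letters) ∧ Nat.card (pres.sub IdxA4.letters) ≤ 1920 := by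
  exact step IdxA4.checked rfl IdxA4.words_ok (Pres.wsub_singles [1, 2, 3, 4]) cardA3 (by decide +kernel)

theorem cardD5 : Finite (pres.sub IdxD5.letters) ∧ Nat.card (pres.sub IdxD5.letters) ≤ 51840 := by
  exact step IdxD5.checked rfl IdxD5.words_ok (Pres.wsub_singles [1, 2, 3, 4, 8]) cardA4 (by decide +kernel)

theorem cardE6 : Finite (pres.sub IdxE6.letters) ∧ Nat.card (pres.sub IdxE6.letters) ≤ 2903040 := by
  exact step IdxE6.checked rfl IdxE6.words_ok (Pres.wsub_singles [1, 2, 3, 4, 5, 8]) cardD5 (by decide +kernel)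

theorem cardE7 : Finite (pres.sub IdxE7.letters) ∧ Nat.card (pres.sub IdxE7.letters) ≤ 9170703360 := by
  exact step IdxE7.checked rfl IdxE7.words_ok (Pres.wsub_singles [1, 2, 3, 4, 5, 6, 8]) cardE6 (by decide +kernel)

theorem cardY332 : Finite (pres.sub IdxY332.letters) ∧ Nat.card (pres.sub IdxY332.letters) ≤ 258247006617600 := by
  exact step IdxY332.checked rfl IdxY332.words_ok (Pres.wsub_singles [1, 2, 3, 4, 5, 6, 8, 9]) cardE7 (by decide +kernel)

theorem cardY432 : Finite (pres.sub IdxY432.letters) ∧ Nat.card (pres.sub IdxY432.letters) ≤ 8178940946586009600 := by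
  exact step IdxY432.checked rfl IdxY432.words_ok (Pres.wsub_singles [0, 1, 2, 3, 4, 5, 6, 8, 9]) cardY332 (by decide +kernel)

theorem cardColl : Finite (pres.sub IdxColl.letters) ∧ Nat.card (pres.sub IdxColl.letters) ≤ 8178940946586009600 := by
  refine step IdxColl.checked rfl IdxColl.words_ok ?_ cardY432 (by decide +kernel)
  rw [show pres.wsub IdxColl.subW = pres.sub [3, 4, 5, 6, 7, 2, 1, 0, 8, 9] from Pres.wsub_singles [3, 4, 5, 6, 7, 2, 1, 0, 8, 9]]
  refine sub_perm fun x => ?_
  simp only [IdxY432.letters, List.mem_cons, List.not_mem_nil, or_false]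
  omega

theorem card_top : Finite pres.Grp ∧ Nat.card pres.Grp ≤ 8178940946586009600 := by
  have h := cardColl
  rw [Pres.sub_all pres_ok (ks := IdxColl.letters) (by decide)] at h
  obtain ⟨hf, hc⟩ := h
  haveI := hf
  refine ⟨Finite.of_equiv _ Subgroup.topEquiv.toEquiv, ?_⟩
  rw [← Nat.card_congr (Subgroup.topEquiv (G := pres.Grp)).toEquiv]
  exact hc

/-- the end node of the long arm as a word of Fi23 -/
def endW : List ℕ := powW 9 [6, 1, 5, 8, 2, 4, 3]

/-- images in Fi23, as words -/
def fiW (x : ℕ) : List ℕ := if x < 10 then [x] else if x = 10 then endW else []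

theorem fi_rels : (pres.relW.all fun r =>
    (r.flatMap fiW).all (fun x => Nat.blt x 10) &&
      fixOK Fi23Cert.RepA.rows 10 [r.flatMap fiW] (Fi23Cert.RepA.levels.map Orb.b)) = true := by
  decide +kernel

/-- the image in Fi23 of a generator -/
noncomputable def fiG (x : ℕ) : Fi23Cert.pres.Grp := ((fiW x).map Fi23Cert.pres.gen).prod

theorem fiG_big (x : ℕ) (hx : ¬ x < pres.ng) : fiG x = 1 := by
  have h : ¬ x < 10 ∧ x ≠ 10 := by change ¬ x < 11 at hx; omega
  simp [fiG, fiW, h.1, h.2]

theorem fiG_prod : ∀ r : List ℕ, (r.map fiG).prod = ((r.flatMap fiW).map Fi23Cert.pres.gen).prod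
  | [] => rfl
  | a :: r => by
    rw [List.map_cons, List.prod_cons, fiG_prod r, List.flatMap_cons, List.map_append, List.prod_append]
    rfl

theorem fiG_rel : ∀ r ∈ pres.relW, (r.map fiG).prod = 1 := by
  intro r hr
  haveI := Fi23Cert.order.1
  have h := List.all_eq_true.mp fi_rels r hr
  rw [Bool.and_eq_true] at h
  rw [fiG_prod]
  exact eq_one_of_fix Fi23Cert.rep.valid Fi23Cert.pres.gen Fi23Cert.rep.hom Fi23Cert.rep.hom_gen
    Fi23Cert.RepA.chain_ok (by rw [Fi23Cert.order.2.1, Fi23Cert.RepA.chain_size])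
    (fun x hx => Nat.le_of_ble_eq_true (List.all_eq_true.mp h.1 x hx)) h.2

/-- onto Fi23 -/
noncomputable def toFi : pres.Grp →* Fi23Cert.pres.Grp := homOf pres_ok fiG fiG_big fiG_rel

theorem toFi_gen {x : ℕ} (hx : x < 10) : toFi (pres.gen x) = Fi23Cert.pres.gen x := by
  rw [toFi, homOf_gen]
  simp [fiG, fiW, hx]

theorem toFi_surj : Function.Surjective toFi := by
  rw [← MonoidHom.range_eq_top, eq_top_iff, ← Pres.closure_gen Fi23Cert.pres_ok, Subgroup.closure_le]
  rintro _ ⟨x, hx, rfl⟩
  exact ⟨pres.gen x, toFi_gen hx⟩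

/-- the parity of a generator -/
def sgnG (x : ℕ) : Multiplicative (ZMod 2) := if x < 11 then Multiplicative.ofAdd 1 else 1

theorem sgnG_big (x : ℕ) (hx : ¬ x < pres.ng) : sgnG x = 1 := if_neg hx

/-- the parity -/
noncomputable def sgn : pres.Grp →* Multiplicative (ZMod 2) :=
  homOf pres_ok sgnG sgnG_big (by decide +kernel)

/-- the central involution -/
def evenW : List ℕ := powW 9 [0, 1, 2, 3, 4, 5, 8]

/-- an element killed in Fi23 and of even parity is trivial -/
theorem eq_one {w : List ℕ} (h1 : toFi ((w.map pres.gen).prod) = 1) (h2 : sgn ((w.map pres.gen).prod) = 1) :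
    (w.map pres.gen).prod = 1 := by
  obtain ⟨hfin, hcard⟩ := card_top
  generalize (w.map pres.gen).prod = s at h1 h2
  have hz1 : toFi ((evenW.map pres.gen).prod) = 1 := by
    rw [map_list_prod, List.map_map, List.map_congr_left (f := ⇑toFi ∘ pres.gen) (g := Fi23Cert.pres.gen) (fun x hx =>
      toFi_gen (Nat.le_of_ble_eq_true (List.all_eq_true.mp
        (show evenW.all (fun x => Nat.blt x 10) = true by decide +kernel) x hx)))]
    exact Pres.relW_one Fi23Cert.pres_ok (by decide +kernel)
  have hz2 : sgn ((evenW.map pres.gen).prod) ≠ 1 := by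
    rw [sgn, homOf_prod]
    decide +kernel
  generalize (evenW.map pres.gen).prod = z at hz1 hz2
  have hk : Nat.card toFi.ker ≤ 2 := by
    have e := Subgroup.card_mul_index toFi.ker
    rw [Subgroup.index_ker, MonoidHom.range_eq_top.mpr toFi_surj,
      Nat.card_congr (Subgroup.topEquiv (G := Fi23Cert.pres.Grp)).toEquiv, Fi23Cert.order.2.1] at e
    omega
  by_contra hs
  let f : Fin 3 → toFi.ker := ![1, ⟨s, h1⟩, ⟨z, hz1⟩]
  have hf : Function.Injective f := by
    have n1 : z ≠ 1 := fun e => hz2 (by rw [e, map_one])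
    have n2 : s ≠ z := fun e => hz2 (e ▸ h2)
    intro i j e
    fin_cases i <;> fin_cases j <;> simp [f, Subtype.ext_iff, hs, n1, n2, Ne.symm hs, Ne.symm n1, Ne.symm n2] at e ⊢
  have := Nat.card_le_card_of_injective f hf
  rw [Nat.card_fin] at this
  omega

/-- the arm relation -/
def armW : List ℕ := 10 :: endW

/-- the spider word with the other orientation -/
def flipW : List ℕ := powW 10 [3, 4, 5, 3, 2, 1, 3, 8, 9]

theorem arm_one : (armW.map pres.gen).prod = 1 := by
  refine eq_one ?_ (by rw [sgn, homOf_prod]; decide +kernel)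
  haveI := Fi23Cert.order.1
  rw [toFi, homOf_prod]
  have e : (armW.map fiG).prod = ((endW ++ endW).map Fi23Cert.pres.gen).prod := by
    rw [armW, List.map_cons, List.prod_cons, List.map_append, List.prod_append]
    refine congrArg₂ (· * ·) rfl (congrArg List.prod (List.map_congr_left fun x hx => ?_))
    have : x < 10 := Nat.le_of_ble_eq_true (List.all_eq_true.mp
      (show endW.all (fun x => Nat.blt x 10) = true by decide +kernel) x hx)
    simp [fiG, fiW, this]
  rw [e]
  exact eq_one_of_fix Fi23Cert.rep.valid Fi23Cert.pres.gen Fi23Cert.rep.hom Fi23Cert.rep.hom_gen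
    Fi23Cert.RepA.chain_ok (by rw [Fi23Cert.order.2.1, Fi23Cert.RepA.chain_size])
    (fun x hx => Nat.le_of_ble_eq_true (List.all_eq_true.mp
      (show (endW ++ endW).all (fun x => Nat.blt x 10) = true by decide +kernel) x hx)) (by decide +kernel)

theorem flip_one : (flipW.map pres.gen).prod = 1 := by
  refine eq_one ?_ (by rw [sgn, homOf_prod]; decide +kernel)
  haveI := Fi23Cert.order.1
  have hlt : ∀ x ∈ flipW, x < 10 := fun x hx => Nat.le_of_ble_eq_true (List.all_eq_true.mp
    (show flipW.all (fun x => Nat.blt x 10) = true by decide +kernel) x hx)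
  rw [map_list_prod, List.map_map, List.map_congr_left (f := ⇑toFi ∘ pres.gen) (g := Fi23Cert.pres.gen) (fun x hx => toFi_gen (hlt x hx))]
  exact eq_one_of_fix Fi23Cert.rep.valid Fi23Cert.pres.gen Fi23Cert.rep.hom Fi23Cert.rep.hom_gen
    Fi23Cert.RepA.chain_ok (by rw [Fi23Cert.order.2.1, Fi23Cert.RepA.chain_size]) hlt (by decide +kernel)

end Cfsg.Agent.Spor.SpiderCert
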