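import Cfsg.Agent.Lib.Spor.OrbitCert
import Cfsg.Prelude.Def_SporCoxeter

/-!
The Coxeter diagram with arms of lengths five, three and two, with the spider relation only.
-/

set_option autoImplicit false

namespace Cfsg.Agent.Spor.SpiderCert

open Cfsg.Agent.Spor.CC

/-- the nodes: centre `d`, arms `c b a`, `e f g j k`, `h i` -/
inductive Node
  | a
  | b
  | c
  | d
  | e
  | f
  | g
  | j
  | h
  | i
  | k
  deriving DecidableEq

/-- numbering -/
def ixNode : Node → ℕ
  | .a => 0
  | .b => 1
  | .c => 2
  | .d => 3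
  | .e => 4
  | .f => 5
  | .g => 6
  | .j => 7
  | .h => 8
  | .i => 9
  | .k => 10

/-- names -/
def nmNode (x : ℕ) : Node := [Node.a, .b, .c, .d, .e, .f, .g, .j, .h, .i, .k].getD x .a

/-- the edges -/
def edges : List (Node × ℕ × Node) :=
  [(.a, 3, .b), (.b, 3, .c), (.c, 3, .d), (.d, 3, .e), (.d, 3, .h), (.e, 3, .f), (.f, 3, .g), (.g, 3, .j),
    (.h, 3, .i), (.j, 3, .k)]

/-- the spider word -/
def spiderF : FreeGroup Node :=
  FreeGroup.of .d * FreeGroup.of .c * FreeGroup.of .b * FreeGroup.of .d * FreeGroup.of .e * FreeGroup.of .f *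
    FreeGroup.of .d * FreeGroup.of .h * FreeGroup.of .i

/-- the numbered presentation -/
def pres : Pres Node where
  edges := edges
  extra := [spiderF ^ 10]
  ng := 11
  ix := ixNode
  nm := nmNode
  extraW := [powW 10 [3,2,1,3,4,5,3,8,9]]

theorem pres_ok : pres.OK where
  ix_lt := fun a => by cases a <;> decide
  nm_ix := fun a => by cases a <;> rfl
  ix_nm := by decide +kernel
  node := by decide +kernel
  symm := by decide +kernel
  ng_le := by decide
  extra_eq := by
    intro M _ f hf
    have hi : ∀ x, (f x)⁻¹ = f x := fun x => inv_eq_of_mul_eq_one_left (hf x)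
    simp [pres, spiderF, powW, List.replicate, pow_succ, mul_assoc, ixNode]

theorem relW_letters : lettersOK 11 pres.relW = true := by decide +kernel

end Cfsg.Agent.Spor.SpiderCert
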