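import Cfsg.Prelude.Def_Sporadic_a
import Mathlib

/-!
Double counting in Steiner systems.
-/

set_option autoImplicit false

namespace Cfsg.Agent.Spor.Steiner

open Finset

variable {α : Type*} [Fintype α] [DecidableEq α] {t k : ℕ} {B : Finset (Finset α)}

/-- The number of blocks containing a given set. -/
def cov (B : Finset (Finset α)) (S : Finset α) : ℕ := (B.filter fun c => S ⊆ c).card

omit [Fintype α] in
theorem block_eq (hB : Cfsg.IsSteinerSystem t k (B : Set (Finset α))) {b c : Finset α}
    (hb : b ∈ B) (hc : c ∈ B) (h : t ≤ (b ∩ c).card) : b = c := by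
  obtain ⟨s, hs, hsc⟩ := exists_subset_card_eq h
  exact (hB.2 s hsc).unique ⟨hb, hs.trans inter_subset_left⟩ ⟨hc, hs.trans inter_subset_right⟩

theorem cov_mul (hB : Cfsg.IsSteinerSystem t k (B : Set (Finset α))) {S : Finset α}
    (hS : S.card ≤ t) :
    cov B S * (k - S.card).choose (t - S.card) = (Fintype.card α - S.card).choose (t - S.card) := by
  classical
  have h := sum_card_bipartiteAbove_eq_sum_card_bipartiteBelow
    (s := B.filter fun c => S ⊆ c) (t := (univ \ S).powersetCard (t - S.card))
    (fun (c : Finset α) (U : Finset α) => U ⊆ c)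
  have h1 : ∀ c ∈ B.filter (fun c => S ⊆ c),
      (bipartiteAbove (fun (c : Finset α) (U : Finset α) => U ⊆ c)
        ((univ \ S).powersetCard (t - S.card)) c).card = (k - S.card).choose (t - S.card) := by
    intro c hc
    rw [mem_filter] at hc
    have e : bipartiteAbove (fun (c : Finset α) (U : Finset α) => U ⊆ c)
        ((univ \ S).powersetCard (t - S.card)) c = (c \ S).powersetCard (t - S.card) := by
      ext U
      simp only [bipartiteAbove, mem_filter, mem_powersetCard, subset_sdiff, subset_univ, true_and]
      constructor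
      · rintro ⟨⟨h1, h2⟩, h3⟩; exact ⟨⟨h3, h1⟩, h2⟩
      · rintro ⟨⟨h3, h1⟩, h2⟩; exact ⟨⟨h1, h2⟩, h3⟩
    rw [e, card_powersetCard, card_sdiff_of_subset hc.2, hB.1 c hc.1]
  have h2 : ∀ U ∈ (univ \ S).powersetCard (t - S.card),
      (bipartiteBelow (fun (c : Finset α) (U : Finset α) => U ⊆ c)
        (B.filter fun c => S ⊆ c) U).card = 1 := by
    intro U hU
    rw [mem_powersetCard, subset_sdiff] at hU
    have hcard : (S ∪ U).card = t := by rw [card_union_of_disjoint hU.1.2.symm, hU.2]; omega
    obtain ⟨c, ⟨hc, hsc⟩, huniq⟩ := hB.2 (S ∪ U) hcard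
    rw [card_eq_one]
    refine ⟨c, eq_singleton_iff_unique_mem.2 ⟨?_, fun c' hc' => ?_⟩⟩
    · simp only [bipartiteBelow, mem_filter]
      exact ⟨⟨hc, subset_union_left.trans hsc⟩, subset_union_right.trans hsc⟩
    · simp only [bipartiteBelow, mem_filter] at hc'
      exact huniq c' ⟨hc'.1.1, union_subset hc'.1.2 hc'.2⟩
  rw [sum_congr rfl h1, sum_congr rfl h2, sum_const, sum_const, card_powersetCard,
    card_sdiff_of_subset (subset_univ S), card_univ] at h
  simpa [cov] using h

/-- Moments of the intersection sizes with a set, among blocks through a smaller set. -/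
theorem moment (S b : Finset α) (j : ℕ) :
    ∑ c ∈ B.filter (fun c => S ⊆ c), ((b \ S) ∩ c).card.choose j =
      ∑ U ∈ (b \ S).powersetCard j, cov B (S ∪ U) := by
  classical
  have h := sum_card_bipartiteAbove_eq_sum_card_bipartiteBelow
    (s := B.filter fun c => S ⊆ c) (t := (b \ S).powersetCard j)
    (fun (c : Finset α) (U : Finset α) => U ⊆ c)
  refine (Finset.sum_congr rfl fun c _ => ?_).trans (h.trans (Finset.sum_congr rfl fun U _ => ?_))
  · rw [← card_powersetCard]
    congr 1
    ext U
    simp [bipartiteAbove, mem_powersetCard, subset_inter_iff, and_right_comm]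
  · rw [cov, bipartiteBelow, filter_filter]
    congr 1
    ext c
    simp [union_subset_iff]

/-- Moments when all small sets are covered equally often. -/
theorem moment_const (hB : Cfsg.IsSteinerSystem t k (B : Set (Finset α))) (S b : Finset α) (j : ℕ)
    (hj : S.card + j ≤ t) (hk : t ≤ k) {L : ℕ}
    (hL : L * (k - (S.card + j)).choose (t - (S.card + j)) =
      (Fintype.card α - (S.card + j)).choose (t - (S.card + j))) :
    ∑ c ∈ B.filter (fun c => S ⊆ c), ((b \ S) ∩ c).card.choose j = (b \ S).card.choose j * L := by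
  rw [moment S b j, Finset.sum_congr rfl (g := fun _ => L) (fun U hU => ?_), sum_const,
    card_powersetCard, smul_eq_mul]
  rw [mem_powersetCard, subset_sdiff] at hU
  have hc : (S ∪ U).card = S.card + j := by rw [card_union_of_disjoint hU.1.2.symm, hU.2]
  have h := cov_mul hB (S := S ∪ U) (by rw [hc]; exact hj)
  rw [hc, ← hL] at h
  exact Nat.eq_of_mul_eq_mul_right (Nat.choose_pos (by omega)) h

omit [Fintype α] in
/-- Sorting blocks by the size of their intersection with a set. -/
theorem sum_by_size (C : Finset (Finset α)) (b : Finset α) (n : ℕ) (hn : b.card ≤ n) (f : ℕ → ℕ) :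
    ∑ c ∈ C, f (b ∩ c).card =
      ∑ i ∈ range (n + 1), f i * (C.filter fun c => (b ∩ c).card = i).card := by
  rw [← sum_fiberwise_of_maps_to (g := fun c => (b ∩ c).card) (t := range (n + 1))
    (fun c _ => mem_range.2 (Nat.lt_succ_of_le ((card_le_card inter_subset_left).trans hn)))]
  refine sum_congr rfl fun i _ => ?_
  rw [sum_congr rfl (g := fun _ => f i) (fun c hc => by rw [(mem_filter.1 hc).2]), sum_const,
    smul_eq_mul, mul_comm]

omit [Fintype α] in
/-- Sum form of a moment. -/
theorem profile (B : Finset (Finset α)) (S b : Finset α) (n j M : ℕ) (hn : (b \ S).card ≤ n)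
    (h : ∑ c ∈ B.filter (fun c => S ⊆ c), ((b \ S) ∩ c).card.choose j = M) :
    ∑ i ∈ range (n + 1), i.choose j *
      ((B.filter fun c => S ⊆ c).filter fun c => ((b \ S) ∩ c).card = i).card = M :=
  (sum_by_size (B.filter fun c => S ⊆ c) (b \ S) n hn (fun i => i.choose j)).symm.trans h

omit [Fintype α] in
theorem big_class (hB : Cfsg.IsSteinerSystem t k (B : Set (Finset α))) {b : Finset α} (hb : b ∈ B)
    {S : Finset α} (hS : S ⊆ b) (hk : t ≤ k) (i : ℕ) (hi : t ≤ S.card + i) :
    ((B.filter fun c => S ⊆ c).filter fun c => ((b \ S) ∩ c).card = i).card =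
      if S.card + i = k then 1 else 0 := by
  have key : ∀ c ∈ B, S ⊆ c → ((b \ S) ∩ c).card = i → c = b := by
    intro c hc hSc hci
    refine (block_eq hB hb hc ?_).symm
    have : S ∪ ((b \ S) ∩ c) ⊆ b ∩ c := union_subset (subset_inter hS hSc)
      (inter_subset_inter_right sdiff_subset)
    have h := card_le_card this
    rw [card_union_of_disjoint (disjoint_sdiff.mono_right inter_subset_left), hci] at h
    omega
  have hbc : ((b \ S) ∩ b).card + S.card = k := by
    rw [inter_eq_left.2 sdiff_subset, card_sdiff_add_card_eq_card hS, hB.1 b hb]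
  split_ifs with h
  · rw [card_eq_one]
    refine ⟨b, eq_singleton_iff_unique_mem.2 ⟨?_, fun c hc => ?_⟩⟩
    · simp only [mem_filter]; exact ⟨⟨hb, hS⟩, by omega⟩
    · simp only [mem_filter] at hc; exact key c hc.1.1 hc.1.2 hc.2
  · rw [card_eq_zero, eq_empty_iff_forall_notMem]
    intro c hc
    simp only [mem_filter] at hc
    obtain rfl := key c hc.1.1 hc.1.2 hc.2
    omega

theorem ncard_mul (hB : Cfsg.IsSteinerSystem t k (B : Set (Finset α))) :
    B.card * k.choose t = (Fintype.card α).choose t := by
  simpa [cov] using cov_mul hB (S := ∅) (by simp)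

/-- Intersection numbers of a block. -/
theorem block_profile (hB : Cfsg.IsSteinerSystem t k (B : Set (Finset α))) {b : Finset α}
    (hb : b ∈ B) (hk : t ≤ k) (j L : ℕ) (hj : j ≤ t)
    (hL : L * (k - j).choose (t - j) = (Fintype.card α - j).choose (t - j)) :
    ∑ i ∈ range (k + 1), i.choose j * (B.filter fun c => (b ∩ c).card = i).card =
      k.choose j * L := by
  have h := profile B ∅ b k j _ (by simp [hB.1 b hb])
    (moment_const hB ∅ b j (by simpa using hj) hk (by simpa using hL))
  simpa [hB.1 b hb] using h

theorem block_big (hB : Cfsg.IsSteinerSystem t k (B : Set (Finset α))) {b : Finset α}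
    (hb : b ∈ B) (hk : t ≤ k) (i : ℕ) (hi : t ≤ i) :
    (B.filter fun c => (b ∩ c).card = i).card = if i = k then 1 else 0 := by
  simpa using big_class hB hb (empty_subset b) hk i (by simpa using hi)

omit [Fintype α] in
theorem ncard_sep (B : Finset (Finset α)) (P : Finset α → Prop) [DecidablePred P] :
    {c : Finset α | c ∈ (B : Set (Finset α)) ∧ P c}.ncard = (B.filter P).card := by
  rw [← Set.ncard_coe_finset]
  congr 1
  ext c
  simp

omit [Fintype α] in
theorem exists_finset [Finite α] (B : Set (Finset α)) :
    ∃ F : Finset (Finset α), B = (F : Set (Finset α)) :=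
  ⟨(Set.toFinite B).toFinset, (Set.Finite.coe_toFinset _).symm⟩

theorem five_eight (hα : Fintype.card α = 24) (hB : Cfsg.IsSteinerSystem 5 8 (B : Set (Finset α)))
    {b : Finset α} (hb : b ∈ B) :
    (B.filter fun c => (b ∩ c).card = 0).card = 30 ∧ (B.filter fun c => (b ∩ c).card = 1).card = 0 ∧
    (B.filter fun c => (b ∩ c).card = 3).card = 0 := by
  have e0 := block_profile hB hb (by norm_num) 0 759 (by norm_num) (by rw [hα]; decide)
  have e1 := block_profile hB hb (by norm_num) 1 253 (by norm_num) (by rw [hα]; decide)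
  have e2 := block_profile hB hb (by norm_num) 2 77 (by norm_num) (by rw [hα]; decide)
  have e3 := block_profile hB hb (by norm_num) 3 21 (by norm_num) (by rw [hα]; decide)
  have e4 := block_profile hB hb (by norm_num) 4 5 (by norm_num) (by rw [hα]; decide)
  simp only [sum_range_succ, sum_range_zero, block_big hB hb (by norm_num) 5 le_rfl,
    block_big hB hb (by norm_num) 6 (by norm_num), block_big hB hb (by norm_num) 7 (by norm_num),
    block_big hB hb (by norm_num) 8 (by norm_num)] at e0 e1 e2 e3 e4
  norm_num [-Finset.card_eq_zero, Nat.choose_eq_zero_of_lt, Nat.choose] at e0 e1 e2 e3 e4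
  omega

theorem four_seven (hα : Fintype.card α = 23) (hB : Cfsg.IsSteinerSystem 4 7 (B : Set (Finset α)))
    {b : Finset α} (hb : b ∈ B) :
    (B.filter fun c => (b ∩ c).card = 0).card = 0 ∧ (B.filter fun c => (b ∩ c).card = 2).card = 0 := by
  have e0 := block_profile hB hb (by norm_num) 0 253 (by norm_num) (by rw [hα]; decide)
  have e1 := block_profile hB hb (by norm_num) 1 77 (by norm_num) (by rw [hα]; decide)
  have e2 := block_profile hB hb (by norm_num) 2 21 (by norm_num) (by rw [hα]; decide)
  have e3 := block_profile hB hb (by norm_num) 3 5 (by norm_num) (by rw [hα]; decide)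
  simp only [sum_range_succ, sum_range_zero, block_big hB hb (by norm_num) 4 le_rfl,
    block_big hB hb (by norm_num) 5 (by norm_num), block_big hB hb (by norm_num) 6 (by norm_num),
    block_big hB hb (by norm_num) 7 (by norm_num)] at e0 e1 e2 e3
  norm_num [-Finset.card_eq_zero, Nat.choose] at e0 e1 e2 e3
  omega

theorem three_six (hα : Fintype.card α = 22) (hB : Cfsg.IsSteinerSystem 3 6 (B : Set (Finset α)))
    {b : Finset α} (hb : b ∈ B) :
    (B.filter fun c => (b ∩ c).card = 0).card = 16 ∧ (B.filter fun c => (b ∩ c).card = 1).card = 0 ∧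
      (B.filter fun c => (b ∩ c).card = 2).card = 60 ∧ B.card = 77 := by
  have hc := ncard_mul hB
  have e0 := block_profile hB hb (by norm_num) 0 77 (by norm_num) (by rw [hα]; decide)
  have e1 := block_profile hB hb (by norm_num) 1 21 (by norm_num) (by rw [hα]; decide)
  have e2 := block_profile hB hb (by norm_num) 2 5 (by norm_num) (by rw [hα]; decide)
  simp only [sum_range_succ, sum_range_zero, block_big hB hb (by norm_num) 3 le_rfl,
    block_big hB hb (by norm_num) 4 (by norm_num), block_big hB hb (by norm_num) 5 (by norm_num),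
    block_big hB hb (by norm_num) 6 (by norm_num)] at e0 e1 e2
  norm_num [-Finset.card_eq_zero, Nat.choose, hα] at e0 e1 e2 hc
  omega

theorem five_six (hα : Fintype.card α = 12) (hB : Cfsg.IsSteinerSystem 5 6 (B : Set (Finset α)))
    {b : Finset α} (hb : b ∈ B) :
    (B.filter fun c => (b ∩ c).card = 0).card = 1 ∧ (B.filter fun c => (b ∩ c).card = 1).card = 0 := by
  have e0 := block_profile hB hb (by norm_num) 0 132 (by norm_num) (by rw [hα]; decide)
  have e1 := block_profile hB hb (by norm_num) 1 66 (by norm_num) (by rw [hα]; decide)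
  have e2 := block_profile hB hb (by norm_num) 2 30 (by norm_num) (by rw [hα]; decide)
  have e3 := block_profile hB hb (by norm_num) 3 12 (by norm_num) (by rw [hα]; decide)
  have e4 := block_profile hB hb (by norm_num) 4 4 (by norm_num) (by rw [hα]; decide)
  simp only [sum_range_succ, sum_range_zero, block_big hB hb (by norm_num) 5 le_rfl,
    block_big hB hb (by norm_num) 6 (by norm_num)] at e0 e1 e2 e3 e4
  norm_num [-Finset.card_eq_zero, Nat.choose] at e0 e1 e2 e3 e4
  omega

theorem five_eight_triple (hα : Fintype.card α = 24)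
    (hB : Cfsg.IsSteinerSystem 5 8 (B : Set (Finset α))) {Y : Finset α} (hY : Y.card = 3) :
    (B.filter fun c => (Y ∩ c).card = 3).card = 21 ∧ (B.filter fun c => (Y ∩ c).card = 2).card = 168 ∧
    (B.filter fun c => (Y ∩ c).card = 1).card = 360 ∧
    (B.filter fun c => (Y ∩ c).card = 0).card = 210 := by
  have key : ∀ j L, j ≤ 5 → L * (8 - j).choose (5 - j) = (24 - j).choose (5 - j) →
      ∑ i ∈ range 4, i.choose j * (B.filter fun c => (Y ∩ c).card = i).card =
        (3 : ℕ).choose j * L := by
    intro j L hj hL
    have h := profile B ∅ Y 3 j _ (by simp [hY])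
      (moment_const hB ∅ Y j (by simpa using hj) (by norm_num) (by simpa [hα] using hL))
    simpa [hY] using h
  have e0 := key 0 759 (by norm_num) (by decide)
  have e1 := key 1 253 (by norm_num) (by decide)
  have e2 := key 2 77 (by norm_num) (by decide)
  have e3 := key 3 21 (by norm_num) (by decide)
  simp only [sum_range_succ, sum_range_zero] at e0 e1 e2 e3
  norm_num [-Finset.card_eq_zero, Nat.choose] at e0 e1 e2 e3
  omega

omit [Fintype α] in
/-- The blocks meeting `b` exactly in `s` are the blocks through `s` missing the rest of `b`. -/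
theorem filter_inter_eq (B : Finset (Finset α)) {b s : Finset α} (hs : s ⊆ b) :
    (B.filter fun c => b ∩ c = s) =
      (B.filter fun c => s ⊆ c).filter fun c => ((b \ s) ∩ c).card = 0 := by
  ext c
  simp only [mem_filter, card_eq_zero, ← disjoint_iff_inter_eq_empty, disjoint_left, mem_sdiff]
  constructor
  · rintro ⟨hc, rfl⟩
    exact ⟨⟨hc, inter_subset_right⟩, fun x hx hxc => hx.2 (mem_inter.2 ⟨hx.1, hxc⟩)⟩
  · rintro ⟨⟨hc, hsc⟩, h⟩
    refine ⟨hc, Subset.antisymm (fun x hx => ?_) (subset_inter hs hsc)⟩
    rw [mem_inter] at hx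
    by_contra hxs
    exact h ⟨hx.1, hxs⟩ hx.2

theorem five_six_inside (hα : Fintype.card α = 12)
    (hB : Cfsg.IsSteinerSystem 5 6 (B : Set (Finset α))) {b s : Finset α} (hb : b ∈ B) (hs : s ⊆ b) :
    (s.card = 2 → (B.filter fun c => b ∩ c = s).card = 3) ∧
      (s.card = 3 → (B.filter fun c => b ∩ c = s).card = 2) ∧
      (s.card = 4 → (B.filter fun c => b ∩ c = s).card = 3) := by
  rw [filter_inter_eq B hs]
  have hcard : (b \ s).card = 6 - s.card := by rw [card_sdiff_of_subset hs, hB.1 b hb]
  have key : ∀ j L, s.card + j ≤ 5 →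
      L * (6 - (s.card + j)).choose (5 - (s.card + j)) = (12 - (s.card + j)).choose (5 - (s.card + j)) →
      ∑ i ∈ range (6 - s.card + 1), i.choose j *
        ((B.filter fun c => s ⊆ c).filter fun c => ((b \ s) ∩ c).card = i).card =
        (6 - s.card).choose j * L := by
    intro j L hj hL
    have h := profile B s b (6 - s.card) j _ hcard.le
      (moment_const hB s b j hj (by norm_num) (by rw [hα]; exact hL))
    rwa [hcard] at h
  refine ⟨fun h => ?_, fun h => ?_, fun h => ?_⟩ <;> rw [h] at key hcard
  · have e0 := key 0 30 (by norm_num) (by decide)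
    have e1 := key 1 12 (by norm_num) (by decide)
    have e2 := key 2 4 (by norm_num) (by decide)
    simp only [show (6 - 2 + 1 : ℕ) = 5 from rfl, sum_range_succ, sum_range_zero,
      big_class hB hb hs (by norm_num) 3 (by omega),
      big_class hB hb hs (by norm_num) 4 (by omega), h] at e0 e1 e2
    norm_num [-Finset.card_eq_zero, Nat.choose] at e0 e1 e2
    omega
  · have e0 := key 0 12 (by norm_num) (by decide)
    have e1 := key 1 4 (by norm_num) (by decide)
    simp only [show (6 - 3 + 1 : ℕ) = 4 from rfl, sum_range_succ, sum_range_zero,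
      big_class hB hb hs (by norm_num) 2 (by omega),
      big_class hB hb hs (by norm_num) 3 (by omega), h] at e0 e1
    norm_num [-Finset.card_eq_zero, Nat.choose] at e0 e1
    omega
  · have e0 := key 0 4 (by norm_num) (by decide)
    simp only [show (6 - 4 + 1 : ℕ) = 3 from rfl, sum_range_succ, sum_range_zero,
      big_class hB hb hs (by norm_num) 1 (by omega),
      big_class hB hb hs (by norm_num) 2 (by omega), h] at e0
    norm_num [-Finset.card_eq_zero, Nat.choose] at e0
    omega

end Cfsg.Agent.Spor.Steiner
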