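import Cfsg.Agent.Lib.Spor.SteinerCount

/-!
Derived systems, symmetric differences of octads and the graphs of S(3,6,22).
-/

set_option autoImplicit false

namespace Cfsg.Agent.Spor.Steiner

open Finset

variable {α : Type*} [Fintype α] [DecidableEq α] {B : Finset (Finset α)}

omit [Fintype α] in
theorem derived {t k : ℕ} {B : Set (Finset α)} (hB : Cfsg.IsSteinerSystem (t + 1) (k + 1) B) (p : α) :
    Cfsg.IsSteinerSystem t k {b' : Finset {a : α // a ≠ p} |
      ∃ b ∈ B, p ∈ b ∧ b' = Finset.subtype (fun a => a ≠ p) b} := by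
  refine ⟨?_, fun s hs => ?_⟩
  · rintro _ ⟨b, hb, hp, rfl⟩
    rw [Finset.card_subtype, Finset.filter_ne', card_erase_of_mem hp, hB.1 b hb]
    omega
  · have hpnot : p ∉ s.map (Function.Embedding.subtype _) := by
      simp
    obtain ⟨b, ⟨hb, hsb⟩, huniq⟩ := hB.2 (insert p (s.map (Function.Embedding.subtype _)))
      (by rw [card_insert_of_notMem hpnot, card_map, hs])
    refine ⟨Finset.subtype (fun a => a ≠ p) b, ⟨⟨b, hb, hsb (mem_insert_self _ _), rfl⟩,
      fun x hx => mem_subtype.2 (hsb (mem_insert_of_mem (mem_map_of_mem _ hx)))⟩, ?_⟩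
    rintro _ ⟨⟨c, hc, hp, rfl⟩, hsc⟩
    rw [huniq c ⟨hc, insert_subset hp fun x hx => ?_⟩]
    obtain ⟨y, hy, rfl⟩ := mem_map.1 hx
    exact mem_subtype.1 (hsc hy)

omit [Fintype α] in
theorem card_symmDiff' (u v : Finset α) : (symmDiff u v).card + 2 * (u ∩ v).card = u.card + v.card := by
  have h1 : symmDiff u v = (u \ v) ∪ (v \ u) := rfl
  have h2 : Disjoint (u \ v) (v \ u) := disjoint_left.2 fun x hx hx' => by
    rw [mem_sdiff] at hx hx'; exact hx.2 hx'.1
  rw [h1, card_union_of_disjoint h2]
  have := card_sdiff_add_card_inter u v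
  have := card_sdiff_add_card_inter v u
  rw [inter_comm v u] at this
  omega

theorem inter_sizes_five_eight (hα : Fintype.card α = 24)
    (hB : Cfsg.IsSteinerSystem 5 8 (B : Set (Finset α))) {b c : Finset α} (hb : b ∈ B) (hc : c ∈ B)
    (hbc : b ≠ c) : (b ∩ c).card = 0 ∨ (b ∩ c).card = 2 ∨ (b ∩ c).card = 4 := by
  obtain ⟨-, h1, h3⟩ := five_eight hα hB hb
  have hlt : (b ∩ c).card < 5 := Nat.lt_of_not_le fun h => hbc (block_eq hB hb hc h)
  rw [card_eq_zero, filter_eq_empty_iff] at h1 h3
  have := h1 hc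
  have := h3 hc
  omega

theorem symmDiff_mem (hα : Fintype.card α = 24)
    (hB : Cfsg.IsSteinerSystem 5 8 (B : Set (Finset α))) {b c : Finset α} (hb : b ∈ B) (hc : c ∈ B)
    (h4 : (b ∩ c).card = 4) : symmDiff b c ∈ B := by
  have even : ∀ d ∈ B, ∀ e ∈ B, Even (d ∩ e).card := by
    intro d hd e he
    by_cases hde : d = e
    · subst hde; rw [inter_self, hB.1 d hd]; decide
    · rcases inter_sizes_five_eight hα hB hd he hde with h | h | h <;> rw [h] <;> decide
  have even_sd : ∀ u v e : Finset α, Even (u ∩ e).card → Even (v ∩ e).card →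
      Even (symmDiff u v ∩ e).card := by
    intro u v e hu hv
    have h := card_symmDiff' (u ∩ e) (v ∩ e)
    have e1 : symmDiff (u ∩ e) (v ∩ e) = symmDiff u v ∩ e := (inf_symmDiff_distrib_right u v e).symm
    rw [e1] at h
    rw [Nat.even_iff] at hu hv ⊢
    omega
  set w := symmDiff b c with hw
  have hw8 : w.card = 8 := by
    have := card_symmDiff' b c
    rw [← hw, hB.1 b hb, hB.1 c hc] at this
    omega
  have hwe : ∀ e ∈ B, Even (w ∩ e).card := fun e he => even_sd b c e (even b hb e he) (even c hc e he)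
  obtain ⟨s, hs, hsc⟩ := exists_subset_card_eq (s := w) (n := 5) (by omega)
  obtain ⟨d, ⟨hd, hsd⟩, -⟩ := hB.2 s hsc
  set v := symmDiff w d with hv
  have hve : ∀ e ∈ B, Even (v ∩ e).card := fun e he => even_sd w d e (hwe e he) (even d hd e he)
  have hvc := card_symmDiff' w d
  rw [← hv, hw8, hB.1 d hd] at hvc
  have h5 : 5 ≤ (w ∩ d).card := hsc ▸ card_le_card (subset_inter hs hsd)
  have h2 := Nat.even_iff.1 (hwe d hd)
  have hle : (w ∩ d).card ≤ 8 := hw8 ▸ card_le_card inter_subset_left
  by_cases hv0 : v.card = 0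
  · rw [card_eq_zero] at hv0
    have : w = d := symmDiff_eq_bot.1 hv0
    rw [this]; exact hd
  · exfalso
    have hv4 : v.card = 4 := by omega
    obtain ⟨x, hx⟩ : v.Nonempty := card_pos.1 (by omega)
    have h21 := cov_mul hB (S := v.erase x) (by rw [card_erase_of_mem hx]; omega)
    have h54 := cov_mul hB (S := v) (by omega)
    rw [card_erase_of_mem hx, hv4, hα] at h21
    rw [hv4, hα] at h54
    have hsub : (B.filter fun e => v.erase x ⊆ e) ⊆ B.filter fun e => v ⊆ e := by
      intro e he
      rw [mem_filter] at he ⊢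
      refine ⟨he.1, ?_⟩
      by_contra hne
      have hxe : x ∉ e := fun h => hne fun y hy => by
        by_cases hyx : y = x
        · exact hyx ▸ h
        · exact he.2 (mem_erase.2 ⟨hyx, hy⟩)
      have : v ∩ e = v.erase x := by
        ext y
        rw [mem_inter, mem_erase]
        exact ⟨fun h => ⟨fun hyx => hxe (hyx ▸ h.2), h.1⟩,
          fun h => ⟨h.2, he.2 (mem_erase.2 h)⟩⟩
      have := hve e he.1
      rw [‹v ∩ e = v.erase x›, card_erase_of_mem hx, hv4] at this
      exact absurd this (by decide)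
    have := card_le_card hsub
    unfold cov at h21 h54
    norm_num [Nat.choose] at h21 h54
    omega

/-- Summed products of intersection sizes. -/
theorem sum_inter_mul (B : Finset (Finset α)) (b c : Finset α) :
    ∑ a ∈ B, (b ∩ a).card * (c ∩ a).card = ∑ p ∈ b, ∑ q ∈ c, cov B {p, q} := by
  classical
  simp only [cov, card_filter]
  rw [sum_congr rfl fun p _ => sum_comm]
  rw [sum_comm]
  refine sum_congr rfl fun a _ => ?_
  have h : ∀ s : Finset α, (s ∩ a).card = ∑ p ∈ s, if p ∈ a then 1 else 0 := fun s => by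
    rw [← card_filter, filter_mem_eq_inter]
  rw [h, h, sum_mul_sum]
  refine sum_congr rfl fun p _ => sum_congr rfl fun q _ => ?_
  by_cases hp : p ∈ a <;> by_cases hq : q ∈ a <;> simp [hp, hq, insert_subset_iff]

section threeSix

variable (hα : Fintype.card α = 22) (hB : Cfsg.IsSteinerSystem 3 6 (B : Set (Finset α)))
include hα hB

theorem inter_sizes_three_six {b c : Finset α} (hb : b ∈ B) (hc : c ∈ B) (hbc : b ≠ c) :
    (b ∩ c).card = 0 ∨ (b ∩ c).card = 2 := by
  obtain ⟨-, h1, -, -⟩ := three_six hα hB hb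
  have hlt : (b ∩ c).card < 3 := Nat.lt_of_not_le fun h => hbc (block_eq hB hb hc h)
  rw [card_eq_zero, filter_eq_empty_iff] at h1
  have := h1 hc
  omega

theorem cov_one (p : α) : cov B {p} = 21 := by
  have h := cov_mul hB (S := {p}) (by simp)
  rw [card_singleton, hα] at h
  norm_num [Nat.choose] at h
  omega

theorem cov_two {p q : α} (h : p ≠ q) : cov B {p, q} = 5 := by
  have h' := cov_mul hB (S := {p, q}) (by rw [card_pair h]; norm_num)
  rw [card_pair h, hα] at h'
  norm_num [Nat.choose] at h'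
  omega

theorem common_disjoint {b c : Finset α} (hb : b ∈ B) (hc : c ∈ B) (hbc : b ≠ c) :
    (B.filter fun a => Disjoint b a ∧ Disjoint c a).card = if Disjoint b c then 0 else 4 := by
  classical
  have hbb := hB.1 b hb
  have hcc := hB.1 c hc
  have hprod := sum_inter_mul B b c
  have hrhs : ∑ p ∈ b, ∑ q ∈ c, cov B {p, q} = 5 * 36 + 16 * (b ∩ c).card := by
    have : ∀ p ∈ b, ∑ q ∈ c, cov B {p, q} = 30 + 16 * (if p ∈ c then 1 else 0) := by
      intro p _
      by_cases hp : p ∈ c
      · rw [← add_sum_erase c _ hp, sum_congr rfl (g := fun _ => 5)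
          (fun q hq => cov_two hα hB (Ne.symm (mem_erase.1 hq).1)), sum_const, card_erase_of_mem hp,
          hcc, if_pos hp, show ({p, p} : Finset α) = {p} by simp, cov_one hα hB]
        rfl
      · rw [sum_congr rfl (g := fun _ => 5)
          (fun q hq => cov_two hα hB (show p ≠ q from fun h => hp (h ▸ hq))), sum_const, hcc,
          if_neg hp]
        rfl
    rw [sum_congr rfl this, sum_add_distrib, sum_const, hbb, ← mul_sum, ← card_filter,
      filter_mem_eq_inter, smul_eq_mul]
  -- sort the blocks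
  obtain ⟨hb0, -, hb2, htot⟩ := three_six hα hB hb
  obtain ⟨hc0, -, hc2, -⟩ := three_six hα hB hc
  set R := (B.erase b).erase c with hR
  have hR2 : ∀ a ∈ R, ((b ∩ a).card = 0 ∨ (b ∩ a).card = 2) ∧ ((c ∩ a).card = 0 ∨ (c ∩ a).card = 2) := by
    intro a ha
    simp only [hR, mem_erase] at ha
    exact ⟨inter_sizes_three_six hα hB hb ha.2.2 (Ne.symm ha.2.1),
      inter_sizes_three_six hα hB hc ha.2.2 (Ne.symm ha.1)⟩
  have split : ∀ f : Finset α → ℕ, ∑ a ∈ B, f a = f b + f c + ∑ a ∈ R, f a := by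
    intro f
    rw [← add_sum_erase B f hb, hR, ← add_sum_erase (B.erase b) f (mem_erase.2 ⟨Ne.symm hbc, hc⟩),
      add_assoc]
  have hbc2 := inter_sizes_three_six hα hB hb hc hbc
  -- first moments
  have mom : ∀ u ∈ B, ∑ a ∈ B, (u ∩ a).card = 126 := by
    intro u hu
    have h : ∀ a ∈ B, (u ∩ a).card = ∑ p ∈ u, if p ∈ a then 1 else 0 := fun a _ => by
      rw [← card_filter, filter_mem_eq_inter]
    rw [sum_congr rfl h, sum_comm]
    simp only [← card_filter]
    rw [sum_congr rfl (g := fun _ => 21) (fun p _ => by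
      rw [← cov_one hα hB p]; simp [cov]), sum_const, hB.1 u hu]
    rfl
  have hone : ∀ a ∈ R, 4 * (if Disjoint b a ∧ Disjoint c a then 1 else 0) +
      2 * (b ∩ a).card + 2 * (c ∩ a).card = 4 + (b ∩ a).card * (c ∩ a).card := by
    intro a ha
    obtain ⟨h1, h2⟩ := hR2 a ha
    simp only [disjoint_iff_inter_eq_empty, ← card_eq_zero]
    rcases h1 with h1 | h1 <;> rcases h2 with h2 | h2 <;> simp [h1, h2]
  have hsum := sum_congr rfl hone
  simp only [sum_add_distrib, ← mul_sum, sum_const, smul_eq_mul] at hsum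
  have hRcard : R.card = 75 := by
    rw [hR, card_erase_of_mem (mem_erase.2 ⟨Ne.symm hbc, hc⟩), card_erase_of_mem hb, htot]
  have hcount : ∑ a ∈ R, (if Disjoint b a ∧ Disjoint c a then 1 else 0) =
      (B.filter fun a => Disjoint b a ∧ Disjoint c a).card := by
    rw [← card_filter]
    congr 1
    ext a
    simp only [hR, mem_filter, mem_erase]
    constructor
    · rintro ⟨⟨-, -, h⟩, h'⟩; exact ⟨h, h'⟩
    · rintro ⟨h, h1, h2⟩
      refine ⟨⟨?_, ?_, h⟩, h1, h2⟩
      · rintro rfl; rw [disjoint_self_iff_empty] at h2; simp [h2] at hcc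
      · rintro rfl; rw [disjoint_self_iff_empty] at h1; simp [h1] at hbb
  have sb := split fun a => (b ∩ a).card
  have sc := split fun a => (c ∩ a).card
  have sp := split fun a => (b ∩ a).card * (c ∩ a).card
  simp only [inter_self, hbb, hcc, inter_comm c b, mom b hb, mom c hc] at sb sc sp
  rw [hprod, hrhs] at sp
  rw [hcount, hRcard] at hsum
  by_cases hd : Disjoint b c
  · rw [if_pos hd]
    have h0 : (b ∩ c).card = 0 := by rw [card_eq_zero, ← disjoint_iff_inter_eq_empty]; exact hd
    rw [h0] at sb sc sp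
    omega
  · rw [if_neg hd]
    have h0 : (b ∩ c).card = 2 := hbc2.resolve_left fun h =>
      hd (disjoint_iff_inter_eq_empty.2 (card_eq_zero.1 h))
    rw [h0] at sb sc sp
    omega

theorem through_point_disjoint {b : Finset α} (hb : b ∈ B) {p : α} (hp : p ∉ b) :
    (B.filter fun a => p ∈ a ∧ Disjoint b a).card = 6 := by
  have hsd : b \ {p} = b := sdiff_singleton_eq_erase p b ▸ erase_eq_of_notMem hp
  have h1 := moment_const hB {p} b 1 (by simp) (by norm_num) (L := 5) (by rw [hα]; simp [Nat.choose])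
  have h0 := moment_const hB {p} b 0 (by simp) (by norm_num) (L := 21) (by rw [hα]; simp [Nat.choose])
  simp only [hsd, hB.1 b hb, Nat.choose_one_right, Nat.choose_zero_right] at h1 h0
  have hkey : ∀ a ∈ B.filter (fun a => {p} ⊆ a),
      2 * (if Disjoint b a then 1 else 0) + (b ∩ a).card = 2 := by
    intro a ha
    rw [mem_filter, singleton_subset_iff] at ha
    simp only [disjoint_iff_inter_eq_empty, ← card_eq_zero]
    rcases inter_sizes_three_six hα hB hb ha.1 (fun h => hp (h ▸ ha.2)) with h | h <;> simp [h]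
  have h := sum_congr rfl hkey
  rw [sum_add_distrib, h1, ← mul_sum, sum_const, ← card_filter, filter_filter, smul_eq_mul] at h
  simp only [singleton_subset_iff] at h h0
  rw [sum_const, smul_eq_mul] at h0
  omega

end threeSix

end Cfsg.Agent.Spor.Steiner
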