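import Cfsg.Agent.Lib.Spor.RepCert

/-!
Lower bounds for the order of a subgroup generated by some generators.
-/

set_option autoImplicit false

namespace Cfsg.Agent.Spor.CC

variable {α : Type} [DecidableEq α] {Q : Pres α}

theorem Rep.sub_card_ge (R : Rep Q) [Finite Q.Grp] {L : List Orb}
    (hL : chainOK R.P.T R.P.ng R.P.n L [] = true) {ks : List ℕ}
    (hin : (L.all fun O => O.ws.all fun w => w.all fun x => ks.contains x) = true)
    (hks : ∀ x ∈ ks, x < R.P.ng) : chainSize L ≤ Nat.card (Q.sub ks) := by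
  let S := (Q.sub ks).map R.hom
  have hsurj : Function.Surjective (fun s : Q.sub ks => (⟨R.hom s, ⟨s, s.2, rfl⟩⟩ : S)) :=
    fun ⟨p, q, hq, e⟩ => ⟨⟨q, hq⟩, Subtype.ext e⟩
  haveI : Finite S := Finite.of_surjective _ hsurj
  refine le_trans ?_ (Nat.card_le_card_of_surjective _ hsurj)
  refine chain_le R.valid (R.P.perm R.valid) (MonoidHom.id _) (fun x _ => rfl) L [] hL S ?_
  rintro s - ⟨O, hO, w, hw, rfl⟩
  have hw' : ∀ x ∈ w, x ∈ ks := fun x hx =>
    List.contains_iff_mem.mp
      (List.all_eq_true.mp (List.all_eq_true.mp (List.all_eq_true.mp hin O hO) w hw) x hx)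
  refine ⟨(w.map Q.gen).prod, list_prod_mem fun y hy => ?_, ?_⟩
  · obtain ⟨x, hx, rfl⟩ := List.mem_map.mp hy
    exact Subgroup.subset_closure ⟨x, hw' x hx, rfl⟩
  · rw [map_list_prod, List.map_map]
    exact congrArg List.prod (List.map_congr_left fun x hx => R.hom_gen x (hks x (hw' x hx)))

end Cfsg.Agent.Spor.CC
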