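import Cfsg.Agent.Lib.Spor.SuzDihCDData

/-!
Coset certificate `DihCD` of Suz: checks.
-/

set_option autoImplicit false
set_option maxRecDepth 100000

namespace Cfsg.Agent.Spor.SuzCert.DihCD

open Cfsg.Agent.Spor.CC

/-- checked entries -/
def stL0 : List ℕ := [
0x680002c00012000070000280000c0000200000800014000120000d00008800054000320001d0000f0000000f]

theorem stOK0 : stepsOK dat stL0 15 = true := by decide +kernel

end Cfsg.Agent.Spor.SuzCert.DihCD
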