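import Cfsg.Agent.Lib.Spor.SuzEOneSteps0
import Cfsg.Agent.Lib.Spor.SuzEOneSteps1
import Cfsg.Agent.Lib.Spor.SuzEOneEdges0

/-!
Coset certificate `One` of SuzE: assembled.
-/

set_option autoImplicit false
set_option maxRecDepth 100000

namespace Cfsg.Agent.Spor.SuzECert.One

open Cfsg.Agent.Spor.CC

theorem steps_all : ∀ k, 8404 ≤ k → k < 18823 → ∃ s, stepOK dat k s = true := by
  intro k hk0 hk
  by_cases h0 : k < 10904
  · exact stepsOK_spec _ _ stOK0 k (by omega) (lt_of_lt_of_eq h0 (by decide +kernel))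
  by_cases h1 : k < 13404
  · exact stepsOK_spec _ _ stOK1 k (by omega) (lt_of_lt_of_eq h1 (by decide +kernel))
  by_cases h2 : k < 15904
  · exact stepsOK_spec _ _ stOK2 k (by omega) (lt_of_lt_of_eq h2 (by decide +kernel))
  by_cases h3 : k < 18404
  · exact stepsOK_spec _ _ stOK3 k (by omega) (lt_of_lt_of_eq h3 (by decide +kernel))
  exact stepsOK_spec _ _ stOK4 k (by omega) (lt_of_lt_of_eq hk (by decide +kernel))

theorem edges_all : ∀ k, k < 8640 → ∃ s, edgeOK dat 18823 k s = true := by
  intro k hk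
  by_cases h0 : k < 2500
  · exact edgesOK_spec _ _ edOK0 k (by omega) (lt_of_lt_of_eq h0 (by decide +kernel))
  by_cases h1 : k < 5000
  · exact edgesOK_spec _ _ edOK1 k (by omega) (lt_of_lt_of_eq h1 (by decide +kernel))
  by_cases h2 : k < 7500
  · exact edgesOK_spec _ _ edOK2 k (by omega) (lt_of_lt_of_eq h2 (by decide +kernel))
  exact edgesOK_spec _ _ edOK3 k (by omega) (lt_of_lt_of_eq hk (by decide +kernel))

theorem checked : Checked dat 18823 where
  defs := defs_ok
  steps := steps_all
  edges := fun k hk => edges_all k hk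
  pos := by decide
  ng_le := by decide

theorem words_ok : wordsOK dat letters 4 Cfsg.Agent.Spor.SuzECert.relW wit subW = true := by decide +kernel

end Cfsg.Agent.Spor.SuzECert.One
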