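import Cfsg.Agent.Lib.Spor.PresCert

/-!
Relators of the group on the first four generators of Suz.
-/

set_option autoImplicit false

namespace Cfsg.Agent.Spor.SuzECert

/-- the relators -/
def relW : List (List ℕ) :=
  [[0, 0], [1, 1], [2, 2], [3, 3], [0, 1, 0, 1, 0, 1, 0, 1, 0, 1], [0, 2, 0, 2], [1, 2, 1, 2, 1, 2],
   [0, 3, 0, 3], [1, 3, 1, 3], [2, 3, 2, 3, 2, 3, 2, 3, 2, 3, 2, 3, 2, 3, 2, 3], [0, 3, 2, 3, 2, 3, 2, 3, 2]]

end Cfsg.Agent.Spor.SuzECert
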