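import Cfsg.Agent.Lib.Spor.SuzG24Data
import Cfsg.Agent.Lib.Spor.SuzMain
import Cfsg.Agent.Lib.Spor.SpFourPoints
import Cfsg.Prelude.Def_ChevG2

/-!
Matrices of the adjoint group of type G2 over the field with four elements permuting the long root
lines like the point stabiliser of Suz permutes one of its suborbits.
-/

set_option autoImplicit false
set_option maxRecDepth 100000

namespace Cfsg.Agent.Spor.SuzCert.G24Act

open Cfsg.Agent.Spor.CC Cfsg.Agent.Spor.SpFour Matrix

/-- coordinates -/
abbrev I14 : Type := Cfsg.Lie.chevG2.Idx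

/-- column vectors -/
abbrev V14 : Type := I14 → F4

/-- matrices -/
abbrev M14 : Type := Matrix I14 I14 F4

/-- number of a coordinate -/
def cidx : I14 → ℕ
  | Sum.inl i => i.val
  | Sum.inr s => 2 + s.val

theorem cidx_lt : ∀ k : I14, cidx k < 14 := by decide +kernel

/-- a coordinate with a number -/
def cinv (i : ℕ) : I14 :=
  if h : i < Cfsg.Lie.chevG2.rank then Sum.inl ⟨i, h⟩
  else Sum.inr ⟨(i - 2) % 12, Nat.mod_lt _ (by decide)⟩

/-- vector with a number -/
def vecN (N : ℕ) : V14 := fun k => F4.ofN ((N >>> (2 * cidx k)) % 4)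

/-- number of a vector -/
def encN (f : V14) : ℕ := ((List.range 14).map fun i => F4.toN (f (cinv i)) * 4 ^ i).sum

theorem ofN_xor : ∀ x < 4, ∀ y < 4, F4.ofN (x ^^^ y) = F4.ofN x + F4.ofN y := by decide +kernel

theorem vecN_xor (a b : ℕ) : vecN (a ^^^ b) = vecN a + vecN b := by
  funext k
  show F4.ofN _ = F4.ofN _ + F4.ofN _
  rw [Nat.shiftRight_xor_distrib, show (4 : ℕ) = 2 ^ 2 from rfl, Nat.xor_mod_two_pow]
  exact ofN_xor _ (Nat.mod_lt _ (by norm_num)) _ (Nat.mod_lt _ (by norm_num))

theorem vecN_zero : vecN 0 = 0 := by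
  funext k
  show F4.ofN _ = 0
  rw [Nat.zero_shiftRight, Nat.zero_mod]
  rfl

theorem vecN_mod (N : ℕ) : vecN (N % 2 ^ 28) = vecN N := by
  funext k
  show F4.ofN _ = F4.ofN _
  congr 1
  have h := cidx_lt k
  rw [Nat.shiftRight_eq_div_pow, Nat.shiftRight_eq_div_pow]
  generalize cidx k = i at h ⊢
  interval_cases i <;> omega

/-- sum of the chosen columns -/
noncomputable def applyTo (cols N : ℕ) (k : ℕ) : ℕ :=
  Nat.rec 0 (fun b r => r ^^^ (bif N.testBit b then fld cols 32 b else 0)) k

/-- image of a numbered vector under packed columns -/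
noncomputable def applyN (cols N : ℕ) : ℕ := applyTo cols N 28

theorem apply_spec (M : M14) (cols : ℕ)
    (h : ∀ b < 28, M *ᵥ vecN (2 ^ b) = vecN (fld cols 32 b)) (N : ℕ) :
    M *ᵥ vecN N = vecN (applyN cols N) := by
  have key : ∀ k ≤ 28, M *ᵥ vecN (N % 2 ^ k) = vecN (applyTo cols N k) := by
    intro k
    induction k with
    | zero =>
      intro _
      rw [pow_zero, Nat.mod_one, vecN_zero, Matrix.mulVec_zero]
      exact vecN_zero.symm
    | succ k ih =>
      intro hk
      show _ = vecN (applyTo cols N k ^^^ (bif N.testBit k then fld cols 32 k else 0))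
      have e : N % 2 ^ (k + 1) = (N % 2 ^ k) ^^^ (bif N.testBit k then 2 ^ k else 0) := by
        apply Nat.eq_of_testBit_eq
        intro i
        rw [Nat.testBit_xor, Nat.testBit_mod_two_pow, Nat.testBit_mod_two_pow]
        cases hb : N.testBit k
        · rcases lt_trichotomy i k with hi | hi | hi
          · simp [hi, show i < k + 1 by omega]
          · subst hi; simp [hb]
          · simp [show ¬ i < k by omega, show ¬ i < k + 1 by omega]
        · rcases lt_trichotomy i k with hi | hi | hi
          · simp [hi, show i < k + 1 by omega, Nat.testBit_two_pow, show ¬ k = i by omega]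
          · subst hi; simp [hb]
          · simp [show ¬ i < k by omega, show ¬ i < k + 1 by omega, Nat.testBit_two_pow,
              show ¬ k = i by omega]
      rw [e, vecN_xor, Matrix.mulVec_add, ih (by omega), vecN_xor]
      congr 1
      cases N.testBit k
      · simp only [cond_false, vecN_zero, Matrix.mulVec_zero]
      · simp only [cond_true]
        exact h k (by omega)
  rw [← vecN_mod N, key 28 le_rfl]
  rfl

/-- the root element matrices -/
def rootMat (y : ℕ) : M14 :=
  Cfsg.Lie.chevG2.xMat F4 ⟨(rootPar.getD y (0, 0)).1 % 12, Nat.mod_lt _ (by decide)⟩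
    (F4.ofN (rootPar.getD y (0, 0)).2)

theorem rootMat_cols : ∀ y < 12, ∀ b < 28,
    rootMat y *ᵥ vecN (2 ^ b) = vecN (fld (rootCols.getD y 0) 32 b) := by decide +kernel

theorem rootCols_invol : ∀ y < 12, ∀ b < 28,
    applyN (rootCols.getD y 0) (fld (rootCols.getD y 0) 32 b) = 2 ^ b := by decide +kernel

theorem ext_basis : ∀ k : I14, vecN (2 ^ (2 * cidx k)) = Pi.single k 1 := by decide +kernel

theorem rootMat_sq (y : ℕ) (hy : y < 12) : rootMat y * rootMat y = 1 := by
  ext i k
  have hb : 2 * cidx k < 28 := by have := cidx_lt k; omega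
  have h : (rootMat y * rootMat y) *ᵥ vecN (2 ^ (2 * cidx k)) = vecN (2 ^ (2 * cidx k)) := by
    rw [← Matrix.mulVec_mulVec, rootMat_cols y hy _ hb,
      apply_spec _ _ (rootMat_cols y hy), rootCols_invol y hy _ hb]
  rw [ext_basis, Matrix.mulVec_single_one] at h
  have h' := congrFun h i
  rw [Matrix.col_apply, Pi.single_apply] at h'
  rw [h', Matrix.one_apply]

/-- the root elements -/
noncomputable def rootEl (y : ℕ) : GL I14 F4 :=
  if hy : y < 12 then ⟨rootMat y, rootMat y, rootMat_sq y hy, rootMat_sq y hy⟩ else 1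

theorem rootEl_mem (y : ℕ) : rootEl y ∈ Cfsg.Lie.chevG2.group F4 := by
  unfold rootEl
  split
  · exact Subgroup.subset_closure ⟨_, _, rfl⟩
  · exact one_mem _

/-- image of a numbered vector under a word -/
noncomputable def wordN (w : List ℕ) (N : ℕ) : ℕ :=
  w.foldr (fun y n => applyN (rootCols.getD y 0) n) N

theorem word_spec (w : List ℕ) (hw : ∀ y ∈ w, y < 12) (N : ℕ) :
    ((w.map rootEl).prod : GL I14 F4).1 *ᵥ vecN N = vecN (wordN w N) := by
  induction w with
  | nil => simp [wordN]
  | cons a l ih =>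
    have ha := hw a (List.mem_cons_self ..)
    rw [List.map_cons, List.prod_cons, Units.val_mul, ← Matrix.mulVec_mulVec,
      ih fun y hy => hw y (List.mem_cons_of_mem _ hy), rootEl, dif_pos ha]
    exact apply_spec _ _ (rootMat_cols a ha) _

/-- the images of the six generators -/
noncomputable def imgEl (x : ℕ) : GL I14 F4 := ((genWords.getD x []).map rootEl).prod

theorem imgEl_mem (x : ℕ) : imgEl x ∈ Cfsg.Lie.chevG2.group F4 :=
  list_prod_mem fun g hg => by
    obtain ⟨y, -, rfl⟩ := List.mem_map.mp hg
    exact rootEl_mem y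

theorem genWords_lt : ∀ x < 6, ∀ y ∈ genWords.getD x [], y < 12 := by decide +kernel

theorem imgCols_ok : ∀ x < 6, ∀ b < 28,
    wordN (genWords.getD x []) (2 ^ b) = fld (imgCols.getD x 0) 32 b := by decide +kernel

theorem imgEl_spec (x : ℕ) (hx : x < 6) (N : ℕ) :
    (imgEl x).1 *ᵥ vecN N = vecN (applyN (imgCols.getD x 0) N) :=
  apply_spec _ _ (fun b hb => by
    rw [imgEl, word_spec _ (genWords_lt x hx), imgCols_ok x hx b hb]) N

/-- code of a multiple of the chosen vector of a point -/
def mcode (j c : ℕ) : ℕ := fld multTab 32 (3 * j + c)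

/-- the chosen vector of a point -/
def ptV (j : ℕ) : V14 := vecN (mcode j 0)

/-- one point of the scalar check -/
def multOK (j : ℕ) : Bool :=
  Nat.beq (encN (F4.i • ptV j)) (mcode j 0) && Nat.beq (encN (F4.w • ptV j)) (mcode j 1) &&
    Nat.beq (encN (F4.v • ptV j)) (mcode j 2) &&
    decide (F4.w • ptV j = vecN (mcode j 1)) && decide (F4.v • ptV j = vecN (mcode j 2))

theorem mult0 : rangeOK multOK 0 700 = true := by decide +kernel
theorem mult1 : rangeOK multOK 700 665 = true := by decide +kernel

theorem mult_spec {j : ℕ} (hj : j < 1365) : multOK j = true := by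
  by_cases h : j < 700
  · exact all_range (p := multOK) mult0 (Nat.zero_le _) (by omega)
  · exact all_range (p := multOK) mult1 (by omega) (by omega)

/-- one place of the order check -/
def srtOK (i : ℕ) : Bool :=
  Nat.blt (fld srtTab 16 i) 4095 && Nat.beq (fld rankTab 16 (fld srtTab 16 i)) i &&
    (Nat.beq i 4094 || Nat.blt (fld multTab 32 (fld srtTab 16 i))
      (fld multTab 32 (fld srtTab 16 (i + 1))))

theorem srt_all : rangeOK srtOK 0 4095 = true := by decide +kernel

/-- one place of the rank check -/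
def rankOK (k : ℕ) : Bool :=
  Nat.blt (fld rankTab 16 k) 4095 && Nat.beq (fld srtTab 16 (fld rankTab 16 k)) k

theorem rank_all : rangeOK rankOK 0 4095 = true := by decide +kernel

/-- one point of the action check -/
noncomputable def actOK (j : ℕ) : Bool := (List.range 6).all fun x =>
  Nat.blt (hrows x j) 1365 &&
  Nat.beq (RepG24.rows x (fld RepG24.sub1.pts 16 j)) (fld RepG24.sub1.pts 16 (hrows x j)) &&
  (List.range 3).any fun c =>
    Nat.beq (applyN (imgCols.getD x 0) (mcode j 0)) (mcode (hrows x j) c)

theorem act0 : rangeOK actOK 0 700 = true := by decide +kernel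
theorem act1 : rangeOK actOK 700 665 = true := by decide +kernel

theorem act_spec {j : ℕ} (hj : j < 1365) : actOK j = true := by
  by_cases h : j < 700
  · exact all_range (p := actOK) act0 (Nat.zero_le _) (by omega)
  · exact all_range (p := actOK) act1 (by omega) (by omega)

/-- one point of the embedding check -/
noncomputable def embOK (j : ℕ) : Bool :=
  Nat.blt (fld RepG24.sub1.pts 16 j) 1782 &&
    Nat.beq (fld RepG24.sub1.posn 16 (fld RepG24.sub1.pts 16 j)) j

theorem emb_all : rangeOK embOK 0 1365 = true := by decide +kernel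

theorem bases_ok : ((RepG24.levels.map Orb.b).all fun b => Nat.beq b 0 ||
    (Nat.blt (fld RepG24.sub1.posn 16 b) 1365 &&
      Nat.beq (fld RepG24.sub1.pts 16 (fld RepG24.sub1.posn 16 b)) b)) = true := by decide +kernel

end Cfsg.Agent.Spor.SuzCert.G24Act
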