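import Cfsg.Agent.Lib.Spor.SuzMain
import Cfsg.Agent.Lib.Spor.SubChain
import Cfsg.Agent.Lib.Spor.SuzKChain
import Cfsg.Agent.Lib.Spor.SuzIdxKCert

/-!
The index of the subgroup on a, b, c, d, f, g in Suz.
-/

set_option autoImplicit false
set_option maxRecDepth 100000

namespace Cfsg.Agent.Spor.SuzCert

open Cfsg.Agent.Spor.CC

theorem index_k : (pres.sub IdxK.letters).index = 22880 := by
  haveI := order.1
  have h1 := Pres.sub_card_le pres_ok DihCD.checked (ks := DihCD.letters) rfl no_more DihCD.words_ok
    (b := 1) (by rw [show DihCD.subW = [] from rfl, Pres.wsub_nil]; exact bot_card)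
  have e2 : pres.wsub LocABCD.subW = pres.sub DihCD.letters := Pres.wsub_singles [2, 3]
  have h2 := Pres.sub_card_le pres_ok LocABCD.checked (ks := LocABCD.letters) rfl no_more
    LocABCD.words_ok (e2 ▸ h1)
  have e3 : pres.wsub IdxK.subW = pres.sub LocABCD.letters := Pres.wsub_singles [0, 1, 2, 3]
  have h3 := Pres.sub_card_le pres_ok IdxK.checked (ks := IdxK.letters) rfl no_more IdxK.words_ok (e3 ▸ h2)
  have hup : Nat.card (pres.sub IdxK.letters) ≤ 19595520 := h3.2.trans (le_of_eq rfl)
  have hlow : 19595520 ≤ Nat.card (pres.sub IdxK.letters) :=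
    le_of_eq_of_le KChain.size.symm
      (rep.sub_card_ge KChain.ok (ks := IdxK.letters) KChain.inside (by decide))
  have hmul := Subgroup.card_mul_index (pres.sub IdxK.letters)
  rw [order.2.1, le_antisymm hup hlow] at hmul
  omega

end Cfsg.Agent.Spor.SuzCert
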