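import Cfsg.Agent.Lib.Spor.SuzJOneData

/-!
Coset certificate `One` of SuzJ: checks.
-/

set_option autoImplicit false
set_option maxRecDepth 100000

namespace Cfsg.Agent.Spor.SuzJCert.One

open Cfsg.Agent.Spor.CC

/-- checked entries -/
def edL0 : List ℕ := [
0x29fb01246c0a768053f102a1b80002806,
0xa7180506602a0680005804,
0x537c02a1080008803,
0x1,
0x801,
0x53fc029df014d940a7a604ad8026028133bc0a71c04e86024c8013dcc0a81e05356029f2014ea00a68a053850295980906013,
0xa7f805326029ee014cfc0a8200533d029558150900a5a40533302a0a014edc0a780053e302973014ebc0a02c04f35029e580909014,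
0xa7f805326029ee014cfc0a8200533d029558000a808,
0x401,
0x1001,
0xa7b005445029ea80003004,
0x2a2300006002,
0x2a2500009802,
0x1801,
0xc01,
0xa7900540a02a0280906804,
0x29e4014eb00a826053de0293101467c0a50e0529e029b3814de80a52205398029fd814fa00a7400536102975814e480a6700536d02a1380909816,
0x29e4014eb00a826053de0293101467c0a50e0529e029b3814de80a522053c702a0d8090e00e,
0x2001,
0x1401,
0x150d00a8100540702a1880907005,
0x543402a0401501c0a8620545402a28014ff80a8840538802a0c8151000a8760511202a298090a00f,
0xa8680540802a038150c40a8a805450029ff0151080a7100541902a278000c80c,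
0x1c01,
0x905001,
0x2a140150780a73a05350028cc0135040a4de0530702a11814f6c0a878053ba029d9014e6c0a4aa05265029b4014be80a7c2052f4029f58143a80a7dc04936029018150740a87e05400029e88090781e,
0x2a260090a802,
0x544802a1600910003,
0x2401,
0x905401]

theorem edOK0 : edgesOK dat 10795 edL0 0 = true := by decide +kernel

end Cfsg.Agent.Spor.SuzJCert.One
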