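import Cfsg.Agent.Lib.Spor.OrbitCert
import Cfsg.Prelude.Def_Spor_Suz

/-!
The presentation of Suz in numbered form.
-/

set_option autoImplicit false

namespace Cfsg.Agent.Spor.SuzCert

open Cfsg.Agent.Spor.CC

/-- numbering of the generators -/
def ixGen : Cfsg.Spor.Suz.Gen → ℕ
  | .a => 0
  | .b => 1
  | .c => 2
  | .d => 3
  | .e => 4
  | .f => 5
  | .g => 6

/-- names of the generators -/
def nmGen (x : ℕ) : Cfsg.Spor.Suz.Gen := [.a, .b, .c, .d, .e, .f, .g].getD x .a

/-- the numbered presentation -/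
def pres : Pres Cfsg.Spor.Suz.Gen where
  edges := Cfsg.Spor.Suz.edges
  extra := Cfsg.Spor.Suz.extra
  ng := 7
  ix := ixGen
  nm := nmGen
  extraW := [[0,3,2,3,2,3,2,3,2], [0,6,5,6,5], powW 5 [0,1,2,5], powW 5 [1,5,6], powW 3 (powW 5 [1,2,3,2,3] ++ [4])]

theorem pres_ok : pres.OK where
  ix_lt := fun a => by cases a <;> decide
  nm_ix := fun a => by cases a <;> rfl
  ix_nm := by decide +kernel
  node := by decide +kernel
  symm := by decide +kernel
  ng_le := by decide
  extra_eq := by
    intro M _ f hf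
    have hi : ∀ x, (f x)⁻¹ = f x := fun x => inv_eq_of_mul_eq_one_left (hf x)
    simp [pres, Cfsg.Spor.Suz.extra, powW, List.replicate, pow_succ, mul_inv_rev, hi, mul_assoc, ixGen]

theorem relW_letters : lettersOK 7 pres.relW = true := by decide +kernel

end Cfsg.Agent.Spor.SuzCert
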