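import Cfsg.Agent.Lib.Spor.SuzRepG24Data

/-!
Checks for table `RepG24` of Suz.
-/

set_option autoImplicit false
set_option maxRecDepth 100000

namespace Cfsg.Agent.Spor.SuzCert.RepG24

open Cfsg.Agent.Spor.CC

theorem inv0 : invOK rows 7 1782 0 470 = true := by decide +kernel

theorem loop0 : loopOK rows 7 Cfsg.Agent.Spor.SuzCert.pres.relW 0 470 = true :=
  relW_eq ▸ loop_of (fun u => rel_eq u) (by decide +kernel : rangeOK relAll 0 470 = true)

theorem loopMore0 : loopOK rows 7 more 0 470 = true :=
  extraRelW_eq ▸ loop_of (fun u => extraRel_eq u) (by decide +kernel : rangeOK extraRelAll 0 470 = true)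

theorem inv1 : invOK rows 7 1782 470 470 = true := by decide +kernel

theorem loop1 : loopOK rows 7 Cfsg.Agent.Spor.SuzCert.pres.relW 470 470 = true :=
  relW_eq ▸ loop_of (fun u => rel_eq u) (by decide +kernel : rangeOK relAll 470 470 = true)

theorem loopMore1 : loopOK rows 7 more 470 470 = true :=
  extraRelW_eq ▸ loop_of (fun u => extraRel_eq u) (by decide +kernel : rangeOK extraRelAll 470 470 = true)

theorem inv2 : invOK rows 7 1782 940 470 = true := by decide +kernel

theorem loop2 : loopOK rows 7 Cfsg.Agent.Spor.SuzCert.pres.relW 940 470 = true :=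
  relW_eq ▸ loop_of (fun u => rel_eq u) (by decide +kernel : rangeOK relAll 940 470 = true)

theorem loopMore2 : loopOK rows 7 more 940 470 = true :=
  extraRelW_eq ▸ loop_of (fun u => extraRel_eq u) (by decide +kernel : rangeOK extraRelAll 940 470 = true)

theorem inv3 : invOK rows 7 1782 1410 372 = true := by decide +kernel

theorem loop3 : loopOK rows 7 Cfsg.Agent.Spor.SuzCert.pres.relW 1410 372 = true :=
  relW_eq ▸ loop_of (fun u => rel_eq u) (by decide +kernel : rangeOK relAll 1410 372 = true)

theorem loopMore3 : loopOK rows 7 more 1410 372 = true :=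
  extraRelW_eq ▸ loop_of (fun u => extraRel_eq u) (by decide +kernel : rangeOK extraRelAll 1410 372 = true)

end Cfsg.Agent.Spor.SuzCert.RepG24
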