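import Cfsg.Agent.Lib.Spor.U43Ref
import Cfsg.Agent.Lib.Spor.U43Sylow

/-!
A subgroup of type 3.U4(3) of SU(6,2) containing the Sylow 3-subgroup contains the even monomial
elements, and an element normalising the centre of the Sylow subgroup which is not monomial.
-/

set_option autoImplicit false
set_option maxRecDepth 100000

namespace Cfsg.Agent.Spor.U43

open Matrix
open Cfsg.Agent.Spor.SpFour (F4)
open Cfsg.Agent.Spor.SUSix (G6 uperm scal)

theorem card_G6 : Nat.card G6 = 27590492160 := by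
  rw [Subgroup.card_eq_card_quotient_mul_card_subgroup uperm.ker,
    Nat.card_congr (QuotientGroup.quotientKerEquivRange uperm).toEquiv, SUSix.card_range, SUSix.ker_eq,
    SUSix.card_center]

theorem card_map_u {X : Subgroup G6} (hZ : Subgroup.center G6 ≤ X) : Nat.card X = 3 * Nat.card (X.map uperm) := by
  have hker : (uperm.comp X.subtype).ker = (Subgroup.center G6).subgroupOf X := by
    ext x
    rw [MonoidHom.mem_ker, Subgroup.mem_subgroupOf, ← SUSix.ker_eq]
    rfl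
  rw [Subgroup.card_eq_card_quotient_mul_card_subgroup (uperm.comp X.subtype).ker,
    Nat.card_congr (QuotientGroup.quotientKerEquivRange (uperm.comp X.subtype)).toEquiv, hker,
    Nat.card_congr (Subgroup.subgroupOfEquivOfLe hZ).toEquiv, SUSix.card_center, MonoidHom.range_comp,
    Subgroup.range_subtype, mul_comm]

theorem center_le_P6 : Subgroup.center G6 ≤ P6 := center_le_DD.trans DD_le_P6

theorem card_PP : Nat.card (P6.map uperm) = 729 := by
  have := card_map_u center_le_P6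
  rw [card_P6] at this
  omega

theorem u_mem {X : Subgroup G6} (hZ : Subgroup.center G6 ≤ X) {x : G6} (h : uperm x ∈ X.map uperm) : x ∈ X := by
  obtain ⟨y, hy, e⟩ := h
  have : y⁻¹ * x ∈ uperm.ker := by rw [MonoidHom.mem_ker, map_mul, map_inv, e, inv_mul_cancel]
  rw [SUSix.ker_eq] at this
  simpa using mul_mem hy (hZ this)

/-- subgroups of the type in question -/
def IsT (K : Subgroup G6) : Prop :=
  Subgroup.center G6 ≤ K ∧ Nat.card K = 9797760 ∧ Nonempty (K.map uperm ≃* K1.map uperm)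

theorem comm1_of_center {x y : G6} (h : (y * x)⁻¹ * (x * y) ∈ Subgroup.center G6) : Comm1 x y := by
  obtain ⟨c, hc, he⟩ := center_scal h
  refine ⟨c, hc, ?_⟩
  rw [show mat x * mat y = mat ((y * x) * ((y * x)⁻¹ * (x * y))) by rw [mul_inv_cancel_left, mat_mul],
    mat_mul (y * x), he, mat_mul, SUSix.scal]
  ext i j
  rw [Matrix.mul_diagonal, Matrix.smul_apply, smul_eq_mul, mul_comm]

theorem comm1_of_commute {x y : G6} (h : x * y = y * x) : Comm1 x y :=
  comm1_of_center (by rw [h, inv_mul_cancel]; exact one_mem _)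

theorem c1_comm : ∀ e, BV e = true →
    caseM 11 * Matrix.diagonal (fv e) = Matrix.diagonal (fv e) * caseM 11 := by decide +kernel

theorem c1_notM : ¬ IsM (caseM 11) := by decide +kernel

theorem mat_c1 : mat (gk 5) = caseM 11 := rfl

theorem card_MM : Nat.card MM = 360 * 243 := by
  rw [MM, card_lift6, nat_card_alternatingGroup, Nat.card_fin]
  rfl

set_option maxHeartbeats 1000000 in
/-- The monomial part and an exceptional normalising element. -/
theorem struct_of {K : Subgroup G6} (hT : IsT K) (hP : P6 ≤ K) :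
    MM ≤ K ∧ ∃ g ∈ K, (∀ b ∈ BB, g * b * g⁻¹ ∈ BB) ∧ g ∉ NN := by
  obtain ⟨hZ, hK, ⟨ψ0⟩⟩ := hT
  have hK1 := center_le_K1
  have hP1 : P6 ≤ K1 := P6_le_MM.trans MM_le_K1
  -- move the image of the Sylow subgroup to itself
  have hcR1 : Nat.card (K1.map uperm) = 3265920 := by
    have := card_map_u hK1; rw [card_K1] at this; omega
  let Q : Subgroup (Equiv.Perm (Fin 693)) :=
    (((P6.map uperm).subgroupOf (K.map uperm)).map ψ0.toMonoidHom).map (K1.map uperm).subtype
  have hQ : Q ≤ K1.map uperm := Subgroup.map_subtype_le _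
  have hQc : Nat.card Q = 3 ^ 6 := by
    rw [Subgroup.card_map_of_injective (K1.map uperm).subtype_injective,
      Subgroup.card_map_of_injective (show Function.Injective ψ0.toMonoidHom from ψ0.injective),
      Nat.card_congr (Subgroup.subgroupOfEquivOfLe (Subgroup.map_mono hP)).toEquiv, card_PP]
    norm_num
  haveI : Fact (Nat.Prime 3) := ⟨by norm_num⟩
  obtain ⟨k, hk, hkQ⟩ := exists_conj_of_card (p := 3) (n := 6) (K := K1.map uperm) (P := Q) (Q := P6.map uperm)
    (by rw [hcR1]; exact fact27) hQ (Subgroup.map_mono hP1) hQc (by rw [card_PP]; norm_num)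
  let ψ : K.map uperm ≃* K1.map uperm := ψ0.trans (MulAut.conj (⟨k, hk⟩ : K1.map uperm))
  let C : G6 → G6 → Prop := fun x y =>
    ∃ z : K.map uperm, (z : Equiv.Perm (Fin 693)) = uperm x ∧ (ψ z : Equiv.Perm (Fin 693)) = uperm y
  have tot : ∀ x ∈ K, ∃ y ∈ K1, C x y := fun x hx => by
    obtain ⟨y, hy, e⟩ := (ψ ⟨uperm x, ⟨x, hx, rfl⟩⟩).2
    exact ⟨y, hy, ⟨_, ⟨x, hx, rfl⟩⟩, rfl, e.symm⟩
  have tot' : ∀ y ∈ K1, ∃ x ∈ K, C x y := fun y hy => by
    obtain ⟨⟨z, hz⟩, he⟩ := ψ.surjective ⟨uperm y, ⟨y, hy, rfl⟩⟩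
    obtain ⟨x, hx, e⟩ := hz
    exact ⟨x, hx, ⟨z, ⟨x, hx, e⟩⟩, e.symm, congrArg Subtype.val he⟩
  have Cmul : ∀ {a b c d : G6}, C a b → C c d → C (a * c) (b * d) := by
    rintro a b c d ⟨z, hz, hz'⟩ ⟨w, hw, hw'⟩
    exact ⟨z * w, by rw [Subgroup.coe_mul, hz, hw, map_mul], by rw [map_mul, Subgroup.coe_mul, hz', hw', map_mul]⟩
  have Cinv : ∀ {a b : G6}, C a b → C a⁻¹ b⁻¹ := by
    rintro a b ⟨z, hz, hz'⟩
    exact ⟨z⁻¹, by rw [Subgroup.coe_inv, hz, map_inv], by rw [map_inv, Subgroup.coe_inv, hz', map_inv]⟩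
  have kl : ∀ {x y : G6}, C x y → (x ∈ Subgroup.center G6 ↔ y ∈ Subgroup.center G6) := by
    rintro x y ⟨z, hz, hz'⟩
    rw [← SUSix.ker_eq, MonoidHom.mem_ker, MonoidHom.mem_ker, ← hz, ← hz', OneMemClass.coe_eq_one,
      OneMemClass.coe_eq_one, map_eq_one_iff ψ ψ.injective]
  have hmem : ∀ z : K.map uperm, ((ψ z : Equiv.Perm (Fin 693)) ∈ P6.map uperm) ↔ z.1 ∈ P6.map uperm := by
    intro z
    have e : (ψ z : Equiv.Perm (Fin 693)) = k * (ψ0 z).1 * k⁻¹ := rfl
    rw [e, ← hkQ, Subgroup.mem_map]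
    constructor
    · rintro ⟨q, ⟨w, ⟨v, hv, rfl⟩, hq⟩, he⟩
      simp only [MulEquiv.coe_toMonoidHom, MulAut.conj_apply] at he
      have hqe : q = (ψ0 z).1 := mul_left_cancel (mul_right_cancel he)
      rw [← hq] at hqe
      have hvz : v = z := ψ0.injective (Subtype.ext hqe)
      have hv' : v.1 ∈ P6.map uperm := Subgroup.mem_subgroupOf.mp hv
      rw [hkQ]
      exact hvz ▸ hv'
    · intro hz
      exact ⟨(ψ0 z).1, ⟨ψ0 z, ⟨z, hkQ ▸ hz, rfl⟩, rfl⟩, rfl⟩
  have hP6 : ∀ {x y : G6}, C x y → (x ∈ P6 ↔ y ∈ P6) := by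
    rintro x y ⟨z, hz, hz'⟩
    exact ⟨fun h => u_mem center_le_P6 (hz' ▸ (hmem z).mpr (hz.symm ▸ ⟨x, h, rfl⟩)),
      fun h => u_mem center_le_P6 (hz ▸ (hmem z).mp (hz'.symm ▸ ⟨y, h, rfl⟩))⟩
  let img : Subgroup G6 → Subgroup G6 := fun A =>
    ((((A.map uperm).subgroupOf (K.map uperm)).map ψ.toMonoidHom).map (K1.map uperm).subtype).comap uperm
  have mem_img : ∀ {A : Subgroup G6} {y : G6}, Subgroup.center G6 ≤ A → A ≤ K →
      (y ∈ img A ↔ ∃ x ∈ A, C x y) := by
    intro A y hA hAK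
    constructor
    · intro h
      obtain ⟨w, ⟨v, hv, rfl⟩, e⟩ := h
      obtain ⟨x, hx, e'⟩ := Subgroup.mem_subgroupOf.mp hv
      exact ⟨x, hx, v, e'.symm, e⟩
    · rintro ⟨x, hx, z, hz, e⟩
      exact ⟨ψ z, ⟨z, Subgroup.mem_subgroupOf.mpr ⟨x, hx, hz.symm⟩, rfl⟩, e⟩
  have card_img : ∀ {A : Subgroup G6}, Subgroup.center G6 ≤ A → A ≤ K → Nat.card (img A) = Nat.card A := by
    intro A hA hAK
    have hZi : Subgroup.center G6 ≤ img A := fun z hz => by
      obtain ⟨x, hx, hC⟩ := tot' z (hK1 hz)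
      exact (mem_img hA hAK).mpr ⟨x, hA ((kl hC).mpr hz), hC⟩
    rw [card_map_u hZi, card_map_u hA]
    congr 1
    rw [Subgroup.map_comap_eq, inf_eq_right.mpr ((Subgroup.map_subtype_le _).trans ((Subgroup.map_mono (le_top : K1 ≤ ⊤)).trans (MonoidHom.range_eq_map uperm).ge)),
      Subgroup.card_map_of_injective (K1.map uperm).subtype_injective,
      Subgroup.card_map_of_injective (show Function.Injective ψ.toMonoidHom from ψ.injective),
      Nat.card_congr (Subgroup.subgroupOfEquivOfLe (Subgroup.map_mono hAK)).toEquiv]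
  have Ccomm : ∀ {x x' y y' : G6}, C x y → C x' y' →
      ((x' * x)⁻¹ * (x * x') ∈ Subgroup.center G6 ↔ (y' * y)⁻¹ * (y * y') ∈ Subgroup.center G6) :=
    fun h h' => kl (Cmul (Cinv (Cmul h' h)) (Cmul h h'))
  have hDK : DD ≤ K := DD_le_P6.trans hP
  have hDimg : img DD = DD := by
    refine DD_unique (fun y hy => ?_) (by rw [card_img center_le_DD hDK, card_DD]) fun y hy y' hy' => ?_
    · obtain ⟨x, hx, hC⟩ := (mem_img center_le_DD hDK).mp hy
      exact (hP6 hC).mp (DD_le_P6 hx)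
    · obtain ⟨x, hx, hC⟩ := (mem_img center_le_DD hDK).mp hy
      obtain ⟨x', hx', hC'⟩ := (mem_img center_le_DD hDK).mp hy'
      refine comm1_of_center ((Ccomm hC hC').mp ?_)
      have hxx : x * x' = x' * x := G6_ext (by
        rw [mat_mul, mat_mul, mat_DD hx, mat_DD hx', Matrix.diagonal_mul_diagonal, Matrix.diagonal_mul_diagonal]
        congr 1
        funext i
        exact mul_comm _ _)
      rw [hxx, inv_mul_cancel]
      exact one_mem _
  have hDD : ∀ {x y : G6}, C x y → (x ∈ DD ↔ y ∈ DD) := fun {x y} hC => by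
    refine ⟨fun hx => hDimg ▸ (mem_img center_le_DD hDK).mpr ⟨x, hx, hC⟩, fun hy => ?_⟩
    obtain ⟨x', hx', hC'⟩ := (mem_img center_le_DD hDK).mp (hDimg.symm ▸ hy : y ∈ img DD)
    have : x'⁻¹ * x ∈ Subgroup.center G6 := (kl (Cmul (Cinv hC') hC)).mpr (by rw [inv_mul_cancel]; exact one_mem _)
    simpa using mul_mem hx' (center_le_DD this)
  have hBB : ∀ {x y : G6}, C x y → (x ∈ BB ↔ y ∈ BB) := fun {x y} hC => by
    constructor
    · intro hx
      refine mem_BB_of_central ((hP6 hC).mp (DD_le_P6 (BB_le hx))) fun y' hy' => ?_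
      obtain ⟨x', hx', hC'⟩ := tot' y' (hP1 hy')
      refine comm1_of_center ((Ccomm hC hC').mp ?_)
      rw [BB_comm hx ((hP6 hC').mpr hy'), inv_mul_cancel]
      exact one_mem _
    · intro hy
      refine mem_BB_of_central ((hP6 hC).mpr (DD_le_P6 (BB_le hy))) fun x' hx' => ?_
      obtain ⟨y', hy', hC'⟩ := tot x' (hP hx')
      refine comm1_of_center ((Ccomm hC hC').mpr ?_)
      rw [BB_comm hy ((hP6 hC').mp hx'), inv_mul_cancel]
      exact one_mem _
  have hNN : ∀ {x y : G6}, C x y → (x ∈ NN ↔ y ∈ NN) := fun {x y} hC => by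
    constructor
    · intro hx
      refine mem_NN_of_normalises fun d hd => ?_
      obtain ⟨x', hx', hC'⟩ := tot' d (DD_le_K1 hd)
      exact (hDD (Cmul (Cmul hC hC') (Cinv hC))).mp (conj_DD hx ((hDD hC').mpr hd))
    · intro hy
      refine mem_NN_of_normalises fun d hd => ?_
      obtain ⟨y', hy', hC'⟩ := tot d (hDK hd)
      exact (hDD (Cmul (Cmul hC hC') (Cinv hC))).mpr (conj_DD hy ((hDD hC').mp hd))
  constructor
  · refine MM_le hDK ?_
    have hle : K ⊓ NN ≤ NN := inf_le_right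
    have hA : Subgroup.center G6 ≤ K ⊓ NN := le_inf hZ (center_le_DD.trans DD_le_NN)
    have hsub : MM ≤ img (K ⊓ NN) := fun y hy => by
      obtain ⟨x, hx, hC⟩ := tot' y (MM_le_K1 hy)
      exact (mem_img hA inf_le_left).mpr ⟨x, ⟨hx, (hNN hC).mpr (lift6_le _ hy)⟩, hC⟩
    have h1 : 360 * 243 ≤ Nat.card (↥(K ⊓ NN) : Type) := by
      rw [← card_MM, ← card_img hA inf_le_left]
      exact Subgroup.card_le_of_le hsub
    rw [card_mpOn hle, inf_eq_right.mpr (le_inf hDK DD_le_NN), card_DD] at h1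
    have hr : (mpOn (K ⊓ NN) hle).range = mpImg K := by
      ext p
      constructor
      · rintro ⟨x, rfl⟩
        exact ⟨⟨x.1, x.2.2⟩, x.2.1, rfl⟩
      · rintro ⟨x, hx, rfl⟩
        exact ⟨⟨x.1, hx, x.2⟩, rfl⟩
    rw [hr] at h1
    exact Nat.le_of_mul_le_mul_right h1 (by norm_num)
  · obtain ⟨g, hg, hC⟩ := tot' (gk 5) (gk_mem 5)
    refine ⟨g, hg, fun b hb => ?_, fun h => c1_notM (mat_c1 ▸ (hNN hC).mp h)⟩
    obtain ⟨y, hy, hC'⟩ := tot b (hDK (BB_le hb))
    have hyB := (hBB hC').mp hb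
    refine (hBB (Cmul (Cmul hC hC') (Cinv hC))).mpr ?_
    have e : gk 5 * y = y * gk 5 := by
      obtain ⟨e, rfl, he⟩ := BV_of_mem_BB hyB
      exact G6_ext (c1_comm e he)
    rw [e, mul_inv_cancel_right]
    exact hyB

end Cfsg.Agent.Spor.U43
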