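import Cfsg.Agent.Lib.Spor.SuzTypeDefs

/-!
The checks on the commutator subgroup of the isometry group of a minus form in dimension six, evaluated.
-/

set_option autoImplicit false
set_option maxRecDepth 100000

namespace Cfsg.Agent.Spor.SuzT.Chk

open Dat

theorem gen_ok : genOK = true := by decide +kernel

theorem chain_ok : chainOK [] levels = true := by decide +kernel

theorem chain_size : chainSize levels = 25920 := by decide +kernel

theorem sing_ok : singOK = true := by decide +kernel

theorem sing_count : singCount = true := by decide +kernel

theorem syl_words : sylWords = true := by decide +kernel

theorem syl_closed : sylClosed = true := by decide +kernel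

theorem syl_inv : sylInv = true := by decide +kernel

theorem clsA_ok : clsOK sa clsA = true := by decide +kernel

theorem clsC_ok : clsOK sc clsC = true := by decide +kernel

theorem cls_sep : clsSep = true := by decide +kernel

theorem rep_ok : repOK = true := by decide +kernel

theorem rad_complete : radComplete = true := by decide +kernel

theorem rad_ok : radOK = true := by decide +kernel

theorem sing_perp_codes : singPerp = true := by decide +kernel

theorem line_ok : lineOK = true := by decide +kernel

theorem rotA_ok : rotOK sa rotA = true := by decide +kernel

theorem rotC_ok : rotOK sc rotC = true := by decide +kernel

theorem exist_ok : existOK = true := by decide +kernel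

theorem pair_ok : pairOK = true := by decide +kernel

theorem cen_ok : cenOK = true := by decide +kernel

theorem fix_ok : fixOK = true := by decide +kernel

end Cfsg.Agent.Spor.SuzT.Chk
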