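import Cfsg.Agent.Lib.Spor.SuzTypeFrame

/-!
Groups of Suzuki sporadic type: conjugates of the central involution in the extraspecial subgroup.
-/

set_option autoImplicit false
set_option maxRecDepth 100000
set_option linter.unusedSectionVars false

namespace Cfsg.Agent.Spor.SuzT

universe u

variable {G : Type u} [Group G] [Finite G] {z : G} {Q : Subgroup G}

/-- membership in the subgroup attached to a conjugate of the central involution -/
def InQ (z : G) (Q : Subgroup G) (a b : G) : Prop := ∃ g : G, g * z * g⁻¹ = a ∧ g⁻¹ * b * g ∈ Q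

theorem zz (h : Hyp z Q) : z * z = 1 := by rw [← pow_two, ← h.ord, pow_orderOf_eq_one]

theorem z_ne (h : Hyp z Q) : z ≠ 1 := fun e => by have := h.ord; rw [e, orderOf_one] at this; omega

theorem zQ (h : Hyp z Q) : z ∈ Q :=
  h.cent (Subgroup.mem_centralizer_iff.2 fun q hq => mem_C.1 (h.le hq))

theorem Qz (h : Hyp z Q) {q : G} (hq : q ∈ Q) : Commute q z := mem_C.1 (h.le hq)

theorem inQ_iff (h : Hyp z Q) {g a b : G} (hg : g * z * g⁻¹ = a) : InQ z Q a b ↔ g⁻¹ * b * g ∈ Q := by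
  refine ⟨fun ⟨g', hg', hb⟩ => ?_, fun hb => ⟨g, hg, hb⟩⟩
  have hc : Commute (g⁻¹ * g') z := by
    refine mul_inv_eq_iff_eq_mul.1 ?_
    rw [show g⁻¹ * g' * z * (g⁻¹ * g')⁻¹ = g⁻¹ * (g' * z * g'⁻¹) * g by group, hg', ← hg]; group
  have := h.norm _ hc _ hb
  rwa [show g⁻¹ * g' * (g'⁻¹ * b * g') * (g⁻¹ * g')⁻¹ = g⁻¹ * b * g by group] at this

theorem inQ_z (h : Hyp z Q) {b : G} : InQ z Q z b ↔ b ∈ Q := by
  rw [inQ_iff h (g := 1) (by group)]; simp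

theorem InQ.conj {a b : G} (hab : InQ z Q a b) (c : G) : InQ z Q (c * a * c⁻¹) (c * b * c⁻¹) := by
  obtain ⟨g, hg, hb⟩ := hab
  exact ⟨c * g, by rw [← hg]; group, by rwa [show (c * g)⁻¹ * (c * b * c⁻¹) * (c * g) = g⁻¹ * b * g by group]⟩

theorem InQ.commute (h : Hyp z Q) {a b : G} (hab : InQ z Q a b) : Commute b a := by
  obtain ⟨g, rfl, hb⟩ := hab
  have := (Commute.conj_iff g).2 (Qz h hb)
  rwa [show g * (g⁻¹ * b * g) * g⁻¹ = b by group] at this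

theorem InQ.conj' {a b c : G} (hab : InQ z Q a b) (hc : Commute c a) : InQ z Q a (c * b * c⁻¹) := by
  have := hab.conj c
  rwa [hc.eq, mul_inv_cancel_right] at this

theorem InQ.mul (h : Hyp z Q) {a b c : G} (hb : InQ z Q a b) (hc : InQ z Q a c) : InQ z Q a (b * c) := by
  obtain ⟨g, hg, hb⟩ := hb
  refine ⟨g, hg, ?_⟩
  rw [show g⁻¹ * (b * c) * g = g⁻¹ * b * g * (g⁻¹ * c * g) by group]
  exact mul_mem hb ((inQ_iff h hg).1 hc)

theorem InQ.inv {a b : G} (hb : InQ z Q a b) : InQ z Q a b⁻¹ := by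
  obtain ⟨g, hg, hb⟩ := hb
  exact ⟨g, hg, by rw [show g⁻¹ * b⁻¹ * g = (g⁻¹ * b * g)⁻¹ by group]; exact inv_mem hb⟩

theorem InQ.self (h : Hyp z Q) {a : G} (ha : IsConj z a) : InQ z Q a a := by
  obtain ⟨g, hg⟩ := isConj_iff.1 ha
  exact ⟨g, hg, by rw [← hg, show g⁻¹ * (g * z * g⁻¹) * g = z by group]; exact zQ h⟩

theorem InQ.sq (F : Frame z Q) {a b : G} (hb : InQ z Q a b) : b * b = 1 ∨ b * b = a := by
  obtain ⟨g, rfl, hb⟩ := hb
  rcases F.sq_or _ hb with e | e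
  · refine Or.inl ?_
    rwa [show g⁻¹ * b * g * (g⁻¹ * b * g) = g⁻¹ * (b * b) * g⁻¹⁻¹ by group, conj_eq_one_iff] at e
  · exact Or.inr (by rw [← e]; group)

variable (F : Frame z Q)
include F

theorem vec_one (h : Hyp z Q) : F.vec 1 = 0 := (F.vec_zero 1 (one_mem Q)).2 (Or.inl rfl)

theorem vec_inv (h : Hyp z Q) {a : G} (ha : a ∈ Q) : F.vec a⁻¹ = F.vec a := by
  have := F.vec_mul a⁻¹ (inv_mem ha) a ha
  rw [inv_mul_cancel, vec_one F h] at this
  rw [eq_neg_of_add_eq_zero_left this.symm, ZModModule.neg_eq_self]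

theorem vec_eq {a b : G} (ha : a ∈ Q) (hb : b ∈ Q) (h : Hyp z Q) (e : F.vec a = F.vec b) : a = b ∨ a = b * z := by
  have h0 : F.vec (b⁻¹ * a) = 0 := by rw [F.vec_mul _ (inv_mem hb) _ ha, vec_inv F h hb, e, ZModModule.add_self]
  rcases (F.vec_zero _ (mul_mem (inv_mem hb) ha)).1 h0 with e' | e'
  · exact Or.inl (inv_mul_eq_one.1 e').symm
  · exact Or.inr (inv_mul_eq_iff_eq_mul.1 e')

theorem vec_mul_z (h : Hyp z Q) {a : G} (ha : a ∈ Q) : F.vec (a * z) = F.vec a := by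
  rw [F.vec_mul a ha z (zQ h), (F.vec_zero z (zQ h)).2 (Or.inr rfl), add_zero]

/-- an element of the centraliser -/
def cC {c : G} (hc : Commute c z) : Subgroup.centralizer ({z} : Set G) := ⟨c, mem_C.2 hc⟩

theorem π_Q (h : Hyp z Q) {q : G} (hq : q ∈ Q) : F.π (cC (Qz h hq)) = 1 := (F.π_ker _).2 hq

theorem π_mul {a b : G} (ha : Commute a z) (hb : Commute b z) :
    F.π (cC (ha.mul_left hb)) = F.π (cC ha) * F.π (cC hb) := by
  rw [← map_mul]; rfl

theorem core_sing (h : Hyp z Q) {x : G} (hx : x ∈ Q) (hxx : x * x = 1) (hx1 : x ≠ 1) (hxz : x ≠ z) :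
    F.vec x ≠ 0 ∧ qm (F.vec x) = 0 :=
  ⟨fun e => ((F.vec_zero x hx).1 e).elim hx1 hxz, (F.sq_iff x hx).1 hxx⟩

theorem swap (h : Hyp z Q) {x : G} (hx : x ∈ Q) (h0 : F.vec x ≠ 0) :
    ∃ q ∈ Q, q * x * q⁻¹ = x * z := by
  obtain ⟨w, hw⟩ : ∃ w, pol (F.vec x) w ≠ 0 := by
    by_contra! hn
    refine h0 (QF_pnd _ fun w => ?_)
    have := hn w
    rw [pol] at this
    simp only [QuadraticMap.polar, coe_QF, sub_eq_add_neg, ZModModule.neg_eq_self]
    exact this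
  obtain ⟨q, hq, rfl⟩ := F.vec_surj w
  refine ⟨q, hq, ?_⟩
  rcases F.comm_or x hx q hq with e | e
  · exact absurd ((F.comm_iff x hx q hq).1 e.symm) hw
  · rw [e, mul_assoc, mul_assoc, ← (Qz h (inv_mem hq)).eq, mul_inv_cancel_left]

theorem move (h : Hyp z Q) {x y : G} (hx : x ∈ Q) (hy : y ∈ Q) (h0 : F.vec y ≠ 0) {g : Ga}
    (hg : g • F.vec x = F.vec y) :
    ∃ c : Subgroup.centralizer ({z} : Set G), F.π c = g ∧ (c : G) * x * (c : G)⁻¹ = y := by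
  obtain ⟨c, hc⟩ := F.π_surj g
  have hcx : (c : G) * x * (c : G)⁻¹ ∈ Q := h.norm c (mem_C.1 c.2) x hx
  rcases vec_eq F hcx hy h (by rw [F.vec_conj c x hx, hc, hg]) with e | e
  · exact ⟨c, hc, e⟩
  obtain ⟨q, hq, hq'⟩ := swap F h hy h0
  refine ⟨cC (Qz h hq) * c, by rw [map_mul, π_Q F h hq, one_mul, hc], ?_⟩
  show q * (c : G) * x * (q * (c : G))⁻¹ = y
  rw [show q * (c : G) * x * (q * (c : G))⁻¹ = q * ((c : G) * x * (c : G)⁻¹) * q⁻¹ by group, e,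
    show q * (y * z) * q⁻¹ = q * y * q⁻¹ * (q * z * q⁻¹) by group, hq', (Qz h hq).eq, mul_inv_cancel_right,
    mul_assoc, zz h, mul_one]

theorem move_sing (h : Hyp z Q) {x y : G} (hx : x ∈ Q) (hxx : x * x = 1) (hx1 : x ≠ 1) (hxz : x ≠ z)
    (hy : y ∈ Q) (hyy : y * y = 1) (hy1 : y ≠ 1) (hyz : y ≠ z) :
    ∃ c : Subgroup.centralizer ({z} : Set G), (c : G) * x * (c : G)⁻¹ = y := by
  obtain ⟨a0, a1⟩ := core_sing F h hx hxx hx1 hxz
  obtain ⟨b0, b1⟩ := core_sing F h hy hyy hy1 hyz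
  obtain ⟨g1, h1⟩ := exists_smul a0 a1
  obtain ⟨g2, h2⟩ := exists_smul b0 b1
  obtain ⟨c, -, hc⟩ := move F h hx hy b0 (g := g2 * g1⁻¹) (by rw [mul_smul, ← h1, inv_smul_smul, h2])
  exact ⟨c, hc⟩

theorem core_conj (h : Hyp z Q) {x : G} (hx : x ∈ Q) (hxx : x * x = 1) (hx1 : x ≠ 1) (hxz : x ≠ z) :
    IsConj z x := by
  obtain ⟨y, hy, hyz, hc⟩ := h.nwc
  obtain ⟨g, hg⟩ := isConj_iff.1 hc
  have hyy : y * y = 1 := by rw [← hg, conj_mul, zz h]; group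
  have hy1 : y ≠ 1 := fun e => z_ne h (conj_eq_one_iff.1 (hg.trans e))
  obtain ⟨c, hc'⟩ := move_sing F h hy hyy hy1 hyz hx hxx hx1 hxz
  exact hc.trans (isConj_iff.2 ⟨c, hc'⟩)

/-- a point over the first vector -/
structure Base (F : Frame z Q) (x : G) : Prop where
  mem : x ∈ Q
  vec : F.vec x = e0
  sq : x * x = 1
  ne1 : x ≠ 1
  nez : x ≠ z
  conj : IsConj z x

theorem exists_base (h : Hyp z Q) : ∃ x, Base F x := by
  obtain ⟨x, hx, hv⟩ := F.vec_surj e0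
  have hxx : x * x = 1 := (F.sq_iff x hx).2 (by rw [hv]; exact e0_facts.2.1)
  have hn : x ≠ 1 ∧ x ≠ z :=
    not_or.1 fun e => e0_facts.1 (hv ▸ (F.vec_zero x hx).2 e)
  exact ⟨x, hx, hv, hxx, hn.1, hn.2, core_conj F h hx hxx hn.1 hn.2⟩

theorem base_mem (h : Hyp z Q) {x : G} (B : Base F x) : InQ z Q x z := by
  obtain ⟨g, hg⟩ := isConj_iff.1 B.conj
  rw [inQ_iff h hg]
  by_contra hn
  have hgc : Commute (g⁻¹ * z * g) z := by
    have := (Commute.conj_iff g⁻¹).2 (Qz h B.mem).symm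
    rwa [← hg, show g⁻¹ * z * g⁻¹⁻¹ = g⁻¹ * z * g by group, show g⁻¹ * (g * z * g⁻¹) * g⁻¹⁻¹ = z by group] at this
  haveI : Fact (Nat.Prime 5) := ⟨by norm_num⟩
  obtain ⟨q0, hq0⟩ := exists_prime_orderOf_dvd_card' (G := St) 5 (by rw [card_St]; norm_num)
  obtain ⟨c, hc, hcx⟩ := move F h B.mem B.mem (by rw [B.vec]; exact e0_facts.1) (g := (q0 : Ga))
    (by rw [B.vec]; exact q0.2)
  have h5 : 5 ∣ orderOf c := by
    have := orderOf_map_dvd F.π c
    rwa [hc, Subgroup.orderOf_coe, hq0] at this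
  set c5 := c ^ (orderOf c / 5)
  have ho5 : orderOf c5 = 5 := orderOf_pow_orderOf_div (orderOf_pos c).ne' h5
  have hcx' : Commute (c5 : G) x := by
    rw [Subgroup.coe_pow]
    exact (show Commute (c : G) x from mul_inv_eq_iff_eq_mul.1 hcx).pow_left _
  have hcz : Commute (c5 : G) z := mem_C.1 c5.2
  have hk : Commute (g⁻¹ * (c5 : G) * g) z := by
    have := (Commute.conj_iff g⁻¹).2 hcx'
    rwa [← hg, show g⁻¹ * (g * z * g⁻¹) * g⁻¹⁻¹ = z by group,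
      show g⁻¹ * (c5 : G) * g⁻¹⁻¹ = g⁻¹ * (c5 : G) * g by group] at this
  have hkz : Commute (g⁻¹ * (c5 : G) * g) (g⁻¹ * z * g) := by
    simpa using (Commute.conj_iff g⁻¹).2 hcz
  set k := cC hk
  have hok : orderOf k = 5 := by
    rw [← Subgroup.orderOf_coe, show ((k : Subgroup.centralizer ({z} : Set G)) : G) = MulAut.conj g⁻¹ (c5 : G) by
      simp [k, cC], MulEquiv.orderOf_eq, Subgroup.orderOf_coe, ho5]
  have hs : F.π (cC hgc) * F.π (cC hgc) = 1 := by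
    rw [← map_mul, show cC hgc * cC hgc = 1 from Subtype.ext (show g⁻¹ * z * g * (g⁻¹ * z * g) = 1 by
      rw [show g⁻¹ * z * g * (g⁻¹ * z * g) = g⁻¹ * (z * z) * g by group, zz h]; group), map_one]
  have hk1 := no_five hs (fun e => hn ((F.π_ker _).1 e))
    (show F.π k ^ 5 = 1 by rw [← map_pow, ← hok, pow_orderOf_eq_one, map_one])
    ((show Commute k (cC hgc) from Subtype.ext hkz.eq).map F.π)
  have hkQ := (F.π_ker k).1 hk1
  have hd := orderOf_dvd_natCard (⟨k, hkQ⟩ : Q)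
  rw [← Subgroup.orderOf_coe, show ((⟨k, hkQ⟩ : Q) : G) = (k : G) from rfl, Subgroup.orderOf_coe, hok, h.card] at hd
  norm_num at hd

theorem mem_symm (h : Hyp z Q) {a b : G} (ha : IsConj z a) (hab : InQ z Q a b) (hbb : b * b = 1) (hb1 : b ≠ 1)
    (hba : b ≠ a) : IsConj z b ∧ InQ z Q b a := by
  obtain ⟨g, hg, hb⟩ := hab
  set x := g⁻¹ * b * g
  have hxx : x * x = 1 := by
    rw [show x * x = g⁻¹ * (b * b) * g by simp only [x]; group, hbb]; group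
  have hx1 : x ≠ 1 := fun e => hb1 (by rw [show b = g * x * g⁻¹ by simp only [x]; group, e]; group)
  have hxz : x ≠ z := fun e => hba (by rw [← hg, ← e]; simp only [x]; group)
  have hconj : IsConj z x := core_conj F h hb hxx hx1 hxz
  refine ⟨hconj.trans (isConj_iff.2 ⟨g, by simp only [x]; group⟩), ?_⟩
  obtain ⟨x0, B⟩ := exists_base F h
  obtain ⟨c, hc⟩ := move_sing F h B.mem B.sq B.ne1 B.nez hb hxx hx1 hxz
  have h1 := (base_mem F h B).conj (c : G)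
  rw [hc, (mem_C.1 c.2).eq, mul_inv_cancel_right] at h1
  have h2 := h1.conj g
  rwa [hg, show g * x * g⁻¹ = b by simp only [x]; group] at h2

end Cfsg.Agent.Spor.SuzT
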