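/-!
Data for the commutator subgroup of the isometry group of a minus form in dimension six over two
elements: two generators with square roots, an orbit chain, a Sylow 2-subgroup, the two classes of
involutions and a point stabiliser part.
-/

set_option autoImplicit false
set_option maxRecDepth 100000

namespace Cfsg.Agent.Spor.SuzT.Dat

/-- columns of the generators -/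
def gens : List (List Nat) := [
  [6,45,26,27,57,11],
  [39,58,23,2,5,49]]

/-- their inverses -/
def ginvs : List (List Nat) := [
  [12,59,58,23,40,35],
  [37,8,53,15,28,25]]

/-- square roots -/
def roots : List (List Nat) := [
  [59,55,53,30,7,19],
  [30,4,58,53,44,10]]

/-- inverses of the square roots -/
def rinvs : List (List Nat) := [
  [43,6,61,62,13,31],
  [46,53,2,21,35,7]]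

/-- orbit chain -/
def levels : List (Nat × List (List Nat)) := [
  (1,[[],[0],[1],[0,0],[1,0],[0,1],[1,1],[0,0,0],[1,0,0],[0,1,0],[0,0,1],[0,1,1],[1,1,1],[1,0,0,0],[0,1,0,0],[1,1,0,0],[1,0,1,0],[0,0,0,1],[1,0,0,1],[1,1,1,1],[1,0,1,0,0],[0,1,1,0,0],[0,1,0,1,0],[1,1,0,1,0],[0,0,0,0,1],[1,0,0,0,1],[0,1,0,0,1]]),
  (4,[[],[0,0,1,0],[0,1,0,1],[1,0,1,0,1,0],[1,0,1,1,0,1],[1,0,0,0,1,0,0],[1,1,0,1,1,0,0],[0,1,0,1,0,1,0,1],[0,0,0,0,0,1,1,1],[0,1,1,0,0,1,1,1],[0,1,0,0,1,1,1,1],[0,1,0,0,1,0,0,0,0],[1,0,0,0,0,1,0,0,0],[0,1,1,0,0,0,1,1,0],[1,1,1,0,1,1,0,0,1],[0,0,1,1,0,1,0,1,0,0]]),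
  (2,[[],[0,0,1,1,1,0,0,0,1],[0,1,1,1,0,1,0,0,1],[1,1,0,1,0,0,1,1,0,1,0,0],[0,0,1,1,1,1,0,0,1,0,0,1]]),
  (8,[[],[0,1,0,1,1,0,0,1,1,0,0,0,0],[1,0,1,1,0,0,0,1,0,0,1,0,0],[1,0,0,0,0,0,1,0,1,1,0,0,1]]),
  (16,[[],[0,1,0,0,1,0,0,1,1,1,1,0],[0,1,1,1,1,1,1,1,1,0,1,1,0,0,0,0]])]

/-- words moving the first point -/
def sing : List (Nat × List Nat) := [
  (1,[]),
  (2,[0,1,1]),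
  (3,[0,0,0]),
  (4,[0,0,1]),
  (6,[0]),
  (8,[0,1,0,0,1]),
  (9,[0,1,1,0,0]),
  (12,[0,1,0]),
  (15,[0,0,0,0,1]),
  (21,[1,0,1,0]),
  (23,[1,0,0,1]),
  (26,[0,0,0,1]),
  (27,[1,1,0,0]),
  (29,[1,0,0,0]),
  (30,[0,1,0,0]),
  (37,[0,1,0,1,0]),
  (39,[1]),
  (42,[1,0,1,0,0]),
  (43,[1,1,1]),
  (45,[1,0]),
  (46,[1,1,1,1]),
  (53,[1,1,0,1,0]),
  (55,[0,0]),
  (58,[0,1]),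
  (59,[1,1]),
  (61,[1,0,0,0,1]),
  (62,[1,0,0])]

/-- a Sylow 2-subgroup -/
def syl : List (List Nat × List Nat × Nat × List Nat) := [
  ([1,2,4,8,16,32],[],0,[]),
  ([1,2,21,8,16,33],[1,0,0,0,0,1,1,0,0,0,0,0,0,0],2,[]),
  ([1,2,39,9,17,32],[0,0,0,0,1,1,0,0,0,0,1,1],2,[0,0,0,0,0,1,1,1]),
  ([1,2,55,9,17,33],[1,1,0,1,1,1,1,0,0,0,0,1,0,1],2,[0,1,0,1]),
  ([1,3,15,9,16,32],[0,1,0,0,1,1,0,0,0,0,0],2,[0,0,1,0]),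
  ([1,3,30,9,16,33],[0,0,1,1,1,0,1,1,0,0,1,0,0],1,[1,1,0]),
  ([1,3,45,8,17,32],[0,1,0,0,1,1,1,1,0,0,0,0,1,1],2,[1,0,1,0,1,0]),
  ([1,3,61,8,17,33],[1,0,0,1,0,1,1,0,0,1,1,1,1,0,0,1],2,[0,1,0,1,0,1,0,1]),
  ([1,8,4,2,16,48],[0,0,0,0,0,1,1,0,0,0,1,0,0,0,1],2,[0,0,1,1,1]),
  ([1,8,21,2,16,49],[1,0,0,1,0,0,1,1,0,0,1,0,0,1],2,[1,0,0,0,1,1,0,0]),
  ([1,8,45,3,17,49],[0,1,0,0,0,1,1,0,0,0,0,0,0,0,0],0,[]),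
  ([1,8,61,3,17,48],[1,1,0,0,0,0,0,0,0,1,1,1,1,1,0],0,[]),
  ([1,9,15,3,16,48],[0,1,1,0,1,1,0,0,1,0,0,0,1,0],2,[1,1,0,0,1,0,1]),
  ([1,9,30,3,16,49],[1,0,0,0,1,0,0,1,1,0,1,1,0,0],2,[0,1,1,1,1,0]),
  ([1,9,39,2,17,49],[1,1,1,0,0,0,0,1,1,0,0,0,1,0,1,0],0,[]),
  ([1,9,55,2,17,48],[0,1,1,0,0,1,0,0,0,1,1,1,1,0],0,[]),
  ([1,42,4,58,10,18],[0,1,1,0,1,1,1,0,0,0,0,1,0,0,0],2,[0,0,1,0,1,1,1,0,0]),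
  ([1,42,15,58,10,19],[1,0,1,0,1,0,1,1,0,1,1,0,0],0,[]),
  ([1,42,55,59,11,19],[0,0,1,1,1,0,1,1,0,1,1,1,1,1],2,[1,1,1,0,0,1]),
  ([1,42,61,59,11,18],[1,0,1,1,1,1,0,1,1,1,0,0,1,0,0],0,[]),
  ([1,43,21,59,10,18],[0,1,1,0,0,0,1,0,0,1,1],0,[]),
  ([1,43,30,59,10,19],[1,0,0,1,1,1,0,1,1,0,1,1,1,1],2,[1,1,1,0,0]),
  ([1,43,39,58,11,19],[1,1,0,1,1,0,0,0,0,0,0,1,1],0,[]),
  ([1,43,45,58,11,18],[1,1,1,1,0,1,0,0],2,[0,1,0,1,1,1,0]),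
  ([1,58,4,42,10,24],[1,1,0,0,1,0,0,1,1,0,0,1,0,0],2,[0,0,0,1,0,1,1,0,1]),
  ([1,58,15,42,10,25],[1,0,0,0,1,0,0,1,0,1,0,1,0],0,[]),
  ([1,58,39,43,11,24],[0,1,0,1,1,1,1,0,0,1,1,1,0,0],2,[1,1,1,1,0,0,0,0]),
  ([1,58,45,43,11,25],[1,0,1,1,0,1,1,0,0,0,0,1,1,1,0],0,[]),
  ([1,59,21,43,10,24],[0,1,0,0,0,1,0,0,1,1,1,1,1,0],0,[]),
  ([1,59,30,43,10,25],[0,0,0,1,1,1,1,0,0,0,1,0,0,0,0],2,[0,1,0,1,1,1,1,0,0]),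
  ([1,59,55,42,11,24],[0,0,1,0,0,0,0,1,0,0,1,1,1,0,1,0,0],0,[]),
  ([1,59,61,42,11,25],[1,0,1,1,0,1,0,0,1,0],2,[1,1,0]),
  ([26,4,2,21,16,38],[0,1,0,1,1,1,1,0,0,0,1,0,1],1,[1,1,0,1,1,0]),
  ([26,4,8,21,16,60],[1,1,1,1,0,0,0,0,0,0,1,1,0,1],0,[]),
  ([26,4,42,15,10,60],[1,0,1,0,0,0,0,0,1,1,1,1],0,[]),
  ([26,4,58,15,10,38],[1,1,1,1,0,0,1,0,1,1,0,0,1,1],0,[]),
  ([26,15,3,30,16,44],[1,0,1,0,1,1,0,1,1,0,1,0,1,0,0,1],0,[]),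
  ([26,15,9,30,16,54],[1,1,0,0,1,1,1,1,1,0,1,0,0,0,0,0],2,[1,0,0,0,0,0,0]),
  ([26,15,42,4,10,54],[1,1,0,1,0,1,1,1,0,0,0,0,1,1,0],0,[]),
  ([26,15,58,4,10,44],[0,0,0,0,0,0,0,1,1,1,0,1,1,0],0,[]),
  ([26,21,2,4,16,54],[1,1,1,0,0,1,1,0,1,1,1,1,0,0,0],0,[]),
  ([26,21,8,4,16,44],[1,1,1,0,0,0,1,0,1,0,1,0,1],1,[1,1,1,0,0,1]),
  ([26,21,43,30,10,44],[0,0,1,1,0,0,0,1,0,1,0,0,1,0,1],0,[]),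
  ([26,21,59,30,10,54],[1,1,0,1,1,1,1,0,0,0,1,1,1,0,0],0,[]),
  ([26,30,3,15,16,60],[1,1,0,1,1,0,0,1,1,0,1,1,0,1,1],2,[0,0,1,1,1,1]),
  ([26,30,9,15,16,38],[1,0,0,1,0,0,1],0,[]),
  ([26,30,43,21,10,38],[0,0,1,1,0,0,0,1,1,1,0,1,1],0,[]),
  ([26,30,59,21,10,60],[0,0,0,1,1,1,0,1,1,0,0],0,[]),
  ([26,39,2,55,17,5],[1,0,0,1,0,1,1,1,0,0,0,0,1],0,[]),
  ([26,39,9,55,17,31],[0,1,1,1,1,1,1,0,1,0,0,0,1,0,1,1,0],0,[]),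
  ([26,39,43,45,11,31],[1,0,1,0,0,1,1,0,0,0,1,1,1,0],0,[]),
  ([26,39,58,45,11,5],[0,1,0,1,0,1,0,1,1,1,1,0,0],1,[1,1,0,1]),
  ([26,45,3,61,17,14],[0,0,1,0,1,1,0,0,1,0],0,[]),
  ([26,45,8,61,17,20],[1,1,1,0,1,0,1,1,0,1,1,1,0,1],0,[]),
  ([26,45,43,39,11,20],[0,0,0,1,1,0,1,0,1,0],2,[1,1,1,1,0,1,1,0,0]),
  ([26,45,58,39,11,14],[0,1,1,1,1,1,0,0,1,0,0,1,1,0],0,[]),
  ([26,55,2,39,17,20],[1,0,0,1,1,0,0,1,0,1,0,0],0,[]),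
  ([26,55,9,39,17,14],[1,1,1,1,0,0,0,1,1,1,0,0,1],0,[]),
  ([26,55,42,61,11,14],[1,0,0,1,0,0,0,0,1,1,1,0,1],1,[0,1,0,0]),
  ([26,55,59,61,11,20],[1,0,1,1,1,0,1,0,1,0,1,1,1,1],0,[]),
  ([26,61,3,45,17,31],[1,0,1,1,0,0,1,0,0,0,1,1],0,[]),
  ([26,61,8,45,17,5],[1,1,1,1,0,1,1,1,1,0,1,1,0],0,[]),
  ([26,61,42,55,11,5],[1,0,0,0,0,1,1,0,1,1,0,1,0,1,0],0,[]),
  ([26,61,59,55,11,31],[1,0,1,0,0,0,1,0,1,0,1,0,1,1,0],2,[0,0,1,0,1,1,0])]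

/-- the class of the first involution -/
def clsA : List (List Nat × List Nat) := [
  ([1,2,6,9,16,32],[]),
  ([42,4,2,37,22,32],[0]),
  ([59,37,62,21,13,7],[1]),
  ([58,53,8,4,28,44],[0,0]),
  ([2,1,42,37,19,32],[1,0]),
  ([59,6,4,12,20,36],[0,1]),
  ([42,23,58,29,5,11],[1,0,0]),
  ([42,37,8,4,28,32],[0,1,0]),
  ([2,1,26,21,16,35],[1,1,0]),
  ([27,6,4,12,16,36],[0,0,1]),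
  ([26,21,8,4,16,44],[1,0,1]),
  ([58,39,26,45,14,5],[0,1,0,0]),
  ([26,55,42,61,11,14],[1,1,0,0]),
  ([1,3,62,9,17,33],[0,0,1,0]),
  ([58,23,42,29,5,14],[1,0,1,0]),
  ([43,53,46,21,13,10],[1,1,1,0]),
  ([27,23,30,29,16,47],[0,0,0,1]),
  ([43,21,46,53,7,10],[1,0,0,1]),
  ([1,3,12,8,16,32],[0,1,0,1]),
  ([3,2,6,29,16,34],[0,0,1,0,0]),
  ([1,3,46,9,17,32],[1,0,1,0,0]),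
  ([8,37,42,1,25,32],[0,1,1,0,0]),
  ([3,2,4,12,16,32],[0,0,0,1,0]),
  ([3,2,6,45,18,32],[0,1,0,1,0]),
  ([42,55,26,61,14,11],[1,1,0,1,0]),
  ([2,1,58,53,19,35],[0,1,1,1,0]),
  ([8,53,58,1,25,41],[1,1,1,1,0]),
  ([43,39,46,45,31,32],[0,0,0,0,1]),
  ([9,55,12,8,24,40],[1,0,0,0,1]),
  ([8,4,2,1,16,32],[1,1,0,0,1]),
  ([26,4,2,21,16,38],[0,0,1,0,1]),
  ([9,39,12,8,24,32],[0,0,0,1,0,0]),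
  ([59,55,62,61,31,47],[1,0,0,1,0,0]),
  ([58,4,2,53,22,38],[0,1,0,1,0,0]),
  ([27,53,30,37,10,13],[0,0,0,0,1,0]),
  ([59,21,62,37,7,13],[1,0,0,0,1,0]),
  ([43,6,4,12,20,32],[1,1,1,0,1,0]),
  ([26,39,58,45,11,5],[1,1,1,1,1,0]),
  ([9,6,4,8,16,32],[1,1,0,0,1,0,0]),
  ([3,2,6,61,18,34],[0,0,1,0,1,0,0]),
  ([2,1,8,4,16,32],[0,0,0,0,0,1,0]),
  ([27,37,30,53,10,7],[0,1,1,1,0,1,0]),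
  ([8,21,26,1,16,41],[1,1,1,1,0,1,0]),
  ([1,3,30,9,16,33],[1,1,1,1,1,1,0]),
  ([9,23,12,8,16,40],[1,0,0,0,0,0,1,0])]

/-- the class of the second involution -/
def clsC : List (List Nat × List Nat) := [
  ([1,2,21,8,16,33],[]),
  ([62,4,2,55,22,38],[0]),
  ([4,2,1,42,50,32],[1]),
  ([46,53,43,39,63,56],[0,0]),
  ([61,62,21,8,44,13],[1,0]),
  ([59,30,4,46,54,60],[0,1]),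
  ([1,9,15,3,32,16],[1,1]),
  ([1,2,37,42,19,32],[0,0,0]),
  ([6,59,58,15,41,25],[1,0,0]),
  ([62,61,8,4,28,44],[0,1,0]),
  ([61,6,4,8,20,36],[0,0,1]),
  ([29,30,4,8,16,44],[1,0,1]),
  ([1,2,4,58,18,34],[0,1,1]),
  ([42,29,27,23,36,11],[1,1,1]),
  ([42,15,9,46,54,32],[0,0,0,0]),
  ([23,9,15,21,16,54],[1,0,0,0]),
  ([46,45,26,39,14,17],[0,1,0,0]),
  ([1,8,21,2,16,49],[1,1,0,0]),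
  ([1,3,29,8,16,33],[0,0,1,0]),
  ([61,23,45,8,5,28],[1,0,1,0]),
  ([1,43,30,59,10,19],[0,0,0,1]),
  ([55,2,37,62,7,22],[1,0,0,1]),
  ([1,3,61,8,17,33],[0,1,0,1]),
  ([4,2,1,8,16,48],[1,1,0,1]),
  ([30,29,27,37,34,13],[0,0,1,1]),
  ([59,12,4,6,36,20],[1,0,1,1]),
  ([1,42,23,27,56,51],[0,1,1,1]),
  ([12,15,42,43,51,32],[1,1,1,1]),
  ([58,62,3,15,44,28],[0,0,0,0,0]),
  ([29,30,4,58,34,14],[1,0,0,0,0]),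
  ([15,12,4,6,32,16],[0,1,0,0,0]),
  ([30,53,27,23,56,63],[1,1,0,0,0]),
  ([53,2,37,8,5,20],[0,0,1,0,0]),
  ([1,59,46,27,41,10],[1,0,1,0,0]),
  ([8,61,59,1,25,41],[0,1,1,0,0]),
  ([1,58,4,42,10,24],[1,1,1,0,0]),
  ([37,2,4,42,22,32],[0,0,0,1,0]),
  ([6,2,3,15,48,32],[1,0,0,1,0]),
  ([23,2,55,45,35,5],[0,1,0,1,0]),
  ([21,2,37,8,49,52],[1,1,0,1,0]),
  ([23,27,29,30,16,47],[0,0,0,0,1]),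
  ([21,43,45,8,57,52],[1,0,0,0,1]),
  ([9,15,12,8,16,32],[0,1,0,0,1]),
  ([46,4,2,39,22,32],[0,0,1,0,1]),
  ([55,2,21,62,38,7],[1,0,1,0,1]),
  ([29,39,61,8,41,5],[0,1,1,0,1]),
  ([4,2,1,8,32,16],[1,1,1,0,1]),
  ([30,29,8,4,16,44],[0,0,0,1,1]),
  ([2,1,9,6,16,32],[1,0,0,1,1]),
  ([45,6,4,8,20,32],[0,1,0,1,1]),
  ([46,45,8,4,28,32],[1,1,0,1,1]),
  ([1,2,4,26,16,34],[0,0,1,1,1]),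
  ([1,26,55,59,35,11],[1,0,1,1,1]),
  ([45,46,4,58,14,18],[1,1,1,1,1]),
  ([1,2,6,59,18,34],[0,0,0,0,0,0]),
  ([1,8,37,2,49,32],[1,0,0,0,0,0]),
  ([30,37,27,23,40,7],[0,1,0,0,0,0]),
  ([15,12,4,6,16,48],[1,1,0,0,0,0]),
  ([26,45,43,39,11,20],[1,0,1,0,0,0]),
  ([1,2,23,27,16,35],[0,1,1,0,0,0]),
  ([12,15,58,59,35,19],[1,1,1,0,0,0]),
  ([12,39,9,8,56,32],[0,0,0,1,0,0]),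
  ([23,2,39,61,51,54],[1,0,0,1,0,0]),
  ([46,45,43,53,63,50],[0,1,0,1,0,0]),
  ([1,26,21,8,16,41],[1,1,0,1,0,0]),
  ([4,26,1,8,16,56],[0,0,1,1,0,0]),
  ([61,39,29,8,44,5],[1,0,1,1,0,0]),
  ([39,43,45,46,31,32],[0,1,1,1,0,0]),
  ([55,9,15,53,38,22],[1,1,1,1,0,0]),
  ([39,2,21,46,54,49],[0,0,0,0,1,0]),
  ([39,9,15,37,54,32],[1,0,0,0,1,0]),
  ([1,9,62,3,33,17],[0,1,0,0,1,0]),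
  ([1,8,53,2,33,17],[1,1,0,0,1,0]),
  ([15,21,29,6,16,57],[0,0,1,0,1,0]),
  ([1,3,45,8,17,32],[1,0,1,0,1,0]),
  ([23,2,4,12,16,36],[1,1,1,0,1,0]),
  ([43,12,4,6,52,32],[0,0,0,0,0,1]),
  ([1,42,4,8,24,32],[1,0,0,0,0,1]),
  ([21,2,4,26,16,38],[1,1,0,0,0,1]),
  ([26,30,3,15,16,60],[0,0,1,0,0,1]),
  ([23,2,37,30,49,54],[0,0,0,1,0,1]),
  ([21,59,61,8,41,13],[1,0,0,1,0,1]),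
  ([59,61,62,55,47,31],[0,1,0,1,0,1]),
  ([1,27,29,42,50,57],[1,1,0,1,0,1]),
  ([46,21,43,39,7,24],[0,0,1,1,0,1]),
  ([53,2,4,8,20,36],[1,1,1,1,0,1]),
  ([1,2,23,9,16,33],[0,0,0,0,1,1]),
  ([12,23,9,8,16,56],[1,0,0,0,1,1]),
  ([42,46,3,15,60,32],[0,1,0,0,1,1]),
  ([46,45,43,21,13,18],[1,1,0,0,1,1]),
  ([1,8,4,2,16,48],[0,0,1,0,1,1]),
  ([37,2,55,59,7,19],[1,0,1,0,1,1]),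
  ([1,2,37,8,17,32],[0,1,1,0,1,1]),
  ([45,23,61,8,5,25],[1,1,1,0,1,1]),
  ([6,43,42,15,57,32],[1,1,0,1,1,1]),
  ([30,23,27,29,16,63],[0,1,1,1,1,1]),
  ([53,27,29,8,36,13],[0,0,0,0,0,0,0]),
  ([1,43,62,27,57,51],[1,0,0,0,0,0,0]),
  ([58,15,9,62,38,22],[0,1,0,0,0,0,0]),
  ([23,58,4,30,40,14],[1,1,0,0,0,0,0]),
  ([43,45,46,39,63,32],[1,1,1,0,0,0,0]),
  ([1,42,37,8,25,32],[0,1,0,1,0,0,0]),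
  ([1,59,30,43,10,25],[1,1,0,1,0,0,0]),
  ([1,59,61,26,41,11],[0,0,1,1,0,0,0]),
  ([6,27,26,15,16,57],[0,1,1,1,0,0,0]),
  ([1,43,45,58,11,18],[1,1,1,1,0,0,0]),
  ([6,2,3,15,16,48],[0,0,0,0,1,0,0]),
  ([1,2,55,9,17,33],[1,0,0,0,1,0,0]),
  ([15,12,4,6,48,32],[0,1,0,0,1,0,0]),
  ([62,61,59,21,13,31],[0,1,1,0,1,0,0]),
  ([6,2,3,45,50,32],[1,1,1,0,1,0,0]),
  ([29,30,4,42,50,60],[0,0,0,1,1,0,0]),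
  ([6,2,3,15,32,16],[1,0,0,1,1,0,0]),
  ([43,62,4,30,44,10],[0,0,1,1,1,0,0]),
  ([9,30,4,8,16,40],[1,0,1,1,1,0,0]),
  ([30,4,2,23,16,38],[1,1,1,1,1,0,0]),
  ([2,1,59,55,19,35],[0,0,0,0,0,1,0]),
  ([61,62,4,8,28,44],[0,1,0,0,0,1,0]),
  ([2,1,27,23,16,35],[1,1,0,0,0,1,0]),
  ([3,2,4,62,18,34],[0,1,1,0,0,1,0]),
  ([1,58,23,27,40,11],[1,1,1,0,0,1,0]),
  ([9,46,4,8,24,32],[0,0,0,1,0,1,0]),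
  ([46,45,43,39,31,32],[1,0,0,1,0,1,0]),
  ([23,2,4,30,16,38],[0,1,0,1,0,1,0]),
  ([21,2,55,59,35,7],[1,1,0,1,0,1,0]),
  ([27,12,4,6,16,52],[0,1,1,1,0,1,0]),
  ([62,21,59,55,7,31],[1,1,1,1,0,1,0]),
  ([45,46,21,8,60,49],[0,0,0,0,0,0,1]),
  ([8,45,43,1,25,32],[1,0,0,0,0,0,1]),
  ([1,9,15,3,16,48],[0,1,0,0,0,0,1]),
  ([21,2,39,43,51,52],[0,1,1,0,0,0,1]),
  ([62,61,59,37,47,13],[1,1,1,0,0,0,1]),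
  ([1,58,53,8,25,41],[0,0,0,1,0,0,1]),
  ([23,42,4,30,56,54],[1,0,0,0,1,0,1]),
  ([1,2,21,26,16,35],[1,1,0,0,1,0,1]),
  ([29,6,4,8,16,36],[0,0,1,0,1,0,1]),
  ([3,2,4,46,18,32],[0,1,1,0,1,0,1]),
  ([1,9,15,3,48,32],[1,1,1,0,1,0,1]),
  ([1,43,12,8,24,32],[0,0,0,1,1,0,1]),
  ([55,59,61,62,31,47],[1,0,0,1,1,0,1]),
  ([1,42,4,58,10,18],[0,1,1,1,1,0,1]),
  ([53,2,39,43,7,20],[1,1,1,1,1,0,1]),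
  ([62,37,59,55,47,7],[1,0,0,0,0,1,1]),
  ([6,2,3,61,34,18],[1,1,0,0,0,1,1]),
  ([37,8,4,2,52,32],[1,0,1,0,0,1,1]),
  ([30,29,58,23,49,63],[0,1,1,0,0,1,1]),
  ([15,53,61,6,41,25],[1,1,1,0,0,1,1]),
  ([4,58,1,8,40,24],[1,0,0,1,0,1,1]),
  ([1,27,12,8,16,40],[0,1,0,1,0,1,1]),
  ([12,4,2,3,16,32],[0,0,1,1,0,1,1]),
  ([23,2,53,30,33,7],[1,0,1,1,0,1,1]),
  ([46,39,43,45,63,32],[0,1,1,1,0,1,1]),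
  ([37,2,21,8,52,49],[1,1,1,1,0,1,1]),
  ([21,8,4,2,16,52],[1,1,1,0,1,1,1]),
  ([55,2,23,45,38,5],[0,0,1,1,1,1,1]),
  ([12,55,9,8,40,24],[1,0,1,1,1,1,1]),
  ([37,42,4,8,28,32],[0,0,0,0,0,0,0,0]),
  ([1,2,39,43,19,32],[1,0,0,0,0,0,0,0]),
  ([21,26,4,8,16,44],[1,1,0,0,0,0,0,0]),
  ([3,2,6,15,16,32],[0,0,1,0,0,0,0,0]),
  ([1,27,29,58,34,11],[1,0,1,0,0,0,0,0]),
  ([15,37,45,6,57,32],[0,1,1,0,0,0,0,0]),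
  ([55,42,4,62,14,22],[1,1,1,0,0,0,0,0]),
  ([29,30,37,8,49,60],[0,1,1,1,0,0,0,0]),
  ([1,59,61,8,25,41],[1,1,1,1,0,0,0,0]),
  ([12,15,9,8,16,48],[0,0,1,0,1,0,0,0]),
  ([58,45,43,39,63,52],[0,0,0,1,1,0,0,0]),
  ([62,61,42,55,47,14],[1,0,0,1,1,0,0,0]),
  ([37,2,53,8,5,17],[0,0,1,1,1,0,0,0]),
  ([1,8,4,2,48,32],[1,0,1,1,1,0,0,0]),
  ([8,29,27,1,16,41],[0,1,1,1,1,0,0,0]),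
  ([1,59,12,8,24,40],[0,0,0,0,0,1,0,0]),
  ([4,8,1,2,16,32],[1,0,0,0,0,1,0,0]),
  ([45,37,15,3,60,32],[0,0,1,0,0,1,0,0]),
  ([39,26,4,46,54,56],[0,0,1,1,0,1,0,0]),
  ([61,53,15,3,44,28],[1,0,1,1,0,1,0,0]),
  ([39,2,53,46,7,17],[0,1,1,1,0,1,0,0]),
  ([1,3,15,9,16,32],[1,1,1,1,0,1,0,0]),
  ([39,58,4,46,14,24],[0,0,0,0,1,1,0,0]),
  ([1,2,53,58,19,35],[0,1,0,0,1,1,0,0]),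
  ([53,8,4,2,36,20],[1,1,0,0,1,1,0,0]),
  ([15,12,55,53,35,19],[0,0,0,1,1,1,0,0]),
  ([1,58,39,43,11,24],[0,1,0,1,1,1,0,0]),
  ([37,2,23,27,52,51],[0,1,1,1,1,1,0,0]),
  ([12,15,9,8,48,32],[1,1,1,1,1,1,0,0]),
  ([61,62,37,8,13,28],[1,0,0,0,0,0,1,0]),
  ([4,42,1,8,56,32],[0,0,1,1,0,0,1,0]),
  ([1,27,62,43,51,57],[1,0,1,1,0,0,1,0]),
  ([1,43,45,26,57,50],[0,1,1,1,0,0,1,0]),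
  ([55,26,4,62,38,14],[1,1,1,1,0,0,1,0]),
  ([1,9,46,3,49,32],[0,1,0,0,1,0,1,0]),
  ([45,46,39,43,31,32],[0,0,1,1,1,0,1,0]),
  ([1,26,4,8,16,40],[0,1,1,1,1,0,1,0]),
  ([61,62,55,59,31,47],[1,1,1,1,1,0,1,0]),
  ([62,55,59,61,47,31],[0,0,0,0,0,0,0,1]),
  ([27,29,30,23,16,63],[1,0,1,0,0,0,0,1]),
  ([45,46,4,26,60,50],[1,0,1,1,0,0,0,1]),
  ([53,43,45,8,13,20],[0,0,0,0,1,0,0,1]),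
  ([1,42,55,59,11,19],[1,1,0,0,0,1,0,1]),
  ([42,61,59,55,47,11],[0,1,1,0,0,1,0,1]),
  ([30,29,42,23,33,14],[1,1,1,1,0,1,0,1]),
  ([26,15,9,30,16,54],[0,0,0,0,1,1,0,1]),
  ([3,2,4,30,16,34],[1,0,0,0,1,1,0,1]),
  ([30,29,27,23,16,47],[0,0,1,1,1,1,0,1]),
  ([1,26,4,42,50,56],[0,1,0,0,0,0,1,1]),
  ([15,6,4,12,16,32],[1,1,1,0,0,0,1,1]),
  ([12,15,26,27,16,51],[0,0,1,1,0,0,1,1]),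
  ([2,1,43,39,19,32],[0,1,1,1,0,0,1,1]),
  ([46,45,58,39,63,49],[1,1,1,1,0,0,1,1]),
  ([29,55,45,8,57,60],[0,1,0,0,1,0,1,1]),
  ([55,2,4,62,22,38],[1,1,0,0,1,0,1,1]),
  ([26,61,59,55,11,31],[0,0,1,0,1,0,1,1]),
  ([1,2,4,42,18,32],[1,0,1,0,1,0,1,1]),
  ([39,2,4,12,20,32],[1,1,1,1,1,0,1,1]),
  ([55,2,39,29,5,22],[0,1,1,1,0,1,1,1]),
  ([1,58,4,26,40,10],[1,1,1,1,0,1,1,1]),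
  ([4,2,1,26,16,50],[0,0,0,1,1,1,1,1]),
  ([55,2,4,12,20,36],[1,1,0,1,1,1,1,1]),
  ([39,2,55,29,5,19],[1,0,0,0,0,0,0,0,0]),
  ([45,46,53,8,13,17],[1,1,0,0,0,0,0,0,0]),
  ([1,2,39,9,17,32],[0,1,1,0,0,0,0,0,0]),
  ([6,2,3,29,16,50],[1,1,1,0,0,0,0,0,0]),
  ([29,30,53,8,33,13],[0,0,0,1,0,0,0,0,0]),
  ([1,8,4,2,32,16],[1,0,0,1,0,0,0,0,0]),
  ([58,29,27,23,52,63],[0,1,0,1,0,0,0,0,0]),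
  ([59,46,4,30,60,54],[0,0,1,1,0,0,0,0,0]),
  ([1,27,46,59,35,10],[1,1,1,1,0,0,0,0,0]),
  ([53,2,21,8,36,5],[1,1,1,1,1,0,0,0,0]),
  ([4,2,1,58,34,18],[1,0,0,1,0,1,0,0,0]),
  ([1,2,6,43,18,32],[0,0,0,0,1,1,0,0,0]),
  ([61,62,4,42,14,28],[1,1,0,0,1,1,0,0,0]),
  ([39,2,23,61,54,51],[1,0,0,1,1,1,0,0,0]),
  ([15,12,23,21,16,51],[0,0,1,1,1,1,0,0,0]),
  ([1,2,6,27,16,34],[1,0,0,0,0,0,1,0,0]),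
  ([43,30,4,62,38,10],[0,1,0,0,0,0,1,0,0]),
  ([1,58,4,8,24,40],[1,1,0,0,0,0,1,0,0]),
  ([1,2,55,59,19,35],[0,1,0,1,1,0,1,0,0]),
  ([9,62,4,8,24,40],[0,0,1,1,1,0,1,0,0]),
  ([29,30,23,27,16,47],[1,0,1,1,1,0,1,0,0]),
  ([45,55,29,8,60,57],[0,0,0,0,1,1,1,0,0]),
  ([1,43,45,8,25,32],[0,0,1,0,1,1,1,0,0]),
  ([27,46,4,62,10,22],[1,0,1,0,1,1,1,0,0]),
  ([6,9,8,4,16,32],[0,1,1,1,1,1,1,0,0]),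
  ([37,2,4,8,20,32],[0,1,0,1,1,0,0,1,0]),
  ([45,46,4,8,28,32],[1,1,0,1,1,0,0,1,0]),
  ([12,15,9,8,32,16],[0,0,1,0,0,1,0,1,0]),
  ([1,59,61,42,11,25],[0,0,1,1,1,1,0,1,0]),
  ([1,27,29,8,16,41],[0,1,1,0,0,0,1,0,1]),
  ([1,26,39,43,51,56],[0,0,1,1,0,0,1,0,1]),
  ([61,62,4,26,44,14],[1,0,1,1,0,0,1,0,1]),
  ([53,2,23,27,36,7],[0,1,1,1,1,0,1,0,1]),
  ([8,12,3,1,16,32],[0,0,0,0,0,1,1,0,1]),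
  ([15,12,39,37,51,32],[0,1,0,0,0,1,1,0,1]),
  ([1,42,4,26,56,50],[1,1,0,0,0,1,1,0,1]),
  ([1,26,4,58,34,10],[1,0,0,1,1,0,0,1,1]),
  ([37,59,61,8,13,25],[1,0,1,1,1,0,0,1,1]),
  ([62,61,26,55,14,31],[0,1,1,1,1,0,0,1,1]),
  ([21,2,4,8,16,36],[1,0,1,0,0,1,0,1,1]),
  ([27,62,4,46,10,28],[1,0,0,1,0,1,0,1,1]),
  ([29,21,15,3,16,60],[1,1,1,1,1,1,0,1,1]),
  ([4,2,1,8,48,32],[0,0,1,1,1,0,1,1,1]),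
  ([62,61,59,55,31,47],[1,0,0,0,1,1,1,1,1]),
  ([39,2,4,46,22,32],[0,0,1,1,0,0,0,0,0,0]),
  ([21,2,53,8,33,5],[0,1,1,1,0,0,0,0,0,0]),
  ([53,58,4,8,28,44],[0,0,0,0,1,0,0,0,0,0]),
  ([37,27,29,8,52,57],[0,1,1,1,1,0,0,0,0,0]),
  ([1,2,53,8,17,33],[0,0,1,1,1,1,1,1,0,0]),
  ([1,9,30,3,16,49],[0,0,1,0,1,1,0,0,1,0]),
  ([53,2,4,58,22,38],[1,0,0,1,0,0,1,0,1,0]),
  ([30,29,27,53,50,63],[0,1,0,0,1,1,0,0,1,1])]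

/-- isometries trivial around the first point -/
def rad : List (List Nat × Nat × List Nat) := [
  ([1,2,4,8,16,32],0,[]),
  ([1,2,6,9,16,32],1,[]),
  ([1,2,21,8,16,33],2,[]),
  ([1,2,23,9,16,33],2,[0,0,0,0,1,1]),
  ([1,2,37,8,17,32],2,[1,0,0,0,1,0,0]),
  ([1,2,39,9,17,32],2,[0,0,0,0,0,1,1,1]),
  ([1,2,53,8,17,33],2,[0,0,1,0,0,0,1,0]),
  ([1,2,55,9,17,33],2,[0,1,0,1]),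
  ([1,3,12,8,16,32],1,[1,1,0,1,1,0,0]),
  ([1,3,15,9,16,32],2,[0,0,1,0]),
  ([1,3,29,8,16,33],2,[0,1,0,1,0,0,1,0]),
  ([1,3,30,9,16,33],1,[1,0,1,1,0,1]),
  ([1,3,45,8,17,32],2,[1,0,1,0,1,0]),
  ([1,3,46,9,17,32],1,[0,0,1,0]),
  ([1,3,61,8,17,33],2,[0,1,0,1,0,1,0,1]),
  ([1,3,62,9,17,33],1,[1,0,1,0,1,0])]

/-- moving lines through the first point -/
def line : List (Nat × List Nat) := [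
  (2,[0,0,1,0]),
  (3,[0,0,1,0]),
  (8,[0,0,1,0]),
  (9,[0,0,1,0]),
  (26,[0,0,1,0]),
  (27,[0,0,1,0]),
  (42,[0,0,1,0]),
  (43,[0,0,1,0]),
  (58,[0,0,1,0]),
  (59,[0,0,1,0])]

/-- words for the centralizer of the second involution -/
def cen : List (List Nat) := [
  [],
  [1,0,1,1,0,1],
  [0,0,0,0,0,0,1,1,0],
  [1,1,1,0,0,0,0,0,1],
  [1,1,1,0,1,1,0,0,1],
  [1,1,1,1,0,0,1,0,0,0],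
  [1,1,1,1,0,0,1,1,1,0],
  [0,0,0,1,1,0,0,0,0,1],
  [0,1,0,0,1,1,0,0,0,0,0],
  [1,0,0,1,1,1,0,0,0,0,0],
  [0,1,0,1,1,0,0,0,1,0,0],
  [1,1,1,1,1,0,1,1,0,1,0],
  [0,1,0,0,1,1,0,0,1,1,0],
  [1,0,0,1,1,1,0,0,1,1,0],
  [0,0,1,1,1,0,0,1,0,1,1],
  [0,1,1,0,0,0,0,1,1,0,0,0],
  [0,0,1,0,1,1,1,1,0,1,0,0],
  [1,0,0,0,1,1,0,0,1,1,0,0],
  [0,1,0,1,0,0,1,0,0,0,1,0],
  [1,0,1,0,0,0,1,1,0,0,1,0],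
  [1,1,0,0,0,1,1,1,1,0,1,0],
  [0,1,1,0,0,0,0,1,1,1,1,0],
  [0,0,1,1,1,1,0,0,1,0,0,1],
  [1,0,1,1,1,0,1,1,0,1,0,1],
  [1,0,1,1,0,1,1,0,1,1,0,1],
  [0,0,0,0,1,1,0,0,0,0,1,1],
  [1,1,0,1,1,1,1,1,0,0,1,1],
  [0,1,1,0,1,0,1,1,0,0,0,0,0],
  [1,0,0,0,1,1,1,0,1,1,0,0,0],
  [0,0,1,1,1,0,1,1,0,0,1,0,0],
  [1,1,1,1,1,0,0,0,1,0,1,0,0],
  [0,1,1,1,0,0,1,1,1,0,1,0,0],
  [0,0,0,1,0,1,0,0,1,0,0,1,0],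
  [1,0,1,1,1,1,0,0,0,1,0,1,0],
  [1,1,0,1,1,0,0,1,0,1,0,1,0],
  [1,0,0,0,1,1,1,0,1,1,1,1,0],
  [1,0,1,0,0,0,0,0,1,0,0,1,1],
  [1,1,1,0,1,0,0,1,1,1,0,1,1],
  [1,0,0,0,0,1,1,0,0,0,0,0,0,0],
  [1,1,0,0,0,1,0,1,0,0,0,0,0,0],
  [1,1,0,0,0,1,0,0,0,1,0,0,0,0],
  [1,0,1,0,1,1,0,1,1,1,0,0,0,0],
  [0,1,1,0,0,1,0,0,0,1,1,0,0,0],
  [0,0,1,1,0,0,1,0,0,0,0,1,0,0],
  [1,1,0,0,0,1,1,0,0,1,0,1,0,0],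
  [1,1,0,0,1,1,0,1,1,1,0,1,0,0],
  [0,0,1,1,0,1,0,0,0,0,1,1,0,0],
  [1,0,0,0,1,0,0,1,1,0,1,1,0,0],
  [0,0,0,1,0,1,1,0,1,1,1,1,0,0],
  [0,1,1,0,1,1,0,0,1,0,0,0,1,0],
  [0,1,0,1,1,0,1,0,1,0,0,0,1,0],
  [0,0,1,0,0,1,1,0,1,1,0,0,1,0],
  [1,0,1,1,0,0,1,1,1,1,0,0,1,0],
  [1,1,0,0,0,1,0,1,0,0,0,1,1,0],
  [1,1,0,0,0,1,0,0,0,1,0,1,1,0],
  [1,0,1,0,1,1,0,1,1,1,0,1,1,0],
  [0,1,1,0,0,1,0,0,0,1,1,1,1,0],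
  [0,0,0,0,1,0,1,0,0,1,1,1,1,0],
  [1,0,0,1,0,0,1,1,0,0,1,0,0,1],
  [1,1,0,1,1,1,1,0,0,0,0,1,0,1],
  [0,1,0,1,1,0,1,1,0,1,0,1,0,1],
  [0,1,0,0,1,1,1,1,0,0,0,0,1,1],
  [1,0,0,1,1,1,1,1,0,0,0,0,1,1],
  [1,0,0,1,1,0,0,1,1,1,0,0,1,1],
  [0,0,0,0,1,0,0,1,1,1,1,0,1,1],
  [0,1,1,1,1,1,0,0,0,1,1,1,1,1],
  [0,1,0,0,0,1,1,0,0,0,0,0,0,0,0],
  [0,0,0,0,0,1,0,1,1,0,1,0,0,0,0],
  [1,1,0,1,1,0,1,0,1,1,1,0,0,0,0],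
  [1,1,0,1,1,1,0,1,1,1,1,0,0,0,0],
  [1,1,0,0,0,0,1,1,1,1,1,0,0,0,0],
  [1,1,0,0,0,0,0,0,0,1,1,1,0,0,0],
  [1,1,0,0,1,0,1,1,0,0,0,1,1,0,0],
  [1,1,1,1,1,1,0,0,1,0,0,1,1,0,0],
  [0,1,1,1,0,0,0,1,1,0,1,0,0,1,0],
  [0,1,1,1,0,1,0,0,1,1,0,1,0,1,0],
  [1,1,1,1,1,0,0,1,0,1,1,1,0,1,0],
  [0,0,0,0,0,1,0,1,0,1,0,0,1,1,0],
  [1,1,0,1,1,1,0,1,1,1,1,0,1,1,0],
  [1,1,0,0,0,0,1,1,1,1,1,0,1,1,0],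
  [1,1,0,0,0,0,0,0,0,1,1,1,1,1,0],
  [0,0,0,0,0,1,1,0,0,0,1,0,0,0,1],
  [1,0,0,1,0,0,1,0,1,0,1,0,0,0,1],
  [1,0,1,1,0,1,1,1,1,0,1,1,0,0,1],
  [1,1,1,0,0,0,0,1,0,1,1,0,1,0,1],
  [1,1,1,0,0,0,0,0,1,1,0,1,1,0,1],
  [0,0,1,1,1,0,0,0,1,0,1,1,0,1,1],
  [1,0,1,1,0,1,1,1,1,1,0,0,1,0,0,0],
  [1,1,1,1,0,0,1,0,0,1,0,1,0,1,0,0],
  [0,0,1,1,1,0,0,0,1,1,1,0,1,1,0,0],
  [1,0,1,0,1,0,1,1,1,0,0,1,1,1,0,0],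
  [1,1,1,0,0,0,0,1,1,0,0,0,1,0,1,0],
  [1,0,0,1,0,1,1,0,0,1,1,1,1,0,0,1],
  [1,1,0,1,0,1,0,1,1,0,0,0,0,1,0,1],
  [1,1,1,0,0,1,0,0,0,0,1,0,0,0,1,1],
  [0,1,1,0,0,1,1,1,0,1,1,0,0,1,1,1]]

/-- words -/
def swA : List Nat := [1,1,1,1,0,0,1,0,0,0]

/-- words -/
def swC : List Nat := [1,0,0,0,0,1,1,0,0,0,0,0,0,0]

/-- first involution -/
def sa : List Nat := [1,2,6,9,16,32]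

/-- second involution -/
def sc : List Nat := [1,2,21,8,16,33]

/-- rotations -/
def rotA : List Nat := [0,0,0]

/-- rotations -/
def rotC : List Nat := [1,0,1,1,0,1]

/-- a vector -/
def e1 : Nat := 32

/-- a vector -/
def e2 : Nat := 34

/-- a vector -/
def e3 : Nat := 40

/-- a vector -/
def w1 : Nat := 2

/-- a vector -/
def w2 : Nat := 8

/-- a vector -/
def u0 : Nat := 16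

end Cfsg.Agent.Spor.SuzT.Dat
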