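import Cfsg.Agent.Lib.Spor.SuzTypeData

/-!
Checks on the commutator subgroup of the isometry group of a minus form in dimension six over two
elements, on codes below 64.
-/

set_option autoImplicit false
set_option maxRecDepth 100000

namespace Cfsg.Agent.Spor.SuzT.Chk

open Dat

/-- one bit -/
def bit (c i : Nat) : Nat := Nat.land (Nat.shiftRight c i) 1

/-- the form on codes -/
def qc (c : Nat) : Nat :=
  (bit c 0 * bit c 2 + bit c 1 * bit c 3 + bit c 4 + bit c 4 * bit c 5 + bit c 5) % 2

/-- the polar form on codes -/
def pc (a b : Nat) : Nat := (qc (Nat.xor a b) + qc a + qc b) % 2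

/-- image of a code under the columns -/
def app (L : List Nat) (c : Nat) : Nat :=
  (List.range 6).foldl (fun r k => bif Nat.testBit c k then Nat.xor r (L.getD k 0) else r) 0

/-- product of column lists -/
def mulL (A B : List Nat) : List Nat := B.map (app A)

/-- the identity -/
def idL : List Nat := [1, 2, 4, 8, 16, 32]

/-- a generator -/
def gn (i : Nat) : List Nat := gens.getD i []

/-- the product of a word -/
def wp (w : List Nat) : List Nat := w.foldr (fun i acc => mulL (gn i) acc) idL

/-- conjugate by a generator -/
def conjL (i : Nat) (A : List Nat) : List Nat := mulL (mulL (gn i) A) (ginvs.getD i [])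

/-- letters of a word -/
def wlt (w : List Nat) : Bool := w.all fun i => Nat.blt i 2

/-- a column list of an isometry on all codes -/
def isoL (L : List Nat) : Bool :=
  Nat.beq L.length 6 && L.all (fun x => Nat.blt x 64) &&
    (List.range 64).all fun c => Nat.blt (app L c) 64 && Nat.beq (qc (app L c)) (qc c)

/-- the generators are squares of isometries -/
def genOK : Bool :=
  (List.range 2).all fun i =>
    isoL (roots.getD i []) && isoL (rinvs.getD i []) && isoL (gn i) && isoL (ginvs.getD i []) &&
      mulL (roots.getD i []) (rinvs.getD i []) == idL && mulL (rinvs.getD i []) (roots.getD i []) == idL &&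
      mulL (gn i) (ginvs.getD i []) == idL && mulL (ginvs.getD i []) (gn i) == idL && mulL (roots.getD i []) (roots.getD i []) == gn i

/-- an orbit chain -/
def chainOK : List Nat → List (Nat × List (List Nat)) → Bool
  | _, [] => true
  | done, (v, ws) :: rest =>
    Nat.blt v 64 && ws.all (fun w => wlt w && done.all fun d => Nat.beq (app (wp w) d) d) &&
      decide ((ws.map fun w => app (wp w) v).Nodup) && chainOK (v :: done) rest

/-- size of the chain -/
def chainSize : List (Nat × List (List Nat)) → Nat
  | [] => 1
  | (_, ws) :: rest => ws.length * chainSize rest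

/-- transitivity on singular codes -/
def singOK : Bool :=
  (List.range 64).all fun c => Nat.beq c 0 || Nat.beq (qc c) 1 ||
    sing.any fun e => Nat.beq e.1 c && wlt e.2 && Nat.beq (app (wp e.2) 1) c

/-- the singular codes are twenty-seven -/
def singCount : Bool :=
  Nat.beq ((List.range 64).filter fun c => !Nat.beq c 0 && Nat.beq (qc c) 0).length 27

/-- the Sylow subgroup: words -/
def sylWords : Bool :=
  syl.all fun e => wlt e.2.1 && wp e.2.1 == e.1

/-- the Sylow subgroup: closed and of order 64 -/
def sylClosed : Bool :=
  Nat.beq syl.length 64 && decide ((syl.map Prod.fst).Nodup) && (syl.any fun e => e.1 == idL) &&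
    syl.all fun a => syl.all fun b => syl.any fun c => c.1 == mulL a.1 b.1

/-- its involutions are conjugate to the two representatives -/
def sylInv : Bool :=
  syl.all fun e => e.1 == idL || !(mulL e.1 e.1 == idL) ||
    (wlt e.2.2.2 &&
      ((Nat.beq e.2.2.1 1 && mulL (wp e.2.2.2) e.1 == mulL sa (wp e.2.2.2)) ||
        (Nat.beq e.2.2.1 2 && mulL (wp e.2.2.2) e.1 == mulL sc (wp e.2.2.2))))

/-- a class -/
def clsOK (s : List Nat) (L : List (List Nat × List Nat)) : Bool :=
  decide ((L.map Prod.fst).Nodup) && (L.any fun e => e.1 == s) &&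
    L.all fun e => wlt e.2 && mulL (wp e.2) s == mulL e.1 (wp e.2) &&
      Nat.beq e.1.length 6 && e.1.all (fun x => Nat.blt x 64) &&
      (List.range 2).all fun i => L.any fun f => f.1 == conjL i e.1

/-- the classes differ -/
def clsSep : Bool :=
  Nat.beq clsA.length 45 && Nat.beq clsC.length 270 && clsA.all fun e => !(e.1 == sc)

/-- the representatives are products -/
def repOK : Bool :=
  wlt swA && wlt swC && wp swA == sa && wp swC == sc && mulL sa sa == idL && mulL sc sc == idL && !(sa == idL) &&
    !(sc == idL) && Nat.beq (app sc 1) 1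

/-- a candidate trivial around the first point -/
def cand (b v : Nat) : List Nat :=
  [1, Nat.xor 2 (bit b 0), v, Nat.xor 8 (bit b 1), Nat.xor 16 (bit b 2), Nat.xor 32 (bit b 3)]

/-- the candidate preserves the form on the standard vectors -/
def candIso (L : List Nat) : Bool :=
  (List.range 6).all fun i => Nat.beq (qc (L.getD i 0)) (qc (Nat.shiftLeft 1 i)) &&
    (List.range 6).all fun j => Nat.beq (pc (L.getD i 0) (L.getD j 0)) (pc (Nat.shiftLeft 1 i) (Nat.shiftLeft 1 j))

/-- all candidates are listed -/
def radComplete : Bool :=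
  (List.range 16).all fun b => (List.range 64).all fun v =>
    !(candIso (cand b v)) || rad.any fun e => e.1 == cand b v

/-- the listed ones -/
def radOK : Bool :=
  decide ((rad.map Prod.fst).Nodup) && Nat.beq rad.length 16 &&
    Nat.beq (rad.filter fun e => Nat.beq e.2.1 2).length 10 &&
    (rad.any fun e => e.1 == sc && Nat.beq e.2.1 2) && (rad.any fun e => Nat.beq e.2.1 1) &&
    (rad.all fun e => Nat.beq e.1.length 6 && e.1.all fun x => Nat.blt x 64) &&
    rad.all fun e => (e.1 == idL && Nat.beq e.2.1 0) ||
      (wlt e.2.2 && Nat.beq (app (wp e.2.2) 1) 1 &&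
        ((Nat.beq e.2.1 1 && mulL (wp e.2.2) e.1 == mulL sa (wp e.2.2)) ||
          (Nat.beq e.2.1 2 && mulL (wp e.2.2) e.1 == mulL sc (wp e.2.2))))

/-- the singular vectors orthogonal to the first point, modulo it -/
def singPerp : Bool :=
  Nat.beq ((List.range 64).filter fun v =>
    !Nat.beq v 0 && Nat.beq (bit v 0) 0 && Nat.beq (pc 1 v) 0 && Nat.beq (qc v) 0).length 5

/-- no invariant line through the first point -/
def lineOK : Bool :=
  (List.range 64).all fun v => Nat.ble v 1 || Nat.beq (pc 1 v) 1 || Nat.beq (qc v) 1 ||
    line.any fun e => Nat.beq e.1 v && wlt e.2 && Nat.beq (app (wp e.2) 1) 1 &&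
      (let m := app (wp e.2) v; !Nat.beq m 0 && !Nat.beq m 1 && !Nat.beq m v && !Nat.beq m (Nat.xor v 1))

/-- a code of the commutator space -/
def inW (s : List Nat) (v : Nat) : Bool := (List.range 64).any fun c => Nat.beq (Nat.xor (app s c) c) v

/-- a fixed code -/
def inC (s : List Nat) (v : Nat) : Bool := Nat.beq (app s v) v

/-- a rotation of an involution -/
def rotOK (s : List Nat) (g : List Nat) : Bool :=
  wlt g && mulL (wp g) s == mulL s (wp g) && (List.range 64).all fun v => !(inC s v) ||
    (inW s (Nat.xor (Nat.xor v (app (wp g) v)) (app (wp g) (app (wp g) v))) &&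
      (inW s v || (Nat.beq (pc v (app (wp g) v)) 1 && (List.range 64).all fun w => !(inC s w) ||
        (inW s w || inW s (Nat.xor w v) || inW s (Nat.xor w (app (wp g) v)) ||
          inW s (Nat.xor w (app (wp g) (app (wp g) v)))))))

/-- vectors giving an involution over the second representative -/
def existOK : Bool :=
  [e1, e2, e3].all (fun v => Nat.blt v 64 && Nat.beq (app sc v) (Nat.xor v 1) && Nat.beq (pc 1 v) 0) &&
    Nat.beq ((pc e1 e2 + pc e2 e3 + pc e1 e3) % 2) 1

/-- a noncommuting pair in the fixed space of the second representative -/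
def pairOK : Bool :=
  Nat.blt w1 64 && Nat.blt w2 64 && Nat.blt u0 64 && inC sc w1 && inC sc w2 && inW sc u0 && Nat.beq (qc u0) 1 &&
    Nat.beq (pc w1 w2) 1 && Nat.beq (pc w1 u0) 0 && Nat.beq (pc w2 u0) 0

/-- the centraliser of the second representative -/
def cenOK : Bool :=
  Nat.beq cen.length 96 && decide ((cen.map wp).Nodup) &&
    cen.all fun w => wlt w && mulL (wp w) sc == mulL sc (wp w)

/-- elements fixing a pair -/
def fixL (a b : Nat) : List (List Nat) :=
  (cen.map wp).filter fun g => Nat.beq (app g a) a && Nat.beq (app g b) b && mulL (mulL g g) (mulL g g) == idL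

/-- they commute -/
def fixOK : Bool :=
  [w1, Nat.xor w1 u0].all fun a => [w2, Nat.xor w2 u0].all fun b =>
    (fixL a b).all fun g => (fixL a b).all fun h => mulL g h == mulL h g

end Cfsg.Agent.Spor.SuzT.Chk
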