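import Cfsg.Agent.Lib.Spor.SuzTypeGroup

/-!
The facts on the commutator subgroup of the isometry group used for groups of Suzuki sporadic type.
-/

set_option autoImplicit false
set_option maxRecDepth 100000
set_option linter.unusedSectionVars false

namespace Cfsg.Agent.Spor.SuzT

open Chk Dat Cfsg.Agent.Classical

/-- the first representative -/
noncomputable def sA : Ga := we swA

/-- the second representative -/
noncomputable def sC : Ga := we swC

theorem rep_spec : IsCols (sA : OG) sa ∧ IsCols (sC : OG) sc ∧ sA * sA = 1 ∧ sC * sC = 1 ∧ sA ≠ 1 ∧ sC ≠ 1 ∧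
    sC • e0 = e0 := by
  have h := rep_ok
  simp only [repOK, Bool.and_eq_true, beq_iff_eq, Bool.not_eq_true', beq_eq_false_iff_ne, ne_eq] at h
  obtain ⟨⟨⟨⟨⟨⟨⟨⟨ha, hc⟩, ea⟩, ec⟩, a2⟩, c2⟩, a1⟩, c1⟩, hx⟩ := h
  have hA : IsCols (sA : OG) sa := ea ▸ we_cols ha
  have hC : IsCols (sC : OG) sc := ec ▸ we_cols hc
  refine ⟨hA, hC, Subtype.ext ((hA.mul hA).ext (a2 ▸ IsCols.one)), Subtype.ext ((hC.mul hC).ext (c2 ▸ IsCols.one)),
    fun e => a1 (hA.unique (by rw [e]; exact IsCols.one)), fun e => c1 (hC.unique (by rw [e]; exact IsCols.one)), ?_⟩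
  show (sC : OG).1 (vec 1) = vec 1
  rw [← vec_enc ((sC : OG).1 (vec 1)), hC.2, enc_vec 1 (by norm_num), Nat.eq_of_beq_eq_true hx]

theorem not_conj : ¬ IsConj sA sC := by
  intro h
  obtain ⟨e, he, hx⟩ := (cls_spec clsA_ok rep_spec.1).2 sC h
  have hs := cls_sep
  simp only [clsSep, Bool.and_eq_true, List.all_eq_true, Bool.not_eq_true', beq_eq_false_iff_ne, ne_eq] at hs
  exact hs.2 e he (hx.unique rep_spec.2.1)

theorem card_conj_mul (g : Ga) : Nat.card (conjugatesOf g) * Nat.card (Subgroup.centralizer ({g} : Set Ga)) = 25920 := by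
  have h := MulAction.index_stabilizer (ConjAct Ga) g
  have ho : MulAction.orbit (ConjAct Ga) g = conjugatesOf g := by
    ext x
    exact ⟨fun ⟨c, hc⟩ => isConj_iff.mpr ⟨ConjAct.ofConjAct c, hc⟩, fun hx => by
      obtain ⟨c, hc⟩ := isConj_iff.mp hx
      exact ⟨ConjAct.toConjAct c, hc⟩⟩
  rw [ho, ← Nat.card_coe_set_eq] at h
  have e : Nat.card (MulAction.stabilizer (ConjAct Ga) g) = Nat.card (Subgroup.centralizer ({g} : Set Ga)) := by
    refine Nat.card_congr (Equiv.subtypeEquiv ConjAct.ofConjAct.toEquiv fun c => ?_)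
    rw [Subgroup.mem_centralizer_singleton_iff, MulAction.mem_stabilizer_iff, ConjAct.smul_def, mul_inv_eq_iff_eq_mul]
    exact Iff.rfl
  have hc := Subgroup.card_mul_index (MulAction.stabilizer (ConjAct Ga) g)
  rw [h, e, show Nat.card (ConjAct Ga) = Nat.card Ga from rfl, card_Ga, mul_comm] at hc
  exact hc

theorem card_cents :
    Nat.card (Subgroup.centralizer ({sA} : Set Ga)) = 576 ∧ Nat.card (Subgroup.centralizer ({sC} : Set Ga)) = 96 := by
  have hs := cls_sep
  simp only [clsSep, Bool.and_eq_true] at hs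
  have hA : clsA.length = 45 := Nat.eq_of_beq_eq_true hs.1.1
  have hC : clsC.length = 270 := Nat.eq_of_beq_eq_true hs.1.2
  have h1 := card_conj_mul sA
  have h2 := card_conj_mul sC
  rw [(cls_spec clsA_ok rep_spec.1).1, hA] at h1
  rw [(cls_spec clsC_ok rep_spec.2.1).1, hC] at h2
  omega

theorem invol_class {s : Ga} (h : s * s = 1) (h1 : s ≠ 1) : IsConj s sA ∨ IsConj s sC := by
  haveI : Fact (Nat.Prime 2) := ⟨Nat.prime_two⟩
  obtain ⟨P, hP⟩ := exists_sylow
  have hp : IsPGroup 2 (Subgroup.zpowers s) := by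
    refine IsPGroup.of_card (n := 1) ?_
    rw [Nat.card_zpowers, pow_one]
    exact orderOf_eq_prime (by rw [pow_two, h]) h1
  obtain ⟨S, hS⟩ := hp.exists_le_sylow
  obtain ⟨c, hc⟩ := MulAction.exists_smul_eq Ga S P
  have hmem : c * s * c⁻¹ ∈ (P : Subgroup Ga) := by
    rw [← hc]
    exact ⟨s, hS (Subgroup.mem_zpowers s), rfl⟩
  obtain ⟨e, he, hcols⟩ := (hP _).mp hmem
  have hs := syl_inv
  simp only [sylInv, List.all_eq_true, Bool.or_eq_true, Bool.and_eq_true, beq_iff_eq, Bool.not_eq_true',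
    beq_eq_false_iff_ne, ne_eq] at hs
  have hsq : c * s * c⁻¹ * (c * s * c⁻¹) = 1 := by rw [conj_mul, h]; group
  have hne : c * s * c⁻¹ ≠ 1 := fun e => h1 (conj_eq_one_iff.mp e)
  have hconj : IsConj s (c * s * c⁻¹) := isConj_iff.mpr ⟨c, rfl⟩
  rcases hs e he with (h' | h') | ⟨hw, h'⟩
  · exact absurd (Subtype.ext (hcols.ext (h' ▸ IsCols.one))) hne
  · exact absurd ((hcols.mul hcols).unique (by rw [← Subgroup.coe_mul, hsq]; exact IsCols.one)) h'
  · rcases h' with ⟨-, h'⟩ | ⟨-, h'⟩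
    · exact Or.inl (hconj.trans (isConj_iff.mpr ⟨_, conj_we hw hcols rep_spec.1 h'⟩))
    · exact Or.inr (hconj.trans (isConj_iff.mpr ⟨_, conj_we hw hcols rep_spec.2.1 h'⟩))

theorem no_five {s p : Ga} (hs : s * s = 1) (hs1 : s ≠ 1) (hp : p ^ 5 = 1) (hc : Commute p s) : p = 1 := by
  have key : ∀ t : Ga, (Nat.card (Subgroup.centralizer ({t} : Set Ga))).Coprime 5 → ∀ q : Ga, q ^ 5 = 1 →
      Commute q t → q = 1 := fun t ht q hq hqt => by
    have h2 : (⟨q, Subgroup.mem_centralizer_singleton_iff.mpr hqt.eq⟩ : Subgroup.centralizer ({t} : Set Ga)) ^ 5 = 1 :=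
      Subtype.ext (by simpa using hq)
    have h3 := orderOf_dvd_of_pow_eq_one h2
    have h4 := orderOf_dvd_natCard (⟨q, Subgroup.mem_centralizer_singleton_iff.mpr hqt.eq⟩ : Subgroup.centralizer ({t} : Set Ga))
    exact congrArg Subtype.val (orderOf_eq_one_iff.mp (Nat.eq_one_of_dvd_coprimes ht h4 h3))
  rcases invol_class hs hs1 with h | h <;> obtain ⟨c, hc'⟩ := isConj_iff.mp h
  · have := key sA (by rw [card_cents.1]; norm_num) (c * p * c⁻¹) (by rw [conj_pow, hp]; group)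
      (hc' ▸ (Commute.conj_iff c).mpr hc)
    exact conj_eq_one_iff.mp this
  · have := key sC (by rw [card_cents.2]; norm_num) (c * p * c⁻¹) (by rw [conj_pow, hp]; group)
      (hc' ▸ (Commute.conj_iff c).mpr hc)
    exact conj_eq_one_iff.mp this

/-- trivial around the first point -/
def RadAt (g : Ga) : Prop := g • e0 = e0 ∧ ∀ v, pol e0 v = 0 → g • v = v ∨ g • v = v + e0

theorem enc_smul {g : Ga} {L : List ℕ} (h : IsCols (g : OG) L) (v : V) : enc (g • v) = app L (enc v) := h.2 v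

theorem rad_units : ∀ k < 6, k ≠ 2 → pol e0 (vec (2 ^ k)) = 0 := by decide +kernel

theorem rad_cols {g : Ga} (h : RadAt g) : ∃ e ∈ rad, IsCols (g : OG) e.1 := by
  have h0 : enc ((g : OG).1 (vec (2 ^ 0))) = 1 := by
    show enc (g • e0) = 1
    rw [h.1]; exact e0_facts.2.2
  have hk : ∀ k < 6, k ≠ 2 → enc ((g : OG).1 (vec (2 ^ k))) = 2 ^ k ∨ enc ((g : OG).1 (vec (2 ^ k))) = Nat.xor (2 ^ k) 1 := by
    intro k hk hk2
    have hlt : 2 ^ k < 64 := Nat.pow_lt_pow_right (by norm_num) hk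
    rcases h.2 _ (rad_units k hk hk2) with e | e
    · exact Or.inl (by rw [← smul_def, e, enc_vec _ hlt])
    · exact Or.inr (by rw [← smul_def, e, enc_add, enc_vec _ hlt, e0_facts.2.2])
  let L := cols (g : OG)
  have hbit : ∃ b < 16, L = cand b (enc ((g : OG).1 (vec (2 ^ 2)))) := by
    let f : ℕ → ℕ := fun k => if enc ((g : OG).1 (vec (2 ^ k))) = 2 ^ k then 0 else 1
    refine ⟨f 1 + 2 * f 3 + 4 * f 4 + 8 * f 5, by simp only [f]; split_ifs <;> norm_num, ?_⟩
    have h1 := hk 1 (by norm_num) (by norm_num)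
    have h3 := hk 3 (by norm_num) (by norm_num)
    have h4 := hk 4 (by norm_num) (by norm_num)
    have h5 := hk 5 (by norm_num) (by norm_num)
    show cols (g : OG) = _
    simp only [cols, List.range_succ, List.range_zero, List.nil_append, List.cons_append, List.map_cons,
      List.map_nil, h0, f]
    generalize enc ((g : OG).1 (vec (2 ^ 1))) = a1 at h1 ⊢
    generalize enc ((g : OG).1 (vec (2 ^ 3))) = a3 at h3 ⊢
    generalize enc ((g : OG).1 (vec (2 ^ 4))) = a4 at h4 ⊢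
    generalize enc ((g : OG).1 (vec (2 ^ 5))) = a5 at h5 ⊢
    rcases h1 with rfl | rfl <;> rcases h3 with rfl | rfl <;> rcases h4 with rfl | rfl <;> rcases h5 with rfl | rfl <;>
      rfl
  obtain ⟨b, hb, hL⟩ := hbit
  have hr := rad_complete
  simp only [radComplete, List.all_eq_true, List.mem_range, Bool.or_eq_true, Bool.not_eq_true', List.any_eq_true,
    beq_iff_eq] at hr
  rcases hr b hb _ (enc_lt _) with hf | ⟨e, he, ee⟩
  · exfalso
    have : candIso L = true := by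
      simp only [candIso, List.all_eq_true, List.mem_range, Bool.and_eq_true]
      intro i hi
      have es : ∀ k, Nat.shiftLeft 1 k = 2 ^ k := fun k => (Nat.shiftLeft_eq 1 k).trans (one_mul _)
      have hi' : 2 ^ i < 64 := Nat.pow_lt_pow_right (by norm_num) hi
      refine ⟨Nat.beq_eq ▸ ?_, fun j hj => ?_⟩
      · have hq := iso_q (g : OG) (vec (2 ^ i))
        rw [qm_enc, qm_enc (vec (2 ^ i)), enc_vec _ hi', ← (isCols_cols (g : OG)).getD hi] at hq
        rw [es]
        exact (ZMod.natCast_eq_natCast_iff' _ _ 2).mp hq |> fun e => by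
          rwa [Nat.mod_eq_of_lt (qc_lt _), Nat.mod_eq_of_lt (qc_lt _)] at e
      · have hj' : 2 ^ j < 64 := Nat.pow_lt_pow_right (by norm_num) hj
        have hp := iso_pol (g : OG) (vec (2 ^ i)) (vec (2 ^ j))
        rw [pol_enc, pol_enc, enc_vec _ hi', enc_vec _ hj', ← (isCols_cols (g : OG)).getD hi,
          ← (isCols_cols (g : OG)).getD hj] at hp
        rw [es, es]
        have hp' := (ZMod.natCast_eq_natCast_iff' _ _ 2).mp hp
        have hl : ∀ a b, pc a b < 2 := fun a b => Nat.mod_lt _ (by norm_num)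
        rw [Nat.mod_eq_of_lt (hl _ _), Nat.mod_eq_of_lt (hl _ _)] at hp'
        exact hp' ▸ Nat.beq_refl _
    rw [hL, hf] at this
    cases this
  · exact ⟨e, he, by rw [ee, ← hL]; exact isCols_cols _⟩

theorem rad_class {g : Ga} (h : RadAt g) :
    g = 1 ∨ (∃ c ∈ St, c * g * c⁻¹ = sA) ∨ ∃ c ∈ St, c * g * c⁻¹ = sC := by
  obtain ⟨e, he, hg⟩ := rad_cols h
  have hr := rad_ok
  simp only [radOK, Bool.and_eq_true, List.all_eq_true, Bool.or_eq_true, beq_iff_eq] at hr
  rcases hr.2 e he with ⟨h1, -⟩ | ⟨⟨hw, hfix⟩, h'⟩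
  · exact Or.inl (Subtype.ext (hg.ext (h1 ▸ IsCols.one)))
  · have hst : we e.2.2 ∈ St := by
      rw [MulAction.mem_stabilizer_iff, e0, we_smul hw (by norm_num), Nat.eq_of_beq_eq_true hfix]
    rcases h' with ⟨-, h'⟩ | ⟨-, h'⟩
    · exact Or.inr (Or.inl ⟨_, hst, conj_we hw hg rep_spec.1 h'⟩)
    · exact Or.inr (Or.inr ⟨_, hst, conj_we hw hg rep_spec.2.1 h'⟩)

theorem ten : ∃ S : Finset Ga, S.card = 10 ∧ ∀ r ∈ S, ∃ c ∈ St, c * r * c⁻¹ = sC := by
  classical
  have hr := rad_ok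
  simp only [radOK, Bool.and_eq_true, List.all_eq_true, Bool.or_eq_true, beq_iff_eq, decide_eq_true_eq] at hr
  obtain ⟨⟨⟨⟨⟨⟨hnd, -⟩, h10⟩, -⟩, -⟩, hwf⟩, hall⟩ := hr
  set F := rad.filter fun e => Nat.beq e.2.1 2
  let f : List ℕ × ℕ × List ℕ → Ga := fun e => (we e.2.2)⁻¹ * sC * we e.2.2
  have hF : ∀ e ∈ F, we e.2.2 ∈ St ∧ IsCols (f e : OG) e.1 := by
    intro e he
    obtain ⟨he', h2⟩ := List.mem_filter.mp he
    have h2' : e.2.1 = 2 := Nat.eq_of_beq_eq_true h2
    rcases hall e he' with ⟨-, h0⟩ | ⟨⟨hw, hfix⟩, h'⟩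
    · exact absurd (Nat.eq_of_beq_eq_true h0) (by omega)
    refine ⟨by rw [MulAction.mem_stabilizer_iff, e0, we_smul hw (by norm_num), Nat.eq_of_beq_eq_true hfix], ?_⟩
    rcases h' with ⟨h1, -⟩ | ⟨-, h'⟩
    · exact absurd (Nat.eq_of_beq_eq_true h1) (by omega)
    refine IsCols.of_mul_left (Nat.eq_of_beq_eq_true (hwf e he').1)
      (fun a ha => Nat.le_of_ble_eq_true ((hwf e he').2 a ha)) (we_cols hw) ?_
    rw [← Subgroup.coe_mul, show we e.2.2 * f e = sC * we e.2.2 by simp only [f]; group, h']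
    exact rep_spec.2.1.mul (we_cols hw)
  refine ⟨(F.map f).toFinset, ?_, fun r hr => ?_⟩
  · rw [List.toFinset_card_of_nodup, List.length_map]
    · exact Nat.eq_of_beq_eq_true h10
    · refine List.Nodup.of_map (fun r : Ga => cols (r : OG)) ?_
      rw [List.map_map, show F.map ((fun r : Ga => cols (r : OG)) ∘ f) = F.map Prod.fst from
        List.map_congr_left fun e he => ((hF e he).2.eq_cols).symm]
      exact hnd.sublist (List.filter_sublist.map _)
  · obtain ⟨e, he, rfl⟩ := List.mem_map.mp (List.mem_toFinset.mp hr)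
    exact ⟨_, (hF e he).1, by simp only [f]; group⟩

theorem line {v : V} (hp : pol e0 v = 0) (hq : qm v = 0) (h0 : v ≠ 0) (h1 : v ≠ e0) :
    ∃ c ∈ St, c • v ≠ 0 ∧ c • v ≠ e0 ∧ c • v ≠ v ∧ c • v ≠ v + e0 := by
  have h := List.all_eq_true.mp line_ok (enc v) (List.mem_range.mpr (enc_lt v))
  simp only [Bool.or_eq_true, Bool.and_eq_true, List.any_eq_true, Bool.not_eq_true'] at h
  rcases h with ((h | h) | h) | ⟨e, -, ⟨⟨hev, hw⟩, hf⟩, ⟨⟨m0, m1⟩, mv⟩, mv1⟩
  · have := Nat.le_of_ble_eq_true h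
    rcases Nat.le_one_iff_eq_zero_or_eq_one.mp this with e | e
    · exact absurd (enc_injective (e.trans enc_zero.symm)) h0
    · exact absurd (enc_injective (e.trans e0_facts.2.2.symm)) h1
  · have hp' := pol_eq_zero.mp hp
    rw [e0_facts.2.2] at hp'
    have := Nat.eq_of_beq_eq_true h
    omega
  · have := Nat.eq_of_beq_eq_true h
    have := qm_eq_zero.mp hq
    omega
  refine ⟨we e.2, by rw [MulAction.mem_stabilizer_iff, e0, we_smul hw (by norm_num), Nat.eq_of_beq_eq_true hf], ?_⟩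
  have hm : enc (we e.2 • v) = app (wp e.2) (enc v) := enc_smul (we_cols hw) v
  refine ⟨fun e' => ?_, fun e' => ?_, fun e' => ?_, fun e' => ?_⟩ <;> rw [e'] at hm
  · rw [← hm, enc_zero, Nat.beq_refl] at m0; cases m0
  · rw [← hm, e0_facts.2.2, Nat.beq_refl] at m1; cases m1
  · rw [← hm, Nat.beq_refl] at mv; cases mv
  · rw [← hm, enc_add, e0_facts.2.2, Nat.beq_refl] at mv1; cases mv1

/-- the commutator space -/
def InW (s : Ga) (v : V) : Prop := ∃ u, s • u + u = v

theorem inW_iff {s : Ga} {L : List ℕ} (h : IsCols (s : OG) L) (v : V) : InW s v ↔ inW L (enc v) = true := by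
  simp only [inW, List.any_eq_true, List.mem_range]
  constructor
  · rintro ⟨u, rfl⟩
    refine ⟨enc u, enc_lt u, ?_⟩
    rw [enc_add, enc_smul h, Nat.beq_refl]
  · rintro ⟨c, hc, e⟩
    refine ⟨vec c, enc_injective ?_⟩
    rw [enc_add, enc_smul h, enc_vec c hc]
    exact Nat.eq_of_beq_eq_true e

theorem inC_iff {s : Ga} {L : List ℕ} (h : IsCols (s : OG) L) (v : V) : s • v = v ↔ inC L (enc v) = true := by
  rw [inC, ← enc_smul h]
  exact ⟨fun e => by rw [e]; exact Nat.beq_refl _, fun e => enc_injective (Nat.eq_of_beq_eq_true e)⟩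

/-- a rotation of an involution -/
structure Rot (s g : Ga) : Prop where
  comm : Commute g s
  sum : ∀ v, s • v = v → InW s (v + g • v + g • g • v)
  pol_one : ∀ v, s • v = v → ¬ InW s v → pol v (g • v) = 1
  cover : ∀ v, s • v = v → ¬ InW s v → ∀ w, s • w = w →
    InW s w ∨ InW s (w + v) ∨ InW s (w + g • v) ∨ InW s (w + g • g • v)

theorem rot_of {s : Ga} {L gw : List ℕ} (hs : IsCols (s : OG) L) (h : rotOK L gw = true) : Rot s (we gw) := by
  simp only [rotOK, Bool.and_eq_true, beq_iff_eq, List.all_eq_true, List.mem_range, Bool.or_eq_true,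
    Bool.not_eq_true'] at h
  obtain ⟨⟨hw, hcm⟩, hall⟩ := h
  have hg := we_cols hw
  have hC : ∀ v, s • v = v → inC L (enc v) = true := fun v => (inC_iff hs v).mp
  have e1 : ∀ v, enc (we gw • v) = app (wp gw) (enc v) := enc_smul hg
  refine ⟨Subtype.ext ((hg.mul hs).ext (hcm ▸ hs.mul hg)), fun v hv => ?_, fun v hv hW => ?_, fun v hv hW w hw' => ?_⟩
  · rcases hall _ (enc_lt v) with h | h
    · rw [hC v hv] at h; cases h
    · rw [inW_iff hs, enc_add, enc_add, e1, e1, e1]; exact h.1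
  · rcases hall _ (enc_lt v) with h | h
    · rw [hC v hv] at h; cases h
    · rcases h.2 with h2 | h2
      · exact absurd ((inW_iff hs v).mpr h2) hW
      · rw [pol_enc, e1, Nat.eq_of_beq_eq_true h2.1, Nat.cast_one]
  · rcases hall _ (enc_lt v) with h | h
    · rw [hC v hv] at h; cases h
    · rcases h.2 with h2 | h2
      · exact absurd ((inW_iff hs v).mpr h2) hW
      · rcases h2.2 _ (enc_lt w) with h3 | h3
        · rw [hC w hw'] at h3; cases h3
        · rw [inW_iff hs, inW_iff hs, inW_iff hs, inW_iff hs, enc_add, enc_add, enc_add, e1, e1, e1]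
          tauto

theorem rot_exists {s : Ga} (hs : s = sA ∨ s = sC) : ∃ g, Rot s g := by
  rcases hs with rfl | rfl
  exacts [⟨_, rot_of rep_spec.1 rotA_ok⟩, ⟨_, rot_of rep_spec.2.1 rotC_ok⟩]

theorem exist_vecs : ∃ a b c : V, (∀ v ∈ [a, b, c], pol e0 v = 0 ∧ sC • v = v + e0) ∧
    pol a b + pol b c + pol a c = 1 := by
  have h := exist_ok
  simp only [existOK, Bool.and_eq_true, List.all_eq_true] at h
  obtain ⟨hall, hsum⟩ := h
  have key : ∀ n ∈ [e1, e2, e3], n < 64 ∧ pol e0 (vec n) = 0 ∧ sC • vec n = vec n + e0 := by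
    intro n hn
    obtain ⟨⟨hlt, hs⟩, hp⟩ := hall n hn
    have hlt' : n < 64 := Nat.le_of_ble_eq_true hlt
    refine ⟨hlt', ?_, enc_injective ?_⟩
    · rw [pol_enc, e0_facts.2.2, enc_vec n hlt', Nat.eq_of_beq_eq_true hp, Nat.cast_zero]
    · rw [enc_smul rep_spec.2.1, enc_vec n hlt', Nat.eq_of_beq_eq_true hs, enc_add, e0_facts.2.2, enc_vec n hlt']
  refine ⟨vec e1, vec e2, vec e3, ?_, ?_⟩
  · intro v hv
    simp only [List.mem_cons, List.not_mem_nil, or_false] at hv
    rcases hv with rfl | rfl | rfl <;> exact (key _ (by simp)).2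
  · rw [pol_enc, pol_enc, pol_enc, enc_vec _ (key _ (by simp)).1, enc_vec _ (key _ (by simp)).1,
      enc_vec _ (key _ (by simp)).1, ← Nat.cast_add, ← Nat.cast_add, ← ZMod.natCast_mod,
      Nat.eq_of_beq_eq_true hsum, Nat.cast_one]

theorem pair_fix : ∃ a b u : V, sC • a = a ∧ sC • b = b ∧ InW sC u ∧ qm u = 1 ∧ pol a b = 1 ∧ pol a u = 0 ∧
    pol b u = 0 ∧ ∀ a' ∈ [a, a + u], ∀ b' ∈ [b, b + u], ∀ g h : Ga, Commute g sC → Commute h sC →
      g • a' = a' → g • b' = b' → h • a' = a' → h • b' = b' → g ^ 4 = 1 → h ^ 4 = 1 → Commute g h := by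
  have hp := pair_ok
  simp only [pairOK, Bool.and_eq_true] at hp
  obtain ⟨⟨⟨⟨⟨⟨⟨⟨⟨h1, h2⟩, hu⟩, c1⟩, c2⟩, hW⟩, hq⟩, pab⟩, pau⟩, pbu⟩ := hp
  have h1' : w1 < 64 := Nat.le_of_ble_eq_true h1
  have h2' : w2 < 64 := Nat.le_of_ble_eq_true h2
  have hu' : u0 < 64 := Nat.le_of_ble_eq_true hu
  refine ⟨vec w1, vec w2, vec u0, ?_, ?_, ?_, ?_, ?_, ?_, ?_, ?_⟩
  · rw [inC_iff rep_spec.2.1, enc_vec _ h1']; exact c1
  · rw [inC_iff rep_spec.2.1, enc_vec _ h2']; exact c2
  · rw [inW_iff rep_spec.2.1, enc_vec _ hu']; exact hW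
  · rw [qm_enc, enc_vec _ hu', Nat.eq_of_beq_eq_true hq, Nat.cast_one]
  · rw [pol_enc, enc_vec _ h1', enc_vec _ h2', Nat.eq_of_beq_eq_true pab, Nat.cast_one]
  · rw [pol_enc, enc_vec _ h1', enc_vec _ hu', Nat.eq_of_beq_eq_true pau, Nat.cast_zero]
  · rw [pol_enc, enc_vec _ h2', enc_vec _ hu', Nat.eq_of_beq_eq_true pbu, Nat.cast_zero]
  have hc := cen_ok
  simp only [cenOK, Bool.and_eq_true, List.all_eq_true, decide_eq_true_eq, beq_iff_eq] at hc
  obtain ⟨⟨hlen, hnd⟩, hall⟩ := hc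
  have hlist : ∀ g : Ga, Commute g sC → ∃ w ∈ cen, we w = g := by
    intro g hg
    let f : Fin cen.length → Subgroup.centralizer ({sC} : Set Ga) := fun k =>
      ⟨we cen[k.1], Subgroup.mem_centralizer_singleton_iff.mpr (by
        obtain ⟨hw, he⟩ := hall _ (List.getElem_mem k.2)
        exact Subtype.ext (((we_cols hw).mul rep_spec.2.1).ext (he ▸ rep_spec.2.1.mul (we_cols hw))))⟩
    have hinj : Function.Injective f := fun x y e => by
      have e' : we cen[x.1] = we cen[y.1] := congrArg Subtype.val e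
      have := (we_cols (hall _ (List.getElem_mem x.2)).1).unique (e'.symm ▸ we_cols (hall _ (List.getElem_mem y.2)).1)
      exact Fin.ext ((List.Nodup.getElem_inj_iff hnd (hi := by simp) (hj := by simp)).mp (by simpa using this))
    have hbij := hinj.bijective_of_nat_card_le (le_of_eq (by
      rw [card_cents.2, Nat.card_fin, Nat.eq_of_beq_eq_true hlen]))
    obtain ⟨k, hk⟩ := hbij.2 ⟨g, Subgroup.mem_centralizer_singleton_iff.mpr hg.eq⟩
    exact ⟨_, List.getElem_mem k.2, congrArg Subtype.val hk⟩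
  intro a' ha' b' hb' g h hg hh ga gb ha hb g4 h4
  obtain ⟨x, hx, rfl⟩ := hlist g hg
  obtain ⟨y, hy, rfl⟩ := hlist h hh
  have hf := fix_ok
  simp only [fixOK, List.all_eq_true, beq_iff_eq] at hf
  have haux : ∀ (p q : ℕ), p < 64 → q < 64 → ∀ z, z ∈ cen → we z • vec p = vec p → we z • vec q = vec q →
      we z ^ 4 = 1 → wp z ∈ fixL p q := by
    intro p q hp hq z hz zp zq z4
    have hw := (hall z hz).1
    simp only [fixL, List.mem_filter, List.mem_map, Bool.and_eq_true, beq_iff_eq]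
    refine ⟨⟨z, hz, rfl⟩, ⟨?_, ?_⟩, ?_⟩
    · rw [we_smul hw hp] at zp
      have := congrArg enc zp
      rw [enc_vec _ (by rw [← enc_vec p hp, ← enc_smul (we_cols hw)]; exact enc_lt _), enc_vec p hp] at this
      rw [this]; exact Nat.beq_refl _
    · rw [we_smul hw hq] at zq
      have := congrArg enc zq
      rw [enc_vec _ (by rw [← enc_vec q hq, ← enc_smul (we_cols hw)]; exact enc_lt _), enc_vec q hq] at this
      rw [this]; exact Nat.beq_refl _
    · refine (((we_cols hw).mul (we_cols hw)).mul ((we_cols hw).mul (we_cols hw))).unique ?_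
      rw [← Subgroup.coe_mul, ← Subgroup.coe_mul, show we z * we z * (we z * we z) = we z ^ 4 by simp [pow_succ, mul_assoc], z4]
      exact IsCols.one
  obtain ⟨p, hp, hp', rfl⟩ : ∃ p, p ∈ [w1, Nat.xor w1 u0] ∧ p < 64 ∧ vec p = a' := by
    simp only [List.mem_cons, List.not_mem_nil, or_false] at ha'
    rcases ha' with rfl | rfl
    · exact ⟨w1, by simp, h1', rfl⟩
    · exact ⟨Nat.xor w1 u0, by simp, Nat.xor_lt_two_pow (n := 6) h1' hu', vec_xor _ _⟩
  obtain ⟨q, hq, hq', rfl⟩ : ∃ q, q ∈ [w2, Nat.xor w2 u0] ∧ q < 64 ∧ vec q = b' := by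
    simp only [List.mem_cons, List.not_mem_nil, or_false] at hb'
    rcases hb' with rfl | rfl
    · exact ⟨w2, by simp, h2', rfl⟩
    · exact ⟨Nat.xor w2 u0, by simp, Nat.xor_lt_two_pow (n := 6) h2' hu', vec_xor _ _⟩
  have e := hf p hp q hq _ (haux p q hp' hq' x hx ga gb g4) _ (haux p q hp' hq' y hy ha hb h4)
  exact Subtype.ext (((we_cols (hall x hx).1).mul (we_cols (hall y hy).1)).ext
    (e ▸ (we_cols (hall y hy).1).mul (we_cols (hall x hx).1)))

theorem sing_perp :
    (Finset.univ.filter fun v : V => v ≠ 0 ∧ pol e0 v = 0 ∧ qm v = 0 ∧ v (.inl (.inl 0)) = 0).card = 5 := by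
  decide +kernel

set_option synthInstance.maxSize 4000 in
set_option synthInstance.maxHeartbeats 200000 in
theorem no_three : ∀ v w : V, qm v = 0 → qm w = 0 → pol e0 v = 0 → pol e0 w = 0 → pol v w = 0 →
    (v = 0 ∨ v = e0) ∨ (w = 0 ∨ w = e0 ∨ w = v ∨ w = v + e0) := by decide +kernel

theorem sc_shape : ∀ v : V, pol e0 v = 0 → app sc (enc v) = enc v ∨ app sc (enc v) = enc (v + e0) := by
  decide +kernel

theorem rad_sC : RadAt sC :=
  ⟨rep_spec.2.2.2.2.2.2, fun v hv => (sc_shape v hv).imp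
    (fun e => enc_injective ((enc_smul rep_spec.2.1 v).trans e))
    fun e => enc_injective ((enc_smul rep_spec.2.1 v).trans e)⟩

theorem rad_card : Nat.card {g : Ga // RadAt g} ≤ 16 := by
  have hr := rad_ok
  simp only [radOK, Bool.and_eq_true] at hr
  have hlen : rad.length = 16 := Nat.eq_of_beq_eq_true hr.1.1.1.1.1.2
  refine (Nat.card_le_card_of_injective
    (fun g : {g : Ga // RadAt g} => (⟨(rad_cols g.2).choose, (rad_cols g.2).choose_spec.1⟩ : {e // e ∈ rad})) ?_).trans ?_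
  · intro a b e
    have e' := congrArg (fun z : {e // e ∈ rad} => z.1.1) e
    simp only at e'
    exact Subtype.ext (Subtype.ext ((rad_cols a.2).choose_spec.2.ext (e' ▸ (rad_cols b.2).choose_spec.2)))
  · rw [← hlen]
    refine (Nat.card_le_card_of_surjective (fun k : Fin rad.length => (⟨rad[k.1], List.getElem_mem _⟩ : {e // e ∈ rad}))
      fun z => ?_).trans (le_of_eq (Nat.card_fin _))
    obtain ⟨i, hi, e⟩ := List.getElem_of_mem z.2
    exact ⟨⟨i, hi⟩, Subtype.ext e⟩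

theorem perp_card : (Finset.univ.filter fun v : V => pol e0 v = 0 ∧ v (.inl (.inl 0)) = 0).card = 16 := by
  decide +kernel

end Cfsg.Agent.Spor.SuzT
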