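import Cfsg.Agent.Lib.Spor.SuzTypeSiegel

/-!
Groups of Suzuki sporadic type: involutions over one class are conjugate in the centraliser up to the central
involution.
-/

set_option autoImplicit false
set_option maxRecDepth 100000
set_option linter.unusedSectionVars false

namespace Cfsg.Agent.Spor.SuzT

theorem pol_self : ∀ v : V, pol v v = 0 := by decide +kernel

universe u

variable {G : Type u} [Group G] [Finite G] {z : G} {Q : Subgroup G} (F : Frame z Q)
include F

/-- a vector of an element whose product with an involution is again one -/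
def Allowed (F : Frame z Q) (t : Subgroup.centralizer ({z} : Set G)) (v : V) : Prop :=
  ∃ q ∈ Q, F.vec q = v ∧ (t : G) * q * ((t : G) * q) = 1

/-- a vector of an element whose product with an involution is conjugate to it -/
def Reach (F : Frame z Q) (t : Subgroup.centralizer ({z} : Set G)) (v : V) : Prop :=
  ∃ c : Subgroup.centralizer ({z} : Set G), ∃ q ∈ Q, F.vec q = v ∧ (c : G) * t * (c : G)⁻¹ = (t : G) * q

/-- a translation-and-rotation from a conjugation -/
theorem step_mem {t d : Subgroup.centralizer ({z} : Set G)} (hd : Commute (F.π d) (F.π t)) :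
    (t : G)⁻¹ * ((d : G) * t * (d : G)⁻¹) ∈ Q := by
  refine (F.π_ker (t⁻¹ * (d * t * d⁻¹))).1 ?_
  rw [map_mul, map_inv, map_mul, map_mul, map_inv, hd.eq, mul_inv_cancel_right, inv_mul_cancel]

variable {t : Subgroup.centralizer ({z} : Set G)}

theorem allowed_step (h : Hyp z Q) {d : Subgroup.centralizer ({z} : Set G)} (hd : Commute (F.π d) (F.π t)) {v : V}
    (hv : Allowed F t v) :
    Allowed F t (F.vec ((t : G)⁻¹ * ((d : G) * t * (d : G)⁻¹)) + F.π d • v) := by
  obtain ⟨q, hq, rfl, hqq⟩ := hv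
  have hp := step_mem F hd
  have hc := h.norm d (mem_C.1 d.2) q hq
  refine ⟨_, mul_mem hp hc, by rw [F.vec_mul _ hp _ hc, F.vec_conj d q hq], ?_⟩
  rw [show (t : G) * ((t : G)⁻¹ * ((d : G) * t * (d : G)⁻¹) * ((d : G) * q * (d : G)⁻¹)) =
    (d : G) * ((t : G) * q) * (d : G)⁻¹ by group, conj_mul, hqq]
  group

theorem reach_step (h : Hyp z Q) {d : Subgroup.centralizer ({z} : Set G)} (hd : Commute (F.π d) (F.π t)) {v : V}
    (hv : Reach F t v) :
    Reach F t (F.vec ((t : G)⁻¹ * ((d : G) * t * (d : G)⁻¹)) + F.π d • v) := by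
  obtain ⟨c, q, hq, rfl, e⟩ := hv
  have hp := step_mem F hd
  have hc := h.norm d (mem_C.1 d.2) q hq
  refine ⟨d * c, _, mul_mem hp hc, by rw [F.vec_mul _ hp _ hc, F.vec_conj d q hq], ?_⟩
  show (d : G) * c * t * ((d : G) * c)⁻¹ = _
  rw [show (d : G) * c * t * ((d : G) * c)⁻¹ = (d : G) * ((c : G) * t * (c : G)⁻¹) * (d : G)⁻¹ by group, e]
  group

theorem reach_zero (h : Hyp z Q) : Reach F t 0 :=
  ⟨1, 1, one_mem Q, vec_one F h, by simp⟩

theorem allowed_zero (h : Hyp z Q) (htt : (t : G) * t = 1) : Allowed F t 0 :=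
  ⟨1, one_mem Q, vec_one F h, by simpa using htt⟩

theorem translate (h : Hyp z Q) (htt : (t : G) * t = 1) {w : V} (hw : InW (F.π t) w) {v : V} :
    (Allowed F t v → Allowed F t (v + w)) ∧ (Reach F t v → Reach F t (v + w)) := by
  obtain ⟨u, rfl⟩ := hw
  obtain ⟨l, hl, rfl⟩ := F.vec_surj u
  have hd : Commute (F.π (cC (Qz h hl))) (F.π t) := by rw [π_Q F h hl]; exact Commute.one_left _
  have hti : (t : G)⁻¹ = t := inv_eq_of_mul_eq_one_right htt
  have e : F.vec ((t : G)⁻¹ * ((cC (Qz h hl) : G) * t * (cC (Qz h hl) : G)⁻¹)) + F.π (cC (Qz h hl)) • v =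
      v + (F.π t • F.vec l + F.vec l) := by
    show F.vec ((t : G)⁻¹ * (l * (t : G) * l⁻¹)) + _ = _
    rw [π_Q F h hl, one_smul, show (t : G)⁻¹ * (l * (t : G) * l⁻¹) = (t : G) * l * (t : G)⁻¹ * l⁻¹ by
      rw [hti]; group, F.vec_mul _ (h.norm t (mem_C.1 t.2) l hl) _ (inv_mem hl), vec_inv F h hl,
      F.vec_conj t l hl, add_comm]
  exact ⟨fun ha => e ▸ allowed_step F h hd ha, fun ha => e ▸ reach_step F h hd ha⟩

theorem no_triple (h : Hyp z Q) (htt : (t : G) * t = 1) {v w : V} (hp : pol v w = 1) (hv : Allowed F t v)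
    (hw : Allowed F t w) : ¬ Allowed F t (v + w) := by
  rintro ⟨p, hp', hpv, hpp⟩
  obtain ⟨q, hq, rfl, hqq⟩ := hv
  obtain ⟨r, hr, rfl, hrr⟩ := hw
  have hti : (t : G)⁻¹ = t := inv_eq_of_mul_eq_one_right htt
  have inv : ∀ a : G, (t : G) * a * ((t : G) * a) = 1 → (t : G) * a * t = a⁻¹ := fun a e =>
    eq_inv_of_mul_eq_one_left (by rw [← e]; group)
  have hk : (t : G) * z * t = z := by
    rw [(mem_C.1 t.2).eq, mul_assoc, htt, mul_one]
  have hqr : (t : G) * (q * r) * t = (q * r)⁻¹ := by
    rcases vec_eq F hp' (mul_mem hq hr) h (hpv.trans (F.vec_mul q hq r hr).symm) with rfl | rfl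
    · exact inv _ hpp
    · have e := inv _ hpp
      rw [mul_inv_rev, inv_eq_of_mul_eq_one_right (zz h),
        show (t : G) * (q * r * z) * t = (t : G) * (q * r) * (t * t) * z * t by rw [htt]; group,
        show (t : G) * (q * r) * (t * t) * z * t = (t : G) * (q * r) * t * ((t : G) * z * t) by group, hk,
        ← (Qz h (inv_mem (mul_mem hq hr))).eq] at e
      exact mul_right_cancel e
  have hcom : q⁻¹ * r⁻¹ = r⁻¹ * q⁻¹ := by
    rw [← inv q hqq, ← inv r hrr, show (t : G) * q * t * ((t : G) * r * t) = (t : G) * q * (t * t) * r * t by group,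
      htt, show (t : G) * q * 1 * r * t = (t : G) * (q * r) * t by group, hqr, inv q hqq, inv r hrr, mul_inv_rev]
  have hc : Commute q r := by
    have := (show Commute q⁻¹ r⁻¹ from hcom).inv_inv
    simpa using this
  rw [(F.comm_iff q hq r hr).1 hc] at hp
  exact zero_ne_one hp

theorem reach_all (h : Hyp z Q) (htt : (t : G) * t = 1) (hs : F.π t = sA ∨ F.π t = sC) {v : V}
    (hv : Allowed F t v) (hfix : F.π t • v = v) : Reach F t v := by
  obtain ⟨g, hg⟩ := rot_exists hs
  obtain ⟨d, rfl⟩ := F.π_surj g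
  have hd : Commute (F.π d) (F.π t) := hg.comm
  set u0 := F.vec ((t : G)⁻¹ * ((d : G) * t * (d : G)⁻¹)) with hu0
  have ra : Reach F t u0 := by
    have := reach_step F h hd (reach_zero F h)
    rwa [smul_zero', add_zero] at this
  have rb : Reach F t (u0 + F.π d • u0) := reach_step F h hd ra
  have aa : Allowed F t u0 := by
    have := allowed_step F h hd (allowed_zero F h htt)
    rwa [smul_zero', add_zero] at this
  have ab : Allowed F t (u0 + F.π d • u0) := allowed_step F h hd aa
  have hp := step_mem F hd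
  have hfu : F.π t • u0 = u0 := by
    have hti : (t : G)⁻¹ = t := inv_eq_of_mul_eq_one_right htt
    set p := (t : G)⁻¹ * ((d : G) * t * (d : G)⁻¹) with hpdef
    have e : (t : G) * p * ((t : G) * p) = 1 := by
      rw [hpdef, show (t : G) * ((t : G)⁻¹ * ((d : G) * t * (d : G)⁻¹)) = (d : G) * t * (d : G)⁻¹ by group, conj_mul,
        htt]
      group
    have e' : (t : G) * p * (t : G)⁻¹ = p⁻¹ := by
      rw [hti]; exact eq_inv_of_mul_eq_one_left (by rw [← e]; group)
    rw [hu0, ← F.vec_conj t p hp, e', vec_inv F h hp]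
  have tr : ∀ {a b : V}, InW (F.π t) (a + b) → (Allowed F t a → Allowed F t b) ∧ (Reach F t a → Reach F t b) := by
    intro a b hab
    have := translate F h htt hab (v := a)
    rwa [← add_assoc, ZModModule.add_self, zero_add] at this
  by_cases hW : InW (F.π t) u0
  · by_cases hvW : InW (F.π t) v
    · have := (translate F h htt hvW (v := 0)).2 (reach_zero F h)
      rwa [zero_add] at this
    exfalso
    have a1 : Allowed F t (F.π d • v) :=
      (tr (a := u0 + F.π d • v) (by rwa [add_assoc, ZModModule.add_self, add_zero])).1 (allowed_step F h hd hv)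
    have a2 : Allowed F t (F.π d • F.π d • v) :=
      (tr (a := u0 + F.π d • F.π d • v) (by rwa [add_assoc, ZModModule.add_self, add_zero])).1
        (allowed_step F h hd a1)
    have a3 : Allowed F t (v + F.π d • v) := by
      refine (tr (a := F.π d • F.π d • v) ?_).1 a2
      rw [add_comm]; exact hg.sum v hfix
    exact no_triple F h htt (hg.pol_one v hfix hvW) hv a1 a3
  rcases hg.cover u0 hfu hW v hfix with e | e | e | e
  · exact (tr (a := 0) (by rwa [zero_add])).2 (reach_zero F h)
  · exact (tr (a := u0) (by rwa [add_comm])).2 ra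
  · exfalso
    exact no_triple F h htt (hg.pol_one u0 hfu hW) aa ((tr (a := v) e).1 hv) ab
  · have h1 : InW (F.π t) (u0 + F.π d • u0 + v) := by
      obtain ⟨p, hp⟩ := hg.sum u0 hfu
      obtain ⟨r, hr⟩ := e
      refine ⟨p + r, ?_⟩
      rw [smul_add', show F.π t • p + F.π t • r + (p + r) = F.π t • p + p + (F.π t • r + r) by abel, hp, hr,
        show u0 + F.π d • u0 + F.π d • F.π d • u0 + (v + F.π d • F.π d • u0) =
          u0 + F.π d • u0 + v + (F.π d • F.π d • u0 + F.π d • F.π d • u0) by abel, ZModModule.add_self, add_zero]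
    exact (tr h1).2 rb

theorem lift_conj (h : Hyp z Q) (htt : (t : G) * t = 1) (hs : F.π t = sA ∨ F.π t = sC)
    {t' : Subgroup.centralizer ({z} : Set G)} (h' : (t' : G) * t' = 1) (hπ : F.π t' = F.π t) :
    ∃ c : Subgroup.centralizer ({z} : Set G),
      (c : G) * t * (c : G)⁻¹ = t' ∨ (c : G) * t * (c : G)⁻¹ = (t' : G) * z := by
  have hqQ : (t : G)⁻¹ * t' ∈ Q := (F.π_ker (t⁻¹ * t')).1 (by rw [map_mul, map_inv, hπ, inv_mul_cancel])
  set q := (t : G)⁻¹ * t' with hqdef
  have htq : (t : G) * q = t' := by rw [hqdef]; group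
  have hall : Allowed F t (F.vec q) := ⟨q, hqQ, rfl, by rw [htq, h']⟩
  have hfix : F.π t • F.vec q = F.vec q := by
    have e : (t : G) * q * (t : G)⁻¹ = q⁻¹ := by
      refine eq_inv_of_mul_eq_one_left ?_
      rw [inv_eq_of_mul_eq_one_right htt, show (t : G) * q * t * q = (t : G) * q * ((t : G) * q) by group, htq, h']
    rw [← F.vec_conj t q hqQ, e, vec_inv F h hqQ]
  obtain ⟨c, q', hq', hv, e⟩ := reach_all F h htt hs hall hfix
  refine ⟨c, ?_⟩
  rcases vec_eq F hq' hqQ h hv with rfl | rfl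
  · exact Or.inl (e.trans htq)
  · exact Or.inr (by rw [e, ← mul_assoc, htq])

end Cfsg.Agent.Spor.SuzT
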