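import Cfsg.Agent.Lib.Spor.SuzTypeLift

/-!
Groups of Suzuki sporadic type have exactly two classes of involutions.
-/

set_option autoImplicit false
set_option maxRecDepth 100000
set_option linter.unusedSectionVars false

namespace Cfsg.Agent.Spor.SuzT

open Cfsg.Agent.Classical

theorem pol_eq_polar (v w : V) : pol v w = QuadraticMap.polar (⇑QF) v w := by
  simp only [QuadraticMap.polar, coe_QF, pol, sub_eq_add_neg, ZModModule.neg_eq_self]

theorem pol_add_left (u v w : V) : pol (u + v) w = pol u w + pol v w := by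
  rw [pol_eq_polar, pol_eq_polar, pol_eq_polar, QuadraticMap.polar_add_left]

theorem pol_comm' (v w : V) : pol v w = pol w v := by rw [pol_eq_polar, pol_eq_polar, QuadraticMap.polar_comm]

theorem pol_add_right (u v w : V) : pol u (v + w) = pol u v + pol u w := by
  rw [pol_comm', pol_add_left, pol_comm' v u, pol_comm' w u]

universe u

variable {G : Type u} [Group G] [Finite G] {z : G} {Q : Subgroup G} (F : Frame z Q)
include F

theorem z_sq_pow (h : Hyp z Q) {n : ℕ} (hn : n % 2 = 1) : z ^ n = z := by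
  rw [← pow_mod_orderOf, h.ord, hn, pow_one]

theorem comm_pow (h : Hyp z Q) {p q : G} (hp : p ∈ Q) (hq : q ∈ Q) :
    p * q = q * p * z ^ (pol (F.vec p) (F.vec q)).val := by
  rcases (show ∀ b : ZMod 2, b = 0 ∨ b = 1 by decide) (pol (F.vec p) (F.vec q)) with e | e
  · rw [e, ZMod.val_zero, pow_zero, mul_one]
    exact (F.comm_iff p hp q hq).2 e
  · rw [e, ZMod.val_one, pow_one]
    refine (F.comm_or q hq p hp).resolve_left fun e' => ?_
    rw [(F.comm_iff p hp q hq).1 e'] at e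
    exact zero_ne_one e

theorem lift_ne (t : Subgroup.centralizer ({z} : Set G)) (ht : F.π t ≠ 1) : (t : G) ∉ Q :=
  fun e => ht ((F.π_ker t).2 e)

variable {x : G}

theorem class_A (h : Hyp z Q) (B : Base F x) {t : Subgroup.centralizer ({z} : Set G)} (htt : (t : G) * t = 1)
    (ha : IsConj (F.π t) sA) :
    ∃ i ∈ Q, i * i = 1 ∧ i ≠ 1 ∧ i ≠ z ∧ InQ z Q i t ∧ InQ z Q i z := by
  obtain ⟨g, hg⟩ := isConj_iff.1 ha
  obtain ⟨d, rfl⟩ := F.π_surj g
  obtain ⟨e, hex, hee, he⟩ := cls_A F h B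
  have htt' : ((d * t * d⁻¹ : Subgroup.centralizer ({z} : Set G)) : G) * (d * t * d⁻¹ :
      Subgroup.centralizer ({z} : Set G)) = 1 := by
    show (d : G) * t * (d : G)⁻¹ * ((d : G) * t * (d : G)⁻¹) = 1
    rw [conj_mul, htt]; group
  obtain ⟨c, hc⟩ := lift_conj F h hee (Or.inl he) htt' (by rw [map_mul, map_mul, map_inv, hg, he])
  set b := (d : G)⁻¹ * c with hb
  have hbz : Commute b z := (mem_C.1 d.2).inv_left.mul_left (mem_C.1 c.2)
  refine ⟨b * x * b⁻¹, h.norm b hbz x B.mem, ?_, fun e' => B.ne1 (conj_eq_one_iff.1 e'),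
    fun e' => B.nez ?_, ?_, ?_⟩
  · rw [conj_mul, B.sq]; group
  · calc x = b⁻¹ * (b * x * b⁻¹) * b := by group
      _ = b⁻¹ * (z * b) := by rw [e', mul_assoc]
      _ = z := by rw [← hbz.eq]; group
  · have hz2 : InQ z Q x ((e : G) * z) := hex.mul h (base_mem F h B)
    rcases hc with hc | hc
    · have := hex.conj b
      rwa [show b * (e : G) * b⁻¹ = (d : G)⁻¹ * ((c : G) * e * (c : G)⁻¹) * d by rw [hb]; group, hc,
        show (d : G)⁻¹ * ((d * t * d⁻¹ : Subgroup.centralizer ({z} : Set G)) : G) * d = (t : G) by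
          show (d : G)⁻¹ * ((d : G) * t * (d : G)⁻¹) * d = (t : G)
          group] at this
    · have := hz2.conj b
      rwa [show b * ((e : G) * z) * b⁻¹ = b * (e : G) * b⁻¹ * (b * z * b⁻¹) by group, hbz.eq, mul_inv_cancel_right,
        show b * (e : G) * b⁻¹ = (d : G)⁻¹ * ((c : G) * e * (c : G)⁻¹) * d by rw [hb]; group, hc,
        show (d : G)⁻¹ * (((d * t * d⁻¹ : Subgroup.centralizer ({z} : Set G)) : G) * z) * d * z =
          (t : G) * ((d : G)⁻¹ * z * d) * z by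
          show (d : G)⁻¹ * ((d : G) * t * (d : G)⁻¹ * z) * d * z = (t : G) * ((d : G)⁻¹ * z * d) * z
          group,
        ((mem_C.1 d.2).inv_left).eq, show (t : G) * (z * (d : G)⁻¹ * d) * z = (t : G) * (z * z) by group, zz h,
        mul_one] at this
  · have := (base_mem F h B).conj b
    rwa [hbz.eq, mul_inv_cancel_right] at this

theorem conj_of_classA (h : Hyp z Q) (B : Base F x) {t : Subgroup.centralizer ({z} : Set G)}
    (htt : (t : G) * t = 1) (ht : F.π t ≠ 1) (ha : IsConj (F.π t) sA) : IsConj z (t : G) := by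
  obtain ⟨i, hi, hii, hi1, hiz, hit, -⟩ := class_A F h B htt ha
  have htQ := lift_ne F t ht
  exact (mem_symm F h (core_conj F h hi hii hi1 hiz) hit htt (fun e => htQ (e ▸ one_mem Q))
    (fun e => htQ (e ▸ hi))).1

theorem pair (h : Hyp z Q) {t : Subgroup.centralizer ({z} : Set G)} (htt : (t : G) * t = 1)
    (ht : F.π t = sC) :
    (∃ r ∈ Q, ∃ r' ∈ Q, Commute r (t : G) ∧ Commute r' (t : G) ∧ ¬ Commute r r' ∧
      ∀ g g' : Ga, Commute g sC → Commute g' sC → g • F.vec r = F.vec r → g • F.vec r' = F.vec r' →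
        g' • F.vec r = F.vec r → g' • F.vec r' = F.vec r' → g ^ 4 = 1 → g' ^ 4 = 1 → Commute g g') ∧
    ∃ k ∈ Q, k * t * k⁻¹ = (t : G) * z := by
  obtain ⟨a, b, u, ha, hb, ⟨w, hw⟩, hu, hab, hau, hbu, hfix⟩ := pair_fix
  obtain ⟨l, hl, rfl⟩ := F.vec_surj w
  have hti : (t : G)⁻¹ = t := inv_eq_of_mul_eq_one_right htt
  set k := (t : G) * l * (t : G)⁻¹ * l⁻¹ with hk
  have hkQ : k ∈ Q := mul_mem (h.norm t (mem_C.1 t.2) l hl) (inv_mem hl)
  have hkv : F.vec k = u := by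
    rw [hk, F.vec_mul _ (h.norm t (mem_C.1 t.2) l hl) _ (inv_mem hl), F.vec_conj t l hl, vec_inv F h hl, ht, hw]
  have hkk : k * k = z := by
    refine (F.sq_or k hkQ).resolve_left fun e => ?_
    rw [← hkv, (F.sq_iff k hkQ).1 e] at hu
    exact zero_ne_one hu
  have hkinv : k⁻¹ = k * z := inv_eq_of_mul_eq_one_right (by rw [← mul_assoc, hkk, zz h])
  have htk : (t : G) * k * (t : G)⁻¹ = k * z := by
    rw [← hkinv, hk, mul_inv_rev, mul_inv_rev, mul_inv_rev, inv_inv, inv_inv, hti,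
      show (t : G) * ((t : G) * l * t * l⁻¹) * t = (t : G) * t * (l * t * l⁻¹ * t) by group, htt]
    group
  refine ⟨?_, k⁻¹, inv_mem hkQ, ?_⟩
  swap
  · have e : (t : G) * k = k * z * t := mul_inv_eq_iff_eq_mul.1 htk
    rw [inv_inv, mul_assoc, e, (mem_C.1 t.2).eq]; group
  have key : ∀ v : V, sC • v = v → ∃ r ∈ Q, Commute r (t : G) ∧ (F.vec r = v ∨ F.vec r = v + u) := by
    intro v hv
    obtain ⟨r, hr, rfl⟩ := F.vec_surj v
    have hcr := h.norm t (mem_C.1 t.2) r hr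
    rcases vec_eq F hcr hr h (by rw [F.vec_conj t r hr, ht, hv]) with e | e
    · exact ⟨r, hr, ((mul_inv_eq_iff_eq_mul.1 e : (t : G) * r = r * t)).symm, Or.inl rfl⟩
    · refine ⟨r * k, mul_mem hr hkQ, ?_, Or.inr (by rw [F.vec_mul r hr k hkQ, hkv])⟩
      have e2 : (t : G) * (r * k) * (t : G)⁻¹ = r * k := by
        rw [show (t : G) * (r * k) * (t : G)⁻¹ = (t : G) * r * (t : G)⁻¹ * ((t : G) * k * (t : G)⁻¹) by group, e, htk,
          show r * z * (k * z) = r * (z * k) * z by group, ← (Qz h hkQ).eq,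
          show r * (k * z) * z = r * k * (z * z) by group, zz h, mul_one]
      exact (mul_inv_eq_iff_eq_mul.1 e2 : (t : G) * (r * k) = r * k * t).symm
  obtain ⟨r, hr, hrt, hrv⟩ := key a ha
  obtain ⟨r', hr', hrt', hrv'⟩ := key b hb
  refine ⟨r, hr, r', hr', hrt, hrt', fun hc => ?_, ?_⟩
  · have h0 := (F.comm_iff r hr r' hr').1 hc
    rcases hrv with e | e <;> rcases hrv' with e' | e' <;> rw [e, e'] at h0 <;>
      simp only [pol_add_left, pol_add_right, pol_self, hab, hau, pol_comm' u b, hbu, add_zero] at h0 <;>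
      exact one_ne_zero h0
  · exact hfix _ (by simpa using hrv) _ (by simpa using hrv')

theorem no_I (h : Hyp z Q) (B : Base F x) {t : Subgroup.centralizer ({z} : Set G)} (htt : (t : G) * t = 1)
    (ht : F.π t = sC) (hzt : IsConj z (t : G)) {i : G} (hi : i ∈ Q) (hit : InQ z Q t i) : i = 1 := by
  by_contra hi1
  have htQ := lift_ne F t (by rw [ht]; exact rep_spec.2.2.2.2.2.1)
  have htz : (t : G) ≠ z := fun e => htQ (by rw [e]; exact zQ h)
  have hii : i * i = 1 := by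
    rcases F.sq_or i hi with e | e
    · exact e
    rcases InQ.sq F hit with e' | e'
    · exact e'
    · exact absurd (e'.symm.trans e) htz
  have hiz : i ≠ z := fun e => htQ ((inQ_z h).1 (mem_symm F h hzt (e ▸ hit) (zz h) (z_ne h) (Ne.symm htz)).2)
  have hit' := (mem_symm F h hzt hit hii hi1 fun e => htQ (e ▸ hi)).2
  have hiz' := (mem_symm F h (IsConj.refl z) ((inQ_z h).2 hi) hii hi1 hiz).2
  obtain ⟨c, hc⟩ := move_sing F h B.mem B.sq B.ne1 B.nez hi hii hi1 hiz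
  set m := c⁻¹ * t * c
  have hm : InQ z Q x m := by
    have := hit'.conj (c : G)⁻¹
    rwa [← hc, show (c : G)⁻¹ * ((c : G) * x * (c : G)⁻¹) * (c : G)⁻¹⁻¹ = x by group, inv_inv] at this
  refine not_classC F h B hm (show (c : G)⁻¹ * t * c * ((c : G)⁻¹ * t * c) = 1 by
    rw [show (c : G)⁻¹ * t * c * ((c : G)⁻¹ * t * c) = (c : G)⁻¹ * ((t : G) * t) * c by group, htt]; group) ?_
  rw [map_mul, map_mul, map_inv, ht]
  exact isConj_iff.2 ⟨F.π c, by group⟩

theorem not_conj_z (h : Hyp z Q) (B : Base F x) {t : Subgroup.centralizer ({z} : Set G)} (htt : (t : G) * t = 1)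
    (ht : F.π t = sC) : ¬ IsConj z (t : G) := by
  intro hzt
  have hnoI := fun {i : G} => no_I F h B htt ht hzt (i := i)
  have htQ := lift_ne F t (by rw [ht]; exact rep_spec.2.2.2.2.2.1)
  have htz : (t : G) ≠ z := fun e => htQ (by rw [e]; exact zQ h)
  obtain ⟨g, hg⟩ := isConj_iff.1 hzt
  have abel : ∀ n m : G, InQ z Q t n → Commute n z → InQ z Q t m → Commute m z → Commute n m := by
    obtain ⟨r, hr, r', hr', hrt, hrt', -, hfix⟩ := (pair F h htt ht).1
    have fixes : ∀ n : G, ∀ hn : Commute n z, InQ z Q t n → ∀ s ∈ Q, Commute s (t : G) →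
        F.π (cC hn) • F.vec s = F.vec s := by
      intro n hn hnt s hs hst
      have h1 : s * n * s⁻¹ * n⁻¹ ∈ Q := by
        rw [show s * n * s⁻¹ * n⁻¹ = s * (n * s⁻¹ * n⁻¹) by group]
        exact mul_mem hs (h.norm n hn _ (inv_mem hs))
      have h2 : InQ z Q t (s * n * s⁻¹ * n⁻¹) := (hnt.conj' hst).mul h hnt.inv
      have e := hnoI h1 h2
      have hsn : s * n = n * s := mul_inv_eq_iff_eq_mul.1 (mul_inv_eq_one.1 e)
      rw [← F.vec_conj (cC hn) s hs, show ((cC hn : Subgroup.centralizer ({z} : Set G)) : G) = n from rfl,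
        ← hsn, mul_inv_cancel_right]
    have props : ∀ n : G, ∀ hn : Commute n z, InQ z Q t n → Commute (F.π (cC hn)) sC ∧ F.π (cC hn) ^ 4 = 1 := by
      intro n hn hnt
      refine ⟨?_, ?_⟩
      · rw [← ht]
        exact (show Commute (cC hn) t from Subtype.ext (hnt.commute h).eq).map F.π
      · rw [← map_pow, show cC hn ^ 4 = 1 from Subtype.ext (show n ^ 4 = 1 by
          rcases InQ.sq F hnt with e | e <;>
            rw [show n ^ 4 = n * n * (n * n) by simp [pow_succ, mul_assoc], e] <;> simp [htt]), map_one]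
    intro n m hn hnz hm hmz
    obtain ⟨n1, n2⟩ := props n hnz hn
    obtain ⟨m1, m2⟩ := props m hmz hm
    have hc := hfix _ _ n1 m1 (fixes n hnz hn r hr hrt) (fixes n hnz hn r' hr' hrt') (fixes m hmz hm r hr hrt)
      (fixes m hmz hm r' hr' hrt') n2 m2
    have h1 : n * m * n⁻¹ * m⁻¹ ∈ Q := by
      refine (F.π_ker (cC hnz * cC hmz * (cC hnz)⁻¹ * (cC hmz)⁻¹)).1 ?_
      rw [map_mul, map_mul, map_mul, map_inv, map_inv, hc.eq, mul_inv_cancel_right, mul_inv_cancel]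
    have h2 : InQ z Q t (n * m * n⁻¹ * m⁻¹) := ((hn.mul h hm).mul h hn.inv).mul h hm.inv
    exact mul_inv_eq_iff_eq_mul.1 (mul_inv_eq_one.1 (hnoI h1 h2))
  set y := g⁻¹ * z * g with hy
  have hyz : Commute y z := by
    have := (Commute.conj_iff g⁻¹).2 (mem_C.1 t.2).symm
    rwa [← hg, show g⁻¹ * z * g⁻¹⁻¹ = y by rw [hy]; group,
      show g⁻¹ * (g * z * g⁻¹) * g⁻¹⁻¹ = z by group] at this
  have hzQt : ¬ InQ z Q t z := fun e => htQ ((inQ_z h).1 (mem_symm F h hzt e (zz h) (z_ne h) (Ne.symm htz)).2)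
  have hyQ : y ∉ Q := fun e => hzQt ((inQ_iff h hg).2 e)
  have hyy : y * y = 1 := by rw [hy, show g⁻¹ * z * g * (g⁻¹ * z * g) = g⁻¹ * (z * z) * g by group, zz h]; group
  have hπy : F.π (cC hyz) ≠ 1 := fun e => hyQ ((F.π_ker _).1 e)
  have hπ2 : F.π (cC hyz) * F.π (cC hyz) = 1 := by
    rw [← map_mul, show cC hyz * cC hyz = 1 from Subtype.ext hyy, map_one]
  rcases invol_class hπ2 hπy with hA | hC
  · obtain ⟨i, hi, hii, hi1, hiz, hiy, hiz'⟩ := class_A F h B (t := cC hyz) hyy hA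
    set j := g * i * g⁻¹ with hj
    have hjz : InQ z Q j z := by
      have := hiy.conj g
      rwa [show g * ((cC hyz : Subgroup.centralizer ({z} : Set G)) : G) * g⁻¹ = z by
        show g * (g⁻¹ * z * g) * g⁻¹ = z
        group] at this
    have hjt : InQ z Q j t := by have := hiz'.conj g; rwa [hg] at this
    have hjc : IsConj z j := (core_conj F h hi hii hi1 hiz).trans (isConj_iff.2 ⟨g, rfl⟩)
    have hjne : z ≠ j := fun e => hyQ (by
      rw [hy, e, hj, show g⁻¹ * (g * i * g⁻¹) * g = i by group]; exact hi)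
    have hjQ := (inQ_z h).1 (mem_symm F h hjc hjz (zz h) (z_ne h) hjne).2
    have hjtne : (t : G) ≠ j := fun e => htQ (e ▸ hjQ)
    have := hnoI hjQ (mem_symm F h hjc hjt htt (fun e => htQ (e ▸ one_mem Q)) hjtne).2
    exact hi1 (conj_eq_one_iff.1 this)
  · obtain ⟨d, hd⟩ := isConj_iff.1 hC
    obtain ⟨c, rfl⟩ := F.π_surj d
    obtain ⟨⟨r, hr, r', hr', hrt, hrt', hn, -⟩, -⟩ := pair F h (t := c * cC hyz * c⁻¹)
      (show (c : G) * y * (c : G)⁻¹ * ((c : G) * y * (c : G)⁻¹) = 1 by rw [conj_mul, hyy]; group)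
      (by rw [map_mul, map_mul, map_inv, hd])
    set b := g * (c : G)⁻¹ with hb
    have hb1 : b * ((c : G) * y * (c : G)⁻¹) * b⁻¹ = z := by rw [hb, hy]; group
    have hb2 : b * z * b⁻¹ = (t : G) := by
      rw [hb, show g * (c : G)⁻¹ * z * (g * (c : G)⁻¹)⁻¹ = g * ((c : G)⁻¹ * (z * c)) * g⁻¹ by group,
        ← (mem_C.1 c.2).eq, ← hg]
      group
    have key : ∀ s ∈ Q, Commute s ((c * cC hyz * c⁻¹ : Subgroup.centralizer ({z} : Set G)) : G) →
        InQ z Q t (b * s * b⁻¹) ∧ Commute (b * s * b⁻¹) z := by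
      intro s hs hst
      refine ⟨⟨b, hb2, by rwa [show b⁻¹ * (b * s * b⁻¹) * b = s by group]⟩, ?_⟩
      have := (Commute.conj_iff b).2 (show Commute s ((c : G) * y * (c : G)⁻¹) from hst)
      rwa [hb1] at this
    obtain ⟨k1, k2⟩ := key r hr hrt
    obtain ⟨k3, k4⟩ := key r' hr' hrt'
    exact hn ((Commute.conj_iff b).1 (abel _ _ k1 k2 k3 k4))

theorem exists_C (h : Hyp z Q) (B : Base F x) :
    ∃ t : Subgroup.centralizer ({z} : Set G), (t : G) * t = 1 ∧ F.π t = sC := by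
  obtain ⟨f, -, hff, hf⟩ := cls_C F h B
  obtain ⟨a, b, c, hv, hsum⟩ := exist_vecs
  have hfinv : F.π f⁻¹ = sC := by rw [map_inv, hf]; exact inv_eq_of_mul_eq_one_right rep_spec.2.2.2.1
  have try_ : ∀ y ∈ Q, F.vec y ∈ ({v | pol e0 v = 0 ∧ sC • v = v + e0} : Set V) →
      (f : G)⁻¹ * y * f * y = x → ∃ t : Subgroup.centralizer ({z} : Set G), (t : G) * t = 1 ∧ F.π t = sC := by
    intro y hy _ e
    refine ⟨f * cC (Qz h hy), ?_, by rw [map_mul, π_Q F h hy, mul_one, hf]⟩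
    show (f : G) * y * ((f : G) * y) = 1
    rw [show (f : G) * y * ((f : G) * y) = (f : G) * f * ((f : G)⁻¹ * y * f * y) by group, e, hff, B.sq]
  have alt : ∀ y ∈ Q, pol e0 (F.vec y) = 0 → sC • F.vec y = F.vec y + e0 →
      (f : G)⁻¹ * y * f * y = x ∨ (f : G)⁻¹ * y * f * y = x * z := by
    intro y hy _ hs
    have hc := h.norm _ (mem_C.1 f⁻¹.2) y hy
    have e : F.vec ((f : G)⁻¹ * y * f * y) = e0 := by
      have e1 := F.vec_conj f⁻¹ y hy
      rw [hfinv, hs, show ((f⁻¹ : Subgroup.centralizer ({z} : Set G)) : G) = (f : G)⁻¹ from rfl, inv_inv] at e1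
      rw [show ((f⁻¹ : Subgroup.centralizer ({z} : Set G)) : G) = (f : G)⁻¹ from rfl, inv_inv] at hc
      rw [F.vec_mul _ hc y hy, e1, add_right_comm, ZModModule.add_self, zero_add]
    have hc' : (f : G)⁻¹ * y * f ∈ Q := by simpa using hc
    exact vec_eq F (mul_mem hc' hy) B.mem h (e.trans B.vec.symm)
  obtain ⟨ya, hya, rfl⟩ := F.vec_surj a
  obtain ⟨yb, hyb, rfl⟩ := F.vec_surj b
  obtain ⟨yc, hyc, rfl⟩ := F.vec_surj c
  have pa := hv _ List.mem_cons_self
  have pb := hv (F.vec yb) (by simp)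
  have pc := hv (F.vec yc) (by simp)
  rcases alt ya hya pa.1 pa.2 with ea | ea
  · exact try_ ya hya pa ea
  rcases alt yb hyb pb.1 pb.2 with eb | eb
  · exact try_ yb hyb pb eb
  rcases alt yc hyc pc.1 pc.2 with ec | ec
  · exact try_ yc hyc pc ec
  set w := x * z with hw
  have hcomm : ∀ y ∈ Q, pol e0 (F.vec y) = 0 → Commute w y := fun y hy hp =>
    ((F.comm_iff x B.mem y hy).2 (by rw [B.vec]; exact hp)).mul_left (Qz h hy).symm
  have hww : w * w = 1 := by
    rw [hw, show x * z * (x * z) = x * (z * x) * z by group, ← (Qz h B.mem).eq,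
      show x * (x * z) * z = x * x * (z * z) by group, B.sq, zz h, mul_one]
  have img : ∀ y, (f : G)⁻¹ * y * f * y = w → (f : G)⁻¹ * y * f = w * y⁻¹ := fun y e => eq_mul_inv_of_mul_eq e
  refine try_ (ya * yb * yc) (mul_mem (mul_mem hya hyb) hyc) ⟨?_, ?_⟩ ?_
  · rw [F.vec_mul _ (mul_mem hya hyb) _ hyc, F.vec_mul _ hya _ hyb, pol_add_right, pol_add_right, pa.1, pb.1, pc.1]
    simp
  · rw [F.vec_mul _ (mul_mem hya hyb) _ hyc, F.vec_mul _ hya _ hyb, smul_add', smul_add', pa.2, pb.2, pc.2,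
      show F.vec ya + e0 + (F.vec yb + e0) + (F.vec yc + e0) = F.vec ya + F.vec yb + F.vec yc + e0 + (e0 + e0) by abel,
      ZModModule.add_self, add_zero]
  have zc : ∀ (n : ℕ) (y : G), y ∈ Q → Commute (z ^ n) y := fun n y hy => ((Qz h hy).symm).pow_left n
  have c1 := comm_pow F h (inv_mem hyc) hya
  have c2 := comm_pow F h (inv_mem hyb) hya
  have c3 := comm_pow F h (inv_mem hyc) hyb
  rw [vec_inv F h hyc] at c1 c3
  rw [vec_inv F h hyb] at c2
  generalize hα : (pol (F.vec yc) (F.vec ya)).val = α at c1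
  generalize hβ : (pol (F.vec yb) (F.vec ya)).val = β at c2
  generalize hγ : (pol (F.vec yc) (F.vec yb)).val = γ at c3
  have hodd : (γ + α + β) % 2 = 1 := by
    rw [← hα, ← hβ, ← hγ, pol_comm' (F.vec yc) (F.vec ya), pol_comm' (F.vec yb) (F.vec ya),
      pol_comm' (F.vec yc) (F.vec yb)]
    exact (show ∀ p q r : ZMod 2, p + q + r = 1 → (q.val + r.val + p.val) % 2 = 1 by decide) _ _ _ hsum
  have P : ya⁻¹ * yb⁻¹ * yc⁻¹ * (ya * yb * yc) = z := by
    calc ya⁻¹ * yb⁻¹ * yc⁻¹ * (ya * yb * yc) = ya⁻¹ * yb⁻¹ * (yc⁻¹ * ya) * yb * yc := by group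
      _ = ya⁻¹ * yb⁻¹ * ya * yc⁻¹ * (z ^ α * (yb * yc)) := by rw [c1]; group
      _ = ya⁻¹ * (yb⁻¹ * ya) * yc⁻¹ * yb * yc * z ^ α := by rw [(zc α _ (mul_mem hyb hyc)).eq]; group
      _ = yb⁻¹ * (z ^ β * (yc⁻¹ * yb * yc)) * z ^ α := by rw [c2]; group
      _ = yb⁻¹ * (yc⁻¹ * yb) * yc * z ^ β * z ^ α := by
        rw [(zc β _ (mul_mem (mul_mem (inv_mem hyc) hyb) hyc)).eq]; group
      _ = yc⁻¹ * (z ^ γ * yc) * z ^ β * z ^ α := by rw [c3]; group
      _ = z ^ (γ + α + β) := by rw [(zc γ yc hyc).eq, pow_add, pow_add]; group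
      _ = z := z_sq_pow F h hodd
  have ha' := hcomm ya hya pa.1
  have hb' := hcomm yb hyb pb.1
  calc (f : G)⁻¹ * (ya * yb * yc) * f * (ya * yb * yc)
      = (f : G)⁻¹ * ya * f * ((f : G)⁻¹ * yb * f) * ((f : G)⁻¹ * yc * f) * (ya * yb * yc) := by group
    _ = w * ya⁻¹ * (w * yb⁻¹) * (w * yc⁻¹) * (ya * yb * yc) := by rw [img ya ea, img yb eb, img yc ec]
    _ = w * (ya⁻¹ * w) * (yb⁻¹ * w) * yc⁻¹ * (ya * yb * yc) := by group
    _ = w * (w * ya⁻¹) * (w * yb⁻¹) * yc⁻¹ * (ya * yb * yc) := by rw [ha'.inv_right.eq, hb'.inv_right.eq]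
    _ = w * w * (ya⁻¹ * w) * yb⁻¹ * yc⁻¹ * (ya * yb * yc) := by group
    _ = w * (ya⁻¹ * yb⁻¹ * yc⁻¹ * (ya * yb * yc)) := by rw [hww, ← ha'.inv_right.eq]; group
    _ = x := by rw [P, hw, mul_assoc, zz h, mul_one]

theorem center_Q (h : Hyp z Q) {a : G} (ha : a ∈ Q) (hc : ∀ q ∈ Q, Commute a q) : a = 1 ∨ a = z := by
  refine (F.vec_zero a ha).1 (QF_pnd _ fun w => ?_)
  obtain ⟨q, hq, rfl⟩ := F.vec_surj w
  rw [← pol_eq_polar]
  exact (F.comm_iff a ha q hq).1 (hc q hq)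

theorem into_C (h : Hyp z Q) {w : G} (hw : orderOf w = 2) : ∃ g : G, Commute (g * w * g⁻¹) z := by
  haveI : Fact (Nat.Prime 2) := ⟨Nat.prime_two⟩
  obtain ⟨T, hT⟩ := h.ext.1.1.exists_le_sylow
  have hTz : ∀ a ∈ (T : Subgroup G), Commute a z := by
    haveI : Nontrivial (T : Subgroup G) := by
      refine ⟨⟨z, hT (zQ h)⟩, 1, fun e => z_ne h (congrArg Subtype.val e)⟩
    haveI := T.isPGroup'.center_nontrivial
    obtain ⟨c, hc⟩ := exists_ne (1 : Subgroup.center (T : Subgroup G))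
    have hcomm : ∀ a ∈ (T : Subgroup G), Commute ((c : (T : Subgroup G)) : G) a := fun a ha =>
      (congrArg Subtype.val (Subgroup.mem_center_iff.1 c.2 ⟨a, ha⟩)).symm
    have hcQ : ((c : (T : Subgroup G)) : G) ∈ Q := h.cent (Subgroup.mem_centralizer_iff.2 fun q hq =>
      (hcomm q (hT hq)).symm.eq)
    rcases center_Q F h hcQ (fun q hq => hcomm q (hT hq)) with e | e
    · exact absurd (Subtype.ext (Subtype.ext e)) hc
    · intro a ha; exact e ▸ (hcomm a ha).symm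
  have hp : IsPGroup 2 (Subgroup.zpowers w) := IsPGroup.of_card (n := 1) (by rw [Nat.card_zpowers, hw, pow_one])
  obtain ⟨S, hS⟩ := hp.exists_le_sylow
  obtain ⟨g, hg⟩ := MulAction.exists_smul_eq G S T
  exact ⟨g, hTz _ (by rw [← hg]; exact ⟨w, hS (Subgroup.mem_zpowers w), rfl⟩)⟩

theorem two_classes (h : Hyp z Q) (B : Base F x) :
    ∃ a b : G, orderOf a = 2 ∧ orderOf b = 2 ∧ ¬ IsConj a b ∧
      ∀ w : G, orderOf w = 2 → IsConj w a ∨ IsConj w b := by
  obtain ⟨t, htt, ht⟩ := exists_C F h B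
  have htQ := lift_ne F t (by rw [ht]; exact rep_spec.2.2.2.2.2.1)
  refine ⟨z, t, h.ord, orderOf_eq_prime (by rw [pow_two, htt]) (fun e => htQ (e ▸ one_mem Q)),
    not_conj_z F h B htt ht, fun w hw => ?_⟩
  obtain ⟨g, hg⟩ := into_C F h hw
  set w1 := g * w * g⁻¹ with hw1d
  have hconj : IsConj w w1 := isConj_iff.2 ⟨g, rfl⟩
  have hw1 : w1 ≠ 1 := fun e => by rw [conj_eq_one_iff.1 e, orderOf_one] at hw; omega
  have hww : w1 * w1 = 1 := by rw [hw1d, conj_mul, ← pow_two, ← hw, pow_orderOf_eq_one]; group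
  by_cases hQ : w1 ∈ Q
  · refine Or.inl (hconj.trans ?_)
    by_cases hwz : w1 = z
    · rw [hwz]
    · exact (core_conj F h hQ hww hw1 hwz).symm
  have hπ1 : F.π (cC hg) ≠ 1 := fun e => hQ ((F.π_ker _).1 e)
  have hπ2 : F.π (cC hg) * F.π (cC hg) = 1 := by
    rw [← map_mul, show cC hg * cC hg = 1 from Subtype.ext hww, map_one]
  rcases invol_class hπ2 hπ1 with hA | hC
  · exact Or.inl (hconj.trans (conj_of_classA F h B (t := cC hg) hww hπ1 hA).symm)
  refine Or.inr (hconj.trans ?_)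
  obtain ⟨d, hd⟩ := isConj_iff.1 hC
  obtain ⟨c, rfl⟩ := F.π_surj d
  have h2 : ((c * cC hg * c⁻¹ : Subgroup.centralizer ({z} : Set G)) : G) * (c * cC hg * c⁻¹ :
      Subgroup.centralizer ({z} : Set G)) = 1 := by
    show (c : G) * w1 * (c : G)⁻¹ * ((c : G) * w1 * (c : G)⁻¹) = 1
    rw [conj_mul, hww]; group
  have hπc : F.π (c * cC hg * c⁻¹) = sC := by rw [map_mul, map_mul, map_inv, hd]
  have hto : IsConj w1 ((c : G) * w1 * (c : G)⁻¹) := isConj_iff.2 ⟨c, rfl⟩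
  refine hto.trans ?_
  obtain ⟨e, he⟩ := lift_conj F h htt (Or.inr ht) h2 (hπc.trans ht.symm)
  rcases he with he | he
  · exact (isConj_iff.2 ⟨(e : G), he⟩ : IsConj (t : G) _).symm
  · obtain ⟨-, k, -, hk⟩ := pair F h h2 hπc
    exact (isConj_iff.2 ⟨k, hk⟩ : IsConj _ (((c * cC hg * c⁻¹ : Subgroup.centralizer ({z} : Set G)) : G) * z)).trans
      (isConj_iff.2 ⟨(e : G), he⟩ : IsConj (t : G) _).symm

end Cfsg.Agent.Spor.SuzT
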