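import Cfsg.Agent.Lib.Spor.SuzTypeCore

/-!
Groups of Suzuki sporadic type: the part of the subgroup of a second conjugate of the central involution
inside the centraliser of the first one, and its image.
-/

set_option autoImplicit false
set_option maxRecDepth 100000
set_option linter.unusedSectionVars false

namespace Cfsg.Agent.Spor.SuzT

theorem smul_add' (g : Ga) (v w : V) : g • (v + w) = g • v + g • w := (g : OG).1.map_add v w

theorem smul_zero' (g : Ga) : g • (0 : V) = 0 := (g : OG).1.map_zero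

theorem smul_qm (g : Ga) (v : V) : qm (g • v) = qm v := iso_q (g : OG) v

theorem smul_pol (g : Ga) (v w : V) : pol (g • v) (g • w) = pol v w := iso_pol (g : OG) v w

/-- the representative modulo the first point with vanishing first coordinate -/
def nz (w : V) : V := if w (.inl (.inl 0)) = 0 then w else w + e0

theorem nz_mem : ∀ w : V, pol e0 w = 0 → qm w = 0 → w ≠ 0 → w ≠ e0 →
    nz w ∈ Finset.univ.filter fun v : V => v ≠ 0 ∧ pol e0 v = 0 ∧ qm v = 0 ∧ v (.inl (.inl 0)) = 0 := by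
  simp only [Finset.mem_filter, Finset.mem_univ, true_and]
  decide +kernel

set_option synthInstance.maxSize 4000 in
theorem nz_eq : ∀ w w' : V, nz w = nz w' → w + w' = 0 ∨ w + w' = e0 := by decide +kernel

universe u

variable {G : Type u} [Group G] [Finite G] {z : G} {Q : Subgroup G} (F : Frame z Q)
include F

theorem InQ.comm_or {a b c : G} (hb : InQ z Q a b) (h : Hyp z Q) (hc : InQ z Q a c) :
    c * b = b * c ∨ c * b = b * c * a := by
  obtain ⟨g, hg, hb⟩ := hb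
  have hc := (inQ_iff h hg).1 hc
  rcases F.comm_or _ hb _ hc with e | e
  · left
    calc c * b = g * (g⁻¹ * c * g * (g⁻¹ * b * g)) * g⁻¹ := by group
      _ = b * c := by rw [e]; group
  · right
    calc c * b = g * (g⁻¹ * c * g * (g⁻¹ * b * g)) * g⁻¹ := by group
      _ = b * c * a := by rw [e, ← hg]; group

variable {x : G}

theorem sect (h : Hyp z Q) (B : Base F x) {a : G} (ha : a ∈ Q) (hax : InQ z Q x a) :
    a = 1 ∨ a = z ∨ a = x ∨ a = x * z := by
  have hsq : ∀ b ∈ Q, InQ z Q x b → b * b = 1 := fun b hb hbx => by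
    rcases F.sq_or b hb with e | e
    · exact e
    rcases InQ.sq F hbx with e' | e'
    · exact e'
    · exact absurd (e'.symm.trans e) B.nez
  have hcomm : ∀ b ∈ Q, InQ z Q x b → Commute a b := fun b hb hbx => by
    rcases F.comm_or a ha b hb with e | e
    · exact e.symm
    rcases InQ.comm_or F hax h hbx with e' | e'
    · exact e'.symm
    · exact absurd (mul_left_cancel (e'.symm.trans e)) B.nez
  by_cases h0 : F.vec a = 0
  · rcases (F.vec_zero a ha).1 h0 with e | e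
    exacts [Or.inl e, Or.inr (Or.inl e)]
  by_cases h1 : F.vec a = e0
  · rcases vec_eq F ha B.mem h (h1.trans B.vec.symm) with e | e
    exacts [Or.inr (Or.inr (Or.inl e)), Or.inr (Or.inr (Or.inr e))]
  exfalso
  have hq : qm (F.vec a) = 0 := (F.sq_iff a ha).1 (hsq a ha hax)
  have hp : pol e0 (F.vec a) = 0 := by
    rw [← B.vec]; exact (F.comm_iff x B.mem a ha).1 (hax.commute h).symm
  obtain ⟨g, hg, hne⟩ := line hp hq h0 h1
  obtain ⟨c, hc, hcx⟩ := move F h B.mem B.mem (by rw [B.vec]; exact e0_facts.1) (g := g)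
    (by rw [B.vec]; exact hg)
  have hbQ : (c : G) * a * (c : G)⁻¹ ∈ Q := h.norm c (mem_C.1 c.2) a ha
  have hbx : InQ z Q x ((c : G) * a * (c : G)⁻¹) := hax.conj' (mul_inv_eq_iff_eq_mul.1 hcx)
  have hv : F.vec ((c : G) * a * (c : G)⁻¹) = g • F.vec a := by rw [F.vec_conj c a ha, hc]
  have hpp := (F.comm_iff a ha _ hbQ).1 (hcomm _ hbQ hbx)
  have hp' : pol e0 (g • F.vec a) = 0 := by
    rw [← hv, ← B.vec]; exact (F.comm_iff x B.mem _ hbQ).1 (hbx.commute h).symm
  rw [hv] at hpp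
  rcases no_three _ _ hq (by rw [smul_qm, hq]) hp hp' hpp with (e | e) | e | e | e | e
  exacts [h0 e, h1 e, hne.1 e, hne.2.1 e, hne.2.2.1 e, hne.2.2.2 e]

theorem card_centQ (h : Hyp z Q) (B : Base F x) :
    64 ≤ Nat.card ↥(Q ⊓ Subgroup.centralizer ({x} : Set G)) := by
  classical
  obtain ⟨q1, hq1, h1⟩ := swap F h B.mem (by rw [B.vec]; exact e0_facts.1)
  have hstep : ∀ q : Q, ¬ Commute (q : G) x → Commute (q1⁻¹ * q) x := fun q hq => by
    have e : (q : G) * x = x * q * z := (F.comm_or x B.mem q q.2).resolve_left hq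
    have e1 : q1 * x = x * z * q1 := mul_inv_eq_iff_eq_mul.1 h1
    calc q1⁻¹ * (q : G) * x = q1⁻¹ * ((q : G) * x) := mul_assoc _ _ _
      _ = q1⁻¹ * (x * z * q1) * q1⁻¹ * q := by rw [e, mul_assoc x, (Qz h q.2).eq]; group
      _ = x * (q1⁻¹ * q) := by rw [← e1]; group
  let f : Q → ↥(Q ⊓ Subgroup.centralizer ({x} : Set G)) × Bool := fun q =>
    if hq : Commute (q : G) x then (⟨q, q.2, Subgroup.mem_centralizer_singleton_iff.2 hq⟩, true)
    else (⟨q1⁻¹ * q, Q.mul_mem (Q.inv_mem hq1) q.2, Subgroup.mem_centralizer_singleton_iff.2 (hstep q hq)⟩, false)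
  have hf : Function.Injective f := fun a b e => by
    have e1 := congrArg (fun p => ((p.1 : ↥(Q ⊓ Subgroup.centralizer ({x} : Set G))) : G)) e
    have e2 := congrArg Prod.snd e
    simp only [f] at e1 e2
    split_ifs at e1 e2 <;> first | exact Subtype.ext e1 | exact Subtype.ext (mul_left_cancel e1)
  have := Nat.card_le_card_of_injective f hf
  rw [h.card, Nat.card_prod, Nat.card_eq_fintype_card (α := Bool), Fintype.card_bool] at this
  omega

theorem exists_swap (h : Hyp z Q) (B : Base F x) :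
    ∃ t : G, t * x * t⁻¹ = z ∧ t * z * t⁻¹ = x := by
  obtain ⟨g, hg⟩ := isConj_iff.1 B.conj
  have hy := (inQ_iff h hg).1 (base_mem F h B)
  have hyy : g⁻¹ * z * g * (g⁻¹ * z * g) = 1 := by
    rw [show g⁻¹ * z * g * (g⁻¹ * z * g) = g⁻¹ * (z * z) * g by group, zz h]; group
  have hy1 : g⁻¹ * z * g ≠ 1 := fun e => z_ne h (by rw [show z = g * (g⁻¹ * z * g) * g⁻¹ by group, e]; group)
  have hyz : g⁻¹ * z * g ≠ z := fun e => B.nez (by
    rw [← hg]
    calc g * z * g⁻¹ = g * (g⁻¹ * z * g) * g⁻¹ := by rw [e]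
      _ = z := by group)
  obtain ⟨c, hc⟩ := move_sing F h hy hyy hy1 hyz B.mem B.sq B.ne1 B.nez
  refine ⟨(c : G) * g⁻¹, ?_, ?_⟩
  · rw [← hg, show (c : G) * g⁻¹ * (g * z * g⁻¹) * ((c : G) * g⁻¹)⁻¹ = (c : G) * z * (c : G)⁻¹ by group,
      (mem_C.1 c.2).eq, mul_inv_cancel_right]
  · conv_rhs => rw [← hc]
    group

theorem radAt (h : Hyp z Q) (B : Base F x) {m : Subgroup.centralizer ({z} : Set G)} (hm : InQ z Q x m) :
    RadAt (F.π m) := by
  have hmx : Commute (m : G) x := hm.commute h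
  refine ⟨?_, fun v hv => ?_⟩
  · rw [← B.vec, ← F.vec_conj m x B.mem, hmx.eq, mul_inv_cancel_right]
  obtain ⟨a, ha, rfl⟩ := F.vec_surj v
  have hax : Commute a x := ((F.comm_iff x B.mem a ha).2 (by rw [B.vec]; exact hv)).symm
  have hcQ := h.norm m (mem_C.1 m.2) a ha
  have hx' : InQ z Q x ((m : G) * (a * (m : G)⁻¹ * a⁻¹)) := hm.mul h (hm.inv.conj' hax)
  rw [show (m : G) * (a * (m : G)⁻¹ * a⁻¹) = (m : G) * a * (m : G)⁻¹ * a⁻¹ by group] at hx'
  have hv' : F.vec ((m : G) * a * (m : G)⁻¹ * a⁻¹) = F.π m • F.vec a + F.vec a := by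
    rw [F.vec_mul _ hcQ _ (inv_mem ha), vec_inv F h ha, F.vec_conj m a ha]
  have h2 : F.vec ((m : G) * a * (m : G)⁻¹ * a⁻¹) = 0 ∨ F.vec ((m : G) * a * (m : G)⁻¹ * a⁻¹) = e0 := by
    rcases sect F h B (mul_mem hcQ (inv_mem ha)) hx' with e | e | e | e <;> rw [e]
    · exact Or.inl (vec_one F h)
    · exact Or.inl ((F.vec_zero z (zQ h)).2 (Or.inr rfl))
    · exact Or.inr B.vec
    · exact Or.inr ((vec_mul_z F h B.mem).trans B.vec)
  rw [hv'] at h2
  rcases h2 with e | e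
  · exact Or.inl (by rw [eq_neg_of_add_eq_zero_left e, ZModModule.neg_eq_self])
  · refine Or.inr ?_
    rw [← e, add_comm, add_assoc, ZModModule.add_self, add_zero]

theorem rad_surj (h : Hyp z Q) (B : Base F x) {r : Ga} (hr : RadAt r) :
    ∃ m : Subgroup.centralizer ({z} : Set G), InQ z Q x m ∧ F.π m = r := by
  classical
  obtain ⟨t, ht1, ht2⟩ := exists_swap F h B
  have hti : t⁻¹ * z * t⁻¹⁻¹ = x := by
    calc t⁻¹ * z * t⁻¹⁻¹ = t⁻¹ * (t * x * t⁻¹) * t := by rw [ht1, inv_inv]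
      _ = x := by group
  have htQ : ∀ b, InQ z Q x b ↔ t * b * t⁻¹ ∈ Q := fun b => by rw [inQ_iff h hti, inv_inv]
  let M : Subgroup (Subgroup.centralizer ({z} : Set G)) :=
    { carrier := {c | InQ z Q x c}
      one_mem' := (htQ _).2 (by simp)
      mul_mem' := fun ha hb => InQ.mul h ha hb
      inv_mem' := fun ha => InQ.inv ha }
  let f := F.π.comp M.subtype
  have hker : Nat.card f.ker ≤ 4 := by
    let g : f.ker → ({1, z, x, x * z} : Finset G) := fun m => ⟨((m : M) : Subgroup.centralizer ({z} : Set G)), by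
      have hQ := (F.π_ker ((m : M) : Subgroup.centralizer ({z} : Set G))).1 m.2
      simpa using sect F h B hQ (m : M).2⟩
    refine (Nat.card_le_card_of_injective g fun a b e => ?_).trans ?_
    · have e' := congrArg (fun p : ({1, z, x, x * z} : Finset G) => (p : G)) e
      exact Subtype.ext (Subtype.ext (Subtype.ext e'))
    · rw [Nat.card_eq_fintype_card, Fintype.card_coe]
      exact Finset.card_le_four
  have hxz : t⁻¹ * x * t⁻¹⁻¹ = z := by
    calc t⁻¹ * x * t⁻¹⁻¹ = t⁻¹ * (t * z * t⁻¹) * t := by rw [ht2, inv_inv]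
      _ = z := by group
  have hM : 64 ≤ Nat.card M := by
    refine (card_centQ F h B).trans (Nat.card_le_card_of_injective (fun q =>
      (⟨⟨t⁻¹ * (q : G) * t, mem_C.2 ?_⟩, ?_⟩ : M)) fun a b e => ?_)
    · have hqx : Commute (q : G) x := Subgroup.mem_centralizer_singleton_iff.1 q.2.2
      have h2 := (Commute.conj_iff t⁻¹).2 hqx
      rwa [hxz, inv_inv] at h2
    · show InQ z Q x (t⁻¹ * (q : G) * t)
      rw [htQ, show t * (t⁻¹ * (q : G) * t) * t⁻¹ = q by group]; exact q.2.1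
    · exact Subtype.ext (mul_left_cancel (mul_right_cancel (congrArg (fun m : M => ((m : Subgroup.centralizer ({z} : Set G)) : G)) e)))
  have hrange : 16 ≤ Nat.card f.range := by
    have h1 := Subgroup.card_eq_card_quotient_mul_card_subgroup f.ker
    rw [Nat.card_congr (QuotientGroup.quotientKerEquivRange f).toEquiv] at h1
    have h2 := Nat.mul_le_mul_left (Nat.card f.range) hker
    omega
  have hsub : (f.range : Set Ga) ⊆ {g | RadAt g} := by
    rintro _ ⟨m, rfl⟩; exact radAt F h B m.2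
  have heq := Set.eq_of_subset_of_ncard_le hsub (by
    rw [← Nat.card_coe_set_eq, ← Nat.card_coe_set_eq]
    exact rad_card.trans hrange) (Set.toFinite _)
  have : r ∈ (f.range : Set Ga) := by rw [heq]; exact hr
  obtain ⟨m, hm⟩ := this
  exact ⟨m, m.2, hm⟩

theorem back {t : G} (h : Hyp z Q) (B : Base F x) (ht1 : t * x * t⁻¹ = z) (ht2 : t * z * t⁻¹ = x) {a : G}
    (ha : a ∈ Q) (hv : F.vec a = 0 ∨ F.vec a = e0) : t⁻¹ * a * t ∈ Q := by
  have hz' : t⁻¹ * z * t ∈ Q := by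
    rw [← ht1, show t⁻¹ * (t * x * t⁻¹) * t = x by group]; exact B.mem
  have hx' : t⁻¹ * x * t ∈ Q := by
    rw [← ht2, show t⁻¹ * (t * z * t⁻¹) * t = z by group]; exact zQ h
  rcases hv with e | e
  · rcases (F.vec_zero a ha).1 e with rfl | rfl
    · simp
    · exact hz'
  · rcases vec_eq F ha B.mem h (e.trans B.vec.symm) with rfl | rfl
    · exact hx'
    · rw [show t⁻¹ * (x * z) * t = t⁻¹ * x * t * (t⁻¹ * z * t) by group]; exact mul_mem hx' hz'

theorem sq_classC (h : Hyp z Q) (B : Base F x) {m : Subgroup.centralizer ({z} : Set G)} (hm : InQ z Q x m)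
    (hs : ∃ c ∈ St, c * F.π m * c⁻¹ = sC) : (m : G) * m = x := by
  classical
  refine (InQ.sq F hm).resolve_left fun hmm => ?_
  obtain ⟨c, hc, hcm⟩ := hs
  obtain ⟨t, ht1, ht2⟩ := exists_swap F h B
  have htx : ∀ d : G, InQ z Q x d → t * d * t⁻¹ ∈ Q := fun d hd => by
    have hti : t⁻¹ * z * t⁻¹⁻¹ = x := by
      calc t⁻¹ * z * t⁻¹⁻¹ = t⁻¹ * (t * x * t⁻¹) * t := by rw [ht1, inv_inv]
        _ = x := by group
    simpa using (inQ_iff h hti).1 hd
  obtain ⟨S, hS, hSc⟩ := ten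
  have key : ∀ r ∈ S, ∃ n : Subgroup.centralizer ({z} : Set G),
      InQ z Q x n ∧ (n : G) * n = 1 ∧ F.π n = r := by
    intro r hr
    obtain ⟨d, hd, hdr⟩ := hSc r hr
    obtain ⟨e, he, hex⟩ := move F h B.mem B.mem (by rw [B.vec]; exact e0_facts.1) (g := d⁻¹ * c)
      (by rw [B.vec]; exact mul_mem (inv_mem hd) hc)
    refine ⟨e * m * e⁻¹, hm.conj' (mul_inv_eq_iff_eq_mul.1 hex), ?_, ?_⟩
    · show (e : G) * m * (e : G)⁻¹ * ((e : G) * m * (e : G)⁻¹) = 1
      rw [conj_mul, hmm]; group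
    · rw [map_mul, map_mul, map_inv, he,
        show d⁻¹ * c * F.π m * (d⁻¹ * c)⁻¹ = d⁻¹ * (c * F.π m * c⁻¹) * d by group, hcm, ← hdr]
      group
  choose n hn1 hn2 hn3 using key
  let w : {r // r ∈ S} → V := fun r => F.vec (t * (n r.1 r.2 : G) * t⁻¹)
  have hQm : ∀ r : {r // r ∈ S}, t * (n r.1 r.2 : G) * t⁻¹ ∈ Q := fun r => htx _ (hn1 r.1 r.2)
  have hmem : ∀ r : {r // r ∈ S}, nz (w r) ∈
      Finset.univ.filter fun v : V => v ≠ 0 ∧ pol e0 v = 0 ∧ qm v = 0 ∧ v (.inl (.inl 0)) = 0 := by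
    intro r
    have hsq : t * (n r.1 r.2 : G) * t⁻¹ * (t * (n r.1 r.2 : G) * t⁻¹) = 1 := by rw [conj_mul, hn2]; group
    have hcx : Commute x (t * (n r.1 r.2 : G) * t⁻¹) := by
      have := ((Commute.conj_iff t).2 (mem_C.1 (n r.1 r.2).2)).symm
      rwa [ht2] at this
    have hne : ¬ (w r = 0 ∨ w r = e0) := fun e => by
      have hb := back F h B ht1 ht2 (hQm r) e
      rw [show t⁻¹ * (t * (n r.1 r.2 : G) * t⁻¹) * t = (n r.1 r.2 : G) by group] at hb
      have h1 := (F.π_ker (n r.1 r.2)).2 hb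
      obtain ⟨d, -, hdr⟩ := hSc r.1 r.2
      rw [← hn3 r.1 r.2, h1, mul_one, mul_inv_cancel] at hdr
      exact rep_spec.2.2.2.2.2.1 hdr.symm
    exact nz_mem _ (by rw [← B.vec]; exact (F.comm_iff x B.mem _ (hQm r)).1 hcx)
      ((F.sq_iff _ (hQm r)).1 hsq) (fun e => hne (Or.inl e)) (fun e => hne (Or.inr e))
  have hinj : Function.Injective fun r => nz (w r) := by
    intro r r' e
    have hv : F.vec ((t * (n r.1 r.2 : G) * t⁻¹) * (t * (n r'.1 r'.2 : G) * t⁻¹)) = w r + w r' :=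
      F.vec_mul _ (hQm r) _ (hQm r')
    have hb := back F h B ht1 ht2 (mul_mem (hQm r) (hQm r')) (by rw [hv]; exact nz_eq _ _ e)
    rw [show t⁻¹ * (t * (n r.1 r.2 : G) * t⁻¹ * (t * (n r'.1 r'.2 : G) * t⁻¹)) * t =
      (n r.1 r.2 : G) * (n r'.1 r'.2 : G) by group] at hb
    have h1 : F.π (n r.1 r.2 * n r'.1 r'.2) = 1 := (F.π_ker _).2 hb
    have h2 : F.π (n r'.1 r'.2 * n r'.1 r'.2) = 1 := by
      rw [show n r'.1 r'.2 * n r'.1 r'.2 = 1 from Subtype.ext (hn2 r'.1 r'.2), map_one]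
    rw [map_mul, hn3, hn3] at h1
    rw [map_mul, hn3] at h2
    exact Subtype.ext (mul_right_cancel (h1.trans h2.symm))
  have := Finset.card_le_card_of_injOn (s := S.attach) (fun r => nz (w r)) (fun r _ => hmem r) (hinj.injOn)
  rw [Finset.card_attach, hS, sing_perp] at this
  omega

theorem not_classC (h : Hyp z Q) (B : Base F x) {m : Subgroup.centralizer ({z} : Set G)} (hm : InQ z Q x m)
    (hmm : (m : G) * m = 1) : ¬ IsConj (F.π m) sC := by
  intro hc
  rcases rad_class (radAt F h B hm) with e | ⟨c, -, e⟩ | hC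
  · rw [e, isConj_one_right] at hc
    exact rep_spec.2.2.2.2.2.1 hc
  · exact not_conj ((isConj_iff.2 ⟨c, e⟩).symm.trans hc)
  · exact B.ne1 ((sq_classC F h B hm hC).symm.trans hmm)

theorem cls_C (h : Hyp z Q) (B : Base F x) :
    ∃ f : Subgroup.centralizer ({z} : Set G), InQ z Q x f ∧ (f : G) * f = x ∧ F.π f = sC := by
  obtain ⟨f, hf, hπ⟩ := rad_surj F h B rad_sC
  exact ⟨f, hf, sq_classC F h B hf ⟨1, one_mem _, by rw [hπ]; group⟩, hπ⟩

theorem cls_A (h : Hyp z Q) (B : Base F x) :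
    ∃ e : Subgroup.centralizer ({z} : Set G), InQ z Q x e ∧ (e : G) * e = 1 ∧ F.π e = sA := by
  obtain ⟨v, hv⟩ : (Finset.univ.filter fun v : V =>
      v ≠ 0 ∧ pol e0 v = 0 ∧ qm v = 0 ∧ v (.inl (.inl 0)) = 0).Nonempty :=
    Finset.card_pos.1 (by rw [sing_perp]; norm_num)
  simp only [Finset.mem_filter, Finset.mem_univ, true_and] at hv
  obtain ⟨hv0, hvp, hvq, hvc⟩ := hv
  obtain ⟨q, hq, rfl⟩ := F.vec_surj v
  obtain ⟨t, ht1, ht2⟩ := exists_swap F h B
  have hqx : Commute x q := (F.comm_iff x B.mem q hq).2 (by rw [B.vec]; exact hvp)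
  have hmz : Commute (t⁻¹ * q * t) z := by
    have := (Commute.conj_iff t⁻¹).2 hqx.symm
    rwa [← ht2, show t⁻¹ * q * t⁻¹⁻¹ = t⁻¹ * q * t by group,
      show t⁻¹ * (t * z * t⁻¹) * t⁻¹⁻¹ = z by group] at this
  have hmx : InQ z Q x (t⁻¹ * q * t) :=
    ⟨t⁻¹, by rw [inv_inv, ← ht1]; group, by
      rwa [show t⁻¹⁻¹ * (t⁻¹ * q * t) * t⁻¹ = q by group]⟩
  have hmm : t⁻¹ * q * t * (t⁻¹ * q * t) = 1 := by
    rw [show t⁻¹ * q * t * (t⁻¹ * q * t) = t⁻¹ * (q * q) * t by group, (F.sq_iff q hq).2 hvq]; group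
  set m := cC hmz
  rcases rad_class (radAt F h B (m := m) hmx) with e | ⟨c, hc, e⟩ | hC
  · exfalso
    have hQ := (F.π_ker m).1 e
    have hcoord : e0 (.inl (.inl 0)) = 1 := by decide +kernel
    have hzv : F.vec z = 0 := (F.vec_zero z (zQ h)).2 (Or.inr rfl)
    have hq' : F.vec q = 0 ∨ F.vec q = e0 := by
      rw [show q = t * (t⁻¹ * q * t) * t⁻¹ by group]
      rcases sect F h B hQ hmx with e' | e' | e' | e' <;> rw [show t⁻¹ * q * t = _ from e']
      · exact Or.inl (by rw [show t * 1 * t⁻¹ = (1 : G) by group, vec_one F h])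
      · exact Or.inr (by rw [ht2, B.vec])
      · exact Or.inl (by rw [ht1, hzv])
      · refine Or.inr ?_
        rw [show t * (x * z) * t⁻¹ = t * x * t⁻¹ * (t * z * t⁻¹) by group, ht1, ht2,
          F.vec_mul z (zQ h) x B.mem, hzv, zero_add, B.vec]
    rcases hq' with e' | e'
    · exact hv0 e'
    · rw [e', hcoord] at hvc; exact one_ne_zero hvc
  · obtain ⟨d, hd, hdx⟩ := move F h B.mem B.mem (by rw [B.vec]; exact e0_facts.1) (g := c)
      (by rw [B.vec]; exact hc)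
    refine ⟨d * m * d⁻¹, hmx.conj' (mul_inv_eq_iff_eq_mul.1 hdx), ?_, by rw [map_mul, map_mul, map_inv, hd, e]⟩
    show (d : G) * (t⁻¹ * q * t) * (d : G)⁻¹ * ((d : G) * (t⁻¹ * q * t) * (d : G)⁻¹) = 1
    rw [conj_mul, hmm]; group
  · exact absurd ((sq_classC F h B (m := m) hmx hC).symm.trans hmm) B.ne1

end Cfsg.Agent.Spor.SuzT
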