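import Cfsg.Agent.Lib.Spor.SuzUniqueTools
import Cfsg.Agent.Lib.Spor.SuzUniqueData
import Cfsg.Agent.Lib.Spor.SuzG24Data
import Cfsg.Agent.Lib.Lie.PermNine
import Cfsg.Agent.Lib.Lie.GTwoFourHallJanko.Data

/-!
Kernel checks for the uniqueness of the Suzuki group as a rank three group.
-/

set_option autoImplicit false
set_option maxRecDepth 100000
set_option Elab.async false

namespace Cfsg.Agent.Spor.SuzUnique

open Cfsg.Agent.Lie.PermNine (pg)

/-- a generator of the point stabiliser on the points -/
def g4 (s j : ℕ) : ℕ := bif Nat.blt s 6 then pg (Cfsg.Agent.Lie.GTwoFourHallJanko.baseP.getD s 0) j else j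

/-- a generator of the point stabiliser on the lines -/
def g13 (s i : ℕ) : ℕ := bif Nat.blt s 6 then Cfsg.Agent.Spor.SuzCert.G24Act.hrows s i else i

/-- the base -/
def b5 : List ℕ := [0, 1, 2, 4, 3]

/-- a table of a list of elements, the identity beyond -/
def tabF (P : List ℕ) (s j : ℕ) : ℕ := bif Nat.blt s P.length then pg (P.getD s 0) j else j

/-- tables agree with words -/
def tabOK (P : List ℕ) (f : ℕ → ℕ → ℕ) (W : List (List ℕ)) : Bool :=
  Nat.beq W.length P.length &&
    (List.range P.length).all fun s => (List.range 416).all fun j => Nat.beq (pg (P.getD s 0) j) (evW f (W.getD s []) j)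

/-- generators of the stabiliser of a line on points -/
def hF (k j : ℕ) : ℕ := tabF hsP k j
/-- generators of the stabiliser of a line on lines -/
def hL (k i : ℕ) : ℕ := evW g13 (hsW.getD k []) i
/-- generators of the two group on points -/
def uF (k j : ℕ) : ℕ := tabF uP k j
/-- generators of the two group on lines -/
def uL (k i : ℕ) : ℕ := evW hL (uW.getD k []) i
/-- generators of the five group on points -/
def pF (k j : ℕ) : ℕ := tabF pP k j
/-- generators of the five group on lines -/
def pL (k i : ℕ) : ℕ := evW g13 (pW.getD k []) i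
/-- generators of the stabiliser of a point -/
def jF (k j : ℕ) : ℕ := tabF jP k j

theorem hsP_ok : tabOK hsP g4 hsW = true := by decide +kernel

theorem uP_ok : tabOK uP hF uW = true := by decide +kernel

theorem pP_ok : tabOK pP g4 pW = true := by decide +kernel

theorem jP_ok : tabOK jP g4 jW = true := by decide +kernel

theorem hs_fix : ((List.range hsW.length).all fun k => Nat.beq (hL k 0) 0) = true := by decide +kernel

theorem j_fix : ((List.range jW.length).all fun k => Nat.beq (jF k 0) 0) = true := by decide +kernel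

/-! ### trees -/

theorem lineT_ok0 : treeOK 1365 g13 [0] lineT 0 700 = true := by decide +kernel
theorem lineT_ok1 : treeOK 1365 g13 [0] lineT 700 665 = true := by decide +kernel
theorem ptT_ok : treeOK 416 g4 [0] ptT 0 416 = true := by decide +kernel
theorem p1LineT_ok0 : treeOK 1365 hL p1LineR p1LineT 0 700 = true := by decide +kernel
theorem p1LineT_ok1 : treeOK 1365 hL p1LineR p1LineT 700 665 = true := by decide +kernel
theorem p1PtT_ok : treeOK 416 hF p1PtR p1PtT 0 416 = true := by decide +kernel
theorem uLineT_ok0 : treeOK 1365 uL uLineR uLineT 0 300 = true := by decide +kernel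
theorem uLineT_ok1 : treeOK 1365 uL uLineR uLineT 300 300 = true := by decide +kernel
theorem uLineT_ok2 : treeOK 1365 uL uLineR uLineT 600 400 = true := by decide +kernel
theorem uLineT_ok3 : treeOK 1365 uL uLineR uLineT 1000 365 = true := by decide +kernel
theorem uPtT_ok : treeOK 416 uF uPtR uPtT 0 416 = true := by decide +kernel
theorem pLineT_ok0 : treeOK 1365 pL pLineR pLineT 0 700 = true := by decide +kernel
theorem pLineT_ok1 : treeOK 1365 pL pLineR pLineT 700 665 = true := by decide +kernel
theorem jPtT_ok : treeOK 416 jF jPtR jPtT 0 416 = true := by decide +kernel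

/-- the roots are where the words put them -/
theorem root_words : (p1LineW.map fun w => evW g13 w 0) = p1LineR ∧ (uLineW.map fun w => evW g13 w 0) = uLineR ∧
    (pLineW.map fun w => evW g13 w 0) = pLineR := by decide +kernel

theorem root_lens : p1LineR.length = 4 ∧ p1LineR.getD 0 1 = 0 ∧ p1PtR.length = 2 ∧ uLineR.length = 6 ∧ uPtR.length = 5 ∧
    pLineR.length = 57 ∧ jPtR.length = 3 ∧ jPtR.getD 0 1 = 0 ∧ uLineR.getD 0 1 = 0 := by decide +kernel

theorem p1Line_sizes : ∀ l : Fin [1, 20, 320, 1024].length,
    (Finset.univ.filter fun x : Fin 1365 => tLab p1LineT x = l).card = [1, 20, 320, 1024].getD l 0 := by decide +kernel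

theorem p1Pt_sizes : ∀ l : Fin [96, 320].length,
    (Finset.univ.filter fun x : Fin 416 => tLab p1PtT x = l).card = [96, 320].getD l 0 := by decide +kernel

theorem uPt_sizes : ∀ l : Fin [32, 32, 32, 64, 256].length,
    (Finset.univ.filter fun x : Fin 416 => tLab uPtT x = l).card = [32, 32, 32, 64, 256].getD l 0 := by decide +kernel

theorem jPt_sizes : ∀ l : Fin [1, 100, 315].length,
    (Finset.univ.filter fun x : Fin 416 => tLab jPtT x = l).card = [1, 100, 315].getD l 0 := by decide +kernel

theorem p1_sums : (∀ S ∈ (Finset.range 2).powerset, (∑ l ∈ S, [96, 320].getD l 0) = 96 → S = {0}) ∧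
    (∀ S ∈ (Finset.range 4).powerset, 0 ∉ S → (∑ l ∈ S, [1, 20, 320, 1024].getD l 0) = 320 → S = {2}) := by
  decide +kernel

theorem u_sums : ∀ S ∈ (Finset.range 5).powerset, (∑ l ∈ S, [32, 32, 32, 64, 256].getD l 0) = 96 →
    S ∈ [{0, 1, 2}, {0, 3}, {1, 3}, ({2, 3} : Finset ℕ)] := by decide +kernel

theorem j_sums : ∀ S ∈ (Finset.range 3).powerset, 0 ∉ S →
    (∑ l ∈ S, [1, 100, 315].getD l 0) ∈ [0, 100, 315, 415] ∧
      ((∑ l ∈ S, [1, 100, 315].getD l 0) = 100 → S = {1}) := by decide +kernel

/-! ### transversals -/

theorem p1Lv_ok : lvOK hF p1Lv [] = true ∧ lvSize p1Lv = 184320 ∧ (p1Lv.all fun l => Nat.blt l.1 416) = true := by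
  decide +kernel

theorem jLv_ok : lvOK jF jLv [] = true ∧ lvSize jLv = 604800 ∧ (jLv.all fun l => Nat.blt l.1 416) = true := by
  decide +kernel

/-! ### the root group of the first line -/

/-- the nontrivial elements of the first root group -/
def zF (a j : ℕ) : ℕ := evW g4 ((nfW 2 a).flatMap fun i => zW.getD i []) j

/-- a root element of another line -/
def tF (w : List ℕ) (a j : ℕ) : ℕ := evW g4 w (zF a (evW g4 w.reverse j))

theorem z_base : ((List.range 2).all fun i => b5.all fun b => Nat.beq (evW g4 (zW.getD i []) b) (uF i b)) = true := by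
  decide +kernel

/-- action of a generator on the root group -/
def hzOK (k i : ℕ) : Bool :=
  Nat.blt ((hsZ.getD k []).getD i 0) 4 &&
    b5.all fun b => Nat.beq (hF k (evW g4 (zW.getD i []) (evW g4 (hsW.getD k []).reverse b))) (zF ((hsZ.getD k []).getD i 0) b)

theorem hs_z : ((List.range hsW.length).all fun k => (List.range 2).all (hzOK k)) = true := by decide +kernel

theorem z_trans : ((List.range' 2 2).all fun a =>
    b5.all fun b => Nat.beq (tF ((zTo.getD a []).flatMap fun k => hsW.getD k []) 1 b) (zF a b)) = true := by decide +kernel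

theorem z_ne : ((List.range' 1 3).all fun a => b5.any fun b => !(Nat.beq (zF a b) b)) = true := by decide +kernel

/-- root groups of the roots meet the first trivially -/
theorem z_disjoint : ((List.range' 1 3).all fun l => (List.range' 1 3).all fun a => (List.range 4).all fun c =>
    b5.any fun b => !(Nat.beq (tF (p1LineW.getD l []) a b) (zF c b))) = true := by decide +kernel

theorem p1_moved : ((List.range' 1 3).all fun l =>
    Nat.blt (p1Moved.getD (l - 1) 0) 416 && Nat.beq (tLab p1PtT (p1Moved.getD (l - 1) 0)) 0 &&
      !(Nat.beq (tLab p1PtT (evW g4 (p1LineW.getD l []) (p1Moved.getD (l - 1) 0))) 0)) = true := by decide +kernel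

/-! ### the two group -/

/-- an element of the two group -/
def nfF (a j : ℕ) : ℕ := evW uF (nfW 12 a) j

/-- relations of the series -/
def serOK (k : ℕ) : Bool :=
  Nat.blt (uSq.getD k 0) (2 ^ k) && (b5.all fun b => Nat.beq (uF k (uF k b)) (evW uF (nfW k (uSq.getD k 0)) b)) &&
    (List.range k).all fun i => Nat.blt ((uCj.getD k []).getD i 0) (2 ^ k) &&
      b5.all fun b => Nat.beq (uF k (uF i b)) (evW uF (nfW k ((uCj.getD k []).getD i 0)) (uF k b))

theorem ser_ok : ((List.range 12).all serOK) = true := by decide +kernel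

/-- a new generator -/
def serNew (k : ℕ) : Bool :=
  (List.range (2 ^ k)).all fun a => b5.any fun b => !(Nat.beq (uF k b) (evW uF (nfW k a) b))

theorem ser_new : ((List.range 12).all serNew) = true := by decide +kernel

theorem u_fix : ((List.range 12).all fun k => Nat.beq (uL k 0) 0) = true ∧ uP.length = 12 ∧ hsP.length = 3 := by
  decide +kernel

theorem u_central : ((List.range 2).all fun i => (List.range 12).all fun k =>
    b5.all fun b => Nat.beq (uF i (uF k b)) (uF k (uF i b))) = true := by decide +kernel

/-- commutators in the large subgroup -/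
def cmOK (i j : ℕ) : Bool :=
  Nat.blt ((qCm.getD i []).getD j 0) 4 &&
    b5.all fun b => Nat.beq (uF i (uF j b)) (evW uF (nfW 2 ((qCm.getD i []).getD j 0)) (uF j (uF i b)))

theorem q_comm : ((List.range 10).all fun i => (List.range 10).all (cmOK i)) = true := by decide +kernel

theorem q_form : ((List.range 8).all fun i => (List.range 8).all fun j =>
    Nat.beq (bif ((qCm.getD (i + 2) []).getD (j + 2) 0).testBit qBit then 1 else 0) ((qJ.getD i []).getD j 0)) = true ∧
    qBit = 0 := by decide +kernel

theorem q_inv : ((List.range 8).all fun i => (List.range 8).all fun j => Nat.beq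
    (((List.range 8).map fun k => (qJ.getD i []).getD k 0 * (qJi.getD k []).getD j 0).sum % 2)
    (bif Nat.beq i j then 1 else 0)) = true := by decide +kernel

theorem u_in : ((List.range 3).all fun l => (List.range' 1 3).all fun a =>
    Nat.blt ((uIn.getD l []).getD a 0) 4096 &&
      b5.all fun b => Nat.beq (tF (uLineW.getD l []) a b) (nfF ((uIn.getD l []).getD a 0) b)) = true := by decide +kernel

/-- the four possible sets -/
def candS : List (List ℕ) := [[0, 1, 2], [0, 3], [1, 3], [2, 3]]

theorem u_moved : ((List.range' 3 3).all fun l => (List.range' 1 3).all fun a => (List.range 4).all fun c =>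
    (fun p => Nat.blt p 416 && (candS.getD c []).contains (tLab uPtT p) &&
        !(candS.getD c []).contains (tLab uPtT (tF (uLineW.getD l []) a p)))
      ((uMoved.getD (3 * (l - 3) + (a - 1)) []).getD c 0)) = true := by decide +kernel

theorem u_noncomm : ((List.range' 1 2).all fun l => (List.range' 1 3).all fun a =>
    (fun q : List ℕ × ℕ × ℕ =>
      Nat.blt q.2.1 1365 && Nat.beq (evW g13 q.1 0) q.2.1 && Nat.blt (tLab uLineT q.2.1) 3 &&
        Nat.ble 1 q.2.2 && Nat.blt q.2.2 4 &&
        b5.any fun b => !(Nat.beq (tF (uLineW.getD l []) a (tF q.1 q.2.2 b)) (tF q.1 q.2.2 (tF (uLineW.getD l []) a b))))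
      (uNonComm.getD (3 * (l - 1) + (a - 1)) ([], 0, 0))) = true := by decide +kernel

/-! ### the five group -/

theorem p_rel : (b5.all fun b => Nat.beq (pF 0 (pF 1 b)) (pF 1 (pF 0 b)) && Nat.beq (evW pF [0, 0, 0, 0, 0] b) b &&
    Nat.beq (evW pF [1, 1, 1, 1, 1] b) b && Nat.beq (pF 0 (pF 2 b)) b && Nat.beq (pF 1 (pF 3 b)) b) = true ∧
    (b5.any fun b => !(Nat.beq (pF 0 b) b)) = true ∧
    ((List.range 5).all fun i => b5.any fun b => !(Nat.beq (pF 1 b) (evW pF (List.replicate i 0) b))) = true := by
  decide +kernel

/-- generators of the group made by the five group and a root element -/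
def cF (w : List ℕ) (a s j : ℕ) : ℕ :=
  bif Nat.beq s 2 then tF w a j else tabF pP (bif Nat.blt s 2 then s else s - 1) j

/-- a certificate -/
def caseOK (r a : ℕ) : Bool :=
  (fun q : ℕ × List ℕ × ℕ × List ℕ × List ℕ =>
    bif Nat.beq q.1 0 then
      Nat.blt q.2.2.1 416 &&
      (fun f => Nat.beq ((List.range 13).foldl (fun u _ => evW f q.2.1 u) q.2.2.1) q.2.2.1 &&
        !(Nat.beq (evW f q.2.1 q.2.2.1) q.2.2.1)) (cF (pLineW.getD r []) a)
    else bif Nat.beq q.1 1 then
      Nat.blt q.2.2.1 416 && Nat.beq (evW g4 q.2.2.2.2 0) q.2.2.1 &&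
      (b5.all fun b => Nat.beq (evW (cF (pLineW.getD r []) a) q.2.1 b)
          (evW g4 q.2.2.2.2 (jF 0 (evW g4 q.2.2.2.2.reverse b))) &&
        Nat.beq (evW (cF (pLineW.getD r []) a) q.2.2.2.1 b)
          (evW g4 q.2.2.2.2 (jF 1 (evW g4 q.2.2.2.2.reverse b))))
    else true) (caseT.getD (3 * r + (a - 1)) (2, [], 0, [], []))

theorem case_ok0 : ((List.range' 0 15).all fun r => (List.range' 1 3).all (caseOK r)) = true := by decide +kernel
theorem case_ok1 : ((List.range' 15 15).all fun r => (List.range' 1 3).all (caseOK r)) = true := by decide +kernel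
theorem case_ok2 : ((List.range' 30 15).all fun r => (List.range' 1 3).all (caseOK r)) = true := by decide +kernel
theorem case_ok3 : ((List.range' 45 12).all fun r => (List.range' 1 3).all (caseOK r)) = true := by decide +kernel

theorem amb_few : ((List.range 171).filter fun i => Nat.beq (caseT.getD i (2, [], 0, [], [])).1 2).length = 9 := by
  decide +kernel

/-! ### the graph on the suborbit -/

/-- adjacency to a base vertex -/
def adjB (k v : ℕ) : Bool := (baseN.getD k 0).testBit v

/-- the row of a base vertex is the image of the first row -/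
def rowOK (k : ℕ) : Bool :=
  Nat.beq (evW g4 (baseW.getD k []) 0) (baseV.getD k 0) &&
    (List.range 416).all fun j => adjB k (evW g4 (baseW.getD k []) j) == Nat.beq (tLab jPtT j) 1

theorem row_ok : ((List.range 21).all rowOK) = true := by decide +kernel

/-- the pattern of a point -/
def pattN (v : ℕ) : ℕ :=
  (List.range 21).foldl (fun acc k => 4 * acc + (bif Nat.beq v (baseV.getD k 0) then 2 else bif adjB k v then 1 else 0)) 0

theorem base_patt : ((List.range 416).map pattN).Nodup := by decide +kernel

/-- candidates for a base image -/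
def candsN (i : ℕ) : List ℕ :=
  (List.range 416).filter fun v => (List.range i).all fun k =>
    !(Nat.beq v (baseV.getD k 0)) && adjB k v == adjB k (baseV.getD i 0)

theorem base_counts : baseV.length = 21 ∧ (baseV.all fun b => Nat.blt b 416) = true ∧ baseV.Nodup ∧
    ((List.range 21).all fun i => Nat.ble (candsN i).length (baseC.getD i 0)) = true ∧
    ((List.range 21).map fun i => baseC.getD i 0).prod = 503193600 := by decide +kernel

end Cfsg.Agent.Spor.SuzUnique
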