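import Cfsg.Agent.Lib.Spor.SuzUniqueHall

/-!
A subgroup of index 1365 with an invariant set of 96 points is the stabiliser of a line.
-/

set_option autoImplicit false
set_option maxRecDepth 100000
set_option linter.style.haveILetI false

namespace Cfsg.Agent.Spor.SuzUnique

attribute [local irreducible] g4 g13 hF hL uF uL pF pL jF zF tF nfF

theorem uLine_word {l : ℕ} (hl : l < 6) : evW g13 (uLineW.getD l []) 0 = uLineR.getD l 0 := by
  have hlen : uLineW.length = 6 := by
    rw [← root_lens.2.2.2.1, ← root_words.2.1, List.length_map]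
  have := congrArg (fun L : List ℕ => L.getD l 0) root_words.2.1
  simpa [List.getD_eq_getElem?_getD, List.getElem?_map, List.getElem?_eq_getElem (show l < uLineW.length by omega)]
    using this

theorem range33 {l : ℕ} (h1 : 3 ≤ l) (h2 : l < 6) : l ∈ List.range' 3 3 := List.mem_range'_1.2 ⟨h1, by omega⟩

namespace Model

variable {X : Type} [Group X] (D : Model X)

/-- every root element of a line is moved by the two group to a listed one -/
theorem root_case {i : Fin 1365} {x : X} (h : D.IsRoot i x) : ∃ v ∈ D.U, ∃ a ∈ List.range' 1 3,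
    x = v * D.tel (uLineW.getD (tLab uLineT i) []) a * v⁻¹ := by
  obtain ⟨v, hv, q, hq, hvq⟩ := tree_reach uLineT_all D.u_U D.u_psi i
  have hl := tree_lab uLineT_all i
  rw [root_lens.2.2.2.1] at hl
  have h' := D.root_conj h v⁻¹
  rw [← hvq, map_inv, Equiv.Perm.inv_def, Equiv.symm_apply_apply] at h'
  obtain ⟨a, ha, e⟩ := D.root_eq_tel ((uLine_word hl).trans hq.symm) h'
  exact ⟨v, hv, a, ha, by rw [← e]; group⟩

/-- the root groups of the twenty one lines lie in the two group -/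
theorem root_in_U {i : Fin 1365} (hi : tLab uLineT i < 3) {x : X} (h : D.IsRoot i x) : x ∈ D.U := by
  obtain ⟨v, hv, a, ha, rfl⟩ := D.root_case h
  refine mul_mem (mul_mem hv ?_) (inv_mem hv)
  have h' := List.all_eq_true.mp (List.all_eq_true.mp u_in _ (List.mem_range.mpr hi)) a ha
  simp only [Bool.and_eq_true] at h'
  have e : ∀ j : Fin 416, (D.φ (elW D.u (nfW 12 ((uIn.getD (tLab uLineT i) []).getD a 0))) j : ℕ) =
      nfF ((uIn.getD (tLab uLineT i) []).getD a 0) j := fun j => by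
    rw [nf_phi]; unfold nfF; rfl
  rw [D.eq_of_b5 (D.tel_phi _ a) e h'.2]
  exact nf_mem _ _ _

/-- a root element keeping the set belongs to one of the twenty one lines -/
theorem root_keep {M : Finset (Fin 416)} (hM : M.card = 96) (hU : ∀ v ∈ D.U, ∀ y ∈ M, D.φ v y ∈ M) {i : Fin 1365}
    {x : X} (h : D.IsRoot i x) (hx : ∀ y ∈ M, D.φ x y ∈ M) : tLab uLineT i < 3 := by
  obtain ⟨S, hS, hMS⟩ := exists_labels uPtT_all D.u_U D.u_phi M hU
  rw [root_lens.2.2.2.2.1] at hS
  have hcard := card_labels hMS uPt_sizes fun l hl => by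
    have := Finset.mem_range.1 (Finset.mem_powerset.1 hS hl)
    simpa using this
  rw [hM] at hcard
  have hcand := u_sums S hS hcard.symm
  obtain ⟨v, hv, a, ha, rfl⟩ := D.root_case h
  set l := tLab uLineT i with hl
  by_contra h3
  have hl6 := tree_lab uLineT_all i
  rw [root_lens.2.2.2.1] at hl6
  have hS' : ∃ c < 4, ∀ k, k ∈ S ↔ (candS.getD c []).contains k = true := by
    simp only [List.mem_cons, List.not_mem_nil, or_false] at hcand
    rcases hcand with rfl | rfl | rfl | rfl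
    · exact ⟨0, by norm_num, fun k => by simp [candS]⟩
    · exact ⟨1, by norm_num, fun k => by simp [candS]⟩
    · exact ⟨2, by norm_num, fun k => by simp [candS]⟩
    · exact ⟨3, by norm_num, fun k => by simp [candS]⟩
  obtain ⟨c, hc, hmemS⟩ := hS'
  have hchk := List.all_eq_true.mp (List.all_eq_true.mp (List.all_eq_true.mp u_moved l
    (range33 (not_lt.1 h3) hl6)) a ha) c (List.mem_range.mpr hc)
  simp only [Bool.and_eq_true, Bool.not_eq_true'] at hchk
  obtain ⟨⟨hp, hin⟩, hout⟩ := hchk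
  set p : Fin 416 := ⟨_, blt_lt hp⟩
  have hpM : p ∈ M := (hMS p).2 ((hmemS _).2 hin)
  have := hU v⁻¹ (inv_mem hv) _ (hx _ (hU v hv p hpM))
  rw [map_mul, map_mul, Equiv.Perm.mul_apply, Equiv.Perm.mul_apply, map_inv, Equiv.Perm.inv_def,
    Equiv.symm_apply_apply, Equiv.symm_apply_apply] at this
  have h2 := (hmemS _).1 ((hMS _).1 this)
  rw [tel_phi] at h2
  rw [h2] at hout
  exact Bool.noConfusion hout

/-- the first line is distinguished among the twenty one -/
theorem noncomm {i : Fin 1365} (hi : tLab uLineT i < 3) (hne : i ≠ l0) {x : X} (h : D.IsRoot i x) :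
    ∃ k : Fin 1365, ∃ y, D.IsRoot k y ∧ y ∈ D.U ∧ x * y ≠ y * x := by
  obtain ⟨v, hv, q, hq, hvq⟩ := tree_reach uLineT_all D.u_U D.u_psi i
  have hl6 := tree_lab uLineT_all i
  rw [root_lens.2.2.2.1] at hl6
  have hl0 : tLab uLineT i ≠ 0 := fun e => by
    rw [e] at hq
    have : q = l0 := Fin.ext (by
      rw [hq, List.getD_eq_getElem _ _ (by rw [root_lens.2.2.2.1]; norm_num)]
      have := root_lens.2.2.2.2.2.2.2.2
      rwa [List.getD_eq_getElem _ _ (by rw [root_lens.2.2.2.1]; norm_num)] at this)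
    rw [this, show D.ψ v l0 = l0 from D.U_le_P1 hv] at hvq
    exact hne hvq.symm
  have h' := D.root_conj h v⁻¹
  rw [← hvq, map_inv, Equiv.Perm.inv_def, Equiv.symm_apply_apply] at h'
  obtain ⟨a, ha, e⟩ := D.root_eq_tel ((uLine_word hl6).trans hq.symm) h'
  have hchk := List.all_eq_true.mp (List.all_eq_true.mp u_noncomm (tLab uLineT i)
    (List.mem_range'_1.2 ⟨Nat.pos_of_ne_zero hl0, by omega⟩)) a ha
  set w := uNonComm.getD (3 * (tLab uLineT i - 1) + (a - 1)) ([], 0, 0) with hw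
  simp only [Bool.and_eq_true] at hchk
  obtain ⟨⟨⟨⟨⟨hk, hroot⟩, hlab⟩, hb1⟩, hb2⟩, hnc⟩ := hchk
  set k : Fin 1365 := ⟨w.2.1, blt_lt hk⟩
  have hr := D.root_tel (i := k) (Nat.eq_of_beq_eq_true hroot) (range13 (Nat.le_of_ble_eq_true hb1) (blt_lt hb2))
  refine ⟨D.ψ v k, v * D.tel w.1 w.2.2 * v⁻¹, D.root_conj hr v,
    mul_mem (mul_mem hv (D.root_in_U (blt_lt hlab) hr)) (inv_mem hv), fun hcom => ?_⟩
  · refine D.ne_of_b5 (D.mul_phi (D.tel_phi _ a) (D.tel_phi _ _)) (D.mul_phi (D.tel_phi _ _) (D.tel_phi _ a)) hnc ?_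
    have e2 : x = v * D.tel (uLineW.getD (tLab uLineT i) []) a * v⁻¹ := by rw [← e]; group
    rw [e2] at hcom
    calc D.tel (uLineW.getD (tLab uLineT i) []) a * D.tel w.1 w.2.2 =
        v⁻¹ * (v * D.tel (uLineW.getD (tLab uLineT i) []) a * v⁻¹ * (v * D.tel w.1 w.2.2 * v⁻¹)) * v := by group
      _ = _ := by rw [hcom]; group

/-- an overgroup of the two group with an invariant set fixes the first line -/
theorem over_U {H : Subgroup X} (hU : D.U ≤ H) {M : Finset (Fin 416)} (hM : M.card = 96)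
    (hH : ∀ g ∈ H, ∀ y ∈ M, D.φ g y ∈ M) : H ≤ D.P1 := by
  intro g hg
  have keep : ∀ {i : Fin 1365} {x : X}, D.IsRoot i x → x ∈ H → x ∈ D.U := fun hr hx =>
    D.root_in_U (D.root_keep hM (fun v hv => hH v (hU hv)) hr (hH _ hx)) hr
  have hz : D.za 1 ∈ D.Z0 := D.za_mem 1
  have hzU : D.za 1 ∈ D.U := serG_mono _ (by norm_num) hz
  have hx := D.root_conj (D.root_za one_mem13) g
  have hxH : g * D.za 1 * g⁻¹ ∈ H := mul_mem (mul_mem hg (hU hzU)) (inv_mem hg)
  have hlab := D.root_keep hM (fun v hv => hH v (hU hv)) hx (hH _ hxH)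
  rw [mem_P1]
  by_contra hne
  obtain ⟨k, y, hy, hyU, hnc⟩ := D.noncomm hlab hne hx
  have hy' := D.root_conj hy g⁻¹
  have hyU' := keep hy' (mul_mem (mul_mem (inv_mem hg) (hU hyU)) (inv_mem (inv_mem hg)))
  have hc := D.Z0_central hz hyU'
  apply hnc
  calc g * D.za 1 * g⁻¹ * y = g * (D.za 1 * (g⁻¹ * y * g⁻¹⁻¹)) * g⁻¹ := by group
    _ = g * ((g⁻¹ * y * g⁻¹⁻¹) * D.za 1) * g⁻¹ := by rw [hc]
    _ = y * (g * D.za 1 * g⁻¹) := by group

/-- subgroups of index 1365 with an invariant set of 96 points are stabilisers of lines -/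
theorem index1365 (H : Subgroup X) (hH : H.index = 1365) (M : Finset (Fin 416)) (hM : M.card = 96)
    (hinv : ∀ g ∈ H, ∀ y ∈ M, D.φ g y ∈ M) : ∃ i : Fin 1365, H = D.P i := by
  haveI := D.finite
  haveI : Fact (Nat.Prime 2) := ⟨Nat.prime_two⟩
  have hc : Nat.card H = 184320 := by
    have h := Subgroup.card_mul_index H
    rw [hH, D.card] at h
    omega
  obtain ⟨S, hS⟩ := Sylow.exists_subgroup_card_pow_prime 2 (n := 12) (G := H) (by rw [hc]; norm_num)
  have hS' : Nat.card (S.map H.subtype) = 2 ^ 12 := by rw [Subgroup.card_map_of_injective H.subtype_injective, hS]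
  obtain ⟨g, hg⟩ := conj_le (p := 2) (n := 12) (D.ser_facts le_rfl).1 (by rw [D.card]; norm_num)
    (IsPGroup.of_card hS')
  have hU : D.U ≤ H.map (MulAut.conj g).toMonoidHom := by
    have e := Subgroup.eq_of_le_of_card_ge hg (by
      rw [card_conj_map, hS', (D.ser_facts le_rfl).1])
    rw [U, ← e]
    exact Subgroup.map_mono (Subgroup.map_subtype_le S)
  have hle := D.over_U hU (M := M.map (D.φ g).toEmbedding) (by rw [Finset.card_map, hM]) (by
    rintro _ ⟨h, hh, rfl⟩ y hy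
    obtain ⟨y, hy', rfl⟩ := Finset.mem_map.1 hy
    refine Finset.mem_map.2 ⟨D.φ h y, hinv h hh y hy', ?_⟩
    simp only [MulEquiv.coe_toMonoidHom, MulAut.conj_apply, map_mul, map_inv, Equiv.Perm.mul_apply,
      Equiv.Perm.inv_def, Equiv.coe_toEmbedding, Equiv.symm_apply_apply])
  refine ⟨D.ψ g⁻¹ l0, Subgroup.eq_of_le_of_card_ge (fun x hx => ?_) (by rw [hc, card_P])⟩
  have h1 := hle (Subgroup.mem_map_of_mem (MulAut.conj g).toMonoidHom hx)
  rw [mem_P1] at h1
  simp only [MulEquiv.coe_toMonoidHom, MulAut.conj_apply, map_mul, map_inv, Equiv.Perm.mul_apply,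
    Equiv.Perm.inv_def] at h1
  rw [mem_P, map_inv, Equiv.Perm.inv_def, Equiv.eq_symm_apply]
  exact h1

end Model

end Cfsg.Agent.Spor.SuzUnique
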