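import Cfsg.Agent.Lib.Spor.SuzUniqueGraph
import Cfsg.Agent.Lib.Spor.SuzUniqueParabolic

/-!
The graph is determined by the point stabiliser acting on points and lines.
-/

set_option autoImplicit false
set_option maxRecDepth 100000
set_option linter.style.haveILetI false

namespace Cfsg.Agent.Spor.SuzUnique

attribute [local irreducible] g4 g13 hF hL uF uL pF pL jF zF tF nfF

/-- the vertices: a point, the suborbit of 416 points and the suborbit of 1365 lines -/
abbrev V : Type := Option (Fin 416 ⊕ Fin 1365)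

namespace Model

variable {X : Type} [Group X] (D : Model X)

/-- an element taking the first point to a given one -/
noncomputable def cPt (q : Fin 416) : X := (D.point_trans q).choose

theorem cPt_spec (q : Fin 416) : D.φ (D.cPt q) p0 = q := (D.point_trans q).choose_spec

/-- an element taking the first line to a given one -/
noncomputable def cLn (i : Fin 1365) : X := (D.line_trans i).choose

theorem cLn_spec (i : Fin 1365) : D.ψ (D.cLn i) l0 = i := (D.line_trans i).choose_spec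

/-- the action on the vertices -/
def actV (g : X) (u : V) : V := u.map (Sum.map (D.φ g) (D.ψ g))

/-- the adjacency -/
def R : V → V → Prop
  | none, none => False
  | none, some (Sum.inl _) => True
  | none, some (Sum.inr _) => False
  | some (Sum.inl _), none => True
  | some (Sum.inr _), none => False
  | some (Sum.inl q), some (Sum.inl r) => tLab jPtT (D.φ (D.cPt q)⁻¹ r) = 1
  | some (Sum.inl q), some (Sum.inr i) => tLab p1PtT (D.φ (D.cLn i)⁻¹ q) = 0
  | some (Sum.inr i), some (Sum.inl q) => tLab p1PtT (D.φ (D.cLn i)⁻¹ q) = 0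
  | some (Sum.inr i), some (Sum.inr j) => tLab p1LineT (D.ψ (D.cLn i)⁻¹ j) = 2

end Model

/-- a setting with an identification of the point stabiliser -/
structure Ctx (Ω : Type*) [Fintype Ω] [DecidableEq Ω] (X : Type) [Group X] where
  /-- the setting -/
  S : Setting Ω
  /-- the tables -/
  D : Model X
  /-- the identification -/
  θ : X ≃* MulAction.stabilizer S.G S.a

namespace Ctx

noncomputable section

variable {Ω : Type*} [Fintype Ω] [DecidableEq Ω] {X : Type} [Group X] (C : Ctx Ω X)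

/-- the element of the group -/
def gs (g : X) : C.S.G := (C.θ g).1

theorem gs_fix (g : X) : C.gs g • C.S.a = C.S.a := (C.θ g).2

theorem gs_mul (g h : X) : C.gs (g * h) = C.gs g * C.gs h := by rw [gs, gs, gs, map_mul, Subgroup.coe_mul]

/-- the action of the model stabiliser -/
def sm (g : X) (y : Ω) : Ω := C.gs g • y

theorem sm_mul (g h : X) (y : Ω) : C.sm (g * h) y = C.sm g (C.sm h y) := by rw [sm, sm, sm, gs_mul, mul_smul]

theorem sm_one (y : Ω) : C.sm 1 y = y := by rw [sm, gs, map_one, OneMemClass.coe_one, one_smul]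

theorem sm_a (g : X) : C.sm g C.S.a = C.S.a := C.gs_fix g

theorem sm_inv_sm (g : X) (y : Ω) : C.sm g⁻¹ (C.sm g y) = y := by rw [← sm_mul, inv_mul_cancel, sm_one]

theorem sm_sm_inv (g : X) (y : Ω) : C.sm g (C.sm g⁻¹ y) = y := by rw [← sm_mul, mul_inv_cancel, sm_one]

theorem adj_sm (g : X) (y z : Ω) : C.S.Adj (C.sm g y) (C.sm g z) ↔ C.S.Adj y z := C.S.adj_smul _ y z

theorem sm_oB (g : X) {y : Ω} (hy : y ∈ C.S.oB) : C.sm g y ∈ C.S.oB := C.S.smul_oB (C.gs_fix g) hy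

theorem sm_oC (g : X) {y : Ω} (hy : y ∈ C.S.oC) : C.sm g y ∈ C.S.oC := C.S.smul_oC (C.gs_fix g) hy

theorem orbit_sm {x y : Ω} (hy : y ∈ MulAction.orbit (MulAction.stabilizer C.S.G C.S.a) x) :
    ∃ g : X, C.sm g x = y := by
  obtain ⟨k, rfl⟩ := hy
  refine ⟨C.θ.symm k, ?_⟩
  rw [sm, gs, MulEquiv.apply_symm_apply]
  rfl

/-- the elements fixing a point -/
def stX (x : Ω) : Subgroup X where
  carrier := {g | C.sm g x = x}
  mul_mem' {g h} hg hh := by show C.sm (g * h) x = x; rw [sm_mul, hh, hg]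
  one_mem' := C.sm_one x
  inv_mem' {g} hg := by
    show C.sm g⁻¹ x = x
    conv_lhs => rw [← (hg : C.sm g x = x), sm_inv_sm]

theorem mem_stX {x : Ω} {g : X} : g ∈ C.stX x ↔ C.sm g x = x := Iff.rfl

theorem index_stX (x : Ω) :
    (C.stX x).index = (MulAction.orbit (MulAction.stabilizer C.S.G C.S.a) x).ncard := by
  have e : C.stX x = (MulAction.stabilizer (MulAction.stabilizer C.S.G C.S.a) x).comap C.θ.toMonoidHom := by
    ext g
    exact Iff.rfl
  rw [e, Subgroup.index_comap_of_surjective _ (MulEquiv.surjective C.θ), MulAction.index_stabilizer]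

theorem exists_bp : ∃ b' ∈ C.S.oB, ∀ g : X, C.sm g b' = b' ↔ C.D.φ g p0 = p0 := by
  obtain ⟨q, hq⟩ := C.D.index416 (C.stX C.S.b) ((C.index_stX _).trans C.S.hb)
  obtain ⟨k, hk⟩ := C.D.point_trans q
  refine ⟨C.sm k⁻¹ C.S.b, C.sm_oB _ (MulAction.mem_orbit_self _), fun g => ?_⟩
  have : k * g * k⁻¹ ∈ C.stX C.S.b ↔ k * g * k⁻¹ ∈ C.D.J q := by rw [hq]
  rw [mem_stX, sm_mul, sm_mul, Model.mem_J, map_mul, map_mul, Equiv.Perm.mul_apply, Equiv.Perm.mul_apply, map_inv,
    Equiv.Perm.inv_def, show (C.D.φ k).symm q = p0 by rw [← hk, Equiv.symm_apply_apply]] at this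
  constructor
  · intro h
    have h2 := this.1 (by rw [h, sm_sm_inv])
    exact (C.D.φ k).injective (h2.trans hk.symm)
  · intro h
    have h2 := this.2 (by rw [h, hk])
    calc C.sm g (C.sm k⁻¹ C.S.b) = C.sm k⁻¹ (C.sm k (C.sm g (C.sm k⁻¹ C.S.b))) := (C.sm_inv_sm _ _).symm
      _ = C.sm k⁻¹ C.S.b := by rw [h2]

/-- the point of the first suborbit point -/
def bp : Ω := C.exists_bp.choose

theorem bp_oB : C.bp ∈ C.S.oB := C.exists_bp.choose_spec.1

theorem bp_fix {g : X} : C.sm g C.bp = C.bp ↔ C.D.φ g p0 = p0 := C.exists_bp.choose_spec.2 g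

/-- the points of the smaller suborbit -/
def f (q : Fin 416) : Ω := C.sm (C.D.cPt q) C.bp

theorem f_of {g : X} {q : Fin 416} (hg : C.D.φ g p0 = q) : C.f q = C.sm g C.bp := by
  have hm : C.D.φ (g⁻¹ * C.D.cPt q) p0 = p0 := by
    rw [map_mul, Equiv.Perm.mul_apply, C.D.cPt_spec, ← hg, map_inv, Equiv.Perm.inv_def, Equiv.symm_apply_apply]
  rw [f, show C.D.cPt q = g * (g⁻¹ * C.D.cPt q) from (mul_inv_cancel_left _ _).symm, C.sm_mul, C.bp_fix.2 hm]

theorem f_act (g : X) (q : Fin 416) : C.f (C.D.φ g q) = C.sm g (C.f q) := by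
  rw [C.f_of (g := g * C.D.cPt q) (by rw [map_mul, Equiv.Perm.mul_apply, C.D.cPt_spec]), sm_mul]
  rfl

theorem f_p0 : C.f p0 = C.bp := by rw [C.f_of (g := 1) (by rw [map_one]; rfl), sm_one]

theorem f_oB (q : Fin 416) : C.f q ∈ C.S.oB := C.sm_oB _ C.bp_oB

theorem f_inj : Function.Injective C.f := by
  intro q r e
  have h : C.D.φ (C.D.cPt r)⁻¹ q = p0 := by
    rw [← C.D.cPt_spec q, ← Equiv.Perm.mul_apply, ← map_mul, ← C.bp_fix, C.sm_mul,
      show C.sm (C.D.cPt q) C.bp = C.sm (C.D.cPt r) C.bp from e, sm_inv_sm]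
  rw [map_inv, Equiv.Perm.inv_def, Equiv.symm_apply_eq, C.D.cPt_spec] at h
  exact h

theorem f_surj {y : Ω} (hy : y ∈ C.S.oB) : ∃ q, C.f q = y := by
  obtain ⟨g, rfl⟩ := C.orbit_sm (show y ∈ MulAction.orbit _ C.bp by rw [MulAction.orbit_eq_iff.mpr C.bp_oB]; exact hy)
  exact ⟨C.D.φ g p0, C.f_of rfl⟩

/-- the points adjacent to a vertex -/
def nbB (y : Ω) : Finset (Fin 416) := by
  classical exact Finset.univ.filter fun q => C.S.Adj y (C.f q)

theorem mem_nbB {y : Ω} {q : Fin 416} : q ∈ C.nbB y ↔ C.S.Adj y (C.f q) := by simp [nbB]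

theorem card_nbB (y : Ω) : (C.nbB y).card = (C.S.inB y).card := by
  refine Finset.card_bij (fun q _ => C.f q) (fun q hq => ?_) (fun q _ r _ e => C.f_inj e) (fun z hz => ?_)
  · exact Finset.mem_inter.2 ⟨C.S.mem_N.2 (C.mem_nbB.1 hq), C.S.mem_fB.2 (C.f_oB q)⟩
  · obtain ⟨h1, h2⟩ := Finset.mem_inter.1 hz
    obtain ⟨q, rfl⟩ := C.f_surj (C.S.mem_fB.1 h2)
    exact ⟨q, C.mem_nbB.2 (C.S.mem_N.1 h1), rfl⟩

theorem nbB_inv {y : Ω} {g : X} (hg : C.sm g y = y) {q : Fin 416} (hq : q ∈ C.nbB y) : C.D.φ g q ∈ C.nbB y := by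
  rw [mem_nbB, f_act] at *
  rw [← hg, adj_sm]
  exact hq

theorem bp_row : (∀ q : Fin 416, C.S.Adj C.bp (C.f q) ↔ tLab jPtT q = 1) ∧ (C.S.inB C.S.b).card = 100 := by
  have hjk : ∀ k, C.D.jk k ∈ C.D.J p0 := C.D.jk_mem
  obtain ⟨S, hS, hmem⟩ := exists_labels jPtT_all (H := C.D.J p0) hjk C.D.jk_phi (C.nbB C.bp)
    (fun g hg q hq => C.nbB_inv (C.bp_fix.2 hg) hq)
  rw [root_lens.2.2.2.2.2.2.1] at hS
  have hcard := card_labels hmem jPt_sizes fun l hl => by
    simpa using Finset.mem_range.1 (Finset.mem_powerset.1 hS hl)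
  have h0 : 0 ∉ S := fun h => by
    have hp : tLab jPtT p0 = 0 := by decide +kernel
    have := C.mem_nbB.1 ((hmem p0).2 (hp.symm ▸ h))
    rw [f_p0] at this
    exact C.S.adj_irrefl _ this
  obtain ⟨hset, huniq⟩ := j_sums S hS h0
  have hb' : C.S.b ∈ C.S.oB := MulAction.mem_orbit_self _
  have hc' : C.S.c ∈ C.S.oC := MulAction.mem_orbit_self _
  have hconst := C.S.inB_const_B C.bp_oB hb'
  rw [← hcard, C.card_nbB] at hset huniq
  have hs := C.S.split_B hb'
  have he := C.S.edge_count hb' hc'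
  have hn := C.S.not_clique hb'
  simp only [List.mem_cons, List.not_mem_nil, or_false] at hset
  have h100 : (C.S.inB C.S.b).card = 100 := by omega
  refine ⟨fun q => ?_, h100⟩
  rw [← C.mem_nbB, hmem, huniq (by omega)]
  simp

theorem exists_cp : ∃ c' ∈ C.S.oC, ∀ g : X, C.sm g c' = c' ↔ C.D.ψ g l0 = l0 := by
  have hc' : C.S.c ∈ C.S.oC := MulAction.mem_orbit_self _
  have hb' : C.S.b ∈ C.S.oB := MulAction.mem_orbit_self _
  have h96 : (C.nbB C.S.c).card = 96 := by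
    have := C.S.edge_count hb' hc'
    have := C.S.split_B hb'
    have := C.bp_row.2
    rw [C.card_nbB]
    omega
  obtain ⟨i, hi⟩ := C.D.index1365 (C.stX C.S.c) ((C.index_stX _).trans C.S.hc) (C.nbB C.S.c) h96
    fun g hg q hq => C.nbB_inv hg hq
  obtain ⟨k, hk⟩ := C.D.line_trans i
  refine ⟨C.sm k⁻¹ C.S.c, C.sm_oC _ hc', fun g => ?_⟩
  have : k * g * k⁻¹ ∈ C.stX C.S.c ↔ k * g * k⁻¹ ∈ C.D.P i := by rw [hi]
  rw [mem_stX, sm_mul, sm_mul, Model.mem_P, map_mul, map_mul, Equiv.Perm.mul_apply, Equiv.Perm.mul_apply, map_inv,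
    Equiv.Perm.inv_def, show (C.D.ψ k).symm i = l0 by rw [← hk, Equiv.symm_apply_apply]] at this
  constructor
  · intro h
    have h2 := this.1 (by rw [h, sm_sm_inv])
    exact (C.D.ψ k).injective (h2.trans hk.symm)
  · intro h
    have h2 := this.2 (by rw [h, hk])
    calc C.sm g (C.sm k⁻¹ C.S.c) = C.sm k⁻¹ (C.sm k (C.sm g (C.sm k⁻¹ C.S.c))) := (C.sm_inv_sm _ _).symm
      _ = C.sm k⁻¹ C.S.c := by rw [h2]

/-- the point of the first line -/
def cp : Ω := C.exists_cp.choose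

theorem cp_oC : C.cp ∈ C.S.oC := C.exists_cp.choose_spec.1

theorem cp_fix {g : X} : C.sm g C.cp = C.cp ↔ C.D.ψ g l0 = l0 := C.exists_cp.choose_spec.2 g

/-- the points of the larger suborbit -/
def h (i : Fin 1365) : Ω := C.sm (C.D.cLn i) C.cp

theorem h_of {g : X} {i : Fin 1365} (hg : C.D.ψ g l0 = i) : C.h i = C.sm g C.cp := by
  have hm : C.D.ψ (g⁻¹ * C.D.cLn i) l0 = l0 := by
    rw [map_mul, Equiv.Perm.mul_apply, C.D.cLn_spec, ← hg, map_inv, Equiv.Perm.inv_def, Equiv.symm_apply_apply]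
  rw [h, show C.D.cLn i = g * (g⁻¹ * C.D.cLn i) from (mul_inv_cancel_left _ _).symm, C.sm_mul, C.cp_fix.2 hm]

theorem h_act (g : X) (i : Fin 1365) : C.h (C.D.ψ g i) = C.sm g (C.h i) := by
  rw [C.h_of (g := g * C.D.cLn i) (by rw [map_mul, Equiv.Perm.mul_apply, C.D.cLn_spec]), sm_mul]
  rfl

theorem h_l0 : C.h l0 = C.cp := by rw [C.h_of (g := 1) (by rw [map_one]; rfl), sm_one]

theorem h_oC (i : Fin 1365) : C.h i ∈ C.S.oC := C.sm_oC _ C.cp_oC

theorem h_inj : Function.Injective C.h := by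
  intro q r e
  have hh : C.D.ψ (C.D.cLn r)⁻¹ q = l0 := by
    rw [← C.D.cLn_spec q, ← Equiv.Perm.mul_apply, ← map_mul, ← C.cp_fix, C.sm_mul,
      show C.sm (C.D.cLn q) C.cp = C.sm (C.D.cLn r) C.cp from e, sm_inv_sm]
  rw [map_inv, Equiv.Perm.inv_def, Equiv.symm_apply_eq, C.D.cLn_spec] at hh
  exact hh

theorem h_surj {y : Ω} (hy : y ∈ C.S.oC) : ∃ i, C.h i = y := by
  obtain ⟨g, rfl⟩ := C.orbit_sm (show y ∈ MulAction.orbit _ C.cp by rw [MulAction.orbit_eq_iff.mpr C.cp_oC]; exact hy)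
  exact ⟨C.D.ψ g l0, C.h_of rfl⟩

theorem card_inB_cp : (C.S.inB C.cp).card = 96 := by
  have hc' : C.S.c ∈ C.S.oC := MulAction.mem_orbit_self _
  have hb' : C.S.b ∈ C.S.oB := MulAction.mem_orbit_self _
  have := C.S.edge_count hb' hc'
  have := C.S.split_B hb'
  have := C.bp_row.2
  have := C.S.inB_const_C C.cp_oC hc'
  omega

theorem cp_row : ∀ q : Fin 416, C.S.Adj C.cp (C.f q) ↔ tLab p1PtT q = 0 := by
  have hk : ∀ k, C.D.hk k ∈ C.D.P1 := C.D.hk_mem
  obtain ⟨S, hS, hmem⟩ := exists_labels p1PtT_all hk C.D.hk_phi (C.nbB C.cp)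
    (fun g hg q hq => C.nbB_inv (C.cp_fix.2 hg) hq)
  rw [root_lens.2.2.1] at hS
  have hcard := card_labels hmem p1Pt_sizes fun l hl => by
    simpa using Finset.mem_range.1 (Finset.mem_powerset.1 hS hl)
  rw [C.card_nbB, card_inB_cp] at hcard
  have e := p1_sums.1 S hS hcard.symm
  intro q
  rw [← C.mem_nbB, hmem, e]
  simp

theorem cp_line_row : ∀ i : Fin 1365, C.S.Adj C.cp (C.h i) ↔ tLab p1LineT i = 2 := by
  classical
  let T : Finset (Fin 1365) := Finset.univ.filter fun i => C.S.Adj C.cp (C.h i)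
  have hT : ∀ i, i ∈ T ↔ C.S.Adj C.cp (C.h i) := fun i => by simp [T]
  have hk : ∀ k, C.D.hk k ∈ C.D.P1 := C.D.hk_mem
  obtain ⟨S, hS, hmem⟩ := exists_labels p1LineT_all hk C.D.hk_psi T (fun g hg i hi => by
    rw [hT, h_act] at *
    rw [← C.cp_fix.2 hg, adj_sm]
    exact hi)
  rw [root_lens.1] at hS
  have hcard := card_labels hmem p1Line_sizes fun l hl => by
    simpa using Finset.mem_range.1 (Finset.mem_powerset.1 hS hl)
  have h0 : 0 ∉ S := fun h => by
    have hp : tLab p1LineT l0 = 0 := by decide +kernel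
    have := (hT _).1 ((hmem l0).2 (hp.symm ▸ h))
    rw [h_l0] at this
    exact C.S.adj_irrefl _ this
  have hTc : T.card = (C.S.inC C.cp).card := by
    refine Finset.card_bij (fun q _ => C.h q) (fun q hq => ?_) (fun q _ r _ e => C.h_inj e) (fun z hz => ?_)
    · exact Finset.mem_inter.2 ⟨C.S.mem_N.2 ((hT q).1 hq), C.S.mem_fC.2 (C.h_oC q)⟩
    · obtain ⟨h1, h2⟩ := Finset.mem_inter.1 hz
      obtain ⟨q, rfl⟩ := C.h_surj (C.S.mem_fC.1 h2)
      exact ⟨q, (hT q).2 (C.S.mem_N.1 h1), rfl⟩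
  have := C.S.split_C C.cp_oC
  have := C.card_inB_cp
  have e := p1_sums.2 S hS h0 (by omega)
  intro i
  rw [← hT, hmem, e]
  simp

/-- the vertices of the graph -/
def E0 : V → Ω
  | none => C.S.a
  | some (Sum.inl q) => C.f q
  | some (Sum.inr i) => C.h i

theorem E0_inj : Function.Injective C.E0 := by
  rintro (_ | q | i) (_ | r | j) e <;> simp only [E0] at e
  · rfl
  · exact absurd (e ▸ C.f_oB r) C.S.a_not_oB
  · exact absurd (e ▸ C.h_oC j) C.S.a_not_oC
  · exact absurd (e ▸ C.f_oB q) C.S.a_not_oB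
  · rw [C.f_inj e]
  · exact (C.S.not_both (C.f_oB q) (e ▸ C.h_oC j)).elim
  · exact absurd (e ▸ C.h_oC i) C.S.a_not_oC
  · exact (C.S.not_both (C.f_oB r) (e ▸ C.h_oC i)).elim
  · rw [C.h_inj e]

/-- the vertices as an equivalence -/
def E : V ≃ Ω :=
  Equiv.ofBijective C.E0 ((Fintype.bijective_iff_injective_and_card _).mpr ⟨C.E0_inj, by
    rw [C.S.hΩ, Fintype.card_option, Fintype.card_sum, Fintype.card_fin, Fintype.card_fin]⟩)

theorem E_apply (u : V) : C.E u = C.E0 u := rfl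

theorem E_act (g : X) (u : V) : C.E (C.D.actV g u) = C.sm g (C.E u) := by
  rcases u with _ | q | i
  · exact (C.sm_a g).symm
  · exact C.f_act g q
  · exact C.h_act g i

theorem adj_f (g : X) (r : Fin 416) :
    C.S.Adj (C.sm g C.bp) (C.f r) ↔ tLab jPtT (C.D.φ g⁻¹ r) = 1 := by
  rw [← C.bp_row.1, C.f_act g⁻¹, ← adj_sm C g C.bp, sm_sm_inv]

theorem adj_cf (g : X) (r : Fin 416) :
    C.S.Adj (C.sm g C.cp) (C.f r) ↔ tLab p1PtT (C.D.φ g⁻¹ r) = 0 := by
  rw [← C.cp_row, C.f_act g⁻¹, ← adj_sm C g C.cp, sm_sm_inv]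

theorem adj_ch (g : X) (j : Fin 1365) :
    C.S.Adj (C.sm g C.cp) (C.h j) ↔ tLab p1LineT (C.D.ψ g⁻¹ j) = 2 := by
  rw [← C.cp_line_row, C.h_act g⁻¹, ← adj_sm C g C.cp, sm_sm_inv]

theorem adj_E (u v : V) : C.S.Adj (C.E u) (C.E v) ↔ C.D.R u v := by
  rcases u with _ | q | i <;> rcases v with _ | r | j <;> simp only [E_apply, E0, Model.R]
  · exact iff_false_intro (C.S.adj_irrefl _)
  · exact iff_true_intro ((C.S.adj_a _).2 (C.f_oB r))
  · exact iff_false_intro fun h => C.S.not_both ((C.S.adj_a _).1 h) (C.h_oC j)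
  · exact iff_true_intro (C.S.adj_symm ((C.S.adj_a _).2 (C.f_oB q)))
  · exact C.adj_f _ r
  · exact ⟨fun h => (C.adj_cf _ q).1 (C.S.adj_symm h), fun h => C.S.adj_symm ((C.adj_cf _ q).2 h)⟩
  · exact iff_false_intro fun h => C.S.not_both ((C.S.adj_a _).1 (C.S.adj_symm h)) (C.h_oC i)
  · exact C.adj_cf _ r
  · exact C.adj_ch _ j

/-- different lines have different neighbours among the points -/
theorem h_sep {i j : Fin 1365} (hij : i ≠ j) : ∃ q, ¬(C.S.Adj (C.h i) (C.f q) ↔ C.S.Adj (C.h j) (C.f q)) := by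
  by_contra hall
  push Not at hall
  set g := C.D.cLn i
  obtain ⟨k, hk, r, hr, hkr⟩ := tree_reach p1LineT_all (H := C.D.P1) C.D.hk_mem C.D.hk_psi (C.D.ψ g⁻¹ j)
  have hl := tree_lab p1LineT_all (C.D.ψ g⁻¹ j)
  rw [root_lens.1] at hl
  have hl0 : tLab p1LineT (C.D.ψ g⁻¹ j) ≠ 0 := fun e => by
    rw [e] at hr
    have : r = l0 := Fin.ext (by
      rw [hr, List.getD_eq_getElem _ _ (by rw [root_lens.1]; norm_num)]
      have := root_lens.2.1
      rwa [List.getD_eq_getElem _ _ (by rw [root_lens.1]; norm_num)] at this)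
    rw [this, show C.D.ψ k l0 = l0 from hk] at hkr
    apply hij
    have h2 := congrArg (C.D.ψ g) hkr
    rw [map_inv, Equiv.Perm.inv_def, Equiv.apply_symm_apply, C.D.cLn_spec] at h2
    exact h2
  have hchk := List.all_eq_true.mp p1_moved _ (range13 (Nat.pos_of_ne_zero hl0) hl)
  simp only [Bool.and_eq_true, Bool.not_eq_true'] at hchk
  obtain ⟨⟨hp, hp0⟩, hout⟩ := hchk
  set p : Fin 416 := ⟨_, blt_lt hp⟩
  set w := p1LineW.getD (tLab p1LineT (C.D.ψ g⁻¹ j)) [] with hw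
  have hwr : C.D.ψ (C.D.el w) l0 = r := Fin.ext ((C.D.el_psi w l0).trans ((Model.p1_root _).trans hr.symm))
  have hm : C.S.Adj (C.sm (C.D.el w) C.cp) (C.f (C.D.φ (C.D.el w) p)) := by
    rw [adj_cf, ← Equiv.Perm.mul_apply, ← map_mul, inv_mul_cancel, map_one]
    exact Nat.eq_of_beq_eq_true hp0
  have hj : C.h j = C.sm (g * k) (C.sm (C.D.el w) C.cp) := by
    rw [← sm_mul]
    refine C.h_of ?_
    rw [map_mul, map_mul, Equiv.Perm.mul_apply, Equiv.Perm.mul_apply, hwr, hkr, map_inv, Equiv.Perm.inv_def,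
      Equiv.apply_symm_apply]
  have hi : C.h i = C.sm (g * k) C.cp := by
    rw [sm_mul, C.cp_fix.2 hk]; rfl
  have := hall (C.D.φ (g * k) (C.D.φ (C.D.el w) p))
  rw [hi, hj, f_act, adj_sm, adj_sm] at this
  have h3 : tLab p1PtT (C.D.φ (C.D.el w) p) = 0 := (C.cp_row _).1 (this.2 hm)
  rw [Model.el_phi] at h3
  rw [← Bool.not_eq_true, Nat.beq_eq] at hout
  exact hout h3

end

end Ctx

end Cfsg.Agent.Spor.SuzUnique
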