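import Cfsg.Agent.Lib.Spor.SuzUniqueRadical

/-!
The subgroups of index 416 are stabilisers of points.
-/

set_option autoImplicit false
set_option maxRecDepth 100000
set_option linter.style.haveILetI false

namespace Cfsg.Agent.Spor.SuzUnique

open Cfsg.Agent.Lie.PermNine (pg)

attribute [local irreducible] g4 g13 hF hL uF uL pF pL jF zF tF nfF

theorem case_all {r a : ℕ} (hr : r < 57) (ha : a ∈ List.range' 1 3) : caseOK r a = true := by
  by_cases h1 : r < 15
  · exact List.all_eq_true.mp (List.all_eq_true.mp case_ok0 r (List.mem_range'_1.2 ⟨by omega, by omega⟩)) a ha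
  by_cases h2 : r < 30
  · exact List.all_eq_true.mp (List.all_eq_true.mp case_ok1 r (List.mem_range'_1.2 ⟨by omega, by omega⟩)) a ha
  by_cases h3 : r < 45
  · exact List.all_eq_true.mp (List.all_eq_true.mp case_ok2 r (List.mem_range'_1.2 ⟨by omega, by omega⟩)) a ha
  · exact List.all_eq_true.mp (List.all_eq_true.mp case_ok3 r (List.mem_range'_1.2 ⟨by omega, by omega⟩)) a ha

theorem p_len : pP.length = 4 ∧ pW.length = 4 := by decide +kernel

namespace Model

variable {X : Type} [Group X] (D : Model X)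

/-- the five group -/
def P5 : Subgroup X := Subgroup.closure (Set.range D.pk)

theorem pk_mem (k : ℕ) : D.pk k ∈ D.P5 := Subgroup.subset_closure ⟨k, rfl⟩

theorem pk_rel : D.pk 0 * D.pk 1 = D.pk 1 * D.pk 0 ∧ D.pk 0 ^ 5 = 1 ∧ D.pk 1 ^ 5 = 1 ∧
    D.pk 2 = (D.pk 0)⁻¹ ∧ D.pk 3 = (D.pk 1)⁻¹ := by
  have h := List.all_eq_true.mp p_rel.1
  simp only [Bool.and_eq_true] at h
  have hpow : ∀ k, (∀ b ∈ b5, Nat.beq (evW pF [k, k, k, k, k] b) b = true) → D.pk k ^ 5 = 1 := fun k hk => by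
    rw [show D.pk k ^ 5 = elW D.pk [k, k, k, k, k] by
      simp [elW, pow_succ, mul_assoc]]
    exact D.eq_of_b5 (elW_img D.pk_phi _) D.one_phi (List.all_eq_true.mpr hk)
  refine ⟨D.eq_of_b5 (D.mul_phi (D.pk_phi 0) (D.pk_phi 1)) (D.mul_phi (D.pk_phi 1) (D.pk_phi 0))
    (List.all_eq_true.mpr fun b hb => (h b hb).1.1.1.1), hpow 0 fun b hb => (h b hb).1.1.1.2,
    hpow 1 fun b hb => (h b hb).1.1.2, eq_inv_of_mul_eq_one_right ?_, eq_inv_of_mul_eq_one_right ?_⟩
  · exact D.eq_of_b5 (D.mul_phi (D.pk_phi 0) (D.pk_phi 2)) D.one_phi (List.all_eq_true.mpr fun b hb => (h b hb).1.2)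
  · exact D.eq_of_b5 (D.mul_phi (D.pk_phi 1) (D.pk_phi 3)) D.one_phi (List.all_eq_true.mpr fun b hb => (h b hb).2)

theorem P5_elts {x : X} (hx : x ∈ D.P5) : ∃ i < 5, ∃ j < 5, x = D.pk 0 ^ i * D.pk 1 ^ j := by
  obtain ⟨hc, h0, h1, h2, h3⟩ := D.pk_rel
  have hcom : ∀ i j : ℕ, D.pk 1 ^ j * D.pk 0 ^ i = D.pk 0 ^ i * D.pk 1 ^ j := fun i j =>
    (Commute.pow_pow (show Commute (D.pk 0) (D.pk 1) from hc) i j).symm.eq
  have red : ∀ i j : ℕ, ∃ i' < 5, ∃ j' < 5, D.pk 0 ^ i * D.pk 1 ^ j = D.pk 0 ^ i' * D.pk 1 ^ j' := fun i j =>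
    ⟨i % 5, Nat.mod_lt _ (by norm_num), j % 5, Nat.mod_lt _ (by norm_num), by
      rw [← pow_eq_pow_mod i h0, ← pow_eq_pow_mod j h1]⟩
  induction hx using Subgroup.closure_induction with
  | mem y hy =>
    obtain ⟨k, rfl⟩ := hy
    rcases k with _ | _ | _ | _ | k
    · exact ⟨1, by norm_num, 0, by norm_num, by simp⟩
    · exact ⟨0, by norm_num, 1, by norm_num, by simp⟩
    · refine ⟨4, by norm_num, 0, by norm_num, ?_⟩
      rw [h2, pow_zero, mul_one]
      exact inv_eq_of_mul_eq_one_right (by rw [← pow_succ']; exact h0)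
    · refine ⟨0, by norm_num, 4, by norm_num, ?_⟩
      rw [h3, pow_zero, one_mul]
      exact inv_eq_of_mul_eq_one_right (by rw [← pow_succ']; exact h1)
    · refine ⟨0, by norm_num, 0, by norm_num, ?_⟩
      rw [pk, List.getD_eq_default _ _ (by rw [p_len.2]; omega)]
      simp [el, elW]
  | one => exact ⟨0, by norm_num, 0, by norm_num, by simp⟩
  | mul a b _ _ ha hb =>
    obtain ⟨i, -, j, -, rfl⟩ := ha
    obtain ⟨i', -, j', -, rfl⟩ := hb
    rw [show D.pk 0 ^ i * D.pk 1 ^ j * (D.pk 0 ^ i' * D.pk 1 ^ j') = D.pk 0 ^ (i + i') * D.pk 1 ^ (j + j') by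
      rw [pow_add, pow_add, mul_assoc, ← mul_assoc (D.pk 1 ^ j), hcom]; group]
    exact red _ _
  | inv a _ ha =>
    obtain ⟨i, hi, j, hj, rfl⟩ := ha
    rw [show (D.pk 0 ^ i * D.pk 1 ^ j)⁻¹ = D.pk 0 ^ (5 - i) * D.pk 1 ^ (5 - j) by
      refine inv_eq_of_mul_eq_one_right ?_
      rw [mul_assoc, ← mul_assoc (D.pk 1 ^ j), hcom, mul_assoc (D.pk 0 ^ (5 - i)), ← pow_add,
        ← mul_assoc, ← pow_add, show i + (5 - i) = 5 by omega, show j + (5 - j) = 5 by omega, h0, h1, one_mul]]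
    exact red _ _

theorem card_P5 : Nat.card D.P5 = 25 := by
  haveI := D.finite
  haveI : Fact (Nat.Prime 5) := ⟨by norm_num⟩
  classical
  refine le_antisymm ?_ ?_
  · refine le_trans (Nat.card_le_card_of_surjective (fun p : Fin 5 × Fin 5 =>
      (⟨D.pk 0 ^ (p.1 : ℕ) * D.pk 1 ^ (p.2 : ℕ), mul_mem (pow_mem (D.pk_mem 0) _) (pow_mem (D.pk_mem 1) _)⟩ : D.P5)) ?_)
      (by simp)
    rintro ⟨x, hx⟩
    obtain ⟨i, hi, j, hj, e⟩ := D.P5_elts hx
    exact ⟨(⟨i, hi⟩, ⟨j, hj⟩), Subtype.ext e.symm⟩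
  · have h1 : D.pk 0 ≠ 1 := D.ne_of_b5 (D.pk_phi 0) D.one_phi p_rel.2.1
    have h2 : D.pk 1 ∉ Subgroup.zpowers (D.pk 0) := fun h => by
      obtain ⟨n, hn, e⟩ := (IsOfFinOrder.mem_zpowers_iff_mem_range_orderOf (isOfFinOrder_of_finite _)).1 h |>
        Finset.mem_image.1
      rw [Finset.mem_range, orderOf_eq_prime D.pk_rel.2.1 h1] at hn
      refine D.ne_of_b5 (D.pk_phi 1) (elW_img D.pk_phi (List.replicate n 0))
        (List.all_eq_true.mp p_rel.2.2 n (List.mem_range.mpr hn)) ?_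
      rw [← e, elW, List.map_replicate, List.prod_replicate]
    have hle : Subgroup.zpowers (D.pk 0) ≤ D.P5 := Subgroup.zpowers_le.2 (D.pk_mem 0)
    have h5 : 5 ∣ Nat.card D.P5 := by
      rw [← orderOf_eq_prime D.pk_rel.2.1 h1, ← Nat.card_zpowers]
      exact Subgroup.card_dvd_of_le hle
    have hd : Nat.card (Subgroup.zpowers (D.pk 0)) < Nat.card D.P5 := by
      refine lt_of_le_of_ne (Subgroup.card_le_of_le hle) fun e => h2 ?_
      rw [Subgroup.eq_of_le_of_card_ge hle e.ge]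
      exact D.pk_mem 1
    rw [Nat.card_zpowers, orderOf_eq_prime D.pk_rel.2.1 h1] at hd
    have hp : IsPGroup 5 D.P5 := fun x => ⟨1, Subtype.ext (by
      obtain ⟨i, -, j, -, e⟩ := D.P5_elts x.2
      rw [SubgroupClass.coe_pow, e, pow_one, Commute.mul_pow (Commute.pow_pow D.pk_rel.1 i j),
        ← pow_mul, ← pow_mul, mul_comm i, mul_comm j, pow_mul, pow_mul, D.pk_rel.2.1, D.pk_rel.2.2.1]
      simp)⟩
    obtain ⟨n, hn⟩ := IsPGroup.iff_card.1 hp
    rw [hn] at hd ⊢
    rcases n with _ | _ | n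
    · norm_num at hd
    · norm_num at hd
    · exact le_trans (by norm_num) (Nat.pow_le_pow_right (by norm_num) (show 2 ≤ n + 1 + 1 by omega))

/-- a subgroup of prime power order moves into a Sylow subgroup -/
theorem conj_le [Finite X] {p : ℕ} [Fact p.Prime] {P : Subgroup X} {n : ℕ} (hP : Nat.card P = p ^ n)
    (hmax : ¬ p ^ (n + 1) ∣ Nat.card X) {S : Subgroup X} (hS : IsPGroup p S) :
    ∃ g : X, S.map (MulAut.conj g).toMonoidHom ≤ P := by
  obtain ⟨Q', hQ'⟩ := hS.exists_le_sylow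
  obtain ⟨Q, hQ⟩ := (IsPGroup.of_card hP).exists_le_sylow
  have e : (Q : Subgroup X) = P := by
    refine (Subgroup.eq_of_le_of_card_ge hQ ?_).symm
    obtain ⟨m, hm⟩ := IsPGroup.iff_card.1 Q.2
    rw [hm, hP]
    refine Nat.pow_le_pow_right (Fact.out : p.Prime).pos ?_
    by_contra hc
    exact hmax ((pow_dvd_pow p (show n + 1 ≤ m by omega)).trans (hm ▸ Subgroup.card_subgroup_dvd_card _))
  obtain ⟨g, hg⟩ := MulAction.exists_smul_eq X Q' Q
  refine ⟨g, ?_⟩
  rw [← e, ← hg, Sylow.coe_subgroup_smul, Subgroup.pointwise_smul_def]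
  exact Subgroup.map_mono hQ'

theorem card_conj_map (H : Subgroup X) (g : X) : Nat.card (H.map (MulAut.conj g).toMonoidHom) = Nat.card H :=
  Subgroup.card_map_of_injective (MulEquiv.injective _)

/-- a subgroup of order 604800 contains a root element -/
theorem exists_long {H : Subgroup X} (hH : Nat.card H = 604800) : ∃ t ∈ H, D.Long t := by
  haveI := D.finite
  haveI : Fact (Nat.Prime 2) := ⟨Nat.prime_two⟩
  obtain ⟨S, hS⟩ := Sylow.exists_subgroup_card_pow_prime 2 (n := 7) (G := H) (by rw [hH]; norm_num)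
  have hS' : Nat.card (S.map H.subtype) = 2 ^ 7 := by rw [Subgroup.card_map_of_injective H.subtype_injective, hS]
  obtain ⟨g, hg⟩ := conj_le (p := 2) (n := 12) (D.ser_facts le_rfl).1 (by rw [D.card]; norm_num)
    (IsPGroup.of_card hS')
  obtain ⟨x, hx, hz, hne⟩ := D.exists_root _ hg (by rw [card_conj_map, hS']; norm_num)
  obtain ⟨y, hy, rfl⟩ := hx
  simp only [MulEquiv.coe_toMonoidHom, MulAut.conj_apply] at hz hne
  refine ⟨y, Subgroup.map_subtype_le S hy, ?_⟩
  have h := D.root_conj (show D.IsRoot l0 (g * y * g⁻¹) from ⟨1, by rw [map_one]; rfl, _, hz, hne, by group⟩) g⁻¹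
  rw [show g⁻¹ * (g * y * g⁻¹) * g⁻¹⁻¹ = y by group] at h
  exact D.root_long h

theorem pLine_word {r : ℕ} (hr : r < 57) : evW g13 (pLineW.getD r []) 0 = pLineR.getD r 0 := by
  have hlen : pLineW.length = 57 := by
    rw [← root_lens.2.2.2.2.2.1, ← root_words.2.2, List.length_map]
  have := congrArg (fun L : List ℕ => L.getD r 0) root_words.2.2
  simpa [List.getD_eq_getElem?_getD, List.getElem?_map, List.getElem?_eq_getElem (show r < pLineW.length by omega)]
    using this

/-- every conjugate of the root element is moved by the five group to a listed one -/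
theorem long_case {t : X} (ht : D.Long t) :
    ∃ p ∈ D.P5, ∃ r < 57, ∃ a ∈ List.range' 1 3, t = p * D.tel (pLineW.getD r []) a * p⁻¹ := by
  obtain ⟨i, hi⟩ := D.long_root ht
  obtain ⟨p, hp, q, hq, hpq⟩ := tree_reach pLineT_all D.pk_mem D.pk_psi i
  have hl := tree_lab pLineT_all i
  rw [root_lens.2.2.2.2.2.1] at hl
  have h := D.root_conj hi p⁻¹
  rw [← hpq, map_inv, Equiv.Perm.inv_def, Equiv.symm_apply_apply] at h
  obtain ⟨a, ha, e⟩ := D.root_eq_tel ((pLine_word hl).trans hq.symm) h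
  exact ⟨p, hp, _, hl, a, ha, by rw [← e]; group⟩

theorem cF_phi (w : List ℕ) (a : ℕ) (s : ℕ) (j : Fin 416) :
    (D.φ (if s = 2 then D.tel w a else D.pk (if s < 2 then s else s - 1)) j : ℕ) = cF w a s j := by
  rw [cF]
  by_cases h : s = 2
  · rw [if_pos h, show Nat.beq s 2 = true by rw [h]; rfl, cond_true, tel_phi]
  · rw [if_neg h, show Nat.beq s 2 = false from Bool.eq_false_iff.2 fun c => h (Nat.eq_of_beq_eq_true c), cond_false]
    by_cases h' : s < 2
    · rw [if_pos h', lt_blt h', cond_true, pk_phi]; unfold pF; rfl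
    · rw [if_neg h', show Nat.blt s 2 = false from Bool.eq_false_iff.2 fun c => h' (blt_lt c), cond_false, pk_phi]
      unfold pF; rfl

/-- a listed element together with the five group lies in a stabiliser or is excluded -/
theorem case_cases {H : Subgroup X} (hH : Nat.card H = 604800) (hP : D.P5 ≤ H) {r a : ℕ} (hr : r < 57)
    (ha : a ∈ List.range' 1 3) (ht : D.tel (pLineW.getD r []) a ∈ H) :
    (∃ q : Fin 416, H = D.J q) ∨ (caseT.getD (3 * r + (a - 1)) (2, [], 0, [], [])).1 = 2 := by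
  haveI := D.finite
  have h := case_all hr ha
  dsimp only [caseOK] at h
  set c := caseT.getD (3 * r + (a - 1)) (2, [], 0, [], []) with hc
  let e : ℕ → X := fun s => if s = 2 then D.tel (pLineW.getD r []) a else D.pk (if s < 2 then s else s - 1)
  have heH : ∀ w : List ℕ, elW e w ∈ H := elW_mem fun s => by
    show (if s = 2 then _ else _) ∈ H
    split_ifs
    · exact ht
    · exact hP (D.pk_mem _)
    · exact hP (D.pk_mem _)
  have hw : ∀ (w : List ℕ) (j : Fin 416), (D.φ (elW e w) j : ℕ) = evW (cF (pLineW.getD r []) a) w j :=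
    fun w j => elW_img (fun s j => D.cF_phi _ a s j) w j
  by_cases h0 : c.1 = 0
  · rw [show Nat.beq c.1 0 = true by rw [h0]; rfl, cond_true] at h
    simp only [Bool.and_eq_true, Bool.not_eq_true'] at h
    obtain ⟨hb, h13, hne⟩ := h
    exfalso
    set g := elW e c.2.1 with hg
    have hit : ∀ n, (D.φ (g ^ n) ⟨c.2.2.1, blt_lt hb⟩ : ℕ) =
        (List.range n).foldl (fun u _ => evW (cF (pLineW.getD r []) a) c.2.1 u) c.2.2.1 := by
      intro n
      induction n with
      | zero => simp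
      | succ n ih =>
        rw [pow_succ', map_mul, Equiv.Perm.mul_apply, hg, hw, ← hg, ih, List.range_succ, List.foldl_concat]
    have hfix : D.φ (g ^ 13) ⟨c.2.2.1, blt_lt hb⟩ = ⟨c.2.2.1, blt_lt hb⟩ :=
      Fin.ext ((hit 13).trans (Nat.eq_of_beq_eq_true h13))
    have hmove : D.φ g ⟨c.2.2.1, blt_lt hb⟩ ≠ ⟨c.2.2.1, blt_lt hb⟩ := fun q => by
      have := congrArg Fin.val q
      rw [hg, hw] at this
      rw [← Bool.not_eq_true, Nat.beq_eq] at hne
      exact hne this
    have hdvd : orderOf g ∣ 604800 := by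
      rw [← hH, ← Nat.card_zpowers]
      exact Subgroup.card_dvd_of_le (Subgroup.zpowers_le.2 (heH _))
    have hcop : Nat.Coprime 13 (orderOf g) := Nat.Coprime.coprime_dvd_right hdvd (by norm_num)
    apply hmove
    obtain ⟨m, -, hm⟩ := Nat.exists_mul_mod_eq_one_of_coprime hcop (by
      rcases Nat.eq_zero_or_pos (orderOf g) with h0 | h0
      · rw [h0] at hdvd; norm_num at hdvd
      rcases Nat.lt_or_ge 1 (orderOf g) with h1 | h1
      · exact h1
      exact absurd (orderOf_eq_one_iff.1 (le_antisymm h1 h0)) fun q => hmove (by rw [q, map_one]; rfl))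
    have hgm : g = (g ^ 13) ^ m := by
      rw [← pow_mul, ← pow_mod_orderOf, hm, pow_one]
    rw [hgm, map_pow]
    exact Equiv.Perm.pow_apply_eq_self_of_apply_eq_self hfix m
  by_cases h1 : c.1 = 1
  · rw [show Nat.beq c.1 0 = false from Bool.eq_false_iff.2 fun q => h0 (Nat.eq_of_beq_eq_true q), cond_false,
      show Nat.beq c.1 1 = true by rw [h1]; rfl, cond_true] at h
    simp only [Bool.and_eq_true, List.all_eq_true] at h
    obtain ⟨⟨hq, hv0⟩, hb⟩ := h
    left
    refine ⟨⟨c.2.2.1, blt_lt hq⟩, (Subgroup.eq_of_le_of_card_ge ?_ (by rw [hH, card_J])).symm⟩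
    set v := D.el c.2.2.2.2 with hv
    have hvq : D.φ v p0 = ⟨c.2.2.1, blt_lt hq⟩ := Fin.ext ((D.el_phi _ p0).trans (Nat.eq_of_beq_eq_true hv0))
    have hconj : ∀ (k : ℕ) (w : List ℕ), (∀ b ∈ b5, Nat.beq (evW (cF (pLineW.getD r []) a) w b)
        (evW g4 c.2.2.2.2 (jF k (evW g4 c.2.2.2.2.reverse b))) = true) → v * D.jk k * v⁻¹ ∈ H := fun k w hk => by
      have e2 : ∀ j : Fin 416, (D.φ (v * D.jk k * v⁻¹) j : ℕ) =
          evW g4 c.2.2.2.2 (jF k (evW g4 c.2.2.2.2.reverse j)) := fun j => by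
        rw [map_mul, map_mul, Equiv.Perm.mul_apply, Equiv.Perm.mul_apply, hv, el_phi, jk_phi, el_inv_phi]
      rw [← D.eq_of_b5 (hw w) e2 (List.all_eq_true.mpr hk)]
      exact heH w
    intro x hx
    have hx' : v⁻¹ * x * v ∈ D.jG := by
      rw [D.jG_eq, mem_J, map_mul, map_mul, Equiv.Perm.mul_apply, Equiv.Perm.mul_apply, hvq,
        (D.mem_J.1 hx), map_inv, Equiv.Perm.inv_def, Equiv.symm_apply_eq, hvq]
    have hle : D.jG ≤ H.comap (MulAut.conj v).toMonoidHom := (Subgroup.closure_le _).2 fun y hy => by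
      rcases hy with rfl | rfl
      · exact hconj 0 c.2.1 fun b hb' => (hb b hb').1
      · exact hconj 1 c.2.2.2.1 fun b hb' => (hb b hb').2
    have := hle hx'
    simp only [Subgroup.mem_comap, MulEquiv.coe_toMonoidHom, MulAut.conj_apply] at this
    rwa [show v * (v⁻¹ * x * v) * v⁻¹ = x by group] at this
  · right
    have : c ∈ caseT ∨ c = (2, [], 0, [], []) := by
      by_cases hlt : 3 * r + (a - 1) < caseT.length
      · left; rw [hc, List.getD_eq_getElem _ _ hlt]; exact List.getElem_mem _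
      · right; rw [hc, List.getD_eq_default _ _ (by omega)]
    rcases this with hm | hm
    · have := case_kind c hm
      omega
    · rw [hm]
where
  /-- three kinds of certificate -/
  case_kind : ∀ c ∈ caseT, c.1 < 3 := by decide +kernel

/-- subgroups of index 416 are stabilisers of points -/
theorem index416 (H : Subgroup X) (hH : H.index = 416) : ∃ q : Fin 416, H = D.J q := by
  haveI := D.finite
  haveI : Fact (Nat.Prime 5) := ⟨by norm_num⟩
  have hc : Nat.card H = 604800 := by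
    have h := Subgroup.card_mul_index H
    rw [hH, D.card] at h
    omega
  obtain ⟨S, hS⟩ := Sylow.exists_subgroup_card_pow_prime 5 (n := 2) (G := H) (by rw [hc]; norm_num)
  have hS' : Nat.card (S.map H.subtype) = 5 ^ 2 := by rw [Subgroup.card_map_of_injective H.subtype_injective, hS]
  obtain ⟨g, hg⟩ := conj_le (p := 5) (n := 2) D.card_P5 (by rw [D.card]; norm_num) (IsPGroup.of_card hS')
  set H' := H.map (MulAut.conj g).toMonoidHom with hH'
  have hP : D.P5 ≤ H' := by
    have e := Subgroup.eq_of_le_of_card_ge hg (by rw [card_conj_map, hS', D.card_P5]; norm_num)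
    rw [← e]
    exact Subgroup.map_mono (Subgroup.map_subtype_le S)
  have hc' : Nat.card H' = 604800 := (card_conj_map H g).trans hc
  suffices ∃ q, H' = D.J q by
    obtain ⟨q, hq⟩ := this
    refine ⟨D.φ g⁻¹ q, ?_⟩
    ext x
    have : x ∈ H ↔ g * x * g⁻¹ ∈ H' := by
      rw [hH', Subgroup.mem_map_equiv, MulAut.conj_symm_apply]
      group
    rw [this, hq, mem_J, mem_J, map_mul, map_mul, Equiv.Perm.mul_apply, Equiv.Perm.mul_apply]
    rw [map_inv, Equiv.Perm.inv_def]
    exact (Equiv.eq_symm_apply _).symm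
  obtain ⟨t, ht, hl⟩ := D.exists_long hc'
  by_contra hno
  push Not at hno
  classical
  let amb : Finset ℕ := ((List.range 171).filter fun i => Nat.beq (caseT.getD i (2, [], 0, [], [])).1 2).toFinset
  let F : ℕ × ℕ × ℕ → X := fun q =>
    D.pk 0 ^ q.1 * D.pk 1 ^ q.2.1 * D.tel (pLineW.getD (q.2.2 / 3) []) (q.2.2 % 3 + 1) *
      (D.pk 0 ^ q.1 * D.pk 1 ^ q.2.1)⁻¹
  let box : Finset (ℕ × ℕ × ℕ) := Finset.range 5 ×ˢ (Finset.range 5 ×ˢ amb)
  have hsub : ((fun h : H' => (h : X) * t * (h : X)⁻¹) '' Set.univ) ⊆ ↑(box.image F) := by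
    rintro _ ⟨h, -, rfl⟩
    have hl' : D.Long ((h : X) * t * (h : X)⁻¹) := by
      obtain ⟨k, rfl⟩ := hl
      exact ⟨(h : X) * k, by group⟩
    obtain ⟨p, hp, r, hr, a, ha, e⟩ := D.long_case hl'
    have hm : D.tel (pLineW.getD r []) a ∈ H' := by
      rw [show D.tel (pLineW.getD r []) a = p⁻¹ * ((h : X) * t * (h : X)⁻¹) * p by rw [e]; group]
      exact mul_mem (mul_mem (inv_mem (hP hp)) (mul_mem (mul_mem h.2 ht) (inv_mem h.2))) (hP hp)
    rcases D.case_cases hc' hP hr ha hm with ⟨q, hq⟩ | hamb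
    · exact absurd hq (hno q)
    obtain ⟨i, hi, j, hj, rfl⟩ := D.P5_elts hp
    rw [List.mem_range'_1] at ha
    refine Finset.mem_coe.2 (Finset.mem_image.2 ⟨(i, j, 3 * r + (a - 1)), ?_, ?_⟩)
    · simp only [box, amb, Finset.mem_product, Finset.mem_range, List.mem_toFinset, List.mem_filter,
        List.mem_range]
      exact ⟨hi, hj, by omega, by rw [hamb]; rfl⟩
    · simp only [F]
      rw [e, show (3 * r + (a - 1)) / 3 = r by omega, show (3 * r + (a - 1)) % 3 + 1 = a by omega]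
  have h1 := D.long_orbit hc' hl
  have h2 := Set.ncard_le_ncard hsub (Finset.finite_toSet _)
  rw [Set.ncard_coe_finset] at h2
  have h3 : box.card ≤ 225 := by
    simp only [box, Finset.card_product, Finset.card_range]
    have : amb.card ≤ 9 := (List.toFinset_card_le _).trans amb_few.le
    omega
  have := Finset.card_image_le (s := box) (f := F)
  omega

end Model

end Cfsg.Agent.Spor.SuzUnique
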