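import Cfsg.Agent.Lib.Spor.SuzUniqueFar

/-!
Two settings with the same point stabiliser have isomorphic graphs and, by counting automorphisms,
isomorphic groups, as soon as one of them is simple.
-/

set_option autoImplicit false
set_option maxRecDepth 100000
set_option linter.style.haveILetI false

namespace Cfsg.Agent.Spor.SuzUnique

open Equiv

attribute [local irreducible] g4 g13 hF hL uF uL pF pL jF zF tF nfF adjB

namespace Ctx

noncomputable section

variable {Ω : Type*} [Fintype Ω] [DecidableEq Ω] {X : Type} [Group X] (C : Ctx Ω X)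

theorem adj_base {k : ℕ} (hk : k < 21) {b : Fin 416} (hb : (b : ℕ) = baseV.getD k 0) (v : Fin 416) :
    C.S.Adj (C.f b) (C.f v) ↔ adjB k v = true := by
  have h := List.all_eq_true.mp row_ok k (List.mem_range.mpr hk)
  simp only [rowOK, Bool.and_eq_true] at h
  set g := C.D.el (baseW.getD k []) with hg
  have hgb : C.D.φ g p0 = b := Fin.ext ((C.D.el_phi _ p0).trans ((Nat.eq_of_beq_eq_true h.1).trans hb.symm))
  rw [C.f_of hgb, adj_f]
  set j := C.D.φ g⁻¹ v with hj
  have e : (v : ℕ) = evW g4 (baseW.getD k []) j := by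
    rw [hj, ← C.D.el_phi, ← hg, map_inv, Equiv.Perm.inv_def, Equiv.apply_symm_apply]
  have h2 := beq_iff_eq.mp (List.all_eq_true.mp h.2 j (List.mem_range.mpr j.2))
  rw [e, h2, Nat.beq_eq]

/-- automorphisms of the graph on the suborbit fixing the first base points -/
def fixBase (i : ℕ) : Subgroup (Perm (Fin 416)) where
  carrier := {σ | (∀ u v, C.S.Adj (C.f (σ u)) (C.f (σ v)) ↔ C.S.Adj (C.f u) (C.f v)) ∧
    ∀ k < i, ∀ u : Fin 416, u.val = baseV.getD k 0 → σ u = u}
  mul_mem' {σ τ} hs ht := ⟨fun u v => (hs.1 _ _).trans (ht.1 u v), fun k hk u hu => by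
    rw [Equiv.Perm.mul_apply, ht.2 k hk u hu, hs.2 k hk u hu]⟩
  one_mem' := ⟨fun _ _ => Iff.rfl, fun _ _ _ _ => rfl⟩
  inv_mem' {σ} hs := ⟨fun u v => by
    conv_rhs => rw [← σ.apply_symm_apply u, ← σ.apply_symm_apply v, hs.1]
    rfl, fun k hk u hu => by
    conv_lhs => rw [← hs.2 k hk u hu]
    exact σ.symm_apply_apply u⟩

theorem base_lt {k : ℕ} (hk : k < 21) : baseV.getD k 0 < 416 := by
  rw [List.getD_eq_getElem _ _ (by rw [base_counts.1]; exact hk)]
  exact blt_lt (List.all_eq_true.mp base_counts.2.1 _ (List.getElem_mem _))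

theorem adj_keep {k : ℕ} (hk : k < 21) {σ : Perm (Fin 416)}
    (hs : ∀ u v, C.S.Adj (C.f (σ u)) (C.f (σ v)) ↔ C.S.Adj (C.f u) (C.f v))
    (hb : σ ⟨_, base_lt hk⟩ = ⟨_, base_lt hk⟩) (v : Fin 416) : adjB k (σ v) = adjB k v := by
  rw [Bool.eq_iff_iff, ← C.adj_base hk (b := ⟨_, base_lt hk⟩) rfl, ← C.adj_base hk (b := ⟨_, base_lt hk⟩) rfl]
  conv_lhs => rw [← hb]
  exact hs _ _

theorem base_fix {σ : Perm (Fin 416)} (hσ : σ ∈ C.fixBase 21) : σ = 1 := by
  refine Equiv.ext fun v => ?_
  have hp : pattN (σ v : ℕ) = pattN v := by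
    rw [pattN, pattN]
    refine List.foldl_ext _ _ _ ?_
    intro m k hk
    rw [List.mem_range] at hk
    have hb := hσ.2 k hk ⟨_, base_lt hk⟩ rfl
    have h2 : Nat.beq (σ v : ℕ) (baseV.getD k 0) = Nat.beq (v : ℕ) (baseV.getD k 0) := by
      rw [Bool.eq_iff_iff, Nat.beq_eq, Nat.beq_eq]
      refine ⟨fun e => ?_, fun e => by rw [show v = ⟨_, base_lt hk⟩ from Fin.ext e, hb]⟩
      have : σ v = σ ⟨_, base_lt hk⟩ := by rw [hb]; exact Fin.ext e
      rw [σ.injective this]
    rw [C.adj_keep hk hσ.1 hb, h2]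
  exact Fin.ext ((base_patt.getElem_inj_iff (i := (σ v : ℕ)) (j := (v : ℕ))
    (hi := by rw [List.length_map, List.length_range]; exact (σ v).2)
    (hj := by rw [List.length_map, List.length_range]; exact v.2)).mp (by
      rw [List.getElem_map, List.getElem_map, List.getElem_range, List.getElem_range]
      exact hp))

theorem fix_step {i : ℕ} (hi : i < 21) :
    Nat.card (C.fixBase i) ≤ baseC.getD i 0 * Nat.card (C.fixBase (i + 1)) := by
  letI : MulAction (C.fixBase i) (Fin 416) := MulAction.compHom (Fin 416) (C.fixBase i).subtype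
  set p : Fin 416 := ⟨_, base_lt hi⟩ with hp
  have horb : (MulAction.orbit (C.fixBase i) p).ncard ≤ baseC.getD i 0 := by
    refine le_trans ?_ (Nat.le_of_ble_eq_true (List.all_eq_true.mp base_counts.2.2.2.1 i (List.mem_range.mpr hi)))
    refine le_trans ?_ (List.toFinset_card_le (candsN i))
    rw [← Set.ncard_coe_finset]
    refine le_trans (le_of_eq (Set.ncard_image_of_injective (MulAction.orbit (C.fixBase i) p) Fin.val_injective).symm)
      (Set.ncard_le_ncard ?_ (Finset.finite_toSet _))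
    rintro x ⟨q, ⟨g, rfl⟩, rfl⟩
    rw [Finset.mem_coe, List.mem_toFinset, candsN, List.mem_filter, List.mem_range]
    refine ⟨(g • p).2, List.all_eq_true.mpr fun k hk => ?_⟩
    rw [List.mem_range] at hk
    have hb := g.2.2 k hk ⟨_, base_lt (hk.trans hi)⟩ rfl
    rw [Bool.and_eq_true, Bool.not_eq_true', beq_iff_eq, ← Bool.not_eq_true, Nat.beq_eq]
    refine ⟨fun e => ?_, C.adj_keep (hk.trans hi) g.2.1 hb p⟩
    have e' : g.1 p = g.1 ⟨_, base_lt (hk.trans hi)⟩ := by rw [hb]; exact Fin.ext e
    have := congrArg Fin.val (g.1.injective e')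
    rw [hp] at this
    change baseV.getD i 0 = baseV.getD k 0 at this
    rw [List.getD_eq_getElem _ _ (by rw [base_counts.1]; exact hi),
      List.getD_eq_getElem _ _ (by rw [base_counts.1]; exact hk.trans hi), base_counts.2.2.1.getElem_inj_iff] at this
    omega
  have hstab : Nat.card (MulAction.stabilizer (C.fixBase i) p) ≤ Nat.card (C.fixBase (i + 1)) := by
    refine Nat.card_le_card_of_injective (fun g => ⟨g.1.1, g.1.2.1, fun k hk u hu => ?_⟩)
      (fun g h e => Subtype.ext (Subtype.ext (congrArg Subtype.val e :)))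
    rcases Nat.lt_succ_iff_lt_or_eq.mp hk with hk | rfl
    · exact g.1.2.2 k hk u hu
    · rw [show u = p from Fin.ext hu]
      exact g.2
  rw [← Subgroup.card_mul_index (MulAction.stabilizer (C.fixBase i) p), MulAction.index_stabilizer, mul_comm]
  exact Nat.mul_le_mul horb hstab

theorem card_graph : Nat.card (C.fixBase 0) ≤ 503193600 := by
  have h : ∀ n, n ≤ 21 →
      Nat.card (C.fixBase 0) ≤ ((List.range n).map fun i => baseC.getD i 0).prod * Nat.card (C.fixBase n) := by
    intro n
    induction n with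
    | zero => simp
    | succ n ih =>
      intro hn
      refine (ih (by omega)).trans ?_
      rw [List.range_succ, List.map_append, List.map_singleton, List.prod_append, List.prod_singleton, mul_assoc]
      exact Nat.mul_le_mul_left _ (C.fix_step (by omega))
  have h21 := h 21 le_rfl
  have : C.fixBase 21 = ⊥ := (Subgroup.eq_bot_iff_forall _).mpr fun σ hσ => C.base_fix hσ
  rwa [this, Subgroup.card_bot, mul_one, base_counts.2.2.2.2] at h21

/-- the automorphisms of the graph -/
def Aut : Subgroup (Perm Ω) where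
  carrier := {σ | ∀ u v, C.S.Adj (σ u) (σ v) ↔ C.S.Adj u v}
  mul_mem' {σ τ} hs ht := fun u v => (hs _ _).trans (ht u v)
  one_mem' := fun _ _ => Iff.rfl
  inv_mem' {σ} hs := fun u v => by
    conv_rhs => rw [← σ.apply_symm_apply u, ← σ.apply_symm_apply v, hs]
    rfl

theorem card_fix_a : Nat.card ((MulAction.stabilizer (Perm Ω) C.S.a ⊓ C.Aut : Subgroup (Perm Ω))) ≤ 503193600 := by
  refine le_trans ?_ C.card_graph
  set A : Subgroup (Perm Ω) := MulAction.stabilizer (Perm Ω) C.S.a ⊓ C.Aut
  have hkeep : ∀ σ : A, ∀ q : Fin 416, ∃ r, C.f r = σ.1 (C.f q) := fun σ q => by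
    have h := (σ.2.2 C.S.a (C.f q)).2 ((C.S.adj_a _).2 (C.f_oB q))
    rw [show σ.1 C.S.a = C.S.a from σ.2.1, C.S.adj_a] at h
    exact C.f_surj h
  choose m hm using hkeep
  have hinj : ∀ σ : A, Function.Injective (m σ) := fun σ q r e => by
    have := congrArg C.f e
    rw [hm, hm] at this
    exact C.f_inj (σ.1.injective this)
  let M : A → C.fixBase 0 := fun σ => ⟨Equiv.ofBijective (m σ) (Finite.injective_iff_bijective.1 (hinj σ)),
    fun u v => by
      show C.S.Adj (C.f (m σ u)) (C.f (m σ v)) ↔ _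
      rw [hm, hm]
      exact σ.2.2 _ _, fun k hk => absurd hk (Nat.not_lt_zero k)⟩
  refine Nat.card_le_card_of_injective M fun σ τ e => Subtype.ext (Equiv.ext fun y => ?_)
  have hB : ∀ q, σ.1 (C.f q) = τ.1 (C.f q) := fun q => by
    rw [← hm, ← hm]
    exact congrArg C.f (congrArg (fun p : C.fixBase 0 => p.1 q) e)
  rcases C.S.cover y with rfl | hy | hy
  · rw [show σ.1 C.S.a = C.S.a from σ.2.1, show τ.1 C.S.a = C.S.a from τ.2.1]
  · obtain ⟨q, rfl⟩ := C.f_surj hy
    exact hB q
  · have himg : ∀ ρ : A, ∃ i, C.h i = ρ.1 y := fun ρ => by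
      refine C.h_surj ?_
      rcases C.S.cover (ρ.1 y) with h | h | h
      · have : y = C.S.a := ρ.1.injective (h.trans (show ρ.1 C.S.a = C.S.a from ρ.2.1).symm)
        exact absurd (this ▸ hy) C.S.a_not_oC
      · have h2 := (C.S.adj_a _).2 h
        rw [← show ρ.1 C.S.a = C.S.a from ρ.2.1] at h2
        exact (C.S.not_both ((C.S.adj_a _).1 ((ρ.2.2 _ _).1 h2)) hy).elim
      · exact h
    obtain ⟨i, hi⟩ := himg σ
    obtain ⟨j, hj⟩ := himg τ
    rw [← hi, ← hj]
    by_contra hne
    obtain ⟨r, hr⟩ := C.h_sep (show i ≠ j from fun e => hne (by rw [e]))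
    obtain ⟨q, rfl⟩ := (Finite.injective_iff_surjective.1 (hinj σ)) r
    apply hr
    have h1 := σ.2.2 y (C.f q)
    have h2 := τ.2.2 y (C.f q)
    rw [hi, hj, hm]
    rw [h1, hB, h2]

theorem card_stab : Nat.card (MulAction.stabilizer C.S.G C.S.a) = 251596800 := by
  rw [← C.D.card]
  exact (Nat.card_congr C.θ.toEquiv).symm

theorem card_G : Nat.card C.S.G = 448345497600 := by
  haveI := C.S.htrans
  rw [← Subgroup.card_mul_index (MulAction.stabilizer C.S.G C.S.a), MulAction.index_stabilizer_of_transitive,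
    card_stab, Nat.card_eq_fintype_card, C.S.hΩ]

theorem aut_G : C.S.G ≤ C.Aut := fun g hg u v => C.S.adj_smul ⟨g, hg⟩ u v

theorem card_aut : Nat.card C.Aut ≤ 1782 * 503193600 := by
  letI : MulAction C.Aut Ω := MulAction.compHom Ω C.Aut.subtype
  rw [← Subgroup.card_mul_index (MulAction.stabilizer C.Aut C.S.a), MulAction.index_stabilizer, mul_comm]
  refine Nat.mul_le_mul ((Set.ncard_le_card _).trans (le_of_eq (by rw [Nat.card_eq_fintype_card, C.S.hΩ])))
    (le_trans ?_ C.card_fix_a)
  exact Nat.card_le_card_of_injective (fun g => ⟨g.1.1, g.2, g.1.2⟩)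
    (fun g h e => Subtype.ext (Subtype.ext (congrArg Subtype.val e :)))

/-- orbits of an overgroup of the stabiliser are made of suborbits -/
theorem orbit_sizes (H : Subgroup C.S.G)
    (hle : MulAction.stabilizer C.S.G C.S.a ≤ H) :
    (MulAction.orbit H C.S.a).ncard = 1 ∨ (MulAction.orbit H C.S.a).ncard = 417 ∨
      (MulAction.orbit H C.S.a).ncard = 1366 ∨ (MulAction.orbit H C.S.a).ncard = 1782 := by
  have hclosed : ∀ y ∈ MulAction.orbit H C.S.a,
      MulAction.orbit (MulAction.stabilizer C.S.G C.S.a) y ⊆ MulAction.orbit H C.S.a := by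
    rintro _ ⟨h, rfl⟩ _ ⟨s, rfl⟩
    exact ⟨⟨s.1, hle s.2⟩ * h, mul_smul s.1 (h : C.S.G) C.S.a⟩
  have hB : C.S.oB ⊆ MulAction.orbit H C.S.a ∨ Disjoint C.S.oB (MulAction.orbit H C.S.a) := by
    by_cases hd : Disjoint C.S.oB (MulAction.orbit H C.S.a)
    · exact Or.inr hd
    · obtain ⟨y, h1, h2⟩ := Set.not_disjoint_iff.1 hd
      left
      rw [← show MulAction.orbit (MulAction.stabilizer C.S.G C.S.a) y = C.S.oB from MulAction.orbit_eq_iff.mpr h1]
      exact hclosed y h2
  have hC : C.S.oC ⊆ MulAction.orbit H C.S.a ∨ Disjoint C.S.oC (MulAction.orbit H C.S.a) := by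
    by_cases hd : Disjoint C.S.oC (MulAction.orbit H C.S.a)
    · exact Or.inr hd
    · obtain ⟨y, h1, h2⟩ := Set.not_disjoint_iff.1 hd
      left
      rw [← show MulAction.orbit (MulAction.stabilizer C.S.G C.S.a) y = C.S.oC from MulAction.orbit_eq_iff.mpr h1]
      exact hclosed y h2
  have ha := MulAction.mem_orbit_self (M := H) C.S.a
  have hd : Disjoint C.S.oB C.S.oC := Set.disjoint_left.mpr fun x hx hx' => C.S.not_both hx hx'
  rcases hB with hB | hB <;> rcases hC with hC | hC
  · right; right; right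
    have e : MulAction.orbit H C.S.a = Set.univ := Set.eq_univ_of_forall fun y => by
      rcases C.S.cover y with rfl | h | h
      · exact ha
      · exact hB h
      · exact hC h
    rw [e, Set.ncard_univ, Nat.card_eq_fintype_card, C.S.hΩ]
  · right; left
    have e : MulAction.orbit H C.S.a = insert C.S.a C.S.oB := Set.ext fun y => by
      refine ⟨fun hy => ?_, fun hy => ?_⟩
      · rcases C.S.cover y with rfl | h | h
        · exact Set.mem_insert _ _
        · exact Set.mem_insert_of_mem _ h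
        · exact absurd hy (Set.disjoint_left.1 hC h)
      · rcases hy with rfl | h
        · exact ha
        · exact hB h
    rw [e, Set.ncard_insert_of_notMem C.S.a_not_oB (Set.toFinite _), Setting.oB, C.S.hb]
  · right; right; left
    have e : MulAction.orbit H C.S.a = insert C.S.a C.S.oC := Set.ext fun y => by
      refine ⟨fun hy => ?_, fun hy => ?_⟩
      · rcases C.S.cover y with rfl | h | h
        · exact Set.mem_insert _ _
        · exact absurd hy (Set.disjoint_left.1 hB h)
        · exact Set.mem_insert_of_mem _ h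
      · rcases hy with rfl | h
        · exact ha
        · exact hC h
    rw [e, Set.ncard_insert_of_notMem C.S.a_not_oC (Set.toFinite _), Setting.oC, C.S.hc]
  · left
    have e : MulAction.orbit H C.S.a = {C.S.a} := Set.ext fun y => by
      refine ⟨fun hy => ?_, fun hy => hy ▸ ha⟩
      rcases C.S.cover y with rfl | h | h
      · rfl
      · exact absurd hy (Set.disjoint_left.1 hB h)
      · exact absurd hy (Set.disjoint_left.1 hC h)
    rw [e, Set.ncard_singleton]

variable {Ω' : Type*} [Fintype Ω'] [DecidableEq Ω'] (C' : Ctx Ω' X)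

/-- a group of the same shape is the group of the model -/
theorem iso (hD : C'.D = C.D) : Nonempty (C'.S.G ≃* C.S.G) := by
  let e : Ω' ≃ Ω := C'.E.symm.trans C.E
  have hadj : ∀ u v, C'.S.Adj u v ↔ C.S.Adj (e u) (e v) := fun u v => by
    obtain ⟨u, rfl⟩ := C'.E.surjective u
    obtain ⟨v, rfl⟩ := C'.E.surjective v
    simp only [e, Equiv.trans_apply, Equiv.symm_apply_apply]
    rw [adj_E, adj_E, hD]
  let T : Subgroup (Perm Ω) := C'.S.G.map e.permCongrHom.toMonoidHom
  have hTA : T ≤ C.Aut := by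
    rintro _ ⟨g, hg, rfl⟩ u v
    obtain ⟨u, rfl⟩ := e.surjective u
    obtain ⟨v, rfl⟩ := e.surjective v
    simp only [MulEquiv.coe_toMonoidHom, Equiv.permCongrHom_coe, Equiv.permCongr_apply, Equiv.symm_apply_apply]
    rw [← hadj, ← hadj]
    exact C'.aut_G hg u v
  have hstab : ∀ g : C.S.G, g • C.S.a = C.S.a → (g : Perm Ω) ∈ T := fun g hg => by
    refine ⟨(C'.gs (C.θ.symm ⟨g, hg⟩)).1, SetLike.coe_mem _, Equiv.ext fun y => ?_⟩
    obtain ⟨u, rfl⟩ := C.E.surjective y
    have h1 : e.symm (C.E u) = C'.E u := by simp [e]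
    simp only [MulEquiv.coe_toMonoidHom, Equiv.permCongrHom_coe, Equiv.permCongr_apply, h1]
    show e (C'.sm (C.θ.symm ⟨g, hg⟩) (C'.E u)) = _
    rw [← E_act, hD]
    simp only [e, Equiv.trans_apply, Equiv.symm_apply_apply]
    rw [E_act, sm, gs, MulEquiv.apply_symm_apply]
    rfl
  have hTc : Nat.card T = 448345497600 := by
    rw [Subgroup.card_map_of_injective (MulEquiv.injective _), C'.card_G]
  let Rg : Subgroup C.S.G := T.subgroupOf C.S.G
  haveI := C.S.htrans
  -- the common part is everything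
  have htop : Rg = ⊤ := by
    by_contra htop
    have hle : MulAction.stabilizer C.S.G C.S.a ≤ Rg := fun g hg => hstab g hg
    have hRg : Rg = MulAction.stabilizer C.S.G C.S.a := by
      refine le_antisymm (fun k hk => ?_) hle
      by_contra hka
      apply htop
      have hkne : k • C.S.a ≠ C.S.a := fun q => hka q
      have h2 : 2 ≤ (MulAction.orbit Rg C.S.a).ncard := by
        rw [← Set.ncard_pair hkne]
        refine Set.ncard_le_ncard ?_ (Set.toFinite _)
        rintro y (rfl | rfl)
        · exact ⟨⟨k, hk⟩, rfl⟩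
        · exact MulAction.mem_orbit_self _
      have hm := Subgroup.relIndex_mul_index hle
      rw [show (MulAction.stabilizer C.S.G C.S.a).relIndex Rg = (MulAction.orbit Rg C.S.a).ncard by
          rw [← MulAction.index_stabilizer]; rfl,
        MulAction.index_stabilizer_of_transitive, Nat.card_eq_fintype_card, C.S.hΩ] at hm
      rw [← Subgroup.index_eq_one]
      rcases C.orbit_sizes Rg hle with q | q | q | q <;> rw [q] at hm h2 <;> omega
    have hmul : Nat.card ((C.S.G ⧸ Rg) × T) ≤ Nat.card C.Aut := by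
      refine Nat.card_le_card_of_injective (fun q => (⟨(q.1.out : C.S.G).1 * q.2.1,
        C.Aut.mul_mem (C.aut_G (SetLike.coe_mem _)) (hTA q.2.2)⟩ : C.Aut)) ?_
      rintro ⟨q, t⟩ ⟨q', t'⟩ h
      have h' : (q.out : C.S.G).1 * t.1 = (q'.out : C.S.G).1 * t'.1 := congrArg Subtype.val h
      have hmem : q'.out⁻¹ * q.out ∈ Rg := by
        show ((q'.out⁻¹ * q.out : C.S.G) : Perm Ω) ∈ T
        rw [Subgroup.coe_mul, Subgroup.coe_inv, show ((q'.out : C.S.G) : Perm Ω)⁻¹ * (q.out : C.S.G).1 = t'.1 * t.1⁻¹ by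
          rw [eq_mul_inv_iff_mul_eq, mul_assoc, h', inv_mul_cancel_left]]
        exact mul_mem t'.2 (inv_mem t.2)
      have hq : q = q' := by
        rw [← QuotientGroup.out_eq' q, ← QuotientGroup.out_eq' q']
        exact (QuotientGroup.eq.mpr hmem).symm
      subst hq
      exact Prod.ext rfl (Subtype.ext (mul_left_cancel h'))
    have := hmul.trans C.card_aut
    rw [Nat.card_prod, ← Subgroup.index_eq_card, hRg, MulAction.index_stabilizer_of_transitive, hTc,
      Nat.card_eq_fintype_card, C.S.hΩ] at this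
    norm_num at this
  have hGT : C.S.G ≤ T := fun g hg => by
    have := htop.symm ▸ Subgroup.mem_top (⟨g, hg⟩ : C.S.G)
    exact this
  have e2 := Subgroup.eq_of_le_of_card_ge hGT (by rw [hTc, C.card_G])
  exact ⟨(Subgroup.equivMapOfInjective C'.S.G _ (MulEquiv.injective _)).trans (MulEquiv.subgroupCongr e2.symm)⟩

end

end Ctx

end Cfsg.Agent.Spor.SuzUnique
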