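import Cfsg.Agent.Lib.Spor.SuzUniqueChecks

/-!
The point stabiliser of the Suzuki group acting on points and on lines: the stabiliser of a line, the
root groups, the Sylow two group.
-/

set_option autoImplicit false
set_option maxRecDepth 100000
set_option linter.style.haveILetI false

namespace Cfsg.Agent.Spor.SuzUnique

open Cfsg.Agent.Lie.PermNine (pg)

attribute [local irreducible] g4 g13 hF hL uF uL pF pL jF zF tF nfF

/-- a group acting on points and lines by the given tables -/
structure Model (X : Type) [Group X] where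
  /-- the action on the points -/
  φ : X →* Equiv.Perm (Fin 416)
  /-- the action on the lines -/
  ψ : X →* Equiv.Perm (Fin 1365)
  /-- the generators -/
  gen : ℕ → X
  sq : ∀ s, gen s * gen s = 1
  gen_phi : ∀ (s : ℕ) (j : Fin 416), (φ (gen s) j : ℕ) = g4 s j
  gen_psi : ∀ (s : ℕ) (i : Fin 1365), (ψ (gen s) i : ℕ) = g13 s i
  base : ∀ x y : X, (∀ b ∈ b5, ∀ j : Fin 416, (j : ℕ) = b → φ x j = φ y j) → x = y
  card : Nat.card X = 251596800

theorem blt_lt {a b : ℕ} (h : Nat.blt a b = true) : a < b := by rwa [Nat.blt_eq] at h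

theorem lt_blt {a b : ℕ} (h : a < b) : Nat.blt a b = true := by rwa [Nat.blt_eq]

theorem b5_lt : ∀ b ∈ b5, b < 416 := by decide

theorem three_cases {a : ℕ} (ha : a ∈ List.range' 1 3) : a = 1 ∨ a = 2 ∨ a = 3 := by
  rw [List.mem_range'_1] at ha; omega

theorem tab_spec {P : List ℕ} {f : ℕ → ℕ → ℕ} {W : List (List ℕ)} (h : tabOK P f W = true) (s : ℕ) (j : Fin 416) :
    tabF P s j = evW f (W.getD s []) j := by
  simp only [tabOK, Bool.and_eq_true, List.all_eq_true, List.mem_range, Nat.beq_eq] at h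
  rw [tabF]
  by_cases hs : s < P.length
  · rw [show Nat.blt s P.length = true from lt_blt hs, cond_true]
    exact h.2 s hs j j.2
  · rw [show Nat.blt s P.length = false from Bool.eq_false_iff.2 fun c => hs (blt_lt c), cond_false,
      List.getD_eq_default _ _ (by rw [h.1]; omega)]
    rfl

theorem hF_eq (k : ℕ) (j : Fin 416) : hF k j = evW g4 (hsW.getD k []) j := by
  unfold hF; exact tab_spec hsP_ok k j

theorem uF_eq (k : ℕ) (j : Fin 416) : uF k j = evW hF (uW.getD k []) j := by
  unfold uF; exact tab_spec uP_ok k j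

theorem pF_eq (k : ℕ) (j : Fin 416) : pF k j = evW g4 (pW.getD k []) j := by
  unfold pF; exact tab_spec pP_ok k j

theorem jF_eq (k : ℕ) (j : Fin 416) : jF k j = evW g4 (jW.getD k []) j := by
  unfold jF; exact tab_spec jP_ok k j

theorem hs_count : hsW.length = 3 ∧ uW.length = 12 := by decide +kernel

theorem hL_zero (k : ℕ) : hL k 0 = 0 := by
  by_cases hk : k < hsW.length
  · exact Nat.eq_of_beq_eq_true (List.all_eq_true.mp hs_fix k (List.mem_range.mpr hk))
  · unfold hL
    rw [List.getD_eq_default _ _ (by omega)]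
    rfl

theorem uL_zero (k : ℕ) : uL k 0 = 0 := by
  by_cases hk : k < 12
  · exact Nat.eq_of_beq_eq_true (List.all_eq_true.mp u_fix.1 k (List.mem_range.mpr hk))
  · unfold uL
    rw [List.getD_eq_default _ _ (by rw [hs_count.2]; omega)]
    rfl

theorem lineT_all : ∀ x < 1365, tStep 1365 g13 [0] lineT x = true := fun x hx => by
  by_cases h : x < 700
  · exact tree_spec lineT_ok0 (Nat.zero_le _) (by omega)
  · exact tree_spec lineT_ok1 (by omega) (by omega)

theorem ptT_all : ∀ x < 416, tStep 416 g4 [0] ptT x = true := fun x hx =>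
  tree_spec ptT_ok (Nat.zero_le _) (by omega)

theorem p1LineT_all : ∀ x < 1365, tStep 1365 hL p1LineR p1LineT x = true := fun x hx => by
  by_cases h : x < 700
  · exact tree_spec p1LineT_ok0 (Nat.zero_le _) (by omega)
  · exact tree_spec p1LineT_ok1 (by omega) (by omega)

theorem p1PtT_all : ∀ x < 416, tStep 416 hF p1PtR p1PtT x = true := fun x hx =>
  tree_spec p1PtT_ok (Nat.zero_le _) (by omega)

theorem uLineT_all : ∀ x < 1365, tStep 1365 uL uLineR uLineT x = true := fun x hx => by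
  by_cases h : x < 300
  · exact tree_spec uLineT_ok0 (Nat.zero_le _) (by omega)
  by_cases h' : x < 600
  · exact tree_spec uLineT_ok1 (by omega) (by omega)
  by_cases h'' : x < 1000
  · exact tree_spec uLineT_ok2 (by omega) (by omega)
  · exact tree_spec uLineT_ok3 (by omega) (by omega)

theorem uPtT_all : ∀ x < 416, tStep 416 uF uPtR uPtT x = true := fun x hx =>
  tree_spec uPtT_ok (Nat.zero_le _) (by omega)

theorem pLineT_all : ∀ x < 1365, tStep 1365 pL pLineR pLineT x = true := fun x hx => by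
  by_cases h : x < 700
  · exact tree_spec pLineT_ok0 (Nat.zero_le _) (by omega)
  · exact tree_spec pLineT_ok1 (by omega) (by omega)

theorem jPtT_all : ∀ x < 416, tStep 416 jF jPtR jPtT x = true := fun x hx =>
  tree_spec jPtT_ok (Nat.zero_le _) (by omega)

/-- the first point -/
abbrev p0 : Fin 416 := ⟨0, by norm_num⟩
/-- the first line -/
abbrev l0 : Fin 1365 := ⟨0, by norm_num⟩

namespace Model

variable {X : Type} [Group X] (D : Model X)

/-- the value of a word -/
def el (w : List ℕ) : X := elW D.gen w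

theorem el_phi (w : List ℕ) (j : Fin 416) : (D.φ (D.el w) j : ℕ) = evW g4 w j := elW_img D.gen_phi w j

theorem el_psi (w : List ℕ) (i : Fin 1365) : (D.ψ (D.el w) i : ℕ) = evW g13 w i := elW_img D.gen_psi w i

theorem el_inv (w : List ℕ) : D.el w.reverse = (D.el w)⁻¹ := elW_reverse D.sq w

theorem el_inv_phi (w : List ℕ) (j : Fin 416) : (D.φ (D.el w)⁻¹ j : ℕ) = evW g4 w.reverse j := by
  rw [← el_inv, el_phi]

/-- generators of the stabiliser of the first line -/
def hk (k : ℕ) : X := D.el (hsW.getD k [])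
/-- generators of the two group -/
def u (k : ℕ) : X := elW D.hk (uW.getD k [])
/-- generators of the five group -/
def pk (k : ℕ) : X := D.el (pW.getD k [])
/-- generators of the stabiliser of the first point -/
def jk (k : ℕ) : X := D.el (jW.getD k [])

theorem hk_phi (k : ℕ) (j : Fin 416) : (D.φ (D.hk k) j : ℕ) = hF k j := (D.el_phi _ j).trans (hF_eq k j).symm

theorem hk_psi (k : ℕ) (i : Fin 1365) : (D.ψ (D.hk k) i : ℕ) = hL k i := by
  unfold hL; exact D.el_psi _ i

theorem u_phi (k : ℕ) (j : Fin 416) : (D.φ (D.u k) j : ℕ) = uF k j :=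
  (elW_img D.hk_phi _ j).trans (uF_eq k j).symm

theorem u_psi (k : ℕ) (i : Fin 1365) : (D.ψ (D.u k) i : ℕ) = uL k i := by
  unfold uL; exact elW_img D.hk_psi _ i

theorem pk_phi (k : ℕ) (j : Fin 416) : (D.φ (D.pk k) j : ℕ) = pF k j := (D.el_phi _ j).trans (pF_eq k j).symm

theorem pk_psi (k : ℕ) (i : Fin 1365) : (D.ψ (D.pk k) i : ℕ) = pL k i := by
  unfold pL; exact D.el_psi _ i

theorem jk_phi (k : ℕ) (j : Fin 416) : (D.φ (D.jk k) j : ℕ) = jF k j := (D.el_phi _ j).trans (jF_eq k j).symm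

/-- two elements agreeing on the base are equal -/
theorem eq_of_b5 {x y : X} {f f' : ℕ → ℕ} (hx : ∀ j : Fin 416, (D.φ x j : ℕ) = f j)
    (hy : ∀ j : Fin 416, (D.φ y j : ℕ) = f' j) (h : b5.all (fun b => Nat.beq (f b) (f' b)) = true) : x = y := by
  refine D.base x y fun b hb j hj => Fin.ext ?_
  rw [hx, hy, hj]
  exact Nat.eq_of_beq_eq_true (List.all_eq_true.mp h b hb)

/-- two elements differing on the base are different -/
theorem ne_of_b5 {x y : X} {f f' : ℕ → ℕ} (hx : ∀ j : Fin 416, (D.φ x j : ℕ) = f j)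
    (hy : ∀ j : Fin 416, (D.φ y j : ℕ) = f' j) (h : b5.any (fun b => !(Nat.beq (f b) (f' b))) = true) : x ≠ y := by
  obtain ⟨b, hb, h⟩ := List.any_eq_true.mp h
  rintro rfl
  rw [← (hx ⟨b, b5_lt b hb⟩).symm.trans (hy ⟨b, b5_lt b hb⟩), Nat.beq_refl] at h
  exact Bool.false_ne_true h

theorem one_phi (j : Fin 416) : (D.φ 1 j : ℕ) = id (j : ℕ) := by rw [map_one]; rfl

theorem mul_phi {x y : X} {f f' : ℕ → ℕ} (hx : ∀ j : Fin 416, (D.φ x j : ℕ) = f j)
    (hy : ∀ j : Fin 416, (D.φ y j : ℕ) = f' j) (j : Fin 416) : (D.φ (x * y) j : ℕ) = f (f' j) := by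
  rw [map_mul, Equiv.Perm.mul_apply, hx, hy]

/-- the stabiliser of the first line -/
def P1 : Subgroup X := (MulAction.stabilizer (Equiv.Perm (Fin 1365)) l0).comap D.ψ

theorem mem_P1 {g : X} : g ∈ D.P1 ↔ D.ψ g l0 = l0 := Iff.rfl

/-- the stabiliser of a point -/
def J (q : Fin 416) : Subgroup X := (MulAction.stabilizer (Equiv.Perm (Fin 416)) q).comap D.φ

theorem mem_J {g : X} {q : Fin 416} : g ∈ D.J q ↔ D.φ g q = q := Iff.rfl

/-- the stabiliser of a line -/
def P (i : Fin 1365) : Subgroup X := (MulAction.stabilizer (Equiv.Perm (Fin 1365)) i).comap D.ψ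

theorem mem_P {g : X} {i : Fin 1365} : g ∈ D.P i ↔ D.ψ g i = i := Iff.rfl

theorem line_trans (i : Fin 1365) : ∃ g : X, D.ψ g l0 = i := by
  obtain ⟨k, -, r, hr, hk⟩ := tree_reach lineT_all (H := ⊤) (fun _ => trivial) D.gen_psi i
  refine ⟨k, ?_⟩
  have : r = l0 := Fin.ext (by
    rw [hr]
    have := tree_lab lineT_all i
    simp only [List.length_singleton, Nat.lt_one_iff] at this
    rw [this]; rfl)
  rwa [this] at hk

theorem point_trans (q : Fin 416) : ∃ g : X, D.φ g p0 = q := by
  obtain ⟨k, -, r, hr, hk⟩ := tree_reach ptT_all (H := ⊤) (fun _ => trivial) D.gen_phi q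
  refine ⟨k, ?_⟩
  have : r = p0 := Fin.ext (by
    rw [hr]
    have := tree_lab ptT_all q
    simp only [List.length_singleton, Nat.lt_one_iff] at this
    rw [this]; rfl)
  rwa [this] at hk

include D in
theorem finite : Finite X := Nat.finite_of_card_ne_zero (by rw [D.card]; norm_num)

theorem card_P (i : Fin 1365) : Nat.card (D.P i) = 184320 := by
  haveI := D.finite
  letI : MulAction X (Fin 1365) := MulAction.compHom _ D.ψ
  haveI : MulAction.IsPretransitive X (Fin 1365) := ⟨fun a b => by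
    obtain ⟨g, hg⟩ := D.line_trans a
    obtain ⟨h, hh⟩ := D.line_trans b
    refine ⟨h * g⁻¹, ?_⟩
    show D.ψ (h * g⁻¹) a = b
    rw [map_mul, map_inv, Equiv.Perm.mul_apply, ← hg, Equiv.Perm.inv_def, Equiv.symm_apply_apply, hh]⟩
  have h := Subgroup.card_mul_index (MulAction.stabilizer X i)
  rw [MulAction.index_stabilizer_of_transitive, Nat.card_fin, D.card] at h
  show Nat.card (MulAction.stabilizer X i) = _
  omega

theorem card_P1 : Nat.card D.P1 = 184320 := D.card_P l0

theorem card_J (q : Fin 416) : Nat.card (D.J q) = 604800 := by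
  haveI := D.finite
  letI : MulAction X (Fin 416) := MulAction.compHom _ D.φ
  haveI : MulAction.IsPretransitive X (Fin 416) := ⟨fun a b => by
    obtain ⟨g, hg⟩ := D.point_trans a
    obtain ⟨h, hh⟩ := D.point_trans b
    refine ⟨h * g⁻¹, ?_⟩
    show D.φ (h * g⁻¹) a = b
    rw [map_mul, map_inv, Equiv.Perm.mul_apply, ← hg, Equiv.Perm.inv_def, Equiv.symm_apply_apply, hh]⟩
  have h := Subgroup.card_mul_index (MulAction.stabilizer X q)
  rw [MulAction.index_stabilizer_of_transitive, Nat.card_fin, D.card] at h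
  show Nat.card (MulAction.stabilizer X q) = _
  omega

theorem hk_mem (k : ℕ) : D.hk k ∈ D.P1 := Fin.ext ((D.hk_psi k l0).trans (hL_zero k))

/-- the group of the given generators -/
def hG : Subgroup X := Subgroup.closure (Set.range D.hk)

theorem hk_hG (k : ℕ) : D.hk k ∈ D.hG := Subgroup.subset_closure ⟨k, rfl⟩

theorem hG_eq : D.hG = D.P1 := by
  haveI := D.finite
  refine Subgroup.eq_of_le_of_card_ge ((Subgroup.closure_le _).2 (by rintro _ ⟨k, rfl⟩; exact D.hk_mem k)) ?_
  have h := lv_card D.hk_hG D.hk_phi p1Lv_ok.1 fun l hl => blt_lt (List.all_eq_true.mp p1Lv_ok.2.2 l hl)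
  rw [p1Lv_ok.2.1] at h
  rw [card_P1]
  exact h

/-- the group of the generators of the stabiliser of the first point -/
def jG : Subgroup X := Subgroup.closure {D.jk 0, D.jk 1}

theorem jW_len : jW.length = 2 := by decide +kernel

theorem jk_mem (k : ℕ) : D.jk k ∈ D.J p0 := by
  refine Fin.ext ((D.jk_phi k p0).trans ?_)
  by_cases hk : k < jW.length
  · exact Nat.eq_of_beq_eq_true (List.all_eq_true.mp j_fix k (List.mem_range.mpr hk))
  · rw [jF_eq k p0, List.getD_eq_default _ _ (by omega)]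
    rfl

theorem jG_eq : D.jG = D.J p0 := by
  haveI := D.finite
  refine Subgroup.eq_of_le_of_card_ge ((Subgroup.closure_le _).2 fun x hx => ?_) ?_
  · rcases hx with rfl | rfl <;> exact D.jk_mem _
  have hg : ∀ k, D.jk k ∈ D.jG := fun k => by
    rcases k with _ | _ | k
    · exact Subgroup.subset_closure (Or.inl rfl)
    · exact Subgroup.subset_closure (Or.inr rfl)
    · rw [jk, List.getD_eq_default _ _ (by rw [jW_len]; omega)]
      exact one_mem _
  have h := lv_card hg D.jk_phi jLv_ok.1 fun l hl => blt_lt (List.all_eq_true.mp jLv_ok.2.2 l hl)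
  rw [jLv_ok.2.1] at h
  rw [card_J]
  exact h

/-! ### the two group -/

/-- the first root group -/
def Z0 : Subgroup X := serG D.u 2

/-- the nontrivial elements of the first root group -/
def za (a : ℕ) : X := elW D.u (nfW 2 a)

theorem nf_phi (k a : ℕ) (j : Fin 416) : (D.φ (elW D.u (nfW k a)) j : ℕ) = evW uF (nfW k a) j := elW_img D.u_phi _ j

theorem z_word (i : ℕ) (hi : i < 2) : D.u i = D.el (zW.getD i []) := by
  refine D.eq_of_b5 (D.u_phi i) (D.el_phi _) (List.all_eq_true.mpr fun b hb => ?_)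
  have h := List.all_eq_true.mp (List.all_eq_true.mp z_base i (List.mem_range.mpr hi)) b hb
  rw [Nat.beq_eq]
  exact (Nat.eq_of_beq_eq_true h).symm

theorem za_word (a : ℕ) : D.za a = D.el ((nfW 2 a).flatMap fun i => zW.getD i []) := by
  have key : ∀ w : List ℕ, (∀ i ∈ w, i < 2) → elW D.u w = D.el (w.flatMap fun i => zW.getD i []) := by
    intro w
    induction w with
    | nil => exact fun _ => rfl
    | cons s w ih =>
      intro h
      rw [List.flatMap_cons, el, elW_append, elW_cons, ih fun i hi => h i (List.mem_cons_of_mem _ hi),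
        D.z_word s (h s List.mem_cons_self)]
      rfl
  exact key _ fun i hi => List.mem_range.mp (List.mem_filter.mp hi).1

theorem za_phi (a : ℕ) (j : Fin 416) : (D.φ (D.za a) j : ℕ) = zF a j := by
  rw [za_word, el_phi]; unfold zF; rfl

theorem ser_hyp : (∀ k < 12, D.u k * D.u k ∈ serG D.u k) ∧
    (∀ k < 12, ∀ i < k, D.u k * D.u i * (D.u k)⁻¹ ∈ serG D.u k) ∧
    ∀ k < 12, ∀ a < 2 ^ k, D.u k ≠ elW D.u (nfW k a) := by
  refine ⟨fun k hk => ?_, fun k hk i hi => ?_, fun k hk a ha => ?_⟩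
  · have h := List.all_eq_true.mp ser_ok k (List.mem_range.mpr hk)
    simp only [serOK, Bool.and_eq_true] at h
    rw [D.eq_of_b5 (D.mul_phi (D.u_phi k) (D.u_phi k)) (D.nf_phi k _) h.1.2]
    exact nf_mem _ _ _
  · have h := List.all_eq_true.mp ser_ok k (List.mem_range.mpr hk)
    simp only [serOK, Bool.and_eq_true] at h
    have h' := List.all_eq_true.mp h.2 i (List.mem_range.mpr hi)
    simp only [Bool.and_eq_true] at h'
    rw [mul_inv_eq_of_eq_mul (D.eq_of_b5 (D.mul_phi (D.u_phi k) (D.u_phi i))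
      (D.mul_phi (D.nf_phi k _) (D.u_phi k)) h'.2)]
    exact nf_mem _ _ _
  · exact D.ne_of_b5 (D.u_phi k) (D.nf_phi k a)
      (List.all_eq_true.mp (List.all_eq_true.mp ser_new k (List.mem_range.mpr hk)) a (List.mem_range.mpr ha))

theorem ser_facts {k : ℕ} (hk : k ≤ 12) :
    Nat.card (serG D.u k) = 2 ^ k ∧ ∀ x ∈ serG D.u k, ∃ a < 2 ^ k, x = elW D.u (nfW k a) :=
  haveI := D.finite
  series D.ser_hyp.1 D.ser_hyp.2.1 D.ser_hyp.2.2 k hk

/-- the Sylow two group -/
def U : Subgroup X := serG D.u 12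

theorem u_U (k : ℕ) : D.u k ∈ D.U := by
  by_cases hk : k < 12
  · exact gen_serG _ hk
  · rw [u, List.getD_eq_default _ _ (by rw [hs_count.2]; omega), elW_nil]
    exact one_mem _

theorem U_le_P1 : D.U ≤ D.P1 := (Subgroup.closure_le _).2 fun x hx => by
  obtain ⟨k, -, rfl⟩ := hx
  exact elW_mem D.hk_mem _

theorem Z0_central {z g : X} (hz : z ∈ D.Z0) (hg : g ∈ D.U) : z * g = g * z := by
  have key : ∀ i < 2, ∀ k < 12, D.u i * D.u k = D.u k * D.u i := fun i hi k hk =>
    D.eq_of_b5 (D.mul_phi (D.u_phi i) (D.u_phi k)) (D.mul_phi (D.u_phi k) (D.u_phi i))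
      (List.all_eq_true.mp (List.all_eq_true.mp u_central i (List.mem_range.mpr hi)) k (List.mem_range.mpr hk))
  have h1 : D.Z0 ≤ Subgroup.centralizer (D.U : Set X) := (Subgroup.closure_le _).2 fun x hx => by
    obtain ⟨i, hi, rfl⟩ := hx
    rw [SetLike.mem_coe, Subgroup.mem_centralizer_iff]
    intro y hy
    have : D.U ≤ Subgroup.centralizer {D.u i} := (Subgroup.closure_le _).2 fun y hy => by
      obtain ⟨k, hk, rfl⟩ := hy
      rw [SetLike.mem_coe, Subgroup.mem_centralizer_singleton_iff]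
      exact (key i hi k hk).symm
    exact Subgroup.mem_centralizer_singleton_iff.1 (this hy)
  exact (Subgroup.mem_centralizer_iff.1 (h1 hz) g hg).symm

theorem za_cases {x : X} (hx : x ∈ D.Z0) : x = 1 ∨ ∃ a ∈ List.range' 1 3, x = D.za a := by
  obtain ⟨a, ha, rfl⟩ := (D.ser_facts (k := 2) (by norm_num)).2 x hx
  rcases Nat.eq_zero_or_pos a with rfl | h
  · exact Or.inl (by simp [nfW, elW])
  · exact Or.inr ⟨a, List.mem_range'_1.2 ⟨h, by norm_num at ha; omega⟩, rfl⟩

theorem za_mem (a : ℕ) : D.za a ∈ D.Z0 := nf_mem _ _ _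

theorem za_ne {a : ℕ} (ha : a ∈ List.range' 1 3) : D.za a ≠ 1 :=
  D.ne_of_b5 (D.za_phi a) D.one_phi (List.all_eq_true.mp z_ne a ha)

theorem hk_Z0 (k : ℕ) (z : X) (hz : z ∈ D.Z0) : D.hk k * z * (D.hk k)⁻¹ ∈ D.Z0 := by
  induction hz using Subgroup.closure_induction with
  | mem x hx =>
    obtain ⟨i, hi, rfl⟩ := hx
    by_cases hk : k < hsW.length
    · have h := List.all_eq_true.mp (List.all_eq_true.mp hs_z k (List.mem_range.mpr hk)) i (List.mem_range.mpr hi)
      simp only [hzOK, Bool.and_eq_true] at h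
      show D.hk k * D.u i * (D.el (hsW.getD k []))⁻¹ ∈ D.Z0
      have e : ∀ j : Fin 416, (D.φ (D.hk k * D.el (zW.getD i []) * (D.el (hsW.getD k []))⁻¹) j : ℕ) =
          hF k (evW g4 (zW.getD i []) (evW g4 (hsW.getD k []).reverse j)) := fun j => by
        rw [map_mul, map_mul, Equiv.Perm.mul_apply, Equiv.Perm.mul_apply, hk_phi, el_phi, el_inv_phi]
      rw [D.z_word i hi, D.eq_of_b5 e (D.za_phi _) h.2]
      exact D.za_mem _
    · rw [hk_eq_one D (by omega)]
      rw [one_mul, inv_one, mul_one]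
      exact gen_serG D.u hi
  | one => simp
  | mul a b _ _ ha hb =>
    rw [show D.hk k * (a * b) * (D.hk k)⁻¹ = D.hk k * a * (D.hk k)⁻¹ * (D.hk k * b * (D.hk k)⁻¹) by group]
    exact mul_mem ha hb
  | inv a _ ha =>
    rw [show D.hk k * a⁻¹ * (D.hk k)⁻¹ = (D.hk k * a * (D.hk k)⁻¹)⁻¹ by group]
    exact inv_mem ha
where
  /-- generators beyond the list are trivial -/
  hk_eq_one (D : Model X) {k : ℕ} (hk : hsW.length ≤ k) : D.hk k = 1 := by
    rw [Model.hk, List.getD_eq_default _ _ hk]; rfl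

theorem P1_Z0 {g : X} (hg : g ∈ D.P1) {z : X} (hz : z ∈ D.Z0) : g * z * g⁻¹ ∈ D.Z0 := by
  haveI := D.finite
  rw [← hG_eq, hG, ← Subgroup.mem_toSubmonoid, Subgroup.closure_toSubmonoid_of_finite] at hg
  induction hg using Submonoid.closure_induction generalizing z with
  | mem x hx => obtain ⟨k, rfl⟩ := hx; exact D.hk_Z0 k z hz
  | one => simpa using hz
  | mul a b _ _ ha hb =>
    rw [show a * b * z * (a * b)⁻¹ = a * (b * z * b⁻¹) * a⁻¹ by group]
    exact ha (hb hz)

end Model

end Cfsg.Agent.Spor.SuzUnique
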