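import Cfsg.Agent.Lib.Spor.SuzUniqueRoots

/-!
A subgroup of order 128 of the Sylow two group contains a root element of the first line.
-/

set_option autoImplicit false
set_option maxRecDepth 100000
set_option linter.style.haveILetI false

namespace Cfsg.Agent.Spor.SuzUnique

open Matrix

/-- products in the first root group -/
def zmulOK (c d : ℕ) : Bool := b5.all fun b => Nat.beq (zF c (zF d b)) (zF (c ^^^ d) b)

theorem z_mul : ((List.range 4).all fun c => (List.range 4).all (zmulOK c)) = true := by decide +kernel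

/-- the form -/
def Mi : Matrix (Fin 8) (Fin 8) (ZMod 2) := fun k j => ((qJi.getD j []).getD k 0 : ℕ)

/-- the rows of the commutator table -/
def Jm : Matrix (Fin 8) (Fin 8) (ZMod 2) := fun i j => ((qJ.getD i []).getD j 0 : ℕ)

theorem J_Mi : Jm * Miᵀ = 1 := by decide +kernel

attribute [local irreducible] g4 g13 hF hL uF uL pF pL jF zF tF nfF

namespace Model

noncomputable section

variable {X : Type} [Group X] (D : Model X)

/-- the large subgroup -/
def Q : Subgroup X := serG D.u 10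

theorem Z0_le_Q : D.Z0 ≤ D.Q := serG_mono _ (by norm_num)

theorem Q_le_U : D.Q ≤ D.U := serG_mono _ (by norm_num)

theorem za_mul {c d : ℕ} (hc : c < 4) (hd : d < 4) : D.za c * D.za d = D.za (c ^^^ d) :=
  D.eq_of_b5 (D.mul_phi (D.za_phi c) (D.za_phi d)) (D.za_phi _)
    (List.all_eq_true.mp (List.all_eq_true.mp z_mul c (List.mem_range.mpr hc)) d (List.mem_range.mpr hd))

theorem za_zero : D.za 0 = 1 := by simp [za, nfW, elW]

theorem za_lt {x : X} (hx : x ∈ D.Z0) : ∃ a < 4, x = D.za a := by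
  obtain ⟨a, ha, h⟩ := (D.ser_facts (k := 2) (by norm_num)).2 x hx
  exact ⟨a, by simpa using ha, h⟩

/-- the functional on the root group -/
def chi (x : X) : ZMod 2 :=
  haveI := Classical.decEq X
  if x = D.za 0 ∨ x = D.za 2 then 0 else 1

theorem chi_za {a : ℕ} (ha : a < 4) : D.chi (D.za a) = ((if a.testBit 0 then 1 else 0 : ℕ) : ZMod 2) := by
  rw [chi]
  interval_cases a
  · rw [if_pos (Or.inl rfl)]; rfl
  · rw [if_neg ?_]
    · rfl
    rintro (h | h) <;> exact absurd (D.za_inj (by norm_num) (by norm_num) h) (by norm_num)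
  · rw [if_pos (Or.inr rfl)]; rfl
  · rw [if_neg ?_]
    · rfl
    rintro (h | h) <;> exact absurd (D.za_inj (by norm_num) (by norm_num) h) (by norm_num)

theorem chi_mul {x y : X} (hx : x ∈ D.Z0) (hy : y ∈ D.Z0) : D.chi (x * y) = D.chi x + D.chi y := by
  obtain ⟨a, ha, rfl⟩ := D.za_lt hx
  obtain ⟨b, hb, rfl⟩ := D.za_lt hy
  rw [D.za_mul ha hb, D.chi_za ha, D.chi_za hb,
    D.chi_za (Nat.xor_lt_two_pow (n := 2) (by simpa using ha) (by simpa using hb))]
  interval_cases a <;> interval_cases b <;> decide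

/-- the commutator -/
def cmt (a b : X) : X := a * b * a⁻¹ * b⁻¹

theorem cmt_gen {i j : ℕ} (hi : i < 10) (hj : j < 10) :
    cmt (D.u i) (D.u j) = D.za ((qCm.getD i []).getD j 0) ∧ (qCm.getD i []).getD j 0 < 4 := by
  have h := List.all_eq_true.mp (List.all_eq_true.mp q_comm i (List.mem_range.mpr hi)) j (List.mem_range.mpr hj)
  simp only [cmOK, Bool.and_eq_true] at h
  refine ⟨?_, blt_lt h.1⟩
  have e1 : ∀ x : Fin 416, (D.φ (elW D.u (nfW 2 ((qCm.getD i []).getD j 0)) * (D.u j * D.u i)) x : ℕ) =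
      evW uF (nfW 2 ((qCm.getD i []).getD j 0)) (uF j (uF i x)) := fun x => by
    rw [map_mul, map_mul, Equiv.Perm.mul_apply, Equiv.Perm.mul_apply, nf_phi, u_phi, u_phi]
  have e := D.eq_of_b5 (D.mul_phi (D.u_phi i) (D.u_phi j)) e1 h.2
  rw [cmt, e, za]
  group

theorem cmt_Q {a b : X} (ha : a ∈ D.Q) (hb : b ∈ D.Q) : cmt a b ∈ D.Z0 := by
  have hc : ∀ {z g : X}, z ∈ D.Z0 → g ∈ D.Q → z * g = g * z := fun hz hg => D.Z0_central hz (D.Q_le_U hg)
  have hgen : ∀ i < 10, ∀ b ∈ D.Q, cmt (D.u i) b ∈ D.Z0 := by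
    intro i hi b hb
    induction hb using Subgroup.closure_induction with
    | mem x hx =>
      obtain ⟨j, hj, rfl⟩ := hx
      rw [(D.cmt_gen hi hj).1]
      exact D.za_mem _
    | one => simp [cmt]
    | mul x y hx hy ih1 ih2 =>
      have e : cmt (D.u i) (x * y) = cmt (D.u i) x * (x * cmt (D.u i) y * x⁻¹) := by simp only [cmt]; group
      rw [e, ← hc ih2 hx, mul_inv_cancel_right]
      exact mul_mem ih1 ih2
    | inv x hx ih =>
      have e : cmt (D.u i) x⁻¹ = x⁻¹ * (cmt (D.u i) x)⁻¹ * x := by simp only [cmt]; group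
      rw [e, mul_assoc, hc (inv_mem ih) hx, inv_mul_cancel_left]
      exact inv_mem ih
  induction ha using Subgroup.closure_induction with
  | mem x hx => obtain ⟨i, hi, rfl⟩ := hx; exact hgen i hi b hb
  | one => simp [cmt]
  | mul x y hx hy ih1 ih2 =>
    have e : cmt (x * y) b = x * cmt y b * x⁻¹ * cmt x b := by simp only [cmt]; group
    rw [e, ← hc ih2 hx, mul_inv_cancel_right]
    exact mul_mem ih2 ih1
  | inv x hx ih =>
    have e : cmt x⁻¹ b = x⁻¹ * (cmt x b)⁻¹ * x := by simp only [cmt]; group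
    rw [e, mul_assoc, hc (inv_mem ih) hx, inv_mul_cancel_left]
    exact inv_mem ih

/-- the form on the large subgroup -/
def F (a b : X) : ZMod 2 := D.chi (cmt a b)

theorem F_right {a b c : X} (ha : a ∈ D.Q) (hb : b ∈ D.Q) (hc : c ∈ D.Q) : D.F a (b * c) = D.F a b + D.F a c := by
  have e : cmt a (b * c) = cmt a b * (b * cmt a c * b⁻¹) := by simp only [cmt]; group
  rw [F, e, ← D.Z0_central (D.cmt_Q ha hc) (D.Q_le_U hb), mul_inv_cancel_right,
    D.chi_mul (D.cmt_Q ha hb) (D.cmt_Q ha hc)]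
  rfl

theorem F_left {a b c : X} (ha : a ∈ D.Q) (hb : b ∈ D.Q) (hc : c ∈ D.Q) : D.F (a * b) c = D.F a c + D.F b c := by
  have e : cmt (a * b) c = a * cmt b c * a⁻¹ * cmt a c := by simp only [cmt]; group
  rw [F, e, ← D.Z0_central (D.cmt_Q hb hc) (D.Q_le_U ha), mul_inv_cancel_right,
    D.chi_mul (D.cmt_Q hb hc) (D.cmt_Q ha hc), add_comm]
  rfl

theorem F_one (a : X) : D.F a 1 = 0 := by
  rw [F, show cmt a (1 : X) = D.za 0 by rw [za_zero]; simp [cmt], chi_za D (by norm_num)]
  rfl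

theorem F_zero {a z : X} (ha : a ∈ D.Q) (hz : z ∈ D.Z0) : D.F z a = 0 ∧ D.F a z = 0 := by
  have h := D.Z0_central hz (D.Q_le_U ha)
  refine ⟨?_, ?_⟩
  · rw [F, show cmt z a = D.za 0 by rw [za_zero, cmt, h]; group, chi_za D (by norm_num)]; rfl
  · rw [F, show cmt a z = D.za 0 by rw [za_zero, cmt, ← h]; group, chi_za D (by norm_num)]; rfl

/-- the coordinates -/
def crd (a : X) : Fin 8 → ZMod 2 := fun j => D.F a (D.u (j.val + 2))

theorem crd_mul {a b : X} (ha : a ∈ D.Q) (hb : b ∈ D.Q) : D.crd (a * b) = D.crd a + D.crd b :=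
  funext fun j => D.F_left ha hb (gen_serG _ (by omega))

theorem crd_gen (k : Fin 8) : D.crd (D.u (k.val + 2)) = Jm k := by
  funext j
  obtain ⟨e, hlt⟩ := D.cmt_gen (i := k.val + 2) (j := j.val + 2) (by omega) (by omega)
  rw [crd, F, e, D.chi_za hlt, Jm]
  have h := List.all_eq_true.mp (List.all_eq_true.mp q_form.1 k.val (List.mem_range.mpr k.2)) j.val
    (List.mem_range.mpr j.2)
  rw [q_form.2, Nat.beq_eq] at h
  rw [← h]
  cases ((qCm.getD (k.val + 2) []).getD (j.val + 2) 0).testBit 0 <;> rfl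

/-- the coordinates as a homomorphism -/
def crdHom : D.Q →* Multiplicative (Fin 8 → ZMod 2) :=
  MonoidHom.mk' (fun a => Multiplicative.ofAdd (D.crd a)) fun a b => by
    rw [Subgroup.coe_mul, D.crd_mul a.2 b.2]; rfl

theorem crd_inv {a : X} (ha : a ∈ D.Q) : D.crd a⁻¹ = D.crd a := by
  have h := D.crd_mul ha (inv_mem ha)
  rw [mul_inv_cancel, show D.crd 1 = 0 from funext fun j => by
    have := (D.F_zero (gen_serG D.u (show j.val + 2 < 10 by omega)) (one_mem D.Z0)).1
    exact this] at h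
  refine funext fun j => ?_
  have hj := congrFun h j
  simp only [Pi.zero_apply, Pi.add_apply] at hj
  revert hj
  generalize D.crd a j = s
  generalize D.crd a⁻¹ j = t
  revert s t
  decide

theorem crd_surj : Function.Surjective D.crdHom := by
  intro v
  let W : AddSubgroup (Fin 8 → ZMod 2) :=
    { carrier := {v | ∃ a ∈ D.Q, D.crd a = v}
      zero_mem' := ⟨1, one_mem _, funext fun j =>
        (D.F_zero (gen_serG D.u (show j.val + 2 < 10 by omega)) (one_mem D.Z0)).1⟩
      add_mem' := fun ⟨a, ha, e⟩ ⟨b, hb, e'⟩ => ⟨a * b, mul_mem ha hb, by rw [D.crd_mul ha hb, e, e']⟩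
      neg_mem' := fun ⟨a, ha, e⟩ => ⟨a⁻¹, inv_mem ha, by
        rw [D.crd_inv ha, e]; funext j; exact (ZMod.neg_eq_self_mod_two _).symm⟩ }
  have hall : ∀ c : Fin 8 → ZMod 2, c ᵥ* Jm ∈ W := fun c => by
    rw [Matrix.vecMul_eq_sum]
    refine sum_mem fun k _ => ?_
    have hk : Jm k ∈ W := ⟨_, gen_serG D.u (show k.val + 2 < 10 by omega), D.crd_gen k⟩
    rcases (show ∀ t : ZMod 2, t = 0 ∨ t = 1 by decide) (c k) with h | h <;> rw [h]
    · rw [zero_smul]; exact zero_mem W
    · rw [one_smul]; exact hk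
  have hm := hall (v.toAdd ᵥ* Miᵀ)
  rw [Matrix.vecMul_vecMul, show Miᵀ * Jm = 1 from mul_eq_one_comm.1 J_Mi, Matrix.vecMul_one] at hm
  obtain ⟨a, ha, e⟩ := hm
  exact ⟨⟨a, ha⟩, congrArg Multiplicative.ofAdd e⟩

theorem crd_ker {a : X} (ha : a ∈ D.Q) (h : D.crd a = 0) : a ∈ D.Z0 := by
  haveI := D.finite
  have hle : D.Z0.subgroupOf D.Q ≤ D.crdHom.ker := fun z hz => by
    rw [MonoidHom.mem_ker]
    show Multiplicative.ofAdd (D.crd z) = 1
    rw [show D.crd z = 0 from funext fun j => (D.F_zero (gen_serG D.u (show j.val + 2 < 10 by omega)) hz).1]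
    rfl
  have hk := Subgroup.card_mul_index D.crdHom.ker
  rw [Subgroup.index_ker, MonoidHom.range_eq_top.2 D.crd_surj, Nat.card_congr Subgroup.topEquiv.toEquiv,
    Nat.card_congr Multiplicative.toAdd, Nat.card_fun, Nat.card_zmod, Nat.card_fin,
    show Nat.card D.Q = 2 ^ 10 from (D.ser_facts (by norm_num)).1] at hk
  have hz : Nat.card (D.Z0.subgroupOf D.Q) = 4 := by
    rw [Nat.card_congr (Subgroup.subgroupOfEquivOfLe D.Z0_le_Q).toEquiv, Z0, (D.ser_facts (by norm_num)).1]
    norm_num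
  have e := Subgroup.eq_of_le_of_card_ge hle (by omega)
  have : (⟨a, ha⟩ : D.Q) ∈ D.crdHom.ker := by
    rw [MonoidHom.mem_ker]
    show Multiplicative.ofAdd (D.crd a) = 1
    rw [h]; rfl
  rw [← e] at this
  exact this

theorem F_eq {a b : X} (ha : a ∈ D.Q) (hb : b ∈ D.Q) : D.F a b = D.crd a ⬝ᵥ Mi *ᵥ D.crd b := by
  have h0 : D.crd 1 = 0 := funext fun j => (D.F_zero (gen_serG D.u (show j.val + 2 < 10 by omega)) (one_mem D.Z0)).1
  induction hb using Subgroup.closure_induction with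
  | mem x hx =>
    obtain ⟨i, hi, rfl⟩ := hx
    by_cases h2 : i < 2
    · rw [(D.F_zero ha (gen_serG D.u h2)).2, show D.crd (D.u i) = 0 from funext fun j =>
        (D.F_zero (gen_serG D.u (show j.val + 2 < 10 by omega)) (gen_serG D.u h2)).1]
      simp
    · simp only [Set.mem_ofPred_eq] at hi
      obtain ⟨k, rfl⟩ : ∃ k : Fin 8, i = k.val + 2 := ⟨⟨i - 2, by omega⟩, by simp; omega⟩
      rw [D.crd_gen, ← Matrix.vecMul_transpose]
      have e : Jm k ᵥ* Miᵀ = Pi.single k 1 := by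
        funext j
        show (Jm * Miᵀ) k j = _
        rw [J_Mi, Matrix.one_apply, Pi.single_apply]
        simp [eq_comm]
      rw [e, dotProduct_single, mul_one]
      rfl
  | one => rw [D.F_one, h0]; simp
  | mul x y hx hy ih1 ih2 => rw [D.F_right ha hx hy, D.crd_mul hx hy, Matrix.mulVec_add, dotProduct_add, ih1, ih2]
  | inv x hx ih =>
    have h := D.F_right ha hx (inv_mem hx)
    rw [mul_inv_cancel, D.F_one] at h
    rw [D.crd_inv hx, ← ih]
    revert h
    generalize D.F a x = s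
    generalize D.F a x⁻¹ = t
    revert s t
    decide

/-- an abelian subgroup avoiding the centre is small -/
theorem abelian_small (A : Subgroup X) (hA : A ≤ D.Q) (hab : ∀ a ∈ A, ∀ b ∈ A, a * b = b * a)
    (hz : ∀ a ∈ A, a ∈ D.Z0 → a = 1) : Nat.card A ≤ 16 := by
  haveI := D.finite
  haveI : Fact (Nat.Prime 2) := ⟨Nat.prime_two⟩
  let W0 : AddSubgroup (Fin 8 → ZMod 2) :=
    { carrier := {v | ∃ a ∈ A, D.crd a = v}
      zero_mem' := ⟨1, one_mem _, funext fun j =>
        (D.F_zero (gen_serG D.u (show j.val + 2 < 10 by omega)) (one_mem D.Z0)).1⟩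
      add_mem' := fun ⟨a, ha, e⟩ ⟨b, hb, e'⟩ =>
        ⟨a * b, mul_mem ha hb, by rw [D.crd_mul (hA ha) (hA hb), e, e']⟩
      neg_mem' := fun ⟨a, ha, e⟩ => ⟨a⁻¹, inv_mem ha, by
        rw [D.crd_inv (hA ha), e]; funext j; exact (ZMod.neg_eq_self_mod_two _).symm⟩ }
  let W : Submodule (ZMod 2) (Fin 8 → ZMod 2) := AddSubgroup.toZModSubmodule 2 W0
  let B : LinearMap.BilinForm (ZMod 2) (Fin 8 → ZMod 2) := Matrix.toBilin' Mi
  have hnd : B.Nondegenerate := LinearMap.BilinForm.nondegenerate_toBilin'_of_det_ne_zero' Mi (by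
    intro h
    have := congrArg Matrix.det J_Mi
    rw [Matrix.det_mul, Matrix.det_transpose, h, mul_zero, Matrix.det_one] at this
    exact zero_ne_one this)
  have hle : W ≤ B.orthogonal W := by
    intro w hw
    rw [LinearMap.BilinForm.mem_orthogonal_iff]
    intro n hn
    obtain ⟨a, ha, rfl⟩ := hw
    obtain ⟨b, hb, rfl⟩ := hn
    show Matrix.toBilin' Mi (D.crd b) (D.crd a) = 0
    rw [Matrix.toBilin'_apply', ← D.F_eq (hA hb) (hA ha), F,
      show cmt b a = D.za 0 by rw [za_zero, cmt, hab b hb a ha]; group, chi_za D (by norm_num)]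
    rfl
  have hd := Submodule.finrank_mono hle
  rw [LinearMap.BilinForm.finrank_orthogonal hnd, Module.finrank_fin_fun] at hd
  have hW : Nat.card W ≤ 16 := by
    rw [Module.natCard_eq_pow_finrank (K := ZMod 2), Nat.card_zmod]
    exact le_trans (Nat.pow_le_pow_right (by norm_num) (show Module.finrank (ZMod 2) W ≤ 4 by omega)) (by norm_num)
  refine le_trans (Nat.card_le_card_of_injective (fun a : A => (⟨D.crd a, a.1, a.2, rfl⟩ : W)) ?_) hW
  intro a b e
  have e' : D.crd a = D.crd b := congrArg Subtype.val e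
  have h0 : D.crd (a.1 * b.1⁻¹) = 0 := by
    rw [D.crd_mul (hA a.2) (inv_mem (hA b.2)), D.crd_inv (hA b.2), e']
    funext j
    show D.crd b j + D.crd b j = 0
    exact CharTwo.add_self_eq_zero _
  refine Subtype.ext (mul_inv_eq_one.1 (hz _ (mul_mem a.2 (inv_mem b.2)) ?_))
  exact D.crd_ker (mul_mem (hA a.2) (inv_mem (hA b.2))) h0

/-- a subgroup of order 128 of the two group contains a root element -/
theorem exists_root (S : Subgroup X) (hS : S ≤ D.U) (hc : Nat.card S = 128) :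
    ∃ x ∈ S, x ∈ D.Z0 ∧ x ≠ 1 := by
  haveI := D.finite
  by_contra h
  push Not at h
  have hq : D.Q.relIndex S ≤ 4 := by
    have hidx : D.Q.relIndex D.U = 4 := by
      have := Subgroup.card_mul_index (D.Q.subgroupOf D.U)
      rw [Nat.card_congr (Subgroup.subgroupOfEquivOfLe D.Q_le_U).toEquiv, Q, U, (D.ser_facts (by norm_num)).1,
        (D.ser_facts (by norm_num)).1] at this
      rw [Subgroup.relIndex, Q, U]
      norm_num at this ⊢
      omega
    refine hidx ▸ Subgroup.relIndex_le_of_le_right hS ?_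
    rw [hidx]; norm_num
  have hcard := Subgroup.card_mul_index (D.Q.subgroupOf S)
  rw [hc, show (D.Q.subgroupOf S).index = D.Q.relIndex S from rfl] at hcard
  have h32 : 32 ≤ Nat.card (D.Q.subgroupOf S) := by
    by_contra hlt
    have := Nat.mul_le_mul (show Nat.card (D.Q.subgroupOf S) ≤ 31 by omega) hq
    omega
  have hmap : Nat.card ((D.Q.subgroupOf S).map S.subtype) = Nat.card (D.Q.subgroupOf S) :=
    Subgroup.card_map_of_injective S.subtype_injective
  have hab := D.abelian_small ((D.Q.subgroupOf S).map S.subtype) (by rintro _ ⟨x, hx, rfl⟩; exact hx)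
    (by
      rintro _ ⟨a, ha, rfl⟩ _ ⟨b, hb, rfl⟩
      have hz := D.cmt_Q ha hb
      have := h _ (show cmt (a : X) (b : X) ∈ S from mul_mem (mul_mem (mul_mem a.2 b.2) (inv_mem a.2)) (inv_mem b.2)) hz
      rw [cmt, mul_inv_eq_one, mul_inv_eq_iff_eq_mul] at this
      exact this)
    (by rintro _ ⟨a, -, rfl⟩ hz; exact h _ a.2 hz)
  omega

end

end Model

end Cfsg.Agent.Spor.SuzUnique
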