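import Cfsg.Agent.Lib.Spor.SuzUniqueMain
import Cfsg.Agent.Lib.Lie.GTwoFourHallJanko.Action

/-!
The point stabiliser inside the presented Suzuki group and the setting of its action on 1782 points.
-/

set_option autoImplicit false
set_option maxRecDepth 100000
set_option linter.style.haveILetI false

noncomputable section

namespace Cfsg.Agent.Spor.SuzUnique

open Cfsg.Agent.Spor.CC Cfsg.Agent.Spor.SuzCert Cfsg.Agent.Spor.SuzCert.G24Act
open Cfsg.Agent.Lie.GTwoFourHallJanko (nu nu_injective gen_moves baseP)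
open Cfsg.Agent.Lie.PermNine (pg)

theorem restrict_hom {K : Type*} [Group K] {n m : ℕ} (H : Subgroup K) [Finite H] (S : Set H) (hS : Subgroup.closure S = ⊤)
    (R : K →* Equiv.Perm (Fin n)) (ν : Fin m → Fin n) (hν : Function.Injective ν)
    (hmove : ∀ s ∈ S, ∀ j, ∃ k, R (s : H) (ν j) = ν k) :
    ∃ ρ : H →* Equiv.Perm (Fin m), ∀ (h : H) (j : Fin m), R h (ν j) = ν (ρ h j) := by
  have key : ∀ h : H, ∀ j, ∃ k, R h (ν j) = ν k := by
    intro h
    have hh : h ∈ (Subgroup.closure S).toSubmonoid := by rw [hS]; trivial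
    rw [Subgroup.closure_toSubmonoid_of_finite] at hh
    induction hh using Submonoid.closure_induction with
    | mem x hx => exact hmove x hx
    | one => exact fun j => ⟨j, by rw [OneMemClass.coe_one, map_one]; rfl⟩
    | mul x y _ _ hx hy =>
      intro j
      obtain ⟨k, hk⟩ := hy j
      obtain ⟨l, hl⟩ := hx k
      exact ⟨l, by rw [Subgroup.coe_mul, map_mul, Equiv.Perm.mul_apply, hk, hl]⟩
  choose f hf using key
  have hone : ∀ j, f 1 j = j := fun j => hν ((hf 1 j).symm.trans (by rw [OneMemClass.coe_one, map_one]; rfl))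
  have hmul : ∀ g h j, f (g * h) j = f g (f h j) := fun g h j => hν ((hf (g * h) j).symm.trans (by
    rw [Subgroup.coe_mul, map_mul, Equiv.Perm.mul_apply, hf h j, hf g]))
  exact ⟨MonoidHom.mk' (fun g => ⟨f g, f g⁻¹, fun j => by rw [← hmul, inv_mul_cancel, hone],
    fun j => by rw [← hmul, mul_inv_cancel, hone]⟩) (fun g h => Equiv.ext (hmul g h)), fun g j => hf g j⟩

instance : Finite pres.Grp := order.1

/-- generators of the point stabiliser -/
def hgen (s : ℕ) : Hsub :=
  if h : s < 6 then ⟨pres.gen s, by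
    rw [sub_eq_singles, Pres.sub]
    exact Subgroup.subset_closure ⟨s, by simp only [Set.mem_ofPred_eq]; interval_cases s <;> simp, rfl⟩⟩ else 1

theorem hgen_val {s : ℕ} (h : s < 6) : ((hgen s : Hsub) : pres.Grp) = pres.gen s := by rw [hgen, dif_pos h]

theorem hgen_sq (s : ℕ) : hgen s * hgen s = 1 := by
  by_cases h : s < 6
  · exact Subtype.ext (by rw [Subgroup.coe_mul, hgen_val h, Pres.gen_sq pres_ok]; rfl)
  · rw [hgen, dif_neg h, one_mul]

theorem hgen_top : Subgroup.closure (Set.range hgen) = ⊤ := by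
  apply Subgroup.map_injective Hsub.subtype_injective
  rw [MonoidHom.map_closure, ← MonoidHom.range_eq_map, Subgroup.range_subtype]
  refine le_antisymm ((Subgroup.closure_le _).2 ?_) ?_
  · rintro _ ⟨x, -, rfl⟩; exact x.2
  · refine le_trans (le_of_eq (sub_eq_singles.trans rfl : Hsub = pres.sub [0, 1, 2, 3, 4, 5])) ?_
    rw [Pres.sub]
    refine Subgroup.closure_mono ?_
    rintro _ ⟨x, hx, rfl⟩
    have hx6 : x < 6 := by simp only [Set.mem_ofPred_eq, List.mem_cons, List.not_mem_nil, or_false] at hx; omega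
    exact ⟨hgen x, ⟨x, rfl⟩, hgen_val hx6⟩

theorem line_moves {x : ℕ} (hx : x < 6) (j : Fin 1365) :
    ∃ k : Fin 1365, (k : ℕ) = hrows x j ∧ rep.hom (pres.gen x) (mu j) = mu k := by
  have h := List.all_eq_true.mp (act_spec j.2) x (List.mem_range.mpr hx)
  simp only [Bool.and_eq_true] at h
  refine ⟨⟨hrows x j, blt_lt h.1.1⟩, rfl, Fin.ext ?_⟩
  have hx' : x < rep.P.ng := lt_of_lt_of_le hx (by decide +kernel)
  rw [rep.hom_gen x hx', rep.P.perm_val rep.valid hx']
  exact Nat.eq_of_beq_eq_true h.1.2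

theorem exists_phi : ∃ ρ : Hsub →* Equiv.Perm (Fin 416), ∀ (h : Hsub) (j : Fin 416),
    rep.hom h (nu j) = nu (ρ h j) := by
  refine restrict_hom Hsub _ hgen_top rep.hom nu nu_injective ?_
  rintro _ ⟨s, rfl⟩ j
  by_cases hs : s < 6
  · obtain ⟨k, -, hk⟩ := gen_moves hs j
    exact ⟨k, by rw [hgen_val hs]; exact hk⟩
  · exact ⟨j, by rw [hgen, dif_neg hs, OneMemClass.coe_one, map_one]; rfl⟩

theorem exists_psi : ∃ ρ : Hsub →* Equiv.Perm (Fin 1365), ∀ (h : Hsub) (j : Fin 1365),
    rep.hom h (mu j) = mu (ρ h j) := by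
  refine restrict_hom Hsub _ hgen_top rep.hom mu mu_injective ?_
  rintro _ ⟨s, rfl⟩ j
  by_cases hs : s < 6
  · obtain ⟨k, -, hk⟩ := line_moves hs j
    exact ⟨k, by rw [hgen_val hs]; exact hk⟩
  · exact ⟨j, by rw [hgen, dif_neg hs, OneMemClass.coe_one, map_one]; rfl⟩

theorem phi_gen (s : ℕ) (j : Fin 416) : (exists_phi.choose (hgen s) j : ℕ) = g4 s j := by
  unfold g4
  by_cases hs : s < 6
  · obtain ⟨k, hk, hm⟩ := gen_moves hs j
    have := exists_phi.choose_spec (hgen s) j
    rw [hgen_val hs, hm] at this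
    rw [← nu_injective this, hk, lt_blt hs, cond_true]
  · rw [hgen, dif_neg hs, map_one, show Nat.blt s 6 = false from Bool.eq_false_iff.2 fun c => hs (blt_lt c), cond_false]
    rfl

theorem psi_gen (s : ℕ) (j : Fin 1365) : (exists_psi.choose (hgen s) j : ℕ) = g13 s j := by
  unfold g13
  by_cases hs : s < 6
  · obtain ⟨k, hk, hm⟩ := line_moves hs j
    have := exists_psi.choose_spec (hgen s) j
    rw [hgen_val hs, hm] at this
    rw [← mu_injective this, hk, lt_blt hs, cond_true]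
  · rw [hgen, dif_neg hs, map_one, show Nat.blt s 6 = false from Bool.eq_false_iff.2 fun c => hs (blt_lt c), cond_false]
    rfl

/-- the elements fixing the base -/
theorem fix_base {g : Hsub} (hg : ∀ c : Fin 416, (c : ℕ) ∈ b5 → exists_phi.choose g c = c) : g = 1 := by
  set φ := exists_phi.choose with hφ
  letI : MulAction Hsub (Fin 416) := MulAction.compHom _ φ
  have hreach : ∀ q : Fin 416, ∃ k : Hsub, φ k p0 = q := fun q => by
    obtain ⟨k, -, r, hr, hk⟩ := tree_reach ptT_all (H := ⊤) (fun _ => trivial) phi_gen q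
    refine ⟨k, ?_⟩
    have : r = p0 := Fin.ext (by
      rw [hr]
      have := tree_lab ptT_all q
      simp only [List.length_singleton, Nat.lt_one_iff] at this
      rw [this]; rfl)
    rwa [this] at hk
  haveI : MulAction.IsPretransitive Hsub (Fin 416) := ⟨fun a b => by
    obtain ⟨x, hx⟩ := hreach a
    obtain ⟨y, hy⟩ := hreach b
    refine ⟨y * x⁻¹, ?_⟩
    show φ (y * x⁻¹) a = b
    rw [map_mul, map_inv, Equiv.Perm.mul_apply, ← hx, Equiv.Perm.inv_def, Equiv.symm_apply_apply, hy]⟩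
  set St := MulAction.stabilizer Hsub p0 with hSt
  have hc : Nat.card St = 604800 := by
    have h := Subgroup.card_mul_index St
    rw [hSt, MulAction.index_stabilizer_of_transitive, Nat.card_fin, card_Hsub] at h
    rw [hSt]
    omega
  have hel : ∀ (w : List ℕ) (j : Fin 416), (φ (elW hgen w) j : ℕ) = evW g4 w j := elW_img phi_gen
  have hjk : ∀ (s : ℕ) (j : Fin 416), (φ (elW hgen (jW.getD s [])) j : ℕ) = jF s j := fun s j =>
    (hel _ j).trans (jF_eq s j).symm
  have hmem : ∀ s : ℕ, elW hgen (jW.getD s []) ∈ St := fun s => by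
    refine Fin.ext ((hjk s p0).trans ?_)
    by_cases hs : s < jW.length
    · exact Nat.eq_of_beq_eq_true (List.all_eq_true.mp j_fix s (List.mem_range.mpr hs))
    · rw [jF_eq s p0, List.getD_eq_default _ _ (by omega)]
      rfl
  have h := lv_le hmem hjk jLv [] jLv_ok.1 fun l hl => blt_lt (List.all_eq_true.mp jLv_ok.2.2 l hl)
  rw [jLv_ok.2.1, List.nil_append] at h
  have hS : (fixIn φ St []).ncard ≤ 604800 := by
    rw [← hc, ← Nat.card_coe_set_eq]
    exact Nat.card_le_card_of_injective (fun x => ⟨x.1, x.2.1⟩) fun x y q => Subtype.ext (congrArg Subtype.val q :)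
  have h1 : (fixIn φ St (jLv.map Prod.fst)).ncard ≤ 1 :=
    Nat.le_of_mul_le_mul_left (by rw [mul_one]; exact h.trans hS) (by norm_num : 0 < 604800)
  exact (Set.ncard_le_one (Set.toFinite _)).1 h1 g ⟨hg p0 (by decide), fun c hc => hg c (jLv_base c hc)⟩ 1
    ⟨one_mem _, fun c _ => by rw [map_one]; rfl⟩
where
  /-- the bases are among the five points -/
  jLv_base : ∀ c ∈ jLv.map Prod.fst, c ∈ b5 := by decide +kernel

theorem phi_base (x y : Hsub) (h : ∀ b ∈ b5, ∀ j : Fin 416, (j : ℕ) = b →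
    exists_phi.choose x j = exists_phi.choose y j) : x = y := by
  refine ((inv_mul_eq_one (a := y) (b := x)).1 (fix_base fun k hk => ?_)).symm
  rw [map_mul, map_inv, Equiv.Perm.mul_apply, h k hk k rfl, Equiv.Perm.inv_def, Equiv.symm_apply_apply]

/-- the tables -/
def model : Model Hsub where
  φ := exists_phi.choose
  ψ := exists_psi.choose
  gen := hgen
  sq := hgen_sq
  gen_phi := phi_gen
  gen_psi := psi_gen
  base := phi_base
  card := card_Hsub

/-- the group of the action -/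
abbrev G0 : Subgroup (Equiv.Perm (Fin rep.P.n)) := rep.hom.range

theorem rep_n : rep.P.n = 1782 := by decide +kernel

theorem mem_Hsub (p : pres.Grp) : p ∈ Hsub ↔ rep.hom p rep.z = rep.z := by
  rw [show Hsub = stab rep.hom rep.z from stab_eq.1, mem_stab]

theorem trans0 : MulAction.IsPretransitive G0 (Fin rep.P.n) := ⟨fun u v => by
  obtain ⟨p, hp⟩ := rep.exists_move u
  obtain ⟨q, hq⟩ := rep.exists_move v
  refine ⟨⟨rep.hom (q * p⁻¹), q * p⁻¹, rfl⟩, ?_⟩
  show rep.hom (q * p⁻¹) u = v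
  rw [map_mul, map_inv, Equiv.Perm.mul_apply, ← hp, Equiv.Perm.inv_def, Equiv.symm_apply_apply, hq]⟩

theorem orbit_range {m : ℕ} (ρ : Hsub →* Equiv.Perm (Fin m)) (ν : Fin m → Fin rep.P.n)
    (hρ : ∀ (h : Hsub) (j : Fin m), rep.hom h (ν j) = ν (ρ h j)) (hν : Function.Injective ν) (j0 : Fin m)
    (htr : ∀ j, ∃ g, ρ g j0 = j) :
    (MulAction.orbit (MulAction.stabilizer G0 rep.z) (ν j0)).ncard = m := by
  have e : MulAction.orbit (MulAction.stabilizer G0 rep.z) (ν j0) = Set.range ν := by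
    ext y
    constructor
    · rintro ⟨⟨⟨_, p, rfl⟩, hp⟩, rfl⟩
      exact ⟨ρ ⟨p, (mem_Hsub p).2 hp⟩ j0, (hρ ⟨p, (mem_Hsub p).2 hp⟩ j0).symm⟩
    · rintro ⟨j, rfl⟩
      obtain ⟨g, hg⟩ := htr j
      refine ⟨⟨⟨rep.hom g, g, rfl⟩, (mem_Hsub g).1 g.2⟩, ?_⟩
      show rep.hom g (ν j0) = ν j
      rw [hρ, hg]
  rw [e, ← Set.image_univ, Set.ncard_image_of_injective _ hν, Set.ncard_univ, Nat.card_fin]

/-- the setting of the presented group -/
def setting0 : Setting (Fin rep.P.n) where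
  G := G0
  a := rep.z
  b := nu p0
  c := mu l0
  htrans := trans0
  hΩ := by rw [Fintype.card_fin]; exact rep_n
  hb := orbit_range exists_phi.choose nu exists_phi.choose_spec nu_injective p0 model.point_trans
  hc := orbit_range exists_psi.choose mu exists_psi.choose_spec mu_injective l0 model.line_trans

theorem theta0 : Nonempty (Hsub ≃* MulAction.stabilizer setting0.G setting0.a) := by
  let f : Hsub →* MulAction.stabilizer setting0.G setting0.a :=
    MonoidHom.mk' (fun h => ⟨⟨rep.hom h, h, rfl⟩, (mem_Hsub h).1 h.2⟩)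
      fun x y => Subtype.ext (Subtype.ext (map_mul rep.hom (x : pres.Grp) y))
  refine ⟨MulEquiv.ofBijective f ⟨fun x y e => Subtype.ext (order.2.2 (congrArg (fun g => (g.1.1)) e)), ?_⟩⟩
  rintro ⟨⟨_, p, rfl⟩, hp⟩
  exact ⟨⟨p, (mem_Hsub p).2 hp⟩, rfl⟩

/-- recognition of the presented group -/
theorem isoSuz {Ω : Type*} [Fintype Ω] [DecidableEq Ω] (S : Setting Ω)
    (θ : Hsub ≃* MulAction.stabilizer S.G S.a) : Nonempty (S.G ≃* pres.Grp) := by
  obtain ⟨θ0⟩ := theta0
  obtain ⟨ψ⟩ := Ctx.iso (⟨setting0, model, θ0⟩ : Ctx (Fin rep.P.n) Hsub) (⟨S, model, θ⟩ : Ctx Ω Hsub) rfl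
  exact ⟨ψ.trans (MonoidHom.ofInjective order.2.2).symm⟩

end Cfsg.Agent.Spor.SuzUnique
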