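import Cfsg.Agent.Lib.Spor.SuzUniqueModel

/-!
The root groups of the lines and the centraliser of a root element.
-/

set_option autoImplicit false
set_option maxRecDepth 100000
set_option linter.style.haveILetI false

namespace Cfsg.Agent.Spor.SuzUnique

attribute [local irreducible] g4 g13 hF hL uF uL pF pL jF zF tF nfF

theorem range13 {a : ℕ} (h1 : 1 ≤ a) (h2 : a < 4) : a ∈ List.range' 1 3 := List.mem_range'_1.2 ⟨h1, by omega⟩

namespace Model

variable {X : Type} [Group X] (D : Model X)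

/-- `x` is a nontrivial element of the root group of the line `i` -/
def IsRoot (i : Fin 1365) (x : X) : Prop := ∃ g : X, D.ψ g l0 = i ∧ ∃ z ∈ D.Z0, z ≠ 1 ∧ x = g * z * g⁻¹

theorem root_conj {i : Fin 1365} {x : X} (h : D.IsRoot i x) (g : X) : D.IsRoot (D.ψ g i) (g * x * g⁻¹) := by
  obtain ⟨k, rfl, z, hz, hne, rfl⟩ := h
  exact ⟨g * k, by rw [map_mul, Equiv.Perm.mul_apply], z, hz, hne, by group⟩

theorem root_zero {x : X} (h : D.IsRoot l0 x) : x ∈ D.Z0 ∧ x ≠ 1 := by
  obtain ⟨k, hk, z, hz, hne, rfl⟩ := h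
  exact ⟨D.P1_Z0 hk hz, fun e => hne (by simpa using e)⟩

theorem root_za {a : ℕ} (ha : a ∈ List.range' 1 3) : D.IsRoot l0 (D.za a) :=
  ⟨1, by rw [map_one]; rfl, _, D.za_mem a, D.za_ne ha, by group⟩

/-- the root elements at a line reached by a word -/
def tel (w : List ℕ) (a : ℕ) : X := D.el w * D.za a * (D.el w)⁻¹

theorem tel_phi (w : List ℕ) (a : ℕ) (j : Fin 416) : (D.φ (D.tel w a) j : ℕ) = tF w a j := by
  unfold tF
  rw [tel, map_mul, map_mul, Equiv.Perm.mul_apply, Equiv.Perm.mul_apply, el_phi, za_phi, el_inv_phi]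

theorem root_tel {i : Fin 1365} {w : List ℕ} (hw : evW g13 w 0 = i) {a : ℕ} (ha : a ∈ List.range' 1 3) :
    D.IsRoot i (D.tel w a) :=
  ⟨D.el w, Fin.ext ((D.el_psi w l0).trans hw), _, D.za_mem a, D.za_ne ha, rfl⟩

theorem root_eq_tel {i : Fin 1365} {w : List ℕ} (hw : evW g13 w 0 = i) {x : X} (h : D.IsRoot i x) :
    ∃ a ∈ List.range' 1 3, x = D.tel w a := by
  have e : D.ψ (D.el w) l0 = i := Fin.ext ((D.el_psi w l0).trans hw)
  have h0 := D.root_conj h (D.el w)⁻¹
  rw [← e, map_inv, Equiv.Perm.inv_def, Equiv.symm_apply_apply] at h0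
  obtain ⟨hz, hne⟩ := D.root_zero h0
  rcases D.za_cases hz with h1 | ⟨a, ha, h1⟩
  · exact absurd h1 hne
  · refine ⟨a, ha, ?_⟩
    rw [tel, ← h1]
    group

theorem p1_root (l : ℕ) : evW g13 (p1LineW.getD l []) 0 = p1LineR.getD l 0 := by
  by_cases hl : l < p1LineW.length
  · have := congrArg (fun L : List ℕ => L.getD l 0) root_words.1
    simpa [List.getD_eq_getElem?_getD, List.getElem?_map, List.getElem?_eq_getElem hl] using this
  · have hlen : p1LineW.length = p1LineR.length := by rw [← root_words.1, List.length_map]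
    rw [List.getD_eq_default _ _ (by omega), List.getD_eq_default _ _ (by omega)]
    rfl

theorem root_inj {i j : Fin 1365} {x : X} (hi : D.IsRoot i x) (hj : D.IsRoot j x) : i = j := by
  obtain ⟨g, hg⟩ := D.line_trans i
  have hi0 := D.root_conj hi g⁻¹
  have hj0 := D.root_conj hj g⁻¹
  rw [← hg, map_inv, Equiv.Perm.inv_def, Equiv.symm_apply_apply] at hi0
  rw [map_inv, Equiv.Perm.inv_def] at hj0
  obtain ⟨k, hk, r, hr, hkr⟩ := tree_reach p1LineT_all D.hk_hG D.hk_psi ((D.ψ g).symm j)
  rw [D.hG_eq, mem_P1] at hk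
  have hk' : k⁻¹ ∈ D.P1 := inv_mem (show k ∈ D.P1 from hk)
  have hr0 := D.root_conj hj0 k⁻¹
  rw [← hkr, map_inv, Equiv.Perm.inv_def, Equiv.symm_apply_apply] at hr0
  have hi1 := D.root_conj hi0 k⁻¹
  rw [show D.ψ k⁻¹ l0 = l0 from hk'] at hi1
  have hl := tree_lab p1LineT_all ((D.ψ g).symm j)
  rw [root_lens.1] at hl
  by_contra hne
  have hl0 : tLab p1LineT ((D.ψ g).symm j) ≠ 0 := fun e => by
    rw [e] at hr
    have : r = l0 := Fin.ext (by
      rw [hr, List.getD_eq_getElem _ _ (by rw [root_lens.1]; norm_num)]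
      have := root_lens.2.1
      rwa [List.getD_eq_getElem _ _ (by rw [root_lens.1]; norm_num)] at this)
    rw [this, hk] at hkr
    apply hne
    rw [← hg, hkr, Equiv.apply_symm_apply]
  obtain ⟨a, ha, hxa⟩ := D.root_eq_tel ((p1_root _).trans hr.symm) hr0
  obtain ⟨hz, -⟩ := D.root_zero hi1
  obtain ⟨c, hc, hxc⟩ := (D.ser_facts (k := 2) (by norm_num)).2 _ hz
  refine D.ne_of_b5 (D.tel_phi _ a) (D.za_phi c) ?_ (hxa.symm.trans hxc)
  exact List.all_eq_true.mp (List.all_eq_true.mp (List.all_eq_true.mp z_disjoint _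
    (range13 (Nat.pos_of_ne_zero hl0) hl)) a ha) c (List.mem_range.mpr (by simpa using hc))

/-- conjugacy to the first root element -/
def Long (x : X) : Prop := ∃ g : X, x = g * D.za 1 * g⁻¹

theorem za_conj {a : ℕ} (ha : a ∈ List.range' 1 3) : ∃ k ∈ D.P1, D.za a = k * D.za 1 * k⁻¹ := by
  by_cases h : a = 1
  · exact ⟨1, one_mem _, by rw [h]; group⟩
  · have ha' : a ∈ List.range' 2 2 := by rw [List.mem_range'_1] at ha ⊢; omega
    have key : ∀ v : List ℕ, D.el (v.flatMap fun k => hsW.getD k []) = elW D.hk v := by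
      intro v
      induction v with
      | nil => rfl
      | cons s v ih => rw [List.flatMap_cons, el, elW_append, elW_cons, ← ih]; rfl
    refine ⟨elW D.hk (zTo.getD a []), elW_mem D.hk_mem _, ?_⟩
    rw [← key]
    exact (D.eq_of_b5 (D.tel_phi _ 1) (D.za_phi a) (List.all_eq_true.mp z_trans a ha')).symm

theorem root_long {i : Fin 1365} {x : X} (h : D.IsRoot i x) : D.Long x := by
  obtain ⟨g, -, z, hz, hne, rfl⟩ := h
  rcases D.za_cases hz with h1 | ⟨a, ha, rfl⟩
  · exact absurd h1 hne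
  · obtain ⟨k, -, hk⟩ := D.za_conj ha
    exact ⟨g * k, by rw [hk]; group⟩

theorem one_mem13 : 1 ∈ List.range' 1 3 := by simp

theorem long_root {x : X} (h : D.Long x) : ∃ i, D.IsRoot i x := by
  obtain ⟨g, rfl⟩ := h
  exact ⟨D.ψ g l0, D.root_conj (D.root_za one_mem13) g⟩

theorem za_inj {a c : ℕ} (ha : a < 4) (hc : c < 4) (e : D.za a = D.za c) : a = c := by
  have h := (D.ser_facts (k := 2) (by norm_num)).1
  let f : Fin 4 → D.Z0 := fun i => ⟨D.za i, D.za_mem i⟩
  haveI := D.finite
  have hs : Function.Surjective f := fun x => by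
    obtain ⟨b, hb, q⟩ := (D.ser_facts (k := 2) (by norm_num)).2 x.1 x.2
    exact ⟨⟨b, by simpa using hb⟩, Subtype.ext q.symm⟩
  have hf : Function.Injective f :=
    (hs.bijective_of_nat_card_le (by rw [Nat.card_fin, Z0, h]; norm_num)).1
  exact congrArg Fin.val (hf (a₁ := ⟨a, ha⟩) (a₂ := ⟨c, hc⟩) (Subtype.ext e))

/-- conjugation -/
@[reducible] def conjAct : MulAction X X := MulAction.compHom X (MulAut.conj : X →* MulAut X)

theorem card_centralizer : Nat.card (Subgroup.centralizer {D.za 1}) = 61440 := by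
  haveI := D.finite
  set Cz := Subgroup.centralizer {D.za 1} with hCz
  have hle : Cz ≤ D.P1 := fun g hg => by
    rw [hCz, Subgroup.mem_centralizer_singleton_iff] at hg
    have h := D.root_conj (D.root_za one_mem13) g
    rw [hg, mul_inv_cancel_right] at h
    exact (D.root_inj h (D.root_za one_mem13))
  letI : MulAction D.P1 X := MulAction.compHom X ((MulAut.conj : X →* MulAut X).comp D.P1.subtype)
  have horb : MulAction.orbit D.P1 (D.za 1) = D.za '' {1, 2, 3} := by
    ext x
    constructor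
    · rintro ⟨k, rfl⟩
      have hz := D.P1_Z0 k.2 (D.za_mem 1)
      rcases D.za_cases hz with h | ⟨a, ha, h⟩
      · exact absurd (by simpa using h) (D.za_ne one_mem13)
      · refine ⟨a, ?_, h.symm⟩
        rw [List.mem_range'_1] at ha
        simp only [Set.mem_insert_iff, Set.mem_singleton_iff]
        omega
    · rintro ⟨a, ha, rfl⟩
      have ha' : a ∈ List.range' 1 3 := by
        simp only [Set.mem_insert_iff, Set.mem_singleton_iff] at ha
        rw [List.mem_range'_1]; omega
      obtain ⟨k, hk, e⟩ := D.za_conj ha'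
      exact ⟨⟨k, hk⟩, e.symm⟩
  have hn : (MulAction.orbit D.P1 (D.za 1)).ncard = 3 := by
    rw [horb, Set.InjOn.ncard_image]
    · simp
    · intro a ha c hc e
      simp only [Set.mem_insert_iff, Set.mem_singleton_iff] at ha hc
      exact D.za_inj (by omega) (by omega) e
  have h := Subgroup.card_mul_index (MulAction.stabilizer D.P1 (D.za 1))
  rw [MulAction.index_stabilizer, hn, card_P1] at h
  have e : MulAction.stabilizer D.P1 (D.za 1) = Cz.subgroupOf D.P1 := by
    ext k
    rw [MulAction.mem_stabilizer_iff, Subgroup.mem_subgroupOf, hCz, Subgroup.mem_centralizer_singleton_iff]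
    show k.1 * D.za 1 * k.1⁻¹ = D.za 1 ↔ _
    exact mul_inv_eq_iff_eq_mul
  rw [e, Nat.card_congr (Subgroup.subgroupOfEquivOfLe hle).toEquiv] at h
  omega

theorem long_centralizer {t : X} (ht : D.Long t) : Nat.card (Subgroup.centralizer {t}) = 61440 := by
  obtain ⟨g, rfl⟩ := ht
  rw [← D.card_centralizer]
  have e : Subgroup.centralizer {g * D.za 1 * g⁻¹} =
      (Subgroup.centralizer {D.za 1}).map (MulAut.conj g).toMonoidHom := by
    ext x
    rw [Subgroup.mem_map_equiv, Subgroup.mem_centralizer_singleton_iff, Subgroup.mem_centralizer_singleton_iff,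
      MulAut.conj_symm_apply]
    constructor
    · intro h
      calc g⁻¹ * x * g * D.za 1 = g⁻¹ * (x * (g * D.za 1 * g⁻¹)) * g := by group
        _ = D.za 1 * (g⁻¹ * x * g) := by rw [h]; group
    · intro h
      calc x * (g * D.za 1 * g⁻¹) = g * (g⁻¹ * x * g * D.za 1) * g⁻¹ := by group
        _ = g * D.za 1 * g⁻¹ * x := by rw [h]; group
  rw [e, Subgroup.card_map_of_injective (MulEquiv.injective _)]

/-- a conjugating orbit in a subgroup is large -/
theorem long_orbit {H : Subgroup X} (hH : Nat.card H = 604800) {t : X} (ht : D.Long t) :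
    315 ≤ ((fun h : H => (h : X) * t * (h : X)⁻¹) '' Set.univ).ncard := by
  haveI := D.finite
  letI : MulAction H X := MulAction.compHom X ((MulAut.conj : X →* MulAut X).comp H.subtype)
  have e : ((fun h : H => (h : X) * t * (h : X)⁻¹) '' Set.univ) = MulAction.orbit H t := by
    rw [Set.image_univ]; rfl
  rw [e]
  have h := Subgroup.card_mul_index (MulAction.stabilizer H t)
  rw [MulAction.index_stabilizer, hH] at h
  have hd1 : Nat.card (MulAction.stabilizer H t) ∣ 61440 := by
    rw [← D.long_centralizer ht, ← Subgroup.card_map_of_injective (K := MulAction.stabilizer H t) H.subtype_injective]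
    refine Subgroup.card_dvd_of_le ?_
    rintro _ ⟨k, hk, rfl⟩
    rw [Subgroup.mem_centralizer_singleton_iff]
    exact mul_inv_eq_iff_eq_mul.1 hk
  have hd2 : Nat.card (MulAction.stabilizer H t) ∣ 604800 := ⟨_, h.symm⟩
  have hle : Nat.card (MulAction.stabilizer H t) ≤ 1920 :=
    Nat.le_of_dvd (by norm_num) (show _ ∣ 1920 from (by norm_num : Nat.gcd 61440 604800 = 1920) ▸ Nat.dvd_gcd hd1 hd2)
  by_contra hc
  have := Nat.mul_le_mul hle (Nat.le_of_lt_succ (not_le.mp hc))
  omega

end Model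

end Cfsg.Agent.Spor.SuzUnique
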