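import Mathlib

/-!
Tools for explicit permutation groups given by words: orbit trees, lower bounds from transversals,
subgroups with a normal series of index two, invariant sets as unions of orbits.
-/

set_option autoImplicit false

namespace Cfsg.Agent.Spor.SuzUnique

/-- the image of a point under a word -/
def evW (f : ℕ → ℕ → ℕ) (w : List ℕ) (j : ℕ) : ℕ := w.foldr f j

/-- the value of a word -/
def elW {K : Type*} [Monoid K] (e : ℕ → K) (w : List ℕ) : K := (w.map e).prod

variable {K : Type*} [Group K] {m : ℕ} {ρ : K →* Equiv.Perm (Fin m)} {e : ℕ → K} {f : ℕ → ℕ → ℕ}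

theorem elW_nil : elW e [] = 1 := rfl

theorem elW_cons (s : ℕ) (w : List ℕ) : elW e (s :: w) = e s * elW e w := by simp [elW]

theorem elW_append (v w : List ℕ) : elW e (v ++ w) = elW e v * elW e w := by simp [elW]

theorem elW_single (s : ℕ) : elW e [s] = e s := by simp [elW]

theorem elW_reverse (h : ∀ s, e s * e s = 1) : ∀ w : List ℕ, elW e w.reverse = (elW e w)⁻¹
  | [] => by simp [elW]
  | s :: w => by
    rw [List.reverse_cons, elW_append, elW_reverse h w, elW_single, elW_cons, _root_.mul_inv_rev,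
      inv_eq_of_mul_eq_one_right (h s)]

theorem elW_mem {H : Subgroup K} (h : ∀ s, e s ∈ H) (w : List ℕ) : elW e w ∈ H :=
  H.list_prod_mem fun x hx => by
    obtain ⟨s, -, rfl⟩ := List.mem_map.mp hx
    exact h s

theorem elW_img (h : ∀ (s : ℕ) (j : Fin m), (ρ (e s) j : ℕ) = f s j) :
    ∀ (w : List ℕ) (j : Fin m), (ρ (elW e w) j : ℕ) = evW f w j
  | [], j => by rw [elW_nil, map_one]; rfl
  | s :: w, j => by rw [elW_cons, map_mul, Equiv.Perm.mul_apply, h, elW_img h w]; rfl

/-! ### Trees -/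

/-- the entry of a point -/
def tEnt (T x : ℕ) : ℕ := (T >>> (32 * x)) % 4294967296
/-- the label -/
def tLab (T x : ℕ) : ℕ := tEnt T x % 256
/-- the generator -/
def tGen (T x : ℕ) : ℕ := (tEnt T x >>> 8) % 16
/-- the depth -/
def tDep (T x : ℕ) : ℕ := (tEnt T x >>> 12) % 256
/-- the parent -/
def tPar (T x : ℕ) : ℕ := tEnt T x >>> 20

/-- one point of a tree -/
def tStep (m : ℕ) (f : ℕ → ℕ → ℕ) (root : List ℕ) (T x : ℕ) : Bool :=
  Nat.blt (tLab T x) root.length &&
    bif Nat.beq (tDep T x) 0 then Nat.beq (root.getD (tLab T x) 0) x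
    else Nat.blt (tPar T x) m && Nat.beq (tLab T (tPar T x)) (tLab T x) &&
      Nat.blt (tDep T (tPar T x)) (tDep T x) && Nat.beq (f (tGen T x) (tPar T x)) x

/-- a piece of a tree -/
def treeOK (m : ℕ) (f : ℕ → ℕ → ℕ) (root : List ℕ) (T lo len : ℕ) : Bool :=
  (List.range' lo len).all (tStep m f root T)

theorem tree_spec {root : List ℕ} {T lo len : ℕ} (h : treeOK m f root T lo len = true) {x : ℕ} (h1 : lo ≤ x)
    (h2 : x < lo + len) : tStep m f root T x = true :=
  List.all_eq_true.mp h x (List.mem_range'_1.mpr ⟨h1, h2⟩)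

theorem tree_lab {root : List ℕ} {T : ℕ} (hT : ∀ x < m, tStep m f root T x = true) (x : Fin m) :
    tLab T x < root.length := by
  have h := hT x x.2
  simp only [tStep, Bool.and_eq_true, Nat.blt_eq] at h
  exact h.1

theorem tree_step {root : List ℕ} {T : ℕ} (hT : ∀ x < m, tStep m f root T x = true) (x : Fin m) :
    (tDep T x = 0 ∧ root.getD (tLab T x) 0 = x) ∨
      ∃ y : Fin m, (y : ℕ) = tPar T x ∧ tLab T y = tLab T x ∧ tDep T y < tDep T x ∧ f (tGen T x) y = x := by
  have h := hT x x.2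
  simp only [tStep, Bool.and_eq_true] at h
  by_cases h0 : tDep T x = 0
  · rw [show Nat.beq (tDep T x) 0 = true by rw [h0]; rfl, cond_true, Nat.beq_eq] at h
    exact Or.inl ⟨h0, h.2⟩
  · rw [show Nat.beq (tDep T x) 0 = false from Bool.eq_false_iff.mpr fun c => h0 (Nat.eq_of_beq_eq_true c),
      cond_false] at h
    simp only [Bool.and_eq_true, Nat.blt_eq, Nat.beq_eq] at h
    exact Or.inr ⟨⟨_, h.2.1.1.1⟩, rfl, h.2.1.1.2, h.2.1.2, h.2.2⟩

/-- every point comes from the root of its label -/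
theorem tree_reach {root : List ℕ} {T : ℕ} (hT : ∀ x < m, tStep m f root T x = true) {H : Subgroup K}
    (he : ∀ s, e s ∈ H) (hf : ∀ (s : ℕ) (j : Fin m), (ρ (e s) j : ℕ) = f s j) (x : Fin m) :
    ∃ k ∈ H, ∃ r : Fin m, (r : ℕ) = root.getD (tLab T x) 0 ∧ ρ k r = x := by
  induction hd : tDep T x using Nat.strong_induction_on generalizing x with
  | _ d ih =>
    rcases tree_step hT x with ⟨-, hr⟩ | ⟨y, -, hl, hlt, hy⟩
    · exact ⟨1, one_mem H, x, hr.symm, by rw [map_one]; rfl⟩
    · obtain ⟨k, hk, r, hr, hkr⟩ := ih _ (hd ▸ hlt) y rfl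
      refine ⟨e (tGen T x) * k, mul_mem (he _) hk, r, by rw [hr, hl], ?_⟩
      rw [map_mul, Equiv.Perm.mul_apply, hkr]
      exact Fin.ext ((hf _ y).trans hy)

/-- points with one label are in one orbit -/
theorem tree_conn {root : List ℕ} {T : ℕ} (hT : ∀ x < m, tStep m f root T x = true) {H : Subgroup K}
    (he : ∀ s, e s ∈ H) (hf : ∀ (s : ℕ) (j : Fin m), (ρ (e s) j : ℕ) = f s j) {x y : Fin m}
    (h : tLab T x = tLab T y) : ∃ k ∈ H, ρ k x = y := by
  obtain ⟨k, hk, r, hr, hkr⟩ := tree_reach hT he hf x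
  obtain ⟨k', hk', r', hr', hkr'⟩ := tree_reach hT he hf y
  obtain rfl : r' = r := Fin.ext (by rw [hr', hr, h])
  refine ⟨k' * k⁻¹, mul_mem hk' (inv_mem hk), ?_⟩
  rw [map_mul, map_inv, Equiv.Perm.mul_apply, ← hkr, Equiv.Perm.inv_def, Equiv.symm_apply_apply, hkr']

/-- an invariant set is a union of orbits -/
theorem exists_labels {root : List ℕ} {T : ℕ} (hT : ∀ x < m, tStep m f root T x = true) {H : Subgroup K}
    (he : ∀ s, e s ∈ H) (hf : ∀ (s : ℕ) (j : Fin m), (ρ (e s) j : ℕ) = f s j) (O : Finset (Fin m))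
    (hO : ∀ k ∈ H, ∀ x ∈ O, ρ k x ∈ O) :
    ∃ S ∈ (Finset.range root.length).powerset, ∀ x : Fin m, x ∈ O ↔ tLab T x ∈ S := by
  classical
  refine ⟨(Finset.range root.length).filter fun l => ∃ x ∈ O, tLab T (x : Fin m) = l, by simp, fun x => ?_⟩
  simp only [Finset.mem_filter, Finset.mem_range]
  refine ⟨fun hx => ⟨tree_lab hT x, x, hx, rfl⟩, fun ⟨_, y, hy, hl⟩ => ?_⟩
  obtain ⟨k, hk, hky⟩ := tree_conn hT he hf hl
  exact hky ▸ hO k hk y hy

/-- the sizes of the orbits give the size of a union -/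
theorem card_labels {T : ℕ} {S : Finset ℕ} {O : Finset (Fin m)} (hO : ∀ x : Fin m, x ∈ O ↔ tLab T x ∈ S)
    {sizes : List ℕ} (hs : ∀ l : Fin sizes.length, (Finset.univ.filter fun x : Fin m => tLab T x = l).card = sizes.getD l 0)
    (hS : ∀ l ∈ S, l < sizes.length) : O.card = ∑ l ∈ S, sizes.getD l 0 := by
  classical
  rw [Finset.card_eq_sum_card_fiberwise (f := fun x : Fin m => tLab T x) (t := S) fun x hx => (hO x).mp hx]
  refine Finset.sum_congr rfl fun l hl => (Eq.trans ?_ (hs ⟨l, hS l hl⟩))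
  congr 1
  ext x
  simp only [Finset.mem_filter, Finset.mem_univ, true_and, hO]
  exact ⟨fun h => h.2, fun h => ⟨h.symm ▸ hl, h⟩⟩

/-! ### Lower bounds from transversals -/

/-- transversals along a base -/
def lvOK (f : ℕ → ℕ → ℕ) : List (ℕ × List (List ℕ)) → List ℕ → Bool
  | [], _ => true
  | (b, ws) :: L, fx =>
    (ws.all fun w => fx.all fun c => Nat.beq (evW f w c) c) && decide ((ws.map fun w => evW f w b).Nodup) &&
      lvOK f L (fx ++ [b])

/-- the product of the lengths -/
def lvSize (L : List (ℕ × List (List ℕ))) : ℕ := (L.map fun l => l.2.length).prod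

/-- elements of a subgroup fixing points -/
def fixIn (ρ : K →* Equiv.Perm (Fin m)) (H : Subgroup K) (fx : List ℕ) : Set K :=
  {x | x ∈ H ∧ ∀ c : Fin m, (c : ℕ) ∈ fx → ρ x c = c}

theorem lv_le [Finite K] {H : Subgroup K} (he : ∀ s, e s ∈ H)
    (hf : ∀ (s : ℕ) (j : Fin m), (ρ (e s) j : ℕ) = f s j) :
    ∀ (L : List (ℕ × List (List ℕ))) (fx : List ℕ), lvOK f L fx = true → (∀ l ∈ L, l.1 < m) →
      lvSize L * (fixIn ρ H (fx ++ L.map Prod.fst)).ncard ≤ (fixIn ρ H fx).ncard
  | [], fx, _, _ => by simp [lvSize]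
  | (b, ws) :: L, fx, h, hb => by
    simp only [lvOK, Bool.and_eq_true, List.all_eq_true, Nat.beq_eq, decide_eq_true_eq] at h
    obtain ⟨⟨hfix, hnd⟩, hL⟩ := h
    have ih := lv_le he hf L (fx ++ [b]) hL fun l hl => hb l (List.mem_cons_of_mem _ hl)
    have hbm : b < m := hb (b, ws) List.mem_cons_self
    let u : Fin ws.length → K := fun i => elW e ws[(i : ℕ)]
    have hu : ∀ (i : Fin ws.length) (c : Fin m), (c : ℕ) ∈ fx → ρ (u i) c = c := fun i c hc =>
      Fin.ext ((elW_img hf _ c).trans (hfix _ (List.getElem_mem _) c hc))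
    let mp : Fin ws.length × fixIn ρ H (fx ++ [b]) → fixIn ρ H fx := fun p =>
      ⟨u p.1 * p.2.1, mul_mem (elW_mem he _) p.2.2.1, fun c hc => by
        rw [map_mul, Equiv.Perm.mul_apply, p.2.2.2 c (List.mem_append_left _ hc), hu _ c hc]⟩
    have hinj : Function.Injective mp := by
      rintro ⟨i, y⟩ ⟨j, z⟩ q
      have q' : u i * y.1 = u j * z.1 := congrArg Subtype.val q
      have q2 := congrArg Fin.val (Equiv.congr_fun (congrArg ρ q') ⟨b, hbm⟩)
      rw [map_mul, map_mul, Equiv.Perm.mul_apply, Equiv.Perm.mul_apply,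
        y.2.2 ⟨b, hbm⟩ (List.mem_append_right _ List.mem_cons_self),
        z.2.2 ⟨b, hbm⟩ (List.mem_append_right _ List.mem_cons_self), elW_img hf, elW_img hf] at q2
      obtain rfl : i = j := Fin.ext ((hnd.getElem_inj_iff (hi := by simp) (hj := by simp)).1 (by simpa using q2))
      exact Prod.ext rfl (Subtype.ext (mul_left_cancel q'))
    have key := Nat.card_le_card_of_injective mp hinj
    rw [Nat.card_prod, Nat.card_fin, Nat.card_coe_set_eq, Nat.card_coe_set_eq] at key
    refine le_trans ?_ key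
    rw [lvSize, List.map_cons, List.prod_cons, mul_assoc]
    refine Nat.mul_le_mul_left _ (le_trans (le_of_eq ?_) ih)
    rw [List.map_cons, List.append_cons]
    rfl

theorem lv_card [Finite K] {H : Subgroup K} (he : ∀ s, e s ∈ H)
    (hf : ∀ (s : ℕ) (j : Fin m), (ρ (e s) j : ℕ) = f s j) {L : List (ℕ × List (List ℕ))}
    (h : lvOK f L [] = true) (hb : ∀ l ∈ L, l.1 < m) : lvSize L ≤ Nat.card H := by
  refine le_trans ?_ ((lv_le he hf L [] h hb).trans ?_)
  · exact Nat.le_mul_of_pos_right _ ((Set.ncard_pos (Set.toFinite _)).2 ⟨1, one_mem H, fun c _ => by rw [map_one]; rfl⟩)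
  rw [← Nat.card_coe_set_eq]
  exact Nat.card_le_card_of_injective (fun x => ⟨x.1, x.2.1⟩) fun x y q =>
    Subtype.ext (congrArg Subtype.val q :)

/-! ### Normal forms -/

/-- the letters of a normal form -/
def nfW (k a : ℕ) : List ℕ := (List.range k).filter fun i => a.testBit i

/-- the group of the first generators -/
def serG (u : ℕ → K) (k : ℕ) : Subgroup K := Subgroup.closure (u '' {i | i < k})

theorem gen_serG (u : ℕ → K) {i k : ℕ} (h : i < k) : u i ∈ serG u k := Subgroup.subset_closure ⟨i, h, rfl⟩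

theorem serG_mono (u : ℕ → K) {i k : ℕ} (h : i ≤ k) : serG u i ≤ serG u k :=
  Subgroup.closure_mono (Set.image_mono fun _ hj => lt_of_lt_of_le hj h)

theorem nf_mem (u : ℕ → K) (k a : ℕ) : elW u (nfW k a) ∈ serG u k :=
  (serG u k).list_prod_mem fun x hx => by
    obtain ⟨s, hs, rfl⟩ := List.mem_map.mp hx
    exact gen_serG u (List.mem_range.mp (List.mem_filter.mp hs).1)

theorem nfW_low {k a : ℕ} (ha : a < 2 ^ k) : nfW (k + 1) a = nfW k a := by
  rw [nfW, nfW, List.range_succ, List.filter_append, List.filter_singleton, Nat.testBit_lt_two_pow ha]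
  simp

theorem nfW_high {k a : ℕ} (ha : a < 2 ^ k) : nfW (k + 1) (2 ^ k + a) = nfW k a ++ [k] := by
  rw [nfW, nfW, List.range_succ, List.filter_append, List.filter_singleton, Nat.testBit_two_pow_add_eq,
    Nat.testBit_lt_two_pow ha]
  simp only [Bool.not_false, cond_true]
  congr 1
  refine List.filter_congr fun i hi => ?_
  rw [Nat.testBit_two_pow_add_gt (List.mem_range.mp hi)]

theorem series [Finite K] {u : ℕ → K} {n : ℕ}
    (hsq : ∀ k < n, u k * u k ∈ serG u k) (hconj : ∀ k < n, ∀ i < k, u k * u i * (u k)⁻¹ ∈ serG u k)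
    (hnew : ∀ k < n, ∀ a < 2 ^ k, u k ≠ elW u (nfW k a)) :
    ∀ k ≤ n, Nat.card (serG u k) = 2 ^ k ∧ ∀ x ∈ serG u k, ∃ a < 2 ^ k, x = elW u (nfW k a) := by
  intro k
  induction k with
  | zero =>
    intro _
    have e0 : serG u 0 = ⊥ := by simp [serG]
    exact ⟨by rw [e0, Subgroup.card_bot, pow_zero], fun x hx => ⟨0, by simp, by
      rw [e0, Subgroup.mem_bot] at hx; simp [hx, nfW, elW]⟩⟩
  | succ k ih =>
    intro hk
    obtain ⟨hc, hn⟩ := ih (by omega)
    set U := serG u k with hU
    have hc' : ∀ y ∈ U, u k * y * (u k)⁻¹ ∈ U := by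
      intro y hy
      induction hy using Subgroup.closure_induction with
      | mem y hy => obtain ⟨i, hi, rfl⟩ := hy; exact hconj k (by omega) i hi
      | one => simp
      | mul a b _ _ ha hb =>
        rw [show u k * (a * b) * (u k)⁻¹ = u k * a * (u k)⁻¹ * (u k * b * (u k)⁻¹) by group]
        exact mul_mem ha hb
      | inv a _ ha =>
        rw [show u k * a⁻¹ * (u k)⁻¹ = (u k * a * (u k)⁻¹)⁻¹ by group]
        exact inv_mem ha
    have hs := hsq k (by omega)
    have hdec : ∀ x ∈ serG u (k + 1), x ∈ U ∨ x * u k ∈ U := by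
      intro x hx
      induction hx using Subgroup.closure_induction with
      | mem y hy =>
        obtain ⟨i, hi, rfl⟩ := hy
        rcases Nat.lt_succ_iff_lt_or_eq.mp hi with hi | rfl
        · exact Or.inl (gen_serG u hi)
        · exact Or.inr hs
      | one => exact Or.inl (one_mem U)
      | mul a b _ _ ha hb =>
        rcases ha with ha | ha <;> rcases hb with hb | hb
        · exact Or.inl (mul_mem ha hb)
        · exact Or.inr (by rw [mul_assoc]; exact mul_mem ha hb)
        · refine Or.inr ?_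
          rw [show a * b * u k = a * u k * ((u k * u k)⁻¹ * (u k * b * (u k)⁻¹) * (u k * u k)) by group]
          exact mul_mem ha (mul_mem (mul_mem (inv_mem hs) (hc' b hb)) hs)
        · refine Or.inl ?_
          rw [show a * b = a * u k * ((u k * u k)⁻¹ * (u k * (b * u k) * (u k)⁻¹)) by group]
          exact mul_mem ha (mul_mem (inv_mem hs) (hc' _ hb))
      | inv a _ ha =>
        rcases ha with ha | ha
        · exact Or.inl (inv_mem ha)
        · refine Or.inr ?_
          rw [show a⁻¹ * u k = u k * (a * u k)⁻¹ * (u k)⁻¹ * (u k * u k) by group]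
          exact mul_mem (hc' _ (inv_mem ha)) hs
    have hnot : u k ∉ U := fun h => by
      obtain ⟨a, ha, q⟩ := hn _ h
      exact hnew k (by omega) a ha q
    have hup : U ≤ serG u (k + 1) := serG_mono u (by omega)
    have hgk : u k ∈ serG u (k + 1) := gen_serG u (by omega)
    refine ⟨?_, fun x hx => ?_⟩
    · let mp : U × Bool → serG u (k + 1) := fun p =>
        bif p.2 then ⟨p.1.1 * u k, mul_mem (hup p.1.2) hgk⟩ else ⟨p.1.1, hup p.1.2⟩
      have hb : Function.Bijective mp := by
        refine ⟨?_, fun x => ?_⟩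
        · rintro ⟨y, i⟩ ⟨z, j⟩ q
          cases i <;> cases j <;> simp only [mp, cond_true, cond_false, Subtype.mk.injEq] at q
          · exact Prod.ext (Subtype.ext q) rfl
          · exact absurd (show u k ∈ U by
              rw [show u k = z.1⁻¹ * y.1 by rw [q, inv_mul_cancel_left]]; exact mul_mem (inv_mem z.2) y.2) hnot
          · exact absurd (show u k ∈ U by
              rw [show u k = y.1⁻¹ * z.1 by rw [← q, inv_mul_cancel_left]]; exact mul_mem (inv_mem y.2) z.2) hnot
          · exact Prod.ext (Subtype.ext (mul_right_cancel q)) rfl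
        · rcases hdec x.1 x.2 with h | h
          · exact ⟨(⟨_, h⟩, false), rfl⟩
          · refine ⟨(⟨x.1 * u k * (u k * u k)⁻¹, mul_mem h (inv_mem hs)⟩, true), Subtype.ext ?_⟩
            show x.1 * u k * (u k * u k)⁻¹ * u k = x.1
            group
      rw [← Nat.card_eq_of_bijective mp hb, Nat.card_prod, hc, Nat.card_eq_fintype_card, Fintype.card_bool, pow_succ]
    · rcases hdec x hx with h | h
      · obtain ⟨a, ha, rfl⟩ := hn x h
        exact ⟨a, lt_of_lt_of_le ha (Nat.pow_le_pow_right (by norm_num) (by omega)), by rw [nfW_low ha]⟩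
      · obtain ⟨a, ha, q⟩ := hn (x * u k * (u k * u k)⁻¹) (mul_mem h (inv_mem hs))
        refine ⟨2 ^ k + a, by rw [pow_succ]; omega, ?_⟩
        rw [nfW_high ha, elW_append, elW_single, ← q]
        group

end Cfsg.Agent.Spor.SuzUnique
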