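import Cfsg.Agent.Lib.Lead.Fi22Two.Syl
import Cfsg.Agent.Lib.Spor.Fi22SixMain

/-!
Checks for the Thompson subgroup of the double cover of PSU(6,2): codes of members, pairs and triples,
squares, and two commutators in the six-fold cover.
-/

set_option autoImplicit false
set_option maxRecDepth 100000

namespace Cfsg.Agent.Spor.TSU

open Cfsg.Agent.Spor.CC Cfsg.Agent.Lead.Fi22Two Cfsg.Agent.Lead.Fi22Two.Syl

/-- code of a member -/
def cd (i : ℕ) : ℕ := SDat.code.getD i 0

/-- equal up to the central member -/
def eqm (a b : ℕ) : Bool := Nat.beq a b || Nat.beq a (Nat.xor b 1)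

/-- the members other than the central one -/
def others : List ℕ := (List.range 21).map fun i => i + 1

/-- the pairs -/
def pairs : List (ℕ × ℕ) := others.flatMap fun i => (others.filter fun j => Nat.blt i j).map fun j => (i, j)

/-- code of a pair -/
def cp (p : ℕ × ℕ) : ℕ := Nat.xor (cd p.1) (cd p.2)

/-- a member class -/
def in1 (c : ℕ) : Bool := others.any fun i => eqm c (cd i)

/-- a pair class -/
def in2 (c : ℕ) : Bool := pairs.any fun p => eqm c (cp p)

/-- neither trivial, a member class, nor a pair class -/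
def rest (c : ℕ) : Bool := !(eqm c 0) && !(in1 c) && !(in2 c)

/-- member classes are distinct -/
def oneOK (i : ℕ) : Bool := !(eqm (cd i) 0) && others.all fun j => Nat.beq i j || !(eqm (cd i) (cd j))

/-- pair classes are distinct -/
def twoOK (p : ℕ × ℕ) : Bool :=
  !(eqm (cp p) 0) && !(in1 (cp p)) && pairs.all fun q => (Nat.beq p.1 q.1 && Nat.beq p.2 q.2) || !(eqm (cp p) (cp q))

/-- a code of the rest is a member and a pair class -/
def covOK (c : ℕ) : Bool := !(rest c) || others.any fun i => in2 (Nat.xor c (cd i))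

/-- a third member is in line or a translate of the second -/
def thirdOK (k : ℕ) : Bool :=
  Nat.beq k 1 || Nat.beq k 5 || in2 (Nat.xor (Nat.xor (cd 1) (cd 5)) (cd k)) ||
    (List.range 128).any fun m =>
      Nat.beq (pim m 0) 0 && Nat.beq (pim m 1) 1 && Nat.beq (pim m 5) 5 && Nat.beq (pim m 2) k

theorem code_misc : cd 0 = 1 ∧ (∀ i < 22, cd i < 1024) ∧ pairs.length = 210 ∧ others.length = 21 ∧
    rest (Nat.xor (Nat.xor (cd 1) (cd 5)) (cd 2)) = true ∧ rest (Nat.xor (Nat.xor (cd 2) (cd 4)) (cd 5)) = true := by
  decide +kernel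

theorem one_all : others.all oneOK = true := by decide +kernel

theorem two_all : pairs.all twoOK = true := by decide +kernel

theorem cov0 : rangeOK covOK 0 512 = true := by decide +kernel
theorem cov1 : rangeOK covOK 512 512 = true := by decide +kernel

theorem third_all : others.all thirdOK = true := by decide +kernel

/-! ### squares -/

/-- the two square roots and their squares -/
def sqW (c q : ℕ) : List ℕ := (rW 1 ++ eW c) ++ (rW 1 ++ eW c) ++ (eW q).reverse

theorem squares_ok : triv (sqW 404 33) = true ∧ triv (sqW 4 12) = true ∧ pim 1 0 = 0 ∧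
    eqm 33 (cd 5) = true ∧ eqm 12 (cp (2, 3)) = true := by decide +kernel

/-! ### commutators -/

/-- three members -/
def xW : List ℕ := mwd 2 ++ mwd 4 ++ mwd 5

/-- a commutator word -/
def comW (g : List ℕ) : List ℕ := g ++ xW ++ g.reverse ++ xW.reverse

/-- the words of the commutators -/
def k1W : List ℕ := comW (rW 8)

/-- the second commutator word -/
def k2W : List ℕ := comW (rW 97)

theorem com_ok : triv (k1W ++ [0]) = true ∧ triv k2W = true ∧ pim 8 0 = 0 ∧ pim 97 0 = 0 := by
  decide +kernel

/-- a point moved -/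
noncomputable def movesOK (w : List ℕ) (u : ℕ) : Bool :=
  lettersOK 10 [w.map Fi22SixCert.upL] && Nat.blt u 31671 &&
    !(Nat.beq (ev Fi23Cert.RepA.rows 10 (w.map Fi22SixCert.upL) u) u)

theorem moves_ok : movesOK k1W 8 = true ∧ movesOK k2W 1 = true ∧ movesOK (k1W ++ k2W) 1 = true := by
  decide +kernel

end Cfsg.Agent.Spor.TSU
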