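import Mathlib.GroupTheory.Sylow
import Mathlib.GroupTheory.Perm.Cycle.Type

/-!
The size of an orbit of automorphisms on an elementary abelian group of order 2^10, and subgroups made
of sets closed under products.
-/

set_option autoImplicit false

namespace Cfsg.Agent.Spor.TSUPrime

/-- the group of an orbit has no prime outside those dividing some 2^j - 1 -/
theorem prime_excluded {G : Type*} [Group G] [Finite G] (A : Subgroup G) (hA : Nat.card A = 1024) {d : G}
    (hd : d ∈ A) (X : Set G) (htrans : ∀ x ∈ X, ∃ n ∈ Subgroup.normalizer (A : Set G), n * d * n⁻¹ = x)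
    (hinv : ∀ n ∈ Subgroup.normalizer (A : Set G), n * d * n⁻¹ ∈ X) {p : ℕ} (hp : p.Prime)
    (hnum : ∀ k < 10, (1024 - 2 ^ k) % p ≠ 0) : ¬ p ∣ X.ncard := by
  intro hdvd
  haveI : Fact p.Prime := ⟨hp⟩
  let φ := A.normalizerMonoidHom
  let d' : A := ⟨d, hd⟩
  have hval : ∀ (n : Subgroup.normalizer (A : Set G)) (a : A), ((φ n a : A) : G) = n * a * (n : G)⁻¹ :=
    fun n a => rfl
  haveI : Finite φ.range := Finite.of_surjective φ.rangeRestrict φ.rangeRestrict_surjective
  have horb : (MulAction.orbit φ.range d').ncard = X.ncard := by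
    rw [← Set.ncard_image_of_injective _ (show Function.Injective (fun a : A => (a : G)) from Subtype.val_injective)]
    congr 1
    ext x
    constructor
    · rintro ⟨_, ⟨⟨α, n, rfl⟩, rfl⟩, rfl⟩
      show ((φ n d' : A) : G) ∈ X
      rw [hval]
      exact hinv n n.2
    · intro hx
      obtain ⟨n, hn, rfl⟩ := htrans x hx
      exact ⟨φ ⟨n, hn⟩ d', ⟨⟨φ ⟨n, hn⟩, ⟨n, hn⟩, rfl⟩, rfl⟩, hval _ _⟩
  have hcard : p ∣ Nat.card φ.range := by
    refine hdvd.trans ?_
    rw [← horb, ← MulAction.index_stabilizer]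
    exact Subgroup.index_dvd_card _
  obtain ⟨α, hα⟩ := exists_prime_orderOf_dvd_card' p hcard
  let P := Subgroup.zpowers α
  have hP : IsPGroup p P := IsPGroup.of_card (n := 1) (by rw [Nat.card_zpowers, hα, pow_one])
  let F : Subgroup A := (α.1.toMonoidHom).eqLocus (MonoidHom.id A)
  have hfix : Nat.card (MulAction.fixedPoints P A) = Nat.card F := by
    refine Nat.card_congr (Equiv.setCongr ?_)
    ext a
    constructor
    · intro h
      exact h ⟨α, Subgroup.mem_zpowers α⟩
    · intro (h : α.1 a = a) β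
      have hle : P ≤ MulAction.stabilizer φ.range a := Subgroup.zpowers_le.mpr h
      exact hle β.2
  have hmod := hP.card_modEq_card_fixedPoints A
  rw [hA, hfix] at hmod
  obtain ⟨k, hk, hk'⟩ := (Nat.dvd_prime_pow Nat.prime_two).mp
    (show Nat.card F ∣ 2 ^ 10 by rw [show 2 ^ 10 = Nat.card A by rw [hA]; norm_num]; exact Subgroup.card_subgroup_dvd_card F)
  rw [hk'] at hmod
  rcases lt_or_eq_of_le hk with hlt | rfl
  · refine hnum k hlt ?_
    exact Nat.mod_eq_zero_of_dvd ((Nat.modEq_iff_dvd' (Nat.pow_le_pow_right (by norm_num) hk)).mp hmod.symm) |>.trans rfl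
  · have hF : F = ⊤ := Subgroup.eq_top_of_card_eq F (by rw [hk', hA]; norm_num)
    have h1 : α = 1 := Subtype.ext (MulEquiv.ext fun a => by
      have : a ∈ F := hF ▸ Subgroup.mem_top a
      exact this)
    rw [h1, orderOf_one] at hα
    exact hp.one_lt.ne hα

/-- a set closed under products of distinct members is a subgroup with the identity -/
theorem no_closed {G : Type*} [Group G] [Finite G] (A : Subgroup G) (hA : Nat.card A = 1024)
    (hsq : ∀ a ∈ A, a * a = 1) (S : Set G) (hS : S ⊆ (A : Set G)) (h1 : (1 : G) ∉ S)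
    (hcl : ∀ x ∈ S, ∀ y ∈ S, x ≠ y → x * y ∈ S) (hn : ¬ (S.ncard + 1) ∣ 1024) : False := by
  apply hn
  let K : Subgroup G :=
    { carrier := insert 1 S
      one_mem' := Set.mem_insert 1 S
      mul_mem' := by
        rintro a b (rfl | ha) (rfl | hb)
        · exact Or.inl (one_mul 1)
        · rw [one_mul]; exact Or.inr hb
        · rw [mul_one]; exact Or.inr ha
        · by_cases hab : a = b
          · exact Or.inl (hab ▸ hsq b (hS hb))
          · exact Or.inr (hcl a ha b hb hab)
      inv_mem' := by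
        rintro a (rfl | ha)
        · exact Or.inl inv_one
        · rw [inv_eq_of_mul_eq_one_left (hsq a (hS ha))]; exact Or.inr ha }
  have hKA : K ≤ A := by
    rintro a (rfl | ha)
    exacts [one_mem A, hS ha]
  have hc : Nat.card K = S.ncard + 1 :=
    (Nat.card_coe_set_eq (insert 1 S)).trans (Set.ncard_insert_of_notMem h1 (Set.toFinite _))
  rw [← hc, ← hA]
  exact Subgroup.card_dvd_of_le hKA

end Cfsg.Agent.Spor.TSUPrime
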