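import Cfsg.Agent.Lib.Spor.TSUCover
import Cfsg.Agent.Lib.Spor.TSUPrime

/-!
An involution d of a finite group whose centraliser is a perfect double cover of PSU(6,2): the conjugates
of d in a largest elementary abelian subgroup of the centraliser.
-/

set_option autoImplicit false
set_option maxRecDepth 100000
set_option linter.unusedSectionVars false

namespace Cfsg.Agent.Spor.TSU

open TSULift (Elem ConjTo UniqueIn)

variable {G : Type*} [Group G] [Finite G] {d : G}

/-- the centraliser -/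
abbrev CD (d : G) : Subgroup G := Subgroup.centralizer ({d} : Set G)

/-- the hypotheses on the map onto the unitary group -/
structure Setup (d : G) (q : CD d →* RR) : Prop where
  surj : Function.Surjective q
  ker : ∀ z : CD d, q z = 1 ↔ (z : G) = 1 ∨ (z : G) = d
  perfect : commutator (CD d) = ⊤
  lift : ∀ x : RR, x * x = 1 → ∃ y : CD d, q y = x ∧ y * y = 1
  ne : d ≠ 1
  sq : d * d = 1
  nwc : ∃ g : G, g * d * g⁻¹ ∈ CD d ∧ g * d * g⁻¹ ≠ d

/-- the central involution -/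
def zd (d : G) : CD d := ⟨d, Subgroup.mem_centralizer_singleton_iff.mpr rfl⟩

variable {q : CD d →* RR} (hs : Setup d q)
include hs

theorem zd_ne : zd d ≠ 1 := fun h => hs.ne (congrArg Subtype.val h)

theorem q_zd : q (zd d) = 1 := (hs.ker _).mpr (Or.inr rfl)

theorem ker_cases {z : CD d} (h : q z = 1) : z = 1 ∨ z = zd d := by
  rcases (hs.ker z).mp h with h | h
  exacts [Or.inl (Subtype.ext h), Or.inr (Subtype.ext h)]

theorem zd_comm (y : CD d) : y * zd d = zd d * y :=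
  Subtype.ext (Subgroup.mem_centralizer_singleton_iff.mp y.2)

theorem card_ker : Nat.card q.ker = 2 := by
  rw [Nat.card_eq_two_iff]
  refine ⟨1, ⟨zd d, q_zd hs⟩, fun h => zd_ne hs (congrArg Subtype.val h).symm, ?_⟩
  refine Set.eq_univ_of_forall fun ⟨z, hz⟩ => ?_
  rcases ker_cases hs hz with rfl | rfl
  exacts [Or.inl rfl, Or.inr rfl]

theorem ker_central : q.ker ≤ Subgroup.center (CD d) := fun z hz =>
  Subgroup.mem_center_iff.mpr fun y => by
    rcases ker_cases hs hz with rfl | rfl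
    · rw [mul_one, one_mul]
    · exact zd_comm hs y

theorem zd_sq : zd d * zd d = 1 := Subtype.ext hs.sq

theorem same_fibre {x y : CD d} (h : q x = q y) : x = y ∨ x = y * zd d := by
  rcases ker_cases hs (z := y⁻¹ * x) (by rw [map_mul, map_inv, h, inv_mul_cancel]) with e | e
  · exact Or.inl (inv_mul_eq_one.mp e).symm
  · exact Or.inr (inv_mul_eq_iff_eq_mul.mp e)

omit hs in
/-- the elementary abelian subgroup -/
noncomputable def A0 (q : CD d →* RR) : Subgroup (CD d) := AR.comap q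

theorem card_A0 : Nat.card (A0 q) = 1024 := by
  rw [A0, TSULift.card_comap hs.surj, card_ker hs, card_AR]

theorem elem_A0 : Elem (A0 q) 1024 :=
  TSULift.elem_comap hs.surj (card_ker hs) (ker_central hs) hs.lift elem_AR

theorem conjTo_A0 : ConjTo (A0 q) 1024 := TSULift.conjTo_up hs.surj (card_ker hs) card_AR conjTo_AR

theorem unique_A0 : UniqueIn (CD d) 1024 :=
  TSULift.unique_up hs.surj (card_ker hs) card_AR conjTo_AR uniqueIn_RR

theorem zd_A0 : zd d ∈ A0 q := by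
  rw [A0, Subgroup.mem_comap, q_zd hs]; exact one_mem _

/-- two large subgroups of the centraliser are conjugate in it -/
theorem conj_two {B B' : Subgroup (CD d)} (hB : Elem B 1024) (hB' : Elem B' 1024) :
    ∃ h : CD d, B.map (MulAut.conj h).toMonoidHom = B' := by
  obtain ⟨a, ha⟩ := conjTo_A0 hs B hB
  obtain ⟨b, hb⟩ := conjTo_A0 hs B' hB'
  refine ⟨b⁻¹ * a, ?_⟩
  rw [map_mul, show (MulAut.conj b⁻¹ * MulAut.conj a).toMonoidHom =
    (MulAut.conj b⁻¹).toMonoidHom.comp (MulAut.conj a).toMonoidHom from rfl, ← Subgroup.map_map, ha]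
  conv_lhs => rw [← hb, Subgroup.map_map]
  rw [show (MulAut.conj b⁻¹).toMonoidHom.comp (MulAut.conj b).toMonoidHom = MonoidHom.id _ from
    MonoidHom.ext fun x => by
      show b⁻¹ * (b * x * b⁻¹) * b⁻¹⁻¹ = x
      group, Subgroup.map_id]

/-- no conjugate of d is a square in the centraliser -/
theorem not_square {x y : CD d} (hx : IsConj d (x : G)) : y * y ≠ x := by
  intro e
  obtain ⟨g, hg⟩ := isConj_iff.mp hx
  have he : (y : G) * y = (x : G) := congrArg Subtype.val e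
  have hy' : g⁻¹ * (y : G) * g ∈ CD d := Subgroup.mem_centralizer_singleton_iff.mpr (by
    have hxy : (y : G) * x = x * y := by rw [← he]; group
    calc g⁻¹ * (y : G) * g * d = g⁻¹ * ((y : G) * (g * d * g⁻¹)) * g := by group
      _ = g⁻¹ * ((g * d * g⁻¹) * (y : G)) * g := by rw [hg, hxy]
      _ = d * (g⁻¹ * (y : G) * g) := by group)
  have h2 : (⟨_, hy'⟩ : CD d) * ⟨_, hy'⟩ = zd d := Subtype.ext (by
    show g⁻¹ * (y : G) * g * (g⁻¹ * (y : G) * g) = d
    calc g⁻¹ * (y : G) * g * (g⁻¹ * (y : G) * g) = g⁻¹ * ((y : G) * y) * g := by group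
      _ = d := by rw [he, ← hg]; group)
  have h3 := TSULift.sq_lift (card_ker hs) (ker_central hs) hs.lift (v := (⟨_, hy'⟩ : CD d))
    (by rw [← map_mul, h2, q_zd hs])
  exact zd_ne hs (h2.symm.trans h3)

omit hs in
/-- the conjugates of d in the subgroup, inside the centraliser -/
def X0 (q : CD d →* RR) : Set (CD d) := {x | x ∈ A0 q ∧ IsConj d (x : G)}

omit hs in
theorem isConj_conj (h : CD d) {x : CD d} (hx : IsConj d (x : G)) : IsConj d ((h * x * h⁻¹ : CD d) : G) :=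
  hx.trans (isConj_iff.mpr ⟨(h : G), rfl⟩)

/-- lifting the transitivity -/
theorem rel_lift {x y : CD d} (h : Rel (q x) (q y)) :
    ∃ t : CD d, (∀ a ∈ A0 q, t * a * t⁻¹ ∈ A0 q) ∧ (t * x * t⁻¹ = y ∨ t * x * t⁻¹ = y * zd d) := by
  obtain ⟨r, hr, hrx⟩ := h
  obtain ⟨t, rfl⟩ := hs.surj r
  refine ⟨t, fun a ha => ?_, same_fibre hs (by rw [map_mul, map_mul, map_inv, hrx])⟩
  show q (t * a * t⁻¹) ∈ AR
  rw [map_mul, map_mul, map_inv, ← hr]
  exact ⟨q a, ha, rfl⟩

theorem move {x y : CD d} (h : Rel (q x) (q y)) (hy : q y ∈ AR) (hx : IsConj d (x : G)) :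
    y ∈ X0 q ∨ y * zd d ∈ X0 q := by
  obtain ⟨t, -, e | e⟩ := rel_lift hs h
  · exact Or.inl ⟨hy, e ▸ isConj_conj t hx⟩
  · exact Or.inr ⟨by rw [A0, Subgroup.mem_comap, map_mul, q_zd hs, mul_one]; exact hy, e ▸ isConj_conj t hx⟩

theorem not_both {x : CD d} (hx : q x ∈ Q1 ∪ Q2) : ¬ (x ∈ X0 q ∧ x * zd d ∈ X0 q) := by
  rintro ⟨⟨-, h1⟩, -, h2⟩
  obtain ⟨g, hg⟩ := square_root hx
  obtain ⟨y, rfl⟩ := hs.surj g
  rcases same_fibre hs (x := y * y) (y := x) (by rw [map_mul, hg]) with e | e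
  exacts [not_square hs h1 e, not_square hs h2 e]

theorem both_Q3 {x : CD d} (hx : x ∈ X0 q) (hq : q x ∈ Q3) : x * zd d ∈ X0 q := by
  obtain ⟨u, h, hu, hne, hker⟩ := fusion hs.surj (card_ker hs) (ker_central hs) hs.perfect
  have hz : h * u * h⁻¹ = zd d * u := by
    rcases ker_cases hs hker with e | e
    · exact absurd e hne
    · exact mul_inv_eq_iff_eq_mul.mp e
  obtain ⟨t, -, et⟩ := rel_lift hs (trans_Q3 hq hu)
  -- the other lift is conjugate to this one
  have key : ∀ {a : CD d}, IsConj d (a : G) → (a = u ∨ a = u * zd d) → IsConj d ((a * zd d : CD d) : G) := by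
    rintro a ha (rfl | rfl)
    · rw [zd_comm hs a, ← hz]
      exact isConj_conj h ha
    · rw [mul_assoc, zd_sq hs, mul_one]
      have := isConj_conj h⁻¹ ha
      rwa [show h⁻¹ * (u * zd d) * h⁻¹⁻¹ = u by
        rw [zd_comm hs u, ← hz]; group] at this
  refine ⟨mul_mem hx.1 (zd_A0 hs), ?_⟩
  have := isConj_conj t⁻¹ (key (isConj_conj t hx.2) et)
  rwa [show t⁻¹ * (t * x * t⁻¹ * zd d) * t⁻¹⁻¹ = x * (t⁻¹ * zd d * t) by group, zd_comm hs t⁻¹,
    inv_mul_cancel_right] at this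

omit hs in
/-- the part over a set -/
def part (q : CD d →* RR) (Q : Set RR) : Set (CD d) := {x | x ∈ X0 q ∧ q x ∈ Q}

theorem part_fibre {Q : Set RR} (hQ : Q ⊆ (AR : Set RR)) (htr : ∀ x ∈ Q, ∀ y ∈ Q, Rel x y)
    (hne : (part q Q).Nonempty) {y : CD d} (hy : q y ∈ Q) : y ∈ X0 q ∨ y * zd d ∈ X0 q := by
  obtain ⟨x, hx, hxQ⟩ := hne
  exact move hs (htr _ hxQ _ hy) (hQ hy) hx.2

theorem count_single {Q : Set RR} (hQ : Q ⊆ (AR : Set RR)) (hsub : Q ⊆ Q1 ∪ Q2)
    (htr : ∀ x ∈ Q, ∀ y ∈ Q, Rel x y) : part q Q = ∅ ∨ (part q Q).ncard = Q.ncard := by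
  rcases (part q Q).eq_empty_or_nonempty with h | hne
  · exact Or.inl h
  right
  refine Set.ncard_congr (fun x _ => q x) (fun x hx => hx.2) ?_ ?_
  · intro x y hx hy e
    rcases same_fibre hs e with h | h
    · exact h
    · exact absurd ⟨hy.1, h ▸ hx.1⟩ (not_both hs (hsub hy.2))
  · intro r hr
    obtain ⟨y, rfl⟩ := hs.surj r
    rcases part_fibre hs hQ htr hne hr with h | h
    · exact ⟨y, ⟨h, hr⟩, rfl⟩
    · exact ⟨y * zd d, ⟨h, by rw [map_mul, q_zd hs, mul_one]; exact hr⟩, by rw [map_mul, q_zd hs, mul_one]⟩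

theorem full_Q3 (hne : (part q Q3).Nonempty) {x : CD d} (hx : q x ∈ Q3) : x ∈ X0 q := by
  rcases part_fibre hs Q_subset.2.2 (fun _ a _ b => trans_Q3 a b) hne hx with h | h
  · exact h
  · have := both_Q3 hs h (by rw [map_mul, q_zd hs, mul_one]; exact hx)
    rwa [mul_assoc, zd_sq hs, mul_one] at this

theorem count_Q3 : part q Q3 = ∅ ∨ (part q Q3).ncard = 560 := by
  rcases (part q Q3).eq_empty_or_nonempty with h | hne
  · exact Or.inl h
  right
  haveI := finRR
  let s := Function.surjInv hs.surj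
  have hsv : ∀ r, q (s r) = r := Function.surjInv_eq hs.surj
  have hsi : Function.Injective s := Function.injective_surjInv hs.surj
  have e : part q Q3 = s '' Q3 ∪ (fun r => s r * zd d) '' Q3 := by
    ext x
    constructor
    · rintro ⟨-, hx⟩
      rcases same_fibre hs (x := x) (y := s (q x)) (hsv _).symm with h | h
      · exact Or.inl ⟨q x, hx, h.symm⟩
      · exact Or.inr ⟨q x, hx, h.symm⟩
    · rintro (⟨r, hr, rfl⟩ | ⟨r, hr, rfl⟩)
      · exact ⟨full_Q3 hs hne (by rw [hsv]; exact hr), by rw [hsv]; exact hr⟩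
      · have hq : q (s r * zd d) ∈ Q3 := by rw [map_mul, hsv, q_zd hs, mul_one]; exact hr
        exact ⟨full_Q3 hs hne hq, hq⟩
  have hd : Disjoint (s '' Q3) ((fun r => s r * zd d) '' Q3) := by
    rw [Set.disjoint_left]
    rintro _ ⟨r, -, rfl⟩ ⟨r', -, h⟩
    have hrr := congrArg q h
    rw [map_mul, hsv, hsv, q_zd hs, mul_one] at hrr
    rw [hrr, mul_eq_left] at h
    exact zd_ne hs h
  rw [e, Set.ncard_union_eq hd (Set.toFinite _) (Set.toFinite _), Set.ncard_image_of_injective _ hsi,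
    Set.ncard_image_of_injective _ (fun a b h => hsi (mul_right_cancel h)), ncard_Q3]

theorem zd_X0 : zd d ∈ X0 q := ⟨zd_A0 hs, IsConj.refl d⟩

theorem X0_split : X0 q = insert (zd d) (part q Q1 ∪ part q Q2 ∪ part q Q3) := by
  ext x
  constructor
  · intro hx
    rcases parts (q x) hx.1 with h | h | h | h
    · rcases ker_cases hs h with rfl | rfl
      · exfalso
        obtain ⟨g, hg⟩ := isConj_iff.mp hx.2
        exact hs.ne (by rwa [Subgroup.coe_one, mul_inv_eq_one, mul_eq_left] at hg)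
      · exact Or.inl rfl
    exacts [Or.inr (Or.inl (Or.inl ⟨hx, h⟩)), Or.inr (Or.inl (Or.inr ⟨hx, h⟩)), Or.inr (Or.inr ⟨hx, h⟩)]
  · rintro (rfl | (h | h) | h)
    exacts [zd_X0 hs, h.1, h.1, h.1]

theorem ncard_X0 : (X0 q).ncard = 1 + (part q Q1).ncard + (part q Q2).ncard + (part q Q3).ncard := by
  obtain ⟨h1, h2, h3, d12, d13, d23⟩ := disjoint_parts
  have key : ∀ {P P' : Set RR}, Disjoint P P' → Disjoint (part q P) (part q P') := fun h =>
    Set.disjoint_left.mpr fun x hx hx' => Set.disjoint_left.mp h hx.2 hx'.2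
  have hz : zd d ∉ part q Q1 ∪ part q Q2 ∪ part q Q3 := by
    rintro ((h | h) | h) <;> have e := h.2 <;> rw [q_zd hs] at e
    exacts [h1 e, h2 e, h3 e]
  rw [X0_split hs, Set.ncard_insert_of_notMem hz (Set.toFinite _),
    Set.ncard_union_eq (Set.disjoint_union_left.mpr ⟨key d13, key d23⟩) (Set.toFinite _) (Set.toFinite _),
    Set.ncard_union_eq (key d12) (Set.toFinite _) (Set.toFinite _)]
  ring

theorem X0_other : ∃ x ∈ X0 q, x ≠ zd d := by
  obtain ⟨g, hg, hne⟩ := hs.nwc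
  let y : CD d := ⟨g * d * g⁻¹, hg⟩
  have hy : IsConj d (y : G) := isConj_iff.mpr ⟨g, rfl⟩
  have hy2 : y * y = 1 := Subtype.ext (by
    show g * d * g⁻¹ * (g * d * g⁻¹) = 1
    calc g * d * g⁻¹ * (g * d * g⁻¹) = g * (d * d) * g⁻¹ := by group
      _ = 1 := by rw [hs.sq]; group)
  obtain ⟨r, hr⟩ := invol_AR (x := q y) (by rw [← map_mul, hy2, map_one])
  obtain ⟨h, rfl⟩ := hs.surj r
  refine ⟨h * y * h⁻¹, ⟨by rw [A0, Subgroup.mem_comap, map_mul, map_mul, map_inv]; exact hr, isConj_conj h hy⟩,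
    fun e => hne ?_⟩
  rw [mul_inv_eq_iff_eq_mul, ← zd_comm hs h, mul_right_inj] at e
  exact congrArg Subtype.val e

omit hs in
/-- the subgroup in the whole group -/
noncomputable def AG (q : CD d →* RR) : Subgroup G := (A0 q).map (CD d).subtype

theorem card_AG : Nat.card (AG q) = 1024 :=
  (Subgroup.card_map_of_injective Subtype.val_injective).trans (card_A0 hs)

theorem sq_AG {a : G} (ha : a ∈ AG q) : a * a = 1 := by
  obtain ⟨b, hb, rfl⟩ := ha
  exact congrArg Subtype.val ((elem_A0 hs).1 b hb)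

theorem d_AG : d ∈ AG q := ⟨zd d, zd_A0 hs, rfl⟩

omit hs in
/-- the conjugates of d in the subgroup -/
def XG (q : CD d →* RR) : Set G := {x | x ∈ AG q ∧ IsConj d x}

theorem XG_eq : XG q = (fun x : CD d => (x : G)) '' X0 q := by
  ext x
  constructor
  · rintro ⟨⟨b, hb, rfl⟩, hx⟩
    exact ⟨b, ⟨hb, hx⟩, rfl⟩
  · rintro ⟨b, hb, rfl⟩
    exact ⟨⟨b, hb.1, rfl⟩, hb.2⟩

omit hs in
theorem normalizer_of_map {H : Subgroup G} {n : G} (h : H.map (MulAut.conj n).toMonoidHom = H) :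
    n ∈ Subgroup.normalizer (H : Set G) :=
  Subgroup.mem_normalizer_iff.mpr fun a => ⟨fun ha => by rw [← h]; exact ⟨a, ha, rfl⟩, fun ha => by
    have ha' : MulAut.conj n a ∈ H.map (MulAut.conj n).toMonoidHom := by rw [h]; exact ha
    obtain ⟨b, hb, e⟩ := ha'
    exact (MulAut.conj n).injective e ▸ hb⟩

/-- the normaliser moves d to every conjugate in a large subgroup -/
theorem move_d {B : Subgroup (CD d)} (hB : Elem B 1024) {x : G} (hxB : x ∈ B.map (CD d).subtype)
    (hx : IsConj d x) :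
    ∃ n ∈ Subgroup.normalizer ((B.map (CD d).subtype : Subgroup G) : Set G), n * d * n⁻¹ = x := by
  obtain ⟨g, hg⟩ := isConj_iff.mp hx
  set BG := B.map (CD d).subtype
  have hBG : Elem BG 1024 := hB.map _ Subtype.val_injective
  set B' := BG.map (MulAut.conj g⁻¹).toMonoidHom
  have hB' : Elem B' 1024 := hBG.map _ (MulAut.conj g⁻¹).injective
  have hle : B' ≤ CD d := by
    rintro _ ⟨a, ha, rfl⟩
    rw [Subgroup.mem_centralizer_singleton_iff]
    show g⁻¹ * a * g⁻¹⁻¹ * d = d * (g⁻¹ * a * g⁻¹⁻¹)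
    calc g⁻¹ * a * g⁻¹⁻¹ * d = g⁻¹ * (a * (g * d * g⁻¹)) * g := by group
      _ = g⁻¹ * ((g * d * g⁻¹) * a) * g := by rw [hg, (hBG.comm ha hxB).eq]
      _ = d * (g⁻¹ * a * g⁻¹⁻¹) := by group
  have hsub : Elem (B'.subgroupOf (CD d)) 1024 :=
    ⟨fun v hv => Subtype.ext (hB'.1 _ hv), by
      rw [Nat.card_congr (Subgroup.subgroupOfEquivOfLe hle).toEquiv]; exact hB'.2⟩
  obtain ⟨h, hh⟩ := conj_two hs hsub hB
  refine ⟨g * (h : G)⁻¹, ?_, ?_⟩
  · have hin : ∀ a ∈ BG, (h : G) * (g⁻¹ * a * g) * (h : G)⁻¹ ∈ BG := by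
      intro a ha
      have ha' : g⁻¹ * a * g ∈ B' := ⟨a, ha, show g⁻¹ * a * g⁻¹⁻¹ = _ by rw [inv_inv]⟩
      refine ⟨h * ⟨_, hle ha'⟩ * h⁻¹, ?_, rfl⟩
      rw [← hh]
      exact ⟨⟨_, hle ha'⟩, ha', rfl⟩
    have hn : (h : G) * g⁻¹ ∈ Subgroup.normalizer (BG : Set G) :=
      normalizer_of_map (Subgroup.eq_of_le_of_card_ge (by
        rintro _ ⟨a, ha, rfl⟩
        show (h : G) * g⁻¹ * a * ((h : G) * g⁻¹)⁻¹ ∈ BG
        rw [show (h : G) * g⁻¹ * a * ((h : G) * g⁻¹)⁻¹ = (h : G) * (g⁻¹ * a * g) * (h : G)⁻¹ by group]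
        exact hin a ha) (le_of_eq (Subgroup.card_map_of_injective (MulAut.conj ((h : G) * g⁻¹)).injective).symm))
    have := inv_mem hn
    rwa [mul_inv_rev, inv_inv] at this
  · have hhd : (h : G) * d = d * (h : G) := Subgroup.mem_centralizer_singleton_iff.mp h.2
    calc g * (h : G)⁻¹ * d * (g * (h : G)⁻¹)⁻¹ = g * ((h : G)⁻¹ * (d * (h : G))) * g⁻¹ := by group
      _ = x := by rw [← hhd, inv_mul_cancel_left, hg]

theorem normalizer_inv {n : G} (hn : n ∈ Subgroup.normalizer ((AG q : Subgroup G) : Set G)) {a : G}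
    (ha : a ∈ XG q) : n * a * n⁻¹ ∈ XG q :=
  ⟨(Subgroup.mem_normalizer_iff.mp hn a).mp ha.1, ha.2.trans (isConj_iff.mpr ⟨n, rfl⟩)⟩

theorem trans_XG {x : G} (hx : x ∈ XG q) :
    ∃ n ∈ Subgroup.normalizer ((AG q : Subgroup G) : Set G), n * d * n⁻¹ = x := move_d hs (elem_A0 hs) hx.1 hx.2

theorem prime_out {p : ℕ} (hp : p.Prime) (hnum : ∀ k < 10, (1024 - 2 ^ k) % p ≠ 0) :
    ¬ p ∣ (XG q).ncard :=
  TSUPrime.prime_excluded (AG q) (card_AG hs) (d_AG hs) (XG q) (fun _ hx => trans_XG hs hx)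
    (fun _ hn => normalizer_inv hs hn ⟨d_AG hs, IsConj.refl d⟩) hp hnum

theorem ncard_XG : (XG q).ncard = (X0 q).ncard := by
  rw [XG_eq hs, Set.ncard_image_of_injective _ Subtype.val_injective]

theorem comm_AG {a b : G} (ha : a ∈ AG q) (hb : b ∈ AG q) : Commute a b :=
  ((elem_A0 hs).map (CD d).subtype Subtype.val_injective).comm ha hb

theorem not_closed_out (hQ1 : part q Q1 = ∅) (hQ2 : part q Q2 = ∅) (hn : ¬ ((XG q).ncard + 1) ∣ 1024) :
    False := by
  refine TSUPrime.no_closed (AG q) (card_AG hs) (fun _ ha => sq_AG hs ha) (XG q) (fun _ hx => hx.1) ?_ ?_ hn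
  · rintro ⟨-, h⟩
    obtain ⟨g, hg⟩ := isConj_iff.mp h
    exact hs.ne (by rwa [mul_inv_eq_one, mul_eq_left] at hg)
  intro x hx y hy hxy
  obtain ⟨n, hn, rfl⟩ := trans_XG hs hx
  set a := n⁻¹ * y * n with ha
  have haX : a ∈ XG q := by
    have := normalizer_inv hs (inv_mem hn) hy
    rwa [inv_inv] at this
  have had : a ≠ d := fun h => hxy (by rw [← h, ha]; group)
  obtain ⟨b, hb, hba⟩ := (XG_eq hs ▸ haX : a ∈ (fun x : CD d => (x : G)) '' X0 q)
  have hb3 : q b ∈ Q3 := by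
    have h := hb
    rw [X0_split hs, hQ1, hQ2] at h
    rcases h with h | (h | h) | h
    · exact absurd (by rw [← hba, h]; rfl) had
    · exact absurd h (Set.notMem_empty b)
    · exact absurd h (Set.notMem_empty b)
    · exact h.2
  have hbd := both_Q3 hs hb hb3
  have had' : a * d ∈ XG q := by
    rw [XG_eq hs]
    exact ⟨_, hbd, by rw [← hba]; rfl⟩
  have := normalizer_inv hs hn had'
  rwa [show n * (a * d) * n⁻¹ = y * (n * d * n⁻¹) by rw [ha]; group, (comm_AG hs hy.1 hx.1).eq] at this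

theorem rest_closed_out (hne3 : (part q Q3).Nonempty) (hne1 : (part q Q1).Nonempty)
    (hne2 : (part q Q2).Nonempty) (hn : ¬ (1024 - (XG q).ncard) ∣ 1024) : False := by
  set R : Set G := {a | a ∈ AG q ∧ a ≠ 1 ∧ a ∉ XG q} with hR
  have hflip : ∀ a ∈ R, a * d ∈ XG q := by
    rintro _ ⟨⟨b, hb, rfl⟩, h1, hX⟩
    rw [XG_eq hs] at hX ⊢
    have hbX : b ∉ X0 q := fun h => hX ⟨b, h, rfl⟩
    refine ⟨b * zd d, ?_, rfl⟩
    rcases parts (q b) hb with h | h | h | h
    · rcases ker_cases hs h with rfl | rfl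
      · exact absurd rfl h1
      · exact absurd (zd_X0 hs) hbX
    · exact (part_fibre hs Q_subset.1 (fun _ a _ b => trans_Q1 a b) hne1 h).resolve_left hbX
    · exact (part_fibre hs Q_subset.2.1 (fun _ a _ b => trans_Q2 a b) hne2 h).resolve_left hbX
    · exact absurd (full_Q3 hs hne3 h) hbX
  have hflipx : ∀ r ∈ R, ∀ x ∈ XG q, r * x ∈ XG q := by
    intro r hr x hx
    obtain ⟨n, hn, rfl⟩ := trans_XG hs hx
    have hrR : n⁻¹ * r * n ∈ R := by
      refine ⟨?_, fun h => hr.2.1 ?_, fun h => hr.2.2 ?_⟩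
      · have := (Subgroup.mem_normalizer_iff.mp (inv_mem hn) r).mp hr.1
        rwa [inv_inv] at this
      · rw [show r = n * (n⁻¹ * r * n) * n⁻¹ by group, h]; group
      · have := normalizer_inv hs hn h
        rwa [show n * (n⁻¹ * r * n) * n⁻¹ = r by group] at this
    have := normalizer_inv hs hn (hflip _ hrR)
    rwa [show n * (n⁻¹ * r * n * d) * n⁻¹ = r * (n * d * n⁻¹) by group] at this
  refine TSUPrime.no_closed (AG q) (card_AG hs) (fun _ ha => sq_AG hs ha) R (fun _ h => h.1)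
    (fun h => h.2.1 rfl) ?_ ?_
  · intro r hr s hs' hrs
    refine ⟨mul_mem hr.1 hs'.1, fun h => hrs ?_, fun h => ?_⟩
    · rw [eq_inv_of_mul_eq_one_left h, inv_eq_of_mul_eq_one_left (sq_AG hs hs'.1)]
    · have := hflipx r hr _ h
      rw [← mul_assoc, sq_AG hs hr.1, one_mul] at this
      exact hs'.2.2 this
  · have hsplit : insert 1 R = ((AG q : Set G) \ XG q) := by
      ext a
      constructor
      · rintro (rfl | h)
        · refine ⟨one_mem _, fun h => ?_⟩
          obtain ⟨g, hg⟩ := isConj_iff.mp h.2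
          exact hs.ne (by rwa [mul_inv_eq_one, mul_eq_left] at hg)
        · exact ⟨h.1, h.2.2⟩
      · rintro ⟨h1, h2⟩
        by_cases ha : a = 1
        exacts [Or.inl ha, Or.inr ⟨h1, ha, h2⟩]
    have hc := congrArg Set.ncard hsplit
    rw [Set.ncard_insert_of_notMem (fun h => h.2.1 rfl) (Set.toFinite _),
      Set.ncard_sdiff (show XG q ⊆ (AG q : Set G) from fun _ h => h.1) (Set.toFinite _),
      show (AG q : Set G).ncard = 1024 from (Nat.card_coe_set_eq _).symm.trans (card_AG hs)] at hc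
    rwa [hc]

theorem count : (XG q).ncard = 22 := by
  have hX := (ncard_XG hs).trans (ncard_X0 hs)
  have c1 := count_single hs Q_subset.1 Set.subset_union_left (fun _ a _ b => trans_Q1 a b)
  have c2 := count_single hs Q_subset.2.1 Set.subset_union_right (fun _ a _ b => trans_Q2 a b)
  rw [ncard_Q1] at c1
  rw [ncard_Q2] at c2
  have e0 : ∀ {P : Set RR}, part q P = ∅ → (part q P).ncard = 0 := fun h => by rw [h, Set.ncard_empty]
  have ne0 : ∀ {P : Set RR} {k : ℕ}, (part q P).ncard = k + 1 → (part q P).Nonempty := fun h =>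
    Set.nonempty_of_ncard_ne_zero (by omega)
  rcases c1 with a | a <;> rcases c2 with b | b <;> rcases count_Q3 hs with c | c
  · exfalso
    obtain ⟨x, hx, hne⟩ := X0_other hs
    rw [X0_split hs, a, b, c] at hx
    rcases hx with h | (h | h) | h
    exacts [hne h, h, h, h]
  · exfalso
    rw [e0 a, e0 b, c] at hX
    exact not_closed_out hs a b (by rw [hX]; norm_num)
  · exfalso
    rw [e0 a, b, e0 c] at hX
    exact prime_out hs (p := 211) (by norm_num) (by decide +kernel) (by rw [hX])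
  · exfalso
    rw [e0 a, b, c] at hX
    exact prime_out hs (p := 257) (by norm_num) (by decide +kernel) (by rw [hX]; norm_num)
  · rw [hX, a, e0 b, e0 c]
  · exfalso
    rw [a, e0 b, c] at hX
    exact prime_out hs (p := 97) (by norm_num) (by decide +kernel) (by rw [hX]; norm_num)
  · exfalso
    rw [a, b, e0 c] at hX
    exact prime_out hs (p := 29) (by norm_num) (by decide +kernel) (by rw [hX]; norm_num)
  · exfalso
    rw [a, b, c] at hX
    exact rest_closed_out hs (ne0 c) (ne0 a) (ne0 b) (by rw [hX]; norm_num)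

theorem count_any {B : Subgroup (CD d)} (hB : Elem B 1024) :
    {x : G | x ∈ B.map (CD d).subtype ∧ IsConj d x}.ncard = 22 := by
  obtain ⟨h, hh⟩ := conjTo_A0 hs B hB
  have e : XG q = (fun x => (h : G) * x * (h : G)⁻¹) '' {x : G | x ∈ B.map (CD d).subtype ∧ IsConj d x} := by
    ext y
    constructor
    · rintro ⟨⟨v, hv, rfl⟩, hy⟩
      rw [SetLike.mem_coe, ← hh] at hv
      obtain ⟨b, hb, rfl⟩ := hv
      exact ⟨(b : G), ⟨⟨b, hb, rfl⟩, hy.trans (isConj_iff.mpr ⟨(h : G)⁻¹, by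
        show (h : G)⁻¹ * ((h : G) * b * (h : G)⁻¹) * (h : G)⁻¹⁻¹ = b
        group⟩)⟩, rfl⟩
    · rintro ⟨x, ⟨⟨b, hb, rfl⟩, hx⟩, rfl⟩
      refine ⟨⟨h * b * h⁻¹, ?_, rfl⟩, hx.trans (isConj_iff.mpr ⟨(h : G), rfl⟩)⟩
      rw [← hh]
      exact ⟨b, hb, rfl⟩
  have := count hs
  rwa [e, Set.ncard_image_of_injective _ (fun a b hab => mul_left_cancel (mul_right_cancel hab))] at this

end Cfsg.Agent.Spor.TSU
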