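import Cfsg.Agent.Lib.Spor.TSUUnitary
import Cfsg.Agent.Lib.Spor.U62CovMain

/-!
In every perfect double cover of PSU(6,2) the two lifts of an involution of the third kind are conjugate:
two commutators in the twelve-fold cover generate the even part of its kernel.
-/

set_option autoImplicit false
set_option maxRecDepth 100000

namespace Cfsg.Agent.Spor.TSU

open Cfsg.Agent.Spor.CC
open Cfsg.Agent.Lead.Fi22Two Cfsg.Agent.Lead.Fi22Two.Syl
open Cfsg.Agent.Spor.Fi22SixCert (overU toU toH toFi toFi23)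
open scoped commutatorElement

universe u

variable {C : Type u} [Group C] [Finite C] {q : C →* RR}

theorem cover_map (hq : Function.Surjective q) (hc : q.ker ≤ Subgroup.center C) (hperf : commutator C = ⊤) :
    ∃ f : overU →* C, Function.Surjective f ∧ q.comp f = toU := by
  haveI := Fi22SixCert.card_le.1
  haveI := finRR
  let σ : Shrink.{0} C ≃* C := Shrink.mulEquiv
  haveI : Finite (Shrink.{0} C) := Finite.of_equiv C (equivShrink.{0} C)
  obtain ⟨D, _, _, ψ, φ, hD, hψ, hcomm, hcen⟩ :=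
    Solv.exists_common_cover (Group.isPerfect_def.2 U62CovCert.R_perfect)
      (Group.isPerfect_def.2 Fi22SixCert.overU_perfect) toU Fi22SixCert.toU_surj Fi22SixCert.toU_stem.2.1
      (q.comp σ.toMonoidHom) (hq.comp σ.surjective) (fun x hx => Subgroup.mem_center_iff.mpr fun y =>
        σ.injective (by rw [map_mul, map_mul]; exact Subgroup.mem_center_iff.mp (hc hx) (σ y)))
  have hτ : Cfsg.IsStemExtension (toU.comp ψ) :=
    ⟨Fi22SixCert.toU_surj.comp hψ, hcen, by rw [Group.IsPerfect.commutator_eq_top]; exact le_top⟩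
  have hcard : Nat.card (toU.comp ψ).ker ≤ Nat.card toU.ker :=
    (U62CovCert.kernel_le hτ).trans Fi22SixCert.toU_card.ge
  have hDE : Nat.card D ≤ Nat.card overU := by
    rw [← Subgroup.card_mul_index (toU.comp ψ).ker, ← Subgroup.card_mul_index toU.ker, Subgroup.index_ker,
      Subgroup.index_ker, MonoidHom.range_eq_top.2 hτ.1, MonoidHom.range_eq_top.2 Fi22SixCert.toU_surj]
    exact Nat.mul_le_mul_right _ hcard
  have hbij : Function.Bijective ψ := hψ.bijective_of_nat_card_le hDE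
  let f : overU →* C := σ.toMonoidHom.comp (φ.comp (MulEquiv.ofBijective ψ hbij).symm.toMonoidHom)
  have hσf : ∀ x, q (f x) = toU x := fun x => by
    obtain ⟨d, rfl⟩ := hψ x
    show q (σ (φ ((MulEquiv.ofBijective ψ hbij).symm (ψ d)))) = _
    rw [show (MulEquiv.ofBijective ψ hbij).symm (ψ d) = d from (MulEquiv.ofBijective ψ hbij).symm_apply_apply d]
    exact (DFunLike.congr_fun hcomm d).symm
  refine ⟨f, ?_, MonoidHom.ext hσf⟩
  rw [← MonoidHom.range_eq_top, eq_top_iff, ← hperf, commutator_def, Subgroup.commutator_le]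
  intro a _ b _
  obtain ⟨x, hx⟩ := Fi22SixCert.toU_surj (q a)
  obtain ⟨y, hy⟩ := Fi22SixCert.toU_surj (q b)
  obtain ⟨z, hz, rfl⟩ := Lie.CentralTable.exists_central hc (x := a) (y := f x) (by rw [hσf, hx])
  obtain ⟨w, hw, rfl⟩ := Lie.CentralTable.exists_central hc (x := b) (y := f y) (by rw [hσf, hy])
  refine ⟨⁅x, y⁆, ?_⟩
  rw [map_commutatorElement, commutatorElement_def, commutatorElement_def, mul_inv_rev, mul_inv_rev]
  symm
  calc f x * z * (f y * w) * (z⁻¹ * (f x)⁻¹) * (w⁻¹ * (f y)⁻¹)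
      = f x * (z * (f y * w) * z⁻¹) * (f x)⁻¹ * (w⁻¹ * (f y)⁻¹) := by group
    _ = f x * (f y * w) * (f x)⁻¹ * (w⁻¹ * (f y)⁻¹) := by rw [hz, mul_inv_cancel_right]
    _ = f x * f y * (w * (f x)⁻¹ * w⁻¹) * (f y)⁻¹ := by group
    _ = f x * f y * (f x)⁻¹ * (f y)⁻¹ := by rw [hw, mul_inv_cancel_right]

/-! ### the words in the six-fold cover -/

/-- the element of a word of the six-fold cover -/
noncomputable def up (w : List ℕ) : Fi22SixCert.pres.Grp := (w.map Fi22SixCert.pres.gen).prod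

theorem toFi_up (w : List ℕ) : toFi (up w) = M22U.Cent.el w := Fi22SixCert.toFi_word w

theorem up_mem {w : List ℕ} (h : M22U.Cent.el w ∈ Fi22Cert.U62Act.Hsub) : up w ∈ overU := by
  rw [Subgroup.mem_comap, toFi_up]; exact h

theorem el_xW : M22U.Cent.el xW = mm 2 * mm 4 * mm 5 := by
  rw [xW, el_append, el_append, mm_el, mm_el, mm_el]

theorem xW_mem : M22U.Cent.el xW ∈ Fi22Cert.U62Act.Hsub := by
  rw [el_xW]
  exact mul_mem (mul_mem (EE_le (mem_EE (by norm_num))) (EE_le (mem_EE (by norm_num))))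
    (EE_le (mem_EE (by norm_num)))

/-- lift of three members -/
noncomputable def xh : overU := ⟨up xW, up_mem xW_mem⟩

theorem gW_mem {m : ℕ} (h : m = 8 ∨ m = 97) : M22U.Cent.el (rW m) ∈ Fi22Cert.U62Act.Hsub := by
  rcases h with rfl | rfl
  · exact rr_Hsub (by norm_num) com_ok.2.2.1
  · exact rr_Hsub (by norm_num) com_ok.2.2.2

/-- lifts of the two moving elements -/
noncomputable def gh (m : ℕ) : overU := if h : m = 8 ∨ m = 97 then ⟨up (rW m), up_mem (gW_mem h)⟩ else 1

/-- the commutators -/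
noncomputable def kk (m : ℕ) : overU := gh m * xh * (gh m)⁻¹ * xh⁻¹

theorem kk_val {m : ℕ} (h : m = 8 ∨ m = 97) : ((kk m : overU) : Fi22SixCert.pres.Grp) = up (comW (rW m)) := by
  simp only [kk, gh, dif_pos h, xh, comW, up, List.map_append, List.prod_append, Fi22SixCert.rev_prod]
  rfl

theorem toU_val (v : overU) : toU v = Fi22Cert.U62Act.theta (toH v) := rfl

theorem kk_ker {m : ℕ} (h : m = 8 ∨ m = 97) : toU (kk m) = 1 := by
  obtain ⟨c1, c2, -, -⟩ := com_ok
  rw [toU_val]
  have hv : ((toH (kk m) : Fi22Cert.U62Act.Hsub) : Fi22Cert.pres.Grp) = M22U.Cent.el (comW (rW m)) := by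
    show toFi ((kk m : overU) : Fi22SixCert.pres.Grp) = _
    rw [kk_val h, toFi_up]
  rcases h with rfl | rfl
  · have e := triv_spec c1
    rw [el_append, show M22U.Cent.el [0] = Fi22Cert.U62Act.tA from el_zero, mul_eq_one_iff_eq_inv,
      inv_eq_of_mul_eq_one_left Fi22Cert.SixLift.tA_sq] at e
    rw [show toH (kk 8) = Fi22Cert.U62Act.cen from Subtype.ext (hv.trans (e.trans Fi22Cert.U62Act.cen_val.symm))]
    exact Fi22Cert.U62Act.cen_mem_ker
  · rw [show toH (kk 97) = 1 from Subtype.ext (hv.trans (triv_spec c2)), map_one]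

theorem xh_Q3 : toU xh ∈ Q3 := by
  refine ⟨Nat.xor (Nat.xor (cd 2) (cd 4)) (cd 5), xor_lt (xor_lt (cd_lt (by norm_num)) (cd_lt (by norm_num)))
    (cd_lt (by norm_num)), code_misc.2.2.2.2.2, ?_⟩
  rw [toU_val]
  refine congrArg Fi22Cert.U62Act.theta (Subtype.ext ?_)
  show toFi (up xW) = eG _
  rw [toFi_up, el_xW, (mm_code (show 2 < 22 by norm_num)).2, (mm_code (show 4 < 22 by norm_num)).2,
    (mm_code (show 5 < 22 by norm_num)).2, eG_mul, eG_mul]
  rfl

theorem cube_moves : movesOK (k1W ++ k1W ++ k1W) 8 = true ∧ movesOK (k2W ++ k2W ++ k2W) 1 = true ∧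
    movesOK ((k1W ++ k1W ++ k1W) ++ (k2W ++ k2W ++ k2W)) 1 = true := by decide +kernel

theorem up_ne {w : List ℕ} {u : ℕ} (h : movesOK w u = true) : up w ≠ 1 := by
  simp only [movesOK, Bool.and_eq_true, Bool.not_eq_true'] at h
  obtain ⟨⟨hl, hu⟩, hne⟩ := h
  intro e
  have h0 := congrArg toFi23 e
  rw [map_one, up, toFi23, SpiderCert.homOf_prod,
    show List.map (fun x => Fi23Cert.pres.gen (Fi22SixCert.upL x)) w =
      (w.map Fi22SixCert.upL).map Fi23Cert.pres.gen by rw [List.map_map]; rfl] at h0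
  have h' := congrArg (fun p => ((Fi23Cert.rep.hom p ⟨u, Nat.le_of_ble_eq_true hu⟩ : Fin Fi23Cert.rep.P.n) : ℕ)) h0
  simp only [map_one, Equiv.Perm.one_apply] at h'
  rw [ev_eq Fi23Cert.rep.valid Fi23Cert.pres.gen Fi23Cert.rep.hom Fi23Cert.rep.hom_gen
    (fun x hx => lettersOK_spec hl (List.mem_singleton_self _) hx)] at h'
  have hb : Nat.beq (ev Fi23Cert.RepA.rows 10 (w.map Fi22SixCert.upL) u) u = true := by
    rw [show ev Fi23Cert.RepA.rows 10 (w.map Fi22SixCert.upL) u = u from h']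
    exact Nat.beq_refl _
  rw [hb] at hne
  exact Bool.noConfusion hne

/-- the two generators of the even part -/
noncomputable def jj (m : ℕ) : overU := kk m * kk m * kk m

theorem jj_ne : jj 8 ≠ 1 ∧ jj 97 ≠ 1 ∧ jj 8 * jj 97 ≠ 1 := by
  obtain ⟨a, b, c⟩ := cube_moves
  have ha := kk_val (Or.inl (rfl : (8:ℕ) = 8))
  have hb := kk_val (m := 97) (Or.inr rfl)
  refine ⟨fun e => up_ne a ?_, fun e => up_ne b ?_, fun e => up_ne c ?_⟩ <;>
  · have e' := congrArg Subtype.val e
    simp only [jj, Subgroup.coe_mul, Subgroup.coe_one, ha, hb] at e'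
    simpa only [k1W, k2W, up, List.map_append, List.prod_append] using e'

theorem kernel_arith : (∀ a : ZMod 3 × ZMod 2 × ZMod 2, a + a + a + (a + a + a) = 0) ∧
    (Finset.univ.filter fun a : ZMod 3 × ZMod 2 × ZMod 2 => a + a = 0).card = 4 := by decide +kernel

theorem even_part {z : overU} (hz : toU z = 1) :
    z * z * z = 1 ∨ z * z * z = jj 8 ∨ z * z * z = jj 97 ∨ z * z * z = jj 8 * jj 97 := by
  classical
  obtain ⟨eK⟩ := U62CovCert.kernel_equiv
  let A := ZMod 3 × ZMod 2 × ZMod 2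
  let F : Finset A := Finset.univ.filter fun a => a + a = 0
  have hj : ∀ {m : ℕ}, m = 8 ∨ m = 97 → toU (jj m) = 1 := fun h => by
    rw [jj, map_mul, map_mul, kk_ker h, one_mul, one_mul]
  let ι : toU.ker → A := fun v => Multiplicative.toAdd (eK v)
  have hι : ∀ v w : toU.ker, ι (v * w) = ι v + ι w := fun v w => by simp [ι]
  have hinj : Function.Injective ι := fun v w h => eK.injective (Multiplicative.toAdd.injective h)
  have hι1 : ι 1 = 0 := by simp [ι]
  let k8 : toU.ker := ⟨kk 8, kk_ker (Or.inl rfl)⟩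
  let k97 : toU.ker := ⟨kk 97, kk_ker (Or.inr rfl)⟩
  let j8 : toU.ker := ⟨jj 8, hj (Or.inl rfl)⟩
  let j97 : toU.ker := ⟨jj 97, hj (Or.inr rfl)⟩
  have hcube : ∀ v : toU.ker, ι (v * v * v) ∈ F := fun v => by
    refine Finset.mem_filter.mpr ⟨Finset.mem_univ _, ?_⟩
    rw [hι, hι]
    exact kernel_arith.1 _
  have m8 : ι j8 ∈ F := hcube k8
  have m97 : ι j97 ∈ F := hcube k97
  have mm' : ι (j8 * j97) ∈ F := by
    refine Finset.mem_filter.mpr ⟨Finset.mem_univ _, ?_⟩
    rw [hι]
    have a := (Finset.mem_filter.mp m8).2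
    have b := (Finset.mem_filter.mp m97).2
    rw [add_add_add_comm, a, b, add_zero]
  have h0 : ι 1 ∈ F := Finset.mem_filter.mpr ⟨Finset.mem_univ _, by rw [hι1, add_zero]⟩
  obtain ⟨n1, n2, n3⟩ := jj_ne
  have d12 : j8 ≠ j97 := fun e => n3 (by
    have h := (Finset.mem_filter.mp m8).2
    rw [← hι, ← hι1] at h
    have h' := congrArg Subtype.val (hinj h)
    have e' : jj 8 = jj 97 := congrArg Subtype.val e
    rw [← e']
    exact h')
  have d4 : ({ι 1, ι j8, ι j97, ι (j8 * j97)} : Finset A).card = 4 := by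
    have ne : ∀ v w : toU.ker, v ≠ w → ι v ≠ ι w := fun _ _ h e => h (hinj e)
    have e1 : ι 1 ∉ ({ι j8, ι j97, ι (j8 * j97)} : Finset A) := by
      simp only [Finset.mem_insert, Finset.mem_singleton, not_or]
      exact ⟨ne _ _ fun e => n1 (congrArg Subtype.val e.symm), ne _ _ fun e => n2 (congrArg Subtype.val e.symm),
        ne _ _ fun e => n3 (congrArg Subtype.val e.symm)⟩
    have e2 : ι j8 ∉ ({ι j97, ι (j8 * j97)} : Finset A) := by
      simp only [Finset.mem_insert, Finset.mem_singleton, not_or]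
      exact ⟨ne _ _ d12, ne _ _ fun e => n2 (congrArg Subtype.val (left_eq_mul.mp e))⟩
    have e3 : ι j97 ≠ ι (j8 * j97) := ne _ _ fun e => n1 (congrArg Subtype.val (right_eq_mul.mp e))
    rw [Finset.card_insert_of_notMem e1, Finset.card_insert_of_notMem e2, Finset.card_pair e3]
  have hF : ({ι 1, ι j8, ι j97, ι (j8 * j97)} : Finset A) = F := by
    refine Finset.eq_of_subset_of_card_le ?_ (d4.symm ▸ kernel_arith.2.le)
    intro a ha
    simp only [Finset.mem_insert, Finset.mem_singleton] at ha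
    rcases ha with rfl | rfl | rfl | rfl
    exacts [h0, m8, m97, mm']
  have := hcube ⟨z, hz⟩
  rw [← hF] at this
  simp only [Finset.mem_insert, Finset.mem_singleton] at this
  rcases this with h | h | h | h
  · exact Or.inl (congrArg Subtype.val (hinj h))
  · exact Or.inr (Or.inl (congrArg Subtype.val (hinj h)))
  · exact Or.inr (Or.inr (Or.inl (congrArg Subtype.val (hinj h))))
  · exact Or.inr (Or.inr (Or.inr (congrArg Subtype.val (hinj h))))

/-- the lifts of some involution of the third kind are conjugate -/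
theorem fusion (hq : Function.Surjective q) (hk : Nat.card q.ker = 2) (hc : q.ker ≤ Subgroup.center C)
    (hperf : commutator C = ⊤) :
    ∃ x h : C, q x ∈ Q3 ∧ h * x * h⁻¹ * x⁻¹ ≠ 1 ∧ q (h * x * h⁻¹ * x⁻¹) = 1 := by
  obtain ⟨f, hf, hqf⟩ := cover_map hq hc hperf
  have hqf' : ∀ v, q (f v) = toU v := fun v => DFunLike.congr_fun hqf v
  obtain ⟨m, hm, hne⟩ : ∃ m, (m = 8 ∨ m = 97) ∧ f (kk m) ≠ 1 := by
    by_contra hno
    push Not at hno
    have hjm : ∀ {m : ℕ}, m = 8 ∨ m = 97 → f (jj m) = 1 := fun h => by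
      rw [jj, map_mul, map_mul, hno _ h, one_mul, one_mul]
    have hall : ∀ z, toU z = 1 → f z = 1 := by
      intro z hz
      have hz2 : f z * f z = 1 := TSULift.ker_sq hk (by rw [MonoidHom.mem_ker, hqf', hz])
      have hz3 : f z * f z * f z = 1 := by
        rw [← map_mul, ← map_mul]
        rcases even_part hz with e | e | e | e <;> rw [e]
        · exact map_one f
        · exact hjm (Or.inl rfl)
        · exact hjm (Or.inr rfl)
        · rw [map_mul, hjm (Or.inl rfl), hjm (Or.inr rfl), one_mul]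
      rwa [hz2, one_mul] at hz3
    obtain ⟨a, b, hab, -⟩ := Nat.card_eq_two_iff.mp hk
    have hker : ∀ v : q.ker, v = 1 := fun v => by
      obtain ⟨z, hz⟩ := hf (v : C)
      exact Subtype.ext (by rw [← hz, hall z (by rw [← hqf', hz]; exact v.2)]; rfl)
    exact hab ((hker a).trans (hker b).symm)
  refine ⟨f xh, f (gh m), by rw [hqf']; exact xh_Q3, ?_, ?_⟩
  · rw [← map_inv, ← map_inv, ← map_mul, ← map_mul, ← map_mul]
    exact hne
  · rw [← map_inv f, ← map_inv f, ← map_mul f, ← map_mul f, ← map_mul f, hqf']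
    exact kk_ker hm

end Cfsg.Agent.Spor.TSU
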