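import Cfsg.Agent.Lib.Spor.TSUModel

/-!
Every involution of the centraliser of the distinguished transposition of Fi22 has a conjugate under that
centraliser in the elementary abelian subgroup of order 2^10.
-/

set_option autoImplicit false
set_option maxRecDepth 100000

namespace Cfsg.Agent.Spor.TSU

open Cfsg.Agent.Spor.CC Cfsg.Agent.Spor.Fi22Cert Cfsg.Agent.Spor.Fi22Cert.U62Act
open Cfsg.Agent.Spor.M22U Cfsg.Agent.Spor.M22U.Cent
open Cfsg.Agent.Lead.Fi22Two Cfsg.Agent.Lead.Fi22Two.Syl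

/-- an involution of the centraliser is a product of commuting members commuting with the transposition -/
theorem members {y : pres.Grp} (hy : y ∈ Hsub) (hy2 : y * y = 1) :
    ∃ S : Set pres.Grp, S ⊆ Fischer.Dc ∧ tA ∈ S ∧ (∀ a ∈ S, ∀ b ∈ S, Commute a b) ∧ y ∈ Subgroup.closure S := by
  obtain ⟨eU⟩ := SUSix.range_equiv
  let ψ : Hsub →* Cfsg.PSU 6 SpFour.F4 2 := eU.toMonoidHom.comp theta
  have hψs : Function.Surjective ψ := eU.surjective.comp theta_surjective
  have hψk : ∀ v : Hsub, ψ v = 1 → v ∈ Subgroup.center Hsub := fun v hv => by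
    rw [center_eq]
    exact eU.map_eq_one_iff.mp hv
  haveI : Fact (Nat.Prime 2) := ⟨Nat.prime_two⟩
  haveI := card_Hsub.1
  have hzx : ∀ v : Hsub, ψ v = 1 → (v : pres.Grp) = 1 ∨ (v : pres.Grp) = tA := by
    intro v hv
    have hmem : v ∈ theta.ker := eU.map_eq_one_iff.mp hv
    by_cases h1 : v = 1
    · exact Or.inl (by rw [h1]; rfl)
    · right
      have hgen := zpowers_eq_top_of_prime_card ker_card
        (show (⟨cen, cen_mem_ker⟩ : theta.ker) ≠ 1 from fun e =>
          cen_ne_one (congrArg Subtype.val (congrArg Subtype.val e)))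
      obtain ⟨n, hn⟩ := Subgroup.mem_zpowers_iff.mp
        (show (⟨v, hmem⟩ : theta.ker) ∈ Subgroup.zpowers (⟨cen, cen_mem_ker⟩ : theta.ker) by
          rw [hgen]; exact Subgroup.mem_top _)
      have hn' : (v : pres.Grp) = pres.gen 0 ^ n := by
        have := congrArg (fun k : theta.ker => ((k : Hsub) : pres.Grp)) hn
        simp only [SubgroupClass.coe_zpow, cen_val] at this
        exact this.symm
      have hsq : pres.gen 0 ^ (2 : ℤ) = 1 := by rw [zpow_two, Pres.gen_sq pres_ok]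
      rcases Int.even_or_odd' n with ⟨m, rfl | rfl⟩
      · exfalso
        apply h1
        rw [zpow_mul, hsq, one_zpow] at hn'
        exact Subtype.ext hn'
      · rw [hn', zpow_add, zpow_mul, hsq, one_zpow, one_mul, zpow_one]
  have hD : ∀ g : pres.Grp, ∀ d ∈ Fischer.Dc, g * d * g⁻¹ ∈ Fischer.Dc := Fischer.three.2.1
  have himg : ∀ k < 693, ∃ u : Hsub, ((u : pres.Grp) ∈ Fischer.Dc ∧ (u : pres.Grp) ≠ tA) ∧ ψ u = Pts.ptr k := by
    let y0 : Hsub := ⟨mm 1, EE_le (mem_EE (by norm_num))⟩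
    have hy0D : (y0 : pres.Grp) ∈ Fischer.Dc := (dp (bp 1)).2
    have hy0ne : (y0 : pres.Grp) ≠ tA := by
      rw [← mm_zero]; exact mm_ne (by norm_num) (by norm_num) (by norm_num)
    have hne1 : ψ y0 ≠ 1 := fun h => by
      rcases hzx y0 h with h | h
      · have := Fischer.three.1.1 _ hy0D
        rw [h, orderOf_one] at this
        omega
      · exact hy0ne h
    obtain ⟨j, hj, hje⟩ : ∃ j, j < 693 ∧ ψ y0 = Pts.ptr j := by
      rcases Invol.dichotomy (x := ψ y0) (by
        rw [← map_mul, show y0 * y0 = 1 from Subtype.ext (mm_sq 1), map_one]) hne1 with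
        ⟨u, hu0, hu, hue⟩ | ⟨q, n2, n3⟩
      · obtain ⟨hl', hp'⟩ := Pts.exists_ptr hu0 hu
        exact ⟨_, hl', hue.trans hp'⟩
      · exfalso
        obtain ⟨g, rfl⟩ := hψs q
        rw [← map_inv, ← map_mul, ← map_mul, ← map_mul, ← map_pow] at n2 n3
        rcases Fischer.three.1.2 _ hy0D _ (hD (g : pres.Grp) _ hy0D) with h | h
        · exact n2 ((congrArg ψ (Subtype.ext h)).trans (map_one ψ))
        · exact n3 ((congrArg ψ (Subtype.ext h)).trans (map_one ψ))
    intro k hk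
    obtain ⟨w1, hw1, hj1⟩ := Pts.from_first hj
    obtain ⟨w2, hw2, hk2⟩ := Pts.from_first hk
    have hu := below_append hw2 (below_rev hw1)
    obtain ⟨g, hg⟩ := hψs (Pts.pw (w2 ++ w1.reverse))
    have hga : (g : pres.Grp) * tA * (g : pres.Grp)⁻¹ = tA := mul_inv_eq_iff_eq_mul.mpr (mem_Hsub.mp g.2)
    refine ⟨g * y0 * g⁻¹, ⟨hD _ _ hy0D, fun h => hy0ne (mul_left_cancel (mul_right_cancel
      ((show (g : pres.Grp) * y0 * (g : pres.Grp)⁻¹ = tA from h).trans hga.symm)))⟩, ?_⟩
    rw [map_mul, map_mul, map_inv, hg, hje, Pts.pw_conj hu hj, pev_append, ← hj1,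
      pev_rev hw1 (gpt_lt (by norm_num)), hk2]
  choose! Y hYD hYψ using himg
  set y' : Hsub := ⟨y, hy⟩
  obtain ⟨l, -, -, hllt, hlprod, hlorth⟩ :=
    Peel.points (x := ψ y') (by rw [← map_mul, show y' * y' = 1 from Subtype.ext hy2, map_one])
  have hYsq : ∀ k ∈ l, Y k * Y k = 1 := fun k hk =>
    Subtype.ext (Spor.mul_self_of_order_two (Fischer.three.1.1 _ (hYD k (hllt k hk)).1))
  have hYc : ∀ j ∈ l, ∀ k ∈ l, Commute (Y j : pres.Grp) (Y k : pres.Grp) := by
    intro j hj k hk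
    have hcψ : Commute (ψ (Y j)) (ψ (Y k)) := by
      rw [hYψ j (hllt j hj), hYψ k (hllt k hk), Pts.ptr_commute (hllt j hj) (hllt k hk)]
      exact hlorth j hj k hk
    have hab : Commute (Y j) (Y k) ∨ Y j * Y k * Y j = Y k * Y j * Y k := by
      rcases Spor.commute_or_braid Fischer.three.1 (hYD j (hllt j hj)).1 (hYD k (hllt k hk)).1 with h | h
      · exact Or.inl (Subtype.ext h.eq)
      · exact Or.inr (Subtype.ext h)
    exact congrArg Subtype.val (Norm.commute_lift hψk (hYsq j hj) (hYsq k hk) hab hcψ).eq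
  refine ⟨insert tA {a | ∃ k ∈ l, a = (Y k : pres.Grp)}, ?_, Set.mem_insert _ _, ?_, ?_⟩
  · rintro a (rfl | ⟨k, hk, rfl⟩)
    · exact isConj_iff.mpr ⟨1, by group⟩
    · exact (hYD k (hllt k hk)).1
  · rintro a (rfl | ⟨j, hj, rfl⟩) b (rfl | ⟨k, hk, rfl⟩)
    · exact Commute.refl _
    · exact (mem_Hsub.mp (Y k).2).symm
    · exact mem_Hsub.mp (Y j).2
    · exact hYc j hj k hk
  · set T := insert tA {a | ∃ k ∈ l, a = (Y k : pres.Grp)}
    have hψp : ψ (((l.map Y).prod)⁻¹ * y') = 1 := by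
      rw [map_mul, map_inv, map_list_prod, List.map_map,
        show l.map (⇑ψ ∘ Y) = l.map Pts.ptr from List.map_congr_left fun k hk => hYψ k (hllt k hk),
        ← hlprod, inv_mul_cancel]
    have hp : (((l.map Y).prod : Hsub) : pres.Grp) ∈ Subgroup.closure T := by
      show Hsub.subtype _ ∈ _
      rw [map_list_prod, List.map_map]
      refine list_prod_mem fun a ha => ?_
      obtain ⟨k, hk, rfl⟩ := List.mem_map.mp ha
      exact Subgroup.subset_closure (Or.inr ⟨k, hk, rfl⟩)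
    have hq : ((((l.map Y).prod)⁻¹ * y' : Hsub) : pres.Grp) ∈ Subgroup.closure T := by
      rcases hzx _ hψp with h | h <;> rw [h]
      · exact one_mem _
      · exact Subgroup.subset_closure (Or.inl rfl)
    have := mul_mem hp hq
    rwa [← Subgroup.coe_mul, mul_inv_cancel_left] at this

theorem invol_conj {y : pres.Grp} (hy : y ∈ Hsub) (hy2 : y * y = 1) :
    ∃ h : pres.Grp, h * tA * h⁻¹ = tA ∧ h * y * h⁻¹ ∈ EE := by
  obtain ⟨S, hSD, hSA, hcom, hyS⟩ := members hy hy2
  set V := Subgroup.closure S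
  have hVc : ∀ x ∈ V, ∀ z ∈ V, Commute x z := fun x hx z hz => by
    have hI := Subgroup.isMulCommutative_closure (k := S) fun a ha b hb => (hcom a ha b hb).eq
    exact congrArg Subtype.val (hI.is_comm.comm ⟨x, hx⟩ ⟨z, hz⟩)
  have hV2 : ∀ x ∈ V, x * x = 1 := by
    intro x hx
    induction hx using Subgroup.closure_induction with
    | mem a ha => exact Spor.mul_self_of_order_two (Fischer.three.1.1 a (hSD ha))
    | one => exact one_mul 1
    | mul a b ha hb ea eb =>
      calc a * b * (a * b) = a * (b * a) * b := by group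
        _ = a * (a * b) * b := by rw [(hVc a ha b hb).eq]
        _ = (a * a) * (b * b) := by group
        _ = 1 := by rw [ea, eb, one_mul]
    | inv a _ ea => rw [← mul_inv_rev, ea, inv_one]
  obtain ⟨g, hg⟩ := into_SY (Q := V) fun x =>
    ⟨1, Subtype.ext (by rw [pow_one, SubgroupClass.coe_pow, pow_two, hV2 _ x.2, Subgroup.coe_one])⟩
  have hin : ∀ x ∈ V, g * x * g⁻¹ ∈ EE := by
    intro x hx
    induction hx using Subgroup.closure_induction with
    | mem a ha =>
      obtain ⟨i, hi, e⟩ := member_of (Fischer.three.2.1 g a (hSD ha)) (hg a (Subgroup.subset_closure ha))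
      exact e ▸ mem_EE hi
    | one => simp [one_mem]
    | mul a b _ _ ea eb =>
      rw [show g * (a * b) * g⁻¹ = (g * a * g⁻¹) * (g * b * g⁻¹) by group]
      exact mul_mem ea eb
    | inv a _ ea =>
      rw [show g * a⁻¹ * g⁻¹ = (g * a * g⁻¹)⁻¹ by group]
      exact inv_mem ea
  obtain ⟨i, hi, e⟩ := member_of (Fischer.three.2.1 g tA (hSD hSA)) (hg tA (Subgroup.subset_closure hSA))
  obtain ⟨c, hc⟩ := isConj_iff.mp (show IsConj tA (mm i) from (dp (bp i)).2)
  obtain ⟨n, hn, hnc⟩ := correct (S := {mm i}) (g := c⁻¹) (by rintro _ rfl; exact mem_EE hi)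
    (by rintro _ rfl; rw [← hc, show c⁻¹ * (c * tA * c⁻¹) * c⁻¹⁻¹ = tA by group]; exact tA_mem)
  have h1 : n * mm i * n⁻¹ = tA := by
    rw [hnc _ rfl, ← hc]
    group
  refine ⟨n * g, ?_, ?_⟩
  · rw [show n * g * tA * (n * g)⁻¹ = n * (g * tA * g⁻¹) * n⁻¹ by group, e, h1]
  · rw [show n * g * y * (n * g)⁻¹ = n * (g * y * g⁻¹) * n⁻¹ by group]
    exact hn.mem (hin y hyS)

end Cfsg.Agent.Spor.TSU
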