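import Cfsg.Agent.Lib.Spor.TSUInvol
import Cfsg.Agent.Lib.Spor.CoverUnitarySix
import Cfsg.Agent.Lib.Spor.M22UInvol

/-!
The elementary abelian subgroup of order 2^9 of PSU(6,2) on 693 points: its three kinds of involutions,
the transitivity of its normaliser on each kind, and square roots for two of them.
-/

set_option autoImplicit false
set_option maxRecDepth 100000

namespace Cfsg.Agent.Spor.TSU

open Cfsg.Agent.Spor.CC Cfsg.Agent.Spor.Fi22Cert Cfsg.Agent.Spor.Fi22Cert.U62Act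
open Cfsg.Agent.Spor.M22U Cfsg.Agent.Spor.M22U.Cent
open Cfsg.Agent.Lead.Fi22Two Cfsg.Agent.Lead.Fi22Two.Syl
open TSULift (Elem)

/-- the group on 693 points -/
abbrev RR : Subgroup (Equiv.Perm (Fin 693)) := SUSix.uperm.range

theorem finHsub : Finite Hsub := card_Hsub.1

theorem finRR : Finite RR := inferInstance

theorem eG_Hsub (c : ℕ) : eG c ∈ Hsub := mem_Hsub.mpr (by
  rw [← mm_zero]; exact (en_comm_mm c (show 0 < 22 by norm_num) 10 le_rfl).eq)

/-- the image of a code -/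
noncomputable def pr (c : ℕ) : RR := theta ⟨eG c, eG_Hsub c⟩

theorem pr_mul (a b : ℕ) : pr a * pr b = pr (Nat.xor a b) := by
  rw [pr, pr, ← map_mul]
  exact congrArg theta (Subtype.ext (eG_mul a b))

theorem eG_one : eG 1 = tA := by
  rw [← mm_zero, (mm_code (show 0 < 22 by norm_num)).2]
  exact congrArg eG code_misc.1.symm

theorem pr_code {i : ℕ} (hi : i < 22) : pr (cd i) = theta ⟨mm i, EE_le (mem_EE hi)⟩ :=
  congrArg theta (Subtype.ext (mm_code hi).2.symm)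

theorem pr_sq (a : ℕ) : pr a * pr a = 1 := by
  rw [pr, ← map_mul, show (⟨eG a, eG_Hsub a⟩ : Hsub) * ⟨eG a, eG_Hsub a⟩ = 1 from Subtype.ext (eG_sq a), map_one]

theorem theta_ker {v : Hsub} (hv : theta v = 1) : (v : pres.Grp) = 1 ∨ (v : pres.Grp) = tA := by
  haveI := finHsub
  obtain ⟨a, b, hab, huniv⟩ := Nat.card_eq_two_iff.mp ker_card
  have h1 : ∀ r : theta.ker, r = a ∨ r = b := fun r => by
    have : r ∈ ({a, b} : Set theta.ker) := huniv ▸ Set.mem_univ r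
    simpa using this
  have hc : (cen : pres.Grp) = tA := cen_val
  have hne : (⟨cen, cen_mem_ker⟩ : theta.ker) ≠ 1 := fun e => cen_ne_one (congrArg (fun r : theta.ker => ((r : Hsub) : pres.Grp)) e)
  rcases h1 ⟨v, hv⟩ with e | e <;> rcases h1 1 with e1 | e1 <;> rcases h1 ⟨cen, cen_mem_ker⟩ with e2 | e2
  all_goals first
    | exact absurd (e2.trans e1.symm) hne
    | exact Or.inl (congrArg (fun r : theta.ker => ((r : Hsub) : pres.Grp)) (e.trans e1.symm))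
    | exact Or.inr ((congrArg (fun r : theta.ker => ((r : Hsub) : pres.Grp)) (e.trans e2.symm)).trans hc)

theorem theta_tA : theta ⟨tA, EE_le tA_mem⟩ = 1 := by
  rw [show (⟨tA, EE_le tA_mem⟩ : Hsub) = cen from Subtype.ext cen_val.symm]
  exact cen_mem_ker

theorem pr_one : pr 1 = 1 := by
  rw [pr, show (⟨eG 1, eG_Hsub 1⟩ : Hsub) = ⟨tA, EE_le tA_mem⟩ from Subtype.ext eG_one, theta_tA]

theorem pr_zero : pr 0 = 1 := by
  rw [pr, show (⟨eG 0, eG_Hsub 0⟩ : Hsub) = 1 from Subtype.ext eG_zero, map_one]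

theorem eqm_iff {a b : ℕ} : eqm a b = true ↔ a = b ∨ a = Nat.xor b 1 := by simp [eqm]

theorem pr_eqm {a b : ℕ} (ha : a < 1024) (hb : b < 1024) : pr a = pr b ↔ eqm a b = true := by
  rw [eqm_iff]
  constructor
  · intro h
    have hk : theta ((⟨eG b, eG_Hsub b⟩ : Hsub)⁻¹ * ⟨eG a, eG_Hsub a⟩) = 1 := by
      rw [map_mul, map_inv]
      exact inv_mul_eq_one.mpr h.symm
    rcases theta_ker hk with e | e
    · exact Or.inl (eG_inj ha hb (inv_mul_eq_one.mp e).symm)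
    · refine Or.inr (eG_inj ha (xor_lt hb (by norm_num)) ?_)
      rw [← eG_mul, eG_one]
      exact inv_mul_eq_iff_eq_mul.mp e
  · rintro (rfl | rfl)
    · rfl
    · rw [← pr_mul, pr_one, mul_one]

theorem cd_lt {i : ℕ} (hi : i < 22) : cd i < 1024 := code_misc.2.1 i hi

theorem mem_others {i : ℕ} : i ∈ others ↔ i ≠ 0 ∧ i < 22 := by
  simp only [others, List.mem_map, List.mem_range]
  exact ⟨fun ⟨a, h, e⟩ => by omega, fun h => ⟨i - 1, by omega, by omega⟩⟩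

theorem mem_pairs {p : ℕ × ℕ} : p ∈ pairs ↔ p.1 ∈ others ∧ p.2 ∈ others ∧ p.1 < p.2 := by
  simp only [pairs, List.mem_flatMap, List.mem_map, List.mem_filter]
  constructor
  · rintro ⟨i, hi, j, ⟨hj, hij⟩, rfl⟩
    exact ⟨hi, hj, Nat.le_of_ble_eq_true hij⟩
  · exact fun ⟨h1, h2, h3⟩ => ⟨p.1, h1, p.2, ⟨h2, Nat.ble_eq_true_of_le h3⟩, rfl⟩

theorem cp_lt {p : ℕ × ℕ} (hp : p ∈ pairs) : cp p < 1024 :=
  xor_lt (cd_lt (mem_others.mp (mem_pairs.mp hp).1).2) (cd_lt (mem_others.mp (mem_pairs.mp hp).2.1).2)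

/-- the member classes -/
noncomputable def Q1 : Set RR := {x | ∃ i ∈ others, x = pr (cd i)}

/-- the pair classes -/
noncomputable def Q2 : Set RR := {x | ∃ p ∈ pairs, x = pr (cp p)}

/-- the remaining classes -/
noncomputable def Q3 : Set RR := {x | ∃ c < 1024, rest c = true ∧ x = pr c}

/-- the elementary abelian subgroup -/
noncomputable def AR : Subgroup RR := (EE.subgroupOf Hsub).map theta

theorem mem_AR {x : RR} : x ∈ AR ↔ ∃ c < 1024, x = pr c := by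
  constructor
  · rintro ⟨v, hv, rfl⟩
    obtain ⟨c, hc, e⟩ := Subgroup.mem_subgroupOf.mp hv
    exact ⟨c, hc, congrArg theta (Subtype.ext e)⟩
  · rintro ⟨c, hc, rfl⟩
    exact ⟨_, Subgroup.mem_subgroupOf.mpr ⟨c, hc, rfl⟩, rfl⟩

theorem card_AR : Nat.card AR = 512 := by
  haveI := finHsub
  let B := EE.subgroupOf Hsub
  have hle : theta.ker ≤ B := by
    intro v hv
    rw [Subgroup.mem_subgroupOf]
    rcases theta_ker hv with h | h <;> rw [h]
    exacts [one_mem _, tA_mem]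
  have h1 : B = AR.comap theta := by
    rw [AR, Subgroup.comap_map_eq, sup_eq_left.mpr hle]
  have h2 : Nat.card B = 1024 := (Nat.card_congr (Subgroup.subgroupOfEquivOfLe EE_le).toEquiv).trans card_EE
  rw [h1, TSULift.card_comap theta_surjective, ker_card] at h2
  exact Nat.eq_of_mul_eq_mul_left (show 0 < 2 by norm_num) (h2.trans (show 1024 = 2 * 512 by norm_num))

theorem parts (x : RR) (hx : x ∈ AR) : x = 1 ∨ x ∈ Q1 ∨ x ∈ Q2 ∨ x ∈ Q3 := by
  obtain ⟨c, hc, rfl⟩ := mem_AR.mp hx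
  by_cases h0 : eqm c 0 = true
  · exact Or.inl (((pr_eqm hc (by norm_num)).mpr h0).trans pr_zero)
  by_cases h1 : in1 c = true
  · obtain ⟨i, hi, h⟩ := List.any_eq_true.mp h1
    exact Or.inr (Or.inl ⟨i, hi, (pr_eqm hc (cd_lt (mem_others.mp hi).2)).mpr h⟩)
  by_cases h2 : in2 c = true
  · obtain ⟨p, hp, h⟩ := List.any_eq_true.mp h2
    exact Or.inr (Or.inr (Or.inl ⟨p, hp, (pr_eqm hc (cp_lt hp)).mpr h⟩))
  exact Or.inr (Or.inr (Or.inr ⟨c, hc, by simp [rest, h0, h1, h2], rfl⟩))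

theorem rest_spec {c : ℕ} (h : rest c = true) (hc : c < 1024) :
    pr c ≠ 1 ∧ pr c ∉ Q1 ∧ pr c ∉ Q2 := by
  simp only [rest, Bool.and_eq_true, Bool.not_eq_true'] at h
  obtain ⟨⟨h0, h1⟩, h2⟩ := h
  refine ⟨fun e => ?_, ?_, ?_⟩
  · rw [(pr_eqm hc (by norm_num)).mp (e.trans pr_zero.symm)] at h0
    exact Bool.noConfusion h0
  · rintro ⟨i, hi, e⟩
    rw [show in1 c = true from List.any_eq_true.mpr ⟨i, hi, (pr_eqm hc (cd_lt (mem_others.mp hi).2)).mp e⟩] at h1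
    exact Bool.noConfusion h1
  · rintro ⟨p, hp, e⟩
    rw [show in2 c = true from List.any_eq_true.mpr ⟨p, hp, (pr_eqm hc (cp_lt hp)).mp e⟩] at h2
    exact Bool.noConfusion h2

theorem pair_spec {p : ℕ × ℕ} (hp : p ∈ pairs) :
    pr (cp p) ≠ 1 ∧ pr (cp p) ∉ Q1 ∧ ∀ q ∈ pairs, pr (cp p) = pr (cp q) → p = q := by
  have h := List.all_eq_true.mp two_all p hp
  simp only [twoOK, Bool.and_eq_true, Bool.not_eq_true', List.all_eq_true, Bool.or_eq_true] at h
  obtain ⟨⟨h0, h1⟩, h2⟩ := h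
  refine ⟨fun e => ?_, ?_, fun q hq e => ?_⟩
  · rw [(pr_eqm (cp_lt hp) (by norm_num)).mp (e.trans pr_zero.symm)] at h0
    exact Bool.noConfusion h0
  · rintro ⟨i, hi, e⟩
    rw [show in1 (cp p) = true from
      List.any_eq_true.mpr ⟨i, hi, (pr_eqm (cp_lt hp) (cd_lt (mem_others.mp hi).2)).mp e⟩] at h1
    exact Bool.noConfusion h1
  · rcases h2 q hq with h' | h'
    · exact Prod.ext (Nat.eq_of_beq_eq_true h'.1) (Nat.eq_of_beq_eq_true h'.2)
    · rw [(pr_eqm (cp_lt hp) (cp_lt hq)).mp e] at h'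
      exact Bool.noConfusion h'

theorem one_spec {i : ℕ} (hi : i ∈ others) :
    pr (cd i) ≠ 1 ∧ ∀ j ∈ others, pr (cd i) = pr (cd j) → i = j := by
  have h := List.all_eq_true.mp one_all i hi
  simp only [oneOK, Bool.and_eq_true, Bool.not_eq_true', List.all_eq_true, Bool.or_eq_true] at h
  have hl := cd_lt (mem_others.mp hi).2
  refine ⟨fun e => ?_, fun j hj e => ?_⟩
  · rw [(pr_eqm hl (by norm_num)).mp (e.trans pr_zero.symm)] at h
    exact Bool.noConfusion h.1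
  · rcases h.2 j hj with h' | h'
    · exact Nat.eq_of_beq_eq_true h'
    · rw [(pr_eqm hl (cd_lt (mem_others.mp hj).2)).mp e] at h'
      exact Bool.noConfusion h'

theorem ncard_Q1 : Q1.ncard = 21 := by
  classical
  have e : Q1 = ((others.map fun i => pr (cd i)).toFinset : Set RR) := by ext x; simp [Q1, eq_comm]
  rw [e, Set.ncard_coe_finset, List.toFinset_card_of_nodup, List.length_map]
  · exact code_misc.2.2.2.1
  · exact List.Nodup.map_on (fun i hi j hj h => (one_spec hi).2 j hj h) (by decide +kernel)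

theorem ncard_Q2 : Q2.ncard = 210 := by
  classical
  have e : Q2 = ((pairs.map fun p => pr (cp p)).toFinset : Set RR) := by ext x; simp [Q2, eq_comm]
  rw [e, Set.ncard_coe_finset, List.toFinset_card_of_nodup, List.length_map]
  · exact code_misc.2.2.1
  · exact List.Nodup.map_on (fun p hp q hq h => (pair_spec hp).2.2 q hq h) (by decide +kernel)

theorem disjoint_parts :
    (1 : RR) ∉ Q1 ∧ (1 : RR) ∉ Q2 ∧ (1 : RR) ∉ Q3 ∧ Disjoint Q1 Q2 ∧ Disjoint Q1 Q3 ∧ Disjoint Q2 Q3 := by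
  refine ⟨?_, ?_, ?_, ?_, ?_, ?_⟩
  · rintro ⟨i, hi, e⟩; exact (one_spec hi).1 e.symm
  · rintro ⟨p, hp, e⟩; exact (pair_spec hp).1 e.symm
  · rintro ⟨c, hc, hr, e⟩; exact (rest_spec hr hc).1 e.symm
  · rw [Set.disjoint_left]; rintro x h1 ⟨p, hp, rfl⟩; exact (pair_spec hp).2.1 h1
  · rw [Set.disjoint_left]; rintro x h1 ⟨c, hc, hr, rfl⟩; exact (rest_spec hr hc).2.1 h1
  · rw [Set.disjoint_left]; rintro x h1 ⟨c, hc, hr, rfl⟩; exact (rest_spec hr hc).2.2 h1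

theorem Q_subset : Q1 ⊆ (AR : Set RR) ∧ Q2 ⊆ (AR : Set RR) ∧ Q3 ⊆ (AR : Set RR) := by
  refine ⟨?_, ?_, ?_⟩
  · rintro _ ⟨i, hi, rfl⟩; exact mem_AR.mpr ⟨_, cd_lt (mem_others.mp hi).2, rfl⟩
  · rintro _ ⟨p, hp, rfl⟩; exact mem_AR.mpr ⟨_, cp_lt hp, rfl⟩
  · rintro _ ⟨c, hc, -, rfl⟩; exact mem_AR.mpr ⟨c, hc, rfl⟩

theorem ncard_Q3 : Q3.ncard = 280 := by
  haveI := finRR
  obtain ⟨h1, h2, h3, d12, d13, d23⟩ := disjoint_parts
  obtain ⟨s1, s2, s3⟩ := Q_subset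
  have e : (AR : Set RR) = insert 1 (Q1 ∪ Q2 ∪ Q3) := by
    ext x
    constructor
    · intro hx
      rcases parts x hx with rfl | h | h | h
      exacts [Or.inl rfl, Or.inr (Or.inl (Or.inl h)), Or.inr (Or.inl (Or.inr h)), Or.inr (Or.inr h)]
    · rintro (rfl | (h | h) | h)
      exacts [one_mem _, s1 h, s2 h, s3 h]
  have hc : (AR : Set RR).ncard = 512 := (Nat.card_coe_set_eq _).symm.trans card_AR
  rw [e, Set.ncard_insert_of_notMem (by simp [h1, h2, h3]) (Set.toFinite _),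
    Set.ncard_union_eq (Set.disjoint_union_left.mpr ⟨d13, d23⟩) (Set.toFinite _) (Set.toFinite _),
    Set.ncard_union_eq d12 (Set.toFinite _) (Set.toFinite _), ncard_Q1, ncard_Q2] at hc
  omega

/-! ### the normaliser -/

/-- conjugate under the normaliser -/
def Rel (x y : RR) : Prop := ∃ r : RR, AR.map (MulAut.conj r).toMonoidHom = AR ∧ r * x * r⁻¹ = y

theorem Rel.symm {x y : RR} : Rel x y → Rel y x := by
  rintro ⟨r, hr, rfl⟩
  refine ⟨r⁻¹, ?_, by group⟩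
  conv_lhs => rw [← hr, Subgroup.map_map]
  rw [show (MulAut.conj r⁻¹).toMonoidHom.comp (MulAut.conj r).toMonoidHom = MonoidHom.id _ from
    MonoidHom.ext fun x => by
      show r⁻¹ * (r * x * r⁻¹) * r⁻¹⁻¹ = x
      group, Subgroup.map_id]

theorem Rel.trans {x y z : RR} : Rel x y → Rel y z → Rel x z := by
  rintro ⟨r, hr, rfl⟩ ⟨s, hs, rfl⟩
  refine ⟨s * r, ?_, by group⟩
  rw [map_mul, show (MulAut.conj s * MulAut.conj r).toMonoidHom =
    (MulAut.conj s).toMonoidHom.comp (MulAut.conj r).toMonoidHom from rfl, ← Subgroup.map_map, hr, hs]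

theorem nrm_Hsub {n : pres.Grp} (h : n * tA * n⁻¹ = tA) : n ∈ Hsub := mem_Hsub.mpr (mul_inv_eq_iff_eq_mul.mp h)

/-- the element of the unitary group of a stabilising normaliser -/
theorem rel_of {n : pres.Grp} (hn : Nrm n) (hA : n * tA * n⁻¹ = tA) :
    ∃ r : RR, AR.map (MulAut.conj r).toMonoidHom = AR ∧
      ∀ v : Hsub, r * theta v * r⁻¹ = theta (⟨n, nrm_Hsub hA⟩ * v * (⟨n, nrm_Hsub hA⟩ : Hsub)⁻¹) := by
  refine ⟨theta ⟨n, nrm_Hsub hA⟩, ?_, fun v => by rw [map_mul, map_mul, map_inv]⟩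
  haveI := finRR
  refine Subgroup.eq_of_le_of_card_ge ?_ (le_of_eq (Subgroup.card_map_of_injective (MulAut.conj (theta ⟨n, nrm_Hsub hA⟩)).injective).symm)
  rintro _ ⟨_, ⟨v, hv, rfl⟩, rfl⟩
  refine ⟨⟨n, nrm_Hsub hA⟩ * v * ⟨n, nrm_Hsub hA⟩⁻¹, ?_, ?_⟩
  · rw [SetLike.mem_coe, Subgroup.mem_subgroupOf]
    exact hn.mem hv
  · rw [map_mul, map_mul, map_inv]
    rfl

theorem rel_pair {i j i' j' : ℕ} (hi : i ∈ others) (hj : j ∈ others) (hi' : i' ∈ others) (hj' : j' ∈ others)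
    (hij : i ≠ j) (hij' : i' ≠ j') :
    ∃ r : RR, AR.map (MulAut.conj r).toMonoidHom = AR ∧ r * pr (cd i) * r⁻¹ = pr (cd i') ∧
      r * pr (cd j) * r⁻¹ = pr (cd j') ∧ ∀ k ∈ others, ∃ k' ∈ others, r * pr (cd k) * r⁻¹ = pr (cd k') := by
  rw [mem_others] at hi hj hi' hj'
  obtain ⟨n, hn, hA, h1, h2⟩ := pairs_move hi.2 hj.2 hi'.2 hj'.2 hi.1 hj.1 hi'.1 hj'.1 hij hij'
  obtain ⟨r, hr, hact⟩ := rel_of hn hA
  refine ⟨r, hr, ?_, ?_, fun k hk => ?_⟩
  · rw [pr_code hi.2, hact, pr_code hi'.2]; exact congrArg theta (Subtype.ext h1)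
  · rw [pr_code hj.2, hact, pr_code hj'.2]; exact congrArg theta (Subtype.ext h2)
  · rw [mem_others] at hk
    obtain ⟨k', hk', e⟩ := member_of (Fischer.three.2.1 n _ (dp (bp k)).2)
      (SS_mono 7 (hn.mem (mem_EE hk.2)))
    have h0 : k' ≠ 0 := fun h => mm_ne hk.2 (show 0 < 22 by norm_num) hk.1 (by
      rw [mm_zero, show mm k = n⁻¹ * (n * mm k * n⁻¹) * n by group,
        show n * mm k * n⁻¹ = mm k' from e, h, mm_zero]
      nth_rewrite 1 [← hA]
      group)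
    exact ⟨k', mem_others.mpr ⟨h0, hk'⟩, by
      rw [pr_code hk.2, hact, pr_code hk']; exact congrArg theta (Subtype.ext e)⟩

theorem trans_Q1 {x y : RR} (hx : x ∈ Q1) (hy : y ∈ Q1) : Rel x y := by
  obtain ⟨i, hi, rfl⟩ := hx
  obtain ⟨i', hi', rfl⟩ := hy
  obtain ⟨j, hj, hij⟩ : ∃ j ∈ others, i ≠ j := by
    by_cases h : i = 1
    · exact ⟨2, mem_others.mpr (by norm_num), by omega⟩
    · exact ⟨1, mem_others.mpr (by norm_num), h⟩
  obtain ⟨j', hj', hij'⟩ : ∃ j ∈ others, i' ≠ j := by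
    by_cases h : i' = 1
    · exact ⟨2, mem_others.mpr (by norm_num), by omega⟩
    · exact ⟨1, mem_others.mpr (by norm_num), h⟩
  obtain ⟨r, hr, h, -⟩ := rel_pair hi hj hi' hj' hij hij'
  exact ⟨r, hr, h⟩

theorem conj_mul3 (r a b : RR) : r * (a * b) * r⁻¹ = (r * a * r⁻¹) * (r * b * r⁻¹) := by group

theorem trans_Q2 {x y : RR} (hx : x ∈ Q2) (hy : y ∈ Q2) : Rel x y := by
  obtain ⟨p, hp, rfl⟩ := hx
  obtain ⟨q, hq, rfl⟩ := hy
  obtain ⟨p1, p2, p3⟩ := mem_pairs.mp hp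
  obtain ⟨q1, q2, q3⟩ := mem_pairs.mp hq
  obtain ⟨r, hr, h1, h2, -⟩ := rel_pair p1 p2 q1 q2 p3.ne q3.ne
  exact ⟨r, hr, by rw [cp, cp, ← pr_mul, ← pr_mul, conj_mul3, h1, h2]⟩

/-- the standard rest class -/
def c152 : ℕ := Nat.xor (Nat.xor (cd 1) (cd 5)) (cd 2)

theorem c152_lt : c152 < 1024 :=
  xor_lt (xor_lt (cd_lt (by norm_num)) (cd_lt (by norm_num))) (cd_lt (by norm_num))

theorem in2_pr {c : ℕ} (hc : c < 1024) (h : in2 c = true) :
    ∃ p ∈ pairs, pr c = pr (cd p.1) * pr (cd p.2) := by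
  obtain ⟨p, hp, e⟩ := List.any_eq_true.mp h
  exact ⟨p, hp, by rw [pr_mul]; exact (pr_eqm hc (cp_lt hp)).mpr e⟩

theorem rel_c152 {x : RR} (hx : x ∈ Q3) : Rel x (pr c152) := by
  obtain ⟨c, hc, hrest, rfl⟩ := hx
  obtain ⟨hne1, hQ1, hQ2⟩ := rest_spec hrest hc
  have hcov : covOK c = true := by
    rcases lt_or_ge c 512 with h | h
    · exact chunk _ _ _ cov0 (Nat.zero_le _) (by omega)
    · exact chunk _ _ _ cov1 h (by omega)
  simp only [covOK, hrest, Bool.not_true, Bool.false_or, List.any_eq_true] at hcov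
  obtain ⟨i, hi, h2⟩ := hcov
  have hil := cd_lt (mem_others.mp hi).2
  obtain ⟨p, hp, he⟩ := in2_pr (xor_lt hc hil) h2
  obtain ⟨p1, p2, p3⟩ := mem_pairs.mp hp
  have hpc : pr c = pr (cd p.1) * pr (cd p.2) * pr (cd i) := by
    rw [← he, ← pr_mul, mul_assoc, pr_sq, mul_one]
  have hcomm : ∀ a b : ℕ, pr a * pr b = pr b * pr a := fun a b => by
    rw [pr_mul, pr_mul, show Nat.xor a b = Nat.xor b a from Nat.xor_comm a b]
  have hi1 : i ≠ p.1 := fun h => hQ1 ⟨p.2, p2, by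
    rw [hpc, h, hcomm (cd p.1) (cd p.2), mul_assoc, pr_sq, mul_one]⟩
  have hi2 : i ≠ p.2 := fun h => hQ1 ⟨p.1, p1, by rw [hpc, h, mul_assoc, pr_sq, mul_one]⟩
  obtain ⟨r, hr, r1, r2, r3⟩ := rel_pair p1 p2 (mem_others.mpr (show (1:ℕ) ≠ 0 ∧ 1 < 22 by norm_num))
    (mem_others.mpr (show (5:ℕ) ≠ 0 ∧ 5 < 22 by norm_num)) p3.ne (by norm_num)
  obtain ⟨k, hk, r4⟩ := r3 i hi
  have hconj : r * pr c * r⁻¹ = pr (cd 1) * pr (cd 5) * pr (cd k) := by
    rw [hpc, conj_mul3, conj_mul3, r1, r2, r4]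
  have hinj : ∀ {a b : RR}, r * a * r⁻¹ = r * b * r⁻¹ → a = b := fun h => (MulAut.conj r).injective h
  have hk1 : k ≠ 1 := fun h => hi1 ((one_spec hi).2 _ p1 (hinj (r4.trans (by rw [h, r1]))))
  have hk5 : k ≠ 5 := fun h => hi2 ((one_spec hi).2 _ p2 (hinj (r4.trans (by rw [h, r2]))))
  have h3 := List.all_eq_true.mp third_all k hk
  simp only [thirdOK, Bool.or_eq_true, List.any_eq_true, List.mem_range, Bool.and_eq_true] at h3
  rcases h3 with ((h3 | h3) | h3) | ⟨m, hm, ⟨⟨m0, m1⟩, m5⟩, m2⟩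
  · exact absurd (Nat.eq_of_beq_eq_true h3) hk1
  · exact absurd (Nat.eq_of_beq_eq_true h3) hk5
  · exfalso
    have hkl := cd_lt (mem_others.mp hk).2
    obtain ⟨q, hq, e⟩ := in2_pr (xor_lt (xor_lt (cd_lt (show 1 < 22 by norm_num))
      (cd_lt (show 5 < 22 by norm_num))) hkl) h3
    rw [← pr_mul, ← pr_mul] at e
    obtain ⟨q1, q2, q3⟩ := mem_pairs.mp hq
    have back : ∀ u ∈ others, ∃ a ∈ others, r⁻¹ * pr (cd u) * r = pr (cd a) := by
      intro u hu
      classical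
      choose F hF1 hF2 using r3
      let Φ : others.toFinset → others.toFinset := fun v =>
        ⟨F v.1 (List.mem_toFinset.mp v.2), List.mem_toFinset.mpr (hF1 v.1 (List.mem_toFinset.mp v.2))⟩
      have hΦ : Function.Injective Φ := fun v w h => Subtype.ext ((one_spec (List.mem_toFinset.mp v.2)).2 _
        (List.mem_toFinset.mp w.2) (hinj (by
          rw [hF2 v.1 (List.mem_toFinset.mp v.2), hF2 w.1 (List.mem_toFinset.mp w.2)]
          exact congrArg (fun z => pr (cd z)) (congrArg Subtype.val h))))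
      obtain ⟨v, hv⟩ := (Finite.injective_iff_surjective.mp hΦ) ⟨u, List.mem_toFinset.mpr hu⟩
      refine ⟨v.1, List.mem_toFinset.mp v.2, ?_⟩
      have := hF2 v.1 (List.mem_toFinset.mp v.2)
      rw [show F v.1 (List.mem_toFinset.mp v.2) = u from congrArg Subtype.val hv] at this
      rw [← this]
      group
    obtain ⟨a, ha, ea⟩ := back q.1 q1
    obtain ⟨b, hb, eb⟩ := back q.2 q2
    have hab : a ≠ b := fun h => q3.ne ((one_spec q1).2 _ q2 (by
      have : r⁻¹ * pr (cd q.1) * r = r⁻¹ * pr (cd q.2) * r := by rw [ea, eb, h]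
      exact mul_left_cancel (mul_right_cancel this)))
    have hval : pr c = pr (cd a) * pr (cd b) := by
      rw [← ea, ← eb, show pr c = r⁻¹ * (r * pr c * r⁻¹) * r by group, hconj, e]
      group
    rcases Nat.lt_or_gt_of_ne hab with h | h
    · exact hQ2 ⟨(a, b), mem_pairs.mpr ⟨ha, hb, h⟩, by rw [hval, cp, ← pr_mul]⟩
    · exact hQ2 ⟨(b, a), mem_pairs.mpr ⟨hb, ha, h⟩, by rw [hval, cp, ← pr_mul, hcomm]⟩
  · have hA : rr m * tA * (rr m)⁻¹ = tA := by
      have := (rr_mm hm (show 0 < 22 by norm_num)).1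
      rwa [Nat.eq_of_beq_eq_true m0, mm_zero] at this
    obtain ⟨t, ht, hact⟩ := rel_of (rr_nrm hm) hA
    have e : ∀ {i : ℕ}, i < 22 → t * pr (cd i) * t⁻¹ = pr (cd (Syl.pim m i)) := fun {i} hi => by
      rw [pr_code hi, hact, pr_code (rr_mm hm hi).2]
      exact congrArg theta (Subtype.ext (rr_mm hm hi).1)
    have hrel : Rel (pr c152) (pr (cd 1) * pr (cd 5) * pr (cd k)) := ⟨t, ht, by
      rw [c152, ← pr_mul, ← pr_mul, conj_mul3, conj_mul3, e (show 1 < 22 by norm_num),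
        e (show 5 < 22 by norm_num), e (show 2 < 22 by norm_num), Nat.eq_of_beq_eq_true m1,
        Nat.eq_of_beq_eq_true m5, Nat.eq_of_beq_eq_true m2]⟩
    exact Rel.trans ⟨r, hr, hconj⟩ hrel.symm

theorem trans_Q3 {x y : RR} (hx : x ∈ Q3) (hy : y ∈ Q3) : Rel x y := (rel_c152 hx).trans (rel_c152 hy).symm

/-! ### squares -/

theorem sq_witness {c q : ℕ} (h : triv (sqW c q) = true) : ∃ g : RR, g * g = pr q := by
  have h0 : Syl.pim 1 0 = 0 := squares_ok.2.2.1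
  have hr := rr_Hsub (show 1 < 128 by norm_num) h0
  refine ⟨theta ⟨rr 1 * eG c, mul_mem hr (eG_Hsub c)⟩, ?_⟩
  rw [← map_mul, pr]
  refine congrArg theta (Subtype.ext ?_)
  have hs := triv_spec h
  rw [sqW, el_append, el_append, el_append, el_rev, el_eW, el_eW, mul_inv_eq_one] at hs
  exact hs

theorem square_root {x : RR} (hx : x ∈ Q1 ∪ Q2) : ∃ g : RR, g * g = x := by
  obtain ⟨s1, s2, -, e1, e2⟩ := squares_ok
  have key : ∀ {y : RR}, (∃ g, g * g = y) → Rel y x → ∃ g, g * g = x := by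
    rintro y ⟨g, rfl⟩ ⟨r, -, rfl⟩
    exact ⟨r * g * r⁻¹, by group⟩
  rcases hx with hx | hx
  · refine key (sq_witness s1) (trans_Q1 ⟨5, mem_others.mpr (by norm_num), ?_⟩ hx)
    exact (pr_eqm (by norm_num) (cd_lt (by norm_num))).mpr e1
  · have hp : ((2, 3) : ℕ × ℕ) ∈ pairs :=
      mem_pairs.mpr ⟨mem_others.mpr (by norm_num), mem_others.mpr (by norm_num), by norm_num⟩
    exact key (sq_witness s2) (trans_Q2 ⟨(2, 3), hp, (pr_eqm (by norm_num) (cp_lt hp)).mpr e2⟩ hx)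

/-! ### large subgroups and involutions -/

theorem hsub_lift (x : RR) (hx : x * x = 1) : ∃ v : Hsub, theta v = x ∧ v * v = 1 := by
  haveI := finHsub
  obtain ⟨eU⟩ := SUSix.range_equiv
  let ψ : Hsub →* Cfsg.PSU 6 SpFour.F4 2 := eU.toMonoidHom.comp theta
  have hk : ψ.ker = theta.ker := Subgroup.ext fun v => eU.map_eq_one_iff
  obtain ⟨v, hv, hv2⟩ := CoverUnitarySix.exists_lift SpFour.F4.star_eq_pow ψ (eU.surjective.comp theta_surjective)
    SpFour.F4.card le_rfl (by rw [hk, center_eq]) (fun z hz => TSULift.ker_sq ker_card (hk ▸ hz))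
    (x := eU x) (by rw [← map_mul, hx, map_one])
  exact ⟨v, eU.injective hv, hv2⟩

theorem conjTo_AR : TSULift.ConjTo AR 512 := by
  haveI := finHsub
  intro B hB
  have hB' := (TSULift.elem_comap theta_surjective ker_card center_eq.ge hsub_lift hB).map Hsub.subtype
    Subtype.val_injective
  obtain ⟨g, hg⟩ := big_conj hB'
  set B' := (B.comap theta).map Hsub.subtype
  have htA : tA ∈ B' := ⟨⟨tA, EE_le tA_mem⟩, by
    rw [SetLike.mem_coe, Subgroup.mem_comap, theta_tA]; exact one_mem _, rfl⟩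
  have hgt : g * tA * g⁻¹ ∈ EE := by rw [← hg]; exact ⟨tA, htA, rfl⟩
  obtain ⟨i, hi, e⟩ := member_of (Fischer.three.2.1 g tA (isConj_iff.mpr ⟨1, by group⟩)) (SS_mono 7 hgt)
  obtain ⟨c, hc⟩ := isConj_iff.mp (show IsConj tA (mm i) from (dp (bp i)).2)
  obtain ⟨n, hn, hnc⟩ := correct (S := {mm i}) (g := c⁻¹) (by rintro _ rfl; exact mem_EE hi)
    (by rintro _ rfl; rw [← hc, show c⁻¹ * (c * tA * c⁻¹) * c⁻¹⁻¹ = tA by group]; exact tA_mem)
  have hA : n * g * tA * (n * g)⁻¹ = tA := by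
    rw [show n * g * tA * (n * g)⁻¹ = n * (g * tA * g⁻¹) * n⁻¹ by group, e, hnc _ rfl, ← hc]
    group
  refine ⟨theta ⟨n * g, nrm_Hsub hA⟩, ?_⟩
  haveI := finRR
  refine Subgroup.eq_of_le_of_card_ge ?_ ?_
  · rintro _ ⟨b, hb, rfl⟩
    obtain ⟨v, rfl⟩ := theta_surjective b
    refine ⟨⟨n * g, nrm_Hsub hA⟩ * v * ⟨n * g, nrm_Hsub hA⟩⁻¹, ?_, by rw [map_mul, map_mul, map_inv]; rfl⟩
    rw [SetLike.mem_coe, Subgroup.mem_subgroupOf]
    show n * g * (v : pres.Grp) * (n * g)⁻¹ ∈ EE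
    rw [show n * g * (v : pres.Grp) * (n * g)⁻¹ = n * (g * v * g⁻¹) * n⁻¹ by group]
    exact hn.mem (by rw [← hg]; exact ⟨v, ⟨v, hb, rfl⟩, rfl⟩)
  · rw [card_AR, Subgroup.card_map_of_injective (MulAut.conj _).injective]
    exact hB.2

theorem uniqueIn_RR : TSULift.UniqueIn RR 512 := by
  haveI := finHsub
  intro Q A B hQ hA hB hAQ hBQ
  have hup := fun {Z : Subgroup RR} (hZ : Elem Z 512) =>
    (TSULift.elem_comap theta_surjective ker_card center_eq.ge hsub_lift hZ).map Hsub.subtype Subtype.val_injective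
  have e := big_unique ((TSULift.pgroup_comap theta_surjective ker_card hQ).map Hsub.subtype) (hup hA) (hup hB)
    (Subgroup.map_mono (Subgroup.comap_mono hAQ)) (Subgroup.map_mono (Subgroup.comap_mono hBQ))
  exact Subgroup.comap_injective theta_surjective (Subgroup.map_injective Subtype.val_injective e)

theorem invol_AR {x : RR} (hx : x * x = 1) : ∃ r : RR, r * x * r⁻¹ ∈ AR := by
  obtain ⟨v, rfl, hv⟩ := hsub_lift x hx
  obtain ⟨h, hA, hh⟩ := invol_conj v.2 (congrArg Subtype.val hv)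
  exact ⟨theta ⟨h, nrm_Hsub hA⟩, ⟨⟨h, nrm_Hsub hA⟩ * v * ⟨h, nrm_Hsub hA⟩⁻¹, hh, by
    rw [map_mul, map_mul, map_inv]⟩⟩

theorem elem_AR : Elem AR 512 := by
  refine ⟨fun x hx => ?_, card_AR.ge⟩
  obtain ⟨c, -, rfl⟩ := mem_AR.mp hx
  exact pr_sq c

end Cfsg.Agent.Spor.TSU
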