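/-
Data for the ternary code of length 12.
-/
import Mathlib

set_option autoImplicit false

namespace Cfsg.Agent.Spor

/-- generators as masks of the entries one and two -/
def tGens : List (ℕ × ℕ) := [(1825, 2048), (34, 2944), (3236, 512), (1288, 672), (1168, 2336), (448, 3584)]

/-- the blocks -/
def hexMasks : List ℕ := [63, 222, 237, 243, 347, 366, 373, 413, 427, 438, 455, 504, 591, 630, 633, 667, 679, 700, 725, 746, 791, 813, 826, 860, 867, 910, 945, 969, 978, 996, 1117, 1127, 1146, 1175, 1198, 1209, 1227, 1268, 1295, 1331, 1340, 1366, 1385, 1434, 1445, 1484, 1489, 1506, 1566, 1579, 1589, 1619, 1644, 1677, 1714, 1734, 1752, 1761, 1817, 1830, 1861, 1866, 1904, 1923, 1940, 1960, 2135, 2155, 2172, 2191, 2229, 2234, 2265, 2278, 2334, 2343, 2361, 2381, 2418, 2451, 2476,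 2506, 2516, 2529, 2589, 2606, 2611, 2650, 2661, 2710, 2729, 2755, 2764, 2800, 2827, 2868, 2886, 2897, 2920, 2949, 2968, 2978, 3099, 3117, 3126, 3150, 3185, 3228, 3235, 3269, 3282, 3304, 3349, 3370, 3395, 3416, 3428, 3462, 3465, 3504, 3591, 3640, 3657, 3668, 3682, 3722, 3729, 3748, 3852, 3858, 3873, 4032]

/-- coset representatives with signs, by level -/
def tTrans : List (List (List ℕ × ℕ)) := [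
  [([0, 1, 2, 3, 4, 5, 6, 7, 8, 9, 10, 11], 0), ([1, 0, 2, 3, 4, 5, 11, 9, 10, 7, 8, 6], 0), ([2, 0, 1, 3, 4, 5, 8, 6, 7, 10, 11, 9], 0), ([3, 0, 1, 2, 4, 5, 10, 7, 6, 8, 9, 11], 2764), ([4, 0, 1, 2, 3, 5, 6, 9, 10, 11, 7, 8], 1940), ([5, 0, 1, 2, 3, 4, 9, 6, 8, 7, 11, 10], 3428), ([6, 0, 1, 2, 3, 9, 5, 4, 7, 10, 8, 11], 2514), ([7, 0, 1, 2, 3, 11, 10, 8, 9, 4, 5, 6], 3102), ([8, 0, 1, 2, 3, 10, 7, 11, 4, 6, 9, 5], 1224), ([9, 0, 1, 2, 3, 6, 4, 5, 11, 8, 10, 7], 3746), ([10, 0, 1, 2, 3, 8, 11, 7, 5, 9, 6, 4], 2824), ([11, 0, 1, 2, 3, 7, 8, 10, 6, 5, 4, 9], 430)],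
  [([0, 1, 2, 3, 4, 5, 6, 7, 8, 9, 10, 11], 0), ([0, 2, 1, 3, 4, 5, 9, 10, 11, 6, 7, 8], 0), ([0, 3, 1, 2, 4, 5, 11, 8, 9, 7, 6, 10], 2764), ([0, 4, 1, 2, 3, 5, 8, 11, 7, 9, 10, 6], 1940), ([0, 5, 1, 2, 3, 4, 10, 7, 11, 6, 8, 9], 3428), ([0, 6, 1, 2, 3, 9, 11, 10, 8, 4, 7, 5], 2514), ([0, 7, 1, 2, 3, 11, 6, 4, 5, 8, 9, 10], 3102), ([0, 8, 1, 2, 3, 10, 5, 6, 9, 11, 4, 7], 1224), ([0, 9, 1, 2, 3, 6, 7, 8, 10, 5, 11, 4], 3746), ([0, 10, 1, 2, 3, 8, 4, 9, 6, 7, 5, 11], 2824), ([0, 11, 1, 2, 3, 7, 9, 5, 4, 10, 6, 8], 430)],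
  [([0, 1, 2, 3, 4, 5, 6, 7, 8, 9, 10, 11], 0), ([0, 1, 3, 2, 4, 5, 7, 6, 10, 11, 8, 9], 2764), ([0, 1, 4, 2, 3, 5, 9, 10, 6, 8, 11, 7], 1940), ([0, 1, 5, 2, 3, 4, 6, 8, 9, 10, 7, 11], 3428), ([0, 1, 6, 2, 3, 9, 4, 7, 5, 11, 10, 8], 2514), ([0, 1, 7, 2, 3, 11, 8, 9, 10, 6, 4, 5], 3102), ([0, 1, 8, 2, 3, 10, 11, 4, 7, 5, 6, 9], 1224), ([0, 1, 9, 2, 3, 6, 5, 11, 4, 7, 8, 10], 3746), ([0, 1, 10, 2, 3, 8, 7, 5, 11, 4, 9, 6], 2824), ([0, 1, 11, 2, 3, 7, 10, 6, 8, 9, 5, 4], 430)],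
  [([0, 1, 2, 3, 4, 5, 6, 7, 8, 9, 10, 11], 0), ([0, 1, 2, 4, 3, 5, 10, 9, 11, 7, 6, 8], 0), ([0, 1, 2, 5, 3, 4, 8, 6, 7, 11, 9, 10], 0), ([0, 1, 2, 6, 3, 9, 7, 4, 10, 8, 5, 11], 6), ([0, 1, 2, 7, 3, 11, 9, 8, 4, 5, 10, 6], 4090), ([0, 1, 2, 8, 3, 10, 4, 11, 6, 9, 7, 5], 4092), ([0, 1, 2, 9, 3, 6, 11, 5, 8, 10, 4, 7], 6), ([0, 1, 2, 10, 3, 8, 5, 7, 9, 6, 11, 4], 4092), ([0, 1, 2, 11, 3, 7, 6, 10, 5, 4, 8, 9], 4090)],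
  [([0, 1, 2, 3, 4, 5, 6, 7, 8, 9, 10, 11], 0), ([0, 1, 2, 3, 5, 4, 9, 11, 10, 6, 8, 7], 0), ([0, 1, 2, 3, 6, 9, 5, 8, 11, 4, 7, 10], 6), ([0, 1, 2, 3, 7, 11, 10, 5, 6, 8, 9, 4], 4090), ([0, 1, 2, 3, 8, 10, 7, 9, 5, 11, 4, 6], 4092), ([0, 1, 2, 3, 9, 6, 4, 10, 7, 5, 11, 8], 6), ([0, 1, 2, 3, 10, 8, 11, 6, 4, 7, 5, 9], 4092), ([0, 1, 2, 3, 11, 7, 8, 4, 9, 10, 6, 5], 4090)]]

end Cfsg.Agent.Spor
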