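/-
The ternary code of length 12: generators, weights, hexads, monomial automorphisms.
-/
import Cfsg.Prelude.Def_SporadicCombinatorics
import Cfsg.Agent.Lib.Spor.GolayWords
import Cfsg.Agent.Lib.Spor.TernaryData

set_option autoImplicit false
set_option maxRecDepth 100000

namespace Cfsg.Agent.Spor

open Cfsg
open scoped Pointwise

local notation "Tw" => ArrayPt → ZMod 3

/-! ### positions and masks -/

/-- number of a position -/
def tdx (p : ArrayPt) : ℕ := 3 * p.1.val + p.2.val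

/-- position with a given number -/
def tpt (n : ℕ) : ArrayPt := (⟨n / 3 % 4, Nat.mod_lt _ (by norm_num)⟩, (n % 3 : ℕ))

theorem tdx_lt : ∀ p, tdx p < 12 := by decide +kernel
theorem tpt_tdx : ∀ p, tpt (tdx p) = p := by decide +kernel
theorem tdx_tpt : ∀ n, n < 12 → tdx (tpt n) = n := by decide +kernel

theorem tdx_injective : Function.Injective tdx := fun p q h => by rw [← tpt_tdx p, h, tpt_tdx q]

/-- mask of a set of positions -/
def tmask (s : Finset ArrayPt) : ℕ := ∑ i ∈ s.image tdx, 2 ^ i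

/-- set of positions of a mask -/
def tset (m : ℕ) : Finset ArrayPt := Finset.univ.filter fun p => Nat.testBit m (tdx p)

theorem testBit_tmask {s : Finset ArrayPt} {j : ℕ} :
    Nat.testBit (tmask s) j = true ↔ ∃ p ∈ s, tdx p = j := by
  rw [tmask, testBit_sum_pow, Finset.mem_image]

theorem testBit_tmask_tdx {s : Finset ArrayPt} {p : ArrayPt} :
    Nat.testBit (tmask s) (tdx p) = true ↔ p ∈ s := by
  rw [testBit_tmask]
  exact ⟨fun ⟨q, hq, h⟩ => tdx_injective h ▸ hq, fun h => ⟨p, h, rfl⟩⟩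

theorem testBit_tmask_ge {s : Finset ArrayPt} {j : ℕ} (hj : 12 ≤ j) :
    Nat.testBit (tmask s) j = false := by
  by_contra h
  rw [Bool.not_eq_false, testBit_tmask] at h
  obtain ⟨p, _, rfl⟩ := h
  exact absurd (tdx_lt p) (not_lt.2 hj)

theorem tmask_lt (s : Finset ArrayPt) : tmask s < 4096 :=
  Nat.lt_pow_two_of_testBit (n := 12) _ fun _ hj => testBit_tmask_ge hj

theorem tset_tmask (s : Finset ArrayPt) : tset (tmask s) = s := by
  ext p
  rw [tset, Finset.mem_filter, testBit_tmask_tdx]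
  simp

theorem tmask_injective : Function.Injective tmask :=
  Function.LeftInverse.injective tset_tmask

theorem tmask_eq {s : Finset ArrayPt} {m : ℕ} (hm : m < 4096)
    (h : ∀ p, p ∈ s ↔ Nat.testBit m (tdx p) = true) : tmask s = m := by
  refine Nat.eq_of_testBit_eq fun j => ?_
  rcases lt_or_ge j 12 with hj | hj
  · rw [← tdx_tpt j hj, Bool.eq_iff_iff, testBit_tmask_tdx, h]
  · rw [testBit_tmask_ge hj, Nat.testBit_lt_two_pow (lt_of_lt_of_le hm
      (le_of_eq_of_le (by norm_num : 4096 = 2 ^ 12) (Nat.pow_le_pow_right (by norm_num) hj)))]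

theorem tmask_tset {m : ℕ} (hm : m < 4096) : tmask (tset m) = m :=
  tmask_eq hm fun p => by simp [tset]

theorem pc_tmask (s : Finset ArrayPt) : pc (tmask s) = s.card := by
  rw [← Finset.card_image_of_injective s tdx_injective, pc_eq,
    ← List.toFinset_card_of_nodup (List.nodup_range.filter _)]
  congr 1
  ext j
  simp only [List.toFinset_filter, List.toFinset_range, Finset.mem_filter, Finset.mem_range,
    testBit_tmask, Finset.mem_image]
  exact ⟨fun h => h.2, fun h => ⟨by obtain ⟨p, _, rfl⟩ := h; have := tdx_lt p; omega, h⟩⟩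

theorem tmask_union (s t : Finset ArrayPt) : tmask (s ∪ t) = tmask s ||| tmask t := by
  refine Nat.eq_of_testBit_eq fun j => Bool.eq_iff_iff.2 ?_
  rw [Nat.testBit_or, Bool.or_eq_true, testBit_tmask, testBit_tmask, testBit_tmask]
  simp only [Finset.mem_union]
  aesop

theorem tmask_subset {s t : Finset ArrayPt} (h : s ⊆ t) : tmask s &&& tmask t = tmask s := by
  refine Nat.eq_of_testBit_eq fun j => Bool.eq_iff_iff.2 ?_
  rw [Nat.testBit_and, Bool.and_eq_true, testBit_tmask, testBit_tmask]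
  exact ⟨fun h' => h'.1, fun ⟨p, hp, e⟩ => ⟨⟨p, hp, e⟩, p, h hp, e⟩⟩

theorem subset_of_tmask {s t : Finset ArrayPt} (h : tmask s &&& tmask t = tmask s) : s ⊆ t := by
  intro p hp
  have := testBit_tmask_tdx.2 hp
  rw [← h, Nat.testBit_and, Bool.and_eq_true] at this
  exact testBit_tmask_tdx.1 this.2

/-! ### words as pairs of masks -/

/-- masks of the entries one and two -/
def enc (x : Tw) : ℕ × ℕ :=
  (tmask (Finset.univ.filter fun p => x p = 1), tmask (Finset.univ.filter fun p => x p = 2))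

/-- word of a pair of masks -/
def wordT (w : ℕ × ℕ) : Tw := fun p =>
  if Nat.testBit w.1 (tdx p) then 1 else if Nat.testBit w.2 (tdx p) then 2 else 0

/-- addition of coded words -/
def tadd (a b : ℕ × ℕ) : ℕ × ℕ :=
  ((a.1 &&& ((b.1 ||| b.2) ^^^ 4095)) ||| (b.1 &&& ((a.1 ||| a.2) ^^^ 4095)) ||| (a.2 &&& b.2),
   (a.2 &&& ((b.1 ||| b.2) ^^^ 4095)) ||| (b.2 &&& ((a.1 ||| a.2) ^^^ 4095)) ||| (a.1 &&& b.1))

theorem wordT_enc (x : Tw) : wordT (enc x) = x := by
  funext p
  simp only [wordT, enc, testBit_tmask_tdx, Finset.mem_filter, Finset.mem_univ, true_and]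
  generalize x p = a
  revert a
  decide

theorem enc_injective : Function.Injective enc := Function.LeftInverse.injective wordT_enc

theorem tdx_bit : ∀ p, Nat.testBit 4095 (tdx p) = true := by decide +kernel

theorem tadd_lt {a b : ℕ × ℕ} (h1 : a.1 < 4096) (h2 : a.2 < 4096) (h3 : b.1 < 4096) (h4 : b.2 < 4096) :
    (tadd a b).1 < 4096 ∧ (tadd a b).2 < 4096 := by
  have key : ∀ {x y z u v : ℕ}, x < 4096 → y < 4096 → z < 4096 →
      ((x &&& u) ||| (y &&& v) ||| z) < 4096 := fun hx hy hz =>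
    Nat.or_lt_two_pow (n := 12) (Nat.or_lt_two_pow (n := 12) (lt_of_le_of_lt Nat.and_le_left hx)
      (lt_of_le_of_lt Nat.and_le_left hy)) hz
  exact ⟨key h1 h3 (lt_of_le_of_lt Nat.and_le_left h2), key h2 h4 (lt_of_le_of_lt Nat.and_le_left h1)⟩

theorem enc_lt (z : Tw) : (enc z).1 < 4096 ∧ (enc z).2 < 4096 := by
  dsimp only [enc]; exact ⟨tmask_lt _, tmask_lt _⟩

theorem enc_eq_of {x : Tw} {w : ℕ × ℕ} (h1 : w.1 < 4096) (h2 : w.2 < 4096)
    (g1 : ∀ p, x p = 1 ↔ Nat.testBit w.1 (tdx p) = true)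
    (g2 : ∀ p, x p = 2 ↔ Nat.testBit w.2 (tdx p) = true) : enc x = w := by
  have e1 : tmask (Finset.univ.filter fun p => x p = 1) = w.1 :=
    tmask_eq h1 fun p => by rw [← g1 p]; simp
  have e2 : tmask (Finset.univ.filter fun p => x p = 2) = w.2 :=
    tmask_eq h2 fun p => by rw [← g2 p]; simp
  rw [enc, e1, e2]

theorem enc_add (x y : Tw) : enc (x + y) = tadd (enc x) (enc y) := by
  have hlt := tadd_lt (enc_lt x).1 (enc_lt x).2 (enc_lt y).1 (enc_lt y).2
  refine enc_eq_of hlt.1 hlt.2 (fun p => ?_) (fun p => ?_)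
  all_goals
    simp only [tadd, enc, Nat.testBit_or, Nat.testBit_and, Nat.testBit_xor, tdx_bit, Bool.or_eq_true,
      Bool.and_eq_true, Bool.bne_true, Bool.not_eq_true', Bool.or_eq_false_iff, Bool.eq_false_iff,
      ne_eq, testBit_tmask_tdx, Finset.mem_filter, Finset.mem_univ, true_and, Pi.add_apply]
    generalize x p = a
    generalize y p = b
    revert a b
    decide

theorem enc_zero : enc 0 = (0, 0) := by
  simp only [enc, Pi.zero_apply]
  decide

theorem enc_neg (x : Tw) : enc (-x) = ((enc x).2, (enc x).1) := by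
  have h : ∀ a : ZMod 3, (-a = 1 ↔ a = 2) ∧ (-a = 2 ↔ a = 1) := by decide
  simp only [enc, Pi.neg_apply, (h _).1, (h _).2]

/-- support mask -/
theorem tmask_support (x : Tw) : tmask (ternarySupport x) = (enc x).1 ||| (enc x).2 := by
  rw [enc, ← tmask_union]
  congr 1
  ext p
  simp only [ternarySupport, Finset.mem_filter, Finset.mem_union, Finset.mem_univ, true_and]
  generalize x p = a
  revert a
  decide

/-! ### the code -/

/-- a generator -/
def tgen (k : Fin 6) : Tw := wordT (tGens.getD k.val (0, 0))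

theorem tgen_enc : ∀ k, enc (tgen k) = tGens.getD k.val (0, 0) := by decide +kernel

/-- the nine tetracode words -/
def tetraList : List (Fin 4 → ZMod 3) :=
  [![0, 0, 0, 0], ![0, 1, 1, 1], ![0, 2, 2, 2], ![1, 0, 1, 2], ![1, 1, 2, 0], ![1, 2, 0, 1],
   ![2, 0, 2, 1], ![2, 1, 0, 2], ![2, 2, 1, 0]]

theorem tetraList_comb : (∀ t ∈ tetraList, ∃ a b : ZMod 3, a • ![0, 1, 1, 1] + b • ![1, 0, 1, 2] = t) ∧
    ∀ a b : ZMod 3, (a • ![0, 1, 1, 1] + b • ![1, 0, 1, 2] : Fin 4 → ZMod 3) ∈ tetraList := by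
  decide +kernel

theorem mem_tetracode {t : Fin 4 → ZMod 3} : t ∈ tetracode ↔ t ∈ tetraList := by
  rw [tetracode, Submodule.mem_span_pair]
  exact ⟨fun ⟨a, b, e⟩ => e ▸ tetraList_comb.2 a b, fun h => tetraList_comb.1 t h⟩

theorem isWord_iff {x : Tw} : x ∈ ternaryGolayCode ↔
    ∃ s : ZMod 3, (∀ i : Fin 4, ∑ r : ZMod 3, x (i, r) = -s) ∧ ∀ t ∈ tetraList, ∑ i : Fin 4, x (i, t i) = s :=
  exists_congr fun _ => and_congr_right fun _ => forall_congr' fun _ => by rw [mem_tetracode]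

theorem tgen_mem (k : Fin 6) : tgen k ∈ ternaryGolayCode := by
  rw [isWord_iff]
  revert k
  decide +kernel

/-- a combination of the generators -/
def tlin (a : Fin 6 → ZMod 3) : Tw :=
  a 0 • tgen 0 + (a 1 • tgen 1 + (a 2 • tgen 2 + (a 3 • tgen 3 + (a 4 • tgen 4 + (a 5 • tgen 5 + 0)))))

theorem tlin_mem (a : Fin 6 → ZMod 3) : tlin a ∈ ternaryGolayCode := by
  have h := fun k => Submodule.smul_mem ternaryGolayCode (a k) (tgen_mem k)
  exact add_mem (h 0) (add_mem (h 1) (add_mem (h 2) (add_mem (h 3) (add_mem (h 4) (add_mem (h 5) (zero_mem _))))))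

/-- the information positions -/
def tinfo (k : Fin 6) : ArrayPt := tpt ([0, 1, 2, 3, 4, 6].getD k.val 0)

theorem tgen_info : ∀ k l : Fin 6, tgen k (tinfo l) = if k = l then 1 else 0 := by decide +kernel

theorem tlin_info (a : Fin 6 → ZMod 3) (l : Fin 6) : tlin a (tinfo l) = a l := by
  simp only [tlin, Pi.add_apply, Pi.smul_apply, Pi.zero_apply, tgen_info, smul_eq_mul]
  fin_cases l <;> simp

/-- a word vanishing on the information positions -/
def ext6 (a b c d e f : ZMod 3) : Tw := fun p =>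
  [0, 0, 0, 0, 0, a, 0, b, c, d, e, f].getD (tdx p) 0

theorem ext6_scan : ∀ a b c d e f s : ZMod 3,
    (decide (∀ i : Fin 4, ∑ r : ZMod 3, ext6 a b c d e f (i, r) = -s) &&
      tetraList.all fun t => decide (∑ i : Fin 4, ext6 a b c d e f (i, t i) = s)) = true →
    a = 0 ∧ b = 0 ∧ c = 0 ∧ d = 0 ∧ e = 0 ∧ f = 0 := by
  decide +kernel

theorem ext6_zero (a b c d e f s : ZMod 3)
    (h : (∀ i : Fin 4, ∑ r : ZMod 3, ext6 a b c d e f (i, r) = -s) ∧
      ∀ t ∈ tetraList, ∑ i : Fin 4, ext6 a b c d e f (i, t i) = s) :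
    a = 0 ∧ b = 0 ∧ c = 0 ∧ d = 0 ∧ e = 0 ∧ f = 0 := by
  refine ext6_scan a b c d e f s ?_
  rw [Bool.and_eq_true, decide_eq_true_eq, List.all_eq_true]
  exact ⟨h.1, fun t ht => decide_eq_true (h.2 t ht)⟩

theorem mem_ternary {x : Tw} : x ∈ ternaryGolayCode ↔ ∃ a, x = tlin a := by
  refine ⟨fun h => ⟨fun l => x (tinfo l), sub_eq_zero.1 ?_⟩, fun ⟨a, e⟩ => e ▸ tlin_mem a⟩
  set y := x - tlin fun l => x (tinfo l) with hy
  have hy0 : ∀ l, y (tinfo l) = 0 := fun l => by rw [hy, Pi.sub_apply, tlin_info, sub_self]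
  have e : y = ext6 (y (tpt 5)) (y (tpt 7)) (y (tpt 8)) (y (tpt 9)) (y (tpt 10)) (y (tpt 11)) := by
    funext p
    obtain ⟨n, hn, rfl⟩ : ∃ n, n < 12 ∧ tpt n = p := ⟨tdx p, tdx_lt p, tpt_tdx p⟩
    unfold ext6
    rw [tdx_tpt n hn]
    interval_cases n
    exacts [hy0 0, hy0 1, hy0 2, hy0 3, hy0 4, rfl, hy0 5, rfl, rfl, rfl, rfl, rfl]
  have hmem : y ∈ ternaryGolayCode := sub_mem h (tlin_mem _)
  rw [isWord_iff, e] at hmem
  obtain ⟨s, hs⟩ := hmem
  obtain ⟨h1, h2, h3, h4, h5, h6⟩ := ext6_zero _ _ _ _ _ _ s hs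
  rw [e, h1, h2, h3, h4, h5, h6]
  funext p
  unfold ext6
  revert p
  decide +kernel

theorem tlin_injective : Function.Injective tlin := fun a b h => funext fun l => by
  rw [← tlin_info a l, h, tlin_info]

theorem ternary_eq_range : (ternaryGolayCode : Set Tw) = Set.range tlin :=
  Set.ext fun x => mem_ternary.trans ⟨fun ⟨a, e⟩ => ⟨a, e.symm⟩, fun ⟨a, e⟩ => ⟨a, e.symm⟩⟩

theorem card_ternary : Nat.card ↥ternaryGolayCode = 729 := by
  rw [← SetLike.coe_sort_coe, ternary_eq_range, Nat.card_range_of_injective tlin_injective]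
  simp

/-- all combinations of coded words -/
def tspan : List (ℕ × ℕ) → List (ℕ × ℕ)
  | [] => [(0, 0)]
  | g :: gs => tspan gs ++ (tspan gs).map (tadd g) ++ (tspan gs).map (tadd (g.2, g.1))

/-- all coded words -/
def tWords : List (ℕ × ℕ) := tspan tGens

theorem tspan_step {g : ℕ × ℕ} {gs : List (ℕ × ℕ)} {u y : Tw} (hu : enc u = g) (a : ZMod 3)
    (hy : enc y ∈ tspan gs) : enc (a • u + y) ∈ tspan (g :: gs) := by
  rw [tspan, List.mem_append, List.mem_append]
  have h : ∀ a : ZMod 3, a = 0 ∨ a = 1 ∨ a = -1 := by decide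
  rcases h a with rfl | rfl | rfl
  · rw [zero_smul, zero_add]; exact Or.inl (Or.inl hy)
  · rw [one_smul, enc_add, hu]; exact Or.inl (Or.inr (List.mem_map_of_mem hy))
  · rw [neg_one_smul, enc_add, enc_neg, hu]; exact Or.inr (List.mem_map_of_mem hy)

theorem enc_tlin (a : Fin 6 → ZMod 3) : enc (tlin a) ∈ tWords := by
  unfold tWords tGens
  refine tspan_step (tgen_enc 0) _ (tspan_step (tgen_enc 1) _ (tspan_step (tgen_enc 2) _
    (tspan_step (tgen_enc 3) _ (tspan_step (tgen_enc 4) _ (tspan_step (tgen_enc 5) _ ?_)))))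
  rw [enc_zero]; exact List.mem_singleton.2 rfl

theorem tWords_length : tWords.length = 729 := by decide +kernel

theorem list_eq_image {β : Type*} [DecidableEq β] (l : List β) (s : Finset β)
    (hsub : ∀ w ∈ s, w ∈ l) (hc : s.card = l.length) : s = l.toFinset ∧ l.Nodup := by
  have heq := Finset.eq_of_subset_of_card_le (fun w hw => List.mem_toFinset.2 (hsub w hw))
    (hc ▸ l.toFinset_card_le)
  have hd : l.dedup.length = l.length := by rw [← List.card_toFinset, ← heq, hc]
  exact ⟨heq, List.dedup_eq_self.1 ((List.dedup_sublist l).eq_of_length hd)⟩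

theorem card_params : Fintype.card (Fin 6 → ZMod 3) = 729 := by simp

theorem tWords_toFinset : Finset.univ.image (fun a => enc (tlin a)) = tWords.toFinset ∧ tWords.Nodup := by
  refine list_eq_image _ _ (fun w hw => ?_) ?_
  · obtain ⟨a, -, e⟩ := Finset.mem_image.1 hw
    exact e ▸ enc_tlin a
  · rw [Finset.card_image_of_injective _ (show Function.Injective (fun a => enc (tlin a)) from
      enc_injective.comp tlin_injective), Finset.card_univ, tWords_length]
    exact card_params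

theorem mem_tWords {w : ℕ × ℕ} : w ∈ tWords ↔ ∃ x ∈ ternaryGolayCode, enc x = w := by
  rw [← List.mem_toFinset, ← tWords_toFinset.1, Finset.mem_image]
  exact ⟨fun ⟨a, _, e⟩ => ⟨_, tlin_mem a, e⟩,
    fun ⟨x, hx, e⟩ => by
      obtain ⟨a, rfl⟩ := mem_ternary.1 hx
      exact ⟨a, Finset.mem_univ _, e⟩⟩

theorem enc_mem {x : Tw} : enc x ∈ tWords ↔ x ∈ ternaryGolayCode :=
  ⟨fun h => by obtain ⟨y, hy, e⟩ := mem_tWords.1 h; rwa [← enc_injective e],
    fun h => mem_tWords.2 ⟨x, h, rfl⟩⟩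

/-- weight of a coded word -/
def tweight (w : ℕ × ℕ) : ℕ := pc (w.1 ||| w.2)

theorem tweight_enc (x : Tw) : tweight (enc x) = (ternarySupport x).card := by
  rw [← pc_tmask, tmask_support]; rfl

theorem ncard_weight (n : ℕ) :
    {x : Tw | x ∈ ternaryGolayCode ∧ (ternarySupport x).card = n}.ncard =
      (tWords.filter fun w => tweight w == n).length := by
  rw [← List.toFinset_card_of_nodup (tWords_toFinset.2.filter _), ← Set.ncard_coe_finset,
    ← Set.ncard_image_of_injective _ enc_injective]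
  congr 1
  ext w
  simp only [Set.mem_image, Set.mem_setOf_eq, List.coe_toFinset, List.mem_filter, beq_iff_eq]
  constructor
  · rintro ⟨x, ⟨hx, hc⟩, rfl⟩; exact ⟨enc_mem.2 hx, (tweight_enc x).trans hc⟩
  · rintro ⟨hw, hc⟩
    obtain ⟨x, hx, rfl⟩ := mem_tWords.1 hw
    exact ⟨x, ⟨hx, (tweight_enc x).symm.trans hc⟩, rfl⟩

theorem tWords_weights : (∀ w ∈ tWords, w = (0, 0) ∨ tweight w = 6 ∨ tweight w = 9 ∨ tweight w = 12) ∧
    (tWords.filter fun w => tweight w == 6).length = 264 ∧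
    (tWords.filter fun w => tweight w == 9).length = 440 ∧
    (tWords.filter fun w => tweight w == 12).length = 24 := by
  decide +kernel

theorem tgen_orth : ∀ k l : Fin 6, ∑ p, tgen k p * tgen l p = 0 := by decide +kernel

theorem ternary_orth {x y : Tw} (hx : x ∈ ternaryGolayCode) (hy : y ∈ ternaryGolayCode) :
    ∑ p, x p * y p = 0 := by
  have h1 : ∀ (k : Fin 6) (b : Fin 6 → ZMod 3), ∑ p, tgen k p * tlin b p = 0 := by
    intro k b
    simp only [tlin, Pi.add_apply, Pi.smul_apply, Pi.zero_apply, smul_eq_mul, mul_add, add_zero,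
      Finset.sum_add_distrib, mul_left_comm _ (b _), ← Finset.mul_sum, tgen_orth, mul_zero]
  obtain ⟨a, rfl⟩ := mem_ternary.1 hx
  obtain ⟨b, rfl⟩ := mem_ternary.1 hy
  conv_lhs => arg 2; ext p; rw [tlin]
  simp only [Pi.add_apply, Pi.smul_apply, Pi.zero_apply, smul_eq_mul, add_mul, zero_mul, add_zero,
    Finset.sum_add_distrib, mul_assoc, ← Finset.mul_sum, h1, mul_zero]

end Cfsg.Agent.Spor
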