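/-
The ternary code of length 12: the hexads.
-/
import Cfsg.Agent.Lib.Spor.TernaryGolay

set_option autoImplicit false
set_option maxRecDepth 100000

namespace Cfsg.Agent.Spor

open Cfsg
open scoped Pointwise

local notation "Tw" => ArrayPt → ZMod 3

/-! ### hexads -/

/-- the hexads of the code -/
abbrev tHexads : Set (Finset ArrayPt) :=
  {h : Finset ArrayPt | ∃ x ∈ ternaryGolayCode, ternarySupport x = h ∧ h.card = 6}

theorem hexMasks_facts : (∀ w ∈ tWords, tweight w = 6 → (w.1 ||| w.2) ∈ hexMasks) ∧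
    (∀ h ∈ hexMasks, ∃ w ∈ tWords, w.1 ||| w.2 = h) ∧ (∀ h ∈ hexMasks, pc h = 6 ∧ h < 4096) ∧
    hexMasks.Nodup ∧ hexMasks.length = 132 := by
  refine ⟨?_, ?_, ?_, ?_, ?_⟩ <;> decide +kernel

theorem mem_tHexads {h : Finset ArrayPt} : h ∈ tHexads ↔ tmask h ∈ hexMasks := by
  constructor
  · rintro ⟨x, hx, rfl, hc⟩
    rw [tmask_support]
    exact hexMasks_facts.1 _ (enc_mem.2 hx) ((tweight_enc x).trans hc)
  · intro hh
    obtain ⟨w, hw, e⟩ := hexMasks_facts.2.1 _ hh
    obtain ⟨x, hx, rfl⟩ := mem_tWords.1 hw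
    refine ⟨x, hx, tmask_injective ((tmask_support x).trans e), ?_⟩
    rw [← pc_tmask]; exact (hexMasks_facts.2.2.1 _ hh).1

theorem ncard_tHexads : tHexads.ncard = 132 := by
  rw [← Set.ncard_image_of_injective _ tmask_injective, show tmask '' tHexads = ↑hexMasks.toFinset from ?_,
    Set.ncard_coe_finset, List.toFinset_card_of_nodup hexMasks_facts.2.2.2.1, hexMasks_facts.2.2.2.2]
  ext m
  simp only [Set.mem_image, List.coe_toFinset, Set.mem_setOf_eq]
  exact ⟨fun ⟨h, hh, e⟩ => e ▸ mem_tHexads.1 hh, fun hm =>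
    ⟨tset m, mem_tHexads.2 (by rwa [tmask_tset (hexMasks_facts.2.2.1 m hm).2]),
      tmask_tset (hexMasks_facts.2.2.1 m hm).2⟩⟩

/-- blocks containing a mask -/
def hexOver (m : ℕ) : List ℕ := hexMasks.filter fun h => m &&& h == m

theorem hexOver_scan : (List.range 4096).all
    (fun m => pc m != 5 || (hexOver m).length == 1) = true := by decide +kernel

theorem hexOver_five (m : ℕ) (hm : m < 4096) (h5 : pc m = 5) : (hexOver m).length = 1 := by
  have := List.all_eq_true.1 hexOver_scan m (List.mem_range.2 hm)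
  simpa [h5] using this

theorem tHexads_steiner : IsSteinerSystem 5 6 tHexads := by
  refine ⟨fun b hb => hb.choose_spec.2.2, fun s hs => ?_⟩
  obtain ⟨h, he⟩ := List.length_eq_one_iff.1
    (hexOver_five _ (tmask_lt s) ((pc_tmask s).trans hs))
  have hh : h ∈ hexOver (tmask s) := by rw [he]; exact List.mem_singleton.2 rfl
  simp only [hexOver, List.mem_filter, beq_iff_eq] at hh
  have hlt := (hexMasks_facts.2.2.1 _ hh.1).2
  refine ⟨tset h, ⟨mem_tHexads.2 (by rw [tmask_tset hlt]; exact hh.1), subset_of_tmask (by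
    rw [tmask_tset hlt]; exact hh.2)⟩, fun b hb => ?_⟩
  have hb' : tmask b ∈ hexOver (tmask s) :=
    List.mem_filter.2 ⟨mem_tHexads.1 hb.1, beq_iff_eq.2 (tmask_subset hb.2)⟩
  rw [he, List.mem_singleton] at hb'
  rw [← hb', tset_tmask]

end Cfsg.Agent.Spor
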