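/-
Monomial automorphisms of the ternary code of length 12 and the automorphisms of its hexads.
-/
import Cfsg.Agent.Lib.Spor.TernaryHexads

set_option autoImplicit false
set_option maxRecDepth 100000

namespace Cfsg.Agent.Spor

open Cfsg
open scoped Pointwise

local notation "Tw" => ArrayPt → ZMod 3

/-- a monomial map preserving the code -/
def MonoOK (σ : Equiv.Perm ArrayPt) (c : ArrayPt → (ZMod 3)ˣ) : Prop :=
  ∀ x ∈ ternaryGolayCode, monomialMap σ c x ∈ ternaryGolayCode

theorem mono_comp (σ τ : Equiv.Perm ArrayPt) (c d : ArrayPt → (ZMod 3)ˣ) (x : Tw) :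
    monomialMap σ c (monomialMap τ d x) = monomialMap (σ * τ) (fun i => c i * d (σ.symm i)) x := by
  funext i
  simp only [monomialMap, Units.val_mul, mul_assoc]
  rfl

theorem mono_add (σ : Equiv.Perm ArrayPt) (c : ArrayPt → (ZMod 3)ˣ) (x y : Tw) :
    monomialMap σ c (x + y) = monomialMap σ c x + monomialMap σ c y :=
  funext fun _ => mul_add _ _ _

theorem mono_smul (σ : Equiv.Perm ArrayPt) (c : ArrayPt → (ZMod 3)ˣ) (a : ZMod 3) (x : Tw) :
    monomialMap σ c (a • x) = a • monomialMap σ c x :=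
  funext fun _ => mul_left_comm _ _ _

theorem mono_injective (σ : Equiv.Perm ArrayPt) (c : ArrayPt → (ZMod 3)ˣ) :
    Function.Injective (monomialMap σ c) := fun x y h => funext fun i => by
  have := congrFun h (σ i)
  simp only [monomialMap, Equiv.symm_apply_apply] at this
  exact (Units.mul_right_inj _).1 this

theorem monoOK_of_gens {σ : Equiv.Perm ArrayPt} {c : ArrayPt → (ZMod 3)ˣ}
    (h : ∀ k, monomialMap σ c (tgen k) ∈ ternaryGolayCode) : MonoOK σ c := by
  intro x hx
  obtain ⟨a, rfl⟩ := mem_ternary.1 hx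
  have h0 : monomialMap σ c (0 : Tw) = 0 := funext fun _ => mul_zero _
  simp only [tlin, mono_add, mono_smul, h0]
  have h' := fun k => Submodule.smul_mem ternaryGolayCode (a k) (h k)
  exact add_mem (h' 0) (add_mem (h' 1) (add_mem (h' 2) (add_mem (h' 3) (add_mem (h' 4) (add_mem (h' 5) (zero_mem _))))))

theorem MonoOK.surj {σ : Equiv.Perm ArrayPt} {c : ArrayPt → (ZMod 3)ˣ} (h : MonoOK σ c) {x : Tw}
    (hx : x ∈ ternaryGolayCode) : ∃ y ∈ ternaryGolayCode, monomialMap σ c y = x := by
  have hs : Function.Surjective (fun y : ↥ternaryGolayCode => (⟨_, h y y.2⟩ : ↥ternaryGolayCode)) :=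
    Finite.injective_iff_surjective.1 fun a b e => Subtype.ext (mono_injective σ c (Subtype.ext_iff.1 e))
  obtain ⟨y, hy⟩ := hs ⟨x, hx⟩
  exact ⟨y, y.2, Subtype.ext_iff.1 hy⟩

theorem support_mono (σ : Equiv.Perm ArrayPt) (c : ArrayPt → (ZMod 3)ˣ) (x : Tw) :
    ternarySupport (monomialMap σ c x) = σ • ternarySupport x := by
  ext p
  rw [← Finset.inv_smul_mem_iff]
  simp only [ternarySupport, Finset.mem_filter, Finset.mem_univ, true_and, monomialMap, ne_eq, mul_eq_zero,
    Units.ne_zero, false_or]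
  rfl

/-! ### lists as permutations -/

/-- the list is a bijection of the numbers below 12 -/
def lok12 (l : List ℕ) : Bool :=
  (l.length == 12) && l.all (fun a => decide (a < 12)) && (List.range 12).all (fun i => l.elem i)

theorem lok12_spec {l : List ℕ} (h : lok12 l = true) :
    l.length = 12 ∧ (∀ i, i < 12 → l.getD i 0 < 12) ∧
      Function.Bijective (fun p : ArrayPt => tpt (l.getD (tdx p) 0)) := by
  simp only [lok12, Bool.and_eq_true, beq_iff_eq, List.all_eq_true, List.elem_iff, List.mem_range,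
    decide_eq_true_eq] at h
  refine ⟨h.1.1, fun i hi => ?_, Finite.surjective_iff_bijective.1 fun q => ?_⟩
  · rw [List.getD_eq_getElem _ _ (h.1.1.symm ▸ hi)]; exact h.1.2 _ (List.getElem_mem _)
  · obtain ⟨i, hi, e⟩ := List.getElem_of_mem (h.2 _ (tdx_lt q))
    refine ⟨tpt i, ?_⟩
    show tpt (l.getD (tdx (tpt i)) 0) = q
    rw [tdx_tpt i (h.1.1 ▸ hi), List.getD_eq_getElem _ _ hi, e, tpt_tdx]

/-- permutation of a list -/
noncomputable def tperm (l : List ℕ) : Equiv.Perm ArrayPt :=
  if h : lok12 l = true then Equiv.ofBijective _ (lok12_spec h).2.2 else 1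

theorem tdx_tperm {l : List ℕ} (h : lok12 l = true) (p : ArrayPt) :
    tdx (tperm l p) = l.getD (tdx p) 0 := by
  rw [tperm, dif_pos h]
  exact tdx_tpt _ ((lok12_spec h).2.1 _ (tdx_lt p))

theorem tmask_smul {l : List ℕ} (h : lok12 l = true) (s : Finset ArrayPt) :
    tmask (tperm l • s) = pm l (tmask s) 0 := by
  refine Nat.eq_of_testBit_eq fun j => Bool.eq_iff_iff.2 ?_
  rw [testBit_tmask, testBit_pm, (lok12_spec h).1]
  simp only [Nat.zero_testBit, Bool.false_eq_true, false_or]
  constructor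
  · rintro ⟨p, hp, rfl⟩
    obtain ⟨q, hq, rfl⟩ := Finset.mem_smul_finset.1 hp
    exact ⟨tdx q, tdx_lt q, testBit_tmask_tdx.2 hq, (tdx_tperm h q).symm⟩
  · rintro ⟨i, -, hm, rfl⟩
    obtain ⟨q, hq, rfl⟩ := testBit_tmask.1 hm
    exact ⟨_, Finset.smul_mem_smul_finset hq, tdx_tperm h q⟩

/-- signs of a mask -/
def sgnU (m : ℕ) (p : ArrayPt) : (ZMod 3)ˣ := if Nat.testBit m (tdx p) then -1 else 1

/-- change signs in a coded word -/
def tflip (m : ℕ) (w : ℕ × ℕ) : ℕ × ℕ :=
  ((w.1 &&& (m ^^^ 4095)) ||| (w.2 &&& m), (w.2 &&& (m ^^^ 4095)) ||| (w.1 &&& m))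

/-- monomial image of a coded word -/
def timg (l : List ℕ) (m : ℕ) (w : ℕ × ℕ) : ℕ × ℕ := tflip m (pm l w.1 0, pm l w.2 0)

theorem enc_perm {l : List ℕ} (h : lok12 l = true) (x : Tw) :
    enc (fun i => x ((tperm l).symm i)) = (pm l (enc x).1 0, pm l (enc x).2 0) := by
  have e : ∀ a : ZMod 3, (Finset.univ.filter fun i => x ((tperm l).symm i) = a) =
      tperm l • Finset.univ.filter fun p => x p = a := fun a => by
    ext i; rw [← Finset.inv_smul_mem_iff]; simp only [Finset.mem_filter, Finset.mem_univ, true_and]; rfl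
  simp only [enc, e, tmask_smul h]

theorem enc_flip (m : ℕ) (z : Tw) :
    enc (fun i => (sgnU m i : ZMod 3) * z i) = tflip m (enc z) := by
  have hlt : ∀ {x y u v : ℕ}, x < 4096 → y < 4096 → ((x &&& u) ||| (y &&& v)) < 4096 := fun hx hy =>
    Nat.or_lt_two_pow (n := 12) (lt_of_le_of_lt Nat.and_le_left hx) (lt_of_le_of_lt Nat.and_le_left hy)
  refine enc_eq_of (hlt (enc_lt z).1 (enc_lt z).2) (hlt (enc_lt z).2 (enc_lt z).1) (fun p => ?_) (fun p => ?_)
  all_goals
    simp only [tflip, enc, sgnU, Nat.testBit_or, Nat.testBit_and, Nat.testBit_xor, tdx_bit, Bool.or_eq_true,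
      Bool.and_eq_true, Bool.bne_true, Bool.not_eq_true', testBit_tmask_tdx, Finset.mem_filter,
      Finset.mem_univ, true_and]
    generalize z p = a
    generalize Nat.testBit m (tdx p) = b
    revert a b
    decide

theorem enc_mono {l : List ℕ} (h : lok12 l = true) (m : ℕ) (x : Tw) :
    enc (monomialMap (tperm l) (sgnU m) x) = timg l m (enc x) := by
  rw [timg, ← enc_perm h, ← enc_flip]; rfl

/-! ### sign changes -/

/-- the identity list -/
def idList12 : List ℕ := List.range 12

theorem tperm_id : tperm idList12 = 1 := by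
  refine Equiv.ext fun p => tdx_injective ?_
  rw [tdx_tperm (by decide), Equiv.Perm.one_apply]
  revert p
  decide +kernel

/-- recombination test -/
def tIn (w : ℕ × ℕ) : Bool :=
  (([0, 1, 2, 3, 4, 6].zip tGens).foldr (fun kg r =>
    if Nat.testBit w.1 kg.1 then tadd kg.2 r
    else if Nat.testBit w.2 kg.1 then tadd (kg.2.2, kg.2.1) r else r) (0, 0)) == w

theorem tIn_of_mem : ∀ w ∈ tWords, tIn w = true := by decide +kernel

theorem sign_scan : (List.range 4096).all (fun m =>
    m == 0 || m == 4095 || !(tGens.all fun g => tIn (timg idList12 m g))) = true := by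
  decide +kernel

theorem units_three : ∀ u : (ZMod 3)ˣ, u = 1 ∨ u = -1 := by decide

theorem sign_kernel {c : ArrayPt → (ZMod 3)ˣ} (h : MonoOK 1 c) :
    (∀ p, c p = 1) ∨ ∀ p, c p = -1 := by
  set m := tmask (Finset.univ.filter fun p => c p = -1) with hm
  have hc : c = sgnU m := funext fun p => by
    rcases units_three (c p) with e | e
    · rw [sgnU, if_neg, e]
      rw [hm, testBit_tmask_tdx, Finset.mem_filter, e]
      exact fun ⟨_, h⟩ => absurd h (by decide)
    · rw [sgnU, if_pos, e]
      rw [hm, testBit_tmask_tdx, Finset.mem_filter]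
      exact ⟨Finset.mem_univ _, e⟩
  have hall := List.all_eq_true.1 sign_scan m (List.mem_range.2 (tmask_lt _))
  simp only [Bool.or_eq_true, beq_iff_eq, Bool.not_eq_true', List.all_eq_false] at hall
  rcases hall with (h0 | h1) | ⟨g, hg, hf⟩
  · left; intro p; rw [hc, sgnU, h0]; simp
  · right; intro p; rw [hc, sgnU, h1, tdx_bit]; rfl
  · exfalso
    obtain ⟨k, hk, rfl⟩ := List.getElem_of_mem hg
    have hk6 : k < 6 := hk
    refine hf ?_
    rw [show tGens[k] = enc (tgen ⟨k, hk6⟩) from
      ((tgen_enc ⟨k, hk6⟩).trans (List.getD_eq_getElem _ _ hk)).symm,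
      ← enc_mono (by decide), tperm_id, ← hc]
    exact tIn_of_mem _ (enc_mem.2 (h _ (tgen_mem _)))

/-! ### permutation parts -/

/-- permutation parts of monomial automorphisms -/
abbrev permParts : Set (Equiv.Perm ArrayPt) :=
  {σ : Equiv.Perm ArrayPt | ∃ c : ArrayPt → (ZMod 3)ˣ,
    (∀ x ∈ ternaryGolayCode, monomialMap σ c x ∈ ternaryGolayCode)}

theorem permParts_mul {σ τ : Equiv.Perm ArrayPt} (hσ : σ ∈ permParts) (hτ : τ ∈ permParts) :
    σ * τ ∈ permParts := by
  obtain ⟨c, hc⟩ := hσ
  obtain ⟨d, hd⟩ := hτ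
  exact ⟨_, fun x hx => mono_comp σ τ c d x ▸ hc _ (hd x hx)⟩

theorem permParts_le {σ : Equiv.Perm ArrayPt} (hσ : σ ∈ permParts) : σ ∈ setSystemAut tHexads := by
  obtain ⟨c, hc⟩ := hσ
  rw [setSystemAut, MulAction.mem_stabilizer_iff]
  have hfin : tHexads.Finite := Set.toFinite _
  refine Set.eq_of_subset_of_ncard_le ?_ (le_of_eq ?_) hfin
  · rintro _ ⟨h, ⟨x, hx, rfl, hc6⟩, rfl⟩
    exact ⟨_, hc x hx, support_mono σ c x, by
      show (σ • ternarySupport x).card = 6
      rw [Finset.card_smul_finset, hc6]⟩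
  · exact (Set.ncard_image_of_injective _ (MulAction.injective σ)).symm

/-- validity of a transversal entry -/
def entryOK (e : List ℕ × ℕ) : Bool :=
  lok12 e.1 && tGens.all fun g => tWords.elem (timg e.1 e.2 g)

theorem entry_mem {e : List ℕ × ℕ} (h : entryOK e = true) : tperm e.1 ∈ permParts := by
  simp only [entryOK, Bool.and_eq_true, List.all_eq_true, List.elem_iff] at h
  refine ⟨sgnU e.2, monoOK_of_gens fun k => enc_mem.1 ?_⟩
  rw [enc_mono h.1, tgen_enc]
  have hk : k.val < tGens.length := k.2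
  rw [List.getD_eq_getElem _ _ hk]
  exact h.2 _ (List.getElem_mem _)

theorem trans_scan : ∀ k, k < 5 → ∀ q, q < 12 → k ≤ q → ∃ e ∈ tTrans.getD k [],
    (∀ i, i < k → e.1.getD i 0 = i) ∧ e.1.getD k 0 = q := by
  decide +kernel

theorem trans_ok : ∀ k, k < 5 → ∀ e ∈ tTrans.getD k [], entryOK e = true := by decide +kernel

theorem permParts_trans (k : ℕ) (hk : k ≤ 5) (z : ℕ → ArrayPt)
    (hz : ∀ i j, i < k → j < k → z i = z j → i = j) :
    ∃ σ ∈ permParts, ∀ i, i < k → σ (tpt i) = z i := by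
  induction k with
  | zero => exact ⟨1, ⟨1, fun x hx => by
      convert hx using 1
      funext i; simp [monomialMap, show ((Equiv.symm (1 : Equiv.Perm ArrayPt)) i) = i from rfl]⟩, fun i hi => absurd hi (Nat.not_lt_zero i)⟩
  | succ k ih =>
    obtain ⟨τ, hτ, he⟩ := ih (by omega) fun i j hi hj => hz i j (hi.trans k.lt_succ_self) (hj.trans k.lt_succ_self)
    set q := tdx (τ.symm (z k)) with hq
    have hkq : k ≤ q := by
      by_contra hlt
      push_neg at hlt
      have h1 := he q hlt
      rw [hq, tpt_tdx, Equiv.apply_symm_apply] at h1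
      exact absurd (hz k q k.lt_succ_self (hlt.trans k.lt_succ_self) h1) hlt.ne'
    obtain ⟨e, hmem, hfix, hek⟩ := trans_scan k (by omega) q (tdx_lt _) hkq
    have hok := trans_ok k (by omega) e hmem
    have hl : lok12 e.1 = true := (Bool.and_eq_true _ _ ▸ hok).1
    refine ⟨τ * tperm e.1, permParts_mul hτ (entry_mem hok), fun i hi => ?_⟩
    rw [Equiv.Perm.mul_apply]
    rcases Nat.lt_succ_iff_lt_or_eq.1 hi with hik | rfl
    · rw [show tperm e.1 (tpt i) = tpt i from tdx_injective (by
        rw [tdx_tperm hl, tdx_tpt i (by omega), hfix i hik])]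
      exact he i hik
    · rw [show tperm e.1 (tpt i) = τ.symm (z i) from tdx_injective (by
        rw [tdx_tperm hl, tdx_tpt i (by omega), hek, hq]), Equiv.apply_symm_apply]

theorem five_block : hexMasks.filter (fun h => 31 &&& h == 31) = [63] := by decide +kernel

theorem rigid_scan : ([6, 7, 8, 9, 10, 11] : List ℕ).permutations'.all (fun t =>
    t == [6, 7, 8, 9, 10, 11] ||
      !(hexMasks.all fun h => hexMasks.elem (pm ([0, 1, 2, 3, 4, 5] ++ t) h 0))) = true := by
  decide +kernel

theorem hexads_rigid {σ : Equiv.Perm ArrayPt} (hσ : σ ∈ setSystemAut tHexads)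
    (hfix : ∀ i, i < 5 → σ (tpt i) = tpt i) : σ = 1 := by
  rw [setSystemAut, MulAction.mem_stabilizer_iff] at hσ
  have hblk : ∀ h, h ∈ tHexads → σ • h ∈ tHexads := fun h hh => hσ ▸ Set.smul_mem_smul_set hh
  -- the sixth point
  have h5 : σ (tpt 5) = tpt 5 := by
    have hb : tset 63 ∈ tHexads := mem_tHexads.2 (by rw [tmask_tset (by norm_num)]; decide +kernel)
    have hsub : tset 31 ⊆ σ • tset 63 := by
      intro p hp
      obtain ⟨n, hn, rfl⟩ : ∃ n, n < 5 ∧ tpt n = p := by revert p; decide +kernel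
      rw [← hfix n hn]
      refine Finset.smul_mem_smul_finset (a := σ) ?_
      interval_cases n <;> decide +kernel
    have hm : tmask (σ • tset 63) ∈ hexMasks.filter (fun h => 31 &&& h == 31) :=
      List.mem_filter.2 ⟨mem_tHexads.1 (hblk _ hb), beq_iff_eq.2 (by
        have := tmask_subset hsub
        rwa [tmask_tset (by norm_num)] at this)⟩
    rw [five_block, List.mem_singleton] at hm
    have he : σ • tset 63 = tset 63 := tmask_injective (hm.trans (tmask_tset (by norm_num)).symm)
    have hmem : σ (tpt 5) ∈ tset 63 := he ▸ Finset.smul_mem_smul_finset (by decide +kernel)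
    obtain ⟨n, hn, e⟩ : ∃ n, n < 6 ∧ tpt n = σ (tpt 5) := by
      revert hmem; generalize σ (tpt 5) = p; revert p; decide +kernel
    rcases Nat.lt_succ_iff_lt_or_eq.1 hn with h | rfl
    · rw [← hfix n h] at e
      have := σ.injective e
      have h2 := congrArg tdx this
      rw [tdx_tpt n (by omega), tdx_tpt 5 (by norm_num)] at h2
      omega
    · exact e.symm
  have hfix6 : ∀ i, i < 6 → σ (tpt i) = tpt i := fun i hi => by
    rcases Nat.lt_succ_iff_lt_or_eq.1 hi with h | rfl
    · exact hfix i h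
    · exact h5
  have hmem12 : ∀ a ∈ ([6, 7, 8, 9, 10, 11] : List ℕ), 6 ≤ a ∧ a < 12 := by decide
  let t : List ℕ := [6, 7, 8, 9, 10, 11].map fun i => tdx (σ (tpt i))
  have hperm : t ∈ ([6, 7, 8, 9, 10, 11] : List ℕ).permutations' := by
    rw [List.mem_permutations']
    have hnd : t.Nodup := List.Nodup.map_on (fun a ha b hb e => by
      have := congrArg tdx (σ.injective (tdx_injective e))
      rwa [tdx_tpt a (hmem12 a ha).2, tdx_tpt b (hmem12 b hb).2] at this) (by decide)
    refine (List.subperm_of_subset hnd fun j hj => ?_).perm_of_length_le (by simp [t])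
    obtain ⟨i, hi, rfl⟩ := List.mem_map.1 hj
    have h6 : ¬ tdx (σ (tpt i)) < 6 := fun hlt => by
      have e := hfix6 _ hlt
      rw [tpt_tdx] at e
      have := congrArg tdx (σ.injective e)
      rw [tdx_tpt i (hmem12 i hi).2] at this
      have := (hmem12 i hi).1
      omega
    have h12 := tdx_lt (σ (tpt i))
    revert h6 h12
    generalize tdx (σ (tpt i)) = v
    intro h6 h12
    interval_cases v <;> simp
  have hL : ∀ p, ([0, 1, 2, 3, 4, 5] ++ t).getD (tdx p) 0 = tdx (σ p) := fun p => by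
    obtain ⟨n, hn, rfl⟩ : ∃ n, n < 12 ∧ tpt n = p := ⟨tdx p, tdx_lt p, tpt_tdx p⟩
    rw [tdx_tpt n hn]
    interval_cases n <;> first | rfl | (rw [hfix6 _ (by norm_num), tdx_tpt _ (by norm_num)]; rfl)
  have hok : lok12 ([0, 1, 2, 3, 4, 5] ++ t) = true := by
    simp only [lok12, Bool.and_eq_true, beq_iff_eq, List.all_eq_true, List.elem_iff, decide_eq_true_eq,
      List.mem_range]
    refine ⟨⟨rfl, ?_⟩, fun i hi => ?_⟩
    · intro a ha
      obtain ⟨j, hj, rfl⟩ := List.getElem_of_mem ha
      have hj12 : j < 12 := hj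
      rw [← List.getD_eq_getElem _ 0 hj, ← tdx_tpt j hj12, hL]
      exact tdx_lt _
    · have h := hL (σ.symm (tpt i))
      rw [Equiv.apply_symm_apply, tdx_tpt i hi, List.getD_eq_getElem _ _ (tdx_lt _)] at h
      rw [← h]; exact List.getElem_mem _
  have hσ' : tperm ([0, 1, 2, 3, 4, 5] ++ t) = σ :=
    Equiv.ext fun p => tdx_injective ((tdx_tperm hok p).trans (hL p))
  have hall := List.all_eq_true.1 rigid_scan t hperm
  simp only [Bool.or_eq_true, beq_iff_eq, Bool.not_eq_true', List.all_eq_false, List.elem_iff] at hall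
  rcases hall with ht | ⟨h, hh, hf⟩
  · refine Equiv.ext fun p => tdx_injective ?_
    rw [← hL p, ht, Equiv.Perm.one_apply]
    revert p; decide +kernel
  · refine absurd ?_ hf
    have hlt := (hexMasks_facts.2.2.1 h hh).2
    have := mem_tHexads.1 (hblk _ (mem_tHexads.2 (by rwa [tmask_tset hlt])))
    rwa [← hσ', tmask_smul hok, tmask_tset hlt] at this

theorem permParts_eq : permParts = (setSystemAut tHexads : Set (Equiv.Perm ArrayPt)) := by
  refine Set.Subset.antisymm (fun σ => permParts_le) fun ρ hρ => ?_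
  obtain ⟨σ, hσ, he⟩ := permParts_trans 5 le_rfl (fun i => ρ (tpt i)) fun i j hi hj e => by
    have := congrArg tdx (ρ.injective e)
    rwa [tdx_tpt i (by omega), tdx_tpt j (by omega)] at this
  have h1 : σ⁻¹ * ρ = 1 := hexads_rigid (mul_mem (inv_mem (permParts_le hσ)) hρ) fun i hi => by
    rw [Equiv.Perm.mul_apply, ← he i hi, Equiv.Perm.inv_def, Equiv.symm_apply_apply]
  rwa [← inv_mul_eq_one.1 h1]

/-- the first five positions -/
def tbase : Fin 5 ↪ ArrayPt :=
  ⟨fun i => tpt i, fun i j e => Fin.ext (by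
    have := congrArg tdx e
    rwa [tdx_tpt _ (by omega), tdx_tpt _ (by omega)] at this)⟩

theorem card_permParts : permParts.ncard = 95040 := by
  have hbij : Function.Bijective (fun σ : permParts => tbase.trans σ.1.toEmbedding) := by
    constructor
    · intro a b e
      refine Subtype.ext (inv_mul_eq_one.1 (hexads_rigid
        (mul_mem (inv_mem (permParts_le a.2)) (permParts_le b.2)) fun i hi => ?_))
      have h : (a : Equiv.Perm ArrayPt) (tpt i) = (b : Equiv.Perm ArrayPt) (tpt i) :=
        DFunLike.congr_fun e (⟨i, hi⟩ : Fin 5)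
      rw [Equiv.Perm.mul_apply, ← h, Equiv.Perm.inv_def, Equiv.symm_apply_apply]
    · intro z
      obtain ⟨σ, hσ, he⟩ := permParts_trans 5 le_rfl (fun i => z ⟨min i 4, by omega⟩) fun i j hi hj e => by
        have := Fin.ext_iff.1 (z.injective e)
        simp only at this
        omega
      refine ⟨⟨σ, hσ⟩, DFunLike.ext _ _ fun i => ?_⟩
      show σ (tpt i) = z i
      rw [he i i.isLt]
      congr 1
      ext
      simp only
      omega
  rw [← Nat.card_coe_set_eq, Nat.card_eq_of_bijective _ hbij, Nat.card_eq_fintype_card,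
    Fintype.card_embedding_eq]
  simp only [Fintype.card_prod, Fintype.card_fin, ZMod.card]
  decide

theorem card_monomial :
    Nat.card {f : Equiv.Perm ArrayPt × (ArrayPt → (ZMod 3)ˣ) //
      (∀ x ∈ ternaryGolayCode, monomialMap f.1 f.2 x ∈ ternaryGolayCode)} = 190080 := by
  let Φ : {f : Equiv.Perm ArrayPt × (ArrayPt → (ZMod 3)ˣ) //
      (∀ x ∈ ternaryGolayCode, monomialMap f.1 f.2 x ∈ ternaryGolayCode)} → permParts × (ZMod 3)ˣ :=
    fun f => (⟨f.1.1, f.1.2, f.2⟩, f.1.2 (tpt 0))
  have hbij : Function.Bijective Φ := by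
    constructor
    · rintro ⟨⟨σ, c⟩, hc⟩ ⟨⟨τ, d⟩, hd⟩ e
      obtain rfl : σ = τ := congrArg (fun q => q.1.1) e
      have h0 : c (tpt 0) = d (tpt 0) := congrArg Prod.snd e
      have hr : MonoOK 1 (fun i => d i * (c i)⁻¹) := fun x hx => by
        obtain ⟨y, hy, rfl⟩ := MonoOK.surj hc hx
        rw [mono_comp, one_mul]
        convert hd y hy using 2
        funext i
        exact inv_mul_cancel_right _ _
      rcases sign_kernel hr with h | h
      · exact Subtype.ext (Prod.ext rfl (funext fun i => (mul_inv_eq_one.1 (h i)).symm))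
      · have := h (tpt 0)
        rw [h0, mul_inv_cancel] at this
        exact absurd this (by decide)
    · rintro ⟨⟨σ, c, hc⟩, u⟩
      refine ⟨⟨(σ, fun i => u * (c (tpt 0))⁻¹ * c i), fun x hx => ?_⟩, ?_⟩
      · have e : monomialMap σ (fun i => u * (c (tpt 0))⁻¹ * c i) x =
            ((u * (c (tpt 0))⁻¹ : (ZMod 3)ˣ) : ZMod 3) • monomialMap σ c x :=
          funext fun i => by simp only [monomialMap, Pi.smul_apply, smul_eq_mul, Units.val_mul, mul_assoc]
        rw [e]
        exact Submodule.smul_mem _ _ (hc x hx)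
      · exact Prod.ext rfl (inv_mul_cancel_right _ _)
  rw [Nat.card_eq_of_bijective Φ hbij, Nat.card_prod, Nat.card_coe_set_eq, card_permParts,
    Nat.card_eq_fintype_card, ZMod.card_units]

end Cfsg.Agent.Spor
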