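import Cfsg.Agent.Lib.Spor.ThreeString
import Cfsg.Agent.Lib.Spor.ThreeWidth
import Cfsg.Agent.Lib.Spor.ThreeRelations
import Cfsg.Prelude.Def_FischerSpaces

/-!
Fischer spaces: the line system of a 3-transposition group, and the involutions of a Fischer space.
-/

set_option autoImplicit false
set_option synthInstance.maxSize 1000

namespace Cfsg.Agent.Spor

variable {G : Type*} [Group G] {D : Set G}

/-- the third member on the line of two members -/
def third (hconj : ∀ g : G, ∀ d ∈ D, g * d * g⁻¹ ∈ D) (x y : D) : D :=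
  ⟨(y : G) * x * (y : G)⁻¹, hconj y x x.2⟩

theorem third_rotate {E : Set G} (hE : Cfsg.IsThreeTranspositionSet E) {x y : G} (hx : x ∈ E)
    (hy : y ∈ E) (h : ¬ Commute x y) :
    y * x * y = x * y * x ∧ (y * x * y) * x * (y * x * y) = y ∧ (y * x * y) * y * (y * x * y) = x ∧
      x * (y * x * y) * x = y ∧ y * (y * x * y) * y = x := by
  have hxx := mul_self_of_order_two (hE.1 x hx)
  have hyy := mul_self_of_order_two (hE.1 y hy)
  have hb := (braid_of_not hE hx hy h).symm
  have h4 : x * (y * x * y) * x = y := by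
    rw [hb]
    calc x * (x * y * x) * x = (x * x) * y * (x * x) := by simp only [mul_assoc]
      _ = y := by rw [hxx, one_mul, mul_one]
  have h5 : y * (y * x * y) * y = x := by
    calc y * (y * x * y) * y = (y * y) * x * (y * y) := by simp only [mul_assoc]
      _ = x := by rw [hyy, one_mul, mul_one]
  refine ⟨hb, ?_, ?_, h4, h5⟩
  · calc (y * x * y) * x * (y * x * y) = y * x * y * x * (x * y * x) := by rw [← hb]
      _ = y * x * (y * (x * x) * y) * x := by simp only [mul_assoc]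
      _ = y := by rw [hxx, mul_one, hyy, mul_one, mul_assoc, hxx, mul_one]
  · calc (y * x * y) * y * (y * x * y) = y * x * ((y * y) * (y * x * y)) := by simp only [mul_assoc]
      _ = y * x * (x * y * x) := by rw [hyy, one_mul, hb]
      _ = y * (x * x) * y * x := by simp only [mul_assoc]
      _ = x := by rw [hxx, mul_one, hyy, one_mul]

theorem line_pair (hD : Cfsg.IsThreeTranspositionGroup D) {l : Set D}
    (hl : l ∈ Cfsg.threeTranspositionLines D) {p q : D} (hp : p ∈ l) (hq : q ∈ l) (hne : p ≠ q) :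
    ¬ Commute (p : G) q ∧ l = {p, q, third hD.2.1 p q} := by
  obtain ⟨x, y, hxy, rfl⟩ := hl
  obtain ⟨r1, r2, r3, r4, r5⟩ := third_rotate hD.1 x.2 y.2 hxy
  have hxi := inv_of_order_two (hD.1.1 _ x.2)
  have hyi := inv_of_order_two (hD.1.1 _ y.2)
  set z := third hD.2.1 x y with hz
  have hzv : (z : G) = (y : G) * x * y := by rw [hz]; show (y : G) * x * (y : G)⁻¹ = _; rw [hyi]
  have hzi := inv_of_order_two (hD.1.1 _ z.2)
  have hset : {w : D | (w : G) = x ∨ (w : G) = y ∨ (w : G) = (y : G) * (x : G) * (y : G)⁻¹} = {x, y, z} := by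
    ext w
    simp [Subtype.ext_iff, hz, third]
  rw [hset] at hp hq ⊢
  have hxy' : (x : G) ≠ y := fun e => hxy (e ▸ Commute.refl _)
  have hxz : ¬ Commute (x : G) z := fun h => by
    apply hxy'
    have e : (z : G) * x * z = x := by rw [← h.eq, mul_assoc, mul_self_of_order_two (hD.1.1 _ z.2), mul_one]
    rw [hzv, r2] at e; exact e.symm
  have hyz : ¬ Commute (y : G) z := fun h => by
    apply hxy'
    have e : (z : G) * y * z = y := by rw [← h.eq, mul_assoc, mul_self_of_order_two (hD.1.1 _ z.2), mul_one]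
    rw [hzv, r3] at e; exact e
  have e1 : third hD.2.1 y x = z := Subtype.ext (by
    show (x : G) * y * (x : G)⁻¹ = z; rw [hxi, hzv, r1])
  have e2 : third hD.2.1 x z = y := Subtype.ext (by
    show (z : G) * x * (z : G)⁻¹ = y; rw [hzi, hzv, r2])
  have e3 : third hD.2.1 z x = y := Subtype.ext (by
    show (x : G) * z * (x : G)⁻¹ = y; rw [hxi, hzv, r4])
  have e4 : third hD.2.1 y z = x := Subtype.ext (by
    show (z : G) * y * (z : G)⁻¹ = x; rw [hzi, hzv, r3])
  have e5 : third hD.2.1 z y = x := Subtype.ext (by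
    show (y : G) * z * (y : G)⁻¹ = x; rw [hyi, hzv, r5])
  rcases hp with hp | hp | hp <;> rcases hq with hq | hq | hq <;>
    (first | exact absurd (hp.trans hq.symm) hne | skip) <;> rw [hp, hq]
  · exact ⟨hxy, rfl⟩
  · refine ⟨hxz, ?_⟩; rw [e2]; grind
  · refine ⟨fun h => hxy h.symm, ?_⟩; rw [e1]; grind
  · refine ⟨hyz, ?_⟩; rw [e4]; grind
  · refine ⟨fun h => hxz h.symm, ?_⟩; rw [e3]; grind
  · refine ⟨fun h => hyz h.symm, ?_⟩; rw [e5]; grind

theorem line_mem (hD : Cfsg.IsThreeTranspositionGroup D) {x y : D} (h : ¬ Commute (x : G) y) :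
    ({x, y, third hD.2.1 x y} : Set D) ∈ Cfsg.threeTranspositionLines D :=
  ⟨x, y, h, by ext w; simp [Subtype.ext_iff, third]⟩

theorem lines_partialLinear (hD : Cfsg.IsThreeTranspositionGroup D) :
    Cfsg.LineSystem.IsPartialLinear (Cfsg.threeTranspositionLines D) :=
  fun _ hl _ hm _ _ hne hxl hyl hxm hym =>
    (line_pair hD hl hxl hyl hne).2.trans (line_pair hD hm hxm hym hne).2.symm

theorem lines_ncard (hD : Cfsg.IsThreeTranspositionGroup D) {l : Set D}
    (hl : l ∈ Cfsg.threeTranspositionLines D) : l.ncard = 3 := by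
  obtain ⟨x, y, hxy, rfl⟩ := hl
  have hset : {w : D | (w : G) = x ∨ (w : G) = y ∨ (w : G) = (y : G) * (x : G) * (y : G)⁻¹} =
      {x, y, third hD.2.1 x y} := by
    ext w
    simp [Subtype.ext_iff, third]
  rw [hset, Set.ncard_eq_three]
  have h0 : (x : G) ≠ y := fun e => hxy (e ▸ Commute.refl _)
  refine ⟨_, _, _, fun e => h0 (congrArg Subtype.val e), fun e => hxy ?_, fun e => h0 ?_, rfl⟩
  · have e' : (x : G) = (y : G) * x * (y : G)⁻¹ := congrArg Subtype.val e
    exact (eq_mul_inv_iff_mul_eq.1 e')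
  · have e' : (y : G) = (y : G) * x * (y : G)⁻¹ := congrArg Subtype.val e
    exact (mul_left_cancel (a := (y : G)) (eq_mul_inv_iff_mul_eq.1 e')).symm

/-- recognising the plane spanned by two meeting lines -/
theorem isomorphic_of_model (hD : Cfsg.IsThreeTranspositionGroup D) {Y : Type} (M : Set (Set Y))
    (p : Y → D) (hp : Function.Injective p) (A : Set D) (hA : A ⊆ Set.range p)
    (hline : ∀ s t : Y, ¬ Commute (p s : G) (p t) →
      ∃ r : Y, p r = third hD.2.1 (p s) (p t) ∧ ({s, t, r} : Set Y) ∈ M)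
    (hmodel : ∀ m ∈ M, ∃ s t : Y, s ∈ m ∧ t ∈ m ∧ ¬ Commute (p s : G) (p t) ∧
      ∀ r, p r = third hD.2.1 (p s) (p t) → m = {s, t, r})
    (hgen : ∀ T : Set D, A ⊆ T →
      (∀ a ∈ T, ∀ b ∈ T, ¬ Commute (a : G) b → third hD.2.1 a b ∈ T) → ∀ s, p s ∈ T) :
    Cfsg.LineSystem.Isomorphic
      (Cfsg.LineSystem.restrict (Cfsg.threeTranspositionLines D)
        (Cfsg.LineSystem.span (Cfsg.threeTranspositionLines D) A)) M := by
  have hline' : ∀ l ∈ Cfsg.threeTranspositionLines D, ∀ s t : Y, s ≠ t → p s ∈ l → p t ∈ l →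
      ∃ r, l = p '' {s, t, r} ∧ ({s, t, r} : Set Y) ∈ M := by
    intro l hl s t hst hs ht
    obtain ⟨hnc, rfl⟩ := line_pair hD hl hs ht (hp.ne hst)
    obtain ⟨r, hr, hrM⟩ := hline s t hnc
    exact ⟨r, by rw [Set.image_insert_eq, Set.image_insert_eq, Set.image_singleton, hr], hrM⟩
  have hsub : Cfsg.LineSystem.IsSubspace (Cfsg.threeTranspositionLines D) (Set.range p) := by
    rintro l hl _ ⟨s, rfl⟩ _ ⟨t, rfl⟩ hne hs ht
    obtain ⟨r, rfl, -⟩ := hline' l hl s t (fun e => hne (congrArg p e)) hs ht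
    exact Set.image_subset_range _ _
  have hspan : Cfsg.LineSystem.span (Cfsg.threeTranspositionLines D) A = Set.range p := by
    refine le_antisymm (Set.sInter_subset_of_mem ⟨hA, hsub⟩) ?_
    rintro _ ⟨s, rfl⟩
    rintro T ⟨hAT, hT⟩
    refine hgen T hAT (fun a ha b hb hab => ?_) s
    exact hT _ (line_mem hD hab) a ha b hb (fun e => hab (e ▸ Commute.refl _))
      (Set.mem_insert _ _) (Set.mem_insert_of_mem _ (Set.mem_insert _ _))
      (Set.mem_insert_of_mem _ (Set.mem_insert_of_mem _ rfl))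
  rw [hspan]
  refine ⟨(Equiv.ofInjective p hp).symm, fun l' => ⟨?_, ?_⟩⟩
  · rintro ⟨l, hl, hlS, rfl⟩
    obtain ⟨a, b, c, hab, -, -, habc⟩ := Set.ncard_eq_three.1 (lines_ncard hD hl)
    obtain ⟨s, rfl⟩ := hlS (show a ∈ l by rw [habc]; exact Set.mem_insert _ _)
    obtain ⟨t, rfl⟩ := hlS (show b ∈ l by rw [habc]; exact Set.mem_insert_of_mem _ (Set.mem_insert _ _))
    obtain ⟨r, rfl, hM⟩ := hline' l hl s t (fun e => hab (congrArg p e))
      (by rw [habc]; exact Set.mem_insert _ _)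
      (by rw [habc]; exact Set.mem_insert_of_mem _ (Set.mem_insert _ _))
    convert hM using 1
    ext u
    rw [Equiv.image_eq_preimage_symm, Equiv.symm_symm, Set.mem_preimage, Set.mem_ofPred_eq,
      Equiv.ofInjective_apply]
    exact hp.mem_set_image
  · intro h
    obtain ⟨s, t, hs, ht, hnc, hm⟩ := hmodel _ h
    obtain ⟨r, hr, -⟩ := hline s t hnc
    refine ⟨p '' {s, t, r}, ?_, Set.image_subset_range _ _, ?_⟩
    · rw [Set.image_insert_eq, Set.image_insert_eq, Set.image_singleton, hr]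
      exact line_mem hD hnc
    · have h2 := hm r hr
      rw [Equiv.image_eq_preimage_symm, Equiv.symm_symm] at h2
      ext u
      obtain ⟨v, rfl⟩ := (Equiv.ofInjective p hp).surjective u
      rw [Set.mem_ofPred_eq, Equiv.ofInjective_apply, hp.mem_set_image, ← h2, Set.mem_preimage]
      rfl

/-! ### the first plane -/

def planeSwap (s : Cfsg.DualAffinePoint) : Equiv.Perm (Fin 4) :=
  Equiv.swap (s.1.min' (Finset.card_pos.1 (by rw [s.2]; norm_num)))
    (s.1.max' (Finset.card_pos.1 (by rw [s.2]; norm_num)))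

def planeMove (σ : Equiv.Perm (Fin 4)) (s : Cfsg.DualAffinePoint) : Cfsg.DualAffinePoint :=
  ⟨s.1.map σ.toEmbedding, by rw [Finset.card_map, s.2]⟩

theorem planeSwap_injective : Function.Injective planeSwap := by decide

theorem planeSwap_move : ∀ s t : Cfsg.DualAffinePoint,
    planeSwap (planeMove (planeSwap t) s) = planeSwap t * planeSwap s * (planeSwap t)⁻¹ := by decide

theorem dual_line_facts : ∀ s t : Cfsg.DualAffinePoint, planeSwap s * planeSwap t ≠ planeSwap t * planeSwap s →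
    ∃ i : Fin 4, ∀ u : Cfsg.DualAffinePoint,
      i ∉ u.1 ↔ (u = s ∨ u = t ∨ u = planeMove (planeSwap t) s) := by decide

theorem dual_exists_pair : ∀ i : Fin 4, ∃ s t : Cfsg.DualAffinePoint, i ∉ s.1 ∧ i ∉ t.1 ∧
    planeSwap s * planeSwap t ≠ planeSwap t * planeSwap s ∧
      ∀ u : Cfsg.DualAffinePoint, i ∉ u.1 ↔ (u = s ∨ u = t ∨ u = planeMove (planeSwap t) s) := by decide

theorem plane_of_string (hD : Cfsg.IsThreeTranspositionGroup D) {x y u : D}
    (hyu : y ≠ u) (hc : Commute (y : G) u) (hxy : ¬ Commute (x : G) y) (hxu : ¬ Commute (x : G) u) :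
    Cfsg.LineSystem.Isomorphic
      (Cfsg.LineSystem.restrict (Cfsg.threeTranspositionLines D)
        (Cfsg.LineSystem.span (Cfsg.threeTranspositionLines D)
          ({x, y, third hD.2.1 x y} ∪ {x, u, third hD.2.1 x u}))) Cfsg.dualAffinePlaneTwo := by
  obtain ⟨φ, hφ, h01, h12, h23⟩ := three_string hD.1 y.2 x.2 u.2 (fun e => hyu (Subtype.ext e)) hc
    (fun h => hxy h.symm) hxu
  have hgenperm : ∀ s : Cfsg.DualAffinePoint, φ (planeSwap s) ∈ D := by
    intro s
    obtain ⟨σ, hσ⟩ : ∃ σ : Equiv.Perm (Fin 4), planeSwap s = σ * Equiv.swap 0 1 * σ⁻¹ := by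
      revert s; decide
    rw [hσ, map_mul, map_mul, map_inv, h01]
    exact hD.2.1 _ _ y.2
  set p : Cfsg.DualAffinePoint → D := fun s => ⟨φ (planeSwap s), hgenperm s⟩ with hp
  have hpinj : Function.Injective p := fun s t e => planeSwap_injective (hφ (congrArg Subtype.val e))
  have hthird : ∀ s t, third hD.2.1 (p s) (p t) = p (planeMove (planeSwap t) s) := fun s t =>
    Subtype.ext (by
      show φ (planeSwap t) * φ (planeSwap s) * (φ (planeSwap t))⁻¹ = φ (planeSwap _)
      rw [planeSwap_move, map_mul, map_mul, map_inv])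
  have hcomm : ∀ s t, Commute (p s : G) (p t) ↔ planeSwap s * planeSwap t = planeSwap t * planeSwap s := by
    intro s t
    show φ (planeSwap s) * φ (planeSwap t) = φ (planeSwap t) * φ (planeSwap s) ↔ _
    rw [← map_mul, ← map_mul, hφ.eq_iff]
  let P : (a b : Fin 4) → a ≠ b → Cfsg.DualAffinePoint := fun a b h =>
    ⟨{a, b}, Finset.card_pair h⟩
  have hx : p (P 1 2 (by decide)) = x := Subtype.ext h12
  have hy : p (P 0 1 (by decide)) = y := Subtype.ext h01
  have hu : p (P 2 3 (by decide)) = u := Subtype.ext h23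
  refine isomorphic_of_model hD _ p hpinj _ ?_ ?_ ?_ ?_
  · rw [← hx, ← hy, ← hu, hthird, hthird]
    rintro a ((rfl | rfl | rfl) | (rfl | rfl | rfl)) <;> exact ⟨_, rfl⟩
  · intro s t h
    rw [hcomm] at h
    obtain ⟨i, hi⟩ := dual_line_facts s t h
    refine ⟨_, (hthird s t).symm, i, ?_⟩
    ext v
    simp only [Set.mem_insert_iff, Set.mem_singleton_iff, Set.mem_ofPred_eq]
    exact (hi v).symm
  · rintro m ⟨i, rfl⟩
    obtain ⟨s, t, hs, ht, hne, hi⟩ := dual_exists_pair i
    refine ⟨s, t, hs, ht, fun h => hne ((hcomm s t).1 h), fun r hr => ?_⟩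
    rw [hpinj (hr.trans (hthird s t))]
    ext v
    simp only [Set.mem_insert_iff, Set.mem_singleton_iff, Set.mem_ofPred_eq]
    exact hi v
  · intro T hT hcl
    have hx' : x ∈ T := hT (Or.inl (Or.inl rfl))
    have hy' : y ∈ T := hT (Or.inl (Or.inr (Or.inl rfl)))
    have hu' : u ∈ T := hT (Or.inr (Or.inr (Or.inl rfl)))
    have step : ∀ s t, p s ∈ T → p t ∈ T → planeSwap s * planeSwap t ≠ planeSwap t * planeSwap s →
        p (planeMove (planeSwap t) s) ∈ T := fun s t hs ht h => by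
      rw [← hthird]; exact hcl _ hs _ ht (fun e => h ((hcomm s t).1 e))
    have q02 : p (P 0 2 (by decide)) ∈ T := by
      have := step (P 0 1 (by decide)) (P 1 2 (by decide)) (hy ▸ hy') (hx ▸ hx') (by decide)
      rwa [show planeMove (planeSwap (P 1 2 (by decide))) (P 0 1 (by decide)) = P 0 2 (by decide) by decide] at this
    have q13 : p (P 1 3 (by decide)) ∈ T := by
      have := step (P 1 2 (by decide)) (P 2 3 (by decide)) (hx ▸ hx') (hu ▸ hu') (by decide)
      rwa [show planeMove (planeSwap (P 2 3 (by decide))) (P 1 2 (by decide)) = P 1 3 (by decide) by decide] at this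
    have q03 : p (P 0 3 (by decide)) ∈ T := by
      have := step (P 0 1 (by decide)) (P 1 3 (by decide)) (hy ▸ hy') q13 (by decide)
      rwa [show planeMove (planeSwap (P 1 3 (by decide))) (P 0 1 (by decide)) = P 0 3 (by decide) by decide] at this
    intro s
    have hall : ∀ s : Cfsg.DualAffinePoint, s = P 0 1 (by decide) ∨ s = P 0 2 (by decide) ∨
        s = P 0 3 (by decide) ∨ s = P 1 2 (by decide) ∨ s = P 1 3 (by decide) ∨ s = P 2 3 (by decide) := by
      decide
    rcases hall s with h | h | h | h | h | h <;> rw [h]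
    exacts [hy ▸ hy', q02, q03, hx ▸ hx', q13, hu ▸ hu']

/-! ### the second plane -/

def hMul (a b : ZMod 3 × ZMod 3 × ZMod 3) : ZMod 3 × ZMod 3 × ZMod 3 :=
  (a.1 + b.1, a.2.1 + b.2.1, a.2.2 + b.2.2 + a.2.1 * b.1)

def hInv (a : ZMod 3 × ZMod 3 × ZMod 3) : ZMod 3 × ZMod 3 × ZMod 3 :=
  (-a.1, -a.2.1, -a.2.2 + a.1 * a.2.1)

def hPoint (v : Fin 2 → ZMod 3) : ZMod 3 × ZMod 3 × ZMod 3 := (v 0, v 1, 2 * (v 0 * v 1))

theorem hPoint_refl : ∀ v w : Fin 2 → ZMod 3,
    hMul (hMul (hPoint v) (hInv (hPoint w))) (hPoint v) = hPoint (2 • v - w) := by decide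

theorem hPoint_neg : ∀ v : Fin 2 → ZMod 3,
    (-(hPoint v).1, -(hPoint v).2.1, (hPoint v).2.2) = hInv (hPoint v) := by decide

/-- powers indexed by residues modulo three -/
def zp (a : G) (i : ZMod 3) : G := a ^ i.val

theorem zp_add {a : G} (ha : a * a * a = 1) (i j : ZMod 3) : zp a (i + j) = zp a i * zp a j := by
  unfold zp
  rw [← pow_add, ← pow_mod_natCard]
  rw [pow_mod_natCard, ZMod.val_add, ← pow_eq_pow_mod]
  rw [pow_succ, pow_two]; exact ha

theorem zp_commute {a b : G} (h : Commute a b) (i j : ZMod 3) : Commute (zp a i) (zp b j) := h.pow_pow _ _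

theorem affine_pair : ∀ v w : Fin 2 → ZMod 3, v ≠ w → 2 • w - v ≠ v ∧ 2 • w - v ≠ w := by decide

theorem affine_coords : ∀ v : Fin 2 → ZMod 3, v = ![0, 0] ∨ v = ![1, 0] ∨ v = ![-1, 0] ∨ v = ![0, 1] ∨
    v = ![0, -1] ∨ v = ![-1, -1] ∨ v = ![1, 1] ∨ v = ![-1, 1] ∨ v = ![1, -1] := by decide

theorem affine_line_eq : ∀ v d : Fin 2 → ZMod 3,
    ∀ u : Fin 2 → ZMod 3, (∃ c : ZMod 3, u = v + c • d) ↔ (u = v ∨ u = v + d ∨ u = 2 • (v + d) - v) := by
  decide

theorem plane_of_triangle (hD : Cfsg.IsThreeTranspositionGroup D) {x y u : D}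
    (hxy : ¬ Commute (x : G) y) (hxu : ¬ Commute (x : G) u) (hyu : ¬ Commute (y : G) u)
    (hzu : ¬ Commute (third hD.2.1 x y : G) u) (hnot : u ∉ ({x, y, third hD.2.1 x y} : Set D)) :
    Cfsg.LineSystem.Isomorphic
      (Cfsg.LineSystem.restrict (Cfsg.threeTranspositionLines D)
        (Cfsg.LineSystem.span (Cfsg.threeTranspositionLines D)
          ({x, y, third hD.2.1 x y} ∪ {x, u, third hD.2.1 x u}))) Cfsg.affinePlaneThree := by
  have hxx := mul_self_of_order_two (hD.1.1 _ x.2)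
  have hyy := mul_self_of_order_two (hD.1.1 _ y.2)
  have huu := mul_self_of_order_two (hD.1.1 _ u.2)
  have cube : ∀ {c d : D}, ¬ Commute (c : G) d → (c : G) * d * (c * d) * (c * d) = 1 := by
    intro c d h
    have hcc := mul_self_of_order_two (hD.1.1 _ c.2)
    have hdd := mul_self_of_order_two (hD.1.1 _ d.2)
    calc (c : G) * d * (c * d) * (c * d) = (c * d * c) * (d * c * d) := by simp only [mul_assoc]
      _ = (d * c * d) * (d * c * d) := by rw [braid_of_not hD.1 c.2 d.2 h]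
      _ = d * (c * ((d * d) * c)) * d := by simp only [mul_assoc]
      _ = 1 := by rw [hdd, one_mul, hcc, mul_one, hdd]
  set a : G := (x : G) * y with ha
  set b : G := (x : G) * u with hb
  have ha3 : a * a * a = 1 := cube hxy
  have hb3 : b * b * b = 1 := cube hxu
  have hab : a * b * (a * b) * (a * b) = 1 := by
    have e : a * b = (third hD.2.1 x y : G) * u := by
      show (x : G) * y * (x * u) = y * x * (y : G)⁻¹ * u
      rw [inv_of_order_two (hD.1.1 _ y.2), (third_rotate hD.1 x.2 y.2 hxy).1]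
      simp only [mul_assoc]
    rw [e]; exact cube hzu
  have hai : a⁻¹ = y * x := by
    rw [ha, mul_inv_rev, inv_of_order_two (hD.1.1 _ y.2), inv_of_order_two (hD.1.1 _ x.2)]
  have hbi : b⁻¹ = u * x := by
    rw [hb, mul_inv_rev, inv_of_order_two (hD.1.1 _ u.2), inv_of_order_two (hD.1.1 _ x.2)]
  have hab' : a⁻¹ * b * (a⁻¹ * b) * (a⁻¹ * b) = 1 := by
    have e : a⁻¹ * b = (y : G) * u := by
      rw [hai, hb]
      calc (y : G) * x * (x * u) = y * ((x * x) * u) := by simp only [mul_assoc]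
        _ = _ := by rw [hxx, one_mul]
    rw [e]; exact cube hyu
  -- the commutator is central
  set c : G := b * a * b⁻¹ with hcdef
  set d : G := b⁻¹ * a * b with hddef
  have hb2 : b * b = b⁻¹ := eq_inv_of_mul_eq_one_left hb3
  have hb2' : b⁻¹ * b⁻¹ = b := by rw [← mul_inv_rev, hb2, inv_inv]
  have hacd : a * c * d = 1 := by
    calc a * c * d = a * b * a * (b⁻¹ * b⁻¹) * a * b := by rw [hcdef, hddef]; simp only [mul_assoc]
      _ = 1 := by rw [hb2', ← hab]; simp only [mul_assoc]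
  have hdca : d * c * a = 1 := by
    have h1 : a⁻¹ * c⁻¹ * d⁻¹ = 1 := by
      calc a⁻¹ * c⁻¹ * d⁻¹ = a⁻¹ * b * a⁻¹ * (b⁻¹ * b⁻¹) * a⁻¹ * b := by rw [hcdef, hddef]; group
        _ = 1 := by rw [hb2', ← hab']; simp only [mul_assoc]
    calc d * c * a = (a⁻¹ * c⁻¹ * d⁻¹)⁻¹ := by group
      _ = 1 := by rw [h1, inv_one]
  have hac : Commute a c := by
    have e1 : d = (a * c)⁻¹ := eq_inv_of_mul_eq_one_right hacd
    have e2 : d = (c * a)⁻¹ := eq_inv_of_mul_eq_one_left (by rw [← mul_assoc]; exact hdca)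
    exact inv_injective (e1.symm.trans e2)
  set z : G := c * a⁻¹ with hzdef
  have hza : Commute z a := hac.symm.mul_left ((Commute.refl a).inv_left)
  have hz3 : z * z * z = 1 := by
    have hc3 : c * c * c = 1 := by
      calc c * c * c = b * (a * a * a) * b⁻¹ := by rw [hcdef]; group
        _ = 1 := by rw [ha3, mul_one, mul_inv_cancel]
    have hcai : Commute c a⁻¹ := hac.symm.inv_right
    calc z * z * z = c * (a⁻¹ * c) * (a⁻¹ * c) * a⁻¹ := by rw [hzdef]; simp only [mul_assoc]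
      _ = (c * c) * (a⁻¹ * c) * a⁻¹ * a⁻¹ := by rw [← hcai.eq]; simp only [mul_assoc]; rw [← mul_assoc a⁻¹ c, ← hcai.eq]; simp only [mul_assoc]
      _ = (c * c * c) * (a * a * a)⁻¹ := by rw [← hcai.eq]; group
      _ = 1 := by rw [hc3, ha3, inv_one, mul_one]
  have hzb : Commute z b := by
    have e : b * z * b⁻¹ = z := by
      have hd' : d = c⁻¹ * a⁻¹ := by
        rw [← mul_inv_rev]; exact eq_inv_of_mul_eq_one_right hacd
      have hbcb : b * c * b⁻¹ = d := by
        calc b * c * b⁻¹ = (b * b) * a * (b⁻¹ * b⁻¹) := by rw [hcdef]; simp only [mul_assoc]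
          _ = d := by rw [hb2, hb2', hddef]
      calc b * z * b⁻¹ = (b * c * b⁻¹) * (b * a * b⁻¹)⁻¹ := by rw [hzdef]; group
        _ = c⁻¹ * a⁻¹ * c⁻¹ := by rw [hbcb, ← hcdef, hd']
        _ = (c * c)⁻¹ * a⁻¹ := by rw [mul_assoc, ← (hac.symm.inv_inv).eq, ← mul_assoc, ← mul_inv_rev]
        _ = z := by
          have hc3 : c * c * c = 1 := by
            calc c * c * c = b * (a * a * a) * b⁻¹ := by rw [hcdef]; group
              _ = 1 := by rw [ha3, mul_one, mul_inv_cancel]
          rw [← eq_inv_of_mul_eq_one_right hc3, hzdef]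
    exact (mul_inv_eq_iff_eq_mul.1 e).symm
  have hba : b * a = z * a * b := by rw [hzdef, hcdef]; group
  let h : ZMod 3 × ZMod 3 × ZMod 3 → G := fun q => zp a q.1 * zp b q.2.1 * zp z q.2.2
  have hzpows : ∀ i j : ZMod 3, zp b j * zp a i = zp a i * zp b j * zp z (j * i) := by
    have hbase : ∀ n : ℕ, b * a ^ n = a ^ n * b * z ^ n := by
      intro n
      induction n with
      | zero => simp
      | succ n ih =>
        calc b * a ^ (n + 1) = a ^ n * b * (z ^ n * a) := by rw [pow_succ, ← mul_assoc, ih, mul_assoc]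
          _ = a ^ n * (b * a) * z ^ n := by rw [(hza.pow_left n).eq]; simp only [mul_assoc]
          _ = a ^ n * (a * b * z) * z ^ n := by
            rw [hba, mul_assoc z a b, (hza.mul_right hzb).eq]
          _ = a ^ (n + 1) * b * z ^ (n + 1) := by rw [pow_succ a, pow_succ' z]; simp only [mul_assoc]
    have hgen : ∀ m n : ℕ, b ^ m * a ^ n = a ^ n * b ^ m * z ^ (m * n) := by
      intro m n
      induction m with
      | zero => simp
      | succ m ih =>
        calc b ^ (m + 1) * a ^ n = b ^ m * (a ^ n * b * z ^ n) := by rw [pow_succ, mul_assoc, hbase]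
          _ = (b ^ m * a ^ n) * b * z ^ n := by simp only [mul_assoc]
          _ = a ^ n * b ^ m * (z ^ (m * n) * b) * z ^ n := by rw [ih]; simp only [mul_assoc]
          _ = a ^ n * b ^ (m + 1) * z ^ ((m + 1) * n) := by
            rw [(hzb.pow_left _).eq, add_mul, one_mul, pow_add z, pow_succ b]; simp only [mul_assoc]
    intro i j
    unfold zp
    rw [hgen, ZMod.val_mul, ← pow_eq_pow_mod]
    rw [pow_succ, pow_two]; exact hz3
  have hmul : ∀ p q, h p * h q = h (hMul p q) := by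
    rintro ⟨i, j, k⟩ ⟨i', j', k'⟩
    show zp a i * zp b j * zp z k * (zp a i' * zp b j' * zp z k') = zp a (i + i') * zp b (j + j') * zp z (k + k' + j * i')
    rw [zp_add ha3, zp_add hb3, zp_add hz3, zp_add hz3]
    have c1 : ∀ (s t : ZMod 3), Commute (zp z s) (zp a t) := fun s t => zp_commute hza s t
    have c2 : ∀ (s t : ZMod 3), Commute (zp z s) (zp b t) := fun s t => zp_commute hzb s t
    calc zp a i * zp b j * zp z k * (zp a i' * zp b j' * zp z k')
        = zp a i * zp b j * (zp z k * (zp a i' * zp b j')) * zp z k' := by simp only [mul_assoc]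
      _ = zp a i * (zp b j * zp a i') * zp b j' * (zp z k * zp z k') := by
          rw [((c1 k i').mul_right (c2 k j')).eq]; simp only [mul_assoc]
      _ = zp a i * zp a i' * zp b j * (zp z (j * i') * zp b j') * (zp z k * zp z k') := by
          rw [hzpows]; simp only [mul_assoc]
      _ = _ := by
          rw [(c2 _ _).eq, ((zp_commute (Commute.refl z) (j * i') k).mul_right
            (zp_commute (Commute.refl z) (j * i') k')).eq.symm]
          simp only [mul_assoc]
  have hzero : h (0, 0, 0) = 1 := by simp [h, zp]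
  have hinv : ∀ p, (h p)⁻¹ = h (hInv p) := fun p => by
    refine inv_eq_of_mul_eq_one_right ?_
    rw [hmul, show hMul p (hInv p) = (0, 0, 0) by revert p; decide, hzero]
  have hxa : (x : G) * a * x = a⁻¹ := by
    rw [hai, ha]
    calc (x : G) * (x * y) * x = (x * x) * (y * x) := by simp only [mul_assoc]
      _ = _ := by rw [hxx, one_mul]
  have hxb : (x : G) * b * x = b⁻¹ := by
    rw [hbi, hb]
    calc (x : G) * (x * u) * x = (x * x) * (u * x) := by simp only [mul_assoc]
      _ = _ := by rw [hxx, one_mul]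
  have hxi := inv_of_order_two (hD.1.1 _ x.2)
  have hxz : (x : G) * z * x = z := by
    have e0 : ∀ g g' : G, (x : G) * (g * g') * x = (x * g * x) * (x * g' * x) := fun g g' => by
      calc (x : G) * (g * g') * x = x * g * (x * x) * g' * x := by rw [hxx, mul_one]; simp only [mul_assoc]
        _ = _ := by simp only [mul_assoc]
    have e0' : ∀ g : G, (x : G) * g⁻¹ * x = (x * g * x)⁻¹ := fun g => by
      rw [mul_inv_rev, mul_inv_rev, hxi, mul_assoc]
    have e1 : (x : G) * z * x = b⁻¹ * a⁻¹ * b * a := by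
      rw [hzdef, hcdef, e0, e0', e0, e0, e0', hxa, hxb, inv_inv, inv_inv]
    rw [e1]
    calc b⁻¹ * a⁻¹ * b * a = b⁻¹ * a⁻¹ * (b * a) := by simp only [mul_assoc]
      _ = b⁻¹ * a⁻¹ * (a * b * z) := by rw [hba, mul_assoc z a b, (hza.mul_right hzb).eq]
      _ = z := by group
  have hconjx : ∀ i j k, (x : G) * h (i, j, k) * x = h (-i, -j, k) := by
    intro i j k
    show (x : G) * (zp a i * zp b j * zp z k) * x = zp a (-i) * zp b (-j) * zp z k
    have e0 : ∀ g g' : G, (x : G) * (g * g') * x = (x * g * x) * (x * g' * x) := fun g g' => by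
      calc (x : G) * (g * g') * x = x * g * (x * x) * g' * x := by rw [hxx, mul_one]; simp only [mul_assoc]
        _ = _ := by simp only [mul_assoc]
    have hpw : ∀ (g : G) (n : ℕ), (x : G) * g ^ n * x = (x * g * x) ^ n := fun g n => by
      induction n with
      | zero => simp [hxx]
      | succ n ih => rw [pow_succ, e0, ih, pow_succ]
    have hneg : ∀ (g : G) (i : ZMod 3), g * g * g = 1 → zp g⁻¹ i = zp g (-i) := fun g i hg => by
      have e : zp g i * zp g (-i) = 1 := by rw [← zp_add hg, add_neg_cancel]; simp [zp]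
      show (g⁻¹) ^ i.val = _
      rw [inv_pow]
      exact inv_eq_of_mul_eq_one_right e
    rw [e0, e0]
    unfold zp
    rw [hpw, hpw, hpw, hxa, hxb, hxz]
    show zp a⁻¹ i * zp b⁻¹ j * zp z k = _
    rw [hneg a i ha3, hneg b j hb3]
    rfl
  set g : (Fin 2 → ZMod 3) → G := fun v => h (hPoint v) with hg
  have hxg : ∀ v, (x : G) * g v * x = (g v)⁻¹ := fun v => by
    show (x : G) * h ((hPoint v).1, (hPoint v).2.1, (hPoint v).2.2) * x = _
    rw [hconjx, hPoint_neg, hinv]
  have hrefl : ∀ v w, (x * g v) * (x * g w) * (x * g v) = (x : G) * g (2 • v - w) := by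
    intro v w
    calc (x : G) * g v * (x * g w) * (x * g v) = x * g v * (x * g w * x) * g v := by simp only [mul_assoc]
      _ = x * (g v * (g w)⁻¹ * g v) := by rw [hxg]; simp only [mul_assoc]
      _ = _ := by
        show (x : G) * (h (hPoint v) * (h (hPoint w))⁻¹ * h (hPoint v)) = _
        rw [hinv, hmul, hmul, hPoint_refl]
  have ginvol : ∀ v, (x : G) * g v * (x * g v) = 1 := fun v => by
    calc (x : G) * g v * (x * g v) = (x * g v * x) * g v := by simp only [mul_assoc]
      _ = 1 := by rw [hxg, inv_mul_cancel]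
  have p00 : (x : G) * g ![0, 0] = x := by
    simp [hg, h, hPoint, zp]
  have p10 : (x : G) * g ![1, 0] = y := by
    simp [hg, h, hPoint, zp, ha, ZMod.val_one, ← mul_assoc, hxx]
  have p01 : (x : G) * g ![0, 1] = u := by
    simp [hg, h, hPoint, zp, hb, ZMod.val_one, ← mul_assoc, hxx]
  have pthird : ∀ v w, ((x : G) * g v) * (x * g w) * ((x : G) * g v)⁻¹ = (x : G) * g (2 • v - w) := fun v w => by
    rw [inv_eq_of_mul_eq_one_right (ginvol v), hrefl]
  have q : ∀ v w z' : Fin 2 → ZMod 3, 2 • v - w = z' → (x : G) * g v ∈ D → (x : G) * g w ∈ D →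
      (x : G) * g z' ∈ D := fun v w z' e hv hw => e ▸ pthird v w ▸ hD.2.1 _ _ hw
  have hmem : ∀ v, (x : G) * g v ∈ D := by
    have m0 : (x : G) * g ![0, 0] ∈ D := p00.symm ▸ x.2
    have m1 : (x : G) * g ![1, 0] ∈ D := p10.symm ▸ y.2
    have m2 : (x : G) * g ![0, 1] ∈ D := p01.symm ▸ u.2
    have m3 := q ![0, 0] ![1, 0] ![-1, 0] (by decide) m0 m1
    have m4 := q ![0, 0] ![0, 1] ![0, -1] (by decide) m0 m2
    have m5 := q ![1, 0] ![0, 1] ![-1, -1] (by decide) m1 m2
    have m6 := q ![0, 0] ![-1, -1] ![1, 1] (by decide) m0 m5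
    have m7 := q ![1, 0] ![0, -1] ![-1, 1] (by decide) m1 m4
    have m8 := q ![0, 0] ![-1, 1] ![1, -1] (by decide) m0 m7
    intro v
    rcases affine_coords v with r | r | r | r | r | r | r | r | r <;> rw [r] <;> assumption
  set p : (Fin 2 → ZMod 3) → D := fun v => ⟨(x : G) * g v, hmem v⟩ with hp
  have hth : ∀ v w, third hD.2.1 (p v) (p w) = p (2 • w - v) := fun v w => Subtype.ext (pthird w v)
  have hx : p ![0, 0] = x := Subtype.ext p00
  have hy : p ![1, 0] = y := Subtype.ext p10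
  have hu : p ![0, 1] = u := Subtype.ext p01
  have hz : p ![-1, 0] = third hD.2.1 x y := by
    rw [← hx, ← hy, hth]; congr 1; decide
  have hpinj : Function.Injective p := by
    intro v w e
    by_contra hvw
    have key : ∀ t, p (2 • t - v) = p (2 • t - w) := fun t => by rw [← hth, ← hth, e]
    have ne1 : u ≠ third hD.2.1 x y := fun e => hnot (e ▸ Or.inr (Or.inr rfl))
    have neux : u ≠ x := fun e => hnot (e ▸ Or.inl rfl)
    have nxy : x ≠ y := fun e => hxy (e ▸ Commute.refl _)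
    have ncases : ∀ δ : Fin 2 → ZMod 3, δ ≠ 0 → p δ = x → False := by
      have sym : ∀ δ, p δ = x → p (-δ) = x := fun δ hδ => by
        have := hth δ ![0, 0]
        rw [hδ, hx] at this
        rw [(by decide : ∀ w : Fin 2 → ZMod 3, -w = 2 • ![0, 0] - w) δ, ← this]
        exact Subtype.ext (mul_inv_cancel_right _ _)
      intro δ hδ hpx
      have hpx' := sym δ hpx
      have bad1 : p ![-1, -1] ≠ x := fun e1 => ne1 <| by
        have e2 := hth ![-1, -1] ![1, 0]
        rw [e1, hy, (by decide : 2 • (![1, 0] : Fin 2 → ZMod 3) - (![-1, -1] : Fin 2 → ZMod 3) = ![0, 1]), hu] at e2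
        exact e2.symm
      have bad2 : p ![-1, 1] ≠ x := fun e1 => hnot <| by
        have e2 := hth ![-1, 1] ![1, 0]
        rw [e1, hy, (by decide : 2 • (![1, 0] : Fin 2 → ZMod 3) - (![-1, 1] : Fin 2 → ZMod 3) = ![0, -1])] at e2
        have e3 := hth ![0, -1] ![0, 0]
        have e4 := hth ![-1, 0] ![0, 0]
        rw [← e2, hx, (by decide : 2 • (![0, 0] : Fin 2 → ZMod 3) - (![0, -1] : Fin 2 → ZMod 3) = ![0, 1]), hu] at e3
        rw [hz, hx, (by decide : 2 • (![0, 0] : Fin 2 → ZMod 3) - (![-1, 0] : Fin 2 → ZMod 3) = ![1, 0]), hy] at e4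
        exact Or.inr (Or.inl (e3.symm.trans e4))
      rcases affine_coords δ with r | r | r | r | r | r | r | r | r <;> subst r
      · exact hδ (by decide)
      · exact nxy (hpx.symm.trans hy)
      · rw [show (-![(-1 : ZMod 3), 0]) = ![1, 0] by decide] at hpx'; exact nxy (hpx'.symm.trans hy)
      · exact neux (hu.symm.trans hpx)
      · rw [show (-![(0 : ZMod 3), -1]) = ![0, 1] by decide] at hpx'; exact neux (hu.symm.trans hpx')
      · exact bad1 hpx
      · rw [show (-![(1 : ZMod 3), 1]) = ![-1, -1] by decide] at hpx'; exact bad1 hpx'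
      · exact bad2 hpx
      · rw [show (-![(1 : ZMod 3), -1]) = ![-1, 1] by decide] at hpx'; exact bad2 hpx'
    have h0 := key (2 • v)
    rw [(by decide : ∀ t : Fin 2 → ZMod 3, 2 • (2 • t) - t = 0) v,
      show (0 : Fin 2 → ZMod 3) = ![0, 0] by decide, hx] at h0
    exact ncases _ (fun e => hvw ((by decide : ∀ a b : Fin 2 → ZMod 3, 2 • (2 • a) - b = 0 → a = b) v w e))
      h0.symm
  refine isomorphic_of_model hD _ p hpinj _ ?_ ?_ ?_ ?_
  · rw [← hx, ← hy, ← hu, hth, hth]
    rintro s ((rfl | rfl | rfl) | (rfl | rfl | rfl)) <;> exact ⟨_, rfl⟩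
  · intro v w hnc
    refine ⟨_, (hth v w).symm, v, w - v, fun e => hnc ?_, ?_⟩
    · rw [sub_eq_zero] at e; rw [e]
    · ext t
      rw [Set.mem_ofPred_eq, affine_line_eq, add_sub_cancel]
      simp
  · rintro m ⟨v, w, hw, rfl⟩
    have hvw : v ≠ v + w := fun e => hw (by simpa using e.symm)
    refine ⟨v, v + w, ⟨0, by simp⟩, ⟨1, by simp⟩, fun hc => ?_, fun r hr => ?_⟩
    · refine (affine_pair v (v + w) hvw).1 (hpinj ?_)
      rw [← hth]
      exact Subtype.ext ((mul_inv_eq_iff_eq_mul).2 hc.symm.eq)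
    · rw [hpinj (hr.trans (hth v (v + w)))]
      ext t
      rw [Set.mem_ofPred_eq, affine_line_eq]
      simp
  · intro T hT hcl
    have step : ∀ v w z', 2 • w - v = z' → v ≠ w → p v ∈ T → p w ∈ T → p z' ∈ T := by
      intro v w z' e hvw hv hw
      rw [← e, ← hth]
      refine hcl _ hv _ hw fun hc => (affine_pair v w hvw).1 (hpinj ?_)
      rw [← hth]
      exact Subtype.ext ((mul_inv_eq_iff_eq_mul).2 hc.symm.eq)
    have m0 : p ![0, 0] ∈ T := hx.symm ▸ hT (Or.inl (Or.inl rfl))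
    have m1 : p ![1, 0] ∈ T := hy.symm ▸ hT (Or.inl (Or.inr (Or.inl rfl)))
    have m2 : p ![0, 1] ∈ T := hu.symm ▸ hT (Or.inr (Or.inr (Or.inl rfl)))
    have m3 := step ![1, 0] ![0, 0] ![-1, 0] (by decide) (by decide) m1 m0
    have m4 := step ![0, 1] ![0, 0] ![0, -1] (by decide) (by decide) m2 m0
    have m5 := step ![0, 1] ![1, 0] ![-1, -1] (by decide) (by decide) m2 m1
    have m6 := step ![-1, -1] ![0, 0] ![1, 1] (by decide) (by decide) m5 m0
    have m7 := step ![0, -1] ![1, 0] ![-1, 1] (by decide) (by decide) m4 m1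
    have m8 := step ![-1, 1] ![0, 0] ![1, -1] (by decide) (by decide) m7 m0
    intro v
    rcases affine_coords v with r | r | r | r | r | r | r | r | r <;> rw [r] <;> assumption

theorem fischerSpace_of_group (hD : Cfsg.IsThreeTranspositionGroup D) :
    Cfsg.IsFischerSpace (Cfsg.threeTranspositionLines D) := by
  refine ⟨lines_partialLinear hD, fun l hl => lines_ncard hD hl, fun l hl m hm hlm => ?_⟩
  rintro ⟨(x : D), hxl, hxm⟩
  have pick : ∀ {l : Set D}, l ∈ Cfsg.threeTranspositionLines D → x ∈ l →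
      ∃ y : D, ¬ Commute (x : G) y ∧ l = {x, y, third hD.2.1 x y} := by
    intro l hl hxl
    obtain ⟨y, hy, hne⟩ := Set.exists_ne_of_one_lt_ncard (by rw [lines_ncard hD hl]; norm_num) x
    exact ⟨y, line_pair hD hl hxl hy hne.symm⟩
  obtain ⟨y, hxy, rfl⟩ := pick hl hxl
  obtain ⟨u, hxu, rfl⟩ := pick hm hxm
  have hnot : u ∉ ({x, y, third hD.2.1 x y} : Set D) := fun hu =>
    hlm (lines_partialLinear hD _ hl _ hm x u (fun e => hxu (e ▸ Commute.refl _)) hxl hu hxm
      (Or.inr (Or.inl rfl)))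
  by_cases h1 : Commute (y : G) u
  · exact Or.inl (plane_of_string hD (fun e => hnot (e ▸ Or.inr (Or.inl rfl))) h1 hxy hxu)
  by_cases h2 : Commute (third hD.2.1 x y : G) u
  · refine Or.inl ?_
    have hz := line_pair hD hl hxl (Or.inr (Or.inr rfl)) (fun e => by
      have e' : (x : G) = (y : G) * x * (y : G)⁻¹ := congrArg Subtype.val e
      exact hxy (eq_mul_inv_iff_mul_eq.1 e'))
    rw [hz.2]
    exact plane_of_string hD (fun e => hnot (e ▸ Or.inr (Or.inr rfl))) h2 hz.1 hxu
  exact Or.inr (plane_of_triangle hD hxy hxu h1 h2 hnot)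

/-! ### the involutions of a Fischer space -/

variable {X : Type*} {L : Set (Set X)}

theorem lineMap_eq_third (hL : Cfsg.IsFischerSpace L) {x y z : X} (hl : ({x, y, z} : Set X) ∈ L)
    (hxy : x ≠ y) (hxz : x ≠ z) (hyz : y ≠ z) : Cfsg.LineSystem.lineMap L x y = z := by
  classical
  have hex : ∃ w : X, w ≠ x ∧ w ≠ y ∧ x ≠ y ∧ ({x, y, w} : Set X) ∈ L :=
    ⟨z, hxz.symm, hyz.symm, hxy, hl⟩
  rw [Cfsg.LineSystem.lineMap, dif_pos hex]
  obtain ⟨h1, h2, -, h3⟩ := hex.choose_spec
  have he := hL.1 _ hl _ h3 x y hxy (Or.inl rfl) (Or.inr (Or.inl rfl)) (Or.inl rfl) (Or.inr (Or.inl rfl))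
  have hm : hex.choose ∈ ({x, y, z} : Set X) := he ▸ Or.inr (Or.inr rfl)
  rcases hm with h | h | h
  · exact absurd h h1
  · exact absurd h h2
  · exact h

theorem lineMap_eq_self (hL : Cfsg.IsFischerSpace L) {x y : X}
    (h : ¬ Cfsg.LineSystem.Collinear L x y) : Cfsg.LineSystem.lineMap L x y = y := by
  classical
  refine dif_neg ?_
  rintro ⟨z, -, -, hne, hl⟩
  exact h ⟨hne, _, hl, Or.inl rfl, Or.inr (Or.inl rfl)⟩

theorem lineMap_fix (x : X) (L : Set (Set X)) : Cfsg.LineSystem.lineMap L x x = x := by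
  classical
  exact dif_neg (fun ⟨_, _, _, h, _⟩ => h rfl)

theorem line_cases (hL : Cfsg.IsFischerSpace L) {l : Set X} (hl : l ∈ L) {x y : X} (hxy : x ≠ y)
    (hx : x ∈ l) (hy : y ∈ l) : ∃ z, x ≠ z ∧ y ≠ z ∧ l = {x, y, z} := by
  obtain ⟨a, b, c, hab, hac, hbc, rfl⟩ := Set.ncard_eq_three.1 (hL.2.1 l hl)
  rcases hx with rfl | rfl | rfl <;> rcases hy with rfl | rfl | rfl <;>
    first
      | exact absurd rfl hxy
      | exact ⟨c, by grind, by grind, by grind⟩
      | exact ⟨b, by grind, by grind, by grind⟩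
      | exact ⟨a, by grind, by grind, by grind⟩

theorem lineMap_involutive (hL : Cfsg.IsFischerSpace L) (x : X) :
    Function.Involutive (Cfsg.LineSystem.lineMap L x) := by
  intro y
  by_cases h : Cfsg.LineSystem.Collinear L x y
  · obtain ⟨hne, l, hl, hx, hy⟩ := h
    obtain ⟨z, hxz, hyz, rfl⟩ := line_cases hL hl hne hx hy
    rw [lineMap_eq_third hL hl hne hxz hyz]
    refine lineMap_eq_third hL ?_ hxz hne hyz.symm
    rw [show ({x, z, y} : Set X) = {x, y, z} by grind]; exact hl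
  · rw [lineMap_eq_self hL h, lineMap_eq_self hL h]

theorem subset_span (S : Set X) : S ⊆ Cfsg.LineSystem.span L S := fun a ha T hT => hT.1 ha

theorem span_subspace (S : Set X) : Cfsg.LineSystem.IsSubspace L (Cfsg.LineSystem.span L S) :=
  fun k hk a ha b hb hne hak hbk c hc T hT => hT.2 k hk a (ha T hT) b (hb T hT) hne hak hbk hc

/-- planes with a map `T` carrying lines to lines -/
theorem lineMap_plane (hL : Cfsg.IsFischerSpace L) {S : Set X} (hS : Cfsg.LineSystem.IsSubspace L S)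
    {Y : Type} {M : Set (Set Y)} (T : Y → Y → Y)
    (hT1 : ∀ s t, Cfsg.LineSystem.Collinear M s t → ({s, t, T s t} : Set Y) ∈ M ∧ T s t ≠ s ∧ T s t ≠ t)
    (hT2 : ∀ s t, ¬ Cfsg.LineSystem.Collinear M s t → T s t = t)
    (hT3 : ∀ s, ∀ m ∈ M, T s '' m ∈ M)
    (e : S ≃ Y) (he : Cfsg.LineSystem.IsIso (Cfsg.LineSystem.restrict L S) M e)
    {x : X} (hx : x ∈ S) {k : Set X} (hk : k ∈ L) (hkS : k ⊆ S) :
    Cfsg.LineSystem.lineMap L x '' k ∈ L := by
  have hcol : ∀ y : S, Cfsg.LineSystem.Collinear L x y ↔ Cfsg.LineSystem.Collinear M (e ⟨x, hx⟩) (e y) := by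
    intro y
    constructor
    · rintro ⟨hne, l, hl, hxl, hyl⟩
      have hlS := hS l hl x hx y y.2 hne hxl hyl
      refine ⟨fun e' => hne (congrArg Subtype.val (e.injective e')), _,
        (he {w : S | (w : X) ∈ l}).1 ⟨l, hl, hlS, rfl⟩, ⟨_, hxl, rfl⟩, ⟨_, hyl, rfl⟩⟩
    · rintro ⟨hne, m, hm, hxm, hym⟩
      obtain ⟨l, hl, -, hl'⟩ := (he (e ⁻¹' m)).2 (by rwa [Equiv.image_preimage])
      refine ⟨fun e' => hne (congrArg e (Subtype.ext e')), l, hl, ?_, ?_⟩
      · have h1 : (⟨x, hx⟩ : S) ∈ e ⁻¹' m := hxm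
        rw [hl'] at h1; exact h1
      · have h1 : y ∈ e ⁻¹' m := hym
        rw [hl'] at h1; exact h1
  have hval : ∀ y : S, Cfsg.LineSystem.lineMap L x y = (e.symm (T (e ⟨x, hx⟩) (e y)) : X) := by
    intro y
    by_cases h : Cfsg.LineSystem.Collinear L x y
    · obtain ⟨hm, h1, h2⟩ := hT1 _ _ ((hcol y).1 h)
      set t := e.symm (T (e ⟨x, hx⟩) (e y)) with ht
      obtain ⟨l, hl, hlS, hl'⟩ := (he (e ⁻¹' {e ⟨x, hx⟩, e y, T (e ⟨x, hx⟩) (e y)})).2
        (by rwa [Equiv.image_preimage])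
      have hmem : ∀ w : S, (w : X) ∈ l ↔ (w = ⟨x, hx⟩ ∨ w = y ∨ w = t) := fun w => by
        have := Set.ext_iff.1 hl' w
        simp only [Set.mem_preimage, Set.mem_insert_iff, Set.mem_singleton_iff, Set.mem_ofPred_eq] at this
        rw [← this]
        simp [ht, Equiv.eq_symm_apply, e.injective.eq_iff]
      have hle : l = {x, (y : X), (t : X)} := by
        ext w
        constructor
        · intro hw
          rcases (hmem ⟨w, hlS hw⟩).1 hw with h | h | h
          · exact Or.inl (congrArg Subtype.val h)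
          · exact Or.inr (Or.inl (congrArg Subtype.val h))
          · exact Or.inr (Or.inr (congrArg Subtype.val h))
        · rintro (rfl | rfl | rfl)
          exacts [(hmem ⟨_, hx⟩).2 (Or.inl rfl), (hmem y).2 (Or.inr (Or.inl rfl)), (hmem t).2 (Or.inr (Or.inr rfl))]
      refine lineMap_eq_third hL (hle ▸ hl) h.1 (fun e' => h1 ?_) (fun e' => h2 ?_)
      · rw [← e.apply_symm_apply (T _ _), ← ht]; exact congrArg e (Subtype.ext e').symm
      · rw [← e.apply_symm_apply (T _ _), ← ht]; exact congrArg e (Subtype.ext e').symm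
    · rw [lineMap_eq_self hL h, hT2 _ _ (fun h' => h ((hcol y).2 h')), Equiv.symm_apply_apply]
  obtain ⟨l, hl, hlS, hl'⟩ := (he (e ⁻¹' (T (e ⟨x, hx⟩) '' (e '' {w : S | (w : X) ∈ k})))).2
    (by rw [Equiv.image_preimage]; exact hT3 _ _ ((he _).1 ⟨k, hk, hkS, rfl⟩))
  suffices h : Cfsg.LineSystem.lineMap L x '' k = l by rw [h]; exact hl
  ext w
  constructor
  · rintro ⟨v, hv, rfl⟩
    rw [hval ⟨v, hkS hv⟩]
    have h1 : e.symm (T (e ⟨x, hx⟩) (e ⟨v, hkS hv⟩)) ∈
        e ⁻¹' (T (e ⟨x, hx⟩) '' (e '' {w : S | (w : X) ∈ k})) :=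
      ⟨_, ⟨⟨v, hkS hv⟩, hv, rfl⟩, (e.apply_symm_apply _).symm⟩
    rw [hl'] at h1; exact h1
  · intro hw
    have h1 : (⟨w, hlS hw⟩ : S) ∈ e ⁻¹' (T (e ⟨x, hx⟩) '' (e '' {w : S | (w : X) ∈ k})) := by
      rw [hl']; exact hw
    obtain ⟨_, ⟨v, hv, rfl⟩, hv'⟩ := h1
    exact ⟨v, hv, by rw [hval v, hv', Equiv.symm_apply_apply]⟩

theorem dual_move_spec : ∀ s t : Cfsg.DualAffinePoint,
    if s ≠ t ∧ ∃ i : Fin 4, i ∉ s.1 ∧ i ∉ t.1
    then (∃ i : Fin 4, ∀ u : Cfsg.DualAffinePoint, i ∉ u.1 ↔ (u = s ∨ u = t ∨ u = planeMove (planeSwap s) t)) ∧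
      planeMove (planeSwap s) t ≠ s ∧ planeMove (planeSwap s) t ≠ t
    else planeMove (planeSwap s) t = t := by decide

theorem dual_move_line : ∀ s : Cfsg.DualAffinePoint, ∀ i : Fin 4, ∃ j : Fin 4,
    ∀ u : Cfsg.DualAffinePoint, j ∉ u.1 ↔ ∃ v : Cfsg.DualAffinePoint, i ∉ v.1 ∧ planeMove (planeSwap s) v = u := by
  decide

theorem lineMap_maps_line (hL : Cfsg.IsFischerSpace L) (x : X) {m : Set X} (hm : m ∈ L) :
    Cfsg.LineSystem.lineMap L x '' m ∈ L := by
  by_cases hxm : x ∈ m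
  · suffices h : Cfsg.LineSystem.lineMap L x '' m = m by rw [h]; exact hm
    have sub : Cfsg.LineSystem.lineMap L x '' m ⊆ m := by
      rintro _ ⟨y, hy, rfl⟩
      by_cases he : x = y
      · subst he; rwa [lineMap_fix]
      · obtain ⟨z, hxz, hyz, rfl⟩ := line_cases hL hm he hxm hy
        rw [lineMap_eq_third hL hm he hxz hyz]
        exact Or.inr (Or.inr rfl)
    exact le_antisymm sub fun y hy => ⟨_, sub ⟨y, hy, rfl⟩, lineMap_involutive hL x y⟩
  by_cases h : ∃ y ∈ m, Cfsg.LineSystem.Collinear L x y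
  · obtain ⟨y, hy, hne, l, hl, hxl, hyl⟩ := h
    set S := Cfsg.LineSystem.span L (l ∪ m)
    have hsub := span_subspace (L := L) (l ∪ m)
    have hx : x ∈ S := subset_span _ (Or.inl hxl)
    have hmS : m ⊆ S := fun a ha => subset_span _ (Or.inr ha)
    rcases hL.2.2 l hl m hm (fun e => hxm (e ▸ hxl)) ⟨y, hyl, hy⟩ with ⟨e, he⟩ | ⟨e, he⟩
    · refine lineMap_plane hL hsub (fun s t => planeMove (planeSwap s) t) ?_ ?_ ?_ e he hx hm hmS
      · rintro s t ⟨hne', _, ⟨i, rfl⟩, hs, ht⟩
        have hspec := dual_move_spec s t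
        rw [if_pos ⟨hne', i, hs, ht⟩] at hspec
        obtain ⟨⟨j, hj⟩, h1, h2⟩ := hspec
        refine ⟨⟨j, ?_⟩, h1, h2⟩
        ext u
        simp only [Set.mem_insert_iff, Set.mem_singleton_iff, Set.mem_ofPred_eq]
        exact (hj u).symm
      · intro s t hn
        have hspec := dual_move_spec s t
        rw [if_neg (fun ⟨hne', i, hs, ht⟩ => hn ⟨hne', _, ⟨i, rfl⟩, hs, ht⟩)] at hspec
        exact hspec
      · rintro s _ ⟨i, rfl⟩
        obtain ⟨j, hj⟩ := dual_move_line s i
        exact ⟨j, Set.ext fun u => (hj u).symm⟩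
    · refine lineMap_plane hL hsub (fun s t => 2 • s - t) ?_ ?_ ?_ e he hx hm hmS
      · rintro s t ⟨hne', -⟩
        refine ⟨⟨t, s - t, sub_ne_zero.2 hne', ?_⟩, ?_⟩
        · ext u
          rw [Set.mem_ofPred_eq, affine_line_eq, add_sub_cancel]
          simp only [Set.mem_insert_iff, Set.mem_singleton_iff]
          tauto
        · exact ⟨(affine_pair t s hne'.symm).2, (affine_pair t s hne'.symm).1⟩
      · intro s t hn
        by_cases he' : s = t
        · subst he'; abel
        · exact absurd ⟨he', {u | ∃ c : ZMod 3, u = s + c • (t - s)}, ⟨s, t - s, sub_ne_zero.2 (Ne.symm he'), rfl⟩,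
            ⟨0, by simp⟩, ⟨1, by simp⟩⟩ hn
      · rintro s _ ⟨v, w, hw, rfl⟩
        refine ⟨2 • s - v, w, hw, ?_⟩
        ext u
        constructor
        · rintro ⟨_, ⟨c, rfl⟩, rfl⟩
          exact ⟨-c, by rw [neg_smul]; abel⟩
        · rintro ⟨c, rfl⟩
          exact ⟨v + (-c) • w, ⟨-c, rfl⟩, by rw [neg_smul]; abel⟩
  · push Not at h
    suffices h' : Cfsg.LineSystem.lineMap L x '' m = m by rw [h']; exact hm
    exact (Set.image_congr fun y hy => lineMap_eq_self hL (h y hy)).trans (Set.image_id' m)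

/-- the involution of a point as a permutation -/
noncomputable def linePerm (hL : Cfsg.IsFischerSpace L) (x : X) : Equiv.Perm X :=
  (lineMap_involutive hL x).toPerm _

theorem linePerm_isIso (hL : Cfsg.IsFischerSpace L) (x : X) : Cfsg.LineSystem.IsIso L L (linePerm hL x) := by
  refine fun l => ⟨fun hl => lineMap_maps_line hL x hl, fun hl => ?_⟩
  have := lineMap_maps_line hL x hl
  rw [show (⇑(linePerm hL x) : X → X) = Cfsg.LineSystem.lineMap L x from rfl, ← Set.image_comp,
    (lineMap_involutive hL x).comp_self, Set.image_id] at this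
  exact this

theorem linePerm_sq (hL : Cfsg.IsFischerSpace L) (x : X) : linePerm hL x * linePerm hL x = 1 :=
  Equiv.ext (lineMap_involutive hL x)

theorem linePerm_equivariant (hL : Cfsg.IsFischerSpace L) {σ : Equiv.Perm X}
    (hσ : Cfsg.LineSystem.IsIso L L σ) (y : X) :
    σ * linePerm hL y * σ⁻¹ = linePerm hL (σ y) := by
  refine Equiv.ext fun w => ?_
  obtain ⟨v, rfl⟩ := σ.surjective w
  rw [Equiv.Perm.mul_apply, Equiv.Perm.mul_apply, Equiv.Perm.inv_def, Equiv.symm_apply_apply]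
  show σ (Cfsg.LineSystem.lineMap L y v) = Cfsg.LineSystem.lineMap L (σ y) (σ v)
  by_cases h : Cfsg.LineSystem.Collinear L y v
  · obtain ⟨hne, l, hl, hyl, hvl⟩ := h
    obtain ⟨z, hyz, hvz, rfl⟩ := line_cases hL hl hne hyl hvl
    rw [lineMap_eq_third hL hl hne hyz hvz]
    have hi := (hσ _).1 hl
    rw [Set.image_insert_eq, Set.image_insert_eq, Set.image_singleton] at hi
    rw [lineMap_eq_third hL hi (σ.injective.ne hne) (σ.injective.ne hyz) (σ.injective.ne hvz)]
  · rw [lineMap_eq_self hL h, lineMap_eq_self hL]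
    rintro ⟨hne, l, hl, hyl, hvl⟩
    refine h ⟨fun e => hne (congrArg σ e), σ ⁻¹' l, (hσ _).2 ?_, hyl, hvl⟩
    rwa [Equiv.image_preimage]

theorem linePerm_order (hL : Cfsg.IsFischerSpace L) (hnd : Cfsg.LineSystem.IsNondegenerate L) (x : X) :
    orderOf (linePerm hL x) = 2 := by
  refine orderOf_eq_prime (by rw [sq]; exact linePerm_sq hL x) fun h => ?_
  obtain ⟨l, hl, hxl⟩ := hnd x
  obtain ⟨y, hy, hne⟩ := Set.exists_ne_of_one_lt_ncard (by rw [hL.2.1 l hl]; norm_num) x
  obtain ⟨z, hxz, hyz, rfl⟩ := line_cases hL hl hne.symm hxl hy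
  have := congrArg (fun σ : Equiv.Perm X => σ y) h
  exact hyz ((lineMap_eq_third hL hl hne.symm hxz hyz).symm.trans this).symm

theorem linePerm_products (hL : Cfsg.IsFischerSpace L) (x y : X) :
    (linePerm hL x * linePerm hL y) ^ 2 = 1 ∨ (linePerm hL x * linePerm hL y) ^ 3 = 1 := by
  have hx := linePerm_sq hL x
  have hy := linePerm_sq hL y
  have hxi : (linePerm hL x)⁻¹ = linePerm hL x := inv_eq_of_mul_eq_one_right hx
  have hyi : (linePerm hL y)⁻¹ = linePerm hL y := inv_eq_of_mul_eq_one_right hy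
  have e1 := linePerm_equivariant hL (linePerm_isIso hL x) y
  rw [hxi, show linePerm hL x y = Cfsg.LineSystem.lineMap L x y from rfl] at e1
  set a := linePerm hL x
  set b := linePerm hL y
  by_cases h : Cfsg.LineSystem.Collinear L x y
  · obtain ⟨hne, l, hl, hxl, hyl⟩ := h
    obtain ⟨z, hxz, hyz, rfl⟩ := line_cases hL hl hne hxl hyl
    rw [lineMap_eq_third hL hl hne hxz hyz] at e1
    have e2 := linePerm_equivariant hL (linePerm_isIso hL y) x
    have hl' : ({y, x, z} : Set X) ∈ L := by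
      rw [show ({y, x, z} : Set X) = {x, y, z} by grind]; exact hl
    rw [hyi, show linePerm hL y x = Cfsg.LineSystem.lineMap L y x from rfl,
      lineMap_eq_third hL hl' hne.symm hyz hxz] at e2
    refine Or.inr ?_
    calc (a * b) ^ 3 = (a * b * a) * (b * a * b) := by rw [pow_succ, pow_two]; simp only [mul_assoc]
      _ = 1 := by rw [e1, e2]; exact linePerm_sq hL z
  · rw [lineMap_eq_self hL h] at e1
    refine Or.inl ?_
    rw [sq]
    calc a * b * (a * b) = (a * b * a) * b := by simp only [mul_assoc]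
      _ = 1 := by rw [e1, hy]

end Cfsg.Agent.Spor
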