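import Cfsg.Agent.Lib.Spor.ThreeLayer

/-!
Blocks of the conjugation action on a class of 3-transpositions.
-/

set_option autoImplicit false

open scoped Pointwise

namespace Cfsg.Agent.Spor

variable {G : Type*} [Group G]

/-- image of a set under conjugation -/
abbrev cimg (g : G) (B : Set G) : Set G := (fun x => g * x * g⁻¹) '' B

theorem cimg_cimg (g h : G) (B : Set G) : cimg g (cimg h B) = cimg (g * h) B := by
  rw [cimg, cimg, Set.image_image]
  exact Set.image_congr fun x _ => by group

theorem cimg_one (B : Set G) : cimg 1 B = B := by simp [cimg]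

theorem cimg_injective (g : G) : Function.Injective (cimg g) := fun A B h => by
  have := congrArg (cimg g⁻¹) h
  rwa [cimg_cimg, cimg_cimg, inv_mul_cancel, cimg_one, cimg_one] at this

/-- blocks with a common point coincide -/
theorem block_meet {B : Set G} (hB : ∀ g : G, cimg g B = B ∨ Disjoint (cimg g B) B) {g h x : G}
    (hx : x ∈ cimg g B) (hx' : x ∈ cimg h B) : cimg g B = cimg h B := by
  rcases hB (h⁻¹ * g) with e | e
  · have := congrArg (cimg h) e
    rwa [cimg_cimg, mul_inv_cancel_left] at this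
  · exfalso
    suffices H : h⁻¹ * x * h ∈ cimg (h⁻¹ * g) B ∧ h⁻¹ * x * h ∈ B from Set.disjoint_left.1 e H.1 H.2
    refine ⟨?_, ?_⟩
    · obtain ⟨y, hy, rfl⟩ := hx
      exact ⟨y, hy, by group⟩
    · obtain ⟨y, hy, rfl⟩ := hx'
      rw [show h⁻¹ * (h * y * h⁻¹) * h = y by group]
      exact hy

theorem block_self {B : Set G} (hB : ∀ g : G, cimg g B = B ∨ Disjoint (cimg g B) B) {b : G}
    (hb : b ∈ B) : cimg b B = B := by
  have h1 : b ∈ cimg b B := ⟨b, hb, by group⟩
  have h2 : b ∈ cimg 1 B := by rw [cimg_one]; exact hb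
  rw [block_meet hB h1 h2, cimg_one]

/-- two members of a block induce the same map on blocks -/
theorem block_same {D : Set G} (hD : Cfsg.IsThreeTranspositionSet D) {B : Set G} (hBD : B ⊆ D)
    (hB : ∀ g : G, cimg g B = B ∨ Disjoint (cimg g B) B) {b b' : G} (hb : b ∈ B) (hb' : b' ∈ B)
    (h : G) (hC : cimg h B ⊆ D) : cimg b (cimg h B) = cimg b' (cimg h B) := by
  rcases (cimg h B).eq_empty_or_nonempty with he | ⟨c, hc⟩
  · rw [he]; simp [cimg]
  by_cases hsame : cimg h B = B
  · rw [hsame, block_self hB hb, block_self hB hb']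
  have key : ∀ x ∈ B, (Commute x c → cimg x (cimg h B) = cimg h B ∧ cimg c B = B) ∧
      (¬ Commute x c → cimg x (cimg h B) = cimg c B) := by
    intro x hx
    refine ⟨fun hxc => ⟨?_, ?_⟩, fun hxc => ?_⟩
    · have h1 : c ∈ cimg (x * h) B := by
        rw [← cimg_cimg]; exact ⟨c, hc, by show x * c * x⁻¹ = c; rw [hxc.eq, mul_inv_cancel_right]⟩
      rw [cimg_cimg]
      exact block_meet hB h1 hc
    · have h1 : x ∈ cimg c B := ⟨x, hx, by show c * x * c⁻¹ = x; rw [← hxc.eq, mul_inv_cancel_right]⟩
      have h2 : x ∈ cimg 1 B := by rw [cimg_one]; exact hx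
      rw [block_meet hB h1 h2, cimg_one]
    · have h1 : x * c * x⁻¹ ∈ cimg (x * h) B := by
        rw [← cimg_cimg]; exact ⟨c, hc, rfl⟩
      have h2 : x * c * x⁻¹ ∈ cimg c B := by
        refine ⟨x, hx, ?_⟩
        show c * x * c⁻¹ = x * c * x⁻¹
        rw [inv_of_order_two (hD.1 x (hBD hx)), inv_of_order_two (hD.1 c (hC hc))]
        exact (braid_of_not hD (hBD hx) (hC hc) hxc).symm
      rw [cimg_cimg]
      exact block_meet hB h1 h2
  have mixed : ∀ x ∈ B, ∀ y ∈ B, Commute x c → ¬ Commute y c → False := by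
    intro x hx y hy hxc hyc
    have h1 := (key x hx).1 hxc
    have h2 := (key y hy).2 hyc
    rw [h1.2] at h2
    apply hsame
    apply cimg_injective y
    rw [h2, block_self hB hy]
  by_cases hbc : Commute b c <;> by_cases hbc' : Commute b' c
  · rw [((key b hb).1 hbc).1, ((key b' hb').1 hbc').1]
  · exact (mixed b hb b' hb' hbc hbc').elim
  · exact (mixed b' hb' b hb hbc' hbc).elim
  · rw [(key b hb).2 hbc, (key b' hb').2 hbc']

theorem centraliser_qs_le_center [Finite G] {D : Set G} (hD : Cfsg.IsThreeTranspositionClass D)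
    (h2 : Cfsg.pCore 2 G ≤ Subgroup.center G) (h3 : Cfsg.pCore 3 G ≤ Subgroup.center G)
    {L : Subgroup G} [L.Normal] (hL : Cfsg.IsQuasisimple L)
    (hF : Cfsg.generalizedFittingSubgroup G = L ⊔ Subgroup.center G) :
    Subgroup.centralizer (L : Set G) ≤ Subgroup.center G := by
  intro x hx
  have hsub : x ∈ Subgroup.centralizer (Cfsg.generalizedFittingSubgroup G : Set G) := by
    rw [hF, Subgroup.mem_centralizer_iff]
    intro y hy
    obtain ⟨l, hl, z, hz, rfl⟩ := Subgroup.mem_sup_of_normal_left.1 hy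
    rw [mul_assoc, ← Subgroup.mem_center_iff.1 hz x, ← mul_assoc,
      Subgroup.mem_centralizer_iff.1 hx l hl, mul_assoc]
  have hxF := Solv.centralizer_gfit_le hsub
  rw [hF] at hxF
  obtain ⟨l, hl, z, hz, rfl⟩ := Subgroup.mem_sup_of_normal_left.1 hxF
  refine mul_mem ?_ hz
  have hlc : (⟨l, hl⟩ : L) ∈ Subgroup.center L := by
    refine Subgroup.mem_center_iff.2 fun y => Subtype.ext ?_
    have h1 := Subgroup.mem_centralizer_iff.1 hx y y.2
    rw [← mul_assoc, mul_assoc l z, ← Subgroup.mem_center_iff.1 hz (y : G), ← mul_assoc] at h1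
    exact mul_right_cancel h1
  have hcomp : Cfsg.IsComponent L := ⟨(inferInstance : L.Normal).isSubnormal, hL⟩
  exact fitting_le_center (class_isGroup hD) h2 h3 (Solv.center_component_le_fitting hcomp ⟨_, hlc, rfl⟩)

theorem primitive_of_index [Finite G] {D : Set G} (hD : Cfsg.IsThreeTranspositionClass D)
    (hD2 : ∃ a ∈ D, ∃ b ∈ D, a ≠ b) (h2 : Cfsg.pCore 2 G ≤ Subgroup.center G)
    (h3 : Cfsg.pCore 3 G ≤ Subgroup.center G) {L : Subgroup G} [L.Normal] (hL : Cfsg.IsQuasisimple L)
    (hF : Cfsg.generalizedFittingSubgroup G = L ⊔ Subgroup.center G) (hidx : L.index ≤ 2) :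
    Cfsg.IsPrimitiveUnderConj D := by
  have hG := class_isGroup hD
  refine ⟨fun a ha b hb => class_conj hD ha hb, hD2, fun B hBD hB => ?_⟩
  by_contra hcon
  push Not at hcon
  obtain ⟨hns, hne⟩ := hcon
  obtain ⟨b, hb, b', hb', hbb⟩ := hns
  set S : Subgroup G :=
    { carrier := {g | cimg g B = B}
      mul_mem' := fun {p q} hp hq => by
        show cimg (p * q) B = B
        rw [← cimg_cimg, show cimg q B = B from hq]; exact hp
      one_mem' := cimg_one B
      inv_mem' := fun {p} hp => by
        show cimg p⁻¹ B = B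
        conv_lhs => rw [← show cimg p B = B from hp]
        rw [cimg_cimg, inv_mul_cancel, cimg_one] } with hS
  have hsubD : ∀ h : G, cimg h B ⊆ D := by
    rintro h _ ⟨x, hx, rfl⟩; exact hG.2.1 h x (hBD hx)
  have hM : b * b' ∈ S.normalCore := by
    show ∀ h : G, h * (b * b') * h⁻¹ ∈ S
    intro h
    show cimg (h * (b * b') * h⁻¹) B = B
    have e := block_same hD.1 hBD hB hb hb' h⁻¹ (hsubD _)
    have hbb1 : b * b = 1 := mul_self_of_order_two (hD.1.1 b (hBD hb))
    calc cimg (h * (b * b') * h⁻¹) B = cimg h (cimg b (cimg b' (cimg h⁻¹ B))) := by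
          rw [cimg_cimg, cimg_cimg, cimg_cimg]; congr 1; simp only [mul_assoc]
      _ = cimg h (cimg b (cimg b (cimg h⁻¹ B))) := by rw [e]
      _ = B := by rw [cimg_cimg b b, hbb1, cimg_one, cimg_cimg, mul_inv_cancel, cimg_one]
  have hcomp : Cfsg.IsComponent L := ⟨(inferInstance : L.Normal).isSubnormal, hL⟩
  rcases Solv.component_normal_dichotomy hcomp S.normalCore with hLM | hLM
  · have hLS : L ≤ S := hLM.trans S.normalCore_le
    have hbS : b ∈ S := block_self hB hb
    have hSt : S = ⊤ := by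
      rw [eq_top_iff, ← hD.2.2, Subgroup.closure_le]
      intro e he
      by_cases heL : e ∈ L
      · exact hLS heL
      by_cases hbL : b ∈ L
      · exfalso
        obtain ⟨g, rfl⟩ := class_conj hD (hBD hb) he
        exact heL (‹L.Normal›.conj_mem b hbL g)
      have hi2 : L.index = 2 := by
        have h0 : L.index ≠ 0 := Subgroup.FiniteIndex.index_ne_zero
        have h1 : L.index ≠ 1 := fun h => heL (Subgroup.index_eq_one.1 h ▸ Subgroup.mem_top e)
        omega
      have hbe : b * e ∈ L := (Subgroup.mul_mem_iff_of_index_two hi2).2 (iff_of_false hbL heL)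
      have := mul_mem hbS (hLS hbe)
      rwa [← mul_assoc, mul_self_of_order_two (hD.1.1 b (hBD hb)), one_mul] at this
    refine hne (Set.Subset.antisymm hBD fun e he => ?_)
    obtain ⟨g, rfl⟩ := class_conj hD (hBD hb) he
    have hg : cimg g B = B := show g ∈ S from hSt ▸ Subgroup.mem_top g
    rw [← hg]
    exact ⟨b, hb, rfl⟩
  · have hz : b * b' ∈ Subgroup.center G := by
      refine centraliser_qs_le_center hD h2 h3 hL hF (Subgroup.mem_centralizer_iff.2 fun l hl => ?_)
      rw [Subgroup.commutator_eq_bot_iff_le_centralizer] at hLM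
      exact ((Subgroup.mem_centralizer_iff.1 (hLM hl)) _ hM).symm
    have hbD := hBD hb
    have hb'D := hBD hb'
    have hsame : SameV D b b' := fun e he => by
      have hc : Commute (b * b') e := (Subgroup.mem_center_iff.1 hz e).symm
      have hbb1 : b * b = 1 := mul_self_of_order_two (hD.1.1 b hbD)
      have hbb2 : b' * b' = 1 := mul_self_of_order_two (hD.1.1 b' hb'D)
      refine ⟨fun h => ?_, fun h => ?_⟩
      · have := h.mul_left hc
        rwa [← mul_assoc, hbb1, one_mul] at this
      · have := hc.mul_left h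
        rwa [mul_assoc, hbb2, mul_one] at this
    obtain ⟨g, hg, e⟩ := core_two_conj hD hD2 hbD hb'D (hsame.mul_mem_core hG hbD hb'D)
    rw [← Subgroup.mem_center_iff.1 (h2 hg) b, mul_inv_cancel_right] at e
    exact hbb e.symm

theorem index_le_of_connected [Finite G] {D : Set G} (hD : Cfsg.IsThreeTranspositionClass D)
    {L : Subgroup G} [L.Normal] (hL : Cfsg.IsQuasisimple L)
    (hconn : (Cfsg.commutingGraph D).Connected) : L.index ≤ 2 := by
  obtain ⟨d, hd, -⟩ := hD.2.1
  have step : ∀ a b : D, (Cfsg.commutingGraph D).Adj a b → (a : G)⁻¹ * b ∈ L := by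
    intro a b h
    rw [Cfsg.commutingGraph, SimpleGraph.fromRel_adj] at h
    have hc : Commute (a : G) (b : G) := h.2.elim id fun e => e.symm
    refine width_one_mod hD hL a.2 b.2 ?_
    rw [hc.eq, mul_inv_cancel_right, mul_inv_cancel]
    exact L.one_mem
  have hall : ∀ e ∈ D, d⁻¹ * e ∈ L := fun e he => by
    obtain ⟨w⟩ := hconn.preconnected ⟨d, hd⟩ ⟨e, he⟩
    suffices H : ∀ {a b : D}, (Cfsg.commutingGraph D).Walk a b → (a : G)⁻¹ * b ∈ L from H w
    intro a b w
    induction w with
    | nil => simp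
    | @cons u v x hadj _ ih =>
      have := mul_mem (step u v hadj) ih
      rwa [mul_assoc, mul_inv_cancel_left] at this
  have hdd := mul_self_of_order_two (hD.1.1 d hd)
  have htop : Subgroup.zpowers d ⊔ L = ⊤ := by
    rw [eq_top_iff, ← hD.2.2, Subgroup.closure_le]
    intro e he
    have := Subgroup.mul_mem_sup (Subgroup.mem_zpowers d) (hall e he)
    rwa [mul_inv_cancel_left] at this
  by_cases hdL : d ∈ L
  · have : L = ⊤ := by rwa [sup_eq_right.2 (Subgroup.zpowers_le.2 hdL)] at htop
    rw [this, Subgroup.index_top]; norm_num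
  · refine le_of_eq ((Subgroup.index_eq_two_iff' (H := L)).2 ⟨d, fun g => ?_⟩)
    by_cases hg : g ∈ L
    · refine Or.inr ⟨hg, fun h => hdL ?_⟩
      simpa using mul_mem h (inv_mem hg)
    · exact Or.inl ⟨(mem_or_mul_mem hdd htop g).resolve_left hg, hg⟩

end Cfsg.Agent.Spor
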