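/-
The derived group of `SU₃(2)`: fifty-four matrices, generated by three involutions.
-/
import Cfsg.Agent.Lib.Classical.PSUThreeTwo

set_option autoImplicit false
set_option maxRecDepth 100000

namespace Cfsg.Agent.Spor.ThreeSU

open Cfsg.Agent.Classical.PSUThreeTwo
open scoped Matrix

abbrev I54 := (Fin 3 × Fin 3 × Fin 3) × Fin 2

def mD : Matrix (Fin 3) (Fin 3) R4 := !![1, 0, 0; 0, om, 0; 0, 0, om * om]
def mP : Matrix (Fin 3) (Fin 3) R4 := !![0, 0, 1; 1, 0, 0; 0, 1, 0]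
def mT : Matrix (Fin 3) (Fin 3) R4 := !![1, 0, 0; 0, 0, 1; 0, 1, 0]

/-- `om^k D^i P^j T^l` -/
def w (a : I54) : Matrix (Fin 3) (Fin 3) R4 :=
  om ^ a.1.1.val • (mD ^ a.1.2.1.val * mP ^ a.1.2.2.val * mT ^ a.2.val)

def gen : Fin 3 → Matrix (Fin 3) (Fin 3) R4 := ![mT, mT * mD, mT * mP]

def rep : Fin 4 → Matrix (Fin 3) (Fin 3) R4 := ![1, mA, mB, mB * mA]

def repInv : Fin 4 → Matrix (Fin 3) (Fin 3) R4 := ![1, mA * mA * mA, mB * mB * mB, mA * mA * mA * (mB * mB * mB)]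

theorem w_unit : ∀ a, (w a)ᵀ * sqm (w a) = 1 ∧ (w a).det = 1 := by decide +kernel

theorem gen_unit : ∀ i, (gen i)ᵀ * sqm (gen i) = 1 ∧ (gen i).det = 1 := by decide +kernel

theorem rep_unit : ∀ r, (rep r)ᵀ * sqm (rep r) = 1 ∧ (rep r).det = 1 := by decide +kernel

theorem gen_sq : ∀ i, gen i * gen i = 1 := by decide +kernel

theorem gen_ne : ∀ i, gen i ≠ 1 := by decide +kernel

theorem gen_in : ∀ i, ∃ a, gen i = w a := by decide +kernel

theorem w_gen : ∀ a i, ∃ c, w a * gen i = w c := by decide +kernel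

theorem w_word : w ((0, 0, 0), 1) = gen 0 ∧ w ((0, 1, 0), 0) = gen 0 * gen 1 ∧
    w ((0, 0, 1), 0) = gen 0 * gen 2 := by decide +kernel

theorem w_scalar : ∃ k : Fin 3, k ≠ 0 ∧
    w ((0, 1, 0), 0) * w ((0, 0, 1), 0) = w ((k, 0, 1), 0) * w ((0, 1, 0), 0) := by decide +kernel

theorem w_inj : ∀ a, w a = 1 → a = ((0, 0, 0), 0) := by decide +kernel

theorem w_inv : ∀ a, ∃ c, w a * w c = 1 ∧ w c * w a = 1 := by decide +kernel

theorem gen_ne_pair : gen 0 ≠ gen 1 ∧ gen 0 ≠ gen 2 ∧ gen 1 ≠ gen 2 ∧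
    gen 0 ≠ gen 1 * gen 2 * gen 1 := by decide +kernel

theorem gen_pair_cube : ∀ i j, i ≠ j → gen i * gen j ≠ 1 ∧ gen i * gen j * (gen i * gen j) * (gen i * gen j) = 1 := by
  decide +kernel

theorem invol_conj : ∀ a, w a * w a = 1 → w a = 1 ∨ ∃ b, w b * gen 0 = w a * w b := by decide +kernel

theorem rep_inv : ∀ r, rep r * repInv r = 1 := by decide +kernel

theorem rep_sep : ∀ a r r', w a * rep r = rep r' → r = r' := by decide +kernel

theorem rep_norm : ∀ r i, ∃ c, rep r * gen i = w c * rep r := by decide +kernel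

theorem rep_comm : ∀ r r', ∃ c, rep r * rep r' = w c * (rep r' * rep r) := by decide +kernel

theorem rep_comm_gen : rep 1 * rep 2 = gen 0 * (rep 2 * rep 1) := by decide +kernel

theorem w_split : ∀ k i j l, w ((k, i, j), l) =
    w ((k, 0, 0), 0) * w ((0, i, 0), 0) * w ((0, 0, j), 0) * w ((0, 0, 0), l) := by decide +kernel

theorem w_scalar_split : ∀ k, w ((k, 0, 0), 0) * w ((0, 0, 1), 0) = w ((k, 0, 1), 0) := by decide +kernel

theorem w_double : w ((0, 0, 0), 0) = 1 ∧ w ((0, 1, 0), 0) * w ((0, 1, 0), 0) = w ((0, 2, 0), 0) ∧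
    w ((0, 0, 1), 0) * w ((0, 0, 1), 0) = w ((0, 0, 2), 0) ∧
    w ((1, 0, 0), 0) * w ((1, 0, 0), 0) = w ((2, 0, 0), 0) ∧
    w ((2, 0, 0), 0) * w ((2, 0, 0), 0) = w ((1, 0, 0), 0) := by decide +kernel

theorem w_ne : ∀ a b : I54, w a = w b → a = b := by decide +kernel

theorem sq_add : ∀ a b c d : ZMod 2, ((⟨a, b⟩ : R4) + ⟨c, d⟩) * (⟨a, b⟩ + ⟨c, d⟩) =
    (⟨a, b⟩ : R4) * ⟨a, b⟩ + ⟨c, d⟩ * ⟨c, d⟩ := by decide +kernel

theorem gen_tr : gen 0 * (gen 1 * (gen 2 * gen 1)) * (gen 0 * (gen 1 * (gen 2 * gen 1))) *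
    (gen 0 * (gen 1 * (gen 2 * gen 1))) = 1 := by decide +kernel

/-- the nine involutions -/
def nine : Fin 9 → I54 := ![((0, 0, 0), 1), ((0, 0, 1), 1), ((0, 0, 2), 1), ((0, 1, 0), 1), ((0, 2, 0), 1), ((1, 1, 1), 1), ((1, 2, 2), 1), ((2, 1, 2), 1), ((2, 2, 1), 1)]

theorem nine_inj : Function.Injective nine := by decide +kernel

theorem nine_invol : ∀ i, w (nine i) * w (nine i) = 1 ∧ w (nine i) ≠ 1 := by decide +kernel

/-- squaring on `R4` -/
def sqHom : R4 →+* R4 where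
  toFun x := x * x
  map_one' := mul_one 1
  map_mul' x y := mul_mul_mul_comm x y x y
  map_zero' := mul_zero 0
  map_add' x y := sq_add x.re x.im y.re y.im

/-- the unitary matrices over `R4` -/
def unit3 : Submonoid (Matrix (Fin 3) (Fin 3) R4) where
  carrier := {M | Mᵀ * sqm M = 1 ∧ M.det = 1}
  one_mem' := ⟨by
    show (1 : Matrix (Fin 3) (Fin 3) R4)ᵀ * (1 : Matrix (Fin 3) (Fin 3) R4).map sqHom = 1
    rw [Matrix.transpose_one, Matrix.map_one _ (map_zero sqHom) (map_one sqHom), one_mul], Matrix.det_one⟩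
  mul_mem' := fun {M N} hM hN => ⟨by
    show (M * N)ᵀ * (M * N).map sqHom = 1
    rw [Matrix.map_mul, Matrix.transpose_mul, mul_assoc, ← mul_assoc Mᵀ,
      show Mᵀ * M.map sqHom = 1 from hM.1, one_mul]
    exact hN.1, by rw [Matrix.det_mul, hM.2, hN.2, one_mul]⟩

end Cfsg.Agent.Spor.ThreeSU
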