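/-
The derived group of `SU₃(2)` has order 54, a single class of involutions, and three of them generate it.
-/
import Cfsg.Agent.Lib.Spor.ThreeSUData
import Cfsg.Agent.Lib.Classical.UnitaryOrders

set_option autoImplicit false
set_option maxHeartbeats 1000000
set_option maxRecDepth 100000

open scoped Matrix commutatorElement

namespace Cfsg.Agent.Spor.ThreeSU

open Cfsg.Agent.Classical.PSUThreeTwo

attribute [local irreducible] w gen rep

theorem triple_of_lift {G : Type*} [Group G] [Finite G] (hG : Nat.card G = 216) (L : unit3 →* G)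
    (hL : Function.Injective L) :
    Nat.card (commutator G) = 54 ∧
    ∃ a b c : commutator G, Subgroup.closure {a, b, c} = ⊤ ∧ a * a = 1 ∧ b * b = 1 ∧ c * c = 1 ∧
      a ≠ 1 ∧ a * b ≠ 1 ∧ a * c ≠ 1 ∧ b * c ≠ 1 ∧ (a * b) ^ 3 = 1 ∧ (a * c) ^ 3 = 1 ∧ (b * c) ^ 3 = 1 ∧
      a ≠ b * c * b ∧ (a * (b * (c * b))) ^ 3 = 1 ∧
      9 ≤ Nat.card {t : commutator G // t * t = 1 ∧ t ≠ 1} ∧ ∀ t : commutator G, t * t = 1 → t = 1 ∨ ∃ g, g * a * g⁻¹ = t := by
  let uW : I54 → unit3 := fun a => ⟨w a, w_unit a⟩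
  let uS : Fin 3 → unit3 := fun i => ⟨gen i, gen_unit i⟩
  let uR : Fin 4 → unit3 := fun r => ⟨rep r, rep_unit r⟩
  let W : I54 → G := fun a => L (uW a)
  let S : Fin 3 → G := fun i => L (uS i)
  let Rp : Fin 4 → G := fun r => L (uR r)
  have rel : ∀ x y z : unit3, (x : Matrix (Fin 3) (Fin 3) R4) * y = z → L x * L y = L z := fun x y z h => by
    rw [← map_mul]; exact congrArg L (Subtype.ext h)
  have rel1 : ∀ x y : unit3, (x : Matrix (Fin 3) (Fin 3) R4) * y = 1 → L x * L y = 1 := fun x y h => by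
    rw [← map_mul, ← map_one L]; exact congrArg L (Subtype.ext h)
  have eqL : ∀ x y : unit3, L x = L y → (x : Matrix (Fin 3) (Fin 3) R4) = y := fun x y h =>
    congrArg Subtype.val (hL h)
  have hS2 : ∀ i, S i * S i = 1 := fun i => rel1 (uS i) (uS i) (gen_sq i)
  set K : Subgroup G := Subgroup.closure (Set.range S) with hK
  have hSK : ∀ i, S i ∈ K := fun i => Subgroup.subset_closure ⟨i, rfl⟩
  have hW0 : W ((0, 0, 0), 0) = 1 := by
    rw [← map_one L]; exact congrArg L (Subtype.ext w_double.1)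
  have hKW : ∀ g ∈ K, ∃ a, W a = g := by
    intro g hg
    have hstep : ∀ a i, ∃ c, W c = W a * S i := fun a i => by
      obtain ⟨c, hc⟩ := w_gen a i
      exact ⟨c, (rel (uW a) (uS i) (uW c) hc).symm⟩
    induction hg using Subgroup.closure_induction_right with
    | one => exact ⟨_, hW0⟩
    | mul_right x hx y hy ih =>
      obtain ⟨a, rfl⟩ := ih
      obtain ⟨i, rfl⟩ := hy
      exact hstep a i
    | mul_inv_cancel x hx y hy ih =>
      obtain ⟨a, rfl⟩ := ih
      obtain ⟨i, rfl⟩ := hy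
      rw [inv_eq_of_mul_eq_one_right (hS2 i)]
      exact hstep a i
  have three : ∀ j : Fin 3, j = 0 ∨ j = 1 ∨ j = 2 := by decide
  have mm : ∀ x y z, w x * w y = w z → W x ∈ K → W y ∈ K → W z ∈ K := fun x y z h hx hy => by
    rw [show W z = W x * W y from (rel (uW x) (uW y) (uW z) h).symm]; exact mul_mem hx hy
  have hWK : ∀ a, W a ∈ K := by
    have h1 : W ((0, 0, 0), 0) ∈ K := hW0 ▸ one_mem K
    have hD : W ((0, 1, 0), 0) ∈ K := by
      rw [show W ((0, 1, 0), 0) = S 0 * S 1 from (rel (uS 0) (uS 1) (uW ((0, 1, 0), 0)) w_word.2.1.symm).symm]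
      exact mul_mem (hSK 0) (hSK 1)
    have hP : W ((0, 0, 1), 0) ∈ K := by
      rw [show W ((0, 0, 1), 0) = S 0 * S 2 from (rel (uS 0) (uS 2) (uW ((0, 0, 1), 0)) w_word.2.2.symm).symm]
      exact mul_mem (hSK 0) (hSK 2)
    have hT : W ((0, 0, 0), 1) ∈ K := by
      rw [show W ((0, 0, 0), 1) = S 0 from congrArg L (Subtype.ext w_word.1)]
      exact hSK 0
    have hD' : ∀ j, W ((0, j, 0), 0) ∈ K := fun j => by
      rcases three j with rfl | rfl | rfl
      exacts [h1, hD, mm _ _ _ w_double.2.1 hD hD]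
    obtain ⟨k0, hk0, hk⟩ := w_scalar
    have hk1 : W ((k0, 0, 1), 0) ∈ K := by
      have e : W ((0, 1, 0), 0) * W ((0, 0, 1), 0) = W ((k0, 0, 1), 0) * W ((0, 1, 0), 0) := by
        show L _ * L _ = L _ * L _
        rw [← map_mul, ← map_mul]; exact congrArg L (Subtype.ext hk)
      rw [eq_mul_inv_iff_mul_eq.2 e.symm]
      exact mul_mem (mul_mem hD hP) (inv_mem hD)
    have hsc : W ((k0, 0, 0), 0) ∈ K := by
      have e : W ((k0, 0, 0), 0) * W ((0, 0, 1), 0) = W ((k0, 0, 1), 0) := rel (uW ((k0, 0, 0), 0)) (uW ((0, 0, 1), 0)) (uW ((k0, 0, 1), 0)) (w_scalar_split k0)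
      rw [eq_mul_inv_iff_mul_eq.2 e]
      exact mul_mem hk1 (inv_mem hP)
    have hs1 : W ((1, 0, 0), 0) ∈ K := by
      rcases three k0 with rfl | rfl | rfl
      exacts [absurd rfl hk0, hsc, mm _ _ _ w_double.2.2.2.2 hsc hsc]
    have hk' : ∀ k, W ((k, 0, 0), 0) ∈ K := fun k => by
      rcases three k with rfl | rfl | rfl
      exacts [h1, hs1, mm _ _ _ w_double.2.2.2.1 hs1 hs1]
    have hP' : ∀ j, W ((0, 0, j), 0) ∈ K := fun j => by
      rcases three j with rfl | rfl | rfl
      exacts [h1, hP, mm _ _ _ w_double.2.2.1 hP hP]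
    have hT' : ∀ l, W ((0, 0, 0), l) ∈ K := fun l => by
      rcases (by decide : ∀ l : Fin 2, l = 0 ∨ l = 1) l with rfl | rfl
      exacts [h1, hT]
    rintro ⟨⟨k, i, j⟩, l⟩
    have e : W ((k, i, j), l) = W ((k, 0, 0), 0) * W ((0, i, 0), 0) * W ((0, 0, j), 0) * W ((0, 0, 0), l) := by
      show L _ = L _ * L _ * L _ * L _
      rw [← map_mul, ← map_mul, ← map_mul]
      exact congrArg L (Subtype.ext (w_split k i j l))
    rw [e]
    exact mul_mem (mul_mem (mul_mem (hk' k) (hD' i)) (hP' j)) (hT' l)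
  have hWinj : Function.Injective W := fun a b h => w_ne a b (eqL _ _ h)
  have hKcard : Nat.card K = 54 := by
    rw [← Nat.card_eq_of_bijective (fun a => (⟨W a, hWK a⟩ : K))
      ⟨fun a b h => hWinj (congrArg Subtype.val h), fun g => by
        obtain ⟨a, ha⟩ := hKW g.1 g.2
        exact ⟨a, Subtype.ext ha⟩⟩]
    simp
  have hall : ∀ g : G, ∃ a r, g = W a * Rp r := by
    have hinj : Function.Injective fun p : I54 × Fin 4 => W p.1 * Rp p.2 := by
      rintro ⟨a, r⟩ ⟨b, r'⟩ h
      simp only at h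
      obtain ⟨a', ha'⟩ := hKW _ (mul_mem (inv_mem (hWK b)) (hWK a))
      have e : W a' * Rp r = Rp r' := by rw [ha', mul_assoc, h, inv_mul_cancel_left]
      have e' : L (uW a' * uR r) = L (uR r') := by rw [map_mul]; exact e
      obtain rfl := rep_sep a' r r' (eqL _ _ e')
      exact Prod.ext (hWinj (mul_right_cancel h)) rfl
    have hbij := (Nat.bijective_iff_injective_and_card _).2 ⟨hinj, by rw [hG]; simp⟩
    intro g
    obtain ⟨p, hp⟩ := hbij.2 g
    exact ⟨p.1, p.2, hp.symm⟩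
  have hrK : ∀ r i, Rp r * S i * (Rp r)⁻¹ ∈ K := by
    intro r i
    obtain ⟨c, hc⟩ := rep_norm r i
    have : Rp r * S i = W c * Rp r := by
      show L _ * L _ = L _ * L _
      rw [← map_mul, ← map_mul]; exact congrArg L (Subtype.ext hc)
    rw [this, mul_inv_cancel_right]
    exact hWK c
  haveI hKn : K.Normal := by
    refine ⟨fun x hx g => ?_⟩
    obtain ⟨a, r, rfl⟩ := hall g
    have hr : Rp r * x * (Rp r)⁻¹ ∈ K := by
      have hle : K ≤ K.comap (MulAut.conj (Rp r)).toMonoidHom := by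
        conv_lhs => rw [hK]
        rw [Subgroup.closure_le]
        rintro _ ⟨i, rfl⟩
        exact hrK r i
      exact hle hx
    rw [show W a * Rp r * x * (W a * Rp r)⁻¹ = W a * (Rp r * x * (Rp r)⁻¹) * (W a)⁻¹ by group]
    exact mul_mem (mul_mem (hWK a) hr) (inv_mem (hWK a))
  have hcom : commutator G = K := by
    refine le_antisymm ?_ ?_
    · rw [commutator_def, Subgroup.commutator_le]
      intro x _ y _
      obtain ⟨a, r, rfl⟩ := hall x
      obtain ⟨b, r', rfl⟩ := hall y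
      rw [← QuotientGroup.eq_one_iff, commutatorElement_def]
      have hW1 : ∀ a, (W a : G ⧸ K) = 1 := fun a => (QuotientGroup.eq_one_iff _).2 (hWK a)
      obtain ⟨c, hc⟩ := rep_comm r r'
      have : Rp r * Rp r' = W c * (Rp r' * Rp r) := by
        show L _ * L _ = L _ * (L _ * L _)
        rw [← map_mul, ← map_mul, ← map_mul]; exact congrArg L (Subtype.ext hc)
      have h2 : (Rp r : G ⧸ K) * Rp r' = Rp r' * Rp r := by
        rw [← QuotientGroup.mk_mul, this, QuotientGroup.mk_mul, hW1, one_mul, QuotientGroup.mk_mul]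
      simp only [QuotientGroup.mk_mul, QuotientGroup.mk_inv, hW1, one_mul]
      rw [mul_inv_eq_one, mul_inv_eq_iff_eq_mul]
      exact h2
    · have h0 : S 0 ∈ commutator G := by
        have e : Rp 1 * Rp 2 = S 0 * (Rp 2 * Rp 1) := by
          show L _ * L _ = L _ * (L _ * L _)
          rw [← map_mul, ← map_mul, ← map_mul]; exact congrArg L (Subtype.ext rep_comm_gen)
        have : S 0 = ⁅Rp 1, Rp 2⁆ := by
          rw [commutatorElement_def, e]; group
        rw [this, commutator_def]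
        exact Subgroup.commutator_mem_commutator (Subgroup.mem_top _) (Subgroup.mem_top _)
      conv_lhs => rw [hK]
      rw [Subgroup.closure_le]
      rintro _ ⟨i, rfl⟩
      obtain ⟨a, ha⟩ := gen_in i
      have hsq : w a * w a = 1 := by rw [← ha, gen_sq]
      obtain ⟨b, hb⟩ := (invol_conj a hsq).resolve_left (by rw [← ha]; exact gen_ne i)
      rw [← ha] at hb
      have e : W b * S 0 = S i * W b := by
        show L _ * L _ = L _ * L _
        rw [← map_mul, ← map_mul]; exact congrArg L (Subtype.ext hb)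
      show S i ∈ commutator G
      rw [show S i = W b * S 0 * (W b)⁻¹ by rw [e, mul_inv_cancel_right]]
      exact Subgroup.Normal.conj_mem inferInstance _ h0 _
  refine ⟨by rw [hcom]; exact hKcard, ?_⟩
  have hm : ∀ i, S i ∈ commutator G := fun i => hcom.symm ▸ hSK i
  have hp : ∀ i j, i ≠ j → (⟨S i, hm i⟩ * ⟨S j, hm j⟩ : commutator G) ≠ 1 ∧
      (⟨S i, hm i⟩ * ⟨S j, hm j⟩ : commutator G) ^ 3 = 1 := fun i j hij => by
    refine ⟨fun h => (gen_pair_cube i j hij).1 (eqL (uS i * uS j) 1 (by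
      rw [map_mul, map_one]; exact congrArg Subtype.val h)), ?_⟩
    refine Subtype.ext ?_
    rw [Subgroup.coe_pow, pow_succ, pow_two, Subgroup.coe_one]
    show L _ * L _ * (L _ * L _) * (L _ * L _) = 1
    rw [← map_mul, ← map_mul, ← map_mul, ← map_one L]
    exact congrArg L (Subtype.ext (gen_pair_cube i j hij).2)
  refine ⟨⟨S 0, hm 0⟩, ⟨S 1, hm 1⟩, ⟨S 2, hm 2⟩, ?_, Subtype.ext (hS2 0), Subtype.ext (hS2 1), Subtype.ext (hS2 2),
    fun h => gen_ne 0 (eqL (uS 0) 1 (by rw [map_one]; exact congrArg Subtype.val h)), (hp 0 1 (by decide)).1,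
    (hp 0 2 (by decide)).1, (hp 1 2 (by decide)).1, (hp 0 1 (by decide)).2, (hp 0 2 (by decide)).2,
    (hp 1 2 (by decide)).2, ?_, ?_, ?_, ?_⟩
  · refine Subgroup.map_injective (Subgroup.subtype_injective _) ?_
    rw [MonoidHom.map_closure, ← MonoidHom.range_eq_map, Subgroup.range_subtype]
    refine Eq.trans ?_ (hK.symm.trans hcom.symm)
    congr 1
    ext g
    simp only [Set.image_insert_eq, Set.image_singleton, Set.mem_insert_iff, Set.mem_singleton_iff, Set.mem_range,
      Subgroup.subtype_apply]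
    constructor
    · rintro (rfl | rfl | rfl)
      exacts [⟨0, rfl⟩, ⟨1, rfl⟩, ⟨2, rfl⟩]
    · rintro ⟨i, rfl⟩
      rcases three i with rfl | rfl | rfl
      exacts [Or.inl rfl, Or.inr (Or.inl rfl), Or.inr (Or.inr rfl)]
  · intro h
    refine gen_ne_pair.2.2.2 (eqL (uS 0) (uS 1 * uS 2 * uS 1) ?_)
    rw [map_mul, map_mul]
    exact congrArg (fun g : commutator G => (g : G)) h
  · refine Subtype.ext ?_
    rw [Subgroup.coe_pow, pow_succ, pow_two, Subgroup.coe_one]
    show L (uS 0) * (L (uS 1) * (L (uS 2) * L (uS 1))) * (L (uS 0) * (L (uS 1) * (L (uS 2) * L (uS 1)))) *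
      (L (uS 0) * (L (uS 1) * (L (uS 2) * L (uS 1)))) = 1
    simp only [← map_mul]
    rw [← map_one L]
    exact congrArg L (Subtype.ext gen_tr)
  · refine le_trans (le_of_eq (by simp)) (Nat.card_le_card_of_injective
      (fun i : Fin 9 => (⟨⟨W (nine i), hcom.symm ▸ hWK (nine i)⟩,
        Subtype.ext (rel1 (uW (nine i)) (uW (nine i)) (nine_invol i).1),
        fun h => (nine_invol i).2 (eqL (uW (nine i)) 1 (by rw [map_one]; exact congrArg Subtype.val h))⟩ :
        {t : commutator G // t * t = 1 ∧ t ≠ 1}))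
      fun i j h => nine_inj (hWinj (congrArg (fun t : {t : commutator G // t * t = 1 ∧ t ≠ 1} => (t.1 : G)) h)))
  · rintro ⟨t, ht⟩ htt
    obtain ⟨a, rfl⟩ := hKW t (hcom ▸ ht)
    have hsq : w a * w a = 1 := eqL (uW a * uW a) 1 (by
      rw [map_mul, map_one]; exact congrArg Subtype.val htt)
    rcases invol_conj a hsq with h1 | ⟨b, hb⟩
    · exact Or.inl (Subtype.ext ((congrArg L (Subtype.ext h1 : uW a = 1)).trans (map_one L)))
    · refine Or.inr ⟨⟨W b, hcom.symm ▸ hWK b⟩, Subtype.ext ?_⟩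
      show W b * S 0 * (W b)⁻¹ = W a
      rw [mul_inv_eq_iff_eq_mul]
      show L _ * L _ = L _ * L _
      rw [← map_mul, ← map_mul]; exact congrArg L (Subtype.ext hb)

theorem exists_triple {F : Type} [Field F] [Fintype F] (hF : Fintype.card F = 4) :
    Nat.card (commutator (Cfsg.SU 3 F 2)) = 54 ∧
    ∃ a b c : commutator (Cfsg.SU 3 F 2), Subgroup.closure {a, b, c} = ⊤ ∧ a * a = 1 ∧ b * b = 1 ∧ c * c = 1 ∧
      a ≠ 1 ∧ a * b ≠ 1 ∧ a * c ≠ 1 ∧ b * c ≠ 1 ∧ (a * b) ^ 3 = 1 ∧ (a * c) ^ 3 = 1 ∧ (b * c) ^ 3 = 1 ∧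
      a ≠ b * c * b ∧ (a * (b * (c * b))) ^ 3 = 1 ∧
      9 ≤ Nat.card {t : commutator (Cfsg.SU 3 F 2) // t * t = 1 ∧ t ≠ 1} ∧ ∀ t : commutator (Cfsg.SU 3 F 2), t * t = 1 → t = 1 ∨ ∃ g, g * a * g⁻¹ = t := by
  classical
  haveI : CharP F 2 := by
    obtain ⟨p, hp⟩ := CharP.exists F
    obtain ⟨f, hp', hf⟩ := FiniteField.card F p
    have h2 : p ∣ 2 ^ 2 := by
      rw [show (2 : ℕ) ^ 2 = 4 from rfl, ← hF, hf]
      exact dvd_pow_self p f.ne_zero
    obtain rfl := (Nat.prime_dvd_prime_iff_eq hp' Nat.prime_two).mp (hp'.dvd_of_dvd_pow h2)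
    exact hp
  letI : Algebra (ZMod 2) F := ZMod.algebra F 2
  obtain ⟨ww, hw0, hw1⟩ : ∃ ww : F, ww ≠ 0 ∧ ww ≠ 1 := by
    by_contra! h
    have : (Finset.univ : Finset F) ⊆ {0, 1} := fun z _ => by
      by_cases hz : z = 0
      · simp [hz]
      · simp [h z hz]
    have := Finset.card_le_card this
    rw [Finset.card_univ, hF] at this
    have := Finset.card_le_two (a := (0 : F)) (b := 1)
    omega
  have h3 : ww ^ 3 = 1 := by
    have := FiniteField.pow_card_sub_one_eq_one ww hw0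
    rwa [hF] at this
  have hw : ww * ww = (1 : ZMod 2) • (1 : F) + (1 : ZMod 2) • ww := by
    have h0 : (ww - 1) * (ww * ww + ww + 1) = 0 := by linear_combination h3
    rw [one_smul, one_smul]
    have := (mul_eq_zero.mp h0).resolve_left (sub_ne_zero.mpr hw1)
    linear_combination this - (1 + ww) * (CharTwo.two_eq_zero : (2 : F) = 0)
  let φ : R4 →+* F := (QuadraticAlgebra.lift (R := ZMod 2) ⟨ww, hw⟩).toRingHom
  have hφ : Function.Injective φ := by
    rw [injective_iff_map_eq_zero]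
    intro x hx
    by_contra hne
    obtain ⟨z, hz⟩ := R4_inv x hne
    have := congrArg φ hz
    rw [map_mul, hx, zero_mul, map_one] at this
    exact zero_ne_one this
  -- lifting
  let L : ∀ M : Matrix (Fin 3) (Fin 3) R4, Mᵀ * sqm M = 1 ∧ M.det = 1 → Cfsg.SU 3 F 2 := fun M h =>
    ⟨⟨M.map φ, by
      show (φ.mapMatrix M).det = 1
      rw [← RingHom.map_det, h.2, map_one]⟩, by
      intro u v
      show Cfsg.hermForm 3 F 2 (M.map φ *ᵥ u) (M.map φ *ᵥ v) = _
      have hg : ∀ j k, ∑ i, φ (M i j) * φ (M i k) ^ 2 = if j = k then 1 else 0 := fun j k => by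
        have h1 := congrArg φ (congrFun (congrFun h.1 j) k)
        rw [Matrix.mul_apply, map_sum, Matrix.one_apply, apply_ite φ, map_one, map_zero] at h1
        rw [← h1]
        refine Finset.sum_congr rfl fun i _ => ?_
        simp [sqm, pow_two]
      have e : ∀ i, (M.map φ *ᵥ v) i ^ 2 = ∑ k, φ (M i k) ^ 2 * v k ^ 2 := fun i => by
        rw [Matrix.mulVec, dotProduct, CharTwo.sum_sq]
        exact Finset.sum_congr rfl fun k _ => mul_pow _ _ _
      unfold Cfsg.hermForm
      simp only [e]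
      simp only [Matrix.mulVec, dotProduct, Matrix.map_apply, Finset.sum_mul, Finset.mul_sum]
      rw [Finset.sum_comm]
      refine Finset.sum_congr rfl fun j _ => ?_
      rw [Finset.sum_comm]
      calc ∑ k, ∑ i, φ (M i k) * u k * (φ (M i j) ^ 2 * v j ^ 2)
          = ∑ k, u k * v j ^ 2 * (if k = j then 1 else 0) := Finset.sum_congr rfl fun k _ => by
            rw [← hg, Finset.mul_sum]
            exact Finset.sum_congr rfl fun i _ => by ring
        _ = _ := by simp⟩
  have hSU : Nat.card (Cfsg.SU 3 F 2) = 216 := by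
    obtain ⟨p, e, σ, -, -, -, -, hσ⟩ := Cfsg.Agent.Classical.exists_usigma (q := 2) (F := F) (by rw [hF]; norm_num)
    have h1 := Cfsg.Agent.Classical.UCount.card_SU hσ (n := 3) (by norm_num)
    have h2 := Cfsg.Agent.Classical.UCount.card_GU hσ 3
    rw [h2] at h1
    rw [Finset.prod_range_succ, Finset.prod_range_succ, Finset.prod_range_succ, Finset.prod_range_zero] at h1
    norm_num [Nat.even_iff] at h1
    rw [Nat.card_eq_fintype_card]
    omega
  exact triple_of_lift hSU
    { toFun := fun M => L M.1 M.2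
      map_one' := Subtype.ext (Subtype.ext (map_one φ.mapMatrix))
      map_mul' := fun M N => Subtype.ext (Subtype.ext (map_mul φ.mapMatrix M.1 N.1)) }
    fun M N h => Subtype.ext (Matrix.map_injective hφ
      (congrArg (fun g : Cfsg.SU 3 F 2 => (g.1.1 : Matrix (Fin 3) (Fin 3) F)) h))

end Cfsg.Agent.Spor.ThreeSU
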