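/-
A soluble group generated by a class of 3-transpositions, with a faithful irreducible module on which every
transposition meets the fixed points of the products trivially: the class has at most nine members.
-/
import Mathlib

set_option autoImplicit false

namespace Cfsg.Agent.Spor.Soluble

variable {Q : Type*} [Group Q]

/-- a class of involutions with all products of distinct members of order three inside a normal 3-subgroup -/
structure Sol (E : Set Q) (P : Subgroup Q) : Prop where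
  inv : ∀ e ∈ E, e * e = 1
  conj : ∀ g : Q, ∀ e ∈ E, g * e * g⁻¹ ∈ E
  gen : Subgroup.closure E = ⊤
  cube : ∀ d ∈ E, ∀ e ∈ E, d ≠ e → (d * e) ^ 3 = 1
  pgroup : IsPGroup 3 P
  normal : P.Normal
  mem : ∀ d ∈ E, ∀ e ∈ E, d * e ∈ P

variable {E : Set Q} {P : Subgroup Q}

theorem Sol.inv_eq (h : Sol E P) {e : Q} (he : e ∈ E) : e⁻¹ = e := inv_eq_of_mul_eq_one_right (h.inv e he)

theorem Sol.mem_or (h : Sol E P) {d : Q} (hd : d ∈ E) (g : Q) : g ∈ P ∨ d * g ∈ P := by
  have hn := h.normal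
  have hg : g ∈ Subgroup.closure E := h.gen ▸ Subgroup.mem_top g
  induction hg using Subgroup.closure_induction with
  | mem e he => exact Or.inr (h.mem d hd e he)
  | one => exact Or.inl (one_mem P)
  | mul x y _ _ hx hy =>
    rcases hx with hx | hx <;> rcases hy with hy | hy
    · exact Or.inl (mul_mem hx hy)
    · refine Or.inr ?_
      rw [show d * (x * y) = (d * x * d⁻¹) * (d * y) by group]
      exact mul_mem (hn.conj_mem x hx d) hy
    · exact Or.inr (by rw [← mul_assoc]; exact mul_mem hx hy)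
    · refine Or.inl ?_
      rw [show x * y = (d⁻¹ * (d * x) * (d⁻¹)⁻¹) * (d⁻¹ * d⁻¹) * (d * y) by group,
        h.inv_eq hd, h.inv d hd, mul_one]
      have h1 := hn.conj_mem _ hx d
      rw [h.inv_eq hd] at h1
      rw [h.inv_eq hd]
      exact mul_mem h1 hy
  | inv x _ hx =>
    rcases hx with hx | hx
    · exact Or.inl (inv_mem hx)
    · refine Or.inr ?_
      rw [show d * x⁻¹ = d * (d * x)⁻¹ * d by group]
      have h1 := hn.conj_mem _ (inv_mem hx) d
      rw [h.inv_eq hd] at h1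
      exact h1

theorem Sol.class_eq (h : Sol E P) {d e : Q} (hd : d ∈ E) (he : e ∈ E) : ∃ p ∈ P, p * d * p⁻¹ = e := by
  by_cases hne : d = e
  · exact ⟨1, one_mem P, by simp [hne]⟩
  refine ⟨d * e, h.mem d hd e he, ?_⟩
  have h3 := h.cube d hd e he hne
  rw [mul_inv_rev, h.inv_eq hd, h.inv_eq he]
  calc d * e * d * (e * d) = (d * e) ^ 3 * e⁻¹ := by rw [pow_succ, pow_two]; group
    _ = e := by rw [h3, one_mul, h.inv_eq he]

variable [Finite Q]

theorem Sol.inverted_mem (h : Sol E P) {d i : Q} (hd : d ∈ E) (hi : i ∈ P) (hinv : d * i * d = i⁻¹) :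
    d * i ∈ E := by
  obtain ⟨k, hk⟩ := IsPGroup.iff_card.1 h.pgroup
  set j : ℕ := (3 ^ k + 1) / 2 with hj
  have hodd : Odd (3 ^ k) := (by decide : Odd 3).pow
  have hs : (i⁻¹) ^ j * (i⁻¹) ^ j = i⁻¹ := by
    rw [← pow_add, show j + j = 3 ^ k + 1 by obtain ⟨r, hr⟩ := hodd; omega, pow_succ]
    have : (i⁻¹) ^ (3 ^ k) = 1 := by
      have e := pow_card_eq_one' (x := (⟨i⁻¹, inv_mem hi⟩ : P))
      rw [hk] at e
      exact congrArg Subtype.val e
    rw [this, one_mul]
  have hdi : d * (i⁻¹) ^ j * d = i ^ j := by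
    have := (MulAut.conj d).toMonoidHom.map_pow i⁻¹ j
    simp only [MulEquiv.coe_toMonoidHom, MulAut.conj_apply, h.inv_eq hd] at this
    have hi' : d * i⁻¹ * d = i := by
      calc d * i⁻¹ * d = (d * i * d)⁻¹ := by rw [mul_inv_rev, mul_inv_rev, h.inv_eq hd, mul_assoc]
        _ = i := by rw [hinv, inv_inv]
    rw [this, hi']
  have hmem := h.conj ((i⁻¹) ^ j) d hd
  have e : (i⁻¹) ^ j * d * ((i⁻¹) ^ j)⁻¹ = i⁻¹ * d := by
    calc (i⁻¹) ^ j * d * ((i⁻¹) ^ j)⁻¹ = (i⁻¹) ^ j * d * i ^ j := by rw [inv_pow, inv_inv]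
      _ = (i⁻¹) ^ j * d * (d * (i⁻¹) ^ j * d) := by rw [hdi]
      _ = (i⁻¹) ^ j * (d * d) * (i⁻¹) ^ j * d := by group
      _ = (i⁻¹) ^ j * (i⁻¹) ^ j * d := by rw [h.inv d hd, mul_one]
      _ = i⁻¹ * d := by rw [hs]
  rw [e] at hmem
  have : i⁻¹ * d = d * i := by
    rw [← hinv, mul_assoc, h.inv d hd, mul_one]
  rwa [this] at hmem

theorem Sol.inverted_cube (h : Sol E P) {d i : Q} (hd : d ∈ E) (hi : i ∈ P) (hinv : d * i * d = i⁻¹) :
    i ^ 3 = 1 := by
  by_cases h1 : d = d * i
  · rw [left_eq_mul] at h1; rw [h1, one_pow]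
  have := h.cube d hd (d * i) (h.inverted_mem hd hi hinv) h1
  rwa [← mul_assoc, h.inv d hd, one_mul] at this

/-- a faithful irreducible elementary abelian module with the transposition condition -/
structure Mdl {W : Type*} [CommGroup W] (E : Set Q) (ρ : Q →* MulAut W) : Prop where
  faithful : Function.Injective ρ
  two : ∀ w : W, w * w = 1
  irr : ∀ S : Subgroup W, (∀ g : Q, ∀ w ∈ S, ρ g w ∈ S) → S = ⊥ ∨ S = ⊤
  prod : ∀ d ∈ E, ∀ e ∈ E, d ≠ e → ∀ w : W, ρ (d * e) (ρ e w * w) = ρ e w * w → ρ e w = w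

variable {W : Type*} [CommGroup W] {ρ : Q →* MulAut W}

omit [Finite Q] in
theorem Mdl.fix_both (h : Sol E P) (M : Mdl E ρ) {d e : Q} (hd : d ∈ E) (he : e ∈ E) (hne : d ≠ e) {v : W}
    (hv : ρ (d * e) v = v) : ρ e v = v ∧ ρ d v = v := by
  have h1 : ρ d v = ρ e v := by
    conv_lhs => rw [← hv]
    rw [← MulAut.mul_apply, ← map_mul, ← mul_assoc, h.inv d hd, one_mul]
  have hu : ρ e v = v := M.prod d hd e he hne v (by
    rw [map_mul (ρ (d * e)), hv, show ρ (d * e) (ρ e v) = ρ d v by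
      rw [← MulAut.mul_apply, ← map_mul, mul_assoc, h.inv e he, mul_one], h1])
  exact ⟨hu, h1.trans hu⟩

theorem Mdl.fix_of_inverted (h : Sol E P) (M : Mdl E ρ) {d m x : Q} (hd : d ∈ E) (hm : m ∈ P) (hx : x ∈ P)
    (him : d * m * d = m⁻¹) (hix : d * x * d = x⁻¹) (hc : m * x = x * m) (hm1 : m ≠ 1) {v : W}
    (hv : ρ m v = v) : ρ x v = v := by
  have key : ∀ d' ∈ E, d' * m * d' = m⁻¹ → ρ d' v = v := by
    intro d' hd' hi
    refine (M.fix_both h hd' (h.inverted_mem hd' hm hi) (fun e => hm1 (by simpa using e)) ?_).2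
    rwa [← mul_assoc, h.inv d' hd', one_mul]
  have h0 := key d hd him
  have hdx := h.inverted_mem hd hx hix
  have h1 := key (d * x) hdx (by
    have e : d * x = x⁻¹ * d := by rw [← hix, mul_assoc, h.inv d hd, mul_one]
    calc d * x * m * (d * x) = d * (x * m) * (x⁻¹ * d) := by rw [← e]; group
      _ = d * (m * x) * (x⁻¹ * d) := by rw [hc]
      _ = d * m * d := by group
      _ = m⁻¹ := him)
  rw [map_mul, MulAut.mul_apply] at h1
  have := congrArg (ρ d) h1
  rwa [← MulAut.mul_apply, ← map_mul, h.inv d hd, map_one, MulAut.one_apply, h0] at this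

omit [Finite Q] in
theorem Mdl.four (M : Mdl E ρ) {x y : Q} (hx : x ^ 3 = 1) (hy : y ^ 3 = 1) (hc : x * y = y * x)
    (h4 : ∀ m : Q, (m = x ∨ m = y ∨ m = x * y ∨ m = x * (y * y)) → ∀ v : W, ρ m v = v → ρ x v = v) :
    x = 1 := by
  refine M.faithful ((MulEquiv.ext fun v => ?_).trans (map_one ρ).symm)
  show ρ x v = v
  have app : ∀ g g' : Q, ∀ u : W, ρ g (ρ g' u) = ρ (g * g') u := fun g g' u => by rw [map_mul]; rfl
  have hN : ∀ m : Q, m ^ 3 = 1 → ∀ u : W, ρ m (u * ρ m u * ρ (m * m) u) = u * ρ m u * ρ (m * m) u := by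
    intro m hm u
    rw [map_mul, map_mul, app, app, show m * (m * m) = 1 by rw [← hm, pow_succ, pow_two, mul_assoc], map_one,
      MulAut.one_apply]
    ac_rfl
  have cxy : Commute x y := hc
  have hxy : (x * y) ^ 3 = 1 := by rw [cxy.mul_pow, hx, hy, one_mul]
  have hxyy : (x * (y * y)) ^ 3 = 1 := by
    rw [(cxy.mul_right cxy).mul_pow, (Commute.refl y).mul_pow, hx, hy, one_mul, one_mul]
  have e1 : (x * y) * (x * y) = x * x * (y * y) := by
    rw [mul_assoc x y, ← mul_assoc y x, ← hc]; group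
  have y4 : y * y * (y * y) = y := by
    rw [show y * y * (y * y) = y ^ 3 * y by rw [pow_succ, pow_two]; group, hy, one_mul]
  have e2 : (x * (y * y)) * (x * (y * y)) = x * x * y := by
    calc (x * (y * y)) * (x * (y * y)) = x * ((y * y) * x) * (y * y) := by group
      _ = x * (x * (y * y)) * (y * y) := by rw [(cxy.mul_right cxy).eq]
      _ = x * x * (y * y * (y * y)) := by group
      _ = x * x * y := by rw [y4]
  have f1 := h4 x (Or.inl rfl) _ (hN x hx v)
  have f2 := h4 y (Or.inr (Or.inl rfl)) _ (hN y hy v)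
  have f3 := h4 _ (Or.inr (Or.inr (Or.inl rfl))) _ (hN _ hxy v)
  have f4 := h4 _ (Or.inr (Or.inr (Or.inr rfl))) _ (hN _ hxyy v)
  have g1 := hN x hx (ρ y v)
  have g2 := hN x hx (ρ (y * y) v)
  have hsq : ∀ a b : W, a * (a * b) = b := fun a b => by rw [← mul_assoc, M.two, one_mul]
  have hid : (v * ρ x v * ρ (x * x) v) * (v * ρ y v * ρ (y * y) v) * (v * ρ (x * y) v * ρ (x * y * (x * y)) v)
      * (v * ρ (x * (y * y)) v * ρ (x * (y * y) * (x * (y * y))) v) * (v * ρ x v * ρ (x * x) v)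
      * (ρ y v * ρ x (ρ y v) * ρ (x * x) (ρ y v))
      * (ρ (y * y) v * ρ x (ρ (y * y) v) * ρ (x * x) (ρ (y * y) v)) = v := by
    rw [app, app, app, app, e1, e2]
    generalize ρ x v = a10
    generalize ρ (x * x) v = a20
    generalize ρ y v = a01
    generalize ρ (y * y) v = a02
    generalize ρ (x * y) v = a11
    generalize ρ (x * (y * y)) v = a12
    generalize ρ (x * x * (y * y)) v = a22
    generalize ρ (x * x * y) v = a21
    have e : v * a10 * a20 * (v * a01 * a02) * (v * a11 * a22) * (v * a12 * a21) * (v * a10 * a20)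
        * (a01 * a11 * a21) * (a02 * a12 * a22)
      = ((v * v) * (v * v) * (a10 * a10) * (a20 * a20) * (a01 * a01) * (a02 * a02) * (a11 * a11) * (a12 * a12)
        * (a22 * a22) * (a21 * a21)) * v := by ac_rfl
    rw [e]
    simp only [M.two, one_mul, mul_one]
  conv_lhs => rw [← hid]
  simp only [map_mul] at f1 f2 f3 f4 g1 g2 ⊢
  rw [f1, f2, f3, f4, g1, g2]
  simp only [← map_mul]
  exact hid

theorem Mdl.eighteen (h : Sol E P) (M : Mdl E ρ) {d x y : Q} (hd : d ∈ E) (hx : x ∈ P) (hy : y ∈ P)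
    (hix : d * x * d = x⁻¹) (hiy : d * y * d = y⁻¹) (hc : x * y = y * x) (hx1 : x ≠ 1) :
    y = 1 ∨ y = x ∨ y = x * x := by
  by_contra hne
  simp only [not_or] at hne
  obtain ⟨n1, n2, n3⟩ := hne
  have x3 := h.inverted_cube hd hx hix
  have y3 := h.inverted_cube hd hy hiy
  have hxi : x⁻¹ = x * x := inv_eq_of_mul_eq_one_right (by rw [← x3, pow_succ, pow_two, mul_assoc])
  have hyi : y⁻¹ = y * y := inv_eq_of_mul_eq_one_right (by rw [← y3, pow_succ, pow_two, mul_assoc])
  have mulinv : ∀ a b : Q, d * a * d = a⁻¹ → d * b * d = b⁻¹ → a * b = b * a → d * (a * b) * d = (a * b)⁻¹ := by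
    intro a b ha hb hab
    rw [show d * (a * b) * d = (d * a * d) * (d * b * d) by
      rw [show d * a * d * (d * b * d) = d * a * (d * d) * b * d by group, h.inv d hd, mul_one]; group,
      ha, hb, ← mul_inv_rev, hab]
  refine hx1 (M.four x3 y3 hc fun m hm v hv => ?_)
  have hyy : d * (y * y) * d = (y * y)⁻¹ := mulinv y y hiy hiy rfl
  have cxyy : x * (y * y) = y * y * x := by rw [← mul_assoc, hc, mul_assoc, hc, ← mul_assoc]
  rcases hm with rfl | rfl | rfl | rfl
  · exact hv
  · exact M.fix_of_inverted h hd hy hx hiy hix hc.symm n1 hv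
  · exact M.fix_of_inverted h hd (mul_mem hx hy) hx (mulinv x y hix hiy hc) hix
      (by rw [mul_assoc, ← hc]) (fun e => n3 (by rw [← hxi]; exact (inv_eq_of_mul_eq_one_right e).symm)) hv
  · exact M.fix_of_inverted h hd (mul_mem hx (mul_mem hy hy)) hx (mulinv x (y * y) hix hyy cxyy) hix
      (by rw [mul_assoc, ← cxyy]) (fun e => n2 (by
        rw [← hyi] at e
        exact (mul_inv_eq_one.1 e).symm)) hv

omit [Finite Q] in
theorem Mdl.central_pair (M : Mdl E ρ) {a b : Q} (ha : a ∈ Subgroup.center Q) (hb : b ∈ Subgroup.center Q)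
    (a3 : a ^ 3 = 1) (b3 : b ^ 3 = 1) (ha1 : a ≠ 1) : b = 1 ∨ b = a ∨ b = a * a := by
  by_contra hne
  simp only [not_or] at hne
  obtain ⟨n1, n2, n3⟩ := hne
  have hai : a⁻¹ = a * a := inv_eq_of_mul_eq_one_right (by rw [← a3, pow_succ, pow_two, mul_assoc])
  have hbi : b⁻¹ = b * b := inv_eq_of_mul_eq_one_right (by rw [← b3, pow_succ, pow_two, mul_assoc])
  refine ha1 (M.four a3 b3 (Subgroup.mem_center_iff.1 hb a) fun m hm v hv => ?_)
  have hmc : m ∈ Subgroup.center Q := by
    rcases hm with rfl | rfl | rfl | rfl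
    exacts [ha, hb, mul_mem ha hb, mul_mem ha (mul_mem hb hb)]
  have hm1 : m ≠ 1 := by
    rcases hm with rfl | rfl | rfl | rfl
    exacts [ha1, n1, fun e => n3 (by rw [← hai]; exact (inv_eq_of_mul_eq_one_right e).symm),
      fun e => n2 (by rw [← hbi] at e; exact (mul_inv_eq_one.1 e).symm)]
  let S : Subgroup W :=
    { carrier := {w | ρ m w = w}
      one_mem' := map_one _
      mul_mem' := fun {u w} hu hw => by
        show ρ m (u * w) = u * w
        rw [map_mul, show ρ m u = u from hu, show ρ m w = w from hw]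
      inv_mem' := fun {u} hu => by
        show ρ m u⁻¹ = u⁻¹
        rw [map_inv, show ρ m u = u from hu] }
  rcases M.irr S (fun g w hw => by
    show ρ m (ρ g w) = ρ g w
    rw [← MulAut.mul_apply, ← map_mul, ← Subgroup.mem_center_iff.1 hmc g, map_mul, MulAut.mul_apply,
      show ρ m w = w from hw]) with hS | hS
  · have : v ∈ S := hv
    rw [hS, Subgroup.mem_bot] at this
    rw [this, map_one]
  · refine absurd (M.faithful ((MulEquiv.ext fun w => ?_).trans (map_one ρ).symm)) hm1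
    exact (hS ▸ Subgroup.mem_top w : w ∈ S)

/-- the class has at most nine members -/
theorem small_class (h : Sol E P) (M : Mdl E ρ) : Nat.card E ≤ 9 := by
  classical
  haveI := h.normal
  haveI : Fact (Nat.Prime 3) := ⟨Nat.prime_three⟩
  by_cases hE : E = ∅
  · simp [hE]
  obtain ⟨d₀, hd₀⟩ := Set.nonempty_iff_ne_empty.2 hE
  -- it suffices to cover the class by nine elements
  have fin : ∀ f : Fin 3 × Fin 3 → Q, (∀ e ∈ E, ∃ i, f i = e) → Nat.card E ≤ 9 := by
    intro f hf
    choose g hg using hf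
    refine (Nat.card_le_card_of_injective (fun e : E => g e.1 e.2) fun a b hab => Subtype.ext ?_).trans (by simp)
    rw [← hg a.1 a.2, ← hg b.1 b.2]
    exact congrArg f hab
  have conjfix : ∀ {d a : Q}, d ∈ E → d * (d * a * d) * d = a := fun {d a} hd => by
    rw [show d * (d * a * d) * d = (d * d) * a * (d * d) by group, h.inv d hd, one_mul, mul_one]
  have diff_inv : ∀ {d a : Q}, d ∈ E → a * (d * a * d) = (d * a * d) * a →
      d * (a * (d * a * d)⁻¹) * d = (a * (d * a * d)⁻¹)⁻¹ := by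
    intro d a hd hc
    calc d * (a * (d * a * d)⁻¹) * d = d * a * (d * d) * (d * a * d)⁻¹ * d := by
          rw [h.inv d hd]; group
      _ = (d * a * d) * (d * (d * a * d)⁻¹ * d) := by group
      _ = (d * a * d) * (d * (d * a * d) * d)⁻¹ := by simp only [mul_inv_rev, h.inv_eq hd, mul_assoc]
      _ = (d * a * d) * a⁻¹ := by rw [conjfix hd]
      _ = _ := by rw [mul_inv_rev, inv_inv]
  by_cases hZ : ∃ d ∈ E, ∃ z ∈ P, (∀ p ∈ P, p * z = z * p) ∧ d * z * d ≠ z
  · -- an inverted element in the centre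
    obtain ⟨d, hd, z, hz, hzc, hdz⟩ := hZ
    have hzd : d * z * d ∈ P := by have := h.normal.conj_mem z hz d; rwa [h.inv_eq hd] at this
    set i := z * (d * z * d)⁻¹ with hi
    have hiP : i ∈ P := mul_mem hz (inv_mem hzd)
    have hii : d * i * d = i⁻¹ := diff_inv hd (hzc _ hzd).symm
    have hi1 : i ≠ 1 := fun e => hdz (mul_inv_eq_one.1 e).symm
    have hdzc : ∀ p ∈ P, p * (d * z * d) = (d * z * d) * p := by
      intro p hp
      have hp' : d * p * d ∈ P := by have := h.normal.conj_mem p hp d; rwa [h.inv_eq hd] at this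
      calc p * (d * z * d) = d * (d * p * d) * d * (d * z * d) := by rw [conjfix hd]
        _ = d * ((d * p * d) * (d * d) * z) * d := by group
        _ = d * (z * (d * p * d)) * d := by rw [h.inv d hd, mul_one, hzc _ hp']
        _ = d * z * d * p * (d * d) := by group
        _ = d * z * d * p := by rw [h.inv d hd, mul_one]
    have hic : ∀ p ∈ P, p * i = i * p := fun p hp => by
      have h1 : Commute p z := hzc p hp
      have h2 : Commute p (d * z * d) := hdzc p hp
      exact (h1.mul_right h2.inv_right).eq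
    refine fin (fun k => d * i ^ (k.1 : ℕ)) fun e he => ?_
    have hy : d * (d * e) * d = (d * e)⁻¹ := by
      rw [mul_inv_rev, h.inv_eq hd, h.inv_eq he, ← mul_assoc d d e, h.inv d hd, one_mul]
    have hde : d * (d * e) = e := by rw [← mul_assoc, h.inv d hd, one_mul]
    rcases M.eighteen h hd hiP (h.mem d hd e he) hii hy (hic _ (h.mem d hd e he)).symm hi1 with e0 | e0 | e0
    · exact ⟨(0, 0), by rw [e0, mul_one] at hde; simpa using hde⟩
    · exact ⟨(1, 0), by rw [e0] at hde; simpa using hde⟩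
    · exact ⟨(2, 0), by rw [e0] at hde; simpa [pow_two] using hde⟩
  push_neg at hZ
  -- the centre of `P` is central
  have hcent : ∀ z ∈ P, (∀ p ∈ P, p * z = z * p) → z ∈ Subgroup.center Q := by
    intro z hz hzc
    refine Subgroup.mem_center_iff.2 fun g => ?_
    have hg : g ∈ Subgroup.closure E := h.gen ▸ Subgroup.mem_top g
    refine (Subgroup.mem_centralizer_singleton_iff.1 ((Subgroup.closure_le
      (Subgroup.centralizer ({z} : Set Q))).2 (fun e he => ?_) hg))
    have := hZ e he z hz hzc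
    refine Subgroup.mem_centralizer_singleton_iff.2 ?_
    calc e * z = e * z * (e * e) := by rw [h.inv e he, mul_one]
      _ = e * z * e * e := by group
      _ = z * e := by rw [this]
  set Z := (Subgroup.center P).map P.subtype with hZdef
  have hZmem : ∀ z, z ∈ Z → z ∈ Subgroup.center Q := by
    rintro _ ⟨z, hz, rfl⟩
    exact hcent z z.2 fun p hp => congrArg Subtype.val (Subgroup.mem_center_iff.1 hz ⟨p, hp⟩)
  -- a moved element of the second centre
  by_cases hcomm : ∀ a ∈ P, ∀ b ∈ P, a * b = b * a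
  · refine fin (fun _ => d₀) fun e he => ⟨(0, 0), ?_⟩
    obtain ⟨p, hp, rfl⟩ := h.class_eq hd₀ he
    have := Subgroup.mem_center_iff.1 (hcent p hp fun q hq => hcomm q hq p hp) d₀
    show d₀ = p * d₀ * p⁻¹
    rw [← this, mul_inv_cancel_right]
  push_neg at hcomm
  obtain ⟨a, ha, b, hb, hab⟩ := hcomm
  haveI : Nontrivial (P ⧸ Subgroup.center P) := by
    refine ⟨⟨(⟨a, ha⟩ : P), 1, fun e => hab ?_⟩⟩
    exact (congrArg Subtype.val (Subgroup.mem_center_iff.1 ((QuotientGroup.eq_one_iff _).1 e) ⟨b, hb⟩)).symm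
  haveI := (h.pgroup.to_quotient (Subgroup.center P)).center_nontrivial
  obtain ⟨q, hq⟩ := exists_ne (1 : Subgroup.center (P ⧸ Subgroup.center P))
  obtain ⟨x0, hx0⟩ := QuotientGroup.mk_surjective (q : P ⧸ Subgroup.center P)
  have hx0Z : x0 ∉ Subgroup.center P := fun e => hq (Subtype.ext (by rw [← hx0]; exact (QuotientGroup.eq_one_iff _).2 e))
  have hx0c : ∀ p ∈ P, (x0 : Q) * p * (x0 : Q)⁻¹ * p⁻¹ ∈ Z := by
    intro p hp
    refine ⟨x0 * ⟨p, hp⟩ * x0⁻¹ * ⟨p, hp⟩⁻¹, ?_, rfl⟩
    show _ ∈ Subgroup.center P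
    rw [← QuotientGroup.eq_one_iff]
    have := Subgroup.mem_center_iff.1 q.2 ((⟨p, hp⟩ : P) : P ⧸ Subgroup.center P)
    rw [← hx0] at this
    rw [QuotientGroup.mk_mul, QuotientGroup.mk_mul, QuotientGroup.mk_mul, QuotientGroup.mk_inv,
      QuotientGroup.mk_inv, ← this]
    group
  obtain ⟨d, hd, hdx⟩ : ∃ d ∈ E, d * (x0 : Q) * d ≠ x0 := by
    by_contra hall
    push_neg at hall
    refine hx0Z (Subgroup.mem_center_iff.2 fun p => Subtype.ext ?_)
    have hg : (p : Q) ∈ Subgroup.closure E := h.gen ▸ Subgroup.mem_top _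
    refine Subgroup.mem_centralizer_singleton_iff.1 ((Subgroup.closure_le
      (Subgroup.centralizer ({(x0 : Q)} : Set Q))).2 (fun e he => ?_) hg)
    refine Subgroup.mem_centralizer_singleton_iff.2 ?_
    calc e * (x0 : Q) = e * x0 * (e * e) := by rw [h.inv e he, mul_one]
      _ = e * x0 * e * e := by group
      _ = x0 * e := by rw [hall e he]
  -- an element of the second centre moved by `d`
  set X : Q := (x0 : Q) with hX
  have hXd : d * X * d ∈ P := by have := h.normal.conj_mem X x0.2 d; rwa [h.inv_eq hd] at this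
  set x := d * X * d * X⁻¹ with hx
  have hxP : x ∈ P := mul_mem hXd (inv_mem x0.2)
  have hix : d * x * d = x⁻¹ := by
    rw [hx, mul_inv_rev, inv_inv]
    calc d * (d * X * d * X⁻¹) * d = (d * d) * X * d * X⁻¹ * d := by group
      _ = X * (d * X⁻¹ * d) := by rw [h.inv d hd, one_mul]; group
      _ = X * (d * X * d)⁻¹ := by rw [mul_inv_rev, mul_inv_rev, h.inv_eq hd]; group
  have hx1 : x ≠ 1 := fun e => hdx (mul_inv_eq_one.1 e)
  have hxc : ∀ p ∈ P, x * p * x⁻¹ * p⁻¹ ∈ Subgroup.center Q := by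
    intro p hp
    have hp' : d * p * d ∈ P := by have := h.normal.conj_mem p hp d; rwa [h.inv_eq hd] at this
    have c1 := hZmem _ (hx0c p hp)
    have c2 := hZmem _ (hx0c _ hp')
    have h2 : d * X * d * p * (d * X * d)⁻¹ * p⁻¹ ∈ Subgroup.center Q := by
      have := Subgroup.Normal.conj_mem (inferInstance : (Subgroup.center Q).Normal) _ c2 d
      rw [h.inv_eq hd] at this
      convert this using 1
      simp only [mul_inv_rev, h.inv_eq hd]
      rw [show d * (X * (d * p * d) * X⁻¹ * (d * (p⁻¹ * d))) * d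
        = d * X * d * p * d * X⁻¹ * d * p⁻¹ * (d * d) by group, h.inv d hd, mul_one]
      group
    have h3 : X⁻¹ * p * X * p⁻¹ ∈ Subgroup.center Q := by
      have := Subgroup.Normal.conj_mem (inferInstance : (Subgroup.center Q).Normal) _ (inv_mem c1) X⁻¹
      convert this using 1
      group
    -- split along the product
    have key : x * p * x⁻¹ * p⁻¹ = (d * X * d) * (X⁻¹ * p * X * p⁻¹) * (d * X * d)⁻¹
        * (d * X * d * p * (d * X * d)⁻¹ * p⁻¹) := by rw [hx]; group
    rw [key]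
    exact mul_mem (Subgroup.Normal.conj_mem inferInstance _ h3 _) h2
  have x3 := h.inverted_cube hd hxP hix
  have c3 : ∀ p ∈ P, (x * p * x⁻¹ * p⁻¹) ^ 3 = 1 := by
    intro p hp
    set c := x * p * x⁻¹ * p⁻¹ with hc
    have e1 : x * p * x⁻¹ = c * p := by rw [hc]; group
    have e2 : x * c * x⁻¹ = c := by rw [Subgroup.mem_center_iff.1 (hxc p hp) x, mul_inv_cancel_right]
    have e3 : x * x * x = 1 := by rw [← x3, pow_succ, pow_two]
    have e0 : x * (x * (x * p * x⁻¹) * x⁻¹) * x⁻¹ = (x * x * x) * p * (x * x * x)⁻¹ := by group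
    rw [e3, one_mul, inv_one, mul_one, e1, show x * (c * p) * x⁻¹ = (x * c * x⁻¹) * (x * p * x⁻¹) by group,
      e2, e1, show x * (c * (c * p)) * x⁻¹ = (x * c * x⁻¹) * (x * c * x⁻¹) * (x * p * x⁻¹) by group, e2, e1] at e0
    rw [pow_succ, pow_two]
    exact mul_right_cancel (b := p) (by rw [one_mul, mul_assoc]; exact e0)
  obtain ⟨t, ht, hcov⟩ : ∃ t ∈ P, ∀ p ∈ P, ∃ k : Fin 3, x * ((t ^ (k : ℕ))⁻¹ * p) = ((t ^ (k : ℕ))⁻¹ * p) * x := by
    by_cases hall : ∀ p ∈ P, x * p = p * x
    · exact ⟨1, one_mem P, fun p hp => ⟨0, by simp [hall p hp]⟩⟩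
    push_neg at hall
    obtain ⟨t, ht, hxt⟩ := hall
    refine ⟨t, ht, fun p hp => ?_⟩
    set a := x * t * x⁻¹ * t⁻¹ with ha
    set b := x * p * x⁻¹ * p⁻¹ with hb
    have ha1 : a ≠ 1 := fun e => hxt (mul_inv_eq_iff_eq_mul.1 (mul_inv_eq_one.1 e))
    have sa : x * t = a * t * x := by rw [ha]; group
    have sb : x * p = b * p * x := by rw [hb]; group
    have hac := Subgroup.mem_center_iff.1 (hxc t ht)
    have hbc := Subgroup.mem_center_iff.1 (hxc p hp)
    rcases (M.central_pair (hxc t ht) (hxc p hp) (c3 t ht) (c3 p hp) ha1 : b = 1 ∨ b = a ∨ b = a * a)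
      with e | e | e
    · exact ⟨0, by rw [e, one_mul] at sb; simpa using sb⟩
    · refine ⟨1, ?_⟩
      simp only [Fin.val_one, pow_one]
      have hbt : b * t * x = x * t := by rw [sa, ← e]
      calc x * (t⁻¹ * p) = t⁻¹ * (t * x) * t⁻¹ * p := by group
        _ = t⁻¹ * (b⁻¹ * (b * t * x)) * t⁻¹ * p := by group
        _ = t⁻¹ * b⁻¹ * (x * p) := by rw [hbt]; group
        _ = t⁻¹ * p * x := by rw [sb]; group
    · refine ⟨2, ?_⟩
      simp only [Fin.val_two]
      have s2 : x * (t * t) = b * (t * t) * x := by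
        calc x * (t * t) = (x * t) * t := by group
          _ = a * t * x * t := by rw [sa]
          _ = a * t * (x * t) := by group
          _ = a * t * (a * t * x) := by rw [sa]
          _ = a * (t * a) * t * x := by group
          _ = a * (a * t) * t * x := by rw [hac t]
          _ = b * (t * t) * x := by rw [e]; group
      rw [pow_two]
      calc x * ((t * t)⁻¹ * p) = (t * t)⁻¹ * b⁻¹ * (b * (t * t) * x) * (t * t)⁻¹ * p := by group
        _ = (t * t)⁻¹ * b⁻¹ * (x * p) := by rw [← s2]; group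
        _ = (t * t)⁻¹ * p * x := by rw [sb]; group
  refine fin (fun k => t ^ (k.1 : ℕ) * (d * x ^ (k.2 : ℕ)) * (t ^ (k.1 : ℕ))⁻¹) fun e he => ?_
  obtain ⟨p, hp, rfl⟩ := h.class_eq hd he
  obtain ⟨k, hk⟩ := hcov p hp
  set c := (t ^ (k : ℕ))⁻¹ * p with hc
  have hcP : c ∈ P := mul_mem (inv_mem (pow_mem ht _)) hp
  have hd' : c * d * c⁻¹ ∈ E := h.conj c d hd
  set y := d * (c * d * c⁻¹) with hy
  have hyP : y ∈ P := h.mem d hd _ hd'
  have hiy : d * y * d = y⁻¹ := by
    rw [hy]
    generalize c * d * c⁻¹ = d' at hd' ⊢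
    rw [mul_inv_rev, h.inv_eq hd, h.inv_eq hd', ← mul_assoc d d, h.inv d hd, one_mul]
  have hxy : x * y = y * x := by
    have k1 : Commute x c := hk
    have k2 : Commute (d * x * d) (d * c * d) := by
      show d * x * d * (d * c * d) = d * c * d * (d * x * d)
      calc d * x * d * (d * c * d) = d * (x * (d * d) * c) * d := by group
        _ = d * (c * x) * d := by rw [h.inv d hd, mul_one, hk]
        _ = d * (c * (d * d) * x) * d := by rw [h.inv d hd, mul_one]
        _ = _ := by group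
    rw [hix, Commute.inv_left_iff] at k2
    rw [show y = (d * c * d) * c⁻¹ by rw [hy]; group]
    exact (k2.mul_right k1.inv_right).eq
  rcases M.eighteen h hd hxP hyP hix hiy hxy hx1 with e | e | e
  all_goals
    have hcd : c * d * c⁻¹ = d * y := by rw [hy, ← mul_assoc, h.inv d hd, one_mul]
    rw [e] at hcd
  · exact ⟨(k, 0), by simp only [Fin.val_zero, pow_zero, ← hcd, hc]; group⟩
  · exact ⟨(k, 1), by simp only [Fin.val_one, pow_one, ← hcd, hc]; group⟩
  · exact ⟨(k, 2), by simp only [Fin.val_two, pow_two, ← hcd, hc]; group⟩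

end Cfsg.Agent.Spor.Soluble
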