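/-
Groups generated by three involutions in a triangle: at most fifty-four elements, and uniqueness.
-/
import Cfsg.Agent.Lib.Solv.Coprime

set_option autoImplicit false

namespace Cfsg.Agent.Spor.Triangle

variable {G : Type*} [Group G]

/-- three involutions with pairwise braid relations and a cube relation -/
structure Rel (a b c : G) : Prop where
  a2 : a * a = 1
  b2 : b * b = 1
  c2 : c * c = 1
  ab : a * b * a = b * a * b
  ac : a * c * a = c * a * c
  bc : b * c * b = c * b * c
  tr : (a * (b * (c * b))) ^ 3 = 1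

theorem Rel.card_le [Finite G] {a b c : G} (h : Rel a b c) : Nat.card (Subgroup.closure {a, b, c}) ≤ 54 := by
  obtain ⟨ha0, hb0, hc0, bab, bac, bbc, ht3⟩ := h
  have bc3 : (b * c) ^ 3 = 1 := by
    calc (b * c) ^ 3 = (b * c * b) * (c * b * c) := by rw [pow_succ, pow_two]; group
      _ = (c * b * c) * (c * b * c) := by rw [bbc]
      _ = c * b * (c * c) * b * c := by group
      _ = 1 := by rw [hc0, mul_one, mul_assoc c b b, hb0, mul_one, hc0]
  have ai : a⁻¹ = a := inv_eq_of_mul_eq_one_right ha0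
  have bi : b⁻¹ = b := inv_eq_of_mul_eq_one_right hb0
  have ci : c⁻¹ = c := inv_eq_of_mul_eq_one_right hc0
  have haa : ∀ u, a * (a * u) = u := fun u => by rw [← mul_assoc, ha0, one_mul]
  have hbb : ∀ u, b * (b * u) = u := fun u => by rw [← mul_assoc, hb0, one_mul]
  have hcc : ∀ u, c * (c * u) = u := fun u => by rw [← mul_assoc, hc0, one_mul]
  have rab : ∀ u, a * (b * (a * u)) = b * (a * (b * u)) := fun u => by
    rw [← mul_assoc, ← mul_assoc, bab]; group
  have rac : ∀ u, a * (c * (a * u)) = c * (a * (c * u)) := fun u => by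
    rw [← mul_assoc, ← mul_assoc, bac]; group
  have rbc : ∀ u, b * (c * (b * u)) = c * (b * (c * u)) := fun u => by
    rw [← mul_assoc, ← mul_assoc, bbc]; group
  set t1 := a * (b * (c * b)) with ht1
  set t2 := c * (a * (c * b)) with ht2
  have hc12 : c * t1 * c⁻¹ = t2 := by
    rw [ci, ht1, ht2]
    simp only [mul_assoc]
    rw [show b * (c * (b * c)) = c * (b * (c * c)) from rbc c, hc0, mul_one]
  have hc21 : c * t2 * c⁻¹ = t1 := by
    rw [ci, ht1, ht2]
    simp only [mul_assoc, hcc]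
    congr 1
    rw [show b * (c * b) = c * (b * c) by rw [← mul_assoc, bbc, mul_assoc]]
  have hcomm : t1 * t2 = t2 * t1 := by
    rw [ht1, ht2]
    simp only [mul_assoc]
    -- both sides are the square of `a c b`
    have l : b * (c * (b * (c * (a * (c * b))))) = c * (b * (a * (c * b))) := by rw [rbc, hcc]
    have r : c * (a * (c * (b * (a * (b * (c * b)))))) = a * (c * (b * (a * (c * b)))) := by
      rw [← rac, ← rab, haa]
    rw [l, r]
  have hb1 : b * t1 * b⁻¹ = t1 * t2⁻¹ := by
    rw [ht1, ht2, bi, mul_inv_rev, mul_inv_rev, mul_inv_rev, ai, bi, ci]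
    simp only [mul_assoc, hcc, hbb]
    rw [← rab, show c * (b * b) = c by rw [hb0, mul_one]]
  have hb2 : b * t2 * b⁻¹ = t2⁻¹ := by
    rw [ht2, bi, mul_inv_rev, mul_inv_rev, mul_inv_rev, ai, bi, ci]
    simp only [mul_assoc, hb0, mul_one]
  set T := Subgroup.zpowers t1 ⊔ Subgroup.zpowers t2 with hT
  set S := Subgroup.zpowers (b * c) ⊔ Subgroup.zpowers b with hS
  have hcard_sup : ∀ N K : Subgroup G, K ≤ Subgroup.normalizer (N : Set G) →
      Nat.card (N ⊔ K : Subgroup G) ≤ Nat.card N * Nat.card K := fun N K h => by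
    rw [← Cfsg.Agent.Solv.card_sup_mul_card_inf' N K h]
    exact Nat.le_mul_of_pos_right _ Nat.card_pos
  have hord : ∀ x : G, x ^ 3 = 1 → Nat.card (Subgroup.zpowers x) ≤ 3 := fun x hx => by
    rw [Nat.card_zpowers]
    exact Nat.le_of_dvd (by norm_num) (orderOf_dvd_of_pow_eq_one hx)
  have hT9 : Nat.card T ≤ 9 := by
    refine (hcard_sup _ _ ?_).trans (le_trans (Nat.mul_le_mul (?_ : _ ≤ 3) (?_ : _ ≤ 3)) le_rfl)
    · rw [Subgroup.zpowers_le]
      refine Subgroup.centralizer_le_normalizer (s := ((Subgroup.zpowers t1 : Subgroup G) : Set G)) ?_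
      rw [Subgroup.mem_centralizer_iff]
      rintro _ ⟨n, rfl⟩
      exact ((Commute.zpow_left hcomm n)).eq
    · exact hord t1 ht3
    · refine hord t2 ?_
      rw [← hc12, ← MulAut.conj_apply, ← map_pow, ht3, map_one]
  have hTn : ∀ g, g * t1 * g⁻¹ ∈ T → g * t2 * g⁻¹ ∈ T → g * g = 1 → g ∈ Subgroup.normalizer (T : Set G) := by
    intro g h1 h2 hg
    have hle : T ≤ T.comap (MulAut.conj g).toMonoidHom := by
      rw [hT, sup_le_iff, Subgroup.zpowers_le, Subgroup.zpowers_le, ← hT]
      exact ⟨h1, h2⟩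
    rw [Subgroup.mem_normalizer_iff]
    intro x
    constructor
    · exact fun hx => hle hx
    · intro hx
      have h3 : g * (g * x * g⁻¹) * g⁻¹ ∈ T := hle hx
      rwa [show g * (g * x * g⁻¹) * g⁻¹ = (g * g) * x * (g * g)⁻¹ by group, hg, one_mul, inv_one, mul_one] at h3
  have m1 : t1 ∈ T := Subgroup.mem_sup_left (Subgroup.mem_zpowers _)
  have m2 : t2 ∈ T := Subgroup.mem_sup_right (Subgroup.mem_zpowers _)
  have hnb : b ∈ Subgroup.normalizer (T : Set G) :=
    hTn b (hb1.symm ▸ mul_mem m1 (inv_mem m2)) (hb2.symm ▸ inv_mem m2) (hb0)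
  have hnc : c ∈ Subgroup.normalizer (T : Set G) :=
    hTn c (hc12.symm ▸ m2) (hc21.symm ▸ m1) (hc0)
  have hS6 : Nat.card S ≤ 6 := by
    refine (hcard_sup _ _ ?_).trans (le_trans (Nat.mul_le_mul (hord (b * c) bc3) (?_ : _ ≤ 2)) le_rfl)
    · rw [Subgroup.zpowers_le, Subgroup.mem_normalizer_iff]
      have hinv : b * (b * c) * b⁻¹ = (b * c)⁻¹ := by
        rw [mul_inv_rev, bi, ci, ← mul_assoc b b c, hb0, one_mul]
      intro x
      constructor
      · rintro ⟨n, rfl⟩
        refine ⟨-n, ?_⟩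
        show (b * c) ^ (-n) = b * (b * c) ^ n * b⁻¹
        rw [← MulAut.conj_apply, map_zpow, MulAut.conj_apply, hinv, inv_zpow']
      · rintro ⟨n, hn⟩
        refine ⟨-n, ?_⟩
        show (b * c) ^ (-n) = x
        have hn' : (b * c) ^ n = b * x * b⁻¹ := hn
        rw [show x = b⁻¹ * (b * x * b⁻¹) * b by group, ← hn']
        have := MulAut.conj_apply b ((b * c) ^ n)
        rw [map_zpow, MulAut.conj_apply, hinv, inv_zpow'] at this
        rw [this, bi]
    · rw [Nat.card_zpowers]
      exact Nat.le_of_dvd (by norm_num) (orderOf_dvd_of_pow_eq_one (by rw [pow_two, hb0]))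
  have hSn : S ≤ Subgroup.normalizer (T : Set G) := by
    rw [hS, sup_le_iff, Subgroup.zpowers_le, Subgroup.zpowers_le]
    exact ⟨mul_mem hnb hnc, hnb⟩
  have h54 : Nat.card (T ⊔ S : Subgroup G) ≤ 54 :=
    (hcard_sup T S hSn).trans (Nat.mul_le_mul hT9 hS6)
  have hbS : b ∈ T ⊔ S := Subgroup.mem_sup_right (Subgroup.mem_sup_right (Subgroup.mem_zpowers _))
  have hcS : c ∈ T ⊔ S := by
    have : b * (b * c) ∈ T ⊔ S := mul_mem hbS (Subgroup.mem_sup_right (Subgroup.mem_sup_left (Subgroup.mem_zpowers _)))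
    rwa [← mul_assoc, hb0, one_mul] at this
  have haS : a ∈ T ⊔ S := by
    have : t1 * (b * c * b)⁻¹ ∈ T ⊔ S := mul_mem (Subgroup.mem_sup_left m1) (inv_mem (mul_mem (mul_mem hbS hcS) hbS))
    rwa [show t1 * (b * c * b)⁻¹ = a by rw [ht1]; group] at this
  refine le_trans (Nat.card_le_card_of_injective _ (Subgroup.inclusion_injective ?_)) h54
  rw [Subgroup.closure_le]
  rintro x (rfl | rfl | rfl)
  exacts [haS, hbS, hcS]

theorem Rel.bij [Finite G] {K : Type*} [Group K] [Finite K] {a b c : G} (h : Rel a b c) (π : G →* K)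
    (hgen : Subgroup.closure {π a, π b, π c} = ⊤) (hK : Nat.card K = 54) :
    Function.Bijective (π.comp (Subgroup.closure {a, b, c}).subtype) := by
  have hs : Function.Surjective (π.comp (Subgroup.closure {a, b, c}).subtype) := by
    rw [← MonoidHom.range_eq_top, MonoidHom.range_comp, Subgroup.range_subtype, MonoidHom.map_closure,
      Set.image_insert_eq, Set.image_insert_eq, Set.image_singleton, hgen]
  exact (Nat.bijective_iff_surjective_and_card _).2
    ⟨hs, le_antisymm (hK ▸ h.card_le) (Nat.card_le_card_of_surjective _ hs)⟩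

/-- two groups of order fifty-four generated by such triangles are isomorphic -/
theorem iso_of_triangle {H : Type*} [Group H] [Finite G] [Finite H] {a b c : G} {a' b' c' : H}
    (hG : Rel a b c) (hH : Rel a' b' c') (gG : Subgroup.closure {a, b, c} = ⊤)
    (gH : Subgroup.closure {a', b', c'} = ⊤) (cG : Nat.card G = 54) (cH : Nat.card H = 54) :
    Nonempty (G ≃* H) := by
  have hp : Rel ((a, a') : G × H) (b, b') (c, c') :=
    ⟨Prod.ext hG.a2 hH.a2, Prod.ext hG.b2 hH.b2, Prod.ext hG.c2 hH.c2, Prod.ext hG.ab hH.ab,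
      Prod.ext hG.ac hH.ac, Prod.ext hG.bc hH.bc, Prod.ext hG.tr hH.tr⟩
  exact ⟨(MulEquiv.ofBijective _ (hp.bij (MonoidHom.fst G H) gG cG)).symm.trans
    (MulEquiv.ofBijective _ (hp.bij (MonoidHom.snd G H) gH cH))⟩

end Cfsg.Agent.Spor.Triangle
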