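import Cfsg.Prelude.Def_Transfer
import Cfsg.Agent.Lib.Spor.ThreeRelations
import Cfsg.Agent.Lib.Solv.SchurSmall

/-!
A class of 3-transpositions over a quotient without proper perfect central covers: the kernel is
elementary abelian when it is a 2-group, the centre is trivial, the non-commuting pairs of the image
generate suitably and some five pairwise commuting members of the image have product one.
-/

set_option autoImplicit false

open scoped commutatorElement

namespace Cfsg.Agent.Spor.TwoRadical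

variable {G : Type*} [Group G] {S : Type*} [Group S]

theorem closure_commute_all {A : Set G} (h : ∀ a ∈ A, ∀ b ∈ A, Commute a b) :
    ∀ x ∈ Subgroup.closure A, ∀ y ∈ Subgroup.closure A, Commute x y := by
  intro x hx y hy
  have h1 : ∀ a ∈ A, Commute a y := fun a ha => by
    have : Subgroup.closure A ≤ Subgroup.centralizer ({a} : Set G) :=
      (Subgroup.closure_le _).2 fun b hb => Subgroup.mem_centralizer_singleton_iff.2 (h b hb a ha).eq
    exact (Subgroup.mem_centralizer_singleton_iff.1 (this hy) : y * a = a * y).symm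
  have : Subgroup.closure A ≤ Subgroup.centralizer ({y} : Set G) :=
    (Subgroup.closure_le _).2 fun a ha => Subgroup.mem_centralizer_singleton_iff.2 (h1 a ha).eq
  exact (Subgroup.mem_centralizer_singleton_iff.1 (this hx) : x * y = y * x)

/-- The data: a class `D` of `G`, its image in `S` under `π`, and what is needed about that image. -/
structure Data (D : Set G) (π : G →* S) : Prop where
  cls : Cfsg.IsThreeTranspositionClass D
  surj : Function.Surjective π
  kerTwo : π.ker ≤ Cfsg.pCore 2 G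
  cent : Subgroup.center G = ⊥
  perf : commutator S = ⊤
  gen : ∀ p ∈ π '' D, ∀ r ∈ π '' D, ¬ Commute p r → ∀ s ∈ π '' D, ∃ a ∈ π '' D, ∃ b ∈ π '' D,
    (Commute a p ∨ Commute a r) ∧ (Commute b p ∨ Commute b r) ∧ s = a * b * a
  rel : ∃ t : Fin 5 → S, (∀ i, t i ∈ π '' D) ∧ (∀ i j, Commute (t i) (t j)) ∧
    t 0 * t 1 * t 2 * t 3 * t 4 = 1

variable {D : Set G} {π : G →* S}

/-- products of two members of one fibre -/
def pairs (D : Set G) (π : G →* S) : Set G := {x | ∃ a ∈ D, ∃ b ∈ D, π a = π b ∧ a * b = x}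

theorem Data.conjD (h : Data D π) {d : G} (hd : d ∈ D) (g : G) : g * d * g⁻¹ ∈ D := by
  obtain ⟨-, ⟨d₀, -, hD⟩, -⟩ := h.cls
  rw [hD] at hd ⊢
  exact hd.trans (isConj_iff.2 ⟨g, rfl⟩)

theorem Data.sq (h : Data D π) {d : G} (hd : d ∈ D) : d * d = 1 :=
  mul_self_of_order_two (h.cls.1.1 d hd)

theorem Data.inv (h : Data D π) {d : G} (hd : d ∈ D) : d⁻¹ = d :=
  inv_of_order_two (h.cls.1.1 d hd)

theorem Data.conj_self (h : Data D π) {d e : G} (hd : d ∈ D) (he : e ∈ D) : d * e * d ∈ D := by
  simpa [h.inv hd] using h.conjD he d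

variable [Finite G]

theorem Data.same_commute (h : Data D π) {a b : G} (ha : a ∈ D) (hb : b ∈ D) (e : π a = π b) :
    Commute a b := by
  refine commute_of_mul_mem_two h.cls.1 ha hb (h.kerTwo ?_)
  rw [MonoidHom.mem_ker, map_mul, ← e, ← map_mul, h.sq ha, map_one]

/-- commuting images lift to commuting members -/
theorem Data.lift_commute (h : Data D π) {a b : G} (ha : a ∈ D) (hb : b ∈ D)
    (hc : Commute (π a) (π b)) : Commute a b := by
  refine (commute_or_braid h.cls.1 ha hb).elim id fun hbr => h.same_commute ha hb ?_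
  have h1 : π a * π b * π a = π b * π a * π b := by rw [← map_mul, ← map_mul, hbr, map_mul, map_mul]
  have haa : π a * π a = 1 := by rw [← map_mul, h.sq ha, map_one]
  have hbb : π b * π b = 1 := by rw [← map_mul, h.sq hb, map_one]
  rw [hc.eq, mul_assoc, haa, mul_one, ← hc.eq, mul_assoc, hbb, mul_one] at h1
  exact h1.symm

theorem Data.pair_commute (h : Data D π) {a b d : G} (ha : a ∈ D) (hb : b ∈ D) (e : π a = π b)
    (hd : d ∈ D) (hc : Commute (π a) (π d)) : Commute (a * b) d :=
  (h.lift_commute ha hd hc).mul_left (h.lift_commute hb hd (e ▸ hc))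

theorem Data.pairs_sq (h : Data D π) {x : G} (hx : x ∈ pairs D π) : x * x = 1 := by
  obtain ⟨a, ha, b, hb, e, rfl⟩ := hx
  rw [← pow_two, (h.same_commute ha hb e).mul_pow, pow_two, pow_two, h.sq ha, h.sq hb, one_mul]

theorem pairs_ker {x : G} (hD : ∀ d ∈ D, d * d = 1) (hx : x ∈ pairs D π) : π x = 1 := by
  obtain ⟨a, ha, b, -, e, rfl⟩ := hx
  rw [map_mul, ← e, ← map_mul, hD a ha, map_one]

theorem Data.pairs_comm (h : Data D π) : ∀ x ∈ pairs D π, ∀ y ∈ pairs D π, Commute x y := by
  rintro x ⟨a, ha, b, hb, hab, rfl⟩ y ⟨c, hc, d, hd, hcd, rfl⟩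
  by_cases hac : Commute (π a) (π c)
  · exact (h.pair_commute ha hb hab hc hac).mul_right (h.pair_commute ha hb hab hd (hcd ▸ hac))
  set x := a * b with hx
  set y := c * d with hy
  have hxk : π x = 1 := pairs_ker (fun u hu => h.sq hu) ⟨a, ha, b, hb, hab, rfl⟩
  have hyk : π y = 1 := pairs_ker (fun u hu => h.sq hu) ⟨c, hc, d, hd, hcd, rfl⟩
  set z := x * y * x⁻¹ * y⁻¹ with hz
  have mv : ∀ g u : G, π g = 1 → u ∈ D → g * u * g⁻¹ ∈ D ∧ π (g * u * g⁻¹) = π u := fun g u hg hu =>
    ⟨h.conjD hu g, by rw [map_mul, map_mul, map_inv, hg, one_mul, inv_one, mul_one]⟩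
  have e1 : z = (x * c * x⁻¹) * (x * d * x⁻¹) * (d * c) := by
    have ei : y⁻¹ = d * c := inv_eq_of_mul_eq_one_right (by
      show c * d * (d * c) = 1
      rw [mul_assoc, ← mul_assoc d, h.sq hd, one_mul, h.sq hc])
    rw [hz, ei, hy]; group
  have e2 : z = (a * b) * ((y * b * y⁻¹) * (y * a * y⁻¹)) := by
    have ei : x⁻¹ = b * a := inv_eq_of_mul_eq_one_right (by
      show a * b * (b * a) = 1
      rw [mul_assoc, ← mul_assoc b, h.sq hb, one_mul, h.sq ha])
    rw [hz, ei, hx]; group
  have key : ∀ u ∈ D, Commute (π u) (π a) ∨ Commute (π u) (π c) → Commute z u := by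
    intro u hu hor
    rcases hor with hu' | hu'
    · have hq : ∀ v, v ∈ D → π v = π a → Commute v u := fun v hv e =>
        h.lift_commute hv hu (by rw [e]; exact hu'.symm)
      rw [e2]
      exact ((hq a ha rfl).mul_left (hq b hb hab.symm)).mul_left
        ((hq _ (mv y b hyk hb).1 ((mv y b hyk hb).2.trans hab.symm)).mul_left
          (hq _ (mv y a hyk ha).1 (mv y a hyk ha).2))
    · have hq : ∀ v, v ∈ D → π v = π c → Commute v u := fun v hv e =>
        h.lift_commute hv hu (by rw [e]; exact hu'.symm)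
      rw [e1]
      exact ((hq _ (mv x c hxk hc).1 (mv x c hxk hc).2).mul_left
        (hq _ (mv x d hxk hd).1 ((mv x d hxk hd).2.trans hcd.symm))).mul_left
        ((hq d hd hcd.symm).mul_left (hq c hc rfl))
  have hall : ∀ u ∈ D, Commute z u := by
    intro u hu
    obtain ⟨_, ⟨a', ha', rfl⟩, _, ⟨b', hb', rfl⟩, hA, hB, hs⟩ :=
      h.gen _ ⟨a, ha, rfl⟩ _ ⟨c, hc, rfl⟩ hac _ ⟨u, hu, rfl⟩
    have hu' : a' * u * a' ∈ D := h.conj_self ha' hu
    have he : π (a' * u * a') = π b' := by
      have haa : π a' * π a' = 1 := by rw [← map_mul, h.sq ha', map_one]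
      rw [map_mul, map_mul, hs]
      calc π a' * (π a' * π b' * π a') * π a' = (π a' * π a') * π b' * (π a' * π a') := by
            simp only [mul_assoc]
        _ = π b' := by rw [haa, one_mul, mul_one]
    have h1 := key a' ha' hA
    have h2 := key (a' * u * a') hu' (by rw [he]; exact hB)
    have e : u = a' * (a' * u * a') * a' := by
      have haa := h.sq ha'
      calc u = (a' * a') * u * (a' * a') := by rw [haa, one_mul, mul_one]
        _ = a' * (a' * u * a') * a' := by simp only [mul_assoc]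
    rw [e]
    exact (h1.mul_right h2).mul_right h1
  have hzc : z ∈ Subgroup.center G := mem_center_of_commutes h.cls.2.2 hall
  rw [h.cent, Subgroup.mem_bot] at hzc
  have hz' : ⁅x, y⁆ = 1 := hzc
  exact commutatorElement_eq_one_iff_mul_comm.1 hz'

/-- The kernel is elementary abelian. -/
theorem Data.elementary (h : Data D π)
    (stem : ∀ (N : Subgroup G) [N.Normal], N ≤ π.ker → ⁅π.ker, (⊤ : Subgroup G)⁆ ≤ N →
      commutator G ⊓ π.ker ≤ N) :
    Cfsg.IsElementaryAbelian 2 π.ker := by
  obtain ⟨hset, ⟨d₀, hd₀, hcl⟩, hgen⟩ := h.cls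
  have hsqD : ∀ d ∈ D, d * d = 1 := fun d hd => h.sq hd
  have hWn : Group.conjugatesOfSet (pairs D π) ⊆ pairs D π := by
    intro x hx
    rw [Group.mem_conjugatesOfSet_iff] at hx
    obtain ⟨_, ⟨a, ha, b, hb, e, rfl⟩, hc⟩ := hx
    obtain ⟨g, rfl⟩ := isConj_iff.1 hc
    exact ⟨_, h.conjD ha g, _, h.conjD hb g, by simp only [map_mul, map_inv, e], by group⟩
  set E := Subgroup.normalClosure (pairs D π) with hE
  have hEc : E = Subgroup.closure (pairs D π) := by
    refine le_antisymm ?_ Subgroup.closure_le_normalClosure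
    rw [hE, Subgroup.normalClosure]
    exact Subgroup.closure_mono hWn
  haveI : E.Normal := Subgroup.normalClosure_normal
  have hWE : pairs D π ⊆ E := Subgroup.subset_normalClosure
  have hEcomm : ∀ x ∈ E, ∀ y ∈ E, Commute x y := by
    rw [hEc]; exact closure_commute_all h.pairs_comm
  have hEk : E ≤ π.ker := Subgroup.normalClosure_le_normal fun x hx => pairs_ker hsqD hx
  have hqd : ∀ q ∈ π.ker, ∀ d ∈ D, q * d * q⁻¹ * d ∈ pairs D π := fun q hq d hd =>
    ⟨_, h.conjD hd q, d, hd,
      by rw [map_mul, map_mul, map_inv, MonoidHom.mem_ker.1 hq, one_mul, inv_one, mul_one], rfl⟩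
  have hQE : ⁅π.ker, (⊤ : Subgroup G)⁆ ≤ E := by
    rw [Subgroup.commutator_le]
    intro q hq g _
    rw [← QuotientGroup.eq_one_iff]
    set f := QuotientGroup.mk' E
    change f ⁅q, g⁆ = 1
    rw [map_commutatorElement, commutatorElement_eq_one_iff_mul_comm]
    have hle : Subgroup.closure D ≤ (Subgroup.centralizer ({f q} : Set (G ⧸ E))).comap f := by
      refine (Subgroup.closure_le _).2 fun d hd => Subgroup.mem_centralizer_singleton_iff.2 ?_
      have h1 : f (q * d * q⁻¹ * d) = 1 := (QuotientGroup.eq_one_iff _).2 (hWE (hqd q hq d hd))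
      have hdd : f d * f d = 1 := by rw [← map_mul, hsqD d hd, map_one]
      simp only [map_mul, map_inv] at h1
      have h2 : f q * f d * (f q)⁻¹ = f d := by
        calc f q * f d * (f q)⁻¹ = f q * f d * (f q)⁻¹ * (f d * f d) := by rw [hdd, mul_one]
          _ = (f q * f d * (f q)⁻¹ * f d) * f d := by simp only [mul_assoc]
          _ = f d := by rw [h1, one_mul]
      rw [mul_inv_eq_iff_eq_mul] at h2
      exact h2.symm
    exact (Subgroup.mem_centralizer_singleton_iff.1 (hle (hgen.ge (Subgroup.mem_top g)))).symm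
  -- the member `c` outside the derived subgroup
  obtain ⟨t, htD, htc, htp⟩ := h.rel
  choose d hdD hdt using htD
  have hdc : ∀ i j, Commute (d i) (d j) := fun i j =>
    h.lift_commute (hdD i) (hdD j) (by rw [hdt, hdt]; exact htc i j)
  set c := d 0 * d 1 * d 2 * d 3 * d 4 with hc
  have hcQ : c ∈ π.ker := by
    rw [MonoidHom.mem_ker, hc, map_mul, map_mul, map_mul, map_mul, hdt, hdt, hdt, hdt, hdt, htp]
  have hc2 : c * c = 1 := by
    have hsq : ∀ i, d i ^ 2 = 1 := fun i => by rw [pow_two]; exact hsqD _ (hdD i)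
    rw [← pow_two, hc,
      ((((hdc 0 4).mul_left (hdc 1 4)).mul_left (hdc 2 4)).mul_left (hdc 3 4)).mul_pow,
      (((hdc 0 3).mul_left (hdc 1 3)).mul_left (hdc 2 3)).mul_pow,
      ((hdc 0 2).mul_left (hdc 1 2)).mul_pow, (hdc 0 1).mul_pow, hsq, hsq, hsq, hsq, hsq]
    simp
  have hcommc : ∀ u, (∀ i, Commute u (d i)) → Commute u c := fun u hu =>
    ((((hu 0).mul_right (hu 1)).mul_right (hu 2)).mul_right (hu 3)).mul_right (hu 4)
  -- `G = L * ker π` with `L` the derived subgroup joined with `E`
  have hL : ∀ g, ∃ l ∈ commutator G, π l = π g := fun g => by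
    have : (commutator G).map π = ⊤ := by
      rw [commutator_def, Subgroup.map_commutator, Subgroup.map_top_of_surjective _ h.surj]; exact h.perf
    exact (this.symm ▸ Subgroup.mem_top (π g) : π g ∈ (commutator G).map π)
  set L := commutator G ⊔ E with hLdef
  have hLk : L ⊓ π.ker ≤ E := by
    intro x hx
    obtain ⟨hx1, hx2⟩ := Subgroup.mem_inf.1 hx
    have : x ∈ ((commutator G ⊔ E : Subgroup G) : Set G) := hx1
    rw [Subgroup.mul_normal] at this
    obtain ⟨u, hu, v, hv, rfl⟩ := this
    refine mul_mem (stem E hEk hQE ⟨hu, ?_⟩) hv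
    have h2 := mul_mem hx2 (inv_mem (hEk hv))
    rwa [mul_inv_cancel_right] at h2
  have hLn : L.Normal := Subgroup.sup_normal _ _
  have hdiff : ∀ u ∈ D, ∀ v ∈ D, u * v ∈ L := fun u hu v hv => by
    refine Subgroup.mem_sup_left ?_
    have hu' := hu
    have hv' := hv
    rw [hcl] at hu' hv'
    obtain ⟨g, hg⟩ := isConj_iff.1 ((IsConj.symm hu').trans hv')
    have e : u * v = ⁅u, g⁆ := by
      rw [commutatorElement_def, ← hg, h.inv hu]; group
    rw [e]
    exact Subgroup.commutator_mem_commutator (Subgroup.mem_top u) (Subgroup.mem_top g)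
  have hd0 : d 0 ∈ D := hdD 0
  have hcmod : c * d 0 ∈ L := by
    have e : c * d 0 = (d 1 * d 2) * (d 3 * d 4) := by
      rw [(hcommc (d 0) (fun i => hdc 0 i)).symm.eq, hc]
      simp only [← mul_assoc]
      rw [hsqD _ hd0, one_mul]
    rw [e]
    exact mul_mem (hdiff _ (hdD 1) _ (hdD 2)) (hdiff _ (hdD 3) _ (hdD 4))
  have hgen2 : (⊤ : Subgroup G) ≤ L ⊔ Subgroup.zpowers c := by
    rw [← hgen, Subgroup.closure_le]
    intro u hu
    have h1 : u * d 0 * (c * d 0)⁻¹ ∈ L := mul_mem (hdiff u hu _ hd0) (inv_mem hcmod)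
    have e : u = u * d 0 * (c * d 0)⁻¹ * c := by group
    rw [e]
    exact mul_mem (Subgroup.mem_sup_left h1) (Subgroup.mem_sup_right (Subgroup.mem_zpowers c))
  -- `E = [E, G]`
  haveI := hLn
  have hEG : E ≤ ⁅E, (⊤ : Subgroup G)⁆ := by
    set N := ⁅E, (⊤ : Subgroup G)⁆ with hN
    have hNE : N ≤ E := Subgroup.commutator_le_left _ _
    set f := QuotientGroup.mk' N
    have hcen : ∀ e ∈ E, ∀ g, f e * f g = f g * f e := fun e he g => by
      rw [← commutatorElement_eq_one_iff_mul_comm, ← map_commutatorElement]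
      exact (QuotientGroup.eq_one_iff _).2 (Subgroup.commutator_mem_commutator he (Subgroup.mem_top g))
    -- commutation with `c` modulo `N` is multiplicative
    have hcg : ∀ g, f ⁅c, g⁆ ∈ (E.map f : Subgroup _) := fun g =>
      ⟨_, hQE (Subgroup.commutator_mem_commutator hcQ (Subgroup.mem_top g)), rfl⟩
    have hcent : ∀ g, ∀ w, f ⁅c, g⁆ * w = w * f ⁅c, g⁆ := fun g w => by
      obtain ⟨e, he, hee⟩ := hcg g
      obtain ⟨g', rfl⟩ := QuotientGroup.mk'_surjective N w
      rw [← hee]
      exact hcen e he g'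
    let φ : G →* G ⧸ N :=
      { toFun := fun g => f ⁅c, g⁆
        map_one' := by rw [commutatorElement_one_right, map_one]
        map_mul' := fun g g' => by
          have : ⁅c, g * g'⁆ = ⁅c, g⁆ * (g * ⁅c, g'⁆ * g⁻¹) := by
            simp only [commutatorElement_def]; group
          rw [this, map_mul, map_mul, map_mul, ← hcent g' (f g), map_inv, mul_inv_cancel_right] }
    have hphi : ∀ g, φ g = 1 := by
      have h1 : L ⊔ Subgroup.zpowers c ≤ φ.ker := by
        refine sup_le (sup_le ?_ fun e he => ?_) (Subgroup.zpowers_le.2 ?_)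
        · rw [commutator_def, Subgroup.commutator_le]
          intro u _ v _
          rw [MonoidHom.mem_ker, map_commutatorElement, commutatorElement_eq_one_iff_mul_comm]
          exact hcent u (φ v)
        · show f ⁅c, e⁆ = 1
          rw [map_commutatorElement, commutatorElement_eq_one_iff_mul_comm]
          exact (hcen e he c).symm
        · show f ⁅c, c⁆ = 1
          rw [commutatorElement_self, map_one]
      exact fun g => h1 (hgen2 (Subgroup.mem_top g))
    have hkerN : ⁅π.ker, (⊤ : Subgroup G)⁆ ≤ N := by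
      rw [Subgroup.commutator_le]
      intro q hq g _
      obtain ⟨l, hl, m, hm, hlm⟩ : ∃ l ∈ L, ∃ m ∈ Subgroup.zpowers c, l * m = q := by
        have : q ∈ ((L ⊔ Subgroup.zpowers c : Subgroup G) : Set G) := hgen2 (Subgroup.mem_top q)
        rw [Subgroup.normal_mul] at this
        exact this
      have hmQ : m ∈ π.ker := (Subgroup.zpowers_le.2 hcQ) hm
      have hlE : l ∈ E := hLk ⟨hl, by
        have := mul_mem hq (inv_mem hmQ)
        rwa [← hlm, mul_inv_cancel_right] at this⟩
      rw [← QuotientGroup.eq_one_iff]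
      show f ⁅q, g⁆ = 1
      rw [map_commutatorElement, commutatorElement_eq_one_iff_mul_comm, ← hlm, map_mul]
      have hcc : Commute (f c) (f g) := commutatorElement_eq_one_iff_mul_comm.1
        (by rw [← map_commutatorElement]; exact hphi g)
      obtain ⟨k, hk⟩ := Subgroup.mem_zpowers_iff.1 hm
      have hmc : Commute (f m) (f g) := by rw [← hk, map_zpow]; exact hcc.zpow_left k
      exact ((show Commute (f l) (f g) from hcen l hlE g).mul_left hmc).eq
    rw [hE]
    refine Subgroup.normalClosure_le_normal ?_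
    rintro _ ⟨a, ha, b, hb, e, rfl⟩
    refine stem N (hNE.trans hEk) hkerN ⟨?_, ?_⟩
    · have ha' := ha
      have hb' := hb
      rw [hcl] at ha' hb'
      obtain ⟨g, hg⟩ := isConj_iff.1 ((IsConj.symm ha').trans hb')
      have e' : a * b = ⁅a, g⁆ := by rw [commutatorElement_def, ← hg, h.inv ha]; group
      rw [e']
      exact Subgroup.commutator_mem_commutator (Subgroup.mem_top a) (Subgroup.mem_top g)
    · show π (a * b) = 1
      rw [map_mul, ← e, ← map_mul, hsqD a ha, map_one]
  -- `c` centralises `E`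
  have hcE : ∀ x ∈ E, Commute c x := by
    set M := E ⊓ Subgroup.centralizer ({c} : Set G) with hM
    have hMn : M.Normal := ⟨fun x hx g => by
      obtain ⟨hx1, hx2⟩ := Subgroup.mem_inf.1 hx
      have hx2' : Commute x c := Subgroup.mem_centralizer_singleton_iff.1 hx2
      refine Subgroup.mem_inf.2 ⟨Subgroup.Normal.conj_mem ‹E.Normal› x hx1 g,
        Subgroup.mem_centralizer_singleton_iff.2 ?_⟩
      have he : g * c * g⁻¹ * c⁻¹ ∈ E := by
        have := inv_mem (hQE (Subgroup.commutator_mem_commutator hcQ (Subgroup.mem_top g)))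
        rwa [commutatorElement_inv] at this
      have h1 : Commute (g * x * g⁻¹) (g * c * g⁻¹) := (Commute.conj_iff g).2 hx2'
      have h2 : Commute (g * x * g⁻¹) ((g * c * g⁻¹ * c⁻¹)⁻¹) :=
        (hEcomm _ (Subgroup.Normal.conj_mem ‹E.Normal› x hx1 g) _ (inv_mem he))
      have := h2.mul_right h1
      rw [mul_inv_rev, inv_inv, inv_mul_cancel_right] at this
      exact this.eq⟩
    have h0 : ∀ x ∈ E, ⁅x, d 0⁆ ∈ M := by
      intro x hx
      refine Subgroup.mem_inf.2 ⟨?_, Subgroup.mem_centralizer_singleton_iff.2 ?_⟩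
      · exact Subgroup.commutator_le_left E ⊤ (Subgroup.commutator_mem_commutator hx (Subgroup.mem_top _))
      · refine (hcommc _ fun i => ?_).eq
        have hxk : π x = 1 := hEk hx
        have e : ⁅x, d 0⁆ = (x * d 0 * x⁻¹) * d 0 := by rw [commutatorElement_def, h.inv hd0]
        rw [e]
        refine h.pair_commute (h.conjD hd0 x) hd0 ?_ (hdD i) ?_
        · rw [map_mul, map_mul, map_inv, hxk, one_mul, inv_one, mul_one]
        · rw [map_mul, map_mul, map_inv, hxk, one_mul, inv_one, mul_one, hdt, hdt]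
          exact htc 0 i
    have hle : ⁅E, (⊤ : Subgroup G)⁆ ≤ M := by
      rw [Subgroup.commutator_le]
      intro x hx g _
      haveI := hMn
      rw [← QuotientGroup.eq_one_iff]
      show QuotientGroup.mk' M ⁅x, g⁆ = 1
      rw [map_commutatorElement, commutatorElement_eq_one_iff_mul_comm]
      set f := QuotientGroup.mk' M
      have hle : Subgroup.closure D ≤ (Subgroup.centralizer ({f x} : Set (G ⧸ M))).comap f := by
        refine (Subgroup.closure_le _).2 fun u hu => Subgroup.mem_centralizer_singleton_iff.2 ?_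
        have hu' := hu
        have hd0' := hd0
        rw [hcl] at hu' hd0'
        obtain ⟨k, hk⟩ := isConj_iff.1 ((IsConj.symm hd0').trans hu')
        have hx' : k⁻¹ * x * k ∈ E := by
          have := Subgroup.Normal.conj_mem ‹E.Normal› x hx k⁻¹
          rwa [inv_inv] at this
        have h1 := hMn.conj_mem _ (h0 _ hx') k
        have e : k * ⁅k⁻¹ * x * k, d 0⁆ * k⁻¹ = ⁅x, u⁆ := by
          rw [commutatorElement_def, commutatorElement_def, ← hk]; group
        rw [e] at h1
        have h2 : f ⁅x, u⁆ = 1 := (QuotientGroup.eq_one_iff _).2 h1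
        rw [map_commutatorElement, commutatorElement_eq_one_iff_mul_comm] at h2
        exact h2.symm
      exact (Subgroup.mem_centralizer_singleton_iff.1 (hle (hgen.ge (Subgroup.mem_top g)))).symm
    intro x hx
    exact (Subgroup.mem_centralizer_singleton_iff.1 (Subgroup.mem_inf.1 (hle (hEG hx))).2 :
      x * c = c * x).symm
  -- conclusion
  have hker : π.ker = Subgroup.closure (insert c (pairs D π)) := by
    refine le_antisymm (fun q hq => ?_)
      ((Subgroup.closure_le _).2 (Set.insert_subset hcQ fun x hx => pairs_ker hsqD hx))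
    have : q ∈ ((L ⊔ Subgroup.zpowers c : Subgroup G) : Set G) := hgen2 (Subgroup.mem_top q)
    rw [Subgroup.normal_mul] at this
    obtain ⟨l, hl, m, hm, rfl⟩ := this
    have hlE : l ∈ E := hLk ⟨hl, by
      have := mul_mem hq (inv_mem ((Subgroup.zpowers_le.2 hcQ) hm))
      rwa [mul_inv_cancel_right] at this⟩
    rw [hEc] at hlE
    exact mul_mem (Subgroup.closure_mono (Set.subset_insert _ _) hlE)
      ((Subgroup.zpowers_le.2 (Subgroup.subset_closure (Set.mem_insert _ _))) hm)
  have hab : ∀ x ∈ π.ker, ∀ y ∈ π.ker, Commute x y := by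
    rw [hker]
    refine closure_commute_all ?_
    rintro x (rfl | hx) y (rfl | hy)
    · exact Commute.refl _
    · exact hcE y (hWE hy)
    · exact (hcE x (hWE hx)).symm
    · exact h.pairs_comm x hx y hy
  refine ⟨⟨⟨fun x y => Subtype.ext (hab _ x.2 _ y.2).eq⟩⟩, fun x hx => ?_⟩
  rw [hker] at hx
  refine And.left (Subgroup.closure_induction
    (p := fun z hz => z ^ 2 = 1 ∧ z ∈ π.ker) ?_ ⟨one_pow 2, one_mem _⟩ ?_ ?_ hx)
  · rintro z (rfl | hz)
    · exact ⟨by rw [pow_two]; exact hc2, hcQ⟩
    · exact ⟨by rw [pow_two]; exact h.pairs_sq hz, pairs_ker hsqD hz⟩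
  · rintro u v - - ⟨hu, hu'⟩ ⟨hv, hv'⟩
    exact ⟨by rw [(hab u hu' v hv').mul_pow, hu, hv, one_mul], mul_mem hu' hv'⟩
  · rintro u - ⟨hu, hu'⟩
    exact ⟨by rw [inv_pow, hu, inv_one], inv_mem hu'⟩

end Cfsg.Agent.Spor.TwoRadical
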