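import Mathlib

/-!
Data for two centralisers of order 21504 acting on sixteen points.
-/

set_option autoImplicit false

namespace Cfsg.Agent.Spor.TransvectionType

/-- The list of the sixteen moved points. -/
def pts : List ℕ := [3, 16, 20, 12, 4, 5, 11, 10, 9, 18, 14, 13, 8, 15, 22, 17]

/-- The generators in degree twenty-four and their inverses. -/
def gen24 : List (List ℕ × List ℕ) := [([6, 7, 2, 15, 3, 16, 23, 19, 10, 14, 12, 20, 22, 18, 9, 11, 8, 4, 13, 1, 17, 21, 5, 0], [23, 19, 2, 4, 17, 22, 0, 1, 16, 14, 8, 15, 10, 18, 9, 3, 5, 20, 13, 7, 11, 21, 12, 6]),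
  ([0, 1, 2, 3, 4, 5, 6, 7, 8, 9, 10, 11, 12, 13, 14, 15, 16, 17, 18, 19, 20, 21, 22, 23], [0, 1, 2, 3, 4, 5, 6, 7, 8, 9, 10, 11, 12, 13, 14, 15, 16, 17, 18, 19, 20, 21, 22, 23]),
  ([23, 2, 21, 9, 13, 14, 0, 7, 17, 8, 16, 3, 20, 11, 10, 22, 18, 5, 15, 1, 12, 6, 4, 19], [6, 19, 1, 11, 22, 17, 21, 7, 9, 3, 14, 13, 20, 4, 5, 18, 10, 8, 16, 23, 12, 2, 15, 0])]

/-- Their images in degree sixteen and the inverses. -/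
def gen16 : List (List ℕ × List ℕ) := [([13, 12, 15, 14, 0, 1, 2, 3, 10, 11, 8, 9, 7, 6, 5, 4], [4, 5, 6, 7, 15, 14, 13, 12, 10, 11, 8, 9, 1, 0, 3, 2]),
  ([0, 1, 2, 3, 4, 5, 6, 7, 8, 9, 10, 11, 12, 13, 14, 15], [0, 1, 2, 3, 4, 5, 6, 7, 8, 9, 10, 11, 12, 13, 14, 15]),
  ([8, 9, 3, 2, 11, 10, 0, 1, 12, 13, 7, 6, 15, 14, 4, 5], [6, 7, 3, 2, 14, 15, 11, 10, 0, 1, 5, 4, 8, 9, 13, 12])]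

/-- The matrices. -/
def gen5 : List (List (List ℕ)) := [[[1, 1, 0, 1, 1], [0, 1, 0, 0, 0], [0, 0, 1, 0, 1], [0, 1, 0, 1, 1], [0, 1, 0, 1, 0]],
  [[1, 0, 0, 0, 0], [0, 1, 0, 0, 0], [0, 0, 1, 0, 0], [0, 0, 0, 1, 0], [0, 0, 0, 0, 1]],
  [[1, 0, 1, 1, 0], [0, 1, 0, 0, 0], [0, 0, 1, 1, 0], [0, 0, 0, 0, 1], [0, 1, 1, 0, 0]]]

/-- A transversal of words at each level. -/
def levels : List (ℕ × List (List ℕ)) := [(0, [[], [0, 0, 2, 0], [0, 0, 0], [2, 0, 0, 0], [2, 2, 0], [0, 2, 0], [0, 0], [2, 0, 2], [2], [2, 0, 0, 2, 0], [0, 2], [2, 2, 2, 0], [2, 2], [0], [2, 0], [2, 2, 2]]),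
  (2, [[], [0, 2, 0, 2, 0, 0, 0], [2, 2, 0, 0, 2, 0, 2, 2, 2], [0, 0, 2, 2, 2], [2, 0, 0, 2, 0, 0], [0, 0, 2, 0, 0, 0, 2, 0], [0, 2, 2, 0], [2, 2, 2, 2, 2, 0], [0, 2, 0, 0, 0, 2, 2], [2, 0, 0], [2, 0, 0, 0, 2, 2, 0], [2, 2, 2, 2, 0, 2, 0, 0, 0], [0, 0, 2, 2, 0, 0, 2], [2, 2, 0, 2, 2, 0, 2, 2]]),
  (4, [[], [2, 2, 2, 0, 0, 2, 2, 0, 0, 0], [2, 2, 0, 2, 0, 2, 2, 0, 0, 0, 2, 0], [0, 0, 2, 0, 0, 2, 2, 0, 0, 0, 2, 0], [0, 2, 0, 0, 2, 2, 2, 0, 0, 0, 0], [2, 0, 0, 0, 2, 2, 0, 0, 2, 2, 0], [0, 0, 2, 0, 2, 2, 0, 2], [2, 2, 2, 0, 2, 2, 0, 0, 2], [2, 2, 0, 2, 2, 2, 0, 2], [2, 0, 2, 2, 0, 2, 0, 0, 0, 0], [2, 0, 0, 2, 0, 0, 0, 2, 2, 0], [0, 0, 2, 2, 2, 0, 0, 2, 0, 0, 0, 2, 0]]),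
  (8, [[], [2, 2, 2, 0, 0, 2, 2, 2, 2, 2, 0, 0, 2, 2], [0, 0, 2, 2, 0, 2, 0, 0, 0, 0, 2, 2, 2, 0, 0], [2, 2, 2, 0, 2, 0, 0, 0, 2, 2, 2, 2, 2, 0, 2], [2, 0, 0, 2, 2, 0, 2, 2, 0, 2, 2, 2, 0, 0], [2, 0, 0, 2, 2, 2, 0, 0, 0, 0, 0], [2, 0, 2, 2, 2, 0, 2, 2], [2, 0, 2, 0, 2, 2, 0, 2, 0, 0, 0, 2, 0, 0]])]

end Cfsg.Agent.Spor.TransvectionType
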