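import Cfsg.Agent.Lib.Spor.U43Corr

/-!
The subgroups of type 3.U4(3) of SU(6,2) form three classes, exchanged by diagonal automorphisms.
-/

set_option autoImplicit false
set_option maxRecDepth 100000

namespace Cfsg.Agent.Spor.U43

open Matrix
open Cfsg.Agent.Spor.SpFour (F4)
open Cfsg.Agent.Spor.SUSix (G6 uperm)

theorem dlt_ne (n : ℕ) (j : Fin 6) : dlt n j ≠ 0 := by
  unfold dlt
  split_ifs
  · exact pow_ne_zero _ (by decide)
  · exact one_ne_zero

theorem dlt_mul (n : ℕ) : Matrix.diagonal (dlt n) * Matrix.diagonal (dlt (2 * n)) = 1 := by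
  rw [Matrix.diagonal_mul_diagonal, ← Matrix.diagonal_one]
  congr 1
  funext j
  unfold dlt
  split_ifs
  · rw [← pow_add, show n + 2 * n = 3 * n by ring, pow_mul,
      show (F4.w : F4) ^ 3 = 1 by decide +kernel, one_pow]
  · exact one_mul 1

/-- conjugation of matrices by the diagonal matrix -/
def adM (n : ℕ) (M : M6) : M6 := Matrix.diagonal (dlt n) * M * Matrix.diagonal (dlt (2 * n))

theorem adM_apply (n : ℕ) (M : M6) (i j : Fin 6) : adM n M i j = dlt n i * M i j * dlt (2 * n) j := by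
  rw [adM, Matrix.mul_diagonal, Matrix.diagonal_mul]

theorem dlt_mul' (n : ℕ) : Matrix.diagonal (dlt (2 * n)) * Matrix.diagonal (dlt n) = 1 :=
  mul_eq_one_comm.mp (dlt_mul n)

theorem diag_unit (f : Fin 6 → F4) (hf : ∀ j, f j ≠ 0) : (Matrix.diagonal f)ᴴ * Matrix.diagonal f = 1 := by
  rw [Matrix.diagonal_conjTranspose, Matrix.diagonal_mul_diagonal, ← Matrix.diagonal_one]
  congr 1
  funext j
  exact norm_one _ (hf j)

theorem adM_unit (n : ℕ) (A : G6) : (adM n (mat A))ᴴ * adM n (mat A) = 1 := by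
  have h1 := diag_unit (dlt n) (dlt_ne n)
  have h2 := diag_unit (dlt (2 * n)) (dlt_ne _)
  calc (adM n (mat A))ᴴ * adM n (mat A)
      = (Matrix.diagonal (dlt (2 * n)))ᴴ * ((mat A)ᴴ * ((Matrix.diagonal (dlt n))ᴴ * Matrix.diagonal (dlt n)) *
          mat A) * Matrix.diagonal (dlt (2 * n)) := by
        rw [adM, Matrix.conjTranspose_mul, Matrix.conjTranspose_mul]
        simp only [mul_assoc]
    _ = 1 := by rw [h1, mul_one, mat_unit, mul_one, h2]

theorem adM_det (n : ℕ) (A : G6) : (adM n (mat A)).det = 1 := by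
  rw [adM, Matrix.det_mul, Matrix.det_mul, show (mat A).det = 1 from A.1.2, mul_one, ← Matrix.det_mul, dlt_mul,
    Matrix.det_one]

/-- the diagonal automorphism -/
def Ad (n : ℕ) : G6 →* G6 where
  toFun A := Small.Unitary.mkSU SpFour.F4.star_eq_pow _ (adM_unit n A) (adM_det n A)
  map_one' := G6_ext (by
    show adM n 1 = 1
    rw [adM, mul_one, dlt_mul])
  map_mul' A B := G6_ext (by
    show adM n (mat A * mat B) = adM n (mat A) * adM n (mat B)
    simp only [adM, mul_assoc]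
    rw [← mul_assoc (Matrix.diagonal (dlt (2 * n))) (Matrix.diagonal (dlt n)), dlt_mul', one_mul])

theorem mat_Ad (n : ℕ) (A : G6) : mat (Ad n A) = adM n (mat A) := rfl

theorem Ad_inj (n : ℕ) : Function.Injective (Ad n) := fun A B h => G6_ext (by
  have h' : adM n (mat A) = adM n (mat B) := congrArg mat h
  have := congrArg (fun M => Matrix.diagonal (dlt (2 * n)) * M * Matrix.diagonal (dlt n)) h'
  simp only [adM, ← mul_assoc, dlt_mul', one_mul] at this
  simp only [mul_assoc, dlt_mul', mul_one] at this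
  exact this)

theorem Ad_bij (n : ℕ) : Function.Bijective (Ad n) := Finite.injective_iff_bijective.mp (Ad_inj n)

theorem Ad_NN (n : ℕ) {A : G6} (h : A ∈ NN) :
    ∃ h' : Ad n A ∈ NN, mp ⟨Ad n A, h'⟩ = mp ⟨A, h⟩ := by
  have h' : Ad n A ∈ NN := fun j => by
    obtain ⟨i, hi⟩ := h j
    exact ⟨i, fun i' hne => by rw [mat_Ad, adM_apply, hi i' hne, mul_zero, zero_mul]⟩
  refine ⟨h', mp_eq fun j => ?_⟩
  rw [mat_Ad, adM_apply, mp_apply]
  exact mul_ne_zero (mul_ne_zero (dlt_ne _ _) (rowAt_ne ⟨A, h⟩ j)) (dlt_ne _ _)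

theorem Ad_MM (n : ℕ) {A : G6} (h : A ∈ MM) : Ad n A ∈ MM := by
  obtain ⟨hN, he⟩ := mem_MM.mp h
  obtain ⟨h', e⟩ := Ad_NN n hN
  exact mem_MM.mpr ⟨h', e ▸ he⟩

/-- the three groups -/
def Kc (n : ℕ) : Subgroup G6 := K1.map (Ad n)

theorem card_Kc (n : ℕ) : Nat.card (Kc n) = 9797760 := by
  rw [Kc, Subgroup.card_map_of_injective (Ad_inj n), card_K1]

theorem MM_le_Kc (n : ℕ) : MM ≤ Kc n := by
  have h : MM.map (Ad n) = MM := Subgroup.eq_of_le_of_card_ge
    (by rintro _ ⟨A, hA, rfl⟩; exact Ad_MM n hA) (by rw [Subgroup.card_map_of_injective (Ad_inj n)])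
  rw [← h]
  exact Subgroup.map_mono MM_le_K1

/-- the exceptional generator -/
def ecG (n : ℕ) : G6 := Ad n (gk 5)

theorem ecG_mem (n : ℕ) : ecG n ∈ Kc n := ⟨gk 5, gk_mem 5, rfl⟩

theorem has_ec {n : ℕ} (hn : n < 3) {H : Subgroup G6} (h : ecG n ∈ H) : Has H (EC.getD n []) :=
  ⟨ecG n, h, by rw [ec_ok n hn, matL_encM]; rfl⟩

theorem ecG_of_has {n : ℕ} (hn : n < 3) {H : Subgroup G6} (h : Has H (EC.getD n [])) : ecG n ∈ H := by
  obtain ⟨x, hx, e⟩ := h
  rw [ec_ok n hn, matL_encM] at e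
  have : x = ecG n := G6_ext e
  exact this ▸ hx

theorem gk_MM : ∀ s : Fin 6, s ≠ 5 → gk s ∈ MM := by
  intro s hs
  have hp : ∀ p, Equiv.Perm.sign p = 1 → pm p ∈ MM := fun p hp => mem_MM.mpr ⟨pm_mem p, by rw [mp_pm]; exact hp⟩
  fin_cases s
  · exact DD_le_MM (dE_mem 1)
  · exact hp _ (lg_even sA (by simp))
  · exact hp _ (lg_even sB (by simp))
  · exact hp _ (lg_even c5 (by simp))
  · exact hp _ (lg_even c5b (by simp))
  · exact absurd rfl hs

theorem Kc_le {n : ℕ} {K : Subgroup G6} (hM : MM ≤ K) (h : ecG n ∈ K) : Kc n ≤ K := by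
  rw [Kc, K1, MonoidHom.map_closure, Subgroup.closure_le]
  rintro _ ⟨_, ⟨s, rfl⟩, rfl⟩
  by_cases hs : s = 5
  · subst hs; exact h
  · exact hM (Ad_MM n (gk_MM s hs))

theorem t01_notMem_Kc (n : ℕ) : pm t01 ∉ Kc n := by
  rintro ⟨y, hy, e⟩
  obtain ⟨y', he⟩ : ∃ y', y' = pm t01 * y := ⟨_, rfl⟩
  have hyN : y ∈ NN := fun j => by
    obtain ⟨i, hi⟩ := (e ▸ pm_mem t01 : Ad n y ∈ NN) j
    refine ⟨i, fun i' hne => ?_⟩
    have := hi i' hne
    rw [mat_Ad, adM_apply] at this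
    rcases mul_eq_zero.mp this with h | h
    · exact (mul_eq_zero.mp h).resolve_left (dlt_ne _ _)
    · exact absurd h (dlt_ne _ _)
  obtain ⟨h', hm⟩ := Ad_NN n hyN
  have hp : mp ⟨y, hyN⟩ = t01 := by
    rw [← hm]
    refine Eq.trans ?_ (mp_pm t01)
    congr 1
    exact Subtype.ext e
  have : y' ∈ MM := mem_MM.mpr ⟨he ▸ mul_mem (pm_mem _) hyN, by
    subst he
    rw [show (⟨pm t01 * y, _⟩ : NN) = ⟨pm t01, pm_mem _⟩ * ⟨y, hyN⟩ from rfl, map_mul, map_mul, mp_pm, hp,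
      t01_odd]
    decide⟩
  refine t01_notMem ?_
  have := mul_mem (MM_le_K1 this) (inv_mem hy)
  rwa [he, mul_inv_cancel_right] at this

/-- the element of a case -/
def caseG (i : ℕ) : G6 := if i % 2 = 0 then blkG (kOf i) (lOf i) else blkG (kOf i) (lOf i) * pm t01

theorem mat_caseG (i : ℕ) : mat (caseG i) = caseM i := by
  unfold caseG caseM
  split_ifs <;> rfl

theorem has_case {i : ℕ} (hi : i < 32) {H : Subgroup G6} (h : caseG i ∈ H) : Has H (CC.getD i []) :=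
  ⟨_, h, by rw [cc_ok i hi, matL_encM, mat_caseG]⟩

theorem case_idx : ∀ k l : Fin 4, kOf (8 * k.val + 2 * l.val) = k ∧ lOf (8 * k.val + 2 * l.val) = l ∧
    kOf (8 * k.val + 2 * l.val + 1) = k ∧ lOf (8 * k.val + 2 * l.val + 1) = l := by decide +kernel

theorem has_LG_le {K : Subgroup G6} (hM : MM ≤ K) {l : List ℕ} (hl : l ∈ LG) : Has K l :=
  let ⟨x, hx, e⟩ := has_LG l hl
  ⟨x, hM hx, e⟩

theorem good_case {K : Subgroup G6} (hM : MM ≤ K) (hK : Nat.card K = 9797760) {i : ℕ} (hi : i < 32)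
    (hc : caseG i ∈ K) (hg : i ∈ goodD.map Prod.fst) : ∃ j < 3, K = Kc j := by
  obtain ⟨⟨i, j, st⟩, hx, rfl⟩ := List.mem_map.mp hg
  have h := List.all_eq_true.mp good_ok _ hx
  simp only [Bool.and_eq_true, decide_eq_true_eq] at h
  refine ⟨j, h.1, ?_⟩
  have hr := reach_has (H := K) (fun l hl => ?_) h.2
  · exact (Subgroup.eq_of_le_of_card_ge (Kc_le hM (ecG_of_has h.1 hr)) (by rw [hK, card_Kc])).symm
  · rcases List.mem_append.mp hl with hl | hl
    · exact has_LG_le hM hl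
    · rw [List.mem_singleton] at hl
      exact hl ▸ has_case hi hc

theorem eleven_not {K : Subgroup G6} (hK : Nat.card K = 9797760) {gs : List (List ℕ)}
    {st pw : List (ℕ × List ℕ)} (hgs : ∀ l ∈ gs, Has K l) (h : elevenOK gs st pw = true) : False := by
  obtain ⟨x, hx, h1, h2⟩ := eleven_mem hgs h
  exact eleven_false hx h1 h2 (by rw [hK]; norm_num)

/-- A subgroup of the type containing the Sylow subgroup is one of the three. -/
theorem eq_Kc {K : Subgroup G6} (hT : IsT K) (hP : P6 ≤ K) : ∃ j < 3, K = Kc j := by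
  obtain ⟨hM, g, hg, hnorm, hgN⟩ := struct_of hT hP
  obtain ⟨A, hA, hAblk, hAN⟩ : ∃ A ∈ K, IsBlk (mat A) ∧ A ∉ NN := by
    rcases blk_of_normalises hnorm with h | h
    · exact ⟨g, hg, h, hgN⟩
    · refine ⟨_, mul_mem (hM pm_sw_mem) hg, h, fun hh => hgN ?_⟩
      simpa using mul_mem (inv_mem (pm_mem sw)) hh
  obtain ⟨k, l, hm⟩ := blk_decomp hAblk
  have hkl : 2 ≤ 8 * k.val + 2 * l.val := by
    by_contra hlt
    have hk : k = 0 := Fin.ext (by simp only [Fin.val_zero]; omega)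
    have hl : l = 0 := Fin.ext (by simp only [Fin.val_zero]; omega)
    subst hk hl
    have h1 : blkG 0 0 = 1 := G6_ext (by rw [mat_blkG, blk_zero]; rfl)
    rw [h1, inv_one, one_mul] at hm
    exact hAN hm
  obtain ⟨h0k, h0l, h1k, h1l⟩ := case_idx k l
  obtain ⟨i, hi, hi2, hc⟩ : ∃ i < 32, 2 ≤ i ∧ caseG i ∈ K := by
    rcases Int.units_eq_one_or (Equiv.Perm.sign (mp ⟨_, hm⟩)) with h | h
    · refine ⟨8 * k.val + 2 * l.val, by omega, hkl, ?_⟩
      rw [caseG, if_pos (by omega), h0k, h0l]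
      have := mul_mem hA (inv_mem (hM (mem_MM.mpr ⟨hm, h⟩)))
      rwa [_root_.mul_inv_rev, inv_inv, ← mul_assoc, mul_inv_cancel, one_mul] at this
    · refine ⟨8 * k.val + 2 * l.val + 1, by omega, by omega, ?_⟩
      rw [caseG, if_neg (by omega), h1k, h1l]
      have hMx : (pm t01)⁻¹ * ((blkG k l)⁻¹ * A) ∈ MM := mem_MM.mpr ⟨mul_mem (inv_mem (pm_mem _)) hm, by
        rw [show (⟨(pm t01)⁻¹ * ((blkG k l)⁻¹ * A), _⟩ : NN) = ⟨pm t01, pm_mem _⟩⁻¹ * ⟨_, hm⟩ from rfl, map_mul,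
          map_mul, map_inv, mp_pm, h, map_inv, t01_odd]
        decide⟩
      have := mul_mem hA (inv_mem (hM hMx))
      rwa [show A * ((pm t01)⁻¹ * ((blkG k l)⁻¹ * A))⁻¹ = blkG k l * pm t01 by group] at this
  have hgs : ∀ l ∈ LG ++ [CC.getD i []], Has K l := fun l hl => by
    rcases List.mem_append.mp hl with hl | hl
    · exact has_LG_le hM hl
    · rw [List.mem_singleton] at hl
      exact hl ▸ has_case hi hc
  rcases cases_cover i hi hi2 with h | h | h
  · obtain ⟨⟨i, st, pw⟩, hx, rfl⟩ := List.mem_map.mp h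
    exact (eleven_not hT.2.1 hgs (List.all_eq_true.mp bad_ok _ hx)).elim
  · exact good_case hM hT.2.1 hi hc h
  · obtain ⟨⟨i, st⟩, hx, rfl⟩ := List.mem_map.mp h
    have h' := List.all_eq_true.mp odd_ok _ hx
    simp only [Bool.and_eq_true, decide_eq_true_eq] at h'
    obtain ⟨⟨hev, hgood⟩, hr⟩ := h'
    obtain ⟨x, hxK, ex⟩ := reach_has hgs hr
    rw [matL_encM] at ex
    obtain rfl : x = pm t01 := G6_ext ex
    simp only at hev hgood hi hc
    have hc' : caseG (i + 1) ∈ K := by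
      rw [caseG, if_pos hev] at hc
      rw [caseG, if_neg (by omega), show kOf (i + 1) = kOf i by unfold kOf; congr 1; omega,
        show lOf (i + 1) = lOf i by unfold lOf; congr 1; omega]
      exact mul_mem hc hxK
    obtain ⟨j, hj, e⟩ := good_case hM hT.2.1 (show i + 1 < 32 by omega) hc' hgood
    exact absurd (e ▸ hxK) (t01_notMem_Kc j)

theorem norm_Kc {n : ℕ} (hn : n < 3) : ∀ y ∈ Kc n, pm t01 * y * (pm t01)⁻¹ ∈ Kc n := by
  have hle : Kc n ≤ (Kc n).comap (MulAut.conj (pm t01)).toMonoidHom := by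
    refine Kc_le (fun x hx => ?_) ?_
    · obtain ⟨hN, he⟩ := mem_MM.mp hx
      show pm t01 * x * (pm t01)⁻¹ ∈ Kc n
      refine MM_le_Kc n (mem_MM.mpr ⟨mul_mem (mul_mem (pm_mem _) hN) (inv_mem (pm_mem _)), ?_⟩)
      rw [show (⟨pm t01 * x * (pm t01)⁻¹, _⟩ : NN) = ⟨pm t01, pm_mem _⟩ * ⟨x, hN⟩ * ⟨pm t01, pm_mem _⟩⁻¹ from rfl,
        map_mul, map_mul, map_mul, map_mul, map_inv, map_inv, mp_pm, he, t01_odd]
      decide
    · show pm t01 * ecG n * (pm t01)⁻¹ ∈ Kc n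
      have hgs : ∀ l ∈ LG ++ [EC.getD n []], Has (Kc n) l := fun l hl => by
        rcases List.mem_append.mp hl with hl | hl
        · exact has_LG_le (MM_le_Kc n) hl
        · rw [List.mem_singleton] at hl
          exact hl ▸ has_ec hn (ecG_mem n)
      obtain ⟨x, hx, e⟩ := reach_has hgs (norm_ok n hn)
      have heq : pm t01 * ecG n * (pm t01)⁻¹ = x := by
        refine G6_ext ?_
        have hi : (pm t01)⁻¹ = pm t01 := inv_eq_of_mul_eq_one_right (by
          rw [← pm_mul, show t01 * t01 = 1 from Equiv.swap_mul_self _ _, pm_one])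
        rw [hi, e, matL_mulL, matL_mulL, matL_encM, ec_ok n hn, matL_encM]
        exact rfl
      exact heq ▸ hx
  exact fun y hy => hle hy

/-- The three groups are pairwise not conjugate. -/
theorem not_conj {i j : Fin 3} (hij : i < j) (g : G6) :
    (Kc i).map (MulAut.conj g).toMonoidHom ≠ Kc j := by
  intro h
  haveI : Fact (Nat.Prime 3) := ⟨by norm_num⟩
  have hcard : Nat.card (P6.map (MulAut.conj g).toMonoidHom) = 3 ^ 7 := by
    rw [Subgroup.card_map_of_injective (show Function.Injective (MulAut.conj g).toMonoidHom from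
      (MulAut.conj g).injective), card_P6]
    norm_num
  obtain ⟨k, hk, hkP⟩ := exists_conj_of_card (p := 3) (n := 7) (K := Kc j) (P := P6.map (MulAut.conj g).toMonoidHom)
    (Q := P6) (by rw [card_Kc]; exact fact37) (h ▸ Subgroup.map_mono (P6_le_MM.trans (MM_le_Kc i)))
    (P6_le_MM.trans (MM_le_Kc j)) hcard (by rw [card_P6]; norm_num)
  obtain ⟨q, hq⟩ : ∃ q, q = k * g := ⟨_, rfl⟩
  have hconj : ∀ y ∈ Kc i, q * y * q⁻¹ ∈ Kc j := fun y hy => by
    have : g * y * g⁻¹ ∈ Kc j := h ▸ ⟨y, hy, rfl⟩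
    rw [hq, show k * g * y * (k * g)⁻¹ = k * (g * y * g⁻¹) * k⁻¹ by group]
    exact mul_mem (mul_mem hk this) (inv_mem hk)
  have hP : ∀ y ∈ P6, q * y * q⁻¹ ∈ P6 := fun y hy => by
    have : k * (g * y * g⁻¹) * k⁻¹ ∈ P6 := hkP ▸ ⟨g * y * g⁻¹, ⟨y, hy, rfl⟩, rfl⟩
    rwa [hq, show k * g * y * (k * g)⁻¹ = k * (g * y * g⁻¹) * k⁻¹ by group]
  have hqD : DD.map (MulAut.conj q).toMonoidHom = DD := by
    refine DD_unique ?_ ?_ ?_
    · rintro _ ⟨y, hy, rfl⟩
      exact hP y (DD_le_P6 hy)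
    · rw [Subgroup.card_map_of_injective (show Function.Injective (MulAut.conj q).toMonoidHom from
        (MulAut.conj q).injective), card_DD]
    · rintro _ ⟨x, hx, rfl⟩ _ ⟨y, hy, rfl⟩
      refine comm1_of_commute ?_
      rw [← map_mul, ← map_mul]
      congr 1
      refine G6_ext ?_
      rw [mat_mul, mat_mul, mat_DD hx, mat_DD hy, Matrix.diagonal_mul_diagonal, Matrix.diagonal_mul_diagonal]
      congr 1
      funext r
      exact mul_comm _ _
  have hqN : q ∈ NN := mem_NN_of_normalises fun d hd => hqD ▸ ⟨d, hd, rfl⟩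
  have hle : Kc i ≤ Kc j := by
    rcases Int.units_eq_one_or (Equiv.Perm.sign (mp ⟨q, hqN⟩)) with hs | hs
    · intro y hy
      have hqi : q ∈ Kc i := MM_le_Kc i (mem_MM.mpr ⟨hqN, hs⟩)
      have := hconj _ (mul_mem (mul_mem (inv_mem hqi) hy) hqi)
      rwa [show q * (q⁻¹ * y * q) * q⁻¹ = y by group] at this
    · intro y hy
      have hmi : q * (pm t01)⁻¹ ∈ Kc i := MM_le_Kc i (mem_MM.mpr ⟨mul_mem hqN (inv_mem (pm_mem _)), by
        rw [show (⟨q * (pm t01)⁻¹, _⟩ : NN) = ⟨q, hqN⟩ * ⟨pm t01, pm_mem _⟩⁻¹ from rfl, map_mul, map_mul, map_inv,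
          map_inv, mp_pm, hs, t01_odd]
        decide⟩)
      obtain ⟨m, hm⟩ : ∃ m, m = q * (pm t01)⁻¹ := ⟨_, rfl⟩
      rw [← hm] at hmi
      have hi : (pm t01)⁻¹ = pm t01 := inv_eq_of_mul_eq_one_right (by
        rw [← pm_mul, show t01 * t01 = 1 from Equiv.swap_mul_self _ _, pm_one])
      have h2 := norm_Kc i.2 _ (mul_mem (mul_mem (inv_mem hmi) hy) hmi)
      have := hconj _ h2
      have hqe : q = m * pm t01 := by rw [hm, inv_mul_cancel_right]
      rwa [hqe, show m * pm t01 * (pm t01 * (m⁻¹ * y * m) * (pm t01)⁻¹) * (m * pm t01)⁻¹ = y by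
        rw [_root_.mul_inv_rev, hi]
        have ht : pm t01 * pm t01 = 1 := by rw [← pm_mul, show t01 * t01 = 1 from Equiv.swap_mul_self _ _, pm_one]
        simp only [mul_assoc, ← mul_assoc (pm t01) (pm t01), ht, one_mul]
        group] at this
  obtain ⟨⟨a, b, st, pw⟩, hx, e⟩ := List.mem_map.mp (pair_cover i j hij)
  simp only [Prod.mk.injEq] at e
  obtain ⟨rfl, rfl⟩ := e
  refine eleven_not (card_Kc j) (fun l hl => ?_) (List.all_eq_true.mp pair_ok _ hx)
  rcases List.mem_append.mp hl with hl | hl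
  · exact has_LG_le (MM_le_Kc j) hl
  · simp only [List.mem_cons, List.not_mem_nil, or_false] at hl
    rcases hl with rfl | rfl
    · exact has_ec i.2 (hle (ecG_mem i))
    · exact has_ec j.2 (ecG_mem j)

end Cfsg.Agent.Spor.U43
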