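import Cfsg.Agent.Lib.Spor.SUSixPoints

/-!
Monomial elements of the six-dimensional special unitary group over the field with four elements,
and certificates for products of matrices given by the codes of their rows.
-/

set_option autoImplicit false
set_option maxRecDepth 100000

namespace Cfsg.Agent.Spor.U43

open Cfsg.Agent.Spor.CC Matrix
open Cfsg.Agent.Spor.SpFour (F4)
open Cfsg.Agent.Spor.SUSix (G6 code vecOf vecOf_code uperm ker_eq)

/-- matrices -/
abbrev M6 : Type := Matrix (Fin 6) (Fin 6) F4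

/-- the matrix of an element -/
abbrev mat (A : G6) : M6 := A.1.1

theorem G6_ext {A B : G6} (h : mat A = mat B) : A = B := Subtype.ext (Subtype.ext h)

theorem mat_mul (A B : G6) : mat (A * B) = mat A * mat B := rfl

theorem mat_one : mat (1 : G6) = 1 := rfl

theorem mat_unit (A : G6) : (mat A)ᴴ * mat A = 1 := Small.Unitary.conjTranspose_mul_self F4.star_eq_pow A

/-- the matrix with given row codes -/
def matL (l : List ℕ) : M6 := Matrix.of fun r c => vecOf (l.getD r.val 0) c

/-- the row codes of a matrix -/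
def encM (M : M6) : List ℕ :=
  [code (M 0), code (M 1), code (M 2), code (M 3), code (M 4), code (M 5)]

theorem matL_encM (M : M6) : matL (encM M) = M := by
  funext r c
  show vecOf ((encM M).getD r.val 0) c = M r c
  fin_cases r <;> exact congrFun (vecOf_code _) c

/-- product of coded matrices -/
def mulL (a b : List ℕ) : List ℕ := encM (matL a * matL b)

theorem matL_mulL (a b : List ℕ) : matL (mulL a b) = matL a * matL b := matL_encM _

/-- a group element with given code lies in a subgroup -/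
def Has (H : Subgroup G6) (l : List ℕ) : Prop := ∃ x ∈ H, mat x = matL l

theorem Has.mul {H : Subgroup G6} {a b : List ℕ} (ha : Has H a) (hb : Has H b) : Has H (mulL a b) := by
  obtain ⟨x, hx, ex⟩ := ha
  obtain ⟨y, hy, ey⟩ := hb
  exact ⟨x * y, mul_mem hx hy, by rw [mat_mul, ex, ey, matL_mulL]⟩

/-- the code of the identity -/
def oneL : List ℕ := encM 1

theorem Has.one (H : Subgroup G6) : Has H oneL := ⟨1, one_mem H, (matL_encM 1).symm⟩

/-- a chain of products: pairs of the number of a generator and the product reached -/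
def chainOK (gs : List (List ℕ)) : List ℕ → List (ℕ × List ℕ) → Bool
  | _, [] => true
  | cur, (k, nxt) :: rest => decide (k < gs.length) && (mulL cur (gs.getD k []) == nxt) && chainOK gs nxt rest

/-- the end of a chain -/
def chainEnd : List ℕ → List (ℕ × List ℕ) → List ℕ
  | cur, [] => cur
  | _, (_, nxt) :: rest => chainEnd nxt rest

theorem chain_has {H : Subgroup G6} {gs : List (List ℕ)} (hgs : ∀ l ∈ gs, Has H l) :
    ∀ (st : List (ℕ × List ℕ)) (cur : List ℕ), Has H cur → chainOK gs cur st = true →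
      Has H (chainEnd cur st)
  | [], _, h, _ => h
  | (k, nxt) :: rest, cur, h, hok => by
    simp only [chainOK, Bool.and_eq_true, decide_eq_true_eq, beq_iff_eq] at hok
    obtain ⟨⟨hk, he⟩, hr⟩ := hok
    rw [List.getD_eq_getElem _ _ hk] at he
    exact chain_has hgs rest nxt (he ▸ h.mul (hgs _ (List.getElem_mem hk))) hr

/-- chain from the identity to a target -/
def reach (gs : List (List ℕ)) (st : List (ℕ × List ℕ)) (t : List ℕ) : Bool :=
  chainOK gs oneL st && (chainEnd oneL st == t)

theorem reach_has {H : Subgroup G6} {gs : List (List ℕ)} (hgs : ∀ l ∈ gs, Has H l)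
    {st : List (ℕ × List ℕ)} {t : List ℕ} (h : reach gs st t = true) : Has H t := by
  simp only [reach, Bool.and_eq_true, beq_iff_eq] at h
  exact h.2 ▸ chain_has hgs st oneL (Has.one H) h.1

/-! ### Monomial elements -/

/-- every column has at most one nonzero entry -/
def IsM (M : M6) : Prop := ∀ j, ∃ i, ∀ i', i' ≠ i → M i' j = 0

instance (M : M6) : Decidable (IsM M) := by unfold IsM; infer_instance

theorem IsM.mul {A B : M6} (ha : IsM A) (hb : IsM B) : IsM (A * B) := fun j => by
  obtain ⟨k, hk⟩ := hb j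
  obtain ⟨i, hi⟩ := ha k
  refine ⟨i, fun i' h' => ?_⟩
  rw [Matrix.mul_apply, Finset.sum_eq_single k (fun k' _ hk' => by rw [hk k' hk', mul_zero])
    (fun h => absurd (Finset.mem_univ k) h), hi i' h', zero_mul]

theorem IsM.one : IsM (1 : M6) := fun j => ⟨j, fun _ h => Matrix.one_apply_ne h⟩

/-- the monomial subgroup -/
def NN : Subgroup G6 where
  carrier := {A | IsM (mat A)}
  one_mem' := IsM.one
  mul_mem' ha hb := ha.mul hb
  inv_mem' {A} h := by
    have hf : IsOfFinOrder A := isOfFinOrder_of_finite A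
    obtain ⟨n, hn⟩ := hf.mem_powers_iff_mem_zpowers.mpr ⟨-1, zpow_neg_one A⟩
    show IsM (mat A⁻¹)
    rw [← hn]
    clear hn
    induction n with
    | zero => exact IsM.one
    | succ k ih =>
      show IsM (mat (A ^ (k + 1)))
      rw [pow_succ]
      exact ih.mul h

theorem mem_NN {A : G6} : A ∈ NN ↔ IsM (mat A) := Iff.rfl

theorem star_eq_zero_iff : ∀ x : F4, star x = 0 ↔ x = 0 := by decide +kernel

theorem col_ne (A : G6) (j : Fin 6) : ∃ i, mat A i j ≠ 0 := by
  by_contra h
  push Not at h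
  have e := congrFun (congrFun (mat_unit A) j) j
  rw [Matrix.mul_apply, Finset.sum_eq_zero (fun i _ => by rw [h i, mul_zero]),
    Matrix.one_apply_eq] at e
  exact zero_ne_one e

/-- the row of the nonzero entry of a column -/
noncomputable def rowAt (x : NN) (j : Fin 6) : Fin 6 := (col_ne x.1 j).choose

theorem rowAt_ne (x : NN) (j : Fin 6) : mat x.1 (rowAt x j) j ≠ 0 := (col_ne x.1 j).choose_spec

theorem entry_ne_iff (x : NN) (i j : Fin 6) : mat x.1 i j ≠ 0 ↔ i = rowAt x j := by
  obtain ⟨k, hk⟩ := x.2 j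
  have h1 : rowAt x j = k := by
    by_contra h
    exact rowAt_ne x j (hk _ h)
  constructor
  · intro h
    rw [h1]
    by_contra h'
    exact h (hk _ h')
  · rintro rfl
    exact rowAt_ne x j

theorem entry_zero (x : NN) {i j : Fin 6} (h : i ≠ rowAt x j) : mat x.1 i j = 0 :=
  by_contra fun h' => h ((entry_ne_iff x i j).mp h')

theorem rowAt_inj (x : NN) : Function.Injective (rowAt x) := fun j k h => by
  by_contra hne
  have e := congrFun (congrFun (mat_unit x.1) j) k
  rw [Matrix.mul_apply, Finset.sum_eq_single (rowAt x j)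
    (fun i _ hi => by rw [entry_zero x (h ▸ hi), mul_zero]) (fun h => absurd (Finset.mem_univ _) h),
    Matrix.one_apply_ne hne, Matrix.conjTranspose_apply] at e
  rcases mul_eq_zero.mp e with e | e
  · exact rowAt_ne x j ((star_eq_zero_iff _).mp e)
  · exact rowAt_ne x k (h ▸ e)

theorem rowAt_mul (x y : NN) (j : Fin 6) : rowAt (x * y) j = rowAt x (rowAt y j) := by
  refine ((entry_ne_iff (x * y) _ j).mp ?_).symm
  show (mat x.1 * mat y.1) (rowAt x (rowAt y j)) j ≠ 0
  rw [Matrix.mul_apply, Finset.sum_eq_single (rowAt y j)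
    (fun i _ hi => by rw [entry_zero y hi, mul_zero]) (fun h => absurd (Finset.mem_univ _) h)]
  exact mul_ne_zero (rowAt_ne x _) (rowAt_ne y j)

theorem rowAt_one (j : Fin 6) : rowAt 1 j = j :=
  ((entry_ne_iff 1 j j).mp (by show (1 : M6) j j ≠ 0; rw [Matrix.one_apply_eq]; exact one_ne_zero)).symm

/-- the permutation of the lines -/
noncomputable def mp : NN →* Equiv.Perm (Fin 6) where
  toFun x := Equiv.ofBijective (rowAt x) (Finite.injective_iff_bijective.mp (rowAt_inj x))
  map_one' := Equiv.ext rowAt_one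
  map_mul' x y := Equiv.ext (rowAt_mul x y)

theorem mp_apply (x : NN) (j : Fin 6) : mp x j = rowAt x j := rfl

theorem mp_eq {x : NN} {p : Equiv.Perm (Fin 6)} (h : ∀ j, mat x.1 (p j) j ≠ 0) : mp x = p :=
  Equiv.ext fun j => ((entry_ne_iff x _ _).mp (h j)).symm

/-- the monomial elements with permutation in a subgroup -/
noncomputable def lift6 (H : Subgroup (Equiv.Perm (Fin 6))) : Subgroup G6 := (H.comap mp).map NN.subtype

theorem mem_lift6 {H : Subgroup (Equiv.Perm (Fin 6))} {A : G6} :
    A ∈ lift6 H ↔ ∃ h : A ∈ NN, mp ⟨A, h⟩ ∈ H := by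
  constructor
  · rintro ⟨x, hx, rfl⟩
    exact ⟨x.2, hx⟩
  · rintro ⟨h, hx⟩
    exact ⟨⟨A, h⟩, hx, rfl⟩

theorem lift6_le (H : Subgroup (Equiv.Perm (Fin 6))) : lift6 H ≤ NN := fun _ h => (mem_lift6.mp h).1

/-- matrix of a permutation -/
def pmM (p : Equiv.Perm (Fin 6)) : M6 := Matrix.of fun i j => if i = p j then 1 else 0

theorem pmM_unit (p : Equiv.Perm (Fin 6)) : (pmM p)ᴴ * pmM p = 1 := by
  ext j k
  rw [Matrix.mul_apply, Finset.sum_eq_single (p j)
    (fun i _ hi => by simp [pmM, hi]) (fun h => absurd (Finset.mem_univ _) h)]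
  by_cases h : j = k
  · subst h; simp [pmM]
  · rw [Matrix.one_apply_ne h]
    simp [pmM, h]

theorem pmM_det (p : Equiv.Perm (Fin 6)) : (pmM p).det = 1 := by
  have e : pmM p = p.symm.toPEquiv.toMatrix := by
    ext i j
    simp [pmM, PEquiv.toMatrix_apply, Equiv.symm_apply_eq]
  rw [e, Matrix.det_permutation]
  rcases Int.units_eq_one_or (Equiv.Perm.sign p.symm) with h | h <;> rw [h]
  · simp
  · simp only [Units.val_neg, Units.val_one, Int.cast_neg, Int.cast_one]
    decide +kernel

/-- the element of a permutation -/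
def pm (p : Equiv.Perm (Fin 6)) : G6 :=
  Small.Unitary.mkSU F4.star_eq_pow (pmM p) (pmM_unit p) (pmM_det p)

theorem mat_pm (p : Equiv.Perm (Fin 6)) : mat (pm p) = pmM p := rfl

theorem pm_mem (p : Equiv.Perm (Fin 6)) : pm p ∈ NN :=
  fun j => ⟨p j, fun i hi => by simp [mat_pm, pmM, hi]⟩

theorem mp_pm (p : Equiv.Perm (Fin 6)) : mp ⟨pm p, pm_mem p⟩ = p :=
  mp_eq fun j => by simp [mat_pm, pmM]

/-- the diagonal subgroup -/
noncomputable def DD : Subgroup G6 := lift6 ⊥

theorem mem_DD {A : G6} : A ∈ DD ↔ ∀ i j, i ≠ j → mat A i j = 0 := by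
  rw [DD, mem_lift6]
  constructor
  · rintro ⟨h, hb⟩ i j hij
    refine entry_zero ⟨A, h⟩ ?_
    rw [← mp_apply, Subgroup.mem_bot.mp hb]
    exact hij
  · intro h
    have hN : A ∈ NN := fun j => ⟨j, fun i hi => h i j hi⟩
    refine ⟨hN, Subgroup.mem_bot.mpr (mp_eq fun j hj => ?_)⟩
    obtain ⟨i, hi⟩ := col_ne A j
    exact hi (if e : i = j then e ▸ hj else h i j e)

theorem mp_apply_of_mem_DD {x : NN} (h : x.1 ∈ DD) : mp x = 1 := by
  obtain ⟨h', hb⟩ := mem_lift6.mp h
  exact Subgroup.mem_bot.mp hb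

theorem DD_le_lift6 (H : Subgroup (Equiv.Perm (Fin 6))) : DD ≤ lift6 H := fun A h => by
  obtain ⟨h', hb⟩ := mem_lift6.mp h
  exact mem_lift6.mpr ⟨h', by rw [Subgroup.mem_bot.mp hb]; exact one_mem H⟩

/-- the monomial elements with even permutation -/
noncomputable def MM : Subgroup G6 := lift6 (alternatingGroup (Fin 6))

theorem mem_MM {A : G6} : A ∈ MM ↔ ∃ h : A ∈ NN, Equiv.Perm.sign (mp ⟨A, h⟩) = 1 := mem_lift6

end Cfsg.Agent.Spor.U43
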