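import Cfsg.Agent.Lib.Spor.U43Mono

/-!
Elements normalising the central subgroup of the Sylow 3-subgroup are products of a block matrix
built from two of four frames and a monomial element.
-/

set_option autoImplicit false
set_option maxRecDepth 100000

namespace Cfsg.Agent.Spor.U43

open Cfsg.Agent.Spor.CC Matrix
open Cfsg.Agent.Spor.SpFour (F4)
open Cfsg.Agent.Spor.SUSix (G6 V6)
open Cfsg.Agent.Small.Unitary (herm)

/-- vectors of a three-dimensional block -/
abbrev V3 : Type := Fin 3 → F4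

/-- the vector with a number -/
def v3 (k : ℕ) : V3 := ![F4.ofN (k % 4), F4.ofN (k / 4 % 4), F4.ofN (k / 16)]

/-- the number of a vector -/
def c3 (f : V3) : ℕ := (f 0).toN + 4 * (f 1).toN + 16 * (f 2).toN

theorem c3_spec : ∀ f : V3, c3 f < 64 ∧ v3 (c3 f) = f := by decide +kernel

/-- the columns of the four frames -/
def FC : Fin 4 → Fin 3 → V3 :=
  ![![![1, 0, 0], ![0, 1, 0], ![0, 0, 1]],
    ![![1, 1, 1], ![1, F4.w, F4.v], ![1, F4.v, F4.w]],
    ![![F4.v, F4.v, 1], ![1, F4.w, 1], ![1, F4.v, F4.v]],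
    ![![F4.w, F4.w, 1], ![1, F4.w, F4.w], ![1, F4.v, 1]]]

/-- every coordinate but one vanishes in a frame -/
def oneNZ (k : Fin 4) (u : V3) : Bool :=
  decide (∃ a : Fin 3, ∀ a' : Fin 3, a' ≠ a → herm (FC k a') u = 0)

/-- unit vector -/
def unit3 (a : ℕ) : Bool := decide (herm (v3 a) (v3 a) = 1)

/-- orthogonal vectors -/
def orth3 (a b : ℕ) : Bool := decide (herm (v3 a) (v3 b) = 0)

theorem frames_chk : ((List.range 64).all fun a => !unit3 a || (List.range 64).all fun b =>
    !(unit3 b && orth3 a b) || (List.range 64).all fun c => !(unit3 c && orth3 a c && orth3 b c) ||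
      [0, 1, 2, 3].any fun k => oneNZ k (v3 a) && oneNZ k (v3 b) && oneNZ k (v3 c)) = true := by
  decide +kernel

theorem frame_of {u v w : V3} (hu : herm u u = 1) (hv : herm v v = 1) (hw : herm w w = 1)
    (huv : herm u v = 0) (huw : herm u w = 0) (hvw : herm v w = 0) :
    ∃ k : Fin 4, ∀ x ∈ [u, v, w], ∃ a : Fin 3, ∀ a' : Fin 3, a' ≠ a → herm (FC k a') x = 0 := by
  have h := List.all_eq_true.mp frames_chk _ (List.mem_range.mpr (c3_spec u).1)
  simp only [unit3, (c3_spec u).2, hu, decide_true, Bool.not_true, Bool.false_or, List.all_eq_true] at h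
  have h2 := h _ (List.mem_range.mpr (c3_spec v).1)
  simp only [orth3, (c3_spec u).2, (c3_spec v).2, hv, huv, decide_true, Bool.and_self, Bool.not_true,
    Bool.false_or, List.all_eq_true] at h2
  have h3 := h2 _ (List.mem_range.mpr (c3_spec w).1)
  simp only [(c3_spec w).2, hw, huw, hvw, decide_true, Bool.and_self, Bool.not_true, Bool.false_or,
    List.any_eq_true, Bool.and_eq_true, oneNZ, decide_eq_true_eq] at h3
  obtain ⟨k, -, ⟨h4, h5⟩, h6⟩ := h3
  exact ⟨k, fun x hx => by fin_cases hx <;> assumption⟩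

/-- block matrix of two frames -/
def blkM (k l : Fin 4) : M6 :=
  Matrix.of fun i j =>
    if hi : i.val < 3 then (if hj : j.val < 3 then FC k ⟨j, hj⟩ ⟨i, hi⟩ else 0)
    else if j.val < 3 then 0 else FC l ⟨j - 3, by omega⟩ ⟨i - 3, by omega⟩

theorem blk_split : ∀ k l, blkM k 0 * blkM 0 l = blkM k l := by decide +kernel

theorem blk_unit : ∀ k l, (blkM k l)ᴴ * blkM k l = 1 := by decide +kernel

theorem blk_det_left : ∀ k, (blkM k 0).det = 1 := by decide +kernel

theorem blk_det_right : ∀ l, (blkM 0 l).det = 1 := by decide +kernel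

theorem blk_det (k l : Fin 4) : (blkM k l).det = 1 := by
  rw [← blk_split, Matrix.det_mul, blk_det_left, blk_det_right, one_mul]

/-- block element of two frames -/
def blkG (k l : Fin 4) : G6 := Small.Unitary.mkSU F4.star_eq_pow _ (blk_unit k l) (blk_det k l)

theorem mat_blkG (k l : Fin 4) : mat (blkG k l) = blkM k l := rfl

theorem blk_zero : blkM 0 0 = 1 := by decide +kernel

theorem mat_inv (A : G6) : mat A⁻¹ = (mat A)ᴴ := by
  have h : mat A * mat A⁻¹ = 1 := by rw [← mat_mul, mul_inv_cancel, mat_one]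
  calc mat A⁻¹ = ((mat A)ᴴ * mat A) * mat A⁻¹ := by rw [mat_unit, one_mul]
    _ = (mat A)ᴴ := by rw [mul_assoc, h, mul_one]

theorem row_ne (A : G6) (i : Fin 6) : ∃ j, mat A i j ≠ 0 := by
  obtain ⟨j, hj⟩ := col_ne A⁻¹ i
  rw [mat_inv, Matrix.conjTranspose_apply] at hj
  exact ⟨j, fun h => hj (by rw [h, star_zero])⟩

/-- block diagonal -/
def IsBlk (M : M6) : Prop := ∀ i j : Fin 6, decide (i.val < 3) ≠ decide (j.val < 3) → M i j = 0

/-- the permutation interchanging the blocks -/
def sw : Equiv.Perm (Fin 6) := Equiv.swap 0 3 * Equiv.swap 1 4 * Equiv.swap 2 5 * Equiv.swap 0 1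

theorem sw_even : Equiv.Perm.sign sw = 1 := by decide +kernel

theorem pm_sw_mem : pm sw ∈ MM := mem_MM.mpr ⟨pm_mem sw, by rw [mp_pm]; exact sw_even⟩

/-- the element distinguishing the blocks -/
def e0 : Fin 243 := 229

theorem e0_BV : BV e0 = true := by decide +kernel

theorem BV_cases : ∀ e, BV e = true → fv e = fv e0 ∨ (∀ j, fv e j = fv e0 (sw j)) ∨
    (∃ i, ∀ j, fv e0 j ≠ fv e i) ∨ ∃ j, ∀ i, fv e0 j ≠ fv e i := by decide +kernel

theorem e0_sep : ∀ i j : Fin 6, fv e0 i = fv e0 j → decide (i.val < 3) = decide (j.val < 3) := by decide +kernel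

theorem isBlk_of_comm {A : G6}
    (h : mat A * Matrix.diagonal (fv e0) = Matrix.diagonal (fv e0) * mat A) : IsBlk (mat A) := by
  intro i j hij
  have e := congrFun (congrFun h i) j
  rw [Matrix.mul_diagonal, Matrix.diagonal_mul, mul_comm] at e
  by_contra hne
  exact hij (e0_sep i j (mul_right_cancel₀ hne e).symm)

/-- An element normalising `BB` is block diagonal, up to the interchange of the blocks. -/
theorem blk_of_normalises {g : G6} (hg : ∀ b ∈ BB, g * b * g⁻¹ ∈ BB) :
    IsBlk (mat g) ∨ IsBlk (mat (pm sw * g)) := by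
  obtain ⟨e', he, hB⟩ := BV_of_mem_BB (hg _ (mem_BB_of_BV e0_BV))
  have key : mat g * Matrix.diagonal (fv e0) = Matrix.diagonal (fv e') * mat g := by
    have : g * dE e0 = dE e' * g := by rw [he]; group
    exact congrArg mat this
  have ent : ∀ i j, mat g i j ≠ 0 → fv e0 j = fv e' i := fun i j hne => by
    have e := congrFun (congrFun key i) j
    rw [Matrix.mul_diagonal, Matrix.diagonal_mul, mul_comm] at e
    exact mul_right_cancel₀ hne e
  rcases BV_cases e' hB with h | h | ⟨i, h⟩ | ⟨j, h⟩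
  · left
    rw [h] at key
    exact isBlk_of_comm key
  · right
    refine isBlk_of_comm ?_
    have hs : mat (pm sw) * Matrix.diagonal (fv e') = Matrix.diagonal (fv e0) * mat (pm sw) := by
      ext i j
      rw [Matrix.mul_diagonal, Matrix.diagonal_mul, mat_pm]
      by_cases e : i = sw j
      · subst e; simp [pmM, h j]
      · simp [pmM, e]
    rw [mat_mul, mul_assoc, key, ← mul_assoc, hs, mul_assoc]
  · obtain ⟨j, hj⟩ := row_ne g i
    exact absurd (ent i j hj) (h j)
  · obtain ⟨i, hi⟩ := col_ne g j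
    exact absurd (ent i j hi) (h i)

/-- A block diagonal element is a block element of two frames times a monomial element. -/
theorem blk_decomp {A : G6} (hA : IsBlk (mat A)) : ∃ k l, (blkG k l)⁻¹ * A ∈ NN := by
  have hz : ∀ i j : Fin 6, decide (i.val < 3) ≠ decide (j.val < 3) → mat A i j = 0 := hA
  have hor : ∀ j k : Fin 6, (∑ r, star (mat A r j) * mat A r k) = (1 : M6) j k := fun j k => by
    rw [← mat_unit A, Matrix.mul_apply]
    rfl
  let U : Fin 3 → V3 := fun b a => mat A ⟨a, by omega⟩ ⟨b, by omega⟩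
  let W : Fin 3 → V3 := fun b a => mat A ⟨a + 3, by omega⟩ ⟨b + 3, by omega⟩
  have hU : ∀ a b : Fin 3, herm (U a) (U b) = if a = b then 1 else 0 := fun a b => by
    have h := hor ⟨a, by omega⟩ ⟨b, by omega⟩
    rw [Fin.sum_univ_six, Matrix.one_apply, hz 3 ⟨b, by omega⟩ (by simp [a.2, b.2]),
      hz 4 ⟨b, by omega⟩ (by simp [a.2, b.2]), hz 5 ⟨b, by omega⟩ (by simp [a.2, b.2])] at h
    simp only [mul_zero, add_zero, Fin.ext_iff] at h
    simp only [Fin.ext_iff]
    rw [← h, Small.Unitary.herm, dotProduct, Fin.sum_univ_three]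
    rfl
  have hW : ∀ a b : Fin 3, herm (W a) (W b) = if a = b then 1 else 0 := fun a b => by
    have h := hor ⟨a + 3, by omega⟩ ⟨b + 3, by omega⟩
    rw [Fin.sum_univ_six, Matrix.one_apply, hz 0 ⟨b + 3, by omega⟩ (by simp),
      hz 1 ⟨b + 3, by omega⟩ (by simp), hz 2 ⟨b + 3, by omega⟩ (by simp)] at h
    simp only [mul_zero, zero_add, Fin.ext_iff, Nat.add_right_cancel_iff] at h
    simp only [Fin.ext_iff]
    rw [← h, Small.Unitary.herm, dotProduct, Fin.sum_univ_three]
    rfl
  obtain ⟨k, hk⟩ := frame_of (u := U 0) (v := U 1) (w := U 2) (by simp [hU]) (by simp [hU]) (by simp [hU])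
    (by simp [hU]) (by simp [hU]) (by simp [hU])
  obtain ⟨l, hl⟩ := frame_of (u := W 0) (v := W 1) (w := W 2) (by simp [hW]) (by simp [hW]) (by simp [hW])
    (by simp [hW]) (by simp [hW]) (by simp [hW])
  refine ⟨k, l, fun j => ?_⟩
  rw [mat_mul, mat_inv, mat_blkG]
  have hm : ∀ i, ((blkM k l)ᴴ * mat A) i j = ∑ r, star (blkM k l r i) * mat A r j := fun i => by
    rw [Matrix.mul_apply]; rfl
  by_cases hj : j.val < 3
  · obtain ⟨a, ha⟩ := hk (U ⟨j, hj⟩) (by
      obtain ⟨j, hj'⟩ := j
      simp only at hj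
      interval_cases j <;> simp)
    refine ⟨⟨a, by omega⟩, fun i hi => ?_⟩
    rw [hm, Fin.sum_univ_six, hz 3 j (by simp [hj]), hz 4 j (by simp [hj]), hz 5 j (by simp [hj])]
    simp only [mul_zero, add_zero]
    by_cases hi' : i.val < 3
    · have := ha ⟨i, hi'⟩ fun e => hi (Fin.ext (congrArg Fin.val e :))
      rw [← this]
      rw [Small.Unitary.herm, dotProduct, Fin.sum_univ_three]
      simp [blkM, hi', U]
    · simp [blkM, hi']
  · obtain ⟨a, ha⟩ := hl (W ⟨j - 3, by omega⟩) (by
      obtain ⟨j, hj'⟩ := j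
      simp only at hj
      interval_cases j <;> simp)
    refine ⟨⟨a + 3, by omega⟩, fun i hi => ?_⟩
    rw [hm, Fin.sum_univ_six, hz 0 j (by simp [hj]), hz 1 j (by simp [hj]), hz 2 j (by simp [hj])]
    simp only [mul_zero, zero_add]
    by_cases hi' : i.val < 3
    · simp [blkM, hi']
    · have := ha ⟨i - 3, by omega⟩ fun e => hi (Fin.ext (by
        have := congrArg Fin.val e
        simp only at this ⊢
        omega))
      rw [← this]
      rw [Small.Unitary.herm, dotProduct, Fin.sum_univ_three]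
      have ej : (⟨j.val - 3 + 3, by omega⟩ : Fin 6) = j := Fin.ext (Nat.sub_add_cancel (by omega))
      simp [blkM, hi', W, ej]

end Cfsg.Agent.Spor.U43
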