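import Cfsg.Agent.Lib.Spor.U43Checks

/-!
The reference group of type 3.U4(3) in SU(6,2): generators, and the even monomial elements it contains.
-/

set_option autoImplicit false
set_option maxRecDepth 100000

namespace Cfsg.Agent.Spor.U43

open Cfsg.Agent.Spor.CC Matrix
open Cfsg.Agent.Spor.SpFour (F4)
open Cfsg.Agent.Spor.SUSix (G6 scal)

theorem pm_mul (p q : Equiv.Perm (Fin 6)) : pm (p * q) = pm p * pm q := by
  refine G6_ext ?_
  ext i j
  rw [mat_mul, mat_pm, mat_pm, mat_pm, Matrix.mul_apply,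
    Finset.sum_eq_single (q j) (fun k _ hk => by simp [pmM, hk]) (fun h => absurd (Finset.mem_univ _) h)]
  simp [pmM]
  congr 1

theorem pm_one : pm 1 = 1 := G6_ext (by ext i j; simp [mat_pm, mat_one, pmM, Matrix.one_apply]; congr 1)

/-- the generators -/
def gk : Fin 6 → G6 := ![dE 1, pm sA, pm sB, pm c5, pm c5b, blkG 1 1 * pm t01]

theorem mat_gk (s : Fin 6) : mat (gk s) = matL (GK.getD s []) := by
  rw [gk_eq]
  fin_cases s <;> exact (matL_encM _).symm

/-- the reference group -/
def K1 : Subgroup G6 := Subgroup.closure (Set.range gk)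

theorem gk_mem (s : Fin 6) : gk s ∈ K1 := Subgroup.subset_closure ⟨s, rfl⟩

/-- the permutations of a subgroup on the lines -/
noncomputable def mpImg (K : Subgroup G6) : Subgroup (Equiv.Perm (Fin 6)) := (K.comap NN.subtype).map mp

theorem mem_mpImg {K : Subgroup G6} {x : G6} (hx : x ∈ K) (hN : x ∈ NN) : mp ⟨x, hN⟩ ∈ mpImg K :=
  ⟨⟨x, hN⟩, hx, rfl⟩

/-- A subgroup containing the diagonal group and enough permutations contains the even monomial elements. -/
theorem MM_le {K : Subgroup G6} (hD : DD ≤ K) (h : 360 ≤ Nat.card (mpImg K)) : MM ≤ K := by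
  intro x hx
  obtain ⟨hN, he⟩ := mem_MM.mp hx
  obtain ⟨y, hy, e⟩ := alt_le h (Equiv.Perm.mem_alternatingGroup.mpr he)
  have hd : y.1⁻¹ * x ∈ DD := by
    refine mem_lift6.mpr ⟨mul_mem (inv_mem y.2) hN, ?_⟩
    rw [show (⟨y.1⁻¹ * x, _⟩ : NN) = y⁻¹ * ⟨x, hN⟩ from rfl, map_mul, map_inv, e, inv_mul_cancel]
    exact one_mem _
  have hy' : (y.1 : G6) ∈ K := hy
  have := mul_mem hy' (hD hd)
  rwa [← mul_assoc, mul_inv_cancel, one_mul] at this

theorem step_e : ∀ e : Fin 243, e = 0 ∨
    ∃ i : Fin 5, 3 ^ i.val ≤ e.val ∧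
      fv e = fun j => fv (Fin.ofNat 243 (e.val - 3 ^ i.val)) j * fv (Fin.ofNat 243 (3 ^ i.val)) j := by
  decide +kernel

theorem conj_e : ∀ i : Fin 5, encM (Matrix.diagonal (fv (Fin.ofNat 243 (3 ^ i.val))) * pmM (c5 ^ i.val)) =
    encM (pmM (c5 ^ i.val) * Matrix.diagonal (fv 1)) := by decide +kernel

theorem fv_zero : fv 0 = fun _ => (1 : F4) := by decide +kernel

theorem dE_zero : dE 0 = 1 := G6_ext (by
  show Matrix.diagonal (fv 0) = 1
  rw [fv_zero, Matrix.diagonal_one])

theorem DD_le_K1 : DD ≤ K1 := by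
  have hd : ∀ i : Fin 5, dE (Fin.ofNat 243 (3 ^ i.val)) ∈ K1 := fun i => by
    have e : dE (Fin.ofNat 243 (3 ^ i.val)) * pm (c5 ^ i.val) = pm (c5 ^ i.val) * dE 1 := by
      refine G6_ext ?_
      have := congrArg matL (conj_e i)
      rwa [matL_encM, matL_encM] at this
    have hp : pm (c5 ^ i.val) ∈ K1 := by
      generalize i.val = n
      induction n with
      | zero => rw [pow_zero, pm_one]; exact one_mem _
      | succ n ih => rw [pow_succ, pm_mul]; exact mul_mem ih (gk_mem 3)
    rw [eq_mul_inv_of_mul_eq e]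
    exact mul_mem (mul_mem hp (gk_mem 0)) (inv_mem hp)
  have hall : ∀ n : ℕ, ∀ e : Fin 243, e.val = n → dE e ∈ K1 := by
    intro n
    induction n using Nat.strong_induction_on with
    | _ n ih =>
      intro e he
      rcases step_e e with rfl | ⟨i, hle, hv⟩
      · rw [dE_zero]; exact one_mem _
      · have hlt : e.val - 3 ^ i.val < e.val := Nat.sub_lt (lt_of_lt_of_le (pow_pos (by norm_num) _) hle) (pow_pos (by norm_num) _)
        have hm := mul_mem (ih _ (he ▸ hlt) (Fin.ofNat 243 (e.val - 3 ^ i.val))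
          (Nat.mod_eq_of_lt (by have := e.2; omega))) (hd i)
        rwa [show dE e = dE (Fin.ofNat 243 (e.val - 3 ^ i.val)) * dE (Fin.ofNat 243 (3 ^ i.val)) from G6_ext (by
          show Matrix.diagonal (fv e) = Matrix.diagonal _ * Matrix.diagonal _
          rw [Matrix.diagonal_mul_diagonal, hv])]
  intro A hA
  obtain ⟨e, rfl⟩ := exists_dE hA
  exact hall _ e rfl

theorem pc_ext {a b : ℕ} (ha : a < 6 ^ 6) (hb : b < 6 ^ 6) (h : ∀ j : Fin 6, pc a j = pc b j) : a = b := by
  have h0 := h 0; have h1 := h 1; have h2 := h 2; have h3 := h 3; have h4 := h 4; have h5 := h 5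
  simp only [pc] at h0 h1 h2 h3 h4 h5
  norm_num at h0 h1 h2 h3 h4 h5 ha hb
  omega

theorem MM_le_K1 : MM ≤ K1 := by
  refine MM_le DD_le_K1 ?_
  have hg : ∀ g ∈ permG, g ∈ mpImg K1 := fun g hg => by
    have hp : pm g ∈ K1 := by
      fin_cases hg
      exacts [gk_mem 3, gk_mem 4, gk_mem 1, gk_mem 2]
    exact mp_pm g ▸ mem_mpImg hp (pm_mem g)
  have hex : ∀ n, n < 360 → ∃ p ∈ mpImg K1, ∀ j : Fin 6, ((p j : Fin 6) : ℕ) = pc (permD.getD n (0, 0, 0)).2.2 j := by
    intro n
    induction n using Nat.strong_induction_on with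
    | _ n ih =>
      intro hn
      have h := perm_ok n hn
      simp only [permOK, decide_eq_true_eq] at h
      rcases eq_or_ne n 0 with rfl | h0
      · exact ⟨1, one_mem _, fun j => by simpa using (h j).symm⟩
      · simp only [if_neg h0] at h
        obtain ⟨hx, hgi, -⟩ := h 0
        obtain ⟨p, hp, hpj⟩ := ih _ hx (hx.trans hn)
        refine ⟨p * permG.getD (permD.getD n (0, 0, 0)).2.1 1, mul_mem hp (hg _ ?_), fun j => ?_⟩
        · rw [List.getD_eq_getElem _ _ (show _ < permG.length from hgi)]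
          exact List.getElem_mem _
        · rw [Equiv.Perm.mul_apply, hpj, (h j).2.2]
  choose p hp hpj using fun n : Fin 360 => hex n.val n.2
  have hinj : Function.Injective (fun n => (⟨p n, hp n⟩ : mpImg K1)) := fun a b e => by
    have e' : p a = p b := congrArg Subtype.val e
    have hlen := perm_len.1
    have hc : ∀ n : Fin 360, (permD.map fun x => x.2.2)[n.val]'(by rw [List.length_map, hlen]; exact n.2) =
        (permD.getD n.val (0, 0, 0)).2.2 := fun n => by
      rw [List.getElem_map, List.getD_eq_getElem _ _ (hlen.symm ▸ n.2)]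
    have hb : ∀ n : Fin 360, (permD.getD n.val (0, 0, 0)).2.2 < 6 ^ 6 := fun n => by
      rw [List.getD_eq_getElem _ _ (hlen.symm ▸ n.2)]
      exact perm_len.2 _ (List.getElem_mem _)
    have := pc_ext (hb a) (hb b) fun j => by rw [← hpj a j, ← hpj b j, e']
    rw [← hc a, ← hc b] at this
    exact Fin.ext (perm_nodup.getElem_inj_iff.mp this)
  simpa using Nat.card_le_card_of_injective _ hinj

theorem P6_le_MM : P6 ≤ MM := by
  have h : ∀ p ∈ L9, Equiv.Perm.sign p = 1 := by decide +kernel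
  intro x hx
  obtain ⟨hN, hp⟩ := mem_lift6.mp hx
  exact mem_MM.mpr ⟨hN, h _ hp⟩

theorem has_LG : ∀ l ∈ LG, Has MM l := by
  intro l hl
  rw [← List.take_append_drop 5 LG, lg_diag, lg_perm, List.mem_append, List.mem_map, List.mem_map] at hl
  rcases hl with ⟨e, -, rfl⟩ | ⟨p, hp, rfl⟩
  · exact ⟨dE e, DD_le_lift6 _ (dE_mem e), (matL_encM _).symm⟩
  · exact ⟨pm p, mem_MM.mpr ⟨pm_mem p, by rw [mp_pm]; exact lg_even p hp⟩, (matL_encM _).symm⟩

theorem DD_le_MM : DD ≤ MM := DD_le_lift6 _

theorem mem_center_of_scal {A : G6} {c : F4} (h : mat A = scal c) : A ∈ Subgroup.center G6 :=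
  Subgroup.mem_center_iff.mpr fun B => G6_ext (by
    rw [mat_mul, mat_mul, h]
    ext i j
    rw [SUSix.scal, Matrix.mul_diagonal, Matrix.diagonal_mul, mul_comm])

theorem center_scal {A : G6} (h : A ∈ Subgroup.center G6) : ∃ c : F4, c ≠ 0 ∧ mat A = scal c := by
  obtain ⟨p, e, σ, -, -, -, -, hσ⟩ := Cfsg.Agent.Classical.exists_usigma SpFour.F4.card_sq
  obtain ⟨c, hc⟩ := Cfsg.Agent.Classical.UCount.scalar_of_commute hσ (n := 6) (by norm_num) (M := A.1.1)
    fun x => congrArg (fun y : G6 => y.1.1) (Subgroup.mem_center_iff.mp h x)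
  have he : mat A = scal c := by
    show A.1.1 = _
    rw [hc]
    ext i j
    simp [SUSix.scal, Matrix.one_apply, Matrix.diagonal_apply]
  refine ⟨c, fun h0 => ?_, he⟩
  obtain ⟨i, hi⟩ := col_ne A 0
  rw [he, h0] at hi
  exact hi (by simp [SUSix.scal])

theorem center_le_DD : Subgroup.center G6 ≤ DD := fun A h => mem_DD.mpr fun i j hij => by
  obtain ⟨c, -, he⟩ := center_scal h
  rw [he, SUSix.scal, Matrix.diagonal_apply_ne _ hij]

/-- a chain gives the powers of an element -/
theorem chain_pow {x : G6} {y : List ℕ} (hx : mat x = matL y) :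
    ∀ (st : List (ℕ × List ℕ)) (cur : List ℕ) (n : ℕ), mat (x ^ n) = matL cur → chainOK [y] cur st = true →
      mat (x ^ (n + st.length)) = matL (chainEnd cur st)
  | [], _, n, h, _ => h
  | (k, nxt) :: rest, cur, n, h, hok => by
    simp only [chainOK, Bool.and_eq_true, decide_eq_true_eq, beq_iff_eq] at hok
    obtain ⟨⟨hk, he⟩, hr⟩ := hok
    have h0 : k = 0 := by simpa using hk
    subst h0
    have h' : mat (x ^ (n + 1)) = matL nxt := by
      rw [pow_succ, mat_mul, h, hx, ← he, matL_mulL]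
      rfl
    have := chain_pow hx rest nxt (n + 1) h' hr
    rw [List.length_cons, show n + (rest.length + 1) = n + 1 + rest.length by omega]
    exact this

/-- A certificate of an element of order eleven modulo the centre. -/
theorem eleven_mem {H : Subgroup G6} {gs : List (List ℕ)} {st pw : List (ℕ × List ℕ)}
    (hgs : ∀ l ∈ gs, Has H l) (h : elevenOK gs st pw = true) :
    ∃ x ∈ H, x ^ 11 ∈ Subgroup.center G6 ∧ x ∉ Subgroup.center G6 := by
  simp only [elevenOK, Bool.and_eq_true, Bool.not_eq_true', beq_iff_eq, List.any_eq_true,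
    List.any_eq_false] at h
  obtain ⟨⟨⟨⟨h1, h2⟩, h3⟩, c, -, h4⟩, h5⟩ := h
  obtain ⟨x, hx, ex⟩ := chain_has hgs st oneL (Has.one H) h1
  refine ⟨x, hx, ?_, fun hc => ?_⟩
  · have := chain_pow ex pw oneL 0 (by rw [pow_zero]; exact (matL_encM _).symm) h2
    rw [Nat.zero_add, h3, h4, matL_encM] at this
    exact mem_center_of_scal this
  · obtain ⟨d, hd, he⟩ := center_scal hc
    have hcode : chainEnd oneL st = encM (scal d) := by
      obtain ⟨⟨M, hM⟩⟩ : Nonempty {M : M6 // chainEnd oneL st = encM M} := by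
        cases st with
        | nil => exact ⟨⟨1, rfl⟩⟩
        | cons a t => exact ⟨⟨matL (chainEnd oneL (a :: t)), (chainEnd_code gs (a :: t) oneL 1 rfl h1).symm⟩⟩
      rw [hM, matL_encM] at ex
      rw [hM, ← he, ex]
    refine h5 d ?_ hcode
    cases d <;> simp
    exact absurd rfl hd
where
  chainEnd_code (gs : List (List ℕ)) : ∀ (st : List (ℕ × List ℕ)) (cur : List ℕ) (M : M6), cur = encM M →
      chainOK gs cur st = true → encM (matL (chainEnd cur st)) = chainEnd cur st
    | [], cur, M, h, _ => by rw [chainEnd, h, matL_encM]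
    | (k, nxt) :: rest, cur, M, h, hok => by
      simp only [chainOK, Bool.and_eq_true, decide_eq_true_eq, beq_iff_eq] at hok
      exact chainEnd_code gs rest nxt _ hok.1.2.symm hok.2

end Cfsg.Agent.Spor.U43
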