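import Cfsg.Agent.Lib.Spor.U43Defs

/-!
The monomial subgroup of the six-dimensional special unitary group over the field with four
elements: its diagonal subgroup, a Sylow 3-subgroup, and two characterisations inside the latter.
-/

set_option autoImplicit false
set_option maxRecDepth 100000

namespace Cfsg.Agent.Spor.U43

open Cfsg.Agent.Spor.CC Matrix
open Cfsg.Agent.Spor.SpFour (F4)
open Cfsg.Agent.Spor.SUSix (G6 V6 code vecOf vecOf_code scal)

instance : Finite G6 := inferInstance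

/-- a subgroup of the symmetric group of order at least 360 contains the alternating group -/
theorem alt_le {H : Subgroup (Equiv.Perm (Fin 6))} (h : 360 ≤ Nat.card H) : alternatingGroup (Fin 6) ≤ H := by
  have h1 := Subgroup.card_mul_index H
  rw [Nat.card_perm, Nat.card_fin, show Nat.factorial 6 = 720 from rfl] at h1
  have h2 : H.index ≤ 2 := by nlinarith
  have h0 : H.index ≠ 0 := Subgroup.index_ne_zero_of_finite
  rcases (show H.index = 1 ∨ H.index = 2 by omega) with h3 | h3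
  · rw [Subgroup.index_eq_one.mp h3]; exact le_top
  · exact (Equiv.Perm.eq_alternatingGroup_of_index_eq_two h3).ge

/-! ### The diagonal subgroup -/

/-- diagonal entries of a matrix -/
def dia (M : M6) : V6 := fun j => M j j

/-- the diagonal vector with a number -/
def fv (e : Fin 243) : V6 :=
  let u : ℕ → F4 := fun k => F4.ofN (k % 3 + 1)
  ![u e.val, u (e.val / 3), u (e.val / 9), u (e.val / 27), u (e.val / 81),
    (u e.val * u (e.val / 3) * u (e.val / 9) * u (e.val / 27) * u (e.val / 81))⁻¹]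

/-- the number of a diagonal vector -/
def ev (f : V6) : Fin 243 :=
  Fin.ofNat 243 ((f 0).toN - 1 + 3 * ((f 1).toN - 1) + 9 * ((f 2).toN - 1) + 27 * ((f 3).toN - 1) +
    81 * ((f 4).toN - 1))

/-- the valid diagonal vectors -/
def okV (f : V6) : Bool := decide ((∀ j, f j ≠ 0) ∧ f 0 * f 1 * f 2 * f 3 * f 4 * f 5 = 1)

theorem fv_ok : ∀ e : Fin 243, okV (fv e) = true ∧ ev (fv e) = e := by decide +kernel

theorem fv_chk : rangeOK (fun k => !okV (vecOf k) || decide (code (fv (ev (vecOf k))) = k)) 0 4096 = true := by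
  decide +kernel

theorem fv_ev {f : V6} (h : okV f = true) : fv (ev f) = f := by
  have := all_range (p := fun k => !okV (vecOf k) || decide (code (fv (ev (vecOf k))) = k)) (st := 0) (len := 4096)
    fv_chk (Nat.zero_le _) (by have := SUSix.code_lt f; omega)
  rw [vecOf_code] at this
  simp only [h, Bool.not_true, Bool.false_or, decide_eq_true_eq] at this
  have := congrArg vecOf this
  rwa [vecOf_code, vecOf_code] at this

theorem fv_det (e : Fin 243) : (Matrix.diagonal (fv e)).det = 1 := by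
  rw [Matrix.det_diagonal, Fin.prod_univ_six]
  exact ((decide_eq_true_iff).mp (fv_ok e).1).2

theorem norm_one : ∀ c : F4, c ≠ 0 → star c * c = 1 := by decide +kernel

theorem fv_unit (e : Fin 243) : (Matrix.diagonal (fv e))ᴴ * Matrix.diagonal (fv e) = 1 := by
  rw [Matrix.diagonal_conjTranspose, Matrix.diagonal_mul_diagonal, ← Matrix.diagonal_one]
  congr 1
  funext j
  exact norm_one _ (((decide_eq_true_iff).mp (fv_ok e).1).1 j)

/-- the diagonal element with a number -/
def dE (e : Fin 243) : G6 := Small.Unitary.mkSU F4.star_eq_pow _ (fv_unit e) (fv_det e)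

theorem dE_mem (e : Fin 243) : dE e ∈ DD := mem_DD.mpr fun _ _ h => Matrix.diagonal_apply_ne _ h

theorem mat_DD {A : G6} (h : A ∈ DD) : mat A = Matrix.diagonal (dia (mat A)) := by
  ext i j
  by_cases e : i = j
  · subst e; rw [Matrix.diagonal_apply_eq]; rfl
  · rw [Matrix.diagonal_apply_ne _ e, mem_DD.mp h i j e]

theorem exists_dE {A : G6} (h : A ∈ DD) : ∃ e, dE e = A := by
  refine ⟨ev (dia (mat A)), G6_ext ?_⟩
  have hok : okV (dia (mat A)) = true := by
    rw [okV, decide_eq_true_iff]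
    have hd : (mat A).det = 1 := A.1.2
    rw [mat_DD h, Matrix.det_diagonal, Fin.prod_univ_six] at hd
    refine ⟨fun j hj => ?_, hd⟩
    obtain ⟨i, hi⟩ := col_ne A j
    exact hi (if e : i = j then e ▸ hj else mem_DD.mp h i j e)
  show Matrix.diagonal (fv _) = mat A
  rw [fv_ev hok, ← mat_DD h]

theorem dE_inj : Function.Injective dE := fun a b h => by
  rw [← (fv_ok a).2, ← (fv_ok b).2]
  have := congrArg (fun A : G6 => dia (mat A)) h
  have hd : ∀ e, dia (mat (dE e)) = fv e := fun e => funext fun j => Matrix.diagonal_apply_eq _ _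
  simp only [hd] at this
  rw [this]

theorem card_DD : Nat.card DD = 243 := by
  rw [Nat.card_congr (Equiv.ofBijective (fun e => (⟨dE e, dE_mem e⟩ : DD))
    ⟨fun a b h => dE_inj (congrArg Subtype.val h),
      fun A => let ⟨e, he⟩ := exists_dE A.2; ⟨e, Subtype.ext he⟩⟩).symm, Nat.card_fin]

/-- the permutation map restricted -/
noncomputable def mpOn (H : Subgroup G6) (h : H ≤ NN) : H →* Equiv.Perm (Fin 6) :=
  mp.comp (Subgroup.inclusion h)

theorem card_mpOn {H : Subgroup G6} (h : H ≤ NN) :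
    Nat.card H = Nat.card (mpOn H h).range * Nat.card (↥(H ⊓ DD) : Type) := by
  rw [Subgroup.card_eq_card_quotient_mul_card_subgroup (mpOn H h).ker,
    Nat.card_congr (QuotientGroup.quotientKerEquivRange (mpOn H h)).toEquiv]
  congr 1
  refine Nat.card_congr ⟨fun x => ⟨x.1.1, x.1.2, mem_lift6.mpr ⟨h x.1.2, Subgroup.mem_bot.mpr x.2⟩⟩,
    fun y => ⟨⟨y.1, y.2.1⟩, ?_⟩, fun x => rfl, fun y => rfl⟩
  exact mp_apply_of_mem_DD (x := ⟨y.1, h y.2.1⟩) y.2.2

theorem card_lift6 (H : Subgroup (Equiv.Perm (Fin 6))) : Nat.card (lift6 H) = Nat.card H * 243 := by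
  rw [card_mpOn (lift6_le H), inf_eq_right.mpr (DD_le_lift6 H), card_DD]
  suffices e : (mpOn (lift6 H) (lift6_le H)).range = H by rw [e]
  refine le_antisymm ?_ fun p hp => ⟨⟨pm p, mem_lift6.mpr ⟨pm_mem p, (mp_pm p).symm ▸ hp⟩⟩, mp_pm p⟩
  rintro p ⟨x, rfl⟩
  obtain ⟨_, hx⟩ := mem_lift6.mp x.2
  exact hx

theorem DD_le_NN : DD ≤ NN := lift6_le _

theorem conj_DD {x d : G6} (hx : x ∈ NN) (hd : d ∈ DD) : x * d * x⁻¹ ∈ DD := by
  refine mem_lift6.mpr ⟨mul_mem (mul_mem hx (DD_le_NN hd)) (inv_mem hx), ?_⟩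
  rw [show (⟨x * d * x⁻¹, _⟩ : NN) = ⟨x, hx⟩ * ⟨d, DD_le_NN hd⟩ * ⟨x, hx⟩⁻¹ from rfl, map_mul, map_mul, map_inv,
    mp_apply_of_mem_DD (x := ⟨d, DD_le_NN hd⟩) hd, mul_one, mul_inv_cancel]
  exact one_mem _

/-- a separating diagonal vector -/
def sepV (j k : Fin 6) : V6 := fun i => if i = j then F4.w else if i = k then F4.v else 1

theorem sep_ok : ∀ j k : Fin 6, j ≠ k → okV (sepV j k) = true ∧ sepV j k j ≠ sepV j k k := by decide +kernel

theorem mem_NN_of_normalises {A : G6} (h : ∀ d ∈ DD, A * d * A⁻¹ ∈ DD) : A ∈ NN := by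
  have key : ∀ i j k : Fin 6, j ≠ k → mat A i j ≠ 0 → mat A i k = 0 := fun i j k hjk hj => by
    by_contra hk
    obtain ⟨hok, hne⟩ := sep_ok j k hjk
    have hd := dE_mem (ev (sepV j k))
    have e : A * dE (ev (sepV j k)) = (A * dE (ev (sepV j k)) * A⁻¹) * A := by group
    have e' := congrArg mat e
    rw [mat_mul, mat_mul, mat_DD (h _ hd)] at e'
    have hm : mat (dE (ev (sepV j k))) = Matrix.diagonal (sepV j k) := by
      show Matrix.diagonal (fv _) = _
      rw [fv_ev hok]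
    rw [hm] at e'
    have e1 := congrFun (congrFun e' i) j
    have e2 := congrFun (congrFun e' i) k
    rw [Matrix.mul_diagonal, Matrix.diagonal_mul, mul_comm] at e1
    rw [Matrix.mul_diagonal, Matrix.diagonal_mul, mul_comm] at e2
    exact hne ((mul_right_cancel₀ hj e1).trans (mul_right_cancel₀ hk e2).symm)
  -- rows have at most one nonzero entry and no column vanishes
  have hinj : Function.Injective fun j => (col_ne A j).choose := fun j k e => by
    by_contra hne
    simp only at e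
    exact (col_ne A k).choose_spec (e ▸ key _ j k hne (col_ne A j).choose_spec)
  intro j
  refine ⟨(col_ne A j).choose, fun i hi => ?_⟩
  obtain ⟨j', hj'⟩ := (Finite.injective_iff_surjective.mp hinj) i
  simp only at hj'
  have hne : j' ≠ j := fun e => hi (by rw [← hj', e])
  exact key i j' j hne (hj' ▸ (col_ne A j').choose_spec)

/-- commutation up to a scalar -/
def Comm1 (x y : G6) : Prop := ∃ c : F4, c ≠ 0 ∧ mat x * mat y = c • (mat y * mat x)

theorem diag_comm {x : G6} (hx : x ∈ NN) {f : V6} {c : F4}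
    (h : mat x * Matrix.diagonal f = c • (Matrix.diagonal f * mat x)) (j : Fin 6) :
    f j = c * f (mp ⟨x, hx⟩ j) := by
  have e := congrFun (congrFun h (mp ⟨x, hx⟩ j)) j
  rw [Matrix.mul_diagonal, Matrix.smul_apply, Matrix.diagonal_mul, smul_eq_mul, ← mul_assoc, mul_comm] at e
  exact mul_right_cancel₀ (rowAt_ne ⟨x, hx⟩ j) e

theorem diag_commute {x : G6} (hx : x ∈ NN) {f : V6} (h : ∀ j, f j = f (mp ⟨x, hx⟩ j)) :
    mat x * Matrix.diagonal f = Matrix.diagonal f * mat x := by
  ext i j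
  rw [Matrix.mul_diagonal, Matrix.diagonal_mul]
  by_cases hi : i = mp ⟨x, hx⟩ j
  · rw [hi, ← h j, mul_comm]
  · rw [show mat x i j = 0 from entry_zero ⟨x, hx⟩ hi, zero_mul, mul_zero]

/-! ### The Sylow 3-subgroup -/

/-- first generator of the 3-group of permutations -/
def sA : Equiv.Perm (Fin 6) := Equiv.swap 0 1 * Equiv.swap 1 2
/-- second generator of the 3-group of permutations -/
def sB : Equiv.Perm (Fin 6) := Equiv.swap 3 4 * Equiv.swap 4 5

/-- the nine permutations -/
def L9 : List (Equiv.Perm (Fin 6)) :=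
  [1, sA, sA * sA, sB, sA * sB, sA * sA * sB, sB * sB, sA * (sB * sB), sA * sA * (sB * sB)]

theorem L9_mul : ∀ a ∈ L9, ∀ b ∈ L9, a * b ∈ L9 := by decide +kernel
theorem L9_inv : ∀ a ∈ L9, a⁻¹ ∈ L9 := by decide +kernel
theorem L9_nodup : L9.Nodup := by decide +kernel

/-- the 3-group of permutations -/
def S9 : Subgroup (Equiv.Perm (Fin 6)) where
  carrier := {p | p ∈ L9}
  one_mem' := List.mem_cons_self
  mul_mem' ha hb := L9_mul _ ha _ hb
  inv_mem' ha := L9_inv _ ha

theorem mem_S9 {p : Equiv.Perm (Fin 6)} : p ∈ S9 ↔ p ∈ L9 := Iff.rfl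

theorem card_S9 : Nat.card S9 = 9 := by
  have h : (S9 : Set (Equiv.Perm (Fin 6))) = ↑L9.toFinset := by ext p; simp [mem_S9]
  rw [← SetLike.coe_sort_coe, h, Nat.card_coe_set_eq, Set.ncard_coe_finset, List.toFinset_card_of_nodup L9_nodup]
  rfl

/-- the Sylow 3-subgroup -/
noncomputable def P6 : Subgroup G6 := lift6 S9

theorem P6_le : P6 ≤ NN := lift6_le _

theorem DD_le_P6 : DD ≤ P6 := DD_le_lift6 _

theorem card_P6 : Nat.card P6 = 2187 := by rw [P6, card_lift6, card_S9]

theorem pm_mem_P6 {p : Equiv.Perm (Fin 6)} (h : p ∈ L9) : pm p ∈ P6 :=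
  mem_lift6.mpr ⟨pm_mem p, (mp_pm p).symm ▸ h⟩

theorem sA_mem : sA ∈ L9 := by decide +kernel
theorem sB_mem : sB ∈ L9 := by decide +kernel

/-- the vectors commuting with a permutation up to a scalar -/
def CV (p : Equiv.Perm (Fin 6)) (e : Fin 243) : Bool :=
  [F4.i, F4.w, F4.v].any fun c => decide (∀ j, fv e j = c * fv e (p j))

theorem CV_of_comm {x : G6} (hx : x ∈ NN) {e : Fin 243} (h : Comm1 x (dE e)) : CV (mp ⟨x, hx⟩) e = true := by
  obtain ⟨c, hc, he⟩ := h
  rw [CV, List.any_eq_true]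
  refine ⟨c, ?_, decide_eq_true (diag_comm hx he)⟩
  revert hc; cases c <;> decide

/-- fixed by both generators -/
def BV (e : Fin 243) : Bool := decide (∀ j, fv e j = fv e (sA j) ∧ fv e j = fv e (sB j))

theorem CV_small : ∀ p ∈ L9, p ≠ 1 → (Finset.univ.filter fun e => CV p e = true).card ≤ 27 := by decide +kernel

theorem CV_both : (Finset.univ.filter fun e => (CV sA e && CV sB e) = true).card ≤ 9 := by decide +kernel

theorem CV_BV : ∀ e, CV sA e = true → CV sB e = true → BV e = true := by decide +kernel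

theorem BV_all : ∀ e, BV e = true → ∀ p ∈ L9, ∀ j, fv e j = fv e (p j) := by decide +kernel

/-- The diagonal subgroup is the only subgroup of order 243 of the Sylow subgroup commutative up to scalars. -/
theorem DD_unique {H : Subgroup G6} (hle : H ≤ P6) (hc : Nat.card H = 243)
    (hab : ∀ x ∈ H, ∀ y ∈ H, Comm1 x y) : H = DD := by
  classical
  have hN : H ≤ NN := hle.trans P6_le
  have h1 := card_mpOn hN
  have hR : (mpOn H hN).range ≤ S9 := by
    rintro p ⟨x, rfl⟩
    exact (mem_lift6.mp (hle x.2)).choose_spec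
  have hI : ∀ P : Fin 243 → Bool, (∀ e, dE e ∈ H → P e = true) →
      Nat.card (↥(H ⊓ DD) : Type) ≤ (Finset.univ.filter fun e => P e = true).card := by
    intro P hP
    have hsurj : Function.Surjective (fun e : {e : Fin 243 // dE e ∈ H} => (⟨dE e.1, e.2, dE_mem e.1⟩ : ↥(H ⊓ DD))) := by
      rintro ⟨A, hA, hA'⟩
      obtain ⟨e, rfl⟩ := exists_dE hA'
      exact ⟨⟨e, hA⟩, rfl⟩
    refine (Nat.card_le_card_of_surjective _ hsurj).trans ?_
    rw [Nat.card_eq_fintype_card, Fintype.card_subtype]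
    exact Finset.card_le_card (Finset.monotone_filter_right _ fun e _ he => hP e he)
  have hCV : ∀ p ∈ (mpOn H hN).range, ∀ e, dE e ∈ H → CV p e = true := by
    rintro p ⟨x, rfl⟩ e he
    exact CV_of_comm (hN x.2) (hab _ x.2 _ he)
  rcases eq_or_ne (mpOn H hN).range ⊥ with hb | hb
  · have : H ≤ DD := fun A hA => mem_lift6.mpr ⟨hN hA, Subgroup.mem_bot.mpr
      (Subgroup.mem_bot.mp (hb ▸ ⟨⟨A, hA⟩, rfl⟩ : mpOn H hN ⟨A, hA⟩ ∈ (⊥ : Subgroup (Equiv.Perm (Fin 6)))))⟩
    exact Subgroup.eq_of_le_of_card_ge this (by rw [hc, card_DD])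
  exfalso
  rcases eq_or_ne (mpOn H hN).range S9 with hs | hs
  · have h2 := hI (fun e => CV sA e && CV sB e) fun e he =>
      Bool.and_eq_true_iff.mpr ⟨hCV _ (hs ▸ sA_mem) e he, hCV _ (hs ▸ sB_mem) e he⟩
    rw [hc, hs, card_S9] at h1
    have := CV_both
    omega
  · obtain ⟨p, hp1⟩ := (Subgroup.ne_bot_iff_exists_ne_one.mp hb)
    have h2 := hI (fun e => CV p.1 e) fun e he => hCV _ p.2 e he
    have h3 := CV_small p.1 (hR p.2) (fun e => hp1 (Subtype.ext e))
    have h4 : Nat.card (mpOn H hN).range < 9 := by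
      rw [← card_S9]
      exact lt_of_le_of_ne (Subgroup.card_le_of_le hR) fun e => hs (Subgroup.eq_of_le_of_card_ge hR e.ge)
    rw [hc] at h1
    have := Nat.mul_le_mul (Nat.le_of_lt_succ h4 : _ ≤ 8) (h2.trans h3)
    omega

/-- the centre of the Sylow subgroup modulo scalars -/
noncomputable def BB : Subgroup G6 := DD ⊓ Subgroup.centralizer {pm sA, pm sB}

theorem BB_le : BB ≤ DD := inf_le_left

theorem mem_BB_of_BV {e : Fin 243} (h : BV e = true) : dE e ∈ BB := by
  refine ⟨dE_mem e, Subgroup.mem_centralizer_iff.mpr ?_⟩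
  rintro g (rfl | rfl) <;> refine G6_ext ?_
  · exact diag_commute (pm_mem _) fun j => (mp_pm sA).symm ▸ BV_all e h sA sA_mem j
  · exact diag_commute (pm_mem _) fun j => (mp_pm sB).symm ▸ BV_all e h sB sB_mem j

theorem BV_of_mem_BB {A : G6} (h : A ∈ BB) : ∃ e, dE e = A ∧ BV e = true := by
  obtain ⟨e, rfl⟩ := exists_dE h.1
  refine ⟨e, rfl, CV_BV e ?_ ?_⟩
  · refine (mp_pm sA) ▸ CV_of_comm (pm_mem _) ⟨1, one_ne_zero, ?_⟩
    rw [one_smul]
    exact congrArg mat (Subgroup.mem_centralizer_iff.mp h.2 _ (Set.mem_insert _ _))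
  · refine (mp_pm sB) ▸ CV_of_comm (pm_mem _) ⟨1, one_ne_zero, ?_⟩
    rw [one_smul]
    exact congrArg mat (Subgroup.mem_centralizer_iff.mp h.2 _ (Set.mem_insert_of_mem _ rfl))

theorem BB_comm {b : G6} (hb : b ∈ BB) {y : G6} (hy : y ∈ P6) : y * b = b * y := by
  obtain ⟨e, rfl, he⟩ := BV_of_mem_BB hb
  obtain ⟨hN, hp⟩ := mem_lift6.mp hy
  exact G6_ext (diag_commute hN (BV_all e he _ hp))

/-- The subgroup `BB` is the centre of the Sylow subgroup modulo scalars. -/
theorem mem_BB_of_central {x : G6} (hx : x ∈ P6) (h : ∀ y ∈ P6, Comm1 x y) : x ∈ BB := by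
  obtain ⟨hN, hp⟩ := mem_lift6.mp hx
  have h1 : mp ⟨x, hN⟩ = 1 := by
    by_contra hne
    have hall : (Finset.univ.filter fun e => CV (mp ⟨x, hN⟩) e = true) = Finset.univ :=
      Finset.filter_true_of_mem fun e _ => CV_of_comm hN (h _ (DD_le_P6 (dE_mem e)))
    have := CV_small _ hp hne
    rw [hall] at this
    exact absurd this (by decide)
  obtain ⟨e, rfl⟩ := exists_dE (mem_lift6.mpr ⟨hN, Subgroup.mem_bot.mpr h1⟩ : x ∈ DD)
  have hflip : ∀ p ∈ L9, CV p e = true := fun p hp' => by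
    obtain ⟨c, hc, he⟩ := h _ (pm_mem_P6 hp')
    refine (mp_pm p) ▸ CV_of_comm (pm_mem p) ⟨c⁻¹, inv_ne_zero hc, ?_⟩
    rw [he, smul_smul, inv_mul_cancel₀ hc, one_smul]
  exact mem_BB_of_BV (CV_BV e (hflip _ sA_mem) (hflip _ sB_mem))

end Cfsg.Agent.Spor.U43
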