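import Cfsg.Agent.Lib.Spor.U62CovIdxTwoData

/-!
Coset certificate `IdxTwo` of U62Cov: checks.
-/

set_option autoImplicit false
set_option maxRecDepth 100000

namespace Cfsg.Agent.Spor.U62CovCert.IdxTwo

open Cfsg.Agent.Spor.CC

/-- checked entries -/
def edL0 : List ℕ := [
0x1,
0x801,
0x401,
0x1001,
0x1801,
0xc01,
0x2001,
0x1401,
0x1c01,
0x2801,
0x2401,
0x2c01]

theorem edOK0 : edgesOK dat 6 edL0 0 = true := by decide +kernel

end Cfsg.Agent.Spor.U62CovCert.IdxTwo
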