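import Cfsg.Agent.Lib.Spor.U62CovLift
import Cfsg.Agent.Lib.Spor.U62CovIdxTwoCert
import Cfsg.Agent.Lib.Spor.U62CovIdxA3Cert
import Cfsg.Agent.Lib.Spor.U62CovIdxA4Cert
import Cfsg.Agent.Lib.Spor.U62CovIdxA5Cert
import Cfsg.Agent.Lib.Spor.U62CovIdxA6Cert
import Cfsg.Agent.Lib.Spor.U62CovIdxU43Cert
import Cfsg.Agent.Lib.Spor.U62CovIdxTopCert

/-!
Every stem kernel over the projective unitary group of dimension six over four elements has at most twelve
elements.
-/

set_option autoImplicit false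
set_option maxRecDepth 100000

namespace Cfsg.Agent.Spor.U62CovCert

open Cfsg.Agent.Spor.CC
open scoped commutatorElement

theorem no_more : ∀ r ∈ ([] : List (List ℕ)), (r.map pres.gen).prod = 1 := by simp

theorem step {D : Data} {m : ℕ} (hc : Checked D m) {ks ks' : List ℕ} (hks : ks.length = D.ng)
    {wit : List (ℕ × ℕ × Bool)} {subW : List (List ℕ)}
    (hw : wordsOK D ks pres.ng (pres.relW ++ []) wit subW = true)
    (e : pres.wsub subW = pres.sub ks') {b c : ℕ}
    (hH : Finite (pres.sub ks') ∧ Nat.card (pres.sub ks') ≤ b) (hnn : (D.nn * b).ble c = true) :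
    Finite (pres.sub ks) ∧ Nat.card (pres.sub ks) ≤ c := by
  have h := Pres.sub_card_le pres_ok hc hks no_more hw (b := b) (e.symm ▸ hH)
  exact ⟨h.1, h.2.trans (Nat.le_of_ble_eq_true hnn)⟩

theorem cardTwo : Finite (pres.sub IdxTwo.letters) ∧ Nat.card (pres.sub IdxTwo.letters) ≤ 6 := by
  have h := Pres.sub_card_le pres_ok IdxTwo.checked (ks := IdxTwo.letters) rfl no_more IdxTwo.words_ok
    (b := 1) (by rw [show IdxTwo.subW = [] from rfl, Pres.wsub_nil]; exact bot_card)
  exact ⟨h.1, h.2.trans (Nat.le_of_ble_eq_true (by decide +kernel))⟩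

theorem cardA3 : Finite (pres.sub IdxA3.letters) ∧ Nat.card (pres.sub IdxA3.letters) ≤ 24 :=
  step IdxA3.checked rfl IdxA3.words_ok (Pres.wsub_singles [0, 1]) cardTwo (by decide +kernel)

theorem cardA4 : Finite (pres.sub IdxA4.letters) ∧ Nat.card (pres.sub IdxA4.letters) ≤ 120 :=
  step IdxA4.checked rfl IdxA4.words_ok (Pres.wsub_singles [0, 1, 2]) cardA3 (by decide +kernel)

theorem cardA5 : Finite (pres.sub IdxA5.letters) ∧ Nat.card (pres.sub IdxA5.letters) ≤ 720 :=
  step IdxA5.checked rfl IdxA5.words_ok (Pres.wsub_singles [0, 1, 2, 3]) cardA4 (by decide +kernel)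

theorem cardA6 : Finite (pres.sub IdxA6.letters) ∧ Nat.card (pres.sub IdxA6.letters) ≤ 5040 :=
  step IdxA6.checked rfl IdxA6.words_ok (Pres.wsub_singles [0, 1, 2, 3, 7]) cardA5 (by decide +kernel)

theorem cardU43 : Finite (pres.sub IdxU43.letters) ∧ Nat.card (pres.sub IdxU43.letters) ≤ 39191040 :=
  step IdxU43.checked rfl IdxU43.words_ok (Pres.wsub_singles [0, 1, 2, 3, 6, 7]) cardA6 (by decide +kernel)

theorem cardTop : Finite (pres.sub IdxTop.letters) ∧ Nat.card (pres.sub IdxTop.letters) ≤ 220723937280 :=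
  step IdxTop.checked rfl IdxTop.words_ok (Pres.wsub_singles [0, 1, 2, 3, 5, 6, 7]) cardU43 (by decide +kernel)

theorem card_le : Finite pres.Grp ∧ Nat.card pres.Grp ≤ 24 * 9196830720 := by
  have h := cardTop
  rw [Pres.sub_all pres_ok (ks := IdxTop.letters) (by decide)] at h
  obtain ⟨hf, hc⟩ := h
  haveI := hf
  refine ⟨Finite.of_equiv _ Subgroup.topEquiv.toEquiv, ?_⟩
  rw [← Nat.card_congr (Subgroup.topEquiv (G := pres.Grp)).toEquiv]
  exact hc.trans (Nat.le_of_ble_eq_true (by decide +kernel))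

/-- the sign of a generator -/
def sgn (x : ℕ) : Multiplicative (ZMod 2) := if x < 8 then Multiplicative.ofAdd 1 else 1

theorem sgn_rels : ∀ r ∈ pres.relW, (r.map sgn).prod = 1 := by decide +kernel

theorem sgn_big (x : ℕ) (hx : ¬ x < pres.ng) : sgn x = 1 := if_neg hx

/-- the parity -/
noncomputable def parity : pres.Grp →* Multiplicative (ZMod 2) :=
  SpiderCert.homOf pres_ok sgn sgn_big sgn_rels

theorem even_bound : Finite (commutator pres.Grp) ∧
    Nat.card (toR.ker ⊓ commutator pres.Grp : Subgroup pres.Grp) ≤ 12 := by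
  haveI := card_le.1
  refine ⟨inferInstance, ?_⟩
  have hle : commutator pres.Grp ≤ parity.ker := Abelianization.commutator_subset_ker parity
  have hsurj : Function.Surjective parity := by
    have h : ∀ z : Multiplicative (ZMod 2), z = 1 ∨ z = Multiplicative.ofAdd 1 := by decide
    intro z
    rcases h z with rfl | rfl
    · exact ⟨1, map_one _⟩
    · exact ⟨pres.gen 0, by rw [parity, SpiderCert.homOf_gen]; rfl⟩
  have h2 : 2 * Nat.card parity.ker = Nat.card pres.Grp := by
    rw [← Subgroup.card_mul_index parity.ker, Subgroup.index_ker, MonoidHom.range_eq_top.mpr hsurj,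
      Nat.card_congr (Subgroup.topEquiv (G := Multiplicative (ZMod 2))).toEquiv,
      Nat.card_congr (Multiplicative.toAdd (α := ZMod 2)), Nat.card_zmod, mul_comm]
  let f := toR.comp (commutator pres.Grp).subtype
  have hf : Function.Surjective f := by
    rw [← MonoidHom.range_eq_top, MonoidHom.range_comp, Subgroup.range_subtype, commutator_def,
      Subgroup.map_commutator, Subgroup.map_top_of_surjective _ toR_surj, ← commutator_def, R_perfect]
  have h3 := Subgroup.card_mul_index f.ker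
  rw [Subgroup.index_ker, MonoidHom.range_eq_top.mpr hf, Nat.card_congr (Subgroup.topEquiv (G := R)).toEquiv,
    card_R] at h3
  have h4 : Nat.card (commutator pres.Grp) ≤ Nat.card parity.ker := Subgroup.card_le_of_le hle
  have h5 : Nat.card f.ker = Nat.card (toR.ker ⊓ commutator pres.Grp : Subgroup pres.Grp) := by
    rw [← Subgroup.card_map_of_injective (f := (commutator pres.Grp).subtype) Subtype.val_injective,
      show f.ker = toR.ker.subgroupOf (commutator pres.Grp) from rfl, Subgroup.subgroupOf_map_subtype]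
  have h6 := card_le.2
  rw [← h5]
  omega

theorem kernel_le {Γ : Type} [Group Γ] {π : Γ →* R} (h : Cfsg.IsStemExtension π) : Nat.card π.ker ≤ 12 := by
  haveI := card_le.1
  obtain ⟨φ, hcomp⟩ := exists_onto h
  obtain ⟨-, hb⟩ := even_bound
  refine le_trans ?_ hb
  have hdec : ∀ g : Γ, ∃ s : pres.Grp, π (g * (φ s)⁻¹) = 1 := fun g => by
    obtain ⟨s, hs⟩ := toR_surj (π g)
    exact ⟨s, by rw [map_mul, map_inv, ← MonoidHom.comp_apply, hcomp, hs, mul_inv_cancel]⟩
  have hle : commutator Γ ≤ (commutator pres.Grp).map φ := by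
    rw [commutator_def, Subgroup.commutator_le]
    intro a _ b _
    obtain ⟨s, hs⟩ := hdec a
    obtain ⟨t, ht⟩ := hdec b
    have hu := ker_comm h hs
    have hv := ker_comm h ht
    refine ⟨⁅s, t⁆, Subgroup.commutator_mem_commutator (Subgroup.mem_top s) (Subgroup.mem_top t), ?_⟩
    rw [map_commutatorElement]
    have hea : a = a * (φ s)⁻¹ * φ s := by group
    have heb : b = b * (φ t)⁻¹ * φ t := by group
    generalize a * (φ s)⁻¹ = u at hu hea
    generalize b * (φ t)⁻¹ = v at hv heb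
    generalize φ s = A at hea ⊢
    generalize φ t = B at heb ⊢
    subst hea heb
    simp only [commutatorElement_def]
    symm
    calc u * A * (v * B) * (u * A)⁻¹ * (v * B)⁻¹ = u * (A * v) * B * A⁻¹ * u⁻¹ * B⁻¹ * v⁻¹ := by group
      _ = u * (v * A) * B * A⁻¹ * u⁻¹ * B⁻¹ * v⁻¹ := by rw [hv A]
      _ = (u * (v * (A * B * A⁻¹))) * u⁻¹ * B⁻¹ * v⁻¹ := by group
      _ = ((v * (A * B * A⁻¹)) * u) * u⁻¹ * B⁻¹ * v⁻¹ := by rw [hu (v * (A * B * A⁻¹))]
      _ = (v * (A * B * A⁻¹ * B⁻¹)) * v⁻¹ := by group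
      _ = (A * B * A⁻¹ * B⁻¹ * v) * v⁻¹ := by rw [hv (A * B * A⁻¹ * B⁻¹)]
      _ = A * B * A⁻¹ * B⁻¹ := by group
  have hmem : ∀ k : (toR.ker ⊓ commutator pres.Grp : Subgroup pres.Grp), φ k ∈ π.ker := fun k => by
    rw [MonoidHom.mem_ker, ← MonoidHom.comp_apply, hcomp]
    exact (Subgroup.mem_inf.mp k.2).1
  let κ : (toR.ker ⊓ commutator pres.Grp : Subgroup pres.Grp) → π.ker := fun k => ⟨φ k, hmem k⟩
  refine Nat.card_le_card_of_surjective κ ?_
  rintro ⟨y, hy⟩
  obtain ⟨s, hs, rfl⟩ := hle (stem_perfect h ▸ Subgroup.mem_top y)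
  refine ⟨⟨s, Subgroup.mem_inf.mpr ⟨?_, hs⟩⟩, rfl⟩
  rw [MonoidHom.mem_ker, ← hcomp]
  exact hy

end Cfsg.Agent.Spor.U62CovCert
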