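import Cfsg.Agent.Lib.Spor.U62CovIdxA3Data

/-!
Coset certificate `IdxA3` of U62Cov: checks.
-/

set_option autoImplicit false
set_option maxRecDepth 100000

namespace Cfsg.Agent.Spor.U62CovCert.IdxA3

open Cfsg.Agent.Spor.CC

/-- checked entries -/
def stL0 : List ℕ := [
0x100000,
0x140000,
0x20000000000800000000080080300000000,
0x10000080000a0040200040002,
0x60040200080000,
0x400001000010000040000e00803000c0001]

theorem stOK0 : stepsOK dat stL0 3 = true := by decide +kernel

end Cfsg.Agent.Spor.U62CovCert.IdxA3
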