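import Cfsg.Agent.Lib.Spor.U62CovPres

/-!
Coset certificate `IdxA4` of U62Cov: data.
-/

set_option autoImplicit false
set_option maxRecDepth 100000

namespace Cfsg.Agent.Spor.U62CovCert.IdxA4

open Cfsg.Agent.Spor.CC

/-- packed equalities -/
def factC0 : ℕ := 0x1000100004000000800020000004000102000100004020000c00030100004000103000100004030000c00030300008000202000000000010000000000000000000000000100003010000c00020200008000103000040000

/-- the recorded equalities -/
def facts (id : ℕ) : ℕ :=
  fld factC0 44 (Nat.sub id 0)

/-- packed words -/
def words : ℕ := 0x2010000000000000000000000000000000000000000000000000000000000000000000000000000000000000000000000000000000000000000000000000000010100000000000000000000000000000000000000000000000000000000000000000000000000000000000000000000000000000000000000000000000000000001000000000000000000000000000000000000000000000000000000000000000000000000000000000000000000000000000000000000000000000000101010060000000000000000000000000000000000000000000000000000000000000000000000000000000000000000000000000000000000000000000000000020200400000000000000000000000000000000000000000000000000000000000000000000000000000000000000000000000000000000000000000000000000303004000000000000000000000000000000000000000000000000000000000000000000000000000000000000000000000000000000000000000000000000000202040000000000000000000000000000000000000000000000000000000000000000000000000000000000000000000000000000000000000000000000002121210600000000000000000000000000000000000000000000000000000000000000000000000000000000000000000000000000000000000000000000000000313104000000000000000000000000000000000000000000000000000000000000000000000000000000000000000000000000000000000000000000000000000303040000000000000000000000000000000000000000000000000000000000000000000000000000000000000000000000000000000000000000000000000013130400000000000000000000000000000000000000000000000000000000000000000000000000000000000000000000000000000000000000000000000032323206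

/-- the certificate -/
def dat : Data where
  ng := 4
  na := 5
  nn := 5
  facts := facts
  words := words
  nr := 9
  nw := 12

/-- witnesses for the words -/
def wit : List (ℕ × ℕ × Bool) := [
  (13, 0, false),
  (12, 0, true),
  (11, 0, true),
  (12, 0, false),
  (10, 0, false),
  (9, 0, true),
  (11, 0, false),
  (9, 0, false),
  (8, 0, false)]

/-- subgroup words -/
def subW : List (List ℕ) := [[0], [1], [2]]

/-- letters -/
def letters : List ℕ := [0, 1, 2, 3]

theorem defs_ok : ∀ k, k < dat.na - 1 → defOK dat k = true := by decide +kernel

end Cfsg.Agent.Spor.U62CovCert.IdxA4
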