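import Cfsg.Agent.Lib.Spor.U62CovIdxA4Data

/-!
Coset certificate `IdxA4` of U62Cov: checks.
-/

set_option autoImplicit false
set_option maxRecDepth 100000

namespace Cfsg.Agent.Spor.U62CovCert.IdxA4

open Cfsg.Agent.Spor.CC

/-- checked entries -/
def stL0 : List ℕ := [
0x240000,
0x280000,
0x2c0000,
0x200000000008000000000c0080300000000,
0x10000080000e0040200040002,
0x180000c000100040200080003,
0xa00402000c0000,
0x40000100001000004000140080300100001,
0x180000c000160040200140003,
0x80040200180000,
0x8000040001a00402001c0001,
0x600002000018000080001c0080300200002]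

theorem stOK0 : stepsOK dat stL0 4 = true := by decide +kernel

end Cfsg.Agent.Spor.U62CovCert.IdxA4
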