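import Cfsg.Agent.Lib.Spor.U62CovPres

/-!
Coset certificate `IdxA5` of U62Cov: data.
-/

set_option autoImplicit false
set_option maxRecDepth 100000

namespace Cfsg.Agent.Spor.U62CovCert.IdxA5

open Cfsg.Agent.Spor.CC

/-- packed equalities -/
def factC0 : ℕ := 0x1000140005000000c00030000008000200000040001020001400050200010000401000080002010000400010300014000503000100004030000c0003020000400010400014000504000100004040000c000304000080002030000000000200000000001000000000000000000000000014000401000100003020000c00020300008000104000040000

/-- the recorded equalities -/
def facts (id : ℕ) : ℕ :=
  fld factC0 44 (Nat.sub id 0)

/-- packed words -/
def words : ℕ := 0x30100000000000000000000000000000000000000000000000000000000000000000000000000000000000000000000000000000000000000000000000000000201000000000000000000000000000000000000000000000000000000000000000000000000000000000000000000000000000000000000000000000000000001010000000000000000000000000000000000000000000000000000000000000000000000000000000000000000000000000000000000000000000000000000000100000000000000000000000000000000000000000000000000000000000000000000000000000000000000000000000000000000000000000000000010101006000000000000000000000000000000000000000000000000000000000000000000000000000000000000000000000000000000000000000000000000002020040000000000000000000000000000000000000000000000000000000000000000000000000000000000000000000000000000000000000000000000000030300400000000000000000000000000000000000000000000000000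000000000000000000000000000000000000000000000000000000000000000000000000404004000000000000000000000000000000000000000000000000000000000000000000000000000000000000000000000000000000000000000000000000000202040000000000000000000000000000000000000000000000000000000000000000000000000000000000000000000000000000000000000000000000002121210600000000000000000000000000000000000000000000000000000000000000000000000000000000000000000000000000000000000000000000000000313104000000000000000000000000000000000000000000000000000000000000000000000000000000000000000000000000000000000000000000000000004141040000000000000000000000000000000000000000000000000000000000000000000000000000000000000000000000000000000000000000000000000003030400000000000000000000000000000000000000000000000000000000000000000000000000000000000000000000000000000000000000000000000000131304000000000000000000000000000000000000000000000000000000000000000000000000000000000000000000000000000000000000000000000000323232060000000000000000000000000000000000000000000000000000000000000000000000000000000000000000000000000000000000000000000000000042420400000000000000000000000000000000000000000000000000000000000000000000000000000000000000000000000000000000000000000000000000040404000000000000000000000000000000000000000000000000000000000000000000000000000000000000000000000000000000000000000000000000001414040000000000000000000000000000000000000000000000000000000000000000000000000000000000000000000000000000000000000000000000000024240400000000000000000000000000000000000000000000000000000000000000000000000000000000000000000000000000000000000000000000000043434306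

/-- the certificate -/
def dat : Data where
  ng := 5
  na := 6
  nn := 6
  facts := facts
  words := words
  nr := 16
  nw := 20

/-- witnesses for the words -/
def wit : List (ℕ × ℕ × Bool) := [
  (32, 0, false),
  (31, 0, true),
  (30, 0, true),
  (29, 0, true),
  (31, 0, false),
  (13, 0, false),
  (12, 0, true),
  (11, 0, true),
  (30, 0, false),
  (12, 0, false),
  (10, 0, false),
  (9, 0, true),
  (29, 0, false),
  (11, 0, false),
  (9, 0, false),
  (8, 0, false)]

/-- subgroup words -/
def subW : List (List ℕ) := [[0], [1], [2], [3]]

/-- letters -/
def letters : List ℕ := [0, 1, 2, 3, 7]

theorem defs_ok : ∀ k, k < dat.na - 1 → defOK dat k = true := by decide +kernel

end Cfsg.Agent.Spor.U62CovCert.IdxA5
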