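import Cfsg.Agent.Lib.Spor.U62CovIdxA5Data

/-!
Coset certificate `IdxA5` of U62Cov: checks.
-/

set_option autoImplicit false
set_option maxRecDepth 100000

namespace Cfsg.Agent.Spor.U62CovCert.IdxA5

open Cfsg.Agent.Spor.CC

/-- checked entries -/
def stL0 : List ℕ := [
0x400000,
0x440000,
0x480000,
0x4c0000,
0x20000000000800000000100080300000000,
0x1000008000120040200040002,
0x180000c000140040200080003,
0x20000100001600402000c0004,
0xe0040200100000,
0x400001000010000040001a0080300140001,
0x180000c0001c0040200180003,
0x20000100001e00402001c0004,
0xc0040200200000,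
0x800004000220040200240001,
0x60000200001800008000240080300280002,
0x20000100002600402002c0004,
0xa0040200300000,
0x8000040002a0040200340001,
0x10000080002c0040200380002,
0x8000030000200000c0002e00803003c0003]

theorem stOK0 : stepsOK dat stL0 5 = true := by decide +kernel

end Cfsg.Agent.Spor.U62CovCert.IdxA5
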