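import Cfsg.Agent.Lib.Spor.U62CovIdxA6Data

/-!
Coset certificate `IdxA6` of U62Cov: checks.
-/

set_option autoImplicit false
set_option maxRecDepth 100000

namespace Cfsg.Agent.Spor.U62CovCert.IdxA6

open Cfsg.Agent.Spor.CC

/-- checked entries -/
def stL0 : List ℕ := [
0x640000,
0x680000,
0x6c0000,
0x700000,
0x740000,
0x20000000000800000000140080300000000,
0x1000008000160040200040002,
0x180000c000180040200080003,
0x20000100001a00402000c0004,
0x28000140001c0040200100005,
0x120040200140000,
0x40000100001000004000200080300180001,
0x180000c0002200402001c0003,
0x2000010000240040200200004,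
0x2800014000260040200240005,
0x100040200280000,
0x8000040002a00402002c0001,
0x600002000018000080002c0080300300002,
0x20000100002e0040200340004,
0x2800014000300040200380005,
0xe00402003c0000,
0x800004000340040200400001,
0x1000008000360040200440002,
0x8000030000200000c000380080300480003,
0x28000140003a00402004c0005,
0xc0040200500000,
0x8000040003e0040200540001,
0x1000008000400040200580002,
0x180000c0004200402005c0003,
0xa0000400002800010000440080300600004]

theorem stOK0 : stepsOK dat stL0 6 = true := by decide +kernel

end Cfsg.Agent.Spor.U62CovCert.IdxA6
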