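import Cfsg.Agent.Lib.Spor.U62CovIdxTwoData

/-!
Coset certificate `IdxTwo` of U62Cov: checks.
-/

set_option autoImplicit false
set_option maxRecDepth 100000

namespace Cfsg.Agent.Spor.U62CovCert.IdxTwo

open Cfsg.Agent.Spor.CC

/-- checked entries -/
def stL0 : List ℕ := [
0x6000010000040000a000090000500000005]

theorem stOK0 : stepsOK dat stL0 5 = true := by decide +kernel

end Cfsg.Agent.Spor.U62CovCert.IdxTwo
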