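import Cfsg.Agent.Lib.Spor.U62CovRep
import Cfsg.Prelude.Def_KGroupFacts

/-!
Stem extensions of the projective unitary group of dimension six over four elements: canonical lifts of
transvections satisfy the relations of the graph presentation.
-/

set_option autoImplicit false
set_option maxRecDepth 100000

namespace Cfsg.Agent.Spor.U62CovCert

open Cfsg.Agent.Spor.CC
open scoped commutatorElement

theorem R_perfect : commutator R = ⊤ := by
  haveI := SUSix.simple_range
  rcases (inferInstance : (commutator R).Normal).eq_bot_or_eq_top with h | h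
  · exfalso
    have hcomm : ∀ a b : R, a * b = b * a := fun a b => by
      have hm : ⁅a, b⁆ ∈ commutator R := by
        rw [commutator_def]
        exact Subgroup.commutator_mem_commutator (Subgroup.mem_top a) (Subgroup.mem_top b)
      rw [h, Subgroup.mem_bot] at hm
      exact commutatorElement_eq_one_iff_mul_comm.mp hm
    letI : CommGroup R := { (inferInstance : Group R) with mul_comm := hcomm }
    have hp : (Nat.card R).Prime := IsSimpleGroup.prime_card
    rw [card_R] at hp
    exact (by norm_num : ¬ Nat.Prime 9196830720) hp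
  · exact h

/-- the checks of the pairs of the tree -/
def treeW : List (List ℕ) := Dat.sTree.map fun p => powW 3 (sW p.1 ++ sW p.2)

/-- the check of the odd relation -/
def oddW : List (List ℕ) := [Dat.sOdd.flatMap sW]

theorem tree_one : oneR treeW = true := by decide +kernel

theorem odd_one : oneR oddW = true ∧ Dat.sOdd.length % 2 = 1 ∧ (∀ i ∈ Dat.sOdd, i < 7) := by decide +kernel

/-- the five commuting conjugates -/
def fiveW : List (List ℕ) := Dat.fiveC.map tW

/-- the checks for the five -/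
def fiveChk : List (List ℕ) :=
  [fiveW.flatten] ++ fiveW.flatMap fun p => fiveW.map fun q => p ++ q ++ p ++ q

theorem five_check : oneR fiveChk = true ∧ Dat.fiveC.length = 5 := by decide +kernel

/-- conjugators from the transvection to the generators -/
def gC : List (List ℕ) :=
  [[], [0, 1], [1, 2, 0, 1], [2, 3, 1, 2, 0, 1], [3, 4, 2, 3, 1, 2, 0, 1], [1, 5, 0, 1], [5, 6, 1, 5, 0, 1],
    [3, 7, 2, 3, 1, 2, 0, 1]]

/-- the checks for the conjugators -/
def gCchk : List (List ℕ) := (List.range 8).map fun x => tW (gC.getD x []) ++ [x]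

theorem gC_check : oneR gCchk = true := by decide +kernel

theorem gC_spec {x : ℕ} (hx : x < 8) :
    ((gC.getD x []).map gR).prod * tR * ((gC.getD x []).map gR).prod⁻¹ = gR x := by
  have := oneR_spec gC_check (w := tW (gC.getD x []) ++ [x]) (List.mem_map.mpr ⟨x, List.mem_range.mpr hx, rfl⟩)
  rw [List.map_append, List.prod_append, tW_prod] at this
  simp only [List.map_cons, List.map_nil, List.prod_cons, List.prod_nil, mul_one] at this
  rw [eq_inv_of_mul_eq_one_left this, inv_eq_of_mul_eq_one_left (gR_sq x)]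

section

variable {Γ : Type} [Group Γ] {π : Γ →* R}

theorem stem_perfect (h : Cfsg.IsStemExtension π) : commutator Γ = ⊤ := by
  have hmap : (commutator Γ).map π = ⊤ := by
    rw [commutator_def, Subgroup.map_commutator, Subgroup.map_top_of_surjective _ h.1, ← commutator_def,
      R_perfect]
  rw [eq_top_iff]
  intro x _
  obtain ⟨c, hc, hcx⟩ : π x ∈ (commutator Γ).map π := hmap ▸ Subgroup.mem_top _
  have hk : c⁻¹ * x ∈ π.ker := by rw [MonoidHom.mem_ker, map_mul, map_inv, hcx, inv_mul_cancel]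
  simpa using mul_mem hc (h.2.2 hk)

theorem ker_comm (h : Cfsg.IsStemExtension π) {k : Γ} (hk : π k = 1) (g : Γ) : g * k = k * g :=
  Subgroup.mem_center_iff.mp (h.2.1 hk) g

theorem lift_comm (h : Cfsg.IsStemExtension π) {t : Γ} (ht : π t = tR) {d : Γ}
    (hd : π d ∈ Subgroup.centralizer ({tR} : Set R)) : d * t * d⁻¹ = t := by
  let M : Subgroup Γ := (Subgroup.centralizer ({tR} : Set R)).comap π
  have hz : ∀ g : M, π ((g : Γ) * t * (g : Γ)⁻¹ * t⁻¹) = 1 := fun g => by
    have hg : π g * tR = tR * π g := Subgroup.mem_centralizer_singleton_iff.mp g.2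
    rw [map_mul, map_mul, map_mul, map_inv, map_inv, ht, hg]
    group
  let χ : M →* Γ :=
    { toFun := fun g => (g : Γ) * t * (g : Γ)⁻¹ * t⁻¹
      map_one' := by simp
      map_mul' := fun a b => by
        have hb := ker_comm h (hz b) (a : Γ)
        have hb' := ker_comm h (hz b) ((a : Γ) * t * (a : Γ)⁻¹ * t⁻¹)
        simp only [Subgroup.coe_mul]
        calc (a : Γ) * b * t * ((a : Γ) * b)⁻¹ * t⁻¹
            = ((a : Γ) * ((b : Γ) * t * (b : Γ)⁻¹ * t⁻¹)) * t * (a : Γ)⁻¹ * t⁻¹ := by group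
          _ = (((b : Γ) * t * (b : Γ)⁻¹ * t⁻¹) * (a : Γ)) * t * (a : Γ)⁻¹ * t⁻¹ := by rw [hb]
          _ = ((b : Γ) * t * (b : Γ)⁻¹ * t⁻¹) * ((a : Γ) * t * (a : Γ)⁻¹ * t⁻¹) := by group
          _ = ((a : Γ) * t * (a : Γ)⁻¹ * t⁻¹) * ((b : Γ) * t * (b : Γ)⁻¹ * t⁻¹) := hb'.symm }
  have hχ : ∀ g : M, χ g = (g : Γ) * t * (g : Γ)⁻¹ * t⁻¹ := fun _ => rfl
  have hkill : ∀ g : M, π g = 1 → χ g = 1 := fun g hg => by
    rw [hχ, ← ker_comm h hg t]; group
  obtain ⟨c, hc⟩ : ∃ c : List ℕ → Γ, ∀ w, π (c w) = (w.map gR).prod :=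
    ⟨fun w => (h.1 _).choose, fun w => (h.1 _).choose_spec⟩
  have hsπ : ∀ i, π (c (Dat.sC.getD i []) * t * (c (Dat.sC.getD i []))⁻¹) = sR i := fun i => by
    rw [map_mul, map_mul, map_inv, hc, ht, sR, sW, tW_prod]
  have hsM : ∀ i, i < 7 → c (Dat.sC.getD i []) * t * (c (Dat.sC.getD i []))⁻¹ ∈ M := fun i hi => by
    rw [Subgroup.mem_comap, hsπ]
    exact Subgroup.mem_centralizer_singleton_iff.mpr (sR_comm hi)
  let s : ℕ → M := fun i => if hi : i < 7 then ⟨_, hsM i hi⟩ else 1
  have hs : ∀ i, i < 7 → π (s i : Γ) = sR i := fun i hi => by simp only [s, dif_pos hi]; exact hsπ i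
  have hsq : ∀ i, i < 7 → χ (s i) * χ (s i) = 1 := fun i hi => by
    rw [← map_mul]
    apply hkill
    rw [Subgroup.coe_mul, map_mul, hs i hi, sR_sq]
  have hkc : ∀ (i : ℕ) (g : Γ), g * χ (s i) = χ (s i) * g := fun i g => ker_comm h (hz (s i)) g
  have hpair : ∀ p ∈ Dat.sTree, p.1 < 7 ∧ p.2 < 7 ∧ χ (s p.1) = χ (s p.2) := by
    intro p hp
    have hl : ∀ p ∈ Dat.sTree, p.1 < 7 ∧ p.2 < 7 := by decide +kernel
    obtain ⟨h1, h2⟩ := hl p hp
    refine ⟨h1, h2, ?_⟩
    have hg := oneR_spec tree_one (List.mem_map.mpr ⟨p, hp, rfl⟩)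
    rw [prod_powW, List.map_append, List.prod_append, ← sR, ← sR] at hg
    have h3 : χ ((s p.1 * s p.2) ^ 3) = 1 := by
      apply hkill
      rw [SubgroupClass.coe_pow, map_pow, Subgroup.coe_mul, map_mul, hs _ h1, hs _ h2, hg]
    rw [map_pow, map_mul] at h3
    have ha := hsq _ h1
    have hb := hsq _ h2
    have hab := hkc p.2 (χ (s p.1))
    generalize χ (s p.1) = a at h3 ha hab ⊢
    generalize χ (s p.2) = b at h3 hb hab ⊢
    have h2 : (a * b) ^ 2 = 1 := by
      rw [(show Commute a b from hab).mul_pow, pow_two, pow_two, ha, hb, mul_one]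
    have : a * b = 1 := by
      calc a * b = (a * b) ^ 3 * ((a * b) ^ 2)⁻¹ := by group
        _ = 1 := by rw [h3, h2, inv_one, one_mul]
    rw [eq_inv_of_mul_eq_one_left this, inv_eq_of_mul_eq_one_left hb]
  have e01 := (hpair (0, 1) (by decide +kernel)).2.2
  have e02 := (hpair (0, 2) (by decide +kernel)).2.2
  have e04 := (hpair (0, 4) (by decide +kernel)).2.2
  have e05 := (hpair (0, 5) (by decide +kernel)).2.2
  have e06 := (hpair (0, 6) (by decide +kernel)).2.2
  have e13 := (hpair (1, 3) (by decide +kernel)).2.2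
  have hall : ∀ i, i < 7 → χ (s i) = χ (s 0) := fun i hi => by
    interval_cases i <;> simp_all
  obtain ⟨hodd, hlen, hlt⟩ := odd_one
  have h0 : χ (s 0) = 1 := by
    have hflat : ∀ l : List ℕ, ((l.flatMap sW).map gR).prod = (l.map sR).prod := fun l => by
      induction l with
      | nil => simp
      | cons a l ih =>
        rw [List.flatMap_cons, List.map_append, List.prod_append, ih, List.map_cons, List.prod_cons, sR]
    have hg := oneR_spec hodd (List.mem_singleton_self _)
    rw [hflat] at hg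
    have hcoe : ∀ l : List ℕ, (∀ i ∈ l, i < 7) → π ((l.map s).prod : Γ) = (l.map sR).prod ∧
        χ ((l.map s).prod) = χ (s 0) ^ l.length := by
      intro l
      induction l with
      | nil => simp
      | cons a l ih =>
        intro hl
        obtain ⟨ih1, ih2⟩ := ih fun i hi => hl i (List.mem_cons_of_mem _ hi)
        have ha := hl a (List.mem_cons_self ..)
        constructor
        · rw [List.map_cons, List.prod_cons, Subgroup.coe_mul, map_mul, hs a ha, ih1, List.map_cons, List.prod_cons]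
        · rw [List.map_cons, List.prod_cons, map_mul, ih2, hall a ha, List.length_cons, pow_succ']
    obtain ⟨e1, e2⟩ := hcoe Dat.sOdd hlt
    have h1 : χ (s 0) ^ Dat.sOdd.length = 1 := by rw [← e2]; exact hkill _ (e1.trans hg)
    rwa [← Nat.mod_add_div Dat.sOdd.length 2, hlen, pow_add, pow_one, pow_mul, pow_two, hsq 0 (by norm_num),
      one_pow, mul_one] at h1
  have hdS : π d ∈ ((χ.ker).map M.subtype).map π := by
    rw [centralizer_eq] at hd
    refine (Subgroup.closure_le _).mpr ?_ hd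
    rintro _ ⟨i, hi, rfl⟩
    exact ⟨s i, ⟨s i, by rw [SetLike.mem_coe, MonoidHom.mem_ker, hall i hi, h0], rfl⟩, hs i hi⟩
  obtain ⟨g, ⟨g', hg', rfl⟩, hgd⟩ := hdS
  have h1 : (g' : Γ) * t * (g' : Γ)⁻¹ * t⁻¹ = 1 := MonoidHom.mem_ker.mp hg'
  have hk : π ((g' : Γ)⁻¹ * d) = 1 := by
    rw [map_mul, map_inv, ← hgd]; exact inv_mul_cancel _
  calc d * t * d⁻¹ = (g' : Γ) * (((g' : Γ)⁻¹ * d) * t) * d⁻¹ := by group
    _ = (g' : Γ) * (t * ((g' : Γ)⁻¹ * d)) * d⁻¹ := by rw [ker_comm h hk t]
    _ = ((g' : Γ) * t * (g' : Γ)⁻¹ * t⁻¹) * t := by group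
    _ = t := by rw [h1, one_mul]

theorem conj_lift (h : Cfsg.IsStemExtension π) {t : Γ} (ht : π t = tR) {γ δ : Γ}
    (e : π γ * tR * (π γ)⁻¹ = π δ * tR * (π δ)⁻¹) : γ * t * γ⁻¹ = δ * t * δ⁻¹ := by
  have hd : π (δ⁻¹ * γ) ∈ Subgroup.centralizer ({tR} : Set R) := by
    rw [Subgroup.mem_centralizer_singleton_iff, map_mul, map_inv]
    calc (π δ)⁻¹ * π γ * tR = (π δ)⁻¹ * (π γ * tR * (π γ)⁻¹) * π γ := by group
      _ = (π δ)⁻¹ * (π δ * tR * (π δ)⁻¹) * π γ := by rw [e]
      _ = tR * ((π δ)⁻¹ * π γ) := by group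
  calc γ * t * γ⁻¹ = δ * ((δ⁻¹ * γ) * t * (δ⁻¹ * γ)⁻¹) * δ⁻¹ := by group
    _ = δ * t * δ⁻¹ := by rw [lift_comm h ht hd]

theorem sq_prod {z : Γ} (hz : ∀ g : Γ, g * z = z * g) : ∀ l : List Γ,
    (∀ a ∈ l, a * a = z) → (∀ a ∈ l, ∀ b ∈ l, a * b = b * a) → l.prod * l.prod = z ^ l.length
  | [], _, _ => by simp
  | a :: l, h1, h2 => by
    have ih := sq_prod hz l (fun b hb => h1 b (by simp [hb]))
      (fun b hb c hc => h2 b (by simp [hb]) c (by simp [hc]))
    have hc : Commute a l.prod := Commute.list_prod_right l a fun b hb => h2 a (by simp) b (by simp [hb])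
    rw [List.prod_cons, List.length_cons, pow_succ']
    calc a * l.prod * (a * l.prod) = a * (l.prod * a) * l.prod := by group
      _ = a * (a * l.prod) * l.prod := by rw [hc.eq]
      _ = a * a * (l.prod * l.prod) := by group
      _ = z * z ^ l.length := by rw [h1 a (by simp), ih]

theorem exists_involution_lift (h : Cfsg.IsStemExtension π) : ∃ t : Γ, π t = tR ∧ t * t = 1 := by
  obtain ⟨t, ht⟩ := h.1 tR
  obtain ⟨hone, hlen⟩ := five_check
  obtain ⟨c, hc⟩ : ∃ c : List ℕ → Γ, ∀ w, π (c w) = (w.map gR).prod :=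
    ⟨fun w => (h.1 _).choose, fun w => (h.1 _).choose_spec⟩
  let s : List ℕ → Γ := fun p => c p * t * (c p)⁻¹
  have hs : ∀ p, π (s p) = ((tW p).map gR).prod := fun p => by
    simp only [s]
    rw [map_mul, map_mul, map_inv, hc, ht, tW_prod]
  have hkz : π (t * t) = 1 := by rw [map_mul, ht, tR, gR_sq]
  have hsq : ∀ p, s p * s p = t * t := fun p => by
    simp only [s]
    generalize c p = γ
    calc γ * t * γ⁻¹ * (γ * t * γ⁻¹) = γ * (t * t) * γ⁻¹ := by group
      _ = t * t := by rw [ker_comm h hkz γ]; group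
  have hcomm : ∀ p ∈ Dat.fiveC, ∀ q ∈ Dat.fiveC, s p * s q = s q * s p := by
    intro p hp q hq
    have hG := oneR_spec hone (w := tW p ++ tW q ++ tW p ++ tW q) (List.mem_append.mpr (Or.inr
      (List.mem_flatMap.mpr ⟨tW p, List.mem_map.mpr ⟨p, hp, rfl⟩,
        List.mem_map.mpr ⟨tW q, List.mem_map.mpr ⟨q, hq, rfl⟩, rfl⟩⟩)))
    simp only [List.map_append, List.prod_append, ← hs p, ← hs q] at hG
    have hi : ∀ r, (π (s r))⁻¹ = π (s r) := fun r => by
      apply inv_eq_of_mul_eq_one_left
      rw [← map_mul, hsq r, hkz]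
    have e : π (s p) * π (s q) * (π (s p))⁻¹ = π (s q) := by
      rw [hi p, eq_inv_of_mul_eq_one_left hG, hi q]
    have key : s p * s q * (s p)⁻¹ = s q := by
      have hq' : s q = c q * t * (c q)⁻¹ := rfl
      generalize c q = γ at hq'
      generalize s p = a at e ⊢
      rw [hq'] at e ⊢
      calc a * (γ * t * γ⁻¹) * a⁻¹ = (a * γ) * t * (a * γ)⁻¹ := by group
        _ = γ * t * γ⁻¹ := by
          apply conj_lift h ht
          rw [map_mul, mul_inv_rev]
          simp only [map_mul, map_inv, ht] at e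
          calc π a * π γ * tR * ((π γ)⁻¹ * (π a)⁻¹) = π a * (π γ * tR * (π γ)⁻¹) * (π a)⁻¹ := by group
            _ = π γ * tR * (π γ)⁻¹ := e
    exact mul_inv_eq_iff_eq_mul.mp key
  have hE : π ((Dat.fiveC.map s).prod) = 1 := by
    rw [map_list_prod, List.map_map, List.map_congr_left (f := ⇑π ∘ s)
      (g := fun p => ((tW p).map gR).prod) (fun p _ => hs p)]
    have := oneR_spec hone (w := fiveW.flatten) (List.mem_append.mpr (Or.inl (List.mem_singleton_self _)))
    rwa [fiveW, List.map_flatten, List.prod_flatten, List.map_map, List.map_map] at this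
  have hE2 : (Dat.fiveC.map s).prod * (Dat.fiveC.map s).prod = (t * t) ^ 5 := by
    have := sq_prod (fun g => ker_comm h hkz g) (Dat.fiveC.map s)
      (by intro a ha; obtain ⟨p, -, rfl⟩ := List.mem_map.mp ha; exact hsq p)
      (by
        intro a ha b hb
        obtain ⟨p, hp, rfl⟩ := List.mem_map.mp ha
        obtain ⟨q, hq, rfl⟩ := List.mem_map.mp hb
        exact hcomm p hp q hq)
    rwa [List.length_map, hlen] at this
  generalize (Dat.fiveC.map s).prod = E at hE hE2
  generalize hz : t * t = z at hkz hE2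
  have ha : π (z ^ 2 * E⁻¹) = 1 := by rw [map_mul, map_pow, map_inv, hkz, hE]; simp
  refine ⟨z ^ 2 * E⁻¹ * t, by rw [map_mul, ha, one_mul, ht], ?_⟩
  have hzc : ∀ g : Γ, g * z = z * g := fun g => ker_comm h hkz g
  calc z ^ 2 * E⁻¹ * t * (z ^ 2 * E⁻¹ * t) = z ^ 2 * E⁻¹ * (t * (z ^ 2 * E⁻¹)) * t := by group
    _ = z ^ 2 * E⁻¹ * (z ^ 2 * E⁻¹) * (t * t) := by rw [ker_comm h ha t]; group
    _ = z ^ 2 * (E⁻¹ * z ^ 2) * E⁻¹ * z := by rw [hz]; group
    _ = z ^ 2 * (z ^ 2 * E⁻¹) * E⁻¹ * z := by rw [((Commute.pow_right (hzc E⁻¹) 2)).eq]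
    _ = z ^ 4 * (E * E)⁻¹ * z := by group
    _ = 1 := by rw [hE2]; group

theorem exists_onto (h : Cfsg.IsStemExtension π) : ∃ φ : pres.Grp →* Γ, π.comp φ = toR := by
  obtain ⟨t, ht, ht2⟩ := exists_involution_lift h
  obtain ⟨c, hc⟩ : ∃ c : List ℕ → Γ, ∀ w, π (c w) = (w.map gR).prod :=
    ⟨fun w => (h.1 _).choose, fun w => (h.1 _).choose_spec⟩
  let L : ℕ → Γ := fun x => if x < 8 then c (gC.getD x []) * t * (c (gC.getD x []))⁻¹ else 1
  have Lproj : ∀ x, π (L x) = gR x := fun x => by
    by_cases hx : x < 8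
    · simp only [L, if_pos hx]
      rw [map_mul, map_mul, map_inv, hc, ht, gC_spec hx]
    · simp only [L, if_neg hx]
      rw [map_one, gR_big x hx]
  have Lsq : ∀ x, L x * L x = 1 := fun x => by
    by_cases hx : x < 8
    · simp only [L, if_pos hx]
      generalize c (gC.getD x []) = γ
      calc γ * t * γ⁻¹ * (γ * t * γ⁻¹) = γ * (t * t) * γ⁻¹ := by group
        _ = 1 := by rw [ht2]; group
    · simp only [L, if_neg hx, one_mul]
  have Linv : ∀ x, (L x)⁻¹ = L x := fun x => inv_eq_of_mul_eq_one_left (Lsq x)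
  have Lconj : ∀ (γ : Γ) (x y : ℕ), x < 8 → y < 8 → π γ * gR x * (π γ)⁻¹ = gR y →
      γ * L x * γ⁻¹ = L y := fun γ x y hx hy e => by
    simp only [L, if_pos hx, if_pos hy]
    calc γ * (c (gC.getD x []) * t * (c (gC.getD x []))⁻¹) * γ⁻¹
        = (γ * c (gC.getD x [])) * t * (γ * c (gC.getD x []))⁻¹ := by group
      _ = c (gC.getD y []) * t * (c (gC.getD y []))⁻¹ := by
        apply conj_lift h ht
        rw [map_mul, hc, hc, gC_spec hy, mul_inv_rev, ← e]
        conv_rhs => rw [← gC_spec hx]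
        group
  have Lword : ∀ w : List ℕ, π ((w.map L).prod) = (w.map gR).prod := fun w => by
    rw [map_list_prod, List.map_map]; exact congrArg List.prod (List.map_congr_left fun x _ => Lproj x)
  have Lrev : ∀ w : List ℕ, ((w.reverse).map L).prod = ((w.map L).prod)⁻¹ := fun w => by
    induction w with
    | nil => simp
    | cons a l ih =>
      rw [List.reverse_cons, List.map_append, List.prod_append, ih]
      simp only [List.map_cons, List.map_nil, List.prod_cons, List.prod_nil, mul_one, mul_inv_rev, Linv a]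
  have eqW : ∀ (u : List ℕ) (x y : ℕ), x < 8 → y < 8 → oneR [conjW (u, x, y)] = true →
      ((conjW (u, x, y)).map L).prod = 1 := by
    intro u x y hx hy hG
    have hG' := oneR_spec hG (List.mem_singleton_self _)
    simp only [conjW, List.map_append, List.prod_append, gR_rev, List.map_cons, List.map_nil, List.prod_cons,
      List.prod_nil, mul_one] at hG'
    simp only [conjW, List.map_append, List.prod_append, Lrev, List.map_cons, List.map_nil, List.prod_cons,
      List.prod_nil, mul_one]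
    rw [Lconj _ x y hx hy (by
      rw [Lword]
      exact (eq_inv_of_mul_eq_one_left hG').trans (inv_eq_of_mul_eq_one_left (gR_sq y))), Lsq]
  have cube : ∀ (u : List ℕ) (x y : ℕ), x < 8 → y < 8 → oneR [powW 3 (conjW (u, x, y))] = true →
      ((powW 3 (conjW (u, x, y))).map L).prod = 1 := by
    intro u x y hx hy hG
    have hG' := oneR_spec hG (List.mem_singleton_self _)
    rw [prod_powW] at hG' ⊢
    simp only [conjW, List.map_append, List.prod_append, gR_rev, List.map_cons, List.map_nil, List.prod_cons,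
      List.prod_nil, mul_one] at hG'
    simp only [conjW, List.map_append, List.prod_append, Lrev, List.map_cons, List.map_nil, List.prod_cons,
      List.prod_nil, mul_one]
    generalize hU : (u.map L).prod = U
    have hUπ : π U = (u.map gR).prod := by rw [← hU, Lword]
    rw [← hUπ] at hG'
    have hd2 : U * L x * U⁻¹ * (U * L x * U⁻¹) = 1 := by
      calc _ = U * (L x * L x) * U⁻¹ := by group
        _ = 1 := by rw [Lsq]; group
    have key : U * L x * U⁻¹ * L y * U * L x * (U * L x * U⁻¹ * L y * U)⁻¹ = L y := by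
      refine Lconj _ x y hx hy ?_
      simp only [map_mul, map_inv, Lproj]
      have hP : π U * gR x * (π U)⁻¹ * (π U * gR x * (π U)⁻¹) = 1 := by
        rw [← Lproj x, ← map_inv, ← map_mul, ← map_mul, ← map_mul, hd2, map_one]
      have hq := gR_sq y
      generalize gR y = q at hG' hq ⊢
      generalize π U = C at hG' hP ⊢
      generalize gR x = p at hG' hP ⊢
      have hPi : (C * p * C⁻¹)⁻¹ = C * p * C⁻¹ := inv_eq_of_mul_eq_one_left hP
      calc C * p * C⁻¹ * q * C * p * (C * p * C⁻¹ * q * C)⁻¹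
          = (C * p * C⁻¹ * q) * (C * p * C⁻¹) * (q⁻¹ * (C * p * C⁻¹)⁻¹) := by group
        _ = (C * p * C⁻¹ * q) * (C * p * C⁻¹) * (q * (C * p * C⁻¹)) := by
          rw [inv_eq_of_mul_eq_one_left hq, hPi]
        _ = q⁻¹ := eq_inv_of_mul_eq_one_left (by rw [← hG', pow_succ, pow_two]; group)
        _ = q := inv_eq_of_mul_eq_one_left hq
    generalize hd : U * L x * U⁻¹ = d at hd2 key ⊢
    have e : d * L y * d * (d * L y)⁻¹ = L y := by
      refine Eq.trans ?_ key
      conv_lhs => enter [1, 2]; rw [← hd]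
      group
    rw [mul_inv_rev, inv_eq_of_mul_eq_one_left hd2, Linv y] at e
    calc (d * L y) ^ 3 = (d * L y * d * (L y * d)) * L y := by rw [pow_succ, pow_two]; group
      _ = 1 := by rw [e, Lsq]
  have rels : ∀ r ∈ pres.relW, (r.map L).prod = 1 := by
    intro r hr
    have hone : oneR [r] = true := by
      have hR := rels_one
      simp only [oneR, Bool.and_eq_true] at hR ⊢
      obtain ⟨h1, h2⟩ := hR
      refine ⟨?_, ?_⟩
      · simpa [lettersOK] using List.all_eq_true.mp h1 r hr
      · rw [loopOK, List.all_eq_true] at h2 ⊢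
        intro j hj
        simpa using List.all_eq_true.mp (h2 j hj) r hr
    simp only [Pres.relW, List.mem_append, List.mem_map, List.mem_flatMap, List.mem_range] at hr
    rcases hr with (⟨i, hi, rfl⟩ | ⟨i, hi, j, hj, rfl⟩) | he
    · simp [Lsq]
    · have hi8 : i < 8 := hi
      have hj8 : j < 8 := by omega
      have htab : ∀ a < 8, ∀ b < a, Cfsg.Spor.coxLabel pres.edges (pres.nm b) (pres.nm a) = 2 ∨
          Cfsg.Spor.coxLabel pres.edges (pres.nm b) (pres.nm a) = 3 := by decide +kernel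
      rcases htab i hi8 j hj with e | e <;> rw [e] at hone ⊢
      · have := eqW [j] i i hi8 hi8 (by simpa [conjW, powW, List.replicate] using hone)
        simpa [conjW, powW, List.replicate] using this
      · have := cube [] j i hj8 hi8 (by simpa [conjW, powW, List.replicate] using hone)
        simpa [conjW, powW, List.replicate] using this
    · simp only [pres, extras, List.mem_cons, List.not_mem_nil, or_false] at he
      rcases he with rfl | rfl | rfl
      · exact eqW _ _ _ (by decide) (by decide) hone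
      · exact eqW _ _ _ (by decide) (by decide) hone
      · exact cube _ _ _ (by decide) (by decide) hone
  refine ⟨SpiderCert.homOf pres_ok L (fun x hx => if_neg (show ¬ x < 8 from hx)) rels, ?_⟩
  refine PresentedGroup.ext fun a => ?_
  show π (SpiderCert.homOf pres_ok L _ rels (PresentedGroup.of a)) = toR (PresentedGroup.of a)
  rw [← Pres.gen_of pres_ok a, toR, SpiderCert.homOf_gen, SpiderCert.homOf_gen, Lproj]

end

end Cfsg.Agent.Spor.U62CovCert
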