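import Cfsg.Agent.Lib.Spor.OrbitCert

/-!
A graph presentation of a cover of the projective unitary group of dimension six over the field with
four elements.
-/

set_option autoImplicit false

namespace Cfsg.Agent.Spor.U62CovCert

open Cfsg.Agent.Spor.CC

/-- the edges: a hexagon with two pendants -/
def edges : List (Fin 8 × ℕ × Fin 8) := [(0, 3, 1), (1, 3, 2), (2, 3, 3), (3, 3, 4), (1, 3, 5), (5, 3, 6), (3, 3, 7), (6, 3, 7)]

/-- a conjugate of a generator, followed by a generator -/
def conjW (p : List ℕ × ℕ × ℕ) : List ℕ := p.1 ++ [p.2.1] ++ p.1.reverse ++ [p.2.2]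

/-- a conjugate equal to a generator -/
def eqA : List ℕ × ℕ × ℕ := ([1, 2, 5, 1, 6, 5, 7, 3, 6, 7, 2, 1, 5, 3, 2, 1], 0, 0)

/-- a second conjugate equal to a generator -/
def eqB : List ℕ × ℕ × ℕ := ([3, 4, 7, 3, 6, 5, 1, 2, 7, 6, 3, 7, 5, 4, 3, 2], 1, 2)

/-- a conjugate braiding with a generator -/
def hexC : List ℕ × ℕ × ℕ := ([1, 2, 3, 7], 6, 5)

/-- the further relators as words -/
def extras : List (List ℕ) := [conjW eqA, conjW eqB, powW 3 (conjW hexC)]

/-- the name of a generator -/
def nm8 (x : ℕ) : Fin 8 := [0, 1, 2, 3, 4, 5, 6, 7].getD x 0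

/-- a word in the free group -/
def freeW (w : List ℕ) : FreeGroup (Fin 8) := (w.map fun x => FreeGroup.of (nm8 x)).prod

/-- the numbered presentation -/
def pres : Pres (Fin 8) where
  edges := edges
  extra := extras.map freeW
  ng := 8
  ix := fun a => a.val
  nm := nm8
  extraW := extras

theorem extras_letters : lettersOK 8 extras = true := by decide +kernel

theorem nm8_val : ∀ x, x < 8 → (nm8 x).val = x := by decide +kernel

theorem pres_ok : pres.OK where
  ix_lt := fun a => a.isLt
  nm_ix := fun a => Fin.ext (nm8_val a.val a.isLt)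
  ix_nm := nm8_val
  node := by decide +kernel
  symm := by decide +kernel
  ng_le := by decide
  extra_eq := by
    intro M _ f _
    show (extras.map freeW).map (FreeGroup.lift (f ∘ fun a : Fin 8 => a.val)) = extras.map fun w => (w.map f).prod
    rw [List.map_map]
    refine List.map_congr_left fun w hw => ?_
    rw [Function.comp_apply, freeW, map_list_prod, List.map_map]
    refine congrArg List.prod (List.map_congr_left fun x hx => ?_)
    rw [Function.comp_apply, FreeGroup.lift_apply_of, Function.comp_apply]
    exact congrArg f (nm8_val x (lettersOK_spec extras_letters hw hx))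

theorem relW_letters : lettersOK 8 pres.relW = true := by decide +kernel

end Cfsg.Agent.Spor.U62CovCert
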