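import Cfsg.Agent.Lib.Spor.Fi22U62
import Cfsg.Agent.Lib.Spor.U62CovPres
import Cfsg.Agent.Lib.Spor.U62CovData
import Cfsg.Agent.Lib.Spor.SpiderHom

/-!
The projective unitary group of dimension six over four elements as an image of the graph presentation;
the centraliser of a transvection is generated by seven transvections.
-/

set_option autoImplicit false
set_option maxRecDepth 100000

namespace Cfsg.Agent.Spor.U62CovCert

open Cfsg.Agent.Spor.CC

/-- the group -/
abbrev R : Subgroup (Equiv.Perm (Fin 693)) := SUSix.uperm.range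

/-- the eight generators on 693 points -/
def vrows (x v : ℕ) : ℕ := Fi22Cert.U62Act.urows (Nat.add x 1) v

/-- the table -/
def vtab : Table where
  T := vrows
  ng := 8
  n := 693

theorem vtab_inv : invOK vrows 8 693 0 693 = true := by decide +kernel

theorem vtab_valid : vtab.Valid := fun _ hu _ hx =>
  invOK_spec vtab_inv (Nat.zero_le _) (lt_of_lt_of_eq hu (Nat.zero_add _).symm) hx

/-- the generators -/
noncomputable def gR (x : ℕ) : R :=
  if x < 8 then Fi22Cert.U62Act.theta (Fi22Cert.U62Act.gH (x + 1)) else 1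

theorem theta_val {x : ℕ} (hx : x < 9) :
    ((Fi22Cert.U62Act.theta (Fi22Cert.U62Act.gH x) : R) : Equiv.Perm (Fin 693)) =
      SUSix.uperm (Fi22Cert.U62Act.matSU x hx) := by
  refine Fi22Cert.U62Act.match_unique
    (s := ((Fi22Cert.U62Act.wordOf x).map Fi22Cert.pres.gen).prod) ?_ (Fi22Cert.U62Act.match_gen x hx)
  have h := (Fi22Cert.U62Act.exists_match _ (Fi22Cert.U62Act.gH x).2).choose_spec.2
  have e : ((Fi22Cert.U62Act.gH x : Fi22Cert.U62Act.Hsub) : Fi22Cert.pres.Grp) =
      ((Fi22Cert.U62Act.wordOf x).map Fi22Cert.pres.gen).prod := by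
    rw [Fi22Cert.U62Act.gH, dif_pos hx]
  intro v
  rw [← e]
  exact h v

theorem gR_val {x : ℕ} (hx : x < 8) : ((gR x : R) : Equiv.Perm (Fin 693)) = vtab.perm vtab_valid x := by
  rw [gR, if_pos hx, theta_val (show x + 1 < 9 by omega)]
  refine Equiv.ext fun v => Fin.ext ?_
  exact (Fi22Cert.U62Act.matSU_val (x + 1) (by omega) v).trans (vtab.perm_val vtab_valid hx v).symm

theorem gR_big (x : ℕ) (hx : ¬ x < pres.ng) : gR x = 1 := if_neg hx

theorem word_val {w : List ℕ} (hw : ∀ x ∈ w, x < 8) (u : Fin 693) :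
    ((((w.map gR).prod : R) : Equiv.Perm (Fin 693)) u : ℕ) = ev vrows 8 w u :=
  ev_eq (P := vtab) vtab_valid gR R.subtype (fun _ hx => gR_val hx) hw u

/-- words act as one -/
noncomputable def oneR (W : List (List ℕ)) : Bool := lettersOK 8 W && loopOK vrows 8 W 0 693

theorem oneR_spec {W : List (List ℕ)} (h : oneR W = true) {w : List ℕ} (hw : w ∈ W) :
    (w.map gR).prod = 1 := by
  obtain ⟨hl, hf⟩ := Bool.and_eq_true_iff.mp h
  refine Subtype.ext (Equiv.ext fun u => Fin.ext ?_)
  rw [word_val (fun x hx => lettersOK_spec hl hw hx)]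
  exact loopOK_spec hf (Nat.zero_le _) (lt_of_lt_of_eq u.2 (Nat.zero_add _).symm) hw

theorem rels_one : oneR pres.relW = true := by decide +kernel

theorem gR_sq (x : ℕ) : gR x * gR x = 1 := by
  by_cases hx : x < 8
  · have := oneR_spec rels_one (w := [x, x]) (by simp [Pres.relW, show x < pres.ng from hx])
    simpa using this
  · rw [gR_big x hx, one_mul]

theorem gR_rev (l : List ℕ) : (l.reverse.map gR).prod = (l.map gR).prod⁻¹ := by
  induction l with
  | nil => simp
  | cons a l ih =>
    rw [List.reverse_cons, List.map_append, List.prod_append, ih]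
    simp [inv_eq_of_mul_eq_one_left (gR_sq a)]

/-- onto the group -/
noncomputable def toR : pres.Grp →* R :=
  SpiderCert.homOf pres_ok gR gR_big fun _ hr => oneR_spec rels_one hr

theorem toR_surj : Function.Surjective toR := by
  have hH : Subgroup.closure (Fi22Cert.U62Act.gH '' {x | x < 9}) = ⊤ := by
    refine (Subgroup.map_injective Fi22Cert.U62Act.Hsub.subtype_injective) ?_
    rw [← MonoidHom.range_eq_map, Subgroup.range_subtype, MonoidHom.map_closure]
    refine le_antisymm ?_ ?_
    · rw [Subgroup.closure_le]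
      rintro _ ⟨a, -, rfl⟩
      exact a.2
    · show Pres.wsub Fi22Cert.pres Fi22Cert.IdxU62.subW ≤ _
      rw [Pres.wsub, Subgroup.closure_le]
      rintro _ ⟨w, hw, rfl⟩
      obtain ⟨i, hi, rfl⟩ := List.mem_iff_getElem.mp hw
      have hi9 : i < 9 := Fi22Cert.U62Act.subW_len ▸ hi
      refine Subgroup.subset_closure ⟨Fi22Cert.U62Act.gH i, ⟨i, hi9, rfl⟩, ?_⟩
      rw [Subgroup.coe_subtype, Fi22Cert.U62Act.gH, dif_pos hi9]
      show ((Fi22Cert.U62Act.wordOf i).map Fi22Cert.pres.gen).prod = _
      rw [Fi22Cert.U62Act.wordOf, List.getD_eq_getElem _ _ hi]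
  intro r
  obtain ⟨s, rfl⟩ := Fi22Cert.U62Act.theta_surjective r
  have hle : (⊤ : Subgroup Fi22Cert.U62Act.Hsub) ≤ toR.range.comap Fi22Cert.U62Act.theta := by
    rw [← hH, Subgroup.closure_le]
    rintro _ ⟨x, hx, rfl⟩
    obtain _ | x := x
    · refine ⟨1, ?_⟩
      rw [map_one]
      exact (MonoidHom.mem_ker.mp Fi22Cert.U62Act.cen_mem_ker).symm
    · have hx' : x < 8 := Nat.lt_of_succ_lt_succ hx
      refine ⟨pres.gen x, ?_⟩
      rw [toR, SpiderCert.homOf_gen, gR, if_pos hx']
  exact hle (Subgroup.mem_top s)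

/-! ### the class of the transvection -/

/-- the transvection -/
noncomputable def tR : R := gR 0

/-- the word of a conjugate of the transvection -/
def tW (c : List ℕ) : List ℕ := c ++ [0] ++ c.reverse

theorem tW_prod (c : List ℕ) : ((tW c).map gR).prod = (c.map gR).prod * tR * (c.map gR).prod⁻¹ := by
  simp only [tW, List.map_append, List.prod_append, gR_rev, List.map_cons, List.map_nil, List.prod_cons,
    List.prod_nil, mul_one, tR]

/-- five sample images -/
noncomputable def keyOf (W : ℕ) : ℕ :=
  Dat.samplePts.foldl (fun a u => Nat.add (Nat.mul a 693) (ev vrows 8 (tW (wDecode W)) u)) 0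

/-- strictly increasing keys -/
noncomputable def incOK : ℕ → List ℕ → Bool := fun a l =>
  l.rec (fun _ => true) (fun b _ ih a => (fun k => Nat.blt a k && ih k) (Nat.add (keyOf b) 1)) a

theorem keys_ok : incOK 0 Dat.classW = true ∧ lettersOK 8 (Dat.classW.map wDecode) = true ∧
    Dat.classW.length = 693 ∧ Dat.samplePts.all (fun u => Nat.blt u 693) = true := by decide +kernel

theorem incOK_pairwise : ∀ (l : List ℕ) (a : ℕ), incOK a l = true →
    l.Pairwise (fun p q => keyOf p < keyOf q) ∧ ∀ b ∈ l, a ≤ keyOf b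
  | [], _, _ => by simp
  | b :: l, a, h => by
    simp only [incOK, Bool.and_eq_true] at h
    obtain ⟨h1, h2⟩ := h
    have h1' : a < keyOf b + 1 := Nat.le_of_ble_eq_true h1
    obtain ⟨hp, hb⟩ := incOK_pairwise l _ h2
    refine ⟨List.pairwise_cons.mpr ⟨fun c hc => ?_, hp⟩, fun c hc => ?_⟩
    · have : keyOf b + 1 ≤ keyOf c := hb c hc
      omega
    · rcases List.mem_cons.mp hc with rfl | hc
      · omega
      · have : keyOf b + 1 ≤ keyOf c := hb c hc
        omega

theorem key_congr {p q : ℕ} (hp : p ∈ Dat.classW) (hq : q ∈ Dat.classW)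
    (e : ((tW (wDecode p)).map gR).prod = ((tW (wDecode q)).map gR).prod) : keyOf p = keyOf q := by
  obtain ⟨-, hl, -, hs⟩ := keys_ok
  have hlt : ∀ r ∈ Dat.classW, ∀ x ∈ tW (wDecode r), x < 8 := by
    intro r hr x hx
    simp only [tW, List.mem_append, List.mem_singleton, List.mem_reverse] at hx
    rcases hx with (h | rfl) | h
    · exact lettersOK_spec hl (List.mem_map.mpr ⟨r, hr, rfl⟩) h
    · norm_num
    · exact lettersOK_spec hl (List.mem_map.mpr ⟨r, hr, rfl⟩) h
  have : ∀ u ∈ Dat.samplePts, ev vrows 8 (tW (wDecode p)) u = ev vrows 8 (tW (wDecode q)) u := by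
    intro u hu
    have hu' : u < 693 := Nat.le_of_ble_eq_true (List.all_eq_true.mp hs u hu)
    have := congrArg (fun s : R => (((s : Equiv.Perm (Fin 693)) ⟨u, hu'⟩ : Fin 693) : ℕ)) e
    rwa [word_val (hlt p hp), word_val (hlt q hq)] at this
  unfold keyOf
  exact List.foldl_ext _ _ _ fun a u hu => by rw [this u hu]

theorem card_R : Nat.card R = 9196830720 := SUSix.card_range

theorem finite_R : Finite R := Nat.finite_of_card_ne_zero (by rw [card_R]; norm_num)

theorem centralizer_le : Nat.card (Subgroup.centralizer ({tR} : Set R)) ≤ 13271040 := by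
  haveI := finite_R
  obtain ⟨hinc, -, hlen, -⟩ := keys_ok
  have hnd := (incOK_pairwise _ _ hinc).1
  let C := Subgroup.centralizer ({tR} : Set R)
  let cl : Fin Dat.classW.length → R := fun i => ((wDecode (Dat.classW.get i)).map gR).prod
  let f : Fin Dat.classW.length × C → R := fun p => cl p.1 * p.2
  have hconj : ∀ (i : Fin Dat.classW.length) (c : C),
      cl i * c * tR * (cl i * c)⁻¹ = ((tW (wDecode (Dat.classW.get i))).map gR).prod := by
    intro i c
    have hc : (c : R) * tR = tR * c := Subgroup.mem_centralizer_singleton_iff.mp c.2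
    rw [tW_prod]
    calc cl i * c * tR * (cl i * c)⁻¹ = cl i * ((c : R) * tR) * (c : R)⁻¹ * (cl i)⁻¹ := by group
      _ = cl i * tR * (cl i)⁻¹ := by rw [hc]; group
  have hf : Function.Injective f := by
    rintro ⟨i, c⟩ ⟨j, d⟩ e
    have e' : ((tW (wDecode (Dat.classW.get i))).map gR).prod =
        ((tW (wDecode (Dat.classW.get j))).map gR).prod := by
      rw [← hconj i c, ← hconj j d, show cl i * c = cl j * d from e]
    have hk := key_congr (List.get_mem _ i) (List.get_mem _ j) e'
    have hij : i = j := by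
      by_contra hne
      rcases lt_or_gt_of_ne hne with h | h
      · exact absurd hk (List.pairwise_iff_get.mp hnd i j h).ne
      · exact absurd hk (List.pairwise_iff_get.mp hnd j i h).ne'
    subst hij
    exact Prod.ext rfl (Subtype.ext (mul_left_cancel e))
  have := Nat.card_le_card_of_injective f hf
  rw [Nat.card_prod, Nat.card_fin, hlen, card_R] at this
  show Nat.card C ≤ _
  omega

/-- the table of the generators of the centraliser -/
def stab7 : Table where
  T := Dat.srows
  ng := 7
  n := 693

theorem srows_inv : invOK Dat.srows 7 693 0 693 = true := by decide +kernel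

theorem stab7_valid : stab7.Valid := fun _ hu _ hx =>
  invOK_spec srows_inv (Nat.zero_le _) (lt_of_lt_of_eq hu (Nat.zero_add _).symm) hx

/-- the word of a generator of the centraliser -/
def sW (i : ℕ) : List ℕ := tW (Dat.sC.getD i [])

/-- the generators of the centraliser -/
noncomputable def sR (i : ℕ) : R := ((sW i).map gR).prod

/-- the generators agree with their table -/
noncomputable def sOK (v : ℕ) : Bool :=
  (List.range 7).all fun i => Nat.beq (ev vrows 8 (sW i) v) (Dat.srows i v)

theorem sOK_all : rangeOK sOK 0 693 = true := by decide +kernel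

theorem sW_letters : lettersOK 8 ((List.range 7).map sW) = true := by decide +kernel

theorem sR_val {i : ℕ} (hi : i < 7) : ((sR i : R) : Equiv.Perm (Fin 693)) = stab7.perm stab7_valid i := by
  refine Equiv.ext fun v => Fin.ext ?_
  rw [sR, word_val (fun x hx => lettersOK_spec sW_letters (List.mem_map.mpr ⟨i, List.mem_range.mpr hi, rfl⟩) hx)]
  refine Eq.trans ?_ (stab7.perm_val stab7_valid hi v).symm
  exact Nat.eq_of_beq_eq_true (List.all_eq_true.mp
    (all_range (p := sOK) sOK_all (Nat.zero_le _) (lt_of_lt_of_eq v.2 (Nat.zero_add _).symm))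
      i (List.mem_range.mpr hi))

theorem slevels_ok : chainOK Dat.srows 7 693 Dat.slevels [] = true ∧
    chainSize Dat.slevels = 13271040 := by decide +kernel

/-- the generators commute with the transvection -/
def sCommW : List (List ℕ) := (List.range 7).map fun i => sW i ++ [0] ++ sW i ++ [0]

theorem sComm_one : oneR sCommW = true := by decide +kernel

theorem sR_sq (i : ℕ) : sR i * sR i = 1 := by
  rw [sR, sW, tW_prod]
  generalize ((Dat.sC.getD i []).map gR).prod = c
  calc c * tR * c⁻¹ * (c * tR * c⁻¹) = c * (tR * tR) * c⁻¹ := by group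
    _ = 1 := by rw [tR, gR_sq]; group

theorem sR_comm {i : ℕ} (hi : i < 7) : sR i * tR = tR * sR i := by
  have h := oneR_spec sComm_one (w := sW i ++ [0] ++ sW i ++ [0])
    (List.mem_map.mpr ⟨i, List.mem_range.mpr hi, rfl⟩)
  simp only [List.map_append, List.prod_append, List.map_cons, List.map_nil, List.prod_cons, List.prod_nil,
    mul_one] at h
  rw [← sR] at h
  change sR i * tR * sR i * tR = 1 at h
  calc sR i * tR = (sR i * tR * sR i * tR) * (tR⁻¹ * (sR i)⁻¹) := by group
    _ = tR * sR i := by
      rw [h, one_mul, inv_eq_of_mul_eq_one_left (sR_sq i), inv_eq_of_mul_eq_one_left (show tR * tR = 1 from gR_sq 0)]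

theorem centralizer_eq :
    Subgroup.centralizer ({tR} : Set R) = Subgroup.closure (sR '' {i | i < 7}) := by
  haveI := finite_R
  have hle : Subgroup.closure (sR '' {i | i < 7}) ≤ Subgroup.centralizer ({tR} : Set R) := by
    rw [Subgroup.closure_le]
    rintro _ ⟨i, hi, rfl⟩
    exact Subgroup.mem_centralizer_singleton_iff.mpr (sR_comm hi)
  symm
  refine Subgroup.eq_of_le_of_card_ge hle (centralizer_le.trans ?_)
  obtain ⟨hok, hsize⟩ := slevels_ok
  rw [← hsize]
  refine chain_le stab7_valid sR R.subtype (fun i hi => sR_val hi) Dat.slevels [] hok _ ?_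
  rintro _ _ ⟨O, hO, w, hw, rfl⟩
  refine list_prod_mem fun s hs => ?_
  obtain ⟨i, hi, rfl⟩ := List.mem_map.mp hs
  refine Subgroup.subset_closure ⟨i, ?_, rfl⟩
  have hl : lettersOK 7 (Dat.slevels.flatMap Orb.ws) = true := by decide +kernel
  exact lettersOK_spec hl (List.mem_flatMap.mpr ⟨O, hO, hw⟩) hi

end Cfsg.Agent.Spor.U62CovCert
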