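import Mathlib

/-!
Ring identities in characteristic two around an element `x` with `x * x = x + 1`.
-/

set_option autoImplicit false
set_option linter.unusedSimpArgs false
set_option linter.unusedSectionVars false

namespace Cfsg.Agent.Spor.UniqueClass

variable {R : Type*} [Ring R]

/-- characteristic two, for a ring that may be trivial -/
class TwoZero (R : Type*) [Ring R] : Prop where
  two : ∀ x : R, x + x = 0

variable [TwoZero R]

theorem two_self (x : R) : x + x = 0 := TwoZero.two x

theorem two_cancel (x y : R) : x + (x + y) = y := by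
  rw [← add_assoc, two_self, zero_add]

theorem two_add_eq {x y : R} : x = y ↔ x + y = 0 := by
  constructor
  · rintro rfl
    exact two_self x
  · intro h
    have := congrArg (fun z => z + y) h
    simpa [add_assoc, two_self] using this

theorem two_eq_add {x y z : R} (h : x + y = z) : x = z + y := by
  rw [← h, add_assoc, two_self, add_zero]

/-- being `0`, `1`, or a root of `x * x = x + 1` -/
def Small (x : R) : Prop := x = 0 ∨ x = 1 ∨ x * x = x + 1

/-- the part of `v` that moves `x` to its conjugate -/
def br (x v : R) : R := v * x + x * v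

/-- the four scalars over `x` -/
def Scalar (x c : R) : Prop := c = 0 ∨ c = 1 ∨ c = x ∨ c = x + 1

theorem cube_inv {x : R} (h : x * x = x + 1) : x * (x + 1) = 1 ∧ (x + 1) * x = 1 := by
  constructor
  · rw [mul_add, h, mul_one, add_comm x 1, add_assoc, two_self, add_zero]
  · rw [add_mul, h, one_mul, add_comm x 1, add_assoc, two_self, add_zero]

theorem cube_succ {x : R} (h : x * x = x + 1) : (x + 1) * (x + 1) = x + 1 + 1 := by
  simp only [mul_add, add_mul, mul_one, one_mul, h, add_assoc, add_comm, add_left_comm, two_self,
    two_cancel, add_zero, zero_add]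

theorem succ_succ (x : R) : x + 1 + 1 = x := by rw [add_assoc, two_self, add_zero]

theorem br_add (x v w : R) : br x (v + w) = br x v + br x w := by
  simp only [br, mul_add, add_mul]; abel

theorem br_zero (x : R) : br x 0 = 0 := by simp [br]

theorem br_one (x : R) : br x 1 = 0 := by simp [br, two_self]

theorem br_self (x : R) : br x x = 0 := two_self _

theorem br_succ (x v : R) : br (x + 1) v = br x v := by
  simp only [br, mul_add, add_mul, mul_one, one_mul, add_assoc, add_comm, add_left_comm, two_self,
    two_cancel, add_zero]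

theorem br_scalar {x c : R} (hc : Scalar x c) : br x c = 0 := by
  rcases hc with rfl | rfl | rfl | rfl
  · exact br_zero x
  · exact br_one x
  · exact br_self _
  · rw [br_add, br_self, br_one, add_zero]

theorem scalar_comm {x c : R} (hc : Scalar x c) : c * x = x * c := by
  have h := br_scalar hc
  rw [br, ← two_add_eq] at h
  exact h

theorem br_conj {x : R} (h : x * x = x + 1) (v : R) : br x v * x = (x + 1) * br x v := by
  have e : ∀ w : R, w * x * x = w * x + w := fun w => by rw [mul_assoc, h, mul_add, mul_one]
  have e' : ∀ w : R, x * (x * w) = x * w + w := fun w => by rw [← mul_assoc, h, add_mul, one_mul]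
  simp only [br, mul_add, add_mul, one_mul, e, e', ← mul_assoc, add_assoc, add_comm, add_left_comm,
    two_self, two_cancel, add_zero, zero_add]
  rw [h]
  simp only [add_mul, one_mul, add_assoc, add_comm, add_left_comm, two_self, two_cancel, add_zero,
    zero_add]

theorem br_left {x c : R} (hc : c * x = x * c) (v : R) : br x (c * v) = c * br x v := by
  rw [br, br, mul_add, mul_assoc, ← mul_assoc x c, ← hc, mul_assoc c x]

theorem br_of_semi {x n : R} (h : n * x = (x + 1) * n) : br x n = n := by
  rw [br, h, add_mul, one_mul, add_comm (x * n), add_assoc, two_self, add_zero]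

theorem semi_mul {x c n : R} (hc : c * x = x * c) (hn : n * x = (x + 1) * n) :
    c * n * x = (x + 1) * (c * n) := by
  rw [mul_assoc, hn, ← mul_assoc, ← mul_assoc, mul_add c, hc, mul_one, add_mul x 1 c, one_mul]

theorem semi_succ {x n : R} (hn : n * x = (x + 1) * n) : n * (x + 1) = x * n := by
  rw [mul_add, hn, mul_one, add_mul, one_mul, add_assoc, two_self, add_zero]

theorem scalar_mul {x a b : R} (h : x * x = x + 1) (ha : Scalar x a) (hb : Scalar x b) :
    Scalar x (a * b) := by
  obtain ⟨h1, h2⟩ := cube_inv h
  have h3 := cube_succ h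
  rw [succ_succ] at h3
  rcases ha with rfl | rfl | rfl | rfl <;> rcases hb with rfl | rfl | rfl | rfl <;>
    simp [Scalar, h, h1, h2, h3]

theorem scalar_add {x a b : R} (ha : Scalar x a) (hb : Scalar x b) : Scalar x (a + b) := by
  rcases ha with rfl | rfl | rfl | rfl <;> rcases hb with rfl | rfl | rfl | rfl <;>
    simp [Scalar, add_assoc, add_comm, add_left_comm, two_self, two_cancel]

theorem semi_scalar {x c n : R} (hn : n * x = (x + 1) * n) (hc : Scalar x c) :
    ∃ c', Scalar x c' ∧ n * c = c' * n ∧ (c + c' = 0 ∨ c + c' = 1) := by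
  rcases hc with h | h | h | h <;> rw [h]
  · exact ⟨0, Or.inl rfl, by simp, Or.inl (add_zero 0)⟩
  · exact ⟨1, Or.inr (Or.inl rfl), by simp, Or.inl (two_self _)⟩
  · exact ⟨x + 1, Or.inr (Or.inr (Or.inr rfl)), hn, Or.inr (two_cancel _ _)⟩
  · exact ⟨x, Or.inr (Or.inr (Or.inl rfl)), semi_succ hn,
      Or.inr (by rw [add_comm, two_cancel])⟩

/-- `x`, `e` and `x * e` all roots: they differ by a square-zero element. -/
theorem three_roots {x e : R} (hx : x * x = x + 1) (he : e * e = e + 1)
    (hxe : x * e * (x * e) = x * e + 1) :
    br x e = x + e ∧ e = x + br x e ∧ br x e * br x e = 0 := by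
  obtain ⟨x1, x2⟩ := cube_inv hx
  obtain ⟨e1, e2⟩ := cube_inv he
  have h1 : x * e * x = (x * e + 1) * (e + 1) := by
    rw [← hxe, mul_assoc (x * e) (x * e), mul_assoc x e (e + 1), e1, mul_one]
  have h2 : x * e * x = x + e + 1 := by
    rw [h1, add_mul, one_mul, mul_assoc, e1, mul_one, add_assoc]
  have h3 : e * x = (x + 1) * (x + e + 1) := by
    rw [← h2, mul_assoc x e, ← mul_assoc (x + 1), x2, one_mul]
  have h4 : br x e = x + e := by
    rw [br, h3]
    simp only [mul_add, add_mul, mul_one, one_mul, hx, add_assoc, add_comm, add_left_comm, two_self,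
      two_cancel, add_zero, zero_add]
  refine ⟨h4, by rw [h4, two_cancel], ?_⟩
  rw [h4]
  calc (x + e) * (x + e) = x * x + e * e + (e * x + x * e) := by
        simp only [mul_add, add_mul]; abel
    _ = x * x + e * e + br x e := rfl
    _ = 0 := by
      rw [h4, hx, he]
      simp only [add_assoc, add_comm, add_left_comm, two_self, two_cancel, add_zero, zero_add]

/-- four loops that are roots force a root to be one -/
theorem four_roots {X d e : R} (hX : X * X = X + 1) (hd : d * d = d + 1) (he : e * e = e + 1)
    (hA : X * d * (e + 1) * (X * d * (e + 1)) = X * d * (e + 1) + 1)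
    (hB : (X + 1) * (d + 1) * (e + 1) * ((X + 1) * (d + 1) * (e + 1)) =
      (X + 1) * (d + 1) * (e + 1) + 1)
    (hC : (X + 1) * d * e * ((X + 1) * d * e) = (X + 1) * d * e + 1)
    (hD : X * (d + 1) * e * (X * (d + 1) * e) = X * (d + 1) * e + 1) :
    d = 1 := by
  have key : ∀ P Q S : R, (P + 1) * P = 1 → S * (S + 1) = 1 →
      P * Q * S * (P * Q * S) = P * Q * S + 1 → Q * S * (P * Q) = Q + (P + 1) * (S + 1) := by
    intro P Q S hP hS hW
    calc Q * S * (P * Q)
        = (P + 1) * P * (Q * S * (P * Q)) * (S * (S + 1)) := by rw [hP, hS, one_mul, mul_one]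
      _ = (P + 1) * (P * Q * S * (P * Q * S)) * (S + 1) := by simp only [mul_assoc]
      _ = (P + 1) * (P * Q * S + 1) * (S + 1) := by rw [hW]
      _ = ((P + 1) * P) * Q * (S * (S + 1)) + (P + 1) * (S + 1) := by
          simp only [mul_add, add_mul, mul_one, one_mul, mul_assoc]; abel
      _ = Q + (P + 1) * (S + 1) := by rw [hP, hS, one_mul, mul_one]
  obtain ⟨x1, x2⟩ := cube_inv hX
  obtain ⟨e1, e2⟩ := cube_inv he
  have x3 : (X + 1 + 1) * (X + 1) = 1 := by rw [succ_succ]; exact x1
  have e3 : (e + 1) * (e + 1 + 1) = 1 := by rw [succ_succ]; exact e2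
  have kA := key X d (e + 1) x2 e3 hA
  have kB := key (X + 1) (d + 1) (e + 1) x3 e3 hB
  have kC := key (X + 1) d e x3 e1 hC
  have kD := key X (d + 1) e x2 e1 hD
  have i1 : (e + 1) * X + e * (X + 1) = X + e := by
    simp only [mul_add, add_mul, mul_one, one_mul, add_assoc, add_comm, add_left_comm, two_self,
      two_cancel, add_zero, zero_add]
  have i2 : (e + 1) * (X + 1) + e * X = X + e + 1 := by
    simp only [mul_add, add_mul, mul_one, one_mul, add_assoc, add_comm, add_left_comm, two_self,
      two_cancel, add_zero, zero_add]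
  have u1 : d * (X + e) * d = X + e := by
    have : d * ((e + 1) * X + e * (X + 1)) * d =
        d * (e + 1) * (X * d) + d * e * ((X + 1) * d) := by
      rw [mul_add d, add_mul]
      simp only [mul_assoc]
    rw [i1] at this
    rw [this, kA, kC, succ_succ]
    simp only [mul_add, add_mul, mul_one, one_mul, succ_succ, add_assoc, add_comm, add_left_comm,
      two_self, two_cancel, add_zero, zero_add]
  have u2 : (d + 1) * (X + e + 1) * (d + 1) = X + e + 1 := by
    have : (d + 1) * ((e + 1) * (X + 1) + e * X) * (d + 1) =
        (d + 1) * (e + 1) * ((X + 1) * (d + 1)) + (d + 1) * e * (X * (d + 1)) := by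
      rw [mul_add (d + 1) _ (e * X), add_mul]
      simp only [mul_assoc]
    rw [i2] at this
    rw [this, kB, kD, succ_succ, succ_succ]
    simp only [mul_add, add_mul, mul_one, one_mul, succ_succ, add_assoc, add_comm, add_left_comm,
      two_self, two_cancel, add_zero, zero_add]
  generalize X + e = u at u1 u2
  obtain ⟨d1, d2⟩ := cube_inv hd
  have h3 : d * u = u * d + u := by
    calc d * u = d * u * (d * (d + 1)) := by rw [d1, mul_one]
      _ = d * u * d * (d + 1) := by simp only [mul_assoc]
      _ = u * d + u := by rw [u1, mul_add, mul_one]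
  have h4 : (d + 1) * (u + 1) * (d + 1) = d * u * d + (d * u + u * d + u) + (d * d + d + d + 1) := by
    simp only [mul_add, add_mul, mul_one, one_mul, ← mul_assoc]; abel
  rw [u2, u1, h3, hd] at h4
  simp only [add_assoc, add_comm, add_left_comm, two_self, two_cancel, add_zero, zero_add] at h4
  have : u + 1 = u + d := by rw [h4]; simp only [add_assoc, add_comm, add_left_comm, two_self, two_cancel, add_zero, zero_add]
  exact (add_left_cancel this).symm

/-- the possible relations of two perturbed roots -/
theorem perturbed {X U a b : R} (hX : X * X = X + 1) (hU : U = X + a) (ha : a * X = (X + 1) * a)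
    (ha2 : a * a = 0) (hb2 : b * b = 0) (hb : b * X = (X + 1) * b)
    (hgood : Scalar U (X + b + br U (X + b))) (hsq : br U (X + b) * br U (X + b) = 0) :
    a * b = b * a ∨ b * a = 1 + a * b := by
  have hUU : U * U = U + 1 := by
    rw [hU, mul_add, add_mul, add_mul, hX, ha, ha2, add_mul X 1 a, one_mul]
    simp only [add_assoc, add_comm, add_left_comm, two_self, two_cancel, add_zero, zero_add]
  have hm : br U (X + b) = a + b + (a * b + b * a) := by
    rw [br, hU]
    simp only [mul_add, add_mul, ha, hb, one_mul, add_assoc, add_comm, add_left_comm, two_self,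
      two_cancel, add_zero, zero_add]
  set s := a * b + b * a with hs
  have hsum : X + b + br U (X + b) = U + s := by
    rw [hm, hU]
    simp only [add_assoc, add_comm, add_left_comm, two_self, two_cancel, add_zero, zero_add]
  rw [hsum] at hgood
  rcases hgood with h | h | h | h
  · have h' : s = U := by
      rw [two_add_eq, add_comm]; exact h
    have hz : br U (X + b) = X + b := by
      rw [hm, h', hU]
      simp only [add_assoc, add_comm, add_left_comm, two_self, two_cancel, add_zero, zero_add]
    rw [hz] at hsq
    have hv : (X + b) * (X + b) = X + b + 1 := by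
      rw [mul_add, add_mul, add_mul, hX, hb, hb2, add_mul X 1 b, one_mul]
      simp only [add_assoc, add_comm, add_left_comm, two_self, two_cancel, add_zero, zero_add]
    rw [hsq] at hv
    have h1 : X + b = 1 := two_add_eq.2 hv.symm
    rw [h1, one_mul] at hsq
    have ht : ∀ z : R, z = 0 := fun z => by rw [← one_mul z, hsq, zero_mul]
    exact Or.inl ((ht _).trans (ht _).symm)
  · have h' : s = U + 1 := by
      rw [two_add_eq]
      calc s + (U + 1) = (U + s) + 1 := by abel
        _ = 0 := by rw [h, two_self]
    have hz : br U (X + b) = X + b + 1 := by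
      rw [hm, h', hU]
      simp only [add_assoc, add_comm, add_left_comm, two_self, two_cancel, add_zero, zero_add]
    rw [hz] at hsq
    have hv : (X + b + 1) * (X + b + 1) = X + b := by
      simp only [mul_add, add_mul, mul_one, one_mul, hX, hb, hb2, add_assoc, add_comm,
        add_left_comm, two_self, two_cancel, add_zero, zero_add]
    rw [hsq] at hv
    rw [← hv, zero_add, one_mul] at hsq
    have ht : ∀ z : R, z = 0 := fun z => by rw [← one_mul z, hsq, zero_mul]
    exact Or.inl ((ht _).trans (ht _).symm)
  · left
    rw [two_add_eq]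
    calc a * b + b * a = U + (U + s) := by rw [two_cancel]
      _ = 0 := by rw [h, two_self]
  · right
    have h' : s = 1 := by rw [← two_cancel U s, h, two_cancel]
    rw [← h', hs, add_comm (a * b) (b * a), add_assoc, two_self, add_zero]

end Cfsg.Agent.Spor.UniqueClass
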