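import Cfsg.Agent.Lib.Spor.UniqueClassPlane

/-!
The perturbations seen from one plane annihilate each other.
-/

set_option autoImplicit false
set_option linter.unusedSimpArgs false
set_option linter.unusedSectionVars false

namespace Cfsg.Agent.Spor.UniqueClass

section

variable {R : Type*} [Ring R] [TwoZero R]

theorem semi_cancel {X : R} (hX : X * X = X + 1) {u : R} :
    (X * u = 0 ↔ u = 0) ∧ ((X + 1) * u = 0 ↔ u = 0) := by
  obtain ⟨x1, x2⟩ := cube_inv hX
  refine ⟨⟨fun h => ?_, fun h => by rw [h, mul_zero]⟩, ⟨fun h => ?_, fun h => by rw [h, mul_zero]⟩⟩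
  · rw [← one_mul u, ← x2, mul_assoc, h, mul_zero]
  · rw [← one_mul u, ← x1, mul_assoc, h, mul_zero]

theorem cube_perturbed {x n : R} (hx : x * x = x + 1) (hn : n * x = (x + 1) * n) (hn2 : n * n = 0) :
    (x + n) * (x + n) = x + n + 1 := by
  rw [mul_add, add_mul, add_mul, hx, hn, hn2, add_mul x 1 n, one_mul]
  simp only [add_assoc, add_comm, add_left_comm, two_self, two_cancel, add_zero, zero_add]

/-- the two relations force the products to vanish -/
theorem two_relations {X n1 n2 : R} (h1 : (1 : R) ≠ 0) (hX : X * X = X + 1) (a2 : n1 * n1 = 0)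
    (hn1 : n1 * X = (X + 1) * n1)
    (r1 : (X + 1) * (n1 * n2) = X * (n2 * n1) ∨ X * (n2 * n1) = 1 + (X + 1) * (n1 * n2))
    (r2 : X * (n1 * n2) = (X + 1) * (n2 * n1) ∨ (X + 1) * (n2 * n1) = 1 + X * (n1 * n2)) :
    n1 * n2 = 0 ∧ n2 * n1 = 0 := by
  obtain ⟨x1, x2⟩ := cube_inv hX
  have xx : (X + 1) * (X + 1) = X := by rw [cube_succ hX, succ_succ]
  have hn0 : ∀ u : R, n1 * (n1 * u) = 0 := fun u => by rw [← mul_assoc, a2, zero_mul]
  have kill : n1 * n2 = 1 → False := fun h => by
    have h0 : n1 = 0 := by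
      calc n1 = n1 * (n1 * n2) := by rw [h, mul_one]
        _ = 0 := hn0 _
    exact h1 (by rw [← h, h0, zero_mul])
  have kill' : n1 * n2 = X → False := fun h => by
    have h0 : n1 = 0 := by
      have e : (X + 1) * n1 = 0 := by rw [← hn1, ← h, hn0]
      exact (semi_cancel hX).2.1 e
    rw [h0, zero_mul] at h
    exact cube_ne_zero hX h1 h.symm
  have kill'' : n1 * n2 = X + 1 → False := fun h => by
    have h0 : n1 = 0 := by
      have e : X * n1 = 0 := by rw [← semi_succ hn1, ← h, hn0]
      exact (semi_cancel hX).1.1 e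
    rw [h0, zero_mul] at h
    exact cube_ne_zero (cube_succ hX) h1 h.symm
  rcases r1 with r1 | r1 <;> rcases r2 with r2 | r2
  · have e : n1 * n2 = n2 * n1 := by
      calc n1 * n2 = X * (n1 * n2) + (X + 1) * (n1 * n2) := by
            rw [← add_mul, two_cancel, one_mul]
        _ = (X + 1) * (n2 * n1) + X * (n2 * n1) := by rw [r1, r2]
        _ = n2 * n1 := by rw [← add_mul, add_comm (X + 1), two_cancel, one_mul]
    have z : n1 * n2 = 0 := by
      calc n1 * n2 = X * (n1 * n2) + (X + 1) * (n1 * n2) := by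
            rw [← add_mul, two_cancel, one_mul]
        _ = 0 := by rw [r1, ← e, two_self]
    exact ⟨z, e ▸ z⟩
  · have hq : n2 * n1 = X * (n1 * n2) := by
      calc n2 * n1 = (X + 1) * (X * (n2 * n1)) := by rw [← mul_assoc, x2, one_mul]
        _ = X * (n1 * n2) := by rw [← r1, ← mul_assoc, xx]
    rw [hq, ← mul_assoc, x2, one_mul] at r2
    exfalso; apply kill'
    have e : (X + 1) * (n1 * n2) = 1 := by
      rw [add_mul, one_mul]
      calc X * (n1 * n2) + n1 * n2 = X * (n1 * n2) + (1 + X * (n1 * n2)) := by rw [← r2]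
        _ = 1 := by rw [add_left_comm, two_self, add_zero]
    calc n1 * n2 = X * ((X + 1) * (n1 * n2)) := by rw [← mul_assoc, x1, one_mul]
      _ = X := by rw [e, mul_one]
  · have hq : n2 * n1 = (X + 1) * (n1 * n2) := by
      calc n2 * n1 = X * ((X + 1) * (n2 * n1)) := by rw [← mul_assoc, x1, one_mul]
        _ = (X + 1) * (n1 * n2) := by rw [← r2, ← mul_assoc, hX]
    rw [hq, ← mul_assoc, x1, one_mul] at r1
    exfalso; apply kill''
    have e : X * (n1 * n2) = 1 := by
      calc X * (n1 * n2) = (X + 1) * (n1 * n2) + n1 * n2 := by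
            rw [add_mul, one_mul, add_assoc, two_self, add_zero]
        _ = (X + 1) * (n1 * n2) + (1 + (X + 1) * (n1 * n2)) := by rw [← r1]
        _ = 1 := by rw [add_left_comm, two_self, add_zero]
    calc n1 * n2 = (X + 1) * (X * (n1 * n2)) := by rw [← mul_assoc, x2, one_mul]
      _ = X + 1 := by rw [e, mul_one]
  · have hq : n2 * n1 = n1 * n2 := by
      calc n2 * n1 = X * (n2 * n1) + (X + 1) * (n2 * n1) := by
            rw [← add_mul, two_cancel, one_mul]
        _ = (1 + (X + 1) * (n1 * n2)) + (1 + X * (n1 * n2)) := by rw [r1, r2]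
        _ = n1 * n2 := by
            simp only [add_mul, one_mul, add_assoc, add_comm, add_left_comm, two_self, two_cancel,
              add_zero, zero_add]
    rw [hq] at r1
    exfalso; apply kill
    calc n1 * n2 = X * (n1 * n2) + (X + 1) * (n1 * n2) := by
          rw [← add_mul, two_cancel, one_mul]
      _ = 1 := by rw [r1, add_assoc, two_self, add_zero]

theorem kill_left {x c n m : R} (hn : n * x = (x + 1) * n) (hc : Scalar x c) (h : n * m = 0) :
    n * (c * m) = 0 := by
  obtain ⟨c', -, e, -⟩ := semi_scalar hn hc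
  rw [← mul_assoc, e, mul_assoc, h, mul_zero]

theorem scalar_unit {X c : R} (hX : X * X = X + 1) (hc : c = X ∨ c = X + 1) {u : R}
    (h : c * u = 0) : u = 0 :=
  hc.elim (fun e => (semi_cancel hX).1.1 (e ▸ h)) fun e => (semi_cancel hX).2.1 (e ▸ h)

theorem pull_scalar {x c d n m : R} (hX : x * x = x + 1) (hn : n * x = (x + 1) * n)
    (hc : c = x ∨ c = x + 1) (hd : d = x ∨ d = x + 1) (h : c * n * (d * m) = 0) : n * m = 0 := by
  have h0 := scalar_unit hX hc (by rw [← mul_assoc]; exact h)
  rcases hd with e | e <;> rw [e, ← mul_assoc] at h0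
  · rw [hn, mul_assoc] at h0
    exact (semi_cancel hX).2.1 h0
  · rw [semi_succ hn, mul_assoc] at h0
    exact (semi_cancel hX).1.1 h0

end

variable {M : Type*} [AddCommGroup M] [TwoGroup M] {T : Set (AddMonoid.End M)}
variable (hT : Sys T) {a : AddMonoid.End M} (ha : a ∈ T)
include hT ha

theorem Plane.base {h f : AddMonoid.End M} (hP : Plane T a h f) {g g' : AddMonoid.End M}
    (hg : Nb T a g) (hg' : Nb T a g') (h0 : lp a f g = 0) (h0' : lp a h g' = 0) :
    br (lp a h f) (lp a h g) * br (lp a h f) (lp a f g') = 0 ∧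
      br (lp a h f) (lp a f g') * br (lp a h f) (lp a h g) = 0 := by
  have h1 := corner_nontrivial (hT.nz a ha)
  have hA := hP.against hT ha hg
  have hA' := hP.against hT ha hg'
  have hX := hP.cub
  have hP' := hP.flip hT ha
  have e1 : lp a (mv a h) f = lp a h f + 1 := lp_flip_left hT ha hP.hh hP.hf
  set X := lp a h f with hXdef
  set n1 := br X (lp a h g) with hn1def
  set n2 := br X (lp a f g') with hn2def
  rcases hA.zerod h0 with he | he
  swap
  · rw [← hn1def] at he
    rw [he, zero_mul, mul_zero]; exact ⟨rfl, rfl⟩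
  rcases hA'.zeroe h0' with hd | hd
  swap
  · rw [← hn2def] at hd
    rw [hd, zero_mul, mul_zero]; exact ⟨rfl, rfl⟩
  rw [← hn1def] at he
  rw [← hn2def] at hd
  have s1 : n1 * X = (X + 1) * n1 := br_conj hX _
  have s2 : n2 * X = (X + 1) * n2 := br_conj hX _
  have q1 : n1 * n1 = 0 := hA.goode.2
  have q2 : n2 * n2 = 0 := hA'.goodd.2
  have hX' := cube_succ hX
  have xx : (X + 1) * (X + 1) = X := by rw [hX', succ_succ]
  obtain ⟨x1, x2⟩ := cube_inv hX
  have sX : ∀ (c n : Corner a), (c = X ∨ c = X + 1) → n * X = (X + 1) * n → n * n = 0 →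
      (c * n) * X = (X + 1) * (c * n) ∧ (c * n) * (c * n) = 0 := by
    intro c n hc hs hn
    have hcs : Scalar X c := hc.elim (fun h => Or.inr (Or.inr (Or.inl h))) fun h => Or.inr (Or.inr (Or.inr h))
    refine ⟨semi_mul (scalar_comm hcs) hs, ?_⟩
    rw [mul_assoc, kill_left hs hcs hn, mul_zero]
  obtain ⟨sa, qa⟩ := sX X n1 (Or.inl rfl) s1 q1
  obtain ⟨sb, qb⟩ := sX (X + 1) n2 (Or.inr rfl) s2 q2
  obtain ⟨sa', qa'⟩ := sX (X + 1) n1 (Or.inr rfl) s1 q1
  obtain ⟨sb', qb'⟩ := sX X n2 (Or.inl rfl) s2 q2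
  refine two_relations h1 hX q1 s1 ?_ ?_
  · have hy := hP.line_nb hT ha
    have r1 : lp a (mv f h) g = X + 1 + X * n1 := by
      rw [lp_third_left hT ha hP.hf hP.hh hX, h0, he, mul_zero, add_zero, mul_add, hX]
    have r2 : lp a (mv f h) g' = X + (X + 1) * n2 := by
      rw [lp_third_left hT ha hP.hf hP.hh hX, h0', hd, mul_zero, zero_add, mul_add (X + 1), xx]
    have cyg : lp a (mv f h) g * lp a (mv f h) g = lp a (mv f h) g + 1 := by
      rw [r1]
      refine cube_perturbed hX' ?_ qa
      rw [succ_succ]; exact semi_succ sa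
    have hgy : lp a g (mv f h) = X + X * n1 := by
      rw [(lp_cubic hT ha hy hg cyg).2.1, r1]
      simp only [add_assoc, add_comm, add_left_comm, two_self, two_cancel, add_zero, zero_add]
    have hQ : Plane T a g (mv f h) := ⟨hg, hy, lp_symm_cubic hT ha hy hg cyg⟩
    have hG := (hQ.against hT ha hg').goodd
    rw [hgy, r2] at hG
    have rel := perturbed hX rfl sa qa qb sb hG.1 hG.2
    have e_ab : X * n1 * ((X + 1) * n2) = (X + 1) * (n1 * n2) := by
      rw [mul_assoc, ← mul_assoc n1, semi_succ s1, ← mul_assoc, ← mul_assoc, hX, ← mul_assoc]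
    have e_ba : (X + 1) * n2 * (X * n1) = X * (n2 * n1) := by
      rw [mul_assoc, ← mul_assoc n2, s2, ← mul_assoc, ← mul_assoc, xx, ← mul_assoc]
    rwa [e_ab, e_ba] at rel
  · have hy := hP'.line_nb hT ha
    have k1 : lp a (mv a h) g = lp a h g + 1 := lp_flip_left hT ha hP.hh hg
    have k2 : lp a (mv a h) g' = lp a h g' + 1 := lp_flip_left hT ha hP.hh hg'
    have r1 : lp a (mv f (mv a h)) g = X + (X + 1) * n1 := by
      rw [lp_third_left hT ha hP'.hf hP'.hh hP'.cub, h0, k1, e1, he, mul_zero, add_zero,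
        add_right_comm X n1 1, mul_add (X + 1), xx]
    have r2 : lp a (mv f (mv a h)) g' = X + X * n2 := by
      rw [lp_third_left hT ha hP'.hf hP'.hh hP'.cub, k2, h0', e1, hd, succ_succ, zero_add, mul_one]
      simp only [mul_add, mul_one, hX, add_assoc, add_comm, add_left_comm, two_self, two_cancel,
        add_zero, zero_add]
    have cyg : lp a (mv f (mv a h)) g * lp a (mv f (mv a h)) g =
        lp a (mv f (mv a h)) g + 1 := by
      rw [r1]; exact cube_perturbed hX sa' qa'
    have hgy : lp a g (mv f (mv a h)) = X + 1 + (X + 1) * n1 := by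
      rw [(lp_cubic hT ha hy hg cyg).2.1, r1, add_right_comm]
    have hQ : Plane T a g (mv f (mv a h)) := ⟨hg, hy, lp_symm_cubic hT ha hy hg cyg⟩
    have hG := good_plus_one (hQ.against hT ha hg').goodd
    rw [hgy, r2, add_right_comm X (X * n2) 1] at hG
    have rel := perturbed hX' rfl (by rw [succ_succ]; exact semi_succ sa') qa' qb'
      (by rw [succ_succ]; exact semi_succ sb') hG.1 hG.2
    have e_ab : (X + 1) * n1 * (X * n2) = X * (n1 * n2) := by
      rw [mul_assoc, ← mul_assoc n1, s1, ← mul_assoc, ← mul_assoc, xx, ← mul_assoc]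
    have e_ba : X * n2 * ((X + 1) * n1) = (X + 1) * (n2 * n1) := by
      rw [mul_assoc, ← mul_assoc n2, semi_succ s2, ← mul_assoc, ← mul_assoc, hX, ← mul_assoc]
    rwa [e_ab, e_ba] at rel

/-- `n` annihilates all perturbations seen from the plane -/
def Kill (T : Set (AddMonoid.End M)) (a : AddMonoid.End M) (X : Corner a) (h f : AddMonoid.End M)
    (n : Corner a) : Prop :=
  ∀ g, Nb T a g →
    n * br X (lp a h g) = 0 ∧ br X (lp a h g) * n = 0 ∧
      n * br X (lp a f g) = 0 ∧ br X (lp a f g) * n = 0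

theorem br_change {X Y : Corner a} (h : Y = X ∨ Y = X + 1) (v : Corner a) : br Y v = br X v :=
  h.elim (fun e => e ▸ rfl) fun e => e ▸ br_succ X v

theorem Plane.fam_f {h f : AddMonoid.End M} (hP : Plane T a h f) {g : AddMonoid.End M}
    (hg : Nb T a g) (h0 : Flat (lp a f g)) :
    Kill T a (lp a h f) h f (br (lp a h f) (lp a h g)) := by
  wlog h00 : lp a f g = 0 generalizing g
  · have hg' := hg.flip hT ha
    have e1 : lp a f (mv a g) = lp a f g + 1 := lp_flip_right hT ha hP.hf hg
    have e2 : lp a h (mv a g) = lp a h g + 1 := lp_flip_right hT ha hP.hh hg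
    have hz : lp a f (mv a g) = 0 := by
      rw [e1, h0.resolve_left h00, two_self]
    have := this hg' (Or.inl hz) hz
    rwa [e2, br_plus_one] at this
  intro g' hg'
  have hX := hP.cub
  have hy := hP.line_nb hT ha
  have hP' := hP.flip hT ha
  have hy2 := hP'.line_nb hT ha
  have e1 : lp a (mv a h) f = lp a h f + 1 := lp_flip_left hT ha hP.hh hP.hf
  set X := lp a h f with hXdef
  obtain ⟨x1, x2⟩ := cube_inv hX
  have xx : (X + 1) * (X + 1) = X := by rw [cube_succ hX, succ_succ]
  set n := br X (lp a h g) with hn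
  have sn : n * X = (X + 1) * n := br_conj hX _
  -- two members with proportional values
  set u := br X (lp a h g') with hu
  set w := br X (lp a f g') with hw
  have su : u * X = (X + 1) * u := br_conj hX _
  have sw : w * X = (X + 1) * w := br_conj hX _
  have ty : ∀ k, br X (lp a (mv f h) k) =
      X * br X (lp a h k) + (X + 1) * br X (lp a f k) := fun k => by
    rw [lp_third_left hT ha hP.hf hP.hh hX, br_add, br_left rfl,
      br_left (scalar_comm (Or.inr (Or.inr (Or.inr rfl))))]
  have ty2 : ∀ k, Nb T a k → br X (lp a (mv f (mv a h)) k) =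
      (X + 1) * br X (lp a h k) + X * br X (lp a f k) := fun k hk => by
    rw [lp_third_left hT ha hP'.hf hP'.hh hP'.cub, e1, succ_succ,
      lp_flip_left hT ha hP.hh hk, br_add, br_left rfl,
      br_left (scalar_comm (Or.inr (Or.inr (Or.inr rfl)))), br_plus_one]
  have gy : br X (lp a (mv f h) g) = X * n := by
    rw [ty, h00, br_zero, mul_zero, add_zero]
  have gy2 : br X (lp a (mv f (mv a h)) g) = (X + 1) * n := by
    rw [ty2 g hg, h00, br_zero, mul_zero, add_zero]
  have yf : lp a (mv f h) f = X + 1 := by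
    rw [lp_third_left hT ha hP.hf hP.hh hX, lp_self hT ha hP.hf, mul_zero, add_zero, hX]
  have y2f : lp a (mv f (mv a h)) f = X := by
    rw [lp_third_left hT ha hP'.hf hP'.hh hP'.cub, lp_self hT ha hP.hf, mul_zero, add_zero, e1, xx]
  have line := (hP.against hT ha hg').line
  rcases line with hl | hl | hl | hl
  · -- the line through `f`
    have w0 : w = 0 := (good_of_flat X hl).2
    suffices h : n * u = 0 ∧ u * n = 0 from
      ⟨h.1, h.2, by rw [w0, mul_zero], by rw [w0, zero_mul]⟩
    rcases small_cases (lp_small hT ha hP.hh hg') with fe | ce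
    · rw [hu, (good_of_flat X fe).2, mul_zero, zero_mul]; exact ⟨rfl, rfl⟩
    obtain ⟨hadj, hgh, -⟩ := lp_cubic hT ha hP.hh hg' ce
    have hz : ∃ k₀, Nb T a k₀ ∧ lp a f k₀ = 0 ∧ lp a h k₀ * lp a h k₀ = lp a h k₀ + 1 ∧
        br X (lp a h k₀) = u := by
      rcases hl with hl | hl
      · exact ⟨g', hg', hl, ce, rfl⟩
      · refine ⟨mv a g', hg'.flip hT ha, by rw [lp_flip_right hT ha hP.hf hg', hl, two_self], ?_, ?_⟩
        · rw [lp_flip_right hT ha hP.hh hg']; exact cube_succ ce
        · rw [lp_flip_right hT ha hP.hh hg', br_plus_one]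
    obtain ⟨k₀, hk₀, z0, ck, uk⟩ := hz
    obtain ⟨hadj0, hk0h, hkn⟩ := lp_cubic hT ha hP.hh hk₀ ck
    have ck' := lp_symm_cubic hT ha hP.hh hk₀ ck
    have kz : ∀ z, lp a z (mv h k₀) =
        lp a z k₀ * lp a h k₀ + lp a z h * (lp a h k₀ + 1) := fun z => by
      rw [lp_third_right hT ha hP.hh hk₀ ck', hk0h, succ_succ]
    have fh : lp a f h = X + 1 := (lp_cubic hT ha hP.hh hP.hf hX).2.1
    have k1 : lp a h (mv h k₀) = lp a h k₀ + 1 := by
      rw [kz, lp_self hT ha hP.hh, zero_mul, add_zero, ck]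
    have k2 : lp a f (mv h k₀) = (X + 1) * (lp a h k₀ + 1) := by
      rw [kz, z0, zero_mul, zero_add, fh]
    have k3 : lp a (mv f h) (mv h k₀) = 0 := by
      rw [lp_third_left hT ha hP.hf hP.hh hX, k1, k2, ← mul_assoc, xx, two_self]
    have k4 : br X (lp a f (mv h k₀)) = (X + 1) * u := by
      rw [k2, br_left (scalar_comm (Or.inr (Or.inr (Or.inr rfl)))), br_plus_one, uk]
    have hPy : Plane T a (mv f h) f := ⟨hy, hP.hf, by rw [yf]; exact cube_succ hX⟩
    obtain ⟨b1, b2⟩ := hPy.base hT ha hg hkn h00 k3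
    rw [yf, br_succ, br_succ, gy, k4] at b1 b2
    exact ⟨pull_scalar hX sn (Or.inl rfl) (Or.inr rfl) b1,
      pull_scalar hX su (Or.inr rfl) (Or.inl rfl) b2⟩
  · -- the line through `h`
    have u0 : u = 0 := (good_of_flat X hl).2
    suffices h : n * w = 0 ∧ w * n = 0 from ⟨by rw [u0, mul_zero], by rw [u0, zero_mul], h⟩
    have hz : ∃ k, Nb T a k ∧ lp a h k = 0 ∧ br X (lp a f k) = w := by
      rcases hl with hl | hl
      · exact ⟨g', hg', hl, rfl⟩
      · exact ⟨mv a g', hg'.flip hT ha, by rw [lp_flip_right hT ha hP.hh hg', hl, two_self],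
          by rw [lp_flip_right hT ha hP.hf hg', br_plus_one]⟩
    obtain ⟨k, hk, z0, wk⟩ := hz
    obtain ⟨b1, b2⟩ := hP.base hT ha hg hk h00 z0
    rw [← hXdef, wk] at b1 b2
    exact ⟨b1, b2⟩
  · -- the line through `mv f h`
    rw [← lp_third_left hT ha hP.hf hP.hh hX] at hl
    have v0 : X * u + (X + 1) * w = 0 := by rw [← ty, (good_of_flat X hl).2]
    have hz : ∃ k, Nb T a k ∧ lp a (mv f h) k = 0 ∧ br X (lp a f k) = w := by
      rcases hl with hl | hl
      · exact ⟨g', hg', hl, rfl⟩
      · exact ⟨mv a g', hg'.flip hT ha, by rw [lp_flip_right hT ha hy hg', hl, two_self],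
          by rw [lp_flip_right hT ha hP.hf hg', br_plus_one]⟩
    obtain ⟨k, hk, z0, wk⟩ := hz
    have hPy : Plane T a (mv f h) f := ⟨hy, hP.hf, by rw [yf]; exact cube_succ hX⟩
    obtain ⟨b1, b2⟩ := hPy.base hT ha hg hk h00 z0
    rw [yf, br_succ, br_succ, gy, wk] at b1 b2
    have p1 : n * w = 0 := scalar_unit hX (Or.inl rfl) (by rw [← mul_assoc]; exact b1)
    have p2 : w * n = 0 := by
      refine (semi_cancel hX).2.1 ?_
      rw [← mul_assoc, ← sw, mul_assoc]; exact b2
    have eu : u = X * w := by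
      rw [← two_add_eq] at v0
      calc u = (X + 1) * (X * u) := by rw [← mul_assoc, x2, one_mul]
        _ = X * w := by rw [v0, ← mul_assoc, xx]
    exact ⟨by rw [eu]; exact kill_left sn (Or.inr (Or.inr (Or.inl rfl))) p1,
      by rw [eu, mul_assoc, p2, mul_zero], p1, p2⟩
  · -- the line through `mv f (mv a h)`
    have hq : lp a (mv f (mv a h)) g' = (X + 1) * (lp a h g' + 1) + X * lp a f g' := by
      rw [lp_third_left hT ha hP'.hf hP'.hh hP'.cub, e1, succ_succ, lp_flip_left hT ha hP.hh hg']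
    rw [← hq] at hl
    have v0 : (X + 1) * u + X * w = 0 := by rw [← ty2 g' hg', (good_of_flat X hl).2]
    have hz : ∃ k, Nb T a k ∧ lp a (mv f (mv a h)) k = 0 ∧ br X (lp a f k) = w := by
      rcases hl with hl | hl
      · exact ⟨g', hg', hl, rfl⟩
      · exact ⟨mv a g', hg'.flip hT ha, by rw [lp_flip_right hT ha hy2 hg', hl, two_self],
          by rw [lp_flip_right hT ha hP.hf hg', br_plus_one]⟩
    obtain ⟨k, hk, z0, wk⟩ := hz
    have hPy : Plane T a (mv f (mv a h)) f := ⟨hy2, hP.hf, by rw [y2f]; exact hX⟩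
    obtain ⟨b1, b2⟩ := hPy.base hT ha hg hk h00 z0
    rw [y2f, gy2, wk] at b1 b2
    have p1 : n * w = 0 := scalar_unit hX (Or.inr rfl) (by rw [← mul_assoc]; exact b1)
    have p2 : w * n = 0 := by
      refine (semi_cancel hX).1.1 ?_
      rw [← mul_assoc, ← semi_succ sw, mul_assoc]; exact b2
    have eu : u = (X + 1) * w := by
      rw [← two_add_eq] at v0
      calc u = X * ((X + 1) * u) := by rw [← mul_assoc, x1, one_mul]
        _ = (X + 1) * w := by rw [v0, ← mul_assoc, hX]
    exact ⟨by rw [eu]; exact kill_left sn (Or.inr (Or.inr (Or.inr rfl))) p1,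
      by rw [eu, mul_assoc, p2, mul_zero], p1, p2⟩

end Cfsg.Agent.Spor.UniqueClass
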