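import Cfsg.Agent.Lib.Spor.UniqueClassFamily

/-!
All perturbations at `a` annihilate each other; involutions in the ring of loops.
-/

set_option autoImplicit false
set_option linter.unusedSimpArgs false
set_option linter.unusedSectionVars false

namespace Cfsg.Agent.Spor.UniqueClass

variable {M : Type*} [AddCommGroup M] [TwoGroup M] {T : Set (AddMonoid.End M)}
variable {a : AddMonoid.End M}

theorem Kill.comb {X : Corner a} {h f : AddMonoid.End M} {n m : Corner a} {c d : Corner a}
    (sn : ∀ g, Nb T a g → br X (lp a h g) * X = (X + 1) * br X (lp a h g) ∧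
      br X (lp a f g) * X = (X + 1) * br X (lp a f g))
    (hc : Scalar X c) (hd : Scalar X d) (hn : Kill T a X h f n) (hm : Kill T a X h f m) :
    Kill T a X h f (c * n + d * m) := by
  intro g hg
  obtain ⟨n1, n2, n3, n4⟩ := hn g hg
  obtain ⟨m1, m2, m3, m4⟩ := hm g hg
  obtain ⟨s1, s2⟩ := sn g hg
  refine ⟨?_, ?_, ?_, ?_⟩
  · rw [add_mul, mul_assoc, n1, mul_assoc, m1, mul_zero, mul_zero, add_zero]
  · rw [mul_add, kill_left s1 hc n2, kill_left s1 hd m2, add_zero]
  · rw [add_mul, mul_assoc, n3, mul_assoc, m3, mul_zero, mul_zero, add_zero]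
  · rw [mul_add, kill_left s2 hc n4, kill_left s2 hd m4, add_zero]

section

variable (hT : Sys T) (ha : a ∈ T)
include hT ha

theorem Plane.semi {h f : AddMonoid.End M} (hP : Plane T a h f) :
    ∀ g, Nb T a g →
      br (lp a h f) (lp a h g) * lp a h f = (lp a h f + 1) * br (lp a h f) (lp a h g) ∧
      br (lp a h f) (lp a f g) * lp a h f = (lp a h f + 1) * br (lp a h f) (lp a f g) :=
  fun _ _ => ⟨br_conj hP.cub _, br_conj hP.cub _⟩

theorem scalar_three {X : Corner a} :
    Scalar X (0 : Corner a) ∧ Scalar X (1 : Corner a) ∧ Scalar X X ∧ Scalar X (X + 1) :=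
  ⟨Or.inl rfl, Or.inr (Or.inl rfl), Or.inr (Or.inr (Or.inl rfl)), Or.inr (Or.inr (Or.inr rfl))⟩

/-- values of the plane at a further member -/
theorem Plane.fam {h f : AddMonoid.End M} (hP : Plane T a h f) {g : AddMonoid.End M}
    (hg : Nb T a g) :
    Kill T a (lp a h f) h f (br (lp a h f) (lp a h g)) ∧
      Kill T a (lp a h f) h f (br (lp a h f) (lp a f g)) := by
  have hX := hP.cub
  have hP' := hP.flip hT ha
  have hy := hP.line_nb hT ha
  have hy2 := hP'.line_nb hT ha
  have e1 : lp a (mv a h) f = lp a h f + 1 := lp_flip_left hT ha hP.hh hP.hf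
  have fh : lp a f h = lp a h f + 1 := (lp_cubic hT ha hP.hh hP.hf hP.cub).2.1
  set X := lp a h f with hXdef
  obtain ⟨x1, x2⟩ := cube_inv hX
  have xx : (X + 1) * (X + 1) = X := by rw [cube_succ hX, succ_succ]
  obtain ⟨c0, c1, cX, cX'⟩ := scalar_three hT ha (X := X)
  set n := br X (lp a h g) with hn
  set m := br X (lp a f g) with hm
  have sn : n * X = (X + 1) * n := br_conj hX _
  have sm : m * X = (X + 1) * m := br_conj hX _
  have zero : Kill T a X h f (0 : Corner a) :=
    fun _ _ => ⟨zero_mul _, mul_zero _, zero_mul _, mul_zero _⟩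
  have hr : ∀ k, Nb T a k →
      lp a (mv f h) k = X * lp a h k + (X + 1) * lp a f k := fun k _ =>
    lp_third_left hT ha hP.hf hP.hh hX
  have hr2 : ∀ k, Nb T a k →
      lp a (mv f (mv a h)) k = (X + 1) * (lp a h k + 1) + X * lp a f k := fun k hk => by
    rw [lp_third_left hT ha hP'.hf hP'.hh hP'.cub, e1, succ_succ, lp_flip_left hT ha hP.hh hk]
  have ty : ∀ k, Nb T a k → br X (lp a (mv f h) k) =
      X * br X (lp a h k) + (X + 1) * br X (lp a f k) := fun k hk => by
    rw [hr k hk, br_add, br_left rfl, br_left (scalar_comm cX')]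
  have ty2 : ∀ k, Nb T a k → br X (lp a (mv f (mv a h)) k) =
      (X + 1) * br X (lp a h k) + X * br X (lp a f k) := fun k hk => by
    rw [hr2 k hk, br_add, br_left rfl, br_left (scalar_comm cX'), br_plus_one]
  rcases (hP.against hT ha hg).line with hl | hl | hl | hl
  · have m0 : m = 0 := (good_of_flat X hl).2
    exact ⟨hP.fam_f hT ha hg hl, by rw [m0]; exact zero⟩
  · have n0 : n = 0 := (good_of_flat X hl).2
    refine ⟨by rw [n0]; exact zero, ?_⟩
    have hQ : Plane T a f h := ⟨hP.hf, hP.hh, by rw [fh]; exact cube_succ hX⟩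
    have := hQ.fam_f hT ha hg hl
    rw [fh, br_succ] at this
    intro k hk
    obtain ⟨p1, p2, p3, p4⟩ := this k hk
    rw [br_succ] at p1 p2 p3 p4
    exact ⟨p3, p4, p1, p2⟩
  · rw [← hr g hg] at hl
    have v0 : X * n + (X + 1) * m = 0 := by rw [← ty g hg, (good_of_flat X hl).2]
    have hhy : lp a h (mv f h) = X + 1 := by
      rw [lp_third_right hT ha hP.hf hP.hh hX, ← hXdef, lp_self hT ha hP.hh, zero_mul, zero_add, hX]
    have hQ : Plane T a h (mv f h) := ⟨hP.hh, hy, by rw [hhy]; exact cube_succ hX⟩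
    have := hQ.fam_f hT ha hg hl
    rw [hhy, br_succ] at this
    have key : Kill T a X h f n := by
      intro k hk
      obtain ⟨p1, p2, p3, p4⟩ := this k hk
      rw [br_succ] at p1 p2 p3 p4
      rw [ty k hk] at p3 p4
      rw [mul_add, kill_left sn cX p1, zero_add] at p3
      rw [add_mul, mul_assoc X, p2, mul_zero, zero_add, mul_assoc] at p4
      refine ⟨p1, p2, ?_, (semi_cancel hX).2.1 p4⟩
      rw [← mul_assoc, semi_succ sn, mul_assoc] at p3
      exact (semi_cancel hX).1.1 p3
    refine ⟨key, ?_⟩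
    have em : m = (X + 1) * n := by
      rw [← two_add_eq] at v0
      calc m = X * ((X + 1) * m) := by rw [← mul_assoc, x1, one_mul]
        _ = (X + 1) * n := by rw [← v0, ← mul_assoc, hX]
    have := Kill.comb (hP.semi hT ha) cX' c0 key zero
    rwa [mul_zero, add_zero, ← em] at this
  · rw [← hr2 g hg] at hl
    have v0 : (X + 1) * n + X * m = 0 := by rw [← ty2 g hg, (good_of_flat X hl).2]
    have hhy : lp a h (mv f (mv a h)) = X + 1 := by
      rw [lp_third_right hT ha hP'.hf hP'.hh hP'.cub, e1, succ_succ, ← hXdef,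
        lp_flip_right hT ha hP.hh hP.hh, lp_self hT ha hP.hh, zero_add, one_mul, mul_add, hX,
        mul_one]
      simp only [add_assoc, add_comm, add_left_comm, two_self, two_cancel, add_zero, zero_add]
    have hQ : Plane T a h (mv f (mv a h)) := ⟨hP.hh, hy2, by rw [hhy]; exact cube_succ hX⟩
    have := hQ.fam_f hT ha hg hl
    rw [hhy, br_succ] at this
    have key : Kill T a X h f n := by
      intro k hk
      obtain ⟨p1, p2, p3, p4⟩ := this k hk
      rw [br_succ] at p1 p2 p3 p4
      rw [ty2 k hk] at p3 p4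
      rw [mul_add, kill_left sn cX' p1, zero_add] at p3
      rw [add_mul, mul_assoc (X + 1), p2, mul_zero, zero_add, mul_assoc] at p4
      refine ⟨p1, p2, ?_, (semi_cancel hX).1.1 p4⟩
      rw [← mul_assoc, sn, mul_assoc] at p3
      exact (semi_cancel hX).2.1 p3
    refine ⟨key, ?_⟩
    have em : m = X * n := by
      rw [← two_add_eq] at v0
      calc m = (X + 1) * (X * m) := by rw [← mul_assoc, x2, one_mul]
        _ = X * n := by rw [← v0, ← mul_assoc, xx]
    have := Kill.comb (hP.semi hT ha) cX c0 key zero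
    rwa [mul_zero, add_zero, ← em] at this

/-- a point of a plane, in coordinates -/
structure Pt (T : Set (AddMonoid.End M)) (a : AddMonoid.End M) (h f r : AddMonoid.End M) :
    Prop where
  nb : Nb T a r
  co : ∃ u w : Corner a, Scalar (lp a h f) u ∧ Scalar (lp a h f) w ∧
    (∀ k, Nb T a k → br (lp a h f) (lp a r k) =
      u * br (lp a h f) (lp a h k) + w * br (lp a h f) (lp a f k)) ∧
    (∀ k, Nb T a k → Good (lp a h f) (lp a r k))
  side : ∃ s, Nb T a s ∧ (lp a r s = lp a h f ∨ lp a r s = lp a h f + 1)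

theorem good_sum {X v w : Corner a} (hv : Good X v) (hw : Good X w)
    (z : br X v * br X w = 0) (z' : br X w * br X v = 0) : Good X (v + w) := by
  refine ⟨?_, ?_⟩
  · rw [br_add, add_add_add_comm]; exact scalar_add hv.1 hw.1
  · rw [br_add, mul_add, add_mul, add_mul, hv.2, hw.2, z, z', add_zero, add_zero]

theorem Plane.pts {h f : AddMonoid.End M} (hP : Plane T a h f) :
    Pt T a h f h ∧ Pt T a h f f ∧ Pt T a h f (mv f h) ∧ Pt T a h f (mv f (mv a h)) := by
  have hX := hP.cub
  have hP' := hP.flip hT ha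
  have e1 : lp a (mv a h) f = lp a h f + 1 := lp_flip_left hT ha hP.hh hP.hf
  have fh : lp a f h = lp a h f + 1 := (lp_cubic hT ha hP.hh hP.hf hP.cub).2.1
  set X := lp a h f with hXdef
  obtain ⟨c0, c1, cX, cX'⟩ := scalar_three hT ha (X := X)
  have cross : ∀ (c d : Corner a), Scalar X c → Scalar X d → ∀ k, Nb T a k →
      br X (c * lp a h k) * br X (d * lp a f k) = 0 ∧
        br X (d * lp a f k) * br X (c * lp a h k) = 0 := by
    intro c d hc hd k hk
    obtain ⟨-, -, p3, p4⟩ := (hP.fam hT ha hk).1 k hk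
    rw [br_left (scalar_comm hc), br_left (scalar_comm hd), mul_assoc, mul_assoc]
    exact ⟨by rw [kill_left (br_conj hX _) hd p3, mul_zero],
      by rw [kill_left (br_conj hX _) hc p4, mul_zero]⟩
  refine ⟨⟨hP.hh, ⟨1, 0, c1, c0, fun k _ => by rw [one_mul, zero_mul, add_zero],
      fun k hk => (hP.against hT ha hk).goode⟩, f, hP.hf, Or.inl rfl⟩,
    ⟨hP.hf, ⟨0, 1, c0, c1, fun k _ => by rw [one_mul, zero_mul, zero_add],
      fun k hk => (hP.against hT ha hk).goodd⟩, h, hP.hh, Or.inr fh⟩,
    ⟨hP.line_nb hT ha, ⟨X, X + 1, cX, cX', ?_, ?_⟩, f, hP.hf, Or.inr ?_⟩,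
    ⟨hP'.line_nb hT ha, ⟨X + 1, X, cX', cX, ?_, ?_⟩, f, hP.hf, Or.inl ?_⟩⟩
  · intro k _
    rw [lp_third_left hT ha hP.hf hP.hh hX, br_add, br_left rfl, br_left (scalar_comm cX')]
  · intro k hk
    rw [lp_third_left hT ha hP.hf hP.hh hX]
    obtain ⟨z, z'⟩ := cross X (X + 1) cX cX' k hk
    exact good_sum hT ha (good_left hX cX (hP.against hT ha hk).goode)
      (good_left hX cX' (hP.against hT ha hk).goodd) z z'
  · rw [lp_third_left hT ha hP.hf hP.hh hX, lp_self hT ha hP.hf, mul_zero, add_zero, hX]
  · intro k hk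
    rw [lp_third_left hT ha hP'.hf hP'.hh hP'.cub, e1, succ_succ, lp_flip_left hT ha hP.hh hk,
      br_add, br_left rfl, br_left (scalar_comm cX'), br_plus_one]
  · intro k hk
    rw [lp_third_left hT ha hP'.hf hP'.hh hP'.cub, e1, succ_succ, lp_flip_left hT ha hP.hh hk]
    obtain ⟨z, z'⟩ := cross (X + 1) X cX' cX k hk
    have : br X ((X + 1) * (lp a h k + 1)) = br X ((X + 1) * lp a h k) := by
      rw [mul_add (X + 1), mul_one, br_add, br_scalar cX', add_zero]
    refine good_sum hT ha (good_left hX cX' (good_plus_one (hP.against hT ha hk).goode))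
      (good_left hX cX (hP.against hT ha hk).goodd) ?_ ?_ <;> rw [this]
    · exact z
    · exact z'
  · rw [lp_third_left hT ha hP'.hf hP'.hh hP'.cub, lp_self hT ha hP.hf, mul_zero, add_zero, e1,
      cube_succ hX, succ_succ]

/-- a loop cut at a point of the plane -/
theorem Plane.split {h f : AddMonoid.End M} (hP : Plane T a h f) {r g g' : AddMonoid.End M}
    (hr : Pt T a h f r) (hg : Nb T a g) (hg' : Nb T a g')
    (hc : lp a r g * lp a r g = lp a r g + 1) :
    ∃ (e k m : Corner a), (e = 0 ∨ e = 1) ∧ k = br (lp a h f) (lp a r g) ∧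
      m = br (lp a r g) (lp a g g') ∧ br (lp a h f) (lp a g g') = e * k + m ∧
      k * m = 0 ∧ m * k = 0 ∧ Good (lp a h f) (lp a g g') ∧
      (∀ k', Nb T a k' →
        m * br (lp a h f) (lp a r k') = 0 ∧ br (lp a h f) (lp a r k') * m = 0) := by
  have h1 := corner_nontrivial (hT.nz a ha)
  have hX := hP.cub
  obtain ⟨hnb, ⟨u, w, -, -, -, hgood⟩, s, hs, hside⟩ := hr
  set X := lp a h f with hXdef
  set v := lp a r g with hv
  have hgv := hgood g hg
  set k := br X v with hk
  set c := v + k with hc'
  have vk : v = c + k := by rw [hc', add_assoc, two_self, add_zero]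
  have sk : k * X = (X + 1) * k := br_conj hX _
  have hkk : k * k = 0 := hgv.2
  have hsc : Scalar X c := hgv.1
  have cX : c = X ∨ c = X + 1 := by
    rcases hsc with h0 | h0 | h0 | h0
    · exfalso
      rw [h0, zero_add] at vk
      rw [vk, hkk] at hc
      have : k = 1 := two_add_eq.2 hc.symm
      rw [this, one_mul] at hkk
      exact h1 hkk
    · exfalso
      rw [vk, h0] at hc
      have : (1 + k) * (1 + k) = 1 := by
        rw [mul_add, add_mul, add_mul, hkk, one_mul, mul_one, one_mul, add_zero, add_assoc,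
          two_self, add_zero]
      rw [this] at hc
      have hk1 : k = 1 := by
        rw [two_add_eq, add_comm]
        calc (1 : Corner a) + k = 1 + k + 1 + 1 := by rw [succ_succ]
          _ = 1 + 1 := by rw [← hc]
          _ = 0 := two_self 1
      rw [hk1, one_mul] at hkk
      exact h1 hkk
    · exact Or.inl h0
    · exact Or.inr h0
  have bch : ∀ z, br v z = br X z + (z * k + k * z) := fun z => by
    rw [vk, ← br_change hT ha cX z, br, br, mul_add, add_mul]
    abel
  have skc : k * c = (c + 1) * k := by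
    rcases cX with e | e <;> rw [e]
    · exact sk
    · rw [succ_succ]; exact semi_succ sk
  have brvX : br v X = k := by
    rw [bch, br_self, zero_add, sk, add_mul, one_mul, ← add_assoc, two_self, zero_add]
  have hQ : Plane T a r g := ⟨hnb, hg, hc⟩
  obtain ⟨-, fg⟩ := hQ.fam hT ha hg'
  set m := br v (lp a g g') with hm
  have sm : m * v = (v + 1) * m := br_conj hc _
  have e0 : br v (lp a r s) = k := by
    rcases hside with e | e <;> rw [e]
    · exact brvX
    · rw [br_plus_one, brvX]
  obtain ⟨km', km, -, -⟩ := fg s hs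
  rw [e0] at km km'
  have smc : m * c = (c + 1) * m := by
    calc m * c = m * c + m * k := by rw [km', add_zero]
      _ = (c + k + 1) * m := by rw [← mul_add, ← vk]; exact sm
      _ = (c + 1) * m := by rw [add_right_comm, add_mul (c + 1) k, km, add_zero]
  have smX : m * X = (X + 1) * m := by
    rcases cX with e | e <;> rw [e] at smc
    · exact smc
    · rw [succ_succ] at smc
      have := semi_succ (x := X + 1) (by rw [succ_succ]; exact smc)
      rwa [succ_succ] at this
  have hG := (hQ.against hT ha hg').goodd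
  set s' := lp a g g' + m with hs'
  have hsv : Scalar v s' := hG.1
  obtain ⟨e, t, he, ht, hst⟩ : ∃ e t : Corner a, (e = 0 ∨ e = 1) ∧ Scalar X t ∧ s' = t + e * k := by
    rcases hsv with e | e | e | e
    · exact ⟨0, 0, Or.inl rfl, Or.inl rfl, by rw [e, zero_mul, add_zero]⟩
    · exact ⟨0, 1, Or.inl rfl, Or.inr (Or.inl rfl), by rw [e, zero_mul, add_zero]⟩
    · exact ⟨1, c, Or.inr rfl, hsc, by rw [e, one_mul, vk]⟩
    · exact ⟨1, c + 1, Or.inr rfl, scalar_add hsc (Or.inr (Or.inl rfl)),
        by rw [e, one_mul, vk, add_right_comm]⟩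
  have hZ : lp a g g' = t + (e * k + m) := by
    rw [← add_assoc, ← hst, hs', add_assoc, two_self, add_zero]
  have se : (e * k + m) * X = (X + 1) * (e * k + m) := by
    have hec : e * X = X * e := by rcases he with r | r <;> simp [r]
    rw [add_mul, mul_add, semi_mul hec sk, smX]
  have hbZ : br X (lp a g g') = e * k + m := by
    rw [hZ, br_add, br_scalar ht, zero_add, br_of_semi se]
  refine ⟨e, k, m, he, rfl, rfl, hbZ, km, km', ?_, ?_⟩
  · refine ⟨?_, ?_⟩
    · rw [hbZ, hZ, add_assoc, two_self, add_zero]; exact ht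
    · rw [hbZ]
      rcases he with r | r <;> simp only [r, zero_mul, one_mul, zero_add]
      · exact hG.2
      · rw [mul_add, add_mul, add_mul, hkk, km, km', show m * m = 0 from hG.2, add_zero, add_zero]
  · intro k' hk'
    obtain ⟨p1, p2, -, -⟩ := fg k' hk'
    set z := lp a r k' with hz
    set tz := br X z with htz
    have hgz := hgood k' hk'
    have ztz : z = (z + tz) + tz := by rw [add_assoc, two_self, add_zero]
    have kt : k * tz = 0 ∧ tz * k = 0 := by
      obtain ⟨fr, -⟩ := hQ.fam hT ha hk'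
      obtain ⟨q1, q2, -, -⟩ := fr s hs
      rw [e0] at q1 q2
      have hzv : br v z = tz + (z * k + k * z) := bch z
      obtain ⟨c', hc1, hc2, hc3⟩ := semi_scalar sk hgz.1
      have hsum : z * k + k * z = (z + tz + c') * k + (tz * k + k * tz) := by
        conv_lhs => rw [ztz]
        rw [add_mul, mul_add, hc2, add_mul (z + tz) c' k]
        abel
      have szk : tz * X = (X + 1) * tz := br_conj hX _
      rw [hzv, hsum] at q1 q2
      have hd : z + tz + c' = 0 ∨ z + tz + c' = 1 := hc3
      have k3 : ∀ y : Corner a, k * (k * y) = 0 := fun y => by rw [← mul_assoc, hkk, zero_mul]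
      have hA : tz * k + k * (tz * k) = 0 := by
        rcases hd with r | r <;> rw [r] at q1 <;>
          simpa only [add_mul, mul_add, zero_mul, one_mul, mul_assoc, hkk, mul_zero, add_zero,
            zero_add] using q1
      have hB : k * tz + k * (tz * k) = 0 := by
        rcases hd with r | r <;> rw [r] at q2 <;>
          simpa only [add_mul, mul_add, zero_mul, one_mul, mul_assoc, hkk, k3, mul_zero, add_zero,
            zero_add] using q2
      have hC : k * (tz * k) = 0 := by
        have := congrArg (fun y => k * y) hA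
        simpa only [mul_add, k3, add_zero, mul_zero] using this
      rw [hC, add_zero] at hA hB
      exact ⟨hB, hA⟩
    obtain ⟨c', hc1, hc2, hc3⟩ := semi_scalar sk hgz.1
    have hsum : br v z = tz + (z + tz + c') * k := by
      rw [bch]
      congr 1
      conv_lhs => rw [ztz]
      rw [add_mul, mul_add, hc2, add_mul (z + tz) c' k, kt.1, kt.2]
      simp only [add_zero]
    have hss : ∀ x : Corner a, x * (z + tz + c') = (z + tz + c') * x := fun x => by
      rcases hc3 with r | r <;> rw [r] <;> simp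
    rw [hsum] at p1 p2
    constructor
    · rwa [mul_add, ← mul_assoc m, hss, mul_assoc, km', mul_zero, add_zero] at p1
    · rwa [add_mul, mul_assoc (z + tz + c'), km, mul_zero, add_zero] at p2

/-- a loop is good and its perturbation is killed by the plane -/
theorem Plane.loops {h f : AddMonoid.End M} (hP : Plane T a h f) {g g' : AddMonoid.End M}
    (hg : Nb T a g) (hg' : Nb T a g') :
    Good (lp a h f) (lp a g g') ∧
      Kill T a (lp a h f) h f (br (lp a h f) (lp a g g')) := by
  have hX := hP.cub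
  obtain ⟨ph, pf, py, py2⟩ := hP.pts hT ha
  have hP' := hP.flip hT ha
  have e1 : lp a (mv a h) f = lp a h f + 1 := lp_flip_left hT ha hP.hh hP.hf
  set X := lp a h f with hXdef
  obtain ⟨x1, x2⟩ := cube_inv hX
  have xx : (X + 1) * (X + 1) = X := by rw [cube_succ hX, succ_succ]
  obtain ⟨c0, c1, cX, cX'⟩ := scalar_three hT ha (X := X)
  have hr : ∀ k, Nb T a k →
      lp a (mv f h) k = X * lp a h k + (X + 1) * lp a f k := fun k _ =>
    lp_third_left hT ha hP.hf hP.hh hX
  have hr2 : ∀ k, Nb T a k →
      lp a (mv f (mv a h)) k = (X + 1) * (lp a h k + 1) + X * lp a f k := fun k hk => by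
    rw [lp_third_left hT ha hP'.hf hP'.hh hP'.cub, e1, succ_succ, lp_flip_left hT ha hP.hh hk]
  -- every member has a cubic value on the plane
  let Four := fun r => r = h ∨ r = f ∨ r = mv f h ∨ r = mv f (mv a h)
  have some_cubic : ∀ k, Nb T a k →
      ∃ r, (Pt T a h f r ∧ Four r) ∧ lp a r k * lp a r k = lp a r k + 1 := by
    intro k hk
    rcases small_cases (lp_small hT ha hP.hh hk) with e | e
    swap
    · exact ⟨h, ⟨ph, Or.inl rfl⟩, e⟩
    rcases small_cases (lp_small hT ha hP.hf hk) with d | d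
    swap
    · exact ⟨f, ⟨pf, Or.inr (Or.inl rfl)⟩, d⟩
    by_cases hde : lp a f k = lp a h k
    · refine ⟨mv f (mv a h), ⟨py2, Or.inr (Or.inr (Or.inr rfl))⟩, ?_⟩
      rw [hr2 k hk, hde]
      rcases e with e | e <;> rw [e]
      · rw [zero_add, mul_one, mul_zero, add_zero]; exact cube_succ hX
      · rw [two_self, mul_zero, zero_add, mul_one]; exact hX
    · refine ⟨mv f h, ⟨py, Or.inr (Or.inr (Or.inl rfl))⟩, ?_⟩
      rw [hr k hk]
      rcases e with e | e <;> rcases d with d | d <;> rw [e, d] at hde ⊢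
      · exact absurd rfl hde
      · rw [mul_zero, zero_add, mul_one]; exact cube_succ hX
      · rw [mul_one, mul_zero, add_zero]; exact hX
      · exact absurd rfl hde
  obtain ⟨r₀, ⟨hr₀, hm₀⟩, hc₀⟩ := some_cubic g hg
  obtain ⟨r₁, ⟨hr₁, hm₁⟩, hc₁⟩ := some_cubic g' hg'
  obtain ⟨_, _, _, -, -, -, -, -, -, hGood, -⟩ := hP.split hT ha hr₀ hg hg' hc₀
  refine ⟨hGood, ?_⟩
  set B := br X (lp a g g') with hB
  have sB : B * X = (X + 1) * B := br_conj hX _
  -- a point seeing one of the two ends
  have seen : ∀ r, Pt T a h f r →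
      (lp a r g * lp a r g = lp a r g + 1 ∨ lp a r g' * lp a r g' = lp a r g' + 1) →
      ∀ k, Nb T a k → B * br X (lp a r k) = 0 ∧ br X (lp a r k) * B = 0 := by
    have one : ∀ g g', Nb T a g → Nb T a g' → ∀ r, Pt T a h f r →
        lp a r g * lp a r g = lp a r g + 1 → ∀ k, Nb T a k →
        br X (lp a g g') * br X (lp a r k) = 0 ∧ br X (lp a r k) * br X (lp a g g') = 0 := by
      intro g g' hg hg' r hr hc k hk
      obtain ⟨e, k₀, m, he, hk₀, -, hb, -, -, -, hm⟩ := hP.split hT ha hr hg hg' hc
      obtain ⟨m1, m2⟩ := hm k hk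
      obtain ⟨u, w, hu, hw, hco, -⟩ := hr.co
      have kk : k₀ * br X (lp a r k) = 0 ∧ br X (lp a r k) * k₀ = 0 := by
        have := Kill.comb (hP.semi hT ha) hu hw (hP.fam hT ha hg).1 (hP.fam hT ha hg).2
        rw [← hco g hg, ← hk₀] at this
        obtain ⟨p1, p2, p3, p4⟩ := this k hk
        have sk₀ : k₀ * X = (X + 1) * k₀ := hk₀ ▸ br_conj hX _
        rw [hco k hk, mul_add, kill_left sk₀ hu p1, kill_left sk₀ hw p3, add_zero, add_mul,
          mul_assoc, p2, mul_assoc, p4, mul_zero, mul_zero, add_zero]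
        exact ⟨rfl, rfl⟩
      rw [hb]
      rcases he with r | r <;> simp only [r, zero_mul, one_mul, zero_add]
      · exact ⟨m1, m2⟩
      · rw [add_mul, mul_add, m1, m2, kk.1, kk.2, add_zero]
        exact ⟨rfl, rfl⟩
    intro r hr hc k hk
    rcases hc with hc | hc
    · exact one g g' hg hg' r hr hc k hk
    · have := one g' g hg' hg r hr hc k hk
      rwa [lp_br_symm hT ha hg hg' X] at this
  -- combining two points
  have build : ∀ (u w u' w' : Corner a) (p q : AddMonoid.End M), Scalar X u → Scalar X w →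
      Scalar X u' → Scalar X w' →
      (∀ k, Nb T a k → B * br X (lp a p k) = 0 ∧ br X (lp a p k) * B = 0) →
      (∀ k, Nb T a k → B * br X (lp a q k) = 0 ∧ br X (lp a q k) * B = 0) →
      (∀ k, Nb T a k → br X (lp a h k) = u * br X (lp a p k) + w * br X (lp a q k)) →
      (∀ k, Nb T a k → br X (lp a f k) = u' * br X (lp a p k) + w' * br X (lp a q k)) →
      Kill T a X h f B := by
    intro u w u' w' p q hu hw hu' hw' hp hq e e' k hk
    obtain ⟨p1, p2⟩ := hp k hk
    obtain ⟨q1, q2⟩ := hq k hk
    rw [e k hk, e' k hk]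
    refine ⟨?_, ?_, ?_, ?_⟩
    · rw [mul_add, kill_left sB hu p1, kill_left sB hw q1, add_zero]
    · rw [add_mul, mul_assoc, p2, mul_assoc, q2, mul_zero, mul_zero, add_zero]
    · rw [mul_add, kill_left sB hu' p1, kill_left sB hw' q1, add_zero]
    · rw [add_mul, mul_assoc, p2, mul_assoc, q2, mul_zero, mul_zero, add_zero]
  have ty : ∀ k, Nb T a k → br X (lp a (mv f h) k) =
      X * br X (lp a h k) + (X + 1) * br X (lp a f k) := fun k hk => by
    rw [hr k hk, br_add, br_left rfl, br_left (scalar_comm cX')]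
  have ty2 : ∀ k, Nb T a k → br X (lp a (mv f (mv a h)) k) =
      (X + 1) * br X (lp a h k) + X * br X (lp a f k) := fun k hk => by
    rw [hr2 k hk, br_add, br_left rfl, br_left (scalar_comm cX'), br_plus_one]
  let Sees := fun r => lp a r g * lp a r g = lp a r g + 1 ∨ lp a r g' * lp a r g' = lp a r g' + 1
  have unseen : ∀ r, Pt T a h f r → ¬ Sees r →
      br X (lp a r g) = 0 ∧ br X (lp a r g') = 0 := fun r hr hns =>
    ⟨(good_of_flat X ((small_cases (lp_small hT ha hr.nb hg)).resolve_right
        fun e => hns (Or.inl e))).2,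
      (good_of_flat X ((small_cases (lp_small hT ha hr.nb hg')).resolve_right
        fun e => hns (Or.inr e))).2⟩
  -- a single point seeing both ends
  have lonely : (∀ k, (k = g ∨ k = g') → br X (lp a h k) = 0 ∧ br X (lp a f k) = 0) →
      r₁ = r₀ → Kill T a X h f B := by
    intro hz hrr
    rw [hrr] at hc₁
    obtain ⟨e, k₀, m, he, hk₀, hm, hb, -⟩ := hP.split hT ha hr₀ hg hg' hc₀
    obtain ⟨u, w, -, -, hco, -⟩ := hr₀.co
    have k00 : k₀ = 0 := by
      rw [hk₀, hco g hg, (hz g (Or.inl rfl)).1, (hz g (Or.inl rfl)).2, mul_zero, mul_zero, add_zero]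
    have m0 : m = 0 := by
      rcases small_cases (lp_small hT ha hg hg') with fz | cz
      · rw [hm]; exact (good_of_flat _ fz).2
      · have hQ : Plane T a r₀ g := ⟨hr₀.nb, hg, hc₀⟩
        obtain ⟨c', -, hc'⟩ := (hQ.against hT ha hg').prop cz hc₁
        have hv : br (lp a r₀ g) (lp a r₀ g') = 0 := by
          obtain ⟨u, w, -, -, hco, hgd⟩ := hr₀.co
          have z1 : br X (lp a r₀ g) = 0 := hk₀ ▸ k00
          have z2 : br X (lp a r₀ g') = 0 := by
            rw [hco g' hg', (hz g' (Or.inr rfl)).1, (hz g' (Or.inr rfl)).2, mul_zero, mul_zero,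
              add_zero]
          have a1 := (hgd g hg).1
          have a2 := (hgd g' hg').1
          rw [z1, add_zero] at a1
          rw [z2, add_zero] at a2
          have hcomm : lp a r₀ g' * lp a r₀ g = lp a r₀ g * lp a r₀ g' := by
            have := scalar_comm a2
            rcases a1 with r | r | r | r <;> rw [r]
            · rw [zero_mul, mul_zero]
            · rw [one_mul, mul_one]
            · exact this
            · rw [mul_add, add_mul, mul_one, one_mul, this]
          rw [br, hcomm, two_self]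
        rw [hm, hc', hv, mul_zero]
    intro k hk
    show B * _ = 0 ∧ _ * B = 0 ∧ B * _ = 0 ∧ _ * B = 0
    have hB0 : B = 0 := hb.trans (by rw [k00, m0, mul_zero, add_zero])
    rw [hB0]
    exact ⟨zero_mul _, mul_zero _, zero_mul _, mul_zero _⟩
  by_cases sh : Sees h <;> by_cases sf : Sees f <;> by_cases sy : Sees (mv f h) <;>
    by_cases sy2 : Sees (mv f (mv a h))
  all_goals try
    exact build 1 0 0 1 h f c1 c0 c0 c1 (seen h ph sh) (seen f pf sf)
      (fun k _ => by rw [one_mul, zero_mul, add_zero]) fun k _ => by rw [one_mul, zero_mul, zero_add]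
  all_goals try
    refine build 1 0 (X + 1) X h (mv f h) c1 c0 cX' cX (seen h ph sh) (seen _ py sy)
      (fun k _ => by rw [one_mul, zero_mul, add_zero]) fun k hk => ?_
    rw [ty k hk, mul_add, ← mul_assoc X X, hX, ← mul_assoc X (X + 1), x1, one_mul, two_cancel]
  all_goals try
    refine build 1 0 X (X + 1) h (mv f (mv a h)) c1 c0 cX cX' (seen h ph sh) (seen _ py2 sy2)
      (fun k _ => by rw [one_mul, zero_mul, add_zero]) fun k hk => ?_
    rw [ty2 k hk, mul_add, ← mul_assoc (X + 1), xx, ← mul_assoc (X + 1) X, x2, one_mul, two_cancel]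
  all_goals try
    refine build X (X + 1) 1 0 f (mv f h) cX cX' c1 c0 (seen f pf sf) (seen _ py sy)
      (fun k hk => ?_) fun k _ => by rw [one_mul, zero_mul, add_zero]
    rw [ty k hk, mul_add, ← mul_assoc (X + 1) X, x2, one_mul, ← mul_assoc (X + 1), xx,
      add_left_comm, two_self, add_zero]
  all_goals try
    refine build (X + 1) X 1 0 f (mv f (mv a h)) cX' cX c1 c0 (seen f pf sf) (seen _ py2 sy2)
      (fun k hk => ?_) fun k _ => by rw [one_mul, zero_mul, add_zero]
    rw [ty2 k hk, mul_add, ← mul_assoc X (X + 1), x1, one_mul, ← mul_assoc X X, hX,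
      add_left_comm, two_self, add_zero]
  all_goals try
    refine build X (X + 1) (X + 1) X (mv f h) (mv f (mv a h)) cX cX' cX' cX
      (seen _ py sy) (seen _ py2 sy2) (fun k hk => ?_) fun k hk => ?_
    · rw [ty k hk, ty2 k hk, mul_add, mul_add, ← mul_assoc X X, hX, ← mul_assoc X (X + 1), x1,
        ← mul_assoc (X + 1) (X + 1), xx, ← mul_assoc (X + 1) X, x2, one_mul]
      simp only [add_mul, one_mul, add_assoc, add_comm, add_left_comm, two_self, two_cancel,
        add_zero, zero_add]
    · rw [ty k hk, ty2 k hk, mul_add, mul_add, ← mul_assoc (X + 1) X, x2,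
        ← mul_assoc (X + 1) (X + 1), xx, ← mul_assoc X (X + 1), x1, ← mul_assoc X X, hX, one_mul]
      simp only [add_mul, one_mul, add_assoc, add_comm, add_left_comm, two_self, two_cancel,
        add_zero, zero_add]
  all_goals
    have eq : ∀ r, Four r → Sees r → ∀ q, Four q → Sees q → r = q := by
      rintro r (rfl | rfl | rfl | rfl) s₁ q (rfl | rfl | rfl | rfl) s₂ <;>
        first | rfl | contradiction
    refine lonely ?_ (eq r₁ hm₁ (Or.inr hc₁) r₀ hm₀ (Or.inl hc₀))
    intro k hk
    have vy : ¬ Sees (mv f h) → X * br X (lp a h k) + (X + 1) * br X (lp a f k) = 0 := fun hns => by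
      obtain ⟨z1, z2⟩ := unseen _ py hns
      rcases hk with rfl | rfl
      · rw [← ty _ hg, z1]
      · rw [← ty _ hg', z2]
    have vy2 : ¬ Sees (mv f (mv a h)) →
        (X + 1) * br X (lp a h k) + X * br X (lp a f k) = 0 := fun hns => by
      obtain ⟨z1, z2⟩ := unseen _ py2 hns
      rcases hk with rfl | rfl
      · rw [← ty2 _ hg, z1]
      · rw [← ty2 _ hg', z2]
    have vh : ¬ Sees h → br X (lp a h k) = 0 := fun hns => by
      rcases hk with rfl | rfl
      · exact (unseen _ ph hns).1
      · exact (unseen _ ph hns).2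
    have vf : ¬ Sees f → br X (lp a f k) = 0 := fun hns => by
      rcases hk with rfl | rfl
      · exact (unseen _ pf hns).1
      · exact (unseen _ pf hns).2
    first
      | exact ⟨vh sh, vf sf⟩
      | (have p := vh sh; have q := vy sy
         rw [p, mul_zero, zero_add] at q
         exact ⟨p, (semi_cancel hX).2.1 q⟩)
      | (have p := vf sf; have q := vy sy
         rw [p, mul_zero, add_zero] at q
         exact ⟨(semi_cancel hX).1.1 q, p⟩)

end

end Cfsg.Agent.Spor.UniqueClass
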