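import Cfsg.Agent.Lib.Spor.UniqueClassGlobal

/-!
The ring of loops at `a`, and what it says about a member of a second class.
-/

set_option autoImplicit false
set_option linter.unusedSimpArgs false
set_option linter.unusedSectionVars false

namespace Cfsg.Agent.Spor.UniqueClass

variable {M : Type*} [AddCommGroup M] [TwoGroup M] {T : Set (AddMonoid.End M)}
variable {a : AddMonoid.End M} (hT : Sys T) (ha : a ∈ T)
include hT ha

/-- the ring of loops -/
def loopRing (T : Set (AddMonoid.End M)) (a : AddMonoid.End M) : Subring (Corner a) :=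
  Subring.closure {v | ∃ g h, Nb T a g ∧ Nb T a h ∧ v = lp a g h}

theorem Plane.products {h f : AddMonoid.End M} (hP : Plane T a h f) {g₁ g₂ g₃ g₄ : AddMonoid.End M}
    (h₁ : Nb T a g₁) (h₂ : Nb T a g₂) (h₃ : Nb T a g₃) (h₄ : Nb T a g₄) :
    br (lp a h f) (lp a g₁ g₂) * br (lp a h f) (lp a g₃ g₄) = 0 ∧
      br (lp a h f) (lp a g₃ g₄) * br (lp a h f) (lp a g₁ g₂) = 0 := by
  have hX := hP.cub
  obtain ⟨ph, pf, py, py2⟩ := hP.pts hT ha
  have hP' := hP.flip hT ha
  obtain ⟨gZ, hKill⟩ := hP.loops hT ha h₁ h₂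
  set X := lp a h f with hXdef
  set B := br X (lp a g₁ g₂) with hB
  have sB : B * X = (X + 1) * B := br_conj hX _
  obtain ⟨r, hr, hc⟩ : ∃ r, Pt T a h f r ∧ lp a r g₃ * lp a r g₃ = lp a r g₃ + 1 := by
    rcases small_cases (lp_small hT ha hP.hh h₃) with e | e
    swap
    · exact ⟨h, ph, e⟩
    rcases small_cases (lp_small hT ha hP.hf h₃) with d | d
    swap
    · exact ⟨f, pf, d⟩
    by_cases hde : lp a f g₃ = lp a h g₃
    · refine ⟨mv f (mv a h), py2, ?_⟩
      rw [lp_third_left hT ha hP'.hf hP'.hh hP'.cub, lp_flip_left hT ha hP.hh hP.hf, ← hXdef,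
        succ_succ, lp_flip_left hT ha hP.hh h₃, hde]
      rcases e with e | e <;> rw [e]
      · rw [zero_add, mul_one, mul_zero, add_zero]; exact cube_succ hX
      · rw [two_self, mul_zero, zero_add, mul_one]; exact hX
    · refine ⟨mv f h, py, ?_⟩
      rw [lp_third_left hT ha hP.hf hP.hh hX]
      rcases e with e | e <;> rcases d with d | d <;> rw [e, d] at hde ⊢
      · exact absurd rfl hde
      · rw [mul_zero, zero_add, mul_one]; exact cube_succ hX
      · rw [mul_one, mul_zero, add_zero]; exact hX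
      · exact absurd rfl hde
  obtain ⟨e, k, m, he, hk, hm, hb, km, mk, hG, -⟩ := hP.split hT ha hr h₃ h₄ hc
  obtain ⟨u, w, hu, hw, hco, hgood⟩ := hr.co
  have kB : k * B = 0 ∧ B * k = 0 := by
    obtain ⟨p1, p2, p3, p4⟩ := hKill g₃ h₃
    rw [hk, hco g₃ h₃]
    refine ⟨?_, ?_⟩
    · rw [add_mul, mul_assoc, p2, mul_assoc, p4, mul_zero, mul_zero, add_zero]
    · rw [mul_add, kill_left sB hu p1, kill_left sB hw p3, add_zero]
  have hQ : Plane T a r g₃ := ⟨hr.nb, h₃, hc⟩
  obtain ⟨-, hKill'⟩ := hQ.loops hT ha h₁ h₂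
  obtain ⟨-, -, q3, q4⟩ := hKill' g₄ h₄
  rw [← hm] at q3 q4
  set v := lp a r g₃ with hv
  have sk : k * X = (X + 1) * k := hk ▸ br_conj hX _
  have hkd : ∃ d : Corner a, (d = 0 ∨ d = 1) ∧ br v (lp a g₁ g₂) = B + d * k := by
    obtain ⟨c', hc1, hc2, hc3⟩ := semi_scalar sk gZ.1
    refine ⟨lp a g₁ g₂ + B + c', hc3, ?_⟩
    have ev : v = (v + k) + k := by rw [add_assoc, two_self, add_zero]
    have evs : Scalar X (v + k) := by rw [hk]; exact (hgood g₃ h₃).1
    have eZ : lp a g₁ g₂ = (lp a g₁ g₂ + B) + B := by rw [add_assoc, two_self, add_zero]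
    have hcomm : B = lp a g₁ g₂ * (v + k) + (v + k) * lp a g₁ g₂ := by
      rcases evs with r' | r' | r' | r'
      · exfalso
        have e' : v = k := two_add_eq.2 r'
        have hkk : k * k = 0 := hk ▸ (hgood g₃ h₃).2
        rw [e', hkk] at hc
        have : k = 1 := two_add_eq.2 hc.symm
        rw [this, one_mul] at hkk
        exact corner_nontrivial (hT.nz a ha) hkk
      · exfalso
        have e' : v = 1 + k := two_eq_add r'
        have hkk : k * k = 0 := hk ▸ (hgood g₃ h₃).2
        rw [e'] at hc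
        have h11 : (1 + k) * (1 + k) = 1 := by
          rw [mul_add, add_mul, add_mul, hkk, one_mul, mul_one, one_mul, add_zero, add_assoc,
            two_self, add_zero]
        rw [h11] at hc
        have : k = 1 := by
          have h2 : (1 : Corner a) + 1 = 1 + k + 1 + 1 := by rw [← hc]
          rw [succ_succ, two_self] at h2
          exact (two_add_eq.2 h2.symm).symm
        rw [this, one_mul] at hkk
        exact corner_nontrivial (hT.nz a ha) hkk
      · rw [r']; rfl
      · rw [r', hB, ← br_succ X]; rfl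
    calc br v (lp a g₁ g₂) = (lp a g₁ g₂ * (v + k) + (v + k) * lp a g₁ g₂) +
          (lp a g₁ g₂ * k + k * lp a g₁ g₂) := by
          conv_lhs => rw [br, ev, mul_add, add_mul]
          abel
      _ = B + (lp a g₁ g₂ * k + k * lp a g₁ g₂) := by rw [← hcomm]
      _ = _ := by
          congr 1
          conv_lhs => rw [eZ]
          rw [add_mul, mul_add, hc2, kB.1, kB.2, add_zero, add_zero,
            add_mul (lp a g₁ g₂ + B) c' k]
  obtain ⟨d, hd, hbv⟩ := hkd
  rw [hbv] at q3 q4
  have q3' : B * m = 0 := by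
    rw [add_mul, mul_assoc, km, mul_zero, add_zero] at q3; exact q3
  have q4' : m * B = 0 := by
    rcases hd with r' | r' <;> rw [r'] at q4
    · rwa [zero_mul, add_zero] at q4
    · rwa [one_mul, mul_add, mk, add_zero] at q4
  rw [hb]
  rcases he with r' | r' <;> simp only [r', zero_mul, one_mul, zero_add]
  · exact ⟨q3', q4'⟩
  · rw [mul_add, add_mul, q3', q4', kB.1, kB.2, add_zero]
    exact ⟨rfl, rfl⟩

/-- An involution of the ring of loops differs from one by something that sandwiches to zero. -/
theorem loopRing_involution {m : Corner a} (hm : m ∈ loopRing T a) (h2 : m * m = 1) {v : Corner a}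
    (hv : v ∈ loopRing T a) : (m + 1) * v * (m + 1) = 0 := by
  have h1 := corner_nontrivial (hT.nz a ha)
  by_cases hex : ∃ h f, Plane T a h f
  · obtain ⟨h, f, hP⟩ := hex
    have hX := hP.cub
    set X := lp a h f with hXdef
    let Ann := fun n : Corner a => n * X = (X + 1) * n ∧ ∀ g g', Nb T a g → Nb T a g' →
      n * br X (lp a g g') = 0 ∧ br X (lp a g g') * n = 0
    let NN := fun n : Corner a => n * X = (X + 1) * n ∧ ∀ m, Ann m → n * m = 0 ∧ m * n = 0
    have base : ∀ g g', Nb T a g → Nb T a g' → Ann (br X (lp a g g')) :=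
      fun g g' hg hg' => ⟨br_conj hX _, fun k k' hk hk' => hP.products hT ha hg hg' hk hk'⟩
    have nnAnn : ∀ {n}, NN n → Ann n := fun {n} hn => ⟨hn.1, fun g g' hg hg' =>
      hn.2 _ (base g g' hg hg')⟩
    have nnMul : ∀ {n k}, NN n → NN k → n * k = 0 := fun hn hk => (hn.2 _ (nnAnn hk)).1
    have nnAdd : ∀ {n k}, NN n → NN k → NN (n + k) := fun {n k} hn hk => ⟨by
      rw [add_mul, hn.1, hk.1, mul_add], fun m hm => by
        rw [add_mul, mul_add, (hn.2 m hm).1, (hn.2 m hm).2, (hk.2 m hm).1, (hk.2 m hm).2, add_zero]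
        exact ⟨rfl, rfl⟩⟩
    have nnZero : NN 0 := ⟨by rw [zero_mul, mul_zero], fun m _ => ⟨zero_mul m, mul_zero m⟩⟩
    have nnSc : ∀ {c n}, Scalar X c → NN n → NN (c * n) := fun {c n} hc hn =>
      ⟨semi_mul (scalar_comm hc) hn.1, fun m hm =>
        ⟨by rw [mul_assoc, (hn.2 m hm).1, mul_zero], kill_left hm.1 hc (hn.2 m hm).2⟩⟩
    have key : ∀ x ∈ loopRing T a, ∃ s n, Scalar X s ∧ NN n ∧ x = s + n := by
      intro x hx
      refine Subring.closure_induction (p := fun x _ => ∃ s n, Scalar X s ∧ NN n ∧ x = s + n)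
        ?_ ?_ ?_ ?_ ?_ ?_ hx
      · rintro y ⟨g, g', hg, hg', rfl⟩
        refine ⟨_, br X (lp a g g'), (hP.loops hT ha hg hg').1.1, ⟨br_conj hX _, fun m hm => ?_⟩,
          by rw [add_assoc, two_self, add_zero]⟩
        exact ⟨(hm.2 g g' hg hg').2, (hm.2 g g' hg hg').1⟩
      · exact ⟨0, 0, Or.inl rfl, nnZero, (add_zero 0).symm⟩
      · exact ⟨1, 0, Or.inr (Or.inl rfl), nnZero, (add_zero 1).symm⟩
      · rintro x y _ _ ⟨s, n, hs, hn, rfl⟩ ⟨t, k, ht, hk, rfl⟩
        exact ⟨s + t, n + k, scalar_add hs ht, nnAdd hn hk, add_add_add_comm _ _ _ _⟩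
      · rintro x _ ⟨s, n, hs, hn, rfl⟩
        exact ⟨s, n, hs, hn, neg_eq_of_add_eq_zero_left (two_self _)⟩
      · rintro x y _ _ ⟨s, n, hs, hn, rfl⟩ ⟨t, k, ht, hk, rfl⟩
        obtain ⟨t', ht', e, -⟩ := semi_scalar hn.1 ht
        refine ⟨s * t, s * k + t' * n, scalar_mul hX hs ht, nnAdd (nnSc hs hk) (nnSc ht' hn), ?_⟩
        rw [mul_add, add_mul, add_mul, e, nnMul hn hk, add_zero]
        abel
    obtain ⟨s, n, hs, hn, rfl⟩ := key m hm
    obtain ⟨t, k, ht, hk, rfl⟩ := key v hv
    have hnn := nnMul hn hn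
    have s1 : s = 1 := by
      obtain ⟨x1, -⟩ := cube_inv hX
      rcases hs with r | r | r | r
      · rw [r, zero_add, hnn] at h2
        exact absurd h2.symm h1
      · exact r
      · exfalso
        rw [r, mul_add, add_mul, add_mul, hX, hn.1, hnn, add_mul X 1 n, one_mul] at h2
        have e : X + n = 0 := by
          rw [← two_self (1 : Corner a)]
          conv_rhs => arg 1; rw [← h2]
          simp only [add_assoc, add_comm, add_left_comm, two_self, two_cancel, add_zero, zero_add]
        rw [← two_add_eq] at e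
        rw [← e, hX] at hnn
        exact h1 (by
          have : X = 1 := two_add_eq.2 hnn
          have hh := hP.cub
          rw [← hXdef, this, mul_one, two_self] at hh
          exact hh)
      · exfalso
        have hsn : n * (X + 1) = X * n := semi_succ hn.1
        rw [r, mul_add, add_mul (X + 1) n (X + 1), add_mul (X + 1) n n, cube_succ hX, hsn, hnn,
          add_mul X 1 n, one_mul] at h2
        have e : X + 1 + n = 0 := by
          rw [← two_self (1 : Corner a)]
          conv_rhs => arg 1; rw [← h2]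
          simp only [add_assoc, add_comm, add_left_comm, two_self, two_cancel, add_zero, zero_add]
        rw [← two_add_eq] at e
        rw [← e, cube_succ hX, succ_succ] at hnn
        exact cube_ne_zero hX h1 hnn
    rw [s1, add_right_comm, two_self, zero_add]
    obtain ⟨t', -, e, -⟩ := semi_scalar hn.1 ht
    rw [mul_add, e, nnMul hn hk, add_zero, mul_assoc, hnn, mul_zero]
  · have key : ∀ x ∈ loopRing T a, x = 0 ∨ x = 1 := by
      intro x hx
      refine Subring.closure_induction (p := fun x _ => x = 0 ∨ x = 1) ?_ ?_ ?_ ?_ ?_ ?_ hx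
      · rintro y ⟨g, g', hg, hg', rfl⟩
        exact (small_cases (lp_small hT ha hg hg')).resolve_right
          fun e => hex ⟨g, g', hg, hg', e⟩
      · exact Or.inl rfl
      · exact Or.inr rfl
      · rintro x y _ _ (rfl | rfl) (rfl | rfl) <;> simp [two_self]
      · rintro x _ (rfl | rfl)
        · exact Or.inl neg_zero
        · exact Or.inr (neg_eq_of_add_eq_zero_left (two_self _))
      · rintro x y _ _ (rfl | rfl) (rfl | rfl) <;> simp
    rcases key m hm with r | r
    · rw [r, mul_zero] at h2
      exact absurd h2.symm h1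
    · rw [r, two_self, zero_mul, zero_mul]

/-- words in the class land in the ring of loops -/
theorem word_mem {φ : AddMonoid.End M} (hφ : φ ∈ Subring.closure T) :
    loc a φ ∈ loopRing T a ∧ ∀ z, Nb T a z → loc a (z * φ) ∈ loopRing T a := by
  let Pred := fun φ : AddMonoid.End M =>
    loc a φ ∈ loopRing T a ∧ ∀ z, Nb T a z → loc a (z * φ) ∈ loopRing T a
  have p1 : Pred 1 := ⟨by rw [loc_one (hT.sq a ha)]; exact zero_mem _,
    fun z hz => by rw [mul_one, hz.loc_one' hT ha]; exact one_mem _⟩
  have key : ∀ ψ ∈ Subring.closure T, ∀ χ, Pred χ → Pred (ψ * χ) := by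
    intro ψ hψ
    refine Subring.closure_induction (p := fun ψ _ => ∀ χ, Pred χ → Pred (ψ * χ))
      ?_ ?_ ?_ ?_ ?_ ?_ hψ
    · intro s hs χ hχ
      obtain ⟨h1, h2⟩ := hχ
      refine ⟨?_, fun z hz => ?_⟩
      · rcases hT.dich a ha s hs with ho | hadj
        · rw [loc_eq_zero (X := s * χ) (by rw [← mul_assoc a s, ho.1, zero_mul, zero_mul])]
          exact zero_mem _
        · exact h2 s ⟨hs, hadj⟩
      · rcases hT.dich a ha s hs with ho | hadj
        · rcases hT.dich z hz.1 s hs with hzo | hzadj
          · rw [← mul_assoc, hzo.1, zero_mul, loc_zero]; exact zero_mem _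
          · have hy : Nb T a (mv z s) := by
              refine ⟨hT.conj z hz.1 s hs, ?_⟩
              show a * mv z s * a = a
              have : a * z * a = a := hz.2
              rw [adj_expand hzadj]
              simp only [mul_add, add_mul, mul_assoc, ho.2, mul_zero, add_zero, zero_add]
              rw [← mul_assoc a s, ho.1, zero_mul]
              rw [zero_add, ← mul_assoc, this]
            have e : loc a (z * (s * χ)) = loc a (mv z s * χ) + loc a (z * χ) := by
              have : loc a (mv z s * χ) = loc a (z * (s * χ)) + loc a (z * χ) := by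
                rw [adj_expand hzadj, add_mul, add_mul, add_mul, loc_add, loc_add, loc_add]
                rw [loc_eq_zero (X := s * χ) (by rw [← mul_assoc a s, ho.1, zero_mul, zero_mul]),
                  loc_eq_zero (X := s * z * χ) (by
                    rw [← mul_assoc a (s * z), ← mul_assoc a s, ho.1, zero_mul, zero_mul,
                      zero_mul]),
                  zero_add, add_zero, mul_assoc]
              exact two_eq_add this.symm
            rw [e]
            exact add_mem (h2 _ hy) (h2 _ hz)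
        · have hs' : Nb T a s := ⟨hs, hadj⟩
          rw [← mul_assoc, lp_chain hT ha (hT.adj_symm ha hs hadj)]
          exact mul_mem (Subring.subset_closure ⟨z, s, hz, hs', rfl⟩) (h2 s hs')
    · intro χ _
      refine ⟨?_, fun z _ => ?_⟩
      · rw [zero_mul, loc_zero]; exact zero_mem _
      · rw [zero_mul, mul_zero, loc_zero]; exact zero_mem _
    · intro χ hχ; rwa [one_mul]
    · intro x y _ _ hx hy χ hχ
      rw [add_mul]
      exact ⟨by rw [loc_add]; exact add_mem (hx χ hχ).1 (hy χ hχ).1,
        fun z hz => by rw [mul_add, loc_add]; exact add_mem ((hx χ hχ).2 z hz) ((hy χ hχ).2 z hz)⟩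
    · intro x _ hx χ hχ
      rw [show -x = x from neg_eq_of_add_eq_zero_left (two_self x)]
      exact hx χ hχ
    · intro x y _ _ hx hy χ hχ
      rw [mul_assoc]
      exact hx _ (hy χ hχ)
  have := key φ hφ 1 p1
  rwa [mul_one] at this

/-- the subgroup on which an exceptional member is trivial -/
theorem exceptional {c : AddMonoid.End M} (hc : c ∈ Subring.closure T)
    (h1 : a * c * a * c * a = a) (h2 : c * a * c * a * c = c) :
    ∃ U : AddSubgroup M, (∀ φ ∈ Subring.closure T, ∀ x ∈ U, φ x ∈ U) ∧
      (∀ x, (c + c * a * c) x ∈ U) ∧ ∀ x ∈ U, (c + c * a * c) x = 0 := by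
  have hm : loc a c ∈ loopRing T a := (word_mem hT ha hc).1
  have hmm : loc a c * loc a c = 1 := by
    rw [loc_mul]
    refine loc_eq_one ?_
    simpa only [← mul_assoc] using h1
  set n := loc a c + 1 with hn
  have hnv : ∀ u : img a, ((n u : img a) : M) = a (c (u : M)) + (u : M) := fun u => rfl
  let S : Set M := {x | ∃ φ ∈ Subring.closure T, ∃ u : img a, φ ((n u : img a) : M) = x}
  refine ⟨AddSubgroup.closure S, fun φ hφ x hx => ?_, fun x => ?_, fun x hx => ?_⟩
  · induction hx using AddSubgroup.closure_induction with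
    | mem y hy =>
      obtain ⟨ψ, hψ, u, rfl⟩ := hy
      exact AddSubgroup.subset_closure ⟨φ * ψ, mul_mem hφ hψ, u, rfl⟩
    | zero => rw [map_zero]; exact zero_mem _
    | add y z _ _ hy hz => rw [map_add]; exact add_mem hy hz
    | neg y _ hy => rw [map_neg]; exact neg_mem hy
  · refine AddSubgroup.subset_closure ⟨c, hc, ⟨a (c x), ⟨c x, rfl⟩⟩, ?_⟩
    rw [hnv, map_add]
    have e : c (a (c (a (c x)))) = c x := congrArg (fun f : AddMonoid.End M => f x) h2
    show c (a (c (a (c x)))) + c (a (c x)) = c x + c (a (c x))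
    rw [e]
  · induction hx using AddSubgroup.closure_induction with
    | mem y hy =>
      obtain ⟨φ, hφ, u, rfl⟩ := hy
      set w := n u
      have hL := (word_mem hT ha (mul_mem hc hφ)).1
      have hkill : n * loc a (c * φ) * n = 0 := loopRing_involution hT ha hm hmm hL
      have h0 : ((n (loc a (c * φ) w) : img a) : M) = 0 :=
        congrArg Subtype.val (congrArg (fun f : Corner a => f u) hkill)
      rw [hnv, loc_apply] at h0
      set x := φ ((w : img a) : M) with hx
      change a (c (a (c x))) + a (c x) = 0 at h0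
      show c x + c (a (c x)) = 0
      have e : c (a (c (a (c x)))) = c x := congrArg (fun f : AddMonoid.End M => f x) h2
      calc c x + c (a (c x)) = c (a (c (a (c x)))) + c (a (c x)) := by rw [e]
        _ = 0 := by rw [← map_add, h0, map_zero]
    | zero => rw [map_zero]
    | add y z _ _ hy hz => rw [map_add, hy, hz, add_zero]
    | neg y _ hy => rw [map_neg, hy, neg_zero]

end Cfsg.Agent.Spor.UniqueClass
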