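import Cfsg.Agent.Lib.Spor.UniqueClassSys

/-!
A section over the class: two classes with the same image are equal.
-/

set_option autoImplicit false
set_option linter.unusedSimpArgs false
set_option linter.unusedSectionVars false

namespace Cfsg.Agent.Spor.UniqueClass

variable {M : Type*} [AddCommGroup M] [TwoGroup M] {T : Set (AddMonoid.End M)}
variable (hT : Sys T)
include hT

theorem app_sq {a : AddMonoid.End M} (ha : a ∈ T) (x : M) : a (a x) = 0 :=
  congrArg (fun f : AddMonoid.End M => f x) (hT.sq a ha)

theorem disjoint_orth {a h : AddMonoid.End M} (ha : a ∈ T) (hh : h ∈ T) (ho : Orth a h) (hne : h ≠ a)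
    {x y : M} (e : a x = h y) : a x = 0 := by
  by_contra hx
  apply hne
  refine hT.sep h hh a ha fun s hs hos => ?_
  refine (hT.dich a ha s hs).resolve_right fun hadj => hx ?_
  have h1 : a (s (a x)) = a x := congrArg (fun f : AddMonoid.End M => f x) hadj
  have h2 : s (h y) = 0 := congrArg (fun f : AddMonoid.End M => f y) hos.2
  rw [← h1, e, h2, map_zero]

/-- The only section with these properties is the trivial one. -/
theorem section_trivial (Lift : AddMonoid.End M → M → Prop)
    (l1 : ∀ a ∈ T, ∃ v, Lift a v) (l2 : ∀ a ∈ T, ∀ v, Lift a v → a v = 0)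
    (l3 : ∀ a ∈ T, ∀ b ∈ T, ∀ v w, Lift a v → Lift b w → Orth a b → b v = a w)
    (l4 : ∀ a ∈ T, ∀ b ∈ T, ∀ v w, Lift a v → Lift b w → Adj a b →
      (1 + a * b + b * a) (v + w) = 0)
    (hz : ∀ x, (∀ h ∈ T, h x = 0) → x = 0)
    {a : AddMonoid.End M} (ha : a ∈ T) {v : M} (hv : Lift a v) : ∃ x, a x = v := by
  have hav := l2 a ha v hv
  by_cases hex : ∃ b ∈ T, Adj a b
  swap
  · refine ⟨0, ?_⟩
    rw [map_zero]
    refine (hz v fun h hh => ?_).symm
    have : h = a := by
      refine hT.sep h hh a ha fun s hs _ => (hT.dich a ha s hs).resolve_right fun e => hex ⟨s, hs, e⟩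
    rw [this, hav]
  obtain ⟨b, hb, hab⟩ := hex
  obtain ⟨v', hv'⟩ := l1 b hb
  have hbv' := l2 b hb v' hv'
  have hba := hT.adj_symm ha hb hab
  have tw : ∀ x : M, x + x = 0 := TwoGroup.two
  have eq : ∀ c d : M, c + d = 0 → c = d := fun c d h => by
    rw [eq_neg_of_add_eq_zero_left h]; exact neg_eq_of_add_eq_zero_left (tw d)
  -- the meeting value of two members
  have meet : ∀ c ∈ T, ∀ d ∈ T, ∀ p q, Lift c p → Lift d q → Adj c d →
      p + c (d p) = q + d (c q) := by
    intro c hc d hd p q hp hq hcd
    have h := l4 c hc d hd p q hp hq hcd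
    change p + q + c (d (p + q)) + d (c (p + q)) = 0 at h
    rw [map_add d, map_add c p q, l2 c hc p hp, l2 d hd q hq, zero_add, add_zero] at h
    refine eq _ _ ?_
    rw [← h]; abel
  set w := v + a (b v) with hw
  have hw' : w = v' + b (a v') := meet a ha b hb v v' hv hv' hab
  have haw : a w = 0 := by rw [hw, map_add, hav, app_sq hT ha, add_zero]
  have hbw : b w = 0 := by rw [hw', map_add, hbv', app_sq hT hb, add_zero]
  have side : ∀ c ∈ T, ∀ p, Lift c p → ∀ d, w = p + c d → c w = 0 → ∀ h ∈ T, Orth c h → h w = 0 := by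
    intro c hc p hp d hwp hcw h hh ho
    by_cases hne : h = c
    · rw [hne]; exact hcw
    obtain ⟨q, hq⟩ := l1 h hh
    have e0 : h (c d) = 0 := congrArg (fun f : AddMonoid.End M => f d) ho.2
    rw [hwp, map_add, e0, add_zero]
    have e := l3 c hc h hh p q hp hq ho
    rw [e]
    exact disjoint_orth hT hc hh ho hne e.symm
  have ka : ∀ h ∈ T, Orth a h → h w = 0 := side a ha v hv (b v) hw haw
  have kb : ∀ h ∈ T, Orth b h → h w = 0 := side b hb v' hv' (a v') hw' hbw
  refine ⟨b v, (eq _ _ ?_).symm⟩
  rw [← hw]
  refine hz w fun h hh => ?_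
  rcases hT.dich a ha h hh with ho | hah
  · exact ka h hh ho
  rcases hT.dich b hb h hh with ho | hbh
  · exact kb h hh ho
  have hy : mv b h ∈ T := hT.conj b hb h hh
  rcases hT.dich a ha _ hy with ho | hay
  · have hyw := ka _ hy ho
    have e : mv b h w = (h w + b (h w)) + (h (b w) + b (h (b w))) := by
      clear_value w
      show (1 + b) (h ((1 + b) w)) = _
      show h (w + b w) + b (h (w + b w)) = _
      rw [map_add h, map_add b]; abel
    rw [e, hbw, map_zero, map_zero, add_zero, add_zero] at hyw
    have h1 := eq _ _ hyw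
    rw [h1]
    have h2 : b (h w) = 0 := by rw [h1]; exact app_sq hT hb _
    exact h2
  · have hN : Nb T a b := ⟨hb, hab⟩
    have hH : Nb T a h := ⟨hh, hah⟩
    have hhb := hT.adj_symm hb hh hbh
    have hha := hT.adj_symm ha hh hah
    have loop : lp a b h + lp a h b = 1 := by
      have e := (Nb.loc_one' hT ha (g := mv b h) ⟨hy, hay⟩)
      rw [adj_expand hbh, loc_add, loc_add, loc_add, hH.loc_one' hT ha, hN.loc_one' hT ha] at e
      rw [← e, lp, lp]
      simp only [add_assoc, add_comm, add_left_comm, two_self, two_cancel, add_zero, zero_add]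
    obtain ⟨q, hq⟩ := l1 h hh
    have ap : ∀ (c d : AddMonoid.End M) (x : M), Adj c d → c (d (c x)) = c x := fun c d x hcd =>
      congrArg (fun f : AddMonoid.End M => f x) hcd
    have m1 := meet a ha h hh v q hv hq hah
    have m2 := meet b hb h hh v' q hv' hq hbh
    have hz1 : h (v + a (h v)) = 0 := by
      rw [m1, map_add, l2 h hh q hq, app_sq hT hh, add_zero]
    -- the three differences
    have tri : a (h v + b v) + b (h v' + a v') = h (a q + b q) := by
      refine eq _ _ ?_
      have z : (v + a (b v)) + (v' + b (a v')) = 0 := by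
        rw [← hw, ← hw', tw]
      have z1 : (v + a (h v)) + (q + h (a q)) = 0 := by rw [m1, tw]
      have z2 : (v' + b (h v')) + (q + h (b q)) = 0 := by rw [m2, tw]
      calc a (h v + b v) + b (h v' + a v') + h (a q + b q)
          = a (h v + b v) + b (h v' + a v') + h (a q + b q) + ((v + v) + (v' + v') + (q + q)) := by
            rw [tw v, tw v', tw q, add_zero, add_zero, add_zero]
        _ = ((v + a (b v)) + (v' + b (a v'))) + ((v + a (h v)) + (q + h (a q)))
              + ((v' + b (h v')) + (q + h (b q))) := by
            simp only [map_add]; abel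
        _ = 0 := by rw [z, z1, z2, add_zero, add_zero]
    set α := a (h v + b v) with hα
    set r := h v' + a v' with hr
    set s := a q + b q with hs
    have hb0 : b r = b (a (b r)) := (ap b a r hba).symm
    have hh0 : h s = h (a (h s)) := (ap h a s hha).symm
    set β := a (b r) with hβ
    set η := a (h s) with hη
    rw [hb0, hh0] at tri
    have t1 : β = η := by
      have := congrArg (fun x => a x) tri
      simp only [map_add] at this
      rw [hα, app_sq hT ha, zero_add, hβ, hη, ap a b _ hab, ap a h _ hah] at this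
      exact this
    rw [← t1] at tri
    have t2 : α = a (b (h β)) := by
      have := congrArg (fun x => a (b x)) tri
      simp only [map_add] at this
      rw [hα, ap a b _ hab, app_sq hT hb, map_zero, add_zero] at this
      rw [hα]
      exact this
    have t3 : α + a (h (b β)) = 0 := by
      have := congrArg (fun x => a (h x)) tri
      simp only [map_add] at this
      rw [hα, ap a h _ hah, app_sq hT hh, map_zero] at this
      rw [hα]
      exact this
    have b0 : β = 0 := by
      rw [t2] at t3
      have := congrArg Subtype.val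
        (congrArg (fun f : Corner a => f ⟨β, ⟨b r, rfl⟩⟩) loop)
      change a (b (h β)) + a (h (b β)) = β at this
      rw [← this, t3]
    have a0 : α = 0 := by rw [t2, b0, map_zero, map_zero, map_zero]
    have e : w = (v + a (h v)) + α := by
      rw [hw, hα, map_add]
      calc v + a (b v) = v + a (b v) + (a (h v) + a (h v)) := by rw [tw, add_zero]
        _ = _ := by abel
    rw [e, a0, add_zero]; exact hz1

end Cfsg.Agent.Spor.UniqueClass
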